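import Mathlib
import Cfsg.Prelude.Def_LieExceptional

/-!
Theory of (B,N)-pairs at the level of representatives, for the statements S0309–S0322.
Everything lives in the namespace `Cfsg.Agent.Lib.Helper1_BN`.
-/

set_option autoImplicit false

namespace Cfsg.Agent.Lib.Helper1_BN

variable {G : Type*} [Group G]

/-- a (B,N)-pair without the requirement that `B` and `N` generate `G` -/
structure Pre (G : Type*) [Group G] where
  B : Subgroup G
  N : Subgroup G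
  S : Set G
  conj_mem : ∀ n ∈ N, ∀ t ∈ B ⊓ N, n * t * n⁻¹ ∈ B
  subset : S ⊆ (N : Set G)
  sq_mem : ∀ s ∈ S, s * s ∈ B
  inj : ∀ s ∈ S, ∀ s' ∈ S, s⁻¹ * s' ∈ B → s = s'
  closure_sup : Subgroup.closure S ⊔ (B ⊓ N) = N
  mul_mem_union : ∀ s ∈ S, ∀ n ∈ N, ∀ b ∈ B,
    s * b * n ∈ DoubleCoset.doubleCoset (s * n) (B : Set G) B ∪ DoubleCoset.doubleCoset n (B : Set G) B
  conj_ne : ∀ s ∈ S, (fun b : G => s * b * s) '' (B : Set G) ≠ (B : Set G)

/-- the `Pre` of a `BNPair` -/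
def ofBN (P : Cfsg.BNPair G) : Pre G where
  B := P.B
  N := P.N
  S := P.S
  conj_mem := P.conj_mem
  subset := P.subset
  sq_mem := P.sq_mem
  inj := P.inj
  closure_sup := P.closure_sup
  mul_mem_union := P.mul_mem_union
  conj_ne := P.conj_ne

namespace Pre

variable (Q : Pre G)

/-- `y ∈ B x B` -/
def R (x y : G) : Prop := ∃ b1 ∈ Q.B, ∃ b2 ∈ Q.B, y = b1 * x * b2

theorem R_iff_mem (x y : G) : Q.R x y ↔ y ∈ DoubleCoset.doubleCoset x (Q.B : Set G) Q.B := by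
  rw [DoubleCoset.mem_doubleCoset]; rfl

theorem R_refl (x : G) : Q.R x x := ⟨1, Q.B.one_mem, 1, Q.B.one_mem, by group⟩

theorem R_symm {x y : G} (h : Q.R x y) : Q.R y x := by
  obtain ⟨b1, h1, b2, h2, rfl⟩ := h
  exact ⟨b1⁻¹, Q.B.inv_mem h1, b2⁻¹, Q.B.inv_mem h2, by group⟩

theorem R_trans {x y z : G} (h : Q.R x y) (h' : Q.R y z) : Q.R x z := by
  obtain ⟨b1, h1, b2, h2, rfl⟩ := h
  obtain ⟨c1, k1, c2, k2, rfl⟩ := h'
  exact ⟨c1 * b1, Q.B.mul_mem k1 h1, b2 * c2, Q.B.mul_mem h2 k2, by group⟩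

theorem R_inv {x y : G} (h : Q.R x y) : Q.R x⁻¹ y⁻¹ := by
  obtain ⟨b1, h1, b2, h2, rfl⟩ := h
  exact ⟨b2⁻¹, Q.B.inv_mem h2, b1⁻¹, Q.B.inv_mem h1, by group⟩

theorem R_mul_left {x : G} {b : G} (hb : b ∈ Q.B) : Q.R x (b * x) :=
  ⟨b, hb, 1, Q.B.one_mem, by group⟩

theorem R_mul_right {x : G} {b : G} (hb : b ∈ Q.B) : Q.R x (x * b) :=
  ⟨1, Q.B.one_mem, b, hb, by group⟩

theorem R_of_inv_mul {x y : G} (h : x⁻¹ * y ∈ Q.B) : Q.R x y :=
  ⟨1, Q.B.one_mem, x⁻¹ * y, h, by group⟩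

theorem R_mem_B {x y : G} (h : Q.R x y) (hx : x ∈ Q.B) : y ∈ Q.B := by
  obtain ⟨b1, h1, b2, h2, rfl⟩ := h
  exact Q.B.mul_mem (Q.B.mul_mem h1 hx) h2

theorem doubleCoset_eq_iff (x y : G) :
    DoubleCoset.doubleCoset x (Q.B : Set G) Q.B = DoubleCoset.doubleCoset y (Q.B : Set G) Q.B ↔
      Q.R x y := by
  constructor
  · intro h
    rw [R_iff_mem, h]
    exact DoubleCoset.mem_doubleCoset_self _ _ _
  · intro h
    rw [R_iff_mem] at h
    exact (DoubleCoset.doubleCoset_eq_of_mem h).symm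

/-- `T = B ⊓ N` -/
def T : Subgroup G := Q.B ⊓ Q.N

theorem T_le_B : Q.T ≤ Q.B := inf_le_left
theorem T_le_N : Q.T ≤ Q.N := inf_le_right

theorem S_mem_N {s : G} (hs : s ∈ Q.S) : s ∈ Q.N := Q.subset hs

theorem sq_mem_T {s : G} (hs : s ∈ Q.S) : s * s ∈ Q.T :=
  ⟨Q.sq_mem s hs, Q.N.mul_mem (Q.S_mem_N hs) (Q.S_mem_N hs)⟩

theorem conj_mem_T {n t : G} (hn : n ∈ Q.N) (ht : t ∈ Q.T) : n * t * n⁻¹ ∈ Q.T :=
  ⟨Q.conj_mem n hn t ht, Q.N.mul_mem (Q.N.mul_mem hn ht.2) (Q.N.inv_mem hn)⟩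

theorem conj_mem_T' {n t : G} (hn : n ∈ Q.N) (ht : t ∈ Q.T) : n⁻¹ * t * n ∈ Q.T := by
  have := Q.conj_mem_T (Q.N.inv_mem hn) ht
  rwa [inv_inv] at this

/-- an element of `S` does not lie in `B` -/
theorem S_not_mem_B {s : G} (hs : s ∈ Q.S) : s ∉ Q.B := by
  intro hsB
  apply Q.conj_ne s hs
  ext x
  constructor
  · rintro ⟨b, hb, rfl⟩
    exact Q.B.mul_mem (Q.B.mul_mem hsB hb) hsB
  · intro hx
    refine ⟨s⁻¹ * x * s⁻¹, ?_, by group⟩
    exact Q.B.mul_mem (Q.B.mul_mem (Q.B.inv_mem hsB) hx) (Q.B.inv_mem hsB)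

/-- there is `b ∈ B` with `s b s ∉ B` -/
theorem exists_conj_not_mem {s : G} (hs : s ∈ Q.S) : ∃ b ∈ Q.B, s * b * s ∉ Q.B := by
  by_contra hcon
  push Not at hcon
  apply Q.conj_ne s hs
  ext x
  constructor
  · rintro ⟨b, hb, rfl⟩
    exact hcon b hb
  · intro hx
    -- x = s * (s⁻¹ x s⁻¹) * s and s⁻¹ x s⁻¹ = (ss)⁻¹ (s x s) (ss)⁻¹ ∈ B
    refine ⟨s⁻¹ * x * s⁻¹, ?_, by group⟩
    have h1 : s⁻¹ * x * s⁻¹ = (s * s)⁻¹ * (s * x * s) * (s * s)⁻¹ := by group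
    rw [h1]
    exact Q.B.mul_mem (Q.B.mul_mem (Q.B.inv_mem (Q.sq_mem s hs)) (hcon x hx))
      (Q.B.inv_mem (Q.sq_mem s hs))

/-- axiom in `R` form -/
theorem R_axiom {s n b : G} (hs : s ∈ Q.S) (hn : n ∈ Q.N) (hb : b ∈ Q.B) :
    Q.R (s * n) (s * b * n) ∨ Q.R n (s * b * n) := by
  rcases Q.mul_mem_union s hs n hn b hb with h | h
  · left; rwa [R_iff_mem]
  · right; rwa [R_iff_mem]

/-- axiom for `s⁻¹` -/
theorem R_axiom_inv {s n b : G} (hs : s ∈ Q.S) (hn : n ∈ Q.N) (hb : b ∈ Q.B) :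
    Q.R (s * n) (s⁻¹ * b * n) ∨ Q.R n (s⁻¹ * b * n) := by
  have h1 : s⁻¹ * b * n = (s * s)⁻¹ * (s * b * n) := by group
  rw [h1]
  rcases Q.R_axiom hs hn hb with h | h
  · left; exact Q.R_trans h (Q.R_mul_left (Q.B.inv_mem (Q.sq_mem s hs)))
  · right; exact Q.R_trans h (Q.R_mul_left (Q.B.inv_mem (Q.sq_mem s hs)))

/-- right-handed axiom -/
theorem R_axiom_right {s n b : G} (hs : s ∈ Q.S) (hn : n ∈ Q.N) (hb : b ∈ Q.B) :
    Q.R (n * s) (n * b * s) ∨ Q.R n (n * b * s) := by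
  -- invert: (n b s)⁻¹ = s⁻¹ b⁻¹ n⁻¹
  have h := Q.R_axiom_inv hs (Q.N.inv_mem hn) (Q.B.inv_mem hb)
  have e1 : (s⁻¹ * b⁻¹ * n⁻¹)⁻¹ = n * b * s := by group
  rcases h with h | h
  · left
    have := Q.R_inv h
    rw [e1] at this
    -- (s * n⁻¹)⁻¹ = n * s⁻¹ = n * s * (s*s)⁻¹
    have e2 : (s * n⁻¹)⁻¹ = n * s * (s * s)⁻¹ := by group
    rw [e2] at this
    exact Q.R_trans (Q.R_mul_right (Q.B.inv_mem (Q.sq_mem s hs))) this
  · right
    have := Q.R_inv h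
    rwa [e1, inv_inv] at this

/-! ### words and length -/

/-- `L` is a word in `S` representing `n` modulo `B` -/
def Rep (n : G) (L : List G) : Prop := (∀ x ∈ L, x ∈ Q.S) ∧ n⁻¹ * L.prod ∈ Q.B

theorem prod_mem_N {L : List G} (hL : ∀ x ∈ L, x ∈ Q.S) : L.prod ∈ Q.N :=
  Q.N.list_prod_mem (fun x hx => Q.S_mem_N (hL x hx))

theorem Rep_prod {L : List G} (hL : ∀ x ∈ L, x ∈ Q.S) : Q.Rep L.prod L :=
  ⟨hL, by rw [inv_mul_cancel]; exact Q.B.one_mem⟩

theorem Rep_congr {n n' : G} {L : List G} (h : Q.Rep n L) (hnn : n⁻¹ * n' ∈ Q.B) : Q.Rep n' L := by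
  refine ⟨h.1, ?_⟩
  have : n'⁻¹ * L.prod = (n⁻¹ * n')⁻¹ * (n⁻¹ * L.prod) := by group
  rw [this]
  exact Q.B.mul_mem (Q.B.inv_mem hnn) h.2

theorem Rep_cons {n s : G} {L : List G} (h : Q.Rep n L) (hs : s ∈ Q.S) : Q.Rep (s * n) (s :: L) := by
  refine ⟨?_, ?_⟩
  · intro x hx
    rcases List.mem_cons.mp hx with rfl | hx
    · exact hs
    · exact h.1 x hx
  · rw [List.prod_cons]
    have : (s * n)⁻¹ * (s * L.prod) = n⁻¹ * L.prod := by group
    rw [this]; exact h.2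

/-- if `L` represents `s * n` then `s :: L` represents `n` -/
theorem Rep_cons' {n s : G} {L : List G} (h : Q.Rep (s * n) L) (hs : s ∈ Q.S) (hn : n ∈ Q.N) :
    Q.Rep n (s :: L) := by
  refine ⟨?_, ?_⟩
  · intro x hx
    rcases List.mem_cons.mp hx with rfl | hx
    · exact hs
    · exact h.1 x hx
  · rw [List.prod_cons]
    have : n⁻¹ * (s * L.prod) = (n⁻¹ * (s * s) * n) * ((s * n)⁻¹ * L.prod) := by group
    rw [this]
    exact Q.B.mul_mem (Q.T_le_B (Q.conj_mem_T' hn (Q.sq_mem_T hs))) h.2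

/-- the set of elements of `N` having a representing word -/
theorem exists_Rep {n : G} (hn : n ∈ Q.N) : ∃ L, Q.Rep n L := by
  -- closure induction on N = closure (S ∪ T)
  have hN : Q.N = Subgroup.closure (Q.S ∪ (Q.T : Set G)) := by
    rw [Subgroup.closure_union, Subgroup.closure_eq]
    exact Q.closure_sup.symm
  -- predicate: left multiplication by g and g⁻¹ preserves representability (for elements of N)
  have key : ∀ g ∈ Subgroup.closure (Q.S ∪ (Q.T : Set G)),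
      (∀ m ∈ Q.N, (∃ L, Q.Rep m L) → ∃ L, Q.Rep (g * m) L) := by
    intro g hg
    induction hg using Subgroup.closure_induction'' with
    | one => intro m _ h; rwa [one_mul]
    | mem x hx =>
      intro m hm h
      obtain ⟨L, hL⟩ := h
      rcases hx with hx | hx
      · exact ⟨x :: L, Q.Rep_cons hL hx⟩
      · refine ⟨L, Q.Rep_congr hL ?_⟩
        have : m⁻¹ * (x * m) = m⁻¹ * x * m := by group
        rw [this]
        exact Q.T_le_B (Q.conj_mem_T' hm hx)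
    | inv_mem x hx =>
      intro m hm h
      obtain ⟨L, hL⟩ := h
      rcases hx with hx | hx
      · -- x⁻¹ * m  ≡ x * m  modulo T on the left
        refine ⟨x :: L, Q.Rep_congr (Q.Rep_cons hL hx) ?_⟩
        have : (x * m)⁻¹ * (x⁻¹ * m) = m⁻¹ * (x * x)⁻¹ * m := by group
        rw [this]
        exact Q.T_le_B (Q.conj_mem_T' hm (Q.T.inv_mem (Q.sq_mem_T hx)))
      · refine ⟨L, Q.Rep_congr hL ?_⟩
        have : m⁻¹ * (x⁻¹ * m) = m⁻¹ * x⁻¹ * m := by group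
        rw [this]
        exact Q.T_le_B (Q.conj_mem_T' hm (Q.T.inv_mem hx))
    | mul x y hx hy ihx ihy =>
      intro m hm h
      rw [mul_assoc]
      have hyN : y ∈ Q.N := by rw [hN]; exact hy
      exact ihx (y * m) (Q.N.mul_mem hyN hm) (ihy m hm h)
  have h1 : ∃ L, Q.Rep (1 : G) L := ⟨[], by simp [Rep, Q.B.one_mem]⟩
  have := key n (hN ▸ hn) 1 Q.N.one_mem h1
  rwa [mul_one] at this

/-- the length of `n ∈ N` with respect to `S` -/
noncomputable def len (n : G) : ℕ := sInf {k | ∃ L, Q.Rep n L ∧ L.length = k}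

theorem exists_Rep_len {n : G} (hn : n ∈ Q.N) : ∃ L, Q.Rep n L ∧ L.length = Q.len n := by
  have hne : {k | ∃ L, Q.Rep n L ∧ L.length = k}.Nonempty := by
    obtain ⟨L, hL⟩ := Q.exists_Rep hn
    exact ⟨L.length, L, hL, rfl⟩
  exact Nat.sInf_mem hne

theorem len_le {n : G} {L : List G} (h : Q.Rep n L) : Q.len n ≤ L.length :=
  Nat.sInf_le ⟨L, h, rfl⟩

theorem len_congr {n n' : G} (hn : n ∈ Q.N) (hn' : n' ∈ Q.N) (h : n⁻¹ * n' ∈ Q.B) :
    Q.len n = Q.len n' := by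
  apply le_antisymm
  · obtain ⟨L, hL, hlen⟩ := Q.exists_Rep_len hn'
    rw [← hlen]
    apply Q.len_le
    apply Q.Rep_congr hL
    have : n'⁻¹ * n = (n⁻¹ * n')⁻¹ := by group
    rw [this]; exact Q.B.inv_mem h
  · obtain ⟨L, hL, hlen⟩ := Q.exists_Rep_len hn
    rw [← hlen]
    exact Q.len_le (Q.Rep_congr hL h)

theorem len_eq_zero_iff {n : G} (hn : n ∈ Q.N) : Q.len n = 0 ↔ n ∈ Q.B := by
  constructor
  · intro h
    obtain ⟨L, hL, hlen⟩ := Q.exists_Rep_len hn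
    rw [h, List.length_eq_zero_iff] at hlen
    subst hlen
    have := hL.2
    rw [List.prod_nil, mul_one] at this
    have h2 := Q.B.inv_mem this
    rwa [inv_inv] at h2
  · intro h
    have : Q.Rep n [] := ⟨by simp, by rw [List.prod_nil, mul_one]; exact Q.B.inv_mem h⟩
    have := Q.len_le this
    simpa using this

theorem len_mul_le {n s : G} (hs : s ∈ Q.S) (hn : n ∈ Q.N) : Q.len (s * n) ≤ Q.len n + 1 := by
  obtain ⟨L, hL, hlen⟩ := Q.exists_Rep_len hn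
  have := Q.len_le (Q.Rep_cons hL hs)
  rw [List.length_cons, hlen] at this
  exact this

theorem len_le_mul {n s : G} (hs : s ∈ Q.S) (hn : n ∈ Q.N) : Q.len n ≤ Q.len (s * n) + 1 := by
  obtain ⟨L, hL, hlen⟩ := Q.exists_Rep_len (Q.N.mul_mem (Q.S_mem_N hs) hn)
  have := Q.len_le (Q.Rep_cons' hL hs hn)
  rw [List.length_cons, hlen] at this
  exact this

/-- decomposition of an element of positive length -/
theorem exists_decomp {n : G} {k : ℕ} (hn : n ∈ Q.N) (hk : Q.len n = k + 1) :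
    ∃ s ∈ Q.S, ∃ n' ∈ Q.N, Q.len n' = k ∧ n⁻¹ * (s * n') ∈ Q.B := by
  obtain ⟨L, hL, hlen⟩ := Q.exists_Rep_len hn
  rw [hk] at hlen
  match L, hL, hlen with
  | s :: L', hL, hlen =>
    have hs : s ∈ Q.S := hL.1 s (List.mem_cons_self)
    have hL' : ∀ x ∈ L', x ∈ Q.S := fun x hx => hL.1 x (List.mem_cons_of_mem _ hx)
    have hn' : L'.prod ∈ Q.N := Q.prod_mem_N hL'
    refine ⟨s, hs, L'.prod, hn', ?_, ?_⟩
    · have h1 : Q.len L'.prod ≤ k := by
        have := Q.len_le (Q.Rep_prod hL')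
        simp only [List.length_cons, Nat.add_right_cancel_iff] at hlen
        omega
      have h2 : Q.len n ≤ Q.len L'.prod + 1 := by
        have h3 := Q.len_mul_le hs hn'
        have h4 := Q.len_congr hn (Q.N.mul_mem (Q.S_mem_N hs) hn') (by
          have := hL.2; rwa [List.prod_cons] at this)
        omega
      omega
    · have := hL.2
      rwa [List.prod_cons] at this

/-! ### inversion symmetry of the length -/

theorem prod_mul_reverse_prod_mem {L : List G} (hL : ∀ x ∈ L, x ∈ Q.S) :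
    L.prod * L.reverse.prod ∈ Q.T := by
  induction L with
  | nil => simp [Q.T.one_mem]
  | cons s L ih =>
    have hs : s ∈ Q.S := hL s List.mem_cons_self
    have hL' : ∀ x ∈ L, x ∈ Q.S := fun x hx => hL x (List.mem_cons_of_mem _ hx)
    rw [List.prod_cons, List.reverse_cons, List.prod_append, List.prod_singleton]
    have : s * L.prod * (L.reverse.prod * s) = (s * (L.prod * L.reverse.prod) * s⁻¹) * (s * s) := by
      group
    rw [this]
    exact Q.T.mul_mem (Q.conj_mem_T (Q.S_mem_N hs) (ih hL')) (Q.sq_mem_T hs)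

theorem Rep_inv {n : G} {L : List G} (hn : n ∈ Q.N) (h : Q.Rep n L) : Q.Rep n⁻¹ L.reverse := by
  refine ⟨fun x hx => h.1 x (List.mem_reverse.mp hx), ?_⟩
  rw [inv_inv]
  have hLN : L.prod ∈ Q.N := Q.prod_mem_N h.1
  have ht : n⁻¹ * L.prod ∈ Q.T := ⟨h.2, Q.N.mul_mem (Q.N.inv_mem hn) hLN⟩
  have : n * L.reverse.prod = (n * (n⁻¹ * L.prod)⁻¹ * n⁻¹) * (L.prod * L.reverse.prod) := by group
  rw [this]
  exact Q.T_le_B (Q.T.mul_mem (Q.conj_mem_T hn (Q.T.inv_mem ht)) (Q.prod_mul_reverse_prod_mem h.1))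

theorem len_inv {n : G} (hn : n ∈ Q.N) : Q.len n⁻¹ = Q.len n := by
  have key : ∀ m ∈ Q.N, Q.len m⁻¹ ≤ Q.len m := by
    intro m hm
    obtain ⟨L, hL, hlen⟩ := Q.exists_Rep_len hm
    have := Q.len_le (Q.Rep_inv hm hL)
    rwa [List.length_reverse, hlen] at this
  apply le_antisymm (key n hn)
  have := key n⁻¹ (Q.N.inv_mem hn)
  rwa [inv_inv] at this

/-- left multiplication by `T` does not change the length -/
theorem len_T_mul {n t : G} (hn : n ∈ Q.N) (ht : t ∈ Q.T) : Q.len (t * n) = Q.len n := by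
  symm
  apply Q.len_congr hn (Q.N.mul_mem (Q.T_le_N ht) hn)
  have : n⁻¹ * (t * n) = n⁻¹ * t * n := by group
  rw [this]
  exact Q.T_le_B (Q.conj_mem_T' hn ht)

/-- right multiplication by `T` does not change the length -/
theorem len_mul_T {n t : G} (hn : n ∈ Q.N) (ht : t ∈ Q.T) : Q.len (n * t) = Q.len n := by
  symm
  apply Q.len_congr hn (Q.N.mul_mem hn (Q.T_le_N ht))
  have : n⁻¹ * (n * t) = t := by group
  rw [this]
  exact Q.T_le_B ht

theorem len_mul_right_eq {n s : G} (hs : s ∈ Q.S) (hn : n ∈ Q.N) :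
    Q.len (n * s) = Q.len (s * n⁻¹) := by
  have hsN := Q.S_mem_N hs
  rw [← Q.len_inv (Q.N.mul_mem hn hsN)]
  apply Q.len_congr (Q.N.inv_mem (Q.N.mul_mem hn hsN)) (Q.N.mul_mem hsN (Q.N.inv_mem hn))
  have : (n * s)⁻¹⁻¹ * (s * n⁻¹) = n * (s * s) * n⁻¹ := by group
  rw [this]
  exact Q.T_le_B (Q.conj_mem_T hn (Q.sq_mem_T hs))

theorem len_mul_right_le {n s : G} (hs : s ∈ Q.S) (hn : n ∈ Q.N) :
    Q.len (n * s) ≤ Q.len n + 1 := by
  rw [Q.len_mul_right_eq hs hn, ← Q.len_inv hn]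
  exact Q.len_mul_le hs (Q.N.inv_mem hn)

theorem len_le_mul_right {n s : G} (hs : s ∈ Q.S) (hn : n ∈ Q.N) :
    Q.len n ≤ Q.len (n * s) + 1 := by
  rw [Q.len_mul_right_eq hs hn, ← Q.len_inv hn]
  exact Q.len_le_mul hs (Q.N.inv_mem hn)

theorem len_S {s : G} (hs : s ∈ Q.S) : Q.len s = 1 := by
  have h1 : Q.len s ≤ 1 := by
    have : Q.Rep s [s] := ⟨by simp [hs], by simp [Q.B.one_mem]⟩
    simpa using Q.len_le this
  have h2 : Q.len s ≠ 0 := by
    rw [Ne, Q.len_eq_zero_iff (Q.S_mem_N hs)]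
    exact Q.S_not_mem_B hs
  omega

/-! ### uniqueness in the Bruhat decomposition -/

theorem uniq_aux : ∀ k : ℕ, ∀ n ∈ Q.N, ∀ n' ∈ Q.N, Q.len n = k → Q.len n ≤ Q.len n' →
    Q.R n n' → n⁻¹ * n' ∈ Q.B := by
  intro k
  induction k with
  | zero =>
    intro n hn n' _ hk _ hR
    have hnB : n ∈ Q.B := (Q.len_eq_zero_iff hn).mp hk
    exact Q.B.mul_mem (Q.B.inv_mem hnB) (Q.R_mem_B hR hnB)
  | succ k ih =>
    intro n hn n' hn' hk hle hR
    obtain ⟨s, hs, n'', hn'', hk'', ht⟩ := Q.exists_decomp hn hk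
    have hsN := Q.S_mem_N hs
    -- n'' is in B s⁻¹ B n' B
    obtain ⟨b1, hb1, b2, hb2, rfl⟩ := hR
    set t := n⁻¹ * (s * n'') with htdef
    -- n'' = s⁻¹ * b1⁻¹ * (b1 n b2) * (b2⁻¹ * t)
    have e1 : n'' = (s⁻¹ * b1⁻¹ * (b1 * n * b2)) * (b2⁻¹ * t) := by rw [htdef]; group
    have hR1 : Q.R (s⁻¹ * b1⁻¹ * (b1 * n * b2)) n'' := by
      have := Q.R_mul_right (x := s⁻¹ * b1⁻¹ * (b1 * n * b2))
        (Q.B.mul_mem (Q.B.inv_mem hb2) ht)
      rwa [← e1] at this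
    rcases Q.R_axiom_inv hs hn' (Q.B.inv_mem hb1) with h | h
    · -- R (s * n') n''
      have hR2 : Q.R (s * (b1 * n * b2)) n'' := Q.R_trans h hR1
      have hlen : Q.len n'' ≤ Q.len (s * (b1 * n * b2)) := by
        have := Q.len_le_mul hs hn'
        omega
      have h3 := ih n'' hn'' (s * (b1 * n * b2)) (Q.N.mul_mem hsN hn') hk'' hlen (Q.R_symm hR2)
      -- n⁻¹ * n' = t * n''⁻¹ * s⁻¹ * n'
      have e2 : n⁻¹ * (b1 * n * b2) =
          t * ((n''⁻¹ * (s * s)⁻¹ * n'') * (n''⁻¹ * (s * (b1 * n * b2)))) := by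
        rw [htdef]; group
      rw [e2]
      exact Q.B.mul_mem ht (Q.B.mul_mem
        (Q.T_le_B (Q.conj_mem_T' hn'' (Q.T.inv_mem (Q.sq_mem_T hs)))) h3)
    · -- R n' n''
      exfalso
      have hR2 : Q.R (b1 * n * b2) n'' := Q.R_trans h hR1
      have hlen : Q.len n'' ≤ Q.len (b1 * n * b2) := by omega
      have h3 := ih n'' hn'' (b1 * n * b2) hn' hk'' hlen (Q.R_symm hR2)
      have := Q.len_congr hn'' hn' h3
      omega

/-- uniqueness: if `n' ∈ B n B` with `n, n' ∈ N` then `n⁻¹ n' ∈ B` -/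
theorem uniq {n n' : G} (hn : n ∈ Q.N) (hn' : n' ∈ Q.N) (hR : Q.R n n') : n⁻¹ * n' ∈ Q.B := by
  rcases le_total (Q.len n) (Q.len n') with h | h
  · exact Q.uniq_aux _ n hn n' hn' rfl h hR
  · have := Q.uniq_aux _ n' hn' n hn rfl h (Q.R_symm hR)
    have e : n⁻¹ * n' = (n'⁻¹ * n)⁻¹ := by group
    rw [e]; exact Q.B.inv_mem this

/-! ### products of double cosets -/

/-- `ρ⁻¹ b ρ ∈ B ∪ B ρ B` -/
theorem conj_inv_cases {ρ b : G} (hρ : ρ ∈ Q.S) (hb : b ∈ Q.B) :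
    ρ⁻¹ * b * ρ ∈ Q.B ∨ Q.R ρ (ρ⁻¹ * b * ρ) := by
  rcases Q.R_axiom_inv hρ (Q.S_mem_N hρ) hb with h | h
  · left; exact Q.R_mem_B h (Q.sq_mem ρ hρ)
  · right; exact h

/-- `ρ b ρ ∈ B ∪ B ρ B` -/
theorem conj_cases {ρ b : G} (hρ : ρ ∈ Q.S) (hb : b ∈ Q.B) :
    ρ * b * ρ ∈ Q.B ∨ Q.R ρ (ρ * b * ρ) := by
  rcases Q.R_axiom hρ (Q.S_mem_N hρ) hb with h | h
  · left; exact Q.R_mem_B h (Q.sq_mem ρ hρ)
  · right; exact h

/-- if `len n ≤ len (n σ)` then `n B σ ⊆ B n σ B` -/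
theorem mul_right_aux : ∀ k : ℕ, ∀ n ∈ Q.N, Q.len n = k → ∀ σ ∈ Q.S, Q.len n ≤ Q.len (n * σ) →
    ∀ b ∈ Q.B, Q.R (n * σ) (n * b * σ) := by
  intro k
  induction k with
  | zero =>
    intro n hn hk σ _ _ b hb
    have hnB : n ∈ Q.B := (Q.len_eq_zero_iff hn).mp hk
    have e : n * b * σ = (n * b * n⁻¹) * (n * σ) := by group
    rw [e]
    exact Q.R_mul_left (Q.B.mul_mem (Q.B.mul_mem hnB hb) (Q.B.inv_mem hnB))
  | succ k ih =>
    intro n hn hk σ hσ hle b hb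
    by_contra hcon
    have hσN := Q.S_mem_N hσ
    obtain ⟨ρ, hρ, n', hn', hk', ht⟩ := Q.exists_decomp hn hk
    have hρN := Q.S_mem_N hρ
    set t := n⁻¹ * (ρ * n') with htdef
    have htT : t ∈ Q.T := ⟨ht, Q.N.mul_mem (Q.N.inv_mem hn) (Q.N.mul_mem hρN hn')⟩
    have hn_eq : n = ρ * n' * t⁻¹ := by rw [htdef]; group
    -- R n (n b σ)
    have hR1 : Q.R n (n * b * σ) := by
      rcases Q.R_axiom_right hσ hn hb with h | h
      · exact absurd h hcon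
      · exact h
    obtain ⟨b1, hb1, b2, hb2, heq⟩ := hR1
    -- y = n' (t⁻¹ b) σ
    set y := n' * (t⁻¹ * b) * σ with hy
    have hb' : t⁻¹ * b ∈ Q.B := Q.B.mul_mem (Q.B.inv_mem ht) hb
    -- len n' ≤ len (n' σ)
    have hlen' : Q.len n' ≤ Q.len (n' * σ) := by
      -- n σ ≡ ρ n' σ
      have h1 : Q.len (n * σ) = Q.len (ρ * (n' * σ)) := by
        apply Q.len_congr (Q.N.mul_mem hn hσN) (Q.N.mul_mem hρN (Q.N.mul_mem hn' hσN))
        have e : (n * σ)⁻¹ * (ρ * (n' * σ)) = σ⁻¹ * t * σ := by rw [htdef]; group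
        rw [e]
        exact Q.T_le_B (Q.conj_mem_T' hσN htT)
      have h2 := Q.len_mul_le hρ (Q.N.mul_mem hn' hσN)
      omega
    have hR2 : Q.R (n' * σ) y := ih n' hn' hk' σ hσ hlen' _ hb'
    -- y = ρ⁻¹ b1 ρ n' t⁻¹ b2
    have hy2 : y = ρ⁻¹ * b1 * ρ * n' * (t⁻¹ * b2) := by
      have e1 : y = ρ⁻¹ * (n * b * σ) := by rw [hy, hn_eq]; group
      rw [e1, heq, hn_eq]; group
    have hR3 : Q.R (ρ⁻¹ * b1 * ρ * n') y := by
      rw [hy2]
      exact Q.R_mul_right (Q.B.mul_mem (Q.B.inv_mem ht) hb2)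
    have hR4 : Q.R n' y ∨ Q.R (ρ * n') y := by
      rcases Q.conj_inv_cases hρ hb1 with h | h
      · left
        exact Q.R_trans (Q.R_mul_left h) hR3
      · obtain ⟨c1, hc1, c2, hc2, hc⟩ := h
        have hR5 : Q.R (ρ * c2 * n') y := by
          refine Q.R_trans ?_ hR3
          rw [hc]
          have : c1 * ρ * c2 * n' = c1 * (ρ * c2 * n') := by group
          rw [this]
          exact Q.R_mul_left hc1
        rcases Q.R_axiom hρ hn' hc2 with h' | h'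
        · right; exact Q.R_trans h' hR5
        · left; exact Q.R_trans h' hR5
    rcases hR4 with h | h
    · -- R n' (n' σ) hence σ ∈ B
      have h5 := Q.uniq hn' (Q.N.mul_mem hn' hσN) (Q.R_trans h (Q.R_symm hR2))
      have : n'⁻¹ * (n' * σ) = σ := by group
      rw [this] at h5
      exact Q.S_not_mem_B hσ h5
    · -- R (ρ n') (n' σ)
      have h5 := Q.uniq (Q.N.mul_mem hρN hn') (Q.N.mul_mem hn' hσN) (Q.R_trans h (Q.R_symm hR2))
      -- then n σ ≡ n'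
      have h6 : Q.len (n * σ) = Q.len n' := by
        apply Q.len_congr (Q.N.mul_mem hn hσN) hn'
        -- (n σ)⁻¹ n' = σ⁻¹ t (ρ n')⁻¹ n' ... use h5
        have e : (n * σ)⁻¹ * n' =
            (σ⁻¹ * (t * ((ρ * n')⁻¹ * (n' * σ))) * σ) * (σ * σ)⁻¹ := by
          rw [hn_eq]; group
        rw [e]
        have h7 : t * ((ρ * n')⁻¹ * (n' * σ)) ∈ Q.T :=
          Q.T.mul_mem htT ⟨h5, Q.N.mul_mem (Q.N.inv_mem (Q.N.mul_mem hρN hn')) (Q.N.mul_mem hn' hσN)⟩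
        exact Q.B.mul_mem (Q.T_le_B (Q.conj_mem_T' hσN h7)) (Q.B.inv_mem (Q.sq_mem σ hσ))
      omega

/-- if `len n ≤ len (n σ)` then `n B σ ⊆ B n σ B` -/
theorem mul_right_of_le {n σ b : G} (hn : n ∈ Q.N) (hσ : σ ∈ Q.S) (hle : Q.len n ≤ Q.len (n * σ))
    (hb : b ∈ Q.B) : Q.R (n * σ) (n * b * σ) :=
  Q.mul_right_aux _ n hn rfl σ hσ hle b hb

/-- if `len (n σ) ≤ len n` then `n B σ` meets `B n B` -/
theorem mul_right_of_ge {n σ : G} (hn : n ∈ Q.N) (hσ : σ ∈ Q.S) (hle : Q.len (n * σ) ≤ Q.len n) :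
    ∃ b ∈ Q.B, Q.R n (n * b * σ) := by
  have hσN := Q.S_mem_N hσ
  have hm : n * σ ∈ Q.N := Q.N.mul_mem hn hσN
  have h1 : Q.len (n * σ * σ) = Q.len n := by
    have : n * σ * σ = n * (σ * σ) := by group
    rw [this]
    exact Q.len_mul_T hn (Q.sq_mem_T hσ)
  obtain ⟨b, hb, hnot⟩ := Q.exists_conj_not_mem hσ
  have h2 := Q.mul_right_of_le hm hσ (by rw [h1]; exact hle) hb
  -- σ b σ = c1 σ c2
  rcases Q.conj_cases hσ hb with h | h
  · exact absurd h hnot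
  · obtain ⟨c1, hc1, c2, hc2, hc⟩ := h
    refine ⟨c1, hc1, ?_⟩
    -- n c1 σ ~ n σ b σ ~ n σ σ ~ n
    have e1 : n * σ * b * σ = (n * c1 * σ) * c2 := by
      have : n * σ * b * σ = n * (σ * b * σ) := by group
      rw [this, hc]; group
    have h3 : Q.R (n * c1 * σ) (n * σ * b * σ) := by
      rw [e1]; exact Q.R_mul_right hc2
    have h4 : Q.R n (n * σ * σ) := by
      have : n * σ * σ = n * (σ * σ) := by group
      rw [this]; exact Q.R_mul_right (Q.sq_mem σ hσ)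
    exact Q.R_trans h4 (Q.R_trans h2 (Q.R_symm h3))

/-- the length changes under right multiplication by an element of `S` -/
theorem len_mul_right_ne {n σ : G} (hn : n ∈ Q.N) (hσ : σ ∈ Q.S) : Q.len (n * σ) ≠ Q.len n := by
  intro heq
  have hσN := Q.S_mem_N hσ
  obtain ⟨b, hb, hR⟩ := Q.mul_right_of_ge hn hσ (le_of_eq heq)
  have hR' := Q.mul_right_of_le hn hσ (le_of_eq heq.symm) hb
  have h := Q.uniq hn (Q.N.mul_mem hn hσN) (Q.R_trans hR (Q.R_symm hR'))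
  have : n⁻¹ * (n * σ) = σ := by group
  rw [this] at h
  exact Q.S_not_mem_B hσ h

/-- peeling off a generator from an element of positive length -/
theorem exists_peel {n : G} {k : ℕ} (hn : n ∈ Q.N) (hk : Q.len n = k + 1) :
    ∃ s ∈ Q.S, ∃ n' ∈ Q.N, Q.len n' = k ∧ n⁻¹ * (s * n') ∈ Q.B ∧
      ∃ b ∈ Q.B, ∃ b1 ∈ Q.B, ∃ b2 ∈ Q.B, s = b * n * b1 * n⁻¹ * b2 := by
  obtain ⟨s, hs, n', hn', hk', ht⟩ := Q.exists_decomp hn hk
  refine ⟨s, hs, n', hn', hk', ht, ?_⟩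
  have hsN := Q.S_mem_N hs
  set t := n⁻¹ * (s * n') with htdef
  have htT : t ∈ Q.T := ⟨ht, Q.N.mul_mem (Q.N.inv_mem hn) (Q.N.mul_mem hsN hn')⟩
  -- len (n⁻¹ s) < len n⁻¹
  have h1 : Q.len (n⁻¹ * s) = k := by
    have e : n⁻¹ * s = t * n'⁻¹ := by rw [htdef]; group
    rw [e, Q.len_T_mul (Q.N.inv_mem hn') htT, Q.len_inv hn', hk']
  have h2 : Q.len (n⁻¹ * s) ≤ Q.len n⁻¹ := by rw [Q.len_inv hn, h1, hk]; omega
  obtain ⟨b, hb, b1, hb1, b2, hb2, heq⟩ := Q.mul_right_of_ge (Q.N.inv_mem hn) hs h2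
  refine ⟨b⁻¹, Q.B.inv_mem hb, b1, hb1, b2, hb2, ?_⟩
  have : s = b⁻¹ * n * (n⁻¹ * b * s) := by group
  rw [this, heq]; group

/-! ### subgroups containing `B` -/

/-- if `H ≥ B` contains `n B n⁻¹` then it contains `n` -/
theorem mem_of_conj_aux : ∀ k : ℕ, ∀ n ∈ Q.N, Q.len n = k → ∀ H : Subgroup G, Q.B ≤ H →
    (∀ b ∈ Q.B, n * b * n⁻¹ ∈ H) → n ∈ H := by
  intro k
  induction k with
  | zero =>
    intro n hn hk H hBH _
    exact hBH ((Q.len_eq_zero_iff hn).mp hk)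
  | succ k ih =>
    intro n hn hk H hBH hconj
    obtain ⟨s, hs, n', hn', hk', ht, b, hb, b1, hb1, b2, hb2, hseq⟩ := Q.exists_peel hn hk
    have hnb : n * b1 * n⁻¹ ∈ H := hconj b1 hb1
    have hsH : s ∈ H := by
      rw [hseq]
      have : b * n * b1 * n⁻¹ * b2 = b * (n * b1 * n⁻¹) * b2 := by group
      rw [this]
      exact H.mul_mem (H.mul_mem (hBH hb) hnb) (hBH hb2)
    set t := n⁻¹ * (s * n') with htdef
    have hn'eq : n' = s⁻¹ * n * t := by rw [htdef]; group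
    have hn'H : n' ∈ H := by
      apply ih n' hn' hk' H hBH
      intro c hc
      have : n' * c * n'⁻¹ = s⁻¹ * (n * (t * c * t⁻¹) * n⁻¹) * s := by
        rw [hn'eq]; group
      rw [this]
      exact H.mul_mem (H.mul_mem (H.inv_mem hsH)
        (hconj _ (Q.B.mul_mem (Q.B.mul_mem ht hc) (Q.B.inv_mem ht)))) hsH
    have : n = s * n' * t⁻¹ := by rw [htdef]; group
    rw [this]
    exact H.mul_mem (H.mul_mem hsH hn'H) (H.inv_mem (hBH ht))

theorem mem_of_conj {n : G} (hn : n ∈ Q.N) {H : Subgroup G} (hBH : Q.B ≤ H)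
    (hconj : ∀ b ∈ Q.B, n * b * n⁻¹ ∈ H) : n ∈ H :=
  Q.mem_of_conj_aux _ n hn rfl H hBH hconj

/-- an element of `N` lying in `M ≥ B` lies in the parabolic generated by `S ∩ M` -/
theorem mem_parabolic_aux : ∀ k : ℕ, ∀ n ∈ Q.N, Q.len n = k → ∀ M : Subgroup G, Q.B ≤ M →
    n ∈ M → n ∈ Q.B ⊔ Subgroup.closure (Q.S ∩ (M : Set G)) := by
  intro k
  induction k with
  | zero =>
    intro n hn hk M _ _
    exact Subgroup.mem_sup_left ((Q.len_eq_zero_iff hn).mp hk)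
  | succ k ih =>
    intro n hn hk M hBM hnM
    obtain ⟨s, hs, n', hn', hk', ht, b, hb, b1, hb1, b2, hb2, hseq⟩ := Q.exists_peel hn hk
    have hsM : s ∈ M := by
      rw [hseq]
      exact M.mul_mem (M.mul_mem (M.mul_mem (M.mul_mem (hBM hb) hnM) (hBM hb1)) (M.inv_mem hnM))
        (hBM hb2)
    set t := n⁻¹ * (s * n') with htdef
    have hn'eq : n' = s⁻¹ * n * t := by rw [htdef]; group
    have hn'M : n' ∈ M := by
      rw [hn'eq]
      exact M.mul_mem (M.mul_mem (M.inv_mem hsM) hnM) (hBM ht)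
    have h1 := ih n' hn' hk' M hBM hn'M
    have h2 : s ∈ Q.B ⊔ Subgroup.closure (Q.S ∩ (M : Set G)) :=
      Subgroup.mem_sup_right (Subgroup.subset_closure ⟨hs, hsM⟩)
    have : n = s * n' * t⁻¹ := by rw [htdef]; group
    rw [this]
    exact Subgroup.mul_mem _ (Subgroup.mul_mem _ h2 h1)
      (Subgroup.inv_mem _ (Subgroup.mem_sup_left ht))

theorem mem_parabolic_of_mem {n : G} (hn : n ∈ Q.N) {M : Subgroup G} (hBM : Q.B ≤ M)
    (hnM : n ∈ M) : n ∈ Q.B ⊔ Subgroup.closure (Q.S ∩ (M : Set G)) :=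
  Q.mem_parabolic_aux _ n hn rfl M hBM hnM

/-! ### restriction to a subset of `S` -/

/-- the sub-pair attached to `J ⊆ S` -/
def restrict (J : Set G) (hJ : J ⊆ Q.S) : Pre G where
  B := Q.B
  N := Subgroup.closure J ⊔ Q.T
  S := J
  conj_mem := by
    intro n hn t ht
    have hle : Subgroup.closure J ⊔ Q.T ≤ Q.N :=
      sup_le ((Subgroup.closure_le _).mpr (hJ.trans Q.subset)) Q.T_le_N
    exact Q.conj_mem n (hle hn) t ⟨ht.1, hle ht.2⟩
  subset := fun x hx => Subgroup.mem_sup_left (Subgroup.subset_closure hx)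
  sq_mem := fun s hs => Q.sq_mem s (hJ hs)
  inj := fun s hs s' hs' => Q.inj s (hJ hs) s' (hJ hs')
  closure_sup := by
    have hle : Subgroup.closure J ⊔ Q.T ≤ Q.N :=
      sup_le ((Subgroup.closure_le _).mpr (hJ.trans Q.subset)) Q.T_le_N
    have : Q.B ⊓ (Subgroup.closure J ⊔ Q.T) = Q.T := by
      apply le_antisymm
      · exact le_inf inf_le_left (inf_le_right.trans hle)
      · exact le_inf Q.T_le_B le_sup_right
    rw [this]
  mul_mem_union := by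
    intro s hs n hn b hb
    have hle : Subgroup.closure J ⊔ Q.T ≤ Q.N :=
      sup_le ((Subgroup.closure_le _).mpr (hJ.trans Q.subset)) Q.T_le_N
    exact Q.mul_mem_union s (hJ hs) n (hle hn) b hb
  conj_ne := fun s hs => Q.conj_ne s (hJ hs)

theorem restrict_N_le (J : Set G) (hJ : J ⊆ Q.S) : (Q.restrict J hJ).N ≤ Q.N :=
  sup_le ((Subgroup.closure_le _).mpr (hJ.trans Q.subset)) Q.T_le_N

theorem restrict_T (J : Set G) (hJ : J ⊆ Q.S) : (Q.restrict J hJ).T = Q.T := by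
  have hle := Q.restrict_N_le J hJ
  apply le_antisymm
  · exact le_inf inf_le_left (inf_le_right.trans hle)
  · exact le_inf Q.T_le_B (le_sup_right (a := Subgroup.closure J))

theorem restrict_R (J : Set G) (hJ : J ⊆ Q.S) (x y : G) : (Q.restrict J hJ).R x y ↔ Q.R x y :=
  Iff.rfl

/-- the length functions agree -/
theorem len_restrict_aux (J : Set G) (hJ : J ⊆ Q.S) : ∀ k : ℕ, ∀ n ∈ (Q.restrict J hJ).N,
    (Q.restrict J hJ).len n = k → Q.len n = k := by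
  intro k
  induction k with
  | zero =>
    intro n hn hk
    have hnN := Q.restrict_N_le J hJ hn
    rw [Q.len_eq_zero_iff hnN]
    exact ((Q.restrict J hJ).len_eq_zero_iff hn).mp hk
  | succ k ih =>
    intro n hn hk
    set QJ := Q.restrict J hJ with hQJ
    have hle := Q.restrict_N_le J hJ
    have hnN := hle hn
    obtain ⟨j, hj, n', hn', hk', ht⟩ := QJ.exists_decomp hn hk
    have hjS : j ∈ Q.S := hJ hj
    have hn'N := hle hn'
    have hlen' : Q.len n' = k := ih n' hn' hk'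
    set t := n⁻¹ * (j * n') with htdef
    have htT : t ∈ Q.T := ⟨ht, Q.N.mul_mem (Q.N.inv_mem hnN) (Q.N.mul_mem (Q.S_mem_N hjS) hn'N)⟩
    have htTJ : t ∈ QJ.T := by rw [hQJ, Q.restrict_T J hJ]; exact htT
    -- m = n'⁻¹,  m j = t⁻¹ n⁻¹ (j j)
    have e : n'⁻¹ * j = t⁻¹ * n⁻¹ * (j * j) := by rw [htdef]; group
    have hmN : n'⁻¹ ∈ Q.N := Q.N.inv_mem hn'N
    have hmNJ : n'⁻¹ ∈ QJ.N := QJ.N.inv_mem hn'
    have h1 : QJ.len (n'⁻¹ * j) = k + 1 := by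
      rw [e, QJ.len_mul_T (QJ.N.mul_mem (QJ.T_le_N (QJ.T.inv_mem htTJ)) (QJ.N.inv_mem hn))
        (QJ.sq_mem_T hj), QJ.len_T_mul (QJ.N.inv_mem hn) (QJ.T.inv_mem htTJ), QJ.len_inv hn, hk]
    have h2 : Q.len (n'⁻¹ * j) = Q.len n := by
      rw [e, Q.len_mul_T (Q.N.mul_mem (Q.T_le_N (Q.T.inv_mem htT)) (Q.N.inv_mem hnN))
        (Q.sq_mem_T hjS), Q.len_T_mul (Q.N.inv_mem hnN) (Q.T.inv_mem htT), Q.len_inv hnN]
    have h3 : QJ.len n'⁻¹ = k := by rw [QJ.len_inv hn', hk']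
    have h4 : Q.len n'⁻¹ = k := by rw [Q.len_inv hn'N, hlen']
    -- in QJ : all n'⁻¹ b j ∈ B n'⁻¹ j B
    have hall : ∀ b ∈ Q.B, Q.R (n'⁻¹ * j) (n'⁻¹ * b * j) := by
      intro b hb
      exact QJ.mul_right_of_le hmNJ hj (by rw [h1, h3]; omega) hb
    have h5 : ¬ Q.len (n'⁻¹ * j) ≤ Q.len n'⁻¹ := by
      intro hcon
      obtain ⟨b, hb, hR⟩ := Q.mul_right_of_ge hmN hjS hcon
      have h6 := Q.uniq hmN (Q.N.mul_mem hmN (Q.S_mem_N hjS)) (Q.R_trans hR (Q.R_symm (hall b hb)))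
      have : n'⁻¹⁻¹ * (n'⁻¹ * j) = j := by group
      rw [this] at h6
      exact Q.S_not_mem_B hjS h6
    have h7 := Q.len_mul_right_le hjS hmN
    omega

theorem len_restrict (J : Set G) (hJ : J ⊆ Q.S) {n : G} (hn : n ∈ (Q.restrict J hJ).N) :
    (Q.restrict J hJ).len n = Q.len n :=
  (Q.len_restrict_aux J hJ _ n hn rfl).symm

/-- an element of `S` lying in `B m B` with `m ∈ closure J` lies in `J` -/
theorem mem_of_R_closure {J : Set G} (hJ : J ⊆ Q.S) {s m : G} (hs : s ∈ Q.S)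
    (hm : m ∈ Subgroup.closure J) (hR : Q.R m s) : s ∈ J := by
  set QJ := Q.restrict J hJ with hQJ
  have hmJ : m ∈ QJ.N := Subgroup.mem_sup_left hm
  have hmN : m ∈ Q.N := Q.restrict_N_le J hJ hmJ
  have h1 := Q.uniq hmN (Q.S_mem_N hs) hR
  have h2 : Q.len m = 1 := by rw [Q.len_congr hmN (Q.S_mem_N hs) h1, Q.len_S hs]
  have h3 : QJ.len m = 1 := by rw [hQJ, Q.len_restrict J hJ hmJ, h2]
  obtain ⟨L, hL, hlen⟩ := QJ.exists_Rep_len hmJ
  rw [h3] at hlen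
  match L, hL, hlen with
  | [j], hL, _ =>
    have hj : j ∈ J := hL.1 j (by simp)
    have h4 : m⁻¹ * j ∈ Q.B := by
      have h4' : m⁻¹ * [j].prod ∈ QJ.B := hL.2
      rw [List.prod_singleton] at h4'
      exact h4'
    have h5 : s⁻¹ * j ∈ Q.B := by
      have : s⁻¹ * j = (m⁻¹ * s)⁻¹ * (m⁻¹ * j) := by group
      rw [this]; exact Q.B.mul_mem (Q.B.inv_mem h1) h4
    have := Q.inj s hs j (hJ hj) h5
    rw [this]; exact hj

end Pre

end Cfsg.Agent.Lib.Helper1_BN
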