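import Mathlib
import Cfsg.Prelude.Def_LieExceptional
import Cfsg.Agent.Lib.Helper1_BN
import Cfsg.Agent.S0308
import Cfsg.Agent.S0310
import Cfsg.Agent.S0311

/-!
Consequences of the (B,N)-pair theory for genuine `BNPair`s (using the Bruhat decomposition).
-/

set_option autoImplicit false

namespace Cfsg.Agent.Lib.Helper1_BN2

open Cfsg.Agent.Lib.Helper1_BN

variable {G : Type*} [Group G]

/-- an element of `S` lying in the parabolic subgroup of `J ⊆ S` lies in `J` -/
theorem mem_of_mem_parabolic (P : Cfsg.BNPair G) {J : Set G} (hJ : J ⊆ P.S) {s : G}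
    (hs : s ∈ P.S) (hsJ : s ∈ P.parabolic J) : s ∈ J := by
  obtain ⟨m, hm, hsm⟩ := (Cfsg.Agent.S0310.result P hJ s).mp hsJ
  exact (ofBN P).mem_of_R_closure hJ hs hm (((ofBN P).R_iff_mem m s).mpr hsm)

/-- `S ∩ P_J = J` -/
theorem S_inter_parabolic (P : Cfsg.BNPair G) {J : Set G} (hJ : J ⊆ P.S) :
    P.S ∩ (P.parabolic J : Set G) = J := by
  ext s
  constructor
  · rintro ⟨hs, hsJ⟩
    exact mem_of_mem_parabolic P hJ hs hsJ
  · intro hs
    exact ⟨hJ hs, Subgroup.mem_sup_right (Subgroup.subset_closure hs)⟩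

theorem parabolic_mono (P : Cfsg.BNPair G) {J K : Set G} (h : J ⊆ K) :
    P.parabolic J ≤ P.parabolic K :=
  sup_le_sup_left (Subgroup.closure_mono h) _

theorem parabolic_le_iff (P : Cfsg.BNPair G) {J K : Set G} (hJ : J ⊆ P.S) (hK : K ⊆ P.S) :
    P.parabolic J ≤ P.parabolic K ↔ J ⊆ K := by
  constructor
  · intro h s hs
    exact mem_of_mem_parabolic P hK (hJ hs) (h (Subgroup.mem_sup_right (Subgroup.subset_closure hs)))
  · exact parabolic_mono P

theorem parabolic_injective (P : Cfsg.BNPair G) {J K : Set G} (hJ : J ⊆ P.S) (hK : K ⊆ P.S)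
    (h : P.parabolic J = P.parabolic K) : J = K :=
  Set.Subset.antisymm ((parabolic_le_iff P hJ hK).mp h.le) ((parabolic_le_iff P hK hJ).mp h.ge)

end Cfsg.Agent.Lib.Helper1_BN2
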