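import Mathlib

set_option autoImplicit false

/-! The product formula `|HK| |H ∩ K| = |H| |K|` for subgroups. -/

namespace Cfsg.Agent.Lib.Helper1_Card

open scoped Pointwise

/-- The image of `H` in `G ⧸ K` has `K.relIndex H` elements. -/
theorem card_image_quotient {G : Type*} [Group G] (H K : Subgroup G) :
    Nat.card ((fun g : G => (g : G ⧸ K)) '' (H : Set G)) = K.relIndex H := by
  let f : H ⧸ K.subgroupOf H → G ⧸ K :=
    Quotient.map' (fun h : H => (h : G)) (fun a b hab => by
      rw [QuotientGroup.leftRel_apply] at hab ⊢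
      exact hab)
  have hf : Function.Injective f := by
    intro x y
    refine Quotient.inductionOn₂' x y ?_
    intro a b hab
    have h1 : ((a : G) : G ⧸ K) = ((b : G) : G ⧸ K) := hab
    rw [QuotientGroup.eq] at h1
    apply Quotient.sound'
    rw [QuotientGroup.leftRel_apply]
    exact h1
  have hr : Set.range f = (fun g : G => (g : G ⧸ K)) '' (H : Set G) := by
    ext x
    constructor
    · rintro ⟨y, rfl⟩
      refine Quotient.inductionOn' y ?_
      intro a
      exact ⟨(a : G), a.2, rfl⟩
    · rintro ⟨g, hg, rfl⟩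
      exact ⟨Quotient.mk'' ⟨g, hg⟩, rfl⟩
  rw [← hr, ← Nat.card_congr (Equiv.ofInjective f hf)]
  rfl

/-- `|HK| = |K| |H : H ∩ K|`. -/
theorem card_mul_eq_card_mul_relIndex {G : Type*} [Group G] (H K : Subgroup G) :
    Nat.card ((H : Set G) * (K : Set G) : Set G) = Nat.card K * K.relIndex H := by
  rw [Subgroup.card_mul_eq_card_subgroup_mul_card_quotient K (H : Set G), card_image_quotient]

/-- The product formula `|HK| |H ∩ K| = |H| |K|`. -/
theorem card_mul_card_inf {G : Type*} [Group G] (H K : Subgroup G) :
    Nat.card ((H : Set G) * (K : Set G) : Set G) * Nat.card (H ⊓ K : Subgroup G)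
      = Nat.card H * Nat.card K := by
  rw [card_mul_eq_card_mul_relIndex]
  have h1 : Nat.card (K.subgroupOf H) * K.relIndex H = Nat.card H :=
    Subgroup.card_mul_index (K.subgroupOf H)
  have h2 : Nat.card (K.subgroupOf H) = Nat.card (H ⊓ K : Subgroup G) := by
    rw [inf_comm]
    rw [← Subgroup.inf_subgroupOf_right K H]
    exact Nat.card_congr (Subgroup.subgroupOfEquivOfLe (inf_le_right : K ⊓ H ≤ H)).toEquiv
  rw [← h1, h2]
  ring

/-- When `H` normalizes... in general: if the product set is a subgroup `L`, then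
`|L| |H ∩ K| = |H| |K|`. -/
theorem card_sup_mul_card_inf_of_normal {G : Type*} [Group G] (H K : Subgroup G) [K.Normal] :
    Nat.card (H ⊔ K : Subgroup G) * Nat.card (H ⊓ K : Subgroup G) = Nat.card H * Nat.card K := by
  have h := card_mul_card_inf H K
  have : ((H ⊔ K : Subgroup G) : Set G) = (H : Set G) * (K : Set G) := Subgroup.mul_normal H K
  rw [← this] at h
  exact h

end Cfsg.Agent.Lib.Helper1_Card
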