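import Mathlib
import Cfsg.Prelude.Def_Sporadic_a
import Cfsg.Agent.S0362
set_option autoImplicit false
open Cfsg
open scoped Pointwise
namespace Cfsg.Agent.Lib.Helper1_Golay

/-- indicator word of a finset -/
def ind {α : Type*} [DecidableEq α] (S : Finset α) : α → ZMod 2 := fun i => if i ∈ S then 1 else 0

theorem zmod2_ne_zero_iff (a : ZMod 2) : a ≠ 0 ↔ a = 1 := by
  revert a; decide

theorem support₂_ind {α : Type*} [Fintype α] [DecidableEq α] (S : Finset α) :
    support₂ (ind S) = S := by
  ext i
  simp [support₂, ind]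

theorem ind_support₂ {α : Type*} [Fintype α] [DecidableEq α] (w : α → ZMod 2) :
    ind (support₂ w) = w := by
  funext i
  simp only [ind, support₂, Finset.mem_filter, Finset.mem_univ, true_and]
  by_cases h : w i = 0
  · simp [h]
  · simp [h, (zmod2_ne_zero_iff _).mp h]

theorem mem_support₂ {α : Type*} [Fintype α] (w : α → ZMod 2) (i : α) :
    i ∈ support₂ w ↔ w i = 1 := by
  simp [support₂, zmod2_ne_zero_iff]

theorem mem_supports_iff {α : Type*} [Fintype α] [DecidableEq α] (C : Set (α → ZMod 2))
    (S : Finset α) : S ∈ supports C ↔ ind S ∈ C := by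
  constructor
  · rintro ⟨w, hw, rfl⟩
    rwa [ind_support₂]
  · intro h
    exact ⟨ind S, h, support₂_ind S⟩

theorem ind_empty {α : Type*} [DecidableEq α] : ind (∅ : Finset α) = 0 := by
  funext i; simp [ind]

theorem ind_univ {α : Type*} [Fintype α] [DecidableEq α] : ind (Finset.univ : Finset α) = 1 := by
  funext i; simp [ind]

theorem ind_compl {α : Type*} [Fintype α] [DecidableEq α] (S : Finset α) :
    ind Sᶜ = 1 + ind S := by
  funext i
  by_cases h : i ∈ S
  · simp only [ind, Finset.mem_compl, h, not_true_eq_false, if_false, if_true, Pi.add_apply,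
      Pi.one_apply]
    decide
  · simp [ind, h]

theorem ind_symmDiff {α : Type*} [DecidableEq α] (S T : Finset α) :
    ind (symmDiff S T) = ind S + ind T := by
  funext i
  by_cases h : i ∈ S <;> by_cases h' : i ∈ T <;>
    simp [ind, Finset.mem_symmDiff, h, h'] <;> decide

theorem one_mem_golay : (1 : GolayPt → ZMod 2) ∈ golayCode :=
  Submodule.subset_span (Or.inr rfl)

theorem qrWord_mem_golay (t : ZMod 23) : qrWord t ∈ golayCode :=
  Submodule.subset_span (Or.inl ⟨t, rfl⟩)

theorem empty_mem : (∅ : Finset GolayPt) ∈ supports (golayCode : Set (GolayPt → ZMod 2)) := by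
  rw [mem_supports_iff, ind_empty]; exact golayCode.zero_mem

theorem univ_mem : (Finset.univ : Finset GolayPt) ∈ supports (golayCode : Set (GolayPt → ZMod 2)) := by
  rw [mem_supports_iff, ind_univ]; exact one_mem_golay

theorem compl_mem {S : Finset GolayPt}
    (hS : S ∈ supports (golayCode : Set (GolayPt → ZMod 2))) :
    Sᶜ ∈ supports (golayCode : Set (GolayPt → ZMod 2)) := by
  rw [mem_supports_iff] at hS ⊢
  rw [ind_compl]; exact golayCode.add_mem one_mem_golay hS

theorem symmDiff_mem {S T : Finset GolayPt}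
    (hS : S ∈ supports (golayCode : Set (GolayPt → ZMod 2)))
    (hT : T ∈ supports (golayCode : Set (GolayPt → ZMod 2))) :
    symmDiff S T ∈ supports (golayCode : Set (GolayPt → ZMod 2)) := by
  rw [mem_supports_iff] at hS hT ⊢
  rw [ind_symmDiff]; exact golayCode.add_mem hS hT

/-- dot product of indicator words counts the intersection -/
theorem sum_ind_mul_ind {α : Type*} [Fintype α] [DecidableEq α] (S T : Finset α) :
    ∑ i, ind S i * ind T i = ((S ∩ T).card : ZMod 2) := by
  have : ∀ i, ind S i * ind T i = if i ∈ S ∩ T then 1 else 0 := by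
    intro i
    by_cases h : i ∈ S <;> by_cases h' : i ∈ T <;> simp [ind, h, h']
  simp only [this]
  rw [Finset.sum_ite_mem, Finset.univ_inter]
  simp

theorem even_card_inter {S T : Finset GolayPt}
    (hS : S ∈ supports (golayCode : Set (GolayPt → ZMod 2)))
    (hT : T ∈ supports (golayCode : Set (GolayPt → ZMod 2))) :
    Even (S ∩ T).card := by
  rw [mem_supports_iff] at hS hT
  have h := Cfsg.Agent.S0362.result _ _ hS hT
  rw [sum_ind_mul_ind] at h
  exact (ZMod.natCast_eq_zero_iff_even).mp h

theorem card_symmDiff_add {α : Type*} [DecidableEq α] (S T : Finset α) :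
    (symmDiff S T).card + 2 * (S ∩ T).card = S.card + T.card := by
  have h1 : (symmDiff S T) = (S \ T) ∪ (T \ S) := rfl
  have h2 : Disjoint (S \ T) (T \ S) := by
    rw [Finset.disjoint_left]
    intro a ha hb
    simp only [Finset.mem_sdiff] at ha hb
    exact ha.2 hb.1
  rw [h1, Finset.card_union_of_disjoint h2]
  have h3 := Finset.card_sdiff_add_card_inter S T
  have h4 := Finset.card_sdiff_add_card_inter T S
  rw [Finset.inter_comm T S] at h4
  omega

theorem support₂_add {α : Type*} [Fintype α] [DecidableEq α] (x y : α → ZMod 2) :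
    support₂ (x + y) = symmDiff (support₂ x) (support₂ y) := by
  ext i
  simp only [Finset.mem_symmDiff, mem_support₂, Pi.add_apply]
  generalize x i = a
  generalize y i = b
  revert a b
  decide

set_option maxRecDepth 100000 in
theorem card_support₂_qrWord : ∀ t : ZMod 23, (support₂ (qrWord t)).card = 12 := by
  decide

theorem card_support₂_one : (support₂ (1 : GolayPt → ZMod 2)).card = 24 := by
  decide

theorem four_dvd_card_support₂ (w : GolayPt → ZMod 2) (hw : w ∈ golayCode) :
    4 ∣ (support₂ w).card := by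
  unfold golayCode at hw
  induction hw using Submodule.span_induction with
  | mem v hv =>
    rcases hv with ⟨t, rfl⟩ | hv
    · rw [card_support₂_qrWord]; decide
    · rw [Set.mem_singleton_iff.mp hv, card_support₂_one]; decide
  | zero => simp [support₂]
  | add x y hx hy hx' hy' =>
    have hxm : support₂ x ∈ supports (golayCode : Set (GolayPt → ZMod 2)) := ⟨x, hx, rfl⟩
    have hym : support₂ y ∈ supports (golayCode : Set (GolayPt → ZMod 2)) := ⟨y, hy, rfl⟩
    have he := even_card_inter hxm hym
    have hc := card_symmDiff_add (support₂ x) (support₂ y)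
    rw [support₂_add]
    obtain ⟨k, hk⟩ := he
    omega
  | smul a x _ hx =>
    have : a = 0 ∨ a = 1 := by revert a; decide
    rcases this with rfl | rfl
    · simp [support₂]
    · simpa using hx

theorem four_dvd_card {S : Finset GolayPt}
    (hS : S ∈ supports (golayCode : Set (GolayPt → ZMod 2))) : 4 ∣ S.card := by
  obtain ⟨w, hw, rfl⟩ := hS
  exact four_dvd_card_support₂ w hw


/-- the set of positions with coordinate in a given residue class mod 4 -/
def resSet (x : GolayPt → ℤ) (k : ℤ) : Finset GolayPt :=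
  Finset.univ.filter fun i => x i ≡ k [ZMOD 4]

theorem mem_resSet (x : GolayPt → ℤ) (k : ℤ) (i : GolayPt) :
    i ∈ resSet x k ↔ x i % 4 = k % 4 := by
  unfold resSet
  rw [Finset.mem_filter]
  simp only [Finset.mem_univ, true_and, Int.ModEq]

local notation "𝒢" => supports (golayCode : Set (GolayPt → ZMod 2))

theorem mem_leechSet_iff (x : GolayPt → ℤ) :
    x ∈ leechSet ↔ ∃ m : ℤ, (∀ i, x i % 2 = m % 2) ∧ ((∑ i, x i) % 8 = (4 * m) % 8) ∧
      resSet x m ∈ 𝒢 := by
  constructor
  · rintro ⟨m, h1, h2, h3⟩
    exact ⟨m, h1, h2, h3 m⟩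
  · rintro ⟨m, h1, h2, h3⟩
    refine ⟨m, h1, h2, fun k => ?_⟩
    change resSet x k ∈ 𝒢
    have hk : (k - m) % 4 = 0 ∨ (k - m) % 4 = 1 ∨ (k - m) % 4 = 2 ∨ (k - m) % 4 = 3 := by omega
    rcases hk with hk | hk | hk | hk
    · have : resSet x k = resSet x m := by
        ext i; simp only [mem_resSet]; omega
      rw [this]; exact h3
    · have : resSet x k = ∅ := by
        ext i; simp only [mem_resSet, Finset.notMem_empty, iff_false]
        have := h1 i; omega
      rw [this]; exact empty_mem
    · have : resSet x k = (resSet x m)ᶜ := by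
        ext i; simp only [mem_resSet, Finset.mem_compl]
        have := h1 i; omega
      rw [this]; exact compl_mem h3
    · have : resSet x k = ∅ := by
        ext i; simp only [mem_resSet, Finset.notMem_empty, iff_false]
        have := h1 i; omega
      rw [this]; exact empty_mem

theorem zero_mem_leechSet : (0 : GolayPt → ℤ) ∈ leechSet := by
  rw [mem_leechSet_iff]
  refine ⟨0, fun i => rfl, by simp, ?_⟩
  have : resSet 0 0 = Finset.univ := by
    ext i; simp [mem_resSet]
  rw [this]; exact univ_mem

theorem neg_mem_leechSet {x : GolayPt → ℤ} (hx : x ∈ leechSet) : -x ∈ leechSet := by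
  rw [mem_leechSet_iff] at hx ⊢
  obtain ⟨m, h1, h2, h3⟩ := hx
  refine ⟨-m, fun i => ?_, ?_, ?_⟩
  · have := h1 i; simp only [Pi.neg_apply]; omega
  · simp only [Pi.neg_apply, Finset.sum_neg_distrib]; omega
  · have : resSet (-x) (-m) = resSet x m := by
      ext i; simp only [mem_resSet, Pi.neg_apply]; omega
    rw [this]; exact h3

theorem add_mem_leechSet {x y : GolayPt → ℤ} (hx : x ∈ leechSet) (hy : y ∈ leechSet) :
    x + y ∈ leechSet := by
  rw [mem_leechSet_iff] at hx hy ⊢
  obtain ⟨m, h1, h2, h3⟩ := hx
  obtain ⟨m', h1', h2', h3'⟩ := hy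
  refine ⟨m + m', fun i => ?_, ?_, ?_⟩
  · have := h1 i; have := h1' i; simp only [Pi.add_apply]; omega
  · simp only [Pi.add_apply, Finset.sum_add_distrib]; omega
  · have : resSet (x + y) (m + m') = (symmDiff (resSet x m) (resSet y m'))ᶜ := by
      ext i
      simp only [mem_resSet, Pi.add_apply, Finset.mem_compl, Finset.mem_symmDiff]
      have := h1 i; have := h1' i; omega
    rw [this]; exact compl_mem (symmDiff_mem h3 h3')

/-- `leechSet` as an additive subgroup. -/
def leechSub : AddSubgroup (GolayPt → ℤ) where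
  carrier := leechSet
  add_mem' := add_mem_leechSet
  zero_mem' := zero_mem_leechSet
  neg_mem' := neg_mem_leechSet

theorem leechLattice_eq : leechLattice = leechSub := by
  unfold leechLattice
  exact (AddSubgroup.closure_eq leechSub)

theorem mem_leechLattice_iff (x : GolayPt → ℤ) : x ∈ leechLattice ↔ x ∈ leechSet := by
  rw [leechLattice_eq]; rfl



theorem smul_mem_of_mem_M24 {σ : Equiv.Perm GolayPt} (hσ : σ ∈ M24) {S : Finset GolayPt}
    (hS : S ∈ 𝒢) : σ • S ∈ 𝒢 := by
  have h : σ • 𝒢 = 𝒢 := MulAction.mem_stabilizer_iff.mp hσ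
  rw [← h]
  exact Set.smul_mem_smul_set hS

theorem perm_mem_leechSet {σ : Equiv.Perm GolayPt} (hσ : σ ∈ M24) {x : GolayPt → ℤ}
    (hx : x ∈ leechSet) : (fun i => x (σ i)) ∈ leechSet := by
  rw [mem_leechSet_iff] at hx ⊢
  obtain ⟨m, h1, h2, h3⟩ := hx
  refine ⟨m, fun i => h1 (σ i), ?_, ?_⟩
  · rw [Equiv.sum_comp σ x]; exact h2
  · have : resSet (fun i => x (σ i)) m = σ⁻¹ • resSet x m := by
      ext i
      rw [Finset.mem_inv_smul_finset_iff]
      simp only [mem_resSet, Equiv.Perm.smul_def]
    rw [this]
    exact smul_mem_of_mem_M24 (M24.inv_mem hσ) h3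

theorem sum_mod_four_of_mem {c : Finset GolayPt} (hc : c ∈ 𝒢) {x : GolayPt → ℤ} {m : ℤ}
    (h1 : ∀ i, x i % 2 = m % 2) (h3 : resSet x m ∈ 𝒢) : (∑ i ∈ c, x i) % 4 = 0 := by
  classical
  have key : ∀ i, x i = m + 2 * (if i ∈ resSet x m then 0 else 1)
      + 4 * ((x i - m - 2 * (if i ∈ resSet x m then 0 else 1)) / 4) := by
    intro i
    have := h1 i
    by_cases hi : i ∈ resSet x m
    · have h' := (mem_resSet x m i).mp hi
      simp only [hi, if_true]; omega
    · have h' : ¬ (x i % 4 = m % 4) := fun h => hi ((mem_resSet x m i).mpr h)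
      simp only [hi, if_false]; omega
  rw [Finset.sum_congr rfl (fun i _ => key i)]
  rw [Finset.sum_add_distrib, Finset.sum_add_distrib, ← Finset.mul_sum, ← Finset.mul_sum,
    Finset.sum_const, nsmul_eq_mul]
  have hb : (∑ i ∈ c, (if i ∈ resSet x m then (0 : ℤ) else 1)) = ((c \ resSet x m).card : ℤ) := by
    rw [Finset.sdiff_eq_filter, Finset.card_filter]
    push_cast
    apply Finset.sum_congr rfl
    intro i _
    by_cases hi : i ∈ resSet x m <;> simp [hi]
  rw [hb]
  have h4 := four_dvd_card hc
  have he := even_card_inter hc h3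
  have hcard := Finset.card_sdiff_add_card_inter c (resSet x m)
  obtain ⟨a, ha⟩ := h4
  obtain ⟨b, hb'⟩ := he
  have hsd : ((c \ resSet x m).card : ℤ) = 4 * a - 2 * b := by omega
  rw [hsd, ha]
  push_cast
  generalize (∑ i ∈ c, (x i - m - 2 * (if i ∈ resSet x m then (0:ℤ) else 1)) / 4) = q
  have : (4 * (a:ℤ) * m + 2 * (4 * a - 2 * b) + 4 * q) = 4 * (a * m + 2 * a - b + q) := by ring
  rw [this]
  exact Int.mul_emod_right 4 _


theorem signChange_mem_leechSet {c : Finset GolayPt} (hc : c ∈ 𝒢) {x : GolayPt → ℤ}
    (hx : x ∈ leechSet) : (fun i => if i ∈ c then -x i else x i) ∈ leechSet := by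
  rw [mem_leechSet_iff] at hx ⊢
  obtain ⟨m, h1, h2, h3⟩ := hx
  have hs := sum_mod_four_of_mem hc h1 h3
  refine ⟨m, fun i => ?_, ?_, ?_⟩
  · have := h1 i
    by_cases hi : i ∈ c
    · simp only [hi, if_true]; omega
    · simp only [hi, if_false]; exact this
  · have hsum : (∑ i, (if i ∈ c then -x i else x i)) = (∑ i, x i) - 2 * ∑ i ∈ c, x i := by
      have : ∀ i, (if i ∈ c then -x i else x i) = x i - 2 * (if i ∈ c then x i else 0) := by
        intro i; by_cases hi : i ∈ c <;> simp [hi]; ring
      simp only [this]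
      rw [Finset.sum_sub_distrib, ← Finset.mul_sum, Finset.sum_ite_mem, Finset.univ_inter]
    rw [hsum]; omega
  · have hm : m % 2 = 0 ∨ m % 2 = 1 := by omega
    rcases hm with hm | hm
    · have : resSet (fun i => if i ∈ c then -x i else x i) m = resSet x m := by
        ext i
        simp only [mem_resSet]
        have := h1 i
        by_cases hi : i ∈ c
        · simp only [hi, if_true]; omega
        · simp only [hi, if_false]
      rw [this]; exact h3
    · have : resSet (fun i => if i ∈ c then -x i else x i) m = symmDiff (resSet x m) c := by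
        ext i
        simp only [mem_resSet, Finset.mem_symmDiff]
        have := h1 i
        by_cases hi : i ∈ c
        · simp only [hi, if_true, not_true_eq_false, and_false, true_and, false_or]; omega
        · simp only [hi, if_false, not_false_eq_true, and_true, false_and, or_false]
      rw [this]; exact symmDiff_mem h3 hc


end Cfsg.Agent.Lib.Helper1_Golay
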