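import Mathlib
import Cfsg.Agent.Lib.Helper1_Golay
set_option autoImplicit false
open Cfsg
open scoped Pointwise
namespace Cfsg.Agent.Lib.Helper1_Golay

/-- numbering of the 24 points: `some x ↦ x`, `none ↦ 23`. -/
def idx : GolayPt → ℕ
  | none => 23
  | some x => x.val

/-- inverse numbering -/
def pt (k : ℕ) : GolayPt := if k = 23 then none else some (k : ZMod 23)

theorem idx_lt (p : GolayPt) : idx p < 24 := by
  revert p; decide

theorem pt_idx (p : GolayPt) : pt (idx p) = p := by
  revert p; decide

theorem idx_pt : ∀ k < 24, idx (pt k) = k := by decide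

theorem idx_injective : Function.Injective idx := by
  intro a b h
  rw [← pt_idx a, ← pt_idx b, h]

/-- the word with bit pattern `n` -/
def natWord (n : ℕ) : GolayPt → ZMod 2 := fun p => if n.testBit (idx p) then 1 else 0

theorem natWord_zero : natWord 0 = 0 := by
  funext p; simp [natWord]

theorem natWord_xor (a b : ℕ) : natWord (a ^^^ b) = natWord a + natWord b := by
  funext p
  simp only [natWord, Nat.testBit_xor, Pi.add_apply]
  cases a.testBit (idx p) <;> cases b.testBit (idx p) <;> decide

theorem natWord_injOn {a b : ℕ} (ha : a < 2 ^ 24) (hb : b < 2 ^ 24)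
    (h : natWord a = natWord b) : a = b := by
  apply Nat.eq_of_testBit_eq
  intro i
  by_cases hi : i < 24
  · have := congrFun h (pt i)
    simp only [natWord, idx_pt i hi] at this
    cases h1 : a.testBit i <;> cases h2 : b.testBit i <;> simp [h1, h2] at this ⊢
  · have hi' : 24 ≤ i := not_lt.mp hi
    have h24 : (2:ℕ) ^ 24 ≤ 2 ^ i := Nat.pow_le_pow_right (by decide) hi'
    rw [Nat.testBit_lt_two_pow (lt_of_lt_of_le ha h24),
      Nat.testBit_lt_two_pow (lt_of_lt_of_le hb h24)]

/-- number of ones among the low 24 bits -/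
def popc (n : ℕ) : ℕ := ((List.range 24).filter fun k => n.testBit k).length

theorem card_support₂_natWord (n : ℕ) : (support₂ (natWord n)).card = popc n := by
  have h1 : (support₂ (natWord n)).card = ((support₂ (natWord n)).image idx).card :=
    (Finset.card_image_of_injective _ idx_injective).symm
  have h2 : (support₂ (natWord n)).image idx = (Finset.range 24).filter fun k => n.testBit k := by
    ext k
    simp only [Finset.mem_image, mem_support₂, Finset.mem_filter, Finset.mem_range, natWord]
    constructor
    · rintro ⟨p, hp, rfl⟩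
      refine ⟨idx_lt p, ?_⟩
      by_contra hc
      simp [hc] at hp
    · rintro ⟨hk, hb⟩
      refine ⟨pt k, ?_, idx_pt k hk⟩
      simp [idx_pt k hk, hb]
  rw [h1, h2, popc]
  rw [← List.toFinset_card_of_nodup (List.Nodup.filter _ List.nodup_range)]
  congr 1
  ext k
  simp

theorem hammingNorm_eq (w : GolayPt → ZMod 2) : hammingNorm w = (support₂ w).card := rfl

/-- all XOR-combinations of a list of bit patterns -/
def allWords : List ℕ → List ℕ
  | [] => [0]
  | r :: rs => allWords rs ++ (allWords rs).map (· ^^^ r)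

theorem mem_span_natWord_iff (L : List ℕ) (w : GolayPt → ZMod 2) :
    w ∈ Submodule.span (ZMod 2) (natWord '' {n | n ∈ L}) ↔ ∃ n ∈ allWords L, w = natWord n := by
  induction L generalizing w with
  | nil => simp [allWords, natWord_zero]
  | cons r rs ih =>
    have hset : natWord '' {n | n ∈ r :: rs} = insert (natWord r) (natWord '' {n | n ∈ rs}) := by
      rw [← Set.image_insert_eq]
      congr 1
      ext n
      simp
    rw [hset, Submodule.mem_span_insert]
    constructor
    · rintro ⟨a, z, hz, rfl⟩
      obtain ⟨n, hn, rfl⟩ := (ih z).mp hz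
      have ha : a = 0 ∨ a = 1 := by revert a; decide
      rcases ha with rfl | rfl
      · exact ⟨n, List.mem_append_left _ hn, by simp⟩
      · refine ⟨n ^^^ r, List.mem_append_right _ (List.mem_map.mpr ⟨n, hn, rfl⟩), ?_⟩
        rw [natWord_xor, one_smul, add_comm]
    · rintro ⟨n, hn, rfl⟩
      rcases List.mem_append.mp hn with h | h
      · exact ⟨0, natWord n, (ih _).mpr ⟨n, h, rfl⟩, by simp⟩
      · obtain ⟨k, hk, rfl⟩ := List.mem_map.mp h
        refine ⟨1, natWord k, (ih _).mpr ⟨k, hk, rfl⟩, ?_⟩
        rw [natWord_xor, one_smul, add_comm]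

/-- rows of a systematic generator matrix of the Golay code (leading bits 23, 22, ..., 12). -/
def rows : List ℕ := [8391797, 4196943, 2101096, 1050548, 525274, 262637, 133817, 69395, 36294,
  18147, 10558, 5279]

/-- how the rows are combined out of the defining generators (bit `t` : `qrWord t`, bit 23 : `1`). -/
def coefs : List ℕ := [8390294, 1501, 578, 289, 1505, 1921, 876, 1131, 665, 1085, 690, 345]

/-- the `i`-th row as a word -/
def gen (i : Fin 12) : GolayPt → ZMod 2 := natWord (rows.getD i.val 0)

/-- the information position of the `i`-th row -/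
def pos (i : Fin 12) : GolayPt := pt (23 - i.val)

/-- a combination of the defining generators, coded by a bit pattern -/
def comboWord (c : ℕ) : GolayPt → ZMod 2 :=
  (∑ t : ZMod 23, if c.testBit t.val then qrWord t else 0) + if c.testBit 23 then 1 else 0

theorem comboWord_mem (c : ℕ) : comboWord c ∈ golayCode := by
  unfold comboWord
  apply golayCode.add_mem
  · apply golayCode.sum_mem
    intro t _
    split_ifs
    · exact qrWord_mem_golay t
    · exact golayCode.zero_mem
  · split_ifs
    · exact one_mem_golay
    · exact golayCode.zero_mem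

set_option maxRecDepth 100000 in
theorem gen_eq_combo : ∀ i : Fin 12, ∀ p : GolayPt, gen i p = comboWord (coefs.getD i.val 0) p := by
  decide +kernel

theorem gen_mem (i : Fin 12) : gen i ∈ golayCode := by
  have : gen i = comboWord (coefs.getD i.val 0) := funext (gen_eq_combo i)
  rw [this]; exact comboWord_mem _

set_option maxRecDepth 100000 in
theorem gen_pos : ∀ i j : Fin 12, gen i (pos j) = if i = j then 1 else 0 := by
  decide +kernel

/-- re-encoding a word from its information positions -/
def enc (w : GolayPt → ZMod 2) : GolayPt → ZMod 2 := fun p => ∑ i : Fin 12, w (pos i) * gen i p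

theorem enc_eq (w : GolayPt → ZMod 2) : enc w = ∑ i : Fin 12, w (pos i) • gen i := by
  funext p
  simp [enc, Finset.sum_apply]

theorem enc_mem (w : GolayPt → ZMod 2) : enc w ∈ golayCode := by
  rw [enc_eq]
  exact golayCode.sum_mem fun i _ => golayCode.smul_mem _ (gen_mem i)

set_option maxRecDepth 100000 in
theorem enc_qrWord : ∀ t : ZMod 23, ∀ p : GolayPt, enc (qrWord t) p = qrWord t p := by
  decide +kernel

set_option maxRecDepth 100000 in
theorem enc_one : ∀ p : GolayPt, enc (1 : GolayPt → ZMod 2) p = 1 := by
  decide +kernel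

theorem enc_add (v w : GolayPt → ZMod 2) : enc (v + w) = enc v + enc w := by
  funext p
  simp only [enc, Pi.add_apply, add_mul, Finset.sum_add_distrib]

theorem enc_smul (a : ZMod 2) (w : GolayPt → ZMod 2) : enc (a • w) = a • enc w := by
  funext p
  simp only [enc, Pi.smul_apply, smul_eq_mul, mul_assoc, Finset.mul_sum]

theorem enc_of_mem {w : GolayPt → ZMod 2} (hw : w ∈ golayCode) : enc w = w := by
  unfold golayCode at hw
  induction hw using Submodule.span_induction with
  | mem v hv =>
    rcases hv with ⟨t, rfl⟩ | hv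
    · exact funext (enc_qrWord t)
    · rw [Set.mem_singleton_iff.mp hv]; exact funext enc_one
  | zero => funext p; simp [enc]
  | add x y _ _ hx hy => rw [enc_add, hx, hy]
  | smul a x _ hx => rw [enc_smul, hx]

/-- decidable membership test for the Golay code -/
theorem mem_golay_iff_enc (w : GolayPt → ZMod 2) : w ∈ golayCode ↔ enc w = w :=
  ⟨enc_of_mem, fun h => h ▸ enc_mem w⟩

theorem golay_eq_span_gen : golayCode = Submodule.span (ZMod 2) (Set.range gen) := by
  apply le_antisymm
  · intro w hw
    rw [← enc_of_mem hw, enc_eq]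
    exact Submodule.sum_mem _ fun i _ => Submodule.smul_mem _ _ (Submodule.subset_span ⟨i, rfl⟩)
  · rw [Submodule.span_le]
    rintro _ ⟨i, rfl⟩
    exact gen_mem i

theorem linearIndependent_gen : LinearIndependent (ZMod 2) gen := by
  rw [Fintype.linearIndependent_iff]
  intro c hc j
  have := congrFun hc (pos j)
  simp only [Finset.sum_apply, Pi.smul_apply, smul_eq_mul, gen_pos, Pi.zero_apply] at this
  simpa using this

theorem finrank_golay : Module.finrank (ZMod 2) golayCode = 12 := by
  rw [golay_eq_span_gen, finrank_span_eq_card linearIndependent_gen]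
  simp

theorem range_gen : Set.range gen = natWord '' {n | n ∈ rows} := by
  ext w
  constructor
  · rintro ⟨i, rfl⟩
    exact ⟨rows.getD i.val 0, (by revert i; decide), rfl⟩
  · rintro ⟨n, hn, rfl⟩
    have : ∀ n ∈ rows, ∃ i : Fin 12, rows.getD i.val 0 = n := by decide
    obtain ⟨i, hi⟩ := this n hn
    exact ⟨i, by rw [gen, hi]⟩

/-- every codeword is `natWord n` for one of the 4096 explicit numbers `n`. -/
theorem mem_golay_iff (w : GolayPt → ZMod 2) :
    w ∈ golayCode ↔ ∃ n ∈ allWords rows, w = natWord n := by
  rw [golay_eq_span_gen, range_gen, mem_span_natWord_iff]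

set_option maxRecDepth 1000000 in
theorem allWords_isChain : List.IsChain (· < ·) (allWords rows) := by
  decide +kernel

theorem allWords_pairwise : List.Pairwise (· < ·) (allWords rows) :=
  List.isChain_iff_pairwise.mp allWords_isChain

theorem allWords_nodup : (allWords rows).Nodup :=
  allWords_pairwise.imp (fun h => Nat.ne_of_lt h)

set_option maxRecDepth 1000000 in
theorem allWords_lt : ∀ n ∈ allWords rows, n < 2 ^ 24 := by
  decide +kernel

set_option maxRecDepth 1000000 in
theorem allWords_popc : ∀ n ∈ allWords rows,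
    popc n = 0 ∨ popc n = 8 ∨ popc n = 12 ∨ popc n = 16 ∨ popc n = 24 := by
  decide +kernel

theorem golay_weights (w : GolayPt → ZMod 2) (hw : w ∈ golayCode) :
    (support₂ w).card = 0 ∨ (support₂ w).card = 8 ∨ (support₂ w).card = 12 ∨
      (support₂ w).card = 16 ∨ (support₂ w).card = 24 := by
  obtain ⟨n, hn, rfl⟩ := (mem_golay_iff w).mp hw
  rw [card_support₂_natWord]
  exact allWords_popc n hn

theorem wordsOfWeight_eq (k : ℕ) :
    wordsOfWeight (golayCode : Set (GolayPt → ZMod 2)) k =
      (fun n => support₂ (natWord n)) '' {n | n ∈ (allWords rows).filter (fun n => popc n = k)} := by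
  ext b
  constructor
  · rintro ⟨⟨w, hw, rfl⟩, hcard⟩
    obtain ⟨n, hn, rfl⟩ := (mem_golay_iff w).mp hw
    refine ⟨n, ?_, rfl⟩
    rw [Set.mem_ofPred_eq, List.mem_filter]
    refine ⟨hn, ?_⟩
    rw [card_support₂_natWord] at hcard
    simpa using hcard
  · rintro ⟨n, hn, rfl⟩
    rw [Set.mem_ofPred_eq, List.mem_filter] at hn
    refine ⟨⟨natWord n, (mem_golay_iff _).mpr ⟨n, hn.1, rfl⟩, rfl⟩, ?_⟩
    rw [card_support₂_natWord]
    simpa using hn.2

theorem ncard_wordsOfWeight (k : ℕ) :
    (wordsOfWeight (golayCode : Set (GolayPt → ZMod 2)) k).ncard =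
      ((allWords rows).filter (fun n => popc n = k)).length := by
  rw [wordsOfWeight_eq, Set.InjOn.ncard_image]
  · rw [← List.coe_toFinset, Set.ncard_coe_finset,
      List.toFinset_card_of_nodup (allWords_nodup.filter _)]
  · intro a ha b hb hab
    rw [Set.mem_ofPred_eq, List.mem_filter] at ha hb
    have h : natWord a = natWord b := by
      rw [← ind_support₂ (natWord a), ← ind_support₂ (natWord b)]
      exact congrArg ind hab
    exact natWord_injOn (allWords_lt a ha.1) (allWords_lt b hb.1) h

set_option maxRecDepth 1000000 in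
theorem count_weight8 : ((allWords rows).filter (fun n => popc n = 8)).length = 759 := by
  decide +kernel

set_option maxRecDepth 1000000 in
theorem count_weight12 : ((allWords rows).filter (fun n => popc n = 12)).length = 2576 := by
  decide +kernel

theorem ncard_octads : octads.ncard = 759 := by
  unfold octads
  rw [ncard_wordsOfWeight, count_weight8]

theorem ncard_dodecads : dodecads.ncard = 2576 := by
  unfold dodecads
  rw [ncard_wordsOfWeight, count_weight12]


theorem octads_inter_lt {b1 b2 : Finset GolayPt} (hb1 : b1 ∈ octads) (hb2 : b2 ∈ octads)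
    (h : 5 ≤ (b1 ∩ b2).card) : b1 = b2 := by
  have hsd := symmDiff_mem hb1.1 hb2.1
  obtain ⟨w, hw, hws⟩ := hsd
  have hwt := golay_weights w hw
  rw [hws] at hwt
  have hc := card_symmDiff_add b1 b2
  have h8a := hb1.2
  have h8b := hb2.2
  have h0 : (symmDiff b1 b2).card = 0 := by omega
  exact symmDiff_eq_bot.mp (Finset.card_eq_zero.mp h0)

theorem octads_steiner : IsSteinerSystem 5 8 octads := by
  classical
  have hfin : octads.Finite := Set.toFinite _
  obtain ⟨O, hO⟩ : ∃ O : Finset (Finset GolayPt), O = hfin.toFinset := ⟨_, rfl⟩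
  have hOcard : O.card = 759 := by
    rw [hO, ← Set.ncard_eq_toFinset_card octads hfin]; exact ncard_octads
  have hmemO : ∀ b, b ∈ O ↔ b ∈ octads := fun b => by rw [hO]; exact Set.Finite.mem_toFinset hfin
  have huniq : ∀ s : Finset GolayPt, s.card = 5 → ∀ b1 ∈ octads, ∀ b2 ∈ octads,
      s ⊆ b1 → s ⊆ b2 → b1 = b2 := by
    intro s hs b1 hb1 b2 hb2 h1 h2
    apply octads_inter_lt hb1 hb2
    rw [← hs]; exact Finset.card_le_card (Finset.subset_inter h1 h2)
  refine ⟨fun b hb => hb.2, fun s hs => ?_⟩
  have key := Finset.sum_card_bipartiteAbove_eq_sum_card_bipartiteBelow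
    (fun (s : Finset GolayPt) (b : Finset GolayPt) => s ⊆ b)
    (s := (Finset.univ : Finset GolayPt).powersetCard 5) (t := O)
  have hbelow : ∀ b ∈ O, (Finset.bipartiteBelow (fun (s : Finset GolayPt) (b : Finset GolayPt) => s ⊆ b)
      ((Finset.univ : Finset GolayPt).powersetCard 5) b).card = 56 := by
    intro b hb
    have : Finset.bipartiteBelow (fun (s : Finset GolayPt) (b : Finset GolayPt) => s ⊆ b)
      ((Finset.univ : Finset GolayPt).powersetCard 5) b = b.powersetCard 5 := by
      ext x
      simp only [Finset.bipartiteBelow, Finset.mem_filter, Finset.mem_powersetCard,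
        Finset.subset_univ, true_and]
      exact and_comm
    rw [this, Finset.card_powersetCard, ((hmemO b).mp hb).2]
    decide
  rw [Finset.sum_congr rfl hbelow, Finset.sum_const, hOcard] at key
  have hle : ∀ x ∈ (Finset.univ : Finset GolayPt).powersetCard 5,
      (Finset.bipartiteAbove (fun (s : Finset GolayPt) (b : Finset GolayPt) => s ⊆ b) O x).card ≤ 1 := by
    intro x hx
    rw [Finset.card_le_one]
    intro a ha b hb
    simp only [Finset.bipartiteAbove, Finset.mem_filter] at ha hb
    exact huniq x (Finset.mem_powersetCard.mp hx).2 a ((hmemO a).mp ha.1) b ((hmemO b).mp hb.1)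
      ha.2 hb.2
  have hsum1 : ∑ x ∈ (Finset.univ : Finset GolayPt).powersetCard 5, 1 = 759 • 56 := by
    rw [Finset.sum_const, Finset.card_powersetCard]
    decide
  rw [← hsum1] at key
  have hall := (Finset.sum_eq_sum_iff_of_le hle).mp key
  have hs1 := hall s (Finset.mem_powersetCard.mpr ⟨Finset.subset_univ _, hs⟩)
  obtain ⟨b, hb⟩ := Finset.card_eq_one.mp hs1
  have hbm : b ∈ Finset.bipartiteAbove (fun (s : Finset GolayPt) (b : Finset GolayPt) => s ⊆ b) O s := by
    rw [hb]; exact Finset.mem_singleton_self b
  simp only [Finset.bipartiteAbove, Finset.mem_filter] at hbm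
  refine ⟨b, ⟨(hmemO b).mp hbm.1, hbm.2⟩, ?_⟩
  rintro c ⟨hc1, hc2⟩
  exact huniq s hs c hc1 b ((hmemO b).mp hbm.1) hc2 hbm.2


local notation "𝒢" => supports (golayCode : Set (GolayPt → ZMod 2))

theorem comp_mem_golay (σ : GolayPt → GolayPt)
    (h : ∀ t, (fun p => qrWord t (σ p)) ∈ golayCode) {w : GolayPt → ZMod 2}
    (hw : w ∈ golayCode) : (fun p => w (σ p)) ∈ golayCode := by
  unfold golayCode at hw
  induction hw using Submodule.span_induction with
  | mem v hv =>
    rcases hv with ⟨t, rfl⟩ | hv
    · exact h t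
    · rw [Set.mem_singleton_iff.mp hv]; exact one_mem_golay
  | zero => exact golayCode.zero_mem
  | add x y _ _ hx hy => exact golayCode.add_mem hx hy
  | smul a x _ hx => exact golayCode.smul_mem a hx

theorem mem_M24_of_comp (σ : Equiv.Perm GolayPt)
    (h : ∀ t, (fun p => qrWord t (σ p)) ∈ golayCode) : σ ∈ M24 := by
  have h2 : ∀ S ∈ 𝒢, σ⁻¹ • S ∈ 𝒢 := by
    intro S hS
    rw [mem_supports_iff] at hS ⊢
    have : ind (σ⁻¹ • S) = fun p => ind S (σ p) := by
      funext p
      simp only [ind, Finset.mem_inv_smul_finset_iff, Equiv.Perm.smul_def]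
    rw [this]
    exact comp_mem_golay σ h hS
  have h3 : σ⁻¹ • 𝒢 ⊆ 𝒢 := by
    rintro _ ⟨S, hS, rfl⟩
    exact h2 S hS
  have h4 : σ⁻¹ • 𝒢 = 𝒢 := by
    apply Set.eq_of_subset_of_ncard_le h3 _ (Set.toFinite _)
    rw [← Set.image_smul, Set.ncard_image_of_injective _ (MulAction.injective σ⁻¹)]
  have h5 : σ⁻¹ ∈ M24 := MulAction.mem_stabilizer_iff.mpr h4
  simpa using M24.inv_mem h5


end Cfsg.Agent.Lib.Helper1_Golay
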