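import Mathlib
import Cfsg.Agent.Lib.Helper1_Golay2
set_option autoImplicit false
open Cfsg
open scoped Pointwise
namespace Cfsg.Agent.Lib.Helper1_Leech
open Cfsg.Agent.Lib.Helper1_Golay

local notation "𝒢" => supports (golayCode : Set (GolayPt → ZMod 2))

theorem resSet_mem_of_mem_leechSet {x : GolayPt → ℤ} (hx : x ∈ leechSet) (k : ℤ) :
    resSet x k ∈ 𝒢 := by
  obtain ⟨m, _, _, h3⟩ := hx
  exact h3 k

theorem card_univ_golayPt : (Finset.univ : Finset GolayPt).card = 24 := by decide

/-- all coordinates `≡ 1 mod 4` -/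
theorem sixteen_dvd_of_one {y : GolayPt → ℤ} (hy : y ∈ leechSet) (h1 : ∀ i, y i % 4 = 1) :
    (16 : ℤ) ∣ ∑ i, y i ^ 2 := by
  obtain ⟨m, hm1, hm2, -⟩ := (mem_leechSet_iff y).mp hy
  have hq : ∀ i, y i = 4 * (y i / 4) + 1 := fun i => by have := h1 i; omega
  have hmodd : m % 2 = 1 := by
    have := hm1 none; have := h1 none; omega
  have hsum : ∑ i, y i = 4 * (∑ i, y i / 4) + 24 := by
    conv_lhs => rw [Finset.sum_congr rfl (fun i _ => hq i)]
    rw [Finset.sum_add_distrib, ← Finset.mul_sum, Finset.sum_const, card_univ_golayPt]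
    simp
  have hQ : (∑ i, y i / 4) % 2 = 1 := by omega
  have hsq : ∑ i, y i ^ 2 = 16 * (∑ i, (y i / 4) ^ 2) + 8 * (∑ i, y i / 4) + 24 := by
    conv_lhs => rw [Finset.sum_congr rfl (fun i _ => by rw [hq i])]
    have : ∀ i, (4 * (y i / 4) + 1) ^ 2 = 16 * (y i / 4) ^ 2 + 8 * (y i / 4) + 1 := fun i => by ring
    rw [Finset.sum_congr rfl (fun i _ => this i)]
    rw [Finset.sum_add_distrib, Finset.sum_add_distrib, ← Finset.mul_sum, ← Finset.mul_sum,
      Finset.sum_const, card_univ_golayPt]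
    simp
  rw [hsq]
  omega

/-- all coordinates even -/
theorem sixteen_dvd_of_even {x : GolayPt → ℤ} (hx : x ∈ leechSet) (h0 : ∀ i, x i % 2 = 0) :
    (16 : ℤ) ∣ ∑ i, x i ^ 2 := by
  classical
  have hE := resSet_mem_of_mem_leechSet hx 2
  obtain ⟨a, ha⟩ := four_dvd_card hE
  have hterm : ∀ i, (16 : ℤ) ∣ x i ^ 2 - 4 * (if i ∈ resSet x 2 then 1 else 0) := by
    intro i
    by_cases hi : i ∈ resSet x 2
    · have h' := (mem_resSet x 2 i).mp hi
      obtain ⟨q, hq⟩ : ∃ q, x i = 4 * q + 2 := ⟨x i / 4, by omega⟩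
      simp only [hi, if_true]
      exact ⟨q ^ 2 + q, by rw [hq]; ring⟩
    · have h' : ¬ (x i % 4 = 2 % 4) := fun h => hi ((mem_resSet x 2 i).mpr h)
      have := h0 i
      obtain ⟨q, hq⟩ : ∃ q, x i = 4 * q := ⟨x i / 4, by omega⟩
      simp only [hi, if_false]
      exact ⟨q ^ 2, by rw [hq]; ring⟩
  have hsum : ∑ i, x i ^ 2 = ∑ i, (x i ^ 2 - 4 * (if i ∈ resSet x 2 then 1 else 0))
      + 4 * ((resSet x 2).card : ℤ) := by
    rw [Finset.sum_sub_distrib, ← Finset.mul_sum, Finset.sum_boole]
    simp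
  rw [hsum, ha]
  apply dvd_add (Finset.dvd_sum fun i _ => hterm i)
  refine ⟨a, ?_⟩
  push_cast; ring


theorem sixteen_dvd_sqNorm {x : GolayPt → ℤ} (hx : x ∈ leechSet) : (16 : ℤ) ∣ sqNorm x := by
  classical
  unfold sqNorm
  obtain ⟨m, hm1, hm2, -⟩ := (mem_leechSet_iff x).mp hx
  have hm : m % 2 = 0 ∨ m % 2 = 1 := by omega
  rcases hm with hm | hm
  · exact sixteen_dvd_of_even hx fun i => by have := hm1 i; omega
  · have hc := resSet_mem_of_mem_leechSet hx 3
    have hy := signChange_mem_leechSet hc hx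
    have hy1 : ∀ i, (fun i => if i ∈ resSet x 3 then -x i else x i) i % 4 = 1 := by
      intro i
      have := hm1 i
      by_cases hi : i ∈ resSet x 3
      · have h' := (mem_resSet x 3 i).mp hi
        simp only [hi, if_true]; omega
      · have h' : ¬ (x i % 4 = 3 % 4) := fun h => hi ((mem_resSet x 3 i).mpr h)
        simp only [hi, if_false]; omega
    have h16 := sixteen_dvd_of_one hy hy1
    have : ∑ i, (fun i => if i ∈ resSet x 3 then -x i else x i) i ^ 2 = ∑ i, x i ^ 2 := by
      apply Finset.sum_congr rfl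
      intro i _
      by_cases hi : i ∈ resSet x 3 <;> simp [hi]
    rwa [this] at h16

theorem sqNorm_nonneg' (x : GolayPt → ℤ) (s : Finset GolayPt) :
    ∑ i ∈ s, x i ^ 2 ≤ sqNorm x := by
  unfold sqNorm
  exact Finset.sum_le_sum_of_subset_of_nonneg (Finset.subset_univ s) fun i _ _ => sq_nonneg _

theorem min_norm {x : GolayPt → ℤ} (hx : x ∈ leechSet) (h0 : x ≠ 0) : 32 ≤ sqNorm x := by
  classical
  obtain ⟨m, hm1, hm2, -⟩ := (mem_leechSet_iff x).mp hx
  have h16 := sixteen_dvd_sqNorm hx
  have hm : m % 2 = 0 ∨ m % 2 = 1 := by omega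
  rcases hm with hm | hm
  · -- even coordinates
    have hE := resSet_mem_of_mem_leechSet hx 2
    obtain ⟨w, hw, hwE⟩ := hE
    have hwt := golay_weights w hw
    rw [hwE] at hwt
    by_cases hE0 : (resSet x 2).card = 0
    · -- all coordinates divisible by 4
      have h4 : ∀ i, x i % 4 = 0 := by
        intro i
        have := hm1 i
        by_contra hne
        have : i ∈ resSet x 2 := (mem_resSet x 2 i).mpr (by omega)
        rw [Finset.card_eq_zero] at hE0
        rw [hE0] at this
        exact Finset.notMem_empty i this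
      obtain ⟨j, hj⟩ : ∃ j, x j ≠ 0 := by
        by_contra hcon
        push Not at hcon
        exact h0 (funext hcon)
      by_cases hk : ∃ k, k ≠ j ∧ x k ≠ 0
      · obtain ⟨k, hkj, hk0⟩ := hk
        have h1 := sqNorm_nonneg' x {j, k}
        rw [Finset.sum_pair (Ne.symm hkj)] at h1
        have hj16 : 16 ≤ x j ^ 2 := by
          have := h4 j
          have : 4 ≤ |x j| := by
            rcases abs_cases (x j) with ⟨h, _⟩ | ⟨h, _⟩ <;> omega
          calc (16 : ℤ) = 4 ^ 2 := by norm_num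
            _ ≤ |x j| ^ 2 := by gcongr
            _ = x j ^ 2 := sq_abs _
        have hk16 : 16 ≤ x k ^ 2 := by
          have := h4 k
          have : 4 ≤ |x k| := by
            rcases abs_cases (x k) with ⟨h, _⟩ | ⟨h, _⟩ <;> omega
          calc (16 : ℤ) = 4 ^ 2 := by norm_num
            _ ≤ |x k| ^ 2 := by gcongr
            _ = x k ^ 2 := sq_abs _
        omega
      · push Not at hk
        have hsum : ∑ i, x i = x j := by
          rw [Finset.sum_eq_single j]
          · intro b _ hb; exact hk b hb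
          · intro h; exact absurd (Finset.mem_univ j) h
        rw [hsum] at hm2
        have h1 := sqNorm_nonneg' x {j}
        rw [Finset.sum_singleton] at h1
        have : 8 ≤ |x j| := by
          rcases abs_cases (x j) with ⟨h, _⟩ | ⟨h, _⟩ <;> omega
        have hj64 : 64 ≤ x j ^ 2 := by
          calc (64 : ℤ) = 8 ^ 2 := by norm_num
            _ ≤ |x j| ^ 2 := by gcongr
            _ = x j ^ 2 := sq_abs _
        omega
    · have h8 : 8 ≤ (resSet x 2).card := by omega
      have h1 := sqNorm_nonneg' x (resSet x 2)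
      have h2 : ∑ i ∈ resSet x 2, (4 : ℤ) ≤ ∑ i ∈ resSet x 2, x i ^ 2 := by
        apply Finset.sum_le_sum
        intro i hi
        have h' := (mem_resSet x 2 i).mp hi
        have : 2 ≤ |x i| := by
          rcases abs_cases (x i) with ⟨h, _⟩ | ⟨h, _⟩ <;> omega
        calc (4 : ℤ) = 2 ^ 2 := by norm_num
          _ ≤ |x i| ^ 2 := by gcongr
          _ = x i ^ 2 := sq_abs _
      rw [Finset.sum_const, nsmul_eq_mul] at h2
      have : (8 : ℤ) ≤ ((resSet x 2).card : ℤ) := by exact_mod_cast h8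
      linarith
  · -- odd coordinates
    have h24 : (24 : ℤ) ≤ sqNorm x := by
      unfold sqNorm
      have : ∑ i : GolayPt, (1 : ℤ) ≤ ∑ i, x i ^ 2 := by
        apply Finset.sum_le_sum
        intro i _
        have := hm1 i
        have : 1 ≤ |x i| := by
          rcases abs_cases (x i) with ⟨h, _⟩ | ⟨h, _⟩ <;> omega
        calc (1 : ℤ) = 1 ^ 2 := by norm_num
          _ ≤ |x i| ^ 2 := by gcongr
          _ = x i ^ 2 := sq_abs _
      rw [Finset.sum_const, card_univ_golayPt] at this
      simpa using this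
    omega

end Cfsg.Agent.Lib.Helper1_Leech
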