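import Mathlib
import Cfsg.Agent.Lib.Helper1_Leech
set_option autoImplicit false
open Cfsg
open scoped Pointwise
namespace Cfsg.Agent.Lib.Helper1_Leech
open Cfsg.Agent.Lib.Helper1_Golay

theorem min_norm_lattice {x : GolayPt → ℤ} (hx : x ∈ leechLattice) (h0 : x ≠ 0) :
    32 ≤ sqNorm x := by
  rw [mem_leechLattice_iff] at hx
  exact min_norm hx h0

theorem sqNorm_two_smul (z : GolayPt → ℤ) : sqNorm (2 • z) = 4 * sqNorm z := by
  unfold sqNorm
  rw [Finset.mul_sum]
  apply Finset.sum_congr rfl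
  intro i _
  simp only [Pi.smul_apply, smul_eq_mul]
  ring

theorem sqNorm_add_sub (x y : GolayPt → ℤ) :
    sqNorm (x + y) + sqNorm (x - y) = 2 * sqNorm x + 2 * sqNorm y := by
  unfold sqNorm
  rw [Finset.mul_sum, Finset.mul_sum, ← Finset.sum_add_distrib, ← Finset.sum_add_distrib]
  apply Finset.sum_congr rfl
  intro i _
  simp only [Pi.add_apply, Pi.sub_apply]
  ring

theorem sqNorm_sub (x y : GolayPt → ℤ) :
    sqNorm (x - y) = sqNorm x + sqNorm y - 2 * dotInt x y := by
  unfold sqNorm dotInt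
  rw [Finset.mul_sum, ← Finset.sum_add_distrib, ← Finset.sum_sub_distrib]
  apply Finset.sum_congr rfl
  intro i _
  simp only [Pi.sub_apply]
  ring

theorem sqNorm_neg (x : GolayPt → ℤ) : sqNorm (-x) = sqNorm x := by
  unfold sqNorm
  apply Finset.sum_congr rfl
  intro i _
  simp only [Pi.neg_apply]
  ring

/-- two short vectors congruent modulo twice the lattice -/
theorem short_congruent {x y : GolayPt → ℤ} (hx : x ∈ leechLattice) (hy : y ∈ leechLattice)
    (hxy : x ≠ y) (hxy' : x ≠ -y) (hxn : sqNorm x ≤ 64) (hyn : sqNorm y ≤ 64)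
    (hc : ∃ z ∈ leechLattice, x - y = 2 • z) :
    sqNorm x = 64 ∧ sqNorm y = 64 ∧ dotInt x y = 0 := by
  obtain ⟨z, hz, hxz⟩ := hc
  have hz0 : z ≠ 0 := by
    rintro rfl
    rw [smul_zero, sub_eq_zero] at hxz
    exact hxy hxz
  have h1 : 128 ≤ sqNorm (x - y) := by
    rw [hxz, sqNorm_two_smul]
    have := min_norm_lattice hz hz0
    omega
  have hxy2 : x + y = 2 • (z + y) := by
    rw [smul_add, ← hxz]
    funext i
    simp only [Pi.add_apply, Pi.sub_apply, Pi.smul_apply, smul_eq_mul]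
    ring
  have hzy0 : z + y ≠ 0 := by
    intro h
    rw [h, smul_zero] at hxy2
    exact hxy' (eq_neg_of_add_eq_zero_left hxy2)
  have h2 : 128 ≤ sqNorm (x + y) := by
    rw [hxy2, sqNorm_two_smul]
    have := min_norm_lattice (leechLattice.add_mem hz hy) hzy0
    omega
  have h3 := sqNorm_add_sub x y
  have h4 := sqNorm_sub x y
  refine ⟨by omega, by omega, by omega⟩

end Cfsg.Agent.Lib.Helper1_Leech
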