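import Mathlib
import Cfsg.Agent.Lib.Helper1_Leech2
import Cfsg.Prelude.Def_SporadicCombinatorics
set_option autoImplicit false
open Cfsg
open scoped Pointwise
namespace Cfsg.Agent.Lib.Helper1_Co0
open Cfsg.Agent.Lib.Helper1_Golay Cfsg.Agent.Lib.Helper1_Leech

local notation "𝒢" => supports (golayCode : Set (GolayPt → ZMod 2))

theorem signedPerm_mem {σ : Equiv.Perm GolayPt} (hσ : σ ∈ M24) {c : Finset GolayPt} (hc : c ∈ 𝒢)
    {x : GolayPt → ℤ} (hx : x ∈ leechLattice) : signedPerm σ c x ∈ leechLattice := by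
  rw [mem_leechLattice_iff] at hx ⊢
  have h1 : (fun i => x (σ⁻¹ i)) ∈ leechSet := perm_mem_leechSet (M24.inv_mem hσ) hx
  exact signChange_mem_leechSet hc h1

theorem signedPerm_add (σ : Equiv.Perm GolayPt) (c : Finset GolayPt) (x y : GolayPt → ℤ) :
    signedPerm σ c (x + y) = signedPerm σ c x + signedPerm σ c y := by
  funext i
  unfold signedPerm
  by_cases hi : i ∈ c
  · simp only [hi, if_true, Pi.add_apply]; ring
  · simp only [hi, if_false, Pi.add_apply]

theorem sqNorm_signedPerm (σ : Equiv.Perm GolayPt) (c : Finset GolayPt) (x : GolayPt → ℤ) :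
    sqNorm (signedPerm σ c x) = sqNorm x := by
  unfold sqNorm signedPerm
  have : ∀ i, (if i ∈ c then -x (σ.symm i) else x (σ.symm i)) ^ 2 = (fun j => x j ^ 2) (σ.symm i) := by
    intro i
    by_cases hi : i ∈ c
    · simp only [hi, if_true]; ring
    · simp only [hi, if_false]
  rw [Finset.sum_congr rfl (fun i _ => this i)]
  exact Equiv.sum_comp σ.symm (fun j => x j ^ 2)

theorem signedPerm_inv (σ : Equiv.Perm GolayPt) (c : Finset GolayPt) (x : GolayPt → ℤ) :
    signedPerm σ⁻¹ (σ⁻¹ • c) (signedPerm σ c x) = x := by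
  funext j
  unfold signedPerm
  have hmem : j ∈ σ⁻¹ • c ↔ σ j ∈ c := by
    rw [Finset.mem_inv_smul_finset_iff]; rfl
  have h1 : (σ⁻¹).symm j = σ j := rfl
  have h2 : σ.symm (σ j) = j := by simp
  by_cases hj : σ j ∈ c
  · simp only [hmem, hj, if_true, h1, h2, neg_neg]
  · simp only [hmem, hj, if_false, h1, h2]

theorem signedPerm_inv' (σ : Equiv.Perm GolayPt) (c : Finset GolayPt) (x : GolayPt → ℤ) :
    signedPerm σ c (signedPerm σ⁻¹ (σ⁻¹ • c) x) = x := by
  have := signedPerm_inv σ⁻¹ (σ⁻¹ • c) x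
  rw [inv_inv, smul_inv_smul] at this
  exact this

/-- the monomial automorphism of the lattice attached to `σ ∈ M24` and a `𝒢`-set `c` -/
def mono (σ : Equiv.Perm GolayPt) (hσ : σ ∈ M24) (c : Finset GolayPt) (hc : c ∈ 𝒢) :
    Equiv.Perm ↥leechLattice where
  toFun v := ⟨signedPerm σ c v.1, signedPerm_mem hσ hc v.2⟩
  invFun v := ⟨signedPerm σ⁻¹ (σ⁻¹ • c) v.1,
    signedPerm_mem (M24.inv_mem hσ) (smul_mem_of_mem_M24 (M24.inv_mem hσ) hc) v.2⟩
  left_inv v := Subtype.ext (signedPerm_inv σ c v.1)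
  right_inv v := Subtype.ext (signedPerm_inv' σ c v.1)

theorem mono_mem_Co0 (σ : Equiv.Perm GolayPt) (hσ : σ ∈ M24) (c : Finset GolayPt) (hc : c ∈ 𝒢) :
    mono σ hσ c hc ∈ Co0 := by
  refine ⟨fun v w => ?_, fun v => ?_⟩
  · apply Subtype.ext
    exact signedPerm_add σ c v.1 w.1
  · exact sqNorm_signedPerm σ c v.1

/-- the monomial automorphism as an element of `Co0` -/
def monoCo (σ : Equiv.Perm GolayPt) (hσ : σ ∈ M24) (c : Finset GolayPt) (hc : c ∈ 𝒢) : ↥Co0 :=
  ⟨mono σ hσ c hc, mono_mem_Co0 σ hσ c hc⟩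

theorem monoCo_smul (σ : Equiv.Perm GolayPt) (hσ : σ ∈ M24) (c : Finset GolayPt) (hc : c ∈ 𝒢)
    (v : ↥leechLattice) :
    ((monoCo σ hσ c hc • v : ↥leechLattice) : GolayPt → ℤ) = signedPerm σ c v.1 := rfl

/-- negation -/
def negCo : ↥Co0 := monoCo 1 M24.one_mem Finset.univ univ_mem

theorem negCo_smul (v : ↥leechLattice) :
    ((negCo • v : ↥leechLattice) : GolayPt → ℤ) = -(v : GolayPt → ℤ) := by
  show signedPerm 1 Finset.univ v.1 = -v.1
  funext i
  unfold signedPerm
  simp only [Finset.mem_univ, if_true, Pi.neg_apply]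
  rfl

theorem smul_add_Co0 (g : ↥Co0) (v w : ↥leechLattice) : g • (v + w) = g • v + g • w := g.2.1 v w

theorem smul_zero_Co0 (g : ↥Co0) : g • (0 : ↥leechLattice) = 0 := by
  have := smul_add_Co0 g 0 0
  rw [add_zero] at this
  exact (add_eq_left.1 this.symm)

theorem smul_neg_Co0 (g : ↥Co0) (v : ↥leechLattice) : g • (-v) = -(g • v) := by
  have := smul_add_Co0 g v (-v)
  rw [add_neg_cancel, smul_zero_Co0] at this
  exact (neg_eq_of_add_eq_zero_right this.symm).symm

theorem negCo_smul' (v : ↥leechLattice) : negCo • v = -v := Subtype.ext (negCo_smul v)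

theorem negCo_comm (g : ↥Co0) : g * negCo = negCo * g := by
  apply Subtype.ext
  apply Equiv.ext
  intro v
  show g • (negCo • v) = negCo • (g • v)
  rw [negCo_smul', negCo_smul', smul_neg_Co0]

theorem negCo_ne_one : negCo ≠ 1 := by
  intro h
  -- a nonzero lattice vector
  let w : GolayPt → ℤ := fun _ => 2
  have hw : w ∈ leechLattice := by
    rw [mem_leechLattice_iff, mem_leechSet_iff]
    refine ⟨0, fun i => rfl, by simp [w], ?_⟩
    have : resSet w 0 = ∅ := by
      ext i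
      simp [mem_resSet, w]
    rw [this]; exact empty_mem
  have := negCo_smul ⟨w, hw⟩
  rw [h, one_smul] at this
  have h2 := congrFun this none
  simp [w] at h2

end Cfsg.Agent.Lib.Helper1_Co0
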