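import Mathlib
import Cfsg.Agent.Lib.Helper1_OctadsData
set_option autoImplicit false
open Cfsg
open scoped Pointwise
namespace Cfsg.Agent.Lib.Helper1_Chain
open Cfsg.Agent.Lib.Helper1_Golay

set_option maxRecDepth 100000 in
theorem Fset_eq_maskSet : ∀ k ∈ [0, 2, 4], Fset k = maskSet (2 ^ k - 1) := by decide +kernel

theorem octad_eq_maskSet {o : Finset GolayPt} (ho : o ∈ octads) :
    ∃ n ∈ allWords rows, popc n = 8 ∧ o = maskSet n := by
  have ho' : o ∈ wordsOfWeight (golayCode : Set (GolayPt → ZMod 2)) 8 := ho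
  rw [wordsOfWeight_eq] at ho'
  obtain ⟨n, hn, hno⟩ := ho'
  rw [Set.mem_ofPred_eq, List.mem_filter] at hn
  refine ⟨n, hn.1, by simpa using hn.2, ?_⟩
  rw [maskSet_eq_support₂]; exact hno.symm

theorem card_inter_octads {o o' : Finset GolayPt} (ho : o ∈ octads) (ho' : o' ∈ octads) :
    (o ∩ o').card = 0 ∨ (o ∩ o').card = 2 ∨ (o ∩ o').card = 4 ∨ o = o' := by
  have heven := even_card_inter ho.1 ho'.1
  by_cases h5 : 5 ≤ (o ∩ o').card
  · exact Or.inr (Or.inr (Or.inr (octads_inter_lt ho ho' h5)))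
  · obtain ⟨r, hr⟩ := heven
    omega

/-- standard form of a pair of octads meeting in `k = 0, 2, 4` points -/
theorem octad_pair_std {o o' : Finset GolayPt} (ho : o ∈ octads) (ho' : o' ∈ octads) {k : ℕ}
    (hk : k ∈ [0, 2, 4]) (hkc : (o ∩ o').card = k) :
    ∃ g ∈ M24, g • maskSet Omask = o ∧ g • maskSet ((LO k).headD 0) = o' := by
  have hk5 : k ≤ 5 := by
    simp only [List.mem_cons, List.mem_nil_iff, or_false] at hk
    omega
  obtain ⟨g1, hg1, hg1o, hg1s⟩ := exists_std ho (Finset.inter_subset_left : o ∩ o' ⊆ o) hkc hk5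
  have hX : g1⁻¹ • o' ∈ octads := smul_mem_octads (M24.inv_mem hg1) ho'
  obtain ⟨n, hn, hn8, hXn⟩ := octad_eq_maskSet hX
  have hinter : maskSet Omask ∩ g1⁻¹ • o' = Fset k := by
    have h1 : g1⁻¹ • (o ∩ o') = maskSet Omask ∩ g1⁻¹ • o' := by
      rw [Finset.smul_finset_inter, ← hg1o, inv_smul_smul]
    rw [← h1, ← hg1s, inv_smul_smul]
  have hand : Omask &&& n = 2 ^ k - 1 := by
    apply maskSet_inj (lt_of_le_of_lt Nat.and_le_left (by decide)) _
    · rw [maskSet_and, ← hXn, hinter, Fset_eq_maskSet k hk]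
    · simp only [List.mem_cons, List.mem_nil_iff, or_false] at hk
      rcases hk with rfl | rfl | rfl <;> decide
  have hnL := LO_complete k hk n hn hn8 hand
  obtain ⟨t, ht, htr⟩ := TO_trans k hk n hnL
  obtain ⟨σ, hσ, hσt⟩ := exists_perm_of_good (TO_good k hk t ht)
  have hσO : σ • maskSet Omask = maskSet Omask := smul_maskSet_of_table hσt (TO_stab k hk t ht)
  have hσX : σ • maskSet ((LO k).headD 0) = maskSet n := smul_maskSet_of_table hσt htr
  refine ⟨g1 * σ, M24.mul_mem hg1 hσ, ?_, ?_⟩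
  · rw [mul_smul, hσO, hg1o]
  · rw [mul_smul, hσX, ← hXn, smul_inv_smul]

/-- the stabilizer of an octad is transitive on the octads meeting it in a given number of points -/
theorem octad_stab_trans {o o' o'' : Finset GolayPt} (ho : o ∈ octads) (ho' : o' ∈ octads)
    (ho'' : o'' ∈ octads) (h : (o ∩ o').card = (o ∩ o'').card) :
    ∃ g ∈ M24, g • o = o ∧ g • o' = o'' := by
  have key : ∀ k ∈ [0, 2, 4], (o ∩ o').card = k → ∃ g ∈ M24, g • o = o ∧ g • o' = o'' := by
    intro k hk hkc
    obtain ⟨g', hg', hg'o, hg'x⟩ := octad_pair_std ho ho' hk hkc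
    obtain ⟨g'', hg'', hg''o, hg''x⟩ := octad_pair_std ho ho'' hk (h ▸ hkc)
    refine ⟨g'' * g'⁻¹, M24.mul_mem hg'' (M24.inv_mem hg'), ?_, ?_⟩
    · rw [mul_smul, ← hg'o, inv_smul_smul, hg''o, hg'o]
    · rw [mul_smul, ← hg'x, inv_smul_smul, hg''x]
  rcases card_inter_octads ho ho' with h0 | h2 | h4 | heq
  · exact key 0 (by decide) h0
  · exact key 2 (by decide) h2
  · exact key 4 (by decide) h4
  · subst heq
    have h8 : (o ∩ o'').card = 8 := by rw [← h, Finset.inter_self, ho.2]
    have := octads_inter_lt ho ho'' (by omega)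
    subst this
    exact ⟨1, M24.one_mem, one_smul _ _, one_smul _ _⟩

set_option maxRecDepth 1000000 in
theorem count_Omask : ∀ k ∈ [0, 2, 4], ((allWords rows).filter
    (fun n => popc n = 8 ∧ popc (n &&& Omask) = k)).length = [30, 0, 448, 0, 280].getD k 0 := by
  decide +kernel

/-- the number of octads meeting a given octad in 0, 2, 4 points -/
theorem ncard_octads_inter_octad {o : Finset GolayPt} (ho : o ∈ octads) :
    {o' : Finset GolayPt | o' ∈ octads ∧ (o' ∩ o).card = 0}.ncard = 30 ∧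
    {o' : Finset GolayPt | o' ∈ octads ∧ (o' ∩ o).card = 2}.ncard = 448 ∧
    {o' : Finset GolayPt | o' ∈ octads ∧ (o' ∩ o).card = 4}.ncard = 280 := by
  obtain ⟨g, hg, hgd⟩ := M24_octad_transitive (maskSet_mem_octads Omask_isOctad) ho
  rw [← hgd]
  refine ⟨?_, ?_, ?_⟩
  · rw [octads_inter_smul hg, Set.ncard_image_of_injective _ (MulAction.injective g),
      octads_inter_eq, ncard_image_maskSet, count_Omask 0 (by decide)]; rfl
  · rw [octads_inter_smul hg, Set.ncard_image_of_injective _ (MulAction.injective g),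
      octads_inter_eq, ncard_image_maskSet, count_Omask 2 (by decide)]; rfl
  · rw [octads_inter_smul hg, Set.ncard_image_of_injective _ (MulAction.injective g),
      octads_inter_eq, ncard_image_maskSet, count_Omask 4 (by decide)]; rfl

set_option maxRecDepth 1000000 in
theorem count_Omask_eq : ∀ k ∈ [2, 4], ((allWords rows).filter
    (fun n => popc n = 8 ∧ Omask &&& n = 2 ^ k - 1)).length = [0, 0, 16, 0, 4].getD k 0 := by
  decide +kernel

/-- the number of octads meeting a given octad exactly in a given 2-subset (resp. 4-subset) -/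
theorem ncard_octads_inter_eq {o s : Finset GolayPt} (ho : o ∈ octads) (hs : s ⊆ o) {k : ℕ}
    (hk : k ∈ [2, 4]) (hsk : s.card = k) :
    {o' : Finset GolayPt | o' ∈ octads ∧ o ∩ o' = s}.ncard = [0, 0, 16, 0, 4].getD k 0 := by
  have hk5 : k ≤ 5 := by
    simp only [List.mem_cons, List.mem_nil_iff, or_false] at hk
    omega
  have hk' : k ∈ [0, 2, 4] := by
    simp only [List.mem_cons, List.mem_nil_iff, or_false] at hk ⊢
    omega
  obtain ⟨g, hg, hgo, hgs⟩ := exists_std ho hs hsk hk5
  have hset : {o' : Finset GolayPt | o' ∈ octads ∧ o ∩ o' = s} =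
      {o' : Finset GolayPt | o' ∈ wordsOfWeight (golayCode : Set (GolayPt → ZMod 2)) 8 ∧
        (fun x => maskSet Omask ∩ x = Fset k) (g⁻¹ • o')} := by
    ext o'
    constructor
    · rintro ⟨h1, h2⟩
      refine ⟨h1, ?_⟩
      show maskSet Omask ∩ g⁻¹ • o' = Fset k
      rw [← hgs, ← hgo] at h2
      rw [← inv_smul_smul g (maskSet Omask), ← Finset.smul_finset_inter, h2, inv_smul_smul]
    · rintro ⟨h1, h2⟩
      refine ⟨h1, ?_⟩
      have h2' : maskSet Omask ∩ g⁻¹ • o' = Fset k := h2
      rw [← hgs, ← hgo, ← h2', Finset.smul_finset_inter, smul_inv_smul]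
  have hcount := ncard_words_smul hg 8 (fun x : Finset GolayPt => maskSet Omask ∩ x = Fset k)
    (fun n => Omask &&& n = 2 ^ k - 1) (by
      intro n hn
      rw [← maskSet_and, Fset_eq_maskSet k hk']
      constructor
      · intro h
        apply maskSet_inj (lt_of_le_of_lt Nat.and_le_left (by decide)) _ h
        simp only [List.mem_cons, List.mem_nil_iff, or_false] at hk
        rcases hk with rfl | rfl <;> decide
      · intro h; rw [h])
  rw [hset]
  exact hcount.trans (count_Omask_eq k hk)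

end Cfsg.Agent.Lib.Helper1_Chain
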