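import Mathlib
import Cfsg.Agent.Lib.Helper1_Octads2
set_option autoImplicit false
open Cfsg
open scoped Pointwise
namespace Cfsg.Agent.Lib.Helper1_Chain
open Cfsg.Agent.Lib.Helper1_Golay

/-- `M24` maps any list of at most five distinct points to any other such list of the same length -/
theorem exists_map_lists {l l' : List GolayPt} (hl : l.Nodup) (hl' : l'.Nodup)
    (hlen : l.length = l'.length) (h5 : l.length ≤ 5) : ∃ g ∈ M24, l.map g = l' := by
  have key : ∀ l : List GolayPt, l.Nodup → l.length ≤ 5 →
      ∃ g ∈ M24, ∀ i, ∀ hi : i < l.length, g (bpt i) = l[i] := by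
    intro l hl h5
    obtain ⟨g, hg, hgx⟩ := exists_map_base_fun (fun i => l.getD i (pt 0)) l.length h5 (by
      intro i hi j hj hij
      rw [List.getD_eq_getElem _ _ hi, List.getD_eq_getElem _ _ hj] at hij
      exact (List.Nodup.getElem_inj_iff hl).1 hij)
    refine ⟨g, hg, fun i hi => ?_⟩
    rw [hgx i hi]
    exact List.getD_eq_getElem _ _ hi
  obtain ⟨g1, hg1, h1⟩ := key l hl h5
  obtain ⟨g2, hg2, h2⟩ := key l' hl' (hlen ▸ h5)
  refine ⟨g2 * g1⁻¹, M24.mul_mem hg2 (M24.inv_mem hg1), ?_⟩
  apply List.ext_getElem
  · rw [List.length_map, hlen]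
  · intro i hi hi'
    rw [List.getElem_map]
    have hil : i < l.length := by rwa [List.length_map] at hi
    rw [← h1 i hil, ← h2 i hi']
    simp

theorem smul_toFinset_toList (g : Equiv.Perm GolayPt) (s : Finset GolayPt) :
    g • s = (s.toList.map g).toFinset := by
  ext p
  rw [List.mem_toFinset, List.mem_map, Finset.mem_smul_finset]
  constructor
  · rintro ⟨q, hq, rfl⟩
    exact ⟨q, Finset.mem_toList.2 hq, rfl⟩
  · rintro ⟨q, hq, rfl⟩
    exact ⟨q, Finset.mem_toList.1 hq, rfl⟩

/-- `M24` maps a pair of sets `(s, y)` to `(s, z)` when the intersection patterns agree and at most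
five points are involved -/
theorem exists_stab_map {s y z : Finset GolayPt} (h1 : (s ∩ y).card = (s ∩ z).card)
    (h2 : y.card = z.card) (h5 : (s ∪ y).card ≤ 5) :
    ∃ g ∈ M24, g • s = s ∧ g • y = z := by
  classical
  have hsy : (s \ y).card = (s \ z).card := by
    have a1 := Finset.card_sdiff_add_card_inter s y
    have a2 := Finset.card_sdiff_add_card_inter s z
    omega
  have hys : (y \ s).card = (z \ s).card := by
    have a1 := Finset.card_sdiff_add_card_inter y s
    have a2 := Finset.card_sdiff_add_card_inter z s
    rw [Finset.inter_comm] at a1 a2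
    omega
  have hnd : ∀ a b : Finset GolayPt,
      ((a ∩ b).toList ++ ((a \ b).toList ++ (b \ a).toList)).Nodup := by
    intro a b
    rw [List.nodup_append]
    refine ⟨Finset.nodup_toList _, ?_, ?_⟩
    · rw [List.nodup_append]
      refine ⟨Finset.nodup_toList _, Finset.nodup_toList _, ?_⟩
      intro p hp q hq hpq
      rw [Finset.mem_toList, Finset.mem_sdiff] at hp hq
      rw [hpq] at hp
      exact hq.2 hp.1
    · intro p hp q hq hpq
      rw [Finset.mem_toList, Finset.mem_inter] at hp
      rw [List.mem_append, Finset.mem_toList, Finset.mem_toList, Finset.mem_sdiff,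
        Finset.mem_sdiff] at hq
      rw [hpq] at hp
      rcases hq with hq | hq
      · exact hq.2 hp.2
      · exact hq.2 hp.1
  have hlen : ∀ a b : Finset GolayPt,
      ((a ∩ b).toList ++ ((a \ b).toList ++ (b \ a).toList)).length = (a ∪ b).card := by
    intro a b
    rw [List.length_append, List.length_append, Finset.length_toList, Finset.length_toList,
      Finset.length_toList]
    have e1 := Finset.card_sdiff_add_card_inter a b
    have e2 := Finset.card_sdiff_add_card_inter b a
    have e3 := Finset.card_union_add_card_inter a b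
    rw [Finset.inter_comm] at e2
    omega
  have hll : ((s ∩ y).toList ++ ((s \ y).toList ++ (y \ s).toList)).length =
      ((s ∩ z).toList ++ ((s \ z).toList ++ (z \ s).toList)).length := by
    rw [List.length_append, List.length_append, List.length_append, List.length_append,
      Finset.length_toList, Finset.length_toList, Finset.length_toList, Finset.length_toList,
      Finset.length_toList, Finset.length_toList, h1, hsy, hys]
  obtain ⟨g, hg, hgl⟩ := exists_map_lists (hnd s y) (hnd s z) hll (by rw [hlen]; exact h5)
  rw [List.map_append, List.map_append] at hgl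
  have e1 := List.append_inj hgl (by
    rw [List.length_map, Finset.length_toList, Finset.length_toList, h1])
  have e2 := List.append_inj e1.2 (by
    rw [List.length_map, Finset.length_toList, Finset.length_toList, hsy])
  have hA : g • (s ∩ y) = s ∩ z := by
    rw [smul_toFinset_toList, e1.1, Finset.toList_toFinset]
  have hB : g • (s \ y) = s \ z := by
    rw [smul_toFinset_toList, e2.1, Finset.toList_toFinset]
  have hC : g • (y \ s) = z \ s := by
    rw [smul_toFinset_toList, e2.2, Finset.toList_toFinset]
  refine ⟨g, hg, ?_, ?_⟩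
  · have : s = (s ∩ y) ∪ (s \ y) := by
      ext p; simp only [Finset.mem_union, Finset.mem_inter, Finset.mem_sdiff]; tauto
    rw [this, Finset.smul_finset_union, hA, hB]
    ext p; simp only [Finset.mem_union, Finset.mem_inter, Finset.mem_sdiff]; tauto
  · have : y = (s ∩ y) ∪ (y \ s) := by
      ext p; simp only [Finset.mem_union, Finset.mem_inter, Finset.mem_sdiff]; tauto
    rw [this, Finset.smul_finset_union, hA, hC]
    ext p; simp only [Finset.mem_union, Finset.mem_inter, Finset.mem_sdiff]; tauto

/-- counting `k`-subsets with a property, transported by a permutation -/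
theorem ncard_ksubsets_smul (g : Equiv.Perm GolayPt) (k : ℕ) (P : Finset GolayPt → Prop)
    [DecidablePred P] :
    {y : Finset GolayPt | y.card = k ∧ P (g⁻¹ • y)}.ncard =
      ((Finset.powersetCard k (Finset.univ : Finset GolayPt)).filter P).card := by
  have h1 : {y : Finset GolayPt | y.card = k ∧ P (g⁻¹ • y)} =
      (fun y => g • y) '' {y : Finset GolayPt | y.card = k ∧ P y} := by
    ext y
    constructor
    · rintro ⟨hy, hp⟩
      exact ⟨g⁻¹ • y, ⟨by rw [Finset.card_smul_finset]; exact hy, hp⟩, smul_inv_smul g y⟩
    · rintro ⟨y', ⟨hy, hp⟩, rfl⟩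
      refine ⟨by rw [Finset.card_smul_finset]; exact hy, ?_⟩
      change P (g⁻¹ • g • y')
      rw [inv_smul_smul]; exact hp
  rw [h1, Set.ncard_image_of_injective _ (MulAction.injective g)]
  have h2 : {y : Finset GolayPt | y.card = k ∧ P y} =
      (((Finset.powersetCard k (Finset.univ : Finset GolayPt)).filter P : Finset _) : Set _) := by
    ext y
    simp [Finset.mem_powersetCard]
  rw [h2, Set.ncard_coe_finset]

end Cfsg.Agent.Lib.Helper1_Chain
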