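import Mathlib
import Cfsg.Agent.Lib.Helper1_Trans
set_option autoImplicit false
open Cfsg
open scoped Pointwise
namespace Cfsg.Agent.Lib.Helper1_Chain
open Cfsg.Agent.Lib.Helper1_Golay

/-- the dodecads meeting `d0` in six points, five of which are the first five base points -/
def LD6 : List ℕ := [1667135, 2697887, 5027871, 5400735, 6095071, 7411999, 9200031, 10516575, 11472927, 11649183, 13914655, 14944447]

/-- elements of the stabilizer of `d0` moving the first entry of `LD6` to the others -/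
def TD6 : List (List ℕ) := [
  [0, 1, 2, 3, 4, 5, 6, 7, 8, 9, 10, 11, 12, 13, 14, 15, 16, 17, 18, 19, 20, 21, 22, 23],
  [3, 9, 0, 2, 4, 1, 17, 23, 5, 15, 8, 18, 21, 19, 11, 10, 16, 6, 14, 13, 7, 20, 12, 22],
  [3, 2, 0, 15, 4, 1, 6, 20, 17, 10, 5, 21, 22, 11, 19, 9, 18, 8, 7, 12, 13, 23, 14, 16],
  [0, 17, 4, 2, 3, 1, 5, 19, 9, 8, 6, 16, 13, 20, 11, 10, 14, 15, 18, 22, 7, 23, 12, 21],
  [6, 1, 2, 0, 3, 4, 5, 11, 10, 15, 9, 12, 22, 7, 20, 17, 16, 8, 23, 18, 19, 21, 13, 14],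
  [3, 1, 2, 0, 8, 4, 17, 19, 6, 5, 15, 14, 16, 20, 12, 9, 22, 10, 13, 11, 21, 18, 23, 7],
  [3, 4, 1, 2, 8, 0, 9, 11, 6, 17, 5, 20, 13, 14, 7, 15, 23, 10, 22, 18, 19, 21, 16, 12],
  [0, 4, 1, 3, 2, 6, 17, 7, 15, 8, 10, 18, 12, 23, 21, 9, 13, 5, 20, 14, 11, 19, 22, 16],
  [1, 4, 0, 3, 17, 2, 9, 22, 6, 15, 8, 13, 18, 19, 12, 5, 16, 10, 11, 21, 23, 20, 14, 7],
  [0, 2, 4, 15, 1, 3, 8, 11, 6, 10, 17, 18, 21, 23, 20, 9, 16, 5, 12, 7, 14, 19, 13, 22],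
  [3, 9, 4, 1, 2, 0, 6, 16, 5, 8, 17, 19, 20, 18, 14, 10, 22, 15, 21, 23, 12, 11, 7, 13],
  [3, 4, 5, 0, 1, 2, 10, 16, 9, 8, 6, 19, 21, 18, 22, 17, 7, 15, 13, 11, 23, 12, 14, 20]
]

set_option maxRecDepth 1000000 in
theorem LD6_complete : ∀ n ∈ allWords rows, popc n = 12 → popc (d0 &&& n) = 6 →
    31 &&& n = 31 → n ∈ LD6 := by
  decide +kernel

set_option maxRecDepth 1000000 in
theorem LD4_unique : ∀ n ∈ allWords rows, popc n = 12 → d0 &&& n = 15 → n = 13195407 := by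
  decide +kernel

set_option maxRecDepth 1000000 in
theorem TD6_good : ∀ t ∈ TD6, GoodTable t := by
  decide +kernel

set_option maxRecDepth 1000000 in
theorem TD6_stab : ∀ t ∈ TD6, ∀ p, d0.testBit (idx p) = d0.testBit (idx (tfun t p)) := by
  decide +kernel

set_option maxRecDepth 1000000 in
theorem TD6_trans : ∀ n ∈ LD6, ∃ t ∈ TD6, ∀ p,
    (LD6.headD 0).testBit (idx p) = n.testBit (idx (tfun t p)) := by
  decide +kernel

set_option maxRecDepth 1000000 in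
theorem count_d0_dodecads : ∀ k ∈ [4, 6, 8], ((allWords rows).filter
    (fun n => popc n = 12 ∧ popc (d0 &&& n) = k)).length = [0, 0, 0, 0, 495, 0, 1584, 0, 495].getD k 0 := by
  decide +kernel

end Cfsg.Agent.Lib.Helper1_Chain
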