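import Mathlib
import Cfsg.Agent.Lib.Helper1_DodecadsData
set_option autoImplicit false
open Cfsg
open scoped Pointwise
namespace Cfsg.Agent.Lib.Helper1_Chain
open Cfsg.Agent.Lib.Helper1_Golay

theorem dodecad_eq_maskSet {o : Finset GolayPt} (ho : o ∈ dodecads) :
    ∃ n ∈ allWords rows, popc n = 12 ∧ o = maskSet n := by
  have ho' : o ∈ wordsOfWeight (golayCode : Set (GolayPt → ZMod 2)) 12 := ho
  rw [wordsOfWeight_eq] at ho'
  obtain ⟨n, hn, hno⟩ := ho'
  rw [Set.mem_ofPred_eq, List.mem_filter] at hn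
  refine ⟨n, hn.1, by simpa using hn.2, ?_⟩
  rw [maskSet_eq_support₂]; exact hno.symm

/-- move the reference dodecad and the first `k` base points to a dodecad and a `k`-subset -/
theorem exists_std_dodecad {d s : Finset GolayPt} {k : ℕ} (hd : d ∈ dodecads) (hsd : s ⊆ d)
    (hs : s.card = k) (hk : k ≤ 5) :
    ∃ g ∈ M24, g • maskSet d0 = d ∧ g • Fset k = s := by
  classical
  obtain ⟨t, hst, htd, ht⟩ := Finset.exists_subsuperset_card_eq hsd (by omega : s.card ≤ 5)
    (by rw [hd.2]; decide)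
  obtain ⟨x, hxinj, hxt, hxs⟩ := exists_enum hst hs ht
  let e : Fin 5 ↪ GolayPt := ⟨fun i => x i.val, fun i j hij =>
    Fin.ext (hxinj i.val i.isLt j.val j.isLt hij)⟩
  obtain ⟨g, hg, hgd, hgx⟩ := exists_smul_d0_eq hd e (fun i => htd (hxt i.val i.isLt))
  refine ⟨g, hg, hgd, ?_⟩
  apply Finset.eq_of_subset_of_card_le
  · intro p hp
    rw [← Finset.inv_smul_mem_iff, mem_Fset] at hp
    obtain ⟨j, hj, hjp⟩ := hp
    have hj5 : j < 5 := by omega
    have : p = g (bpt j) := by
      rw [hjp]; simp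
    rw [this]
    have := hgx ⟨j, hj5⟩
    simp only at this
    rw [this]
    exact (hxs j hj5).2 hj
  · rw [Finset.card_smul_finset, hs]
    have : ∀ k : Fin 6, (Fset k.val).card = k.val := by decide +kernel
    rw [this ⟨k, by omega⟩]

theorem card_inter_dodecads {d d' : Finset GolayPt} (hd : d ∈ dodecads) (hd' : d' ∈ dodecads) :
    (d ∩ d').card = 0 ∨ (d ∩ d').card = 4 ∨ (d ∩ d').card = 6 ∨ (d ∩ d').card = 8 ∨
      (d ∩ d').card = 12 := by
  have hsd := symmDiff_mem hd.1 hd'.1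
  obtain ⟨w, hw, hws⟩ := hsd
  have hwt := golay_weights w hw
  rw [hws] at hwt
  have hc := card_symmDiff_add d d'
  rw [hd.2, hd'.2] at hc
  omega

theorem eq_of_card_inter_eq {d d' : Finset GolayPt} (hd : d ∈ dodecads) (hd' : d' ∈ dodecads)
    (h : (d ∩ d').card = 12) : d' = d := by
  have h1 : d ∩ d' = d := Finset.eq_of_subset_of_card_le Finset.inter_subset_left (by rw [hd.2, h])
  have h2 : d ∩ d' = d' := Finset.eq_of_subset_of_card_le Finset.inter_subset_right
    (by rw [hd'.2, h])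
  rw [← h2, h1]

theorem eq_compl_of_card_inter_eq {d d' : Finset GolayPt} (hd : d ∈ dodecads) (hd' : d' ∈ dodecads)
    (h : (d ∩ d').card = 0) : d' = dᶜ := by
  apply Finset.eq_of_subset_of_card_le
  · intro p hp
    rw [Finset.mem_compl]
    intro hpd
    have : p ∈ d ∩ d' := Finset.mem_inter.2 ⟨hpd, hp⟩
    rw [Finset.card_eq_zero] at h
    rw [h] at this
    exact absurd this (Finset.notMem_empty p)
  · rw [Finset.card_compl, hd.2, hd'.2]; decide

set_option maxRecDepth 100000 in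
theorem Fset_eq_maskSet' : Fset 4 = maskSet 15 ∧ Fset 5 = maskSet 31 := by decide +kernel

set_option maxRecDepth 100000 in
theorem LD6_head_dodecad : (∀ p, enc (natWord (LD6.headD 0)) p = natWord (LD6.headD 0) p) ∧
    popc (LD6.headD 0) = 12 := by decide +kernel

/-- the stabilizer of a dodecad is transitive on the dodecads meeting it in a given number of
points -/
theorem dodecad_stab_trans {d d' d'' : Finset GolayPt} (hd : d ∈ dodecads) (hd' : d' ∈ dodecads)
    (hd'' : d'' ∈ dodecads) (h : (d ∩ d').card = (d ∩ d'').card) :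
    ∃ g ∈ M24, g • d = d ∧ g • d' = d'' := by
  -- the case of four common points
  have key4 : ∀ {e e' : Finset GolayPt}, e ∈ dodecads → e' ∈ dodecads → (d ∩ e).card = 4 →
      (d ∩ e').card = 4 → ∃ g ∈ M24, g • d = d ∧ g • e = e' := by
    intro e e' he he' h4 h4'
    have hstd : ∀ {e : Finset GolayPt}, e ∈ dodecads → (d ∩ e).card = 4 →
        ∃ g ∈ M24, g • maskSet d0 = d ∧ g • maskSet 13195407 = e := by
      intro e he h4
      obtain ⟨g1, hg1, hg1d, hg1s⟩ := exists_std_dodecad hd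
        (Finset.inter_subset_left : d ∩ e ⊆ d) h4 (by decide)
      have hX : g1⁻¹ • e ∈ dodecads := smul_mem_dodecads (M24.inv_mem hg1) he
      obtain ⟨n, hn, hn12, hXn⟩ := dodecad_eq_maskSet hX
      have hinter : maskSet d0 ∩ g1⁻¹ • e = Fset 4 := by
        have h1 : g1⁻¹ • (d ∩ e) = maskSet d0 ∩ g1⁻¹ • e := by
          rw [Finset.smul_finset_inter, ← hg1d, inv_smul_smul]
        rw [← h1, ← hg1s, inv_smul_smul]
      have hand : d0 &&& n = 15 := by
        apply maskSet_inj (lt_of_le_of_lt Nat.and_le_left (by decide)) (by decide)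
        rw [maskSet_and, ← hXn, hinter, Fset_eq_maskSet'.1]
      have := LD4_unique n hn hn12 hand
      subst this
      exact ⟨g1, hg1, hg1d, by rw [← hXn, smul_inv_smul]⟩
    obtain ⟨g', hg', hg'o, hg'x⟩ := hstd he h4
    obtain ⟨g'', hg'', hg''o, hg''x⟩ := hstd he' h4'
    refine ⟨g'' * g'⁻¹, M24.mul_mem hg'' (M24.inv_mem hg'), ?_, ?_⟩
    · rw [mul_smul, ← hg'o, inv_smul_smul, hg''o, hg'o]
    · rw [mul_smul, ← hg'x, inv_smul_smul, hg''x]
  -- the case of six common points
  have hstd6 : ∀ {e : Finset GolayPt}, e ∈ dodecads → (d ∩ e).card = 6 →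
      ∃ g ∈ M24, g • maskSet d0 = d ∧ g • maskSet (LD6.headD 0) = e := by
    intro e he h6
    obtain ⟨s, hs, hs5⟩ := Finset.exists_subset_card_eq (show 5 ≤ (d ∩ e).card by omega)
    obtain ⟨g1, hg1, hg1d, hg1s⟩ := exists_std_dodecad hd
      (hs.trans Finset.inter_subset_left) hs5 le_rfl
    have hX : g1⁻¹ • e ∈ dodecads := smul_mem_dodecads (M24.inv_mem hg1) he
    obtain ⟨n, hn, hn12, hXn⟩ := dodecad_eq_maskSet hX
    have h1 : g1⁻¹ • (d ∩ e) = maskSet d0 ∩ g1⁻¹ • e := by
      rw [Finset.smul_finset_inter, ← hg1d, inv_smul_smul]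
    have hpop : popc (d0 &&& n) = 6 := by
      rw [← card_maskSet, maskSet_and, ← hXn, ← h1, Finset.card_smul_finset, h6]
    have hF5 : Fset 5 ⊆ g1⁻¹ • e := by
      have h5 : Fset 5 = g1⁻¹ • s := by rw [← hg1s, inv_smul_smul]
      rw [h5]
      exact Finset.smul_finset_subset_smul_finset (hs.trans Finset.inter_subset_right)
    have hand : 31 &&& n = 31 := by
      apply maskSet_inj (lt_of_le_of_lt Nat.and_le_left (by decide)) (by decide)
      rw [maskSet_and, ← hXn, ← Fset_eq_maskSet'.2]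
      exact Finset.inter_eq_left.2 hF5
    have hnL := LD6_complete n hn hn12 hpop hand
    obtain ⟨t, ht, htr⟩ := TD6_trans n hnL
    obtain ⟨σ, hσ, hσt⟩ := exists_perm_of_good (TD6_good t ht)
    have hσO : σ • maskSet d0 = maskSet d0 := smul_maskSet_of_table hσt (TD6_stab t ht)
    have hσX : σ • maskSet (LD6.headD 0) = maskSet n := smul_maskSet_of_table hσt htr
    refine ⟨g1 * σ, M24.mul_mem hg1 hσ, ?_, ?_⟩
    · rw [mul_smul, hσO, hg1d]
    · rw [mul_smul, hσX, ← hXn, smul_inv_smul]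
  rcases card_inter_dodecads hd hd' with h0 | h4 | h6 | h8 | h12
  · have e1 := eq_compl_of_card_inter_eq hd hd' h0
    have e2 := eq_compl_of_card_inter_eq hd hd'' (h ▸ h0)
    exact ⟨1, M24.one_mem, one_smul _ _, by rw [one_smul, e1, e2]⟩
  · exact key4 hd' hd'' h4 (h ▸ h4)
  · obtain ⟨g', hg', hg'o, hg'x⟩ := hstd6 hd' h6
    obtain ⟨g'', hg'', hg''o, hg''x⟩ := hstd6 hd'' (h ▸ h6)
    refine ⟨g'' * g'⁻¹, M24.mul_mem hg'' (M24.inv_mem hg'), ?_, ?_⟩
    · rw [mul_smul, ← hg'o, inv_smul_smul, hg''o, hg'o]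
    · rw [mul_smul, ← hg'x, inv_smul_smul, hg''x]
  · -- pass to complements
    have hc : ∀ {e : Finset GolayPt}, e ∈ dodecads → (d ∩ e).card = 8 → (d ∩ eᶜ).card = 4 := by
      intro e he h8
      have : d ∩ eᶜ = d \ e := by
        ext p; simp [Finset.mem_sdiff]
      rw [this]
      have := Finset.card_sdiff_add_card_inter d e
      rw [hd.2] at this
      omega
    obtain ⟨g, hg, hgd, hge⟩ := key4 (compl_mem_dodecads hd') (compl_mem_dodecads hd'')
      (hc hd' h8) (hc hd'' (h ▸ h8))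
    refine ⟨g, hg, hgd, ?_⟩
    rw [smul_finset_compl'] at hge
    exact compl_injective hge
  · have e1 := eq_of_card_inter_eq hd hd' h12
    have e2 := eq_of_card_inter_eq hd hd'' (h ▸ h12)
    exact ⟨1, M24.one_mem, one_smul _ _, by rw [one_smul, e1, e2]⟩

/-- the number of dodecads meeting a given dodecad in 4, 6, 8 points -/
theorem ncard_dodecads_inter {d : Finset GolayPt} (hd : d ∈ dodecads) :
    {d' : Finset GolayPt | d' ∈ dodecads ∧ (d ∩ d').card = 4}.ncard = 495 ∧
    {d' : Finset GolayPt | d' ∈ dodecads ∧ (d ∩ d').card = 6}.ncard = 1584 ∧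
    {d' : Finset GolayPt | d' ∈ dodecads ∧ (d ∩ d').card = 8}.ncard = 495 := by
  obtain ⟨g, hg, hgd⟩ := M24_dodecad_transitive d0_dodecad hd
  have hcount : ∀ k ∈ [4, 6, 8], {d' : Finset GolayPt | d' ∈ dodecads ∧ (d ∩ d').card = k}.ncard =
      [0, 0, 0, 0, 495, 0, 1584, 0, 495].getD k 0 := by
    intro k hk
    have hset : {d' : Finset GolayPt | d' ∈ dodecads ∧ (d ∩ d').card = k} =
        {o' : Finset GolayPt | o' ∈ wordsOfWeight (golayCode : Set (GolayPt → ZMod 2)) 12 ∧
          (fun x => (maskSet d0 ∩ x).card = k) (g⁻¹ • o')} := by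
      ext o'
      have : maskSet d0 ∩ g⁻¹ • o' = g⁻¹ • (d ∩ o') := by
        rw [Finset.smul_finset_inter, ← hgd, inv_smul_smul]
      constructor
      · rintro ⟨h1, h2⟩
        refine ⟨h1, ?_⟩
        show (maskSet d0 ∩ g⁻¹ • o').card = k
        rw [this, Finset.card_smul_finset]; exact h2
      · rintro ⟨h1, h2⟩
        refine ⟨h1, ?_⟩
        have h2' : (maskSet d0 ∩ g⁻¹ • o').card = k := h2
        rw [this, Finset.card_smul_finset] at h2'; exact h2'
    have hcount := ncard_words_smul hg 12 (fun x : Finset GolayPt => (maskSet d0 ∩ x).card = k)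
      (fun n => popc (d0 &&& n) = k) (by
        intro n hn
        rw [← maskSet_and, card_maskSet])
    rw [hset]
    exact hcount.trans (count_d0_dodecads k hk)
  exact ⟨hcount 4 (by decide), hcount 6 (by decide), hcount 8 (by decide)⟩

end Cfsg.Agent.Lib.Helper1_Chain
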