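import Mathlib
import Cfsg.Agent.Lib.Helper1_Dodecads
set_option autoImplicit false
open Cfsg
open scoped Pointwise
namespace Cfsg.Agent.Lib.Helper1_Chain
open Cfsg.Agent.Lib.Helper1_Golay

/-- the standard dodecads meeting `d0` in four and six points -/
def De4 : ℕ := 13195407

def De6 : ℕ := 1667135

/-- joint stabilizer transversal 4I (base point 0) -/
def TDP4I : List (List ℕ) := [
  [0, 1, 2, 3, 4, 5, 6, 7, 8, 9, 10, 11, 12, 13, 14, 15, 16, 17, 18, 19, 20, 21, 22, 23],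
  [1, 0, 2, 3, 4, 17, 8, 12, 6, 15, 10, 19, 7, 13, 14, 9, 22, 5, 21, 11, 20, 18, 16, 23],
  [2, 1, 0, 3, 17, 15, 10, 14, 6, 4, 5, 7, 23, 20, 16, 9, 22, 8, 21, 11, 18, 13, 12, 19],
  [3, 2, 1, 0, 10, 5, 9, 12, 8, 6, 4, 22, 7, 21, 14, 15, 16, 17, 20, 19, 18, 13, 11, 23]]

set_option maxRecDepth 1000000 in
theorem TDP4I_good : ∀ t ∈ TDP4I, GoodTable t ∧
    (∀ p, d0.testBit (idx p) = d0.testBit (idx (tfun t p))) ∧
    (∀ p, De4.testBit (idx p) = De4.testBit (idx (tfun t p))) := by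
  decide +kernel

set_option maxRecDepth 1000000 in
theorem TDP4I_trans : ∀ q : GolayPt, d0.testBit (idx q) = true → De4.testBit (idx q) = true →
    ∃ t ∈ TDP4I, tfun t (pt 0) = q := by
  decide +kernel

/-- joint stabilizer transversal 4D (base point 4) -/
def TDP4D : List (List ℕ) := [
  [0, 1, 2, 3, 4, 5, 6, 7, 8, 9, 10, 11, 12, 13, 14, 15, 16, 17, 18, 19, 20, 21, 22, 23],
  [0, 1, 2, 3, 5, 10, 15, 14, 6, 8, 17, 19, 23, 20, 12, 9, 11, 4, 21, 22, 13, 18, 16, 7],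
  [1, 3, 0, 2, 6, 5, 10, 22, 8, 4, 9, 7, 11, 18, 23, 15, 19, 17, 21, 16, 13, 20, 12, 14],
  [0, 1, 2, 3, 8, 9, 5, 16, 10, 17, 15, 14, 19, 18, 22, 4, 12, 6, 13, 7, 21, 20, 23, 11],
  [3, 2, 0, 1, 9, 15, 5, 11, 10, 17, 6, 23, 22, 20, 16, 4, 7, 8, 18, 12, 13, 21, 14, 19],
  [2, 1, 0, 3, 10, 6, 5, 7, 8, 17, 4, 23, 12, 13, 22, 15, 19, 9, 18, 16, 21, 20, 14, 11],
  [1, 2, 0, 3, 15, 17, 10, 19, 9, 4, 8, 12, 16, 18, 23, 6, 22, 5, 21, 11, 20, 13, 7, 14],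
  [0, 1, 2, 3, 17, 4, 8, 23, 9, 15, 5, 16, 14, 20, 7, 6, 22, 10, 21, 11, 13, 18, 19, 12]]

set_option maxRecDepth 1000000 in
theorem TDP4D_good : ∀ t ∈ TDP4D, GoodTable t ∧
    (∀ p, d0.testBit (idx p) = d0.testBit (idx (tfun t p))) ∧
    (∀ p, De4.testBit (idx p) = De4.testBit (idx (tfun t p))) := by
  decide +kernel

set_option maxRecDepth 1000000 in
theorem TDP4D_trans : ∀ q : GolayPt, d0.testBit (idx q) = true → De4.testBit (idx q) = false →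
    ∃ t ∈ TDP4D, tfun t (pt 4) = q := by
  decide +kernel

/-- joint stabilizer transversal 6I (base point 0) -/
def TDP6I : List (List ℕ) := [
  [0, 1, 2, 3, 4, 5, 6, 7, 8, 9, 10, 11, 12, 13, 14, 15, 16, 17, 18, 19, 20, 21, 22, 23],
  [1, 3, 4, 0, 5, 2, 17, 21, 15, 8, 6, 22, 16, 20, 12, 9, 14, 10, 11, 13, 19, 23, 18, 7],
  [2, 0, 4, 1, 3, 5, 17, 7, 6, 15, 10, 21, 12, 16, 19, 8, 14, 9, 22, 20, 13, 23, 11, 18],
  [3, 1, 0, 4, 5, 2, 8, 21, 9, 17, 6, 18, 16, 19, 12, 15, 13, 10, 23, 14, 20, 11, 22, 7],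
  [4, 1, 3, 5, 2, 0, 9, 11, 17, 10, 8, 23, 13, 14, 16, 15, 19, 6, 7, 12, 20, 18, 22, 21],
  [5, 0, 4, 3, 1, 2, 17, 21, 10, 9, 6, 7, 16, 12, 20, 8, 14, 15, 18, 19, 13, 23, 11, 22]]

set_option maxRecDepth 1000000 in
theorem TDP6I_good : ∀ t ∈ TDP6I, GoodTable t ∧
    (∀ p, d0.testBit (idx p) = d0.testBit (idx (tfun t p))) ∧
    (∀ p, De6.testBit (idx p) = De6.testBit (idx (tfun t p))) := by
  decide +kernel

set_option maxRecDepth 1000000 in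
theorem TDP6I_trans : ∀ q : GolayPt, d0.testBit (idx q) = true → De6.testBit (idx q) = true →
    ∃ t ∈ TDP6I, tfun t (pt 0) = q := by
  decide +kernel

/-- joint stabilizer transversal 6D (base point 6) -/
def TDP6D : List (List ℕ) := [
  [0, 1, 2, 3, 4, 5, 6, 7, 8, 9, 10, 11, 12, 13, 14, 15, 16, 17, 18, 19, 20, 21, 22, 23],
  [3, 1, 0, 4, 5, 2, 8, 21, 9, 17, 6, 18, 16, 19, 12, 15, 13, 10, 23, 14, 20, 11, 22, 7],
  [0, 5, 3, 4, 1, 2, 9, 21, 8, 17, 6, 11, 16, 13, 20, 10, 19, 15, 23, 14, 12, 18, 7, 22],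
  [1, 4, 5, 3, 2, 0, 10, 11, 15, 9, 8, 22, 13, 20, 16, 17, 12, 6, 18, 19, 14, 7, 23, 21],
  [0, 3, 1, 5, 2, 4, 15, 23, 8, 10, 17, 11, 14, 13, 16, 9, 20, 6, 7, 12, 19, 22, 18, 21],
  [0, 5, 4, 3, 2, 1, 17, 22, 8, 9, 15, 11, 20, 13, 16, 10, 14, 6, 18, 19, 12, 23, 7, 21]]

set_option maxRecDepth 1000000 in
theorem TDP6D_good : ∀ t ∈ TDP6D, GoodTable t ∧
    (∀ p, d0.testBit (idx p) = d0.testBit (idx (tfun t p))) ∧
    (∀ p, De6.testBit (idx p) = De6.testBit (idx (tfun t p))) := by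
  decide +kernel

set_option maxRecDepth 1000000 in
theorem TDP6D_trans : ∀ q : GolayPt, d0.testBit (idx q) = true → De6.testBit (idx q) = false →
    ∃ t ∈ TDP6D, tfun t (pt 6) = q := by
  decide +kernel

end Cfsg.Agent.Lib.Helper1_Chain
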