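import Mathlib
import Cfsg.Agent.Lib.Helper1_M12data
set_option autoImplicit false
open Cfsg
open scoped Pointwise
namespace Cfsg.Agent.Lib.Helper1_Chain
open Cfsg.Agent.Lib.Helper1_Golay

theorem Fset_subset {i j : ℕ} (h : i ≤ j) : Fset i ⊆ Fset j := by
  intro p hp
  rw [mem_Fset] at hp ⊢
  obtain ⟨k, hk, rfl⟩ := hp
  exact ⟨k, by omega, rfl⟩

theorem pstab_mono {X : Type*} (G : Subgroup (Equiv.Perm X)) {F F' : Finset X} (h : F ⊆ F') :
    pstab G F' ≤ pstab G F := fun _ hg => ⟨hg.1, fun b hb => hg.2 b (h hb)⟩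

/-- every element of `M24` fixing the first five base points is given by one of the 48 tables -/
theorem pstab5_eq_table {g : Equiv.Perm GolayPt} (hg : g ∈ pstab M24 (Fset 5)) :
    ∃ t ∈ P5, ∀ p, g p = tfun t p := by
  have h5 := step_h1 5 (by decide) hg
  have h6 : g (bpt 6) ∈ Tset 6 := by
    have hT : Tset 6 = maskSet Omask \ Fset 6 := rfl
    rw [hT, Finset.mem_sdiff, apply_mem_iff_of_smul_eq (Omask_inv hg)]
    refine ⟨bpt6_mem, ?_⟩
    intro hmem
    rw [mem_Fset] at hmem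
    obtain ⟨j, hj, hjeq⟩ := hmem
    rcases Nat.lt_succ_iff_lt_or_eq.mp hj with hlt | heq
    · have := hg.2 (bpt j) (mem_Fset.mpr ⟨j, hlt, rfl⟩)
      rw [hjeq] at this
      have h2 := g.injective this
      have : bpt 6 ∈ Fset 6 := by rw [← h2, ← hjeq]; exact mem_Fset.mpr ⟨j, hj, rfl⟩
      exact bpt_notMem_Fset ⟨6, by decide⟩ this
    · subst heq
      have hb5 : bpt 5 ∉ maskSet Omask := bpt5_notMem
      have : g (bpt 6) ∈ maskSet Omask := by
        rw [apply_mem_iff_of_smul_eq (Omask_inv hg)]; exact bpt6_mem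
      rw [← hjeq] at this
      exact hb5 this
  obtain ⟨t, ht, ht5, ht6⟩ := P5_trans _ h5 _ h6
  obtain ⟨σ, hσ, hσt⟩ := exists_perm_of_good (P5_good t ht)
  have hσ5 : σ ∈ pstab M24 (Fset 5) := ⟨hσ, fun b hb => by rw [hσt]; exact P5_fix t ht b hb⟩
  have hk : σ⁻¹ * g ∈ pstab M24 (Fset 7) := by
    refine ⟨M24.mul_mem (M24.inv_mem hσ) hg.1, fun b hb => ?_⟩
    rw [mem_Fset] at hb
    obtain ⟨j, hj, rfl⟩ := hb
    rw [Equiv.Perm.mul_apply, Equiv.Perm.inv_eq_iff_eq]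
    have hj' : j < 5 ∨ j = 5 ∨ j = 6 := by omega
    rcases hj' with hj' | rfl | rfl
    · rw [hg.2 _ (mem_Fset.mpr ⟨j, hj', rfl⟩), hσ5.2 _ (mem_Fset.mpr ⟨j, hj', rfl⟩)]
    · rw [hσt, ht5]
    · rw [hσt, ht6]
  refine ⟨t, ht, fun p => ?_⟩
  have := rigid hk p
  rw [Equiv.Perm.mul_apply, Equiv.Perm.inv_eq_iff_eq] at this
  rw [this, hσt]

theorem smul_mem_dodecads {σ : Equiv.Perm GolayPt} (hσ : σ ∈ M24) {b : Finset GolayPt}
    (hb : b ∈ dodecads) : σ • b ∈ dodecads := by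
  refine ⟨smul_mem_of_mem_M24 hσ hb.1, ?_⟩
  rw [Finset.card_smul_finset]; exact hb.2

theorem smul_maskSet_of_table {σ : Equiv.Perm GolayPt} {t : List ℕ} (hσt : ∀ p, σ p = tfun t p)
    {a b : ℕ} (h : ∀ p, a.testBit (idx p) = b.testBit (idx (tfun t p))) :
    σ • maskSet a = maskSet b := by
  ext q
  rw [← Finset.inv_smul_mem_iff, mem_maskSet, mem_maskSet, h, ← hσt,
    Equiv.Perm.smul_def]
  simp

set_option maxRecDepth 1000000 in
theorem D48_complete : ∀ n ∈ allWords rows, popc n = 12 → (∀ k < 5, n.testBit k = true) →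
    n ∈ D48 := by
  decide +kernel

set_option maxRecDepth 1000000 in
theorem D48_trans : ∀ n ∈ D48, ∃ t ∈ P5, ∀ p, d0.testBit (idx p) = n.testBit (idx (tfun t p)) := by
  decide +kernel

set_option maxRecDepth 1000000 in
theorem D48_rigid : ∀ n ∈ D48, ∀ t ∈ P5,
    (∀ p, n.testBit (idx p) = n.testBit (idx (tfun t p))) → ∀ p, tfun t p = p := by
  decide +kernel

set_option maxRecDepth 1000000 in
theorem D48_dodecad : ∀ n ∈ D48, (∀ p, enc (natWord n) p = natWord n p) ∧ popc n = 12 := by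
  decide +kernel

theorem maskSet_mem_dodecads {n : ℕ} (h : (∀ p, enc (natWord n) p = natWord n p) ∧ popc n = 12) :
    maskSet n ∈ dodecads := by
  refine ⟨⟨natWord n, (mem_golay_iff_enc _).mpr (funext h.1), (maskSet_eq_support₂ n).symm⟩, ?_⟩
  rw [card_maskSet]; exact h.2

set_option maxRecDepth 100000 in
theorem idx_bpt_lt5 : ∀ k : Fin 5, idx (bpt k.val) = k.val := by decide +kernel

theorem exists_D48_of_subset {d : Finset GolayPt} (hd : d ∈ dodecads) (h5 : Fset 5 ⊆ d) :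
    ∃ n ∈ D48, d = maskSet n := by
  have hd' : d ∈ wordsOfWeight (golayCode : Set (GolayPt → ZMod 2)) 12 := hd
  rw [wordsOfWeight_eq] at hd'
  obtain ⟨n, hn, hdn⟩ := hd'
  have hdn' : d = maskSet n := by rw [maskSet_eq_support₂]; exact hdn.symm
  subst hdn'
  rw [Set.mem_ofPred_eq, List.mem_filter] at hn
  refine ⟨n, D48_complete n hn.1 (by simpa using hn.2) ?_, rfl⟩
  intro k hk
  have := h5 (mem_Fset.mpr ⟨k, hk, rfl⟩)
  rw [mem_maskSet, idx_bpt_lt5 ⟨k, hk⟩] at this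
  exact this

theorem d0_mem_D48 : d0 ∈ D48 := by decide

theorem d0_dodecad : maskSet d0 ∈ dodecads := maskSet_mem_dodecads (D48_dodecad d0 d0_mem_D48)

/-- every dodecad is an `M24`-image of the reference dodecad; moreover five given points of it
can be taken as the images of the first five base points -/
theorem exists_smul_d0_eq {d : Finset GolayPt} (hd : d ∈ dodecads) (x : Fin 5 ↪ GolayPt)
    (hx : ∀ i, x i ∈ d) :
    ∃ g ∈ M24, g • maskSet d0 = d ∧ ∀ i : Fin 5, g (bpt i.val) = x i := by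
  obtain ⟨g1, hg1, hg1x⟩ := exists_map_base x
  have hd1 : g1⁻¹ • d ∈ dodecads := smul_mem_dodecads (M24.inv_mem hg1) hd
  have h5 : Fset 5 ⊆ g1⁻¹ • d := by
    intro p hp
    rw [mem_Fset] at hp
    obtain ⟨k, hk, rfl⟩ := hp
    rw [Finset.mem_inv_smul_finset_iff, Equiv.Perm.smul_def]
    have := hg1x ⟨k, hk⟩
    simp only at this
    rw [this]; exact hx _
  obtain ⟨n, hn, hdn⟩ := exists_D48_of_subset hd1 h5
  obtain ⟨t, ht, htn⟩ := D48_trans n hn
  obtain ⟨σ, hσ, hσt⟩ := exists_perm_of_good (P5_good t ht)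
  have h1 : σ • maskSet d0 = maskSet n := smul_maskSet_of_table hσt htn
  refine ⟨g1 * σ, M24.mul_mem hg1 hσ, ?_, fun i => ?_⟩
  · rw [mul_smul, h1, ← hdn, smul_inv_smul]
  · rw [Equiv.Perm.mul_apply, hσt, P5_fix t ht _ (mem_Fset.mpr ⟨i.val, i.2, rfl⟩), hg1x]

theorem M24_dodecad_transitive {d d' : Finset GolayPt} (hd : d ∈ dodecads) (hd' : d' ∈ dodecads) :
    ∃ g ∈ M24, g • d = d' := by
  obtain ⟨x, hx⟩ := exists_embedding_of_card (o := d) (by rw [hd.2]; decide)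
  obtain ⟨y, hy⟩ := exists_embedding_of_card (o := d') (by rw [hd'.2]; decide)
  obtain ⟨g, hg, hgd, -⟩ := exists_smul_d0_eq hd x hx
  obtain ⟨g', hg', hgd', -⟩ := exists_smul_d0_eq hd' y hy
  refine ⟨g' * g⁻¹, M24.mul_mem hg' (M24.inv_mem hg), ?_⟩
  rw [mul_smul, ← hgd, inv_smul_smul, hgd']

end Cfsg.Agent.Lib.Helper1_Chain
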