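import Mathlib
import Cfsg.Agent.Lib.Helper1_M12
set_option autoImplicit false
open Cfsg
open scoped Pointwise
namespace Cfsg.Agent.Lib.Helper1_Chain
open Cfsg.Agent.Lib.Helper1_Golay

theorem exists_extend_embedding {d : Finset GolayPt} {k : ℕ} (hk : k ≤ 5) (h5 : 5 ≤ d.card)
    (z : Fin k ↪ GolayPt) (hz : ∀ i, z i ∈ d) :
    ∃ x : Fin 5 ↪ GolayPt, (∀ i, x i ∈ d) ∧ ∀ i : Fin k, x (Fin.castLE hk i) = z i := by
  let z' : Fin k ↪ {p // p ∈ d} := ⟨fun i => ⟨z i, hz i⟩, fun i j hij => by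
    have := congrArg Subtype.val hij
    exact z.injective this⟩
  obtain ⟨x', hx'⟩ := Fin.Embedding.restrictSurjective_of_le_natCard (α := {p // p ∈ d}) hk
    (by simpa using h5) z'
  refine ⟨x'.trans (Function.Embedding.subtype _), fun i => (x' i).2, fun i => ?_⟩
  have := congrArg (fun e => ((e i : {p // p ∈ d}) : GolayPt)) hx'
  exact this

theorem orbit_dodecad {d : Finset GolayPt} (hd : d ∈ dodecads) :
    MulAction.orbit M24 d = dodecads := by
  ext d'
  constructor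
  · rintro ⟨g, rfl⟩
    exact smul_mem_dodecads g.2 hd
  · intro hd'
    obtain ⟨g, hg, h⟩ := M24_dodecad_transitive hd hd'
    exact ⟨⟨g, hg⟩, h⟩

theorem card_stabilizer_dodecad {d : Finset GolayPt} (hd : d ∈ dodecads) :
    Nat.card (MulAction.stabilizer M24 d) = 95040 := by
  have e := MulAction.orbitProdStabilizerEquivGroup M24 d
  have h := Nat.card_congr e
  rw [Nat.card_prod, card_M24, orbit_dodecad hd, Nat.card_coe_set_eq, ncard_dodecads] at h
  omega

theorem dodecad_rigid {d : Finset GolayPt} (hd : d ∈ dodecads) {k : Equiv.Perm GolayPt}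
    (hk : k ∈ M24) (hkd : k • d = d) (x : Fin 5 ↪ GolayPt) (hx : ∀ i, x i ∈ d)
    (hkx : ∀ i, k (x i) = x i) : k = 1 := by
  obtain ⟨g, hg, hgd, hgx⟩ := exists_smul_d0_eq hd x hx
  have hk1 : g⁻¹ * k * g ∈ pstab M24 (Fset 5) := by
    refine ⟨M24.mul_mem (M24.mul_mem (M24.inv_mem hg) hk) hg, fun b hb => ?_⟩
    rw [mem_Fset] at hb
    obtain ⟨j, hj, rfl⟩ := hb
    have := hgx ⟨j, hj⟩
    simp only at this
    rw [Equiv.Perm.mul_apply, Equiv.Perm.mul_apply, this, hkx, ← this]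
    simp
  have hk1d : (g⁻¹ * k * g) • maskSet d0 = maskSet d0 := by
    rw [mul_smul, mul_smul, hgd, hkd, ← hgd, inv_smul_smul]
  obtain ⟨t, ht, htk⟩ := pstab5_eq_table hk1
  have hid : ∀ p, tfun t p = p := by
    apply D48_rigid d0 d0_mem_D48 t ht
    intro p
    have := apply_mem_iff_of_smul_eq hk1d p
    rw [mem_maskSet, mem_maskSet, htk] at this
    exact (Bool.eq_iff_iff.mpr this).symm
  have h1 : g⁻¹ * k * g = 1 := by
    apply Equiv.ext
    intro p
    rw [htk, hid]; rfl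
  have : k = g * (g⁻¹ * k * g) * g⁻¹ := by group
  rw [this, h1]; group

theorem dodecad_sharp {d : Finset GolayPt} (hd : d ∈ dodecads) (x y : Fin 5 ↪ GolayPt)
    (hx : ∀ i, x i ∈ d) (hy : ∀ i, y i ∈ d) :
    ∃ g ∈ M24, g • d = d ∧ ∀ i, g (x i) = y i := by
  obtain ⟨g, hg, hgd, hgx⟩ := exists_smul_d0_eq hd x hx
  obtain ⟨g', hg', hgd', hgy⟩ := exists_smul_d0_eq hd y hy
  refine ⟨g' * g⁻¹, M24.mul_mem hg' (M24.inv_mem hg), ?_, fun i => ?_⟩
  · rw [mul_smul]
    conv_lhs => rw [← hgd]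
    rw [inv_smul_smul, hgd']
  · rw [Equiv.Perm.mul_apply, ← hgx i]
    have : g⁻¹ (g (bpt i.val)) = bpt i.val := by simp
    rw [this, hgy]

theorem dodecad_sharp_unique {d : Finset GolayPt} (hd : d ∈ dodecads) (x y : Fin 5 ↪ GolayPt)
    (hx : ∀ i, x i ∈ d) (hy : ∀ i, y i ∈ d) :
    ∃! g : MulAction.stabilizer M24 d, ∀ i, ((g : M24) : Equiv.Perm GolayPt) (x i) = y i := by
  obtain ⟨g, hg, hgd, hgxy⟩ := dodecad_sharp hd x y hx hy
  refine ⟨⟨⟨g, hg⟩, hgd⟩, hgxy, ?_⟩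
  rintro ⟨⟨g', hg'⟩, hgd'⟩ hg'xy
  have hgd'' : g' • d = d := hgd'
  have hk : g⁻¹ * g' = 1 := by
    apply dodecad_rigid hd (M24.mul_mem (M24.inv_mem hg) hg') _ x hx
    · intro i
      have h1 : g' (x i) = y i := hg'xy i
      rw [Equiv.Perm.mul_apply, h1, ← hgxy i]
      simp
    · rw [mul_smul, hgd'']
      conv_lhs => rw [← hgd]
      rw [inv_smul_smul]
  have : g' = g := by
    have := congrArg (fun z => g * z) hk
    simpa using this
  subst this
  rfl

/-- the stabilizer of a dodecad is transitive on it -/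
theorem dodecad_stab_transitive {d : Finset GolayPt} (hd : d ∈ dodecads) {p q : GolayPt}
    (hp : p ∈ d) (hq : q ∈ d) : ∃ g ∈ M24, g • d = d ∧ g p = q := by
  have h5 : 5 ≤ d.card := by rw [hd.2]; decide
  obtain ⟨x, hx, hx0⟩ := exists_extend_embedding (k := 1) (by decide) h5
    ⟨fun _ => p, fun _ _ _ => Subsingleton.elim _ _⟩ (fun _ => hp)
  obtain ⟨y, hy, hy0⟩ := exists_extend_embedding (k := 1) (by decide) h5
    ⟨fun _ => q, fun _ _ _ => Subsingleton.elim _ _⟩ (fun _ => hq)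
  obtain ⟨g, hg, hgd, hgxy⟩ := dodecad_sharp hd x y hx hy
  refine ⟨g, hg, hgd, ?_⟩
  have h1 := hx0 0
  have h2 := hy0 0
  change x (Fin.castLE _ 0) = p at h1
  change y (Fin.castLE _ 0) = q at h2
  rw [← h1, hgxy, h2]

theorem card_stabilizer_dodecad_point {d : Finset GolayPt} (hd : d ∈ dodecads) {p : GolayPt}
    (hp : p ∈ d) :
    Nat.card ↥(MulAction.stabilizer M24 d ⊓ MulAction.stabilizer M24 p) = 7920 := by
  have e := MulAction.orbitProdStabilizerEquivGroup (MulAction.stabilizer M24 d) p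
  have h := Nat.card_congr e
  have horb : MulAction.orbit (MulAction.stabilizer M24 d) p = (d : Set GolayPt) := by
    ext q
    constructor
    · rintro ⟨g, rfl⟩
      have hgd : ((g : M24) : Equiv.Perm GolayPt) • d = d := g.2
      have : ((g : M24) : Equiv.Perm GolayPt) • p ∈ ((g : M24) : Equiv.Perm GolayPt) • d :=
        Finset.smul_mem_smul_finset hp
      rw [hgd] at this
      exact this
    · intro hq
      obtain ⟨g, hg, hgd, hgp⟩ := dodecad_stab_transitive hd hp hq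
      exact ⟨⟨⟨g, hg⟩, hgd⟩, hgp⟩
  rw [Nat.card_prod, card_stabilizer_dodecad hd, horb, Nat.card_coe_set_eq,
    Set.ncard_coe_finset, hd.2] at h
  have h2 : Nat.card ↥(MulAction.stabilizer M24 d ⊓ MulAction.stabilizer M24 p) =
      Nat.card (MulAction.stabilizer (MulAction.stabilizer M24 d) p) := by
    apply Nat.card_congr
    refine ⟨fun g => ⟨⟨g.1, (Subgroup.mem_inf.mp g.2).1⟩, (Subgroup.mem_inf.mp g.2).2⟩,
      fun g => ⟨g.1.1, Subgroup.mem_inf.mpr ⟨g.1.2, g.2⟩⟩, fun g => rfl, fun g => rfl⟩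
  rw [h2]
  omega

end Cfsg.Agent.Lib.Helper1_Chain
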