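import Mathlib
import Cfsg.Agent.Lib.Helper1_M12b
set_option autoImplicit false
open Cfsg
open scoped Pointwise
namespace Cfsg.Agent.Lib.Helper1_Chain
open Cfsg.Agent.Lib.Helper1_Golay

set_option maxRecDepth 1000000 in
theorem PK_good : ∀ t ∈ PK, GoodTable t := by
  decide +kernel

set_option maxRecDepth 1000000 in
theorem PK_fix : ∀ t ∈ PK, ∀ b ∈ maskSet Omask, tfun t b = b := by
  decide +kernel

set_option maxRecDepth 1000000 in
theorem PK_trans : ∀ y ∈ Tset 5, ∃ t ∈ PK, tfun t (bpt 5) = y := by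
  decide +kernel

set_option maxRecDepth 1000000 in
theorem PK_invol : ∀ t ∈ PK, ∀ p, tfun t (tfun t p) = p := by
  decide +kernel

set_option maxRecDepth 1000000 in
theorem Fset7_subset : Fset 7 ⊆ insert (bpt 5) (maskSet Omask) := by
  decide +kernel

theorem Tset5_eq : Tset 5 = (maskSet Omask)ᶜ := rfl

theorem pstabO_h1 {g : Equiv.Perm GolayPt} (hg : g ∈ pstab M24 (maskSet Omask)) :
    g (bpt 5) ∈ Tset 5 := by
  rw [Tset5_eq, Finset.mem_compl]
  exact apply_notMem_of_mem_pstab hg bpt5_notMem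

theorem pstabO_h2 (y : GolayPt) (hy : y ∈ Tset 5) :
    ∃ g ∈ pstab M24 (maskSet Omask), g (bpt 5) = y := by
  obtain ⟨t, ht, hty⟩ := PK_trans y hy
  obtain ⟨σ, hσ, hσt⟩ := exists_perm_of_good (PK_good t ht)
  exact ⟨σ, ⟨hσ, fun b hb => by rw [hσt]; exact PK_fix t ht b hb⟩, by rw [hσt]; exact hty⟩

theorem card_pstabO_insert : Nat.card (pstab M24 (insert (bpt 5) (maskSet Omask))) = 1 :=
  card_pstab_eq_one _ _ fun _ hg p => rigid (pstab_mono M24 Fset7_subset hg) p

theorem card_pstabO : Nat.card (pstab M24 (maskSet Omask)) = 16 := by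
  rw [card_pstab_step M24 (maskSet Omask) (bpt 5) (Tset 5) (fun g hg => pstabO_h1 hg) pstabO_h2,
    card_pstabO_insert, card_Tset ⟨5, by decide⟩]
  rfl

theorem pstabO_invol {g : Equiv.Perm GolayPt} (hg : g ∈ pstab M24 (maskSet Omask)) :
    g * g = 1 := by
  obtain ⟨t, ht, hty⟩ := PK_trans _ (pstabO_h1 hg)
  obtain ⟨σ, hσ, hσt⟩ := exists_perm_of_good (PK_good t ht)
  have hσO : σ ∈ pstab M24 (maskSet Omask) :=
    ⟨hσ, fun b hb => by rw [hσt]; exact PK_fix t ht b hb⟩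
  have hk : σ⁻¹ * g ∈ pstab M24 (insert (bpt 5) (maskSet Omask)) := by
    refine ⟨M24.mul_mem (M24.inv_mem hσ) hg.1, fun b hb => ?_⟩
    rw [Equiv.Perm.mul_apply, Equiv.Perm.inv_eq_iff_eq]
    rcases Finset.mem_insert.mp hb with rfl | hb
    · rw [hσt, hty]
    · rw [hg.2 b hb, hσO.2 b hb]
  have hgσ : g = σ := by
    apply Equiv.ext
    intro p
    have := rigid (pstab_mono M24 Fset7_subset hk) p
    rw [Equiv.Perm.mul_apply, Equiv.Perm.inv_eq_iff_eq] at this
    exact this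
  apply Equiv.ext
  intro p
  rw [hgσ, Equiv.Perm.mul_apply, hσt, hσt, PK_invol t ht]
  rfl

theorem pstab_eq_inf_fixing (G : Subgroup (Equiv.Perm GolayPt)) (o : Finset GolayPt) :
    G ⊓ fixingSubgroup (Equiv.Perm GolayPt) (o : Set GolayPt) = pstab G o := by
  ext g
  rw [Subgroup.mem_inf, mem_fixingSubgroup_iff, mem_pstab]
  simp only [Finset.mem_coe, Equiv.Perm.smul_def]

theorem octad_pointwise_stabilizer {o : Finset GolayPt} (ho : o ∈ octads) :
    Nat.card ↥(M24 ⊓ fixingSubgroup (Equiv.Perm GolayPt) (o : Set GolayPt)) = 16 ∧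
      ∀ g ∈ M24 ⊓ fixingSubgroup (Equiv.Perm GolayPt) (o : Set GolayPt), g * g = 1 := by
  rw [pstab_eq_inf_fixing]
  obtain ⟨k, hk, hko⟩ := M24_octad_transitive (maskSet_mem_octads Omask_isOctad) ho
  have himg : o = (maskSet Omask).image k := by
    rw [← hko]; rfl
  rw [himg]
  refine ⟨by rw [card_pstab_image M24 _ hk, card_pstabO], fun g hg => ?_⟩
  have h1 : k⁻¹ * g * k ∈ pstab M24 (maskSet Omask) := by
    refine ⟨M24.mul_mem (M24.mul_mem (M24.inv_mem hk) hg.1) hk, fun b hb => ?_⟩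
    rw [Equiv.Perm.mul_apply, Equiv.Perm.mul_apply, hg.2 _ (Finset.mem_image_of_mem k hb)]
    simp
  have h2 := pstabO_invol h1
  have : g * g = k * ((k⁻¹ * g * k) * (k⁻¹ * g * k)) * k⁻¹ := by group
  rw [this, h2]; group

end Cfsg.Agent.Lib.Helper1_Chain
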