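import Mathlib
import Cfsg.Agent.Lib.Helper1_Octads2
import Cfsg.Agent.Lib.Helper1_M12data
set_option autoImplicit false
open Cfsg
open scoped Pointwise
namespace Cfsg.Agent.Lib.Helper1_Chain
open Cfsg.Agent.Lib.Helper1_Golay

/-- elements of the joint stabilizer of the standard octad and `(LO k).head`, moving a point outside both to all such points -/
def TB : ℕ → List (List ℕ)
  | 0 => [
  [0, 1, 2, 3, 4, 5, 6, 7, 8, 9, 10, 11, 12, 13, 14, 15, 16, 17, 18, 19, 20, 21, 22, 23],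
  [7, 2, 0, 4, 1, 8, 16, 3, 20, 9, 12, 6, 10, 14, 11, 23, 18, 19, 13, 17, 5, 21, 15, 22],
  [12, 2, 4, 0, 10, 9, 19, 3, 22, 23, 1, 14, 7, 17, 13, 21, 6, 11, 16, 18, 5, 8, 15, 20],
  [10, 1, 0, 12, 4, 15, 13, 3, 20, 22, 2, 18, 7, 16, 17, 21, 11, 14, 19, 6, 5, 23, 9, 8],
  [3, 10, 4, 2, 0, 20, 11, 7, 21, 9, 1, 19, 12, 16, 13, 5, 17, 14, 6, 18, 22, 8, 15, 23],
  [7, 1, 10, 0, 3, 21, 11, 2, 9, 22, 12, 17, 4, 19, 13, 5, 14, 16, 18, 6, 20, 8, 23, 15],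
  [2, 7, 12, 10, 3, 22, 14, 1, 23, 15, 0, 13, 4, 16, 18, 20, 11, 17, 6, 19, 21, 5, 9, 8],
  [4, 1, 3, 2, 0, 23, 16, 7, 5, 20, 10, 17, 12, 14, 6, 8, 13, 18, 19, 11, 21, 22, 9, 15]]
  | 2 => [
  [0, 1, 2, 3, 4, 5, 6, 7, 8, 9, 10, 11, 12, 13, 14, 15, 16, 17, 18, 19, 20, 21, 22, 23],
  [0, 1, 4, 12, 3, 8, 9, 7, 14, 17, 2, 23, 10, 16, 13, 11, 5, 19, 18, 22, 15, 20, 6, 21],
  [0, 1, 7, 10, 4, 8, 11, 12, 13, 23, 2, 22, 3, 14, 18, 21, 16, 20, 5, 15, 6, 9, 17, 19],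
  [1, 0, 2, 4, 12, 16, 15, 10, 5, 21, 7, 17, 3, 8, 13, 19, 18, 22, 14, 9, 6, 20, 11, 23],
  [1, 0, 12, 4, 3, 18, 17, 2, 13, 6, 10, 23, 7, 5, 16, 21, 8, 15, 14, 19, 11, 22, 9, 20],
  [1, 0, 2, 7, 4, 14, 19, 12, 5, 6, 3, 21, 10, 13, 18, 11, 16, 15, 8, 20, 9, 17, 23, 22],
  [0, 1, 3, 7, 12, 13, 20, 4, 8, 17, 10, 15, 2, 18, 5, 21, 14, 22, 16, 11, 9, 23, 6, 19],
  [0, 1, 7, 2, 10, 5, 21, 4, 13, 6, 3, 23, 12, 18, 16, 17, 8, 11, 14, 9, 15, 22, 19, 20],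
  [0, 1, 4, 10, 2, 5, 22, 7, 16, 19, 3, 15, 12, 14, 13, 11, 8, 17, 18, 9, 23, 21, 6, 20],
  [1, 0, 4, 3, 7, 16, 23, 12, 8, 19, 10, 20, 2, 13, 5, 22, 18, 21, 14, 17, 15, 9, 11, 6]]
  | 4 => [
  [0, 1, 2, 3, 4, 5, 6, 7, 8, 9, 10, 11, 12, 13, 14, 15, 16, 17, 18, 19, 20, 21, 22, 23],
  [1, 0, 3, 2, 4, 6, 20, 10, 19, 21, 12, 13, 7, 17, 11, 15, 8, 9, 5, 16, 23, 14, 18, 22],
  [2, 3, 1, 0, 12, 9, 17, 7, 8, 23, 10, 5, 4, 20, 6, 16, 15, 22, 13, 19, 21, 18, 14, 11],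
  [3, 1, 2, 0, 10, 11, 5, 12, 19, 23, 7, 14, 4, 13, 6, 8, 15, 9, 21, 16, 20, 18, 17, 22],
  [2, 1, 3, 0, 7, 13, 17, 4, 19, 14, 12, 5, 10, 22, 18, 15, 8, 21, 6, 16, 11, 9, 23, 20],
  [2, 0, 3, 1, 10, 14, 13, 7, 16, 21, 4, 20, 12, 22, 5, 8, 19, 17, 6, 15, 9, 11, 18, 23],
  [3, 2, 1, 0, 4, 17, 6, 7, 15, 9, 10, 11, 12, 21, 23, 8, 19, 5, 20, 16, 18, 13, 22, 14],
  [0, 1, 3, 2, 4, 18, 9, 12, 15, 22, 10, 6, 7, 23, 13, 16, 19, 21, 17, 8, 14, 5, 11, 20],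
  [0, 3, 1, 2, 4, 20, 5, 7, 16, 23, 10, 17, 12, 9, 21, 8, 15, 18, 11, 19, 6, 22, 14, 13],
  [3, 2, 0, 1, 4, 21, 22, 12, 15, 9, 10, 11, 7, 17, 20, 16, 19, 18, 23, 8, 5, 14, 6, 13],
  [2, 1, 3, 0, 12, 22, 20, 4, 15, 18, 10, 21, 7, 23, 11, 8, 19, 6, 5, 16, 14, 17, 13, 9],
  [3, 0, 1, 2, 10, 23, 18, 4, 15, 13, 12, 20, 7, 9, 5, 16, 19, 14, 6, 8, 11, 22, 21, 17]]
  | _ => []

/-- the base point outside the two standard octads -/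
def uB : ℕ → ℕ
  | 0 => 5
  | 2 => 6
  | 4 => 5
  | _ => 0

/-- as `TB`, with the first base point fixed -/
def TBp : ℕ → List (List ℕ)
  | 2 => [
  [0, 1, 2, 3, 4, 5, 6, 7, 8, 9, 10, 11, 12, 13, 14, 15, 16, 17, 18, 19, 20, 21, 22, 23],
  [0, 1, 2, 10, 12, 13, 9, 3, 16, 15, 4, 20, 7, 8, 14, 17, 18, 19, 5, 6, 21, 22, 23, 11],
  [0, 1, 12, 10, 4, 8, 11, 7, 5, 21, 3, 6, 2, 18, 14, 23, 16, 17, 13, 19, 22, 9, 20, 15],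
  [0, 1, 12, 3, 10, 5, 15, 7, 14, 23, 4, 21, 2, 13, 8, 6, 18, 20, 16, 19, 17, 11, 22, 9],
  [0, 1, 4, 12, 7, 5, 17, 2, 16, 23, 3, 9, 10, 13, 14, 20, 18, 22, 8, 15, 19, 21, 6, 11],
  [0, 1, 12, 2, 3, 16, 19, 7, 18, 17, 4, 22, 10, 5, 14, 23, 8, 21, 13, 11, 6, 15, 20, 9],
  [0, 1, 10, 2, 3, 18, 20, 12, 14, 15, 4, 9, 7, 8, 16, 19, 13, 17, 5, 11, 22, 21, 23, 6],
  [0, 1, 3, 12, 7, 18, 21, 10, 8, 23, 4, 15, 2, 13, 14, 20, 5, 6, 16, 9, 11, 17, 22, 19],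
  [0, 1, 12, 2, 7, 14, 22, 3, 8, 20, 10, 19, 4, 5, 16, 11, 18, 9, 13, 23, 6, 15, 17, 21],
  [0, 1, 2, 7, 3, 16, 23, 10, 14, 19, 12, 6, 4, 13, 5, 22, 18, 11, 8, 15, 17, 9, 21, 20]]
  | 4 => [
  [0, 1, 2, 3, 4, 5, 6, 7, 8, 9, 10, 11, 12, 13, 14, 15, 16, 17, 18, 19, 20, 21, 22, 23],
  [0, 2, 3, 1, 4, 6, 20, 7, 15, 13, 10, 18, 12, 23, 22, 16, 8, 11, 17, 19, 5, 14, 21, 9],
  [0, 2, 1, 3, 7, 9, 14, 4, 15, 17, 10, 5, 12, 21, 22, 16, 19, 11, 13, 8, 18, 20, 23, 6],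
  [0, 3, 1, 2, 12, 11, 21, 4, 15, 13, 10, 20, 7, 14, 22, 8, 19, 9, 17, 16, 23, 5, 18, 6],
  [0, 3, 2, 1, 12, 13, 11, 10, 19, 22, 4, 9, 7, 23, 21, 15, 16, 18, 14, 8, 5, 17, 6, 20],
  [0, 3, 1, 2, 12, 14, 22, 7, 15, 6, 4, 11, 10, 20, 23, 16, 8, 17, 18, 19, 21, 13, 9, 5],
  [0, 2, 3, 1, 7, 17, 9, 10, 19, 22, 4, 11, 12, 18, 14, 15, 8, 23, 21, 16, 20, 13, 6, 5],
  [0, 3, 2, 1, 7, 18, 9, 4, 19, 6, 10, 11, 12, 17, 20, 15, 16, 13, 5, 8, 14, 23, 22, 21],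
  [0, 3, 2, 1, 10, 20, 22, 12, 19, 11, 7, 6, 4, 5, 18, 15, 16, 21, 17, 8, 23, 14, 9, 13],
  [0, 3, 2, 1, 10, 21, 9, 12, 16, 6, 7, 11, 4, 23, 13, 8, 19, 20, 14, 15, 5, 17, 22, 18],
  [0, 2, 3, 1, 12, 22, 20, 10, 16, 13, 7, 18, 4, 5, 6, 15, 19, 9, 14, 8, 23, 17, 21, 11],
  [0, 3, 2, 1, 7, 23, 18, 12, 8, 13, 4, 20, 10, 22, 5, 19, 16, 14, 11, 15, 6, 9, 21, 17]]
  | _ => []

/-- an element of the joint stabilizer of the standard octad and `(LO 2).head` interchanging the two common points -/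
def Tswap : List ℕ := [1, 0, 2, 7, 4, 14, 19, 12, 5, 6, 3, 21, 10, 13, 18, 11, 16, 15, 8, 20, 9, 17, 23, 22]

set_option maxRecDepth 1000000 in
theorem TB_good : ∀ k ∈ [0, 2, 4], ∀ t ∈ TB k, GoodTable t := by decide +kernel

set_option maxRecDepth 1000000 in
theorem TB_stab : ∀ k ∈ [0, 2, 4], ∀ t ∈ TB k,
    (∀ p, Omask.testBit (idx p) = Omask.testBit (idx (tfun t p))) ∧
    (∀ p, ((LO k).headD 0).testBit (idx p) = ((LO k).headD 0).testBit (idx (tfun t p))) := by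
  decide +kernel

set_option maxRecDepth 1000000 in
theorem TB_trans : ∀ k ∈ [0, 2, 4], ∀ q : GolayPt, Omask.testBit (idx q) = false →
    ((LO k).headD 0).testBit (idx q) = false → ∃ t ∈ TB k, tfun t (pt (uB k)) = q := by
  decide +kernel

set_option maxRecDepth 1000000 in
theorem uB_out : ∀ k ∈ [0, 2, 4], Omask.testBit (idx (pt (uB k))) = false ∧
    ((LO k).headD 0).testBit (idx (pt (uB k))) = false := by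
  decide +kernel

set_option maxRecDepth 1000000 in
theorem TBp_good : ∀ k ∈ [2, 4], ∀ t ∈ TBp k, GoodTable t := by decide +kernel

set_option maxRecDepth 1000000 in
theorem TBp_stab : ∀ k ∈ [2, 4], ∀ t ∈ TBp k,
    (∀ p, Omask.testBit (idx p) = Omask.testBit (idx (tfun t p))) ∧
    (∀ p, ((LO k).headD 0).testBit (idx p) = ((LO k).headD 0).testBit (idx (tfun t p))) ∧
    tfun t (pt 0) = pt 0 := by
  decide +kernel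

set_option maxRecDepth 1000000 in
theorem TBp_trans : ∀ k ∈ [2, 4], ∀ q : GolayPt, Omask.testBit (idx q) = false →
    ((LO k).headD 0).testBit (idx q) = false → ∃ t ∈ TBp k, tfun t (pt (uB k)) = q := by
  decide +kernel

set_option maxRecDepth 1000000 in
theorem Tswap_good : GoodTable Tswap ∧
    (∀ p, Omask.testBit (idx p) = Omask.testBit (idx (tfun Tswap p))) ∧
    (∀ p, ((LO 2).headD 0).testBit (idx p) = ((LO 2).headD 0).testBit (idx (tfun Tswap p))) ∧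
    tfun Tswap (pt 0) = pt 1 ∧ tfun Tswap (pt 1) = pt 0 := by
  decide +kernel

set_option maxRecDepth 1000000 in
theorem PK_LO2_trans : ∀ n ∈ LO 2, ∃ t ∈ PK,
    ∀ p, ((LO 2).headD 0).testBit (idx p) = n.testBit (idx (tfun t p)) := by
  decide +kernel

end Cfsg.Agent.Lib.Helper1_Chain
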