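import Mathlib
import Cfsg.Agent.Lib.Helper1_Trans
set_option autoImplicit false
open Cfsg
open scoped Pointwise
namespace Cfsg.Agent.Lib.Helper1_Chain
open Cfsg.Agent.Lib.Helper1_Golay

/-- a set of points lies in a common octad -/
def InOctad (s : Finset GolayPt) : Prop := ∃ o ∈ octads, s ⊆ o

theorem inOctad_smul {g : Equiv.Perm GolayPt} (hg : g ∈ M24) {s : Finset GolayPt} :
    InOctad (g • s) ↔ InOctad s := by
  constructor
  · rintro ⟨o, ho, hso⟩
    refine ⟨g⁻¹ • o, smul_mem_octads (M24.inv_mem hg) ho, ?_⟩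
    intro p hp
    rw [Finset.mem_inv_smul_finset_iff]
    exact hso (Finset.smul_mem_smul_finset hp)
  · rintro ⟨o, ho, hso⟩
    exact ⟨g • o, smul_mem_octads hg ho, Finset.smul_finset_subset_smul_finset hso⟩

set_option maxRecDepth 100000 in
theorem Fset5_card : (Fset 5).card = 5 := by decide +kernel

set_option maxRecDepth 100000 in
theorem Fset6_eq : Fset 6 = insert (bpt 5) (Fset 5) := by decide +kernel

/-- standard position for six distinct points -/
theorem exists_std_six {l : List GolayPt} (hl : l.Nodup) (hlen : l.length = 6) :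
    ∃ g ∈ M24, ∃ q : GolayPt, (q = bpt 6 ∧ InOctad l.toFinset ∨ q = bpt 5 ∧ ¬ InOctad l.toFinset) ∧
      l = ((List.range 5).map bpt ++ [q]).map g := by
  classical
  -- split off the last point
  obtain ⟨l5, a, rfl⟩ : ∃ l5 a, l = l5 ++ [a] := by
    refine ⟨l.dropLast, l.getLast (by intro h; rw [h] at hlen; simp at hlen), ?_⟩
    exact (List.dropLast_append_getLast _).symm
  have hlen5 : l5.length = 5 := by
    rw [List.length_append, List.length_singleton] at hlen; omega
  rw [List.nodup_append] at hl
  obtain ⟨hnd5, -, hdisj⟩ := hl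
  have ha : a ∉ l5 := fun h => hdisj a h a (List.mem_singleton_self a) rfl
  have hbase : ((List.range 5).map bpt).Nodup := by decide +kernel
  obtain ⟨g1, hg1, hg1l⟩ := exists_map_lists hbase hnd5 (by simp [hlen5]) (by simp)
  set w := g1⁻¹ a with hw
  have hg1w : g1 w = a := by rw [hw]; simp
  have hwF : w ∉ Fset 5 := by
    intro h
    apply ha
    rw [← hg1l, ← hg1w]
    rw [Fset, List.mem_toFinset] at h
    exact List.mem_map_of_mem h
  -- the octad through the first five points
  have hO : g1 • maskSet Omask ∈ octads := smul_mem_octads hg1 (maskSet_mem_octads Omask_isOctad)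
  have hl5O : l5.toFinset ⊆ g1 • maskSet Omask := by
    intro p hp
    rw [List.mem_toFinset, ← hg1l, List.mem_map] at hp
    obtain ⟨q, hq, rfl⟩ := hp
    rw [← Equiv.Perm.smul_def, Finset.smul_mem_smul_finset_iff]
    apply Fset5_subset_Omask
    rw [Fset, List.mem_toFinset]; exact hq
  have hl5card : l5.toFinset.card = 5 := by
    rw [List.toFinset_card_of_nodup hnd5, hlen5]
  have hin : InOctad (l5 ++ [a]).toFinset ↔ w ∈ maskSet Omask := by
    constructor
    · rintro ⟨o, ho, hso⟩
      have hsub : l5.toFinset ⊆ o := fun p hp => hso (by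
        rw [List.mem_toFinset] at hp ⊢; exact List.mem_append_left _ hp)
      have : o = g1 • maskSet Omask := by
        apply octads_inter_lt ho hO
        rw [← hl5card]
        apply Finset.card_le_card
        exact Finset.subset_inter hsub hl5O
      have hao : a ∈ o := hso (by rw [List.mem_toFinset]; simp)
      rw [this, ← hg1w, ← Equiv.Perm.smul_def, Finset.smul_mem_smul_finset_iff] at hao
      exact hao
    · intro hwO
      refine ⟨_, hO, ?_⟩
      intro p hp
      rw [List.mem_toFinset, List.mem_append, List.mem_singleton] at hp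
      rcases hp with hp | rfl
      · exact hl5O (List.mem_toFinset.2 hp)
      · rw [← hg1w, ← Equiv.Perm.smul_def, Finset.smul_mem_smul_finset_iff]; exact hwO
  by_cases hwO : w ∈ maskSet Omask
  · have hw6 : w ∈ Tset 6 := by
      show w ∈ (if 6 < 5 then (Fset 6)ᶜ else if 6 = 5 then (maskSet Omask)ᶜ
        else maskSet Omask \ Fset 6)
      rw [if_neg (by decide), if_neg (by decide), Finset.mem_sdiff, Fset6_eq, Finset.mem_insert]
      refine ⟨hwO, ?_⟩
      rintro (h | h)
      · rw [h] at hwO; exact bpt5_notMem hwO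
      · exact hwF h
    obtain ⟨g2, hg2, hg2w⟩ := exists_trans 6 (by decide) w hw6
    refine ⟨g1 * g2, M24.mul_mem hg1 hg2.1, bpt 6, Or.inl ⟨rfl, hin.2 hwO⟩, ?_⟩
    rw [List.map_append, List.map_singleton, Equiv.Perm.mul_apply, hg2w, hg1w]
    congr 1
    rw [← hg1l]
    apply List.map_congr_left
    intro p hp
    rw [Equiv.Perm.mul_apply]
    congr 1
    symm
    apply hg2.2
    rw [Fset6_eq, Finset.mem_insert]
    right
    rw [Fset, List.mem_toFinset]; exact hp
  · have hw5 : w ∈ Tset 5 := by
      show w ∈ (if 5 < 5 then (Fset 5)ᶜ else if 5 = 5 then (maskSet Omask)ᶜ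
        else maskSet Omask \ Fset 5)
      rw [if_neg (by decide), if_pos rfl, Finset.mem_compl]
      exact hwO
    obtain ⟨g2, hg2, hg2w⟩ := exists_trans 5 (by decide) w hw5
    refine ⟨g1 * g2, M24.mul_mem hg1 hg2.1, bpt 5, Or.inr ⟨rfl, fun h => hwO (hin.1 h)⟩, ?_⟩
    rw [List.map_append, List.map_singleton, Equiv.Perm.mul_apply, hg2w, hg1w]
    congr 1
    rw [← hg1l]
    apply List.map_congr_left
    intro p hp
    rw [Equiv.Perm.mul_apply]
    congr 1
    symm
    apply hg2.2
    rw [Fset, List.mem_toFinset]; exact hp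

/-- `M24` maps six distinct points to six distinct points whenever both or neither sextuple lies
in an octad -/
theorem exists_map_six {l l' : List GolayPt} (hl : l.Nodup) (hl' : l'.Nodup) (hlen : l.length = 6)
    (hlen' : l'.length = 6) (h : InOctad l.toFinset ↔ InOctad l'.toFinset) :
    ∃ g ∈ M24, l.map g = l' := by
  obtain ⟨g1, hg1, q1, hq1, e1⟩ := exists_std_six hl hlen
  obtain ⟨g2, hg2, q2, hq2, e2⟩ := exists_std_six hl' hlen'
  have hq : q1 = q2 := by
    rcases hq1 with ⟨a1, a2⟩ | ⟨a1, a2⟩ <;> rcases hq2 with ⟨b1, b2⟩ | ⟨b1, b2⟩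
    · rw [a1, b1]
    · exact absurd (h.1 a2) b2
    · exact absurd (h.2 b2) a2
    · rw [a1, b1]
  subst hq
  refine ⟨g2 * g1⁻¹, M24.mul_mem hg2 (M24.inv_mem hg1), ?_⟩
  rw [e1, e2, List.map_map]
  apply List.map_congr_left
  intro p _
  simp

end Cfsg.Agent.Lib.Helper1_Chain
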