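import Mathlib
import Cfsg.Agent.Lib.Helper1_OctadPairsData
import Cfsg.Agent.Lib.Helper1_Six
import Cfsg.Agent.Lib.Helper1_M24d
set_option autoImplicit false
open Cfsg
open scoped Pointwise
namespace Cfsg.Agent.Lib.Helper1_Chain
open Cfsg.Agent.Lib.Helper1_Golay

theorem smul_toFinset_of_map {g : Equiv.Perm GolayPt} {l l' : List GolayPt} (h : l.map g = l') :
    g • l.toFinset = l'.toFinset := by
  subst h
  ext p
  rw [List.mem_toFinset, List.mem_map, Finset.mem_smul_finset]
  constructor
  · rintro ⟨q, hq, rfl⟩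
    exact ⟨q, List.mem_toFinset.1 hq, rfl⟩
  · rintro ⟨q, hq, rfl⟩
    exact ⟨q, List.mem_toFinset.2 hq, rfl⟩

/-- an element of `M24` mapping five points of an octad into the octad stabilizes it -/
theorem smul_octad_eq_of_five {g : Equiv.Perm GolayPt} (hg : g ∈ M24) {o : Finset GolayPt}
    (ho : o ∈ octads) {s : Finset GolayPt} (hs : s ⊆ o) (hgs : g • s ⊆ o) (h5 : 5 ≤ s.card) :
    g • o = o := by
  apply octads_inter_lt (smul_mem_octads hg ho) ho
  apply le_trans h5
  rw [← Finset.card_smul_finset g s]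
  apply Finset.card_le_card
  intro p hp
  rw [Finset.mem_inter]
  exact ⟨Finset.smul_finset_subset_smul_finset hs hp, hgs hp⟩

/-- an enumeration of a finite set beginning with a given list -/
theorem enum_prefix (s : Finset GolayPt) (pre : List GolayPt) (hpre : pre.Nodup)
    (hsub : ∀ a ∈ pre, a ∈ s) :
    ∃ rest : List GolayPt, (pre ++ rest).Nodup ∧ (pre ++ rest).toFinset = s ∧
      (pre ++ rest).length = s.card := by
  classical
  refine ⟨(s \ pre.toFinset).toList, ?_, ?_, ?_⟩
  · rw [List.nodup_append]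
    refine ⟨hpre, Finset.nodup_toList _, ?_⟩
    intro a ha b hb hab
    subst hab
    rw [Finset.mem_toList, Finset.mem_sdiff, List.mem_toFinset] at hb
    exact hb.2 ha
  · ext p
    rw [List.mem_toFinset, List.mem_append, Finset.mem_toList, Finset.mem_sdiff, List.mem_toFinset]
    constructor
    · rintro (h | h)
      · exact hsub p h
      · exact h.1
    · intro h
      by_cases hp : p ∈ pre
      · exact Or.inl hp
      · exact Or.inr ⟨h, hp⟩
  · have hsub' : pre.toFinset ⊆ s := fun a ha => hsub a (List.mem_toFinset.1 ha)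
    rw [List.length_append, Finset.length_toList, Finset.card_sdiff_of_subset hsub',
      List.toFinset_card_of_nodup hpre]
    have : pre.length ≤ s.card := by
      rw [← List.toFinset_card_of_nodup hpre]; exact Finset.card_le_card hsub'
    omega

/-- every bijection between enumerations of the four common points of two octads is induced by
an element of `M24` stabilizing both octads -/
theorem joint_induce_four {o o' : Finset GolayPt} (ho : o ∈ octads) (ho' : o' ∈ octads)
    (h4 : (o ∩ o').card = 4) {l l' : List GolayPt} (hl : l.Nodup) (hl' : l'.Nodup)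
    (hlo : l.toFinset = o ∩ o') (hlo' : l'.toFinset = o ∩ o') :
    ∃ g ∈ M24, g • o = o ∧ g • o' = o' ∧ l.map g = l' := by
  classical
  have hlen : l.length = 4 := by rw [← List.toFinset_card_of_nodup hl, hlo, h4]
  have hlen' : l'.length = 4 := by rw [← List.toFinset_card_of_nodup hl', hlo', h4]
  have ha : (o \ o').Nonempty := by
    rw [← Finset.card_pos]
    have := Finset.card_sdiff_add_card_inter o o'
    rw [ho.2] at this; omega
  have hb : (o' \ o).Nonempty := by
    rw [← Finset.card_pos]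
    have := Finset.card_sdiff_add_card_inter o' o
    rw [ho'.2, Finset.inter_comm] at this; omega
  obtain ⟨a, ha⟩ := ha
  obtain ⟨b, hb⟩ := hb
  rw [Finset.mem_sdiff] at ha hb
  have hab : a ≠ b := by
    rintro rfl
    exact ha.2 hb.1
  have hnd : ∀ m : List GolayPt, m.Nodup → m.toFinset = o ∩ o' → (m ++ [a, b]).Nodup := by
    intro m hm hmo
    rw [List.nodup_append]
    refine ⟨hm, by simp [hab], ?_⟩
    intro x hx y hy hxy
    subst hxy
    have hx' : x ∈ o ∩ o' := by rw [← hmo]; exact List.mem_toFinset.2 hx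
    rw [Finset.mem_inter] at hx'
    simp only [List.mem_cons, List.mem_nil_iff, or_false] at hy
    rcases hy with rfl | rfl
    · exact ha.2 hx'.2
    · exact hb.2 hx'.1
  have hfin : ∀ m : List GolayPt, m.toFinset = o ∩ o' →
      (m ++ [a, b]).toFinset = insert a (insert b (o ∩ o')) := by
    intro m hmo
    ext p
    simp only [List.mem_toFinset, List.mem_append, List.mem_cons, List.mem_nil_iff, or_false,
      Finset.mem_insert, ← hmo]
    tauto
  obtain ⟨g, hg, hgl⟩ := exists_map_six (hnd l hl hlo) (hnd l' hl' hlo')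
    (by simp [hlen]) (by simp [hlen']) (by rw [hfin l hlo, hfin l' hlo'])
  rw [List.map_append] at hgl
  have h1 := List.append_inj_left hgl (by simp [hlen, hlen'])
  have h2 := List.append_inj_right hgl (by simp [hlen, hlen'])
  simp only [List.map_cons, List.map_nil, List.cons.injEq, and_true] at h2
  have hgI : g • (o ∩ o') = o ∩ o' := by
    have := smul_toFinset_of_map h1
    rw [hlo, hlo'] at this
    exact this
  refine ⟨g, hg, ?_, ?_, h1⟩
  · apply smul_octad_eq_of_five hg ho (s := insert a (o ∩ o'))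
    · intro p hp
      rcases Finset.mem_insert.1 hp with rfl | hp
      · exact ha.1
      · exact (Finset.mem_inter.1 hp).1
    · rw [Finset.smul_finset_insert, hgI, Equiv.Perm.smul_def, h2.1]
      intro p hp
      rcases Finset.mem_insert.1 hp with rfl | hp
      · exact ha.1
      · exact (Finset.mem_inter.1 hp).1
    · rw [Finset.card_insert_of_notMem (by
        intro h; exact ha.2 (Finset.mem_inter.1 h).2), h4]
  · apply smul_octad_eq_of_five hg ho' (s := insert b (o ∩ o'))
    · intro p hp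
      rcases Finset.mem_insert.1 hp with rfl | hp
      · exact hb.1
      · exact (Finset.mem_inter.1 hp).2
    · rw [Finset.smul_finset_insert, hgI, Equiv.Perm.smul_def, h2.2]
      intro p hp
      rcases Finset.mem_insert.1 hp with rfl | hp
      · exact hb.1
      · exact (Finset.mem_inter.1 hp).2
    · rw [Finset.card_insert_of_notMem (by
        intro h; exact hb.2 (Finset.mem_inter.1 h).1), h4]

/-- conjugating a table element stabilizing standard sets -/
theorem conj_table_smul {u σ : Equiv.Perm GolayPt} {t : List ℕ} (hσt : ∀ p, σ p = tfun t p)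
    {m : ℕ} (hm : ∀ p, m.testBit (idx p) = m.testBit (idx (tfun t p))) {o : Finset GolayPt}
    (huo : u • maskSet m = o) : (u * σ * u⁻¹) • o = o := by
  rw [mul_smul, mul_smul]
  conv_lhs => rw [← huo]
  rw [inv_smul_smul, smul_maskSet_of_table hσt hm, huo]

set_option maxRecDepth 100000 in
theorem std_inter : ∀ k ∈ [2, 4], pt 0 ∈ maskSet Omask ∩ maskSet ((LO k).headD 0) ∧
    maskSet Omask ∩ maskSet ((LO k).headD 0) = Fset k := by
  decide +kernel

set_option maxRecDepth 100000 in
theorem Fset2_eq : Fset 2 = {pt 0, pt 1} := by decide +kernel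

/-- the joint stabilizer of two octads meeting in two points interchanges these -/
theorem joint_swap_two {o o' : Finset GolayPt} (ho : o ∈ octads) (ho' : o' ∈ octads)
    (h2 : (o ∩ o').card = 2) {x y : GolayPt} (hx : x ∈ o ∩ o') (hy : y ∈ o ∩ o') :
    ∃ g ∈ M24, g • o = o ∧ g • o' = o' ∧ g x = y := by
  by_cases hxy : x = y
  · exact ⟨1, M24.one_mem, one_smul _ _, one_smul _ _, by rw [hxy]; rfl⟩
  obtain ⟨u, hu, huo, huo'⟩ := octad_pair_std ho ho' (k := 2) (by decide) h2
  obtain ⟨hgood, hsO, hsO', h01, h10⟩ := Tswap_good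
  obtain ⟨σ, hσ, hσt⟩ := exists_perm_of_good hgood
  have hI : o ∩ o' = {u (pt 0), u (pt 1)} := by
    rw [← huo, ← huo', ← Finset.smul_finset_inter, (std_inter 2 (by decide)).2, Fset2_eq,
      Finset.smul_finset_insert, Finset.smul_finset_singleton]
    rfl
  rw [hI] at hx hy
  simp only [Finset.mem_insert, Finset.mem_singleton] at hx hy
  have hg0 : (u * σ * u⁻¹) (u (pt 0)) = u (pt 1) := by
    rw [Equiv.Perm.mul_apply, Equiv.Perm.mul_apply, show u⁻¹ (u (pt 0)) = pt 0 by simp, hσt, h01]
  have hg1 : (u * σ * u⁻¹) (u (pt 1)) = u (pt 0) := by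
    rw [Equiv.Perm.mul_apply, Equiv.Perm.mul_apply, show u⁻¹ (u (pt 1)) = pt 1 by simp, hσt, h10]
  refine ⟨u * σ * u⁻¹, M24.mul_mem (M24.mul_mem hu hσ) (M24.inv_mem hu),
    conj_table_smul hσt hsO huo, conj_table_smul hσt hsO' huo', ?_⟩
  rcases hx with rfl | rfl <;> rcases hy with rfl | rfl
  · exact absurd rfl hxy
  · exact hg0
  · exact hg1
  · exact absurd rfl hxy

/-- the joint stabilizer of two distinct octads is transitive on their common points -/
theorem joint_trans_inter {o o' : Finset GolayPt} (ho : o ∈ octads) (ho' : o' ∈ octads)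
    (hne : o ≠ o') {x y : GolayPt} (hx : x ∈ o ∩ o') (hy : y ∈ o ∩ o') :
    ∃ g ∈ M24, g • o = o ∧ g • o' = o' ∧ g x = y := by
  classical
  rcases card_inter_octads ho ho' with h | h | h | h
  · rw [Finset.card_eq_zero] at h
    rw [h] at hx
    exact absurd hx (Finset.notMem_empty x)
  · exact joint_swap_two ho ho' h hx hy
  · obtain ⟨r, hnd, hfin, -⟩ := enum_prefix (o ∩ o') [x] (List.nodup_singleton x) (by
      intro a ha; rw [List.mem_singleton] at ha; rw [ha]; exact hx)
    obtain ⟨r', hnd', hfin', -⟩ := enum_prefix (o ∩ o') [y] (List.nodup_singleton y) (by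
      intro a ha; rw [List.mem_singleton] at ha; rw [ha]; exact hy)
    obtain ⟨g, hg, hgo, hgo', hgl⟩ := joint_induce_four ho ho' h hnd hnd' hfin hfin'
    refine ⟨g, hg, hgo, hgo', ?_⟩
    simp only [List.singleton_append, List.map_cons, List.cons.injEq] at hgl
    exact hgl.1
  · exact absurd h hne

/-- the joint stabilizer of two distinct octads is transitive on the points outside both -/
theorem joint_trans_compl {o o' : Finset GolayPt} (ho : o ∈ octads) (ho' : o' ∈ octads)
    (hne : o ≠ o') {x y : GolayPt} (hxo : x ∉ o) (hxo' : x ∉ o') (hyo : y ∉ o) (hyo' : y ∉ o') :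
    ∃ g ∈ M24, g • o = o ∧ g • o' = o' ∧ g x = y := by
  have key : ∀ k ∈ [0, 2, 4], (o ∩ o').card = k → ∃ g ∈ M24, g • o = o ∧ g • o' = o' ∧ g x = y := by
    intro k hk hkc
    obtain ⟨u, hu, huo, huo'⟩ := octad_pair_std ho ho' hk hkc
    have hout : ∀ z, z ∉ o → z ∉ o' → Omask.testBit (idx (u⁻¹ z)) = false ∧
        ((LO k).headD 0).testBit (idx (u⁻¹ z)) = false := by
      intro z hz hz'
      constructor
      · rw [← Bool.not_eq_true, ← mem_maskSet]
        intro hmem
        apply hz
        rw [← huo]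
        have := Finset.smul_mem_smul_finset (a := u) hmem
        simpa using this
      · rw [← Bool.not_eq_true, ← mem_maskSet]
        intro hmem
        apply hz'
        rw [← huo']
        have := Finset.smul_mem_smul_finset (a := u) hmem
        simpa using this
    obtain ⟨t1, ht1, h1⟩ := TB_trans k hk (u⁻¹ x) (hout x hxo hxo').1 (hout x hxo hxo').2
    obtain ⟨t2, ht2, h2⟩ := TB_trans k hk (u⁻¹ y) (hout y hyo hyo').1 (hout y hyo hyo').2
    obtain ⟨σ1, hσ1, hσt1⟩ := exists_perm_of_good (TB_good k hk t1 ht1)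
    obtain ⟨σ2, hσ2, hσt2⟩ := exists_perm_of_good (TB_good k hk t2 ht2)
    have s1 := TB_stab k hk t1 ht1
    have s2 := TB_stab k hk t2 ht2
    have hstab : ∀ (m : ℕ) (w : Finset GolayPt), u • maskSet m = w →
        (∀ p, m.testBit (idx p) = m.testBit (idx (tfun t1 p))) →
        (∀ p, m.testBit (idx p) = m.testBit (idx (tfun t2 p))) →
        (u * (σ2 * σ1⁻¹) * u⁻¹) • w = w := by
      intro m w huw hm1 hm2
      rw [mul_smul, mul_smul, mul_smul]
      conv_lhs => rw [← huw]
      rw [inv_smul_smul]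
      have e1 : σ1 • maskSet m = maskSet m := smul_maskSet_of_table hσt1 hm1
      have e2 : σ2 • maskSet m = maskSet m := smul_maskSet_of_table hσt2 hm2
      have e3 : σ1⁻¹ • maskSet m = maskSet m := by
        conv_lhs => rw [← e1]
        rw [inv_smul_smul]
      rw [e3, e2, huw]
    refine ⟨u * (σ2 * σ1⁻¹) * u⁻¹, M24.mul_mem (M24.mul_mem hu (M24.mul_mem hσ2
      (M24.inv_mem hσ1))) (M24.inv_mem hu), hstab _ _ huo s1.1 s2.1, hstab _ _ huo' s1.2 s2.2, ?_⟩
    rw [Equiv.Perm.mul_apply, Equiv.Perm.mul_apply, Equiv.Perm.mul_apply]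
    have e1 : σ1⁻¹ (u⁻¹ x) = pt (uB k) := by
      rw [Equiv.Perm.inv_eq_iff_eq, hσt1, h1]
    rw [e1, hσt2, h2]
    simp
  rcases card_inter_octads ho ho' with h | h | h | h
  · exact key 0 (by decide) h
  · exact key 2 (by decide) h
  · exact key 4 (by decide) h
  · exact absurd h hne

/-- as `joint_trans_compl`, fixing moreover a common point of the two octads -/
theorem joint_trans_compl_fix {o o' : Finset GolayPt} (ho : o ∈ octads) (ho' : o' ∈ octads)
    (hne : o ≠ o') {p : GolayPt} (hp : p ∈ o ∩ o') {x y : GolayPt} (hxo : x ∉ o) (hxo' : x ∉ o')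
    (hyo : y ∉ o) (hyo' : y ∉ o') :
    ∃ g ∈ M24, g • o = o ∧ g • o' = o' ∧ g p = p ∧ g x = y := by
  have key : ∀ k ∈ [2, 4], (o ∩ o').card = k →
      ∃ g ∈ M24, g • o = o ∧ g • o' = o' ∧ g p = p ∧ g x = y := by
    intro k hk hkc
    have hk' : k ∈ [0, 2, 4] := by
      simp only [List.mem_cons, List.mem_nil_iff, or_false] at hk ⊢
      omega
    obtain ⟨u0, hu0, hu0o, hu0o'⟩ := octad_pair_std ho ho' hk' hkc
    -- adjust so that the first base point goes to `p`
    have hO : maskSet Omask ∈ octads := maskSet_mem_octads Omask_isOctad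
    have hO' : maskSet ((LO k).headD 0) ∈ octads := by
      have h := smul_mem_octads (M24.inv_mem hu0) ho'
      rw [← hu0o', inv_smul_smul] at h
      exact h
    have hneO : maskSet Omask ≠ maskSet ((LO k).headD 0) := by
      intro h
      apply hne
      rw [← hu0o, ← hu0o', h]
    have hp' : u0⁻¹ p ∈ maskSet Omask ∩ maskSet ((LO k).headD 0) := by
      rw [← hu0o, ← hu0o', ← Finset.smul_finset_inter] at hp
      rw [← Finset.inv_smul_mem_iff] at hp
      exact hp
    obtain ⟨h, hh, hhO, hhO', hh0⟩ := joint_trans_inter hO hO' hneO (std_inter k hk).1 hp'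
    obtain ⟨u, hu_def⟩ : ∃ u, u = u0 * h := ⟨_, rfl⟩
    have hu : u ∈ M24 := by rw [hu_def]; exact M24.mul_mem hu0 hh
    have huo : u • maskSet Omask = o := by rw [hu_def, mul_smul, hhO, hu0o]
    have huo' : u • maskSet ((LO k).headD 0) = o' := by rw [hu_def, mul_smul, hhO', hu0o']
    have hup : u (pt 0) = p := by
      rw [hu_def, Equiv.Perm.mul_apply, hh0]; simp
    have hout : ∀ z, z ∉ o → z ∉ o' → Omask.testBit (idx (u⁻¹ z)) = false ∧
        ((LO k).headD 0).testBit (idx (u⁻¹ z)) = false := by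
      intro z hz hz'
      constructor
      · rw [← Bool.not_eq_true, ← mem_maskSet]
        intro hmem
        apply hz
        rw [← huo]
        have := Finset.smul_mem_smul_finset (a := u) hmem
        simpa using this
      · rw [← Bool.not_eq_true, ← mem_maskSet]
        intro hmem
        apply hz'
        rw [← huo']
        have := Finset.smul_mem_smul_finset (a := u) hmem
        simpa using this
    obtain ⟨t1, ht1, h1⟩ := TBp_trans k hk (u⁻¹ x) (hout x hxo hxo').1 (hout x hxo hxo').2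
    obtain ⟨t2, ht2, h2⟩ := TBp_trans k hk (u⁻¹ y) (hout y hyo hyo').1 (hout y hyo hyo').2
    obtain ⟨σ1, hσ1, hσt1⟩ := exists_perm_of_good (TBp_good k hk t1 ht1)
    obtain ⟨σ2, hσ2, hσt2⟩ := exists_perm_of_good (TBp_good k hk t2 ht2)
    have s1 := TBp_stab k hk t1 ht1
    have s2 := TBp_stab k hk t2 ht2
    have hstab : ∀ (m : ℕ) (w : Finset GolayPt), u • maskSet m = w →
        (∀ p, m.testBit (idx p) = m.testBit (idx (tfun t1 p))) →
        (∀ p, m.testBit (idx p) = m.testBit (idx (tfun t2 p))) →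
        (u * (σ2 * σ1⁻¹) * u⁻¹) • w = w := by
      intro m w huw hm1 hm2
      rw [mul_smul, mul_smul, mul_smul]
      conv_lhs => rw [← huw]
      rw [inv_smul_smul]
      have e1 : σ1 • maskSet m = maskSet m := smul_maskSet_of_table hσt1 hm1
      have e2 : σ2 • maskSet m = maskSet m := smul_maskSet_of_table hσt2 hm2
      have e3 : σ1⁻¹ • maskSet m = maskSet m := by
        conv_lhs => rw [← e1]
        rw [inv_smul_smul]
      rw [e3, e2, huw]
    refine ⟨u * (σ2 * σ1⁻¹) * u⁻¹, M24.mul_mem (M24.mul_mem hu (M24.mul_mem hσ2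
      (M24.inv_mem hσ1))) (M24.inv_mem hu), hstab _ _ huo s1.1 s2.1, hstab _ _ huo' s1.2.1 s2.2.1,
      ?_, ?_⟩
    · rw [Equiv.Perm.mul_apply, Equiv.Perm.mul_apply, Equiv.Perm.mul_apply, ← hup,
        show u⁻¹ (u (pt 0)) = pt 0 by simp]
      have e1 : σ1⁻¹ (pt 0) = pt 0 := by
        rw [Equiv.Perm.inv_eq_iff_eq, hσt1, s1.2.2]
      rw [e1, hσt2, s2.2.2]
    · rw [Equiv.Perm.mul_apply, Equiv.Perm.mul_apply, Equiv.Perm.mul_apply]
      have e1 : σ1⁻¹ (u⁻¹ x) = pt (uB k) := by
        rw [Equiv.Perm.inv_eq_iff_eq, hσt1, h1]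
      rw [e1, hσt2, h2]
      simp
  rcases card_inter_octads ho ho' with h | h | h | h
  · rw [Finset.card_eq_zero] at h
    rw [h] at hp
    exact absurd hp (Finset.notMem_empty p)
  · exact key 2 (by decide) h
  · exact key 4 (by decide) h
  · exact absurd h hne

/-- the pointwise stabilizer of an octad is transitive on the octads meeting it in a given pair -/
theorem pstab_trans_two {o o' o'' : Finset GolayPt} (ho : o ∈ octads) (ho' : o' ∈ octads)
    (ho'' : o'' ∈ octads) (h2 : (o ∩ o').card = 2) (heq : o ∩ o' = o ∩ o'') :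
    ∃ g ∈ pstab M24 o, g • o' = o'' := by
  obtain ⟨u, hu, huo, hus⟩ := exists_std ho (Finset.inter_subset_left : o ∩ o' ⊆ o) h2 (by decide)
  have hmask : ∀ y, y ∈ octads → o ∩ y = o ∩ o' → ∃ n ∈ LO 2, u⁻¹ • y = maskSet n := by
    intro y hy hyo
    have hX : u⁻¹ • y ∈ octads := smul_mem_octads (M24.inv_mem hu) hy
    obtain ⟨n, hn, hn8, hXn⟩ := octad_eq_maskSet hX
    refine ⟨n, ?_, hXn⟩
    apply LO_complete 2 (by decide) n hn hn8
    apply maskSet_inj (lt_of_le_of_lt Nat.and_le_left (by decide)) (by decide)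
    rw [maskSet_and, ← hXn]
    have : maskSet Omask ∩ u⁻¹ • y = u⁻¹ • (o ∩ y) := by
      rw [Finset.smul_finset_inter, ← huo, inv_smul_smul]
    rw [this, hyo, ← hus, inv_smul_smul]
    exact Fset_eq_maskSet 2 (by decide)
  obtain ⟨n1, hn1, e1⟩ := hmask o' ho' rfl
  obtain ⟨n2, hn2, e2⟩ := hmask o'' ho'' heq.symm
  obtain ⟨t1, ht1, h1⟩ := PK_LO2_trans n1 hn1
  obtain ⟨t2, ht2, h2'⟩ := PK_LO2_trans n2 hn2
  obtain ⟨σ1, hσ1, hσt1⟩ := exists_perm_of_good (PK_good t1 ht1)
  obtain ⟨σ2, hσ2, hσt2⟩ := exists_perm_of_good (PK_good t2 ht2)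
  have f1 : σ1 • maskSet ((LO 2).headD 0) = maskSet n1 := smul_maskSet_of_table hσt1 h1
  have f2 : σ2 • maskSet ((LO 2).headD 0) = maskSet n2 := smul_maskSet_of_table hσt2 h2'
  have hfix : ∀ (σ : Equiv.Perm GolayPt) (t : List ℕ), t ∈ PK → (∀ p, σ p = tfun t p) →
      ∀ b ∈ maskSet Omask, σ b = b := fun σ t ht hσt b hb => by rw [hσt]; exact PK_fix t ht b hb
  refine ⟨u * (σ2 * σ1⁻¹) * u⁻¹, ⟨M24.mul_mem (M24.mul_mem hu (M24.mul_mem hσ2
    (M24.inv_mem hσ1))) (M24.inv_mem hu), ?_⟩, ?_⟩
  · intro b hb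
    have hb' : u⁻¹ b ∈ maskSet Omask := by
      rw [← huo] at hb
      rw [← Finset.inv_smul_mem_iff] at hb
      exact hb
    rw [Equiv.Perm.mul_apply, Equiv.Perm.mul_apply, Equiv.Perm.mul_apply]
    have e : σ1⁻¹ (u⁻¹ b) = u⁻¹ b := by
      rw [Equiv.Perm.inv_eq_iff_eq, hfix σ1 t1 ht1 hσt1 _ hb']
    rw [e, hfix σ2 t2 ht2 hσt2 _ hb']
    simp
  · rw [mul_smul, mul_smul, mul_smul, e1, ← f1, inv_smul_smul, f2, ← e2, smul_inv_smul]

/-- counting words of weight `w` with a property, after moving to standard position -/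
theorem ncard_words_std {u : Equiv.Perm GolayPt} (hu : u ∈ M24) (w : ℕ)
    (P Q : Finset GolayPt → Prop) (Qm : ℕ → Prop) [DecidablePred Qm]
    (hPQ : ∀ y, P y ↔ Q (u⁻¹ • y)) (hQ : ∀ n, n < 2 ^ 24 → (Q (maskSet n) ↔ Qm n)) :
    {y : Finset GolayPt | y ∈ wordsOfWeight (golayCode : Set (GolayPt → ZMod 2)) w ∧ P y}.ncard =
      ((allWords rows).filter (fun n => popc n = w ∧ Qm n)).length := by
  rw [← ncard_words_smul hu w Q Qm hQ]
  congr 1
  ext y
  simp only [Set.mem_ofPred_eq, hPQ]

theorem idx_pt_lt : ∀ k : Fin 24, idx (pt k.val) = k.val := by decide +kernel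

theorem mem_inv_smul_iff_apply {u : Equiv.Perm GolayPt} {q : GolayPt} {y : Finset GolayPt} :
    q ∈ u⁻¹ • y ↔ u q ∈ y := by
  rw [Finset.mem_inv_smul_finset_iff]; rfl

theorem inter_inv_smul {u : Equiv.Perm GolayPt} {a o y : Finset GolayPt} (h : u • a = o) :
    (a ∩ u⁻¹ • y).card = (o ∩ y).card := by
  have : a ∩ u⁻¹ • y = u⁻¹ • (o ∩ y) := by
    rw [Finset.smul_finset_inter, ← h, inv_smul_smul]
  rw [this, Finset.card_smul_finset]

end Cfsg.Agent.Lib.Helper1_Chain
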