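import Mathlib
import Cfsg.Agent.Lib.Helper1_DodecadPairsData
import Cfsg.Agent.Lib.Helper1_OctadPairs
set_option autoImplicit false
open Cfsg
open scoped Pointwise
namespace Cfsg.Agent.Lib.Helper1_Chain
open Cfsg.Agent.Lib.Helper1_Golay

/-- transitivity of a joint stabilizer from a transversal of tables in standard position -/
theorem conj_trans_tables (T : List (List ℕ)) (m1 m2 base : ℕ)
    (hgood : ∀ t ∈ T, GoodTable t ∧ (∀ p, m1.testBit (idx p) = m1.testBit (idx (tfun t p))) ∧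
      (∀ p, m2.testBit (idx p) = m2.testBit (idx (tfun t p))))
    {u : Equiv.Perm GolayPt} (hu : u ∈ M24) {a b : Finset GolayPt} (hua : u • maskSet m1 = a)
    (hub : u • maskSet m2 = b) {x y : GolayPt} (hx : ∃ t ∈ T, tfun t (pt base) = u⁻¹ x)
    (hy : ∃ t ∈ T, tfun t (pt base) = u⁻¹ y) :
    ∃ g ∈ M24, g • a = a ∧ g • b = b ∧ g x = y := by
  obtain ⟨t1, ht1, h1⟩ := hx
  obtain ⟨t2, ht2, h2⟩ := hy
  obtain ⟨g1, s1, s1'⟩ := hgood t1 ht1
  obtain ⟨g2, s2, s2'⟩ := hgood t2 ht2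
  obtain ⟨σ1, hσ1, hσt1⟩ := exists_perm_of_good g1
  obtain ⟨σ2, hσ2, hσt2⟩ := exists_perm_of_good g2
  have hstab : ∀ (m : ℕ) (w : Finset GolayPt), u • maskSet m = w →
      (∀ p, m.testBit (idx p) = m.testBit (idx (tfun t1 p))) →
      (∀ p, m.testBit (idx p) = m.testBit (idx (tfun t2 p))) →
      (u * (σ2 * σ1⁻¹) * u⁻¹) • w = w := by
    intro m w huw hm1 hm2
    rw [mul_smul, mul_smul, mul_smul]
    conv_lhs => rw [← huw]
    rw [inv_smul_smul]
    have e1 : σ1 • maskSet m = maskSet m := smul_maskSet_of_table hσt1 hm1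
    have e2 : σ2 • maskSet m = maskSet m := smul_maskSet_of_table hσt2 hm2
    have e3 : σ1⁻¹ • maskSet m = maskSet m := by
      conv_lhs => rw [← e1]
      rw [inv_smul_smul]
    rw [e3, e2, huw]
  refine ⟨u * (σ2 * σ1⁻¹) * u⁻¹, M24.mul_mem (M24.mul_mem hu (M24.mul_mem hσ2
    (M24.inv_mem hσ1))) (M24.inv_mem hu), hstab _ _ hua s1 s2, hstab _ _ hub s1' s2', ?_⟩
  rw [Equiv.Perm.mul_apply, Equiv.Perm.mul_apply, Equiv.Perm.mul_apply]
  have e1 : σ1⁻¹ (u⁻¹ x) = pt base := by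
    rw [Equiv.Perm.inv_eq_iff_eq, hσt1, h1]
  rw [e1, hσt2, h2]
  simp

set_option maxRecDepth 1000000 in
theorem De_dodecads : ((∀ p, enc (natWord De4) p = natWord De4 p) ∧ popc De4 = 12) ∧
    ((∀ p, enc (natWord De6) p = natWord De6 p) ∧ popc De6 = 12) ∧
    popc (d0 &&& De4) = 4 ∧ popc (d0 &&& De6) = 6 := by
  decide +kernel

/-- standard position of a pair of dodecads -/
theorem dodecad_pair_std {d e : Finset GolayPt} (hd : d ∈ dodecads) (he : e ∈ dodecads)
    (n : ℕ) (hn : (∀ p, enc (natWord n) p = natWord n p) ∧ popc n = 12)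
    (hcard : (d ∩ e).card = popc (d0 &&& n)) :
    ∃ g ∈ M24, g • maskSet d0 = d ∧ g • maskSet n = e := by
  obtain ⟨g0, hg0, hg0d⟩ := M24_dodecad_transitive d0_dodecad hd
  have hn' : maskSet n ∈ dodecads := maskSet_mem_dodecads hn
  have h1 : (d ∩ g0 • maskSet n).card = (d ∩ e).card := by
    rw [hcard, ← hg0d, ← Finset.smul_finset_inter, Finset.card_smul_finset, ← maskSet_and,
      card_maskSet]
  obtain ⟨g1, hg1, hg1d, hg1e⟩ := dodecad_stab_trans hd (smul_mem_dodecads hg0 hn') he h1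
  refine ⟨g1 * g0, M24.mul_mem hg1 hg0, ?_, ?_⟩
  · rw [mul_smul, hg0d, hg1d]
  · rw [mul_smul, hg1e]

theorem testBit_of_mem {u : Equiv.Perm GolayPt} {m : ℕ} {a : Finset GolayPt}
    (hua : u • maskSet m = a) (z : GolayPt) : m.testBit (idx (u⁻¹ z)) = true ↔ z ∈ a := by
  rw [← mem_maskSet, ← hua, ← Finset.inv_smul_mem_iff]
  rfl

/-- the joint stabilizer of two dodecads meeting in four or six points is transitive on the
common points -/
theorem djoint_trans_inter {d e : Finset GolayPt} (hd : d ∈ dodecads) (he : e ∈ dodecads)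
    (hk : (d ∩ e).card = 4 ∨ (d ∩ e).card = 6) {x y : GolayPt} (hx : x ∈ d ∩ e)
    (hy : y ∈ d ∩ e) : ∃ g ∈ M24, g • d = d ∧ g • e = e ∧ g x = y := by
  obtain ⟨h4, h6, c4, c6⟩ := De_dodecads
  rw [Finset.mem_inter] at hx hy
  rcases hk with hk | hk
  · obtain ⟨u, hu, hud, hue⟩ := dodecad_pair_std hd he De4 h4 (by rw [hk, c4])
    exact conj_trans_tables TDP4I d0 De4 0 TDP4I_good hu hud hue
      (TDP4I_trans _ ((testBit_of_mem hud x).2 hx.1) ((testBit_of_mem hue x).2 hx.2))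
      (TDP4I_trans _ ((testBit_of_mem hud y).2 hy.1) ((testBit_of_mem hue y).2 hy.2))
  · obtain ⟨u, hu, hud, hue⟩ := dodecad_pair_std hd he De6 h6 (by rw [hk, c6])
    exact conj_trans_tables TDP6I d0 De6 0 TDP6I_good hu hud hue
      (TDP6I_trans _ ((testBit_of_mem hud x).2 hx.1) ((testBit_of_mem hue x).2 hx.2))
      (TDP6I_trans _ ((testBit_of_mem hud y).2 hy.1) ((testBit_of_mem hue y).2 hy.2))

/-- the joint stabilizer of two dodecads meeting in four or six points is transitive on the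
points of the first outside the second -/
theorem djoint_trans_diff {d e : Finset GolayPt} (hd : d ∈ dodecads) (he : e ∈ dodecads)
    (hk : (d ∩ e).card = 4 ∨ (d ∩ e).card = 6) {x y : GolayPt} (hx : x ∈ d \ e)
    (hy : y ∈ d \ e) : ∃ g ∈ M24, g • d = d ∧ g • e = e ∧ g x = y := by
  obtain ⟨h4, h6, c4, c6⟩ := De_dodecads
  rw [Finset.mem_sdiff] at hx hy
  have hf : ∀ {u : Equiv.Perm GolayPt} {m : ℕ}, u • maskSet m = e → ∀ z, z ∉ e →
      m.testBit (idx (u⁻¹ z)) = false := by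
    intro u m hue z hz
    rw [← Bool.not_eq_true, testBit_of_mem hue z]
    exact hz
  rcases hk with hk | hk
  · obtain ⟨u, hu, hud, hue⟩ := dodecad_pair_std hd he De4 h4 (by rw [hk, c4])
    exact conj_trans_tables TDP4D d0 De4 4 TDP4D_good hu hud hue
      (TDP4D_trans _ ((testBit_of_mem hud x).2 hx.1) (hf hue x hx.2))
      (TDP4D_trans _ ((testBit_of_mem hud y).2 hy.1) (hf hue y hy.2))
  · obtain ⟨u, hu, hud, hue⟩ := dodecad_pair_std hd he De6 h6 (by rw [hk, c6])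
    exact conj_trans_tables TDP6D d0 De6 6 TDP6D_good hu hud hue
      (TDP6D_trans _ ((testBit_of_mem hud x).2 hx.1) (hf hue x hx.2))
      (TDP6D_trans _ ((testBit_of_mem hud y).2 hy.1) (hf hue y hy.2))

end Cfsg.Agent.Lib.Helper1_Chain
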