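import Mathlib
import Cfsg.Prelude.Def_ClassicalGeometry
set_option autoImplicit false
set_option linter.unusedSectionVars false
open Cfsg
namespace Cfsg.Agent.Lib.Helper1_Herm

open Matrix

variable {F : Type*} [Field F] [Fintype F] {q : ℕ}

/-- if `|F| = q^2` then `q` is a power of the characteristic -/
theorem exists_char_pow (hF : Fintype.card F = q ^ 2) :
    ∃ (p k : ℕ), p.Prime ∧ CharP F p ∧ q = p ^ k := by
  let p := ringChar F
  have hcp : CharP F p := ringChar.charP F
  obtain ⟨n, hp, hn⟩ := FiniteField.card F p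
  have hdvd : q ∣ p ^ (n : ℕ) := by
    rw [← hn, hF]; exact Dvd.intro_left (q ^ 1) (by ring)
  obtain ⟨k, _, hk⟩ := (Nat.dvd_prime_pow hp).mp hdvd
  exact ⟨p, k, hp, hcp, hk⟩

theorem two_le_q (hF : Fintype.card F = q ^ 2) : 2 ≤ q := by
  by_contra hlt
  push Not at hlt
  have h1 : 1 < Fintype.card F := Fintype.one_lt_card
  rw [hF] at h1
  interval_cases q <;> simp at h1

theorem add_pow_q (hF : Fintype.card F = q ^ 2) (a b : F) : (a + b) ^ q = a ^ q + b ^ q := by
  obtain ⟨p, k, hp, hcp, rfl⟩ := exists_char_pow hF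
  have : Fact p.Prime := ⟨hp⟩
  exact add_pow_char_pow a b p k

theorem sum_pow_q (hF : Fintype.card F = q ^ 2) {ι : Type*} (s : Finset ι) (f : ι → F) :
    (∑ i ∈ s, f i) ^ q = ∑ i ∈ s, f i ^ q := by
  obtain ⟨p, k, hp, hcp, rfl⟩ := exists_char_pow hF
  have : Fact p.Prime := ⟨hp⟩
  exact sum_pow_char_pow p k s f

theorem pow_q_q (hF : Fintype.card F = q ^ 2) (a : F) : (a ^ q) ^ q = a := by
  rw [← pow_mul, ← sq, ← hF, FiniteField.pow_card]

theorem hermForm_add_left {n : ℕ} (u u' v : Fin n → F) :
    hermForm n F q (u + u') v = hermForm n F q u v + hermForm n F q u' v := by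
  simp only [hermForm, Pi.add_apply, add_mul, Finset.sum_add_distrib]

theorem hermForm_smul_left {n : ℕ} (a : F) (u v : Fin n → F) :
    hermForm n F q (a • u) v = a * hermForm n F q u v := by
  simp only [hermForm, Pi.smul_apply, smul_eq_mul, Finset.mul_sum, mul_assoc]

theorem hermForm_add_right (hF : Fintype.card F = q ^ 2) {n : ℕ} (u v v' : Fin n → F) :
    hermForm n F q u (v + v') = hermForm n F q u v + hermForm n F q u v' := by
  simp only [hermForm, Pi.add_apply, add_pow_q hF, mul_add, Finset.sum_add_distrib]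

theorem hermForm_smul_right {n : ℕ} (a : F) (u v : Fin n → F) :
    hermForm n F q u (a • v) = a ^ q * hermForm n F q u v := by
  simp only [hermForm, Pi.smul_apply, smul_eq_mul, Finset.mul_sum, mul_pow]
  apply Finset.sum_congr rfl
  intro i _
  ring

theorem hermForm_conj (hF : Fintype.card F = q ^ 2) {n : ℕ} (u v : Fin n → F) :
    (hermForm n F q u v) ^ q = hermForm n F q v u := by
  simp only [hermForm]
  rw [sum_pow_q hF]
  apply Finset.sum_congr rfl
  intro i _
  rw [mul_pow, pow_q_q hF, mul_comm]

theorem unitaryTransvection_mulVec {n : ℕ} (v : Fin n → F) (c : F) (x : Fin n → F) :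
    unitaryTransvection n q v c *ᵥ x = x + (c * hermForm n F q x v) • v := by
  unfold unitaryTransvection
  rw [Matrix.add_mulVec, Matrix.one_mulVec, Matrix.smul_mulVec, Matrix.vecMulVec_mulVec,
    op_smul_eq_smul, mul_smul]
  congr 2
  unfold hermForm
  rw [dotProduct]
  congr 1
  apply Finset.sum_congr rfl
  intro i _
  ring

/-- the defect of a unitary transvection from being an isometry -/
theorem hermForm_unitaryTransvection (hF : Fintype.card F = q ^ 2) {n : ℕ} (v : Fin n → F)
    (hv0 : hermForm n F q v v = 0) (c : F) (x y : Fin n → F) :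
    hermForm n F q (unitaryTransvection n q v c *ᵥ x) (unitaryTransvection n q v c *ᵥ y) =
      hermForm n F q x y + (c ^ q + c) * (hermForm n F q x v * hermForm n F q v y) := by
  rw [unitaryTransvection_mulVec, unitaryTransvection_mulVec]
  simp only [hermForm_add_left, hermForm_add_right hF, hermForm_smul_left, hermForm_smul_right,
    hv0, mul_pow, hermForm_conj hF]
  ring

end Cfsg.Agent.Lib.Helper1_Herm
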