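import Mathlib

set_option autoImplicit false

/-! Index lemmas (second isomorphism theorem for indices; adapted from helper7's S4244),
and Sylow subgroups of subnormal subgroups. -/

namespace Cfsg.Agent.Lib.Helper1_Index

/-- second isomorphism theorem for indices, absolute version -/
theorem second_iso_abs {G : Type*} [Group G] [Finite G] (N L : Subgroup G) [N.Normal] :
    L.relIndex (N ⊔ L) = (N ⊓ L).relIndex N := by
  have h1 : N.relIndex (N ⊔ L) = N.relIndex L := Subgroup.relIndex_sup_left L N
  have c1 : Nat.card N * N.relIndex (N ⊔ L) = Nat.card (N ⊔ L : Subgroup G) := by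
    have := Subgroup.card_mul_index (N.subgroupOf (N ⊔ L))
    rw [Nat.card_congr (Subgroup.subgroupOfEquivOfLe (le_sup_left : N ≤ N ⊔ L)).toEquiv] at this
    exact this
  have c2 : Nat.card L * L.relIndex (N ⊔ L) = Nat.card (N ⊔ L : Subgroup G) := by
    have := Subgroup.card_mul_index (L.subgroupOf (N ⊔ L))
    rw [Nat.card_congr (Subgroup.subgroupOfEquivOfLe (le_sup_right : L ≤ N ⊔ L)).toEquiv] at this
    exact this
  have c3 : Nat.card (N ⊓ L : Subgroup G) * (N ⊓ L).relIndex N = Nat.card N := by
    have := Subgroup.card_mul_index ((N ⊓ L).subgroupOf N)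
    rw [Nat.card_congr (Subgroup.subgroupOfEquivOfLe (inf_le_left : N ⊓ L ≤ N)).toEquiv] at this
    exact this
  have c4 : Nat.card (N ⊓ L : Subgroup G) * N.relIndex L = Nat.card L := by
    have := Subgroup.card_mul_index ((N ⊓ L).subgroupOf L)
    rw [Nat.card_congr (Subgroup.subgroupOfEquivOfLe (inf_le_right : N ⊓ L ≤ L)).toEquiv] at this
    have h2 : (N ⊓ L).relIndex L = N.relIndex L := Subgroup.inf_relIndex_right N L
    unfold Subgroup.relIndex at h2
    rw [h2] at this
    exact this
  have hpos : 0 < Nat.card (N ⊓ L : Subgroup G) := Nat.card_pos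
  have hpos2 : 0 < N.relIndex L := by
    rcases Nat.eq_zero_or_pos (N.relIndex L) with h | h
    · rw [h, mul_zero] at c4
      have : 0 < Nat.card L := Nat.card_pos
      omega
    · exact h
  rw [h1] at c1
  have key : Nat.card (N ⊓ L : Subgroup G) * N.relIndex L * L.relIndex (N ⊔ L)
      = Nat.card (N ⊓ L : Subgroup G) * N.relIndex L * (N ⊓ L).relIndex N := by
    calc Nat.card (N ⊓ L : Subgroup G) * N.relIndex L * L.relIndex (N ⊔ L)
        = Nat.card L * L.relIndex (N ⊔ L) := by rw [c4]
      _ = Nat.card N * N.relIndex L := by rw [c2, c1]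
      _ = Nat.card (N ⊓ L : Subgroup G) * (N ⊓ L).relIndex N * N.relIndex L := by rw [c3]
      _ = _ := by ring
  exact Nat.eq_of_mul_eq_mul_left (Nat.mul_pos hpos hpos2) key

/-- relative version -/
theorem second_iso_rel {G : Type*} [Group G] [Finite G] (N L K : Subgroup G)
    (hNK : N ≤ K) (hLK : L ≤ K) (hn : (N.subgroupOf K).Normal) :
    L.relIndex (N ⊔ L) = (N ⊓ L).relIndex N := by
  have := second_iso_abs (N.subgroupOf K) (L.subgroupOf K)
  rw [← Subgroup.subgroupOf_sup hNK hLK, Subgroup.relIndex_subgroupOf (sup_le hNK hLK)] at this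
  rw [this]
  have h2 : N.subgroupOf K ⊓ L.subgroupOf K = (N ⊓ L).subgroupOf K := by
    ext x
    simp [Subgroup.mem_subgroupOf]
  rw [h2, Subgroup.relIndex_subgroupOf hNK]

/-- If `H` is normal in `K` then `|H : H ∩ S|` divides `|K : K ∩ S|`. -/
theorem relIndex_dvd_of_normal {G : Type*} [Group G] [Finite G] (S H K : Subgroup G)
    (hHK : H ≤ K) (hn : (H.subgroupOf K).Normal) : S.relIndex H ∣ S.relIndex K := by
  have h1 := second_iso_rel H (S ⊓ K) K hHK inf_le_right hn
  have h2 : (H ⊓ (S ⊓ K)).relIndex H = S.relIndex H := by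
    have : H ⊓ (S ⊓ K) = S ⊓ H := by
      rw [inf_comm S K, ← inf_assoc, inf_eq_left.mpr hHK, inf_comm]
    rw [this, Subgroup.inf_relIndex_right]
  have h3 : (S ⊓ K).relIndex K = S.relIndex K := Subgroup.inf_relIndex_right S K
  rw [← h2, ← h1, ← h3]
  have hle : H ⊔ (S ⊓ K) ≤ K := sup_le hHK inf_le_right
  exact Dvd.intro _ (Subgroup.relIndex_mul_relIndex _ _ _ le_sup_right hle)

/-- A Sylow `p`-subgroup `S` of a finite group meets every subnormal subgroup `H` in a subgroup
of index (in `H`) prime to `p`. -/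
theorem not_dvd_relIndex_of_isSubnormal {G : Type*} [Group G] [Finite G] (p : ℕ) [Fact p.Prime]
    (S : Sylow p G) (H : Subgroup G) (hH : H.IsSubnormal) :
    ¬ p ∣ (S : Subgroup G).relIndex H := by
  induction hH with
  | top => rw [Subgroup.relIndex_top_right]; exact S.not_dvd_index
  | step H K h_le hSubn hN ih =>
    intro hdvd
    exact ih (hdvd.trans (relIndex_dvd_of_normal (S : Subgroup G) H K h_le hN))

/-- The intersection of a Sylow `p`-subgroup with a subnormal subgroup `H`, as a Sylow
`p`-subgroup of `H`. -/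
noncomputable def sylowOfSubnormal {G : Type*} [Group G] [Finite G] (p : ℕ) [Fact p.Prime]
    (S : Sylow p G) (H : Subgroup G) (hH : H.IsSubnormal) : Sylow p H :=
  IsPGroup.toSylow (P := (S : Subgroup G).subgroupOf H)
    (IsPGroup.comap_subtype S.isPGroup' (K := H))
    (not_dvd_relIndex_of_isSubnormal p S H hH)

theorem coe_sylowOfSubnormal {G : Type*} [Group G] [Finite G] (p : ℕ) [Fact p.Prime]
    (S : Sylow p G) (H : Subgroup G) (hH : H.IsSubnormal) :
    ((sylowOfSubnormal p S H hH : Sylow p H) : Subgroup H) = (S : Subgroup G).subgroupOf H :=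
  rfl

end Cfsg.Agent.Lib.Helper1_Index
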