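import Mathlib
import Cfsg.Agent.Lib.Helper1_M12b
set_option autoImplicit false
open Cfsg
open scoped Pointwise
namespace Cfsg.Agent.Lib.Helper1_Chain
open Cfsg.Agent.Lib.Helper1_Golay

/-- an octad meeting a dodecad in at least five points meets it in exactly six points -/
theorem card_octad_inter_dodecad {o d : Finset GolayPt} (ho : o ∈ octads) (hd : d ∈ dodecads)
    (h5 : 5 ≤ (o ∩ d).card) : (o ∩ d).card = 6 := by
  have heven := even_card_inter ho.1 hd.1
  have hle : (o ∩ d).card ≤ 8 := by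
    rw [← ho.2]; exact Finset.card_le_card Finset.inter_subset_left
  obtain ⟨w, hw, hws⟩ := symmDiff_mem ho.1 hd.1
  have hwt := golay_weights w hw
  rw [hws] at hwt
  have hc := card_symmDiff_add o d
  rw [ho.2, hd.2] at hc
  obtain ⟨a, ha⟩ := heven
  omega

theorem hexads_steiner {d : Finset GolayPt} (hd : d ∈ dodecads) :
    IsSteinerSystem 5 6 {h : Finset {p : GolayPt // p ∈ d} |
      ∃ o ∈ octads, (o ∩ d).card = 6 ∧ h = Finset.subtype (fun p => p ∈ d) o} := by
  classical
  have hcardsub : ∀ o : Finset GolayPt,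
      (Finset.subtype (fun p => p ∈ d) o).card = (o ∩ d).card := by
    intro o
    rw [Finset.card_subtype, Finset.filter_mem_eq_inter]
  refine ⟨?_, ?_⟩
  · rintro b ⟨o, ho, h6, rfl⟩
    rw [hcardsub, h6]
  · intro s hs
    have hs' : (s.map (Function.Embedding.subtype _)).card = 5 := by
      rw [Finset.card_map, hs]
    have hsd : s.map (Function.Embedding.subtype _) ⊆ d := by
      intro p hp
      rw [Finset.mem_map] at hp
      obtain ⟨q, _, rfl⟩ := hp
      exact q.2
    obtain ⟨o, ⟨ho, hso⟩, hounique⟩ := octads_steiner.2 _ hs'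
    have h5 : 5 ≤ (o ∩ d).card := by
      rw [← hs']
      exact Finset.card_le_card (Finset.subset_inter hso hsd)
    have h6 := card_octad_inter_dodecad ho hd h5
    refine ⟨Finset.subtype (fun p => p ∈ d) o, ⟨⟨o, ho, h6, rfl⟩, ?_⟩, ?_⟩
    · intro p hp
      rw [Finset.mem_subtype]
      exact hso (Finset.mem_map_of_mem _ hp)
    · rintro b ⟨⟨o', ho', h6', rfl⟩, hsb⟩
      have : o' = o := by
        apply hounique o' ⟨ho', ?_⟩
        intro p hp
        rw [Finset.mem_map] at hp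
        obtain ⟨q, hq, rfl⟩ := hp
        have := hsb hq
        rw [Finset.mem_subtype] at this
        exact this
      rw [this]


theorem ncard_image_maskSet (P : ℕ → Prop) [DecidablePred P] :
    (maskSet '' {n | n ∈ (allWords rows).filter (fun n => P n)}).ncard =
      ((allWords rows).filter (fun n => P n)).length := by
  rw [Set.InjOn.ncard_image]
  · rw [← List.coe_toFinset, Set.ncard_coe_finset,
      List.toFinset_card_of_nodup (allWords_nodup.filter _)]
  · intro a ha b hb hab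
    rw [Set.mem_ofPred_eq, List.mem_filter] at ha hb
    have h : natWord a = natWord b := by
      rw [← ind_support₂ (natWord a), ← ind_support₂ (natWord b), ← maskSet_eq_support₂,
        ← maskSet_eq_support₂]
      exact congrArg ind hab
    exact natWord_injOn (allWords_lt a ha.1) (allWords_lt b hb.1) h

theorem octads_inter_eq (m k : ℕ) :
    {o : Finset GolayPt | o ∈ octads ∧ (o ∩ maskSet m).card = k} =
      maskSet '' {n | n ∈ (allWords rows).filter (fun n => popc n = 8 ∧ popc (n &&& m) = k)} := by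
  ext o
  constructor
  · rintro ⟨ho, hk⟩
    have ho' : o ∈ wordsOfWeight (golayCode : Set (GolayPt → ZMod 2)) 8 := ho
    rw [wordsOfWeight_eq] at ho'
    obtain ⟨n, hn, hno⟩ := ho'
    have hno' : o = maskSet n := by rw [maskSet_eq_support₂]; exact hno.symm
    subst hno'
    rw [Set.mem_ofPred_eq, List.mem_filter] at hn
    refine ⟨n, ?_, rfl⟩
    rw [Set.mem_ofPred_eq, List.mem_filter]
    refine ⟨hn.1, ?_⟩
    rw [← maskSet_and, card_maskSet] at hk
    simp only [decide_eq_true_eq] at hn ⊢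
    exact ⟨hn.2, hk⟩
  · rintro ⟨n, hn, rfl⟩
    rw [Set.mem_ofPred_eq, List.mem_filter] at hn
    simp only [decide_eq_true_eq] at hn
    refine ⟨?_, ?_⟩
    · have : maskSet n ∈ wordsOfWeight (golayCode : Set (GolayPt → ZMod 2)) 8 := by
        rw [wordsOfWeight_eq]
        refine ⟨n, ?_, (maskSet_eq_support₂ n).symm⟩
        rw [Set.mem_ofPred_eq, List.mem_filter]
        exact ⟨hn.1, by simpa using hn.2.1⟩
      exact this
    · rw [← maskSet_and, card_maskSet]; exact hn.2.2

set_option maxRecDepth 1000000 in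
theorem count_d0_6 : ((allWords rows).filter
    (fun n => popc n = 8 ∧ popc (n &&& d0) = 6)).length = 132 := by
  decide +kernel

set_option maxRecDepth 1000000 in
theorem count_d0_2 : ((allWords rows).filter
    (fun n => popc n = 8 ∧ popc (n &&& d0) = 2)).length = 132 := by
  decide +kernel

set_option maxRecDepth 1000000 in
theorem count_d0_4 : ((allWords rows).filter
    (fun n => popc n = 8 ∧ popc (n &&& d0) = 4)).length = 495 := by
  decide +kernel

theorem octads_inter_smul {g : Equiv.Perm GolayPt} (hg : g ∈ M24) (d : Finset GolayPt) (k : ℕ) :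
    {o : Finset GolayPt | o ∈ octads ∧ (o ∩ g • d).card = k} =
      (fun o => g • o) '' {o : Finset GolayPt | o ∈ octads ∧ (o ∩ d).card = k} := by
  ext o
  constructor
  · rintro ⟨ho, hk⟩
    refine ⟨g⁻¹ • o, ⟨smul_mem_octads (M24.inv_mem hg) ho, ?_⟩, smul_inv_smul g o⟩
    have : g⁻¹ • o ∩ d = g⁻¹ • (o ∩ g • d) := by
      rw [Finset.smul_finset_inter, inv_smul_smul]
    rw [this, Finset.card_smul_finset]; exact hk
  · rintro ⟨o', ⟨ho', hk⟩, rfl⟩
    refine ⟨smul_mem_octads hg ho', ?_⟩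
    change (g • o' ∩ g • d).card = k
    rw [← Finset.smul_finset_inter, Finset.card_smul_finset]; exact hk

theorem ncard_octads_inter_dodecad {d : Finset GolayPt} (hd : d ∈ dodecads) :
    {o : Finset GolayPt | o ∈ octads ∧ (o ∩ d).card = 6}.ncard = 132 ∧
    {o : Finset GolayPt | o ∈ octads ∧ (o ∩ d).card = 2}.ncard = 132 ∧
    {o : Finset GolayPt | o ∈ octads ∧ (o ∩ d).card = 4}.ncard = 495 := by
  obtain ⟨g, hg, hgd⟩ := M24_dodecad_transitive d0_dodecad hd
  rw [← hgd]
  refine ⟨?_, ?_, ?_⟩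
  · rw [octads_inter_smul hg, Set.ncard_image_of_injective _ (MulAction.injective g),
      octads_inter_eq, ncard_image_maskSet, count_d0_6]
  · rw [octads_inter_smul hg, Set.ncard_image_of_injective _ (MulAction.injective g),
      octads_inter_eq, ncard_image_maskSet, count_d0_2]
  · rw [octads_inter_smul hg, Set.ncard_image_of_injective _ (MulAction.injective g),
      octads_inter_eq, ncard_image_maskSet, count_d0_4]


/-- elements of the stabilizer of `d0` fixing the points 0, 1, 2 and moving the point 7 to every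
point outside `d0` -/
def PM9b : List (List ℕ) := [
  [0, 1, 2, 3, 4, 5, 6, 7, 8, 9, 10, 11, 12, 13, 14, 15, 16, 17, 18, 19, 20, 21, 22, 23],
  [0, 1, 2, 3, 6, 8, 10, 11, 17, 4, 9, 12, 22, 21, 16, 5, 23, 15, 20, 14, 18, 13, 7, 19],
  [0, 1, 2, 3, 10, 17, 9, 12, 15, 6, 4, 22, 7, 13, 23, 8, 19, 5, 18, 16, 20, 21, 11, 14],
  [0, 1, 2, 5, 15, 3, 10, 13, 9, 8, 6, 21, 12, 7, 23, 4, 18, 17, 16, 19, 20, 11, 22, 14],
  [0, 1, 2, 3, 5, 10, 15, 14, 6, 8, 17, 19, 23, 20, 12, 9, 11, 4, 21, 22, 13, 18, 16, 7],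
  [0, 1, 2, 3, 8, 9, 5, 16, 10, 17, 15, 14, 19, 18, 22, 4, 12, 6, 13, 7, 21, 20, 23, 11],
  [0, 1, 2, 4, 5, 15, 8, 18, 10, 6, 9, 14, 19, 16, 21, 3, 7, 17, 13, 12, 22, 23, 20, 11],
  [0, 1, 2, 3, 15, 6, 17, 19, 4, 5, 8, 23, 16, 18, 11, 10, 7, 9, 13, 12, 21, 20, 14, 22],
  [0, 1, 2, 4, 6, 3, 5, 20, 15, 9, 8, 18, 14, 23, 12, 17, 21, 10, 22, 11, 13, 16, 19, 7],
  [0, 1, 2, 4, 15, 9, 3, 21, 8, 10, 17, 12, 11, 22, 19, 6, 14, 5, 23, 20, 16, 13, 7, 18],
  [0, 1, 2, 3, 9, 15, 4, 22, 5, 10, 6, 7, 11, 21, 19, 17, 14, 8, 20, 23, 18, 13, 12, 16],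
  [0, 1, 2, 3, 17, 4, 8, 23, 9, 15, 5, 16, 14, 20, 7, 6, 22, 10, 21, 11, 13, 18, 19, 12]]

set_option maxRecDepth 1000000 in
theorem PM9b_good : ∀ t ∈ PM9b, GoodTable t := by
  decide +kernel

set_option maxRecDepth 1000000 in
theorem PM9b_fix : ∀ t ∈ PM9b, ∀ b ∈ Fset 3, tfun t b = b := by
  decide +kernel

set_option maxRecDepth 1000000 in
theorem PM9b_stab : ∀ t ∈ PM9b, ∀ p, d0.testBit (idx p) = d0.testBit (idx (tfun t p)) := by
  decide +kernel

set_option maxRecDepth 1000000 in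
theorem PM9b_trans : ∀ q, q ∉ maskSet d0 → ∃ t ∈ PM9b, tfun t (pt 7) = q := by
  decide +kernel

end Cfsg.Agent.Lib.Helper1_Chain
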