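import Mathlib
import Cfsg.Agent.Lib.Helper1_M12c
set_option autoImplicit false
open Cfsg
open scoped Pointwise
namespace Cfsg.Agent.Lib.Helper1_Chain
open Cfsg.Agent.Lib.Helper1_Golay

theorem M9_trans {p' p'' : GolayPt} (h' : p' ∉ maskSet d0) (h'' : p'' ∉ maskSet d0) :
    ∃ h ∈ M24, h • maskSet d0 = maskSet d0 ∧ (∀ b ∈ Fset 3, h b = b) ∧ h p' = p'' := by
  obtain ⟨t1, ht1, h1⟩ := PM9b_trans p' h'
  obtain ⟨t2, ht2, h2⟩ := PM9b_trans p'' h''
  obtain ⟨σ1, hσ1, hσt1⟩ := exists_perm_of_good (PM9b_good t1 ht1)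
  obtain ⟨σ2, hσ2, hσt2⟩ := exists_perm_of_good (PM9b_good t2 ht2)
  have hd1 : σ1 • maskSet d0 = maskSet d0 := smul_maskSet_of_table hσt1 (PM9b_stab t1 ht1)
  have hd2 : σ2 • maskSet d0 = maskSet d0 := smul_maskSet_of_table hσt2 (PM9b_stab t2 ht2)
  refine ⟨σ2 * σ1⁻¹, M24.mul_mem hσ2 (M24.inv_mem hσ1), ?_, ?_, ?_⟩
  · rw [mul_smul]
    have : σ1⁻¹ • maskSet d0 = maskSet d0 := by
      conv_lhs => rw [← hd1]
      rw [inv_smul_smul]
    rw [this, hd2]
  · intro b hb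
    have e1 : σ1 b = b := by rw [hσt1]; exact PM9b_fix t1 ht1 b hb
    have e2 : σ2 b = b := by rw [hσt2]; exact PM9b_fix t2 ht2 b hb
    have e3 : σ1⁻¹ b = b := by rw [Equiv.Perm.inv_eq_iff_eq]; exact e1.symm
    rw [Equiv.Perm.mul_apply, e3, e2]
  · have e1 : σ1 (pt 7) = p' := by rw [hσt1]; exact h1
    have e2 : σ2 (pt 7) = p'' := by rw [hσt2]; exact h2
    have e3 : σ1⁻¹ p' = pt 7 := by rw [Equiv.Perm.inv_eq_iff_eq]; exact e1.symm
    rw [Equiv.Perm.mul_apply, e3, e2]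

theorem compl_mem_dodecads {d : Finset GolayPt} (hd : d ∈ dodecads) : dᶜ ∈ dodecads := by
  refine ⟨compl_mem hd.1, ?_⟩
  rw [Finset.card_compl, hd.2]
  rfl

theorem smul_finset_compl' (g : Equiv.Perm GolayPt) (s : Finset GolayPt) :
    g • sᶜ = (g • s)ᶜ := by
  ext q
  rw [← Finset.inv_smul_mem_iff, Finset.mem_compl, Finset.mem_compl, Finset.inv_smul_mem_iff]

theorem M11_three_transitive {d : Finset GolayPt} (hd : d ∈ dodecads) {p : GolayPt} (hp : p ∈ d)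
    (x y : Fin 3 ↪ GolayPt) (hx : ∀ i, x i ∉ d) (hy : ∀ i, y i ∉ d) :
    ∃ g ∈ M24, g • d = d ∧ g p = p ∧ ∀ i, g (x i) = y i := by
  have hdc := compl_mem_dodecads hd
  have h5 : 5 ≤ dᶜ.card := by rw [hdc.2]; decide
  obtain ⟨x5, hx5, hxx⟩ := exists_extend_embedding (k := 3) (by decide) h5 x
    (fun i => Finset.mem_compl.mpr (hx i))
  obtain ⟨y5, hy5, hyy⟩ := exists_extend_embedding (k := 3) (by decide) h5 y
    (fun i => Finset.mem_compl.mpr (hy i))
  obtain ⟨u, hu, hud, hux⟩ := exists_smul_d0_eq hdc x5 hx5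
  obtain ⟨u', hu', hud', huy⟩ := exists_smul_d0_eq hdc y5 hy5
  have hp' : u⁻¹ p ∉ maskSet d0 := by
    intro hmem
    have : u • (u⁻¹ p) ∈ u • maskSet d0 := Finset.smul_mem_smul_finset hmem
    have e : u (u⁻¹ p) = p := by simp
    rw [hud, Equiv.Perm.smul_def, e, Finset.mem_compl] at this
    exact this hp
  have hp'' : u'⁻¹ p ∉ maskSet d0 := by
    intro hmem
    have : u' • (u'⁻¹ p) ∈ u' • maskSet d0 := Finset.smul_mem_smul_finset hmem
    have e : u' (u'⁻¹ p) = p := by simp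
    rw [hud', Equiv.Perm.smul_def, e, Finset.mem_compl] at this
    exact this hp
  obtain ⟨h, hh, hhd, hhfix, hhp⟩ := M9_trans hp' hp''
  refine ⟨u' * h * u⁻¹, M24.mul_mem (M24.mul_mem hu' hh) (M24.inv_mem hu), ?_, ?_, ?_⟩
  · have hc : (u' * h * u⁻¹) • dᶜ = dᶜ := by
      rw [mul_smul, mul_smul]
      conv_lhs => rw [← hud]
      rw [inv_smul_smul, hhd, hud']
    have : d = (dᶜ)ᶜ := (compl_compl d).symm
    conv_lhs => rw [this]
    rw [smul_finset_compl', hc, compl_compl]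
  · rw [Equiv.Perm.mul_apply, Equiv.Perm.mul_apply, hhp]
    simp
  · intro i
    have e1 : u (bpt i.val) = x i := by
      have := hux (Fin.castLE (by decide) i)
      rw [hxx i] at this
      exact this
    have e2 : u' (bpt i.val) = y i := by
      have := huy (Fin.castLE (by decide) i)
      rw [hyy i] at this
      exact this
    have e3 : u⁻¹ (x i) = bpt i.val := by rw [Equiv.Perm.inv_eq_iff_eq]; exact e1.symm
    rw [Equiv.Perm.mul_apply, Equiv.Perm.mul_apply, e3,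
      hhfix _ (mem_Fset.mpr ⟨i.val, i.2, rfl⟩), e2]

end Cfsg.Agent.Lib.Helper1_Chain
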