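import Mathlib
import Cfsg.Agent.S0557
set_option autoImplicit false
namespace Cfsg.Agent.Lib.Helper1_Simple

open Subgroup

theorem comm_of_card_prime {H : Type*} [Group H] {p : ℕ} [Fact p.Prime] (h : Nat.card H = p)
    (a b : H) : a * b = b * a := by
  haveI := isCyclic_of_prime_card h
  obtain ⟨g, hg⟩ := IsCyclic.exists_generator (α := H)
  obtain ⟨i, rfl⟩ := Subgroup.mem_zpowers_iff.mp (hg a)
  obtain ⟨j, rfl⟩ := Subgroup.mem_zpowers_iff.mp (hg b)
  rw [← zpow_add, ← zpow_add, add_comm]

theorem simple_of_sylow {G : Type*} [Group G] [Finite G] (p : ℕ) [hp : Fact p.Prime]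
    (P : Sylow p G) (hPcard : Nat.card P = p)
    (ha : ∀ N : Subgroup G, N.Normal → N ≠ ⊥ → p ∣ Nat.card N)
    (r : ℕ) (hr : r.Prime) (hb : Nat.card (normalizer ((P : Subgroup G) : Set G)) = p * r)
    (hc : normalizer ((P : Subgroup G) : Set G) ≠ ⊤) : IsSimpleGroup G := by
  have hp2 : 2 ≤ p := hp.out.two_le
  haveI : Nontrivial G := by
    by_contra hnt
    rw [not_nontrivial_iff_subsingleton] at hnt
    have : Nat.card P ≤ 1 := by
      rw [Finite.card_le_one_iff_subsingleton]; infer_instance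
    omega
  refine ⟨fun N hN => ?_⟩
  by_cases hbot : N = ⊥
  · exact Or.inl hbot
  right
  have hpN := ha N hN hbot
  have hGcard : Nat.card G = p * (P : Subgroup G).index := by
    have := ((P : Subgroup G).card_mul_index).symm
    rwa [hPcard] at this
  have hpidx : ¬ p ∣ (P : Subgroup G).index := P.not_dvd_index
  -- p does not divide the index of N
  have hNidx : ¬ p ∣ N.index := by
    intro h
    obtain ⟨a, ha'⟩ := hpN
    obtain ⟨b, hb'⟩ := h
    have := N.card_mul_index
    rw [ha', hb', hGcard] at this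
    apply hpidx
    refine ⟨a * b, ?_⟩
    have h2 : p * (p * (a * b)) = p * (P : Subgroup G).index := by rw [← this]; ring
    exact (Nat.eq_of_mul_eq_mul_left (by omega) h2).symm
  -- P ≤ N
  have hPN : (P : Subgroup G) ≤ N := by
    have h1 : Nat.card ((P : Subgroup G).map (QuotientGroup.mk' N)) ∣ p := by
      have := Subgroup.card_map_dvd (P : Subgroup G) (QuotientGroup.mk' N)
      rwa [hPcard] at this
    have h2 : Nat.card ((P : Subgroup G).map (QuotientGroup.mk' N)) ∣ N.index := by
      rw [Subgroup.index_eq_card]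
      exact Subgroup.card_subgroup_dvd_card _
    have h3 : Nat.card ((P : Subgroup G).map (QuotientGroup.mk' N)) = 1 := by
      rcases (Nat.dvd_prime hp.out).mp h1 with h | h
      · exact h
      · exact absurd (h ▸ h2) hNidx
    rw [Subgroup.card_eq_one, Subgroup.map_eq_bot_iff, QuotientGroup.ker_mk'] at h3
    exact h3
  -- M = N ⊓ N_G(P)
  have hPnorm : (P : Subgroup G) ≤ normalizer ((P : Subgroup G) : Set G) := le_normalizer
  have hPM : (P : Subgroup G) ≤ N ⊓ normalizer ((P : Subgroup G) : Set G) := le_inf hPN hPnorm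
  have hM1 : p ∣ Nat.card ↥(N ⊓ normalizer ((P : Subgroup G) : Set G)) := by
    have := Subgroup.card_dvd_of_le hPM
    rwa [hPcard] at this
  have hM2 : Nat.card ↥(N ⊓ normalizer ((P : Subgroup G) : Set G)) ∣ p * r := by
    rw [← hb]; exact Subgroup.card_dvd_of_le inf_le_right
  obtain ⟨k, hk⟩ := hM1
  have hkr : k ∣ r := by
    rw [hk] at hM2
    exact (Nat.mul_dvd_mul_iff_left (by omega)).mp hM2
  rcases (Nat.dvd_prime hr).mp hkr with hk1 | hkr'
  · -- N_N(P) = P : transfer
    exfalso
    rw [hk1, mul_one] at hk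
    have hMP : N ⊓ normalizer ((P : Subgroup G) : Set G) = (P : Subgroup G) :=
      (Subgroup.eq_of_le_of_card_ge hPM (by rw [hk, hPcard])).symm
    -- the Sylow subgroup of N
    have hP'coe : ((P.subtype hPN : Sylow p N) : Subgroup N) = (P : Subgroup G).subgroupOf N :=
      Sylow.coe_subtype P hPN
    have hcomm : ∀ a b : G, a ∈ (P : Subgroup G) → b ∈ (P : Subgroup G) → a * b = b * a := by
      intro a b ha' hb'
      have := comm_of_card_prime hPcard (⟨a, ha'⟩ : (P : Subgroup G)) ⟨b, hb'⟩
      exact congrArg Subtype.val this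
    have hNC : normalizer (((P.subtype hPN : Sylow p N) : Subgroup N) : Set N) ≤
        centralizer (((P.subtype hPN : Sylow p N) : Subgroup N) : Set N) := by
      intro n hn
      have hnP : (n : G) ∈ (P : Subgroup G) := by
        rw [← hMP]
        refine Subgroup.mem_inf.mpr ⟨n.2, ?_⟩
        rw [Subgroup.mem_normalizer_iff]
        rw [Subgroup.mem_normalizer_iff] at hn
        intro h
        constructor
        · intro hh
          have := (hn ⟨h, hPN hh⟩).mp (by rw [hP'coe]; exact Subgroup.mem_subgroupOf.mpr hh)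
          rw [hP'coe, Subgroup.mem_subgroupOf] at this
          exact this
        · intro hh
          have hhN : h ∈ N := by
            have h1 : (n : G) * h * (n : G)⁻¹ ∈ N := hPN hh
            have : h = (n : G)⁻¹ * ((n : G) * h * (n : G)⁻¹) * (n : G) := by group
            rw [this]
            exact N.mul_mem (N.mul_mem (N.inv_mem n.2) h1) n.2
          have := (hn ⟨h, hhN⟩).mpr (by rw [hP'coe]; exact Subgroup.mem_subgroupOf.mpr hh)
          rw [hP'coe, Subgroup.mem_subgroupOf] at this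
          exact this
      rw [Subgroup.mem_centralizer_iff]
      intro h hh
      rw [SetLike.mem_coe, hP'coe, Subgroup.mem_subgroupOf] at hh
      apply Subtype.ext
      exact hcomm _ _ hh hnP
    have hcompl := MonoidHom.ker_transferSylow_isComplement' (P.subtype hPN) hNC
    have hnd := MonoidHom.not_dvd_card_ker_transferSylow (P.subtype hPN) hNC
    obtain ⟨K, hKdef⟩ : ∃ K : Subgroup N, K = (MonoidHom.transferSylow (P.subtype hPN) hNC).ker :=
      ⟨_, rfl⟩
    rw [← hKdef] at hcompl hnd
    haveI hKn : K.Normal := by rw [hKdef]; infer_instance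
    have hP'card : Nat.card ((P.subtype hPN : Sylow p N) : Subgroup N) = p := by
      rw [hP'coe, Nat.card_congr (Subgroup.subgroupOfEquivOfLe hPN).toEquiv, hPcard]
    have hidx : K.index = p := by rw [hcompl.symm.index_eq_card, hP'card]
    have hcop : (Nat.card K).Coprime K.index := by
      rw [hidx, Nat.coprime_comm]
      exact (Nat.Prime.coprime_iff_not_dvd hp.out).mpr hnd
    haveI hKchar : K.Characteristic := Cfsg.Agent.S0557.characteristic_of_normal_coprime K hcop
    have hKnorm : (K.map N.subtype).Normal := ConjAct.normal_of_characteristic_of_normal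
    have hKbot : K.map N.subtype = ⊥ := by
      by_contra hne
      have := ha _ hKnorm hne
      rw [Subgroup.card_map_of_injective N.subtype_injective] at this
      exact hnd this
    have hKbot' : K = ⊥ := by
      rw [Subgroup.map_eq_bot_iff_of_injective _ N.subtype_injective] at hKbot
      exact hKbot
    have hNcard : Nat.card N = p := by
      have := K.card_mul_index
      rw [hidx, hKbot', Subgroup.card_bot, one_mul] at this
      exact this.symm
    have hNP : (P : Subgroup G) = N :=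
      Subgroup.eq_of_le_of_card_ge hPN (by rw [hNcard, hPcard])
    apply hc
    rw [Subgroup.normalizer_eq_top_iff, hNP]
    exact hN
  · -- N_G(P) ≤ N
    rw [hkr', ← hb] at hk
    have hMN : N ⊓ normalizer ((P : Subgroup G) : Set G) = normalizer ((P : Subgroup G) : Set G) :=
      Subgroup.eq_of_le_of_card_ge inf_le_right hk.ge
    have hle : normalizer ((P : Subgroup G) : Set G) ≤ N := by
      rw [← hMN]; exact inf_le_left
    have : normalizer ((P : Subgroup G) : Set G) ⊔ N = ⊤ := Sylow.normalizer_sup_eq_top' P hPN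
    rw [sup_of_le_right hle] at this
    exact this

section
variable {G X : Type*} [Group G] [MulAction G X] [DecidableEq X]

/-- orbit of a subgroup acting on an invariant set, from conjugation by a 2-transitive group -/
theorem orbit_normal_eq (Y : Finset X)
    (hinv : ∀ g : G, ∀ y ∈ Y, g • y ∈ Y)
    (h2 : ∀ y1 ∈ Y, ∀ y2 ∈ Y, ∀ z1 ∈ Y, ∀ z2 ∈ Y, y1 ≠ y2 → z1 ≠ z2 →
      ∃ g : G, g • y1 = z1 ∧ g • y2 = z2)
    (N : Subgroup G) (hN : N.Normal) {n : G} (hn : n ∈ N) {y : X} (hy : y ∈ Y)
    (hny : n • y ≠ y) : MulAction.orbit N y = (Y : Set X) := by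
  ext z
  constructor
  · rintro ⟨m, rfl⟩
    exact hinv m.1 y hy
  · intro hz
    by_cases hzy : z = y
    · rw [hzy]; exact MulAction.mem_orbit_self y
    · obtain ⟨g, hg1, hg2⟩ := h2 y hy (n • y) (hinv n y hy) y hy z hz (Ne.symm hny)
        (Ne.symm hzy)
      refine ⟨⟨g * n * g⁻¹, hN.conj_mem n hn g⟩, ?_⟩
      change (g * n * g⁻¹) • y = z
      have : g⁻¹ • y = y := by rw [inv_smul_eq_iff, hg1]
      rw [mul_smul, mul_smul, this, hg2]

theorem card_dvd_of_normal (Y : Finset X)
    (hinv : ∀ g : G, ∀ y ∈ Y, g • y ∈ Y)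
    (hfaith : ∀ g : G, (∀ y ∈ Y, g • y = y) → g = 1)
    (h2 : ∀ y1 ∈ Y, ∀ y2 ∈ Y, ∀ z1 ∈ Y, ∀ z2 ∈ Y, y1 ≠ y2 → z1 ≠ z2 →
      ∃ g : G, g • y1 = z1 ∧ g • y2 = z2)
    (N : Subgroup G) (hN : N.Normal) (hbot : N ≠ ⊥) : Y.card ∣ Nat.card N := by
  obtain ⟨n, hn, hn1⟩ : ∃ n : G, n ∈ N ∧ n ≠ 1 := by
    by_contra hcon
    push Not at hcon
    apply hbot
    rw [eq_bot_iff]
    intro x hx
    rw [Subgroup.mem_bot]
    exact hcon x hx
  obtain ⟨y, hy, hny⟩ : ∃ y ∈ Y, n • y ≠ y := by
    by_contra hcon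
    push Not at hcon
    exact hn1 (hfaith n hcon)
  have horb := orbit_normal_eq Y hinv h2 N hN hn hy hny
  have e := MulAction.orbitProdStabilizerEquivGroup N y
  have h := Nat.card_congr e
  rw [Nat.card_prod, horb, Nat.card_coe_set_eq, Set.ncard_coe_finset] at h
  exact ⟨_, h.symm⟩


theorem simple_of_prime_degree [Finite G] (Y : Finset X) (p : ℕ) [hp : Fact p.Prime]
    (hY : Y.card = p)
    (hinv : ∀ g : G, ∀ y ∈ Y, g • y ∈ Y)
    (hfaith : ∀ g : G, (∀ y ∈ Y, g • y = y) → g = 1)
    (h2 : ∀ y1 ∈ Y, ∀ y2 ∈ Y, ∀ z1 ∈ Y, ∀ z2 ∈ Y, y1 ≠ y2 → z1 ≠ z2 →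
      ∃ g : G, g • y1 = z1 ∧ g • y2 = z2)
    (r s : ℕ) (hr : r.Prime) (hcard : Nat.card G = p * r * s) (hpr : ¬ p ∣ r) (hps : ¬ p ∣ s)
    (hs : s ≠ 1)
    (harith : ∀ e, e ∣ p - 1 → e ∣ r * s → (r * s / e) % p = 1 → e = r) :
    IsSimpleGroup G := by
  have hp2 : 2 ≤ p := hp.out.two_le
  have hr0 : r ≠ 0 := hr.ne_zero
  have hs0 : s ≠ 0 := by
    rintro rfl
    exact hps (dvd_zero p)
  -- the Sylow subgroup has order p
  let P : Sylow p G := default
  have hfac : (Nat.card G).factorization p = 1 := by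
    rw [hcard, Nat.factorization_mul (Nat.mul_ne_zero (by omega) hr0) hs0,
      Nat.factorization_mul (by omega) hr0]
    simp only [Finsupp.coe_add, Pi.add_apply]
    rw [hp.out.factorization_self, Nat.factorization_eq_zero_of_not_dvd hpr,
      Nat.factorization_eq_zero_of_not_dvd hps]
  have hPcard : Nat.card P = p := by
    rw [Sylow.card_eq_multiplicity, hfac, pow_one]
  -- P is transitive on Y
  obtain ⟨σ, hσP, hσ1⟩ : ∃ σ : G, σ ∈ (P : Subgroup G) ∧ σ ≠ 1 := by
    by_contra hcon
    push Not at hcon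
    have : (P : Subgroup G) = ⊥ := by
      rw [eq_bot_iff]
      intro x hx
      rw [Subgroup.mem_bot]
      exact hcon x hx
    rw [this, Subgroup.card_bot] at hPcard
    omega
  obtain ⟨y, hy, hσy⟩ : ∃ y ∈ Y, σ • y ≠ y := by
    by_contra hcon
    push Not at hcon
    exact hσ1 (hfaith σ hcon)
  have horbP : MulAction.orbit (P : Subgroup G) y = (Y : Set X) := by
    have hsub : MulAction.orbit (P : Subgroup G) y ⊆ (Y : Set X) := by
      rintro _ ⟨m, rfl⟩
      exact hinv m.1 y hy
    have e := MulAction.orbitProdStabilizerEquivGroup (P : Subgroup G) y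
    have h := Nat.card_congr e
    rw [Nat.card_prod, hPcard] at h
    have hdvd : Nat.card (MulAction.orbit (P : Subgroup G) y) ∣ p := ⟨_, h.symm⟩
    have hne1 : Nat.card (MulAction.orbit (P : Subgroup G) y) ≠ 1 := by
      intro h1
      rw [Nat.card_eq_one_iff_unique] at h1
      obtain ⟨hsub1, _⟩ := h1
      have := @Subsingleton.elim _ hsub1
        (⟨σ • y, ⟨⟨σ, hσP⟩, rfl⟩⟩ : MulAction.orbit (P : Subgroup G) y)
        ⟨y, MulAction.mem_orbit_self y⟩
      exact hσy (congrArg Subtype.val this)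
    have hcardp : Nat.card (MulAction.orbit (P : Subgroup G) y) = p :=
      ((Nat.dvd_prime hp.out).mp hdvd).resolve_left hne1
    apply Set.eq_of_subset_of_ncard_le hsub _ (Finset.finite_toSet Y)
    rw [Set.ncard_coe_finset, hY, ← Nat.card_coe_set_eq]
    exact hcardp.ge
  -- the centralizer of P is P
  have hPcomm : (P : Subgroup G) ≤ centralizer ((P : Subgroup G) : Set G) := by
    intro a ha
    rw [Subgroup.mem_centralizer_iff]
    intro b hb
    have := comm_of_card_prime hPcard (⟨b, hb⟩ : (P : Subgroup G)) ⟨a, ha⟩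
    exact congrArg Subtype.val this
  have hCle : Nat.card (centralizer ((P : Subgroup G) : Set G)) ≤ p := by
    have hinj : Function.Injective (fun c : centralizer ((P : Subgroup G) : Set G) =>
        (⟨c.1 • y, hinv c.1 y hy⟩ : {z // z ∈ Y})) := by
      intro c c' hcc
      have h1 : c.1 • y = c'.1 • y := congrArg Subtype.val hcc
      have hd : (c.1⁻¹ * c'.1) • y = y := by rw [mul_smul, ← h1, inv_smul_smul]
      have hdC : c.1⁻¹ * c'.1 ∈ centralizer ((P : Subgroup G) : Set G) :=
        mul_mem (inv_mem c.2) c'.2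
      have h1' : c.1⁻¹ * c'.1 = 1 := by
        apply hfaith
        intro z hz
        have hz' : z ∈ MulAction.orbit (P : Subgroup G) y := by rw [horbP]; exact hz
        obtain ⟨π, rfl⟩ := hz'
        change (c.1⁻¹ * c'.1) • (π.1 • y) = π.1 • y
        rw [← mul_smul, ← (Subgroup.mem_centralizer_iff.mp hdC π.1 π.2), mul_smul, hd]
      apply Subtype.ext
      rw [inv_mul_eq_one] at h1'
      exact h1'
    have := Nat.card_le_card_of_injective _ hinj
    rwa [Nat.card_eq_fintype_card (α := {z // z ∈ Y}), Fintype.card_coe, hY] at this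
  have hCP : (P : Subgroup G) = centralizer ((P : Subgroup G) : Set G) :=
    Subgroup.eq_of_le_of_card_ge hPcomm (by rw [hPcard]; exact hCle)
  have hCcard : Nat.card (centralizer ((P : Subgroup G) : Set G)) = p := by
    rw [← hCP, hPcard]
  -- N/C
  haveI : IsCyclic (P : Subgroup G) := isCyclic_of_prime_card hPcard
  have key := Subgroup.card_dvd_of_injective _
    (QuotientGroup.kerLift_injective (P : Subgroup G).normalizerMonoidHom)
  rw [Subgroup.normalizerMonoidHom_ker, ← Subgroup.index, IsCyclic.card_mulAut, hPcard,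
    Nat.totient_prime hp.out] at key
  have hCN : centralizer ((P : Subgroup G) : Set G) ≤ normalizer ((P : Subgroup G) : Set G) :=
    Subgroup.centralizer_le_normalizer _
  have hNcard := ((centralizer ((P : Subgroup G) : Set G)).subgroupOf
    (normalizer ((P : Subgroup G) : Set G))).card_mul_index
  rw [Nat.card_congr (Subgroup.subgroupOfEquivOfLe hCN).toEquiv, hCcard] at hNcard
  obtain ⟨e, he⟩ : ∃ e, e = ((centralizer ((P : Subgroup G) : Set G)).subgroupOf
    (normalizer ((P : Subgroup G) : Set G))).index := ⟨_, rfl⟩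
  rw [← he] at key hNcard
  -- Sylow counting
  have hsyl := card_sylow_modEq_one p G
  rw [Sylow.card_eq_index_normalizer P] at hsyl
  have hidx := (normalizer ((P : Subgroup G) : Set G)).card_mul_index
  rw [← hNcard, hcard] at hidx
  have hidx' : e * (normalizer ((P : Subgroup G) : Set G)).index = r * s := by
    have : p * (e * (normalizer ((P : Subgroup G) : Set G)).index) = p * (r * s) := by
      rw [← mul_assoc, ← mul_assoc, hidx]
    exact Nat.eq_of_mul_eq_mul_left (by omega) this
  have he0 : e ≠ 0 := by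
    rintro rfl
    rw [zero_mul] at hidx'
    exact Nat.mul_ne_zero hr0 hs0 hidx'.symm
  have hdiv : (normalizer ((P : Subgroup G) : Set G)).index = r * s / e := by
    rw [← hidx', Nat.mul_div_cancel_left _ (Nat.pos_of_ne_zero he0)]
  have her : e = r := by
    apply harith e key ⟨_, hidx'.symm⟩
    rw [← hdiv]
    have : (1 : ℕ) % p = 1 := Nat.mod_eq_of_lt (by omega)
    rw [← this]
    exact hsyl
  -- apply the criterion
  apply simple_of_sylow p P hPcard
    (fun N hN hbot => hY ▸ card_dvd_of_normal Y hinv hfaith h2 N hN hbot) r hr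
  · rw [← hNcard, her]
  · intro htop
    have : (normalizer ((P : Subgroup G) : Set G)).index = 1 := by
      rw [htop]; exact Subgroup.index_top
    rw [her] at hidx'
    rw [this, mul_one] at hidx'
    have : r * 1 = r * s := by rw [mul_one]; exact hidx'
    exact hs (Nat.eq_of_mul_eq_mul_left hr.pos this).symm

end


section
variable {G X : Type*} [Group G] [MulAction G X] [DecidableEq X]

/-- if the stabilizer of a point is simple and transitive on the remaining points, and the degree
is not a prime power, the group is simple -/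
theorem simple_of_stabilizer_simple [Finite G] (Y : Finset X) (a : X) (ha : a ∈ Y)
    (hinv : ∀ g : G, ∀ y ∈ Y, g • y ∈ Y)
    (hfaith : ∀ g : G, (∀ y ∈ Y, g • y = y) → g = 1)
    (htrans : ∀ y ∈ Y, ∃ g : G, g • a = y)
    (hstab : ∀ y ∈ Y, ∀ z ∈ Y, y ≠ a → z ≠ a → ∃ g : G, g • a = a ∧ g • y = z)
    (hsimple : IsSimpleGroup (MulAction.stabilizer G a))
    (hnpp : ¬ IsPrimePow Y.card) : IsSimpleGroup G := by
  haveI : Nontrivial G := by
    haveI : Nontrivial (MulAction.stabilizer G a) := hsimple.toNontrivial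
    obtain ⟨x, x', hxx⟩ := exists_pair_ne (MulAction.stabilizer G a)
    exact nontrivial_of_ne x.1 x'.1 (fun h => hxx (Subtype.ext h))
  -- 2-transitivity
  have h2 : ∀ y1 ∈ Y, ∀ y2 ∈ Y, ∀ z1 ∈ Y, ∀ z2 ∈ Y, y1 ≠ y2 → z1 ≠ z2 →
      ∃ g : G, g • y1 = z1 ∧ g • y2 = z2 := by
    intro y1 hy1 y2 hy2 z1 hz1 z2 hz2 hy hz
    obtain ⟨g1, hg1⟩ := htrans y1 hy1
    obtain ⟨g2, hg2⟩ := htrans z1 hz1
    have h1 : g1⁻¹ • y2 ≠ a := by
      intro h
      rw [inv_smul_eq_iff, hg1] at h
      exact hy h.symm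
    have h2' : g2⁻¹ • z2 ≠ a := by
      intro h
      rw [inv_smul_eq_iff, hg2] at h
      exact hz h.symm
    obtain ⟨k, hk1, hk2⟩ := hstab _ (hinv g1⁻¹ y2 hy2) _ (hinv g2⁻¹ z2 hz2) h1 h2'
    refine ⟨g2 * k * g1⁻¹, ?_, ?_⟩
    · have : g1⁻¹ • y1 = a := by rw [inv_smul_eq_iff, hg1]
      rw [mul_smul, mul_smul, this, hk1, hg2]
    · rw [mul_smul, mul_smul, hk2, smul_inv_smul]
  refine ⟨fun N hN => ?_⟩
  by_cases hbot : N = ⊥
  · exact Or.inl hbot
  right
  -- N is transitive on Y
  obtain ⟨n, hn, hn1⟩ : ∃ n : G, n ∈ N ∧ n ≠ 1 := by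
    by_contra hcon
    push Not at hcon
    apply hbot
    rw [eq_bot_iff]
    intro x hx
    rw [Subgroup.mem_bot]
    exact hcon x hx
  obtain ⟨y, hy, hny⟩ : ∃ y ∈ Y, n • y ≠ y := by
    by_contra hcon
    push Not at hcon
    exact hn1 (hfaith n hcon)
  have horb := orbit_normal_eq Y hinv h2 N hN hn hy hny
  have hNtrans : ∀ z ∈ Y, ∃ m ∈ N, m • a = z := by
    intro z hz
    have h1 : a ∈ MulAction.orbit N y := by rw [horb]; exact ha
    have h2' : z ∈ MulAction.orbit N y := by rw [horb]; exact hz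
    obtain ⟨m1, hm1⟩ := h1
    obtain ⟨m2, hm2⟩ := h2'
    refine ⟨m2.1 * m1.1⁻¹, N.mul_mem m2.2 (N.inv_mem m1.2), ?_⟩
    have e1 : m1.1 • y = a := hm1
    have e2 : m2.1 • y = z := hm2
    rw [mul_smul, ← e1, inv_smul_smul, e2]
  -- N ⊓ stabilizer
  haveI : (N.subgroupOf (MulAction.stabilizer G a)).Normal := hN.subgroupOf _
  rcases hsimple.eq_bot_or_eq_top_of_normal (N.subgroupOf (MulAction.stabilizer G a))
    inferInstance with hb | ht
  · -- regular normal subgroup
    exfalso
    have hdisj : ∀ m ∈ N, m • a = a → m = 1 := by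
      intro m hm hma
      have : (⟨m, hma⟩ : MulAction.stabilizer G a) ∈ N.subgroupOf (MulAction.stabilizer G a) :=
        Subgroup.mem_subgroupOf.mpr hm
      rw [hb, Subgroup.mem_bot] at this
      exact congrArg Subtype.val this
    -- all nonidentity elements of N are conjugate
    have hconj : ∀ n1 ∈ N, ∀ n2 ∈ N, n1 ≠ 1 → n2 ≠ 1 → orderOf n1 = orderOf n2 := by
      intro n1 h1 n2 h2' hn1' hn2'
      have ha1 : n1 • a ≠ a := fun h => hn1' (hdisj n1 h1 h)
      have ha2 : n2 • a ≠ a := fun h => hn2' (hdisj n2 h2' h)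
      obtain ⟨k, hk1, hk2⟩ := hstab _ (hinv n1 a ha) _ (hinv n2 a ha) ha1 ha2
      have hmem : n2⁻¹ * (k * n1 * k⁻¹) ∈ N := N.mul_mem (N.inv_mem h2') (hN.conj_mem n1 h1 k)
      have hfix : (n2⁻¹ * (k * n1 * k⁻¹)) • a = a := by
        have : k⁻¹ • a = a := by rw [inv_smul_eq_iff, hk1]
        rw [mul_smul, mul_smul, mul_smul, this, hk2, inv_smul_smul]
      have := hdisj _ hmem hfix
      rw [inv_mul_eq_one] at this
      rw [this]
      exact SemiconjBy.orderOf_eq k (by unfold SemiconjBy; group)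
    -- card N = card Y
    have hNcard : Nat.card N = Y.card := by
      have e := MulAction.orbitProdStabilizerEquivGroup N a
      have h := Nat.card_congr e
      have horba : MulAction.orbit N a = (Y : Set X) := by
        ext z
        constructor
        · rintro ⟨m, rfl⟩
          exact hinv m.1 a ha
        · intro hz
          obtain ⟨m, hm, hmz⟩ := hNtrans z hz
          exact ⟨⟨m, hm⟩, hmz⟩
      have hstab1 : Nat.card (MulAction.stabilizer N a) = 1 := by
        rw [Nat.card_eq_one_iff_unique]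
        refine ⟨⟨fun x x' => ?_⟩, ⟨1⟩⟩
        have hx : x.1.1 = 1 := hdisj x.1.1 x.1.2 x.2
        have hx' : x'.1.1 = 1 := hdisj x'.1.1 x'.1.2 x'.2
        exact Subtype.ext (Subtype.ext (hx.trans hx'.symm))
      rw [Nat.card_prod, horba, Nat.card_coe_set_eq, Set.ncard_coe_finset, hstab1, mul_one] at h
      exact h.symm
    -- a prime q and an element of order q
    have hNnt : Nat.card N ≠ 1 := by
      intro h1
      apply hbot
      exact Subgroup.card_eq_one.mp h1
    obtain ⟨q, hq, hqd⟩ := Nat.exists_prime_and_dvd hNnt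
    haveI := Fact.mk hq
    obtain ⟨n0, hn0⟩ := exists_prime_orderOf_dvd_card' (G := N) q hqd
    have hn0ne : (n0 : G) ≠ 1 := by
      intro h
      have : n0 = 1 := Subtype.ext h
      rw [this, orderOf_one] at hn0
      exact hq.one_lt.ne hn0
    have hpg : IsPGroup q N := by
      rw [IsPGroup.iff_orderOf]
      intro g
      by_cases hg1 : g = 1
      · exact ⟨0, by rw [hg1, orderOf_one, pow_zero]⟩
      · refine ⟨1, ?_⟩
        have hgne : (g : G) ≠ 1 := fun h => hg1 (Subtype.ext h)
        have := hconj g.1 g.2 n0.1 n0.2 hgne hn0ne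
        rw [pow_one, ← hn0, ← Subgroup.orderOf_coe, this, Subgroup.orderOf_coe]
    obtain ⟨k, hk⟩ := IsPGroup.iff_card.mp hpg
    apply hnpp
    rw [← hNcard, hk]
    have hk0 : k ≠ 0 := by
      rintro rfl
      rw [pow_zero] at hk
      exact hNnt hk
    exact hq.isPrimePow.pow hk0
  · -- stabilizer ≤ N
    rw [Subgroup.subgroupOf_eq_top] at ht
    rw [eq_top_iff]
    intro g _
    obtain ⟨m, hm, hmg⟩ := hNtrans (g • a) (hinv g a ha)
    have : m⁻¹ * g ∈ MulAction.stabilizer G a := by
      rw [MulAction.mem_stabilizer_iff, mul_smul, ← hmg, inv_smul_smul]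
    have h2' := ht this
    have : g = m * (m⁻¹ * g) := by group
    rw [this]
    exact N.mul_mem hm h2'

end

end Cfsg.Agent.Lib.Helper1_Simple
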