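import Mathlib
import Cfsg.Agent.Lib.Helper1_Simple
import Cfsg.Agent.Lib.Helper1_M12d
set_option autoImplicit false
open Cfsg
open scoped Pointwise
namespace Cfsg.Agent.Lib.Helper1_Chain
open Cfsg.Agent.Lib.Helper1_Golay Cfsg.Agent.Lib.Helper1_Simple

theorem inj3 {a b c : GolayPt} (hab : a ≠ b) (hac : a ≠ c) (hbc : b ≠ c) :
    ∀ i < 3, ∀ j < 3, (if i = 0 then a else if i = 1 then b else c) =
      (if j = 0 then a else if j = 1 then b else c) → i = j := by
  intro i hi j hj hij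
  interval_cases i <;> interval_cases j <;> simp_all

theorem exists_map_three {p y1 y2 q z1 z2 : GolayPt} (h1 : p ≠ y1) (h2 : p ≠ y2) (h3 : y1 ≠ y2)
    (k1 : q ≠ z1) (k2 : q ≠ z2) (k3 : z1 ≠ z2) :
    ∃ g ∈ M24, g p = q ∧ g y1 = z1 ∧ g y2 = z2 := by
  obtain ⟨u, hu, hux⟩ := exists_map_base_fun
    (fun i => if i = 0 then p else if i = 1 then y1 else y2) 3 (by decide) (inj3 h1 h2 h3)
  obtain ⟨v, hv, hvx⟩ := exists_map_base_fun
    (fun i => if i = 0 then q else if i = 1 then z1 else z2) 3 (by decide) (inj3 k1 k2 k3)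
  have u0 := hux 0 (by decide)
  have u1 := hux 1 (by decide)
  have u2 := hux 2 (by decide)
  have v0 := hvx 0 (by decide)
  have v1 := hvx 1 (by decide)
  have v2 := hvx 2 (by decide)
  simp only [if_true] at u0 v0
  simp only [one_ne_zero, if_false, if_true] at u1 v1
  simp only [OfNat.ofNat_ne_zero, OfNat.ofNat_ne_one, if_false] at u2 v2
  refine ⟨v * u⁻¹, M24.mul_mem hv (M24.inv_mem hu), ?_, ?_, ?_⟩
  · rw [Equiv.Perm.mul_apply, ← u0]
    have : u⁻¹ (u (bpt 0)) = bpt 0 := by simp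
    rw [this, v0]
  · rw [Equiv.Perm.mul_apply, ← u1]
    have : u⁻¹ (u (bpt 1)) = bpt 1 := by simp
    rw [this, v1]
  · rw [Equiv.Perm.mul_apply, ← u2]
    have : u⁻¹ (u (bpt 2)) = bpt 2 := by simp
    rw [this, v2]

theorem M23_simple (p : GolayPt) : IsSimpleGroup (MulAction.stabilizer M24 p) := by
  haveI : Fact (Nat.Prime 23) := ⟨by norm_num⟩
  have hmem : ∀ y : GolayPt, y ∈ (Finset.univ.erase p : Finset GolayPt) ↔ y ≠ p := by
    intro y; simp
  apply simple_of_prime_degree (G := MulAction.stabilizer M24 p) (X := GolayPt)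
    (Finset.univ.erase p) 23
    (by rw [Finset.card_erase_of_mem (Finset.mem_univ p), Finset.card_univ]; rfl)
    ?_ ?_ ?_ 11 40320 (by norm_num) (by rw [card_point_stabilizer]) (by norm_num) (by norm_num)
    (by norm_num) ?_
  · intro g y hy
    rw [hmem] at hy ⊢
    intro h
    have hgp : g • p = p := g.2
    exact hy (MulAction.injective g (h.trans hgp.symm))
  · intro g hg
    apply Subtype.ext
    apply Subtype.ext
    apply Equiv.ext
    intro y
    by_cases hy : y = p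
    · rw [hy]; exact g.2
    · exact hg y ((hmem y).mpr hy)
  · intro y1 hy1 y2 hy2 z1 hz1 z2 hz2 hy hz
    rw [hmem] at hy1 hy2 hz1 hz2
    obtain ⟨g, hg, hgp, hg1, hg2⟩ := exists_map_three (Ne.symm hy1) (Ne.symm hy2) hy
      (Ne.symm hz1) (Ne.symm hz2) hz
    exact ⟨⟨⟨g, hg⟩, hgp⟩, hg1, hg2⟩
  · intro e he _ h
    have hle : e ≤ 22 := Nat.le_of_dvd (by norm_num) he
    have hpos : 0 < e := Nat.pos_of_dvd_of_pos he (by norm_num)
    interval_cases e <;> omega


theorem inj2 {a b : GolayPt} (hab : a ≠ b) :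
    ∀ i < 2, ∀ j < 2, (if i = 0 then a else b) = (if j = 0 then a else b) → i = j := by
  intro i hi j hj hij
  interval_cases i <;> interval_cases j <;> simp_all

theorem exists_map_two {p y q z : GolayPt} (h1 : p ≠ y) (k1 : q ≠ z) :
    ∃ g ∈ M24, g p = q ∧ g y = z := by
  obtain ⟨u, hu, hux⟩ := exists_map_base_fun (fun i => if i = 0 then p else y) 2 (by decide)
    (inj2 h1)
  obtain ⟨v, hv, hvx⟩ := exists_map_base_fun (fun i => if i = 0 then q else z) 2 (by decide)
    (inj2 k1)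
  have u0 := hux 0 (by decide)
  have u1 := hux 1 (by decide)
  have v0 := hvx 0 (by decide)
  have v1 := hvx 1 (by decide)
  simp only [if_true] at u0 v0
  simp only [one_ne_zero, if_false] at u1 v1
  refine ⟨v * u⁻¹, M24.mul_mem hv (M24.inv_mem hu), ?_, ?_⟩
  · rw [Equiv.Perm.mul_apply, ← u0]
    have : u⁻¹ (u (bpt 0)) = bpt 0 := by simp
    rw [this, v0]
  · rw [Equiv.Perm.mul_apply, ← u1]
    have : u⁻¹ (u (bpt 1)) = bpt 1 := by simp
    rw [this, v1]

theorem not_isPrimePow_of_two_three {n : ℕ} (h2 : 2 ∣ n) (h3 : 3 ∣ n) : ¬ IsPrimePow n := by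
  rw [isPrimePow_iff_unique_prime_dvd]
  rintro ⟨q, _, huniq⟩
  have e2 := huniq 2 ⟨Nat.prime_two, h2⟩
  have e3 := huniq 3 ⟨Nat.prime_three, h3⟩
  omega

theorem M24_simple : IsSimpleGroup M24 := by
  apply simple_of_stabilizer_simple (G := M24) (X := GolayPt) Finset.univ (bpt 0)
    (Finset.mem_univ _) (fun _ _ _ => Finset.mem_univ _) ?_ ?_ ?_ (M23_simple (bpt 0)) ?_
  · intro g hg
    apply Subtype.ext
    apply Equiv.ext
    intro y
    exact hg y (Finset.mem_univ y)
  · intro y _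
    obtain ⟨g, hg, h⟩ := exists_map_base_fun (fun _ => y) 1 (by decide)
      (fun i hi j hj _ => by omega)
    exact ⟨⟨g, hg⟩, h 0 (by decide)⟩
  · intro y _ z _ hy hz
    obtain ⟨g, hg, h1, h2⟩ := exists_map_two (Ne.symm hy) (Ne.symm hz)
    exact ⟨⟨g, hg⟩, h1, h2⟩
  · rw [Finset.card_univ]
    exact not_isPrimePow_of_two_three (by decide) (by decide)

end Cfsg.Agent.Lib.Helper1_Chain
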