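import Mathlib
import Cfsg.Agent.Lib.Helper1_MathieuSimple
set_option autoImplicit false
open Cfsg
open scoped Pointwise
namespace Cfsg.Agent.Lib.Helper1_Chain
open Cfsg.Agent.Lib.Helper1_Golay Cfsg.Agent.Lib.Helper1_Simple

/-- an embedding of `Fin 3` from three distinct points -/
def emb3 (a b c : GolayPt) (hab : a ≠ b) (hac : a ≠ c) (hbc : b ≠ c) : Fin 3 ↪ GolayPt :=
  ⟨fun i => if i.val = 0 then a else if i.val = 1 then b else c, by
    intro i j hij
    exact Fin.ext (inj3 hab hac hbc i.val i.2 j.val j.2 hij)⟩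

/-- the stabilizer of a dodecad is 3-transitive on it -/
theorem dodecad_three_transitive {d : Finset GolayPt} (hd : d ∈ dodecads)
    {p y1 y2 q z1 z2 : GolayPt} (hp : p ∈ d) (hy1 : y1 ∈ d) (hy2 : y2 ∈ d) (hq : q ∈ d)
    (hz1 : z1 ∈ d) (hz2 : z2 ∈ d) (h1 : p ≠ y1) (h2 : p ≠ y2) (h3 : y1 ≠ y2)
    (k1 : q ≠ z1) (k2 : q ≠ z2) (k3 : z1 ≠ z2) :
    ∃ g ∈ M24, g • d = d ∧ g p = q ∧ g y1 = z1 ∧ g y2 = z2 := by
  have h5 : 5 ≤ d.card := by rw [hd.2]; decide
  obtain ⟨x, hx, hxx⟩ := exists_extend_embedding (k := 3) (by decide) h5 (emb3 p y1 y2 h1 h2 h3)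
    (by
      intro i
      change (if i.val = 0 then p else if i.val = 1 then y1 else y2) ∈ d
      split_ifs <;> assumption)
  obtain ⟨y, hy, hyy⟩ := exists_extend_embedding (k := 3) (by decide) h5 (emb3 q z1 z2 k1 k2 k3)
    (by
      intro i
      change (if i.val = 0 then q else if i.val = 1 then z1 else z2) ∈ d
      split_ifs <;> assumption)
  obtain ⟨g, hg, hgd, hgxy⟩ := dodecad_sharp hd x y hx hy
  refine ⟨g, hg, hgd, ?_, ?_, ?_⟩
  · have e1 : x (Fin.castLE (by decide) (0 : Fin 3)) = p := hxx 0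
    have e2 : y (Fin.castLE (by decide) (0 : Fin 3)) = q := hyy 0
    rw [← e1, hgxy, e2]
  · have e1 : x (Fin.castLE (by decide) (1 : Fin 3)) = y1 := hxx 1
    have e2 : y (Fin.castLE (by decide) (1 : Fin 3)) = z1 := hyy 1
    rw [← e1, hgxy, e2]
  · have e1 : x (Fin.castLE (by decide) (2 : Fin 3)) = y2 := hxx 2
    have e2 : y (Fin.castLE (by decide) (2 : Fin 3)) = z2 := hyy 2
    rw [← e1, hgxy, e2]

theorem M11_simple {d : Finset GolayPt} (hd : d ∈ dodecads) {p : GolayPt} (hp : p ∈ d) :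
    IsSimpleGroup ↥(MulAction.stabilizer M24 d ⊓ MulAction.stabilizer M24 p) := by
  haveI : Fact (Nat.Prime 11) := ⟨by norm_num⟩
  have hmem : ∀ y : GolayPt, y ∈ d.erase p ↔ y ≠ p ∧ y ∈ d := by
    intro y; simp
  have hgd : ∀ g : ↥(MulAction.stabilizer M24 d ⊓ MulAction.stabilizer M24 p),
      ((g : M24) : Equiv.Perm GolayPt) • d = d := fun g => (Subgroup.mem_inf.mp g.2).1
  have hgp : ∀ g : ↥(MulAction.stabilizer M24 d ⊓ MulAction.stabilizer M24 p),
      ((g : M24) : Equiv.Perm GolayPt) p = p := fun g => (Subgroup.mem_inf.mp g.2).2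
  apply simple_of_prime_degree
    (G := ↥(MulAction.stabilizer M24 d ⊓ MulAction.stabilizer M24 p)) (X := GolayPt)
    (d.erase p) 11
    (by rw [Finset.card_erase_of_mem hp, hd.2])
    ?_ ?_ ?_ 5 144 (by norm_num) (by rw [card_stabilizer_dodecad_point hd hp]) (by norm_num)
    (by norm_num) (by norm_num) ?_
  · intro g y hy
    rw [hmem] at hy ⊢
    change ((g : M24) : Equiv.Perm GolayPt) y ≠ p ∧ ((g : M24) : Equiv.Perm GolayPt) y ∈ d
    constructor
    · intro h
      exact hy.1 (((g : M24) : Equiv.Perm GolayPt).injective (h.trans (hgp g).symm))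
    · have := Finset.smul_mem_smul_finset (a := ((g : M24) : Equiv.Perm GolayPt)) hy.2
      rw [hgd g] at this
      exact this
  · intro g hg
    have hfix : ∀ y ∈ d, ((g : M24) : Equiv.Perm GolayPt) y = y := by
      intro y hy
      by_cases hyp : y = p
      · rw [hyp]; exact hgp g
      · exact hg y ((hmem y).mpr ⟨hyp, hy⟩)
    obtain ⟨x, hx⟩ := exists_embedding_of_card (o := d) (by rw [hd.2]; decide)
    have := dodecad_rigid hd (g : M24).2 (hgd g) x hx (fun i => hfix _ (hx i))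
    apply Subtype.ext
    apply Subtype.ext
    exact this
  · intro y1 hy1 y2 hy2 z1 hz1 z2 hz2 hy hz
    rw [hmem] at hy1 hy2 hz1 hz2
    obtain ⟨g, hg, hgd', hgp', hg1, hg2⟩ := dodecad_three_transitive hd hp hy1.2 hy2.2 hp hz1.2
      hz2.2 (Ne.symm hy1.1) (Ne.symm hy2.1) hy (Ne.symm hz1.1) (Ne.symm hz2.1) hz
    exact ⟨⟨⟨g, hg⟩, Subgroup.mem_inf.mpr ⟨hgd', hgp'⟩⟩, hg1, hg2⟩
  · intro e he _ h
    have hle : e ≤ 10 := Nat.le_of_dvd (by norm_num) he
    have hpos : 0 < e := Nat.pos_of_dvd_of_pos he (by norm_num)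
    interval_cases e <;> omega


theorem M12_simple {d : Finset GolayPt} (hd : d ∈ dodecads) :
    IsSimpleGroup (MulAction.stabilizer M24 d) := by
  obtain ⟨a, ha⟩ : ∃ a, a ∈ d := by
    apply Finset.card_pos.mp
    rw [hd.2]; decide
  have hgd : ∀ g : MulAction.stabilizer M24 d, ((g : M24) : Equiv.Perm GolayPt) • d = d :=
    fun g => g.2
  let e : (MulAction.stabilizer (MulAction.stabilizer M24 d) a) ≃*
      ↥(MulAction.stabilizer M24 d ⊓ MulAction.stabilizer M24 a) :=
    { toFun := fun x => ⟨x.1.1, Subgroup.mem_inf.mpr ⟨x.1.2, x.2⟩⟩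
      invFun := fun z => ⟨⟨z.1, (Subgroup.mem_inf.mp z.2).1⟩, (Subgroup.mem_inf.mp z.2).2⟩
      left_inv := fun _ => rfl
      right_inv := fun _ => rfl
      map_mul' := fun _ _ => rfl }
  have hsimple : IsSimpleGroup (MulAction.stabilizer (MulAction.stabilizer M24 d) a) :=
    (MulEquiv.isSimpleGroup_congr e).mpr (M11_simple hd ha)
  apply simple_of_stabilizer_simple (G := MulAction.stabilizer M24 d) (X := GolayPt) d a ha
    ?_ ?_ ?_ ?_ hsimple ?_
  · intro g y hy
    have := Finset.smul_mem_smul_finset (a := ((g : M24) : Equiv.Perm GolayPt)) hy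
    rw [hgd g] at this
    exact this
  · intro g hg
    obtain ⟨x, hx⟩ := exists_embedding_of_card (o := d) (by rw [hd.2]; decide)
    have := dodecad_rigid hd (g : M24).2 (hgd g) x hx (fun i => hg _ (hx i))
    apply Subtype.ext
    apply Subtype.ext
    exact this
  · intro y hy
    obtain ⟨g, hg, hgd', hgy⟩ := dodecad_stab_transitive hd ha hy
    exact ⟨⟨⟨g, hg⟩, hgd'⟩, hgy⟩
  · intro y hy z hz hya hza
    -- a third pair of points
    have h5 : 5 ≤ d.card := by rw [hd.2]; decide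
    obtain ⟨g, hg, hgd', hga, hgy⟩ : ∃ g ∈ M24, g • d = d ∧ g a = a ∧ g y = z := by
      let x2 : Fin 2 ↪ GolayPt := ⟨fun i => if i.val = 0 then a else y, by
        intro i j hij
        exact Fin.ext (inj2 (Ne.symm hya) i.val i.2 j.val j.2 hij)⟩
      let y2 : Fin 2 ↪ GolayPt := ⟨fun i => if i.val = 0 then a else z, by
        intro i j hij
        exact Fin.ext (inj2 (Ne.symm hza) i.val i.2 j.val j.2 hij)⟩
      obtain ⟨x, hx, hxx⟩ := exists_extend_embedding (k := 2) (by decide) h5 x2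
        (by
          intro i
          change (if i.val = 0 then a else y) ∈ d
          split_ifs <;> assumption)
      obtain ⟨y', hy', hyy⟩ := exists_extend_embedding (k := 2) (by decide) h5 y2
        (by
          intro i
          change (if i.val = 0 then a else z) ∈ d
          split_ifs <;> assumption)
      obtain ⟨g, hg, hgd', hgxy⟩ := dodecad_sharp hd x y' hx hy'
      refine ⟨g, hg, hgd', ?_, ?_⟩
      · have e1 : x (Fin.castLE (by decide) (0 : Fin 2)) = a := hxx 0
        have e2 : y' (Fin.castLE (by decide) (0 : Fin 2)) = a := hyy 0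
        rw [← e1, hgxy, e2, e1]
      · have e1 : x (Fin.castLE (by decide) (1 : Fin 2)) = y := hxx 1
        have e2 : y' (Fin.castLE (by decide) (1 : Fin 2)) = z := hyy 1
        rw [← e1, hgxy, e2]
    exact ⟨⟨⟨g, hg⟩, hgd'⟩, hga, hgy⟩
  · rw [hd.2]
    exact not_isPrimePow_of_two_three (by decide) (by decide)

end Cfsg.Agent.Lib.Helper1_Chain
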