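import Mathlib
import Cfsg.Agent.Lib.Helper1_Simple
set_option autoImplicit false
namespace Cfsg.Agent.Lib.Helper1_Simple

open Subgroup

section
variable {G : Type*} [Group G] [Finite G]

theorem sylow_card_eq_prime (p : ℕ) [hp : Fact p.Prime] (m : ℕ) (hcard : Nat.card G = p * m)
    (hpm : ¬ p ∣ m) (P : Sylow p G) : Nat.card P = p := by
  have hm0 : m ≠ 0 := by
    rintro rfl
    exact hpm (dvd_zero p)
  have hfac : (Nat.card G).factorization p = 1 := by
    rw [hcard, Nat.factorization_mul hp.out.ne_zero hm0]
    simp only [Finsupp.coe_add, Pi.add_apply]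
    rw [hp.out.factorization_self, Nat.factorization_eq_zero_of_not_dvd hpm]
  rw [Sylow.card_eq_multiplicity, hfac, pow_one]

/-- the normalizer of a Sylow subgroup of prime order -/
theorem card_normalizer_sylow_prime (p : ℕ) [hp : Fact p.Prime] (P : Sylow p G)
    (hPcard : Nat.card P = p) :
    ∃ e, e ∣ p - 1 ∧ Nat.card (normalizer ((P : Subgroup G) : Set G)) =
      Nat.card (centralizer ((P : Subgroup G) : Set G)) * e := by
  haveI : IsCyclic (P : Subgroup G) := isCyclic_of_prime_card hPcard
  have key := Subgroup.card_dvd_of_injective _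
    (QuotientGroup.kerLift_injective (P : Subgroup G).normalizerMonoidHom)
  rw [Subgroup.normalizerMonoidHom_ker, ← Subgroup.index, IsCyclic.card_mulAut, hPcard,
    Nat.totient_prime hp.out] at key
  have hCN : centralizer ((P : Subgroup G) : Set G) ≤ normalizer ((P : Subgroup G) : Set G) :=
    Subgroup.centralizer_le_normalizer _
  have hNcard := ((centralizer ((P : Subgroup G) : Set G)).subgroupOf
    (normalizer ((P : Subgroup G) : Set G))).card_mul_index
  rw [Nat.card_congr (Subgroup.subgroupOfEquivOfLe hCN).toEquiv] at hNcard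
  exact ⟨_, key, hNcard.symm⟩

theorem index_normalizer_sylow_mod (p : ℕ) [hp : Fact p.Prime] (P : Sylow p G) :
    (normalizer ((P : Subgroup G) : Set G)).index % p = 1 := by
  have hsyl := card_sylow_modEq_one p G
  rw [Sylow.card_eq_index_normalizer P] at hsyl
  have : (1 : ℕ) % p = 1 := Nat.mod_eq_of_lt hp.out.one_lt
  rw [← this]
  exact hsyl

theorem sylow_le_centralizer_of_prime (p : ℕ) [hp : Fact p.Prime] (P : Sylow p G)
    (hPcard : Nat.card P = p) : (P : Subgroup G) ≤ centralizer ((P : Subgroup G) : Set G) := by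
  intro a ha
  rw [Subgroup.mem_centralizer_iff]
  intro b hb
  have := comm_of_card_prime hPcard (⟨b, hb⟩ : (P : Subgroup G)) ⟨a, ha⟩
  exact congrArg Subtype.val this

end

end Cfsg.Agent.Lib.Helper1_Simple
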