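import Mathlib
import Cfsg.Agent.Lib.Helper1_Simple2
import Cfsg.Agent.Lib.Helper1_MathieuSimple2
set_option autoImplicit false
open Cfsg
open scoped Pointwise
namespace Cfsg.Agent.Lib.Helper1_Chain
open Cfsg.Agent.Lib.Helper1_Golay Cfsg.Agent.Lib.Helper1_Simple

set_option maxRecDepth 1000000 in
theorem P5_fix9 : ∀ t ∈ P5, 9 ≤ (Finset.univ.filter (fun x => tfun t x = x)).card →
    ∀ x, tfun t x = x := by
  decide +kernel

/-- an element of `M24` fixing at least nine points is the identity -/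
theorem eq_one_of_nine_fixed {g : Equiv.Perm GolayPt} (hg : g ∈ M24)
    (h9 : 9 ≤ (Finset.univ.filter (fun x => g x = x)).card) : g = 1 := by
  obtain ⟨x, hx⟩ := exists_embedding_of_card (o := Finset.univ.filter (fun x => g x = x))
    (by omega)
  obtain ⟨u, hu, hux⟩ := exists_map_base x
  have hg' : u⁻¹ * g * u ∈ pstab M24 (Fset 5) := by
    refine ⟨M24.mul_mem (M24.mul_mem (M24.inv_mem hu) hg) hu, fun b hb => ?_⟩
    rw [mem_Fset] at hb
    obtain ⟨j, hj, rfl⟩ := hb
    have h1 := hux ⟨j, hj⟩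
    simp only at h1
    have h2 : g (x ⟨j, hj⟩) = x ⟨j, hj⟩ := (Finset.mem_filter.mp (hx ⟨j, hj⟩)).2
    rw [Equiv.Perm.mul_apply, Equiv.Perm.mul_apply, h1, h2, ← h1]
    simp
  obtain ⟨t, ht, htg⟩ := pstab5_eq_table hg'
  have hcard : (Finset.univ.filter (fun x => tfun t x = x)).card =
      (Finset.univ.filter (fun x => g x = x)).card := by
    apply Finset.card_bij (fun a _ => u a)
    · intro a ha
      rw [Finset.mem_filter] at ha ⊢
      refine ⟨Finset.mem_univ _, ?_⟩
      have := ha.2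
      rw [← htg, Equiv.Perm.mul_apply, Equiv.Perm.mul_apply, Equiv.Perm.inv_eq_iff_eq] at this
      exact this
    · intro a _ b _ hab
      exact u.injective hab
    · intro b hb
      rw [Finset.mem_filter] at hb
      refine ⟨u⁻¹ b, ?_, by simp⟩
      rw [Finset.mem_filter]
      refine ⟨Finset.mem_univ _, ?_⟩
      rw [← htg, Equiv.Perm.mul_apply, Equiv.Perm.mul_apply]
      have : u (u⁻¹ b) = b := by simp
      rw [this, hb.2]
  have hid := P5_fix9 t ht (by rw [hcard]; exact h9)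
  have h1 : u⁻¹ * g * u = 1 := by
    apply Equiv.ext
    intro p
    rw [htg, hid]; rfl
  have : g = u * (u⁻¹ * g * u) * u⁻¹ := by group
  rw [this, h1]; group


theorem inj4 {a b c d : GolayPt} (hab : a ≠ b) (hac : a ≠ c) (had : a ≠ d) (hbc : b ≠ c)
    (hbd : b ≠ d) (hcd : c ≠ d) :
    ∀ i < 4, ∀ j < 4, (if i = 0 then a else if i = 1 then b else if i = 2 then c else d) =
      (if j = 0 then a else if j = 1 then b else if j = 2 then c else d) → i = j := by
  intro i hi j hj hij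
  interval_cases i <;> interval_cases j <;> simp_all

theorem exists_map_four {a b c d a' b' c' d' : GolayPt} (hab : a ≠ b) (hac : a ≠ c) (had : a ≠ d)
    (hbc : b ≠ c) (hbd : b ≠ d) (hcd : c ≠ d) (hab' : a' ≠ b') (hac' : a' ≠ c') (had' : a' ≠ d')
    (hbc' : b' ≠ c') (hbd' : b' ≠ d') (hcd' : c' ≠ d') :
    ∃ g ∈ M24, g a = a' ∧ g b = b' ∧ g c = c' ∧ g d = d' := by
  obtain ⟨u, hu, hux⟩ := exists_map_base_fun
    (fun i => if i = 0 then a else if i = 1 then b else if i = 2 then c else d) 4 (by decide)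
    (inj4 hab hac had hbc hbd hcd)
  obtain ⟨v, hv, hvx⟩ := exists_map_base_fun
    (fun i => if i = 0 then a' else if i = 1 then b' else if i = 2 then c' else d') 4 (by decide)
    (inj4 hab' hac' had' hbc' hbd' hcd')
  have u0 : u (bpt 0) = a := hux 0 (by decide)
  have u1 : u (bpt 1) = b := hux 1 (by decide)
  have u2 : u (bpt 2) = c := hux 2 (by decide)
  have u3 : u (bpt 3) = d := hux 3 (by decide)
  have v0 : v (bpt 0) = a' := hvx 0 (by decide)
  have v1 : v (bpt 1) = b' := hvx 1 (by decide)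
  have v2 : v (bpt 2) = c' := hvx 2 (by decide)
  have v3 : v (bpt 3) = d' := hvx 3 (by decide)
  refine ⟨v * u⁻¹, M24.mul_mem hv (M24.inv_mem hu), ?_, ?_, ?_, ?_⟩
  · rw [Equiv.Perm.mul_apply, ← u0]
    have : u⁻¹ (u (bpt 0)) = bpt 0 := by simp
    rw [this, v0]
  · rw [Equiv.Perm.mul_apply, ← u1]
    have : u⁻¹ (u (bpt 1)) = bpt 1 := by simp
    rw [this, v1]
  · rw [Equiv.Perm.mul_apply, ← u2]
    have : u⁻¹ (u (bpt 2)) = bpt 2 := by simp
    rw [this, v2]
  · rw [Equiv.Perm.mul_apply, ← u3]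
    have : u⁻¹ (u (bpt 3)) = bpt 3 := by simp
    rw [this, v3]

end Cfsg.Agent.Lib.Helper1_Chain
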