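import Mathlib
import Cfsg.Agent.Lib.Helper1_InvData
import Cfsg.Agent.Lib.Helper1_M22
import Cfsg.Agent.Lib.Helper1_Trans
set_option autoImplicit false
open Cfsg
open scoped Pointwise
namespace Cfsg.Agent.Lib.Helper1_Inv
open Cfsg.Agent.Lib.Helper1_Golay Cfsg.Agent.Lib.Helper1_Chain

theorem bpt_list_nodup : [bpt 0, bpt 1, bpt 2, bpt 3, bpt 4].Nodup := by decide

theorem card_univ_golay : (Finset.univ : Finset GolayPt).card = 24 := by decide

/-- every involution of `M24` is conjugate to one of the two standard ones -/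
theorem normal_form {g : Equiv.Perm GolayPt} (hg : g ∈ M24) (h2 : orderOf g = 2) :
    ∃ k ∈ M24, (∀ p, (k * g * k⁻¹) p = tfun repA p) ∨ (∀ p, (k * g * k⁻¹) p = tfun repB p) := by
  have hgg : ∀ p, g (g p) = p := by
    intro p
    have h : g ^ 2 = 1 := by rw [← h2]; exact pow_orderOf_eq_one g
    rw [pow_two] at h
    have := congrArg (fun f : Equiv.Perm GolayPt => f p) h
    simpa using this
  have hne1 : g ≠ 1 := by
    intro h
    rw [h, orderOf_one] at h2
    exact absurd h2 (by decide)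
  obtain ⟨a, ha⟩ : ∃ a, g a ≠ a := by
    by_contra hcon
    push Not at hcon
    exact hne1 (Equiv.ext hcon)
  obtain ⟨b, hba, hbga, hb⟩ : ∃ b, b ≠ a ∧ b ≠ g a ∧ g b ≠ b := by
    by_contra hcon
    push Not at hcon
    apply hne1
    apply eq_one_of_nine_fixed hg
    have hsub : Finset.univ \ {a, g a} ⊆ Finset.univ.filter (fun x => g x = x) := by
      intro x hx
      rw [Finset.mem_sdiff, Finset.mem_insert, Finset.mem_singleton, not_or] at hx
      rw [Finset.mem_filter]
      exact ⟨Finset.mem_univ _, hcon x hx.2.1 hx.2.2⟩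
    have h1 := Finset.le_card_sdiff ({a, g a} : Finset GolayPt) Finset.univ
    have h3 : ({a, g a} : Finset GolayPt).card ≤ 2 := Finset.card_le_two
    have h4 := Finset.card_le_card hsub
    rw [card_univ_golay] at h1
    omega
  obtain ⟨c, hc⟩ : ∃ c, c ∉ ({a, g a, b, g b} : Finset GolayPt) := by
    by_contra hcon
    push Not at hcon
    have : (Finset.univ : Finset GolayPt) ⊆ {a, g a, b, g b} := fun x _ => hcon x
    have h1 := Finset.card_le_card this
    have h3 : ({a, g a, b, g b} : Finset GolayPt).card ≤ 4 := Finset.card_le_four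
    rw [card_univ_golay] at h1
    omega
  simp only [Finset.mem_insert, Finset.mem_singleton, not_or] at hc
  obtain ⟨hca, hcga, hcb, hcgb⟩ := hc
  have hinj := g.injective
  have hnd : [a, g a, b, g b, c].Nodup := by
    simp only [List.nodup_cons, List.mem_cons, List.not_mem_nil, or_false, not_or,
      List.nodup_nil, and_true, not_false_eq_true]
    refine ⟨⟨Ne.symm ha, Ne.symm hba, ?_, Ne.symm hca⟩, ⟨Ne.symm hbga, ?_, Ne.symm hcga⟩,
      ⟨Ne.symm hb, Ne.symm hcb⟩, Ne.symm hcgb⟩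
    · intro h
      apply hbga
      rw [h, hgg]
    · intro h
      exact hba (hinj h).symm
  obtain ⟨k, hk, hkl⟩ := exists_map_lists hnd bpt_list_nodup rfl (by simp)
  simp only [List.map_cons, List.map_nil, List.cons.injEq, and_true] at hkl
  obtain ⟨k0, k1, k2, k3, k4⟩ := hkl
  have hg'M : k * g * k⁻¹ ∈ M24 := M24.mul_mem (M24.mul_mem hk hg) (M24.inv_mem hk)
  have hg'app : ∀ x, (k * g * k⁻¹) (k x) = k (g x) := by
    intro x
    simp
  have e0 : (k * g * k⁻¹) (bpt 0) = bpt 1 := by rw [← k0, hg'app, k1]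
  have e1 : (k * g * k⁻¹) (bpt 1) = bpt 0 := by rw [← k1, hg'app, hgg, k0]
  have e2 : (k * g * k⁻¹) (bpt 2) = bpt 3 := by rw [← k2, hg'app, k3]
  have e3 : (k * g * k⁻¹) (bpt 3) = bpt 2 := by rw [← k3, hg'app, hgg, k2]
  have e4 : (k * g * k⁻¹) (bpt 4) = k (g c) := by rw [← k4, hg'app]
  rcases TQ_act (k (g c)) with h | h | h | h | ⟨T, hT, t0, t1, t2, t3, t4⟩
  · exfalso
    rw [← k0] at h
    have := k.injective h
    apply hcga
    rw [← this, hgg]
  · exfalso
    rw [← k1] at h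
    have := k.injective h
    exact hca (hinj this)
  · exfalso
    rw [← k2] at h
    have := k.injective h
    apply hcgb
    rw [← this, hgg]
  · exfalso
    rw [← k3] at h
    have := k.injective h
    exact hcb (hinj this)
  obtain ⟨σ, hσ, hσt⟩ := exists_perm_of_good (TQ_good T hT)
  have hps : σ⁻¹ * (k * g * k⁻¹) ∈ pstab M24 (Fset 5) := by
    refine ⟨M24.mul_mem (M24.inv_mem hσ) hg'M, ?_⟩
    intro x hx
    rw [mem_Fset] at hx
    obtain ⟨j, hj, rfl⟩ := hx
    rw [Equiv.Perm.mul_apply, Equiv.Perm.inv_eq_iff_eq]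
    have : j = 0 ∨ j = 1 ∨ j = 2 ∨ j = 3 ∨ j = 4 := by omega
    rcases this with rfl | rfl | rfl | rfl | rfl
    · rw [e0, hσt, t0]
    · rw [e1, hσt, t1]
    · rw [e2, hσt, t2]
    · rw [e3, hσt, t3]
    · rw [e4, hσt, t4]
  obtain ⟨s, hs, hst⟩ := pstab5_eq_table hps
  have hg'c : ∀ p, (k * g * k⁻¹) p = tfun (comp T s) p := by
    intro p
    have := hst p
    rw [Equiv.Perm.mul_apply, Equiv.Perm.inv_eq_iff_eq] at this
    rw [this, hσt, comp_tfun T hT s hs]
  have hinv : IsInvT (comp T s) := by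
    intro p
    rw [← hg'c, ← hg'c]
    simp [hgg]
  obtain ⟨kt, hkt, hconj⟩ := main_check T hT s hs hinv
  obtain ⟨τ, hτ, hτt⟩ := exists_perm_of_good (KC_good kt hkt)
  refine ⟨τ * k, M24.mul_mem hτ hk, ?_⟩
  have key : ∀ r, ConjT kt (comp T s) r → ∀ p, (τ * k * g * (τ * k)⁻¹) p = tfun r p := by
    intro r hr p
    have h1 : (τ * k * g * (τ * k)⁻¹) p = τ ((k * g * k⁻¹) (τ⁻¹ p)) := by simp [mul_assoc]
    rw [h1, hg'c, hτt, hr, ← hτt]
    simp
  rcases hconj with h | h
  · exact Or.inl (key _ h)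
  · exact Or.inr (key _ h)

end Cfsg.Agent.Lib.Helper1_Inv
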