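import Mathlib
set_option autoImplicit false
open scoped Pointwise
namespace Cfsg.Agent.Lib.Helper1_Maximal

open MulAction

variable {G X : Type*} [Group G] [MulAction G X]

/-- orbit-stabilizer for a subgroup `H` containing the stabilizer `K` of `x` in `G` -/
theorem card_eq_orbit_mul_stabilizer [Finite G] (x : X) (H : Subgroup G) (hKH : stabilizer G x ≤ H) :
    Nat.card H = (orbit H x).ncard * Nat.card (stabilizer G x) := by
  have h1 := Subgroup.card_eq_card_quotient_mul_card_subgroup (stabilizer H x)
  have h2 : Nat.card (H ⧸ stabilizer H x) = (orbit H x).ncard := by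
    rw [← Nat.card_coe_set_eq]
    exact (Nat.card_congr (orbitEquivQuotientStabilizer H x)).symm
  have h3 : Nat.card (stabilizer H x) = Nat.card (stabilizer G x) := by
    have : stabilizer H x = (stabilizer G x).subgroupOf H := by
      ext h
      rw [Subgroup.mem_subgroupOf, mem_stabilizer_iff, mem_stabilizer_iff]
      rfl
    rw [this]
    exact Nat.card_congr (Subgroup.subgroupOfEquivOfLe hKH).toEquiv
  rw [h1, h2, h3]

theorem orbit_top_eq (x : X) : orbit (⊤ : Subgroup G) x = orbit G x := by
  ext y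
  constructor
  · rintro ⟨g, rfl⟩
    exact ⟨g.1, rfl⟩
  · rintro ⟨g, rfl⟩
    exact ⟨⟨g, Subgroup.mem_top g⟩, rfl⟩

theorem orbit_subgroup_subset (x : X) (H : Subgroup G) : orbit H x ⊆ orbit G x := by
  rintro _ ⟨h, rfl⟩
  exact ⟨h.1, rfl⟩

/-- **Maximality from suborbit sizes.** If `c` is an invariant separating the orbits of the
stabilizer `K` of `x` on the `G`-orbit of `x`, with class sizes `n i`, and no proper sub-sum of
the `n i` containing `n 0 = 1` divides the total, then `K` is a maximal subgroup. -/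
theorem isCoatom_stabilizer [Finite G] (x : X) {m : ℕ} (c : X → Fin (m + 1)) (n : Fin (m + 1) → ℕ)
    (hcx : c x = 0) (hc0 : ∀ y ∈ orbit G x, c y = 0 → y = x)
    (htrans : ∀ y ∈ orbit G x, ∀ z ∈ orbit G x, c y = c z → ∃ g ∈ stabilizer G x, g • y = z)
    (hn : ∀ i, {y | y ∈ orbit G x ∧ c y = i}.ncard = n i)
    (hdiv : ∀ S : Finset (Fin (m + 1)), 0 ∈ S → (∑ i ∈ S, n i) ∣ (∑ i, n i) →
      S = {0} ∨ S = Finset.univ)
    (hne : ∃ y ∈ orbit G x, y ≠ x) : IsCoatom (stabilizer G x) := by
  classical
  have hfin : (orbit G x).Finite := Set.finite_range _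
  -- the size of a union of classes
  have hsum : ∀ S : Finset (Fin (m + 1)),
      {y | y ∈ orbit G x ∧ c y ∈ S}.ncard = ∑ i ∈ S, n i := by
    intro S
    have hfinS : {y | y ∈ orbit G x ∧ c y ∈ S}.Finite := hfin.subset fun y hy => hy.1
    rw [Set.ncard_eq_toFinset_card _ hfinS,
      Finset.card_eq_sum_card_fiberwise (f := c) (t := S) (fun y hy => by
        have hy' : y ∈ hfinS.toFinset := hy
        rw [Set.Finite.mem_toFinset] at hy'; exact hy'.2)]
    apply Finset.sum_congr rfl
    intro i hi
    rw [← hn i]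
    have hfini : {y | y ∈ orbit G x ∧ c y = i}.Finite := hfin.subset fun y hy => hy.1
    rw [Set.ncard_eq_toFinset_card _ hfini]
    congr 1
    ext y
    simp only [Finset.mem_filter, Set.Finite.mem_toFinset, Set.mem_ofPred_eq]
    constructor
    · rintro ⟨⟨h1, _⟩, h3⟩; exact ⟨h1, h3⟩
    · rintro ⟨h1, h3⟩; exact ⟨⟨h1, h3 ▸ hi⟩, h3⟩
  have htotal : (orbit G x).ncard = ∑ i, n i := by
    rw [← hsum Finset.univ]
    congr 1
    ext y
    simp
  have hG : Nat.card G = (∑ i, n i) * Nat.card (stabilizer G x) := by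
    have := card_eq_orbit_mul_stabilizer x (⊤ : Subgroup G) le_top
    rw [orbit_top_eq, htotal] at this
    rw [← this]
    exact (Nat.card_congr Subgroup.topEquiv.toEquiv).symm
  have hKpos : 0 < Nat.card (stabilizer G x) := Nat.card_pos
  constructor
  · -- the stabilizer is proper
    intro htop
    obtain ⟨y, ⟨g, rfl⟩, hy⟩ := hne
    apply hy
    have : g ∈ stabilizer G x := by rw [htop]; exact Subgroup.mem_top g
    exact this
  · intro H hKH
    have hle : stabilizer G x ≤ H := hKH.le
    -- the classes met by the orbit of `H`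
    set S : Finset (Fin (m + 1)) := Finset.univ.filter fun i => ∃ y ∈ orbit H x, c y = i with hS
    have h0S : (0 : Fin (m + 1)) ∈ S := by
      rw [hS, Finset.mem_filter]
      exact ⟨Finset.mem_univ _, x, mem_orbit_self x, hcx⟩
    have horb : orbit H x = {y | y ∈ orbit G x ∧ c y ∈ S} := by
      ext y
      constructor
      · intro hy
        refine ⟨orbit_subgroup_subset x H hy, ?_⟩
        rw [hS, Finset.mem_filter]
        exact ⟨Finset.mem_univ _, y, hy, rfl⟩
      · rintro ⟨hyG, hyS⟩
        rw [hS, Finset.mem_filter] at hyS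
        obtain ⟨_, z, hz, hzc⟩ := hyS
        obtain ⟨g, hg, hgz⟩ := htrans z (orbit_subgroup_subset x H hz) y hyG hzc
        obtain ⟨h, rfl⟩ := hz
        refine ⟨⟨g, hle hg⟩ * h, ?_⟩
        show (⟨g, hle hg⟩ * h : H) • x = y
        rw [← hgz, mul_smul]
        rfl
    have hHcard := card_eq_orbit_mul_stabilizer x H hle
    rw [horb, hsum S] at hHcard
    have hdvd : (∑ i ∈ S, n i) ∣ ∑ i, n i := by
      have h1 : Nat.card H ∣ Nat.card G := Subgroup.card_subgroup_dvd_card H
      rw [hHcard, hG] at h1
      exact (Nat.mul_dvd_mul_iff_right hKpos).1 h1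
    rcases hdiv S h0S hdvd with hS0 | hSuniv
    · -- the orbit is trivial: contradiction
      exfalso
      apply hKH.not_ge
      intro h hh
      rw [mem_stabilizer_iff]
      have hmem : (⟨h, hh⟩ : H) • x ∈ orbit H x := mem_orbit _ _
      rw [horb, hS0] at hmem
      obtain ⟨h1, h2⟩ := hmem
      rw [Finset.mem_singleton] at h2
      exact hc0 _ h1 h2
    · -- the orbit is everything
      apply Subgroup.eq_top_of_card_eq
      rw [hHcard, hG, hSuniv]

end Cfsg.Agent.Lib.Helper1_Maximal
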