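import Mathlib
import Cfsg.Agent.Lib.Helper1_M12
import Cfsg.Agent.Lib.Helper1_Octads2
import Cfsg.Prelude.Def_SporadicCombinatorics
set_option autoImplicit false
open Cfsg
open scoped Pointwise
namespace Cfsg.Agent.Lib.Helper1_Cert
open Cfsg.Agent.Lib.Helper1_Golay Cfsg.Agent.Lib.Helper1_Chain

/-! ### list lookups -/

/-- a plain structural lookup -/
def nth? {α : Type*} : List α → ℕ → Option α
  | [], _ => none
  | x :: _, 0 => some x
  | _ :: l, k + 1 => nth? l k

theorem mem_of_nth? {α : Type*} {l : List α} {k : ℕ} {x : α} (h : nth? l k = some x) : x ∈ l := by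
  induction l generalizing k with
  | nil => simp [nth?] at h
  | cons y l ih =>
    cases k with
    | zero =>
      simp only [nth?, Option.some.injEq] at h
      subst h
      exact List.mem_cons_self
    | succ k => exact List.mem_cons_of_mem _ (ih h)

/-- a two-level lookup -/
def look? {α : Type*} (cc : List (List α)) (i j : ℕ) : Option α :=
  match nth? cc i with
  | none => none
  | some ch => nth? ch j

theorem mem_of_look? {α : Type*} {cc : List (List α)} {i j : ℕ} {x : α}
    (h : look? cc i j = some x) : ∃ ch ∈ cc, x ∈ ch := by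
  unfold look? at h
  rcases hc : nth? cc i with _ | ch
  · rw [hc] at h; simp at h
  · rw [hc] at h
    exact ⟨ch, mem_of_nth? hc, mem_of_nth? h⟩

/-! ### reachability certificates -/

/-- tables with 24 entries below 24 -/
def ValidTable (t : List ℕ) : Prop := t.length = 24 ∧ ∀ x ∈ t, x < 24

instance (t : List ℕ) : Decidable (ValidTable t) := by unfold ValidTable; infer_instance

theorem ValidTable.getD_lt {t : List ℕ} (ht : ValidTable t) {k : ℕ} (hk : k < 24) :
    t.getD k 0 < 24 := by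
  have hk' : k < t.length := by rw [ht.1]; exact hk
  rw [List.getD_eq_getElem _ _ hk']
  exact ht.2 _ (List.getElem_mem _)

section generic
variable {α : Type*} [MulAction (Equiv.Perm GolayPt) α] {E : Type*}

/-- a certificate entry: encoding, chunk and position of the parent, depth, index of the
generator -/
abbrev Entry (E : Type*) := E × ℕ × ℕ × ℕ × ℕ

/-- the check of an entry against its parent -/
def ParentOK (step : List ℕ → E → E → Prop) : Option (Entry E) → Option (List ℕ) → ℕ → E → Prop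
  | some pe, some t, d, e => pe.2.2.2.1 + 1 = d ∧ step t pe.1 e
  | some _, none, _, _ => False
  | none, _, _, _ => False

instance (step : List ℕ → E → E → Prop) [∀ t e e', Decidable (step t e e')] :
    ∀ (o : Option (Entry E)) (ot : Option (List ℕ)) (d : ℕ) (e : E),
      Decidable (ParentOK step o ot d e)
  | some pe, some t, d, e => inferInstanceAs (Decidable (pe.2.2.2.1 + 1 = d ∧ step t pe.1 e))
  | some _, none, _, _ => isFalse (fun h => h)
  | none, _, _, _ => isFalse (fun h => h)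

/-- the decidable check of one entry of a reachability certificate -/
def EntryOK [DecidableEq E] (step : List ℕ → E → E → Prop) (gens : List (List ℕ))
    (cc : List (List (Entry E))) (base : E) (x : Entry E) : Prop :=
  (x.2.2.2.1 = 0 ∧ x.1 = base) ∨
    ParentOK step (look? cc x.2.1 x.2.2.1) (nth? gens x.2.2.2.2) x.2.2.2.1 x.1

instance [DecidableEq E] (step : List ℕ → E → E → Prop) [∀ t e e', Decidable (step t e e')]
    (gens : List (List ℕ)) (cc : List (List (Entry E))) (base : E) (x : Entry E) :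
    Decidable (EntryOK step gens cc base x) := by
  unfold EntryOK; infer_instance

/-- soundness of reachability certificates -/
theorem cert_sound [DecidableEq E] (dec : E → α) (P : E → Prop) (step : List ℕ → E → E → Prop)
    (hstep : ∀ (t : List ℕ) (σ : Equiv.Perm GolayPt), ValidTable t → (∀ p, σ p = tfun t p) →
      ∀ e e', P e → P e' → step t e e' → σ • dec e = dec e')
    (H : Subgroup (Equiv.Perm GolayPt)) (gens : List (List ℕ))
    (hgens : ∀ t ∈ gens, ValidTable t ∧ ∃ σ ∈ H, ∀ p, σ p = tfun t p)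
    (cc : List (List (Entry E))) (base : E) (hP : ∀ ch ∈ cc, ∀ x ∈ ch, P x.1)
    (hcheck : ∀ ch ∈ cc, ∀ x ∈ ch, EntryOK step gens cc base x) :
    ∀ ch ∈ cc, ∀ x ∈ ch, ∃ σ ∈ H, σ • dec base = dec x.1 := by
  have key : ∀ d, ∀ ch ∈ cc, ∀ x ∈ ch, x.2.2.2.1 = d → ∃ σ ∈ H, σ • dec base = dec x.1 := by
    intro d
    induction d with
    | zero =>
      intro ch hch x hx hd
      rcases hcheck ch hch x hx with ⟨_, h0⟩ | h1
      · rw [h0]
        exact ⟨1, H.one_mem, one_smul _ _⟩
      · exfalso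
        rcases hl : look? cc x.2.1 x.2.2.1 with _ | pe
        · rw [hl] at h1; exact h1
        · rcases hg : nth? gens x.2.2.2.2 with _ | t
          · rw [hl, hg] at h1; exact h1
          · rw [hl, hg] at h1
            have := h1.1
            omega
    | succ d ih =>
      intro ch hch x hx hd
      rcases hcheck ch hch x hx with ⟨h0, _⟩ | h1
      · omega
      · rcases hl : look? cc x.2.1 x.2.2.1 with _ | pe
        · rw [hl] at h1; exact h1.elim
        · rcases hg : nth? gens x.2.2.2.2 with _ | t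
          · rw [hl, hg] at h1; exact h1.elim
          · rw [hl, hg] at h1
            obtain ⟨h2, h3⟩ : pe.2.2.2.1 + 1 = x.2.2.2.1 ∧ step t pe.1 x.1 := h1
            obtain ⟨ch', hch', hpe⟩ := mem_of_look? hl
            obtain ⟨σ, hσ, hσe⟩ := ih ch' hch' pe hpe (by omega)
            obtain ⟨hV, τ, hτ, hτt⟩ := hgens t (mem_of_nth? hg)
            refine ⟨τ * σ, H.mul_mem hτ hσ, ?_⟩
            rw [mul_smul, hσe]
            exact hstep _ τ hV hτt _ _ (hP ch' hch' pe hpe) (hP ch hch x hx) h3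
  intro ch hch x hx
  exact key _ ch hch x hx rfl

end generic

/-! ### objects encoded by masks -/

/-- the image of a mask under a table -/
def imgL : List ℕ → ℕ → ℕ
  | [], _ => 0
  | x :: t, a => cond (Nat.beq (Nat.mod a 2) 1) (Nat.lor (Nat.pow 2 x) (imgL t (Nat.div a 2)))
      (imgL t (Nat.div a 2))

theorem testBit_imgL (t : List ℕ) (a j : ℕ) :
    (imgL t a).testBit j = true ↔ ∃ k, k < t.length ∧ a.testBit k = true ∧ t.getD k 0 = j := by
  induction t generalizing a with
  | nil => simp [imgL]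
  | cons x t ih =>
    have hbeq : Nat.beq (Nat.mod a 2) 1 = a.testBit 0 := by
      show Nat.beq (a % 2) 1 = a.testBit 0
      rw [Nat.testBit_zero]
      rcases Nat.mod_two_eq_zero_or_one a with h | h <;> rw [h] <;> rfl
    have hsucc : ∀ k, a.testBit (k + 1) = (Nat.div a 2).testBit k := fun k => Nat.testBit_succ ..
    unfold imgL
    rw [hbeq]
    cases h0 : a.testBit 0
    · show (imgL t (Nat.div a 2)).testBit j = true ↔ _
      rw [ih]
      constructor
      · rintro ⟨k, hk, hak, hkj⟩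
        exact ⟨k + 1, by simp only [List.length_cons]; omega, by rw [hsucc]; exact hak,
          by simpa using hkj⟩
      · rintro ⟨k, hk, hak, hkj⟩
        cases k with
        | zero => rw [h0] at hak; exact absurd hak (by decide)
        | succ k =>
          exact ⟨k, by simp only [List.length_cons] at hk; omega, by rw [← hsucc]; exact hak,
            by simpa using hkj⟩
    · show (Nat.pow 2 x ||| imgL t (Nat.div a 2)).testBit j = true ↔ _
      rw [Nat.testBit_or, Bool.or_eq_true, ih]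
      have h2 : (Nat.pow 2 x).testBit j = true ↔ x = j := by
        show (2 ^ x).testBit j = true ↔ _
        rw [Nat.testBit_two_pow]; simp
      rw [h2]
      constructor
      · rintro (rfl | ⟨k, hk, hak, hkj⟩)
        · exact ⟨0, by simp, h0, by simp⟩
        · exact ⟨k + 1, by simp only [List.length_cons]; omega, by rw [hsucc]; exact hak,
            by simpa using hkj⟩
      · rintro ⟨k, hk, hak, hkj⟩
        cases k with
        | zero => left; simpa using hkj
        | succ k =>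
          right
          exact ⟨k, by simp only [List.length_cons] at hk; omega, by rw [← hsucc]; exact hak,
            by simpa using hkj⟩

theorem smul_maskSet_img {t : List ℕ} {σ : Equiv.Perm GolayPt} (hσ : ∀ p, σ p = tfun t p)
    (ht : ValidTable t) (a : ℕ) : σ • maskSet a = maskSet (imgL t a) := by
  ext q
  rw [Finset.mem_smul_finset, mem_maskSet, testBit_imgL]
  constructor
  · rintro ⟨p, hp, rfl⟩
    refine ⟨idx p, by rw [ht.1]; exact idx_lt p, mem_maskSet.1 hp, ?_⟩
    show _ = idx (σ p)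
    rw [hσ]
    unfold tfun
    rw [idx_pt _ (ht.getD_lt (idx_lt p))]
  · rintro ⟨k, hk, hak, hkq⟩
    rw [ht.1] at hk
    refine ⟨pt k, mem_maskSet.2 (by rw [idx_pt k hk]; exact hak), ?_⟩
    show σ (pt k) = q
    rw [hσ]
    unfold tfun
    rw [idx_pt k hk, hkq, pt_idx]

/-- decoding a list of masks -/
def mset (l : List ℕ) : Finset (Finset GolayPt) := (l.map maskSet).toFinset

theorem mem_mset {l : List ℕ} {v : Finset GolayPt} : v ∈ mset l ↔ ∃ m ∈ l, maskSet m = v := by
  simp [mset]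

/-- one step on lists of masks -/
def stepL (t : List ℕ) (la lb : List ℕ) : Prop :=
  la.length = lb.length ∧ ∀ a ∈ la, imgL t a ∈ lb

instance (t : List ℕ) (la lb : List ℕ) : Decidable (stepL t la lb) := by unfold stepL; infer_instance

/-- well-formed encodings: strictly increasing lists of 24-bit masks -/
def WF (l : List ℕ) : Prop := List.IsChain (· < ·) l ∧ ∀ m ∈ l, m < 2 ^ 24

instance (l : List ℕ) : Decidable (WF l) := by unfold WF; infer_instance

theorem mset_inj {l l' : List ℕ} (hl : WF l) (hl' : WF l') (h : mset l = mset l') : l = l' := by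
  have hs : l.Pairwise (· < ·) := List.isChain_iff_pairwise.mp hl.1
  have hs' : l'.Pairwise (· < ·) := List.isChain_iff_pairwise.mp hl'.1
  have hsub : ∀ {a b : List ℕ}, WF a → WF b → mset a = mset b → ∀ m ∈ a, m ∈ b := by
    intro a b ha hb hab m hm
    have : maskSet m ∈ mset b := by rw [← hab]; exact mem_mset.2 ⟨m, hm, rfl⟩
    obtain ⟨m', hm', hmm⟩ := mem_mset.1 this
    have := maskSet_inj (hb.2 m' hm') (ha.2 m hm) hmm
    rw [← this]; exact hm'
  have hperm : l.Perm l' := by
    rw [List.perm_ext_iff_of_nodup (hs.imp (fun h => Nat.ne_of_lt h)) (hs'.imp (fun h => Nat.ne_of_lt h))]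
    intro m
    exact ⟨hsub hl hl' h m, hsub hl' hl h.symm m⟩
  exact List.Perm.eq_of_pairwise (fun a b _ _ h1 h2 => absurd h1 (by omega)) hs hs' hperm

/-- a numeric key for lists of masks -/
def key (l : List ℕ) : ℕ := l.foldl (fun acc m => acc * 2 ^ 24 + m) 0

theorem WF.nodup_map {l : List ℕ} (hl : WF l) : (l.map maskSet).Nodup := by
  have hs : l.Pairwise (· < ·) := List.isChain_iff_pairwise.mp hl.1
  apply List.Nodup.map_on
  · intro a ha b hb hab
    exact maskSet_inj (hl.2 a ha) (hl.2 b hb) hab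
  · exact hs.imp (fun h => Nat.ne_of_lt h)

/-! ### labels -/

/-- the weight of an intersection size -/
def Gc (k : ℕ) : ℕ := if k = 0 then 1 else if k = 1 then 64 else 0

/-- the weight computed on masks -/
def gm (c : ℕ) : ℕ := cond (Nat.beq c 0) 1 (cond (Nat.beq (Nat.pow 2 (Nat.log2 c)) c) 64 0)

theorem maskSet_two_pow (p : GolayPt) : maskSet (2 ^ idx p) = {p} := by
  ext q
  rw [mem_maskSet, Nat.testBit_two_pow, Finset.mem_singleton, decide_eq_true_eq]
  exact ⟨fun h => (idx_injective h).symm, fun h => by rw [h]⟩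

theorem popc_two_pow : ∀ k < 24, popc (2 ^ k) = 1 := by decide

theorem gm_eq {c : ℕ} (hc : c < 2 ^ 24) : gm c = Gc (popc c) := by
  unfold gm Gc
  by_cases h0 : c = 0
  · subst h0; rfl
  · have hb0 : Nat.beq c 0 = false := by
      rw [← Bool.not_eq_true, Nat.beq_eq]; exact h0
    have hp0 : popc c ≠ 0 := by
      intro h
      rw [← card_maskSet, Finset.card_eq_zero] at h
      apply h0
      apply maskSet_inj hc (by norm_num)
      rw [h]
      ext q
      simp [mem_maskSet]
    rw [hb0, if_neg hp0]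
    by_cases h1 : popc c = 1
    · rw [if_pos h1]
      have h1' := h1
      rw [← card_maskSet, Finset.card_eq_one] at h1'
      obtain ⟨p, hp⟩ := h1'
      have hcp : c = 2 ^ idx p := by
        apply maskSet_inj hc (Nat.pow_lt_pow_right (by norm_num) (idx_lt p))
        rw [hp, maskSet_two_pow]
      have : Nat.beq (Nat.pow 2 (Nat.log2 c)) c = true := by
        rw [Nat.beq_eq]
        show 2 ^ Nat.log2 c = c
        rw [hcp, Nat.log2_two_pow]
      rw [this]; rfl
    · rw [if_neg h1]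
      have : Nat.beq (Nat.pow 2 (Nat.log2 c)) c = false := by
        rw [← Bool.not_eq_true, Nat.beq_eq]
        intro h
        apply h1
        have hlt : Nat.log2 c < 24 := (Nat.log2_lt h0).2 hc
        have h' : (2 : ℕ) ^ Nat.log2 c = c := h
        rw [← h']
        exact popc_two_pow _ hlt
      rw [this]; rfl

/-- the intersection label of two families of sets -/
def lab2 (A B : Finset (Finset GolayPt)) : ℕ := ∑ a ∈ A, ∑ b ∈ B, Gc (a ∩ b).card

theorem lab2_smul (σ : Equiv.Perm GolayPt) (A B : Finset (Finset GolayPt)) :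
    lab2 (σ • A) (σ • B) = lab2 A B := by
  unfold lab2
  rw [← Finset.image_smul, ← Finset.image_smul,
    Finset.sum_image (fun a _ b _ h => smul_left_cancel σ h)]
  apply Finset.sum_congr rfl
  intro a _
  rw [Finset.sum_image (fun a _ b _ h => smul_left_cancel σ h)]
  apply Finset.sum_congr rfl
  intro b _
  rw [← Finset.smul_finset_inter, Finset.card_smul_finset]

/-- the label computed on masks -/
def labL (x l : List ℕ) : ℕ := (x.map fun a => (l.map fun b => gm (Nat.land a b)).sum).sum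

theorem lab2_mset {x l : List ℕ} (hx : WF x) (hl : WF l) : lab2 (mset x) (mset l) = labL x l := by
  unfold lab2 labL mset
  rw [List.sum_toFinset _ hx.nodup_map, List.map_map]
  congr 1
  apply List.map_congr_left
  intro a _
  show ∑ b ∈ (l.map maskSet).toFinset, Gc (maskSet a ∩ b).card = _
  rw [List.sum_toFinset _ hl.nodup_map, List.map_map]
  congr 1
  apply List.map_congr_left
  intro b hb
  show Gc (maskSet a ∩ maskSet b).card = gm (a &&& b)
  rw [← maskSet_and, card_maskSet, gm_eq (Nat.and_lt_two_pow _ (hl.2 b hb))]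

theorem maskSet_or (a b : ℕ) : maskSet (a ||| b) = maskSet a ∪ maskSet b := by
  ext p
  simp only [mem_maskSet, Finset.mem_union, Nat.testBit_or, Bool.or_eq_true]

/-! ### orbits of stabilizers in `M24` -/

section stab
variable {α β : Type*} [MulAction (Equiv.Perm GolayPt) α] [MulAction (Equiv.Perm GolayPt) β]

theorem mem_orbit_stab_iff (X : α) (Y y : β) :
    y ∈ MulAction.orbit ↥(MulAction.stabilizer M24 X) Y ↔ ∃ σ ∈ M24, σ • X = X ∧ σ • Y = y := by
  constructor
  · rintro ⟨g, rfl⟩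
    exact ⟨g.1.1, g.1.2, g.2, rfl⟩
  · rintro ⟨σ, hσ, hX, rfl⟩
    exact ⟨⟨⟨σ, hσ⟩, hX⟩, rfl⟩

theorem orbit_stab_smul {g : Equiv.Perm GolayPt} (hg : g ∈ M24) (X : α) (Y : β) :
    MulAction.orbit ↥(MulAction.stabilizer M24 (g • X)) (g • Y) =
      (fun y => g • y) '' MulAction.orbit ↥(MulAction.stabilizer M24 X) Y := by
  ext y
  rw [mem_orbit_stab_iff]
  constructor
  · rintro ⟨σ, hσ, hX, hY⟩
    refine ⟨g⁻¹ • y, ?_, smul_inv_smul g y⟩
    rw [mem_orbit_stab_iff]
    refine ⟨g⁻¹ * σ * g, M24.mul_mem (M24.mul_mem (M24.inv_mem hg) hσ) hg, ?_, ?_⟩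
    · rw [mul_smul, mul_smul, hX, inv_smul_smul]
    · rw [mul_smul, mul_smul, hY]
  · rintro ⟨z, hz, rfl⟩
    rw [mem_orbit_stab_iff] at hz
    obtain ⟨σ, hσ, hX, rfl⟩ := hz
    refine ⟨g * σ * g⁻¹, M24.mul_mem (M24.mul_mem hg hσ) (M24.inv_mem hg), ?_, ?_⟩
    · rw [mul_smul, mul_smul, inv_smul_smul, hX]
    · rw [mul_smul, mul_smul, inv_smul_smul]

/-- a decomposition of an invariant set into orbits of a stabilizer, of prescribed sizes -/
def OrbitDecomp (X : α) (Ys : Set β) (ns : List ℕ) : Prop :=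
  ∃ L : List β, List.Forall₂ (fun Y n => Y ∈ Ys ∧
      (MulAction.orbit ↥(MulAction.stabilizer M24 X) Y).ncard = n) L ns ∧
    ∀ y, y ∈ Ys ↔ ∃ Y ∈ L, y ∈ MulAction.orbit ↥(MulAction.stabilizer M24 X) Y

theorem OrbitDecomp.smul {X : α} {Ys : Set β} {ns : List ℕ} (h : OrbitDecomp X Ys ns)
    (hYs : ∀ σ ∈ M24, ∀ y ∈ Ys, σ • y ∈ Ys) {g : Equiv.Perm GolayPt} (hg : g ∈ M24) :
    OrbitDecomp (g • X) Ys ns := by
  obtain ⟨L, hF, hcov⟩ := h
  refine ⟨L.map (fun y => g • y), ?_, ?_⟩
  · rw [List.forall₂_map_left_iff]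
    refine hF.imp ?_
    rintro Y n ⟨hY, hn⟩
    refine ⟨hYs g hg Y hY, ?_⟩
    rw [orbit_stab_smul hg, Set.ncard_image_of_injective _ (MulAction.injective g), hn]
  · intro y
    constructor
    · intro hy
      have : g⁻¹ • y ∈ Ys := hYs _ (M24.inv_mem hg) y hy
      obtain ⟨Y, hY, hyY⟩ := (hcov _).1 this
      refine ⟨g • Y, List.mem_map.2 ⟨Y, hY, rfl⟩, ?_⟩
      rw [orbit_stab_smul hg]
      exact ⟨g⁻¹ • y, hyY, smul_inv_smul g y⟩
    · rintro ⟨Y', hY', hy⟩
      obtain ⟨Y, hY, rfl⟩ := List.mem_map.1 hY'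
      rw [orbit_stab_smul hg] at hy
      obtain ⟨z, hz, rfl⟩ := hy
      exact hYs g hg z ((hcov z).2 ⟨Y, hY, hz⟩)

theorem OrbitDecomp.three {X : α} {Ys : Set β} {n₁ n₂ n₃ : ℕ}
    (h : OrbitDecomp X Ys [n₁, n₂, n₃]) :
    ∃ X₁ ∈ Ys, ∃ X₂ ∈ Ys, ∃ X₃ ∈ Ys,
      (MulAction.orbit ↥(MulAction.stabilizer M24 X) X₁).ncard = n₁ ∧
      (MulAction.orbit ↥(MulAction.stabilizer M24 X) X₂).ncard = n₂ ∧
      (MulAction.orbit ↥(MulAction.stabilizer M24 X) X₃).ncard = n₃ ∧
      Ys = MulAction.orbit ↥(MulAction.stabilizer M24 X) X₁ ∪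
        MulAction.orbit ↥(MulAction.stabilizer M24 X) X₂ ∪
        MulAction.orbit ↥(MulAction.stabilizer M24 X) X₃ := by
  obtain ⟨L, hF, hcov⟩ := h
  rcases hF with _ | ⟨⟨h1, h1'⟩, hF⟩
  rcases hF with _ | ⟨⟨h2, h2'⟩, hF⟩
  rcases hF with _ | ⟨⟨h3, h3'⟩, hF⟩
  cases hF
  refine ⟨_, h1, _, h2, _, h3, h1', h2', h3', ?_⟩
  ext y
  rw [hcov y]
  simp only [List.mem_cons, List.not_mem_nil, or_false, exists_eq_or_imp, exists_eq_left,
    Set.mem_union]
  tauto

theorem OrbitDecomp.four {X : α} {Ys : Set β} {n₁ n₂ n₃ n₄ : ℕ}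
    (h : OrbitDecomp X Ys [n₁, n₂, n₃, n₄]) :
    ∃ X₁ ∈ Ys, ∃ X₂ ∈ Ys, ∃ X₃ ∈ Ys, ∃ X₄ ∈ Ys,
      (MulAction.orbit ↥(MulAction.stabilizer M24 X) X₁).ncard = n₁ ∧
      (MulAction.orbit ↥(MulAction.stabilizer M24 X) X₂).ncard = n₂ ∧
      (MulAction.orbit ↥(MulAction.stabilizer M24 X) X₃).ncard = n₃ ∧
      (MulAction.orbit ↥(MulAction.stabilizer M24 X) X₄).ncard = n₄ ∧
      Ys = MulAction.orbit ↥(MulAction.stabilizer M24 X) X₁ ∪
        MulAction.orbit ↥(MulAction.stabilizer M24 X) X₂ ∪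
        MulAction.orbit ↥(MulAction.stabilizer M24 X) X₃ ∪
        MulAction.orbit ↥(MulAction.stabilizer M24 X) X₄ := by
  obtain ⟨L, hF, hcov⟩ := h
  rcases hF with _ | ⟨⟨h1, h1'⟩, hF⟩
  rcases hF with _ | ⟨⟨h2, h2'⟩, hF⟩
  rcases hF with _ | ⟨⟨h3, h3'⟩, hF⟩
  rcases hF with _ | ⟨⟨h4, h4'⟩, hF⟩
  cases hF
  refine ⟨_, h1, _, h2, _, h3, _, h4, h1', h2', h3', h4', ?_⟩
  ext y
  rw [hcov y]
  simp only [List.mem_cons, List.not_mem_nil, or_false, exists_eq_or_imp, exists_eq_left,
    Set.mem_union]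
  tauto

end stab


theorem card_mset {l : List ℕ} (hl : WF l) : (mset l).card = l.length := by
  unfold mset
  rw [List.toFinset_card_of_nodup hl.nodup_map, List.length_map]

theorem stepL_sound (t : List ℕ) (σ : Equiv.Perm GolayPt) (ht : ValidTable t)
    (hσ : ∀ p, σ p = tfun t p) (la lb : List ℕ) (hla : WF la) (hlb : WF lb)
    (h : stepL t la lb) : σ • mset la = mset lb := by
  apply Finset.eq_of_subset_of_card_le
  · intro v hv
    obtain ⟨u, hu, rfl⟩ := Finset.mem_smul_finset.1 hv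
    obtain ⟨a, ha, rfl⟩ := mem_mset.1 hu
    show σ • maskSet a ∈ mset lb
    rw [smul_maskSet_img hσ ht]
    exact mem_mset.2 ⟨_, h.2 a ha, rfl⟩
  · rw [Finset.card_smul_finset, card_mset hla, card_mset hlb, h.1]

/-! ### encodings -/

/-- an encoding of objects of type `γ` by lists of masks -/
structure Enc (γ : Type*) [MulAction (Equiv.Perm GolayPt) γ] where
  dec : List ℕ → γ
  step : List ℕ → List ℕ → List ℕ → Prop
  decStep : ∀ t a b, Decidable (step t a b)
  wf : List ℕ → Prop
  decWf : ∀ l, Decidable (wf l)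
  fam : γ → Finset (Finset GolayPt)
  step_sound : ∀ (t : List ℕ) (σ : Equiv.Perm GolayPt), ValidTable t → (∀ p, σ p = tfun t p) →
    ∀ a b, wf a → wf b → step t a b → σ • dec a = dec b
  dec_inj : ∀ a b, wf a → wf b → dec a = dec b → a = b
  fam_smul : ∀ (σ : Equiv.Perm GolayPt) (y : γ), fam (σ • y) = σ • fam y
  fam_dec : ∀ l, wf l → fam (dec l) = mset l
  wf_WF : ∀ l, wf l → WF l

attribute [instance] Enc.decStep Enc.decWf

/-- families of sets, encoded by increasing lists of masks -/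
def encF : Enc (Finset (Finset GolayPt)) where
  dec := mset
  step := stepL
  decStep := fun _ _ _ => inferInstance
  wf := WF
  decWf := fun _ => inferInstance
  fam := id
  step_sound := stepL_sound
  dec_inj := fun _ _ ha hb h => mset_inj ha hb h
  fam_smul := fun _ _ => rfl
  fam_dec := fun _ _ => rfl
  wf_WF := fun _ h => h

/-- single sets, encoded by one-element lists of masks -/
def encS : Enc (Finset GolayPt) where
  dec := fun l => maskSet (l.headD 0)
  step := fun t a b => imgL t (a.headD 0) = b.headD 0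
  decStep := fun _ _ _ => inferInstance
  wf := fun l => l.length = 1 ∧ l.headD 0 < 2 ^ 24
  decWf := fun _ => inferInstance
  fam := fun y => {y}
  step_sound := fun t σ ht hσ a _ _ _ h => by
    show σ • maskSet (a.headD 0) = _
    rw [smul_maskSet_img hσ ht, h]
  dec_inj := by
    rintro a b ⟨ha, ha'⟩ ⟨hb, hb'⟩ h
    obtain ⟨x, rfl⟩ := List.length_eq_one_iff.1 ha
    obtain ⟨y, rfl⟩ := List.length_eq_one_iff.1 hb
    have := maskSet_inj ha' hb' h
    simp only [List.headD_cons] at this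
    rw [this]
  fam_smul := fun σ y => by rw [Finset.smul_finset_singleton]
  fam_dec := by
    rintro l ⟨hl, -⟩
    obtain ⟨x, rfl⟩ := List.length_eq_one_iff.1 hl
    simp [mset]
  wf_WF := by
    rintro l ⟨hl, hl'⟩
    obtain ⟨x, rfl⟩ := List.length_eq_one_iff.1 hl
    refine ⟨List.isChain_singleton _, ?_⟩
    intro m hm
    rw [List.mem_singleton] at hm
    subst hm
    exact hl'

/-! ### the main theorem -/

/-- the default entry -/
def d0E : Entry (List ℕ) := ([], 0, 0, 0, 0)

/-- a class: its label and its entries, in chunks -/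
abbrev Cls := ℕ × List (List (Entry (List ℕ)))

/-- the entries of a class -/
def Cls.ents (c : Cls) : List (Entry (List ℕ)) := c.2.flatten

/-- the base encoding of a class -/
def Cls.base (c : Cls) : List ℕ := (c.ents.headD d0E).1

section main
variable {α β : Type*} [MulAction (Equiv.Perm GolayPt) α] [MulAction (Equiv.Perm GolayPt) β]

/-- the decidable check of a class -/
def ClsOK (B : Enc β) (x0 : List ℕ) (gens : List (List ℕ)) (c : Cls) : Prop :=
  c.ents.isEmpty = false ∧ (∀ ch ∈ c.2, ∀ x ∈ ch, EntryOK B.step gens c.2 c.base x) ∧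
    List.IsChain (· < ·) (c.ents.map fun e => key e.1) ∧ (∀ e ∈ c.ents, B.wf e.1) ∧
    ∀ e ∈ c.ents, labL x0 e.1 = c.1

instance (B : Enc β) (x0 : List ℕ) (gens : List (List ℕ)) (c : Cls) :
    Decidable (ClsOK B x0 gens c) := by unfold ClsOK; infer_instance

/-- the set of objects listed in a class -/
def cset (B : Enc β) (c : Cls) : Set β := {y | ∃ e ∈ c.ents, B.dec e.1 = y}

/-- the base of a class -/
def cbase (B : Enc β) (c : Cls) : β := B.dec c.base

theorem cbase_mem (B : Enc β) {c : Cls} (h : c.ents.isEmpty = false) : cbase B c ∈ cset B c := by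
  refine ⟨c.ents.headD d0E, ?_, rfl⟩
  rcases hl : c.ents with _ | ⟨x, l⟩
  · rw [hl] at h; simp at h
  · simp

theorem cset_subset_orbit (A : Enc α) (B : Enc β) {x0 : List ℕ} {gens : List (List ℕ)}
    (hx0 : A.wf x0) (hgens : ∀ t ∈ gens, GoodTable t ∧ ValidTable t ∧ A.step t x0 x0) {c : Cls}
    (hc : ClsOK B x0 gens c) :
    cset B c ⊆ MulAction.orbit ↥(MulAction.stabilizer M24 (A.dec x0)) (cbase B c) := by
  rintro y ⟨e, he, rfl⟩
  obtain ⟨ch, hch, hech⟩ := List.mem_flatten.1 he
  have hgens' : ∀ t ∈ gens, ValidTable t ∧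
      ∃ σ ∈ M24 ⊓ MulAction.stabilizer (Equiv.Perm GolayPt) (A.dec x0), ∀ p, σ p = tfun t p := by
    intro t ht
    obtain ⟨σ, hσ, hσt⟩ := exists_perm_of_good (hgens t ht).1
    exact ⟨(hgens t ht).2.1, σ, Subgroup.mem_inf.2 ⟨hσ, MulAction.mem_stabilizer_iff.2
      (A.step_sound t σ (hgens t ht).2.1 hσt _ _ hx0 hx0 (hgens t ht).2.2)⟩, hσt⟩
  have hP : ∀ ch ∈ c.2, ∀ x ∈ ch, B.wf x.1 := fun ch hch x hx =>
    hc.2.2.2.1 x (List.mem_flatten.2 ⟨ch, hch, hx⟩)
  obtain ⟨σ, hσ, hσe⟩ := cert_sound (fun e => B.dec e) B.wf B.step B.step_sound _ gens hgens'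
    c.2 c.base hP hc.2.1 ch hch e hech
  rw [mem_orbit_stab_iff]
  exact ⟨σ, (Subgroup.mem_inf.1 hσ).1, MulAction.mem_stabilizer_iff.1 (Subgroup.mem_inf.1 hσ).2,
    hσe⟩

theorem ncard_cset (B : Enc β) {x0 : List ℕ} {gens : List (List ℕ)} {c : Cls}
    (hc : ClsOK B x0 gens c) : (cset B c).ncard = c.ents.length := by
  classical
  have hkeys : ((c.ents.map fun e => e.1).map key).Nodup := by
    rw [List.map_map]
    exact (List.isChain_iff_pairwise.mp hc.2.2.1).imp (fun h => Nat.ne_of_lt h)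
  have h1 : (c.ents.map fun e => e.1).Nodup := List.Nodup.of_map _ hkeys
  have h2 : ((c.ents.map fun e => e.1).map B.dec).Nodup := by
    apply List.Nodup.map_on _ h1
    intro a ha b hb hab
    obtain ⟨e, he, rfl⟩ := List.mem_map.1 ha
    obtain ⟨e', he', rfl⟩ := List.mem_map.1 hb
    exact B.dec_inj _ _ (hc.2.2.2.1 e he) (hc.2.2.2.1 e' he') hab
  have h3 : cset B c = ↑((c.ents.map fun e => e.1).map B.dec).toFinset := by
    ext y
    simp only [cset, Set.mem_ofPred_eq, List.coe_toFinset, List.mem_map, exists_exists_and_eq_and]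
  rw [h3, Set.ncard_coe_finset, List.toFinset_card_of_nodup h2, List.length_map, List.length_map]

theorem lab_cset (A : Enc α) (B : Enc β) {x0 : List ℕ} {gens : List (List ℕ)} (hx0 : A.wf x0)
    {c : Cls} (hc : ClsOK B x0 gens c) :
    ∀ y ∈ cset B c, lab2 (A.fam (A.dec x0)) (B.fam y) = c.1 := by
  rintro y ⟨e, he, rfl⟩
  rw [A.fam_dec _ hx0, B.fam_dec _ (hc.2.2.2.1 e he),
    lab2_mset (A.wf_WF _ hx0) (B.wf_WF _ (hc.2.2.2.1 e he))]
  exact hc.2.2.2.2 e he

theorem lab_inv (A : Enc α) (B : Enc β) (X : α) {σ : Equiv.Perm GolayPt} (hX : σ • X = X)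
    (y : β) : lab2 (A.fam X) (B.fam (σ • y)) = lab2 (A.fam X) (B.fam y) := by
  have h : A.fam X = σ • A.fam X := by rw [← A.fam_smul, hX]
  calc lab2 (A.fam X) (B.fam (σ • y)) = lab2 (σ • A.fam X) (σ • B.fam y) := by
        rw [← h, B.fam_smul]
    _ = _ := lab2_smul _ _ _

omit [MulAction (Equiv.Perm GolayPt) β] in
theorem ncard_biUnion_list {ι : Type*} [Finite β] (f : ι → Set β) (l : List ι)
    (hd : l.Pairwise (fun i j => Disjoint (f i) (f j))) :
    {y | ∃ i ∈ l, y ∈ f i}.ncard = (l.map fun i => (f i).ncard).sum := by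
  induction l with
  | nil => simp
  | cons i l ih =>
    rw [List.pairwise_cons] at hd
    have : {y | ∃ j ∈ i :: l, y ∈ f j} = f i ∪ {y | ∃ j ∈ l, y ∈ f j} := by
      ext y
      simp only [List.mem_cons, exists_eq_or_imp, Set.mem_ofPred_eq, Set.mem_union]
    rw [this, Set.ncard_union_eq ?_ (Set.toFinite _) (Set.toFinite _), ih hd.2, List.map_cons,
      List.sum_cons]
    rw [Set.disjoint_left]
    rintro y hy ⟨j, hj, hyj⟩
    exact Set.disjoint_left.1 (hd.1 j hj) hy hyj

theorem decomp_of_cert [Finite β] (A : Enc α) (B : Enc β) (x0 : List ℕ) (gens : List (List ℕ))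
    (cs : List Cls) (Ys : Set β) (hYs : ∀ σ ∈ M24, ∀ y ∈ Ys, σ • y ∈ Ys)
    (hx0 : A.wf x0) (hgens : ∀ t ∈ gens, GoodTable t ∧ ValidTable t ∧ A.step t x0 x0)
    (hnd : (cs.map Prod.fst).Nodup) (hcs : ∀ c ∈ cs, ClsOK B x0 gens c)
    (hbase : ∀ c ∈ cs, cbase B c ∈ Ys)
    (hcount : Ys.ncard ≤ (cs.map fun c => c.ents.length).sum) :
    OrbitDecomp (A.dec x0) Ys (cs.map fun c => c.ents.length) := by
  have hsub : ∀ c ∈ cs, cset B c ⊆ Ys := by
    intro c hc y hy
    have := cset_subset_orbit A B hx0 hgens (hcs c hc) hy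
    rw [mem_orbit_stab_iff] at this
    obtain ⟨σ, hσ, -, rfl⟩ := this
    exact hYs σ hσ _ (hbase c hc)
  have hdisj : cs.Pairwise (fun c c' => Disjoint (cset B c) (cset B c')) := by
    have h1 : cs.Pairwise (fun a b => a.1 ≠ b.1) := List.pairwise_map.1 hnd
    refine h1.imp_of_mem ?_
    intro c c' hc hc' hne
    rw [Set.disjoint_left]
    intro y hy hy'
    exact hne ((lab_cset A B hx0 (hcs c hc) y hy).symm.trans (lab_cset A B hx0 (hcs c' hc') y hy'))
  have hU : {y | ∃ c ∈ cs, y ∈ cset B c}.ncard = (cs.map fun c => c.ents.length).sum := by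
    rw [ncard_biUnion_list _ _ hdisj]
    congr 1
    apply List.map_congr_left
    intro c hc
    exact ncard_cset B (hcs c hc)
  have hUsub : {y | ∃ c ∈ cs, y ∈ cset B c} ⊆ Ys := by
    rintro y ⟨c, hc, hy⟩
    exact hsub c hc hy
  have hUeq : {y | ∃ c ∈ cs, y ∈ cset B c} = Ys :=
    Set.eq_of_subset_of_ncard_le hUsub (by rw [hU]; exact hcount) (Set.toFinite _)
  have horb : ∀ c ∈ cs, MulAction.orbit ↥(MulAction.stabilizer M24 (A.dec x0)) (cbase B c) =
      cset B c := by
    intro c hc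
    apply Set.Subset.antisymm _ (cset_subset_orbit A B hx0 hgens (hcs c hc))
    intro y hy
    rw [mem_orbit_stab_iff] at hy
    obtain ⟨σ, hσ, hX, rfl⟩ := hy
    have hyY : σ • cbase B c ∈ Ys := hYs σ hσ _ (hbase c hc)
    rw [← hUeq] at hyY
    obtain ⟨c', hc', hy'⟩ := hyY
    have h1 := lab_cset A B hx0 (hcs c' hc') _ hy'
    rw [lab_inv A B _ hX, lab_cset A B hx0 (hcs c hc) _ (cbase_mem B (hcs c hc).1)] at h1
    have : c = c' := List.inj_on_of_nodup_map hnd hc hc' h1
    rw [← this] at hy'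
    exact hy'
  refine ⟨cs.map (cbase B), ?_, ?_⟩
  · rw [List.forall₂_map_left_iff, List.forall₂_map_right_iff, List.forall₂_same]
    intro c hc
    exact ⟨hbase c hc, by rw [horb c hc, ncard_cset B (hcs c hc)]⟩
  · intro y
    rw [← hUeq]
    constructor
    · rintro ⟨c, hc, hy⟩
      exact ⟨cbase B c, List.mem_map.2 ⟨c, hc, rfl⟩, by rw [horb c hc]; exact hy⟩
    · rintro ⟨Y, hY, hy⟩
      obtain ⟨c, hc, rfl⟩ := List.mem_map.1 hY
      rw [horb c hc] at hy
      exact ⟨c, hc, hy⟩

end main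

/-! ### membership tests -/

/-- lists of masks of sextets -/
def SextetL (l : List ℕ) : Prop :=
  WF l ∧ l.length = 6 ∧ (∀ a ∈ l, popc a = 4) ∧ ∀ a ∈ l, ∀ b ∈ l, a ≠ b → IsOctadMask (a ||| b)

instance (l : List ℕ) : Decidable (SextetL l) := by unfold SextetL; infer_instance

theorem mset_mem_sextets {l : List ℕ} (h : SextetL l) : mset l ∈ sextets := by
  obtain ⟨hl, h6, h4, h8⟩ := h
  refine ⟨by rw [card_mset hl, h6], ?_, ?_⟩
  · intro t ht
    obtain ⟨a, ha, rfl⟩ := mem_mset.1 ht
    rw [card_maskSet, h4 a ha]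
  · intro t ht u hu hne
    obtain ⟨a, ha, rfl⟩ := mem_mset.1 ht
    obtain ⟨b, hb, rfl⟩ := mem_mset.1 hu
    rw [← maskSet_or]
    apply maskSet_mem_octads
    apply h8 a ha b hb
    rintro rfl
    exact hne rfl

/-- lists of masks of trios -/
def TrioL (l : List ℕ) : Prop :=
  WF l ∧ l.length = 3 ∧ (∀ a ∈ l, IsOctadMask a) ∧ ∀ a ∈ l, ∀ b ∈ l, a ≠ b → a &&& b = 0

instance (l : List ℕ) : Decidable (TrioL l) := by unfold TrioL; infer_instance

theorem mset_mem_trios {l : List ℕ} (h : TrioL l) : mset l ∈ trios := by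
  obtain ⟨hl, h3, h8, hd⟩ := h
  refine ⟨by rw [card_mset hl, h3], ?_, ?_⟩
  · intro t ht
    obtain ⟨a, ha, rfl⟩ := mem_mset.1 ht
    exact maskSet_mem_octads (h8 a ha)
  · intro t ht u hu hne
    obtain ⟨a, ha, rfl⟩ := mem_mset.1 ht
    obtain ⟨b, hb, rfl⟩ := mem_mset.1 hu
    rw [Finset.disjoint_iff_inter_eq_empty, ← maskSet_and, hd a ha b hb (by rintro rfl; exact hne rfl)]
    ext p
    simp [mem_maskSet]

end Cfsg.Agent.Lib.Helper1_Cert
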