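import Mathlib
import Cfsg.Agent.Lib.Helper1_OrbitCert
import Cfsg.Agent.Lib.Helper1_Maximal
set_option autoImplicit false
open Cfsg
open scoped Pointwise
namespace Cfsg.Agent.Lib.Helper1_Cert
open Cfsg.Agent.Lib.Helper1_Golay Cfsg.Agent.Lib.Helper1_Chain Cfsg.Agent.Lib.Helper1_Maximal

theorem forall₂_mem_left {β γ : Type*} {R : β → γ → Prop} {l₁ : List β} {l₂ : List γ}
    (h : List.Forall₂ R l₁ l₂) {a : β} (ha : a ∈ l₁) : ∃ b ∈ l₂, R a b := by
  induction h with
  | nil => simp at ha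
  | cons hab _ ih =>
    rcases List.mem_cons.1 ha with rfl | ha'
    · exact ⟨_, List.mem_cons_self, hab⟩
    · obtain ⟨b, hb, hR⟩ := ih ha'
      exact ⟨b, List.mem_cons_of_mem _ hb, hR⟩

section
variable {α : Type*} [MulAction (Equiv.Perm GolayPt) α]

theorem orbit_stab_self (X : α) : MulAction.orbit ↥(MulAction.stabilizer M24 X) X = {X} := by
  ext y
  rw [mem_orbit_stab_iff, Set.mem_singleton_iff]
  constructor
  · rintro ⟨σ, _, hX, rfl⟩
    exact hX
  · rintro rfl
    exact ⟨1, M24.one_mem, one_smul _ _, one_smul _ _⟩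

/-- maximality of a stabilizer from the sizes of its orbits -/
theorem isCoatom_of_decomp {X : α} {m : ℕ} (n : Fin (m + 1) → ℕ)
    (h : OrbitDecomp X (MulAction.orbit ↥M24 X) (List.ofFn n)) (hn0 : n 0 = 1)
    (hinj : Function.Injective n)
    (hdiv : ∀ S : Finset (Fin (m + 1)), 0 ∈ S → (∑ i ∈ S, n i) ∣ (∑ i, n i) →
      S = {0} ∨ S = Finset.univ)
    (hm : 0 < m) : IsCoatom (MulAction.stabilizer M24 X) := by
  classical
  obtain ⟨L, hF, hcov⟩ := h
  have hlen : L.length = m + 1 := by rw [hF.length_eq, List.length_ofFn]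
  obtain ⟨-, hget⟩ := List.forall₂_iff_get.1 hF
  let Y : Fin (m + 1) → α := fun i => L.get ⟨i.val, by rw [hlen]; exact i.2⟩
  have hY : ∀ i, Y i ∈ MulAction.orbit ↥M24 X ∧
      (MulAction.orbit ↥(MulAction.stabilizer M24 X) (Y i)).ncard = n i := by
    intro i
    have := hget i.val (by rw [hlen]; exact i.2) (by rw [List.length_ofFn]; exact i.2)
    rw [List.get_ofFn] at this
    exact this
  have hcovY : ∀ y, y ∈ MulAction.orbit ↥M24 X ↔
      ∃ i, y ∈ MulAction.orbit ↥(MulAction.stabilizer M24 X) (Y i) := by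
    intro y
    rw [hcov y]
    constructor
    · rintro ⟨Y', hY', hy⟩
      obtain ⟨j, rfl⟩ := List.mem_iff_get.1 hY'
      exact ⟨⟨j.val, by rw [← hlen]; exact j.2⟩, hy⟩
    · rintro ⟨i, hy⟩
      exact ⟨Y i, List.get_mem _ _, hy⟩
  -- orbits meeting are equal
  have heq : ∀ i y, y ∈ MulAction.orbit ↥(MulAction.stabilizer M24 X) (Y i) →
      MulAction.orbit ↥(MulAction.stabilizer M24 X) y =
        MulAction.orbit ↥(MulAction.stabilizer M24 X) (Y i) :=
    fun i y hy => MulAction.orbit_eq_iff.2 hy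
  have huniq : ∀ i j y, y ∈ MulAction.orbit ↥(MulAction.stabilizer M24 X) (Y i) →
      y ∈ MulAction.orbit ↥(MulAction.stabilizer M24 X) (Y j) → i = j := by
    intro i j y hi hj
    apply hinj
    rw [← (hY i).2, ← (hY j).2, ← heq i y hi, ← heq j y hj]
  -- the point itself lies in the first orbit
  have hX0 : X ∈ MulAction.orbit ↥(MulAction.stabilizer M24 X) (Y 0) := by
    obtain ⟨j, hj⟩ := (hcovY X).1 (MulAction.mem_orbit_self X)
    have h1 : n j = 1 := by
      rw [← (hY j).2, ← heq j X hj, orbit_stab_self, Set.ncard_singleton]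
    have : j = 0 := hinj (h1.trans hn0.symm)
    rw [← this]
    exact hj
  have hO0 : MulAction.orbit ↥(MulAction.stabilizer M24 X) (Y 0) = {X} := by
    rw [← heq 0 X hX0, orbit_stab_self]
  -- the class function
  let c : α → Fin (m + 1) := fun y =>
    if h : ∃ i, y ∈ MulAction.orbit ↥(MulAction.stabilizer M24 X) (Y i) then h.choose else 0
  have hc : ∀ y i, y ∈ MulAction.orbit ↥(MulAction.stabilizer M24 X) (Y i) → c y = i := by
    intro y i hy
    have hex : ∃ i, y ∈ MulAction.orbit ↥(MulAction.stabilizer M24 X) (Y i) := ⟨i, hy⟩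
    show (if h : ∃ i, y ∈ MulAction.orbit ↥(MulAction.stabilizer M24 X) (Y i) then h.choose
      else 0) = i
    rw [dif_pos hex]
    exact huniq _ _ y hex.choose_spec hy
  have hc' : ∀ y ∈ MulAction.orbit ↥M24 X,
      y ∈ MulAction.orbit ↥(MulAction.stabilizer M24 X) (Y (c y)) := by
    intro y hy
    obtain ⟨i, hi⟩ := (hcovY y).1 hy
    rw [hc y i hi]
    exact hi
  apply isCoatom_stabilizer (G := ↥M24) X c n
  · exact hc X 0 hX0
  · intro y hy h0
    have := hc' y hy
    rw [h0, hO0] at this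
    exact this
  · intro y hy z hz hyz
    have h1 := hc' y hy
    have h2 := hc' z hz
    rw [← hyz, ← heq _ y h1] at h2
    obtain ⟨k, hk⟩ := h2
    exact ⟨k.1, k.2, hk⟩
  · intro i
    rw [← (hY i).2]
    congr 1
    ext y
    constructor
    · rintro ⟨hy, hci⟩
      have := hc' y hy
      rw [hci] at this
      exact this
    · intro hy
      exact ⟨(hcovY y).2 ⟨i, hy⟩, hc y i hy⟩
  · exact hdiv
  · refine ⟨Y ⟨1, by omega⟩, (hY _).1, ?_⟩
    intro h1
    have hmem : X ∈ MulAction.orbit ↥(MulAction.stabilizer M24 X) (Y ⟨1, by omega⟩) := by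
      rw [h1]; exact MulAction.mem_orbit_self _
    have := huniq _ _ X hmem hX0
    simp [Fin.ext_iff] at this

/-- decompositions containing the point itself: the first orbit is the point -/
theorem OrbitDecomp.head_eq {X : α} {Ys : Set α} {n : ℕ} {ns : List ℕ}
    (h : OrbitDecomp X Ys (n :: ns)) (hX : X ∈ Ys) (hns : ∀ k ∈ ns, k ≠ 1) :
    ∃ L : List α, List.Forall₂ (fun Y n => Y ∈ Ys ∧
      (MulAction.orbit ↥(MulAction.stabilizer M24 X) Y).ncard = n) L ns ∧
    ∀ y, y ∈ Ys ↔ y = X ∨ ∃ Y ∈ L, y ∈ MulAction.orbit ↥(MulAction.stabilizer M24 X) Y := by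
  obtain ⟨L, hF, hcov⟩ := h
  rcases hF with _ | ⟨⟨h1, h1'⟩, hF⟩
  rename_i Y0 L'
  refine ⟨L', hF, ?_⟩
  have hY0 : MulAction.orbit ↥(MulAction.stabilizer M24 X) Y0 = {X} := by
    obtain ⟨Y, hY, hXY⟩ := (hcov X).1 hX
    have heq : MulAction.orbit ↥(MulAction.stabilizer M24 X) Y = {X} := by
      rw [← MulAction.orbit_eq_iff.2 hXY, orbit_stab_self]
    rcases List.mem_cons.1 hY with rfl | hY'
    · exact heq
    · exfalso
      obtain ⟨k, hk, -, hYk⟩ := forall₂_mem_left hF hY'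
      rw [heq, Set.ncard_singleton] at hYk
      exact hns k hk hYk.symm
  intro y
  rw [hcov y]
  constructor
  · rintro ⟨Y, hY, hy⟩
    rcases List.mem_cons.1 hY with rfl | hY'
    · left
      rw [hY0] at hy
      exact hy
    · right
      exact ⟨Y, hY', hy⟩
  · rintro (rfl | ⟨Y, hY, hy⟩)
    · exact ⟨Y0, List.mem_cons_self, by rw [hY0]; rfl⟩
    · exact ⟨Y, List.mem_cons_of_mem _ hY, hy⟩

end


section facts
variable {α β : Type*} [MulAction (Equiv.Perm GolayPt) α] [MulAction (Equiv.Perm GolayPt) β]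

/-- the classes of a certificate are the orbits, and they cover -/
theorem cert_facts [Finite β] (A : Enc α) (B : Enc β) (x0 : List ℕ) (gens : List (List ℕ))
    (cs : List Cls) (Ys : Set β) (hYs : ∀ σ ∈ M24, ∀ y ∈ Ys, σ • y ∈ Ys)
    (hx0 : A.wf x0) (hgens : ∀ t ∈ gens, GoodTable t ∧ ValidTable t ∧ A.step t x0 x0)
    (hnd : (cs.map Prod.fst).Nodup) (hcs : ∀ c ∈ cs, ClsOK B x0 gens c)
    (hbase : ∀ c ∈ cs, cbase B c ∈ Ys)
    (hcount : Ys.ncard ≤ (cs.map fun c => c.ents.length).sum) :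
    (∀ c ∈ cs, MulAction.orbit ↥(MulAction.stabilizer M24 (A.dec x0)) (cbase B c) = cset B c) ∧
      {y | ∃ c ∈ cs, y ∈ cset B c} = Ys := by
  have hsub : ∀ c ∈ cs, cset B c ⊆ Ys := by
    intro c hc y hy
    have := cset_subset_orbit A B hx0 hgens (hcs c hc) hy
    rw [mem_orbit_stab_iff] at this
    obtain ⟨σ, hσ, -, rfl⟩ := this
    exact hYs σ hσ _ (hbase c hc)
  have hdisj : cs.Pairwise (fun c c' => Disjoint (cset B c) (cset B c')) := by
    have h1 : cs.Pairwise (fun a b => a.1 ≠ b.1) := List.pairwise_map.1 hnd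
    refine h1.imp_of_mem ?_
    intro c c' hc hc' hne
    rw [Set.disjoint_left]
    intro y hy hy'
    exact hne ((lab_cset A B hx0 (hcs c hc) y hy).symm.trans (lab_cset A B hx0 (hcs c' hc') y hy'))
  have hU : {y | ∃ c ∈ cs, y ∈ cset B c}.ncard = (cs.map fun c => c.ents.length).sum := by
    rw [ncard_biUnion_list _ _ hdisj]
    congr 1
    apply List.map_congr_left
    intro c hc
    exact ncard_cset B (hcs c hc)
  have hUsub : {y | ∃ c ∈ cs, y ∈ cset B c} ⊆ Ys := by
    rintro y ⟨c, hc, hy⟩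
    exact hsub c hc hy
  have hUeq : {y | ∃ c ∈ cs, y ∈ cset B c} = Ys :=
    Set.eq_of_subset_of_ncard_le hUsub (by rw [hU]; exact hcount) (Set.toFinite _)
  refine ⟨?_, hUeq⟩
  intro c hc
  apply Set.Subset.antisymm _ (cset_subset_orbit A B hx0 hgens (hcs c hc))
  intro y hy
  rw [mem_orbit_stab_iff] at hy
  obtain ⟨σ, hσ, hX, rfl⟩ := hy
  have hyY : σ • cbase B c ∈ Ys := hYs σ hσ _ (hbase c hc)
  rw [← hUeq] at hyY
  obtain ⟨c', hc', hy'⟩ := hyY
  have h1 := lab_cset A B hx0 (hcs c' hc') _ hy'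
  rw [lab_inv A B _ hX, lab_cset A B hx0 (hcs c hc) _ (cbase_mem B (hcs c hc).1)] at h1
  have : c = c' := List.inj_on_of_nodup_map hnd hc hc' h1
  rw [← this] at hy'
  exact hy'

end facts

end Cfsg.Agent.Lib.Helper1_Cert
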