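import Mathlib
import Cfsg.Agent.Lib.Helper1_OrbitCert2
set_option autoImplicit false
open Cfsg
open scoped Pointwise
namespace Cfsg.Agent.Lib.Helper1_Cert
open Cfsg.Agent.Lib.Helper1_Golay Cfsg.Agent.Lib.Helper1_Chain

theorem imgL_lt {t : List ℕ} (ht : ValidTable t) (a : ℕ) : imgL t a < 2 ^ 24 := by
  apply Nat.lt_pow_two_of_testBit
  intro i hi
  by_contra h
  rw [Bool.not_eq_false] at h
  obtain ⟨k, hk, -, hki⟩ := (testBit_imgL t a i).1 h
  rw [ht.1] at hk
  have := ht.getD_lt hk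
  omega

theorem stepL_iff {t : List ℕ} {σ : Equiv.Perm GolayPt} (hσ : ∀ p, σ p = tfun t p)
    (ht : ValidTable t) {l : List ℕ} (hl : WF l) : σ • mset l = mset l ↔ stepL t l l := by
  constructor
  · intro h
    refine ⟨rfl, fun a ha => ?_⟩
    have h1 : σ • maskSet a ∈ σ • mset l := Finset.smul_mem_smul_finset (mem_mset.2 ⟨a, ha, rfl⟩)
    rw [h, smul_maskSet_img hσ ht] at h1
    obtain ⟨m, hm, hmm⟩ := mem_mset.1 h1
    rw [← maskSet_inj (hl.2 m hm) (imgL_lt ht a) hmm]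
    exact hm
  · intro h
    exact stepL_sound t σ ht hσ l l hl hl h

theorem stepS_iff {t : List ℕ} {σ : Equiv.Perm GolayPt} (hσ : ∀ p, σ p = tfun t p)
    (ht : ValidTable t) {l : List ℕ} (hl : encS.wf l) :
    σ • encS.dec l = encS.dec l ↔ encS.step t l l := by
  show σ • maskSet (l.headD 0) = maskSet (l.headD 0) ↔ imgL t (l.headD 0) = l.headD 0
  rw [smul_maskSet_img hσ ht]
  constructor
  · intro h
    exact maskSet_inj (imgL_lt ht _) hl.2 h
  · intro h
    rw [h]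

section count
variable {α β : Type*} [MulAction (Equiv.Perm GolayPt) α] [MulAction (Equiv.Perm GolayPt) β]

theorem cert_disjoint (A : Enc α) (B : Enc β) (x0 : List ℕ) (gens : List (List ℕ))
    (cs : List Cls) (hx0 : A.wf x0) (hnd : (cs.map Prod.fst).Nodup)
    (hcs : ∀ c ∈ cs, ClsOK B x0 gens c) :
    cs.Pairwise (fun c c' => Disjoint (cset B c) (cset B c')) := by
  have h1 : cs.Pairwise (fun a b => a.1 ≠ b.1) := List.pairwise_map.1 hnd
  refine h1.imp_of_mem ?_
  intro c c' hc hc' hne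
  rw [Set.disjoint_left]
  intro y hy hy'
  exact hne ((lab_cset A B hx0 (hcs c hc) y hy).symm.trans (lab_cset A B hx0 (hcs c' hc') y hy'))

theorem ncard_filter_cset (B : Enc β) {x0 : List ℕ} {gens : List (List ℕ)} {c : Cls}
    (hc : ClsOK B x0 gens c) (P : β → Prop) (Q : List ℕ → Prop) [DecidablePred Q]
    (hPQ : ∀ e ∈ c.ents, (P (B.dec e.1) ↔ Q e.1)) :
    {y | y ∈ cset B c ∧ P y}.ncard = (c.ents.filter fun e => Q e.1).length := by
  classical
  have hkeys : ((c.ents.map fun e => e.1).map key).Nodup := by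
    rw [List.map_map]
    exact (List.isChain_iff_pairwise.mp hc.2.2.1).imp (fun h => Nat.ne_of_lt h)
  have h1 : (c.ents.map fun e => e.1).Nodup := List.Nodup.of_map _ hkeys
  have h0 : c.ents.Nodup := List.Nodup.of_map _ h1
  have h1' : ((c.ents.filter fun e => Q e.1).map fun e => e.1).Nodup := by
    have : ((c.ents.filter fun e => Q e.1).map fun e => e.1).Sublist (c.ents.map fun e => e.1) :=
      List.Sublist.map _ List.filter_sublist
    exact this.nodup h1
  have h2 : (((c.ents.filter fun e => Q e.1).map fun e => e.1).map B.dec).Nodup := by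
    apply List.Nodup.map_on _ h1'
    intro a ha b hb hab
    obtain ⟨e, he, rfl⟩ := List.mem_map.1 ha
    obtain ⟨e', he', rfl⟩ := List.mem_map.1 hb
    exact B.dec_inj _ _ (hc.2.2.2.1 e (List.mem_filter.1 he).1)
      (hc.2.2.2.1 e' (List.mem_filter.1 he').1) hab
  have h3 : {y | y ∈ cset B c ∧ P y} =
      ↑(((c.ents.filter fun e => Q e.1).map fun e => e.1).map B.dec).toFinset := by
    ext y
    simp only [cset, Set.mem_ofPred_eq, List.coe_toFinset, List.mem_map, exists_exists_and_eq_and,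
      List.mem_filter, decide_eq_true_eq]
    constructor
    · rintro ⟨⟨e, he, rfl⟩, hP⟩
      exact ⟨e, ⟨he, (hPQ e he).1 hP⟩, rfl⟩
    · rintro ⟨e, ⟨he, hQ⟩, rfl⟩
      exact ⟨⟨e, he, rfl⟩, (hPQ e he).2 hQ⟩
  rw [h3, Set.ncard_coe_finset, List.toFinset_card_of_nodup h2, List.length_map, List.length_map]

theorem ncard_fixed [Finite β] (B : Enc β) {x0 : List ℕ} {gens : List (List ℕ)} (cs : List Cls)
    (Ys : Set β) (hcov : {y | ∃ c ∈ cs, y ∈ cset B c} = Ys)
    (hdisj : cs.Pairwise (fun c c' => Disjoint (cset B c) (cset B c')))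
    (hcs : ∀ c ∈ cs, ClsOK B x0 gens c) (σ : Equiv.Perm GolayPt) (t : List ℕ)
    (hiff : ∀ c ∈ cs, ∀ e ∈ c.ents, (σ • B.dec e.1 = B.dec e.1 ↔ B.step t e.1 e.1)) :
    {y | y ∈ Ys ∧ σ • y = y}.ncard =
      (cs.map fun c => (c.ents.filter fun e => B.step t e.1 e.1).length).sum := by
  have h1 : {y | y ∈ Ys ∧ σ • y = y} =
      {y | ∃ c ∈ cs, y ∈ {y | y ∈ cset B c ∧ σ • y = y}} := by
    ext y
    rw [← hcov]
    simp only [Set.mem_ofPred_eq]
    constructor
    · rintro ⟨⟨c, hc, hy⟩, hσ⟩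
      exact ⟨c, hc, hy, hσ⟩
    · rintro ⟨c, hc, hy, hσ⟩
      exact ⟨⟨c, hc, hy⟩, hσ⟩
  rw [h1, ncard_biUnion_list]
  · congr 1
    apply List.map_congr_left
    intro c hc
    exact ncard_filter_cset B (hcs c hc) (fun y => σ • y = y) (fun l => B.step t l l)
      (hiff c hc)
  · refine hdisj.imp ?_
    intro c c' hd
    exact Set.disjoint_of_subset (fun y hy => hy.1) (fun y hy => hy.1) hd

theorem ncard_fixed_conj (Ys : Set β) (hYs : ∀ σ ∈ M24, ∀ y ∈ Ys, σ • y ∈ Ys)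
    {g k σ : Equiv.Perm GolayPt} (hk : k ∈ M24) (h : k * g * k⁻¹ = σ) :
    {y | y ∈ Ys ∧ g • y = y}.ncard = {y | y ∈ Ys ∧ σ • y = y}.ncard := by
  have : {y | y ∈ Ys ∧ σ • y = y} = (fun y => k • y) '' {y | y ∈ Ys ∧ g • y = y} := by
    ext y
    constructor
    · rintro ⟨hy, hσ⟩
      refine ⟨k⁻¹ • y, ⟨hYs _ (M24.inv_mem hk) y hy, ?_⟩, smul_inv_smul k y⟩
      rw [← h] at hσ
      rw [mul_smul, mul_smul] at hσ
      exact eq_inv_smul_iff.2 hσ
    · rintro ⟨z, ⟨hz, hgz⟩, rfl⟩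
      refine ⟨hYs k hk z hz, ?_⟩
      rw [← h, mul_smul, mul_smul, inv_smul_smul, hgz]
  rw [this, Set.ncard_image_of_injective _ (MulAction.injective k)]

end count

end Cfsg.Agent.Lib.Helper1_Cert
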