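import Mathlib
import Cfsg.Agent.Lib.Helper1_Six
set_option autoImplicit false
open Cfsg
open scoped Pointwise
namespace Cfsg.Agent.Lib.Helper1_Chain
open Cfsg.Agent.Lib.Helper1_Golay

/-- the stabilizer of a triad has two orbits on the triads disjoint from it -/
theorem triad_trans {T U U' : Finset GolayPt} (hT : T.card = 3) (hU : U.card = 3) (hU' : U'.card = 3)
    (hd : Disjoint T U) (hd' : Disjoint T U') (h : InOctad (T ∪ U) ↔ InOctad (T ∪ U')) :
    ∃ g ∈ M24, g • T = T ∧ g • U = U' := by
  classical
  have hnd : ∀ V : Finset GolayPt, Disjoint T V → (T.toList ++ V.toList).Nodup := by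
    intro V hV
    rw [List.nodup_append]
    refine ⟨Finset.nodup_toList _, Finset.nodup_toList _, ?_⟩
    intro a ha b hb hab
    rw [Finset.mem_toList] at ha hb
    rw [hab] at ha
    exact Finset.disjoint_left.1 hV ha hb
  have hfs : ∀ V : Finset GolayPt, (T.toList ++ V.toList).toFinset = T ∪ V := by
    intro V
    ext p
    simp
  obtain ⟨g, hg, hgl⟩ := exists_map_six (hnd U hd) (hnd U' hd')
    (by rw [List.length_append, Finset.length_toList, Finset.length_toList, hT, hU])
    (by rw [List.length_append, Finset.length_toList, Finset.length_toList, hT, hU'])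
    (by rw [hfs, hfs]; exact h)
  rw [List.map_append] at hgl
  have e := List.append_inj hgl (by rw [List.length_map])
  refine ⟨g, hg, ?_, ?_⟩
  · rw [smul_toFinset_toList, e.1, Finset.toList_toFinset]
  · rw [smul_toFinset_toList, e.2, Finset.toList_toFinset]

/-- the octads through the first three base points -/
def O21 : List ℕ := [5279, 45159, 140167, 459847, 551943, 622863, 786999, 1065303, 1116327,
  2183687, 2263063, 3416079, 4196943, 4505735, 5902343, 6292775, 8536111, 8657159, 9471495,
  11010247, 12656663]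

set_option maxRecDepth 1000000 in
theorem O21_eq : (allWords rows).filter (fun n => popc n = 8 ∧ 7 &&& n = 7) = O21 := by
  decide +kernel

set_option maxRecDepth 100000 in
theorem Fset3_eq : Fset 3 = maskSet 7 := by decide +kernel

/-- decidable form of `InOctad (Fset 3 ∪ U)` -/
def InO21 (U : Finset GolayPt) : Prop := ∃ n ∈ O21, ∀ p ∈ U, n.testBit (idx p) = true

instance : DecidablePred InO21 := fun U => by unfold InO21; infer_instance

theorem inOctad_Fset3_union (U : Finset GolayPt) : InOctad (Fset 3 ∪ U) ↔ InO21 U := by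
  constructor
  · rintro ⟨o, ho, hso⟩
    obtain ⟨n, hn, hn8, rfl⟩ := octad_eq_maskSet ho
    refine ⟨n, ?_, fun p hp => mem_maskSet.1 (hso (Finset.mem_union_right _ hp))⟩
    rw [← O21_eq, List.mem_filter]
    refine ⟨hn, ?_⟩
    simp only [decide_eq_true_eq]
    refine ⟨hn8, ?_⟩
    apply maskSet_inj (lt_of_le_of_lt Nat.and_le_left (by decide)) (by decide)
    rw [maskSet_and, ← Fset3_eq]
    exact Finset.inter_eq_left.2 (fun p hp => hso (Finset.mem_union_left _ hp))
  · rintro ⟨n, hn, hU⟩
    rw [← O21_eq, List.mem_filter] at hn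
    simp only [decide_eq_true_eq] at hn
    refine ⟨maskSet n, ?_, ?_⟩
    · have : maskSet n ∈ wordsOfWeight (golayCode : Set (GolayPt → ZMod 2)) 8 := by
        rw [wordsOfWeight_eq]
        refine ⟨n, ?_, (maskSet_eq_support₂ n).symm⟩
        rw [Set.mem_ofPred_eq, List.mem_filter]
        exact ⟨hn.1, by simpa using hn.2.1⟩
      exact this
    · intro p hp
      rw [Finset.mem_union] at hp
      rcases hp with hp | hp
      · have : Fset 3 ⊆ maskSet n := by
          rw [Fset3_eq, ← hn.2.2, maskSet_and]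
          exact Finset.inter_subset_right
        exact this hp
      · exact mem_maskSet.2 (hU p hp)

set_option maxRecDepth 1000000 in
theorem cnt_triads_in : ((Finset.powersetCard 3 (Finset.univ : Finset GolayPt)).filter
    (fun U => Disjoint (Fset 3) U ∧ InO21 U)).card = 210 := by
  decide +kernel

set_option maxRecDepth 1000000 in
theorem cnt_triads_out : ((Finset.powersetCard 3 (Finset.univ : Finset GolayPt)).filter
    (fun U => Disjoint (Fset 3) U ∧ ¬ InO21 U)).card = 1120 := by
  decide +kernel

set_option maxRecDepth 1000000 in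
theorem cnt_triads_meet : ∀ i ∈ [1, 2], ((Finset.powersetCard 3 (Finset.univ : Finset GolayPt)).filter
    (fun y => (Fset 3 ∩ y).card = i)).card = [0, 630, 63].getD i 0 := by
  decide +kernel

theorem card_Fset3 : (Fset 3).card = 3 := by decide +kernel

theorem exists_map_triad {T : Finset GolayPt} (hT : T.card = 3) : ∃ g ∈ M24, g • Fset 3 = T := by
  obtain ⟨g, hg, hgy⟩ := exists_map_lists (Finset.nodup_toList (Fset 3)) (Finset.nodup_toList T)
    (by rw [Finset.length_toList, Finset.length_toList, hT, card_Fset3])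
    (by rw [Finset.length_toList, card_Fset3]; decide)
  refine ⟨g, hg, ?_⟩
  rw [smul_toFinset_toList, hgy, Finset.toList_toFinset]

theorem ncard_triads {T : Finset GolayPt} (hT : T.card = 3) :
    {U : Finset GolayPt | U.card = 3 ∧ Disjoint T U ∧ InOctad (T ∪ U)}.ncard = 210 ∧
    {U : Finset GolayPt | U.card = 3 ∧ Disjoint T U ∧ ¬ InOctad (T ∪ U)}.ncard = 1120 ∧
    {U : Finset GolayPt | U.card = 3 ∧ (T ∩ U).card = 1}.ncard = 630 ∧
    {U : Finset GolayPt | U.card = 3 ∧ (T ∩ U).card = 2}.ncard = 63 := by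
  obtain ⟨g, hg, hgT⟩ := exists_map_triad hT
  have hdisj : ∀ U : Finset GolayPt, Disjoint T U ↔ Disjoint (Fset 3) (g⁻¹ • U) := by
    intro U
    rw [← hgT]
    conv_lhs => rw [← smul_inv_smul g U]
    rw [Finset.disjoint_iff_inter_eq_empty, Finset.disjoint_iff_inter_eq_empty,
      ← Finset.smul_finset_inter, Finset.smul_finset_eq_empty]
  have hin : ∀ U : Finset GolayPt, InOctad (T ∪ U) ↔ InO21 (g⁻¹ • U) := by
    intro U
    rw [← inOctad_Fset3_union, ← inOctad_smul (M24.inv_mem hg) (s := T ∪ U),
      Finset.smul_finset_union, ← hgT, inv_smul_smul]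
  have hmeet : ∀ U : Finset GolayPt, (T ∩ U).card = (Fset 3 ∩ g⁻¹ • U).card := by
    intro U
    have : Fset 3 ∩ g⁻¹ • U = g⁻¹ • (T ∩ U) := by
      rw [Finset.smul_finset_inter, ← hgT, inv_smul_smul]
    rw [this, Finset.card_smul_finset]
  refine ⟨?_, ?_, ?_, ?_⟩
  · rw [← cnt_triads_in, ← ncard_ksubsets_smul g 3 (fun U => Disjoint (Fset 3) U ∧ InO21 U)]
    congr 1
    ext U
    simp only [Set.mem_ofPred_eq, hdisj U, hin U]
  · rw [← cnt_triads_out, ← ncard_ksubsets_smul g 3 (fun U => Disjoint (Fset 3) U ∧ ¬ InO21 U)]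
    congr 1
    ext U
    simp only [Set.mem_ofPred_eq, hdisj U, hin U]
  · have : ((Finset.powersetCard 3 (Finset.univ : Finset GolayPt)).filter
        (fun y => (Fset 3 ∩ y).card = 1)).card = 630 := cnt_triads_meet 1 (by decide)
    rw [← ncard_ksubsets_smul g 3 (fun y => (Fset 3 ∩ y).card = 1)] at this
    rw [← this]
    congr 1
    ext U
    simp only [Set.mem_ofPred_eq, hmeet U]
  · have : ((Finset.powersetCard 3 (Finset.univ : Finset GolayPt)).filter
        (fun y => (Fset 3 ∩ y).card = 2)).card = 63 := cnt_triads_meet 2 (by decide)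
    rw [← ncard_ksubsets_smul g 3 (fun y => (Fset 3 ∩ y).card = 2)] at this
    rw [← this]
    congr 1
    ext U
    simp only [Set.mem_ofPred_eq, hmeet U]

end Cfsg.Agent.Lib.Helper1_Chain
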