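import Mathlib
import Cfsg.Agent.Lib.Helper1_Triads
set_option autoImplicit false
open Cfsg
open scoped Pointwise
namespace Cfsg.Agent.Lib.Helper1_Chain
open Cfsg.Agent.Lib.Helper1_Golay

/-- the octads through the first four base points -/
def O5 : List ℕ := [5279, 622863, 3416079, 4196943, 8536111]

set_option maxRecDepth 1000000 in
theorem O5_eq : (allWords rows).filter (fun n => popc n = 8 ∧ 15 &&& n = 15) = O5 := by
  decide +kernel

set_option maxRecDepth 100000 in
theorem Fset4_eq : Fset 4 = maskSet 15 := by decide +kernel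

/-- decidable form of `InOctad (Fset 4 ∪ U)` -/
def InO5 (U : Finset GolayPt) : Prop := ∃ n ∈ O5, ∀ p ∈ U, n.testBit (idx p) = true

instance : DecidablePred InO5 := fun U => by unfold InO5; infer_instance

theorem inOctad_Fset4_union (U : Finset GolayPt) : InOctad (Fset 4 ∪ U) ↔ InO5 U := by
  constructor
  · rintro ⟨o, ho, hso⟩
    obtain ⟨n, hn, hn8, rfl⟩ := octad_eq_maskSet ho
    refine ⟨n, ?_, fun p hp => mem_maskSet.1 (hso (Finset.mem_union_right _ hp))⟩
    rw [← O5_eq, List.mem_filter]
    refine ⟨hn, ?_⟩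
    simp only [decide_eq_true_eq]
    refine ⟨hn8, ?_⟩
    apply maskSet_inj (lt_of_le_of_lt Nat.and_le_left (by decide)) (by decide)
    rw [maskSet_and, ← Fset4_eq]
    exact Finset.inter_eq_left.2 (fun p hp => hso (Finset.mem_union_left _ hp))
  · rintro ⟨n, hn, hU⟩
    rw [← O5_eq, List.mem_filter] at hn
    simp only [decide_eq_true_eq] at hn
    refine ⟨maskSet n, ?_, ?_⟩
    · have : maskSet n ∈ wordsOfWeight (golayCode : Set (GolayPt → ZMod 2)) 8 := by
        rw [wordsOfWeight_eq]
        refine ⟨n, ?_, (maskSet_eq_support₂ n).symm⟩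
        rw [Set.mem_ofPred_eq, List.mem_filter]
        exact ⟨hn.1, by simpa using hn.2.1⟩
      exact this
    · intro p hp
      rw [Finset.mem_union] at hp
      rcases hp with hp | hp
      · have : Fset 4 ⊆ maskSet n := by
          rw [Fset4_eq, ← hn.2.2, maskSet_and]
          exact Finset.inter_subset_right
        exact this hp
      · exact mem_maskSet.2 (hU p hp)

set_option maxRecDepth 1000000 in
theorem cnt_duads_in : ((Finset.powersetCard 2 (Finset.univ : Finset GolayPt)).filter
    (fun U => Disjoint (Fset 4) U ∧ InO5 U)).card = 30 := by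
  decide +kernel

set_option maxRecDepth 1000000 in
theorem cnt_duads_out : ((Finset.powersetCard 2 (Finset.univ : Finset GolayPt)).filter
    (fun U => Disjoint (Fset 4) U ∧ ¬ InO5 U)).card = 160 := by
  decide +kernel

theorem card_Fset4 : (Fset 4).card = 4 := by decide +kernel

theorem exists_map_tetrad {T : Finset GolayPt} (hT : T.card = 4) : ∃ g ∈ M24, g • Fset 4 = T := by
  obtain ⟨g, hg, hgy⟩ := exists_map_lists (Finset.nodup_toList (Fset 4)) (Finset.nodup_toList T)
    (by rw [Finset.length_toList, Finset.length_toList, hT, card_Fset4])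
    (by rw [Finset.length_toList, card_Fset4]; decide)
  refine ⟨g, hg, ?_⟩
  rw [smul_toFinset_toList, hgy, Finset.toList_toFinset]

theorem disjoint_smul_iff' (g : Equiv.Perm GolayPt) (a b : Finset GolayPt) :
    Disjoint (g • a) (g • b) ↔ Disjoint a b := by
  rw [Finset.disjoint_iff_inter_eq_empty, Finset.disjoint_iff_inter_eq_empty,
    ← Finset.smul_finset_inter, Finset.smul_finset_eq_empty]

/-- the duads disjoint from a tetrad: 30 lie in an octad with it, 160 do not -/
theorem ncard_duads {T : Finset GolayPt} (hT : T.card = 4) :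
    {U : Finset GolayPt | U.card = 2 ∧ Disjoint T U ∧ InOctad (T ∪ U)}.ncard = 30 ∧
    {U : Finset GolayPt | U.card = 2 ∧ Disjoint T U ∧ ¬ InOctad (T ∪ U)}.ncard = 160 := by
  obtain ⟨g, hg, hgT⟩ := exists_map_tetrad hT
  have hdisj : ∀ U : Finset GolayPt, Disjoint T U ↔ Disjoint (Fset 4) (g⁻¹ • U) := by
    intro U
    rw [← hgT]
    conv_lhs => rw [← smul_inv_smul g U]
    rw [disjoint_smul_iff']
  have hin : ∀ U : Finset GolayPt, InOctad (T ∪ U) ↔ InO5 (g⁻¹ • U) := by
    intro U
    rw [← inOctad_Fset4_union, ← inOctad_smul (M24.inv_mem hg) (s := T ∪ U),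
      Finset.smul_finset_union, ← hgT, inv_smul_smul]
  refine ⟨?_, ?_⟩
  · rw [← cnt_duads_in, ← ncard_ksubsets_smul g 2 (fun U => Disjoint (Fset 4) U ∧ InO5 U)]
    congr 1
    ext U
    simp only [Set.mem_ofPred_eq, hdisj U, hin U]
  · rw [← cnt_duads_out, ← ncard_ksubsets_smul g 2 (fun U => Disjoint (Fset 4) U ∧ ¬ InO5 U)]
    congr 1
    ext U
    simp only [Set.mem_ofPred_eq, hdisj U, hin U]

end Cfsg.Agent.Lib.Helper1_Chain
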