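import Mathlib
import Cfsg.Agent.Lib.Helper1_Tetrads
import Cfsg.Prelude.Def_SporadicCombinatorics
set_option autoImplicit false
open Cfsg
open scoped Pointwise
namespace Cfsg.Agent.Lib.Helper1_Chain
open Cfsg.Agent.Lib.Helper1_Golay

local notation "𝒢" => supports (golayCode : Set (GolayPt → ZMod 2))

/-- the sets of at most four points congruent to `t` modulo the code -/
def leaders (t : Finset GolayPt) : Set (Finset GolayPt) := {s | s.card ≤ 4 ∧ symmDiff t s ∈ 𝒢}

theorem card_of_mem_G {c : Finset GolayPt} (hc : c ∈ 𝒢) :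
    c.card = 0 ∨ c.card = 8 ∨ c.card = 12 ∨ c.card = 16 ∨ c.card = 24 := by
  obtain ⟨w, hw, rfl⟩ := hc
  exact golay_weights w hw

theorem mem_leaders_iff {t s : Finset GolayPt} (ht : t.card = 4) :
    s ∈ leaders t ↔ s = t ∨ (s.card = 4 ∧ Disjoint t s ∧ t ∪ s ∈ octads) := by
  constructor
  · rintro ⟨hs, hc⟩
    have h1 := card_symmDiff_add t s
    have h2 := card_of_mem_G hc
    have h3 : (symmDiff t s).card = 0 ∨ (symmDiff t s).card = 8 := by omega
    rcases h3 with h3 | h3
    · left
      rw [Finset.card_eq_zero] at h3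
      exact (symmDiff_eq_bot.1 h3).symm
    · right
      have h4 : s.card = 4 := by omega
      have h5 : (t ∩ s).card = 0 := by omega
      have h6 : Disjoint t s := by
        rw [Finset.disjoint_iff_inter_eq_empty]; exact Finset.card_eq_zero.1 h5
      refine ⟨h4, h6, ?_⟩
      have h7 : symmDiff t s = t ∪ s := h6.symmDiff_eq_sup
      rw [← h7]
      exact ⟨hc, h3⟩
  · rintro (rfl | ⟨h4, h6, ho⟩)
    · refine ⟨le_of_eq ht, ?_⟩
      rw [symmDiff_self]; exact empty_mem
    · refine ⟨le_of_eq h4, ?_⟩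
      have h7 : symmDiff t s = t ∪ s := h6.symmDiff_eq_sup
      rw [h7]; exact ho.1

theorem smul_mem_G_iff {g : Equiv.Perm GolayPt} (hg : g ∈ M24) (c : Finset GolayPt) :
    g • c ∈ 𝒢 ↔ c ∈ 𝒢 := by
  constructor
  · intro h
    have := smul_mem_of_mem_M24 (M24.inv_mem hg) h
    rwa [inv_smul_smul] at this
  · exact smul_mem_of_mem_M24 hg

theorem smul_mem_leaders_iff {g : Equiv.Perm GolayPt} (hg : g ∈ M24) (t s : Finset GolayPt) :
    g • s ∈ leaders (g • t) ↔ s ∈ leaders t := by
  unfold leaders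
  simp only [Set.mem_ofPred_eq, Finset.card_smul_finset]
  rw [← Finset.smul_finset_symmDiff, smul_mem_G_iff hg]

/-- masks of the standard sextet -/
def S0m : List ℕ := [15, 5264, 622848, 3416064, 4196928, 8536096]

set_option maxRecDepth 1000000 in
theorem O5_sdiff : ∀ n ∈ O5, maskSet n \ maskSet 15 = maskSet (n - 15) ∧ (n - 15) ∈ S0m := by
  decide +kernel

set_option maxRecDepth 1000000 in
theorem S0m_tail : ∀ m ∈ S0m.tail, (maskSet m).card = 4 ∧ Disjoint (maskSet 15) (maskSet m) ∧
    IsOctadMask (m + 15) ∧ maskSet 15 ∪ maskSet m = maskSet (m + 15) := by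
  decide +kernel

theorem leaders_std : leaders (Fset 4) = maskSet '' {m | m ∈ S0m} := by
  ext s
  rw [mem_leaders_iff card_Fset4]
  constructor
  · rintro (rfl | ⟨h4, h6, ho⟩)
    · exact ⟨15, by decide, Fset4_eq.symm⟩
    · obtain ⟨n, hn, hn8, hn'⟩ := octad_eq_maskSet ho
      have hO5 : n ∈ O5 := by
        rw [← O5_eq, List.mem_filter]
        refine ⟨hn, ?_⟩
        simp only [decide_eq_true_eq]
        refine ⟨hn8, ?_⟩
        apply maskSet_inj (lt_of_le_of_lt Nat.and_le_left (by decide)) (by decide)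
        rw [maskSet_and, ← Fset4_eq, ← hn']
        exact Finset.inter_eq_left.2 Finset.subset_union_left
      obtain ⟨h1, h2⟩ := O5_sdiff n hO5
      refine ⟨n - 15, h2, ?_⟩
      rw [← h1, ← hn', ← Fset4_eq, Finset.union_sdiff_cancel_left h6]
  · rintro ⟨m, hm, rfl⟩
    have hm0 : m ∈ S0m := hm
    have hall : ∀ m ∈ S0m, m = 15 ∨ m ∈ S0m.tail := by decide
    have hm' : m = 15 ∨ m ∈ S0m.tail := hall m hm0
    rcases hm' with rfl | hm'
    · left; exact Fset4_eq.symm
    · right
      obtain ⟨h1, h2, h3, h4⟩ := S0m_tail m hm'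
      rw [Fset4_eq]
      refine ⟨h1, h2, ?_⟩
      rw [h4]; exact maskSet_mem_octads h3

theorem ncard_leaders_std : (leaders (Fset 4)).ncard = 6 := by
  rw [leaders_std, Set.InjOn.ncard_image]
  · rw [← List.coe_toFinset, Set.ncard_coe_finset]
    decide
  · intro a ha b hb hab
    have hlt : ∀ m ∈ S0m, m < 2 ^ 24 := by decide
    exact maskSet_inj (hlt a ha) (hlt b hb) hab

theorem leaders_smul {g : Equiv.Perm GolayPt} (hg : g ∈ M24) (t : Finset GolayPt) :
    leaders (g • t) = (fun s => g • s) '' leaders t := by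
  ext s
  constructor
  · intro hs
    refine ⟨g⁻¹ • s, ?_, smul_inv_smul g s⟩
    rw [← smul_mem_leaders_iff hg, smul_inv_smul]
    exact hs
  · rintro ⟨s', hs', rfl⟩
    exact (smul_mem_leaders_iff hg t s').2 hs'

theorem ncard_leaders {t : Finset GolayPt} (ht : t.card = 4) : (leaders t).ncard = 6 := by
  obtain ⟨g, hg, rfl⟩ := exists_map_tetrad ht
  rw [leaders_smul hg, Set.InjOn.ncard_image, ncard_leaders_std]
  intro a _ b _ hab
  exact smul_left_cancel g hab

theorem card_of_mem_leaders {t s : Finset GolayPt} (ht : t.card = 4) (hs : s ∈ leaders t) :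
    s.card = 4 := by
  rcases (mem_leaders_iff ht).1 hs with rfl | ⟨h, _, _⟩
  · exact ht
  · exact h

/-- a sextet through `t` is the set of leaders of `t` -/
theorem sextet_eq_leaders {S : Finset (Finset GolayPt)} (hS : S ∈ sextets) {t : Finset GolayPt}
    (ht : t ∈ S) : (S : Set (Finset GolayPt)) = leaders t := by
  obtain ⟨h6, h4, hu⟩ := hS
  have ht4 := h4 t ht
  apply Set.eq_of_subset_of_ncard_le
  · intro u hu'
    rw [Finset.mem_coe] at hu'
    rw [mem_leaders_iff ht4]
    by_cases hut : u = t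
    · left; exact hut
    · right
      have ho := hu t ht u hu' (Ne.symm hut)
      refine ⟨h4 u hu', ?_, ho⟩
      have h8 : (t ∪ u).card = 8 := ho.2
      have := Finset.card_union_add_card_inter t u
      rw [Finset.disjoint_iff_inter_eq_empty, ← Finset.card_eq_zero]
      have h4u := h4 u hu'
      omega
  · rw [ncard_leaders ht4, Set.ncard_coe_finset, h6]
  · exact Set.toFinite _

set_option maxRecDepth 1000000 in
theorem S0m_pairs : ∀ a ∈ S0m, ∀ b ∈ S0m, a ≠ b →
    IsOctadMask (a + b) ∧ maskSet a ∪ maskSet b = maskSet (a + b) := by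
  decide +kernel

theorem smul_mem_sextets {g : Equiv.Perm GolayPt} (hg : g ∈ M24) {S : Finset (Finset GolayPt)}
    (hS : S ∈ sextets) : g • S ∈ sextets := by
  obtain ⟨h6, h4, hu⟩ := hS
  refine ⟨?_, ?_, ?_⟩
  · rw [Finset.card_smul_finset, h6]
  · intro t ht
    obtain ⟨t', ht', rfl⟩ := Finset.mem_smul_finset.1 ht
    show (g • t').card = 4
    rw [Finset.card_smul_finset]; exact h4 t' ht'
  · intro t ht u hu' hne
    obtain ⟨t', ht', rfl⟩ := Finset.mem_smul_finset.1 ht
    obtain ⟨u', hu'', rfl⟩ := Finset.mem_smul_finset.1 hu'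
    show g • t' ∪ g • u' ∈ octads
    rw [← Finset.smul_finset_union]
    apply smul_mem_octads hg
    exact hu t' ht' u' hu'' (fun h => hne (by rw [h]))

/-- the standard sextet -/
def S0 : Finset (Finset GolayPt) := (S0m.map maskSet).toFinset

theorem coe_S0 : (S0 : Set (Finset GolayPt)) = leaders (Fset 4) := by
  rw [leaders_std]
  ext s
  simp [S0]

theorem S0_mem_sextets : S0 ∈ sextets := by
  refine ⟨?_, ?_, ?_⟩
  · rw [← Set.ncard_coe_finset, coe_S0, ncard_leaders_std]
  · intro t ht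
    have : t ∈ (S0 : Set (Finset GolayPt)) := ht
    rw [coe_S0] at this
    exact card_of_mem_leaders card_Fset4 this
  · intro t ht u hu hne
    simp only [S0, List.mem_toFinset, List.mem_map] at ht hu
    obtain ⟨a, ha, rfl⟩ := ht
    obtain ⟨b, hb, rfl⟩ := hu
    have hab : a ≠ b := fun h => hne (by rw [h])
    obtain ⟨h1, h2⟩ := S0m_pairs a ha b hb hab
    rw [h2]; exact maskSet_mem_octads h1

theorem Fset4_mem_S0 : Fset 4 ∈ S0 := by
  have : Fset 4 ∈ (S0 : Set (Finset GolayPt)) := by
    rw [coe_S0, mem_leaders_iff card_Fset4]; left; rfl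
  exact this

/-- every tetrad lies in exactly one sextet -/
theorem existsUnique_sextet {t : Finset GolayPt} (ht : t.card = 4) :
    ∃! S : Finset (Finset GolayPt), S ∈ sextets ∧ t ∈ S := by
  obtain ⟨g, hg, rfl⟩ := exists_map_tetrad ht
  refine ⟨g • S0, ⟨smul_mem_sextets hg S0_mem_sextets, Finset.smul_mem_smul_finset Fset4_mem_S0⟩, ?_⟩
  rintro S ⟨hS, htS⟩
  apply Finset.coe_injective
  rw [sextet_eq_leaders hS htS,
    sextet_eq_leaders (smul_mem_sextets hg S0_mem_sextets) (Finset.smul_mem_smul_finset Fset4_mem_S0)]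

end Cfsg.Agent.Lib.Helper1_Chain
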