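import Mathlib
import Cfsg.Agent.Lib.Helper1_Sextets
set_option autoImplicit false
open Cfsg
open scoped Pointwise
namespace Cfsg.Agent.Lib.Helper1_Chain
open Cfsg.Agent.Lib.Helper1_Golay

local notation "𝒢" => supports (golayCode : Set (GolayPt → ZMod 2))

theorem sextet_disjoint {S : Finset (Finset GolayPt)} (hS : S ∈ sextets) {t u : Finset GolayPt}
    (ht : t ∈ S) (hu : u ∈ S) (hne : t ≠ u) : Disjoint t u := by
  obtain ⟨_, h4, hun⟩ := hS
  have ho := hun t ht u hu hne
  have h8 : (t ∪ u).card = 8 := ho.2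
  have := Finset.card_union_add_card_inter t u
  rw [Finset.disjoint_iff_inter_eq_empty, ← Finset.card_eq_zero]
  have h4t := h4 t ht
  have h4u := h4 u hu
  omega

theorem sextet_cover {S : Finset (Finset GolayPt)} (hS : S ∈ sextets) (x : GolayPt) :
    ∃ t ∈ S, x ∈ t := by
  have hdis : (S : Set (Finset GolayPt)).PairwiseDisjoint id := by
    intro t ht u hu hne
    exact sextet_disjoint hS ht hu hne
  have hcard : (S.biUnion id).card = 24 := by
    rw [Finset.card_biUnion hdis]
    have : ∀ t ∈ S, (id t : Finset GolayPt).card = 4 := fun t ht => hS.2.1 t ht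
    rw [Finset.sum_congr rfl this, Finset.sum_const, hS.1]
    rfl
  have huniv : S.biUnion id = Finset.univ := by
    apply Finset.eq_univ_of_card
    rw [hcard]; decide
  have hx : x ∈ S.biUnion id := by rw [huniv]; exact Finset.mem_univ x
  rw [Finset.mem_biUnion] at hx
  obtain ⟨t, ht, hxt⟩ := hx
  exact ⟨t, ht, hxt⟩

theorem sextet_tet_unique {S : Finset (Finset GolayPt)} (hS : S ∈ sextets) {t u : Finset GolayPt}
    (ht : t ∈ S) (hu : u ∈ S) {x : GolayPt} (hxt : x ∈ t) (hxu : x ∈ u) : t = u := by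
  by_contra hne
  have := sextet_disjoint hS ht hu hne
  rw [Finset.disjoint_left] at this
  exact this hxt hxu

theorem sextet_ext {S S' : Finset (Finset GolayPt)} (hS : S ∈ sextets) (hS' : S' ∈ sextets)
    {t : Finset GolayPt} (ht : t ∈ S) (ht' : t ∈ S') : S = S' :=
  (existsUnique_sextet (hS.2.1 t ht)).unique ⟨hS, ht⟩ ⟨hS', ht'⟩

theorem octad_sdiff_mem {S : Finset (Finset GolayPt)} (hS : S ∈ sextets) {t : Finset GolayPt}
    (ht : t ∈ S) {o : Finset GolayPt} (ho : o ∈ octads) (hto : t ⊆ o) : o \ t ∈ S := by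
  have h4 := hS.2.1 t ht
  have : o \ t ∈ (S : Set (Finset GolayPt)) := by
    rw [sextet_eq_leaders hS ht, mem_leaders_iff h4]
    right
    refine ⟨?_, Finset.disjoint_sdiff, ?_⟩
    · rw [Finset.card_sdiff_of_subset hto, ho.2, h4]
    · rw [Finset.union_sdiff_of_subset hto]; exact ho
  exact this

/-- two points of different tetrads never lie in an octad containing a third tetrad... :
if an octad contains a tetrad `t` of `S` and two further points, these lie in one tetrad -/
theorem same_tet_of_octad {S : Finset (Finset GolayPt)} (hS : S ∈ sextets) {t : Finset GolayPt}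
    (ht : t ∈ S) {o : Finset GolayPt} (ho : o ∈ octads) (hto : t ⊆ o) {b c : GolayPt}
    (hb : b ∈ o) (hc : c ∈ o) (hbt : b ∉ t) (hct : c ∉ t) :
    ∃ u ∈ S, b ∈ u ∧ c ∈ u :=
  ⟨o \ t, octad_sdiff_mem hS ht ho hto, Finset.mem_sdiff.2 ⟨hb, hbt⟩, Finset.mem_sdiff.2 ⟨hc, hct⟩⟩

/-- the image of a sextet is determined by the image of one tetrad -/
theorem smul_sextet_eq {g : Equiv.Perm GolayPt} (hg : g ∈ M24) {S S' : Finset (Finset GolayPt)}
    (hS : S ∈ sextets) (hS' : S' ∈ sextets) {t : Finset GolayPt} (ht : t ∈ S) (ht' : g • t ∈ S') :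
    g • S = S' :=
  sextet_ext (smul_mem_sextets hg hS) hS' (Finset.smul_mem_smul_finset ht) ht'

end Cfsg.Agent.Lib.Helper1_Chain
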