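import Mathlib
import Cfsg.Agent.Lib.Helper1_Sextets2
import Cfsg.Agent.Lib.Helper1_Maximal
import Cfsg.Agent.Lib.Helper1_M12
import Cfsg.Agent.S1550
set_option autoImplicit false
open Cfsg
open scoped Pointwise
namespace Cfsg.Agent.Lib.Helper1_Chain
open Cfsg.Agent.Lib.Helper1_Golay Cfsg.Agent.Lib.Helper1_Maximal

theorem sextet_nonempty {S : Finset (Finset GolayPt)} (hS : S ∈ sextets) : ∃ t, t ∈ S := by
  have : 0 < S.card := by rw [hS.1]; decide
  exact Finset.card_pos.1 this

theorem tetrad_trans {t t' : Finset GolayPt} (ht : t.card = 4) (ht' : t'.card = 4) :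
    ∃ g ∈ M24, g • t = t' := by
  obtain ⟨g1, hg1, h1⟩ := exists_map_tetrad ht
  obtain ⟨g2, hg2, h2⟩ := exists_map_tetrad ht'
  refine ⟨g2 * g1⁻¹, M24.mul_mem hg2 (M24.inv_mem hg1), ?_⟩
  rw [mul_smul, ← h1, inv_smul_smul, h2]

theorem sextet_trans {S S' : Finset (Finset GolayPt)} (hS : S ∈ sextets) (hS' : S' ∈ sextets) :
    ∃ g ∈ M24, g • S = S' := by
  obtain ⟨t, ht⟩ := sextet_nonempty hS
  obtain ⟨t', ht'⟩ := sextet_nonempty hS'
  obtain ⟨g, hg, hgt⟩ := tetrad_trans (hS.2.1 t ht) (hS'.2.1 t' ht')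
  exact ⟨g, hg, smul_sextet_eq hg hS hS' ht (hgt ▸ ht')⟩

theorem orbit_M24_sextet {S : Finset (Finset GolayPt)} (hS : S ∈ sextets) :
    MulAction.orbit M24 S = sextets := by
  ext y
  constructor
  · rintro ⟨g, rfl⟩
    exact smul_mem_sextets g.2 hS
  · intro hy
    obtain ⟨g, hg, hgy⟩ := sextet_trans hS hy
    exact ⟨⟨g, hg⟩, hgy⟩

theorem card_stabilizer_sextet {S : Finset (Finset GolayPt)} (hS : S ∈ sextets) :
    Nat.card (MulAction.stabilizer M24 S) = 138240 := by
  have h := card_eq_orbit_mul_stabilizer (G := M24) S ⊤ le_top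
  rw [orbit_top_eq, orbit_M24_sextet hS, Cfsg.Agent.S1550.ncard_sextets] at h
  have h2 : Nat.card (⊤ : Subgroup M24) = 244823040 := by
    rw [Subgroup.card_top]; exact card_M24
  rw [h2] at h
  omega

/-- the stabilizer of a sextet is doubly transitive on its tetrads -/
theorem sextet_two_trans {S : Finset (Finset GolayPt)} (hS : S ∈ sextets)
    {t u t' u' : Finset GolayPt} (ht : t ∈ S) (hu : u ∈ S) (ht' : t' ∈ S) (hu' : u' ∈ S)
    (hne : t ≠ u) (hne' : t' ≠ u') : ∃ g ∈ M24, g • S = S ∧ g • t = t' ∧ g • u = u' := by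
  classical
  have ho : t ∪ u ∈ octads := hS.2.2 t ht u hu hne
  have ho' : t' ∪ u' ∈ octads := hS.2.2 t' ht' u' hu' hne'
  have hdis := sextet_disjoint hS ht hu hne
  have hdis' := sextet_disjoint hS ht' hu' hne'
  obtain ⟨e, he⟩ : ∃ e, e ∈ u := by
    have : 0 < u.card := by rw [hS.2.1 u hu]; decide
    exact Finset.card_pos.1 this
  obtain ⟨e', he'⟩ : ∃ e', e' ∈ u' := by
    have : 0 < u'.card := by rw [hS.2.1 u' hu']; decide
    exact Finset.card_pos.1 this
  have het : e ∉ t := fun h => (Finset.disjoint_left.1 hdis) h he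
  have het' : e' ∉ t' := fun h => (Finset.disjoint_left.1 hdis') h he'
  have hnd : (t.toList ++ [e]).Nodup := by
    rw [List.nodup_append]
    refine ⟨Finset.nodup_toList _, List.nodup_singleton _, ?_⟩
    intro a ha b hb hab
    rw [List.mem_singleton] at hb
    rw [Finset.mem_toList] at ha
    subst hb; subst hab
    exact het ha
  have hnd' : (t'.toList ++ [e']).Nodup := by
    rw [List.nodup_append]
    refine ⟨Finset.nodup_toList _, List.nodup_singleton _, ?_⟩
    intro a ha b hb hab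
    rw [List.mem_singleton] at hb
    rw [Finset.mem_toList] at ha
    subst hb; subst hab
    exact het' ha
  have hlen : (t.toList ++ [e]).length = 5 := by
    rw [List.length_append, Finset.length_toList, hS.2.1 t ht]; rfl
  have hlen' : (t'.toList ++ [e']).length = 5 := by
    rw [List.length_append, Finset.length_toList, hS.2.1 t' ht']; rfl
  obtain ⟨g, hg, hgl⟩ := exists_map_lists hnd hnd' (by rw [hlen, hlen']) (by rw [hlen])
  rw [List.map_append] at hgl
  have e1 := List.append_inj hgl (by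
    rw [List.length_map, Finset.length_toList, Finset.length_toList, hS.2.1 t ht, hS.2.1 t' ht'])
  have hgt : g • t = t' := by
    rw [smul_toFinset_toList, e1.1, Finset.toList_toFinset]
  have hge : g e = e' := by
    have := e1.2
    simp only [List.map_cons, List.map_nil, List.cons.injEq, and_true] at this
    exact this
  have hgo : g • (t ∪ u) = t' ∪ u' := by
    apply octads_inter_lt (smul_mem_octads hg ho) ho'
    have hsub : insert e' t' ⊆ g • (t ∪ u) ∩ (t' ∪ u') := by
      intro x hx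
      rw [Finset.mem_insert] at hx
      rw [Finset.mem_inter]
      rcases hx with rfl | hx
      · refine ⟨?_, Finset.mem_union_right _ he'⟩
        rw [← hge]
        exact Finset.smul_mem_smul_finset (a := g) (Finset.mem_union_right _ he)
      · refine ⟨?_, Finset.mem_union_left _ hx⟩
        rw [Finset.smul_finset_union, hgt]
        exact Finset.mem_union_left _ hx
    have := Finset.card_le_card hsub
    rw [Finset.card_insert_of_notMem het', hS.2.1 t' ht'] at this
    exact this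
  have hgu : g • u = u' := by
    have h1 : u = (t ∪ u) \ t := by
      rw [Finset.union_sdiff_cancel_left hdis]
    have h2 : u' = (t' ∪ u') \ t' := by
      rw [Finset.union_sdiff_cancel_left hdis']
    rw [h1, Finset.smul_finset_sdiff, hgo, hgt, ← h2]
  exact ⟨g, hg, smul_sextet_eq hg hS hS ht (hgt ▸ ht'), hgt, hgu⟩

/-- an element of the stabilizer of the standard sextet interchanging two tetrads -/
def tau0 : List ℕ := [7, 4, 12, 10, 0, 14, 11, 1, 16, 9, 2, 6, 3, 13, 23, 19, 15, 5, 18, 8, 21, 20, 22, 17]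

set_option maxRecDepth 1000000 in
theorem tau0_good : GoodTable tau0 := by decide +kernel

set_option maxRecDepth 1000000 in
theorem tau0_act : (∀ p, (15 : ℕ).testBit (idx p) = (5264 : ℕ).testBit (idx (tfun tau0 p))) ∧
    (∀ p, (5264 : ℕ).testBit (idx p) = (15 : ℕ).testBit (idx (tfun tau0 p))) ∧
    ∀ m ∈ [622848, 3416064, 4196928, 8536096], ∀ p, m.testBit (idx p) = m.testBit (idx (tfun tau0 p)) := by
  decide +kernel

theorem mem_S0_iff (v : Finset GolayPt) : v ∈ S0 ↔ ∃ m ∈ S0m, maskSet m = v := by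
  simp [S0]

theorem swap_std : ∃ σ ∈ M24, σ • maskSet 15 = maskSet 5264 ∧ σ • maskSet 5264 = maskSet 15 ∧
    ∀ v ∈ S0, v ≠ maskSet 15 → v ≠ maskSet 5264 → σ • v = v := by
  obtain ⟨σ, hσ, hσt⟩ := exists_perm_of_good tau0_good
  obtain ⟨h1, h2, h3⟩ := tau0_act
  refine ⟨σ, hσ, smul_maskSet_of_table hσt h1, smul_maskSet_of_table hσt h2, ?_⟩
  intro v hv hv1 hv2
  rw [mem_S0_iff] at hv
  obtain ⟨m, hm, rfl⟩ := hv
  have hm' : m = 15 ∨ m = 5264 ∨ m ∈ [622848, 3416064, 4196928, 8536096] := by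
    revert m; decide
  rcases hm' with rfl | rfl | hm'
  · exact absurd rfl hv1
  · exact absurd rfl hv2
  · exact smul_maskSet_of_table hσt (h3 m hm')

/-- in the stabilizer of any sextet, any two tetrads can be interchanged fixing the others -/
theorem swap_general {S : Finset (Finset GolayPt)} (hS : S ∈ sextets) {t u : Finset GolayPt}
    (ht : t ∈ S) (hu : u ∈ S) (hne : t ≠ u) :
    ∃ g ∈ M24, g • S = S ∧ g • t = u ∧ g • u = t ∧ ∀ v ∈ S, v ≠ t → v ≠ u → g • v = v := by
  obtain ⟨g', hg', hg't⟩ := exists_map_tetrad (hS.2.1 t ht)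
  have hg'S : g' • S0 = S := smul_sextet_eq hg' S0_mem_sextets hS Fset4_mem_S0 (hg't ▸ ht)
  have hu0 : g'⁻¹ • u ∈ S0 := by
    rw [← hg'S] at hu
    rw [← Finset.smul_mem_smul_finset_iff g', smul_inv_smul]
    exact hu
  have hu0ne : Fset 4 ≠ g'⁻¹ • u := by
    intro h
    apply hne
    rw [← hg't, h, smul_inv_smul]
  have h5264 : maskSet 5264 ∈ S0 := (mem_S0_iff _).2 ⟨5264, by decide, rfl⟩
  have hne0 : Fset 4 ≠ maskSet 5264 := by
    rw [Fset4_eq]
    intro h
    have := maskSet_inj (by decide) (by decide) h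
    exact absurd this (by decide)
  obtain ⟨g2, hg2, hg2S, hg2t, hg2u⟩ := sextet_two_trans S0_mem_sextets Fset4_mem_S0 h5264
    Fset4_mem_S0 hu0 hne0 hu0ne
  obtain ⟨σ, hσ, hσ1, hσ2, hσ3⟩ := swap_std
  obtain ⟨g1, hg1d⟩ : ∃ g1, g1 = g' * g2 := ⟨_, rfl⟩
  have hg1 : g1 ∈ M24 := by rw [hg1d]; exact M24.mul_mem hg' hg2
  have hg1S : g1 • S0 = S := by rw [hg1d, mul_smul, hg2S, hg'S]
  have hg1t : g1 • maskSet 15 = t := by rw [hg1d, mul_smul, ← Fset4_eq, hg2t, hg't]
  have hg1u : g1 • maskSet 5264 = u := by rw [hg1d, mul_smul, hg2u, smul_inv_smul]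
  have hinv_t : g1⁻¹ • t = maskSet 15 := by rw [← hg1t, inv_smul_smul]
  have hinv_u : g1⁻¹ • u = maskSet 5264 := by rw [← hg1u, inv_smul_smul]
  refine ⟨g1 * σ * g1⁻¹, M24.mul_mem (M24.mul_mem hg1 hσ) (M24.inv_mem hg1), ?_, ?_, ?_, ?_⟩
  · apply smul_sextet_eq (M24.mul_mem (M24.mul_mem hg1 hσ) (M24.inv_mem hg1)) hS hS ht
    rw [mul_smul, mul_smul, hinv_t, hσ1, hg1u]; exact hu
  · rw [mul_smul, mul_smul, hinv_t, hσ1, hg1u]
  · rw [mul_smul, mul_smul, hinv_u, hσ2, hg1t]
  · intro v hv hvt hvu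
    have hv0 : g1⁻¹ • v ∈ S0 := by
      rw [← hg1S] at hv
      rw [← Finset.smul_mem_smul_finset_iff g1, smul_inv_smul]
      exact hv
    have h1 : g1⁻¹ • v ≠ maskSet 15 := by
      intro h; apply hvt; rw [← hg1t, ← h, smul_inv_smul]
    have h2 : g1⁻¹ • v ≠ maskSet 5264 := by
      intro h; apply hvu; rw [← hg1u, ← h, smul_inv_smul]
    rw [mul_smul, mul_smul, hσ3 _ hv0 h1 h2, smul_inv_smul]

end Cfsg.Agent.Lib.Helper1_Chain
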