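import Mathlib
import Cfsg.Agent.Lib.Helper1_OrbitCert
import Cfsg.Agent.S1557
set_option autoImplicit false
open Cfsg
open scoped Pointwise
namespace Cfsg.Agent.Lib.Helper1_Cert
open Cfsg.Agent.Lib.Helper1_Golay Cfsg.Agent.Lib.Helper1_Chain Cfsg.Agent.S1557

theorem smul_mem_trios {g : Equiv.Perm GolayPt} (hg : g ∈ M24) {T : Finset (Finset GolayPt)}
    (hT : T ∈ trios) : g • T ∈ trios := by
  obtain ⟨h3, h8, hd⟩ := hT
  refine ⟨by rw [Finset.card_smul_finset, h3], ?_, ?_⟩
  · intro o ho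
    obtain ⟨o', ho', rfl⟩ := Finset.mem_smul_finset.1 ho
    exact smul_mem_octads hg (h8 o' ho')
  · intro o ho u hu hne
    obtain ⟨o', ho', rfl⟩ := Finset.mem_smul_finset.1 ho
    obtain ⟨u', hu', rfl⟩ := Finset.mem_smul_finset.1 hu
    have hne' : o' ≠ u' := by rintro rfl; exact hne rfl
    have := hd o' ho' u' hu' hne'
    rw [Finset.disjoint_iff_inter_eq_empty] at this ⊢
    show g • o' ∩ g • u' = ∅
    rw [← Finset.smul_finset_inter, this, Finset.smul_finset_empty]

/-- the standard trio -/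
def T0m : List ℕ := [5279, 1009728, 15762208]

/-- the standard trio -/
def T0 : Finset (Finset GolayPt) := mset T0m

set_option maxRecDepth 1000000 in
theorem T0m_trio : TrioL T0m := by decide +kernel

theorem T0_mem_trios : T0 ∈ trios := mset_mem_trios T0m_trio

theorem trio_trans {T : Finset (Finset GolayPt)} (hT : T ∈ trios) : ∃ g ∈ M24, g • T0 = T := by
  obtain ⟨a, b, c, hab, hac, hbc, rfl⟩ := Finset.card_eq_three.1 hT.1
  have ha : a ∈ ({a, b, c} : Finset (Finset GolayPt)) := by simp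
  have hb : b ∈ ({a, b, c} : Finset (Finset GolayPt)) := by simp
  have hao := hT.2.1 a ha
  have hbo := hT.2.1 b hb
  have hdis := hT.2.2 a ha b hb hab
  have h0 : (a ∩ b).card = 0 := by
    rw [Finset.card_eq_zero, ← Finset.disjoint_iff_inter_eq_empty]; exact hdis
  obtain ⟨g, hg, hga, hgb⟩ := octad_pair_std hao hbo (k := 0) (by simp) h0
  refine ⟨g, hg, ?_⟩
  have hgT := smul_mem_trios hg T0_mem_trios
  have h1 : a ∈ g • T0 := by
    rw [← hga]
    exact Finset.smul_mem_smul_finset (mem_mset.2 ⟨5279, by simp [T0m], rfl⟩)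
  have h2 : b ∈ g • T0 := by
    rw [← hgb]
    exact Finset.smul_mem_smul_finset (mem_mset.2 ⟨1009728, by simp [T0m], rfl⟩)
  rw [← third_eq hgT h1 h2 hab, third_eq hT ha hb hab]

theorem orbit_M24_trio {T : Finset (Finset GolayPt)} (hT : T ∈ trios) :
    MulAction.orbit M24 T = trios := by
  ext y
  constructor
  · rintro ⟨g, rfl⟩
    exact smul_mem_trios g.2 hT
  · intro hy
    obtain ⟨g, hg, rfl⟩ := trio_trans hT
    obtain ⟨g', hg', rfl⟩ := trio_trans hy
    exact ⟨⟨g' * g⁻¹, M24.mul_mem hg' (M24.inv_mem hg)⟩, by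
      show (g' * g⁻¹) • g • T0 = g' • T0
      rw [mul_smul, inv_smul_smul]⟩

end Cfsg.Agent.Lib.Helper1_Cert
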