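import Mathlib
import Cfsg.Agent.Lib.Helper1_OrbitCert
set_option autoImplicit false
open Cfsg
open scoped Pointwise
namespace Cfsg.Agent.Lib.Helper1_OC_OT
open Cfsg.Agent.Lib.Helper1_Golay Cfsg.Agent.Lib.Helper1_Chain Cfsg.Agent.Lib.Helper1_Cert

/-- generators of a subgroup of the joint stabilizer of the standard octad and trio -/
def gens : List (List ℕ) := [[3, 4, 2, 1, 7, 6, 8, 12, 17, 11, 0, 5, 10, 22, 15, 16, 9, 23, 21, 20, 14, 19, 13, 18], [2, 0, 4, 12, 1, 22, 19, 10, 5, 23, 3, 14, 7, 11, 18, 8, 17, 6, 13, 16, 9, 20, 15, 21]]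

/-- the family encoding the standard octad and trio -/
def x0 : List ℕ := [5279, 1015007, 15767487]

/-- the 14 other trios through the standard octad -/
def c1 : Cls := (2, [[
  ([5279,1256224,15515712],0,0,0,0),
  ([5279,1852256,14919680],0,6,6,0),
  ([5279,2220640,14551296],0,8,5,0),
  ([5279,3050016,13721920],0,9,5,0),
  ([5279,3328320,13443616],0,1,7,0),
  ([5279,4038912,12733024],0,0,1,0),
  ([5279,4645632,12126304],0,8,5,1),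
  ([5279,4819776,11952160],0,9,5,1),
  ([5279,5621792,11150144],0,10,4,0),
  ([5279,5939296,10832640],0,10,4,1),
  ([5279,6750560,10021376],0,13,3,0),
  ([5279,6842656,9929280],0,13,3,1),
  ([5279,7612992,9158944],0,7,6,1),
  ([5279,8077824,8694112],0,5,2,0)
  ]])

/-- the pointwise stabilizer of the standard octad -/
def P16 : List (List ℕ) := [
  [0, 1, 2, 3, 4, 5, 6, 7, 8, 9, 10, 11, 12, 13, 14, 15, 16, 17, 18, 19, 20, 21, 22, 23],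
  [0, 1, 2, 3, 4, 6, 5, 7, 18, 14, 10, 23, 12, 15, 9, 13, 21, 22, 8, 20, 19, 16, 17, 11],
  [0, 1, 2, 3, 4, 8, 18, 7, 5, 20, 10, 13, 12, 11, 19, 23, 17, 16, 6, 14, 9, 22, 21, 15],
  [0, 1, 2, 3, 4, 9, 14, 7, 20, 5, 10, 17, 12, 16, 6, 21, 13, 11, 19, 18, 8, 15, 23, 22],
  [0, 1, 2, 3, 4, 11, 23, 7, 13, 17, 10, 5, 12, 8, 22, 18, 20, 9, 15, 21, 16, 19, 14, 6],
  [0, 1, 2, 3, 4, 13, 15, 7, 11, 16, 10, 8, 12, 5, 21, 6, 9, 20, 23, 22, 17, 14, 19, 18],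
  [0, 1, 2, 3, 4, 14, 9, 7, 19, 6, 10, 22, 12, 21, 5, 16, 15, 23, 20, 8, 18, 13, 11, 17],
  [0, 1, 2, 3, 4, 15, 13, 7, 23, 21, 10, 18, 12, 6, 16, 5, 14, 19, 11, 17, 22, 9, 20, 8],
  [0, 1, 2, 3, 4, 16, 21, 7, 17, 13, 10, 20, 12, 9, 15, 14, 5, 8, 22, 23, 11, 6, 18, 19],
  [0, 1, 2, 3, 4, 17, 22, 7, 16, 11, 10, 9, 12, 20, 23, 19, 8, 5, 21, 15, 13, 18, 6, 14],
  [0, 1, 2, 3, 4, 18, 8, 7, 6, 19, 10, 15, 12, 23, 20, 11, 22, 21, 5, 9, 14, 17, 16, 13],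
  [0, 1, 2, 3, 4, 19, 20, 7, 14, 18, 10, 21, 12, 22, 8, 17, 23, 15, 9, 5, 6, 11, 13, 16],
  [0, 1, 2, 3, 4, 20, 19, 7, 9, 8, 10, 16, 12, 17, 18, 22, 11, 13, 14, 6, 5, 23, 15, 21],
  [0, 1, 2, 3, 4, 21, 16, 7, 22, 15, 10, 19, 12, 14, 13, 9, 6, 18, 17, 11, 23, 5, 8, 20],
  [0, 1, 2, 3, 4, 22, 17, 7, 21, 23, 10, 14, 12, 19, 11, 20, 18, 6, 16, 13, 15, 8, 5, 9],
  [0, 1, 2, 3, 4, 23, 11, 7, 15, 22, 10, 6, 12, 18, 17, 8, 19, 14, 13, 16, 21, 20, 9, 5]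
  ]

set_option maxRecDepth 1000000 in
theorem gens_ok : ∀ t ∈ gens, GoodTable t ∧ ValidTable t ∧ encF.step t x0 x0 := by decide +kernel

set_option maxRecDepth 1000000 in
theorem c1_ok : ClsOK encF x0 gens c1 := by decide +kernel

set_option maxRecDepth 1000000 in
theorem P16_good : ∀ t ∈ P16, GoodTable t ∧ ValidTable t := by decide +kernel

set_option maxRecDepth 1000000 in
theorem P16_fix : ∀ t ∈ P16, ∀ p : GolayPt, Omask.testBit (idx p) = true → tfun t p = p := by decide +kernel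

set_option maxRecDepth 1000000 in
theorem P16_trans : ∀ p : GolayPt, Omask.testBit (idx p) = false → ∃ t ∈ P16, tfun t (bpt 5) = p := by decide +kernel

end Cfsg.Agent.Lib.Helper1_OC_OT
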