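import Mathlib
import Cfsg.Agent.Lib.Helper1_Golay2
set_option autoImplicit false
open Cfsg
open scoped Pointwise
namespace Cfsg.Agent.Lib.Helper1_Golay

local notation "𝒢" => supports (golayCode : Set (GolayPt → ZMod 2))

theorem comp_mem_golay' (σ : GolayPt → GolayPt)
    (h : ∀ i, (fun p => gen i (σ p)) ∈ golayCode) {w : GolayPt → ZMod 2}
    (hw : w ∈ golayCode) : (fun p => w (σ p)) ∈ golayCode := by
  rw [golay_eq_span_gen] at hw
  induction hw using Submodule.span_induction with
  | mem v hv =>
    obtain ⟨i, rfl⟩ := hv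
    exact h i
  | zero => exact golayCode.zero_mem
  | add x y _ _ hx hy => exact golayCode.add_mem hx hy
  | smul a x _ hx => exact golayCode.smul_mem a hx

theorem mem_M24_of_comp' (σ : Equiv.Perm GolayPt)
    (h : ∀ i, (fun p => gen i (σ p)) ∈ golayCode) : σ ∈ M24 := by
  apply mem_M24_of_comp
  intro t
  exact comp_mem_golay' σ h (qrWord_mem_golay t)

set_option maxRecDepth 100000 in
theorem card_support₂_gen : ∀ i : Fin 12, (support₂ (gen i)).card = 8 := by
  decide +kernel

theorem support₂_gen_mem_octads (i : Fin 12) : support₂ (gen i) ∈ octads :=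
  ⟨⟨gen i, gen_mem i, rfl⟩, card_support₂_gen i⟩

theorem smul_mem_octads {σ : Equiv.Perm GolayPt} (hσ : σ ∈ M24) {b : Finset GolayPt}
    (hb : b ∈ octads) : σ • b ∈ octads := by
  refine ⟨smul_mem_of_mem_M24 hσ hb.1, ?_⟩
  rw [Finset.card_smul_finset]; exact hb.2

theorem M24_eq_octads_aut : M24 = setSystemAut octads := by
  apply le_antisymm
  · intro σ hσ
    rw [MulAction.mem_stabilizer_iff]
    apply Set.eq_of_subset_of_ncard_le _ _ (Set.toFinite _)
    · rintro _ ⟨b, hb, rfl⟩
      exact smul_mem_octads hσ hb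
    · rw [← Set.image_smul, Set.ncard_image_of_injective _ (MulAction.injective σ)]
  · intro σ hσ
    have hσ' : σ⁻¹ • octads = octads := MulAction.mem_stabilizer_iff.mp (inv_mem hσ)
    apply mem_M24_of_comp'
    intro i
    have h1 : σ⁻¹ • support₂ (gen i) ∈ octads := by
      rw [← hσ']
      exact Set.smul_mem_smul_set (support₂_gen_mem_octads i)
    have h2 := (mem_supports_iff _ _).mp h1.1
    have : ind (σ⁻¹ • support₂ (gen i)) = fun p => gen i (σ p) := by
      funext p
      simp only [ind, Finset.mem_inv_smul_finset_iff, Equiv.Perm.smul_def]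
      exact congrFun (ind_support₂ (gen i)) (σ p)
    rwa [this] at h2

end Cfsg.Agent.Lib.Helper1_Golay
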