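import Mathlib
import Cfsg.Agent.Lib.Helper1_M24
set_option autoImplicit false
open Cfsg
open scoped Pointwise
namespace Cfsg.Agent.Lib.Helper1_Chain

section chain
variable {X : Type*}

/-- elements of `G` fixing every point of `F` -/
def pstab (G : Subgroup (Equiv.Perm X)) (F : Finset X) : Subgroup (Equiv.Perm X) where
  carrier := {g | g ∈ G ∧ ∀ b ∈ F, g b = b}
  one_mem' := ⟨G.one_mem, fun _ _ => rfl⟩
  mul_mem' := fun {g h} hg hh => ⟨G.mul_mem hg.1 hh.1, fun b hb => by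
    rw [Equiv.Perm.mul_apply, hh.2 b hb, hg.2 b hb]⟩
  inv_mem' := fun {g} hg => ⟨G.inv_mem hg.1, fun b hb => by
    rw [Equiv.Perm.inv_eq_iff_eq]; exact (hg.2 b hb).symm⟩

theorem mem_pstab {G : Subgroup (Equiv.Perm X)} {F : Finset X} {g : Equiv.Perm X} :
    g ∈ pstab G F ↔ g ∈ G ∧ ∀ b ∈ F, g b = b := Iff.rfl

theorem pstab_empty (G : Subgroup (Equiv.Perm X)) : pstab G ∅ = G := by
  ext g
  simp [mem_pstab]

theorem card_pstab_step [DecidableEq X] (G : Subgroup (Equiv.Perm X)) (F : Finset X) (b : X)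
    (T : Finset X)
    (h1 : ∀ g ∈ pstab G F, g b ∈ T) (h2 : ∀ y ∈ T, ∃ g ∈ pstab G F, g b = y) :
    Nat.card (pstab G F) = T.card * Nat.card (pstab G (insert b F)) := by
  have e := MulAction.orbitProdStabilizerEquivGroup (pstab G F) b
  rw [← Nat.card_congr e, Nat.card_prod]
  congr 1
  · have : MulAction.orbit (pstab G F) b = (T : Set X) := by
      ext y
      constructor
      · rintro ⟨g, rfl⟩
        exact h1 g.1 g.2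
      · intro hy
        obtain ⟨g, hg, rfl⟩ := h2 y hy
        exact ⟨⟨g, hg⟩, rfl⟩
    rw [this, Nat.card_coe_set_eq, Set.ncard_coe_finset]
  · apply Nat.card_congr
    refine ⟨fun x => ⟨x.1.1, ⟨x.1.2.1, ?_⟩⟩, fun y => ⟨⟨y.1, ⟨y.2.1, ?_⟩⟩, ?_⟩, ?_, ?_⟩
    · intro b' hb'
      rcases Finset.mem_insert.mp hb' with rfl | h
      · exact x.2
      · exact x.1.2.2 b' h
    · intro b' hb'
      exact y.2.2 b' (Finset.mem_insert_of_mem hb')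
    · exact y.2.2 b (Finset.mem_insert_self b F)
    · intro x; rfl
    · intro y; rfl

theorem card_pstab_eq_one (G : Subgroup (Equiv.Perm X)) (F : Finset X)
    (h : ∀ g ∈ pstab G F, ∀ p, g p = p) : Nat.card (pstab G F) = 1 := by
  have : pstab G F = ⊥ := by
    rw [eq_bot_iff]
    intro g hg
    rw [Subgroup.mem_bot]
    exact Equiv.ext (h g hg)
  rw [this]
  exact Subgroup.card_bot

theorem apply_notMem_of_mem_pstab {G : Subgroup (Equiv.Perm X)} {F : Finset X}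
    {g : Equiv.Perm X} (hg : g ∈ pstab G F) {b : X} (hb : b ∉ F) : g b ∉ F := by
  intro h
  have := hg.2 (g b) h
  exact hb (g.injective this ▸ h)

end chain

open Cfsg.Agent.Lib.Helper1_Golay

/-- the finset of a bit mask -/
def maskSet (n : ℕ) : Finset GolayPt := Finset.univ.filter fun p => n.testBit (idx p) = true

theorem mem_maskSet {n : ℕ} {p : GolayPt} : p ∈ maskSet n ↔ n.testBit (idx p) = true := by
  simp [maskSet]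

theorem maskSet_eq_support₂ (n : ℕ) : maskSet n = support₂ (natWord n) := by
  ext p
  rw [mem_maskSet, mem_support₂]
  simp only [natWord]
  by_cases h : n.testBit (idx p) = true <;> simp [h]

theorem card_maskSet (n : ℕ) : (maskSet n).card = popc n := by
  rw [maskSet_eq_support₂, card_support₂_natWord]

theorem maskSet_and (a b : ℕ) : maskSet (a &&& b) = maskSet a ∩ maskSet b := by
  ext p
  simp only [mem_maskSet, Finset.mem_inter, Nat.testBit_and, Bool.and_eq_true]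

/-- decidable test that a bit mask is an octad -/
def IsOctadMask (n : ℕ) : Prop := (∀ p, enc (natWord n) p = natWord n p) ∧ popc n = 8

instance : DecidablePred IsOctadMask := fun n => by unfold IsOctadMask; infer_instance

theorem maskSet_mem_octads {n : ℕ} (h : IsOctadMask n) : maskSet n ∈ octads := by
  refine ⟨⟨natWord n, (mem_golay_iff_enc _).mpr (funext h.1), (maskSet_eq_support₂ n).symm⟩, ?_⟩
  rw [card_maskSet]; exact h.2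

theorem smul_octad_eq {σ : Equiv.Perm GolayPt} (hσ : σ ∈ M24) {o : Finset GolayPt}
    (ho : o ∈ octads) (F : Finset GolayPt) (hF : ∀ p ∈ F, σ p = p) (h5 : 5 ≤ (o ∩ F).card) :
    σ • o = o := by
  apply octads_inter_lt (smul_mem_octads hσ ho) ho
  apply le_trans h5 (Finset.card_le_card _)
  intro p hp
  rw [Finset.mem_inter] at hp ⊢
  refine ⟨?_, hp.1⟩
  have : σ • p ∈ σ • o := Finset.smul_mem_smul_finset hp.1
  rwa [Equiv.Perm.smul_def, hF p hp.2] at this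

theorem apply_mem_iff_of_smul_eq {σ : Equiv.Perm GolayPt} {o : Finset GolayPt}
    (h : σ • o = o) (p : GolayPt) : σ p ∈ o ↔ p ∈ o := by
  conv_lhs => rw [← h]
  rw [← Equiv.Perm.smul_def, Finset.smul_mem_smul_finset_iff]

theorem fix_step {σ : Equiv.Perm GolayPt} (hσ : σ ∈ M24) (Fm Fm' : ℕ) (L : List ℕ)
    (hF : ∀ p, Fm.testBit (idx p) = true → σ p = p)
    (hL : ∀ n ∈ L, IsOctadMask n ∧ 5 ≤ popc (n &&& Fm))
    (hstep : ∀ p, Fm'.testBit (idx p) = true → Fm.testBit (idx p) = true ∨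
      ∀ q, Fm.testBit (idx q) = false →
        (∀ n ∈ L, n.testBit (idx q) = n.testBit (idx p)) → q = p) :
    ∀ p, Fm'.testBit (idx p) = true → σ p = p := by
  intro p hp
  rcases hstep p hp with h | h
  · exact hF p h
  · by_cases hq : Fm.testBit (idx (σ p)) = true
    · exact σ.injective (hF (σ p) hq)
    · apply h (σ p) (by simpa using hq)
      intro n hn
      have hinv : σ • maskSet n = maskSet n := by
        apply smul_octad_eq hσ (maskSet_mem_octads (hL n hn).1) (maskSet Fm)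
          (fun p hp => hF p (mem_maskSet.mp hp))
        rw [← maskSet_and, card_maskSet]
        exact (hL n hn).2
      have := apply_mem_iff_of_smul_eq hinv p
      rw [mem_maskSet, mem_maskSet] at this
      exact Bool.eq_iff_iff.mpr this

/-- permutation tables: `p ↦ pt (t[idx p])` -/
def tfun (t : List ℕ) : GolayPt → GolayPt := fun p => pt (t.getD (idx p) 0)

/-- decidable test that a table gives an element of `M24` -/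
def GoodTable (t : List ℕ) : Prop :=
  Function.Injective (tfun t) ∧
    ∀ i : Fin 12, ∀ p, enc (fun q => gen i (tfun t q)) p = gen i (tfun t p)

instance : DecidablePred GoodTable := fun t => by unfold GoodTable; infer_instance

theorem exists_perm_of_good {t : List ℕ} (h : GoodTable t) :
    ∃ σ ∈ M24, ∀ p, σ p = tfun t p := by
  have hbij : Function.Bijective (tfun t) := Finite.injective_iff_bijective.mp h.1
  refine ⟨Equiv.ofBijective _ hbij, ?_, fun p => rfl⟩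
  apply mem_M24_of_comp'
  intro i
  rw [mem_golay_iff_enc]
  exact funext (h.2 i)

/-- transversal elements of a stabilizer chain of `M24` for the base `0,1,2,3,4,5,7` -/
def tables : List (List ℕ) := [
  [0, 1, 2, 3, 4, 5, 6, 7, 8, 9, 10, 11, 12, 13, 14, 15, 16, 17, 18, 19, 20, 21, 22, 23],
  [1, 2, 3, 4, 5, 6, 7, 8, 9, 10, 11, 12, 13, 14, 15, 16, 17, 18, 19, 20, 21, 22, 0, 23],
  [2, 3, 4, 5, 6, 7, 8, 9, 10, 11, 12, 13, 14, 15, 16, 17, 18, 19, 20, 21, 22, 0, 1, 23],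
  [3, 4, 5, 6, 7, 8, 9, 10, 11, 12, 13, 14, 15, 16, 17, 18, 19, 20, 21, 22, 0, 1, 2, 23],
  [4, 5, 6, 7, 8, 9, 10, 11, 12, 13, 14, 15, 16, 17, 18, 19, 20, 21, 22, 0, 1, 2, 3, 23],
  [5, 6, 7, 8, 9, 10, 11, 12, 13, 14, 15, 16, 17, 18, 19, 20, 21, 22, 0, 1, 2, 3, 4, 23],
  [6, 7, 8, 9, 10, 11, 12, 13, 14, 15, 16, 17, 18, 19, 20, 21, 22, 0, 1, 2, 3, 4, 5, 23],
  [7, 8, 9, 10, 11, 12, 13, 14, 15, 16, 17, 18, 19, 20, 21, 22, 0, 1, 2, 3, 4, 5, 6, 23],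
  [8, 9, 10, 11, 12, 13, 14, 15, 16, 17, 18, 19, 20, 21, 22, 0, 1, 2, 3, 4, 5, 6, 7, 23],
  [9, 10, 11, 12, 13, 14, 15, 16, 17, 18, 19, 20, 21, 22, 0, 1, 2, 3, 4, 5, 6, 7, 8, 23],
  [10, 11, 12, 13, 14, 15, 16, 17, 18, 19, 20, 21, 22, 0, 1, 2, 3, 4, 5, 6, 7, 8, 9, 23],
  [11, 12, 13, 14, 15, 16, 17, 18, 19, 20, 21, 22, 0, 1, 2, 3, 4, 5, 6, 7, 8, 9, 10, 23],
  [12, 13, 14, 15, 16, 17, 18, 19, 20, 21, 22, 0, 1, 2, 3, 4, 5, 6, 7, 8, 9, 10, 11, 23],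
  [13, 14, 15, 16, 17, 18, 19, 20, 21, 22, 0, 1, 2, 3, 4, 5, 6, 7, 8, 9, 10, 11, 12, 23],
  [14, 15, 16, 17, 18, 19, 20, 21, 22, 0, 1, 2, 3, 4, 5, 6, 7, 8, 9, 10, 11, 12, 13, 23],
  [15, 16, 17, 18, 19, 20, 21, 22, 0, 1, 2, 3, 4, 5, 6, 7, 8, 9, 10, 11, 12, 13, 14, 23],
  [16, 17, 18, 19, 20, 21, 22, 0, 1, 2, 3, 4, 5, 6, 7, 8, 9, 10, 11, 12, 13, 14, 15, 23],
  [17, 18, 19, 20, 21, 22, 0, 1, 2, 3, 4, 5, 6, 7, 8, 9, 10, 11, 12, 13, 14, 15, 16, 23],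
  [18, 19, 20, 21, 22, 0, 1, 2, 3, 4, 5, 6, 7, 8, 9, 10, 11, 12, 13, 14, 15, 16, 17, 23],
  [19, 20, 21, 22, 0, 1, 2, 3, 4, 5, 6, 7, 8, 9, 10, 11, 12, 13, 14, 15, 16, 17, 18, 23],
  [20, 21, 22, 0, 1, 2, 3, 4, 5, 6, 7, 8, 9, 10, 11, 12, 13, 14, 15, 16, 17, 18, 19, 23],
  [21, 22, 0, 1, 2, 3, 4, 5, 6, 7, 8, 9, 10, 11, 12, 13, 14, 15, 16, 17, 18, 19, 20, 23],
  [22, 0, 1, 2, 3, 4, 5, 6, 7, 8, 9, 10, 11, 12, 13, 14, 15, 16, 17, 18, 19, 20, 21, 23],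
  [23, 22, 11, 15, 17, 9, 19, 13, 20, 5, 16, 2, 21, 7, 18, 3, 10, 4, 14, 6, 8, 12, 1, 0],
  [0, 2, 4, 6, 8, 10, 12, 14, 16, 18, 20, 22, 1, 3, 5, 7, 9, 11, 13, 15, 17, 19, 21, 23],
  [0, 3, 6, 9, 12, 15, 18, 21, 1, 4, 7, 10, 13, 16, 19, 22, 2, 5, 8, 11, 14, 17, 20, 23],
  [0, 4, 8, 12, 16, 20, 1, 5, 9, 13, 17, 21, 2, 6, 10, 14, 18, 22, 3, 7, 11, 15, 19, 23],
  [0, 5, 8, 20, 1, 15, 21, 12, 2, 4, 9, 18, 3, 17, 10, 13, 19, 16, 7, 23, 22, 14, 11, 6],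
  [0, 6, 12, 18, 1, 7, 13, 19, 2, 8, 14, 20, 3, 9, 15, 21, 4, 10, 16, 22, 5, 11, 17, 23],
  [0, 7, 17, 2, 20, 14, 19, 18, 21, 5, 23, 10, 4, 1, 11, 16, 3, 12, 8, 22, 13, 9, 15, 6],
  [0, 8, 16, 1, 9, 17, 2, 10, 18, 3, 11, 19, 4, 12, 20, 5, 13, 21, 6, 14, 22, 7, 15, 23],
  [0, 9, 18, 4, 13, 22, 8, 17, 3, 12, 21, 7, 16, 2, 11, 20, 6, 15, 1, 10, 19, 5, 14, 23],
  [0, 10, 16, 17, 2, 7, 19, 1, 4, 8, 18, 13, 6, 11, 20, 3, 15, 9, 14, 23, 21, 5, 22, 12],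
  [0, 11, 17, 15, 19, 23, 8, 22, 6, 16, 3, 7, 14, 4, 5, 13, 10, 20, 2, 9, 1, 21, 18, 12],
  [0, 12, 1, 13, 2, 14, 3, 15, 4, 16, 5, 17, 6, 18, 7, 19, 8, 20, 9, 21, 10, 22, 11, 23],
  [0, 13, 3, 16, 6, 19, 9, 22, 12, 2, 15, 5, 18, 8, 21, 11, 1, 14, 4, 17, 7, 20, 10, 23],
  [0, 14, 18, 6, 22, 13, 1, 11, 7, 19, 10, 12, 8, 5, 2, 16, 21, 23, 4, 20, 15, 17, 3, 9],
  [0, 15, 8, 16, 14, 13, 2, 21, 11, 19, 22, 3, 4, 10, 9, 18, 17, 23, 6, 7, 5, 20, 1, 12],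
  [0, 16, 9, 2, 18, 11, 4, 20, 13, 6, 22, 15, 8, 1, 17, 10, 3, 19, 12, 5, 21, 14, 7, 23],
  [0, 17, 20, 19, 21, 23, 4, 11, 3, 8, 13, 15, 7, 2, 14, 18, 5, 10, 1, 16, 12, 22, 9, 6],
  [0, 18, 13, 8, 3, 21, 16, 11, 6, 1, 19, 14, 9, 4, 22, 17, 12, 7, 2, 20, 15, 10, 5, 23],
  [0, 19, 4, 8, 7, 18, 1, 22, 17, 21, 11, 13, 2, 5, 16, 9, 20, 23, 3, 15, 14, 10, 12, 6],
  [0, 20, 21, 4, 3, 13, 7, 14, 5, 1, 12, 9, 17, 19, 23, 11, 8, 15, 2, 18, 10, 16, 22, 6],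
  [0, 21, 3, 7, 5, 12, 17, 23, 8, 2, 10, 22, 20, 4, 13, 14, 1, 9, 19, 11, 15, 18, 16, 6],
  [0, 22, 7, 8, 21, 15, 14, 13, 19, 5, 23, 17, 18, 1, 10, 2, 4, 3, 6, 11, 12, 16, 20, 9],
  [0, 23, 15, 4, 13, 10, 9, 21, 12, 22, 6, 11, 20, 1, 16, 2, 19, 3, 5, 14, 8, 7, 18, 17],
  [0, 1, 3, 6, 21, 9, 15, 5, 23, 17, 16, 20, 4, 14, 22, 13, 8, 2, 19, 10, 12, 18, 7, 11],
  [0, 1, 4, 19, 20, 22, 17, 23, 5, 7, 11, 16, 3, 8, 10, 18, 2, 15, 21, 9, 13, 12, 14, 6],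
  [0, 1, 5, 20, 21, 22, 7, 14, 17, 2, 15, 11, 19, 3, 18, 13, 4, 23, 8, 10, 12, 9, 16, 6],
  [0, 1, 6, 18, 13, 5, 16, 11, 9, 2, 7, 17, 4, 3, 20, 21, 8, 22, 12, 15, 19, 14, 10, 23],
  [0, 1, 7, 8, 3, 22, 4, 11, 2, 5, 14, 23, 21, 20, 12, 9, 17, 16, 19, 13, 10, 18, 15, 6],
  [0, 1, 8, 4, 18, 5, 9, 22, 6, 16, 17, 10, 3, 12, 15, 20, 2, 7, 13, 14, 21, 19, 11, 23],
  [0, 1, 9, 13, 12, 5, 2, 10, 16, 8, 22, 7, 18, 4, 21, 19, 6, 11, 3, 20, 14, 15, 17, 23],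
  [0, 1, 10, 12, 18, 23, 8, 22, 20, 14, 9, 17, 13, 3, 19, 6, 11, 16, 4, 21, 7, 2, 15, 5],
  [0, 1, 11, 13, 4, 23, 2, 7, 15, 19, 6, 10, 18, 12, 21, 8, 22, 9, 3, 20, 17, 16, 14, 5],
  [0, 1, 12, 8, 20, 6, 14, 5, 23, 10, 9, 15, 3, 19, 7, 18, 2, 16, 21, 11, 13, 4, 17, 22],
  [0, 1, 13, 15, 19, 10, 22, 23, 5, 11, 17, 8, 18, 9, 7, 12, 6, 21, 14, 2, 3, 4, 20, 16],
  [0, 1, 14, 3, 13, 23, 10, 9, 11, 20, 15, 22, 4, 18, 2, 21, 8, 17, 12, 7, 19, 6, 16, 5],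
  [0, 1, 15, 4, 3, 23, 19, 14, 2, 22, 9, 6, 13, 18, 8, 17, 11, 7, 12, 21, 16, 20, 10, 5],
  [0, 1, 16, 12, 3, 5, 8, 17, 2, 6, 11, 22, 13, 18, 19, 14, 9, 10, 4, 21, 15, 20, 7, 23],
  [0, 1, 17, 21, 8, 22, 2, 16, 7, 4, 23, 15, 20, 19, 13, 12, 5, 14, 3, 18, 9, 10, 11, 6],
  [0, 1, 18, 14, 21, 11, 7, 23, 5, 22, 10, 2, 4, 6, 17, 13, 8, 20, 19, 16, 12, 3, 15, 9],
  [0, 1, 19, 12, 18, 23, 11, 6, 22, 15, 14, 7, 3, 4, 16, 20, 2, 10, 13, 17, 21, 8, 9, 5],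
  [0, 1, 20, 9, 13, 14, 15, 6, 22, 23, 16, 2, 19, 5, 11, 21, 4, 18, 12, 7, 8, 3, 10, 17],
  [0, 1, 21, 10, 12, 16, 23, 6, 22, 14, 11, 4, 20, 17, 15, 8, 5, 13, 9, 2, 3, 19, 18, 7],
  [0, 1, 22, 18, 13, 23, 15, 9, 11, 2, 10, 14, 12, 3, 20, 21, 19, 6, 4, 16, 8, 17, 7, 5],
  [0, 1, 23, 20, 21, 6, 10, 17, 14, 2, 16, 9, 8, 3, 18, 13, 12, 5, 19, 7, 4, 11, 15, 22],
  [0, 1, 2, 4, 18, 13, 11, 9, 12, 21, 5, 17, 19, 14, 23, 10, 7, 16, 20, 3, 8, 6, 15, 22],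
  [0, 1, 2, 5, 4, 3, 21, 19, 11, 10, 9, 8, 18, 13, 17, 20, 16, 14, 12, 7, 15, 6, 22, 23],
  [0, 1, 2, 6, 12, 9, 23, 13, 18, 21, 5, 7, 15, 20, 11, 10, 17, 3, 14, 16, 8, 4, 19, 22],
  [0, 1, 2, 7, 17, 23, 11, 13, 15, 5, 9, 16, 8, 12, 21, 18, 22, 6, 3, 14, 4, 10, 20, 19],
  [0, 1, 2, 8, 20, 21, 17, 14, 19, 13, 6, 9, 4, 11, 22, 15, 16, 10, 18, 3, 12, 23, 7, 5],
  [0, 1, 2, 9, 4, 12, 17, 18, 15, 7, 5, 8, 19, 22, 21, 20, 23, 14, 3, 10, 11, 6, 13, 16],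
  [0, 1, 2, 10, 11, 6, 21, 14, 15, 22, 13, 8, 19, 7, 17, 23, 20, 18, 3, 9, 4, 12, 5, 16],
  [0, 1, 2, 11, 15, 6, 14, 17, 7, 13, 21, 10, 4, 8, 22, 20, 16, 9, 12, 5, 18, 23, 19, 3],
  [0, 1, 2, 12, 18, 13, 9, 11, 4, 21, 23, 14, 8, 17, 5, 7, 10, 15, 20, 3, 19, 22, 16, 6],
  [0, 1, 2, 13, 7, 15, 16, 17, 20, 22, 9, 4, 8, 19, 5, 3, 21, 12, 14, 18, 11, 10, 23, 6],
  [0, 1, 2, 14, 8, 19, 9, 20, 7, 16, 6, 12, 4, 5, 13, 18, 22, 11, 3, 15, 17, 23, 21, 10],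
  [0, 1, 2, 15, 17, 23, 13, 11, 7, 5, 21, 12, 4, 16, 9, 22, 18, 20, 3, 14, 8, 19, 6, 10],
  [0, 1, 2, 16, 8, 4, 11, 3, 18, 20, 19, 7, 15, 21, 23, 17, 10, 13, 14, 6, 12, 9, 5, 22],
  [0, 1, 2, 17, 3, 12, 16, 5, 8, 10, 23, 6, 14, 21, 19, 9, 13, 22, 4, 7, 15, 11, 18, 20],
  [0, 1, 2, 18, 20, 17, 14, 21, 8, 22, 13, 15, 3, 5, 6, 23, 11, 10, 19, 12, 4, 9, 7, 16],
  [0, 1, 2, 19, 20, 21, 14, 17, 8, 13, 22, 11, 12, 9, 6, 16, 15, 7, 18, 3, 4, 5, 10, 23],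
  [0, 1, 2, 20, 18, 11, 9, 13, 4, 23, 21, 10, 3, 22, 5, 6, 14, 16, 12, 8, 19, 17, 15, 7],
  [0, 1, 2, 21, 18, 8, 15, 20, 7, 11, 13, 4, 3, 16, 22, 19, 6, 5, 12, 23, 14, 9, 17, 10],
  [0, 1, 2, 22, 19, 3, 13, 12, 14, 16, 17, 4, 20, 21, 11, 18, 7, 9, 8, 15, 10, 5, 23, 6],
  [0, 1, 2, 23, 14, 9, 22, 5, 7, 16, 17, 4, 3, 11, 15, 6, 19, 20, 12, 21, 18, 8, 13, 10],
  [0, 1, 2, 3, 5, 9, 8, 23, 21, 19, 14, 15, 17, 7, 22, 13, 20, 6, 4, 18, 10, 12, 16, 11],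
  [0, 1, 2, 3, 6, 14, 12, 22, 13, 4, 11, 7, 9, 16, 5, 21, 18, 23, 8, 20, 15, 19, 10, 17],
  [0, 1, 2, 3, 7, 17, 6, 4, 19, 9, 12, 11, 10, 18, 23, 16, 15, 5, 13, 8, 21, 20, 22, 14],
  [0, 1, 2, 3, 8, 6, 23, 16, 12, 14, 15, 17, 19, 21, 11, 7, 10, 9, 20, 4, 18, 13, 5, 22],
  [0, 1, 2, 3, 9, 17, 10, 11, 20, 7, 22, 4, 6, 16, 23, 18, 21, 5, 8, 13, 15, 19, 12, 14],
  [0, 1, 2, 3, 10, 14, 22, 12, 8, 11, 4, 9, 7, 18, 5, 15, 16, 23, 13, 19, 21, 20, 6, 17],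
  [0, 1, 2, 3, 11, 14, 7, 9, 20, 10, 6, 12, 22, 15, 5, 18, 21, 23, 19, 13, 16, 8, 4, 17],
  [0, 1, 2, 3, 12, 23, 22, 10, 19, 11, 7, 9, 4, 13, 17, 16, 15, 14, 18, 8, 20, 21, 6, 5],
  [0, 1, 2, 3, 13, 12, 17, 18, 9, 5, 21, 23, 20, 19, 7, 22, 11, 4, 15, 6, 8, 16, 14, 10],
  [0, 1, 2, 3, 14, 4, 13, 17, 19, 20, 5, 21, 23, 22, 10, 16, 15, 12, 6, 8, 11, 9, 18, 7],
  [0, 1, 2, 3, 15, 11, 5, 19, 12, 17, 8, 14, 16, 20, 6, 7, 10, 22, 21, 4, 13, 18, 23, 9],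
  [0, 1, 2, 3, 16, 9, 23, 8, 4, 14, 19, 17, 15, 20, 22, 10, 7, 6, 21, 12, 13, 18, 5, 11],
  [0, 1, 2, 3, 17, 11, 16, 14, 18, 15, 23, 19, 5, 7, 6, 20, 13, 22, 4, 21, 10, 12, 8, 9],
  [0, 1, 2, 3, 18, 16, 9, 13, 5, 6, 20, 22, 21, 12, 19, 14, 23, 15, 10, 17, 4, 7, 11, 8],
  [0, 1, 2, 3, 19, 22, 5, 15, 4, 17, 16, 14, 8, 21, 9, 10, 7, 11, 20, 12, 18, 13, 23, 6],
  [0, 1, 2, 3, 20, 10, 14, 21, 6, 23, 18, 5, 13, 19, 4, 11, 22, 7, 15, 9, 8, 16, 17, 12],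
  [0, 1, 2, 3, 21, 8, 11, 20, 17, 22, 13, 6, 18, 12, 15, 23, 14, 19, 10, 5, 4, 7, 9, 16],
  [0, 1, 2, 3, 22, 17, 4, 6, 13, 12, 9, 10, 11, 15, 23, 21, 18, 5, 19, 20, 16, 8, 7, 14],
  [0, 1, 2, 3, 23, 7, 18, 5, 8, 21, 17, 20, 14, 22, 12, 15, 16, 10, 6, 19, 11, 9, 13, 4],
  [0, 1, 2, 3, 4, 6, 21, 10, 15, 20, 12, 18, 7, 23, 11, 19, 16, 9, 14, 8, 17, 5, 13, 22],
  [0, 1, 2, 3, 4, 8, 18, 7, 5, 20, 10, 13, 12, 11, 19, 23, 17, 16, 6, 14, 9, 22, 21, 15],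
  [0, 1, 2, 3, 4, 9, 14, 7, 20, 5, 10, 17, 12, 16, 6, 21, 13, 11, 19, 18, 8, 15, 23, 22],
  [0, 1, 2, 3, 4, 11, 20, 10, 8, 21, 12, 13, 7, 5, 6, 16, 19, 22, 17, 15, 14, 23, 18, 9],
  [0, 1, 2, 3, 4, 13, 9, 10, 5, 22, 12, 11, 7, 8, 18, 17, 14, 21, 16, 23, 19, 15, 6, 20],
  [0, 1, 2, 3, 4, 14, 9, 7, 19, 6, 10, 22, 12, 21, 5, 16, 15, 23, 20, 8, 18, 13, 11, 17],
  [0, 1, 2, 3, 4, 15, 13, 7, 23, 21, 10, 18, 12, 6, 16, 5, 14, 19, 11, 17, 22, 9, 20, 8],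
  [0, 1, 2, 3, 4, 16, 6, 12, 20, 22, 7, 9, 10, 17, 8, 18, 21, 19, 23, 13, 14, 5, 11, 15],
  [0, 1, 2, 3, 4, 17, 22, 7, 16, 11, 10, 9, 12, 20, 23, 19, 8, 5, 21, 15, 13, 18, 6, 14],
  [0, 1, 2, 3, 4, 18, 17, 12, 15, 5, 7, 23, 10, 6, 21, 16, 8, 13, 9, 19, 11, 22, 14, 20],
  [0, 1, 2, 3, 4, 19, 11, 12, 21, 9, 7, 22, 10, 14, 15, 13, 20, 16, 5, 18, 17, 23, 6, 8],
  [0, 1, 2, 3, 4, 20, 11, 10, 17, 6, 12, 9, 7, 16, 21, 5, 23, 18, 8, 14, 15, 19, 22, 13],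
  [0, 1, 2, 3, 4, 21, 6, 10, 14, 11, 12, 22, 7, 19, 20, 23, 5, 13, 15, 17, 8, 16, 9, 18],
  [0, 1, 2, 3, 4, 22, 8, 12, 14, 16, 7, 19, 10, 21, 6, 5, 17, 9, 13, 23, 20, 18, 15, 11],
  [0, 1, 2, 3, 4, 23, 19, 10, 18, 16, 12, 15, 7, 6, 5, 21, 20, 17, 22, 13, 9, 11, 8, 14],
  [0, 1, 2, 3, 4, 5, 16, 10, 13, 19, 12, 8, 7, 11, 23, 20, 21, 14, 9, 18, 22, 6, 15, 17],
  [0, 1, 2, 3, 4, 5, 21, 12, 11, 18, 7, 13, 10, 8, 17, 22, 6, 23, 19, 9, 15, 16, 20, 14]]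

set_option maxRecDepth 1000000 in
theorem tables_good : ∀ t ∈ tables, GoodTable t := by
  decide +kernel

/-- base points -/
def bpt (k : ℕ) : GolayPt := pt ([0, 1, 2, 3, 4, 5, 7].getD k 0)

/-- the first `i` base points -/
def Fset (i : ℕ) : Finset GolayPt := ((List.range i).map bpt).toFinset

/-- the octad through the first five base points -/
def Omask : ℕ := 5279

/-- the orbit of the `i`-th base point under the stabilizer of the earlier ones -/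
def Tset (i : ℕ) : Finset GolayPt :=
  if i < 5 then (Fset i)ᶜ else if i = 5 then (maskSet Omask)ᶜ else maskSet Omask \ Fset 6

set_option maxRecDepth 1000000 in
theorem tables_trans : ∀ i : Fin 7, ∀ y ∈ Tset i.val, ∃ t ∈ tables,
    (∀ b ∈ Fset i.val, tfun t b = b) ∧ tfun t (bpt i.val) = y := by
  decide +kernel

theorem exists_trans (i : ℕ) (hi : i < 7) (y : GolayPt) (hy : y ∈ Tset i) :
    ∃ g ∈ pstab M24 (Fset i), g (bpt i) = y := by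
  obtain ⟨t, ht, h1, h2⟩ := tables_trans ⟨i, hi⟩ y hy
  obtain ⟨σ, hσ, hσt⟩ := exists_perm_of_good (tables_good t ht)
  refine ⟨σ, ⟨hσ, fun b hb => ?_⟩, ?_⟩
  · rw [hσt]; exact h1 b hb
  · rw [hσt]; exact h2

set_option maxRecDepth 100000 in
theorem insert_bpt_Fset : ∀ i : Fin 7, insert (bpt i.val) (Fset i.val) = Fset (i.val + 1) := by
  decide +kernel

set_option maxRecDepth 100000 in
theorem bpt_notMem_Fset : ∀ i : Fin 7, bpt i.val ∉ Fset i.val := by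
  decide +kernel

set_option maxRecDepth 100000 in
theorem Omask_isOctad : IsOctadMask Omask := by
  decide +kernel

set_option maxRecDepth 100000 in
theorem Omask_inter : 5 ≤ (maskSet Omask ∩ Fset 5).card := by
  decide +kernel

set_option maxRecDepth 100000 in
theorem Fset_mono : ∀ i : Fin 8, ∀ j : Fin 8, i ≤ j → Fset i.val ⊆ Fset j.val := by
  decide +kernel

theorem Omask_inv {g : Equiv.Perm GolayPt} (hg : g ∈ pstab M24 (Fset 5)) :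
    g • maskSet Omask = maskSet Omask :=
  smul_octad_eq hg.1 (maskSet_mem_octads Omask_isOctad) (Fset 5) hg.2 Omask_inter

set_option maxRecDepth 100000 in
theorem bpt5_notMem : bpt 5 ∉ maskSet Omask := by decide +kernel

set_option maxRecDepth 100000 in
theorem bpt6_mem : bpt 6 ∈ maskSet Omask := by decide +kernel

theorem step_h1 (i : ℕ) (hi : i < 7) {g : Equiv.Perm GolayPt} (hg : g ∈ pstab M24 (Fset i)) :
    g (bpt i) ∈ Tset i := by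
  have hnot := apply_notMem_of_mem_pstab hg (bpt_notMem_Fset ⟨i, hi⟩)
  unfold Tset
  by_cases h5 : i < 5
  · rw [if_pos h5, Finset.mem_compl]; exact hnot
  · rw [if_neg h5]
    by_cases h5' : i = 5
    · subst h5'
      rw [if_pos rfl, Finset.mem_compl, apply_mem_iff_of_smul_eq (Omask_inv hg)]
      exact bpt5_notMem
    · have h6 : i = 6 := by omega
      subst h6
      rw [if_neg (by decide), Finset.mem_sdiff]
      have hg5 : g ∈ pstab M24 (Fset 5) :=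
        ⟨hg.1, fun b hb => hg.2 b (Fset_mono ⟨5, by decide⟩ ⟨6, by decide⟩ (by decide) hb)⟩
      refine ⟨?_, hnot⟩
      rw [apply_mem_iff_of_smul_eq (Omask_inv hg5)]
      exact bpt6_mem

theorem card_step (i : ℕ) (hi : i < 7) :
    Nat.card (pstab M24 (Fset i)) = (Tset i).card * Nat.card (pstab M24 (Fset (i + 1))) := by
  rw [← insert_bpt_Fset ⟨i, hi⟩]
  exact card_pstab_step M24 (Fset i) (bpt i) (Tset i) (fun g hg => step_h1 i hi hg)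
    (fun y hy => exists_trans i hi y hy)

set_option maxRecDepth 100000 in
theorem card_Tset : ∀ i : Fin 7, (Tset i.val).card = [24, 23, 22, 21, 20, 16, 3].getD i.val 0 := by
  decide +kernel

set_option maxRecDepth 100000 in
theorem rigid_step0 : ∀ p, (191 : ℕ).testBit (idx p) = true → p ∈ Fset 7 := by
  decide +kernel

def L1 : List ℕ := [5279, 10558, 133817, 262637, 786999, 4325622, 1116327, 1327290, 2121909, 2130606]

set_option maxRecDepth 100000 in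
theorem rigid_L1 : ∀ n ∈ L1, IsOctadMask n ∧ 5 ≤ popc (n &&& 191) := by
  decide +kernel

set_option maxRecDepth 100000 in
theorem rigid_step1 : ∀ p, (16772095 : ℕ).testBit (idx p) = true → (191 : ℕ).testBit (idx p) = true ∨
      ∀ q, (191 : ℕ).testBit (idx q) = false →
        (∀ n ∈ L1, n.testBit (idx q) = n.testBit (idx p)) → q = p := by
  decide +kernel

set_option maxRecDepth 100000 in
theorem rigid_L2 : ∀ n ∈ [18147], IsOctadMask n ∧ 5 ≤ popc (n &&& 16772095) := by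
  decide +kernel

set_option maxRecDepth 100000 in
theorem rigid_step2 : ∀ p, (16777215 : ℕ).testBit (idx p) = true →
    (16772095 : ℕ).testBit (idx p) = true ∨
      ∀ q, (16772095 : ℕ).testBit (idx q) = false →
        (∀ n ∈ [18147], n.testBit (idx q) = n.testBit (idx p)) → q = p := by
  decide +kernel

set_option maxRecDepth 100000 in
theorem rigid_all : ∀ p : GolayPt, (16777215 : ℕ).testBit (idx p) = true := by
  decide +kernel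

theorem rigid {g : Equiv.Perm GolayPt} (hg : g ∈ pstab M24 (Fset 7)) (p : GolayPt) : g p = p := by
  have h0 : ∀ p, (191 : ℕ).testBit (idx p) = true → g p = p :=
    fun p hp => hg.2 p (rigid_step0 p hp)
  have h1 := fix_step hg.1 191 16772095 L1 h0 rigid_L1 rigid_step1
  have h2 := fix_step hg.1 16772095 16777215 [18147] h1 rigid_L2 rigid_step2
  exact h2 p (rigid_all p)

theorem card_pstab7 : Nat.card (pstab M24 (Fset 7)) = 1 :=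
  card_pstab_eq_one M24 (Fset 7) fun _ hg p => rigid hg p

theorem card_pstab6 : Nat.card (pstab M24 (Fset 6)) = 3 := by
  rw [card_step 6 (by decide), card_pstab7, card_Tset ⟨6, by decide⟩]; rfl

theorem card_pstab5 : Nat.card (pstab M24 (Fset 5)) = 48 := by
  rw [card_step 5 (by decide), card_pstab6, card_Tset ⟨5, by decide⟩]; rfl

theorem card_pstab4 : Nat.card (pstab M24 (Fset 4)) = 960 := by
  rw [card_step 4 (by decide), card_pstab5, card_Tset ⟨4, by decide⟩]; rfl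

theorem card_pstab3 : Nat.card (pstab M24 (Fset 3)) = 20160 := by
  rw [card_step 3 (by decide), card_pstab4, card_Tset ⟨3, by decide⟩]; rfl

theorem card_pstab2 : Nat.card (pstab M24 (Fset 2)) = 443520 := by
  rw [card_step 2 (by decide), card_pstab3, card_Tset ⟨2, by decide⟩]; rfl

theorem card_pstab1 : Nat.card (pstab M24 (Fset 1)) = 10200960 := by
  rw [card_step 1 (by decide), card_pstab2, card_Tset ⟨1, by decide⟩]; rfl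

theorem card_pstab0 : Nat.card (pstab M24 (Fset 0)) = 244823040 := by
  rw [card_step 0 (by decide), card_pstab1, card_Tset ⟨0, by decide⟩]; rfl

theorem card_M24 : Nat.card M24 = 244823040 := by
  have : Fset 0 = ∅ := rfl
  rw [← card_pstab0, this, pstab_empty]


end Cfsg.Agent.Lib.Helper1_Chain
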