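import Mathlib
import Cfsg.Agent.Lib.Helper1_M24b
set_option autoImplicit false
open Cfsg
open scoped Pointwise
namespace Cfsg.Agent.Lib.Helper1_Chain
open Cfsg.Agent.Lib.Helper1_Golay

theorem mem_Fset {i : ℕ} {p : GolayPt} : p ∈ Fset i ↔ ∃ j < i, bpt j = p := by
  simp [Fset]

/-- `M24` maps the first `k ≤ 5` base points to any `k` distinct points. -/
theorem exists_map_base_fun (x : ℕ → GolayPt) :
    ∀ k, k ≤ 5 → (∀ i < k, ∀ j < k, x i = x j → i = j) →
      ∃ g ∈ M24, ∀ i < k, g (bpt i) = x i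
  | 0 => fun _ _ => ⟨1, M24.one_mem, fun i hi => absurd hi (Nat.not_lt_zero _)⟩
  | k + 1 => by
    intro hk hinj
    obtain ⟨g, hg, hgx⟩ := exists_map_base_fun x k (by omega)
      (fun i hi j hj => hinj i (by omega) j (by omega))
    have hk5 : k < 5 := by omega
    obtain ⟨y, hy⟩ : ∃ y, y = g⁻¹ (x k) := ⟨_, rfl⟩
    have hgy : g y = x k := by rw [hy]; simp
    have hyT : y ∈ Tset k := by
      unfold Tset
      rw [if_pos hk5, Finset.mem_compl, mem_Fset]
      rintro ⟨j, hjk, hj⟩
      have h1 := hgx j hjk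
      rw [hj, hgy] at h1
      have := hinj k (by omega) j (by omega) h1
      omega
    obtain ⟨h, hh, hhy⟩ := exists_trans k (by omega) y hyT
    refine ⟨g * h, M24.mul_mem hg hh.1, fun i hi => ?_⟩
    rw [Equiv.Perm.mul_apply]
    rcases Nat.lt_succ_iff_lt_or_eq.mp hi with hlt | heq
    · rw [hh.2 _ (mem_Fset.mpr ⟨i, hlt, rfl⟩), hgx i hlt]
    · rw [heq, hhy, hgy]

theorem exists_map_base (x : Fin 5 ↪ GolayPt) :
    ∃ g ∈ M24, ∀ i : Fin 5, g (bpt i.val) = x i := by
  obtain ⟨g, hg, h⟩ := exists_map_base_fun (fun i => if h : i < 5 then x ⟨i, h⟩ else x 0) 5 le_rfl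
    (by
      intro i hi j hj hij
      simp only [hi, hj, dif_pos] at hij
      have := x.injective hij
      rw [Fin.mk.injEq] at this
      exact this)
  refine ⟨g, hg, fun i => ?_⟩
  have := h i.val i.2
  simp only [i.2, dif_pos] at this
  exact this

theorem exists_map_embedding (x y : Fin 5 ↪ GolayPt) :
    ∃ g ∈ M24, ∀ i : Fin 5, g (x i) = y i := by
  obtain ⟨g, hg, hgx⟩ := exists_map_base x
  obtain ⟨h, hh, hhy⟩ := exists_map_base y
  refine ⟨h * g⁻¹, M24.mul_mem hh (M24.inv_mem hg), fun i => ?_⟩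
  have : g⁻¹ (g (bpt i.val)) = bpt i.val := by simp
  rw [Equiv.Perm.mul_apply, ← hgx i, this, hhy]

theorem M24_five_transitive : MulAction.IsMultiplyPretransitive M24 GolayPt 5 := by
  rw [MulAction.isMultiplyPretransitive_iff]
  intro x y
  obtain ⟨g, hg, h⟩ := exists_map_embedding x y
  refine ⟨⟨g, hg⟩, ?_⟩
  apply Function.Embedding.ext
  intro i
  exact h i

/-- an embedding of `Fin 5` into a finset with at least five points -/
theorem exists_embedding_of_card {o : Finset GolayPt} (h : 5 ≤ o.card) :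
    ∃ x : Fin 5 ↪ GolayPt, ∀ i, x i ∈ o := by
  obtain ⟨s, hs, hs5⟩ := Finset.exists_subset_card_eq h
  refine ⟨(Finset.equivFinOfCardEq hs5).symm.toEmbedding.trans (Function.Embedding.subtype _),
    fun i => hs ?_⟩
  simp

theorem M24_octad_transitive {o o' : Finset GolayPt} (ho : o ∈ octads) (ho' : o' ∈ octads) :
    ∃ g ∈ M24, g • o = o' := by
  obtain ⟨x, hx⟩ := exists_embedding_of_card (o := o) (by rw [ho.2]; decide)
  obtain ⟨y, hy⟩ := exists_embedding_of_card (o := o') (by rw [ho'.2]; decide)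
  obtain ⟨g, hg, hgxy⟩ := exists_map_embedding x y
  refine ⟨g, hg, ?_⟩
  apply octads_inter_lt (smul_mem_octads hg ho) ho'
  have hsub : (Finset.univ.map y) ⊆ g • o ∩ o' := by
    intro p hp
    rw [Finset.mem_map] at hp
    obtain ⟨i, _, rfl⟩ := hp
    rw [Finset.mem_inter]
    refine ⟨?_, hy i⟩
    rw [← hgxy i, ← Equiv.Perm.smul_def]
    exact Finset.smul_mem_smul_finset (hx i)
  have := Finset.card_le_card hsub
  rw [Finset.card_map, Finset.card_univ, Fintype.card_fin] at this
  exact this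

section generic
variable {X : Type*} [DecidableEq X]

theorem card_pstab_image (G : Subgroup (Equiv.Perm X)) (F : Finset X) {g : Equiv.Perm X}
    (hg : g ∈ G) : Nat.card (pstab G (F.image g)) = Nat.card (pstab G F) := by
  apply Nat.card_congr
  refine ⟨fun k => ⟨g⁻¹ * k.1 * g, ⟨G.mul_mem (G.mul_mem (G.inv_mem hg) k.2.1) hg, ?_⟩⟩,
    fun k => ⟨g * k.1 * g⁻¹, ⟨G.mul_mem (G.mul_mem hg k.2.1) (G.inv_mem hg), ?_⟩⟩, ?_, ?_⟩
  · intro b hb
    have := k.2.2 (g b) (Finset.mem_image_of_mem g hb)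
    simp only [Equiv.Perm.mul_apply, this]
    simp
  · intro b hb
    obtain ⟨c, hc, rfl⟩ := Finset.mem_image.mp hb
    have := k.2.2 c hc
    have h2 : g⁻¹ (g c) = c := by simp
    simp only [Equiv.Perm.mul_apply, h2, this]
  · intro k
    apply Subtype.ext
    simp [mul_assoc]
  · intro k
    apply Subtype.ext
    simp [mul_assoc]

omit [DecidableEq X] in
theorem card_stabilizer_eq (G : Subgroup (Equiv.Perm X)) (p : X) :
    Nat.card (MulAction.stabilizer G p) = Nat.card (pstab G {p}) := by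
  apply Nat.card_congr
  refine ⟨fun h => ⟨h.1.1, ⟨h.1.2, ?_⟩⟩, fun k => ⟨⟨k.1, k.2.1⟩, ?_⟩, ?_, ?_⟩
  · intro b hb
    rw [Finset.mem_singleton.mp hb]
    exact h.2
  · exact k.2.2 p (Finset.mem_singleton_self p)
  · intro h; rfl
  · intro k; rfl

theorem card_stabilizer_inf_eq (G : Subgroup (Equiv.Perm X)) (p q : X) :
    Nat.card ↥(MulAction.stabilizer G p ⊓ MulAction.stabilizer G q) = Nat.card (pstab G {p, q}) := by
  apply Nat.card_congr
  refine ⟨fun h => ⟨h.1.1, ⟨h.1.2, ?_⟩⟩, fun k => ⟨⟨k.1, k.2.1⟩, ?_⟩, ?_, ?_⟩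
  · intro b hb
    have h2 := Subgroup.mem_inf.mp h.2
    rcases Finset.mem_insert.mp hb with rfl | hb
    · exact h2.1
    · rw [Finset.mem_singleton.mp hb]; exact h2.2
  · refine Subgroup.mem_inf.mpr ⟨?_, ?_⟩
    · exact k.2.2 p (Finset.mem_insert_self p _)
    · exact k.2.2 q (Finset.mem_insert_of_mem (Finset.mem_singleton_self q))
  · intro h; rfl
  · intro k; rfl

end generic

theorem card_point_stabilizer (p : GolayPt) :
    Nat.card (MulAction.stabilizer M24 p) = 10200960 := by
  obtain ⟨g, hg, hgp⟩ := exists_map_base_fun (fun _ => p) 1 (by decide)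
    (fun i hi j hj _ => by omega)
  have h0 := hgp 0 (by decide)
  have : ({p} : Finset GolayPt) = (Fset 1).image g := by
    have : Fset 1 = {bpt 0} := rfl
    rw [this, Finset.image_singleton, h0]
  rw [card_stabilizer_eq, this, card_pstab_image M24 _ hg, card_pstab1]

theorem card_two_point_stabilizer (p q : GolayPt) (hpq : p ≠ q) :
    Nat.card ↥(MulAction.stabilizer M24 p ⊓ MulAction.stabilizer M24 q) = 443520 := by
  obtain ⟨g, hg, hgp⟩ := exists_map_base_fun (fun i => if i = 0 then p else q) 2 (by decide)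
    (fun i hi j hj hij => by
      by_cases hi0 : i = 0 <;> by_cases hj0 : j = 0 <;> simp [hi0, hj0] at hij <;>
        first | omega | exact absurd hij hpq | exact absurd hij.symm hpq)
  have h0 := hgp 0 (by decide)
  have h1 := hgp 1 (by decide)
  simp only [if_true] at h0
  simp only [one_ne_zero, if_false] at h1
  have : ({p, q} : Finset GolayPt) = (Fset 2).image g := by
    have : Fset 2 = {bpt 0, bpt 1} := by decide
    rw [this, Finset.image_insert, Finset.image_singleton, h0, h1]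
  rw [card_stabilizer_inf_eq, this, card_pstab_image M24 _ hg, card_pstab2]

end Cfsg.Agent.Lib.Helper1_Chain
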