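import Mathlib
import Cfsg.Agent.Lib.Helper1_OrbitCert3
import Cfsg.Agent.Lib.Helper1_Inv
import Cfsg.Agent.S1552
import Cfsg.Agent.S5611
import Cfsg.Agent.S5615
set_option autoImplicit false
open Cfsg
open scoped Pointwise
namespace Cfsg.Agent.Lib.Helper1_InvCount
open Cfsg.Agent.Lib.Helper1_Golay Cfsg.Agent.Lib.Helper1_Chain Cfsg.Agent.Lib.Helper1_Cert
open Cfsg.Agent.Lib.Helper1_Inv

/-- the classes of octads -/
def csO : List Cls := [Helper1_OC_S0_octads.c1, Helper1_OC_S0_octads.c2, Helper1_OC_S0_octads.c3]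

/-- the classes of trios -/
def csT : List Cls := [Helper1_OC_O0_trios.c1, Helper1_OC_O0_trios.c2, Helper1_OC_O0_trios.c3]

/-- the classes of sextets -/
def csS : List Cls := [Helper1_OC_S0_sextets.c1, Helper1_OC_S0_sextets.c2,
  Helper1_OC_S0_sextets.c3, Helper1_OC_S0_sextets.c4]

theorem hcsO : ∀ c ∈ csO, ClsOK encS Helper1_OC_S0_octads.x0 Helper1_OC_S0_octads.gens c := by
  intro c hc
  simp only [csO, List.mem_cons, List.not_mem_nil, or_false] at hc
  rcases hc with rfl | rfl | rfl
  exacts [Helper1_OC_S0_octads.c1_ok, Helper1_OC_S0_octads.c2_ok, Helper1_OC_S0_octads.c3_ok]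

theorem hcsT : ∀ c ∈ csT, ClsOK encF Helper1_OC_O0_trios.x0 Helper1_OC_O0_trios.gens c := by
  intro c hc
  simp only [csT, List.mem_cons, List.not_mem_nil, or_false] at hc
  rcases hc with rfl | rfl | rfl
  exacts [Helper1_OC_O0_trios.c1_ok, Helper1_OC_O0_trios.c2_ok, Helper1_OC_O0_trios.c3_ok]

theorem hcsS : ∀ c ∈ csS, ClsOK encF Helper1_OC_S0_sextets.x0 Helper1_OC_S0_sextets.gens c := by
  intro c hc
  simp only [csS, List.mem_cons, List.not_mem_nil, or_false] at hc
  rcases hc with rfl | rfl | rfl | rfl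
  exacts [Helper1_OC_S0_sextets.c1_ok, Helper1_OC_S0_sextets.c2_ok, Helper1_OC_S0_sextets.c3_ok,
    Helper1_OC_S0_sextets.c4_ok]

theorem covO : {y | ∃ c ∈ csO, y ∈ cset encS c} = octads :=
  (cert_facts encF encS Helper1_OC_S0_octads.x0 Helper1_OC_S0_octads.gens csO octads
    (fun σ hσ y hy => smul_mem_octads hσ hy) (by decide +kernel) Helper1_OC_S0_octads.gens_ok
    (by decide) hcsO (fun c hc => maskSet_mem_octads (Cfsg.Agent.S5611.basesO_ok c hc))
    (by
      show octads.ncard ≤ _
      rw [show (csO.map fun c => c.ents.length) = [15, 360, 384] from Cfsg.Agent.S5611.lensO,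
        ncard_octads]
      decide)).2

theorem covT : {y | ∃ c ∈ csT, y ∈ cset encF c} = trios := Cfsg.Agent.S5615.facts.2

theorem covS : {y | ∃ c ∈ csS, y ∈ cset encF c} = sextets :=
  (cert_facts encF encF Helper1_OC_S0_sextets.x0 Helper1_OC_S0_sextets.gens csS sextets
    (fun σ hσ y hy => smul_mem_sextets hσ hy) (by decide +kernel) Helper1_OC_S0_sextets.gens_ok
    (by decide) hcsS (fun c hc => mset_mem_sextets (Cfsg.Agent.S1552.bases_ok c hc))
    (by
      show sextets.ncard ≤ _
      rw [show (csS.map fun c => c.ents.length) = [1, 90, 240, 1440] from Cfsg.Agent.S1552.lens,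
        Cfsg.Agent.S1550.ncard_sextets]
      decide)).2

theorem disjO : csO.Pairwise (fun c c' => Disjoint (cset encS c) (cset encS c')) :=
  cert_disjoint encF encS Helper1_OC_S0_octads.x0 Helper1_OC_S0_octads.gens csO
    (by decide +kernel) (by decide) hcsO

theorem disjT : csT.Pairwise (fun c c' => Disjoint (cset encF c) (cset encF c')) :=
  cert_disjoint encS encF Helper1_OC_O0_trios.x0 Helper1_OC_O0_trios.gens csT
    (by decide +kernel) (by decide) hcsT

theorem disjS : csS.Pairwise (fun c c' => Disjoint (cset encF c) (cset encF c')) :=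
  cert_disjoint encF encF Helper1_OC_S0_sextets.x0 Helper1_OC_S0_sextets.gens csS
    (by decide +kernel) (by decide) hcsS

/-- the numbers of fixed octads, trios and sextets of a table -/
def counts (r : List ℕ) : ℕ × ℕ × ℕ :=
  ((csO.map fun c => (c.ents.filter fun e => encS.step r e.1 e.1).length).sum,
   (csT.map fun c => (c.ents.filter fun e => encF.step r e.1 e.1).length).sum,
   (csS.map fun c => (c.ents.filter fun e => encF.step r e.1 e.1).length).sum)

theorem ncard_fixed_all {r : List ℕ} (hr : ValidTable r) {σ : Equiv.Perm GolayPt}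
    (hσ : ∀ p, σ p = tfun r p) :
    {o : Finset GolayPt | o ∈ octads ∧ σ • o = o}.ncard = (counts r).1 ∧
    {T : Finset (Finset GolayPt) | T ∈ trios ∧ σ • T = T}.ncard = (counts r).2.1 ∧
    {S : Finset (Finset GolayPt) | S ∈ sextets ∧ σ • S = S}.ncard = (counts r).2.2 := by
  refine ⟨?_, ?_, ?_⟩
  · exact ncard_fixed encS csO octads covO disjO hcsO σ r
      (fun c hc e he => stepS_iff hσ hr ((hcsO c hc).2.2.2.1 e he))
  · exact ncard_fixed encF csT trios covT disjT hcsT σ r
      (fun c hc e he => stepL_iff hσ hr ((hcsT c hc).2.2.2.1 e he))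
  · exact ncard_fixed encF csS sextets covS disjS hcsS σ r
      (fun c hc e he => stepL_iff hσ hr ((hcsS c hc).2.2.2.1 e he))

set_option maxRecDepth 1000000 in
theorem rep_valid : ValidTable repA ∧ ValidTable repB := by decide +kernel

set_option maxRecDepth 1000000 in
theorem countsA : counts repA = (71, 99, 91) := by decide +kernel

set_option maxRecDepth 1000000 in
theorem countsB : counts repB = (15, 75, 51) := by decide +kernel

/-- the numbers of invariant octads, trios, sextets of an involution conjugate to a table -/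
theorem ncard_fixed_of_conj {r : List ℕ} (hr : ValidTable r) {g k : Equiv.Perm GolayPt}
    (hk : k ∈ M24) (h : ∀ p, (k * g * k⁻¹) p = tfun r p) :
    {o : Finset GolayPt | o ∈ octads ∧ g • o = o}.ncard = (counts r).1 ∧
    {T : Finset (Finset GolayPt) | T ∈ trios ∧ g • T = T}.ncard = (counts r).2.1 ∧
    {S : Finset (Finset GolayPt) | S ∈ sextets ∧ g • S = S}.ncard = (counts r).2.2 := by
  obtain ⟨h1, h2, h3⟩ := ncard_fixed_all hr h
  refine ⟨?_, ?_, ?_⟩
  · rw [← h1]
    exact ncard_fixed_conj octads (fun σ hσ y hy => smul_mem_octads hσ hy) hk rfl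
  · rw [← h2]
    exact ncard_fixed_conj trios (fun σ hσ y hy => smul_mem_trios hσ hy) hk rfl
  · rw [← h3]
    exact ncard_fixed_conj sextets (fun σ hσ y hy => smul_mem_sextets hσ hy) hk rfl

end Cfsg.Agent.Lib.Helper1_InvCount
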