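import Mathlib
set_option autoImplicit false
open scoped Pointwise
namespace Cfsg.Agent.Lib.Helper1_Restrict

variable {α : Type*} [DecidableEq α]

theorem mem_iff_of_smul_eq {g : Equiv.Perm α} {o : Finset α} (h : g • o = o) (x : α) :
    g x ∈ o ↔ x ∈ o := by
  constructor
  · intro hx
    have : g x ∈ g • o := by rw [h]; exact hx
    rw [← Finset.inv_smul_mem_iff] at this
    simpa using this
  · intro hx
    rw [← h]
    exact Finset.smul_mem_smul_finset hx

theorem smul_eq_of_mem_iff {g : Equiv.Perm α} {o : Finset α} (h : ∀ x, g x ∈ o ↔ x ∈ o) :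
    g • o = o := by
  ext x
  rw [← Finset.inv_smul_mem_iff]
  have := h (g⁻¹ x)
  rw [show g (g⁻¹ x) = x by simp] at this
  exact this.symm

/-- the restriction of the setwise stabilizer of `o` to `o` -/
def restrictHom (G : Subgroup (Equiv.Perm α)) (o : Finset α) :
    ↥(MulAction.stabilizer G o) →* Equiv.Perm ↥o :=
  MonoidHom.mk' (fun g => (g.1.1).subtypePerm (mem_iff_of_smul_eq g.2)) (by
    intro g h
    ext x
    rfl)

theorem restrictHom_apply (G : Subgroup (Equiv.Perm α)) (o : Finset α)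
    (g : ↥(MulAction.stabilizer G o)) (x : ↥o) : ((restrictHom G o g) x : α) = g.1.1 x := rfl

theorem mem_range_restrictHom (G : Subgroup (Equiv.Perm α)) (o : Finset α) (e : Equiv.Perm ↥o) :
    e ∈ (restrictHom G o).range ↔
      ∃ g : Equiv.Perm α, g ∈ G ∧ ∃ h : (∀ x, g x ∈ o ↔ x ∈ o), g.subtypePerm h = e := by
  constructor
  · rintro ⟨g, rfl⟩
    exact ⟨g.1.1, g.1.2, mem_iff_of_smul_eq g.2, rfl⟩
  · rintro ⟨g, hg, h, rfl⟩
    exact ⟨⟨⟨g, hg⟩, smul_eq_of_mem_iff h⟩, rfl⟩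

theorem mem_ker_restrictHom (G : Subgroup (Equiv.Perm α)) (o : Finset α)
    (g : ↥(MulAction.stabilizer G o)) :
    g ∈ (restrictHom G o).ker ↔ ∀ x ∈ o, g.1.1 x = x := by
  rw [MonoidHom.mem_ker]
  constructor
  · intro h x hx
    have := congrArg (fun e : Equiv.Perm ↥o => ((e ⟨x, hx⟩ : ↥o) : α)) h
    exact this
  · intro h
    ext x
    exact h x.1 x.2

omit [DecidableEq α] in
theorem mem_fix_iff (g : Equiv.Perm α) (o : Finset α) :
    g ∈ fixingSubgroup (Equiv.Perm α) (o : Set α) ↔ ∀ x ∈ o, g x = x := by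
  rw [mem_fixingSubgroup_iff]
  rfl

theorem card_ker_restrictHom (G : Subgroup (Equiv.Perm α)) (o : Finset α) :
    Nat.card (restrictHom G o).ker =
      Nat.card ↥(G ⊓ fixingSubgroup (Equiv.Perm α) (o : Set α)) := by
  have hfix : ∀ g : ↥(G ⊓ fixingSubgroup (Equiv.Perm α) (o : Set α)), ∀ x ∈ o, g.1 x = x :=
    fun g => (mem_fix_iff g.1 o).1 (Subgroup.mem_inf.1 g.2).2
  have hG : ∀ g : ↥(G ⊓ fixingSubgroup (Equiv.Perm α) (o : Set α)), g.1 ∈ G :=
    fun g => (Subgroup.mem_inf.1 g.2).1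
  have hstab : ∀ g : ↥(G ⊓ fixingSubgroup (Equiv.Perm α) (o : Set α)),
      (⟨g.1, hG g⟩ : ↥G) ∈ MulAction.stabilizer G o := by
    intro g
    apply smul_eq_of_mem_iff (g := g.1)
    intro x
    constructor
    · intro hx
      have h2 : g.1 (g.1 x) = g.1 x := hfix g (g.1 x) hx
      have h3 := g.1.injective h2
      rw [← h3]; exact hx
    · intro hx
      rw [hfix g x hx]; exact hx
  refine Nat.card_congr ⟨fun g => ⟨g.1.1.1, Subgroup.mem_inf.2 ⟨g.1.1.2, ?_⟩⟩,
    fun g => ⟨⟨⟨g.1, hG g⟩, hstab g⟩, ?_⟩, ?_, ?_⟩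
  · rw [mem_fix_iff]
    intro x hx
    exact (mem_ker_restrictHom G o g.1).1 g.2 x hx
  · rw [mem_ker_restrictHom]
    intro x hx
    exact hfix g x hx
  · intro g; rfl
  · intro g; rfl

theorem card_range_restrictHom [Finite α] (G : Subgroup (Equiv.Perm α)) (o : Finset α) :
    Nat.card (restrictHom G o).range *
      Nat.card ↥(G ⊓ fixingSubgroup (Equiv.Perm α) (o : Set α)) =
        Nat.card (MulAction.stabilizer G o) := by
  rw [← card_ker_restrictHom, ← Subgroup.index_ker, mul_comm]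
  exact Subgroup.card_mul_index _

end Cfsg.Agent.Lib.Helper1_Restrict
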