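import Mathlib
import Cfsg.Agent.Lib.Helper1_M12d
import Cfsg.Agent.Lib.Helper1_Restrict
set_option autoImplicit false
open Cfsg
open scoped Pointwise
namespace Cfsg.Agent.Lib.Helper1_Chain
open Cfsg.Agent.Lib.Helper1_Golay Cfsg.Agent.Lib.Helper1_Restrict

/-- extend a list of at most five distinct points of a set with at least five points -/
theorem exists_extend_list {d : Finset GolayPt} (h5 : 5 ≤ d.card) {l : List GolayPt}
    (hl : l.Nodup) (hld : ∀ a ∈ l, a ∈ d) (_hlen : l.length ≤ 5) :
    ∃ l5 : List GolayPt, l5.Nodup ∧ l5.length = 5 ∧ (∀ a ∈ l5, a ∈ d) ∧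
      ∀ i (hi : i < l.length) (hi5 : i < l5.length), l5[i] = l[i] := by
  classical
  let m := l ++ (d \ l.toFinset).toList
  have hm : m.Nodup := by
    rw [List.nodup_append]
    refine ⟨hl, Finset.nodup_toList _, ?_⟩
    intro a ha b hb hab
    subst hab
    rw [Finset.mem_toList, Finset.mem_sdiff, List.mem_toFinset] at hb
    exact hb.2 ha
  have hmlen : 5 ≤ m.length := by
    have hsub : l.toFinset ⊆ d := fun a ha => hld a (List.mem_toFinset.1 ha)
    rw [List.length_append, Finset.length_toList, Finset.card_sdiff_of_subset hsub,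
      List.toFinset_card_of_nodup hl]
    have : l.length ≤ d.card := by
      rw [← List.toFinset_card_of_nodup hl]; exact Finset.card_le_card hsub
    omega
  have hmd : ∀ a ∈ m, a ∈ d := by
    intro a ha
    rw [List.mem_append] at ha
    rcases ha with ha | ha
    · exact hld a ha
    · rw [Finset.mem_toList, Finset.mem_sdiff] at ha; exact ha.1
  refine ⟨m.take 5, hm.sublist (List.take_sublist 5 m), ?_, ?_, ?_⟩
  · rw [List.length_take]; omega
  · intro a ha
    exact hmd a (List.mem_of_mem_take ha)
  · intro i hi hi5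
    rw [List.getElem_take, List.getElem_append_left hi]

/-- standard position for a dodecad and at most five of its points -/
theorem dodecad_std_list {d : Finset GolayPt} (hd : d ∈ dodecads) {l : List GolayPt}
    (hl : l.Nodup) (hld : ∀ a ∈ l, a ∈ d) (hlen : l.length ≤ 5) :
    ∃ g ∈ M24, g • maskSet d0 = d ∧ ∀ i (hi : i < l.length), g (bpt i) = l[i] := by
  obtain ⟨l5, hnd, hlen5, hl5d, hl5⟩ := exists_extend_list (by rw [hd.2]; decide) hl hld hlen
  let x : Fin 5 ↪ GolayPt := ⟨fun i => l5[i.val]'(by rw [hlen5]; exact i.isLt), by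
    intro i j hij
    have := (List.Nodup.getElem_inj_iff hnd).1 hij
    exact Fin.ext this⟩
  obtain ⟨g, hg, hgd, hgx⟩ := exists_smul_d0_eq hd x (fun i => hl5d _ (List.getElem_mem _))
  refine ⟨g, hg, hgd, fun i hi => ?_⟩
  have hi5 : i < 5 := by omega
  have := hgx ⟨i, hi5⟩
  rw [this]
  exact hl5 i hi (by rw [hlen5]; exact hi5)

/-- the stabilizer of a dodecad maps any list of at most five distinct points of the dodecad to
any other such list of the same length -/
theorem dodecad_map_lists {d : Finset GolayPt} (hd : d ∈ dodecads) {l l' : List GolayPt}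
    (hl : l.Nodup) (hl' : l'.Nodup) (hld : ∀ a ∈ l, a ∈ d) (hld' : ∀ a ∈ l', a ∈ d)
    (hlen : l.length = l'.length) (h5 : l.length ≤ 5) :
    ∃ g ∈ M24, g • d = d ∧ l.map g = l' := by
  obtain ⟨g1, hg1, hg1d, h1⟩ := dodecad_std_list hd hl hld h5
  obtain ⟨g2, hg2, hg2d, h2⟩ := dodecad_std_list hd hl' hld' (hlen ▸ h5)
  refine ⟨g2 * g1⁻¹, M24.mul_mem hg2 (M24.inv_mem hg1), ?_, ?_⟩
  · rw [mul_smul]
    conv_lhs => rw [← hg1d]
    rw [inv_smul_smul, hg2d]
  · apply List.ext_getElem
    · rw [List.length_map, hlen]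
    · intro i hi hi'
      rw [List.getElem_map]
      have hil : i < l.length := by rwa [List.length_map] at hi
      rw [← h1 i hil, ← h2 i hi']
      simp

/-- the stabilizer of a dodecad, as a subgroup of the symmetric group -/
def dstab (d : Finset GolayPt) : Subgroup (Equiv.Perm GolayPt) :=
  M24 ⊓ MulAction.stabilizer (Equiv.Perm GolayPt) d

theorem mem_dstab {d : Finset GolayPt} {g : Equiv.Perm GolayPt} :
    g ∈ dstab d ↔ g ∈ M24 ∧ g • d = d := by
  unfold dstab
  rw [Subgroup.mem_inf]
  exact Iff.rfl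

/-- compare a subgroup of `M24` with a subgroup of the symmetric group -/
theorem card_eq_of_forall_iff (K : Subgroup ↥M24) (K' : Subgroup (Equiv.Perm GolayPt))
    (hle : K' ≤ M24) (h : ∀ g : ↥M24, g ∈ K ↔ g.1 ∈ K') : Nat.card K = Nat.card K' := by
  refine Nat.card_congr ⟨fun g => ⟨g.1.1, (h g.1).1 g.2⟩,
    fun g => ⟨⟨g.1, hle g.2⟩, (h ⟨g.1, hle g.2⟩).2 g.2⟩, ?_, ?_⟩
  · intro g; rfl
  · intro g; rfl

theorem card_dstab {d : Finset GolayPt} (hd : d ∈ dodecads) : Nat.card (dstab d) = 95040 := by
  rw [← card_stabilizer_dodecad hd]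
  symm
  apply card_eq_of_forall_iff _ _ (fun g hg => (mem_dstab.1 hg).1)
  intro g
  rw [MulAction.mem_stabilizer_iff, mem_dstab]
  constructor
  · intro h; exact ⟨g.2, h⟩
  · intro h; exact h.2

/-- one step of the stabilizer chain of the stabilizer of a dodecad -/
theorem card_pstab_dstab_step {d : Finset GolayPt} (hd : d ∈ dodecads) {F : Finset GolayPt}
    (hF : F ⊆ d) (hF4 : F.card ≤ 4) {b : GolayPt} (hb : b ∈ d) (hbF : b ∉ F) :
    Nat.card (pstab (dstab d) F) = (12 - F.card) * Nat.card (pstab (dstab d) (insert b F)) := by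
  rw [card_pstab_step (dstab d) F b (d \ F), Finset.card_sdiff_of_subset hF, hd.2]
  · intro g hg
    rw [Finset.mem_sdiff]
    refine ⟨?_, apply_notMem_of_mem_pstab hg hbF⟩
    have := (mem_dstab.1 hg.1).2
    rw [← this]
    exact Finset.smul_mem_smul_finset hb
  · intro y hy
    rw [Finset.mem_sdiff] at hy
    have hnd : ∀ z, z ∉ F → (F.toList ++ [z]).Nodup := by
      intro z hz
      rw [List.nodup_append]
      refine ⟨Finset.nodup_toList F, List.nodup_singleton z, ?_⟩
      intro a ha c hc hac
      rw [List.mem_singleton] at hc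
      subst hc; subst hac
      exact hz (Finset.mem_toList.1 ha)
    have hmem : ∀ z, z ∈ d → ∀ a ∈ F.toList ++ [z], a ∈ d := by
      intro z hz a ha
      rw [List.mem_append, List.mem_singleton] at ha
      rcases ha with ha | rfl
      · exact hF (Finset.mem_toList.1 ha)
      · exact hz
    obtain ⟨g, hg, hgd, hgl⟩ := dodecad_map_lists hd (hnd b hbF) (hnd y hy.2) (hmem b hb)
      (hmem y hy.1) (by simp) (by simp; omega)
    rw [List.map_append, List.map_singleton] at hgl
    have h1 := List.append_inj_left hgl (by simp)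
    have h2 := List.append_inj_right hgl (by simp)
    refine ⟨g, ⟨mem_dstab.2 ⟨hg, hgd⟩, ?_⟩, ?_⟩
    · intro a ha
      have := List.map_id'' (f := id) (fun _ => rfl) F.toList
      have h3 : F.toList.map g = F.toList.map id := by rw [h1, List.map_id]
      exact (List.map_inj_left.1 h3) a (Finset.mem_toList.2 ha)
    · simpa using h2

theorem pstab_empty' (G : Subgroup (Equiv.Perm GolayPt)) : pstab G ∅ = G := pstab_empty G

/-- the pointwise stabilizer of three points of a dodecad in its stabilizer has order 72 -/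
theorem card_pstab_dstab_three {d : Finset GolayPt} (hd : d ∈ dodecads) {p q r : GolayPt}
    (hp : p ∈ d) (hq : q ∈ d) (hr : r ∈ d) (hpq : p ≠ q) (hpr : p ≠ r) (hqr : q ≠ r) :
    Nat.card (pstab (dstab d) {r, q, p}) = 72 := by
  have h0 := card_pstab_dstab_step hd (F := ∅) (Finset.empty_subset d) (by simp) hp (by simp)
  have h1 := card_pstab_dstab_step hd (F := {p}) (by simpa using hp) (by simp) hq
    (by simpa using hpq.symm)
  have h2 := card_pstab_dstab_step hd (F := {q, p}) (by
    intro a ha
    simp only [Finset.mem_insert, Finset.mem_singleton] at ha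
    rcases ha with rfl | rfl
    · exact hq
    · exact hp) (by rw [Finset.card_pair hpq.symm]; decide) hr (by
    simp only [Finset.mem_insert, Finset.mem_singleton, not_or]
    exact ⟨hqr.symm, hpr.symm⟩)
  rw [pstab_empty, card_dstab hd, Finset.card_empty] at h0
  rw [Finset.card_singleton] at h1
  rw [Finset.card_pair hpq.symm] at h2
  have e1 : insert p (∅ : Finset GolayPt) = {p} := rfl
  rw [e1] at h0
  omega

end Cfsg.Agent.Lib.Helper1_Chain
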