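import Mathlib
import Cfsg.Agent.Lib.Helper1_M22
set_option autoImplicit false
open Cfsg
open scoped Pointwise
namespace Cfsg.Agent.Lib.Helper1_Chain
open Cfsg.Agent.Lib.Helper1_Golay Cfsg.Agent.Lib.Helper1_Simple Subgroup

theorem simple_aux22 {G : Type*} [Group G] [Finite G] [MulAction G GolayPt] (p q : GolayPt)
    (hpq : p ≠ q) (Y : Finset GolayPt) (hmem : ∀ y : GolayPt, y ∈ Y ↔ y ≠ q ∧ y ≠ p)
    (hYcard : Y.card = 22)
    (hgp : ∀ g : G, g • p = p) (hgq : ∀ g : G, g • q = q)
    (hinv : ∀ g : G, ∀ y ∈ Y, g • y ∈ Y)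
    (hfaith : ∀ g : G, (∀ y ∈ Y, g • y = y) → g = 1)
    (h2 : ∀ y1 ∈ Y, ∀ y2 ∈ Y, ∀ z1 ∈ Y, ∀ z2 ∈ Y, y1 ≠ y2 → z1 ≠ z2 →
      ∃ g : G, g • y1 = z1 ∧ g • y2 = z2)
    (hcard : Nat.card G = 11 * 40320)
    (hnine : ∀ g : G, ∀ S : Finset GolayPt, 9 ≤ S.card → (∀ x ∈ S, g • x = x) → g = 1) :
    IsSimpleGroup G := by
  haveI : Fact (Nat.Prime 11) := ⟨by norm_num⟩
  let P : Sylow 11 G := default
  have hPcard : Nat.card P = 11 := sylow_card_eq_prime 11 40320 hcard (by norm_num) P
  -- every point of Y is moved by P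
  have hmoved : ∀ y ∈ Y, ∃ π ∈ (P : Subgroup G), π • y ≠ y := by
    intro y0 hy0
    by_contra hcon
    push Not at hcon
    have hmod := (P.isPGroup').card_modEq_card_fixedPoints GolayPt
    have hfin : (MulAction.fixedPoints (P : Subgroup G) GolayPt).Finite := Set.toFinite _
    obtain ⟨S, hS⟩ : ∃ S : Finset GolayPt, S = hfin.toFinset := ⟨_, rfl⟩
    have hSmem : ∀ x, x ∈ S ↔ ∀ π : (P : Subgroup G), π • x = x := by
      intro x
      rw [hS, Set.Finite.mem_toFinset, MulAction.mem_fixedPoints]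
    have hScard : Nat.card (MulAction.fixedPoints (P : Subgroup G) GolayPt) = S.card := by
      rw [Nat.card_coe_set_eq, Set.ncard_eq_toFinset_card _ hfin, hS]
    rw [hScard, Nat.card_eq_fintype_card, Fintype.card_option, ZMod.card] at hmod
    have h3 : 3 ≤ S.card := by
      have hy0' := (hmem y0).mp hy0
      have hsub : ({p, q, y0} : Finset GolayPt) ⊆ S := by
        intro x hx
        rw [hSmem]
        intro π
        simp only [Finset.mem_insert, Finset.mem_singleton] at hx
        rcases hx with rfl | rfl | rfl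
        · exact hgp π.1
        · exact hgq π.1
        · exact hcon π.1 π.2
      have hc3 : ({p, q, y0} : Finset GolayPt).card = 3 :=
        Finset.card_eq_three.mpr ⟨p, q, y0, hpq, Ne.symm hy0'.2, Ne.symm hy0'.1, rfl⟩
      rw [← hc3]
      exact Finset.card_le_card hsub
    have hle : S.card ≤ 24 := by
      have := Finset.card_le_univ S
      rwa [Fintype.card_option, ZMod.card] at this
    have h9 : 9 ≤ S.card := by
      unfold Nat.ModEq at hmod
      omega
    have hPbot : ∀ π ∈ (P : Subgroup G), π = 1 := by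
      intro π hπ
      apply hnine π S h9
      intro x hx
      exact (hSmem x).mp hx ⟨π, hπ⟩
    have : (P : Subgroup G) = ⊥ := by
      rw [eq_bot_iff]
      intro x hx
      rw [Subgroup.mem_bot]
      exact hPbot x hx
    rw [this, Subgroup.card_bot] at hPcard
    omega
  -- the centralizer acts semiregularly on Y
  have hsemi : ∀ c ∈ centralizer ((P : Subgroup G) : Set G), ∀ y ∈ Y, c • y = y → c = 1 := by
    intro c hc y hy hcy
    obtain ⟨π, hπ, hπy⟩ := hmoved y hy
    have e := MulAction.orbitProdStabilizerEquivGroup (P : Subgroup G) y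
    have h := Nat.card_congr e
    rw [Nat.card_prod, hPcard] at h
    have hdvd : Nat.card (MulAction.orbit (P : Subgroup G) y) ∣ 11 := ⟨_, h.symm⟩
    have hne1 : Nat.card (MulAction.orbit (P : Subgroup G) y) ≠ 1 := by
      intro h1
      rw [Nat.card_eq_one_iff_unique] at h1
      obtain ⟨hsub1, _⟩ := h1
      have := @Subsingleton.elim _ hsub1
        (⟨π • y, ⟨⟨π, hπ⟩, rfl⟩⟩ : MulAction.orbit (P : Subgroup G) y)
        ⟨y, MulAction.mem_orbit_self y⟩
      exact hπy (congrArg Subtype.val this)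
    have h11 : Nat.card (MulAction.orbit (P : Subgroup G) y) = 11 :=
      ((Nat.dvd_prime (by norm_num)).mp hdvd).resolve_left hne1
    have hfin : (MulAction.orbit (P : Subgroup G) y).Finite := Set.toFinite _
    apply hnine c hfin.toFinset
    · rw [← Set.ncard_eq_toFinset_card _ hfin, ← Nat.card_coe_set_eq, h11]
      norm_num
    · intro x hx
      rw [Set.Finite.mem_toFinset] at hx
      obtain ⟨ρ, rfl⟩ := hx
      change c • (ρ.1 • y) = ρ.1 • y
      rw [← mul_smul, ← (Subgroup.mem_centralizer_iff.mp hc ρ.1 ρ.2), mul_smul, hcy]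
  obtain ⟨y, hy⟩ : ∃ y, y ∈ Y := by
    apply Finset.card_pos.mp
    rw [hYcard]; norm_num
  have hCle : Nat.card (centralizer ((P : Subgroup G) : Set G)) ≤ 22 := by
    have hinj : Function.Injective (fun c : centralizer ((P : Subgroup G) : Set G) =>
        (⟨c.1 • y, hinv c.1 y hy⟩ : {z // z ∈ Y})) := by
      intro c c' hcc
      have h1 : c.1 • y = c'.1 • y := congrArg Subtype.val hcc
      have hd : (c.1⁻¹ * c'.1) • y = y := by rw [mul_smul, ← h1, inv_smul_smul]
      have hdC : c.1⁻¹ * c'.1 ∈ centralizer ((P : Subgroup G) : Set G) :=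
        mul_mem (inv_mem c.2) c'.2
      have h1' := hsemi _ hdC y hy hd
      apply Subtype.ext
      rw [inv_mul_eq_one] at h1'
      exact h1'
    have := Nat.card_le_card_of_injective _ hinj
    rwa [Nat.card_eq_fintype_card (α := {z // z ∈ Y}), Fintype.card_coe, hYcard] at this
  have hPC := sylow_le_centralizer_of_prime 11 P hPcard
  obtain ⟨k, hk⟩ : 11 ∣ Nat.card (centralizer ((P : Subgroup G) : Set G)) := by
    have := Subgroup.card_dvd_of_le hPC
    rwa [hPcard] at this
  obtain ⟨e, he, hN⟩ := card_normalizer_sylow_prime 11 P hPcard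
  have hidx := index_normalizer_sylow_mod 11 P
  have hmul := (normalizer ((P : Subgroup G) : Set G)).card_mul_index
  rw [hN, hk, hcard] at hmul
  have hk2 : k ≤ 2 := by omega
  have hk0 : 0 < k := by
    rcases Nat.eq_zero_or_pos k with h | h
    · rw [h, mul_zero, zero_mul, zero_mul] at hmul
      omega
    · exact h
  have he10 : e ≤ 10 := Nat.le_of_dvd (by norm_num) he
  have he0 : 0 < e := Nat.pos_of_dvd_of_pos he (by norm_num)
  have hke : k = 1 ∧ e = 5 := by
    obtain ⟨idx, hidxdef⟩ : ∃ idx, idx = (normalizer ((P : Subgroup G) : Set G)).index :=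
      ⟨_, rfl⟩
    rw [← hidxdef] at hmul hidx
    have he' : (10 : ℕ) % e = 0 := Nat.mod_eq_zero_of_dvd he
    interval_cases k <;> interval_cases e <;> omega
  have hNcard : Nat.card (normalizer ((P : Subgroup G) : Set G)) = 11 * 5 := by
    rw [hN, hk, hke.1, hke.2]
  apply simple_of_sylow 11 P hPcard ?_ 5 (by norm_num) hNcard
  · intro htop
    have : Nat.card (normalizer ((P : Subgroup G) : Set G)) = Nat.card G := by
      rw [htop, Subgroup.card_top]
    rw [hNcard, hcard] at this
    omega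
  · intro N hN' hbot
    have := card_dvd_of_normal Y hinv hfaith h2 N hN' hbot
    rw [hYcard] at this
    exact dvd_trans (by norm_num) this


theorem M22_simple (p q : GolayPt) (hpq : p ≠ q) :
    IsSimpleGroup ↥(MulAction.stabilizer M24 p ⊓ MulAction.stabilizer M24 q) := by
  have hgp : ∀ g : ↥(MulAction.stabilizer M24 p ⊓ MulAction.stabilizer M24 q),
      ((g : M24) : Equiv.Perm GolayPt) p = p := fun g => (Subgroup.mem_inf.mp g.2).1
  have hgq : ∀ g : ↥(MulAction.stabilizer M24 p ⊓ MulAction.stabilizer M24 q),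
      ((g : M24) : Equiv.Perm GolayPt) q = q := fun g => (Subgroup.mem_inf.mp g.2).2
  obtain ⟨Y, hYdef⟩ : ∃ Y : Finset GolayPt, Y = (Finset.univ.erase p).erase q := ⟨_, rfl⟩
  have hmem : ∀ y : GolayPt, y ∈ Y ↔ y ≠ q ∧ y ≠ p := by
    intro y; rw [hYdef]; simp
  have hYcard : Y.card = 22 := by
    rw [hYdef, Finset.card_erase_of_mem, Finset.card_erase_of_mem (Finset.mem_univ p),
      Finset.card_univ]
    · rfl
    · simp [hpq.symm]
  apply simple_aux22 p q hpq Y hmem hYcard hgp hgq
  · intro g y hy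
    rw [hmem] at hy ⊢
    change ((g : M24) : Equiv.Perm GolayPt) y ≠ q ∧ ((g : M24) : Equiv.Perm GolayPt) y ≠ p
    constructor
    · intro h
      exact hy.1 (((g : M24) : Equiv.Perm GolayPt).injective (h.trans (hgq g).symm))
    · intro h
      exact hy.2 (((g : M24) : Equiv.Perm GolayPt).injective (h.trans (hgp g).symm))
  · intro g hg
    apply Subtype.ext
    apply Subtype.ext
    apply Equiv.ext
    intro y
    by_cases hyp : y = p
    · rw [hyp]; exact hgp g
    by_cases hyq : y = q
    · rw [hyq]; exact hgq g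
    exact hg y ((hmem y).mpr ⟨hyq, hyp⟩)
  · intro y1 hy1 y2 hy2 z1 hz1 z2 hz2 hy hz
    rw [hmem] at hy1 hy2 hz1 hz2
    obtain ⟨g, hg, h1, h2, h3, h4⟩ := exists_map_four hpq (Ne.symm hy1.2) (Ne.symm hy2.2)
      (Ne.symm hy1.1) (Ne.symm hy2.1) hy hpq (Ne.symm hz1.2) (Ne.symm hz2.2)
      (Ne.symm hz1.1) (Ne.symm hz2.1) hz
    exact ⟨⟨⟨g, hg⟩, Subgroup.mem_inf.mpr ⟨h1, h2⟩⟩, h3, h4⟩
  · rw [card_two_point_stabilizer p q hpq]
  · intro g S hS hfix
    have : ((g : M24) : Equiv.Perm GolayPt) = 1 := by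
      apply eq_one_of_nine_fixed (g : M24).2
      apply le_trans hS (Finset.card_le_card _)
      intro x hx
      rw [Finset.mem_filter]
      exact ⟨Finset.mem_univ _, hfix x hx⟩
    apply Subtype.ext
    apply Subtype.ext
    exact this

end Cfsg.Agent.Lib.Helper1_Chain
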