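import Mathlib
import Cfsg.Agent.Lib.Helper1_M24c
set_option autoImplicit false
open Cfsg
open scoped Pointwise
namespace Cfsg.Agent.Lib.Helper1_Chain
open Cfsg.Agent.Lib.Helper1_Golay

/-- the five letters: shift, its inverse, `projInv`, `cubeTwist`, and the fourth power of
`cubeTwist` -/
def letterFun (k : ℕ) (p : GolayPt) : GolayPt :=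
  if k = 0 then Equiv.optionCongr (Equiv.addRight (1 : ZMod 23)) p
  else if k = 1 then (Equiv.optionCongr (Equiv.addRight (1 : ZMod 23))).symm p
  else if k = 2 then projInv p
  else if k = 3 then cubeTwistFun p
  else cubeTwistFun (cubeTwistFun (cubeTwistFun (cubeTwistFun p)))

/-- evaluate a word in the letters (rightmost letter acts first) -/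
def evalWord (w : List ℕ) (p : GolayPt) : GolayPt := w.foldr (fun k q => letterFun k q) p

/-- words for the transversal tables -/
def tableWords : List (List ℕ) := [
  [],
  [0],
  [0, 0],
  [0, 0, 0],
  [0, 0, 0, 0],
  [0, 0, 0, 0, 0],
  [0, 0, 0, 0, 0, 0],
  [0, 0, 0, 0, 0, 0, 0],
  [0, 0, 0, 0, 0, 0, 0, 0],
  [0, 0, 0, 0, 0, 0, 0, 0, 0],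
  [0, 0, 0, 0, 0, 0, 0, 0, 0, 0],
  [0, 0, 0, 0, 0, 0, 0, 0, 0, 0, 0],
  [1, 1, 1, 1, 1, 1, 1, 1, 1, 1, 1],
  [1, 1, 1, 1, 1, 1, 1, 1, 1, 1],
  [1, 1, 1, 1, 1, 1, 1, 1, 1],
  [1, 1, 1, 1, 1, 1, 1, 1],
  [1, 1, 1, 1, 1, 1, 1],
  [1, 1, 1, 1, 1, 1],
  [1, 1, 1, 1, 1],
  [1, 1, 1, 1],
  [1, 1, 1],
  [1, 1],
  [1],
  [2],
  [1, 3, 1, 3, 0, 4, 0, 0, 4, 0, 4, 0, 3],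
  [1, 3, 1, 3, 1, 1, 3, 1, 4, 0, 4, 0, 4],
  [0, 3, 0, 3, 1, 1, 4, 0, 4, 1, 4, 4, 1, 1, 4],
  [2, 3, 3, 1, 1, 1, 1, 1, 1, 2],
  [3, 0, 0, 3, 3, 0, 3, 1, 3, 0, 0, 4, 1, 4, 1],
  [3, 3, 1, 1, 1, 1, 1, 1, 1, 1, 2, 1, 1, 2, 0],
  [3, 1, 3, 1, 3, 0, 4, 0, 0, 4, 0, 4, 0],
  [4, 0, 4, 1, 1, 3, 1, 3, 1, 1, 3, 3, 0, 3, 1],
  [3, 3, 0, 0, 2, 0, 0, 2, 1, 1, 1, 1, 1, 1, 1],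
  [3, 3, 1, 1, 2, 1, 1, 1, 2, 1, 1, 1, 1, 2, 0],
  [4, 1, 3, 1, 3, 1, 1, 3, 1, 4, 0, 4, 0],
  [3, 0, 4, 1, 4, 4, 0, 0, 4, 0, 4, 0, 0, 3, 1],
  [0, 0, 0, 2, 4, 1, 2, 4, 4, 1, 3, 3, 0, 0, 3, 0],
  [2, 0, 0, 2, 3, 1, 1, 2, 1, 3, 0, 2, 1, 1, 1, 4],
  [0, 4, 1, 1, 3, 1, 3, 1, 1, 3, 3, 0, 3, 1, 4],
  [0, 3, 0, 2, 3, 3, 1, 3, 0, 2, 4, 1, 1, 3, 0, 3],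
  [0, 4, 1, 4, 4, 0, 0, 4, 0, 4, 0, 0, 3, 1, 3],
  [3, 3, 0, 0, 0, 0, 2, 0, 0, 0, 0, 0, 0],
  [3, 3, 1, 1, 2, 1, 1, 1, 1, 2, 0, 0, 0],
  [2, 0, 4, 0, 3, 0, 0, 0, 2, 4, 0, 0, 4, 0, 4, 1],
  [4, 4, 1, 2, 0, 0, 0, 0, 0, 2, 0, 0, 0, 0],
  [1, 3, 0, 2, 4, 0, 4, 1, 3, 3, 0, 3, 3, 0, 3],
  [2, 1, 3, 0, 0, 3, 1, 3, 1, 3, 1, 1, 4, 1, 2],
  [0, 3, 0, 2, 3, 3, 1, 3, 0, 2, 4, 1, 1, 3, 0, 3, 3],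
  [2, 3, 3, 1, 1, 1, 1, 1, 1, 2, 3, 3],
  [2, 3, 1, 3, 1, 3, 1, 1, 3, 1, 4, 0, 4, 0, 2],
  [3, 3, 0, 0, 0, 0, 2, 0, 0, 0, 0, 0, 0, 4],
  [4, 4, 1, 3, 1, 3, 0, 4, 0, 0, 4, 0, 4, 0, 4],
  [1, 1, 3, 3, 1, 1, 3, 3, 1, 4, 1, 4, 4, 0, 4],
  [2, 0, 4, 0, 4, 1, 1, 4, 1, 1, 3, 1, 1, 3, 0, 2],
  [0, 3, 1, 2, 4, 1, 1, 1, 4, 1, 2, 0, 3, 1, 2],
  [0, 3, 0, 4, 0, 0, 2, 4, 1, 4, 1, 3, 1, 3, 0],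
  [4, 1, 1, 2, 1, 1, 1, 2, 1, 1, 1, 1, 2, 0, 3],
  [0, 2, 3, 1, 1, 4, 1, 1, 1, 4, 1, 2, 3, 0, 2],
  [3, 1, 3, 1, 1, 3, 3, 0, 2, 3, 1, 2, 0, 3],
  [3, 1, 3, 1, 3, 1, 1, 3, 1, 4, 0, 4, 0, 3, 3],
  [3, 3, 1, 1, 1, 2, 1, 1, 2, 0, 0, 0, 2, 1, 4, 4],
  [1, 4, 1, 1, 4, 0, 4, 4, 1, 2, 3, 3, 1, 4, 4, 1, 3],
  [2, 3, 1, 4, 4, 0, 4, 1, 1, 3, 1, 3, 1, 2, 4],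
  [4, 4, 1, 2, 4, 0, 2, 3, 0, 0, 0, 2, 1, 3, 1],
  [2, 1, 4, 0, 3, 0, 0, 3, 3, 1, 1, 4, 0, 2, 3, 3],
  [2, 4, 4, 1, 3, 0, 3, 0, 0, 4, 1, 4, 0, 2, 4],
  [2, 3, 1, 3, 0, 4, 0, 0, 4, 0, 4, 0, 2, 3],
  [2, 0, 0, 0, 3, 1, 1, 4, 0, 0, 4, 1, 4, 0, 0, 2],
  [1, 3, 3, 1, 3, 1, 1, 1, 3, 1, 3, 1, 3, 3, 0],
  [4, 1, 2, 0, 4, 4, 0, 2, 1, 4, 0, 3, 3],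
  [0, 3, 0, 2, 1, 1, 4, 1, 3, 3, 1, 3, 1, 1, 4],
  [4, 1, 1, 2, 3, 1, 3, 1, 4, 4, 0, 3],
  [2, 1, 1, 3, 1, 1, 4, 4, 0, 3, 0, 4, 0, 0, 2, 3],
  [1, 1, 2, 3, 0, 4, 0, 4, 1, 2, 4, 1, 1, 4],
  [0, 0, 0, 2, 0, 4, 1, 3, 1, 4, 4, 1, 1, 4, 1, 1],
  [0, 2, 0, 0, 0, 3, 0, 4, 1, 4, 1, 2, 3, 3, 1],
  [0, 2, 3, 3, 1, 3, 1, 3, 3, 0, 2, 3, 0, 2],
  [4, 4, 1, 3, 3, 0, 3, 0, 4, 4, 0, 2, 3, 0, 0],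
  [0, 2, 4, 4, 1, 2, 3, 1, 3, 0, 4, 1, 2, 0, 4, 4, 1],
  [2, 4, 1, 4, 4, 0, 4, 0, 4, 4, 0, 0, 4, 4, 1, 2],
  [0, 2, 1, 4, 4, 1, 4, 4, 0, 2, 4, 0, 0, 4, 1, 1, 2],
  [1, 1, 1, 1, 1, 2, 1, 3, 1, 2, 3, 3, 0, 2, 1, 1],
  [0, 4, 4, 1, 1, 4, 1, 4, 1, 4, 0, 3, 3, 1],
  [2, 4, 4, 0, 0, 0, 0, 4, 4, 1, 4, 1, 3, 0, 2, 4],
  [1, 4, 1, 4, 0, 3, 1, 2, 3, 0, 2, 1, 3, 3, 1],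
  [3, 0, 4, 1, 4, 1, 2, 0, 3, 3, 1, 3, 3, 1, 3],
  [4, 0, 4, 0, 2, 3, 0, 4, 1, 3, 3, 0, 4, 1, 4, 0],
  [2, 1, 4, 4, 1, 4, 1, 4, 4, 0, 4, 4, 0, 2, 4, 4],
  [4, 1, 1, 2, 3, 3, 1, 1, 1, 2, 3, 3, 0, 4],
  [0, 0, 2, 3, 1, 2, 3, 3, 1, 2, 3, 1, 2, 0, 0, 3],
  [0, 3, 3, 1, 4, 4, 1, 3, 3, 1, 2, 0, 0, 4, 0, 2],
  [0, 0, 3, 1, 2, 3, 1, 1, 1, 2, 0, 0, 2, 1, 4, 4, 1],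
  [0, 0, 4, 0, 0, 2, 0, 3, 0, 0, 2, 3, 0],
  [0, 3, 0, 2, 3, 3, 0, 4, 0, 4, 0, 0, 2, 1, 4],
  [0, 2, 4, 4, 1, 2, 0, 4, 1, 4, 0, 2, 1, 3, 3, 1, 3],
  [0, 3, 1, 3, 1, 2, 3, 1, 1, 4, 1, 1, 3, 0],
  [1, 3, 0, 4, 4, 1, 2, 3, 1, 1, 4, 1, 3, 1, 1],
  [0, 4, 0, 0, 2, 0, 4, 4, 0, 3, 0, 2, 1, 3],
  [2, 0, 3, 3, 0, 3, 1, 4, 1, 1, 4, 4, 1, 1, 2],
  [3, 3, 0, 0, 4, 1, 1, 4, 1, 2, 4, 0, 0, 0, 4],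
  [1, 2, 0, 0, 3, 0, 4, 0, 4, 1, 1, 2, 1, 4, 1, 3],
  [2, 1, 3, 1, 1, 2, 0, 4, 4, 0, 3, 3, 0, 4, 4, 1],
  [2, 1, 4, 1, 4, 0, 3, 0, 3, 0, 3, 3, 0, 2, 3],
  [2, 3, 1, 3, 0, 0, 4, 4, 0, 0, 0, 2, 4, 4],
  [2, 1, 4, 1, 3, 0, 4, 0, 4, 1, 3, 0, 4, 1, 2, 3],
  [1, 1, 3, 0, 4, 0, 4, 0, 4, 0, 4, 0, 2, 1, 3, 0, 0],
  [0, 2, 1, 4, 0, 0, 4, 1, 3, 3, 0, 3, 0, 0, 0, 2, 1],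
  [1, 3, 0, 3, 1, 4, 4, 1, 2, 0, 4, 0, 4, 0, 4, 0],
  [1, 2, 4, 0, 0, 0, 4, 1, 4, 4, 0, 4, 0, 4],
  [4, 1, 2, 4, 1, 1, 3, 3, 1, 1, 1, 2, 0, 4, 4, 0],
  [0, 4, 1, 2, 4, 1, 3, 0, 4, 0, 3, 0, 4, 1, 4],
  [1, 1, 2, 1, 4, 1, 3, 0, 2, 1, 1, 2, 3, 0, 3, 0, 2],
  [0, 0, 4, 0, 2, 3, 3, 0, 0, 3, 1, 1, 3, 0, 0],
  [3, 0, 2, 3, 0, 2, 4, 0, 0, 4, 4, 1, 3, 0, 0],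
  [0, 4, 1, 2, 3, 3, 1, 4, 0, 0, 2, 1, 3, 1, 2],
  [0, 0, 2, 3, 1, 2, 3, 0, 0, 3, 1, 3, 1, 3, 3, 0],
  [0, 3, 0, 4, 0, 0, 3, 0, 2, 4, 0, 2, 3, 0, 4],
  [1, 3, 1, 2, 0, 3, 0, 4, 1, 1, 4, 0, 0, 4, 4, 0],
  [1, 1, 1, 2, 3, 3, 0, 3, 3, 1, 3, 1, 2, 0, 4],
  [4, 4, 1, 2, 4, 4, 1, 3, 3, 0, 0, 3, 1, 4, 1],
  [1, 4, 0, 2, 4, 0, 3, 0, 0, 3, 3, 0, 0, 2, 0, 4],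
  [3, 3, 1, 1, 3, 0, 0, 3, 1, 4, 1, 2, 0, 4],
  [3, 1, 2, 0, 3, 0, 4, 1, 1, 4, 0, 0, 4, 4]]

set_option maxRecDepth 1000000 in
theorem tables_words : ∀ t ∈ tables, ∃ w ∈ tableWords, ∀ p, tfun t p = evalWord w p := by
  decide +kernel

end Cfsg.Agent.Lib.Helper1_Chain
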