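import Mathlib
import Cfsg.Agent.Lib.Helper1_M24gen
import Cfsg.Agent.S0370
import Cfsg.Agent.S0372
import Cfsg.Agent.S0373
set_option autoImplicit false
open Cfsg
open scoped Pointwise
namespace Cfsg.Agent.Lib.Helper1_Chain
open Cfsg.Agent.Lib.Helper1_Golay

/-- the subgroup generated by the shift, `projInv` and `cubeTwist` -/
def Hgen : Subgroup (Equiv.Perm GolayPt) :=
  Subgroup.closure {Equiv.optionCongr (Equiv.addRight (1 : ZMod 23)), projInv, cubeTwist}

theorem shift_mem_Hgen : Equiv.optionCongr (Equiv.addRight (1 : ZMod 23)) ∈ Hgen :=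
  Subgroup.subset_closure (by simp)

theorem projInv_mem_Hgen : projInv ∈ Hgen :=
  Subgroup.subset_closure (by simp)

theorem cubeTwist_mem_Hgen : cubeTwist ∈ Hgen :=
  Subgroup.subset_closure (by simp)

theorem Hgen_le_M24 : Hgen ≤ M24 := by
  unfold Hgen
  rw [Subgroup.closure_le]
  intro g hg
  rcases hg with rfl | rfl | rfl
  · exact Cfsg.Agent.S0370.result
  · exact Cfsg.Agent.S0372.result
  · exact Cfsg.Agent.S0373.result

theorem letter_mem (k : ℕ) : ∃ h ∈ Hgen, ∀ p, h p = letterFun k p := by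
  unfold letterFun
  by_cases h0 : k = 0
  · exact ⟨_, shift_mem_Hgen, fun p => by rw [if_pos h0]⟩
  by_cases h1 : k = 1
  · exact ⟨_, Hgen.inv_mem shift_mem_Hgen, fun p => by rw [if_neg h0, if_pos h1]; rfl⟩
  by_cases h2 : k = 2
  · exact ⟨_, projInv_mem_Hgen, fun p => by rw [if_neg h0, if_neg h1, if_pos h2]⟩
  by_cases h3 : k = 3
  · exact ⟨_, cubeTwist_mem_Hgen, fun p => by rw [if_neg h0, if_neg h1, if_neg h2, if_pos h3]; rfl⟩
  · refine ⟨cubeTwist * cubeTwist * cubeTwist * cubeTwist,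
      Hgen.mul_mem (Hgen.mul_mem (Hgen.mul_mem cubeTwist_mem_Hgen cubeTwist_mem_Hgen)
        cubeTwist_mem_Hgen) cubeTwist_mem_Hgen, fun p => ?_⟩
    rw [if_neg h0, if_neg h1, if_neg h2, if_neg h3]
    rfl

theorem evalWord_mem (w : List ℕ) : ∃ h ∈ Hgen, ∀ p, h p = evalWord w p := by
  induction w with
  | nil => exact ⟨1, Hgen.one_mem, fun p => rfl⟩
  | cons k w ih =>
    obtain ⟨h, hh, hhw⟩ := ih
    obtain ⟨l, hl, hlk⟩ := letter_mem k
    refine ⟨l * h, Hgen.mul_mem hl hh, fun p => ?_⟩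
    rw [Equiv.Perm.mul_apply, hhw, hlk]
    rfl

theorem table_mem_Hgen {t : List ℕ} (ht : t ∈ tables) {σ : Equiv.Perm GolayPt}
    (hσt : ∀ p, σ p = tfun t p) : σ ∈ Hgen := by
  obtain ⟨w, _, hw⟩ := tables_words t ht
  obtain ⟨h, hh, hhw⟩ := evalWord_mem w
  have : σ = h := by
    apply Equiv.ext
    intro p
    rw [hσt, hw, hhw]
  rw [this]; exact hh

theorem sift : ∀ k i : ℕ, i + k = 7 → ∀ g ∈ pstab M24 (Fset i), g ∈ Hgen
  | 0 => by
    intro i hi g hg
    have hi7 : i = 7 := by omega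
    subst hi7
    have : g = 1 := Equiv.ext fun p => rigid hg p
    rw [this]; exact Hgen.one_mem
  | k + 1 => by
    intro i hi g hg
    have hi7 : i < 7 := by omega
    have hy := step_h1 i hi7 hg
    obtain ⟨t, ht, htfix, hty⟩ := tables_trans ⟨i, hi7⟩ _ hy
    obtain ⟨σ, hσ, hσt⟩ := exists_perm_of_good (tables_good t ht)
    have hσH : σ ∈ Hgen := table_mem_Hgen ht hσt
    have hk : σ⁻¹ * g ∈ pstab M24 (Fset (i + 1)) := by
      rw [← insert_bpt_Fset ⟨i, hi7⟩]
      refine ⟨M24.mul_mem (M24.inv_mem hσ) hg.1, fun b hb => ?_⟩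
      rw [Equiv.Perm.mul_apply, Equiv.Perm.inv_eq_iff_eq]
      rcases Finset.mem_insert.mp hb with rfl | hb
      · rw [hσt]; exact hty.symm
      · rw [hg.2 b hb, hσt, htfix b hb]
    have := sift k (i + 1) (by omega) _ hk
    have h2 : g = σ * (σ⁻¹ * g) := by group
    rw [h2]
    exact Hgen.mul_mem hσH this

theorem M24_eq_Hgen : Hgen = M24 := by
  apply le_antisymm Hgen_le_M24
  intro g hg
  apply sift 7 0 (by decide) g
  have : Fset 0 = ∅ := rfl
  rw [this, pstab_empty]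
  exact hg

end Cfsg.Agent.Lib.Helper1_Chain
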