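import Mathlib

set_option autoImplicit false

/-! Minimal normal subgroups of finite solvable groups, and primitive solvable groups. -/

namespace Cfsg.Agent.Lib.Helper1_MinNormal

/-- A minimal normal subgroup of a solvable group is abelian. -/
theorem comm_of_minimal_normal {G : Type*} [Group G] [Group.IsSolvable G] (M : Subgroup G)
    [M.Normal] (hmin : ∀ K : Subgroup G, K.Normal → K ≤ M → K = ⊥ ∨ K = M) :
    ∀ x ∈ M, ∀ y ∈ M, x * y = y * x := by
  have hn : (⁅M, M⁆ : Subgroup G).Normal := inferInstance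
  rcases hmin ⁅M, M⁆ hn (Subgroup.commutator_le_left M M) with h | h
  · intro x hx y hy
    rw [← commutatorElement_eq_one_iff_mul_comm, ← Subgroup.mem_bot, ← h]
    exact Subgroup.commutator_mem_commutator hx hy
  · -- M ≤ derived series
    have key : ∀ n, M ≤ derivedSeries G n := by
      intro n
      induction n with
      | zero => simp
      | succ n ih =>
        rw [derivedSeries_succ]
        calc M = ⁅M, M⁆ := h.symm
          _ ≤ _ := Subgroup.commutator_mono ih ih
    obtain ⟨n, hn⟩ := (Group.isSolvable_def G).mp inferInstance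
    have hM : M = ⊥ := by
      rw [eq_bot_iff, ← hn]; exact key n
    intro x hx y hy
    rw [hM, Subgroup.mem_bot] at hx hy
    rw [hx, hy]

/-- A minimal normal subgroup of a finite solvable group is a `p`-group of exponent `p`. -/
theorem exists_prime_pow_eq_one {G : Type*} [Group G] [Finite G] [Group.IsSolvable G]
    (M : Subgroup G) [M.Normal] (hM : M ≠ ⊥)
    (hmin : ∀ K : Subgroup G, K.Normal → K ≤ M → K = ⊥ ∨ K = M) :
    ∃ p : ℕ, p.Prime ∧ ∀ x ∈ M, x ^ p = 1 := by
  have hcomm := comm_of_minimal_normal M hmin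
  have hcard : 1 < Nat.card M := by
    rw [Subgroup.one_lt_card_iff_ne_bot]; exact hM
  obtain ⟨p, hp, hpd⟩ := Nat.exists_prime_and_dvd hcard.ne'
  have : Fact p.Prime := ⟨hp⟩
  refine ⟨p, hp, ?_⟩
  obtain ⟨x, hx⟩ := exists_prime_orderOf_dvd_card' p hpd
  -- the p-torsion subgroup
  let T : Subgroup G :=
    { carrier := {x | x ∈ M ∧ x ^ p = 1}
      mul_mem' := by
        rintro a b ⟨ha, ha'⟩ ⟨hb, hb'⟩
        refine ⟨M.mul_mem ha hb, ?_⟩
        have hc : Commute a b := hcomm a ha b hb
        rw [hc.mul_pow, ha', hb', one_mul]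
      one_mem' := ⟨M.one_mem, one_pow _⟩
      inv_mem' := by
        rintro a ⟨ha, ha'⟩
        exact ⟨M.inv_mem ha, by rw [inv_pow, ha', inv_one]⟩ }
  have hTn : T.Normal := by
    constructor
    rintro n ⟨hn, hn'⟩ g
    refine ⟨‹M.Normal›.conj_mem n hn g, ?_⟩
    rw [conj_pow, hn', mul_one, mul_inv_cancel]
  have hTM : T ≤ M := fun a ha => ha.1
  rcases hmin T hTn hTM with h | h
  · exfalso
    have hxT : (x : G) ∈ T := by
      refine ⟨x.2, ?_⟩
      have : x ^ p = 1 := by rw [← hx]; exact pow_orderOf_eq_one x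
      have h2 := congrArg Subtype.val this
      simpa using h2
    rw [h, Subgroup.mem_bot] at hxT
    have : x = 1 := Subtype.ext hxT
    rw [this, orderOf_one] at hx
    exact hp.one_lt.ne hx
  · intro y hy
    rw [← h] at hy
    exact hy.2

/-- A minimal normal subgroup of a finite solvable group has prime power order. -/
theorem exists_card_eq_prime_pow {G : Type*} [Group G] [Finite G] [Group.IsSolvable G]
    (M : Subgroup G) [M.Normal] (hM : M ≠ ⊥)
    (hmin : ∀ K : Subgroup G, K.Normal → K ≤ M → K = ⊥ ∨ K = M) :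
    ∃ p d : ℕ, p.Prime ∧ 0 < d ∧ Nat.card M = p ^ d := by
  obtain ⟨p, hp, hpow⟩ := exists_prime_pow_eq_one M hM hmin
  have : Fact p.Prime := ⟨hp⟩
  have hpg : IsPGroup p M := by
    intro x
    refine ⟨1, ?_⟩
    rw [pow_one]
    apply Subtype.ext
    have := hpow x x.2
    simpa using this
  obtain ⟨d, hd⟩ := IsPGroup.iff_card.mp hpg
  refine ⟨p, d, hp, ?_, hd⟩
  rcases Nat.eq_zero_or_pos d with h0 | h0
  · exfalso
    rw [h0, pow_zero] at hd
    have hcard : 1 < Nat.card M := by
      rw [Subgroup.one_lt_card_iff_ne_bot]; exact hM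
    omega
  · exact h0

section Primitive

variable {G : Type*} [Group G] {Ω : Type*} [MulAction G Ω] [FaithfulSMul G Ω]

/-- In a faithful preprimitive action, a nontrivial normal subgroup is transitive. -/
theorem isPretransitive_of_normal (hprim : MulAction.IsPreprimitive G Ω) (M : Subgroup G)
    [M.Normal] (hM : M ≠ ⊥) : MulAction.IsPretransitive M Ω := by
  apply MulAction.IsQuasiPreprimitive.isPretransitive_of_normal (N := M)
  intro hfix
  apply hM
  rw [eq_bot_iff]
  intro m hm
  rw [Subgroup.mem_bot]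
  apply FaithfulSMul.eq_of_smul_eq_smul (α := Ω)
  intro ω
  rw [one_smul]
  have : ω ∈ MulAction.fixedPoints M Ω := by rw [hfix]; trivial
  exact this ⟨m, hm⟩

/-- An element of `G` centralizing a transitive subgroup `M` and fixing a point is trivial. -/
theorem eq_one_of_centralizes_of_fixes (M : Subgroup G) (hMt : MulAction.IsPretransitive M Ω)
    (ω : Ω) (h : G) (hfix : h • ω = ω) (hcent : ∀ m ∈ M, h * m = m * h) : h = 1 := by
  apply FaithfulSMul.eq_of_smul_eq_smul (α := Ω)
  intro ω'
  rw [one_smul]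
  obtain ⟨m, hm⟩ := hMt.exists_smul_eq ω ω'
  rw [← hm]
  show h • ((m : G) • ω) = (m : G) • ω
  rw [← mul_smul, hcent m m.2, mul_smul, hfix]

end Primitive

end Cfsg.Agent.Lib.Helper1_MinNormal
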