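import Cfsg.Prelude.Def_Perm
import Mathlib

set_option autoImplicit false
open Cfsg

namespace Cfsg.Agent.Lib.Helper1_NearField

variable {F : Type*} [Cfsg.NearField F]

theorem nf_add_mul (a b c : F) : (a + b) * c = a * c + b * c := NearField.right_distrib a b c

theorem nf_mul_zero (a : F) : a * 0 = 0 := NearField.mul_zero a

theorem nf_zero_mul (a : F) : (0 : F) * a = 0 := by
  have h := nf_add_mul (0 : F) 0 a
  rw [add_zero] at h
  have h2 : (0 : F) * a + 0 = 0 * a + 0 * a := by rw [add_zero]; exact h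
  exact (add_left_cancel h2).symm

theorem nf_neg_mul (a c : F) : (-a) * c = -(a * c) := by
  have h := nf_add_mul (-a) a c
  rw [neg_add_cancel, nf_zero_mul] at h
  exact (neg_eq_of_add_eq_zero_left h.symm).symm

theorem nf_sub_mul (a b c : F) : (a - b) * c = a * c - b * c := by
  rw [sub_eq_add_neg, nf_add_mul, nf_neg_mul, ← sub_eq_add_neg]

theorem nf_zero_ne_one : (0 : F) ≠ 1 := NearField.zero_ne_one

theorem nf_exists_inv (a : F) (ha : a ≠ 0) : ∃ b : F, a * b = 1 ∧ b * a = 1 :=
  NearField.exists_inv a ha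

theorem nf_mul_ne_zero {a b : F} (ha : a ≠ 0) (hb : b ≠ 0) : a * b ≠ 0 := by
  intro h
  obtain ⟨b', hb1, _⟩ := nf_exists_inv b hb
  apply ha
  calc a = a * (b * b') := by rw [hb1, mul_one]
    _ = (a * b) * b' := (mul_assoc _ _ _).symm
    _ = 0 := by rw [h, nf_zero_mul]

theorem nf_mul_right_cancel {a c b : F} (hb : b ≠ 0) (h : a * b = c * b) : a = c := by
  obtain ⟨b', hb1, _⟩ := nf_exists_inv b hb
  calc a = a * (b * b') := by rw [hb1, mul_one]
    _ = (a * b) * b' := (mul_assoc _ _ _).symm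
    _ = (c * b) * b' := by rw [h]
    _ = c * (b * b') := mul_assoc _ _ _
    _ = c := by rw [hb1, mul_one]

theorem nf_inv_ne_zero {a b : F} (h : a * b = 1) : b ≠ 0 := by
  intro hb
  rw [hb, nf_mul_zero] at h
  exact nf_zero_ne_one h

/-- The affine permutation `x ↦ x * a + b`. -/
noncomputable def affPerm (a b : F) (ha : a ≠ 0) : Equiv.Perm F where
  toFun x := x * a + b
  invFun y := (y - b) * Classical.choose (nf_exists_inv a ha)
  left_inv x := by
    have h := (Classical.choose_spec (nf_exists_inv a ha)).1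
    simp only [add_sub_cancel_right]
    rw [mul_assoc, h, mul_one]
  right_inv y := by
    have h := (Classical.choose_spec (nf_exists_inv a ha)).2
    simp only
    rw [mul_assoc, h, mul_one, sub_add_cancel]

@[simp] theorem affPerm_apply (a b : F) (ha : a ≠ 0) (x : F) : affPerm a b ha x = x * a + b := rfl

/-- The group of affine maps of a near-field. -/
def affSub (F : Type*) [Cfsg.NearField F] : Subgroup (Equiv.Perm F) where
  carrier := {σ | ∃ a b : F, a ≠ 0 ∧ ∀ x : F, σ x = x * a + b}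
  one_mem' := ⟨1, 0, nf_zero_ne_one.symm, fun x => by simp⟩
  mul_mem' := by
    rintro σ τ ⟨a, b, ha, hσ⟩ ⟨c, d, hc, hτ⟩
    refine ⟨c * a, d * a + b, nf_mul_ne_zero hc ha, fun x => ?_⟩
    rw [Equiv.Perm.mul_apply, hτ, hσ, nf_add_mul, mul_assoc, add_assoc]
  inv_mem' := by
    rintro σ ⟨a, b, ha, hσ⟩
    obtain ⟨a', h1, h2⟩ := nf_exists_inv a ha
    refine ⟨a', (-b) * a', nf_inv_ne_zero h1, fun x => ?_⟩
    apply σ.injective
    rw [show σ (σ⁻¹ x) = x by simp, hσ, nf_add_mul, mul_assoc, mul_assoc, h2, mul_one, mul_one,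
      add_assoc, neg_add_cancel, add_zero]

theorem mem_affSub (σ : Equiv.Perm F) :
    σ ∈ affSub F ↔ ∃ a b : F, a ≠ 0 ∧ ∀ x : F, σ x = x * a + b := Iff.rfl

theorem affPerm_mem (a b : F) (ha : a ≠ 0) : affPerm a b ha ∈ affSub F :=
  ⟨a, b, ha, fun _ => rfl⟩

end Cfsg.Agent.Lib.Helper1_NearField
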