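import Mathlib
import Cfsg.Agent.Lib.Helper1_M12d
set_option autoImplicit false
open Cfsg
open scoped Pointwise
namespace Cfsg.Agent.Lib.Helper1_Chain
open Cfsg.Agent.Lib.Helper1_Golay

theorem maskSet_inj {a b : ℕ} (ha : a < 2 ^ 24) (hb : b < 2 ^ 24) (h : maskSet a = maskSet b) :
    a = b := by
  have h' : natWord a = natWord b := by
    rw [← ind_support₂ (natWord a), ← ind_support₂ (natWord b), ← maskSet_eq_support₂,
      ← maskSet_eq_support₂]
    exact congrArg ind h
  exact natWord_injOn ha hb h'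

theorem and_lt_two_pow {a b : ℕ} (hb : b < 2 ^ 24) : a &&& b < 2 ^ 24 :=
  lt_of_le_of_lt Nat.and_le_right hb

/-- the words of weight `w` satisfying a mask-decidable property, as an explicit image -/
theorem words_filter_eq (w : ℕ) (Q : Finset GolayPt → Prop) (Qm : ℕ → Prop) [DecidablePred Qm]
    (h : ∀ n, n < 2 ^ 24 → (Q (maskSet n) ↔ Qm n)) :
    {o : Finset GolayPt | o ∈ wordsOfWeight (golayCode : Set (GolayPt → ZMod 2)) w ∧ Q o} =
      maskSet '' {n | n ∈ (allWords rows).filter (fun n => popc n = w ∧ Qm n)} := by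
  ext o
  constructor
  · rintro ⟨ho, hq⟩
    rw [wordsOfWeight_eq] at ho
    obtain ⟨n, hn, hno⟩ := ho
    have hno' : o = maskSet n := by rw [maskSet_eq_support₂]; exact hno.symm
    subst hno'
    rw [Set.mem_ofPred_eq, List.mem_filter] at hn
    refine ⟨n, ?_, rfl⟩
    rw [Set.mem_ofPred_eq, List.mem_filter]
    refine ⟨hn.1, ?_⟩
    simp only [decide_eq_true_eq] at hn ⊢
    exact ⟨hn.2, (h n (allWords_lt n hn.1)).1 hq⟩
  · rintro ⟨n, hn, rfl⟩
    rw [Set.mem_ofPred_eq, List.mem_filter] at hn
    simp only [decide_eq_true_eq] at hn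
    refine ⟨?_, (h n (allWords_lt n hn.1)).2 hn.2.2⟩
    rw [wordsOfWeight_eq]
    refine ⟨n, ?_, (maskSet_eq_support₂ n).symm⟩
    rw [Set.mem_ofPred_eq, List.mem_filter]
    exact ⟨hn.1, by simpa using hn.2.1⟩

theorem smul_mem_wordsOfWeight {σ : Equiv.Perm GolayPt} (hσ : σ ∈ M24) {w : ℕ} {b : Finset GolayPt}
    (hb : b ∈ wordsOfWeight (golayCode : Set (GolayPt → ZMod 2)) w) :
    σ • b ∈ wordsOfWeight (golayCode : Set (GolayPt → ZMod 2)) w := by
  refine ⟨smul_mem_of_mem_M24 hσ hb.1, ?_⟩
  rw [Finset.card_smul_finset]; exact hb.2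

theorem words_smul {g : Equiv.Perm GolayPt} (hg : g ∈ M24) (w : ℕ) (Q : Finset GolayPt → Prop) :
    {o : Finset GolayPt | o ∈ wordsOfWeight (golayCode : Set (GolayPt → ZMod 2)) w ∧ Q (g⁻¹ • o)} =
      (fun o => g • o) ''
        {o : Finset GolayPt | o ∈ wordsOfWeight (golayCode : Set (GolayPt → ZMod 2)) w ∧ Q o} := by
  ext o
  constructor
  · rintro ⟨ho, hq⟩
    exact ⟨g⁻¹ • o, ⟨smul_mem_wordsOfWeight (M24.inv_mem hg) ho, hq⟩, smul_inv_smul g o⟩
  · rintro ⟨o', ⟨ho', hq⟩, rfl⟩
    refine ⟨smul_mem_wordsOfWeight hg ho', ?_⟩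
    change Q (g⁻¹ • g • o')
    rw [inv_smul_smul]; exact hq

/-- counting words of weight `w` with a property transported by an element of `M24` -/
theorem ncard_words_smul {g : Equiv.Perm GolayPt} (hg : g ∈ M24) (w : ℕ)
    (Q : Finset GolayPt → Prop) (Qm : ℕ → Prop) [DecidablePred Qm]
    (h : ∀ n, n < 2 ^ 24 → (Q (maskSet n) ↔ Qm n)) :
    {o : Finset GolayPt | o ∈ wordsOfWeight (golayCode : Set (GolayPt → ZMod 2)) w ∧
      Q (g⁻¹ • o)}.ncard = ((allWords rows).filter (fun n => popc n = w ∧ Qm n)).length := by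
  rw [words_smul hg, Set.ncard_image_of_injective _ (MulAction.injective g),
    words_filter_eq w Q Qm h, ncard_image_maskSet]

/-- a list of five distinct points of `t` whose first `k` entries enumerate `s` -/
theorem exists_enum {s t : Finset GolayPt} {k : ℕ} (hst : s ⊆ t) (hs : s.card = k)
    (ht : t.card = 5) :
    ∃ x : ℕ → GolayPt, (∀ i < 5, ∀ j < 5, x i = x j → i = j) ∧ (∀ i < 5, x i ∈ t) ∧
      ∀ i < 5, (x i ∈ s ↔ i < k) := by
  classical
  have hk5 : k ≤ 5 := by rw [← hs, ← ht]; exact Finset.card_le_card hst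
  have hsl : s.toList.length = k := by rw [Finset.length_toList, hs]
  have htl : (t \ s).toList.length = 5 - k := by
    rw [Finset.length_toList, Finset.card_sdiff_of_subset hst, hs, ht]
  have hlen : (s.toList ++ (t \ s).toList).length = 5 := by
    rw [List.length_append, hsl, htl]; omega
  have hnd : (s.toList ++ (t \ s).toList).Nodup := by
    rw [List.nodup_append]
    refine ⟨Finset.nodup_toList _, Finset.nodup_toList _, ?_⟩
    intro a ha b hb hab
    rw [Finset.mem_toList] at ha hb
    rw [hab] at ha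
    exact (Finset.mem_sdiff.1 hb).2 ha
  have hget : ∀ i, ∀ hi : i < (s.toList ++ (t \ s).toList).length,
      ((s.toList ++ (t \ s).toList)[i]'hi ∈ s ↔ i < k) ∧
        (s.toList ++ (t \ s).toList)[i]'hi ∈ t := by
    intro i hi
    by_cases hik : i < s.toList.length
    · rw [List.getElem_append_left hik]
      have hm : s.toList[i] ∈ s := by rw [← Finset.mem_toList]; exact List.getElem_mem _
      exact ⟨⟨fun _ => by omega, fun _ => hm⟩, hst hm⟩
    · have hik' : s.toList.length ≤ i := by omega
      rw [List.getElem_append_right hik']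
      have hm : (t \ s).toList[i - s.toList.length]'(by
          rw [List.length_append] at hi; omega) ∈ t \ s := by
        rw [← Finset.mem_toList]; exact List.getElem_mem _
      rw [Finset.mem_sdiff] at hm
      exact ⟨⟨fun h => absurd h hm.2, fun h => by omega⟩, hm.1⟩
  refine ⟨fun i => (s.toList ++ (t \ s).toList).getD i (pt 0), ?_, ?_, ?_⟩
  · intro i hi j hj hij
    simp only at hij
    rw [List.getD_eq_getElem _ _ (by omega), List.getD_eq_getElem _ _ (by omega)] at hij
    exact (List.Nodup.getElem_inj_iff hnd).1 hij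
  · intro i hi
    simp only
    rw [List.getD_eq_getElem _ _ (by omega)]
    exact (hget i (by omega)).2
  · intro i hi
    simp only
    rw [List.getD_eq_getElem _ _ (by omega)]
    exact (hget i (by omega)).1

set_option maxRecDepth 100000 in
theorem Fset5_subset_Omask : Fset 5 ⊆ maskSet Omask := by decide +kernel

theorem mem_Fset_iff_lt {k : ℕ} (hk : k ≤ 5) (i : ℕ) (hi : i < 5) : bpt i ∈ Fset k ↔ i < k := by
  rw [mem_Fset]
  constructor
  · rintro ⟨j, hj, hji⟩
    have : j = i := by
      have hj5 : j < 5 := by omega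
      interval_cases j <;> interval_cases i <;> first | rfl | (exfalso; revert hji; decide +kernel)
    omega
  · intro h
    exact ⟨i, h, rfl⟩

/-- move the standard octad and the first `k` base points to an octad and a `k`-subset of it -/
theorem exists_std {o s : Finset GolayPt} {k : ℕ} (ho : o ∈ octads) (hso : s ⊆ o)
    (hs : s.card = k) (hk : k ≤ 5) :
    ∃ g ∈ M24, g • maskSet Omask = o ∧ g • Fset k = s := by
  classical
  obtain ⟨t, hst, hto, ht⟩ := Finset.exists_subsuperset_card_eq hso (by omega : s.card ≤ 5)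
    (by rw [ho.2]; decide)
  obtain ⟨x, hxinj, hxt, hxs⟩ := exists_enum hst hs ht
  obtain ⟨g, hg, hgx⟩ := exists_map_base_fun x 5 le_rfl hxinj
  refine ⟨g, hg, ?_, ?_⟩
  · apply octads_inter_lt (smul_mem_octads hg (maskSet_mem_octads Omask_isOctad)) ho
    have hsub : (Fset 5).image g ⊆ g • maskSet Omask ∩ o := by
      intro p hp
      rw [Finset.mem_image] at hp
      obtain ⟨q, hq, rfl⟩ := hp
      rw [Finset.mem_inter]
      constructor
      · rw [← Equiv.Perm.smul_def, Finset.smul_mem_smul_finset_iff]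
        exact Fset5_subset_Omask hq
      · rw [mem_Fset] at hq
        obtain ⟨j, hj, rfl⟩ := hq
        rw [hgx j hj]
        exact hto (hxt j hj)
    have hcard : ((Fset 5).image g).card = 5 := by
      rw [Finset.card_image_of_injective _ g.injective]
      decide +kernel
    rw [← hcard]
    exact Finset.card_le_card hsub
  · apply Finset.eq_of_subset_of_card_le
    · intro p hp
      rw [← Finset.inv_smul_mem_iff, mem_Fset] at hp
      obtain ⟨j, hj, hjp⟩ := hp
      have hj5 : j < 5 := by omega
      have : p = g (bpt j) := by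
        rw [hjp]; simp
      rw [this, hgx j hj5]
      exact (hxs j hj5).2 hj
    · rw [Finset.card_smul_finset, hs]
      have : ∀ k : Fin 6, (Fset k.val).card = k.val := by decide +kernel
      rw [this ⟨k, by omega⟩]

end Cfsg.Agent.Lib.Helper1_Chain
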