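import Mathlib
import Cfsg.Agent.Lib.Helper1_Octads2
import Cfsg.Agent.Lib.Helper1_Maximal
set_option autoImplicit false
open Cfsg
open scoped Pointwise
namespace Cfsg.Agent.Lib.Helper1_OrbitStab

open MulAction Cfsg.Agent.Lib.Helper1_Chain Cfsg.Agent.Lib.Helper1_Golay Cfsg.Agent.Lib.Helper1_Maximal

section general
variable {G X : Type*} [Group G] [MulAction G X]

/-- orbit-stabilizer for a subgroup `H` acting on `X`, the stabilizer written as an intersection -/
theorem card_eq_orbit_mul_inf [Finite G] (H : Subgroup G) (x : X) :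
    Nat.card H = (orbit H x).ncard * Nat.card ↥(H ⊓ stabilizer G x) := by
  have h1 := Subgroup.card_eq_card_quotient_mul_card_subgroup (stabilizer H x)
  have h2 : Nat.card (H ⧸ stabilizer H x) = (orbit H x).ncard := by
    rw [← Nat.card_coe_set_eq]
    exact (Nat.card_congr (orbitEquivQuotientStabilizer H x)).symm
  have h3 : Nat.card (stabilizer H x) = Nat.card ↥(H ⊓ stabilizer G x) := by
    have : stabilizer H x = (H ⊓ stabilizer G x).subgroupOf H := by
      ext h
      rw [Subgroup.mem_subgroupOf, mem_stabilizer_iff, Subgroup.mem_inf, mem_stabilizer_iff]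
      constructor
      · intro hh; exact ⟨h.2, hh⟩
      · intro hh; exact hh.2
    rw [this]
    exact Nat.card_congr (Subgroup.subgroupOfEquivOfLe inf_le_left).toEquiv
  rw [h1, h2, h3]

end general

theorem orbit_M24_octad {o : Finset GolayPt} (ho : o ∈ octads) :
    MulAction.orbit M24 o = octads := by
  ext y
  constructor
  · rintro ⟨g, rfl⟩
    exact smul_mem_octads g.2 ho
  · intro hy
    obtain ⟨g, hg, hgy⟩ := M24_octad_transitive ho hy
    exact ⟨⟨g, hg⟩, hgy⟩

theorem card_stabilizer_octad {o : Finset GolayPt} (ho : o ∈ octads) :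
    Nat.card (MulAction.stabilizer M24 o) = 322560 := by
  have h := card_eq_orbit_mul_stabilizer (G := M24) o ⊤ le_top
  rw [orbit_top_eq, orbit_M24_octad ho, ncard_octads] at h
  have h2 : Nat.card (⊤ : Subgroup M24) = 244823040 := by
    rw [Subgroup.card_top]; exact card_M24
  rw [h2] at h
  omega

/-- the orbit of an octad under the stabilizer of another -/
theorem orbit_stabilizer_octad {o o' : Finset GolayPt} (ho : o ∈ octads) (ho' : o' ∈ octads) :
    MulAction.orbit (MulAction.stabilizer M24 o) o' =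
      {o'' : Finset GolayPt | o'' ∈ octads ∧ (o'' ∩ o).card = (o' ∩ o).card} := by
  ext y
  constructor
  · rintro ⟨g, rfl⟩
    refine ⟨smul_mem_octads g.1.2 ho', ?_⟩
    have hg : (g.1.1 : Equiv.Perm GolayPt) • o = o := g.2
    have key : ∀ σ : Equiv.Perm GolayPt, σ • o = o → (σ • o' ∩ o).card = (o' ∩ o).card := by
      intro σ hσ
      have : σ • o' ∩ o = σ • (o' ∩ o) := by rw [Finset.smul_finset_inter, hσ]
      rw [this, Finset.card_smul_finset]
    exact key _ hg
  · rintro ⟨hy, hcard⟩
    obtain ⟨g, hg, hgo, hgy⟩ := octad_stab_trans ho ho' hy (by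
      rw [Finset.inter_comm o o', Finset.inter_comm o y]; exact hcard.symm)
    exact ⟨⟨⟨g, hg⟩, hgo⟩, hgy⟩

end Cfsg.Agent.Lib.Helper1_OrbitStab
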