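import Mathlib
import Cfsg.Agent.Lib.Helper1_InvData
set_option autoImplicit false
open Cfsg
open scoped Pointwise
namespace Cfsg.Agent.Lib.Helper1_Ord3
open Cfsg.Agent.Lib.Helper1_Golay Cfsg.Agent.Lib.Helper1_Chain Cfsg.Agent.Lib.Helper1_Inv

/-- elements of `M24` permuting the base points 0,1,2 cyclically, moving 3 to 4 and 4 anywhere -/
def TQ3 : List (List ℕ) := [
  [1, 2, 0, 4, 5, 22, 6, 19, 15, 8, 18, 20, 9, 3, 13, 11, 17, 16, 10, 21, 12, 7, 14, 23],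
  [1, 2, 0, 4, 6, 17, 5, 20, 13, 18, 8, 19, 14, 3, 15, 23, 22, 21, 10, 16, 12, 7, 9, 11],
  [1, 2, 0, 4, 7, 16, 18, 12, 15, 5, 3, 9, 10, 6, 22, 17, 21, 13, 20, 11, 14, 8, 19, 23],
  [1, 2, 0, 4, 8, 16, 21, 6, 5, 15, 20, 17, 14, 12, 22, 9, 18, 13, 3, 19, 10, 7, 11, 23],
  [1, 2, 0, 4, 9, 15, 22, 19, 6, 23, 5, 16, 18, 7, 11, 14, 8, 21, 10, 20, 3, 12, 13, 17],
  [1, 2, 0, 4, 10, 13, 9, 3, 15, 19, 12, 18, 7, 8, 23, 17, 21, 16, 14, 11, 20, 6, 5, 22],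
  [1, 2, 0, 4, 11, 13, 5, 17, 20, 19, 21, 9, 15, 12, 16, 6, 8, 22, 10, 14, 7, 3, 18, 23],
  [1, 2, 0, 4, 12, 9, 22, 7, 20, 16, 10, 13, 3, 11, 19, 6, 8, 5, 21, 14, 17, 15, 23, 18],
  [1, 2, 0, 4, 13, 7, 19, 16, 14, 9, 22, 5, 23, 21, 10, 6, 20, 12, 17, 8, 11, 15, 18, 3],
  [1, 2, 0, 4, 14, 22, 19, 6, 10, 18, 8, 9, 20, 17, 13, 12, 3, 16, 15, 7, 11, 21, 5, 23],
  [1, 2, 0, 4, 15, 13, 20, 17, 10, 6, 11, 8, 21, 18, 23, 3, 7, 16, 5, 12, 9, 19, 14, 22],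
  [1, 2, 0, 4, 16, 14, 5, 22, 11, 9, 13, 18, 23, 3, 20, 17, 15, 6, 12, 21, 7, 10, 19, 8],
  [1, 2, 0, 4, 17, 3, 16, 21, 6, 23, 11, 13, 15, 19, 10, 8, 20, 7, 5, 14, 18, 9, 22, 12],
  [1, 2, 0, 4, 18, 21, 7, 9, 22, 3, 5, 12, 19, 6, 15, 23, 16, 11, 20, 13, 14, 8, 10, 17],
  [1, 2, 0, 4, 19, 15, 13, 9, 14, 16, 18, 23, 5, 12, 11, 6, 20, 21, 3, 8, 10, 7, 22, 17],
  [1, 2, 0, 4, 20, 22, 11, 14, 5, 17, 8, 15, 6, 3, 16, 9, 18, 23, 12, 19, 7, 10, 21, 13],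
  [1, 2, 0, 4, 21, 18, 8, 17, 22, 20, 15, 6, 11, 12, 5, 23, 16, 19, 3, 13, 10, 7, 14, 9],
  [1, 2, 0, 4, 22, 8, 12, 13, 19, 10, 16, 7, 23, 11, 20, 18, 9, 14, 21, 5, 17, 15, 3, 6],
  [1, 2, 0, 4, 23, 17, 8, 22, 18, 14, 16, 20, 13, 7, 11, 9, 19, 15, 3, 5, 12, 10, 6, 21]
  ]

/-- conjugating elements -/
def KC3 : List (List ℕ) := [
  [0, 1, 2, 3, 4, 5, 6, 7, 8, 9, 10, 11, 12, 13, 14, 15, 16, 17, 18, 19, 20, 21, 22, 23],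
  [13, 15, 16, 2, 0, 1, 12, 20, 8, 21, 17, 3, 14, 19, 9, 22, 5, 18, 10, 7, 23, 6, 4, 11],
  [7, 18, 17, 3, 4, 5, 14, 6, 21, 13, 12, 10, 16, 2, 22, 9, 20, 15, 19, 8, 11, 1, 0, 23],
  [8, 22, 6, 0, 1, 10, 2, 12, 19, 17, 7, 15, 16, 4, 18, 3, 21, 14, 9, 20, 13, 5, 23, 11],
  [5, 3, 4, 14, 10, 20, 9, 0, 23, 12, 8, 2, 19, 13, 1, 21, 15, 18, 16, 11, 22, 17, 6, 7],
  [10, 9, 14, 0, 1, 20, 2, 5, 18, 4, 7, 17, 6, 11, 8, 16, 15, 13, 12, 19, 3, 23, 22, 21],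
  [20, 23, 9, 1, 2, 8, 3, 0, 5, 14, 15, 6, 10, 16, 18, 19, 7, 4, 12, 17, 11, 22, 21, 13],
  [0, 1, 2, 17, 18, 3, 22, 16, 7, 20, 10, 19, 6, 11, 14, 9, 8, 5, 21, 13, 15, 4, 12, 23],
  [11, 14, 19, 23, 9, 3, 0, 20, 4, 5, 13, 18, 15, 17, 6, 22, 10, 2, 1, 16, 21, 12, 7, 8],
  [18, 17, 7, 19, 23, 0, 13, 16, 12, 4, 21, 8, 10, 3, 9, 14, 15, 6, 2, 20, 11, 1, 5, 22],
  [22, 6, 8, 16, 13, 1, 10, 23, 15, 2, 14, 4, 20, 17, 12, 9, 11, 0, 18, 19, 21, 5, 3, 7],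
  [23, 12, 19, 3, 4, 15, 9, 6, 5, 2, 21, 1, 10, 17, 11, 22, 20, 18, 0, 14, 8, 7, 13, 16],
  [4, 5, 3, 18, 17, 9, 20, 10, 6, 7, 2, 1, 21, 13, 8, 19, 22, 15, 0, 11, 23, 12, 14, 16],
  [4, 5, 3, 20, 21, 15, 16, 19, 6, 11, 13, 12, 9, 18, 0, 8, 17, 22, 14, 23, 1, 7, 10, 2],
  [18, 17, 7, 15, 16, 22, 2, 0, 14, 13, 11, 6, 8, 10, 5, 12, 19, 3, 1, 20, 9, 4, 21, 23],
  [16, 17, 18, 23, 9, 3, 12, 15, 19, 22, 20, 14, 6, 4, 8, 7, 21, 2, 11, 10, 1, 5, 0, 13],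
  [20, 23, 9, 14, 19, 16, 18, 13, 12, 10, 11, 7, 15, 6, 0, 17, 2, 5, 3, 8, 21, 1, 22, 4],
  [19, 11, 14, 20, 23, 17, 18, 15, 7, 21, 9, 3, 13, 16, 5, 6, 22, 2, 12, 1, 0, 8, 10, 4],
  [9, 20, 23, 8, 21, 6, 16, 5, 2, 3, 22, 10, 15, 18, 7, 17, 12, 11, 1, 14, 13, 4, 19, 0],
  [1, 2, 0, 22, 6, 17, 5, 9, 15, 10, 11, 8, 3, 23, 12, 14, 7, 20, 16, 18, 13, 4, 21, 19],
  [7, 18, 17, 4, 5, 21, 6, 8, 10, 12, 19, 3, 13, 2, 11, 15, 9, 22, 0, 1, 20, 23, 16, 14],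
  [20, 21, 11, 12, 19, 1, 3, 15, 14, 8, 4, 23, 22, 17, 10, 5, 7, 6, 2, 9, 18, 16, 13, 0],
  [2, 0, 1, 14, 19, 18, 8, 10, 3, 4, 13, 6, 11, 12, 15, 23, 17, 7, 9, 5, 16, 21, 20, 22],
  [14, 19, 11, 7, 3, 18, 8, 13, 2, 10, 12, 17, 4, 1, 23, 15, 16, 0, 20, 21, 6, 22, 9, 5],
  [8, 21, 22, 16, 17, 9, 10, 5, 14, 11, 6, 20, 18, 19, 3, 4, 15, 13, 12, 0, 23, 2, 7, 1],
  [17, 18, 16, 21, 22, 15, 0, 6, 12, 4, 5, 9, 8, 7, 14, 11, 20, 3, 19, 2, 23, 10, 13, 1],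
  [0, 1, 2, 14, 10, 3, 22, 13, 8, 7, 19, 18, 11, 9, 5, 6, 20, 17, 12, 4, 21, 16, 15, 23],
  [1, 2, 0, 4, 5, 22, 6, 19, 15, 8, 18, 20, 9, 3, 13, 11, 17, 16, 10, 21, 12, 7, 14, 23],
  [5, 3, 4, 1, 2, 10, 19, 11, 7, 17, 13, 12, 8, 0, 23, 14, 20, 9, 21, 18, 16, 6, 15, 22],
  [6, 8, 22, 21, 11, 19, 12, 1, 5, 15, 23, 13, 4, 14, 20, 17, 18, 3, 9, 16, 2, 7, 10, 0],
  [4, 5, 3, 8, 22, 20, 19, 12, 18, 0, 7, 10, 21, 13, 6, 9, 16, 23, 2, 15, 11, 1, 14, 17],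
  [6, 8, 22, 19, 23, 4, 18, 5, 3, 1, 10, 13, 7, 15, 12, 20, 0, 14, 11, 21, 9, 16, 2, 17],
  [0, 1, 2, 14, 10, 17, 8, 19, 21, 6, 11, 20, 13, 7, 5, 9, 12, 23, 18, 16, 22, 15, 4, 3],
  [21, 11, 20, 4, 5, 13, 12, 18, 7, 15, 0, 22, 8, 23, 14, 3, 6, 1, 10, 2, 9, 17, 19, 16],
  [7, 18, 17, 6, 8, 13, 16, 23, 0, 4, 14, 12, 1, 20, 15, 22, 9, 2, 5, 19, 11, 10, 3, 21],
  [15, 16, 13, 17, 7, 11, 0, 9, 10, 20, 3, 2, 19, 4, 21, 5, 18, 22, 6, 12, 1, 8, 14, 23],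
  [7, 18, 17, 20, 21, 1, 15, 3, 6, 12, 8, 19, 9, 4, 13, 10, 11, 16, 0, 5, 2, 23, 14, 22],
  [7, 18, 17, 8, 22, 15, 4, 2, 14, 5, 12, 13, 10, 9, 11, 1, 6, 16, 3, 23, 21, 20, 19, 0],
  [15, 16, 13, 9, 14, 20, 7, 5, 18, 17, 21, 3, 6, 12, 4, 11, 1, 10, 0, 2, 23, 8, 19, 22],
  [18, 17, 7, 0, 1, 4, 22, 5, 16, 9, 12, 19, 21, 14, 20, 11, 8, 2, 10, 15, 13, 3, 6, 23],
  [23, 12, 19, 2, 0, 13, 21, 4, 18, 22, 14, 16, 15, 7, 9, 5, 17, 1, 11, 6, 20, 10, 8, 3],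
  [14, 10, 9, 23, 12, 20, 15, 11, 13, 4, 0, 6, 3, 5, 7, 17, 16, 18, 19, 1, 2, 21, 8, 22],
  [23, 12, 19, 18, 17, 0, 14, 5, 11, 8, 6, 10, 2, 4, 21, 15, 16, 9, 7, 3, 1, 22, 13, 20],
  [23, 12, 19, 5, 3, 21, 17, 22, 0, 6, 20, 2, 14, 11, 7, 1, 16, 13, 4, 10, 8, 9, 18, 15],
  [12, 19, 23, 17, 7, 4, 9, 0, 6, 22, 3, 15, 8, 11, 16, 5, 2, 13, 1, 18, 14, 21, 10, 20],
  [0, 1, 2, 8, 22, 9, 23, 21, 4, 11, 5, 12, 10, 15, 13, 20, 14, 17, 3, 6, 16, 19, 18, 7],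
  [22, 6, 8, 5, 3, 2, 21, 1, 0, 16, 15, 18, 14, 7, 20, 9, 13, 12, 10, 4, 19, 23, 17, 11],
  [18, 17, 7, 14, 10, 20, 4, 3, 1, 11, 13, 21, 0, 2, 15, 23, 8, 19, 5, 6, 9, 16, 22, 12],
  [16, 13, 15, 10, 9, 19, 21, 22, 5, 7, 4, 1, 20, 8, 6, 18, 12, 2, 3, 17, 14, 11, 0, 23],
  [6, 8, 22, 4, 5, 18, 1, 9, 14, 21, 0, 23, 13, 2, 15, 19, 12, 7, 16, 17, 3, 10, 11, 20],
  [13, 15, 16, 6, 8, 10, 21, 17, 20, 14, 4, 5, 1, 0, 19, 7, 12, 2, 3, 11, 18, 22, 9, 23],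
  [16, 13, 15, 5, 3, 17, 14, 23, 8, 9, 1, 21, 20, 0, 10, 2, 22, 12, 19, 7, 11, 4, 6, 18],
  [4, 5, 3, 12, 19, 8, 11, 15, 6, 10, 17, 16, 1, 13, 22, 2, 9, 7, 0, 14, 18, 23, 20, 21],
  [8, 22, 6, 20, 21, 15, 5, 0, 16, 12, 19, 2, 3, 1, 18, 14, 23, 7, 10, 13, 17, 9, 11, 4],
  [9, 14, 10, 2, 0, 15, 8, 17, 21, 18, 22, 3, 4, 6, 13, 23, 5, 12, 16, 19, 20, 11, 1, 7],
  [0, 1, 2, 11, 20, 14, 17, 7, 12, 4, 16, 15, 5, 3, 19, 23, 18, 10, 6, 8, 22, 9, 21, 13],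
  [0, 1, 2, 5, 3, 19, 13, 23, 20, 15, 17, 6, 14, 10, 18, 11, 7, 9, 8, 16, 21, 22, 12, 4],
  [10, 9, 14, 12, 19, 3, 7, 20, 8, 13, 1, 15, 4, 21, 11, 16, 5, 0, 6, 22, 17, 18, 2, 23],
  [17, 7, 18, 12, 19, 13, 1, 14, 2, 5, 15, 0, 20, 16, 11, 22, 10, 9, 4, 8, 3, 6, 21, 23]
  ]

/-- an element of order three with six fixed points -/
def repA3 : List ℕ := [1, 2, 0, 4, 7, 5, 6, 3, 21, 20, 10, 14, 12, 13, 19, 15, 17, 18, 16, 11, 23, 22, 8, 9]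

/-- a fixed-point-free element of order three -/
def repB3 : List ℕ := [1, 2, 0, 4, 5, 3, 8, 18, 22, 14, 9, 20, 19, 15, 10, 16, 13, 7, 17, 23, 21, 11, 6, 12]

/-- tables of order dividing three -/
def IsOrd3T (c : List ℕ) : Prop := ∀ p : GolayPt, tfun c (tfun c (tfun c p)) = p

instance (c : List ℕ) : Decidable (IsOrd3T c) := by unfold IsOrd3T; infer_instance

set_option maxRecDepth 1000000 in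
theorem TQ3_good : ∀ t ∈ TQ3, GoodTable t := by decide +kernel

set_option maxRecDepth 1000000 in
theorem KC3_good : ∀ t ∈ KC3, GoodTable t := by decide +kernel

set_option maxRecDepth 1000000 in
theorem rep3_good : GoodTable repA3 ∧ GoodTable repB3 := by decide +kernel

set_option maxRecDepth 1000000 in
theorem TQ3_act : ∀ q : GolayPt, q = bpt 0 ∨ q = bpt 1 ∨ q = bpt 2 ∨ q = bpt 3 ∨ q = bpt 4 ∨ ∃ t ∈ TQ3, tfun t (bpt 0) = bpt 1 ∧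
    tfun t (bpt 1) = bpt 2 ∧ tfun t (bpt 2) = bpt 0 ∧ tfun t (bpt 3) = bpt 4 ∧ tfun t (bpt 4) = q := by
  decide +kernel

set_option maxRecDepth 1000000 in
theorem comp_tfun3 : ∀ T ∈ TQ3, ∀ s ∈ P5, ∀ p : GolayPt, tfun (comp T s) p = tfun T (tfun s p) := by
  decide +kernel

set_option maxRecDepth 1000000 in
theorem main_check3 : ∀ T ∈ TQ3, ∀ s ∈ P5, IsOrd3T (comp T s) → (∀ p : GolayPt, tfun (comp T s) p = p) ∨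
    ∃ k ∈ KC3, ConjT k (comp T s) repA3 ∨ ConjT k (comp T s) repB3 := by
  decide +kernel

set_option maxRecDepth 1000000 in
theorem repA3_fix : ∀ p : GolayPt, tfun repA3 p = p ↔ (46176 : ℕ).testBit (idx p) = true := by decide +kernel

set_option maxRecDepth 1000000 in
theorem repA3_card : popc 46176 = 6 := by decide +kernel

set_option maxRecDepth 1000000 in
theorem repB3_free : ∀ p : GolayPt, tfun repB3 p ≠ p := by decide +kernel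

set_option maxRecDepth 1000000 in
theorem rep3_ord : IsOrd3T repA3 ∧ IsOrd3T repB3 := by decide +kernel

end Cfsg.Agent.Lib.Helper1_Ord3
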