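import Mathlib
import Cfsg.Agent.Lib.Helper1_Ord3Data
import Cfsg.Agent.Lib.Helper1_Inv
set_option autoImplicit false
open Cfsg
open scoped Pointwise
namespace Cfsg.Agent.Lib.Helper1_Ord3
open Cfsg.Agent.Lib.Helper1_Golay Cfsg.Agent.Lib.Helper1_Chain Cfsg.Agent.Lib.Helper1_Inv

theorem bpt01 : bpt 1 ≠ bpt 0 := by decide

/-- every element of order three of `M24` is conjugate to one of the two standard ones -/
theorem normal_form3 {g : Equiv.Perm GolayPt} (hg : g ∈ M24) (h3 : orderOf g = 3) :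
    ∃ k ∈ M24, (∀ p, (k * g * k⁻¹) p = tfun repA3 p) ∨ (∀ p, (k * g * k⁻¹) p = tfun repB3 p) := by
  have hggg : ∀ p, g (g (g p)) = p := by
    intro p
    have h : g ^ 3 = 1 := by rw [← h3]; exact pow_orderOf_eq_one g
    have := congrArg (fun f : Equiv.Perm GolayPt => f p) h
    simpa [pow_succ] using this
  have hne1 : g ≠ 1 := by
    intro h
    rw [h, orderOf_one] at h3
    exact absurd h3 (by decide)
  have hinj := g.injective
  obtain ⟨a, ha⟩ : ∃ a, g a ≠ a := by
    by_contra hcon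
    push Not at hcon
    exact hne1 (Equiv.ext hcon)
  have ha2 : g (g a) ≠ a := by
    intro h
    apply ha
    have := hggg a
    rw [h] at this
    exact this
  have ha12 : g (g a) ≠ g a := fun h => ha (hinj h)
  obtain ⟨b, hba, hbga, hbgga, hb⟩ : ∃ b, b ≠ a ∧ b ≠ g a ∧ b ≠ g (g a) ∧ g b ≠ b := by
    by_contra hcon
    push Not at hcon
    apply hne1
    apply eq_one_of_nine_fixed hg
    have hsub : Finset.univ \ {a, g a, g (g a)} ⊆ Finset.univ.filter (fun x => g x = x) := by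
      intro x hx
      rw [Finset.mem_sdiff, Finset.mem_insert, Finset.mem_insert, Finset.mem_singleton, not_or,
        not_or] at hx
      rw [Finset.mem_filter]
      exact ⟨Finset.mem_univ _, hcon x hx.2.1 hx.2.2.1 hx.2.2.2⟩
    have h1 := Finset.le_card_sdiff ({a, g a, g (g a)} : Finset GolayPt) Finset.univ
    have h4 : ({a, g a, g (g a)} : Finset GolayPt).card ≤ 3 := Finset.card_le_three
    have h5 := Finset.card_le_card hsub
    rw [card_univ_golay] at h1
    omega
  have hgb_a : g b ≠ a := by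
    intro h
    apply hbgga
    have := hggg b
    rw [h] at this
    exact this.symm
  have hgb_ga : g b ≠ g a := fun h => hba (hinj h)
  have hgb_gga : g b ≠ g (g a) := fun h => hbga (hinj h)
  have hnd : [a, g a, g (g a), b, g b].Nodup := by
    simp only [List.nodup_cons, List.mem_cons, List.not_mem_nil, or_false, not_or,
      List.nodup_nil, and_true, not_false_eq_true]
    exact ⟨⟨Ne.symm ha, Ne.symm ha2, Ne.symm hba, Ne.symm hgb_a⟩,
      ⟨Ne.symm ha12, Ne.symm hbga, Ne.symm hgb_ga⟩, ⟨Ne.symm hbgga, Ne.symm hgb_gga⟩, Ne.symm hb⟩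
  obtain ⟨k, hk, hkl⟩ := exists_map_lists hnd bpt_list_nodup rfl (by simp)
  simp only [List.map_cons, List.map_nil, List.cons.injEq, and_true] at hkl
  obtain ⟨k0, k1, k2, k3, k4⟩ := hkl
  have hg'M : k * g * k⁻¹ ∈ M24 := M24.mul_mem (M24.mul_mem hk hg) (M24.inv_mem hk)
  have hg'app : ∀ x, (k * g * k⁻¹) (k x) = k (g x) := by
    intro x
    simp
  have e0 : (k * g * k⁻¹) (bpt 0) = bpt 1 := by rw [← k0, hg'app, k1]
  have e1 : (k * g * k⁻¹) (bpt 1) = bpt 2 := by rw [← k1, hg'app, k2]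
  have e2 : (k * g * k⁻¹) (bpt 2) = bpt 0 := by rw [← k2, hg'app, hggg, k0]
  have e3 : (k * g * k⁻¹) (bpt 3) = bpt 4 := by rw [← k3, hg'app, k4]
  have e4 : (k * g * k⁻¹) (bpt 4) = k (g (g b)) := by rw [← k4, hg'app]
  rcases TQ3_act (k (g (g b))) with h | h | h | h | h | ⟨T, hT, t0, t1, t2, t3, t4⟩
  · exfalso
    rw [← k0] at h
    have h' := k.injective h
    apply hbga
    have := hggg b
    rw [h'] at this
    exact this.symm
  · exfalso
    rw [← k1] at h
    exact hgb_a (hinj (k.injective h))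
  · exfalso
    rw [← k2] at h
    exact hba (hinj (hinj (k.injective h)))
  · exfalso
    rw [← k3] at h
    have h' := k.injective h
    apply hb
    have := hggg b
    rw [h'] at this
    exact this
  · exfalso
    rw [← k4] at h
    exact hb (hinj (k.injective h))
  obtain ⟨σ, hσ, hσt⟩ := exists_perm_of_good (TQ3_good T hT)
  have hps : σ⁻¹ * (k * g * k⁻¹) ∈ pstab M24 (Fset 5) := by
    refine ⟨M24.mul_mem (M24.inv_mem hσ) hg'M, ?_⟩
    intro x hx
    rw [mem_Fset] at hx
    obtain ⟨j, hj, rfl⟩ := hx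
    rw [Equiv.Perm.mul_apply, Equiv.Perm.inv_eq_iff_eq]
    have : j = 0 ∨ j = 1 ∨ j = 2 ∨ j = 3 ∨ j = 4 := by omega
    rcases this with rfl | rfl | rfl | rfl | rfl
    · rw [e0, hσt, t0]
    · rw [e1, hσt, t1]
    · rw [e2, hσt, t2]
    · rw [e3, hσt, t3]
    · rw [e4, hσt, t4]
  obtain ⟨s, hs, hst⟩ := pstab5_eq_table hps
  have hg'c : ∀ p, (k * g * k⁻¹) p = tfun (comp T s) p := by
    intro p
    have := hst p
    rw [Equiv.Perm.mul_apply, Equiv.Perm.inv_eq_iff_eq] at this
    rw [this, hσt, comp_tfun3 T hT s hs]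
  have hord : IsOrd3T (comp T s) := by
    intro p
    rw [← hg'c, ← hg'c, ← hg'c]
    simp [hggg]
  rcases main_check3 T hT s hs hord with hid | ⟨kt, hkt, hconj⟩
  · exfalso
    have := hid (bpt 0)
    rw [← hg'c, e0] at this
    exact bpt01 this
  obtain ⟨τ, hτ, hτt⟩ := exists_perm_of_good (KC3_good kt hkt)
  refine ⟨τ * k, M24.mul_mem hτ hk, ?_⟩
  have key : ∀ r, ConjT kt (comp T s) r → ∀ p, (τ * k * g * (τ * k)⁻¹) p = tfun r p := by
    intro r hr p
    have h1 : (τ * k * g * (τ * k)⁻¹) p = τ ((k * g * k⁻¹) (τ⁻¹ p)) := by simp [mul_assoc]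
    rw [h1, hg'c, hτt, hr, ← hτt]
    simp
  rcases hconj with h | h
  · exact Or.inl (key _ h)
  · exact Or.inr (key _ h)

end Cfsg.Agent.Lib.Helper1_Ord3
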