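import Mathlib
import Cfsg.Prelude.Def_ClassicalGeometry
set_option autoImplicit false
set_option linter.unusedSectionVars false
open Cfsg
namespace Cfsg.Agent.Lib.Helper1_Orth

open Matrix

variable {F : Type*} [Field F] {ι : Type} [Fintype ι] [DecidableEq ι]

theorem polarVec_dotProduct (Q : QuadraticForm F (ι → F)) (v x : ι → F) :
    polarVec ⇑Q v ⬝ᵥ x = QuadraticMap.polar ⇑Q v x := by
  have h := LinearMap.pi_apply_eq_sum_univ (QuadraticMap.polarBilin Q v) x
  rw [QuadraticMap.polarBilin_apply_apply] at h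
  rw [h, dotProduct]
  apply Finset.sum_congr rfl
  intro i _
  rw [smul_eq_mul, mul_comm]
  congr 1
  unfold polarVec
  rw [QuadraticMap.polarBilin_apply_apply]
  congr 1
  funext j
  simp [Pi.single_apply, eq_comm]

theorem det_one_add_smul_vecMulVec (a : F) (u w : ι → F) :
    (1 + a • Matrix.vecMulVec u w).det = 1 + a * (w ⬝ᵥ u) := by
  rw [← Matrix.smul_vecMulVec, Matrix.vecMulVec_eq Unit,
    Matrix.det_one_add_replicateCol_mul_replicateRow, dotProduct_smul, smul_eq_mul]

theorem reflectionMatrix_mulVec (Q : QuadraticForm F (ι → F)) (v x : ι → F) :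
    reflectionMatrix ⇑Q v *ᵥ x = x - ((Q v)⁻¹ * QuadraticMap.polar ⇑Q v x) • v := by
  unfold reflectionMatrix
  rw [Matrix.sub_mulVec, Matrix.one_mulVec, Matrix.smul_mulVec, Matrix.vecMulVec_mulVec,
    op_smul_eq_smul, polarVec_dotProduct, mul_smul]

theorem siegelMatrix_mulVec (Q : QuadraticForm F (ι → F)) (u v : ι → F) (c : F) (x : ι → F) :
    siegelMatrix ⇑Q u v c *ᵥ x =
      x + c • (QuadraticMap.polar ⇑Q u x • v - QuadraticMap.polar ⇑Q v x • u) := by
  unfold siegelMatrix
  rw [Matrix.add_mulVec, Matrix.one_mulVec, Matrix.smul_mulVec, Matrix.sub_mulVec,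
    Matrix.vecMulVec_mulVec, Matrix.vecMulVec_mulVec, op_smul_eq_smul, op_smul_eq_smul,
    polarVec_dotProduct, polarVec_dotProduct]

theorem map_sub_smul (Q : QuadraticForm F (ι → F)) (x v : ι → F) (a : F) :
    Q (x - a • v) = Q x + a * a * Q v - a * QuadraticMap.polar ⇑Q v x := by
  have h1 : x - a • v = x + (-a) • v := by rw [neg_smul, sub_eq_add_neg]
  rw [h1, QuadraticMap.map_add (⇑Q) x ((-a) • v), QuadraticMap.map_smul,
    QuadraticMap.polar_smul_right, QuadraticMap.polar_comm (⇑Q) x v]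
  simp only [smul_eq_mul]
  ring

theorem reflection_isometry (Q : QuadraticForm F (ι → F)) (v : ι → F) (hv : Q v ≠ 0) (x : ι → F) :
    Q (reflectionMatrix ⇑Q v *ᵥ x) = Q x := by
  rw [reflectionMatrix_mulVec, map_sub_smul]
  field_simp
  ring

theorem reflection_self (Q : QuadraticForm F (ι → F)) (v : ι → F) (hv : Q v ≠ 0) :
    reflectionMatrix ⇑Q v *ᵥ v = -v := by
  rw [reflectionMatrix_mulVec, QuadraticMap.polar_self, two_nsmul]
  have : (Q v)⁻¹ * (Q v + Q v) = 2 := by field_simp; ring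
  rw [this, two_smul]
  abel

theorem reflection_fix (Q : QuadraticForm F (ι → F)) (v x : ι → F)
    (h : QuadraticMap.polar ⇑Q v x = 0) : reflectionMatrix ⇑Q v *ᵥ x = x := by
  rw [reflectionMatrix_mulVec, h]; simp

theorem reflection_det (Q : QuadraticForm F (ι → F)) (v : ι → F) (hv : Q v ≠ 0) :
    (reflectionMatrix ⇑Q v).det = -1 := by
  unfold reflectionMatrix
  rw [sub_eq_add_neg, ← neg_smul, det_one_add_smul_vecMulVec, polarVec_dotProduct,
    QuadraticMap.polar_self, two_nsmul]
  field_simp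
  ring

end Cfsg.Agent.Lib.Helper1_Orth
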