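import Mathlib
import Cfsg.Agent.Lib.Helper1_Simple2

set_option autoImplicit false
open scoped Pointwise

namespace Cfsg.Agent.Lib.Helper1_PrimeDegree

open Equiv Subgroup

/-- The centralizer in `Perm α` of an element whose order is the prime `card α` has order `card α`. -/
theorem card_centralizer_prime_cycle {α : Type*} [Fintype α] [DecidableEq α] (σ : Perm α)
    (h : orderOf σ = Fintype.card α) (hp : (Fintype.card α).Prime) :
    Nat.card (Subgroup.centralizer ({σ} : Set (Perm α))) = Fintype.card α := by
  have hc : σ.IsCycle := Equiv.Perm.isCycle_of_prime_order'' hp h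
  have hs : σ.support.card = Fintype.card α := by rw [← hc.orderOf, h]
  rw [Equiv.Perm.nat_card_centralizer, hc.cycleType, hs]
  simp

/-- In a subgroup `G` of `Perm α` with `card α = p` prime, the centralizer of a Sylow `p`-subgroup
of order `p` has order `p`. -/
theorem card_centralizer_sylow_prime_degree {α : Type*} [Fintype α] [DecidableEq α]
    (G : Subgroup (Perm α)) (p : ℕ) [hp : Fact p.Prime] (hα : Fintype.card α = p)
    (P : Sylow p G) (hP : Nat.card P = p) :
    Nat.card (Subgroup.centralizer ((P : Subgroup G) : Set G)) = p := by
  haveI : Finite G := inferInstance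
  -- pick an element of order p in P
  obtain ⟨g, hg⟩ := exists_prime_orderOf_dvd_card' (G := (P : Subgroup G)) p (by rw [hP])
  set σ : Perm α := ((g : G) : Perm α) with hσ
  have hσo : orderOf σ = Fintype.card α := by
    rw [hα, ← hg, hσ, Subgroup.orderOf_coe, Subgroup.orderOf_coe]
  have hcard := card_centralizer_prime_cycle σ hσo (hα ▸ hp.out)
  -- the centralizer of P in G injects into the centralizer of σ
  have hle : (Subgroup.centralizer ((P : Subgroup G) : Set G)).map G.subtype ≤
      Subgroup.centralizer ({σ} : Set (Perm α)) := by
    rintro _ ⟨x, hx, rfl⟩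
    rw [Subgroup.mem_centralizer_iff]
    intro y hy
    rw [Set.mem_singleton_iff] at hy
    subst hy
    rw [SetLike.mem_coe, Subgroup.mem_centralizer_iff] at hx
    have := hx (g : G) g.2
    exact congrArg Subtype.val this
  have h1 : Nat.card (Subgroup.centralizer ((P : Subgroup G) : Set G)) ∣ Fintype.card α := by
    rw [← hcard, ← Subgroup.card_map_of_injective (Subgroup.subtype_injective G)]
    exact Subgroup.card_dvd_of_le hle
  have h2 : p ∣ Nat.card (Subgroup.centralizer ((P : Subgroup G) : Set G)) := by
    have := Subgroup.card_dvd_of_le (Helper1_Simple.sylow_le_centralizer_of_prime p P hP)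
    rw [hP] at this
    exact this
  rw [hα] at h1
  exact Nat.dvd_antisymm h1 h2

end Cfsg.Agent.Lib.Helper1_PrimeDegree
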