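import Mathlib
import Cfsg.Agent.Lib.Helper1_Golay2
set_option autoImplicit false
open Cfsg
open scoped Pointwise
namespace Cfsg.Agent.Lib.Helper1_Punct
open Cfsg.Agent.Lib.Helper1_Golay

/-- puncturing at the point `none` -/
def punct (w : GolayPt → ZMod 2) : ZMod 23 → ZMod 2 := fun x => w (some x)

/-- the punctured code, as in the statements -/
def pcode : Set (ZMod 23 → ZMod 2) :=
  {u : ZMod 23 → ZMod 2 | ∃ w ∈ Cfsg.golayCode, ∀ x : ZMod 23, u x = w (some x)}

theorem pcode_eq_image : pcode = punct '' (golayCode : Set (GolayPt → ZMod 2)) := by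
  ext u
  constructor
  · rintro ⟨w, hw, h⟩
    exact ⟨w, hw, (funext h).symm⟩
  · rintro ⟨w, hw, rfl⟩
    exact ⟨w, hw, fun _ => rfl⟩

theorem punct_add (v w : GolayPt → ZMod 2) : punct (v + w) = punct v + punct w := rfl
theorem punct_sub (v w : GolayPt → ZMod 2) : punct (v - w) = punct v - punct w := rfl
theorem punct_zero : punct 0 = 0 := rfl

/-- number of ones among the low 23 bits -/
def popc23 (n : ℕ) : ℕ := ((List.range 23).filter fun k => n.testBit k).length

theorem punct_natWord_ne_zero (n : ℕ) (x : ZMod 23) :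
    punct (natWord n) x ≠ 0 ↔ n.testBit x.val = true := by
  show (if n.testBit x.val then (1 : ZMod 2) else 0) ≠ 0 ↔ _
  by_cases h : n.testBit x.val = true
  · simp [h]
  · simp [h]

theorem hammingNorm_punct_natWord (n : ℕ) : hammingNorm (punct (natWord n)) = popc23 n := by
  unfold hammingNorm
  have h1 : (Finset.univ.filter fun x : ZMod 23 => punct (natWord n) x ≠ 0).card
      = ((Finset.univ.filter fun x : ZMod 23 => punct (natWord n) x ≠ 0).image ZMod.val).card :=
    (Finset.card_image_of_injective _ (ZMod.val_injective 23)).symm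
  have h2 : (Finset.univ.filter fun x : ZMod 23 => punct (natWord n) x ≠ 0).image ZMod.val
      = (Finset.range 23).filter fun k => n.testBit k := by
    ext k
    simp only [Finset.mem_image, Finset.mem_filter, Finset.mem_univ, true_and, Finset.mem_range,
      punct_natWord_ne_zero]
    constructor
    · rintro ⟨x, hx, rfl⟩
      exact ⟨ZMod.val_lt x, hx⟩
    · rintro ⟨hk, hb⟩
      refine ⟨(k : ZMod 23), ?_, ZMod.val_natCast_of_lt hk⟩
      rw [ZMod.val_natCast_of_lt hk]
      exact hb
  rw [h1, h2, popc23]
  rw [← List.toFinset_card_of_nodup (List.Nodup.filter _ List.nodup_range)]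
  congr 1
  ext k
  simp

/-- a codeword vanishing away from `none` is zero -/
theorem eq_zero_of_punct_eq_zero {w : GolayPt → ZMod 2} (hw : w ∈ golayCode) (h : punct w = 0) :
    w = 0 := by
  have hsub : support₂ w ⊆ {none} := by
    intro p hp
    rw [mem_support₂] at hp
    rw [Finset.mem_singleton]
    cases p with
    | none => rfl
    | some x =>
      have := congrFun h x
      simp only [punct, Pi.zero_apply] at this
      rw [this] at hp
      exact absurd hp (by decide)
  have hcard : (support₂ w).card ≤ 1 := by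
    have := Finset.card_le_card hsub
    simpa using this
  have h0 : (support₂ w).card = 0 := by
    rcases golay_weights w hw with h | h | h | h | h <;> omega
  rw [Finset.card_eq_zero] at h0
  rw [← ind_support₂ w, h0, ind_empty]

theorem punct_injOn : Set.InjOn punct (golayCode : Set (GolayPt → ZMod 2)) := by
  intro v hv w hw h
  have : v - w = 0 := by
    apply eq_zero_of_punct_eq_zero (golayCode.sub_mem hv hw)
    rw [punct_sub, h, sub_self]
  exact sub_eq_zero.1 this

theorem pcode_sub {u v : ZMod 23 → ZMod 2} (hu : u ∈ pcode) (hv : v ∈ pcode) : u - v ∈ pcode := by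
  rw [pcode_eq_image] at hu hv ⊢
  obtain ⟨a, ha, rfl⟩ := hu
  obtain ⟨b, hb, rfl⟩ := hv
  exact ⟨a - b, golayCode.sub_mem ha hb, rfl⟩

theorem pcode_add {u v : ZMod 23 → ZMod 2} (hu : u ∈ pcode) (hv : v ∈ pcode) : u + v ∈ pcode := by
  rw [pcode_eq_image] at hu hv ⊢
  obtain ⟨a, ha, rfl⟩ := hu
  obtain ⟨b, hb, rfl⟩ := hv
  exact ⟨a + b, golayCode.add_mem ha hb, rfl⟩

/-- counting punctured words by a decidable property of their weight -/
theorem ncard_pcode_filter (Q : ℕ → Prop) [DecidablePred Q] :
    {u : ZMod 23 → ZMod 2 | u ∈ pcode ∧ Q (hammingNorm u)}.ncard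
      = ((allWords rows).filter (fun n => Q (popc23 n))).length := by
  have hset : {u : ZMod 23 → ZMod 2 | u ∈ pcode ∧ Q (hammingNorm u)}
      = (fun n => punct (natWord n)) '' {n | n ∈ (allWords rows).filter (fun n => Q (popc23 n))} := by
    ext u
    constructor
    · rintro ⟨hu, hQ⟩
      rw [pcode_eq_image] at hu
      obtain ⟨w, hw, rfl⟩ := hu
      obtain ⟨n, hn, rfl⟩ := (mem_golay_iff w).mp hw
      refine ⟨n, ?_, rfl⟩
      rw [Set.mem_ofPred_eq, List.mem_filter]
      refine ⟨hn, ?_⟩
      rw [hammingNorm_punct_natWord] at hQ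
      simpa using hQ
    · rintro ⟨n, hn, rfl⟩
      rw [Set.mem_ofPred_eq, List.mem_filter] at hn
      refine ⟨?_, ?_⟩
      · rw [pcode_eq_image]
        exact ⟨natWord n, (mem_golay_iff _).mpr ⟨n, hn.1, rfl⟩, rfl⟩
      · show Q (hammingNorm (punct (natWord n)))
        rw [hammingNorm_punct_natWord]
        simpa using hn.2
  rw [hset, Set.InjOn.ncard_image]
  · rw [← List.coe_toFinset, Set.ncard_coe_finset,
      List.toFinset_card_of_nodup (allWords_nodup.filter _)]
  · intro a ha b hb hab
    rw [Set.mem_ofPred_eq, List.mem_filter] at ha hb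
    have h : natWord a = natWord b :=
      punct_injOn ((mem_golay_iff _).mpr ⟨a, ha.1, rfl⟩) ((mem_golay_iff _).mpr ⟨b, hb.1, rfl⟩) hab
    exact natWord_injOn (allWords_lt a ha.1) (allWords_lt b hb.1) h

set_option maxRecDepth 1000000 in
theorem count_all : ((allWords rows).filter (fun n => (fun _ : ℕ => True) (popc23 n))).length = 4096 := by
  decide +kernel

theorem ncard_pcode : pcode.ncard = 4096 := by
  have h := ncard_pcode_filter (fun _ => True)
  rw [count_all] at h
  rw [← h]
  congr 1
  ext u
  simp

set_option maxRecDepth 1000000 in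
theorem count_w7 : ((allWords rows).filter (fun n => popc23 n = 7)).length = 253 := by
  decide +kernel
set_option maxRecDepth 1000000 in
theorem count_w8 : ((allWords rows).filter (fun n => popc23 n = 8)).length = 506 := by
  decide +kernel
set_option maxRecDepth 1000000 in
theorem count_w11 : ((allWords rows).filter (fun n => popc23 n = 11)).length = 1288 := by
  decide +kernel
set_option maxRecDepth 1000000 in
theorem count_w12 : ((allWords rows).filter (fun n => popc23 n = 12)).length = 1288 := by
  decide +kernel
set_option maxRecDepth 1000000 in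
theorem count_w15 : ((allWords rows).filter (fun n => popc23 n = 15)).length = 506 := by
  decide +kernel
set_option maxRecDepth 1000000 in
theorem count_w16 : ((allWords rows).filter (fun n => popc23 n = 16)).length = 253 := by
  decide +kernel

set_option maxRecDepth 1000000 in
theorem allWords_popc23 : ∀ n ∈ allWords rows, n = 0 ∨ n = 2 ^ 23 ∨ 7 ≤ popc23 n := by
  decide +kernel

/-- minimum weight 7 -/
theorem seven_le_of_ne_zero {u : ZMod 23 → ZMod 2} (hu : u ∈ pcode) (h0 : u ≠ 0) :
    7 ≤ hammingNorm u := by
  rw [pcode_eq_image] at hu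
  obtain ⟨w, hw, rfl⟩ := hu
  obtain ⟨n, hn, rfl⟩ := (mem_golay_iff w).mp hw
  rw [hammingNorm_punct_natWord]
  rcases allWords_popc23 n hn with h | h | h
  · exfalso; apply h0; rw [h, natWord_zero]; rfl
  · exfalso
    have h24 : popc (2 ^ 23) = 1 := by decide +kernel
    have := allWords_popc n hn
    rw [h, h24] at this
    omega
  · exact h

end Cfsg.Agent.Lib.Helper1_Punct
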