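import Mathlib
import Cfsg.Prelude.Def_Sporadic_a

set_option autoImplicit false

/-!
# Counting in Steiner systems: blocks through a set, intersection numbers
-/

namespace Cfsg.Agent.Lib.Helper1_Steiner

open Finset Cfsg

variable {α : Type*} [Fintype α] [DecidableEq α]

/-- The blocks as a finset. -/
noncomputable def blocks (B : Set (Finset α)) : Finset (Finset α) := (Set.toFinite B).toFinset

theorem mem_blocks {B : Set (Finset α)} {b : Finset α} : b ∈ blocks B ↔ b ∈ B :=
  Set.Finite.mem_toFinset _

theorem coe_blocks (B : Set (Finset α)) : ((blocks B : Finset (Finset α)) : Set (Finset α)) = B :=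
  Set.Finite.coe_toFinset _

theorem ncard_eq_card_blocks (B : Set (Finset α)) : B.ncard = (blocks B).card := by
  rw [← coe_blocks B, Set.ncard_coe_finset, coe_blocks]

/-- number of blocks containing `s` -/
noncomputable def lam (B : Set (Finset α)) (s : Finset α) : ℕ :=
  ((blocks B).filter (fun b => s ⊆ b)).card

/-- The number of blocks through an `i`-set, `i ≤ t`. -/
theorem lam_mul {t k : ℕ} {B : Set (Finset α)} (hB : IsSteinerSystem t k B) (s : Finset α)
    (hs : s.card ≤ t) :
    lam B s * (k - s.card).choose (t - s.card) =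
      (Fintype.card α - s.card).choose (t - s.card) := by
  classical
  have key := sum_card_bipartiteAbove_eq_sum_card_bipartiteBelow
    (s := (univ.powersetCard t).filter (fun T : Finset α => s ⊆ T))
    (t := (blocks B).filter (fun b => s ⊆ b)) (r := fun T b => T ⊆ b)
  have hL : ∀ T ∈ (univ.powersetCard t).filter (fun T : Finset α => s ⊆ T),
      (((blocks B).filter (fun b => s ⊆ b)).bipartiteAbove (fun T b => T ⊆ b) T).card = 1 := by
    intro T hT
    rw [mem_filter, mem_powersetCard] at hT
    obtain ⟨b₀, ⟨hb₀B, hTb₀⟩, huniq⟩ := hB.2 T hT.1.2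
    rw [card_eq_one]
    refine ⟨b₀, ?_⟩
    ext b
    simp only [bipartiteAbove, mem_filter, mem_singleton, mem_blocks]
    constructor
    · rintro ⟨⟨hbB, _⟩, hTb⟩
      exact huniq b ⟨hbB, hTb⟩
    · rintro rfl
      exact ⟨⟨hb₀B, hT.2.trans hTb₀⟩, hTb₀⟩
  have hR : ∀ b ∈ (blocks B).filter (fun b => s ⊆ b),
      (((univ.powersetCard t).filter (fun T : Finset α => s ⊆ T)).bipartiteBelow
        (fun T b => T ⊆ b) b).card = (k - s.card).choose (t - s.card) := by
    intro b hb
    rw [mem_filter, mem_blocks] at hb
    have hbk : b.card = k := hB.1 b hb.1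
    have : ((univ.powersetCard t).filter (fun T : Finset α => s ⊆ T)).bipartiteBelow
        (fun T b => T ⊆ b) b = (b.powersetCard t).filter (fun T => s ⊆ T) := by
      ext T
      simp only [bipartiteBelow, mem_filter, mem_powersetCard, subset_univ, true_and]
      tauto
    rw [this, card_filter_powersetCard_subset s b t hb.2 hs, hbk]
  rw [sum_congr rfl hL, sum_congr rfl hR, sum_const, sum_const, smul_eq_mul, smul_eq_mul,
    mul_one, card_filter_powersetCard_subset s univ t (subset_univ s) hs, card_univ] at key
  rw [lam, ← key]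

/-- Two distinct blocks meet in fewer than `t` points. -/
theorem inter_card_lt {t k : ℕ} {B : Set (Finset α)} (hB : IsSteinerSystem t k B)
    {b c : Finset α} (hb : b ∈ B) (hc : c ∈ B) (hbc : c ≠ b) : (b ∩ c).card < t := by
  by_contra h
  rw [not_lt] at h
  obtain ⟨s, hs, hst⟩ := exists_subset_card_eq h
  obtain ⟨b₀, _, huniq⟩ := hB.2 s hst
  have h1 := huniq b ⟨hb, hs.trans inter_subset_left⟩
  have h2 := huniq c ⟨hc, hs.trans inter_subset_right⟩
  exact hbc (h2.trans h1.symm)

/-- Double counting pairs `(J, c)` with `J ⊆ b ∩ c`, `|J| = j`. -/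
theorem sum_choose_inter {t k : ℕ} {B : Set (Finset α)} (hB : IsSteinerSystem t k B)
    (b : Finset α) (hb : b ∈ B) (j : ℕ) (L : ℕ)
    (hL : ∀ s : Finset α, s.card = j → lam B s = L) :
    ∑ c ∈ (blocks B).erase b, (b ∩ c).card.choose j = k.choose j * (L - 1) := by
  classical
  have key := sum_card_bipartiteAbove_eq_sum_card_bipartiteBelow
    (s := b.powersetCard j) (t := (blocks B).erase b) (r := fun J c => J ⊆ c)
  have hLeft : ∀ J ∈ b.powersetCard j,
      (((blocks B).erase b).bipartiteAbove (fun J c => J ⊆ c) J).card = L - 1 := by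
    intro J hJ
    rw [mem_powersetCard] at hJ
    have : ((blocks B).erase b).bipartiteAbove (fun J c => J ⊆ c) J =
        ((blocks B).filter (fun c => J ⊆ c)).erase b := by
      ext c
      simp only [bipartiteAbove, mem_filter, mem_erase]
      tauto
    rw [this, card_erase_of_mem (by rw [mem_filter, mem_blocks]; exact ⟨hb, hJ.1⟩)]
    have := hL J hJ.2
    rw [lam] at this
    rw [this]
  have hRight : ∀ c ∈ (blocks B).erase b,
      ((b.powersetCard j).bipartiteBelow (fun J c => J ⊆ c) c).card = (b ∩ c).card.choose j := by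
    intro c _
    have : (b.powersetCard j).bipartiteBelow (fun J c => J ⊆ c) c = (b ∩ c).powersetCard j := by
      ext J
      simp only [bipartiteBelow, mem_filter, mem_powersetCard, subset_inter_iff]
      tauto
    rw [this, card_powersetCard]
  rw [sum_congr rfl hLeft, sum_congr rfl hRight, sum_const, smul_eq_mul, card_powersetCard,
    hB.1 b hb] at key
  exact key.symm

/-- Group the blocks different from `b` by the size of their intersection with `b`. -/
theorem sum_by_inter (S : Finset (Finset α)) (b : Finset α) (m : ℕ)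
    (hm : ∀ c ∈ S, (b ∩ c).card < m) (j : ℕ) :
    ∑ c ∈ S, (b ∩ c).card.choose j =
      ∑ i ∈ range m, (S.filter (fun c => (b ∩ c).card = i)).card * i.choose j := by
  rw [← sum_fiberwise_of_maps_to (s := S) (t := range m) (g := fun c => (b ∩ c).card)
    (fun c hc => mem_range.mpr (hm c hc))]
  apply sum_congr rfl
  intro i _
  rw [sum_congr rfl (fun c hc => by rw [(mem_filter.mp hc).2] :
    ∀ c ∈ S.filter (fun c => (b ∩ c).card = i), (b ∩ c).card.choose j = i.choose j),
    sum_const, smul_eq_mul]

/-- The intersection numbers: `n i` = number of blocks `c ≠ b` with `|b ∩ c| = i`. -/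
noncomputable def nInter (B : Set (Finset α)) (b : Finset α) (i : ℕ) : ℕ :=
  (((blocks B).erase b).filter (fun c => (b ∩ c).card = i)).card

/-- The fundamental equations for the intersection numbers. -/
theorem inter_equation {t k : ℕ} {B : Set (Finset α)} (hB : IsSteinerSystem t k B)
    (b : Finset α) (hb : b ∈ B) (j : ℕ) (L : ℕ)
    (hL : ∀ s : Finset α, s.card = j → lam B s = L) :
    ∑ i ∈ range t, nInter B b i * i.choose j = k.choose j * (L - 1) := by
  rw [← sum_choose_inter hB b hb j L hL]
  symm
  apply sum_by_inter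
  intro c hc
  rw [mem_erase, mem_blocks] at hc
  exact inter_card_lt hB hb hc.2 hc.1

theorem nInter_pos {B : Set (Finset α)} {b c : Finset α} (hc : c ∈ B) (hcb : c ≠ b) :
    0 < nInter B b (b ∩ c).card := by
  rw [nInter, card_pos]
  exact ⟨c, by rw [mem_filter, mem_erase, mem_blocks]; exact ⟨⟨hcb, hc⟩, rfl⟩⟩

end Cfsg.Agent.Lib.Helper1_Steiner
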