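import Mathlib
import Cfsg.Prelude.Def_Sporadic_a
import Cfsg.Agent.Lib.Helper1_Steiner
import Cfsg.Agent.S0356

set_option autoImplicit false

/-!
# Counting in `S(3,6,22)`: blocks disjoint from one or two given blocks
-/

namespace Cfsg.Agent.Lib.Helper1_Steiner2

open Finset Cfsg Cfsg.Agent.Lib.Helper1_Steiner

variable {α : Type*} [Fintype α] [DecidableEq α]

/-- Sum of `|c ∩ d|` over a family of blocks `d`, by points of `c`. -/
theorem sum_inter_eq (X : Finset (Finset α)) (c : Finset α) :
    ∑ d ∈ X, (c ∩ d).card = ∑ y ∈ c, (X.filter (fun d => y ∈ d)).card := by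
  have key := sum_card_bipartiteAbove_eq_sum_card_bipartiteBelow
    (s := c) (t := X) (r := fun y d => y ∈ d)
  have h1 : ∀ y ∈ c, (X.bipartiteAbove (fun y d => y ∈ d) y).card =
      (X.filter (fun d => y ∈ d)).card := fun y _ => rfl
  have h2 : ∀ d ∈ X, (c.bipartiteBelow (fun y d => y ∈ d) d).card = (c ∩ d).card := by
    intro d _
    congr 1
  rw [sum_congr rfl h1, sum_congr rfl h2] at key
  exact key.symm

/-- If all intersections have size `0` or `2`, the sum counts twice the non-disjoint ones. -/
theorem sum_inter_zero_two (X : Finset (Finset α)) (c : Finset α)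
    (h : ∀ d ∈ X, (c ∩ d).card = 0 ∨ (c ∩ d).card = 2) :
    ∑ d ∈ X, (c ∩ d).card + 2 * (X.filter (fun d => Disjoint d c)).card = 2 * X.card := by
  induction X using Finset.induction_on with
  | empty => simp
  | insert a s ha ih =>
    have hs : ∀ d ∈ s, (c ∩ d).card = 0 ∨ (c ∩ d).card = 2 :=
      fun d hd => h d (mem_insert_of_mem hd)
    have ih' := ih hs
    rw [sum_insert ha, card_insert_of_notMem ha, filter_insert]
    rcases h a (mem_insert_self a s) with h0 | h2
    · have hd : Disjoint a c := by
        rw [disjoint_comm, disjoint_iff_inter_eq_empty, ← card_eq_zero]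
        exact h0
      rw [if_pos hd, card_insert_of_notMem (fun hh => ha (mem_of_mem_filter a hh)), h0]
      omega
    · have hd : ¬ Disjoint a c := by
        rw [disjoint_comm, disjoint_iff_inter_eq_empty, ← card_eq_zero]
        omega
      rw [if_neg hd, h2]
      omega

section S3622

variable (hα : Fintype.card α = 22) {B : Set (Finset α)} (hB : IsSteinerSystem 3 6 B)
include hα hB

theorem inter_zero_two {b c : Finset α} (hb : b ∈ B) (hc : c ∈ B) (hbc : b ≠ c) :
    (b ∩ c).card = 0 ∨ (b ∩ c).card = 2 :=
  Cfsg.Agent.S0356.result hα hB hb hc hbc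

/-- number of blocks through a point -/
theorem card_through_point (x : α) : ((blocks B).filter (fun d => x ∈ d)).card = 21 := by
  have := (Cfsg.Agent.S0356.lam_values hα hB {x}).2.1 (card_singleton x)
  rw [lam] at this
  rw [← this]
  congr 1
  ext d
  simp

/-- number of blocks through two points -/
theorem card_through_pair (x y : α) (hxy : x ≠ y) :
    ((blocks B).filter (fun d => x ∈ d ∧ y ∈ d)).card = 5 := by
  have := (Cfsg.Agent.S0356.lam_values hα hB {x, y}).2.2 (card_pair hxy)
  rw [lam] at this
  rw [← this]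
  congr 1
  ext d
  simp [insert_subset_iff]

theorem card_blocks : (blocks B).card = 77 := by
  have := (Cfsg.Agent.S0356.lam_values hα hB ∅).1 card_empty
  rw [lam] at this
  rw [← this]
  congr 1
  symm
  apply filter_true_of_mem
  intro d _
  exact empty_subset d

/-- (P1) through a point outside a block there are exactly `6` blocks disjoint from it. -/
theorem card_through_disjoint {b : Finset α} (hb : b ∈ B) (x : α) (hx : x ∉ b) :
    ((blocks B).filter (fun d => x ∈ d ∧ Disjoint d b)).card = 6 := by
  set X := (blocks B).filter (fun d => x ∈ d) with hX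
  have hXcard : X.card = 21 := card_through_point hα hB x
  have h02 : ∀ d ∈ X, (b ∩ d).card = 0 ∨ (b ∩ d).card = 2 := by
    intro d hd
    rw [hX, mem_filter, mem_blocks] at hd
    apply inter_zero_two hα hB hb hd.1
    rintro rfl
    exact hx hd.2
  have h1 := sum_inter_zero_two X b h02
  have h2 := sum_inter_eq X b
  have h3 : ∀ y ∈ b, (X.filter (fun d => y ∈ d)).card = 5 := by
    intro y hy
    have hxy : x ≠ y := by rintro rfl; exact hx hy
    rw [← card_through_pair hα hB x y hxy, hX, filter_filter]
  rw [sum_congr rfl h3, sum_const, smul_eq_mul, hB.1 b hb] at h2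
  rw [h2, hXcard] at h1
  have : (blocks B).filter (fun d => x ∈ d ∧ Disjoint d b) = X.filter (fun d => Disjoint d b) := by
    rw [hX, filter_filter]
  rw [this]
  omega

/-- number of blocks disjoint from a given block -/
theorem card_disjoint {b : Finset α} (hb : b ∈ B) :
    ((blocks B).filter (fun d => Disjoint d b)).card = 16 := by
  obtain ⟨h0, -⟩ := Cfsg.Agent.S0356.nInter_values hα hB hb
  rw [nInter] at h0
  rw [← h0]
  congr 1
  ext c
  simp only [mem_filter, mem_erase, mem_blocks, card_eq_zero, ← disjoint_iff_inter_eq_empty]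
  constructor
  · rintro ⟨hc, hd⟩
    refine ⟨⟨?_, hc⟩, hd.symm⟩
    rintro rfl
    rw [disjoint_self, bot_eq_empty] at hd
    have := hB.1 c hc
    rw [hd] at this
    simp at this
  · rintro ⟨⟨_, hc⟩, hd⟩
    exact ⟨hc, hd.symm⟩

/-- Key count: sum over blocks disjoint from `b` of `|c ∩ d|`. -/
theorem sum_disjoint_inter {b c : Finset α} (hb : b ∈ B) :
    ∑ d ∈ (blocks B).filter (fun d => Disjoint d b), (c ∩ d).card = 6 * (c \ b).card := by
  rw [sum_inter_eq]
  have h1 : ∀ y ∈ c, (((blocks B).filter (fun d => Disjoint d b)).filter (fun d => y ∈ d)).card =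
      if y ∈ b then 0 else 6 := by
    intro y _
    split_ifs with hy
    · rw [card_eq_zero, filter_eq_empty_iff]
      intro d hd hyd
      rw [mem_filter] at hd
      exact (disjoint_left.mp hd.2) hyd hy
    · rw [← card_through_disjoint hα hB hb y hy, filter_filter]
      congr 1
      ext d
      simp only [mem_filter]
      tauto
  rw [sum_congr rfl h1, sum_ite, sum_const_zero, zero_add, sum_const, smul_eq_mul, mul_comm]
  congr 2
  ext y
  simp [mem_sdiff]

/-- Two disjoint blocks have no common disjoint block. -/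
theorem card_disjoint_both_of_disjoint {b c : Finset α} (hb : b ∈ B) (hc : c ∈ B)
    (hbc : Disjoint b c) :
    ((blocks B).filter (fun d => Disjoint d b ∧ Disjoint d c)).card = 0 := by
  set Y := (blocks B).filter (fun d => Disjoint d b) with hY
  have hYcard : Y.card = 16 := card_disjoint hα hB hb
  have hcY : c ∈ Y := by rw [hY, mem_filter, mem_blocks]; exact ⟨hc, hbc.symm⟩
  have hsum := sum_disjoint_inter hα hB (c := c) hb
  have hcb : (c \ b).card = 6 := by
    rw [sdiff_eq_self_of_disjoint hbc.symm, hB.1 c hc]
  rw [hcb, ← hY, ← add_sum_erase Y _ hcY, inter_self, hB.1 c hc] at hsum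
  have h02 : ∀ d ∈ Y.erase c, (c ∩ d).card = 0 ∨ (c ∩ d).card = 2 := by
    intro d hd
    rw [mem_erase, hY, mem_filter, mem_blocks] at hd
    exact inter_zero_two hα hB hc hd.2.1 (Ne.symm hd.1)
  have h1 := sum_inter_zero_two (Y.erase c) c h02
  rw [card_erase_of_mem hcY, hYcard] at h1
  have h2 : (blocks B).filter (fun d => Disjoint d b ∧ Disjoint d c) =
      (Y.erase c).filter (fun d => Disjoint d c) := by
    ext d
    simp only [hY, mem_filter, mem_erase, mem_blocks]
    constructor
    · rintro ⟨hd, hdb, hdc⟩
      refine ⟨⟨?_, hd, hdb⟩, hdc⟩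
      rintro rfl
      rw [disjoint_self, bot_eq_empty] at hdc
      have := hB.1 d hd
      rw [hdc] at this
      simp at this
    · rintro ⟨⟨_, hd, hdb⟩, hdc⟩
      exact ⟨hd, hdb, hdc⟩
  rw [h2]
  omega

/-- Two blocks meeting in two points have exactly four common disjoint blocks. -/
theorem card_disjoint_both_of_inter {b c : Finset α} (hb : b ∈ B) (hc : c ∈ B)
    (hbc : (b ∩ c).card = 2) :
    ((blocks B).filter (fun d => Disjoint d b ∧ Disjoint d c)).card = 4 := by
  set Y := (blocks B).filter (fun d => Disjoint d b) with hY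
  have hYcard : Y.card = 16 := card_disjoint hα hB hb
  have hsum := sum_disjoint_inter hα hB (c := c) hb
  have hcb : (c \ b).card = 4 := by
    have := card_sdiff_add_card_inter c b
    rw [inter_comm, hbc, hB.1 c hc] at this
    omega
  rw [hcb, ← hY] at hsum
  have h02 : ∀ d ∈ Y, (c ∩ d).card = 0 ∨ (c ∩ d).card = 2 := by
    intro d hd
    rw [hY, mem_filter, mem_blocks] at hd
    apply inter_zero_two hα hB hc hd.1
    rintro rfl
    have : b ∩ c = ∅ := by
      rw [← disjoint_iff_inter_eq_empty]
      exact hd.2.symm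
    rw [this] at hbc
    simp at hbc
  have h1 := sum_inter_zero_two Y c h02
  rw [hYcard] at h1
  have h2 : (blocks B).filter (fun d => Disjoint d b ∧ Disjoint d c) =
      Y.filter (fun d => Disjoint d c) := by
    rw [hY, filter_filter]
  rw [h2]
  omega

end S3622

end Cfsg.Agent.Lib.Helper1_Steiner2
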