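import Mathlib
import Cfsg.Prelude.Def_SolvableStructure
import Cfsg.Agent.S0555
import Cfsg.Agent.Lib.Helper1_Index

set_option autoImplicit false

/-!
# Supersolvable groups: closure properties of `Cfsg.IsSupersolvable`
-/

namespace Cfsg.Agent.Lib.Helper1_Supersolvable

open Cfsg

variable {G : Type*} [Group G]

theorem of_subsingleton [Subsingleton G] : IsSupersolvable G := by
  refine ⟨0, fun _ => ⊥, rfl, ?_, fun _ => inferInstance, fun i => i.elim0⟩
  exact Subsingleton.elim _ _

theorem map_of_surjective {G' : Type*} [Group G'] (f : G →* G') (hf : Function.Surjective f)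
    (h : IsSupersolvable G) : IsSupersolvable G' := by
  obtain ⟨n, H, h0, hn, hnorm, hstep⟩ := h
  refine ⟨n, fun i => (H i).map f, ?_, ?_, fun i => (hnorm i).map f hf, ?_⟩
  · simp only [h0, Subgroup.map_bot]
  · simp only [hn]
    exact Subgroup.map_top_of_surjective f hf
  · intro i
    obtain ⟨g, hg⟩ := hstep i
    refine ⟨f g, ?_⟩
    simp only [hg, Subgroup.map_sup, MonoidHom.map_zpowers]

theorem of_mulEquiv {G' : Type*} [Group G'] (e : G ≃* G') (h : IsSupersolvable G) :
    IsSupersolvable G' :=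
  map_of_surjective e.toMonoidHom e.surjective h

theorem quotient (N : Subgroup G) [N.Normal] (h : IsSupersolvable G) : IsSupersolvable (G ⧸ N) :=
  map_of_surjective (QuotientGroup.mk' N) (QuotientGroup.mk'_surjective N) h

/-- If `C` maps onto a cyclic subgroup of `G ⧸ A`, then `C` is generated by `A ⊓ C` and one more
element. -/
theorem exists_gen_of_map_cyclic (A : Subgroup G) [A.Normal] (C : Subgroup G)
    (h : IsCyclic (C.map (QuotientGroup.mk' A))) : ∃ c ∈ C, C = (A ⊓ C) ⊔ Subgroup.zpowers c := by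
  obtain ⟨⟨x, hx⟩, hgen⟩ := h.exists_generator
  obtain ⟨c, hc, rfl⟩ := hx
  refine ⟨c, hc, le_antisymm ?_ (sup_le inf_le_right ((Subgroup.zpowers_le).mpr hc))⟩
  intro b hb
  have hb' : QuotientGroup.mk' A b ∈ C.map (QuotientGroup.mk' A) := ⟨b, hb, rfl⟩
  obtain ⟨k, hk⟩ := Subgroup.mem_zpowers_iff.mp (hgen ⟨_, hb'⟩)
  have hk' : (QuotientGroup.mk' A c) ^ k = QuotientGroup.mk' A b := by
    have := congrArg Subtype.val hk
    simpa using this
  have hmem : b * (c ^ k)⁻¹ ∈ A := by
    rw [← QuotientGroup.eq_one_iff, ← QuotientGroup.mk'_apply, map_mul, map_inv, map_zpow, hk',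
      mul_inv_cancel]
  have : b = (b * (c ^ k)⁻¹) * c ^ k := by group
  rw [this]
  exact Subgroup.mul_mem _
    (Subgroup.mem_sup_left ⟨hmem, C.mul_mem hb (C.inv_mem (C.zpow_mem hc k))⟩)
    (Subgroup.mem_sup_right (Subgroup.zpow_mem _ (Subgroup.mem_zpowers c) k))

theorem map_mk_sup_zpowers (A : Subgroup G) [A.Normal] (g : G) :
    (A ⊔ Subgroup.zpowers g).map (QuotientGroup.mk' A) =
      Subgroup.zpowers (QuotientGroup.mk' A g) := by
  rw [Subgroup.map_sup, MonoidHom.map_zpowers]
  have : A.map (QuotientGroup.mk' A) = ⊥ := by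
    rw [Subgroup.map_eq_bot_iff, QuotientGroup.ker_mk']
  rw [this, bot_sup_eq]

/-- The key step: a subgroup of `A ⊔ zpowers g` (with `A` normal) is `A ⊓ C` joined with a cyclic
group. -/
theorem exists_gen_of_le_sup_zpowers (A : Subgroup G) [A.Normal] (g : G) (C : Subgroup G)
    (hC : C ≤ A ⊔ Subgroup.zpowers g) : ∃ c ∈ C, C = (A ⊓ C) ⊔ Subgroup.zpowers c := by
  apply exists_gen_of_map_cyclic
  have hle : C.map (QuotientGroup.mk' A) ≤ Subgroup.zpowers (QuotientGroup.mk' A g) := by
    rw [← map_mk_sup_zpowers]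
    exact Subgroup.map_mono hC
  exact Subgroup.isCyclic_of_le hle

theorem of_injective {K : Type*} [Group K] (f : K →* G) (hf : Function.Injective f)
    (h : IsSupersolvable G) : IsSupersolvable K := by
  obtain ⟨n, H, h0, hn, hnorm, hstep⟩ := h
  refine ⟨n, fun i => (H i).comap f, ?_, ?_, fun i => (hnorm i).comap f, ?_⟩
  · simp only [h0]
    exact (MonoidHom.ker_eq_bot_iff f).mpr hf
  · simp only [hn, Subgroup.comap_top]
  · intro i
    obtain ⟨g, hg⟩ := hstep i
    haveI := hnorm i.castSucc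
    obtain ⟨c, hc, hCeq⟩ := exists_gen_of_le_sup_zpowers (H i.castSucc) g (H i.succ ⊓ f.range)
      (hg ▸ inf_le_left)
    obtain ⟨k, rfl⟩ := hc.2
    refine ⟨k, ?_⟩
    apply Subgroup.map_injective hf
    rw [Subgroup.map_sup, Subgroup.map_comap_eq, Subgroup.map_comap_eq, MonoidHom.map_zpowers,
      inf_comm, hCeq]
    congr 1
    have hle : H i.castSucc ≤ H i.succ := hg ▸ le_sup_left
    rw [← inf_assoc, inf_eq_left.mpr hle, inf_comm]

theorem subgroup (K : Subgroup G) (h : IsSupersolvable G) : IsSupersolvable K :=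
  of_injective K.subtype K.subtype_injective h

theorem of_surjective_of_isCyclic_ker {G' : Type*} [Group G'] (f : G →* G')
    (hf : Function.Surjective f) (hker : IsCyclic f.ker) (h : IsSupersolvable G') :
    IsSupersolvable G := by
  obtain ⟨n, H, h0, hn, hnorm, hstep⟩ := h
  refine ⟨n + 1, Fin.cons ⊥ (fun i => (H i).comap f), ?_, ?_, ?_, ?_⟩
  · rfl
  · rw [← Fin.succ_last, Fin.cons_succ, hn, Subgroup.comap_top]
  · intro i
    refine Fin.cases ?_ (fun j => ?_) i
    · rw [Fin.cons_zero]; infer_instance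
    · rw [Fin.cons_succ]; exact (hnorm j).comap f
  · intro i
    refine Fin.cases ?_ (fun j => ?_) i
    · obtain ⟨g, hg⟩ := hker.exists_generator
      refine ⟨(g : G), ?_⟩
      rw [Fin.castSucc_zero, Fin.cons_zero, Fin.cons_succ, h0, bot_sup_eq]
      have h1 : Subgroup.zpowers g = ⊤ := (Subgroup.eq_top_iff' _).mpr hg
      have h2 : (Subgroup.zpowers g).map f.ker.subtype = Subgroup.zpowers (g : G) := by
        rw [MonoidHom.map_zpowers]; rfl
      rw [← h2, h1, ← MonoidHom.range_eq_map, Subgroup.range_subtype]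
      rfl
    · obtain ⟨g', hg'⟩ := hstep j
      obtain ⟨g, rfl⟩ := hf g'
      refine ⟨g, ?_⟩
      rw [← Fin.succ_castSucc, Fin.cons_succ, Fin.cons_succ, hg', ← Subgroup.comap_sup_eq _ _ _ hf,
        ← MonoidHom.map_zpowers, Subgroup.comap_map_eq, sup_comm (Subgroup.zpowers g), ← sup_assoc,
        sup_eq_left.mpr (Subgroup.ker_le_comap f _)]

theorem of_quotient_of_isCyclic (N : Subgroup G) [N.Normal] [hN : IsCyclic N]
    (h : IsSupersolvable (G ⧸ N)) : IsSupersolvable G := by
  apply of_surjective_of_isCyclic_ker (QuotientGroup.mk' N) (QuotientGroup.mk'_surjective N) _ h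
  rw [QuotientGroup.ker_mk']
  exact hN

theorem of_isCyclic [hG : IsCyclic G] : IsSupersolvable G := by
  apply of_surjective_of_isCyclic_ker (1 : G →* Unit) (fun _ => ⟨1, rfl⟩) _ of_subsingleton
  rw [MonoidHom.ker_one]
  exact isCyclic_of_surjective (Subgroup.topEquiv (G := G)).symm.toMonoidHom
    (Subgroup.topEquiv (G := G)).symm.surjective

theorem exists_normal_cyclic [Nontrivial G] (h : IsSupersolvable G) :
    ∃ g : G, g ≠ 1 ∧ (Subgroup.zpowers g).Normal := by
  classical
  obtain ⟨n, H, h0, hn, hnorm, hstep⟩ := h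
  have hex : ∃ k : ℕ, ∃ hk : k < n + 1, H ⟨k, hk⟩ ≠ ⊥ := ⟨n, Nat.lt_succ_self n, by
    change H (Fin.last n) ≠ ⊥
    rw [hn]
    exact top_ne_bot⟩
  obtain ⟨hm, hHm⟩ := Nat.find_spec hex
  have hm0 : Nat.find hex ≠ 0 := by
    intro h
    apply hHm
    exact (congrArg H (Fin.ext h)).trans h0
  obtain ⟨j, hj⟩ := Nat.exists_eq_succ_of_ne_zero hm0
  have hjlt : j < n := by omega
  have hbot : H ⟨j, by omega⟩ = ⊥ := by
    by_contra hne
    exact Nat.find_min hex (by omega : j < Nat.find hex) ⟨by omega, hne⟩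
  obtain ⟨g, hg⟩ := hstep ⟨j, hjlt⟩
  have e1 : (⟨j, hjlt⟩ : Fin n).castSucc = ⟨j, by omega⟩ := rfl
  have e2 : (⟨j, hjlt⟩ : Fin n).succ = ⟨Nat.find hex, hm⟩ := by
    apply Fin.ext
    exact hj.symm
  rw [e1, e2, hbot, bot_sup_eq] at hg
  refine ⟨g, ?_, ?_⟩
  · rintro rfl
    apply hHm
    rw [hg, Subgroup.zpowers_one_eq_bot]
  · rw [← hg]
    exact hnorm _

theorem normal_zpowers_pow {g : G} (h : (Subgroup.zpowers g).Normal) (m : ℕ) :
    (Subgroup.zpowers (g ^ m)).Normal := by
  constructor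
  intro y hy x
  obtain ⟨j, rfl⟩ := Subgroup.mem_zpowers_iff.mp hy
  obtain ⟨k, hk⟩ := Subgroup.mem_zpowers_iff.mp (h.conj_mem g (Subgroup.mem_zpowers g) x)
  rw [Subgroup.mem_zpowers_iff]
  refine ⟨k * j, ?_⟩
  have h1 : x * (g ^ m) ^ j * x⁻¹ = (x * g * x⁻¹) ^ ((m : ℤ) * j) := by
    rw [conj_zpow, zpow_mul, zpow_natCast]
  rw [h1, ← hk, ← zpow_natCast g m, ← zpow_mul, ← zpow_mul]
  congr 1
  ring

/-- A nontrivial finite supersolvable group has a normal subgroup of prime order. -/
theorem exists_normal_prime [Finite G] [Nontrivial G] (h : IsSupersolvable G) :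
    ∃ N : Subgroup G, N.Normal ∧ (Nat.card N).Prime := by
  obtain ⟨g, hg1, hgn⟩ := exists_normal_cyclic h
  have ho : orderOf g ≠ 1 := fun h => hg1 (orderOf_eq_one_iff.mp h)
  obtain ⟨p, hp, hpg⟩ := Nat.exists_prime_and_dvd ho
  refine ⟨Subgroup.zpowers (g ^ (orderOf g / p)), normal_zpowers_pow hgn _, ?_⟩
  rw [Nat.card_zpowers, orderOf_pow_orderOf_div (orderOf_pos g).ne' hpg]
  exact hp

theorem isCyclic_of_card_prime (N : Subgroup G) (h : (Nat.card N).Prime) : IsCyclic N :=
  haveI := Fact.mk h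
  isCyclic_of_prime_card rfl

theorem card_quotient_lt [Finite G] (N : Subgroup G) [N.Normal] (h : (Nat.card N).Prime) :
    Nat.card (G ⧸ N) < Nat.card G := by
  have h1 := Subgroup.card_eq_card_quotient_mul_card_subgroup N
  have h2 : 0 < Nat.card (G ⧸ N) := Nat.card_pos
  have h3 := h.two_le
  nlinarith

theorem prod {H : Type*} [Group H] [Finite G] (hG : IsSupersolvable G) (hH : IsSupersolvable H) :
    IsSupersolvable (G × H) := by
  induction hn : Nat.card G using Nat.strong_induction_on generalizing G with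
  | _ n ih =>
  rcases subsingleton_or_nontrivial G with hs | hnt
  · exact map_of_surjective (MonoidHom.inr G H)
      (fun x => ⟨x.2, Prod.ext (Subsingleton.elim _ _) rfl⟩) hH
  · obtain ⟨N, hNn, hNp⟩ := exists_normal_prime hG
    have hq : IsSupersolvable ((G ⧸ N) × H) :=
      ih (Nat.card (G ⧸ N)) (hn ▸ card_quotient_lt N hNp) (quotient N hG) rfl
    let f : G × H →* (G ⧸ N) × H := MonoidHom.prodMap (QuotientGroup.mk' N) (MonoidHom.id H)
    have hf : Function.Surjective f :=
      Function.Surjective.prodMap (QuotientGroup.mk'_surjective N) Function.surjective_id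
    apply of_surjective_of_isCyclic_ker f hf _ hq
    haveI := isCyclic_of_card_prime N hNp
    let φ : N →* f.ker := (MonoidHom.inl G H).comp N.subtype |>.codRestrict f.ker (by
      intro a
      rw [MonoidHom.mem_ker]
      apply Prod.ext
      · change QuotientGroup.mk' N (a : G) = 1
        rw [QuotientGroup.mk'_apply, QuotientGroup.eq_one_iff]
        exact a.2
      · rfl)
    apply isCyclic_of_surjective φ
    rintro ⟨⟨a, b⟩, hab⟩
    rw [MonoidHom.mem_ker] at hab
    have h1 : QuotientGroup.mk' N a = 1 := congrArg Prod.fst hab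
    have h2 : b = 1 := congrArg Prod.snd hab
    rw [QuotientGroup.mk'_apply, QuotientGroup.eq_one_iff] at h1
    refine ⟨⟨a, h1⟩, ?_⟩
    apply Subtype.ext
    apply Prod.ext
    · rfl
    · exact h2.symm

open scoped Pointwise in
theorem isCyclic_quotient_of_sup_zpowers (A B : Subgroup G) [A.Normal] (g : G)
    (hB : B = A ⊔ Subgroup.zpowers g) : IsCyclic (B ⧸ A.subgroupOf B) := by
  have hgB : g ∈ B := hB ▸ Subgroup.mem_sup_right (Subgroup.mem_zpowers g)
  refine ⟨⟨QuotientGroup.mk ⟨g, hgB⟩, fun x => ?_⟩⟩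
  obtain ⟨⟨b, hb⟩, rfl⟩ := QuotientGroup.mk_surjective x
  have hb' : b ∈ (A : Set G) * (Subgroup.zpowers g : Set G) := by
    rw [← Subgroup.normal_mul]
    exact hB ▸ hb
  obtain ⟨a, ha, z, hz, hab⟩ := Set.mem_mul.mp hb'
  obtain ⟨k, rfl⟩ := Subgroup.mem_zpowers_iff.mp hz
  refine ⟨k, ?_⟩
  change (QuotientGroup.mk ⟨g, hgB⟩ : B ⧸ A.subgroupOf B) ^ k = QuotientGroup.mk ⟨b, hb⟩
  rw [← QuotientGroup.mk_zpow, QuotientGroup.eq, Subgroup.mem_subgroupOf]
  have : (((⟨g, hgB⟩ : B) ^ k)⁻¹ * ⟨b, hb⟩ : B) = ((g ^ k)⁻¹ * b : G) := by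
    simp
  rw [this, ← hab]
  have h2 := (inferInstance : A.Normal).conj_mem a ha (g ^ k)⁻¹
  simpa [mul_assoc] using h2

open scoped commutatorElement in
/-- The commutator subgroup of a supersolvable group is nilpotent. -/
theorem commutator_isNilpotent (h : IsSupersolvable G) : Group.IsNilpotent (commutator G) := by
  obtain ⟨n, H, h0, hn, hnorm, hstep⟩ := h
  rw [Subgroup.nilpotent_iff_finite_ascending_central_series]
  have hlt : ∀ i : ℕ, min i n < n + 1 := fun i => by omega
  refine ⟨n, fun i => (H ⟨min i n, hlt i⟩).subgroupOf (commutator G), ⟨?_, ?_⟩, ?_⟩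
  · have : (⟨min 0 n, hlt 0⟩ : Fin (n + 1)) = 0 := Fin.ext (by simp)
    simp only [this, h0, Subgroup.bot_subgroupOf]
  · intro x i hx g
    by_cases hi : i < n
    · have e1 : (⟨min (i + 1) n, hlt (i + 1)⟩ : Fin (n + 1)) = (⟨i, hi⟩ : Fin n).succ :=
        Fin.ext (by simp; omega)
      have e2 : (⟨min i n, hlt i⟩ : Fin (n + 1)) = (⟨i, hi⟩ : Fin n).castSucc :=
        Fin.ext (by simp; omega)
      simp only [e1] at hx
      simp only [e2]
      obtain ⟨g0, hg0⟩ := hstep ⟨i, hi⟩
      haveI := hnorm (⟨i, hi⟩ : Fin n).castSucc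
      haveI := hnorm (⟨i, hi⟩ : Fin n).succ
      haveI := isCyclic_quotient_of_sup_zpowers _ _ g0 hg0
      rw [Subgroup.mem_subgroupOf] at hx ⊢
      have := Cfsg.Agent.S0555.step1 (H (⟨i, hi⟩ : Fin n).succ) (H (⟨i, hi⟩ : Fin n).castSucc)
        (g : G) g.2 (x : G) hx
      have h3 := Subgroup.inv_mem _ this
      have e : ((⁅x, g⁆ : commutator G) : G) = ((g : G) * x * (g : G)⁻¹ * (x : G)⁻¹)⁻¹ := by
        rw [commutatorElement_def]
        simp [mul_assoc]
      rw [e]
      exact h3
    · have e2 : (⟨min i n, hlt i⟩ : Fin (n + 1)) = Fin.last n :=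
        Fin.ext (by simp; omega)
      simp only [e2, hn, Subgroup.top_subgroupOf]
      exact Subgroup.mem_top _
  · have e2 : (⟨min n n, hlt n⟩ : Fin (n + 1)) = Fin.last n := Fin.ext (by simp)
    simp only [e2, hn, Subgroup.top_subgroupOf]

theorem isCoatom_map_of_ker_le {G' : Type*} [Group G'] (f : G →* G') (hf : Function.Surjective f)
    (M : Subgroup G) (hker : f.ker ≤ M) (hM : IsCoatom M) : IsCoatom (M.map f) := by
  constructor
  · intro h
    apply hM.1
    rw [← Subgroup.comap_map_eq_self hker, h, Subgroup.comap_top]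
  · intro L hL
    have h1 : M ≤ L.comap f := by
      rw [← Subgroup.comap_map_eq_self hker]
      exact Subgroup.comap_mono hL.le
    have h2 : M ≠ L.comap f := by
      intro h
      apply hL.ne
      rw [h, Subgroup.map_comap_eq_self_of_surjective hf]
    have h3 := hM.2 _ (lt_of_le_of_ne h1 h2)
    rw [← Subgroup.map_comap_eq_self_of_surjective hf L, h3, Subgroup.map_top_of_surjective f hf]

/-- In a finite supersolvable group every maximal subgroup has prime index. -/
theorem index_prime_of_isCoatom [Finite G] (hG : IsSupersolvable G) (M : Subgroup G)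
    (hM : IsCoatom M) : M.index.Prime := by
  induction hn : Nat.card G using Nat.strong_induction_on generalizing G with
  | _ n ih =>
  haveI : Nontrivial G := by
    by_contra h
    rw [not_nontrivial_iff_subsingleton] at h
    exact hM.1 (Subsingleton.elim _ _)
  obtain ⟨N, hNn, hNp⟩ := exists_normal_prime hG
  by_cases hNM : N ≤ M
  · have hker : (QuotientGroup.mk' N).ker ≤ M := by rw [QuotientGroup.ker_mk']; exact hNM
    have hco := isCoatom_map_of_ker_le (QuotientGroup.mk' N) (QuotientGroup.mk'_surjective N) M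
      hker hM
    have := ih _ (hn ▸ card_quotient_lt N hNp) (quotient N hG) _ hco rfl
    rw [Subgroup.index_map, sup_eq_left.mpr hker,
      MonoidHom.range_eq_top.mpr (QuotientGroup.mk'_surjective N), Subgroup.index_top,
      mul_one] at this
    exact this
  · have hsup : N ⊔ M = ⊤ := by
      apply hM.2
      apply lt_of_le_of_ne le_sup_right
      intro h
      apply hNM
      rw [h]
      exact le_sup_left
    have h1 : M.relIndex (N ⊔ M) = (N ⊓ M).relIndex N :=
      Cfsg.Agent.Lib.Helper1_Index.second_iso_abs N M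
    rw [hsup, Subgroup.relIndex_top_right, inf_comm, Subgroup.inf_relIndex_right] at h1
    rw [h1, Subgroup.relIndex]
    haveI := Fact.mk hNp
    rcases Subgroup.eq_bot_or_eq_top_of_prime_card (M.subgroupOf N) with h | h
    · rw [h, Subgroup.index_bot]
      exact hNp
    · exfalso
      apply hNM
      rwa [Subgroup.subgroupOf_eq_top] at h

end Cfsg.Agent.Lib.Helper1_Supersolvable
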