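import Mathlib
import Cfsg.Prelude.Def_SolvableStructure
import Cfsg.Agent.Lib.Helper1_Supersolvable

set_option autoImplicit false

/-!
# Supersolvable groups, part 2: p-groups, subgroups of prime index, converse of Lagrange
-/

namespace Cfsg.Agent.Lib.Helper1_Supersolvable2

open Cfsg Cfsg.Agent.Lib.Helper1_Supersolvable

variable {G : Type*} [Group G]

/-- If `z ≠ 1` is central (more generally generates a normal subgroup) and the quotient by
`zpowers z` is supersolvable, so is `G`. -/
theorem of_quotient_zpowers (z : G) (hz : (Subgroup.zpowers z).Normal)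
    (h : IsSupersolvable (G ⧸ Subgroup.zpowers z)) : IsSupersolvable G :=
  of_quotient_of_isCyclic (Subgroup.zpowers z) h

theorem card_quotient_zpowers_lt [Finite G] (z : G) (hz1 : z ≠ 1) [(Subgroup.zpowers z).Normal] :
    Nat.card (G ⧸ Subgroup.zpowers z) < Nat.card G := by
  have h1 := Subgroup.card_eq_card_quotient_mul_card_subgroup (Subgroup.zpowers z)
  have h2 : 0 < Nat.card (G ⧸ Subgroup.zpowers z) := Nat.card_pos
  have h3 : 2 ≤ Nat.card (Subgroup.zpowers z) := by
    rw [Nat.card_zpowers]
    have := orderOf_pos z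
    have : orderOf z ≠ 1 := fun h => hz1 (orderOf_eq_one_iff.mp h)
    omega
  nlinarith

/-- A finite `p`-group is supersolvable. -/
theorem of_isPGroup [Finite G] (p : ℕ) [hp : Fact p.Prime] (hG : IsPGroup p G) :
    IsSupersolvable G := by
  induction hn : Nat.card G using Nat.strong_induction_on generalizing G with
  | _ n ih =>
  rcases subsingleton_or_nontrivial G with hs | hnt
  · exact of_subsingleton
  · have hc := hG.center_nontrivial
    obtain ⟨⟨z, hz⟩, hz1⟩ := exists_ne (1 : Subgroup.center G)
    have hz1' : z ≠ 1 := fun h => hz1 (Subtype.ext h)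
    have hnorm : (Subgroup.zpowers z).Normal := by
      constructor
      intro y hy x
      obtain ⟨k, rfl⟩ := Subgroup.mem_zpowers_iff.mp hy
      have hzk : z ^ k ∈ Subgroup.center G := Subgroup.zpow_mem _ hz k
      rw [Subgroup.mem_center_iff] at hzk
      rw [hzk x, mul_inv_cancel_right]
      exact Subgroup.zpow_mem _ (Subgroup.mem_zpowers z) k
    apply of_quotient_zpowers z hnorm
    exact ih _ (hn ▸ card_quotient_zpowers_lt z hz1') (hG.to_quotient _) rfl

/-- A finite nilpotent group is supersolvable. -/
theorem of_isNilpotent [Finite G] (hG : Group.IsNilpotent G) : IsSupersolvable G := by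
  induction hn : Nat.card G using Nat.strong_induction_on generalizing G with
  | _ n ih =>
  rcases subsingleton_or_nontrivial G with hs | hnt
  · exact of_subsingleton
  · have hc : Nontrivial (Subgroup.center G) :=
      (Subgroup.nontrivial_iff_ne_bot _).mpr (Group.IsNilpotent.center_ne_bot G)
    obtain ⟨⟨z, hz⟩, hz1⟩ := exists_ne (1 : Subgroup.center G)
    have hz1' : z ≠ 1 := fun h => hz1 (Subtype.ext h)
    have hnorm : (Subgroup.zpowers z).Normal := by
      constructor
      intro y hy x
      obtain ⟨k, rfl⟩ := Subgroup.mem_zpowers_iff.mp hy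
      have hzk : z ^ k ∈ Subgroup.center G := Subgroup.zpow_mem _ hz k
      rw [Subgroup.mem_center_iff] at hzk
      rw [hzk x, mul_inv_cancel_right]
      exact Subgroup.zpow_mem _ (Subgroup.mem_zpowers z) k
    apply of_quotient_zpowers z hnorm
    exact ih _ (hn ▸ card_quotient_zpowers_lt z hz1')
      (Group.nilpotent_of_surjective (QuotientGroup.mk' _) (QuotientGroup.mk'_surjective _)) rfl

/-- A finite supersolvable group has a subgroup of index `q` for each prime `q` dividing its
order. -/
theorem exists_index_eq_prime [Finite G] (hG : IsSupersolvable G) (q : ℕ) (hq : q.Prime)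
    (hqG : q ∣ Nat.card G) : ∃ M : Subgroup G, M.index = q := by
  induction hn : Nat.card G using Nat.strong_induction_on generalizing G with
  | _ n ih =>
  haveI : Nontrivial G := by
    by_contra h
    rw [not_nontrivial_iff_subsingleton] at h
    rw [Nat.card_unique] at hqG
    exact hq.one_lt.ne' (Nat.dvd_one.mp hqG)
  obtain ⟨N, hNn, hNp⟩ := exists_normal_prime hG
  have hcard := Subgroup.card_eq_card_quotient_mul_card_subgroup N
  by_cases hqQ : q ∣ Nat.card (G ⧸ N)
  · obtain ⟨M, hM⟩ := ih _ (hn ▸ card_quotient_lt N hNp) (quotient N hG) hqQ rfl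
    exact ⟨M.comap (QuotientGroup.mk' N),
      (Subgroup.index_comap_of_surjective M (QuotientGroup.mk'_surjective N)).trans hM⟩
  · have hqN : q ∣ Nat.card N := by
      rw [hcard] at hqG
      exact (hq.dvd_mul.mp hqG).resolve_left hqQ
    have hqN' : q = Nat.card N := (Nat.prime_dvd_prime_iff_eq hq hNp).mp hqN
    have hcop : Nat.Coprime (Nat.card N) N.index := by
      rw [← hqN', Subgroup.index_eq_card, hq.coprime_iff_not_dvd]
      exact hqQ
    obtain ⟨H, hH⟩ := Subgroup.exists_right_complement'_of_coprime hcop
    exact ⟨H, hH.index_eq_card.trans hqN'.symm⟩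

/-- Converse of Lagrange for finite supersolvable groups. -/
theorem hasSubgroupOfEveryOrder [Finite G] (hG : IsSupersolvable G) :
    HasSubgroupOfEveryOrder G := by
  induction hn : Nat.card G using Nat.strong_induction_on generalizing G with
  | _ n ih =>
  intro d hd
  by_cases hdn : d = Nat.card G
  · exact ⟨⊤, by rw [Subgroup.card_top, hdn]⟩
  · obtain ⟨k, hk⟩ := hd
    have hpos : 0 < Nat.card G := Nat.card_pos
    have hk1 : k ≠ 1 := by
      rintro rfl
      apply hdn
      rw [hk, mul_one]
    obtain ⟨q, hq, hqk⟩ := Nat.exists_prime_and_dvd hk1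
    have hqG : q ∣ Nat.card G := hk ▸ Dvd.dvd.mul_left hqk d
    obtain ⟨M, hM⟩ := exists_index_eq_prime hG q hq hqG
    have hMcard : Nat.card M * q = Nat.card G := by rw [← hM]; exact M.card_mul_index
    have hdM : d ∣ Nat.card M := by
      obtain ⟨k', rfl⟩ := hqk
      have : Nat.card M * q = d * k' * q := by rw [hMcard, hk]; ring
      have := Nat.eq_of_mul_eq_mul_right hq.pos this
      exact ⟨k', this⟩
    have hlt : Nat.card M < n := by
      rw [← hn, ← hMcard]
      have : 0 < Nat.card M := Nat.card_pos
      have := hq.two_le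
      nlinarith
    obtain ⟨K, hK⟩ := ih _ hlt (subgroup M hG) rfl d hdM
    refine ⟨K.map M.subtype, ?_⟩
    rw [Subgroup.card_subtype]
    exact hK

end Cfsg.Agent.Lib.Helper1_Supersolvable2
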