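import Mathlib
import Cfsg.Prelude.Def_SolvableStructure
import Cfsg.Agent.Lib.Helper1_Supersolvable

set_option autoImplicit false

/-!
# Supersolvable groups, part 3: normal subgroup of order the largest prime, ordered chief series
-/

namespace Cfsg.Agent.Lib.Helper1_Supersolvable3

open Cfsg Cfsg.Agent.Lib.Helper1_Supersolvable

variable {G : Type*} [Group G]

/-- In a subgroup of order `p * q` with `q < p`, two elements of order `p` generate the same
cyclic group. -/
theorem mem_zpowers_of_card_eq_mul [Finite G] (M : Subgroup G) (p q : ℕ) (hp : p.Prime)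
    (hqp : q < p) (hM : Nat.card M = p * q) (x y : G) (hx : x ∈ M) (hy : y ∈ M)
    (hxo : orderOf x = p) (hyo : orderOf y = p) : y ∈ Subgroup.zpowers x := by
  by_contra hne
  haveI : Fact (Nat.card (Subgroup.zpowers y)).Prime := ⟨by rw [Nat.card_zpowers, hyo]; exact hp⟩
  have hdisj : Disjoint (Subgroup.zpowers x) (Subgroup.zpowers y) := by
    rcases Subgroup.eq_bot_or_eq_top_of_prime_card
      ((Subgroup.zpowers x).subgroupOf (Subgroup.zpowers y)) with h | h
    · exact Subgroup.subgroupOf_eq_bot.mp h
    · exfalso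
      apply hne
      rw [Subgroup.subgroupOf_eq_top] at h
      exact h (Subgroup.mem_zpowers y)
  have hinj := Subgroup.mul_injective_of_disjoint hdisj
  let φ : Subgroup.zpowers x × Subgroup.zpowers y → M := fun g =>
    ⟨(g.1 : G) * g.2, M.mul_mem ((Subgroup.zpowers_le.mpr hx) g.1.2)
      ((Subgroup.zpowers_le.mpr hy) g.2.2)⟩
  have hφ : Function.Injective φ := by
    intro a b hab
    apply hinj
    exact congrArg Subtype.val hab
  have hle := Nat.card_le_card_of_injective φ hφ
  rw [Nat.card_prod, Nat.card_zpowers, Nat.card_zpowers, hxo, hyo, hM] at hle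
  have := Nat.le_of_mul_le_mul_left hle hp.pos
  omega

theorem card_comap_mk' [Finite G] (N : Subgroup G) [N.Normal] (M : Subgroup (G ⧸ N)) :
    Nat.card (M.comap (QuotientGroup.mk' N)) = Nat.card M * Nat.card N := by
  have h1 := (M.comap (QuotientGroup.mk' N)).card_mul_index
  rw [Subgroup.index_comap_of_surjective M (QuotientGroup.mk'_surjective N)] at h1
  have h2 := M.card_mul_index
  have h3 := Subgroup.card_eq_card_quotient_mul_card_subgroup N
  have h4 : 0 < M.index := Nat.pos_of_ne_zero (Subgroup.index_ne_zero_of_finite)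
  have : Nat.card (M.comap (QuotientGroup.mk' N)) * M.index = Nat.card M * Nat.card N * M.index := by
    rw [h1, h3, ← h2]; ring
  exact Nat.eq_of_mul_eq_mul_right h4 this

/-- A finite supersolvable group has a normal subgroup of order `p`, `p` the largest prime
dividing the group order. -/
theorem exists_normal_card_eq_of_max [Finite G] (hG : IsSupersolvable G) (p : ℕ) (hp : p.Prime)
    (hpG : p ∣ Nat.card G) (hmax : ∀ q : ℕ, q.Prime → q ∣ Nat.card G → q ≤ p) :
    ∃ N : Subgroup G, N.Normal ∧ Nat.card N = p := by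
  induction hn : Nat.card G using Nat.strong_induction_on generalizing G with
  | _ n ih =>
  haveI : Nontrivial G := by
    by_contra h
    rw [not_nontrivial_iff_subsingleton] at h
    rw [Nat.card_unique] at hpG
    exact hp.one_lt.ne' (Nat.dvd_one.mp hpG)
  obtain ⟨N0, hN0n, hN0p⟩ := exists_normal_prime hG
  have hcard := Subgroup.card_eq_card_quotient_mul_card_subgroup N0
  have hqle : Nat.card N0 ≤ p := hmax _ hN0p (Subgroup.card_subgroup_dvd_card N0)
  rcases eq_or_lt_of_le hqle with heq | hlt
  · exact ⟨N0, hN0n, heq⟩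
  · have hpQ : p ∣ Nat.card (G ⧸ N0) := by
      rw [hcard] at hpG
      rcases hp.dvd_mul.mp hpG with h | h
      · exact h
      · exfalso
        have := (Nat.prime_dvd_prime_iff_eq hp hN0p).mp h
        omega
    have hmaxQ : ∀ q : ℕ, q.Prime → q ∣ Nat.card (G ⧸ N0) → q ≤ p := fun q hq hqd =>
      hmax q hq (hcard ▸ Dvd.dvd.mul_right hqd _)
    obtain ⟨Mb, hMbn, hMbc⟩ := ih _ (hn ▸ card_quotient_lt N0 hN0p) (quotient N0 hG) hpQ hmaxQ rfl
    set M := Mb.comap (QuotientGroup.mk' N0) with hMdef
    have hMn : M.Normal := hMbn.comap _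
    have hMc : Nat.card M = p * Nat.card N0 := by rw [hMdef, card_comap_mk', hMbc]
    haveI := Fact.mk hp
    obtain ⟨x, hx⟩ := exists_prime_orderOf_dvd_card' (G := M) p (hMc ▸ dvd_mul_right p _)
    have hxo : orderOf (x : G) = p := by rw [Subgroup.orderOf_coe]; exact hx
    refine ⟨Subgroup.zpowers (x : G), ?_, by rw [Nat.card_zpowers, hxo]⟩
    constructor
    intro y hy g
    obtain ⟨k, rfl⟩ := Subgroup.mem_zpowers_iff.mp hy
    have hconj : g * (x : G) * g⁻¹ ∈ Subgroup.zpowers (x : G) := by
      apply mem_zpowers_of_card_eq_mul M p (Nat.card N0) hp hlt hMc (x : G) _ x.2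
        (hMn.conj_mem _ x.2 g) hxo
      have := MulEquiv.orderOf_eq (MulAut.conj g) (x : G)
      rw [MulAut.conj_apply] at this
      rw [this, hxo]
    rw [← conj_zpow]
    exact Subgroup.zpow_mem _ hconj k

theorem exists_max_prime (n : ℕ) (hn : 1 < n) :
    ∃ p : ℕ, p.Prime ∧ p ∣ n ∧ ∀ q : ℕ, q.Prime → q ∣ n → q ≤ p := by
  have hne : n.primeFactors.Nonempty := Nat.nonempty_primeFactors.mpr hn
  refine ⟨n.primeFactors.max' hne, ?_, ?_, ?_⟩
  · exact Nat.prime_of_mem_primeFactors (Finset.max'_mem _ hne)
  · exact Nat.dvd_of_mem_primeFactors (Finset.max'_mem _ hne)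
  · intro q hq hqn
    exact Finset.le_max' _ _ (Nat.mem_primeFactors.mpr ⟨hq, hqn, by omega⟩)

/-- A finite supersolvable group has a normal series with factors of prime order, the primes
being non-increasing going up. -/
theorem exists_ordered_chain [Finite G] (hG : IsSupersolvable G) :
    ∃ (n : ℕ) (H : Fin (n + 1) → Subgroup G), H 0 = ⊥ ∧ H (Fin.last n) = ⊤ ∧
      (∀ i, (H i).Normal) ∧
      (∀ i : Fin n, H i.castSucc ≤ H i.succ ∧ ((H i.castSucc).relIndex (H i.succ)).Prime) ∧
      ∀ i j : Fin n, i ≤ j →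
        (H j.castSucc).relIndex (H j.succ) ≤ (H i.castSucc).relIndex (H i.succ) := by
  induction hn : Nat.card G using Nat.strong_induction_on generalizing G with
  | _ m ih =>
  rcases subsingleton_or_nontrivial G with hs | hnt
  · exact ⟨0, fun _ => ⊥, rfl, Subsingleton.elim _ _, fun _ => inferInstance,
      fun i => i.elim0, fun i => i.elim0⟩
  · obtain ⟨p, hp, hpG, hmax⟩ := exists_max_prime (Nat.card G) Finite.one_lt_card
    obtain ⟨N, hNn, hNc⟩ := exists_normal_card_eq_of_max hG p hp hpG hmax
    obtain ⟨n, Hb, h0, hlast, hnorm, hstep, hmono⟩ :=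
      ih _ (hn ▸ card_quotient_lt N (hNc ▸ hp)) (quotient N hG) rfl
    have hsurj := QuotientGroup.mk'_surjective N
    have hidx : ∀ j : Fin n, ((Hb j.castSucc).comap (QuotientGroup.mk' N)).relIndex
        ((Hb j.succ).comap (QuotientGroup.mk' N)) = (Hb j.castSucc).relIndex (Hb j.succ) := by
      intro j
      rw [Subgroup.relIndex_comap, Subgroup.map_comap_eq_self_of_surjective hsurj]
    have hcb : (⊥ : Subgroup (G ⧸ N)).comap (QuotientGroup.mk' N) = N := by
      rw [MonoidHom.comap_bot, QuotientGroup.ker_mk']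
    refine ⟨n + 1, Fin.cons ⊥ (fun i => (Hb i).comap (QuotientGroup.mk' N)), rfl, ?_, ?_, ?_, ?_⟩
    · rw [← Fin.succ_last, Fin.cons_succ, hlast, Subgroup.comap_top]
    · intro i
      refine Fin.cases ?_ (fun j => ?_) i
      · rw [Fin.cons_zero]; infer_instance
      · rw [Fin.cons_succ]; exact (hnorm j).comap _
    · intro i
      refine Fin.cases ?_ (fun j => ?_) i
      · rw [Fin.castSucc_zero, Fin.cons_zero, Fin.cons_succ, h0, hcb, Subgroup.relIndex_bot_left,
          hNc]
        exact ⟨bot_le, hp⟩
      · rw [← Fin.succ_castSucc, Fin.cons_succ, Fin.cons_succ, hidx]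
        exact ⟨Subgroup.comap_mono (hstep j).1, (hstep j).2⟩
    · intro i j hij
      have hprime_le : ∀ j : Fin (n + 1),
          ((Fin.cons ⊥ (fun i => (Hb i).comap (QuotientGroup.mk' N)) :
            Fin (n + 2) → Subgroup G) j.castSucc).relIndex
          ((Fin.cons ⊥ (fun i => (Hb i).comap (QuotientGroup.mk' N)) :
            Fin (n + 2) → Subgroup G) j.succ) ≤ p := by
        intro j
        refine Fin.cases ?_ (fun j' => ?_) j
        · rw [Fin.castSucc_zero, Fin.cons_zero, Fin.cons_succ, h0, hcb,
            Subgroup.relIndex_bot_left, hNc]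
        · rw [← Fin.succ_castSucc, Fin.cons_succ, Fin.cons_succ, hidx]
          apply hmax _ (hstep j').2
          have h1 : (Hb j'.castSucc).relIndex (Hb j'.succ) ∣ Nat.card (Hb j'.succ) :=
            Subgroup.relIndex_dvd_card _ _
          have h2 : Nat.card (Hb j'.succ) ∣ Nat.card (G ⧸ N) := Subgroup.card_subgroup_dvd_card _
          have h3 : Nat.card (G ⧸ N) ∣ Nat.card G :=
            ⟨Nat.card N, Subgroup.card_eq_card_quotient_mul_card_subgroup N⟩
          exact h1.trans (h2.trans h3)
      revert hij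
      refine Fin.cases ?_ (fun i' => ?_) i
      · intro _
        rw [Fin.castSucc_zero, Fin.cons_zero, Fin.cons_succ (α := fun _ => Subgroup G) _ _ 0, h0,
          hcb, Subgroup.relIndex_bot_left, hNc]
        exact hprime_le j
      · refine Fin.cases ?_ (fun j' => ?_) j
        · intro h
          exact absurd h (by simp [Fin.le_def])
        · intro h
          have h' : i' ≤ j' := Fin.succ_le_succ_iff.mp h
          rw [← Fin.succ_castSucc, ← Fin.succ_castSucc, Fin.cons_succ, Fin.cons_succ,
            Fin.cons_succ, Fin.cons_succ, hidx, hidx]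
          exact hmono i' j' h'

end Cfsg.Agent.Lib.Helper1_Supersolvable3
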