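import Mathlib
import Cfsg.Prelude.Def_ClassicalGeometry
set_option autoImplicit false
open Cfsg
namespace Cfsg.Agent.Lib.Helper1_Symp

open Matrix

variable {m : ℕ} {F : Type*} [CommRing F]

theorem J_mulVec_inl (v : Fin m ⊕ Fin m → F) (i : Fin m) :
    (Matrix.J (Fin m) F *ᵥ v) (Sum.inl i) = - v (Sum.inr i) := by
  simp [Matrix.J, Matrix.mulVec, dotProduct, Fintype.sum_sum_type, Matrix.fromBlocks, Matrix.one_apply]

theorem J_mulVec_inr (v : Fin m ⊕ Fin m → F) (i : Fin m) :
    (Matrix.J (Fin m) F *ᵥ v) (Sum.inr i) = v (Sum.inl i) := by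
  simp [Matrix.J, Matrix.mulVec, dotProduct, Fintype.sum_sum_type, Matrix.fromBlocks, Matrix.one_apply]

theorem sympForm_eq (u v : Fin m ⊕ Fin m → F) :
    sympForm m F u v = ∑ i : Fin m, (u (Sum.inr i) * v (Sum.inl i) - u (Sum.inl i) * v (Sum.inr i)) := by
  unfold sympForm
  rw [dotProduct, Fintype.sum_sum_type]
  simp only [J_mulVec_inl, J_mulVec_inr]
  rw [Finset.sum_sub_distrib]
  simp only [mul_neg, Finset.sum_neg_distrib]
  ring

theorem sympForm_self (u : Fin m ⊕ Fin m → F) : sympForm m F u u = 0 := by
  rw [sympForm_eq]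
  apply Finset.sum_eq_zero
  intro i _
  ring

theorem sympForm_swap (u v : Fin m ⊕ Fin m → F) : sympForm m F u v = - sympForm m F v u := by
  rw [sympForm_eq, sympForm_eq, ← Finset.sum_neg_distrib]
  apply Finset.sum_congr rfl
  intro i _
  ring

theorem sympForm_add_left (u u' v : Fin m ⊕ Fin m → F) :
    sympForm m F (u + u') v = sympForm m F u v + sympForm m F u' v := by
  unfold sympForm; rw [add_dotProduct]

theorem sympForm_add_right (u v v' : Fin m ⊕ Fin m → F) :
    sympForm m F u (v + v') = sympForm m F u v + sympForm m F u v' := by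
  unfold sympForm; rw [Matrix.mulVec_add, dotProduct_add]

theorem sympForm_smul_left (a : F) (u v : Fin m ⊕ Fin m → F) :
    sympForm m F (a • u) v = a * sympForm m F u v := by
  unfold sympForm; rw [smul_dotProduct, smul_eq_mul]

theorem sympForm_smul_right (a : F) (u v : Fin m ⊕ Fin m → F) :
    sympForm m F u (a • v) = a * sympForm m F u v := by
  unfold sympForm; rw [Matrix.mulVec_smul, dotProduct_smul, smul_eq_mul]

theorem sympForm_sub_left (u u' v : Fin m ⊕ Fin m → F) :
    sympForm m F (u - u') v = sympForm m F u v - sympForm m F u' v := by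
  unfold sympForm; rw [sub_dotProduct]

theorem sympForm_sub_right (u v v' : Fin m ⊕ Fin m → F) :
    sympForm m F u (v - v') = sympForm m F u v - sympForm m F u v' := by
  unfold sympForm; rw [Matrix.mulVec_sub, dotProduct_sub]

theorem sympForm_zero_left (v : Fin m ⊕ Fin m → F) : sympForm m F 0 v = 0 := by
  unfold sympForm; rw [zero_dotProduct]

theorem sympForm_zero_right (u : Fin m ⊕ Fin m → F) : sympForm m F u 0 = 0 := by
  unfold sympForm; rw [Matrix.mulVec_zero, dotProduct_zero]

/-- the form of `A u, A v` in matrix terms -/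
theorem sympForm_mulVec (A : Matrix (Fin m ⊕ Fin m) (Fin m ⊕ Fin m) F) (u v : Fin m ⊕ Fin m → F) :
    sympForm m F (A *ᵥ u) (A *ᵥ v) = u ⬝ᵥ ((Aᵀ * Matrix.J (Fin m) F * A) *ᵥ v) := by
  unfold sympForm
  rw [← Matrix.mulVec_mulVec, ← Matrix.mulVec_mulVec, Matrix.dotProduct_mulVec u Aᵀ,
    Matrix.vecMul_transpose]

theorem mem_symplecticGroup_iff_preserves (A : Matrix (Fin m ⊕ Fin m) (Fin m ⊕ Fin m) F) :
    A ∈ Matrix.symplecticGroup (Fin m) F ↔
      ∀ u v, sympForm m F (A *ᵥ u) (A *ᵥ v) = sympForm m F u v := by
  rw [SymplecticGroup.mem_iff']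
  constructor
  · intro h u v
    rw [sympForm_mulVec, h]
    rfl
  · intro h
    apply Matrix.mulVec_injective
    funext v
    funext i
    have := h (Pi.single i 1) v
    rw [sympForm_mulVec] at this
    unfold sympForm at this
    rw [single_one_dotProduct, single_one_dotProduct] at this
    exact this

theorem sympTransvection_mulVec (v : Fin m ⊕ Fin m → F) (c : F) (x : Fin m ⊕ Fin m → F) :
    sympTransvection m v c *ᵥ x = x + (c * sympForm m F x v) • v := by
  unfold sympTransvection
  rw [Matrix.add_mulVec, Matrix.one_mulVec, Matrix.smul_mulVec, Matrix.vecMulVec_mulVec,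
    op_smul_eq_smul, mul_smul]
  congr 2
  unfold sympForm
  rw [dotProduct_comm]

theorem sympTransvection_preserves (v : Fin m ⊕ Fin m → F) (c : F) (x y : Fin m ⊕ Fin m → F) :
    sympForm m F (sympTransvection m v c *ᵥ x) (sympTransvection m v c *ᵥ y) = sympForm m F x y := by
  rw [sympTransvection_mulVec, sympTransvection_mulVec]
  simp only [sympForm_add_left, sympForm_add_right, sympForm_smul_left, sympForm_smul_right,
    sympForm_self]
  rw [sympForm_swap v y]
  ring

theorem sympTransvection_mem (v : Fin m ⊕ Fin m → F) (c : F) :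
    sympTransvection m v c ∈ Matrix.symplecticGroup (Fin m) F :=
  (mem_symplecticGroup_iff_preserves _).mpr (sympTransvection_preserves v c)

theorem sympTransvection_mul (v : Fin m ⊕ Fin m → F) (c d : F) :
    sympTransvection m v c * sympTransvection m v d = sympTransvection m v (c + d) := by
  apply Matrix.mulVec_injective
  funext x
  rw [← Matrix.mulVec_mulVec, sympTransvection_mulVec, sympTransvection_mulVec,
    sympTransvection_mulVec]
  simp only [sympForm_add_left, sympForm_smul_left, sympForm_self]
  module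

theorem sympTransvection_zero (v : Fin m ⊕ Fin m → F) : sympTransvection m v 0 = 1 := by
  unfold sympTransvection; simp

theorem sympTransvection_smul (v : Fin m ⊕ Fin m → F) (a c : F) :
    sympTransvection m (a • v) c = sympTransvection m v (a * a * c) := by
  apply Matrix.mulVec_injective
  funext x
  rw [sympTransvection_mulVec, sympTransvection_mulVec, sympForm_smul_right]
  module

/-- conjugating a transvection by a symplectic matrix -/
theorem sympTransvection_conj {A B : Matrix (Fin m ⊕ Fin m) (Fin m ⊕ Fin m) F}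
    (hA : A ∈ Matrix.symplecticGroup (Fin m) F) (hAB : A * B = 1)
    (v : Fin m ⊕ Fin m → F) (c : F) :
    A * sympTransvection m v c * B = sympTransvection m (A *ᵥ v) c := by
  apply Matrix.mulVec_injective
  funext x
  rw [← Matrix.mulVec_mulVec, ← Matrix.mulVec_mulVec, sympTransvection_mulVec,
    sympTransvection_mulVec, Matrix.mulVec_add, Matrix.mulVec_smul, Matrix.mulVec_mulVec, hAB,
    Matrix.one_mulVec]
  congr 3
  have := (mem_symplecticGroup_iff_preserves A).mp hA (B *ᵥ x) v
  rw [Matrix.mulVec_mulVec, hAB, Matrix.one_mulVec] at this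
  exact this.symm

end Cfsg.Agent.Lib.Helper1_Symp
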