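import Mathlib
import Cfsg.Agent.Lib.Helper1_Symp
set_option autoImplicit false
open Cfsg
namespace Cfsg.Agent.Lib.Helper1_Symp2

open Cfsg.Agent.Lib.Helper1_Symp Matrix

variable {F : Type*} [Field F] {m : ℕ}

/-- the set of symplectic transvections, as elements of the symplectic group -/
abbrev TS (m : ℕ) (F : Type*) [Field F] : Set (Matrix.symplecticGroup (Fin m) F) :=
  {A : Matrix.symplecticGroup (Fin m) F | ∃ (w : Fin m ⊕ Fin m → F) (c : F),
    (A : Matrix (Fin m ⊕ Fin m) (Fin m ⊕ Fin m) F) = Cfsg.sympTransvection m w c}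

def tv (w : Fin m ⊕ Fin m → F) (c : F) : Matrix.symplecticGroup (Fin m) F :=
  ⟨sympTransvection m w c, sympTransvection_mem w c⟩

theorem tv_mem (w : Fin m ⊕ Fin m → F) (c : F) : tv w c ∈ Subgroup.closure (TS m F) :=
  Subgroup.subset_closure ⟨w, c, rfl⟩

/-- vectors orthogonal to everything in `X` -/
def Orth (X : Set (Fin m ⊕ Fin m → F)) : Submodule F (Fin m ⊕ Fin m → F) where
  carrier := {w | ∀ x ∈ X, sympForm m F x w = 0}
  add_mem' {a b} ha hb := by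
    intro x hx
    rw [sympForm_add_right, ha x hx, hb x hx, add_zero]
  zero_mem' := by
    intro x _
    exact sympForm_zero_right x
  smul_mem' c a ha := by
    intro x hx
    rw [sympForm_smul_right, ha x hx, mul_zero]

theorem mem_Orth {X : Set (Fin m ⊕ Fin m → F)} {w : Fin m ⊕ Fin m → F} :
    w ∈ Orth X ↔ ∀ x ∈ X, sympForm m F x w = 0 := Iff.rfl

theorem tv_fix {X : Set (Fin m ⊕ Fin m → F)} {w : Fin m ⊕ Fin m → F} (hw : w ∈ Orth X) (c : F) :
    ∀ x ∈ X, (tv w c : Matrix (Fin m ⊕ Fin m) (Fin m ⊕ Fin m) F) *ᵥ x = x := by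
  intro x hx
  show sympTransvection m w c *ᵥ x = x
  rw [sympTransvection_mulVec, hw x hx]
  simp

/-- `Reach X x y`: some product of transvections fixing `X` pointwise maps `x` to `y` -/
def Reach (X : Set (Fin m ⊕ Fin m → F)) (x y : Fin m ⊕ Fin m → F) : Prop :=
  ∃ A ∈ Subgroup.closure (TS m F),
    (A : Matrix (Fin m ⊕ Fin m) (Fin m ⊕ Fin m) F) *ᵥ x = y ∧
    ∀ z ∈ X, (A : Matrix (Fin m ⊕ Fin m) (Fin m ⊕ Fin m) F) *ᵥ z = z

theorem Reach.trans {X : Set (Fin m ⊕ Fin m → F)} {x y z : Fin m ⊕ Fin m → F}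
    (h1 : Reach X x y) (h2 : Reach X y z) : Reach X x z := by
  obtain ⟨A, hA, hAx, hAX⟩ := h1
  obtain ⟨B, hB, hBy, hBX⟩ := h2
  refine ⟨B * A, Subgroup.mul_mem _ hB hA, ?_, ?_⟩
  · show (B.1 * A.1) *ᵥ x = z
    rw [← Matrix.mulVec_mulVec, hAx, hBy]
  · intro w hw
    show (B.1 * A.1) *ᵥ w = w
    rw [← Matrix.mulVec_mulVec, hAX w hw, hBX w hw]

theorem step1 (X : Set (Fin m ⊕ Fin m → F)) (u u' : Fin m ⊕ Fin m → F) (hu : u ∈ Orth X)
    (hu' : u' ∈ Orth X) (h : sympForm m F u u' ≠ 0) : Reach X u u' := by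
  refine ⟨tv (u - u') (sympForm m F u u')⁻¹, tv_mem _ _, ?_, tv_fix (Submodule.sub_mem _ hu hu') _⟩
  show sympTransvection m (u - u') (sympForm m F u u')⁻¹ *ᵥ u = u'
  rw [sympTransvection_mulVec, sympForm_sub_right, sympForm_self, zero_sub, mul_neg,
    inv_mul_cancel₀ h]
  module

theorem stage1 (X : Set (Fin m ⊕ Fin m → F)) (u v u' v' : Fin m ⊕ Fin m → F)
    (hu : u ∈ Orth X) (hv : v ∈ Orth X) (hu' : u' ∈ Orth X) (hv' : v' ∈ Orth X)
    (h : sympForm m F u v = 1) (h' : sympForm m F u' v' = 1) : Reach X u u' := by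
  by_cases h0 : sympForm m F u u' = 0
  · have key : ∃ z ∈ Orth X, sympForm m F u z ≠ 0 ∧ sympForm m F z u' ≠ 0 := by
      by_cases h1 : sympForm m F v u' = 0
      · by_cases h2 : sympForm m F u v' = 0
        · refine ⟨v + v', Submodule.add_mem _ hv hv', ?_, ?_⟩
          · rw [sympForm_add_right, h, h2]; simp
          · rw [sympForm_add_left, h1, sympForm_swap v' u', h']; simp
        · refine ⟨v', hv', h2, ?_⟩
          rw [sympForm_swap v' u', h']; simp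
      · exact ⟨v, hv, by rw [h]; simp, h1⟩
    obtain ⟨z, hz, hz1, hz2⟩ := key
    exact (step1 X u z hu hz hz1).trans (step1 X z u' hz hu' hz2)
  · exact step1 X u u' hu hu' h0

/-- `Reach2 X u x y`: some product of transvections fixing `X` pointwise and `u` maps `x` to `y` -/
def Reach2 (X : Set (Fin m ⊕ Fin m → F)) (u x y : Fin m ⊕ Fin m → F) : Prop :=
  ∃ A ∈ Subgroup.closure (TS m F),
    (A : Matrix (Fin m ⊕ Fin m) (Fin m ⊕ Fin m) F) *ᵥ u = u ∧
    (A : Matrix (Fin m ⊕ Fin m) (Fin m ⊕ Fin m) F) *ᵥ x = y ∧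
    ∀ z ∈ X, (A : Matrix (Fin m ⊕ Fin m) (Fin m ⊕ Fin m) F) *ᵥ z = z

theorem Reach2.trans {X : Set (Fin m ⊕ Fin m → F)} {u x y z : Fin m ⊕ Fin m → F}
    (h1 : Reach2 X u x y) (h2 : Reach2 X u y z) : Reach2 X u x z := by
  obtain ⟨A, hA, hAu, hAx, hAX⟩ := h1
  obtain ⟨B, hB, hBu, hBy, hBX⟩ := h2
  refine ⟨B * A, Subgroup.mul_mem _ hB hA, ?_, ?_, ?_⟩
  · show (B.1 * A.1) *ᵥ u = u
    rw [← Matrix.mulVec_mulVec, hAu, hBu]
  · show (B.1 * A.1) *ᵥ x = z
    rw [← Matrix.mulVec_mulVec, hAx, hBy]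
  · intro w hw
    show (B.1 * A.1) *ᵥ w = w
    rw [← Matrix.mulVec_mulVec, hAX w hw, hBX w hw]

theorem pairstep (X : Set (Fin m ⊕ Fin m → F)) (u v v' : Fin m ⊕ Fin m → F)
    (hv : v ∈ Orth X) (hv' : v' ∈ Orth X) (h : sympForm m F u v = 1)
    (h' : sympForm m F u v' = 1) (hne : sympForm m F v v' ≠ 0) : Reach2 X u v v' := by
  refine ⟨tv (v - v') (sympForm m F v v')⁻¹, tv_mem _ _, ?_, ?_,
    tv_fix (Submodule.sub_mem _ hv hv') _⟩
  · show sympTransvection m (v - v') (sympForm m F v v')⁻¹ *ᵥ u = u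
    rw [sympTransvection_mulVec, sympForm_sub_right, h, h']
    simp
  · show sympTransvection m (v - v') (sympForm m F v v')⁻¹ *ᵥ v = v'
    rw [sympTransvection_mulVec, sympForm_sub_right, sympForm_self, zero_sub, mul_neg,
      inv_mul_cancel₀ hne]
    module

theorem stage2 (X : Set (Fin m ⊕ Fin m → F)) (u v v' : Fin m ⊕ Fin m → F)
    (hu : u ∈ Orth X) (hv : v ∈ Orth X) (hv' : v' ∈ Orth X) (h : sympForm m F u v = 1)
    (h' : sympForm m F u v' = 1) : Reach2 X u v v' := by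
  by_cases h0 : sympForm m F v v' = 0
  · have e1 : sympForm m F u (u + v) = 1 := by
      rw [sympForm_add_right, sympForm_self, h, zero_add]
    have e2 : sympForm m F v (u + v) ≠ 0 := by
      rw [sympForm_add_right, sympForm_self, sympForm_swap v u, h]; simp
    have e3 : sympForm m F (u + v) v' ≠ 0 := by
      rw [sympForm_add_left, h', h0]; simp
    have huv : u + v ∈ Orth X := Submodule.add_mem _ hu hv
    exact (pairstep X u v (u + v) hv huv h e1 e2).trans (pairstep X u (u + v) v' huv hv' e1 h' e3)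
  · exact pairstep X u v v' hv hv' h h' h0

/-- transitivity on hyperbolic pairs inside `Orth X`, by products of transvections fixing `X` -/
theorem exists_closure_map_pair (X : Set (Fin m ⊕ Fin m → F)) (u v u' v' : Fin m ⊕ Fin m → F)
    (hu : u ∈ Orth X) (hv : v ∈ Orth X) (hu' : u' ∈ Orth X) (hv' : v' ∈ Orth X)
    (h : sympForm m F u v = 1) (h' : sympForm m F u' v' = 1) :
    ∃ A ∈ Subgroup.closure (TS m F),
      (A : Matrix (Fin m ⊕ Fin m) (Fin m ⊕ Fin m) F) *ᵥ u = u' ∧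
      (A : Matrix (Fin m ⊕ Fin m) (Fin m ⊕ Fin m) F) *ᵥ v = v' ∧
      ∀ z ∈ X, (A : Matrix (Fin m ⊕ Fin m) (Fin m ⊕ Fin m) F) *ᵥ z = z := by
  obtain ⟨A, hA, hAu, hAX⟩ := stage1 X u v u' v' hu hv hu' hv' h h'
  have hAv : sympForm m F u' (A.1 *ᵥ v) = 1 := by
    rw [← hAu, (mem_symplecticGroup_iff_preserves A.1).mp A.2, h]
  have hAvO : A.1 *ᵥ v ∈ Orth X := by
    intro x hx
    have := (mem_symplecticGroup_iff_preserves A.1).mp A.2 x v
    rw [hAX x hx] at this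
    rw [this]
    exact hv x hx
  obtain ⟨B, hB, hBu, hBv, hBX⟩ := stage2 X u' (A.1 *ᵥ v) v' hu' hAvO hv' hAv h'
  refine ⟨B * A, Subgroup.mul_mem _ hB hA, ?_, ?_, ?_⟩
  · show (B.1 * A.1) *ᵥ u = u'
    rw [← Matrix.mulVec_mulVec, hAu, hBu]
  · show (B.1 * A.1) *ᵥ v = v'
    rw [← Matrix.mulVec_mulVec, hBv]
  · intro w hw
    show (B.1 * A.1) *ᵥ w = w
    rw [← Matrix.mulVec_mulVec, hAX w hw, hBX w hw]

end Cfsg.Agent.Lib.Helper1_Symp2
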