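import Mathlib
import Cfsg.Agent.Lib.Helper1_Symp2
set_option autoImplicit false
open Cfsg
namespace Cfsg.Agent.Lib.Helper1_Symp3

open Cfsg.Agent.Lib.Helper1_Symp Cfsg.Agent.Lib.Helper1_Symp2 Matrix

variable {F : Type*} [Field F] {m : ℕ}

/-- nondegeneracy: every nonzero vector has a partner -/
theorem exists_partner (z : Fin m ⊕ Fin m → F) (hz : z ≠ 0) :
    ∃ w, sympForm m F z w = 1 := by
  classical
  obtain ⟨s, hs⟩ : ∃ s, z s ≠ 0 := by
    by_contra hcon
    push Not at hcon
    exact hz (funext hcon)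
  rcases s with i | i
  · refine ⟨Pi.single (Sum.inr i) (-(z (Sum.inl i))⁻¹), ?_⟩
    rw [sympForm_eq]
    rw [Finset.sum_eq_single i]
    · simp [hs]
    · intro j _ hj
      simp [Pi.single_apply, hj]
    · intro h; exact absurd (Finset.mem_univ i) h
  · refine ⟨Pi.single (Sum.inl i) ((z (Sum.inr i))⁻¹), ?_⟩
    rw [sympForm_eq]
    rw [Finset.sum_eq_single i]
    · simp [hs]
    · intro j _ hj
      simp [Pi.single_apply, hj]
    · intro h; exact absurd (Finset.mem_univ i) h

/-- two nonzero vectors have a common non-orthogonal vector -/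
theorem exists_common_nonorth (a b : Fin m ⊕ Fin m → F) (ha : a ≠ 0) (hb : b ≠ 0) :
    ∃ t, sympForm m F a t ≠ 0 ∧ sympForm m F b t ≠ 0 := by
  obtain ⟨a', ha'⟩ := exists_partner a ha
  obtain ⟨b', hb'⟩ := exists_partner b hb
  by_cases h1 : sympForm m F b a' = 0
  · by_cases h2 : sympForm m F a b' = 0
    · refine ⟨a' + b', ?_, ?_⟩
      · rw [sympForm_add_right, ha', h2]; simp
      · rw [sympForm_add_right, h1, hb']; simp
    · exact ⟨b', h2, by rw [hb']; simp⟩
  · exact ⟨a', by rw [ha']; simp, h1⟩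

/-- for linearly independent `x, w` there is `z ⟂ w` with `z` not orthogonal to `x` -/
theorem exists_orth_nonorth (x w : Fin m ⊕ Fin m → F) (hx : x ≠ 0) (hw : w ≠ 0)
    (hind : ∀ c : F, c • x ≠ w) :
    ∃ z, sympForm m F w z = 0 ∧ sympForm m F x z ≠ 0 := by
  obtain ⟨x', hx'⟩ := exists_partner x hx
  by_cases hc : sympForm m F w x' = 0
  · exact ⟨x', hc, by rw [hx']; simp⟩
  · set c := sympForm m F w x' with hcdef
    have hb : c • x - w ≠ 0 := by
      intro h; exact hind c (sub_eq_zero.mp h)
    obtain ⟨v, hv1, hv2⟩ := exists_common_nonorth w (c • x - w) hw hb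
    refine ⟨x' - (c / sympForm m F w v) • v, ?_, ?_⟩
    · rw [sympForm_sub_right, sympForm_smul_right, ← hcdef]
      field_simp
      ring
    · rw [sympForm_sub_right, sympForm_smul_right, hx']
      rw [sympForm_sub_left, sympForm_smul_left] at hv2
      intro h
      apply hv2
      field_simp at h
      linear_combination -h

end Cfsg.Agent.Lib.Helper1_Symp3
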