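import Mathlib
import Cfsg.Prelude.Def_PLocal

set_option autoImplicit false

/-! Basic facts on elementary abelian subgroups of maximal order and the Thompson subgroup. -/

namespace Cfsg.Agent.Lib.Helper1_Thompson

open Cfsg

universe u

theorem isElementaryAbelian_bot {G : Type u} [Group G] (p : ℕ) :
    IsElementaryAbelian p (⊥ : Subgroup G) := by
  refine ⟨inferInstance, ?_⟩
  intro a ha
  rw [Subgroup.mem_bot] at ha
  rw [ha, one_pow]

/-- There is an elementary abelian subgroup of maximal order. -/
theorem exists_maxEA {G : Type u} [Group G] [Finite G] (p : ℕ) :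
    ∃ A : Subgroup G, A ∈ maxElementaryAbelianSubgroups p G := by
  have : Nonempty {A : Subgroup G // IsElementaryAbelian p A} := ⟨⟨⊥, isElementaryAbelian_bot p⟩⟩
  obtain ⟨A, hA⟩ := Finite.exists_max (fun A : {A : Subgroup G // IsElementaryAbelian p A} =>
    Nat.card (A : Subgroup G))
  exact ⟨A.1, A.2, fun B hB => hA ⟨B, hB⟩⟩

theorem le_thompson {G : Type u} [Group G] (p : ℕ) {A : Subgroup G}
    (hA : A ∈ maxElementaryAbelianSubgroups p G) : A ≤ thompsonSubgroup p G :=
  le_sSup hA

/-- the join of an elementary abelian subgroup with an element of order dividing `p` centralizing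
it is elementary abelian -/
theorem isElementaryAbelian_closure_insert {G : Type u} [Group G] (p : ℕ) {A : Subgroup G}
    (hA : IsElementaryAbelian p A) (x : G) (hx : x ^ p = 1) (hc : ∀ a ∈ A, x * a = a * x) :
    IsElementaryAbelian p (Subgroup.closure ((A : Set G) ∪ {x})) := by
  have hcomm : ∀ a ∈ (A : Set G) ∪ {x}, ∀ b ∈ (A : Set G) ∪ {x}, a * b = b * a := by
    intro a ha b hb
    rcases ha with ha | ha <;> rcases hb with hb | hb
    · have := hA.1
      exact congrArg Subtype.val (mul_comm' (⟨a, ha⟩ : A) ⟨b, hb⟩)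
    · rw [Set.mem_singleton_iff] at hb; subst hb
      exact (hc a ha).symm
    · rw [Set.mem_singleton_iff] at ha; subst ha
      exact hc b hb
    · rw [Set.mem_singleton_iff] at ha hb; subst ha; subst hb; rfl
  have hcl : IsMulCommutative (Subgroup.closure ((A : Set G) ∪ {x})) :=
    Subgroup.isMulCommutative_closure hcomm
  refine ⟨hcl, ?_⟩
  intro a ha
  induction ha using Subgroup.closure_induction with
  | mem y hy =>
    rcases hy with hy | hy
    · exact hA.2 y hy
    · rw [Set.mem_singleton_iff] at hy; subst hy; exact hx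
  | one => exact one_pow _
  | mul y z hy hz ihy ihz =>
    have hyz : Commute y z :=
      congrArg Subtype.val (mul_comm' (⟨y, hy⟩ : Subgroup.closure ((A : Set G) ∪ {x})) ⟨z, hz⟩)
    rw [hyz.mul_pow, ihy, ihz, one_mul]
  | inv y _ ihy => rw [inv_pow, ihy, inv_one]

/-- An element of order dividing `p` centralizing a maximal elementary abelian subgroup
lies in it. -/
theorem mem_of_centralizes_maxEA {G : Type u} [Group G] [Finite G] (p : ℕ) {A : Subgroup G}
    (hA : A ∈ maxElementaryAbelianSubgroups p G) (x : G) (hx : x ^ p = 1)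
    (hc : ∀ a ∈ A, x * a = a * x) : x ∈ A := by
  have hB := isElementaryAbelian_closure_insert p hA.1 x hx hc
  have hle : A ≤ Subgroup.closure ((A : Set G) ∪ {x}) :=
    fun a ha => Subgroup.subset_closure (Or.inl ha)
  have hcard := hA.2 _ hB
  have heq : A = Subgroup.closure ((A : Set G) ∪ {x}) :=
    Subgroup.eq_of_le_of_card_ge hle hcard
  rw [heq]
  exact Subgroup.subset_closure (Or.inr rfl)

theorem isElementaryAbelian_map {G G' : Type u} [Group G] [Group G'] (p : ℕ) (f : G →* G')
    {A : Subgroup G} (hA : IsElementaryAbelian p A) : IsElementaryAbelian p (A.map f) := by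
  have := hA.1
  refine ⟨?_, ?_⟩
  · refine ⟨⟨?_⟩⟩
    rintro ⟨_, a, ha, rfl⟩ ⟨_, b, hb, rfl⟩
    apply Subtype.ext
    show f a * f b = f b * f a
    rw [← map_mul, ← map_mul]
    congr 1
    exact congrArg Subtype.val (mul_comm' (⟨a, ha⟩ : A) ⟨b, hb⟩)
  · rintro _ ⟨a, ha, rfl⟩
    rw [← map_pow, hA.2 a ha, map_one]

theorem maxEA_map_equiv {G G' : Type u} [Group G] [Group G'] [Finite G] (p : ℕ) (η : G ≃* G')
    {A : Subgroup G} (hA : A ∈ maxElementaryAbelianSubgroups p G) :
    A.map η.toMonoidHom ∈ maxElementaryAbelianSubgroups p G' := by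
  refine ⟨isElementaryAbelian_map p _ hA.1, ?_⟩
  intro B hB
  have h1 := hA.2 _ (isElementaryAbelian_map p η.symm.toMonoidHom hB)
  rw [Subgroup.card_map_of_injective η.symm.injective] at h1
  rw [Subgroup.card_map_of_injective η.injective]
  exact h1

theorem thompson_map_equiv_le {G G' : Type u} [Group G] [Group G'] [Finite G] (p : ℕ)
    (η : G ≃* G') : (thompsonSubgroup p G).map η.toMonoidHom ≤ thompsonSubgroup p G' := by
  rw [Subgroup.map_le_iff_le_comap]
  apply sSup_le
  intro A hA
  rw [← Subgroup.map_le_iff_le_comap]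
  exact le_sSup (maxEA_map_equiv p η hA)

theorem thompson_map_equiv {G G' : Type u} [Group G] [Group G'] [Finite G] (p : ℕ)
    (η : G ≃* G') : (thompsonSubgroup p G).map η.toMonoidHom = thompsonSubgroup p G' := by
  apply le_antisymm (thompson_map_equiv_le p η)
  have : Finite G' := Finite.of_equiv G η.toEquiv
  have h := thompson_map_equiv_le p η.symm
  intro x hx
  refine ⟨η.symm x, h ⟨x, hx, rfl⟩, ?_⟩
  simp

theorem thompson_characteristic {G : Type u} [Group G] [Finite G] (p : ℕ) :
    (thompsonSubgroup p G).Characteristic := by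
  rw [Subgroup.characteristic_iff_map_le]
  intro ϕ
  exact thompson_map_equiv_le p ϕ

theorem isElementaryAbelian_subgroupOf {G : Type u} [Group G] (p : ℕ) (U : Subgroup G)
    {A : Subgroup G} (hA : IsElementaryAbelian p A) : IsElementaryAbelian p (A.subgroupOf U) := by
  have := hA.1
  refine ⟨?_, ?_⟩
  · refine ⟨⟨?_⟩⟩
    rintro ⟨a, ha⟩ ⟨b, hb⟩
    apply Subtype.ext
    apply Subtype.ext
    rw [Subgroup.mem_subgroupOf] at ha hb
    have h1 : (a : G) * (b : G) = (b : G) * (a : G) :=
      congrArg Subtype.val (mul_comm' (⟨a, ha⟩ : A) ⟨b, hb⟩)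
    exact h1
  · intro a ha
    rw [Subgroup.mem_subgroupOf] at ha
    apply Subtype.ext
    have := hA.2 _ ha
    simpa using this

theorem card_subgroupOf_of_le {G : Type u} [Group G] {A U : Subgroup G} (h : A ≤ U) :
    Nat.card (A.subgroupOf U) = Nat.card A :=
  Nat.card_congr (Subgroup.subgroupOfEquivOfLe h).toEquiv

/-- a maximal elementary abelian subgroup of `G` inside `U` is one of `U` -/
theorem maxEA_subgroupOf {G : Type u} [Group G] [Finite G] (p : ℕ) {A U : Subgroup G}
    (hA : A ∈ maxElementaryAbelianSubgroups p G) (hAU : A ≤ U) :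
    A.subgroupOf U ∈ maxElementaryAbelianSubgroups p U := by
  refine ⟨isElementaryAbelian_subgroupOf p U hA.1, ?_⟩
  intro B hB
  rw [card_subgroupOf_of_le hAU, ← Subgroup.card_map_of_injective U.subtype_injective]
  exact hA.2 _ (isElementaryAbelian_map p U.subtype hB)

/-- if `U` contains a maximal elementary abelian subgroup of `G`, the maximal ones of `U`
are maximal in `G` -/
theorem maxEA_map_subtype {G : Type u} [Group G] [Finite G] (p : ℕ) {A₀ U : Subgroup G}
    (hA₀ : A₀ ∈ maxElementaryAbelianSubgroups p G) (hAU : A₀ ≤ U) {B : Subgroup U}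
    (hB : B ∈ maxElementaryAbelianSubgroups p U) :
    B.map U.subtype ∈ maxElementaryAbelianSubgroups p G := by
  refine ⟨isElementaryAbelian_map p U.subtype hB.1, ?_⟩
  intro C hC
  rw [Subgroup.card_map_of_injective U.subtype_injective]
  calc Nat.card C ≤ Nat.card A₀ := hA₀.2 C hC
    _ = Nat.card (A₀.subgroupOf U) := (card_subgroupOf_of_le hAU).symm
    _ ≤ Nat.card B := hB.2 _ (isElementaryAbelian_subgroupOf p U hA₀.1)

/-- the closure of a set of pairwise commuting elements of order dividing `p` is elementary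
abelian -/
theorem isElementaryAbelian_closure {G : Type u} [Group G] (p : ℕ) (S : Set G)
    (hcomm : ∀ a ∈ S, ∀ b ∈ S, a * b = b * a) (hpow : ∀ a ∈ S, a ^ p = 1) :
    IsElementaryAbelian p (Subgroup.closure S) := by
  have hcl : IsMulCommutative (Subgroup.closure S) := Subgroup.isMulCommutative_closure hcomm
  refine ⟨hcl, ?_⟩
  intro a ha
  induction ha using Subgroup.closure_induction with
  | mem y hy => exact hpow y hy
  | one => exact one_pow _
  | mul y z hy hz ihy ihz =>
    have hyz : Commute y z :=
      congrArg Subtype.val (mul_comm' (⟨y, hy⟩ : Subgroup.closure S) ⟨z, hz⟩)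
    rw [hyz.mul_pow, ihy, ihz, one_mul]
  | inv y _ ihy => rw [inv_pow, ihy, inv_one]

/-- the join of two elementary abelian subgroups commuting elementwise is elementary abelian -/
theorem isElementaryAbelian_sup {G : Type u} [Group G] (p : ℕ) {A B : Subgroup G}
    (hA : IsElementaryAbelian p A) (hB : IsElementaryAbelian p B)
    (hc : ∀ a ∈ A, ∀ b ∈ B, a * b = b * a) : IsElementaryAbelian p (A ⊔ B) := by
  have h := isElementaryAbelian_closure p ((A : Set G) ∪ (B : Set G)) (by
    intro a ha b hb
    rcases ha with ha | ha <;> rcases hb with hb | hb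
    · have := hA.1
      exact congrArg Subtype.val (mul_comm' (⟨a, ha⟩ : A) ⟨b, hb⟩)
    · exact hc a ha b hb
    · exact (hc b hb a ha).symm
    · have := hB.1
      exact congrArg Subtype.val (mul_comm' (⟨a, ha⟩ : B) ⟨b, hb⟩)) (by
    intro a ha
    rcases ha with ha | ha
    · exact hA.2 a ha
    · exact hB.2 a ha)
  rwa [Subgroup.closure_union, Subgroup.closure_eq, Subgroup.closure_eq] at h

end Cfsg.Agent.Lib.Helper1_Thompson
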