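import Mathlib
import Cfsg.Prelude.Def_Characters

set_option autoImplicit false

/-!
# Function-level facts on `classInner`, `extendByZero`, `indFun` (no representation theory)
-/

namespace Cfsg.Agent.Lib.Helper2_ClassFn

open Cfsg
open scoped ComplexConjugate

section Inner

variable {G : Type*} [Group G] [Fintype G]

theorem classInner_def (φ ψ : G → ℂ) :
    classInner φ ψ = (Nat.card G : ℂ)⁻¹ * ∑ g : G, φ g * conj (ψ g) := rfl

theorem classInner_add_left (φ₁ φ₂ ψ : G → ℂ) :
    classInner (φ₁ + φ₂) ψ = classInner φ₁ ψ + classInner φ₂ ψ := by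
  rw [classInner_def, classInner_def, classInner_def, ← mul_add, ← Finset.sum_add_distrib]
  congr 1
  refine Finset.sum_congr rfl fun g _ => ?_
  rw [Pi.add_apply, add_mul]

theorem classInner_add_right (φ ψ₁ ψ₂ : G → ℂ) :
    classInner φ (ψ₁ + ψ₂) = classInner φ ψ₁ + classInner φ ψ₂ := by
  rw [classInner_def, classInner_def, classInner_def, ← mul_add, ← Finset.sum_add_distrib]
  congr 1
  refine Finset.sum_congr rfl fun g _ => ?_
  rw [Pi.add_apply, map_add, mul_add]

theorem classInner_smul_left (c : ℂ) (φ ψ : G → ℂ) :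
    classInner (c • φ) ψ = c * classInner φ ψ := by
  simp only [classInner_def, Pi.smul_apply, smul_eq_mul, Finset.mul_sum]
  refine Finset.sum_congr rfl fun g _ => ?_
  ring

theorem classInner_smul_right (c : ℂ) (φ ψ : G → ℂ) :
    classInner φ (c • ψ) = conj c * classInner φ ψ := by
  simp only [classInner_def, Pi.smul_apply, smul_eq_mul, map_mul, Finset.mul_sum]
  refine Finset.sum_congr rfl fun g _ => ?_
  ring

theorem classInner_zero_left (ψ : G → ℂ) : classInner (0 : G → ℂ) ψ = 0 := by
  simp [classInner_def]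

theorem classInner_zero_right (φ : G → ℂ) : classInner φ (0 : G → ℂ) = 0 := by
  simp [classInner_def]

theorem classInner_neg_left (φ ψ : G → ℂ) : classInner (-φ) ψ = - classInner φ ψ := by
  simp [classInner_def, Finset.sum_neg_distrib]

theorem classInner_neg_right (φ ψ : G → ℂ) : classInner φ (-ψ) = - classInner φ ψ := by
  simp [classInner_def, Finset.sum_neg_distrib]

theorem classInner_sub_left (φ₁ φ₂ ψ : G → ℂ) :
    classInner (φ₁ - φ₂) ψ = classInner φ₁ ψ - classInner φ₂ ψ := by
  rw [sub_eq_add_neg, classInner_add_left, classInner_neg_left, sub_eq_add_neg]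

theorem classInner_sub_right (φ ψ₁ ψ₂ : G → ℂ) :
    classInner φ (ψ₁ - ψ₂) = classInner φ ψ₁ - classInner φ ψ₂ := by
  rw [sub_eq_add_neg, classInner_add_right, classInner_neg_right, sub_eq_add_neg]

theorem classInner_sum_left {ι : Type*} (s : Finset ι) (f : ι → G → ℂ) (ψ : G → ℂ) :
    classInner (∑ i ∈ s, f i) ψ = ∑ i ∈ s, classInner (f i) ψ := by
  classical
  induction s using Finset.induction_on with
  | empty => simp [classInner_zero_left]
  | insert a s ha ih => rw [Finset.sum_insert ha, Finset.sum_insert ha, classInner_add_left, ih]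

theorem classInner_sum_right {ι : Type*} (s : Finset ι) (φ : G → ℂ) (f : ι → G → ℂ) :
    classInner φ (∑ i ∈ s, f i) = ∑ i ∈ s, classInner φ (f i) := by
  classical
  induction s using Finset.induction_on with
  | empty => simp [classInner_zero_right]
  | insert a s ha ih => rw [Finset.sum_insert ha, Finset.sum_insert ha, classInner_add_right, ih]

theorem classInner_nsmul_left (n : ℕ) (φ ψ : G → ℂ) :
    classInner (n • φ) ψ = (n : ℂ) * classInner φ ψ := by
  have : n • φ = (n : ℂ) • φ := by ext g; simp
  rw [this, classInner_smul_left]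

theorem classInner_nsmul_right (n : ℕ) (φ ψ : G → ℂ) :
    classInner φ (n • ψ) = (n : ℂ) * classInner φ ψ := by
  have : n • ψ = (n : ℂ) • ψ := by ext g; simp
  rw [this, classInner_smul_right]; simp

theorem classInner_zsmul_left (n : ℤ) (φ ψ : G → ℂ) :
    classInner (n • φ) ψ = (n : ℂ) * classInner φ ψ := by
  have : n • φ = (n : ℂ) • φ := by ext g; simp
  rw [this, classInner_smul_left]

theorem classInner_zsmul_right (n : ℤ) (φ ψ : G → ℂ) :
    classInner φ (n • ψ) = (n : ℂ) * classInner φ ψ := by
  have : n • ψ = (n : ℂ) • ψ := by ext g; simp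
  rw [this, classInner_smul_right]; simp

theorem classInner_conj_symm (φ ψ : G → ℂ) : conj (classInner φ ψ) = classInner ψ φ := by
  simp only [classInner_def, map_mul, map_inv₀, map_natCast, map_sum, Complex.conj_conj]
  congr 1
  refine Finset.sum_congr rfl fun g _ => ?_
  ring

theorem card_ne_zero_complex : (Nat.card G : ℂ) ≠ 0 := by
  have : 0 < Nat.card G := Nat.card_pos
  exact_mod_cast this.ne'

theorem classInner_self (φ : G → ℂ) :
    classInner φ φ = (((Nat.card G : ℝ)⁻¹ * ∑ g : G, ‖φ g‖ ^ 2 : ℝ) : ℂ) := by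
  simp only [classInner_def, Complex.mul_conj, Complex.normSq_eq_norm_sq]
  push_cast
  rfl

theorem classInner_self_re_nonneg (φ : G → ℂ) : 0 ≤ (classInner φ φ).re := by
  rw [classInner_self, Complex.ofReal_re]
  positivity

theorem classInner_self_im (φ : G → ℂ) : (classInner φ φ).im = 0 := by
  rw [classInner_self, Complex.ofReal_im]

theorem classInner_self_eq_zero {φ : G → ℂ} : classInner φ φ = 0 ↔ φ = 0 := by
  constructor
  · intro h
    rw [classInner_self] at h
    have h' : (Nat.card G : ℝ)⁻¹ * ∑ g : G, ‖φ g‖ ^ 2 = 0 := by exact_mod_cast h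
    have hc : (0 : ℝ) < (Nat.card G : ℝ)⁻¹ := by
      have : 0 < Nat.card G := Nat.card_pos
      positivity
    have hs : ∑ g : G, ‖φ g‖ ^ 2 = 0 := by
      rcases mul_eq_zero.mp h' with h0 | h0
      · exact absurd h0 hc.ne'
      · exact h0
    have := (Finset.sum_eq_zero_iff_of_nonneg (fun g _ => by positivity)).mp hs
    ext g
    have hg := this g (Finset.mem_univ g)
    simpa using hg
  · rintro rfl
    exact classInner_zero_left _

end Inner

section ClassFunction

variable {G : Type*} [Group G]

theorem IsClassFunction.add {φ ψ : G → ℂ} (hφ : IsClassFunction G φ) (hψ : IsClassFunction G ψ) :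
    IsClassFunction G (φ + ψ) := fun g h => by simp [hφ g h, hψ g h]

theorem IsClassFunction.sub {φ ψ : G → ℂ} (hφ : IsClassFunction G φ) (hψ : IsClassFunction G ψ) :
    IsClassFunction G (φ - ψ) := fun g h => by simp [hφ g h, hψ g h]

theorem IsClassFunction.neg {φ : G → ℂ} (hφ : IsClassFunction G φ) :
    IsClassFunction G (-φ) := fun g h => by simp [hφ g h]

theorem IsClassFunction.smul {φ : G → ℂ} (c : ℂ) (hφ : IsClassFunction G φ) :
    IsClassFunction G (c • φ) := fun g h => by simp [hφ g h]

theorem IsClassFunction.zero : IsClassFunction G (0 : G → ℂ) := fun _ _ => rfl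

theorem IsClassFunction.sum {ι : Type*} (s : Finset ι) {f : ι → G → ℂ}
    (hf : ∀ i ∈ s, IsClassFunction G (f i)) : IsClassFunction G (∑ i ∈ s, f i) := fun g h => by
  simp only [Finset.sum_apply]
  exact Finset.sum_congr rfl fun i hi => hf i hi g h

theorem IsClassFunction.const (c : ℂ) : IsClassFunction G (fun _ => c) := fun _ _ => rfl

theorem IsClassFunction.restrict {φ : G → ℂ} (hφ : IsClassFunction G φ) (H : Subgroup G) :
    IsClassFunction H (fun h : H => φ h) := fun g h => by
  simpa using hφ (g : G) (h : G)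

/-- the form `θ (h⁻¹ * g * h) = θ g` -/
theorem IsClassFunction.inv_conj {φ : G → ℂ} (hφ : IsClassFunction G φ) (g h : G) :
    φ (h⁻¹ * g * h) = φ g := by
  simpa using hφ g h⁻¹

end ClassFunction

section Ind

variable {G : Type*} [Group G]

theorem extendByZero_of_mem (H : Subgroup G) (θ : H → ℂ) {g : G} (hg : g ∈ H) :
    extendByZero H θ g = θ ⟨g, hg⟩ := by
  unfold extendByZero
  exact Subtype.val_injective.extend_apply θ 0 ⟨g, hg⟩

theorem extendByZero_coe (H : Subgroup G) (θ : H → ℂ) (h : H) :
    extendByZero H θ (h : G) = θ h :=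
  extendByZero_of_mem H θ h.2

theorem extendByZero_of_not_mem (H : Subgroup G) (θ : H → ℂ) {g : G} (hg : g ∉ H) :
    extendByZero H θ g = 0 := by
  unfold extendByZero
  rw [Function.extend_apply']
  · rfl
  · rintro ⟨a, rfl⟩
    exact hg a.2

theorem extendByZero_add (H : Subgroup G) (θ₁ θ₂ : H → ℂ) :
    extendByZero H (θ₁ + θ₂) = extendByZero H θ₁ + extendByZero H θ₂ := by
  ext g
  by_cases hg : g ∈ H
  · simp [extendByZero_of_mem H _ hg]
  · simp [extendByZero_of_not_mem H _ hg]

theorem extendByZero_smul (H : Subgroup G) (c : ℂ) (θ : H → ℂ) :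
    extendByZero H (c • θ) = c • extendByZero H θ := by
  ext g
  by_cases hg : g ∈ H
  · simp [extendByZero_of_mem H _ hg]
  · simp [extendByZero_of_not_mem H _ hg]

theorem extendByZero_neg (H : Subgroup G) (θ : H → ℂ) :
    extendByZero H (-θ) = - extendByZero H θ := by
  ext g
  by_cases hg : g ∈ H
  · simp [extendByZero_of_mem H _ hg]
  · simp [extendByZero_of_not_mem H _ hg]

theorem extendByZero_zero (H : Subgroup G) : extendByZero H (0 : H → ℂ) = 0 := by
  ext g
  by_cases hg : g ∈ H
  · simp [extendByZero_of_mem H _ hg]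
  · simp [extendByZero_of_not_mem H _ hg]

/-- Summing a function against an extension by zero. -/
theorem sum_extendByZero_mul [Fintype G] (H : Subgroup G) [Fintype H] (θ : H → ℂ) (f : G → ℂ) :
    ∑ y : G, extendByZero H θ y * f y = ∑ h : H, θ h * f h := by
  classical
  have h1 : ∑ y : G, extendByZero H θ y * f y
      = ∑ y ∈ Finset.univ.filter (fun y : G => y ∈ H), extendByZero H θ y * f y := by
    symm
    apply Finset.sum_subset (Finset.filter_subset _ _)
    intro y _ hy
    have : y ∉ H := by simpa using hy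
    rw [extendByZero_of_not_mem H θ this, zero_mul]
  rw [h1, Finset.sum_subtype (Finset.univ.filter (fun y : G => y ∈ H)) (p := fun y => y ∈ H)
    (by simp) (fun y => extendByZero H θ y * f y)]
  refine Fintype.sum_congr _ _ fun h => ?_
  rw [extendByZero_coe]

theorem sum_extendByZero [Fintype G] (H : Subgroup G) [Fintype H] (θ : H → ℂ) :
    ∑ y : G, extendByZero H θ y = ∑ h : H, θ h := by
  have := sum_extendByZero_mul H θ (fun _ => 1)
  simpa using this

variable [Fintype G]

theorem indFun_apply (H : Subgroup G) (θ : H → ℂ) (g : G) :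
    indFun H θ g = (Nat.card H : ℂ)⁻¹ * ∑ x : G, extendByZero H θ (x⁻¹ * g * x) := rfl

theorem indFun_isClassFunction (H : Subgroup G) (θ : H → ℂ) : IsClassFunction G (indFun H θ) := by
  intro g h
  rw [indFun_apply, indFun_apply]
  congr 1
  refine Fintype.sum_equiv (Equiv.mulLeft h⁻¹) _ _ fun x => ?_
  simp only [Equiv.coe_mulLeft, mul_inv_rev, inv_inv]
  congr 1
  group

theorem indFun_add (H : Subgroup G) (θ₁ θ₂ : H → ℂ) :
    indFun H (θ₁ + θ₂) = indFun H θ₁ + indFun H θ₂ := by
  ext g
  simp only [indFun_apply, Pi.add_apply, extendByZero_add, Finset.sum_add_distrib, mul_add]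

theorem indFun_smul (H : Subgroup G) (c : ℂ) (θ : H → ℂ) :
    indFun H (c • θ) = c • indFun H θ := by
  ext g
  simp only [indFun_apply, Pi.smul_apply, extendByZero_smul, smul_eq_mul, ← Finset.mul_sum]
  ring

theorem indFun_neg (H : Subgroup G) (θ : H → ℂ) : indFun H (-θ) = - indFun H θ := by
  ext g
  simp only [indFun_apply, Pi.neg_apply, extendByZero_neg, Finset.sum_neg_distrib, mul_neg]

theorem indFun_sub (H : Subgroup G) (θ₁ θ₂ : H → ℂ) :
    indFun H (θ₁ - θ₂) = indFun H θ₁ - indFun H θ₂ := by
  rw [sub_eq_add_neg, indFun_add, indFun_neg, sub_eq_add_neg]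

theorem indFun_zero (H : Subgroup G) : indFun H (0 : H → ℂ) = 0 := by
  ext g
  simp [indFun_apply, extendByZero_zero]

theorem indFun_sum {ι : Type*} (H : Subgroup G) (s : Finset ι) (f : ι → H → ℂ) :
    indFun H (∑ i ∈ s, f i) = ∑ i ∈ s, indFun H (f i) := by
  classical
  induction s using Finset.induction_on with
  | empty => simp [indFun_zero]
  | insert a s ha ih => rw [Finset.sum_insert ha, Finset.sum_insert ha, indFun_add, ih]

theorem indFun_nsmul (H : Subgroup G) (n : ℕ) (θ : H → ℂ) :
    indFun H (n • θ) = n • indFun H θ := by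
  have h1 : n • θ = (n : ℂ) • θ := by ext g; simp
  have h2 : n • indFun H θ = (n : ℂ) • indFun H θ := by ext g; simp
  rw [h1, h2, indFun_smul]

theorem indFun_zsmul (H : Subgroup G) (n : ℤ) (θ : H → ℂ) :
    indFun H (n • θ) = n • indFun H θ := by
  have h1 : n • θ = (n : ℂ) • θ := by ext g; simp
  have h2 : n • indFun H θ = (n : ℂ) • indFun H θ := by ext g; simp
  rw [h1, h2, indFun_smul]

theorem card_subgroup_ne_zero (H : Subgroup G) : (Nat.card H : ℂ) ≠ 0 := by
  have : 0 < Nat.card H := Nat.card_pos
  exact_mod_cast this.ne'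

/-- The degree of an induced function. -/
theorem indFun_one (H : Subgroup G) (θ : H → ℂ) :
    indFun H θ 1 = (H.index : ℂ) * θ 1 := by
  rw [indFun_apply]
  have : ∀ x : G, extendByZero H θ (x⁻¹ * 1 * x) = θ 1 := by
    intro x
    have : x⁻¹ * 1 * x = ((1 : H) : G) := by simp
    rw [this, extendByZero_coe]
  simp only [this, Finset.sum_const, Finset.card_univ, nsmul_eq_mul]
  have hc : (Fintype.card G : ℂ) = (Nat.card H : ℂ) * (H.index : ℂ) := by
    rw [← Nat.card_eq_fintype_card, ← H.card_mul_index]; push_cast; ring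
  rw [hc]
  field_simp [card_subgroup_ne_zero H]

/-- **Frobenius reciprocity**, function-level: for any function `θ` on `H` and any class
function `χ` of `G`. -/
theorem frobenius_reciprocity (H : Subgroup G) [Fintype H] (θ : H → ℂ) (χ : G → ℂ)
    (hχ : IsClassFunction G χ) :
    classInner (indFun H θ) χ = classInner θ (fun h : H => χ h) := by
  unfold classInner
  have key : ∀ x : G, ∑ g : G, extendByZero H θ (x⁻¹ * g * x) * conj (χ g)
      = ∑ h : H, θ h * conj (χ h) := by
    intro x
    rw [← sum_extendByZero_mul H θ (fun y => conj (χ y))]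
    refine Fintype.sum_equiv (MulAut.conj x⁻¹).toEquiv _ _ fun g => ?_
    simp only [MulEquiv.toEquiv_eq_coe, MulEquiv.coe_toEquiv, MulAut.conj_apply, inv_inv]
    rw [IsClassFunction.inv_conj hχ]
  calc (Nat.card G : ℂ)⁻¹ * ∑ g : G, indFun H θ g * conj (χ g)
      = (Nat.card G : ℂ)⁻¹ * ((Nat.card H : ℂ)⁻¹ *
          ∑ x : G, ∑ g : G, extendByZero H θ (x⁻¹ * g * x) * conj (χ g)) := by
        congr 1
        rw [Finset.sum_comm, Finset.mul_sum]
        refine Finset.sum_congr rfl fun g _ => ?_
        rw [indFun_apply, mul_assoc, Finset.sum_mul]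
    _ = (Nat.card G : ℂ)⁻¹ * ((Nat.card H : ℂ)⁻¹ *
          ((Nat.card G : ℂ) * ∑ h : H, θ h * conj (χ h))) := by
        simp only [key, Finset.sum_const, Finset.card_univ, nsmul_eq_mul,
          Nat.card_eq_fintype_card]
    _ = (Nat.card H : ℂ)⁻¹ * ∑ h : H, θ h * conj (χ h) := by
        have := card_ne_zero_complex (G := G)
        field_simp

/-- Frobenius reciprocity with the induced function on the right. -/
theorem frobenius_reciprocity' (H : Subgroup G) [Fintype H] (θ : H → ℂ) (χ : G → ℂ)
    (hχ : IsClassFunction G χ) :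
    classInner χ (indFun H θ) = classInner (fun h : H => χ h) θ := by
  rw [← classInner_conj_symm, frobenius_reciprocity H θ χ hχ, classInner_conj_symm]

/-- Value of an induced function from a normal subgroup, at an element of the subgroup. -/
theorem indFun_apply_of_normal (H : Subgroup G) [hN : H.Normal] (θ : H → ℂ) (h : H) :
    indFun H θ h = (Nat.card H : ℂ)⁻¹ *
      ∑ x : G, θ ⟨x⁻¹ * h * x, by simpa using hN.conj_mem h h.2 x⁻¹⟩ := by
  rw [indFun_apply]
  congr 1
  refine Finset.sum_congr rfl fun x _ => ?_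
  rw [extendByZero_of_mem]

/-- An induced function from a normal subgroup vanishes off the subgroup. -/
theorem indFun_apply_of_normal_of_not_mem (H : Subgroup G) [hN : H.Normal] (θ : H → ℂ) {g : G}
    (hg : g ∉ H) : indFun H θ g = 0 := by
  rw [indFun_apply]
  have : ∀ x : G, extendByZero H θ (x⁻¹ * g * x) = 0 := by
    intro x
    apply extendByZero_of_not_mem
    intro hx
    apply hg
    have := hN.conj_mem _ hx x
    simpa [mul_assoc] using this
  simp [this]

end Ind

end Cfsg.Agent.Lib.Helper2_ClassFn
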