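import Mathlib
import Cfsg.Prelude.Def_Characters
import Cfsg.Agent.Lib.Helper2_ClassFn

set_option autoImplicit false

/-!
# Basic character theory for `Cfsg.IsCharacter` / `Cfsg.IsIrrCharacter`
-/

namespace Cfsg.Agent.Lib.Helper2_CharBasic

open Cfsg
open Cfsg.Agent.Lib.Helper2_ClassFn
open scoped ComplexConjugate ComplexOrder

universe u

section Transport

variable {G : Type u} [Group G]

/-- Map a subrepresentation along an equivalence of representations. -/
def subrepMap {k : Type*} [Field k] {V W : Type*} [AddCommGroup V] [Module k V]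
    [AddCommGroup W] [Module k W] {ρ : Representation k G V} {σ : Representation k G W}
    (φ : ρ.Equiv σ) (U : Subrepresentation ρ) : Subrepresentation σ where
  toSubmodule := U.toSubmodule.map φ.toLinearEquiv.toLinearMap
  apply_mem_toSubmodule g v hv := by
    obtain ⟨w, hw, rfl⟩ := hv
    refine ⟨ρ g w, U.apply_mem_toSubmodule g hw, ?_⟩
    exact LinearMap.congr_fun (φ.toIntertwiningMap.isIntertwining' g) w

theorem mem_subrepMap {k : Type*} [Field k] {V W : Type*} [AddCommGroup V] [Module k V]
    [AddCommGroup W] [Module k W] {ρ : Representation k G V} {σ : Representation k G W}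
    (φ : ρ.Equiv σ) (U : Subrepresentation ρ) (w : W) :
    w ∈ subrepMap φ U ↔ φ.symm w ∈ U := by
  constructor
  · rintro ⟨v, hv, rfl⟩
    have : φ.symm (φ.toLinearEquiv.toLinearMap v) = v := φ.symm_apply_apply v
    rw [this]; exact hv
  · intro h
    exact ⟨φ.symm w, h, φ.apply_symm_apply w⟩

/-- Equivalent representations have isomorphic lattices of subrepresentations. -/
def subrepOrderIso {k : Type*} [Field k] {V W : Type*} [AddCommGroup V] [Module k V]
    [AddCommGroup W] [Module k W] {ρ : Representation k G V} {σ : Representation k G W}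
    (φ : ρ.Equiv σ) : Subrepresentation ρ ≃o Subrepresentation σ where
  toFun := subrepMap φ
  invFun := subrepMap φ.symm
  left_inv U := by
    apply SetLike.ext
    intro v
    rw [mem_subrepMap, mem_subrepMap]
    simp
  right_inv U := by
    apply SetLike.ext
    intro v
    rw [mem_subrepMap, mem_subrepMap]
    simp
  map_rel_iff' := by
    intro U U'
    constructor
    · intro h v hv
      have : φ v ∈ subrepMap φ U' := h ((mem_subrepMap φ U (φ v)).mpr (by simpa using hv))
      simpa [mem_subrepMap] using this
    · intro h w hw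
      change w ∈ subrepMap φ U at hw
      change w ∈ subrepMap φ U'
      rw [mem_subrepMap] at hw ⊢
      exact h hw

theorem isIrreducible_of_equiv {k : Type*} [Field k] {V W : Type*} [AddCommGroup V] [Module k V]
    [AddCommGroup W] [Module k W] {ρ : Representation k G V} {σ : Representation k G W}
    (φ : ρ.Equiv σ) (h : ρ.IsIrreducible) : σ.IsIrreducible :=
  (subrepOrderIso φ).isSimpleOrder_iff.mp h

/-- Transport of a representation along a linear equivalence. -/
noncomputable def transport {k : Type*} [Field k] {V W : Type*} [AddCommGroup V] [Module k V]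
    [AddCommGroup W] [Module k W] (e : V ≃ₗ[k] W) (ρ : Representation k G V) :
    Representation k G W where
  toFun g := e.conj (ρ g)
  map_one' := by
    rw [map_one]; exact e.conj_id
  map_mul' g h := by
    rw [map_mul]; exact e.conj_comp (ρ h) (ρ g)

theorem transport_apply {k : Type*} [Field k] {V W : Type*} [AddCommGroup V] [Module k V]
    [AddCommGroup W] [Module k W] (e : V ≃ₗ[k] W) (ρ : Representation k G V) (g : G) :
    transport e ρ g = e.conj (ρ g) := rfl

/-- The tautological equivalence `ρ ≃ transport e ρ`. -/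
noncomputable def transportEquiv {k : Type*} [Field k] {V W : Type*} [AddCommGroup V] [Module k V]
    [AddCommGroup W] [Module k W] (e : V ≃ₗ[k] W) (ρ : Representation k G V) :
    ρ.Equiv (transport e ρ) :=
  Representation.Equiv.mk e (by
    intro g
    ext v
    simp [transport_apply, LinearEquiv.conj_apply])

theorem transport_character {k : Type*} [Field k] {V W : Type*} [AddCommGroup V] [Module k V]
    [AddCommGroup W] [Module k W] (e : V ≃ₗ[k] W) (ρ : Representation k G V) :
    (transport e ρ).character = ρ.character := by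
  ext g
  exact LinearMap.trace_conj' (ρ g) e

/-- The character of any finite-dimensional complex representation is a character in the sense
of `Cfsg.IsCharacter`. -/
theorem isCharacter_of_rep {V : Type*} [AddCommGroup V] [Module ℂ V] [FiniteDimensional ℂ V]
    (ρ : Representation ℂ G V) : IsCharacter G ρ.character := by
  refine ⟨Module.finrank ℂ V, transport (Module.finBasis ℂ V).equivFun ρ, ?_⟩
  exact transport_character _ ρ

/-- The character of any finite-dimensional irreducible complex representation is an irreducible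
character in the sense of `Cfsg.IsIrrCharacter`. -/
theorem isIrrCharacter_of_rep {V : Type*} [AddCommGroup V] [Module ℂ V] [FiniteDimensional ℂ V]
    (ρ : Representation ℂ G V) (h : ρ.IsIrreducible) : IsIrrCharacter G ρ.character := by
  refine ⟨Module.finrank ℂ V, transport (Module.finBasis ℂ V).equivFun ρ, ?_, ?_⟩
  · exact isIrreducible_of_equiv (transportEquiv _ ρ) h
  · exact transport_character _ ρ

theorem IsIrrCharacter.isCharacter {χ : G → ℂ} (h : IsIrrCharacter G χ) : IsCharacter G χ := by
  obtain ⟨n, ρ, _, hρ⟩ := h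
  exact ⟨n, ρ, hρ⟩

end Transport

section Conj

variable {G : Type u} [Group G]

noncomputable def mat {n : ℕ} (ρ : Representation ℂ G (Fin n → ℂ)) (g : G) :
    Matrix (Fin n) (Fin n) ℂ := LinearMap.toMatrix' (ρ g)

theorem mat_mul {n : ℕ} (ρ : Representation ℂ G (Fin n → ℂ)) (g h : G) :
    mat ρ (g * h) = mat ρ g * mat ρ h := by
  unfold mat
  rw [map_mul, LinearMap.toMatrix'_mul]

theorem mat_one {n : ℕ} (ρ : Representation ℂ G (Fin n → ℂ)) : mat ρ 1 = 1 := by
  unfold mat
  rw [map_one, LinearMap.toMatrix'_one]

theorem trace_mat {n : ℕ} (ρ : Representation ℂ G (Fin n → ℂ)) (g : G) :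
    (mat ρ g).trace = ρ.character g := by
  unfold mat Representation.character
  rw [LinearMap.trace_eq_matrix_trace ℂ (Pi.basisFun ℂ (Fin n)), LinearMap.toMatrix_eq_toMatrix']

variable [Fintype G]

noncomputable def formH {n : ℕ} (ρ : Representation ℂ G (Fin n → ℂ)) : Matrix (Fin n) (Fin n) ℂ :=
  ∑ g : G, (mat ρ g).conjTranspose * mat ρ g

theorem formH_posDef {n : ℕ} (ρ : Representation ℂ G (Fin n → ℂ)) : (formH ρ).PosDef := by
  classical
  unfold formH
  rw [← Finset.add_sum_erase Finset.univ _ (Finset.mem_univ (1 : G))]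
  apply Matrix.PosDef.add_posSemidef
  · rw [mat_one]; simpa using (Matrix.PosDef.one (n := Fin n) (R := ℂ))
  · apply Matrix.posSemidef_sum
    intro g _
    exact Matrix.posSemidef_conjTranspose_mul_self _

theorem formH_invariant {n : ℕ} (ρ : Representation ℂ G (Fin n → ℂ)) (h : G) :
    (mat ρ h).conjTranspose * formH ρ * mat ρ h = formH ρ := by
  unfold formH
  rw [Finset.mul_sum, Finset.sum_mul]
  refine Fintype.sum_equiv (Equiv.mulRight h) _ _ fun g => ?_
  simp only [Equiv.coe_mulRight, mat_mul, Matrix.conjTranspose_mul]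
  simp only [Matrix.mul_assoc]

theorem char_inv {n : ℕ} (ρ : Representation ℂ G (Fin n → ℂ)) (h : G) :
    ρ.character h⁻¹ = conj (ρ.character h) := by
  classical
  have hH := formH_posDef ρ
  have hdet : IsUnit (formH ρ).det := (Matrix.isUnit_iff_isUnit_det _).mp hH.isUnit
  have h1 : formH ρ * mat ρ h⁻¹ = (mat ρ h).conjTranspose * formH ρ := by
    have := formH_invariant ρ h
    calc formH ρ * mat ρ h⁻¹ = ((mat ρ h).conjTranspose * formH ρ * mat ρ h) * mat ρ h⁻¹ := by
          rw [this]
      _ = (mat ρ h).conjTranspose * formH ρ * (mat ρ h * mat ρ h⁻¹) := by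
          simp only [Matrix.mul_assoc]
      _ = (mat ρ h).conjTranspose * formH ρ := by
          rw [← mat_mul, mul_inv_cancel, mat_one, Matrix.mul_one]
  rw [← trace_mat, ← trace_mat]
  calc (mat ρ h⁻¹).trace = ((formH ρ)⁻¹ * (formH ρ * mat ρ h⁻¹)).trace := by
        rw [← Matrix.mul_assoc, Matrix.nonsing_inv_mul _ hdet, Matrix.one_mul]
    _ = ((formH ρ)⁻¹ * ((mat ρ h).conjTranspose * formH ρ)).trace := by rw [h1]
    _ = (((mat ρ h).conjTranspose * formH ρ) * (formH ρ)⁻¹).trace := Matrix.trace_mul_comm _ _
    _ = ((mat ρ h).conjTranspose).trace := by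
        rw [Matrix.mul_assoc, Matrix.mul_nonsing_inv _ hdet, Matrix.mul_one]
    _ = conj ((mat ρ h).trace) := by
        rw [Matrix.trace_conjTranspose]; rfl

end Conj

section Decomp

variable {G : Type u} [Group G]

theorem trace_eq_add_of_isCompl {V : Type*} [AddCommGroup V] [Module ℂ V] [FiniteDimensional ℂ V]
    (U U' : Submodule ℂ V) (h : IsCompl U U') (f : V →ₗ[ℂ] V)
    (hU : ∀ v ∈ U, f v ∈ U) (hU' : ∀ v ∈ U', f v ∈ U') :
    LinearMap.trace ℂ V f
      = LinearMap.trace ℂ U (f.restrict hU) + LinearMap.trace ℂ U' (f.restrict hU') := by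
  classical
  let A : Bool → Submodule ℂ V := fun b => cond b U U'
  have hint : DirectSum.IsInternal A := by
    rw [DirectSum.isInternal_submodule_iff_isCompl A (i := true) (j := false) (by decide)
      (by ext b; cases b <;> simp)]
    exact h
  have hf : ∀ b, Set.MapsTo f (A b) (A b) := by
    intro b
    cases b
    · exact hU'
    · exact hU
  have hfin : ∀ b, Module.Finite ℂ (A b) := fun b => inferInstance
  have hfree : ∀ b, Module.Free ℂ (A b) := fun b => inferInstance
  have := LinearMap.trace_eq_sum_trace_restrict hint hf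
  rw [this, Fintype.sum_bool]
  rfl

theorem character_eq_add_of_isCompl {V : Type*} [AddCommGroup V] [Module ℂ V]
    [FiniteDimensional ℂ V] (ρ : Representation ℂ G V) (U U' : Subrepresentation ρ)
    (h : IsCompl U U') :
    ρ.character = U.toRepresentation.character + U'.toRepresentation.character := by
  have h' : IsCompl U.toSubmodule U'.toSubmodule := by
    constructor
    · rw [disjoint_iff]
      have := h.1.eq_bot
      have h2 : (U ⊓ U').toSubmodule = (⊥ : Subrepresentation ρ).toSubmodule := by rw [this]
      exact h2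
    · rw [codisjoint_iff]
      have := h.2.eq_top
      have h2 : (U ⊔ U').toSubmodule = (⊤ : Subrepresentation ρ).toSubmodule := by rw [this]
      exact h2
  ext g
  simp only [Pi.add_apply, Representation.character]
  exact trace_eq_add_of_isCompl U.toSubmodule U'.toSubmodule h' (ρ g)
    (fun v hv => U.apply_mem_toSubmodule g hv) (fun v hv => U'.apply_mem_toSubmodule g hv)

theorem subrep_bot_ne_top {V : Type*} [AddCommGroup V] [Module ℂ V] [Nontrivial V]
    (ρ : Representation ℂ G V) : (⊥ : Subrepresentation ρ) ≠ ⊤ := by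
  intro h
  have h2 : (⊥ : Subrepresentation ρ).toSubmodule = (⊤ : Subrepresentation ρ).toSubmodule := by
    rw [h]
  exact bot_ne_top (α := Submodule ℂ V) h2

theorem exists_irr_decomp_aux [Finite G] : ∀ (n : ℕ) (V : Type) [AddCommGroup V] [Module ℂ V]
    [FiniteDimensional ℂ V] (ρ : Representation ℂ G V), Module.finrank ℂ V = n →
    ∃ m : Multiset (G → ℂ), (∀ ψ ∈ m, IsIrrCharacter G ψ) ∧ ρ.character = m.sum := by
  intro n
  induction n using Nat.strong_induction_on with
  | _ n ih =>
    intro V _ _ _ ρ hn
    by_cases hirr : ρ.IsIrreducible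
    · exact ⟨{ρ.character}, by simpa using isIrrCharacter_of_rep ρ hirr, by simp⟩
    by_cases h0 : n = 0
    · subst h0
      refine ⟨0, by simp, ?_⟩
      have : Subsingleton V := Module.finrank_zero_iff.mp hn
      ext g
      have : ρ g = 0 := Subsingleton.elim _ _
      simp [Representation.character, this]
    have hnt : Nontrivial V := Module.nontrivial_of_finrank_pos (R := ℂ) (by omega)
    have : ∃ U : Subrepresentation ρ, U ≠ ⊥ ∧ U ≠ ⊤ := by
      by_contra hcon
      push Not at hcon
      apply hirr
      refine { exists_pair_ne := ⟨⊥, ⊤, subrep_bot_ne_top ρ⟩, eq_bot_or_eq_top := ?_ }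
      intro U
      by_cases hU : U = ⊥
      · exact Or.inl hU
      · exact Or.inr (hcon U hU)
    obtain ⟨U, hU0, hU1⟩ := this
    have : NeZero (Nat.card G : ℂ) := ⟨by
      have : 0 < Nat.card G := Nat.card_pos
      exact_mod_cast this.ne'⟩
    obtain ⟨U', hc⟩ := exists_isCompl U
    have hU'1 : U' ≠ ⊤ := by
      rintro rfl
      apply hU0
      have := hc.1.eq_bot
      simpa using this
    have hlt : ∀ W : Subrepresentation ρ, W ≠ ⊤ → Module.finrank ℂ W.toSubmodule < n := by
      intro W hW
      rw [← hn]
      apply Submodule.finrank_lt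
      intro h
      apply hW
      apply Subrepresentation.toSubmodule_injective
      exact h
    obtain ⟨m1, hm1, hs1⟩ := ih _ (hlt U hU1) U.toSubmodule U.toRepresentation rfl
    obtain ⟨m2, hm2, hs2⟩ := ih _ (hlt U' hU'1) U'.toSubmodule U'.toRepresentation rfl
    refine ⟨m1 + m2, ?_, ?_⟩
    · intro ψ hψ
      rcases Multiset.mem_add.mp hψ with h | h
      · exact hm1 ψ h
      · exact hm2 ψ h
    · rw [character_eq_add_of_isCompl ρ U U' hc, hs1, hs2, Multiset.sum_add]

/-- Every character is a sum of irreducible characters. -/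
theorem IsCharacter.exists_irr_decomp [Finite G] {χ : G → ℂ} (h : IsCharacter G χ) :
    ∃ m : Multiset (G → ℂ), (∀ ψ ∈ m, IsIrrCharacter G ψ) ∧ χ = m.sum := by
  obtain ⟨n, ρ, rfl⟩ := h
  exact exists_irr_decomp_aux _ _ ρ rfl

end Decomp

end Cfsg.Agent.Lib.Helper2_CharBasic
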