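import Mathlib
import Cfsg.Prelude.Def_Characters
import Cfsg.Agent.Lib.Helper2_ClassFn
import Cfsg.Agent.Lib.Helper2_CharBasic

set_option autoImplicit false

/-!
# Orthogonality relations, closure properties, finiteness of `Irr(G)`
-/

namespace Cfsg.Agent.Lib.Helper2_CharOrtho

open Cfsg
open Cfsg.Agent.Lib.Helper2_ClassFn
open Cfsg.Agent.Lib.Helper2_CharBasic
open scoped ComplexConjugate ComplexOrder

universe u

section Basic

variable {G : Type u} [Group G]

theorem IsCharacter.isClassFunction {χ : G → ℂ} (h : IsCharacter G χ) : IsClassFunction G χ := by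
  obtain ⟨n, ρ, rfl⟩ := h
  intro g x
  exact Representation.char_conj ρ g x

theorem IsCharacter.apply_inv [Finite G] {χ : G → ℂ} (h : IsCharacter G χ) (g : G) :
    χ g⁻¹ = conj (χ g) := by
  obtain ⟨n, ρ, rfl⟩ := h
  have := Fintype.ofFinite G
  exact char_inv ρ g

theorem IsCharacter.apply_one {χ : G → ℂ} (h : IsCharacter G χ) : ∃ n : ℕ, χ 1 = n := by
  obtain ⟨n, ρ, rfl⟩ := h
  exact ⟨n, by simp⟩

theorem IsIrrCharacter.apply_one {χ : G → ℂ} (h : IsIrrCharacter G χ) :
    ∃ n : ℕ, 0 < n ∧ χ 1 = n := by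
  obtain ⟨n, ρ, hirr, rfl⟩ := h
  refine ⟨n, ?_, by simp⟩
  rcases Nat.eq_zero_or_pos n with h0 | h0
  · subst h0
    exfalso
    have hnt : Nontrivial (Subrepresentation ρ) := hirr.toNontrivial
    obtain ⟨a, b, hab⟩ := hnt.exists_pair_ne
    apply hab
    apply SetLike.ext
    intro v
    have : v = 0 := Subsingleton.elim _ _
    subst this
    constructor <;> intro _
    · exact b.toSubmodule.zero_mem
    · exact a.toSubmodule.zero_mem
  · exact h0

theorem IsIrrCharacter.apply_one_ne_zero {χ : G → ℂ} (h : IsIrrCharacter G χ) : χ 1 ≠ 0 := by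
  obtain ⟨n, hn, h1⟩ := IsIrrCharacter.apply_one h
  rw [h1]
  exact_mod_cast hn.ne'

theorem IsIrrCharacter.ne_zero {χ : G → ℂ} (h : IsIrrCharacter G χ) : χ ≠ 0 := by
  intro h0
  apply IsIrrCharacter.apply_one_ne_zero h
  rw [h0]; rfl

/-- Orthonormality of irreducible characters. -/
theorem classInner_irr [Fintype G] {χ ψ : G → ℂ} (hχ : IsIrrCharacter G χ)
    (hψ : IsIrrCharacter G ψ) : classInner χ ψ = if χ = ψ then 1 else 0 := by
  classical
  obtain ⟨n, ρ, hρ, rfl⟩ := hχ
  obtain ⟨m, σ, hσ, rfl⟩ := hψ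
  have hinv : Invertible (Nat.card G : ℂ) := invertibleOfNonzero card_ne_zero_complex
  have key : ∀ (m' : ℕ) (σ' : Representation ℂ G (Fin m' → ℂ)), σ'.IsIrreducible →
      classInner ρ.character σ'.character = if Nonempty (σ'.Equiv ρ) then 1 else 0 := by
    intro m' σ' hσ'
    have := Representation.char_orthonormal ρ σ'
    rw [classInner_def]
    rw [← this]
    congr 1
    refine Finset.sum_congr rfl fun g _ => ?_
    rw [char_inv σ' g]
  split_ifs with heq
  · rw [← heq, key n ρ hρ, if_pos ⟨Representation.Equiv.refl ρ⟩]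
  · rw [key m σ hσ, if_neg]
    rintro ⟨φ⟩
    exact heq (Representation.char_iso φ).symm

theorem classInner_irr_self [Fintype G] {χ : G → ℂ} (hχ : IsIrrCharacter G χ) :
    classInner χ χ = 1 := by
  rw [classInner_irr hχ hχ, if_pos rfl]

theorem classInner_irr_of_ne [Fintype G] {χ ψ : G → ℂ} (hχ : IsIrrCharacter G χ)
    (hψ : IsIrrCharacter G ψ) (hne : χ ≠ ψ) : classInner χ ψ = 0 := by
  rw [classInner_irr hχ hψ, if_neg hne]

end Basic

section Closure

variable {G : Type u} [Group G]

theorem IsCharacter.zero : IsCharacter G (0 : G → ℂ) := by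
  refine ⟨0, 1, ?_⟩
  ext g
  have : ((1 : Representation ℂ G (Fin 0 → ℂ)) g) = 0 := Subsingleton.elim _ _
  simp [Representation.character, this]

theorem IsCharacter.add {χ ψ : G → ℂ} (hχ : IsCharacter G χ) (hψ : IsCharacter G ψ) :
    IsCharacter G (χ + ψ) := by
  obtain ⟨n, ρ, rfl⟩ := hχ
  obtain ⟨m, σ, rfl⟩ := hψ
  have := isCharacter_of_rep (ρ.prod σ)
  convert this using 1
  ext g
  simp only [Pi.add_apply, Representation.character]
  have h1 : (ρ.prod σ) g = (ρ g).prodMap (σ g) := rfl
  rw [h1, LinearMap.trace_prodMap']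

theorem IsCharacter.multiset_sum {m : Multiset (G → ℂ)} (h : ∀ ψ ∈ m, IsCharacter G ψ) :
    IsCharacter G m.sum := by
  induction m using Multiset.induction_on with
  | empty => simpa using IsCharacter.zero
  | cons a m ih =>
    rw [Multiset.sum_cons]
    exact IsCharacter.add (h a (Multiset.mem_cons_self a m))
      (ih fun ψ hψ => h ψ (Multiset.mem_cons_of_mem hψ))

theorem IsCharacter.sum {ι : Type*} (s : Finset ι) {f : ι → G → ℂ}
    (h : ∀ i ∈ s, IsCharacter G (f i)) : IsCharacter G (∑ i ∈ s, f i) := by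
  classical
  induction s using Finset.induction_on with
  | empty => simpa using IsCharacter.zero
  | insert a s ha ih =>
    rw [Finset.sum_insert ha]
    exact IsCharacter.add (h a (Finset.mem_insert_self a s))
      (ih fun i hi => h i (Finset.mem_insert_of_mem hi))

theorem IsCharacter.nsmul {χ : G → ℂ} (n : ℕ) (hχ : IsCharacter G χ) : IsCharacter G (n • χ) := by
  induction n with
  | zero => simpa using IsCharacter.zero
  | succ k ih => rw [succ_nsmul]; exact IsCharacter.add ih hχ

theorem IsCharacter.mul {χ ψ : G → ℂ} (hχ : IsCharacter G χ) (hψ : IsCharacter G ψ) :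
    IsCharacter G (χ * ψ) := by
  obtain ⟨n, ρ, rfl⟩ := hχ
  obtain ⟨m, σ, rfl⟩ := hψ
  have := isCharacter_of_rep (ρ.tprod σ)
  rwa [Representation.char_tensor] at this

theorem IsCharacter.comp_hom {H : Type*} [Group H] {χ : G → ℂ} (hχ : IsCharacter G χ)
    (f : H →* G) : IsCharacter H (fun h => χ (f h)) := by
  obtain ⟨n, ρ, rfl⟩ := hχ
  exact ⟨n, ρ.comp f, rfl⟩

theorem IsCharacter.restrict {χ : G → ℂ} (hχ : IsCharacter G χ) (H : Subgroup G) :
    IsCharacter H (fun h : H => χ h) :=
  IsCharacter.comp_hom hχ H.subtype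

/-- the conjugate of a character is a character (dual representation) -/
theorem IsCharacter.conj [Finite G] {χ : G → ℂ} (hχ : IsCharacter G χ) :
    IsCharacter G (fun g => conj (χ g)) := by
  have h2 : (fun g => conj (χ g)) = fun g => χ g⁻¹ := by
    ext g; rw [IsCharacter.apply_inv hχ]
  rw [h2]
  obtain ⟨n, ρ, rfl⟩ := hχ
  have := isCharacter_of_rep ρ.dual
  convert this using 1
  ext g
  rw [Representation.char_dual]

theorem isIrreducible_of_finrank_eq_one {V : Type*} [AddCommGroup V] [Module ℂ V]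
    [FiniteDimensional ℂ V] (ρ : Representation ℂ G V) (h : Module.finrank ℂ V = 1) :
    ρ.IsIrreducible := by
  have hnt : Nontrivial V := Module.nontrivial_of_finrank_pos (R := ℂ) (by omega)
  refine { exists_pair_ne := ⟨⊥, ⊤, subrep_bot_ne_top ρ⟩, eq_bot_or_eq_top := ?_ }
  intro U
  have hle := Submodule.finrank_le U.toSubmodule
  rw [h] at hle
  rcases Nat.le_one_iff_eq_zero_or_eq_one.mp hle with h0 | h1
  · left
    apply Subrepresentation.toSubmodule_injective
    exact Submodule.finrank_eq_zero.mp h0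
  · right
    apply Subrepresentation.toSubmodule_injective
    exact Submodule.eq_top_of_finrank_eq (by rw [h1, h])

/-- The representation on `ℂ` attached to a linear character. -/
noncomputable def linRep (ω : G →* ℂˣ) : Representation ℂ G ℂ where
  toFun g := ((ω g : ℂˣ) : ℂ) • LinearMap.id
  map_one' := by simp; rfl
  map_mul' g h := by
    ext
    simp [mul_comm]

theorem linRep_character (ω : G →* ℂˣ) : (linRep ω).character = fun g => ((ω g : ℂˣ) : ℂ) := by
  ext g
  simp [Representation.character, linRep]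

theorem isIrrCharacter_of_hom (ω : G →* ℂˣ) : IsIrrCharacter G (fun g => ((ω g : ℂˣ) : ℂ)) := by
  rw [← linRep_character]
  exact isIrrCharacter_of_rep _ (isIrreducible_of_finrank_eq_one _ (by simp))

theorem isIrrCharacter_one : IsIrrCharacter G (fun _ => (1 : ℂ)) := by
  simpa using isIrrCharacter_of_hom (1 : G →* ℂˣ)

theorem isCharacter_one : IsCharacter G (fun _ => (1 : ℂ)) :=
  IsIrrCharacter.isCharacter isIrrCharacter_one

end Closure
section Irr

variable {G : Type u} [Group G] [Fintype G]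

/-- The set of irreducible characters. -/
def irrSet (G : Type u) [Group G] : Set (G → ℂ) := {ψ | IsIrrCharacter G ψ}

theorem irr_linearIndependent : LinearIndependent ℂ (fun ψ : irrSet G => (ψ : G → ℂ)) := by
  classical
  rw [linearIndependent_iff']
  intro s c hc ψ hψ
  have := congrArg (fun f => classInner f (ψ : G → ℂ)) hc
  simp only [classInner_sum_left, classInner_smul_left, classInner_zero_left] at this
  rw [Finset.sum_eq_single ψ] at this
  · rw [classInner_irr_self ψ.2, mul_one] at this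
    exact this
  · intro φ _ hne
    rw [classInner_irr_of_ne φ.2 ψ.2 (fun h => hne (Subtype.ext h)), mul_zero]
  · intro h; exact absurd hψ h

theorem irrSet_finite : (irrSet G).Finite :=
  LinearIndependent.setFinite irr_linearIndependent

/-- The finset of irreducible characters. -/
noncomputable def irrFinset (G : Type u) [Group G] [Fintype G] : Finset (G → ℂ) :=
  (irrSet_finite (G := G)).toFinset

theorem mem_irrFinset {ψ : G → ℂ} : ψ ∈ irrFinset G ↔ IsIrrCharacter G ψ := by
  simp [irrFinset, irrSet]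

/-- Fourier expansion for functions in the span of the irreducible characters. -/
theorem expansion_of_mem_span {f : G → ℂ} (hf : f ∈ Submodule.span ℂ (irrSet G)) :
    f = ∑ ψ ∈ irrFinset G, classInner f ψ • ψ := by
  classical
  induction hf using Submodule.span_induction with
  | mem x hx =>
    rw [Finset.sum_eq_single x]
    · rw [classInner_irr_self hx, one_smul]
    · intro ψ hψ hne
      rw [classInner_irr_of_ne hx (mem_irrFinset.mp hψ) (Ne.symm hne), zero_smul]
    · intro h; exact absurd (mem_irrFinset.mpr hx) h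
  | zero => simp [classInner_zero_left]
  | add x y _ _ hx hy =>
    conv_lhs => rw [hx, hy]
    rw [← Finset.sum_add_distrib]
    refine Finset.sum_congr rfl fun ψ _ => ?_
    rw [classInner_add_left, add_smul]
  | smul a x _ hx =>
    conv_lhs => rw [hx]
    rw [Finset.smul_sum]
    refine Finset.sum_congr rfl fun ψ _ => ?_
    rw [classInner_smul_left, mul_smul]

/-- Parseval for functions in the span of the irreducible characters. -/
theorem classInner_eq_sum_of_mem_span {f : G → ℂ} (hf : f ∈ Submodule.span ℂ (irrSet G))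
    (f' : G → ℂ) :
    classInner f f' = ∑ ψ ∈ irrFinset G, classInner f ψ * classInner ψ f' := by
  conv_lhs => rw [expansion_of_mem_span hf]
  rw [classInner_sum_left]
  refine Finset.sum_congr rfl fun ψ _ => ?_
  rw [classInner_smul_left]

omit [Fintype G] in
theorem IsIrrCharacter.mem_span {ψ : G → ℂ} (h : IsIrrCharacter G ψ) :
    ψ ∈ Submodule.span ℂ (irrSet G) := Submodule.subset_span h

theorem IsCharacter.mem_span {χ : G → ℂ} (h : IsCharacter G χ) :
    χ ∈ Submodule.span ℂ (irrSet G) := by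
  obtain ⟨m, hm, rfl⟩ := IsCharacter.exists_irr_decomp h
  exact multiset_sum_mem _ fun ψ hψ => Submodule.subset_span (hm ψ hψ)

theorem IsGeneralizedCharacter.mem_span {θ : G → ℂ} (h : IsGeneralizedCharacter G θ) :
    θ ∈ Submodule.span ℂ (irrSet G) := by
  obtain ⟨χ, ψ, hχ, hψ, rfl⟩ := h
  exact Submodule.sub_mem _ (IsCharacter.mem_span hχ) (IsCharacter.mem_span hψ)

/-- multiplicity = inner product, for a multiset of irreducibles -/
theorem classInner_multiset_sum_irr [DecidableEq (G → ℂ)] {m : Multiset (G → ℂ)}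
    (hm : ∀ ψ ∈ m, IsIrrCharacter G ψ)
    {ψ : G → ℂ} (hψ : IsIrrCharacter G ψ) : classInner m.sum ψ = (m.count ψ : ℂ) := by
  induction m using Multiset.induction_on with
  | empty => simp [classInner_zero_left]
  | cons a m ih =>
    rw [Multiset.sum_cons, classInner_add_left,
      ih fun φ hφ => hm φ (Multiset.mem_cons_of_mem hφ),
      classInner_irr (hm a (Multiset.mem_cons_self a m)) hψ, Multiset.count_cons]
    split_ifs with h1 h2 h2
    · push_cast; ring
    · exact absurd h1.symm h2
    · exact absurd h2.symm h1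
    · push_cast; ring

/-- Inner products of a character with an irreducible character are natural numbers. -/
theorem IsCharacter.classInner_irr_nat {χ ψ : G → ℂ} (hχ : IsCharacter G χ)
    (hψ : IsIrrCharacter G ψ) : ∃ n : ℕ, classInner χ ψ = n := by
  classical
  obtain ⟨m, hm, rfl⟩ := IsCharacter.exists_irr_decomp hχ
  exact ⟨m.count ψ, classInner_multiset_sum_irr hm hψ⟩

/-- Inner products of a generalized character with an irreducible character are integers. -/
theorem IsGeneralizedCharacter.classInner_irr_int {θ ψ : G → ℂ} (hθ : IsGeneralizedCharacter G θ)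
    (hψ : IsIrrCharacter G ψ) : ∃ n : ℤ, classInner θ ψ = n := by
  obtain ⟨χ₁, χ₂, h1, h2, rfl⟩ := hθ
  obtain ⟨a, ha⟩ := IsCharacter.classInner_irr_nat h1 hψ
  obtain ⟨b, hb⟩ := IsCharacter.classInner_irr_nat h2 hψ
  refine ⟨(a : ℤ) - b, ?_⟩
  rw [classInner_sub_left, ha, hb]; push_cast; ring

end Irr
theorem exists_of_sum_sq_eq_one {ι : Type*} (s : Finset ι) (z : ι → ℤ)
    (h : ∑ i ∈ s, z i ^ 2 = 1) :
    ∃ i ∈ s, (z i = 1 ∨ z i = -1) ∧ ∀ j ∈ s, j ≠ i → z j = 0 := by
  classical
  have hex : ∃ i ∈ s, z i ≠ 0 := by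
    by_contra hcon
    push Not at hcon
    rw [Finset.sum_eq_zero (fun i hi => by rw [hcon i hi]; rfl)] at h
    exact absurd h (by norm_num)
  obtain ⟨i, hi, hzi⟩ := hex
  rw [← Finset.add_sum_erase s _ hi] at h
  have hrest : 0 ≤ ∑ j ∈ s.erase i, z j ^ 2 := Finset.sum_nonneg fun j _ => sq_nonneg _
  have h1 : 1 ≤ z i ^ 2 := by
    have : 0 < z i ^ 2 := by positivity
    omega
  have h2 : z i ^ 2 = 1 := by omega
  have h3 : ∑ j ∈ s.erase i, z j ^ 2 = 0 := by omega
  refine ⟨i, hi, ?_, ?_⟩
  · have : (z i - 1) * (z i + 1) = 0 := by ring_nf; omega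
    rcases mul_eq_zero.mp this with h | h
    · left; omega
    · right; omega
  · intro j hj hne
    have := (Finset.sum_eq_zero_iff_of_nonneg (fun j _ => sq_nonneg (z j))).mp h3 j
      (Finset.mem_erase.mpr ⟨hne, hj⟩)
    exact pow_eq_zero_iff (by norm_num) |>.mp this

section Gen

variable {G : Type u} [Group G]

theorem IsCharacter.isGeneralizedCharacter {χ : G → ℂ} (h : IsCharacter G χ) :
    IsGeneralizedCharacter G χ := ⟨χ, 0, h, IsCharacter.zero, by simp⟩

theorem IsIrrCharacter.isGeneralizedCharacter {χ : G → ℂ} (h : IsIrrCharacter G χ) :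
    IsGeneralizedCharacter G χ := IsCharacter.isGeneralizedCharacter (IsIrrCharacter.isCharacter h)

theorem IsGeneralizedCharacter.zero : IsGeneralizedCharacter G (0 : G → ℂ) :=
  IsCharacter.isGeneralizedCharacter IsCharacter.zero

theorem IsGeneralizedCharacter.neg {θ : G → ℂ} (h : IsGeneralizedCharacter G θ) :
    IsGeneralizedCharacter G (-θ) := by
  obtain ⟨χ, ψ, hχ, hψ, rfl⟩ := h
  exact ⟨ψ, χ, hψ, hχ, by simp⟩

theorem IsGeneralizedCharacter.add {θ θ' : G → ℂ} (h : IsGeneralizedCharacter G θ)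
    (h' : IsGeneralizedCharacter G θ') : IsGeneralizedCharacter G (θ + θ') := by
  obtain ⟨χ, ψ, hχ, hψ, rfl⟩ := h
  obtain ⟨χ', ψ', hχ', hψ', rfl⟩ := h'
  exact ⟨χ + χ', ψ + ψ', IsCharacter.add hχ hχ', IsCharacter.add hψ hψ', by abel⟩

theorem IsGeneralizedCharacter.sub {θ θ' : G → ℂ} (h : IsGeneralizedCharacter G θ)
    (h' : IsGeneralizedCharacter G θ') : IsGeneralizedCharacter G (θ - θ') := by
  rw [sub_eq_add_neg]
  exact IsGeneralizedCharacter.add h (IsGeneralizedCharacter.neg h')

theorem IsGeneralizedCharacter.nsmul {θ : G → ℂ} (n : ℕ) (h : IsGeneralizedCharacter G θ) :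
    IsGeneralizedCharacter G (n • θ) := by
  induction n with
  | zero => simpa using IsGeneralizedCharacter.zero
  | succ k ih => rw [succ_nsmul]; exact IsGeneralizedCharacter.add ih h

theorem IsGeneralizedCharacter.zsmul {θ : G → ℂ} (n : ℤ) (h : IsGeneralizedCharacter G θ) :
    IsGeneralizedCharacter G (n • θ) := by
  cases n with
  | ofNat k => simpa using IsGeneralizedCharacter.nsmul k h
  | negSucc k =>
    rw [negSucc_zsmul]
    exact IsGeneralizedCharacter.neg (IsGeneralizedCharacter.nsmul _ h)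

theorem IsGeneralizedCharacter.sum {ι : Type*} (s : Finset ι) {f : ι → G → ℂ}
    (h : ∀ i ∈ s, IsGeneralizedCharacter G (f i)) : IsGeneralizedCharacter G (∑ i ∈ s, f i) := by
  classical
  induction s using Finset.induction_on with
  | empty => simpa using IsGeneralizedCharacter.zero
  | insert a s ha ih =>
    rw [Finset.sum_insert ha]
    exact IsGeneralizedCharacter.add (h a (Finset.mem_insert_self a s))
      (ih fun i hi => h i (Finset.mem_insert_of_mem hi))

theorem IsGeneralizedCharacter.mul {θ θ' : G → ℂ} (h : IsGeneralizedCharacter G θ)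
    (h' : IsGeneralizedCharacter G θ') : IsGeneralizedCharacter G (θ * θ') := by
  obtain ⟨χ, ψ, hχ, hψ, rfl⟩ := h
  obtain ⟨χ', ψ', hχ', hψ', rfl⟩ := h'
  refine ⟨χ * χ' + ψ * ψ', χ * ψ' + ψ * χ', ?_, ?_, by ring⟩
  · exact IsCharacter.add (IsCharacter.mul hχ hχ') (IsCharacter.mul hψ hψ')
  · exact IsCharacter.add (IsCharacter.mul hχ hψ') (IsCharacter.mul hψ hχ')

theorem IsGeneralizedCharacter.isClassFunction {θ : G → ℂ} (h : IsGeneralizedCharacter G θ) :
    IsClassFunction G θ := by
  obtain ⟨χ, ψ, hχ, hψ, rfl⟩ := h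
  exact IsClassFunction.sub (IsCharacter.isClassFunction hχ) (IsCharacter.isClassFunction hψ)

theorem IsGeneralizedCharacter.apply_inv [Finite G] {θ : G → ℂ} (h : IsGeneralizedCharacter G θ)
    (g : G) : θ g⁻¹ = conj (θ g) := by
  obtain ⟨χ, ψ, hχ, hψ, rfl⟩ := h
  simp [IsCharacter.apply_inv hχ, IsCharacter.apply_inv hψ]

theorem IsGeneralizedCharacter.conj [Finite G] {θ : G → ℂ} (h : IsGeneralizedCharacter G θ) :
    IsGeneralizedCharacter G (fun g => conj (θ g)) := by
  obtain ⟨χ, ψ, hχ, hψ, rfl⟩ := h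
  exact ⟨_, _, IsCharacter.conj hχ, IsCharacter.conj hψ, by ext g; simp⟩

theorem IsGeneralizedCharacter.apply_one {θ : G → ℂ} (h : IsGeneralizedCharacter G θ) :
    ∃ n : ℤ, θ 1 = n := by
  obtain ⟨χ, ψ, hχ, hψ, rfl⟩ := h
  obtain ⟨a, ha⟩ := IsCharacter.apply_one hχ
  obtain ⟨b, hb⟩ := IsCharacter.apply_one hψ
  exact ⟨(a : ℤ) - b, by simp [ha, hb]⟩

variable [Fintype G]

/-- Integer coefficients of a generalized character. -/
theorem IsGeneralizedCharacter.exists_int_expansion {θ : G → ℂ}
    (h : IsGeneralizedCharacter G θ) :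
    ∃ c : (G → ℂ) → ℤ, (∀ ψ, IsIrrCharacter G ψ → classInner θ ψ = c ψ) ∧
      θ = ∑ ψ ∈ irrFinset G, (c ψ : ℂ) • ψ := by
  classical
  have hc : ∀ ψ : G → ℂ, ∃ n : ℤ, IsIrrCharacter G ψ → classInner θ ψ = n := by
    intro ψ
    by_cases hψ : IsIrrCharacter G ψ
    · obtain ⟨n, hn⟩ := IsGeneralizedCharacter.classInner_irr_int h hψ
      exact ⟨n, fun _ => hn⟩
    · exact ⟨0, fun h => absurd h hψ⟩
  choose c hc using hc
  refine ⟨c, hc, ?_⟩
  conv_lhs => rw [expansion_of_mem_span (IsGeneralizedCharacter.mem_span h)]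
  refine Finset.sum_congr rfl fun ψ hψ => ?_
  rw [hc ψ (mem_irrFinset.mp hψ)]

/-- Inner product of two generalized characters is an integer. -/
theorem IsGeneralizedCharacter.classInner_int {θ θ' : G → ℂ} (h : IsGeneralizedCharacter G θ)
    (h' : IsGeneralizedCharacter G θ') : ∃ n : ℤ, classInner θ θ' = n := by
  obtain ⟨c, hc, _⟩ := IsGeneralizedCharacter.exists_int_expansion h
  obtain ⟨c', hc', _⟩ := IsGeneralizedCharacter.exists_int_expansion h'
  refine ⟨∑ ψ ∈ irrFinset G, c ψ * c' ψ, ?_⟩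
  rw [classInner_eq_sum_of_mem_span (IsGeneralizedCharacter.mem_span h)]
  push_cast
  refine Finset.sum_congr rfl fun ψ hψ => ?_
  have hψ' := mem_irrFinset.mp hψ
  rw [hc ψ hψ', ← classInner_conj_symm, hc' ψ hψ']
  simp

theorem IsGeneralizedCharacter.classInner_self_eq {θ : G → ℂ} (h : IsGeneralizedCharacter G θ)
    (c : (G → ℂ) → ℤ) (hc : ∀ ψ, IsIrrCharacter G ψ → classInner θ ψ = c ψ) :
    classInner θ θ = ((∑ ψ ∈ irrFinset G, c ψ ^ 2 : ℤ) : ℂ) := by
  rw [classInner_eq_sum_of_mem_span (IsGeneralizedCharacter.mem_span h)]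
  push_cast
  refine Finset.sum_congr rfl fun ψ hψ => ?_
  have hψ' := mem_irrFinset.mp hψ
  rw [← classInner_conj_symm θ ψ, hc ψ hψ']
  simp [sq]

/-- A generalized character of norm one is `±` an irreducible character. -/
theorem IsGeneralizedCharacter.eq_irr_or_neg_of_norm_one {θ : G → ℂ}
    (h : IsGeneralizedCharacter G θ) (h1 : classInner θ θ = 1) :
    ∃ ψ, IsIrrCharacter G ψ ∧ (θ = ψ ∨ θ = -ψ) := by
  classical
  obtain ⟨c, hc, hexp⟩ := IsGeneralizedCharacter.exists_int_expansion h
  have hsum : ∑ ψ ∈ irrFinset G, c ψ ^ 2 = 1 := by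
    have := IsGeneralizedCharacter.classInner_self_eq h c hc
    rw [h1] at this
    exact_mod_cast this.symm
  obtain ⟨ψ, hψ, hcψ, hrest⟩ := exists_of_sum_sq_eq_one _ _ hsum
  refine ⟨ψ, mem_irrFinset.mp hψ, ?_⟩
  have hθ : θ = (c ψ : ℂ) • ψ := by
    conv_lhs => rw [hexp]
    rw [Finset.sum_eq_single ψ]
    · intro φ hφ hne
      rw [hrest φ hφ hne]; simp
    · intro hn; exact absurd hψ hn
  rcases hcψ with h | h
  · left; rw [hθ, h]; simp
  · right; rw [hθ, h]; simp

/-- A generalized character of norm one with positive degree is irreducible. -/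
theorem IsGeneralizedCharacter.isIrr_of_norm_one {θ : G → ℂ}
    (h : IsGeneralizedCharacter G θ) (h1 : classInner θ θ = 1) (hpos : 0 < (θ 1).re) :
    IsIrrCharacter G θ := by
  obtain ⟨ψ, hψ, hθ | hθ⟩ := IsGeneralizedCharacter.eq_irr_or_neg_of_norm_one h h1
  · rw [hθ]; exact hψ
  · exfalso
    obtain ⟨n, hn, hn1⟩ := IsIrrCharacter.apply_one hψ
    rw [hθ, Pi.neg_apply, hn1] at hpos
    simp at hpos
    have : (0 : ℝ) < n := by exact_mod_cast hn
    linarith

/-- A character of norm one is irreducible. -/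
theorem IsCharacter.isIrr_of_norm_one {χ : G → ℂ}
    (h : IsCharacter G χ) (h1 : classInner χ χ = 1) : IsIrrCharacter G χ := by
  obtain ⟨ψ, hψ, hθ | hθ⟩ := IsGeneralizedCharacter.eq_irr_or_neg_of_norm_one
    (IsCharacter.isGeneralizedCharacter h) h1
  · rw [hθ]; exact hψ
  · exfalso
    obtain ⟨n, hn, hn1⟩ := IsIrrCharacter.apply_one hψ
    obtain ⟨k, hk⟩ := IsCharacter.apply_one h
    rw [hθ, Pi.neg_apply, hn1] at hk
    have : ((n + k : ℕ) : ℂ) = 0 := by push_cast; rw [← hk]; ring
    have : n + k = 0 := by exact_mod_cast this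
    omega

/-- The conjugate of an irreducible character is irreducible. -/
theorem IsIrrCharacter.conj {χ : G → ℂ} (h : IsIrrCharacter G χ) :
    IsIrrCharacter G (fun g => conj (χ g)) := by
  apply IsCharacter.isIrr_of_norm_one (IsCharacter.conj (IsIrrCharacter.isCharacter h))
  have := classInner_irr_self h
  rw [classInner_def] at this ⊢
  rw [← this]
  congr 1
  refine Finset.sum_congr rfl fun g _ => ?_
  simp [mul_comm]

end Gen

end Cfsg.Agent.Lib.Helper2_CharOrtho
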