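import Mathlib
import Cfsg.Prelude.Def_Characters
import Cfsg.Agent.Lib.Helper2_ClassFn

set_option autoImplicit false

/-!
# Conjugates of functions on a normal subgroup, induction from a normal subgroup
-/

namespace Cfsg.Agent.Lib.Helper2_Clifford

open Cfsg
open Cfsg.Agent.Lib.Helper2_ClassFn
open scoped ComplexConjugate

variable {G : Type*} [Group G]

/-- The conjugate `θ^g : h ↦ θ (g h g⁻¹)` of a function on a normal subgroup. -/
def conjFn (H : Subgroup G) [hN : H.Normal] (θ : H → ℂ) (g : G) : H → ℂ :=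
  fun h => θ ⟨g * h * g⁻¹, hN.conj_mem h h.2 g⟩

theorem conjFn_apply (H : Subgroup G) [hN : H.Normal] (θ : H → ℂ) (g : G) (h : H) :
    conjFn H θ g h = θ ⟨g * h * g⁻¹, hN.conj_mem h h.2 g⟩ := rfl

theorem conjFn_one (H : Subgroup G) [hN : H.Normal] (θ : H → ℂ) : conjFn H θ 1 = θ := by
  ext h
  rw [conjFn_apply]
  congr 1
  ext
  simp

theorem conjFn_mul (H : Subgroup G) [hN : H.Normal] (θ : H → ℂ) (g k : G) :
    conjFn H θ (g * k) = conjFn H (conjFn H θ g) k := by
  ext h
  rw [conjFn_apply, conjFn_apply, conjFn_apply]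
  congr 1
  ext
  simp [mul_assoc]

theorem conjFn_eq_iff (H : Subgroup G) [hN : H.Normal] (θ : H → ℂ) (x g₀ : G) :
    conjFn H θ x = conjFn H θ g₀ ↔ conjFn H θ (x * g₀⁻¹) = θ := by
  constructor
  · intro h
    rw [conjFn_mul, h, ← conjFn_mul, mul_inv_cancel, conjFn_one]
  · intro h
    have : conjFn H θ x = conjFn H (conjFn H θ (x * g₀⁻¹)) g₀ := by
      rw [← conjFn_mul, inv_mul_cancel_right]
    rw [this, h]

variable [Fintype G]

open Classical in
/-- fibers of `g ↦ θ^g` all have the size of the inertia group -/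
theorem card_fiber_conjFn (H : Subgroup G) [hN : H.Normal] (θ : H → ℂ) (g₀ : G) :
    (Finset.univ.filter (fun x : G => conjFn H θ x = conjFn H θ g₀)).card
      = (Finset.univ.filter (fun x : G => conjFn H θ x = θ)).card := by
  refine Finset.card_bij (fun x _ => x * g₀⁻¹) ?_ ?_ ?_
  · intro x hx
    simp only [Finset.mem_filter, Finset.mem_univ, true_and] at hx ⊢
    exact (conjFn_eq_iff H θ x g₀).mp hx
  · intro x _ y _ hxy
    exact mul_right_cancel hxy
  · intro y hy
    simp only [Finset.mem_filter, Finset.mem_univ, true_and] at hy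
    refine ⟨y * g₀, ?_, by simp⟩
    simp only [Finset.mem_filter, Finset.mem_univ, true_and]
    rw [conjFn_eq_iff, mul_inv_cancel_right]
    exact hy

open Classical in
/-- Sum over `G` of a function of `θ^x` -/
theorem sum_conjFn {M : Type*} [AddCommMonoid M] (H : Subgroup G) [hN : H.Normal] (θ : H → ℂ)
    (F : (H → ℂ) → M) :
    ∑ x : G, F (conjFn H θ x)
      = (Finset.univ.filter (fun x : G => conjFn H θ x = θ)).card •
        ∑ ψ ∈ Finset.univ.image (conjFn H θ), F ψ := by
  rw [Finset.sum_comp F (conjFn H θ), Finset.smul_sum]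
  refine Finset.sum_congr rfl fun ψ hψ => ?_
  obtain ⟨g₀, _, rfl⟩ := Finset.mem_image.mp hψ
  rw [card_fiber_conjFn]

open Classical in
theorem card_inertia (H : Subgroup G) [hN : H.Normal] (θ : H → ℂ) :
    Nat.card {g : G // ∀ h : H, θ ⟨g * h * g⁻¹, hN.conj_mem h h.2 g⟩ = θ h}
      = (Finset.univ.filter (fun x : G => conjFn H θ x = θ)).card := by
  rw [Nat.card_eq_fintype_card, Fintype.card_subtype]
  congr 1
  ext g
  simp only [Finset.mem_filter, Finset.mem_univ, true_and]
  constructor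
  · intro h; ext k; exact h k
  · intro h k; exact congrFun h k

open Classical in
theorem setOf_conj_eq (H : Subgroup G) [hN : H.Normal] (θ : H → ℂ) :
    {ψ : H → ℂ | ∃ g : G, ψ = fun h : H => θ ⟨g * h * g⁻¹, hN.conj_mem h h.2 g⟩}
      = ↑(Finset.univ.image (conjFn H θ)) := by
  ext ψ
  simp only [Set.mem_ofPred_eq, Finset.coe_image, Finset.coe_univ, Set.image_univ, Set.mem_range]
  constructor
  · rintro ⟨g, rfl⟩; exact ⟨g, rfl⟩
  · rintro ⟨g, rfl⟩; exact ⟨g, rfl⟩

/-- Restriction to a normal subgroup `H` of the function induced from `θ` on `H`. -/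
theorem indFun_restrict_normal (H : Subgroup G) [hN : H.Normal] (θ : H → ℂ) :
    (fun h : H => indFun H θ h)
      = ((Nat.card {g : G // ∀ h : H, θ ⟨g * h * g⁻¹, hN.conj_mem h h.2 g⟩ = θ h} : ℂ)
          / (Nat.card H : ℂ)) •
        ∑ᶠ ψ ∈ {ψ : H → ℂ | ∃ g : G, ψ = fun h : H => θ ⟨g * h * g⁻¹, hN.conj_mem h h.2 g⟩},
          ψ := by
  classical
  rw [setOf_conj_eq, finsum_mem_coe_finset, card_inertia]
  ext h
  rw [indFun_apply_of_normal]
  have h1 : ∑ x : G, θ ⟨x⁻¹ * h * x, by simpa using hN.conj_mem h h.2 x⁻¹⟩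
      = ∑ x : G, conjFn H θ x h := by
    refine Fintype.sum_equiv (Equiv.inv G) _ _ fun x => ?_
    rw [conjFn_apply]
    congr 1
    ext
    simp
  rw [h1, sum_conjFn H θ (fun ψ => ψ h)]
  simp only [Pi.smul_apply, Finset.sum_apply, smul_eq_mul, nsmul_eq_mul]
  ring

end Cfsg.Agent.Lib.Helper2_Clifford
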