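import Mathlib
import Cfsg.Prelude.Def_Characters
import Cfsg.Agent.Lib.Helper2_ClassFn
import Cfsg.Agent.Lib.Helper2_CharBasic
import Cfsg.Agent.Lib.Helper2_CharOrtho
import Cfsg.Agent.Lib.Helper2_Clifford

set_option autoImplicit false

/-!
# More character theory: composition with surjective homomorphisms, conjugates
-/

namespace Cfsg.Agent.Lib.Helper2_CharMore

open Cfsg
open Cfsg.Agent.Lib.Helper2_ClassFn
open Cfsg.Agent.Lib.Helper2_CharBasic
open Cfsg.Agent.Lib.Helper2_CharOrtho
open Cfsg.Agent.Lib.Helper2_Clifford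
open scoped ComplexConjugate ComplexOrder

universe u v

section Comp

variable {G : Type u} [Group G] {H : Type v} [Group H]

/-- Subrepresentations of `ρ ∘ f` for surjective `f` are the subrepresentations of `ρ`. -/
def subrepCompOrderIso {k : Type*} [Field k] {V : Type*} [AddCommGroup V] [Module k V]
    (ρ : Representation k G V) (f : H →* G) (hf : Function.Surjective f) :
    Subrepresentation ρ ≃o Subrepresentation (MonoidHom.comp ρ f : Representation k H V) where
  toFun U := ⟨U.toSubmodule, fun h v hv => U.apply_mem_toSubmodule (f h) hv⟩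
  invFun U := ⟨U.toSubmodule, fun g v hv => by
    obtain ⟨h, rfl⟩ := hf g
    exact U.apply_mem_toSubmodule h hv⟩
  left_inv U := rfl
  right_inv U := rfl
  map_rel_iff' := Iff.rfl

theorem isIrreducible_comp_of_surjective {k : Type*} [Field k] {V : Type*} [AddCommGroup V]
    [Module k V] (ρ : Representation k G V) (f : H →* G) (hf : Function.Surjective f)
    (h : ρ.IsIrreducible) :
    Representation.IsIrreducible (MonoidHom.comp ρ f : Representation k H V) :=
  (subrepCompOrderIso ρ f hf).isSimpleOrder_iff.mp h

theorem IsIrrCharacter.comp_surjective {χ : G → ℂ} (hχ : IsIrrCharacter G χ) (f : H →* G)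
    (hf : Function.Surjective f) : IsIrrCharacter H (fun h => χ (f h)) := by
  obtain ⟨n, ρ, hirr, rfl⟩ := hχ
  exact ⟨n, MonoidHom.comp ρ f, isIrreducible_comp_of_surjective ρ f hf hirr, rfl⟩

theorem IsIrrCharacter.comp_mulEquiv {χ : G → ℂ} (hχ : IsIrrCharacter G χ) (e : H ≃* G) :
    IsIrrCharacter H (fun h => χ (e h)) :=
  IsIrrCharacter.comp_surjective hχ e.toMonoidHom e.surjective

end Comp

section Conj

variable {G : Type u} [Group G]

/-- Conjugation by `g` as an automorphism of a normal subgroup. -/
theorem conjFn_eq_comp (H : Subgroup G) [hN : H.Normal] (θ : H → ℂ) (g : G) :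
    conjFn H θ g = fun h => θ (MulAut.conjNormal g h) := by
  ext h
  rw [conjFn_apply]
  congr 1

theorem IsIrrCharacter.conjFn {H : Subgroup G} [hN : H.Normal] {θ : H → ℂ}
    (hθ : IsIrrCharacter H θ) (g : G) : IsIrrCharacter H (conjFn H θ g) := by
  rw [conjFn_eq_comp]
  exact IsIrrCharacter.comp_mulEquiv hθ (MulAut.conjNormal g)

theorem IsCharacter.conjFn {H : Subgroup G} [hN : H.Normal] {θ : H → ℂ}
    (hθ : IsCharacter H θ) (g : G) : IsCharacter H (conjFn H θ g) := by
  rw [conjFn_eq_comp]
  exact IsCharacter.comp_hom hθ (MulAut.conjNormal g : H ≃* H).toMonoidHom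

variable [Fintype G]

/-- Inducing a conjugate gives the same function. -/
theorem indFun_conjFn (H : Subgroup G) [hN : H.Normal] (θ : H → ℂ) (g : G) :
    indFun H (conjFn H θ g) = indFun H θ := by
  have hext : ∀ z : G, extendByZero H (conjFn H θ g) z = extendByZero H θ (g * z * g⁻¹) := by
    intro z
    by_cases hz : z ∈ H
    · rw [extendByZero_of_mem H _ hz, extendByZero_of_mem H θ (hN.conj_mem z hz g)]
      rfl
    · rw [extendByZero_of_not_mem H _ hz, extendByZero_of_not_mem]
      intro h
      apply hz
      have := hN.conj_mem _ h g⁻¹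
      simpa [mul_assoc] using this
  ext y
  rw [indFun_apply, indFun_apply]
  congr 1
  simp only [hext]
  refine Fintype.sum_equiv (Equiv.mulRight g⁻¹) _ _ fun x => ?_
  simp only [Equiv.coe_mulRight, mul_inv_rev, inv_inv]
  congr 1
  group

end Conj

section Schur

variable {G : Type u} [Group G]

/-- **Schur's lemma**: an endomorphism commuting with an irreducible complex representation is
a scalar. -/
theorem schur_scalar {V : Type*} [AddCommGroup V] [Module ℂ V] [FiniteDimensional ℂ V]
    (ρ : Representation ℂ G V) (hirr : ρ.IsIrreducible) (T : V →ₗ[ℂ] V)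
    (hT : ∀ g, T ∘ₗ ρ g = ρ g ∘ₗ T) : ∃ c : ℂ, T = c • LinearMap.id := by
  have : ρ.IsIrreducible := hirr
  obtain ⟨c, hc⟩ :=
    (Representation.IsIrreducible.algebraMap_intertwiningMap_bijective_of_isAlgClosed
      (ρ := ρ)).2 ⟨T, hT⟩
  refine ⟨c, ?_⟩
  have := congrArg Representation.IntertwiningMap.toLinearMap hc
  rw [Representation.IntertwiningMap.algebraMap_apply] at this
  exact this.symm

end Schur

end Cfsg.Agent.Lib.Helper2_CharMore
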