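import Mathlib
import Cfsg.Prelude.Def_Characters
import Cfsg.Agent.Lib.Helper2_ClassFn
import Cfsg.Agent.Lib.Helper2_CharBasic
import Cfsg.Agent.Lib.Helper2_CharOrtho
import Cfsg.Agent.Lib.Helper2_CharMore

set_option autoImplicit false

/-!
# Completeness: irreducible characters span the class functions
-/

namespace Cfsg.Agent.Lib.Helper2_CharComplete

open Cfsg
open Cfsg.Agent.Lib.Helper2_ClassFn
open Cfsg.Agent.Lib.Helper2_CharBasic
open Cfsg.Agent.Lib.Helper2_CharOrtho
open Cfsg.Agent.Lib.Helper2_CharMore
open scoped ComplexConjugate ComplexOrder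

universe u v

section Op

variable {G : Type u} [Group G] [Fintype G]

/-- The operator `∑ g, f g • ρ g`. -/
noncomputable def opOf {V : Type v} [AddCommGroup V] [Module ℂ V] (ρ : Representation ℂ G V)
    (f : G → ℂ) : V →ₗ[ℂ] V := ∑ g : G, f g • ρ g

theorem opOf_apply {V : Type v} [AddCommGroup V] [Module ℂ V] (ρ : Representation ℂ G V)
    (f : G → ℂ) (w : V) : opOf ρ f w = ∑ g : G, f g • ρ g w := by
  simp [opOf, LinearMap.sum_apply]

theorem opOf_comm {V : Type v} [AddCommGroup V] [Module ℂ V] (ρ : Representation ℂ G V)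
    (f : G → ℂ) (hf : IsClassFunction G f) (h : G) : opOf ρ f ∘ₗ ρ h = ρ h ∘ₗ opOf ρ f := by
  ext w
  simp only [LinearMap.comp_apply, opOf_apply, map_sum, map_smul]
  refine Fintype.sum_equiv (MulAut.conj h⁻¹).toEquiv _ _ fun g => ?_
  simp only [MulEquiv.toEquiv_eq_coe, MulEquiv.coe_toEquiv, MulAut.conj_apply, inv_inv]
  rw [IsClassFunction.inv_conj hf]
  congr 1
  rw [← Module.End.mul_apply, ← Module.End.mul_apply, ← map_mul, ← map_mul]
  congr 2
  group

theorem trace_opOf {V : Type v} [AddCommGroup V] [Module ℂ V] (ρ : Representation ℂ G V)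
    (f : G → ℂ) : LinearMap.trace ℂ V (opOf ρ f) = ∑ g : G, f g * ρ.character g := by
  simp [opOf, Representation.character]

/-- On an irreducible representation, `opOf` of a class function orthogonal to the conjugate
character vanishes. -/
theorem opOf_eq_zero_of_irr {V : Type v} [AddCommGroup V] [Module ℂ V] [FiniteDimensional ℂ V]
    (ρ : Representation ℂ G V) (hirr : ρ.IsIrreducible) (f : G → ℂ) (hf : IsClassFunction G f)
    (h0 : ∑ g : G, f g * ρ.character g = 0) : opOf ρ f = 0 := by
  obtain ⟨c, hc⟩ := schur_scalar ρ hirr (opOf ρ f) (opOf_comm ρ f hf)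
  have htr := trace_opOf ρ f
  rw [hc, map_smul, h0, smul_eq_mul, LinearMap.trace_id] at htr
  have hn : (Module.finrank ℂ V : ℂ) ≠ 0 := by
    have hnt : Nontrivial (Subrepresentation ρ) := hirr.toNontrivial
    have : Nontrivial V := by
      by_contra hV
      rw [not_nontrivial_iff_subsingleton] at hV
      obtain ⟨a, b, hab⟩ := hnt.exists_pair_ne
      apply hab
      apply SetLike.ext
      intro w
      have : w = 0 := Subsingleton.elim _ _
      subst this
      exact ⟨fun _ => b.toSubmodule.zero_mem, fun _ => a.toSubmodule.zero_mem⟩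
    have : 0 < Module.finrank ℂ V := Module.finrank_pos
    exact_mod_cast this.ne'
  rcases mul_eq_zero.mp htr with h | h
  · rw [hc, h, zero_smul]
  · exact absurd h hn

theorem opOf_restrict {V : Type v} [AddCommGroup V] [Module ℂ V] (ρ : Representation ℂ G V)
    (U : Subrepresentation ρ) (f : G → ℂ) (w : U.toSubmodule) :
    ((opOf U.toRepresentation f w : U.toSubmodule) : V) = opOf ρ f (w : V) := by
  rw [opOf_apply, opOf_apply]
  simp only [Submodule.coe_sum, Submodule.coe_smul]
  rfl

/-- If `f` is a class function with `∑ g, f g * χ g = 0` for every irreducible character `χ`,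
then `opOf ρ f = 0` for every finite-dimensional representation. -/
theorem opOf_eq_zero_aux (f : G → ℂ) (hf : IsClassFunction G f)
    (h0 : ∀ χ, IsIrrCharacter G χ → ∑ g : G, f g * χ g = 0) :
    ∀ (n : ℕ) (V : Type v) [AddCommGroup V] [Module ℂ V] [FiniteDimensional ℂ V]
    (ρ : Representation ℂ G V), Module.finrank ℂ V = n → opOf ρ f = 0 := by
  intro n
  induction n using Nat.strong_induction_on with
  | _ n ih =>
    intro V _ _ _ ρ hn
    by_cases hirr : ρ.IsIrreducible
    · exact opOf_eq_zero_of_irr ρ hirr f hf (h0 _ (isIrrCharacter_of_rep ρ hirr))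
    by_cases hn0 : n = 0
    · subst hn0
      have : Subsingleton V := Module.finrank_zero_iff.mp hn
      exact Subsingleton.elim _ _
    have hnt : Nontrivial V := Module.nontrivial_of_finrank_pos (R := ℂ) (by omega)
    have : ∃ U : Subrepresentation ρ, U ≠ ⊥ ∧ U ≠ ⊤ := by
      by_contra hcon
      push Not at hcon
      apply hirr
      refine { exists_pair_ne := ⟨⊥, ⊤, subrep_bot_ne_top ρ⟩, eq_bot_or_eq_top := ?_ }
      intro U
      by_cases hU : U = ⊥
      · exact Or.inl hU
      · exact Or.inr (hcon U hU)
    obtain ⟨U, hU0, hU1⟩ := this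
    have : NeZero (Nat.card G : ℂ) := ⟨card_ne_zero_complex⟩
    obtain ⟨U', hc⟩ := exists_isCompl U
    have hU'1 : U' ≠ ⊤ := by
      rintro rfl
      apply hU0
      have := hc.1.eq_bot
      simpa using this
    have hlt : ∀ W : Subrepresentation ρ, W ≠ ⊤ → Module.finrank ℂ W.toSubmodule < n := by
      intro W hW
      rw [← hn]
      apply Submodule.finrank_lt
      intro h
      apply hW
      apply Subrepresentation.toSubmodule_injective
      exact h
    have h1 := ih _ (hlt U hU1) U.toSubmodule U.toRepresentation rfl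
    have h2 := ih _ (hlt U' hU'1) U'.toSubmodule U'.toRepresentation rfl
    have hsup : U.toSubmodule ⊔ U'.toSubmodule = ⊤ := by
      have := hc.2.eq_top
      have h2 : (U ⊔ U').toSubmodule = (⊤ : Subrepresentation ρ).toSubmodule := by rw [this]
      exact h2
    ext w
    have hw : w ∈ U.toSubmodule ⊔ U'.toSubmodule := by rw [hsup]; trivial
    obtain ⟨a, ha, b, hb, rfl⟩ := Submodule.mem_sup.mp hw
    rw [map_add, LinearMap.zero_apply]
    have e1 := opOf_restrict ρ U f ⟨a, ha⟩
    have e2 := opOf_restrict ρ U' f ⟨b, hb⟩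
    rw [h1] at e1
    rw [h2] at e2
    simp only [LinearMap.zero_apply, ZeroMemClass.coe_zero] at e1 e2
    rw [← e1, ← e2, add_zero]

/-- The right regular representation on functions. -/
noncomputable def regRep (G : Type u) [Group G] : Representation ℂ G (G → ℂ) where
  toFun g :=
    { toFun := fun φ x => φ (x * g)
      map_add' := fun _ _ => rfl
      map_smul' := fun _ _ => rfl }
  map_one' := by ext φ x; simp
  map_mul' g h := by ext φ x; simp [mul_assoc]

theorem regRep_apply (g : G) (φ : G → ℂ) (x : G) : regRep G g φ x = φ (x * g) := rfl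

/-- A class function orthogonal to all irreducible characters (in the bilinear sense) vanishes. -/
theorem eq_zero_of_forall_sum_eq_zero (f : G → ℂ) (hf : IsClassFunction G f)
    (h0 : ∀ χ, IsIrrCharacter G χ → ∑ g : G, f g * χ g = 0) : f = 0 := by
  classical
  have h := opOf_eq_zero_aux f hf h0 _ (G → ℂ) (regRep G) rfl
  ext x
  have h1 := congrFun (LinearMap.congr_fun h (Pi.single 1 1)) x⁻¹
  rw [opOf_apply] at h1
  simp only [Finset.sum_apply, Pi.smul_apply, regRep_apply, smul_eq_mul, LinearMap.zero_apply,
    Pi.zero_apply] at h1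
  rw [Finset.sum_eq_single x] at h1
  · simpa using h1
  · intro g _ hg
    have : x⁻¹ * g ≠ 1 := by
      intro h'
      apply hg
      have := inv_mul_eq_one.mp h'
      exact this.symm
    simp [this]
  · intro h'; exact absurd (Finset.mem_univ x) h'

/-- A class function orthogonal to all irreducible characters vanishes. -/
theorem eq_zero_of_classInner_eq_zero (f : G → ℂ) (hf : IsClassFunction G f)
    (h0 : ∀ χ, IsIrrCharacter G χ → classInner f χ = 0) : f = 0 := by
  apply eq_zero_of_forall_sum_eq_zero f hf
  intro χ hχ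
  have h1 := h0 _ (IsIrrCharacter.conj hχ)
  rw [classInner_def] at h1
  simp only [Complex.conj_conj] at h1
  rcases mul_eq_zero.mp h1 with h | h
  · exact absurd h (inv_ne_zero card_ne_zero_complex)
  · exact h

/-- **Completeness**: class functions are in the span of the irreducible characters. -/
theorem IsClassFunction.mem_span {f : G → ℂ} (hf : IsClassFunction G f) :
    f ∈ Submodule.span ℂ (irrSet G) := by
  classical
  set f' := f - ∑ ψ ∈ irrFinset G, classInner f ψ • ψ with hf'
  have hcf : IsClassFunction G f' := by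
    apply IsClassFunction.sub hf
    apply IsClassFunction.sum
    intro ψ hψ
    exact IsClassFunction.smul _ (IsCharacter.isClassFunction
      (IsIrrCharacter.isCharacter (mem_irrFinset.mp hψ)))
  have h0 : f' = 0 := by
    apply eq_zero_of_classInner_eq_zero f' hcf
    intro χ hχ
    rw [hf', classInner_sub_left, classInner_sum_left]
    rw [Finset.sum_eq_single χ]
    · rw [classInner_smul_left, classInner_irr_self hχ, mul_one, sub_self]
    · intro ψ hψ hne
      rw [classInner_smul_left, classInner_irr_of_ne (mem_irrFinset.mp hψ) hχ hne, mul_zero]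
    · intro h; exact absurd (mem_irrFinset.mpr hχ) h
  have : f = ∑ ψ ∈ irrFinset G, classInner f ψ • ψ := by
    rw [hf'] at h0
    exact sub_eq_zero.mp h0
  rw [this]
  apply Submodule.sum_mem
  intro ψ hψ
  exact Submodule.smul_mem _ _ (Submodule.subset_span (mem_irrFinset.mp hψ))

/-- Fourier expansion of a class function. -/
theorem IsClassFunction.expansion {f : G → ℂ} (hf : IsClassFunction G f) :
    f = ∑ ψ ∈ irrFinset G, classInner f ψ • ψ :=
  expansion_of_mem_span (IsClassFunction.mem_span hf)

/-- A class function all of whose inner products with irreducible characters are natural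
numbers is a character. -/
theorem isCharacter_of_classInner_nat {f : G → ℂ} (hf : IsClassFunction G f)
    (h : ∀ ψ, IsIrrCharacter G ψ → ∃ n : ℕ, classInner f ψ = n) : IsCharacter G f := by
  rw [IsClassFunction.expansion hf]
  apply IsCharacter.sum
  intro ψ hψ
  obtain ⟨n, hn⟩ := h ψ (mem_irrFinset.mp hψ)
  rw [hn]
  have : (n : ℂ) • ψ = n • ψ := by ext g; simp
  rw [this]
  exact IsCharacter.nsmul n (IsIrrCharacter.isCharacter (mem_irrFinset.mp hψ))

/-- A class function all of whose inner products with irreducible characters are integers is a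
generalized character. -/
theorem isGeneralizedCharacter_of_classInner_int {f : G → ℂ} (hf : IsClassFunction G f)
    (h : ∀ ψ, IsIrrCharacter G ψ → ∃ n : ℤ, classInner f ψ = n) :
    IsGeneralizedCharacter G f := by
  rw [IsClassFunction.expansion hf]
  apply IsGeneralizedCharacter.sum
  intro ψ hψ
  obtain ⟨n, hn⟩ := h ψ (mem_irrFinset.mp hψ)
  rw [hn]
  have : (n : ℂ) • ψ = n • ψ := by ext g; simp
  rw [this]
  exact IsGeneralizedCharacter.zsmul n
    (IsIrrCharacter.isGeneralizedCharacter (mem_irrFinset.mp hψ))

end Op

end Cfsg.Agent.Lib.Helper2_CharComplete
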