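import Mathlib
import Cfsg.Prelude.Def_Characters
import Cfsg.Agent.Lib.Helper2_ClassFn
import Cfsg.Agent.Lib.Helper2_CharBasic
import Cfsg.Agent.Lib.Helper2_CharOrtho
import Cfsg.Agent.Lib.Helper2_CharMore
import Cfsg.Agent.Lib.Helper2_CharComplete

set_option autoImplicit false

/-!
# Induced characters are characters; inner products of characters
-/

namespace Cfsg.Agent.Lib.Helper2_CharInd

open Cfsg
open Cfsg.Agent.Lib.Helper2_ClassFn
open Cfsg.Agent.Lib.Helper2_CharBasic
open Cfsg.Agent.Lib.Helper2_CharOrtho
open Cfsg.Agent.Lib.Helper2_CharMore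
open Cfsg.Agent.Lib.Helper2_CharComplete
open scoped ComplexConjugate ComplexOrder

universe u

variable {G : Type u} [Group G] [Fintype G]

/-- The inner product of two characters is a natural number. -/
theorem IsCharacter.classInner_nat {χ ψ : G → ℂ} (hχ : IsCharacter G χ) (hψ : IsCharacter G ψ) :
    ∃ n : ℕ, classInner χ ψ = n := by
  obtain ⟨m, hm, rfl⟩ := IsCharacter.exists_irr_decomp hψ
  clear hψ
  induction m using Multiset.induction_on with
  | empty => exact ⟨0, by simp [classInner_zero_right]⟩
  | cons a m ih =>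
    obtain ⟨k, hk⟩ := ih fun ψ hψ => hm ψ (Multiset.mem_cons_of_mem hψ)
    obtain ⟨j, hj⟩ := IsCharacter.classInner_irr_nat hχ (hm a (Multiset.mem_cons_self a m))
    refine ⟨j + k, ?_⟩
    rw [Multiset.sum_cons, classInner_add_right, hk, hj]
    push_cast; ring

/-- The function induced from a character is a character. -/
theorem IsCharacter.indFun {H : Subgroup G} {θ : H → ℂ} (hθ : IsCharacter H θ) :
    IsCharacter G (indFun H θ) := by
  classical
  apply isCharacter_of_classInner_nat (indFun_isClassFunction H θ)
  intro ψ hψ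
  rw [frobenius_reciprocity H θ ψ (IsCharacter.isClassFunction (IsIrrCharacter.isCharacter hψ))]
  exact IsCharacter.classInner_nat hθ (IsCharacter.restrict (IsIrrCharacter.isCharacter hψ) H)

/-- The function induced from a generalized character is a generalized character. -/
theorem IsGeneralizedCharacter.indFun {H : Subgroup G} {θ : H → ℂ}
    (hθ : IsGeneralizedCharacter H θ) : IsGeneralizedCharacter G (indFun H θ) := by
  obtain ⟨a, b, ha, hb, rfl⟩ := hθ
  rw [indFun_sub]
  exact ⟨_, _, IsCharacter.indFun ha, IsCharacter.indFun hb, rfl⟩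

theorem IsGeneralizedCharacter.restrict {χ : G → ℂ} (hχ : IsGeneralizedCharacter G χ)
    (H : Subgroup G) : IsGeneralizedCharacter H (fun h : H => χ h) := by
  obtain ⟨a, b, ha, hb, rfl⟩ := hχ
  exact ⟨_, _, IsCharacter.restrict ha H, IsCharacter.restrict hb H, rfl⟩

end Cfsg.Agent.Lib.Helper2_CharInd
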