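import Mathlib
import Cfsg.Prelude.Def_Characters
import Cfsg.Agent.Lib.Helper2_ClassFn
import Cfsg.Agent.Lib.Helper2_CharBasic
import Cfsg.Agent.Lib.Helper2_CharOrtho
import Cfsg.Agent.Lib.Helper2_CharInd

set_option autoImplicit false

/-!
# Degrees: constituents, abelian groups
-/

namespace Cfsg.Agent.Lib.Helper2_CharDeg

open Cfsg
open Cfsg.Agent.Lib.Helper2_ClassFn
open Cfsg.Agent.Lib.Helper2_CharBasic
open Cfsg.Agent.Lib.Helper2_CharOrtho
open Cfsg.Agent.Lib.Helper2_CharInd
open scoped ComplexConjugate ComplexOrder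

universe u

variable {G : Type u} [Group G]

/-- Irreducible characters of an abelian group have degree one. -/
theorem IsIrrCharacter.apply_one_of_comm (hcomm : ∀ a b : G, a * b = b * a) {χ : G → ℂ}
    (h : IsIrrCharacter G χ) : χ 1 = 1 := by
  obtain ⟨n, ρ, hirr, rfl⟩ := h
  have : IsMulCommutative G := ⟨⟨hcomm⟩⟩
  have : ρ.IsIrreducible := hirr
  rw [Representation.char_one, Representation.IsIrreducible.finrank_eq_one_of_isMulCommutative ρ]
  simp

/-- A nonzero character has an irreducible constituent. -/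
theorem IsCharacter.exists_constituent [Fintype G] {χ : G → ℂ} (h : IsCharacter G χ)
    (h0 : χ ≠ 0) : ∃ ψ, IsIrrCharacter G ψ ∧ ∃ n : ℕ, 0 < n ∧ classInner χ ψ = n := by
  classical
  obtain ⟨m, hm, rfl⟩ := IsCharacter.exists_irr_decomp h
  have hne : m ≠ 0 := by
    rintro rfl
    exact h0 (by simp)
  obtain ⟨ψ, hψ⟩ := Multiset.exists_mem_of_ne_zero hne
  exact ⟨ψ, hm ψ hψ, m.count ψ, Multiset.count_pos.mpr hψ, classInner_multiset_sum_irr hm (hm ψ hψ)⟩

/-- If an irreducible character `χ` is a constituent of a character `Φ` then `χ 1 ≤ Φ 1`;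
more precisely `Φ - χ` is a character. -/
theorem IsCharacter.sub_constituent [Fintype G] {Φ χ : G → ℂ} (hΦ : IsCharacter G Φ)
    (hχ : IsIrrCharacter G χ) (h : classInner Φ χ ≠ 0) : IsCharacter G (Φ - χ) := by
  classical
  obtain ⟨m, hm, rfl⟩ := IsCharacter.exists_irr_decomp hΦ
  rw [classInner_multiset_sum_irr hm hχ] at h
  have hmem : χ ∈ m := by
    apply Multiset.count_pos.mp
    have : m.count χ ≠ 0 := by exact_mod_cast h
    omega
  obtain ⟨m', rfl⟩ := Multiset.exists_cons_of_mem hmem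
  rw [Multiset.sum_cons, add_sub_cancel_left]
  exact IsCharacter.multiset_sum fun ψ hψ =>
    IsIrrCharacter.isCharacter (hm ψ (Multiset.mem_cons_of_mem hψ))

theorem IsCharacter.apply_one_le_of_constituent [Fintype G] {Φ χ : G → ℂ} (hΦ : IsCharacter G Φ)
    (hχ : IsIrrCharacter G χ) (h : classInner Φ χ ≠ 0) : (χ 1).re ≤ (Φ 1).re := by
  obtain ⟨k, hk⟩ := IsCharacter.apply_one (IsCharacter.sub_constituent hΦ hχ h)
  have : Φ 1 = χ 1 + k := by
    rw [← hk]; simp
  rw [this]
  simp

end Cfsg.Agent.Lib.Helper2_CharDeg
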