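import Mathlib
import Cfsg.Prelude.Def_Characters
import Cfsg.Agent.Lib.Helper2_ClassFn
import Cfsg.Agent.Lib.Helper2_CharBasic
import Cfsg.Agent.Lib.Helper2_CharOrtho
import Cfsg.Agent.Lib.Helper2_CharMore
import Cfsg.Agent.Lib.Helper2_CharComplete

set_option autoImplicit false

/-!
# Second orthogonality relation and Brauer's permutation lemma (counting form)
-/

namespace Cfsg.Agent.Lib.Helper2_CharTable

open Cfsg
open Cfsg.Agent.Lib.Helper2_ClassFn
open Cfsg.Agent.Lib.Helper2_CharBasic
open Cfsg.Agent.Lib.Helper2_CharOrtho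
open Cfsg.Agent.Lib.Helper2_CharMore
open Cfsg.Agent.Lib.Helper2_CharComplete
open scoped ComplexConjugate ComplexOrder

universe u

variable {G : Type u} [Group G] [Fintype G]

open Classical in
/-- indicator of the conjugacy class of `h` -/
noncomputable def classInd (h : G) : G → ℂ := fun x => if IsConj x h then 1 else 0

theorem classInd_isClassFunction (h : G) : IsClassFunction G (classInd h) := by
  intro g x
  unfold classInd
  have : IsConj (x * g * x⁻¹) h ↔ IsConj g h := by
    constructor
    · intro hc
      exact (isConj_iff.mpr ⟨x, rfl⟩ : IsConj g (x * g * x⁻¹)).trans hc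
    · intro hc
      exact (isConj_iff.mpr ⟨x, rfl⟩ : IsConj g (x * g * x⁻¹)).symm.trans hc
  classical
  by_cases hc : IsConj g h
  · rw [if_pos hc, if_pos (this.mpr hc)]
  · rw [if_neg hc, if_neg (fun h' => hc (this.mp h'))]

open Classical in
theorem classInner_classInd (h : G) (χ : G → ℂ) (hχ : IsClassFunction G χ) :
    classInner (classInd h) χ = (Nat.card G : ℂ)⁻¹ *
      ((Finset.univ.filter (fun x : G => IsConj x h)).card : ℂ) * conj (χ h) := by
  rw [classInner_def, mul_assoc]
  congr 1
  unfold classInd
  simp only [ite_mul, one_mul, zero_mul]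
  rw [← Finset.sum_filter, Finset.sum_congr rfl (g := fun _ => conj (χ h)), Finset.sum_const,
    nsmul_eq_mul]
  intro x hx
  obtain ⟨c, hc⟩ := isConj_iff.mp (Finset.mem_filter.mp hx).2
  rw [← hc, hχ x c]

open Classical in
/-- **Second orthogonality relation.** -/
theorem second_orthogonality (g h : G) :
    ∑ χ ∈ irrFinset G, χ g * conj (χ h)
      = if IsConj g h then (Nat.card G : ℂ) /
          ((Finset.univ.filter (fun x : G => IsConj x h)).card : ℂ) else 0 := by
  have hexp := congrFun (IsClassFunction.expansion (classInd_isClassFunction h)) g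
  simp only [Finset.sum_apply, Pi.smul_apply, smul_eq_mul] at hexp
  have hcard : ((Finset.univ.filter (fun x : G => IsConj x h)).card : ℂ) ≠ 0 := by
    have : 0 < (Finset.univ.filter (fun x : G => IsConj x h)).card :=
      Finset.card_pos.mpr ⟨h, Finset.mem_filter.mpr ⟨Finset.mem_univ _, IsConj.refl h⟩⟩
    exact_mod_cast this.ne'
  have h1 : classInd h g = (Nat.card G : ℂ)⁻¹ *
      ((Finset.univ.filter (fun x : G => IsConj x h)).card : ℂ) *
      ∑ χ ∈ irrFinset G, χ g * conj (χ h) := by
    rw [hexp, Finset.mul_sum]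
    refine Finset.sum_congr rfl fun χ hχ => ?_
    rw [classInner_classInd h χ (IsCharacter.isClassFunction
      (IsIrrCharacter.isCharacter (mem_irrFinset.mp hχ)))]
    ring
  have hG := card_ne_zero_complex (G := G)
  have h2 : ∑ χ ∈ irrFinset G, χ g * conj (χ h) = (Nat.card G : ℂ) /
      ((Finset.univ.filter (fun x : G => IsConj x h)).card : ℂ) * classInd h g := by
    rw [h1]; field_simp
  rw [h2]
  unfold classInd
  split_ifs <;> simp

open Classical in
/-- **Brauer's permutation lemma**, counting form: the number of irreducible characters fixed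
by an automorphism `σ`, as a sum over group elements. -/
theorem card_fixed_irr (σ : G ≃* G) :
    ((Finset.filter (fun χ : G → ℂ => (fun x => χ (σ x)) = χ) (irrFinset G)).card : ℂ)
      = (Nat.card G : ℂ)⁻¹ * ∑ g : G, (if IsConj (σ g) g then (Nat.card G : ℂ) /
          ((Finset.univ.filter (fun x : G => IsConj x g)).card : ℂ) else 0) := by
  have h1 : ∀ χ ∈ irrFinset G, classInner (fun x => χ (σ x)) χ
      = if (fun x => χ (σ x)) = χ then 1 else 0 := by
    intro χ hχ
    exact classInner_irr (IsIrrCharacter.comp_mulEquiv (mem_irrFinset.mp hχ) σ)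
      (mem_irrFinset.mp hχ)
  have h2 : ((Finset.filter (fun χ : G → ℂ => (fun x => χ (σ x)) = χ) (irrFinset G)).card : ℂ)
      = ∑ χ ∈ irrFinset G, classInner (fun x => χ (σ x)) χ := by
    rw [Finset.sum_congr rfl h1, Finset.sum_ite, Finset.sum_const_zero, add_zero,
      Finset.sum_const, nsmul_eq_mul, mul_one]
  rw [h2]
  simp only [classInner_def]
  rw [← Finset.mul_sum, Finset.sum_comm]
  congr 1
  refine Finset.sum_congr rfl fun g _ => ?_
  exact second_orthogonality (σ g) g

end Cfsg.Agent.Lib.Helper2_CharTable
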