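import Mathlib
import Cfsg.Prelude.Def_Characters
import Cfsg.Agent.Lib.Helper2_ClassFn
import Cfsg.Agent.Lib.Helper2_CharBasic
import Cfsg.Agent.Lib.Helper2_CharOrtho
import Cfsg.Agent.Lib.Helper2_CharComplete
import Cfsg.Agent.Lib.Helper2_CharTable

set_option autoImplicit false

/-!
# Finsums over `IrrCharacter G`, centralizer form of the second orthogonality relation
-/

namespace Cfsg.Agent.Lib.Helper2_CharSum

open Cfsg
open Cfsg.Agent.Lib.Helper2_ClassFn
open Cfsg.Agent.Lib.Helper2_CharBasic
open Cfsg.Agent.Lib.Helper2_CharOrtho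
open Cfsg.Agent.Lib.Helper2_CharComplete
open Cfsg.Agent.Lib.Helper2_CharTable
open scoped ComplexConjugate ComplexOrder

universe u

variable {G : Type u} [Group G] [Fintype G]

/-- A `finsum` over the subtype of irreducible characters is a sum over `irrFinset G`. -/
theorem finsum_irr_eq_sum {M : Type*} [AddCommMonoid M] (F : (G → ℂ) → M) :
    ∑ᶠ χ : IrrCharacter G, F (χ : G → ℂ) = ∑ ψ ∈ irrFinset G, F ψ := by
  change ∑ᶠ χ : ↥(irrSet G), F (χ : G → ℂ) = _
  rw [finsum_set_coe_eq_finsum_mem (s := irrSet G) (f := F),
    finsum_mem_eq_finite_toFinset_sum _ irrSet_finite]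
  rfl

instance : Finite (IrrCharacter G) := irrSet_finite (G := G)

theorem card_irr : Nat.card (IrrCharacter G) = (irrFinset G).card := by
  change Nat.card ↥(irrSet G) = _
  rw [Nat.card_coe_set_eq, Set.ncard_eq_toFinset_card _ irrSet_finite]
  rfl

open Classical in
/-- size of a conjugacy class -/
theorem card_class_mul_card_centralizer (g : G) :
    (Finset.univ.filter (fun x : G => IsConj x g)).card
      * Nat.card (Subgroup.centralizer ({g} : Set G)) = Nat.card G := by
  have h1 : (Finset.univ.filter (fun x : G => IsConj x g)).card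
      = Nat.card (MulAction.orbit (ConjAct G) g) := by
    rw [Nat.card_eq_fintype_card, ← Set.toFinset_card]
    congr 1
    ext x
    simp only [Finset.mem_filter, Finset.mem_univ, true_and, Set.mem_toFinset]
    rw [ConjAct.mem_orbit_conjAct]
  have h2 := MulAction.card_orbit_mul_card_stabilizer_eq_card_group (ConjAct G) g
  rw [← Nat.card_eq_fintype_card, ← Nat.card_eq_fintype_card, ← Nat.card_eq_fintype_card] at h2
  rw [h1]
  have h3 : Nat.card (MulAction.stabilizer (ConjAct G) g)
      = Nat.card (Subgroup.centralizer ({g} : Set G)) := by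
    rw [ConjAct.stabilizer_eq_centralizer]
    rfl
  have h4 : Nat.card (ConjAct G) = Nat.card G := rfl
  rw [← h3, ← h4]
  exact h2

open Classical in
/-- **Second orthogonality**, centralizer form. -/
theorem second_orthogonality' (g h : G) :
    ∑ χ ∈ irrFinset G, χ g * conj (χ h)
      = if IsConj g h then (Nat.card (Subgroup.centralizer ({g} : Set G)) : ℂ) else 0 := by
  rw [second_orthogonality]
  split_ifs with hc
  · have h1 := card_class_mul_card_centralizer h
    have h2 : Nat.card (Subgroup.centralizer ({g} : Set G))
        = Nat.card (Subgroup.centralizer ({h} : Set G)) := by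
      obtain ⟨c, rfl⟩ := isConj_iff.mp hc
      have h3 := card_class_mul_card_centralizer g
      have h4 := card_class_mul_card_centralizer (c * g * c⁻¹)
      have h5 : (Finset.univ.filter (fun x : G => IsConj x (c * g * c⁻¹)))
          = (Finset.univ.filter (fun x : G => IsConj x g)) := by
        ext x
        simp only [Finset.mem_filter, Finset.mem_univ, true_and]
        constructor
        · intro hx; exact hx.trans hc.symm
        · intro hx; exact hx.trans hc
      rw [h5] at h4
      have hpos : 0 < (Finset.univ.filter (fun x : G => IsConj x g)).card :=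
        Finset.card_pos.mpr ⟨g, Finset.mem_filter.mpr ⟨Finset.mem_univ _, IsConj.refl g⟩⟩
      exact Nat.eq_of_mul_eq_mul_left hpos (h3.trans h4.symm)
    rw [h2, ← h1]
    have hpos : ((Finset.univ.filter (fun x : G => IsConj x h)).card : ℂ) ≠ 0 := by
      have : 0 < (Finset.univ.filter (fun x : G => IsConj x h)).card :=
        Finset.card_pos.mpr ⟨h, Finset.mem_filter.mpr ⟨Finset.mem_univ _, IsConj.refl h⟩⟩
      exact_mod_cast this.ne'
    push_cast
    field_simp
  · rfl

end Cfsg.Agent.Lib.Helper2_CharSum
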