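import Mathlib
import Cfsg.Prelude.Def_Characters
import Cfsg.Agent.Lib.Helper2_ClassFn
import Cfsg.Agent.Lib.Helper2_CharBasic
import Cfsg.Agent.Lib.Helper2_CharOrtho
import Cfsg.Agent.Lib.Helper2_Clifford
import Cfsg.Agent.Lib.Helper2_CharMore
import Cfsg.Agent.Lib.Helper2_CharComplete
import Cfsg.Agent.Lib.Helper2_CharInd
import Cfsg.Agent.Lib.Helper2_CharDeg

set_option autoImplicit false

/-!
# Clifford's theorem for characters, and more on conjugate class functions
-/

namespace Cfsg.Agent.Lib.Helper2_CharExtra

open Cfsg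
open Cfsg.Agent.Lib.Helper2_ClassFn
open Cfsg.Agent.Lib.Helper2_CharBasic
open Cfsg.Agent.Lib.Helper2_CharOrtho
open Cfsg.Agent.Lib.Helper2_Clifford
open Cfsg.Agent.Lib.Helper2_CharMore
open Cfsg.Agent.Lib.Helper2_CharComplete
open Cfsg.Agent.Lib.Helper2_CharInd
open Cfsg.Agent.Lib.Helper2_CharDeg
open scoped ComplexConjugate

universe u

variable {G : Type u} [Group G]

/-- The complex conjugate of an induced function is induced from the conjugate. -/
theorem indFun_conj [Fintype G] (H : Subgroup G) (θ : H → ℂ) :
    (fun g => conj (indFun H θ g)) = indFun H (fun h => conj (θ h)) := by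
  ext g
  rw [indFun_apply, indFun_apply, map_mul, map_sum]
  congr 1
  · rw [map_inv₀, Complex.conj_natCast]
  · refine Finset.sum_congr rfl fun x _ => ?_
    by_cases hy : x⁻¹ * g * x ∈ H
    · rw [extendByZero_of_mem H _ hy, extendByZero_of_mem H _ hy]
    · rw [extendByZero_of_not_mem H _ hy, extendByZero_of_not_mem H _ hy, map_zero]

/-- Restriction to a normal subgroup of an induced function is the averaged sum of conjugates. -/
theorem restrict_indFun_normal [Fintype G] (H : Subgroup G) [hN : H.Normal]
    (θ : H → ℂ) :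
    (fun h : H => indFun H θ h) = (Nat.card H : ℂ)⁻¹ • ∑ x : G, conjFn H θ x⁻¹ := by
  ext h
  rw [indFun_apply_of_normal, Pi.smul_apply, Finset.sum_apply, smul_eq_mul]
  congr 1
  refine Finset.sum_congr rfl fun x _ => ?_
  rw [conjFn_apply]
  congr 1
  apply Subtype.ext
  simp

theorem conjFn_pow_of_stab (H : Subgroup G) [hN : H.Normal]
    (θ : H → ℂ) (x : G) (hx : conjFn H θ x = θ) (n : ℕ) : conjFn H θ (x ^ n) = θ := by
  induction n with
  | zero => rw [pow_zero, conjFn_one]
  | succ k ih => rw [pow_succ, conjFn_mul, ih, hx]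

theorem conjFn_conj (H : Subgroup G) [hN : H.Normal]
    (θ : H → ℂ) (x : G) :
    conjFn H (fun h => conj (θ h)) x = fun h => conj (conjFn H θ x h) := rfl

/-- The inner product on a normal subgroup is invariant under simultaneous conjugation. -/
theorem classInner_conjFn_conjFn (H : Subgroup G) [hN : H.Normal] [Fintype H] (α β : H → ℂ)
    (g : G) : classInner (conjFn H α g) (conjFn H β g) = classInner α β := by
  rw [classInner_def, classInner_def]
  congr 1
  rw [conjFn_eq_comp, conjFn_eq_comp]
  exact Fintype.sum_equiv (MulAut.conjNormal g : H ≃* H).toEquiv _ _ (fun _ => rfl)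

/-- The restriction of a class function to a normal subgroup is invariant under conjugation. -/
theorem conjFn_restrict (H : Subgroup G) [hN : H.Normal] {θ : G → ℂ}
    (hθ : IsClassFunction G θ) (g : G) : conjFn H (fun h : H => θ h) g = fun h : H => θ h := by
  ext h
  rw [conjFn_apply]
  exact hθ h g

theorem classInner_restrict_conjFn (H : Subgroup G) [hN : H.Normal] [Fintype H] {θ : G → ℂ}
    (hθ : IsClassFunction G θ) (ψ : H → ℂ) (g : G) :
    classInner (fun h : H => θ h) (conjFn H ψ g) = classInner (fun h : H => θ h) ψ := by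
  conv_lhs => rw [← conjFn_restrict H hθ g]
  exact classInner_conjFn_conjFn H _ ψ g

/-- **Clifford**: an irreducible constituent of the restriction of an irreducible character `θ`
to a normal subgroup is conjugate to any given constituent `χ`. -/
theorem clifford_conj_of_constituent [Fintype G] (N : Subgroup G) [hN : N.Normal] [Fintype N]
    {θ : G → ℂ} (hθ : IsIrrCharacter G θ) {χ ψ : N → ℂ} (hχ : IsIrrCharacter N χ)
    (hψ : IsIrrCharacter N ψ) (hconst : classInner (fun n : N => θ n) χ ≠ 0)
    (hconst' : classInner (fun n : N => θ n) ψ ≠ 0) : ∃ g : G, ψ = conjFn N χ g := by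
  classical
  by_contra hcon
  push Not at hcon
  have hθc : IsCharacter G θ := IsIrrCharacter.isCharacter hθ
  have hΦ : IsCharacter G (indFun N χ) := IsCharacter.indFun (IsIrrCharacter.isCharacter hχ)
  have hne : classInner (indFun N χ) θ ≠ 0 := by
    rw [frobenius_reciprocity N χ θ (IsCharacter.isClassFunction hθc), ← classInner_conj_symm]
    simpa using hconst
  have hΔ : IsCharacter G (indFun N χ - θ) := IsCharacter.sub_constituent hΦ hθ hne
  have hΔN : IsCharacter N (fun n : N => (indFun N χ - θ) n) := IsCharacter.restrict hΔ N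
  obtain ⟨a, ha⟩ := IsCharacter.classInner_irr_nat (IsCharacter.restrict hθc N) hψ
  obtain ⟨b, hb⟩ := IsCharacter.classInner_irr_nat hΔN hψ
  have hsum : (fun n : N => indFun N χ n)
      = (fun n : N => θ n) + (fun n : N => (indFun N χ - θ) n) := by
    ext n
    simp
  have h1 : classInner (fun n : N => indFun N χ n) ψ = (a : ℂ) + b := by
    rw [hsum, classInner_add_left, ha, hb]
  have h2 : classInner (fun n : N => indFun N χ n) ψ = 0 := by
    rw [restrict_indFun_normal, classInner_smul_left, classInner_sum_left]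
    have : ∀ x : G, classInner (conjFn N χ x⁻¹) ψ = 0 := by
      intro x
      exact classInner_irr_of_ne (IsIrrCharacter.conjFn hχ x⁻¹) hψ (fun h => hcon x⁻¹ h.symm)
    simp [this]
  rw [h1] at h2
  have ha0 : a ≠ 0 := by
    intro h0
    rw [h0] at ha
    exact hconst' (by simpa using ha)
  have : (a + b : ℕ) = 0 := by exact_mod_cast h2
  omega

/-- **Clifford's theorem** for characters, finset form. -/
theorem clifford [Fintype G] (N : Subgroup G) [hN : N.Normal] [Fintype N]
    {θ : G → ℂ} (hθ : IsIrrCharacter G θ) {χ : N → ℂ} (hχ : IsIrrCharacter N χ)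
    (hconst : classInner (fun n : N => θ n) χ ≠ 0) [DecidableEq (N → ℂ)] :
    (fun n : N => θ n)
      = classInner (fun n : N => θ n) χ • ∑ ψ ∈ Finset.univ.image (conjFn N χ), ψ := by
  classical
  have hθc : IsCharacter G θ := IsIrrCharacter.isCharacter hθ
  have hR : IsCharacter N (fun n : N => θ n) := IsCharacter.restrict hθc N
  have hexp := expansion_of_mem_span (IsCharacter.mem_span hR)
  have hsub : Finset.univ.image (conjFn N χ) ⊆ irrFinset N := by
    intro ψ hψ
    obtain ⟨g, -, rfl⟩ := Finset.mem_image.mp hψ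
    exact mem_irrFinset.mpr (IsIrrCharacter.conjFn hχ g)
  rw [← Finset.sum_subset hsub] at hexp
  · conv_lhs => rw [hexp]
    rw [Finset.smul_sum]
    refine Finset.sum_congr rfl fun ψ hψ => ?_
    obtain ⟨g, -, rfl⟩ := Finset.mem_image.mp hψ
    rw [classInner_restrict_conjFn N (IsCharacter.isClassFunction hθc)]
  · intro ψ hψ hnot
    by_contra hne
    have hne' : classInner (fun n : N => θ n) ψ ≠ 0 := by
      intro h0
      apply hne
      rw [h0, zero_smul]
    obtain ⟨g, hg⟩ := clifford_conj_of_constituent N hθ hχ (mem_irrFinset.mp hψ) hconst hne'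
    exact hnot (Finset.mem_image.mpr ⟨g, Finset.mem_univ _, hg.symm⟩)

end Cfsg.Agent.Lib.Helper2_CharExtra
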