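import Mathlib
import Cfsg.Prelude.Def_Characters
import Cfsg.Agent.Lib.Helper2_ClassFn
import Cfsg.Agent.Lib.Helper2_CharBasic
import Cfsg.Agent.Lib.Helper2_CharOrtho
import Cfsg.Agent.Lib.Helper2_Clifford
import Cfsg.Agent.Lib.Helper2_CharMore
import Cfsg.Agent.Lib.Helper2_CharComplete
import Cfsg.Agent.Lib.Helper2_CharInd
import Cfsg.Agent.Lib.Helper2_CharDeg
import Cfsg.Agent.Lib.Helper2_CharExtra

set_option autoImplicit false

/-!
# The Clifford correspondence
-/

namespace Cfsg.Agent.Lib.Helper2_CliffordCorr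

open Cfsg
open Cfsg.Agent.Lib.Helper2_ClassFn
open Cfsg.Agent.Lib.Helper2_CharBasic
open Cfsg.Agent.Lib.Helper2_CharOrtho
open Cfsg.Agent.Lib.Helper2_Clifford
open Cfsg.Agent.Lib.Helper2_CharMore
open Cfsg.Agent.Lib.Helper2_CharComplete
open Cfsg.Agent.Lib.Helper2_CharInd
open Cfsg.Agent.Lib.Helper2_CharDeg
open Cfsg.Agent.Lib.Helper2_CharExtra
open scoped ComplexConjugate

universe u

variable {G : Type u} [Group G]

/-- A character of degree zero is zero. -/
theorem IsCharacter.eq_zero_of_apply_one {χ : G → ℂ} (h : IsCharacter G χ) (h1 : χ 1 = 0) :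
    χ = 0 := by
  obtain ⟨n, ρ, rfl⟩ := h
  rw [Representation.char_one] at h1
  simp only [Module.finrank_fintype_fun_eq_card, Fintype.card_fin] at h1
  have hn : n = 0 := by exact_mod_cast h1
  subst hn
  ext g
  unfold Representation.character
  have : ρ g = 0 := Subsingleton.elim _ _
  rw [this, map_zero]
  rfl

/-- Restriction of an irreducible character to a normal subgroup, over an invariant irreducible
character `θ`, is a multiple of `θ`. -/
theorem restrict_eq_smul_of_invariant [Fintype G] (N : Subgroup G) [hN : N.Normal] [Fintype N]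
    {ψ : G → ℂ} (hψ : IsIrrCharacter G ψ) {θ : N → ℂ} (hθ : IsIrrCharacter N θ)
    (hinv : ∀ g : G, conjFn N θ g = θ) (hconst : classInner (fun n : N => ψ n) θ ≠ 0) :
    (fun n : N => ψ n) = classInner (fun n : N => ψ n) θ • θ := by
  classical
  have h := clifford N hψ hθ hconst
  have himg : Finset.univ.image (conjFn N θ) = {θ} := by
    ext φ
    simp only [Finset.mem_image, Finset.mem_univ, true_and, Finset.mem_singleton]
    constructor
    · rintro ⟨g, rfl⟩; exact hinv g
    · rintro rfl; exact ⟨1, hinv 1⟩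
  rw [himg, Finset.sum_singleton] at h
  exact h

section Corr

variable [Fintype G] (H T : Subgroup G) [hN : H.Normal] [Fintype T] [Fintype H]

omit [Fintype ↥H] in
/-- the number of conjugates of `θ` is the index of the inertia group -/
theorem card_image_conjFn {θ : H → ℂ}
    (hT : ∀ g : G, g ∈ T ↔ ∀ h : H, θ ⟨g * h * g⁻¹, hN.conj_mem h h.2 g⟩ = θ h)
    [DecidableEq (H → ℂ)] :
    (Finset.univ.image (conjFn H θ)).card = T.index := by
  classical
  have h := sum_conjFn H θ (fun _ => (1 : ℕ))
  simp only [Finset.sum_const, Finset.card_univ, smul_eq_mul, mul_one] at h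
  have hstab : (Finset.univ.filter (fun x : G => conjFn H θ x = θ)).card = Nat.card T := by
    rw [Nat.card_eq_fintype_card, ← Fintype.card_subtype]
    apply Fintype.card_congr
    refine Equiv.subtypeEquivRight fun g => ?_
    rw [hT g]
    constructor
    · intro hg h
      exact congrFun hg h
    · intro hg
      ext h
      exact hg h
  have h' : Fintype.card G = Nat.card T * (Finset.univ.image (conjFn H θ)).card := by
    rw [← hstab]
    convert h using 3
    · ext x
      simp only [Finset.mem_filter, Finset.mem_univ, true_and]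
    · ext x
      simp only [Finset.mem_image, Finset.mem_univ, true_and]
  have hidx := Subgroup.card_mul_index T
  rw [Nat.card_eq_fintype_card (α := G)] at hidx
  rw [h'] at hidx
  have hpos : 0 < Nat.card T := Nat.card_pos
  exact (Nat.eq_of_mul_eq_mul_left hpos hidx).symm

/-- **Clifford correspondence**, irreducibility part. -/
theorem clifford_corr {θ : H → ℂ} (hθ : IsIrrCharacter H θ)
    (hT : ∀ g : G, g ∈ T ↔ ∀ h : H, θ ⟨g * h * g⁻¹, hN.conj_mem h h.2 g⟩ = θ h) (hHT : H ≤ T)
    {ψ : T → ℂ} (hψ : IsIrrCharacter T ψ) (f : ℂ) (hf : f ≠ 0)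
    (hres : (fun h : H => ψ ⟨h, hHT h.2⟩) = f • θ) :
    IsIrrCharacter G (indFun T ψ) ∧ classInner (fun h : H => indFun T ψ h) θ = f := by
  classical
  set Φ := indFun T ψ with hΦdef
  have hψc := IsIrrCharacter.isCharacter hψ
  have hθc := IsIrrCharacter.isCharacter hθ
  have hΦ : IsCharacter G Φ := IsCharacter.indFun hψc
  obtain ⟨d, hd0, hd⟩ := IsIrrCharacter.apply_one hθ
  have hψ1 : ψ 1 = f * d := by
    have := congrFun hres 1
    simp only [Pi.smul_apply, smul_eq_mul, hd] at this
    rw [← this]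
    rfl
  have hΦ1 : Φ 1 = (T.index : ℂ) * (f * d) := by
    rw [hΦdef, indFun_one, hψ1]
  have hidx : (T.index : ℂ) ≠ 0 := by
    have : T.index ≠ 0 := Subgroup.index_ne_zero_of_finite
    exact_mod_cast this
  have hd' : (d : ℂ) ≠ 0 := by exact_mod_cast hd0.ne'
  have hΦ0 : Φ ≠ 0 := by
    intro h0
    have := congrFun h0 1
    rw [hΦ1] at this
    simp only [Pi.zero_apply, mul_eq_zero] at this
    rcases this with h | h | h
    · exact hidx h
    · exact hf h
    · exact hd' h
  obtain ⟨χ, hχ, k, hk0, hk⟩ := IsCharacter.exists_constituent hΦ hΦ0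
  have hχc := IsIrrCharacter.isCharacter hχ
  have hχcf := IsCharacter.isClassFunction hχc
  -- ψ is a constituent of χ restricted to T
  have hne : classInner (fun t : T => χ t) ψ ≠ 0 := by
    have h1 := frobenius_reciprocity T ψ χ hχcf
    rw [← hΦdef, hk] at h1
    rw [← classInner_conj_symm, ← h1]
    simp only [map_natCast]
    exact_mod_cast hk0.ne'
  have hΔ : IsCharacter T ((fun t : T => χ t) - ψ) :=
    IsCharacter.sub_constituent (IsCharacter.restrict hχc T) hψ hne
  have hΔH : IsCharacter H (fun h : H => ((fun t : T => χ t) - ψ) (Subgroup.inclusion hHT h)) :=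
    IsCharacter.comp_hom hΔ (Subgroup.inclusion hHT)
  obtain ⟨b, hb⟩ := IsCharacter.classInner_irr_nat hΔH hθ
  have hsplit : (fun h : H => χ h) = f • θ
      + (fun h : H => ((fun t : T => χ t) - ψ) (Subgroup.inclusion hHT h)) := by
    rw [← hres]
    ext h
    simp only [Pi.add_apply, Pi.sub_apply]
    have : ψ (Subgroup.inclusion hHT h) = ψ ⟨h, hHT h.2⟩ := rfl
    rw [this]
    have : ((Subgroup.inclusion hHT h : T) : G) = h := rfl
    rw [this]
    ring
  have he : classInner (fun h : H => χ h) θ = f + b := by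
    rw [hsplit, classInner_add_left, classInner_smul_left, classInner_irr_self hθ, mul_one, hb]
  -- f is a natural number
  obtain ⟨f', hf'⟩ := IsCharacter.classInner_irr_nat
    (IsCharacter.comp_hom hψc (Subgroup.inclusion hHT)) hθ
  have hff' : f = f' := by
    rw [← hf']
    have : (fun h : H => ψ (Subgroup.inclusion hHT h)) = f • θ := hres
    rw [this, classInner_smul_left, classInner_irr_self hθ, mul_one]
  have hf'0 : f' ≠ 0 := by
    intro h0
    apply hf
    rw [hff', h0]; simp
  have he0 : classInner (fun h : H => χ h) θ ≠ 0 := by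
    rw [he, hff']
    have : f' + b ≠ 0 := by omega
    exact_mod_cast this
  -- Clifford
  have hcl := clifford H hχ hθ he0
  have hχ1 : χ 1 = (f + b) * ((T.index : ℂ) * d) := by
    have := congrFun hcl 1
    simp only [Pi.smul_apply, Finset.sum_apply, smul_eq_mul] at this
    have h1 : ∀ φ ∈ Finset.univ.image (conjFn H θ), φ 1 = (d : ℂ) := by
      intro φ hφ
      obtain ⟨g, -, rfl⟩ := Finset.mem_image.mp hφ
      rw [conjFn_apply, ← hd]
      congr 1
      apply Subtype.ext
      simp
    rw [Finset.sum_congr rfl h1, Finset.sum_const, card_image_conjFn H T hT, he] at this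
    have h2 : χ ((1 : H) : G) = χ 1 := rfl
    rw [h2] at this
    rw [this]
    simp
  -- compare degrees
  have hle := IsCharacter.apply_one_le_of_constituent hΦ hχ (by rw [hk]; exact_mod_cast hk0.ne')
  rw [hχ1, hΦ1, hff'] at hle
  have hle' : ((f' + b) * (T.index * d) : ℕ) ≤ (T.index * (f' * d) : ℕ) := by
    have h1 : (((f' : ℂ) + b) * ((T.index : ℂ) * d)).re = (((f' + b) * (T.index * d) : ℕ) : ℝ) := by
      rw [← Complex.natCast_re]
      push_cast
      rfl
    have h2 : ((T.index : ℂ) * ((f' : ℂ) * d)).re = ((T.index * (f' * d) : ℕ) : ℝ) := by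
      rw [← Complex.natCast_re]
      push_cast
      rfl
    rw [h1, h2] at hle
    exact_mod_cast hle
  have hb0 : b = 0 := by
    have hidx' : 0 < T.index := Nat.pos_of_ne_zero Subgroup.index_ne_zero_of_finite
    have hpos : 0 < T.index * d := Nat.mul_pos hidx' hd0
    by_contra hb
    have : T.index * (f' * d) < (f' + b) * (T.index * d) := by
      have hb' : 0 < b := Nat.pos_of_ne_zero hb
      calc T.index * (f' * d) = f' * (T.index * d) := by ring
        _ < f' * (T.index * d) + b * (T.index * d) := by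
            have := Nat.mul_pos hb' hpos
            omega
        _ = (f' + b) * (T.index * d) := by ring
    omega
  have hdeg : Φ 1 = χ 1 := by
    rw [hΦ1, hχ1, hb0]
    push_cast
    ring
  have hsub : IsCharacter G (Φ - χ) :=
    IsCharacter.sub_constituent hΦ hχ (by rw [hk]; exact_mod_cast hk0.ne')
  have hzero : Φ - χ = 0 := by
    apply IsCharacter.eq_zero_of_apply_one hsub
    simp [hdeg]
  have hΦχ : Φ = χ := sub_eq_zero.mp hzero
  refine ⟨hΦχ ▸ hχ, ?_⟩
  rw [hΦχ, he, hb0]
  simp

/-- **Clifford correspondence**, injectivity part. -/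
theorem clifford_corr_inj {θ : H → ℂ} (hθ : IsIrrCharacter H θ)
    (hT : ∀ g : G, g ∈ T ↔ ∀ h : H, θ ⟨g * h * g⁻¹, hN.conj_mem h h.2 g⟩ = θ h) (hHT : H ≤ T)
    {ψ ψ' : T → ℂ} (hψ : IsIrrCharacter T ψ) (hψ' : IsIrrCharacter T ψ') (f f' : ℂ) (hf : f ≠ 0)
    (hf' : f' ≠ 0)
    (hres : (fun h : H => ψ ⟨h, hHT h.2⟩) = f • θ)
    (hres' : (fun h : H => ψ' ⟨h, hHT h.2⟩) = f' • θ)
    (heq : indFun T ψ = indFun T ψ') : ψ = ψ' := by
  classical
  by_contra hne
  obtain ⟨hirr, hval⟩ := clifford_corr H T hθ hT hHT hψ f hf hres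
  set χ := indFun T ψ with hχdef
  have hχc := IsIrrCharacter.isCharacter hirr
  have hχcf := IsCharacter.isClassFunction hχc
  have h1 : classInner (fun t : T => χ t) ψ = 1 := by
    have h := frobenius_reciprocity T ψ χ hχcf
    rw [← hχdef, classInner_irr_self hirr] at h
    rw [← classInner_conj_symm, ← h, map_one]
  have h1' : classInner (fun t : T => χ t) ψ' = 1 := by
    have h := frobenius_reciprocity T ψ' χ hχcf
    rw [← heq, classInner_irr_self hirr] at h
    rw [← classInner_conj_symm, ← h, map_one]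
  have hΔ : IsCharacter T ((fun t : T => χ t) - ψ) :=
    IsCharacter.sub_constituent (IsCharacter.restrict hχc T) hψ (by rw [h1]; exact one_ne_zero)
  have hΔ' : IsCharacter T ((fun t : T => χ t) - ψ - ψ') := by
    apply IsCharacter.sub_constituent hΔ hψ'
    rw [classInner_sub_left, h1', classInner_irr_of_ne hψ hψ' hne, sub_zero]
    exact one_ne_zero
  have hΔH : IsCharacter H
      (fun h : H => ((fun t : T => χ t) - ψ - ψ') (Subgroup.inclusion hHT h)) :=
    IsCharacter.comp_hom hΔ' (Subgroup.inclusion hHT)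
  obtain ⟨b, hb⟩ := IsCharacter.classInner_irr_nat hΔH hθ
  have hsplit : (fun h : H => χ h) = f • θ + f' • θ
      + (fun h : H => ((fun t : T => χ t) - ψ - ψ') (Subgroup.inclusion hHT h)) := by
    rw [← hres, ← hres']
    ext h
    simp only [Pi.add_apply, Pi.sub_apply]
    have e1 : ψ (Subgroup.inclusion hHT h) = ψ ⟨h, hHT h.2⟩ := rfl
    have e2 : ψ' (Subgroup.inclusion hHT h) = ψ' ⟨h, hHT h.2⟩ := rfl
    have e3 : ((Subgroup.inclusion hHT h : T) : G) = h := rfl
    rw [e1, e2, e3]
    ring
  have he : classInner (fun h : H => χ h) θ = f + f' + b := by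
    rw [hsplit, classInner_add_left, classInner_add_left, classInner_smul_left,
      classInner_smul_left, classInner_irr_self hθ, mul_one, mul_one, hb]
  rw [hval] at he
  obtain ⟨n', hn'⟩ := IsCharacter.classInner_irr_nat
    (IsCharacter.comp_hom (IsIrrCharacter.isCharacter hψ') (Subgroup.inclusion hHT)) hθ
  have hfn : f' = n' := by
    rw [← hn']
    have : (fun h : H => ψ' (Subgroup.inclusion hHT h)) = f' • θ := hres'
    rw [this, classInner_smul_left, classInner_irr_self hθ, mul_one]
  have : (f' : ℂ) + b = 0 := by linear_combination -he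
  rw [hfn] at this
  have h0 : n' + b = 0 := by exact_mod_cast this
  apply hf'
  rw [hfn]
  have : n' = 0 := by omega
  rw [this]; simp

end Corr

section SubgroupOf

variable [Fintype G] (H T : Subgroup G) [hN : H.Normal] [Fintype T] [Fintype H]

omit [Fintype G] [Fintype ↥H] in
/-- From "`ψ` lies over `θ`" (phrased with `subgroupOf`) to "`ψ` restricted to `H` is a nonzero
multiple of `θ`", when `T` is the inertia group of `θ`. -/
theorem restrict_of_over {θ : H → ℂ} (hθ : IsIrrCharacter H θ)
    (hT : ∀ g : G, g ∈ T ↔ ∀ h : H, θ ⟨g * h * g⁻¹, hN.conj_mem h h.2 g⟩ = θ h) (hHT : H ≤ T)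
    {ψ : T → ℂ} (hψ : IsIrrCharacter T ψ)
    (hc : classInner (indFun (H.subgroupOf T)
      (fun x => θ ⟨(x : T), Subgroup.mem_subgroupOf.mp x.2⟩)) ψ ≠ 0) :
    ∃ f : ℂ, f ≠ 0 ∧ (fun h : H => ψ ⟨h, hHT h.2⟩) = f • θ := by
  classical
  set N' : Subgroup T := H.subgroupOf T with hN'
  set θ' : N' → ℂ := fun x => θ ⟨(x : T), Subgroup.mem_subgroupOf.mp x.2⟩ with hθ'
  have hθ'irr : IsIrrCharacter N' θ' :=
    IsIrrCharacter.comp_mulEquiv hθ (Subgroup.subgroupOfEquivOfLe hHT)
  have hψcf := IsCharacter.isClassFunction (IsIrrCharacter.isCharacter hψ)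
  have hne : classInner (fun n : N' => ψ n) θ' ≠ 0 := by
    rw [frobenius_reciprocity N' θ' ψ hψcf] at hc
    rw [← classInner_conj_symm]
    intro h0
    apply hc
    have := congrArg (starRingEnd ℂ) h0
    simpa using this
  have hinv : ∀ t : T, conjFn N' θ' t = θ' := by
    intro t
    ext x
    rw [conjFn_apply]
    have := (hT t).mp t.2 ⟨(x : T), Subgroup.mem_subgroupOf.mp x.2⟩
    exact this
  have hres := restrict_eq_smul_of_invariant N' hψ hθ'irr hinv hne
  refine ⟨_, hne, ?_⟩
  ext h
  have := congrFun hres ⟨⟨h, hHT h.2⟩, Subgroup.mem_subgroupOf.mpr h.2⟩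
  exact this

end SubgroupOf

end Cfsg.Agent.Lib.Helper2_CliffordCorr
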