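import Mathlib
import Cfsg.Prelude.Def_Characters
import Cfsg.Agent.Lib.Helper2_ClassFn
import Cfsg.Agent.Lib.Helper2_CharBasic
import Cfsg.Agent.Lib.Helper2_CharOrtho
import Cfsg.Agent.Lib.Helper2_Clifford
import Cfsg.Agent.Lib.Helper2_CharMore
import Cfsg.Agent.Lib.Helper2_CharComplete
import Cfsg.Agent.Lib.Helper2_CharInd
import Cfsg.Agent.Lib.Helper2_CharTable
import Cfsg.Agent.Lib.Helper2_CharSum
import Cfsg.Agent.Lib.Helper2_CharDeg
import Cfsg.Agent.Lib.Helper2_CharExtra
import Cfsg.Agent.Lib.Helper2_CharCentral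

set_option autoImplicit false

/-!
# Gallagher's theorem: characters over an extendible character
-/

namespace Cfsg.Agent.Lib.Helper2_Gallagher

open Cfsg
open Cfsg.Agent.Lib.Helper2_ClassFn
open Cfsg.Agent.Lib.Helper2_CharBasic
open Cfsg.Agent.Lib.Helper2_CharOrtho
open Cfsg.Agent.Lib.Helper2_Clifford
open Cfsg.Agent.Lib.Helper2_CharMore
open Cfsg.Agent.Lib.Helper2_CharComplete
open Cfsg.Agent.Lib.Helper2_CharInd
open Cfsg.Agent.Lib.Helper2_CharTable
open Cfsg.Agent.Lib.Helper2_CharSum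
open Cfsg.Agent.Lib.Helper2_CharDeg
open Cfsg.Agent.Lib.Helper2_CharExtra
open Cfsg.Agent.Lib.Helper2_CharCentral
open scoped ComplexConjugate

universe u

variable {G : Type u} [Group G]

/-- Inflation of a function on the quotient. -/
def infl (N : Subgroup G) (β : G ⧸ N → ℂ) : G → ℂ := fun g => β (g : G ⧸ N)

theorem infl_apply (N : Subgroup G) (β : G ⧸ N → ℂ) (g : G) : infl N β g = β (g : G ⧸ N) := rfl

theorem IsIrrCharacter.infl (N : Subgroup G) [N.Normal] {β : G ⧸ N → ℂ}
    (hβ : IsIrrCharacter (G ⧸ N) β) : IsIrrCharacter G (infl N β) :=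
  IsIrrCharacter.comp_surjective hβ (QuotientGroup.mk' N) (QuotientGroup.mk'_surjective N)

theorem IsCharacter.infl (N : Subgroup G) [N.Normal] {β : G ⧸ N → ℂ}
    (hβ : IsCharacter (G ⧸ N) β) : IsCharacter G (infl N β) :=
  IsCharacter.comp_hom hβ (QuotientGroup.mk' N)

section Main

variable [Fintype G] (N : Subgroup G) [hN : N.Normal] [Fintype N]

/-- The function induced from the restriction of a class function to a normal subgroup. -/
theorem indFun_res_eq [DecidablePred (· ∈ N)] {χ : G → ℂ} (hχ : IsClassFunction G χ) (g : G) :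
    indFun N (fun n : N => χ n) g = if g ∈ N then (N.index : ℂ) * χ g else 0 := by
  split_ifs with hg
  · have := indFun_apply_of_normal N (fun n : N => χ n) ⟨g, hg⟩
    simp only at this
    rw [this]
    simp only [IsClassFunction.inv_conj hχ, Finset.sum_const, Finset.card_univ, nsmul_eq_mul]
    have hc : (Fintype.card G : ℂ) = (Nat.card N : ℂ) * (N.index : ℂ) := by
      rw [← Nat.card_eq_fintype_card, ← N.card_mul_index]; push_cast; ring
    rw [hc]
    have := card_subgroup_ne_zero N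
    field_simp
  · exact indFun_apply_of_normal_of_not_mem N _ hg

/-- Inner product of the induced function with itself. -/
theorem ind_res_inner_self {χ : G → ℂ} (hχ : IsIrrCharacter G χ)
    (hχN : IsIrrCharacter N (fun n : N => χ n)) :
    classInner (indFun N (fun n : N => χ n)) (indFun N (fun n : N => χ n)) = (N.index : ℂ) := by
  classical
  have hχcf := IsCharacter.isClassFunction (IsIrrCharacter.isCharacter hχ)
  rw [frobenius_reciprocity N _ _ (indFun_isClassFunction N _)]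
  have h1 : (fun n : N => indFun N (fun n : N => χ n) n) = (N.index : ℂ) • (fun n : N => χ n) := by
    ext n
    rw [indFun_res_eq N hχcf, if_pos n.2]
    rfl
  rw [h1, classInner_smul_right, classInner_irr_self hχN]
  simp

variable [Fintype (G ⧸ N)]

/-- Gallagher decomposition of the induced character. -/
theorem gallagher_decomp {χ : G → ℂ} (hχ : IsClassFunction G χ) :
    indFun N (fun n : N => χ n) = ∑ β ∈ irrFinset (G ⧸ N), β 1 • (infl N β * χ) := by
  classical
  ext g
  rw [indFun_res_eq N hχ, Finset.sum_apply]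
  simp only [Pi.smul_apply, Pi.mul_apply, smul_eq_mul, infl_apply]
  have h1 := sum_irr_mul_deg ((g : G ⧸ N))
  have h2 : ∑ β ∈ irrFinset (G ⧸ N), β 1 * (β (g : G ⧸ N) * χ g)
      = (∑ β ∈ irrFinset (G ⧸ N), β (g : G ⧸ N) * β 1) * χ g := by
    rw [Finset.sum_mul]
    refine Finset.sum_congr rfl fun β _ => ?_
    ring
  rw [h2, h1]
  by_cases hg : g ∈ N
  · rw [if_pos hg, if_pos ((QuotientGroup.eq_one_iff g).mpr hg), ← Subgroup.index_eq_card]
  · rw [if_neg hg, if_neg (fun h => hg ((QuotientGroup.eq_one_iff g).mp h)), zero_mul]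

/-- **Gallagher's theorem**: for `χ` irreducible with irreducible restriction to `N`, the
characters `β χ` (`β ∈ Irr(G/N)`) are irreducible and pairwise distinct. -/
theorem gallagher {χ : G → ℂ} (hχ : IsIrrCharacter G χ)
    (hχN : IsIrrCharacter N (fun n : N => χ n)) {β β' : G ⧸ N → ℂ}
    (hβ : IsIrrCharacter (G ⧸ N) β) (hβ' : IsIrrCharacter (G ⧸ N) β') :
    classInner (infl N β * χ) (infl N β' * χ) = if β = β' then 1 else 0 := by
  classical
  have hχc := IsIrrCharacter.isCharacter hχ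
  have hχcf := IsCharacter.isClassFunction hχc
  set B := irrFinset (G ⧸ N) with hB
  have hchar : ∀ γ ∈ B, IsCharacter G (infl N γ * χ) := fun γ hγ =>
    IsCharacter.mul (IsCharacter.infl N (IsIrrCharacter.isCharacter (mem_irrFinset.mp hγ))) hχc
  -- natural number valued inner products and degrees
  have hc : ∀ γ ∈ B, ∀ γ' ∈ B, ∃ c : ℕ, classInner (infl N γ * χ) (infl N γ' * χ) = c :=
    fun γ hγ γ' hγ' => IsCharacter.classInner_nat (hchar γ hγ) (hchar γ' hγ')
  have hd : ∀ γ ∈ B, ∃ d : ℕ, 0 < d ∧ γ 1 = d := fun γ hγ =>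
    IsIrrCharacter.apply_one (mem_irrFinset.mp hγ)
  -- real-valued versions
  set c : (G ⧸ N → ℂ) → (G ⧸ N → ℂ) → ℝ :=
    fun γ γ' => (classInner (infl N γ * χ) (infl N γ' * χ)).re with hcdef
  set d : (G ⧸ N → ℂ) → ℝ := fun γ => (γ 1).re with hddef
  have hcv : ∀ γ ∈ B, ∀ γ' ∈ B, classInner (infl N γ * χ) (infl N γ' * χ) = (c γ γ' : ℂ) := by
    intro γ hγ γ' hγ'
    obtain ⟨k, hk⟩ := hc γ hγ γ' hγ'
    simp only [hcdef, hk, Complex.natCast_re, Complex.ofReal_natCast]
  have hdv : ∀ γ ∈ B, γ 1 = (d γ : ℂ) := by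
    intro γ hγ
    obtain ⟨k, -, hk⟩ := hd γ hγ
    simp only [hddef, hk, Complex.natCast_re, Complex.ofReal_natCast]
  have hdpos : ∀ γ ∈ B, 0 < d γ := by
    intro γ hγ
    obtain ⟨k, hk0, hk⟩ := hd γ hγ
    simp only [hddef, hk, Complex.natCast_re]
    exact_mod_cast hk0
  have hcnonneg : ∀ γ ∈ B, ∀ γ' ∈ B, 0 ≤ c γ γ' := by
    intro γ hγ γ' hγ'
    obtain ⟨k, hk⟩ := hc γ hγ γ' hγ'
    simp only [hcdef, hk, Complex.natCast_re]
    exact Nat.cast_nonneg k
  have hcdiag : ∀ γ ∈ B, 1 ≤ c γ γ := by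
    intro γ hγ
    obtain ⟨k, hk⟩ := hc γ hγ γ hγ
    simp only [hcdef, hk, Complex.natCast_re]
    have hk0 : k ≠ 0 := by
      intro h0
      rw [h0, Nat.cast_zero] at hk
      have h1 := classInner_self_eq_zero.mp hk
      have h2 := congrFun h1 1
      simp only [Pi.mul_apply, Pi.zero_apply, infl_apply] at h2
      rcases mul_eq_zero.mp h2 with h | h
      · exact IsIrrCharacter.apply_one_ne_zero (mem_irrFinset.mp hγ) (by simpa using h)
      · exact IsIrrCharacter.apply_one_ne_zero hχ h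
    exact_mod_cast Nat.one_le_iff_ne_zero.mpr hk0
  -- the key identity
  have hkey : ∑ γ ∈ B, ∑ γ' ∈ B, d γ * d γ' * c γ γ' = ∑ γ ∈ B, d γ * d γ := by
    have h1 := ind_res_inner_self N hχ hχN
    rw [gallagher_decomp N hχcf, classInner_sum_left] at h1
    simp_rw [classInner_sum_right, classInner_smul_left, classInner_smul_right] at h1
    have h2 : ∑ γ ∈ B, ∑ γ' ∈ B, γ 1 * (conj (γ' 1) * classInner (infl N γ * χ) (infl N γ' * χ))
        = ((∑ γ ∈ B, ∑ γ' ∈ B, d γ * d γ' * c γ γ' : ℝ) : ℂ) := by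
      push_cast
      refine Finset.sum_congr rfl fun γ hγ => Finset.sum_congr rfl fun γ' hγ' => ?_
      rw [hcv γ hγ γ' hγ', hdv γ hγ, hdv γ' hγ', Complex.conj_ofReal]
      ring
    rw [h2] at h1
    have h3 : (N.index : ℂ) = ((∑ γ ∈ B, d γ * d γ : ℝ) : ℂ) := by
      have h4 := sum_irr_mul_deg (1 : G ⧸ N)
      rw [if_pos rfl] at h4
      rw [Subgroup.index_eq_card, ← h4]
      push_cast
      refine Finset.sum_congr rfl fun γ hγ => ?_
      rw [hdv γ hγ]
    rw [h3] at h1
    exact_mod_cast h1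
  -- all the slack terms vanish
  have hslack : ∑ γ ∈ B, ∑ γ' ∈ B, d γ * d γ' * (c γ γ' - if γ = γ' then 1 else 0) = 0 := by
    have : ∀ γ ∈ B, ∑ γ' ∈ B, d γ * d γ' * (c γ γ' - if γ = γ' then 1 else 0)
        = (∑ γ' ∈ B, d γ * d γ' * c γ γ') - d γ * d γ := by
      intro γ hγ
      simp_rw [mul_sub]
      rw [Finset.sum_sub_distrib]
      congr 1
      simp [Finset.sum_ite_eq, hγ]
    rw [Finset.sum_congr rfl this, Finset.sum_sub_distrib, hkey, sub_self]
  have hterm_nonneg : ∀ γ ∈ B, ∀ γ' ∈ B,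
      0 ≤ d γ * d γ' * (c γ γ' - if γ = γ' then 1 else 0) := by
    intro γ hγ γ' hγ'
    apply mul_nonneg (mul_nonneg (hdpos γ hγ).le (hdpos γ' hγ').le)
    by_cases h : γ = γ'
    · subst h
      rw [if_pos rfl]
      linarith [hcdiag γ hγ]
    · rw [if_neg h, sub_zero]
      exact hcnonneg γ hγ γ' hγ'
  have hzero : ∀ γ ∈ B, ∀ γ' ∈ B, c γ γ' = if γ = γ' then 1 else 0 := by
    intro γ hγ γ' hγ'
    have h1 := (Finset.sum_eq_zero_iff_of_nonneg
      (fun γ hγ => Finset.sum_nonneg (fun γ' hγ' => hterm_nonneg γ hγ γ' hγ'))).mp hslack γ hγ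
    have h2 := (Finset.sum_eq_zero_iff_of_nonneg
      (fun γ' hγ' => hterm_nonneg γ hγ γ' hγ')).mp h1 γ' hγ'
    rcases mul_eq_zero.mp h2 with h | h
    · rcases mul_eq_zero.mp h with h | h
      · exact absurd h (hdpos γ hγ).ne'
      · exact absurd h (hdpos γ' hγ').ne'
    · linarith
  have hβm : β ∈ B := mem_irrFinset.mpr hβ
  have hβ'm : β' ∈ B := mem_irrFinset.mpr hβ'
  rw [hcv β hβm β' hβ'm, hzero β hβm β' hβ'm]
  split_ifs <;> simp

end Main

end Cfsg.Agent.Lib.Helper2_Gallagher
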