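import Mathlib
import Cfsg.Prelude.Def_Characters
import Cfsg.Agent.Lib.Helper2_ClassFn
import Cfsg.Agent.Lib.Helper2_CharBasic
import Cfsg.Agent.Lib.Helper2_CharOrtho
import Cfsg.Agent.Lib.Helper2_Clifford
import Cfsg.Agent.Lib.Helper2_CharMore
import Cfsg.Agent.Lib.Helper2_CharComplete
import Cfsg.Agent.Lib.Helper2_CharInd
import Cfsg.Agent.Lib.Helper2_CharDeg
import Cfsg.Agent.Lib.Helper2_CharExtra
import Cfsg.Agent.Lib.Helper2_CliffordCorr
import Cfsg.Agent.Lib.Helper2_CharCenter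
import Cfsg.Agent.S0154

set_option autoImplicit false

/-!
# Surjectivity of the Clifford correspondence, and Itô's theorem
-/

namespace Cfsg.Agent.Lib.Helper2_Ito

open Cfsg
open Cfsg.Agent.Lib.Helper2_ClassFn
open Cfsg.Agent.Lib.Helper2_CharBasic
open Cfsg.Agent.Lib.Helper2_CharOrtho
open Cfsg.Agent.Lib.Helper2_Clifford
open Cfsg.Agent.Lib.Helper2_CharMore
open Cfsg.Agent.Lib.Helper2_CharComplete
open Cfsg.Agent.Lib.Helper2_CharInd
open Cfsg.Agent.Lib.Helper2_CharDeg
open Cfsg.Agent.Lib.Helper2_CharExtra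
open Cfsg.Agent.Lib.Helper2_CliffordCorr
open Cfsg.Agent.Lib.Helper2_CharCenter
open scoped ComplexConjugate

universe u

variable {G : Type u} [Group G]

/-- Two characters with nonzero inner product share an irreducible constituent. -/
theorem exists_common_constituent [Fintype G] {α β : G → ℂ} (hα : IsCharacter G α)
    (h : classInner α β ≠ 0) :
    ∃ ψ, IsIrrCharacter G ψ ∧ classInner α ψ ≠ 0 ∧ classInner β ψ ≠ 0 := by
  classical
  have hexp := expansion_of_mem_span (IsCharacter.mem_span hα)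
  rw [hexp, classInner_sum_left] at h
  obtain ⟨ψ, hψ, hne⟩ := Finset.exists_ne_zero_of_sum_ne_zero h
  rw [classInner_smul_left] at hne
  refine ⟨ψ, mem_irrFinset.mp hψ, left_ne_zero_of_mul hne, ?_⟩
  have h2 := right_ne_zero_of_mul hne
  rw [← classInner_conj_symm]
  intro h0
  apply h2
  have := congrArg (starRingEnd ℂ) h0
  simpa using this

/-- The inertia group of a function on a normal subgroup. -/
def inertia (H : Subgroup G) [hN : H.Normal] (θ : H → ℂ) : Subgroup G where
  carrier := {g | conjFn H θ g = θ}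
  one_mem' := conjFn_one H θ
  mul_mem' := by
    intro a b ha hb
    simp only [Set.mem_ofPred_eq] at ha hb ⊢
    rw [conjFn_mul, ha, hb]
  inv_mem' := by
    intro a ha
    simp only [Set.mem_ofPred_eq] at ha ⊢
    have h1 : conjFn H θ (a * a⁻¹) = θ := by rw [mul_inv_cancel, conjFn_one]
    rw [conjFn_mul, ha] at h1
    exact h1

theorem mem_inertia (H : Subgroup G) [hN : H.Normal] (θ : H → ℂ) (g : G) :
    g ∈ inertia H θ ↔ ∀ h : H, θ ⟨g * h * g⁻¹, hN.conj_mem h h.2 g⟩ = θ h := by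
  change conjFn H θ g = θ ↔ _
  constructor
  · intro h x
    exact congrFun h x
  · intro h
    ext x
    exact h x

theorem le_inertia (H : Subgroup G) [hN : H.Normal] {θ : H → ℂ} (hθ : IsClassFunction H θ) :
    H ≤ inertia H θ := by
  intro x hx
  rw [mem_inertia]
  intro h
  have := hθ h ⟨x, hx⟩
  rw [← this]
  congr 1

section Surj

variable [Fintype G] (H T : Subgroup G) [hN : H.Normal] [Fintype T] [Fintype H]

/-- Surjectivity of the Clifford correspondence. -/
theorem clifford_corr_surj {θ : H → ℂ} (hθ : IsIrrCharacter H θ)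
    (hT : ∀ g : G, g ∈ T ↔ ∀ h : H, θ ⟨g * h * g⁻¹, hN.conj_mem h h.2 g⟩ = θ h) (hHT : H ≤ T)
    {χ : G → ℂ} (hχ : IsIrrCharacter G χ) (hc : classInner (fun h : H => χ h) θ ≠ 0) :
    ∃ (ψ : T → ℂ) (f : ℂ), IsIrrCharacter T ψ ∧ f ≠ 0 ∧
      (fun h : H => ψ ⟨h, hHT h.2⟩) = f • θ ∧ indFun T ψ = χ := by
  classical
  have hχc := IsIrrCharacter.isCharacter hχ
  have hχcf := IsCharacter.isClassFunction hχc
  set χT : T → ℂ := fun t : T => χ t with hχT
  have hχTc : IsCharacter T χT := IsCharacter.restrict hχc T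
  have hχTcf := IsCharacter.isClassFunction hχTc
  set N' : Subgroup T := H.subgroupOf T with hN'
  set θ' : N' → ℂ := fun x => θ ⟨(x : T), Subgroup.mem_subgroupOf.mp x.2⟩ with hθ'
  haveI : Fintype N' := Fintype.ofFinite _
  -- `[χ_T, Ind θ'] ≠ 0`
  have h1 : classInner χT (indFun N' θ') ≠ 0 := by
    rw [frobenius_reciprocity' N' θ' χT hχTcf]
    -- transport along `N' ≃ H`
    have : classInner (fun n : N' => χT n) θ' = classInner (fun h : H => χ h) θ := by
      rw [classInner_def, classInner_def]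
      have hcard : Nat.card N' = Nat.card H :=
        Nat.card_congr (Subgroup.subgroupOfEquivOfLe hHT).toEquiv
      rw [hcard]
      congr 1
      refine Fintype.sum_equiv (Subgroup.subgroupOfEquivOfLe hHT).toEquiv _ _ fun x => ?_
      rfl
    rw [this]
    exact hc
  obtain ⟨ψ, hψ, hψ1, hψ2⟩ := exists_common_constituent hχTc h1
  obtain ⟨f, hf, hres⟩ := restrict_of_over H T hθ hT hHT hψ hψ2
  obtain ⟨hirr, -⟩ := clifford_corr H T hθ hT hHT hψ f hf hres
  refine ⟨ψ, f, hψ, hf, hres, ?_⟩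
  by_contra hne
  have h0 := classInner_irr_of_ne hirr hχ hne
  rw [frobenius_reciprocity T ψ χ hχcf] at h0
  apply hψ1
  rw [← classInner_conj_symm, h0]
  simp

end Surj

/-- **Itô's theorem**: the degree of an irreducible character divides the index of an abelian
normal subgroup. -/
theorem ito [Finite G] {χ : G → ℂ} (hχ : IsIrrCharacter G χ) (H : Subgroup G) [hN : H.Normal]
    (hH : ∀ a ∈ H, ∀ b ∈ H, a * b = b * a) (n : ℕ) (hn : χ 1 = n) : n ∣ H.index := by
  classical
  haveI := Fintype.ofFinite G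
  have hχc := IsIrrCharacter.isCharacter hχ
  have hχH : IsCharacter H (fun h : H => χ h) := IsCharacter.restrict hχc H
  have hne : (fun h : H => χ h) ≠ 0 := by
    intro h0
    have := congrFun h0 1
    exact IsIrrCharacter.apply_one_ne_zero hχ this
  obtain ⟨lam, hlam, k, hk0, hk⟩ := IsCharacter.exists_constituent hχH hne
  have hlamcf := IsCharacter.isClassFunction (IsIrrCharacter.isCharacter hlam)
  set T := inertia H lam with hT
  have hHT : H ≤ T := le_inertia H hlamcf
  have hc : classInner (fun h : H => χ h) lam ≠ 0 := by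
    rw [hk]; exact_mod_cast hk0.ne'
  obtain ⟨ψ, f, hψ, hf, hres, hind⟩ := clifford_corr_surj H T hlam (mem_inertia H lam) hHT hχ hc
  -- `lam` is linear
  have hlam1 : lam 1 = 1 := IsIrrCharacter.apply_one_of_comm
    (fun a b => Subtype.ext (hH a a.2 b b.2)) hlam
  obtain ⟨ω, hω⟩ := Cfsg.Agent.S0154.exists_hom_of_degree_one lam hlam hlam1
  obtain ⟨m, hm0, hm⟩ := IsIrrCharacter.apply_one hψ
  -- `ψ(1)` divides `[T : H]`
  have h1 : m ∣ (H.subgroupOf T).index := by
    apply degree_dvd_index_of_commutator_ker hψ _ _ m hm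
    intro a ha t
    have haH : (a : G) ∈ H := Subgroup.mem_subgroupOf.mp ha
    have hcH : ((t : G) * (a : G)⁻¹ * (t : G)⁻¹) ∈ H := hN.conj_mem _ (H.inv_mem haH) t
    have hmem : ((a * t * a⁻¹ * t⁻¹ : T) : G) ∈ H := by
      have : ((a * t * a⁻¹ * t⁻¹ : T) : G) = (a : G) * ((t : G) * (a : G)⁻¹ * (t : G)⁻¹) := by
        push_cast; group
      rw [this]
      exact H.mul_mem haH hcH
    have hval : ∀ x : T, ∀ hx : (x : G) ∈ H, ψ x = f * lam ⟨x, hx⟩ := by
      intro x hx
      have := congrFun hres ⟨x, hx⟩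
      simpa using this
    rw [hval _ hmem, hval 1 (H.one_mem)]
    congr 1
    -- multiplicativity and invariance
    have hinv := (mem_inertia H lam t).mp t.2 ⟨(a : G)⁻¹, H.inv_mem haH⟩
    have e1 : (⟨((a * t * a⁻¹ * t⁻¹ : T) : G), hmem⟩ : H)
        = ⟨a, haH⟩ * ⟨(t : G) * (a : G)⁻¹ * (t : G)⁻¹, hcH⟩ := by
      ext
      push_cast
      group
    rw [e1, hω]
    simp only [map_mul, Units.val_mul]
    have e2 : ((ω ⟨(t : G) * (a : G)⁻¹ * (t : G)⁻¹, hcH⟩ : ℂˣ) : ℂ)
        = ((ω ⟨(a : G)⁻¹, H.inv_mem haH⟩ : ℂˣ) : ℂ) := by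
      have := hinv
      rw [hω] at this
      exact this
    rw [e2, ← Units.val_mul, ← map_mul]
    have e3 : (⟨(a : G), haH⟩ : H) * ⟨(a : G)⁻¹, H.inv_mem haH⟩ = 1 := by
      ext; simp
    rw [e3]
    have e4 : (⟨((1 : T) : G), H.one_mem⟩ : H) = 1 := rfl
    rw [e4]
  -- `χ(1) = [G:T] ψ(1)`
  have h2 : (n : ℂ) = (T.index : ℂ) * m := by
    rw [← hn, ← hind, indFun_one, hm]
  have h3 : n = T.index * m := by exact_mod_cast h2
  have h4 : H.relIndex T * T.index = H.index := Subgroup.relIndex_mul_index hHT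
  rw [h3, ← h4, mul_comm]
  exact Nat.mul_dvd_mul h1 (dvd_refl _)

end Cfsg.Agent.Lib.Helper2_Ito
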