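import Mathlib

set_option autoImplicit false

/-!
# Extending a linear character of a central subgroup, Sylow by Sylow
-/

namespace Cfsg.Agent.Lib.Helper2_CentralExt

variable {Q : Type*} [Group Q] [Finite Q]

/-- A linear character of a central subgroup `Z` that extends to subgroups of index prime to
`p`, for every prime `p`, is trivial on `Z ∩ Q'`. -/
theorem eq_one_of_mem_commutator (Z : Subgroup Q) (hZ : Z ≤ Subgroup.center Q) (lam : Z →* ℂˣ)
    (h : ∀ p : ℕ, p.Prime → ∃ (H : Subgroup Q) (hZH : Z ≤ H) (β : H →* ℂˣ),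
      Nat.Coprime H.index p ∧ ∀ z : Z, β ⟨z, hZH z.2⟩ = lam z)
    (z : Z) (hz : (z : Q) ∈ commutator Q) : lam z = 1 := by
  have key : ∀ p : ℕ, p.Prime → ¬ p ∣ orderOf (lam z) := by
    intro p hp hdvd
    obtain ⟨H, hZH, β, hcop, hβ⟩ := h p hp
    haveI : H.FiniteIndex := Subgroup.finiteIndex_of_finite_quotient
    have hcen : ∀ (k : ℕ) (g₀ : Q), g₀⁻¹ * (z : Q) ^ k * g₀ ∈ H →
        g₀⁻¹ * (z : Q) ^ k * g₀ = (z : Q) ^ k := by
      intro k g₀ _
      have hc : (z : Q) ^ k ∈ Subgroup.center Q := (Subgroup.center Q).pow_mem (hZ z.2) k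
      rw [mul_assoc, (Subgroup.mem_center_iff.mp hc g₀).symm, ← mul_assoc, inv_mul_cancel, one_mul]
    have h1 := MonoidHom.transfer_eq_pow β (z : Q) hcen
    have h2 : MonoidHom.transfer β (z : Q) = 1 := by
      have := Abelianization.commutator_subset_ker (MonoidHom.transfer β) hz
      exact MonoidHom.mem_ker.mp this
    rw [h2] at h1
    have h3 : (⟨(z : Q) ^ H.index, MonoidHom.transfer_eq_pow_aux (z : Q) hcen⟩ : H)
        = (⟨z, hZH z.2⟩ : H) ^ H.index := by
      ext; simp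
    rw [h3, map_pow, hβ] at h1
    have h4 : orderOf (lam z) ∣ H.index := orderOf_dvd_of_pow_eq_one h1.symm
    have h5 : p ∣ H.index := hdvd.trans h4
    have h6 : p ∣ Nat.gcd H.index p := Nat.dvd_gcd h5 (dvd_refl p)
    rw [hcop] at h6
    exact hp.one_lt.ne' (Nat.dvd_one.mp h6)
  have h1 : orderOf (lam z) = 1 := by
    by_contra hne
    obtain ⟨p, hp, hpd⟩ := Nat.exists_prime_and_dvd hne
    exact key p hp hpd
  exact orderOf_eq_one_iff.mp h1

/-- A linear character of a central subgroup `Z` that extends to subgroups of index prime to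
`p`, for every prime `p`, extends to the whole group. -/
theorem exists_hom_extension_of_sylow (Z : Subgroup Q) (hZ : Z ≤ Subgroup.center Q)
    (lam : Z →* ℂˣ)
    (h : ∀ p : ℕ, p.Prime → ∃ (H : Subgroup Q) (hZH : Z ≤ H) (β : H →* ℂˣ),
      Nat.Coprime H.index p ∧ ∀ z : Z, β ⟨z, hZH z.2⟩ = lam z) :
    ∃ ν : Q →* ℂˣ, ∀ z : Z, ν z = lam z := by
  classical
  let f : Q →* Abelianization Q := Abelianization.of
  let fZ : Z →* Z.map f := f.subgroupMap Z
  have hfZ : Function.Surjective fZ := f.subgroupMap_surjective Z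
  have hker : fZ.ker ≤ lam.ker := by
    intro z hz
    rw [MonoidHom.mem_ker] at hz ⊢
    apply eq_one_of_mem_commutator Z hZ lam h z
    have h1 : f (z : Q) = 1 := congrArg Subtype.val hz
    rw [← Abelianization.ker_of, MonoidHom.mem_ker]
    exact h1
  let lamA : Z.map f →* ℂˣ := MonoidHom.liftOfSurjective fZ hfZ ⟨lam, hker⟩
  have hlamA : ∀ z : Z, lamA (fZ z) = lam z := fun z =>
    MonoidHom.liftOfRightInverse_comp_apply _ _ _ ⟨lam, hker⟩ z
  have hexp : NeZero ((Monoid.exponent (Abelianization Q) : ℕ) : ℂ) := by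
    constructor
    have := Monoid.exponent_ne_zero_of_finite (G := Abelianization Q)
    exact_mod_cast this
  obtain ⟨νA, hνA⟩ := MonoidHom.domRestrict_surjective ℂ (Z.map f) lamA
  refine ⟨νA.comp f, fun z => ?_⟩
  have h1 : νA (fZ z : Abelianization Q) = lamA (fZ z) := by
    rw [← hνA]
    rfl
  rw [← hlamA z, ← h1]
  rfl

/-- Variant with the values on `Z` prescribed by a mere function. -/
theorem exists_hom_extension_of_sylow' (Z : Subgroup Q) (hZ : Z ≤ Subgroup.center Q)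
    (w : Z → ℂˣ)
    (h : ∀ p : ℕ, p.Prime → ∃ (H : Subgroup Q) (hZH : Z ≤ H) (β : H →* ℂˣ),
      Nat.Coprime H.index p ∧ ∀ z : Z, β ⟨z, hZH z.2⟩ = w z) :
    ∃ ν : Q →* ℂˣ, ∀ z : Z, ν z = w z := by
  obtain ⟨H₂, hZH₂, β₂, -, hβ₂⟩ := h 2 Nat.prime_two
  let lam : Z →* ℂˣ := β₂.comp (Subgroup.inclusion hZH₂)
  have hlam : ∀ z : Z, lam z = w z := fun z => hβ₂ z
  obtain ⟨ν, hν⟩ := exists_hom_extension_of_sylow Z hZ lam (by
    intro p hp
    obtain ⟨H, hZH, β, hcop, hβ⟩ := h p hp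
    exact ⟨H, hZH, β, hcop, fun z => by rw [hβ, hlam]⟩)
  exact ⟨ν, fun z => by rw [hν, hlam]⟩

end Cfsg.Agent.Lib.Helper2_CentralExt
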