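import Mathlib
import Cfsg.Prelude.Def_Characters
import Cfsg.Agent.Lib.Helper2_ClassFn
import Cfsg.Agent.Lib.Helper2_CharBasic
import Cfsg.Agent.Lib.Helper2_CharOrtho
import Cfsg.Agent.Lib.Helper2_CharMore
import Cfsg.Agent.Lib.Helper2_CharComplete
import Cfsg.Agent.Lib.Helper2_CharTable
import Cfsg.Agent.Lib.Helper2_CharSum

set_option autoImplicit false

/-!
# Central characters: consequences of Schur's lemma for character sums
-/

namespace Cfsg.Agent.Lib.Helper2_CharCentral

open Cfsg
open Cfsg.Agent.Lib.Helper2_ClassFn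
open Cfsg.Agent.Lib.Helper2_CharBasic
open Cfsg.Agent.Lib.Helper2_CharOrtho
open Cfsg.Agent.Lib.Helper2_CharMore
open Cfsg.Agent.Lib.Helper2_CharComplete
open Cfsg.Agent.Lib.Helper2_CharTable
open Cfsg.Agent.Lib.Helper2_CharSum
open scoped ComplexConjugate

universe u

variable {G : Type u} [Group G]

/-- If `T` commutes with an irreducible representation `ρ`, then
`tr (T ρ(w)) = tr T * χ(w) / χ(1)`. -/
theorem trace_comm_mul {V : Type*} [AddCommGroup V] [Module ℂ V] [FiniteDimensional ℂ V]
    (ρ : Representation ℂ G V) (hirr : ρ.IsIrreducible) (T : V →ₗ[ℂ] V)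
    (hT : ∀ g, T ∘ₗ ρ g = ρ g ∘ₗ T) (w : G) :
    LinearMap.trace ℂ V (T ∘ₗ ρ w)
      = LinearMap.trace ℂ V T * ρ.character w / ρ.character 1 := by
  obtain ⟨c, hc⟩ := schur_scalar ρ hirr T hT
  have h1 : ρ.character 1 ≠ 0 := by
    rw [Representation.char_one]
    have hnt : Nontrivial (Subrepresentation ρ) := hirr.toNontrivial
    have : Nontrivial V := by
      by_contra hV
      rw [not_nontrivial_iff_subsingleton] at hV
      have : Subsingleton (Subrepresentation ρ) := by
        constructor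
        intro a b
        ext x
        have : x = 0 := Subsingleton.elim _ _
        simp [this]
      exact not_subsingleton _ this
    have : 0 < Module.finrank ℂ V := Module.finrank_pos
    exact_mod_cast this.ne'
  rw [hc, LinearMap.smul_comp, map_smul, map_smul, LinearMap.id_comp, LinearMap.trace_id,
    Representation.char_one]
  change c • ρ.character w = _
  rw [Representation.char_one] at h1
  rw [smul_eq_mul, smul_eq_mul]
  field_simp

/-- **Central character identity**: for a class function `f` and an irreducible character `χ`,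
`∑ g, f g * χ (g * w) = (∑ g, f g * χ g) * χ w / χ 1`. -/
theorem sum_classFn_mul [Fintype G] {χ : G → ℂ} (hχ : IsIrrCharacter G χ) {f : G → ℂ}
    (hf : IsClassFunction G f) (w : G) :
    ∑ g : G, f g * χ (g * w) = (∑ g : G, f g * χ g) * χ w / χ 1 := by
  obtain ⟨n, ρ, hirr, rfl⟩ := hχ
  have := trace_comm_mul ρ hirr (opOf ρ f) (opOf_comm ρ f hf) w
  rw [trace_opOf] at this
  rw [← this]
  unfold opOf
  change _ = LinearMap.trace ℂ _ ((∑ g : G, f g • ρ g) * ρ w)
  rw [Finset.sum_mul, map_sum]
  refine Finset.sum_congr rfl fun g _ => ?_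
  rw [smul_mul_assoc, map_smul, smul_eq_mul, ← map_mul]
  rfl

/-- Sum over a conjugacy class: `∑_{x ~ a} χ (x w) = |Cl a| χ a χ w / χ 1`. -/
theorem sum_class_mul [Fintype G] [DecidableEq G] {χ : G → ℂ} (hχ : IsIrrCharacter G χ) (a w : G) :
    ∑ x ∈ Finset.univ.filter (fun x : G => IsConj x a), χ (x * w)
      = ((Finset.univ.filter (fun x : G => IsConj x a)).card : ℂ) * χ a * χ w / χ 1 := by
  classical
  have h := sum_classFn_mul hχ (classInd_isClassFunction a) w
  unfold classInd at h
  simp only [ite_mul, one_mul, zero_mul] at h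
  rw [← Finset.sum_filter, ← Finset.sum_filter] at h
  have hcf := IsCharacter.isClassFunction (IsIrrCharacter.isCharacter hχ)
  have h2 : ∑ x ∈ Finset.univ.filter (fun x : G => IsConj x a), χ x
      = ((Finset.univ.filter (fun x : G => IsConj x a)).card : ℂ) * χ a := by
    rw [Finset.sum_congr rfl (g := fun _ => χ a), Finset.sum_const, nsmul_eq_mul]
    intro x hx
    obtain ⟨c, hc⟩ := isConj_iff.mp (Finset.mem_filter.mp hx).2
    rw [← hc]
    exact (hcf x c).symm
  rw [h2] at h
  convert h using 2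

/-- Generalized orthogonality: `∑ g, χ g⁻¹ * χ (g * w) = |G| χ w / χ 1`. -/
theorem sum_inv_mul [Fintype G] {χ : G → ℂ} (hχ : IsIrrCharacter G χ) (w : G) :
    ∑ g : G, χ g⁻¹ * χ (g * w) = (Nat.card G : ℂ) * χ w / χ 1 := by
  have hc := IsIrrCharacter.isCharacter hχ
  have hcf : IsClassFunction G (fun g => χ g⁻¹) := by
    intro g h
    have := IsCharacter.isClassFunction hc g⁻¹ h
    simpa [mul_assoc] using this
  have h := sum_classFn_mul hχ hcf w
  rw [h]
  congr 2
  have h1 := classInner_irr_self hχ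
  rw [classInner_def] at h1
  have h2 : ∑ g : G, χ g⁻¹ * χ g = ∑ g : G, χ g * conj (χ g) := by
    refine Finset.sum_congr rfl fun g _ => ?_
    rw [IsCharacter.apply_inv hc, mul_comm]
  rw [h2]
  have hG : (Nat.card G : ℂ) ≠ 0 := card_ne_zero_complex
  field_simp at h1
  rw [h1]

/-- Averaging over conjugates: `∑ g, χ (g a g⁻¹ w) = |G| χ a χ w / χ 1`. -/
theorem sum_conj_mul [Fintype G] {χ : G → ℂ} (hχ : IsIrrCharacter G χ) (a w : G) :
    ∑ g : G, χ (g * a * g⁻¹ * w) = (Nat.card G : ℂ) * χ a * χ w / χ 1 := by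
  obtain ⟨n, ρ, hirr, rfl⟩ := hχ
  set T : Module.End ℂ (Fin n → ℂ) := ∑ g : G, ρ (g * a * g⁻¹) with hT
  have hcomm : ∀ h, T ∘ₗ ρ h = ρ h ∘ₗ T := by
    intro h
    change T * ρ h = ρ h * T
    rw [hT, Finset.sum_mul, Finset.mul_sum]
    refine Fintype.sum_equiv (Equiv.mulLeft h⁻¹) _ _ fun g => ?_
    rw [← map_mul, ← map_mul]
    congr 1
    simp only [Equiv.coe_mulLeft]
    group
  have := trace_comm_mul ρ hirr T hcomm w
  have htr : LinearMap.trace ℂ _ T = (Nat.card G : ℂ) * ρ.character a := by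
    rw [hT, map_sum]
    have : ∀ g : G, LinearMap.trace ℂ _ (ρ (g * a * g⁻¹)) = ρ.character a := by
      intro g
      exact Representation.char_conj ρ a g
    simp_rw [this]
    simp [Nat.card_eq_fintype_card]
  rw [htr] at this
  rw [← this]
  change _ = LinearMap.trace ℂ _ (T * ρ w)
  rw [hT, Finset.sum_mul, map_sum]
  refine Finset.sum_congr rfl fun g _ => ?_
  rw [← map_mul]
  rfl

/-- Column orthogonality against the identity. -/
theorem sum_irr_mul_deg [Fintype G] [DecidableEq G] (g : G) :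
    ∑ χ ∈ irrFinset G, χ g * χ 1 = if g = 1 then (Nat.card G : ℂ) else 0 := by
  have h := second_orthogonality' g (1 : G)
  have hconj : ∀ χ ∈ irrFinset G, χ g * (starRingEnd ℂ) (χ 1) = χ g * χ 1 := by
    intro χ hχ
    obtain ⟨n, -, hn⟩ := IsIrrCharacter.apply_one (mem_irrFinset.mp hχ)
    rw [hn, Complex.conj_natCast]
  rw [Finset.sum_congr rfl hconj] at h
  rw [h]
  by_cases hg : g = 1
  · subst hg
    rw [if_pos (IsConj.refl 1), if_pos rfl]
    congr 1
    have : Subgroup.centralizer ({(1 : G)} : Set G) = ⊤ := by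
      ext x
      simp [Subgroup.mem_centralizer_singleton_iff]
    rw [this]
    exact Subgroup.card_top
  · rw [if_neg hg, if_neg]
    intro hc
    exact hg (isConj_one_left.mp hc)

/-- Central elements: `χ (z * w) = χ z * χ w / χ 1` for `z` commuting with everything. -/
theorem apply_central_mul {χ : G → ℂ} (hχ : IsIrrCharacter G χ) (z : G)
    (hz : ∀ g : G, z * g = g * z) (w : G) : χ (z * w) = χ z * χ w / χ 1 := by
  obtain ⟨n, ρ, hirr, rfl⟩ := hχ
  have hcomm : ∀ h, ρ z ∘ₗ ρ h = ρ h ∘ₗ ρ z := by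
    intro h
    change ρ z * ρ h = ρ h * ρ z
    rw [← map_mul, ← map_mul, hz]
  have := trace_comm_mul ρ hirr (ρ z) hcomm w
  rw [← Representation.character] at this
  change LinearMap.trace ℂ _ (ρ z * ρ w) = _ at this
  rw [← map_mul] at this
  exact this

end Cfsg.Agent.Lib.Helper2_CharCentral
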