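import Mathlib
import Cfsg.Prelude.Def_Characters
import Cfsg.Agent.Lib.Helper2_ClassFn
import Cfsg.Agent.Lib.Helper2_CharBasic
import Cfsg.Agent.Lib.Helper2_CharOrtho

set_option autoImplicit false

/-!
# Values of characters: sums of roots of unity
-/

namespace Cfsg.Agent.Lib.Helper2_CharValues

open Cfsg
open Cfsg.Agent.Lib.Helper2_ClassFn
open Cfsg.Agent.Lib.Helper2_CharBasic
open Cfsg.Agent.Lib.Helper2_CharOrtho
open scoped ComplexConjugate ComplexOrder
open Polynomial

universe u

theorem multiset_eq_zero_of_sum_eq_zero (s : Multiset ℝ) (h0 : ∀ x ∈ s, 0 ≤ x)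
    (hs : s.sum = 0) : ∀ x ∈ s, x = 0 := by
  induction s using Multiset.induction_on with
  | empty => intro x hx; simp at hx
  | cons a s ih =>
    rw [Multiset.sum_cons] at hs
    have ha : 0 ≤ a := h0 a (Multiset.mem_cons_self a s)
    have hs0 : 0 ≤ s.sum := Multiset.sum_nonneg fun x hx => h0 x (Multiset.mem_cons_of_mem hx)
    have ha0 : a = 0 := by linarith
    have hs1 : s.sum = 0 := by linarith
    intro x hx
    rcases Multiset.mem_cons.mp hx with rfl | hx
    · exact ha0
    · exact ih (fun y hy => h0 y (Multiset.mem_cons_of_mem hy)) hs1 x hx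

section Endo

variable {V : Type*} [AddCommGroup V] [Module ℂ V] [FiniteDimensional ℂ V]

/-- eigenvalues of an endomorphism of finite order are roots of unity -/
theorem eigenvalue_pow_eq_one {f : Module.End ℂ V} {m : ℕ} (hf : f ^ m = 1) {μ : ℂ}
    (hμ : f.HasEigenvalue μ) : μ ^ m = 1 := by
  obtain ⟨v, hv⟩ := hμ.exists_hasEigenvector
  have h1 : (f ^ m) v = μ ^ m • v := hv.pow_apply m
  rw [hf, Module.End.one_apply] at h1
  have h2 : (μ ^ m - 1) • v = 0 := by rw [sub_smul, one_smul, ← h1, sub_self]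
  rcases smul_eq_zero.mp h2 with h | h
  · exact sub_eq_zero.mp h
  · exact absurd h hv.2

theorem roots_charpoly_pow_eq_one {f : Module.End ℂ V} {m : ℕ} (hf : f ^ m = 1) {μ : ℂ}
    (hμ : μ ∈ f.charpoly.roots) : μ ^ m = 1 := by
  apply eigenvalue_pow_eq_one hf
  rw [Module.End.hasEigenvalue_iff_isRoot_charpoly]
  exact (Polynomial.mem_roots'.mp hμ).2

theorem trace_eq_sum_roots (f : Module.End ℂ V) :
    LinearMap.trace ℂ V f = f.charpoly.roots.sum :=
  Module.End.trace_eq_sum_roots_charpoly_of_splits (IsAlgClosed.splits _)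

theorem card_roots_charpoly (f : Module.End ℂ V) :
    Multiset.card f.charpoly.roots = Module.finrank ℂ V := by
  rw [← LinearMap.charpoly_natDegree f]
  exact (Polynomial.splits_iff_card_roots.mp (IsAlgClosed.splits _))

theorem norm_eq_one_of_pow_eq_one {μ : ℂ} {m : ℕ} (hm : 0 < m) (h : μ ^ m = 1) : ‖μ‖ = 1 := by
  have h1 : ‖μ‖ ^ m = 1 := by rw [← norm_pow, h, norm_one]
  exact (pow_eq_one_iff_of_nonneg (norm_nonneg μ) hm.ne').mp h1

/-- `|tr f| ≤ dim V` for an endomorphism of finite order. -/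
theorem norm_trace_le {f : Module.End ℂ V} {m : ℕ} (hm : 0 < m) (hf : f ^ m = 1) :
    ‖LinearMap.trace ℂ V f‖ ≤ Module.finrank ℂ V := by
  rw [trace_eq_sum_roots, ← card_roots_charpoly f]
  have h1 : ‖f.charpoly.roots.sum‖ ≤ (f.charpoly.roots.map (fun μ => ‖μ‖)).sum :=
    norm_multiset_sum_le _
  have h2 : f.charpoly.roots.map (fun μ => ‖μ‖) = f.charpoly.roots.map (fun _ => (1 : ℝ)) := by
    apply Multiset.map_congr rfl
    intro μ hμ
    exact norm_eq_one_of_pow_eq_one hm (roots_charpoly_pow_eq_one hf hμ)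
  rw [h2, Multiset.map_const', Multiset.sum_replicate, nsmul_eq_mul, mul_one] at h1
  exact h1

/-- The trace of an endomorphism of finite order is an algebraic integer. -/
theorem isIntegral_trace {f : Module.End ℂ V} {m : ℕ} (hm : 0 < m) (hf : f ^ m = 1) :
    IsIntegral ℤ (LinearMap.trace ℂ V f) := by
  rw [trace_eq_sum_roots]
  apply IsIntegral.multiset_sum
  intro μ hμ
  have h := roots_charpoly_pow_eq_one hf hμ
  exact ⟨X ^ m - 1, monic_X_pow_sub_C 1 hm.ne', by simp [h]⟩

theorem isSemisimple_of_pow_eq_one {f : Module.End ℂ V} {m : ℕ} (hm : 0 < m) (hf : f ^ m = 1) :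
    f.IsSemisimple := by
  apply Module.End.isSemisimple_of_squarefree_aeval_eq_zero (p := X ^ m - 1)
  · apply Polynomial.Separable.squarefree
    have := Polynomial.separable_X_pow_sub_C (F := ℂ) (n := m) (1 : ℂ)
      (by exact_mod_cast hm.ne') one_ne_zero
    simpa using this
  · simp [hf]

/-- If the trace of an endomorphism of finite order equals the dimension, it is the identity. -/
theorem eq_one_of_trace_eq {f : Module.End ℂ V} {m : ℕ} (hm : 0 < m) (hf : f ^ m = 1)
    (htr : LinearMap.trace ℂ V f = Module.finrank ℂ V) : f = 1 := by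
  -- all roots of the characteristic polynomial equal 1
  have hre : ∀ μ ∈ f.charpoly.roots, μ.re ≤ 1 := by
    intro μ hμ
    have := norm_eq_one_of_pow_eq_one hm (roots_charpoly_pow_eq_one hf hμ)
    calc μ.re ≤ ‖μ‖ := Complex.re_le_norm μ
      _ = 1 := this
  have hsum : (f.charpoly.roots.map (fun μ => 1 - μ.re)).sum = 0 := by
    rw [Multiset.sum_map_sub, Multiset.map_const', Multiset.sum_replicate, nsmul_eq_mul, mul_one,
      card_roots_charpoly]
    have : (f.charpoly.roots.map (fun μ => μ.re)).sum = (f.charpoly.roots.sum).re := by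
      have := map_multiset_sum Complex.reLm.toAddMonoidHom f.charpoly.roots
      simpa using this.symm
    rw [this, ← trace_eq_sum_roots, htr]
    simp
  have hall : ∀ μ ∈ f.charpoly.roots, μ = 1 := by
    intro μ hμ
    have h0 : ∀ x ∈ f.charpoly.roots.map (fun μ => 1 - μ.re), (0 : ℝ) ≤ x := by
      intro x hx
      obtain ⟨ν, hν, rfl⟩ := Multiset.mem_map.mp hx
      linarith [hre ν hν]
    have := multiset_eq_zero_of_sum_eq_zero _ h0 hsum (1 - μ.re)
      (Multiset.mem_map.mpr ⟨μ, hμ, rfl⟩)
    have hre1 : μ.re = 1 := by linarith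
    have hn := norm_eq_one_of_pow_eq_one hm (roots_charpoly_pow_eq_one hf hμ)
    have him : μ.im = 0 := by
      have h1 : ‖μ‖ ^ 2 = μ.re ^ 2 + μ.im ^ 2 := by
        rw [← Complex.normSq_eq_norm_sq, Complex.normSq_apply]; ring
      rw [hn, hre1] at h1
      have : μ.im ^ 2 = 0 := by linarith
      exact pow_eq_zero_iff (by norm_num) |>.mp this
    exact Complex.ext hre1 him
  -- `f - 1` is semisimple with only the eigenvalue `0`
  have hss : (f - 1).IsSemisimple := by
    have := (isSemisimple_of_pow_eq_one hm hf).aeval (X - 1)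
    simpa using this
  have : f - 1 = 0 := by
    rw [hss.eq_zero_iff_forall_eigenvalue]
    intro μ hμ
    have hμ' : f.HasEigenvalue (μ + 1) := by
      obtain ⟨v, hv⟩ := hμ.exists_hasEigenvector
      apply Module.End.hasEigenvalue_of_hasEigenvector (x := v)
      refine ⟨?_, hv.2⟩
      rw [Module.End.mem_eigenspace_iff]
      have := hv.apply_eq_smul
      rw [LinearMap.sub_apply, Module.End.one_apply, sub_eq_iff_eq_add] at this
      rw [this, add_smul, one_smul]
    have hroot : μ + 1 ∈ f.charpoly.roots := by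
      rw [Polynomial.mem_roots']
      refine ⟨?_, (Module.End.hasEigenvalue_iff_isRoot_charpoly f _).mp hμ'⟩
      exact (LinearMap.charpoly_monic f).ne_zero
    have := hall _ hroot
    linear_combination this
  exact sub_eq_zero.mp this

end Endo

section Char

variable {G : Type u} [Group G] [Finite G]

theorem rep_pow_orderOf {V : Type*} [AddCommGroup V] [Module ℂ V] (ρ : Representation ℂ G V)
    (g : G) : ρ g ^ orderOf g = 1 := by
  rw [← map_pow, pow_orderOf_eq_one, map_one]

/-- `‖χ g‖ ≤ χ 1` -/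
theorem IsCharacter.norm_le {χ : G → ℂ} (h : IsCharacter G χ) (g : G) : ‖χ g‖ ≤ (χ 1).re := by
  obtain ⟨n, ρ, rfl⟩ := h
  have := norm_trace_le (orderOf_pos g) (rep_pow_orderOf ρ g)
  rw [Representation.char_one]
  simpa [Representation.character] using this

theorem IsCharacter.isIntegral {χ : G → ℂ} (h : IsCharacter G χ) (g : G) :
    IsIntegral ℤ (χ g) := by
  obtain ⟨n, ρ, rfl⟩ := h
  exact isIntegral_trace (orderOf_pos g) (rep_pow_orderOf ρ g)

theorem IsGeneralizedCharacter.isIntegral {χ : G → ℂ} (h : IsGeneralizedCharacter G χ) (g : G) :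
    IsIntegral ℤ (χ g) := by
  obtain ⟨a, b, ha, hb, rfl⟩ := h
  exact IsIntegral.sub (IsCharacter.isIntegral ha g) (IsCharacter.isIntegral hb g)

/-- Kernel of a representation via its character. -/
theorem rep_eq_one_of_char_eq {V : Type*} [AddCommGroup V] [Module ℂ V] [FiniteDimensional ℂ V]
    (ρ : Representation ℂ G V) (g : G) (h : ρ.character g = ρ.character 1) : ρ g = 1 := by
  apply eq_one_of_trace_eq (orderOf_pos g) (rep_pow_orderOf ρ g)
  rw [Representation.char_one] at h
  exact h

/-- `re (χ g) ≤ χ 1`, with equality iff `χ g = χ 1` -/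
theorem IsCharacter.re_le {χ : G → ℂ} (h : IsCharacter G χ) (g : G) : (χ g).re ≤ (χ 1).re :=
  (Complex.re_le_norm _).trans (IsCharacter.norm_le h g)

theorem IsCharacter.eq_of_re_eq {χ : G → ℂ} (h : IsCharacter G χ) (g : G)
    (hre : (χ g).re = (χ 1).re) : χ g = χ 1 := by
  have hn := IsCharacter.norm_le h g
  obtain ⟨n, hn1⟩ := IsCharacter.apply_one h
  have him : (χ g).im = 0 := by
    have h1 : ‖χ g‖ ^ 2 = (χ g).re ^ 2 + (χ g).im ^ 2 := by
      rw [← Complex.normSq_eq_norm_sq, Complex.normSq_apply]; ring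
    have h2 : ‖χ g‖ ^ 2 ≤ (χ 1).re ^ 2 := by
      apply pow_le_pow_left₀ (norm_nonneg _) hn
    rw [h1, hre] at h2
    have : (χ g).im ^ 2 ≤ 0 := by linarith
    have : (χ g).im ^ 2 = 0 := le_antisymm this (sq_nonneg _)
    exact pow_eq_zero_iff (by norm_num) |>.mp this
  apply Complex.ext hre
  rw [him, hn1]; simp

end Char

end Cfsg.Agent.Lib.Helper2_CharValues
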