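import Mathlib
import Cfsg.Prelude.Def_Characters
import Cfsg.Agent.Lib.Helper2_ClassFn
import Cfsg.Agent.Lib.Helper2_CharBasic
import Cfsg.Agent.Lib.Helper2_CharOrtho
import Cfsg.Agent.Lib.Helper2_CharMore
import Cfsg.Agent.Lib.Helper2_CharValues
import Cfsg.Agent.Lib.Helper2_CharComplete
import Cfsg.Agent.Lib.Helper2_CharTable
import Cfsg.Agent.Lib.Helper2_CharSum
import Cfsg.Agent.Lib.Helper2_CharCentral
import Cfsg.Agent.S0160

set_option autoImplicit false

/-!
# Integrality of central character values; degrees divide the group order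
-/

namespace Cfsg.Agent.Lib.Helper2_CharInt

open Cfsg
open Cfsg.Agent.Lib.Helper2_ClassFn
open Cfsg.Agent.Lib.Helper2_CharBasic
open Cfsg.Agent.Lib.Helper2_CharOrtho
open Cfsg.Agent.Lib.Helper2_CharMore
open Cfsg.Agent.Lib.Helper2_CharValues
open Cfsg.Agent.Lib.Helper2_CharComplete
open Cfsg.Agent.Lib.Helper2_CharTable
open Cfsg.Agent.Lib.Helper2_CharSum
open Cfsg.Agent.Lib.Helper2_CharCentral
open scoped ComplexConjugate

/-- An eigenvalue (with a nonzero complex eigenvector) of an integer matrix is an algebraic
integer. -/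
theorem isIntegral_of_int_matrix_eigen {ι : Type*} [Fintype ι] [DecidableEq ι]
    (A : Matrix ι ι ℤ) (v : ι → ℂ) (hv : v ≠ 0) (c : ℂ)
    (h : (A.map (Int.castRingHom ℂ)).mulVec v = c • v) : IsIntegral ℤ c := by
  refine ⟨A.charpoly, A.charpoly_monic, ?_⟩
  have h1 : (Matrix.scalar ι c - A.map (Int.castRingHom ℂ)).mulVec v = 0 := by
    rw [Matrix.sub_mulVec, h]
    ext i
    simp [Matrix.scalar_apply]
  have h2 : (Matrix.scalar ι c - A.map (Int.castRingHom ℂ)).det = 0 :=
    Matrix.exists_mulVec_eq_zero_iff.mp ⟨v, hv, h1⟩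
  rw [← Matrix.eval_charpoly, Matrix.charpoly_map, Polynomial.eval_map] at h2
  exact h2

section Omega

variable {G : Type*} [Group G] [Fintype G] [DecidableEq G]

/-- **Integrality of central character values**: `|Cl a| χ(a) / χ(1)` is an algebraic integer. -/
theorem isIntegral_omega {χ : G → ℂ} (hχ : IsIrrCharacter G χ) (a : G) :
    IsIntegral ℤ (((Finset.univ.filter (fun x : G => IsConj x a)).card : ℂ) * χ a / χ 1) := by
  classical
  let A : Matrix G G ℤ := fun w z => if IsConj (z * w⁻¹) a then 1 else 0
  apply isIntegral_of_int_matrix_eigen A χ (IsIrrCharacter.ne_zero hχ)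
  ext w
  simp only [Matrix.mulVec, dotProduct, Matrix.map_apply, Pi.smul_apply, smul_eq_mul]
  have h1 : ∀ z : G, (Int.castRingHom ℂ) (A w z) * χ z
      = if IsConj (z * w⁻¹) a then χ z else 0 := by
    intro z
    simp only [A]
    split_ifs <;> simp
  simp_rw [h1]
  rw [← Finset.sum_filter]
  have h2 := sum_class_mul hχ a w
  have h3 : ∑ z ∈ Finset.univ.filter (fun z : G => IsConj (z * w⁻¹) a), χ z
      = ∑ x ∈ Finset.univ.filter (fun x : G => IsConj x a), χ (x * w) := by
    refine Finset.sum_bij (fun z _ => z * w⁻¹) ?_ ?_ ?_ ?_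
    · intro z hz
      simp only [Finset.mem_filter, Finset.mem_univ, true_and] at hz ⊢
      exact hz
    · intro z _ z' _ h
      exact mul_right_cancel h
    · intro x hx
      simp only [Finset.mem_filter, Finset.mem_univ, true_and] at hx
      refine ⟨x * w, ?_, by group⟩
      simp only [Finset.mem_filter, Finset.mem_univ, true_and]
      have : x * w * w⁻¹ = x := by group
      rw [this]; exact hx
    · intro z _
      congr 1
      group
  rw [h3, h2]
  ring

/-- class size equals the index of the centralizer -/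
theorem index_centralizer_eq_card_class (g : G) :
    (Subgroup.centralizer ({g} : Set G)).index
      = (Finset.univ.filter (fun x : G => IsConj x g)).card := by
  have h1 := card_class_mul_card_centralizer g
  have h2 := Subgroup.card_mul_index (Subgroup.centralizer ({g} : Set G))
  have hpos : 0 < Nat.card (Subgroup.centralizer ({g} : Set G)) := Nat.card_pos
  apply Nat.eq_of_mul_eq_mul_left hpos
  rw [h2, mul_comm]
  convert h1.symm using 3
  ext x
  simp only [Finset.mem_filter, Finset.mem_univ, true_and]

/-- The degree of an irreducible character divides the group order. -/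
theorem degree_dvd_card {χ : G → ℂ} (hχ : IsIrrCharacter G χ) (n : ℕ) (hn : χ 1 = n) :
    n ∣ Nat.card G := by
  classical
  have hχc := IsIrrCharacter.isCharacter hχ
  have hcf := IsCharacter.isClassFunction hχc
  have hn0 : (n : ℂ) ≠ 0 := by rw [← hn]; exact IsIrrCharacter.apply_one_ne_zero hχ
  -- |G|/χ(1) as a sum over classes
  let F : ConjClasses G → ℂ := fun C =>
    ((Finset.univ.filter (fun x : G => IsConj x (Quotient.out C))).card : ℂ)
      * χ (Quotient.out C) / χ 1 * conj (χ (Quotient.out C))
  have hF : ∀ g : G, F (ConjClasses.mk g)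
      = ((Finset.univ.filter (fun x : G => IsConj x g)).card : ℂ) * χ g / χ 1 * conj (χ g) := by
    intro g
    have hc : IsConj (Quotient.out (ConjClasses.mk g)) g := by
      rw [← ConjClasses.mk_eq_mk_iff_isConj]
      exact Quotient.out_eq _
    obtain ⟨c, hc'⟩ := isConj_iff.mp hc
    have e1 : χ (Quotient.out (ConjClasses.mk g)) = χ g := by
      calc χ (Quotient.out (ConjClasses.mk g))
          = χ (c * Quotient.out (ConjClasses.mk g) * c⁻¹) := (hcf _ c).symm
        _ = χ g := by rw [hc']
    have e2 : (Finset.univ.filter (fun x : G => IsConj x (Quotient.out (ConjClasses.mk g))))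
        = (Finset.univ.filter (fun x : G => IsConj x g)) := by
      ext x
      simp only [Finset.mem_filter, Finset.mem_univ, true_and]
      exact ⟨fun h => h.trans hc, fun h => h.trans hc.symm⟩
    simp only [F]
    rw [e1, e2]
  have hsum : ∑ C : ConjClasses G, F C = (Nat.card G : ℂ) / n := by
    have hs := Cfsg.Agent.S0160.sum_over_classes F
    have hs' : ∑ C : ConjClasses G, F C = ∑ g : G, F (ConjClasses.mk g) /
        ((Finset.univ.filter (fun x : G => IsConj x g)).card : ℂ) := by
      convert hs.symm using 4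
      congr 1
      ext x
      simp only [Finset.mem_filter, Finset.mem_univ, true_and]
    rw [hs']
    have h1 := classInner_irr_self hχ
    rw [classInner_def] at h1
    have hG : (Nat.card G : ℂ) ≠ 0 := card_ne_zero_complex
    have h2 : ∑ g : G, χ g * conj (χ g) = (Nat.card G : ℂ) := by
      field_simp at h1
      exact h1
    rw [← h2, Finset.sum_div]
    refine Finset.sum_congr rfl fun g _ => ?_
    rw [hF g, hn]
    have hpos : ((Finset.univ.filter (fun x : G => IsConj x g)).card : ℂ) ≠ 0 := by
      have : 0 < (Finset.univ.filter (fun x : G => IsConj x g)).card :=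
        Finset.card_pos.mpr ⟨g, Finset.mem_filter.mpr ⟨Finset.mem_univ _, IsConj.refl g⟩⟩
      exact_mod_cast this.ne'
    field_simp
  have hint : IsIntegral ℤ ((Nat.card G : ℂ) / n) := by
    rw [← hsum]
    apply IsIntegral.sum
    intro C _
    apply IsIntegral.mul (isIntegral_omega hχ _)
    have := IsCharacter.isIntegral (IsCharacter.conj hχc) (Quotient.out C)
    exact this
  -- a rational algebraic integer is an integer
  have hq : ((Nat.card G : ℂ) / n) = (((Nat.card G : ℚ) / n : ℚ) : ℂ) := by push_cast; rfl
  rw [hq] at hint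
  have hint' : IsIntegral ℤ ((Nat.card G : ℚ) / n) := by
    have := (isIntegral_algebraMap_iff (algebraMap ℚ ℂ).injective (R := ℤ)
      (x := ((Nat.card G : ℚ) / n))).mp
    apply this
    simpa using hint
  obtain ⟨z, hz⟩ := IsIntegrallyClosed.isIntegral_iff.mp hint'
  have hn0' : (n : ℚ) ≠ 0 := by exact_mod_cast (by exact_mod_cast hn0 : (n : ℂ) ≠ 0)
  have hz' : (Nat.card G : ℚ) = z * n := by
    rw [eq_div_iff hn0'] at hz
    simpa using hz.symm
  have hz'' : (Nat.card G : ℤ) = z * n := by exact_mod_cast hz'
  have : (n : ℤ) ∣ (Nat.card G : ℤ) := ⟨z, by rw [hz'', mul_comm]⟩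
  exact_mod_cast this

end Omega

end Cfsg.Agent.Lib.Helper2_CharInt
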