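import Mathlib
import Cfsg.Prelude.Def_Characters
import Cfsg.Agent.Lib.Helper2_ClassFn
import Cfsg.Agent.Lib.Helper2_CharBasic
import Cfsg.Agent.Lib.Helper2_CharOrtho
import Cfsg.Agent.Lib.Helper2_CharMore
import Cfsg.Agent.Lib.Helper2_CharValues
import Cfsg.Agent.Lib.Helper2_CharDeg

set_option autoImplicit false

/-!
# Kernels and centres of characters
-/

namespace Cfsg.Agent.Lib.Helper2_CharKernel

open Cfsg
open Cfsg.Agent.Lib.Helper2_ClassFn
open Cfsg.Agent.Lib.Helper2_CharBasic
open Cfsg.Agent.Lib.Helper2_CharOrtho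
open Cfsg.Agent.Lib.Helper2_CharMore
open Cfsg.Agent.Lib.Helper2_CharValues
open Cfsg.Agent.Lib.Helper2_CharDeg
open scoped ComplexConjugate

universe u

variable {G : Type u} [Group G]

/-- If a sum of two characters takes its degree at `b`, so does each summand. -/
theorem IsCharacter.apply_eq_of_add [Finite G] {χ Δ : G → ℂ} (hχ : IsCharacter G χ)
    (hΔ : IsCharacter G Δ) (b : G) (h : (χ + Δ) b = (χ + Δ) 1) : χ b = χ 1 := by
  apply IsCharacter.eq_of_re_eq hχ b
  have h1 := IsCharacter.re_le hχ b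
  have h2 := IsCharacter.re_le hΔ b
  have h3 := congrArg Complex.re h
  simp only [Pi.add_apply, Complex.add_re] at h3
  linarith

/-- The kernel of a character is contained in the kernel of each irreducible constituent. -/
theorem IsCharacter.constituent_apply_eq [Fintype G] {Φ χ : G → ℂ} (hΦ : IsCharacter G Φ)
    (hχ : IsIrrCharacter G χ) (hc : classInner Φ χ ≠ 0) (b : G) (h : Φ b = Φ 1) : χ b = χ 1 := by
  have hΔ := IsCharacter.sub_constituent hΦ hχ hc
  apply IsCharacter.apply_eq_of_add (IsIrrCharacter.isCharacter hχ) hΔ b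
  simpa using h

/-- If `ρ d` commutes with an irreducible representation, `|χ d| = χ 1`. -/
theorem norm_character_eq_of_comm [Finite G] {V : Type*} [AddCommGroup V] [Module ℂ V]
    [FiniteDimensional ℂ V] (ρ : Representation ℂ G V) (hirr : ρ.IsIrreducible) (d : G)
    (hd : ∀ g, ρ d ∘ₗ ρ g = ρ g ∘ₗ ρ d) : ‖ρ.character d‖ = ‖ρ.character 1‖ := by
  obtain ⟨c, hc⟩ := schur_scalar ρ hirr (ρ d) hd
  have hnt : Nontrivial V := by
    have hnt : Nontrivial (Subrepresentation ρ) := hirr.toNontrivial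
    by_contra hV
    rw [not_nontrivial_iff_subsingleton] at hV
    have : Subsingleton (Subrepresentation ρ) := by
      constructor
      intro a b
      ext x
      have : x = 0 := Subsingleton.elim _ _
      simp [this]
    exact not_subsingleton _ this
  have hpow := rep_pow_orderOf ρ d
  rw [hc] at hpow
  have hck : c ^ orderOf d = 1 := by
    obtain ⟨v, hv⟩ := exists_ne (0 : V)
    have h1 := LinearMap.congr_fun hpow v
    have h2 : ((c • (LinearMap.id : V →ₗ[ℂ] V)) ^ orderOf d) v = c ^ orderOf d • v := by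
      have : (c • (LinearMap.id : V →ₗ[ℂ] V)) = c • (1 : Module.End ℂ V) := rfl
      rw [this, smul_pow, one_pow]
      rfl
    rw [h2] at h1
    have h3 : (c ^ orderOf d - 1) • v = 0 := by
      rw [sub_smul, h1, one_smul]
      simp
    rcases smul_eq_zero.mp h3 with h | h
    · exact sub_eq_zero.mp h
    · exact absurd h hv
  have hnorm : ‖c‖ = 1 := norm_eq_one_of_pow_eq_one (orderOf_pos d) hck
  unfold Representation.character
  rw [hc, map_one, map_smul, smul_eq_mul, norm_mul, hnorm, one_mul]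
  rfl

/-- If `|χ d| = χ 1` on a subgroup `D`, then `χ(1)² |D| ≤ |G|`. -/
theorem sq_mul_card_le [Fintype G] {χ : G → ℂ} (hχ : IsIrrCharacter G χ) (D : Subgroup G)
    (hD : ∀ d ∈ D, ‖χ d‖ = ‖χ 1‖) : ‖χ 1‖ ^ 2 * (Nat.card D : ℝ) ≤ (Nat.card G : ℝ) := by
  classical
  have h1 := classInner_irr_self hχ
  rw [classInner_def] at h1
  have h2 : ∀ g : G, χ g * conj (χ g) = ((‖χ g‖ ^ 2 : ℝ) : ℂ) := by
    intro g
    rw [Complex.mul_conj, Complex.normSq_eq_norm_sq]
  simp_rw [h2] at h1
  rw [← Complex.ofReal_sum] at h1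
  have hG : (Nat.card G : ℂ) ≠ 0 := card_ne_zero_complex
  have h3 : ((∑ g : G, ‖χ g‖ ^ 2 : ℝ) : ℂ) = (Nat.card G : ℂ) := by
    field_simp at h1
    exact h1
  have h4 : (∑ g : G, ‖χ g‖ ^ 2 : ℝ) = (Nat.card G : ℝ) := by exact_mod_cast h3
  rw [← h4]
  have h5 : ∑ g ∈ Finset.univ.filter (fun g : G => g ∈ D), ‖χ g‖ ^ 2
      ≤ ∑ g : G, ‖χ g‖ ^ 2 :=
    Finset.sum_le_sum_of_subset_of_nonneg (Finset.filter_subset _ _)
      (fun g _ _ => by positivity)
  refine le_trans ?_ h5
  rw [Finset.sum_congr rfl (g := fun _ => ‖χ 1‖ ^ 2), Finset.sum_const, nsmul_eq_mul]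
  · have : (Finset.univ.filter (fun g : G => g ∈ D)).card = Nat.card D := by
      rw [Nat.card_eq_fintype_card, Fintype.card_subtype]
    rw [this, mul_comm]
  · intro g hg
    rw [hD g (Finset.mem_filter.mp hg).2]

end Cfsg.Agent.Lib.Helper2_CharKernel
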