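import Mathlib
import Cfsg.Prelude.Def_Characters
import Cfsg.Agent.Lib.Helper2_ClassFn
import Cfsg.Agent.Lib.Helper2_CharBasic
import Cfsg.Agent.Lib.Helper2_CharOrtho
import Cfsg.Agent.Lib.Helper2_CharMore
import Cfsg.Agent.Lib.Helper2_CharValues
import Cfsg.Agent.Lib.Helper2_CharComplete
import Cfsg.Agent.Lib.Helper2_CharTable
import Cfsg.Agent.Lib.Helper2_CharSum
import Cfsg.Agent.Lib.Helper2_CharCentral
import Cfsg.Agent.Lib.Helper2_CharKernel
import Cfsg.Agent.Lib.Helper2_CharInt
import Cfsg.Agent.Lib.Helper2_CharBurnside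

set_option autoImplicit false

/-!
# The degree of an irreducible character divides the index of the centre
-/

namespace Cfsg.Agent.Lib.Helper2_CharCenter

open Cfsg
open Cfsg.Agent.Lib.Helper2_ClassFn
open Cfsg.Agent.Lib.Helper2_CharBasic
open Cfsg.Agent.Lib.Helper2_CharOrtho
open Cfsg.Agent.Lib.Helper2_CharMore
open Cfsg.Agent.Lib.Helper2_CharValues
open Cfsg.Agent.Lib.Helper2_CharComplete
open Cfsg.Agent.Lib.Helper2_CharTable
open Cfsg.Agent.Lib.Helper2_CharSum
open Cfsg.Agent.Lib.Helper2_CharCentral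
open Cfsg.Agent.Lib.Helper2_CharKernel
open Cfsg.Agent.Lib.Helper2_CharInt
open Cfsg.Agent.Lib.Helper2_CharBurnside
open scoped ComplexConjugate

/-- A rational algebraic integer `a / n` forces `n ∣ a`. -/
theorem dvd_of_isIntegral_div (a n : ℕ) (hn : n ≠ 0) (hint : IsIntegral ℤ ((a : ℂ) / n)) :
    n ∣ a := by
  have hq : ((a : ℂ) / n) = (((a : ℚ) / n : ℚ) : ℂ) := by push_cast; rfl
  rw [hq] at hint
  have hint' : IsIntegral ℤ ((a : ℚ) / n) := by
    have := (isIntegral_algebraMap_iff (algebraMap ℚ ℂ).injective (R := ℤ)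
      (x := ((a : ℚ) / n))).mp
    apply this
    simpa using hint
  obtain ⟨z, hz⟩ := IsIntegrallyClosed.isIntegral_iff.mp hint'
  have hn0' : (n : ℚ) ≠ 0 := by exact_mod_cast hn
  have hz' : (a : ℚ) = z * n := by
    rw [eq_div_iff hn0'] at hz
    simpa using hz.symm
  have hz'' : (a : ℤ) = z * n := by exact_mod_cast hz'
  have : (n : ℤ) ∣ (a : ℤ) := ⟨z, by rw [hz'', mul_comm]⟩
  exact_mod_cast this

open Classical in
/-- Fibre counting over the quotient by a setoid. -/
theorem sum_over_quotient {X : Type*} [Fintype X] (r : Setoid X) (F : Quotient r → ℂ) :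
    ∑ g : X, F (Quotient.mk r g) / ((Finset.univ.filter (fun x : X => r.r g x)).card : ℂ)
      = ∑ q : Quotient r, F q := by
  rw [← Finset.sum_fiberwise (s := Finset.univ) (g := fun g : X => Quotient.mk r g)]
  refine Finset.sum_congr rfl fun C _ => ?_
  obtain ⟨g₀, rfl⟩ := Quotient.exists_rep C
  have hset : (Finset.univ.filter (fun g : X => Quotient.mk r g = Quotient.mk r g₀))
      = (Finset.univ.filter (fun x : X => r.r g₀ x)) := by
    ext x
    simp only [Finset.mem_filter, Finset.mem_univ, true_and]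
    rw [Quotient.eq]
    exact ⟨fun h => r.symm h, fun h => r.symm h⟩
  have hterm : ∀ g ∈ Finset.univ.filter (fun g : X => Quotient.mk r g = Quotient.mk r g₀),
      F (Quotient.mk r g) / ((Finset.univ.filter (fun x : X => r.r g x)).card : ℂ)
      = F (Quotient.mk r g₀) / ((Finset.univ.filter (fun x : X => r.r g₀ x)).card : ℂ) := by
    intro g hg
    have hgq := (Finset.mem_filter.mp hg).2
    have hgc : r.r g g₀ := Quotient.eq.mp hgq
    rw [hgq]
    have : (Finset.univ.filter (fun x : X => r.r g x))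
        = (Finset.univ.filter (fun x : X => r.r g₀ x)) := by
      ext x
      simp only [Finset.mem_filter, Finset.mem_univ, true_and]
      exact ⟨fun h => r.trans (r.symm hgc) h, fun h => r.trans hgc h⟩
    rw [this]
  rw [Finset.sum_congr rfl hterm, Finset.sum_const, hset, nsmul_eq_mul]
  have hpos : ((Finset.univ.filter (fun x : X => r.r g₀ x)).card : ℂ) ≠ 0 := by
    have : 0 < (Finset.univ.filter (fun x : X => r.r g₀ x)).card :=
      Finset.card_pos.mpr ⟨g₀, Finset.mem_filter.mpr ⟨Finset.mem_univ _, r.refl g₀⟩⟩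
    exact_mod_cast this.ne'
  field_simp

section Center

variable {G : Type*} [Group G]

theorem isConj_central_mul {z : G} (hz : z ∈ Subgroup.center G) {x g : G} (h : IsConj x g) :
    IsConj (z * x) (z * g) := by
  obtain ⟨c, hc⟩ := isConj_iff.mp h
  refine isConj_iff.mpr ⟨c, ?_⟩
  have hzc : c * z = z * c := (Subgroup.mem_center_iff.mp hz c)
  calc c * (z * x) * c⁻¹ = z * (c * x * c⁻¹) := by
        rw [← mul_assoc, hzc]; group
    _ = z * g := by rw [hc]

/-- The relation "conjugate up to a central factor". -/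
def centralConjSetoid (G : Type*) [Group G] : Setoid G where
  r g h := ∃ z ∈ Subgroup.center G, IsConj (z * g) h
  iseqv := by
    refine ⟨fun g => ⟨1, Subgroup.one_mem _, by rw [one_mul]⟩, ?_, ?_⟩
    · rintro g h ⟨z, hz, hc⟩
      refine ⟨z⁻¹, Subgroup.inv_mem _ hz, ?_⟩
      have := isConj_central_mul (Subgroup.inv_mem _ hz) hc.symm
      rwa [inv_mul_cancel_left] at this
    · rintro g h k ⟨z, hz, hc⟩ ⟨z', hz', hc'⟩
      refine ⟨z' * z, Subgroup.mul_mem _ hz' hz, ?_⟩
      have := isConj_central_mul hz' hc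
      rw [← mul_assoc] at this
      exact this.trans hc'

variable [Fintype G] [DecidableEq G]

theorem norm_central {χ : G → ℂ} (hχ : IsIrrCharacter G χ) {z : G}
    (hz : z ∈ Subgroup.center G) : ‖χ z‖ = ‖χ 1‖ := by
  obtain ⟨n, ρ, hirr, rfl⟩ := hχ
  apply norm_character_eq_of_comm ρ hirr z
  intro g
  change ρ z * ρ g = ρ g * ρ z
  rw [← map_mul, ← map_mul, (Subgroup.mem_center_iff.mp hz g)]

theorem card_class_central_mul {z : G} (hz : z ∈ Subgroup.center G) (g : G) :
    (Finset.univ.filter (fun x : G => IsConj x (z * g))).card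
      = (Finset.univ.filter (fun x : G => IsConj x g)).card := by
  symm
  refine Finset.card_bij (fun x _ => z * x) ?_ ?_ ?_
  · intro x hx
    simp only [Finset.mem_filter, Finset.mem_univ, true_and] at hx ⊢
    exact isConj_central_mul hz hx
  · intro x _ y _ h
    exact mul_left_cancel h
  · intro y hy
    simp only [Finset.mem_filter, Finset.mem_univ, true_and] at hy
    refine ⟨z⁻¹ * y, ?_, by rw [mul_inv_cancel_left]⟩
    simp only [Finset.mem_filter, Finset.mem_univ, true_and]
    have := isConj_central_mul (Subgroup.inv_mem _ hz) hy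
    rwa [inv_mul_cancel_left] at this

theorem card_class_of_isConj {g h : G} (hc : IsConj g h) :
    (Finset.univ.filter (fun x : G => IsConj x g)).card
      = (Finset.univ.filter (fun x : G => IsConj x h)).card := by
  congr 1
  ext x
  simp only [Finset.mem_filter, Finset.mem_univ, true_and]
  exact ⟨fun h' => h'.trans hc, fun h' => h'.trans hc.symm⟩

/-- The summand `|Cl g| χ(g)/χ(1) · conj χ(g)`. -/
noncomputable def omegaTerm (χ : G → ℂ) (g : G) : ℂ :=
  ((Finset.univ.filter (fun x : G => IsConj x g)).card : ℂ) * χ g / χ 1 * conj (χ g)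

theorem omegaTerm_eq_of_rel {χ : G → ℂ} (hχ : IsIrrCharacter G χ) {g h : G}
    (hr : (centralConjSetoid G).r g h) : omegaTerm χ g = omegaTerm χ h := by
  obtain ⟨z, hz, hc⟩ := hr
  have hcf := IsCharacter.isClassFunction (IsIrrCharacter.isCharacter hχ)
  have h1 : (Finset.univ.filter (fun x : G => IsConj x h)).card
      = (Finset.univ.filter (fun x : G => IsConj x g)).card := by
    rw [← card_class_of_isConj hc, card_class_central_mul hz]
  have h2 : χ h = χ z * χ g / χ 1 := by
    obtain ⟨c, hc'⟩ := isConj_iff.mp hc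
    rw [← hc', hcf]
    exact apply_central_mul hχ z (fun g => (Subgroup.mem_center_iff.mp hz g).symm) g
  have h3 : χ z * conj (χ z) = χ 1 * conj (χ 1) := by
    rw [Complex.mul_conj, Complex.mul_conj, Complex.normSq_eq_norm_sq, Complex.normSq_eq_norm_sq,
      norm_central hχ hz]
  have h10 : χ 1 ≠ 0 := IsIrrCharacter.apply_one_ne_zero hχ
  have h10' : conj (χ 1) ≠ 0 := by
    intro h; apply h10; simpa using h
  unfold omegaTerm
  rw [h1, h2, map_div₀, map_mul]
  have : ((Finset.univ.filter (fun x : G => IsConj x g)).card : ℂ) * (χ z * χ g / χ 1) / χ 1 *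
      (conj (χ z) * conj (χ g) / conj (χ 1))
      = ((Finset.univ.filter (fun x : G => IsConj x g)).card : ℂ) * χ g / χ 1 * conj (χ g)
        * ((χ z * conj (χ z)) / (χ 1 * conj (χ 1))) := by
    field_simp
  rw [this, h3, div_self (mul_ne_zero h10 h10'), mul_one]

theorem isIntegral_omegaTerm {χ : G → ℂ} (hχ : IsIrrCharacter G χ) (g : G) :
    IsIntegral ℤ (omegaTerm χ g) := by
  unfold omegaTerm
  apply IsIntegral.mul (isIntegral_omega hχ g)
  exact IsCharacter.isIntegral (IsCharacter.conj (IsIrrCharacter.isCharacter hχ)) g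

/-- Size of a class of the relation, at a non-vanishing element of a faithful character. -/
theorem card_rel_class {χ : G → ℂ} (hχ : IsIrrCharacter G χ)
    (hfaith : ∀ g, χ g = χ 1 → g = 1) (g : G) (hg : χ g ≠ 0)
    [DecidablePred fun x => (centralConjSetoid G).r g x] :
    (Finset.univ.filter (fun x : G => (centralConjSetoid G).r g x)).card
      = Nat.card (Subgroup.center G) * (Finset.univ.filter (fun x : G => IsConj x g)).card := by
  classical
  have hcf := IsCharacter.isClassFunction (IsIrrCharacter.isCharacter hχ)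
  have h10 : χ 1 ≠ 0 := IsIrrCharacter.apply_one_ne_zero hχ
  set Zf : Finset G := Finset.univ.filter (fun z : G => z ∈ Subgroup.center G) with hZf
  have hZcard : Zf.card = Nat.card (Subgroup.center G) := by
    rw [Nat.card_eq_fintype_card, ← Fintype.card_subtype]
  have himg : (Finset.univ.filter (fun x : G => (centralConjSetoid G).r g x))
      = (Zf ×ˢ (Finset.univ.filter (fun x : G => IsConj x g))).image (fun p => p.1 * p.2) := by
    ext h
    simp only [Finset.mem_filter, Finset.mem_univ, true_and, Finset.mem_image, Finset.mem_product,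
      Prod.exists, hZf]
    constructor
    · rintro ⟨z, hz, hc⟩
      refine ⟨z, z⁻¹ * h, ⟨hz, ?_⟩, by rw [mul_inv_cancel_left]⟩
      have := isConj_central_mul (Subgroup.inv_mem _ hz) hc.symm
      rwa [inv_mul_cancel_left] at this
    · rintro ⟨z, x, ⟨hz, hx⟩, rfl⟩
      exact ⟨z, hz, (isConj_central_mul hz hx).symm⟩
  rw [himg, Finset.card_image_of_injOn, Finset.card_product, hZcard]
  rintro ⟨z, x⟩ hzx ⟨z', x'⟩ hzx' heq
  simp only [Finset.coe_product, Set.mem_prod, Finset.mem_coe, Finset.mem_filter, Finset.mem_univ,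
    true_and, hZf] at hzx hzx'
  simp only at heq
  obtain ⟨hz, hx⟩ := hzx
  obtain ⟨hz', hx'⟩ := hzx'
  have hw : z'⁻¹ * z ∈ Subgroup.center G := Subgroup.mul_mem _ (Subgroup.inv_mem _ hz') hz
  have hx'eq : x' = (z'⁻¹ * z) * x := by
    rw [mul_assoc, heq, inv_mul_cancel_left]
  have hχx : χ x = χ g := by
    obtain ⟨c, hc⟩ := isConj_iff.mp hx
    rw [← hc, hcf]
  have hχx' : χ x' = χ g := by
    obtain ⟨c, hc⟩ := isConj_iff.mp hx'
    rw [← hc, hcf]
  have h5 := apply_central_mul hχ (z'⁻¹ * z)
    (fun g => (Subgroup.mem_center_iff.mp hw g).symm) x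
  rw [← hx'eq, hχx', hχx] at h5
  have h6 : χ (z'⁻¹ * z) = χ 1 := by
    rw [eq_div_iff h10] at h5
    have : χ 1 * χ g = χ (z'⁻¹ * z) * χ g := by rw [mul_comm]; exact h5
    exact (mul_right_cancel₀ hg this).symm
  have h7 := hfaith _ h6
  have hzz : z = z' := by
    have : z' * (z'⁻¹ * z) = z' * 1 := by rw [h7]
    rwa [mul_inv_cancel_left, mul_one] at this
  subst hzz
  have hxx : x = x' := mul_left_cancel heq
  rw [hxx]

/-- For a faithful irreducible character, the degree divides the index of the centre. -/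
theorem degree_dvd_index_center_of_faithful {χ : G → ℂ} (hχ : IsIrrCharacter G χ)
    (hfaith : ∀ g, χ g = χ 1 → g = 1) (n : ℕ) (hn : χ 1 = n) :
    n ∣ (Subgroup.center G).index := by
  classical
  have h10 : χ 1 ≠ 0 := IsIrrCharacter.apply_one_ne_zero hχ
  have hn0 : n ≠ 0 := by
    intro h; apply h10; rw [hn, h]; simp
  apply dvd_of_isIntegral_div _ _ hn0
  set r := centralConjSetoid G with hr
  set F : Quotient r → ℂ := Quotient.lift (omegaTerm χ) (fun a b hab => omegaTerm_eq_of_rel hχ hab)
    with hF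
  have hsum := sum_over_quotient r F
  have hint : IsIntegral ℤ (∑ q : Quotient r, F q) := by
    apply IsIntegral.sum
    intro q _
    induction q using Quotient.inductionOn with
    | _ g => exact isIntegral_omegaTerm hχ g
  rw [← hsum] at hint
  have hZ0 : (Nat.card (Subgroup.center G) : ℂ) ≠ 0 := by
    exact_mod_cast (Nat.card_pos (α := Subgroup.center G)).ne'
  have hterm : ∀ g : G, F (Quotient.mk r g) /
      ((Finset.univ.filter (fun x : G => r.r g x)).card : ℂ)
      = χ g * conj (χ g) / (χ 1 * Nat.card (Subgroup.center G)) := by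
    intro g
    by_cases hg : χ g = 0
    · have : F (Quotient.mk r g) = 0 := by
        show omegaTerm χ g = 0
        unfold omegaTerm
        rw [hg]; simp
      rw [this, hg]; simp
    · rw [card_rel_class hχ hfaith g hg]
      show omegaTerm χ g / _ = _
      unfold omegaTerm
      have hpos : ((Finset.univ.filter (fun x : G => IsConj x g)).card : ℂ) ≠ 0 := by
        have : 0 < (Finset.univ.filter (fun x : G => IsConj x g)).card :=
          Finset.card_pos.mpr ⟨g, Finset.mem_filter.mpr ⟨Finset.mem_univ _, IsConj.refl g⟩⟩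
        exact_mod_cast this.ne'
      push_cast
      field_simp
  rw [Finset.sum_congr rfl (fun g _ => hterm g), ← Finset.sum_div] at hint
  have h1 := classInner_irr_self hχ
  rw [classInner_def] at h1
  have hG : (Nat.card G : ℂ) ≠ 0 := card_ne_zero_complex
  have h2 : ∑ g : G, χ g * conj (χ g) = (Nat.card G : ℂ) := by
    field_simp at h1
    exact h1
  rw [h2, hn] at hint
  have h3 : (Nat.card G : ℂ) / ((n : ℂ) * Nat.card (Subgroup.center G))
      = ((Subgroup.center G).index : ℂ) / n := by
    have := Subgroup.card_mul_index (Subgroup.center G)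
    rw [← this]
    push_cast
    have hn0' : (n : ℂ) ≠ 0 := by exact_mod_cast hn0
    field_simp
  rw [h3] at hint
  exact hint

end Center


section Deflate

universe u

variable {G : Type u} [Group G]

/-- Deflation: an irreducible character trivial on a normal subgroup comes from the quotient. -/
theorem IsIrrCharacter.deflate [Finite G] {χ : G → ℂ} (hχ : IsIrrCharacter G χ)
    (N : Subgroup G) [N.Normal] (hN : ∀ n ∈ N, χ n = χ 1) :
    ∃ ψ : G ⧸ N → ℂ, IsIrrCharacter (G ⧸ N) ψ ∧ ∀ g : G, ψ (QuotientGroup.mk g) = χ g := by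
  obtain ⟨n, ρ, hirr, rfl⟩ := hχ
  have hker : N ≤ MonoidHom.ker ρ := fun x hx => by
    rw [MonoidHom.mem_ker]; exact rep_eq_one_of_char_eq ρ x (hN x hx)
  let ρ' : Representation ℂ (G ⧸ N) (Fin n → ℂ) := QuotientGroup.lift N ρ hker
  have hcomp : MonoidHom.comp ρ' (QuotientGroup.mk' N) = ρ := by
    ext g : 1
    rfl
  refine ⟨ρ'.character, ⟨n, ρ', ?_, rfl⟩, fun g => rfl⟩
  have h' : Representation.IsIrreducible
      (MonoidHom.comp ρ' (QuotientGroup.mk' N) : Representation ℂ G (Fin n → ℂ)) := by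
    rw [hcomp]; exact hirr
  exact (subrepCompOrderIso ρ' (QuotientGroup.mk' N)
    (QuotientGroup.mk'_surjective N)).isSimpleOrder_iff.mpr h'

/-- Deflation of characters. -/
theorem IsCharacter.deflate [Finite G] {χ : G → ℂ} (hχ : IsCharacter G χ)
    (N : Subgroup G) [N.Normal] (hN : ∀ n ∈ N, χ n = χ 1) :
    ∃ ψ : G ⧸ N → ℂ, IsCharacter (G ⧸ N) ψ ∧ ∀ g : G, ψ (QuotientGroup.mk g) = χ g := by
  obtain ⟨n, ρ, rfl⟩ := hχ
  have hker : N ≤ MonoidHom.ker ρ := fun x hx => by
    rw [MonoidHom.mem_ker]; exact rep_eq_one_of_char_eq ρ x (hN x hx)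
  let ρ' : Representation ℂ (G ⧸ N) (Fin n → ℂ) := QuotientGroup.lift N ρ hker
  exact ⟨ρ'.character, ⟨n, ρ', rfl⟩, fun g => rfl⟩

/-- If `[A, G]` lies in the kernel of the irreducible character `χ`, then `χ(1)` divides the
index of `A`. -/
theorem degree_dvd_index_of_commutator_ker [Finite G] {χ : G → ℂ}
    (hχ : IsIrrCharacter G χ) (A : Subgroup G)
    (hA : ∀ a ∈ A, ∀ g : G, χ (a * g * a⁻¹ * g⁻¹) = χ 1) (n : ℕ) (hn : χ 1 = n) :
    n ∣ A.index := by
  classical
  obtain ⟨K, hKn, hK⟩ := exists_ker (IsIrrCharacter.isCharacter hχ)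
  haveI := hKn
  obtain ⟨ψ, hψ, hψv⟩ := IsIrrCharacter.deflate hχ K (fun k hk => (hK k).mp hk)
  haveI : Fintype (G ⧸ K) := Fintype.ofFinite _
  have hψ1 : ψ 1 = χ 1 := by rw [← hψv 1]; rfl
  have hfaith : ∀ q : G ⧸ K, ψ q = ψ 1 → q = 1 := by
    intro q hq
    induction q using QuotientGroup.induction_on with
    | H g =>
      rw [hψv, hψ1] at hq
      exact (QuotientGroup.eq_one_iff g).mpr ((hK g).mpr hq)
  have h1 := degree_dvd_index_center_of_faithful hψ hfaith n (by rw [hψ1, hn])
  have hle : A.map (QuotientGroup.mk' K) ≤ Subgroup.center (G ⧸ K) := by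
    rintro _ ⟨a, ha, rfl⟩
    rw [Subgroup.mem_center_iff]
    intro q
    induction q using QuotientGroup.induction_on with
    | H g =>
      have hmem : (a * g * a⁻¹ * g⁻¹) ∈ K := (hK _).mpr (hA a ha g)
      have h2 : ((a * g * a⁻¹ * g⁻¹ : G) : G ⧸ K) = 1 := (QuotientGroup.eq_one_iff _).mpr hmem
      show (g : G ⧸ K) * (a : G ⧸ K) = (a : G ⧸ K) * (g : G ⧸ K)
      have h3 : a * g = (a * g * a⁻¹ * g⁻¹) * (g * a) := by group
      have h4 : ((a * g : G) : G ⧸ K) = ((g * a : G) : G ⧸ K) := by
        conv_lhs => rw [h3, QuotientGroup.mk_mul, h2, one_mul]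
      rw [← QuotientGroup.mk_mul, ← QuotientGroup.mk_mul, h4]
  exact h1.trans ((Subgroup.index_dvd_of_le hle).trans
    (Subgroup.index_map_dvd A (QuotientGroup.mk'_surjective K)))

/-- The degree of an irreducible character divides the index of the centre. -/
theorem degree_dvd_index_center [Finite G] {χ : G → ℂ}
    (hχ : IsIrrCharacter G χ) (n : ℕ) (hn : χ 1 = n) : n ∣ (Subgroup.center G).index := by
  apply degree_dvd_index_of_commutator_ker hχ _ _ n hn
  intro a ha g
  have : a * g * a⁻¹ * g⁻¹ = 1 := by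
    have h := Subgroup.mem_center_iff.mp ha g
    rw [← h]; group
  rw [this]

end Deflate

end Cfsg.Agent.Lib.Helper2_CharCenter
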