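import Mathlib
import Cfsg.Prelude.Def_Characters
import Cfsg.Agent.Lib.Helper2_ClassFn
import Cfsg.Agent.Lib.Helper2_CharBasic
import Cfsg.Agent.Lib.Helper2_CharOrtho
import Cfsg.Agent.Lib.Helper2_CharDeg

set_option autoImplicit false

/-!
# Representations with equal characters are equivalent
-/

namespace Cfsg.Agent.Lib.Helper2_RepEquiv

open Cfsg
open Cfsg.Agent.Lib.Helper2_ClassFn
open Cfsg.Agent.Lib.Helper2_CharBasic
open Cfsg.Agent.Lib.Helper2_CharOrtho
open Cfsg.Agent.Lib.Helper2_CharDeg
open scoped ComplexConjugate

universe u v w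

variable {G : Type u} [Group G]

section Range

variable {V : Type*} {W : Type*} [AddCommGroup V] [Module ℂ V] [AddCommGroup W] [Module ℂ W]
  {τ : Representation ℂ G V} {ρ : Representation ℂ G W}

/-- The range of an intertwining map, as a subrepresentation. -/
def rangeSubrep (f : Representation.IntertwiningMap τ ρ) : Subrepresentation ρ where
  toSubmodule := LinearMap.range f.toLinearMap
  apply_mem_toSubmodule g v hv := by
    obtain ⟨w, rfl⟩ := hv
    exact ⟨τ g w, LinearMap.congr_fun (f.isIntertwining' g) w⟩

/-- An injective intertwining map is an equivalence onto its range. -/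
noncomputable def equivRange (f : Representation.IntertwiningMap τ ρ)
    (hf : Function.Injective f.toLinearMap) :
    τ.Equiv (rangeSubrep f).toRepresentation :=
  Representation.Equiv.mk (LinearEquiv.ofInjective f.toLinearMap hf) (by
    intro g
    ext v
    exact LinearMap.congr_fun (f.isIntertwining' g) v)

end Range

section Compl

variable {V : Type*} {W : Type*} [AddCommGroup V] [Module ℂ V] [AddCommGroup W] [Module ℂ W]
  {ρ : Representation ℂ G V} {σ : Representation ℂ G W}

theorem isCompl_toSubmodule {U U' : Subrepresentation ρ} (h : IsCompl U U') :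
    IsCompl U.toSubmodule U'.toSubmodule := by
  constructor
  · rw [disjoint_iff]
    have := h.1.eq_bot
    have h2 : (U ⊓ U').toSubmodule = (⊥ : Subrepresentation ρ).toSubmodule := by rw [this]
    exact h2
  · rw [codisjoint_iff]
    have := h.2.eq_top
    have h2 : (U ⊔ U').toSubmodule = (⊤ : Subrepresentation ρ).toSubmodule := by rw [this]
    exact h2

/-- Gluing equivalences of complementary subrepresentations. -/
theorem equiv_of_isCompl (U U' : Subrepresentation ρ) (T T' : Subrepresentation σ)
    (h : IsCompl U.toSubmodule U'.toSubmodule) (h' : IsCompl T.toSubmodule T'.toSubmodule)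
    (e : U.toRepresentation.Equiv T.toRepresentation)
    (e' : U'.toRepresentation.Equiv T'.toRepresentation) : Nonempty (ρ.Equiv σ) := by
  set E : V ≃ₗ[ℂ] W := (Submodule.prodEquivOfIsCompl _ _ h).symm ≪≫ₗ
    (e.toLinearEquiv.prodCongr e'.toLinearEquiv) ≪≫ₗ (Submodule.prodEquivOfIsCompl _ _ h') with hE
  have hE1 : ∀ u : U.toSubmodule, E u = (e u : W) := by
    intro u
    simp [hE]
  have hE2 : ∀ u : U'.toSubmodule, E u = (e' u : W) := by
    intro u
    simp [hE]
  refine ⟨Representation.Equiv.mk E ?_⟩
  intro g
  ext v
  have hv : v ∈ U.toSubmodule ⊔ U'.toSubmodule := by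
    rw [h.sup_eq_top]; exact Submodule.mem_top
  obtain ⟨u, hu, u', hu', rfl⟩ := Submodule.mem_sup.mp hv
  simp only [LinearMap.coe_comp, LinearEquiv.coe_coe, Function.comp_apply, map_add]
  have e1 : E (ρ g u) = σ g (E u) := by
    have h1 := hE1 ⟨ρ g u, U.apply_mem_toSubmodule g hu⟩
    have h2 := hE1 ⟨u, hu⟩
    simp only at h1 h2
    rw [h1, h2]
    have h3 := LinearMap.congr_fun (e.toIntertwiningMap.isIntertwining' g) ⟨u, hu⟩
    have h4 := congrArg (Subtype.val) h3
    exact h4
  have e2 : E (ρ g u') = σ g (E u') := by
    have h1 := hE2 ⟨ρ g u', U'.apply_mem_toSubmodule g hu'⟩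
    have h2 := hE2 ⟨u', hu'⟩
    simp only at h1 h2
    rw [h1, h2]
    have h3 := LinearMap.congr_fun (e'.toIntertwiningMap.isIntertwining' g) ⟨u', hu'⟩
    have h4 := congrArg (Subtype.val) h3
    exact h4
  rw [e1, e2]

end Compl

section Main

variable [Fintype G]

/-- If the inner product of the character of `ρ` with the character of an irreducible `τ` is
nonzero, there is an injective intertwining map from `τ` to `ρ`. -/
theorem exists_injective_intertwining {n : ℕ} (τ : Representation ℂ G (Fin n → ℂ))
    (hτ : τ.IsIrreducible) {W : Type*} [AddCommGroup W] [Module ℂ W] [FiniteDimensional ℂ W]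
    (ρ : Representation ℂ G W) (h : classInner ρ.character τ.character ≠ 0) :
    ∃ f : Representation.IntertwiningMap τ ρ, Function.Injective f.toLinearMap := by
  haveI : Invertible (Nat.card G : ℂ) := invertibleOfNonzero card_ne_zero_complex
  have h1 := Representation.card_inv_mul_sum_char_mul_char_eq_finrank τ ρ
  have h2 : classInner ρ.character τ.character
      = (Module.finrank ℂ (Representation.IntertwiningMap τ ρ) : ℂ) := by
    rw [← h1, classInner_def]
    congr 1
    refine Finset.sum_congr rfl fun g _ => ?_
    rw [char_inv]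
  rw [h2] at h
  have h3 : Module.finrank ℂ (Representation.IntertwiningMap τ ρ) ≠ 0 := by exact_mod_cast h
  haveI : Nontrivial (Representation.IntertwiningMap τ ρ) :=
    Module.nontrivial_of_finrank_pos (R := ℂ) (Nat.pos_of_ne_zero h3)
  obtain ⟨f, hf⟩ := exists_ne (0 : Representation.IntertwiningMap τ ρ)
  haveI := hτ
  rcases Representation.IsIrreducible.injective_or_eq_zero f with h | h
  · exact ⟨f, fun a b hab => h hab⟩
  · exact absurd h hf

/-- Representations with equal characters are equivalent (induction on the dimension). -/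
theorem equiv_of_char_eq_aux : ∀ (n : ℕ) (V : Type v) (W : Type w) [AddCommGroup V] [Module ℂ V]
    [FiniteDimensional ℂ V] [AddCommGroup W] [Module ℂ W] [FiniteDimensional ℂ W]
    (ρ : Representation ℂ G V) (σ : Representation ℂ G W), Module.finrank ℂ V = n →
    ρ.character = σ.character → Nonempty (ρ.Equiv σ) := by
  intro n
  induction n using Nat.strong_induction_on with
  | _ n ih =>
  intro V W _ _ _ _ _ _ ρ σ hn hchar
  have hdim : Module.finrank ℂ W = n := by
    have h1 := Representation.char_one ρ
    have h2 := Representation.char_one σ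
    rw [hchar, h2, hn] at h1
    exact_mod_cast h1
  by_cases h0 : n = 0
  · subst h0
    haveI : Subsingleton V := Module.finrank_zero_iff.mp hn
    haveI : Subsingleton W := Module.finrank_zero_iff.mp hdim
    exact ⟨Representation.Equiv.mk (LinearEquiv.ofSubsingleton V W)
      (fun g => by ext v; exact Subsingleton.elim _ _)⟩
  have hρc := isCharacter_of_rep ρ
  have hne : ρ.character ≠ 0 := by
    intro h
    have h1 := Representation.char_one ρ
    rw [h, hn] at h1
    simp only [Pi.zero_apply] at h1
    exact h0 (by exact_mod_cast h1.symm)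
  obtain ⟨ψ, hψ, k, hk0, hk⟩ := IsCharacter.exists_constituent hρc hne
  have hψ1 := IsIrrCharacter.apply_one_ne_zero hψ
  obtain ⟨m, τ, hτ, rfl⟩ := hψ
  have hm : 0 < m := by
    rw [Representation.char_one] at hψ1
    simp only [Module.finrank_fintype_fun_eq_card, Fintype.card_fin] at hψ1
    exact Nat.pos_of_ne_zero (by exact_mod_cast hψ1)
  have hc1 : classInner ρ.character τ.character ≠ 0 := by
    rw [hk]; exact_mod_cast hk0.ne'
  have hc2 : classInner σ.character τ.character ≠ 0 := by
    rw [← hchar]; exact hc1
  obtain ⟨f, hf⟩ := exists_injective_intertwining τ hτ ρ hc1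
  obtain ⟨f', hf'⟩ := exists_injective_intertwining τ hτ σ hc2
  haveI : NeZero (Nat.card G : ℂ) := ⟨card_ne_zero_complex⟩
  obtain ⟨U', hc⟩ := exists_isCompl (rangeSubrep f)
  obtain ⟨T', hc'⟩ := exists_isCompl (rangeSubrep f')
  have e1 := equivRange f hf
  have e2 := equivRange f' hf'
  have hchU := character_eq_add_of_isCompl ρ _ _ hc
  have hchT := character_eq_add_of_isCompl σ _ _ hc'
  rw [← Representation.char_iso e1] at hchU
  rw [← Representation.char_iso e2] at hchT
  have hch' : U'.toRepresentation.character = T'.toRepresentation.character := by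
    have : τ.character + U'.toRepresentation.character
        = τ.character + T'.toRepresentation.character := by rw [← hchU, ← hchT, hchar]
    exact add_left_cancel this
  have hlt : Module.finrank ℂ U'.toSubmodule < n := by
    have h1 := Submodule.finrank_add_eq_of_isCompl (isCompl_toSubmodule hc)
    have h2 : Module.finrank ℂ (rangeSubrep f).toSubmodule = m := by
      have := LinearMap.finrank_range_of_inj hf
      simp only [Module.finrank_fintype_fun_eq_card, Fintype.card_fin] at this
      exact this
    rw [h2, hn] at h1
    omega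
  obtain ⟨e'⟩ := ih _ hlt U'.toSubmodule T'.toSubmodule U'.toRepresentation T'.toRepresentation
    rfl hch'
  exact equiv_of_isCompl _ _ _ _ (isCompl_toSubmodule hc) (isCompl_toSubmodule hc')
    (e1.symm.trans e2) e'

end Main

end Cfsg.Agent.Lib.Helper2_RepEquiv
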