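import Mathlib
import Cfsg.Prelude.Def_Characters
import Cfsg.Agent.Lib.Helper2_ClassFn
import Cfsg.Agent.Lib.Helper2_CharBasic
import Cfsg.Agent.Lib.Helper2_CharOrtho
import Cfsg.Agent.Lib.Helper2_CharMore
import Cfsg.Agent.Lib.Helper2_CharDeg
import Cfsg.Agent.Lib.Helper2_RepEquiv

set_option autoImplicit false

/-!
# Extending homomorphisms and characters across a cyclic quotient
-/

namespace Cfsg.Agent.Lib.Helper2_CyclicExt

open Cfsg
open Cfsg.Agent.Lib.Helper2_ClassFn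
open Cfsg.Agent.Lib.Helper2_CharBasic
open Cfsg.Agent.Lib.Helper2_CharOrtho
open Cfsg.Agent.Lib.Helper2_CharMore
open Cfsg.Agent.Lib.Helper2_CharDeg
open Cfsg.Agent.Lib.Helper2_RepEquiv
open scoped ComplexConjugate

universe u

section GroupExt

variable {G : Type*} [Group G] (N : Subgroup G) [hN : N.Normal] {H : Type*} [Group H]

/-- Conjugation compatibility propagates to all integer powers. -/
theorem conj_zpow (g : G) (f : N →* H) (t : H)
    (ht : ∀ n : N, f (MulAut.conjNormal g n) = t * f n * t⁻¹) (i : ℤ) (n : N) :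
    f (MulAut.conjNormal (g ^ i) n) = t ^ i * f n * (t ^ i)⁻¹ := by
  have hinv : ∀ n : N, f (MulAut.conjNormal g⁻¹ n) = t⁻¹ * f n * t := by
    intro n
    have h1 := ht (MulAut.conjNormal g⁻¹ n)
    have h2 : MulAut.conjNormal g (MulAut.conjNormal g⁻¹ n) = n := by
      rw [← MulAut.mul_apply, ← map_mul, mul_inv_cancel, map_one, MulAut.one_apply]
    rw [h2] at h1
    rw [h1]; group
  induction i using Int.induction_on generalizing n with
  | zero => simp
  | succ i ih =>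
    have h1 : g ^ ((i : ℤ) + 1) = g * g ^ (i : ℤ) := by rw [add_comm, zpow_one_add]
    have h2 : t ^ ((i : ℤ) + 1) = t * t ^ (i : ℤ) := by rw [add_comm, zpow_one_add]
    rw [h1, h2, map_mul, MulAut.mul_apply, ht, ih]
    group
  | pred i ih =>
    have h1 : g ^ (-(i : ℤ) - 1) = g⁻¹ * g ^ (-(i : ℤ)) := by
      rw [sub_eq_add_neg, add_comm, zpow_add, zpow_neg_one]
    have h2 : t ^ (-(i : ℤ) - 1) = t⁻¹ * t ^ (-(i : ℤ)) := by
      rw [sub_eq_add_neg, add_comm, zpow_add, zpow_neg_one]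
    rw [h1, h2, map_mul, MulAut.mul_apply, hinv, ih]
    group

/-- Extending a homomorphism from a normal subgroup across a cyclic quotient generated by `g`. -/
theorem exists_hom_extension (g : G) (hgen : ∀ x : G, ∃ i : ℤ, x * g ^ (-i) ∈ N) (m : ℕ)
    (hm : g ^ m ∈ N) (hmin : ∀ i : ℤ, g ^ i ∈ N → (m : ℤ) ∣ i) (f : N →* H) (t : H)
    (ht : ∀ n : N, f (MulAut.conjNormal g n) = t * f n * t⁻¹) (htm : t ^ m = f ⟨g ^ m, hm⟩) :
    ∃ F : G →* H, (∀ n : N, F n = f n) ∧ F g = t := by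
  let φ : Multiplicative ℤ →* MulAut N := (MulAut.conjNormal).comp (zpowersHom G g)
  have hπ : ∀ z : Multiplicative ℤ, N.subtype.comp (φ z).toMonoidHom
      = (MulAut.conj (zpowersHom G g z)).toMonoidHom.comp N.subtype := by
    intro z
    ext n
    change ((MulAut.conjNormal (g ^ (Multiplicative.toAdd z)) n : N) : G)
      = g ^ (Multiplicative.toAdd z) * n * (g ^ (Multiplicative.toAdd z))⁻¹
    exact MulAut.conjNormal_apply _ _
  have hΦ : ∀ z : Multiplicative ℤ, f.comp (φ z).toMonoidHom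
      = (MulAut.conj (zpowersHom H t z)).toMonoidHom.comp f := by
    intro z
    ext n
    have := conj_zpow N g f t ht (Multiplicative.toAdd z) n
    change f (MulAut.conjNormal (g ^ (Multiplicative.toAdd z)) n)
      = t ^ (Multiplicative.toAdd z) * f n * (t ^ (Multiplicative.toAdd z))⁻¹
    exact this
  let π : N ⋊[φ] Multiplicative ℤ →* G := SemidirectProduct.lift N.subtype (zpowersHom G g) hπ
  let Φ : N ⋊[φ] Multiplicative ℤ →* H := SemidirectProduct.lift f (zpowersHom H t) hΦ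
  have hπa : ∀ a : N ⋊[φ] Multiplicative ℤ, π a = (a.left : G) * g ^ (Multiplicative.toAdd a.right) :=
    fun a => rfl
  have hΦa : ∀ a : N ⋊[φ] Multiplicative ℤ, Φ a = f a.left * t ^ (Multiplicative.toAdd a.right) :=
    fun a => rfl
  have hsurj : Function.Surjective π := by
    intro x
    obtain ⟨i, hi⟩ := hgen x
    refine ⟨⟨⟨x * g ^ (-i), hi⟩, Multiplicative.ofAdd i⟩, ?_⟩
    rw [hπa]
    simp
  have hker : π.ker ≤ Φ.ker := by
    intro a ha
    rw [MonoidHom.mem_ker, hπa] at ha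
    rw [MonoidHom.mem_ker, hΦa]
    set i := Multiplicative.toAdd a.right with hi
    have h1 : (a.left : G) = g ^ (-i) := by
      rw [zpow_neg]; exact eq_inv_of_mul_eq_one_left ha
    have h2 : g ^ (-i) ∈ N := by rw [← h1]; exact a.left.2
    obtain ⟨k, hk⟩ := hmin _ h2
    have h3 : a.left = (⟨g ^ m, hm⟩ : N) ^ k := by
      ext
      rw [h1, hk]
      push_cast
      rw [zpow_mul, zpow_natCast]
    have h4 : i = -((m : ℤ) * k) := by omega
    rw [h3, map_zpow, ← htm, h4, zpow_neg, ← zpow_natCast, ← zpow_mul]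
    group
  refine ⟨MonoidHom.liftOfSurjective π hsurj ⟨Φ, hker⟩, ?_, ?_⟩
  · intro n
    have h1 : π ⟨n, 1⟩ = (n : G) := by rw [hπa]; simp
    have h2 : Φ ⟨n, 1⟩ = f n := by rw [hΦa]; simp
    rw [← h1, MonoidHom.liftOfRightInverse_comp_apply]
    exact h2
  · have h1 : π ⟨1, Multiplicative.ofAdd 1⟩ = g := by rw [hπa]; simp
    have h2 : Φ ⟨1, Multiplicative.ofAdd 1⟩ = t := by rw [hΦa]; simp
    rw [← h1, MonoidHom.liftOfRightInverse_comp_apply]
    exact h2

end GroupExt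

section Irr

variable {G : Type*} [Group G] {H : Type*} [Group H]

/-- A representation whose restriction along a homomorphism is irreducible is irreducible. -/
theorem isIrreducible_of_comp {V : Type*} [AddCommGroup V] [Module ℂ V]
    (ρ : Representation ℂ G V) (f : H →* G)
    (h : Representation.IsIrreducible (MonoidHom.comp ρ f : Representation ℂ H V)) :
    ρ.IsIrreducible := by
  haveI : Nontrivial (Subrepresentation ρ) := by
    obtain ⟨a, b, hab⟩ := h.exists_pair_ne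
    refine ⟨⟨⊥, ⊤, ?_⟩⟩
    intro hbt
    apply hab
    have h1 : (⊥ : Submodule ℂ V) = ⊤ := congrArg Subrepresentation.toSubmodule hbt
    apply Subrepresentation.toSubmodule_injective
    have h2 : ∀ S : Submodule ℂ V, S = ⊥ := by
      intro S
      apply le_antisymm _ bot_le
      rw [h1]; exact le_top
    rw [h2 a.toSubmodule, h2 b.toSubmodule]
  refine { eq_bot_or_eq_top := ?_ }
  intro W
  let W' : Subrepresentation (MonoidHom.comp ρ f : Representation ℂ H V) :=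
    ⟨W.toSubmodule, fun x v hv => W.apply_mem_toSubmodule (f x) hv⟩
  rcases h.eq_bot_or_eq_top W' with h1 | h1
  · left
    apply Subrepresentation.toSubmodule_injective
    have := congrArg Subrepresentation.toSubmodule h1
    exact this
  · right
    apply Subrepresentation.toSubmodule_injective
    have := congrArg Subrepresentation.toSubmodule h1
    exact this

end Irr

section Main

variable {G : Type u} [Group G] [Fintype G] (N : Subgroup G) [hN : N.Normal]

/-- An invariant irreducible character of a normal subgroup with cyclic quotient extends. -/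
theorem exists_extension_of_cyclic (hcyc : IsCyclic (G ⧸ N)) (ϑ : N → ℂ)
    (hϑ : IsIrrCharacter N ϑ)
    (hinv : ∀ (g : G) (n : N), ϑ ⟨g * n * g⁻¹, hN.conj_mem (n : G) n.2 g⟩ = ϑ n) :
    ∃ χ : G → ℂ, IsIrrCharacter G χ ∧ ∀ n : N, χ n = ϑ n := by
  classical
  haveI : Fintype N := Fintype.ofFinite _
  have hϑ1 := IsIrrCharacter.apply_one_ne_zero hϑ
  obtain ⟨d, ρ, hirr, rfl⟩ := hϑ
  obtain ⟨q, hq⟩ := hcyc.exists_generator
  obtain ⟨g, rfl⟩ := QuotientGroup.mk_surjective q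
  -- generation
  have hgen : ∀ x : G, ∃ i : ℤ, x * g ^ (-i) ∈ N := by
    intro x
    obtain ⟨i, hi⟩ := Subgroup.mem_zpowers_iff.mp (hq (QuotientGroup.mk x))
    refine ⟨i, ?_⟩
    rw [← QuotientGroup.eq_one_iff, QuotientGroup.mk_mul, QuotientGroup.mk_zpow, ← hi]
    group
  set m := orderOf (QuotientGroup.mk g : G ⧸ N) with hmdef
  have hm0 : 0 < m := orderOf_pos _
  have hm : g ^ m ∈ N := by
    rw [← QuotientGroup.eq_one_iff, QuotientGroup.mk_pow]
    exact pow_orderOf_eq_one _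
  have hmin : ∀ i : ℤ, g ^ i ∈ N → (m : ℤ) ∣ i := by
    intro i hi
    rw [← QuotientGroup.eq_one_iff, QuotientGroup.mk_zpow] at hi
    exact orderOf_dvd_iff_zpow_eq_one.mpr hi
  -- the conjugate representation
  let ρg : Representation ℂ N (Fin d → ℂ) := MonoidHom.comp ρ (MulAut.conjNormal g).toMonoidHom
  have hchar : ρ.character = ρg.character := by
    ext n
    have h1 := hinv g n
    have h2 : (MulAut.conjNormal g n : N) = ⟨g * n * g⁻¹, hN.conj_mem (n : G) n.2 g⟩ := by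
      ext; exact MulAut.conjNormal_apply g n
    change ρ.character n = ρ.character (MulAut.conjNormal g n)
    rw [h2, h1]
  obtain ⟨e⟩ := equiv_of_char_eq_aux _ _ _ ρ ρg rfl hchar
  let T : ((Fin d → ℂ) →ₗ[ℂ] (Fin d → ℂ))ˣ :=
    ⟨e.toLinearEquiv.toLinearMap, e.toLinearEquiv.symm.toLinearMap, e.toLinearEquiv.comp_symm,
      e.toLinearEquiv.symm_comp⟩
  let ρu : N →* ((Fin d → ℂ) →ₗ[ℂ] (Fin d → ℂ))ˣ := MonoidHom.toHomUnits ρ
  have hT : ∀ n : N, ρu (MulAut.conjNormal g n) = T * ρu n * T⁻¹ := by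
    intro n
    rw [eq_mul_inv_iff_mul_eq]
    apply Units.ext
    have := e.toIntertwiningMap.isIntertwining' n
    exact this.symm
  -- Schur
  set a : N := ⟨g ^ m, hm⟩ with ha
  have hTm : ∀ n : N, ρu a * ρu n * (ρu a)⁻¹ = T ^ m * ρu n * (T ^ m)⁻¹ := by
    intro n
    have h1 := conj_zpow N g ρu T hT (m : ℤ) n
    rw [zpow_natCast, zpow_natCast] at h1
    rw [← h1, ← map_inv, ← map_mul, ← map_mul]
    congr 1
  set S := (ρu a)⁻¹ * T ^ m with hS
  have hScomm : ∀ n : N, S * ρu n = ρu n * S := by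
    intro n
    have h1 := hTm n
    rw [hS]
    calc (ρu a)⁻¹ * T ^ m * ρu n = (ρu a)⁻¹ * (T ^ m * ρu n * (T ^ m)⁻¹) * T ^ m := by group
      _ = (ρu a)⁻¹ * (ρu a * ρu n * (ρu a)⁻¹) * T ^ m := by rw [h1]
      _ = ρu n * ((ρu a)⁻¹ * T ^ m) := by group
  obtain ⟨c, hc⟩ := schur_scalar ρ hirr (S : (Fin d → ℂ) →ₗ[ℂ] (Fin d → ℂ)) (by
    intro n
    have := congrArg Units.val (hScomm n)
    exact this)
  have hd : 0 < d := by
    rw [Representation.char_one] at hϑ1
    simp only [Module.finrank_fintype_fun_eq_card, Fintype.card_fin] at hϑ1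
    exact Nat.pos_of_ne_zero (by exact_mod_cast hϑ1)
  have hc0 : c ≠ 0 := by
    rintro rfl
    rw [zero_smul] at hc
    have h1 : ((S * S⁻¹ : ((Fin d → ℂ) →ₗ[ℂ] (Fin d → ℂ))ˣ) : (Fin d → ℂ) →ₗ[ℂ] (Fin d → ℂ)) = 1 := by
      rw [mul_inv_cancel]; rfl
    rw [Units.val_mul, hc, zero_mul] at h1
    have h2 := LinearMap.congr_fun h1 (fun _ => 1)
    have h3 := congrFun h2 ⟨0, hd⟩
    simp at h3
  obtain ⟨z, hz⟩ := IsAlgClosed.exists_pow_nat_eq c hm0
  have hz0 : z ≠ 0 := by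
    rintro rfl
    rw [zero_pow hm0.ne'] at hz
    exact hc0 hz.symm
  let zu : ((Fin d → ℂ) →ₗ[ℂ] (Fin d → ℂ))ˣ :=
    Units.map (algebraMap ℂ ((Fin d → ℂ) →ₗ[ℂ] (Fin d → ℂ))).toMonoidHom (Units.mk0 z hz0)
  have hzu : ∀ x : ((Fin d → ℂ) →ₗ[ℂ] (Fin d → ℂ))ˣ, zu * x = x * zu := by
    intro x
    apply Units.ext
    exact Algebra.commutes z (x : (Fin d → ℂ) →ₗ[ℂ] (Fin d → ℂ))
  have hzum : zu ^ m = S := by
    apply Units.ext
    rw [Units.val_pow_eq_pow_val, hc]
    change (algebraMap ℂ ((Fin d → ℂ) →ₗ[ℂ] (Fin d → ℂ)) z) ^ m = _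
    rw [← map_pow, hz, Algebra.algebraMap_eq_smul_one]
    rfl
  set t := zu⁻¹ * T with ht
  have hzui : ∀ x : ((Fin d → ℂ) →ₗ[ℂ] (Fin d → ℂ))ˣ, zu⁻¹ * x = x * zu⁻¹ := by
    intro x
    rw [eq_mul_inv_iff_mul_eq, mul_assoc, ← hzu, ← mul_assoc, inv_mul_cancel, one_mul]
  have ht1 : ∀ n : N, ρu (MulAut.conjNormal g n) = t * ρu n * t⁻¹ := by
    intro n
    rw [hT n, ht, mul_inv_rev, inv_inv]
    calc T * ρu n * T⁻¹ = zu⁻¹ * zu * (T * ρu n * T⁻¹) := by rw [inv_mul_cancel, one_mul]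
      _ = zu⁻¹ * ((T * ρu n * T⁻¹) * zu) := by rw [mul_assoc, hzu]
      _ = zu⁻¹ * T * ρu n * (T⁻¹ * zu) := by group
  have ht2 : t ^ m = ρu a := by
    have hcomm : Commute zu⁻¹ T := hzui T
    have hcomm2 : Commute (zu ^ m)⁻¹ (T ^ m) := (Commute.pow_left (hzu (T ^ m)) m).inv_left
    rw [ht, hcomm.mul_pow, inv_pow, hcomm2.eq, hzum, hS]
    group
  obtain ⟨F, hF1, -⟩ := exists_hom_extension N g hgen m hm hmin ρu t ht1 ht2
  let ρt : Representation ℂ G (Fin d → ℂ) := (Units.coeHom _).comp F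
  have hρt : ∀ n : N, ρt n = ρ n := by
    intro n
    change ((F n : ((Fin d → ℂ) →ₗ[ℂ] (Fin d → ℂ))ˣ) : (Fin d → ℂ) →ₗ[ℂ] (Fin d → ℂ)) = ρ n
    rw [hF1]
    rfl
  have hcomp : (MonoidHom.comp ρt N.subtype : Representation ℂ N (Fin d → ℂ)) = ρ := by
    ext n : 1
    exact hρt n
  refine ⟨ρt.character, ⟨d, ρt, ?_, rfl⟩, ?_⟩
  · apply isIrreducible_of_comp ρt N.subtype
    rw [hcomp]
    exact hirr
  · intro n
    change LinearMap.trace ℂ _ (ρt n) = LinearMap.trace ℂ _ (ρ n)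
    rw [hρt]

end Main

end Cfsg.Agent.Lib.Helper2_CyclicExt
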