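import Mathlib
import Cfsg.Prelude.Def_Characters
import Cfsg.Agent.Lib.Helper2_ClassFn
import Cfsg.Agent.Lib.Helper2_CharBasic
import Cfsg.Agent.Lib.Helper2_CharOrtho
import Cfsg.Agent.Lib.Helper2_CharDeg
import Cfsg.Agent.S0154

set_option autoImplicit false

/-!
# Galois conjugates of character values: the Burnside AM–GM argument
-/

namespace Cfsg.Agent.Lib.Helper2_CharGalois

open Cfsg
open Cfsg.Agent.Lib.Helper2_ClassFn
open Cfsg.Agent.Lib.Helper2_CharBasic
open Cfsg.Agent.Lib.Helper2_CharOrtho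
open Cfsg.Agent.Lib.Helper2_CharDeg
open Polynomial

/-- Sum of powers `∑ a ∈ l, μ ^ a`. -/
noncomputable def powSum (l : List ℕ) (μ : ℂ) : ℂ := (l.map (fun a => μ ^ a)).sum

theorem powSum_nil (μ : ℂ) : powSum [] μ = 0 := rfl

theorem powSum_append (l l' : List ℕ) (μ : ℂ) : powSum (l ++ l') μ = powSum l μ + powSum l' μ := by
  unfold powSum
  rw [List.map_append, List.sum_append]

theorem powSum_singleton (a : ℕ) (μ : ℂ) : powSum [a] μ = μ ^ a := by
  unfold powSum
  simp

/-- A sum of powers of roots of unity comes from an integral element `β` of the cyclotomic field: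
its images under the embeddings (indexed by the primitive roots) are the values of the sum. -/
theorem exists_cyclotomic_elt (N : ℕ) (hN : 0 < N) (l : List ℕ) :
    ∃ (e : ((CyclotomicField N ℚ) →ₐ[ℚ] ℂ) ≃ primitiveRoots N ℂ) (β : CyclotomicField N ℚ),
      IsIntegral ℤ β ∧ ∀ σ : (CyclotomicField N ℚ) →ₐ[ℚ] ℂ, σ β = powSum l (e σ : ℂ) := by
  unfold powSum
  have : NeZero N := ⟨hN.ne'⟩
  have : IsCyclotomicExtension {N} ℚ (CyclotomicField N ℚ) :=
    CyclotomicField.isCyclotomicExtension N ℚ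
  have hζ : IsPrimitiveRoot (IsCyclotomicExtension.zeta N ℚ (CyclotomicField N ℚ)) N :=
    IsCyclotomicExtension.zeta_spec N ℚ (CyclotomicField N ℚ)
  set ζK := IsCyclotomicExtension.zeta N ℚ (CyclotomicField N ℚ) with hζK
  have hirr : Irreducible (cyclotomic N ℚ) := cyclotomic.irreducible_rat hN
  refine ⟨hζ.embeddingsEquivPrimitiveRoots ℂ hirr, (l.map (fun a => ζK ^ a)).sum, ?_, ?_⟩
  · induction l with
    | nil => simpa using isIntegral_zero
    | cons a l ih =>
      rw [List.map_cons, List.sum_cons]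
      exact IsIntegral.add (IsIntegral.pow (hζ.isIntegral hN) a) ih
  · intro σ
    rw [map_list_sum, List.map_map]
    congr 1
    apply List.map_congr_left
    intro a _
    simp

/-- The product over the primitive `N`-th roots of unity of a sum of powers is an integer, and the
factors vanish simultaneously. -/
theorem prod_primitive_int (N : ℕ) (hN : 0 < N) (l : List ℕ) :
    (∃ z : ℤ, ∏ μ ∈ primitiveRoots N ℂ, powSum l μ = (z : ℂ)) ∧
    ((∃ μ ∈ primitiveRoots N ℂ, powSum l μ = 0) →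
      ∀ μ ∈ primitiveRoots N ℂ, powSum l μ = 0) := by
  have : NeZero N := ⟨hN.ne'⟩
  have : IsCyclotomicExtension {N} ℚ (CyclotomicField N ℚ) :=
    CyclotomicField.isCyclotomicExtension N ℚ
  have : FiniteDimensional ℚ (CyclotomicField N ℚ) :=
    IsCyclotomicExtension.finiteDimensional {N} ℚ (CyclotomicField N ℚ)
  obtain ⟨e, β, hint, hσβ⟩ := exists_cyclotomic_elt N hN l
  have hnorm := Algebra.norm_eq_prod_embeddings ℚ ℂ β
  have hprod : ∏ σ : (CyclotomicField N ℚ) →ₐ[ℚ] ℂ, σ β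
      = ∏ μ ∈ primitiveRoots N ℂ, powSum l μ := by
    rw [← Finset.prod_coe_sort (primitiveRoots N ℂ) (fun μ => powSum l μ)]
    exact Fintype.prod_equiv e _ _ fun σ => hσβ σ
  constructor
  · have hnint : IsIntegral ℤ (Algebra.norm ℚ β) := Algebra.isIntegral_norm ℚ hint
    obtain ⟨z, hz⟩ := IsIntegrallyClosed.isIntegral_iff.mp hnint
    refine ⟨z, ?_⟩
    rw [← hprod, ← hnorm, ← hz]
    simp
  · rintro ⟨μ, hμ, h0⟩ ν hν
    have hβ0 : β = 0 := by
      have h1 : (e.symm ⟨μ, hμ⟩) β = 0 := by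
        rw [hσβ, Equiv.apply_symm_apply]; exact h0
      exact (map_eq_zero_iff _ (e.symm ⟨μ, hμ⟩).toRingHom.injective).mp h1
    have h2 := hσβ (e.symm ⟨ν, hν⟩)
    rw [Equiv.apply_symm_apply, hβ0, map_zero] at h2
    exact h2.symm

/-- If a sum of powers takes a rational value at one primitive root, it takes that value at all. -/
theorem powSum_eq_rat_of_exists (N : ℕ) (hN : 0 < N) (l : List ℕ) (q : ℚ)
    (h : ∃ μ ∈ primitiveRoots N ℂ, powSum l μ = (q : ℂ)) :
    ∀ ν ∈ primitiveRoots N ℂ, powSum l ν = (q : ℂ) := by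
  obtain ⟨e, β, -, hσβ⟩ := exists_cyclotomic_elt N hN l
  obtain ⟨μ, hμ, hq⟩ := h
  intro ν hν
  have hβq : β = algebraMap ℚ (CyclotomicField N ℚ) q := by
    have h1 : (e.symm ⟨μ, hμ⟩) β = (e.symm ⟨μ, hμ⟩) (algebraMap ℚ (CyclotomicField N ℚ) q) := by
      rw [hσβ, Equiv.apply_symm_apply, AlgHom.commutes]
      simpa using hq
    exact (e.symm ⟨μ, hμ⟩).toRingHom.injective h1
  have h2 := hσβ (e.symm ⟨ν, hν⟩)
  rw [Equiv.apply_symm_apply, hβq, AlgHom.commutes] at h2
  rw [← h2]
  simp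

/-- If a sum of powers is constant on the primitive roots, its value is rational. -/
theorem powSum_rat_of_const (N : ℕ) (hN : 0 < N) (l : List ℕ) (c : ℂ)
    (h : ∀ μ ∈ primitiveRoots N ℂ, powSum l μ = c) : ∃ q : ℚ, c = (q : ℂ) := by
  have : NeZero N := ⟨hN.ne'⟩
  have : IsCyclotomicExtension {N} ℚ (CyclotomicField N ℚ) :=
    CyclotomicField.isCyclotomicExtension N ℚ
  have : FiniteDimensional ℚ (CyclotomicField N ℚ) :=
    IsCyclotomicExtension.finiteDimensional {N} ℚ (CyclotomicField N ℚ)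
  obtain ⟨e, β, -, hσβ⟩ := exists_cyclotomic_elt N hN l
  have htr := trace_eq_sum_embeddings (K := ℚ) (L := CyclotomicField N ℚ) ℂ (x := β)
  have hsum : ∑ σ : (CyclotomicField N ℚ) →ₐ[ℚ] ℂ, σ β
      = ((primitiveRoots N ℂ).card : ℂ) * c := by
    rw [Finset.sum_congr rfl (g := fun _ => c), Finset.sum_const, nsmul_eq_mul, Finset.card_univ,
      Fintype.card_congr e, Fintype.card_coe]
    intro σ _
    rw [hσβ σ]
    exact h _ (e σ).2
  have hRpos : ((primitiveRoots N ℂ).card : ℂ) ≠ 0 := by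
    have hprim : IsPrimitiveRoot (Complex.exp (2 * Real.pi * Complex.I / N)) N :=
      Complex.isPrimitiveRoot_exp N hN.ne'
    have : 0 < (primitiveRoots N ℂ).card :=
      Finset.card_pos.mpr ⟨_, (mem_primitiveRoots hN).mpr hprim⟩
    exact_mod_cast this.ne'
  refine ⟨Algebra.trace ℚ (CyclotomicField N ℚ) β / (primitiveRoots N ℂ).card, ?_⟩
  rw [hsum] at htr
  push_cast
  rw [eq_div_iff hRpos, mul_comm, ← htr]
  simp

/-- AM–GM consequence. -/
theorem card_le_sum_of_one_le_prod {ι : Type*} (s : Finset ι) (z : ι → ℝ)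
    (hz : ∀ i ∈ s, 0 ≤ z i) (hprod : 1 ≤ ∏ i ∈ s, z i) : (s.card : ℝ) ≤ ∑ i ∈ s, z i := by
  rcases s.eq_empty_or_nonempty with h | h
  · subst h; simp
  have hm : (0 : ℝ) < s.card := by exact_mod_cast Finset.card_pos.mpr h
  have key := Real.geom_mean_le_arith_mean s (fun _ => (1 : ℝ)) z (fun _ _ => zero_le_one)
    (by simpa using hm) hz
  simp only [Real.rpow_one, Finset.sum_const, nsmul_eq_mul, mul_one, one_mul] at key
  have h1 : (1 : ℝ) ≤ (∏ i ∈ s, z i) ^ ((s.card : ℝ))⁻¹ :=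
    Real.one_le_rpow hprod (by positivity)
  have h2 := h1.trans key
  rwa [le_div_iff₀ hm, one_mul] at h2

/-- If a sum of powers does not vanish at one primitive root, the sum of its squared absolute
values over all primitive roots is at least their number. -/
theorem sum_primitive_ge (N : ℕ) (hN : 0 < N) (l : List ℕ)
    (hne : ∃ μ ∈ primitiveRoots N ℂ, powSum l μ ≠ 0) :
    ((primitiveRoots N ℂ).card : ℝ) ≤ ∑ μ ∈ primitiveRoots N ℂ, ‖powSum l μ‖ ^ 2 := by
  obtain ⟨⟨z, hz⟩, hall⟩ := prod_primitive_int N hN l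
  have hnz : ∀ μ ∈ primitiveRoots N ℂ, powSum l μ ≠ 0 := by
    intro μ hμ h0
    obtain ⟨ν, hν, hν0⟩ := hne
    exact hν0 (hall ⟨μ, hμ, h0⟩ ν hν)
  apply card_le_sum_of_one_le_prod
  · intro i _; positivity
  · rw [Finset.prod_pow, ← norm_prod, hz]
    have hz0 : z ≠ 0 := by
      intro h0
      rw [h0] at hz
      simp only [Int.cast_zero] at hz
      obtain ⟨μ, hμ, h⟩ := Finset.prod_eq_zero_iff.mp hz
      exact hnz μ hμ h
    have h1 : (1 : ℝ) ≤ ‖(z : ℂ)‖ := by
      rw [Complex.norm_intCast]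
      have : (1 : ℤ) ≤ |z| := Int.one_le_abs hz0
      exact_mod_cast this
    nlinarith

section Chars

variable {G : Type*} [Group G] [Finite G]

/-- Character values on powers of `g` are sums of powers of roots of unity. -/
theorem char_pow_list {χ : G → ℂ} (hχ : IsCharacter G χ) (g : G) (N : ℕ) (hN : 0 < N)
    (hgN : g ^ N = 1) :
    ∃ l : List ℕ, ∀ k : ℕ, χ (g ^ k) = powSum l (Complex.exp (2 * Real.pi * Complex.I / N) ^ k) := by
  classical
  have : NeZero N := ⟨hN.ne'⟩
  set ζ := Complex.exp (2 * Real.pi * Complex.I / N) with hζ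
  have hprim : IsPrimitiveRoot ζ N := Complex.isPrimitiveRoot_exp N hN.ne'
  set A : Subgroup G := Subgroup.zpowers g with hA
  have hAcomm : ∀ a b : A, a * b = b * a := by
    intro a b
    have : IsMulCommutative A := inferInstance
    exact this.is_comm.comm a b
  let gA : A := ⟨g, Subgroup.mem_zpowers g⟩
  have hgAN : gA ^ N = 1 := by
    apply Subtype.ext
    rw [Subgroup.coe_pow, Subgroup.coe_one]
    exact hgN
  let Good : (A → ℂ) → Prop := fun f => ∃ l : List ℕ, ∀ k : ℕ, f (gA ^ k) = powSum l (ζ ^ k)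
  have good_zero : Good 0 := ⟨[], fun k => by simp [powSum_nil]⟩
  have good_add : ∀ f f', Good f → Good f' → Good (f + f') := by
    rintro f f' ⟨l, hl⟩ ⟨l', hl'⟩
    refine ⟨l ++ l', fun k => ?_⟩
    rw [Pi.add_apply, hl, hl', powSum_append]
  have good_irr : ∀ lam : A → ℂ, IsIrrCharacter A lam → Good lam := by
    intro lam hlam
    have h1 : lam 1 = 1 := IsIrrCharacter.apply_one_of_comm hAcomm hlam
    obtain ⟨w, hw⟩ := Cfsg.Agent.S0154.exists_hom_of_degree_one lam hlam h1
    have hpow : ((w gA : ℂˣ) : ℂ) ^ N = 1 := by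
      rw [← Units.val_pow_eq_pow_val, ← map_pow, hgAN, map_one, Units.val_one]
    obtain ⟨a, -, ha⟩ := hprim.eq_pow_of_pow_eq_one hpow
    refine ⟨[a], fun k => ?_⟩
    rw [powSum_singleton, hw]
    simp only [map_pow, Units.val_pow_eq_pow_val]
    rw [← ha, ← pow_mul, ← pow_mul, mul_comm]
  have good_char : ∀ f : A → ℂ, IsCharacter A f → Good f := by
    intro f hf
    obtain ⟨m, hm, rfl⟩ := IsCharacter.exists_irr_decomp hf
    clear hf
    induction m using Multiset.induction_on with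
    | empty => simpa using good_zero
    | cons a m ih =>
      rw [Multiset.sum_cons]
      apply good_add
      · exact good_irr a (hm a (Multiset.mem_cons_self a m))
      · exact ih fun ψ hψ => hm ψ (Multiset.mem_cons_of_mem hψ)
  obtain ⟨l, hl⟩ := good_char _ (IsCharacter.restrict hχ A)
  refine ⟨l, fun k => ?_⟩
  rw [← hl k]
  rfl

/-- **Burnside's AM–GM argument**: on a set `S` closed under coprime powers, the sum of `|χ|²`
is at least the number of non-zeros of `χ` in `S`. -/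
theorem card_nonzero_le_sum_sq [DecidableEq G] {χ : G → ℂ} (hχ : IsCharacter G χ) (S : Finset G)
    (hS : ∀ g ∈ S, ∀ k : ℕ, k.Coprime (Nat.card G) → g ^ k ∈ S) :
    ((S.filter (fun g => χ g ≠ 0)).card : ℝ) ≤ ∑ g ∈ S, ‖χ g‖ ^ 2 := by
  classical
  set N := Nat.card G with hNdef
  have hN : 0 < N := Nat.card_pos
  have : NeZero N := ⟨hN.ne'⟩
  set ζ := Complex.exp (2 * Real.pi * Complex.I / N) with hζ
  have hprim : IsPrimitiveRoot ζ N := Complex.isPrimitiveRoot_exp N hN.ne'
  set R := primitiveRoots N ℂ with hR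
  have hζR : ζ ∈ R := (mem_primitiveRoots hN).mpr hprim
  have hRpos : (0 : ℝ) < R.card := by
    exact_mod_cast Finset.card_pos.mpr ⟨ζ, hζR⟩
  have hgN : ∀ g : G, g ^ N = 1 := fun g => pow_card_eq_one'
  choose L hL using fun g : G => char_pow_list hχ g N hN (hgN g)
  -- (b) each primitive root gives the same sum
  have hb : ∀ μ ∈ R, ∑ g ∈ S, ‖powSum (L g) μ‖ ^ 2 = ∑ g ∈ S, ‖χ g‖ ^ 2 := by
    intro μ hμ
    have hμprim : IsPrimitiveRoot μ N := (mem_primitiveRoots hN).mp hμ
    obtain ⟨k, -, hk⟩ := hprim.eq_pow_of_pow_eq_one hμprim.pow_eq_one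
    have hcop : k.Coprime N := by
      rw [← hk] at hμprim
      exact (hprim.pow_iff_coprime hN k).mp hμprim
    have h1 : ∀ g : G, powSum (L g) μ = χ (g ^ k) := by
      intro g
      rw [hL g k, hk]
    simp_rw [h1]
    have hinj : Function.Injective (fun g : G => g ^ k) := (powCoprime hcop.symm).injective
    have himg : S.image (fun g : G => g ^ k) = S := by
      apply Finset.eq_of_subset_of_card_le
      · intro x hx
        obtain ⟨g, hg, rfl⟩ := Finset.mem_image.mp hx
        exact hS g hg k hcop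
      · rw [Finset.card_image_of_injective _ hinj]
    conv_rhs => rw [← himg]
    rw [Finset.sum_image (fun a _ b _ h => hinj h)]
  -- (a) lower bound for nonzero values
  have ha : ∀ g : G, χ g ≠ 0 → (R.card : ℝ) ≤ ∑ μ ∈ R, ‖powSum (L g) μ‖ ^ 2 := by
    intro g hg
    apply sum_primitive_ge N hN (L g)
    refine ⟨ζ, hζR, ?_⟩
    have := hL g 1
    rw [pow_one, pow_one] at this
    rw [← this]
    exact hg
  -- combine
  have hc : ∑ g ∈ S, ∑ μ ∈ R, ‖powSum (L g) μ‖ ^ 2 = (R.card : ℝ) * ∑ g ∈ S, ‖χ g‖ ^ 2 := by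
    rw [Finset.sum_comm, Finset.sum_congr rfl hb, Finset.sum_const, nsmul_eq_mul]
  have hd : ((S.filter (fun g => χ g ≠ 0)).card : ℝ) * (R.card : ℝ)
      ≤ ∑ g ∈ S, ∑ μ ∈ R, ‖powSum (L g) μ‖ ^ 2 := by
    calc ((S.filter (fun g => χ g ≠ 0)).card : ℝ) * (R.card : ℝ)
        = ∑ g ∈ S.filter (fun g => χ g ≠ 0), (R.card : ℝ) := by
          rw [Finset.sum_const, nsmul_eq_mul]
      _ ≤ ∑ g ∈ S.filter (fun g => χ g ≠ 0), ∑ μ ∈ R, ‖powSum (L g) μ‖ ^ 2 :=
          Finset.sum_le_sum fun g hg => ha g (Finset.mem_filter.mp hg).2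
      _ ≤ ∑ g ∈ S, ∑ μ ∈ R, ‖powSum (L g) μ‖ ^ 2 :=
          Finset.sum_le_sum_of_subset_of_nonneg (Finset.filter_subset _ _)
            (fun g _ _ => Finset.sum_nonneg fun μ _ => by positivity)
  rw [hc] at hd
  have : ((S.filter (fun g => χ g ≠ 0)).card : ℝ) * (R.card : ℝ)
      ≤ (∑ g ∈ S, ‖χ g‖ ^ 2) * (R.card : ℝ) := by
    rw [mul_comm (∑ g ∈ S, ‖χ g‖ ^ 2) (R.card : ℝ)]; exact hd
  exact le_of_mul_le_mul_right this hRpos

end Chars

/-- `∑ g, |χ g|² = |G|` for an irreducible character. -/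
theorem sum_norm_sq_eq_card {G : Type*} [Group G] [Fintype G] {χ : G → ℂ}
    (hχ : IsIrrCharacter G χ) : ∑ g : G, ‖χ g‖ ^ 2 = (Nat.card G : ℝ) := by
  have h1 := classInner_irr_self hχ
  rw [classInner_def] at h1
  have h2 : ∀ g : G, χ g * (starRingEnd ℂ) (χ g) = ((‖χ g‖ ^ 2 : ℝ) : ℂ) := by
    intro g
    rw [Complex.mul_conj, Complex.normSq_eq_norm_sq]
  simp_rw [h2] at h1
  rw [← Complex.ofReal_sum] at h1
  have hG : (Nat.card G : ℂ) ≠ 0 := card_ne_zero_complex
  have h3 : ((∑ g : G, ‖χ g‖ ^ 2 : ℝ) : ℂ) = (Nat.card G : ℂ) := by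
    field_simp at h1
    exact h1
  exact_mod_cast h3

/-- **Burnside**: a nonlinear irreducible character has a zero. -/
theorem exists_zero_of_nonlinear {G : Type*} [Group G] [Fintype G] {χ : G → ℂ}
    (hχ : IsIrrCharacter G χ) (hdeg : χ 1 ≠ 1) : ∃ g : G, χ g = 0 := by
  classical
  by_contra hcon
  push Not at hcon
  have hχc := IsIrrCharacter.isCharacter hχ
  obtain ⟨n, hn0, hn⟩ := IsIrrCharacter.apply_one hχ
  set S : Finset G := Finset.univ.erase 1 with hS
  have hclosed : ∀ g ∈ S, ∀ k : ℕ, k.Coprime (Nat.card G) → g ^ k ∈ S := by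
    intro g hg k hk
    rw [hS, Finset.mem_erase] at hg ⊢
    refine ⟨?_, Finset.mem_univ _⟩
    intro h1
    apply hg.1
    have hinj : Function.Injective (fun g : G => g ^ k) := (powCoprime hk.symm).injective
    apply hinj
    simp only [h1, one_pow]
  have key := card_nonzero_le_sum_sq hχc S hclosed
  have hfilter : S.filter (fun g => χ g ≠ 0) = S := by
    apply Finset.filter_true_of_mem
    intro g _
    exact hcon g
  rw [hfilter] at key
  have hsum := sum_norm_sq_eq_card hχ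
  rw [← Finset.add_sum_erase Finset.univ _ (Finset.mem_univ (1 : G)), hn] at hsum
  have hcard : (S.card : ℝ) = (Nat.card G : ℝ) - 1 := by
    rw [hS, Finset.card_erase_of_mem (Finset.mem_univ _), Finset.card_univ,
      Nat.card_eq_fintype_card]
    have : 0 < Fintype.card G := Fintype.card_pos
    rw [Nat.cast_sub this]
    simp
  rw [hcard] at key
  simp only [Complex.norm_natCast] at hsum
  have hn1 : (n : ℝ) ^ 2 ≤ 1 := by linarith
  have hn1' : n ≤ 1 := by
    by_contra h
    push Not at h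
    have : (2 : ℝ) ≤ n := by exact_mod_cast h
    nlinarith
  have : n = 1 := by omega
  apply hdeg
  rw [hn, this]
  simp

end Cfsg.Agent.Lib.Helper2_CharGalois
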