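import Mathlib
import Cfsg.Prelude.Def_Characters
import Cfsg.Prelude.Def_Transfer
import Cfsg.Agent.Lib.Helper2_ClassFn
import Cfsg.Agent.Lib.Helper2_CharBasic
import Cfsg.Agent.Lib.Helper2_CharOrtho
import Cfsg.Agent.Lib.Helper2_CharMore
import Cfsg.Agent.Lib.Helper2_CharDeg
import Cfsg.Agent.Lib.Helper2_CharInd
import Cfsg.Agent.Lib.Helper2_CharSum
import Cfsg.Agent.Lib.Helper2_CharCentral
import Cfsg.Agent.Lib.Helper2_CharKernel
import Cfsg.Agent.Lib.Helper2_CharGalois
import Cfsg.Agent.Lib.Helper2_CharBurnside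
import Cfsg.Agent.Lib.Helper2_CharCenter
import Cfsg.Agent.S0154

set_option autoImplicit false

/-!
# Characters of extraspecial groups
-/

namespace Cfsg.Agent.Lib.Helper2_Extraspecial

open Cfsg
open Cfsg.Agent.Lib.Helper2_ClassFn
open Cfsg.Agent.Lib.Helper2_CharBasic
open Cfsg.Agent.Lib.Helper2_CharOrtho
open Cfsg.Agent.Lib.Helper2_CharMore
open Cfsg.Agent.Lib.Helper2_CharDeg
open Cfsg.Agent.Lib.Helper2_CharInd
open Cfsg.Agent.Lib.Helper2_CharSum
open Cfsg.Agent.Lib.Helper2_CharCentral
open Cfsg.Agent.Lib.Helper2_CharKernel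
open Cfsg.Agent.Lib.Helper2_CharGalois
open Cfsg.Agent.Lib.Helper2_CharBurnside
open Cfsg.Agent.Lib.Helper2_CharCenter
open scoped ComplexConjugate
open commutatorElement

universe u

variable {P : Type u} [Group P]

/-- Central elements have character values of full norm. -/
theorem norm_central [Finite P] {χ : P → ℂ} (hχ : IsIrrCharacter P χ) (z : P)
    (hz : z ∈ Subgroup.center P) : ‖χ z‖ = ‖χ 1‖ := by
  obtain ⟨n, ρ, hirr, rfl⟩ := hχ
  apply norm_character_eq_of_comm ρ hirr z
  intro g
  change ρ z * ρ g = ρ g * ρ z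
  rw [← map_mul, ← map_mul, (Subgroup.mem_center_iff.mp hz g).symm]

/-- An irreducible character with the commutator subgroup in its kernel is linear. -/
theorem degree_one_of_commutator_le_ker [Finite P] {χ : P → ℂ} (hχ : IsIrrCharacter P χ)
    (h : ∀ c ∈ commutator P, χ c = χ 1) : χ 1 = 1 := by
  obtain ⟨ψ, hψ, hψχ⟩ := IsIrrCharacter.deflate hχ (commutator P) h
  have hcomm : ∀ a b : P ⧸ commutator P, a * b = b * a := by
    intro a b
    exact (Abelianization.commGroup (G := P)).mul_comm a b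
  have h1 := IsIrrCharacter.apply_one_of_comm hcomm hψ
  rw [← hψχ 1]
  exact h1

variable (p : ℕ) [Fact p.Prime]

/-- In an extraspecial group, a character nontrivial on the centre is nontrivial at each
non-identity central element. -/
theorem ne_of_central_ne_one [Finite P] (hP : IsExtraspecial p P) {χ : P → ℂ}
    (hχ : IsIrrCharacter P χ) (z₀ : P) (hz₀ : z₀ ∈ Subgroup.center P) (hne : χ z₀ ≠ χ 1)
    (c : P) (hc : c ∈ Subgroup.center P) (hc1 : c ≠ 1) : χ c ≠ χ 1 := by
  intro hcχ
  obtain ⟨K, hKn, hK⟩ := exists_ker (IsIrrCharacter.isCharacter hχ)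
  have hcK : c ∈ K := (hK c).mpr hcχ
  have hcard : Nat.card (Subgroup.center P) = p := hP.2
  have hc' : (⟨c, hc⟩ : Subgroup.center P) ≠ 1 := by
    intro h
    apply hc1
    exact congrArg Subtype.val h
  have htop := zpowers_eq_top_of_prime_card hcard hc'
  have hmem : (⟨z₀, hz₀⟩ : Subgroup.center P) ∈ Subgroup.zpowers (⟨c, hc⟩ : Subgroup.center P) := by
    rw [htop]; exact Subgroup.mem_top _
  obtain ⟨k, hk⟩ := Subgroup.mem_zpowers_iff.mp hmem
  have hz : z₀ = c ^ k := by
    have := congrArg Subtype.val hk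
    simpa using this.symm
  apply hne
  rw [← hK, hz]
  exact K.zpow_mem hcK k

/-- In an extraspecial group, a character nontrivial on the centre vanishes off the centre. -/
theorem vanish_off_center [Finite P] (hP : IsExtraspecial p P) {χ : P → ℂ}
    (hχ : IsIrrCharacter P χ) (z₀ : P) (hz₀ : z₀ ∈ Subgroup.center P) (hne : χ z₀ ≠ χ 1)
    (x : P) (hx : x ∉ Subgroup.center P) : χ x = 0 := by
  have hx' : ∃ y : P, y * x ≠ x * y := by
    by_contra hcon
    push Not at hcon
    apply hx
    rw [Subgroup.mem_center_iff]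
    exact hcon
  obtain ⟨y, hy⟩ := hx'
  set c := ⁅y, x⁆ with hc
  have hcmem : c ∈ Subgroup.center P := by
    rw [← hP.1.2.2]
    exact Subgroup.commutator_mem_commutator (Subgroup.mem_top y) (Subgroup.mem_top x)
  have hc1 : c ≠ 1 := by
    intro h
    apply hy
    exact (commutatorElement_eq_one_iff_mul_comm.mp h)
  have hχc := ne_of_central_ne_one p hP hχ z₀ hz₀ hne c hcmem hc1
  have h1 := apply_central_mul hχ c (fun g => (Subgroup.mem_center_iff.mp hcmem g).symm) x
  have h2 : c * x = y * x * y⁻¹ := by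
    rw [hc, commutatorElement_def]; group
  have hcf := IsCharacter.isClassFunction (IsIrrCharacter.isCharacter hχ)
  rw [h2, hcf x y] at h1
  have h0 := IsIrrCharacter.apply_one_ne_zero hχ
  have h3 : χ x * (χ 1 - χ c) = 0 := by
    field_simp at h1
    linear_combination h1
  rcases mul_eq_zero.mp h3 with h | h
  · exact h
  · exact absurd (sub_eq_zero.mp h).symm hχc

/-- In an extraspecial group of order `p ^ (2 n + 1)`, a character nontrivial on the centre has
degree `p ^ n`. -/
theorem degree_of_central_ne [Fintype P] (hP : IsExtraspecial p P) (n : ℕ)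
    (hcard : Nat.card P = p ^ (2 * n + 1)) {χ : P → ℂ}
    (hχ : IsIrrCharacter P χ) (z₀ : P) (hz₀ : z₀ ∈ Subgroup.center P) (hne : χ z₀ ≠ χ 1) :
    χ 1 = (p : ℂ) ^ n := by
  classical
  have hp : p.Prime := Fact.out
  obtain ⟨d, hd0, hd⟩ := IsIrrCharacter.apply_one hχ
  have h1 := sum_norm_sq_eq_card hχ
  have h2 : ∑ g : P, ‖χ g‖ ^ 2 = ∑ g ∈ Finset.univ.filter (fun g : P => g ∈ Subgroup.center P),
      (d : ℝ) ^ 2 := by
    rw [Finset.sum_filter]
    refine Finset.sum_congr rfl fun g _ => ?_
    split_ifs with hg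
    · rw [norm_central hχ g hg, hd, Complex.norm_natCast]
    · rw [vanish_off_center p hP hχ z₀ hz₀ hne g hg]
      simp
  rw [h2, Finset.sum_const, nsmul_eq_mul] at h1
  have h3 : (Finset.univ.filter (fun g : P => g ∈ Subgroup.center P)).card = p := by
    rw [← hP.2, Nat.card_eq_fintype_card, Fintype.card_subtype]
  rw [h3, hcard] at h1
  have h4 : p * d ^ 2 = p ^ (2 * n + 1) := by exact_mod_cast h1
  have h5 : d ^ 2 = (p ^ n) ^ 2 := by
    have : p * d ^ 2 = p * (p ^ n) ^ 2 := by rw [h4]; ring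
    exact Nat.eq_of_mul_eq_mul_left hp.pos this
  have h6 : d = p ^ n := by
    exact Nat.pow_left_injective (n := 2) (by norm_num) h5
  rw [hd, h6]
  push_cast
  rfl

/-- Degrees of irreducible characters of an extraspecial group. -/
theorem degree_cases [Fintype P] (hP : IsExtraspecial p P) (n : ℕ)
    (hcard : Nat.card P = p ^ (2 * n + 1)) {χ : P → ℂ} (hχ : IsIrrCharacter P χ) :
    χ 1 = 1 ∨ χ 1 = (p : ℂ) ^ n := by
  by_cases h : ∀ z ∈ Subgroup.center P, χ z = χ 1
  · left
    apply degree_one_of_commutator_le_ker hχ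
    intro c hc
    rw [hP.1.2.2] at hc
    exact h c hc
  · right
    push Not at h
    obtain ⟨z₀, hz₀, hne⟩ := h
    exact degree_of_central_ne p hP n hcard hχ z₀ hz₀ hne

open Classical in
/-- Counting irreducible characters satisfying a predicate. -/
theorem card_irr_subtype {G : Type*} [Group G] [Fintype G] (Q : (G → ℂ) → Prop) :
    Nat.card {χ : IrrCharacter G // Q (χ : G → ℂ)} = ((irrFinset G).filter Q).card := by
  have e : {χ : IrrCharacter G // Q (χ : G → ℂ)} ≃ {ψ : G → ℂ // ψ ∈ (irrFinset G).filter Q} :=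
    { toFun := fun x => ⟨x.1.1, Finset.mem_filter.mpr ⟨mem_irrFinset.mpr x.1.2, x.2⟩⟩
      invFun := fun y => ⟨⟨y.1, mem_irrFinset.mp (Finset.mem_filter.mp y.2).1⟩,
        (Finset.mem_filter.mp y.2).2⟩
      left_inv := fun x => rfl
      right_inv := fun y => rfl }
  rw [Nat.card_congr e, Nat.card_eq_fintype_card, Fintype.card_coe]

open Classical in
/-- An extraspecial group of order `p ^ (2 n + 1)` has exactly `p - 1` irreducible characters of
degree `p ^ n`. -/
theorem card_nonlinear [Fintype P] (hP : IsExtraspecial p P) (n : ℕ)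
    (hcard : Nat.card P = p ^ (2 * n + 1)) :
    ((irrFinset P).filter (fun χ => χ 1 = (p : ℂ) ^ n)).card = p - 1 := by
  have hp : p.Prime := Fact.out
  have hL : ((irrFinset P).filter (fun χ => χ 1 = 1)).card = p ^ (2 * n) := by
    rw [← card_irr_subtype, Cfsg.Agent.S0154.result]
    have h1 := Subgroup.card_mul_index (commutator P)
    rw [hP.1.2.2, hP.2, hcard] at h1
    have : p * (Subgroup.center P).index = p * p ^ (2 * n) := by rw [h1]; ring
    rw [hP.1.2.2]
    exact Nat.eq_of_mul_eq_mul_left hp.pos this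
  have hsum := sum_irr_mul_deg (1 : P)
  rw [if_pos rfl, hcard] at hsum
  by_cases hn : n = 0
  · subst hn
    exfalso
    have hall : ∀ χ ∈ irrFinset P, χ 1 = 1 := by
      intro χ hχ
      rcases degree_cases p hP 0 hcard (mem_irrFinset.mp hχ) with h | h
      · exact h
      · simpa using h
    rw [Finset.sum_congr rfl (fun χ hχ => by rw [hall χ hχ, mul_one])] at hsum
    have hfil : (irrFinset P).filter (fun χ => χ 1 = 1) = irrFinset P :=
      Finset.filter_true_of_mem hall
    rw [hfil] at hL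
    simp only [Finset.sum_const, nsmul_eq_mul, mul_one, hL] at hsum
    have h2 : (1 : ℕ) = p := by
      have : ((1 : ℕ) : ℂ) = ((p : ℕ) : ℂ) := by
        simpa using hsum
      exact_mod_cast this
    exact hp.one_lt.ne h2
  · have hpn : (p : ℂ) ^ n ≠ 1 := by
      have h1 : 1 < p ^ n := Nat.one_lt_pow hn hp.one_lt
      intro h
      have : ((p ^ n : ℕ) : ℂ) = ((1 : ℕ) : ℂ) := by push_cast; exact h
      have := Nat.cast_injective this
      omega
    have hfil : (irrFinset P).filter (fun χ => ¬ χ 1 = 1)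
        = (irrFinset P).filter (fun χ => χ 1 = (p : ℂ) ^ n) := by
      ext χ
      simp only [Finset.mem_filter]
      constructor
      · rintro ⟨hχ, h1⟩
        rcases degree_cases p hP n hcard (mem_irrFinset.mp hχ) with h | h
        · exact absurd h h1
        · exact ⟨hχ, h⟩
      · rintro ⟨hχ, h1⟩
        refine ⟨hχ, ?_⟩
        rw [h1]
        exact hpn
    rw [← Finset.sum_filter_add_sum_filter_not (irrFinset P) (fun χ => χ 1 = 1), hfil] at hsum
    have h1 : ∑ χ ∈ (irrFinset P).filter (fun χ => χ 1 = 1), χ 1 * χ 1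
        = ((p ^ (2 * n) : ℕ) : ℂ) := by
      rw [← hL, Finset.sum_congr rfl (g := fun _ => (1 : ℂ))]
      · simp
      · intro χ hχ
        rw [(Finset.mem_filter.mp hχ).2, mul_one]
    have h2 : ∑ χ ∈ (irrFinset P).filter (fun χ => χ 1 = (p : ℂ) ^ n), χ 1 * χ 1
        = (((irrFinset P).filter (fun χ => χ 1 = (p : ℂ) ^ n)).card * p ^ (2 * n) : ℕ) := by
      rw [Finset.sum_congr rfl (g := fun _ => ((p ^ (2 * n) : ℕ) : ℂ))]
      · simp
      · intro χ hχ
        rw [(Finset.mem_filter.mp hχ).2]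
        push_cast
        ring
    rw [h1, h2] at hsum
    have h3 : p ^ (2 * n) + ((irrFinset P).filter (fun χ => χ 1 = (p : ℂ) ^ n)).card * p ^ (2 * n)
        = p ^ (2 * n + 1) := by exact_mod_cast hsum
    have h4 : (1 + ((irrFinset P).filter (fun χ => χ 1 = (p : ℂ) ^ n)).card) * p ^ (2 * n)
        = p * p ^ (2 * n) := by
      have : p * p ^ (2 * n) = p ^ (2 * n + 1) := by ring
      rw [this, ← h3]; ring
    have h5 := Nat.eq_of_mul_eq_mul_right (pow_pos hp.pos _) h4
    omega

end Cfsg.Agent.Lib.Helper2_Extraspecial
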