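import Mathlib
import Cfsg.Prelude.Def_Characters
import Cfsg.Agent.Lib.Helper2_ClassFn
import Cfsg.Agent.Lib.Helper2_CharBasic
import Cfsg.Agent.Lib.Helper2_CharOrtho
import Cfsg.Agent.Lib.Helper2_CharMore
import Cfsg.Agent.Lib.Helper2_CharDeg
import Cfsg.Agent.Lib.Helper2_RepEquiv
import Cfsg.Agent.Lib.Helper2_CyclicExt
import Cfsg.Agent.Lib.Helper2_CharCenter
import Cfsg.Agent.Lib.Helper2_Gallagher
import Cfsg.Agent.Lib.Helper2_CliffordCorr
import Cfsg.Agent.Lib.Helper2_Clifford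
import Cfsg.Agent.Lib.Helper2_Ito

set_option autoImplicit false

/-!
# A finite central extension attached to an invariant irreducible character

For `N ⊴ G` and an irreducible representation `ρ` of `N` whose character is `G`-invariant, the
group `Gam` of pairs `(g, T)` with `T` implementing conjugation by `g` on `ρ` and `det T` a root
of unity of bounded order is a finite group mapping onto `G` with central kernel, and `ρ`
extends to an honest representation of it.
-/

namespace Cfsg.Agent.Lib.Helper2_ProjLift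

open Cfsg
open Cfsg.Agent.Lib.Helper2_ClassFn
open Cfsg.Agent.Lib.Helper2_CharBasic
open Cfsg.Agent.Lib.Helper2_CharOrtho
open Cfsg.Agent.Lib.Helper2_CharMore
open Cfsg.Agent.Lib.Helper2_CharDeg
open Cfsg.Agent.Lib.Helper2_RepEquiv
open Cfsg.Agent.Lib.Helper2_CyclicExt
open Cfsg.Agent.Lib.Helper2_CharCenter
open Cfsg.Agent.Lib.Helper2_Gallagher
open Cfsg.Agent.Lib.Helper2_CliffordCorr
open Cfsg.Agent.Lib.Helper2_Clifford
open Cfsg.Agent.Lib.Helper2_Ito
open scoped ComplexConjugate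

universe u

/-- The general linear group of `ℂ^d`, as units of the endomorphism ring. -/
abbrev GLd (d : ℕ) : Type := ((Fin d → ℂ) →ₗ[ℂ] (Fin d → ℂ))ˣ

/-- Scalar matrices. -/
noncomputable def scal (d : ℕ) : ℂˣ →* GLd d :=
  Units.map (algebraMap ℂ ((Fin d → ℂ) →ₗ[ℂ] (Fin d → ℂ))).toMonoidHom

/-- The determinant on `GLd`. -/
noncomputable def detU (d : ℕ) : GLd d →* ℂˣ :=
  Units.map (LinearMap.det : ((Fin d → ℂ) →ₗ[ℂ] (Fin d → ℂ)) →* ℂ)

theorem scal_comm (d : ℕ) (c : ℂˣ) (T : GLd d) : scal d c * T = T * scal d c := by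
  apply Units.ext
  exact Algebra.commutes (c : ℂ) (T : (Fin d → ℂ) →ₗ[ℂ] (Fin d → ℂ))

theorem detU_scal (d : ℕ) (c : ℂˣ) : detU d (scal d c) = c ^ d := by
  apply Units.ext
  change LinearMap.det (algebraMap ℂ ((Fin d → ℂ) →ₗ[ℂ] (Fin d → ℂ)) (c : ℂ)) = ((c ^ d : ℂˣ) : ℂ)
  rw [Algebra.algebraMap_eq_smul_one, LinearMap.det_smul, map_one, mul_one]
  simp

theorem scal_injective (d : ℕ) (hd : 0 < d) : Function.Injective (scal d) := by
  intro a b h
  have h1 := congrArg (fun T : GLd d => (T : (Fin d → ℂ) →ₗ[ℂ] (Fin d → ℂ)) (fun _ => 1) ⟨0, hd⟩) h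
  apply Units.ext
  simpa [scal, Algebra.algebraMap_eq_smul_one] using h1

variable {G : Type u} [Group G] (N : Subgroup G) [hN : N.Normal] {d : ℕ}

/-- The group of pairs `(g, T)` with `T` implementing `g`. -/
def Gam (ρu : N →* GLd d) (M : ℕ) : Subgroup (G × GLd d) where
  carrier := {x | (∀ n : N, x.2 * ρu n * x.2⁻¹ = ρu (MulAut.conjNormal x.1 n)) ∧
    (detU d x.2) ^ M = 1}
  one_mem' := by
    refine ⟨fun n => ?_, by simp⟩
    simp
  mul_mem' := by
    rintro x y ⟨hx1, hx2⟩ ⟨hy1, hy2⟩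
    refine ⟨fun n => ?_, ?_⟩
    · have h1 : (x * y).2 * ρu n * ((x * y).2)⁻¹ = x.2 * (y.2 * ρu n * y.2⁻¹) * x.2⁻¹ := by
        simp only [Prod.snd_mul, mul_inv_rev]; group
      rw [h1, hy1, hx1, Prod.fst_mul, map_mul, MulAut.mul_apply]
    · rw [Prod.snd_mul, map_mul, mul_pow, hx2, hy2, one_mul]
  inv_mem' := by
    rintro x ⟨hx1, hx2⟩
    refine ⟨fun n => ?_, ?_⟩
    · have h1 := hx1 (MulAut.conjNormal x.1⁻¹ n)
      have h2 : MulAut.conjNormal x.1 (MulAut.conjNormal x.1⁻¹ n) = n := by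
        rw [← MulAut.mul_apply, ← map_mul, mul_inv_cancel, map_one, MulAut.one_apply]
      rw [h2] at h1
      simp only [Prod.snd_inv, Prod.fst_inv, inv_inv]
      rw [← h1]; group
    · rw [Prod.snd_inv, map_inv, inv_pow, hx2, inv_one]

theorem mem_Gam (ρu : N →* GLd d) (M : ℕ) (x : G × GLd d) :
    x ∈ Gam N ρu M ↔ (∀ n : N, x.2 * ρu n * x.2⁻¹ = ρu (MulAut.conjNormal x.1 n)) ∧
      (detU d x.2) ^ M = 1 := Iff.rfl

/-- First projection. -/
def gamFst (ρu : N →* GLd d) (M : ℕ) : Gam N ρu M →* G :=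
  (MonoidHom.fst G (GLd d)).comp (Gam N ρu M).subtype

/-- Second projection. -/
def gamSnd (ρu : N →* GLd d) (M : ℕ) : Gam N ρu M →* GLd d :=
  (MonoidHom.snd G (GLd d)).comp (Gam N ρu M).subtype

section Surj

variable (ρ : Representation ℂ N (Fin d → ℂ))

/-- For an irreducible representation with invariant character, each `g` is implemented. -/
theorem exists_implementing [Fintype N]
    (hinv : ∀ (g : G) (n : N), ρ.character (MulAut.conjNormal g n) = ρ.character n) (g : G) :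
    ∃ T : GLd d, ∀ n : N, T * ρ.toHomUnits n * T⁻¹ = ρ.toHomUnits (MulAut.conjNormal g n) := by
  let ρg : Representation ℂ N (Fin d → ℂ) := MonoidHom.comp ρ (MulAut.conjNormal g).toMonoidHom
  have hchar : ρ.character = ρg.character := by
    ext n
    exact (hinv g n).symm
  obtain ⟨e⟩ := equiv_of_char_eq_aux _ _ _ ρ ρg rfl hchar
  let T : GLd d :=
    ⟨e.toLinearEquiv.toLinearMap, e.toLinearEquiv.symm.toLinearMap, e.toLinearEquiv.comp_symm,
      e.toLinearEquiv.symm_comp⟩
  refine ⟨T, fun n => ?_⟩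
  rw [mul_inv_eq_iff_eq_mul]
  apply Units.ext
  exact e.toIntertwiningMap.isIntertwining' n

/-- An element of `GLd` commuting with an irreducible representation is a scalar. -/
theorem eq_scal_of_comm (hirr : ρ.IsIrreducible) (hd : 0 < d) (T : GLd d)
    (hT : ∀ n : N, T * ρ.toHomUnits n * T⁻¹ = ρ.toHomUnits n) : ∃ c : ℂˣ, T = scal d c := by
  obtain ⟨c, hc⟩ := schur_scalar ρ hirr (T : (Fin d → ℂ) →ₗ[ℂ] (Fin d → ℂ)) (by
    intro n
    have h1 := hT n
    rw [mul_inv_eq_iff_eq_mul] at h1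
    exact congrArg Units.val h1)
  have hc0 : c ≠ 0 := by
    rintro rfl
    rw [zero_smul] at hc
    have h1 : ((T * T⁻¹ : GLd d) : (Fin d → ℂ) →ₗ[ℂ] (Fin d → ℂ)) = 1 := by
      rw [mul_inv_cancel]; rfl
    rw [Units.val_mul, hc, zero_mul] at h1
    have h2 := LinearMap.congr_fun h1 (fun _ => 1)
    have h3 := congrFun h2 ⟨0, hd⟩
    simp at h3
  refine ⟨Units.mk0 c hc0, ?_⟩
  apply Units.ext
  rw [hc]
  change _ = algebraMap ℂ ((Fin d → ℂ) →ₗ[ℂ] (Fin d → ℂ)) c
  rw [Algebra.algebraMap_eq_smul_one]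
  rfl

theorem gamFst_surjective [Fintype N]
    (hinv : ∀ (g : G) (n : N), ρ.character (MulAut.conjNormal g n) = ρ.character n)
    (M : ℕ) (hM : 0 < M) (hd : 0 < d) :
    Function.Surjective (gamFst N ρ.toHomUnits M) := by
  intro g
  obtain ⟨T, hT⟩ := exists_implementing N ρ hinv g
  set δ := detU d T with hδ
  obtain ⟨c, hc⟩ := IsAlgClosed.exists_pow_nat_eq (((δ : ℂˣ) : ℂ) ^ M)⁻¹ (Nat.mul_pos hd hM)
  have hc0 : c ≠ 0 := by
    rintro rfl
    rw [zero_pow (Nat.mul_pos hd hM).ne'] at hc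
    exact (inv_ne_zero (pow_ne_zero M (Units.ne_zero δ))) hc.symm
  set cu := Units.mk0 c hc0 with hcu
  have hcu' : cu ^ (d * M) = (δ ^ M)⁻¹ := by
    apply Units.ext
    simp only [Units.val_pow_eq_pow_val, Units.val_inv_eq_inv_val, hcu, Units.val_mk0]
    exact hc
  refine ⟨⟨(g, scal d cu * T), ?_, ?_⟩, rfl⟩
  · intro n
    change scal d cu * T * ρ.toHomUnits n * (scal d cu * T)⁻¹ = ρ.toHomUnits (MulAut.conjNormal g n)
    rw [← hT n, mul_inv_rev]
    have h1 := scal_comm d cu (T * ρ.toHomUnits n * T⁻¹)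
    calc scal d cu * T * ρ.toHomUnits n * (T⁻¹ * (scal d cu)⁻¹)
        = scal d cu * (T * ρ.toHomUnits n * T⁻¹) * (scal d cu)⁻¹ := by group
      _ = T * ρ.toHomUnits n * T⁻¹ := by rw [h1]; group
  · change (detU d (scal d cu * T)) ^ M = 1
    rw [map_mul, detU_scal, mul_pow, ← pow_mul, hcu', ← hδ, inv_mul_cancel]

end Surj

section Structure

variable (ρ : Representation ℂ N (Fin d → ℂ))

/-- Elements of `Gam` over the identity are central. -/
theorem gam_central_of_fst (hirr : ρ.IsIrreducible) (hd : 0 < d) (M : ℕ)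
    (x : Gam N ρ.toHomUnits M) (hx : gamFst N ρ.toHomUnits M x = 1)
    (y : Gam N ρ.toHomUnits M) : x * y = y * x := by
  obtain ⟨⟨g, T⟩, hmem⟩ := x
  change g = 1 at hx
  subst hx
  obtain ⟨c, hc⟩ := eq_scal_of_comm N ρ hirr hd T (by
    intro n
    have := hmem.1 n
    simpa using this)
  apply Subtype.ext
  apply Prod.ext
  · simp
  · change T * y.1.2 = y.1.2 * T
    rw [hc]
    exact scal_comm d c _

/-- `Gam` is finite. -/
theorem gam_finite [Finite G] [Fintype N] (hirr : ρ.IsIrreducible)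
    (M : ℕ) (hM : 0 < M) (hd : 0 < d) : Finite (Gam N ρ.toHomUnits M) := by
  set K := (gamFst N ρ.toHomUnits M).ker with hK
  haveI : NeZero (d * M) := ⟨(Nat.mul_pos hd hM).ne'⟩
  have hS : (Set.range (fun c : rootsOfUnity (d * M) ℂ =>
      ((1 : G), scal d (c : ℂˣ)))).Finite := Set.finite_range _
  have hsub : (K : Set (Gam N ρ.toHomUnits M)) ⊆
      (fun x : Gam N ρ.toHomUnits M => (x : G × GLd d)) ⁻¹'
        (Set.range (fun c : rootsOfUnity (d * M) ℂ => ((1 : G), scal d (c : ℂˣ)))) := by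
    rintro ⟨⟨g, T⟩, hmem⟩ hx
    change g = 1 at hx
    subst hx
    obtain ⟨c, hc⟩ := eq_scal_of_comm N ρ hirr hd T (by
      intro n
      have := hmem.1 n
      simpa using this)
    have hdet := hmem.2
    simp only at hdet
    rw [hc, detU_scal, ← pow_mul] at hdet
    refine ⟨⟨c, (mem_rootsOfUnity _ _).mpr hdet⟩, ?_⟩
    simp only [Set.mem_preimage]
    rw [hc]
  have hKfin : (K : Set (Gam N ρ.toHomUnits M)).Finite :=
    (hS.preimage (Set.injOn_of_injective Subtype.val_injective)).subset hsub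
  haveI : Finite K := hKfin.to_subtype
  have h1 := Subgroup.card_mul_index K
  have h2 : K.index ≠ 0 := by
    rw [hK, Subgroup.index_ker]
    exact Nat.card_pos.ne'
  have h3 : Nat.card K ≠ 0 := Nat.card_pos.ne'
  apply Nat.finite_of_card_ne_zero
  rw [← h1]
  exact Nat.mul_ne_zero h3 h2

/-- The embedding of `N` into `Gam`. -/
def gamIota (ρu : N →* GLd d) (M : ℕ) (hdet : ∀ n : N, (detU d (ρu n)) ^ M = 1) :
    N →* Gam N ρu M where
  toFun n := ⟨((n : G), ρu n), by
    refine ⟨fun m => ?_, hdet n⟩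
    have h1 : MulAut.conjNormal (n : G) m = n * m * n⁻¹ := by
      ext
      rw [MulAut.conjNormal_apply]
      simp
    simp only [h1, map_mul, map_inv]⟩
  map_one' := by
    apply Subtype.ext
    simp
  map_mul' a b := by
    apply Subtype.ext
    simp

theorem detU_pow_card [Finite N] (ρu : N →* GLd d) (n : N) :
    (detU d (ρu n)) ^ (Nat.card N) = 1 := by
  rw [← map_pow, ← map_pow, pow_card_eq_one', map_one, map_one]

theorem gamIota_injective (ρu : N →* GLd d) (M : ℕ) (hdet : ∀ n : N, (detU d (ρu n)) ^ M = 1) :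
    Function.Injective (gamIota N ρu M hdet) := by
  intro a b h
  have h1 := congrArg (fun x : Gam N ρu M => x.1.1) h
  exact Subtype.ext h1

theorem gamIota_conj (ρu : N →* GLd d) (M : ℕ) (hdet : ∀ n : N, (detU d (ρu n)) ^ M = 1)
    (y : Gam N ρu M) (n : N) :
    y * gamIota N ρu M hdet n * y⁻¹ = gamIota N ρu M hdet (MulAut.conjNormal y.1.1 n) := by
  apply Subtype.ext
  apply Prod.ext
  · change y.1.1 * (n : G) * (y.1.1)⁻¹ = _
    exact (MulAut.conjNormal_apply _ _).symm
  · change y.1.2 * ρu n * (y.1.2)⁻¹ = ρu (MulAut.conjNormal y.1.1 n)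
    exact y.2.1 n

instance gamIota_range_normal (ρu : N →* GLd d) (M : ℕ)
    (hdet : ∀ n : N, (detU d (ρu n)) ^ M = 1) : (gamIota N ρu M hdet).range.Normal := by
  constructor
  rintro _ ⟨n, rfl⟩ y
  rw [gamIota_conj]
  exact ⟨_, rfl⟩

/-- The tautological representation of `Gam`. -/
noncomputable def gamRep (ρu : N →* GLd d) (M : ℕ) : Representation ℂ (Gam N ρu M) (Fin d → ℂ) :=
  (Units.coeHom _).comp (gamSnd N ρu M)

theorem gamRep_iota (M : ℕ) (hdet : ∀ n : N, (detU d (ρ.toHomUnits n)) ^ M = 1) (n : N) :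
    gamRep N ρ.toHomUnits M (gamIota N ρ.toHomUnits M hdet n) = ρ n := rfl

theorem gamRep_irreducible (hirr : ρ.IsIrreducible) (M : ℕ)
    (hdet : ∀ n : N, (detU d (ρ.toHomUnits n)) ^ M = 1) :
    (gamRep N ρ.toHomUnits M).IsIrreducible := by
  apply isIrreducible_of_comp _ (gamIota N ρ.toHomUnits M hdet)
  have : (MonoidHom.comp (gamRep N ρ.toHomUnits M) (gamIota N ρ.toHomUnits M hdet) :
      Representation ℂ N (Fin d → ℂ)) = ρ := by
    ext n : 1
    rfl
  rw [this]
  exact hirr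

end Structure

section GallagherCor

variable {Γ : Type u} [Group Γ] [Fintype Γ] (N₀ : Subgroup Γ) [N₀.Normal] [Fintype N₀]

/-- Gallagher: over an extendible character, every irreducible character is a product. -/
theorem exists_gallagher_factor {θh χ : Γ → ℂ} (hθh : IsIrrCharacter Γ θh)
    (hθN : IsIrrCharacter N₀ (fun n : N₀ => θh n)) (hχ : IsIrrCharacter Γ χ)
    (hcon : classInner (fun n : N₀ => χ n) (fun n : N₀ => θh n) ≠ 0) :
    ∃ β : Γ ⧸ N₀ → ℂ, IsIrrCharacter (Γ ⧸ N₀) β ∧ χ = infl N₀ β * θh := by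
  classical
  have hχcf := IsCharacter.isClassFunction (IsIrrCharacter.isCharacter hχ)
  have hθcf := IsCharacter.isClassFunction (IsIrrCharacter.isCharacter hθh)
  have h1 : classInner χ (indFun N₀ (fun n : N₀ => θh n)) ≠ 0 := by
    rw [frobenius_reciprocity' N₀ _ χ hχcf]
    exact hcon
  rw [gallagher_decomp N₀ hθcf, classInner_sum_right] at h1
  obtain ⟨β, hβ, hne⟩ := Finset.exists_ne_zero_of_sum_ne_zero h1
  rw [classInner_smul_right] at hne
  have hne' := right_ne_zero_of_mul hne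
  have hβirr := mem_irrFinset.mp hβ
  have hprod : IsIrrCharacter Γ (infl N₀ β * θh) := by
    apply IsCharacter.isIrr_of_norm_one
    · exact IsCharacter.mul (IsCharacter.infl N₀ (IsIrrCharacter.isCharacter hβirr))
        (IsIrrCharacter.isCharacter hθh)
    · rw [gallagher N₀ hθh hθN hβirr hβirr, if_pos rfl]
  refine ⟨β, hβirr, ?_⟩
  by_contra hneq
  rw [classInner_irr hχ hprod, if_neg hneq] at hne'
  exact hne' rfl

end GallagherCor

section Invariant

variable [Fintype G] [Fintype N]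

/-- If `χ_N = e θ` with `θ` invariant in `G`, then `χ(1)/θ(1)` divides `[G : N]`. -/
theorem dvd_index_of_invariant (θ : N → ℂ) (hθ : IsIrrCharacter N θ)
    (hinv : ∀ (g : G) (n : N), θ ⟨g * n * g⁻¹, hN.conj_mem (n : G) n.2 g⟩ = θ n)
    (χ : G → ℂ) (hχ : IsIrrCharacter G χ) (e : ℂ) (hres : (fun n : N => χ n) = e • θ)
    (c dd : ℕ) (hc : χ 1 = c) (hdd : θ 1 = dd) : ∃ k : ℕ, c = k * dd ∧ k ∣ N.index := by
  classical
  have hθ1 := IsIrrCharacter.apply_one_ne_zero hθ
  have hχ1 := IsIrrCharacter.apply_one_ne_zero hχ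
  have he : e ≠ 0 := by
    rintro rfl
    have := congrFun hres 1
    simp only [zero_smul, Pi.zero_apply] at this
    exact hχ1 this
  have hθ' := hθ
  obtain ⟨d, ρ, hirr, rfl⟩ := hθ
  have hd : 0 < d := by
    rw [Representation.char_one] at hθ1
    simp only [Module.finrank_fintype_fun_eq_card, Fintype.card_fin] at hθ1
    exact Nat.pos_of_ne_zero (by exact_mod_cast hθ1)
  have hddd : dd = d := by
    rw [Representation.char_one] at hdd
    simp only [Module.finrank_fintype_fun_eq_card, Fintype.card_fin] at hdd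
    exact_mod_cast hdd.symm
  subst hddd
  set M := Nat.card N with hM
  have hM0 : 0 < M := Nat.card_pos
  have hinv' : ∀ (g : G) (n : N), ρ.character (MulAut.conjNormal g n) = ρ.character n := by
    intro g n
    have h2 : (MulAut.conjNormal g n : N) = ⟨g * n * g⁻¹, hN.conj_mem (n : G) n.2 g⟩ := by
      ext; exact MulAut.conjNormal_apply g n
    rw [h2]
    exact hinv g n
  have hdet : ∀ n : N, (detU dd (ρ.toHomUnits n)) ^ M = 1 := detU_pow_card N _
  have hsurj := gamFst_surjective N ρ hinv' M hM0 hd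
  haveI : Finite (Gam N ρ.toHomUnits M) := gam_finite N ρ hirr M hM0 hd
  haveI : Fintype (Gam N ρ.toHomUnits M) := Fintype.ofFinite _
  set ι := gamIota N ρ.toHomUnits M hdet with hι
  set N₀ := ι.range with hN₀
  haveI : N₀.Normal := gamIota_range_normal N ρ.toHomUnits M hdet
  haveI : Fintype N₀ := Fintype.ofFinite _
  set θh : Gam N ρ.toHomUnits M → ℂ := (gamRep N ρ.toHomUnits M).character with hθhdef
  have hθh : IsIrrCharacter (Gam N ρ.toHomUnits M) θh :=
    ⟨dd, gamRep N ρ.toHomUnits M, gamRep_irreducible N ρ hirr M hdet, rfl⟩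
  have hθhι : ∀ n : N, θh (ι n) = ρ.character n := fun n => rfl
  let e₀ : N ≃* N₀ := MonoidHom.ofInjective (gamIota_injective N ρ.toHomUnits M hdet)
  have he₀ : ∀ n : N, ((e₀ n : N₀) : Gam N ρ.toHomUnits M) = ι n := fun n => rfl
  have hθN₀ : IsIrrCharacter N₀ (fun x : N₀ => θh x) := by
    have h1 := IsIrrCharacter.comp_mulEquiv hθ' e₀.symm
    convert h1 using 1
    ext x
    obtain ⟨n, rfl⟩ := e₀.surjective x
    rw [MulEquiv.symm_apply_apply, he₀, hθhι]
  set χt : Gam N ρ.toHomUnits M → ℂ := fun x => χ (gamFst N ρ.toHomUnits M x) with hχt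
  have hχtirr : IsIrrCharacter (Gam N ρ.toHomUnits M) χt :=
    IsIrrCharacter.comp_surjective hχ (gamFst N ρ.toHomUnits M) hsurj
  have hrest : (fun x : N₀ => χt x) = e • (fun x : N₀ => θh x) := by
    ext x
    obtain ⟨n, rfl⟩ := e₀.surjective x
    have h1 := congrFun hres n
    simp only [Pi.smul_apply, smul_eq_mul] at h1 ⊢
    rw [he₀, hθhι, ← h1]
    rfl
  have hcon : classInner (fun x : N₀ => χt x) (fun x : N₀ => θh x) ≠ 0 := by
    rw [hrest, classInner_smul_left, classInner_irr_self hθN₀, mul_one]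
    exact he
  obtain ⟨β, hβ, hχβ⟩ := exists_gallagher_factor N₀ hθh hθN₀ hχtirr hcon
  obtain ⟨k, hk0, hk⟩ := IsIrrCharacter.apply_one hβ
  refine ⟨k, ?_, ?_⟩
  · have h1 := congrFun hχβ 1
    simp only [Pi.mul_apply, infl_apply, hχt, map_one] at h1
    have h2 : θh 1 = (dd : ℂ) := by
      have := hθhι 1
      rw [map_one] at this
      rw [this, hdd]
    rw [QuotientGroup.mk_one, hk, h2, hc] at h1
    exact_mod_cast h1
  · have hβt : IsIrrCharacter (Gam N ρ.toHomUnits M) (infl N₀ β) := IsIrrCharacter.infl N₀ hβ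
    have h1 := degree_dvd_index_of_commutator_ker hβt (N.comap (gamFst N ρ.toHomUnits M)) ?_ k
      (by rw [infl_apply, QuotientGroup.mk_one, hk])
    · rwa [Subgroup.index_comap_of_surjective _ hsurj] at h1
    · intro a ha y
      rw [infl_apply, infl_apply, QuotientGroup.mk_one]
      have hmem : a * y * a⁻¹ * y⁻¹ ∈ N₀ := by
        set n : N := ⟨gamFst N ρ.toHomUnits M a, ha⟩ with hn
        set z := (ι n)⁻¹ * a with hz
        have hz1 : gamFst N ρ.toHomUnits M z = 1 := by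
          rw [hz, map_mul, map_inv]
          change (n : G)⁻¹ * gamFst N ρ.toHomUnits M a = 1
          rw [hn]; simp
        have hzc := gam_central_of_fst N ρ hirr hd M z hz1
        have ha' : a = ι n * z := by rw [hz]; group
        have h2 : a * y * a⁻¹ * y⁻¹ = ι n * (y * (ι n)⁻¹ * y⁻¹) := by
          rw [ha']
          calc ι n * z * y * (ι n * z)⁻¹ * y⁻¹ = ι n * (z * y) * z⁻¹ * (ι n)⁻¹ * y⁻¹ := by group
            _ = ι n * (y * z) * z⁻¹ * (ι n)⁻¹ * y⁻¹ := by rw [hzc y]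
            _ = ι n * (y * (ι n)⁻¹ * y⁻¹) := by group
        rw [h2]
        apply N₀.mul_mem ⟨n, rfl⟩
        have h3 : (ι n)⁻¹ ∈ N₀ := N₀.inv_mem ⟨n, rfl⟩
        exact (inferInstance : N₀.Normal).conj_mem _ h3 y
      have : ((a * y * a⁻¹ * y⁻¹ : Gam N ρ.toHomUnits M) : Gam N ρ.toHomUnits M ⧸ N₀) = 1 :=
        (QuotientGroup.eq_one_iff _).mpr hmem
      rw [this]

end Invariant

section General

variable [Fintype G] [Fintype N]

/-- If `θ` is a constituent of `χ_N`, then `χ(1)/θ(1)` is an integer dividing `[G : N]`. -/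
theorem dvd_index_general (θ : N → ℂ) (hθ : IsIrrCharacter N θ)
    (χ : G → ℂ) (hχ : IsIrrCharacter G χ) (hcon : classInner (fun n : N => χ n) θ ≠ 0)
    (c d : ℕ) (hc : χ 1 = c) (hd : θ 1 = d) : d ∣ c ∧ c / d ∣ N.index := by
  classical
  have hθcf := IsCharacter.isClassFunction (IsIrrCharacter.isCharacter hθ)
  set T := inertia N θ with hT
  have hNT : N ≤ T := le_inertia N hθcf
  haveI : Fintype T := Fintype.ofFinite _
  obtain ⟨ψ, f, hψ, hf, hres, hind⟩ :=
    clifford_corr_surj N T hθ (mem_inertia N θ) hNT hχ hcon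
  set N' : Subgroup T := N.subgroupOf T with hN'
  haveI : N'.Normal := Subgroup.normal_subgroupOf
  haveI : Fintype N' := Fintype.ofFinite _
  let e₀ : N' ≃* N := Subgroup.subgroupOfEquivOfLe hNT
  have he₀ : ∀ x : N', ((e₀ x : N) : G) = ((x : T) : G) := fun x => rfl
  set θ' : N' → ℂ := fun x => θ (e₀ x) with hθ'
  have hθ'irr : IsIrrCharacter N' θ' := IsIrrCharacter.comp_mulEquiv hθ e₀
  have hinv' : ∀ (t : T) (n : N'),
      θ' ⟨t * n * t⁻¹, (inferInstance : N'.Normal).conj_mem (n : T) n.2 t⟩ = θ' n := by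
    intro t n
    have h1 := (mem_inertia N θ (t : G)).mp t.2 (e₀ n)
    rw [hθ']
    simp only
    rw [← h1]
    congr 1
  have hres' : (fun n : N' => ψ n) = f • θ' := by
    ext n
    have h1 := congrFun hres (e₀ n)
    simp only [Pi.smul_apply, smul_eq_mul] at h1 ⊢
    rw [hθ', ← h1]
    congr 1
  obtain ⟨c', hc'0, hc'⟩ := IsIrrCharacter.apply_one hψ
  have hθ'1 : θ' 1 = d := by
    rw [hθ']
    simp only [map_one]
    exact hd
  obtain ⟨k, hk1, hk2⟩ := dvd_index_of_invariant N' θ' hθ'irr hinv' ψ hψ f hres' c' d hc' hθ'1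
  have hχ1 : c = T.index * c' := by
    have h1 := indFun_one T ψ
    rw [hind, hc, hc'] at h1
    exact_mod_cast h1
  have hd0 : 0 < d := by
    obtain ⟨m, hm0, hm⟩ := IsIrrCharacter.apply_one hθ
    rw [hd] at hm
    have : d = m := by exact_mod_cast hm
    omega
  have hcd : c = (T.index * k) * d := by rw [hχ1, hk1]; ring
  refine ⟨⟨T.index * k, by rw [hcd]; ring⟩, ?_⟩
  rw [hcd, Nat.mul_div_cancel _ hd0, ← Subgroup.relIndex_mul_index hNT, mul_comm]
  exact Nat.mul_dvd_mul hk2 (dvd_refl _)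

end General

end Cfsg.Agent.Lib.Helper2_ProjLift
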