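import Mathlib
import Cfsg.Prelude.Def_Characters
import Cfsg.Agent.Lib.Helper2_ClassFn
import Cfsg.Agent.Lib.Helper2_CharBasic
import Cfsg.Agent.Lib.Helper2_CharOrtho
import Cfsg.Agent.Lib.Helper2_CharMore
import Cfsg.Agent.Lib.Helper2_CharDeg
import Cfsg.Agent.Lib.Helper2_RepEquiv
import Cfsg.Agent.Lib.Helper2_CyclicExt
import Cfsg.Agent.Lib.Helper2_CharCenter
import Cfsg.Agent.Lib.Helper2_CharCentral
import Cfsg.Agent.Lib.Helper2_CharKernel
import Cfsg.Agent.Lib.Helper2_Gallagher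
import Cfsg.Agent.Lib.Helper2_ProjLift
import Cfsg.Agent.Lib.Helper2_CentralExt
import Cfsg.Agent.Lib.Helper2_Extraspecial
import Cfsg.Agent.S0154

set_option autoImplicit false

/-!
# An invariant character extends if it extends Sylow by Sylow
-/

namespace Cfsg.Agent.Lib.Helper2_SylowExt

open Cfsg
open Cfsg.Agent.Lib.Helper2_ClassFn
open Cfsg.Agent.Lib.Helper2_CharBasic
open Cfsg.Agent.Lib.Helper2_CharOrtho
open Cfsg.Agent.Lib.Helper2_CharMore
open Cfsg.Agent.Lib.Helper2_CharDeg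
open Cfsg.Agent.Lib.Helper2_RepEquiv
open Cfsg.Agent.Lib.Helper2_CyclicExt
open Cfsg.Agent.Lib.Helper2_CharCenter
open Cfsg.Agent.Lib.Helper2_CharCentral
open Cfsg.Agent.Lib.Helper2_CharKernel
open Cfsg.Agent.Lib.Helper2_Gallagher
open Cfsg.Agent.Lib.Helper2_ProjLift
open Cfsg.Agent.Lib.Helper2_CentralExt
open Cfsg.Agent.Lib.Helper2_Extraspecial
open scoped ComplexConjugate

universe u

/-- The product of an irreducible character with a linear character is irreducible. -/
theorem isIrr_mul_hom {X : Type*} [Group X] [Fintype X] {φ : X → ℂ} (hφ : IsIrrCharacter X φ)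
    (ν : X →* ℂˣ) : IsIrrCharacter X (fun x => φ x * (ν x : ℂ)) := by
  have hν := isIrrCharacter_of_hom ν
  apply IsCharacter.isIrr_of_norm_one
  · exact IsCharacter.mul (IsIrrCharacter.isCharacter hφ) (IsIrrCharacter.isCharacter hν)
  · rw [← classInner_irr_self hφ, classInner_def, classInner_def]
    congr 1
    refine Finset.sum_congr rfl fun x _ => ?_
    have h1 : ((ν x : ℂˣ) : ℂ) * conj ((ν x : ℂˣ) : ℂ) = 1 := by
      rw [Complex.mul_conj, Complex.normSq_eq_norm_sq]
      have hpow : ((ν x : ℂˣ) : ℂ) ^ (Fintype.card X) = 1 := by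
        rw [← Units.val_pow_eq_pow_val, ← map_pow, pow_card_eq_one, map_one, Units.val_one]
      have := Complex.norm_eq_one_of_pow_eq_one hpow Fintype.card_ne_zero
      rw [this]; norm_num
    rw [map_mul]
    calc φ x * (ν x : ℂ) * (conj (φ x) * conj ((ν x : ℂˣ) : ℂ))
        = φ x * conj (φ x) * (((ν x : ℂˣ) : ℂ) * conj ((ν x : ℂˣ) : ℂ)) := by ring
      _ = φ x * conj (φ x) := by rw [h1, mul_one]

section Main

variable {G : Type u} [Group G] [Fintype G] (N : Subgroup G) [hN : N.Normal]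

set_option maxHeartbeats 1600000 in
/-- An invariant irreducible character of `N ⊴ G` that extends to subgroups `P ⊇ N` of index
prime to `p`, for every prime `p`, extends to `G`. -/
theorem exists_extension_of_sylow (θ : N → ℂ) (hθ : IsIrrCharacter N θ)
    (hinv : ∀ (g : G) (n : N), θ ⟨g * n * g⁻¹, hN.conj_mem (n : G) n.2 g⟩ = θ n)
    (hsyl : ∀ p : ℕ, p.Prime → ∃ (P : Subgroup G) (hNP : N ≤ P) (η : P → ℂ),
      Nat.Coprime P.index p ∧ IsIrrCharacter P η ∧ ∀ n : N, η ⟨(n : G), hNP n.2⟩ = θ n) :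
    ∃ χ : G → ℂ, IsIrrCharacter G χ ∧ ∀ n : N, χ n = θ n := by
  classical
  haveI : Fintype N := Fintype.ofFinite _
  have hθ1 := IsIrrCharacter.apply_one_ne_zero hθ
  have hθ' := hθ
  obtain ⟨d, ρ, hirr, rfl⟩ := hθ
  have hd : 0 < d := by
    rw [Representation.char_one] at hθ1
    simp only [Module.finrank_fintype_fun_eq_card, Fintype.card_fin] at hθ1
    exact Nat.pos_of_ne_zero (by exact_mod_cast hθ1)
  set M := Nat.card N with hM
  have hM0 : 0 < M := Nat.card_pos
  have hinv' : ∀ (g : G) (n : N), ρ.character (MulAut.conjNormal g n) = ρ.character n := by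
    intro g n
    have h2 : (MulAut.conjNormal g n : N) = ⟨g * n * g⁻¹, hN.conj_mem (n : G) n.2 g⟩ := by
      ext; exact MulAut.conjNormal_apply g n
    rw [h2]
    exact hinv g n
  have hdet : ∀ n : N, (detU d (ρ.toHomUnits n)) ^ M = 1 := detU_pow_card N _
  set π₁ := gamFst N ρ.toHomUnits M with hπ₁
  have hsurj : Function.Surjective π₁ := gamFst_surjective N ρ hinv' M hM0 hd
  haveI : Finite (Gam N ρ.toHomUnits M) := gam_finite N ρ hirr M hM0 hd
  haveI : Fintype (Gam N ρ.toHomUnits M) := Fintype.ofFinite _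
  set ι := gamIota N ρ.toHomUnits M hdet with hι
  have hπι : ∀ n : N, π₁ (ι n) = (n : G) := fun n => rfl
  set N₀ := ι.range with hN₀
  haveI hN₀n : N₀.Normal := gamIota_range_normal N ρ.toHomUnits M hdet
  set θh : Gam N ρ.toHomUnits M → ℂ := (gamRep N ρ.toHomUnits M).character with hθhdef
  have hθh : IsIrrCharacter (Gam N ρ.toHomUnits M) θh :=
    ⟨d, gamRep N ρ.toHomUnits M, gamRep_irreducible N ρ hirr M hdet, rfl⟩
  have hθhι : ∀ n : N, θh (ι n) = ρ.character n := fun n => rfl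
  have hθh1 : θh 1 = ρ.character 1 := by
    have := hθhι 1
    rwa [map_one] at this
  set K := π₁.ker with hK
  have hKc : ∀ z ∈ K, ∀ y, z * y = y * z := fun z hz y =>
    gam_central_of_fst N ρ hirr hd M z (MonoidHom.mem_ker.mp hz) y
  have hKN₀ : ∀ x ∈ K, x ∈ N₀ → x = 1 := by
    rintro x hxK ⟨n, rfl⟩
    have h1 : (n : G) = 1 := by
      have := MonoidHom.mem_ker.mp hxK
      rwa [hπι] at this
    have h2 : n = 1 := Subtype.ext h1
    rw [h2, map_one]
  have hθhK : ∀ z ∈ K, θh z ≠ 0 := by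
    intro z hz h0
    have h1 := norm_central hθh z (Subgroup.mem_center_iff.mpr (fun y => (hKc z hz y).symm))
    rw [h0, norm_zero, hθh1] at h1
    exact hθ1 (norm_eq_zero.mp h1.symm)
  -- the quotient
  set mk := QuotientGroup.mk' N₀ with hmk
  have hmksurj : Function.Surjective mk := QuotientGroup.mk'_surjective N₀
  set Z : Subgroup (Gam N ρ.toHomUnits M ⧸ N₀) := K.map mk with hZ
  have hZc : Z ≤ Subgroup.center (Gam N ρ.toHomUnits M ⧸ N₀) := by
    rintro _ ⟨z, hz, rfl⟩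
    rw [Subgroup.mem_center_iff]
    intro q
    obtain ⟨y, rfl⟩ := hmksurj q
    rw [← map_mul, ← map_mul, hKc z hz y]
  -- the prescribed values
  have hchoose : ∀ zb : Z, ∃ z : Gam N ρ.toHomUnits M, z ∈ K ∧ mk z = (zb : _ ⧸ N₀) :=
    fun zb => Subgroup.mem_map.mp zb.2
  choose zof hzofK hzofmk using hchoose
  let w : Z → ℂˣ := fun zb =>
    Units.mk0 (θh 1 / θh (zof zb)) (div_ne_zero (by rw [hθh1]; exact hθ1) (hθhK _ (hzofK zb)))
  -- the local data
  have hloc : ∀ p : ℕ, p.Prime → ∃ (H : Subgroup (Gam N ρ.toHomUnits M ⧸ N₀)) (hZH : Z ≤ H)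
      (β : H →* ℂˣ), Nat.Coprime H.index p ∧ ∀ z : Z, β ⟨z, hZH z.2⟩ = w z := by
    intro p hp
    obtain ⟨P, hNP, η, hcop, hη, hηθ⟩ := hsyl p hp
    set ΓP : Subgroup (Gam N ρ.toHomUnits M) := P.comap π₁ with hΓP
    haveI : Fintype ΓP := Fintype.ofFinite _
    have hKΓP : K ≤ ΓP := by
      intro z hz
      rw [hΓP, Subgroup.mem_comap, MonoidHom.mem_ker.mp hz]
      exact P.one_mem
    have hN₀ΓP : N₀ ≤ ΓP := by
      rintro _ ⟨n, rfl⟩
      rw [hΓP, Subgroup.mem_comap, hπι]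
      exact hNP n.2
    refine ⟨ΓP.map mk, Subgroup.map_mono hKΓP, ?_⟩
    -- characters of ΓP
    set N₀P : Subgroup ΓP := N₀.subgroupOf ΓP with hN₀P
    haveI : N₀P.Normal := Subgroup.normal_subgroupOf
    haveI : Fintype N₀P := Fintype.ofFinite _
    set θhP : ΓP → ℂ := fun x => θh x with hθhP
    let ιP : N →* ΓP :=
      { toFun := fun n => ⟨ι n, hN₀ΓP ⟨n, rfl⟩⟩
        map_one' := by apply Subtype.ext; simp
        map_mul' := fun a b => by apply Subtype.ext; simp }
    have hθhPirr : IsIrrCharacter ΓP θhP := by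
      refine ⟨d, MonoidHom.comp (gamRep N ρ.toHomUnits M) ΓP.subtype, ?_, rfl⟩
      apply isIrreducible_of_comp _ ιP
      have : (MonoidHom.comp (MonoidHom.comp (gamRep N ρ.toHomUnits M) ΓP.subtype) ιP :
          Representation ℂ N (Fin d → ℂ)) = ρ := by
        ext n : 1
        rfl
      rw [this]
      exact hirr
    let π₁P : ΓP →* P := π₁.subgroupComap P
    have hπ₁P : Function.Surjective π₁P := π₁.subgroupComap_surjective_of_surjective P hsurj
    set ηt : ΓP → ℂ := fun x => η (π₁P x) with hηt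
    have hηtirr : IsIrrCharacter ΓP ηt := IsIrrCharacter.comp_surjective hη π₁P hπ₁P
    -- the isomorphism N ≃ N₀P
    let jP : N →* N₀P :=
      { toFun := fun n => ⟨ιP n, Subgroup.mem_subgroupOf.mpr ⟨n, rfl⟩⟩
        map_one' := by apply Subtype.ext; exact map_one ιP
        map_mul' := fun a b => by apply Subtype.ext; exact map_mul ιP a b }
    have hjP : Function.Bijective jP := by
      constructor
      · intro a b hab
        have h1 : ι a = ι b := congrArg (fun x : N₀P => ((x : ΓP) : Gam N ρ.toHomUnits M)) hab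
        exact gamIota_injective N ρ.toHomUnits M hdet h1
      · rintro ⟨⟨x, hxΓ⟩, hx⟩
        obtain ⟨n, hn⟩ := Subgroup.mem_subgroupOf.mp hx
        refine ⟨n, ?_⟩
        apply Subtype.ext
        apply Subtype.ext
        exact hn
    let eP : N ≃* N₀P := MulEquiv.ofBijective jP hjP
    have hePval : ∀ n : N, (((eP n : N₀P) : ΓP) : Gam N ρ.toHomUnits M) = ι n := fun n => rfl
    have hθN₀P : IsIrrCharacter N₀P (fun x : N₀P => θhP x) := by
      have h1 := IsIrrCharacter.comp_mulEquiv hθ' eP.symm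
      convert h1 using 1
      ext x
      obtain ⟨n, rfl⟩ := eP.surjective x
      rw [MulEquiv.symm_apply_apply]
      rfl
    have hresEq : (fun x : N₀P => ηt x) = (fun x : N₀P => θhP x) := by
      ext x
      obtain ⟨n, rfl⟩ := eP.surjective x
      have h1 : π₁P ((eP n : N₀P) : ΓP) = ⟨(n : G), hNP n.2⟩ := by
        apply Subtype.ext
        rfl
      change η (π₁P ((eP n : N₀P) : ΓP)) = θh (ι n)
      rw [h1, hηθ, hθhι]
    have hcon : classInner (fun x : N₀P => ηt x) (fun x : N₀P => θhP x) ≠ 0 := by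
      rw [hresEq, classInner_irr_self hθN₀P]
      exact one_ne_zero
    obtain ⟨β', hβ', hηβ⟩ := exists_gallagher_factor N₀P hθhPirr hθN₀P hηtirr hcon
    have hη1 : ηt 1 = θhP 1 := by
      have := congrFun hresEq 1
      exact this
    have hθhP1 : θhP 1 ≠ 0 := by
      rw [hθhP]
      change θh 1 ≠ 0
      rw [hθh1]; exact hθ1
    have hβ'1 : β' 1 = 1 := by
      have h1 := congrFun hηβ 1
      simp only [Pi.mul_apply, infl_apply, QuotientGroup.mk_one] at h1
      rw [hη1] at h1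
      have h2 : β' 1 * θhP 1 = 1 * θhP 1 := by rw [one_mul]; exact h1.symm
      exact mul_right_cancel₀ hθhP1 h2
    obtain ⟨ω', hω'⟩ := Cfsg.Agent.S0154.exists_hom_of_degree_one β' hβ' hβ'1
    let ν' : ΓP →* ℂˣ := ω'.comp (QuotientGroup.mk' N₀P)
    have hην' : ∀ x : ΓP, ηt x = (ν' x : ℂ) * θhP x := by
      intro x
      have h1 := congrFun hηβ x
      simp only [Pi.mul_apply, infl_apply] at h1
      rw [h1, hω']
      rfl
    let mkP : ΓP →* ΓP.map mk := mk.subgroupMap ΓP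
    have hmkP : Function.Surjective mkP := mk.subgroupMap_surjective ΓP
    have hkerP : mkP.ker ≤ ν'.ker := by
      intro x hx
      rw [MonoidHom.mem_ker] at hx ⊢
      have h1 : mk (x : Gam N ρ.toHomUnits M) = 1 := congrArg Subtype.val hx
      have h2 : (x : Gam N ρ.toHomUnits M) ∈ N₀ := (QuotientGroup.eq_one_iff _).mp h1
      have h3 : x ∈ N₀P := Subgroup.mem_subgroupOf.mpr h2
      change ω' (QuotientGroup.mk' N₀P x) = 1
      have h4 : QuotientGroup.mk' N₀P x = 1 := (QuotientGroup.eq_one_iff x).mpr h3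
      rw [h4, map_one]
    refine ⟨MonoidHom.liftOfSurjective mkP hmkP ⟨ν', hkerP⟩, ?_, ?_⟩
    · rw [Subgroup.index_map_eq _ hmksurj, hΓP, Subgroup.index_comap_of_surjective _ hsurj]
      · exact hcop
      · rw [hmk, QuotientGroup.ker_mk']
        exact hN₀ΓP
    · intro zb
      have hzΓP : zof zb ∈ ΓP := hKΓP (hzofK zb)
      have h1 : (⟨(zb : _ ⧸ N₀), Subgroup.map_mono hKΓP zb.2⟩ : ΓP.map mk)
          = mkP ⟨zof zb, hzΓP⟩ := by
        apply Subtype.ext
        exact (hzofmk zb).symm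
      rw [h1, MonoidHom.liftOfRightInverse_comp_apply]
      apply Units.ext
      change ((ν' ⟨zof zb, hzΓP⟩ : ℂˣ) : ℂ) = θh 1 / θh (zof zb)
      have h2 := hην' ⟨zof zb, hzΓP⟩
      have h3 : ηt ⟨zof zb, hzΓP⟩ = θh 1 := by
        have h4 : π₁P ⟨zof zb, hzΓP⟩ = 1 := by
          apply Subtype.ext
          exact MonoidHom.mem_ker.mp (hzofK zb)
        change η (π₁P ⟨zof zb, hzΓP⟩) = θh 1
        rw [h4]
        have h5 := hηθ 1
        have h6 : (⟨((1 : N) : G), hNP (1 : N).2⟩ : P) = 1 := rfl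
        rw [h6] at h5
        rw [h5, hθh1]
      rw [h3] at h2
      have h7 : θhP ⟨zof zb, hzΓP⟩ = θh (zof zb) := rfl
      rw [h7] at h2
      rw [h2, mul_div_assoc, div_self (hθhK _ (hzofK zb)), mul_one]
  obtain ⟨ν, hν⟩ := exists_hom_extension_of_sylow' Z hZc w hloc
  -- the extension
  let νΓ : Gam N ρ.toHomUnits M →* ℂˣ := ν.comp mk
  set ξ : Gam N ρ.toHomUnits M → ℂ := fun x => θh x * (νΓ x : ℂ) with hξ
  have hξirr : IsIrrCharacter (Gam N ρ.toHomUnits M) ξ := isIrr_mul_hom hθh νΓ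
  have hξ1 : ξ 1 = θh 1 := by
    rw [hξ]; simp
  have hξK : ∀ z ∈ K, ξ z = ξ 1 := by
    intro z hz
    have hzZ : mk z ∈ Z := Subgroup.mem_map_of_mem mk hz
    have h1 := hν ⟨mk z, hzZ⟩
    have h2 : zof ⟨mk z, hzZ⟩ = z := by
      have h3 := hzofmk ⟨mk z, hzZ⟩
      have h4 := hzofK ⟨mk z, hzZ⟩
      have h5 : (zof ⟨mk z, hzZ⟩)⁻¹ * z ∈ N₀ := by
        rw [← QuotientGroup.eq_one_iff]
        change mk ((zof ⟨mk z, hzZ⟩)⁻¹ * z) = 1
        rw [map_mul, map_inv, h3]
        simp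
      have h6 : (zof ⟨mk z, hzZ⟩)⁻¹ * z ∈ K := K.mul_mem (K.inv_mem h4) hz
      have h7 := hKN₀ _ h6 h5
      exact (inv_mul_eq_one.mp h7)
    rw [hξ1, hξ]
    change θh z * ((ν (mk z) : ℂˣ) : ℂ) = θh 1
    have h8 : ((ν (mk z) : ℂˣ) : ℂ) = θh 1 / θh z := by
      have := congrArg Units.val h1
      simp only [w, Units.val_mk0, h2] at this
      exact this
    rw [h8, mul_div_assoc', mul_comm, mul_div_assoc, div_self (hθhK z hz), mul_one]
  have hξι : ∀ n : N, ξ (ι n) = ρ.character n := by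
    intro n
    rw [hξ]
    change θh (ι n) * ((ν (mk (ι n)) : ℂˣ) : ℂ) = _
    have h1 : mk (ι n) = 1 := (QuotientGroup.eq_one_iff _).mpr ⟨n, rfl⟩
    rw [h1, map_one, Units.val_one, mul_one, hθhι]
  haveI : K.Normal := MonoidHom.normal_ker π₁
  obtain ⟨ψ, hψ, hψξ⟩ := IsIrrCharacter.deflate hξirr K hξK
  let eG : Gam N ρ.toHomUnits M ⧸ K ≃* G := QuotientGroup.quotientKerEquivOfSurjective π₁ hsurj
  refine ⟨fun g => ψ (eG.symm g), IsIrrCharacter.comp_mulEquiv hψ eG.symm, ?_⟩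
  intro n
  have h1 : eG.symm (n : G) = QuotientGroup.mk (ι n) := by
    rw [MulEquiv.symm_apply_eq]
    rfl
  simp only [h1, hψξ, hξι]

end Main

end Cfsg.Agent.Lib.Helper2_SylowExt
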