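import Mathlib
import Cfsg.Prelude.Def_Characters
import Cfsg.Agent.Lib.Helper2_ClassFn
import Cfsg.Agent.Lib.Helper2_CharBasic
import Cfsg.Agent.Lib.Helper2_CharOrtho
import Cfsg.Agent.Lib.Helper2_CharMore
import Cfsg.Agent.Lib.Helper2_Clifford
import Cfsg.Agent.Lib.Helper2_CharInd
import Cfsg.Agent.Lib.Helper2_CharDeg
import Cfsg.Agent.Lib.Helper2_CharSum
import Cfsg.Agent.Lib.Helper2_CliffordCorr
import Cfsg.Agent.Lib.Helper2_Gallagher
import Cfsg.Agent.Lib.Helper2_MGroup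
import Cfsg.Agent.Lib.Helper2_SylowExt
import Cfsg.Agent.Lib.Helper2_Ito
import Cfsg.Agent.S0154

set_option autoImplicit false

/-!
# Induction from a normal subgroup whose inertia quotient is abelian
-/

namespace Cfsg.Agent.Lib.Helper2_AbelInertia

open Cfsg
open Cfsg.Agent.Lib.Helper2_ClassFn
open Cfsg.Agent.Lib.Helper2_CharBasic
open Cfsg.Agent.Lib.Helper2_CharOrtho
open Cfsg.Agent.Lib.Helper2_CharMore
open Cfsg.Agent.Lib.Helper2_Clifford
open Cfsg.Agent.Lib.Helper2_CharInd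
open Cfsg.Agent.Lib.Helper2_CharDeg
open Cfsg.Agent.Lib.Helper2_CharSum
open Cfsg.Agent.Lib.Helper2_CliffordCorr
open Cfsg.Agent.Lib.Helper2_Gallagher
open Cfsg.Agent.Lib.Helper2_MGroup
open Cfsg.Agent.Lib.Helper2_SylowExt
open Cfsg.Agent.Lib.Helper2_Ito
open scoped ComplexConjugate

universe u

section Stage

variable {G : Type u} [Group G] [Fintype G]

theorem indFun_congr_subgroup {K₁ K₂ : Subgroup G} (hK : K₁ = K₂) (φ₁ : K₁ → ℂ) (φ₂ : K₂ → ℂ)
    (h : ∀ (x : G) (h1 : x ∈ K₁) (h2 : x ∈ K₂), φ₁ ⟨x, h1⟩ = φ₂ ⟨x, h2⟩) :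
    indFun K₁ φ₁ = indFun K₂ φ₂ := by
  subst hK
  congr 1
  funext x
  exact h x.1 x.2 x.2

/-- Induction in stages through an intermediate subgroup. -/
theorem indFun_stage (H T : Subgroup G) [Fintype T] (hHT : H ≤ T) (θ : H → ℂ) :
    indFun H θ = indFun T (indFun (H.subgroupOf T)
      (fun x => θ ⟨(x : T), Subgroup.mem_subgroupOf.mp x.2⟩)) := by
  rw [indFun_trans]
  have hK : H = (H.subgroupOf T).map T.subtype := by
    rw [Subgroup.subgroupOf_map_subtype]
    exact (inf_eq_left.mpr hHT).symm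
  apply indFun_congr_subgroup hK
  intro x h1 h2
  congr 1
  apply Subtype.ext
  have h := (H.subgroupOf T).coe_equivMapOfInjective_apply T.subtype T.subtype_injective
    (((H.subgroupOf T).equivMapOfInjective T.subtype T.subtype_injective).symm ⟨x, h2⟩)
  rw [MulEquiv.apply_symm_apply] at h
  exact h

end Stage

section TLevel

variable {X : Type u} [Group X] [Fintype X] (N : Subgroup X) [hN : N.Normal] [Fintype N]

set_option maxHeartbeats 1000000 in
/-- If `X / N` is abelian and `ψ ∈ Irr(X)` restricts to `f • θ` with `θ ∈ Irr(N)`, then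
`θ^X = e Σ_{χ ∈ C} χ` with `e = f` a positive integer and `e² |C| = |X : N|`. -/
theorem abelian_quotient_decomp (hab : ∀ x y : X, x * y * x⁻¹ * y⁻¹ ∈ N) {θ : N → ℂ}
    (hθ : IsIrrCharacter N θ) {ψ : X → ℂ} (hψ : IsIrrCharacter X ψ) (f : ℂ)
    (hres : (fun n : N => ψ n) = f • θ) :
    ∃ (e : ℕ) (C : Finset (X → ℂ)), 0 < e ∧ (e : ℂ) = f ∧
      (∀ χ ∈ C, IsIrrCharacter X χ ∧ (fun n : N => χ n) = f • θ) ∧
      indFun N θ = (e : ℂ) • ∑ χ ∈ C, χ ∧ e ^ 2 * C.card = N.index := by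
  classical
  haveI : Fintype (X ⧸ N) := Fintype.ofFinite _
  have hψc := IsIrrCharacter.isCharacter hψ
  have hψcf := IsCharacter.isClassFunction hψc
  have hθc := IsIrrCharacter.isCharacter hθ
  obtain ⟨d, hd0, hd⟩ := IsIrrCharacter.apply_one hθ
  -- `f` is a positive integer
  have hf1 : classInner (fun n : N => ψ n) θ = f := by
    rw [hres, classInner_smul_left, classInner_irr_self hθ, mul_one]
  obtain ⟨e, he⟩ := IsCharacter.classInner_irr_nat (IsCharacter.restrict hψc N) hθ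
  rw [hf1] at he
  subst he
  have he : ((e : ℕ) : ℂ) = (e : ℂ) := rfl
  have he0 : 0 < e := by
    rcases Nat.eq_zero_or_pos e with h0 | h0
    · exfalso
      have h1 := congrFun hres 1
      rw [h0] at h1
      simp only [Nat.cast_zero, Pi.smul_apply, zero_smul, Subgroup.coe_one] at h1
      exact IsIrrCharacter.apply_one_ne_zero hψ h1
    · exact h0
  have hcomm : ∀ a b : X ⧸ N, a * b = b * a := by
    intro a b
    induction a using QuotientGroup.induction_on with
    | H x =>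
    induction b using QuotientGroup.induction_on with
    | H y =>
    rw [← QuotientGroup.mk_mul, ← QuotientGroup.mk_mul, QuotientGroup.eq]
    have := hab y⁻¹ x⁻¹
    rw [inv_inv, inv_inv] at this
    convert this using 1
    group
  set B := irrFinset (X ⧸ N) with hB
  have hB1 : ∀ β ∈ B, β 1 = 1 := fun β hβ =>
    IsIrrCharacter.apply_one_of_comm hcomm (mem_irrFinset.mp hβ)
  have hirr : ∀ β ∈ B, IsIrrCharacter X (infl N β * ψ) := by
    intro β hβ
    obtain ⟨ω, hω⟩ := Cfsg.Agent.S0154.exists_hom_of_degree_one β (mem_irrFinset.mp hβ)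
      (hB1 β hβ)
    have := isIrr_mul_hom hψ (ω.comp (QuotientGroup.mk' N))
    convert this using 1
    ext x
    rw [Pi.mul_apply, infl_apply, hω, mul_comm]
    rfl
  have hresβ : ∀ β ∈ B, (fun n : N => (infl N β * ψ) n) = (e : ℂ) • θ := by
    intro β hβ
    rw [← hres]
    ext n
    rw [Pi.mul_apply, infl_apply, (QuotientGroup.eq_one_iff (n : X)).mpr n.2, hB1 β hβ, one_mul]
  set C := B.image (fun β => infl N β * ψ) with hC
  have hCirr : ∀ χ ∈ C, IsIrrCharacter X χ ∧ (fun n : N => χ n) = (e : ℂ) • θ := by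
    intro χ hχ
    obtain ⟨β, hβ, rfl⟩ := Finset.mem_image.mp hχ
    exact ⟨hirr β hβ, hresβ β hβ⟩
  -- Gallagher decomposition
  have hgal : (e : ℂ) • indFun N θ = ∑ β ∈ B, (infl N β * ψ) := by
    rw [← indFun_smul, ← hres, gallagher_decomp N hψcf]
    refine Finset.sum_congr rfl fun β hβ => ?_
    rw [hB1 β hβ, one_smul]
  have hΦ : IsCharacter X (indFun N θ) := IsCharacter.indFun hθc
  have hexp := expansion_of_mem_span (IsCharacter.mem_span hΦ)
  have hcoef : ∀ χ ∈ irrFinset X, classInner (indFun N θ) χ = if χ ∈ C then (e : ℂ) else 0 := by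
    intro χ hχ
    have hχi := mem_irrFinset.mp hχ
    have hχcf := IsCharacter.isClassFunction (IsIrrCharacter.isCharacter hχi)
    by_cases hmem : χ ∈ C
    · rw [if_pos hmem, frobenius_reciprocity N θ χ hχcf, (hCirr χ hmem).2, classInner_smul_right,
        classInner_irr_self hθ, mul_one, Complex.conj_natCast]
    · rw [if_neg hmem]
      by_contra hne
      have h1 : classInner ((e : ℂ) • indFun N θ) χ ≠ 0 := by
        rw [classInner_smul_left]
        exact mul_ne_zero (by exact_mod_cast he0.ne') hne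
      rw [hgal, classInner_sum_left] at h1
      obtain ⟨β, hβ, hβne⟩ := Finset.exists_ne_zero_of_sum_ne_zero h1
      rw [classInner_irr (hirr β hβ) hχi] at hβne
      have : infl N β * ψ = χ := by
        by_contra h
        rw [if_neg h] at hβne
        exact hβne rfl
      exact hmem (this ▸ Finset.mem_image_of_mem _ hβ)
  have hCsub : C ⊆ irrFinset X := fun χ hχ => mem_irrFinset.mpr (hCirr χ hχ).1
  have hdecomp : indFun N θ = (e : ℂ) • ∑ χ ∈ C, χ := by
    conv_lhs => rw [hexp]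
    rw [Finset.sum_congr rfl (fun χ hχ => by rw [hcoef χ hχ]), Finset.smul_sum,
      ← Finset.sum_subset hCsub]
    · refine Finset.sum_congr rfl fun χ hχ => ?_
      rw [if_pos hχ]
    · intro χ _ hχ
      rw [if_neg hχ, zero_smul]
  refine ⟨e, C, he0, he, hCirr, hdecomp, ?_⟩
  -- degrees
  have h1 := congrFun hdecomp 1
  rw [indFun_one, Pi.smul_apply, Finset.sum_apply] at h1
  have h2 : ∀ χ ∈ C, χ 1 = (e : ℂ) * d := by
    intro χ hχ
    have := congrFun (hCirr χ hχ).2 1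
    simp only [Subgroup.coe_one, Pi.smul_apply, smul_eq_mul] at this
    rw [this, hd]
  rw [Finset.sum_congr rfl h2, Finset.sum_const, hd, smul_eq_mul, nsmul_eq_mul] at h1
  have hd' : (d : ℂ) ≠ 0 := by exact_mod_cast hd0.ne'
  have h3 : (N.index : ℂ) = ((e ^ 2 * C.card : ℕ) : ℂ) := by
    push_cast
    apply mul_right_cancel₀ hd'
    rw [h1]; ring
  exact_mod_cast h3.symm

end TLevel

section GLevel

variable {G : Type u} [Group G] [Fintype G] (H T : Subgroup G) [hN : H.Normal]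

set_option maxHeartbeats 1000000 in
theorem inertia_abelian_decomp {θ : H → ℂ} (hθ : IsIrrCharacter H θ)
    (hT : ∀ g : G, g ∈ T ↔ ∀ h : H, θ ⟨g * h * g⁻¹, hN.conj_mem h h.2 g⟩ = θ h)
    (hab : ∀ x ∈ T, ∀ y ∈ T, x * y * x⁻¹ * y⁻¹ ∈ H) (hHT : H ≤ T)
    {ψ : T → ℂ} (hψ : IsIrrCharacter T ψ) (f : ℂ)
    (hres : (fun h : H => ψ ⟨h, hHT h.2⟩) = f • θ) :
    ∃ (e : ℕ) (C : Finset (G → ℂ)), 0 < e ∧ (e : ℂ) = f ∧ (∀ χ ∈ C, IsIrrCharacter G χ) ∧
      e ^ 2 * C.card * Nat.card H = Nat.card T ∧ indFun H θ = (e : ℂ) • ∑ χ ∈ C, χ ∧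
      ∀ χ ∈ C, χ 1 = (T.index : ℂ) * e * θ 1 := by
  classical
  haveI : Fintype T := Fintype.ofFinite _
  haveI : Fintype H := Fintype.ofFinite _
  set N' : Subgroup T := H.subgroupOf T with hN'
  haveI : Fintype N' := Fintype.ofFinite _
  set θ' : N' → ℂ := fun x => θ ⟨(x : T), Subgroup.mem_subgroupOf.mp x.2⟩ with hθ'
  have hθ'irr : IsIrrCharacter N' θ' :=
    IsIrrCharacter.comp_mulEquiv hθ (Subgroup.subgroupOfEquivOfLe hHT)
  have hab' : ∀ x y : T, x * y * x⁻¹ * y⁻¹ ∈ N' := by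
    intro x y
    rw [hN', Subgroup.mem_subgroupOf]
    exact hab x x.2 y y.2
  have hres' : (fun n : N' => ψ n) = f • θ' := by
    ext n
    have := congrFun hres ⟨(n : T), Subgroup.mem_subgroupOf.mp n.2⟩
    simp only [Pi.smul_apply, smul_eq_mul] at this ⊢
    exact this
  obtain ⟨e, CT, he0, he, hCT, hdec, hcard⟩ :=
    abelian_quotient_decomp N' hab' hθ'irr hψ f hres'
  have hf : f ≠ 0 := by rw [← he]; exact_mod_cast he0.ne'
  have hresH : ∀ χ ∈ CT, (fun h : H => χ ⟨h, hHT h.2⟩) = f • θ := by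
    intro χ hχ
    ext h
    have := congrFun (hCT χ hχ).2 ⟨⟨h, hHT h.2⟩, Subgroup.mem_subgroupOf.mpr h.2⟩
    simp only [Pi.smul_apply, smul_eq_mul] at this ⊢
    exact this
  have hinj : Set.InjOn (indFun T) (CT : Set (T → ℂ)) := by
    intro χ hχ χ' hχ' heq
    exact clifford_corr_inj H T hθ hT hHT (hCT χ hχ).1 (hCT χ' hχ').1 f f hf hf
      (hresH χ hχ) (hresH χ' hχ') heq
  refine ⟨e, CT.image (indFun T), he0, he, ?_, ?_, ?_, ?_⟩
  · intro χ hχ
    obtain ⟨χ', hχ', rfl⟩ := Finset.mem_image.mp hχ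
    exact (clifford_corr H T hθ hT hHT (hCT χ' hχ').1 f hf (hresH χ' hχ')).1
  · rw [Finset.card_image_of_injOn hinj, hcard]
    have h1 := Subgroup.card_mul_index N'
    have h2 : Nat.card N' = Nat.card H :=
      Nat.card_congr (Subgroup.subgroupOfEquivOfLe hHT).toEquiv
    rw [h2] at h1
    rw [mul_comm]; exact h1
  · rw [indFun_stage H T hHT θ, hdec, indFun_smul, indFun_sum, Finset.sum_image hinj]
  · intro χ hχ
    obtain ⟨χ', hχ', rfl⟩ := Finset.mem_image.mp hχ
    rw [indFun_one]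
    have := congrFun (hresH χ' hχ') 1
    simp only [Pi.smul_apply, smul_eq_mul] at this
    have h1 : χ' 1 = f * θ 1 := this
    rw [h1, he]; ring

end GLevel

end Cfsg.Agent.Lib.Helper2_AbelInertia
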