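import Mathlib
import Cfsg.Prelude.Def_Characters
import Cfsg.Agent.Lib.Helper2_ClassFn
import Cfsg.Agent.Lib.Helper2_CharBasic
import Cfsg.Agent.Lib.Helper2_CharOrtho
import Cfsg.Agent.Lib.Helper2_CharMore
import Cfsg.Agent.Lib.Helper2_CharComplete
import Cfsg.Agent.Lib.Helper2_CharInd
import Cfsg.Agent.Lib.Helper2_CharDeg
import Cfsg.Agent.S0154

set_option autoImplicit false

/-!
# Artin's induction theorem (explicit form)
-/

namespace Cfsg.Agent.Lib.Helper2_Artin

open Cfsg
open Cfsg.Agent.Lib.Helper2_ClassFn
open Cfsg.Agent.Lib.Helper2_CharBasic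
open Cfsg.Agent.Lib.Helper2_CharOrtho
open Cfsg.Agent.Lib.Helper2_CharMore
open Cfsg.Agent.Lib.Helper2_CharComplete
open Cfsg.Agent.Lib.Helper2_CharInd
open Cfsg.Agent.Lib.Helper2_CharDeg
open scoped ComplexConjugate

universe u

/-- The function `|H|` on generators of `H`, zero elsewhere. -/
noncomputable def artinTheta (H : Type u) [Group H] : H → ℂ :=
  open Classical in fun a => if Subgroup.zpowers a = ⊤ then (Nat.card H : ℂ) else 0

section Basic

variable {H : Type u} [Group H]

theorem zpowers_coe_eq_iff (B : Subgroup H) (b : B) :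
    Subgroup.zpowers b = ⊤ ↔ Subgroup.zpowers (b : H) = B := by
  have h1 : (Subgroup.zpowers b).map B.subtype = Subgroup.zpowers (b : H) := by
    rw [MonoidHom.map_zpowers]; rfl
  constructor
  · intro h
    rw [← h1, h, ← MonoidHom.range_eq_map, Subgroup.range_subtype]
  · intro h
    apply Subgroup.map_injective (Subgroup.subtype_injective B)
    rw [h1, h, ← MonoidHom.range_eq_map, Subgroup.range_subtype]

theorem zpowers_conj_eq_top_iff (g x : H) :
    Subgroup.zpowers (x⁻¹ * g * x) = ⊤ ↔ Subgroup.zpowers g = ⊤ := by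
  have key : ∀ (g x : H), Subgroup.zpowers g = ⊤ → Subgroup.zpowers (x⁻¹ * g * x) = ⊤ := by
    intro g x h
    rw [eq_top_iff]
    intro y _
    have hy : x * y * x⁻¹ ∈ Subgroup.zpowers g := by rw [h]; trivial
    obtain ⟨k, hk⟩ := Subgroup.mem_zpowers_iff.mp hy
    rw [Subgroup.mem_zpowers_iff]
    refine ⟨k, ?_⟩
    have h2 : (x⁻¹ * g * x) ^ k = x⁻¹ * g ^ k * x := by
      have := conj_zpow (a := x⁻¹) (b := g) (i := k)
      simpa using this
    rw [h2, hk]
    group
  constructor
  · intro h
    have := key (x⁻¹ * g * x) x⁻¹ h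
    have e : x⁻¹⁻¹ * (x⁻¹ * g * x) * x⁻¹ = g := by group
    rwa [e] at this
  · exact key g x

variable [Fintype H]

open Classical in
/-- The function induced from `artinTheta` on a subgroup counts conjugators. -/
theorem indFun_artinTheta (B : Subgroup H) (g : H) :
    indFun B (artinTheta B) g
      = ((Finset.univ.filter (fun x : H => Subgroup.zpowers (x⁻¹ * g * x) = B)).card : ℂ) := by
  rw [indFun_apply]
  have h1 : ∀ y : H, extendByZero B (artinTheta B) y
      = if Subgroup.zpowers y = B then (Nat.card B : ℂ) else 0 := by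
    intro y
    by_cases hy : y ∈ B
    · rw [extendByZero_of_mem B _ hy]
      unfold artinTheta
      by_cases h : Subgroup.zpowers y = B
      · rw [if_pos h, if_pos ((zpowers_coe_eq_iff B ⟨y, hy⟩).mpr h)]
      · rw [if_neg h, if_neg (fun h' => h ((zpowers_coe_eq_iff B ⟨y, hy⟩).mp h'))]
    · rw [extendByZero_of_not_mem B _ hy, if_neg]
      intro h
      apply hy
      rw [← h]
      exact Subgroup.mem_zpowers y
  simp only [h1]
  rw [← Finset.sum_filter, Finset.sum_const, nsmul_eq_mul]
  have := card_subgroup_ne_zero B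
  field_simp

open Classical in
/-- Artin's formula: the induced `artinTheta`s add up to the constant `|H|`. -/
theorem sum_indFun_artinTheta [Fintype (Subgroup H)] :
    ∑ B : Subgroup H, indFun B (artinTheta B) = fun _ => (Nat.card H : ℂ) := by
  ext g
  rw [Finset.sum_apply]
  simp only [indFun_artinTheta]
  rw [← Nat.cast_sum]
  congr 1
  simp only [Finset.card_filter]
  rw [Finset.sum_comm]
  simp only [Finset.sum_ite_eq, Finset.mem_univ, if_true, Finset.sum_const, Finset.card_univ,
    smul_eq_mul, mul_one, Nat.card_eq_fintype_card]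

open Classical in
/-- Inducing `artinTheta` from the top subgroup gives `artinTheta`. -/
theorem indFun_top_artinTheta :
    indFun (⊤ : Subgroup H) (artinTheta (⊤ : Subgroup H)) = artinTheta H := by
  ext g
  rw [indFun_artinTheta]
  unfold artinTheta
  simp only [zpowers_conj_eq_top_iff]
  by_cases h : Subgroup.zpowers g = ⊤
  · rw [if_pos h]
    simp only [h, Finset.filter_true, Finset.card_univ, Nat.card_eq_fintype_card]
  · rw [if_neg h]
    simp only [h, Finset.filter_false, Finset.card_empty, Nat.cast_zero]

theorem artinTheta_eq_zero_of_not_isCyclic (h : ¬ IsCyclic H) : artinTheta H = 0 := by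
  ext a
  unfold artinTheta
  rw [if_neg]
  · rfl
  · intro ha
    exact h (isCyclic_iff_exists_zpowers_eq_top.mpr ⟨a, ha⟩)

end Basic

/-- `artinTheta` is a generalized character. -/
theorem artinTheta_isGeneralizedCharacter : ∀ n : ℕ, ∀ (H : Type u) [Group H] [Fintype H],
    Nat.card H = n → IsGeneralizedCharacter H (artinTheta H) := by
  intro n
  induction n using Nat.strong_induction_on with
  | _ n ih =>
  intro H _ _ hcard
  classical
  haveI : Fintype (Subgroup H) := Fintype.ofFinite _
  have hsum := sum_indFun_artinTheta (H := H)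
  rw [← Finset.add_sum_erase Finset.univ _ (Finset.mem_univ (⊤ : Subgroup H)),
    indFun_top_artinTheta] at hsum
  have h1 : artinTheta H = (fun _ => (Nat.card H : ℂ))
      - ∑ B ∈ Finset.univ.erase (⊤ : Subgroup H), indFun B (artinTheta B) := by
    rw [← hsum]; simp
  rw [h1]
  apply IsGeneralizedCharacter.sub
  · have : (fun _ : H => (Nat.card H : ℂ)) = (Nat.card H) • (fun _ : H => (1 : ℂ)) := by
      ext; simp
    rw [this]
    exact IsGeneralizedCharacter.nsmul _ (IsCharacter.isGeneralizedCharacter isCharacter_one)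
  · apply IsGeneralizedCharacter.sum
    intro B hB
    have hBne : B ≠ ⊤ := Finset.ne_of_mem_erase hB
    have hlt : Nat.card B < n := by
      rw [← hcard]
      apply lt_of_le_of_ne (Subgroup.card_le_card_group B)
      intro h
      exact hBne ((Subgroup.card_eq_iff_eq_top B).mp h)
    haveI : Fintype B := Fintype.ofFinite _
    exact IsGeneralizedCharacter.indFun (ih _ hlt B rfl)


section Main

variable {G : Type u} [Group G] [Fintype G]

/-- inducing a product with a restricted class function -/
theorem indFun_mul_res' (N : Subgroup G) (φ : N → ℂ) {χ : G → ℂ} (hχ : IsClassFunction G χ) :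
    indFun N (φ * fun n : N => χ n) = indFun N φ * χ := by
  ext g
  rw [Pi.mul_apply, indFun_apply, indFun_apply, mul_assoc, Finset.sum_mul]
  congr 1
  refine Finset.sum_congr rfl fun x _ => ?_
  by_cases hx : x⁻¹ * g * x ∈ N
  · rw [extendByZero_of_mem N _ hx, extendByZero_of_mem N _ hx, Pi.mul_apply]
    simp only
    rw [IsClassFunction.inv_conj hχ]
  · rw [extendByZero_of_not_mem N _ hx, extendByZero_of_not_mem N _ hx, zero_mul]

/-- `f` is an integer combination of functions induced from homomorphisms of cyclic subgroups. -/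
def ArtinSum (f : G → ℂ) : Prop :=
  ∃ l : List ((A : Subgroup G) × ((A →* ℂˣ) × ℤ)), (∀ t ∈ l, IsCyclic t.1) ∧
    f = (l.map fun t => (t.2.2 : ℂ) • indFun t.1 (fun a => (t.2.1 a : ℂ))).sum

theorem ArtinSum.zero : ArtinSum (0 : G → ℂ) := ⟨[], by simp, by simp⟩

theorem ArtinSum.add {f g : G → ℂ} (hf : ArtinSum f) (hg : ArtinSum g) : ArtinSum (f + g) := by
  obtain ⟨l, hl, rfl⟩ := hf
  obtain ⟨l', hl', rfl⟩ := hg
  refine ⟨l ++ l', ?_, ?_⟩
  · intro t ht
    rcases List.mem_append.mp ht with h | h
    · exact hl t h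
    · exact hl' t h
  · rw [List.map_append, List.sum_append]

theorem ArtinSum.single (A : Subgroup G) (hA : IsCyclic A) (lam : A →* ℂˣ) (z : ℤ) :
    ArtinSum ((z : ℂ) • indFun A (fun a => (lam a : ℂ))) :=
  ⟨[⟨A, (lam, z)⟩], by simpa using hA, by simp⟩

theorem ArtinSum.sum {ι : Type*} (s : Finset ι) (f : ι → G → ℂ) (h : ∀ i ∈ s, ArtinSum (f i)) :
    ArtinSum (∑ i ∈ s, f i) := by
  classical
  induction s using Finset.induction_on with
  | empty => simpa using ArtinSum.zero
  | insert a s ha ih =>
    rw [Finset.sum_insert ha]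
    exact ArtinSum.add (h a (Finset.mem_insert_self a s))
      (ih fun i hi => h i (Finset.mem_insert_of_mem hi))

/-- **Artin's induction theorem**, explicit form. -/
theorem artin {χ : G → ℂ} (hχ : IsCharacter G χ) : ArtinSum ((Nat.card G : ℂ) • χ) := by
  classical
  haveI : Fintype (Subgroup G) := Fintype.ofFinite _
  have hχcf := IsCharacter.isClassFunction hχ
  have h1 : (Nat.card G : ℂ) • χ
      = ∑ A : Subgroup G, indFun A (artinTheta A * fun a : A => χ a) := by
    have h2 := sum_indFun_artinTheta (H := G)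
    have h3 : (Nat.card G : ℂ) • χ = (fun _ => (Nat.card G : ℂ)) * χ := by
      ext g; simp
    rw [h3, ← h2, Finset.sum_mul]
    refine Finset.sum_congr rfl fun A _ => ?_
    rw [indFun_mul_res' A _ hχcf]
  rw [h1]
  apply ArtinSum.sum
  intro A _
  by_cases hA : IsCyclic A
  · haveI : Fintype A := Fintype.ofFinite _
    set f : A → ℂ := artinTheta A * fun a : A => χ a with hf
    have hfg : IsGeneralizedCharacter A f :=
      IsGeneralizedCharacter.mul (artinTheta_isGeneralizedCharacter _ A rfl)
        (IsCharacter.isGeneralizedCharacter (IsCharacter.restrict hχ A))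
    have hexp := IsClassFunction.expansion (IsGeneralizedCharacter.isClassFunction hfg)
    rw [hexp, indFun_sum]
    apply ArtinSum.sum
    intro lam hlam
    have hlamirr := mem_irrFinset.mp hlam
    obtain ⟨z, hz⟩ := IsGeneralizedCharacter.classInner_irr_int hfg hlamirr
    have hcomm : ∀ a b : A, a * b = b * a := by
      haveI := hA
      intro a b
      exact mul_comm' a b
    have hlam1 : lam 1 = 1 := IsIrrCharacter.apply_one_of_comm hcomm hlamirr
    obtain ⟨ω, hω⟩ := Cfsg.Agent.S0154.exists_hom_of_degree_one lam hlamirr hlam1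
    rw [indFun_smul, hz, hω]
    exact ArtinSum.single A hA ω z
  · have : artinTheta A = 0 := artinTheta_eq_zero_of_not_isCyclic hA
    rw [this, zero_mul, indFun_zero]
    exact ArtinSum.zero

end Main

end Cfsg.Agent.Lib.Helper2_Artin
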