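import Mathlib
import Cfsg.Prelude.Def_Characters
import Cfsg.Prelude.Def_CharExt
import Cfsg.Agent.Lib.Helper2_ClassFn
import Cfsg.Agent.Lib.Helper2_CharBasic
import Cfsg.Agent.Lib.Helper2_CharOrtho
import Cfsg.Agent.Lib.Helper2_CharMore
import Cfsg.Agent.Lib.Helper2_CharDeg
import Cfsg.Agent.Lib.Helper2_RepEquiv
import Cfsg.Agent.S0154

set_option autoImplicit false

/-!
# The determinantal character
-/

namespace Cfsg.Agent.Lib.Helper2_DetChar

open Cfsg
open Cfsg.Agent.Lib.Helper2_ClassFn
open Cfsg.Agent.Lib.Helper2_CharBasic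
open Cfsg.Agent.Lib.Helper2_CharOrtho
open Cfsg.Agent.Lib.Helper2_CharMore
open Cfsg.Agent.Lib.Helper2_CharDeg
open Cfsg.Agent.Lib.Helper2_RepEquiv
open scoped ComplexConjugate

universe u

variable {G : Type u} [Group G]

/-- The determinantal character is computed by any representation affording the character. -/
theorem detChar_eq_det [Finite G] {V : Type*} [AddCommGroup V] [Module ℂ V]
    [FiniteDimensional ℂ V] (ρ : Representation ℂ G V) :
    detChar ρ.character = fun g => LinearMap.det (ρ g) := by
  classical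
  haveI := Fintype.ofFinite G
  have h : IsCharacter G ρ.character := isCharacter_of_rep ρ
  have key : ∀ (n' : ℕ) (ρ' : Representation ℂ G (Fin n' → ℂ)), ρ'.character = ρ.character →
      ∀ g, LinearMap.det (ρ' g) = LinearMap.det (ρ g) := by
    intro n' ρ' hspec g
    obtain ⟨e⟩ := equiv_of_char_eq_aux _ _ _ ρ' ρ rfl hspec
    have h1 : ρ g = e.toLinearEquiv.toLinearMap ∘ₗ ρ' g ∘ₗ e.toLinearEquiv.symm.toLinearMap := by
      have h2 := e.toIntertwiningMap.isIntertwining' g
      ext v
      have h3 := LinearMap.congr_fun h2 (e.toLinearEquiv.symm v)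
      simp only [LinearMap.coe_comp, Function.comp_apply] at h3 ⊢
      have h4 : e.toLinearEquiv.toLinearMap (e.toLinearEquiv.symm v) = v :=
        e.toLinearEquiv.apply_symm_apply v
      rw [h4] at h3
      exact h3.symm
    rw [h1]
    exact (LinearMap.det_conj (ρ' g) e.toLinearEquiv).symm
  unfold detChar
  rw [dif_pos h]
  ext g
  exact key _ _ (Classical.choose_spec (Classical.choose_spec h)) g

/-- The determinantal character of a character is multiplicative. -/
theorem detChar_mul [Finite G] {χ : G → ℂ} (hχ : IsCharacter G χ) (g h : G) :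
    detChar χ (g * h) = detChar χ g * detChar χ h := by
  obtain ⟨n, ρ, rfl⟩ := hχ
  rw [detChar_eq_det]
  simp only [map_mul]

theorem detChar_one [Finite G] {χ : G → ℂ} (hχ : IsCharacter G χ) : detChar χ 1 = 1 := by
  obtain ⟨n, ρ, rfl⟩ := hχ
  rw [detChar_eq_det]
  simp only [map_one]

/-- The determinantal character as a homomorphism. -/
theorem exists_detHom [Finite G] {χ : G → ℂ} (hχ : IsCharacter G χ) :
    ∃ ω : G →* ℂˣ, detChar χ = fun g => ((ω g : ℂˣ) : ℂ) := by
  let f : G →* ℂ :=
    { toFun := detChar χ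
      map_one' := detChar_one hχ
      map_mul' := detChar_mul hχ }
  exact ⟨f.toHomUnits, rfl⟩

/-- Restriction commutes with the determinantal character. -/
theorem detChar_comp [Finite G] {H : Type u} [Group H] [Finite H] {χ : G → ℂ}
    (hχ : IsCharacter G χ) (f : H →* G) :
    detChar (fun h => χ (f h)) = fun h => detChar χ (f h) := by
  obtain ⟨n, ρ, rfl⟩ := hχ
  have h1 : (fun h => ρ.character (f h))
      = Representation.character (MonoidHom.comp ρ f : Representation ℂ H (Fin n → ℂ)) := rfl
  rw [h1, detChar_eq_det, detChar_eq_det]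
  rfl

/-- Twisting by a linear character multiplies the determinant by its `χ(1)`-th power. -/
theorem detChar_mul_hom [Finite G] {χ : G → ℂ} (hχ : IsCharacter G χ) (ω : G →* ℂˣ) (n : ℕ)
    (hn : χ 1 = n) :
    detChar (fun g => χ g * ((ω g : ℂˣ) : ℂ)) = fun g => detChar χ g * ((ω g : ℂˣ) : ℂ) ^ n := by
  obtain ⟨m, ρ, rfl⟩ := hχ
  have hm : m = n := by
    rw [Representation.char_one] at hn
    simp only [Module.finrank_fintype_fun_eq_card, Fintype.card_fin] at hn
    exact_mod_cast hn
  subst hm
  let ρ' : Representation ℂ G (Fin m → ℂ) :=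
    { toFun := fun g => ((ω g : ℂˣ) : ℂ) • ρ g
      map_one' := by simp
      map_mul' := fun g h => by
        simp only [map_mul, Units.val_mul]
        rw [smul_mul_smul_comm] }
  have h1 : (fun g => ρ.character g * ((ω g : ℂˣ) : ℂ)) = ρ'.character := by
    ext g
    change LinearMap.trace ℂ _ (ρ g) * _ = LinearMap.trace ℂ _ (((ω g : ℂˣ) : ℂ) • ρ g)
    rw [map_smul, smul_eq_mul, mul_comm]
  rw [h1, detChar_eq_det, detChar_eq_det]
  ext g
  change LinearMap.det (((ω g : ℂˣ) : ℂ) • ρ g) = _
  rw [LinearMap.det_smul]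
  simp only [Module.finrank_fintype_fun_eq_card, Fintype.card_fin]
  ring

/-- The determinantal character of a linear character is itself. -/
theorem detChar_hom [Finite G] (ω : G →* ℂˣ) :
    detChar (fun g => ((ω g : ℂˣ) : ℂ)) = fun g => ((ω g : ℂˣ) : ℂ) := by
  rw [← linRep_character, detChar_eq_det]
  ext g
  change LinearMap.det (((ω g : ℂˣ) : ℂ) • (LinearMap.id : ℂ →ₗ[ℂ] ℂ))
    = LinearMap.trace ℂ ℂ (((ω g : ℂˣ) : ℂ) • (LinearMap.id : ℂ →ₗ[ℂ] ℂ))
  rw [LinearMap.det_smul, map_smul]
  simp

section Order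

/-- Linear characters as functions. -/
def coeFnHom (G : Type*) [Group G] : (G →* ℂˣ) →* (G → ℂ) where
  toFun ω := fun g => ((ω g : ℂˣ) : ℂ)
  map_one' := by ext; simp
  map_mul' a b := by ext; simp

theorem coeFnHom_injective (G : Type*) [Group G] : Function.Injective (coeFnHom G) := by
  intro a b h
  ext g
  exact congrFun h g

theorem orderOf_coe {G : Type*} [Group G] (ω : G →* ℂˣ) :
    orderOf (fun g => ((ω g : ℂˣ) : ℂ)) = orderOf ω :=
  orderOf_injective (coeFnHom G) (coeFnHom_injective G) ω

theorem hom_pow_card {G : Type*} [Group G] [Finite G] (ω : G →* ℂˣ) : ω ^ Nat.card G = 1 := by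
  ext g
  simp only [MonoidHom.pow_apply, MonoidHom.one_apply, Units.val_one]
  rw [← map_pow, pow_card_eq_one', map_one, Units.val_one]

/-- A character of degree one comes from a homomorphism. -/
theorem exists_hom_of_linear {G : Type*} [Group G] {lam : G → ℂ}
    (hlam : IsCharacter G lam ∧ lam 1 = 1) : ∃ ω : G →* ℂˣ, lam = fun g => ((ω g : ℂˣ) : ℂ) := by
  obtain ⟨⟨m, ρ, rfl⟩, h1⟩ := hlam
  have hm : m = 1 := by
    rw [Representation.char_one] at h1
    simp only [Module.finrank_fintype_fun_eq_card, Fintype.card_fin] at h1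
    exact_mod_cast h1
  subst hm
  have hirr : ρ.IsIrreducible := isIrreducible_of_finrank_eq_one ρ (by simp)
  exact Cfsg.Agent.S0154.exists_hom_of_degree_one _ ⟨1, ρ, hirr, rfl⟩ h1

end Order

section Transfer

open Subgroup Subgroup.leftTransversals

/-- Values of the transfer are products of values of the homomorphism. -/
theorem transfer_pow_eq_one {G : Type*} [Group G] {H : Subgroup G} [H.FiniteIndex]
    (ϕ : H →* ℂˣ) (o : ℕ) (ho : ∀ h, ϕ h ^ o = 1) (g : G) :
    (MonoidHom.transfer ϕ g) ^ o = 1 := by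
  classical
  rw [MonoidHom.transfer_def ϕ (default : H.LeftTransversal)]
  unfold Subgroup.leftTransversals.diff
  simp only
  rw [← Finset.prod_pow]
  exact Finset.prod_eq_one (fun q _ => ho _)

/-- The transfer into a normal subgroup, on elements of that subgroup, for an invariant
homomorphism. -/
theorem transfer_eq_pow_of_normal {G : Type*} [Group G] (N : Subgroup G) [hN : N.Normal]
    [N.FiniteIndex] (ϕ : N →* ℂˣ)
    (hinv : ∀ (g : G) (n : N), ϕ ⟨g * n * g⁻¹, hN.conj_mem (n : G) n.2 g⟩ = ϕ n) (n : N) :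
    MonoidHom.transfer ϕ (n : G) = ϕ n ^ N.index := by
  classical
  rw [MonoidHom.transfer_def ϕ (default : N.LeftTransversal)]
  unfold Subgroup.leftTransversals.diff
  simp only
  have hfix : ∀ q : G ⧸ N, (n : G)⁻¹ • q = q := by
    intro q
    induction q using QuotientGroup.induction_on with
    | H t =>
      rw [MulAction.Quotient.smul_mk]
      apply QuotientGroup.eq.mpr
      have : ((n : G)⁻¹ • t)⁻¹ * t = t⁻¹ * (n : G) * t := by
        simp [smul_eq_mul, mul_assoc]
      rw [this]
      have := hN.conj_mem (n : G) n.2 t⁻¹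
      simpa using this
  have hterm : ∀ q : G ⧸ N, ∀ hmem,
      ϕ ⟨(((default : N.LeftTransversal).2.leftQuotientEquiv q : G))⁻¹ *
        ((((n : G) • (default : N.LeftTransversal)).2.leftQuotientEquiv q : G)), hmem⟩ = ϕ n := by
    intro q hmem
    have h1 := hinv (((default : N.LeftTransversal).2.leftQuotientEquiv q : G))⁻¹ n
    rw [← h1]
    congr 1
    apply Subtype.ext
    simp only [inv_inv]
    rw [Subgroup.smul_apply_eq_smul_apply_inv_smul, hfix, smul_eq_mul, mul_assoc]
  rw [Finset.prod_congr rfl (fun q _ => hterm q _), Finset.prod_const, Subgroup.index_eq_card]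
  congr 1
  letI := N.fintypeQuotientOfFiniteIndex
  rw [Nat.card_eq_fintype_card]
  convert Finset.card_univ

end Transfer

end Cfsg.Agent.Lib.Helper2_DetChar
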