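import Mathlib
import Cfsg.Prelude.Def_Characters
import Cfsg.Prelude.Def_CharExt
import Cfsg.Agent.Lib.Helper2_ClassFn
import Cfsg.Agent.Lib.Helper2_CharBasic
import Cfsg.Agent.Lib.Helper2_CharOrtho
import Cfsg.Agent.Lib.Helper2_DetChar

set_option autoImplicit false

/-!
# Extending invariant linear characters of coprime order
-/

namespace Cfsg.Agent.Lib.Helper2_LinExt

open Cfsg
open Cfsg.Agent.Lib.Helper2_ClassFn
open Cfsg.Agent.Lib.Helper2_CharBasic
open Cfsg.Agent.Lib.Helper2_CharOrtho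
open Cfsg.Agent.Lib.Helper2_DetChar

variable {G : Type*} [Group G] [Finite G] (N : Subgroup G) [hN : N.Normal]

/-- An invariant linear character of `N` whose order is coprime to `[G : N]` extends to `G`,
with the same order. -/
theorem exists_linear_extension (ω : N →* ℂˣ)
    (hinv : ∀ (g : G) (n : N), ω ⟨g * n * g⁻¹, hN.conj_mem (n : G) n.2 g⟩ = ω n)
    (hcop : Nat.Coprime N.index (orderOf ω)) :
    ∃ μ : G →* ℂˣ, (∀ n : N, μ n = ω n) ∧ orderOf μ = orderOf ω := by
  haveI : N.FiniteIndex := Subgroup.finiteIndex_of_finite_quotient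
  set o := orderOf ω with ho
  set idx := N.index with hidx
  have hωo : ∀ n : N, ω n ^ o = 1 := by
    intro n
    have h1 : ω ^ o = 1 := pow_orderOf_eq_one ω
    have h2 := congrArg (fun φ : N →* ℂˣ => φ n) h1
    simpa using h2
  have hbez : (idx : ℤ) * Nat.gcdA idx o + (o : ℤ) * Nat.gcdB idx o = 1 := by
    have := Nat.gcd_eq_gcd_ab idx o
    rw [hcop] at this
    exact_mod_cast this.symm
  set a := Nat.gcdA idx o with ha
  set b := Nat.gcdB idx o with hb
  let μ : G →* ℂˣ := (zpowGroupHom a).comp (MonoidHom.transfer ω)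
  have hμ : ∀ g, μ g = (MonoidHom.transfer ω g) ^ a := fun g => rfl
  have hres : ∀ n : N, μ n = ω n := by
    intro n
    rw [hμ, transfer_eq_pow_of_normal N ω hinv n, ← zpow_natCast, ← zpow_mul]
    have h1 : (idx : ℤ) * a = 1 - (o : ℤ) * b := by linarith
    rw [← hidx, h1, zpow_sub, zpow_one, zpow_mul, zpow_natCast, hωo, one_zpow]
    simp
  refine ⟨μ, hres, ?_⟩
  apply Nat.dvd_antisymm
  · apply orderOf_dvd_of_pow_eq_one
    ext g
    simp only [MonoidHom.pow_apply, MonoidHom.one_apply, Units.val_one]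
    rw [hμ, ← zpow_natCast, ← zpow_mul, mul_comm, zpow_mul, zpow_natCast,
      transfer_pow_eq_one ω o hωo g, one_zpow, Units.val_one]
  · apply orderOf_dvd_of_pow_eq_one
    ext n
    simp only [MonoidHom.pow_apply, MonoidHom.one_apply, Units.val_one]
    rw [← hres n]
    have h1 : μ ^ orderOf μ = 1 := pow_orderOf_eq_one μ
    have h2 := congrArg (fun φ : G →* ℂˣ => φ (n : G)) h1
    simp only [MonoidHom.pow_apply, MonoidHom.one_apply] at h2
    rw [h2, Units.val_one]

/-- Two extensions of the same linear character, both of order coprime to `[G : N]`, agree. -/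
theorem linear_extension_unique (μ μ' : G →* ℂˣ) (hres : ∀ n : N, μ n = μ' n)
    (hμ : Nat.Coprime N.index (orderOf μ)) (hμ' : Nat.Coprime N.index (orderOf μ')) :
    μ = μ' := by
  set β : G →* ℂˣ := μ' * μ⁻¹ with hβ
  have hβN : ∀ n ∈ N, β n = 1 := by
    intro n hn
    have := hres ⟨n, hn⟩
    simp only at this
    rw [hβ, MonoidHom.mul_apply, MonoidHom.inv_apply, this, mul_inv_cancel]
  have h1 : β ^ N.index = 1 := by
    ext g
    simp only [MonoidHom.pow_apply, MonoidHom.one_apply, Units.val_one]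
    rw [← map_pow, hβN _ (N.pow_index_mem g), Units.val_one]
  have h2 : β ^ (orderOf μ * orderOf μ') = 1 := by
    have hp : ∀ (ν : G →* ℂˣ) (g : G), ν g ^ orderOf ν = 1 := by
      intro ν g
      have h1 : ν ^ orderOf ν = 1 := pow_orderOf_eq_one ν
      have h2 := congrArg (fun φ : G →* ℂˣ => φ g) h1
      simp only [MonoidHom.pow_apply, MonoidHom.one_apply] at h2
      exact h2
    ext g
    simp only [hβ, MonoidHom.pow_apply, MonoidHom.mul_apply, MonoidHom.inv_apply,
      MonoidHom.one_apply, Units.val_one]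
    rw [mul_pow, inv_pow, pow_mul (μ g), hp μ g, one_pow, inv_one, mul_one, mul_comm (orderOf μ),
      pow_mul, hp μ' g, one_pow, Units.val_one]
  have h3 : orderOf β ∣ N.index := orderOf_dvd_of_pow_eq_one h1
  have h4 : orderOf β ∣ orderOf μ * orderOf μ' := orderOf_dvd_of_pow_eq_one h2
  have h5 : Nat.Coprime N.index (orderOf μ * orderOf μ') := Nat.Coprime.mul_right hμ hμ'
  have h6 : orderOf β = 1 := Nat.eq_one_of_dvd_coprimes h5 h3 h4
  have h7 : β = 1 := orderOf_eq_one_iff.mp h6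
  rw [hβ] at h7
  exact (mul_inv_eq_one.mp h7).symm

/-- Relative version: an invariant linear character of `N` extends to `P ⊇ N` when its order is
coprime to `[P : N]`. -/
theorem exists_linear_extension_subgroup (P : Subgroup G) (hNP : N ≤ P) (ω : N →* ℂˣ)
    (hinv : ∀ (g : G) (n : N), ω ⟨g * n * g⁻¹, hN.conj_mem (n : G) n.2 g⟩ = ω n)
    (hcop : Nat.Coprime (N.relIndex P) (orderOf ω)) :
    ∃ μ : P →* ℂˣ, ∀ n : N, μ ⟨n, hNP n.2⟩ = ω n := by
  set N' : Subgroup P := N.subgroupOf P with hN'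
  haveI : N'.Normal := Subgroup.normal_subgroupOf
  let e : N' ≃* N := Subgroup.subgroupOfEquivOfLe hNP
  let ω' : N' →* ℂˣ := ω.comp e.toMonoidHom
  have hω' : ∀ x : N', ω' x = ω (e x) := fun x => rfl
  have hord : orderOf ω' ∣ orderOf ω := by
    apply orderOf_dvd_of_pow_eq_one
    ext x
    simp only [MonoidHom.pow_apply, MonoidHom.one_apply, Units.val_one, hω']
    have h1 : ω ^ orderOf ω = 1 := pow_orderOf_eq_one ω
    have h2 := congrArg (fun φ : N →* ℂˣ => φ (e x)) h1
    simp only [MonoidHom.pow_apply, MonoidHom.one_apply] at h2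
    rw [h2, Units.val_one]
  have hcop' : Nat.Coprime N'.index (orderOf ω') := Nat.Coprime.coprime_dvd_right hord hcop
  have hinv' : ∀ (g : P) (n : N'),
      ω' ⟨g * n * g⁻¹, (inferInstance : N'.Normal).conj_mem (n : P) n.2 g⟩ = ω' n := by
    intro g n
    rw [hω', hω', ← hinv (g : G) (e n)]
    congr 1
  obtain ⟨μ, hμ, -⟩ := exists_linear_extension N' ω' hinv' hcop'
  refine ⟨μ, fun n => ?_⟩
  have h1 := hμ (e.symm n)
  rw [hω', MulEquiv.apply_symm_apply] at h1
  rw [← h1]
  congr 1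

/-- In the group of linear characters of `G` trivial on `N`, `d`-th roots exist uniquely when
`d` is coprime to `[G : N]`. -/
theorem exists_unique_root (γ : G →* ℂˣ) (hγ : ∀ n ∈ N, γ n = 1) (d : ℕ)
    (hcop : Nat.Coprime N.index d) :
    ∃ β : G →* ℂˣ, (∀ n ∈ N, β n = 1) ∧ (∀ g, β g ^ d = γ g) ∧
      ∀ β' : G →* ℂˣ, (∀ n ∈ N, β' n = 1) → (∀ g, β' g ^ d = γ g) → β' = β := by
  have hbez : (N.index : ℤ) * Nat.gcdA N.index d + (d : ℤ) * Nat.gcdB N.index d = 1 := by
    have := Nat.gcd_eq_gcd_ab N.index d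
    rw [hcop] at this
    exact_mod_cast this.symm
  set a := Nat.gcdA N.index d with ha
  set b := Nat.gcdB N.index d with hb
  have hidx : ∀ (ν : G →* ℂˣ), (∀ n ∈ N, ν n = 1) → ∀ g, ν g ^ N.index = 1 := by
    intro ν hν g
    rw [← map_pow]
    exact hν _ (N.pow_index_mem g)
  let β : G →* ℂˣ := (zpowGroupHom b).comp γ
  have hβ : ∀ g, β g = γ g ^ b := fun g => rfl
  refine ⟨β, fun n hn => by rw [hβ, hγ n hn, one_zpow], fun g => ?_, fun β' hβ'N hβ'd => ?_⟩
  · rw [hβ, ← zpow_natCast, ← zpow_mul]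
    have h1 : b * (d : ℤ) = 1 - (N.index : ℤ) * a := by linarith
    rw [h1, zpow_sub, zpow_one, zpow_mul, zpow_natCast, hidx γ hγ g, one_zpow]
    simp
  · ext g
    rw [hβ]
    have h1 : β' g = β' g ^ ((N.index : ℤ) * a + (d : ℤ) * b) := by rw [hbez, zpow_one]
    rw [h1, zpow_add, zpow_mul, zpow_mul, zpow_natCast, zpow_natCast, hidx β' hβ'N g, one_zpow,
      one_mul, hβ'd g]

end Cfsg.Agent.Lib.Helper2_LinExt
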