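import Mathlib
import Cfsg.Agent.S0002

set_option autoImplicit false

/-! Schur–Zassenhaus conjugacy (solvable case) in cardinality form. -/

namespace Cfsg.Agent.Lib.Lead_SZ

open Pointwise

variable {G : Type*} [Group G]

theorem card_lt [Finite G] {H K : Subgroup G} (h : H < K) : Nat.card H < Nat.card K :=
  Cfsg.Agent.S0002.card_lt h

theorem eq_of_le_of_card_eq [Finite G] {H K : Subgroup G} (h : H ≤ K)
    (hc : Nat.card H = Nat.card K) : H = K :=
  Cfsg.Agent.S0002.eq_of_le_of_card_eq h hc

/-- `|π X| * |X ⊓ M| = |X|` for the projection `π : G → G/M`. -/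
theorem card_map_mul [Finite G] (M : Subgroup G) [M.Normal] (X : Subgroup G) :
    Nat.card (X.map (QuotientGroup.mk' M)) * Nat.card (X ⊓ M : Subgroup G) = Nat.card X := by
  set f : X →* G ⧸ M := (QuotientGroup.mk' M).comp X.subtype with hf
  have h1 := Subgroup.card_mul_index f.ker
  rw [Subgroup.index_ker] at h1
  have hr : f.range = X.map (QuotientGroup.mk' M) := by
    rw [hf, MonoidHom.range_comp, Subgroup.range_subtype]
  have hk : Nat.card f.ker = Nat.card (X ⊓ M : Subgroup G) := by
    have : f.ker = (M.subgroupOf X) := by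
      ext x
      rw [MonoidHom.mem_ker, Subgroup.mem_subgroupOf, hf]
      simp
    rw [this]
    have e := Subgroup.subgroupOfEquivOfLe (inf_le_left : X ⊓ M ≤ X)
    rw [← Nat.card_congr e.toEquiv]
    have : (X ⊓ M).subgroupOf X = M.subgroupOf X := by
      rw [inf_comm]; exact Subgroup.inf_subgroupOf_right M X
    rw [this]
  rw [hr, hk, mul_comm] at h1
  exact h1

theorem card_conj_smul [Finite G] (g : G) (H : Subgroup G) :
    Nat.card (MulAut.conj g • H : Subgroup G) = Nat.card H := by
  exact (Nat.card_congr (Subgroup.equivSMul (MulAut.conj g) H).toEquiv).symm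

theorem mem_conj_smul (a x : G) (H : Subgroup G) :
    x ∈ MulAut.conj a • H ↔ a⁻¹ * x * a ∈ H := by
  rw [Subgroup.mem_pointwise_smul_iff_inv_smul_mem, MulAut.smul_def, MulAut.conj_inv_apply]

theorem conj_smul_smul (a b : G) (H : Subgroup G) :
    MulAut.conj a • (MulAut.conj b • H) = MulAut.conj (a * b) • H := by
  rw [map_mul, mul_smul]

theorem conj_smul_eq_self_of_mem {a : G} {H : Subgroup G} (ha : a ∈ H) :
    MulAut.conj a • H = H := by
  ext x
  rw [mem_conj_smul]
  constructor
  · intro h
    have := H.mul_mem (H.mul_mem ha h) (H.inv_mem ha)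
    simpa [mul_assoc] using this
  · intro h
    exact H.mul_mem (H.mul_mem (H.inv_mem ha) h) ha

theorem conj_smul_le_normalizer {a : G} {H : Subgroup G} :
    a ∈ Subgroup.normalizer (H : Set G) ↔ MulAut.conj a • H = H := by
  rw [Subgroup.mem_normalizer_iff_map_conj_eq]
  rfl

/-- The conjugacy statement, in cardinality form. -/
def SZConj (G : Type*) [Group G] : Prop :=
  ∀ (N H K : Subgroup G), N.Normal → (Nat.card N).Coprime (Nat.card H) →
    Nat.card N * Nat.card H = Nat.card G → Nat.card N * Nat.card K = Nat.card G →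
    (Group.IsSolvable N ∨ Group.IsSolvable H) → ∃ g : G, MulAut.conj g • H = K

theorem card_subgroupOf_of_le {H L : Subgroup G} (h : H ≤ L) :
    Nat.card (H.subgroupOf L) = Nat.card H :=
  Nat.card_congr (Subgroup.subgroupOfEquivOfLe h).toEquiv

theorem sub_step (L : Subgroup G) (hL : SZConj ↥L) (N₁ H K : Subgroup G)
    (hN₁ : (N₁.subgroupOf L).Normal) (hN₁L : N₁ ≤ L) (hH : H ≤ L) (hK : K ≤ L)
    (hcop : (Nat.card N₁).Coprime (Nat.card H))
    (hc1 : Nat.card N₁ * Nat.card H = Nat.card L) (hc2 : Nat.card N₁ * Nat.card K = Nat.card L)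
    (hsolv : Group.IsSolvable N₁ ∨ Group.IsSolvable H) : ∃ l ∈ L, MulAut.conj l • H = K := by
  have hsolv' : Group.IsSolvable (N₁.subgroupOf L) ∨ Group.IsSolvable (H.subgroupOf L) := by
    rcases hsolv with h | h
    · left
      have := h
      exact solvable_of_surjective (f := (Subgroup.subgroupOfEquivOfLe hN₁L).symm.toMonoidHom)
        (Subgroup.subgroupOfEquivOfLe hN₁L).symm.surjective
    · right
      have := h
      exact solvable_of_surjective (f := (Subgroup.subgroupOfEquivOfLe hH).symm.toMonoidHom)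
        (Subgroup.subgroupOfEquivOfLe hH).symm.surjective
  obtain ⟨l, hl⟩ := hL (N₁.subgroupOf L) (H.subgroupOf L) (K.subgroupOf L) hN₁
    (by rw [card_subgroupOf_of_le hN₁L, card_subgroupOf_of_le hH]; exact hcop)
    (by rw [card_subgroupOf_of_le hN₁L, card_subgroupOf_of_le hH]; exact hc1)
    (by rw [card_subgroupOf_of_le hN₁L, card_subgroupOf_of_le hK]; exact hc2) hsolv'
  refine ⟨l, l.2, ?_⟩
  ext x
  rw [mem_conj_smul]
  constructor
  · intro hx
    have hxL : x ∈ L := by
      have := L.mul_mem (L.mul_mem l.2 (hH hx)) (L.inv_mem l.2)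
      simpa [mul_assoc] using this
    have h1 : (⟨x, hxL⟩ : L) ∈ MulAut.conj l • H.subgroupOf L := by
      rw [mem_conj_smul, Subgroup.mem_subgroupOf]
      exact hx
    rw [hl, Subgroup.mem_subgroupOf] at h1
    exact h1
  · intro hx
    have hxL : x ∈ L := hK hx
    have h1 : (⟨x, hxL⟩ : L) ∈ K.subgroupOf L := by
      rw [Subgroup.mem_subgroupOf]; exact hx
    rw [← hl, mem_conj_smul, Subgroup.mem_subgroupOf] at h1
    exact h1

theorem map_conj_smul {G' : Type*} [Group G'] (f : G →* G') (g : G) (H : Subgroup G) :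
    (MulAut.conj g • H).map f = MulAut.conj (f g) • H.map f := by
  ext y
  rw [mem_conj_smul]
  constructor
  · rintro ⟨x, hx, rfl⟩
    have hx' : x ∈ MulAut.conj g • H := hx
    rw [mem_conj_smul] at hx'
    exact ⟨g⁻¹ * x * g, hx', by simp⟩
  · rintro ⟨x, hx, hxy⟩
    refine ⟨g * x * g⁻¹, ?_, ?_⟩
    · show g * x * g⁻¹ ∈ MulAut.conj g • H
      rw [mem_conj_smul]
      have : g⁻¹ * (g * x * g⁻¹) * g = x := by simp [mul_assoc]
      rw [this]; exact hx
    · simp only [map_mul, map_inv, hxy]
      simp [mul_assoc]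

theorem quot_step (M : Subgroup G) [M.Normal] (hQ : SZConj (G ⧸ M)) (N H K : Subgroup G)
    (hN : N.Normal)
    (hcop : (Nat.card (N.map (QuotientGroup.mk' M))).Coprime (Nat.card (H.map (QuotientGroup.mk' M))))
    (hc1 : Nat.card (N.map (QuotientGroup.mk' M)) * Nat.card (H.map (QuotientGroup.mk' M))
      = Nat.card (G ⧸ M))
    (hc2 : Nat.card (N.map (QuotientGroup.mk' M)) * Nat.card (K.map (QuotientGroup.mk' M))
      = Nat.card (G ⧸ M))
    (hsolv : Group.IsSolvable (N.map (QuotientGroup.mk' M)) ∨ Group.IsSolvable (H.map (QuotientGroup.mk' M))) :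
    ∃ g : G, (MulAut.conj g • H) ⊔ M = K ⊔ M := by
  have hN' : (N.map (QuotientGroup.mk' M)).Normal :=
    hN.map _ (QuotientGroup.mk'_surjective M)
  obtain ⟨gb, hgb⟩ := hQ _ _ _ hN' hcop hc1 hc2 hsolv
  obtain ⟨g, rfl⟩ := QuotientGroup.mk'_surjective M gb
  refine ⟨g, ?_⟩
  rw [← map_conj_smul] at hgb
  have := congrArg (Subgroup.comap (QuotientGroup.mk' M)) hgb
  rw [Subgroup.comap_map_eq, Subgroup.comap_map_eq, QuotientGroup.ker_mk'] at this
  exact this

/-- A nontrivial finite solvable group has a nontrivial normal `p`-subgroup for some prime `p`. -/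
theorem exists_normal_pgroup (H : Type*) [Group H] [Finite H] [Group.IsSolvable H]
    [Nontrivial H] :
    ∃ p : ℕ, p.Prime ∧ ∃ P : Subgroup H, P.Normal ∧ IsPGroup p P ∧ P ≠ ⊥ := by
  classical
  have hex : ∃ n, derivedSeries H n = ⊥ := (Group.isSolvable_def H).mp inferInstance
  have hspec := Nat.find_spec hex
  have hmin : ∀ {m : ℕ}, m < Nat.find hex → ¬ (derivedSeries H m = ⊥) :=
    fun {m} h => Nat.find_min hex h
  cases hk : Nat.find hex with
  | zero =>
    rw [hk, derivedSeries_zero] at hspec
    exact absurd hspec top_ne_bot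
  | succ k =>
    rw [hk, derivedSeries_succ] at hspec
    have hDne : derivedSeries H k ≠ ⊥ := hmin (by omega)
    set D := derivedSeries H k with hD
    have hDn : D.Normal := derivedSeries_normal H k
    have hcomm : ∀ a ∈ D, ∀ b ∈ D, a * b = b * a := by
      intro a ha b hb
      have := (Subgroup.commutator_eq_bot_iff_le_centralizer.mp hspec) ha
      rw [Subgroup.mem_centralizer_iff] at this
      exact (this b hb).symm
    have hcard : Nat.card D ≠ 1 := by
      intro h1
      exact hDne (Subgroup.card_eq_one.mp h1)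
    have hp : (Nat.card D).minFac.Prime := Nat.minFac_prime hcard
    refine ⟨(Nat.card D).minFac, hp, ?_⟩
    haveI : Fact (Nat.card D).minFac.Prime := ⟨hp⟩
    obtain ⟨P⟩ : Nonempty (Sylow (Nat.card D).minFac D) := inferInstance
    have hPn : (P : Subgroup D).Normal := by
      constructor
      intro n hn g
      have : g * n * g⁻¹ = n := by
        have h1 : (g : H) * (n : H) = (n : H) * (g : H) := hcomm g g.2 n n.2
        have : g * n = n * g := Subtype.ext h1
        rw [this]; simp
      rw [this]; exact hn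
    haveI := hPn
    haveI : (P : Subgroup D).Characteristic := Sylow.characteristic_of_normal P hPn
    refine ⟨(P : Subgroup D).map D.subtype, ConjAct.normal_of_characteristic_of_normal,
      P.2.map _, ?_⟩
    intro hbot
    have hPne : (P : Subgroup D) ≠ ⊥ := P.ne_bot_of_dvd_card (Nat.minFac_dvd _)
    apply hPne
    rw [Subgroup.map_eq_bot_iff_of_injective _ D.subtype_injective] at hbot
    exact hbot

theorem card_map_of_inf_bot [Finite G] (M : Subgroup G) [M.Normal] (X : Subgroup G)
    (h : X ⊓ M = ⊥) : Nat.card (X.map (QuotientGroup.mk' M)) = Nat.card X := by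
  have := card_map_mul M X
  rw [h, Subgroup.card_bot, mul_one] at this
  exact this

theorem card_map_of_le [Finite G] (M : Subgroup G) [M.Normal] (X : Subgroup G)
    (h : M ≤ X) : Nat.card (X.map (QuotientGroup.mk' M)) * Nat.card M = Nat.card X := by
  have := card_map_mul M X
  rw [inf_eq_right.mpr h] at this
  exact this

theorem exists_mul_of_complement {N K : Subgroup G} (hc : Subgroup.IsComplement' N K) (g : G) :
    ∃ n ∈ N, ∃ k ∈ K, g = n * k := by
  obtain ⟨x, hx, -⟩ := hc.existsUnique g
  exact ⟨x.1, x.1.2, x.2, x.2.2, hx.symm⟩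

theorem conj_of_subgroupOf (L : Subgroup G) (l : L) (A B : Subgroup G) (hA : A ≤ L) (hB : B ≤ L)
    (hl : MulAut.conj l • A.subgroupOf L = B.subgroupOf L) : MulAut.conj (l : G) • A = B := by
  ext x
  rw [mem_conj_smul]
  constructor
  · intro hx
    have hxL : x ∈ L := by
      have := L.mul_mem (L.mul_mem l.2 (hA hx)) (L.inv_mem l.2)
      simpa [mul_assoc] using this
    have h1 : (⟨x, hxL⟩ : L) ∈ MulAut.conj l • A.subgroupOf L := by
      rw [mem_conj_smul, Subgroup.mem_subgroupOf]
      exact hx
    rw [hl, Subgroup.mem_subgroupOf] at h1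
    exact h1
  · intro hx
    have hxL : x ∈ L := hB hx
    have h1 : (⟨x, hxL⟩ : L) ∈ B.subgroupOf L := by
      rw [Subgroup.mem_subgroupOf]; exact hx
    rw [← hl, mem_conj_smul, Subgroup.mem_subgroupOf] at h1
    exact h1

theorem conj_smul_mono (g : G) {A B : Subgroup G} (h : A ≤ B) :
    MulAut.conj g • A ≤ MulAut.conj g • B := by
  intro x hx
  rw [mem_conj_smul] at hx ⊢
  exact h hx

theorem solvable_conj_smul (g : G) (H : Subgroup G) (h : Group.IsSolvable H) :
    Group.IsSolvable (MulAut.conj g • H : Subgroup G) := by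
  have := h
  exact solvable_of_surjective (f := (Subgroup.equivSMul (MulAut.conj g) H).toMonoidHom)
    (Subgroup.equivSMul (MulAut.conj g) H).surjective

theorem solvable_map {G' : Type*} [Group G'] (f : G →* G') (H : Subgroup G)
    (h : Group.IsSolvable H) : Group.IsSolvable (H.map f) := by
  have := h
  exact solvable_of_surjective (f := f.subgroupMap H) (f.subgroupMap_surjective H)

theorem solvable_of_le {A B : Subgroup G} (hAB : A ≤ B) (h : Group.IsSolvable B) :
    Group.IsSolvable A := by
  have := h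
  exact solvable_of_solvable_injective (f := Subgroup.inclusion hAB)
    (Subgroup.inclusion_injective hAB)

universe u

theorem case1 {G : Type u} [Group G] [Finite G]
    (ih : ∀ (G' : Type u) [Group G'] [Finite G'], Nat.card G' < Nat.card G → SZConj G')
    (N H K : Subgroup G) (hN : N.Normal) (hcop : (Nat.card N).Coprime (Nat.card H))
    (hc1 : Nat.card N * Nat.card H = Nat.card G) (hc2 : Nat.card N * Nat.card K = Nat.card G)
    (hNs : Group.IsSolvable N) : ∃ g : G, MulAut.conj g • H = K := by
  have hNpos : 0 < Nat.card N := Nat.card_pos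
  have hHK : Nat.card H = Nat.card K := Nat.eq_of_mul_eq_mul_left hNpos (hc1.trans hc2.symm)
  have hcH : Subgroup.IsComplement' N H := Subgroup.isComplement'_of_coprime hc1 hcop
  have hcK : Subgroup.IsComplement' N K := Subgroup.isComplement'_of_coprime hc2 (hHK ▸ hcop)
  by_cases hab : ⁅N, N⁆ = ⊥
  · -- abelian case
    have hcomm : IsMulCommutative N := by
      refine ⟨⟨fun a b => ?_⟩⟩
      have := (Subgroup.commutator_eq_bot_iff_le_centralizer.mp hab) a.2
      rw [Subgroup.mem_centralizer_iff] at this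
      exact Subtype.ext (this b b.2).symm
    have hidx : N.index = Nat.card H := hcH.symm.index_eq_card
    obtain ⟨a, -, ha⟩ := Cfsg.Agent.S0002.result N (hidx ▸ hcop) H K hcH hcK
    exact ⟨a, ha⟩
  · set M : Subgroup G := ⁅N, N⁆ with hM
    have hMn : M.Normal := Subgroup.commutator_normal N N
    have hMN : M ≤ N := Subgroup.commutator_le_right N N
    have hNnt : Nontrivial N := by
      rw [Subgroup.nontrivial_iff_ne_bot]
      intro h
      apply hab
      rw [hM] at *
      exact le_bot_iff.mp (h ▸ hMN)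
    have hMltN : M < N := by
      refine lt_of_le_of_ne hMN ?_
      intro h
      have h1 := Group.IsSolvable.commutator_lt_top_of_nontrivial N
      have h2 : (commutator N).map N.subtype = N := by
        rw [Subgroup.map_subtype_commutator]; exact h
      have h3 : commutator N = ⊤ := by
        apply Subgroup.map_injective N.subtype_injective
        rw [h2, ← MonoidHom.range_eq_map, Subgroup.range_subtype]
      exact absurd h3 h1.ne
    have hMcard : 1 < Nat.card M := by
      rcases Nat.lt_or_ge 1 (Nat.card M) with h | h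
      · exact h
      · exfalso
        have : Nat.card M = 1 := by
          have : 0 < Nat.card M := Nat.card_pos
          omega
        exact hab (Subgroup.card_eq_one.mp this)
    have hMpos : 0 < Nat.card M := by omega
    -- cardinalities in the quotient
    have cN := card_map_of_le M N hMN
    have cH : Nat.card (H.map (QuotientGroup.mk' M)) = Nat.card H := by
      apply card_map_of_inf_bot
      have : H ⊓ M ≤ N ⊓ H := le_inf (inf_le_right.trans hMN) inf_le_left
      rw [hcH.disjoint.eq_bot] at this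
      exact le_bot_iff.mp this
    have cK : Nat.card (K.map (QuotientGroup.mk' M)) = Nat.card K := by
      apply card_map_of_inf_bot
      have : K ⊓ M ≤ N ⊓ K := le_inf (inf_le_right.trans hMN) inf_le_left
      rw [hcK.disjoint.eq_bot] at this
      exact le_bot_iff.mp this
    have cG := Subgroup.card_eq_card_quotient_mul_card_subgroup M
    have hq1 : Nat.card (N.map (QuotientGroup.mk' M)) * Nat.card (H.map (QuotientGroup.mk' M))
        = Nat.card (G ⧸ M) := by
      apply Nat.eq_of_mul_eq_mul_right hMpos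
      rw [← cG, ← hc1, ← cN, cH]; ring
    have hq2 : Nat.card (N.map (QuotientGroup.mk' M)) * Nat.card (K.map (QuotientGroup.mk' M))
        = Nat.card (G ⧸ M) := by
      rw [cK, ← hHK, ← cH]; exact hq1
    have hqcop : (Nat.card (N.map (QuotientGroup.mk' M))).Coprime
        (Nat.card (H.map (QuotientGroup.mk' M))) := by
      rw [cH]
      exact Nat.Coprime.coprime_dvd_left ⟨_, cN.symm⟩ hcop
    have hqlt : Nat.card (G ⧸ M) < Nat.card G := by
      rw [cG]
      have : 0 < Nat.card (G ⧸ M) := Nat.card_pos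
      nlinarith
    obtain ⟨g, hg⟩ := quot_step M (ih (G ⧸ M) hqlt) N H K hN hqcop hq1 hq2
      (Or.inl (solvable_map _ N hNs))
    set H₁ := MulAut.conj g • H with hH₁
    set L := K ⊔ M with hL
    have hH₁L : H₁ ≤ L := le_sup_left.trans hg.le
    have hKL : K ≤ L := le_sup_left
    have hML : M ≤ L := le_sup_right
    have cH₁ : Nat.card H₁ = Nat.card H := card_conj_smul g H
    have cL : Nat.card L = Nat.card K * Nat.card M := by
      have h1 := card_map_of_le M L hML
      have h2 : L.map (QuotientGroup.mk' M) = K.map (QuotientGroup.mk' M) := by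
        rw [hL, Subgroup.map_sup, QuotientGroup.map_mk'_self, sup_bot_eq]
      rw [h2, cK] at h1
      exact h1.symm
    have hLlt : Nat.card L < Nat.card G := by
      rw [cL, ← hc2, mul_comm]
      have := card_lt hMltN
      have hKpos : 0 < Nat.card K := Nat.card_pos
      nlinarith
    have hsub := sub_step L (ih L hLlt) M H₁ K inferInstance hML hH₁L hKL
      (by rw [cH₁]; exact Nat.Coprime.coprime_dvd_left (Subgroup.card_dvd_of_le hMN) hcop)
      (by rw [cH₁, hHK, cL, mul_comm]) (by rw [cL, mul_comm])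
      (Or.inl (solvable_of_le hMN hNs))
    obtain ⟨l, -, hl⟩ := hsub
    refine ⟨l * g, ?_⟩
    rw [← conj_smul_smul]
    exact hl

theorem case2 {G : Type u} [Group G] [Finite G]
    (ih : ∀ (G' : Type u) [Group G'] [Finite G'], Nat.card G' < Nat.card G → SZConj G')
    (N H K : Subgroup G) (hN : N.Normal) (hcop : (Nat.card N).Coprime (Nat.card H))
    (hc1 : Nat.card N * Nat.card H = Nat.card G) (hc2 : Nat.card N * Nat.card K = Nat.card G)
    (hHs : Group.IsSolvable H) : ∃ g : G, MulAut.conj g • H = K := by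
  have hNpos : 0 < Nat.card N := Nat.card_pos
  have hHK : Nat.card H = Nat.card K := Nat.eq_of_mul_eq_mul_left hNpos (hc1.trans hc2.symm)
  have hcH : Subgroup.IsComplement' N H := Subgroup.isComplement'_of_coprime hc1 hcop
  have hcK : Subgroup.IsComplement' N K := Subgroup.isComplement'_of_coprime hc2 (hHK ▸ hcop)
  by_cases hHbot : H = ⊥
  · refine ⟨1, ?_⟩
    have h1 : Nat.card K = 1 := by rw [← hHK, hHbot, Subgroup.card_bot]
    rw [Subgroup.card_eq_one.mp h1, hHbot]
    ext x
    rw [mem_conj_smul]
    simp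
  · have hHnt : Nontrivial H := (Subgroup.nontrivial_iff_ne_bot H).mpr hHbot
    obtain ⟨p, hp, P', hP'n, hP'p, hP'ne⟩ := exists_normal_pgroup H
    haveI : Fact p.Prime := ⟨hp⟩
    set P₀ : Subgroup G := P'.map H.subtype with hP₀
    have hP₀H : P₀ ≤ H := Subgroup.map_subtype_le P'
    have hP₀p : IsPGroup p P₀ := hP'p.map _
    have hP₀ne : P₀ ≠ ⊥ := by
      intro h
      apply hP'ne
      rw [hP₀, Subgroup.map_eq_bot_iff_of_injective _ H.subtype_injective] at h
      exact h
    -- H normalizes P₀
    have hHP₀ : ∀ h ∈ H, MulAut.conj h • P₀ = P₀ := by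
      intro h hh
      ext x
      rw [mem_conj_smul]
      constructor
      · rintro ⟨y, hy, hyx⟩
        have : x = h * (y : G) * h⁻¹ := by
          have : (y : G) = h⁻¹ * x * h := hyx
          rw [this]; simp [mul_assoc]
        rw [this]
        exact ⟨⟨h, hh⟩ * y * ⟨h, hh⟩⁻¹, hP'n.conj_mem y hy ⟨h, hh⟩, rfl⟩
      · rintro ⟨y, hy, rfl⟩
        refine ⟨⟨h, hh⟩⁻¹ * y * ⟨h, hh⟩, ?_, rfl⟩
        have := hP'n.conj_mem y hy ⟨h, hh⟩⁻¹
        simpa using this
    set U : Subgroup G := N ⊔ P₀ with hU
    have hNU : N ≤ U := le_sup_left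
    have hP₀U : P₀ ≤ U := le_sup_right
    -- U is normal
    have hUn : U.Normal := by
      rw [← Subgroup.normalizer_eq_top_iff, eq_top_iff, ← hcH.sup_eq_top]
      apply sup_le
      · exact hNU.trans Subgroup.le_normalizer
      · intro h hh
        rw [conj_smul_le_normalizer, hU, Subgroup.smul_sup, hHP₀ h hh, Subgroup.Normal.conj_smul_eq_self]
    -- cardinalities
    have hNP₀ : P₀ ⊓ N = ⊥ := by
      have : P₀ ⊓ N ≤ N ⊓ H := le_inf inf_le_right (inf_le_left.trans hP₀H)
      rw [hcH.disjoint.eq_bot] at this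
      exact le_bot_iff.mp this
    have cP₀ : Nat.card (P₀.map (QuotientGroup.mk' N)) = Nat.card P₀ :=
      card_map_of_inf_bot N P₀ hNP₀
    have hUmap : U.map (QuotientGroup.mk' N) = P₀.map (QuotientGroup.mk' N) := by
      rw [hU, Subgroup.map_sup, QuotientGroup.map_mk'_self, bot_sup_eq]
    have cU : Nat.card P₀ * Nat.card N = Nat.card U := by
      have := card_map_of_le N U hNU
      rw [hUmap, cP₀] at this
      exact this
    set P₁ : Subgroup G := K ⊓ U with hP₁
    have hP₁N : P₁ ⊓ N = ⊥ := by
      have : P₁ ⊓ N ≤ N ⊓ K := le_inf inf_le_right (inf_le_left.trans inf_le_left)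
      rw [hcK.disjoint.eq_bot] at this
      exact le_bot_iff.mp this
    have hP₁map : P₁.map (QuotientGroup.mk' N) = U.map (QuotientGroup.mk' N) := by
      apply le_antisymm (Subgroup.map_mono inf_le_right)
      rintro _ ⟨u, hu, rfl⟩
      obtain ⟨n, hn, k, hk, hnk⟩ := exists_mul_of_complement hcK u
      have hkU : k ∈ U := by
        have : k = n⁻¹ * u := by rw [hnk]; simp
        rw [this]
        exact U.mul_mem (U.inv_mem (hNU hn)) hu
      refine ⟨k, ⟨hk, hkU⟩, ?_⟩
      rw [hnk, map_mul]
      have : (QuotientGroup.mk' N) n = 1 := (QuotientGroup.eq_one_iff n).mpr hn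
      rw [this, one_mul]
    have cP₁ : Nat.card P₁ = Nat.card P₀ := by
      rw [← card_map_of_inf_bot N P₁ hP₁N, hP₁map, hUmap, cP₀]
    have hP₁U : P₁ ≤ U := inf_le_right
    -- p does not divide |N|
    have hpN : ¬ p ∣ Nat.card N := by
      intro hdvd
      have h1 : p ∣ Nat.card P₀ := by
        obtain ⟨k, hk⟩ := hP₀p.exists_card_eq
        rcases k with _ | k
        · rw [pow_zero] at hk
          exact absurd (Subgroup.card_eq_one.mp hk) hP₀ne
        · rw [hk]; exact dvd_pow_self p (by omega)
      have h2 : p ∣ Nat.card H := h1.trans (Subgroup.card_dvd_of_le hP₀H)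
      have := Nat.dvd_gcd hdvd h2
      rw [hcop] at this
      exact hp.one_lt.ne' (Nat.dvd_one.mp this)
    -- Sylow conjugacy in U
    have hQ₀p : IsPGroup p (P₀.subgroupOf U) := hP₀p.comap_of_injective _ U.subtype_injective
    have hP₁p : IsPGroup p P₁ := by
      obtain ⟨k, hk⟩ := hP₀p.exists_card_eq
      exact IsPGroup.of_card (cP₁.trans hk)
    have hQ₁p : IsPGroup p (P₁.subgroupOf U) := hP₁p.comap_of_injective _ U.subtype_injective
    have hidx₀ : ¬ p ∣ (P₀.subgroupOf U).index := by
      have h1 := Subgroup.card_mul_index (P₀.subgroupOf U)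
      rw [card_subgroupOf_of_le hP₀U, ← cU] at h1
      have hpos : 0 < Nat.card P₀ := Nat.card_pos
      have : (P₀.subgroupOf U).index = Nat.card N := Nat.eq_of_mul_eq_mul_left hpos h1
      rw [this]; exact hpN
    have hidx₁ : ¬ p ∣ (P₁.subgroupOf U).index := by
      have h1 := Subgroup.card_mul_index (P₁.subgroupOf U)
      rw [card_subgroupOf_of_le hP₁U, cP₁, ← cU] at h1
      have hpos : 0 < Nat.card P₀ := Nat.card_pos
      have : (P₁.subgroupOf U).index = Nat.card N := Nat.eq_of_mul_eq_mul_left hpos h1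
      rw [this]; exact hpN
    obtain ⟨u, hu⟩ := MulAction.exists_smul_eq U (hQ₀p.toSylow hidx₀) (hQ₁p.toSylow hidx₁)
    have hu' : MulAut.conj u • P₀.subgroupOf U = P₁.subgroupOf U := by
      have := congrArg (fun S : Sylow p U => (S : Subgroup U)) hu
      exact this
    have huP : MulAut.conj (u : G) • P₀ = P₁ := conj_of_subgroupOf U u P₀ P₁ hP₀U hP₁U hu'
    -- replace H by H₁
    set H₁ := MulAut.conj (u : G) • H with hH₁
    have cH₁ : Nat.card H₁ = Nat.card H := card_conj_smul _ H
    have hH₁s : Group.IsSolvable H₁ := solvable_conj_smul _ H hHs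
    have hP₁H₁ : P₁ ≤ H₁ := huP ▸ conj_smul_mono _ hP₀H
    have hc1' : Nat.card N * Nat.card H₁ = Nat.card G := by rw [cH₁]; exact hc1
    have hcop' : (Nat.card N).Coprime (Nat.card H₁) := by rw [cH₁]; exact hcop
    have hcH₁ : Subgroup.IsComplement' N H₁ := Subgroup.isComplement'_of_coprime hc1' hcop'
    -- H₁ and K normalize P₁
    have hH₁P : H₁ ≤ Subgroup.normalizer (P₁ : Set G) := by
      intro x hx
      rw [conj_smul_le_normalizer]
      rw [hH₁, mem_conj_smul] at hx
      have h1 := hHP₀ _ hx
      have h2 : x = (u : G) * ((u : G)⁻¹ * x * (u : G)) * (u : G)⁻¹ := by simp [mul_assoc]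
      rw [h2, ← huP, conj_smul_smul]
      have h3 : (u : G) * ((u : G)⁻¹ * x * (u : G)) * (u : G)⁻¹ * (u : G)
          = (u : G) * ((u : G)⁻¹ * x * (u : G)) := by simp [mul_assoc]
      rw [h3, ← conj_smul_smul, h1]
    have hKP : K ≤ Subgroup.normalizer (P₁ : Set G) := by
      intro k hk
      rw [conj_smul_le_normalizer]
      ext x
      rw [mem_conj_smul, hP₁]
      constructor
      · rintro ⟨h1, h2⟩
        constructor
        · have := K.mul_mem (K.mul_mem hk h1) (K.inv_mem hk)
          simpa [mul_assoc] using this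
        · have := hUn.conj_mem _ h2 k
          simpa [mul_assoc] using this
      · rintro ⟨h1, h2⟩
        constructor
        · exact K.mul_mem (K.mul_mem (K.inv_mem hk) h1) hk
        · have := hUn.conj_mem _ h2 k⁻¹
          simpa [mul_assoc] using this
    have hP₁ne : P₁ ≠ ⊥ := by
      intro h
      have h1 : Nat.card P₀ = 1 := by rw [← cP₁, h, Subgroup.card_bot]
      exact hP₀ne (Subgroup.card_eq_one.mp h1)
    by_cases hL : Subgroup.normalizer (P₁ : Set G) = ⊤
    · -- P₁ normal; pass to the quotient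
      have hPn : P₁.Normal := Subgroup.normalizer_eq_top_iff.mp hL
      have hPpos : 0 < Nat.card P₁ := Nat.card_pos
      have hPcard : 1 < Nat.card P₁ := by
        rcases Nat.lt_or_ge 1 (Nat.card P₁) with h | h
        · exact h
        · exfalso
          have : Nat.card P₁ = 1 := by omega
          exact hP₁ne (Subgroup.card_eq_one.mp this)
      have hNP₁ : N ⊓ P₁ = ⊥ := by rw [inf_comm]; exact hP₁N
      have cN := card_map_of_inf_bot P₁ N hNP₁
      have cH := card_map_of_le P₁ H₁ hP₁H₁
      have cK := card_map_of_le P₁ K (inf_le_left : P₁ ≤ K)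
      have cG := Subgroup.card_eq_card_quotient_mul_card_subgroup P₁
      have hq1 : Nat.card (N.map (QuotientGroup.mk' P₁)) * Nat.card (H₁.map (QuotientGroup.mk' P₁))
          = Nat.card (G ⧸ P₁) := by
        apply Nat.eq_of_mul_eq_mul_right hPpos
        rw [← cG, ← hc1', ← cH, cN]; ring
      have hq2 : Nat.card (N.map (QuotientGroup.mk' P₁)) * Nat.card (K.map (QuotientGroup.mk' P₁))
          = Nat.card (G ⧸ P₁) := by
        apply Nat.eq_of_mul_eq_mul_right hPpos
        rw [← cG, ← hc2, ← cK, cN]; ring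
      have hqcop : (Nat.card (N.map (QuotientGroup.mk' P₁))).Coprime
          (Nat.card (H₁.map (QuotientGroup.mk' P₁))) := by
        rw [cN]
        exact Nat.Coprime.coprime_dvd_right ⟨_, cH.symm⟩ hcop'
      have hqlt : Nat.card (G ⧸ P₁) < Nat.card G := by
        rw [cG]
        have : 0 < Nat.card (G ⧸ P₁) := Nat.card_pos
        nlinarith
      obtain ⟨g, hg⟩ := quot_step P₁ (ih (G ⧸ P₁) hqlt) N H₁ K hN hqcop hq1 hq2
        (Or.inr (solvable_map _ H₁ hH₁s))
      have h1 : K ⊔ P₁ = K := sup_eq_left.mpr inf_le_left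
      have h2 : MulAut.conj g • H₁ ⊔ P₁ = MulAut.conj g • H₁ := by
        apply sup_eq_left.mpr
        have := conj_smul_mono g hP₁H₁
        rwa [Subgroup.Normal.conj_smul_eq_self] at this
      rw [h1, h2] at hg
      refine ⟨g * (u : G), ?_⟩
      rw [← conj_smul_smul]
      exact hg
    · set L := Subgroup.normalizer (P₁ : Set G) with hLdef
      have hLlt : Nat.card L < Nat.card G := by
        have := card_lt (lt_top_iff_ne_top.mpr hL)
        rwa [Subgroup.card_top] at this
      -- |N ⊓ L| * |H₁| = |L|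
      have cGN := Subgroup.card_eq_card_quotient_mul_card_subgroup N
      have hGN : Nat.card (G ⧸ N) = Nat.card H₁ := by
        apply Nat.eq_of_mul_eq_mul_right hNpos
        rw [← cGN, ← hc1', mul_comm]
      have hH₁N : H₁ ⊓ N = ⊥ := by rw [inf_comm]; exact hcH₁.disjoint.eq_bot
      have cH₁map := card_map_of_inf_bot N H₁ hH₁N
      have hH₁top : H₁.map (QuotientGroup.mk' N) = ⊤ := by
        rw [← Subgroup.card_eq_iff_eq_top, cH₁map, hGN]
      have hLtop : L.map (QuotientGroup.mk' N) = ⊤ :=
        top_le_iff.mp (hH₁top ▸ Subgroup.map_mono hH₁P)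
      have cL : Nat.card H₁ * Nat.card (L ⊓ N : Subgroup G) = Nat.card L := by
        have := card_map_mul N L
        rw [hLtop, Subgroup.card_top, hGN] at this
        exact this
      have hnorm : ((N ⊓ L).subgroupOf L).Normal := by
        rw [Subgroup.inf_subgroupOf_right]
        infer_instance
      have hsub := sub_step L (ih L hLlt) (N ⊓ L) H₁ K hnorm inf_le_right hH₁P hKP
        (Nat.Coprime.coprime_dvd_left (Subgroup.card_dvd_of_le inf_le_left) hcop')
        (by rw [inf_comm, mul_comm]; exact cL)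
        (by rw [inf_comm, mul_comm, ← hHK, ← cH₁]; exact cL)
        (Or.inr hH₁s)
      obtain ⟨l, -, hl⟩ := hsub
      refine ⟨l * (u : G), ?_⟩
      rw [← conj_smul_smul]
      exact hl

theorem sz_conj_aux : ∀ (n : ℕ) (G : Type u) [Group G] [Finite G], Nat.card G = n → SZConj G := by
  intro n
  induction n using Nat.strong_induction_on with
  | _ n ih =>
    intro G _ _ hn N H K hN hcop hc1 hc2 hsolv
    have ih' : ∀ (G' : Type u) [Group G'] [Finite G'], Nat.card G' < Nat.card G → SZConj G' :=
      fun G' _ _ hlt => ih (Nat.card G') (hn ▸ hlt) G' rfl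
    rcases hsolv with h | h
    · exact case1 ih' N H K hN hcop hc1 hc2 h
    · exact case2 ih' N H K hN hcop hc1 hc2 h

/-- Schur–Zassenhaus conjugacy, cardinality form. -/
theorem sz_conj (G : Type u) [Group G] [Finite G] : SZConj G := sz_conj_aux _ G rfl

/-- Schur–Zassenhaus conjugacy for complements. -/
theorem sz_conj_complement {G : Type u} [Group G] [Finite G] (N : Subgroup G) [hN : N.Normal]
    (hcop : (Nat.card N).Coprime N.index) (H K : Subgroup G)
    (hsolv : Group.IsSolvable N ∨ Group.IsSolvable H)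
    (hH : Subgroup.IsComplement' N H) (hK : Subgroup.IsComplement' N K) :
    ∃ g : G, MulAut.conj g • H = K := by
  have hidx : N.index = Nat.card H := hH.symm.index_eq_card
  exact sz_conj G N H K hN (hidx ▸ hcop) hH.card_mul_card hK.card_mul_card hsolv

end Cfsg.Agent.Lib.Lead_SZ
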