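import Mathlib
import Cfsg.Prelude.Def_Characters
import Cfsg.Agent.Lib.Helper2_ClassFn
import Cfsg.Agent.Lib.Helper2_CharBasic
import Cfsg.Agent.Lib.Helper2_CharOrtho
import Cfsg.Agent.Lib.Helper2_Clifford
import Cfsg.Agent.Lib.Helper2_CharMore
import Cfsg.Agent.Lib.Helper2_CharComplete
import Cfsg.Agent.Lib.Helper2_CharInd
import Cfsg.Agent.Lib.Helper2_CharDeg
import Cfsg.Agent.Lib.Helper2_CharExtra
import Cfsg.Agent.Lib.Helper2_CliffordCorr
import Cfsg.Agent.Lib.Helper2_CharCenter
import Cfsg.Agent.Lib.Helper2_CharBurnside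
import Cfsg.Agent.Lib.Helper2_Ito
import Cfsg.Agent.S0154
import Cfsg.Agent.S0015
import Cfsg.Agent.S1488

set_option autoImplicit false

/-!
# Transitivity of induction, induction and inflation, nilpotent groups are M-groups
-/

namespace Cfsg.Agent.Lib.Helper2_MGroup

open Cfsg
open Cfsg.Agent.Lib.Helper2_ClassFn
open Cfsg.Agent.Lib.Helper2_CharBasic
open Cfsg.Agent.Lib.Helper2_CharOrtho
open Cfsg.Agent.Lib.Helper2_Clifford
open Cfsg.Agent.Lib.Helper2_CharMore
open Cfsg.Agent.Lib.Helper2_CharComplete
open Cfsg.Agent.Lib.Helper2_CharInd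
open Cfsg.Agent.Lib.Helper2_CharDeg
open Cfsg.Agent.Lib.Helper2_CharExtra
open Cfsg.Agent.Lib.Helper2_CliffordCorr
open Cfsg.Agent.Lib.Helper2_CharCenter
open Cfsg.Agent.Lib.Helper2_CharBurnside
open Cfsg.Agent.Lib.Helper2_Ito
open scoped ComplexConjugate

universe u

/-- The inner product is invariant under transport along a group isomorphism. -/
theorem classInner_comp_equiv {A B : Type*} [Group A] [Group B] [Fintype A] [Fintype B]
    (e : A ≃* B) (φ ψ : B → ℂ) :
    classInner (fun a => φ (e a)) (fun a => ψ (e a)) = classInner φ ψ := by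
  rw [classInner_def, classInner_def, Nat.card_congr e.toEquiv]
  congr 1
  exact Fintype.sum_equiv e.toEquiv _ _ fun x => rfl

section Trans

variable {G : Type u} [Group G] [Fintype G]

/-- Transitivity of induction. -/
theorem indFun_trans (T : Subgroup G) [Fintype T] (H' : Subgroup T) (θ : H' → ℂ) :
    indFun T (indFun H' θ) = indFun (H'.map T.subtype)
      (fun h => θ ((H'.equivMapOfInjective T.subtype T.subtype_injective).symm h)) := by
  classical
  haveI : Fintype H' := Fintype.ofFinite _
  haveI : Fintype (H'.map T.subtype) := Fintype.ofFinite _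
  set e := H'.equivMapOfInjective T.subtype T.subtype_injective with he
  have hcf : IsClassFunction G (indFun T (indFun H' θ) - indFun (H'.map T.subtype)
      (fun h => θ (e.symm h))) :=
    IsClassFunction.sub (indFun_isClassFunction _ _) (indFun_isClassFunction _ _)
  have h0 := eq_zero_of_classInner_eq_zero _ hcf ?_
  · exact sub_eq_zero.mp h0
  intro χ hχ
  have hχcf := IsCharacter.isClassFunction (IsIrrCharacter.isCharacter hχ)
  rw [classInner_sub_left, frobenius_reciprocity T _ χ hχcf,
    frobenius_reciprocity H' θ _ (IsClassFunction.restrict hχcf T), frobenius_reciprocity _ _ χ hχcf, sub_eq_zero,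
    ← classInner_comp_equiv e]
  congr 1
  ext a
  simp

/-- Inducing from the whole group does nothing to a class function. -/
theorem indFun_top (θ : (⊤ : Subgroup G) → ℂ) (f : G → ℂ) (hf : IsClassFunction G f)
    (hθ : ∀ h : (⊤ : Subgroup G), θ h = f h) : indFun (⊤ : Subgroup G) θ = f := by
  classical
  ext g
  rw [indFun_apply]
  have h1 : ∀ x : G, extendByZero (⊤ : Subgroup G) θ (x⁻¹ * g * x) = f g := by
    intro x
    rw [extendByZero_of_mem _ _ (Subgroup.mem_top _), hθ]
    have := hf g x⁻¹
    simpa using this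
  rw [Finset.sum_congr rfl fun x _ => h1 x, Finset.sum_const, Finset.card_univ, nsmul_eq_mul,
    Subgroup.card_top, Nat.card_eq_fintype_card, ← mul_assoc, inv_mul_cancel₀, one_mul]
  have := card_ne_zero_complex (G := G)
  rwa [Nat.card_eq_fintype_card] at this

end Trans

section Comap

variable {G : Type u} [Group G] [Fintype G] {Q : Type*} [Group Q] [Fintype Q]

theorem card_subgroup_eq_sum (H : Subgroup G) [DecidablePred (· ∈ H)] :
    (Nat.card H : ℂ) = ∑ x : G, if x ∈ H then (1 : ℂ) else 0 := by
  classical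
  rw [Finset.sum_boole, Nat.card_eq_fintype_card, Fintype.card_subtype]

/-- Induction commutes with inflation along a surjective homomorphism. -/
theorem indFun_comap (f : G →* Q) (hf : Function.Surjective f) (Hb : Subgroup Q) (θ : Hb → ℂ)
    (g : G) :
    indFun (Hb.comap f) (fun h => θ ⟨f h, h.2⟩) g = indFun Hb θ (f g) := by
  classical
  rw [indFun_apply, indFun_apply]
  have h1 : ∀ y : G, extendByZero (Hb.comap f) (fun h => θ ⟨f h, h.2⟩) y
      = extendByZero Hb θ (f y) := by
    intro y
    by_cases hy : y ∈ Hb.comap f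
    · rw [extendByZero_of_mem _ _ hy, extendByZero_of_mem _ _ (Subgroup.mem_comap.mp hy)]
    · rw [extendByZero_of_not_mem _ _ hy, extendByZero_of_not_mem Hb θ (g := f y) hy]
  have h2 : ∑ x : G, extendByZero (Hb.comap f) (fun h => θ ⟨f h, h.2⟩) (x⁻¹ * g * x)
      = (Nat.card f.ker : ℂ) * ∑ q : Q, extendByZero Hb θ (q⁻¹ * f g * q) := by
    rw [← Cfsg.Agent.S1488.sum_comp_surjective f hf (fun q => extendByZero Hb θ (q⁻¹ * f g * q))]
    refine Finset.sum_congr rfl fun x _ => ?_
    rw [h1]
    simp
  have h3 : (Nat.card (Hb.comap f) : ℂ) = (Nat.card f.ker : ℂ) * (Nat.card Hb : ℂ) := by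
    rw [card_subgroup_eq_sum (Hb.comap f), card_subgroup_eq_sum Hb,
      ← Cfsg.Agent.S1488.sum_comp_surjective f hf (fun q => if q ∈ Hb then (1 : ℂ) else 0)]
    rfl
  rw [h2, h3]
  have hk : (Nat.card f.ker : ℂ) ≠ 0 := card_subgroup_ne_zero _
  have hb : (Nat.card Hb : ℂ) ≠ 0 := card_subgroup_ne_zero _
  field_simp

end Comap

section Main

/-- Finite nilpotent groups are M-groups (induction on the order). -/
theorem mgroup_aux : ∀ (n : ℕ) (G : Type u) [Group G] [Fintype G] [Group.IsNilpotent G],
    Nat.card G = n → ∀ χ : G → ℂ, IsIrrCharacter G χ →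
    ∃ (H : Subgroup G) (lam : H →* ℂˣ), χ = indFun H (fun h => (lam h : ℂ)) := by
  classical
  intro n
  induction n using Nat.strong_induction_on with
  | _ n ih =>
  intro G _ _ _ hn χ hχ
  have hχc := IsIrrCharacter.isCharacter hχ
  have hχcf := IsCharacter.isClassFunction hχc
  obtain ⟨K, hKn, hK⟩ := exists_ker hχc
  by_cases hKbot : K = ⊥
  swap
  · -- non-faithful
    haveI := hKn
    haveI : Fintype (G ⧸ K) := Fintype.ofFinite _
    obtain ⟨ψ, hψ, hψχ⟩ := IsIrrCharacter.deflate hχ K (fun n hn => (hK n).mp hn)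
    have hlt : Nat.card (G ⧸ K) < n := by
      rw [← hn, ← Subgroup.card_mul_index K]
      have h1 : 1 < Nat.card K := (Subgroup.one_lt_card_iff_ne_bot K).mpr hKbot
      have h2 : 0 < K.index := Nat.pos_of_ne_zero Subgroup.index_ne_zero_of_finite
      change K.index < _
      nlinarith
    obtain ⟨Hb, lamb, hlamb⟩ := ih _ hlt (G ⧸ K) rfl ψ hψ
    refine ⟨Hb.comap (QuotientGroup.mk' K),
      lamb.comp ((QuotientGroup.mk' K).subgroupComap Hb), ?_⟩
    ext g
    rw [← hψχ g, hlamb]
    exact (indFun_comap (QuotientGroup.mk' K) (QuotientGroup.mk'_surjective K) Hb _ g).symm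
  · have hfaith : ∀ x, χ x = χ 1 → x = 1 := fun x hx => by
      have := (hK x).mpr hx
      rw [hKbot] at this
      exact Subgroup.mem_bot.mp this
    by_cases hab : ∀ a b : G, a * b = b * a
    · have h1 := IsIrrCharacter.apply_one_of_comm hab hχ
      obtain ⟨ω, hω⟩ := Cfsg.Agent.S0154.exists_hom_of_degree_one χ hχ h1
      refine ⟨⊤, ω.comp (⊤ : Subgroup G).subtype, ?_⟩
      symm
      apply indFun_top _ χ hχcf
      intro h
      rw [hω]
      rfl
    · -- a maximal abelian normal subgroup
      have hfin : {M : Subgroup G | M.Normal ∧ IsMulCommutative M}.Finite := Set.toFinite _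
      have hbot : (⊥ : Subgroup G) ∈ {M : Subgroup G | M.Normal ∧ IsMulCommutative M} :=
        ⟨inferInstance, inferInstance⟩
      obtain ⟨A, -, hAmax⟩ := hfin.exists_le_maximal hbot
      obtain ⟨⟨hAn, hAc⟩, hAm⟩ := hAmax
      haveI := hAn
      haveI := hAc
      have hcent : Subgroup.centralizer (A : Set G) = A :=
        Cfsg.Agent.S0015.result A
          (fun M hMn hMc hle => le_antisymm (hAm ⟨hMn, hMc⟩ hle) hle)
      have hAtop : A ≠ ⊤ := by
        intro h
        apply hab
        intro a b
        have := hAc.is_comm.comm ⟨a, h ▸ Subgroup.mem_top a⟩ ⟨b, h ▸ Subgroup.mem_top b⟩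
        exact congrArg Subtype.val this
      haveI : Fintype A := Fintype.ofFinite _
      have hχA : IsCharacter A (fun a : A => χ a) := IsCharacter.restrict hχc A
      have hne : (fun a : A => χ a) ≠ 0 := by
        intro h0
        exact IsIrrCharacter.apply_one_ne_zero hχ (congrFun h0 1)
      obtain ⟨lam, hlam, k, hk0, hk⟩ := IsCharacter.exists_constituent hχA hne
      have hlamcf := IsCharacter.isClassFunction (IsIrrCharacter.isCharacter hlam)
      have hc : classInner (fun a : A => χ a) lam ≠ 0 := by
        rw [hk]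
        exact_mod_cast hk0.ne'
      have hlam1 : lam 1 = 1 :=
        IsIrrCharacter.apply_one_of_comm (fun a b => hAc.is_comm.comm a b) hlam
      obtain ⟨ω, hω⟩ := Cfsg.Agent.S0154.exists_hom_of_degree_one lam hlam hlam1
      set T := inertia A lam with hT
      have hAT : A ≤ T := le_inertia A hlamcf
      have hTtop : T ≠ ⊤ := by
        intro htop
        have hinv : ∀ g : G, conjFn A lam g = lam := by
          intro g
          have : g ∈ inertia A lam := by
            rw [← hT, htop]
            exact Subgroup.mem_top g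
          exact this
        have hres := restrict_eq_smul_of_invariant A hχ hlam hinv hc
        apply hAtop
        rw [← hcent, Subgroup.eq_top_iff']
        intro g
        rw [Subgroup.mem_centralizer_iff]
        intro a ha
        have hmem : g * a * g⁻¹ * a⁻¹ ∈ A := A.mul_mem (hAn.conj_mem a ha g) (A.inv_mem ha)
        have h1 : χ (g * a * g⁻¹ * a⁻¹) = χ 1 := by
          have e1 := congrFun hres ⟨g * a * g⁻¹ * a⁻¹, hmem⟩
          have e2 := congrFun hres 1
          simp only [Pi.smul_apply, smul_eq_mul] at e1 e2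
          rw [show ((1 : A) : G) = 1 from rfl] at e2
          rw [e1, e2]
          congr 1
          have e3 : (⟨g * a * g⁻¹ * a⁻¹, hmem⟩ : A)
              = ⟨g * a * g⁻¹, hAn.conj_mem a ha g⟩ * (⟨a, ha⟩ : A)⁻¹ := by
            ext
            simp
          have e4 := congrFun (hinv g) ⟨a, ha⟩
          rw [conjFn_apply, hω] at e4
          simp only at e4
          rw [e3, hω]
          simp only [map_mul, map_inv, Units.val_mul]
          rw [e4, ← Units.val_mul, mul_inv_cancel, map_one]
        have h2 := hfaith _ h1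
        have h3 : g * a * g⁻¹ = a := mul_inv_eq_one.mp h2
        have h4 : g * a = a * g := mul_inv_eq_iff_eq_mul.mp h3
        exact h4.symm
      haveI : Fintype T := Fintype.ofFinite _
      obtain ⟨ψ, f, hψ, hf, hres, hind⟩ :=
        clifford_corr_surj A T hlam (mem_inertia A lam) hAT hχ hc
      have hlt : Nat.card T < n := by
        rw [← hn]
        by_contra hle
        exact hTtop (Subgroup.eq_top_of_le_card T (not_lt.mp hle))
      obtain ⟨H', lam', hlam'⟩ := ih _ hlt T rfl ψ hψ
      refine ⟨H'.map T.subtype,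
        lam'.comp (H'.equivMapOfInjective T.subtype T.subtype_injective).symm.toMonoidHom, ?_⟩
      rw [← hind, hlam', indFun_trans]
      rfl

end Main

end Cfsg.Agent.Lib.Helper2_MGroup
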