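import Mathlib
import Cfsg.Prelude.Def_Characters
import Cfsg.Agent.Lib.Helper2_ClassFn
import Cfsg.Agent.Lib.Helper2_CharBasic
import Cfsg.Agent.Lib.Helper2_CharOrtho

set_option autoImplicit false

/-!
# Permutation characters
-/

namespace Cfsg.Agent.Lib.Helper2_PermChar

open Cfsg
open Cfsg.Agent.Lib.Helper2_ClassFn
open Cfsg.Agent.Lib.Helper2_CharBasic
open Cfsg.Agent.Lib.Helper2_CharOrtho
open scoped ComplexConjugate

universe u v

variable {G : Type u} [Group G] {X : Type v} [MulAction G X]

/-- The permutation representation on functions `X → ℂ`. -/
noncomputable def permRep (G : Type u) [Group G] (X : Type v) [MulAction G X] :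
    Representation ℂ G (X → ℂ) where
  toFun g := LinearMap.funLeft ℂ ℂ (fun x => g⁻¹ • x)
  map_one' := by
    ext f x
    simp [LinearMap.funLeft_apply]
  map_mul' g h := by
    ext f x
    simp [LinearMap.funLeft_apply, mul_smul]

theorem permRep_apply (g : G) (f : X → ℂ) (x : X) : permRep G X g f x = f (g⁻¹ • x) := rfl

/-- The permutation character: number of fixed points. -/
noncomputable def permChar (G : Type u) [Group G] (X : Type v) [MulAction G X] : G → ℂ :=
  fun g => (Nat.card (MulAction.fixedBy X g) : ℂ)

theorem permChar_apply (g : G) : permChar G X g = (Nat.card (MulAction.fixedBy X g) : ℂ) := rfl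

theorem fixedBy_inv_eq (g : G) : MulAction.fixedBy X g⁻¹ = MulAction.fixedBy X g := by
  ext x
  simp only [MulAction.mem_fixedBy]
  constructor
  · intro h
    calc g • x = g • (g⁻¹ • x) := by rw [h]
      _ = x := smul_inv_smul g x
  · intro h
    calc g⁻¹ • x = g⁻¹ • (g • x) := by rw [h]
      _ = x := inv_smul_smul g x

theorem permRep_character [Fintype X] [DecidableEq X] (g : G) :
    (permRep G X).character g = permChar G X g := by
  unfold Representation.character
  rw [LinearMap.trace_eq_matrix_trace ℂ (Pi.basisFun ℂ X), Matrix.trace]
  simp only [Matrix.diag_apply, LinearMap.toMatrix_apply, Pi.basisFun_apply, Pi.basisFun_repr]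
  have : ∀ x : X, permRep G X g (Pi.single x 1) x = if g⁻¹ • x = x then 1 else 0 := by
    intro x
    rw [permRep_apply, Pi.single_apply]
  simp_rw [this]
  rw [Finset.sum_boole, permChar_apply, ← fixedBy_inv_eq, Nat.card_eq_fintype_card,
    Fintype.card_subtype]
  rfl

theorem isCharacter_permChar [Finite X] : IsCharacter G (permChar G X) := by
  classical
  have := Fintype.ofFinite X
  have h := isCharacter_of_rep (permRep G X)
  have e : (permRep G X).character = permChar G X := funext permRep_character
  rwa [e] at h

/-- Burnside's lemma in terms of the permutation character. -/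
theorem sum_permChar [Fintype G] [Finite X] :
    ∑ g : G, permChar G X g
      = (Nat.card (MulAction.orbitRel.Quotient G X) : ℂ) * (Nat.card G : ℂ) := by
  classical
  have := Fintype.ofFinite X
  have h := MulAction.sum_card_fixedBy_eq_card_orbits_mul_card_group G X
  simp only [permChar_apply, Nat.card_eq_fintype_card]
  exact_mod_cast h

theorem permChar_prod {Y : Type*} [MulAction G Y] [Finite X] [Finite Y] (g : G) :
    permChar G (X × Y) g = permChar G X g * permChar G Y g := by
  simp only [permChar_apply]
  rw [← Nat.cast_mul, ← Nat.card_prod]
  congr 1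
  apply Nat.card_congr
  exact
    { toFun := fun p => (⟨p.1.1, by
          have := p.2
          simp only [MulAction.mem_fixedBy, Prod.smul_def, Prod.ext_iff] at this
          exact this.1⟩, ⟨p.1.2, by
          have := p.2
          simp only [MulAction.mem_fixedBy, Prod.smul_def, Prod.ext_iff] at this
          exact this.2⟩)
      invFun := fun q => ⟨(q.1.1, q.2.1), by
          simp only [MulAction.mem_fixedBy, Prod.smul_def, Prod.ext_iff]
          exact ⟨q.1.2, q.2.2⟩⟩
      left_inv := fun p => rfl
      right_inv := fun q => rfl }

theorem permChar_conj [Finite X] (g : G) : conj (permChar G X g) = permChar G X g := by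
  rw [permChar_apply, Complex.conj_natCast]

/-- The inner product of two permutation characters is the number of orbits on the product. -/
theorem classInner_permChar {Y : Type*} [MulAction G Y] [Fintype G] [Finite X] [Finite Y] :
    classInner (permChar G X) (permChar G Y)
      = (Nat.card (MulAction.orbitRel.Quotient G (X × Y)) : ℂ) := by
  rw [classInner_def]
  have : ∀ g : G, permChar G X g * conj (permChar G Y g) = permChar G (X × Y) g := by
    intro g
    rw [permChar_conj, permChar_prod]
  simp_rw [this]
  rw [sum_permChar, mul_comm, mul_assoc, mul_inv_cancel₀ card_ne_zero_complex, mul_one]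

theorem classInner_permChar_one [Fintype G] [Finite X] :
    classInner (permChar G X) (fun _ => 1) = (Nat.card (MulAction.orbitRel.Quotient G X) : ℂ) := by
  rw [classInner_def]
  simp only [map_one, mul_one]
  rw [sum_permChar, mul_comm, mul_assoc, mul_inv_cancel₀ card_ne_zero_complex, mul_one]

end Cfsg.Agent.Lib.Helper2_PermChar
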