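import Mathlib
import Cfsg.Prelude.Def_Characters
import Cfsg.Agent.Lib.Helper2_ClassFn
import Cfsg.Agent.Lib.Helper2_CharBasic
import Cfsg.Agent.Lib.Helper2_CharOrtho
import Cfsg.Agent.Lib.Helper2_PermChar
import Cfsg.Agent.Lib.Helper2_Artin
import Cfsg.Agent.Lib.Helper2_MGroup

set_option autoImplicit false

/-!
# Permutation characters as induced characters
-/

namespace Cfsg.Agent.Lib.Helper2_PermInd

open Cfsg
open Cfsg.Agent.Lib.Helper2_ClassFn
open Cfsg.Agent.Lib.Helper2_CharBasic
open Cfsg.Agent.Lib.Helper2_CharOrtho
open Cfsg.Agent.Lib.Helper2_PermChar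
open Cfsg.Agent.Lib.Helper2_Artin
open Cfsg.Agent.Lib.Helper2_MGroup

universe u v

section Fiber

variable {G : Type u} [Group G] [Fintype G] {X : Type v} [MulAction G X]

/-- The fibres of `y ↦ y • x₀` over the orbit are cosets of the stabilizer. -/
theorem card_filter_smul_eq [DecidableEq X] (x₀ x : X) (hx : x ∈ MulAction.orbit G x₀) :
    (Finset.univ.filter (fun y : G => y • x₀ = x)).card
      = Nat.card (MulAction.stabilizer G x₀) := by
  classical
  obtain ⟨y₀, rfl⟩ := hx
  rw [← Fintype.card_subtype, ← Nat.card_eq_fintype_card]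
  apply Nat.card_congr
  exact
    { toFun := fun y => ⟨y₀⁻¹ * y.1, by
        rw [MulAction.mem_stabilizer_iff, mul_smul, y.2, inv_smul_smul]⟩
      invFun := fun s => ⟨y₀ * s.1, by
        rw [mul_smul, MulAction.mem_stabilizer_iff.mp s.2]⟩
      left_inv := fun y => by simp
      right_inv := fun s => by simp }

theorem card_filter_smul_eq_zero [DecidableEq X] (x₀ x : X) (hx : x ∉ MulAction.orbit G x₀) :
    (Finset.univ.filter (fun y : G => y • x₀ = x)).card = 0 := by
  rw [Finset.card_eq_zero, Finset.filter_eq_empty_iff]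
  intro y _ hy
  exact hx ⟨y, hy⟩

/-- Summation along an orbit map. -/
theorem sum_smul_eq [Fintype X] [DecidableEq X] (x₀ : X)
    [DecidablePred fun x : X => x ∈ MulAction.orbit G x₀] (F : X → ℂ) :
    ∑ y : G, F (y • x₀)
      = (Nat.card (MulAction.stabilizer G x₀) : ℂ) *
        ∑ x ∈ Finset.univ.filter (fun x : X => x ∈ MulAction.orbit G x₀), F x := by
  rw [← Finset.sum_fiberwise Finset.univ (fun y : G => y • x₀) (fun y => F (y • x₀))]
  have h1 : ∀ x : X, ∑ y ∈ Finset.univ.filter (fun y : G => y • x₀ = x), F (y • x₀)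
      = ((Finset.univ.filter (fun y : G => y • x₀ = x)).card : ℂ) * F x := by
    intro x
    rw [Finset.sum_congr rfl (g := fun _ => F x)]
    · rw [Finset.sum_const, nsmul_eq_mul]
    · intro y hy
      rw [(Finset.mem_filter.mp hy).2]
  simp only [h1]
  rw [Finset.mul_sum, Finset.sum_filter]
  refine Finset.sum_congr rfl fun x _ => ?_
  by_cases hx : x ∈ MulAction.orbit G x₀
  · rw [if_pos hx, card_filter_smul_eq x₀ x hx]
  · rw [if_neg hx, card_filter_smul_eq_zero x₀ x hx]
    simp

/-- The character induced from the trivial character of a point stabilizer counts the fixed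
points in the orbit. -/
theorem indFun_stabilizer_one [Fintype X] [DecidableEq X] (x₀ : X) (g : G)
    [DecidablePred fun x : X => x ∈ MulAction.orbit G x₀ ∧ g • x = x] :
    indFun (MulAction.stabilizer G x₀) (fun _ => 1) g
      = ((Finset.univ.filter
          (fun x : X => x ∈ MulAction.orbit G x₀ ∧ g • x = x)).card : ℂ) := by
  haveI : DecidablePred fun x : X => x ∈ MulAction.orbit G x₀ := Classical.decPred _
  rw [indFun_apply]
  have h1 : ∀ y : G, extendByZero (MulAction.stabilizer G x₀) (fun _ => (1 : ℂ)) (y⁻¹ * g * y)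
      = (fun x : X => if g • x = x then (1 : ℂ) else 0) (y • x₀) := by
    intro y
    simp only
    by_cases h : g • (y • x₀) = y • x₀
    · rw [if_pos h, extendByZero_of_mem]
      rw [MulAction.mem_stabilizer_iff, mul_smul, mul_smul, h, inv_smul_smul]
    · rw [if_neg h, extendByZero_of_not_mem]
      intro hmem
      apply h
      rw [MulAction.mem_stabilizer_iff, mul_smul, mul_smul] at hmem
      have := congrArg (fun z => y • z) hmem
      simpa using this
  simp only [h1]
  rw [sum_smul_eq x₀ (fun x : X => if g • x = x then (1 : ℂ) else 0)]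
  have hne : (Nat.card (MulAction.stabilizer G x₀) : ℂ) ≠ 0 := by
    exact_mod_cast Nat.card_pos.ne'
  rw [← mul_assoc, inv_mul_cancel₀ hne, one_mul, Finset.sum_ite, Finset.sum_const_zero,
    add_zero, Finset.sum_const, nsmul_eq_mul, mul_one, Finset.filter_filter]
  congr 2
  ext x
  simp only [Finset.mem_filter, Finset.mem_univ, true_and]

/-- The permutation character on cosets is the induced trivial character. -/
theorem indFun_one_eq_permChar (H : Subgroup G) :
    indFun H (fun _ => 1) = permChar G (G ⧸ H) := by
  classical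
  haveI : Fintype (G ⧸ H) := Fintype.ofFinite _
  ext g
  have h0 : MulAction.stabilizer G ((1 : G) : G ⧸ H) = H := MulAction.stabilizer_quotient H
  have h1 := indFun_stabilizer_one (X := G ⧸ H) ((1 : G) : G ⧸ H) g
  have h2 : ∀ (K : Subgroup G) (hK : K = H),
      indFun K (fun _ => 1) g = indFun H (fun _ => 1) g := by
    intro K hK; subst hK; rfl
  rw [h2 _ h0] at h1
  rw [h1, permChar_apply, Nat.card_eq_fintype_card, Fintype.card_subtype]
  congr 2
  ext x
  simp only [Finset.mem_filter, Finset.mem_univ, true_and, MulAction.mem_fixedBy]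
  constructor
  · exact fun h => h.2
  · intro h
    refine ⟨?_, h⟩
    exact MulAction.mem_orbit_iff.mpr (MulAction.exists_smul_eq G _ x)

/-- Orbit decomposition of a permutation character. -/
theorem permChar_eq_sum_orbits [Fintype X] [DecidableEq X]
    [Fintype (MulAction.orbitRel.Quotient G X)] (g : G) :
    permChar G X g
      = ∑ q : MulAction.orbitRel.Quotient G X,
          indFun (MulAction.stabilizer G q.out) (fun _ => 1) g := by
  classical
  simp only [indFun_stabilizer_one]
  rw [permChar_apply, Nat.card_eq_fintype_card, Fintype.card_subtype, ← Nat.cast_sum]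
  congr 1
  rw [Finset.card_eq_sum_card_fiberwise (f := fun x : X => (Quotient.mk'' x :
    MulAction.orbitRel.Quotient G X)) (t := Finset.univ) (fun x _ => Finset.mem_univ _)]
  refine Finset.sum_congr rfl fun q _ => ?_
  congr 1
  ext x
  simp only [Finset.mem_filter, Finset.mem_univ, true_and, MulAction.mem_fixedBy]
  have hq : (Quotient.mk'' x : MulAction.orbitRel.Quotient G X) = q
      ↔ x ∈ MulAction.orbit G q.out := by
    rw [← MulAction.orbitRel_apply]
    conv_lhs => rw [← Quotient.out_eq' q]
    exact Quotient.eq''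
  rw [hq]
  exact and_comm

end Fiber

section Product

variable {G : Type u} [Group G] [Fintype G]

/-- Restriction of a permutation character to a subgroup, decomposed along orbits. -/
theorem res_indFun_one (H K : Subgroup G) [Fintype H]
    [Fintype (MulAction.orbitRel.Quotient H (G ⧸ K))] :
    (fun h : H => indFun K (fun _ => 1) (h : G))
      = ∑ q : MulAction.orbitRel.Quotient H (G ⧸ K),
          indFun (MulAction.stabilizer H q.out) (fun _ => 1) := by
  classical
  haveI : Fintype (G ⧸ K) := Fintype.ofFinite _
  ext h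
  rw [indFun_one_eq_permChar, Finset.sum_apply, ← permChar_eq_sum_orbits, permChar_apply,
    permChar_apply]
  rfl

/-- Mackey's product formula for permutation characters on cosets. -/
theorem indFun_one_mul_indFun_one (H K : Subgroup G) :
    ∃ a : Subgroup G → ℕ, (∀ U, a U ≠ 0 → U ≤ H) ∧
      indFun H (fun _ => 1) * indFun K (fun _ => 1)
        = ∑ U : Subgroup G, (a U : ℂ) • indFun U (fun _ => 1) := by
  classical
  haveI : Fintype H := Fintype.ofFinite _
  haveI : Fintype (MulAction.orbitRel.Quotient H (G ⧸ K)) := Fintype.ofFinite _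
  set S : MulAction.orbitRel.Quotient H (G ⧸ K) → Subgroup G :=
    fun q => (MulAction.stabilizer H q.out).map H.subtype with hS
  refine ⟨fun U => (Finset.univ.filter (fun q => S q = U)).card, ?_, ?_⟩
  · intro U hU
    obtain ⟨q, hq⟩ := Finset.card_pos.mp (Nat.pos_of_ne_zero hU)
    rw [← (Finset.mem_filter.mp hq).2]
    exact Subgroup.map_subtype_le _
  · have hcf : IsClassFunction G (indFun K (fun _ => 1)) := indFun_isClassFunction K _
    have h1 := indFun_mul_res' H (fun _ => (1 : ℂ)) hcf
    rw [← h1]
    have h2 : ((fun _ : H => (1 : ℂ)) * fun n : H => indFun K (fun _ => 1) (n : G))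
        = ∑ q : MulAction.orbitRel.Quotient H (G ⧸ K),
          indFun (MulAction.stabilizer H q.out) (fun _ => 1) := by
      rw [← res_indFun_one H K]
      ext h
      simp
    rw [h2, indFun_sum]
    have h3 : ∀ q : MulAction.orbitRel.Quotient H (G ⧸ K),
        indFun H (indFun (MulAction.stabilizer H q.out) (fun _ => 1))
          = indFun (S q) (fun _ => 1) := by
      intro q
      rw [indFun_trans]
    simp only [h3]
    rw [← Finset.sum_fiberwise Finset.univ S (fun q => indFun (S q) (fun _ => 1))]
    refine Finset.sum_congr rfl fun U _ => ?_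
    rw [Finset.sum_congr rfl (g := fun _ => indFun U (fun _ => 1))]
    · rw [Finset.sum_const, ← Nat.cast_smul_eq_nsmul ℂ]
    · intro q hq
      rw [(Finset.mem_filter.mp hq).2]

end Product

end Cfsg.Agent.Lib.Helper2_PermInd
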