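import Mathlib
import Cfsg.Prelude.Def_Characters
import Cfsg.Agent.Lib.Helper2_ClassFn
import Cfsg.Agent.Lib.Helper2_CharBasic
import Cfsg.Agent.Lib.Helper2_CharOrtho
import Cfsg.Agent.Lib.Helper2_PermChar
import Cfsg.Agent.Lib.Helper2_Artin
import Cfsg.Agent.Lib.Helper2_MGroup
import Cfsg.Agent.Lib.Helper2_PermInd

set_option autoImplicit false

/-!
# Quasi-elementary subgroups and Solomon's induction theorem (local form)
-/

namespace Cfsg.Agent.Lib.Helper2_QuasiElem

open Cfsg
open Cfsg.Agent.Lib.Helper2_ClassFn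
open Cfsg.Agent.Lib.Helper2_CharBasic
open Cfsg.Agent.Lib.Helper2_CharOrtho
open Cfsg.Agent.Lib.Helper2_PermChar
open Cfsg.Agent.Lib.Helper2_Artin
open Cfsg.Agent.Lib.Helper2_MGroup
open Cfsg.Agent.Lib.Helper2_PermInd

universe u

/-- `H` is `p`-quasi-elementary: it has a cyclic normal subgroup of order prime to `p` and
`p`-power index. -/
def QE {G : Type u} [Group G] (p : ℕ) (H : Subgroup G) : Prop :=
  ∃ C : Subgroup G, C ≤ H ∧ H ≤ Subgroup.normalizer (C : Set G) ∧ IsCyclic C ∧
    Nat.Coprime (Nat.card C) p ∧ ∃ k : ℕ, C.relIndex H = p ^ k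

section Fixed

variable {G : Type u} [Group G] [Fintype G]

theorem mem_normalizer_zpowers_of_conj_mem (y g : G) (h : g * y * g⁻¹ ∈ Subgroup.zpowers y) :
    g ∈ Subgroup.normalizer ((Subgroup.zpowers y : Subgroup G) : Set G) := by
  rw [Subgroup.mem_normalizer_iff_map_conj_eq]
  apply Subgroup.eq_of_le_of_card_ge
  · rw [MonoidHom.map_zpowers]
    exact Subgroup.zpowers_le.mpr h
  · rw [Subgroup.card_map_of_injective (MulAut.conj g).injective]

/-- Fixed points of an element of a `p`-subgroup acting on cosets of a Sylow `p`-subgroup. -/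
theorem card_fixedBy_sylow_not_dvd {Q : Type*} [Group Q] [Finite Q] (p : ℕ) [Fact p.Prime]
    (S : Sylow p Q) (x : Q) (hx : x ∈ (S : Subgroup Q)) :
    ¬ p ∣ Nat.card (MulAction.fixedBy (Q ⧸ (S : Subgroup Q)) x) := by
  have hP : IsPGroup p (Subgroup.zpowers x) :=
    IsPGroup.to_le S.2 (Subgroup.zpowers_le.mpr hx)
  have h1 := hP.card_modEq_card_fixedPoints (Q ⧸ (S : Subgroup Q))
  have h2 : MulAction.fixedPoints (Subgroup.zpowers x) (Q ⧸ (S : Subgroup Q))
      = MulAction.fixedBy (Q ⧸ (S : Subgroup Q)) x := by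
    ext a
    rw [MulAction.mem_fixedPoints, MulAction.mem_fixedBy]
    constructor
    · intro h
      exact h ⟨x, Subgroup.mem_zpowers x⟩
    · intro h z
      have hle : Subgroup.zpowers x ≤ MulAction.stabilizer Q a :=
        Subgroup.zpowers_le.mpr (MulAction.mem_stabilizer_iff.mpr h)
      exact MulAction.mem_stabilizer_iff.mp (hle z.2)
  rw [h2] at h1
  intro hdvd
  have h3 : p ∣ Nat.card (Q ⧸ (S : Subgroup Q)) :=
    (Nat.modEq_zero_iff_dvd.mp (h1.trans (Nat.modEq_zero_iff_dvd.mpr hdvd)))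
  exact S.not_dvd_index h3

theorem exists_quasiElem_fixed (x : G) (p : ℕ) (hp : p.Prime) :
    ∃ H : Subgroup G, QE p H ∧ ∃ n : ℕ, indFun H (fun _ => 1) x = (n : ℂ) ∧ ¬ p ∣ n := by
  classical
  haveI : Fact p.Prime := ⟨hp⟩
  set o := orderOf x with ho
  have ho0 : o ≠ 0 := (orderOf_pos x).ne'
  set pa := p ^ (o.factorization p) with hpa
  have hpa_dvd : pa ∣ o := Nat.ordProj_dvd o p
  have hpa0 : pa ≠ 0 := (pow_pos hp.pos _).ne'
  set y := x ^ pa with hy
  have hy_ord : orderOf y = o / pa := orderOf_pow_of_dvd hpa0 hpa_dvd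
  have hy_cop : Nat.Coprime (orderOf y) p := by
    rw [hy_ord]; exact (Nat.coprime_ordCompl hp ho0).symm
  set C := Subgroup.zpowers y with hC
  set N := Subgroup.normalizer (C : Set G) with hN
  have hxN : x ∈ N := by
    apply mem_normalizer_zpowers_of_conj_mem
    have : x * y * x⁻¹ = y := by
      rw [hy, ← pow_succ', pow_succ, mul_inv_cancel_right]
    rw [this]; exact Subgroup.mem_zpowers y
  have hCN : C ≤ N := Subgroup.le_normalizer
  haveI hCNn : (C.subgroupOf N).Normal := Subgroup.normal_in_normalizer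
  haveI : Fintype N := Fintype.ofFinite _
  haveI : Fintype (N ⧸ C.subgroupOf N) := Fintype.ofFinite _
  set π : N →* N ⧸ C.subgroupOf N := QuotientGroup.mk' (C.subgroupOf N) with hπ
  have hπs : Function.Surjective π := QuotientGroup.mk'_surjective _
  have hπker : ∀ n : N, π n = 1 ↔ (n : G) ∈ C := by
    intro n
    rw [hπ, QuotientGroup.mk'_apply, QuotientGroup.eq_one_iff, Subgroup.mem_subgroupOf]
  set xN : N := ⟨x, hxN⟩ with hxNdef
  have hxb : (π xN) ^ pa = 1 := by
    rw [← map_pow, hπker]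
    exact Subgroup.mem_zpowers y
  have hP0 : IsPGroup p (Subgroup.zpowers (π xN)) := by
    rintro ⟨z, hz⟩
    obtain ⟨i, rfl⟩ := Subgroup.mem_zpowers_iff.mp hz
    refine ⟨o.factorization p, Subtype.ext ?_⟩
    simp only [SubmonoidClass.mk_pow, Subgroup.coe_one]
    rw [← zpow_natCast, ← zpow_mul, mul_comm, zpow_mul, zpow_natCast, hxb, one_zpow]
  obtain ⟨S, hS⟩ := hP0.exists_le_sylow
  have hxS : π xN ∈ (S : Subgroup (N ⧸ C.subgroupOf N)) := hS (Subgroup.mem_zpowers _)
  set HN : Subgroup N := (S : Subgroup (N ⧸ C.subgroupOf N)).comap π with hHN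
  set H : Subgroup G := HN.map N.subtype with hH
  have hinj : Function.Injective N.subtype := N.subtype_injective
  have hCH : C ≤ H := by
    intro c hc
    rw [hH, Subgroup.mem_map]
    refine ⟨⟨c, hCN hc⟩, ?_, rfl⟩
    rw [hHN, Subgroup.mem_comap, (hπker _).mpr hc]
    exact Subgroup.one_mem _
  have hHle : H ≤ N := Subgroup.map_subtype_le _
  have hrel : ∃ k : ℕ, C.relIndex H = p ^ k := by
    obtain ⟨k, hk⟩ := IsPGroup.iff_card.mp S.2
    refine ⟨k, ?_⟩
    have h1 : C = (C.subgroupOf N).map N.subtype := by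
      rw [Subgroup.subgroupOf_map_subtype, inf_eq_left.mpr hCN]
    have h2 : C.subgroupOf N = (⊥ : Subgroup (N ⧸ C.subgroupOf N)).comap π := by
      ext n
      rw [Subgroup.mem_comap, Subgroup.mem_bot, hπker, Subgroup.mem_subgroupOf]
    conv_lhs => rw [h1]
    rw [hH, Subgroup.relIndex_map_map_of_injective _ _ hinj, h2, Subgroup.relIndex_comap,
      hHN, Subgroup.map_comap_eq_self_of_surjective hπs, Subgroup.relIndex_bot_left]
    exact hk
  have hQE : QE p H := by
    refine ⟨C, hCH, hHle, inferInstance, ?_, hrel⟩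
    rw [hC, Nat.card_zpowers]; exact hy_cop
  refine ⟨H, hQE, ?_⟩
  -- (a) conjugates of x in H come from N
  have hkey : ∀ g : G, g⁻¹ * x * g ∈ H → g ∈ N := by
    intro g hg
    have hz : g⁻¹ * y * g ∈ H := by
      have : g⁻¹ * y * g = (g⁻¹ * x * g) ^ pa := by
        rw [hy]
        have := conj_pow (a := g⁻¹) (b := x) (i := pa)
        simp only [inv_inv] at this
        exact this.symm
      rw [this]; exact Subgroup.pow_mem _ hg _
    rw [hH, Subgroup.mem_map] at hz
    obtain ⟨zN, hzN, hzz⟩ := hz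
    rw [hHN, Subgroup.mem_comap] at hzN
    have hord1 : orderOf (π zN) ∣ orderOf y := by
      have h1 := orderOf_map_dvd π zN
      have h2 : orderOf zN = orderOf (N.subtype zN) := (orderOf_injective _ hinj zN).symm
      rw [h2, hzz] at h1
      have h3 : orderOf (g⁻¹ * y * g) = orderOf y := by
        have := orderOf_injective (MulAut.conj g⁻¹).toMonoidHom (MulAut.conj g⁻¹).injective y
        simpa using this
      rwa [h3] at h1
    obtain ⟨k, hk⟩ := S.2 ⟨π zN, hzN⟩
    have hord2 : orderOf (π zN) ∣ p ^ k := by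
      apply orderOf_dvd_of_pow_eq_one
      have := congrArg Subtype.val hk
      simpa using this
    have hcop : Nat.Coprime (orderOf (π zN)) (p ^ k) :=
      Nat.Coprime.pow_right k (Nat.Coprime.coprime_dvd_left hord1 hy_cop)
    have h1 : orderOf (π zN) = 1 := Nat.Coprime.eq_one_of_dvd hcop hord2
    have h2 : (zN : G) ∈ C := (hπker zN).mp (orderOf_eq_one_iff.mp h1)
    have h3 : g⁻¹ * y * g ∈ C := by rw [← hzz]; exact h2
    have h4 : g⁻¹ ∈ N := by
      apply mem_normalizer_zpowers_of_conj_mem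
      rw [inv_inv]; exact h3
    exact inv_mem_iff.mp h4
  -- (b) reduce to N
  have hcardH : Nat.card H = Nat.card HN := Subgroup.card_map_of_injective hinj
  have hb : indFun H (fun _ => 1) x = indFun HN (fun _ => 1) xN := by
    rw [indFun_apply, indFun_apply, hcardH]
    congr 1
    have h1 : ∀ g : G, extendByZero H (fun _ => (1 : ℂ)) (g⁻¹ * x * g)
        = if g ∈ N then extendByZero H (fun _ => (1 : ℂ)) (g⁻¹ * x * g) else 0 := by
      intro g
      by_cases hg : g ∈ N
      · rw [if_pos hg]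
      · rw [if_neg hg, extendByZero_of_not_mem]
        exact fun h => hg (hkey g h)
    rw [Finset.sum_congr rfl (fun g _ => h1 g), ← Finset.sum_filter,
      ← Finset.sum_subtype_eq_sum_filter]
    have h2 : (Finset.univ : Finset G).subtype (fun g => g ∈ N) = (Finset.univ : Finset N) := by
      ext n; simp
    rw [h2]
    refine Finset.sum_congr rfl fun n _ => ?_
    have h3 : ((n : G))⁻¹ * x * (n : G) = N.subtype (n⁻¹ * xN * n) := by simp [hxNdef]
    by_cases hn : n⁻¹ * xN * n ∈ HN
    · rw [extendByZero_of_mem HN _ hn, extendByZero_of_mem]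
      rw [h3, hH]; exact (Subgroup.mem_map_iff_mem hinj).mpr hn
    · rw [extendByZero_of_not_mem HN _ hn, extendByZero_of_not_mem]
      rw [h3, hH]; exact fun h => hn ((Subgroup.mem_map_iff_mem hinj).mp h)
  -- (c) reduce to the quotient
  have hc : indFun HN (fun _ => 1) xN
      = indFun (S : Subgroup (N ⧸ C.subgroupOf N)) (fun _ => 1) (π xN) :=
    indFun_comap π hπs (S : Subgroup (N ⧸ C.subgroupOf N)) (fun _ => 1) xN
  rw [hb, hc, indFun_one_eq_permChar, permChar_apply]
  exact ⟨_, rfl, card_fixedBy_sylow_not_dvd p S (π xN) hxS⟩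

end Fixed

section Sub

variable {G : Type u} [Group G]

/-- Subgroups of `p`-quasi-elementary groups are `p`-quasi-elementary. -/
theorem QE.of_le {p : ℕ} (hp : p.Prime) {H U : Subgroup G} (hH : QE p H) (hUH : U ≤ H) :
    QE p U := by
  obtain ⟨C, hCH, hHN, hcyc, hcop, k, hk⟩ := hH
  refine ⟨C ⊓ U, inf_le_right, ?_, ?_, ?_, ?_⟩
  · rw [Subgroup.le_normalizer_iff]
    intro u hu c hc
    refine Subgroup.mem_inf.mpr ⟨?_, ?_⟩
    · exact (Subgroup.le_normalizer_iff.mp hHN) u (hUH hu) c (Subgroup.mem_inf.mp hc).1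
    · exact U.mul_mem (U.mul_mem hu (Subgroup.mem_inf.mp hc).2) (U.inv_mem hu)
  · exact Subgroup.isCyclic_of_le (inf_le_left : C ⊓ U ≤ C)
  · exact Nat.Coprime.coprime_dvd_left (Subgroup.card_dvd_of_le inf_le_left) hcop
  · rw [Subgroup.inf_relIndex_right]
    haveI : (C.subgroupOf H).Normal := (Subgroup.normal_subgroupOf_iff_le_normalizer hCH).mpr hHN
    have h1 : (C.subgroupOf H).relIndex (U.subgroupOf H) ∣ (C.subgroupOf H).index :=
      Subgroup.relIndex_dvd_index_of_normal _ _
    rw [Subgroup.relIndex_subgroupOf hUH] at h1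
    have h2 : (C.subgroupOf H).index = C.relIndex H := rfl
    rw [h2, hk] at h1
    obtain ⟨j, -, hj⟩ := (Nat.dvd_prime_pow hp).mp h1
    exact ⟨j, hj⟩

end Sub

section Span

variable {G : Type u} [Group G] [Fintype G]

/-- Integer combinations of permutation characters on cosets of subgroups in a family. -/
def PermSpan (ℋ : Subgroup G → Prop) (f : G → ℂ) : Prop :=
  ∃ a : Subgroup G → ℤ, (∀ H, a H ≠ 0 → ℋ H) ∧
    f = ∑ H : Subgroup G, (a H : ℂ) • indFun H (fun _ => 1)

variable {ℋ : Subgroup G → Prop}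

theorem PermSpan.zero : PermSpan ℋ (0 : G → ℂ) :=
  ⟨0, fun H h => absurd rfl h, by simp⟩

theorem PermSpan.add {f g : G → ℂ} (hf : PermSpan ℋ f) (hg : PermSpan ℋ g) :
    PermSpan ℋ (f + g) := by
  obtain ⟨a, ha, rfl⟩ := hf
  obtain ⟨b, hb, rfl⟩ := hg
  refine ⟨a + b, fun H h => ?_, ?_⟩
  · by_cases h1 : a H = 0
    · apply hb
      intro h2
      apply h
      rw [Pi.add_apply, h1, h2, add_zero]
    · exact ha H h1
  · rw [← Finset.sum_add_distrib]
    refine Finset.sum_congr rfl fun H _ => ?_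
    rw [Pi.add_apply, Int.cast_add, add_smul]

theorem PermSpan.zsmul' {f : G → ℂ} (c : ℤ) (hf : c ≠ 0 → PermSpan ℋ f) :
    PermSpan ℋ ((c : ℂ) • f) := by
  by_cases hc : c = 0
  · rw [hc, Int.cast_zero, zero_smul]; exact PermSpan.zero
  obtain ⟨a, ha, rfl⟩ := hf hc
  refine ⟨fun H => c * a H, fun H h => ?_, ?_⟩
  · apply ha
    intro h1
    apply h
    simp only [h1, mul_zero]
  · rw [Finset.smul_sum]
    refine Finset.sum_congr rfl fun H _ => ?_
    rw [smul_smul, Int.cast_mul]

theorem PermSpan.zsmul {f : G → ℂ} (c : ℤ) (hf : PermSpan ℋ f) : PermSpan ℋ ((c : ℂ) • f) :=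
  PermSpan.zsmul' c (fun _ => hf)

theorem PermSpan.of {H : Subgroup G} (hH : ℋ H) : PermSpan ℋ (indFun H (fun _ => 1)) := by
  classical
  refine ⟨fun U => if U = H then 1 else 0, fun U h => ?_, ?_⟩
  · by_cases h1 : U = H
    · rw [h1]; exact hH
    · simp only [if_neg h1] at h
      exact absurd rfl h
  · rw [Finset.sum_eq_single H]
    · simp
    · intro U _ hU
      simp [hU]
    · intro h; exact absurd (Finset.mem_univ H) h

theorem PermSpan.sum {ι : Type*} (s : Finset ι) (F : ι → G → ℂ)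
    (h : ∀ i ∈ s, PermSpan ℋ (F i)) : PermSpan ℋ (∑ i ∈ s, F i) := by
  classical
  induction s using Finset.induction_on with
  | empty => simpa using PermSpan.zero
  | insert i s hi ih =>
    rw [Finset.sum_insert hi]
    exact PermSpan.add (h i (Finset.mem_insert_self i s))
      (ih fun j hj => h j (Finset.mem_insert_of_mem hj))

theorem PermSpan.mul (hsub : ∀ H U : Subgroup G, ℋ H → U ≤ H → ℋ U) {f g : G → ℂ}
    (hf : PermSpan ℋ f) (hg : PermSpan ℋ g) : PermSpan ℋ (f * g) := by
  obtain ⟨a, ha, rfl⟩ := hf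
  obtain ⟨b, hb, rfl⟩ := hg
  rw [Finset.sum_mul_sum]
  apply PermSpan.sum
  intro H _
  apply PermSpan.sum
  intro K _
  have h1 : (a H : ℂ) • indFun H (fun _ => (1 : ℂ)) * (b K : ℂ) • indFun K (fun _ => (1 : ℂ))
      = ((a H * b K : ℤ) : ℂ) • (indFun H (fun _ => (1 : ℂ)) * indFun K (fun _ => (1 : ℂ))) := by
    rw [smul_mul_smul_comm, Int.cast_mul]
  rw [h1]
  apply PermSpan.zsmul'
  intro hne
  have haH : a H ≠ 0 := fun h => hne (by rw [h, zero_mul])
  obtain ⟨c, hc, hprod⟩ := indFun_one_mul_indFun_one H K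
  rw [hprod]
  refine ⟨fun U => (c U : ℤ), fun U h => ?_, ?_⟩
  · apply hsub H U (ha H haH)
    apply hc
    intro h0
    apply h
    simp only [h0, Nat.cast_zero]
  · refine Finset.sum_congr rfl fun U _ => ?_
    simp

end Span

section Banaschewski

/-- Banaschewski's lemma, local form. -/
theorem banaschewski_local {S : Type*} [Fintype S] (p : ℕ) (hp : p.Prime) (R : (S → ℤ) → Prop)
    (h0 : R 0) (hadd : ∀ f g, R f → R g → R (f + g)) (hsmul : ∀ (c : ℤ) f, R f → R (c • f))
    (hmul : ∀ f g, R f → R g → R (f * g))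
    (hex : ∀ x : S, ∃ f, R f ∧ ¬ (p : ℤ) ∣ f x) :
    ∃ m : ℤ, ¬ (p : ℤ) ∣ m ∧ R (fun _ => m) := by
  classical
  have hpi : Prime (p : ℤ) := Nat.prime_iff_prime_int.mp hp
  have key : ∀ T : Finset S, ∃ (F : S → ℤ) (c : ℤ), R F ∧ ¬ (p : ℤ) ∣ c ∧ ∀ x ∈ T, F x + c = 0 := by
    intro T
    induction T using Finset.induction_on with
    | empty => exact ⟨0, 1, h0, hpi.not_dvd_one, fun x hx => absurd hx (Finset.notMem_empty x)⟩
    | insert x T hx ih =>
      obtain ⟨F, c, hF, hc, hFc⟩ := ih
      obtain ⟨f, hf, hfx⟩ := hex x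
      refine ⟨F * f + ((-(f x)) • F + c • f), -(f x * c), ?_, ?_, ?_⟩
      · exact hadd _ _ (hmul _ _ hF hf) (hadd _ _ (hsmul _ _ hF) (hsmul _ _ hf))
      · rw [dvd_neg]
        intro h
        rcases hpi.dvd_or_dvd h with h1 | h1
        · exact hfx h1
        · exact hc h1
      · intro y hy
        have hfact : (F * f + ((-(f x)) • F + c • f)) y + -(f x * c)
            = (F y + c) * (f y - f x) := by
          simp only [Pi.add_apply, Pi.mul_apply, Pi.smul_apply, smul_eq_mul]
          ring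
        rw [hfact]
        rcases Finset.mem_insert.mp hy with rfl | hyT
        · rw [sub_self, mul_zero]
        · rw [hFc y hyT, zero_mul]
  obtain ⟨F, c, hF, hc, hFc⟩ := key Finset.univ
  refine ⟨-c, by rwa [dvd_neg], ?_⟩
  have : F = fun _ => -c := by
    ext x
    have := hFc x (Finset.mem_univ x)
    linarith
  rw [← this]; exact hF

end Banaschewski

section Solomon

variable {G : Type u} [Group G] [Fintype G]

/-- Solomon's induction theorem, local form. -/
theorem solomon_local (p : ℕ) (hp : p.Prime) :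
    ∃ m : ℤ, ¬ (p : ℤ) ∣ m ∧ PermSpan (QE (G := G) p) (fun _ : G => (m : ℂ)) := by
  classical
  have hsub : ∀ H U : Subgroup G, QE p H → U ≤ H → QE p U := fun H U hH hU => QE.of_le hp hH hU
  refine banaschewski_local p hp (fun F : G → ℤ => PermSpan (QE (G := G) p) (fun g => (F g : ℂ)))
    ?_ ?_ ?_ ?_ ?_
  · have : (fun g : G => (((0 : G → ℤ) g : ℤ) : ℂ)) = 0 := by ext g; simp
    simp only [this]; exact PermSpan.zero
  · intro f g hf hg
    have : (fun x : G => (((f + g) x : ℤ) : ℂ)) = (fun x => (f x : ℂ)) + (fun x => (g x : ℂ)) := by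
      ext x; simp
    simp only [this]; exact PermSpan.add hf hg
  · intro c f hf
    have : (fun x : G => (((c • f) x : ℤ) : ℂ)) = (c : ℂ) • (fun x => (f x : ℂ)) := by
      ext x; simp
    simp only [this]; exact PermSpan.zsmul c hf
  · intro f g hf hg
    have : (fun x : G => (((f * g) x : ℤ) : ℂ)) = (fun x => (f x : ℂ)) * (fun x => (g x : ℂ)) := by
      ext x; simp
    simp only [this]; exact PermSpan.mul hsub hf hg
  · intro x
    obtain ⟨H, hQE, n, hn, hpn⟩ := exists_quasiElem_fixed x p hp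
    refine ⟨fun g => (Nat.card (MulAction.fixedBy (G ⧸ H) g) : ℤ), ?_, ?_⟩
    · have : (fun g : G => (((Nat.card (MulAction.fixedBy (G ⧸ H) g) : ℤ)) : ℂ))
          = indFun H (fun _ => 1) := by
        rw [indFun_one_eq_permChar]
        ext g
        rw [permChar_apply]
        simp
      simp only [this]
      exact PermSpan.of hQE
    · simp only
      rw [indFun_one_eq_permChar, permChar_apply] at hn
      have h1 : Nat.card (MulAction.fixedBy (G ⧸ H) x) = n := by exact_mod_cast hn
      rw [h1, Int.natCast_dvd_natCast]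
      exact hpn

end Solomon

end Cfsg.Agent.Lib.Helper2_QuasiElem
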