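import Mathlib
import Cfsg.Prelude.Def_Characters
import Cfsg.Agent.Lib.Helper2_ClassFn
import Cfsg.Agent.Lib.Helper2_CharBasic
import Cfsg.Agent.Lib.Helper2_CharOrtho
import Cfsg.Agent.Lib.Helper2_Clifford
import Cfsg.Agent.Lib.Helper2_CharMore
import Cfsg.Agent.Lib.Helper2_CharComplete
import Cfsg.Agent.Lib.Helper2_CharInd
import Cfsg.Agent.Lib.Helper2_CharDeg
import Cfsg.Agent.Lib.Helper2_CliffordCorr
import Cfsg.Agent.Lib.Helper2_Ito
import Cfsg.Agent.Lib.Helper2_Gallagher
import Cfsg.Agent.Lib.Helper2_PermChar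
import Cfsg.Agent.Lib.Helper2_Artin
import Cfsg.Agent.Lib.Helper2_MGroup
import Cfsg.Agent.Lib.Helper2_ProjLift
import Cfsg.Agent.Lib.Helper2_DetChar
import Cfsg.Agent.Lib.Helper2_LinExt
import Cfsg.Agent.Lib.Helper2_PermInd
import Cfsg.Agent.Lib.Helper2_QuasiElem
import Cfsg.Agent.S0154

set_option autoImplicit false

/-!
# Brauer's induction theorem
-/

namespace Cfsg.Agent.Lib.Helper2_BrauerInd

open Cfsg
open Cfsg.Agent.Lib.Helper2_ClassFn
open Cfsg.Agent.Lib.Helper2_CharBasic
open Cfsg.Agent.Lib.Helper2_CharOrtho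
open Cfsg.Agent.Lib.Helper2_Clifford
open Cfsg.Agent.Lib.Helper2_CharMore
open Cfsg.Agent.Lib.Helper2_CharComplete
open Cfsg.Agent.Lib.Helper2_CharInd
open Cfsg.Agent.Lib.Helper2_CharDeg
open Cfsg.Agent.Lib.Helper2_CliffordCorr
open Cfsg.Agent.Lib.Helper2_Ito
open Cfsg.Agent.Lib.Helper2_Gallagher
open Cfsg.Agent.Lib.Helper2_PermChar
open Cfsg.Agent.Lib.Helper2_Artin
open Cfsg.Agent.Lib.Helper2_MGroup
open Cfsg.Agent.Lib.Helper2_ProjLift
open Cfsg.Agent.Lib.Helper2_DetChar
open Cfsg.Agent.Lib.Helper2_LinExt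
open Cfsg.Agent.Lib.Helper2_PermInd
open Cfsg.Agent.Lib.Helper2_QuasiElem

universe u

section Elementary

theorem IsElementary.of_equiv {p : ℕ} {E E' : Type u} [Group E] [Group E'] (e : E ≃* E')
    (h : IsElementary p E) : IsElementary p E' := by
  obtain ⟨x, hx, hcop, k, hk⟩ := h
  refine ⟨e x, ?_, ?_, k, ?_⟩
  · rw [Subgroup.mem_center_iff] at hx ⊢
    intro g
    have := hx (e.symm g)
    have h2 := congrArg e this
    simpa using h2
  · rw [MulEquiv.orderOf_eq]; exact hcop
  · have : Subgroup.zpowers (e x) = (Subgroup.zpowers x).map (e : E →* E') := by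
      rw [MonoidHom.map_zpowers]; rfl
    rw [this, Subgroup.index_map_equiv]; exact hk

end Elementary

section Span

variable {H : Type u} [Group H] [Fintype H]

/-- Integer combinations of characters induced from `p`-elementary subgroups. -/
def BrauerSpan (p : ℕ) (H : Type u) [Group H] [Fintype H] (f : H → ℂ) : Prop :=
  ∃ l : List ((E : Subgroup H) × ((E → ℂ) × ℤ)),
    (∀ t ∈ l, IsElementary p t.1 ∧ IsCharacter t.1 t.2.1) ∧
      f = (l.map fun t => (t.2.2 : ℂ) • indFun t.1 t.2.1).sum

variable {p : ℕ}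

theorem BrauerSpan.zero : BrauerSpan p H (0 : H → ℂ) :=
  ⟨[], fun t ht => absurd ht (List.not_mem_nil), by simp⟩

theorem BrauerSpan.add {f g : H → ℂ} (hf : BrauerSpan p H f) (hg : BrauerSpan p H g) :
    BrauerSpan p H (f + g) := by
  obtain ⟨l₁, h₁, rfl⟩ := hf
  obtain ⟨l₂, h₂, rfl⟩ := hg
  refine ⟨l₁ ++ l₂, fun t ht => ?_, ?_⟩
  · rcases List.mem_append.mp ht with h | h
    · exact h₁ t h
    · exact h₂ t h
  · rw [List.map_append, List.sum_append]

theorem BrauerSpan.zsmul {f : H → ℂ} (c : ℤ) (hf : BrauerSpan p H f) :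
    BrauerSpan p H ((c : ℂ) • f) := by
  obtain ⟨l, hl, rfl⟩ := hf
  refine ⟨l.map (fun t => ⟨t.1, (t.2.1, c * t.2.2)⟩), fun t ht => ?_, ?_⟩
  · obtain ⟨s, hs, rfl⟩ := List.mem_map.mp ht
    exact hl s hs
  · rw [List.smul_sum, List.map_map, List.map_map]
    congr 1
    apply List.map_congr_left
    intro t _
    simp only [Function.comp_apply]
    rw [smul_smul, Int.cast_mul]

theorem BrauerSpan.neg {f : H → ℂ} (hf : BrauerSpan p H f) : BrauerSpan p H (-f) := by
  have := BrauerSpan.zsmul (-1) hf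
  simpa using this

theorem BrauerSpan.sub {f g : H → ℂ} (hf : BrauerSpan p H f) (hg : BrauerSpan p H g) :
    BrauerSpan p H (f - g) := by
  rw [sub_eq_add_neg]; exact BrauerSpan.add hf (BrauerSpan.neg hg)

theorem BrauerSpan.of (E : Subgroup H) (hE : IsElementary p E) (φ : E → ℂ)
    (hφ : IsCharacter E φ) : BrauerSpan p H (indFun E φ) :=
  ⟨[⟨E, (φ, 1)⟩], fun t ht => by
    rw [List.mem_singleton] at ht; subst ht; exact ⟨hE, hφ⟩, by simp⟩

theorem BrauerSpan.sum {ι : Type*} (s : Finset ι) (F : ι → H → ℂ)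
    (h : ∀ i ∈ s, BrauerSpan p H (F i)) : BrauerSpan p H (∑ i ∈ s, F i) := by
  classical
  induction s using Finset.induction_on with
  | empty => simpa using BrauerSpan.zero
  | insert i s hi ih =>
    rw [Finset.sum_insert hi]
    exact BrauerSpan.add (h i (Finset.mem_insert_self i s))
      (ih fun j hj => h j (Finset.mem_insert_of_mem hj))

theorem BrauerSpan.mul_char {f φ : H → ℂ} (hf : BrauerSpan p H f) (hφ : IsCharacter H φ) :
    BrauerSpan p H (f * φ) := by
  obtain ⟨l, hl, rfl⟩ := hf
  have hcf := IsCharacter.isClassFunction hφ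
  refine ⟨l.map (fun t => ⟨t.1, (t.2.1 * (fun e : t.1 => φ e), t.2.2)⟩), fun t ht => ?_, ?_⟩
  · obtain ⟨s, hs, rfl⟩ := List.mem_map.mp ht
    exact ⟨(hl s hs).1, IsCharacter.mul (hl s hs).2 (IsCharacter.restrict hφ s.1)⟩
  · rw [List.map_map]
    clear hl
    induction l with
    | nil => simp
    | cons t l ih =>
      rw [List.map_cons, List.sum_cons, add_mul, ih, List.map_cons, List.sum_cons]
      congr 1
      simp only [Function.comp_apply]
      rw [indFun_mul_res' t.1 t.2.1 hcf, smul_mul_assoc]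

theorem BrauerSpan.ind (U : Subgroup H) [Fintype U] {f : U → ℂ} (hf : BrauerSpan p U f) :
    BrauerSpan p H (indFun U f) := by
  obtain ⟨l, hl, rfl⟩ := hf
  refine ⟨l.map (fun t => ⟨t.1.map U.subtype,
    ((fun h => t.2.1 ((t.1.equivMapOfInjective U.subtype U.subtype_injective).symm h)),
      t.2.2)⟩), fun t ht => ?_, ?_⟩
  · obtain ⟨s, hs, rfl⟩ := List.mem_map.mp ht
    refine ⟨IsElementary.of_equiv (s.1.equivMapOfInjective U.subtype U.subtype_injective)
      (hl s hs).1, ?_⟩
    exact IsCharacter.comp_hom (hl s hs).2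
      (s.1.equivMapOfInjective U.subtype U.subtype_injective).symm.toMonoidHom
  · rw [List.map_map]
    clear hl
    induction l with
    | nil => simp [indFun_zero]
    | cons t l ih =>
      rw [List.map_cons, List.sum_cons, indFun_add, ih, List.map_cons, List.sum_cons]
      congr 1
      simp only [Function.comp_apply]
      rw [indFun_smul, indFun_trans]

end Span

section Monomial

variable {H : Type u} [Group H] [Fintype H]

/-- In a group with an abelian normal `p'`-subgroup of `p`-power index, every nonlinear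
irreducible character is induced from a proper subgroup. -/
theorem exists_induced_of_nonlinear (p : ℕ) [hp : Fact p.Prime]
    (C : Subgroup H) [hC : C.Normal]
    (hcomm : ∀ a b : C, a * b = b * a) (hcop : Nat.Coprime (Nat.card C) p) (k : ℕ)
    (hk : C.index = p ^ k) (ψ : H → ℂ) (hψ : IsIrrCharacter H ψ) (hψ1 : ψ 1 ≠ 1) :
    ∃ (U : Subgroup H) (φ : U → ℂ), U ≠ ⊤ ∧ IsCharacter U φ ∧ ψ = indFun U φ := by
  classical
  haveI : Fintype C := Fintype.ofFinite _
  have hψc := IsIrrCharacter.isCharacter hψ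
  have hψcf := IsCharacter.isClassFunction hψc
  have hψC : IsCharacter C (fun c : C => ψ c) := IsCharacter.restrict hψc C
  have hne : (fun c : C => ψ c) ≠ 0 :=
    fun h0 => IsIrrCharacter.apply_one_ne_zero hψ (congrFun h0 1)
  obtain ⟨lam, hlam, j, hj0, hj⟩ := IsCharacter.exists_constituent hψC hne
  have hlamcf := IsCharacter.isClassFunction (IsIrrCharacter.isCharacter hlam)
  have hc : classInner (fun c : C => ψ c) lam ≠ 0 := by
    rw [hj]; exact_mod_cast hj0.ne'
  have hlam1 : lam 1 = 1 := IsIrrCharacter.apply_one_of_comm hcomm hlam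
  obtain ⟨ω, hω⟩ := Cfsg.Agent.S0154.exists_hom_of_degree_one lam hlam hlam1
  set T := inertia C lam with hT
  have hCT : C ≤ T := le_inertia C hlamcf
  by_cases hTtop : T = ⊤
  swap
  · haveI : Fintype T := Fintype.ofFinite _
    obtain ⟨ψ₀, f, hψ₀, hf, hres, hind⟩ :=
      clifford_corr_surj C T hlam (mem_inertia C lam) hCT hψ hc
    exact ⟨T, ψ₀, hTtop, IsIrrCharacter.isCharacter hψ₀, hind.symm⟩
  · have hinv : ∀ (g : H) (n : C), ω ⟨g * n * g⁻¹, hC.conj_mem (n : H) n.2 g⟩ = ω n := by
      intro g n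
      have hg : g ∈ inertia C lam := by
        rw [← hT, hTtop]; exact Subgroup.mem_top g
      have := (mem_inertia C lam g).mp hg n
      rw [hω] at this
      exact Units.ext this
    have hord : orderOf ω ∣ Nat.card C := orderOf_dvd_of_pow_eq_one (hom_pow_card ω)
    have hcop' : Nat.Coprime C.index (orderOf ω) := by
      rw [hk]
      exact Nat.Coprime.pow_left k (Nat.Coprime.coprime_dvd_right hord hcop.symm)
    obtain ⟨μ, hμres, -⟩ := exists_linear_extension C ω hinv hcop'
    set μf : H → ℂ := fun g => ((μ g : ℂˣ) : ℂ) with hμf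
    have hμirr : IsIrrCharacter H μf := isIrrCharacter_of_hom μ
    have hμlam : (fun n : C => μf n) = lam := by
      ext n
      rw [hω]
      simp only [hμf]
      rw [hμres]
    have hμN : IsIrrCharacter C (fun n : C => μf n) := by
      rw [hμlam]; exact hlam
    have hcon : classInner (fun n : C => ψ n) (fun n : C => μf n) ≠ 0 := by
      rw [hμlam]; exact hc
    obtain ⟨β, hβ, hψβ⟩ := exists_gallagher_factor C hμirr hμN hψ hcon
    haveI : Fintype (H ⧸ C) := Fintype.ofFinite _
    have hQp : IsPGroup p (H ⧸ C) :=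
      IsPGroup.of_card (n := k) (by rw [← Subgroup.index_eq_card]; exact hk)
    haveI : Group.IsNilpotent (H ⧸ C) := hQp.isNilpotent
    obtain ⟨V, lamV, hβV⟩ := mgroup_aux _ (H ⧸ C) rfl β hβ
    have hVtop : V ≠ ⊤ := by
      rintro rfl
      apply hψ1
      have hβ1 : β 1 = 1 := by
        rw [hβV, indFun_one]; simp
      have := congrFun hψβ 1
      rw [this]
      simp [infl_apply, hβ1, hμf]
    set U := V.comap (QuotientGroup.mk' C) with hU
    refine ⟨U, (fun u : U => ((lamV ⟨QuotientGroup.mk' C u, u.2⟩ : ℂˣ) : ℂ)) *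
      (fun u : U => μf u), ?_, ?_, ?_⟩
    · intro hUtop
      apply hVtop
      rw [← Subgroup.map_comap_eq_self_of_surjective (QuotientGroup.mk'_surjective C) V, ← hU,
        hUtop, ← MonoidHom.range_eq_map]
      exact MonoidHom.range_eq_top.mpr (QuotientGroup.mk'_surjective C)
    · apply IsCharacter.mul
      · exact IsIrrCharacter.isCharacter
          (isIrrCharacter_of_hom (lamV.comp ((QuotientGroup.mk' C).subgroupComap V)))
      · exact IsCharacter.restrict (IsIrrCharacter.isCharacter hμirr) U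
    · rw [indFun_mul_res' U _ (IsCharacter.isClassFunction (IsIrrCharacter.isCharacter hμirr)),
        hψβ]
      congr 1
      ext g
      rw [infl_apply, hβV]
      exact (indFun_comap (QuotientGroup.mk' C) (QuotientGroup.mk'_surjective C) V _ g).symm

end Monomial

section Norm

/-- The norm trick: a linear character trivial on a coprime acting group `P` and on the fixed
points of `P` in an abelian normal subgroup `C` is trivial on `C`. -/
theorem hom_trivial_of_norm {H : Type*} [Group H] [Finite H] (C P : Subgroup H) [hC : C.Normal]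
    (hcomm : ∀ a b : C, a * b = b * a) (hcop : Nat.Coprime (Nat.card C) (Nat.card P))
    (μ : H →* ℂˣ)
    (hZ : ∀ c ∈ C, (∀ x ∈ P, x * c = c * x) → μ c = 1) : ∀ c ∈ C, μ c = 1 := by
  classical
  intro c hc
  haveI : Fintype P := Fintype.ofFinite _
  letI : CommGroup C := { (inferInstance : Group C) with mul_comm := hcomm }
  set n : C := ∏ x : P, ⟨(x : H) * c * (x : H)⁻¹, hC.conj_mem c hc x⟩ with hn
  have h1 : μ (n : H) = μ c ^ Nat.card P := by
    have e1 : μ (n : H) = (μ.comp C.subtype) n := rfl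
    rw [e1, hn, map_prod]
    have e2 : ∀ x : P,
        (μ.comp C.subtype) ⟨(x : H) * c * (x : H)⁻¹, hC.conj_mem c hc x⟩ = μ c := by
      intro x
      simp only [MonoidHom.comp_apply, Subgroup.coe_subtype, map_mul, map_inv]
      rw [mul_comm, inv_mul_cancel_left]
    simp only [e2]
    rw [Finset.prod_const, Finset.card_univ, Nat.card_eq_fintype_card]
  have h2 : ∀ y ∈ P, y * (n : H) = (n : H) * y := by
    intro y hy
    have e1 : (MulAut.conjNormal y : C ≃* C) n = n := by
      rw [hn, map_prod]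
      apply Fintype.prod_equiv (Equiv.mulLeft (⟨y, hy⟩ : P))
      intro x
      apply Subtype.ext
      simp [MulAut.conjNormal_apply, mul_assoc]
    have e2 := congrArg Subtype.val e1
    rw [MulAut.conjNormal_apply] at e2
    exact mul_inv_eq_iff_eq_mul.mp e2
  have h3 : μ c ^ Nat.card P = 1 := by
    rw [← h1]; exact hZ n n.2 h2
  have h4 : μ c ^ Nat.card C = 1 := by
    have e1 : (⟨c, hc⟩ : C) ^ Nat.card C = 1 := pow_card_eq_one'
    have e2 : c ^ Nat.card C = 1 := by
      have := congrArg Subtype.val e1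
      rwa [SubmonoidClass.coe_pow] at this
    rw [← map_pow, e2, map_one]
  have h5 : orderOf (μ c) ∣ Nat.gcd (Nat.card C) (Nat.card P) :=
    Nat.dvd_gcd (orderOf_dvd_of_pow_eq_one h4) (orderOf_dvd_of_pow_eq_one h3)
  rw [hcop.gcd_eq_one, Nat.dvd_one, orderOf_eq_one_iff] at h5
  exact h5

end Norm

section Quasi

variable {H : Type u} [Group H] [Fintype H]

/-- The elementary subgroup `P × (C ∩ Z(H))` of a quasi-elementary group `H = C ⋊ P`. -/
theorem exists_elementary_sub (p : ℕ) [hp : Fact p.Prime] (C : Subgroup H) [hC : C.Normal]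
    (hcyc : IsCyclic C) (hcop : Nat.Coprime (Nat.card C) p) (k : ℕ) (hk : C.index = p ^ k) :
    ∃ E : Subgroup H, IsElementary p E ∧
      ∀ μ : H →* ℂˣ, (∀ x ∈ E, μ x = 1) → μ = 1 := by
  classical
  obtain P : Sylow p H := default
  have hcomm : ∀ a b : C, a * b = b * a := by
    intro a b
    obtain ⟨g, hg⟩ := hcyc.exists_generator
    obtain ⟨i, rfl⟩ := Subgroup.mem_zpowers_iff.mp (hg a)
    obtain ⟨j, rfl⟩ := Subgroup.mem_zpowers_iff.mp (hg b)
    rw [← zpow_add, ← zpow_add, add_comm]
  obtain ⟨j, hj⟩ := IsPGroup.iff_card.mp P.2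
  have hcopCP : Nat.Coprime (Nat.card C) (Nat.card (P : Subgroup H)) := by
    rw [hj]; exact Nat.Coprime.pow_right j hcop
  -- C ⊔ P = ⊤
  have hCP : C ⊔ (P : Subgroup H) = ⊤ := by
    rw [← Subgroup.index_eq_one]
    have h1 : (C ⊔ (P : Subgroup H)).index ∣ p ^ k := by
      rw [← hk]; exact Subgroup.index_dvd_of_le le_sup_left
    have h2 : (C ⊔ (P : Subgroup H)).index ∣ (P : Subgroup H).index :=
      Subgroup.index_dvd_of_le le_sup_right
    obtain ⟨i, -, hi⟩ := (Nat.dvd_prime_pow hp.out).mp h1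
    rcases Nat.eq_zero_or_pos i with h0 | hpos
    · rw [hi, h0, pow_zero]
    · exfalso
      apply P.not_dvd_index
      refine dvd_trans ?_ h2
      rw [hi]
      exact dvd_pow_self p hpos.ne'
  set Z : Subgroup H := C ⊓ Subgroup.center H with hZ
  haveI hZn : Z.Normal := Subgroup.normal_inf_normal C (Subgroup.center H)
  set E : Subgroup H := (P : Subgroup H) ⊔ Z with hE
  have hZE : Z ≤ E := le_sup_right
  have hPE : (P : Subgroup H) ≤ E := le_sup_left
  haveI hZc : IsCyclic Z := Subgroup.isCyclic_of_le (inf_le_left : C ⊓ Subgroup.center H ≤ C)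
  obtain ⟨z₀, hz₀⟩ := hZc.exists_generator
  refine ⟨E, ⟨⟨(z₀ : H), hZE z₀.2⟩, ?_, ?_, ?_⟩, ?_⟩
  · rw [Subgroup.mem_center_iff]
    intro g
    apply Subtype.ext
    have hc : (z₀ : H) ∈ Subgroup.center H := (Subgroup.mem_inf.mp z₀.2).2
    exact Subgroup.mem_center_iff.mp hc g
  · have h1 : orderOf (⟨(z₀ : H), hZE z₀.2⟩ : E) = orderOf (z₀ : H) :=
      (Subgroup.orderOf_coe (⟨(z₀ : H), hZE z₀.2⟩ : E)).symm
    rw [h1, Subgroup.orderOf_coe]
    have h2 : orderOf z₀ ∣ Nat.card C :=
      dvd_trans (orderOf_dvd_natCard z₀) (Subgroup.card_dvd_of_le inf_le_left)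
    exact Nat.Coprime.coprime_dvd_left h2 hcop
  · have h1 : Subgroup.zpowers (⟨(z₀ : H), hZE z₀.2⟩ : E) = Z.subgroupOf E := by
      ext x
      rw [Subgroup.mem_subgroupOf, Subgroup.mem_zpowers_iff]
      constructor
      · rintro ⟨i, rfl⟩
        have : ((⟨(z₀ : H), hZE z₀.2⟩ : E) ^ i : E) = ⟨((z₀ ^ i : Z) : H), hZE (z₀ ^ i).2⟩ := by
          apply Subtype.ext; simp
        rw [this]
        exact (z₀ ^ i).2
      · intro hx
        obtain ⟨i, hi⟩ := Subgroup.mem_zpowers_iff.mp (hz₀ ⟨(x : H), hx⟩)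
        refine ⟨i, ?_⟩
        apply Subtype.ext
        have := congrArg (fun z : Z => (z : H)) hi
        simpa using this
    rw [h1]
    have h2 : (Z.subgroupOf E).index = Z.relIndex E := rfl
    rw [h2, hE, Subgroup.relIndex_sup_right]
    have h3 : Z.relIndex (P : Subgroup H) ∣ p ^ j := by
      rw [← hj]; exact Subgroup.relIndex_dvd_card _ _
    obtain ⟨i, -, hi⟩ := (Nat.dvd_prime_pow hp.out).mp h3
    exact ⟨i, hi⟩
  · intro μ hμ
    have hμC : ∀ c ∈ C, μ c = 1 := by
      apply hom_trivial_of_norm C (P : Subgroup H) hcomm hcopCP μ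
      intro c hc hcP
      apply hμ c
      apply hZE
      refine Subgroup.mem_inf.mpr ⟨hc, ?_⟩
      rw [Subgroup.mem_center_iff]
      intro g
      have hle : C ⊔ (P : Subgroup H) ≤ Subgroup.centralizer {c} := by
        apply sup_le
        · intro a ha
          rw [Subgroup.mem_centralizer_iff]
          intro b hb
          rw [Set.mem_singleton_iff] at hb
          subst hb
          have := hcomm ⟨b, hc⟩ ⟨a, ha⟩
          exact congrArg Subtype.val this
        · intro a ha
          rw [Subgroup.mem_centralizer_iff]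
          intro b hb
          rw [Set.mem_singleton_iff] at hb
          subst hb
          exact (hcP a ha).symm
      have hg : g ∈ Subgroup.centralizer {c} := hle (by rw [hCP]; exact Subgroup.mem_top g)
      rw [Subgroup.mem_centralizer_iff] at hg
      exact (hg c rfl).symm
    have hker : C ⊔ (P : Subgroup H) ≤ μ.ker := by
      apply sup_le
      · intro c hc; exact MonoidHom.mem_ker.mpr (hμC c hc)
      · intro x hx; exact MonoidHom.mem_ker.mpr (hμ x (hPE hx))
    ext g
    have : g ∈ μ.ker := hker (by rw [hCP]; exact Subgroup.mem_top g)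
    rw [MonoidHom.mem_ker.mp this]
    rfl

end Quasi

section Key

/-- The trivial character of a `p`-quasi-elementary group is an integer combination of
characters induced from `p`-elementary subgroups. -/
theorem brauerSpan_one_of_quasiElem (p : ℕ) [hp : Fact p.Prime] :
    ∀ (n : ℕ) (H : Type u) [Group H] [Fintype H], Nat.card H = n →
      ∀ (C : Subgroup H) [C.Normal], IsCyclic C → Nat.Coprime (Nat.card C) p →
        (∃ k, C.index = p ^ k) → BrauerSpan p H (fun _ => 1) := by
  classical
  intro n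
  induction n using Nat.strong_induction_on with
  | _ n ih =>
  intro H _ _ hn C hC hcyc hcop hidx
  obtain ⟨k, hk⟩ := hidx
  have hcomm : ∀ a b : C, a * b = b * a := by
    intro a b
    obtain ⟨g, hg⟩ := hcyc.exists_generator
    obtain ⟨i, rfl⟩ := Subgroup.mem_zpowers_iff.mp (hg a)
    obtain ⟨j, rfl⟩ := Subgroup.mem_zpowers_iff.mp (hg b)
    rw [← zpow_add, ← zpow_add, add_comm]
  -- Step A: characters induced from proper subgroups
  have stepA : ∀ (U : Subgroup H), U ≠ ⊤ → ∀ φ : U → ℂ, IsCharacter U φ →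
      BrauerSpan p H (indFun U φ) := by
    intro U hU φ hφ
    haveI : Fintype U := Fintype.ofFinite _
    have hlt : Nat.card U < n := by
      rw [← hn]
      by_contra hle
      exact hU (Subgroup.eq_top_of_le_card U (not_lt.mp hle))
    haveI : (C.subgroupOf U).Normal := Subgroup.Normal.subgroupOf hC U
    let f : C.subgroupOf U →* C :=
      (U.subtype.comp (C.subgroupOf U).subtype).codRestrict C
        (fun x => Subgroup.mem_subgroupOf.mp x.2)
    have hf : Function.Injective f := by
      intro x y hxy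
      have := congrArg Subtype.val hxy
      exact Subtype.ext (Subtype.ext this)
    have hcycU : IsCyclic (C.subgroupOf U) := isCyclic_of_injective f hf
    have hcopU : Nat.Coprime (Nat.card (C.subgroupOf U)) p :=
      Nat.Coprime.coprime_dvd_left (Subgroup.card_dvd_of_injective f hf) hcop
    have hidxU : ∃ i, (C.subgroupOf U).index = p ^ i := by
      have h1 : C.relIndex U ∣ C.index := Subgroup.relIndex_dvd_index_of_normal C U
      rw [hk] at h1
      obtain ⟨i, -, hi⟩ := (Nat.dvd_prime_pow hp.out).mp h1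
      exact ⟨i, hi⟩
    have h1 := ih _ hlt U rfl (C.subgroupOf U) hcycU hcopU hidxU
    have h2 := BrauerSpan.mul_char h1 hφ
    have h3 : ((fun _ : U => (1 : ℂ)) * φ) = φ := by ext u; simp
    rw [h3] at h2
    exact BrauerSpan.ind U h2
  -- Step B: nonlinear irreducible characters
  have stepB : ∀ ψ : H → ℂ, IsIrrCharacter H ψ → ψ 1 ≠ 1 → BrauerSpan p H ψ := by
    intro ψ hψ hψ1
    obtain ⟨U, φ, hU, hφ, rfl⟩ := exists_induced_of_nonlinear p C hcomm hcop k hk ψ hψ hψ1
    exact stepA U hU φ hφ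
  -- Step C
  obtain ⟨E, hE, hEμ⟩ := exists_elementary_sub p C hcyc hcop k hk
  haveI : Fintype E := Fintype.ofFinite _
  set Φ := indFun E (fun _ => (1 : ℂ)) with hΦ
  have hΦc : IsCharacter H Φ := IsCharacter.indFun isCharacter_one
  have hexp := expansion_of_mem_span (IsCharacter.mem_span hΦc)
  have h1mem : (fun _ : H => (1 : ℂ)) ∈ irrFinset H := mem_irrFinset.mpr isIrrCharacter_one
  have hc1 : classInner Φ (fun _ : H => (1 : ℂ)) = 1 := by
    rw [hΦ, frobenius_reciprocity E _ _ (IsCharacter.isClassFunction isCharacter_one)]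
    exact classInner_irr_self isIrrCharacter_one
  rw [← Finset.add_sum_erase _ _ h1mem, hc1, one_smul] at hexp
  have h1 : (fun _ : H => (1 : ℂ))
      = Φ - ∑ ψ ∈ (irrFinset H).erase (fun _ : H => (1 : ℂ)), classInner Φ ψ • ψ := by
    rw [eq_sub_iff_add_eq]; exact hexp.symm
  rw [h1]
  apply BrauerSpan.sub (BrauerSpan.of E hE _ isCharacter_one)
  apply BrauerSpan.sum
  intro ψ hψmem
  have hψ : IsIrrCharacter H ψ := mem_irrFinset.mp (Finset.mem_of_mem_erase hψmem)
  have hψne : ψ ≠ fun _ : H => (1 : ℂ) := Finset.ne_of_mem_erase hψmem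
  obtain ⟨m, hm⟩ := IsCharacter.classInner_nat hΦc (IsIrrCharacter.isCharacter hψ)
  by_cases hm0 : m = 0
  · rw [hm, hm0, Nat.cast_zero, zero_smul]; exact BrauerSpan.zero
  have hnl : ψ 1 ≠ 1 := by
    intro hψ1
    obtain ⟨ω, hω⟩ := Cfsg.Agent.S0154.exists_hom_of_degree_one ψ hψ hψ1
    apply hψne
    have hres : classInner (fun _ : E => (1 : ℂ)) (fun e : E => ψ e) ≠ 0 := by
      rw [← frobenius_reciprocity E _ _ (IsCharacter.isClassFunction
        (IsIrrCharacter.isCharacter hψ)), ← hΦ, hm]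
      exact_mod_cast hm0
    have hresirr : IsIrrCharacter E (fun e : E => ψ e) := by
      rw [hω]
      exact isIrrCharacter_of_hom (ω.comp E.subtype)
    rw [classInner_irr isIrrCharacter_one hresirr] at hres
    have heq : (fun _ : E => (1 : ℂ)) = fun e : E => ψ e := by
      by_contra hne
      rw [if_neg hne] at hres
      exact hres rfl
    have hω1 : ω = 1 := by
      apply hEμ
      intro x hx
      have := congrFun heq ⟨x, hx⟩
      rw [hω] at this
      simp only at this
      exact Units.ext this.symm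
    rw [hω, hω1]
    ext g
    simp
  have h2 := BrauerSpan.zsmul (m : ℤ) (stepB ψ hψ hnl)
  rw [hm]
  simpa using h2

end Key

section Local

variable {G : Type u} [Group G] [Fintype G]

theorem brauerSpan_indFun_one_of_QE (p : ℕ) [hp : Fact p.Prime] (H : Subgroup G) (hH : QE p H) :
    BrauerSpan p G (indFun H (fun _ => 1)) := by
  classical
  obtain ⟨C, hCH, hHN, hcyc, hcop, k, hk⟩ := hH
  haveI : Fintype H := Fintype.ofFinite _
  haveI : (C.subgroupOf H).Normal := (Subgroup.normal_subgroupOf_iff_le_normalizer hCH).mpr hHN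
  let e : C.subgroupOf H ≃* C := Subgroup.subgroupOfEquivOfLe hCH
  have hcyc' : IsCyclic (C.subgroupOf H) := isCyclic_of_injective e.toMonoidHom e.injective
  have hcop' : Nat.Coprime (Nat.card (C.subgroupOf H)) p := by
    rw [Nat.card_congr e.toEquiv]; exact hcop
  have h1 := brauerSpan_one_of_quasiElem p _ H rfl (C.subgroupOf H) hcyc' hcop' ⟨k, hk⟩
  exact BrauerSpan.ind H h1

/-- Brauer's induction theorem, local form. -/
theorem brauer_local (p : ℕ) (hp : p.Prime) :
    ∃ m : ℤ, ¬ (p : ℤ) ∣ m ∧ BrauerSpan p G (fun _ => (m : ℂ)) := by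
  haveI : Fact p.Prime := ⟨hp⟩
  obtain ⟨m, hm, a, ha, heq⟩ := solomon_local (G := G) p hp
  refine ⟨m, hm, ?_⟩
  rw [heq]
  apply BrauerSpan.sum
  intro H _
  by_cases h0 : a H = 0
  · rw [h0, Int.cast_zero, zero_smul]; exact BrauerSpan.zero
  · exact BrauerSpan.zsmul (a H) (brauerSpan_indFun_one_of_QE p H (ha H h0))

end Local

end Cfsg.Agent.Lib.Helper2_BrauerInd
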