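import Mathlib
import Cfsg.Prelude.Def_Characters
import Cfsg.Agent.Lib.Helper2_ClassFn
import Cfsg.Agent.Lib.Helper2_CharBasic
import Cfsg.Agent.Lib.Helper2_CharOrtho
import Cfsg.Agent.Lib.Helper2_CharMore
import Cfsg.Agent.Lib.Helper2_CharComplete
import Cfsg.Agent.Lib.Helper2_CharInd
import Cfsg.Agent.Lib.Helper2_CharDeg
import Cfsg.Agent.Lib.Helper2_Artin
import Cfsg.Agent.Lib.Helper2_MGroup
import Cfsg.Agent.Lib.Helper2_QuasiElem
import Cfsg.Agent.Lib.Helper2_BrauerInd

set_option autoImplicit false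

/-!
# Brauer's induction theorem, global form
-/

namespace Cfsg.Agent.Lib.Helper2_BrauerThm

open Cfsg
open Cfsg.Agent.Lib.Helper2_ClassFn
open Cfsg.Agent.Lib.Helper2_CharBasic
open Cfsg.Agent.Lib.Helper2_CharOrtho
open Cfsg.Agent.Lib.Helper2_CharMore
open Cfsg.Agent.Lib.Helper2_CharComplete
open Cfsg.Agent.Lib.Helper2_CharInd
open Cfsg.Agent.Lib.Helper2_CharDeg
open Cfsg.Agent.Lib.Helper2_Artin
open Cfsg.Agent.Lib.Helper2_MGroup
open Cfsg.Agent.Lib.Helper2_QuasiElem
open Cfsg.Agent.Lib.Helper2_BrauerInd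

universe u

section Elementary

variable {p : ℕ} {E : Type u} [Group E]

theorem normal_zpowers_of_mem_center (x : E) (hx : x ∈ Subgroup.center E) :
    (Subgroup.zpowers x).Normal := by
  refine ⟨fun y hy g => ?_⟩
  have hyc : y ∈ Subgroup.center E := by
    rw [Subgroup.mem_zpowers_iff] at hy
    obtain ⟨i, rfl⟩ := hy
    exact Subgroup.zpow_mem _ hx i
  have : g * y * g⁻¹ = y := by
    rw [Subgroup.mem_center_iff] at hyc
    rw [hyc g, mul_inv_cancel_right]
  rw [this]; exact hy

theorem IsElementary.nilpotent [Finite E] (hp : p.Prime) (h : IsElementary p E) :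
    Group.IsNilpotent E := by
  obtain ⟨x, hx, -, k, hk⟩ := h
  haveI : Fact p.Prime := ⟨hp⟩
  haveI := normal_zpowers_of_mem_center x hx
  have hQp : IsPGroup p (E ⧸ Subgroup.zpowers x) :=
    IsPGroup.of_card (n := k) (by rw [← Subgroup.index_eq_card]; exact hk)
  haveI : Group.IsNilpotent (E ⧸ Subgroup.zpowers x) := hQp.isNilpotent
  apply Subgroup.isNilpotent_of_ker_le_center (QuotientGroup.mk' (Subgroup.zpowers x))
  rw [QuotientGroup.ker_mk']
  exact Subgroup.zpowers_le.mpr hx

theorem IsElementary.subgroup (hp : p.Prime) (h : IsElementary p E) (D : Subgroup E) :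
    IsElementary p D := by
  obtain ⟨x, hx, hcop, k, hk⟩ := h
  haveI hAn := normal_zpowers_of_mem_center x hx
  set A := Subgroup.zpowers x with hA
  let f : A.subgroupOf D →* A :=
    (D.subtype.comp (A.subgroupOf D).subtype).codRestrict A
      (fun y => Subgroup.mem_subgroupOf.mp y.2)
  have hf : Function.Injective f := by
    intro a b hab
    have := congrArg Subtype.val hab
    exact Subtype.ext (Subtype.ext this)
  haveI : IsCyclic (A.subgroupOf D) := isCyclic_of_injective f hf
  obtain ⟨y, hy⟩ := IsCyclic.exists_generator (α := A.subgroupOf D)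
  have hyA : ((y : D) : E) ∈ A := Subgroup.mem_subgroupOf.mp y.2
  refine ⟨(y : D), ?_, ?_, ?_⟩
  · rw [Subgroup.mem_center_iff]
    intro g
    apply Subtype.ext
    have hc : ((y : D) : E) ∈ Subgroup.center E := (Subgroup.zpowers_le.mpr hx) hyA
    exact Subgroup.mem_center_iff.mp hc g
  · have h1 : orderOf (y : D) = orderOf ((y : D) : E) := (Subgroup.orderOf_coe (y : D)).symm
    rw [h1]
    exact Nat.Coprime.coprime_dvd_left (orderOf_dvd_of_mem_zpowers hyA) hcop
  · have h1 : Subgroup.zpowers (y : D) = A.subgroupOf D := by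
      ext z
      constructor
      · intro hz
        obtain ⟨i, rfl⟩ := Subgroup.mem_zpowers_iff.mp hz
        exact Subgroup.zpow_mem _ y.2 i
      · intro hz
        obtain ⟨i, hi⟩ := Subgroup.mem_zpowers_iff.mp (hy ⟨z, hz⟩)
        refine Subgroup.mem_zpowers_iff.mpr ⟨i, ?_⟩
        have := congrArg Subtype.val hi
        simpa using this
    rw [h1]
    have h2 : (A.subgroupOf D).index ∣ A.index := Subgroup.relIndex_dvd_index_of_normal A D
    rw [hk] at h2
    obtain ⟨i, -, hi⟩ := (Nat.dvd_prime_pow hp).mp h2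
    exact ⟨i, hi⟩

end Elementary

section LinSpan

variable {G : Type u} [Group G] [Fintype G]

/-- Integer combinations of characters induced from linear characters of elementary subgroups. -/
def LinSpan (G : Type u) [Group G] [Fintype G] (f : G → ℂ) : Prop :=
  ∃ l : List ((E : Subgroup G) × ((E →* ℂˣ) × ℤ)),
    (∀ t ∈ l, ∃ p : ℕ, p.Prime ∧ IsElementary p t.1) ∧
      f = (l.map fun t => (t.2.2 : ℂ) • indFun t.1 (fun e => (t.2.1 e : ℂ))).sum

theorem LinSpan.zero : LinSpan G (0 : G → ℂ) :=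
  ⟨[], fun t ht => absurd ht (List.not_mem_nil), by simp⟩

theorem LinSpan.add {f g : G → ℂ} (hf : LinSpan G f) (hg : LinSpan G g) :
    LinSpan G (f + g) := by
  obtain ⟨l₁, h₁, rfl⟩ := hf
  obtain ⟨l₂, h₂, rfl⟩ := hg
  refine ⟨l₁ ++ l₂, fun t ht => ?_, ?_⟩
  · rcases List.mem_append.mp ht with h | h
    · exact h₁ t h
    · exact h₂ t h
  · rw [List.map_append, List.sum_append]

theorem LinSpan.zsmul {f : G → ℂ} (c : ℤ) (hf : LinSpan G f) :
    LinSpan G ((c : ℂ) • f) := by
  obtain ⟨l, hl, rfl⟩ := hf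
  refine ⟨l.map (fun t => ⟨t.1, (t.2.1, c * t.2.2)⟩), fun t ht => ?_, ?_⟩
  · obtain ⟨s, hs, rfl⟩ := List.mem_map.mp ht
    exact hl s hs
  · rw [List.smul_sum, List.map_map, List.map_map]
    congr 1
    apply List.map_congr_left
    intro t _
    simp only [Function.comp_apply]
    rw [smul_smul, Int.cast_mul]

theorem LinSpan.of (E : Subgroup G) (hE : ∃ p : ℕ, p.Prime ∧ IsElementary p E)
    (lam : E →* ℂˣ) : LinSpan G (indFun E (fun e => (lam e : ℂ))) :=
  ⟨[⟨E, (lam, 1)⟩], fun t ht => by
    rw [List.mem_singleton] at ht; subst ht; exact hE, by simp⟩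

theorem LinSpan.multiset_sum (m : Multiset (G → ℂ)) (h : ∀ f ∈ m, LinSpan G f) :
    LinSpan G m.sum := by
  induction m using Multiset.induction_on with
  | empty => simpa using LinSpan.zero
  | cons a m ih =>
    rw [Multiset.sum_cons]
    exact LinSpan.add (h a (Multiset.mem_cons_self a m))
      (ih fun f hf => h f (Multiset.mem_cons_of_mem hf))

theorem LinSpan.list_sum (l : List (G → ℂ)) (h : ∀ f ∈ l, LinSpan G f) :
    LinSpan G l.sum := by
  induction l with
  | nil => simpa using LinSpan.zero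
  | cons a l ih =>
    rw [List.sum_cons]
    exact LinSpan.add (h a (List.mem_cons_self)) (ih fun f hf => h f (List.mem_cons_of_mem a hf))

theorem indFun_multiset_sum (E : Subgroup G) (m : Multiset (E → ℂ)) :
    indFun E m.sum = (m.map (indFun E)).sum := by
  induction m using Multiset.induction_on with
  | empty => simp [indFun_zero]
  | cons a m ih =>
    rw [Multiset.sum_cons, indFun_add, ih, Multiset.map_cons, Multiset.sum_cons]

/-- Characters of elementary subgroups induce into the span. -/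
theorem LinSpan.of_char (E : Subgroup G) (p : ℕ) (hp : p.Prime) (hE : IsElementary p E)
    (φ : E → ℂ) (hφ : IsCharacter E φ) : LinSpan G (indFun E φ) := by
  classical
  haveI : Fintype E := Fintype.ofFinite _
  haveI : Group.IsNilpotent E := IsElementary.nilpotent hp hE
  obtain ⟨m, hm, rfl⟩ := IsCharacter.exists_irr_decomp hφ
  rw [indFun_multiset_sum]
  apply LinSpan.multiset_sum
  intro f hf
  obtain ⟨ψ, hψ, rfl⟩ := Multiset.mem_map.mp hf
  obtain ⟨D, lam, hlam⟩ := mgroup_aux _ E rfl ψ (hm ψ hψ)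
  rw [hlam, indFun_trans]
  have hD : IsElementary p D := IsElementary.subgroup hp hE D
  have hD' : IsElementary p (D.map E.subtype) :=
    IsElementary.of_equiv (D.equivMapOfInjective E.subtype E.subtype_injective) hD
  exact LinSpan.of (D.map E.subtype) ⟨p, hp, hD'⟩
    (lam.comp (D.equivMapOfInjective E.subtype E.subtype_injective).symm.toMonoidHom)

theorem LinSpan.of_brauerSpan {p : ℕ} (hp : p.Prime) {f : G → ℂ} (hf : BrauerSpan p G f) :
    LinSpan G f := by
  obtain ⟨l, hl, rfl⟩ := hf
  apply LinSpan.list_sum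
  intro f hf
  obtain ⟨t, ht, rfl⟩ := List.mem_map.mp hf
  exact LinSpan.zsmul _ (LinSpan.of_char t.1 p hp (hl t ht).1 t.2.1 (hl t ht).2)

theorem LinSpan.mul_char {f χ : G → ℂ} (hf : LinSpan G f) (hχ : IsCharacter G χ) :
    LinSpan G (f * χ) := by
  obtain ⟨l, hl, rfl⟩ := hf
  have hcf := IsCharacter.isClassFunction hχ
  induction l with
  | nil => simpa using LinSpan.zero
  | cons t l ih =>
    rw [List.map_cons, List.sum_cons, add_mul]
    apply LinSpan.add
    · rw [smul_mul_assoc, ← indFun_mul_res' t.1 _ hcf]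
      apply LinSpan.zsmul
      obtain ⟨p, hp, hE⟩ := hl t List.mem_cons_self
      apply LinSpan.of_char t.1 p hp hE
      exact IsCharacter.mul
        (IsIrrCharacter.isCharacter (isIrrCharacter_of_hom t.2.1))
        (IsCharacter.restrict hχ t.1)
    · exact ih (fun s hs => hl s (List.mem_cons_of_mem t hs))

/-- The trivial character lies in the span. -/
theorem linSpan_one : LinSpan G (fun _ : G => (1 : ℂ)) := by
  classical
  have hex : ∃ d : ℕ, 0 < d ∧ LinSpan G (fun _ : G => (d : ℂ)) := by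
    obtain ⟨m, hm, hspan⟩ := brauer_local (G := G) 2 Nat.prime_two
    have hm0 : m ≠ 0 := by
      rintro rfl
      exact hm (dvd_zero _)
    have h1 := LinSpan.of_brauerSpan Nat.prime_two hspan
    refine ⟨m.natAbs, Int.natAbs_pos.mpr hm0, ?_⟩
    rcases Int.natAbs_eq m with h | h
    · have : (fun _ : G => ((m.natAbs : ℕ) : ℂ)) = fun _ : G => (m : ℂ) := by
        ext g
        conv_rhs => rw [h]
        simp
      rw [this]; exact h1
    · have : (fun _ : G => ((m.natAbs : ℕ) : ℂ)) = ((-1 : ℤ) : ℂ) • fun _ : G => (m : ℂ) := by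
        ext g
        conv_rhs => rw [h]
        simp
      rw [this]; exact LinSpan.zsmul (-1) h1
  set d := Nat.find hex with hd
  obtain ⟨hd0, hdspan⟩ := Nat.find_spec hex
  have hd1 : d = 1 := by
    by_contra hne
    obtain ⟨q, hq, hqd⟩ := Nat.exists_prime_and_dvd hne
    obtain ⟨m, hm, hspan⟩ := brauer_local (G := G) q hq
    have h1 := LinSpan.of_brauerSpan hq hspan
    set g := Int.gcd (d : ℤ) m with hg
    have hgpos : 0 < g := Int.gcd_pos_of_ne_zero_left m (by exact_mod_cast hd0.ne')
    have hgspan : LinSpan G (fun _ : G => (g : ℂ)) := by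
      have hbez := Int.gcd_eq_gcd_ab (d : ℤ) m
      have : (fun _ : G => ((g : ℕ) : ℂ))
          = ((Int.gcdA (d : ℤ) m : ℤ) : ℂ) • (fun _ : G => ((d : ℕ) : ℂ))
            + ((Int.gcdB (d : ℤ) m : ℤ) : ℂ) • (fun _ : G => (m : ℂ)) := by
        ext x
        simp only [Pi.add_apply, Pi.smul_apply, smul_eq_mul]
        have h2 : ((g : ℤ) : ℂ) = (((d : ℤ) * Int.gcdA (d : ℤ) m + m * Int.gcdB (d : ℤ) m : ℤ) : ℂ) := by
          rw [← hbez]
        push_cast at h2
        rw [h2]; ring
      rw [this]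
      exact LinSpan.add (LinSpan.zsmul _ hdspan) (LinSpan.zsmul _ h1)
    have hle : d ≤ g := Nat.find_min' hex ⟨hgpos, hgspan⟩
    have hgd : g ∣ d := by
      have := Int.gcd_dvd_left (d : ℤ) m
      exact Int.natCast_dvd_natCast.mp this
    have hgeq : g = d := le_antisymm (Nat.le_of_dvd hd0 hgd) hle
    have hdm : (d : ℤ) ∣ m := by
      have := Int.gcd_dvd_right (d : ℤ) m
      rwa [← hg, hgeq] at this
    apply hm
    exact dvd_trans (Int.natCast_dvd_natCast.mpr hqd) hdm
  rw [← hd, hd1] at hdspan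
  simpa using hdspan

/-- **Brauer's induction theorem.** -/
theorem brauer_induction (χ : G → ℂ) (hχ : IsCharacter G χ) : LinSpan G χ := by
  have h := LinSpan.mul_char (linSpan_one (G := G)) hχ
  have : ((fun _ : G => (1 : ℂ)) * χ) = χ := by ext g; simp
  rwa [this] at h

end LinSpan

end Cfsg.Agent.Lib.Helper2_BrauerThm
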