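import Mathlib
import Cfsg.Prelude.Def_Characters
import Cfsg.Prelude.Def_OddOrderChar
import Cfsg.Agent.Lib.Helper2_ClassFn

set_option autoImplicit false

/-!
# The Dade isometry: basic counting
-/

namespace Cfsg.Agent.Lib.Helper2_Dade

open Cfsg
open Cfsg.Agent.Lib.Helper2_ClassFn
open scoped ComplexConjugate Pointwise

universe u

section Basic

variable {G : Type u} [Group G]

theorem eq_of_pow_eq_of_coprime {x y : G} {n m : ℕ} (hnm : Nat.Coprime n m)
    (h : x ^ n = y ^ n) (hx : x ^ m = 1) (hy : y ^ m = 1) : x = y := by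
  obtain ⟨s, t, hst⟩ : ∃ s t : ℤ, s * n + t * m = 1 := Nat.isCoprime_iff_coprime.mpr hnm
  have key : ∀ z : G, z ^ m = 1 → z = (z ^ n) ^ s := by
    intro z hz
    calc z = z ^ (1 : ℤ) := (zpow_one z).symm
      _ = z ^ (s * n + t * m) := by rw [hst]
      _ = (z ^ (n : ℤ)) ^ s * (z ^ (m : ℤ)) ^ t := by
        rw [zpow_add, zpow_mul', zpow_mul']
      _ = (z ^ n) ^ s := by
        rw [zpow_natCast, zpow_natCast, hz, one_zpow, mul_one]
  rw [key x hx, key y hy, h]

theorem conj_pow' (x a : G) (n : ℕ) : (x * a * x⁻¹) ^ n = x * a ^ n * x⁻¹ := by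
  induction n with
  | zero => simp
  | succ n ih => rw [pow_succ, ih, pow_succ]; group

theorem pow_card_eq_one_of_mem {K : Subgroup G} [Finite K] {u : G} (hu : u ∈ K) :
    u ^ Nat.card K = 1 := by
  have h : (⟨u, hu⟩ : K) ^ Nat.card K = 1 := pow_card_eq_one'
  have h2 := congrArg Subtype.val h
  rw [Subgroup.coe_pow, Subgroup.coe_one] at h2
  exact h2

variable {A : Set G} {L : Subgroup G} {H : G → Subgroup G}

theorem comm_of_mem_H (hD : DadeHypothesis A L H) {a u : G} (ha : a ∈ A) (hu : u ∈ H a) :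
    a * u = u * a := by
  have := hD.le_centralizer a ha hu
  rw [Subgroup.mem_centralizer_iff] at this
  exact this a rfl

theorem mem_CL (hD : DadeHypothesis A L H) {a : G} (ha : a ∈ A) :
    a ∈ L ⊓ Subgroup.centralizer ({a} : Set G) := by
  refine Subgroup.mem_inf.mpr ⟨hD.subset ha, ?_⟩
  rw [Subgroup.mem_centralizer_singleton_iff]

/-- P1: the `A`-part is determined by conjugacy. -/
theorem conj_eq [Finite G] (hD : DadeHypothesis A L H) {a b u v x : G} (ha : a ∈ A) (hb : b ∈ A)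
    (hu : u ∈ H a) (hv : v ∈ H b) (hx : x * (a * u) * x⁻¹ = b * v) : x * a * x⁻¹ = b := by
  set N2 := Nat.card (H a) * Nat.card (H b) with hN2
  set N1 := Nat.card ↥(L ⊓ Subgroup.centralizer ({a} : Set G)) *
    Nat.card ↥(L ⊓ Subgroup.centralizer ({b} : Set G)) with hN1
  have hcop : Nat.Coprime N2 N1 := by
    rw [hN2, hN1]
    apply Nat.Coprime.mul_left
    · exact Nat.Coprime.mul_right (hD.coprime a ha a ha) (hD.coprime a ha b hb)
    · exact Nat.Coprime.mul_right (hD.coprime b hb a ha) (hD.coprime b hb b hb)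
  have hu2 : u ^ N2 = 1 := by
    rw [hN2, pow_mul, pow_card_eq_one_of_mem hu, one_pow]
  have hv2 : v ^ N2 = 1 := by
    rw [hN2, mul_comm, pow_mul, pow_card_eq_one_of_mem hv, one_pow]
  have ha1 : a ^ N1 = 1 := by
    rw [hN1, pow_mul, pow_card_eq_one_of_mem (mem_CL hD ha), one_pow]
  have hb1 : b ^ N1 = 1 := by
    rw [hN1, mul_comm, pow_mul, pow_card_eq_one_of_mem (mem_CL hD hb), one_pow]
  apply eq_of_pow_eq_of_coprime hcop
  · have h1 : (x * (a * u) * x⁻¹) ^ N2 = x * a ^ N2 * x⁻¹ := by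
      rw [conj_pow', (show Commute a u from comm_of_mem_H hD ha hu).mul_pow, hu2, mul_one]
    have h2 : (b * v) ^ N2 = b ^ N2 := by
      rw [(show Commute b v from comm_of_mem_H hD hb hv).mul_pow, hv2, mul_one]
    rw [conj_pow', ← h1, hx, h2]
  · rw [conj_pow', ha1]; group
  · exact hb1

theorem pow_mul_mem (N : Subgroup G) {h c : G} (hh : h ∈ N)
    (hc : ∀ i : ℕ, ∀ y ∈ N, c ^ i * y * (c ^ i)⁻¹ ∈ N) (n : ℕ) :
    ∃ h' ∈ N, (h * c) ^ n = h' * c ^ n := by
  induction n with
  | zero => exact ⟨1, N.one_mem, by simp⟩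
  | succ n ih =>
    obtain ⟨h', hh', e⟩ := ih
    refine ⟨h' * (c ^ n * h * (c ^ n)⁻¹), N.mul_mem hh' (hc n h hh), ?_⟩
    rw [pow_succ, e, pow_succ]; group

/-- P2: the supporting subgroups are compatible with conjugation. -/
theorem H_conj [Finite G] (hD : DadeHypothesis A L H) {a x u : G} (ha : a ∈ A)
    (hb : x * a * x⁻¹ ∈ A) (hu : u ∈ H a) : x * u * x⁻¹ ∈ H (x * a * x⁻¹) := by
  set b := x * a * x⁻¹ with hbdef
  set k := x * u * x⁻¹ with hkdef
  have hkC : k ∈ Subgroup.centralizer ({b} : Set G) := by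
    rw [Subgroup.mem_centralizer_singleton_iff, hkdef, hbdef]
    have := comm_of_mem_H hD ha hu
    calc x * u * x⁻¹ * (x * a * x⁻¹) = x * (u * a) * x⁻¹ := by group
      _ = x * (a * u) * x⁻¹ := by rw [this]
      _ = _ := by group
  have hnorm : L ⊓ Subgroup.centralizer ({b} : Set G) ≤
      Subgroup.normalizer ((H b : Subgroup G) : Set G) := by
    intro c hc
    rw [Subgroup.mem_normalizer_iff]
    intro y
    constructor
    · intro hy
      exact hD.conj_mem_H b hb c (Subgroup.mem_inf.mp hc).2 y hy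
    · intro hy
      have := hD.conj_mem_H b hb c⁻¹ (Subgroup.inv_mem _ (Subgroup.mem_inf.mp hc).2) _ hy
      simpa [mul_assoc] using this
  have hset := Subgroup.coe_mul_of_right_le_normalizer_left (H b)
    (L ⊓ Subgroup.centralizer ({b} : Set G)) hnorm
  rw [hD.sup_eq b hb] at hset
  have hk' : k ∈ ((H b : Set G) *
      ((L ⊓ Subgroup.centralizer ({b} : Set G) : Subgroup G) : Set G)) := by
    rw [← hset]; exact hkC
  obtain ⟨h, hh, c, hc, hhc⟩ := Set.mem_mul.mp hk'
  have hh : h ∈ H b := hh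
  have hc : c ∈ L ⊓ Subgroup.centralizer ({b} : Set G) := hc
  have hkn : k ^ Nat.card (H a) = 1 := by
    rw [hkdef, conj_pow', pow_card_eq_one_of_mem hu]; group
  obtain ⟨h', hh', e⟩ := pow_mul_mem (H b) hh (fun i y hy =>
    hD.conj_mem_H b hb (c ^ i) (Subgroup.pow_mem _ (Subgroup.mem_inf.mp hc).2 i) y hy)
    (Nat.card (H a))
  rw [hhc, hkn] at e
  have hcn : c ^ Nat.card (H a) ∈ H b := by
    have : c ^ Nat.card (H a) = h'⁻¹ := by
      rw [eq_inv_iff_mul_eq_one]
      have e' : c ^ Nat.card (H a) = h'⁻¹ * (h' * c ^ Nat.card (H a)) := by group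
      rw [e', ← e]; group
    rw [this]; exact (H b).inv_mem hh'
  have hcn1 : c ^ Nat.card (H a) = 1 := by
    have : c ^ Nat.card (H a) ∈ H b ⊓ (L ⊓ Subgroup.centralizer ({b} : Set G)) :=
      Subgroup.mem_inf.mpr ⟨hcn, Subgroup.pow_mem _ hc _⟩
    rw [hD.inf_eq_bot b hb] at this
    exact Subgroup.mem_bot.mp this
  have hc1 : c = 1 := by
    apply eq_of_pow_eq_of_coprime (hD.coprime a ha b hb)
    · rw [hcn1, one_pow]
    · exact pow_card_eq_one_of_mem hc
    · exact one_pow _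
  rw [hc1, mul_one] at hhc
  rw [← hhc]; exact hh

theorem card_H_conj [Finite G] (hD : DadeHypothesis A L H) {a x : G} (ha : a ∈ A)
    (hb : x * a * x⁻¹ ∈ A) : Nat.card (H (x * a * x⁻¹)) = Nat.card (H a) := by
  have e : x⁻¹ * (x * a * x⁻¹) * (x⁻¹)⁻¹ = a := by group
  have ha' : x⁻¹ * (x * a * x⁻¹) * (x⁻¹)⁻¹ ∈ A := by rw [e]; exact ha
  symm
  apply Nat.card_congr
  exact
    { toFun := fun u => ⟨x * u.1 * x⁻¹, H_conj hD ha hb u.2⟩
      invFun := fun v => ⟨x⁻¹ * v.1 * x, by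
        have := H_conj hD hb ha' v.2
        rw [e, inv_inv] at this
        exact this⟩
      left_inv := fun u => by
        apply Subtype.ext
        show x⁻¹ * (x * u.1 * x⁻¹) * x = u.1
        group
      right_inv := fun v => by
        apply Subtype.ext
        show x * (x⁻¹ * v.1 * x) * x⁻¹ = v.1
        group }

theorem card_centralizer [Finite G] (hD : DadeHypothesis A L H) {a : G} (ha : a ∈ A) :
    Nat.card (Subgroup.centralizer ({a} : Set G)) =
      Nat.card (H a) * Nat.card ↥(L ⊓ Subgroup.centralizer ({a} : Set G)) := by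
  have hnorm : L ⊓ Subgroup.centralizer ({a} : Set G) ≤
      Subgroup.normalizer ((H a : Subgroup G) : Set G) := by
    intro c hc
    rw [Subgroup.mem_normalizer_iff]
    intro y
    constructor
    · intro hy
      exact hD.conj_mem_H a ha c (Subgroup.mem_inf.mp hc).2 y hy
    · intro hy
      have := hD.conj_mem_H a ha c⁻¹ (Subgroup.inv_mem _ (Subgroup.mem_inf.mp hc).2) _ hy
      simpa [mul_assoc] using this
  have hset := Subgroup.coe_mul_of_right_le_normalizer_left (H a)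
    (L ⊓ Subgroup.centralizer ({a} : Set G)) hnorm
  rw [hD.sup_eq a ha] at hset
  have hdisj : Disjoint (H a) (L ⊓ Subgroup.centralizer ({a} : Set G)) := by
    rw [disjoint_iff]; exact hD.inf_eq_bot a ha
  have hmem : ∀ p : H a × ↥(L ⊓ Subgroup.centralizer ({a} : Set G)),
      (p.1 : G) * p.2 ∈ Subgroup.centralizer ({a} : Set G) := by
    intro p
    exact Subgroup.mul_mem _ (hD.le_centralizer a ha p.1.2) (Subgroup.mem_inf.mp p.2.2).2
  rw [← Nat.card_prod]
  symm
  apply Nat.card_congr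
  apply Equiv.ofBijective (fun p => (⟨(p.1 : G) * p.2, hmem p⟩ :
    Subgroup.centralizer ({a} : Set G)))
  constructor
  · intro p q hpq
    have := congrArg Subtype.val hpq
    exact Subgroup.mul_injective_of_disjoint hdisj this
  · intro k
    have hk : (k : G) ∈ ((H a : Set G) *
        ((L ⊓ Subgroup.centralizer ({a} : Set G) : Subgroup G) : Set G)) := by
      rw [← hset]; exact k.2
    obtain ⟨h, hh, c, hc, hhc⟩ := Set.mem_mul.mp hk
    exact ⟨(⟨h, hh⟩, ⟨c, hc⟩), Subtype.ext hhc⟩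

end Basic

section Count

variable {G : Type u} [Group G] [Fintype G]

open Classical in
theorem sum_mem_subgroup (K : Subgroup G) :
    ∑ y : G, (if y ∈ K then 1 else 0) = Nat.card K := by
  rw [Nat.card_eq_fintype_card, Fintype.card_subtype, Finset.card_filter]

open Classical in
theorem conj_fiber (K : Subgroup G) (a b y0 : G) (hy0 : y0 ∈ K) (h0 : y0 * a * y0⁻¹ = b) :
    ∑ y : G, (if y ∈ K ∧ y * a * y⁻¹ = b then 1 else 0) =
      Nat.card ↥(K ⊓ Subgroup.centralizer ({a} : Set G)) := by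
  rw [← sum_mem_subgroup]
  rw [← Equiv.sum_comp (Equiv.mulLeft y0)
    (fun y => if y ∈ K ∧ y * a * y⁻¹ = b then 1 else 0)]
  apply Finset.sum_congr rfl
  intro y _
  apply if_congr _ rfl rfl
  rw [Equiv.coe_mulLeft, Subgroup.mem_inf, Subgroup.mem_centralizer_singleton_iff]
  constructor
  · rintro ⟨h1, h2⟩
    refine ⟨?_, ?_⟩
    · have := K.mul_mem (K.inv_mem hy0) h1
      rwa [inv_mul_cancel_left] at this
    · rw [← h0] at h2
      have e : y * a * y⁻¹ = y0⁻¹ * (y0 * y * a * (y0 * y)⁻¹) * y0 := by group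
      have e2 : y * a * y⁻¹ = a := by rw [e, h2]; group
      calc y * a = y * a * y⁻¹ * y := by group
        _ = a * y := by rw [e2]
  · rintro ⟨h1, h2⟩
    refine ⟨K.mul_mem hy0 h1, ?_⟩
    calc y0 * y * a * (y0 * y)⁻¹ = y0 * (y * a) * y⁻¹ * y0⁻¹ := by group
      _ = y0 * (a * y) * y⁻¹ * y0⁻¹ := by rw [h2]
      _ = y0 * a * y0⁻¹ := by group
      _ = b := h0

variable {A : Set G} {L : Subgroup G} {H : G → Subgroup G}

open Classical in
/-- P3 -/
theorem card_conj_mem (hD : DadeHypothesis A L H) {a : G} (ha : a ∈ A) :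
    ∑ x : G, (if x * a * x⁻¹ ∈ A then 1 else 0) = Nat.card L * Nat.card (H a) := by
  have hCLpos : 0 < Nat.card ↥(L ⊓ Subgroup.centralizer ({a} : Set G)) := Nat.card_pos
  apply Nat.eq_of_mul_eq_mul_right hCLpos
  have h1 : ∑ x : G, ∑ y : G, (if y ∈ L ∧ y * a * y⁻¹ = x * a * x⁻¹ then 1 else 0) =
      (∑ x : G, (if x * a * x⁻¹ ∈ A then 1 else 0)) *
        Nat.card ↥(L ⊓ Subgroup.centralizer ({a} : Set G)) := by
    rw [Finset.sum_mul]
    apply Finset.sum_congr rfl
    intro x _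
    by_cases hx : x * a * x⁻¹ ∈ A
    · rw [if_pos hx, one_mul]
      obtain ⟨y0, hy0, hy0e⟩ := hD.fusion a ha x hx
      exact conj_fiber L a _ y0 hy0 hy0e
    · rw [if_neg hx, zero_mul]
      apply Finset.sum_eq_zero
      intro y _
      rw [if_neg]
      rintro ⟨hy, hye⟩
      apply hx
      rw [← hye]
      exact hD.conj_mem y hy a ha
  have h2 : ∑ x : G, ∑ y : G, (if y ∈ L ∧ y * a * y⁻¹ = x * a * x⁻¹ then 1 else 0) =
      Nat.card L * Nat.card (Subgroup.centralizer ({a} : Set G)) := by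
    rw [Finset.sum_comm]
    rw [← sum_mem_subgroup L, Finset.sum_mul]
    apply Finset.sum_congr rfl
    intro y _
    by_cases hy : y ∈ L
    · rw [if_pos hy, one_mul]
      have := conj_fiber (⊤ : Subgroup G) a (y * a * y⁻¹) y (Subgroup.mem_top y) rfl
      rw [top_inf_eq] at this
      rw [← this]
      apply Finset.sum_congr rfl
      intro x _
      apply if_congr _ rfl rfl
      constructor
      · rintro ⟨_, h⟩
        exact ⟨Subgroup.mem_top x, h.symm⟩
      · rintro ⟨_, h⟩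
        exact ⟨hy, h.symm⟩
    · rw [if_neg hy, zero_mul]
      apply Finset.sum_eq_zero
      intro x _
      rw [if_neg]
      rintro ⟨h, _⟩
      exact hy h
  rw [← h1, h2, card_centralizer hD ha]
  ring

end Count

section Sum

variable {G : Type u} [Group G] [Fintype G] {A : Set G} {L : Subgroup G} {H : G → Subgroup G}
variable {𝕜 : Type*} [Field 𝕜] [CharZero 𝕜]

omit [CharZero 𝕜] in
open Classical in
theorem inner_weight (hD : DadeHypothesis A L H) {a0 u0 : G} (ha0 : a0 ∈ A) (hu0 : u0 ∈ H a0)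
    (x : G) :
    ∑ a : G, ∑ u : G, (if a ∈ A ∧ u ∈ H a ∧ a * u = x * (a0 * u0) * x⁻¹ then
        ((Nat.card (H a) : 𝕜))⁻¹ else 0) =
      if x * a0 * x⁻¹ ∈ A then ((Nat.card (H a0) : 𝕜))⁻¹ else 0 := by
  by_cases hx : x * a0 * x⁻¹ ∈ A
  · rw [if_pos hx]
    rw [Finset.sum_eq_single (x * a0 * x⁻¹)]
    · rw [Finset.sum_eq_single (x * u0 * x⁻¹)]
      · rw [if_pos, card_H_conj hD ha0 hx]
        refine ⟨hx, H_conj hD ha0 hx hu0, by group⟩
      · intro u _ hu
        rw [if_neg]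
        rintro ⟨_, _, h⟩
        apply hu
        have : x * a0 * x⁻¹ * u = x * a0 * x⁻¹ * (x * u0 * x⁻¹) := by rw [h]; group
        exact mul_left_cancel this
      · intro h; exact absurd (Finset.mem_univ _) h
    · intro a _ hane
      apply Finset.sum_eq_zero
      intro u _
      rw [if_neg]
      rintro ⟨haA, huH, h⟩
      apply hane
      exact (conj_eq hD ha0 haA hu0 huH h.symm).symm
    · intro h; exact absurd (Finset.mem_univ _) h
  · rw [if_neg hx]
    apply Finset.sum_eq_zero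
    intro a _
    apply Finset.sum_eq_zero
    intro u _
    rw [if_neg]
    rintro ⟨haA, huH, h⟩
    apply hx
    rw [conj_eq hD ha0 haA hu0 huH h.symm]
    exact haA

open Classical in
theorem weight_eq (hD : DadeHypothesis A L H) {g a0 u0 x0 : G} (ha0 : a0 ∈ A)
    (hu0 : u0 ∈ H a0) (hx0 : x0 * g * x0⁻¹ = a0 * u0) :
    ∑ x : G, ∑ a : G, ∑ u : G, (if a ∈ A ∧ u ∈ H a ∧ x⁻¹ * (a * u) * x = g then
        ((Nat.card (H a) : 𝕜))⁻¹ else 0) = (Nat.card L : 𝕜) := by
  rw [← Equiv.sum_comp (Equiv.mulRight x0)]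
  have h1 : ∀ x : G, (∑ a : G, ∑ u : G,
      (if a ∈ A ∧ u ∈ H a ∧ ((Equiv.mulRight x0) x)⁻¹ * (a * u) * ((Equiv.mulRight x0) x) = g then
        ((Nat.card (H a) : 𝕜))⁻¹ else 0)) =
      ∑ a : G, ∑ u : G, (if a ∈ A ∧ u ∈ H a ∧ a * u = x * (a0 * u0) * x⁻¹ then
        ((Nat.card (H a) : 𝕜))⁻¹ else 0) := by
    intro x
    apply Finset.sum_congr rfl
    intro a _
    apply Finset.sum_congr rfl
    intro u _
    apply if_congr _ rfl rfl
    rw [Equiv.coe_mulRight, ← hx0]
    constructor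
    · rintro ⟨h1, h2, h3⟩
      refine ⟨h1, h2, ?_⟩
      rw [← h3]; group
    · rintro ⟨h1, h2, h3⟩
      refine ⟨h1, h2, ?_⟩
      rw [h3]; group
  simp only [h1, inner_weight hD ha0 hu0]
  have h2 := card_conj_mem hD ha0
  have h3 : ∑ x : G, (if x * a0 * x⁻¹ ∈ A then ((Nat.card (H a0) : 𝕜))⁻¹ else 0) =
      ((Nat.card (H a0) : 𝕜))⁻¹ * ((∑ x : G, (if x * a0 * x⁻¹ ∈ A then 1 else 0) : ℕ) : 𝕜) := by
    rw [Nat.cast_sum, Finset.mul_sum]
    apply Finset.sum_congr rfl
    intro x _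
    by_cases hx : x * a0 * x⁻¹ ∈ A
    · simp [hx]
    · simp [hx]
  rw [h3, h2, Nat.cast_mul]
  have hne : (Nat.card (H a0) : 𝕜) ≠ 0 := by
    exact_mod_cast (Nat.card_pos (α := H a0)).ne'
  field_simp

open Classical in
/-- The fundamental counting identity for the Dade set-up. -/
theorem dade_sum (hD : DadeHypothesis A L H) (F : G → 𝕜)
    (hFc : ∀ x g : G, F (x * g * x⁻¹) = F g)
    (hF0 : ∀ g : G, (¬ ∃ a ∈ A, ∃ u ∈ H a, ∃ x : G, x * g * x⁻¹ = a * u) → F g = 0) :
    (Nat.card L : 𝕜) * ∑ g : G, F g =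
      (Nat.card G : 𝕜) * ∑ a : G, (if a ∈ A then
        ((Nat.card (H a) : 𝕜))⁻¹ * ∑ u : G, (if u ∈ H a then F (a * u) else 0) else 0) := by
  have hFc' : ∀ x g : G, F (x⁻¹ * g * x) = F g := by
    intro x g
    have := hFc x⁻¹ g
    rwa [inv_inv] at this
  -- T computed in two ways
  have hT1 : ∑ x : G, ∑ a : G, ∑ u : G, (if a ∈ A ∧ u ∈ H a then
      ((Nat.card (H a) : 𝕜))⁻¹ * F (x⁻¹ * (a * u) * x) else 0) =
      (Nat.card G : 𝕜) * ∑ a : G, (if a ∈ A then
        ((Nat.card (H a) : 𝕜))⁻¹ * ∑ u : G, (if u ∈ H a then F (a * u) else 0) else 0) := by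
    simp only [hFc']
    rw [Finset.sum_const, Finset.card_univ, nsmul_eq_mul, Nat.card_eq_fintype_card]
    congr 1
    apply Finset.sum_congr rfl
    intro a _
    by_cases ha : a ∈ A
    · simp only [ha, true_and, if_true]
      rw [Finset.mul_sum]
      apply Finset.sum_congr rfl
      intro u _
      by_cases hu : u ∈ H a
      · simp [hu]
      · simp [hu]
    · simp [ha]
  have hT2 : ∑ x : G, ∑ a : G, ∑ u : G, (if a ∈ A ∧ u ∈ H a then
      ((Nat.card (H a) : 𝕜))⁻¹ * F (x⁻¹ * (a * u) * x) else 0) =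
      ∑ g : G, F g * ∑ x : G, ∑ a : G, ∑ u : G,
        (if a ∈ A ∧ u ∈ H a ∧ x⁻¹ * (a * u) * x = g then ((Nat.card (H a) : 𝕜))⁻¹ else 0) := by
    symm
    simp only [Finset.mul_sum]
    rw [Finset.sum_comm]
    apply Finset.sum_congr rfl
    intro x _
    rw [Finset.sum_comm]
    apply Finset.sum_congr rfl
    intro a _
    rw [Finset.sum_comm]
    apply Finset.sum_congr rfl
    intro u _
    by_cases hau : a ∈ A ∧ u ∈ H a
    · rw [if_pos hau]
      rw [Finset.sum_eq_single (x⁻¹ * (a * u) * x)]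
      · rw [if_pos ⟨hau.1, hau.2, rfl⟩, mul_comm]
      · intro g _ hg
        rw [if_neg, mul_zero]
        rintro ⟨_, _, h⟩
        exact hg h.symm
      · intro h; exact absurd (Finset.mem_univ _) h
    · rw [if_neg hau]
      apply Finset.sum_eq_zero
      intro g _
      rw [if_neg, mul_zero]
      rintro ⟨h1, h2, _⟩
      exact hau ⟨h1, h2⟩
  rw [← hT1, hT2, Finset.mul_sum]
  apply Finset.sum_congr rfl
  intro g _
  by_cases hg : ∃ a ∈ A, ∃ u ∈ H a, ∃ x : G, x * g * x⁻¹ = a * u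
  · obtain ⟨a0, ha0, u0, hu0, x0, hx0⟩ := hg
    rw [weight_eq hD ha0 hu0 hx0, mul_comm]
  · rw [hF0 g hg, zero_mul, mul_zero]

end Sum

section Isometry

variable {G : Type u} [Group G] [Fintype G] {A : Set G} {L : Subgroup G} {H : G → Subgroup G}

open Classical in
theorem finsum_mem_subgroup (K : Subgroup G) (f : G → ℂ) :
    ∑ᶠ u ∈ (K : Set G), f u = ∑ u : G, (if u ∈ K then f u else 0) := by
  rw [finsum_mem_def, finsum_eq_sum_of_fintype]
  apply Finset.sum_congr rfl
  intro u _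
  rw [Set.indicator_apply]
  exact if_congr SetLike.mem_coe rfl rfl

open Classical in
theorem sum_subgroup_eq (K : Subgroup G) [Fintype K] (f : G → ℂ) :
    ∑ x : K, f x = ∑ x : G, (if x ∈ K then f x else 0) := by
  rw [← Finset.sum_filter]
  symm
  apply Finset.sum_subtype
  intro x
  simp

omit [Fintype G] in
theorem dadeIsometry_of_not (α : L → ℂ) {g : G}
    (h : ¬ ∃ a : ↥L, (a : G) ∈ A ∧ ∃ x : G, ∃ u ∈ H (a : G), x * g * x⁻¹ = (a : G) * u) :
    dadeIsometry A L H α g = 0 := by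
  unfold dadeIsometry
  rw [dif_neg h]

theorem dadeIsometry_apply (hD : DadeHypothesis A L H) (α : L → ℂ) (hα : IsClassFunction L α)
    {g : G} {a : L} (haA : (a : G) ∈ A) {x u : G} (hu : u ∈ H (a : G))
    (hx : x * g * x⁻¹ = (a : G) * u) : dadeIsometry A L H α g = α a := by
  have hex : ∃ a : ↥L, (a : G) ∈ A ∧ ∃ x : G, ∃ u ∈ H (a : G), x * g * x⁻¹ = (a : G) * u :=
    ⟨a, haA, x, u, hu, hx⟩
  unfold dadeIsometry
  rw [dif_pos hex]
  obtain ⟨ha'A, x', u', hu', hx'⟩ := Classical.choose_spec hex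
  set a' := Classical.choose hex with ha'def
  have hconj : (x' * x⁻¹) * ((a : G) * u) * (x' * x⁻¹)⁻¹ = (a' : G) * u' := by
    rw [← hx, ← hx']; group
  have h1 := conj_eq hD haA ha'A hu hu' hconj
  obtain ⟨y, hy, hye⟩ := hD.fusion (a : G) haA (x' * x⁻¹) (by rw [h1]; exact ha'A)
  have h2 : a' = (⟨y, hy⟩ : L) * a * (⟨y, hy⟩ : L)⁻¹ := by
    apply Subtype.ext
    rw [Subgroup.coe_mul, Subgroup.coe_mul, Subgroup.coe_inv]
    show (a' : G) = y * a * y⁻¹
    rw [hye, h1]
  rw [h2]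
  exact hα a ⟨y, hy⟩

theorem dadeIsometry_isClassFunction (hD : DadeHypothesis A L H) (α : L → ℂ)
    (hα : IsClassFunction L α) : IsClassFunction G (dadeIsometry A L H α) := by
  intro g h
  by_cases hex : ∃ a : ↥L, (a : G) ∈ A ∧ ∃ x : G, ∃ u ∈ H (a : G), x * g * x⁻¹ = (a : G) * u
  · obtain ⟨a, haA, x, u, hu, hx⟩ := hex
    rw [dadeIsometry_apply hD α hα haA hu hx]
    apply dadeIsometry_apply hD α hα haA hu (x := x * h⁻¹)
    rw [← hx]; group
  · rw [dadeIsometry_of_not α hex]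
    apply dadeIsometry_of_not
    rintro ⟨a, haA, x, u, hu, hx⟩
    apply hex
    refine ⟨a, haA, x * h, u, hu, ?_⟩
    rw [← hx]; group

open scoped ComplexConjugate in
open Classical in
/-- The adjoint formula for the Dade map. -/
theorem dade_adjoint [Fintype L] (hD : DadeHypothesis A L H) (α : L → ℂ)
    (hα : IsClassFunction L α) (hαA : ∀ x : L, (x : G) ∉ A → α x = 0)
    (χ : G → ℂ) (ψ : L → ℂ) (hχ : IsClassFunction G χ)
    (hψ : ∀ a : L, (a : G) ∈ A →
      ψ a = (Nat.card (H a) : ℂ)⁻¹ * ∑ᶠ u ∈ (H a : Set G), χ (a * u)) :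
    classInner (dadeIsometry A L H α) χ = classInner α ψ := by
  set F : G → ℂ := fun g => dadeIsometry A L H α g * conj (χ g) with hF
  have hτc := dadeIsometry_isClassFunction hD α hα
  have hFc : ∀ x g : G, F (x * g * x⁻¹) = F g := by
    intro x g
    simp only [hF]
    rw [hτc g x, hχ g x]
  have hF0 : ∀ g : G, (¬ ∃ a ∈ A, ∃ u ∈ H a, ∃ x : G, x * g * x⁻¹ = a * u) → F g = 0 := by
    intro g hg
    simp only [hF]
    rw [dadeIsometry_of_not, zero_mul]
    rintro ⟨a, haA, x, u, hu, hx⟩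
    exact hg ⟨a, haA, u, hu, x, hx⟩
  have hsum := dade_sum (𝕜 := ℂ) hD F hFc hF0
  have hrhs : ∑ a : G, (if a ∈ A then
        ((Nat.card (H a) : ℂ))⁻¹ * ∑ u : G, (if u ∈ H a then F (a * u) else 0) else 0) =
      ∑ a : L, α a * conj (ψ a) := by
    have h1 : ∀ a : G, (if a ∈ L then (if a ∈ A then
        ((Nat.card (H a) : ℂ))⁻¹ * ∑ u : G, (if u ∈ H a then F (a * u) else 0) else 0) else 0) =
        (if a ∈ A then
        ((Nat.card (H a) : ℂ))⁻¹ * ∑ u : G, (if u ∈ H a then F (a * u) else 0) else 0) := by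
      intro a
      by_cases ha : a ∈ L
      · rw [if_pos ha]
      · rw [if_neg ha, if_neg (fun h => ha (hD.subset h))]
    rw [← Finset.sum_congr rfl (fun a _ => h1 a)]
    rw [← sum_subgroup_eq L (fun a => if a ∈ A then
        ((Nat.card (H a) : ℂ))⁻¹ * ∑ u : G, (if u ∈ H a then F (a * u) else 0) else 0)]
    apply Finset.sum_congr rfl
    intro a _
    by_cases haA : (a : G) ∈ A
    · rw [if_pos haA, hψ a haA, finsum_mem_subgroup, map_mul, map_sum, Finset.mul_sum,
        Finset.mul_sum, Finset.mul_sum]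
      apply Finset.sum_congr rfl
      intro u _
      by_cases hu : u ∈ H (a : G)
      · rw [if_pos hu, if_pos hu]
        simp only [hF]
        rw [dadeIsometry_apply hD α hα haA hu (x := 1) (by group)]
        rw [map_inv₀, Complex.conj_natCast]
        ring
      · rw [if_neg hu, if_neg hu]
        simp
    · rw [if_neg haA, hαA a haA, zero_mul]
  rw [hrhs] at hsum
  unfold classInner
  have hL : (Nat.card L : ℂ) ≠ 0 := by exact_mod_cast (Nat.card_pos (α := L)).ne'
  have hG : (Nat.card G : ℂ) ≠ 0 := by exact_mod_cast (Nat.card_pos (α := G)).ne'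
  have hsum' : (Nat.card L : ℂ) * ∑ g : G, dadeIsometry A L H α g * conj (χ g) =
      (Nat.card G : ℂ) * ∑ a : L, α a * conj (ψ a) := hsum
  field_simp
  rw [mul_comm, hsum']

open Classical in
theorem sum_ite_mem_const (K : Subgroup G) (c : ℂ) :
    ∑ u : G, (if u ∈ K then c else 0) = (Nat.card K : ℂ) * c := by
  rw [← sum_mem_subgroup K, Nat.cast_sum, Finset.sum_mul]
  apply Finset.sum_congr rfl
  intro u _
  by_cases hu : u ∈ K
  · simp [hu]
  · simp [hu]

open Classical in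
/-- The Dade map is an isometry. -/
theorem dade_isometry [Fintype L] (hD : DadeHypothesis A L H) (α β : L → ℂ)
    (hα : IsClassFunction L α) (hαA : ∀ x : L, (x : G) ∉ A → α x = 0)
    (hβ : IsClassFunction L β) :
    classInner (dadeIsometry A L H α) (dadeIsometry A L H β) = classInner α β := by
  apply dade_adjoint hD α hα hαA _ β (dadeIsometry_isClassFunction hD β hβ)
  intro a haA
  rw [finsum_mem_subgroup]
  have h1 : ∑ u : G, (if u ∈ H (a : G) then dadeIsometry A L H β ((a : G) * u) else 0) =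
      ∑ u : G, (if u ∈ H (a : G) then β a else 0) := by
    apply Finset.sum_congr rfl
    intro u _
    by_cases hu : u ∈ H (a : G)
    · rw [if_pos hu, if_pos hu]
      exact dadeIsometry_apply hD β hβ haA hu (x := 1) (by group)
    · rw [if_neg hu, if_neg hu]
  rw [h1, sum_ite_mem_const]
  have hne : (Nat.card (H (a : G)) : ℂ) ≠ 0 := by
    exact_mod_cast (Nat.card_pos (α := H (a : G))).ne'
  field_simp

end Isometry

end Cfsg.Agent.Lib.Helper2_Dade
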