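import Mathlib

set_option autoImplicit false

namespace Cfsg.Agent.Lib.Helper2_Coprime

/-- If `a k a⁻¹ = k` and `a h a⁻¹ = k h`, then `a^j h a^{-j} = k^j h`. -/
lemma conj_pow_of_stable {G : Type*} [Group G] (a h k : G) (hk : a * k * a⁻¹ = k)
    (hh : a * h * a⁻¹ = k * h) (j : ℕ) : a ^ j * h * (a ^ j)⁻¹ = k ^ j * h := by
  induction j with
  | zero => simp
  | succ j ih =>
    have hkj : a * k ^ j * a⁻¹ = k ^ j := by
      rw [← conj_pow, hk]
    calc a ^ (j + 1) * h * (a ^ (j + 1))⁻¹ = a * (a ^ j * h * (a ^ j)⁻¹) * a⁻¹ := by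
          rw [pow_succ']; group
      _ = a * (k ^ j * h) * a⁻¹ := by rw [ih]
      _ = (a * k ^ j * a⁻¹) * (a * h * a⁻¹) := by group
      _ = k ^ j * (k * h) := by rw [hkj, hh]
      _ = k ^ (j + 1) * h := by rw [pow_succ]; group

/-- One step of the stability argument: if `a` centralizes `k := a h a⁻¹ h⁻¹`, and `k` lies in a subgroup
`H` with `orderOf a` coprime to `|H|`, then `a` centralizes `h`. -/
lemma conj_eq_of_stable_step {G : Type*} [Group G] (H : Subgroup G) (a h : G)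
    (hkH : a * h * a⁻¹ * h⁻¹ ∈ H)
    (hk : a * (a * h * a⁻¹ * h⁻¹) * a⁻¹ = a * h * a⁻¹ * h⁻¹)
    (hcop : (orderOf a).Coprime (Nat.card H)) : a * h * a⁻¹ = h := by
  set k := a * h * a⁻¹ * h⁻¹ with hkdef
  have hh : a * h * a⁻¹ = k * h := by rw [hkdef]; group
  have h1 := conj_pow_of_stable a h k hk hh (orderOf a)
  rw [pow_orderOf_eq_one] at h1
  have h2 : k ^ orderOf a = 1 := by
    have : h = k ^ orderOf a * h := by simpa using h1
    have h3 : k ^ orderOf a * h = 1 * h := by rw [one_mul]; exact this.symm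
    exact mul_right_cancel h3
  have hd1 : orderOf k ∣ orderOf a := orderOf_dvd_of_pow_eq_one h2
  have hd2 : orderOf k ∣ Nat.card H := Subgroup.orderOf_dvd_natCard H hkH
  have h4 : orderOf k = 1 := Nat.eq_one_of_dvd_coprimes hcop hd1 hd2
  rw [orderOf_eq_one_iff] at h4
  rw [hh, h4, one_mul]

/-- Stability: an element `a` of order coprime to `|H|` stabilizing a chain
`H = c 0 ≥ c 1 ≥ ⋯ ≥ c n = 1` (i.e. `a h a⁻¹ h⁻¹ ∈ c (i+1)` for `h ∈ c i`) centralizes `H`. -/
theorem centralizes_of_stable_chain {G : Type*} [Group G] (H : Subgroup G) (n : ℕ)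
    (c : Fin (n + 1) → Subgroup G) (hcn : c (Fin.last n) = ⊥) (hle : ∀ i, c i ≤ H) (a : G)
    (ha : ∀ i : Fin n, ∀ h ∈ c i.castSucc, a * h * a⁻¹ * h⁻¹ ∈ c i.succ)
    (hcop : (orderOf a).Coprime (Nat.card H)) : ∀ i, ∀ h ∈ c i, a * h * a⁻¹ = h := by
  intro i
  induction i using Fin.reverseInduction with
  | last =>
    intro h hh
    rw [hcn, Subgroup.mem_bot] at hh
    rw [hh]; group
  | cast i ih =>
    intro h hh
    have hk := ha i h hh
    apply conj_eq_of_stable_step H a h (hle _ hk) (ih _ hk) hcop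

end Cfsg.Agent.Lib.Helper2_Coprime
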