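import Mathlib
import Cfsg.Agent.Lib.Helper2_Coprime

set_option autoImplicit false

/-!
# The `p`-part / `p'`-part decomposition of a finite nilpotent group
-/

namespace Cfsg.Agent.Lib.Helper2_NilDecomp

open Cfsg.Agent.Lib.Helper2_Coprime

/-- In a finite nilpotent group, a `p`-regular element commutes with the Sylow `p`-subgroup. -/
theorem commute_sylow_of_regular {E : Type*} [Group E] [Finite E] [hnil : Group.IsNilpotent E]
    (p : ℕ) [hp : Fact p.Prime] (P : Sylow p E) (y : E) (hy : ¬ p ∣ orderOf y) :
    ∀ u ∈ (P : Subgroup E), y * u * y⁻¹ = u := by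
  haveI hPn : (P : Subgroup E).Normal := inferInstance
  obtain ⟨n, hn⟩ := Subgroup.nilpotent_iff_lowerCentralSeries.mp hnil
  obtain ⟨j, hj⟩ := IsPGroup.iff_card.mp P.2
  have hcop : (orderOf y).Coprime (Nat.card (P : Subgroup E)) := by
    rw [hj]
    exact Nat.Coprime.pow_right j ((Nat.Prime.coprime_iff_not_dvd hp.out).mpr hy).symm
  have key := centralizes_of_stable_chain (P : Subgroup E) n
    (fun i => (P : Subgroup E) ⊓ Subgroup.lowerCentralSeries (⊤ : Subgroup E) i)
    (by simp only [Fin.val_last, hn, inf_bot_eq])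
    (fun i => inf_le_left) y
    (by
      intro i h hh
      refine Subgroup.mem_inf.mpr ⟨?_, ?_⟩
      · exact (P : Subgroup E).mul_mem (hPn.conj_mem h (Subgroup.mem_inf.mp hh).1 y)
          ((P : Subgroup E).inv_mem (Subgroup.mem_inf.mp hh).1)
      · simp only [Fin.val_succ, Subgroup.lowerCentralSeries_succ]
        rw [Subgroup.commutator_comm, ← commutatorElement_def]
        exact Subgroup.commutator_mem_commutator (Subgroup.mem_top y)
          (by simpa using (Subgroup.mem_inf.mp hh).2))
    hcop 0
  intro u hu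
  apply key u
  simp only [Fin.val_zero, Subgroup.lowerCentralSeries_zero, inf_top_eq]
  exact hu

/-- The decomposition of a finite nilpotent group into its Sylow `p`-subgroup and the subgroup
of `p`-regular elements. -/
theorem nilpotent_p_decomp {E : Type*} [Group E] [Finite E] [hnil : Group.IsNilpotent E]
    (p : ℕ) [hp : Fact p.Prime] :
    ∃ (P : Sylow p E) (Q : Subgroup E), Nat.card (P : Subgroup E) * Nat.card Q = Nat.card E ∧
      ¬ p ∣ Nat.card Q ∧ (∀ y : E, y ∈ Q ↔ ¬ p ∣ orderOf y) ∧
      (∀ u ∈ (P : Subgroup E), ∀ y ∈ Q, u * y = y * u) := by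
  obtain P : Sylow p E := default
  haveI hPn : (P : Subgroup E).Normal := inferInstance
  obtain ⟨Q, hQ⟩ := Subgroup.exists_right_complement'_of_coprime P.card_coprime_index
  have hcard := hQ.card_mul_card
  obtain ⟨j, hj⟩ := IsPGroup.iff_card.mp P.2
  have hQp : ¬ p ∣ Nat.card Q := by
    have h1 : (P : Subgroup E).index = Nat.card Q := by
      have h2 := Subgroup.card_mul_index (P : Subgroup E)
      rw [← hcard] at h2
      exact Nat.eq_of_mul_eq_mul_left Nat.card_pos h2
    rw [← h1]; exact P.not_dvd_index
  have hmem : ∀ y : E, y ∈ Q ↔ ¬ p ∣ orderOf y := by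
    intro y
    constructor
    · intro hy hdvd
      apply hQp
      have : orderOf y ∣ Nat.card Q := by
        have h1 : orderOf (⟨y, hy⟩ : Q) ∣ Nat.card Q := orderOf_dvd_natCard _
        rwa [← Subgroup.orderOf_coe] at h1
      exact dvd_trans hdvd this
    · intro hy
      obtain ⟨⟨u, q⟩, huq, -⟩ := hQ.existsUnique y
      simp only at huq
      have hqreg : ¬ p ∣ orderOf (q : E) := by
        intro hdvd
        apply hQp
        have : orderOf (q : E) ∣ Nat.card Q := by
          rw [Subgroup.orderOf_coe]; exact orderOf_dvd_natCard _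
        exact dvd_trans hdvd this
      have hcomm : Commute (u : E) (q : E) := by
        have := commute_sylow_of_regular p P (q : E) hqreg (u : E) u.2
        exact (mul_inv_eq_iff_eq_mul.mp this).symm
      set m := Nat.card Q with hm
      have hqm : (q : E) ^ m = 1 := by
        have : (q : Q) ^ Nat.card Q = 1 := pow_card_eq_one'
        have h2 := congrArg Subtype.val this
        rwa [SubmonoidClass.coe_pow] at h2
      have hym : y ^ m = 1 := by
        have h1 : orderOf y ∣ Nat.card E := orderOf_dvd_natCard y
        rw [← hcard, hj] at h1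
        have h2 : (orderOf y).Coprime (p ^ j) :=
          Nat.Coprime.pow_right j ((Nat.Prime.coprime_iff_not_dvd hp.out).mpr hy).symm
        exact orderOf_dvd_iff_pow_eq_one.mp (h2.dvd_of_dvd_mul_left h1)
      have hum : (u : E) ^ m = 1 := by
        have h1 := hcomm.mul_pow m
        rw [huq, hym, hqm, mul_one] at h1
        exact h1.symm
      have hu1 : (u : E) = 1 := by
        have h1 : orderOf (u : E) ∣ m := orderOf_dvd_of_pow_eq_one hum
        have h2 : orderOf (u : E) ∣ p ^ j := by
          rw [← hj, Subgroup.orderOf_coe]; exact orderOf_dvd_natCard _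
        have h3 : (p ^ j).Coprime m :=
          Nat.Coprime.pow_left j ((Nat.Prime.coprime_iff_not_dvd hp.out).mpr hQp)
        have h4 : orderOf (u : E) ∣ 1 := by
          rw [← h3.gcd_eq_one]; exact Nat.dvd_gcd h2 h1
        exact orderOf_eq_one_iff.mp (Nat.dvd_one.mp h4)
      rw [← huq, hu1, one_mul]
      exact q.2
  refine ⟨P, Q, hcard, hQp, hmem, ?_⟩
  intro u hu y hy
  have := commute_sylow_of_regular p P y ((hmem y).mp hy) u hu
  exact (mul_inv_eq_iff_eq_mul.mp this).symm

end Cfsg.Agent.Lib.Helper2_NilDecomp
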