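import Mathlib
import Cfsg.Prelude.Def_Characters
import Cfsg.Agent.Lib.Helper2_ClassFn
import Cfsg.Agent.Lib.Helper2_CharBasic
import Cfsg.Agent.Lib.Helper2_CharOrtho
import Cfsg.Agent.Lib.Helper2_CharMore
import Cfsg.Agent.Lib.Helper2_CharValues
import Cfsg.Agent.Lib.Helper2_CharComplete
import Cfsg.Agent.Lib.Helper2_CharTable
import Cfsg.Agent.Lib.Helper2_CharSum
import Cfsg.Agent.Lib.Helper2_CharCentral
import Cfsg.Agent.Lib.Helper2_CharKernel
import Cfsg.Agent.Lib.Helper2_CharGalois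
import Cfsg.Agent.Lib.Helper2_CharInt
import Cfsg.Agent.S0154

set_option autoImplicit false

/-!
# Burnside's lemmas on characters: coprime degree and class size; prime power classes
-/

namespace Cfsg.Agent.Lib.Helper2_CharBurnside

open Cfsg
open Cfsg.Agent.Lib.Helper2_ClassFn
open Cfsg.Agent.Lib.Helper2_CharBasic
open Cfsg.Agent.Lib.Helper2_CharOrtho
open Cfsg.Agent.Lib.Helper2_CharMore
open Cfsg.Agent.Lib.Helper2_CharValues
open Cfsg.Agent.Lib.Helper2_CharComplete
open Cfsg.Agent.Lib.Helper2_CharTable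
open Cfsg.Agent.Lib.Helper2_CharSum
open Cfsg.Agent.Lib.Helper2_CharCentral
open Cfsg.Agent.Lib.Helper2_CharKernel
open Cfsg.Agent.Lib.Helper2_CharGalois
open Cfsg.Agent.Lib.Helper2_CharInt
open scoped ComplexConjugate
open Polynomial

theorem powSum_one (l : List ℕ) : powSum l 1 = l.length := by
  unfold powSum
  induction l with
  | nil => simp
  | cons a l ih =>
    rw [List.map_cons, List.sum_cons, ih, List.length_cons]
    push_cast
    ring

theorem norm_powSum_le (l : List ℕ) (μ : ℂ) (hμ : ‖μ‖ = 1) : ‖powSum l μ‖ ≤ l.length := by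
  unfold powSum
  induction l with
  | nil => simp
  | cons a l ih =>
    rw [List.map_cons, List.sum_cons, List.length_cons]
    push_cast
    calc ‖μ ^ a + (l.map (fun a => μ ^ a)).sum‖ ≤ ‖μ ^ a‖ + ‖(l.map (fun a => μ ^ a)).sum‖ :=
          norm_add_le _ _
      _ ≤ 1 + l.length := by
          rw [norm_pow, hμ, one_pow]; linarith
      _ = l.length + 1 := by ring

theorem eq_one_of_one_le_prod {ι : Type*} (s : Finset ι) (z : ι → ℝ)
    (hz : ∀ i ∈ s, 0 ≤ z i) (hz1 : ∀ i ∈ s, z i ≤ 1) (hprod : 1 ≤ ∏ i ∈ s, z i) :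
    ∀ j ∈ s, z j = 1 := by
  classical
  intro j hj
  apply le_antisymm (hz1 j hj)
  rw [← Finset.mul_prod_erase s z hj] at hprod
  have h1 : ∏ i ∈ s.erase j, z i ≤ 1 :=
    Finset.prod_le_one (fun i hi => hz i (Finset.mem_of_mem_erase hi))
      (fun i hi => hz1 i (Finset.mem_of_mem_erase hi))
  have h0 : 0 ≤ ∏ i ∈ s.erase j, z i :=
    Finset.prod_nonneg (fun i hi => hz i (Finset.mem_of_mem_erase hi))
  nlinarith [hz j hj]

/-- If a sum of `n` roots of unity divided by `n` is an algebraic integer, then the sum is zero or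
has absolute value `n`. -/
theorem norm_powSum_eq_of_isIntegral (N : ℕ) (hN : 0 < N) (l : List ℕ) (μ₀ : ℂ)
    (hμ₀ : μ₀ ∈ primitiveRoots N ℂ) (hint : IsIntegral ℤ (powSum l μ₀ / l.length)) :
    powSum l μ₀ = 0 ∨ ‖powSum l μ₀‖ = l.length := by
  have : NeZero N := ⟨hN.ne'⟩
  have : IsCyclotomicExtension {N} ℚ (CyclotomicField N ℚ) :=
    CyclotomicField.isCyclotomicExtension N ℚ
  have : FiniteDimensional ℚ (CyclotomicField N ℚ) :=
    IsCyclotomicExtension.finiteDimensional {N} ℚ (CyclotomicField N ℚ)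
  obtain ⟨e, β, -, hσβ⟩ := exists_cyclotomic_elt N hN l
  rcases Nat.eq_zero_or_pos l.length with h0 | hpos
  · left
    rw [List.length_eq_zero_iff] at h0
    rw [h0]
    rfl
  set n : ℕ := l.length with hn
  have hn0 : (n : ℂ) ≠ 0 := by exact_mod_cast hpos.ne'
  set γ : CyclotomicField N ℚ := β * ((n : CyclotomicField N ℚ))⁻¹ with hγ
  have hσγ : ∀ σ : CyclotomicField N ℚ →ₐ[ℚ] ℂ, σ γ = powSum l (e σ : ℂ) / n := by
    intro σ
    rw [hγ, map_mul, map_inv₀, map_natCast, hσβ, div_eq_mul_inv]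
  set σ₀ := e.symm ⟨μ₀, hμ₀⟩ with hσ₀
  have hγint : IsIntegral ℤ γ := by
    have h1 : IsIntegral ℤ (σ₀ γ) := by
      rw [hσγ, Equiv.apply_symm_apply]; exact hint
    exact (isIntegral_algHom_iff (σ₀.restrictScalars ℤ) σ₀.toRingHom.injective).mp h1
  have hnorm := Algebra.norm_eq_prod_embeddings ℚ ℂ γ
  have hnint : IsIntegral ℤ (Algebra.norm ℚ γ) := Algebra.isIntegral_norm ℚ hγint
  obtain ⟨z, hz⟩ := IsIntegrallyClosed.isIntegral_iff.mp hnint
  have hprod : ∏ σ : CyclotomicField N ℚ →ₐ[ℚ] ℂ, σ γ = (z : ℂ) := by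
    rw [← hnorm, ← hz]; simp
  by_cases hz0 : z = 0
  · left
    rw [hz0, Int.cast_zero, Finset.prod_eq_zero_iff] at hprod
    obtain ⟨σ, -, hσ⟩ := hprod
    have hγ0 : γ = 0 := (map_eq_zero_iff _ σ.toRingHom.injective).mp hσ
    have h2 := hσγ σ₀
    rw [hγ0, map_zero, Equiv.apply_symm_apply] at h2
    have h3 := h2.symm
    rw [div_eq_zero_iff] at h3
    rcases h3 with h3 | h3
    · exact h3
    · exact absurd h3 hn0
  · right
    have h1 : (1 : ℝ) ≤ ∏ σ : CyclotomicField N ℚ →ₐ[ℚ] ℂ, ‖σ γ‖ := by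
      rw [← norm_prod, hprod, Complex.norm_intCast]
      exact_mod_cast Int.one_le_abs hz0
    have hle : ∀ σ ∈ (Finset.univ : Finset (CyclotomicField N ℚ →ₐ[ℚ] ℂ)), ‖σ γ‖ ≤ 1 := by
      intro σ _
      rw [hσγ, norm_div, Complex.norm_natCast]
      rw [div_le_one (by exact_mod_cast hpos)]
      apply norm_powSum_le
      have hp := (mem_primitiveRoots hN).mp (e σ).2
      exact norm_eq_one_of_pow_eq_one hN hp.pow_eq_one
    have h2 := eq_one_of_one_le_prod Finset.univ (fun σ => ‖σ γ‖) (fun σ _ => norm_nonneg _)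
      hle h1 σ₀ (Finset.mem_univ _)
    rw [hσγ, Equiv.apply_symm_apply, norm_div, Complex.norm_natCast] at h2
    rwa [div_eq_one_iff_eq (by exact_mod_cast hpos.ne')] at h2

section Burnside

variable {G : Type*} [Group G]

/-- If `χ(g)/χ(1)` is an algebraic integer, then `χ(g) = 0` or `|χ(g)| = χ(1)`. -/
theorem IsCharacter.eq_zero_or_norm_eq [Finite G] {χ : G → ℂ} (hχ : IsCharacter G χ) (g : G)
    (n : ℕ) (hn : χ 1 = n) (hint : IsIntegral ℤ (χ g / n)) : χ g = 0 ∨ ‖χ g‖ = n := by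
  have hN : 0 < orderOf g := orderOf_pos g
  obtain ⟨l, hl⟩ := char_pow_list hχ g (orderOf g) hN (pow_orderOf_eq_one g)
  have h0 := hl 0
  rw [pow_zero, pow_zero, powSum_one, hn] at h0
  have hnl : n = l.length := by exact_mod_cast h0
  have h1 := hl 1
  rw [pow_one, pow_one] at h1
  have hprim : IsPrimitiveRoot (Complex.exp (2 * Real.pi * Complex.I / (orderOf g : ℕ)))
      (orderOf g) := Complex.isPrimitiveRoot_exp _ hN.ne'
  have := norm_powSum_eq_of_isIntegral (orderOf g) hN l _ ((mem_primitiveRoots hN).mpr hprim)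
    (by rw [← h1, ← hnl]; exact hint)
  rw [← h1, ← hnl] at this
  exact this

/-- **Burnside**: if the degree of an irreducible character is coprime to a class size, the value
there is zero or of maximal absolute value. -/
theorem burnside_coprime [Fintype G] [DecidableEq G] {χ : G → ℂ} (hχ : IsIrrCharacter G χ)
    (g : G) (n : ℕ) (hn : χ 1 = n)
    (hcop : Nat.Coprime n (Finset.univ.filter (fun x : G => IsConj x g)).card) :
    χ g = 0 ∨ ‖χ g‖ = n := by
  apply IsCharacter.eq_zero_or_norm_eq (IsIrrCharacter.isCharacter hχ) g n hn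
  have hω := isIntegral_omega hχ g
  set c := (Finset.univ.filter (fun x : G => IsConj x g)).card with hc
  have hn0 : (n : ℂ) ≠ 0 := by rw [← hn]; exact IsIrrCharacter.apply_one_ne_zero hχ
  have hb := Int.gcd_eq_gcd_ab (n : ℤ) (c : ℤ)
  have hg1 : Int.gcd (n : ℤ) (c : ℤ) = 1 := by
    rw [Int.gcd_natCast_natCast]; exact hcop
  rw [hg1] at hb
  set u := Int.gcdA (n : ℤ) (c : ℤ)
  set v := Int.gcdB (n : ℤ) (c : ℤ)
  have hb' : (1 : ℂ) = n * u + c * v := by exact_mod_cast hb
  have key : χ g / n = (u : ℂ) * χ g + (v : ℂ) * ((c : ℂ) * χ g / χ 1) := by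
    rw [hn]
    have h3 : (u : ℂ) * χ g + (v : ℂ) * ((c : ℂ) * χ g / n)
        = ((n : ℂ) * u + c * v) * (χ g / n) := by
      field_simp
    rw [h3, ← hb', one_mul]
  rw [key]
  apply IsIntegral.add
  · exact IsIntegral.mul isIntegral_algebraMap
      (IsCharacter.isIntegral (IsIrrCharacter.isCharacter hχ) g)
  · exact IsIntegral.mul isIntegral_algebraMap hω

/-- The kernel of a character is a normal subgroup. -/
theorem exists_ker [Finite G] {χ : G → ℂ} (hχ : IsCharacter G χ) :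
    ∃ K : Subgroup G, K.Normal ∧ ∀ x, x ∈ K ↔ χ x = χ 1 := by
  obtain ⟨n, ρ, rfl⟩ := hχ
  refine ⟨MonoidHom.ker ρ, MonoidHom.normal_ker ρ, fun x => ?_⟩
  rw [MonoidHom.mem_ker]
  constructor
  · intro h
    show LinearMap.trace ℂ _ (ρ x) = LinearMap.trace ℂ _ (ρ 1)
    rw [h, map_one ρ]
  · intro h
    exact rep_eq_one_of_char_eq ρ x h


/-- In a non-abelian simple group, a nontrivial irreducible character never attains
`|χ(g)| = χ(1)` off the identity. -/
theorem norm_ne_of_simple [Fintype G] [IsSimpleGroup G] (hnc : ¬ ∀ a b : G, a * b = b * a)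
    {χ : G → ℂ} (hχ : IsIrrCharacter G χ) (hχ1 : χ ≠ fun _ => 1) (g : G) (hg : g ≠ 1) :
    ‖χ g‖ ≠ ‖χ 1‖ := by
  intro heq
  have hχc := IsIrrCharacter.isCharacter hχ
  have hψ : IsCharacter G (χ * fun x => conj (χ x)) :=
    IsCharacter.mul hχc (IsCharacter.conj hχc)
  have hψv : ∀ x, (χ * fun x => conj (χ x)) x = ((‖χ x‖ ^ 2 : ℝ) : ℂ) := by
    intro x
    rw [Pi.mul_apply, Complex.mul_conj, Complex.normSq_eq_norm_sq]
  obtain ⟨K, hKn, hK⟩ := exists_ker hψ
  have hgK : g ∈ K := by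
    rw [hK, hψv, hψv, heq]
  have hKtop : K = ⊤ := by
    rcases hKn.eq_bot_or_eq_top with h | h
    · rw [h, Subgroup.mem_bot] at hgK
      exact absurd hgK hg
    · exact h
  have hall : ∀ d ∈ (⊤ : Subgroup G), ‖χ d‖ = ‖χ 1‖ := by
    intro d _
    have hd : d ∈ K := by rw [hKtop]; trivial
    rw [hK, hψv, hψv] at hd
    have hd' : ‖χ d‖ ^ 2 = ‖χ 1‖ ^ 2 := by exact_mod_cast hd
    exact (sq_eq_sq₀ (norm_nonneg _) (norm_nonneg _)).mp hd'
  have hle := sq_mul_card_le hχ ⊤ hall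
  rw [Subgroup.card_top] at hle
  have hGpos : (0 : ℝ) < Nat.card G := by exact_mod_cast Nat.card_pos
  have hle1 : ‖χ 1‖ ^ 2 ≤ 1 := by
    by_contra hcon
    push Not at hcon
    nlinarith
  obtain ⟨n, hn0, hn⟩ := IsIrrCharacter.apply_one hχ
  rw [hn, Complex.norm_natCast] at hle1
  have hn1 : n = 1 := by
    have h1 : (n : ℝ) ≤ 1 := by
      by_contra hcon
      push Not at hcon
      nlinarith
    have h2 : n ≤ 1 := by exact_mod_cast h1
    omega
  rw [hn1, Nat.cast_one] at hn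
  obtain ⟨ω, hω⟩ := Cfsg.Agent.S0154.exists_hom_of_degree_one χ hχ hn
  rcases (MonoidHom.normal_ker ω).eq_bot_or_eq_top with h | h
  · apply hnc
    intro a b
    have hinj : Function.Injective ω := (MonoidHom.ker_eq_bot_iff ω).mp h
    apply hinj
    rw [map_mul, map_mul, mul_comm]
  · apply hχ1
    rw [hω]
    ext x
    have hx : x ∈ MonoidHom.ker ω := by rw [h]; trivial
    rw [MonoidHom.mem_ker] at hx
    rw [hx]
    rfl

theorem not_isIntegral_inv_prime (p : ℕ) (hp : p.Prime) : ¬ IsIntegral ℤ (-(1 : ℂ) / p) := by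
  intro hint
  have hq : (-(1 : ℂ) / p) = (((-1 : ℚ) / p : ℚ) : ℂ) := by push_cast; rfl
  rw [hq] at hint
  have hint' : IsIntegral ℤ ((-1 : ℚ) / p) := by
    have := (isIntegral_algebraMap_iff (algebraMap ℚ ℂ).injective (R := ℤ)
      (x := ((-1 : ℚ) / p))).mp
    apply this
    simpa using hint
  obtain ⟨z, hz⟩ := IsIntegrallyClosed.isIntegral_iff.mp hint'
  have hp0 : (p : ℚ) ≠ 0 := by exact_mod_cast hp.ne_zero
  have hz' : (-1 : ℚ) = z * p := by
    rw [eq_div_iff hp0] at hz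
    simpa using hz.symm
  have hz'' : (-1 : ℤ) = z * p := by exact_mod_cast hz'
  have hdvd : (p : ℤ) ∣ 1 := ⟨-z, by linarith⟩
  have : p ∣ 1 := by exact_mod_cast hdvd
  exact hp.one_lt.ne' (Nat.dvd_one.mp this)

/-- **Burnside**: a non-abelian finite simple group has no nontrivial class of prime power size. -/
theorem burnside_class_prime_power [Fintype G] [DecidableEq G] [IsSimpleGroup G]
    (hnc : ¬ ∀ a b : G, a * b = b * a) (p k : ℕ) (hp : p.Prime) (g : G) (hg : g ≠ 1)
    (hclass : (Finset.univ.filter (fun x : G => IsConj x g)).card = p ^ k) : False := by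
  classical
  have hsum := sum_irr_mul_deg g
  rw [if_neg hg] at hsum
  have h1mem : (fun _ => (1 : ℂ)) ∈ irrFinset G := mem_irrFinset.mpr isIrrCharacter_one
  rw [← Finset.add_sum_erase _ _ h1mem] at hsum
  have hp0 : (p : ℂ) ≠ 0 := by exact_mod_cast hp.ne_zero
  have hint : ∀ χ ∈ (irrFinset G).erase (fun _ => (1 : ℂ)), IsIntegral ℤ (χ g * χ 1 / p) := by
    intro χ hχm
    have hχ : IsIrrCharacter G χ := mem_irrFinset.mp (Finset.mem_of_mem_erase hχm)
    have hχ1 : χ ≠ fun _ => 1 := Finset.ne_of_mem_erase hχm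
    obtain ⟨n, hn0, hn⟩ := IsIrrCharacter.apply_one hχ
    by_cases hpn : p ∣ n
    · obtain ⟨m, rfl⟩ := hpn
      have : χ g * χ 1 / p = χ g * m := by
        rw [hn]; push_cast; field_simp
      rw [this]
      exact IsIntegral.mul (IsCharacter.isIntegral (IsIrrCharacter.isCharacter hχ) g)
        isIntegral_algebraMap
    · have hcop : Nat.Coprime n (Finset.univ.filter (fun x : G => IsConj x g)).card := by
        rw [hclass]
        exact Nat.Coprime.pow_right k ((Nat.Prime.coprime_iff_not_dvd hp).mpr hpn).symm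
      rcases burnside_coprime hχ g n hn hcop with h0 | hnorm
      · rw [h0, zero_mul, zero_div]
        exact isIntegral_zero
      · exfalso
        apply norm_ne_of_simple hnc hχ hχ1 g hg
        rw [hnorm, hn, Complex.norm_natCast]
  have hsum2 : ∑ χ ∈ (irrFinset G).erase (fun _ => (1 : ℂ)), χ g * χ 1 / p = -(1 : ℂ) / p := by
    rw [← Finset.sum_div]
    congr 1
    have : (1 : ℂ) * 1 + ∑ χ ∈ (irrFinset G).erase (fun _ => (1 : ℂ)), χ g * χ 1 = 0 := hsum
    linear_combination this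
  apply not_isIntegral_inv_prime p hp
  rw [← hsum2]
  exact IsIntegral.sum _ hint

end Burnside

end Cfsg.Agent.Lib.Helper2_CharBurnside
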