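import Mathlib
import Cfsg.Prelude.Def_Characters
import Cfsg.Agent.Lib.Helper2_ClassFn
import Cfsg.Agent.Lib.Helper2_CharBasic
import Cfsg.Agent.Lib.Helper2_CharOrtho
import Cfsg.Agent.Lib.Helper2_Clifford
import Cfsg.Agent.Lib.Helper2_CharMore
import Cfsg.Agent.Lib.Helper2_CharComplete
import Cfsg.Agent.Lib.Helper2_CharInd
import Cfsg.Agent.Lib.Helper2_CharTable

set_option autoImplicit false

/-!
# Characters of Frobenius-like groups: induction from the kernel
-/

namespace Cfsg.Agent.Lib.Helper2_CharFrob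

open Cfsg
open Cfsg.Agent.Lib.Helper2_ClassFn
open Cfsg.Agent.Lib.Helper2_CharBasic
open Cfsg.Agent.Lib.Helper2_CharOrtho
open Cfsg.Agent.Lib.Helper2_Clifford
open Cfsg.Agent.Lib.Helper2_CharMore
open Cfsg.Agent.Lib.Helper2_CharComplete
open Cfsg.Agent.Lib.Helper2_CharInd
open Cfsg.Agent.Lib.Helper2_CharTable
open scoped ComplexConjugate ComplexOrder

universe u

variable {G : Type u} [Group G] [Fintype G]

/-- If an automorphism `σ` of `G` fixes (up to conjugacy) only the identity, then it fixes
exactly one irreducible character. -/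
theorem card_fixed_irr_eq_one (σ : G ≃* G) (hσ : ∀ g : G, IsConj (σ g) g → g = 1) :
    (Finset.filter (fun χ : G → ℂ => (fun x => χ (σ x)) = χ) (irrFinset G)).card = 1 := by
  classical
  have h := card_fixed_irr σ
  rw [Finset.sum_eq_single (1 : G)] at h
  · rw [map_one, if_pos (IsConj.refl 1)] at h
    have h1 : (Finset.univ.filter (fun x : G => IsConj x 1)).card = 1 := by
      rw [Finset.card_eq_one]
      refine ⟨1, ?_⟩
      ext x
      simp only [Finset.mem_filter, Finset.mem_univ, true_and, Finset.mem_singleton]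
      constructor
      · intro hx
        obtain ⟨c, hc⟩ := isConj_iff.mp hx
        have : x = c⁻¹ * 1 * c := by rw [← hc]; group
        simpa using this
      · rintro rfl; exact IsConj.refl 1
    rw [h1] at h
    have hG := card_ne_zero_complex (G := G)
    have : ((Finset.filter (fun χ : G → ℂ => (fun x => χ (σ x)) = χ) (irrFinset G)).card : ℂ)
        = 1 := by
      rw [h]; field_simp; norm_num
    exact_mod_cast this
  · intro g _ hg
    rw [if_neg]
    intro hc
    exact hg (hσ g hc)
  · intro h'; exact absurd (Finset.mem_univ _) h'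

omit [Fintype G] in
/-- In a "Frobenius" situation, elements outside `N` fix no nontrivial class of `N`. -/
theorem frobenius_no_fixed_class (N : Subgroup G) [hN : N.Normal]
    (hC : ∀ n ∈ N, n ≠ 1 → Subgroup.centralizer ({n} : Set G) ≤ N) (g : G) (hg : g ∉ N)
    (n : N) (hn : IsConj ((MulAut.conjNormal g : MulAut N) n) n) : n = 1 := by
  by_contra hne
  obtain ⟨c, hc⟩ := isConj_iff.mp hn
  have hc' : (c : G) * (g * (n : G) * g⁻¹) * (c : G)⁻¹ = (n : G) := by
    have := congrArg Subtype.val hc
    simpa using this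
  have hmem : (c : G) * g ∈ Subgroup.centralizer ({(n : G)} : Set G) := by
    rw [Subgroup.mem_centralizer_singleton_iff]
    have : (c : G) * g * (n : G) * ((c : G) * g)⁻¹ = (n : G) := by
      rw [mul_inv_rev]
      simpa [mul_assoc] using hc'
    calc (c : G) * g * (n : G) = ((c : G) * g * (n : G) * ((c : G) * g)⁻¹) * ((c : G) * g) := by
          group
      _ = (n : G) * ((c : G) * g) := by rw [this]
  have hn1 : (n : G) ≠ 1 := fun h => hne (Subtype.ext h)
  have := hC n n.2 hn1 hmem
  apply hg
  have h2 := N.mul_mem (N.inv_mem c.2) this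
  simpa using h2

/-- In a "Frobenius" situation, a nonprincipal irreducible character of `N` is moved by every
element outside `N`. -/
theorem frobenius_conjFn_ne (N : Subgroup G) [hN : N.Normal]
    (hC : ∀ n ∈ N, n ≠ 1 → Subgroup.centralizer ({n} : Set G) ≤ N) (φ : N → ℂ)
    (hφ : IsIrrCharacter N φ) (hφ1 : φ ≠ fun _ => 1) (g : G) (hg : g ∉ N) :
    conjFn N φ g ≠ φ := by
  classical
  intro hfix
  have h1 := card_fixed_irr_eq_one (MulAut.conjNormal g : N ≃* N)
    (fun n hn => frobenius_no_fixed_class N hC g hg n hn)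
  rw [Finset.card_eq_one] at h1
  obtain ⟨ψ, hψ⟩ := h1
  have hφmem : φ ∈ Finset.filter (fun χ : N → ℂ => (fun x => χ ((MulAut.conjNormal g : N ≃* N) x))
      = χ) (irrFinset N) := by
    rw [Finset.mem_filter]
    refine ⟨mem_irrFinset.mpr hφ, ?_⟩
    rw [← conjFn_eq_comp]; exact hfix
  have h1mem : (fun _ => (1 : ℂ)) ∈ Finset.filter
      (fun χ : N → ℂ => (fun x => χ ((MulAut.conjNormal g : N ≃* N) x)) = χ) (irrFinset N) := by
    rw [Finset.mem_filter]
    exact ⟨mem_irrFinset.mpr isIrrCharacter_one, rfl⟩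
  rw [hψ, Finset.mem_singleton] at hφmem h1mem
  exact hφ1 (hφmem.trans h1mem.symm)

/-- The inertia group of a nonprincipal irreducible character of a Frobenius kernel is the
kernel. -/
theorem frobenius_card_inertia (N : Subgroup G) [hN : N.Normal]
    (hC : ∀ n ∈ N, n ≠ 1 → Subgroup.centralizer ({n} : Set G) ≤ N) (φ : N → ℂ)
    (hφ : IsIrrCharacter N φ) (hφ1 : φ ≠ fun _ => 1) :
    Nat.card {g : G // ∀ h : N, φ ⟨g * h * g⁻¹, hN.conj_mem h h.2 g⟩ = φ h} = Nat.card N := by
  apply Nat.card_congr
  refine Equiv.subtypeEquivRight ?_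
  intro g
  constructor
  · intro h
    by_contra hg
    apply frobenius_conjFn_ne N hC φ hφ hφ1 g hg
    ext k; exact h k
  · intro hg k
    have hcf := IsCharacter.isClassFunction (IsIrrCharacter.isCharacter hφ)
    have := hcf k ⟨g, hg⟩
    rw [← this]
    congr 1

/-- Induction of a nonprincipal irreducible character from a Frobenius kernel is irreducible. -/
theorem frobenius_indFun_irr (N : Subgroup G) [hN : N.Normal]
    (hC : ∀ n ∈ N, n ≠ 1 → Subgroup.centralizer ({n} : Set G) ≤ N) (φ : N → ℂ)
    (hφ : IsIrrCharacter N φ) (hφ1 : φ ≠ fun _ => 1) : IsIrrCharacter G (indFun N φ) := by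
  classical
  apply IsCharacter.isIrr_of_norm_one (IsCharacter.indFun (IsIrrCharacter.isCharacter hφ))
  rw [frobenius_reciprocity N φ _ (indFun_isClassFunction N φ), indFun_restrict_normal N φ,
    frobenius_card_inertia N hC φ hφ hφ1, div_self (card_subgroup_ne_zero N), one_smul,
    setOf_conj_eq, finsum_mem_coe_finset, classInner_sum_right]
  rw [Finset.sum_eq_single φ]
  · exact classInner_irr_self hφ
  · intro ψ hψ hne
    obtain ⟨g, _, rfl⟩ := Finset.mem_image.mp hψ
    exact classInner_irr_of_ne hφ (IsIrrCharacter.conjFn hφ g) (Ne.symm hne)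
  · intro h
    exfalso
    apply h
    rw [Finset.mem_image]
    exact ⟨1, Finset.mem_univ _, conjFn_one N φ⟩

end Cfsg.Agent.Lib.Helper2_CharFrob
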