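import Mathlib
import Cfsg.Prelude.Def_Characters
import Cfsg.Agent.Lib.Helper2_ClassFn
import Cfsg.Agent.Lib.Helper2_CharBasic
import Cfsg.Agent.Lib.Helper2_CharOrtho
import Cfsg.Agent.Lib.Helper2_CharDeg
import Cfsg.Agent.Lib.Helper2_CharGalois

set_option autoImplicit false

/-!
# The AM–GM argument for characters with non-negative real values
-/

namespace Cfsg.Agent.Lib.Helper2_CharGalois2

open Cfsg
open Cfsg.Agent.Lib.Helper2_ClassFn
open Cfsg.Agent.Lib.Helper2_CharBasic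
open Cfsg.Agent.Lib.Helper2_CharOrtho
open Cfsg.Agent.Lib.Helper2_CharDeg
open Cfsg.Agent.Lib.Helper2_CharGalois

theorem sum_primitive_ge' (N : ℕ) (hN : 0 < N) (l : List ℕ)
    (hreal : ∀ μ ∈ primitiveRoots N ℂ, ∃ r : ℝ, 0 ≤ r ∧ powSum l μ = r)
    (hne : ∃ μ ∈ primitiveRoots N ℂ, powSum l μ ≠ 0) :
    ((primitiveRoots N ℂ).card : ℝ) ≤ ∑ μ ∈ primitiveRoots N ℂ, (powSum l μ).re := by
  obtain ⟨⟨z, hz⟩, hall⟩ := prod_primitive_int N hN l
  have hnz : ∀ μ ∈ primitiveRoots N ℂ, powSum l μ ≠ 0 := by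
    intro μ hμ h0
    obtain ⟨ν, hν, hν0⟩ := hne
    exact hν0 (hall ⟨μ, hμ, h0⟩ ν hν)
  have hre : ∀ μ ∈ primitiveRoots N ℂ, powSum l μ = (((powSum l μ).re : ℝ) : ℂ) := by
    intro μ hμ
    obtain ⟨r, -, hr⟩ := hreal μ hμ
    rw [hr]; simp
  have hre0 : ∀ μ ∈ primitiveRoots N ℂ, 0 ≤ (powSum l μ).re := by
    intro μ hμ
    obtain ⟨r, hr0, hr⟩ := hreal μ hμ
    rw [hr]; simpa using hr0
  apply card_le_sum_of_one_le_prod _ _ hre0
  have hprod : ((∏ μ ∈ primitiveRoots N ℂ, (powSum l μ).re : ℝ) : ℂ) = (z : ℂ) := by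
    rw [← hz]
    push_cast
    exact Finset.prod_congr rfl fun μ hμ => (hre μ hμ).symm
  have hprod' : ∏ μ ∈ primitiveRoots N ℂ, (powSum l μ).re = (z : ℝ) := by
    exact_mod_cast hprod
  rw [hprod']
  have hz0 : z ≠ 0 := by
    intro h0
    rw [h0] at hz
    simp only [Int.cast_zero] at hz
    obtain ⟨μ, hμ, h⟩ := Finset.prod_eq_zero_iff.mp hz
    exact hnz μ hμ h
  have hzpos : (0 : ℝ) ≤ (z : ℝ) := by
    rw [← hprod']
    exact Finset.prod_nonneg hre0
  have hzpos' : (0 : ℤ) ≤ z := by exact_mod_cast hzpos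
  have : (1 : ℤ) ≤ z := by omega
  exact_mod_cast this

section Chars

variable {G : Type*} [Group G] [Finite G]

/-- AM–GM for a character with non-negative real values. -/
theorem card_nonzero_le_sum_re [DecidableEq G] {χ : G → ℂ} (hχ : IsCharacter G χ)
    (hreal : ∀ g : G, ∃ r : ℝ, 0 ≤ r ∧ χ g = r) (S : Finset G)
    (hS : ∀ g ∈ S, ∀ k : ℕ, k.Coprime (Nat.card G) → g ^ k ∈ S) :
    ((S.filter (fun g => χ g ≠ 0)).card : ℝ) ≤ ∑ g ∈ S, (χ g).re := by
  classical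
  set N := Nat.card G with hNdef
  have hN : 0 < N := Nat.card_pos
  have : NeZero N := ⟨hN.ne'⟩
  set ζ := Complex.exp (2 * Real.pi * Complex.I / N) with hζ
  have hprim : IsPrimitiveRoot ζ N := Complex.isPrimitiveRoot_exp N hN.ne'
  set R := primitiveRoots N ℂ with hR
  have hζR : ζ ∈ R := (mem_primitiveRoots hN).mpr hprim
  have hRpos : (0 : ℝ) < R.card := by
    exact_mod_cast Finset.card_pos.mpr ⟨ζ, hζR⟩
  have hgN : ∀ g : G, g ^ N = 1 := fun g => pow_card_eq_one'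
  choose L hL using fun g : G => char_pow_list hχ g N hN (hgN g)
  have hpow : ∀ μ ∈ R, ∃ k : ℕ, k.Coprime N ∧ ∀ g : G, powSum (L g) μ = χ (g ^ k) := by
    intro μ hμ
    have hμprim : IsPrimitiveRoot μ N := (mem_primitiveRoots hN).mp hμ
    obtain ⟨k, -, hk⟩ := hprim.eq_pow_of_pow_eq_one hμprim.pow_eq_one
    have hcop : k.Coprime N := by
      rw [← hk] at hμprim
      exact (hprim.pow_iff_coprime hN k).mp hμprim
    refine ⟨k, hcop, fun g => ?_⟩
    rw [hL g k, hk]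
  have hb : ∀ μ ∈ R, ∑ g ∈ S, (powSum (L g) μ).re = ∑ g ∈ S, (χ g).re := by
    intro μ hμ
    obtain ⟨k, hcop, h1⟩ := hpow μ hμ
    simp_rw [h1]
    have hinj : Function.Injective (fun g : G => g ^ k) := (powCoprime hcop.symm).injective
    have himg : S.image (fun g : G => g ^ k) = S := by
      apply Finset.eq_of_subset_of_card_le
      · intro x hx
        obtain ⟨g, hg, rfl⟩ := Finset.mem_image.mp hx
        exact hS g hg k hcop
      · rw [Finset.card_image_of_injective _ hinj]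
    conv_rhs => rw [← himg]
    rw [Finset.sum_image (fun a _ b _ h => hinj h)]
  have ha : ∀ g : G, χ g ≠ 0 → (R.card : ℝ) ≤ ∑ μ ∈ R, (powSum (L g) μ).re := by
    intro g hg
    apply sum_primitive_ge' N hN (L g)
    · intro μ hμ
      obtain ⟨k, -, h1⟩ := hpow μ hμ
      rw [h1]
      exact hreal _
    · refine ⟨ζ, hζR, ?_⟩
      have := hL g 1
      rw [pow_one, pow_one] at this
      rw [← this]
      exact hg
  have hnonneg : ∀ g : G, ∀ μ ∈ R, 0 ≤ (powSum (L g) μ).re := by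
    intro g μ hμ
    obtain ⟨k, -, h1⟩ := hpow μ hμ
    rw [h1]
    obtain ⟨r, hr0, hr⟩ := hreal (g ^ k)
    rw [hr]; simpa using hr0
  have hc : ∑ g ∈ S, ∑ μ ∈ R, (powSum (L g) μ).re = (R.card : ℝ) * ∑ g ∈ S, (χ g).re := by
    rw [Finset.sum_comm, Finset.sum_congr rfl hb, Finset.sum_const, nsmul_eq_mul]
  have hd : ((S.filter (fun g => χ g ≠ 0)).card : ℝ) * (R.card : ℝ)
      ≤ ∑ g ∈ S, ∑ μ ∈ R, (powSum (L g) μ).re := by
    calc ((S.filter (fun g => χ g ≠ 0)).card : ℝ) * (R.card : ℝ)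
        = ∑ g ∈ S.filter (fun g => χ g ≠ 0), (R.card : ℝ) := by
          rw [Finset.sum_const, nsmul_eq_mul]
      _ ≤ ∑ g ∈ S.filter (fun g => χ g ≠ 0), ∑ μ ∈ R, (powSum (L g) μ).re :=
          Finset.sum_le_sum fun g hg => ha g (Finset.mem_filter.mp hg).2
      _ ≤ ∑ g ∈ S, ∑ μ ∈ R, (powSum (L g) μ).re :=
          Finset.sum_le_sum_of_subset_of_nonneg (Finset.filter_subset _ _)
            (fun g _ _ => Finset.sum_nonneg fun μ hμ => hnonneg g μ hμ)
  rw [hc] at hd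
  have : ((S.filter (fun g => χ g ≠ 0)).card : ℝ) * (R.card : ℝ)
      ≤ (∑ g ∈ S, (χ g).re) * (R.card : ℝ) := by
    rw [mul_comm (∑ g ∈ S, (χ g).re) (R.card : ℝ)]; exact hd
  exact le_of_mul_le_mul_right this hRpos

end Chars

end Cfsg.Agent.Lib.Helper2_CharGalois2
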