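import Mathlib
import Cfsg.Prelude.Def_Characters
import Cfsg.Agent.Lib.Helper2_ClassFn
import Cfsg.Agent.Lib.Helper2_CharBasic
import Cfsg.Agent.Lib.Helper2_CharOrtho

set_option autoImplicit false

/-!
# Generalized characters of small norm
-/

namespace Cfsg.Agent.Lib.Helper2_CharNorm

open Cfsg
open Cfsg.Agent.Lib.Helper2_ClassFn
open Cfsg.Agent.Lib.Helper2_CharBasic
open Cfsg.Agent.Lib.Helper2_CharOrtho
open scoped ComplexConjugate ComplexOrder

universe u

theorem exists_of_sum_sq_eq_two {ι : Type*} (s : Finset ι) (z : ι → ℤ)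
    (h : ∑ i ∈ s, z i ^ 2 = 2) :
    ∃ i ∈ s, ∃ j ∈ s, i ≠ j ∧ (z i = 1 ∨ z i = -1) ∧ (z j = 1 ∨ z j = -1) ∧
      ∀ k ∈ s, k ≠ i → k ≠ j → z k = 0 := by
  classical
  have hex : ∃ i ∈ s, z i ≠ 0 := by
    by_contra hcon
    push Not at hcon
    rw [Finset.sum_eq_zero (fun i hi => by rw [hcon i hi]; rfl)] at h
    exact absurd h (by norm_num)
  obtain ⟨i, hi, hzi⟩ := hex
  rw [← Finset.add_sum_erase s _ hi] at h
  have hrest : 0 ≤ ∑ j ∈ s.erase i, z j ^ 2 := Finset.sum_nonneg fun j _ => sq_nonneg _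
  have h1 : 1 ≤ z i ^ 2 := by
    have : 0 < z i ^ 2 := by positivity
    omega
  have h2 : z i ^ 2 ≤ 2 := by omega
  have hzi1 : z i = 1 ∨ z i = -1 := by
    have hlt : |z i| < 2 := by
      by_contra hge
      push Not at hge
      have : 4 ≤ z i ^ 2 := by
        have : (2 : ℤ) ^ 2 ≤ |z i| ^ 2 := pow_le_pow_left₀ (by norm_num) hge 2
        rw [sq_abs] at this
        linarith
      omega
    have hne : |z i| ≠ 0 := abs_ne_zero.mpr hzi
    have habs : |z i| = 1 := by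
      have : 0 ≤ |z i| := abs_nonneg _
      omega
    rcases abs_eq (by norm_num : (0 : ℤ) ≤ 1) |>.mp habs with h | h
    · left; exact h
    · right; exact h
  have hsq : z i ^ 2 = 1 := by rcases hzi1 with h | h <;> rw [h] <;> norm_num
  have h3 : ∑ j ∈ s.erase i, z j ^ 2 = 1 := by omega
  obtain ⟨j, hj, hzj, hrest'⟩ := exists_of_sum_sq_eq_one _ _ h3
  refine ⟨i, hi, j, Finset.mem_of_mem_erase hj, (Finset.ne_of_mem_erase hj).symm, hzi1, hzj, ?_⟩
  intro k hk hki hkj
  exact hrest' k (Finset.mem_erase.mpr ⟨hki, hk⟩) hkj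

variable {G : Type u} [Group G] [Fintype G]

/-- A generalized character of norm two vanishing at `1` is a difference of two distinct
irreducible characters of the same degree. -/
theorem eq_sub_of_norm_two {θ : G → ℂ} (h : IsGeneralizedCharacter G θ)
    (h2 : classInner θ θ = 2) (h1 : θ 1 = 0) :
    ∃ μ ν, IsIrrCharacter G μ ∧ IsIrrCharacter G ν ∧ μ ≠ ν ∧ θ = μ - ν ∧ μ 1 = ν 1 := by
  classical
  obtain ⟨c, hc, hexp⟩ := IsGeneralizedCharacter.exists_int_expansion h
  have hsum : ∑ ψ ∈ irrFinset G, c ψ ^ 2 = 2 := by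
    have := IsGeneralizedCharacter.classInner_self_eq h c hc
    rw [h2] at this
    exact_mod_cast this.symm
  obtain ⟨μ, hμ, ν, hν, hne, hcμ, hcν, hrest⟩ := exists_of_sum_sq_eq_two _ _ hsum
  have hμ' := mem_irrFinset.mp hμ
  have hν' := mem_irrFinset.mp hν
  have hθ : θ = (c μ : ℂ) • μ + (c ν : ℂ) • ν := by
    conv_lhs => rw [hexp]
    rw [← Finset.add_sum_erase _ _ hμ, ← Finset.add_sum_erase _ _
      (Finset.mem_erase.mpr ⟨hne.symm, hν⟩)]
    rw [Finset.sum_eq_zero, add_zero]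
    intro k hk
    have hk1 := Finset.mem_erase.mp hk
    have hk2 := Finset.mem_erase.mp hk1.2
    rw [hrest k hk2.2 hk2.1 hk1.1]; simp
  obtain ⟨m, hm, hm1⟩ := IsIrrCharacter.apply_one hμ'
  obtain ⟨n, hn, hn1⟩ := IsIrrCharacter.apply_one hν'
  have h1' : (c μ : ℂ) * m + (c ν : ℂ) * n = 0 := by
    have := congrFun hθ 1
    rw [h1] at this
    simp only [Pi.add_apply, Pi.smul_apply, smul_eq_mul, hm1, hn1] at this
    exact this.symm
  have h1'' : c μ * (m : ℤ) + c ν * (n : ℤ) = 0 := by exact_mod_cast h1'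
  have hM : (0 : ℤ) < m := by exact_mod_cast hm
  have hN : (0 : ℤ) < n := by exact_mod_cast hn
  rcases hcμ with hcμ | hcμ <;> rcases hcν with hcν | hcν
  · exfalso; rw [hcμ, hcν] at h1''; omega
  · refine ⟨μ, ν, hμ', hν', hne, ?_, ?_⟩
    · rw [hθ, hcμ, hcν]; simp [sub_eq_add_neg]
    · rw [hcμ, hcν] at h1''
      rw [hm1, hn1]
      have : (m : ℤ) = n := by omega
      exact_mod_cast this
  · refine ⟨ν, μ, hν', hμ', hne.symm, ?_, ?_⟩
    · rw [hθ, hcμ, hcν]; simp [sub_eq_add_neg, add_comm]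
    · rw [hcμ, hcν] at h1''
      rw [hm1, hn1]
      have : (n : ℤ) = m := by omega
      exact_mod_cast this
  · exfalso; rw [hcμ, hcν] at h1''; omega

end Cfsg.Agent.Lib.Helper2_CharNorm
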