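import Mathlib
import Cfsg.Prelude.Def_Characters
import Cfsg.Agent.Lib.Helper2_ClassFn
import Cfsg.Agent.Lib.Helper2_CharBasic
import Cfsg.Agent.Lib.Helper2_CharOrtho
import Cfsg.Agent.Lib.Helper2_CharComplete
import Cfsg.Agent.Lib.Helper2_CharInd
import Cfsg.Agent.Lib.Helper2_Gallagher

set_option autoImplicit false

/-!
# Averaging `|χ|²` over the cosets of a normal subgroup
-/

namespace Cfsg.Agent.Lib.Helper2_CosetAvg

open Cfsg
open Cfsg.Agent.Lib.Helper2_ClassFn
open Cfsg.Agent.Lib.Helper2_CharBasic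
open Cfsg.Agent.Lib.Helper2_CharOrtho
open Cfsg.Agent.Lib.Helper2_CharComplete
open Cfsg.Agent.Lib.Helper2_CharInd
open Cfsg.Agent.Lib.Helper2_Gallagher
open scoped ComplexConjugate

universe u

variable {G : Type u} [Group G] [Fintype G] (N : Subgroup G) [hN : N.Normal]

open Classical in
/-- The average of `|χ|²` over a coset of `N`. -/
noncomputable def cosetAvg (χ : G → ℂ) : G ⧸ N → ℂ :=
  fun q => (Nat.card N : ℂ)⁻¹ *
    ∑ g ∈ Finset.univ.filter (fun g : G => (g : G ⧸ N) = q), χ g * conj (χ g)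

open Classical in
theorem cosetAvg_apply (χ : G → ℂ) (q : G ⧸ N) :
    cosetAvg N χ q = (Nat.card N : ℂ)⁻¹ *
      ∑ g ∈ Finset.univ.filter (fun g : G => (g : G ⧸ N) = q), χ g * conj (χ g) := rfl

theorem cosetAvg_isClassFunction {χ : G → ℂ} (hχ : IsClassFunction G χ) :
    IsClassFunction (G ⧸ N) (cosetAvg N χ) := by
  classical
  intro q r
  obtain ⟨y, rfl⟩ := QuotientGroup.mk_surjective r
  rw [cosetAvg_apply, cosetAvg_apply]
  congr 1
  symm
  apply Finset.sum_bij (fun g _ => y * g * y⁻¹)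
  · intro g hg
    rw [Finset.mem_filter] at hg ⊢
    refine ⟨Finset.mem_univ _, ?_⟩
    rw [QuotientGroup.mk_mul, QuotientGroup.mk_mul, QuotientGroup.mk_inv, hg.2]
  · intro a _ b _ hab
    simpa using hab
  · intro b hb
    rw [Finset.mem_filter] at hb
    refine ⟨y⁻¹ * b * y, ?_, by group⟩
    rw [Finset.mem_filter]
    refine ⟨Finset.mem_univ _, ?_⟩
    rw [QuotientGroup.mk_mul, QuotientGroup.mk_mul, QuotientGroup.mk_inv, hb.2]
    group
  · intro g _
    rw [hχ g y]

theorem card_quot_mul_card [Fintype (G ⧸ N)] :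
    (Nat.card (G ⧸ N) : ℂ) * (Nat.card N : ℂ) = (Nat.card G : ℂ) := by
  have h := Subgroup.card_mul_index N
  rw [Subgroup.index_eq_card, mul_comm] at h
  exact_mod_cast h

theorem sum_cosetAvg_mul [Fintype (G ⧸ N)] (χ : G → ℂ) (F : G ⧸ N → ℂ) :
    ∑ q : G ⧸ N, cosetAvg N χ q * F q
      = (Nat.card N : ℂ)⁻¹ * ∑ g : G, χ g * conj (χ g) * F (g : G ⧸ N) := by
  classical
  simp only [cosetAvg_apply]
  rw [← Finset.sum_fiberwise Finset.univ (fun g : G => (g : G ⧸ N))
    (fun g => χ g * conj (χ g) * F (g : G ⧸ N)), Finset.mul_sum]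
  refine Finset.sum_congr rfl fun q _ => ?_
  rw [mul_assoc, Finset.sum_mul]
  congr 1
  refine Finset.sum_congr rfl fun g hg => ?_
  rw [(Finset.mem_filter.mp hg).2]

theorem classInner_cosetAvg [Fintype (G ⧸ N)] (χ : G → ℂ) (β : G ⧸ N → ℂ) :
    classInner (cosetAvg N χ) β = classInner χ (χ * infl N β) := by
  rw [classInner_def, classInner_def, sum_cosetAvg_mul N χ (fun q => conj (β q))]
  have hN0 : (Nat.card N : ℂ) ≠ 0 := by exact_mod_cast Nat.card_pos.ne'
  have hQ0 : (Nat.card (G ⧸ N) : ℂ) ≠ 0 := by exact_mod_cast Nat.card_pos.ne'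
  rw [← card_quot_mul_card N, ← mul_assoc, mul_inv, mul_comm ((Nat.card (G ⧸ N) : ℂ)⁻¹)]
  congr 1
  refine Finset.sum_congr rfl fun g _ => ?_
  rw [Pi.mul_apply, infl_apply, map_mul, mul_assoc]

theorem cosetAvg_isCharacter {χ : G → ℂ} (hχ : IsCharacter G χ) :
    IsCharacter (G ⧸ N) (cosetAvg N χ) := by
  classical
  haveI : Fintype (G ⧸ N) := Fintype.ofFinite _
  apply isCharacter_of_classInner_nat
    (cosetAvg_isClassFunction N (IsCharacter.isClassFunction hχ))
  intro β hβ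
  rw [classInner_cosetAvg]
  exact IsCharacter.classInner_nat hχ
    (IsCharacter.mul hχ (IsIrrCharacter.isCharacter (IsIrrCharacter.infl N hβ)))

theorem cosetAvg_real (χ : G → ℂ) (q : G ⧸ N) : ∃ r : ℝ, 0 ≤ r ∧ cosetAvg N χ q = r := by
  classical
  refine ⟨(Nat.card N : ℝ)⁻¹ *
    ∑ g ∈ Finset.univ.filter (fun g : G => (g : G ⧸ N) = q), Complex.normSq (χ g), ?_, ?_⟩
  · apply mul_nonneg (by positivity)
    exact Finset.sum_nonneg fun g _ => Complex.normSq_nonneg _
  · rw [cosetAvg_apply]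
    push_cast
    congr 1
    refine Finset.sum_congr rfl fun g _ => ?_
    rw [Complex.mul_conj]

theorem cosetAvg_eq_zero_iff (χ : G → ℂ) (q : G ⧸ N) :
    cosetAvg N χ q = 0 ↔ ∀ g : G, (g : G ⧸ N) = q → χ g = 0 := by
  classical
  have hN0 : (Nat.card N : ℂ) ≠ 0 := by exact_mod_cast Nat.card_pos.ne'
  have h1 : cosetAvg N χ q = (((Nat.card N : ℝ)⁻¹ *
      ∑ g ∈ Finset.univ.filter (fun g : G => (g : G ⧸ N) = q), Complex.normSq (χ g) : ℝ) : ℂ) := by
    rw [cosetAvg_apply]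
    push_cast
    congr 1
    refine Finset.sum_congr rfl fun g _ => ?_
    rw [Complex.mul_conj]
  rw [h1, Complex.ofReal_eq_zero, mul_eq_zero]
  have hN0' : ((Nat.card N : ℝ))⁻¹ ≠ 0 := by
    apply inv_ne_zero
    exact_mod_cast Nat.card_pos.ne'
  constructor
  · rintro (h | h)
    · exact absurd h hN0'
    · intro g hg
      have := (Finset.sum_eq_zero_iff_of_nonneg
        (fun g _ => Complex.normSq_nonneg (χ g))).mp h g
        (Finset.mem_filter.mpr ⟨Finset.mem_univ _, hg⟩)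
      exact Complex.normSq_eq_zero.mp this
  · intro h
    right
    apply Finset.sum_eq_zero
    intro g hg
    rw [h g (Finset.mem_filter.mp hg).2]
    simp

theorem sum_cosetAvg [Fintype (G ⧸ N)] {χ : G → ℂ} (hχ : IsIrrCharacter G χ) :
    ∑ q : G ⧸ N, cosetAvg N χ q = (Nat.card (G ⧸ N) : ℂ) := by
  have h := sum_cosetAvg_mul N χ (fun _ => 1)
  simp only [mul_one] at h
  rw [h]
  have h1 := classInner_irr_self hχ
  rw [classInner_def] at h1
  have hG : (Nat.card G : ℂ) ≠ 0 := card_ne_zero_complex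
  have hN0 : (Nat.card N : ℂ) ≠ 0 := by exact_mod_cast Nat.card_pos.ne'
  have h2 : ∑ g : G, χ g * conj (χ g) = (Nat.card G : ℂ) := by
    field_simp at h1
    exact h1
  rw [h2, ← card_quot_mul_card N]
  field_simp

theorem cosetAvg_one [Fintype N] (χ : G → ℂ) :
    cosetAvg N χ 1 = classInner (fun n : N => χ n) (fun n : N => χ n) := by
  classical
  rw [cosetAvg_apply, classInner_def]
  congr 1
  have h1 : ∀ g : G, ((g : G ⧸ N) = 1) ↔ g ∈ N := fun g => QuotientGroup.eq_one_iff g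
  simp only [h1]
  rw [← Finset.sum_subtype_eq_sum_filter]
  have h2 : (Finset.univ : Finset G).subtype (fun g => g ∈ N) = (Finset.univ : Finset N) := by
    ext y; simp
  rw [h2]

end Cfsg.Agent.Lib.Helper2_CosetAvg
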