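import Mathlib

set_option autoImplicit false
open scoped Pointwise

namespace Cfsg.Agent.Lib.Helper2_Cyclic

/-- If `A` and `B` commute elementwise then `B` normalizes `A`. -/
theorem le_normalizer_of_commute {G : Type*} [Group G] (A B : Subgroup G)
    (hcomm : ∀ a ∈ A, ∀ b ∈ B, a * b = b * a) : B ≤ Subgroup.normalizer (A : Set G) := by
  intro b hb
  rw [Subgroup.mem_normalizer_iff]
  intro a
  constructor
  · intro ha
    have : b * a * b⁻¹ = a := by rw [← hcomm a ha b hb]; group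
    rw [this]; exact ha
  · intro ha
    have h1 := hcomm _ ha b hb
    have : a = b * a * b⁻¹ := by
      calc a = b⁻¹ * (b * a * b⁻¹ * b) := by group
        _ = b⁻¹ * (b * (b * a * b⁻¹)) := by rw [h1]
        _ = b * a * b⁻¹ := by group
    rw [this]; exact ha

/-- Elements of the join of two elementwise commuting subgroups are products. -/
theorem exists_mul_of_mem_sup_of_commute {G : Type*} [Group G] (A B : Subgroup G)
    (hcomm : ∀ a ∈ A, ∀ b ∈ B, a * b = b * a) (x : G) (hx : x ∈ A ⊔ B) :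
    ∃ a ∈ A, ∃ b ∈ B, x = a * b := by
  have hcoe := Subgroup.coe_mul_of_right_le_normalizer_left A B (le_normalizer_of_commute A B hcomm)
  have hx' : x ∈ ((A ⊔ B : Subgroup G) : Set G) := hx
  rw [hcoe] at hx'
  obtain ⟨a, ha, b, hb, hab⟩ := hx'
  exact ⟨a, ha, b, hb, hab.symm⟩

/-- Cardinality of the join of two commuting subgroups with trivial intersection. -/
theorem card_sup_of_commute_disjoint {G : Type*} [Group G] (A B : Subgroup G)
    (hcomm : ∀ a ∈ A, ∀ b ∈ B, a * b = b * a) (hdisj : A ⊓ B = ⊥) :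
    Nat.card ↥(A ⊔ B) = Nat.card A * Nat.card B := by
  rw [← Nat.card_prod]
  symm
  apply Nat.card_congr
  refine Equiv.ofBijective
    (fun ab : A × B => (⟨ab.1.1 * ab.2.1,
      mul_mem ((le_sup_left : A ≤ A ⊔ B) ab.1.2) ((le_sup_right : B ≤ A ⊔ B) ab.2.2)⟩ : ↥(A ⊔ B)))
    ⟨?_, ?_⟩
  · rintro ⟨⟨a, ha⟩, ⟨b, hb⟩⟩ ⟨⟨a', ha'⟩, ⟨b', hb'⟩⟩ h
    have h1 : a * b = a' * b' := congrArg Subtype.val h
    have h2 : a'⁻¹ * a = b' * b⁻¹ := by
      calc a'⁻¹ * a = a'⁻¹ * (a * b) * b⁻¹ := by group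
        _ = a'⁻¹ * (a' * b') * b⁻¹ := by rw [h1]
        _ = b' * b⁻¹ := by group
    have h3 : a'⁻¹ * a ∈ A ⊓ B :=
      Subgroup.mem_inf.mpr ⟨A.mul_mem (A.inv_mem ha') ha, by rw [h2]; exact B.mul_mem hb' (B.inv_mem hb)⟩
    rw [hdisj, Subgroup.mem_bot] at h3
    have h4 : a = a' := by
      have : a = a' * (a'⁻¹ * a) := by group
      rw [this, h3, mul_one]
    have h5 : b = b' := by
      rw [h4] at h1
      exact mul_left_cancel h1
    subst h4; subst h5; rfl
  · rintro ⟨x, hx⟩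
    obtain ⟨a, ha, b, hb, rfl⟩ := exists_mul_of_mem_sup_of_commute A B hcomm x hx
    exact ⟨⟨⟨a, ha⟩, ⟨b, hb⟩⟩, rfl⟩

/-- In a finite cyclic group, two subgroups of the same order are equal. -/
theorem eq_of_card_eq_of_isCyclic {G : Type*} [Group G] [Finite G] [IsCyclic G]
    (H K : Subgroup G) (h : Nat.card H = Nat.card K) : H = K := by
  classical
  have := Fintype.ofFinite G
  set n := Nat.card H with hn
  have hnpos : 0 < n := Nat.card_pos
  have hS := IsCyclic.card_pow_eq_one_le (α := G) hnpos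
  have key : ∀ L : Subgroup G, Nat.card L = n →
      (Finset.univ.filter (fun x : G => x ∈ L)) = Finset.univ.filter (fun x : G => x ^ n = 1) := by
    intro L hL
    apply Finset.eq_of_subset_of_card_le
    · intro x hx
      rw [Finset.mem_filter] at hx ⊢
      refine ⟨hx.1, ?_⟩
      have h1 : orderOf x ∣ Nat.card L := Subgroup.orderOf_dvd_natCard L hx.2
      rw [hL] at h1
      exact orderOf_dvd_iff_pow_eq_one.mp h1
    · have h2 : (Finset.univ.filter (fun x : G => x ∈ L)).card = n := by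
        rw [← hL, Nat.card_eq_fintype_card, Fintype.card_subtype]
      rw [h2]
      exact hS
  have hH := key H rfl
  have hK := key K h.symm
  ext x
  have e1 : x ∈ H ↔ x ∈ Finset.univ.filter (fun x : G => x ∈ H) := by simp
  have e2 : x ∈ K ↔ x ∈ Finset.univ.filter (fun x : G => x ∈ K) := by simp
  rw [e1, e2, hH, hK]

/-- Two subgroups of the same order inside a finite cyclic subgroup are equal. -/
theorem eq_of_card_eq_of_le_isCyclic {G : Type*} [Group G] (W H K : Subgroup G) [Finite W]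
    (hW : IsCyclic W) (hH : H ≤ W) (hK : K ≤ W) (h : Nat.card H = Nat.card K) : H = K := by
  have h1 : Nat.card (H.subgroupOf W) = Nat.card (K.subgroupOf W) := by
    rw [Nat.card_congr (Subgroup.subgroupOfEquivOfLe hH).toEquiv,
      Nat.card_congr (Subgroup.subgroupOfEquivOfLe hK).toEquiv, h]
  have h2 := eq_of_card_eq_of_isCyclic (H.subgroupOf W) (K.subgroupOf W) h1
  rw [Subgroup.subgroupOf_inj] at h2
  rwa [inf_eq_left.mpr hH, inf_eq_left.mpr hK] at h2

/-- CRT exponent: `m ≡ 1 [MOD A]`, `m ≡ 0 [MOD B]` for coprime `A`, `B`. -/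
lemma exists_crt_exp (A B : ℕ) (hcop : Nat.Coprime A B) :
    ∃ m : ℕ, m ≡ 1 [MOD A] ∧ m ≡ 0 [MOD B] := by
  obtain ⟨k, hk1, hk2⟩ := Nat.chineseRemainder hcop 1 0
  exact ⟨k, hk1, hk2⟩

lemma pow_eq_self_of_modEq {G : Type*} [Group G] (a : G) (A m : ℕ) (hA : a ^ A = 1)
    (hm : m ≡ 1 [MOD A]) : a ^ m = a := by
  have h1 : orderOf a ∣ A := orderOf_dvd_of_pow_eq_one hA
  have h2 : m ≡ 1 [MOD orderOf a] := hm.of_dvd h1
  have := (pow_eq_pow_iff_modEq (x := a) (m := 1) (n := m)).mpr h2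
  simpa using this

lemma pow_eq_one_of_modEq {G : Type*} [Group G] (b : G) (B m : ℕ) (hB : b ^ B = 1)
    (hm : m ≡ 0 [MOD B]) : b ^ m = 1 := by
  have h1 : orderOf b ∣ B := orderOf_dvd_of_pow_eq_one hB
  have h2 : m ≡ 0 [MOD orderOf b] := hm.of_dvd h1
  have := (pow_eq_pow_iff_modEq (x := b) (m := 0) (n := m)).mpr h2
  simpa using this

lemma pow_card_subgroup {G : Type*} [Group G] (H : Subgroup G) (x : G) (hx : x ∈ H) :
    x ^ Nat.card H = 1 := by
  have h1 : orderOf x ∣ Nat.card H := Subgroup.orderOf_dvd_natCard H hx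
  exact orderOf_dvd_iff_pow_eq_one.mp h1

/-- If `c = h * u` with `h ∈ H`, `u ∈ U` commuting and `|H|`, `|U|` coprime, then `h` and `u` are
powers of `c`. -/
lemma exists_pow_eq_of_commute_coprime {G : Type*} [Group G] (H U : Subgroup G)
    (hcop : (Nat.card H).Coprime (Nat.card U)) (h u : G) (hh : h ∈ H) (hu : u ∈ U)
    (hc : Commute h u) : (∃ m : ℕ, (h * u) ^ m = h) ∧ ∃ m : ℕ, (h * u) ^ m = u := by
  obtain ⟨m, hm1, hm0⟩ := exists_crt_exp _ _ hcop
  obtain ⟨m', hm'1, hm'0⟩ := exists_crt_exp _ _ hcop.symm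
  refine ⟨⟨m, ?_⟩, ⟨m', ?_⟩⟩
  · rw [hc.mul_pow, pow_eq_self_of_modEq h _ m (pow_card_subgroup H h hh) hm1,
      pow_eq_one_of_modEq u _ m (pow_card_subgroup U u hu) hm0, mul_one]
  · rw [hc.mul_pow, pow_eq_one_of_modEq h _ m' (pow_card_subgroup H h hh) hm'0,
      pow_eq_self_of_modEq u _ m' (pow_card_subgroup U u hu) hm'1, one_mul]

end Cfsg.Agent.Lib.Helper2_Cyclic
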