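import Mathlib
import Cfsg.Prelude.Def_Characters
import Cfsg.Prelude.Def_OddOrderLocal
import Cfsg.Agent.Lib.Helper2_Cyclic

set_option autoImplicit false

/-!
# Self-normalising cyclic subgroups `W = W₁ × W₂`: the set `W ∖ (W₁ ∪ W₂)` is a TI-subset
-/

namespace Cfsg.Agent.Lib.Helper2_CyclicTI

open Cfsg
open Cfsg.Agent.Lib.Helper2_Cyclic

variable {G : Type*} [Group G]

/-- The set `V = W ∖ (W₁ ∪ W₂)`. -/
def vSet (W₁ W₂ : Subgroup G) : Set G := (↑(W₁ ⊔ W₂) : Set G) \ (↑W₁ ∪ ↑W₂)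

theorem mem_vSet {W₁ W₂ : Subgroup G} {x : G} :
    x ∈ vSet W₁ W₂ ↔ x ∈ W₁ ⊔ W₂ ∧ x ∉ W₁ ∧ x ∉ W₂ := by
  unfold vSet
  simp only [Set.mem_sdiff, SetLike.mem_coe, Set.mem_union, not_or]

theorem vSet_nonempty {W₁ W₂ : Subgroup G} (hW : IsSelfNormalizingCyclic W₁ W₂) :
    (vSet W₁ W₂).Nonempty := by
  obtain ⟨h1, h2, hdisj, hcomm, -, -⟩ := hW
  obtain ⟨a, ha1⟩ := (Subgroup.ne_bot_iff_exists_ne_one).mp h1
  obtain ⟨b, hb1⟩ := (Subgroup.ne_bot_iff_exists_ne_one).mp h2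
  refine ⟨(a : G) * b, mem_vSet.mpr ⟨?_, ?_, ?_⟩⟩
  · exact mul_mem ((le_sup_left : W₁ ≤ W₁ ⊔ W₂) a.2) ((le_sup_right : W₂ ≤ W₁ ⊔ W₂) b.2)
  · intro h
    have hb' : (b : G) ∈ W₁ := by
      have : (b : G) = (a : G)⁻¹ * ((a : G) * b) := by group
      rw [this]
      exact W₁.mul_mem (W₁.inv_mem a.2) h
    have : (b : G) ∈ W₁ ⊓ W₂ := Subgroup.mem_inf.mpr ⟨hb', b.2⟩
    rw [hdisj, Subgroup.mem_bot] at this
    exact hb1 (Subtype.ext this)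
  · intro h
    have ha' : (a : G) ∈ W₂ := by
      have : (a : G) = ((a : G) * b) * (b : G)⁻¹ := by group
      rw [this]
      exact W₂.mul_mem h (W₂.inv_mem b.2)
    have : (a : G) ∈ W₁ ⊓ W₂ := Subgroup.mem_inf.mpr ⟨a.2, ha'⟩
    rw [hdisj, Subgroup.mem_bot] at this
    exact ha1 (Subtype.ext this)

theorem normalizer_vSet {W₁ W₂ : Subgroup G} (hW : IsSelfNormalizingCyclic W₁ W₂) :
    Subgroup.normalizer (vSet W₁ W₂) = W₁ ⊔ W₂ :=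
  hW.2.2.2.2.2 (vSet W₁ W₂) (le_refl _) (vSet_nonempty hW)

theorem normalizer_singleton {W₁ W₂ : Subgroup G} (hW : IsSelfNormalizingCyclic W₁ W₂)
    {t : G} (ht : t ∈ vSet W₁ W₂) : Subgroup.normalizer ({t} : Set G) = W₁ ⊔ W₂ :=
  hW.2.2.2.2.2 {t} (Set.singleton_subset_iff.mpr ht) (Set.singleton_nonempty t)

/-- An element conjugating `W` into itself normalises `V`. -/
theorem mem_of_conj_le [Finite G] {W₁ W₂ : Subgroup G} (hW : IsSelfNormalizingCyclic W₁ W₂) (c : G)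
    (hc : ∀ x ∈ W₁ ⊔ W₂, c * x * c⁻¹ ∈ W₁ ⊔ W₂) : c ∈ W₁ ⊔ W₂ := by
  have hW' := hW
  obtain ⟨-, -, -, -, hcyc, -⟩ := hW
  have hmapW : ∀ K : Subgroup G, K ≤ W₁ ⊔ W₂ → K.map (MulAut.conj c).toMonoidHom = K := by
    intro K hK
    apply eq_of_card_eq_of_le_isCyclic (W₁ ⊔ W₂) _ _ hcyc _ hK
    · exact Subgroup.card_map_of_injective (MulAut.conj c).injective
    · rintro y ⟨x, hx, rfl⟩
      exact hc x (hK hx)
  have hiff : ∀ K : Subgroup G, K ≤ W₁ ⊔ W₂ → ∀ n : G, n ∈ K ↔ c * n * c⁻¹ ∈ K := by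
    intro K hK n
    have h := hmapW K hK
    constructor
    · intro hn
      rw [← h]
      exact ⟨n, hn, rfl⟩
    · intro hn
      rw [← h] at hn
      obtain ⟨x, hx, hxe⟩ := hn
      have : x = n := (MulAut.conj c).injective hxe
      rwa [← this]
  rw [← normalizer_vSet hW', Subgroup.mem_set_normalizer_iff]
  intro n
  rw [mem_vSet, mem_vSet, ← hiff _ le_rfl n, ← hiff _ le_sup_left n, ← hiff _ le_sup_right n]

/-- `V` is a TI-subset (in the sharp form: no element outside `W` conjugates any element of `V`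
into `V`). -/
theorem vSet_TI [Finite G] {W₁ W₂ : Subgroup G} (hW : IsSelfNormalizingCyclic W₁ W₂) (g : G)
    (hg : g ∉ W₁ ⊔ W₂) (t : G) (ht : t ∈ vSet W₁ W₂) : g * t * g⁻¹ ∉ vSet W₁ W₂ := by
  intro hgt
  have h1 := normalizer_singleton hW ht
  have h2 := normalizer_singleton hW hgt
  -- g⁻¹ W g ⊆ W
  have hsub : ∀ x ∈ W₁ ⊔ W₂, g⁻¹ * x * g⁻¹⁻¹ ∈ W₁ ⊔ W₂ := by
    intro x hx
    rw [← h2, Subgroup.mem_set_normalizer_iff] at hx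
    have hx' := (hx (g * t * g⁻¹)).mp rfl
    rw [Set.mem_singleton_iff] at hx'
    rw [← h1, Subgroup.mem_set_normalizer_iff]
    intro n
    simp only [Set.mem_singleton_iff]
    have key : g⁻¹ * x * g⁻¹⁻¹ * t * (g⁻¹ * x * g⁻¹⁻¹)⁻¹ = t := by
      have : g⁻¹ * x * g⁻¹⁻¹ * t * (g⁻¹ * x * g⁻¹⁻¹)⁻¹
          = g⁻¹ * (x * (g * t * g⁻¹) * x⁻¹) * g := by group
      rw [this, hx']
      group
    constructor
    · rintro rfl
      exact key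
    · intro h
      have : n = (g⁻¹ * x * g⁻¹⁻¹)⁻¹ * (g⁻¹ * x * g⁻¹⁻¹ * n * (g⁻¹ * x * g⁻¹⁻¹)⁻¹)
          * (g⁻¹ * x * g⁻¹⁻¹) := by group
      rw [this, h]
      have k2 : (g⁻¹ * x * g⁻¹⁻¹)⁻¹ * t * (g⁻¹ * x * g⁻¹⁻¹) = t := by
        calc (g⁻¹ * x * g⁻¹⁻¹)⁻¹ * t * (g⁻¹ * x * g⁻¹⁻¹)
            = (g⁻¹ * x * g⁻¹⁻¹)⁻¹ * (g⁻¹ * x * g⁻¹⁻¹ * t * (g⁻¹ * x * g⁻¹⁻¹)⁻¹)
              * (g⁻¹ * x * g⁻¹⁻¹) := by rw [key]
          _ = t := by group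
      exact k2
  have := mem_of_conj_le hW g⁻¹ hsub
  exact hg (by simpa using (W₁ ⊔ W₂).inv_mem this)

end Cfsg.Agent.Lib.Helper2_CyclicTI
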