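import Mathlib
import Cfsg.Prelude.Def_Characters
import Cfsg.Agent.Lib.Helper2_ClassFn
import Cfsg.Agent.Lib.Helper2_CharBasic
import Cfsg.Agent.Lib.Helper2_CharOrtho
import Cfsg.Agent.Lib.Helper2_CharMore
import Cfsg.Agent.Lib.Helper2_CharValues
import Cfsg.Agent.Lib.Helper2_CharComplete
import Cfsg.Agent.Lib.Helper2_CharInd
import Cfsg.Agent.Lib.Helper2_CharSum
import Cfsg.Agent.Lib.Helper2_CharInt
import Cfsg.Agent.Lib.Helper2_Artin
import Cfsg.Agent.Lib.Helper2_BrauerInd
import Cfsg.Agent.Lib.Helper2_BrauerThm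
import Cfsg.Agent.Lib.Helper2_NilDecomp

set_option autoImplicit false

/-!
# Brauer's characterization of characters and characters of `p`-defect zero
-/

namespace Cfsg.Agent.Lib.Helper2_DefectZero

open Cfsg
open Cfsg.Agent.Lib.Helper2_ClassFn
open Cfsg.Agent.Lib.Helper2_CharBasic
open Cfsg.Agent.Lib.Helper2_CharOrtho
open Cfsg.Agent.Lib.Helper2_CharMore
open Cfsg.Agent.Lib.Helper2_CharValues
open Cfsg.Agent.Lib.Helper2_CharComplete
open Cfsg.Agent.Lib.Helper2_CharInd
open Cfsg.Agent.Lib.Helper2_CharSum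
open Cfsg.Agent.Lib.Helper2_CharInt
open Cfsg.Agent.Lib.Helper2_Artin
open Cfsg.Agent.Lib.Helper2_BrauerInd
open Cfsg.Agent.Lib.Helper2_BrauerThm
open Cfsg.Agent.Lib.Helper2_NilDecomp
open scoped ComplexConjugate

universe u

section Char

variable {G : Type u} [Group G] [Fintype G]

/-- Brauer's characterization of characters. -/
theorem brauer_characterization (θ : G → ℂ) (hθ : IsClassFunction G θ)
    (hE : ∀ (E : Subgroup G) (p : ℕ), p.Prime → IsElementary p E →
      IsGeneralizedCharacter E (fun e : E => θ e)) : IsGeneralizedCharacter G θ := by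
  classical
  obtain ⟨l, hl, heq⟩ := linSpan_one (G := G)
  have h1 : θ = (fun _ : G => (1:ℂ)) * θ := by ext g; simp
  rw [h1, heq]
  clear heq h1
  induction l with
  | nil => simpa using IsGeneralizedCharacter.zero
  | cons t l ih =>
    rw [List.map_cons, List.sum_cons, add_mul]
    apply IsGeneralizedCharacter.add
    · rw [smul_mul_assoc, ← indFun_mul_res' t.1 _ hθ, Int.cast_smul_eq_zsmul]
      apply IsGeneralizedCharacter.zsmul
      apply IsGeneralizedCharacter.indFun
      obtain ⟨p, hp, hEt⟩ := hl t List.mem_cons_self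
      exact IsGeneralizedCharacter.mul
        (IsIrrCharacter.isGeneralizedCharacter (isIrrCharacter_of_hom t.2.1))
        (hE t.1 p hp hEt)
    · exact ih (fun s hs => hl s (List.mem_cons_of_mem t hs))

/-- A class function whose inner products with the irreducible characters are integers is a
generalized character. -/
theorem isGeneralizedCharacter_of_classInner_int {f : G → ℂ} (hf : IsClassFunction G f)
    (h : ∀ ψ, IsIrrCharacter G ψ → ∃ k : ℤ, classInner f ψ = k) :
    IsGeneralizedCharacter G f := by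
  rw [IsClassFunction.expansion hf]
  apply IsGeneralizedCharacter.sum
  intro ψ hψ
  have hψ' := mem_irrFinset.mp hψ
  obtain ⟨k, hk⟩ := h ψ hψ'
  rw [hk, Int.cast_smul_eq_zsmul]
  exact IsGeneralizedCharacter.zsmul k (IsIrrCharacter.isGeneralizedCharacter hψ')

end Char

section Arith

/-- A complex number `r` with `a * r` a natural number and `c * r` an algebraic integer, where
`a` and `c` are coprime, is an integer. -/
theorem int_of_two_integral (r : ℂ) (N a c : ℕ) (ha : 0 < a) (hr : (a : ℂ) * r = N)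
    (hcop : Nat.Coprime a c) (hint : IsIntegral ℤ ((c : ℂ) * r)) : ∃ k : ℤ, r = k := by
  have ha0 : (a : ℂ) ≠ 0 := by exact_mod_cast ha.ne'
  have hr' : r = (N : ℂ) / a := by
    rw [eq_div_iff ha0, mul_comm]; exact hr
  have hq : (c : ℂ) * r = ((((c : ℚ) * N / a : ℚ)) : ℂ) := by
    rw [hr']; push_cast; ring
  rw [hq] at hint
  have hint' : IsIntegral ℤ ((c : ℚ) * N / a) := by
    have := (isIntegral_algebraMap_iff (algebraMap ℚ ℂ).injective (R := ℤ)
      (x := ((c : ℚ) * N / a))).mp
    apply this
    simpa using hint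
  obtain ⟨z, hz⟩ := IsIntegrallyClosed.isIntegral_iff.mp hint'
  have ha0' : (a : ℚ) ≠ 0 := by exact_mod_cast ha.ne'
  have hz' : (c : ℚ) * N = z * a := by
    rw [eq_div_iff ha0'] at hz
    simpa using hz.symm
  have hz'' : ((c * N : ℕ) : ℤ) = z * a := by exact_mod_cast hz'
  have hdvd : (a : ℤ) ∣ ((c * N : ℕ) : ℤ) := ⟨z, by rw [hz'', mul_comm]⟩
  have hdvd' : a ∣ c * N := Int.natCast_dvd_natCast.mp hdvd
  have hdvd'' : a ∣ N := hcop.dvd_of_dvd_mul_left hdvd'
  obtain ⟨k, hk⟩ := hdvd''
  refine ⟨(k : ℤ), ?_⟩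
  rw [hr', hk]
  push_cast
  field_simp

end Arith

section Defect

variable {G : Type u} [Group G] [Fintype G]

/-- The truncation of `χ` to `p`-regular elements. -/
noncomputable def regPart (p : ℕ) (χ : G → ℂ) : G → ℂ :=
  fun g => haveI := Classical.propDecidable (p ∣ orderOf g); if p ∣ orderOf g then 0 else χ g

theorem regPart_of_dvd {p : ℕ} {χ : G → ℂ} {g : G} (h : p ∣ orderOf g) : regPart p χ g = 0 := by
  unfold regPart; rw [if_pos h]

theorem regPart_of_not_dvd {p : ℕ} {χ : G → ℂ} {g : G} (h : ¬ p ∣ orderOf g) :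
    regPart p χ g = χ g := by
  unfold regPart; rw [if_neg h]

theorem regPart_isClassFunction {p : ℕ} {χ : G → ℂ} (hχ : IsClassFunction G χ) :
    IsClassFunction G (regPart p χ) := by
  intro g h
  have hord : orderOf (h * g * h⁻¹) = orderOf g := by
    have := (MulAut.conj h).orderOf_eq g
    rwa [MulAut.conj_apply] at this
  by_cases hd : p ∣ orderOf g
  · rw [regPart_of_dvd hd, regPart_of_dvd (by rw [hord]; exact hd)]
  · rw [regPart_of_not_dvd hd, regPart_of_not_dvd (by rw [hord]; exact hd), hχ]

theorem regPart_res_isGenChar {χ : G → ℂ} (hχ : IsIrrCharacter G χ) (p n b d₁ : ℕ)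
    (hp : p.Prime) (hcardG : Nat.card G = p ^ n * b) (hb : ¬ p ∣ b)
    (hd : χ 1 = ((p ^ n * d₁ : ℕ) : ℂ)) (E : Subgroup G) (q : ℕ) (hq : q.Prime)
    (hE : IsElementary q E) :
    IsGeneralizedCharacter E (fun e : E => regPart p χ e) := by
  classical
  haveI : Fact p.Prime := ⟨hp⟩
  haveI : Fintype E := Fintype.ofFinite _
  haveI : Group.IsNilpotent E := IsElementary.nilpotent hq hE
  have hχc := IsIrrCharacter.isCharacter hχ
  have hχcf := IsCharacter.isClassFunction hχc
  have hθcf : IsClassFunction G (regPart p χ) := regPart_isClassFunction hχcf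
  have hθEcf : IsClassFunction E (fun e : E => regPart p χ e) := by
    intro g h
    exact hθcf (g : G) (h : G)
  obtain ⟨P, Q, hcard, hQp, hmem, hcomm⟩ := nilpotent_p_decomp (E := E) p
  obtain ⟨j, hj⟩ := IsPGroup.iff_card.mp P.2
  haveI : Fintype Q := Fintype.ofFinite _
  have hd10 : (d₁ : ℂ) ≠ 0 := by
    intro h0
    apply IsIrrCharacter.apply_one_ne_zero hχ
    rw [hd]
    push_cast
    rw [h0, mul_zero]
  have hpn0 : ((p : ℂ) ^ n) ≠ 0 := pow_ne_zero n (by exact_mod_cast hp.ne_zero)
  apply isGeneralizedCharacter_of_classInner_int hθEcf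
  intro ψ hψ
  have hψc := IsIrrCharacter.isCharacter hψ
  -- the sum over Q
  set SQ : ℂ := ∑ y : Q, χ ((y : E) : G) * conj (ψ (y : E)) with hSQ
  have claim1 : ∑ e : E, regPart p χ (e : G) * conj (ψ e) = SQ := by
    have h1 : ∀ e : E, regPart p χ (e : G) * conj (ψ e)
        = if e ∈ Q then χ (e : G) * conj (ψ e) else 0 := by
      intro e
      have hord : orderOf (e : G) = orderOf e := Subgroup.orderOf_coe e
      by_cases he : e ∈ Q
      · rw [if_pos he, regPart_of_not_dvd]
        rw [hord]; exact (hmem e).mp he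
      · rw [if_neg he, regPart_of_dvd, zero_mul]
        rw [hord]
        by_contra hnd
        exact he ((hmem e).mpr hnd)
    rw [Finset.sum_congr rfl (fun e _ => h1 e), ← Finset.sum_filter,
      ← Finset.sum_subtype_eq_sum_filter]
    have h2 : (Finset.univ : Finset E).subtype (fun e => e ∈ Q) = (Finset.univ : Finset Q) := by
      ext y; simp
    rw [h2]
  have hE0 : (Nat.card E : ℂ) ≠ 0 := by exact_mod_cast Nat.card_pos.ne'
  have hQ0 : (Nat.card Q : ℂ) ≠ 0 := by exact_mod_cast Nat.card_pos.ne'
  have hP0 : (Nat.card (P : Subgroup E) : ℂ) ≠ 0 := by exact_mod_cast Nat.card_pos.ne'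
  have hcardC : (Nat.card (P : Subgroup E) : ℂ) * (Nat.card Q : ℂ) = (Nat.card E : ℂ) := by
    exact_mod_cast hcard
  have hr : classInner (fun e : E => regPart p χ e) ψ = (Nat.card E : ℂ)⁻¹ * SQ := by
    rw [classInner_def, claim1]
  -- (B')
  obtain ⟨N, hN⟩ := IsCharacter.classInner_nat
    (IsCharacter.restrict (IsCharacter.restrict hχc E) Q) (IsCharacter.restrict hψc Q)
  have hSQN : SQ = (N : ℂ) * (Nat.card Q : ℂ) := by
    rw [classInner_def] at hN
    have : (Nat.card Q : ℂ)⁻¹ * SQ = N := hN
    rw [← this]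
    field_simp
  have hB : (Nat.card (P : Subgroup E) : ℂ) * classInner (fun e : E => regPart p χ e) ψ = N := by
    rw [hr, hSQN, ← hcardC]
    field_simp
  -- (A)
  have hterm : ∀ y : Q, IsIntegral ℤ
      ((b : ℂ) * χ ((y : E) : G) / (Nat.card (P : Subgroup E) : ℂ)) := by
    intro y
    set g : G := ((y : E) : G) with hg
    have hω := isIntegral_omega hχ g
    set cl := (Finset.univ.filter (fun x : G => IsConj x g)).card with hcl
    set c := Nat.card (Subgroup.centralizer ({g} : Set G)) with hc
    have hclc : cl * c = Nat.card G := card_class_mul_card_centralizer g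
    have hPc : Nat.card (P : Subgroup E) ∣ c := by
      have hle : ((P : Subgroup E).map E.subtype) ≤ Subgroup.centralizer ({g} : Set G) := by
        intro u hu
        obtain ⟨u', hu', rfl⟩ := Subgroup.mem_map.mp hu
        rw [Subgroup.mem_centralizer_iff]
        intro z hz
        rw [Set.mem_singleton_iff] at hz
        subst hz
        have := hcomm u' hu' (y : E) y.2
        have h2 := congrArg (fun e : E => (e : G)) this
        simp only [Subgroup.coe_mul] at h2
        exact h2.symm
      have h1 := Subgroup.card_dvd_of_le hle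
      rwa [Subgroup.card_map_of_injective E.subtype_injective] at h1
    obtain ⟨c', hc'⟩ := hPc
    have heq : (b : ℂ) * χ g / (Nat.card (P : Subgroup E) : ℂ)
        = ((cl : ℂ) * χ g / χ 1) * ((d₁ : ℂ) * (c' : ℂ)) := by
      have h1 : (cl : ℂ) * ((Nat.card (P : Subgroup E) : ℂ) * (c' : ℂ)) = (p : ℂ) ^ n * b := by
        have : cl * (Nat.card (P : Subgroup E) * c') = p ^ n * b := by
          rw [← hc', hclc, hcardG]
        exact_mod_cast this
      rw [hd]
      push_cast
      field_simp
      linear_combination (-(χ g)) * h1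
    rw [heq]
    apply IsIntegral.mul hω
    exact IsIntegral.mul (isIntegral_natCast d₁) (isIntegral_natCast c')
  have hA : IsIntegral ℤ (((b * Nat.card Q : ℕ) : ℂ)
      * classInner (fun e : E => regPart p χ e) ψ) := by
    have : ((b * Nat.card Q : ℕ) : ℂ) * classInner (fun e : E => regPart p χ e) ψ
        = ∑ y : Q, ((b : ℂ) * χ ((y : E) : G) / (Nat.card (P : Subgroup E) : ℂ))
            * conj (ψ (y : E)) := by
      rw [hr, hSQ, Finset.mul_sum, Finset.mul_sum]
      refine Finset.sum_congr rfl fun y _ => ?_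
      rw [← hcardC]
      push_cast
      field_simp
    rw [this]
    apply IsIntegral.sum
    intro y _
    apply IsIntegral.mul (hterm y)
    exact IsCharacter.isIntegral (IsCharacter.conj hψc) (y : E)
  have hcop : Nat.Coprime (Nat.card (P : Subgroup E)) (b * Nat.card Q) := by
    rw [hj]
    apply Nat.Coprime.pow_left
    exact Nat.Coprime.mul_right ((Nat.Prime.coprime_iff_not_dvd hp).mpr hb)
      ((Nat.Prime.coprime_iff_not_dvd hp).mpr hQp)
  exact int_of_two_integral _ N _ _ Nat.card_pos hB hcop hA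

end Defect

section Vanish

variable {G : Type u} [Group G] [Fintype G]

/-- An irreducible character of `p`-defect zero vanishes on `p`-singular elements. -/
theorem vanish_of_defect_zero {χ : G → ℂ} (hχ : IsIrrCharacter G χ) (p n : ℕ) (hp : p.Prime)
    (hn : p ^ n ∣ Nat.card G) (hn' : ¬ p ^ (n + 1) ∣ Nat.card G) (d : ℕ) (hd : χ 1 = d)
    (hdeg : p ^ n ∣ d) (x : G) (hx : p ∣ orderOf x) : χ x = 0 := by
  classical
  have hχc := IsIrrCharacter.isCharacter hχ
  have hχcf := IsCharacter.isClassFunction hχc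
  obtain ⟨b, hb⟩ := hn
  have hpb : ¬ p ∣ b := by
    rintro ⟨b', hb'⟩
    apply hn'
    rw [hb, hb', pow_succ]
    exact ⟨b', by ring⟩
  obtain ⟨d₁, hd₁⟩ := hdeg
  have hd' : χ 1 = ((p ^ n * d₁ : ℕ) : ℂ) := by rw [hd, hd₁]
  have hθ : IsGeneralizedCharacter G (regPart p χ) :=
    brauer_characterization _ (regPart_isClassFunction hχcf)
      (fun E q hq hE => regPart_res_isGenChar hχ p n b d₁ hp hb hpb hd' E q hq hE)
  obtain ⟨k, hk⟩ := IsGeneralizedCharacter.classInner_irr_int hθ hχ
  set A : ℝ := ∑ g : G, if p ∣ orderOf g then 0 else Complex.normSq (χ g) with hAdef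
  set B : ℝ := ∑ g : G, if p ∣ orderOf g then Complex.normSq (χ g) else 0 with hBdef
  have hG0 : (Nat.card G : ℂ) ≠ 0 := card_ne_zero_complex
  have hGpos : (0 : ℝ) < Nat.card G := by exact_mod_cast Nat.card_pos
  have hAB : A + B = Nat.card G := by
    have h1 := classInner_irr_self hχ
    rw [classInner_def] at h1
    have h2 : ∑ g : G, χ g * conj (χ g) = (Nat.card G : ℂ) := by
      field_simp at h1
      exact h1
    have h3 : A + B = ∑ g : G, Complex.normSq (χ g) := by
      rw [hAdef, hBdef, ← Finset.sum_add_distrib]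
      refine Finset.sum_congr rfl fun g _ => ?_
      split_ifs <;> simp
    rw [h3]
    have h4 : ((∑ g : G, Complex.normSq (χ g) : ℝ) : ℂ) = (Nat.card G : ℂ) := by
      push_cast
      rw [← h2]
      refine Finset.sum_congr rfl fun g _ => ?_
      rw [Complex.mul_conj]
    exact_mod_cast h4
  have hA : (A : ℂ) = k * Nat.card G := by
    have h1 : classInner (regPart p χ) χ = (Nat.card G : ℂ)⁻¹ * (A : ℂ) := by
      rw [classInner_def]
      congr 1
      rw [hAdef]
      push_cast
      refine Finset.sum_congr rfl fun g _ => ?_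
      by_cases hg : p ∣ orderOf g
      · rw [regPart_of_dvd hg, if_pos hg]; simp
      · rw [regPart_of_not_dvd hg, if_neg hg, Complex.mul_conj]
    rw [h1] at hk
    rw [← hk]
    field_simp
  have hA' : A = k * Nat.card G := by exact_mod_cast hA
  have hApos : 0 < A := by
    rw [hAdef]
    apply Finset.sum_pos'
    · intro g _
      split_ifs
      · exact le_rfl
      · exact Complex.normSq_nonneg _
    · refine ⟨1, Finset.mem_univ _, ?_⟩
      have h1 : ¬ p ∣ orderOf (1 : G) := by
        rw [orderOf_one]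
        exact hp.one_lt.ne' ∘ Nat.dvd_one.mp
      rw [if_neg h1]
      exact Complex.normSq_pos.mpr (IsIrrCharacter.apply_one_ne_zero hχ)
  have hB0 : 0 ≤ B := by
    rw [hBdef]
    apply Finset.sum_nonneg
    intro g _
    split_ifs
    · exact Complex.normSq_nonneg _
    · exact le_rfl
  have hk1 : 1 ≤ k := by
    by_contra hlt
    have h1 : k ≤ 0 := by omega
    have h2 : (k : ℝ) ≤ 0 := by exact_mod_cast h1
    nlinarith
  have hk1' : (1 : ℝ) ≤ k := by exact_mod_cast hk1
  have hBle : B ≤ 0 := by nlinarith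
  have hBz : B = 0 := le_antisymm hBle hB0
  have hall := (Finset.sum_eq_zero_iff_of_nonneg (fun g _ => by
    split_ifs
    · exact Complex.normSq_nonneg _
    · exact le_rfl)).mp hBz x (Finset.mem_univ x)
  rw [if_pos hx] at hall
  exact Complex.normSq_eq_zero.mp hall

end Vanish

end Cfsg.Agent.Lib.Helper2_DefectZero
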