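import Mathlib
import Cfsg.Prelude.Def_Characters
import Cfsg.Agent.Lib.Helper2_ClassFn
import Cfsg.Agent.Lib.Helper2_CharBasic
import Cfsg.Agent.Lib.Helper2_CharOrtho

set_option autoImplicit false

/-!
# The Frobenius–Schur indicator
-/

namespace Cfsg.Agent.Lib.Helper2_FrobSchur

open Cfsg
open Cfsg.Agent.Lib.Helper2_ClassFn
open Cfsg.Agent.Lib.Helper2_CharBasic
open Cfsg.Agent.Lib.Helper2_CharOrtho
open scoped ComplexConjugate
open Matrix

universe u

section Abstract

/-- An idempotent of trace one commuting with an involution: the involution acts on its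
one-dimensional range by a sign `ε`, and `tr (τ P) = ε`. -/
theorem exists_eigen_of_trace_one {W : Type*} [AddCommGroup W] [Module ℂ W]
    [FiniteDimensional ℂ W] (P τ : W →ₗ[ℂ] W) (hP : P ∘ₗ P = P) (hτ : τ ∘ₗ τ = LinearMap.id)
    (hc : τ ∘ₗ P = P ∘ₗ τ) (h1 : LinearMap.trace ℂ W P = 1) :
    ∃ (B : W) (ε : ℂ), B ≠ 0 ∧ P B = B ∧ (∀ X, ∃ c : ℂ, P X = c • B) ∧ τ B = ε • B ∧
      (ε = 1 ∨ ε = -1) ∧ LinearMap.trace ℂ W (τ ∘ₗ P) = ε := by
  have hidem : IsIdempotentElem P := hP
  have hproj := LinearMap.IsIdempotentElem.isProj_range P hidem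
  have htr := hproj.trace
  rw [h1] at htr
  have hfr : Module.finrank ℂ (LinearMap.range P) = 1 := by exact_mod_cast htr.symm
  obtain ⟨⟨B, hBmem⟩, hB0, hspan⟩ := finrank_eq_one_iff'.mp hfr
  have hB0' : B ≠ 0 := by
    intro h
    apply hB0
    exact Subtype.ext h
  have hPB : P B = B := by
    obtain ⟨Y, rfl⟩ := hBmem
    exact LinearMap.congr_fun hP Y
  have hPX : ∀ X, ∃ c : ℂ, P X = c • B := by
    intro X
    obtain ⟨c, hc'⟩ := hspan ⟨P X, LinearMap.mem_range_self P X⟩
    exact ⟨c, (congrArg Subtype.val hc').symm⟩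
  obtain ⟨ε, hε⟩ := hPX (τ B)
  have hτB : τ B = ε • B := by
    rw [← hε, ← LinearMap.comp_apply, ← hc, LinearMap.comp_apply, hPB]
  have hε2 : ε * ε = 1 := by
    have h2 : τ (τ B) = B := LinearMap.congr_fun hτ B
    rw [hτB, map_smul, hτB, smul_smul] at h2
    have h3 : (ε * ε - 1) • B = 0 := by rw [sub_smul, h2, one_smul, sub_self]
    rcases smul_eq_zero.mp h3 with h | h
    · exact sub_eq_zero.mp h
    · exact absurd h hB0'
  have hε' : ε = 1 ∨ ε = -1 := by
    have : (ε - 1) * (ε + 1) = 0 := by ring_nf; rw [pow_two, hε2]; ring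
    rcases mul_eq_zero.mp this with h | h
    · left; exact sub_eq_zero.mp h
    · right; exact eq_neg_of_add_eq_zero_left h
  refine ⟨B, ε, hB0', hPB, hPX, hτB, hε', ?_⟩
  have hτP : τ ∘ₗ P = ε • P := by
    ext X
    obtain ⟨c, hcX⟩ := hPX X
    rw [LinearMap.comp_apply, LinearMap.smul_apply, hcX, map_smul, hτB, smul_comm]
  rw [hτP, map_smul, h1, smul_eq_mul, mul_one]

/-- An idempotent of trace zero vanishes. -/
theorem eq_zero_of_trace_zero {W : Type*} [AddCommGroup W] [Module ℂ W]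
    [FiniteDimensional ℂ W] (P : W →ₗ[ℂ] W) (hP : P ∘ₗ P = P)
    (h0 : LinearMap.trace ℂ W P = 0) : P = 0 := by
  have hidem : IsIdempotentElem P := hP
  have hproj := LinearMap.IsIdempotentElem.isProj_range P hidem
  have htr := hproj.trace
  rw [h0] at htr
  have hfr : Module.finrank ℂ (LinearMap.range P) = 0 := by exact_mod_cast htr.symm
  have hbot : LinearMap.range P = ⊥ := Submodule.finrank_eq_zero.mp hfr
  exact LinearMap.range_eq_bot.mp hbot

end Abstract

section MatrixOps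

variable {n : ℕ}

theorem stdBasis_repr_apply (M : Matrix (Fin n) (Fin n) ℂ) (i j : Fin n) :
    (Matrix.stdBasis ℂ (Fin n) (Fin n)).repr M (i, j) = M i j := by
  simp [Matrix.stdBasis, Module.Basis.map_repr, Pi.basis_repr]

/-- trace of an endomorphism of the matrix space -/
theorem trace_matrixEnd (f : Matrix (Fin n) (Fin n) ℂ →ₗ[ℂ] Matrix (Fin n) (Fin n) ℂ) :
    LinearMap.trace ℂ _ f = ∑ i : Fin n, ∑ j : Fin n, f (Matrix.single i j 1) i j := by
  rw [LinearMap.trace_eq_matrix_trace ℂ (Matrix.stdBasis ℂ (Fin n) (Fin n)), Matrix.trace,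
    Fintype.sum_prod_type]
  simp only [Matrix.diag_apply, LinearMap.toMatrix_apply, stdBasis_repr_apply,
    Matrix.stdBasis_eq_single]

/-- The operator `X ↦ Aᵀ X A` on bilinear forms. -/
noncomputable def congOp (A : Matrix (Fin n) (Fin n) ℂ) :
    Matrix (Fin n) (Fin n) ℂ →ₗ[ℂ] Matrix (Fin n) (Fin n) ℂ where
  toFun X := Aᵀ * X * A
  map_add' X Y := by rw [Matrix.mul_add, Matrix.add_mul]
  map_smul' c X := by simp

theorem congOp_apply (A X : Matrix (Fin n) (Fin n) ℂ) : congOp A X = Aᵀ * X * A := rfl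

theorem congOp_comp (A B : Matrix (Fin n) (Fin n) ℂ) :
    congOp B ∘ₗ congOp A = congOp (A * B) := by
  ext X : 1
  simp only [LinearMap.comp_apply, congOp_apply, Matrix.transpose_mul, Matrix.mul_assoc]

/-- transposition as a linear map -/
noncomputable def transLin : Matrix (Fin n) (Fin n) ℂ →ₗ[ℂ] Matrix (Fin n) (Fin n) ℂ :=
  (Matrix.transposeLinearEquiv (Fin n) (Fin n) ℂ ℂ).toLinearMap

theorem transLin_apply (X : Matrix (Fin n) (Fin n) ℂ) : transLin X = Xᵀ := rfl

theorem transLin_comp_transLin : (transLin (n := n)) ∘ₗ transLin = LinearMap.id := by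
  ext X : 1
  simp [transLin_apply]

theorem transLin_comp_congOp (A : Matrix (Fin n) (Fin n) ℂ) :
    transLin ∘ₗ congOp A = congOp A ∘ₗ transLin := by
  ext X : 1
  simp only [LinearMap.comp_apply, congOp_apply, transLin_apply, Matrix.transpose_mul,
    Matrix.transpose_transpose, Matrix.mul_assoc]

theorem congOp_single_apply (A : Matrix (Fin n) (Fin n) ℂ) (i j a b : Fin n) :
    congOp A (Matrix.single i j 1) a b = A i a * A j b := by
  rw [congOp_apply, Matrix.mul_apply]
  simp only [Matrix.mul_apply, Matrix.transpose_apply, Matrix.single_apply]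
  rw [Finset.sum_eq_single j]
  · rw [Finset.sum_eq_single i]
    · simp
    · intro k _ hk
      simp [hk.symm]
    · simp
  · intro k _ hk
    have : ∑ x : Fin n, A x a * (if i = x ∧ j = k then (1 : ℂ) else 0) = 0 := by
      apply Finset.sum_eq_zero
      intro x _
      simp [hk.symm]
    rw [this, zero_mul]
  · simp

theorem trace_congOp (A : Matrix (Fin n) (Fin n) ℂ) :
    LinearMap.trace ℂ _ (congOp A) = A.trace * A.trace := by
  rw [trace_matrixEnd]
  simp only [congOp_single_apply, Matrix.trace, Matrix.diag_apply]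
  rw [Finset.sum_mul_sum]

theorem trace_transLin_congOp (A : Matrix (Fin n) (Fin n) ℂ) :
    LinearMap.trace ℂ _ (transLin ∘ₗ congOp A) = (A * A).trace := by
  rw [trace_matrixEnd]
  simp only [LinearMap.comp_apply, transLin_apply, Matrix.transpose_apply, congOp_single_apply,
    Matrix.trace, Matrix.diag_apply, Matrix.mul_apply]

end MatrixOps

section Indicator

variable {G : Type u} [Group G] [Fintype G] {n : ℕ}

/-- The averaging projection onto the invariant bilinear forms. -/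
noncomputable def avgOp (ρ : Representation ℂ G (Fin n → ℂ)) :
    Matrix (Fin n) (Fin n) ℂ →ₗ[ℂ] Matrix (Fin n) (Fin n) ℂ :=
  (Nat.card G : ℂ)⁻¹ • ∑ g : G, congOp (mat ρ g)

theorem congOp_comp_avgOp (ρ : Representation ℂ G (Fin n → ℂ)) (h : G) :
    congOp (mat ρ h) ∘ₗ avgOp ρ = avgOp ρ := by
  unfold avgOp
  rw [LinearMap.comp_smul]
  congr 1
  change congOp (mat ρ h) * ∑ g : G, congOp (mat ρ g) = _
  rw [Finset.mul_sum]
  refine Fintype.sum_equiv (Equiv.mulRight h) _ _ fun g => ?_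
  change congOp (mat ρ h) ∘ₗ congOp (mat ρ g) = _
  rw [congOp_comp, ← mat_mul]
  rfl

theorem avgOp_idem (ρ : Representation ℂ G (Fin n → ℂ)) : avgOp ρ ∘ₗ avgOp ρ = avgOp ρ := by
  have hG : (Nat.card G : ℂ) ≠ 0 := card_ne_zero_complex
  conv_lhs => rw [avgOp]
  rw [LinearMap.smul_comp]
  change (Nat.card G : ℂ)⁻¹ • ((∑ g : G, congOp (mat ρ g)) * avgOp ρ) = _
  rw [Finset.sum_mul]
  have : ∀ g : G, congOp (mat ρ g) * avgOp ρ = avgOp ρ := fun g => congOp_comp_avgOp ρ g
  simp_rw [this]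
  rw [Finset.sum_const, Finset.card_univ, ← Nat.card_eq_fintype_card,
    ← Nat.cast_smul_eq_nsmul ℂ, smul_smul, inv_mul_cancel₀ hG, one_smul]

theorem transLin_comp_avgOp (ρ : Representation ℂ G (Fin n → ℂ)) :
    transLin ∘ₗ avgOp ρ = avgOp ρ ∘ₗ transLin := by
  unfold avgOp
  rw [LinearMap.comp_smul, LinearMap.smul_comp]
  congr 1
  change transLin * ∑ g : G, congOp (mat ρ g) = (∑ g : G, congOp (mat ρ g)) * transLin
  rw [Finset.mul_sum, Finset.sum_mul]
  refine Finset.sum_congr rfl fun g _ => ?_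
  exact transLin_comp_congOp _

theorem trace_avgOp (ρ : Representation ℂ G (Fin n → ℂ)) :
    LinearMap.trace ℂ _ (avgOp ρ)
      = (Nat.card G : ℂ)⁻¹ * ∑ g : G, ρ.character g * ρ.character g := by
  unfold avgOp
  rw [map_smul, map_sum, smul_eq_mul]
  congr 1
  refine Finset.sum_congr rfl fun g _ => ?_
  rw [trace_congOp, trace_mat]

theorem trace_transLin_avgOp (ρ : Representation ℂ G (Fin n → ℂ)) :
    LinearMap.trace ℂ _ (transLin ∘ₗ avgOp ρ)
      = (Nat.card G : ℂ)⁻¹ * ∑ g : G, ρ.character (g * g) := by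
  unfold avgOp
  rw [LinearMap.comp_smul, map_smul, smul_eq_mul]
  congr 1
  change LinearMap.trace ℂ _ (transLin * ∑ g : G, congOp (mat ρ g)) = _
  rw [Finset.mul_sum, map_sum]
  refine Finset.sum_congr rfl fun g _ => ?_
  change LinearMap.trace ℂ _ (transLin ∘ₗ congOp (mat ρ g)) = _
  rw [trace_transLin_congOp, ← mat_mul, trace_mat]

/-- trace of the averaging projection: 1 if the character is real, 0 otherwise -/
theorem trace_avgOp_irr (ρ : Representation ℂ G (Fin n → ℂ)) (hirr : ρ.IsIrreducible) :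
    LinearMap.trace ℂ _ (avgOp ρ)
      = if (fun g => conj (ρ.character g)) = ρ.character then 1 else 0 := by
  classical
  have hχ : IsIrrCharacter G ρ.character := ⟨n, ρ, hirr, rfl⟩
  have h := classInner_irr hχ (IsIrrCharacter.conj hχ)
  rw [classInner_def] at h
  simp only [Complex.conj_conj] at h
  rw [trace_avgOp, h]
  exact if_congr eq_comm rfl rfl

/-- **Frobenius–Schur**: the indicator of an irreducible character is `0`, `1` or `-1`; it is
`0` iff the character is not real-valued. -/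
theorem indicator_cases {χ : G → ℂ} (hχ : IsIrrCharacter G χ) :
    ((fun g => conj (χ g)) ≠ χ ∧ (Nat.card G : ℂ)⁻¹ * ∑ g : G, χ (g * g) = 0) ∨
    ((fun g => conj (χ g)) = χ ∧ ((Nat.card G : ℂ)⁻¹ * ∑ g : G, χ (g * g) = 1 ∨
      (Nat.card G : ℂ)⁻¹ * ∑ g : G, χ (g * g) = -1)) := by
  classical
  obtain ⟨n, ρ, hirr, rfl⟩ := hχ
  have htr := trace_avgOp_irr ρ hirr
  rw [← trace_transLin_avgOp]
  by_cases hreal : (fun g => conj (ρ.character g)) = ρ.character
  · right
    refine ⟨hreal, ?_⟩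
    rw [if_pos hreal] at htr
    obtain ⟨B, ε, -, -, -, -, hε, hval⟩ := exists_eigen_of_trace_one (avgOp ρ) transLin
      (avgOp_idem ρ) transLin_comp_transLin (transLin_comp_avgOp ρ) htr
    rw [hval]
    exact hε
  · left
    refine ⟨hreal, ?_⟩
    rw [if_neg hreal] at htr
    rw [eq_zero_of_trace_zero (avgOp ρ) (avgOp_idem ρ) htr, LinearMap.comp_zero, map_zero]

end Indicator

section Forms

variable {G : Type u} [Group G] [Fintype G] {n : ℕ}

/-- a form fixed by the averaging operator is invariant -/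
theorem invariant_of_avgOp_fixed (ρ : Representation ℂ G (Fin n → ℂ))
    (B : Matrix (Fin n) (Fin n) ℂ) (hB : avgOp ρ B = B) (g : G) :
    (mat ρ g)ᵀ * B * mat ρ g = B := by
  have := LinearMap.congr_fun (congOp_comp_avgOp ρ g) B
  rw [LinearMap.comp_apply, hB] at this
  exact this

/-- an invariant form is fixed by the averaging operator -/
theorem avgOp_fixed_of_invariant (ρ : Representation ℂ G (Fin n → ℂ))
    (M : Matrix (Fin n) (Fin n) ℂ) (hM : ∀ g, (mat ρ g)ᵀ * M * mat ρ g = M) :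
    avgOp ρ M = M := by
  have hG : (Nat.card G : ℂ) ≠ 0 := card_ne_zero_complex
  unfold avgOp
  rw [LinearMap.smul_apply, LinearMap.sum_apply]
  simp_rw [congOp_apply, hM]
  rw [Finset.sum_const, Finset.card_univ, ← Nat.card_eq_fintype_card,
    ← Nat.cast_smul_eq_nsmul ℂ, smul_smul, inv_mul_cancel₀ hG, one_smul]

/-- **Invariant bilinear form** of a real-valued irreducible character, with its symmetry sign
equal to the Frobenius–Schur indicator. -/
theorem exists_invariant_form (ρ : Representation ℂ G (Fin n → ℂ)) (hirr : ρ.IsIrreducible)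
    (hreal : (fun g => conj (ρ.character g)) = ρ.character) :
    ∃ (B : Matrix (Fin n) (Fin n) ℂ) (ε : ℂ), B ≠ 0 ∧ (∀ g, (mat ρ g)ᵀ * B * mat ρ g = B) ∧
      (∀ M : Matrix (Fin n) (Fin n) ℂ, (∀ g, (mat ρ g)ᵀ * M * mat ρ g = M) → ∃ c : ℂ, M = c • B) ∧
      Bᵀ = ε • B ∧ (ε = 1 ∨ ε = -1) ∧
      (Nat.card G : ℂ)⁻¹ * ∑ g : G, ρ.character (g * g) = ε := by
  classical
  have htr := trace_avgOp_irr ρ hirr
  rw [if_pos hreal] at htr
  obtain ⟨B, ε, hB0, hPB, hPX, hτB, hε, hval⟩ := exists_eigen_of_trace_one (avgOp ρ) transLin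
    (avgOp_idem ρ) transLin_comp_transLin (transLin_comp_avgOp ρ) htr
  refine ⟨B, ε, hB0, invariant_of_avgOp_fixed ρ B hPB, ?_, hτB, hε, ?_⟩
  · intro M hM
    obtain ⟨c, hc⟩ := hPX M
    rw [avgOp_fixed_of_invariant ρ M hM] at hc
    exact ⟨c, hc⟩
  · rw [← trace_transLin_avgOp, hval]

omit [Fintype G] in
theorem mat_mulVec (ρ : Representation ℂ G (Fin n → ℂ)) (g : G) (v : Fin n → ℂ) :
    mat ρ g *ᵥ v = ρ g v := by
  unfold mat
  exact LinearMap.toMatrix'_mulVec (ρ g) v

omit [Fintype G] in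
/-- a nonzero invariant form of an irreducible representation is nondegenerate -/
theorem det_ne_zero_of_invariant (ρ : Representation ℂ G (Fin n → ℂ)) (hirr : ρ.IsIrreducible)
    (B : Matrix (Fin n) (Fin n) ℂ) (hB0 : B ≠ 0) (hB : ∀ g, (mat ρ g)ᵀ * B * mat ρ g = B) :
    B.det ≠ 0 := by
  intro hdet
  obtain ⟨v, hv0, hv⟩ := Matrix.exists_mulVec_eq_zero_iff.mpr hdet
  have hswap : ∀ g : G, B * mat ρ g = (mat ρ g⁻¹)ᵀ * B := by
    intro g
    have h1 := hB g⁻¹
    calc B * mat ρ g = ((mat ρ g⁻¹)ᵀ * B * mat ρ g⁻¹) * mat ρ g := by rw [h1]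
      _ = (mat ρ g⁻¹)ᵀ * B * (mat ρ g⁻¹ * mat ρ g) := by simp only [Matrix.mul_assoc]
      _ = (mat ρ g⁻¹)ᵀ * B := by rw [← mat_mul, inv_mul_cancel, mat_one, Matrix.mul_one]
  let U : Subrepresentation ρ :=
    { toSubmodule := LinearMap.ker (Matrix.mulVecLin B)
      apply_mem_toSubmodule := by
        intro g w hw
        rw [LinearMap.mem_ker, Matrix.mulVecLin_apply] at hw ⊢
        rw [← mat_mulVec, Matrix.mulVec_mulVec, hswap g, ← Matrix.mulVec_mulVec, hw,
          Matrix.mulVec_zero] }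
  rcases hirr.eq_bot_or_eq_top U with h | h
  · have hmem : v ∈ U.toSubmodule := by
      change v ∈ LinearMap.ker (Matrix.mulVecLin B)
      rw [LinearMap.mem_ker, Matrix.mulVecLin_apply]
      exact hv
    rw [h] at hmem
    exact hv0 ((Submodule.mem_bot ℂ).mp hmem)
  · apply hB0
    have hall : ∀ w : Fin n → ℂ, B *ᵥ w = 0 := by
      intro w
      have hw : w ∈ U.toSubmodule := by rw [h]; trivial
      have hw' : w ∈ LinearMap.ker (Matrix.mulVecLin B) := hw
      rw [LinearMap.mem_ker, Matrix.mulVecLin_apply] at hw'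
      exact hw'
    ext i j
    have := congrFun (hall (Pi.single j 1)) i
    simpa using this

/-- A real-valued irreducible character of odd degree has indicator `+1`. -/
theorem indicator_eq_one_of_odd {χ : G → ℂ} (hχ : IsIrrCharacter G χ)
    (hreal : (fun g => conj (χ g)) = χ) (d : ℕ) (hd : χ 1 = d) (hodd : Odd d) :
    (Nat.card G : ℂ)⁻¹ * ∑ g : G, χ (g * g) = 1 := by
  obtain ⟨n, ρ, hirr, rfl⟩ := hχ
  obtain ⟨B, ε, hB0, hBinv, -, hBt, hε, hval⟩ := exists_invariant_form ρ hirr hreal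
  rw [hval]
  rcases hε with h | h
  · exact h
  · exfalso
    have hn : n = d := by
      rw [Representation.char_one] at hd
      simp only [Module.finrank_fintype_fun_eq_card, Fintype.card_fin] at hd
      exact_mod_cast hd
    have hdet := det_ne_zero_of_invariant ρ hirr B hB0 hBinv
    have h1 : B.det = (-1 : ℂ) ^ n * B.det := by
      conv_lhs => rw [← Matrix.det_transpose, hBt, h, Matrix.det_smul, Fintype.card_fin]
    have hoddn : Odd n := hn ▸ hodd
    rw [hoddn.neg_one_pow] at h1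
    apply hdet
    linear_combination h1 / 2

end Forms

end Cfsg.Agent.Lib.Helper2_FrobSchur
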