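import Mathlib
import Cfsg.Prelude.Def_Characters
import Cfsg.Prelude.Def_Transfer
import Cfsg.Agent.Lib.Helper2_ClassFn
import Cfsg.Agent.Lib.Helper2_CharBasic
import Cfsg.Agent.Lib.Helper2_CharOrtho
import Cfsg.Agent.Lib.Helper2_CharMore
import Cfsg.Agent.Lib.Helper2_CharSum
import Cfsg.Agent.Lib.Helper2_CharCentral
import Cfsg.Agent.Lib.Helper2_CharBurnside
import Cfsg.Agent.Lib.Helper2_Gallagher

set_option autoImplicit false

/-!
# Irreducible characters that are nonzero on exactly two classes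
-/

namespace Cfsg.Agent.Lib.Helper2_Gagola

open Cfsg
open Cfsg.Agent.Lib.Helper2_ClassFn
open Cfsg.Agent.Lib.Helper2_CharBasic
open Cfsg.Agent.Lib.Helper2_CharOrtho
open Cfsg.Agent.Lib.Helper2_CharMore
open Cfsg.Agent.Lib.Helper2_CharSum
open Cfsg.Agent.Lib.Helper2_CharCentral
open Cfsg.Agent.Lib.Helper2_CharBurnside
open Cfsg.Agent.Lib.Helper2_Gallagher
open scoped ComplexConjugate

universe u

section Main

variable {G : Type u} [Group G] [Fintype G]

/-- If all irreducible characters take the value of their degree at `x`, then `x = 1`. -/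
theorem eq_one_of_forall_irr [DecidableEq G] (x : G)
    (h : ∀ ψ : G → ℂ, IsIrrCharacter G ψ → ψ x = ψ 1) : x = 1 := by
  by_contra hx
  have h1 := sum_irr_mul_deg (G := G) x
  rw [if_neg hx] at h1
  have h2 := sum_irr_mul_deg (G := G) 1
  rw [if_pos rfl] at h2
  have h3 : ∑ χ ∈ irrFinset G, χ x * χ 1 = ∑ χ ∈ irrFinset G, χ 1 * χ 1 :=
    Finset.sum_congr rfl fun χ hχ => by rw [h χ (mem_irrFinset.mp hχ)]
  rw [h1, h2] at h3
  exact card_ne_zero_complex (G := G) h3.symm

open Classical in
/-- Summation of a function supported on `{1} ∪ class(c)`. -/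
theorem sum_two_classes (c : G) (hc : c ≠ 1) (F : G → ℂ)
    (hF : ∀ g, g ≠ 1 → ¬ IsConj g c → F g = 0) (hcl : ∀ g, IsConj g c → F g = F c) :
    ∑ g : G, F g = F 1 + ((Finset.univ.filter (fun x : G => IsConj x c)).card : ℂ) * F c := by
  set Cc := Finset.univ.filter (fun x : G => IsConj x c) with hCc
  have h1 : (1 : G) ∉ Cc := by
    rw [hCc, Finset.mem_filter]
    rintro ⟨-, h⟩
    exact hc (isConj_one_right.mp h)
  have hsub : insert (1 : G) Cc ⊆ Finset.univ := Finset.subset_univ _
  rw [← Finset.sum_subset hsub, Finset.sum_insert h1]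
  · congr 1
    rw [Finset.sum_congr rfl (fun g hg => hcl g (Finset.mem_filter.mp hg).2), Finset.sum_const,
      nsmul_eq_mul]
  · intro g _ hg
    rw [Finset.mem_insert, not_or] at hg
    apply hF g hg.1
    intro h
    exact hg.2 (Finset.mem_filter.mpr ⟨Finset.mem_univ _, h⟩)

set_option maxHeartbeats 1000000 in
theorem gagola_main (hG : 2 < Nat.card G) {χ : G → ℂ} (hχ : IsIrrCharacter G χ)
    (hcl : Nat.card {C : ConjClasses G // ∃ g ∈ C.carrier, χ g ≠ 0} = 2) :
    ∃ (c : G) (N : Subgroup G), c ≠ 1 ∧ N.Normal ∧ (∀ g, χ g ≠ 0 ↔ g = 1 ∨ IsConj g c) ∧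
      (∀ g, g ∈ N ↔ χ g ≠ 0) ∧
      (∀ ψ, IsIrrCharacter G ψ → ψ ≠ χ → ∀ n ∈ N, ψ n = ψ 1) ∧ (∀ g, χ g = χ 1 → g = 1) ∧
      (∀ K : Subgroup G, K.Normal → K ≠ ⊥ → N ≤ K) := by
  classical
  have hχc := IsIrrCharacter.isCharacter hχ
  have hχcf := IsCharacter.isClassFunction hχc
  have hχ1 : χ 1 ≠ 0 := IsIrrCharacter.apply_one_ne_zero hχ
  obtain ⟨d, hd0, hd⟩ := IsIrrCharacter.apply_one hχ
  have hconjval : ∀ (F : G → ℂ), IsClassFunction G F → ∀ g h, IsConj g h → F g = F h := by
    intro F hF g h hgh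
    obtain ⟨x, hx⟩ := isConj_iff.mp hgh
    rw [← hx, hF]
  -- the two classes
  let x0 : {C : ConjClasses G // ∃ g ∈ C.carrier, χ g ≠ 0} :=
    ⟨ConjClasses.mk 1, 1, ConjClasses.mem_carrier_mk, hχ1⟩
  obtain ⟨y, hy, hyuniq⟩ := (Nat.card_eq_two_iff' x0).mp hcl
  obtain ⟨⟨C, c, hcC, hχc0⟩, rfl⟩ : ∃ y', y' = y := ⟨y, rfl⟩
  have hCmk : ConjClasses.mk c = C := ConjClasses.mem_carrier_iff_mk_eq.mp hcC
  have hc1 : c ≠ 1 := by
    rintro rfl
    apply hy
    apply Subtype.ext
    exact hCmk.symm
  have hsupp : ∀ g, χ g ≠ 0 ↔ g = 1 ∨ IsConj g c := by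
    intro g
    constructor
    · intro hg
      let z : {C : ConjClasses G // ∃ g ∈ C.carrier, χ g ≠ 0} :=
        ⟨ConjClasses.mk g, g, ConjClasses.mem_carrier_mk, hg⟩
      by_cases hz : z = x0
      · left
        have := congrArg Subtype.val hz
        exact isConj_one_left.mp (ConjClasses.mk_eq_mk_iff_isConj.mp this)
      · right
        have := congrArg Subtype.val (hyuniq z hz)
        change ConjClasses.mk g = C at this
        rw [← hCmk] at this
        exact ConjClasses.mk_eq_mk_iff_isConj.mp this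
    · rintro (rfl | h)
      · exact hχ1
      · rw [hconjval χ hχcf g c h]; exact hχc0
  set m := (Finset.univ.filter (fun x : G => IsConj x c)).card with hm
  have hm0 : 0 < m := Finset.card_pos.mpr ⟨c, Finset.mem_filter.mpr ⟨Finset.mem_univ _, IsConj.refl c⟩⟩
  have hmC : (m : ℂ) ≠ 0 := by exact_mod_cast hm0.ne'
  -- χ is not the trivial character
  have hne1 : χ ≠ fun _ => (1 : ℂ) := by
    intro h
    have hall : ∀ g : G, g = 1 ∨ IsConj g c := fun g => (hsupp g).mp (by rw [h]; exact one_ne_zero)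
    have hcard : Nat.card G = 1 + m := by
      have := sum_two_classes c hc1 (fun _ => (1 : ℂ)) (fun g h1 h2 => by
        rcases hall g with h | h
        · exact absurd h h1
        · exact absurd h h2) (fun _ _ => rfl)
      rw [Finset.sum_const, Finset.card_univ, nsmul_eq_mul, mul_one, mul_one,
        ← Nat.card_eq_fintype_card] at this
      exact_mod_cast this
    have hdvd : m ∣ Nat.card G := ⟨_, (card_class_mul_card_centralizer c).symm⟩
    rw [hcard] at hdvd
    have : m ∣ 1 := (Nat.dvd_add_left (dvd_refl m)).mp hdvd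
    have hm1 : m = 1 := Nat.dvd_one.mp this
    omega
  -- value at c
  have hχcval : χ 1 + (m : ℂ) * χ c = 0 := by
    have h0 := classInner_irr_of_ne hχ isIrrCharacter_one hne1
    rw [classInner_def] at h0
    have hs := sum_two_classes c hc1 (fun g => χ g * conj ((fun _ : G => (1 : ℂ)) g))
      (fun g h1 h2 => by
        have : χ g = 0 := by
          by_contra h
          rcases (hsupp g).mp h with h | h
          · exact h1 h
          · exact h2 h
        simp [this])
      (fun g hg => by simp [hconjval χ hχcf g c hg])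
    rw [hs] at h0
    have := (mul_eq_zero.mp h0).resolve_left (inv_ne_zero card_ne_zero_complex)
    simp only [map_one, mul_one] at this
    exact this
  have hχcreal : conj (χ c) = χ c := by
    have : χ c = - (d : ℂ) / m := by
      rw [hd] at hχcval
      field_simp
      linear_combination hχcval
    rw [this]
    simp
  -- other characters are trivial on c
  have hother : ∀ ψ, IsIrrCharacter G ψ → ψ ≠ χ → ψ c = ψ 1 := by
    intro ψ hψ hne
    have hψcf := IsCharacter.isClassFunction (IsIrrCharacter.isCharacter hψ)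
    have h0 := classInner_irr_of_ne hψ hχ hne
    rw [classInner_def] at h0
    have hs := sum_two_classes c hc1 (fun g => ψ g * conj (χ g))
      (fun g h1 h2 => by
        have : χ g = 0 := by
          by_contra h
          rcases (hsupp g).mp h with h | h
          · exact h1 h
          · exact h2 h
        simp [this])
      (fun g hg => by
        rw [hconjval χ hχcf g c hg, hconjval ψ hψcf g c hg])
    rw [hs] at h0
    have h1 := (mul_eq_zero.mp h0).resolve_left (inv_ne_zero card_ne_zero_complex)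
    rw [hχcreal, hd, Complex.conj_natCast] at h1
    have h2 : (m : ℂ) * χ c = - (d : ℂ) := by rw [hd] at hχcval; linear_combination hχcval
    have h3 : ψ 1 * (d : ℂ) - ψ c * (d : ℂ) = 0 := by
      have : (m : ℂ) * (ψ c * χ c) = ψ c * ((m : ℂ) * χ c) := by ring
      rw [this, h2] at h1
      linear_combination h1
    have hdC : (d : ℂ) ≠ 0 := by exact_mod_cast hd0.ne'
    have h4 : (ψ 1 - ψ c) * (d : ℂ) = 0 := by linear_combination h3
    have := (mul_eq_zero.mp h4).resolve_right hdC
    exact (sub_eq_zero.mp this).symm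
  -- the subgroup N
  have hker : ∀ ψ : {ψ : IrrCharacter G // ψ.1 ≠ χ}, ∃ K : Subgroup G, K.Normal ∧
      ∀ x, x ∈ K ↔ ψ.1.1 x = ψ.1.1 1 := fun ψ => exists_ker (IsIrrCharacter.isCharacter ψ.1.2)
  choose Kf hKn hKf using hker
  let N : Subgroup G := ⨅ ψ, Kf ψ
  have hNn : N.Normal := by
    haveI := hKn
    exact Subgroup.normal_iInf_normal hKn
  have hNmem : ∀ g, g ∈ N ↔ ∀ ψ, IsIrrCharacter G ψ → ψ ≠ χ → ψ g = ψ 1 := by
    intro g
    rw [Subgroup.mem_iInf]
    constructor
    · intro h ψ hψ hne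
      exact (hKf ⟨⟨ψ, hψ⟩, hne⟩ g).mp (h _)
    · intro h ψ
      exact (hKf ψ g).mpr (h ψ.1.1 ψ.1.2 ψ.2)
  have hNsupp : ∀ g, g ∈ N ↔ χ g ≠ 0 := by
    intro g
    constructor
    · intro hg
      by_cases hg1 : g = 1
      · rw [hg1]; exact hχ1
      intro h0
      have h1 := sum_irr_mul_deg (G := G) g
      rw [if_neg hg1] at h1
      have h2 : ∑ ψ ∈ irrFinset G, ψ g * ψ 1
          = ∑ ψ ∈ (irrFinset G).erase χ, ψ 1 * ψ 1 := by
        rw [← Finset.add_sum_erase _ _ (mem_irrFinset.mpr hχ), h0, zero_mul, zero_add]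
        refine Finset.sum_congr rfl fun ψ hψ => ?_
        rw [(hNmem g).mp hg ψ (mem_irrFinset.mp (Finset.mem_of_mem_erase hψ))
          (Finset.ne_of_mem_erase hψ)]
      rw [h2] at h1
      -- sum of squares of positive naturals, nonempty
      have h3 : ∀ ψ ∈ (irrFinset G).erase χ, 0 ≤ (ψ 1 * ψ 1).re := by
        intro ψ hψ
        obtain ⟨n, -, hn⟩ := IsIrrCharacter.apply_one
          (mem_irrFinset.mp (Finset.mem_of_mem_erase hψ))
        rw [hn]
        have : ((n : ℂ) * (n : ℂ)).re = (n : ℝ) * n := by simp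
        rw [this]
        positivity
      have h4 : (fun _ : G => (1 : ℂ)) ∈ (irrFinset G).erase χ :=
        Finset.mem_erase.mpr ⟨Ne.symm hne1, mem_irrFinset.mpr isIrrCharacter_one⟩
      have h5 := Finset.single_le_sum h3 h4
      rw [← Complex.re_sum, h1] at h5
      simp at h5
      linarith
    · intro hg
      rw [hNmem]
      intro ψ hψ hne
      rcases (hsupp g).mp hg with rfl | h
      · rfl
      · rw [hconjval ψ (IsCharacter.isClassFunction (IsIrrCharacter.isCharacter hψ)) g c h]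
        exact hother ψ hψ hne
  have hfaith : ∀ g, χ g = χ 1 → g = 1 := by
    intro g hg
    by_contra hg1
    have h0 : χ g ≠ 0 := by rw [hg]; exact hχ1
    rcases (hsupp g).mp h0 with h | h
    · exact hg1 h
    · rw [hconjval χ hχcf g c h] at hg
      rw [hg] at hχcval
      have : χ 1 * (1 + (m : ℂ)) = 0 := by linear_combination hχcval
      rcases mul_eq_zero.mp this with h' | h'
      · exact hχ1 h'
      · have h'' : ((1 + m : ℕ) : ℂ) = 0 := by push_cast; exact h'
        have : (1 + m : ℕ) = 0 := by exact_mod_cast h''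
        omega
  refine ⟨c, N, hc1, hNn, hsupp, hNsupp, ?_, hfaith, ?_⟩
  · intro ψ hψ hne n hn
    exact (hNmem n).mp hn ψ hψ hne
  · intro K hKn hKbot
    haveI := hKn
    haveI : Fintype (G ⧸ K) := Fintype.ofFinite _
    obtain ⟨⟨k, hkK⟩, hk1⟩ := (Subgroup.ne_bot_iff_exists_ne_one).mp hKbot
    have hk1' : k ≠ 1 := fun h => hk1 (Subtype.ext h)
    have hcK : c ∈ K := by
      rw [← QuotientGroup.eq_one_iff]
      apply eq_one_of_forall_irr
      intro β hβ
      have hinf : IsIrrCharacter G (infl K β) := IsIrrCharacter.infl K hβ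
      have hne : infl K β ≠ χ := by
        intro h
        apply hk1'
        apply hfaith
        rw [← h, infl_apply, infl_apply, (QuotientGroup.eq_one_iff k).mpr hkK, QuotientGroup.mk_one]
      have := hother (infl K β) hinf hne
      rw [infl_apply, infl_apply, QuotientGroup.mk_one] at this
      exact this
    intro n hn
    rcases (hsupp n).mp ((hNsupp n).mp hn) with rfl | h
    · exact K.one_mem
    · obtain ⟨x, hx⟩ := isConj_iff.mp h.symm
      rw [← hx]
      exact hKn.conj_mem c hcK x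

end Main

section Elem

variable {G : Type u} [Group G] [Finite G]

theorem elementary_of_all_conj (N : Subgroup G) [hN : N.Normal] (hN1 : N ≠ ⊥)
    (hconj : ∀ x ∈ N, ∀ y ∈ N, x ≠ 1 → y ≠ 1 → ∃ g : G, g * x * g⁻¹ = y) :
    ∃ p : ℕ, p.Prime ∧ IsElementaryAbelian p N := by
  haveI : Nontrivial N := (Subgroup.nontrivial_iff_ne_bot N).mpr hN1
  have hcard : Nat.card N ≠ 1 := by
    intro h
    exact hN1 ((Subgroup.card_eq_one).mp h)
  obtain ⟨p, hp, hpd⟩ := Nat.exists_prime_and_dvd hcard
  haveI : Fact p.Prime := ⟨hp⟩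
  obtain ⟨z, hz⟩ := exists_prime_orderOf_dvd_card' p hpd
  have hz1 : (z : G) ≠ 1 := by
    intro h
    have : z = 1 := Subtype.ext h
    rw [this, orderOf_one] at hz
    exact hp.one_lt.ne hz
  have hpow : ∀ a ∈ N, a ^ p = 1 := by
    intro a ha
    by_cases ha1 : a = 1
    · rw [ha1, one_pow]
    obtain ⟨g, hg⟩ := hconj z z.2 a ha hz1 ha1
    rw [← hg, conj_pow]
    have : (z : G) ^ p = 1 := by
      have := pow_orderOf_eq_one z
      rw [hz] at this
      have h2 := congrArg Subtype.val this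
      simpa using h2
    rw [this, mul_one, mul_inv_cancel]
  have hPG : IsPGroup p N := by
    intro n
    refine ⟨1, ?_⟩
    apply Subtype.ext
    rw [pow_one]
    simpa using hpow n n.2
  haveI := hPG.center_nontrivial
  obtain ⟨⟨w, hwc⟩, hw1⟩ := exists_ne (1 : Subgroup.center N)
  have hw1' : (w : G) ≠ 1 := by
    intro h
    apply hw1
    apply Subtype.ext
    apply Subtype.ext
    exact h
  have hcentral : ∀ a ∈ N, ∀ n ∈ N, a * n = n * a := by
    intro a ha n hn
    by_cases ha1 : a = 1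
    · rw [ha1, one_mul, mul_one]
    obtain ⟨g, hg⟩ := hconj w w.2 a ha hw1' ha1
    have hn' : g⁻¹ * n * g ∈ N := by
      have := hN.conj_mem n hn g⁻¹
      rwa [inv_inv] at this
    have hcomm := Subgroup.mem_center_iff.mp hwc ⟨g⁻¹ * n * g, hn'⟩
    have hcomm' : (g⁻¹ * n * g) * (w : G) = (w : G) * (g⁻¹ * n * g) :=
      congrArg Subtype.val hcomm
    rw [← hg]
    calc g * (w : G) * g⁻¹ * n = g * ((w : G) * (g⁻¹ * n * g)) * g⁻¹ := by group
      _ = g * ((g⁻¹ * n * g) * (w : G)) * g⁻¹ := by rw [hcomm']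
      _ = n * (g * (w : G) * g⁻¹) := by group
  refine ⟨p, hp, ⟨⟨fun a b => ?_⟩⟩, hpow⟩
  apply Subtype.ext
  exact hcentral a a.2 b b.2

end Elem

end Cfsg.Agent.Lib.Helper2_Gagola
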