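import Mathlib
import Cfsg.Prelude.Def_Characters
import Cfsg.Prelude.Def_Transfer
import Cfsg.Agent.Lib.Helper2_ClassFn
import Cfsg.Agent.Lib.Helper2_CharBasic
import Cfsg.Agent.Lib.Helper2_CharOrtho
import Cfsg.Agent.Lib.Helper2_CharMore
import Cfsg.Agent.Lib.Helper2_CharSum
import Cfsg.Agent.Lib.Helper2_CharCentral
import Cfsg.Agent.Lib.Helper2_CharBurnside
import Cfsg.Agent.Lib.Helper2_CharCenter
import Cfsg.Agent.Lib.Helper2_Gallagher
import Cfsg.Agent.Lib.Helper2_Gagola
import Cfsg.Agent.Lib.Helper2_Clifford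
import Cfsg.Agent.Lib.Helper2_CharDeg
import Cfsg.Agent.Lib.Helper2_CharExtra
import Cfsg.Agent.Lib.Helper2_CliffordCorr
import Cfsg.Agent.Lib.Helper2_Ito
import Cfsg.Agent.S0173

set_option autoImplicit false

/-!
# Characters nonzero on two classes: centralizers
-/

namespace Cfsg.Agent.Lib.Helper2_Gagola2

open Cfsg
open Cfsg.Agent.Lib.Helper2_ClassFn
open Cfsg.Agent.Lib.Helper2_CharBasic
open Cfsg.Agent.Lib.Helper2_CharOrtho
open Cfsg.Agent.Lib.Helper2_CharMore
open Cfsg.Agent.Lib.Helper2_CharSum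
open Cfsg.Agent.Lib.Helper2_CharCentral
open Cfsg.Agent.Lib.Helper2_CharBurnside
open Cfsg.Agent.Lib.Helper2_CharCenter
open Cfsg.Agent.Lib.Helper2_Gallagher
open Cfsg.Agent.Lib.Helper2_Gagola
open Cfsg.Agent.Lib.Helper2_Clifford
open Cfsg.Agent.Lib.Helper2_CharDeg
open Cfsg.Agent.Lib.Helper2_CharExtra
open Cfsg.Agent.Lib.Helper2_CliffordCorr
open Cfsg.Agent.Lib.Helper2_Ito
open scoped ComplexConjugate

universe u

section Cent

variable {G : Type u} [Group G] [Fintype G]

/-- If every irreducible character other than `χ` has `N` in its kernel, `χ` is faithful and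
`N ≠ 1`, then for `x` with `χ x = 0` the centralizers of `x` in `G` and of its image in `G / N`
have the same order. -/
theorem card_centralizer_eq (N : Subgroup G) [hN : N.Normal] (hN1 : N ≠ ⊥) {χ : G → ℂ}
    (hχ : IsIrrCharacter G χ) (hfaith : ∀ g, χ g = χ 1 → g = 1)
    (hother : ∀ ψ, IsIrrCharacter G ψ → ψ ≠ χ → ∀ n ∈ N, ψ n = ψ 1) (x : G) (hx : χ x = 0) :
    Nat.card (Subgroup.centralizer ({x} : Set G))
      = Nat.card (Subgroup.centralizer ({(x : G ⧸ N)} : Set (G ⧸ N))) := by
  classical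
  haveI : Fintype (G ⧸ N) := Fintype.ofFinite _
  have h1 := second_orthogonality' (G := G) x x
  rw [if_pos (IsConj.refl x)] at h1
  have h2 := second_orthogonality' (G := G ⧸ N) (x : G ⧸ N) (x : G ⧸ N)
  rw [if_pos (IsConj.refl _)] at h2
  obtain ⟨⟨k, hkN⟩, hk1⟩ := (Subgroup.ne_bot_iff_exists_ne_one).mp hN1
  have hk1' : k ≠ 1 := fun h => hk1 (Subtype.ext h)
  have himg : (irrFinset (G ⧸ N)).image (infl N) = (irrFinset G).erase χ := by
    ext ψ
    rw [Finset.mem_image, Finset.mem_erase]
    constructor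
    · rintro ⟨β, hβ, rfl⟩
      refine ⟨?_, mem_irrFinset.mpr (IsIrrCharacter.infl N (mem_irrFinset.mp hβ))⟩
      intro h
      apply hk1'
      apply hfaith
      rw [← h, infl_apply, infl_apply, (QuotientGroup.eq_one_iff k).mpr hkN, QuotientGroup.mk_one]
    · rintro ⟨hne, hψ⟩
      have hψi := mem_irrFinset.mp hψ
      obtain ⟨β, hβ, hβψ⟩ := IsIrrCharacter.deflate hψi N (hother ψ hψi hne)
      refine ⟨β, mem_irrFinset.mpr hβ, ?_⟩
      ext g
      exact hβψ g
  have hinj : Set.InjOn (infl N) (irrFinset (G ⧸ N) : Set (G ⧸ N → ℂ)) := by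
    intro β _ β' _ h
    ext q
    induction q using QuotientGroup.induction_on with
    | H g => exact congrFun h g
  rw [← Finset.add_sum_erase _ _ (mem_irrFinset.mpr hχ), hx, zero_mul, zero_add, ← himg,
    Finset.sum_image hinj] at h1
  have h3 : (Nat.card (Subgroup.centralizer ({x} : Set G)) : ℂ)
      = (Nat.card (Subgroup.centralizer ({(x : G ⧸ N)} : Set (G ⧸ N))) : ℂ) := by
    rw [← h1, ← h2]
    rfl
  exact_mod_cast h3

end Cent

section Coprime

variable {G : Type u} [Group G] [Finite G]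

/-- Coprime action: an element of prime order `q ≠ p` that commutes with `g` modulo the normal
`p`-subgroup `N` is conjugate under `N` to its `g`-conjugate. -/
theorem exists_conj_eq_of_comm_mod (p q : ℕ) (hp : p.Prime) (hq : q.Prime) (hpq : p ≠ q)
    (N : Subgroup G) [hN : N.Normal] (hNp : IsPGroup p N) (z : G) (hz : orderOf z = q) (g : G)
    (hg : g * z * g⁻¹ * z⁻¹ ∈ N) : ∃ n ∈ N, n * (g * z * g⁻¹) * n⁻¹ = z := by
  classical
  haveI : Fact q.Prime := ⟨hq⟩
  haveI : Fact p.Prime := ⟨hp⟩
  set z' := g * z * g⁻¹ with hz'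
  set u := z' * z⁻¹ with hu
  have huN : u ∈ N := hg
  have hz'u : z' = u * z := by rw [hu]; group
  letI act : MulAction N G := MulAction.compHom G ((MulAut.conj : G →* MulAut G).comp N.subtype)
  have hact : ∀ (n : N) (x : G), n • x = (n : G) * x * (n : G)⁻¹ := fun n x => rfl
  have hzq : z ^ q = 1 := by rw [← hz]; exact pow_orderOf_eq_one z
  -- the orbit is stable under conjugation by z
  have hstable : ∀ w ∈ MulAction.orbit N z', z * w * z⁻¹ ∈ MulAction.orbit N z' := by
    rintro w ⟨n, rfl⟩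
    have hmem : z * (n : G) * z⁻¹ * u⁻¹ ∈ N :=
      N.mul_mem (hN.conj_mem n n.2 z) (N.inv_mem huN)
    refine ⟨⟨z * (n : G) * z⁻¹ * u⁻¹, hmem⟩, ?_⟩
    change (z * (n : G) * z⁻¹ * u⁻¹) * z' * (z * (n : G) * z⁻¹ * u⁻¹)⁻¹ = z * (n • z') * z⁻¹
    rw [hact, hz'u]
    group
  haveI : Fintype (MulAction.orbit N z') := Fintype.ofFinite _
  let f : Function.End (MulAction.orbit N z') := fun w => ⟨z * w.1 * z⁻¹, hstable w.1 w.2⟩
  have hiter : ∀ (j : ℕ) (w : MulAction.orbit N z'), ((f ^ j) w).1 = z ^ j * w.1 * (z ^ j)⁻¹ := by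
    intro j
    induction j with
    | zero =>
      intro w
      rw [pow_zero, pow_zero, one_mul, inv_one, mul_one]
      rfl
    | succ j ih =>
      intro w
      rw [pow_succ', Function.End.mul_def]
      change z * ((f ^ j) w).1 * z⁻¹ = _
      rw [ih, pow_succ']
      group
  have hf : f ^ q ^ 1 = 1 := by
    funext w
    apply Subtype.ext
    rw [pow_one, hiter, hzq, one_mul, inv_one, mul_one]
    rfl
  have hmod := Equiv.Perm.card_fixedPoints_modEq (p := q) (n := 1) hf
  have hcard : ¬ q ∣ Fintype.card (MulAction.orbit N z') := by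
    intro hdvd
    have h1 : (MulAction.stabilizer N z').index = Fintype.card (MulAction.orbit N z') := by
      rw [MulAction.index_stabilizer, ← Nat.card_coe_set_eq, Nat.card_eq_fintype_card]
    have h2 : Fintype.card (MulAction.orbit N z') ∣ Nat.card N := by
      rw [← h1]; exact Subgroup.index_dvd_card _
    obtain ⟨k, hk⟩ := IsPGroup.iff_card.mp hNp
    rw [hk] at h2
    have := (Nat.prime_dvd_prime_iff_eq hq hp).mp (hq.dvd_of_dvd_pow (hdvd.trans h2))
    exact hpq this.symm
  have hne : Fintype.card (Function.fixedPoints f) ≠ 0 := by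
    intro h0
    rw [h0] at hmod
    exact hcard ((Nat.modEq_zero_iff_dvd).mp hmod)
  obtain ⟨⟨⟨w, n, hnw⟩, hw⟩⟩ := Fintype.card_pos_iff.mp (Nat.pos_of_ne_zero hne)
  have hwfix : z * w * z⁻¹ = w := congrArg Subtype.val hw
  have hnw' : (n : G) * z' * (n : G)⁻¹ = w := hnw
  refine ⟨n, n.2, ?_⟩
  rw [hnw']
  -- v = w z⁻¹ lies in N, commutes with z and has order dividing q
  set v := w * z⁻¹ with hv
  have hvN : v ∈ N := by
    have : v = (n : G) * u * (z * (n : G)⁻¹ * z⁻¹) := by
      rw [hv, ← hnw', hz'u]; group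
    rw [this]
    exact N.mul_mem (N.mul_mem n.2 huN) (hN.conj_mem _ (N.inv_mem n.2) z)
  have hwv : w = v * z := by rw [hv]; group
  have hcomm : Commute v z := by
    change v * z = z * v
    rw [hv]
    calc w * z⁻¹ * z = w := by group
      _ = z * w * z⁻¹ := hwfix.symm
      _ = z * (w * z⁻¹) := by group
  have hwq : w ^ q = 1 := by
    rw [← hnw', conj_pow, hz', conj_pow, hzq]
    group
  have hvq : v ^ q = 1 := by
    have := hcomm.mul_pow q
    rw [← hwv, hwq, hzq, mul_one] at this
    exact this.symm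
  have hv1 : v = 1 := by
    obtain ⟨k, hk⟩ := hNp ⟨v, hvN⟩
    have hk' : v ^ p ^ k = 1 := by
      have := congrArg Subtype.val hk
      simpa using this
    have h1 : orderOf v ∣ q := orderOf_dvd_of_pow_eq_one hvq
    have h2 : orderOf v ∣ p ^ k := orderOf_dvd_of_pow_eq_one hk'
    have hcop : Nat.Coprime q (p ^ k) :=
      Nat.Coprime.pow_right k ((Nat.coprime_primes hq hp).mpr (Ne.symm hpq))
    have : orderOf v = 1 := Nat.eq_one_of_dvd_coprimes hcop h1 h2
    exact orderOf_eq_one_iff.mp this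
  rw [hwv, hv1, one_mul]

/-- If the centralizers of `z` in `G` and of its image in `G / N` have the same order, then no
nonidentity element of `N` commutes with `z`. -/
theorem eq_one_of_comm_of_card_eq (p q : ℕ) (hp : p.Prime) (hq : q.Prime) (hpq : p ≠ q)
    (N : Subgroup G) [hN : N.Normal] (hNp : IsPGroup p N) (z : G) (hz : orderOf z = q)
    (hcard : Nat.card (Subgroup.centralizer ({z} : Set G))
      = Nat.card (Subgroup.centralizer ({(z : G ⧸ N)} : Set (G ⧸ N))))
    (x : G) (hxN : x ∈ N) (hxz : x * z = z * x) : x = 1 := by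
  classical
  set C := Subgroup.centralizer ({z} : Set G) with hC
  let f : C →* G ⧸ N := (QuotientGroup.mk' N).comp C.subtype
  have hrange : f.range = Subgroup.centralizer ({(z : G ⧸ N)} : Set (G ⧸ N)) := by
    ext q
    constructor
    · rintro ⟨c, rfl⟩
      rw [Subgroup.mem_centralizer_singleton_iff]
      have hc := Subgroup.mem_centralizer_singleton_iff.mp c.2
      change ((c : G) : G ⧸ N) * (z : G ⧸ N) = (z : G ⧸ N) * ((c : G) : G ⧸ N)
      rw [← QuotientGroup.mk_mul, ← QuotientGroup.mk_mul, hc]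
    · intro hq'
      induction q using QuotientGroup.induction_on with
      | H g =>
      rw [Subgroup.mem_centralizer_singleton_iff] at hq'
      have hgz : g * z * g⁻¹ * z⁻¹ ∈ N := by
        rw [← QuotientGroup.eq_one_iff]
        have h1 : ((g * z : G) : G ⧸ N) = ((z * g : G) : G ⧸ N) := by
          rw [QuotientGroup.mk_mul, QuotientGroup.mk_mul]; exact hq'
        have : g * z * g⁻¹ * z⁻¹ = (g * z) * (z * g)⁻¹ := by group
        rw [this, QuotientGroup.mk_mul, QuotientGroup.mk_inv, h1, mul_inv_cancel]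
      obtain ⟨n, hn, hnz⟩ := exists_conj_eq_of_comm_mod p q hp hq hpq N hNp z hz g hgz
      have hmem : n * g ∈ C := by
        rw [hC, Subgroup.mem_centralizer_singleton_iff]
        calc n * g * z = (n * (g * z * g⁻¹) * n⁻¹) * (n * g) := by group
          _ = z * (n * g) := by rw [hnz]
      refine ⟨⟨n * g, hmem⟩, ?_⟩
      change ((n * g : G) : G ⧸ N) = (g : G ⧸ N)
      rw [QuotientGroup.mk_mul, (QuotientGroup.eq_one_iff n).mpr hn, one_mul]
  have h1 := Subgroup.card_mul_index f.ker
  rw [Subgroup.index_ker, hrange, ← hcard] at h1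
  have hCpos : 0 < Nat.card C := Nat.card_pos
  have hker1 : Nat.card f.ker = 1 := by
    have : Nat.card f.ker * Nat.card C = 1 * Nat.card C := by rw [h1, one_mul]
    exact Nat.eq_of_mul_eq_mul_right hCpos this
  have hkerbot : f.ker = ⊥ := Subgroup.card_eq_one.mp hker1
  have hxC : x ∈ C := by
    rw [hC, Subgroup.mem_centralizer_singleton_iff]
    exact hxz
  have hxker : (⟨x, hxC⟩ : C) ∈ f.ker := by
    rw [MonoidHom.mem_ker]
    change ((x : G) : G ⧸ N) = 1
    exact (QuotientGroup.eq_one_iff x).mpr hxN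
  rw [hkerbot, Subgroup.mem_bot] at hxker
  exact congrArg Subtype.val hxker

end Coprime

section Main

variable {G : Type u} [Group G] [Fintype G]

set_option maxHeartbeats 1000000 in
theorem centralizer_sylow (hG : 2 < Nat.card G) {χ : G → ℂ} (hχ : IsIrrCharacter G χ)
    (hcl : Nat.card {C : ConjClasses G // ∃ g ∈ C.carrier, χ g ≠ 0} = 2) (p : ℕ)
    [hp : Fact p.Prime] (N : Subgroup G) [hNn : N.Normal] (hN : ∀ g : G, g ∈ N ↔ χ g ≠ 0)
    (hNp : IsPGroup p N) (hN1 : N ≠ ⊥) (x : G) (hxN : x ∈ N) (hx1 : x ≠ 1) :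
    IsPGroup p (Subgroup.centralizer ({x} : Set G)) ∧
      (Subgroup.centralizer ({x} : Set G)).index = Nat.card N - 1 ∧
      ¬ p ∣ (Subgroup.centralizer ({x} : Set G)).index := by
  classical
  obtain ⟨c, N₀, hc1, hN₀n, hsupp, hN₀supp, hother, hfaith, hmin⟩ := gagola_main hG hχ hcl
  have hNeq : N₀ = N := by
    ext g
    rw [hN₀supp, hN]
  subst hNeq
  set C := Subgroup.centralizer ({x} : Set G) with hC
  -- C is a p-group
  have hprime : ∀ {q : ℕ}, q.Prime → q ∣ Nat.card C → q = p := by
    intro q hq hqd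
    by_contra hne
    haveI : Fact q.Prime := ⟨hq⟩
    obtain ⟨z, hz⟩ := exists_prime_orderOf_dvd_card' q hqd
    have hzG : orderOf (z : G) = q := by rw [Subgroup.orderOf_coe]; exact hz
    have hzx : x * (z : G) = (z : G) * x := by
      have := Subgroup.mem_centralizer_singleton_iff.mp z.2
      exact this.symm
    have hzN : (z : G) ∉ N₀ := by
      intro hzN
      obtain ⟨k, hk⟩ := hNp ⟨(z : G), hzN⟩
      have hk' : (z : G) ^ p ^ k = 1 := by
        have := congrArg Subtype.val hk
        simpa using this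
      have h1 : q ∣ p ^ k := by rw [← hzG]; exact orderOf_dvd_of_pow_eq_one hk'
      exact hne ((Nat.prime_dvd_prime_iff_eq hq hp.out).mp (hq.dvd_of_dvd_pow h1))
    have hχz : χ (z : G) = 0 := by
      by_contra h
      exact hzN ((hN (z : G)).mpr h)
    have hcard := card_centralizer_eq N₀ hN1 hχ hfaith hother (z : G) hχz
    exact hx1 (eq_one_of_comm_of_card_eq p q hp.out hq (Ne.symm hne) N₀ hNp (z : G) hzG hcard
      x hxN hzx)
  have hCp : IsPGroup p C := by
    have hne0 : Nat.card C ≠ 0 := Nat.card_pos.ne'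
    exact IsPGroup.of_card (Nat.eq_prime_pow_of_unique_prime_dvd hne0 hprime)
  -- the class of x
  have hclass : (Finset.univ.filter (fun g : G => IsConj g x)) = (Finset.univ.filter
      (fun g : G => g ∈ N₀)).erase 1 := by
    ext g
    rw [Finset.mem_filter, Finset.mem_erase, Finset.mem_filter]
    constructor
    · rintro ⟨-, hgx⟩
      obtain ⟨y, hy⟩ := isConj_iff.mp hgx.symm
      refine ⟨?_, Finset.mem_univ _, ?_⟩
      · rintro rfl
        exact hx1 (isConj_one_left.mp hgx.symm)
      · rw [← hy]; exact hNn.conj_mem x hxN y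
    · rintro ⟨hg1, -, hgN⟩
      refine ⟨Finset.mem_univ _, ?_⟩
      have h1 : IsConj g c := ((hsupp g).mp ((hN g).mp hgN)).resolve_left hg1
      have h2 : IsConj x c := ((hsupp x).mp ((hN x).mp hxN)).resolve_left hx1
      exact h1.trans h2.symm
  have hclasscard : (Finset.univ.filter (fun g : G => IsConj g x)).card = Nat.card N₀ - 1 := by
    rw [hclass, Finset.card_erase_of_mem (Finset.mem_filter.mpr ⟨Finset.mem_univ _, N₀.one_mem⟩)]
    congr 1
    rw [Nat.card_eq_fintype_card, Fintype.card_subtype]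
  have hidx : C.index = Nat.card N₀ - 1 := by
    have h1 := card_class_mul_card_centralizer x
    have h2 := Subgroup.card_mul_index C
    rw [hclasscard, ← h2, mul_comm] at h1
    exact (Nat.eq_of_mul_eq_mul_left Nat.card_pos h1).symm
  refine ⟨hCp, hidx, ?_⟩
  rw [hidx]
  obtain ⟨k, hk⟩ := IsPGroup.iff_card.mp hNp
  have hk0 : k ≠ 0 := by
    rintro rfl
    rw [pow_zero] at hk
    exact hN1 (Subgroup.card_eq_one.mp hk)
  have hpd : p ∣ Nat.card N₀ := by rw [hk]; exact dvd_pow_self p hk0
  intro hd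
  have hpos : 0 < Nat.card N₀ := Nat.card_pos
  have : p ∣ 1 := by
    have h3 : Nat.card N₀ - 1 + 1 = Nat.card N₀ := Nat.sub_add_cancel hpos
    have := (Nat.dvd_add_right hd).mp (h3 ▸ hpd)
    exact this
  exact hp.out.one_lt.ne' (Nat.dvd_one.mp this)

set_option maxHeartbeats 1000000 in
theorem inertia_sylow (hG : 2 < Nat.card G) {χ : G → ℂ} (hχ : IsIrrCharacter G χ)
    (hcl : Nat.card {C : ConjClasses G // ∃ g ∈ C.carrier, χ g ≠ 0} = 2) (p : ℕ)
    [hp : Fact p.Prime] (N : Subgroup G) [hNn : N.Normal] (hN : ∀ g : G, g ∈ N ↔ χ g ≠ 0)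
    (hNp : IsPGroup p N) (hN1 : N ≠ ⊥) {μ : N → ℂ} (hμ : IsIrrCharacter N μ)
    (hμ1 : μ ≠ fun _ => (1 : ℂ)) :
    IsPGroup p (inertia N μ) ∧ ¬ p ∣ (inertia N μ).index := by
  classical
  haveI : Fintype N := Fintype.ofFinite _
  obtain ⟨c, N₀, hc1, hN₀n, hsupp, hN₀supp, hother, hfaith, hmin⟩ := gagola_main hG hχ hcl
  have hNeq : N₀ = N := by
    ext g
    rw [hN₀supp, hN]
  subst hNeq
  have hχc := IsIrrCharacter.isCharacter hχ
  have hχcf := IsCharacter.isClassFunction hχc
  have hcN : c ∈ N₀ := (hN c).mpr ((hsupp c).mpr (Or.inr (IsConj.refl c)))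
  -- N is abelian
  have hconj : ∀ x ∈ N₀, ∀ y ∈ N₀, x ≠ 1 → y ≠ 1 → ∃ g : G, g * x * g⁻¹ = y := by
    intro x hx y hy hx1 hy1
    have h1 : IsConj x c := ((hsupp x).mp ((hN x).mp hx)).resolve_left hx1
    have h2 : IsConj y c := ((hsupp y).mp ((hN y).mp hy)).resolve_left hy1
    exact isConj_iff.mp (h1.trans h2.symm)
  obtain ⟨p', -, ⟨hcommN⟩, -⟩ := elementary_of_all_conj N₀ hN1 hconj
  have hcomm : ∀ a b : N₀, a * b = b * a := fun a b => hcommN.comm a b
  -- values of χ on N
  have hχN : ∀ n : N₀, n ≠ 1 → χ n = χ c := by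
    intro n hn
    have hn' : (n : G) ≠ 1 := fun h => hn (Subtype.ext h)
    have h1 : IsConj (n : G) c := ((hsupp n).mp ((hN n).mp n.2)).resolve_left hn'
    obtain ⟨y, hy⟩ := isConj_iff.mp h1
    rw [← hy, hχcf]
  -- every nontrivial irreducible character of N is a constituent of χ_N
  have hconst : ∀ ν : N₀ → ℂ, IsIrrCharacter N₀ ν → ν ≠ (fun _ => (1 : ℂ)) →
      classInner (fun n : N₀ => χ n) ν ≠ 0 := by
    intro ν hν hν1
    have h0 := classInner_irr_of_ne (isIrrCharacter_one (G := N₀)) hν (Ne.symm hν1)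
    rw [classInner_def] at h0 ⊢
    have hsum0 : ∑ n : N₀, conj (ν n) = 0 := by
      have := (mul_eq_zero.mp h0).resolve_left (inv_ne_zero card_ne_zero_complex)
      simpa using this
    have hν1' : ν 1 = 1 := IsIrrCharacter.apply_one_of_comm hcomm hν
    have hsum : ∑ n : N₀, χ n * conj (ν n) = χ 1 - χ c := by
      have : ∀ n : N₀, χ n * conj (ν n)
          = χ c * conj (ν n) + (if n = 1 then (χ 1 - χ c) * conj (ν 1) else 0) := by
        intro n
        by_cases hn : n = 1
        · rw [if_pos hn, hn]; simp only [Subgroup.coe_one]; ring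
        · rw [if_neg hn, hχN n hn, add_zero]
      rw [Finset.sum_congr rfl (fun n _ => this n), Finset.sum_add_distrib, ← Finset.mul_sum,
        hsum0, mul_zero, zero_add, Finset.sum_ite_eq' Finset.univ (1 : N₀), if_pos (Finset.mem_univ _),
        hν1', map_one, mul_one]
    rw [hsum]
    apply mul_ne_zero (inv_ne_zero card_ne_zero_complex)
    intro h
    exact hc1 (hfaith c (sub_eq_zero.mp h).symm)
  -- index of the inertia group
  have hT : ∀ g : G, g ∈ inertia N₀ μ ↔
      ∀ h : N₀, μ ⟨g * h * g⁻¹, hNn.conj_mem h h.2 g⟩ = μ h := mem_inertia N₀ μ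
  haveI : Fintype (inertia N₀ μ) := Fintype.ofFinite _
  have hidx : (inertia N₀ μ).index = Nat.card N₀ - 1 := by
    rw [← card_image_conjFn N₀ (inertia N₀ μ) hT]
    have himg : Finset.univ.image (conjFn N₀ μ) = (irrFinset N₀).erase (fun _ => (1 : ℂ)) := by
      ext ν
      rw [Finset.mem_image, Finset.mem_erase]
      constructor
      · rintro ⟨g, -, rfl⟩
        refine ⟨?_, mem_irrFinset.mpr (IsIrrCharacter.conjFn hμ g)⟩
        intro h
        apply hμ1
        ext n
        have := congrFun h ⟨g⁻¹ * n * g⁻¹⁻¹, hNn.conj_mem n n.2 g⁻¹⟩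
        rw [conjFn_apply] at this
        rw [← this]
        congr 1
        apply Subtype.ext
        simp only
        group
      · rintro ⟨hν1, hν⟩
        have hνi := mem_irrFinset.mp hν
        obtain ⟨g, hg⟩ := clifford_conj_of_constituent N₀ hχ hμ hνi (hconst μ hμ hμ1)
          (hconst ν hνi hν1)
        exact ⟨g, Finset.mem_univ _, hg.symm⟩
    rw [himg, Finset.card_erase_of_mem (mem_irrFinset.mpr isIrrCharacter_one)]
    congr 1
    -- number of irreducible characters of the abelian group N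
    have h1 := sum_irr_mul_deg (G := N₀) 1
    rw [if_pos rfl] at h1
    have h2 : ∀ ν ∈ irrFinset N₀, ν 1 * ν 1 = 1 := by
      intro ν hν
      rw [IsIrrCharacter.apply_one_of_comm hcomm (mem_irrFinset.mp hν), one_mul]
    rw [Finset.sum_congr rfl h2, Finset.sum_const, nsmul_eq_mul, mul_one] at h1
    exact_mod_cast h1
  have hnotdvd : ¬ p ∣ (inertia N₀ μ).index := by
    rw [hidx]
    obtain ⟨k, hk⟩ := IsPGroup.iff_card.mp hNp
    have hk0 : k ≠ 0 := by
      rintro rfl
      rw [pow_zero] at hk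
      exact hN1 (Subgroup.card_eq_one.mp hk)
    have hpd : p ∣ Nat.card N₀ := by rw [hk]; exact dvd_pow_self p hk0
    intro hd
    have hpos : 0 < Nat.card N₀ := Nat.card_pos
    have : p ∣ 1 := by
      have h3 : Nat.card N₀ - 1 + 1 = Nat.card N₀ := Nat.sub_add_cancel hpos
      exact (Nat.dvd_add_right hd).mp (h3 ▸ hpd)
    exact hp.out.one_lt.ne' (Nat.dvd_one.mp this)
  refine ⟨?_, hnotdvd⟩
  -- the inertia group is a p-group
  have hprime : ∀ {q : ℕ}, q.Prime → q ∣ Nat.card (inertia N₀ μ) → q = p := by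
    intro q hq hqd
    by_contra hne
    haveI : Fact q.Prime := ⟨hq⟩
    obtain ⟨z, hz⟩ := exists_prime_orderOf_dvd_card' q hqd
    have hzG : orderOf (z : G) = q := by rw [Subgroup.orderOf_coe]; exact hz
    have hzfix := (hT (z : G)).mp z.2
    -- z centralizes a nonidentity element of N
    have hex : ∃ x ∈ N₀, x ≠ 1 ∧ (z : G) * x * (z : G)⁻¹ = x := by
      by_contra hno
      push Not at hno
      let α : N₀ ≃* N₀ := MulAut.conjNormal (z : G)
      have hbr := Cfsg.Agent.S0173.result α
      have hle : Nat.card {C : ConjClasses N₀ // ConjClasses.map α.toMonoidHom C = C} ≤ 1 := by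
        haveI : Subsingleton {C : ConjClasses N₀ // ConjClasses.map α.toMonoidHom C = C} := by
          constructor
          rintro ⟨C₁, h₁⟩ ⟨C₂, h₂⟩
          apply Subtype.ext
          have key : ∀ C : ConjClasses N₀, ConjClasses.map α.toMonoidHom C = C →
              C = ConjClasses.mk 1 := by
            intro C hC
            obtain ⟨n, rfl⟩ := ConjClasses.mk_surjective C
            change ConjClasses.mk (α n) = ConjClasses.mk n at hC
            have hcj : IsConj (α n) n := ConjClasses.mk_eq_mk_iff_isConj.mp hC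
            obtain ⟨y, hy⟩ := isConj_iff.mp hcj
            have hαn : α n = n := by
              have h' : y * α n * y⁻¹ = α n := by
                rw [hcomm y (α n), mul_assoc, mul_inv_cancel, mul_one]
              rw [← h']; exact hy
            have hn1 : (n : G) = 1 := by
              by_contra hn1
              apply hno (n : G) n.2 hn1
              have := congrArg Subtype.val hαn
              rw [MulAut.conjNormal_apply] at this
              exact this
            have : n = 1 := Subtype.ext hn1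
            rw [this]
          change C₁ = C₂
          rw [key C₁ h₁, key C₂ h₂]
        exact Finite.card_le_one_iff_subsingleton.mpr inferInstance
      have hgt : 1 < Nat.card {χ : Cfsg.IrrCharacter N₀ // (χ : N₀ → ℂ) ∘ α = (χ : N₀ → ℂ)} := by
        apply Finite.one_lt_card_iff_nontrivial.mpr
        refine ⟨⟨⟨⟨fun _ => 1, isIrrCharacter_one⟩, rfl⟩, ⟨⟨μ, hμ⟩, ?_⟩, ?_⟩⟩
        · ext n
          change μ (α n) = μ n
          rw [← hzfix n]
          congr 1
        · intro h
          apply hμ1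
          have := congrArg (fun t => (t.1.1 : N₀ → ℂ)) h
          exact this.symm
      omega
    obtain ⟨x, hxN, hx1, hzx⟩ := hex
    obtain ⟨hCp, -, -⟩ := centralizer_sylow hG hχ hcl p N₀ hN hNp hN1 x hxN hx1
    have hzC : (z : G) ∈ Subgroup.centralizer ({x} : Set G) := by
      rw [Subgroup.mem_centralizer_singleton_iff]
      symm
      calc x * (z : G) = ((z : G) * x * (z : G)⁻¹) * (z : G) := by rw [hzx]
        _ = (z : G) * x := by group
    obtain ⟨k, hk⟩ := hCp ⟨(z : G), hzC⟩
    have hk' : (z : G) ^ p ^ k = 1 := by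
      have := congrArg Subtype.val hk
      simpa using this
    have h1 : q ∣ p ^ k := by rw [← hzG]; exact orderOf_dvd_of_pow_eq_one hk'
    exact hne ((Nat.prime_dvd_prime_iff_eq hq hp.out).mp (hq.dvd_of_dvd_pow h1))
  have hne0 : Nat.card (inertia N₀ μ) ≠ 0 := Nat.card_pos.ne'
  exact IsPGroup.of_card (Nat.eq_prime_pow_of_unique_prime_dvd hne0 hprime)

end Main

end Cfsg.Agent.Lib.Helper2_Gagola2
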