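import Mathlib
import Cfsg.Prelude.Def_Characters
import Cfsg.Agent.Lib.Helper2_ClassFn
import Cfsg.Agent.Lib.Helper2_CharBasic
import Cfsg.Agent.Lib.Helper2_CharOrtho
import Cfsg.Agent.Lib.Helper2_CharSum
import Cfsg.Agent.Lib.Helper2_Gagola
import Cfsg.Agent.Lib.Helper2_Gagola2

set_option autoImplicit false

/-!
# Characters nonzero on two classes: the Sylow subgroup
-/

namespace Cfsg.Agent.Lib.Helper2_Gagola3

open Cfsg
open Cfsg.Agent.Lib.Helper2_ClassFn
open Cfsg.Agent.Lib.Helper2_CharBasic
open Cfsg.Agent.Lib.Helper2_CharOrtho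
open Cfsg.Agent.Lib.Helper2_CharSum
open Cfsg.Agent.Lib.Helper2_Gagola
open Cfsg.Agent.Lib.Helper2_Gagola2
open scoped ComplexConjugate

universe u

section Main

variable {G : Type u} [Group G] [Fintype G]

/-- key inequality: for `x ∈ P ∖ N`, `|C_P(x)| |N| ≤ |P|`. -/
theorem card_centralizer_mul_le (hG : 2 < Nat.card G) {χ : G → ℂ} (hχ : IsIrrCharacter G χ)
    (hcl : Nat.card {C : ConjClasses G // ∃ g ∈ C.carrier, χ g ≠ 0} = 2) (p : ℕ)
    [hp : Fact p.Prime] (N : Subgroup G) [hNn : N.Normal] (hN : ∀ g : G, g ∈ N ↔ χ g ≠ 0)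
    (hNp : IsPGroup p N) (hN1 : N ≠ ⊥) (P : Sylow p G) (x : P) (hx : (x : G) ∉ N) :
    Nat.card (Subgroup.centralizer ({x} : Set P)) * Nat.card N ≤ Nat.card P := by
  classical
  obtain ⟨c, N₀, hc1, hN₀n, hsupp, hN₀supp, hother, hfaith, hmin⟩ := gagola_main hG hχ hcl
  have hNeq : N₀ = N := by
    ext g
    rw [hN₀supp, hN]
  subst hNeq
  have hNP : N₀ ≤ P := IsPGroup.le_sylow_of_normal hNp P
  have hχx : χ (x : G) = 0 := by
    by_contra h
    exact hx ((hN _).mpr h)
  have hcard := card_centralizer_eq N₀ hN1 hχ hfaith hother (x : G) hχx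
  -- D = image of C_P(x) in G
  set D := (Subgroup.centralizer ({x} : Set P)).map (P : Subgroup G).subtype with hD
  have hDcard : Nat.card D = Nat.card (Subgroup.centralizer ({x} : Set P)) :=
    Subgroup.card_map_of_injective (Subgroup.subtype_injective _)
  have hDle : D ≤ Subgroup.centralizer ({(x : G)} : Set G) := by
    rintro _ ⟨y, hy, rfl⟩
    rw [Subgroup.mem_centralizer_singleton_iff]
    have := Subgroup.mem_centralizer_singleton_iff.mp hy
    exact congrArg Subtype.val this
  have hDP : D ≤ P := by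
    rintro _ ⟨y, -, rfl⟩
    exact y.2
  have h1 : Nat.card D ∣ N₀.index := by
    have h2 := Subgroup.card_dvd_of_le hDle
    rw [hcard] at h2
    have h3 : Nat.card (Subgroup.centralizer ({((x : G) : G ⧸ N₀)} : Set (G ⧸ N₀))) ∣
        Nat.card (G ⧸ N₀) := Subgroup.card_subgroup_dvd_card _
    rw [← Subgroup.index_eq_card] at h3
    exact h2.trans h3
  -- |N| divides |P|
  obtain ⟨t, ht⟩ := Subgroup.card_dvd_of_le hNP
  have hidx : N₀.index = t * (P : Subgroup G).index := by
    have e1 := Subgroup.card_mul_index N₀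
    have e2 := Subgroup.card_mul_index (P : Subgroup G)
    rw [ht, ← e1, mul_assoc] at e2
    exact (Nat.eq_of_mul_eq_mul_left Nat.card_pos e2).symm
  have hDpg : IsPGroup p D := P.isPGroup'.to_le hDP
  obtain ⟨a, ha⟩ := IsPGroup.iff_card.mp hDpg
  have hcop : Nat.Coprime (Nat.card D) (P : Subgroup G).index := by
    rw [ha]
    exact Nat.Coprime.pow_left a ((Nat.Prime.coprime_iff_not_dvd hp.out).mpr P.not_dvd_index)
  rw [hidx] at h1
  have h4 : Nat.card D ∣ t := hcop.dvd_of_dvd_mul_right h1
  rw [← hDcard, ht, mul_comm]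
  exact Nat.mul_le_mul_left _ (Nat.le_of_dvd (by
    rcases Nat.eq_zero_or_pos t with h | h
    · rw [h, mul_zero] at ht
      exact absurd ht Nat.card_pos.ne'
    · exact h) h4)

theorem center_le (hG : 2 < Nat.card G) {χ : G → ℂ} (hχ : IsIrrCharacter G χ)
    (hcl : Nat.card {C : ConjClasses G // ∃ g ∈ C.carrier, χ g ≠ 0} = 2) (p : ℕ)
    [hp : Fact p.Prime] (N : Subgroup G) [hNn : N.Normal] (hN : ∀ g : G, g ∈ N ↔ χ g ≠ 0)
    (hNp : IsPGroup p N) (hN1 : N ≠ ⊥) (P : Sylow p G) :
    (Subgroup.center ↥(P : Subgroup G)).map (P : Subgroup G).subtype ≤ N := by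
  rintro _ ⟨z, hz, rfl⟩
  by_contra hzN
  have hkey := card_centralizer_mul_le hG hχ hcl p N hN hNp hN1 P z hzN
  have htop : Subgroup.centralizer ({z} : Set P) = ⊤ := by
    rw [eq_top_iff]
    intro y _
    rw [Subgroup.mem_centralizer_singleton_iff]
    exact (Subgroup.mem_center_iff.mp hz y)
  rw [htop, Subgroup.card_top] at hkey
  have hPpos : 0 < Nat.card P := Nat.card_pos
  have hN1' : Nat.card N ≤ 1 := by
    by_contra h
    push Not at h
    have : Nat.card P * 1 < Nat.card P * Nat.card N := Nat.mul_lt_mul_of_pos_left h hPpos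
    omega
  have : Nat.card N = 1 := le_antisymm hN1' Nat.card_pos
  exact hN1 (Subgroup.card_eq_one.mp this)

set_option maxHeartbeats 1000000 in
theorem exists_upperCentralSeries_eq (hG : 2 < Nat.card G) {χ : G → ℂ} (hχ : IsIrrCharacter G χ)
    (hcl : Nat.card {C : ConjClasses G // ∃ g ∈ C.carrier, χ g ≠ 0} = 2) (p : ℕ)
    [hp : Fact p.Prime] (N : Subgroup G) [hNn : N.Normal] (hN : ∀ g : G, g ∈ N ↔ χ g ≠ 0)
    (hNp : IsPGroup p N) (hN1 : N ≠ ⊥) (P : Sylow p G) :
    ∃ i : ℕ, Subgroup.upperCentralSeries ↥(P : Subgroup G) i = N.subgroupOf (P : Subgroup G) := by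
  classical
  haveI : Fintype P := Fintype.ofFinite _
  have hNP : N ≤ P := IsPGroup.le_sylow_of_normal hNp P
  have hcardN' : Nat.card (N.subgroupOf (P : Subgroup G)) = Nat.card N :=
    Nat.card_congr (Subgroup.subgroupOfEquivOfLe hNP).toEquiv
  -- the step
  have hstep : ∀ i : ℕ, Subgroup.upperCentralSeries P i ≤ N.subgroupOf (P : Subgroup G) →
      Subgroup.upperCentralSeries P i = N.subgroupOf (P : Subgroup G) ∨
      Subgroup.upperCentralSeries P (i + 1) ≤ N.subgroupOf (P : Subgroup G) := by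
    intro i hi
    by_contra hcon
    push Not at hcon
    obtain ⟨hne, hnle⟩ := hcon
    obtain ⟨x, hxZ, hxN⟩ := SetLike.not_le_iff_exists.mp hnle
    have hxN' : (x : G) ∉ N := fun h => hxN (Subgroup.mem_subgroupOf.mpr h)
    have hkey := card_centralizer_mul_le hG hχ hcl p N hN hNp hN1 P x hxN'
    have hclass := card_class_mul_card_centralizer (G := P) x
    rw [← Fintype.card_subtype, ← Nat.card_eq_fintype_card] at hclass
    -- the class of x lies in Z_i x
    have hsub : Nat.card {y : P // IsConj y x}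
        ≤ Nat.card (Subgroup.upperCentralSeries P i) := by
      have hmem : ∀ y : P, IsConj y x → y * x⁻¹ ∈ Subgroup.upperCentralSeries P i := by
        intro y hy
        obtain ⟨g, hg⟩ := isConj_iff.mp hy.symm
        have h0 : ∀ g' : P, g' * x * g'⁻¹ * x⁻¹ ∈ Subgroup.upperCentralSeries P i := by
          intro g'
          have h2 := Subgroup.mem_upperCentralSeries_succ_iff.mp hxZ g'
          rw [commutatorElement_def] at h2
          have h3 := Subgroup.inv_mem _ h2
          have h4 : (x * g' * x⁻¹ * g'⁻¹)⁻¹ = g' * x * g'⁻¹ * x⁻¹ := by group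
          rw [h4] at h3
          exact h3
        rw [← hg]
        exact h0 g
      exact Nat.card_le_card_of_injective
        (fun y : {y : P // IsConj y x} =>
          (⟨y.1 * x⁻¹, hmem y.1 y.2⟩ : Subgroup.upperCentralSeries P i))
        (fun y₁ y₂ h => Subtype.ext (mul_right_cancel (congrArg Subtype.val h)))
    -- combine
    have hle : Nat.card (Subgroup.upperCentralSeries P i)
        ≤ Nat.card (N.subgroupOf (P : Subgroup G)) :=
      Subgroup.card_le_of_le hi
    have hCpos : 0 < Nat.card (Subgroup.centralizer ({x} : Set P)) := Nat.card_pos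
    have h5 : Nat.card N ≤ Nat.card {y : P // IsConj y x} := by
      have h7 : Nat.card N * Nat.card (Subgroup.centralizer ({x} : Set P))
          ≤ Nat.card {y : P // IsConj y x}
            * Nat.card (Subgroup.centralizer ({x} : Set P)) := by
        calc Nat.card N * Nat.card (Subgroup.centralizer ({x} : Set P))
            = Nat.card (Subgroup.centralizer ({x} : Set P)) * Nat.card N := mul_comm _ _
          _ ≤ Nat.card P := hkey
          _ = _ := hclass.symm
      exact Nat.le_of_mul_le_mul_right h7 hCpos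
    have h6 : Nat.card (N.subgroupOf (P : Subgroup G))
        ≤ Nat.card (Subgroup.upperCentralSeries P i) := by
      rw [hcardN']; exact h5.trans hsub
    exact hne (Subgroup.eq_of_le_of_card_ge hi h6)
  -- induction
  have hind : ∀ i : ℕ, (∃ j, Subgroup.upperCentralSeries P j = N.subgroupOf (P : Subgroup G)) ∨
      Subgroup.upperCentralSeries P i ≤ N.subgroupOf (P : Subgroup G) := by
    intro i
    induction i with
    | zero =>
      right
      rw [Subgroup.upperCentralSeries_zero]
      exact bot_le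
    | succ i ih =>
      rcases ih with h | h
      · left; exact h
      · rcases hstep i h with h' | h'
        · left; exact ⟨i, h'⟩
        · right; exact h'
  haveI : Group.IsNilpotent P := P.isPGroup'.isNilpotent
  obtain ⟨c, hc⟩ := Group.IsNilpotent.nilpotent' (G := P)
  rcases hind c with h | h
  · exact h
  · refine ⟨c, ?_⟩
    rw [hc] at h ⊢
    exact (top_le_iff.mp h).symm

theorem center_eq_iff_normal (hG : 2 < Nat.card G) {χ : G → ℂ} (hχ : IsIrrCharacter G χ)
    (hcl : Nat.card {C : ConjClasses G // ∃ g ∈ C.carrier, χ g ≠ 0} = 2) (p : ℕ)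
    [hp : Fact p.Prime] (N : Subgroup G) [hNn : N.Normal] (hN : ∀ g : G, g ∈ N ↔ χ g ≠ 0)
    (hNp : IsPGroup p N) (hN1 : N ≠ ⊥) (P : Sylow p G) :
    (Subgroup.center ↥(P : Subgroup G)).map (P : Subgroup G).subtype = N ↔
      (P : Subgroup G).Normal := by
  classical
  have hNP : N ≤ P := IsPGroup.le_sylow_of_normal hNp P
  obtain ⟨⟨x₀, hx₀N⟩, hx₀1⟩ := (Subgroup.ne_bot_iff_exists_ne_one).mp hN1
  have hx₀1' : x₀ ≠ 1 := fun h => hx₀1 (Subtype.ext h)
  constructor
  · intro hZ
    -- centralizers of nonidentity elements of N equal P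
    have hcent : ∀ x ∈ N, x ≠ 1 → Subgroup.centralizer ({x} : Set G) = P := by
      intro x hxN hx1
      obtain ⟨hCp, -, -⟩ := centralizer_sylow hG hχ hcl p N hN hNp hN1 x hxN hx1
      apply P.is_maximal' hCp
      intro y hy
      rw [Subgroup.mem_centralizer_singleton_iff]
      rw [← hZ] at hxN
      obtain ⟨z, hz, rfl⟩ := hxN
      have := Subgroup.mem_center_iff.mp hz ⟨y, hy⟩
      exact congrArg Subtype.val this
    constructor
    intro y hy g
    have hgx : g * x₀ * g⁻¹ ∈ N := hNn.conj_mem x₀ hx₀N g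
    have hgx1 : g * x₀ * g⁻¹ ≠ 1 := by
      intro h
      apply hx₀1'
      have : x₀ = g⁻¹ * (g * x₀ * g⁻¹) * g := by group
      rw [this, h]; group
    rw [← SetLike.mem_coe, ← hcent _ hgx hgx1, SetLike.mem_coe,
      Subgroup.mem_centralizer_singleton_iff]
    have hyx : y * x₀ = x₀ * y := by
      have : y ∈ Subgroup.centralizer ({x₀} : Set G) := by rw [hcent x₀ hx₀N hx₀1']; exact hy
      exact (Subgroup.mem_centralizer_singleton_iff.mp this)
    calc g * y * g⁻¹ * (g * x₀ * g⁻¹) = g * (y * x₀) * g⁻¹ := by group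
      _ = g * (x₀ * y) * g⁻¹ := by rw [hyx]
      _ = g * x₀ * g⁻¹ * (g * y * g⁻¹) := by group
  · intro hPn
    apply le_antisymm (center_le hG hχ hcl p N hN hNp hN1 P)
    intro x hxN
    by_cases hx1 : x = 1
    · rw [hx1]; exact Subgroup.one_mem _
    obtain ⟨hCp, -, hidx⟩ := centralizer_sylow hG hχ hcl p N hN hNp hN1 x hxN hx1
    -- the centralizer is a Sylow subgroup, hence equals the normal Sylow subgroup P
    have hCP : Subgroup.centralizer ({x} : Set G) = P := by
      haveI := hPn
      let Q : Sylow p G := hCp.toSylow hidx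
      obtain ⟨g, hg⟩ := MulAction.exists_smul_eq G P Q
      rw [Sylow.smul_eq_of_normal] at hg
      have : (Q : Subgroup G) = P := by rw [← hg]
      rw [← this]
      exact (IsPGroup.toSylow_coe hCp hidx).symm
    refine ⟨⟨x, hNP hxN⟩, ?_, rfl⟩
    rw [SetLike.mem_coe, Subgroup.mem_center_iff]
    intro y
    apply Subtype.ext
    have : (y : G) ∈ Subgroup.centralizer ({x} : Set G) := by rw [hCP]; exact y.2
    exact (Subgroup.mem_centralizer_singleton_iff.mp this)

end Main

end Cfsg.Agent.Lib.Helper2_Gagola3
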