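import Mathlib
import Cfsg.Prelude.Def_Characters
import Cfsg.Prelude.Def_CharExt
import Cfsg.Agent.Lib.Helper2_ClassFn
import Cfsg.Agent.Lib.Helper2_CharBasic
import Cfsg.Agent.Lib.Helper2_CharOrtho
import Cfsg.Agent.Lib.Helper2_Gallagher
import Cfsg.Agent.Lib.Helper2_ProjLift
import Cfsg.Agent.Lib.Helper2_SylowExt
import Cfsg.Agent.Lib.Helper2_CyclicExt
import Cfsg.Agent.Lib.Helper2_DetChar
import Cfsg.Agent.Lib.Helper2_LinExt
import Cfsg.Agent.S0154

set_option autoImplicit false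

/-!
# Extensions of characters with prescribed determinant
-/

namespace Cfsg.Agent.Lib.Helper2_DetExt

open Cfsg
open Cfsg.Agent.Lib.Helper2_ClassFn
open Cfsg.Agent.Lib.Helper2_CharBasic
open Cfsg.Agent.Lib.Helper2_CharOrtho
open Cfsg.Agent.Lib.Helper2_Gallagher
open Cfsg.Agent.Lib.Helper2_ProjLift
open Cfsg.Agent.Lib.Helper2_SylowExt
open Cfsg.Agent.Lib.Helper2_CyclicExt
open Cfsg.Agent.Lib.Helper2_DetChar
open Cfsg.Agent.Lib.Helper2_LinExt

universe u

variable {G : Type u} [Group G] [Fintype G] (N : Subgroup G) [hN : N.Normal]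

/-- Every extension of `θ` is a twist of a given one by a linear character of `G/N`. -/
theorem exists_twist (θ : N → ℂ) (hθ : IsIrrCharacter N θ) (η : G → ℂ) (hη : IsIrrCharacter G η)
    (hηθ : ∀ n : N, η n = θ n) (χ : G → ℂ) (hχ : IsIrrCharacter G χ) (hχθ : ∀ n : N, χ n = θ n) :
    ∃ β : G →* ℂˣ, (∀ n ∈ N, β n = 1) ∧ χ = fun g => η g * ((β g : ℂˣ) : ℂ) := by
  classical
  haveI : Fintype N := Fintype.ofFinite _
  have hηN : IsIrrCharacter N (fun n : N => η n) := by
    have : (fun n : N => η n) = θ := funext hηθ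
    rw [this]; exact hθ
  have hcon : classInner (fun n : N => χ n) (fun n : N => η n) ≠ 0 := by
    have h1 : (fun n : N => χ n) = (fun n : N => η n) := by
      ext n; rw [hχθ, hηθ]
    rw [h1, classInner_irr_self hηN]
    exact one_ne_zero
  obtain ⟨β', hβ', hχβ⟩ := exists_gallagher_factor N hη hηN hχ hcon
  have hη1 : η 1 ≠ 0 := IsIrrCharacter.apply_one_ne_zero hη
  have hβ'1 : β' 1 = 1 := by
    have h1 := congrFun hχβ 1
    simp only [Pi.mul_apply, infl_apply, QuotientGroup.mk_one] at h1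
    have h2 : χ 1 = η 1 := by
      have := hχθ 1
      have h3 := hηθ 1
      simp only [Subgroup.coe_one] at this h3
      rw [this, h3]
    rw [h2] at h1
    have h3 : β' 1 * η 1 = 1 * η 1 := by rw [one_mul]; exact h1.symm
    exact mul_right_cancel₀ hη1 h3
  obtain ⟨ω', hω'⟩ := Cfsg.Agent.S0154.exists_hom_of_degree_one β' hβ' hβ'1
  refine ⟨ω'.comp (QuotientGroup.mk' N), fun n hn => ?_, ?_⟩
  · change ω' (QuotientGroup.mk' N n) = 1
    have : QuotientGroup.mk' N n = 1 := (QuotientGroup.eq_one_iff n).mpr hn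
    rw [this, map_one]
  · ext g
    have h1 := congrFun hχβ g
    simp only [Pi.mul_apply, infl_apply] at h1
    rw [h1, hω', mul_comm]
    rfl

/-- Among the extensions of `θ` (of degree coprime to `[G : N]`) there is exactly one with a
given determinant extending `det θ`. -/
theorem exists_unique_ext_with_det (θ : N → ℂ) (hθ : IsIrrCharacter N θ) (d : ℕ)
    (hd : θ 1 = d) (hcop : Nat.Coprime N.index d) (η : G → ℂ) (hη : IsIrrCharacter G η)
    (hηθ : ∀ n : N, η n = θ n) (μ : G →* ℂˣ)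
    (hμN : ∀ n : N, ((μ n : ℂˣ) : ℂ) = detChar θ n) :
    ∃ χ : G → ℂ, (IsIrrCharacter G χ ∧ (∀ n : N, χ n = θ n) ∧
        detChar χ = fun g => ((μ g : ℂˣ) : ℂ)) ∧
      ∀ χ' : G → ℂ, IsIrrCharacter G χ' → (∀ n : N, χ' n = θ n) →
        detChar χ' = (fun g => ((μ g : ℂˣ) : ℂ)) → χ' = χ := by
  classical
  have hηc := IsIrrCharacter.isCharacter hη
  obtain ⟨δ, hδ⟩ := exists_detHom hηc
  have hdetθ : detChar θ = fun n : N => detChar η n := by
    have h1 := detChar_comp hηc N.subtype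
    have h2 : (fun n : N => η (N.subtype n)) = θ := funext hηθ
    rw [h2] at h1
    exact h1
  have hη1 : η 1 = d := by
    have := hηθ 1
    simp only [Subgroup.coe_one] at this
    rw [this, hd]
  set γ : G →* ℂˣ := μ * δ⁻¹ with hγdef
  have hγ : ∀ n ∈ N, γ n = 1 := by
    intro n hn
    have h1 := hμN ⟨n, hn⟩
    rw [hdetθ, hδ] at h1
    simp only at h1
    have h2 : μ n = δ n := Units.ext h1
    rw [hγdef, MonoidHom.mul_apply, MonoidHom.inv_apply, h2, mul_inv_cancel]
  obtain ⟨β, hβN, hβd, hβuniq⟩ := exists_unique_root N γ hγ d hcop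
  have hdetform : ∀ β₀ : G →* ℂˣ, detChar (fun g => η g * ((β₀ g : ℂˣ) : ℂ))
      = fun g => ((δ g * β₀ g ^ d : ℂˣ) : ℂ) := by
    intro β₀
    rw [detChar_mul_hom hηc β₀ d hη1, hδ]
    ext g
    simp
  refine ⟨fun g => η g * ((β g : ℂˣ) : ℂ), ⟨isIrr_mul_hom hη β, fun n => ?_, ?_⟩, ?_⟩
  · simp only
    rw [hβN n n.2, hηθ]
    simp
  · rw [hdetform]
    ext g
    rw [hβd g, hγdef, MonoidHom.mul_apply, MonoidHom.inv_apply]
    congr 1
    rw [mul_comm, inv_mul_cancel_right]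
  · intro χ' hχ' hχ'θ hdet'
    obtain ⟨β', hβ'N, hχ'β⟩ := exists_twist N θ hθ η hη hηθ χ' hχ' hχ'θ
    have h1 : ∀ g, β' g ^ d = γ g := by
      intro g
      rw [hχ'β, hdetform] at hdet'
      have h2 := congrFun hdet' g
      have h3 : δ g * β' g ^ d = μ g := Units.ext h2
      rw [hγdef, MonoidHom.mul_apply, MonoidHom.inv_apply, ← h3]
      rw [mul_comm, inv_mul_cancel_left]
    have h2 := hβuniq β' hβ'N h1
    rw [hχ'β, h2]

end Cfsg.Agent.Lib.Helper2_DetExt
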