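import Mathlib
import Cfsg.Prelude.Def_Characters
import Cfsg.Prelude.Def_CharExt
import Cfsg.Agent.Lib.Helper2_ClassFn
import Cfsg.Agent.Lib.Helper2_CharBasic
import Cfsg.Agent.Lib.Helper2_CharOrtho
import Cfsg.Agent.Lib.Helper2_Clifford
import Cfsg.Agent.Lib.Helper2_CharMore
import Cfsg.Agent.Lib.Helper2_Gallagher
import Cfsg.Agent.Lib.Helper2_ProjLift
import Cfsg.Agent.Lib.Helper2_SylowExt
import Cfsg.Agent.Lib.Helper2_CyclicExt
import Cfsg.Agent.Lib.Helper2_DetChar
import Cfsg.Agent.Lib.Helper2_LinExt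
import Cfsg.Agent.Lib.Helper2_DetExt

set_option autoImplicit false

/-!
# Gallagher's determinant criterion for extendibility
-/

namespace Cfsg.Agent.Lib.Helper2_GallagherExt

open Cfsg
open Cfsg.Agent.Lib.Helper2_ClassFn
open Cfsg.Agent.Lib.Helper2_CharBasic
open Cfsg.Agent.Lib.Helper2_CharOrtho
open Cfsg.Agent.Lib.Helper2_Clifford
open Cfsg.Agent.Lib.Helper2_CharMore
open Cfsg.Agent.Lib.Helper2_Gallagher
open Cfsg.Agent.Lib.Helper2_ProjLift
open Cfsg.Agent.Lib.Helper2_SylowExt
open Cfsg.Agent.Lib.Helper2_CyclicExt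
open Cfsg.Agent.Lib.Helper2_DetChar
open Cfsg.Agent.Lib.Helper2_LinExt
open Cfsg.Agent.Lib.Helper2_DetExt

universe u

variable {G : Type u} [Group G] [Fintype G]

/-- If `G/N` is a `p`-group, `θ` is invariant of degree prime to `p` and `det θ` extends to `G`,
then `θ` extends to `G`. -/
theorem ext_of_pgroup_quotient (p : ℕ) [hp : Fact p.Prime] (d : ℕ) (hpd : Nat.Coprime p d)
    (μ : G →* ℂˣ) :
    ∀ (k : ℕ) (N : Subgroup G) [hN : N.Normal], N.index = p ^ k → ∀ (θ : N → ℂ),
      IsIrrCharacter N θ →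
      (∀ (g : G) (n : N), θ ⟨g * n * g⁻¹, hN.conj_mem (n : G) n.2 g⟩ = θ n) → θ 1 = d →
      (∀ n : N, ((μ n : ℂˣ) : ℂ) = detChar θ n) →
      ∃ χ : G → ℂ, IsIrrCharacter G χ ∧ ∀ n : N, χ n = θ n := by
  classical
  intro k
  induction k with
  | zero =>
    intro N hN hidx θ hθ hinv hd hμ
    have htop : N = ⊤ := Subgroup.index_eq_one.mp (by rw [hidx, pow_zero])
    subst htop
    refine ⟨fun g => θ ⟨g, Subgroup.mem_top g⟩, ?_, fun n => rfl⟩
    exact IsIrrCharacter.comp_mulEquiv hθ Subgroup.topEquiv.symm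
  | succ k ih =>
    intro N hN hidx θ hθ hinv hd hμ
    have hcardQ : Nat.card (G ⧸ N) = p ^ (k + 1) := by
      rw [← Subgroup.index_eq_card]; exact hidx
    have hQp : IsPGroup p (G ⧸ N) := IsPGroup.of_card hcardQ
    haveI : Nontrivial (G ⧸ N) := by
      rw [hQp.nontrivial_iff_card]
      exact ⟨k + 1, Nat.succ_pos k, hcardQ⟩
    haveI hcen : Nontrivial (Subgroup.center (G ⧸ N)) := hQp.center_nontrivial
    have hpdvd : p ∣ Nat.card (Subgroup.center (G ⧸ N)) := by
      obtain ⟨j, hj, hcj⟩ := (hQp.to_subgroup (Subgroup.center (G ⧸ N))).nontrivial_iff_card.mp hcen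
      rw [hcj]
      exact dvd_pow_self p (Nat.pos_iff_ne_zero.mp hj)
    obtain ⟨z, hz⟩ := exists_prime_orderOf_dvd_card' p hpdvd
    have hz' : orderOf (z : G ⧸ N) = p := by rw [Subgroup.orderOf_coe]; exact hz
    set C : Subgroup (G ⧸ N) := Subgroup.zpowers (z : G ⧸ N) with hC
    have hCcard : Nat.card C = p := by rw [hC, Nat.card_zpowers, hz']
    haveI hCn : C.Normal := by
      refine ⟨fun x hx g => ?_⟩
      have hxc : x ∈ Subgroup.center (G ⧸ N) := by
        rw [hC, Subgroup.mem_zpowers_iff] at hx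
        obtain ⟨i, rfl⟩ := hx
        exact Subgroup.zpow_mem _ z.2 i
      have : g * x * g⁻¹ = x := by
        rw [Subgroup.mem_center_iff] at hxc
        rw [hxc g, mul_inv_cancel_right]
      rw [this]; exact hx
    set M : Subgroup G := C.comap (QuotientGroup.mk' N) with hM
    haveI hMn : M.Normal := Subgroup.Normal.comap hCn _
    have hNM : N ≤ M := by
      intro n hn
      rw [hM, Subgroup.mem_comap]
      have : QuotientGroup.mk' N n = 1 := (QuotientGroup.eq_one_iff n).mpr hn
      rw [this]; exact Subgroup.one_mem _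
    have hMidx : M.index = p ^ k := by
      have h1 : M.index = C.index :=
        Subgroup.index_comap_of_surjective _ (QuotientGroup.mk'_surjective N)
      have h2 := Subgroup.card_mul_index C
      rw [hCcard, hcardQ, pow_succ, mul_comm] at h2
      rw [h1]
      exact Nat.eq_of_mul_eq_mul_right hp.out.pos h2
    have hrel : N.relIndex M = p := by
      have h1 := Subgroup.relIndex_mul_index hNM
      rw [hMidx, hidx, pow_succ, mul_comm] at h1
      exact Nat.eq_of_mul_eq_mul_left (pow_pos hp.out.pos k) h1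
    -- work inside M
    haveI : Fintype M := Fintype.ofFinite _
    set N' : Subgroup M := N.subgroupOf M with hN'
    haveI hN'n : N'.Normal := Subgroup.Normal.subgroupOf hN M
    have hN'idx : N'.index = p := hrel
    have hcyc : IsCyclic (M ⧸ N') := by
      haveI : Fact (Nat.Prime p) := hp
      apply isCyclic_of_prime_card (p := p)
      rw [← Subgroup.index_eq_card]; exact hN'idx
    let e : N' ≃* N := Subgroup.subgroupOfEquivOfLe hNM
    have he : ∀ n' : N', ((e n' : N) : G) = ((n' : M) : G) := fun n' => rfl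
    set θ' : N' → ℂ := fun n' => θ (e n') with hθ'def
    have hθ' : IsIrrCharacter N' θ' := IsIrrCharacter.comp_mulEquiv hθ e
    have hθc : IsCharacter N θ := IsIrrCharacter.isCharacter hθ
    have hinv' : ∀ (m : M) (n' : N'),
        θ' ⟨m * n' * m⁻¹, hN'n.conj_mem (n' : M) n'.2 m⟩ = θ' n' := by
      intro m n'
      simp only [hθ'def]
      have h1 := hinv (m : G) (e n')
      rw [← h1]
      congr 1
    obtain ⟨ψ₀, hψ₀, hψ₀res⟩ := exists_extension_of_cyclic N' hcyc θ' hθ' hinv'
    have hd' : θ' 1 = d := by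
      simp only [hθ'def, map_one]; exact hd
    have hcop' : Nat.Coprime N'.index d := by rw [hN'idx]; exact hpd
    have hdetθ' : detChar θ' = fun n' => detChar θ (e n') := detChar_comp hθc e.toMonoidHom
    have hμN' : ∀ n' : N', (((μ.comp M.subtype) (n' : M) : ℂˣ) : ℂ) = detChar θ' n' := by
      intro n'
      rw [hdetθ']
      simp only
      rw [← hμ (e n')]
      rfl
    obtain ⟨ψ, ⟨hψ, hψres, hψdet⟩, hψuniq⟩ :=
      exists_unique_ext_with_det N' θ' hθ' d hd' hcop' ψ₀ hψ₀ hψ₀res (μ.comp M.subtype) hμN'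
    have hψc : IsCharacter M ψ := IsIrrCharacter.isCharacter hψ
    have hψinv : ∀ (g : G) (m : M), ψ ⟨g * m * g⁻¹, hMn.conj_mem (m : G) m.2 g⟩ = ψ m := by
      intro g m
      have hconj : conjFn M ψ g = ψ := by
        apply hψuniq _ (IsIrrCharacter.conjFn hψ g)
        · intro n'
          rw [conjFn_apply]
          have hmem : (⟨g * ((n' : M) : G) * g⁻¹, hMn.conj_mem _ (n' : M).2 g⟩ : M) ∈ N' := by
            exact Subgroup.mem_subgroupOf.mpr (hN.conj_mem _ (Subgroup.mem_subgroupOf.mp n'.2) g)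
          have h1 := hψres ⟨_, hmem⟩
          simp only at h1
          rw [h1]
          simp only [hθ'def]
          have h2 := hinv g (e n')
          rw [← h2]
          congr 1
        · rw [conjFn_eq_comp]
          have h1 := detChar_comp hψc ((MulAut.conjNormal g : M ≃* M).toMonoidHom)
          simp only [MulEquiv.coe_toMonoidHom] at h1
          rw [h1, hψdet]
          ext m'
          simp only [MonoidHom.comp_apply, Subgroup.coe_subtype, MulAut.conjNormal_apply]
          rw [map_mul, map_mul, map_inv, mul_comm, inv_mul_cancel_left]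
      have := congrFun hconj m
      rw [conjFn_apply] at this
      exact this
    have hψ1 : ψ 1 = d := by
      have h1 := hψres 1
      rw [hd'] at h1
      simpa using h1
    have hψdet' : ∀ m : M, ((μ m : ℂˣ) : ℂ) = detChar ψ m := by
      intro m
      rw [hψdet]
      rfl
    obtain ⟨χ, hχ, hχres⟩ := ih M hMidx ψ hψ hψinv hψ1 hψdet'
    refine ⟨χ, hχ, fun n => ?_⟩
    have h1 := hχres ⟨n, hNM n.2⟩
    simp only at h1
    rw [h1]
    have hmem : (⟨(n : G), hNM n.2⟩ : M) ∈ N' := by
      exact Subgroup.mem_subgroupOf.mpr n.2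
    have h2 := hψres ⟨_, hmem⟩
    simp only at h2
    rw [h2]
    simp only [hθ'def]
    congr 1

/-- Gallagher: an invariant irreducible character of degree prime to the index extends as soon
as its determinant does. -/
theorem exists_ext_of_det_ext (N : Subgroup G) [hN : N.Normal] (θ : N → ℂ)
    (hθ : IsIrrCharacter N θ)
    (hinv : ∀ (g : G) (n : N), θ ⟨g * n * g⁻¹, hN.conj_mem (n : G) n.2 g⟩ = θ n) (d : ℕ)
    (hd : θ 1 = d) (hcop : Nat.Coprime N.index d) (μ : G →* ℂˣ)
    (hμ : ∀ n : N, ((μ n : ℂˣ) : ℂ) = detChar θ n) :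
    ∃ χ : G → ℂ, IsIrrCharacter G χ ∧ ∀ n : N, χ n = θ n := by
  classical
  apply exists_extension_of_sylow N θ hθ hinv
  intro p hp
  by_cases hpN : p ∣ N.index
  swap
  · exact ⟨N, le_refl N, θ, (Nat.Coprime.symm ((Nat.Prime.coprime_iff_not_dvd hp).mpr hpN)), hθ,
      fun n => rfl⟩
  have hpd : Nat.Coprime p d := Nat.Coprime.coprime_dvd_left hpN hcop
  haveI : Fact p.Prime := ⟨hp⟩
  obtain S : Sylow p (G ⧸ N) := default
  set P := (S : Subgroup (G ⧸ N)).comap (QuotientGroup.mk' N) with hP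
  have hNP : N ≤ P := by
    intro n hn
    rw [hP, Subgroup.mem_comap]
    have : QuotientGroup.mk' N n = 1 := (QuotientGroup.eq_one_iff n).mpr hn
    rw [this]; exact Subgroup.one_mem _
  have hidx : P.index = (S : Subgroup (G ⧸ N)).index :=
    Subgroup.index_comap_of_surjective _ (QuotientGroup.mk'_surjective N)
  have hcopP : Nat.Coprime P.index p := by
    rw [hidx]
    exact (Nat.Coprime.symm ((Nat.Prime.coprime_iff_not_dvd hp).mpr S.not_dvd_index))
  have hrel : ∃ k, N.relIndex P = p ^ k := by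
    obtain ⟨k, hk⟩ := IsPGroup.iff_card.mp S.2
    refine ⟨k, ?_⟩
    have h1 := Subgroup.relIndex_mul_index hNP
    have h2 := Subgroup.card_mul_index (S : Subgroup (G ⧸ N))
    rw [Subgroup.index_eq_card N, ← h2, hidx] at h1
    have h3 : (S : Subgroup (G ⧸ N)).index ≠ 0 := Subgroup.index_ne_zero_of_finite
    have h4 := Nat.eq_of_mul_eq_mul_right (Nat.pos_of_ne_zero h3) h1
    rw [h4]; exact hk
  obtain ⟨k, hk⟩ := hrel
  haveI : Fintype P := Fintype.ofFinite _
  set N' : Subgroup P := N.subgroupOf P with hN'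
  haveI hN'n : N'.Normal := Subgroup.Normal.subgroupOf hN P
  have hN'idx : N'.index = p ^ k := hk
  let e : N' ≃* N := Subgroup.subgroupOfEquivOfLe hNP
  set θ' : N' → ℂ := fun n' => θ (e n') with hθ'def
  have hθ' : IsIrrCharacter N' θ' := IsIrrCharacter.comp_mulEquiv hθ e
  have hθc : IsCharacter N θ := IsIrrCharacter.isCharacter hθ
  have hinv' : ∀ (m : P) (n' : N'),
      θ' ⟨m * n' * m⁻¹, hN'n.conj_mem (n' : P) n'.2 m⟩ = θ' n' := by
    intro m n'
    simp only [hθ'def]
    have h1 := hinv (m : G) (e n')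
    rw [← h1]
    congr 1
  have hd' : θ' 1 = d := by
    simp only [hθ'def, map_one]; exact hd
  have hdetθ' : detChar θ' = fun n' => detChar θ (e n') := detChar_comp hθc e.toMonoidHom
  have hμN' : ∀ n' : N', (((μ.comp P.subtype) (n' : P) : ℂˣ) : ℂ) = detChar θ' n' := by
    intro n'
    rw [hdetθ']
    simp only
    rw [← hμ (e n')]
    rfl
  obtain ⟨η, hη, hηres⟩ :=
    ext_of_pgroup_quotient p d hpd (μ.comp P.subtype) k N' hN'idx θ' hθ' hinv' hd' hμN'
  refine ⟨P, hNP, η, hcopP, hη, fun n => ?_⟩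
  have hmem : (⟨(n : G), hNP n.2⟩ : P) ∈ N' := Subgroup.mem_subgroupOf.mpr n.2
  have h2 := hηres ⟨_, hmem⟩
  simp only at h2
  rw [h2]
  simp only [hθ'def]
  congr 1

end Cfsg.Agent.Lib.Helper2_GallagherExt
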