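import Mathlib
import Cfsg.Prelude.Def_Characters
import Cfsg.Agent.Lib.Helper2_ClassFn
import Cfsg.Agent.Lib.Helper2_CharBasic
import Cfsg.Agent.Lib.Helper2_CharOrtho
import Cfsg.Agent.Lib.Helper2_CharMore
import Cfsg.Agent.Lib.Helper2_CharValues
import Cfsg.Agent.Lib.Helper2_CharComplete
import Cfsg.Agent.Lib.Helper2_CharInd
import Cfsg.Agent.Lib.Helper2_CharSum
import Cfsg.Agent.Lib.Helper2_CharInt
import Cfsg.Agent.Lib.Helper2_BrauerThm
import Cfsg.Agent.Lib.Helper2_MGroup
import Cfsg.Agent.Lib.Helper2_DefectZero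

set_option autoImplicit false

/-!
# Galois conjugates of characters: `g ↦ χ (g ^ m)` for `m` coprime to `|G|`
-/

namespace Cfsg.Agent.Lib.Helper2_GaloisConj

open Cfsg
open Cfsg.Agent.Lib.Helper2_ClassFn
open Cfsg.Agent.Lib.Helper2_CharBasic
open Cfsg.Agent.Lib.Helper2_CharOrtho
open Cfsg.Agent.Lib.Helper2_CharMore
open Cfsg.Agent.Lib.Helper2_CharValues
open Cfsg.Agent.Lib.Helper2_CharComplete
open Cfsg.Agent.Lib.Helper2_CharInd
open Cfsg.Agent.Lib.Helper2_CharSum
open Cfsg.Agent.Lib.Helper2_CharInt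
open Cfsg.Agent.Lib.Helper2_BrauerThm
open Cfsg.Agent.Lib.Helper2_MGroup
open Cfsg.Agent.Lib.Helper2_DefectZero
open scoped ComplexConjugate

universe u

section Pow

variable {G : Type u} [Group G]

/-- The function `g ↦ χ (g ^ m)`. -/
def powFn (m : ℕ) (χ : G → ℂ) : G → ℂ := fun g => χ (g ^ m)

theorem powFn_apply (m : ℕ) (χ : G → ℂ) (g : G) : powFn m χ g = χ (g ^ m) := rfl

theorem powFn_add (m : ℕ) (χ ψ : G → ℂ) : powFn m (χ + ψ) = powFn m χ + powFn m ψ := rfl

theorem powFn_zero (m : ℕ) : powFn m (0 : G → ℂ) = 0 := rfl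

theorem powFn_multiset_sum (m : ℕ) (s : Multiset (G → ℂ)) :
    powFn m s.sum = (s.map (powFn m)).sum := by
  induction s using Multiset.induction_on with
  | empty => simp [powFn_zero]
  | cons a s ih => simp [powFn_add, ih]

theorem powFn_isClassFunction (m : ℕ) {χ : G → ℂ} (hχ : IsClassFunction G χ) :
    IsClassFunction G (powFn m χ) := by
  intro g h
  rw [powFn_apply, powFn_apply, conj_pow]
  exact hχ _ _

variable [Finite G]

theorem exists_pow_pow_eq (m : ℕ) (hm : m.Coprime (Nat.card G)) :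
    ∃ m' : ℕ, ∀ g : G, (g ^ m) ^ m' = g := by
  by_cases h1 : Nat.card G = 1
  · haveI : Subsingleton G := (Nat.card_eq_one_iff_unique.mp h1).1
    exact ⟨0, fun g => Subsingleton.elim _ _⟩
  have h1' : 1 < Nat.card G := by
    have := Nat.card_pos (α := G)
    omega
  obtain ⟨m', -, hm'⟩ := Nat.exists_mul_mod_eq_one_of_coprime hm h1'
  refine ⟨m', fun g => ?_⟩
  rw [← pow_mul, ← pow_mod_natCard, hm', pow_one]

theorem pow_mem_iff (H : Subgroup G) (m : ℕ) (hm : m.Coprime (Nat.card G)) (g : G) :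
    g ^ m ∈ H ↔ g ∈ H := by
  obtain ⟨m', hm'⟩ := exists_pow_pow_eq (G := G) m hm
  constructor
  · intro h
    rw [← hm' g]
    exact H.pow_mem h m'
  · intro h
    exact H.pow_mem h m

theorem pow_bijective (m : ℕ) (hm : m.Coprime (Nat.card G)) :
    Function.Bijective (fun g : G => g ^ m) := by
  obtain ⟨m', hm'⟩ := exists_pow_pow_eq (G := G) m hm
  have hinj : Function.Injective (fun g : G => g ^ m) := by
    intro a b hab
    have : (a ^ m) ^ m' = (b ^ m) ^ m' := by
      change a ^ m = b ^ m at hab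
      rw [hab]
    rwa [hm', hm'] at this
  exact Finite.injective_iff_bijective.mp hinj

end Pow

section Ind

variable {G : Type u} [Group G] [Fintype G]

theorem powFn_indFun (H : Subgroup G) (θ : H → ℂ) (m : ℕ) (hm : m.Coprime (Nat.card G)) :
    powFn m (indFun H θ) = indFun H (powFn m θ) := by
  classical
  ext g
  rw [powFn_apply]
  unfold indFun
  congr 1
  apply Finset.sum_congr rfl
  intro x _
  have hc : x⁻¹ * g ^ m * x = (x⁻¹ * g * x) ^ m := by
    have := conj_pow (a := x⁻¹) (b := g) (i := m)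
    rw [inv_inv] at this
    exact this.symm
  rw [hc]
  by_cases hy : x⁻¹ * g * x ∈ H
  · have hy' : (x⁻¹ * g * x) ^ m ∈ H := H.pow_mem hy m
    rw [extendByZero_of_mem H _ hy, extendByZero_of_mem H _ hy', powFn_apply]
    rfl
  · have hy' : (x⁻¹ * g * x) ^ m ∉ H := fun h => hy ((pow_mem_iff H m hm _).mp h)
    rw [extendByZero_of_not_mem H _ hy, extendByZero_of_not_mem H _ hy']

theorem classInner_powFn (m : ℕ) (hm : m.Coprime (Nat.card G)) (χ ψ : G → ℂ) :
    classInner (powFn m χ) (powFn m ψ) = classInner χ ψ := by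
  rw [classInner_def, classInner_def]
  congr 1
  exact Fintype.sum_bijective (fun g : G => g ^ m) (pow_bijective m hm) _ _ (fun g => rfl)

/-- For a nilpotent group, the Galois conjugate of an irreducible character is a character. -/
theorem powFn_isCharacter_of_nilpotent_irr [Group.IsNilpotent G] (m : ℕ)
    (hm : m.Coprime (Nat.card G)) {χ : G → ℂ} (hχ : IsIrrCharacter G χ) :
    IsCharacter G (powFn m χ) := by
  obtain ⟨H, lam, rfl⟩ := mgroup_aux (Nat.card G) G rfl χ hχ
  rw [powFn_indFun H _ m hm]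
  apply IsCharacter.indFun
  have : powFn m (fun h : H => ((lam h : ℂˣ) : ℂ)) = fun h : H => (((lam ^ m) h : ℂˣ) : ℂ) := by
    ext h
    rw [powFn_apply]
    simp
  rw [this]
  exact IsIrrCharacter.isCharacter (isIrrCharacter_of_hom _)

theorem powFn_isCharacter_of_nilpotent [Group.IsNilpotent G] (m : ℕ)
    (hm : m.Coprime (Nat.card G)) {χ : G → ℂ} (hχ : IsCharacter G χ) :
    IsCharacter G (powFn m χ) := by
  obtain ⟨s, hs, rfl⟩ := IsCharacter.exists_irr_decomp hχ
  rw [powFn_multiset_sum]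
  apply IsCharacter.multiset_sum
  intro ψ hψ
  obtain ⟨φ, hφ, rfl⟩ := Multiset.mem_map.mp hψ
  exact powFn_isCharacter_of_nilpotent_irr m hm (hs φ hφ)

theorem powFn_isGeneralizedCharacter (m : ℕ) (hm : m.Coprime (Nat.card G)) {χ : G → ℂ}
    (hχ : IsCharacter G χ) : IsGeneralizedCharacter G (powFn m χ) := by
  classical
  apply brauer_characterization _ (powFn_isClassFunction m (IsCharacter.isClassFunction hχ))
  intro E p hp hE
  haveI := IsElementary.nilpotent hp hE
  have hmE : m.Coprime (Nat.card E) :=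
    Nat.Coprime.coprime_dvd_right (Subgroup.card_subgroup_dvd_card E) hm
  have := powFn_isCharacter_of_nilpotent (G := E) m hmE (IsCharacter.restrict hχ E)
  exact IsCharacter.isGeneralizedCharacter this

theorem powFn_isIrrCharacter (m : ℕ) (hm : m.Coprime (Nat.card G)) {χ : G → ℂ}
    (hχ : IsIrrCharacter G χ) : IsIrrCharacter G (powFn m χ) := by
  apply IsGeneralizedCharacter.isIrr_of_norm_one
    (powFn_isGeneralizedCharacter m hm (IsIrrCharacter.isCharacter hχ))
  · rw [classInner_powFn m hm, classInner_irr_self hχ]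
  · rw [powFn_apply, one_pow]
    obtain ⟨n, hn, h1⟩ := IsIrrCharacter.apply_one hχ
    rw [h1]
    simpa using hn

theorem powFn_isCharacter (m : ℕ) (hm : m.Coprime (Nat.card G)) {χ : G → ℂ}
    (hχ : IsCharacter G χ) : IsCharacter G (powFn m χ) := by
  obtain ⟨s, hs, rfl⟩ := IsCharacter.exists_irr_decomp hχ
  rw [powFn_multiset_sum]
  apply IsCharacter.multiset_sum
  intro ψ hψ
  obtain ⟨φ, hφ, rfl⟩ := Multiset.mem_map.mp hψ
  exact IsIrrCharacter.isCharacter (powFn_isIrrCharacter m hm (hs φ hφ))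

end Ind

end Cfsg.Agent.Lib.Helper2_GaloisConj
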