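import Mathlib
import Cfsg.Prelude.Def_Characters
import Cfsg.Agent.Lib.Helper2_ClassFn
import Cfsg.Agent.Lib.Helper2_CharBasic
import Cfsg.Agent.Lib.Helper2_CharOrtho
import Cfsg.Agent.Lib.Helper2_CharMore
import Cfsg.Agent.Lib.Helper2_Clifford
import Cfsg.Agent.Lib.Helper2_CharInd
import Cfsg.Agent.Lib.Helper2_CharDeg
import Cfsg.Agent.Lib.Helper2_CharSum
import Cfsg.Agent.Lib.Helper2_CharExtra
import Cfsg.Agent.Lib.Helper2_CliffordCorr
import Cfsg.Agent.Lib.Helper2_Gallagher
import Cfsg.Agent.Lib.Helper2_MGroup
import Cfsg.Agent.Lib.Helper2_SylowExt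
import Cfsg.Agent.Lib.Helper2_Ito
import Cfsg.Agent.S0154

set_option autoImplicit false

/-!
# Going down: restriction of an invariant character through an abelian chief factor
-/

namespace Cfsg.Agent.Lib.Helper2_GoingDown

open Cfsg
open Cfsg.Agent.Lib.Helper2_ClassFn
open Cfsg.Agent.Lib.Helper2_CharBasic
open Cfsg.Agent.Lib.Helper2_CharOrtho
open Cfsg.Agent.Lib.Helper2_CharMore
open Cfsg.Agent.Lib.Helper2_Clifford
open Cfsg.Agent.Lib.Helper2_CharInd
open Cfsg.Agent.Lib.Helper2_CharDeg
open Cfsg.Agent.Lib.Helper2_CharSum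
open Cfsg.Agent.Lib.Helper2_CharExtra
open Cfsg.Agent.Lib.Helper2_CliffordCorr
open Cfsg.Agent.Lib.Helper2_Gallagher
open Cfsg.Agent.Lib.Helper2_MGroup
open Cfsg.Agent.Lib.Helper2_SylowExt
open Cfsg.Agent.Lib.Helper2_Ito
open scoped ComplexConjugate

universe u

section XLevel

variable {X : Type u} [Group X] [Fintype X] (N : Subgroup X) [hN : N.Normal] [Fintype N]

/-- norm of a sum of distinct irreducible characters -/
theorem classInner_sum_irr_self {A : Type*} [Group A] [Fintype A] (F : Finset (A → ℂ))
    (hF : ∀ ψ ∈ F, IsIrrCharacter A ψ) :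
    classInner (∑ ψ ∈ F, ψ) (∑ ψ ∈ F, ψ) = (F.card : ℂ) := by
  classical
  rw [classInner_sum_left]
  have : ∀ ψ ∈ F, classInner ψ (∑ ψ' ∈ F, ψ') = 1 := by
    intro ψ hψ
    rw [classInner_sum_right]
    rw [Finset.sum_eq_single ψ]
    · exact classInner_irr_self (hF ψ hψ)
    · intro ψ' hψ' hne
      exact classInner_irr_of_ne (hF ψ hψ) (hF ψ' hψ') (Ne.symm hne)
    · intro h; exact absurd hψ h
  rw [Finset.sum_congr rfl this, Finset.sum_const, nsmul_eq_mul, mul_one]

set_option maxHeartbeats 1000000 in
theorem going_down_aux (hab : ∀ x y : X, x * y * x⁻¹ * y⁻¹ ∈ N) {ϑ : X → ℂ}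
    (hϑ : IsIrrCharacter X ϑ)
    (H1 : N ⊔ Subgroup.closure {x : X | ϑ x ≠ 0} = N ∨ N ⊔ Subgroup.closure {x : X | ϑ x ≠ 0} = ⊤)
    (H2 : ∀ φ : N → ℂ, IsIrrCharacter N φ → classInner (fun n : N => ϑ n) φ ≠ 0 →
      inertia N φ = N ∨ inertia N φ = ⊤) :
    IsIrrCharacter N (fun n : N => ϑ n) ∨
    (∃ (φ : N → ℂ) (e : ℕ), IsIrrCharacter N φ ∧ (fun n : N => ϑ n) = (e : ℂ) • φ ∧
      e ^ 2 = N.index) ∨
    (∃ F : Finset (N → ℂ), (∀ φ ∈ F, IsIrrCharacter N φ) ∧ F.card = N.index ∧
      (fun n : N => ϑ n) = ∑ φ ∈ F, φ) := by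
  classical
  haveI : Fintype (X ⧸ N) := Fintype.ofFinite _
  have hϑc := IsIrrCharacter.isCharacter hϑ
  have hϑcf := IsCharacter.isClassFunction hϑc
  have hRc : IsCharacter N (fun n : N => ϑ n) := IsCharacter.restrict hϑc N
  have hcomm : ∀ a b : X ⧸ N, a * b = b * a := by
    intro a b
    induction a using QuotientGroup.induction_on with
    | H x =>
    induction b using QuotientGroup.induction_on with
    | H y =>
    rw [← QuotientGroup.mk_mul, ← QuotientGroup.mk_mul, QuotientGroup.eq]
    have := hab y⁻¹ x⁻¹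
    rw [inv_inv, inv_inv] at this
    convert this using 1
    group
  set B := irrFinset (X ⧸ N) with hB
  have hB1 : ∀ β ∈ B, β 1 = 1 := fun β hβ =>
    IsIrrCharacter.apply_one_of_comm hcomm (mem_irrFinset.mp hβ)
  have hirr : ∀ β ∈ B, IsIrrCharacter X (infl N β * ϑ) := by
    intro β hβ
    obtain ⟨ω, hω⟩ := Cfsg.Agent.S0154.exists_hom_of_degree_one β (mem_irrFinset.mp hβ)
      (hB1 β hβ)
    have := isIrr_mul_hom hϑ (ω.comp (QuotientGroup.mk' N))
    convert this using 1
    ext x
    rw [Pi.mul_apply, infl_apply, hω, mul_comm]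
    rfl
  -- norm of the restriction
  have hnorm : classInner (fun n : N => ϑ n) (fun n : N => ϑ n)
      = ((B.filter (fun β => infl N β * ϑ = ϑ)).card : ℂ) := by
    rw [← frobenius_reciprocity N _ ϑ hϑcf, gallagher_decomp N hϑcf, classInner_sum_left]
    have : ∀ β ∈ B, classInner (β 1 • (infl N β * ϑ)) ϑ = if infl N β * ϑ = ϑ then 1 else 0 := by
      intro β hβ
      rw [hB1 β hβ, one_smul, classInner_irr (hirr β hβ) hϑ]
    rw [Finset.sum_congr rfl this, Finset.sum_ite, Finset.sum_const_zero, add_zero,
      Finset.sum_const, nsmul_eq_mul, mul_one]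
  rcases H1 with H1 | H1
  swap
  · -- the support generates: restriction irreducible
    left
    apply IsCharacter.isIrr_of_norm_one hRc
    rw [hnorm]
    have : B.filter (fun β => infl N β * ϑ = ϑ) = {fun _ => (1 : ℂ)} := by
      ext β
      rw [Finset.mem_filter, Finset.mem_singleton]
      constructor
      · rintro ⟨hβ, hfix⟩
        obtain ⟨ω, hω⟩ := Cfsg.Agent.S0154.exists_hom_of_degree_one β (mem_irrFinset.mp hβ)
          (hB1 β hβ)
        have hker : (ω.comp (QuotientGroup.mk' N)).ker = ⊤ := by
          rw [eq_top_iff, ← H1]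
          apply sup_le
          · intro n hn
            rw [MonoidHom.mem_ker, MonoidHom.comp_apply, QuotientGroup.mk'_apply,
              (QuotientGroup.eq_one_iff n).mpr hn, map_one]
          · rw [Subgroup.closure_le]
            intro x hx
            have h1 := congrFun hfix x
            rw [Pi.mul_apply, infl_apply, hω] at h1
            have h2 : ((ω (x : X ⧸ N) : ℂˣ) : ℂ) = 1 := by
              have hx' : ϑ x ≠ 0 := hx
              have : (((ω (x : X ⧸ N) : ℂˣ) : ℂ) - 1) * ϑ x = 0 := by
                rw [sub_mul, one_mul, h1, sub_self]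
              rcases mul_eq_zero.mp this with h | h
              · exact sub_eq_zero.mp h
              · exact absurd h hx'
            rw [SetLike.mem_coe, MonoidHom.mem_ker, MonoidHom.comp_apply, QuotientGroup.mk'_apply]
            exact Units.ext h2
        rw [hω]
        ext q
        induction q using QuotientGroup.induction_on with
        | H x =>
        have : x ∈ (ω.comp (QuotientGroup.mk' N)).ker := by rw [hker]; exact Subgroup.mem_top x
        rw [MonoidHom.mem_ker, MonoidHom.comp_apply, QuotientGroup.mk'_apply] at this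
        rw [this]; rfl
      · rintro rfl
        refine ⟨mem_irrFinset.mpr isIrrCharacter_one, ?_⟩
        ext x
        rw [Pi.mul_apply, infl_apply, one_mul]
    rw [this, Finset.card_singleton, Nat.cast_one]
  · -- ϑ vanishes off N
    right
    have hvan : ∀ x : X, x ∉ N → ϑ x = 0 := by
      intro x hx
      by_contra h
      apply hx
      rw [← H1]
      exact (le_sup_right : Subgroup.closure {x : X | ϑ x ≠ 0} ≤ _)
        (Subgroup.subset_closure h)
    have hnorm2 : classInner (fun n : N => ϑ n) (fun n : N => ϑ n) = (N.index : ℂ) := by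
      have h1 := classInner_irr_self hϑ
      rw [classInner_def] at h1 ⊢
      have h2 : ∑ x : X, ϑ x * conj (ϑ x) = ∑ n : N, ϑ n * conj (ϑ n) := by
        rw [← sum_extendByZero_mul N (fun n : N => ϑ n) (fun x => conj (ϑ x))]
        refine Finset.sum_congr rfl fun x _ => ?_
        by_cases hx : x ∈ N
        · rw [extendByZero_of_mem N _ hx]
        · rw [extendByZero_of_not_mem N _ hx, hvan x hx, zero_mul]
      rw [← h2]
      have hX : (Nat.card X : ℂ) ≠ 0 := card_ne_zero_complex
      have hNc : (Nat.card N : ℂ) ≠ 0 := by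
        have : 0 < Nat.card N := Nat.card_pos
        exact_mod_cast this.ne'
      have h3 : ∑ x : X, ϑ x * conj (ϑ x) = (Nat.card X : ℂ) := by
        field_simp at h1
        exact h1
      rw [h3, ← Subgroup.card_mul_index N]
      push_cast
      field_simp
    have hR0 : (fun n : N => ϑ n) ≠ 0 := by
      intro h
      have := congrFun h 1
      exact IsIrrCharacter.apply_one_ne_zero hϑ this
    obtain ⟨φ, hφ, n, hn0, hn⟩ := IsCharacter.exists_constituent hRc hR0
    have hconst : classInner (fun n : N => ϑ n) φ ≠ 0 := by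
      rw [hn]; exact_mod_cast hn0.ne'
    rcases H2 φ hφ hconst with hT | hT
    · -- inertia group is N : sum of distinct conjugates
      right
      have hT' : ∀ g : X, g ∈ N ↔ ∀ h : N, φ ⟨g * h * g⁻¹, hN.conj_mem h h.2 g⟩ = φ h := by
        intro g
        rw [← mem_inertia, hT]
      have hcl := clifford N hϑ hφ hconst
      rw [hn] at hcl
      set F := Finset.univ.image (conjFn N φ) with hF
      have hFirr : ∀ ψ ∈ F, IsIrrCharacter N ψ := by
        intro ψ hψ
        obtain ⟨g, -, rfl⟩ := Finset.mem_image.mp hψ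
        exact IsIrrCharacter.conjFn hφ g
      have hFcard : F.card = N.index := card_image_conjFn N N hT'
      have hn1 : n = 1 := by
        have h1 := hnorm2
        rw [hcl, classInner_smul_left, classInner_smul_right, classInner_sum_irr_self F hFirr,
          hFcard, Complex.conj_natCast] at h1
        have hidx : (N.index : ℂ) ≠ 0 := by
          have : 0 < N.index := Nat.pos_of_ne_zero Subgroup.index_ne_zero_of_finite
          exact_mod_cast this.ne'
        have h2 : ((n * n : ℕ) : ℂ) = 1 := by
          push_cast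
          apply mul_right_cancel₀ hidx
          linear_combination h1
        have h3 : n * n = 1 := by exact_mod_cast h2
        exact Nat.eq_one_of_mul_eq_one_left h3
      refine ⟨F, hFirr, hFcard, ?_⟩
      rw [hcl, hn1, Nat.cast_one, one_smul]
    · -- φ invariant
      left
      have hinv : ∀ g : X, conjFn N φ g = φ := by
        intro g
        have : g ∈ inertia N φ := by rw [hT]; exact Subgroup.mem_top g
        exact this
      have hres := restrict_eq_smul_of_invariant N hϑ hφ hinv hconst
      rw [hn] at hres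
      refine ⟨φ, n, hφ, hres, ?_⟩
      have h1 := hnorm2
      rw [hres, classInner_smul_left, classInner_smul_right, classInner_irr_self hφ,
        Complex.conj_natCast, mul_one] at h1
      have h2 : ((n ^ 2 : ℕ) : ℂ) = (N.index : ℂ) := by
        push_cast
        linear_combination h1
      exact_mod_cast h2

end XLevel

end Cfsg.Agent.Lib.Helper2_GoingDown
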