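import Mathlib
import Cfsg.Prelude.Def_Transfer

set_option autoImplicit false

namespace Cfsg.Agent.Lib.Helper3_PResidual

open Cfsg

/-- In a finite group, for every `g` there is `a` with `g ^ (p ^ a)` of order prime to `p`. -/
theorem exists_pow_coprime {G : Type*} [Group G] [Finite G] (p : ℕ) [hp : Fact p.Prime] (g : G) :
    ∃ a : ℕ, (orderOf (g ^ (p ^ a))).Coprime p := by
  have hpos : orderOf g ≠ 0 := (orderOf_pos g).ne'
  obtain ⟨a, m, hm, hgm⟩ := Nat.exists_eq_pow_mul_and_not_dvd hpos p hp.out.ne_one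
  refine ⟨a, ?_⟩
  have h1 : orderOf (g ^ (p ^ a)) = m := by
    rw [orderOf_pow, hgm]
    have : Nat.gcd (p ^ a * m) (p ^ a) = p ^ a := Nat.gcd_eq_right (Dvd.intro _ rfl)
    rw [this]
    exact Nat.mul_div_cancel_left m (pow_pos hp.out.pos a)
  rw [h1, Nat.coprime_comm, Nat.Prime.coprime_iff_not_dvd hp.out]
  exact hm

/-- A normal subgroup containing all `p'`-elements has `p`-group quotient. -/
theorem isPGroup_quotient_of_coprime_mem {G : Type*} [Group G] [Finite G] (p : ℕ) [Fact p.Prime]
    (K : Subgroup G) [K.Normal] (hK : ∀ g : G, (orderOf g).Coprime p → g ∈ K) :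
    IsPGroup p (G ⧸ K) := by
  intro q
  obtain ⟨g, rfl⟩ := QuotientGroup.mk_surjective q
  obtain ⟨a, ha⟩ := exists_pow_coprime p g
  refine ⟨a, ?_⟩
  rw [← QuotientGroup.mk_pow, QuotientGroup.eq_one_iff]
  exact hK _ ha

/-- The closure of a conjugation-invariant set is normal. -/
theorem closure_normal_of_conj_invariant {G : Type*} [Group G] (S : Set G)
    (h : ∀ n ∈ S, ∀ g : G, g * n * g⁻¹ ∈ S) : (Subgroup.closure S).Normal := by
  constructor
  intro n hn g
  induction hn using Subgroup.closure_induction with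
  | mem x hx => exact Subgroup.subset_closure (h x hx g)
  | one => simp
  | mul a b _ _ ha hb =>
    have : g * (a * b) * g⁻¹ = (g * a * g⁻¹) * (g * b * g⁻¹) := by group
    rw [this]; exact Subgroup.mul_mem _ ha hb
  | inv a _ ha =>
    have : g * a⁻¹ * g⁻¹ = (g * a * g⁻¹)⁻¹ := by group
    rw [this]; exact Subgroup.inv_mem _ ha

/-- `O^p(G)` is normal. -/
theorem pResidual_normal (p : ℕ) (G : Type*) [Group G] : (Cfsg.pResidual p G).Normal := by
  unfold Cfsg.pResidual
  apply closure_normal_of_conj_invariant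
  intro n hn g
  show Nat.Coprime (orderOf (g * n * g⁻¹)) p
  have : orderOf (g * n * g⁻¹) = orderOf n := by
    simpa [MulAut.conj_apply] using (MulAut.conj g).orderOf_eq n
  rw [this]; exact hn

theorem mem_pResidual_of_coprime {G : Type*} [Group G] (p : ℕ) (g : G) (h : (orderOf g).Coprime p) :
    g ∈ Cfsg.pResidual p G :=
  Subgroup.subset_closure h

/-- A subgroup of index prime to `p` together with a normal subgroup with `p`-group quotient
generates the whole group. -/
theorem sup_eq_top_of_index_coprime {G : Type*} [Group G] [Finite G] (p : ℕ) [hp : Fact p.Prime]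
    (R K : Subgroup G) [K.Normal] (hR : ¬ p ∣ R.index) (hK : IsPGroup p (G ⧸ K)) :
    R ⊔ K = ⊤ := by
  rw [← Subgroup.index_eq_one]
  have h1 : (R ⊔ K).index ∣ R.index := Subgroup.index_dvd_of_le le_sup_left
  have h2 : (R ⊔ K).index ∣ K.index := Subgroup.index_dvd_of_le le_sup_right
  obtain ⟨k, hk⟩ := IsPGroup.iff_card.mp hK
  have h3 : K.index = p ^ k := by rw [Subgroup.index, hk]
  rw [h3] at h2
  obtain ⟨j, _, hj⟩ := (Nat.dvd_prime_pow hp.out).mp h2
  rcases Nat.eq_zero_or_pos j with h0 | hpos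
  · rw [hj, h0, pow_zero]
  · exfalso
    apply hR
    have : p ∣ (R ⊔ K).index := by rw [hj]; exact dvd_pow_self p hpos.ne'
    exact dvd_trans this h1

/-- Every element factors as `r * m` with `r ∈ R` (index prime to `p`) and `m ∈ O^p(G)`. -/
theorem exists_mul_pResidual {G : Type*} [Group G] [Finite G] (p : ℕ) [Fact p.Prime]
    (R : Subgroup G) (hR : ¬ p ∣ R.index) (n : G) :
    ∃ r ∈ R, ∃ m ∈ Cfsg.pResidual p G, n = r * m := by
  haveI := pResidual_normal p G
  have hK : IsPGroup p (G ⧸ Cfsg.pResidual p G) :=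
    isPGroup_quotient_of_coprime_mem p _ (fun g hg => mem_pResidual_of_coprime p g hg)
  have htop := sup_eq_top_of_index_coprime p R (Cfsg.pResidual p G) hR hK
  have hn : n ∈ ((R ⊔ Cfsg.pResidual p G : Subgroup G) : Set G) := by
    rw [htop]; exact Set.mem_univ n
  rw [Subgroup.mul_normal] at hn
  obtain ⟨r, hr, m, hm, rfl⟩ := hn
  exact ⟨r, hr, m, hm, rfl⟩

end Cfsg.Agent.Lib.Helper3_PResidual
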