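import Mathlib
import Cfsg.Prelude.Def_Characters
import Cfsg.Prelude.Def_CharExt
import Cfsg.Prelude.Def_Transfer
import Cfsg.Prelude.Def_Blocks
import Cfsg.Agent.Lib.Helper2_ClassFn
import Cfsg.Agent.Lib.Helper2_CharBasic
import Cfsg.Agent.Lib.Helper2_CharOrtho
import Cfsg.Agent.Lib.Helper2_Clifford
import Cfsg.Agent.Lib.Helper2_CharMore
import Cfsg.Agent.Lib.Helper2_CharInd
import Cfsg.Agent.Lib.Helper2_CharDeg
import Cfsg.Agent.Lib.Helper2_CharSum
import Cfsg.Agent.Lib.Helper2_CharCentral
import Cfsg.Agent.Lib.Helper2_CliffordCorr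
import Cfsg.Agent.Lib.Helper2_CharInt
import Cfsg.Agent.Lib.Helper2_Ito
import Cfsg.Agent.Lib.Helper2_Gallagher
import Cfsg.Agent.Lib.Helper2_ProjLift
import Cfsg.Agent.Lib.Helper2_DetChar
import Cfsg.Agent.Lib.Helper3_PResidual
import Cfsg.Agent.S0867

set_option autoImplicit false

/-!
# Weighted fixed-point congruence for `p`-group actions
-/

namespace Cfsg.Agent.Lib.Helper2_Thompson

open Cfsg
open Cfsg.Agent.Lib.Helper2_ClassFn
open Cfsg.Agent.Lib.Helper2_CharBasic
open Cfsg.Agent.Lib.Helper2_CharOrtho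
open Cfsg.Agent.Lib.Helper2_Clifford
open Cfsg.Agent.Lib.Helper2_CharMore
open Cfsg.Agent.Lib.Helper2_CharInd
open Cfsg.Agent.Lib.Helper2_CharDeg
open Cfsg.Agent.Lib.Helper2_CharSum
open Cfsg.Agent.Lib.Helper2_CharCentral
open Cfsg.Agent.Lib.Helper2_CliffordCorr
open Cfsg.Agent.Lib.Helper2_CharInt
open Cfsg.Agent.Lib.Helper2_Ito
open Cfsg.Agent.Lib.Helper2_Gallagher
open Cfsg.Agent.Lib.Helper2_ProjLift
open Cfsg.Agent.Lib.Helper2_DetChar
open Cfsg.Agent.Lib.Helper3_PResidual

section W

variable {S X : Type*} [Group S] [MulAction S X]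

/-- Pairs `(x, i)` with `x ∈ T` and `i < f x`. -/
def WPairs (T : Set X) (f : X → ℕ) : Type _ := {y : X × ℕ // y.1 ∈ T ∧ y.2 < f y.1}

theorem card_wpairs [Fintype X] (T : Set X) [DecidablePred (· ∈ T)] (f : X → ℕ) :
    Nat.card (WPairs T f) = ∑ x ∈ Finset.univ.filter (· ∈ T), f x := by
  classical
  have e : WPairs T f ≃ Σ x : {x : X // x ∈ T}, Fin (f x.1) :=
    { toFun := fun y => ⟨⟨y.1.1, y.2.1⟩, ⟨y.1.2, y.2.2⟩⟩
      invFun := fun z => ⟨(z.1.1, z.2.1), z.1.2, z.2.2⟩
      left_inv := fun y => rfl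
      right_inv := fun z => rfl }
  rw [Nat.card_congr e, Nat.card_sigma]
  simp only [Nat.card_eq_fintype_card, Fintype.card_fin]
  rw [Finset.sum_subtype (Finset.univ.filter (· ∈ T)) (p := (· ∈ T)) (by simp)]

/-- The action on pairs induced by an action preserving the weight. -/
@[reducible] def wAction (f : X → ℕ) (hf : ∀ (s : S) (x : X), f (s • x) = f x) :
    MulAction S (WPairs (Set.univ : Set X) f) where
  smul s y := ⟨(s • y.1.1, y.1.2), trivial, by rw [hf]; exact y.2.2⟩
  one_smul y := by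
    apply Subtype.ext
    apply Prod.ext
    · exact one_smul S y.1.1
    · rfl
  mul_smul s t y := by
    apply Subtype.ext
    apply Prod.ext
    · exact mul_smul s t y.1.1
    · rfl

theorem weighted_fixedPoints [Fintype X] {p : ℕ} [Fact p.Prime] (hS : IsPGroup p S)
    (f : X → ℕ) (hf : ∀ (s : S) (x : X), f (s • x) = f x)
    [DecidablePred (· ∈ MulAction.fixedPoints S X)] :
    (∑ x, f x) ≡ ∑ x ∈ Finset.univ.filter (· ∈ MulAction.fixedPoints S X), f x [MOD p] := by
  classical
  letI := wAction (S := S) f hf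
  haveI : Finite (WPairs (Set.univ : Set X) f) := by
    have : Finite (Σ x : {x : X // x ∈ (Set.univ : Set X)}, Fin (f x.1)) := inferInstance
    exact Finite.of_injective
      (fun y : WPairs (Set.univ : Set X) f =>
        (⟨⟨y.1.1, y.2.1⟩, ⟨y.1.2, y.2.2⟩⟩ : Σ x : {x : X // x ∈ (Set.univ : Set X)}, Fin (f x.1)))
      (by
        intro a b hab
        have h1 : a.1.1 = b.1.1 := by
          have := congrArg (fun z => (z.1 : X)) hab
          exact this
        have h2 : a.1.2 = b.1.2 := by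
          have := congrArg (fun z => (z.2 : ℕ)) hab
          exact this
        exact Subtype.ext (Prod.ext h1 h2))
  have h := hS.card_modEq_card_fixedPoints (WPairs (Set.univ : Set X) f)
  rw [card_wpairs] at h
  have e : MulAction.fixedPoints S (WPairs (Set.univ : Set X) f)
      ≃ WPairs (MulAction.fixedPoints S X) f :=
    { toFun := fun y => ⟨y.1.1, by
        refine ⟨?_, y.1.2.2⟩
        intro s
        have := y.2 s
        exact congrArg (fun z : WPairs (Set.univ : Set X) f => z.1.1) this⟩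
      invFun := fun z => ⟨⟨z.1, trivial, z.2.2⟩, by
        intro s
        apply Subtype.ext
        apply Prod.ext
        · exact z.2.1 s
        · rfl⟩
      left_inv := fun y => rfl
      right_inv := fun z => rfl }
  rw [Nat.card_congr e, card_wpairs] at h
  simpa using h

end W

section O

variable {G : Type*} [Group G] [Finite G]

/-- Linear characters of `O^p(G)` have order prime to `p`. -/
theorem orderOf_hom_pResidual_coprime (p : ℕ) [hp : Fact p.Prime]
    (ω : (pResidual p G) →* ℂˣ) : (orderOf ω).Coprime p := by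
  set m := Nat.card G / p ^ (Nat.card G).factorization p with hm
  have hG0 : Nat.card G ≠ 0 := Nat.card_pos.ne'
  have hmp : m.Coprime p := (Nat.coprime_ordCompl hp.out hG0).symm
  have hfac : p ^ (Nat.card G).factorization p * m = Nat.card G :=
    Nat.ordProj_mul_ordCompl_eq_self (Nat.card G) p
  have key : ∀ (x : G) (hx : x ∈ pResidual p G), ω ⟨x, hx⟩ ^ m = 1 := by
    intro x hx
    refine Subgroup.closure_induction (p := fun x hx => ω ⟨x, hx⟩ ^ m = 1) ?_ ?_ ?_ ?_ hx
    · intro x hx
      have hx' : (orderOf x).Coprime p := hx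
      have hdvd : orderOf x ∣ m := by
        have h1 : orderOf x ∣ p ^ (Nat.card G).factorization p * m := by
          rw [hfac]; exact orderOf_dvd_natCard x
        exact (Nat.Coprime.pow_right _ hx').dvd_of_dvd_mul_left h1
      rw [← map_pow]
      have : (⟨x, Subgroup.subset_closure hx⟩ : pResidual p G) ^ m = 1 := by
        apply Subtype.ext
        rw [Subgroup.coe_pow, Subgroup.coe_one]
        exact orderOf_dvd_iff_pow_eq_one.mp hdvd
      rw [this, map_one]
    · have : (⟨1, Subgroup.one_mem _⟩ : pResidual p G) = 1 := rfl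
      rw [this, map_one, one_pow]
    · intro x y hx hy h1 h2
      have : (⟨x * y, Subgroup.mul_mem _ hx hy⟩ : pResidual p G)
          = ⟨x, hx⟩ * ⟨y, hy⟩ := rfl
      rw [this, map_mul, mul_pow, h1, h2, one_mul]
    · intro x hx h1
      have : (⟨x⁻¹, Subgroup.inv_mem _ hx⟩ : pResidual p G) = (⟨x, hx⟩ : pResidual p G)⁻¹ := rfl
      rw [this, map_inv, inv_pow, h1, inv_one]
  have hpow : ω ^ m = 1 := by
    ext y
    rw [MonoidHom.pow_apply, MonoidHom.one_apply]
    have := key y.1 y.2
    rw [this]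
  exact Nat.Coprime.coprime_dvd_left (orderOf_dvd_of_pow_eq_one hpow) hmp

/-- Irreducible characters of `O^p(G)` have determinantal order prime to `p`. -/
theorem detOrder_pResidual_not_dvd (p : ℕ) [hp : Fact p.Prime]
    (θ : (pResidual p G) → ℂ) (hθ : IsCharacter (pResidual p G) θ) : ¬ p ∣ detOrder θ := by
  obtain ⟨ω, hω⟩ := exists_detHom hθ
  unfold detOrder
  rw [hω, orderOf_coe]
  have := orderOf_hom_pResidual_coprime p ω
  intro hdvd
  have h1 : p ∣ Nat.gcd (orderOf ω) p := Nat.dvd_gcd hdvd dvd_rfl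
  rw [this] at h1
  exact hp.out.one_lt.ne' (Nat.dvd_one.mp h1)

end O

section Act

variable {G : Type*} [Group G] [Finite G]

/-- The conjugation action of `G` on the irreducible characters of a normal subgroup. -/
@[reducible] noncomputable def irrAction (M : Subgroup G) [hM : M.Normal] :
    MulAction G (IrrCharacter M) where
  smul g θ := ⟨conjFn M θ.1 g⁻¹, IsIrrCharacter.conjFn θ.2 g⁻¹⟩
  one_smul θ := by
    apply Subtype.ext
    change conjFn M θ.1 (1 : G)⁻¹ = θ.1
    rw [inv_one, conjFn_one]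
  mul_smul g h θ := by
    apply Subtype.ext
    change conjFn M θ.1 (g * h)⁻¹ = conjFn M (conjFn M θ.1 h⁻¹) g⁻¹
    rw [mul_inv_rev, conjFn_mul]

theorem irrAction_smul_coe (M : Subgroup G) [hM : M.Normal] (g : G) (θ : IrrCharacter M) :
    ((irrAction M).smul g θ : IrrCharacter M).1 = conjFn M θ.1 g⁻¹ := rfl

end Act

section Restrict

variable {G : Type*} [Group G] [Finite G]

/-- If `G / M` is a `p`-group, all irreducible characters of `M` have determinantal order prime
to `p`, and `χ ∈ Irr(G)` has degree prime to `p`, then `χ` restricts irreducibly to `M`. -/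
theorem restrict_irr_of_pgroup_quotient (p : ℕ) [hp : Fact p.Prime] (M : Subgroup G)
    [hM : M.Normal] (a : ℕ) (hidx : M.index = p ^ a)
    (hO : ∀ θ : M → ℂ, IsIrrCharacter M θ → ¬ p ∣ detOrder θ)
    (χ : G → ℂ) (hχ : IsIrrCharacter G χ) (n : ℕ) (hn : χ 1 = n) (hpn : ¬ p ∣ n) :
    IsIrrCharacter M (fun m : M => χ m) := by
  classical
  haveI := Fintype.ofFinite G
  have hχc := IsIrrCharacter.isCharacter hχ
  have hχM : IsCharacter M (fun m : M => χ m) := IsCharacter.restrict hχc M
  have hne : (fun m : M => χ m) ≠ 0 := by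
    intro h0
    have := congrFun h0 1
    exact IsIrrCharacter.apply_one_ne_zero hχ this
  obtain ⟨θ, hθ, c, hc0, hc⟩ := IsCharacter.exists_constituent hχM hne
  have hcon : classInner (fun m : M => χ m) θ ≠ 0 := by rw [hc]; exact_mod_cast hc0.ne'
  set T := inertia M θ with hT
  have hMT : M ≤ T := le_inertia M (IsCharacter.isClassFunction (IsIrrCharacter.isCharacter hθ))
  obtain ⟨ψ, f, hψ, hf0, hψθ, hind⟩ :=
    clifford_corr_surj M T hθ (fun g => mem_inertia M θ g) hMT hχ hcon
  have h1 : χ 1 = (T.index : ℂ) * ψ 1 := by rw [← hind, indFun_one]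
  obtain ⟨k, hk0, hk⟩ := IsIrrCharacter.apply_one hψ
  have h2 : n = T.index * k := by
    rw [hn, hk] at h1; exact_mod_cast h1
  have hTidx : T.index ∣ p ^ a := by rw [← hidx]; exact Subgroup.index_dvd_of_le hMT
  obtain ⟨j, _, hj⟩ := (Nat.dvd_prime_pow hp.out).mp hTidx
  have hj0 : j = 0 := by
    by_contra hj0
    apply hpn
    rw [h2, hj]
    exact Dvd.dvd.mul_right (dvd_pow_self p hj0) k
  have hTtop : T = ⊤ := by
    rw [← Subgroup.index_eq_one, hj, hj0, pow_zero]
  have hinv : ∀ g : G, conjFn M θ g = θ := by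
    intro g
    have : g ∈ T := by rw [hTtop]; trivial
    exact this
  have hres := restrict_eq_smul_of_invariant M hχ hθ hinv hcon
  rw [hc] at hres
  obtain ⟨d, hd0, hd⟩ := IsIrrCharacter.apply_one hθ
  have h3 : n = c * d := by
    have := congrFun hres 1
    simp only [Pi.smul_apply, smul_eq_mul] at this
    rw [hd] at this
    have h4 : χ ((1 : M) : G) = n := by rw [Subgroup.coe_one, hn]
    rw [h4] at this
    exact_mod_cast this
  have hpd : ¬ p ∣ d := fun h => hpn (by rw [h3]; exact Dvd.dvd.mul_left h c)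
  have hcop : Nat.Coprime M.index (detOrder θ * d) := by
    rw [hidx]
    apply Nat.Coprime.pow_left
    rw [Nat.Prime.coprime_iff_not_dvd hp.out]
    intro h
    rcases (Nat.Prime.dvd_mul hp.out).mp h with h | h
    · exact hO θ hθ h
    · exact hpd h
  obtain ⟨η, ⟨hη, hηθ, -⟩, -⟩ :=
    Cfsg.Agent.S0867.result M θ hθ (fun g m => congrFun (hinv g) m) d hd hcop
  have hηeq : (fun m : M => η m) = θ := funext hηθ
  have hηM : IsIrrCharacter M (fun m : M => η m) := by
    rw [hηeq]; exact hθ
  have hcon' : classInner (fun m : M => χ m) (fun m : M => η m) ≠ 0 := by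
    rw [hηeq]; exact hcon
  obtain ⟨β, hβ, hχβ⟩ := exists_gallagher_factor M hη hηM hχ hcon'
  obtain ⟨b, hb0, hb⟩ := IsIrrCharacter.apply_one hβ
  have hbdvd : b ∣ Nat.card (G ⧸ M) := degree_dvd_card hβ b hb
  have h5 : η 1 = d := by
    have := hηθ 1
    rw [Subgroup.coe_one] at this
    rw [this, hd]
  have hbn : n = b * d := by
    have := congrFun hχβ 1
    rw [Pi.mul_apply, infl_apply, hn, QuotientGroup.mk_one, hb, h5] at this
    exact_mod_cast this
  have hb1 : b = 1 := by
    have hcard : Nat.card (G ⧸ M) = p ^ a := by rw [← hidx]; rfl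
    rw [hcard] at hbdvd
    obtain ⟨j', _, hj'⟩ := (Nat.dvd_prime_pow hp.out).mp hbdvd
    rcases Nat.eq_zero_or_pos j' with h0 | hpos
    · rw [hj', h0, pow_zero]
    · exfalso
      apply hpn
      rw [hbn, hj']
      exact Dvd.dvd.mul_right (dvd_pow_self p hpos.ne') d
  have hfin : (fun m : M => χ m) = θ := by
    ext m
    rw [hχβ, Pi.mul_apply, infl_apply]
    have hm1 : ((m : G) : G ⧸ M) = 1 := (QuotientGroup.eq_one_iff _).mpr m.2
    rw [hm1, hb, hb1, hηθ]
    simp
  rw [hfin]; exact hθ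

end Restrict

section Main

variable {G : Type*} [Group G] [Finite G]

theorem charDegree_eq {H : Type*} [Group H] {χ : H → ℂ} {n : ℕ} (h : χ 1 = n) :
    charDegree χ = n := by
  unfold charDegree; rw [h]; simp

theorem charDegree_restrict (M : Subgroup G) (χ : G → ℂ) :
    charDegree (fun m : M => χ m) = charDegree χ := by
  unfold charDegree
  simp only [Subgroup.coe_one]

/-- Bijection step: characters of `G` of `p'`-degree and `p'`-determinantal order correspond to
invariant characters of `M` of `p'`-degree. -/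
theorem finsum_eq_of_pgroup_quotient (p : ℕ) [hp : Fact p.Prime] (M : Subgroup G)
    [hM : M.Normal] (a : ℕ) (hidx : M.index = p ^ a)
    (hO : ∀ θ : M → ℂ, IsIrrCharacter M θ → ¬ p ∣ detOrder θ) :
    ∑ᶠ χ ∈ {χ : IrrCharacter G | ¬ p ∣ charDegree (χ : G → ℂ) ∧ ¬ p ∣ detOrder (χ : G → ℂ)},
        (charDegree (χ : G → ℂ) : ℤ) ^ 2
      = ∑ᶠ θ ∈ {θ : IrrCharacter M | (∀ g : G, conjFn M θ.1 g = θ.1) ∧ ¬ p ∣ charDegree θ.1},
        (charDegree (θ : M → ℂ) : ℤ) ^ 2 := by
  classical
  haveI := Fintype.ofFinite G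
  let e : IrrCharacter G → IrrCharacter M := fun χ =>
    if h : IsIrrCharacter M (fun m : M => χ.1 m) then ⟨_, h⟩ else ⟨fun _ => 1, isIrrCharacter_one⟩
  have hcop' : ∀ k : ℕ, ¬ p ∣ k → Nat.Coprime M.index k := by
    intro k hk
    rw [hidx]
    apply Nat.Coprime.pow_left
    rwa [Nat.Prime.coprime_iff_not_dvd hp.out]
  have hres : ∀ χ : IrrCharacter G, ¬ p ∣ charDegree χ.1 → IsIrrCharacter M (fun m : M => χ.1 m) := by
    intro χ hχ
    obtain ⟨n, hn0, hn⟩ := IsIrrCharacter.apply_one χ.2
    rw [charDegree_eq hn] at hχ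
    exact restrict_irr_of_pgroup_quotient p M a hidx hO χ.1 χ.2 n hn hχ
  apply finsum_mem_eq_of_bijOn e
  · refine ⟨?_, ?_, ?_⟩
    · -- MapsTo
      intro χ hχ
      have h := hres χ hχ.1
      have he : e χ = ⟨_, h⟩ := dif_pos h
      rw [he]
      refine ⟨?_, ?_⟩
      · intro g
        ext m
        rw [conjFn_apply]
        exact IsCharacter.isClassFunction (IsIrrCharacter.isCharacter χ.2) m g
      · change ¬ p ∣ charDegree (fun m : M => χ.1 m)
        rw [charDegree_restrict]
        exact hχ.1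
    · -- InjOn
      intro χ₁ h₁ χ₂ h₂ heq
      have hr1 := hres χ₁ h₁.1
      have hr2 := hres χ₂ h₂.1
      have he1 : e χ₁ = ⟨_, hr1⟩ := dif_pos hr1
      have he2 : e χ₂ = ⟨_, hr2⟩ := dif_pos hr2
      rw [he1, he2] at heq
      have heq' : (fun m : M => χ₁.1 m) = (fun m : M => χ₂.1 m) := congrArg Subtype.val heq
      obtain ⟨d, hd0, hd⟩ := IsIrrCharacter.apply_one hr1
      have hpd : ¬ p ∣ d := by
        have := h₁.1
        rw [← charDegree_restrict M] at this
        rw [charDegree_eq (χ := fun m : M => χ₁.1 m) hd] at this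
        exact this
      have hinv : ∀ (g : G) (n : M),
          (fun m : M => χ₁.1 m) ⟨g * n * g⁻¹, hM.conj_mem (n : G) n.2 g⟩ = (fun m : M => χ₁.1 m) n := by
        intro g n
        exact IsCharacter.isClassFunction (IsIrrCharacter.isCharacter χ₁.2) n g
      have hcop : Nat.Coprime M.index (detOrder (fun m : M => χ₁.1 m) * d) := by
        apply hcop'
        intro h
        rcases (Nat.Prime.dvd_mul hp.out).mp h with h | h
        · exact hO _ hr1 h
        · exact hpd h
      obtain ⟨η, -, huniq⟩ := Cfsg.Agent.S0867.result M _ hr1 hinv d hd hcop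
      have e1 := huniq χ₁.1 χ₁.2 (fun n => rfl) (hcop' _ h₁.2)
      have e2 := huniq χ₂.1 χ₂.2 (fun n => (congrFun heq' n).symm) (hcop' _ h₂.2)
      exact Subtype.ext (e1.trans e2.symm)
    · -- SurjOn
      intro θ hθ
      obtain ⟨d, hd0, hd⟩ := IsIrrCharacter.apply_one θ.2
      have hpd : ¬ p ∣ d := by
        have := hθ.2
        rw [charDegree_eq hd] at this
        exact this
      have hcop : Nat.Coprime M.index (detOrder θ.1 * d) := by
        apply hcop'
        intro h
        rcases (Nat.Prime.dvd_mul hp.out).mp h with h | h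
        · exact hO _ θ.2 h
        · exact hpd h
      obtain ⟨χ, ⟨hχ, hχθ, hdet⟩, -⟩ :=
        Cfsg.Agent.S0867.result M θ.1 θ.2 (fun g n => congrFun (hθ.1 g) n) d hd hcop
      have hχ1 : χ 1 = d := by
        have := hχθ 1
        rw [Subgroup.coe_one] at this
        rw [this, hd]
      refine ⟨⟨χ, hχ⟩, ⟨?_, ?_⟩, ?_⟩
      · change ¬ p ∣ charDegree χ
        rw [charDegree_eq hχ1]; exact hpd
      · change ¬ p ∣ detOrder χ
        rw [hdet]; exact hO _ θ.2
      · have hfun : (fun m : M => χ m) = θ.1 := funext hχθ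
        have hirr : IsIrrCharacter M (fun m : M => (⟨χ, hχ⟩ : IrrCharacter G).1 m) := by
          change IsIrrCharacter M (fun m : M => χ m)
          rw [hfun]; exact θ.2
        have he : e ⟨χ, hχ⟩ = ⟨_, hirr⟩ := dif_pos hirr
        rw [he]
        exact Subtype.ext hfun
  · intro χ hχ
    have h := hres χ hχ.1
    have he : e χ = ⟨_, h⟩ := dif_pos h
    rw [he]
    change _ = (charDegree (fun m : M => χ.1 m) : ℤ) ^ 2
    rw [charDegree_restrict]

/-- Counting step: `|M|` is congruent mod `p` to the sum of squares of degrees of the invariant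
irreducible characters of `M` of degree prime to `p`. -/
theorem card_modEq_finsum_invariant (p : ℕ) [hp : Fact p.Prime] (M : Subgroup G)
    [hM : M.Normal] (a : ℕ) (hidx : M.index = p ^ a) :
    (Nat.card M : ℤ) ≡
      ∑ᶠ θ ∈ {θ : IrrCharacter M | (∀ g : G, conjFn M θ.1 g = θ.1) ∧ ¬ p ∣ charDegree θ.1},
        (charDegree (θ : M → ℂ) : ℤ) ^ 2 [ZMOD p] := by
  classical
  haveI := Fintype.ofFinite G
  haveI : Fintype (IrrCharacter M) := Fintype.ofFinite _
  haveI : Fintype M := Fintype.ofFinite _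
  letI := irrAction M
  let S : Sylow p G := default
  have hSP : IsPGroup p (S : Subgroup G) := S.isPGroup'
  let f : IrrCharacter M → ℕ := fun θ => charDegree θ.1 ^ 2
  have hf : ∀ (s : (S : Subgroup G)) (θ : IrrCharacter M), f (s • θ) = f θ := by
    intro s θ
    change charDegree (conjFn M θ.1 ((s : G))⁻¹) ^ 2 = charDegree θ.1 ^ 2
    congr 1
    unfold charDegree
    rw [conjFn_apply]
    have : (⟨(s : G)⁻¹ * ((1 : M) : G) * ((s : G)⁻¹)⁻¹,
        hM.conj_mem ((1 : M) : G) (1 : M).2 (s : G)⁻¹⟩ : M) = 1 := by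
      apply Subtype.ext
      simp
    rw [this]
  have hW := weighted_fixedPoints hSP f hf
  have hsum : ∑ θ : IrrCharacter M, f θ = Nat.card M := by
    have hC : ((∑ θ : IrrCharacter M, f θ : ℕ) : ℂ) = (Nat.card M : ℂ) := by
      push_cast
      have h1 : ∀ θ : IrrCharacter M, ((f θ : ℕ) : ℂ) = θ.1 1 * θ.1 1 := by
        intro θ
        obtain ⟨n, hn0, hn⟩ := IsIrrCharacter.apply_one θ.2
        change ((charDegree θ.1 ^ 2 : ℕ) : ℂ) = _
        rw [charDegree_eq hn, hn]
        push_cast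
        ring
      have h2 : ∑ θ : IrrCharacter M, ((f θ : ℕ) : ℂ)
          = ∑ᶠ θ : IrrCharacter M, (fun ψ : M → ℂ => ψ 1 * ψ 1) (θ : M → ℂ) := by
        rw [finsum_eq_sum_of_fintype]
        exact Finset.sum_congr rfl (fun θ _ => h1 θ)
      rw [h2]
      have h3 := finsum_irr_eq_sum (G := M) (fun ψ : M → ℂ => ψ 1 * ψ 1)
      have := sum_irr_mul_deg (G := M) 1
      rw [if_pos rfl] at this
      exact h3.trans this
    exact_mod_cast hC
  have hSidx : ¬ p ∣ (S : Subgroup G).index := Sylow.not_dvd_index S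
  have hK : IsPGroup p (G ⧸ M) := by
    apply IsPGroup.of_card (n := a)
    rw [← hidx]; rfl
  have htop := sup_eq_top_of_index_coprime p (S : Subgroup G) M hSidx hK
  have hfix : ∀ θ : IrrCharacter M,
      θ ∈ MulAction.fixedPoints (S : Subgroup G) (IrrCharacter M)
        ↔ ∀ g : G, conjFn M θ.1 g = θ.1 := by
    intro θ
    constructor
    · intro h g
      have hg : g ∈ (((S : Subgroup G) ⊔ M : Subgroup G) : Set G) := by
        rw [htop]; exact Set.mem_univ g
      rw [Subgroup.mul_normal] at hg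
      obtain ⟨r, hr, m, hm, rfl⟩ := hg
      have h1 : conjFn M θ.1 r = θ.1 := by
        have := h ⟨r⁻¹, Subgroup.inv_mem _ hr⟩
        have h2 := congrArg Subtype.val this
        change conjFn M θ.1 (r⁻¹)⁻¹ = θ.1 at h2
        rwa [inv_inv] at h2
      rw [conjFn_mul, h1]
      have hle := le_inertia M (IsCharacter.isClassFunction (IsIrrCharacter.isCharacter θ.2))
      exact hle hm
    · intro h s
      apply Subtype.ext
      change conjFn M θ.1 ((s : G))⁻¹ = θ.1
      exact h _
  set A : Set (IrrCharacter M) :=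
    {θ : IrrCharacter M | (∀ g : G, conjFn M θ.1 g = θ.1) ∧ ¬ p ∣ charDegree θ.1} with hA
  have hfinsum : ∑ᶠ θ ∈ A, (charDegree (θ : M → ℂ) : ℤ) ^ 2
      = ((∑ θ ∈ Finset.univ.filter (· ∈ A), f θ : ℕ) : ℤ) := by
    rw [finsum_mem_eq_finite_toFinset_sum _ (Set.toFinite A)]
    push_cast
    apply Finset.sum_congr
    · ext θ
      simp only [Set.Finite.mem_toFinset, Finset.mem_filter, Finset.mem_univ, true_and]
    · intro θ _; rfl
  rw [hfinsum, ← hsum]
  rw [Int.natCast_modEq_iff]
  refine hW.trans ?_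
  have hfilt : Finset.univ.filter (· ∈ MulAction.fixedPoints (S : Subgroup G) (IrrCharacter M))
      = Finset.univ.filter (fun θ : IrrCharacter M => ∀ g : G, conjFn M θ.1 g = θ.1) := by
    ext θ
    simp only [Finset.mem_filter, Finset.mem_univ, true_and]
    exact hfix θ
  rw [hfilt, ← Finset.sum_filter_add_sum_filter_not _ (fun θ : IrrCharacter M => ¬ p ∣ charDegree θ.1)]
  have hA' : (Finset.univ.filter (fun θ : IrrCharacter M => ∀ g : G, conjFn M θ.1 g = θ.1)).filter
      (fun θ : IrrCharacter M => ¬ p ∣ charDegree θ.1) = Finset.univ.filter (· ∈ A) := by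
    ext θ
    simp only [Finset.mem_filter, Finset.mem_univ, true_and]
    exact Iff.rfl
  rw [hA']
  have hdvd : p ∣ ∑ θ ∈ (Finset.univ.filter
      (fun θ : IrrCharacter M => ∀ g : G, conjFn M θ.1 g = θ.1)).filter
      (fun θ : IrrCharacter M => ¬ ¬ p ∣ charDegree θ.1), f θ := by
    apply Finset.dvd_sum
    intro θ hθ
    have := (Finset.mem_filter.mp hθ).2
    rw [not_not] at this
    exact Dvd.dvd.trans this (dvd_pow_self _ (by norm_num))
  obtain ⟨k, hk⟩ := hdvd
  rw [hk]
  unfold Nat.ModEq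
  rw [Nat.add_mul_mod_self_left]

/-- **Thompson's congruence**: `|O^p(G)| ≡ ∑ χ(1)²` over `χ ∈ Irr(G)` with `p ∤ χ(1)` and
`p ∤ o(χ)`. -/
theorem thompson_congruence (p : ℕ) (hp : p.Prime) :
    (Nat.card (pResidual p G) : ℤ) ≡ (∑ᶠ χ ∈ {χ : IrrCharacter G |
      ¬ p ∣ charDegree (χ : G → ℂ) ∧ ¬ p ∣ detOrder (χ : G → ℂ)},
        (charDegree (χ : G → ℂ) : ℤ) ^ 2) [ZMOD p] := by
  haveI : Fact p.Prime := ⟨hp⟩
  haveI hM : (pResidual p G).Normal := pResidual_normal p G
  have hK : IsPGroup p (G ⧸ pResidual p G) :=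
    isPGroup_quotient_of_coprime_mem p _ (fun g hg => mem_pResidual_of_coprime p g hg)
  obtain ⟨a, ha⟩ := IsPGroup.iff_card.mp hK
  have hidx : (pResidual p G).index = p ^ a := by rw [Subgroup.index, ha]
  have hO : ∀ θ : pResidual p G → ℂ, IsIrrCharacter (pResidual p G) θ → ¬ p ∣ detOrder θ :=
    fun θ hθ => detOrder_pResidual_not_dvd p θ (IsIrrCharacter.isCharacter hθ)
  rw [finsum_eq_of_pgroup_quotient p (pResidual p G) a hidx hO]
  exact card_modEq_finsum_invariant p (pResidual p G) a hidx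

end Main

end Cfsg.Agent.Lib.Helper2_Thompson
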