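import Mathlib
import Cfsg.Prelude.Def_Characters
import Cfsg.Prelude.Def_Blocks
import Cfsg.Agent.Lib.Helper2_ClassFn
import Cfsg.Agent.Lib.Helper2_CharBasic
import Cfsg.Agent.Lib.Helper2_CharOrtho
import Cfsg.Agent.Lib.Helper2_Clifford
import Cfsg.Agent.Lib.Helper2_CharMore
import Cfsg.Agent.Lib.Helper2_CharInd
import Cfsg.Agent.Lib.Helper2_CharDeg
import Cfsg.Agent.Lib.Helper2_CharSum
import Cfsg.Agent.Lib.Helper2_CharExtra
import Cfsg.Agent.Lib.Helper2_CharCentral
import Cfsg.Agent.Lib.Helper2_PermChar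
import Cfsg.Agent.Lib.Helper2_CliffordCorr
import Cfsg.Agent.Lib.Helper2_CharInt
import Cfsg.Agent.Lib.Helper2_Ito
import Cfsg.Agent.Lib.Helper2_Thompson
import Cfsg.Agent.Lib.Helper2_BrauerThm
import Cfsg.Agent.Lib.Helper2_Gallagher
import Cfsg.Agent.S0154
import Cfsg.Agent.S0173
import Cfsg.Agent.S0133

set_option autoImplicit false

/-!
# Tools for Itô's theorem on normal abelian Sylow subgroups (solvable case)
-/

namespace Cfsg.Agent.Lib.Helper2_ItoSolv

open Cfsg
open Cfsg.Agent.Lib.Helper2_ClassFn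
open Cfsg.Agent.Lib.Helper2_CharBasic
open Cfsg.Agent.Lib.Helper2_CharOrtho
open Cfsg.Agent.Lib.Helper2_Clifford
open Cfsg.Agent.Lib.Helper2_CharMore
open Cfsg.Agent.Lib.Helper2_CharInd
open Cfsg.Agent.Lib.Helper2_CharDeg
open Cfsg.Agent.Lib.Helper2_CharSum
open Cfsg.Agent.Lib.Helper2_CharExtra
open Cfsg.Agent.Lib.Helper2_CharCentral
open Cfsg.Agent.Lib.Helper2_PermChar
open Cfsg.Agent.Lib.Helper2_CliffordCorr
open Cfsg.Agent.Lib.Helper2_CharInt
open Cfsg.Agent.Lib.Helper2_Ito
open Cfsg.Agent.Lib.Helper2_Thompson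

/-- A finite group is not the union of the conjugates of a proper subgroup. -/
theorem eq_top_of_conj_cover {M : Type*} [Group M] [Finite M] (C : Subgroup M)
    (h : ∀ m : M, ∃ g : M, g⁻¹ * m * g ∈ C) : C = ⊤ := by
  classical
  haveI := Fintype.ofFinite M
  have hsum := sum_permChar (G := M) (X := M ⧸ C)
  have horb : Nat.card (MulAction.orbitRel.Quotient M (M ⧸ C)) = 1 := by
    rw [Nat.card_eq_one_iff_unique]
    have hpt : MulAction.IsPretransitive M (M ⧸ C) := inferInstance
    exact ⟨(MulAction.pretransitive_iff_subsingleton_quotient M (M ⧸ C)).mp hpt,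
      ⟨Quotient.mk'' ((1 : M) : M ⧸ C)⟩⟩
  rw [horb] at hsum
  have hfix : ∀ m : M, 1 ≤ Nat.card (MulAction.fixedBy (M ⧸ C) m) := by
    intro m
    obtain ⟨g, hg⟩ := h m
    haveI : Nonempty (MulAction.fixedBy (M ⧸ C) m) := by
      refine ⟨⟨(g : M ⧸ C), ?_⟩⟩
      rw [MulAction.mem_fixedBy]
      change ((m * g : M) : M ⧸ C) = (g : M ⧸ C)
      rw [QuotientGroup.eq]
      have : (m * g)⁻¹ * g = (g⁻¹ * m * g)⁻¹ := by group
      rw [this]
      exact Subgroup.inv_mem _ hg
    exact Nat.card_pos
  have hsumN : ∑ m : M, Nat.card (MulAction.fixedBy (M ⧸ C) m) = ∑ _m : M, 1 := by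
    have : ((∑ m : M, Nat.card (MulAction.fixedBy (M ⧸ C) m) : ℕ) : ℂ) = ((∑ _m : M, 1 : ℕ) : ℂ) := by
      push_cast
      simp only [permChar_apply] at hsum
      rw [hsum]
      simp [Nat.card_eq_fintype_card]
    exact_mod_cast this
  have hall := (Finset.sum_eq_sum_iff_of_le (fun m _ => hfix m)).mp hsumN.symm
  have h1 := hall 1 (Finset.mem_univ _)
  have h2 : Nat.card (MulAction.fixedBy (M ⧸ C) (1 : M)) = C.index := by
    rw [Subgroup.index]
    apply Nat.card_congr
    exact Equiv.subtypeUnivEquiv (fun x => by simp)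
  rw [h2] at h1
  exact Subgroup.index_eq_one.mp h1.symm

/-- A predicate holding on a subtype of full cardinality holds everywhere. -/
theorem forall_of_card_subtype_eq {X : Type*} [Finite X] (P : X → Prop)
    (h : Nat.card {x : X // P x} = Nat.card X) : ∀ x, P x := by
  classical
  haveI := Fintype.ofFinite X
  rw [Nat.card_eq_fintype_card, Nat.card_eq_fintype_card, Fintype.card_subtype] at h
  have h2 := Finset.eq_univ_of_card _ h
  intro x
  have : x ∈ Finset.univ.filter P := by rw [h2]; exact Finset.mem_univ x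
  exact (Finset.mem_filter.mp this).2

/-- The automorphisms mapping every element to a conjugate. -/
def classPreserving (M : Type*) [Group M] : Subgroup (MulAut M) where
  carrier := {β | ∀ m : M, IsConj (β m) m}
  one_mem' := fun m => IsConj.refl m
  mul_mem' := by
    intro β γ hβ hγ m
    exact (hβ (γ m)).trans (hγ m)
  inv_mem' := by
    intro β hβ m
    have := hβ (β⁻¹ m)
    rw [MulAut.apply_inv_self] at this
    exact this.symm

/-- An automorphism of `p`-power order of a `p'`-group fixing all irreducible characters is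
trivial. -/
theorem aut_eq_one_of_fixes_irr {M : Type*} [Group M] [Finite M] (p : ℕ) [hp : Fact p.Prime]
    (hpM : ¬ p ∣ Nat.card M) (α : M ≃* M) (k : ℕ) (hα : α ^ (p ^ k) = 1)
    (hfix : ∀ θ : M → ℂ, IsIrrCharacter M θ → θ ∘ α = θ) : ∀ m : M, α m = m := by
  classical
  haveI := Fintype.ofFinite M
  -- all classes are fixed
  have h1 := Cfsg.Agent.S0173.result α
  have h2 : Nat.card {χ : Cfsg.IrrCharacter M // (χ : M → ℂ) ∘ α = (χ : M → ℂ)}
      = Nat.card (IrrCharacter M) :=
    Nat.card_congr (Equiv.subtypeUnivEquiv (fun χ => hfix χ.1 χ.2))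
  rw [h2, Cfsg.Agent.S0133.result] at h1
  have hcl := forall_of_card_subtype_eq _ h1
  have hα_mem : α ∈ classPreserving M := by
    intro m
    have := hcl (ConjClasses.mk m)
    change ConjClasses.mk (α m) = ConjClasses.mk m at this
    exact ConjClasses.mk_eq_mk_iff_isConj.mp this
  have hZle : Subgroup.zpowers α ≤ classPreserving M := (Subgroup.zpowers_le).mpr hα_mem
  have hZP : IsPGroup p (Subgroup.zpowers α) := by
    intro β
    refine ⟨k, ?_⟩
    obtain ⟨j, hj⟩ := Subgroup.mem_zpowers_iff.mp β.2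
    apply Subtype.ext
    rw [Subgroup.coe_pow, Subgroup.coe_one, ← hj, ← zpow_natCast, ← zpow_mul, mul_comm, zpow_mul,
      zpow_natCast, hα, one_zpow]
  -- the fixed subgroup
  let D : Subgroup M :=
    { carrier := {m | α m = m}
      one_mem' := map_one α
      mul_mem' := by
        intro a b ha hb
        change α (a * b) = a * b
        rw [map_mul, ha, hb]
      inv_mem' := by
        intro a ha
        change α a⁻¹ = a⁻¹
        rw [map_inv, ha] }
  have hD : D = ⊤ := by
    apply eq_top_of_conj_cover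
    intro m₀
    let f : M → ℕ := fun m => if IsConj m m₀ then 1 else 0
    have hf : ∀ (β : Subgroup.zpowers α) (m : M), f (β • m) = f m := by
      intro β m
      have hβ := hZle β.2 m
      change (if IsConj ((β : MulAut M) m) m₀ then 1 else 0) = if IsConj m m₀ then 1 else 0
      have : IsConj ((β : MulAut M) m) m₀ ↔ IsConj m m₀ :=
        ⟨fun h => hβ.symm.trans h, fun h => hβ.trans h⟩
      simp only [this]
    have hW := weighted_fixedPoints hZP f hf
    have hsum : ∑ m : M, f m = (Finset.univ.filter (fun m : M => IsConj m m₀)).card := by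
      rw [Finset.card_eq_sum_ones, Finset.sum_filter]
    have hnd : ¬ p ∣ (Finset.univ.filter (fun m : M => IsConj m m₀)).card := by
      intro hdvd
      apply hpM
      rw [← card_class_mul_card_centralizer m₀]
      exact Dvd.dvd.mul_right hdvd _
    rw [hsum] at hW
    have hne : ∑ m ∈ Finset.univ.filter
        (· ∈ MulAction.fixedPoints (Subgroup.zpowers α) M), f m ≠ 0 := by
      intro h0
      rw [h0] at hW
      exact hnd ((Nat.modEq_zero_iff_dvd).mp hW)
    obtain ⟨m, hm, hfm⟩ := Finset.exists_ne_zero_of_sum_ne_zero hne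
    have hmfix := (Finset.mem_filter.mp hm).2
    have hconj : IsConj m m₀ := by
      by_contra hc
      exact hfm (if_neg hc)
    obtain ⟨c, hc⟩ := isConj_iff.mp hconj
    refine ⟨c, ?_⟩
    have hmD : α m = m := hmfix ⟨α, Subgroup.mem_zpowers α⟩
    have : c⁻¹ * m₀ * c = m := by rw [← hc]; group
    rw [this]
    exact hmD
  intro m
  have : m ∈ D := by rw [hD]; trivial
  exact this


theorem exists_prime_index_of_comm {A : Type*} [CommGroup A] [Finite A] [Nontrivial A] :
    ∃ K : Subgroup A, K.index.Prime := by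
  obtain ⟨K, hK⟩ : ∃ K : Subgroup A, IsCoatom K := by
    rcases IsCoatomic.eq_top_or_exists_le_coatom (⊥ : Subgroup A) with h | ⟨K, hK, -⟩
    · exact absurd h bot_ne_top
    · exact ⟨K, hK⟩
  refine ⟨K, ?_⟩
  have hsimple : IsSimpleGroup (A ⧸ K) := by
    haveI : Nontrivial (A ⧸ K) := by
      have h1 : 1 < K.index := Subgroup.one_lt_index_of_ne_top hK.1
      rw [Subgroup.index] at h1
      exact (Finite.one_lt_card_iff_nontrivial).mp h1
    constructor
    intro H _
    have h1 : K ≤ H.comap (QuotientGroup.mk' K) := by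
      intro x hx
      rw [Subgroup.mem_comap]
      have : QuotientGroup.mk' K x = 1 := (QuotientGroup.eq_one_iff x).mpr hx
      rw [this]; exact H.one_mem
    rcases eq_or_lt_of_le h1 with h | h
    · left
      have := Subgroup.map_comap_eq_self_of_surjective (QuotientGroup.mk'_surjective K) H
      rw [← this, ← h]
      exact (QuotientGroup.map_mk'_self K)
    · right
      have htop := hK.2 _ h
      have := Subgroup.map_comap_eq_self_of_surjective (QuotientGroup.mk'_surjective K) H
      rw [← this, htop]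
      exact Subgroup.map_top_of_surjective _ (QuotientGroup.mk'_surjective K)
  exact (CommGroup.is_simple_iff_prime_card).mp hsimple

theorem exists_normal_prime_index {G : Type*} [Group G] [Finite G] [Nontrivial G]
    [h : Group.IsSolvable G] : ∃ M : Subgroup G, M.Normal ∧ M.index.Prime := by
  have hlt : commutator G < ⊤ := Group.IsSolvable.commutator_lt_top_of_nontrivial G
  have hsurj : Function.Surjective (Abelianization.of (G := G)) := by
    intro x
    induction x using Quot.inductionOn with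
    | h a => exact ⟨a, rfl⟩
  haveI : Nontrivial (Abelianization G) := by
    by_contra hnt
    rw [not_nontrivial_iff_subsingleton] at hnt
    apply hlt.ne
    rw [← Abelianization.ker_of, MonoidHom.ker_eq_top_iff]  
    ext x
    exact Subsingleton.elim _ _
  obtain ⟨K, hK⟩ := exists_prime_index_of_comm (A := Abelianization G)
  refine ⟨K.comap Abelianization.of, inferInstance, ?_⟩
  rw [Subgroup.index_comap_of_surjective _ hsurj]
  exact hK

theorem abelian_of_all_linear {H : Type*} [Group H] [Finite H]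
    (h : ∀ θ : H → ℂ, IsIrrCharacter H θ → θ 1 = 1) : ∀ a b : H, a * b = b * a := by
  classical
  haveI := Fintype.ofFinite H
  have h1 := sum_irr_mul_deg (G := H) 1
  rw [if_pos rfl] at h1
  have h2 : ∑ χ ∈ irrFinset H, χ 1 * χ 1 = ((irrFinset H).card : ℂ) := by
    rw [Finset.sum_congr rfl (g := fun _ => (1 : ℂ))]
    · simp
    · intro χ hχ
      rw [h χ (mem_irrFinset.mp hχ)]; ring
  have h3 : (irrFinset H).card = Nat.card H := by
    rw [h2] at h1; exact_mod_cast h1
  have h4 := Cfsg.Agent.S0154.result (G := H)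
  have h5 : Nat.card {χ : Cfsg.IrrCharacter H // (χ : H → ℂ) 1 = 1} = Nat.card (IrrCharacter H) := by
    apply Nat.card_congr
    exact Equiv.subtypeUnivEquiv (fun χ => h χ.1 χ.2)
  rw [h5, card_irr, h3] at h4
  have h6 := (commutator H).card_mul_index
  rw [← h4] at h6
  have h7 : Nat.card (commutator H) = 1 := by
    have hpos : 0 < Nat.card H := Nat.card_pos
    exact Nat.eq_of_mul_eq_mul_right hpos (by rw [h6, one_mul])
  have h8 : commutator H = ⊥ := Subgroup.card_eq_one.mp h7
  intro a b
  have hmem : a * b * a⁻¹ * b⁻¹ ∈ commutator H := by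
    rw [commutator_def]
    have := Subgroup.commutator_mem_commutator (Subgroup.mem_top a) (Subgroup.mem_top b)
    rwa [commutatorElement_def] at this
  rw [h8, Subgroup.mem_bot] at hmem
  have : a * b = (a * b * a⁻¹ * b⁻¹) * (b * a) := by group
  rw [this, hmem, one_mul]

theorem constituent_degree_dvd {G : Type*} [Group G] [Fintype G] (N : Subgroup G) [hN : N.Normal]
    [Fintype N] {χ : G → ℂ} (hχ : IsIrrCharacter G χ) {θ : N → ℂ} (hθ : IsIrrCharacter N θ)
    (hcon : classInner (fun n : N => χ n) θ ≠ 0) (n d : ℕ) (hn : χ 1 = n) (hd : θ 1 = d) :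
    d ∣ n := by
  classical
  have h := clifford N hχ hθ hcon
  obtain ⟨e, he⟩ := IsCharacter.classInner_nat
    (IsCharacter.restrict (IsIrrCharacter.isCharacter hχ) N) (IsIrrCharacter.isCharacter hθ)
  have h1 := congrFun h 1
  simp only [Pi.smul_apply, smul_eq_mul, Finset.sum_apply] at h1
  rw [Subgroup.coe_one, hn, he] at h1
  have h2 : ∑ ψ ∈ Finset.univ.image (conjFn N θ), ψ 1
      = ((Finset.univ.image (conjFn N θ)).card : ℂ) * d := by
    rw [Finset.sum_congr rfl (g := fun _ => (d : ℂ))]
    · simp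
    · intro ψ hψ
      obtain ⟨g, -, rfl⟩ := Finset.mem_image.mp hψ
      rw [conjFn_apply]
      have : (⟨g * ((1 : N) : G) * g⁻¹, hN.conj_mem ((1 : N) : G) (1 : N).2 g⟩ : N) = 1 := by
        apply Subtype.ext; simp
      rw [this, hd]
  rw [h2] at h1
  have h3 : n = e * ((Finset.univ.image (conjFn N θ)).card * d) := by exact_mod_cast h1
  rw [h3, ← mul_assoc]
  exact Dvd.intro_left _ rfl

/-- Every irreducible character of a subgroup lies under an irreducible character of the group. -/
theorem exists_irr_over {G : Type*} [Group G] [Fintype G] (N : Subgroup G) [Fintype N]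
    {θ : N → ℂ} (hθ : IsIrrCharacter N θ) :
    ∃ χ : G → ℂ, IsIrrCharacter G χ ∧ classInner (fun n : N => χ n) θ ≠ 0 := by
  classical
  obtain ⟨d, hd0, hd⟩ := IsIrrCharacter.apply_one hθ
  have hΦ : IsCharacter G (indFun N θ) := IsCharacter.indFun (IsIrrCharacter.isCharacter hθ)
  have hne : indFun N θ ≠ 0 := by
    intro h0
    have := congrFun h0 1
    rw [indFun_one, hd] at this
    simp only [Pi.zero_apply, mul_eq_zero, Nat.cast_eq_zero] at this
    rcases this with h | h
    · exact Subgroup.index_ne_zero_of_finite h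
    · exact hd0.ne' h
  obtain ⟨χ, hχ, c, hc0, hc⟩ := IsCharacter.exists_constituent hΦ hne
  refine ⟨χ, hχ, ?_⟩
  rw [frobenius_reciprocity N θ χ (IsCharacter.isClassFunction (IsIrrCharacter.isCharacter hχ))] at hc
  rw [← classInner_conj_symm, hc]
  simp [hc0.ne']

/-- Degrees of a normal subgroup divide degrees of the group. -/
theorem exists_degree_dvd {G : Type*} [Group G] [Finite G] (N : Subgroup G) [hN : N.Normal]
    {θ : N → ℂ} (hθ : IsIrrCharacter N θ) (d : ℕ) (hd : θ 1 = d) :
    ∃ (χ : G → ℂ) (n : ℕ), IsIrrCharacter G χ ∧ χ 1 = n ∧ d ∣ n := by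
  classical
  haveI := Fintype.ofFinite G
  obtain ⟨χ, hχ, hcon⟩ := exists_irr_over N hθ
  obtain ⟨n, hn0, hn⟩ := IsIrrCharacter.apply_one hχ
  exact ⟨χ, n, hχ, hn, constituent_degree_dvd N hχ hθ hcon n d hn hd⟩

/-- If `N` has prime index `p` and all degrees of `G` are prime to `p`, every irreducible character
of `N` is `G`-invariant. -/
theorem invariant_of_index_p {G : Type*} [Group G] [Finite G] (p : ℕ) [hp : Fact p.Prime]
    (N : Subgroup G) [hN : N.Normal] (hidx : N.index = p)
    (hdeg : ∀ χ : G → ℂ, IsIrrCharacter G χ → ∀ d : ℕ, χ 1 = d → ¬ p ∣ d)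
    {θ : N → ℂ} (hθ : IsIrrCharacter N θ) (g : G) : conjFn N θ g = θ := by
  classical
  haveI := Fintype.ofFinite G
  obtain ⟨χ, hχ, hcon⟩ := exists_irr_over N hθ
  set T := inertia N θ with hT
  have hNT : N ≤ T := le_inertia N (IsCharacter.isClassFunction (IsIrrCharacter.isCharacter hθ))
  obtain ⟨ψ, f, hψ, hf0, hψθ, hind⟩ :=
    clifford_corr_surj N T hθ (fun g => mem_inertia N θ g) hNT hχ hcon
  obtain ⟨n, hn0, hn⟩ := IsIrrCharacter.apply_one hχ
  have h1 : χ 1 = (T.index : ℂ) * ψ 1 := by rw [← hind, indFun_one]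
  obtain ⟨k, hk0, hk⟩ := IsIrrCharacter.apply_one hψ
  have h2 : n = T.index * k := by
    rw [hn, hk] at h1; exact_mod_cast h1
  have hTidx : T.index ∣ p := by rw [← hidx]; exact Subgroup.index_dvd_of_le hNT
  have hTtop : T = ⊤ := by
    rw [← Subgroup.index_eq_one]
    rcases (Nat.dvd_prime hp.out).mp hTidx with h | h
    · exact h
    · exfalso
      apply hdeg χ hχ n hn
      rw [h2, h]
      exact Dvd.intro _ rfl
  have : g ∈ T := by rw [hTtop]; trivial
  exact this

/-- A normal subgroup of index prime to the order of `K` contains `K`. -/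
theorem le_normal_of_coprime {M : Type*} [Group M] [Finite M] (P K : Subgroup M) [P.Normal]
    (h : Nat.Coprime (Nat.card K) P.index) : K ≤ P := by
  intro k hk
  rw [← QuotientGroup.eq_one_iff, ← orderOf_eq_one_iff]
  have h1 : orderOf ((k : M) : M ⧸ P) ∣ Nat.card K := by
    have h2 : orderOf ((k : M) : M ⧸ P) ∣ orderOf (⟨k, hk⟩ : K) := by
      rw [← Subgroup.orderOf_coe]
      exact orderOf_map_dvd (QuotientGroup.mk' P) k
    exact h2.trans (orderOf_dvd_natCard _)
  have h3 : orderOf ((k : M) : M ⧸ P) ∣ P.index := by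
    rw [Subgroup.index]
    exact orderOf_dvd_natCard _
  exact Nat.eq_one_of_dvd_coprimes h h1 h3

universe u

/-- A normal `p`-subgroup is abelian when all degrees of `G` are prime to `p`. -/
theorem abelian_of_normal_pgroup {G : Type*} [Group G] [Finite G] (p : ℕ) [hp : Fact p.Prime]
    (hdeg : ∀ χ : G → ℂ, IsIrrCharacter G χ → ∀ d : ℕ, χ 1 = d → ¬ p ∣ d)
    (Q : Subgroup G) [hQn : Q.Normal] (hQp : IsPGroup p Q) :
    ∀ x ∈ Q, ∀ y ∈ Q, x * y = y * x := by
  classical
  haveI := Fintype.ofFinite G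
  have hlin : ∀ θ : Q → ℂ, IsIrrCharacter Q θ → θ 1 = 1 := by
    intro θ hθ
    obtain ⟨d, hd0, hd⟩ := IsIrrCharacter.apply_one hθ
    obtain ⟨χ, k, hχ, hk, hdk⟩ := exists_degree_dvd Q hθ d hd
    have hpd : ¬ p ∣ d := fun h => hdeg χ hχ k hk (h.trans hdk)
    have hdQ : d ∣ Nat.card Q := degree_dvd_card hθ d hd
    obtain ⟨a, ha⟩ := IsPGroup.iff_card.mp hQp
    rw [ha] at hdQ
    obtain ⟨j, _, hj⟩ := (Nat.dvd_prime_pow hp.out).mp hdQ
    have : j = 0 := by
      by_contra h0
      exact hpd (by rw [hj]; exact dvd_pow_self p h0)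
    rw [hd, hj, this]; simp
  have hab := abelian_of_all_linear hlin
  intro x hx y hy
  exact congrArg Subtype.val (hab ⟨x, hx⟩ ⟨y, hy⟩)

/-- **Itô**, solvable case, by induction on the order. -/
theorem ito_solvable_aux (p : ℕ) [hp : Fact p.Prime] :
    ∀ (n : ℕ) (G : Type u) [Group G] [Finite G], Nat.card G = n → Group.IsSolvable G →
    (∀ χ : G → ℂ, IsIrrCharacter G χ → ∀ d : ℕ, χ 1 = d → ¬ p ∣ d) →
    ∃ P : Subgroup G, P.Normal ∧ (∀ x ∈ P, ∀ y ∈ P, x * y = y * x) ∧ IsPGroup p P ∧
      ¬ p ∣ P.index := by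
  intro n
  induction n using Nat.strong_induction_on with
  | _ n ih =>
  intro G _ _ hcard hsolv hdeg
  classical
  haveI := Fintype.ofFinite G
  by_cases hnt : Nontrivial G
  swap
  · rw [not_nontrivial_iff_subsingleton] at hnt
    refine ⟨⊥, inferInstance, ?_, IsPGroup.of_bot, ?_⟩
    · intro x _ y _
      rw [Subsingleton.elim x 1, Subsingleton.elim y 1]
    · rw [Subgroup.index_bot, Nat.card_of_subsingleton (1 : G)]
      intro h
      exact hp.out.one_lt.ne' (Nat.dvd_one.mp h)
  obtain ⟨M, hMn, hMq⟩ := exists_normal_prime_index (G := G)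
  have hMcard : Nat.card M < n := by
    rw [← hcard, ← M.card_mul_index]
    have h1 : 1 < M.index := hMq.one_lt
    have hpos : 0 < Nat.card M := Nat.card_pos
    nlinarith
  have hMsolv : Group.IsSolvable M := inferInstance
  have hMdeg : ∀ θ : M → ℂ, IsIrrCharacter M θ → ∀ d : ℕ, θ 1 = d → ¬ p ∣ d := by
    intro θ hθ d hd hpd
    obtain ⟨χ, k, hχ, hk, hdk⟩ := exists_degree_dvd M hθ d hd
    exact hdeg χ hχ k hk (hpd.trans hdk)
  obtain ⟨P₀, hP₀n, hP₀ab, hP₀p, hP₀i⟩ := ih _ hMcard M rfl hMsolv hMdeg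
  have hPp : IsPGroup p (P₀.map M.subtype) := hP₀p.map M.subtype
  have hPab : ∀ x ∈ P₀.map M.subtype, ∀ y ∈ P₀.map M.subtype, x * y = y * x := by
    rintro x ⟨x', hx', rfl⟩ y ⟨y', hy', rfl⟩
    rw [← map_mul, ← map_mul, hP₀ab x' hx' y' hy']
  have hPidx : (P₀.map M.subtype).index = P₀.index * M.index := Subgroup.index_map_subtype P₀
  have hPn : (P₀.map M.subtype).Normal := by
    constructor
    intro x hx g
    obtain ⟨x', hx', rfl⟩ := hx
    have hKcard : Nat.card (P₀.map (MulAut.conjNormal g : M ≃* M).toMonoidHom) = Nat.card P₀ :=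
      Subgroup.card_map_of_injective (MulEquiv.injective _)
    have hKle : P₀.map (MulAut.conjNormal g : M ≃* M).toMonoidHom ≤ P₀ := by
      apply le_normal_of_coprime
      rw [hKcard]
      obtain ⟨a, ha⟩ := IsPGroup.iff_card.mp hP₀p
      rw [ha]
      exact Nat.Coprime.pow_left _ ((Nat.Prime.coprime_iff_not_dvd hp.out).mpr hP₀i)
    have h1 : (MulAut.conjNormal g x') ∈ P₀.map (MulAut.conjNormal g : M ≃* M).toMonoidHom :=
      ⟨x', hx', rfl⟩
    exact ⟨MulAut.conjNormal g x', hKle h1, by simp [MulAut.conjNormal_apply]⟩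
  by_cases hqp : M.index = p
  swap
  · refine ⟨P₀.map M.subtype, hPn, hPab, hPp, ?_⟩
    rw [hPidx]
    intro h
    rcases (Nat.Prime.dvd_mul hp.out).mp h with h | h
    · exact hP₀i h
    · exact hqp ((Nat.prime_dvd_prime_iff_eq hp.out hMq).mp h).symm
  have hinv : ∀ θ : M → ℂ, IsIrrCharacter M θ → ∀ g : G, conjFn M θ g = θ :=
    fun θ hθ g => invariant_of_index_p p M hqp hdeg hθ g
  by_cases hP₀bot : P₀ = ⊥
  · -- `M` is a `p'`-group
    have hpM : ¬ p ∣ Nat.card M := by
      rw [hP₀bot, Subgroup.index_bot] at hP₀i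
      exact hP₀i
    have hpG : p ∣ Nat.card G := by
      rw [← M.card_mul_index, hqp]
      exact Dvd.intro_left _ rfl
    obtain ⟨x, hx⟩ := exists_prime_orderOf_dvd_card' p hpG
    have hα : (MulAut.conjNormal x : MulAut M) ^ (p ^ 1) = 1 := by
      rw [pow_one, ← map_pow, ← hx, pow_orderOf_eq_one, map_one]
    have hfix : ∀ θ : M → ℂ, IsIrrCharacter M θ → θ ∘ (MulAut.conjNormal x : M ≃* M) = θ := by
      intro θ hθ
      have := hinv θ hθ x
      rw [conjFn_eq_comp] at this
      exact this
    have hcomm := aut_eq_one_of_fixes_irr p hpM (MulAut.conjNormal x : M ≃* M) 1 hα hfix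
    have hxM : x ∉ M := by
      intro hxM
      apply hpM
      have : orderOf (⟨x, hxM⟩ : M) = p := by rw [← Subgroup.orderOf_coe]; exact hx
      rw [← this]
      exact orderOf_dvd_natCard _
    have hMC : M ≤ Subgroup.centralizer ({x} : Set G) := by
      intro m hm
      rw [Subgroup.mem_centralizer_singleton_iff]
      have := congrArg Subtype.val (hcomm ⟨m, hm⟩)
      rw [MulAut.conjNormal_apply] at this
      simp only at this
      have h2 : x * m = m * x := by
        calc x * m = (x * m * x⁻¹) * x := by group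
          _ = m * x := by rw [this]
      first | exact h2 | exact h2.symm
    have hxC : x ∈ Subgroup.centralizer ({x} : Set G) := by
      rw [Subgroup.mem_centralizer_singleton_iff]
    have hCtop : Subgroup.centralizer ({x} : Set G) = ⊤ := by
      rw [← Subgroup.index_eq_one]
      have hdvd : (Subgroup.centralizer ({x} : Set G)).index ∣ p := by
        rw [← hqp]; exact Subgroup.index_dvd_of_le hMC
      rcases (Nat.dvd_prime hp.out).mp hdvd with h | h
      · exact h
      · exfalso
        apply hxM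
        have hcardeq : Nat.card (Subgroup.centralizer ({x} : Set G)) = Nat.card M := by
          have e1 := (Subgroup.centralizer ({x} : Set G)).card_mul_index
          have e2 := M.card_mul_index
          rw [h] at e1
          rw [hqp, ← e1] at e2
          exact (Nat.eq_of_mul_eq_mul_right hp.out.pos e2).symm
        have := Subgroup.eq_of_le_of_card_ge hMC hcardeq.le
        rw [this]
        exact hxC
    have hxcen : x ∈ Subgroup.center G := by
      rw [Subgroup.mem_center_iff]
      intro g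
      have : g ∈ Subgroup.centralizer ({x} : Set G) := by rw [hCtop]; trivial
      rw [Subgroup.mem_centralizer_singleton_iff] at this
      exact this
    have hQn := Cfsg.Agent.Lib.Helper2_BrauerThm.normal_zpowers_of_mem_center x hxcen
    have hQcard : Nat.card (Subgroup.zpowers x) = p := by rw [Nat.card_zpowers, hx]
    have hQp : IsPGroup p (Subgroup.zpowers x) := IsPGroup.of_card (n := 1) (by rw [hQcard, pow_one])
    refine ⟨Subgroup.zpowers x, hQn, ?_, hQp, ?_⟩
    · haveI := hQn
      exact abelian_of_normal_pgroup p hdeg _ hQp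
    · have e1 := (Subgroup.zpowers x).card_mul_index
      have e2 := M.card_mul_index
      rw [hQcard] at e1
      rw [hqp, ← e1, mul_comm] at e2
      have : (Subgroup.zpowers x).index = Nat.card M :=
        (Nat.eq_of_mul_eq_mul_left hp.out.pos e2).symm
      rw [this]
      exact hpM
  · -- pass to the quotient by `P`
    haveI := hPn
    have hPne : P₀.map M.subtype ≠ ⊥ := by
      intro h
      apply hP₀bot
      rw [eq_bot_iff]
      intro y hy
      have : (y : G) ∈ P₀.map M.subtype := ⟨y, hy, rfl⟩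
      rw [h, Subgroup.mem_bot] at this
      rw [Subgroup.mem_bot]
      exact Subtype.ext this
    have hQcard : Nat.card (G ⧸ P₀.map M.subtype) < n := by
      rw [← hcard, ← (P₀.map M.subtype).card_mul_index]
      change (P₀.map M.subtype).index < _
      have h1 : 1 < Nat.card (P₀.map M.subtype) := by
        rw [Nat.one_lt_iff_ne_zero_and_ne_one]
        exact ⟨Nat.card_pos.ne', fun h => hPne (Subgroup.card_eq_one.mp h)⟩
      have hpos : 0 < (P₀.map M.subtype).index :=
        Nat.pos_of_ne_zero Subgroup.index_ne_zero_of_finite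
      nlinarith
    have hQsolv : Group.IsSolvable (G ⧸ P₀.map M.subtype) := inferInstance
    have hQdeg : ∀ β : G ⧸ P₀.map M.subtype → ℂ, IsIrrCharacter (G ⧸ P₀.map M.subtype) β →
        ∀ d : ℕ, β 1 = d → ¬ p ∣ d := by
      intro β hβ d hd
      refine hdeg (Cfsg.Agent.Lib.Helper2_Gallagher.infl (P₀.map M.subtype) β)
        (Cfsg.Agent.Lib.Helper2_Gallagher.IsIrrCharacter.infl _ hβ) d ?_
      rw [Cfsg.Agent.Lib.Helper2_Gallagher.infl_apply, QuotientGroup.mk_one, hd]
    obtain ⟨Qb, hQbn, -, hQbp, hQbi⟩ := ih _ hQcard (G ⧸ P₀.map M.subtype) rfl hQsolv hQdeg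
    haveI := hQbn
    have hQn : (Qb.comap (QuotientGroup.mk' (P₀.map M.subtype))).Normal := inferInstance
    have hQp : IsPGroup p (Qb.comap (QuotientGroup.mk' (P₀.map M.subtype))) := by
      intro y
      obtain ⟨a, ha⟩ := hQbp ⟨QuotientGroup.mk' _ (y : G), y.2⟩
      have h1 : ((y : G) ^ p ^ a) ∈ P₀.map M.subtype := by
        rw [← QuotientGroup.eq_one_iff, QuotientGroup.mk_pow]
        exact congrArg Subtype.val ha
      obtain ⟨b, hb⟩ := hPp ⟨_, h1⟩
      refine ⟨a + b, ?_⟩
      apply Subtype.ext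
      rw [Subgroup.coe_pow, Subgroup.coe_one, pow_add, pow_mul]
      exact congrArg Subtype.val hb
    refine ⟨Qb.comap (QuotientGroup.mk' (P₀.map M.subtype)), hQn, ?_, hQp, ?_⟩
    · exact abelian_of_normal_pgroup p hdeg _ hQp
    · rw [Subgroup.index_comap_of_surjective _ (QuotientGroup.mk'_surjective _)]
      exact hQbi

end Cfsg.Agent.Lib.Helper2_ItoSolv
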