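import Mathlib

set_option autoImplicit false

namespace Cfsg.Agent.Lib.Helper7_PFrattini

open Subgroup

/-- A maximal subgroup of a finite `p`-group is normal of index `p`. -/
theorem coatom_normal_index {P : Type*} [Group P] [Finite P] {p : ℕ} [Fact p.Prime]
    (hP : IsPGroup p P) (M : Subgroup P) (hM : IsCoatom M) : M.Normal ∧ M.index = p := by
  have hp := (Fact.out : p.Prime)
  haveI := hP.isNilpotent
  have hn : M.Normal :=
    Subgroup.NormalizerCondition.normal_of_coatom _ Group.normalizerCondition_of_isNilpotent hM
  refine ⟨hn, ?_⟩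
  obtain ⟨m, hm⟩ := (hP.to_subgroup M).exists_card_eq
  obtain ⟨n, hn'⟩ := hP.exists_card_eq
  have hlt : m < n := by
    by_contra hcon
    push Not at hcon
    have h1 : Nat.card P ≤ Nat.card M := by
      rw [hm, hn']; exact Nat.pow_le_pow_right hp.pos hcon
    exact hM.1 (Subgroup.eq_top_of_le_card _ h1)
  have hdvd : p ^ (m + 1) ∣ Nat.card P := by rw [hn']; exact pow_dvd_pow _ hlt
  obtain ⟨K, hK, hMK⟩ := Sylow.exists_subgroup_card_pow_succ hdvd hm
  have hKtop : K = ⊤ := by
    rcases eq_or_lt_of_le hMK with h | h
    · exfalso
      rw [← h, hm] at hK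
      have := Nat.pow_right_injective hp.two_le hK
      omega
    · exact hM.2 K h
  have h1 := M.card_mul_index
  rw [hKtop, Subgroup.card_top] at hK
  rw [hm, hK, pow_succ] at h1
  exact Nat.eq_of_mul_eq_mul_left (pow_pos hp.pos m) h1

/-- In a finite `p`-group, `p`-th powers lie in the Frattini subgroup. -/
theorem pow_mem_frattini {P : Type*} [Group P] [Finite P] {p : ℕ} [Fact p.Prime]
    (hP : IsPGroup p P) (x : P) : x ^ p ∈ frattini P := by
  unfold frattini Order.radical
  rw [Subgroup.mem_iInf]
  intro M
  rw [Subgroup.mem_iInf]
  intro hM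
  obtain ⟨hn, hi⟩ := coatom_normal_index hP M hM
  have h1 : Nat.card (P ⧸ M) = p := by rw [← Subgroup.index_eq_card]; exact hi
  have h2 : (QuotientGroup.mk' M x) ^ p = 1 := by
    rw [← h1]; exact pow_card_eq_one'
  rw [← map_pow] at h2
  exact (QuotientGroup.eq_one_iff _).mp h2

/-- In a finite `p`-group, commutators lie in the Frattini subgroup. -/
theorem comm_mem_frattini {P : Type*} [Group P] [Finite P] {p : ℕ} [Fact p.Prime]
    (hP : IsPGroup p P) (x y : P) : x * y * x⁻¹ * y⁻¹ ∈ frattini P := by
  unfold frattini Order.radical
  rw [Subgroup.mem_iInf]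
  intro M
  rw [Subgroup.mem_iInf]
  intro hM
  obtain ⟨hn, hi⟩ := coatom_normal_index hP M hM
  have h1 : Nat.card (P ⧸ M) = p := by rw [← Subgroup.index_eq_card]; exact hi
  haveI : IsCyclic (P ⧸ M) := isCyclic_of_prime_card h1
  have h2 : QuotientGroup.mk' M (x * y * x⁻¹ * y⁻¹) = 1 := by
    rw [map_mul, map_mul, map_mul, map_inv, map_inv]
    have hc : ∀ a b : P ⧸ M, a * b = b * a := fun a b => IsCyclic.commGroup.mul_comm a b
    rw [hc (QuotientGroup.mk' M x) (QuotientGroup.mk' M y)]
    group
  exact (QuotientGroup.eq_one_iff _).mp h2

/-- Additive version: the number of generating `r`-tuples of an elementary abelian group of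
order `p^r`. -/
theorem card_generating_tuples_add {V : Type*} [AddCommGroup V] [Finite V] {p r : ℕ}
    [Fact p.Prime] (hexp : ∀ x : V, p • x = 0) (hcard : Nat.card V = p ^ r) :
    Nat.card {y : Fin r → V // AddSubgroup.closure (Set.range y) = ⊤} =
      ∏ i ∈ Finset.range r, (p ^ r - p ^ i) := by
  classical
  have hp := (Fact.out : p.Prime)
  haveI : Module (ZMod p) V := AddCommGroup.zmodModule hexp
  haveI : Module.Finite (ZMod p) V := Module.Finite.of_finite
  have hfin : Module.finrank (ZMod p) V = r := by
    have h1 : Nat.card V = Nat.card (ZMod p) ^ Module.finrank (ZMod p) V :=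
      Module.natCard_eq_pow_finrank
    rw [Nat.card_zmod, hcard] at h1
    exact (Nat.pow_right_injective hp.two_le h1).symm
  have key : ∀ y : Fin r → V, AddSubgroup.closure (Set.range y) = ⊤ ↔
      LinearIndependent (ZMod p) y := by
    intro y
    constructor
    · intro hy
      apply linearIndependent_of_top_le_span_of_card_eq_finrank
      · intro v _
        have hv : v ∈ AddSubgroup.closure (Set.range y) := by rw [hy]; trivial
        have : ∀ g ∈ AddSubgroup.closure (Set.range y), g ∈
            Submodule.span (ZMod p) (Set.range y) := by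
          intro g hg
          induction hg using AddSubgroup.closure_induction with
          | mem x hx => exact Submodule.subset_span hx
          | zero => exact Submodule.zero_mem _
          | add a b _ _ ha hb => exact Submodule.add_mem _ ha hb
          | neg a _ ha => exact Submodule.neg_mem _ ha
        exact this _ hv
      · rw [Fintype.card_fin, hfin]
    · intro hy
      have hspan : Submodule.span (ZMod p) (Set.range y) = ⊤ :=
        LinearIndependent.span_eq_top_of_card_eq_finrank' hy (by rw [Fintype.card_fin, hfin])
      rw [eq_top_iff]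
      intro g _
      have hg : g ∈ Submodule.span (ZMod p) (Set.range y) := by
        rw [hspan]; exact Submodule.mem_top
      have : ∀ v ∈ Submodule.span (ZMod p) (Set.range y),
          v ∈ AddSubgroup.closure (Set.range y) := by
        intro v hv
        induction hv using Submodule.span_induction with
        | mem x hx => exact AddSubgroup.subset_closure hx
        | zero => exact zero_mem _
        | add a b _ _ ha hb => exact add_mem ha hb
        | smul c a _ ha => exact ZMod.smul_mem ha c
      exact this _ hg
  have e : {y : Fin r → V // AddSubgroup.closure (Set.range y) = ⊤} ≃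
      {s : Fin r → V // LinearIndependent (ZMod p) s} :=
    Equiv.subtypeEquivRight key
  rw [Nat.card_congr e, card_linearIndependent (by rw [hfin]), hfin, ZMod.card,
    Fin.prod_univ_eq_prod_range (fun i => p ^ r - p ^ i) r]

/-- The number of generating `r`-tuples of an elementary abelian group of order `p^r`. -/
theorem card_generating_tuples {Q : Type*} [CommGroup Q] [Finite Q] {p r : ℕ} [Fact p.Prime]
    (hexp : ∀ x : Q, x ^ p = 1) (hcard : Nat.card Q = p ^ r) :
    Nat.card {y : Fin r → Q // closure (Set.range y) = ⊤} =
      ∏ i ∈ Finset.range r, (p ^ r - p ^ i) := by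
  haveI : Finite (Additive Q) := inferInstanceAs (Finite Q)
  have hx : ∀ (x : Additive Q), p • x = 0 := by
    intro x
    show Additive.ofMul ((Additive.toMul x) ^ p) = 0
    rw [hexp]; rfl
  have hc : Nat.card (Additive Q) = p ^ r := hcard
  rw [← card_generating_tuples_add hx hc]
  have key : ∀ y : Fin r → Q, closure (Set.range y) = ⊤ ↔
      AddSubgroup.closure (Set.range (fun i => Additive.ofMul (y i))) = ⊤ := by
    intro y
    have h1 : (closure (Set.range y)).toAddSubgroup =
        AddSubgroup.closure (Set.range (fun i => Additive.ofMul (y i))) := by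
      rw [Subgroup.toAddSubgroup_closure]
      congr 1
    rw [← h1]
    constructor
    · intro h; rw [h]; rfl
    · intro h
      rw [eq_top_iff]
      intro g _
      have : Additive.ofMul g ∈ (closure (Set.range y)).toAddSubgroup := by rw [h]; trivial
      exact this
  exact Nat.card_congr
    { toFun := fun y => ⟨fun i => Additive.ofMul (y.1 i), (key y.1).mp y.2⟩
      invFun := fun s => ⟨fun i => Additive.toMul (s.1 i), (key _).mpr s.2⟩
      left_inv := fun y => rfl
      right_inv := fun s => rfl }

end Cfsg.Agent.Lib.Helper7_PFrattini
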