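import Mathlib
import Cfsg.Prelude.Def_Characters
import Cfsg.Prelude.Def_Blocks
import Cfsg.Prelude.Def_Local
import Cfsg.Agent.Lib.Helper2_ClassFn
import Cfsg.Agent.Lib.Helper2_CharBasic
import Cfsg.Agent.Lib.Helper2_CharOrtho
import Cfsg.Agent.Lib.Helper2_Clifford
import Cfsg.Agent.Lib.Helper2_CharMore
import Cfsg.Agent.Lib.Helper2_Ito
import Cfsg.Agent.Lib.Helper2_Thompson
import Cfsg.Agent.Lib.Helper2_BrauerThm
import Cfsg.Agent.Lib.Helper2_Gallagher
import Cfsg.Agent.Lib.Helper2_ItoSolv
import Cfsg.Agent.Lib.Helper7_PSolvable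
import Cfsg.Agent.Lib.Helper7_PFrattini

set_option autoImplicit false

/-!
# Itô's theorem on normal abelian Sylow subgroups, `p`-solvable case
-/

namespace Cfsg.Agent.Lib.Helper2_ItoPSolv

open Cfsg
open Cfsg.Agent.Lib.Helper2_ClassFn
open Cfsg.Agent.Lib.Helper2_CharBasic
open Cfsg.Agent.Lib.Helper2_CharOrtho
open Cfsg.Agent.Lib.Helper2_Clifford
open Cfsg.Agent.Lib.Helper2_CharMore
open Cfsg.Agent.Lib.Helper2_Ito
open Cfsg.Agent.Lib.Helper2_Thompson
open Cfsg.Agent.Lib.Helper2_ItoSolv

universe u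

/-- **Itô** for a hereditary class of groups with suitable normal subgroups, by induction on the
order. -/
theorem ito_general_aux (p : ℕ) [hp : Fact p.Prime] (C : ∀ (G : Type u) [Group G], Prop)
    (hsub : ∀ (G : Type u) [Group G] (M : Subgroup G), C G → C M)
    (hquot : ∀ (G : Type u) [Group G] (N : Subgroup G) [N.Normal], C G → C (G ⧸ N))
    (hstep : ∀ (G : Type u) [Group G] [Finite G] [Nontrivial G], C G →
      ∃ M : Subgroup G, M.Normal ∧ M ≠ ⊤ ∧ (M.index = p ∨ ¬ p ∣ M.index)) :
    ∀ (n : ℕ) (G : Type u) [Group G] [Finite G], Nat.card G = n → C G →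
    (∀ χ : G → ℂ, IsIrrCharacter G χ → ∀ d : ℕ, χ 1 = d → ¬ p ∣ d) →
    ∃ P : Subgroup G, P.Normal ∧ (∀ x ∈ P, ∀ y ∈ P, x * y = y * x) ∧ IsPGroup p P ∧
      ¬ p ∣ P.index := by
  intro n
  induction n using Nat.strong_induction_on with
  | _ n ih =>
  intro G _ _ hcard hsolv hdeg
  classical
  haveI := Fintype.ofFinite G
  by_cases hnt : Nontrivial G
  swap
  · rw [not_nontrivial_iff_subsingleton] at hnt
    refine ⟨⊥, inferInstance, ?_, IsPGroup.of_bot, ?_⟩
    · intro x _ y _
      rw [Subsingleton.elim x 1, Subsingleton.elim y 1]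
    · rw [Subgroup.index_bot, Nat.card_of_subsingleton (1 : G)]
      intro h
      exact hp.out.one_lt.ne' (Nat.dvd_one.mp h)
  obtain ⟨M, hMn, hMtop, hMq⟩ := hstep G hsolv
  have hMcard : Nat.card M < n := by
    rw [← hcard, ← M.card_mul_index]
    have h1 : 1 < M.index := Subgroup.one_lt_index_of_ne_top hMtop
    have hpos : 0 < Nat.card M := Nat.card_pos
    nlinarith
  have hMsolv : C M := hsub G M hsolv
  have hMdeg : ∀ θ : M → ℂ, IsIrrCharacter M θ → ∀ d : ℕ, θ 1 = d → ¬ p ∣ d := by
    intro θ hθ d hd hpd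
    obtain ⟨χ, k, hχ, hk, hdk⟩ := exists_degree_dvd M hθ d hd
    exact hdeg χ hχ k hk (hpd.trans hdk)
  obtain ⟨P₀, hP₀n, hP₀ab, hP₀p, hP₀i⟩ := ih _ hMcard M rfl hMsolv hMdeg
  have hPp : IsPGroup p (P₀.map M.subtype) := hP₀p.map M.subtype
  have hPab : ∀ x ∈ P₀.map M.subtype, ∀ y ∈ P₀.map M.subtype, x * y = y * x := by
    rintro x ⟨x', hx', rfl⟩ y ⟨y', hy', rfl⟩
    rw [← map_mul, ← map_mul, hP₀ab x' hx' y' hy']
  have hPidx : (P₀.map M.subtype).index = P₀.index * M.index := Subgroup.index_map_subtype P₀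
  have hPn : (P₀.map M.subtype).Normal := by
    constructor
    intro x hx g
    obtain ⟨x', hx', rfl⟩ := hx
    have hKcard : Nat.card (P₀.map (MulAut.conjNormal g : M ≃* M).toMonoidHom) = Nat.card P₀ :=
      Subgroup.card_map_of_injective (MulEquiv.injective _)
    have hKle : P₀.map (MulAut.conjNormal g : M ≃* M).toMonoidHom ≤ P₀ := by
      apply le_normal_of_coprime
      rw [hKcard]
      obtain ⟨a, ha⟩ := IsPGroup.iff_card.mp hP₀p
      rw [ha]
      exact Nat.Coprime.pow_left _ ((Nat.Prime.coprime_iff_not_dvd hp.out).mpr hP₀i)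
    have h1 : (MulAut.conjNormal g x') ∈ P₀.map (MulAut.conjNormal g : M ≃* M).toMonoidHom :=
      ⟨x', hx', rfl⟩
    exact ⟨MulAut.conjNormal g x', hKle h1, by simp [MulAut.conjNormal_apply]⟩
  by_cases hqp : M.index = p
  swap
  · refine ⟨P₀.map M.subtype, hPn, hPab, hPp, ?_⟩
    rw [hPidx]
    intro h
    rcases (Nat.Prime.dvd_mul hp.out).mp h with h | h
    · exact hP₀i h
    · rcases hMq with h' | h'
      · exact hqp h'
      · exact h' h
  have hinv : ∀ θ : M → ℂ, IsIrrCharacter M θ → ∀ g : G, conjFn M θ g = θ :=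
    fun θ hθ g => invariant_of_index_p p M hqp hdeg hθ g
  by_cases hP₀bot : P₀ = ⊥
  · -- `M` is a `p'`-group
    have hpM : ¬ p ∣ Nat.card M := by
      rw [hP₀bot, Subgroup.index_bot] at hP₀i
      exact hP₀i
    have hpG : p ∣ Nat.card G := by
      rw [← M.card_mul_index, hqp]
      exact Dvd.intro_left _ rfl
    obtain ⟨x, hx⟩ := exists_prime_orderOf_dvd_card' p hpG
    have hα : (MulAut.conjNormal x : MulAut M) ^ (p ^ 1) = 1 := by
      rw [pow_one, ← map_pow, ← hx, pow_orderOf_eq_one, map_one]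
    have hfix : ∀ θ : M → ℂ, IsIrrCharacter M θ → θ ∘ (MulAut.conjNormal x : M ≃* M) = θ := by
      intro θ hθ
      have := hinv θ hθ x
      rw [conjFn_eq_comp] at this
      exact this
    have hcomm := aut_eq_one_of_fixes_irr p hpM (MulAut.conjNormal x : M ≃* M) 1 hα hfix
    have hxM : x ∉ M := by
      intro hxM
      apply hpM
      have : orderOf (⟨x, hxM⟩ : M) = p := by rw [← Subgroup.orderOf_coe]; exact hx
      rw [← this]
      exact orderOf_dvd_natCard _
    have hMC : M ≤ Subgroup.centralizer ({x} : Set G) := by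
      intro m hm
      rw [Subgroup.mem_centralizer_singleton_iff]
      have := congrArg Subtype.val (hcomm ⟨m, hm⟩)
      rw [MulAut.conjNormal_apply] at this
      simp only at this
      have h2 : x * m = m * x := by
        calc x * m = (x * m * x⁻¹) * x := by group
          _ = m * x := by rw [this]
      first | exact h2 | exact h2.symm
    have hxC : x ∈ Subgroup.centralizer ({x} : Set G) := by
      rw [Subgroup.mem_centralizer_singleton_iff]
    have hCtop : Subgroup.centralizer ({x} : Set G) = ⊤ := by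
      rw [← Subgroup.index_eq_one]
      have hdvd : (Subgroup.centralizer ({x} : Set G)).index ∣ p := by
        rw [← hqp]; exact Subgroup.index_dvd_of_le hMC
      rcases (Nat.dvd_prime hp.out).mp hdvd with h | h
      · exact h
      · exfalso
        apply hxM
        have hcardeq : Nat.card (Subgroup.centralizer ({x} : Set G)) = Nat.card M := by
          have e1 := (Subgroup.centralizer ({x} : Set G)).card_mul_index
          have e2 := M.card_mul_index
          rw [h] at e1
          rw [hqp, ← e1] at e2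
          exact (Nat.eq_of_mul_eq_mul_right hp.out.pos e2).symm
        have := Subgroup.eq_of_le_of_card_ge hMC hcardeq.le
        rw [this]
        exact hxC
    have hxcen : x ∈ Subgroup.center G := by
      rw [Subgroup.mem_center_iff]
      intro g
      have : g ∈ Subgroup.centralizer ({x} : Set G) := by rw [hCtop]; trivial
      rw [Subgroup.mem_centralizer_singleton_iff] at this
      exact this
    have hQn := Cfsg.Agent.Lib.Helper2_BrauerThm.normal_zpowers_of_mem_center x hxcen
    have hQcard : Nat.card (Subgroup.zpowers x) = p := by rw [Nat.card_zpowers, hx]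
    have hQp : IsPGroup p (Subgroup.zpowers x) := IsPGroup.of_card (n := 1) (by rw [hQcard, pow_one])
    refine ⟨Subgroup.zpowers x, hQn, ?_, hQp, ?_⟩
    · haveI := hQn
      exact abelian_of_normal_pgroup p hdeg _ hQp
    · have e1 := (Subgroup.zpowers x).card_mul_index
      have e2 := M.card_mul_index
      rw [hQcard] at e1
      rw [hqp, ← e1, mul_comm] at e2
      have : (Subgroup.zpowers x).index = Nat.card M :=
        (Nat.eq_of_mul_eq_mul_left hp.out.pos e2).symm
      rw [this]
      exact hpM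
  · -- pass to the quotient by `P`
    haveI := hPn
    have hPne : P₀.map M.subtype ≠ ⊥ := by
      intro h
      apply hP₀bot
      rw [eq_bot_iff]
      intro y hy
      have : (y : G) ∈ P₀.map M.subtype := ⟨y, hy, rfl⟩
      rw [h, Subgroup.mem_bot] at this
      rw [Subgroup.mem_bot]
      exact Subtype.ext this
    have hQcard : Nat.card (G ⧸ P₀.map M.subtype) < n := by
      rw [← hcard, ← (P₀.map M.subtype).card_mul_index]
      change (P₀.map M.subtype).index < _
      have h1 : 1 < Nat.card (P₀.map M.subtype) := by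
        rw [Nat.one_lt_iff_ne_zero_and_ne_one]
        exact ⟨Nat.card_pos.ne', fun h => hPne (Subgroup.card_eq_one.mp h)⟩
      have hpos : 0 < (P₀.map M.subtype).index :=
        Nat.pos_of_ne_zero Subgroup.index_ne_zero_of_finite
      nlinarith
    have hQsolv : C (G ⧸ P₀.map M.subtype) := hquot G _ hsolv
    have hQdeg : ∀ β : G ⧸ P₀.map M.subtype → ℂ, IsIrrCharacter (G ⧸ P₀.map M.subtype) β →
        ∀ d : ℕ, β 1 = d → ¬ p ∣ d := by
      intro β hβ d hd
      refine hdeg (Cfsg.Agent.Lib.Helper2_Gallagher.infl (P₀.map M.subtype) β)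
        (Cfsg.Agent.Lib.Helper2_Gallagher.IsIrrCharacter.infl _ hβ) d ?_
      rw [Cfsg.Agent.Lib.Helper2_Gallagher.infl_apply, QuotientGroup.mk_one, hd]
    obtain ⟨Qb, hQbn, -, hQbp, hQbi⟩ := ih _ hQcard (G ⧸ P₀.map M.subtype) rfl hQsolv hQdeg
    haveI := hQbn
    have hQn : (Qb.comap (QuotientGroup.mk' (P₀.map M.subtype))).Normal := inferInstance
    have hQp : IsPGroup p (Qb.comap (QuotientGroup.mk' (P₀.map M.subtype))) := by
      intro y
      obtain ⟨a, ha⟩ := hQbp ⟨QuotientGroup.mk' _ (y : G), y.2⟩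
      have h1 : ((y : G) ^ p ^ a) ∈ P₀.map M.subtype := by
        rw [← QuotientGroup.eq_one_iff, QuotientGroup.mk_pow]
        exact congrArg Subtype.val ha
      obtain ⟨b, hb⟩ := hPp ⟨_, h1⟩
      refine ⟨a + b, ?_⟩
      apply Subtype.ext
      rw [Subgroup.coe_pow, Subgroup.coe_one, pow_add, pow_mul]
      exact congrArg Subtype.val hb
    refine ⟨Qb.comap (QuotientGroup.mk' (P₀.map M.subtype)), hQn, ?_, hQp, ?_⟩
    · exact abelian_of_normal_pgroup p hdeg _ hQp
    · rw [Subgroup.index_comap_of_surjective _ (QuotientGroup.mk'_surjective _)]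
      exact hQbi


/-- A nontrivial finite `p`-solvable group has a proper normal subgroup of index `p` or of index
prime to `p`. -/
theorem exists_normal_step {G : Type*} [Group G] [Finite G] [Nontrivial G] (p : ℕ)
    [hp : Fact p.Prime] (hG : Cfsg.IsPSolvable p G) :
    ∃ M : Subgroup G, M.Normal ∧ M ≠ ⊤ ∧ (M.index = p ∨ ¬ p ∣ M.index) := by
  obtain ⟨n, H, h0, hlast, hmono, hnorm, hstep⟩ := hG
  have hex : ∃ i : Fin n, H i.castSucc ≠ ⊤ ∧ H i.succ = ⊤ := by
    by_contra hcon
    push Not at hcon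
    have hall : ∀ j : Fin (n + 1), H j = ⊤ := by
      intro j
      induction j using Fin.reverseInduction with
      | last => exact hlast
      | cast i ih =>
        by_contra hne
        exact hcon i hne ih
    have := hall 0
    rw [h0] at this
    exact bot_ne_top this
  obtain ⟨i, hi1, hi2⟩ := hex
  haveI := hnorm i.castSucc
  have hrel := hstep i
  rw [hi2, Subgroup.relIndex_top_right] at hrel
  rcases hrel with ⟨m, hm⟩ | hcop
  · -- `G / H i` is a nontrivial `p`-group
    have hPG : IsPGroup p (G ⧸ H i.castSucc) := IsPGroup.of_card (n := m) hm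
    haveI : Nontrivial (G ⧸ H i.castSucc) := by
      have h1 : 1 < (H i.castSucc).index := Subgroup.one_lt_index_of_ne_top hi1
      rw [Subgroup.index] at h1
      exact (Finite.one_lt_card_iff_nontrivial).mp h1
    obtain ⟨K, hK⟩ : ∃ K : Subgroup (G ⧸ H i.castSucc), IsCoatom K := by
      rcases IsCoatomic.eq_top_or_exists_le_coatom (⊥ : Subgroup (G ⧸ H i.castSucc)) with
        h | ⟨K, hK, -⟩
      · exact absurd h bot_ne_top
      · exact ⟨K, hK⟩
    obtain ⟨hKn, hKi⟩ := Cfsg.Agent.Lib.Helper7_PFrattini.coatom_normal_index hPG K hK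
    haveI := hKn
    have hidx : (K.comap (QuotientGroup.mk' (H i.castSucc))).index = p := by
      rw [Subgroup.index_comap_of_surjective _ (QuotientGroup.mk'_surjective _)]
      exact hKi
    refine ⟨K.comap (QuotientGroup.mk' (H i.castSucc)), inferInstance, ?_, Or.inl hidx⟩
    intro htop
    rw [htop, Subgroup.index_top] at hidx
    exact hp.out.one_lt.ne hidx
  · refine ⟨H i.castSucc, hnorm _, hi1, Or.inr ?_⟩
    intro hdvd
    have h1 : p ∣ Nat.gcd (H i.castSucc).index p := Nat.dvd_gcd hdvd dvd_rfl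
    rw [hcop] at h1
    exact hp.out.one_lt.ne' (Nat.dvd_one.mp h1)

/-- **Itô**, `p`-solvable case. -/
theorem ito_psolvable {G : Type u} [Group G] [Finite G] (p : ℕ) [hp : Fact p.Prime]
    (hG : Cfsg.IsPSolvable p G)
    (hdeg : ∀ χ : G → ℂ, IsIrrCharacter G χ → ∀ d : ℕ, χ 1 = d → ¬ p ∣ d) :
    ∃ P : Subgroup G, P.Normal ∧ (∀ x ∈ P, ∀ y ∈ P, x * y = y * x) ∧ IsPGroup p P ∧
      ¬ p ∣ P.index := by
  apply ito_general_aux p (fun G _ => Finite G ∧ Cfsg.IsPSolvable p G) ?_ ?_ ?_ (Nat.card G) G rfl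
    ⟨inferInstance, hG⟩ hdeg
  · intro G _ M h
    haveI := h.1
    exact ⟨inferInstance, Cfsg.Agent.Lib.Helper7_PSolvable.subgroup hp.out h.2 M⟩
  · intro G _ N _ h
    haveI := h.1
    exact ⟨inferInstance, Cfsg.Agent.Lib.Helper7_PSolvable.quotient hp.out h.2 N⟩
  · intro G _ _ _ h
    exact exists_normal_step p h.2

end Cfsg.Agent.Lib.Helper2_ItoPSolv
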