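import Mathlib
import Cfsg.Prelude.Def_Characters
import Cfsg.Agent.Lib.Helper2_ClassFn
import Cfsg.Agent.Lib.Helper2_CharBasic
import Cfsg.Agent.Lib.Helper2_CharOrtho
import Cfsg.Agent.Lib.Helper2_CharMore
import Cfsg.Agent.Lib.Helper2_Clifford
import Cfsg.Agent.Lib.Helper2_CharInd
import Cfsg.Agent.Lib.Helper2_CharDeg
import Cfsg.Agent.Lib.Helper2_CharSum
import Cfsg.Agent.Lib.Helper2_CharExtra
import Cfsg.Agent.Lib.Helper2_CliffordCorr
import Cfsg.Agent.Lib.Helper2_MGroup
import Cfsg.Agent.Lib.Helper2_Ito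
import Cfsg.Agent.Lib.Helper2_GoingDown
import Cfsg.Agent.S0857

set_option autoImplicit false

/-!
# Relative M-groups
-/

namespace Cfsg.Agent.Lib.Helper2_RelMGroup

open Cfsg
open Cfsg.Agent.Lib.Helper2_ClassFn
open Cfsg.Agent.Lib.Helper2_CharBasic
open Cfsg.Agent.Lib.Helper2_CharOrtho
open Cfsg.Agent.Lib.Helper2_CharMore
open Cfsg.Agent.Lib.Helper2_Clifford
open Cfsg.Agent.Lib.Helper2_CharInd
open Cfsg.Agent.Lib.Helper2_CharDeg
open Cfsg.Agent.Lib.Helper2_CharSum
open Cfsg.Agent.Lib.Helper2_CharExtra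
open Cfsg.Agent.Lib.Helper2_CliffordCorr
open Cfsg.Agent.Lib.Helper2_MGroup
open Cfsg.Agent.Lib.Helper2_Ito
open Cfsg.Agent.Lib.Helper2_GoingDown
open scoped ComplexConjugate

universe u

/-- The non-square chief factor hypothesis above `N`. -/
def ChiefHyp (G : Type u) [Group G] (N : Subgroup G) : Prop :=
  ∀ (H K L : Subgroup G), N ≤ L → L < K → K ≤ H → (∀ h ∈ H, ∀ k ∈ K, h * k * h⁻¹ ∈ K) →
    (∀ h ∈ H, ∀ l ∈ L, h * l * h⁻¹ ∈ L) →
    (∀ M : Subgroup G, L ≤ M → M ≤ K → (∀ h ∈ H, ∀ m ∈ M, h * m * h⁻¹ ∈ M) → M = L ∨ M = K) →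
    ¬ IsSquare (L.relIndex K)

/-- `χ` is induced from a character of a subgroup over `N` restricting irreducibly to `N`. -/
def RelM (G : Type u) [Group G] [Fintype G] (N : Subgroup G) (χ : G → ℂ) : Prop :=
  ∃ (H : Subgroup G) (hNH : N ≤ H) (ψ : H → ℂ), IsIrrCharacter H ψ ∧ indFun H ψ = χ ∧
    IsIrrCharacter N (fun n : N => ψ ⟨(n : G), hNH n.2⟩)

section Transfer

variable {G : Type u} [Group G]

theorem chiefHyp_subgroup (N T : Subgroup G) (hNT : N ≤ T) (hchief : ChiefHyp G N) :
    ChiefHyp T (N.subgroupOf T) := by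
  intro H' K' L' hNL hLK hKH hinvK hinvL hmin
  have hinj : Function.Injective T.subtype := T.subtype_injective
  rw [← Subgroup.relIndex_map_map_of_injective L' K' hinj]
  apply hchief (H'.map T.subtype) (K'.map T.subtype) (L'.map T.subtype)
  · intro n hn
    exact Subgroup.mem_map.mpr ⟨⟨n, hNT hn⟩, hNL (Subgroup.mem_subgroupOf.mpr hn), rfl⟩
  · exact (Subgroup.map_lt_map_iff_of_injective hinj).mpr hLK
  · exact Subgroup.map_mono hKH
  · intro h hh k hk
    obtain ⟨h', hh', rfl⟩ := Subgroup.mem_map.mp hh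
    obtain ⟨k', hk', rfl⟩ := Subgroup.mem_map.mp hk
    exact Subgroup.mem_map.mpr ⟨h' * k' * h'⁻¹, hinvK h' hh' k' hk', by simp⟩
  · intro h hh l hl
    obtain ⟨h', hh', rfl⟩ := Subgroup.mem_map.mp hh
    obtain ⟨l', hl', rfl⟩ := Subgroup.mem_map.mp hl
    exact Subgroup.mem_map.mpr ⟨h' * l' * h'⁻¹, hinvL h' hh' l' hl', by simp⟩
  · intro M hLM hMK hinvM
    have hMT : M ≤ T := by
      intro m hm
      obtain ⟨k', -, rfl⟩ := Subgroup.mem_map.mp (hMK hm)
      exact k'.2
    have h1 : L' ≤ M.subgroupOf T := by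
      intro l hl
      rw [Subgroup.mem_subgroupOf]
      exact hLM (Subgroup.mem_map.mpr ⟨l, hl, rfl⟩)
    have h2 : M.subgroupOf T ≤ K' := by
      intro m hm
      rw [Subgroup.mem_subgroupOf] at hm
      obtain ⟨k', hk', hkm⟩ := Subgroup.mem_map.mp (hMK hm)
      have : k' = m := Subtype.ext hkm
      rw [← this]; exact hk'
    have h3 : ∀ h ∈ H', ∀ m ∈ M.subgroupOf T, h * m * h⁻¹ ∈ M.subgroupOf T := by
      intro h hh m hm
      rw [Subgroup.mem_subgroupOf] at hm ⊢
      have := hinvM (h : G) (Subgroup.mem_map.mpr ⟨h, hh, rfl⟩) (m : G) hm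
      simpa using this
    rcases hmin (M.subgroupOf T) h1 h2 h3 with h | h
    · left
      rw [← Subgroup.map_subgroupOf_eq_of_le hMT, h]
    · right
      rw [← Subgroup.map_subgroupOf_eq_of_le hMT, h]

theorem solvable_subgroup (N T : Subgroup G) [N.Normal] (hsolv : Group.IsSolvable (G ⧸ N)) :
    Group.IsSolvable (T ⧸ N.subgroupOf T) := by
  let f : T ⧸ N.subgroupOf T →* G ⧸ N :=
    QuotientGroup.map (N.subgroupOf T) N T.subtype (fun x hx => hx)
  have hf : Function.Injective f := by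
    rw [injective_iff_map_eq_one]
    intro x hx
    induction x using QuotientGroup.induction_on with
    | H t =>
    have hx' : ((T.subtype t : G) : G ⧸ N) = 1 := hx
    rw [QuotientGroup.eq_one_iff] at hx'
    rw [QuotientGroup.eq_one_iff]
    exact hx'
  exact Group.isSolvable_of_isSolvable_injective hf

end Transfer

section Ind

variable {G : Type u} [Group G] [Fintype G]

theorem relM_of_subgroup (N T : Subgroup G) [Fintype T] (hNT : N ≤ T) (ψ : T → ℂ)
    (h : RelM T (N.subgroupOf T) ψ) : RelM G N (indFun T ψ) := by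
  classical
  obtain ⟨H', hNH', η, hη, hind, hres⟩ := h
  have hNH : N ≤ H'.map T.subtype := by
    intro n hn
    exact Subgroup.mem_map.mpr ⟨⟨n, hNT hn⟩, hNH' (Subgroup.mem_subgroupOf.mpr hn), rfl⟩
  let E := H'.equivMapOfInjective T.subtype T.subtype_injective
  refine ⟨H'.map T.subtype, hNH, fun h => η (E.symm h), ?_, ?_, ?_⟩
  · exact IsIrrCharacter.comp_mulEquiv hη E.symm
  · rw [← hind, indFun_trans]
  · have e : N ≃* N.subgroupOf T := (Subgroup.subgroupOfEquivOfLe hNT).symm
    have := IsIrrCharacter.comp_mulEquiv hres (Subgroup.subgroupOfEquivOfLe hNT).symm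
    convert this using 1
    ext n
    change η (E.symm _) = η _
    congr 1
    apply E.injective
    rw [MulEquiv.apply_symm_apply]
    apply Subtype.ext
    rw [Subgroup.coe_equivMapOfInjective_apply]
    have h1 : ((((Subgroup.subgroupOfEquivOfLe hNT).symm n : N.subgroupOf T) : T) : G) = (n : G) := by
      have h2 := Subgroup.subgroupOfEquivOfLe_apply_coe hNT ((Subgroup.subgroupOfEquivOfLe hNT).symm n)
      rw [MulEquiv.apply_symm_apply] at h2
      exact h2.symm
    simp only [Subgroup.coe_subtype]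
    exact h1.symm

set_option maxHeartbeats 1000000 in
theorem exists_proper_inertia (N : Subgroup G) [hNn : N.Normal]
    (hsolv : Group.IsSolvable (G ⧸ N)) (hchief : ChiefHyp G N) {χ : G → ℂ}
    (hχ : IsIrrCharacter G χ) (hred : ¬ IsIrrCharacter N (fun n : N => χ n)) :
    ∃ (T : Subgroup G) (ψ : T → ℂ), N ≤ T ∧ T ≠ ⊤ ∧ IsIrrCharacter T ψ ∧ indFun T ψ = χ := by
  classical
  have hχc := IsIrrCharacter.isCharacter hχ
  have hχcf := IsCharacter.isClassFunction hχc
  -- choose K minimal normal over N with irreducible restriction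
  let S₁ : Set (Subgroup G) := {K | K.Normal ∧ N ≤ K ∧ IsIrrCharacter K (fun k : K => χ k)}
  have hS₁ne : S₁.Nonempty := by
    refine ⟨⊤, inferInstance, le_top, ?_⟩
    exact IsIrrCharacter.comp_mulEquiv hχ Subgroup.topEquiv
  obtain ⟨K, ⟨hKn, hNK, hKirr⟩, hKmin⟩ :=
    Set.exists_min_image S₁ (fun K => Nat.card K) (Set.toFinite _) hS₁ne
  haveI := hKn
  have hKN : N ≠ K := by
    rintro rfl
    exact hred hKirr
  have hNltK : N < K := lt_of_le_of_ne hNK hKN
  -- choose L maximal normal with N ≤ L < K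
  let S₂ : Set (Subgroup G) := {L | L.Normal ∧ N ≤ L ∧ L < K}
  have hS₂ne : S₂.Nonempty := ⟨N, hNn, le_refl N, hNltK⟩
  obtain ⟨L, ⟨hLn, hNL, hLK⟩, hLmax⟩ :=
    Set.exists_max_image S₂ (fun L => Nat.card L) (Set.toFinite _) hS₂ne
  haveI := hLn
  have hchiefG : ∀ M : Subgroup G, M.Normal → L ≤ M → M ≤ K → M = L ∨ M = K := by
    intro M hMn hLM hMK
    by_cases hMK' : M = K
    · right; exact hMK'
    · left
      have hM₂ : M ∈ S₂ := ⟨hMn, hNL.trans hLM, lt_of_le_of_ne hMK hMK'⟩
      exact (Subgroup.eq_of_le_of_card_ge hLM (hLmax M hM₂)).symm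
  -- the chief factor is abelian
  have habKL : ⁅K, K⁆ ≤ L := by
    have hMn : (⁅K, K⁆ ⊔ L).Normal := inferInstance
    have hMK : ⁅K, K⁆ ⊔ L ≤ K := sup_le (Subgroup.commutator_le_left K K) hLK.le
    rcases hchiefG _ hMn le_sup_right hMK with h | h
    · rw [← h]; exact le_sup_left
    · exfalso
      haveI : Group.IsSolvable (G ⧸ L) := by
        have hsurj : Function.Surjective (QuotientGroup.map N L (MonoidHom.id G) hNL) := by
          intro x
          induction x using QuotientGroup.induction_on with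
          | H g => exact ⟨(g : G ⧸ N), rfl⟩
        exact Group.isSolvable_of_surjective hsurj
      have hKbar : K.map (QuotientGroup.mk' L) ≠ ⊥ := by
        intro h0
        apply hLK.not_ge
        intro k hk
        have : (QuotientGroup.mk' L) k ∈ K.map (QuotientGroup.mk' L) :=
          Subgroup.mem_map_of_mem _ hk
        rw [h0, Subgroup.mem_bot, QuotientGroup.mk'_apply, QuotientGroup.eq_one_iff] at this
        exact this
      have hlt := Group.IsSolvable.commutator_lt_of_ne_bot hKbar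
      rw [← Subgroup.map_commutator] at hlt
      have h2 : (⁅K, K⁆ ⊔ L).map (QuotientGroup.mk' L) = K.map (QuotientGroup.mk' L) := by
        rw [h]
      rw [Subgroup.map_sup] at h2
      have h3 : L.map (QuotientGroup.mk' L) = ⊥ := QuotientGroup.map_mk'_self L
      rw [h3, sup_bot_eq] at h2
      exact hlt.ne h2
  -- going down
  have hinv : ∀ (g : G) (n : K), (fun k : K => χ k) ⟨g * n * g⁻¹, hKn.conj_mem (n : G) n.2 g⟩
      = (fun k : K => χ k) n := fun g n => hχcf n g
  have hgd := Cfsg.Agent.S0857.result K L hLK hchiefG habKL (fun k : K => χ k) hKirr hinv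
  rcases hgd with h | ⟨φ, e, hφ, hφres, he⟩ | ⟨F, hF, hFcard, hFsum⟩
  · exfalso
    have hL₁ : L ∈ S₁ := ⟨hLn, hNL, h⟩
    have h1 := hKmin L hL₁
    have h2 : Nat.card L < Nat.card K := by
      by_contra hge
      exact hLK.ne (Subgroup.eq_of_le_of_card_ge hLK.le (not_lt.mp hge))
    omega
  · exfalso
    apply hchief ⊤ K L hNL hLK le_top (fun h _ k hk => hKn.conj_mem k hk h)
      (fun h _ l hl => hLn.conj_mem l hl h)
    · intro M hLM hMK hinvM
      exact hchiefG M ⟨fun m hm g => hinvM g (Subgroup.mem_top g) m hm⟩ hLM hMK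
    · exact ⟨e, by rw [← he]; ring⟩
  · -- sum of distinct conjugates
    have hFgt : 1 < F.card := by
      rw [hFcard]
      have h1 : L.relIndex K ≠ 1 := fun h => hLK.not_ge (Subgroup.relIndex_eq_one.mp h)
      have h0 : L.relIndex K ≠ 0 := by
        unfold Subgroup.relIndex
        exact Subgroup.index_ne_zero_of_finite
      omega
    obtain ⟨φ, hφF⟩ := Finset.card_pos.mp (by omega : 0 < F.card)
    have hφ := hF φ hφF
    haveI : Fintype L := Fintype.ofFinite _
    have hconstF : ∀ φ' ∈ F, classInner (fun x : L => χ x) φ' = 1 := by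
      intro φ' hφ'
      have hres : (fun x : L => χ x) = ∑ φ ∈ F, φ := hFsum
      rw [hres, classInner_sum_left, Finset.sum_eq_single φ']
      · exact classInner_irr_self (hF φ' hφ')
      · intro ψ hψ hne
        exact classInner_irr_of_ne (hF ψ hψ) (hF φ' hφ') hne
      · intro h; exact absurd hφ' h
    have hc : classInner (fun x : L => χ x) φ ≠ 0 := by rw [hconstF φ hφF]; exact one_ne_zero
    have hT : ∀ g : G, g ∈ inertia L φ ↔
        ∀ h : L, φ ⟨g * h * g⁻¹, hLn.conj_mem h h.2 g⟩ = φ h := mem_inertia L φ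
    have hLT : L ≤ inertia L φ :=
      le_inertia L (IsCharacter.isClassFunction (IsIrrCharacter.isCharacter hφ))
    haveI : Fintype (inertia L φ) := Fintype.ofFinite _
    obtain ⟨ψ, f, hψ, -, -, hind⟩ := clifford_corr_surj L (inertia L φ) hφ hT hLT hχ hc
    refine ⟨inertia L φ, ψ, hNL.trans hLT, ?_, hψ, hind⟩
    intro htop
    have hall : ∀ φ' ∈ F, φ' = φ := by
      intro φ' hφ'
      have hc' : classInner (fun x : L => χ x) φ' ≠ 0 := by
        rw [hconstF φ' hφ']; exact one_ne_zero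
      obtain ⟨g, hg⟩ := clifford_conj_of_constituent L hχ hφ (hF φ' hφ') hc hc'
      have : g ∈ inertia L φ := by rw [htop]; exact Subgroup.mem_top g
      rw [hg]
      exact this
    have : F.card ≤ 1 := Finset.card_le_one.mpr (fun a ha b hb => by rw [hall a ha, hall b hb])
    omega

end Ind

theorem relM_aux : ∀ (n : ℕ) (G : Type u) [Group G] [Fintype G] (N : Subgroup G) [N.Normal],
    Nat.card G = n → Group.IsSolvable (G ⧸ N) → ChiefHyp G N →
    ∀ χ : G → ℂ, IsIrrCharacter G χ → RelM G N χ := by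
  intro n
  induction n using Nat.strong_induction_on with
  | _ n ih =>
  intro G _ _ N _ hn hsolv hchief χ hχ
  have hχcf := IsCharacter.isClassFunction (IsIrrCharacter.isCharacter hχ)
  by_cases hred : IsIrrCharacter N (fun n : N => χ n)
  · exact ⟨⊤, le_top, fun h => χ h, IsIrrCharacter.comp_mulEquiv hχ Subgroup.topEquiv,
      indFun_top _ χ hχcf (fun h => rfl), hred⟩
  · obtain ⟨T, ψ, hNT, hTtop, hψ, hind⟩ := exists_proper_inertia N hsolv hchief hχ hred
    haveI : Fintype T := Fintype.ofFinite _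
    have hlt : Nat.card T < n := by
      rw [← hn]
      by_contra hge
      exact hTtop (Subgroup.eq_top_of_le_card T (not_lt.mp hge))
    have := ih _ hlt T (N.subgroupOf T) rfl (solvable_subgroup N T hsolv)
      (chiefHyp_subgroup N T hNT hchief) ψ hψ
    rw [← hind]
    exact relM_of_subgroup N T hNT ψ this

end Cfsg.Agent.Lib.Helper2_RelMGroup
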