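import Mathlib
import Cfsg.Prelude.Def_Characters
import Cfsg.Agent.Lib.Helper2_ClassFn
import Cfsg.Agent.Lib.Helper2_CharBasic
import Cfsg.Agent.Lib.Helper2_CharOrtho
import Cfsg.Agent.Lib.Helper2_CharMore
import Cfsg.Agent.Lib.Helper2_CharValues
import Cfsg.Agent.Lib.Helper2_CharComplete
import Cfsg.Agent.Lib.Helper2_CharInd
import Cfsg.Agent.Lib.Helper2_CharSum
import Cfsg.Agent.Lib.Helper2_CharInt
import Cfsg.Agent.Lib.Helper2_CharCentral
import Cfsg.Agent.Lib.Helper2_Artin
import Cfsg.Agent.Lib.Helper2_BrauerInd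
import Cfsg.Agent.Lib.Helper2_BrauerThm
import Cfsg.Agent.Lib.Helper2_NilDecomp
import Cfsg.Agent.Lib.Helper2_SylowExt
import Cfsg.Agent.Lib.Helper2_Dade
import Cfsg.Agent.S4567

set_option autoImplicit false

/-!
# π-sections: the class function `n · 1_{π-section of g}` has algebraic-integer coefficients
-/

namespace Cfsg.Agent.Lib.Helper2_PiSection

open Cfsg
open Cfsg.Agent.Lib.Helper2_ClassFn
open Cfsg.Agent.Lib.Helper2_CharBasic
open Cfsg.Agent.Lib.Helper2_CharOrtho
open Cfsg.Agent.Lib.Helper2_CharMore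
open Cfsg.Agent.Lib.Helper2_CharValues
open Cfsg.Agent.Lib.Helper2_CharComplete
open Cfsg.Agent.Lib.Helper2_CharInd
open Cfsg.Agent.Lib.Helper2_CharSum
open Cfsg.Agent.Lib.Helper2_CharInt
open Cfsg.Agent.Lib.Helper2_CharCentral
open Cfsg.Agent.Lib.Helper2_Artin
open Cfsg.Agent.Lib.Helper2_BrauerInd
open Cfsg.Agent.Lib.Helper2_BrauerThm
open Cfsg.Agent.Lib.Helper2_NilDecomp
open Cfsg.Agent.Lib.Helper2_SylowExt
open Cfsg.Agent.Lib.Helper2_Dade
open scoped ComplexConjugate

universe u

section RBrauer

variable {G : Type u} [Group G] [Fintype G]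

/-- class functions whose coefficients are algebraic integers -/
def RInt (G : Type u) [Group G] [Fintype G] (f : G → ℂ) : Prop :=
  ∀ χ : G → ℂ, IsIrrCharacter G χ → IsIntegral ℤ (classInner f χ)

theorem RInt.zero : RInt G (0 : G → ℂ) := by
  intro χ _
  rw [classInner_zero_left]
  exact isIntegral_zero

theorem RInt.add {f g : G → ℂ} (hf : RInt G f) (hg : RInt G g) : RInt G (f + g) := by
  intro χ hχ
  rw [classInner_add_left]
  exact IsIntegral.add (hf χ hχ) (hg χ hχ)

theorem RInt.smul_int {f : G → ℂ} (z : ℤ) (hf : RInt G f) : RInt G ((z : ℂ) • f) := by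
  intro χ hχ
  rw [classInner_smul_left]
  exact IsIntegral.mul (isIntegral_algebraMap (R := ℤ) (A := ℂ) (x := z)) (hf χ hχ)

/-- Brauer's characterization, with algebraic-integer coefficients. -/
theorem r_brauer (θ : G → ℂ) (hθ : IsClassFunction G θ)
    (hE : ∀ (E : Subgroup G) [Fintype E] (p : ℕ), p.Prime → IsElementary p E →
      ∀ ν : E → ℂ, IsIrrCharacter E ν → IsIntegral ℤ (classInner (fun e : E => θ e) ν)) :
    RInt G θ := by
  classical
  obtain ⟨l, hl, heq⟩ := linSpan_one (G := G)
  have h1 : θ = (fun _ : G => (1:ℂ)) * θ := by ext g; simp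
  rw [h1, heq]
  clear heq h1
  induction l with
  | nil => simpa using RInt.zero
  | cons t l ih =>
    rw [List.map_cons, List.sum_cons, add_mul]
    apply RInt.add
    · rw [smul_mul_assoc, ← indFun_mul_res' t.1 _ hθ]
      apply RInt.smul_int
      obtain ⟨p, hp, hEt⟩ := hl t List.mem_cons_self
      intro χ hχ
      haveI : Fintype t.1 := Fintype.ofFinite _
      rw [frobenius_reciprocity t.1 _ χ (IsCharacter.isClassFunction (IsIrrCharacter.isCharacter hχ))]
      -- expand θ_E
      have hθE : IsClassFunction t.1 (fun e : t.1 => θ e) := by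
        intro a b
        exact hθ a b
      have hexp := IsClassFunction.expansion hθE
      have hprod : ((fun e : t.1 => ((t.2.1 e : ℂˣ) : ℂ)) * fun n : t.1 => θ n) =
          ∑ ν ∈ irrFinset t.1, classInner (fun e : t.1 => θ e) ν •
            (fun e : t.1 => ν e * ((t.2.1 e : ℂˣ) : ℂ)) := by
        funext e
        rw [Pi.mul_apply]
        rw [show θ (e : G) = _ from congrFun hexp e]
        rw [Finset.sum_apply, Finset.sum_apply, Finset.mul_sum]
        apply Finset.sum_congr rfl
        intro ν _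
        simp only [Pi.smul_apply, smul_eq_mul]
        ring
      rw [hprod, classInner_sum_left]
      apply IsIntegral.sum
      intro ν hν
      rw [classInner_smul_left]
      apply IsIntegral.mul (hE t.1 p hp hEt ν (mem_irrFinset.mp hν))
      have hirr := isIrr_mul_hom (mem_irrFinset.mp hν) t.2.1
      obtain ⟨k, hk⟩ := IsCharacter.classInner_irr_nat
        (IsCharacter.restrict (IsIrrCharacter.isCharacter hχ) t.1) hirr
      rw [← classInner_conj_symm, hk, Complex.conj_natCast]
      exact isIntegral_algebraMap (R := ℤ) (A := ℂ) (x := (k : ℤ)) |> fun h => by simpa using h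
    · exact ih (fun s hs => hl s (List.mem_cons_of_mem t hs))

end RBrauer

section Coset

variable {E : Type u} [Group E] [Fintype E]

theorem apply_mul_of_ker {χ : E → ℂ} (hχ : IsCharacter E χ) {b : E} (hb : χ b = χ 1) (w : E) :
    χ (b * w) = χ w := by
  obtain ⟨n, ρ, rfl⟩ := hχ
  have h1 := rep_eq_one_of_char_eq ρ b hb
  show LinearMap.trace ℂ _ (ρ (b * w)) = LinearMap.trace ℂ _ (ρ w)
  rw [map_mul, h1, one_mul]

open Classical in
/-- Summing an irreducible character over the cosets of a normal subgroup. -/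
theorem sum_coset (B : Subgroup E) [hB : B.Normal] {χ : E → ℂ} (hχ : IsIrrCharacter E χ) :
    (∀ w : E, ∑ b : E, (if b ∈ B then χ (b * w) else 0) = 0) ∨
      (∀ b ∈ B, ∀ w : E, χ (b * w) = χ w) := by
  set f : E → ℂ := fun g => if g ∈ B then 1 else 0 with hf
  have hfc : IsClassFunction E f := by
    intro g h
    simp only [hf]
    have : h * g * h⁻¹ ∈ B ↔ g ∈ B := by
      constructor
      · intro hh
        have := hB.conj_mem _ hh h⁻¹
        simpa [mul_assoc] using this
      · intro hg
        exact hB.conj_mem g hg h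
    exact if_congr this rfl rfl
  have key := fun w => sum_classFn_mul hχ hfc w
  have hconv : ∀ w : E, ∑ g : E, f g * χ (g * w) = ∑ b : E, (if b ∈ B then χ (b * w) else 0) := by
    intro w
    apply Finset.sum_congr rfl
    intro g _
    simp only [hf]
    split_ifs <;> simp
  set T := ∑ g : E, f g * χ g with hT
  by_cases hT0 : T = 0
  · left
    intro w
    rw [← hconv w, key w, hT0, zero_mul, zero_div]
  · right
    have h1 : ∀ w ∈ B, χ w = χ 1 := by
      intro w hw
      have h2 : ∑ g : E, f g * χ (g * w) = T := by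
        rw [hT, ← Equiv.sum_comp (Equiv.mulRight w⁻¹) (fun g => f g * χ (g * w))]
        apply Finset.sum_congr rfl
        intro g _
        rw [Equiv.coe_mulRight, inv_mul_cancel_right]
        congr 1
        simp only [hf]
        have : g * w⁻¹ ∈ B ↔ g ∈ B := by
          constructor
          · intro h
            have := B.mul_mem h hw
            rwa [inv_mul_cancel_right] at this
          · intro h
            exact B.mul_mem h (B.inv_mem hw)
        exact if_congr this rfl rfl
      rw [key w] at h2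
      have h0 := IsIrrCharacter.apply_one_ne_zero hχ
      have h3 : T * χ w = T * χ 1 := by
        rw [div_eq_iff h0] at h2
        exact h2
      exact mul_left_cancel₀ hT0 h3
    intro b hb w
    exact apply_mul_of_ker (IsIrrCharacter.isCharacter hχ) (h1 b hb) w

end Coset

section Nil

variable (E : Type u) [Group E] [Finite E] [Group.IsNilpotent E]

/-- In a finite nilpotent group the elements of order coprime to `k` form a subgroup. -/
def coprimeSub (k : ℕ) : Subgroup E where
  carrier := {e | (orderOf e).Coprime k}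
  one_mem' := by simp
  inv_mem' := by
    intro e he
    simpa [orderOf_inv] using he
  mul_mem' := by
    intro a b ha hb
    apply Nat.coprime_of_dvd
    intro q hq hqab hqk
    haveI : Fact q.Prime := ⟨hq⟩
    obtain ⟨P, Q, _, _, hQmem, _⟩ := nilpotent_p_decomp (E := E) q
    have hmem : ∀ c : E, (orderOf c).Coprime k → c ∈ Q := by
      intro c hc
      rw [hQmem]
      intro h
      have h1 : q ∣ Nat.gcd (orderOf c) k := Nat.dvd_gcd h hqk
      rw [Nat.Coprime.gcd_eq_one hc] at h1
      exact hq.one_lt.ne' (Nat.dvd_one.mp h1)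
    have := Q.mul_mem (hmem a ha) (hmem b hb)
    exact (hQmem _).mp this hqab

variable {E}

theorem mem_coprimeSub (k : ℕ) (e : E) : e ∈ coprimeSub E k ↔ (orderOf e).Coprime k := Iff.rfl

instance coprimeSub_normal (k : ℕ) : (coprimeSub E k).Normal := by
  constructor
  intro y hy g
  rw [mem_coprimeSub] at hy ⊢
  have : orderOf (g * y * g⁻¹) = orderOf y := by
    have := orderOf_injective (MulAut.conj g).toMonoidHom (MulAut.conj g).injective y
    simpa using this
  rw [this]; exact hy

omit [Finite E] [Group.IsNilpotent E] in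
theorem mul_pow_mem_normal (B : Subgroup E) [hB : B.Normal] (e b : E) (hb : b ∈ B) (k : ℕ) :
    ∃ b' ∈ B, (e * b) ^ k = e ^ k * b' := by
  induction k with
  | zero => exact ⟨1, B.one_mem, by simp⟩
  | succ k ih =>
    obtain ⟨b', hb', h⟩ := ih
    refine ⟨(e⁻¹ * b' * e) * b, B.mul_mem ?_ hb, ?_⟩
    · have := hB.conj_mem b' hb' e⁻¹
      simpa using this
    · rw [pow_succ, h, pow_succ]; group

/-- The structure of a finite nilpotent group relative to a coprime factorization of a multiple of
its order. -/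
theorem hall_kernel (m n r : ℕ) (hcop : m.Coprime n) (hE : Nat.card E ∣ m * n) (hm : m ∣ r)
    (hn : n ∣ r - 1) (hr : 1 ≤ r) :
    (coprimeSub E n).index ∣ n ∧ ∀ e : E, ∀ b ∈ coprimeSub E n, (e * b) ^ r = e ^ r := by
  set A := coprimeSub E m with hA
  set B := coprimeSub E n with hB
  have hpow : ∀ z : E, z ^ (m * n) = 1 := by
    intro z
    exact orderOf_dvd_iff_pow_eq_one.mp (dvd_trans (orderOf_dvd_natCard z) hE)
  obtain ⟨t, ht⟩ := hn
  have hrt : r = n * t + 1 := by omega
  have hrA : ∀ z : E, z ^ r ∈ A := by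
    intro z
    rw [hA, mem_coprimeSub]
    have h1 : (z ^ r) ^ n = 1 := by
      obtain ⟨s, hs⟩ := hm
      rw [← pow_mul, hs, show m * s * n = (m * n) * s by ring, pow_mul, hpow, one_pow]
    exact Nat.Coprime.coprime_dvd_left (orderOf_dvd_of_pow_eq_one h1) hcop.symm
  have hrB : ∀ z : E, (z ^ r)⁻¹ * z ∈ B := by
    intro z
    rw [hB, mem_coprimeSub]
    have h0 : (z ^ r)⁻¹ * z = (z ^ (n * t))⁻¹ := by
      rw [hrt, pow_succ]; group
    have h1 : ((z ^ r)⁻¹ * z) ^ m = 1 := by
      rw [h0, inv_pow, ← pow_mul, show n * t * m = (m * n) * t by ring, pow_mul, hpow, one_pow,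
        inv_one]
    exact Nat.Coprime.coprime_dvd_left (orderOf_dvd_of_pow_eq_one h1) hcop
  have hdisj : A ⊓ B = ⊥ := by
    rw [eq_bot_iff]
    intro z hz
    obtain ⟨hzA, hzB⟩ := Subgroup.mem_inf.mp hz
    rw [hA, mem_coprimeSub] at hzA
    rw [hB, mem_coprimeSub] at hzB
    have h1 : (orderOf z).Coprime (m * n) := Nat.Coprime.mul_right hzA hzB
    have h2 : orderOf z ∣ m * n := orderOf_dvd_of_pow_eq_one (hpow z)
    have h3 : orderOf z = 1 := Nat.Coprime.eq_one_of_dvd h1 h2
    rw [Subgroup.mem_bot]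
    exact orderOf_eq_one_iff.mp h3
  refine ⟨?_, ?_⟩
  · -- index
    have hbij : Function.Bijective (fun p : A × B => (p.1 : E) * p.2) := by
      constructor
      · exact Subgroup.mul_injective_of_disjoint (disjoint_iff.mpr hdisj)
      · intro e
        exact ⟨(⟨e ^ r, hrA e⟩, ⟨(e ^ r)⁻¹ * e, hrB e⟩), by simp⟩
    have hcard : Nat.card A * Nat.card B = Nat.card E := by
      rw [← Nat.card_prod]
      exact Nat.card_congr (Equiv.ofBijective _ hbij)
    have hidx : B.index = Nat.card A := by
      have h1 := Subgroup.card_mul_index B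
      rw [← hcard, mul_comm] at h1
      exact Nat.eq_of_mul_eq_mul_right Nat.card_pos h1
    rw [hidx]
    have hAm : (Nat.card A).Coprime m := by
      apply Nat.coprime_of_dvd
      intro q hq hqA hqm
      haveI : Fact q.Prime := ⟨hq⟩
      obtain ⟨a, ha⟩ := exists_prime_orderOf_dvd_card' q hqA
      have haA : (orderOf (a : E)).Coprime m := (mem_coprimeSub m (a : E)).mp a.2
      rw [Subgroup.orderOf_coe, ha] at haA
      have h1 : q ∣ Nat.gcd q m := Nat.dvd_gcd dvd_rfl hqm
      rw [Nat.Coprime.gcd_eq_one haA] at h1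
      exact hq.one_lt.ne' (Nat.dvd_one.mp h1)
    have hAE : Nat.card A ∣ m * n := dvd_trans (Subgroup.card_subgroup_dvd_card A) hE
    exact Nat.Coprime.dvd_of_dvd_mul_left hAm hAE
  · intro e b hb
    obtain ⟨b', hb', h⟩ := mul_pow_mem_normal B e b hb r
    have h1 : (e ^ r)⁻¹ * (e * b) ^ r ∈ A := A.mul_mem (A.inv_mem (hrA e)) (hrA (e * b))
    have h2 : (e ^ r)⁻¹ * (e * b) ^ r = b' := by rw [h]; group
    rw [h2] at h1
    have h3 : b' ∈ A ⊓ B := Subgroup.mem_inf.mpr ⟨h1, hb'⟩
    rw [hdisj, Subgroup.mem_bot] at h3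
    rw [h, h3, mul_one]

end Nil

section Main

open Classical in
/-- If `B` is a normal subgroup of index dividing `n` and `t` is a right-`B`-invariant predicate,
then `n · 1_t` has algebraic-integer inner products with irreducible characters. -/
theorem section_integral {E : Type u} [Group E] [Fintype E]
    (n : ℕ) (B : Subgroup E) [hB : B.Normal] (hidx : B.index ∣ n)
    (t : E → Prop) (ht : ∀ e : E, ∀ b ∈ B, t (e * b) ↔ t e)
    (ν : E → ℂ) (hν : IsIrrCharacter E ν) :
    IsIntegral ℤ (classInner (fun e : E => if t e then (n : ℂ) else 0) ν) := by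
  have hν' := IsIrrCharacter.conj hν
  set ν' : E → ℂ := fun e => conj (ν e) with hν'def
  set F : E → ℂ := fun e => (if t e then (n : ℂ) else 0) * ν' e with hF
  have hcf : IsClassFunction E ν' := IsCharacter.isClassFunction (IsIrrCharacter.isCharacter hν')
  have hswap : ∀ e b : E, ν' (e * b) = ν' (b * e) := by
    intro e b
    have := hcf (b * e) e
    rw [← this]
    congr 1
    group
  rw [classInner_def]
  show IsIntegral ℤ ((Nat.card E : ℂ)⁻¹ * ∑ e : E, F e)
  rcases sum_coset B hν' with h0 | hinv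
  · -- the sum vanishes
    have h1 : ∀ b : E, ∑ e : E, F e = ∑ e : E, F (e * b) := fun b =>
      (Equiv.sum_comp (Equiv.mulRight b) F).symm
    have h2 : (Nat.card B : ℂ) * ∑ e : E, F e = 0 := by
      rw [← sum_ite_mem_const B (∑ e : E, F e)]
      have h3 : ∀ b : E, (if b ∈ B then ∑ e : E, F e else 0) =
          ∑ e : E, (if b ∈ B then F (e * b) else 0) := by
        intro b
        by_cases hb : b ∈ B
        · simp only [if_pos hb]; exact h1 b
        · simp only [if_neg hb]; simp
      rw [Finset.sum_congr rfl (fun b _ => h3 b), Finset.sum_comm]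
      apply Finset.sum_eq_zero
      intro e _
      have h4 : ∀ b : E, (if b ∈ B then F (e * b) else 0) =
          (if t e then (n : ℂ) else 0) * (if b ∈ B then ν' (b * e) else 0) := by
        intro b
        by_cases hb : b ∈ B
        · simp only [if_pos hb, hF]
          rw [hswap e b]
          congr 1
          exact if_congr (ht e b hb) rfl rfl
        · simp only [if_neg hb, mul_zero]
      rw [Finset.sum_congr rfl (fun b _ => h4 b), ← Finset.mul_sum, h0 e, mul_zero]
    have hBne : (Nat.card B : ℂ) ≠ 0 := by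
      exact_mod_cast (Nat.card_pos (α := B)).ne'
    have h5 : ∑ e : E, F e = 0 := by
      rcases mul_eq_zero.mp h2 with h | h
      · exact absurd h hBne
      · exact h
    rw [h5, mul_zero]
    exact isIntegral_zero
  · -- `F` is constant on cosets
    have hFinv : ∀ e : E, ∀ b ∈ B, F (e * b) = F e := by
      intro e b hb
      simp only [hF]
      rw [hswap e b, hinv b hb e]
      congr 1
      exact if_congr (ht e b hb) rfl rfl
    haveI : Fintype (E ⧸ B) := Fintype.ofFinite _
    set Fq : E ⧸ B → ℂ := fun q => F q.out with hFq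
    have hFq' : ∀ e : E, Fq (e : E ⧸ B) = F e := by
      intro e
      obtain ⟨b, hb⟩ := QuotientGroup.mk_out_eq_mul B e
      simp only [hFq]
      rw [hb]
      exact hFinv e b b.2
    have hsum : ∑ e : E, F e = (Nat.card B : ℂ) * ∑ q : E ⧸ B, Fq q := by
      rw [← Cfsg.Agent.S4567.sum_comp_mk B Fq]
      apply Finset.sum_congr rfl
      intro e _
      exact (hFq' e).symm
    obtain ⟨k, hk⟩ := hidx
    have hcard : (Nat.card E : ℂ) = (Nat.card B : ℂ) * (B.index : ℂ) := by
      rw [← Nat.cast_mul, Subgroup.card_mul_index]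
    have hBne : (Nat.card B : ℂ) ≠ 0 := by
      exact_mod_cast (Nat.card_pos (α := B)).ne'
    have hidxne : (B.index : ℂ) ≠ 0 := by
      have : B.index ≠ 0 := Subgroup.index_ne_zero_of_finite
      exact_mod_cast this
    rw [hsum, hcard, Finset.mul_sum, Finset.mul_sum]
    apply IsIntegral.sum
    intro q _
    have hterm : ((Nat.card B : ℂ) * (B.index : ℂ))⁻¹ * ((Nat.card B : ℂ) * Fq q) =
        (if t q.out then (k : ℂ) else 0) * ν' q.out := by
      simp only [hFq, hF]
      by_cases htq : t q.out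
      · simp only [if_pos htq]
        rw [hk]
        push_cast
        field_simp
      · simp only [if_neg htq]
        simp
    rw [hterm]
    apply IsIntegral.mul
    · by_cases htq : t q.out
      · simp only [if_pos htq]
        exact isIntegral_algebraMap (R := ℤ) (A := ℂ) (x := (k : ℤ)) |> fun h => by simpa using h
      · simp only [if_neg htq]
        exact isIntegral_zero
    · exact IsCharacter.isIntegral (IsIrrCharacter.isCharacter hν') _

variable {G : Type u} [Group G] [Fintype G]

open Classical in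
/-- The class function `n · 1_{x ^ r ∼ g}` has algebraic-integer coefficients. -/
theorem pi_section_rint (m n r : ℕ) (hmn : Nat.card G = m * n) (hcop : m.Coprime n)
    (hm : m ∣ r) (hn : n ∣ r - 1) (hr : 1 ≤ r) (g : G) :
    RInt G (fun x : G => if IsConj (x ^ r) g then (n : ℂ) else 0) := by
  apply r_brauer
  · intro x h
    have : (h * x * h⁻¹) ^ r = h * x ^ r * h⁻¹ := conj_pow
    have hc : IsConj ((h * x * h⁻¹) ^ r) g ↔ IsConj (x ^ r) g := by
      rw [this]
      constructor
      · intro hh
        exact (isConj_iff.mpr ⟨h, rfl⟩ : IsConj (x ^ r) (h * x ^ r * h⁻¹)).trans hh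
      · intro hh
        exact ((isConj_iff.mpr ⟨h, rfl⟩ : IsConj (x ^ r) (h * x ^ r * h⁻¹)).symm).trans hh
    exact if_congr hc rfl rfl
  · intro E _ p hp hEl ν hν
    haveI : Group.IsNilpotent E := IsElementary.nilpotent hp hEl
    have hEdvd : Nat.card E ∣ m * n := by
      rw [← hmn]; exact Subgroup.card_subgroup_dvd_card E
    obtain ⟨hidx, hpow⟩ := hall_kernel (E := E) m n r hcop hEdvd hm hn hr
    have hinvt : ∀ e : E, ∀ b ∈ coprimeSub E n,
        IsConj (((e * b : E) : G) ^ r) g ↔ IsConj ((e : G) ^ r) g := by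
      intro e b hb
      have h1 := hpow e b hb
      have h2 : (((e * b : E) : G)) ^ r = ((e : E) : G) ^ r := by
        have := congrArg (fun z : E => (z : G)) h1
        simpa using this
      rw [h2]
    have key := section_integral n (coprimeSub E n) hidx (fun e : E => IsConj ((e : G) ^ r) g)
      hinvt ν hν
    convert key

/-- Instance-free form of `pi_section_rint`. -/
theorem pi_section_rint' (m n r : ℕ) (hmn : Nat.card G = m * n) (hcop : m.Coprime n)
    (hm : m ∣ r) (hn : n ∣ r - 1) (hr : 1 ≤ r) (g : G) (ϑ : G → ℂ)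
    (h1 : ∀ x : G, IsConj (x ^ r) g → ϑ x = n) (h0 : ∀ x : G, ¬ IsConj (x ^ r) g → ϑ x = 0) :
    RInt G ϑ := by
  classical
  have := pi_section_rint m n r hmn hcop hm hn hr g
  convert this using 1
  funext x
  by_cases hx : IsConj (x ^ r) g
  · rw [if_pos hx]; exact h1 x hx
  · rw [if_neg hx]; exact h0 x hx

theorem classFn_of_pow (r : ℕ) (g : G) (c : ℂ) (ϑ : G → ℂ)
    (h1 : ∀ x : G, IsConj (x ^ r) g → ϑ x = c) (h0 : ∀ x : G, ¬ IsConj (x ^ r) g → ϑ x = 0) :
    IsClassFunction G ϑ := by
  intro x h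
  have hpow : (h * x * h⁻¹) ^ r = h * x ^ r * h⁻¹ := conj_pow
  have hc : IsConj ((h * x * h⁻¹) ^ r) g ↔ IsConj (x ^ r) g := by
    rw [hpow]
    constructor
    · intro hh
      exact (isConj_iff.mpr ⟨h, rfl⟩ : IsConj (x ^ r) (h * x ^ r * h⁻¹)).trans hh
    · intro hh
      exact ((isConj_iff.mpr ⟨h, rfl⟩ : IsConj (x ^ r) (h * x ^ r * h⁻¹)).symm).trans hh
  by_cases hx : IsConj (x ^ r) g
  · rw [h1 x hx, h1 _ (hc.mpr hx)]
  · rw [h0 x hx, h0 _ (fun hh => hx (hc.mp hh))]

/-- A class function with algebraic-integer coefficients, as a `finsum`. -/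
theorem RInt.exists_coeff {ϑ : G → ℂ} (hcf : IsClassFunction G ϑ) (h : RInt G ϑ) :
    ∃ c : IrrCharacter G → ℂ, (∀ χ, c χ ∈ integralClosure ℤ ℂ) ∧
      ϑ = ∑ᶠ χ : IrrCharacter G, c χ • (χ : G → ℂ) := by
  refine ⟨fun χ => classInner ϑ (χ : G → ℂ), fun χ => h χ.1 χ.2, ?_⟩
  have hexp := IsClassFunction.expansion hcf
  rw [finsum_irr_eq_sum (fun ψ : G → ℂ => classInner ϑ ψ • ψ)]
  exact hexp

/-- CRT exponent: `m ∣ r`, `n ∣ r - 1`, `1 ≤ r`. -/
theorem exists_crt_exp (m n : ℕ) (hcop : m.Coprime n) (hpos : 0 < m * n) :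
    ∃ r : ℕ, m ∣ r ∧ n ∣ r - 1 ∧ 1 ≤ r := by
  obtain ⟨k, hk0, hk1⟩ := Nat.chineseRemainder hcop 0 1
  refine ⟨k + m * n, ?_, ?_, by omega⟩
  · have : m ∣ k := (Nat.modEq_zero_iff_dvd).mp hk0
    exact dvd_add this (dvd_mul_right m n)
  · have h1 : 1 ≤ k + m * n := by omega
    apply (Nat.modEq_iff_dvd' h1).mp
    have h2 : k + m * n ≡ k [MOD n] := by
      have : k + m * n ≡ k + 0 [MOD n] := Nat.ModEq.add_left k
        ((Nat.modEq_zero_iff_dvd).mpr (dvd_mul_left n m))
      simpa using this
    exact (h2.trans hk1).symm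

end Main

end Cfsg.Agent.Lib.Helper2_PiSection
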