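import Mathlib
import Cfsg.Prelude.Def_Characters
import Cfsg.Prelude.Def_Blocks
import Cfsg.Agent.Lib.Helper2_ClassFn
import Cfsg.Agent.Lib.Helper2_CharBasic
import Cfsg.Agent.Lib.Helper2_CharOrtho
import Cfsg.Agent.Lib.Helper2_CharValues
import Cfsg.Agent.Lib.Helper2_CharComplete
import Cfsg.Agent.Lib.Helper2_CharGalois
import Cfsg.Agent.Lib.Helper2_PiSection

set_option autoImplicit false

/-!
# Congruences of character values modulo a maximal ideal of the algebraic integers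
-/

namespace Cfsg.Agent.Lib.Helper2_ModM

open Cfsg
open Cfsg.Agent.Lib.Helper2_ClassFn
open Cfsg.Agent.Lib.Helper2_CharBasic
open Cfsg.Agent.Lib.Helper2_CharOrtho
open Cfsg.Agent.Lib.Helper2_CharValues
open Cfsg.Agent.Lib.Helper2_CharComplete
open Cfsg.Agent.Lib.Helper2_CharGalois
open Cfsg.Agent.Lib.Helper2_PiSection

section Local

variable {M : Ideal AlgInt}

theorem one_not_mem (hM : M.IsMaximal) : (1 : AlgInt) ∉ M :=
  (Ideal.ne_top_iff_one M).mp hM.ne_top

theorem coe_ne_zero_of_not_mem {b : AlgInt} (hb : b ∉ M) : (b : ℂ) ≠ 0 := by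
  intro h
  apply hb
  have : b = 0 := Subtype.ext h
  rw [this]
  exact M.zero_mem

theorem memLocalIdeal_of_mem (hM : M.IsMaximal) {a : AlgInt} (ha : a ∈ M) :
    MemLocalIdeal M (a : ℂ) :=
  ⟨a, 1, ha, one_not_mem hM, by simp⟩

theorem memLocalIdeal_zero (hM : M.IsMaximal) : MemLocalIdeal M 0 := by
  have := memLocalIdeal_of_mem hM M.zero_mem
  simpa using this

theorem memLocalIdeal_add (hM : M.IsMaximal) {z w : ℂ} (hz : MemLocalIdeal M z)
    (hw : MemLocalIdeal M w) : MemLocalIdeal M (z + w) := by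
  obtain ⟨a, b, ha, hb, rfl⟩ := hz
  obtain ⟨a', b', ha', hb', rfl⟩ := hw
  have hprime := hM.isPrime
  refine ⟨a * b' + a' * b, b * b', M.add_mem (M.mul_mem_right _ ha) (M.mul_mem_right _ ha'), ?_, ?_⟩
  · intro h
    rcases hprime.mem_or_mem h with h | h
    · exact hb h
    · exact hb' h
  · have hb0 := coe_ne_zero_of_not_mem hb
    have hb0' := coe_ne_zero_of_not_mem hb'
    push_cast
    field_simp

theorem memLocalIdeal_mul_int (_hM : M.IsMaximal) {z : ℂ} (hz : MemLocalIdeal M z) {w : ℂ}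
    (hw : IsIntegral ℤ w) : MemLocalIdeal M (w * z) := by
  obtain ⟨a, b, ha, hb, rfl⟩ := hz
  refine ⟨(⟨w, hw⟩ : AlgInt) * a, b, M.mul_mem_left _ ha, hb, ?_⟩
  push_cast
  rw [mul_div_assoc]

theorem memLocalIdeal_neg (hM : M.IsMaximal) {z : ℂ} (hz : MemLocalIdeal M z) :
    MemLocalIdeal M (-z) := by
  have := memLocalIdeal_mul_int hM hz (w := -1) (IsIntegral.neg isIntegral_one)
  simpa using this

theorem memLocalIdeal_sub (hM : M.IsMaximal) {z w : ℂ} (hz : MemLocalIdeal M z)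
    (hw : MemLocalIdeal M w) : MemLocalIdeal M (z - w) := by
  rw [sub_eq_add_neg]
  exact memLocalIdeal_add hM hz (memLocalIdeal_neg hM hw)

theorem memLocalIdeal_sum (hM : M.IsMaximal) {ι : Type*} (s : Finset ι) (f : ι → ℂ)
    (h : ∀ i ∈ s, MemLocalIdeal M (f i)) : MemLocalIdeal M (∑ i ∈ s, f i) := by
  classical
  induction s using Finset.induction_on with
  | empty => simpa using memLocalIdeal_zero hM
  | insert a s ha ih =>
    rw [Finset.sum_insert ha]
    exact memLocalIdeal_add hM (h a (Finset.mem_insert_self a s))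
      (ih (fun i hi => h i (Finset.mem_insert_of_mem hi)))

theorem not_memLocalIdeal_nat {p : ℕ} (hM : IsPModular p M) (n : ℕ) (hn : n.Coprime p) :
    ¬ MemLocalIdeal M (n : ℂ) := by
  rintro ⟨a, b, ha, hb, h⟩
  have hb0 := coe_ne_zero_of_not_mem hb
  have h1 : (a : ℂ) = (n : ℂ) * (b : ℂ) := by
    rw [div_eq_iff hb0] at h
    exact h
  have h' : a = (n : AlgInt) * b := Subtype.ext (by push_cast; exact h1)
  rw [h'] at ha
  rcases hM.2.1.isPrime.mem_or_mem ha with h2 | h2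
  · have hone : (1 : AlgInt) ∈ M := by
      have hbez := Nat.gcd_eq_gcd_ab n p
      rw [Nat.Coprime.gcd_eq_one hn] at hbez
      have hbez' : (1 : AlgInt) = (n : AlgInt) * ((n.gcdA p : ℤ) : AlgInt) +
          (p : AlgInt) * ((n.gcdB p : ℤ) : AlgInt) := by
        have := congrArg (fun z : ℤ => (z : AlgInt)) hbez
        simpa using this
      rw [hbez']
      exact M.add_mem (M.mul_mem_right _ h2) (M.mul_mem_right _ hM.2.2)
    exact one_not_mem hM.2.1 hone
  · exact hb h2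

/-- `p`-power roots of unity are congruent to `1`. -/
theorem root_sub_one_mem {p : ℕ} (hM : IsPModular p M) (ε : AlgInt) (j : ℕ)
    (hε : ε ^ (p ^ j) = 1) : ε - 1 ∈ M := by
  haveI := hM.2.1
  haveI : Fact p.Prime := ⟨hM.1⟩
  letI : Field (AlgInt ⧸ M) := Ideal.Quotient.field M
  have hp0 : ((p : ℕ) : AlgInt ⧸ M) = 0 := by
    have := Ideal.Quotient.eq_zero_iff_mem.mpr hM.2.2
    simpa using this
  haveI : CharP (AlgInt ⧸ M) p := (CharP.charP_iff_prime_eq_zero hM.1).mpr hp0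
  have h1 : (Ideal.Quotient.mk M (ε - 1)) ^ (p ^ j) = 0 := by
    rw [map_sub, map_one, sub_pow_char_pow, ← map_pow, hε, map_one, one_pow, sub_self]
  have h2 : Ideal.Quotient.mk M (ε - 1) = 0 := by
    exact pow_eq_zero_iff (pow_pos hM.1.pos j).ne' |>.mp h1
  exact Ideal.Quotient.eq_zero_iff_mem.mp h2

end Local

section Char

variable {M : Ideal AlgInt} {G : Type*} [Group G] [Finite G]

/-- `χ (x ^ r) ≡ χ x` modulo `M` when `r ≡ 1` modulo the `p'`-part of the group order. -/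
theorem char_pow_sub_mem {p : ℕ} (hM : IsPModular p M) {χ : G → ℂ} (hχ : IsCharacter G χ)
    (x : G) (e r : ℕ) (hcard : Nat.card G ∣ (r - 1) * p ^ e) (hr : 1 ≤ r) :
    MemLocalIdeal M (χ (x ^ r) - χ x) := by
  have hN : 0 < Nat.card G := Nat.card_pos
  obtain ⟨l, hl⟩ := char_pow_list hχ x (Nat.card G) hN pow_card_eq_one'
  set ζ := Complex.exp (2 * Real.pi * Complex.I / (Nat.card G : ℕ)) with hζ
  have hprim : IsPrimitiveRoot ζ (Nat.card G) := Complex.isPrimitiveRoot_exp _ hN.ne'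
  have hζint : IsIntegral ℤ ζ := hprim.isIntegral hN
  have h1 := hl 1
  rw [pow_one, pow_one] at h1
  rw [hl r, h1]
  clear h1 hl
  induction l with
  | nil =>
    simp only [powSum_nil, sub_self]
    exact memLocalIdeal_zero hM.2.1
  | cons a l ih =>
    have hc : ∀ μ : ℂ, powSum (a :: l) μ = μ ^ a + powSum l μ := by
      intro μ
      simp [powSum]
    rw [hc, hc, show (ζ ^ r) ^ a + powSum l (ζ ^ r) - (ζ ^ a + powSum l ζ) =
      ((ζ ^ r) ^ a - ζ ^ a) + (powSum l (ζ ^ r) - powSum l ζ) by ring]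
    apply memLocalIdeal_add hM.2.1 _ ih
    have hfac : (ζ ^ r) ^ a - ζ ^ a = ζ ^ a * ((ζ ^ a) ^ (r - 1) - 1) := by
      rw [mul_sub, mul_one, ← pow_succ', Nat.sub_add_cancel hr, ← pow_mul, ← pow_mul, mul_comm]
    rw [hfac]
    apply memLocalIdeal_mul_int hM.2.1 _ (IsIntegral.pow hζint a)
    have hεint : IsIntegral ℤ ((ζ ^ a) ^ (r - 1)) := IsIntegral.pow (IsIntegral.pow hζint a) _
    have hεpow : ((ζ ^ a) ^ (r - 1)) ^ (p ^ e) = 1 := by
      obtain ⟨c, hc⟩ := hcard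
      rw [← pow_mul, ← pow_mul, hc, mul_comm a, mul_assoc, pow_mul, hprim.pow_eq_one,
        one_pow]
    have hmem := root_sub_one_mem hM (⟨(ζ ^ a) ^ (r - 1), hεint⟩ : AlgInt) e
      (Subtype.ext (by push_cast; exact hεpow))
    have := memLocalIdeal_of_mem hM.2.1 hmem
    simpa using this

end Char

section ModP

/-- A rational algebraic integer is an integer. -/
theorem nat_dvd_of_isIntegral_div (a b : ℕ) (hb : b ≠ 0) (h : IsIntegral ℤ ((a : ℂ) / b)) :
    b ∣ a := by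
  have hq : ((a : ℂ) / b) = (((a : ℚ) / b : ℚ) : ℂ) := by push_cast; rfl
  rw [hq] at h
  have hint' : IsIntegral ℤ ((a : ℚ) / b) := by
    have := (isIntegral_algebraMap_iff (algebraMap ℚ ℂ).injective (R := ℤ)
      (x := ((a : ℚ) / b))).mp
    apply this
    simpa using h
  obtain ⟨z, hz⟩ := IsIntegrallyClosed.isIntegral_iff.mp hint'
  have hb0 : (b : ℚ) ≠ 0 := by exact_mod_cast hb
  have hz' : (a : ℚ) = z * b := by
    rw [eq_div_iff hb0] at hz
    simpa using hz.symm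
  have hz'' : (a : ℤ) = z * b := by exact_mod_cast hz'
  have : (b : ℤ) ∣ (a : ℤ) := ⟨z, by rw [hz'', mul_comm]⟩
  exact_mod_cast this

/-- divisibility by `p` in the ring of algebraic integers, for complex numbers -/
def DvdP (p : ℕ) (z : ℂ) : Prop := ∃ γ : AlgInt, z = (p : ℂ) * (γ : ℂ)

theorem dvdP_zero (p : ℕ) : DvdP p 0 := ⟨0, by simp⟩

theorem dvdP_add {p : ℕ} {z w : ℂ} (hz : DvdP p z) (hw : DvdP p w) : DvdP p (z + w) := by
  obtain ⟨a, rfl⟩ := hz
  obtain ⟨b, rfl⟩ := hw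
  exact ⟨a + b, by push_cast; ring⟩

theorem dvdP_mul_int {p : ℕ} {z : ℂ} (hz : DvdP p z) {w : ℂ} (hw : IsIntegral ℤ w) :
    DvdP p (w * z) := by
  obtain ⟨a, rfl⟩ := hz
  exact ⟨(⟨w, hw⟩ : AlgInt) * a, by push_cast; ring⟩

theorem dvdP_neg {p : ℕ} {z : ℂ} (hz : DvdP p z) : DvdP p (-z) := by
  have := dvdP_mul_int hz (w := -1) (IsIntegral.neg isIntegral_one)
  simpa using this

theorem dvdP_sub {p : ℕ} {z w : ℂ} (hz : DvdP p z) (hw : DvdP p w) : DvdP p (z - w) := by
  rw [sub_eq_add_neg]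
  exact dvdP_add hz (dvdP_neg hw)

theorem dvdP_sum {p : ℕ} {ι : Type*} (s : Finset ι) (f : ι → ℂ)
    (h : ∀ i ∈ s, DvdP p (f i)) : DvdP p (∑ i ∈ s, f i) := by
  classical
  induction s using Finset.induction_on with
  | empty => simpa using dvdP_zero p
  | insert a s ha ih =>
    rw [Finset.sum_insert ha]
    exact dvdP_add (h a (Finset.mem_insert_self a s))
      (ih (fun i hi => h i (Finset.mem_insert_of_mem hi)))

theorem nat_dvd_of_dvdP {p : ℕ} (hp : p ≠ 0) (n : ℕ) (h : DvdP p (n : ℂ)) : p ∣ n := by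
  obtain ⟨γ, hγ⟩ := h
  apply nat_dvd_of_isIntegral_div n p hp
  have hp0 : (p : ℂ) ≠ 0 := by exact_mod_cast hp
  have : (n : ℂ) / p = γ := by
    rw [hγ]; field_simp
  rw [this]
  exact γ.2

theorem p_nonunit {p : ℕ} (hp : p.Prime) : (p : AlgInt) ∈ nonunits AlgInt := by
  intro hu
  obtain ⟨u, hu'⟩ := hu.exists_right_inv
  have h1 : (p : ℂ) * (u : ℂ) = 1 := by
    have := congrArg (fun z : AlgInt => (z : ℂ)) hu'
    simpa using this
  have h2 : DvdP p ((1 : ℕ) : ℂ) := ⟨u, by rw [h1]; simp⟩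
  have := nat_dvd_of_dvdP hp.ne_zero 1 h2
  exact hp.one_lt.ne' (Nat.dvd_one.mp this)

theorem frobenius_list (p : ℕ) [hp : Fact p.Prime] (ζ : ℂ) (hζ : IsIntegral ℤ ζ) (l : List ℕ)
    (j : ℕ) : DvdP p ((powSum l ζ) ^ (p ^ j) - powSum l (ζ ^ (p ^ j))) := by
  haveI : CharP (AlgInt ⧸ (Ideal.span ({(p : AlgInt)} : Set AlgInt) : Ideal AlgInt)) p :=
    CharP.quotient AlgInt p (p_nonunit hp.1)
  set I : Ideal AlgInt := Ideal.span ({(p : AlgInt)} : Set AlgInt) with hI
  set ζ' : AlgInt := ⟨ζ, hζ⟩ with hζ'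
  have hcoe : ∀ μ : AlgInt, ((l.map (fun a => μ ^ a)).sum : AlgInt) = powSum l (μ : ℂ) := by
    intro μ
    unfold powSum
    induction l with
    | nil => simp
    | cons a l ih =>
      simp only [List.map_cons, List.sum_cons]
      rw [Subalgebra.coe_add, Subalgebra.coe_pow, ih]
  have hmk : Ideal.Quotient.mk I ((l.map (fun a => ζ' ^ a)).sum ^ (p ^ j)) =
      Ideal.Quotient.mk I ((l.map (fun a => (ζ' ^ (p ^ j)) ^ a)).sum) := by
    rw [map_pow, map_list_sum, map_list_sum, list_sum_pow_char_pow, List.map_map, List.map_map,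
      List.map_map]
    congr 1
    apply List.map_congr_left
    intro a _
    simp only [Function.comp, map_pow]
    rw [← pow_mul, ← pow_mul, mul_comm]
  rw [Ideal.Quotient.eq, hI, Ideal.mem_span_singleton] at hmk
  obtain ⟨γ, hγ⟩ := hmk
  refine ⟨γ, ?_⟩
  have := congrArg (Subtype.val) hγ
  rw [Subalgebra.coe_sub, Subalgebra.coe_pow, Subalgebra.coe_mul, hcoe ζ', hcoe (ζ' ^ (p ^ j)),
    Subalgebra.coe_pow] at this
  rw [this]
  simp

theorem char_frobenius {G : Type*} [Group G] [Finite G] (p : ℕ) [hp : Fact p.Prime] {χ : G → ℂ}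
    (hχ : IsCharacter G χ) (x : G) (j : ℕ) : DvdP p (χ x ^ (p ^ j) - χ (x ^ (p ^ j))) := by
  have hN : 0 < Nat.card G := Nat.card_pos
  obtain ⟨l, hl⟩ := char_pow_list hχ x (Nat.card G) hN pow_card_eq_one'
  set ζ := Complex.exp (2 * Real.pi * Complex.I / (Nat.card G : ℕ)) with hζ
  have hprim : IsPrimitiveRoot ζ (Nat.card G) := Complex.isPrimitiveRoot_exp _ hN.ne'
  have hζint : IsIntegral ℤ ζ := hprim.isIntegral hN
  have h1 := hl 1
  rw [pow_one, pow_one] at h1
  rw [hl (p ^ j), h1]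
  exact frobenius_list p ζ hζint l j

end ModP

end Cfsg.Agent.Lib.Helper2_ModM
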