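import Mathlib
import Cfsg.Prelude.Def_Characters
import Cfsg.Prelude.Def_Blocks
import Cfsg.Agent.Lib.Helper2_ClassFn
import Cfsg.Agent.Lib.Helper2_CharBasic
import Cfsg.Agent.Lib.Helper2_CharOrtho
import Cfsg.Agent.Lib.Helper2_CharValues
import Cfsg.Agent.Lib.Helper2_CharSum
import Cfsg.Agent.Lib.Helper2_CharCentral
import Cfsg.Agent.Lib.Helper2_ModM
import Cfsg.Agent.Lib.Helper2_CharInt
import Cfsg.Agent.Lib.Helper2_Clifford
import Cfsg.Agent.Lib.Helper2_CharMore
import Cfsg.Agent.Lib.Helper2_CharExtra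
import Cfsg.Agent.S0160

set_option autoImplicit false

/-!
# Elementary block theory through central characters
-/

namespace Cfsg.Agent.Lib.Helper2_Blocks

open Cfsg
open Cfsg.Agent.Lib.Helper2_ClassFn
open Cfsg.Agent.Lib.Helper2_CharBasic
open Cfsg.Agent.Lib.Helper2_CharOrtho
open Cfsg.Agent.Lib.Helper2_CharValues
open Cfsg.Agent.Lib.Helper2_CharSum
open Cfsg.Agent.Lib.Helper2_CharCentral
open Cfsg.Agent.Lib.Helper2_ModM
open Cfsg.Agent.Lib.Helper2_Clifford
open Cfsg.Agent.Lib.Helper2_CharMore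
open Cfsg.Agent.Lib.Helper2_CharExtra
open scoped ComplexConjugate

section LocalRing

variable {M : Ideal AlgInt}

theorem memLocalRing_of_isIntegral (hM : M.IsMaximal) {z : ℂ} (hz : IsIntegral ℤ z) :
    MemLocalRing M z :=
  ⟨⟨z, hz⟩, 1, one_not_mem hM, by simp⟩

theorem memLocalRing_of_ideal {z : ℂ} (h : MemLocalIdeal M z) : MemLocalRing M z := by
  obtain ⟨a, b, _, hb, h⟩ := h
  exact ⟨a, b, hb, h⟩

theorem memLocalRing_add (hM : M.IsMaximal) {z w : ℂ} (hz : MemLocalRing M z)
    (hw : MemLocalRing M w) : MemLocalRing M (z + w) := by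
  obtain ⟨a, b, hb, rfl⟩ := hz
  obtain ⟨a', b', hb', rfl⟩ := hw
  have hprime := hM.isPrime
  refine ⟨a * b' + a' * b, b * b', ?_, ?_⟩
  · intro h
    rcases hprime.mem_or_mem h with h | h
    · exact hb h
    · exact hb' h
  · have hb0 := coe_ne_zero_of_not_mem hb
    have hb0' := coe_ne_zero_of_not_mem hb'
    push_cast
    field_simp

theorem memLocalRing_mul (hM : M.IsMaximal) {z w : ℂ} (hz : MemLocalRing M z)
    (hw : MemLocalRing M w) : MemLocalRing M (z * w) := by
  obtain ⟨a, b, hb, rfl⟩ := hz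
  obtain ⟨a', b', hb', rfl⟩ := hw
  have hprime := hM.isPrime
  refine ⟨a * a', b * b', ?_, ?_⟩
  · intro h
    rcases hprime.mem_or_mem h with h | h
    · exact hb h
    · exact hb' h
  · have hb0 := coe_ne_zero_of_not_mem hb
    have hb0' := coe_ne_zero_of_not_mem hb'
    push_cast
    field_simp

theorem memLocalRing_neg (hM : M.IsMaximal) {z : ℂ} (hz : MemLocalRing M z) :
    MemLocalRing M (-z) := by
  have := memLocalRing_mul hM
    (memLocalRing_of_isIntegral hM (z := -1) (IsIntegral.neg isIntegral_one)) hz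
  simpa using this

theorem memLocalRing_sub (hM : M.IsMaximal) {z w : ℂ} (hz : MemLocalRing M z)
    (hw : MemLocalRing M w) : MemLocalRing M (z - w) := by
  rw [sub_eq_add_neg]
  exact memLocalRing_add hM hz (memLocalRing_neg hM hw)

theorem memLocalRing_zero (hM : M.IsMaximal) : MemLocalRing M 0 :=
  memLocalRing_of_isIntegral hM isIntegral_zero

theorem memLocalRing_one (hM : M.IsMaximal) : MemLocalRing M 1 :=
  memLocalRing_of_isIntegral hM isIntegral_one

theorem memLocalRing_sum (hM : M.IsMaximal) {ι : Type*} (s : Finset ι) (f : ι → ℂ)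
    (h : ∀ i ∈ s, MemLocalRing M (f i)) : MemLocalRing M (∑ i ∈ s, f i) := by
  classical
  induction s using Finset.induction_on with
  | empty => simpa using memLocalRing_zero hM
  | insert a s ha ih =>
    rw [Finset.sum_insert ha]
    exact memLocalRing_add hM (h a (Finset.mem_insert_self a s))
      (ih (fun i hi => h i (Finset.mem_insert_of_mem hi)))

theorem memLocalRing_prod (hM : M.IsMaximal) {ι : Type*} (s : Finset ι) (f : ι → ℂ)
    (h : ∀ i ∈ s, MemLocalRing M (f i)) : MemLocalRing M (∏ i ∈ s, f i) := by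
  classical
  induction s using Finset.induction_on with
  | empty => simpa using memLocalRing_one hM
  | insert a s ha ih =>
    rw [Finset.prod_insert ha]
    exact memLocalRing_mul hM (h a (Finset.mem_insert_self a s))
      (ih (fun i hi => h i (Finset.mem_insert_of_mem hi)))

theorem memLocalIdeal_mul_ring (hM : M.IsMaximal) {z w : ℂ} (hz : MemLocalIdeal M z)
    (hw : MemLocalRing M w) : MemLocalIdeal M (w * z) := by
  obtain ⟨a, b, ha, hb, rfl⟩ := hz
  obtain ⟨a', b', hb', rfl⟩ := hw
  have hprime := hM.isPrime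
  refine ⟨a' * a, b' * b, M.mul_mem_left _ ha, ?_, ?_⟩
  · intro h
    rcases hprime.mem_or_mem h with h | h
    · exact hb' h
    · exact hb h
  · have hb0 := coe_ne_zero_of_not_mem hb
    have hb0' := coe_ne_zero_of_not_mem hb'
    push_cast
    field_simp

theorem not_memLocalIdeal_one (_hM : M.IsMaximal) : ¬ MemLocalIdeal M 1 := by
  rintro ⟨a, b, ha, hb, h⟩
  have hb0 := coe_ne_zero_of_not_mem hb
  rw [div_eq_iff hb0, one_mul] at h
  have : a = b := Subtype.ext h
  exact hb (this ▸ ha)

theorem memLocalRing_inv (_hM : M.IsMaximal) {z : ℂ} (hz : MemLocalRing M z)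
    (hnz : ¬ MemLocalIdeal M z) : MemLocalRing M z⁻¹ := by
  obtain ⟨a, b, hb, rfl⟩ := hz
  have ha : a ∉ M := fun ha => hnz ⟨a, b, ha, hb, rfl⟩
  exact ⟨b, a, ha, by rw [inv_div]⟩

theorem memLocalRing_div (hM : M.IsMaximal) {z w : ℂ} (hz : MemLocalRing M z)
    (hw : MemLocalRing M w) (hnw : ¬ MemLocalIdeal M w) : MemLocalRing M (z / w) := by
  rw [div_eq_mul_inv]
  exact memLocalRing_mul hM hz (memLocalRing_inv hM hw hnw)

theorem memLocalIdeal_div (hM : M.IsMaximal) {z w : ℂ} (hz : MemLocalIdeal M z)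
    (hw : MemLocalRing M w) (hnw : ¬ MemLocalIdeal M w) : MemLocalIdeal M (z / w) := by
  rw [div_eq_mul_inv, mul_comm]
  exact memLocalIdeal_mul_ring hM hz (memLocalRing_inv hM hw hnw)

/-- An element congruent to `1` is a unit of the local ring. -/
theorem not_memLocalIdeal_of_sub_one (hM : M.IsMaximal) {z : ℂ} (h : MemLocalIdeal M (z - 1)) :
    ¬ MemLocalIdeal M z := by
  intro hz
  apply not_memLocalIdeal_one hM
  have := memLocalIdeal_sub hM hz h
  simpa using this

theorem memLocalRing_of_sub_one (hM : M.IsMaximal) {z : ℂ} (h : MemLocalIdeal M (z - 1)) :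
    MemLocalRing M z := by
  have := memLocalRing_add hM (memLocalRing_of_ideal h) (memLocalRing_one hM)
  simpa using this

theorem memLocalIdeal_mul_sub_one (hM : M.IsMaximal) {z w : ℂ} (hz : MemLocalIdeal M (z - 1))
    (hw : MemLocalIdeal M (w - 1)) : MemLocalIdeal M (z * w - 1) := by
  have h1 : z * w - 1 = w * (z - 1) + (w - 1) := by ring
  rw [h1]
  exact memLocalIdeal_add hM (memLocalIdeal_mul_ring hM hz (memLocalRing_of_sub_one hM hw)) hw

theorem memLocalIdeal_prod_sub_one (hM : M.IsMaximal) {ι : Type*} (s : Finset ι) (f : ι → ℂ)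
    (h : ∀ i ∈ s, MemLocalIdeal M (f i - 1)) : MemLocalIdeal M (∏ i ∈ s, f i - 1) := by
  classical
  induction s using Finset.induction_on with
  | empty => simpa using memLocalIdeal_zero hM
  | insert a s ha ih =>
    rw [Finset.prod_insert ha]
    exact memLocalIdeal_mul_sub_one hM (h a (Finset.mem_insert_self a s))
      (ih (fun i hi => h i (Finset.mem_insert_of_mem hi)))

theorem isIntegral_nat (n : ℕ) : IsIntegral ℤ (n : ℂ) := by
  have := (isIntegral_algebraMap (R := ℤ) (A := ℂ) (x := (n : ℤ)))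
  simpa using this

theorem memLocalRing_natCast_inv {p : ℕ} (hM : IsPModular p M) (n : ℕ) (hn : n.Coprime p) :
    MemLocalRing M ((n : ℂ)⁻¹) :=
  memLocalRing_inv hM.2.1 (memLocalRing_of_isIntegral hM.2.1 (isIntegral_nat n))
    (not_memLocalIdeal_nat hM n hn)

end LocalRing


section Group

universe u

variable {G : Type u} [Group G] [Fintype G] {M : Ideal AlgInt}

/-- Membership of a function in a set of irreducible characters. -/
def MemB (B : Set (IrrCharacter G)) (ψ : G → ℂ) : Prop :=
  ∃ h : IsIrrCharacter G ψ, (⟨ψ, h⟩ : IrrCharacter G) ∈ B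

theorem memB_coe (B : Set (IrrCharacter G)) (χ : IrrCharacter G) :
    MemB B (χ : G → ℂ) ↔ χ ∈ B := by
  constructor
  · rintro ⟨h, hm⟩
    exact hm
  · intro h
    exact ⟨χ.2, h⟩

open Classical in
theorem finsum_mem_eq_sum (B : Set (IrrCharacter G)) (F : (G → ℂ) → ℂ) :
    ∑ᶠ χ ∈ B, F (χ : G → ℂ) = ∑ ψ ∈ irrFinset G, if MemB B ψ then F ψ else 0 := by
  rw [finsum_mem_def]
  have := finsum_irr_eq_sum (G := G) (fun ψ => if MemB B ψ then F ψ else 0)
  rw [← this]
  refine finsum_congr fun χ => ?_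
  rw [Set.indicator_apply]
  simp only [memB_coe]

open Classical in
theorem index_centralizer_eq (g : G) : (Subgroup.centralizer ({g} : Set G)).index
    = (Finset.univ.filter (fun x : G => IsConj x g)).card := by
  have h1 := card_class_mul_card_centralizer g
  have h2 := Subgroup.index_mul_card (Subgroup.centralizer ({g} : Set G))
  have h3 : 0 < Nat.card (Subgroup.centralizer ({g} : Set G)) := Nat.card_pos
  exact Nat.eq_of_mul_eq_mul_right h3 (h2.trans h1.symm)

theorem centralChar_conj (χ : G → ℂ) (hχ : IsClassFunction G χ) (g h : G) :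
    centralChar χ (h * g * h⁻¹) = centralChar χ g := by
  classical
  unfold centralChar
  rw [hχ g h, index_centralizer_eq, index_centralizer_eq]
  have hset : (Finset.univ.filter (fun x : G => IsConj x (h * g * h⁻¹)))
      = Finset.univ.filter (fun x : G => IsConj x g) := by
    ext x
    simp only [Finset.mem_filter, Finset.mem_univ, true_and]
    have hc : IsConj (h * g * h⁻¹) g := (isConj_iff.mpr ⟨h, rfl⟩ : IsConj g (h * g * h⁻¹)).symm
    exact ⟨fun hx => hx.trans hc, fun hx => hx.trans hc.symm⟩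
  rw [hset]

/-- The value of the central character of `χ` on the central element `∑ z(g) g`. -/
noncomputable def om (χ z : G → ℂ) : ℂ := (∑ g : G, z g * χ g) / χ 1

theorem isConj_out (g : G) : ∃ h : G, h * g * h⁻¹ = (ConjClasses.mk g).out := by
  have : ConjClasses.mk (ConjClasses.mk g).out = ConjClasses.mk g := Quotient.out_eq _
  have hc : IsConj g (ConjClasses.mk g).out := (ConjClasses.mk_eq_mk_iff_isConj.mp this).symm
  exact isConj_iff.mp hc

open Classical in
/-- Central characters of characters in the same block agree on the whole centre of the local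
group ring. -/
theorem om_sub_mem (hM : M.IsMaximal) {χ ψ : G → ℂ} (hχ : IsClassFunction G χ)
    (hψ : IsClassFunction G ψ) (h : SameBlock M χ ψ) {z : G → ℂ} (hz : IsClassFunction G z)
    (hzR : ∀ g, MemLocalRing M (z g)) : MemLocalIdeal M (om χ z - om ψ z) := by
  set F : ConjClasses G → ℂ := fun C => z C.out * (centralChar χ C.out - centralChar ψ C.out)
    with hF
  have key := Cfsg.Agent.S0160.sum_over_classes F
  have hterm : ∀ g : G, F (ConjClasses.mk g) /
      ((Finset.univ.filter (fun x : G => IsConj x g)).card : ℂ)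
      = z g * χ g / χ 1 - z g * ψ g / ψ 1 := by
    intro g
    obtain ⟨c, hc⟩ := isConj_out g
    rw [hF]
    simp only
    rw [← hc, hz g c, centralChar_conj χ hχ, centralChar_conj ψ hψ]
    unfold centralChar
    rw [index_centralizer_eq]
    have hpos : ((Finset.univ.filter (fun x : G => IsConj x g)).card : ℂ) ≠ 0 := by
      have : 0 < (Finset.univ.filter (fun x : G => IsConj x g)).card := by
        apply Finset.card_pos.mpr
        exact ⟨g, Finset.mem_filter.mpr ⟨Finset.mem_univ _, IsConj.refl g⟩⟩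
      exact_mod_cast this.ne'
    field_simp
  have hsum : om χ z - om ψ z = ∑ C : ConjClasses G, F C := by
    rw [← key]
    unfold om
    rw [Finset.sum_div, Finset.sum_div, ← Finset.sum_sub_distrib]
    exact Finset.sum_congr rfl fun g _ => (hterm g).symm
  rw [hsum]
  apply memLocalIdeal_sum hM
  intro C _
  exact memLocalIdeal_mul_ring hM (h C.out) (hzR C.out)

theorem blockCoeff_isClassFunction (B : Set (IrrCharacter G)) :
    IsClassFunction G (blockCoeff B) := by
  intro g h
  unfold blockCoeff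
  congr 1
  refine finsum_congr fun χ => ?_
  refine finsum_congr fun _ => ?_
  rw [IsCharacter.isClassFunction (IsIrrCharacter.isCharacter χ.2) g h]

open Classical in
theorem blockCoeff_eq (B : Set (IrrCharacter G)) (g : G) :
    blockCoeff B g = (Nat.card G : ℂ)⁻¹ *
      ∑ ψ ∈ irrFinset G, if MemB B ψ then ψ 1 * conj (ψ g) else 0 := by
  unfold blockCoeff
  rw [finsum_mem_eq_sum B (fun ψ => ψ 1 * conj (ψ g))]

open Classical in
/-- The central character of `ψ` takes the value `1` or `0` on the idempotent of `B`. -/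
theorem om_blockCoeff (B : Set (IrrCharacter G)) {ψ : G → ℂ} (hψ : IsIrrCharacter G ψ) :
    om ψ (blockCoeff B) = if MemB B ψ then 1 else 0 := by
  unfold om
  have h1 : ∑ g : G, blockCoeff B g * ψ g
      = ∑ φ ∈ irrFinset G, if MemB B φ then φ 1 * classInner ψ φ else 0 := by
    simp_rw [blockCoeff_eq, Finset.mul_sum, Finset.sum_mul]
    rw [Finset.sum_comm]
    refine Finset.sum_congr rfl fun φ _ => ?_
    split_ifs with hm
    · rw [classInner_def, Finset.mul_sum, Finset.mul_sum]
      refine Finset.sum_congr rfl fun g _ => ?_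
      ring
    · simp
  rw [h1]
  have hψ1 : ψ 1 ≠ 0 := by
    obtain ⟨n, hn, h⟩ := IsIrrCharacter.apply_one hψ
    rw [h]; exact_mod_cast hn.ne'
  have h2 : ∑ φ ∈ irrFinset G, (if MemB B φ then φ 1 * classInner ψ φ else 0)
      = if MemB B ψ then ψ 1 else 0 := by
    rw [Finset.sum_eq_single ψ]
    · rw [classInner_irr_self hψ, mul_one]
    · intro φ hφ hne
      rw [classInner_irr_of_ne hψ (mem_irrFinset.mp hφ) (Ne.symm hne)]
      simp
    · intro h
      exact absurd (mem_irrFinset.mpr hψ) h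
  rw [h2]
  split_ifs
  · exact div_self hψ1
  · exact zero_div _

/-- A set of characters whose idempotent has local-integral coefficients is a union of
blocks. -/
theorem mem_of_sameBlock (hM : M.IsMaximal) (A : Set (IrrCharacter G))
    (hA : ∀ g : G, MemLocalRing M (blockCoeff A g)) {χ ψ : IrrCharacter G} (hχ : χ ∈ A)
    (h : SameBlock M (χ : G → ℂ) (ψ : G → ℂ)) : ψ ∈ A := by
  classical
  have key := om_sub_mem hM (IsCharacter.isClassFunction (IsIrrCharacter.isCharacter χ.2))
    (IsCharacter.isClassFunction (IsIrrCharacter.isCharacter ψ.2)) h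
    (blockCoeff_isClassFunction A) hA
  rw [om_blockCoeff A χ.2, om_blockCoeff A ψ.2, if_pos ((memB_coe A χ).mpr hχ)] at key
  by_contra hψ
  rw [if_neg (fun hm => hψ ((memB_coe A ψ).mp hm)), sub_zero] at key
  exact not_memLocalIdeal_one hM key


/-! ### The algebra of central elements with local-integral coefficients -/

/-- The class function with prescribed central-character values `f`. -/
noncomputable def zf (f : (G → ℂ) → ℂ) (x : G) : ℂ :=
  (Nat.card G : ℂ)⁻¹ * ∑ ψ ∈ irrFinset G, f ψ * ψ 1 * conj (ψ x)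

/-- `f` is the central-character transform of an element of the centre of the local group
ring. -/
def InA (M : Ideal AlgInt) (f : (G → ℂ) → ℂ) : Prop := ∀ x : G, MemLocalRing M (zf f x)

theorem zf_congr {f g : (G → ℂ) → ℂ} (h : ∀ ψ ∈ irrFinset G, f ψ = g ψ) (x : G) :
    zf f x = zf g x := by
  unfold zf
  congr 1
  exact Finset.sum_congr rfl fun ψ hψ => by rw [h ψ hψ]

theorem InA.congr {f g : (G → ℂ) → ℂ} (hf : InA M f) (h : ∀ ψ ∈ irrFinset G, f ψ = g ψ) :
    InA M g := fun x => by
  rw [← zf_congr h x]; exact hf x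

theorem InA.add (hM : M.IsMaximal) {f g : (G → ℂ) → ℂ} (hf : InA M f) (hg : InA M g) :
    InA M (fun ψ => f ψ + g ψ) := fun x => by
  have : zf (fun ψ => f ψ + g ψ) x = zf f x + zf g x := by
    unfold zf
    rw [← mul_add, ← Finset.sum_add_distrib]
    congr 1
    exact Finset.sum_congr rfl fun ψ _ => by ring
  rw [this]
  exact memLocalRing_add hM (hf x) (hg x)

theorem InA.smul (hM : M.IsMaximal) {f : (G → ℂ) → ℂ} (hf : InA M f) {c : ℂ}
    (hc : MemLocalRing M c) : InA M (fun ψ => c * f ψ) := fun x => by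
  have : zf (fun ψ => c * f ψ) x = c * zf f x := by
    unfold zf
    simp only [Finset.mul_sum]
    exact Finset.sum_congr rfl fun ψ _ => by ring
  rw [this]
  exact memLocalRing_mul hM hc (hf x)

theorem InA.sub (hM : M.IsMaximal) {f g : (G → ℂ) → ℂ} (hf : InA M f) (hg : InA M g) :
    InA M (fun ψ => f ψ - g ψ) := by
  have h1 := InA.smul hM hg (memLocalRing_neg hM (memLocalRing_one hM))
  have h2 := InA.add hM hf h1
  refine h2.congr fun ψ _ => ?_
  ring

theorem zf_one [DecidableEq G] (x : G) : zf (fun _ : G → ℂ => (1 : ℂ)) x = if x = 1 then 1 else 0 := by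
  unfold zf
  have h1 : ∑ ψ ∈ irrFinset G, (1 : ℂ) * ψ 1 * conj (ψ x) = ∑ ψ ∈ irrFinset G, ψ x⁻¹ * ψ 1 := by
    refine Finset.sum_congr rfl fun ψ hψ => ?_
    rw [IsCharacter.apply_inv (IsIrrCharacter.isCharacter (mem_irrFinset.mp hψ))]
    ring
  rw [h1, sum_irr_mul_deg]
  have hG : (Nat.card G : ℂ) ≠ 0 := card_ne_zero_complex
  by_cases hx : x = 1
  · subst hx
    simp
  · rw [if_neg hx, if_neg (by simpa using hx), mul_zero]

theorem InA.one (hM : M.IsMaximal) : InA M (fun _ : G → ℂ => (1 : ℂ)) := fun x => by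
  classical
  rw [zf_one]
  split_ifs
  · exact memLocalRing_one hM
  · exact memLocalRing_zero hM

theorem InA.const (hM : M.IsMaximal) {c : ℂ} (hc : MemLocalRing M c) :
    InA M (fun _ : G → ℂ => c) := by
  have := InA.smul hM (InA.one (G := G) hM) hc
  refine this.congr fun ψ _ => ?_
  ring

/-- Generalized orthogonality relation. -/
theorem gen_orth {φ ψ : G → ℂ} (hφ : IsIrrCharacter G φ) (hψ : IsIrrCharacter G ψ) (x : G) :
    ∑ h : G, conj (φ h) * conj (ψ (h⁻¹ * x))
      = if φ = ψ then (Nat.card G : ℂ) * conj (ψ x) / ψ 1 else 0 := by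
  have hφc := IsIrrCharacter.isCharacter hφ
  have hψc := IsIrrCharacter.isCharacter hψ
  have h1 : ∑ h : G, conj (φ h) * conj (ψ (h⁻¹ * x))
      = conj (∑ h : G, φ h⁻¹ * ψ (h * x)) := by
    rw [map_sum]
    rw [← Equiv.sum_comp (Equiv.inv G)]
    refine Finset.sum_congr rfl fun h _ => ?_
    simp only [Equiv.inv_apply, inv_inv, map_mul]
  have hcf : IsClassFunction G (fun g => φ g⁻¹) := by
    intro g h
    have := IsCharacter.isClassFunction hφc g⁻¹ h
    simpa [mul_assoc] using this
  have h2 := sum_classFn_mul hψ hcf x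
  have h3 : ∑ g : G, φ g⁻¹ * ψ g = (Nat.card G : ℂ) * classInner ψ φ := by
    rw [classInner_def]
    have hG : (Nat.card G : ℂ) ≠ 0 := card_ne_zero_complex
    rw [← mul_assoc, mul_inv_cancel₀ hG, one_mul]
    refine Finset.sum_congr rfl fun g _ => ?_
    rw [IsCharacter.apply_inv hφc, mul_comm]
  rw [h1, h2, h3]
  obtain ⟨n, hn, hψ1⟩ := IsIrrCharacter.apply_one hψ
  by_cases he : φ = ψ
  · subst he
    rw [if_pos rfl, classInner_irr_self hφ, mul_one, map_div₀, map_mul, hψ1]
    simp
  · rw [if_neg he, classInner_irr_of_ne hψ hφ (Ne.symm he)]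
    simp

theorem zf_mul (f g : (G → ℂ) → ℂ) (x : G) :
    zf (fun ψ => f ψ * g ψ) x = ∑ h : G, zf f h * zf g (h⁻¹ * x) := by
  classical
  have hG : (Nat.card G : ℂ) ≠ 0 := card_ne_zero_complex
  have hR : ∑ h : G, zf f h * zf g (h⁻¹ * x)
      = (Nat.card G : ℂ)⁻¹ * (Nat.card G : ℂ)⁻¹ * ∑ φ ∈ irrFinset G, ∑ ψ ∈ irrFinset G,
        f φ * φ 1 * (g ψ * ψ 1) * ∑ h : G, conj (φ h) * conj (ψ (h⁻¹ * x)) := by
    have h1 : ∀ h : G, zf f h * zf g (h⁻¹ * x) = (Nat.card G : ℂ)⁻¹ * (Nat.card G : ℂ)⁻¹ *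
        ∑ φ ∈ irrFinset G, ∑ ψ ∈ irrFinset G,
          f φ * φ 1 * (g ψ * ψ 1) * (conj (φ h) * conj (ψ (h⁻¹ * x))) := by
      intro h
      unfold zf
      rw [mul_mul_mul_comm, Finset.sum_mul_sum]
      congr 1
      exact Finset.sum_congr rfl fun φ _ => Finset.sum_congr rfl fun ψ _ => by ring
    simp_rw [h1]
    rw [← Finset.mul_sum, Finset.sum_comm]
    congr 1
    refine Finset.sum_congr rfl fun φ _ => ?_
    rw [Finset.sum_comm]
    refine Finset.sum_congr rfl fun ψ _ => ?_
    rw [Finset.mul_sum]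
  rw [hR]
  unfold zf
  rw [mul_assoc]
  congr 1
  rw [Finset.mul_sum]
  refine Finset.sum_congr rfl fun φ hφ => ?_
  have hφi := mem_irrFinset.mp hφ
  rw [Finset.sum_eq_single φ]
  · rw [gen_orth hφi hφi, if_pos rfl]
    obtain ⟨n, hn, hφ1⟩ := IsIrrCharacter.apply_one hφi
    have hn0 : (n : ℂ) ≠ 0 := by exact_mod_cast hn.ne'
    rw [hφ1]
    field_simp
  · intro ψ hψ hne
    rw [gen_orth hφi (mem_irrFinset.mp hψ), if_neg (Ne.symm hne), mul_zero]
  · intro h
    exact absurd hφ h

theorem InA.mul (hM : M.IsMaximal) {f g : (G → ℂ) → ℂ} (hf : InA M f) (hg : InA M g) :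
    InA M (fun ψ => f ψ * g ψ) := fun x => by
  rw [zf_mul]
  exact memLocalRing_sum hM _ _ fun h _ => memLocalRing_mul hM (hf h) (hg _)

theorem InA.prod (hM : M.IsMaximal) {ι : Type*} (s : Finset ι) (f : ι → (G → ℂ) → ℂ)
    (h : ∀ i ∈ s, InA M (f i)) : InA M (fun ψ => ∏ i ∈ s, f i ψ) := by
  classical
  induction s using Finset.induction_on with
  | empty => simpa using InA.one (G := G) hM
  | insert a s ha ih =>
    have h1 := InA.mul hM (h a (Finset.mem_insert_self a s))
      (ih (fun i hi => h i (Finset.mem_insert_of_mem hi)))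
    refine h1.congr fun ψ _ => ?_
    rw [Finset.prod_insert ha]

open Classical in
theorem zf_centralChar (g₀ x : G) :
    zf (fun ψ => centralChar ψ g₀) x = if IsConj g₀ x then 1 else 0 := by
  unfold zf
  have h1 : ∑ ψ ∈ irrFinset G, centralChar ψ g₀ * ψ 1 * conj (ψ x)
      = ((Subgroup.centralizer ({g₀} : Set G)).index : ℂ) *
        ∑ ψ ∈ irrFinset G, ψ g₀ * conj (ψ x) := by
    rw [Finset.mul_sum]
    refine Finset.sum_congr rfl fun ψ hψ => ?_
    unfold centralChar
    obtain ⟨n, hn, hψ1⟩ := IsIrrCharacter.apply_one (mem_irrFinset.mp hψ)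
    have hn0 : (n : ℂ) ≠ 0 := by exact_mod_cast hn.ne'
    rw [hψ1]
    field_simp
  rw [h1, second_orthogonality']
  have hG : (Nat.card G : ℂ) ≠ 0 := card_ne_zero_complex
  split_ifs with hc
  · have h2 := Subgroup.index_mul_card (Subgroup.centralizer ({g₀} : Set G))
    have h3 : ((Subgroup.centralizer ({g₀} : Set G)).index : ℂ) *
        (Nat.card (Subgroup.centralizer ({g₀} : Set G)) : ℂ) = (Nat.card G : ℂ) := by
      exact_mod_cast h2
    rw [h3, inv_mul_cancel₀ hG]
  · simp

theorem InA.centralChar (hM : M.IsMaximal) (g₀ : G) : InA M (fun ψ => centralChar ψ g₀) :=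
  fun x => by
  classical
  rw [zf_centralChar]
  split_ifs
  · exact memLocalRing_one hM
  · exact memLocalRing_zero hM

open Classical in
theorem isIntegral_centralChar {χ : G → ℂ} (hχ : IsIrrCharacter G χ) (g : G) :
    IsIntegral ℤ (centralChar χ g) := by
  unfold centralChar
  rw [index_centralizer_eq]
  convert Cfsg.Agent.Lib.Helper2_CharInt.isIntegral_omega hχ g


open Classical in
/-- **Osima**: the indicator of a block is the transform of a central element with
local-integral coefficients. -/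
theorem osima (hM : M.IsMaximal) {χ₀ : G → ℂ} (hχ₀ : IsIrrCharacter G χ₀) :
    InA M (fun ψ => if SameBlock M χ₀ ψ then (1 : ℂ) else 0) := by
  have hsep : ∀ ψ : G → ℂ, ¬ SameBlock M χ₀ ψ →
      ∃ g : G, ¬ MemLocalIdeal M (centralChar χ₀ g - centralChar ψ g) := by
    intro ψ h
    unfold SameBlock at h
    push Not at h
    exact h
  choose! gsep hgsep using hsep
  set L : (G → ℂ) → (G → ℂ) → ℂ := fun ψ φ =>
    (centralChar φ (gsep ψ) - centralChar ψ (gsep ψ)) /
      (centralChar χ₀ (gsep ψ) - centralChar ψ (gsep ψ)) with hLdef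
  have huR : ∀ ψ, IsIrrCharacter G ψ →
      MemLocalRing M (centralChar χ₀ (gsep ψ) - centralChar ψ (gsep ψ)) := fun ψ hψi =>
    memLocalRing_sub hM (memLocalRing_of_isIntegral hM (isIntegral_centralChar hχ₀ _))
      (memLocalRing_of_isIntegral hM (isIntegral_centralChar hψi _))
  have hL : ∀ ψ ∈ irrFinset G, ¬ SameBlock M χ₀ ψ → InA M (L ψ) := by
    intro ψ hψ hns
    have hψi := mem_irrFinset.mp hψ
    have hu := hgsep ψ hns
    have h1 := InA.sub hM (InA.centralChar (M := M) hM (gsep ψ))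
      (InA.const (G := G) hM
        (memLocalRing_of_isIntegral hM (isIntegral_centralChar hψi (gsep ψ))))
    have h2 := InA.smul hM h1 (memLocalRing_inv hM (huR ψ hψi) hu)
    refine h2.congr fun φ _ => ?_
    simp only [hLdef]
    rw [div_eq_inv_mul]
  set S := (irrFinset G).filter (fun ψ => ¬ SameBlock M χ₀ ψ) with hS
  set z : (G → ℂ) → ℂ := fun φ => ∏ ψ ∈ S, L ψ φ with hzdef
  have hz : InA M z := InA.prod hM S L
    (fun ψ hψ => hL ψ (Finset.mem_filter.mp hψ).1 (Finset.mem_filter.mp hψ).2)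
  have hz0 : ∀ ψ ∈ irrFinset G, ¬ SameBlock M χ₀ ψ → z ψ = 0 := by
    intro ψ hψ hns
    apply Finset.prod_eq_zero (i := ψ) (Finset.mem_filter.mpr ⟨hψ, hns⟩)
    simp only [hLdef]
    rw [sub_self, zero_div]
  have hz1 : ∀ φ ∈ irrFinset G, SameBlock M χ₀ φ → MemLocalIdeal M (z φ - 1) := by
    intro φ hφ hs
    apply memLocalIdeal_prod_sub_one hM
    intro ψ hψ
    have hns := (Finset.mem_filter.mp hψ).2
    have hψi := mem_irrFinset.mp (Finset.mem_filter.mp hψ).1
    have hu := hgsep ψ hns
    have hne : centralChar χ₀ (gsep ψ) - centralChar ψ (gsep ψ) ≠ 0 :=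
      fun h0 => hu (h0 ▸ memLocalIdeal_zero hM)
    have : L ψ φ - 1 = (-(centralChar χ₀ (gsep ψ) - centralChar φ (gsep ψ))) /
        (centralChar χ₀ (gsep ψ) - centralChar ψ (gsep ψ)) := by
      simp only [hLdef]
      field_simp
      ring
    rw [this]
    exact memLocalIdeal_div hM (memLocalIdeal_neg hM (hs (gsep ψ))) (huR ψ hψi) hu
  set T := (irrFinset G).filter (fun ψ => SameBlock M χ₀ ψ) with hT
  set e : (G → ℂ) → ℂ := fun φ => 1 - ∏ χ' ∈ T, (1 - (z χ')⁻¹ * z φ) with hedef
  have he : InA M e := by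
    apply InA.sub hM (InA.one hM)
    apply InA.prod hM T (fun χ' φ => 1 - (z χ')⁻¹ * z φ)
    intro χ' hχ'
    have hm := Finset.mem_filter.mp hχ'
    have h1 := hz1 χ' hm.1 hm.2
    apply InA.sub hM (InA.one hM)
    exact InA.smul hM hz (memLocalRing_inv hM (memLocalRing_of_sub_one hM h1)
      (not_memLocalIdeal_of_sub_one hM h1))
  refine he.congr fun φ hφ => ?_
  by_cases hs : SameBlock M χ₀ φ
  · rw [if_pos hs]
    simp only [hedef]
    have hzne : z φ ≠ 0 := fun h0 =>
      not_memLocalIdeal_of_sub_one hM (hz1 φ hφ hs) (h0 ▸ memLocalIdeal_zero hM)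
    rw [Finset.prod_eq_zero (i := φ) (Finset.mem_filter.mpr ⟨hφ, hs⟩)
      (by rw [inv_mul_cancel₀ hzne, sub_self]), sub_zero]
  · rw [if_neg hs]
    simp only [hedef]
    rw [hz0 φ hφ hs]
    simp

open Classical in
theorem blockCoeff_blockOf (χ₀ : G → ℂ) (x : G) :
    blockCoeff (blockOf M χ₀) x
      = zf (fun ψ => if SameBlock M χ₀ ψ then (1 : ℂ) else 0) x := by
  rw [blockCoeff_eq]
  unfold zf
  congr 1
  refine Finset.sum_congr rfl fun ψ hψ => ?_
  have : MemB (blockOf M χ₀) ψ ↔ SameBlock M χ₀ ψ :=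
    ⟨fun ⟨_, hm⟩ => hm, fun h => ⟨mem_irrFinset.mp hψ, h⟩⟩
  simp only [this]
  split_ifs <;> ring

/-- **Osima's theorem**: the coefficients of a block idempotent are local integers. -/
theorem memLocalRing_blockCoeff (hM : M.IsMaximal) {χ₀ : G → ℂ} (hχ₀ : IsIrrCharacter G χ₀)
    (x : G) : MemLocalRing M (blockCoeff (blockOf M χ₀) x) := by
  rw [blockCoeff_blockOf]
  exact osima hM hχ₀ x


open Classical in
theorem om_eq_sum_classes {χ z : G → ℂ} (hχ : IsClassFunction G χ) (hz : IsClassFunction G z) :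
    om χ z = ∑ C : ConjClasses G, z C.out * centralChar χ C.out := by
  set F : ConjClasses G → ℂ := fun C => z C.out * centralChar χ C.out with hF
  have key := Cfsg.Agent.S0160.sum_over_classes F
  have hterm : ∀ g : G, F (ConjClasses.mk g) /
      ((Finset.univ.filter (fun x : G => IsConj x g)).card : ℂ) = z g * χ g / χ 1 := by
    intro g
    obtain ⟨c, hc⟩ := isConj_out g
    rw [hF]
    simp only
    rw [← hc, hz g c, centralChar_conj χ hχ]
    unfold centralChar
    rw [index_centralizer_eq]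
    have hpos : ((Finset.univ.filter (fun x : G => IsConj x g)).card : ℂ) ≠ 0 := by
      have : 0 < (Finset.univ.filter (fun x : G => IsConj x g)).card := by
        apply Finset.card_pos.mpr
        exact ⟨g, Finset.mem_filter.mpr ⟨Finset.mem_univ _, IsConj.refl g⟩⟩
      exact_mod_cast this.ne'
    field_simp
  rw [← key]
  unfold om
  rw [Finset.sum_div]
  exact Finset.sum_congr rfl fun g _ => (hterm g).symm

theorem sameBlock_refl (hM : M.IsMaximal) (χ : G → ℂ) : SameBlock M χ χ := fun g => by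
  rw [sub_self]; exact memLocalIdeal_zero hM

/-- Every block has a defect class. -/
theorem exists_defectClass (hM : M.IsMaximal) (χ₀ : IrrCharacter G) :
    ∃ g : G, IsDefectClass M (blockOf M (χ₀ : G → ℂ)) g := by
  classical
  set B := blockOf M (χ₀ : G → ℂ) with hB
  have hχ₀ := χ₀.2
  have hmem : χ₀ ∈ B := sameBlock_refl hM _
  have h1 : om (χ₀ : G → ℂ) (blockCoeff B) = 1 := by
    rw [om_blockCoeff B hχ₀, if_pos ((memB_coe B χ₀).mpr hmem)]
  by_contra hcon
  push Not at hcon
  apply not_memLocalIdeal_one hM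
  rw [← h1, om_eq_sum_classes (IsCharacter.isClassFunction (IsIrrCharacter.isCharacter hχ₀))
    (blockCoeff_isClassFunction B)]
  apply memLocalIdeal_sum hM
  intro C _
  set g := C.out
  have hR : MemLocalRing M (blockCoeff B g) := memLocalRing_blockCoeff hM hχ₀ g
  have hcc : MemLocalRing M (centralChar (χ₀ : G → ℂ) g) :=
    memLocalRing_of_isIntegral hM (isIntegral_centralChar hχ₀ g)
  have hnd := hcon g
  unfold IsDefectClass at hnd
  by_cases ha : MemLocalIdeal M (blockCoeff B g)
  · rw [mul_comm]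
    exact memLocalIdeal_mul_ring hM ha hcc
  · have : ¬ ∀ χ ∈ B, ¬ MemLocalIdeal M (centralChar (χ : G → ℂ) g) := fun h => hnd ⟨hR, ha, h⟩
    push Not at this
    obtain ⟨χ, hχB, hχI⟩ := this
    have h2 : MemLocalIdeal M (centralChar (χ₀ : G → ℂ) g) := by
      have := memLocalIdeal_add hM (hχB g) hχI
      simpa using this
    exact memLocalIdeal_mul_ring hM h2 hR


/-! ### Normal subgroups of order prime to `p` -/

open Classical in
theorem sum_dite_mem (N : Subgroup G) [Fintype N] (F : N → ℂ) :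
    ∑ g : G, (if hg : g ∈ N then F ⟨g, hg⟩ else 0) = ∑ n : N, F n := by
  have h1 : ∑ n : N, F n
      = ∑ n : N, (fun g : G => if hg : g ∈ N then F ⟨g, hg⟩ else 0) (n : G) := by
    refine Finset.sum_congr rfl fun n _ => ?_
    simp only [dif_pos n.2]
  have h2 : ∑ n : N, (fun g : G => if hg : g ∈ N then F ⟨g, hg⟩ else 0) (n : G)
      = ∑ g ∈ Finset.univ.map ⟨fun n : N => (n : G), Subtype.val_injective⟩,
        (fun g : G => if hg : g ∈ N then F ⟨g, hg⟩ else 0) g := by
    rw [Finset.sum_map]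
    rfl
  rw [h1, h2]
  symm
  apply Finset.sum_subset (Finset.subset_univ _)
  intro g _ hg
  have : g ∉ N := by
    intro h
    apply hg
    exact Finset.mem_map.mpr ⟨⟨g, h⟩, Finset.mem_univ _, rfl⟩
  rw [dif_neg this]

open Classical in
/-- The `G`-orbit of `θ`, as a finset. -/
noncomputable def orbitFin (N : Subgroup G) [N.Normal] (θ : N → ℂ) : Finset (N → ℂ) :=
  Finset.univ.image (conjFn N θ)

theorem mem_orbitFin (N : Subgroup G) [N.Normal] (θ φ : N → ℂ) :
    φ ∈ orbitFin N θ ↔ ∃ x : G, conjFn N θ x = φ := by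
  classical
  unfold orbitFin
  simp

open Classical in
/-- The central idempotent attached to the `G`-orbit of `θ ∈ Irr(N)`, as a function on `G`. -/
noncomputable def orbitIdem (N : Subgroup G) [N.Normal] (θ : N → ℂ) : G → ℂ := fun g =>
  if hg : g ∈ N then
    (θ 1 / (Nat.card N : ℂ)) * ∑ φ ∈ orbitFin N θ, conj (φ ⟨g, hg⟩)
  else 0

open Classical in
theorem orbit_sum_eq (N : Subgroup G) [hN : N.Normal] (θ : N → ℂ) (F : (N → ℂ) → ℂ) :
    ∑ φ ∈ orbitFin N θ, F φ
      = ((Finset.univ.filter (fun x : G => conjFn N θ x = θ)).card : ℂ)⁻¹ *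
        ∑ x : G, F (conjFn N θ x) := by
  unfold orbitFin
  rw [sum_conjFn N θ F, nsmul_eq_mul, ← mul_assoc, inv_mul_cancel₀, one_mul]
  have : 0 < (Finset.univ.filter (fun x : G => conjFn N θ x = θ)).card := by
    apply Finset.card_pos.mpr
    exact ⟨1, Finset.mem_filter.mpr ⟨Finset.mem_univ _, conjFn_one N θ⟩⟩
  exact_mod_cast this.ne'

theorem orbitIdem_isClassFunction (N : Subgroup G) [hN : N.Normal] (θ : N → ℂ) :
    IsClassFunction G (orbitIdem N θ) := by
  classical
  intro g h
  unfold orbitIdem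
  by_cases hg : g ∈ N
  · have hg' : h * g * h⁻¹ ∈ N := hN.conj_mem g hg h
    rw [dif_pos hg, dif_pos hg']
    congr 1
    rw [orbit_sum_eq N θ (fun φ => conj (φ ⟨h * g * h⁻¹, hg'⟩)),
      orbit_sum_eq N θ (fun φ => conj (φ ⟨g, hg⟩))]
    congr 1
    refine Fintype.sum_equiv (Equiv.mulRight h) _ _ fun x => ?_
    simp only [conjFn_apply, Equiv.coe_mulRight]
    congr 2
    ext
    simp only [mul_inv_rev]
    group
  · have hg' : h * g * h⁻¹ ∉ N := by
      intro hc
      apply hg
      have := hN.conj_mem _ hc h⁻¹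
      simpa [mul_assoc] using this
    rw [dif_neg hg, dif_neg hg']

theorem orbitIdem_memLocalRing {p : ℕ} (hM : IsPModular p M) (N : Subgroup G) [hN : N.Normal]
    (hNp : (Nat.card N).Coprime p) {θ : N → ℂ} (hθ : IsIrrCharacter N θ) (g : G) :
    MemLocalRing M (orbitIdem N θ g) := by
  classical
  have hMm := hM.2.1
  unfold orbitIdem
  split_ifs with hg
  · apply memLocalRing_mul hMm
    · rw [div_eq_mul_inv]
      obtain ⟨n, _, h1⟩ := IsIrrCharacter.apply_one hθ
      rw [h1]
      exact memLocalRing_mul hMm (memLocalRing_of_isIntegral hMm (isIntegral_nat n))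
        (memLocalRing_natCast_inv hM _ hNp)
    · apply memLocalRing_sum hMm
      intro φ hφ
      obtain ⟨x, rfl⟩ := (mem_orbitFin N θ φ).mp hφ
      have hc := IsIrrCharacter.isCharacter (IsIrrCharacter.conjFn hθ x)
      rw [← IsCharacter.apply_inv hc]
      exact memLocalRing_of_isIntegral hMm (IsCharacter.isIntegral hc _)
  · exact memLocalRing_zero hMm

open Classical in
theorem om_orbitIdem (N : Subgroup G) [hN : N.Normal] [Fintype N] {θ : N → ℂ}
    (hθ : IsIrrCharacter N θ) {χ : G → ℂ} (hχ : IsIrrCharacter G χ) :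
    om χ (orbitIdem N θ) = if classInner (fun n : N => χ n) θ ≠ 0 then 1 else 0 := by
  have hχc := IsIrrCharacter.isCharacter hχ
  have hcard : (Nat.card N : ℂ) ≠ 0 := card_ne_zero_complex
  set t := (orbitFin N θ).card with ht
  have hsum : ∑ g : G, orbitIdem N θ g * χ g
      = θ 1 * (t : ℂ) * classInner (fun n : N => χ n) θ := by
    have h1 : ∑ g : G, orbitIdem N θ g * χ g = ∑ n : N, ((θ 1 / (Nat.card N : ℂ)) *
        ∑ φ ∈ orbitFin N θ, conj (φ n)) * χ n := by
      rw [← sum_dite_mem N (fun n : N => ((θ 1 / (Nat.card N : ℂ)) *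
        ∑ φ ∈ orbitFin N θ, conj (φ n)) * χ n)]
      refine Finset.sum_congr rfl fun g _ => ?_
      by_cases hg : g ∈ N
      · simp only [orbitIdem, dif_pos hg]
      · simp only [orbitIdem, dif_neg hg, zero_mul]
    rw [h1]
    have h2 : ∀ n : N, ((θ 1 / (Nat.card N : ℂ)) *
        ∑ φ ∈ orbitFin N θ, conj (φ n)) * χ n
        = ∑ φ ∈ orbitFin N θ,
          (θ 1 / (Nat.card N : ℂ)) * (χ n * conj (φ n)) := by
      intro n
      rw [Finset.mul_sum, Finset.sum_mul]
      exact Finset.sum_congr rfl fun φ _ => by ring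
    simp_rw [h2]
    rw [Finset.sum_comm]
    have h3 : ∀ φ ∈ orbitFin N θ,
        ∑ n : N, (θ 1 / (Nat.card N : ℂ)) * (χ n * conj (φ n))
          = θ 1 * classInner (fun n : N => χ n) θ := by
      intro φ hφ
      obtain ⟨x, rfl⟩ := (mem_orbitFin N θ φ).mp hφ
      rw [← classInner_restrict_conjFn N (IsCharacter.isClassFunction hχc) θ x, classInner_def,
        ← Finset.mul_sum]
      field_simp
    rw [Finset.sum_congr rfl h3, Finset.sum_const, nsmul_eq_mul]
    ring
  unfold om
  rw [hsum]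
  by_cases he : classInner (fun n : N => χ n) θ = 0
  · rw [he, if_neg (by simp)]
    simp
  · rw [if_pos he]
    have hcl : (fun n : N => χ n)
        = classInner (fun n : N => χ n) θ • ∑ ψ ∈ orbitFin N θ, ψ := by
      unfold orbitFin
      convert clifford N hχ hθ he
    have h1 := congrFun hcl 1
    simp only [Pi.smul_apply, Finset.sum_apply, smul_eq_mul] at h1
    have h2 : ∑ φ ∈ orbitFin N θ, φ 1 = (t : ℂ) * θ 1 := by
      rw [ht, ← nsmul_eq_mul, ← Finset.sum_const]
      refine Finset.sum_congr rfl fun φ hφ => ?_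
      obtain ⟨x, rfl⟩ := (mem_orbitFin N θ φ).mp hφ
      rw [conjFn_apply]
      congr 1
      ext
      simp
    rw [h2] at h1
    have hχ1 : χ 1 ≠ 0 := by
      obtain ⟨n, hn, h⟩ := IsIrrCharacter.apply_one hχ
      rw [h]; exact_mod_cast hn.ne'
    have h3 : χ 1 = θ 1 * (t : ℂ) * classInner (fun n : N => χ n) θ := by
      have : χ 1 = χ ((1 : N) : G) := by simp
      rw [this, h1]
      ring
    rw [← h3]
    exact div_self hχ1

/-- Characters in the same `p`-block lie over the same irreducible characters of a normal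
`p'`-subgroup. -/
theorem constituent_iff_of_sameBlock {p : ℕ} (hM : IsPModular p M) (N : Subgroup G) [hN : N.Normal]
    [Fintype N] (hNp : (Nat.card N).Coprime p) {χ ψ : G → ℂ} (hχ : IsIrrCharacter G χ)
    (hψ : IsIrrCharacter G ψ) (h : SameBlock M χ ψ) {θ : N → ℂ} (hθ : IsIrrCharacter N θ) :
    classInner (fun n : N => χ n) θ ≠ 0 ↔ classInner (fun n : N => ψ n) θ ≠ 0 := by
  classical
  have hMm := hM.2.1
  have key := om_sub_mem hMm (IsCharacter.isClassFunction (IsIrrCharacter.isCharacter hχ))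
    (IsCharacter.isClassFunction (IsIrrCharacter.isCharacter hψ)) h
    (orbitIdem_isClassFunction N θ) (orbitIdem_memLocalRing hM N hNp hθ)
  rw [om_orbitIdem N hθ hχ, om_orbitIdem N hθ hψ] at key
  by_cases h1 : classInner (fun n : N => χ n) θ ≠ 0
  · by_cases h2 : classInner (fun n : N => ψ n) θ ≠ 0
    · exact ⟨fun _ => h2, fun _ => h1⟩
    · rw [if_pos h1, if_neg h2, sub_zero] at key
      exact absurd key (not_memLocalIdeal_one hMm)
  · by_cases h2 : classInner (fun n : N => ψ n) θ ≠ 0
    · rw [if_neg h1, if_pos h2, zero_sub] at key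
      have := memLocalIdeal_neg hMm key
      rw [neg_neg] at this
      exact absurd this (not_memLocalIdeal_one hMm)
    · exact ⟨fun h => absurd h h1, fun h => absurd h h2⟩

end Group

end Cfsg.Agent.Lib.Helper2_Blocks
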