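import Mathlib
import Cfsg.Prelude.Def_Characters
import Cfsg.Prelude.Def_Blocks
import Cfsg.Agent.Lib.Helper2_ClassFn
import Cfsg.Agent.Lib.Helper2_CharBasic
import Cfsg.Agent.Lib.Helper2_CharOrtho
import Cfsg.Agent.Lib.Helper2_CharValues
import Cfsg.Agent.Lib.Helper2_CharSum
import Cfsg.Agent.Lib.Helper2_CharCentral
import Cfsg.Agent.Lib.Helper2_ModM
import Cfsg.Agent.Lib.Helper2_Blocks

set_option autoImplicit false

/-!
# Weak block orthogonality

A module-free proof: a direct summand of a free module over the group ring of a cyclic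
`p`-group over the local ring has a character vanishing off the identity.
-/

namespace Cfsg.Agent.Lib.Helper2_BlockOrtho

open Cfsg
open Cfsg.Agent.Lib.Helper2_ClassFn
open Cfsg.Agent.Lib.Helper2_CharBasic
open Cfsg.Agent.Lib.Helper2_CharOrtho
open Cfsg.Agent.Lib.Helper2_CharValues
open Cfsg.Agent.Lib.Helper2_CharSum
open Cfsg.Agent.Lib.Helper2_CharCentral
open Cfsg.Agent.Lib.Helper2_ModM
open Cfsg.Agent.Lib.Helper2_Blocks
open scoped ComplexConjugate

section Matrices

variable {M : Ideal AlgInt}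

theorem det_one_add_ne_zero (hM : M.IsMaximal) {n : Type*} [Fintype n] [DecidableEq n]
    (N : Matrix n n ℂ) (hN : ∀ i j, MemLocalIdeal M (N i j)) : (1 + N).det ≠ 0 := by
  have hentry : ∀ i j, MemLocalRing M ((1 + N) i j) := by
    intro i j
    rw [Matrix.add_apply]
    apply memLocalRing_add hM _ (memLocalRing_of_ideal (hN i j))
    rw [Matrix.one_apply]
    split_ifs
    · exact memLocalRing_one hM
    · exact memLocalRing_zero hM
  have key : MemLocalIdeal M ((1 + N).det - 1) := by
    rw [Matrix.det_apply]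
    rw [← Finset.add_sum_erase Finset.univ _ (Finset.mem_univ (1 : Equiv.Perm n))]
    have h1 : Equiv.Perm.sign (1 : Equiv.Perm n) • ∏ i, (1 + N) ((1 : Equiv.Perm n) i) i
        = ∏ i, (1 + N) i i := by
      simp
    rw [h1, add_sub_right_comm]
    apply memLocalIdeal_add hM
    · apply memLocalIdeal_prod_sub_one hM
      intro i _
      rw [Matrix.add_apply, Matrix.one_apply_eq, add_sub_cancel_left]
      exact hN i i
    · apply memLocalIdeal_sum hM
      intro σ hσ
      have hσ1 : σ ≠ 1 := (Finset.mem_erase.mp hσ).1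
      obtain ⟨i, hi⟩ : ∃ i, σ i ≠ i := by
        by_contra hcon
        push Not at hcon
        exact hσ1 (Equiv.ext hcon)
      have hprod : MemLocalIdeal M (∏ j, (1 + N) (σ j) j) := by
        rw [← Finset.mul_prod_erase Finset.univ _ (Finset.mem_univ i), mul_comm]
        apply memLocalIdeal_mul_ring hM
        · rw [Matrix.add_apply, Matrix.one_apply_ne hi, zero_add]
          exact hN _ _
        · exact memLocalRing_prod hM _ _ fun j _ => hentry _ _
      rcases Int.units_eq_one_or (Equiv.Perm.sign σ) with hs | hs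
      · rw [hs, one_smul]; exact hprod
      · rw [hs]
        simp only [Units.neg_smul, one_smul]
        exact memLocalIdeal_neg hM hprod
  intro h0
  rw [h0, zero_sub] at key
  have := memLocalIdeal_neg hM key
  rw [neg_neg] at this
  exact not_memLocalIdeal_one hM this

theorem trace_eq_of_idem_congr (hM : M.IsMaximal) {n : Type*} [Fintype n] [DecidableEq n]
    (A B : Matrix n n ℂ) (hA : A * A = A) (hB : B * B = B)
    (hBR : ∀ i j, MemLocalRing M (B i j)) (hD : ∀ i j, MemLocalIdeal M (A i j - B i j)) :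
    A.trace = B.trace := by
  set N : Matrix n n ℂ := (2 • B - 1) * (A - B) with hNdef
  have hN : ∀ i j, MemLocalIdeal M (N i j) := by
    intro i j
    rw [hNdef, Matrix.mul_apply]
    apply memLocalIdeal_sum hM
    intro k _
    apply memLocalIdeal_mul_ring hM
    · rw [Matrix.sub_apply]; exact hD k j
    · rw [Matrix.sub_apply, Matrix.smul_apply]
      apply memLocalRing_sub hM
      · rw [two_nsmul]; exact memLocalRing_add hM (hBR i k) (hBR i k)
      · rw [Matrix.one_apply]
        split_ifs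
        · exact memLocalRing_one hM
        · exact memLocalRing_zero hM
  set S : Matrix n n ℂ := 1 + N with hSdef
  have hdet : S.det ≠ 0 := det_one_add_ne_zero hM N hN
  have hS : S = B * A + (1 - B) * (1 - A) := by
    rw [hSdef, hNdef]
    have : (2 • B - 1) * (A - B) = 2 • (B * A) - 2 • (B * B) - A + B := by
      noncomm_ring
    rw [this, hB]
    noncomm_ring
  have hB0 : B * (1 - B) = 0 := by rw [mul_sub, mul_one, hB, sub_self]
  have hA0 : (1 - A) * A = 0 := by rw [sub_mul, one_mul, hA, sub_self]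
  have h1 : B * S = B * A := by
    rw [hS, mul_add, ← mul_assoc, hB, ← mul_assoc, hB0, zero_mul, add_zero]
  have h2 : S * A = B * A := by
    rw [hS, add_mul, mul_assoc, hA, mul_assoc, hA0, mul_zero, add_zero]
  have hunit : IsUnit S.det := isUnit_iff_ne_zero.mpr hdet
  have hinv : S⁻¹ * S = 1 := Matrix.nonsing_inv_mul S hunit
  have hinv' : S * S⁻¹ = 1 := Matrix.mul_nonsing_inv S hunit
  have h3 : A = S⁻¹ * (B * S) := by
    rw [h1, ← h2, ← mul_assoc, hinv, one_mul]
  rw [h3, Matrix.trace_mul_comm, mul_assoc, hinv', mul_one]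

end Matrices


section Main

variable {G : Type*} [Group G] [Fintype G] {M : Ideal AlgInt}

/-- Powers of `u` indexed by `ZMod q`. -/
def upow (q : ℕ) (u : G) (i : ZMod q) : G := u ^ i.val

theorem upow_add {q : ℕ} [NeZero q] {u : G} (hu : u ^ q = 1) (i j : ZMod q) :
    upow q u (i + j) = upow q u i * upow q u j := by
  unfold upow
  rw [ZMod.val_add, ← pow_add, ← pow_eq_pow_mod _ hu]

theorem upow_mem {q : ℕ} (u : G) (i : ZMod q) : upow q u i ∈ Subgroup.zpowers u :=
  Subgroup.pow_mem _ (Subgroup.mem_zpowers u) _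

theorem upow_injective {q : ℕ} [NeZero q] {u : G} (hu : orderOf u = q) :
    Function.Injective (upow q u) := by
  intro i j h
  unfold upow at h
  apply ZMod.val_injective q
  have hi : i.val < orderOf u := hu ▸ ZMod.val_lt i
  have hj : j.val < orderOf u := hu ▸ ZMod.val_lt j
  exact pow_injOn_Iio_orderOf hi hj h

theorem upow_comm {q : ℕ} (u : G) (i : ZMod q) : upow q u i * u = u * upow q u i := by
  unfold upow
  rw [← pow_succ, ← pow_succ']

/-- the parametrization of `G` by cosets of `⟨u⟩` and powers of `u`. -/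
noncomputable def cosetParam (q : ℕ) (u : G) :
    (G ⧸ Subgroup.zpowers u) × ZMod q → G := fun x => x.1.out * upow q u x.2

theorem cosetParam_bijective {q : ℕ} [NeZero q] {u : G} (hu : orderOf u = q) :
    Function.Bijective (cosetParam q u) := by
  classical
  haveI : Fintype (G ⧸ Subgroup.zpowers u) := Fintype.ofFinite _
  rw [Fintype.bijective_iff_injective_and_card]
  constructor
  · rintro ⟨t, i⟩ ⟨t', i'⟩ h
    unfold cosetParam at h
    simp only at h
    have h1 : (QuotientGroup.mk (t.out * upow q u i) : G ⧸ Subgroup.zpowers u) = t := by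
      rw [QuotientGroup.mk_mul_of_mem _ (upow_mem u i)]
      exact Quotient.out_eq' t
    have h2 : (QuotientGroup.mk (t'.out * upow q u i') : G ⧸ Subgroup.zpowers u) = t' := by
      rw [QuotientGroup.mk_mul_of_mem _ (upow_mem u i')]
      exact Quotient.out_eq' t'
    have ht : t = t' := by rw [← h1, ← h2, h]
    subst ht
    have hi : upow q u i = upow q u i' := mul_left_cancel h
    rw [upow_injective hu hi]
  · rw [Fintype.card_prod, ZMod.card, ← Nat.card_eq_fintype_card, ← Nat.card_eq_fintype_card]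
    have h1 := Subgroup.card_eq_card_quotient_mul_card_subgroup (Subgroup.zpowers u)
    rw [Nat.card_zpowers, hu] at h1
    exact h1.symm

theorem sum_cosetParam {q : ℕ} [NeZero q] {u : G} (hu : orderOf u = q)
    [Fintype (G ⧸ Subgroup.zpowers u)] (f : G → ℂ) :
    ∑ g : G, f g = ∑ t : G ⧸ Subgroup.zpowers u, ∑ i : ZMod q, f (t.out * upow q u i) := by
  rw [← Fintype.sum_prod_type']
  exact ((Equiv.ofBijective _ (cosetParam_bijective hu)).sum_comp f).symm


theorem geom_sum_root {q : ℕ} {w : ℂ} (hw : w ^ q = 1) (hne : w ≠ 1) :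
    ∑ j ∈ Finset.range q, w ^ j = 0 := by
  have h := geom_sum_mul w q
  rw [hw, sub_self] at h
  rcases mul_eq_zero.mp h with h | h
  · exact h
  · exact absurd (sub_eq_zero.mp h) hne

/-- **Main lemma**: an idempotent matrix with local-integral entries, indexed by `G` and
invariant under right translation by a non-trivial `p`-element `u`, has vanishing `u`-twisted
trace. -/
theorem main_lemma {p : ℕ} (hM : IsPModular p M) (u : G) (k : ℕ) (hk : 0 < k)
    (hu : orderOf u = p ^ k) (P : G → G → ℂ) (hPR : ∀ g h, MemLocalRing M (P g h))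
    (hPidem : ∀ g l, ∑ h, P g h * P h l = P g l)
    (hPinv : ∀ g h, P (g * u) (h * u) = P g h) :
    ∑ g, P g (g * u) = 0 := by
  classical
  have hMm := hM.2.1
  have hp := hM.1
  set q := p ^ k with hq
  have hq1 : 1 < q := Nat.one_lt_pow hk.ne' hp.one_lt
  haveI : NeZero q := ⟨by omega⟩
  haveI : Fact (1 < q) := ⟨hq1⟩
  haveI : Fintype (G ⧸ Subgroup.zpowers u) := Fintype.ofFinite _
  have huq : u ^ q = 1 := by rw [← hu]; exact pow_orderOf_eq_one u
  -- invariance under all powers
  have hinv : ∀ (i : ZMod q) (g h : G), P (g * upow q u i) (h * upow q u i) = P g h := by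
    intro i g h
    unfold upow
    induction i.val with
    | zero => simp
    | succ n ih => rw [pow_succ, ← mul_assoc, ← mul_assoc, hPinv, ih]
  -- the root of unity
  set ξ : ℂ := Complex.exp (2 * Real.pi * Complex.I / q) with hξ
  have hprim : IsPrimitiveRoot ξ q := Complex.isPrimitiveRoot_exp q (by omega)
  have hξq : ξ ^ q = 1 := hprim.pow_eq_one
  -- characters of the cyclic group
  set ch : ℕ → ZMod q → ℂ := fun j i => (ξ ^ j) ^ i.val with hch
  have hchq : ∀ j : ℕ, (ξ ^ j) ^ q = 1 := fun j => by rw [← pow_mul, mul_comm, pow_mul, hξq, one_pow]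
  have hch_add : ∀ j (i i' : ZMod q), ch j (i + i') = ch j i * ch j i' := by
    intro j i i'
    simp only [hch]
    rw [ZMod.val_add, ← pow_add, ← pow_eq_pow_mod _ (hchq j)]
  have hch0 : ∀ i, ch 0 i = 1 := fun i => by simp [hch]
  have hch_int : ∀ j i, IsIntegral ℤ (ch j i) := by
    intro j i
    refine ⟨Polynomial.X ^ q - 1, Polynomial.monic_X_pow_sub_C 1 (by omega), ?_⟩
    simp only [hch, Polynomial.eval₂_sub, Polynomial.eval₂_pow, Polynomial.eval₂_X,
      Polynomial.eval₂_one]
    rw [← pow_mul, mul_comm, pow_mul, hchq j, one_pow, sub_self]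
  have hch_cong : ∀ j i, MemLocalIdeal M (ch j i - 1) := by
    intro j i
    have h1 : (⟨ch j i, hch_int j i⟩ : AlgInt) ^ (p ^ k) = 1 := by
      apply Subtype.ext
      push_cast
      simp only [hch]
      rw [← pow_mul, mul_comm, pow_mul, hchq j, one_pow]
    have := memLocalIdeal_of_mem hMm (root_sub_one_mem hM _ k h1)
    simpa using this
  -- the matrices
  set F : ℕ → Matrix (G ⧸ Subgroup.zpowers u) (G ⧸ Subgroup.zpowers u) ℂ := fun j t t' =>
    ∑ i : ZMod q, ch j i * P t.out (t'.out * upow q u i) with hF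
  have hFidem : ∀ j, F j * F j = F j := by
    intro j
    ext t t''
    rw [Matrix.mul_apply]
    simp only [hF]
    have h1 : ∀ t' : G ⧸ Subgroup.zpowers u,
        (∑ i : ZMod q, ch j i * P t.out (t'.out * upow q u i)) *
          (∑ i' : ZMod q, ch j i' * P t'.out (t''.out * upow q u i'))
        = ∑ i : ZMod q, ∑ i'' : ZMod q, ch j i'' *
            (P t.out (t'.out * upow q u i) * P (t'.out * upow q u i) (t''.out * upow q u i'')) := by
      intro t'
      rw [Finset.sum_mul_sum]
      refine Finset.sum_congr rfl fun i _ => ?_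
      rw [← Equiv.sum_comp (Equiv.addRight i) (fun i'' => ch j i'' *
        (P t.out (t'.out * upow q u i) * P (t'.out * upow q u i) (t''.out * upow q u i'')))]
      refine Finset.sum_congr rfl fun i' _ => ?_
      simp only [Equiv.coe_addRight]
      rw [hch_add, upow_add huq, ← mul_assoc (t''.out), hinv i t'.out (t''.out * upow q u i')]
      ring
    rw [Finset.sum_congr rfl fun t' _ => h1 t']
    have h2 : ∑ t' : G ⧸ Subgroup.zpowers u, ∑ i : ZMod q, ∑ i'' : ZMod q, ch j i'' *
        (P t.out (t'.out * upow q u i) * P (t'.out * upow q u i) (t''.out * upow q u i''))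
        = ∑ i'' : ZMod q, ch j i'' * ∑ g : G, P t.out g * P g (t''.out * upow q u i'') := by
      have h3 : ∀ i'' : ZMod q, ∑ g : G, P t.out g * P g (t''.out * upow q u i'')
          = ∑ t' : G ⧸ Subgroup.zpowers u, ∑ i : ZMod q,
            P t.out (t'.out * upow q u i) * P (t'.out * upow q u i) (t''.out * upow q u i'') :=
        fun i'' => sum_cosetParam hu (fun g => P t.out g * P g (t''.out * upow q u i''))
      simp_rw [h3, Finset.mul_sum]
      symm
      rw [Finset.sum_comm]
      refine Finset.sum_congr rfl fun t' _ => ?_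
      rw [Finset.sum_comm]
    rw [h2]
    refine Finset.sum_congr rfl fun i'' _ => ?_
    rw [hPidem]
  have hF0R : ∀ t t', MemLocalRing M (F 0 t t') := by
    intro t t'
    simp only [hF]
    apply memLocalRing_sum hMm
    intro i _
    rw [hch0, one_mul]
    exact hPR _ _
  have hFD : ∀ j t t', MemLocalIdeal M (F j t t' - F 0 t t') := by
    intro j t t'
    simp only [hF]
    rw [← Finset.sum_sub_distrib]
    apply memLocalIdeal_sum hMm
    intro i _
    rw [hch0, one_mul, ← sub_one_mul, mul_comm]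
    exact memLocalIdeal_mul_ring hMm (hch_cong j i) (hPR _ _)
  have htr : ∀ j, (F j).trace = (F 0).trace := fun j =>
    trace_eq_of_idem_congr hMm (F j) (F 0) (hFidem j) (hFidem 0) hF0R (hFD j)
  -- traces in terms of the twisted sums
  set pc : ZMod q → ℂ := fun i => ∑ t : G ⧸ Subgroup.zpowers u, P t.out (t.out * upow q u i)
    with hpc
  have htrF : ∀ j, (F j).trace = ∑ i : ZMod q, ch j i * pc i := by
    intro j
    have htr0 : (F j).trace = ∑ t, F j t t := rfl
    rw [htr0]
    simp only [hF, hpc]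
    rw [Finset.sum_comm]
    refine Finset.sum_congr rfl fun i _ => ?_
    rw [Finset.mul_sum]
  -- Fourier inversion
  have hinvprim : IsPrimitiveRoot ξ⁻¹ q := hprim.inv
  have hgeom : ∑ j ∈ Finset.range q, (ξ⁻¹) ^ j = 0 := hinvprim.geom_sum_eq_zero hq1
  have hξ0 : ξ ≠ 0 := hprim.ne_zero (by omega)
  have hfour : ∑ j ∈ Finset.range q, (ξ⁻¹) ^ j * (F j).trace = (q : ℂ) * pc 1 := by
    simp_rw [htrF, Finset.mul_sum]
    rw [Finset.sum_comm]
    rw [Finset.sum_eq_single (1 : ZMod q)]
    · have : ∀ j ∈ Finset.range q, (ξ⁻¹) ^ j * (ch j 1 * pc 1) = pc 1 := by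
        intro j _
        simp only [hch]
        rw [ZMod.val_one, pow_one, ← mul_assoc, ← mul_pow, inv_mul_cancel₀ hξ0, one_pow, one_mul]
      rw [Finset.sum_congr rfl this, Finset.sum_const, Finset.card_range, nsmul_eq_mul]
    · intro i _ hi
      have hw : ∀ j, (ξ⁻¹) ^ j * (ch j i * pc i) = (ξ ^ i.val * ξ⁻¹) ^ j * pc i := by
        intro j
        simp only [hch]
        rw [mul_pow, ← pow_mul, ← pow_mul, mul_comm j i.val]
        ring
      simp_rw [hw]
      rw [← Finset.sum_mul]
      have hne : ξ ^ i.val * ξ⁻¹ ≠ 1 := by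
        intro h1
        have h2 : ξ ^ i.val = ξ ^ 1 := by
          rw [pow_one]
          field_simp at h1
          exact h1
        have h3 := hprim.pow_inj (ZMod.val_lt i) hq1 h2
        apply hi
        apply ZMod.val_injective q
        rw [h3, ZMod.val_one]
      have hwq : (ξ ^ i.val * ξ⁻¹) ^ q = 1 := by
        rw [mul_pow, ← pow_mul, mul_comm i.val q, pow_mul, hξq, one_pow, inv_pow, hξq, inv_one,
          one_mul]
      rw [geom_sum_root hwq hne, zero_mul]
    · intro h
      exact absurd (Finset.mem_univ _) h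
  have hzero : (q : ℂ) * pc 1 = 0 := by
    rw [← hfour]
    simp_rw [htr]
    rw [← Finset.sum_mul, hgeom, zero_mul]
  have hq0 : (q : ℂ) ≠ 0 := by exact_mod_cast (by omega : q ≠ 0)
  have hpc1 : pc 1 = 0 := by
    rcases mul_eq_zero.mp hzero with h | h
    · exact absurd h hq0
    · exact h
  -- the twisted trace
  rw [sum_cosetParam hu (fun g => P g (g * u))]
  have h1 : ∀ (t : G ⧸ Subgroup.zpowers u) (i : ZMod q),
      P (t.out * upow q u i) (t.out * upow q u i * u) = P t.out (t.out * upow q u 1) := by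
    intro t i
    rw [mul_assoc, upow_comm, ← mul_assoc, hinv]
    unfold upow
    rw [ZMod.val_one, pow_one]
  simp_rw [h1]
  rw [Finset.sum_comm]
  simp only [Finset.sum_const, Finset.card_univ, nsmul_eq_mul]
  have : ∑ t : G ⧸ Subgroup.zpowers u, P t.out (t.out * upow q u 1) = pc 1 := rfl
  rw [this, hpc1, mul_zero]


theorem iterate_mod_of_id {α : Type*} {τ : α → α} {d : ℕ} (hτ : τ^[d] = id) (n : ℕ) :
    τ^[n % d] = τ^[n] := by
  conv_rhs => rw [← Nat.div_add_mod n d]
  rw [Function.iterate_add, Function.iterate_mul, hτ, Function.iterate_id, Function.id_comp]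

/-- The twisted version of the main lemma: a further operator `τ` of order prime to `p`
commuting with everything may be inserted. -/
theorem main_lemma_twisted {p : ℕ} (hM : IsPModular p M) (u : G) (k : ℕ) (hk : 0 < k)
    (hu : orderOf u = p ^ k) (E : G → G → ℂ) (hER : ∀ g h, MemLocalRing M (E g h))
    (hEidem : ∀ g l, ∑ h, E g h * E h l = E g l)
    (hEinv : ∀ g h, E (g * u) (h * u) = E g h)
    (τ : G → G) (d : ℕ) (hd : d.Coprime p) (hdpos : 0 < d) (hτd : τ^[d] = id)
    (hτu : ∀ g, τ (g * u) = τ g * u) (hτE : ∀ g h, E (τ g) (τ h) = E g h) :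
    ∑ g, E (τ g) (g * u) = 0 := by
  classical
  have hMm := hM.2.1
  haveI : NeZero d := ⟨by omega⟩
  set tp : ZMod d → G → G := fun i => τ^[i.val] with htp
  have htp_add : ∀ i i' : ZMod d, ∀ g, tp (i + i') g = tp i (tp i' g) := by
    intro i i' g
    simp only [htp]
    rw [ZMod.val_add, iterate_mod_of_id hτd, Function.iterate_add_apply]
  have htp0 : ∀ g, tp 0 g = g := by
    intro g
    simp [htp]
  have htpE : ∀ (i : ZMod d) g h, E (tp i g) (tp i h) = E g h := by
    intro i g h
    simp only [htp]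
    induction i.val with
    | zero => simp
    | succ n ih => rw [Function.iterate_succ_apply', Function.iterate_succ_apply', hτE, ih]
  have htpu : ∀ (i : ZMod d) g, tp i (g * u) = tp i g * u := by
    intro i g
    simp only [htp]
    induction i.val with
    | zero => simp
    | succ n ih => rw [Function.iterate_succ_apply', Function.iterate_succ_apply', ih, hτu]
  have htp_bij : ∀ i : ZMod d, Function.Bijective (tp i) := by
    intro i
    refine Function.bijective_iff_has_inverse.mpr ⟨tp (-i), fun g => ?_, fun g => ?_⟩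
    · rw [← htp_add, neg_add_cancel, htp0]
    · rw [← htp_add, add_neg_cancel, htp0]
  have htpE' : ∀ (i : ZMod d) h l, E (tp i h) l = E h (tp (-i) l) := by
    intro i h l
    have : l = tp i (tp (-i) l) := by rw [← htp_add, add_neg_cancel, htp0]
    conv_lhs => rw [this]
    rw [htpE]
  -- the root of unity
  set ω : ℂ := Complex.exp (2 * Real.pi * Complex.I / d) with hω
  have hprim : IsPrimitiveRoot ω d := Complex.isPrimitiveRoot_exp d (by omega)
  have hωd : ω ^ d = 1 := hprim.pow_eq_one
  have hω0 : ω ≠ 0 := hprim.ne_zero (by omega)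
  set ch : ℕ → ZMod d → ℂ := fun j i => (ω ^ j) ^ i.val with hch
  have hchd : ∀ j : ℕ, (ω ^ j) ^ d = 1 := fun j => by
    rw [← pow_mul, mul_comm, pow_mul, hωd, one_pow]
  have hch_add : ∀ j (i i' : ZMod d), ch j (i + i') = ch j i * ch j i' := by
    intro j i i'
    simp only [hch]
    rw [ZMod.val_add, ← pow_add, ← pow_eq_pow_mod _ (hchd j)]
  have hch_int : ∀ j i, IsIntegral ℤ (ch j i) := by
    intro j i
    refine ⟨Polynomial.X ^ d - 1, Polynomial.monic_X_pow_sub_C 1 (by omega), ?_⟩
    simp only [hch, Polynomial.eval₂_sub, Polynomial.eval₂_pow, Polynomial.eval₂_X,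
      Polynomial.eval₂_one]
    rw [← pow_mul, mul_comm, pow_mul, hchd j, one_pow, sub_self]
  have hdR : MemLocalRing M ((d : ℂ)⁻¹) := memLocalRing_natCast_inv hM d hd
  have hd0 : (d : ℂ) ≠ 0 := by exact_mod_cast (by omega : d ≠ 0)
  -- the eigen-idempotents
  set P : ℕ → G → G → ℂ := fun j g h =>
    (d : ℂ)⁻¹ * ∑ i : ZMod d, ch j i * E (tp i g) h with hP
  have hPR : ∀ j g h, MemLocalRing M (P j g h) := by
    intro j g h
    simp only [hP]
    apply memLocalRing_mul hMm hdR
    apply memLocalRing_sum hMm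
    intro i _
    exact memLocalRing_mul hMm (memLocalRing_of_isIntegral hMm (hch_int j i)) (hER _ _)
  have hPinv : ∀ j g h, P j (g * u) (h * u) = P j g h := by
    intro j g h
    simp only [hP]
    congr 1
    refine Finset.sum_congr rfl fun i _ => ?_
    rw [htpu, hEinv]
  have hPidem : ∀ j g l, ∑ h, P j g h * P j h l = P j g l := by
    intro j g l
    simp only [hP]
    have h1 : ∀ h : G, ((d : ℂ)⁻¹ * ∑ i : ZMod d, ch j i * E (tp i g) h) *
        ((d : ℂ)⁻¹ * ∑ i' : ZMod d, ch j i' * E (tp i' h) l)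
        = (d : ℂ)⁻¹ * (d : ℂ)⁻¹ * ∑ i : ZMod d, ∑ i' : ZMod d,
          ch j i * ch j i' * (E (tp i g) h * E h (tp (-i') l)) := by
      intro h
      rw [mul_mul_mul_comm, Finset.sum_mul_sum]
      congr 1
      refine Finset.sum_congr rfl fun i _ => Finset.sum_congr rfl fun i' _ => ?_
      rw [htpE' i' h l]
      ring
    simp_rw [h1]
    rw [← Finset.mul_sum, Finset.sum_comm]
    have h2 : ∀ i : ZMod d, ∑ h : G, ∑ i' : ZMod d,
        ch j i * ch j i' * (E (tp i g) h * E h (tp (-i') l))
        = ∑ i' : ZMod d, ch j (i + i') * E (tp (i + i') g) l := by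
      intro i
      rw [Finset.sum_comm]
      refine Finset.sum_congr rfl fun i' _ => ?_
      rw [← Finset.mul_sum, hEidem, hch_add]
      congr 1
      have : tp (i + i') g = tp i' (tp i g) := by rw [add_comm, htp_add]
      rw [this, htpE' i' (tp i g) l]
    simp_rw [h2]
    have h3 : ∀ i : ZMod d, ∑ i' : ZMod d, ch j (i + i') * E (tp (i + i') g) l
        = ∑ i'' : ZMod d, ch j i'' * E (tp i'' g) l := by
      intro i
      exact Equiv.sum_comp (Equiv.addLeft i) (fun i'' => ch j i'' * E (tp i'' g) l)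
    simp_rw [h3]
    rw [Finset.sum_const, Finset.card_univ, ZMod.card, nsmul_eq_mul]
    field_simp
  have hzero : ∀ j, ∑ g, P j g (g * u) = 0 := fun j =>
    main_lemma hM u k hk hu (P j) (hPR j) (hPidem j) (hPinv j)
  -- recombine
  have hτ1 : ∀ g, tp 1 g = τ g := by
    intro g
    simp only [htp]
    by_cases hd1 : d = 1
    · subst hd1
      have : τ = id := by simpa using hτd
      simp [this]
    · haveI : Fact (1 < d) := ⟨by omega⟩
      rw [ZMod.val_one]
      rfl
  have hcomb : ∀ g h : G, E (τ g) h = ∑ j ∈ Finset.range d, (ω ^ j)⁻¹ * P j g h := by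
    intro g h
    simp only [hP]
    have h1 : ∑ j ∈ Finset.range d, (ω ^ j)⁻¹ * ((d : ℂ)⁻¹ * ∑ i : ZMod d, ch j i * E (tp i g) h)
        = (d : ℂ)⁻¹ * ∑ i : ZMod d, (∑ j ∈ Finset.range d, (ω ^ i.val * ω⁻¹) ^ j) *
          E (tp i g) h := by
      have hL : ∀ j ∈ Finset.range d,
          (ω ^ j)⁻¹ * ((d : ℂ)⁻¹ * ∑ i : ZMod d, ch j i * E (tp i g) h)
          = ∑ i : ZMod d, (d : ℂ)⁻¹ * ((ω ^ i.val * ω⁻¹) ^ j * E (tp i g) h) := by
        intro j _
        rw [Finset.mul_sum, Finset.mul_sum]
        refine Finset.sum_congr rfl fun i _ => ?_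
        simp only [hch]
        rw [mul_pow, ← pow_mul, ← pow_mul, mul_comm j i.val, inv_pow]
        ring
      rw [Finset.sum_congr rfl hL, Finset.sum_comm, Finset.mul_sum]
      refine Finset.sum_congr rfl fun i _ => ?_
      rw [Finset.sum_mul, Finset.mul_sum]
    rw [h1, Finset.sum_eq_single (1 : ZMod d)]
    · have h2 : ω ^ (1 : ZMod d).val * ω⁻¹ = 1 := by
        by_cases hd1 : d = 1
        · subst hd1
          have : ω = 1 := by simpa using hωd
          rw [this]; simp
        · haveI : Fact (1 < d) := ⟨by omega⟩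
          rw [ZMod.val_one, pow_one, mul_inv_cancel₀ hω0]
      rw [h2, hτ1]
      simp only [one_pow, Finset.sum_const, Finset.card_range, nsmul_eq_mul, mul_one]
      field_simp
    · intro i _ hi
      have hne : ω ^ i.val * ω⁻¹ ≠ 1 := by
        intro h1
        have hd1 : 1 < d := by
          by_contra hcon
          have : d = 1 := by omega
          subst this
          exact hi (Subsingleton.elim _ _)
        have h2 : ω ^ i.val = ω ^ 1 := by
          rw [pow_one]
          field_simp at h1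
          exact h1
        have h3 := hprim.pow_inj (ZMod.val_lt i) hd1 h2
        apply hi
        apply ZMod.val_injective d
        haveI : Fact (1 < d) := ⟨hd1⟩
        rw [h3, ZMod.val_one]
      have hwd : (ω ^ i.val * ω⁻¹) ^ d = 1 := by
        rw [mul_pow, ← pow_mul, mul_comm i.val d, pow_mul, hωd, one_pow, inv_pow, hωd, inv_one,
          one_mul]
      rw [geom_sum_root hwd hne, zero_mul]
    · intro h
      exact absurd (Finset.mem_univ _) h
  simp_rw [hcomb]
  rw [Finset.sum_comm]
  apply Finset.sum_eq_zero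
  intro j _
  rw [← Finset.mul_sum, hzero, mul_zero]


/-- A `p`-singular element is a product of commuting `u` of order `p^k > 1` and `s` of order
prime to `p`. -/
theorem exists_p_decomp {p : ℕ} (hp : p.Prime) (y : G) (hy : p ∣ orderOf y) :
    ∃ (u s : G) (k m : ℕ), 0 < k ∧ orderOf u = p ^ k ∧ s ^ m = 1 ∧ m.Coprime p ∧ 0 < m ∧
      u * s = y ∧ Commute u s := by
  set n := orderOf y with hn
  have hn0 : n ≠ 0 := (orderOf_pos y).ne'
  set k := n.factorization p with hkdef
  set m := n / p ^ k with hmdef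
  have hnm : p ^ k * m = n := Nat.ordProj_mul_ordCompl_eq_self n p
  have hcop : Nat.Coprime p m := Nat.coprime_ordCompl hp hn0
  have hm0 : 0 < m := Nat.pos_of_ne_zero (by
    intro h0
    rw [h0, mul_zero] at hnm
    exact hn0 hnm.symm)
  have hpk0 : 0 < p ^ k := pow_pos hp.pos k
  obtain ⟨r, hr1, hr2, hr3⟩ := Cfsg.Agent.Lib.Helper2_PiSection.exists_crt_exp (p ^ k) m
    (Nat.Coprime.pow_left k hcop) (Nat.mul_pos hpk0 hm0)
  set s := y ^ r with hs
  set u := y * s⁻¹ with hudef
  have hsm : s ^ m = 1 := by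
    rw [hs, ← pow_mul]
    apply orderOf_dvd_iff_pow_eq_one.mp
    rw [← hn, ← hnm]
    exact Nat.mul_dvd_mul_right hr1 m
  have hcomm_ys : Commute y s := (Commute.refl y).pow_right r
  have hcomm : Commute u s := by
    rw [hudef]
    exact (hcomm_ys.mul_left (Commute.refl s).inv_left)
  have hupk : u ^ (p ^ k) = 1 := by
    rw [hudef, (hcomm_ys.inv_right).mul_pow, inv_pow, hs, ← pow_mul]
    rw [mul_inv_eq_one]
    rw [pow_eq_pow_iff_modEq, ← hn]
    obtain ⟨c, hc⟩ := hr2
    have hr' : r = 1 + m * c := by omega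
    rw [hr', ← hnm]
    have : (1 + m * c) * p ^ k = p ^ k + p ^ k * m * c := by ring
    rw [this]
    exact (Nat.modEq_iff_dvd' (by omega)).mpr (by simp)
  obtain ⟨k', hk'le, hk'⟩ := (Nat.dvd_prime_pow hp).mp (orderOf_dvd_of_pow_eq_one hupk)
  have hk'pos : 0 < k' := by
    by_contra hcon
    have hk0 : k' = 0 := by omega
    rw [hk0, pow_zero, orderOf_eq_one_iff] at hk'
    have hys : y = s := by
      have : y * s⁻¹ = 1 := hk'
      exact mul_inv_eq_one.mp this
    have : y ^ m = 1 := by rw [hys]; exact hsm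
    have hdvd : n ∣ m := orderOf_dvd_of_pow_eq_one this
    have : p ∣ m := hy.trans hdvd
    exact (Nat.Prime.coprime_iff_not_dvd hp).mp hcop this
  refine ⟨u, s, k', m, hk'pos, hk', hsm, hcop.symm, hm0, ?_, hcomm⟩
  rw [hudef, inv_mul_cancel_right]

theorem twisted_class_sum {p : ℕ} (hM : IsPModular p M) (a : G → ℂ)
    (ha_cf : IsClassFunction G a) (haR : ∀ g, MemLocalRing M (a g))
    (ha_idem : ∀ x, ∑ h, a h * a (h⁻¹ * x) = a x)
    (x y : G) (hx : ¬ p ∣ orderOf x) (hy : p ∣ orderOf y) :
    ∑ g, a (g⁻¹ * x⁻¹ * g * y) = 0 := by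
  have hp := hM.1
  obtain ⟨u, s, k, m, hk, hu, hsm, hmcop, hm0, hus, hcomm⟩ := exists_p_decomp hp y hy
  set d := orderOf x * m with hd
  have hdcop : d.Coprime p :=
    Nat.Coprime.mul_left ((Nat.Prime.coprime_iff_not_dvd hp).mpr hx).symm hmcop
  have hdpos : 0 < d := Nat.mul_pos (orderOf_pos x) hm0
  have hxd : x ^ d = 1 := by rw [hd, pow_mul, pow_orderOf_eq_one, one_pow]
  have hsd : s ^ d = 1 := by rw [hd, mul_comm, pow_mul, hsm, one_pow]
  set τ : G → G := fun g => x * g * s⁻¹ with hτ
  have hτiter : ∀ (i : ℕ) (g : G), τ^[i] g = x ^ i * g * (s ^ i)⁻¹ := by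
    intro i
    induction i with
    | zero => intro g; simp
    | succ n ih =>
      intro g
      rw [Function.iterate_succ_apply', ih, hτ]
      simp only
      rw [pow_succ', pow_succ, mul_inv_rev]
      group
  have hτd : τ^[d] = id := by
    funext g
    rw [hτiter, hxd, hsd]
    simp
  set E : G → G → ℂ := fun g h => a (g⁻¹ * h) with hE
  have hER : ∀ g h, MemLocalRing M (E g h) := fun g h => haR _
  have hEidem : ∀ g l, ∑ h, E g h * E h l = E g l := by
    intro g l
    simp only [hE]
    rw [← Equiv.sum_comp (Equiv.mulLeft g) (fun h => a (g⁻¹ * h) * a (h⁻¹ * l))]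
    simp only [Equiv.coe_mulLeft, inv_mul_cancel_left, mul_inv_rev]
    have := ha_idem (g⁻¹ * l)
    simp_rw [mul_assoc] at this ⊢
    exact this
  have hEinv : ∀ g h, E (g * u) (h * u) = E g h := by
    intro g h
    simp only [hE]
    have := ha_cf (g⁻¹ * h) u⁻¹
    rw [← this]
    congr 1
    group
  have hτu : ∀ g, τ (g * u) = τ g * u := by
    intro g
    simp only [hτ]
    have h1 : u * s⁻¹ = s⁻¹ * u := (hcomm.inv_right).eq
    calc x * (g * u) * s⁻¹ = x * g * (u * s⁻¹) := by group
      _ = x * g * (s⁻¹ * u) := by rw [h1]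
      _ = x * g * s⁻¹ * u := by group
  have hτE : ∀ g h, E (τ g) (τ h) = E g h := by
    intro g h
    simp only [hE, hτ]
    have := ha_cf (g⁻¹ * h) s
    rw [← this]
    congr 1
    group
  have key := main_lemma_twisted hM u k hk hu E hER hEidem hEinv τ d hdcop hdpos hτd hτu hτE
  rw [← key]
  refine Finset.sum_congr rfl fun g _ => ?_
  simp only [hE, hτ]
  have := ha_cf (g⁻¹ * x⁻¹ * g * y) s
  rw [← this]
  congr 1
  rw [← hus]
  have hsu : s * u = u * s := hcomm.eq.symm
  calc s * (g⁻¹ * x⁻¹ * g * (u * s)) * s⁻¹ = s * g⁻¹ * x⁻¹ * g * u := by group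
    _ = (x * g * s⁻¹)⁻¹ * (g * u) := by group

end Main

section WBO

universe u

variable {G : Type u} [Group G] [Fintype G] {M : Ideal AlgInt}

theorem blockCoeff_idem (χ₀ : G → ℂ) (x : G) :
    ∑ h, blockCoeff (blockOf M χ₀) h * blockCoeff (blockOf M χ₀) (h⁻¹ * x)
      = blockCoeff (blockOf M χ₀) x := by
  classical
  simp_rw [blockCoeff_blockOf]
  rw [← zf_mul]
  apply zf_congr
  intro ψ _
  split_ifs <;> simp

open Classical in
/-- **Weak block orthogonality.** -/
theorem weak_block_orthogonality {p : ℕ} (hM : IsPModular p M) {χ₀ : G → ℂ}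
    (hχ₀ : IsIrrCharacter G χ₀) (x y : G) (hx : ¬ p ∣ orderOf x) (hy : p ∣ orderOf y) :
    ∑ ψ ∈ irrFinset G, (if SameBlock M χ₀ ψ then ψ x * conj (ψ y) else 0) = 0 := by
  have key := twisted_class_sum hM (blockCoeff (blockOf M χ₀)) (blockCoeff_isClassFunction _)
    (memLocalRing_blockCoeff hM.2.1 hχ₀) (blockCoeff_idem χ₀) x y hx hy
  refine Eq.trans ?_ key
  simp_rw [blockCoeff_blockOf]
  unfold zf
  rw [← Finset.mul_sum, Finset.sum_comm]
  have hG : (Nat.card G : ℂ) ≠ 0 := card_ne_zero_complex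
  rw [Finset.mul_sum]
  refine Finset.sum_congr rfl fun ψ hψ => ?_
  have hψi := mem_irrFinset.mp hψ
  have hψc := IsIrrCharacter.isCharacter hψi
  have h1 : ∑ g : G, ψ (g⁻¹ * x⁻¹ * g * y) = (Nat.card G : ℂ) * ψ x⁻¹ * ψ y / ψ 1 := by
    rw [← sum_conj_mul hψi x⁻¹ y, ← Equiv.sum_comp (Equiv.inv G)]
    refine Finset.sum_congr rfl fun g _ => ?_
    simp
  obtain ⟨n, hn, hψ1⟩ := IsIrrCharacter.apply_one hψi
  have hn0 : (n : ℂ) ≠ 0 := by exact_mod_cast hn.ne'
  beta_reduce
  by_cases hs : SameBlock M χ₀ ψ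
  · simp only [if_pos hs]
    have h2 : ∑ g : G, (1 : ℂ) * ψ 1 * conj (ψ (g⁻¹ * x⁻¹ * g * y))
        = ψ 1 * conj (∑ g : G, ψ (g⁻¹ * x⁻¹ * g * y)) := by
      rw [map_sum, Finset.mul_sum]
      exact Finset.sum_congr rfl fun g _ => by ring
    rw [h2, h1, IsCharacter.apply_inv hψc, hψ1]
    simp only [map_div₀, map_mul, Complex.conj_natCast, Complex.conj_conj]
    field_simp
  · simp only [if_neg hs, zero_mul, Finset.sum_const_zero, mul_zero]

theorem memB_blockOf (χ₀ : G → ℂ) {ψ : G → ℂ} (hψ : ψ ∈ irrFinset G) :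
    MemB (blockOf M χ₀) ψ ↔ SameBlock M χ₀ ψ :=
  ⟨fun ⟨_, hm⟩ => hm, fun h => ⟨mem_irrFinset.mp hψ, h⟩⟩

/-- Weak block orthogonality, `finsum` form. -/
theorem wbo_finsum {p : ℕ} (hM : IsPModular p M) (χ₀ : IrrCharacter G) (x y : G)
    (hx : ¬ p ∣ orderOf x) (hy : p ∣ orderOf y) :
    ∑ᶠ χ ∈ blockOf M (χ₀ : G → ℂ), (χ : G → ℂ) x * conj ((χ : G → ℂ) y) = 0 := by
  classical
  rw [finsum_mem_eq_sum (blockOf M (χ₀ : G → ℂ)) (fun ψ => ψ x * conj (ψ y))]
  refine Eq.trans ?_ (weak_block_orthogonality hM χ₀.2 x y hx hy)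
  refine Finset.sum_congr rfl fun ψ hψ => ?_
  simp only [memB_blockOf (χ₀ : G → ℂ) hψ]

/-- The restriction to `p`-regular elements, extended by zero. -/
noncomputable def rp (p : ℕ) (χ : G → ℂ) : G → ℂ := fun y => by
  classical exact if p ∣ orderOf y then 0 else χ y

theorem rp_of_dvd {p : ℕ} {χ : G → ℂ} {y : G} (h : p ∣ orderOf y) : rp p χ y = 0 := by
  unfold rp; rw [if_pos h]

theorem rp_of_not_dvd {p : ℕ} {χ : G → ℂ} {y : G} (h : ¬ p ∣ orderOf y) : rp p χ y = χ y := by
  unfold rp; rw [if_neg h]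

open Classical in
/-- The block kernel `β(x,y) = ∑_{φ ∈ B} conj φ(x) φ(y)` vanishes when exactly one of `x`, `y`
is `p`-singular. -/
theorem block_kernel_zero {p : ℕ} (hM : IsPModular p M) {χ₀ : G → ℂ}
    (hχ₀ : IsIrrCharacter G χ₀) (x y : G)
    (h : (¬ p ∣ orderOf x ∧ p ∣ orderOf y) ∨ (p ∣ orderOf x ∧ ¬ p ∣ orderOf y)) :
    ∑ φ ∈ irrFinset G, (if SameBlock M χ₀ φ then conj (φ x) * φ y else 0) = 0 := by
  rcases h with ⟨hx, hy⟩ | ⟨hx, hy⟩
  · have := weak_block_orthogonality hM hχ₀ x y hx hy
    have h2 := congrArg conj this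
    rw [map_sum, map_zero] at h2
    refine Eq.trans ?_ h2
    refine Finset.sum_congr rfl fun φ _ => ?_
    split_ifs
    · rw [map_mul, Complex.conj_conj]
    · rw [map_zero]
  · have := weak_block_orthogonality hM hχ₀ y x hy hx
    refine Eq.trans ?_ this
    refine Finset.sum_congr rfl fun φ _ => ?_
    split_ifs
    · rw [mul_comm]
    · rfl

open Classical in
/-- For `χ` in the block of `χ₀`, the restriction of `χ` to `p`-regular elements lies in the
span of the block. -/
theorem rp_block_expansion {p : ℕ} (hM : IsPModular p M) {χ₀ : G → ℂ}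
    (hχ₀ : IsIrrCharacter G χ₀) {χ : G → ℂ} (hχ : IsIrrCharacter G χ) (hχB : SameBlock M χ₀ χ)
    (y : G) :
    rp p χ y = ∑ φ ∈ irrFinset G,
      (if SameBlock M χ₀ φ then classInner (rp p χ) φ * φ y else 0) := by
  have hG : (Nat.card G : ℂ) ≠ 0 := card_ne_zero_complex
  -- rewrite the right side through the block kernel
  have hR : ∑ φ ∈ irrFinset G, (if SameBlock M χ₀ φ then classInner (rp p χ) φ * φ y else 0)
      = (Nat.card G : ℂ)⁻¹ * ∑ x : G, rp p χ x *
        ∑ φ ∈ irrFinset G, (if SameBlock M χ₀ φ then conj (φ x) * φ y else 0) := by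
    simp_rw [Finset.mul_sum]
    rw [Finset.sum_comm]
    refine Finset.sum_congr rfl fun φ _ => ?_
    split_ifs
    · rw [classInner_def, Finset.mul_sum, Finset.sum_mul]
      refine Finset.sum_congr rfl fun x _ => ?_
      ring
    · simp
  rw [hR]
  by_cases hy : p ∣ orderOf y
  · rw [rp_of_dvd hy]
    symm
    rw [mul_eq_zero]
    right
    apply Finset.sum_eq_zero
    intro x _
    by_cases hx : p ∣ orderOf x
    · rw [rp_of_dvd hx, zero_mul]
    · rw [block_kernel_zero hM hχ₀ x y (Or.inl ⟨hx, hy⟩), mul_zero]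
  · rw [rp_of_not_dvd hy]
    have h1 : ∀ x : G, rp p χ x *
        ∑ φ ∈ irrFinset G, (if SameBlock M χ₀ φ then conj (φ x) * φ y else 0)
        = χ x * ∑ φ ∈ irrFinset G, (if SameBlock M χ₀ φ then conj (φ x) * φ y else 0) := by
      intro x
      by_cases hx : p ∣ orderOf x
      · rw [block_kernel_zero hM hχ₀ x y (Or.inr ⟨hx, hy⟩), mul_zero, mul_zero]
      · rw [rp_of_not_dvd hx]
    have h5 : ∑ x : G, χ x *
        ∑ φ ∈ irrFinset G, (if SameBlock M χ₀ φ then conj (φ x) * φ y else 0)
        = ∑ φ ∈ irrFinset G,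
          (if SameBlock M χ₀ φ then ((Nat.card G : ℂ) * classInner χ φ) * φ y else 0) := by
      simp_rw [Finset.mul_sum]
      rw [Finset.sum_comm]
      refine Finset.sum_congr rfl fun φ _ => ?_
      split_ifs
      · rw [classInner_def, ← mul_assoc, mul_inv_cancel₀ hG, one_mul, Finset.sum_mul]
        exact Finset.sum_congr rfl fun x _ => by ring
      · simp
    rw [Finset.sum_congr rfl (fun x _ => h1 x), h5, Finset.sum_eq_single χ]
    · rw [if_pos hχB, classInner_irr_self hχ, mul_one, ← mul_assoc, inv_mul_cancel₀ hG, one_mul]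
    · intro φ hφ hne
      split_ifs
      · rw [classInner_irr_of_ne hχ (mem_irrFinset.mp hφ) (Ne.symm hne)]
        simp
      · rfl
    · intro h
      exact absurd (mem_irrFinset.mpr hχ) h

open Classical in
/-- Characters in different blocks are orthogonal on `p`-regular elements. -/
theorem classInner_rp_eq_zero {p : ℕ} (hM : IsPModular p M) {χ₀ : G → ℂ}
    (hχ₀ : IsIrrCharacter G χ₀) {χ ψ : G → ℂ} (hχ : IsIrrCharacter G χ)
    (hχB : SameBlock M χ₀ χ) (hψ : IsIrrCharacter G ψ) (hψB : ¬ SameBlock M χ₀ ψ) :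
    classInner (rp p χ) ψ = 0 := by
  have hexp : rp p χ = ∑ φ ∈ irrFinset G,
      (if SameBlock M χ₀ φ then classInner (rp p χ) φ • φ else 0) := by
    funext y
    rw [rp_block_expansion hM hχ₀ hχ hχB y, Finset.sum_apply]
    refine Finset.sum_congr rfl fun φ _ => ?_
    split_ifs
    · rfl
    · rfl
  rw [hexp, classInner_sum_left]
  apply Finset.sum_eq_zero
  intro φ hφ
  split_ifs with hs
  · rw [classInner_smul_left, classInner_irr_of_ne (mem_irrFinset.mp hφ) hψ, mul_zero]
    intro he
    exact hψB (he ▸ hs)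
  · exact classInner_zero_left _

/-- A character vanishing on `p`-singular elements has degree divisible by the full power of
`p`. -/
theorem pow_dvd_of_vanish (p : ℕ) [hp : Fact p.Prime] {χ : G → ℂ} (hχ : IsCharacter G χ)
    (hv : ∀ y : G, p ∣ orderOf y → χ y = 0) (d : ℕ) (hd : χ 1 = d) :
    p ^ (Nat.card G).factorization p ∣ d := by
  classical
  obtain S : Sylow p G := default
  haveI : Fintype (S : Subgroup G) := Fintype.ofFinite _
  have hS := IsCharacter.restrict hχ (S : Subgroup G)
  obtain ⟨n, hn⟩ := IsCharacter.classInner_irr_nat hS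
    (isIrrCharacter_one (G := (S : Subgroup G)))
  rw [classInner_def] at hn
  have hcardS : Nat.card (S : Subgroup G) = p ^ (Nat.card G).factorization p :=
    Sylow.card_eq_multiplicity S
  have hsum : ∑ u : (S : Subgroup G), χ u * conj ((fun _ : (S : Subgroup G) => (1 : ℂ)) u)
      = (d : ℂ) := by
    rw [Finset.sum_eq_single (1 : (S : Subgroup G))]
    · simp [hd]
    · intro u _ hu
      have hne : (u : G) ≠ 1 := fun h => hu (Subtype.ext h)
      have h1 : orderOf (u : G) ∣ p ^ (Nat.card G).factorization p := by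
        rw [← hcardS, Subgroup.orderOf_coe]
        exact orderOf_dvd_natCard u
      obtain ⟨j, _, hj⟩ := (Nat.dvd_prime_pow hp.out).mp h1
      have hj0 : j ≠ 0 := by
        intro h0
        rw [h0, pow_zero, orderOf_eq_one_iff] at hj
        exact hne hj
      have hdvd : p ∣ orderOf (u : G) := by
        rw [hj]
        exact dvd_pow_self p hj0
      rw [hv _ hdvd, zero_mul]
    · intro h
      exact absurd (Finset.mem_univ _) h
  rw [hsum, hcardS] at hn
  have hp0 : ((p ^ (Nat.card G).factorization p : ℕ) : ℂ) ≠ 0 := by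
    exact_mod_cast (pow_pos hp.out.pos _).ne'
  have h2 : (d : ℂ) = ((p ^ (Nat.card G).factorization p * n : ℕ) : ℂ) := by
    push_cast at hn ⊢
    field_simp at hn
    rw [hn]
  have h3 : d = p ^ (Nat.card G).factorization p * n := by exact_mod_cast h2
  exact ⟨n, h3⟩

theorem charDegree_eq' {H : Type*} [Group H] {χ : H → ℂ} {n : ℕ} (h : χ 1 = n) :
    charDegree χ = n := by
  unfold charDegree; rw [h]; simp

/-- A character of `p`-defect zero is alone in its block. -/
theorem blockOf_eq_singleton_of_defect_zero {p : ℕ} [hp : Fact p.Prime] (hM : IsPModular p M)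
    (χ : IrrCharacter G) (hdz : ¬ p ∣ Nat.card G / charDegree (χ : G → ℂ)) :
    blockOf M (χ : G → ℂ) = {χ} := by
  classical
  have hMm := hM.2.1
  obtain ⟨d, hdpos, hd⟩ := IsIrrCharacter.apply_one χ.2
  have hdvd : d ∣ Nat.card G := Cfsg.Agent.Lib.Helper2_CharInt.degree_dvd_card χ.2 d hd
  rw [charDegree_eq' hd] at hdz
  set c := Nat.card G / d with hc
  have hdc : d * c = Nat.card G := Nat.mul_div_cancel' hdvd
  have hccop : c.Coprime p :=
    ((Nat.Prime.coprime_iff_not_dvd hp.out).mpr hdz).symm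
  have hA : ∀ g : G, MemLocalRing M (blockCoeff ({χ} : Set (IrrCharacter G)) g) := by
    intro g
    unfold blockCoeff
    rw [finsum_mem_singleton, hd, ← hdc]
    have hd0 : (d : ℂ) ≠ 0 := by exact_mod_cast hdpos.ne'
    have hc0 : (c : ℂ) ≠ 0 := by
      intro h0
      have : c = 0 := by exact_mod_cast h0
      rw [this, mul_zero] at hdc
      exact Nat.card_pos.ne' hdc.symm
    have : ((d * c : ℕ) : ℂ)⁻¹ * ((d : ℂ) * conj ((χ : G → ℂ) g))
        = (c : ℂ)⁻¹ * conj ((χ : G → ℂ) g) := by
      push_cast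
      field_simp
    rw [this]
    apply memLocalRing_mul hMm (memLocalRing_natCast_inv hM c hccop)
    have hcc := IsIrrCharacter.isCharacter χ.2
    rw [← IsCharacter.apply_inv hcc]
    exact memLocalRing_of_isIntegral hMm (IsCharacter.isIntegral hcc _)
  apply Set.eq_of_subset_of_subset
  · intro ψ hψ
    exact mem_of_sameBlock hMm {χ} hA (Set.mem_singleton χ) hψ
  · intro ψ hψ
    rw [Set.mem_singleton_iff] at hψ
    rw [hψ]
    exact sameBlock_refl hMm _

/-- A character alone in its block has `p`-defect zero. -/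
theorem defect_zero_of_blockOf_eq_singleton {p : ℕ} [hp : Fact p.Prime] (hM : IsPModular p M)
    (χ : IrrCharacter G) (hB : blockOf M (χ : G → ℂ) = {χ}) :
    ¬ p ∣ Nat.card G / charDegree (χ : G → ℂ) := by
  classical
  obtain ⟨d, hdpos, hd⟩ := IsIrrCharacter.apply_one χ.2
  have hdvd : d ∣ Nat.card G := Cfsg.Agent.Lib.Helper2_CharInt.degree_dvd_card χ.2 d hd
  rw [charDegree_eq' hd]
  have hd0 : (χ : G → ℂ) 1 ≠ 0 := by rw [hd]; exact_mod_cast hdpos.ne'
  have hv : ∀ y : G, p ∣ orderOf y → (χ : G → ℂ) y = 0 := by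
    intro y hy
    have h1 : ¬ p ∣ orderOf (1 : G) := by
      rw [orderOf_one]
      exact hp.out.one_lt.ne' ∘ Nat.dvd_one.mp
    have key := wbo_finsum hM χ 1 y h1 hy
    rw [hB, finsum_mem_singleton] at key
    rcases mul_eq_zero.mp key with h | h
    · exact absurd h hd0
    · simpa using h
  have hpow := pow_dvd_of_vanish p (IsIrrCharacter.isCharacter χ.2) hv d hd
  intro hpc
  have hdc : d * (Nat.card G / d) = Nat.card G := Nat.mul_div_cancel' hdvd
  have : p ^ ((Nat.card G).factorization p + 1) ∣ Nat.card G := by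
    rw [pow_succ]
    conv_rhs => rw [← hdc]
    exact Nat.mul_dvd_mul hpow hpc
  exact Nat.pow_succ_factorization_not_dvd Nat.card_pos.ne' hp.out this

end WBO

end Cfsg.Agent.Lib.Helper2_BlockOrtho
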