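import Mathlib
import Cfsg.Prelude.Def_Characters
import Cfsg.Prelude.Def_Blocks
import Cfsg.Prelude.Def_BlockRank
import Cfsg.Agent.Lib.Helper2_ClassFn
import Cfsg.Agent.Lib.Helper2_CharBasic
import Cfsg.Agent.Lib.Helper2_CharOrtho
import Cfsg.Agent.Lib.Helper2_CharValues
import Cfsg.Agent.Lib.Helper2_CharSum
import Cfsg.Agent.Lib.Helper2_CharInt
import Cfsg.Agent.Lib.Helper2_ModM
import Cfsg.Agent.Lib.Helper2_Blocks
import Cfsg.Agent.Lib.Helper2_BlockOrtho
import Cfsg.Agent.Lib.Helper2_BlockRank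

set_option autoImplicit false

/-!
# More on blocks: equivalence relation, defect zero and rank
-/

namespace Cfsg.Agent.Lib.Helper2_BlockMore

open Cfsg
open Cfsg.Agent.Lib.Helper2_ClassFn
open Cfsg.Agent.Lib.Helper2_CharBasic
open Cfsg.Agent.Lib.Helper2_CharOrtho
open Cfsg.Agent.Lib.Helper2_CharValues
open Cfsg.Agent.Lib.Helper2_CharSum
open Cfsg.Agent.Lib.Helper2_ModM
open Cfsg.Agent.Lib.Helper2_Blocks
open Cfsg.Agent.Lib.Helper2_BlockOrtho
open Cfsg.Agent.Lib.Helper2_BlockRank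
open scoped ComplexConjugate

universe u

section NoFin

variable {G : Type u} [Group G] {M : Ideal AlgInt}

theorem sameBlock_symm (hM : M.IsMaximal) {χ ψ : G → ℂ} (h : SameBlock M χ ψ) :
    SameBlock M ψ χ := by
  intro g
  have := memLocalIdeal_neg hM (h g)
  rwa [neg_sub] at this

theorem sameBlock_trans (hM : M.IsMaximal) {χ ψ φ : G → ℂ} (h1 : SameBlock M χ ψ)
    (h2 : SameBlock M ψ φ) : SameBlock M χ φ := by
  intro g
  have := memLocalIdeal_add hM (h1 g) (h2 g)
  rwa [sub_add_sub_cancel] at this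

theorem blockOf_eq_of_sameBlock (hM : M.IsMaximal) {χ₀ χ : G → ℂ} (h : SameBlock M χ₀ χ) :
    blockOf M χ = blockOf M χ₀ := by
  ext ψ
  constructor
  · intro hψ; exact sameBlock_trans hM h hψ
  · intro hψ; exact sameBlock_trans hM (sameBlock_symm hM h) hψ

theorem blockOf_eq_of_mem (hM : M.IsMaximal) {χ₀ : G → ℂ} {χ : IrrCharacter G}
    (h : χ ∈ blockOf M χ₀) : blockOf M (χ : G → ℂ) = blockOf M χ₀ :=
  blockOf_eq_of_sameBlock hM h

theorem self_mem_blockOf (hM : M.IsMaximal) (χ : IrrCharacter G) :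
    χ ∈ blockOf M (χ : G → ℂ) := fun g => by
  rw [sub_self]; exact memLocalIdeal_zero hM

end NoFin

variable {G : Type u} [Group G] [Fintype G] {M : Ideal AlgInt}

open Classical in
/-- General-monoid version of `finsum_mem_eq_sum`. -/
theorem sum_subtype_eq_sum {V : Type*} [AddCommMonoid V] (B : Set (IrrCharacter G))
    [Fintype ↥B] (F : (G → ℂ) → V) :
    ∑ i : ↥B, F ((i : IrrCharacter G) : G → ℂ)
      = ∑ ψ ∈ irrFinset G, if MemB B ψ then F ψ else 0 := by
  rw [← finsum_eq_sum_of_fintype, finsum_set_coe_eq_finsum_mem (s := B)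
    (f := fun χ : IrrCharacter G => F (χ : G → ℂ)), finsum_mem_def]
  have := finsum_irr_eq_sum (G := G) (fun ψ => if MemB B ψ then F ψ else 0)
  rw [← this]
  refine finsum_congr fun χ => ?_
  rw [Set.indicator_apply]
  simp only [memB_coe]

open Classical in
theorem sum_block_eq_sum_subtype {V : Type*} [AddCommMonoid V] (χ₀ : G → ℂ)
    [Fintype ↥(blockOf M χ₀)] (F : (G → ℂ) → V) :
    ∑ φ ∈ irrFinset G, (if SameBlock M χ₀ φ then F φ else 0)
      = ∑ i : ↥(blockOf M χ₀), F ((i : IrrCharacter G) : G → ℂ) := by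
  rw [sum_subtype_eq_sum]
  refine Finset.sum_congr rfl fun ψ hψ => ?_
  simp only [memB_blockOf χ₀ hψ]

/-- Degree facts for an irreducible character. -/
theorem exists_degree (χ : IrrCharacter G) :
    ∃ d c : ℕ, 0 < d ∧ (χ : G → ℂ) 1 = d ∧ charDegree (χ : G → ℂ) = d ∧ d * c = Nat.card G
      ∧ Nat.card G / d = c := by
  classical
  obtain ⟨d, hdpos, hd⟩ := IsIrrCharacter.apply_one χ.2
  have hdvd : d ∣ Nat.card G := Cfsg.Agent.Lib.Helper2_CharInt.degree_dvd_card χ.2 d hd
  exact ⟨d, Nat.card G / d, hdpos, hd, charDegree_eq' hd, Nat.mul_div_cancel' hdvd, rfl⟩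

/-- Full `p`-part in the degree from defect zero. -/
theorem factorization_degree_of_defect_zero {p : ℕ} [hp : Fact p.Prime] (χ : IrrCharacter G)
    (h : ¬ p ∣ Nat.card G / charDegree (χ : G → ℂ)) :
    (charDegree (χ : G → ℂ)).factorization p = (Nat.card G).factorization p := by
  obtain ⟨d, c, hdpos, hd, hcd, hdc, hc⟩ := exists_degree χ
  rw [hcd] at h ⊢
  rw [hc] at h
  have hc0 : c ≠ 0 := by
    rintro rfl
    exact h (dvd_zero _)
  rw [← hdc, Nat.factorization_mul hdpos.ne' hc0, Finsupp.add_apply,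
    Nat.factorization_eq_zero_of_not_dvd h, add_zero]

theorem defect_zero_of_factorization_le {p : ℕ} [hp : Fact p.Prime] (χ : IrrCharacter G)
    (h : (Nat.card G).factorization p ≤ (charDegree (χ : G → ℂ)).factorization p) :
    ¬ p ∣ Nat.card G / charDegree (χ : G → ℂ) := by
  obtain ⟨d, c, hdpos, hd, hcd, hdc, hc⟩ := exists_degree χ
  rw [hcd] at h ⊢
  rw [hc]
  intro hpc
  have h1 : p ^ (Nat.card G).factorization p ∣ d :=
    (hp.out.pow_dvd_iff_le_factorization hdpos.ne').mpr h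
  have h2 : p ^ ((Nat.card G).factorization p + 1) ∣ Nat.card G := by
    have h3 := mul_dvd_mul h1 hpc
    rw [hdc] at h3
    rwa [pow_succ]
  exact Nat.pow_succ_factorization_not_dvd Nat.card_pos.ne' hp.out h2

/-- Defect of a singleton. -/
theorem blockDefect_singleton {p : ℕ} [hp : Fact p.Prime] (χ : IrrCharacter G)
    (h : ¬ p ∣ Nat.card G / charDegree (χ : G → ℂ)) :
    blockDefect p ({χ} : Set (IrrCharacter G)) = 0 := by
  unfold blockDefect
  rw [Set.image_singleton, csInf_singleton, factorization_degree_of_defect_zero χ h,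
    Nat.sub_self]

/-- Block defect zero means the block is a singleton of a defect zero character. -/
theorem blockDefect_eq_zero_iff {p : ℕ} [hp : Fact p.Prime] (hM : IsPModular p M)
    (χ₀ : IrrCharacter G) :
    blockDefect p (blockOf M (χ₀ : G → ℂ)) = 0
      ↔ ¬ p ∣ Nat.card G / charDegree (χ₀ : G → ℂ) := by
  constructor
  · intro h
    unfold blockDefect at h
    rw [Nat.sub_eq_zero_iff_le] at h
    have hne : ((fun χ : IrrCharacter G => (charDegree (χ : G → ℂ)).factorization p) ''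
        blockOf M (χ₀ : G → ℂ)).Nonempty :=
      ⟨_, χ₀, self_mem_blockOf hM.2.1 χ₀, rfl⟩
    obtain ⟨χ₁, hχ₁, h1⟩ := Nat.sInf_mem hne
    rw [← h1] at h
    have hdz := defect_zero_of_factorization_le χ₁ h
    have hB1 := blockOf_eq_singleton_of_defect_zero hM χ₁ hdz
    rw [blockOf_eq_of_mem hM.2.1 hχ₁] at hB1
    have : χ₀ = χ₁ := by
      have := self_mem_blockOf hM.2.1 χ₀
      rw [hB1] at this
      exact this
    rw [this]
    exact hdz
  · intro h
    rw [blockOf_eq_singleton_of_defect_zero hM χ₀ h]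
    exact blockDefect_singleton χ₀ h

theorem rp_ne_zero (p : ℕ) [hp : Fact p.Prime] {χ : G → ℂ} (hχ : IsIrrCharacter G χ) :
    rp p χ ≠ 0 := by
  intro h
  have h1 : ¬ p ∣ orderOf (1 : G) := by
    rw [orderOf_one]
    exact hp.out.one_lt.ne' ∘ Nat.dvd_one.mp
  have := congrFun h 1
  rw [rp_of_not_dvd h1] at this
  obtain ⟨d, hdpos, hd⟩ := IsIrrCharacter.apply_one hχ
  rw [hd] at this
  simp only [Pi.zero_apply, Nat.cast_eq_zero] at this
  omega

theorem blockRank_singleton (p : ℕ) [hp : Fact p.Prime] (χ : IrrCharacter G) :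
    blockRank p ({χ} : Set (IrrCharacter G)) = 1 := by
  unfold blockRank
  rw [Set.image_singleton, pRegularPart_eq_rp]
  exact finrank_span_singleton (rp_ne_zero p χ.2)

theorem blockRank_le_card (p : ℕ) (B : Set (IrrCharacter G)) :
    blockRank p B ≤ Nat.card B := by
  classical
  unfold blockRank
  haveI : Fintype ↥B := Fintype.ofFinite _
  rw [Set.image_eq_range]
  refine le_trans (finrank_range_le_card _) ?_
  rw [Nat.card_eq_fintype_card]

/-- If the rank of a block equals its size, its characters vanish off the `p`-regular elements. -/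
theorem rp_eq_self_of_card_eq_rank {p : ℕ} [hp : Fact p.Prime] (hM : IsPModular p M)
    (χ₀ : IrrCharacter G)
    (h : Nat.card (blockOf M (χ₀ : G → ℂ)) = blockRank p (blockOf M (χ₀ : G → ℂ))) :
    rp p (χ₀ : G → ℂ) = (χ₀ : G → ℂ) := by
  classical
  haveI : Fintype ↥(blockOf M (χ₀ : G → ℂ)) := Fintype.ofFinite _
  set b : ↥(blockOf M (χ₀ : G → ℂ)) → (G → ℂ) :=
    fun i => pRegularPart p ((i : IrrCharacter G) : G → ℂ) with hb
  have hLI : LinearIndependent ℂ b := by
    rw [linearIndependent_iff_card_eq_finrank_span, ← Nat.card_eq_fintype_card, h]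
    unfold blockRank Set.finrank
    rw [Set.image_eq_range]
  have hs₀ : SameBlock M (χ₀ : G → ℂ) (χ₀ : G → ℂ) := sameBlock_refl hM.2.1 _
  let i₀ : ↥(blockOf M (χ₀ : G → ℂ)) := ⟨χ₀, hs₀⟩
  set c : ↥(blockOf M (χ₀ : G → ℂ)) → ℂ :=
    fun i => classInner (rp p (χ₀ : G → ℂ)) ((i : IrrCharacter G) : G → ℂ) with hc
  -- the expansion
  have h1 : rp p (χ₀ : G → ℂ) = ∑ i : ↥(blockOf M (χ₀ : G → ℂ)),
      c i • ((i : IrrCharacter G) : G → ℂ) := by
    have := blockProj_rp hM χ₀.2 χ₀.2 hs₀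
    rw [blockProj_apply, sum_block_eq_sum_subtype (χ₀ : G → ℂ)
      (fun φ => classInner (rp p (χ₀ : G → ℂ)) φ • φ)] at this
    exact this.symm
  have h2 : rp p (χ₀ : G → ℂ) = ∑ i : ↥(blockOf M (χ₀ : G → ℂ)), c i • b i := by
    have h3 := congrArg (rpL p) h1
    rw [map_sum] at h3
    have h4 : rpL p (rp p (χ₀ : G → ℂ)) = rp p (χ₀ : G → ℂ) := by
      funext y
      show rp p (rp p (χ₀ : G → ℂ)) y = _
      by_cases hy : p ∣ orderOf y
      · rw [rp_of_dvd hy, rp_of_dvd hy]
      · rw [rp_of_not_dvd hy]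
    rw [h4] at h3
    rw [h3]
    refine Finset.sum_congr rfl fun i _ => ?_
    rw [map_smul]
    show c i • rp p ((i : IrrCharacter G) : G → ℂ)
      = c i • pRegularPart p ((i : IrrCharacter G) : G → ℂ)
    rw [pRegularPart_eq_rp]
  have h5 : ∑ i : ↥(blockOf M (χ₀ : G → ℂ)), (c i - if i = i₀ then 1 else 0) • b i = 0 := by
    simp_rw [sub_smul]
    rw [Finset.sum_sub_distrib, ← h2]
    simp_rw [ite_smul, one_smul, zero_smul]
    rw [Finset.sum_ite_eq' Finset.univ i₀ b, if_pos (Finset.mem_univ _)]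
    show rp p (χ₀ : G → ℂ) - pRegularPart p (χ₀ : G → ℂ) = 0
    rw [pRegularPart_eq_rp, sub_self]
  have h6 := Fintype.linearIndependent_iff.mp hLI _ h5
  rw [h1]
  have h7 : ∀ i, c i = if i = i₀ then 1 else 0 := fun i => sub_eq_zero.mp (h6 i)
  simp_rw [h7, ite_smul, one_smul, zero_smul]
  rw [Finset.sum_ite_eq' Finset.univ i₀ (fun i => ((i : IrrCharacter G) : G → ℂ)),
    if_pos (Finset.mem_univ _)]

theorem defect_zero_of_card_eq_rank {p : ℕ} [hp : Fact p.Prime] (hM : IsPModular p M)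
    (χ₀ : IrrCharacter G)
    (h : Nat.card (blockOf M (χ₀ : G → ℂ)) = blockRank p (blockOf M (χ₀ : G → ℂ))) :
    ¬ p ∣ Nat.card G / charDegree (χ₀ : G → ℂ) := by
  have hrp := rp_eq_self_of_card_eq_rank hM χ₀ h
  obtain ⟨d, c, hdpos, hd, hcd, hdc, hc⟩ := exists_degree χ₀
  have hv : ∀ y : G, p ∣ orderOf y → (χ₀ : G → ℂ) y = 0 := by
    intro y hy
    rw [← hrp, rp_of_dvd hy]
  have hdvd := pow_dvd_of_vanish p (IsIrrCharacter.isCharacter χ₀.2) hv d hd
  apply defect_zero_of_factorization_le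
  rw [hcd]
  exact (hp.out.pow_dvd_iff_le_factorization hdpos.ne').mp hdvd

end Cfsg.Agent.Lib.Helper2_BlockMore
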