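import Mathlib
import Cfsg.Prelude.Def_Characters
import Cfsg.Prelude.Def_Blocks
import Cfsg.Prelude.Def_BlockRank
import Cfsg.Agent.Lib.Helper2_ClassFn
import Cfsg.Agent.Lib.Helper2_CharBasic
import Cfsg.Agent.Lib.Helper2_CharOrtho
import Cfsg.Agent.Lib.Helper2_CharValues
import Cfsg.Agent.Lib.Helper2_CharSum
import Cfsg.Agent.Lib.Helper2_ModM
import Cfsg.Agent.Lib.Helper2_Blocks
import Cfsg.Agent.Lib.Helper2_BlockOrtho

set_option autoImplicit false

/-!
# The `p`-regular rank of a block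
-/

namespace Cfsg.Agent.Lib.Helper2_BlockRank

open Cfsg
open Cfsg.Agent.Lib.Helper2_ClassFn
open Cfsg.Agent.Lib.Helper2_CharBasic
open Cfsg.Agent.Lib.Helper2_CharOrtho
open Cfsg.Agent.Lib.Helper2_CharValues
open Cfsg.Agent.Lib.Helper2_CharSum
open Cfsg.Agent.Lib.Helper2_ModM
open Cfsg.Agent.Lib.Helper2_Blocks
open Cfsg.Agent.Lib.Helper2_BlockOrtho
open scoped ComplexConjugate

universe u

variable {G : Type u} [Group G] [Fintype G] {M : Ideal AlgInt}

theorem pRegularPart_eq_rp (p : ℕ) (χ : G → ℂ) : pRegularPart p χ = rp p χ := by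
  classical
  funext g
  unfold pRegularPart rp IsPRegular
  by_cases h : p ∣ orderOf g
  · simp [h]
  · simp [h]

/-- `rp` as a linear map. -/
noncomputable def rpL (p : ℕ) : (G → ℂ) →ₗ[ℂ] (G → ℂ) where
  toFun f := rp p f
  map_add' f g := by
    classical
    funext y
    unfold rp
    simp only [Pi.add_apply]
    split_ifs <;> simp
  map_smul' c f := by
    classical
    funext y
    unfold rp
    simp only [Pi.smul_apply, RingHom.id_apply]
    split_ifs <;> simp

open Classical in
/-- The projection onto the span of the block of `χ₀`. -/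
noncomputable def blockProj (M : Ideal AlgInt) (χ₀ : G → ℂ) : (G → ℂ) →ₗ[ℂ] (G → ℂ) where
  toFun f := ∑ φ ∈ irrFinset G, (if SameBlock M χ₀ φ then classInner f φ • φ else 0)
  map_add' f g := by
    rw [← Finset.sum_add_distrib]
    refine Finset.sum_congr rfl fun φ _ => ?_
    split_ifs
    · rw [classInner_add_left, add_smul]
    · rw [add_zero]
  map_smul' c f := by
    rw [Finset.smul_sum]
    refine Finset.sum_congr rfl fun φ _ => ?_
    split_ifs
    · rw [classInner_smul_left, mul_smul, RingHom.id_apply]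
    · rw [smul_zero]

open Classical in
theorem blockProj_irr {χ₀ χ : G → ℂ} (hχ : IsIrrCharacter G χ) :
    blockProj M χ₀ χ = if SameBlock M χ₀ χ then χ else 0 := by
  show ∑ φ ∈ irrFinset G, (if SameBlock M χ₀ φ then classInner χ φ • φ else 0) = _
  rw [Finset.sum_eq_single χ]
  · split_ifs
    · rw [classInner_irr_self hχ, one_smul]
    · rfl
  · intro φ hφ hne
    split_ifs
    · rw [classInner_irr_of_ne hχ (mem_irrFinset.mp hφ) (Ne.symm hne), zero_smul]
    · rfl
  · intro h
    exact absurd (mem_irrFinset.mpr hχ) h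

open Classical in
theorem blockProj_apply (χ₀ f : G → ℂ) :
    blockProj M χ₀ f
      = ∑ φ ∈ irrFinset G, (if SameBlock M χ₀ φ then classInner f φ • φ else 0) := rfl

open Classical in
/-- `E Γ χ = Γ χ` for `χ` in the block. -/
theorem blockProj_rp {p : ℕ} (hM : IsPModular p M) {χ₀ : G → ℂ} (hχ₀ : IsIrrCharacter G χ₀)
    {χ : G → ℂ} (hχ : IsIrrCharacter G χ) (hχB : SameBlock M χ₀ χ) :
    blockProj M χ₀ (rp p χ) = rp p χ := by
  funext y
  rw [rp_block_expansion hM hχ₀ hχ hχB y, blockProj_apply, Finset.sum_apply]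
  refine Finset.sum_congr rfl fun φ _ => ?_
  split_ifs
  · rfl
  · rfl

open Classical in
/-- The operator `Γ ∘ E`. -/
noncomputable def regProj (p : ℕ) (M : Ideal AlgInt) (χ₀ : G → ℂ) : (G → ℂ) →ₗ[ℂ] (G → ℂ) :=
  (rpL p).comp (blockProj M χ₀)

open Classical in
theorem regProj_apply (p : ℕ) (χ₀ f : G → ℂ) :
    regProj p M χ₀ f
      = ∑ φ ∈ irrFinset G, (if SameBlock M χ₀ φ then classInner f φ • rp p φ else 0) := by
  show rpL p (blockProj M χ₀ f) = _
  rw [blockProj_apply, map_sum]
  refine Finset.sum_congr rfl fun φ _ => ?_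
  split_ifs
  · rw [map_smul]; rfl
  · rw [map_zero]

open Classical in
theorem regProj_idem {p : ℕ} (hM : IsPModular p M) {χ₀ : G → ℂ} (hχ₀ : IsIrrCharacter G χ₀) :
    IsIdempotentElem (regProj p M χ₀) := by
  apply LinearMap.ext
  intro f
  show regProj p M χ₀ (regProj p M χ₀ f) = regProj p M χ₀ f
  have h1 : regProj p M χ₀ (regProj p M χ₀ f) = rpL p (blockProj M χ₀ (regProj p M χ₀ f)) := rfl
  have h2 : blockProj M χ₀ (regProj p M χ₀ f) = regProj p M χ₀ f := by
    rw [regProj_apply, map_sum]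
    refine Finset.sum_congr rfl fun φ hφ => ?_
    split_ifs with hs
    · rw [map_smul, blockProj_rp hM hχ₀ (mem_irrFinset.mp hφ) hs]
    · rw [map_zero]
  rw [h1, h2, regProj_apply, map_sum]
  refine Finset.sum_congr rfl fun φ _ => ?_
  split_ifs
  · rw [map_smul]
    congr 1
    funext y
    show rp p (rp p φ) y = rp p φ y
    by_cases hy : p ∣ orderOf y
    · rw [rp_of_dvd hy, rp_of_dvd hy]
    · rw [rp_of_not_dvd hy]
  · rw [map_zero]

open Classical in
theorem range_regProj (p : ℕ) (χ₀ : IrrCharacter G) :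
    LinearMap.range (regProj p M (χ₀ : G → ℂ))
      = Submodule.span ℂ ((fun χ : IrrCharacter G => pRegularPart p (χ : G → ℂ)) ''
          blockOf M (χ₀ : G → ℂ)) := by
  apply le_antisymm
  · rintro _ ⟨f, rfl⟩
    rw [regProj_apply]
    apply Submodule.sum_mem
    intro φ hφ
    split_ifs with hs
    · apply Submodule.smul_mem
      apply Submodule.subset_span
      exact ⟨⟨φ, mem_irrFinset.mp hφ⟩, hs, pRegularPart_eq_rp p φ⟩
    · exact Submodule.zero_mem _
  · rw [Submodule.span_le]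
    rintro _ ⟨χ, hχ, rfl⟩
    refine ⟨(χ : G → ℂ), ?_⟩
    have hs : SameBlock M (χ₀ : G → ℂ) (χ : G → ℂ) := hχ
    show rpL p (blockProj M (χ₀ : G → ℂ) (χ : G → ℂ)) = pRegularPart p (χ : G → ℂ)
    rw [blockProj_irr χ.2, if_pos hs, pRegularPart_eq_rp]
    rfl

open Classical in
theorem trace_regProj (p : ℕ) (χ₀ : G → ℂ) :
    LinearMap.trace ℂ (G → ℂ) (regProj p M χ₀)
      = (Nat.card G : ℂ)⁻¹ * ∑ g : G, ∑ φ ∈ irrFinset G,
        (if SameBlock M χ₀ φ then rp p φ g * conj (φ g) else 0) := by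
  rw [LinearMap.trace_eq_matrix_trace ℂ (Pi.basisFun ℂ G)]
  unfold Matrix.trace
  rw [Finset.mul_sum]
  refine Finset.sum_congr rfl fun g _ => ?_
  rw [Matrix.diag_apply, LinearMap.toMatrix_apply, Pi.basisFun_apply, Pi.basisFun_repr,
    regProj_apply, Finset.sum_apply, Finset.mul_sum]
  refine Finset.sum_congr rfl fun φ _ => ?_
  split_ifs
  · rw [Pi.smul_apply, smul_eq_mul, classInner_def]
    have : ∑ x : G, (Pi.single g (1 : ℂ) : G → ℂ) x * conj (φ x) = conj (φ g) := by
      rw [Finset.sum_eq_single g]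
      · simp
      · intro x _ hx
        rw [Pi.single_apply, if_neg hx, zero_mul]
      · intro h
        exact absurd (Finset.mem_univ _) h
    rw [this]
    ring
  · simp

/-- The block rank as a trace. -/
theorem blockRank_eq {p : ℕ} (hM : IsPModular p M) (χ₀ : IrrCharacter G) :
    (blockRank p (blockOf M (χ₀ : G → ℂ)) : ℂ)
      = LinearMap.trace ℂ (G → ℂ) (regProj p M (χ₀ : G → ℂ)) := by
  have h0 : IsIdempotentElem (regProj p M (χ₀ : G → ℂ)) := regProj_idem hM χ₀.2
  have h1 := (LinearMap.IsIdempotentElem.isProj_range _ h0).trace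
  rw [h1]
  unfold blockRank
  rw [range_regProj]

end Cfsg.Agent.Lib.Helper2_BlockRank
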