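import Mathlib
import Cfsg.Prelude.Def_Characters
import Cfsg.Prelude.Def_Blocks
import Cfsg.Prelude.Def_BlockRank
import Cfsg.Agent.Lib.Helper2_ClassFn
import Cfsg.Agent.Lib.Helper2_CharBasic
import Cfsg.Agent.Lib.Helper2_CharOrtho
import Cfsg.Agent.Lib.Helper2_Clifford
import Cfsg.Agent.Lib.Helper2_CharMore
import Cfsg.Agent.Lib.Helper2_CharValues
import Cfsg.Agent.Lib.Helper2_CharDeg
import Cfsg.Agent.Lib.Helper2_CharSum
import Cfsg.Agent.Lib.Helper2_CharExtra
import Cfsg.Agent.Lib.Helper2_CharInt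
import Cfsg.Agent.Lib.Helper2_ModM
import Cfsg.Agent.Lib.Helper2_Blocks
import Cfsg.Agent.Lib.Helper2_BlockOrtho
import Cfsg.Agent.Lib.Helper2_BlockRank
import Cfsg.Agent.Lib.Helper2_BlockMore

set_option autoImplicit false

/-!
# Blocks and normal subgroups of order prime to `p`; normal `p`-complements
-/

namespace Cfsg.Agent.Lib.Helper2_BlockNormal

open Cfsg
open Cfsg.Agent.Lib.Helper2_ClassFn
open Cfsg.Agent.Lib.Helper2_CharBasic
open Cfsg.Agent.Lib.Helper2_CharOrtho
open Cfsg.Agent.Lib.Helper2_Clifford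
open Cfsg.Agent.Lib.Helper2_CharMore
open Cfsg.Agent.Lib.Helper2_CharValues
open Cfsg.Agent.Lib.Helper2_CharDeg
open Cfsg.Agent.Lib.Helper2_CharSum
open Cfsg.Agent.Lib.Helper2_CharExtra
open Cfsg.Agent.Lib.Helper2_ModM
open Cfsg.Agent.Lib.Helper2_Blocks
open Cfsg.Agent.Lib.Helper2_BlockOrtho
open Cfsg.Agent.Lib.Helper2_BlockRank
open Cfsg.Agent.Lib.Helper2_BlockMore
open scoped ComplexConjugate

universe u

variable {G : Type u} [Group G] [Fintype G] {M : Ideal AlgInt}

/-- The block idempotent vanishes at `p`-singular elements. -/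
theorem blockCoeff_vanish {p : ℕ} [hp : Fact p.Prime] (hM : IsPModular p M)
    (χ₀ : IrrCharacter G) (y : G) (hy : p ∣ orderOf y) :
    blockCoeff (blockOf M (χ₀ : G → ℂ)) y = 0 := by
  unfold blockCoeff
  have h1 : ¬ p ∣ orderOf (1 : G) := by
    rw [orderOf_one]
    exact hp.out.one_lt.ne' ∘ Nat.dvd_one.mp
  rw [wbo_finsum hM χ₀ 1 y h1 hy, mul_zero]

open Classical in
theorem sum_supported (N : Subgroup G) [Fintype N] {z : G → ℂ}
    (hsupp : ∀ g, g ∉ N → z g = 0) (f : G → ℂ) :
    ∑ g : G, z g * f g = ∑ n : N, z n * f n := by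
  rw [← sum_dite_mem N (fun n : N => z n * f n)]
  refine Finset.sum_congr rfl fun g _ => ?_
  by_cases hg : g ∈ N
  · rw [dif_pos hg]
  · rw [dif_neg hg, hsupp g hg, zero_mul]

theorem sum_conjFn_invariant (N : Subgroup G) [hN : N.Normal] [Fintype N] {z : G → ℂ}
    (hz : IsClassFunction G z) (θ : N → ℂ) (x : G) :
    ∑ n : N, z n * conjFn N θ x n = ∑ n : N, z n * θ n := by
  rw [conjFn_eq_comp]
  calc ∑ n : N, z n * θ (MulAut.conjNormal x n)
      = ∑ n : N, (fun m : N => z m * θ m) (MulAut.conjNormal x n) := by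
        refine Finset.sum_congr rfl fun n _ => ?_
        show z n * _ = z ((MulAut.conjNormal x n : N) : G) * _
        rw [MulAut.conjNormal_apply, hz n x]
    _ = ∑ n : N, z n * θ n :=
        Fintype.sum_equiv (MulAut.conjNormal x : N ≃* N).toEquiv _ _ (fun _ => rfl)

open Classical in
/-- The central character of `χ` on a central element supported in a normal subgroup `N` is
determined by any irreducible constituent of `χ` restricted to `N`. -/
theorem om_of_supported (N : Subgroup G) [hN : N.Normal] [Fintype N] {z : G → ℂ}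
    (hz : IsClassFunction G z) (hsupp : ∀ g, g ∉ N → z g = 0) {θ : N → ℂ}
    (hθ : IsIrrCharacter N θ) {χ : G → ℂ} (hχ : IsIrrCharacter G χ)
    (he : classInner (fun n : N => χ n) θ ≠ 0) :
    om χ z = (∑ n : N, z n * θ n) / θ 1 := by
  set t := (orbitFin N θ).card with ht
  set e := classInner (fun n : N => χ n) θ with hedef
  have hcl : (fun n : N => χ n) = e • ∑ ψ ∈ orbitFin N θ, ψ := by
    unfold orbitFin
    convert clifford N hχ hθ he
  have hsum : ∑ g : G, z g * χ g = e * (t : ℂ) * ∑ n : N, z n * θ n := by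
    rw [sum_supported N hsupp χ]
    have h2 : ∀ n : N, z n * χ n = ∑ φ ∈ orbitFin N θ, e * (z n * φ n) := by
      intro n
      have := congrFun hcl n
      simp only [Pi.smul_apply, Finset.sum_apply, smul_eq_mul] at this
      rw [this, Finset.mul_sum, Finset.mul_sum]
      exact Finset.sum_congr rfl fun φ _ => by ring
    simp_rw [h2]
    rw [Finset.sum_comm]
    have h3 : ∀ φ ∈ orbitFin N θ, ∑ n : N, e * (z n * φ n) = e * ∑ n : N, z n * θ n := by
      intro φ hφ
      obtain ⟨x, rfl⟩ := (mem_orbitFin N θ φ).mp hφ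
      rw [← Finset.mul_sum, sum_conjFn_invariant N hz θ x]
    rw [Finset.sum_congr rfl h3, Finset.sum_const, nsmul_eq_mul]
    ring
  have h1 := congrFun hcl 1
  simp only [Pi.smul_apply, Finset.sum_apply, smul_eq_mul] at h1
  have h2 : ∑ φ ∈ orbitFin N θ, φ 1 = (t : ℂ) * θ 1 := by
    rw [ht, ← nsmul_eq_mul, ← Finset.sum_const]
    refine Finset.sum_congr rfl fun φ hφ => ?_
    obtain ⟨x, rfl⟩ := (mem_orbitFin N θ φ).mp hφ
    rw [conjFn_apply]
    congr 1
    ext
    simp
  rw [h2] at h1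
  have hχ1 : χ 1 ≠ 0 := by
    obtain ⟨n, hn, h⟩ := IsIrrCharacter.apply_one hχ
    rw [h]; exact_mod_cast hn.ne'
  have h3 : χ 1 = e * (t : ℂ) * θ 1 := by
    have : χ 1 = χ ((1 : N) : G) := by simp
    rw [this, h1]
    ring
  have het : e * (t : ℂ) ≠ 0 := by
    intro h0
    rw [h0, zero_mul] at h3
    exact hχ1 h3
  unfold om
  rw [hsum, h3, mul_div_mul_left _ _ het]

/-- In a group with a normal subgroup of `p`-power index, the `p`-regular elements lie in it. -/
theorem mem_of_pregular {p : ℕ} [hp : Fact p.Prime] (N : Subgroup G) [hN : N.Normal]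
    (hidx : ∃ k : ℕ, N.index = p ^ k) (g : G) (hg : ¬ p ∣ orderOf g) : g ∈ N := by
  obtain ⟨k, hk⟩ := hidx
  have h1 : orderOf (QuotientGroup.mk' N g) ∣ orderOf g := orderOf_map_dvd _ g
  have h2 : orderOf (QuotientGroup.mk' N g) ∣ p ^ k := by
    rw [← hk, Subgroup.index_eq_card]
    exact orderOf_dvd_natCard _
  obtain ⟨j, _, hj⟩ := (Nat.dvd_prime_pow hp.out).mp h2
  have hj0 : j = 0 := by
    by_contra hne
    apply hg
    refine dvd_trans ?_ h1
    rw [hj]
    exact dvd_pow_self p hne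
  rw [hj0, pow_zero, orderOf_eq_one_iff] at hj
  exact (QuotientGroup.eq_one_iff g).mp hj

/-- With a normal `p`-complement `N`, characters lying over a common irreducible character of
`N` are in the same `p`-block. -/
theorem sameBlock_of_common_constituent {p : ℕ} [hp : Fact p.Prime] (hM : IsPModular p M)
    (N : Subgroup G) [hN : N.Normal] [Fintype N] (hidx : ∃ k : ℕ, N.index = p ^ k)
    (χ ψ : IrrCharacter G) {θ : N → ℂ} (hθ : IsIrrCharacter N θ)
    (h1 : classInner (fun n : N => (χ : G → ℂ) n) θ ≠ 0)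
    (h2 : classInner (fun n : N => (ψ : G → ℂ) n) θ ≠ 0) :
    SameBlock M (χ : G → ℂ) (ψ : G → ℂ) := by
  classical
  set B := blockOf M (χ : G → ℂ) with hB
  have hz : IsClassFunction G (blockCoeff B) := blockCoeff_isClassFunction B
  have hsupp : ∀ g, g ∉ N → blockCoeff B g = 0 := by
    intro g hg
    apply blockCoeff_vanish hM χ g
    by_contra hpg
    exact hg (mem_of_pregular N hidx g hpg)
  have e1 := om_of_supported N hz hsupp hθ χ.2 h1
  have e2 := om_of_supported N hz hsupp hθ ψ.2 h2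
  rw [om_blockCoeff B χ.2, if_pos ((memB_coe B χ).mpr (self_mem_blockOf hM.2.1 χ))] at e1
  rw [om_blockCoeff B ψ.2, ← e1] at e2
  by_contra hne
  rw [if_neg (fun hm => hne ((memB_coe B ψ).mp hm))] at e2
  exact zero_ne_one e2

end Cfsg.Agent.Lib.Helper2_BlockNormal
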