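import Mathlib
import Cfsg.Prelude.Def_Characters
import Cfsg.Prelude.Def_Blocks
import Cfsg.Prelude.Def_BlockRank
import Cfsg.Agent.Lib.Helper2_ClassFn
import Cfsg.Agent.Lib.Helper2_CharBasic
import Cfsg.Agent.Lib.Helper2_CharOrtho
import Cfsg.Agent.Lib.Helper2_Clifford
import Cfsg.Agent.Lib.Helper2_CharMore
import Cfsg.Agent.Lib.Helper2_CharValues
import Cfsg.Agent.Lib.Helper2_CharDeg
import Cfsg.Agent.Lib.Helper2_CharInd
import Cfsg.Agent.Lib.Helper2_CharSum
import Cfsg.Agent.Lib.Helper2_CharExtra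
import Cfsg.Agent.Lib.Helper2_CharInt
import Cfsg.Agent.Lib.Helper2_ModM
import Cfsg.Agent.Lib.Helper2_Blocks
import Cfsg.Agent.Lib.Helper2_BlockOrtho
import Cfsg.Agent.Lib.Helper2_BlockMore
import Cfsg.Agent.Lib.Helper2_BlockNormal

set_option autoImplicit false

/-!
# Blocks covering blocks of a normal subgroup
-/

namespace Cfsg.Agent.Lib.Helper2_BlockCover

open Cfsg
open Cfsg.Agent.Lib.Helper2_ClassFn
open Cfsg.Agent.Lib.Helper2_CharBasic
open Cfsg.Agent.Lib.Helper2_CharOrtho
open Cfsg.Agent.Lib.Helper2_Clifford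
open Cfsg.Agent.Lib.Helper2_CharMore
open Cfsg.Agent.Lib.Helper2_CharValues
open Cfsg.Agent.Lib.Helper2_CharDeg
open Cfsg.Agent.Lib.Helper2_CharInd
open Cfsg.Agent.Lib.Helper2_CharSum
open Cfsg.Agent.Lib.Helper2_CharExtra
open Cfsg.Agent.Lib.Helper2_ModM
open Cfsg.Agent.Lib.Helper2_Blocks
open Cfsg.Agent.Lib.Helper2_BlockOrtho
open Cfsg.Agent.Lib.Helper2_BlockMore
open Cfsg.Agent.Lib.Helper2_BlockNormal
open scoped ComplexConjugate

universe u

variable {G : Type u} [Group G] [Fintype G] {M : Ideal AlgInt}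

theorem restrict_isClassFunction (N : Subgroup G) {z : G → ℂ} (hz : IsClassFunction G z) :
    IsClassFunction N (fun n : N => z n) := by
  intro n t
  have := hz (n : G) (t : G)
  simpa using this

/-- If `G/N` is a `p`-group, characters of `G` lying over characters in the same block of `N`
are in the same block of `G`. -/
theorem sameBlock_of_cover_pIndex {p : ℕ} [hp : Fact p.Prime] (hM : IsPModular p M)
    (N : Subgroup G) [hN : N.Normal] [Fintype N] (hidx : ∃ k : ℕ, N.index = p ^ k)
    (χ χ' : IrrCharacter G) {θ θ' : N → ℂ} (hθ : IsIrrCharacter N θ) (hθ' : IsIrrCharacter N θ')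
    (hs : SameBlock M θ θ')
    (h1 : classInner (fun n : N => (χ : G → ℂ) n) θ ≠ 0)
    (h2 : classInner (fun n : N => (χ' : G → ℂ) n) θ' ≠ 0) :
    SameBlock M (χ : G → ℂ) (χ' : G → ℂ) := by
  classical
  have hMm := hM.2.1
  set B := blockOf M (χ : G → ℂ) with hB
  have hz : IsClassFunction G (blockCoeff B) := blockCoeff_isClassFunction B
  have hsupp : ∀ g, g ∉ N → blockCoeff B g = 0 := by
    intro g hg
    apply blockCoeff_vanish hM χ g
    by_contra hpg
    exact hg (mem_of_pregular N hidx g hpg)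
  have e1 := om_of_supported N hz hsupp hθ χ.2 h1
  have e2 := om_of_supported N hz hsupp hθ' χ'.2 h2
  rw [om_blockCoeff B χ.2, if_pos ((memB_coe B χ).mpr (self_mem_blockOf hMm χ))] at e1
  have key := om_sub_mem hMm (IsCharacter.isClassFunction (IsIrrCharacter.isCharacter hθ))
    (IsCharacter.isClassFunction (IsIrrCharacter.isCharacter hθ')) hs
    (restrict_isClassFunction N hz) (fun n => memLocalRing_blockCoeff hMm χ.2 (n : G))
  unfold om at key
  rw [← e1, ← e2, om_blockCoeff B χ'.2] at key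
  by_contra hne
  rw [if_neg (fun hm => hne ((memB_coe B χ').mp hm)), sub_zero] at key
  exact not_memLocalIdeal_one hMm key

/-- Every irreducible character of a subgroup lies under an irreducible character of `G`. -/
theorem exists_over (N : Subgroup G) [Fintype N] {θ : N → ℂ} (hθ : IsIrrCharacter N θ) :
    ∃ χ : IrrCharacter G, classInner (fun n : N => (χ : G → ℂ) n) θ ≠ 0 := by
  classical
  have hΦ : IsCharacter G (indFun N θ) := IsCharacter.indFun (IsIrrCharacter.isCharacter hθ)
  have h0 : indFun N θ ≠ 0 := by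
    intro h0
    have := congrFun h0 1
    rw [indFun_one] at this
    obtain ⟨n, hn, h⟩ := IsIrrCharacter.apply_one hθ
    rw [h] at this
    have hI0 : (N.index : ℂ) ≠ 0 := by exact_mod_cast Subgroup.index_ne_zero_of_finite
    have hn0 : (n : ℂ) ≠ 0 := by exact_mod_cast hn.ne'
    exact mul_ne_zero hI0 hn0 this
  obtain ⟨ψ, hψ, m, hmpos, hm⟩ := IsCharacter.exists_constituent hΦ h0
  refine ⟨⟨ψ, hψ⟩, ?_⟩
  rw [frobenius_reciprocity N θ ψ
    (IsCharacter.isClassFunction (IsIrrCharacter.isCharacter hψ))] at hm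
  intro h
  have h3 : classInner θ (fun n : N => ψ n) = 0 := by
    rw [← classInner_conj_symm]
    show conj (classInner (fun n : N => ψ n) θ) = 0
    rw [h, map_zero]
  rw [h3] at hm
  have : (m : ℂ) = 0 := hm.symm
  have : m = 0 := by exact_mod_cast this
  omega

end Cfsg.Agent.Lib.Helper2_BlockCover
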