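import Mathlib
import Cfsg.Prelude.Def_Characters
import Cfsg.Prelude.Def_Blocks
import Cfsg.Prelude.Def_BlockRank
import Cfsg.Agent.Lib.Helper2_ClassFn
import Cfsg.Agent.Lib.Helper2_CharBasic
import Cfsg.Agent.Lib.Helper2_CharOrtho
import Cfsg.Agent.Lib.Helper2_CharValues
import Cfsg.Agent.Lib.Helper2_CharComplete
import Cfsg.Agent.Lib.Helper2_CharInd
import Cfsg.Agent.Lib.Helper2_CharSum
import Cfsg.Agent.Lib.Helper2_CharInt
import Cfsg.Agent.Lib.Helper2_ModM
import Cfsg.Agent.Lib.Helper2_Blocks
import Cfsg.Agent.Lib.Helper2_BlockOrtho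
import Cfsg.Agent.Lib.Helper2_BlockMore

set_option autoImplicit false

/-!
# Induced blocks: basic facts
-/

namespace Cfsg.Agent.Lib.Helper2_InducedBlock

open Cfsg
open Cfsg.Agent.Lib.Helper2_ClassFn
open Cfsg.Agent.Lib.Helper2_CharBasic
open Cfsg.Agent.Lib.Helper2_CharOrtho
open Cfsg.Agent.Lib.Helper2_CharValues
open Cfsg.Agent.Lib.Helper2_CharComplete
open Cfsg.Agent.Lib.Helper2_CharInd
open Cfsg.Agent.Lib.Helper2_CharSum
open Cfsg.Agent.Lib.Helper2_ModM
open Cfsg.Agent.Lib.Helper2_Blocks
open Cfsg.Agent.Lib.Helper2_BlockOrtho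
open Cfsg.Agent.Lib.Helper2_BlockMore
open scoped ComplexConjugate

universe u

variable {G : Type u} [Group G] [Fintype G] {M : Ideal AlgInt}

open Classical in
/-- The induced central character as a finite sum. -/
theorem inducedCentralChar_eq_sum (H : Subgroup G) [Fintype H] (ξ : H → ℂ) (g : G) :
    inducedCentralChar H ξ g = ∑ h : H, if IsConj g (h : G) then ξ h / ξ 1 else 0 := by
  unfold inducedCentralChar
  rw [finsum_mem_def, finsum_eq_sum_of_fintype]
  refine Finset.sum_congr rfl fun h _ => ?_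
  rw [Set.indicator_apply]
  rfl

open Classical in
/-- The class indicator of `g`, restricted to `H`. -/
noncomputable def classIndOn (H : Subgroup G) (g : G) : H → ℂ :=
  fun h => if IsConj g (h : G) then 1 else 0

theorem classIndOn_isClassFunction (H : Subgroup G) (g : G) :
    IsClassFunction H (classIndOn H g) := by
  classical
  intro h t
  unfold classIndOn
  have : IsConj g ((t * h * t⁻¹ : H) : G) ↔ IsConj g (h : G) := by
    have hc : IsConj (h : G) ((t * h * t⁻¹ : H) : G) :=
      isConj_iff.mpr ⟨(t : G), by simp⟩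
    exact ⟨fun h1 => h1.trans hc.symm, fun h1 => h1.trans hc⟩
  simp only [this]

theorem classIndOn_memLocalRing (hM : M.IsMaximal) (H : Subgroup G) (g : G) (h : H) :
    MemLocalRing M (classIndOn H g h) := by
  classical
  unfold classIndOn
  split_ifs
  · exact memLocalRing_one hM
  · exact memLocalRing_zero hM

theorem inducedCentralChar_eq_om (H : Subgroup G) [Fintype H] (ξ : H → ℂ) (g : G) :
    inducedCentralChar H ξ g = om ξ (classIndOn H g) := by
  classical
  rw [inducedCentralChar_eq_sum]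
  unfold om classIndOn
  rw [Finset.sum_div]
  refine Finset.sum_congr rfl fun h _ => ?_
  split_ifs
  · rw [one_mul]
  · rw [zero_mul, zero_div]

/-- Characters of `H` in the same block have congruent induced central characters. -/
theorem inducedCentralChar_sub_mem (hM : M.IsMaximal) (H : Subgroup G) [Fintype H]
    {ξ ξ' : H → ℂ} (hξ : IsIrrCharacter H ξ) (hξ' : IsIrrCharacter H ξ')
    (h : SameBlock M ξ ξ') (g : G) :
    MemLocalIdeal M (inducedCentralChar H ξ g - inducedCentralChar H ξ' g) := by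
  rw [inducedCentralChar_eq_om, inducedCentralChar_eq_om]
  exact om_sub_mem hM (IsCharacter.isClassFunction (IsIrrCharacter.isCharacter hξ))
    (IsCharacter.isClassFunction (IsIrrCharacter.isCharacter hξ')) h
    (classIndOn_isClassFunction H g) (classIndOn_memLocalRing hM H g)

open Classical in
/-- The central character of an induced function is the induced central character. -/
theorem centralChar_indFun (H : Subgroup G) [Fintype H] (ξ : H → ℂ) (hξ1 : ξ 1 ≠ 0) (g : G) :
    centralChar (indFun H ξ) g = inducedCentralChar H ξ g := by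
  set δ : G → ℂ := fun x => if IsConj g x then 1 else 0 with hδ
  have hδcf : IsClassFunction G δ := by
    intro x t
    simp only [hδ]
    have hc : IsConj x (t * x * t⁻¹) := isConj_iff.mpr ⟨t, rfl⟩
    have : IsConj g (t * x * t⁻¹) ↔ IsConj g x :=
      ⟨fun h1 => h1.trans hc.symm, fun h1 => h1.trans hc⟩
    simp only [this]
  have hfr := frobenius_reciprocity H ξ δ hδcf
  have hicf := indFun_isClassFunction H ξ
  -- left side
  have hL : classInner (indFun H ξ) δ = (Nat.card G : ℂ)⁻¹ *
      (((Subgroup.centralizer ({g} : Set G)).index : ℂ) * indFun H ξ g) := by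
    rw [classInner_def]
    congr 1
    have h1 : ∀ x : G, indFun H ξ x * conj (δ x)
        = if IsConj x g then indFun H ξ g else 0 := by
      intro x
      simp only [hδ]
      by_cases hc : IsConj g x
      · rw [if_pos hc, if_pos hc.symm, map_one, mul_one]
        obtain ⟨t, ht⟩ := isConj_iff.mp hc
        rw [← ht]
        exact hicf g t
      · rw [if_neg hc, if_neg (fun h => hc h.symm), map_zero, mul_zero]
    simp_rw [h1]
    rw [Finset.sum_ite, Finset.sum_const_zero, add_zero, Finset.sum_const, nsmul_eq_mul,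
      index_centralizer_eq]
  -- right side
  have hR : classInner ξ (fun h : H => δ h) = (Nat.card H : ℂ)⁻¹ *
      (ξ 1 * inducedCentralChar H ξ g) := by
    rw [classInner_def, inducedCentralChar_eq_sum]
    congr 1
    rw [Finset.mul_sum]
    refine Finset.sum_congr rfl fun h _ => ?_
    simp only [hδ]
    split_ifs
    · rw [map_one, mul_one]
      field_simp
    · rw [map_zero, mul_zero, mul_zero]
  rw [hL, hR] at hfr
  unfold centralChar
  rw [indFun_one]
  have hcard : (Nat.card H : ℂ) * (H.index : ℂ) = (Nat.card G : ℂ) := by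
    exact_mod_cast Subgroup.card_mul_index H
  have hH0 : (Nat.card H : ℂ) ≠ 0 := card_ne_zero_complex
  have hG0 : (Nat.card G : ℂ) ≠ 0 := card_ne_zero_complex
  have hI0 : (H.index : ℂ) ≠ 0 := by
    intro h0
    rw [h0, mul_zero] at hcard
    exact hG0 hcard.symm
  rw [← hcard] at hfr
  field_simp at hfr ⊢
  linear_combination hfr

/-- **Irreducible induction induces blocks.** -/
theorem isInducedBlock_of_irr_ind {p : ℕ} (hM : IsPModular p M) (H : Subgroup G)
    (ξ : IrrCharacter H) (hind : IsIrrCharacter G (indFun H (ξ : H → ℂ))) :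
    IsInducedBlock M H (blockOf M (ξ : H → ℂ)) (blockOf M (indFun H (ξ : H → ℂ))) := by
  classical
  haveI : Fintype H := Fintype.ofFinite _
  have hMm := hM.2.1
  refine ⟨⟨ξ, rfl⟩, ⟨⟨_, hind⟩, rfl⟩, ?_⟩
  intro ξ' hξ' χ' hχ' g
  have hξ1 : (ξ : H → ℂ) 1 ≠ 0 := by
    obtain ⟨n, hn, h⟩ := IsIrrCharacter.apply_one ξ.2
    rw [h]; exact_mod_cast hn.ne'
  have h1 := inducedCentralChar_sub_mem hMm H ξ'.2 ξ.2 (sameBlock_symm hMm hξ') g
  rw [← centralChar_indFun H (ξ : H → ℂ) hξ1 g] at h1
  have h2 := hχ' g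
  have := memLocalIdeal_add hMm h1 h2
  rwa [sub_add_sub_cancel] at this

/-- **An induced block contains a constituent of each induced character.** -/
theorem exists_constituent_of_induced {p : ℕ} (hM : IsPModular p M) (H : Subgroup G) [Fintype H]
    (b : Set (IrrCharacter H)) (B : Set (IrrCharacter G)) (hind : IsInducedBlock M H b B)
    (ξ : IrrCharacter H) (hξ : ξ ∈ b) :
    ∃ χ ∈ B, classInner (fun h : H => (χ : G → ℂ) h) (ξ : H → ℂ) ≠ 0 := by
  classical
  have hMm := hM.2.1
  obtain ⟨_, ⟨χ₀, rfl⟩, hcong⟩ := hind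
  set Φ := indFun H (ξ : H → ℂ) with hΦ
  have hξ1 : (ξ : H → ℂ) 1 ≠ 0 := by
    obtain ⟨n, hn, h⟩ := IsIrrCharacter.apply_one ξ.2
    rw [h]; exact_mod_cast hn.ne'
  have hΦcf : IsClassFunction G Φ := indFun_isClassFunction H _
  have hΦ1 : Φ 1 ≠ 0 := by
    rw [hΦ, indFun_one]
    have hI0 : (H.index : ℂ) ≠ 0 := by
      exact_mod_cast Subgroup.index_ne_zero_of_finite
    exact mul_ne_zero hI0 hξ1
  set B := blockOf M (χ₀ : G → ℂ) with hB
  have hs : SameBlock M Φ (χ₀ : G → ℂ) := by
    intro g
    rw [hΦ, centralChar_indFun H _ hξ1 g]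
    exact hcong ξ hξ χ₀ (self_mem_blockOf hMm χ₀) g
  have key := om_sub_mem hMm hΦcf
    (IsCharacter.isClassFunction (IsIrrCharacter.isCharacter χ₀.2)) hs
    (blockCoeff_isClassFunction B) (memLocalRing_blockCoeff hMm χ₀.2)
  rw [om_blockCoeff B χ₀.2, if_pos ((memB_coe B χ₀).mpr (self_mem_blockOf hMm χ₀))] at key
  have hom : om Φ (blockCoeff B) ≠ 0 := by
    intro h0
    rw [h0, zero_sub] at key
    have := memLocalIdeal_neg hMm key
    rw [neg_neg] at this
    exact not_memLocalIdeal_one hMm this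
  -- expand `Φ` in irreducibles
  have hexp := IsClassFunction.expansion hΦcf
  have hsum : ∑ g : G, blockCoeff B g * Φ g
      = ∑ ψ ∈ irrFinset G, if MemB B ψ then classInner Φ ψ * ψ 1 else 0 := by
    have h1 : ∀ g : G, blockCoeff B g * Φ g
        = ∑ ψ ∈ irrFinset G, classInner Φ ψ * (blockCoeff B g * ψ g) := by
      intro g
      conv_lhs => rw [hexp]
      rw [Finset.sum_apply, Finset.mul_sum]
      refine Finset.sum_congr rfl fun ψ _ => ?_
      rw [Pi.smul_apply, smul_eq_mul]
      ring
    simp_rw [h1]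
    rw [Finset.sum_comm]
    refine Finset.sum_congr rfl fun ψ hψ => ?_
    rw [← Finset.mul_sum]
    have h2 := om_blockCoeff B (mem_irrFinset.mp hψ)
    unfold om at h2
    have hψ1 : ψ 1 ≠ 0 := by
      obtain ⟨n, hn, h⟩ := IsIrrCharacter.apply_one (mem_irrFinset.mp hψ)
      rw [h]; exact_mod_cast hn.ne'
    rw [div_eq_iff hψ1] at h2
    rw [h2]
    split_ifs
    · rw [one_mul]
    · rw [zero_mul, mul_zero]
  have hne : ∑ g : G, blockCoeff B g * Φ g ≠ 0 := by
    intro h0
    apply hom
    unfold om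
    rw [h0, zero_div]
  rw [hsum] at hne
  obtain ⟨ψ, hψ, hψne⟩ := Finset.exists_ne_zero_of_sum_ne_zero hne
  split_ifs at hψne with hm
  · obtain ⟨hψirr, hψB⟩ := hm
    refine ⟨⟨ψ, hψirr⟩, hψB, ?_⟩
    have h3 : classInner Φ ψ ≠ 0 := left_ne_zero_of_mul hψne
    rw [hΦ, frobenius_reciprocity H _ ψ
      (IsCharacter.isClassFunction (IsIrrCharacter.isCharacter hψirr))] at h3
    intro h0
    apply h3
    rw [← classInner_conj_symm, h0, map_zero]
  · exact absurd rfl hψne

end Cfsg.Agent.Lib.Helper2_InducedBlock
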