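import Mathlib
import Cfsg.Prelude.Def_Characters
import Cfsg.Prelude.Def_Blocks
import Cfsg.Prelude.Def_BlockRank
import Cfsg.Agent.Lib.Helper2_ClassFn
import Cfsg.Agent.Lib.Helper2_CharBasic
import Cfsg.Agent.Lib.Helper2_CharOrtho
import Cfsg.Agent.Lib.Helper2_Clifford
import Cfsg.Agent.Lib.Helper2_CharMore
import Cfsg.Agent.Lib.Helper2_CharValues
import Cfsg.Agent.Lib.Helper2_CharDeg
import Cfsg.Agent.Lib.Helper2_CharInd
import Cfsg.Agent.Lib.Helper2_CharSum
import Cfsg.Agent.Lib.Helper2_CharExtra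
import Cfsg.Agent.Lib.Helper2_CharInt
import Cfsg.Agent.Lib.Helper2_ModM
import Cfsg.Agent.Lib.Helper2_Blocks
import Cfsg.Agent.Lib.Helper2_BlockOrtho
import Cfsg.Agent.Lib.Helper2_BlockMore
import Cfsg.Agent.Lib.Helper2_BlockNormal
import Cfsg.Agent.Lib.Helper2_BlockCover
import Cfsg.Agent.Lib.Helper2_InducedBlock

set_option autoImplicit false

/-!
# Conjugate blocks of a normal subgroup, and covering
-/

namespace Cfsg.Agent.Lib.Helper2_BlockConj

open Cfsg
open Cfsg.Agent.Lib.Helper2_ClassFn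
open Cfsg.Agent.Lib.Helper2_CharBasic
open Cfsg.Agent.Lib.Helper2_CharOrtho
open Cfsg.Agent.Lib.Helper2_Clifford
open Cfsg.Agent.Lib.Helper2_CharMore
open Cfsg.Agent.Lib.Helper2_CharValues
open Cfsg.Agent.Lib.Helper2_CharDeg
open Cfsg.Agent.Lib.Helper2_CharInd
open Cfsg.Agent.Lib.Helper2_CharSum
open Cfsg.Agent.Lib.Helper2_CharExtra
open Cfsg.Agent.Lib.Helper2_ModM
open Cfsg.Agent.Lib.Helper2_Blocks
open Cfsg.Agent.Lib.Helper2_BlockOrtho
open Cfsg.Agent.Lib.Helper2_BlockMore
open Cfsg.Agent.Lib.Helper2_BlockNormal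
open Cfsg.Agent.Lib.Helper2_BlockCover
open scoped ComplexConjugate

universe u

variable {G : Type u} [Group G] [Fintype G] {M : Ideal AlgInt}

open Classical in
/-- The idempotent of a union of blocks has values in the local ring. -/
theorem memLocalRing_blockCoeff_of_closed (hM : M.IsMaximal) (O : Set (IrrCharacter G))
    (hO : ∀ φ ∈ O, ∀ φ' : IrrCharacter G, SameBlock M (φ : G → ℂ) (φ' : G → ℂ) → φ' ∈ O)
    (x : G) : MemLocalRing M (blockCoeff O x) := by
  rw [blockCoeff_eq]
  rw [← Finset.sum_filter]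
  set S := (irrFinset G).filter (MemB O) with hS
  rw [← Finset.sum_fiberwise_of_maps_to (s := S)
    (t := S.image (fun ψ : G → ℂ => blockOf M ψ)) (g := fun ψ : G → ℂ => blockOf M ψ)
    (fun ψ hψ => Finset.mem_image_of_mem _ hψ)]
  rw [Finset.mul_sum]
  refine memLocalRing_sum hM _ _ fun β hβ => ?_
  obtain ⟨ψ₀, hψ₀S, rfl⟩ := Finset.mem_image.mp hβ
  have hψ₀irr := mem_irrFinset.mp (Finset.mem_filter.mp hψ₀S).1
  have hψ₀O : MemB O ψ₀ := (Finset.mem_filter.mp hψ₀S).2
  have key : (Nat.card G : ℂ)⁻¹ *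
      ∑ ψ ∈ S with blockOf M ψ = blockOf M ψ₀, ψ 1 * conj (ψ x)
      = blockCoeff (blockOf M ψ₀) x := by
    rw [blockCoeff_eq, ← Finset.sum_filter]
    congr 1
    refine Finset.sum_congr ?_ (fun _ _ => rfl)
    ext ψ
    simp only [Finset.mem_filter, hS]
    constructor
    · rintro ⟨⟨hirr, hOψ⟩, heq⟩
      refine ⟨hirr, ?_⟩
      rw [memB_blockOf _ hirr]
      have h1 : (⟨ψ, mem_irrFinset.mp hirr⟩ : IrrCharacter G) ∈ blockOf M ψ :=
        self_mem_blockOf hM ⟨ψ, mem_irrFinset.mp hirr⟩
      rw [heq] at h1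
      exact h1
    · rintro ⟨hirr, hmem⟩
      rw [memB_blockOf _ hirr] at hmem
      refine ⟨⟨hirr, ?_⟩, ?_⟩
      · obtain ⟨h0, h0O⟩ := hψ₀O
        exact ⟨mem_irrFinset.mp hirr, hO _ h0O ⟨ψ, mem_irrFinset.mp hirr⟩ hmem⟩
      · exact blockOf_eq_of_sameBlock hM hmem
  rw [key]
  exact memLocalRing_blockCoeff hM hψ₀irr x

/-- A variant of `om_sub_mem` where the central characters are only compared on a set
supporting the central element. -/
theorem om_sub_mem_of_supp (hM : M.IsMaximal) {χ ψ : G → ℂ} (hχ : IsClassFunction G χ)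
    (hψ : IsClassFunction G ψ) (S : Set G)
    (h : ∀ g ∈ S, MemLocalIdeal M (centralChar χ g - centralChar ψ g)) {z : G → ℂ}
    (hz : IsClassFunction G z) (hzR : ∀ g, MemLocalRing M (z g))
    (hsupp : ∀ g, g ∉ S → z g = 0) : MemLocalIdeal M (om χ z - om ψ z) := by
  classical
  rw [om_eq_sum_classes hχ hz, om_eq_sum_classes hψ hz, ← Finset.sum_sub_distrib]
  refine memLocalIdeal_sum hM _ _ fun C _ => ?_
  by_cases hC : C.out ∈ S
  · rw [← mul_sub]
    exact memLocalIdeal_mul_ring hM (h _ hC) (hzR _)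
  · rw [hsupp _ hC, zero_mul, zero_mul, sub_zero]
    exact memLocalIdeal_zero hM

section Normal

variable (N : Subgroup G) [hN : N.Normal]

omit [Fintype G] in
theorem index_centralizer_conjNormal (g : G) (n : N) :
    (Subgroup.centralizer ({MulAut.conjNormal g n} : Set N)).index
      = (Subgroup.centralizer ({n} : Set N)).index := by
  have h : Subgroup.centralizer ({MulAut.conjNormal g n} : Set N)
      = (Subgroup.centralizer ({n} : Set N)).map
          ((MulAut.conjNormal g : N ≃* N) : N →* N) := by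
    ext x
    rw [Subgroup.mem_map, Subgroup.mem_centralizer_singleton_iff]
    constructor
    · intro hx
      refine ⟨(MulAut.conjNormal g : N ≃* N).symm x, ?_, ?_⟩
      · rw [Subgroup.mem_centralizer_singleton_iff]
        apply (MulAut.conjNormal g : N ≃* N).injective
        rw [map_mul, map_mul, MulEquiv.apply_symm_apply]
        exact hx
      · exact MulEquiv.apply_symm_apply _ x
    · rintro ⟨y, hy, rfl⟩
      rw [Subgroup.mem_centralizer_singleton_iff] at hy
      show (MulAut.conjNormal g : N ≃* N) y * _ = _ * (MulAut.conjNormal g : N ≃* N) y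
      rw [← map_mul, ← map_mul, hy]
  rw [h, Subgroup.index_map_equiv]

omit [Fintype G] in
theorem centralChar_conjFn (θ : N → ℂ) (g : G) (n : N) :
    centralChar (conjFn N θ g) n = centralChar θ (MulAut.conjNormal g n) := by
  unfold centralChar
  rw [index_centralizer_conjNormal, conjFn_eq_comp]
  simp only [map_one]

omit [Fintype G] in
theorem sameBlock_conjFn {θ φ : N → ℂ} (h : SameBlock M θ φ) (g : G) :
    SameBlock M (conjFn N θ g) (conjFn N φ g) := by
  intro n
  rw [centralChar_conjFn, centralChar_conjFn]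
  exact h _

/-- The union of the `G`-conjugates of a set of irreducible characters of `N`. -/
def conjUnion (b : Set (IrrCharacter N)) : Set (IrrCharacter N) :=
  {φ | ∃ g : G, ∃ θ' ∈ b, (φ : N → ℂ) = conjFn N (θ' : N → ℂ) g}

omit [Fintype G] in
theorem conjUnion_closed (hM : M.IsMaximal) (b : Set (IrrCharacter N)) (hb : IsPBlock M b) :
    ∀ φ ∈ conjUnion N b, ∀ φ' : IrrCharacter N,
      SameBlock M (φ : N → ℂ) (φ' : N → ℂ) → φ' ∈ conjUnion N b := by
  rintro φ ⟨g, θ', hθ', hφ⟩ φ' hs
  refine ⟨g, ⟨conjFn N φ' g⁻¹, IsIrrCharacter.conjFn φ'.2 g⁻¹⟩, ?_, ?_⟩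
  · obtain ⟨θ₀, rfl⟩ := hb
    have h1 := sameBlock_conjFn (M := M) N hs g⁻¹
    rw [hφ, ← conjFn_mul, mul_inv_cancel, conjFn_one] at h1
    exact sameBlock_trans hM hθ' h1
  · show (φ' : N → ℂ) = conjFn N (conjFn N φ' g⁻¹) g
    rw [← conjFn_mul, inv_mul_cancel, conjFn_one]

omit [Fintype G] in
theorem memB_conjUnion_conj (b : Set (IrrCharacter N)) {ψ : N → ℂ}
    (h : MemB (conjUnion N b) ψ) (g : G) : MemB (conjUnion N b) (conjFn N ψ g) := by
  obtain ⟨hirr, g₁, θ', hθ', hψ⟩ := h
  refine ⟨IsIrrCharacter.conjFn hirr g, g₁ * g, θ', hθ', ?_⟩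
  show conjFn N ψ g = conjFn N θ' (g₁ * g)
  rw [conjFn_mul]
  congr 1

omit [Fintype G] in
theorem memB_conjUnion_conj_iff (b : Set (IrrCharacter N)) (ψ : N → ℂ) (g : G) :
    MemB (conjUnion N b) (conjFn N ψ g) ↔ MemB (conjUnion N b) ψ := by
  constructor
  · intro h
    have := memB_conjUnion_conj N b h g⁻¹
    rwa [← conjFn_mul, mul_inv_cancel, conjFn_one] at this
  · intro h
    exact memB_conjUnion_conj N b h g

omit [Fintype G] in
theorem memB_conjUnion_of_memB (b : Set (IrrCharacter N)) {θ : N → ℂ} (h : MemB b θ) :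
    MemB (conjUnion N b) θ := by
  obtain ⟨hirr, hm⟩ := h
  exact ⟨hirr, 1, ⟨θ, hirr⟩, hm, (conjFn_one N θ).symm⟩

variable [Fintype N]

omit [Fintype G] in
open Classical in
/-- The idempotent of the union of conjugates is `G`-invariant. -/
theorem blockCoeff_conjUnion_conj (b : Set (IrrCharacter N)) (g : G) (n : N) :
    blockCoeff (conjUnion N b) (MulAut.conjNormal g n) = blockCoeff (conjUnion N b) n := by
  rw [blockCoeff_eq, blockCoeff_eq]
  congr 1
  symm
  refine Finset.sum_nbij' (fun ψ => conjFn N ψ g⁻¹) (fun ψ => conjFn N ψ g) ?_ ?_ ?_ ?_ ?_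
  · intro ψ hψ
    exact mem_irrFinset.mpr (IsIrrCharacter.conjFn (mem_irrFinset.mp hψ) g⁻¹)
  · intro ψ hψ
    exact mem_irrFinset.mpr (IsIrrCharacter.conjFn (mem_irrFinset.mp hψ) g)
  · intro ψ _
    show conjFn N (conjFn N ψ g⁻¹) g = ψ
    rw [← conjFn_mul, inv_mul_cancel, conjFn_one]
  · intro ψ _
    show conjFn N (conjFn N ψ g) g⁻¹ = ψ
    rw [← conjFn_mul, mul_inv_cancel, conjFn_one]
  · intro ψ _
    rw [if_congr (memB_conjUnion_conj_iff N b ψ g⁻¹) rfl rfl]
    by_cases h : MemB (conjUnion N b) ψ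
    · rw [if_pos h, if_pos h]
      have e1 : conjFn N ψ g⁻¹ 1 = ψ 1 := by
        rw [conjFn_eq_comp]; simp only [map_one]
      have e2 : conjFn N ψ g⁻¹ (MulAut.conjNormal g n) = ψ n := by
        rw [conjFn_eq_comp]
        simp only
        congr 1
        rw [← MulAut.mul_apply, ← map_mul, inv_mul_cancel, map_one, MulAut.one_apply]
      rw [e1, e2]
    · rw [if_neg h, if_neg h]

open Classical in
/-- The idempotent of the union of conjugates, extended by zero. -/
noncomputable def conjIdem (b : Set (IrrCharacter N)) : G → ℂ :=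
  fun x => if h : x ∈ N then blockCoeff (conjUnion N b) (⟨x, h⟩ : N) else 0

omit [Fintype G] [Fintype N] in
theorem conjIdem_coe (b : Set (IrrCharacter N)) (n : N) :
    conjIdem N b (n : G) = blockCoeff (conjUnion N b) n := by
  unfold conjIdem
  rw [dif_pos n.2]

omit [Fintype G] [Fintype N] in
theorem conjIdem_supp (b : Set (IrrCharacter N)) (x : G) (hx : x ∉ N) :
    conjIdem N b x = 0 := by
  unfold conjIdem
  rw [dif_neg hx]

omit [Fintype G] in
theorem conjIdem_isClassFunction (b : Set (IrrCharacter N)) :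
    IsClassFunction G (conjIdem N b) := by
  intro x g
  by_cases hx : x ∈ N
  · have h1 : g * x * g⁻¹ = ((MulAut.conjNormal g (⟨x, hx⟩ : N) : N) : G) := by
      rw [MulAut.conjNormal_apply]
    rw [h1, conjIdem_coe, blockCoeff_conjUnion_conj, ← conjIdem_coe]
  · have hx' : g * x * g⁻¹ ∉ N := by
      intro h
      apply hx
      have := hN.conj_mem _ h g⁻¹
      simpa [mul_assoc] using this
    rw [conjIdem_supp N b _ hx, conjIdem_supp N b _ hx']

omit [Fintype G] in
theorem conjIdem_memLocalRing (hM : M.IsMaximal) (b : Set (IrrCharacter N))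
    (hb : IsPBlock M b) (x : G) : MemLocalRing M (conjIdem N b x) := by
  by_cases hx : x ∈ N
  · have : x = ((⟨x, hx⟩ : N) : G) := rfl
    rw [this, conjIdem_coe]
    exact memLocalRing_blockCoeff_of_closed hM _ (conjUnion_closed N hM b hb) _
  · rw [conjIdem_supp N b _ hx]
    exact memLocalRing_zero hM

open Classical in
/-- The central character of `χ` evaluated at the conjugation-stable idempotent. -/
theorem om_conjIdem (b : Set (IrrCharacter N)) {χ : G → ℂ} (hχ : IsIrrCharacter G χ)
    {θ : N → ℂ} (hθ : IsIrrCharacter N θ) (he : classInner (fun n : N => χ n) θ ≠ 0) :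
    om χ (conjIdem N b) = if MemB (conjUnion N b) θ then 1 else 0 := by
  rw [om_of_supported N (conjIdem_isClassFunction N b) (conjIdem_supp N b) hθ hχ he]
  have := om_blockCoeff (conjUnion N b) hθ
  unfold om at this
  rw [← this]
  congr 1
  refine Finset.sum_congr rfl fun n _ => ?_
  rw [conjIdem_coe]

/-- If `χ` lies over `θ ∈ b`, `χ'` lies over `ψ` and the central characters of `χ, χ'` agree on
`N` modulo the ideal, then `ψ` is conjugate to a member of `b`. -/
theorem memB_conjUnion_of_cover (hM : M.IsMaximal) (b : Set (IrrCharacter N))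
    (hb : IsPBlock M b) {χ χ' : G → ℂ} (hχ : IsIrrCharacter G χ) (hχ' : IsIrrCharacter G χ')
    (hs : ∀ n : N, MemLocalIdeal M (centralChar χ n - centralChar χ' n))
    {θ ψ : N → ℂ} (hθ : IsIrrCharacter N θ) (hψ : IsIrrCharacter N ψ) (hθb : MemB b θ)
    (h1 : classInner (fun n : N => χ n) θ ≠ 0) (h2 : classInner (fun n : N => χ' n) ψ ≠ 0) :
    MemB (conjUnion N b) ψ := by
  classical
  have key := om_sub_mem_of_supp hM
    (IsCharacter.isClassFunction (IsIrrCharacter.isCharacter hχ))
    (IsCharacter.isClassFunction (IsIrrCharacter.isCharacter hχ')) (N : Set G)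
    (fun g hg => hs ⟨g, hg⟩) (conjIdem_isClassFunction N b)
    (conjIdem_memLocalRing N hM b hb) (fun g hg => conjIdem_supp N b g hg)
  rw [om_conjIdem N b hχ hθ h1, om_conjIdem N b hχ' hψ h2,
    if_pos (memB_conjUnion_of_memB N b hθb)] at key
  by_contra hcon
  rw [if_neg hcon, sub_zero] at key
  exact not_memLocalIdeal_one hM key

end Normal

open Classical in
/-- The central character as the value of `om` on a class indicator. -/
theorem centralChar_eq_om_classInd {χ : G → ℂ} (hχ : IsClassFunction G χ) (g : G) :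
    centralChar χ g = om χ (fun x => if IsConj g x then (1 : ℂ) else 0) := by
  unfold om centralChar
  congr 1
  have h1 : ∀ x : G, (if IsConj g x then (1 : ℂ) else 0) * χ x
      = if IsConj x g then χ g else 0 := by
    intro x
    by_cases hc : IsConj g x
    · rw [if_pos hc, if_pos hc.symm, one_mul]
      obtain ⟨t, ht⟩ := isConj_iff.mp hc
      rw [← ht]
      exact hχ g t
    · rw [if_neg hc, if_neg (fun h => hc h.symm), zero_mul]
  rw [Finset.sum_congr rfl (fun x _ => h1 x), ← Finset.sum_filter, Finset.sum_const,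
    nsmul_eq_mul, index_centralizer_eq]

/-- If `χ` lies over `θ` on the normal subgroup `N`, the central character of `χ` on `N` is the
induced central character of `θ`. -/
theorem centralChar_eq_induced_of_over (N : Subgroup G) [hN : N.Normal] [Fintype N]
    {χ : G → ℂ} (hχ : IsIrrCharacter G χ) {θ : N → ℂ} (hθ : IsIrrCharacter N θ)
    (he : classInner (fun n : N => χ n) θ ≠ 0) (n : N) :
    centralChar χ (n : G) = inducedCentralChar N θ (n : G) := by
  classical
  rw [centralChar_eq_om_classInd (IsCharacter.isClassFunction (IsIrrCharacter.isCharacter hχ))]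
  have hδcf : IsClassFunction G (fun x => if IsConj (n : G) x then (1 : ℂ) else 0) := by
    intro x t
    simp only
    have hc : IsConj x (t * x * t⁻¹) := isConj_iff.mpr ⟨t, rfl⟩
    have : IsConj (n : G) (t * x * t⁻¹) ↔ IsConj (n : G) x :=
      ⟨fun h1 => h1.trans hc.symm, fun h1 => h1.trans hc⟩
    rw [if_congr this rfl rfl]
  have hsupp : ∀ x, x ∉ N → (fun x => if IsConj (n : G) x then (1 : ℂ) else 0) x = 0 := by
    intro x hx
    simp only
    rw [if_neg]
    intro hc
    obtain ⟨t, ht⟩ := isConj_iff.mp hc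
    apply hx
    rw [← ht]
    exact hN.conj_mem _ n.2 t
  rw [om_of_supported N hδcf hsupp hθ hχ he, Helper2_InducedBlock.inducedCentralChar_eq_om]
  unfold om Helper2_InducedBlock.classIndOn
  congr 1

end Cfsg.Agent.Lib.Helper2_BlockConj
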