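import Mathlib
import Cfsg.Prelude.Def_Characters
import Cfsg.Prelude.Def_Blocks
import Cfsg.Prelude.Def_BlockRank
import Cfsg.Agent.Lib.Helper2_ClassFn
import Cfsg.Agent.Lib.Helper2_CharBasic
import Cfsg.Agent.Lib.Helper2_CharOrtho
import Cfsg.Agent.Lib.Helper2_CharValues
import Cfsg.Agent.Lib.Helper2_CharSum
import Cfsg.Agent.Lib.Helper2_CharInt
import Cfsg.Agent.Lib.Helper2_ModM
import Cfsg.Agent.Lib.Helper2_Blocks
import Cfsg.Agent.Lib.Helper2_BlockOrtho
import Cfsg.Agent.Lib.Helper2_BlockRank
import Cfsg.Agent.Lib.Helper2_BlockMore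

set_option autoImplicit false

/-!
# Sets of characters satisfying weak block orthogonality are unions of blocks;
the blocks do not depend on the maximal ideal
-/

namespace Cfsg.Agent.Lib.Helper2_BlockIndep

open Cfsg
open Cfsg.Agent.Lib.Helper2_ClassFn
open Cfsg.Agent.Lib.Helper2_CharBasic
open Cfsg.Agent.Lib.Helper2_CharOrtho
open Cfsg.Agent.Lib.Helper2_CharValues
open Cfsg.Agent.Lib.Helper2_CharSum
open Cfsg.Agent.Lib.Helper2_ModM
open Cfsg.Agent.Lib.Helper2_Blocks
open Cfsg.Agent.Lib.Helper2_BlockOrtho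
open Cfsg.Agent.Lib.Helper2_BlockRank
open Cfsg.Agent.Lib.Helper2_BlockMore
open scoped ComplexConjugate

universe u

variable {G : Type u} [Group G] [Fintype G] {M : Ideal AlgInt}

/-- Weak block orthogonality, for a set of irreducible characters. -/
def WBO (p : ℕ) (A : Set (IrrCharacter G)) : Prop :=
  ∀ x y : G, ¬ p ∣ orderOf x → p ∣ orderOf y →
    ∑ᶠ χ ∈ A, (χ : G → ℂ) x * conj ((χ : G → ℂ) y) = 0

theorem wbo_blockOf {p : ℕ} (hM : IsPModular p M) (χ₀ : IrrCharacter G) :
    WBO p (blockOf M (χ₀ : G → ℂ)) := fun x y hx hy => wbo_finsum hM χ₀ x y hx hy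

/-- An integral combination of irreducible characters that vanishes on the `p`-singular elements
has degree divisible by the full power of `p`. -/
theorem isIntegral_div_of_vanish (p : ℕ) [hp : Fact p.Prime] (c : (G → ℂ) → ℂ)
    (hc : ∀ ψ ∈ irrFinset G, IsIntegral ℤ (c ψ))
    (hv : ∀ y : G, p ∣ orderOf y → ∑ ψ ∈ irrFinset G, c ψ * ψ y = 0) :
    IsIntegral ℤ ((∑ ψ ∈ irrFinset G, c ψ * ψ 1) / ((p ^ (Nat.card G).factorization p : ℕ) : ℂ)) := by
  classical
  obtain S : Sylow p G := default
  haveI : Fintype (S : Subgroup G) := Fintype.ofFinite _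
  have hcardS : Nat.card (S : Subgroup G) = p ^ (Nat.card G).factorization p :=
    Sylow.card_eq_multiplicity S
  set θ : G → ℂ := fun y => ∑ ψ ∈ irrFinset G, c ψ * ψ y with hθ
  have hsum : ∑ u : (S : Subgroup G), θ u * conj ((fun _ : (S : Subgroup G) => (1 : ℂ)) u)
      = θ 1 := by
    rw [Finset.sum_eq_single (1 : (S : Subgroup G))]
    · simp
    · intro u _ hu
      have hne : (u : G) ≠ 1 := fun h => hu (Subtype.ext h)
      have h1 : orderOf (u : G) ∣ p ^ (Nat.card G).factorization p := by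
        rw [← hcardS, Subgroup.orderOf_coe]
        exact orderOf_dvd_natCard u
      obtain ⟨j, _, hj⟩ := (Nat.dvd_prime_pow hp.out).mp h1
      have hj0 : j ≠ 0 := by
        intro h0
        rw [h0, pow_zero, orderOf_eq_one_iff] at hj
        exact hne hj
      have hdvd : p ∣ orderOf (u : G) := by
        rw [hj]
        exact dvd_pow_self p hj0
      show θ (u : G) * _ = 0
      rw [hθ]
      simp only
      rw [hv _ hdvd, zero_mul]
    · intro h
      exact absurd (Finset.mem_univ _) h
  have h1 : classInner (fun u : (S : Subgroup G) => θ u) (fun _ : (S : Subgroup G) => (1 : ℂ))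
      = θ 1 / ((p ^ (Nat.card G).factorization p : ℕ) : ℂ) := by
    rw [classInner_def, hsum, hcardS]
    field_simp
  have h2 : (fun u : (S : Subgroup G) => θ u)
      = ∑ ψ ∈ irrFinset G, c ψ • (fun u : (S : Subgroup G) => ψ u) := by
    funext u
    rw [Finset.sum_apply]
    rfl
  have h3 : IsIntegral ℤ (classInner (fun u : (S : Subgroup G) => θ u)
      (fun _ : (S : Subgroup G) => (1 : ℂ))) := by
    rw [h2, classInner_sum_left]
    apply IsIntegral.sum
    intro ψ hψ
    rw [classInner_smul_left]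
    apply IsIntegral.mul (hc ψ hψ)
    have hS := IsCharacter.restrict (IsIrrCharacter.isCharacter (mem_irrFinset.mp hψ))
      (S : Subgroup G)
    obtain ⟨n, hn⟩ := IsCharacter.classInner_irr_nat hS
      (isIrrCharacter_one (G := (S : Subgroup G)))
    rw [hn]
    exact isIntegral_nat n
  rw [h1] at h3
  exact h3

open Classical in
/-- The idempotent of a set of characters satisfying weak block orthogonality has local-integral
coefficients, for every maximal ideal over `p`. -/
theorem memLocalRing_blockCoeff_of_wbo {p : ℕ} [hp : Fact p.Prime] (hM : IsPModular p M)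
    (A : Set (IrrCharacter G)) (hA : WBO p A) (g : G) : MemLocalRing M (blockCoeff A g) := by
  have hMm := hM.2.1
  have h1 : ¬ p ∣ orderOf (1 : G) := by
    rw [orderOf_one]
    exact hp.out.one_lt.ne' ∘ Nat.dvd_one.mp
  by_cases hg : p ∣ orderOf g
  · unfold blockCoeff
    rw [hA 1 g h1 hg, mul_zero]
    exact memLocalRing_zero hMm
  · set c : (G → ℂ) → ℂ := fun ψ => if MemB A ψ then conj (ψ g) else 0 with hc
    have hcint : ∀ ψ ∈ irrFinset G, IsIntegral ℤ (c ψ) := by
      intro ψ hψ
      rw [hc]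
      simp only
      split_ifs
      · have hch := IsIrrCharacter.isCharacter (mem_irrFinset.mp hψ)
        rw [← IsCharacter.apply_inv hch]
        exact IsCharacter.isIntegral hch _
      · exact isIntegral_zero
    have hv : ∀ y : G, p ∣ orderOf y → ∑ ψ ∈ irrFinset G, c ψ * ψ y = 0 := by
      intro y hy
      have h2 := hA g y hg hy
      rw [finsum_mem_eq_sum A (fun ψ => ψ g * conj (ψ y))] at h2
      have h3 := congrArg conj h2
      rw [map_sum, map_zero] at h3
      refine Eq.trans ?_ h3
      refine Finset.sum_congr rfl fun ψ _ => ?_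
      rw [hc]
      simp only
      split_ifs
      · rw [map_mul, Complex.conj_conj]
      · rw [zero_mul, map_zero]
    have key := isIntegral_div_of_vanish p c hcint hv
    have h4 : blockCoeff A g = (∑ ψ ∈ irrFinset G, c ψ * ψ 1) / (Nat.card G : ℂ) := by
      rw [blockCoeff_eq, div_eq_inv_mul]
      congr 1
      refine Finset.sum_congr rfl fun ψ _ => ?_
      rw [hc]
      simp only
      split_ifs
      · rw [mul_comm]
      · rw [zero_mul]
    set a := (Nat.card G).factorization p with ha
    have hcard : Nat.card G = p ^ a * (Nat.card G / p ^ a) :=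
      (Nat.ordProj_mul_ordCompl_eq_self (Nat.card G) p).symm
    have hcop : (Nat.card G / p ^ a).Coprime p :=
      (Nat.coprime_ordCompl hp.out Nat.card_pos.ne').symm
    have h5 : blockCoeff A g = ((∑ ψ ∈ irrFinset G, c ψ * ψ 1) / ((p ^ a : ℕ) : ℂ))
        * ((Nat.card G / p ^ a : ℕ) : ℂ)⁻¹ := by
      rw [h4]
      conv_lhs => rw [hcard]
      rw [Nat.cast_mul, div_mul_eq_div_div, div_eq_mul_inv _ ((Nat.card G / p ^ a : ℕ) : ℂ)]
    rw [h5]
    exact memLocalRing_mul hMm (memLocalRing_of_isIntegral hMm key)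
      (memLocalRing_natCast_inv hM _ hcop)

/-- A set of characters satisfying weak block orthogonality is a union of blocks. -/
theorem mem_of_wbo {p : ℕ} [hp : Fact p.Prime] (hM : IsPModular p M)
    (A : Set (IrrCharacter G)) (hA : WBO p A) {χ ψ : IrrCharacter G} (hχ : χ ∈ A)
    (h : SameBlock M (χ : G → ℂ) (ψ : G → ℂ)) : ψ ∈ A :=
  mem_of_sameBlock hM.2.1 A (memLocalRing_blockCoeff_of_wbo hM A hA) hχ h

/-- The blocks do not depend on the choice of the maximal ideal over `p`. -/
theorem sameBlock_indep {p : ℕ} [hp : Fact p.Prime] {M' : Ideal AlgInt} (hM : IsPModular p M)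
    (hM' : IsPModular p M') (χ ψ : IrrCharacter G)
    (h : SameBlock M (χ : G → ℂ) (ψ : G → ℂ)) : SameBlock M' (χ : G → ℂ) (ψ : G → ℂ) :=
  mem_of_wbo hM (blockOf M' (χ : G → ℂ)) (wbo_blockOf hM' χ) (self_mem_blockOf hM'.2.1 χ) h

theorem blockOf_indep {p : ℕ} [hp : Fact p.Prime] {M' : Ideal AlgInt} (hM : IsPModular p M)
    (hM' : IsPModular p M') (χ : IrrCharacter G) :
    blockOf M (χ : G → ℂ) = blockOf M' (χ : G → ℂ) := by
  ext ψ
  exact ⟨sameBlock_indep hM hM' χ ψ, sameBlock_indep hM' hM χ ψ⟩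

/-- An algebraic integer in the local ideal lies in the ideal. -/
theorem mem_of_memLocalIdeal (hM : M.IsMaximal) {z : ℂ} (hz : IsIntegral ℤ z)
    (h : MemLocalIdeal M z) : (⟨z, hz⟩ : AlgInt) ∈ M := by
  obtain ⟨a, b, ha, hb, hab⟩ := h
  have hb0 := coe_ne_zero_of_not_mem hb
  have h1 : (⟨z, hz⟩ : AlgInt) * b = a := by
    apply Subtype.ext
    push_cast
    rw [← hab]
    field_simp
  have h2 : (⟨z, hz⟩ : AlgInt) * b ∈ M := by rw [h1]; exact ha
  rcases hM.isPrime.mem_or_mem h2 with h | h
  · exact h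
  · exact absurd h hb

end Cfsg.Agent.Lib.Helper2_BlockIndep
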