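import Mathlib
import Cfsg.Prelude.Def_Characters
import Cfsg.Prelude.Def_Blocks
import Cfsg.Prelude.Def_BlockRank
import Cfsg.Agent.Lib.Helper2_ClassFn
import Cfsg.Agent.Lib.Helper2_CharBasic
import Cfsg.Agent.Lib.Helper2_CharOrtho
import Cfsg.Agent.Lib.Helper2_Clifford
import Cfsg.Agent.Lib.Helper2_CharMore
import Cfsg.Agent.Lib.Helper2_CharValues
import Cfsg.Agent.Lib.Helper2_CharDeg
import Cfsg.Agent.Lib.Helper2_CharSum
import Cfsg.Agent.Lib.Helper2_CharExtra
import Cfsg.Agent.Lib.Helper2_CharInt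
import Cfsg.Agent.Lib.Helper2_CharBurnside
import Cfsg.Agent.Lib.Helper2_ModM
import Cfsg.Agent.Lib.Helper2_Blocks
import Cfsg.Agent.Lib.Helper2_BlockOrtho
import Cfsg.Agent.Lib.Helper2_BlockRank
import Cfsg.Agent.Lib.Helper2_BlockMore
import Cfsg.Agent.Lib.Helper2_BlockNormal

set_option autoImplicit false

/-!
# The kernel of a block
-/

namespace Cfsg.Agent.Lib.Helper2_BlockKer

open Cfsg
open Cfsg.Agent.Lib.Helper2_ClassFn
open Cfsg.Agent.Lib.Helper2_CharBasic
open Cfsg.Agent.Lib.Helper2_CharOrtho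
open Cfsg.Agent.Lib.Helper2_Clifford
open Cfsg.Agent.Lib.Helper2_CharMore
open Cfsg.Agent.Lib.Helper2_CharValues
open Cfsg.Agent.Lib.Helper2_CharDeg
open Cfsg.Agent.Lib.Helper2_CharSum
open Cfsg.Agent.Lib.Helper2_CharExtra
open Cfsg.Agent.Lib.Helper2_CharBurnside
open Cfsg.Agent.Lib.Helper2_ModM
open Cfsg.Agent.Lib.Helper2_Blocks
open Cfsg.Agent.Lib.Helper2_BlockOrtho
open Cfsg.Agent.Lib.Helper2_BlockRank
open Cfsg.Agent.Lib.Helper2_BlockMore
open Cfsg.Agent.Lib.Helper2_BlockNormal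
open scoped ComplexConjugate

universe u

variable {G : Type u} [Group G] [Fintype G] {M : Ideal AlgInt}

/-- A character lies over the trivial character of a normal subgroup iff the subgroup is in its
kernel. -/
theorem trivial_on_iff_constituent (N : Subgroup G) [hN : N.Normal] [Fintype N] {χ : G → ℂ}
    (hχ : IsIrrCharacter G χ) :
    (∀ n ∈ N, χ n = χ 1) ↔ classInner (fun n : N => χ n) (fun _ : N => (1 : ℂ)) ≠ 0 := by
  classical
  have h1N : IsIrrCharacter N (fun _ : N => (1 : ℂ)) := isIrrCharacter_one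
  constructor
  · intro h
    have : (fun n : N => χ n) = χ 1 • (fun _ : N => (1 : ℂ)) := by
      funext n
      rw [Pi.smul_apply, smul_eq_mul, mul_one]
      exact h n n.2
    rw [this, classInner_smul_left, classInner_irr_self h1N, mul_one]
    obtain ⟨d, hdpos, hd⟩ := IsIrrCharacter.apply_one hχ
    rw [hd]
    exact_mod_cast hdpos.ne'
  · intro h2
    have hcl := clifford N hχ h1N h2
    have himg : Finset.univ.image (conjFn N (fun _ : N => (1 : ℂ))) = {fun _ : N => (1 : ℂ)} := by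
      ext φ
      simp only [Finset.mem_image, Finset.mem_univ, true_and, Finset.mem_singleton]
      constructor
      · rintro ⟨x, rfl⟩
        rfl
      · rintro rfl
        exact ⟨1, rfl⟩
    rw [himg, Finset.sum_singleton] at hcl
    intro n hn
    have e1 := congrFun hcl ⟨n, hn⟩
    have e2 := congrFun hcl 1
    simp only [Pi.smul_apply, smul_eq_mul, mul_one, OneMemClass.coe_one] at e1 e2
    rw [e1, e2]

/-- Normal `p'`-subgroups in the kernel of one character of a block are in the kernel of all. -/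
theorem trivial_on_of_sameBlock {p : ℕ} (hM : IsPModular p M) (N : Subgroup G) [hN : N.Normal]
    (hNp : (Nat.card N).Coprime p) {χ ψ : G → ℂ} (hχ : IsIrrCharacter G χ)
    (hψ : IsIrrCharacter G ψ) (h : SameBlock M χ ψ) (hk : ∀ n ∈ N, χ n = χ 1) :
    ∀ n ∈ N, ψ n = ψ 1 := by
  classical
  haveI : Fintype N := Fintype.ofFinite _
  rw [trivial_on_iff_constituent N hψ]
  rw [trivial_on_iff_constituent N hχ] at hk
  exact (constituent_iff_of_sameBlock hM N hNp hχ hψ h isIrrCharacter_one).mp hk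

theorem apply_one_eq_charDegree {χ : G → ℂ} (hχ : IsIrrCharacter G χ) :
    χ 1 = (charDegree χ : ℂ) ∧ 0 < charDegree χ := by
  obtain ⟨d, hdpos, hd⟩ := IsIrrCharacter.apply_one hχ
  rw [charDegree_eq' hd]
  exact ⟨hd, hdpos⟩

/-- No `p`-singular element lies in the kernel of a whole block. -/
theorem not_singular_of_mem_blockKer {p : ℕ} [hp : Fact p.Prime] (hM : IsPModular p M)
    (χ₀ : IrrCharacter G) (y : G) (hy : y ∈ blockKer (blockOf M (χ₀ : G → ℂ))) :
    ¬ p ∣ orderOf y := by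
  classical
  intro hpy
  have h1 : ¬ p ∣ orderOf (1 : G) := by
    rw [orderOf_one]
    exact hp.out.one_lt.ne' ∘ Nat.dvd_one.mp
  have h0 := weak_block_orthogonality hM χ₀.2 1 y h1 hpy
  have h2 : ∑ ψ ∈ irrFinset G, (if SameBlock M (χ₀ : G → ℂ) ψ then ψ 1 * conj (ψ y) else 0)
      = ((∑ ψ ∈ irrFinset G, (if SameBlock M (χ₀ : G → ℂ) ψ then (charDegree ψ) ^ 2 else 0 : ℕ)
          : ℕ) : ℂ) := by
    rw [Nat.cast_sum]
    refine Finset.sum_congr rfl fun ψ hψ => ?_
    split_ifs with hs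
    · have hψ' := mem_irrFinset.mp hψ
      have := hy ⟨ψ, hψ'⟩ hs
      simp only at this
      rw [this, (apply_one_eq_charDegree hψ').1]
      simp [sq]
    · simp
  rw [h2] at h0
  have h3 : (∑ ψ ∈ irrFinset G,
      (if SameBlock M (χ₀ : G → ℂ) ψ then (charDegree ψ) ^ 2 else 0 : ℕ)) = 0 := by
    exact_mod_cast h0
  rw [Finset.sum_eq_zero_iff] at h3
  have h4 := h3 (χ₀ : G → ℂ) (mem_irrFinset.mpr χ₀.2)
  rw [if_pos (sameBlock_refl hM.2.1 _)] at h4
  have := (apply_one_eq_charDegree χ₀.2).2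
  have h5 : charDegree (χ₀ : G → ℂ) = 0 := by
    rcases Nat.eq_zero_or_pos (charDegree (χ₀ : G → ℂ)) with h | h
    · exact h
    · exact absurd h4 (pow_pos h 2).ne'
  omega

end Cfsg.Agent.Lib.Helper2_BlockKer
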