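import Mathlib
import Cfsg.Prelude.Def_Characters
import Cfsg.Prelude.Def_Blocks
import Cfsg.Prelude.Def_BlockRank
import Cfsg.Agent.Lib.Helper2_ClassFn
import Cfsg.Agent.Lib.Helper2_CharBasic
import Cfsg.Agent.Lib.Helper2_CharOrtho
import Cfsg.Agent.Lib.Helper2_CharValues
import Cfsg.Agent.Lib.Helper2_CharComplete
import Cfsg.Agent.Lib.Helper2_CharSum
import Cfsg.Agent.Lib.Helper2_CharCentral
import Cfsg.Agent.Lib.Helper2_CharInt
import Cfsg.Agent.Lib.Helper2_ModM
import Cfsg.Agent.Lib.Helper2_Blocks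
import Cfsg.Agent.Lib.Helper2_BlockOrtho
import Cfsg.Agent.Lib.Helper2_BlockRank
import Cfsg.Agent.Lib.Helper2_BlockMore
import Cfsg.Agent.Lib.Helper2_BlockIndep

set_option autoImplicit false

/-!
# The order of a defect group
-/

namespace Cfsg.Agent.Lib.Helper2_DefectGroup

open Cfsg
open Cfsg.Agent.Lib.Helper2_ClassFn
open Cfsg.Agent.Lib.Helper2_CharBasic
open Cfsg.Agent.Lib.Helper2_CharOrtho
open Cfsg.Agent.Lib.Helper2_CharValues
open Cfsg.Agent.Lib.Helper2_CharComplete
open Cfsg.Agent.Lib.Helper2_CharSum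
open Cfsg.Agent.Lib.Helper2_CharCentral
open Cfsg.Agent.Lib.Helper2_CharInt
open Cfsg.Agent.Lib.Helper2_ModM
open Cfsg.Agent.Lib.Helper2_Blocks
open Cfsg.Agent.Lib.Helper2_BlockOrtho
open Cfsg.Agent.Lib.Helper2_BlockRank
open Cfsg.Agent.Lib.Helper2_BlockMore
open Cfsg.Agent.Lib.Helper2_BlockIndep
open scoped ComplexConjugate

universe u

section Gen

variable {H : Type u} [Group H]

/-- The product of a `p`-regular element with a commuting nontrivial `p`-element is
`p`-singular. -/
theorem singular_of_mul {p : ℕ} [hp : Fact p.Prime] {g w : H} (hcomm : Commute g w)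
    (hg : ¬ p ∣ orderOf g) (hw : ∃ j : ℕ, orderOf w = p ^ j) (hw1 : w ≠ 1) :
    p ∣ orderOf (g * w) := by
  by_contra h
  obtain ⟨j, hj⟩ := hw
  have h1 : w = g⁻¹ * (g * w) := by group
  have hc : Commute g⁻¹ (g * w) := ((Commute.refl g).mul_right hcomm).inv_left
  have h2 : orderOf w ∣ Nat.lcm (orderOf g⁻¹) (orderOf (g * w)) := by
    have := hc.orderOf_mul_dvd_lcm
    rwa [← h1] at this
  rw [orderOf_inv] at h2
  have h3 : ¬ p ∣ orderOf w := fun hp' => by
    have := dvd_trans hp' (dvd_trans h2 (Nat.lcm_dvd_mul _ _))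
    rcases (Nat.Prime.dvd_mul hp.out).mp this with h' | h'
    exacts [hg h', h h']
  rw [hj] at h3
  have hj0 : j = 0 := by
    by_contra hne
    exact h3 (dvd_pow_self p hne)
  rw [hj0, pow_zero, orderOf_eq_one_iff] at hj
  exact hw1 hj

variable [Fintype H]

theorem card_class_central (z : H) (hz : ∀ h : H, z * h = h * z)
    [DecidablePred fun x : H => IsConj x z] :
    (Finset.univ.filter (fun x : H => IsConj x z)).card = 1 := by
  rw [Finset.card_eq_one]
  refine ⟨z, ?_⟩
  ext x
  simp only [Finset.mem_filter, Finset.mem_univ, true_and, Finset.mem_singleton]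
  constructor
  · intro hc
    obtain ⟨c, hc⟩ := isConj_iff.mp hc
    have : x = c⁻¹ * z * c := by rw [← hc]; group
    rw [this, mul_assoc, hz c, ← mul_assoc, inv_mul_cancel, one_mul]
  · rintro rfl
    exact IsConj.refl _

theorem isIntegral_central_div {ν : H → ℂ} (hν : IsIrrCharacter H ν) (z : H)
    (hz : ∀ h : H, z * h = h * z) : IsIntegral ℤ (ν z / ν 1) := by
  classical
  have := isIntegral_omega hν z
  rw [card_class_central z hz, Nat.cast_one, one_mul] at this
  exact this

/-- Averaging a character over a coset `z P` of a subgroup, `z` central. -/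
theorem isIntegral_avg_central {ψ : H → ℂ} (hψ : IsCharacter H ψ) (z : H)
    (hz : ∀ h : H, z * h = h * z) (P : Subgroup H) [Fintype P] :
    IsIntegral ℤ ((Nat.card P : ℂ)⁻¹ * ∑ w : P, ψ (z * (w : H))) := by
  classical
  have hexp := IsClassFunction.expansion (IsCharacter.isClassFunction hψ)
  have h1 : ∀ w : P, ψ (z * (w : H))
      = ∑ ν ∈ irrFinset H, classInner ψ ν * (ν z / ν 1) * ν (w : H) := by
    intro w
    conv_lhs => rw [hexp]
    rw [Finset.sum_apply]
    refine Finset.sum_congr rfl fun ν hν => ?_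
    rw [Pi.smul_apply, smul_eq_mul, apply_central_mul (mem_irrFinset.mp hν) z hz]
    ring
  simp_rw [h1]
  rw [Finset.sum_comm, Finset.mul_sum]
  apply IsIntegral.sum
  intro ν hν
  have hνirr := mem_irrFinset.mp hν
  obtain ⟨n, hn⟩ := IsCharacter.classInner_irr_nat hψ hνirr
  rw [hn]
  have h2 : (Nat.card P : ℂ)⁻¹ * ∑ w : P, (n : ℂ) * (ν z / ν 1) * ν (w : H)
      = (n : ℂ) * (ν z / ν 1) *
        classInner (fun w : P => ν w) (fun _ : P => (1 : ℂ)) := by
    rw [classInner_def, Finset.mul_sum, Finset.mul_sum, Finset.mul_sum]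
    refine Finset.sum_congr rfl fun w _ => ?_
    simp only [map_one, mul_one]
    ring
  rw [h2]
  obtain ⟨n', hn'⟩ := IsCharacter.classInner_irr_nat
    (IsCharacter.restrict (IsIrrCharacter.isCharacter hνirr) P) (isIrrCharacter_one (G := P))
  rw [hn']
  exact IsIntegral.mul (IsIntegral.mul (isIntegral_nat n) (isIntegral_central_div hνirr z hz))
    (isIntegral_nat n')

end Gen

variable {G : Type u} [Group G] [Fintype G] {M : Ideal AlgInt}

/-- An integral combination of irreducible characters that vanishes on the `p`-singular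
elements has value at a `p`-regular element `g` divisible by the `p`-part of `|C|`, for any
subgroup `C` of the centralizer of `g` containing `g`. -/
theorem isIntegral_div_of_vanish_aux (p : ℕ) [hp : Fact p.Prime] (c : (G → ℂ) → ℂ)
    (hc : ∀ ψ ∈ irrFinset G, IsIntegral ℤ (c ψ))
    (hv : ∀ y : G, p ∣ orderOf y → ∑ ψ ∈ irrFinset G, c ψ * ψ y = 0)
    (g : G) (hg : ¬ p ∣ orderOf g) (C : Subgroup G) (hgC : g ∈ C)
    (hCg : ∀ h ∈ C, h * g = g * h) :
    IsIntegral ℤ ((∑ ψ ∈ irrFinset G, c ψ * ψ g) /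
      ((p ^ (Nat.card C).factorization p : ℕ) : ℂ)) := by
  classical
  haveI : Fintype C := Fintype.ofFinite _
  obtain P : Sylow p C := default
  haveI : Fintype (P : Subgroup C) := Fintype.ofFinite _
  have hcardP : Nat.card (P : Subgroup C) = p ^ (Nat.card C).factorization p :=
    Sylow.card_eq_multiplicity P
  set z : C := ⟨g, hgC⟩ with hz
  have hzc : ∀ h : C, z * h = h * z := by
    intro h
    apply Subtype.ext
    show g * (h : G) = (h : G) * g
    exact (hCg h h.2).symm
  set θ : G → ℂ := fun y => ∑ ψ ∈ irrFinset G, c ψ * ψ y with hθ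
  have hsum : ∑ w : (P : Subgroup C), θ (g * ((w : C) : G)) = θ g := by
    rw [Finset.sum_eq_single (1 : (P : Subgroup C))]
    · simp
    · intro w _ hw
      have hne : ((w : C) : G) ≠ 1 := fun h => hw (Subtype.ext (Subtype.ext h))
      have h1 : orderOf ((w : C) : G) ∣ p ^ (Nat.card C).factorization p := by
        rw [← hcardP, Subgroup.orderOf_coe, Subgroup.orderOf_coe]
        exact orderOf_dvd_natCard w
      obtain ⟨j, _, hj⟩ := (Nat.dvd_prime_pow hp.out).mp h1
      have hcomm : Commute g ((w : C) : G) := (hCg _ (w : C).2).symm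
      exact hv _ (singular_of_mul hcomm hg ⟨j, hj⟩ hne)
    · intro h
      exact absurd (Finset.mem_univ _) h
  have h2 : θ g / ((p ^ (Nat.card C).factorization p : ℕ) : ℂ)
      = ∑ ψ ∈ irrFinset G, c ψ * ((Nat.card (P : Subgroup C) : ℂ)⁻¹ *
          ∑ w : (P : Subgroup C), (fun h : C => ψ h) (z * (w : C))) := by
    rw [← hsum, hcardP, div_eq_inv_mul]
    simp only [hθ]
    rw [Finset.sum_comm, Finset.mul_sum]
    refine Finset.sum_congr rfl fun ψ _ => ?_
    rw [Finset.mul_sum, Finset.mul_sum, Finset.mul_sum]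
    refine Finset.sum_congr rfl fun w _ => ?_
    show _ = c ψ * (_ * ψ ((z * (w : C) : C) : G))
    rw [Subgroup.coe_mul]
    ring
  show IsIntegral ℤ (θ g / _)
  rw [h2]
  apply IsIntegral.sum
  intro ψ hψ
  apply IsIntegral.mul (hc ψ hψ)
  exact isIntegral_avg_central
    (IsCharacter.restrict (IsIrrCharacter.isCharacter (mem_irrFinset.mp hψ)) C) z hzc
    (P : Subgroup C)

theorem isIntegral_div_centralizer_of_vanish (p : ℕ) [hp : Fact p.Prime] (c : (G → ℂ) → ℂ)
    (hc : ∀ ψ ∈ irrFinset G, IsIntegral ℤ (c ψ))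
    (hv : ∀ y : G, p ∣ orderOf y → ∑ ψ ∈ irrFinset G, c ψ * ψ y = 0)
    (g : G) (hg : ¬ p ∣ orderOf g) :
    IsIntegral ℤ ((∑ ψ ∈ irrFinset G, c ψ * ψ g) /
      ((p ^ (Nat.card (Subgroup.centralizer ({g} : Set G))).factorization p : ℕ) : ℂ)) :=
  isIntegral_div_of_vanish_aux p c hc hv g hg _
    (Subgroup.mem_centralizer_singleton_iff.mpr rfl)
    (fun _ hh => Subgroup.mem_centralizer_singleton_iff.mp hh)

/-- Defect classes consist of `p`-regular elements. -/
theorem regular_of_isDefectClass {p : ℕ} [hp : Fact p.Prime] (hM : IsPModular p M)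
    (χ₀ : IrrCharacter G) {g : G} (hg : IsDefectClass M (blockOf M (χ₀ : G → ℂ)) g) :
    ¬ p ∣ orderOf g := by
  intro h
  apply hg.2.1
  have h1 : ¬ p ∣ orderOf (1 : G) := by
    rw [orderOf_one]
    exact hp.out.one_lt.ne' ∘ Nat.dvd_one.mp
  unfold blockCoeff
  rw [wbo_finsum hM χ₀ 1 g h1 h, mul_zero]
  exact memLocalIdeal_zero hM.2.1

theorem memLocalIdeal_p {p : ℕ} (hM : IsPModular p M) : MemLocalIdeal M (p : ℂ) := by
  have := memLocalIdeal_of_mem hM.2.1 hM.2.2
  simpa using this

/-- If the central character value at `g` is a unit, the `p`-part of the class size is at most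
the `p`-part of the degree. -/
theorem factorization_index_le {p : ℕ} [hp : Fact p.Prime] (hM : IsPModular p M) {χ : G → ℂ}
    (hχ : IsIrrCharacter G χ) (g : G) (h : ¬ MemLocalIdeal M (centralChar χ g)) :
    (Subgroup.centralizer ({g} : Set G)).index.factorization p
      ≤ (charDegree χ).factorization p := by
  classical
  by_contra hlt
  push Not at hlt
  have hMm := hM.2.1
  obtain ⟨d, hdpos, hd⟩ := IsIrrCharacter.apply_one hχ
  rw [charDegree_eq' hd] at hlt
  set i := (Subgroup.centralizer ({g} : Set G)).index with hi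
  have hi0 : i ≠ 0 := Subgroup.index_ne_zero_of_finite
  set k := i.factorization p with hk
  set md := d.factorization p with hmd
  obtain ⟨t, ht⟩ : ∃ t, k = md + t + 1 := ⟨k - md - 1, by omega⟩
  have hi' : i = p ^ k * (i / p ^ k) := (Nat.ordProj_mul_ordCompl_eq_self i p).symm
  have hd' : d = p ^ md * (d / p ^ md) := (Nat.ordProj_mul_ordCompl_eq_self d p).symm
  have hcop : (d / p ^ md).Coprime p := (Nat.coprime_ordCompl hp.out hdpos.ne').symm
  set i' := i / p ^ k with hi'def
  set d' := d / p ^ md with hd'def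
  have hd'0 : (d' : ℂ) ≠ 0 := by
    intro h0
    have : d' = 0 := by exact_mod_cast h0
    rw [this, mul_zero] at hd'
    omega
  have hp0 : (p : ℂ) ≠ 0 := by exact_mod_cast hp.out.ne_zero
  have hic : (i : ℂ) = (p : ℂ) ^ (md + t + 1) * (i' : ℂ) := by
    rw [← ht]
    exact_mod_cast hi'
  have hdc : (d : ℂ) = (p : ℂ) ^ md * (d' : ℂ) := by exact_mod_cast hd'
  apply h
  have e : centralChar χ g = (((p ^ t * i' : ℕ) : ℂ) * χ g * (d' : ℂ)⁻¹) * (p : ℂ) := by
    unfold centralChar
    rw [← hi, hd, hic, hdc]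
    push_cast
    field_simp
    ring
  rw [e]
  apply memLocalIdeal_mul_ring hMm (memLocalIdeal_p hM)
  apply memLocalRing_mul hMm
  · apply memLocalRing_mul hMm (memLocalRing_of_isIntegral hMm (isIntegral_nat _))
    exact memLocalRing_of_isIntegral hMm
      (IsCharacter.isIntegral (IsIrrCharacter.isCharacter hχ) g)
  · exact memLocalRing_natCast_inv hM _ hcop

/-- **The order of a defect group** is `p` to the defect of the block. -/
theorem card_defectGroup {p : ℕ} [hp : Fact p.Prime] (hM : IsPModular p M)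
    (χ₀ : IrrCharacter G) (D : Subgroup G)
    (hD : IsDefectGroup p M (blockOf M (χ₀ : G → ℂ)) D) :
    Nat.card D = p ^ blockDefect p (blockOf M (χ₀ : G → ℂ)) := by
  classical
  have hMm := hM.2.1
  obtain ⟨g, hg, P, rfl⟩ := hD
  have hgreg := regular_of_isDefectClass hM χ₀ hg
  set B := blockOf M (χ₀ : G → ℂ) with hB
  rw [Subgroup.card_map_of_injective (Subgroup.subtype_injective _),
    Sylow.card_eq_multiplicity P]
  congr 1
  set a := (Nat.card G).factorization p with ha
  set δ := (Nat.card (Subgroup.centralizer ({g} : Set G))).factorization p with hδ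
  set k := (Subgroup.centralizer ({g} : Set G)).index.factorization p with hk
  have hak : a = δ + k := by
    rw [ha, ← Subgroup.card_mul_index (Subgroup.centralizer ({g} : Set G)),
      Nat.factorization_mul Nat.card_pos.ne' Subgroup.index_ne_zero_of_finite, Finsupp.add_apply]
  -- the minimal degree
  set S := (fun χ : IrrCharacter G => (charDegree (χ : G → ℂ)).factorization p) '' B with hS
  have hne : S.Nonempty := ⟨_, χ₀, self_mem_blockOf hMm χ₀, rfl⟩
  set m := sInf S with hm
  obtain ⟨χ₁, hχ₁, h1⟩ := Nat.sInf_mem hne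
  have hmle : ∀ χ ∈ B, m ≤ (charDegree ((χ : IrrCharacter G) : G → ℂ)).factorization p :=
    fun χ hχ => Nat.sInf_le ⟨χ, hχ, rfl⟩
  have hkm : k ≤ m := by
    have := factorization_index_le hM χ₁.2 g (hg.2.2 χ₁ hχ₁)
    rw [← hm] at h1
    rw [← h1]
    exact this
  have hbd : blockDefect p B = a - m := rfl
  rw [hbd]
  suffices hle : m + δ ≤ a by omega
  by_contra hlt
  push Not at hlt
  obtain ⟨t, ht⟩ : ∃ t, m + δ = a + t + 1 := ⟨m + δ - a - 1, by omega⟩
  -- the character `η`
  set c : (G → ℂ) → ℂ := fun ψ => if MemB B ψ then ((charDegree ψ / p ^ m : ℕ) : ℂ) else 0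
    with hc
  have hcint : ∀ ψ ∈ irrFinset G, IsIntegral ℤ (c ψ) := by
    intro ψ _
    rw [hc]
    simp only
    split_ifs
    · exact isIntegral_nat _
    · exact isIntegral_zero
  have hpm0 : ((p ^ m : ℕ) : ℂ) ≠ 0 := by
    exact_mod_cast (pow_pos hp.out.pos m).ne'
  have hdeg : ∀ ψ, MemB B ψ → ψ 1 = ((p ^ m : ℕ) : ℂ) * c ψ := by
    intro ψ hψB
    obtain ⟨hψ, hmem⟩ := hψB
    obtain ⟨d, hdpos, hd⟩ := IsIrrCharacter.apply_one hψ
    have hcd := charDegree_eq' hd
    have hle := hmle ⟨ψ, hψ⟩ hmem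
    simp only at hle
    rw [hcd] at hle
    have hdvd : p ^ m ∣ d := (hp.out.pow_dvd_iff_le_factorization hdpos.ne').mpr hle
    rw [hc]
    simp only
    rw [if_pos ⟨hψ, hmem⟩, hcd, hd, ← Nat.cast_mul, Nat.mul_div_cancel' hdvd]
  have h1G : ¬ p ∣ orderOf (1 : G) := by
    rw [orderOf_one]
    exact hp.out.one_lt.ne' ∘ Nat.dvd_one.mp
  have hcreal : ∀ ψ, conj (c ψ) = c ψ := by
    intro ψ
    rw [hc]
    simp only
    split_ifs
    · exact Complex.conj_natCast _
    · exact map_zero _
  have hsumconj : ∀ y : G, ∑ ψ ∈ irrFinset G, (if MemB B ψ then ψ 1 * conj (ψ y) else 0)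
      = ((p ^ m : ℕ) : ℂ) * conj (∑ ψ ∈ irrFinset G, c ψ * ψ y) := by
    intro y
    rw [map_sum, Finset.mul_sum]
    refine Finset.sum_congr rfl fun ψ _ => ?_
    split_ifs with hψB
    · rw [hdeg ψ hψB, map_mul, hcreal]
      ring
    · have : c ψ = 0 := by
        rw [hc]
        simp only
        rw [if_neg hψB]
      rw [this, zero_mul, map_zero, mul_zero]
  have hv : ∀ y : G, p ∣ orderOf y → ∑ ψ ∈ irrFinset G, c ψ * ψ y = 0 := by
    intro y hy
    have h2 := wbo_finsum hM χ₀ 1 y h1G hy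
    rw [finsum_mem_eq_sum (blockOf M (χ₀ : G → ℂ)) (fun ψ => ψ 1 * conj (ψ y))] at h2
    rw [hsumconj y] at h2
    rcases mul_eq_zero.mp h2 with h3 | h3
    · exact absurd h3 hpm0
    · have := congrArg conj h3
      rwa [Complex.conj_conj, map_zero] at this
  have key := isIntegral_div_centralizer_of_vanish p c hcint hv g hgreg
  rw [← hδ] at key
  set η := ∑ ψ ∈ irrFinset G, c ψ * ψ g with hη
  -- the block coefficient
  have hcardG : Nat.card G = p ^ a * (Nat.card G / p ^ a) :=
    (Nat.ordProj_mul_ordCompl_eq_self (Nat.card G) p).symm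
  have hcop : (Nat.card G / p ^ a).Coprime p :=
    (Nat.coprime_ordCompl hp.out Nat.card_pos.ne').symm
  have hn'0 : ((Nat.card G / p ^ a : ℕ) : ℂ) ≠ 0 := by
    intro h0
    have : Nat.card G / p ^ a = 0 := by exact_mod_cast h0
    rw [this, mul_zero] at hcardG
    exact Nat.card_pos.ne' hcardG
  have hp0 : (p : ℂ) ≠ 0 := by exact_mod_cast hp.out.ne_zero
  have hpow : (p : ℂ) ^ m * (p : ℂ) ^ δ = (p : ℂ) ^ a * (p : ℂ) ^ (t + 1) := by
    rw [← pow_add, ← pow_add, ht, add_assoc]
  have e : blockCoeff B g = (conj (η / ((p ^ δ : ℕ) : ℂ)) * ((p ^ t : ℕ) : ℂ)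
      * ((Nat.card G / p ^ a : ℕ) : ℂ)⁻¹) * (p : ℂ) := by
    rw [blockCoeff_eq, hsumconj g, map_div₀, Complex.conj_natCast]
    conv_lhs => rw [hcardG]
    push_cast
    rw [pow_succ] at hpow
    field_simp
    linear_combination (conj η) * hpow
  apply hg.2.1
  rw [e]
  apply memLocalIdeal_mul_ring hMm (memLocalIdeal_p hM)
  apply memLocalRing_mul hMm
  · apply memLocalRing_mul hMm
    · exact memLocalRing_of_isIntegral hMm (map_isIntegral_int (starRingEnd ℂ) key)
    · exact memLocalRing_of_isIntegral hMm (isIntegral_nat _)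
  · exact memLocalRing_natCast_inv hM _ hcop

end Cfsg.Agent.Lib.Helper2_DefectGroup
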