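import Mathlib
import Cfsg.Prelude.Def_Characters
import Cfsg.Prelude.Def_Blocks
import Cfsg.Prelude.Def_BlockRank
import Cfsg.Prelude.Def_Solvable
import Cfsg.Agent.Lib.Helper2_ClassFn
import Cfsg.Agent.Lib.Helper2_CharBasic
import Cfsg.Agent.Lib.Helper2_CharOrtho
import Cfsg.Agent.Lib.Helper2_CharValues
import Cfsg.Agent.Lib.Helper2_CharComplete
import Cfsg.Agent.Lib.Helper2_CharSum
import Cfsg.Agent.Lib.Helper2_CharCentral
import Cfsg.Agent.Lib.Helper2_CharInt
import Cfsg.Agent.Lib.Helper2_CharCenter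
import Cfsg.Agent.Lib.Helper2_ModM
import Cfsg.Agent.Lib.Helper2_Blocks
import Cfsg.Agent.Lib.Helper2_BlockOrtho
import Cfsg.Agent.Lib.Helper2_BlockRank
import Cfsg.Agent.Lib.Helper2_BlockMore
import Cfsg.Agent.Lib.Helper2_BlockNormal
import Cfsg.Agent.Lib.Helper2_BlockKer
import Cfsg.Agent.Lib.Helper2_BlockIndep
import Cfsg.Agent.Lib.Helper2_DefectGroup

set_option autoImplicit false

/-!
# Defect groups contain `O_p(G)`
-/

namespace Cfsg.Agent.Lib.Helper2_DefectPCore

open Cfsg
open Cfsg.Agent.Lib.Helper2_ClassFn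
open Cfsg.Agent.Lib.Helper2_CharBasic
open Cfsg.Agent.Lib.Helper2_CharOrtho
open Cfsg.Agent.Lib.Helper2_CharValues
open Cfsg.Agent.Lib.Helper2_CharComplete
open Cfsg.Agent.Lib.Helper2_CharSum
open Cfsg.Agent.Lib.Helper2_CharCentral
open Cfsg.Agent.Lib.Helper2_CharInt
open Cfsg.Agent.Lib.Helper2_CharCenter
open Cfsg.Agent.Lib.Helper2_ModM
open Cfsg.Agent.Lib.Helper2_Blocks
open Cfsg.Agent.Lib.Helper2_BlockOrtho
open Cfsg.Agent.Lib.Helper2_BlockRank
open Cfsg.Agent.Lib.Helper2_BlockMore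
open Cfsg.Agent.Lib.Helper2_BlockNormal
open Cfsg.Agent.Lib.Helper2_BlockKer
open Cfsg.Agent.Lib.Helper2_BlockIndep
open Cfsg.Agent.Lib.Helper2_DefectGroup
open scoped ComplexConjugate

universe u

section Grp

variable {G : Type u} [Group G]

theorem card_mul_relIndex_of_le {H K : Subgroup G} (h : H ≤ K) :
    Nat.card H * H.relIndex K = Nat.card K := by
  have := Subgroup.card_mul_index (H.subgroupOf K)
  rw [Nat.card_congr (Subgroup.subgroupOfEquivOfLe h).toEquiv] at this
  exact this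

theorem relIndex_sup_eq [Finite G] (C P : Subgroup G) [P.Normal] :
    C.relIndex (C ⊔ P) = C.relIndex P := by
  have h1 := card_mul_relIndex_of_le (le_sup_left : C ≤ C ⊔ P)
  have h2 := card_mul_relIndex_of_le (le_sup_right : P ≤ C ⊔ P)
  rw [Subgroup.relIndex_sup_right] at h2
  have h3 := card_mul_relIndex_of_le (inf_le_left : C ⊓ P ≤ C)
  rw [Subgroup.inf_relIndex_left] at h3
  have h4 := card_mul_relIndex_of_le (inf_le_right : C ⊓ P ≤ P)
  rw [Subgroup.inf_relIndex_right] at h4
  have key : Nat.card (C ⊓ P : Subgroup G) * P.relIndex C * C.relIndex (C ⊔ P)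
      = Nat.card (C ⊓ P : Subgroup G) * P.relIndex C * C.relIndex P := by
    calc Nat.card (C ⊓ P : Subgroup G) * P.relIndex C * C.relIndex (C ⊔ P)
        = Nat.card C * C.relIndex (C ⊔ P) := by rw [h3]
      _ = Nat.card P * P.relIndex C := by rw [h1, h2]
      _ = Nat.card (C ⊓ P : Subgroup G) * P.relIndex C * C.relIndex P := by
          rw [← h4]; ring
  have hpos : 0 < Nat.card (C ⊓ P : Subgroup G) * P.relIndex C := by
    rw [h3]
    exact Nat.card_pos
  exact Nat.eq_of_mul_eq_mul_left hpos key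

theorem dvd_relIndex_sup {p : ℕ} [hp : Fact p.Prime] [Finite G] (C P : Subgroup G) [P.Normal]
    (hP : IsPGroup p P) (hPC : ¬ P ≤ C) : p ∣ C.relIndex (C ⊔ P) := by
  rw [relIndex_sup_eq]
  obtain ⟨n, hn⟩ := hP.index (C.subgroupOf P)
  have hn' : C.relIndex P = p ^ n := hn
  rw [hn']
  have hne : n ≠ 0 := by
    rintro rfl
    rw [pow_zero, Subgroup.relIndex_eq_one] at hn'
    exact hPC hn'
  exact dvd_pow_self p hne

theorem normal_pGroup_le_sylow' {p : ℕ} (N : Subgroup G) [hN : N.Normal] (hp : IsPGroup p N)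
    (P : Sylow p G) : N ≤ (P : Subgroup G) := by
  have h1 : IsPGroup p ((P : Subgroup G) ⊔ N : Subgroup G) :=
    IsPGroup.to_sup_of_normal_right P.isPGroup' hp
  have h2 : (P : Subgroup G) ⊔ N = P := P.is_maximal' h1 le_sup_left
  calc N ≤ (P : Subgroup G) ⊔ N := le_sup_right
    _ = P := h2

theorem pCore_normal' (p : ℕ) : (Cfsg.pCore p G).Normal := by
  unfold Cfsg.pCore
  exact Subgroup.sSup_normal _ (fun H hH => hH.1)

theorem pCore_isPGroup' {p : ℕ} [Fact p.Prime] : IsPGroup p (Cfsg.pCore p G) := by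
  obtain ⟨P⟩ : Nonempty (Sylow p G) := inferInstance
  refine P.isPGroup'.to_le ?_
  unfold Cfsg.pCore
  apply sSup_le
  intro N hN
  haveI := hN.1
  exact normal_pGroup_le_sylow' N hN.2 P

end Grp

variable {G : Type u} [Group G] [Fintype G] {M : Ideal AlgInt}

/-- If a normal `p`-subgroup `P` lies in the kernel of `χ` and does not centralize `g`, the
central character of `χ` at `g` lies in the local ideal. -/
theorem memLocalIdeal_centralChar_of_not_centralize {p : ℕ} [hp : Fact p.Prime]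
    (hM : IsPModular p M) (P : Subgroup G) [hPn : P.Normal] (hP : IsPGroup p P) {χ : G → ℂ}
    (hχ : IsIrrCharacter G χ) (hker : ∀ u ∈ P, χ u = χ 1) (g : G)
    (hg : ¬ P ≤ Subgroup.centralizer ({g} : Set G)) : MemLocalIdeal M (centralChar χ g) := by
  classical
  have hMm := hM.2.1
  obtain ⟨χq, hχq, hχqv⟩ := IsIrrCharacter.deflate hχ P hker
  haveI : Fintype (G ⧸ P) := Fintype.ofFinite _
  set gq : G ⧸ P := QuotientGroup.mk' P g with hgq
  have hint := isIntegral_centralChar hχq gq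
  set C := Subgroup.centralizer ({g} : Set G) with hC
  set Cq := Subgroup.centralizer ({gq} : Set (G ⧸ P)) with hCq
  set N := C ⊔ P with hN
  have h1 : C.relIndex N * N.index = C.index := Subgroup.relIndex_mul_index le_sup_left
  have h2 : (N.map (QuotientGroup.mk' P)).index = N.index := by
    apply Subgroup.index_map_eq _ (QuotientGroup.mk'_surjective P)
    rw [QuotientGroup.ker_mk']
    exact le_sup_right
  have h3 : N.map (QuotientGroup.mk' P) ≤ Cq := by
    rw [Subgroup.map_le_iff_le_comap]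
    apply sup_le
    · intro x hx
      rw [Subgroup.mem_comap, hCq, Subgroup.mem_centralizer_singleton_iff]
      have hx' : x * g = g * x := Subgroup.mem_centralizer_singleton_iff.mp hx
      rw [hgq, ← map_mul, ← map_mul, hx']
    · intro x hx
      rw [Subgroup.mem_comap]
      have : QuotientGroup.mk' P x = 1 := (QuotientGroup.eq_one_iff x).mpr hx
      rw [this]
      exact Subgroup.one_mem _
  have h4 : (N.map (QuotientGroup.mk' P)).relIndex Cq * Cq.index
      = (N.map (QuotientGroup.mk' P)).index := Subgroup.relIndex_mul_index h3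
  obtain ⟨r, hr⟩ := dvd_relIndex_sup C P hP hg
  set r2 := (N.map (QuotientGroup.mk' P)).relIndex Cq with hr2
  have hidx : C.index = p * r * (r2 * Cq.index) := by
    rw [← h1, ← h2, ← h4, hr]
  have hq1 : χq 1 = χ 1 := by
    have := hχqv 1
    rwa [QuotientGroup.mk_one] at this
  have hqg : χq gq = χ g := hχqv g
  have e : centralChar χ g = (((r * r2 : ℕ) : ℂ) * centralChar χq gq) * (p : ℂ) := by
    unfold centralChar
    rw [← hC, ← hCq, hidx, hq1, hqg]
    push_cast
    ring
  rw [e]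
  apply memLocalIdeal_mul_ring hMm (memLocalIdeal_p hM)
  exact memLocalRing_mul hMm (memLocalRing_of_isIntegral hMm (isIntegral_nat _))
    (memLocalRing_of_isIntegral hMm hint)

/-- Every block contains a character with a given normal `p`-subgroup in its kernel. -/
theorem exists_trivial_on_pSubgroup {p : ℕ} [hp : Fact p.Prime] (hM : IsPModular p M)
    (P : Subgroup G) [hPn : P.Normal] (hP : IsPGroup p P) (χ₀ : IrrCharacter G) :
    ∃ χ ∈ blockOf M (χ₀ : G → ℂ), ∀ u ∈ P, (χ : G → ℂ) u = (χ : G → ℂ) 1 := by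
  classical
  haveI : Fintype P := Fintype.ofFinite _
  by_contra hcon
  push Not at hcon
  have hzero : ∀ ψ ∈ irrFinset G, SameBlock M (χ₀ : G → ℂ) ψ →
      classInner (fun u : P => ψ u) (fun _ : P => (1 : ℂ)) = 0 := by
    intro ψ hψ hs
    by_contra hne
    have hψ' := mem_irrFinset.mp hψ
    have := (trivial_on_iff_constituent P hψ').mpr hne
    obtain ⟨u, hu, hne'⟩ := hcon ⟨ψ, hψ'⟩ hs
    exact hne' (this u hu)
  have h1G : ¬ p ∣ orderOf (1 : G) := by
    rw [orderOf_one]
    exact hp.out.one_lt.ne' ∘ Nat.dvd_one.mp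
  -- the sum over the block of `ψ 1 * ψ u` vanishes for `u ≠ 1` in `P`
  have hv : ∀ u : P, u ≠ 1 →
      ∑ ψ ∈ irrFinset G, (if SameBlock M (χ₀ : G → ℂ) ψ then ψ 1 * ψ (u : G) else 0) = 0 := by
    intro u hu
    have hne : (u : G) ≠ 1 := fun h => hu (Subtype.ext h)
    have hord : p ∣ orderOf (u : G) := by
      obtain ⟨j, hj⟩ := (IsPGroup.iff_orderOf.mp hP) u
      rw [Subgroup.orderOf_coe, hj]
      apply dvd_pow_self
      rintro rfl
      rw [pow_zero, orderOf_eq_one_iff] at hj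
      exact hu hj
    have h0 := weak_block_orthogonality hM χ₀.2 1 (u : G) h1G hord
    have h2 := congrArg conj h0
    rw [map_sum, map_zero] at h2
    refine Eq.trans ?_ h2
    refine Finset.sum_congr rfl fun ψ hψ => ?_
    split_ifs
    · obtain ⟨d, _, hd⟩ := IsIrrCharacter.apply_one (mem_irrFinset.mp hψ)
      rw [map_mul, Complex.conj_conj, hd, Complex.conj_natCast]
    · rw [map_zero]
  have hsum : ∑ ψ ∈ irrFinset G, (if SameBlock M (χ₀ : G → ℂ) ψ then
      ψ 1 * classInner (fun u : P => ψ u) (fun _ : P => (1 : ℂ)) else 0) = 0 := by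
    apply Finset.sum_eq_zero
    intro ψ hψ
    split_ifs with hs
    · rw [hzero ψ hψ hs, mul_zero]
    · rfl
  have hsum2 : ∑ ψ ∈ irrFinset G, (if SameBlock M (χ₀ : G → ℂ) ψ then
      ψ 1 * classInner (fun u : P => ψ u) (fun _ : P => (1 : ℂ)) else 0)
      = (Nat.card P : ℂ)⁻¹ * ∑ ψ ∈ irrFinset G,
        (if SameBlock M (χ₀ : G → ℂ) ψ then ψ 1 * ψ 1 else 0) := by
    have h3 : ∀ ψ ∈ irrFinset G, (if SameBlock M (χ₀ : G → ℂ) ψ then
        ψ 1 * classInner (fun u : P => ψ u) (fun _ : P => (1 : ℂ)) else 0)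
        = (Nat.card P : ℂ)⁻¹ * ∑ u : P,
          (if SameBlock M (χ₀ : G → ℂ) ψ then ψ 1 * ψ (u : G) else 0) := by
      intro ψ _
      split_ifs
      · rw [classInner_def, Finset.mul_sum, Finset.mul_sum, Finset.mul_sum]
        refine Finset.sum_congr rfl fun u _ => ?_
        simp only [map_one, mul_one]
        ring
      · simp
    rw [Finset.sum_congr rfl h3, ← Finset.mul_sum, Finset.sum_comm]
    congr 1
    rw [Finset.sum_eq_single (1 : P)]
    · simp
    · intro u _ hu
      exact hv u hu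
    · intro h
      exact absurd (Finset.mem_univ _) h
  rw [hsum2] at hsum
  have hcardP : (Nat.card P : ℂ)⁻¹ ≠ 0 := inv_ne_zero card_ne_zero_complex
  have h5 := (mul_eq_zero.mp hsum).resolve_left hcardP
  have h6 : ∑ ψ ∈ irrFinset G, (if SameBlock M (χ₀ : G → ℂ) ψ then ψ 1 * ψ 1 else 0)
      = ((∑ ψ ∈ irrFinset G, (if SameBlock M (χ₀ : G → ℂ) ψ then (charDegree ψ) ^ 2 else 0 : ℕ)
          : ℕ) : ℂ) := by
    rw [Nat.cast_sum]
    refine Finset.sum_congr rfl fun ψ hψ => ?_
    split_ifs with hs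
    · rw [(apply_one_eq_charDegree (mem_irrFinset.mp hψ)).1]
      simp [sq]
    · simp
  rw [h6] at h5
  have h7 : (∑ ψ ∈ irrFinset G,
      (if SameBlock M (χ₀ : G → ℂ) ψ then (charDegree ψ) ^ 2 else 0 : ℕ)) = 0 := by
    exact_mod_cast h5
  rw [Finset.sum_eq_zero_iff] at h7
  have h8 := h7 (χ₀ : G → ℂ) (mem_irrFinset.mpr χ₀.2)
  rw [if_pos (sameBlock_refl hM.2.1 _)] at h8
  have h9 := (apply_one_eq_charDegree χ₀.2).2
  have : charDegree (χ₀ : G → ℂ) = 0 := by
    rcases Nat.eq_zero_or_pos (charDegree (χ₀ : G → ℂ)) with h | h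
    · exact h
    · exact absurd h8 (pow_pos h 2).ne'
  omega

/-- **Defect groups contain every normal `p`-subgroup.** -/
theorem normal_pSubgroup_le_defectGroup {p : ℕ} [hp : Fact p.Prime] (hM : IsPModular p M)
    (P : Subgroup G) [hPn : P.Normal] (hP : IsPGroup p P) (χ₀ : IrrCharacter G) (D : Subgroup G)
    (hD : IsDefectGroup p M (blockOf M (χ₀ : G → ℂ)) D) : P ≤ D := by
  classical
  obtain ⟨g, hg, Q, rfl⟩ := hD
  obtain ⟨χ, hχB, hχk⟩ := exists_trivial_on_pSubgroup hM P hP χ₀
  have hPC : P ≤ Subgroup.centralizer ({g} : Set G) := by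
    by_contra hne
    exact hg.2.2 χ hχB (memLocalIdeal_centralChar_of_not_centralize hM P hP χ.2 hχk g hne)
  haveI : (P.subgroupOf (Subgroup.centralizer ({g} : Set G))).Normal :=
    Subgroup.normal_subgroupOf
  have hP' : IsPGroup p (P.subgroupOf (Subgroup.centralizer ({g} : Set G))) :=
    hP.comap_of_injective (Subgroup.centralizer ({g} : Set G)).subtype
      (Subgroup.subtype_injective _)
  have hle := normal_pGroup_le_sylow' (P.subgroupOf (Subgroup.centralizer ({g} : Set G))) hP' Q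
  intro x hx
  have hmem : (⟨x, hPC hx⟩ : Subgroup.centralizer ({g} : Set G))
      ∈ (Q : Subgroup (Subgroup.centralizer ({g} : Set G))) :=
    hle (by rw [Subgroup.mem_subgroupOf]; exact hx)
  exact Subgroup.mem_map.mpr ⟨⟨x, hPC hx⟩, hmem, rfl⟩

end Cfsg.Agent.Lib.Helper2_DefectPCore
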