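import Mathlib
import Cfsg.Prelude.Def_Characters
import Cfsg.Prelude.Def_Blocks
import Cfsg.Prelude.Def_BlockRank
import Cfsg.Agent.Lib.Helper2_ClassFn
import Cfsg.Agent.Lib.Helper2_CharBasic
import Cfsg.Agent.Lib.Helper2_CharOrtho
import Cfsg.Agent.Lib.Helper2_CharValues
import Cfsg.Agent.Lib.Helper2_CharSum
import Cfsg.Agent.Lib.Helper2_CharInt
import Cfsg.Agent.Lib.Helper2_ModM
import Cfsg.Agent.Lib.Helper2_Blocks
import Cfsg.Agent.Lib.Helper2_BlockOrtho
import Cfsg.Agent.Lib.Helper2_BlockMore
import Cfsg.Agent.Lib.Helper2_DefectGroup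
import Cfsg.Agent.Lib.Helper2_DefectPCore
import Cfsg.Agent.Lib.Helper2_InducedBlock

set_option autoImplicit false

/-!
# The Brauer map and induced blocks
-/

namespace Cfsg.Agent.Lib.Helper2_BrauerMap

open Cfsg
open Cfsg.Agent.Lib.Helper2_ClassFn
open Cfsg.Agent.Lib.Helper2_CharBasic
open Cfsg.Agent.Lib.Helper2_CharOrtho
open Cfsg.Agent.Lib.Helper2_CharValues
open Cfsg.Agent.Lib.Helper2_CharSum
open Cfsg.Agent.Lib.Helper2_ModM
open Cfsg.Agent.Lib.Helper2_Blocks
open Cfsg.Agent.Lib.Helper2_BlockOrtho
open Cfsg.Agent.Lib.Helper2_BlockMore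
open Cfsg.Agent.Lib.Helper2_DefectGroup
open Cfsg.Agent.Lib.Helper2_DefectPCore
open Cfsg.Agent.Lib.Helper2_InducedBlock
open scoped ComplexConjugate

universe u

variable {G : Type u} [Group G] [Fintype G] {M : Ideal AlgInt}

open Classical in
theorem brauerCentralChar_eq_sum (P H : Subgroup G) [Fintype H] (ξ : H → ℂ) (g : G) :
    brauerCentralChar P H ξ g = ∑ h : H,
      if IsConj g (h : G) ∧ (h : G) ∈ Subgroup.centralizer (P : Set G) then ξ h / ξ 1 else 0 := by
  unfold brauerCentralChar
  rw [finsum_mem_def, finsum_eq_sum_of_fintype]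
  refine Finset.sum_congr rfl fun h _ => ?_
  rw [Set.indicator_apply]
  rfl

open Classical in
/-- The part of the class of `g` in `H` outside the centralizer of `P`. -/
noncomputable def offCentInd (P H : Subgroup G) (g : G) : H → ℂ :=
  fun h => if IsConj g (h : G) ∧ (h : G) ∉ Subgroup.centralizer (P : Set G) then 1 else 0

theorem offCentInd_isClassFunction (P H : Subgroup G)
    (hHN : H ≤ Subgroup.normalizer (P : Set G)) (g : G) :
    IsClassFunction H (offCentInd P H g) := by
  classical
  intro h t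
  unfold offCentInd
  have h1 : IsConj g ((t * h * t⁻¹ : H) : G) ↔ IsConj g (h : G) := by
    have hc : IsConj (h : G) ((t * h * t⁻¹ : H) : G) :=
      isConj_iff.mpr ⟨(t : G), by simp⟩
    exact ⟨fun h1 => h1.trans hc.symm, fun h1 => h1.trans hc⟩
  have hnorm : ∀ (s : H) (y : G), y ∈ Subgroup.centralizer (P : Set G) →
      (s : G) * y * (s : G)⁻¹ ∈ Subgroup.centralizer (P : Set G) := by
    intro s y hy
    rw [Subgroup.mem_centralizer_iff] at hy ⊢
    intro u hu
    have hs := Subgroup.mem_normalizer_iff.mp (hHN s⁻¹.2) u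
    have hu' : ((s⁻¹ : H) : G) * u * ((s⁻¹ : H) : G)⁻¹ ∈ P := hs.mp hu
    simp only [Subgroup.coe_inv, inv_inv] at hu'
    have := hy _ hu'
    calc u * ((s : G) * y * (s : G)⁻¹)
        = (s : G) * (((s : G)⁻¹ * u * (s : G)) * y) * (s : G)⁻¹ := by group
      _ = (s : G) * (y * ((s : G)⁻¹ * u * (s : G))) * (s : G)⁻¹ := by rw [this]
      _ = (s : G) * y * (s : G)⁻¹ * u := by group
  have h2 : ((t * h * t⁻¹ : H) : G) ∈ Subgroup.centralizer (P : Set G)
      ↔ (h : G) ∈ Subgroup.centralizer (P : Set G) := by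
    constructor
    · intro hm
      have := hnorm t⁻¹ _ hm
      simpa [mul_assoc] using this
    · intro hm
      have := hnorm t _ hm
      simpa using this
  simp only [h1, h2]

/-- **Induced and Brauer central characters agree modulo the local ideal.** -/
theorem inducedCentralChar_sub_brauer {p : ℕ} [hp : Fact p.Prime] (hM : IsPModular p M)
    (P H : Subgroup G) (hP : IsPGroup p P) (hPH : P ≤ H)
    (hHN : H ≤ Subgroup.normalizer (P : Set G)) (ξ : IrrCharacter H) (g : G) :
    MemLocalIdeal M (inducedCentralChar H (ξ : H → ℂ) g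
      - brauerCentralChar P H (ξ : H → ℂ) g) := by
  classical
  haveI : Fintype H := Fintype.ofFinite _
  have hMm := hM.2.1
  have hdiff : inducedCentralChar H (ξ : H → ℂ) g - brauerCentralChar P H (ξ : H → ℂ) g
      = om (ξ : H → ℂ) (offCentInd P H g) := by
    rw [inducedCentralChar_eq_sum, brauerCentralChar_eq_sum, ← Finset.sum_sub_distrib]
    unfold om offCentInd
    rw [Finset.sum_div]
    refine Finset.sum_congr rfl fun h _ => ?_
    by_cases h1 : IsConj g (h : G)
    · by_cases h2 : (h : G) ∈ Subgroup.centralizer (P : Set G)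
      · rw [if_pos h1, if_pos ⟨h1, h2⟩, if_neg (fun hh => hh.2 h2)]
        ring
      · rw [if_pos h1, if_neg (fun hh => h2 hh.2), if_pos ⟨h1, h2⟩]
        ring
    · rw [if_neg h1, if_neg (fun hh => h1 hh.1), if_neg (fun hh => h1 hh.1)]
      ring
  rw [hdiff]
  -- a character of the block with `P` in its kernel
  haveI hPn : (P.subgroupOf H).Normal := Subgroup.normal_subgroupOf_of_le_normalizer hHN
  have hP' : IsPGroup p (P.subgroupOf H) :=
    hP.comap_of_injective H.subtype (Subgroup.subtype_injective H)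
  obtain ⟨ξ₁, hξ₁B, hξ₁k⟩ := exists_trivial_on_pSubgroup hM (P.subgroupOf H) hP' ξ
  have hzcf := offCentInd_isClassFunction P H hHN g
  have hzR : ∀ h : H, MemLocalRing M (offCentInd P H g h) := by
    intro h
    unfold offCentInd
    split_ifs
    · exact memLocalRing_one hMm
    · exact memLocalRing_zero hMm
  have key := om_sub_mem hMm (IsCharacter.isClassFunction (IsIrrCharacter.isCharacter ξ.2))
    (IsCharacter.isClassFunction (IsIrrCharacter.isCharacter ξ₁.2)) hξ₁B hzcf hzR
  have h1 : MemLocalIdeal M (om (ξ₁ : H → ℂ) (offCentInd P H g)) := by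
    rw [om_eq_sum_classes (IsCharacter.isClassFunction (IsIrrCharacter.isCharacter ξ₁.2)) hzcf]
    apply memLocalIdeal_sum hMm
    intro C _
    by_cases hC : IsConj g (C.out : G) ∧ (C.out : G) ∉ Subgroup.centralizer (P : Set G)
    · have hnc : ¬ P.subgroupOf H ≤ Subgroup.centralizer ({C.out} : Set H) := by
        intro hle
        apply hC.2
        rw [Subgroup.mem_centralizer_iff]
        intro u hu
        have hu' : (⟨u, hPH hu⟩ : H) ∈ P.subgroupOf H := by
          rw [Subgroup.mem_subgroupOf]
          exact hu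
        have := Subgroup.mem_centralizer_singleton_iff.mp (hle hu')
        exact congrArg (fun y : H => (y : G)) this
      have := memLocalIdeal_centralChar_of_not_centralize hM (P.subgroupOf H) hP' ξ₁.2 hξ₁k
        C.out hnc
      exact memLocalIdeal_mul_ring hMm this (hzR _)
    · unfold offCentInd
      rw [if_neg hC, zero_mul]
      exact memLocalIdeal_zero hMm
  have := memLocalIdeal_add hMm key h1
  rwa [sub_add_cancel] at this

end Cfsg.Agent.Lib.Helper2_BrauerMap
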