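import Mathlib
import Cfsg.Prelude.Def_Characters
import Cfsg.Prelude.Def_Blocks
import Cfsg.Prelude.Def_BlockRank
import Cfsg.Agent.Lib.Helper2_ClassFn
import Cfsg.Agent.Lib.Helper2_CharBasic
import Cfsg.Agent.Lib.Helper2_CharOrtho
import Cfsg.Agent.Lib.Helper2_CharValues
import Cfsg.Agent.Lib.Helper2_CharSum
import Cfsg.Agent.Lib.Helper2_CharInt
import Cfsg.Agent.Lib.Helper2_ModM
import Cfsg.Agent.Lib.Helper2_Blocks
import Cfsg.Agent.Lib.Helper2_BlockOrtho
import Cfsg.Agent.Lib.Helper2_BlockMore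
import Cfsg.Agent.Lib.Helper2_DefectGroup

set_option autoImplicit false

/-!
# The min-max theorem for defect groups
-/

namespace Cfsg.Agent.Lib.Helper2_MinMax

open Cfsg
open Cfsg.Agent.Lib.Helper2_ClassFn
open Cfsg.Agent.Lib.Helper2_CharBasic
open Cfsg.Agent.Lib.Helper2_CharOrtho
open Cfsg.Agent.Lib.Helper2_CharValues
open Cfsg.Agent.Lib.Helper2_CharSum
open Cfsg.Agent.Lib.Helper2_ModM
open Cfsg.Agent.Lib.Helper2_Blocks
open Cfsg.Agent.Lib.Helper2_BlockOrtho
open Cfsg.Agent.Lib.Helper2_BlockMore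
open Cfsg.Agent.Lib.Helper2_DefectGroup
open scoped ComplexConjugate Pointwise

universe u

variable {G : Type u} [Group G] [Fintype G] {M : Ideal AlgInt}

/-- Fixed point counting for a `p`-group acting by conjugation on a finset of group elements. -/
theorem dvd_card_of_no_fixed {p : ℕ} [hp : Fact p.Prime] (D : Subgroup G) (hD : IsPGroup p D)
    (S : Finset G) (hstab : ∀ d ∈ D, ∀ h ∈ S, d * h * d⁻¹ ∈ S)
    (hfix : ∀ h ∈ S, ∃ d ∈ D, d * h * d⁻¹ ≠ h) : p ∣ S.card := by
  classical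
  letI : MulAction D S :=
    { smul := fun d h => ⟨(d : G) * (h : G) * (d : G)⁻¹, hstab d d.2 h h.2⟩
      one_smul := by
        intro h
        apply Subtype.ext
        show ((1 : D) : G) * (h : G) * ((1 : D) : G)⁻¹ = h
        simp
      mul_smul := by
        intro a b h
        apply Subtype.ext
        show ((a * b : D) : G) * (h : G) * ((a * b : D) : G)⁻¹
          = (a : G) * ((b : G) * (h : G) * (b : G)⁻¹) * (a : G)⁻¹
        rw [Subgroup.coe_mul]
        group }
  have hsmul : ∀ (d : D) (h : S), ((d • h : S) : G) = (d : G) * (h : G) * (d : G)⁻¹ :=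
    fun _ _ => rfl
  have key := hD.card_modEq_card_fixedPoints S
  have hempty : IsEmpty (MulAction.fixedPoints D S) := by
    constructor
    rintro ⟨h, hh⟩
    rw [MulAction.mem_fixedPoints] at hh
    obtain ⟨d, hd, hne⟩ := hfix h h.2
    apply hne
    have := hh ⟨d, hd⟩
    have h2 := congrArg (fun s : S => (s : G)) this
    simp only [hsmul] at h2
    exact h2
  have h0 : Nat.card (MulAction.fixedPoints D S) = 0 := Nat.card_of_isEmpty
  rw [h0, Nat.card_eq_fintype_card, Fintype.card_coe] at key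
  exact (Nat.modEq_zero_iff_dvd).mp key

/-- A sum of a `D`-invariant local-integral function over a `D`-stable set without fixed points
lies in the local ideal. -/
theorem memLocalIdeal_sum_of_no_fixed {p : ℕ} [hp : Fact p.Prime] (hM : IsPModular p M)
    (D : Subgroup G) (hD : IsPGroup p D) (S : Finset G) (F : G → ℂ)
    (hF : ∀ h ∈ S, MemLocalRing M (F h))
    (hstab : ∀ d ∈ D, ∀ h ∈ S, d * h * d⁻¹ ∈ S)
    (hinv : ∀ d ∈ D, ∀ h ∈ S, F (d * h * d⁻¹) = F h)
    (hfix : ∀ h ∈ S, ∃ d ∈ D, d * h * d⁻¹ ≠ h) : MemLocalIdeal M (∑ h ∈ S, F h) := by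
  classical
  have hMm := hM.2.1
  have h1 : ∑ h ∈ S, F h = ∑ v ∈ S.image F, (S.filter (fun h => F h = v)).card • v := by
    have := Finset.sum_comp (s := S) (fun v : ℂ => v) F
    exact this
  rw [h1]
  apply memLocalIdeal_sum hMm
  intro v hv
  obtain ⟨h₀, hh₀, rfl⟩ := Finset.mem_image.mp hv
  have hdvd : p ∣ (S.filter (fun h => F h = F h₀)).card := by
    apply dvd_card_of_no_fixed D hD
    · intro d hd h hh
      rw [Finset.mem_filter] at hh ⊢
      exact ⟨hstab d hd h hh.1, by rw [hinv d hd h hh.1, hh.2]⟩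
    · intro h hh
      exact hfix h (Finset.mem_filter.mp hh).1
  obtain ⟨r, hr⟩ := hdvd
  rw [hr, nsmul_eq_mul]
  have : ((p * r : ℕ) : ℂ) * F h₀ = ((r : ℂ) * F h₀) * (p : ℂ) := by push_cast; ring
  rw [this]
  apply memLocalIdeal_mul_ring hMm (memLocalIdeal_p hM)
  exact memLocalRing_mul hMm (memLocalRing_of_isIntegral hMm (isIntegral_nat r)) (hF h₀ hh₀)

theorem zf_isClassFunction (f : (G → ℂ) → ℂ) : IsClassFunction G (zf f) := by
  intro g h
  unfold zf
  congr 1
  refine Finset.sum_congr rfl fun ψ hψ => ?_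
  rw [IsCharacter.isClassFunction (IsIrrCharacter.isCharacter (mem_irrFinset.mp hψ)) g h]

open Classical in
/-- Inverting a central character value inside a block. -/
theorem exists_inverse_in_block (hM : M.IsMaximal) {χ₀ : G → ℂ} (hχ₀ : IsIrrCharacter G χ₀)
    (k : G) (hk : ∀ ψ ∈ irrFinset G, SameBlock M χ₀ ψ → ¬ MemLocalIdeal M (centralChar ψ k)) :
    ∃ r : (G → ℂ) → ℂ, InA M r ∧ ∀ ψ ∈ irrFinset G,
      centralChar ψ k * r ψ = if SameBlock M χ₀ ψ then 1 else 0 := by
  set T := (irrFinset G).filter (fun ψ => SameBlock M χ₀ ψ) with hT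
  set u : (G → ℂ) → ℂ := fun φ => centralChar φ k with hu
  have huA : InA M u := InA.centralChar hM k
  -- partial products
  have hind : ∀ S : Finset (G → ℂ), S ⊆ T → ∃ R : (G → ℂ) → ℂ, InA M R ∧
      ∀ φ, ∏ χ' ∈ S, (1 - (u χ')⁻¹ * u φ) = 1 - u φ * R φ := by
    intro S
    induction S using Finset.induction_on with
    | empty =>
      intro _
      refine ⟨fun _ => 0, ?_, fun φ => by simp⟩
      have := InA.const (G := G) (M := M) hM (memLocalRing_zero hM)
      exact this
    | insert a S ha ih =>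
      intro hsub
      obtain ⟨R, hR, hRe⟩ := ih (fun x hx => hsub (Finset.mem_insert_of_mem hx))
      have haT := Finset.mem_filter.mp (hsub (Finset.mem_insert_self a S))
      have hunit : ¬ MemLocalIdeal M (u a) := hk a haT.1 haT.2
      have hcR : MemLocalRing M (u a)⁻¹ :=
        memLocalRing_inv hM (memLocalRing_of_isIntegral hM
          (isIntegral_centralChar (mem_irrFinset.mp haT.1) k)) hunit
      refine ⟨fun φ => (u a)⁻¹ + R φ - (u a)⁻¹ * (u φ * R φ), ?_, ?_⟩
      · apply InA.sub hM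
        · exact InA.add hM (InA.const hM hcR) hR
        · exact InA.smul hM (InA.mul hM huA hR) hcR
      · intro φ
        rw [Finset.prod_insert ha, hRe φ]
        ring
  obtain ⟨R, hR, hRe⟩ := hind T (Finset.Subset.refl T)
  refine ⟨fun ψ => (if SameBlock M χ₀ ψ then (1 : ℂ) else 0) * R ψ,
    InA.mul hM (osima hM hχ₀) hR, ?_⟩
  intro ψ hψ
  show centralChar ψ k * ((if SameBlock M χ₀ ψ then (1 : ℂ) else 0) * R ψ) = _
  by_cases hs : SameBlock M χ₀ ψ
  · rw [if_pos hs, one_mul]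
    have hψT : ψ ∈ T := Finset.mem_filter.mpr ⟨hψ, hs⟩
    have hne : u ψ ≠ 0 := fun h0 => hk ψ hψ hs (by
      show MemLocalIdeal M (u ψ)
      rw [h0]; exact memLocalIdeal_zero hM)
    have h0 := hRe ψ
    rw [Finset.prod_eq_zero (i := ψ) hψT (by rw [inv_mul_cancel₀ hne, sub_self])] at h0
    have : u ψ * R ψ = 1 := by linear_combination h0
    exact this
  · rw [if_neg hs, zero_mul, mul_zero]

open Classical in
/-- **Min-max, core form.** If the central characters of a block are units at `k` and the block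
idempotent has a unit coefficient at `z`, then every `p`-subgroup of `C_G(z)` centralizes a
conjugate of `k`. -/
theorem exists_conj_centralizing {p : ℕ} [hp : Fact p.Prime] (hM : IsPModular p M) {χ₀ : G → ℂ}
    (hχ₀ : IsIrrCharacter G χ₀) (k z : G)
    (hk : ∀ ψ ∈ irrFinset G, SameBlock M χ₀ ψ → ¬ MemLocalIdeal M (centralChar ψ k))
    (hz : ¬ MemLocalIdeal M (blockCoeff (blockOf M χ₀) z))
    (D : Subgroup G) (hD : IsPGroup p D) (hDz : ∀ d ∈ D, d * z = z * d) :
    ∃ h : G, IsConj k h ∧ ∀ d ∈ D, d * h = h * d := by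
  have hMm := hM.2.1
  by_contra hcon
  push Not at hcon
  obtain ⟨r, hr, hre⟩ := exists_inverse_in_block hMm hχ₀ k hk
  apply hz
  have e1 : blockCoeff (blockOf M χ₀) z
      = ∑ h ∈ Finset.univ.filter (fun h : G => IsConj k h), zf r (h⁻¹ * z) := by
    rw [blockCoeff_blockOf, ← zf_congr hre z, zf_mul, Finset.sum_filter]
    refine Finset.sum_congr rfl fun h _ => ?_
    rw [zf_centralChar]
    split_ifs
    · rw [one_mul]
    · rw [zero_mul]
  rw [e1]
  apply memLocalIdeal_sum_of_no_fixed hM D hD _ (fun h => zf r (h⁻¹ * z))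
  · intro h _
    exact hr _
  · intro d _ h hh
    rw [Finset.mem_filter] at hh ⊢
    exact ⟨Finset.mem_univ _, hh.2.trans (isConj_iff.mpr ⟨d, rfl⟩)⟩
  · intro d hd h _
    have hdz : d⁻¹ * z = z * d⁻¹ := by
      have := hDz d hd
      calc d⁻¹ * z = d⁻¹ * (z * d) * d⁻¹ := by group
        _ = d⁻¹ * (d * z) * d⁻¹ := by rw [this]
        _ = z * d⁻¹ := by group
    have : (d * h * d⁻¹)⁻¹ * z = d * (h⁻¹ * z) * d⁻¹ := by
      calc (d * h * d⁻¹)⁻¹ * z = d * h⁻¹ * (d⁻¹ * z) := by group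
        _ = d * h⁻¹ * (z * d⁻¹) := by rw [hdz]
        _ = d * (h⁻¹ * z) * d⁻¹ := by group
    show zf r ((d * h * d⁻¹)⁻¹ * z) = zf r (h⁻¹ * z)
    rw [this]
    exact zf_isClassFunction r _ d
  · intro h hh
    obtain ⟨d, hd, hne⟩ := hcon h (Finset.mem_filter.mp hh).2
    refine ⟨d, hd, fun heq => hne ?_⟩
    calc d * h = d * h * d⁻¹ * d := by group
      _ = h * d := by rw [heq]

theorem mem_map_conj {B : Subgroup G} {x a : G} :
    a ∈ B.map (MulAut.conj x).toMonoidHom ↔ x⁻¹ * a * x ∈ B := by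
  constructor
  · rintro ⟨b, hb, rfl⟩
    have : x⁻¹ * (MulAut.conj x).toMonoidHom b * x = b := by
      simp [MulAut.conj_apply, mul_assoc]
    rw [this]
    exact hb
  · intro h
    refine ⟨x⁻¹ * a * x, h, ?_⟩
    simp [MulAut.conj_apply, mul_assoc]

/-- Min-max with subgroups: the `p`-subgroup `D` of `C_G(z)` is conjugate into `C_G(k)`. -/
theorem minmax_aux {p : ℕ} [hp : Fact p.Prime] (hM : IsPModular p M) (χ₀ : IrrCharacter G)
    (k z : G)
    (hk : ∀ χ ∈ blockOf M (χ₀ : G → ℂ), ¬ MemLocalIdeal M (centralChar (χ : G → ℂ) k))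
    (hz : ¬ MemLocalIdeal M (blockCoeff (blockOf M (χ₀ : G → ℂ)) z))
    (D : Subgroup G) (hD : IsPGroup p D) (hDz : D ≤ Subgroup.centralizer ({z} : Set G)) :
    ∃ t : G, ∀ d ∈ D, t * d * t⁻¹ ∈ Subgroup.centralizer ({k} : Set G) := by
  have hk' : ∀ ψ ∈ irrFinset G, SameBlock M (χ₀ : G → ℂ) ψ →
      ¬ MemLocalIdeal M (centralChar ψ k) := fun ψ hψ hs =>
    hk ⟨ψ, mem_irrFinset.mp hψ⟩ hs
  obtain ⟨h, hc, hcomm⟩ := exists_conj_centralizing hM χ₀.2 k z hk' hz D hD
    (fun d hd => Subgroup.mem_centralizer_singleton_iff.mp (hDz hd))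
  obtain ⟨c, hc⟩ := isConj_iff.mp hc
  refine ⟨c⁻¹, fun d hd => ?_⟩
  rw [Subgroup.mem_centralizer_singleton_iff, inv_inv]
  have h1 := hcomm d hd
  rw [← hc] at h1
  calc c⁻¹ * d * c * k = c⁻¹ * (d * (c * k * c⁻¹)) * c := by group
    _ = c⁻¹ * ((c * k * c⁻¹) * d) * c := by rw [h1]
    _ = k * (c⁻¹ * d * c) := by group

/-- All central characters of a block are units at `h` as soon as one is. -/
theorem unit_centralChar_of_exists (hM : M.IsMaximal) (χ₀ : IrrCharacter G) (h : G)
    (hex : ∃ χ ∈ blockOf M (χ₀ : G → ℂ), ¬ MemLocalIdeal M (centralChar (χ : G → ℂ) h)) :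
    ∀ χ ∈ blockOf M (χ₀ : G → ℂ), ¬ MemLocalIdeal M (centralChar (χ : G → ℂ) h) := by
  obtain ⟨χ, hχ, hu⟩ := hex
  intro χ' hχ' hmem
  apply hu
  have hs : SameBlock M (χ : G → ℂ) (χ' : G → ℂ) :=
    sameBlock_trans hM (sameBlock_symm hM hχ) hχ'
  have := memLocalIdeal_add hM (hs h) hmem
  rwa [sub_add_cancel] at this

/-- **Min-max, first half**: classes in the support of the block idempotent have defect groups
contained in a conjugate of the defect group. -/
theorem minmax_support {p : ℕ} [hp : Fact p.Prime] (hM : IsPModular p M) (χ₀ : IrrCharacter G)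
    (g : G) (hg : IsDefectClass M (blockOf M (χ₀ : G → ℂ)) g)
    (D : Sylow p (Subgroup.centralizer ({g} : Set G))) (h : G)
    (hh : ¬ MemLocalIdeal M (blockCoeff (blockOf M (χ₀ : G → ℂ)) h))
    (E : Subgroup G) (hE : IsPGroup p E) (hEh : E ≤ Subgroup.centralizer ({h} : Set G)) :
    ∃ x : G, E ≤ ((D : Subgroup (Subgroup.centralizer ({g} : Set G))).map
      (Subgroup.centralizer ({g} : Set G)).subtype).map (MulAut.conj x).toMonoidHom := by
  obtain ⟨t, ht⟩ := minmax_aux hM χ₀ g h hg.2.2 hh E hE hEh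
  -- the conjugate of `E` inside `C_G(g)`
  set E' : Subgroup (Subgroup.centralizer ({g} : Set G)) :=
    (E.map (MulAut.conj t).toMonoidHom).subgroupOf (Subgroup.centralizer ({g} : Set G))
    with hE'
  have hE'p : IsPGroup p E' :=
    (hE.map _).comap_of_injective (Subgroup.centralizer ({g} : Set G)).subtype
      (Subgroup.subtype_injective _)
  obtain ⟨Q', hQ'⟩ := hE'p.exists_le_sylow
  obtain ⟨c, hcD⟩ := MulAction.exists_smul_eq (Subgroup.centralizer ({g} : Set G)) D Q'
  refine ⟨t⁻¹ * (c : G), fun a ha => ?_⟩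
  rw [mem_map_conj]
  have h1 : (⟨t * a * t⁻¹, ht a ha⟩ : Subgroup.centralizer ({g} : Set G)) ∈ E' := by
    rw [hE', Subgroup.mem_subgroupOf]
    exact ⟨a, ha, by simp [MulAut.conj_apply]⟩
  have h2 := hQ' h1
  rw [← hcD] at h2
  have h3 : (⟨t * a * t⁻¹, ht a ha⟩ : Subgroup.centralizer ({g} : Set G))
      ∈ MulAut.conj c • (D : Subgroup (Subgroup.centralizer ({g} : Set G))) := by
    rw [← Sylow.coe_subgroup_smul]
    exact h2
  rw [Subgroup.mem_pointwise_smul_iff_inv_smul_mem] at h3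
  refine ⟨_, h3, ?_⟩
  simp only [MulAut.smul_def, map_inv, MulAut.inv_apply, MulAut.conj_symm_apply,
    Subgroup.coe_subtype, Subgroup.coe_mul, Subgroup.coe_inv, mul_inv_rev, inv_inv]
  group

/-- **Min-max, second half**: the defect group is conjugate into the defect group of any class on
which the central character of the block does not vanish. -/
theorem minmax_central {p : ℕ} [hp : Fact p.Prime] (hM : IsPModular p M) (χ₀ : IrrCharacter G)
    (g : G) (hg : IsDefectClass M (blockOf M (χ₀ : G → ℂ)) g)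
    (E : Subgroup G) (hE : IsPGroup p E) (hEg : E ≤ Subgroup.centralizer ({g} : Set G)) (h : G)
    (hh : ∃ χ ∈ blockOf M (χ₀ : G → ℂ), ¬ MemLocalIdeal M (centralChar (χ : G → ℂ) h)) :
    ∃ (x : G) (Q : Sylow p (Subgroup.centralizer ({h} : Set G))),
      E.map (MulAut.conj x).toMonoidHom ≤
        (Q : Subgroup (Subgroup.centralizer ({h} : Set G))).map
          (Subgroup.centralizer ({h} : Set G)).subtype := by
  have hk := unit_centralChar_of_exists hM.2.1 χ₀ h hh
  obtain ⟨t, ht⟩ := minmax_aux hM χ₀ h g hk hg.2.1 E hE hEg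
  set E' : Subgroup (Subgroup.centralizer ({h} : Set G)) :=
    (E.map (MulAut.conj t).toMonoidHom).subgroupOf (Subgroup.centralizer ({h} : Set G))
    with hE'
  have hE'p : IsPGroup p E' :=
    (hE.map _).comap_of_injective (Subgroup.centralizer ({h} : Set G)).subtype
      (Subgroup.subtype_injective _)
  obtain ⟨Q, hQ⟩ := hE'p.exists_le_sylow
  refine ⟨t, Q, ?_⟩
  rintro b ⟨a, ha, rfl⟩
  have hb : (MulAut.conj t).toMonoidHom a ∈ Subgroup.centralizer ({h} : Set G) := by
    have := ht a ha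
    simpa [MulAut.conj_apply] using this
  have h1 : (⟨(MulAut.conj t).toMonoidHom a, hb⟩ : Subgroup.centralizer ({h} : Set G)) ∈ E' := by
    rw [hE', Subgroup.mem_subgroupOf]
    exact ⟨a, ha, rfl⟩
  exact ⟨_, hQ h1, rfl⟩

end Cfsg.Agent.Lib.Helper2_MinMax
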