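import Mathlib
import Cfsg.Prelude.Def_Characters
import Cfsg.Prelude.Def_Blocks
import Cfsg.Prelude.Def_BlockRank
import Cfsg.Agent.Lib.Helper2_ClassFn
import Cfsg.Agent.Lib.Helper2_CharBasic
import Cfsg.Agent.Lib.Helper2_CharOrtho
import Cfsg.Agent.Lib.Helper2_CharValues
import Cfsg.Agent.Lib.Helper2_CharSum
import Cfsg.Agent.Lib.Helper2_CharCentral
import Cfsg.Agent.Lib.Helper2_CharInt
import Cfsg.Agent.Lib.Helper2_ModM
import Cfsg.Agent.Lib.Helper2_Blocks
import Cfsg.Agent.Lib.Helper2_BlockOrtho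
import Cfsg.Agent.Lib.Helper2_BlockMore
import Cfsg.Agent.Lib.Helper2_DefectGroup
import Cfsg.Agent.Lib.Helper2_DefectPCore
import Cfsg.Agent.Lib.Helper2_MinMax
import Cfsg.Agent.Lib.Helper2_InducedBlock
import Cfsg.Agent.Lib.Helper2_BrauerMap

set_option autoImplicit false

/-!
# The Brauer homomorphism and the existence of induced blocks
-/

namespace Cfsg.Agent.Lib.Helper2_BrauerFirst

open Cfsg
open Cfsg.Agent.Lib.Helper2_ClassFn
open Cfsg.Agent.Lib.Helper2_CharBasic
open Cfsg.Agent.Lib.Helper2_CharOrtho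
open Cfsg.Agent.Lib.Helper2_CharValues
open Cfsg.Agent.Lib.Helper2_CharSum
open Cfsg.Agent.Lib.Helper2_CharCentral
open Cfsg.Agent.Lib.Helper2_ModM
open Cfsg.Agent.Lib.Helper2_Blocks
open Cfsg.Agent.Lib.Helper2_BlockOrtho
open Cfsg.Agent.Lib.Helper2_BlockMore
open Cfsg.Agent.Lib.Helper2_DefectGroup
open Cfsg.Agent.Lib.Helper2_DefectPCore
open Cfsg.Agent.Lib.Helper2_MinMax
open Cfsg.Agent.Lib.Helper2_InducedBlock
open Cfsg.Agent.Lib.Helper2_BrauerMap
open scoped ComplexConjugate

universe u

section Conv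

variable {K : Type u} [Group K] [Fintype K]

/-- Convolution of functions on a finite group. -/
noncomputable def conv (w₁ w₂ : K → ℂ) : K → ℂ := fun x => ∑ y : K, w₁ y * w₂ (y⁻¹ * x)

theorem conv_isClassFunction {w₁ w₂ : K → ℂ} (h₁ : IsClassFunction K w₁)
    (h₂ : IsClassFunction K w₂) : IsClassFunction K (conv w₁ w₂) := by
  intro x t
  unfold conv
  refine (Fintype.sum_equiv (MulAut.conj t).toEquiv _ _ fun y => ?_).symm
  simp only [MulEquiv.toEquiv_eq_coe, MulEquiv.coe_toEquiv, MulAut.conj_apply]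
  rw [h₁ y t]
  have : (t * y * t⁻¹)⁻¹ * (t * x * t⁻¹) = t * (y⁻¹ * x) * t⁻¹ := by group
  rw [this, h₂ _ t]

theorem om_conv {χ : K → ℂ} (hχ : IsIrrCharacter K χ) (w₁ w₂ : K → ℂ)
    (hw₂ : IsClassFunction K w₂) : om χ (conv w₁ w₂) = om χ w₁ * om χ w₂ := by
  have hχcf := IsCharacter.isClassFunction (IsIrrCharacter.isCharacter hχ)
  have hχ1 : χ 1 ≠ 0 := by
    obtain ⟨n, hn, h⟩ := IsIrrCharacter.apply_one hχ
    rw [h]; exact_mod_cast hn.ne'
  unfold om
  have h1 : ∑ x : K, conv w₁ w₂ x * χ x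
      = ∑ y : K, w₁ y * ((∑ v : K, w₂ v * χ v) * χ y / χ 1) := by
    have h0 : ∀ x : K, conv w₁ w₂ x * χ x = ∑ y : K, w₁ y * w₂ (y⁻¹ * x) * χ x := by
      intro x
      unfold conv
      rw [Finset.sum_mul]
    rw [Finset.sum_congr rfl (fun x _ => h0 x), Finset.sum_comm]
    refine Finset.sum_congr rfl fun y _ => ?_
    have h2 : ∑ x : K, w₁ y * w₂ (y⁻¹ * x) * χ x = w₁ y * ∑ v : K, w₂ v * χ (v * y) := by
      rw [Finset.mul_sum]
      refine (Fintype.sum_equiv (Equiv.mulLeft y⁻¹) _ _ fun x => ?_)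
      simp only [Equiv.coe_mulLeft]
      have : χ (y⁻¹ * x * y) = χ x := by
        have := hχcf x y⁻¹
        simpa using this
      rw [this]
      ring
    rw [h2, sum_classFn_mul hχ hw₂ y]
  rw [h1]
  have h3 : ∀ y : K, w₁ y * ((∑ v : K, w₂ v * χ v) * χ y / χ 1)
      = (w₁ y * χ y) * ((∑ v : K, w₂ v * χ v) / χ 1) := by
    intro y
    field_simp
  rw [Finset.sum_congr rfl (fun y _ => h3 y), ← Finset.sum_mul]
  field_simp

theorem om_sub (χ z z' : K → ℂ) : om χ (fun x => z x - z' x) = om χ z - om χ z' := by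
  unfold om
  rw [← sub_div]
  congr 1
  rw [← Finset.sum_sub_distrib]
  exact Finset.sum_congr rfl fun x _ => by ring

theorem om_zero (χ : K → ℂ) : om χ (fun _ => 0) = 0 := by
  unfold om
  simp

/-- The central character of an irreducible character on a central element with local-integral
coefficients is a local integer. -/
theorem memLocalRing_om {M : Ideal AlgInt} (hM : M.IsMaximal) {χ : K → ℂ}
    (hχ : IsIrrCharacter K χ) {z : K → ℂ} (hz : IsClassFunction K z)
    (hzR : ∀ x, MemLocalRing M (z x)) : MemLocalRing M (om χ z) := by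
  classical
  rw [om_eq_sum_classes (IsCharacter.isClassFunction (IsIrrCharacter.isCharacter hχ)) hz]
  apply memLocalRing_sum hM
  intro C _
  exact memLocalRing_mul hM (hzR _) (memLocalRing_of_isIntegral hM (isIntegral_centralChar hχ _))

theorem memLocalIdeal_om {M : Ideal AlgInt} (hM : M.IsMaximal) {χ : K → ℂ}
    (hχ : IsIrrCharacter K χ) {z : K → ℂ} (hz : IsClassFunction K z)
    (hzI : ∀ x, MemLocalIdeal M (z x)) : MemLocalIdeal M (om χ z) := by
  classical
  rw [om_eq_sum_classes (IsCharacter.isClassFunction (IsIrrCharacter.isCharacter hχ)) hz]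
  apply memLocalIdeal_sum hM
  intro C _
  have := memLocalIdeal_mul_ring hM (hzI C.out)
    (memLocalRing_of_isIntegral hM (isIntegral_centralChar hχ C.out))
  rwa [mul_comm] at this

end Conv

variable {G : Type u} [Group G] [Fintype G] {M : Ideal AlgInt}

open Classical in
/-- The Brauer restriction of a function on `G` to `H`: keep the values on `C_G(P)`. -/
noncomputable def brRes (P H : Subgroup G) (z : G → ℂ) : H → ℂ :=
  fun h => if (h : G) ∈ Subgroup.centralizer (P : Set G) then z h else 0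

theorem centralizer_conj_mem (P H : Subgroup G) (hHN : H ≤ Subgroup.normalizer (P : Set G))
    (s : H) (y : G) (hy : y ∈ Subgroup.centralizer (P : Set G)) :
    (s : G) * y * (s : G)⁻¹ ∈ Subgroup.centralizer (P : Set G) := by
  rw [Subgroup.mem_centralizer_iff] at hy ⊢
  intro w hw
  have hs := Subgroup.mem_normalizer_iff.mp (hHN s⁻¹.2) w
  have hw' : ((s⁻¹ : H) : G) * w * ((s⁻¹ : H) : G)⁻¹ ∈ P := hs.mp hw
  simp only [Subgroup.coe_inv, inv_inv] at hw'
  have := hy _ hw'
  calc w * ((s : G) * y * (s : G)⁻¹)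
      = (s : G) * (((s : G)⁻¹ * w * (s : G)) * y) * (s : G)⁻¹ := by group
    _ = (s : G) * (y * ((s : G)⁻¹ * w * (s : G))) * (s : G)⁻¹ := by rw [this]
    _ = (s : G) * y * (s : G)⁻¹ * w := by group

theorem centralizer_conj_iff (P H : Subgroup G) (hHN : H ≤ Subgroup.normalizer (P : Set G))
    (t h : H) : ((t * h * t⁻¹ : H) : G) ∈ Subgroup.centralizer (P : Set G)
      ↔ (h : G) ∈ Subgroup.centralizer (P : Set G) := by
  constructor
  · intro hm
    have := centralizer_conj_mem P H hHN t⁻¹ _ hm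
    simpa [mul_assoc] using this
  · intro hm
    have := centralizer_conj_mem P H hHN t _ hm
    simpa using this

theorem brRes_isClassFunction (P H : Subgroup G) (hHN : H ≤ Subgroup.normalizer (P : Set G))
    {z : G → ℂ} (hz : IsClassFunction G z) : IsClassFunction H (brRes P H z) := by
  classical
  intro h t
  unfold brRes
  simp only [centralizer_conj_iff P H hHN t h]
  have : z ((t * h * t⁻¹ : H) : G) = z (h : G) := by
    have := hz (h : G) (t : G)
    simpa using this
  rw [this]

theorem brRes_memLocalRing (hM : M.IsMaximal) (P H : Subgroup G) {z : G → ℂ}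
    (hzR : ∀ g, MemLocalRing M (z g)) (h : H) : MemLocalRing M (brRes P H z h) := by
  classical
  unfold brRes
  split_ifs
  · exact hzR _
  · exact memLocalRing_zero hM

open Classical in
/-- The Brauer restriction is multiplicative modulo the local ideal. -/
theorem brRes_conv_sub_mem {p : ℕ} [hp : Fact p.Prime] (hM : IsPModular p M) (P H : Subgroup G)
    [Fintype H] (hP : IsPGroup p P) (hCH : Subgroup.centralizer (P : Set G) ≤ H) {z₁ z₂ : G → ℂ}
    (hz₁ : IsClassFunction G z₁) (hz₂ : IsClassFunction G z₂)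
    (hR₁ : ∀ g, MemLocalRing M (z₁ g)) (hR₂ : ∀ g, MemLocalRing M (z₂ g)) (h : H) :
    MemLocalIdeal M (brRes P H (conv z₁ z₂) h - conv (brRes P H z₁) (brRes P H z₂) h) := by
  have hMm := hM.2.1
  by_cases hh : (h : G) ∈ Subgroup.centralizer (P : Set G)
  · -- the right-hand convolution as a sum over `G`
    have e1 : conv (brRes P H z₁) (brRes P H z₂) h
        = ∑ y : G, if y ∈ Subgroup.centralizer (P : Set G) then z₁ y * z₂ (y⁻¹ * (h : G))
          else 0 := by
      have h1 : ∀ y : G, (if y ∈ Subgroup.centralizer (P : Set G) then z₁ y * z₂ (y⁻¹ * (h : G))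
          else 0) = if hy : y ∈ H then
            (fun y' : H => brRes P H z₁ y' * brRes P H z₂ (y'⁻¹ * h)) ⟨y, hy⟩ else 0 := by
        intro y
        by_cases hyC : y ∈ Subgroup.centralizer (P : Set G)
        · have hyH : y ∈ H := hCH hyC
          rw [if_pos hyC, dif_pos hyH]
          unfold brRes
          simp only
          have h2 : ((⟨y, hyH⟩ : H)⁻¹ * h : H).1 ∈ Subgroup.centralizer (P : Set G) := by
            simp only [Subgroup.coe_mul, Subgroup.coe_inv]
            exact Subgroup.mul_mem _ (Subgroup.inv_mem _ hyC) hh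
          rw [if_pos hyC, if_pos h2]
          simp
        · rw [if_neg hyC]
          by_cases hyH : y ∈ H
          · rw [dif_pos hyH]
            unfold brRes
            simp only
            rw [if_neg hyC, zero_mul]
          · rw [dif_neg hyH]
      simp_rw [h1]
      rw [sum_dite_mem H (fun y' : H => brRes P H z₁ y' * brRes P H z₂ (y'⁻¹ * h))]
      rfl
    have e2 : brRes P H (conv z₁ z₂) h = ∑ y : G, z₁ y * z₂ (y⁻¹ * (h : G)) := by
      unfold brRes
      rw [if_pos hh]
      rfl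
    have e3 : brRes P H (conv z₁ z₂) h - conv (brRes P H z₁) (brRes P H z₂) h
        = ∑ y ∈ Finset.univ.filter (fun y : G => y ∉ Subgroup.centralizer (P : Set G)),
          z₁ y * z₂ (y⁻¹ * (h : G)) := by
      rw [e1, e2, ← Finset.sum_sub_distrib, Finset.sum_filter]
      refine Finset.sum_congr rfl fun y _ => ?_
      by_cases hyC : y ∈ Subgroup.centralizer (P : Set G)
      · rw [if_pos hyC, if_neg (not_not.mpr hyC), sub_self]
      · rw [if_neg hyC, if_pos hyC, sub_zero]
    rw [e3]
    apply memLocalIdeal_sum_of_no_fixed hM P hP _ (fun y => z₁ y * z₂ (y⁻¹ * (h : G)))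
    · intro y _
      exact memLocalRing_mul hMm (hR₁ _) (hR₂ _)
    · intro d hd y hy
      rw [Finset.mem_filter] at hy ⊢
      refine ⟨Finset.mem_univ _, fun hc => hy.2 ?_⟩
      rw [Subgroup.mem_centralizer_iff] at hc ⊢
      intro w hw
      have hw' : d * w * d⁻¹ ∈ P := P.mul_mem (P.mul_mem hd hw) (P.inv_mem hd)
      have := hc _ hw'
      calc w * y = d⁻¹ * ((d * w * d⁻¹) * (d * y * d⁻¹)) * d := by group
        _ = d⁻¹ * ((d * y * d⁻¹) * (d * w * d⁻¹)) * d := by rw [this]
        _ = y * w := by group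
    · intro d hd y _
      have hdh : d⁻¹ * (h : G) = (h : G) * d⁻¹ := by
        have := Subgroup.mem_centralizer_iff.mp hh d hd
        calc d⁻¹ * (h : G) = d⁻¹ * ((h : G) * d) * d⁻¹ := by group
          _ = d⁻¹ * (d * (h : G)) * d⁻¹ := by rw [this]
          _ = (h : G) * d⁻¹ := by group
      have : (d * y * d⁻¹)⁻¹ * (h : G) = d * (y⁻¹ * (h : G)) * d⁻¹ := by
        calc (d * y * d⁻¹)⁻¹ * (h : G) = d * y⁻¹ * (d⁻¹ * (h : G)) := by group
          _ = d * y⁻¹ * ((h : G) * d⁻¹) := by rw [hdh]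
          _ = d * (y⁻¹ * (h : G)) * d⁻¹ := by group
      show z₁ (d * y * d⁻¹) * z₂ ((d * y * d⁻¹)⁻¹ * (h : G)) = z₁ y * z₂ (y⁻¹ * (h : G))
      rw [this, hz₁ y d, hz₂ _ d]
    · intro y hy
      have hyC := (Finset.mem_filter.mp hy).2
      rw [Subgroup.mem_centralizer_iff] at hyC
      push Not at hyC
      obtain ⟨d, hd, hne⟩ := hyC
      refine ⟨d, hd, fun heq => hne ?_⟩
      calc d * y = d * y * d⁻¹ * d := by group
        _ = y * d := by rw [heq]
  · have e1 : brRes P H (conv z₁ z₂) h = 0 := by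
      unfold brRes
      rw [if_neg hh]
    have e2 : conv (brRes P H z₁) (brRes P H z₂) h = 0 := by
      unfold conv
      apply Finset.sum_eq_zero
      intro y _
      unfold brRes
      by_cases hy : (y : G) ∈ Subgroup.centralizer (P : Set G)
      · have : ((y⁻¹ * h : H) : G) ∉ Subgroup.centralizer (P : Set G) := by
          intro hc
          apply hh
          have := Subgroup.mul_mem _ hy hc
          simpa using this
        rw [if_neg this, mul_zero]
      · rw [if_neg hy, zero_mul]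
    rw [e1, e2, sub_zero]
    exact memLocalIdeal_zero hMm

/-- The composite of the Brauer restriction with the central character of `ξ₀`. -/
noncomputable def beta (P H : Subgroup G) [Fintype H] (ξ₀ : H → ℂ) (z : G → ℂ) : ℂ :=
  om ξ₀ (brRes P H z)

theorem memLocalRing_beta (hM : M.IsMaximal) (P H : Subgroup G) [Fintype H]
    (hHN : H ≤ Subgroup.normalizer (P : Set G)) (ξ₀ : IrrCharacter H) {z : G → ℂ}
    (hz : IsClassFunction G z) (hzR : ∀ g, MemLocalRing M (z g)) :
    MemLocalRing M (beta P H (ξ₀ : H → ℂ) z) :=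
  memLocalRing_om hM ξ₀.2 (brRes_isClassFunction P H hHN hz) (brRes_memLocalRing hM P H hzR)

/-- The Brauer map composed with a central character is multiplicative modulo the local ideal. -/
theorem beta_conv_sub_mem {p : ℕ} [hp : Fact p.Prime] (hM : IsPModular p M) (P H : Subgroup G)
    [Fintype H] (hP : IsPGroup p P) (hCH : Subgroup.centralizer (P : Set G) ≤ H)
    (hHN : H ≤ Subgroup.normalizer (P : Set G)) (ξ₀ : IrrCharacter H) {z₁ z₂ : G → ℂ}
    (hz₁ : IsClassFunction G z₁) (hz₂ : IsClassFunction G z₂)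
    (hR₁ : ∀ g, MemLocalRing M (z₁ g)) (hR₂ : ∀ g, MemLocalRing M (z₂ g)) :
    MemLocalIdeal M (beta P H (ξ₀ : H → ℂ) (conv z₁ z₂)
      - beta P H (ξ₀ : H → ℂ) z₁ * beta P H (ξ₀ : H → ℂ) z₂) := by
  have hMm := hM.2.1
  unfold beta
  rw [← om_conv ξ₀.2 _ _ (brRes_isClassFunction P H hHN hz₂), ← om_sub]
  apply memLocalIdeal_om hMm ξ₀.2
  · intro h t
    show brRes P H (conv z₁ z₂) (t * h * t⁻¹) - conv (brRes P H z₁) (brRes P H z₂) (t * h * t⁻¹)
      = brRes P H (conv z₁ z₂) h - conv (brRes P H z₁) (brRes P H z₂) h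
    rw [brRes_isClassFunction P H hHN (conv_isClassFunction hz₁ hz₂) h t,
      conv_isClassFunction (brRes_isClassFunction P H hHN hz₁)
        (brRes_isClassFunction P H hHN hz₂) h t]
  · intro h
    exact brRes_conv_sub_mem hM P H hP hCH hz₁ hz₂ hR₁ hR₂ h

open Classical in
theorem beta_classInd (P H : Subgroup G) [Fintype H] (ξ₀ : H → ℂ) (g₀ : G) :
    beta P H ξ₀ (fun x => if IsConj g₀ x then 1 else 0) = brauerCentralChar P H ξ₀ g₀ := by
  rw [brauerCentralChar_eq_sum]
  unfold beta om brRes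
  rw [Finset.sum_div]
  refine Finset.sum_congr rfl fun h _ => ?_
  beta_reduce
  by_cases h1 : IsConj g₀ (h : G)
  · by_cases h2 : (h : G) ∈ Subgroup.centralizer (P : Set G)
    · rw [if_pos h2, if_pos h1, if_pos ⟨h1, h2⟩, one_mul]
    · rw [if_neg h2, if_neg (fun hh => h2 hh.2), zero_mul, zero_div]
  · rw [if_neg (fun hh : IsConj g₀ (h : G) ∧ _ => h1 hh.1)]
    by_cases h2 : (h : G) ∈ Subgroup.centralizer (P : Set G)
    · rw [if_pos h2, if_neg h1, zero_mul, zero_div]
    · rw [if_neg h2, zero_mul, zero_div]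

open Classical in
theorem beta_sub_const (P H : Subgroup G) [Fintype H] (ξ₀ : H → ℂ) (hξ1 : ξ₀ 1 ≠ 0)
    (z : G → ℂ) (c : ℂ) :
    beta P H ξ₀ (fun x => z x - c * (if x = 1 then 1 else 0)) = beta P H ξ₀ z - c := by
  unfold beta om
  have h1C : ((1 : H) : G) ∈ Subgroup.centralizer (P : Set G) := by
    rw [Subgroup.coe_one]; exact Subgroup.one_mem _
  have hbr : ∀ h : H, brRes P H (fun x => z x - c * (if x = 1 then 1 else 0)) h
      = brRes P H z h - c * (if h = 1 then 1 else 0) := by
    intro h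
    unfold brRes
    by_cases h2 : (h : G) ∈ Subgroup.centralizer (P : Set G)
    · rw [if_pos h2, if_pos h2]
      beta_reduce
      by_cases h3 : h = 1
      · rw [if_pos h3, if_pos (by rw [h3, Subgroup.coe_one])]
      · have h4 : ¬ ((h : G) = 1) := fun hh => h3 (Subtype.ext hh)
        rw [if_neg h3, if_neg h4]
    · rw [if_neg h2, if_neg h2]
      have h3 : h ≠ 1 := fun hh => h2 (hh ▸ h1C)
      rw [if_neg h3]
      ring
  have key : ∑ h : H, brRes P H (fun x => z x - c * (if x = 1 then 1 else 0)) h * ξ₀ h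
      = ∑ h : H, brRes P H z h * ξ₀ h - c * ξ₀ 1 := by
    simp_rw [hbr, sub_mul]
    rw [Finset.sum_sub_distrib]
    congr 1
    rw [Finset.sum_eq_single (1 : H)]
    · rw [if_pos rfl, mul_one]
    · intro h _ hne
      rw [if_neg hne, mul_zero, zero_mul]
    · intro h
      exact absurd (Finset.mem_univ _) h
  rw [key, sub_div, mul_div_assoc, div_self hξ1, mul_one]

theorem zf_sub_const [DecidableEq G] (f : (G → ℂ) → ℂ) (c : ℂ) (x : G) :
    zf (fun ψ => f ψ - c) x = zf f x - c * (if x = 1 then 1 else 0) := by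
  have h1 : zf (fun ψ => f ψ - c) x = zf f x - c * zf (fun _ => 1) x := by
    unfold zf
    rw [← mul_assoc c, mul_comm c, mul_assoc, ← mul_sub]
    congr 1
    rw [Finset.mul_sum, ← Finset.sum_sub_distrib]
    exact Finset.sum_congr rfl fun ψ _ => by ring
  rw [h1, zf_one]

theorem not_memLocalIdeal_mul (hM : M.IsMaximal) {a b : ℂ} (ha : MemLocalRing M a)
    (hna : ¬ MemLocalIdeal M a) (hnb : ¬ MemLocalIdeal M b) : ¬ MemLocalIdeal M (a * b) := by
  intro hab
  apply hnb
  have ha0 : a ≠ 0 := fun h0 => hna (h0 ▸ memLocalIdeal_zero hM)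
  have := memLocalIdeal_mul_ring hM hab (memLocalRing_inv hM ha hna)
  rwa [← mul_assoc, inv_mul_cancel₀ ha0, one_mul] at this

theorem not_memLocalIdeal_prod (hM : M.IsMaximal) {ι : Type*} (s : Finset ι) (v : ι → ℂ)
    (hv : ∀ i ∈ s, MemLocalRing M (v i)) (hnv : ∀ i ∈ s, ¬ MemLocalIdeal M (v i)) :
    ¬ MemLocalIdeal M (∏ i ∈ s, v i) := by
  classical
  induction s using Finset.induction_on with
  | empty =>
    rw [Finset.prod_empty]
    exact not_memLocalIdeal_one hM
  | insert a s ha ih =>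
    rw [Finset.prod_insert ha]
    exact not_memLocalIdeal_mul hM (hv a (Finset.mem_insert_self a s))
      (hnv a (Finset.mem_insert_self a s))
      (ih (fun i hi => hv i (Finset.mem_insert_of_mem hi))
        (fun i hi => hnv i (Finset.mem_insert_of_mem hi)))

open Classical in
/-- **The Brauer central character is the central character of a block of `G`.** -/
theorem exists_irr_brauer {p : ℕ} [hp : Fact p.Prime] (hM : IsPModular p M) (P H : Subgroup G)
    [Fintype H] (hP : IsPGroup p P) (hCH : Subgroup.centralizer (P : Set G) ≤ H)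
    (hHN : H ≤ Subgroup.normalizer (P : Set G)) (ξ₀ : IrrCharacter H) :
    ∃ χ : IrrCharacter G, ∀ g : G,
      MemLocalIdeal M (brauerCentralChar P H (ξ₀ : H → ℂ) g - centralChar (χ : G → ℂ) g) := by
  have hMm := hM.2.1
  have hξ1 : (ξ₀ : H → ℂ) 1 ≠ 0 := by
    obtain ⟨n, hn, h⟩ := IsIrrCharacter.apply_one ξ₀.2
    rw [h]; exact_mod_cast hn.ne'
  by_contra hcon
  push Not at hcon
  have hsep : ∀ χ : G → ℂ, ∃ g : G, IsIrrCharacter G χ →
      ¬ MemLocalIdeal M (brauerCentralChar P H (ξ₀ : H → ℂ) g - centralChar χ g) := by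
    intro χ
    by_cases hχ : IsIrrCharacter G χ
    · obtain ⟨g, hg⟩ := hcon ⟨χ, hχ⟩
      exact ⟨g, fun _ => hg⟩
    · exact ⟨1, fun h => absurd h hχ⟩
  choose gs hgs using hsep
  set F : (G → ℂ) → (G → ℂ) → ℂ := fun χ ψ => centralChar ψ (gs χ) - centralChar χ (gs χ)
    with hF
  set v : (G → ℂ) → ℂ := fun χ =>
    brauerCentralChar P H (ξ₀ : H → ℂ) (gs χ) - centralChar χ (gs χ) with hv
  have hFA : ∀ χ ∈ irrFinset G, InA M (F χ) := by
    intro χ hχ
    exact InA.sub hMm (InA.centralChar hMm (gs χ))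
      (InA.const hMm (memLocalRing_of_isIntegral hMm
        (isIntegral_centralChar (mem_irrFinset.mp hχ) (gs χ))))
  have hbF : ∀ χ, beta P H (ξ₀ : H → ℂ) (zf (F χ)) = v χ := by
    intro χ
    have h1 : zf (F χ) = fun x => (if IsConj (gs χ) x then (1 : ℂ) else 0)
        - centralChar χ (gs χ) * (if x = 1 then 1 else 0) := by
      funext x
      rw [hF]
      simp only
      rw [zf_sub_const, zf_centralChar]
    rw [h1, beta_sub_const P H _ hξ1, beta_classInd]
  have hvR : ∀ χ ∈ irrFinset G, MemLocalRing M (v χ) := by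
    intro χ hχ
    rw [← hbF χ]
    exact memLocalRing_beta hMm P H hHN ξ₀ (zf_isClassFunction _) (hFA χ hχ)
  have hind : ∀ S : Finset (G → ℂ), S ⊆ irrFinset G →
      MemLocalIdeal M (beta P H (ξ₀ : H → ℂ) (zf (fun ψ => ∏ χ ∈ S, F χ ψ)) - ∏ χ ∈ S, v χ) := by
    intro S
    induction S using Finset.induction_on with
    | empty =>
      intro _
      simp only [Finset.prod_empty]
      have h1 : zf (fun _ : G → ℂ => (1 : ℂ)) = fun x => (if IsConj (1 : G) x then (1 : ℂ) else 0)
          := by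
        funext x
        rw [zf_one]
        by_cases hx : x = 1
        · rw [if_pos hx, if_pos (hx ▸ IsConj.refl _)]
        · rw [if_neg hx, if_neg (fun h => hx (isConj_one_right.mp h))]
      rw [h1, beta_classInd, brauerCentralChar_eq_sum, Finset.sum_eq_single (1 : H)]
      · have h2 : ((1 : H) : G) ∈ Subgroup.centralizer (P : Set G) := by
          rw [Subgroup.coe_one]; exact Subgroup.one_mem _
        rw [if_pos ⟨by rw [Subgroup.coe_one], h2⟩, div_self hξ1, sub_self]
        exact memLocalIdeal_zero hMm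
      · intro h _ hne
        rw [if_neg]
        intro hh
        exact hne (Subtype.ext (isConj_one_right.mp hh.1))
      · intro h
        exact absurd (Finset.mem_univ _) h
    | insert a S ha ih =>
      intro hsub
      have haI := hsub (Finset.mem_insert_self a S)
      have hSsub : S ⊆ irrFinset G := fun x hx => hsub (Finset.mem_insert_of_mem hx)
      have hPA : InA M (fun ψ => ∏ χ ∈ S, F χ ψ) :=
        InA.prod hMm S F (fun χ hχ => hFA χ (hSsub hχ))
      have h1 : zf (fun ψ => ∏ χ ∈ insert a S, F χ ψ)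
          = conv (zf (F a)) (zf (fun ψ => ∏ χ ∈ S, F χ ψ)) := by
        funext x
        show _ = ∑ y : G, zf (F a) y * zf (fun ψ => ∏ χ ∈ S, F χ ψ) (y⁻¹ * x)
        rw [← zf_mul]
        apply zf_congr
        intro ψ _
        rw [Finset.prod_insert ha]
      rw [h1, Finset.prod_insert ha]
      have h2 := beta_conv_sub_mem hM P H hP hCH hHN ξ₀ (zf_isClassFunction (F a))
        (zf_isClassFunction (fun ψ => ∏ χ ∈ S, F χ ψ)) (hFA a haI) hPA
      rw [hbF a] at h2
      have h3 := memLocalIdeal_mul_ring hMm (ih hSsub) (hvR a haI)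
      have := memLocalIdeal_add hMm h2 h3
      have e : beta P H (ξ₀ : H → ℂ) (conv (zf (F a)) (zf fun ψ => ∏ χ ∈ S, F χ ψ))
          - v a * beta P H (ξ₀ : H → ℂ) (zf fun ψ => ∏ χ ∈ S, F χ ψ)
          + v a * (beta P H (ξ₀ : H → ℂ) (zf fun ψ => ∏ χ ∈ S, F χ ψ) - ∏ χ ∈ S, v χ)
          = beta P H (ξ₀ : H → ℂ) (conv (zf (F a)) (zf fun ψ => ∏ χ ∈ S, F χ ψ))
            - v a * ∏ χ ∈ S, v χ := by ring
      rwa [e] at this
  have hfull := hind (irrFinset G) (Finset.Subset.refl _)
  have hzero : zf (fun ψ => ∏ χ ∈ irrFinset G, F χ ψ) = fun _ => 0 := by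
    funext x
    have : zf (fun ψ => ∏ χ ∈ irrFinset G, F χ ψ) x = zf (fun _ => 0) x := by
      apply zf_congr
      intro ψ hψ
      apply Finset.prod_eq_zero hψ
      rw [hF]
      simp only
      rw [sub_self]
    rw [this]
    unfold zf
    simp
  rw [hzero] at hfull
  have hb0 : beta P H (ξ₀ : H → ℂ) (fun _ => 0) = 0 := by
    unfold beta
    have : brRes P H (fun _ : G => (0 : ℂ)) = fun _ => 0 := by
      funext h
      unfold brRes
      split_ifs <;> rfl
    rw [this, om_zero]
  rw [hb0, zero_sub] at hfull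
  have hunit := not_memLocalIdeal_prod hMm (irrFinset G) v hvR
    (fun χ hχ => hgs χ (mem_irrFinset.mp hχ))
  apply hunit
  have := memLocalIdeal_neg hMm hfull
  rwa [neg_neg] at this

/-- **Induced blocks exist** from subgroups between `P C_G(P)` and `N_G(P)`. -/
theorem inducedBlockDefined_of_brauer {p : ℕ} [hp : Fact p.Prime] (hM : IsPModular p M)
    (P H : Subgroup G) (hP : IsPGroup p P) (hPH : P ≤ H)
    (hCH : Subgroup.centralizer (P : Set G) ≤ H) (hHN : H ≤ Subgroup.normalizer (P : Set G))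
    (ξ₀ : IrrCharacter H) :
    ∃ χ : IrrCharacter G, IsInducedBlock M H (blockOf M (ξ₀ : H → ℂ))
      (blockOf M (χ : G → ℂ)) := by
  classical
  haveI : Fintype H := Fintype.ofFinite _
  have hMm := hM.2.1
  obtain ⟨χ, hχ⟩ := exists_irr_brauer hM P H hP hCH hHN ξ₀
  refine ⟨χ, ⟨ξ₀, rfl⟩, ⟨χ, rfl⟩, ?_⟩
  intro ξ hξ χ' hχ' g
  have h1 := inducedCentralChar_sub_brauer hM P H hP hPH hHN ξ g
  -- `brauerCentralChar` of `ξ` and `ξ₀` agree modulo the ideal
  have h2 : MemLocalIdeal M (brauerCentralChar P H (ξ : H → ℂ) g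
      - brauerCentralChar P H (ξ₀ : H → ℂ) g) := by
    rw [← beta_classInd, ← beta_classInd]
    unfold beta
    have hcf : IsClassFunction G (fun x => if IsConj g x then (1 : ℂ) else 0) := by
      intro x t
      have hc : IsConj x (t * x * t⁻¹) := isConj_iff.mpr ⟨t, rfl⟩
      have : IsConj g (t * x * t⁻¹) ↔ IsConj g x :=
        ⟨fun h1 => h1.trans hc.symm, fun h1 => h1.trans hc⟩
      simp only [this]
    exact om_sub_mem hMm (IsCharacter.isClassFunction (IsIrrCharacter.isCharacter ξ.2))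
      (IsCharacter.isClassFunction (IsIrrCharacter.isCharacter ξ₀.2)) (sameBlock_symm hMm hξ)
      (brRes_isClassFunction P H hHN hcf)
      (brRes_memLocalRing hMm P H (fun x => by
        split_ifs
        · exact memLocalRing_one hMm
        · exact memLocalRing_zero hMm))
  have h3 := hχ g
  have h4 := hχ' g
  have := memLocalIdeal_add hMm (memLocalIdeal_add hMm (memLocalIdeal_add hMm h1 h2) h3) h4
  have e : inducedCentralChar H (ξ : H → ℂ) g - brauerCentralChar P H (ξ : H → ℂ) g
      + (brauerCentralChar P H (ξ : H → ℂ) g - brauerCentralChar P H (ξ₀ : H → ℂ) g)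
      + (brauerCentralChar P H (ξ₀ : H → ℂ) g - centralChar (χ : G → ℂ) g)
      + (centralChar (χ : G → ℂ) g - centralChar (χ' : G → ℂ) g)
      = inducedCentralChar H (ξ : H → ℂ) g - centralChar (χ' : G → ℂ) g := by ring
  rwa [e] at this

end Cfsg.Agent.Lib.Helper2_BrauerFirst
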