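import Mathlib
import Cfsg.Prelude.Def_Characters
import Cfsg.Prelude.Def_Blocks
import Cfsg.Prelude.Def_BlockRank
import Cfsg.Agent.Lib.Helper2_ClassFn
import Cfsg.Agent.Lib.Helper2_CharBasic
import Cfsg.Agent.Lib.Helper2_CharOrtho
import Cfsg.Agent.Lib.Helper2_CharValues
import Cfsg.Agent.Lib.Helper2_CharSum
import Cfsg.Agent.Lib.Helper2_CharInt
import Cfsg.Agent.Lib.Helper2_CharCenter
import Cfsg.Agent.Lib.Helper2_ModM
import Cfsg.Agent.Lib.Helper2_Blocks
import Cfsg.Agent.Lib.Helper2_BlockOrtho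
import Cfsg.Agent.Lib.Helper2_BlockMore
import Cfsg.Agent.Lib.Helper2_DefectGroup
import Cfsg.Agent.Lib.Helper2_MinMax
import Cfsg.Agent.Lib.Helper2_InducedBlock

set_option autoImplicit false

/-!
# Defect groups of induced blocks
-/

namespace Cfsg.Agent.Lib.Helper2_InducedDefect

open Cfsg
open Cfsg.Agent.Lib.Helper2_ClassFn
open Cfsg.Agent.Lib.Helper2_CharBasic
open Cfsg.Agent.Lib.Helper2_CharOrtho
open Cfsg.Agent.Lib.Helper2_CharValues
open Cfsg.Agent.Lib.Helper2_CharSum
open Cfsg.Agent.Lib.Helper2_CharCenter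
open Cfsg.Agent.Lib.Helper2_ModM
open Cfsg.Agent.Lib.Helper2_Blocks
open Cfsg.Agent.Lib.Helper2_BlockOrtho
open Cfsg.Agent.Lib.Helper2_BlockMore
open Cfsg.Agent.Lib.Helper2_DefectGroup
open Cfsg.Agent.Lib.Helper2_MinMax
open Cfsg.Agent.Lib.Helper2_InducedBlock
open scoped ComplexConjugate

universe u

variable {G : Type u} [Group G] [Fintype G] {M : Ideal AlgInt}

theorem isDefectClass_conj {B : Set (IrrCharacter G)} {g : G} (hg : IsDefectClass M B g)
    (w : G) : IsDefectClass M B (w * g * w⁻¹) := by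
  obtain ⟨h1, h2, h3⟩ := hg
  refine ⟨?_, ?_, ?_⟩
  · rw [blockCoeff_isClassFunction B g w]; exact h1
  · rw [blockCoeff_isClassFunction B g w]; exact h2
  · intro χ hχ
    rw [centralChar_conj _ (IsCharacter.isClassFunction (IsIrrCharacter.isCharacter χ.2)) g w]
    exact h3 χ hχ

theorem card_centralizer_conj (g w : G) :
    Nat.card (Subgroup.centralizer ({w * g * w⁻¹} : Set G))
      = Nat.card (Subgroup.centralizer ({g} : Set G)) := by
  classical
  have h1 := Subgroup.card_mul_index (Subgroup.centralizer ({w * g * w⁻¹} : Set G))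
  have h2 := Subgroup.card_mul_index (Subgroup.centralizer ({g} : Set G))
  have h3 : (Subgroup.centralizer ({w * g * w⁻¹} : Set G)).index
      = (Subgroup.centralizer ({g} : Set G)).index := by
    rw [index_centralizer_eq, index_centralizer_eq]
    exact (card_class_of_isConj (isConj_iff.mpr ⟨w, rfl⟩)).symm
  rw [h3, ← h2] at h1
  exact Nat.eq_of_mul_eq_mul_right (Nat.pos_of_ne_zero Subgroup.index_ne_zero_of_finite) h1

/-- Conjugates of defect groups are defect groups. -/
theorem isDefectGroup_conj {p : ℕ} [hp : Fact p.Prime] {B : Set (IrrCharacter G)}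
    {E : Subgroup G} (hE : IsDefectGroup p M B E) (w : G) :
    IsDefectGroup p M B (E.map (MulAut.conj w).toMonoidHom) := by
  obtain ⟨g, hg, P, rfl⟩ := hE
  refine ⟨w * g * w⁻¹, isDefectClass_conj hg w, ?_⟩
  set Ew := ((P : Subgroup (Subgroup.centralizer ({g} : Set G))).map
    (Subgroup.centralizer ({g} : Set G)).subtype).map (MulAut.conj w).toMonoidHom with hEw
  have hle : Ew ≤ Subgroup.centralizer ({w * g * w⁻¹} : Set G) := by
    rintro _ ⟨_, ⟨a, _, rfl⟩, rfl⟩
    rw [Subgroup.mem_centralizer_singleton_iff]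
    have ha : (a : G) * g = g * (a : G) := Subgroup.mem_centralizer_singleton_iff.mp a.2
    simp only [Subgroup.coe_subtype, MulEquiv.coe_toMonoidHom, MulAut.conj_apply]
    calc w * (a : G) * w⁻¹ * (w * g * w⁻¹) = w * ((a : G) * g) * w⁻¹ := by group
      _ = w * (g * (a : G)) * w⁻¹ := by rw [ha]
      _ = w * g * w⁻¹ * (w * (a : G) * w⁻¹) := by group
  have hcard : Nat.card (Ew.subgroupOf (Subgroup.centralizer ({w * g * w⁻¹} : Set G)))
      = p ^ (Nat.card (Subgroup.centralizer ({w * g * w⁻¹} : Set G))).factorization p := by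
    rw [Nat.card_congr (Subgroup.subgroupOfEquivOfLe hle).toEquiv, hEw,
      Subgroup.card_map_of_injective (MulAut.conj w).injective,
      Subgroup.card_map_of_injective (Subgroup.subtype_injective _),
      Sylow.card_eq_multiplicity P, card_centralizer_conj]
  refine ⟨Sylow.ofCard _ hcard, ?_⟩
  rw [Sylow.coe_ofCard, Subgroup.map_subgroupOf_eq_of_le hle]

/-- If a finite sum of products of local integers is a unit, some summand has both factors
units. -/
theorem exists_unit_summand (hM : M.IsMaximal) {ι : Type*} (s : Finset ι) (a b : ι → ℂ)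
    (ha : ∀ i ∈ s, MemLocalRing M (a i)) (hb : ∀ i ∈ s, MemLocalRing M (b i))
    (h : ¬ MemLocalIdeal M (∑ i ∈ s, a i * b i)) :
    ∃ i ∈ s, ¬ MemLocalIdeal M (a i) ∧ ¬ MemLocalIdeal M (b i) := by
  by_contra hcon
  push Not at hcon
  apply h
  apply memLocalIdeal_sum hM
  intro i hi
  by_cases hai : MemLocalIdeal M (a i)
  · have := memLocalIdeal_mul_ring hM hai (hb i hi)
    rwa [mul_comm] at this
  · exact memLocalIdeal_mul_ring hM (hcon i hi hai) (ha i hi)

theorem memLocalRing_inducedCentralChar (hM : M.IsMaximal) (H : Subgroup G) [Fintype H]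
    (ξ : IrrCharacter H) (g : G) : MemLocalRing M (inducedCentralChar H (ξ : H → ℂ) g) := by
  rw [inducedCentralChar_eq_om, om_eq_sum_classes
    (IsCharacter.isClassFunction (IsIrrCharacter.isCharacter ξ.2))
    (classIndOn_isClassFunction H g)]
  apply memLocalRing_sum hM
  intro C _
  exact memLocalRing_mul hM (classIndOn_memLocalRing hM H g _)
    (memLocalRing_of_isIntegral hM (isIntegral_centralChar ξ.2 _))

/-- A class function in the block of `χ₀` (in the sense of central characters) has a unit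
central character value at some class in the support of the block idempotent. -/
theorem exists_unit_class (hM : M.IsMaximal) (χ₀ : IrrCharacter G) {Φ : G → ℂ}
    (hΦcf : IsClassFunction G Φ) (hs : SameBlock M Φ (χ₀ : G → ℂ))
    (hΦR : ∀ g, MemLocalRing M (centralChar Φ g)) :
    ∃ g : G, ¬ MemLocalIdeal M (blockCoeff (blockOf M (χ₀ : G → ℂ)) g)
      ∧ ¬ MemLocalIdeal M (centralChar Φ g) := by
  classical
  set B := blockOf M (χ₀ : G → ℂ) with hB
  have key := om_sub_mem hM hΦcf
    (IsCharacter.isClassFunction (IsIrrCharacter.isCharacter χ₀.2)) hs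
    (blockCoeff_isClassFunction B) (memLocalRing_blockCoeff hM χ₀.2)
  rw [om_blockCoeff B χ₀.2, if_pos ((memB_coe B χ₀).mpr (self_mem_blockOf hM χ₀))] at key
  have hom : ¬ MemLocalIdeal M (om Φ (blockCoeff B)) := by
    intro h0
    have := memLocalIdeal_sub hM h0 key
    rw [sub_sub_cancel] at this
    exact not_memLocalIdeal_one hM this
  rw [om_eq_sum_classes hΦcf (blockCoeff_isClassFunction B)] at hom
  obtain ⟨C, _, hC1, hC2⟩ := exists_unit_summand hM _
    (fun C : ConjClasses G => blockCoeff B C.out) (fun C => centralChar Φ C.out)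
    (fun C _ => memLocalRing_blockCoeff hM χ₀.2 _) (fun C _ => hΦR _) hom
  exact ⟨C.out, hC1, hC2⟩

/-- If the induced central character is a unit at `g`, then the central character is a unit at
some conjugate of `g` in `H`. -/
theorem exists_unit_subclass (hM : M.IsMaximal) (H : Subgroup G) [Fintype H]
    (ξ₀ : IrrCharacter H) (g : G)
    (hg : ¬ MemLocalIdeal M (inducedCentralChar H (ξ₀ : H → ℂ) g)) :
    ∃ l : H, IsConj g (l : G) ∧ ¬ MemLocalIdeal M (centralChar (ξ₀ : H → ℂ) l) := by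
  classical
  rw [inducedCentralChar_eq_om, om_eq_sum_classes
    (IsCharacter.isClassFunction (IsIrrCharacter.isCharacter ξ₀.2))
    (classIndOn_isClassFunction H g)] at hg
  obtain ⟨L, _, hL1, hL2⟩ := exists_unit_summand hM _
    (fun L : ConjClasses H => classIndOn H g L.out) (fun L => centralChar (ξ₀ : H → ℂ) L.out)
    (fun L _ => classIndOn_memLocalRing hM H g _)
    (fun L _ => memLocalRing_of_isIntegral hM (isIntegral_centralChar ξ₀.2 _)) hg
  refine ⟨L.out, ?_, hL2⟩
  by_contra hne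
  apply hL1
  show MemLocalIdeal M (classIndOn H g L.out)
  unfold classIndOn
  rw [if_neg hne]
  exact memLocalIdeal_zero hM

/-- **Defect groups of an induced block contain the defect groups of the block below.** -/
theorem defectGroup_le_of_induced {p : ℕ} [hp : Fact p.Prime] (hM : IsPModular p M)
    (H : Subgroup G) (b : Set (IrrCharacter H)) (B : Set (IrrCharacter G))
    (hind : IsInducedBlock M H b B) (D : Subgroup H) (hD : IsDefectGroup p M b D) :
    ∃ E : Subgroup G, IsDefectGroup p M B E ∧ D.map H.subtype ≤ E := by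
  classical
  haveI : Fintype H := Fintype.ofFinite _
  have hMm := hM.2.1
  obtain ⟨⟨ξ₀, rfl⟩, ⟨χ₀, rfl⟩, hcong⟩ := hind
  obtain ⟨h₀, hh₀, D₀, rfl⟩ := hD
  have hξ1 : (ξ₀ : H → ℂ) 1 ≠ 0 := by
    obtain ⟨n, hn, h⟩ := IsIrrCharacter.apply_one ξ₀.2
    rw [h]; exact_mod_cast hn.ne'
  have hΦcf : IsClassFunction G (indFun H (ξ₀ : H → ℂ)) := indFun_isClassFunction H _
  have hs : SameBlock M (indFun H (ξ₀ : H → ℂ)) (χ₀ : G → ℂ) := by
    intro g
    rw [centralChar_indFun H _ hξ1 g]
    exact hcong ξ₀ (self_mem_blockOf hMm ξ₀) χ₀ (self_mem_blockOf hMm χ₀) g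
  obtain ⟨g, hC1, hC2⟩ := exists_unit_class hMm χ₀ hΦcf hs (fun g => by
    rw [centralChar_indFun H _ hξ1]
    exact memLocalRing_inducedCentralChar hMm H ξ₀ g)
  rw [centralChar_indFun H _ hξ1] at hC2
  obtain ⟨l, hgl, hL2⟩ := exists_unit_subclass hMm H ξ₀ g hC2
  -- min-max in `H`
  have hDp : IsPGroup p ((D₀ : Subgroup (Subgroup.centralizer ({h₀} : Set H))).map
      (Subgroup.centralizer ({h₀} : Set H)).subtype) := D₀.isPGroup'.map _
  have hDle : (D₀ : Subgroup (Subgroup.centralizer ({h₀} : Set H))).map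
      (Subgroup.centralizer ({h₀} : Set H)).subtype ≤ Subgroup.centralizer ({h₀} : Set H) := by
    rintro _ ⟨a, _, rfl⟩
    exact a.2
  obtain ⟨x, Q, hxQ⟩ := minmax_central hM ξ₀ h₀ hh₀ _ hDp hDle l
    ⟨ξ₀, self_mem_blockOf hMm ξ₀, hL2⟩
  generalize hDH : (D₀ : Subgroup (Subgroup.centralizer ({h₀} : Set H))).map
      (Subgroup.centralizer ({h₀} : Set H)).subtype = DH at hDp hDle hxQ ⊢
  have hE₁p : IsPGroup p ((DH.map (MulAut.conj x).toMonoidHom).map H.subtype) :=
    (hDp.map _).map _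
  have hE₁le : (DH.map (MulAut.conj x).toMonoidHom).map H.subtype
      ≤ Subgroup.centralizer ({(l : G)} : Set G) := by
    rintro _ ⟨y, hy, rfl⟩
    obtain ⟨q, _, hq⟩ := hxQ hy
    rw [Subgroup.mem_centralizer_singleton_iff]
    have hq2 : (q : H) * l = l * (q : H) := Subgroup.mem_centralizer_singleton_iff.mp q.2
    have hq3 : (q : H) = y := hq
    rw [hq3] at hq2
    exact congrArg (fun z : H => (z : G)) hq2
  -- min-max in `G`
  have hul : ¬ MemLocalIdeal M (blockCoeff (blockOf M (χ₀ : G → ℂ)) (l : G)) := by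
    obtain ⟨t, ht⟩ := isConj_iff.mp hgl
    rw [← ht, blockCoeff_isClassFunction _ g t]
    exact hC1
  obtain ⟨g₁, hg₁⟩ := exists_defectClass hMm χ₀
  obtain D₁ : Sylow p (Subgroup.centralizer ({g₁} : Set G)) := default
  obtain ⟨y, hy⟩ := minmax_support hM χ₀ g₁ hg₁ D₁ (l : G) hul _ hE₁p hE₁le
  refine ⟨_, isDefectGroup_conj ⟨g₁, hg₁, D₁, rfl⟩ ((x : G)⁻¹ * y), ?_⟩
  rintro _ ⟨d, hd, rfl⟩
  rw [mem_map_conj]
  have h1 : (x : G) * (d : G) * (x : G)⁻¹
      ∈ (DH.map (MulAut.conj x).toMonoidHom).map H.subtype := by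
    refine ⟨x * d * x⁻¹, ⟨d, hd, ?_⟩, ?_⟩
    · simp [MulAut.conj_apply]
    · simp
  have h2 := mem_map_conj.mp (hy h1)
  have e : ((x : G)⁻¹ * y)⁻¹ * H.subtype d * ((x : G)⁻¹ * y)
      = y⁻¹ * ((x : G) * (d : G) * (x : G)⁻¹) * y := by
    simp only [Subgroup.coe_subtype]
    group
  rw [e]
  exact h2

end Cfsg.Agent.Lib.Helper2_InducedDefect
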