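import Mathlib
import Cfsg.Prelude.Def_Characters
import Cfsg.Prelude.Def_Blocks
import Cfsg.Prelude.Def_BlockRank
import Cfsg.Agent.Lib.Helper2_ClassFn
import Cfsg.Agent.Lib.Helper2_CharBasic
import Cfsg.Agent.Lib.Helper2_CharOrtho
import Cfsg.Agent.Lib.Helper2_CharValues
import Cfsg.Agent.Lib.Helper2_CharComplete
import Cfsg.Agent.Lib.Helper2_CharSum
import Cfsg.Agent.Lib.Helper2_CharCentral
import Cfsg.Agent.Lib.Helper2_CharInt
import Cfsg.Agent.Lib.Helper2_ModM
import Cfsg.Agent.Lib.Helper2_Blocks
import Cfsg.Agent.Lib.Helper2_BlockOrtho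
import Cfsg.Agent.Lib.Helper2_BlockMore
import Cfsg.Agent.Lib.Helper2_DefectGroup
import Cfsg.Agent.Lib.Helper2_DefectPCore
import Cfsg.Agent.Lib.Helper2_MinMax
import Cfsg.Agent.Lib.Helper2_InducedBlock
import Cfsg.Agent.Lib.Helper2_BrauerMap
import Cfsg.Agent.Lib.Helper2_InducedDefect
import Cfsg.Agent.Lib.Helper2_BrauerFirst

set_option autoImplicit false

/-!
# Converse direction: blocks whose defect groups contain `P` are induced from `H`
-/

namespace Cfsg.Agent.Lib.Helper2_BrauerConverse

open Cfsg
open Cfsg.Agent.Lib.Helper2_ClassFn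
open Cfsg.Agent.Lib.Helper2_CharBasic
open Cfsg.Agent.Lib.Helper2_CharOrtho
open Cfsg.Agent.Lib.Helper2_CharValues
open Cfsg.Agent.Lib.Helper2_CharComplete
open Cfsg.Agent.Lib.Helper2_CharSum
open Cfsg.Agent.Lib.Helper2_CharCentral
open Cfsg.Agent.Lib.Helper2_ModM
open Cfsg.Agent.Lib.Helper2_Blocks
open Cfsg.Agent.Lib.Helper2_BlockOrtho
open Cfsg.Agent.Lib.Helper2_BlockMore
open Cfsg.Agent.Lib.Helper2_DefectGroup
open Cfsg.Agent.Lib.Helper2_DefectPCore
open Cfsg.Agent.Lib.Helper2_MinMax
open Cfsg.Agent.Lib.Helper2_InducedBlock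
open Cfsg.Agent.Lib.Helper2_BrauerMap
open Cfsg.Agent.Lib.Helper2_InducedDefect
open Cfsg.Agent.Lib.Helper2_BrauerFirst
open scoped ComplexConjugate

universe u

section Conv

variable {K : Type u} [Group K] [Fintype K] {M : Ideal AlgInt}

omit [Group K] [Fintype K] in
theorem memLocalRing_of_memLocalIdeal {z : ℂ} (h : MemLocalIdeal M z) : MemLocalRing M z := by
  obtain ⟨a, b, _, hb, h⟩ := h
  exact ⟨a, b, hb, h⟩

/-- A class function killed by all central characters is zero. -/
theorem eq_zero_of_om_eq_zero {g : K → ℂ} (hg : IsClassFunction K g)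
    (h : ∀ ψ, IsIrrCharacter K ψ → om ψ g = 0) : g = 0 := by
  rw [IsClassFunction.expansion hg]
  refine Finset.sum_eq_zero fun ψ hψ => ?_
  have hψ' := mem_irrFinset.mp hψ
  have hc := IsIrrCharacter.conj hψ'
  have h1 := h _ hc
  have h0 : classInner g ψ = 0 := by
    rw [classInner_def]
    unfold om at h1
    have hne : conj (ψ 1) ≠ 0 := by
      obtain ⟨n, hn, h⟩ := IsIrrCharacter.apply_one hψ'
      rw [h, Complex.conj_natCast]; exact_mod_cast hn.ne'
    rcases div_eq_zero_iff.mp h1 with h2 | h2
    · rw [h2, mul_zero]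
    · exact absurd h2 hne
  rw [h0, zero_smul]

theorem conv_memLocalRing (hM : M.IsMaximal) {w₁ w₂ : K → ℂ}
    (h₁ : ∀ x, MemLocalRing M (w₁ x)) (h₂ : ∀ x, MemLocalRing M (w₂ x)) (x : K) :
    MemLocalRing M (conv w₁ w₂ x) := by
  unfold conv
  exact memLocalRing_sum hM _ _ fun y _ => memLocalRing_mul hM (h₁ y) (h₂ _)

theorem conv_memLocalIdeal_right (hM : M.IsMaximal) {w₁ w₂ : K → ℂ}
    (h₁ : ∀ x, MemLocalRing M (w₁ x)) (h₂ : ∀ x, MemLocalIdeal M (w₂ x)) (x : K) :
    MemLocalIdeal M (conv w₁ w₂ x) := by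
  unfold conv
  exact memLocalIdeal_sum hM _ _ fun y _ => memLocalIdeal_mul_ring hM (h₂ _) (h₁ y)

theorem om_smul (χ z : K → ℂ) (c : ℂ) : om χ (fun x => c * z x) = c * om χ z := by
  unfold om
  rw [← mul_div_assoc]
  congr 1
  rw [Finset.mul_sum]
  exact Finset.sum_congr rfl fun x _ => by ring

theorem conv_sub_smul (f g : K → ℂ) (c : ℂ) (x : K) :
    conv f (fun k => conv f g k - c * g k) x = conv f (conv f g) x - c * conv f g x := by
  unfold conv
  rw [Finset.mul_sum, ← Finset.sum_sub_distrib]
  exact Finset.sum_congr rfl fun y _ => by ring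

open Classical in
/-- An idempotent modulo the ideal in the centre of the local group ring which is killed modulo
the ideal by all central characters vanishes modulo the ideal. -/
theorem memLocalIdeal_of_idem_of_om (hM : M.IsMaximal) {f : K → ℂ} (hf : IsClassFunction K f)
    (hfR : ∀ x, MemLocalRing M (f x)) (hidem : ∀ x, MemLocalIdeal M (conv f f x - f x))
    (hom : ∀ ψ, IsIrrCharacter K ψ → MemLocalIdeal M (om ψ f)) (x : K) :
    MemLocalIdeal M (f x) := by
  have key : ∀ S : Finset (K → ℂ), S ⊆ irrFinset K → ∃ g : K → ℂ, IsClassFunction K g ∧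
      (∀ x, MemLocalRing M (g x)) ∧
      (∀ ψ, IsIrrCharacter K ψ → om ψ g = ∏ ξ ∈ S, (om ψ f - om ξ f)) ∧
      (∀ x, MemLocalIdeal M (conv f g x - f x)) := by
    intro S
    induction S using Finset.induction_on with
    | empty =>
      intro _
      refine ⟨fun x => if x = 1 then 1 else 0, ?_, ?_, ?_, ?_⟩
      · intro x t
        simp only
        have : t * x * t⁻¹ = 1 ↔ x = 1 := by
          constructor
          · intro h
            have : x = t⁻¹ * (t * x * t⁻¹) * t := by group
            rw [this, h]; group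
          · rintro rfl; group
        rw [if_congr this rfl rfl]
      · intro x
        beta_reduce
        split_ifs
        · exact memLocalRing_one hM
        · exact memLocalRing_zero hM
      · intro ψ hψ
        rw [Finset.prod_empty]
        unfold om
        rw [Finset.sum_eq_single (1 : K)]
        · beta_reduce
          rw [if_pos rfl, one_mul]
          have hψ1 : ψ 1 ≠ 0 := by
            obtain ⟨n, hn, h⟩ := IsIrrCharacter.apply_one hψ
            rw [h]; exact_mod_cast hn.ne'
          exact div_self hψ1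
        · intro y _ hy
          beta_reduce
          rw [if_neg hy, zero_mul]
        · intro h; exact absurd (Finset.mem_univ _) h
      · intro x
        have : conv f (fun x => if x = 1 then 1 else 0) x = f x := by
          unfold conv
          rw [Finset.sum_eq_single x]
          · beta_reduce
            rw [if_pos (inv_mul_cancel x), mul_one]
          · intro y _ hy
            beta_reduce
            rw [if_neg, mul_zero]
            intro h
            apply hy
            have : y = x * (y⁻¹ * x)⁻¹ := by group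
            rw [this, h]; group
          · intro h; exact absurd (Finset.mem_univ _) h
        rw [this, sub_self]
        exact memLocalIdeal_zero hM
    | insert a S ha ih =>
      intro hsub
      have haI := mem_irrFinset.mp (hsub (Finset.mem_insert_self a S))
      obtain ⟨g, hgcf, hgR, hgom, hgf⟩ := ih (fun x hx => hsub (Finset.mem_insert_of_mem hx))
      have hca : MemLocalIdeal M (om a f) := hom a haI
      refine ⟨fun k => conv f g k - om a f * g k, ?_, ?_, ?_, ?_⟩
      · intro x t
        simp only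
        rw [conv_isClassFunction hf hgcf x t, hgcf x t]
      · intro x
        exact memLocalRing_sub hM (conv_memLocalRing hM hfR hgR x)
          (memLocalRing_mul hM (memLocalRing_of_memLocalIdeal hca) (hgR x))
      · intro ψ hψ
        rw [Finset.prod_insert ha, ← hgom ψ hψ]
        have := om_sub ψ (conv f g) (fun k => om a f * g k)
        rw [this, om_conv hψ f g hgcf, om_smul]
        ring
      · intro x
        rw [conv_sub_smul]
        -- conv f (conv f g) x - c * conv f g x - f x
        have h1 : MemLocalIdeal M (conv f (fun k => conv f g k - f k) x) :=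
          conv_memLocalIdeal_right hM hfR hgf x
        have h1' : conv f (fun k => conv f g k - f k) x = conv f (conv f g) x - conv f f x := by
          unfold conv
          rw [← Finset.sum_sub_distrib]
          exact Finset.sum_congr rfl fun y _ => by ring
        rw [h1'] at h1
        have h2 := hidem x
        have h3 : MemLocalIdeal M (om a f * conv f g x) := by
          have := memLocalIdeal_mul_ring hM hca (conv_memLocalRing hM hfR hgR x)
          rwa [mul_comm] at this
        have h4 := memLocalIdeal_sub hM (memLocalIdeal_add hM h1 h2) h3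
        have e : conv f (conv f g) x - conv f f x + (conv f f x - f x) - om a f * conv f g x
            = conv f (conv f g) x - om a f * conv f g x - f x := by ring
        rwa [e] at h4
  obtain ⟨g, hgcf, hgR, hgom, hgf⟩ := key (irrFinset K) (Finset.Subset.refl _)
  have hg0 : g = 0 := by
    apply eq_zero_of_om_eq_zero hgcf
    intro ψ hψ
    rw [hgom ψ hψ]
    exact Finset.prod_eq_zero (mem_irrFinset.mpr hψ) (sub_self _)
  have h5 := hgf x
  have h6 : conv f g x = 0 := by
    rw [hg0]
    unfold conv
    simp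
  rw [h6, zero_sub] at h5
  have := memLocalIdeal_neg hM h5
  rwa [neg_neg] at this

end Conv

variable {G : Type u} [Group G] [Fintype G] {M : Ideal AlgInt}

open Classical in
/-- The Brauer map composed with a central character, expanded over conjugacy classes. -/
theorem beta_eq_sum_classes (P H : Subgroup G) [Fintype H] (ξ : H → ℂ) {z : G → ℂ}
    (hz : IsClassFunction G z) :
    Helper2_BrauerFirst.beta P H ξ z = ∑ C : ConjClasses G, z C.out * brauerCentralChar P H ξ C.out := by
  unfold Helper2_BrauerFirst.beta om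
  rw [Finset.sum_div]
  simp_rw [brauerCentralChar_eq_sum, Finset.mul_sum]
  rw [Finset.sum_comm]
  refine Finset.sum_congr rfl fun h _ => ?_
  rw [Finset.sum_eq_single (ConjClasses.mk (h : G))]
  · obtain ⟨t, ht⟩ := isConj_out (h : G)
    have hc : IsConj (ConjClasses.mk (h : G)).out (h : G) := by
      rw [← ht]
      exact (isConj_iff.mpr ⟨t, rfl⟩).symm
    unfold brRes
    by_cases h2 : (h : G) ∈ Subgroup.centralizer (P : Set G)
    · rw [if_pos h2, if_pos ⟨hc, h2⟩, ← ht, hz]
      ring
    · rw [if_neg h2, if_neg (fun hh => h2 hh.2), zero_mul, zero_div, mul_zero]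
  · intro C _ hne
    rw [if_neg, mul_zero]
    rintro ⟨hc, _⟩
    apply hne
    rw [← Quotient.out_eq C]
    exact (ConjClasses.mk_eq_mk_iff_isConj.mpr hc)
  · intro h'
    exact absurd (Finset.mem_univ _) h'

open Classical in
theorem blockCoeff_eq_zf (B : Set (IrrCharacter G)) (x : G) :
    blockCoeff B x = zf (fun ψ => if MemB B ψ then (1 : ℂ) else 0) x := by
  rw [blockCoeff_eq]
  unfold zf
  congr 1
  refine Finset.sum_congr rfl fun ψ _ => ?_
  beta_reduce
  split_ifs
  · rw [one_mul]
  · rw [zero_mul, zero_mul]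

open Classical in
theorem conv_blockCoeff (B : Set (IrrCharacter G)) (x : G) :
    conv (blockCoeff B) (blockCoeff B) x = blockCoeff B x := by
  unfold conv
  have h1 : ∀ y : G, blockCoeff B y * blockCoeff B (y⁻¹ * x)
      = zf (fun ψ => if MemB B ψ then (1 : ℂ) else 0) y
        * zf (fun ψ => if MemB B ψ then (1 : ℂ) else 0) (y⁻¹ * x) := by
    intro y
    rw [blockCoeff_eq_zf, blockCoeff_eq_zf]
  rw [Finset.sum_congr rfl (fun y _ => h1 y), ← zf_mul, blockCoeff_eq_zf]
  apply zf_congr
  intro ψ _
  split_ifs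
  · rw [one_mul]
  · rw [zero_mul]

open Classical in
/-- **Converse of Brauer's theorem**: if `P` is contained in a defect group of the block `B`,
then `B` is induced from a block of `H`, for `P C_G(P) ≤ H ≤ N_G(P)`. -/
theorem exists_induced_of_le_defectGroup {p : ℕ} [hp : Fact p.Prime] (hM : IsPModular p M)
    (P H : Subgroup G) [Fintype H] (hP : IsPGroup p P) (hPH : P ≤ H)
    (hCH : Subgroup.centralizer (P : Set G) ≤ H) (hHN : H ≤ Subgroup.normalizer (P : Set G))
    (χ₀ : IrrCharacter G) (D : Subgroup G)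
    (hD : IsDefectGroup p M (blockOf M (χ₀ : G → ℂ)) D) (hPD : P ≤ D) :
    ∃ ξ : IrrCharacter H, IsInducedBlock M H (blockOf M (ξ : H → ℂ))
      (blockOf M (χ₀ : G → ℂ)) := by
  have hMm := hM.2.1
  obtain ⟨g, hg, S, rfl⟩ := hD
  have hgCP : g ∈ Subgroup.centralizer (P : Set G) := by
    rw [Subgroup.mem_centralizer_iff]
    intro w hw
    obtain ⟨c, _, rfl⟩ := hPD hw
    have := Subgroup.mem_centralizer_singleton_iff.mp c.2
    exact this
  have hecf := blockCoeff_isClassFunction (blockOf M (χ₀ : G → ℂ))
  have heR : ∀ x, MemLocalRing M (blockCoeff (blockOf M (χ₀ : G → ℂ)) x) :=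
    memLocalRing_blockCoeff hMm χ₀.2
  have hfcf := brRes_isClassFunction P H hHN hecf
  have hfR := brRes_memLocalRing hMm P H heR
  have hfidem : ∀ h : H, MemLocalIdeal M
      (conv (brRes P H (blockCoeff (blockOf M (χ₀ : G → ℂ))))
        (brRes P H (blockCoeff (blockOf M (χ₀ : G → ℂ)))) h
        - brRes P H (blockCoeff (blockOf M (χ₀ : G → ℂ))) h) := by
    intro h
    have h1 := brRes_conv_sub_mem hM P H hP hCH hecf hecf heR heR h
    have h2 : brRes P H (conv (blockCoeff (blockOf M (χ₀ : G → ℂ)))
        (blockCoeff (blockOf M (χ₀ : G → ℂ)))) h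
        = brRes P H (blockCoeff (blockOf M (χ₀ : G → ℂ))) h := by
      unfold brRes
      split_ifs
      · exact conv_blockCoeff _ _
      · rfl
    rw [h2] at h1
    have := memLocalIdeal_neg hMm h1
    rwa [neg_sub] at this
  have hfg : brRes P H (blockCoeff (blockOf M (χ₀ : G → ℂ))) ⟨g, hCH hgCP⟩
      = blockCoeff (blockOf M (χ₀ : G → ℂ)) g := by
    unfold brRes
    rw [if_pos hgCP]
  have hex : ∃ ξ : H → ℂ, IsIrrCharacter H ξ ∧
      ¬ MemLocalIdeal M (om ξ (brRes P H (blockCoeff (blockOf M (χ₀ : G → ℂ))))) := by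
    by_contra hcon
    push Not at hcon
    have := memLocalIdeal_of_idem_of_om hMm hfcf hfR hfidem hcon ⟨g, hCH hgCP⟩
    rw [hfg] at this
    exact hg.2.1 this
  obtain ⟨ξ, hξ, hξn⟩ := hex
  obtain ⟨χ', hind⟩ := inducedBlockDefined_of_brauer hM P H hP hPH hCH hHN ⟨ξ, hξ⟩
  have hbr : ∀ g' : G, MemLocalIdeal M (brauerCentralChar P H ξ g'
      - centralChar (χ' : G → ℂ) g') := by
    intro g'
    have h1 := hind.2.2 ⟨ξ, hξ⟩ (self_mem_blockOf hMm _) χ' (self_mem_blockOf hMm _) g'
    have h2 := inducedCentralChar_sub_brauer hM P H hP hPH hHN ⟨ξ, hξ⟩ g'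
    have := memLocalIdeal_sub hMm h1 h2
    have e : inducedCentralChar H ξ g' - centralChar (χ' : G → ℂ) g'
        - (inducedCentralChar H ξ g' - brauerCentralChar P H ξ g')
        = brauerCentralChar P H ξ g' - centralChar (χ' : G → ℂ) g' := by ring
    rwa [e] at this
  have key : MemLocalIdeal M (Helper2_BrauerFirst.beta P H ξ
      (blockCoeff (blockOf M (χ₀ : G → ℂ)))
      - om (χ' : G → ℂ) (blockCoeff (blockOf M (χ₀ : G → ℂ)))) := by
    rw [beta_eq_sum_classes P H ξ hecf,
      om_eq_sum_classes (IsCharacter.isClassFunction (IsIrrCharacter.isCharacter χ'.2)) hecf,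
      ← Finset.sum_sub_distrib]
    refine memLocalIdeal_sum hMm _ _ fun C _ => ?_
    rw [← mul_sub]
    exact memLocalIdeal_mul_ring hMm (hbr _) (heR _)
  rw [om_blockCoeff _ χ'.2] at key
  have hmem : MemB (blockOf M (χ₀ : G → ℂ)) (χ' : G → ℂ) := by
    by_contra hne
    rw [if_neg hne, sub_zero] at key
    exact hξn key
  have hχ' : χ' ∈ blockOf M (χ₀ : G → ℂ) := (memB_coe _ χ').mp hmem
  rw [blockOf_eq_of_mem hMm hχ'] at hind
  exact ⟨⟨ξ, hξ⟩, hind⟩

end Cfsg.Agent.Lib.Helper2_BrauerConverse
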