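import Mathlib

set_option autoImplicit false

/-!
# Sylow-type conjugacy lemmas used in Brauer's first main theorem
-/

namespace Cfsg.Agent.Lib.Helper2_SylowConj

open scoped Pointwise

universe u

variable {G : Type u} [Group G] [Finite G]

omit [Finite G] in
theorem mem_map_conj' {B : Subgroup G} {x a : G} :
    a ∈ B.map (MulAut.conj x).toMonoidHom ↔ x⁻¹ * a * x ∈ B := by
  constructor
  · rintro ⟨b, hb, rfl⟩
    have : x⁻¹ * (MulAut.conj x).toMonoidHom b * x = b := by
      simp [MulAut.conj_apply, mul_assoc]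
    rw [this]
    exact hb
  · intro h
    refine ⟨x⁻¹ * a * x, h, ?_⟩
    simp [MulAut.conj_apply, mul_assoc]

/-- Two `p`-subgroups of `C` of full `p`-power order are conjugate in `C`. -/
theorem exists_conj_of_card {p : ℕ} [hp : Fact p.Prime] (C D₁ D₂ : Subgroup G)
    (h₁ : D₁ ≤ C) (h₂ : D₂ ≤ C)
    (hc₁ : Nat.card D₁ = p ^ (Nat.card C).factorization p)
    (hc₂ : Nat.card D₂ = p ^ (Nat.card C).factorization p) :
    ∃ c ∈ C, D₂ = D₁.map (MulAut.conj c).toMonoidHom := by
  have e₁ : Nat.card (D₁.subgroupOf C) = p ^ (Nat.card C).factorization p := by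
    rw [← hc₁]
    exact Nat.card_congr (Subgroup.subgroupOfEquivOfLe h₁).toEquiv
  have e₂ : Nat.card (D₂.subgroupOf C) = p ^ (Nat.card C).factorization p := by
    rw [← hc₂]
    exact Nat.card_congr (Subgroup.subgroupOfEquivOfLe h₂).toEquiv
  set Q₁ : Sylow p C := Sylow.ofCard (D₁.subgroupOf C) e₁ with hQ₁
  set Q₂ : Sylow p C := Sylow.ofCard (D₂.subgroupOf C) e₂ with hQ₂
  obtain ⟨c, hc⟩ := MulAction.exists_smul_eq C Q₁ Q₂
  refine ⟨(c : G), c.2, ?_⟩
  have hcoe : (Q₂ : Subgroup C) = MulAut.conj c • (Q₁ : Subgroup C) := by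
    rw [← hc, Sylow.coe_subgroup_smul]
  rw [Sylow.coe_ofCard, Sylow.coe_ofCard] at hcoe
  ext a
  rw [mem_map_conj']
  constructor
  · intro ha
    have haC : a ∈ C := h₂ ha
    have h1 : (⟨a, haC⟩ : C) ∈ D₂.subgroupOf C := by
      rw [Subgroup.mem_subgroupOf]; exact ha
    rw [hcoe, Subgroup.mem_pointwise_smul_iff_inv_smul_mem] at h1
    rw [Subgroup.mem_subgroupOf] at h1
    simpa [MulAut.smul_def, mul_assoc] using h1
  · intro ha
    have h0 : (c : G)⁻¹ * a * (c : G) ∈ C := h₁ ha
    have haC : a ∈ C := by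
      have := C.mul_mem (C.mul_mem c.2 h0) (C.inv_mem c.2)
      simpa [mul_assoc] using this
    have h1 : (⟨a, haC⟩ : C) ∈ D₂.subgroupOf C := by
      rw [hcoe, Subgroup.mem_pointwise_smul_iff_inv_smul_mem, Subgroup.mem_subgroupOf]
      simpa [MulAut.smul_def, mul_assoc] using ha
    rw [Subgroup.mem_subgroupOf] at h1
    exact h1

omit [Finite G] in
theorem map_conj_le_centralizer (D : Subgroup G) (h x : G)
    (hD : D ≤ Subgroup.centralizer ({h} : Set G)) :
    D.map (MulAut.conj x).toMonoidHom ≤ Subgroup.centralizer ({x * h * x⁻¹} : Set G) := by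
  rintro _ ⟨d, hd, rfl⟩
  rw [Subgroup.mem_centralizer_singleton_iff]
  have := Subgroup.mem_centralizer_singleton_iff.mp (hD hd)
  simp only [MulEquiv.toMonoidHom_eq_coe, MonoidHom.coe_coe, MulAut.conj_apply]
  calc x * d * x⁻¹ * (x * h * x⁻¹) = x * (d * h) * x⁻¹ := by group
    _ = x * (h * d) * x⁻¹ := by rw [this]
    _ = x * h * x⁻¹ * (x * d * x⁻¹) := by group

/-- Elements of `C_G(D)` that are `G`-conjugate and have `D` as a Sylow `p`-subgroup of their
centralizer are conjugate under `N_G(D)`. -/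
theorem exists_normalizer_conj {p : ℕ} [hp : Fact p.Prime] (D : Subgroup G) (h x : G)
    (hD : D ≤ Subgroup.centralizer ({h} : Set G))
    (hD' : D ≤ Subgroup.centralizer ({x * h * x⁻¹} : Set G))
    (hcard : Nat.card D
      = p ^ (Nat.card (Subgroup.centralizer ({x * h * x⁻¹} : Set G))).factorization p) :
    ∃ n ∈ Subgroup.normalizer (D : Set G), n * h * n⁻¹ = x * h * x⁻¹ := by
  have h1 := map_conj_le_centralizer D h x hD
  have hc1 : Nat.card (D.map (MulAut.conj x).toMonoidHom) = Nat.card D :=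
    Subgroup.card_map_of_injective (MulAut.conj x).injective
  obtain ⟨c, hc, heq⟩ := exists_conj_of_card (Subgroup.centralizer ({x * h * x⁻¹} : Set G))
    (D.map (MulAut.conj x).toMonoidHom) D h1 hD' (hc1.trans hcard) hcard
  refine ⟨c * x, ?_, ?_⟩
  · rw [Subgroup.mem_normalizer_iff]
    intro d
    have key : ∀ a : G, a ∈ D ↔ x⁻¹ * (c⁻¹ * a * c) * x ∈ D := by
      intro a
      conv_lhs => rw [heq]
      rw [mem_map_conj', mem_map_conj']
    constructor
    · intro hd
      rw [key]
      have : x⁻¹ * (c⁻¹ * (c * x * d * (c * x)⁻¹) * c) * x = d := by group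
      rw [this]; exact hd
    · intro hd
      rw [key] at hd
      have : x⁻¹ * (c⁻¹ * (c * x * d * (c * x)⁻¹) * c) * x = d := by group
      rw [this] at hd; exact hd
  · have hcc := Subgroup.mem_centralizer_singleton_iff.mp hc
    calc c * x * h * (c * x)⁻¹ = c * (x * h * x⁻¹) * c⁻¹ := by group
      _ = (x * h * x⁻¹) * c * c⁻¹ := by rw [hcc]
      _ = x * h * x⁻¹ := by group

/-- If `D ≤ C_G(h)` is not a Sylow `p`-subgroup of `C_G(h)`, then `N_G(D) ∩ C_G(h)` contains a
strictly larger `p`-subgroup. -/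
theorem exists_bigger_in_normalizer {p : ℕ} [hp : Fact p.Prime] (D : Subgroup G)
    (hDp : IsPGroup p D) (h : G) (hD : D ≤ Subgroup.centralizer ({h} : Set G))
    (hcard : Nat.card D ≠ p ^ (Nat.card (Subgroup.centralizer ({h} : Set G))).factorization p) :
    ∃ E : Subgroup G, IsPGroup p E ∧ E ≤ Subgroup.normalizer (D : Set G) ∧
      E ≤ Subgroup.centralizer ({h} : Set G) ∧ Nat.card D < Nat.card E := by
  set C := Subgroup.centralizer ({h} : Set G) with hC
  have hDCp : IsPGroup p (D.subgroupOf C) :=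
    hDp.comap_of_injective C.subtype (Subgroup.subtype_injective C)
  obtain ⟨Q, hQ⟩ := hDCp.exists_le_sylow
  set P : Subgroup G := (Q : Subgroup C).map C.subtype with hP
  have hPp : IsPGroup p P := Q.isPGroup'.map _
  have hPC : P ≤ C := by
    rintro _ ⟨a, _, rfl⟩
    exact a.2
  have hDP : D ≤ P := by
    intro d hd
    exact ⟨⟨d, hD hd⟩, hQ (by rw [Subgroup.mem_subgroupOf]; exact hd), rfl⟩
  have hPcard : Nat.card P = p ^ (Nat.card C).factorization p := by
    rw [hP, Subgroup.card_map_of_injective C.subtype_injective]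
    exact Sylow.card_eq_multiplicity Q
  have hne : D ≠ P := by
    intro heq
    apply hcard
    rw [← hPcard, heq]
  -- normalizer condition in `P`
  haveI : Group.IsNilpotent P := hPp.isNilpotent
  have hnc : NormalizerCondition P := Group.normalizerCondition_of_isNilpotent
  have hlt : D.subgroupOf P < ⊤ := by
    rw [lt_top_iff_ne_top]
    intro htop
    apply hne
    apply le_antisymm hDP
    intro a ha
    have : (⟨a, ha⟩ : P) ∈ D.subgroupOf P := by rw [htop]; exact Subgroup.mem_top _
    exact this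
  have hlt2 := hnc _ hlt
  set E : Subgroup G := (Subgroup.normalizer ((D.subgroupOf P : Subgroup P) : Set P)).map P.subtype
    with hE
  refine ⟨E, ?_, ?_, ?_, ?_⟩
  · exact (hPp.to_subgroup _).map _
  · rintro _ ⟨a, ha0, rfl⟩
    have ha : a ∈ Subgroup.normalizer ((D.subgroupOf P : Subgroup P) : Set P) := ha0
    rw [Subgroup.mem_normalizer_iff] at ha ⊢
    intro d
    constructor
    · intro hd
      have := (ha ⟨d, hDP hd⟩).mp (by rw [Subgroup.mem_subgroupOf]; exact hd)
      rw [Subgroup.mem_subgroupOf] at this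
      simpa using this
    · intro hd
      have hdP : d ∈ P := by
        have h1 : (P.subtype a) * d * (P.subtype a)⁻¹ ∈ P := hDP hd
        have h2 := P.mul_mem (P.mul_mem (P.inv_mem a.2) h1) a.2
        simpa [mul_assoc] using h2
      have := (ha ⟨d, hdP⟩).mpr (by rw [Subgroup.mem_subgroupOf]; simpa using hd)
      rw [Subgroup.mem_subgroupOf] at this
      exact this
  · rintro _ ⟨a, _, rfl⟩
    exact hPC a.2
  · have h1 : Nat.card E
        = Nat.card (Subgroup.normalizer ((D.subgroupOf P : Subgroup P) : Set P)) :=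
      Subgroup.card_map_of_injective P.subtype_injective
    have h2 : Nat.card (D.subgroupOf P) = Nat.card D :=
      Nat.card_congr (Subgroup.subgroupOfEquivOfLe hDP).toEquiv
    rw [h1, ← h2]
    by_contra hge
    push Not at hge
    have := Subgroup.eq_of_le_of_card_ge hlt2.le hge
    exact hlt2.ne this

end Cfsg.Agent.Lib.Helper2_SylowConj
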