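import Mathlib
import Cfsg.Prelude.Def_Characters
import Cfsg.Prelude.Def_Blocks
import Cfsg.Prelude.Def_BlockRank
import Cfsg.Agent.Lib.Helper2_ClassFn
import Cfsg.Agent.Lib.Helper2_CharBasic
import Cfsg.Agent.Lib.Helper2_CharOrtho
import Cfsg.Agent.Lib.Helper2_CharValues
import Cfsg.Agent.Lib.Helper2_CharSum
import Cfsg.Agent.Lib.Helper2_CharCentral
import Cfsg.Agent.Lib.Helper2_ModM
import Cfsg.Agent.Lib.Helper2_Blocks
import Cfsg.Agent.Lib.Helper2_BlockOrtho
import Cfsg.Agent.Lib.Helper2_BlockMore
import Cfsg.Agent.Lib.Helper2_DefectGroup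
import Cfsg.Agent.Lib.Helper2_DefectPCore
import Cfsg.Agent.Lib.Helper2_MinMax
import Cfsg.Agent.Lib.Helper2_InducedBlock
import Cfsg.Agent.Lib.Helper2_BrauerMap
import Cfsg.Agent.Lib.Helper2_InducedDefect
import Cfsg.Agent.Lib.Helper2_BrauerFirst
import Cfsg.Agent.Lib.Helper2_BrauerConverse
import Cfsg.Agent.Lib.Helper2_SylowConj

set_option autoImplicit false

/-!
# Brauer's first main theorem
-/

namespace Cfsg.Agent.Lib.Helper2_FirstMain

open Cfsg
open Cfsg.Agent.Lib.Helper2_ClassFn
open Cfsg.Agent.Lib.Helper2_CharBasic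
open Cfsg.Agent.Lib.Helper2_CharOrtho
open Cfsg.Agent.Lib.Helper2_CharValues
open Cfsg.Agent.Lib.Helper2_CharSum
open Cfsg.Agent.Lib.Helper2_CharCentral
open Cfsg.Agent.Lib.Helper2_ModM
open Cfsg.Agent.Lib.Helper2_Blocks
open Cfsg.Agent.Lib.Helper2_BlockOrtho
open Cfsg.Agent.Lib.Helper2_BlockMore
open Cfsg.Agent.Lib.Helper2_DefectGroup
open Cfsg.Agent.Lib.Helper2_DefectPCore
open Cfsg.Agent.Lib.Helper2_MinMax
open Cfsg.Agent.Lib.Helper2_InducedBlock
open Cfsg.Agent.Lib.Helper2_BrauerMap
open Cfsg.Agent.Lib.Helper2_InducedDefect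
open Cfsg.Agent.Lib.Helper2_BrauerFirst
open Cfsg.Agent.Lib.Helper2_BrauerConverse
open Cfsg.Agent.Lib.Helper2_SylowConj
open scoped ComplexConjugate

universe u

variable {G : Type u} [Group G] [Fintype G] {M : Ideal AlgInt}

omit [Fintype G] in
theorem isPGroup_of_isDefectGroup {p : ℕ} [Fact p.Prime] {B : Set (IrrCharacter G)}
    {D : Subgroup G} (hD : IsDefectGroup p M B D) : IsPGroup p D := by
  obtain ⟨g, _, P, rfl⟩ := hD
  exact P.isPGroup'.map _

/-- A block of `G` with defect group `D` is induced from a block of `H` with defect group `D`,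
for `D C_G(D) ≤ H ≤ N_G(D)`. -/
theorem exists_induced_with_defect {p : ℕ} [hp : Fact p.Prime] (hM : IsPModular p M)
    (D H : Subgroup G) [Fintype H] (hDH : D ≤ H)
    (hCH : Subgroup.centralizer (D : Set G) ≤ H) (hHN : H ≤ Subgroup.normalizer (D : Set G))
    (χ₀ : IrrCharacter G) (hD : IsDefectGroup p M (blockOf M (χ₀ : G → ℂ)) D) :
    ∃ ξ : IrrCharacter H, IsInducedBlock M H (blockOf M (ξ : H → ℂ)) (blockOf M (χ₀ : G → ℂ)) ∧
      IsDefectGroup p M (blockOf M (ξ : H → ℂ)) (D.subgroupOf H) := by
  classical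
  have hMm := hM.2.1
  have hDp : IsPGroup p D := isPGroup_of_isDefectGroup hD
  obtain ⟨ξ, hind⟩ := exists_induced_of_le_defectGroup hM D H hDp hDH hCH hHN χ₀ D hD le_rfl
  refine ⟨ξ, hind, ?_⟩
  obtain ⟨h₀, hh₀⟩ := exists_defectClass hMm ξ
  obtain ⟨Δ₀⟩ : Nonempty (Sylow p (Subgroup.centralizer ({h₀} : Set H))) := inferInstance
  have hΔ : IsDefectGroup p M (blockOf M (ξ : H → ℂ))
      ((Δ₀ : Subgroup (Subgroup.centralizer ({h₀} : Set H))).map
        (Subgroup.centralizer ({h₀} : Set H)).subtype) := ⟨h₀, hh₀, Δ₀, rfl⟩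
  haveI : (D.subgroupOf H).Normal := Subgroup.normal_subgroupOf_of_le_normalizer hHN
  have hDHp : IsPGroup p (D.subgroupOf H) :=
    hDp.comap_of_injective H.subtype (Subgroup.subtype_injective H)
  have hle := normal_pSubgroup_le_defectGroup hM (D.subgroupOf H) hDHp ξ _ hΔ
  obtain ⟨E, hE, hEle⟩ := defectGroup_le_of_induced hM H _ _ hind _ hΔ
  have hcardE := card_defectGroup hM χ₀ E hE
  have hcardD := card_defectGroup hM χ₀ D hD
  have hcard : Nat.card ((Δ₀ : Subgroup (Subgroup.centralizer ({h₀} : Set H))).map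
      (Subgroup.centralizer ({h₀} : Set H)).subtype) ≤ Nat.card (D.subgroupOf H) := by
    have h1 : Nat.card (((Δ₀ : Subgroup (Subgroup.centralizer ({h₀} : Set H))).map
        (Subgroup.centralizer ({h₀} : Set H)).subtype).map H.subtype)
        = Nat.card ((Δ₀ : Subgroup (Subgroup.centralizer ({h₀} : Set H))).map
        (Subgroup.centralizer ({h₀} : Set H)).subtype) :=
      Subgroup.card_map_of_injective H.subtype_injective
    have h2 := Nat.le_of_dvd Nat.card_pos (Subgroup.card_dvd_of_le hEle)
    have h3 : Nat.card (D.subgroupOf H) = Nat.card D :=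
      Nat.card_congr (Subgroup.subgroupOfEquivOfLe hDH).toEquiv
    rw [h3, hcardD, ← hcardE, ← h1]
    exact h2
  have heq := Subgroup.eq_of_le_of_card_ge hle hcard
  rw [heq]
  exact hΔ

/-- Central characters vanish modulo the ideal on elements not centralizing a normal
`p`-subgroup. -/
theorem memLocalIdeal_centralChar_of_not_centralize' {p : ℕ} [hp : Fact p.Prime]
    (hM : IsPModular p M) (P : Subgroup G) [hPn : P.Normal] (hP : IsPGroup p P)
    (χ : IrrCharacter G) (g : G) (hg : ¬ P ≤ Subgroup.centralizer ({g} : Set G)) :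
    MemLocalIdeal M (centralChar (χ : G → ℂ) g) := by
  have hMm := hM.2.1
  obtain ⟨χt, hχt, hker⟩ := exists_trivial_on_pSubgroup hM P hP χ
  have h4 := memLocalIdeal_centralChar_of_not_centralize hM P hP χt.2 hker g hg
  have h5 := hχt g
  have := memLocalIdeal_add hMm h5 h4
  rwa [sub_add_cancel] at this

open Classical in
/-- If the Brauer central character of `ξ` is congruent to the central character of `χ`, the
same holds on all central elements of the local group ring. -/
theorem beta_sub_om_mem (hMm : M.IsMaximal) (P H : Subgroup G) [Fintype H] (ξ : H → ℂ)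
    {χ : G → ℂ} (hχ : IsIrrCharacter G χ)
    (hbr : ∀ g : G, MemLocalIdeal M (brauerCentralChar P H ξ g - centralChar χ g))
    {z : G → ℂ} (hz : IsClassFunction G z) (hzR : ∀ g, MemLocalRing M (z g)) :
    MemLocalIdeal M (Helper2_BrauerFirst.beta P H ξ z - om χ z) := by
  rw [beta_eq_sum_classes P H ξ hz,
    om_eq_sum_classes (IsCharacter.isClassFunction (IsIrrCharacter.isCharacter hχ)) hz,
    ← Finset.sum_sub_distrib]
  refine memLocalIdeal_sum hMm _ _ fun C _ => ?_
  rw [← mul_sub]
  exact memLocalIdeal_mul_ring hMm (hbr _) (hzR _)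

/-- The Brauer central character of a member of `b` is congruent to the central character of
a member of the induced block. -/
theorem brauer_sub_centralChar_mem {p : ℕ} [hp : Fact p.Prime] (hM : IsPModular p M)
    (P H : Subgroup G) [Fintype H] (hP : IsPGroup p P) (hPH : P ≤ H)
    (hHN : H ≤ Subgroup.normalizer (P : Set G)) {b : Set (IrrCharacter H)}
    {B : Set (IrrCharacter G)} (hind : IsInducedBlock M H b B) (ξ : IrrCharacter H) (hξ : ξ ∈ b)
    (χ : IrrCharacter G) (hχ : χ ∈ B) (g : G) :
    MemLocalIdeal M (brauerCentralChar P H (ξ : H → ℂ) g - centralChar (χ : G → ℂ) g) := by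
  have hMm := hM.2.1
  have h1 := hind.2.2 ξ hξ χ hχ g
  have h2 := inducedCentralChar_sub_brauer hM P H hP hPH hHN ξ g
  have := memLocalIdeal_sub hMm h1 h2
  have e : inducedCentralChar H (ξ : H → ℂ) g - centralChar (χ : G → ℂ) g
      - (inducedCentralChar H (ξ : H → ℂ) g - brauerCentralChar P H (ξ : H → ℂ) g)
      = brauerCentralChar P H (ξ : H → ℂ) g - centralChar (χ : G → ℂ) g := by ring
  rwa [e] at this

section Lift

variable (p : ℕ) (D : Subgroup G)

/-- `g` is conjugate to an element of `C_G(D)` in whose centralizer `D` is a Sylow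
`p`-subgroup. -/
def Good (g : G) : Prop :=
  ∃ h : Subgroup.normalizer (D : Set G), IsConj g (h : G) ∧
    D ≤ Subgroup.centralizer ({(h : G)} : Set G) ∧
    Nat.card D = p ^ (Nat.card (Subgroup.centralizer ({(h : G)} : Set G))).factorization p

open Classical in
/-- The lift of a class function on `N_G(D)` to `G` through the classes with defect group `D`. -/
noncomputable def liftFn (e : Subgroup.normalizer (D : Set G) → ℂ) : G → ℂ :=
  fun g => if hg : Good p D g then e (Classical.choose hg) else 0

variable {p D}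

theorem card_centralizer_of_isConj {g h : G} (hc : IsConj g h) :
    Nat.card (Subgroup.centralizer ({h} : Set G))
      = Nat.card (Subgroup.centralizer ({g} : Set G)) := by
  obtain ⟨x, hx⟩ := isConj_iff.mp hc
  rw [← hx]
  exact card_centralizer_conj g x

theorem liftFn_eq [hp : Fact p.Prime] {e : Subgroup.normalizer (D : Set G) → ℂ}
    (he : IsClassFunction (Subgroup.normalizer (D : Set G)) e) (g : G)
    (h : Subgroup.normalizer (D : Set G)) (hc : IsConj g (h : G))
    (hD : D ≤ Subgroup.centralizer ({(h : G)} : Set G))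
    (hcard : Nat.card D
      = p ^ (Nat.card (Subgroup.centralizer ({(h : G)} : Set G))).factorization p) :
    liftFn p D e g = e h := by
  classical
  have hg : Good p D g := ⟨h, hc, hD, hcard⟩
  unfold liftFn
  rw [dif_pos hg]
  obtain ⟨hc', hD', hcard'⟩ := Classical.choose_spec hg
  set h' := Classical.choose hg with hh'
  have hhh' : IsConj (h : G) (h' : G) := hc.symm.trans hc'
  obtain ⟨x, hx⟩ := isConj_iff.mp hhh'
  rw [← hx] at hD' hcard'
  obtain ⟨n, hn, hnx⟩ := exists_normalizer_conj D (h : G) x hD hD' hcard'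
  have : h' = (⟨n, hn⟩ : Subgroup.normalizer (D : Set G)) * h
      * (⟨n, hn⟩ : Subgroup.normalizer (D : Set G))⁻¹ := by
    apply Subtype.ext
    simp only [Subgroup.coe_mul, Subgroup.coe_inv]
    rw [hnx, hx]
  rw [this, he]

omit [Fintype G] in
theorem good_conj (g t : G) : Good p D (t * g * t⁻¹) ↔ Good p D g := by
  have hc : IsConj g (t * g * t⁻¹) := isConj_iff.mpr ⟨t, rfl⟩
  constructor
  · rintro ⟨h, hh, h2, h3⟩
    exact ⟨h, hc.trans hh, h2, h3⟩
  · rintro ⟨h, hh, h2, h3⟩
    exact ⟨h, hc.symm.trans hh, h2, h3⟩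

theorem liftFn_isClassFunction [hp : Fact p.Prime] {e : Subgroup.normalizer (D : Set G) → ℂ}
    (he : IsClassFunction (Subgroup.normalizer (D : Set G)) e) :
    IsClassFunction G (liftFn p D e) := by
  classical
  intro g t
  by_cases hg : Good p D g
  · obtain ⟨h, hh, h2, h3⟩ := hg
    have hc : IsConj g (t * g * t⁻¹) := isConj_iff.mpr ⟨t, rfl⟩
    rw [liftFn_eq he g h hh h2 h3, liftFn_eq he (t * g * t⁻¹) h (hc.symm.trans hh) h2 h3]
  · have hg' : ¬ Good p D (t * g * t⁻¹) := fun h => hg ((good_conj g t).mp h)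
    unfold liftFn
    rw [dif_neg hg, dif_neg hg']

omit [Fintype G] in
theorem liftFn_memLocalRing (hMm : M.IsMaximal) {e : Subgroup.normalizer (D : Set G) → ℂ}
    (heR : ∀ h, MemLocalRing M (e h)) (g : G) : MemLocalRing M (liftFn p D e g) := by
  classical
  unfold liftFn
  split_ifs
  · exact heR _
  · exact memLocalRing_zero hMm

theorem liftFn_of_not_sylow {e : Subgroup.normalizer (D : Set G) → ℂ} (g : G)
    (hcard : Nat.card D
      ≠ p ^ (Nat.card (Subgroup.centralizer ({g} : Set G))).factorization p) :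
    liftFn p D e g = 0 := by
  classical
  unfold liftFn
  rw [dif_neg]
  rintro ⟨h, hh, _, h3⟩
  apply hcard
  rw [h3, card_centralizer_of_isConj hh]

end Lift

section Unique

variable {p : ℕ} [hp : Fact p.Prime] (D : Subgroup G)

/-- The block idempotent of a block of `N_G(D)` with defect group `D` vanishes modulo the ideal
on the elements of `C_G(D)` in whose centralizer `D` is not a Sylow `p`-subgroup. -/
theorem blockCoeff_mem_of_not_sylow [Fintype (Subgroup.normalizer (D : Set G))]
    (hM : IsPModular p M) (hDp : IsPGroup p D)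
    (ξ₁ : IrrCharacter (Subgroup.normalizer (D : Set G)))
    (hd1 : IsDefectGroup p M (blockOf M (ξ₁ : Subgroup.normalizer (D : Set G) → ℂ))
      (D.subgroupOf (Subgroup.normalizer (D : Set G))))
    (h : Subgroup.normalizer (D : Set G))
    (hD : D ≤ Subgroup.centralizer ({(h : G)} : Set G))
    (hcard : Nat.card D
      ≠ p ^ (Nat.card (Subgroup.centralizer ({(h : G)} : Set G))).factorization p) :
    MemLocalIdeal M (blockCoeff (blockOf M (ξ₁ : Subgroup.normalizer (D : Set G) → ℂ)) h) := by
  by_contra hh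
  obtain ⟨E, hEp, hEN, hEC, hlt⟩ := exists_bigger_in_normalizer D hDp (h : G) hD hcard
  set E' : Subgroup (Subgroup.normalizer (D : Set G)) :=
    E.subgroupOf (Subgroup.normalizer (D : Set G)) with hE'
  have hE'p : IsPGroup p E' :=
    hEp.comap_of_injective _ (Subgroup.subtype_injective _)
  have hE'h : E' ≤ Subgroup.centralizer ({h} : Set (Subgroup.normalizer (D : Set G))) := by
    intro a ha
    rw [Subgroup.mem_centralizer_singleton_iff]
    have h1 : (a : G) ∈ E := ha
    have h2 := Subgroup.mem_centralizer_singleton_iff.mp (hEC h1)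
    apply Subtype.ext
    simp only [Subgroup.coe_mul]
    exact h2
  obtain ⟨g, hg, Δ, hΔ⟩ := hd1
  obtain ⟨x, hx⟩ := minmax_support hM ξ₁ g hg Δ h hh E' hE'p hE'h
  rw [← hΔ] at hx
  have h1 : Nat.card E' ≤ Nat.card ((D.subgroupOf (Subgroup.normalizer (D : Set G))).map
      (MulAut.conj x).toMonoidHom) := Nat.le_of_dvd Nat.card_pos (Subgroup.card_dvd_of_le hx)
  rw [Subgroup.card_map_of_injective (MulAut.conj x).injective] at h1
  have h2 : Nat.card E' = Nat.card E :=
    Nat.card_congr (Subgroup.subgroupOfEquivOfLe hEN).toEquiv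
  have h3 : Nat.card (D.subgroupOf (Subgroup.normalizer (D : Set G))) = Nat.card D :=
    Nat.card_congr (Subgroup.subgroupOfEquivOfLe Subgroup.le_normalizer).toEquiv
  omega

open Classical in
/-- **Uniqueness in Brauer's first main theorem.** -/
theorem firstMain_unique [Fintype (Subgroup.normalizer (D : Set G))]
    (hM : IsPModular p M) (hDp : IsPGroup p D)
    (ξ₁ ξ₂ : IrrCharacter (Subgroup.normalizer (D : Set G))) (χ₀ : IrrCharacter G)
    (h1 : IsInducedBlock M (Subgroup.normalizer (D : Set G))
      (blockOf M (ξ₁ : Subgroup.normalizer (D : Set G) → ℂ)) (blockOf M (χ₀ : G → ℂ)))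
    (h2 : IsInducedBlock M (Subgroup.normalizer (D : Set G))
      (blockOf M (ξ₂ : Subgroup.normalizer (D : Set G) → ℂ)) (blockOf M (χ₀ : G → ℂ)))
    (hd1 : IsDefectGroup p M (blockOf M (ξ₁ : Subgroup.normalizer (D : Set G) → ℂ))
      (D.subgroupOf (Subgroup.normalizer (D : Set G)))) :
    ξ₂ ∈ blockOf M (ξ₁ : Subgroup.normalizer (D : Set G) → ℂ) := by
  have hMm := hM.2.1
  have hDN : D ≤ (Subgroup.normalizer (D : Set G)) := Subgroup.le_normalizer
  have hCN : Subgroup.centralizer (D : Set G) ≤ (Subgroup.normalizer (D : Set G)) := Subgroup.centralizer_le_normalizer _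
  set e := blockCoeff (blockOf M (ξ₁ : (Subgroup.normalizer (D : Set G)) → ℂ)) with he
  have hecf : IsClassFunction (Subgroup.normalizer (D : Set G)) e := blockCoeff_isClassFunction _
  have heR : ∀ h, MemLocalRing M (e h) := memLocalRing_blockCoeff hMm ξ₁.2
  set z := liftFn p D e with hz
  have hzcf : IsClassFunction G z := liftFn_isClassFunction hecf
  have hzR : ∀ g, MemLocalRing M (z g) := liftFn_memLocalRing hMm heR
  haveI hDNn : (D.subgroupOf (Subgroup.normalizer (D : Set G))).Normal := Subgroup.normal_subgroupOf_of_le_normalizer le_rfl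
  have hDNp : IsPGroup p (D.subgroupOf (Subgroup.normalizer (D : Set G))) :=
    hDp.comap_of_injective (Subgroup.normalizer (D : Set G)).subtype (Subgroup.subtype_injective (Subgroup.normalizer (D : Set G)))
  -- the key congruence
  have hkey : ∀ ξ : IrrCharacter (Subgroup.normalizer (D : Set G)),
      MemLocalIdeal M (Helper2_BrauerFirst.beta D (Subgroup.normalizer (D : Set G)) (ξ : (Subgroup.normalizer (D : Set G)) → ℂ) z - om (ξ : (Subgroup.normalizer (D : Set G)) → ℂ) e) := by
    intro ξ
    unfold Helper2_BrauerFirst.beta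
    have hbrcf := brRes_isClassFunction D (Subgroup.normalizer (D : Set G)) le_rfl hzcf
    have hucf : IsClassFunction (Subgroup.normalizer (D : Set G)) (fun h => brRes D (Subgroup.normalizer (D : Set G)) z h - e h) := by
      intro h t
      show brRes D (Subgroup.normalizer (D : Set G)) z (t * h * t⁻¹) - e (t * h * t⁻¹) = brRes D (Subgroup.normalizer (D : Set G)) z h - e h
      rw [hbrcf h t, hecf h t]
    rw [← om_sub, om_eq_sum_classes
      (IsCharacter.isClassFunction (IsIrrCharacter.isCharacter ξ.2)) hucf]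
    refine memLocalIdeal_sum hMm _ _ fun C _ => ?_
    set h := C.out with hh
    by_cases hCD : (h : G) ∈ Subgroup.centralizer (D : Set G)
    · -- `z h ≡ e h`
      have hDh : D ≤ Subgroup.centralizer ({(h : G)} : Set G) := by
        intro d hd
        rw [Subgroup.mem_centralizer_singleton_iff]
        exact (Subgroup.mem_centralizer_iff.mp hCD d hd)
      have hbr : brRes D (Subgroup.normalizer (D : Set G)) z h = z h := by
        unfold brRes; rw [if_pos hCD]
      have hu : MemLocalIdeal M (brRes D (Subgroup.normalizer (D : Set G)) z h - e h) := by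
        rw [hbr]
        by_cases hcard : Nat.card D
            = p ^ (Nat.card (Subgroup.centralizer ({(h : G)} : Set G))).factorization p
        · rw [hz, liftFn_eq hecf (h : G) h (IsConj.refl _) hDh hcard, sub_self]
          exact memLocalIdeal_zero hMm
        · rw [hz, liftFn_of_not_sylow (h : G) hcard, zero_sub]
          exact memLocalIdeal_neg hMm (blockCoeff_mem_of_not_sylow D hM hDp ξ₁ hd1 h hDh hcard)
      have := memLocalIdeal_mul_int hMm hu (isIntegral_centralChar ξ.2 h)
      rwa [mul_comm] at this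
    · -- the central character vanishes
      have hnc : ¬ D.subgroupOf (Subgroup.normalizer (D : Set G)) ≤ Subgroup.centralizer ({h} : Set (Subgroup.normalizer (D : Set G))) := by
        intro hle
        apply hCD
        rw [Subgroup.mem_centralizer_iff]
        intro d hd
        have h3 : (⟨d, hDN hd⟩ : (Subgroup.normalizer (D : Set G))) ∈ D.subgroupOf (Subgroup.normalizer (D : Set G)) := by
          rw [Subgroup.mem_subgroupOf]; exact hd
        have h4 := Subgroup.mem_centralizer_singleton_iff.mp (hle h3)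
        have h5 := congrArg (fun a : (Subgroup.normalizer (D : Set G)) => (a : G)) h4
        simp only [Subgroup.coe_mul] at h5
        exact h5
      have hω := memLocalIdeal_centralChar_of_not_centralize' hM (D.subgroupOf (Subgroup.normalizer (D : Set G))) hDNp ξ h hnc
      refine memLocalIdeal_mul_ring hMm hω ?_
      exact memLocalRing_sub hMm (brRes_memLocalRing hMm D (Subgroup.normalizer (D : Set G)) hzR h) (heR h)
  -- the chain of congruences
  have hb1 := beta_sub_om_mem hMm D (Subgroup.normalizer (D : Set G)) (ξ₁ : (Subgroup.normalizer (D : Set G)) → ℂ) χ₀.2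
    (fun g => brauer_sub_centralChar_mem hM D (Subgroup.normalizer (D : Set G)) hDp hDN le_rfl h1 ξ₁ (self_mem_blockOf hMm ξ₁) χ₀
      (self_mem_blockOf hMm χ₀) g) hzcf hzR
  have hb2 := beta_sub_om_mem hMm D (Subgroup.normalizer (D : Set G)) (ξ₂ : (Subgroup.normalizer (D : Set G)) → ℂ) χ₀.2
    (fun g => brauer_sub_centralChar_mem hM D (Subgroup.normalizer (D : Set G)) hDp hDN le_rfl h2 ξ₂ (self_mem_blockOf hMm ξ₂) χ₀
      (self_mem_blockOf hMm χ₀) g) hzcf hzR
  have hk1 := hkey ξ₁
  have hk2 := hkey ξ₂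
  rw [he, om_blockCoeff _ ξ₁.2, if_pos ((memB_coe _ ξ₁).mpr (self_mem_blockOf hMm ξ₁))] at hk1
  rw [he, om_blockCoeff _ ξ₂.2] at hk2
  by_contra hcon
  have hne : ¬ MemB (blockOf M (ξ₁ : (Subgroup.normalizer (D : Set G)) → ℂ)) (ξ₂ : (Subgroup.normalizer (D : Set G)) → ℂ) :=
    fun hm => hcon ((memB_coe _ ξ₂).mp hm)
  rw [if_neg hne, sub_zero] at hk2
  -- 1 = (β₁ - (β₁ - 1)) ≡ β₁ ≡ om χ₀ z ≡ β₂ ≡ 0
  have h3 := memLocalIdeal_sub hMm (memLocalIdeal_sub hMm hb1 hk1) (memLocalIdeal_sub hMm hb2 hk2)
  have e3 : Helper2_BrauerFirst.beta D (Subgroup.normalizer (D : Set G)) (ξ₁ : (Subgroup.normalizer (D : Set G)) → ℂ) z - om (χ₀ : G → ℂ) z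
      - (Helper2_BrauerFirst.beta D (Subgroup.normalizer (D : Set G)) (ξ₁ : (Subgroup.normalizer (D : Set G)) → ℂ) z - 1)
      - (Helper2_BrauerFirst.beta D (Subgroup.normalizer (D : Set G)) (ξ₂ : (Subgroup.normalizer (D : Set G)) → ℂ) z - om (χ₀ : G → ℂ) z
        - Helper2_BrauerFirst.beta D (Subgroup.normalizer (D : Set G)) (ξ₂ : (Subgroup.normalizer (D : Set G)) → ℂ) z) = 1 := by ring
  rw [e3] at h3
  exact not_memLocalIdeal_one hMm h3

end Unique

section Exist

variable {p : ℕ} [hp : Fact p.Prime] (D : Subgroup G)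

open Classical in
/-- The block induced from a block of `N_G(D)` with defect group `D` has defect group `D`. -/
theorem defectGroup_of_induced_normalizer [Fintype (Subgroup.normalizer (D : Set G))]
    (hM : IsPModular p M) (hDp : IsPGroup p D)
    (ξ : IrrCharacter (Subgroup.normalizer (D : Set G))) (χ₀ : IrrCharacter G)
    (hind : IsInducedBlock M (Subgroup.normalizer (D : Set G))
      (blockOf M (ξ : Subgroup.normalizer (D : Set G) → ℂ)) (blockOf M (χ₀ : G → ℂ)))
    (hd : IsDefectGroup p M (blockOf M (ξ : Subgroup.normalizer (D : Set G) → ℂ))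
      (D.subgroupOf (Subgroup.normalizer (D : Set G)))) :
    IsDefectGroup p M (blockOf M (χ₀ : G → ℂ)) D := by
  have hMm := hM.2.1
  have hDN : D ≤ Subgroup.normalizer (D : Set G) := Subgroup.le_normalizer
  have hd' := hd
  obtain ⟨x, hx, Δ, hΔ⟩ := hd
  -- `D ≤ C_G(x)`
  have hDx : D ≤ Subgroup.centralizer ({(x : G)} : Set G) := by
    intro d hdD
    have h1 : (⟨d, hDN hdD⟩ : Subgroup.normalizer (D : Set G))
        ∈ D.subgroupOf (Subgroup.normalizer (D : Set G)) := by
      rw [Subgroup.mem_subgroupOf]; exact hdD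
    rw [hΔ] at h1
    obtain ⟨c, _, hc⟩ := h1
    have h2 := Subgroup.mem_centralizer_singleton_iff.mp c.2
    rw [Subgroup.mem_centralizer_singleton_iff]
    have h3 := congrArg (fun a : Subgroup.normalizer (D : Set G) => (a : G)) h2
    simp only [Subgroup.coe_mul] at h3
    have h4 : ((c : Subgroup.normalizer (D : Set G)) : G) = d := by
      have := congrArg (fun a : Subgroup.normalizer (D : Set G) => (a : G)) hc
      simpa using this
    rw [h4] at h3
    exact h3
  have hxCD : (x : G) ∈ Subgroup.centralizer (D : Set G) := by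
    rw [Subgroup.mem_centralizer_iff]
    intro d hdD
    exact (Subgroup.mem_centralizer_singleton_iff.mp (hDx hdD))
  have hcardDN : Nat.card (D.subgroupOf (Subgroup.normalizer (D : Set G))) = Nat.card D :=
    Nat.card_congr (Subgroup.subgroupOfEquivOfLe hDN).toEquiv
  have hcardΔ : Nat.card D = p ^ (Nat.card (Subgroup.centralizer
      ({x} : Set (Subgroup.normalizer (D : Set G))))).factorization p := by
    rw [← hcardDN, hΔ, Subgroup.card_map_of_injective (Subgroup.subtype_injective _)]
    exact Sylow.card_eq_multiplicity Δ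
  -- Claim A
  have hA : Nat.card D
      = p ^ (Nat.card (Subgroup.centralizer ({(x : G)} : Set G))).factorization p := by
    by_contra hne
    obtain ⟨E, hEp, hEN, hEC, hlt⟩ := exists_bigger_in_normalizer D hDp (x : G) hDx hne
    set E' : Subgroup (Subgroup.normalizer (D : Set G)) :=
      E.subgroupOf (Subgroup.normalizer (D : Set G)) with hE'
    have hE'p : IsPGroup p E' := hEp.comap_of_injective _ (Subgroup.subtype_injective _)
    have hE'x : E' ≤ Subgroup.centralizer ({x} : Set (Subgroup.normalizer (D : Set G))) := by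
      intro a ha
      rw [Subgroup.mem_centralizer_singleton_iff]
      have h1 : (a : G) ∈ E := ha
      have h2 := Subgroup.mem_centralizer_singleton_iff.mp (hEC h1)
      apply Subtype.ext
      simp only [Subgroup.coe_mul]
      exact h2
    have hE''p : IsPGroup p (E'.subgroupOf
        (Subgroup.centralizer ({x} : Set (Subgroup.normalizer (D : Set G))))) :=
      hE'p.comap_of_injective _ (Subgroup.subtype_injective _)
    obtain ⟨Q, hQ⟩ := hE''p.exists_le_sylow
    have h1 := Nat.le_of_dvd Nat.card_pos (Subgroup.card_dvd_of_le hQ)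
    rw [Sylow.card_eq_multiplicity Q, ← hcardΔ,
      Nat.card_congr (Subgroup.subgroupOfEquivOfLe hE'x).toEquiv,
      Nat.card_congr (Subgroup.subgroupOfEquivOfLe hEN).toEquiv] at h1
    omega
  -- Claim B
  have hξcf := IsCharacter.isClassFunction (IsIrrCharacter.isCharacter ξ.2)
  have hB : brauerCentralChar D (Subgroup.normalizer (D : Set G))
      (ξ : Subgroup.normalizer (D : Set G) → ℂ) (x : G)
      = centralChar (ξ : Subgroup.normalizer (D : Set G) → ℂ) x := by
    rw [brauerCentralChar_eq_sum]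
    unfold centralChar
    rw [index_centralizer_eq, mul_div_assoc, ← nsmul_eq_mul, ← Finset.sum_const,
      Finset.sum_filter]
    refine Finset.sum_congr rfl fun h _ => ?_
    have hiff : (IsConj (x : G) (h : G) ∧ (h : G) ∈ Subgroup.centralizer (D : Set G))
        ↔ IsConj h x := by
      constructor
      · rintro ⟨hc, hhD⟩
        obtain ⟨t, ht⟩ := isConj_iff.mp hc
        have hDh : D ≤ Subgroup.centralizer ({t * (x : G) * t⁻¹} : Set G) := by
          intro d hdD
          rw [Subgroup.mem_centralizer_singleton_iff, ht]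
          exact (Subgroup.mem_centralizer_iff.mp hhD d hdD)
        have hcard' : Nat.card D = p ^ (Nat.card (Subgroup.centralizer
            ({t * (x : G) * t⁻¹} : Set G))).factorization p := by
          rw [card_centralizer_conj]; exact hA
        obtain ⟨n, hn, hnx⟩ := exists_normalizer_conj D (x : G) t hDx hDh hcard'
        apply IsConj.symm
        rw [isConj_iff]
        refine ⟨⟨n, hn⟩, ?_⟩
        apply Subtype.ext
        simp only [Subgroup.coe_mul, Subgroup.coe_inv]
        rw [hnx, ht]
      · intro hc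
        obtain ⟨n, hn⟩ := isConj_iff.mp hc.symm
        have hcG : (n : G) * (x : G) * (n : G)⁻¹ = (h : G) := by
          have := congrArg (fun a : Subgroup.normalizer (D : Set G) => (a : G)) hn
          simpa using this
        refine ⟨isConj_iff.mpr ⟨(n : G), hcG⟩, ?_⟩
        rw [← hcG]
        exact centralizer_conj_mem D (Subgroup.normalizer (D : Set G)) le_rfl n (x : G) hxCD
    by_cases hc : IsConj h x
    · rw [if_pos (hiff.mpr hc), if_pos hc]
      obtain ⟨n, hn⟩ := isConj_iff.mp hc.symm
      rw [← hn, hξcf]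
    · rw [if_neg (fun h' => hc (hiff.mp h')), if_neg hc]
  -- Claim C
  have hC : ¬ MemLocalIdeal M (centralChar (χ₀ : G → ℂ) (x : G)) := by
    intro hmem
    have h1 := brauer_sub_centralChar_mem hM D (Subgroup.normalizer (D : Set G)) hDp hDN le_rfl
      hind ξ (self_mem_blockOf hMm ξ) χ₀ (self_mem_blockOf hMm χ₀) (x : G)
    have h2 := memLocalIdeal_add hMm h1 hmem
    rw [sub_add_cancel, hB] at h2
    exact hx.2.2 ξ (self_mem_blockOf hMm ξ) h2
  -- a defect group of `B`
  obtain ⟨g₀, hg₀⟩ := exists_defectClass hMm χ₀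
  obtain ⟨E₀⟩ : Nonempty (Sylow p (Subgroup.centralizer ({g₀} : Set G))) := inferInstance
  have hE : IsDefectGroup p M (blockOf M (χ₀ : G → ℂ))
      ((E₀ : Subgroup (Subgroup.centralizer ({g₀} : Set G))).map
        (Subgroup.centralizer ({g₀} : Set G)).subtype) := ⟨g₀, hg₀, E₀, rfl⟩
  have hEp : IsPGroup p ((E₀ : Subgroup (Subgroup.centralizer ({g₀} : Set G))).map
        (Subgroup.centralizer ({g₀} : Set G)).subtype) := isPGroup_of_isDefectGroup hE
  have hEg : (E₀ : Subgroup (Subgroup.centralizer ({g₀} : Set G))).map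
        (Subgroup.centralizer ({g₀} : Set G)).subtype ≤ Subgroup.centralizer ({g₀} : Set G) := by
    rintro _ ⟨a, _, rfl⟩
    exact a.2
  obtain ⟨y, Q, hyQ⟩ := minmax_central hM χ₀ g₀ hg₀ _ hEp hEg (x : G)
    ⟨χ₀, self_mem_blockOf hMm χ₀, hC⟩
  have hcardE : Nat.card ((E₀ : Subgroup (Subgroup.centralizer ({g₀} : Set G))).map
        (Subgroup.centralizer ({g₀} : Set G)).subtype) ≤ Nat.card D := by
    have h1 := Nat.le_of_dvd Nat.card_pos (Subgroup.card_dvd_of_le hyQ)
    have hcQ : Nat.card ((Q : Subgroup (Subgroup.centralizer ({(x : G)} : Set G))).map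
        (Subgroup.centralizer ({(x : G)} : Set G)).subtype) = Nat.card D := by
      rw [Subgroup.card_map_of_injective (Subgroup.subtype_injective _),
        Sylow.card_eq_multiplicity Q, ← hA]
    rw [hcQ, Subgroup.card_map_of_injective (MulAut.conj y).injective] at h1
    exact h1
  obtain ⟨E', hE', hDE'⟩ := defectGroup_le_of_induced hM _ _ _ hind _ hd'
  rw [Subgroup.map_subgroupOf_eq_of_le hDN] at hDE'
  have hc1 := card_defectGroup hM χ₀ _ hE
  have hc2 := card_defectGroup hM χ₀ _ hE'
  have heq : D = E' := Subgroup.eq_of_le_of_card_ge hDE' (by rw [hc2, ← hc1]; exact hcardE)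
  rw [heq]
  exact hE'

end Exist

end Cfsg.Agent.Lib.Helper2_FirstMain
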