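import Mathlib
import Cfsg.Prelude.Def_Characters
import Cfsg.Prelude.Def_Blocks
import Cfsg.Prelude.Def_BlockRank
import Cfsg.Agent.Lib.Helper2_ClassFn
import Cfsg.Agent.Lib.Helper2_CharBasic
import Cfsg.Agent.Lib.Helper2_CharOrtho
import Cfsg.Agent.Lib.Helper2_CharMore
import Cfsg.Agent.Lib.Helper2_CharValues
import Cfsg.Agent.Lib.Helper2_CharSum
import Cfsg.Agent.Lib.Helper2_CharCentral
import Cfsg.Agent.Lib.Helper2_ModM
import Cfsg.Agent.Lib.Helper2_Blocks
import Cfsg.Agent.Lib.Helper2_BlockOrtho
import Cfsg.Agent.Lib.Helper2_BlockMore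
import Cfsg.Agent.Lib.Helper2_DefectGroup
import Cfsg.Agent.Lib.Helper2_DefectPCore
import Cfsg.Agent.Lib.Helper2_MinMax
import Cfsg.Agent.Lib.Helper2_InducedBlock
import Cfsg.Agent.Lib.Helper2_BrauerMap
import Cfsg.Agent.Lib.Helper2_InducedDefect
import Cfsg.Agent.Lib.Helper2_BrauerFirst
import Cfsg.Agent.Lib.Helper2_BrauerConverse
import Cfsg.Agent.Lib.Helper2_SylowConj
import Cfsg.Agent.Lib.Helper2_BlockCover
import Cfsg.Agent.Lib.Helper2_BlockConj
import Cfsg.Agent.Lib.Helper2_FirstMain
import Cfsg.Agent.Lib.Helper2_BlockNormal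


set_option autoImplicit false

/-!
# Counting blocks
-/

namespace Cfsg.Agent.Lib.Helper2_BlockCount

open Cfsg
open Cfsg.Agent.Lib.Helper2_ClassFn
open Cfsg.Agent.Lib.Helper2_CharBasic
open Cfsg.Agent.Lib.Helper2_CharOrtho
open Cfsg.Agent.Lib.Helper2_CharMore
open Cfsg.Agent.Lib.Helper2_CharValues
open Cfsg.Agent.Lib.Helper2_CharSum
open Cfsg.Agent.Lib.Helper2_CharCentral
open Cfsg.Agent.Lib.Helper2_ModM
open Cfsg.Agent.Lib.Helper2_Blocks
open Cfsg.Agent.Lib.Helper2_BlockOrtho
open Cfsg.Agent.Lib.Helper2_BlockMore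
open Cfsg.Agent.Lib.Helper2_DefectGroup
open Cfsg.Agent.Lib.Helper2_DefectPCore
open Cfsg.Agent.Lib.Helper2_MinMax
open Cfsg.Agent.Lib.Helper2_InducedBlock
open Cfsg.Agent.Lib.Helper2_BrauerMap
open Cfsg.Agent.Lib.Helper2_InducedDefect
open Cfsg.Agent.Lib.Helper2_BrauerFirst
open Cfsg.Agent.Lib.Helper2_BrauerConverse
open Cfsg.Agent.Lib.Helper2_SylowConj
open Cfsg.Agent.Lib.Helper2_BlockCover
open Cfsg.Agent.Lib.Helper2_BlockConj
open Cfsg.Agent.Lib.Helper2_FirstMain
open Cfsg.Agent.Lib.Helper2_BlockNormal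
open scoped ComplexConjugate

universe u

variable {G : Type u} [Group G] [Fintype G] {M : Ideal AlgInt}

omit [Fintype G] in
/-- Every block has a member of height zero. -/
theorem exists_height_zero_rep (p : ℕ) (hMm : M.IsMaximal) (B : Set (IrrCharacter G))
    (hB : IsPBlock M B) :
    ∃ χ : IrrCharacter G, χ ∈ B ∧ B = blockOf M (χ : G → ℂ) ∧
      blockDefect p B = (Nat.card G).factorization p
        - (charDegree (χ : G → ℂ)).factorization p := by
  obtain ⟨χ₀, rfl⟩ := hB
  have hne : ((fun χ : IrrCharacter G => (charDegree (χ : G → ℂ)).factorization p) ''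
      (blockOf M (χ₀ : G → ℂ))).Nonempty := ⟨_, χ₀, self_mem_blockOf hMm χ₀, rfl⟩
  obtain ⟨χ, hχ, hmin⟩ := Nat.sInf_mem hne
  refine ⟨χ, hχ, (blockOf_eq_of_mem hMm hχ).symm, ?_⟩
  unfold blockDefect
  rw [← hmin]

/-- Central characters of a block vanish modulo the ideal on classes of smaller defect. -/
theorem memLocalIdeal_centralChar_of_defect_lt {p : ℕ} [hp : Fact p.Prime] (hM : IsPModular p M)
    (χ : IrrCharacter G) (d : ℕ)
    (hd : d ≤ (Nat.card G).factorization p - (charDegree (χ : G → ℂ)).factorization p)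
    (g : G) (hg : (Nat.card (Subgroup.centralizer ({g} : Set G))).factorization p < d) :
    MemLocalIdeal M (centralChar (χ : G → ℂ) g) := by
  by_contra h
  have h1 := factorization_index_le hM χ.2 g h
  have h2 : (Nat.card G).factorization p
      = (Nat.card (Subgroup.centralizer ({g} : Set G))).factorization p
        + (Subgroup.centralizer ({g} : Set G)).index.factorization p := by
    rw [← Subgroup.card_mul_index (Subgroup.centralizer ({g} : Set G)),
      Nat.factorization_mul Nat.card_pos.ne'
        (Subgroup.index_ne_zero_of_finite), Finsupp.add_apply]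
  omega

open Classical in
/-- **The number of blocks of defect at least `d` is at most the number of `p`-regular
classes of defect at least `d`.** -/
theorem card_blocks_defect_le {p : ℕ} [hp : Fact p.Prime] (hM : IsPModular p M) (d : ℕ) :
    Nat.card {B : Set (IrrCharacter G) // IsPBlock M B ∧ d ≤ blockDefect p B} ≤
    Nat.card {C : ConjClasses G // ∃ g : G, ConjClasses.mk g = C ∧ IsPRegular p g ∧
      d ≤ (Nat.card (Subgroup.centralizer ({g} : Set G))).factorization p} := by
  have hMm := hM.2.1
  haveI : Fintype {B : Set (IrrCharacter G) // IsPBlock M B ∧ d ≤ blockDefect p B} :=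
    Fintype.ofFinite _
  rw [Nat.card_eq_fintype_card, Nat.card_eq_fintype_card]
  have hrep : ∀ B : {B : Set (IrrCharacter G) // IsPBlock M B ∧ d ≤ blockDefect p B},
      ∃ χ : IrrCharacter G, χ ∈ B.1 ∧ B.1 = blockOf M (χ : G → ℂ) ∧
      blockDefect p B.1 = (Nat.card G).factorization p
        - (charDegree (χ : G → ℂ)).factorization p :=
    fun B => exists_height_zero_rep p hMm B.1 B.2.1
  choose rep hrep1 hrep2 hrep3 using hrep
  set X : Matrix {B : Set (IrrCharacter G) // IsPBlock M B ∧ d ≤ blockDefect p B}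
      {C : ConjClasses G // ∃ g : G, ConjClasses.mk g = C ∧ IsPRegular p g ∧
        d ≤ (Nat.card (Subgroup.centralizer ({g} : Set G))).factorization p} ℂ :=
    fun B C => blockCoeff B.1 C.1.out with hX
  set Y : Matrix {C : ConjClasses G // ∃ g : G, ConjClasses.mk g = C ∧ IsPRegular p g ∧
        d ≤ (Nat.card (Subgroup.centralizer ({g} : Set G))).factorization p}
      {B : Set (IrrCharacter G) // IsPBlock M B ∧ d ≤ blockDefect p B} ℂ :=
    fun C B => centralChar (rep B : G → ℂ) C.1.out with hY
  have hXY : ∀ B B' : {B : Set (IrrCharacter G) // IsPBlock M B ∧ d ≤ blockDefect p B},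
      MemLocalIdeal M ((X * Y - (1 : Matrix
        {B : Set (IrrCharacter G) // IsPBlock M B ∧ d ≤ blockDefect p B}
        {B : Set (IrrCharacter G) // IsPBlock M B ∧ d ≤ blockDefect p B} ℂ)) B B') := by
    intro B B'
    have htot : ∑ C : ConjClasses G, blockCoeff B.1 C.out * centralChar (rep B' : G → ℂ) C.out
        = (1 : Matrix _ _ ℂ) B B' := by
      rw [← om_eq_sum_classes
        (IsCharacter.isClassFunction (IsIrrCharacter.isCharacter (rep B').2))
        (blockCoeff_isClassFunction _), om_blockCoeff _ (rep B').2, Matrix.one_apply]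
      by_cases hBB : B = B'
      · rw [if_pos hBB, if_pos]
        rw [memB_coe, hBB]
        exact hrep1 B'
      · rw [if_neg hBB, if_neg]
        rw [memB_coe]
        intro hmem
        apply hBB
        apply Subtype.ext
        rw [hrep2 B] at hmem
        rw [hrep2 B, hrep2 B']
        exact (blockOf_eq_of_mem hMm hmem).symm
    rw [Matrix.sub_apply, Matrix.mul_apply, ← htot,
      ← Fintype.sum_subtype_add_sum_subtype (fun C : ConjClasses G =>
        ∃ g : G, ConjClasses.mk g = C ∧ IsPRegular p g ∧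
        d ≤ (Nat.card (Subgroup.centralizer ({g} : Set G))).factorization p)
        (fun C => blockCoeff B.1 C.out * centralChar (rep B' : G → ℂ) C.out)]
    have e : ∀ a b : ℂ, a - (a + b) = -b := fun a b => by ring
    rw [hX, hY]
    rw [e]
    apply memLocalIdeal_neg hMm
    refine memLocalIdeal_sum hMm _ _ fun C _ => ?_
    have hC := C.2
    have hC' : ¬ (IsPRegular p C.1.out ∧
        d ≤ (Nat.card (Subgroup.centralizer ({C.1.out} : Set G))).factorization p) :=
      fun h => hC ⟨C.1.out, Quotient.out_eq _, h.1, h.2⟩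
    by_cases hreg : p ∣ orderOf C.1.out
    · have : blockCoeff B.1 C.1.out = 0 := by
        rw [hrep2 B]
        exact blockCoeff_vanish hM (rep B) _ hreg
      rw [this, zero_mul]
      exact memLocalIdeal_zero hMm
    · have hlt : (Nat.card (Subgroup.centralizer ({C.1.out} : Set G))).factorization p < d := by
        by_contra hge
        exact hC' ⟨hreg, not_lt.mp hge⟩
      have h1 := memLocalIdeal_centralChar_of_defect_lt hM (rep B') d
        (by rw [← hrep3 B']; exact B'.2.2) C.1.out hlt
      have h2 : MemLocalRing M (blockCoeff B.1 C.1.out) := by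
        rw [hrep2 B]
        exact memLocalRing_blockCoeff hMm (rep B).2 _
      exact memLocalIdeal_mul_ring hMm h1 h2
  have hdet : (X * Y).det ≠ 0 := by
    have : X * Y = 1 + (X * Y - 1) := by abel
    rw [this]
    exact det_one_add_ne_zero hMm _ hXY
  have hunit : IsUnit (X * Y) :=
    (Matrix.isUnit_iff_isUnit_det _).mpr (isUnit_iff_ne_zero.mpr hdet)
  have h1 := Matrix.rank_of_isUnit (X * Y) hunit
  have h2 := Matrix.rank_mul_le_left X Y
  have h3 := Matrix.rank_le_card_width X
  omega

end Cfsg.Agent.Lib.Helper2_BlockCount
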