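import Mathlib
import Cfsg.Prelude.Def_Characters
import Cfsg.Prelude.Def_Blocks
import Cfsg.Prelude.Def_BlockRank
import Cfsg.Agent.Lib.Helper2_ClassFn
import Cfsg.Agent.Lib.Helper2_CharBasic
import Cfsg.Agent.Lib.Helper2_CharOrtho
import Cfsg.Agent.Lib.Helper2_CharMore
import Cfsg.Agent.Lib.Helper2_CharValues
import Cfsg.Agent.Lib.Helper2_CharSum
import Cfsg.Agent.Lib.Helper2_CharCentral
import Cfsg.Agent.Lib.Helper2_ModM
import Cfsg.Agent.Lib.Helper2_Blocks
import Cfsg.Agent.Lib.Helper2_BlockOrtho
import Cfsg.Agent.Lib.Helper2_BlockMore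
import Cfsg.Agent.Lib.Helper2_DefectGroup
import Cfsg.Agent.Lib.Helper2_DefectPCore
import Cfsg.Agent.Lib.Helper2_MinMax
import Cfsg.Agent.Lib.Helper2_InducedBlock
import Cfsg.Agent.Lib.Helper2_BrauerMap
import Cfsg.Agent.Lib.Helper2_InducedDefect
import Cfsg.Agent.Lib.Helper2_BrauerFirst
import Cfsg.Agent.Lib.Helper2_BrauerConverse
import Cfsg.Agent.Lib.Helper2_SylowConj
import Cfsg.Agent.Lib.Helper2_BlockCover
import Cfsg.Agent.Lib.Helper2_BlockConj
import Cfsg.Agent.Lib.Helper2_FirstMain
import Cfsg.Agent.Lib.Helper2_BlockNormal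
import Cfsg.Agent.Lib.Helper2_BlockCount


set_option autoImplicit false

/-!
# Counting blocks II
-/

namespace Cfsg.Agent.Lib.Helper2_BlockCount2

open Cfsg
open Cfsg.Agent.Lib.Helper2_ClassFn
open Cfsg.Agent.Lib.Helper2_CharBasic
open Cfsg.Agent.Lib.Helper2_CharOrtho
open Cfsg.Agent.Lib.Helper2_CharMore
open Cfsg.Agent.Lib.Helper2_CharValues
open Cfsg.Agent.Lib.Helper2_CharSum
open Cfsg.Agent.Lib.Helper2_CharCentral
open Cfsg.Agent.Lib.Helper2_ModM
open Cfsg.Agent.Lib.Helper2_Blocks
open Cfsg.Agent.Lib.Helper2_BlockOrtho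
open Cfsg.Agent.Lib.Helper2_BlockMore
open Cfsg.Agent.Lib.Helper2_DefectGroup
open Cfsg.Agent.Lib.Helper2_DefectPCore
open Cfsg.Agent.Lib.Helper2_MinMax
open Cfsg.Agent.Lib.Helper2_InducedBlock
open Cfsg.Agent.Lib.Helper2_BrauerMap
open Cfsg.Agent.Lib.Helper2_InducedDefect
open Cfsg.Agent.Lib.Helper2_BrauerFirst
open Cfsg.Agent.Lib.Helper2_BrauerConverse
open Cfsg.Agent.Lib.Helper2_SylowConj
open Cfsg.Agent.Lib.Helper2_BlockCover
open Cfsg.Agent.Lib.Helper2_BlockConj
open Cfsg.Agent.Lib.Helper2_FirstMain
open Cfsg.Agent.Lib.Helper2_BlockNormal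
open Cfsg.Agent.Lib.Helper2_BlockCount
open scoped ComplexConjugate

universe u

variable {G : Type u} [Group G] [Fintype G] {M : Ideal AlgInt}

/-- Block idempotents vanish modulo the ideal on classes of larger defect. -/
theorem memLocalIdeal_blockCoeff_of_defect_gt {p : ℕ} [hp : Fact p.Prime] (hM : IsPModular p M)
    (χ₀ : IrrCharacter G) (h : G)
    (hlt : blockDefect p (blockOf M (χ₀ : G → ℂ))
      < (Nat.card (Subgroup.centralizer ({h} : Set G))).factorization p) :
    MemLocalIdeal M (blockCoeff (blockOf M (χ₀ : G → ℂ)) h) := by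
  classical
  have hMm := hM.2.1
  by_contra hh
  obtain ⟨g, hg⟩ := exists_defectClass hMm χ₀
  obtain ⟨D⟩ : Nonempty (Sylow p (Subgroup.centralizer ({g} : Set G))) := inferInstance
  obtain ⟨E⟩ : Nonempty (Sylow p (Subgroup.centralizer ({h} : Set G))) := inferInstance
  have hD : IsDefectGroup p M (blockOf M (χ₀ : G → ℂ))
      ((D : Subgroup (Subgroup.centralizer ({g} : Set G))).map
        (Subgroup.centralizer ({g} : Set G)).subtype) := ⟨g, hg, D, rfl⟩
  have hcardD := card_defectGroup hM χ₀ _ hD
  have hEp : IsPGroup p ((E : Subgroup (Subgroup.centralizer ({h} : Set G))).map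
      (Subgroup.centralizer ({h} : Set G)).subtype) := E.isPGroup'.map _
  have hEle : (E : Subgroup (Subgroup.centralizer ({h} : Set G))).map
      (Subgroup.centralizer ({h} : Set G)).subtype ≤ Subgroup.centralizer ({h} : Set G) := by
    rintro _ ⟨e, _, rfl⟩
    exact e.2
  obtain ⟨x, hx⟩ := minmax_support hM χ₀ g hg D h hh _ hEp hEle
  have h1 := Nat.le_of_dvd Nat.card_pos (Subgroup.card_dvd_of_le hx)
  have hcardconj : Nat.card (((D : Subgroup (Subgroup.centralizer ({g} : Set G))).map
      (Subgroup.centralizer ({g} : Set G)).subtype).map (MulAut.conj x).toMonoidHom)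
      = Nat.card ((D : Subgroup (Subgroup.centralizer ({g} : Set G))).map
      (Subgroup.centralizer ({g} : Set G)).subtype) :=
    Subgroup.card_map_of_injective (f := (MulAut.conj x).toMonoidHom) (MulAut.conj x).injective
  rw [hcardconj, hcardD, Subgroup.card_map_of_injective (Subgroup.subtype_injective _),
    E.card_eq_multiplicity] at h1
  have := (Nat.pow_le_pow_iff_right hp.out.one_lt).mp h1
  omega

open Classical in
/-- **The number of blocks of defect exactly `σ` is at most the number of `p`-regular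
classes of defect exactly `σ`.** -/
theorem card_blocks_defect_eq_le {p : ℕ} [hp : Fact p.Prime] (hM : IsPModular p M) (σ : ℕ) :
    Nat.card {B : Set (IrrCharacter G) // IsPBlock M B ∧ blockDefect p B = σ} ≤
    Nat.card {C : ConjClasses G // ∃ g : G, ConjClasses.mk g = C ∧ ¬ p ∣ orderOf g ∧
      (Nat.card (Subgroup.centralizer ({g} : Set G))).factorization p = σ} := by
  have hMm := hM.2.1
  haveI : Fintype {B : Set (IrrCharacter G) // IsPBlock M B ∧ blockDefect p B = σ} :=
    Fintype.ofFinite _
  rw [Nat.card_eq_fintype_card, Nat.card_eq_fintype_card]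
  have hrep : ∀ B : {B : Set (IrrCharacter G) // IsPBlock M B ∧ blockDefect p B = σ},
      ∃ χ : IrrCharacter G, χ ∈ B.1 ∧ B.1 = blockOf M (χ : G → ℂ) ∧
      blockDefect p B.1 = (Nat.card G).factorization p
        - (charDegree (χ : G → ℂ)).factorization p :=
    fun B => exists_height_zero_rep p hMm B.1 B.2.1
  choose rep hrep1 hrep2 hrep3 using hrep
  set X : Matrix {B : Set (IrrCharacter G) // IsPBlock M B ∧ blockDefect p B = σ}
      {C : ConjClasses G // ∃ g : G, ConjClasses.mk g = C ∧ ¬ p ∣ orderOf g ∧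
        (Nat.card (Subgroup.centralizer ({g} : Set G))).factorization p = σ} ℂ :=
    fun B C => blockCoeff B.1 C.1.out with hX
  set Y : Matrix {C : ConjClasses G // ∃ g : G, ConjClasses.mk g = C ∧ ¬ p ∣ orderOf g ∧
        (Nat.card (Subgroup.centralizer ({g} : Set G))).factorization p = σ}
      {B : Set (IrrCharacter G) // IsPBlock M B ∧ blockDefect p B = σ} ℂ :=
    fun C B => centralChar (rep B : G → ℂ) C.1.out with hY
  have hXY : ∀ B B' : {B : Set (IrrCharacter G) // IsPBlock M B ∧ blockDefect p B = σ},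
      MemLocalIdeal M ((X * Y - (1 : Matrix
        {B : Set (IrrCharacter G) // IsPBlock M B ∧ blockDefect p B = σ}
        {B : Set (IrrCharacter G) // IsPBlock M B ∧ blockDefect p B = σ} ℂ)) B B') := by
    intro B B'
    have htot : ∑ C : ConjClasses G, blockCoeff B.1 C.out * centralChar (rep B' : G → ℂ) C.out
        = (1 : Matrix _ _ ℂ) B B' := by
      rw [← om_eq_sum_classes
        (IsCharacter.isClassFunction (IsIrrCharacter.isCharacter (rep B').2))
        (blockCoeff_isClassFunction _), om_blockCoeff _ (rep B').2, Matrix.one_apply]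
      by_cases hBB : B = B'
      · rw [if_pos hBB, if_pos]
        rw [memB_coe, hBB]
        exact hrep1 B'
      · rw [if_neg hBB, if_neg]
        rw [memB_coe]
        intro hmem
        apply hBB
        apply Subtype.ext
        rw [hrep2 B] at hmem
        rw [hrep2 B, hrep2 B']
        exact (blockOf_eq_of_mem hMm hmem).symm
    rw [Matrix.sub_apply, Matrix.mul_apply, ← htot,
      ← Fintype.sum_subtype_add_sum_subtype (fun C : ConjClasses G =>
        ∃ g : G, ConjClasses.mk g = C ∧ ¬ p ∣ orderOf g ∧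
        (Nat.card (Subgroup.centralizer ({g} : Set G))).factorization p = σ)
        (fun C => blockCoeff B.1 C.out * centralChar (rep B' : G → ℂ) C.out)]
    have e : ∀ a b : ℂ, a - (a + b) = -b := fun a b => by ring
    rw [hX, hY]
    rw [e]
    apply memLocalIdeal_neg hMm
    refine memLocalIdeal_sum hMm _ _ fun C _ => ?_
    have hC := C.2
    have hC' : ¬ (¬ p ∣ orderOf C.1.out ∧
        (Nat.card (Subgroup.centralizer ({C.1.out} : Set G))).factorization p = σ) :=
      fun h => hC ⟨C.1.out, Quotient.out_eq _, h.1, h.2⟩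
    have h2 : MemLocalRing M (blockCoeff B.1 C.1.out) := by
      rw [hrep2 B]
      exact memLocalRing_blockCoeff hMm (rep B).2 _
    by_cases hreg : p ∣ orderOf C.1.out
    · have : blockCoeff B.1 C.1.out = 0 := by
        rw [hrep2 B]
        exact blockCoeff_vanish hM (rep B) _ hreg
      rw [this, zero_mul]
      exact memLocalIdeal_zero hMm
    · have hne : (Nat.card (Subgroup.centralizer ({C.1.out} : Set G))).factorization p ≠ σ :=
        fun h => hC' ⟨hreg, h⟩
      rcases lt_or_gt_of_ne hne with hlt | hgt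
      · have h1 := memLocalIdeal_centralChar_of_defect_lt hM (rep B') σ
          (by rw [← hrep3 B', B'.2.2]) C.1.out hlt
        exact memLocalIdeal_mul_ring hMm h1 h2
      · have h1 : MemLocalIdeal M (blockCoeff B.1 C.1.out) := by
          rw [hrep2 B]
          apply memLocalIdeal_blockCoeff_of_defect_gt hM (rep B)
          rw [← hrep2 B, B.2.2]
          exact hgt
        have := memLocalIdeal_mul_int hMm h1 (isIntegral_centralChar (rep B').2 C.1.out)
        rw [mul_comm]
        exact this
  have hdet : (X * Y).det ≠ 0 := by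
    have : X * Y = 1 + (X * Y - 1) := by abel
    rw [this]
    exact det_one_add_ne_zero hMm _ hXY
  have hunit : IsUnit (X * Y) :=
    (Matrix.isUnit_iff_isUnit_det _).mpr (isUnit_iff_ne_zero.mpr hdet)
  have h1 := Matrix.rank_of_isUnit (X * Y) hunit
  have h2 := Matrix.rank_mul_le_left X Y
  have h3 := Matrix.rank_le_card_width X
  omega

/-- Central characters of a block of defect `d` vanish modulo the ideal on classes of
smaller defect. -/
theorem memLocalIdeal_centralChar_of_defect_lt' {p : ℕ} [hp : Fact p.Prime] (hM : IsPModular p M)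
    (χ : IrrCharacter G) (g : G)
    (hg : (Nat.card (Subgroup.centralizer ({g} : Set G))).factorization p
      < blockDefect p (blockOf M (χ : G → ℂ))) :
    MemLocalIdeal M (centralChar (χ : G → ℂ) g) := by
  have hMm := hM.2.1
  obtain ⟨χ', hχ', hB, hdef⟩ := exists_height_zero_rep p hMm (blockOf M (χ : G → ℂ)) ⟨χ, rfl⟩
  have h1 := memLocalIdeal_centralChar_of_defect_lt hM χ'
    (blockDefect p (blockOf M (χ : G → ℂ))) (by rw [hdef]) g hg
  have h2 : SameBlock M (χ : G → ℂ) (χ' : G → ℂ) := hχ'
  have := memLocalIdeal_add hMm (h2 g) h1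
  rwa [sub_add_cancel] at this

open Classical in
/-- Blocks of defect `d` are separated by the `p`-regular classes of defect exactly `d`. -/
theorem sameBlock_iff_defect_classes {p : ℕ} [hp : Fact p.Prime] (hM : IsPModular p M) (d : ℕ)
    (χ ψ : IrrCharacter G) (hχ : blockDefect p (blockOf M (χ : G → ℂ)) = d)
    (hψ : blockDefect p (blockOf M (ψ : G → ℂ)) = d) :
    SameBlock M (χ : G → ℂ) (ψ : G → ℂ) ↔ ∀ x : G, ¬ p ∣ orderOf x →
      (Nat.card (Subgroup.centralizer ({x} : Set G))).factorization p = d →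
      MemLocalIdeal M (centralChar (χ : G → ℂ) x - centralChar (ψ : G → ℂ) x) := by
  have hMm := hM.2.1
  constructor
  · intro h x _ _
    exact h x
  · intro h
    have hχcf := IsCharacter.isClassFunction (IsIrrCharacter.isCharacter χ.2)
    have hψcf := IsCharacter.isClassFunction (IsIrrCharacter.isCharacter ψ.2)
    have hecf := blockCoeff_isClassFunction (blockOf M (χ : G → ℂ))
    have h1 := om_blockCoeff (blockOf M (χ : G → ℂ)) χ.2
    rw [if_pos ((memB_coe _ χ).mpr (self_mem_blockOf hMm χ))] at h1
    have h2 := om_blockCoeff (blockOf M (χ : G → ℂ)) ψ.2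
    have hdiff : MemLocalIdeal M (om (χ : G → ℂ) (blockCoeff (blockOf M (χ : G → ℂ)))
        - om (ψ : G → ℂ) (blockCoeff (blockOf M (χ : G → ℂ)))) := by
      rw [om_eq_sum_classes hχcf hecf, om_eq_sum_classes hψcf hecf, ← Finset.sum_sub_distrib]
      refine memLocalIdeal_sum hMm _ _ fun C _ => ?_
      rw [← mul_sub]
      have hR : MemLocalRing M (blockCoeff (blockOf M (χ : G → ℂ)) C.out) :=
        memLocalRing_blockCoeff hMm χ.2 _
      by_cases hreg : p ∣ orderOf C.out
      · rw [blockCoeff_vanish hM χ _ hreg, zero_mul]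
        exact memLocalIdeal_zero hMm
      · rcases lt_trichotomy
          ((Nat.card (Subgroup.centralizer ({C.out} : Set G))).factorization p) d with hlt | heq | hgt
        · have a1 := memLocalIdeal_centralChar_of_defect_lt' hM χ C.out (by rw [hχ]; exact hlt)
          have a2 := memLocalIdeal_centralChar_of_defect_lt' hM ψ C.out (by rw [hψ]; exact hlt)
          exact memLocalIdeal_mul_ring hMm (memLocalIdeal_sub hMm a1 a2) hR
        · exact memLocalIdeal_mul_ring hMm (h C.out hreg heq) hR
        · have a1 := memLocalIdeal_blockCoeff_of_defect_gt hM χ C.out (by rw [hχ]; exact hgt)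
          have := memLocalIdeal_mul_int hMm a1
            ((isIntegral_centralChar χ.2 C.out).sub (isIntegral_centralChar ψ.2 C.out))
          rw [mul_comm]
          exact this
    rw [h1, h2] at hdiff
    by_cases hm : MemB (blockOf M (χ : G → ℂ)) (ψ : G → ℂ)
    · exact (memB_coe _ ψ).mp hm
    · rw [if_neg hm, sub_zero] at hdiff
      exact absurd hdiff (not_memLocalIdeal_one hMm)

end Cfsg.Agent.Lib.Helper2_BlockCount2
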