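import Mathlib
import Cfsg.Prelude.Def_Characters
import Cfsg.Agent.Lib.Helper2_ClassFn
import Cfsg.Agent.Lib.Helper2_CharBasic
import Cfsg.Agent.Lib.Helper2_CharOrtho
import Cfsg.Agent.Lib.Helper2_CharMore
import Cfsg.Agent.Lib.Helper2_CharValues
import Cfsg.Agent.Lib.Helper2_CharComplete
import Cfsg.Agent.Lib.Helper2_CharInd
import Cfsg.Agent.Lib.Helper2_CharSum
import Cfsg.Agent.Lib.Helper2_CharInt
import Cfsg.Agent.Lib.Helper2_CharCentral
import Cfsg.Agent.Lib.Helper2_CharBurnside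
import Cfsg.Agent.Lib.Helper2_BrauerInd
import Cfsg.Agent.Lib.Helper2_BrauerThm
import Cfsg.Agent.Lib.Helper2_NilDecomp
import Cfsg.Agent.Lib.Helper2_DefectZero
import Cfsg.Agent.Lib.Helper2_PiSection
import Cfsg.Agent.Lib.Helper2_ModM

set_option autoImplicit false

/-!
# The Brauer–Suzuki normal complement theorem for Hall subgroups
-/

namespace Cfsg.Agent.Lib.Helper2_HallCompl

open Cfsg
open Cfsg.Agent.Lib.Helper2_ClassFn
open Cfsg.Agent.Lib.Helper2_CharBasic
open Cfsg.Agent.Lib.Helper2_CharOrtho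
open Cfsg.Agent.Lib.Helper2_CharMore
open Cfsg.Agent.Lib.Helper2_CharValues
open Cfsg.Agent.Lib.Helper2_CharComplete
open Cfsg.Agent.Lib.Helper2_CharInd
open Cfsg.Agent.Lib.Helper2_CharSum
open Cfsg.Agent.Lib.Helper2_CharInt
open Cfsg.Agent.Lib.Helper2_CharCentral
open Cfsg.Agent.Lib.Helper2_CharBurnside
open Cfsg.Agent.Lib.Helper2_BrauerInd
open Cfsg.Agent.Lib.Helper2_BrauerThm
open Cfsg.Agent.Lib.Helper2_NilDecomp
open Cfsg.Agent.Lib.Helper2_DefectZero
open Cfsg.Agent.Lib.Helper2_PiSection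
open Cfsg.Agent.Lib.Helper2_ModM
open scoped ComplexConjugate

universe u

section Nil2

variable {E : Type u} [Group E] [Finite E] [Group.IsNilpotent E]

omit [Finite E] [Group.IsNilpotent E] in
theorem pow_card_mul (m n : ℕ) (hE : Nat.card E ∣ m * n) (z : E) : z ^ (m * n) = 1 :=
  orderOf_dvd_iff_pow_eq_one.mp (dvd_trans (orderOf_dvd_natCard z) hE)

theorem pow_mem_coprimeSub (m n r : ℕ) (hcop : m.Coprime n) (hE : Nat.card E ∣ m * n)
    (hm : m ∣ r) (z : E) : z ^ r ∈ coprimeSub E m := by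
  rw [mem_coprimeSub]
  have h1 : (z ^ r) ^ n = 1 := by
    obtain ⟨s, hs⟩ := hm
    rw [← pow_mul, hs, show m * s * n = (m * n) * s by ring, pow_mul, pow_card_mul m n hE, one_pow]
  exact Nat.Coprime.coprime_dvd_left (orderOf_dvd_of_pow_eq_one h1) hcop.symm

theorem pow_eq_self_of_mem (m n r : ℕ) (hE : Nat.card E ∣ m * n)
    (hn : n ∣ r - 1) (hr : 1 ≤ r) (a : E) (ha : a ∈ coprimeSub E m) : a ^ r = a := by
  rw [mem_coprimeSub] at ha
  have h1 : orderOf a ∣ m * n := orderOf_dvd_of_pow_eq_one (pow_card_mul m n hE a)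
  have h2 : orderOf a ∣ n := Nat.Coprime.dvd_of_dvd_mul_left ha h1
  obtain ⟨t, ht⟩ := hn
  have hrt : r = n * t + 1 := by omega
  rw [hrt, pow_succ, pow_mul, orderOf_dvd_iff_pow_eq_one.mp h2, one_pow, one_mul]

theorem inv_pow_mul_mem (m n r : ℕ) (hcop : m.Coprime n) (hE : Nat.card E ∣ m * n)
    (hn : n ∣ r - 1) (hr : 1 ≤ r) (z : E) : (z ^ r)⁻¹ * z ∈ coprimeSub E n := by
  rw [mem_coprimeSub]
  obtain ⟨t, ht⟩ := hn
  have hrt : r = n * t + 1 := by omega
  have h0 : (z ^ r)⁻¹ * z = (z ^ (n * t))⁻¹ := by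
    rw [hrt, pow_succ]; group
  have h1 : ((z ^ r)⁻¹ * z) ^ m = 1 := by
    rw [h0, inv_pow, ← pow_mul, show n * t * m = (m * n) * t by ring, pow_mul,
      pow_card_mul m n hE, one_pow, inv_one]
  exact Nat.Coprime.coprime_dvd_left (orderOf_dvd_of_pow_eq_one h1) hcop

theorem mul_pow_eq (m n r : ℕ) (hcop : m.Coprime n) (hE : Nat.card E ∣ m * n) (hm : m ∣ r)
    (hn : n ∣ r - 1) (hr : 1 ≤ r) (e₁ e₂ : E) : (e₁ * e₂) ^ r = e₁ ^ r * e₂ ^ r := by
  obtain ⟨-, hk⟩ := hall_kernel (E := E) m n r hcop hE hm hn hr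
  have hb2 := inv_pow_mul_mem m n r hcop hE hn hr e₂
  have hb1 := inv_pow_mul_mem m n r hcop hE hn hr e₁
  have s1 : e₁ * e₂ = (e₁ * e₂ ^ r) * ((e₂ ^ r)⁻¹ * e₂) := by group
  have hnorm : (e₂ ^ r)⁻¹ * ((e₁ ^ r)⁻¹ * e₁) * (e₂ ^ r) ∈ coprimeSub E n := by
    have := (coprimeSub_normal (E := E) n).conj_mem _ hb1 (e₂ ^ r)⁻¹
    simpa using this
  have s2 : e₁ * e₂ ^ r = (e₁ ^ r * e₂ ^ r) * ((e₂ ^ r)⁻¹ * ((e₁ ^ r)⁻¹ * e₁) * (e₂ ^ r)) := by
    group
  rw [s1, hk _ _ hb2, s2, hk _ _ hnorm]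
  apply pow_eq_self_of_mem m n r hE hn hr
  exact (coprimeSub E m).mul_mem (pow_mem_coprimeSub m n r hcop hE hm e₁)
    (pow_mem_coprimeSub m n r hcop hE hm e₂)

/-- The projection `e ↦ e ^ r` onto the `n`-part of a finite nilpotent group. -/
noncomputable def powHom (m n r : ℕ) (hcop : m.Coprime n) (hE : Nat.card E ∣ m * n) (hm : m ∣ r)
    (hn : n ∣ r - 1) (hr : 1 ≤ r) : E →* coprimeSub E m :=
  MonoidHom.mk' (fun e => ⟨e ^ r, pow_mem_coprimeSub m n r hcop hE hm e⟩) (by
    intro a b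
    apply Subtype.ext
    exact mul_pow_eq m n r hcop hE hm hn hr a b)

theorem powHom_apply (m n r : ℕ) (hcop : m.Coprime n) (hE : Nat.card E ∣ m * n) (hm : m ∣ r)
    (hn : n ∣ r - 1) (hr : 1 ≤ r) (e : E) :
    ((powHom m n r hcop hE hm hn hr e : coprimeSub E m) : E) = e ^ r := rfl

theorem powHom_surjective (m n r : ℕ) (hcop : m.Coprime n) (hE : Nat.card E ∣ m * n) (hm : m ∣ r)
    (hn : n ∣ r - 1) (hr : 1 ≤ r) : Function.Surjective (powHom (E := E) m n r hcop hE hm hn hr) := by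
  intro a
  refine ⟨a, ?_⟩
  apply Subtype.ext
  rw [powHom_apply]
  exact pow_eq_self_of_mem m n r hE hn hr a a.2

theorem card_coprimeSub_dvd (m n : ℕ) (hE : Nat.card E ∣ m * n) :
    Nat.card (coprimeSub E m) ∣ n := by
  have hAm : (Nat.card (coprimeSub E m)).Coprime m := by
    apply Nat.coprime_of_dvd
    intro q hq hqA hqm
    haveI : Fact q.Prime := ⟨hq⟩
    obtain ⟨a, ha⟩ := exists_prime_orderOf_dvd_card' q hqA
    have haA : (orderOf (a : E)).Coprime m := (mem_coprimeSub m (a : E)).mp a.2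
    rw [Subgroup.orderOf_coe, ha] at haA
    have h1 : q ∣ Nat.gcd q m := Nat.dvd_gcd dvd_rfl hqm
    rw [Nat.Coprime.gcd_eq_one haA] at h1
    exact hq.one_lt.ne' (Nat.dvd_one.mp h1)
  have hAE : Nat.card (coprimeSub E m) ∣ m * n :=
    dvd_trans (Subgroup.card_subgroup_dvd_card _) hE
  exact Nat.Coprime.dvd_of_dvd_mul_left hAm hAE

theorem coprimeSub_elementary (p : ℕ) (hp : p.Prime) (hEl : IsElementary p E)
    (m n r : ℕ) (hcop : m.Coprime n) (hE : Nat.card E ∣ m * n) (hm : m ∣ r)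
    (hn : n ∣ r - 1) (hr : 1 ≤ r) : IsElementary p (coprimeSub E m) := by
  obtain ⟨x, hxc, hxp, j, hj⟩ := hEl
  set f := powHom (E := E) m n r hcop hE hm hn hr with hf
  refine ⟨f x, ?_, ?_, ?_⟩
  · rw [Subgroup.mem_center_iff]
    intro a
    apply Subtype.ext
    show (a : E) * x ^ r = x ^ r * (a : E)
    have : x ^ r ∈ Subgroup.center E := Subgroup.pow_mem _ hxc r
    rw [Subgroup.mem_center_iff] at this
    exact this a
  · have h1 : orderOf (f x) = orderOf (x ^ r) := by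
      rw [← Subgroup.orderOf_coe]; rfl
    rw [h1]
    exact Nat.Coprime.coprime_dvd_left (orderOf_pow_dvd r) hxp
  · have h1 : Subgroup.zpowers (f x) = (Subgroup.zpowers x).map f := by
      rw [MonoidHom.map_zpowers]
    have h2 : ((Subgroup.zpowers x).map f).index ∣ (Subgroup.zpowers x).index :=
      Subgroup.index_map_dvd _ (powHom_surjective m n r hcop hE hm hn hr)
    rw [h1]
    rw [hj] at h2
    obtain ⟨i, -, hi⟩ := (Nat.dvd_prime_pow hp).mp h2
    exact ⟨i, hi⟩

end Nil2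

section Tilde

variable {G : Type u} [Group G] [Fintype G] (H : Subgroup G)

/-- Every element's `π`-part is conjugate into `H`. -/
theorem exists_tau (r : ℕ) (hr1 : H.index ∣ r)
    (helem : ∀ (E : Subgroup G) (p : ℕ), p.Prime → IsElementary p E → Nat.card E ∣ Nat.card H →
      ∃ g : G, E.map (MulAut.conj g).toMonoidHom ≤ H) :
    ∃ τ : G → H, ∀ y : G, IsConj ((τ y : H) : G) (y ^ r) := by
  have key : ∀ y : G, ∃ t : H, IsConj ((t : H) : G) (y ^ r) := by
    intro y
    set c := y ^ r with hc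
    set C := Subgroup.zpowers c with hC
    obtain ⟨p, hp1, hp⟩ := Nat.exists_infinite_primes (orderOf c + 1)
    have hcop : (orderOf c).Coprime p := by
      apply (Nat.Coprime.symm _)
      apply (Nat.Prime.coprime_iff_not_dvd hp).mpr
      intro hdvd
      have := Nat.le_of_dvd (orderOf_pos c) hdvd
      omega
    have hCel : IsElementary p C := by
      refine ⟨⟨c, Subgroup.mem_zpowers c⟩, ?_, ?_, 0, ?_⟩
      · rw [Subgroup.mem_center_iff]
        intro a
        have : IsMulCommutative C := inferInstance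
        exact this.is_comm.comm a _
      · rw [Subgroup.orderOf_mk]; exact hcop
      · rw [pow_zero, Subgroup.index_eq_one, eq_top_iff]
        rintro ⟨a, ha⟩ -
        rw [Subgroup.mem_zpowers_iff] at ha ⊢
        obtain ⟨i, hi⟩ := ha
        refine ⟨i, ?_⟩
        apply Subtype.ext
        simp [hi]
    have hcard : Nat.card C ∣ Nat.card H := by
      rw [hC, Nat.card_zpowers]
      apply orderOf_dvd_of_pow_eq_one
      rw [hc, ← pow_mul]
      obtain ⟨s, hs⟩ := hr1
      rw [hs, show H.index * s * Nat.card H = (H.index * Nat.card H) * s by ring,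
        Subgroup.index_mul_card, pow_mul, pow_card_eq_one', one_pow]
    obtain ⟨g, hg⟩ := helem C p hp hCel hcard
    have hmem : g * c * g⁻¹ ∈ H := by
      apply hg
      refine ⟨c, Subgroup.mem_zpowers c, ?_⟩
      simp [MulAut.conj_apply]
    exact ⟨⟨g * c * g⁻¹, hmem⟩, isConj_iff.mpr ⟨g⁻¹, by simp [mul_assoc]⟩⟩
  choose τ hτ using key
  exact ⟨τ, hτ⟩

variable {H}

omit [Fintype G] in
/-- elements of `H` are fixed by the `r`-th power -/
theorem pow_eq_self_of_mem_H (r : ℕ) (hr2 : Nat.card H ∣ r - 1) (hr : 1 ≤ r) (x : G)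
    (hx : x ∈ H) : x ^ r = x := by
  have h1 : orderOf x ∣ Nat.card H := by
    have := orderOf_dvd_natCard (⟨x, hx⟩ : H)
    rwa [Subgroup.orderOf_mk] at this
  obtain ⟨t, ht⟩ := dvd_trans h1 hr2
  have hrt : r = orderOf x * t + 1 := by omega
  rw [hrt, pow_succ, pow_mul, pow_orderOf_eq_one, one_pow, one_mul]

omit [Fintype G] in
theorem isConj_H_of_isConj
    (hfus : ∀ x ∈ H, ∀ y ∈ H, IsConj x y → ∃ h ∈ H, h * x * h⁻¹ = y)
    (a b : H) (hab : IsConj (a : G) (b : G)) : IsConj a b := by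
  obtain ⟨h, hh, heq⟩ := hfus a a.2 b b.2 hab
  exact isConj_iff.mpr ⟨⟨h, hh⟩, Subtype.ext (by simpa using heq)⟩

omit [Fintype G] in
theorem tau_conj (r : ℕ)
    (hfus : ∀ x ∈ H, ∀ y ∈ H, IsConj x y → ∃ h ∈ H, h * x * h⁻¹ = y)
    (τ : G → H) (hτ : ∀ y : G, IsConj ((τ y : H) : G) (y ^ r)) (y g : G) :
    IsConj (τ (g * y * g⁻¹)) (τ y) := by
  apply isConj_H_of_isConj hfus
  have h1 := hτ (g * y * g⁻¹)
  rw [conj_pow] at h1
  have h2 : IsConj (g * y ^ r * g⁻¹) (y ^ r) := (isConj_iff.mpr ⟨g, rfl⟩ : IsConj (y ^ r) _).symm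
  exact (h1.trans h2).trans (hτ y).symm

omit [Fintype G] in
theorem tau_of_mem (r : ℕ) (hr2 : Nat.card H ∣ r - 1) (hr : 1 ≤ r)
    (hfus : ∀ x ∈ H, ∀ y ∈ H, IsConj x y → ∃ h ∈ H, h * x * h⁻¹ = y)
    (τ : G → H) (hτ : ∀ y : G, IsConj ((τ y : H) : G) (y ^ r)) (x : H) :
    IsConj (τ (x : G)) x := by
  apply isConj_H_of_isConj hfus
  have := hτ (x : G)
  rwa [pow_eq_self_of_mem_H r hr2 hr (x : G) x.2] at this

omit [Fintype G] in
theorem classFn_of_isConj {θ : H → ℂ} (hθ : IsClassFunction H θ) {a b : H} (hab : IsConj a b) :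
    θ a = θ b := by
  obtain ⟨c, hc⟩ := isConj_iff.mp hab
  rw [← hc]
  exact (hθ a c).symm

omit [Fintype G] in
theorem tilde_classFn (r : ℕ)
    (hfus : ∀ x ∈ H, ∀ y ∈ H, IsConj x y → ∃ h ∈ H, h * x * h⁻¹ = y)
    (τ : G → H) (hτ : ∀ y : G, IsConj ((τ y : H) : G) (y ^ r)) {θ : H → ℂ}
    (hθ : IsClassFunction H θ) : IsClassFunction G (fun y => θ (τ y)) := by
  intro y g
  exact classFn_of_isConj hθ (tau_conj r hfus τ hτ y g)

theorem tilde_res_char (r : ℕ) (hr1 : H.index ∣ r) (hr2 : Nat.card H ∣ r - 1) (hr : 1 ≤ r)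
    (hHall : Nat.Coprime (Nat.card H) H.index)
    (hfus : ∀ x ∈ H, ∀ y ∈ H, IsConj x y → ∃ h ∈ H, h * x * h⁻¹ = y)
    (helem : ∀ (E : Subgroup G) (p : ℕ), p.Prime → IsElementary p E → Nat.card E ∣ Nat.card H →
      ∃ g : G, E.map (MulAut.conj g).toMonoidHom ≤ H)
    (τ : G → H) (hτ : ∀ y : G, IsConj ((τ y : H) : G) (y ^ r)) {θ : H → ℂ}
    (hθ : IsCharacter H θ) (E : Subgroup G) (p : ℕ) (hp : p.Prime) (hEl : IsElementary p E) :
    IsCharacter E (fun e : E => θ (τ (e : G))) := by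
  haveI : Group.IsNilpotent E := IsElementary.nilpotent hp hEl
  set m := H.index with hm
  set n := Nat.card H with hn
  have hcop : m.Coprime n := hHall.symm
  have hEdvd : Nat.card E ∣ m * n := by
    rw [hm, hn, Subgroup.index_mul_card]; exact Subgroup.card_subgroup_dvd_card E
  have hAel := coprimeSub_elementary (E := E) p hp hEl m n r hcop hEdvd hr1 hr2 hr
  set f := powHom (E := E) m n r hcop hEdvd hr1 hr2 hr with hf
  set A' : Subgroup G := (coprimeSub E m).map E.subtype with hA'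
  have hA'el : IsElementary p A' := IsElementary.of_equiv
    ((coprimeSub E m).equivMapOfInjective E.subtype E.subtype_injective) hAel
  have hA'card : Nat.card A' ∣ Nat.card H := by
    rw [← Nat.card_congr
      ((coprimeSub E m).equivMapOfInjective E.subtype E.subtype_injective).toEquiv]
    exact card_coprimeSub_dvd m n hEdvd
  obtain ⟨g, hg⟩ := helem A' p hp hA'el hA'card
  have hmem : ∀ e : E, g * ((e : G) ^ r) * g⁻¹ ∈ H := by
    intro e
    apply hg
    refine ⟨(e : G) ^ r, ⟨(f e : E), (f e).2, rfl⟩, by simp [MulAut.conj_apply]⟩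
  let F : E →* H := MonoidHom.mk' (fun e => ⟨g * ((e : G) ^ r) * g⁻¹, hmem e⟩) (by
    intro a b
    apply Subtype.ext
    have h1 := mul_pow_eq (E := E) m n r hcop hEdvd hr1 hr2 hr a b
    have h2 : (((a * b : E) : G)) ^ r = (a : G) ^ r * (b : G) ^ r := by
      have := congrArg (fun z : E => (z : G)) h1
      simpa using this
    show g * (((a * b : E) : G)) ^ r * g⁻¹ = (g * (a : G) ^ r * g⁻¹) * (g * (b : G) ^ r * g⁻¹)
    rw [h2]; group)
  have hchar := IsCharacter.comp_hom hθ F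
  convert hchar using 1
  funext e
  apply classFn_of_isConj (IsCharacter.isClassFunction hθ)
  apply isConj_H_of_isConj hfus
  exact (hτ e).trans (isConj_iff.mpr ⟨g, rfl⟩)

theorem tilde_genchar (r : ℕ) (hr1 : H.index ∣ r) (hr2 : Nat.card H ∣ r - 1) (hr : 1 ≤ r)
    (hHall : Nat.Coprime (Nat.card H) H.index)
    (hfus : ∀ x ∈ H, ∀ y ∈ H, IsConj x y → ∃ h ∈ H, h * x * h⁻¹ = y)
    (helem : ∀ (E : Subgroup G) (p : ℕ), p.Prime → IsElementary p E → Nat.card E ∣ Nat.card H →
      ∃ g : G, E.map (MulAut.conj g).toMonoidHom ≤ H)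
    (τ : G → H) (hτ : ∀ y : G, IsConj ((τ y : H) : G) (y ^ r)) {θ : H → ℂ}
    (hθ : IsCharacter H θ) : IsGeneralizedCharacter G (fun y => θ (τ y)) := by
  apply brauer_characterization _
    (tilde_classFn r hfus τ hτ (IsCharacter.isClassFunction hθ))
  intro E p hp hEl
  exact IsCharacter.isGeneralizedCharacter
    (tilde_res_char r hr1 hr2 hr hHall hfus helem τ hτ hθ E p hp hEl)

end Tilde

section Count

variable {G : Type u} [Group G] [Fintype G] {H : Subgroup G} [Fintype H]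

open Classical in
/-- the weighted number of elements whose `τ`-image is conjugate to `h` -/
noncomputable def Nc (τ : G → H) (h : H) : ℕ :=
  ∑ y : G, if IsConj (τ y) h then Nat.card (Subgroup.centralizer ({τ y} : Set H)) else 0

open Classical in
theorem Nc_cast (τ : G → H) (h : H) :
    (Nc τ h : ℂ) = ∑ φ ∈ irrFinset H, (∑ y : G, φ (τ y)) * conj (φ h) := by
  unfold Nc
  rw [Nat.cast_sum]
  have h1 : ∀ y : G, ((if IsConj (τ y) h then Nat.card (Subgroup.centralizer ({τ y} : Set H))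
      else 0 : ℕ) : ℂ) = ∑ φ ∈ irrFinset H, φ (τ y) * conj (φ h) := by
    intro y
    rw [second_orthogonality' (τ y) h]
    split_ifs <;> simp
  rw [Finset.sum_congr rfl (fun y _ => h1 y), Finset.sum_comm]
  apply Finset.sum_congr rfl
  intro φ _
  rw [Finset.sum_mul]

theorem card_dvd_Nc (τ : G → H)
    (hL : ∀ φ : H → ℂ, IsIrrCharacter H φ →
      ∃ z : ℤ, (Nat.card G : ℂ)⁻¹ * ∑ y : G, φ (τ y) = z) (h : H) :
    Nat.card G ∣ Nc τ h := by
  apply nat_dvd_of_isIntegral_div _ _ Nat.card_pos.ne'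
  rw [Nc_cast, div_eq_inv_mul, Finset.mul_sum]
  apply IsIntegral.sum
  intro φ hφ
  have hφirr := mem_irrFinset.mp hφ
  obtain ⟨z, hz⟩ := hL φ hφirr
  rw [← mul_assoc, hz]
  apply IsIntegral.mul
  · exact isIntegral_algebraMap (R := ℤ) (A := ℂ) (x := z) |> fun h => by simpa using h
  · exact IsCharacter.isIntegral (IsCharacter.conj (IsIrrCharacter.isCharacter hφirr)) h

open Classical in
theorem Nc_pos (τ : G → H) (hτ' : ∀ x : H, IsConj (τ (x : G)) x) (h : H) : 0 < Nc τ h := by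
  unfold Nc
  have h1 : (if IsConj (τ (h : G)) h then Nat.card (Subgroup.centralizer ({τ (h : G)} : Set H))
      else 0) ≤ ∑ y : G, if IsConj (τ y) h then
        Nat.card (Subgroup.centralizer ({τ y} : Set H)) else 0 :=
    Finset.single_le_sum (f := fun y : G => if IsConj (τ y) h then
        Nat.card (Subgroup.centralizer ({τ y} : Set H)) else 0)
      (fun _ _ => Nat.zero_le _) (Finset.mem_univ (h : G))
  rw [if_pos (hτ' h)] at h1
  exact lt_of_lt_of_le Nat.card_pos h1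

omit [Fintype G] in
open Classical in
theorem sum_ite_isConj (t : H) (c : ℂ) :
    ∑ h : H, (if IsConj t h then c else 0) =
      (Finset.univ.filter (fun x : H => IsConj t x)).card * c := by
  rw [← Finset.sum_filter, Finset.sum_const, nsmul_eq_mul]

omit [Fintype G] in
open Classical in
theorem card_class_H (t : H) :
    (Finset.univ.filter (fun x : H => IsConj t x)).card *
      Nat.card (Subgroup.centralizer ({t} : Set H)) = Nat.card H := by
  have hcc := card_class_mul_card_centralizer t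
  rw [← hcc]
  congr 1
  apply Finset.card_bij (fun x _ => x)
  · intro x hx
    simp only [Finset.mem_filter, Finset.mem_univ, true_and] at hx ⊢
    exact hx.symm
  · intro a _ b _ hab
    exact hab
  · intro b hb
    simp only [Finset.mem_filter, Finset.mem_univ, true_and] at hb
    refine ⟨b, ?_, rfl⟩
    simp only [Finset.mem_filter, Finset.mem_univ, true_and]
    exact hb.symm

open Classical in
theorem sum_Nc (τ : G → H) : ∑ h : H, Nc τ h = Nat.card G * Nat.card H := by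
  have hC : ((∑ h : H, Nc τ h : ℕ) : ℂ) = ((Nat.card G * Nat.card H : ℕ) : ℂ) := by
    unfold Nc
    push_cast
    rw [Finset.sum_comm]
    have h1 : ∀ y : G, ∑ h : H, ((if IsConj (τ y) h then
        (Nat.card (Subgroup.centralizer ({τ y} : Set H)) : ℂ) else 0)) = (Nat.card H : ℂ) := by
      intro y
      rw [sum_ite_isConj, ← Nat.cast_mul, card_class_H]
    rw [Finset.sum_congr rfl (fun y _ => h1 y), Finset.sum_const, nsmul_eq_mul, Finset.card_univ]
    simp only [Nat.card_eq_fintype_card]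
  exact_mod_cast hC

theorem Nc_eq (τ : G → H) (hτ' : ∀ x : H, IsConj (τ (x : G)) x)
    (hL : ∀ φ : H → ℂ, IsIrrCharacter H φ →
      ∃ z : ℤ, (Nat.card G : ℂ)⁻¹ * ∑ y : G, φ (τ y) = z) (h : H) :
    Nc τ h = Nat.card G := by
  have hle : ∀ x ∈ (Finset.univ : Finset H), Nat.card G ≤ Nc τ x := by
    intro x _
    exact Nat.le_of_dvd (Nc_pos τ hτ' x) (card_dvd_Nc τ hL x)
  have hsum : ∑ _x : H, Nat.card G = ∑ x : H, Nc τ x := by
    rw [sum_Nc, Finset.sum_const, smul_eq_mul, Finset.card_univ, Nat.card_eq_fintype_card (α := H),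
      mul_comm]
  exact ((Finset.sum_eq_sum_iff_of_le hle).mp hsum h (Finset.mem_univ h)).symm

open Classical in
theorem sum_tilde (τ : G → H) (hτ' : ∀ x : H, IsConj (τ (x : G)) x)
    (hL : ∀ φ : H → ℂ, IsIrrCharacter H φ →
      ∃ z : ℤ, (Nat.card G : ℂ)⁻¹ * ∑ y : G, φ (τ y) = z)
    (ψ : H → ℂ) (hψ : IsClassFunction H ψ) :
    (∑ y : G, ψ (τ y)) * (Nat.card H : ℂ) = (Nat.card G : ℂ) * ∑ h : H, ψ h := by
  have h1 : (Nat.card G : ℂ) * ∑ h : H, ψ h = ∑ h : H, ψ h * (Nc τ h : ℂ) := by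
    rw [Finset.mul_sum]
    apply Finset.sum_congr rfl
    intro h _
    rw [Nc_eq τ hτ' hL h, mul_comm]
  rw [h1]
  unfold Nc
  have h2 : ∀ h : H, ψ h * ((∑ y : G, if IsConj (τ y) h then
      Nat.card (Subgroup.centralizer ({τ y} : Set H)) else 0 : ℕ) : ℂ) =
      ∑ y : G, (if IsConj (τ y) h then
        ψ (τ y) * (Nat.card (Subgroup.centralizer ({τ y} : Set H)) : ℂ) else 0) := by
    intro h
    rw [Nat.cast_sum, Finset.mul_sum]
    apply Finset.sum_congr rfl
    intro y _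
    by_cases hc : IsConj (τ y) h
    · rw [if_pos hc, if_pos hc, classFn_of_isConj hψ hc]
    · rw [if_neg hc, if_neg hc]; simp
  rw [Finset.sum_congr rfl (fun h _ => h2 h), Finset.sum_comm, Finset.sum_mul]
  apply Finset.sum_congr rfl
  intro y _
  rw [sum_ite_isConj, ← mul_assoc, mul_comm _ (ψ (τ y)), mul_assoc, ← Nat.cast_mul,
    card_class_H]

theorem inner_tilde (τ : G → H) (hτ' : ∀ x : H, IsConj (τ (x : G)) x)
    (hL : ∀ φ : H → ℂ, IsIrrCharacter H φ →
      ∃ z : ℤ, (Nat.card G : ℂ)⁻¹ * ∑ y : G, φ (τ y) = z)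
    (θ φ : H → ℂ) (hθ : IsClassFunction H θ) (hφ : IsClassFunction H φ) :
    classInner (fun y : G => θ (τ y)) (fun y : G => φ (τ y)) = classInner θ φ := by
  rw [classInner_def, classInner_def]
  have hψ : IsClassFunction H (fun h => θ h * conj (φ h)) := by
    intro a b
    show θ _ * conj (φ _) = _
    rw [hθ a b, hφ a b]
  have := sum_tilde τ hτ' hL _ hψ
  have hG : (Nat.card G : ℂ) ≠ 0 := by exact_mod_cast (Nat.card_pos (α := G)).ne'
  have hH : (Nat.card H : ℂ) ≠ 0 := by exact_mod_cast (Nat.card_pos (α := H)).ne'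
  field_simp
  rw [mul_comm, ← this]
  ring

open Classical in
theorem card_fiber_one (τ : G → H) (hτ' : ∀ x : H, IsConj (τ (x : G)) x)
    (hL : ∀ φ : H → ℂ, IsIrrCharacter H φ →
      ∃ z : ℤ, (Nat.card G : ℂ)⁻¹ * ∑ y : G, φ (τ y) = z) :
    (Finset.univ.filter (fun y : G => τ y = 1)).card * Nat.card H = Nat.card G := by
  have h1 := Nc_eq τ hτ' hL 1
  unfold Nc at h1
  rw [← h1, Finset.card_filter, Finset.sum_mul]
  apply Finset.sum_congr rfl
  intro y _
  by_cases hy : τ y = 1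
  · rw [if_pos hy, if_pos (by rw [hy]), one_mul, hy]
    have : Subgroup.centralizer ({(1 : H)} : Set H) = ⊤ := by
      rw [eq_top_iff]
      intro x _
      rw [Subgroup.mem_centralizer_singleton_iff]
      simp
    rw [this, Subgroup.card_top]
  · rw [if_neg hy, if_neg (by rw [isConj_one_left]; exact hy), zero_mul]

end Count

section Final

variable {G : Type u} [Group G] [Fintype G] {H : Subgroup G} [Fintype H]

/-- **Brauer–Suzuki**: a Hall subgroup controlling its own fusion, into which every elementary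
subgroup of suitable order can be conjugated, has a normal complement. -/
theorem hall_complement (hHall : Nat.Coprime (Nat.card H) H.index)
    (hfus : ∀ x ∈ H, ∀ y ∈ H, IsConj x y → ∃ h ∈ H, h * x * h⁻¹ = y)
    (helem : ∀ (E : Subgroup G) (p : ℕ), p.Prime → IsElementary p E → Nat.card E ∣ Nat.card H →
      ∃ g : G, E.map (MulAut.conj g).toMonoidHom ≤ H) :
    ∃ K : Subgroup G, K.Normal ∧ K ⊔ H = ⊤ ∧ K ⊓ H = ⊥ := by
  classical
  set m := H.index with hm
  set n := Nat.card H with hn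
  have hcop : m.Coprime n := hHall.symm
  have hmn : m * n = Nat.card G := Subgroup.index_mul_card H
  have hpos : 0 < m * n := by rw [hmn]; exact Nat.card_pos
  obtain ⟨r, hr1, hr2, hr⟩ := exists_crt_exp m n hcop hpos
  obtain ⟨τ, hτ⟩ := exists_tau H r hr1 helem
  have hτ' := tau_of_mem r hr2 hr hfus τ hτ
  have hgen : ∀ θ : H → ℂ, IsCharacter H θ → IsGeneralizedCharacter G (fun y => θ (τ y)) :=
    fun θ hθ => tilde_genchar r hr1 hr2 hr hHall hfus helem τ hτ hθ
  have hL : ∀ φ : H → ℂ, IsIrrCharacter H φ →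
      ∃ z : ℤ, (Nat.card G : ℂ)⁻¹ * ∑ y : G, φ (τ y) = z := by
    intro φ hφ
    obtain ⟨z, hz⟩ := IsGeneralizedCharacter.classInner_irr_int
      (hgen φ (IsIrrCharacter.isCharacter hφ)) (isIrrCharacter_one (G := G))
    refine ⟨z, ?_⟩
    rw [← hz, classInner_def]
    simp
  have hτ1 : τ 1 = 1 := by
    have := hτ' 1
    rw [isConj_one_left] at this
    simpa using this
  have hirr : ∀ θ : H → ℂ, IsIrrCharacter H θ → IsIrrCharacter G (fun y => θ (τ y)) := by
    intro θ hθ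
    have hcf := IsCharacter.isClassFunction (IsIrrCharacter.isCharacter hθ)
    apply IsGeneralizedCharacter.isIrr_of_norm_one (hgen θ (IsIrrCharacter.isCharacter hθ))
    · rw [inner_tilde τ hτ' hL θ θ hcf hcf]
      exact classInner_irr_self hθ
    · show 0 < (θ (τ 1)).re
      rw [hτ1]
      obtain ⟨d, hd, hd1⟩ := IsIrrCharacter.apply_one hθ
      rw [hd1]
      simpa using hd
  -- kernels
  have hker : ∀ θ : IrrCharacter H, ∃ K : Subgroup G, K.Normal ∧
      ∀ x, x ∈ K ↔ (θ : H → ℂ) (τ x) = (θ : H → ℂ) 1 := by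
    intro θ
    obtain ⟨K, hK, hmem⟩ := exists_ker (IsIrrCharacter.isCharacter (hirr θ.1 θ.2))
    refine ⟨K, hK, fun x => ?_⟩
    rw [hmem x]
    show (θ : H → ℂ) (τ x) = (θ : H → ℂ) (τ 1) ↔ _
    rw [hτ1]
  choose Kθ hKθn hKθm using hker
  set K : Subgroup G := ⨅ θ : IrrCharacter H, Kθ θ with hK
  have hKn : K.Normal := Subgroup.normal_iInf_normal hKθn
  have hKmem : ∀ x : G, x ∈ K ↔ τ x = 1 := by
    intro x
    rw [hK, Subgroup.mem_iInf]
    constructor
    · intro hx
      by_contra hne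
      have h1 := sum_irr_mul_deg (τ x)
      rw [if_neg hne] at h1
      have h2 := sum_irr_mul_deg (1 : H)
      rw [if_pos rfl] at h2
      have h3 : ∑ χ ∈ irrFinset H, χ (τ x) * χ 1 = ∑ χ ∈ irrFinset H, χ 1 * χ 1 := by
        apply Finset.sum_congr rfl
        intro χ hχ
        have : χ (τ x) = χ 1 := (hKθm ⟨χ, mem_irrFinset.mp hχ⟩ x).mp (hx _)
        rw [this]
      rw [h1, h2] at h3
      have : (Nat.card H : ℂ) ≠ 0 := by exact_mod_cast (Nat.card_pos (α := H)).ne'
      exact this h3.symm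
    · intro hx θ
      rw [hKθm θ x, hx]
  have hinf : K ⊓ H = ⊥ := by
    rw [eq_bot_iff]
    intro x hx
    obtain ⟨hxK, hxH⟩ := Subgroup.mem_inf.mp hx
    rw [hKmem] at hxK
    have := hτ' ⟨x, hxH⟩
    rw [show ((⟨x, hxH⟩ : H) : G) = x from rfl, hxK, isConj_one_right] at this
    rw [Subgroup.mem_bot]
    exact congrArg Subtype.val this
  have hcardK : Nat.card K = m := by
    have h1 := card_fiber_one τ hτ' hL
    have h2 : Nat.card K = (Finset.univ.filter (fun y : G => τ y = 1)).card := by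
      rw [Nat.card_congr (Equiv.subtypeEquivRight hKmem), Nat.card_eq_fintype_card,
        Fintype.card_subtype]
    rw [h2]
    rw [← hmn] at h1
    exact Nat.eq_of_mul_eq_mul_right Nat.card_pos h1
  have hcompl : K.IsComplement' H :=
    Subgroup.isComplement'_of_card_mul_and_disjoint (by rw [hcardK, hmn])
      (disjoint_iff.mpr hinf)
  exact ⟨K, hKn, hcompl.sup_eq_top, hinf⟩

end Final

end Cfsg.Agent.Lib.Helper2_HallCompl
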