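import Mathlib
import Cfsg.Prelude.Def_Characters
import Cfsg.Agent.Lib.Helper2_ClassFn
import Cfsg.Agent.Lib.Helper2_CharBasic
import Cfsg.Agent.Lib.Helper2_CharOrtho
import Cfsg.Agent.Lib.Helper2_CharValues
import Cfsg.Agent.Lib.Helper2_CharComplete
import Cfsg.Agent.Lib.Helper2_CharInd
import Cfsg.Agent.Lib.Helper2_CharSum
import Cfsg.Agent.Lib.Helper2_CharInt
import Cfsg.Agent.Lib.Helper2_BrauerThm
import Cfsg.Agent.Lib.Helper2_NilDecomp
import Cfsg.Agent.Lib.Helper2_DefectZero
import Cfsg.Agent.Lib.Helper2_Dade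
import Cfsg.Agent.Lib.Helper2_ModM

set_option autoImplicit false

/-!
# Characters restricted to `p`-regular elements
-/

namespace Cfsg.Agent.Lib.Helper2_PRegular

open Cfsg
open Cfsg.Agent.Lib.Helper2_ClassFn
open Cfsg.Agent.Lib.Helper2_CharBasic
open Cfsg.Agent.Lib.Helper2_CharOrtho
open Cfsg.Agent.Lib.Helper2_CharValues
open Cfsg.Agent.Lib.Helper2_CharComplete
open Cfsg.Agent.Lib.Helper2_CharInd
open Cfsg.Agent.Lib.Helper2_CharSum
open Cfsg.Agent.Lib.Helper2_CharInt
open Cfsg.Agent.Lib.Helper2_BrauerThm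
open Cfsg.Agent.Lib.Helper2_NilDecomp
open Cfsg.Agent.Lib.Helper2_DefectZero
open Cfsg.Agent.Lib.Helper2_Dade
open Cfsg.Agent.Lib.Helper2_ModM
open scoped ComplexConjugate

universe u

section PReg

variable {G : Type u} [Group G] [Fintype G]

/-- A class function with integer coefficients is a generalized character. -/
theorem genchar_of_int {ψ : G → ℂ} (hcf : IsClassFunction G ψ)
    (h : ∀ ν : G → ℂ, IsIrrCharacter G ν → ∃ z : ℤ, classInner ψ ν = z) :
    IsGeneralizedCharacter G ψ := by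
  rw [IsClassFunction.expansion hcf]
  apply IsGeneralizedCharacter.sum
  intro ν hν
  have hνirr := mem_irrFinset.mp hν
  obtain ⟨z, hz⟩ := h ν hνirr
  rw [hz]
  have := IsGeneralizedCharacter.zsmul z (IsIrrCharacter.isGeneralizedCharacter hνirr)
  convert this using 1
  ext x
  simp

/-- the key integrality: a scaled character value at an element centralized by a `p`-group -/
theorem scaled_value_integral (p : ℕ) [hp : Fact p.Prime] {χ : G → ℂ} (hχ : IsIrrCharacter G χ)
    (d : ℕ) (hd : χ 1 = d) (x : G) (c : ℕ)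
    (hc : p ^ c ∣ Nat.card (Subgroup.centralizer ({x} : Set G))) :
    IsIntegral ℤ (((Nat.card G / p ^ (Nat.card G).factorization p : ℕ) : ℂ) *
      ((p ^ ((Nat.card G).factorization p - d.factorization p) : ℕ) : ℂ) * χ x / ((p ^ c : ℕ) : ℂ)) := by
  classical
  set a := (Nat.card G).factorization p with ha
  set b := d.factorization p with hb
  set g' := Nat.card G / p ^ a with hg'
  have hd0 : d ≠ 0 := by
    obtain ⟨n, hn, hn1⟩ := IsIrrCharacter.apply_one hχ
    rw [hd] at hn1
    have : d = n := by exact_mod_cast hn1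
    omega
  have hG : p ^ a * g' = Nat.card G := Nat.ordProj_mul_ordCompl_eq_self (Nat.card G) p
  set d' := d / p ^ b with hd'
  have hdd : p ^ b * d' = d := Nat.ordProj_mul_ordCompl_eq_self d p
  have hdvd : d ∣ Nat.card G := degree_dvd_card hχ d hd
  have hba : b ≤ a := by
    have := (Nat.factorization_le_iff_dvd hd0 Nat.card_pos.ne').mpr hdvd
    exact this p
  obtain ⟨s, hs⟩ := hc
  have hcl := card_class_mul_card_centralizer x
  set cl := (Finset.univ.filter (fun y : G => IsConj y x)).card with hcl_def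
  have hω := isIntegral_omega hχ x
  rw [← hcl_def, hd] at hω
  have hp0 : (p : ℂ) ≠ 0 := by exact_mod_cast hp.1.ne_zero
  have hd0' : (d : ℂ) ≠ 0 := by exact_mod_cast hd0
  have key : ((g' : ℕ) : ℂ) * ((p ^ (a - b) : ℕ) : ℂ) * χ x / ((p ^ c : ℕ) : ℂ) =
      ((cl : ℂ) * χ x / (d : ℂ)) * ((d' * s : ℕ) : ℂ) := by
    have e1 : (cl : ℂ) * ((p : ℂ) ^ c * (s : ℂ)) = (p : ℂ) ^ a * (g' : ℂ) := by
      have : cl * (p ^ c * s) = p ^ a * g' := by rw [← hs, hcl, hG]
      exact_mod_cast this
    have e2 : (p : ℂ) ^ b * (d' : ℂ) = (d : ℂ) := by exact_mod_cast hdd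
    have e3 : (p : ℂ) ^ a = (p : ℂ) ^ (a - b) * (p : ℂ) ^ b := by
      rw [← pow_add, Nat.sub_add_cancel hba]
    push_cast
    rw [← e2]
    have hpb : (p : ℂ) ^ b ≠ 0 := pow_ne_zero _ hp0
    have hpc : (p : ℂ) ^ c ≠ 0 := pow_ne_zero _ hp0
    have hd'0 : (d' : ℂ) ≠ 0 := by
      intro h0
      rw [h0, mul_zero] at e2
      exact hd0' e2.symm
    rw [e3] at e1
    field_simp
    linear_combination (-(χ x)) * e1
  rw [key]
  exact IsIntegral.mul hω (isIntegral_algebraMap (R := ℤ) (A := ℂ) (x := ((d' * s : ℕ) : ℤ)) |>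
    fun h => by simpa using h)

open Classical in
theorem pregular_key (p : ℕ) [hp : Fact p.Prime] {χ : G → ℂ} (hχ : IsIrrCharacter G χ)
    (d : ℕ) (hd : χ 1 = d) (E : Subgroup G) [Fintype E] [Group.IsNilpotent E] (ν : E → ℂ)
    (hν : IsIrrCharacter E ν) :
    ∃ z : ℤ, classInner (fun e : E => if p ∣ orderOf (e : G) then (0 : ℂ) else
      ((p ^ ((Nat.card G).factorization p - d.factorization p) : ℕ) : ℂ) * χ e) ν = z := by
  obtain ⟨P, Q, hcard, hQp, hQmem, hcomm⟩ := nilpotent_p_decomp (E := E) p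
  set a := (Nat.card G).factorization p with ha
  set b := d.factorization p with hb
  set g' := Nat.card G / p ^ a with hg'
  have hG : p ^ a * g' = Nat.card G := Nat.ordProj_mul_ordCompl_eq_self (Nat.card G) p
  obtain ⟨c, hc⟩ := IsPGroup.iff_card.mp P.2
  haveI : Fintype Q := Fintype.ofFinite Q
  have hχQ : IsCharacter Q (fun q : Q => χ ((q : E) : G)) :=
    IsCharacter.restrict (IsCharacter.restrict (IsIrrCharacter.isCharacter hχ) E) Q
  have hνQ : IsCharacter Q (fun q : Q => ν q) :=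
    IsCharacter.restrict (IsIrrCharacter.isCharacter hν) Q
  obtain ⟨k, hk⟩ := IsCharacter.classInner_nat hχQ hνQ
  have hQ0 : (Nat.card Q : ℂ) ≠ 0 := by exact_mod_cast (Nat.card_pos (α := Q)).ne'
  have hk' : ∑ q : Q, χ ((q : E) : G) * conj (ν q) = (Nat.card Q : ℂ) * k := by
    rw [classInner_def] at hk
    rw [← hk, ← mul_assoc, mul_inv_cancel₀ hQ0, one_mul]
  -- the sum over `E`
  have hsum : ∑ e : E, (if p ∣ orderOf (e : G) then (0 : ℂ) else
      ((p ^ (a - b) : ℕ) : ℂ) * χ e) * conj (ν e) =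
      ((p ^ (a - b) : ℕ) : ℂ) * ((Nat.card Q : ℂ) * k) := by
    have h1 : ∀ e : E, (if p ∣ orderOf (e : G) then (0 : ℂ) else
        ((p ^ (a - b) : ℕ) : ℂ) * χ e) * conj (ν e) =
        if e ∈ Q then ((p ^ (a - b) : ℕ) : ℂ) * (χ e * conj (ν e)) else 0 := by
      intro e
      rw [Subgroup.orderOf_coe]
      by_cases he : e ∈ Q
      · rw [if_pos he, if_neg ((hQmem e).mp he)]; ring
      · rw [if_neg he, if_pos (by by_contra h; exact he ((hQmem e).mpr h))]; ring
    rw [Finset.sum_congr rfl (fun e _ => h1 e),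
      ← sum_subgroup_eq Q (fun e => ((p ^ (a - b) : ℕ) : ℂ) * (χ e * conj (ν e))),
      ← Finset.mul_sum, hk']
  -- divisibility
  have hdvd : p ^ c ∣ p ^ (a - b) * k := by
    have hint : ∀ q : Q, IsIntegral ℤ (((g' : ℕ) : ℂ) * ((p ^ (a - b) : ℕ) : ℂ) *
        χ ((q : E) : G) / ((p ^ c : ℕ) : ℂ)) := by
      intro q
      apply scaled_value_integral p hχ d hd
      rw [← hc]
      let f : (P : Subgroup E) →* Subgroup.centralizer ({((q : E) : G)} : Set G) :=
        (E.subtype.comp (P : Subgroup E).subtype).codRestrict _ (by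
          intro u
          rw [Subgroup.mem_centralizer_singleton_iff]
          have := hcomm u u.2 q q.2
          have h2 := congrArg (fun z : E => (z : G)) this
          simpa using h2)
      apply Subgroup.card_dvd_of_injective f
      intro u v huv
      have := congrArg (fun z : Subgroup.centralizer ({((q : E) : G)} : Set G) => (z : G)) huv
      apply Subtype.ext
      apply Subtype.ext
      simpa [f] using this
    have hβ : IsIntegral ℤ (∑ q : Q, (((g' : ℕ) : ℂ) * ((p ^ (a - b) : ℕ) : ℂ) *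
        χ ((q : E) : G) / ((p ^ c : ℕ) : ℂ)) * conj (ν q)) := by
      apply IsIntegral.sum
      intro q _
      exact IsIntegral.mul (hint q)
        (IsCharacter.isIntegral (IsCharacter.conj (IsIrrCharacter.isCharacter hν)) q)
    have hpc0 : ((p ^ c : ℕ) : ℂ) ≠ 0 := by
      exact_mod_cast (pow_pos hp.1.pos c).ne'
    have heq : ∑ q : Q, (((g' : ℕ) : ℂ) * ((p ^ (a - b) : ℕ) : ℂ) *
        χ ((q : E) : G) / ((p ^ c : ℕ) : ℂ)) * conj (ν q) =
        ((g' * p ^ (a - b) * Nat.card Q * k : ℕ) : ℂ) / ((p ^ c : ℕ) : ℂ) := by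
      have : ∀ q : Q, (((g' : ℕ) : ℂ) * ((p ^ (a - b) : ℕ) : ℂ) *
          χ ((q : E) : G) / ((p ^ c : ℕ) : ℂ)) * conj (ν q) =
          (((g' : ℕ) : ℂ) * ((p ^ (a - b) : ℕ) : ℂ) / ((p ^ c : ℕ) : ℂ)) *
          (χ ((q : E) : G) * conj (ν q)) := by
        intro q; ring
      rw [Finset.sum_congr rfl (fun q _ => this q), ← Finset.mul_sum, hk']
      push_cast
      ring
    rw [heq] at hβ
    have h1 := nat_dvd_of_isIntegral_div _ _ (pow_pos hp.1.pos c).ne' hβ
    have hcop : (p ^ c).Coprime (g' * Nat.card Q) := by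
      apply Nat.Coprime.pow_left
      apply Nat.Coprime.mul_right
      · exact Nat.coprime_ordCompl hp.1 Nat.card_pos.ne'
      · exact (Nat.Prime.coprime_iff_not_dvd hp.1).mpr hQp
    have h2 : g' * p ^ (a - b) * Nat.card Q * k = (g' * Nat.card Q) * (p ^ (a - b) * k) := by ring
    rw [h2] at h1
    exact hcop.dvd_of_dvd_mul_left h1
  obtain ⟨z, hz⟩ := hdvd
  refine ⟨(z : ℤ), ?_⟩
  rw [classInner_def, hsum]
  have hE : (Nat.card E : ℂ) = ((p ^ c : ℕ) : ℂ) * (Nat.card Q : ℂ) := by
    rw [← hcard, hc]; push_cast; ring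
  have hpc0 : ((p ^ c : ℕ) : ℂ) ≠ 0 := by
    exact_mod_cast (pow_pos hp.1.pos c).ne'
  have hz' : ((p ^ (a - b) : ℕ) : ℂ) * (k : ℂ) = ((p ^ c : ℕ) : ℂ) * (z : ℂ) := by
    exact_mod_cast hz
  rw [hE, show ((p ^ (a - b) : ℕ) : ℂ) * ((Nat.card Q : ℂ) * k) =
    (((p ^ c : ℕ) : ℂ) * (Nat.card Q : ℂ)) * (z : ℂ) by
      rw [mul_comm (Nat.card Q : ℂ) (k : ℂ), ← mul_assoc, hz']; ring]
  rw [← mul_assoc, inv_mul_cancel₀ (mul_ne_zero hpc0 hQ0), one_mul]
  simp

open Classical in
/-- `p^(a-b) χ` on `p`-regular elements is a generalized character. -/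
theorem pregular_genchar (p : ℕ) [hp : Fact p.Prime] {χ : G → ℂ} (hχ : IsIrrCharacter G χ)
    (d : ℕ) (hd : χ 1 = d) :
    IsGeneralizedCharacter G (fun x : G => if p ∣ orderOf x then (0 : ℂ) else
      ((p ^ ((Nat.card G).factorization p - d.factorization p) : ℕ) : ℂ) * χ x) := by
  have hcfχ := IsCharacter.isClassFunction (IsIrrCharacter.isCharacter hχ)
  have hord : ∀ x h : G, orderOf (h * x * h⁻¹) = orderOf x := by
    intro x h
    have := orderOf_injective (MulAut.conj h).toMonoidHom (MulAut.conj h).injective x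
    simpa using this
  apply brauer_characterization
  · intro x h
    show (if p ∣ orderOf (h * x * h⁻¹) then (0 : ℂ) else _ * χ (h * x * h⁻¹)) = _
    rw [hord x h, hcfχ x h]
  · intro E q hq hEl
    haveI : Group.IsNilpotent E := IsElementary.nilpotent hq hEl
    haveI : Fintype E := Fintype.ofFinite E
    apply genchar_of_int
    · intro e h
      show (if p ∣ orderOf (((h * e * h⁻¹ : E)) : G) then (0 : ℂ) else
        _ * χ ((h * e * h⁻¹ : E) : G)) = _
      have h1 : (((h * e * h⁻¹ : E)) : G) = (h : G) * (e : G) * (h : G)⁻¹ := by simp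
      rw [h1, hord, hcfχ]
    · intro ν hν
      exact pregular_key p hχ d hd E ν hν

open Classical in
/-- A generalized character vanishing on nonidentity `p`-elements has degree divisible by the
order of a Sylow `p`-subgroup. -/
theorem not_pregular_genchar (p : ℕ) [hp : Fact p.Prime] {χ : G → ℂ} (hχ : IsIrrCharacter G χ)
    (d : ℕ) (hd : χ 1 = d) :
    ¬ IsGeneralizedCharacter G (fun x : G => if p ∣ orderOf x then (0 : ℂ) else
      ((p ^ (Nat.card G).factorization p : ℕ) : ℂ) / ((p ^ (d.factorization p + 1) : ℕ) : ℂ) *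
        χ x) := by
  intro h
  have hd0 : d ≠ 0 := by
    obtain ⟨n, hn, hn1⟩ := IsIrrCharacter.apply_one hχ
    rw [hd] at hn1
    have : d = n := by exact_mod_cast hn1
    omega
  obtain S : Sylow p G := default
  haveI : Fintype (S : Subgroup G) := Fintype.ofFinite _
  have hS := IsGeneralizedCharacter.restrict h (S : Subgroup G)
  obtain ⟨z, hz⟩ := IsGeneralizedCharacter.classInner_irr_int hS
    (isIrrCharacter_one (G := (S : Subgroup G)))
  rw [classInner_def] at hz
  have hcardS : Nat.card (S : Subgroup G) = p ^ (Nat.card G).factorization p :=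
    Sylow.card_eq_multiplicity S
  have hsum : ∑ s : (S : Subgroup G), (if p ∣ orderOf ((s : G)) then (0 : ℂ) else
      ((p ^ (Nat.card G).factorization p : ℕ) : ℂ) / ((p ^ (d.factorization p + 1) : ℕ) : ℂ) *
        χ s) * conj ((1 : ℂ)) =
      ((p ^ (Nat.card G).factorization p : ℕ) : ℂ) / ((p ^ (d.factorization p + 1) : ℕ) : ℂ) *
        d := by
    rw [Finset.sum_eq_single (1 : (S : Subgroup G))]
    · simp only [Subgroup.coe_one, orderOf_one, map_one, mul_one]
      rw [if_neg (by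
        intro h1
        exact hp.1.one_lt.ne' (Nat.dvd_one.mp h1)), hd]
    · intro s _ hs
      have : p ∣ orderOf (s : G) := by
        rw [Subgroup.orderOf_coe]
        obtain ⟨j, hj⟩ := (IsPGroup.iff_orderOf.mp S.2) s
        rw [hj]
        have hj0 : j ≠ 0 := by
          intro h0
          rw [h0, pow_zero, orderOf_eq_one_iff] at hj
          exact hs hj
        exact dvd_pow_self p hj0
      rw [if_pos this, zero_mul]
    · intro h1
      exact absurd (Finset.mem_univ _) h1
  rw [hsum, hcardS] at hz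
  have hp0 : (p : ℂ) ≠ 0 := by exact_mod_cast hp.1.ne_zero
  have h2 : ((d : ℕ) : ℂ) / ((p ^ (d.factorization p + 1) : ℕ) : ℂ) = z := by
    rw [← hz]
    push_cast
    have := pow_ne_zero ((Nat.card G).factorization p) hp0
    field_simp
  have h3 : IsIntegral ℤ (((d : ℕ) : ℂ) / ((p ^ (d.factorization p + 1) : ℕ) : ℂ)) := by
    rw [h2]
    exact isIntegral_algebraMap (R := ℤ) (A := ℂ) (x := z) |> fun h => by simpa using h
  have h4 := nat_dvd_of_isIntegral_div _ _ (pow_pos hp.1.pos _).ne' h3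
  exact Nat.pow_succ_factorization_not_dvd hd0 hp.1 h4

end PReg

end Cfsg.Agent.Lib.Helper2_PRegular
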