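import Mathlib

set_option autoImplicit false

/-!
# Groups with a self-centralizing element of prime order
-/

namespace Cfsg.Agent.Lib.Helper2_SelfCent

open scoped commutatorElement

variable {G : Type*} [Group G] [Finite G]

section Basic

variable (p : ℕ) [hp : Fact p.Prime] (x : G) (hx : orderOf x = p)

include hx

omit [Finite G] hp in
theorem card_P : Nat.card (Subgroup.zpowers x) = p := by rw [Nat.card_zpowers, hx]

omit [Finite G] in
theorem x_ne_one : x ≠ 1 := by
  intro h
  rw [h, orderOf_one] at hx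
  exact hp.1.one_lt.ne' hx.symm

omit [Finite G] in
theorem orderOf_of_mem {y : G} (hy : y ∈ Subgroup.zpowers x) (hy1 : y ≠ 1) : orderOf y = p := by
  have h1 : orderOf y ∣ p := by
    rw [← hx]; exact orderOf_dvd_of_mem_zpowers hy
  rcases (Nat.dvd_prime hp.1).mp h1 with h | h
  · exact absurd (orderOf_eq_one_iff.mp h) hy1
  · exact h

theorem zpowers_eq_of_mem {y : G} (hy : y ∈ Subgroup.zpowers x) (hy1 : y ≠ 1) :
    Subgroup.zpowers y = Subgroup.zpowers x := by
  apply Subgroup.eq_of_le_of_card_ge (Subgroup.zpowers_le.mpr hy)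
  rw [Nat.card_zpowers, Nat.card_zpowers, hx, orderOf_of_mem p x hx hy hy1]

variable (hC : Subgroup.centralizer ({x} : Set G) = Subgroup.zpowers x)

include hC

theorem centralizer_of_mem {y : G} (hy : y ∈ Subgroup.zpowers x) (hy1 : y ≠ 1) :
    Subgroup.centralizer ({y} : Set G) = Subgroup.zpowers x := by
  ext g
  rw [Subgroup.mem_centralizer_singleton_iff]
  constructor
  · intro hg
    rw [← hC, Subgroup.mem_centralizer_singleton_iff]
    have hxy : x ∈ Subgroup.zpowers y := by
      rw [zpowers_eq_of_mem p x hx hy hy1]; exact Subgroup.mem_zpowers x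
    obtain ⟨k, hk⟩ := Subgroup.mem_zpowers_iff.mp hxy
    rw [← hk]
    exact ((Commute.zpow_right (show Commute g y from hg) k)).eq
  · intro hg
    obtain ⟨i, hi⟩ := Subgroup.mem_zpowers_iff.mp hg
    obtain ⟨j, hj⟩ := Subgroup.mem_zpowers_iff.mp hy
    rw [← hi, ← hj, ← zpow_add, ← zpow_add, add_comm]

/-- `⟨x⟩` is a Sylow `p`-subgroup. -/
theorem exists_sylow_eq : ∃ S : Sylow p G, (S : Subgroup G) = Subgroup.zpowers x := by
  have hPg : IsPGroup p (Subgroup.zpowers x) :=
    IsPGroup.of_card (n := 1) (by rw [card_P p x hx, pow_one])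
  obtain ⟨S, hS⟩ := IsPGroup.exists_le_sylow hPg
  refine ⟨S, le_antisymm ?_ hS⟩
  have hxS : x ∈ (S : Subgroup G) := hS (Subgroup.mem_zpowers x)
  haveI : Nontrivial (S : Subgroup G) := by
    refine ⟨⟨⟨x, hxS⟩, 1, ?_⟩⟩
    intro h
    exact x_ne_one p x hx (congrArg Subtype.val h)
  haveI := IsPGroup.center_nontrivial S.2
  obtain ⟨z, hz⟩ := exists_ne (1 : Subgroup.center (S : Subgroup G))
  have hzc := z.2
  rw [Subgroup.mem_center_iff] at hzc
  have hz1 : ((z : (S : Subgroup G)) : G) ≠ 1 := by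
    intro h
    apply hz
    apply Subtype.ext
    apply Subtype.ext
    exact h
  have hzx : ((z : (S : Subgroup G)) : G) ∈ Subgroup.zpowers x := by
    rw [← hC, Subgroup.mem_centralizer_singleton_iff]
    have := hzc ⟨x, hxS⟩
    exact (congrArg Subtype.val this).symm
  have hxz : x ∈ Subgroup.zpowers ((z : (S : Subgroup G)) : G) := by
    rw [zpowers_eq_of_mem p x hx hzx hz1]; exact Subgroup.mem_zpowers x
  obtain ⟨k, hk⟩ := Subgroup.mem_zpowers_iff.mp hxz
  intro s hs
  rw [← hC, Subgroup.mem_centralizer_singleton_iff]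
  have h1 := hzc ⟨s, hs⟩
  have h2 : s * ((z : (S : Subgroup G)) : G) = ((z : (S : Subgroup G)) : G) * s :=
    congrArg Subtype.val h1
  rw [← hk]
  exact ((Commute.zpow_right (show Commute s _ from h2) k)).eq

omit hC in
/-- Conjugating a nontrivial element of `P` into `P` normalizes `P`. -/
theorem mem_normalizer_of_conj {y g : G} (hy : y ∈ Subgroup.zpowers x) (hy1 : y ≠ 1)
    (hg : g * y * g⁻¹ ∈ Subgroup.zpowers x) :
    g ∈ Subgroup.normalizer ((Subgroup.zpowers x : Subgroup G) : Set G) := by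
  apply Subgroup.mem_normalizer_fintype
  intro n hn
  have hn' : n ∈ Subgroup.zpowers y := by
    rw [zpowers_eq_of_mem p x hx hy hy1]; exact hn
  obtain ⟨k, hk⟩ := Subgroup.mem_zpowers_iff.mp hn'
  rw [← hk]
  have : g * y ^ k * g⁻¹ = (g * y * g⁻¹) ^ k := by
    rw [conj_zpow]
  rw [this]
  exact Subgroup.zpow_mem _ hg k

end Basic

section Count

variable (p : ℕ) [hp : Fact p.Prime] (x : G) (hx : orderOf x = p)
  (hC : Subgroup.centralizer ({x} : Set G) = Subgroup.zpowers x)

include hx hC

/-- the map from nonidentity elements of `P` to classes of elements of order `p` -/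
def toClass (y : {y : G // y ∈ Subgroup.zpowers x ∧ y ≠ 1}) :
    {C : ConjClasses G // ∃ g ∈ C.carrier, orderOf g = p} :=
  ⟨ConjClasses.mk y.1, y.1, ConjClasses.mem_carrier_mk, orderOf_of_mem p x hx y.2.1 y.2.2⟩

theorem toClass_surjective : Function.Surjective (toClass p x hx) := by
  rintro ⟨C, g, hgC, hg⟩
  obtain ⟨S, hS⟩ := exists_sylow_eq p x hx hC
  have hPg : IsPGroup p (Subgroup.zpowers g) :=
    IsPGroup.of_card (n := 1) (by rw [Nat.card_zpowers, hg, pow_one])
  obtain ⟨S', hS'⟩ := IsPGroup.exists_le_sylow hPg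
  obtain ⟨h, hh⟩ := MulAction.exists_smul_eq G S' S
  have hmem : h * g * h⁻¹ ∈ Subgroup.zpowers x := by
    rw [← hS, ← hh]
    have h1 : g ∈ (S' : Subgroup G) := hS' (Subgroup.mem_zpowers g)
    rw [Sylow.coe_subgroup_smul]
    have := Subgroup.smul_mem_pointwise_smul g (MulAut.conj h) (S' : Subgroup G) h1
    simpa [MulAut.smul_def] using this
  have hne : h * g * h⁻¹ ≠ 1 := by
    intro h1
    have : g = 1 := by
      have h2 : g = h⁻¹ * (h * g * h⁻¹) * h := by group
      rw [h2, h1]; group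
    rw [this, orderOf_one] at hg
    exact hp.1.one_lt.ne' hg.symm
  refine ⟨⟨h * g * h⁻¹, hmem, hne⟩, ?_⟩
  apply Subtype.ext
  show ConjClasses.mk (h * g * h⁻¹) = C
  rw [← ConjClasses.mem_carrier_iff_mk_eq.mp hgC, ConjClasses.mk_eq_mk_iff_isConj]
  exact (isConj_iff.mpr ⟨h, rfl⟩ : IsConj g (h * g * h⁻¹)).symm

/-- each fiber of `toClass` has at least `[N : P]` elements -/
theorem le_card_fiber (y0 : {y : G // y ∈ Subgroup.zpowers x ∧ y ≠ 1}) :
    (Subgroup.zpowers x).relIndex (Subgroup.normalizer ((Subgroup.zpowers x : Subgroup G) : Set G)) ≤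
      Nat.card {y : {y : G // y ∈ Subgroup.zpowers x ∧ y ≠ 1} //
        toClass p x hx y = toClass p x hx y0} := by
  have hconj_mem : ∀ n : (Subgroup.normalizer ((Subgroup.zpowers x : Subgroup G) : Set G)), (n : G) * y0.1 * (n : G)⁻¹ ∈ (Subgroup.zpowers x) := by
    intro n
    exact (Subgroup.mem_normalizer_iff.mp n.2 y0.1).mp y0.2.1
  have hconj_ne : ∀ n : (Subgroup.normalizer ((Subgroup.zpowers x : Subgroup G) : Set G)), (n : G) * y0.1 * (n : G)⁻¹ ≠ 1 := by
    intro n h1
    have : y0.1 = 1 := by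
      have h2 : y0.1 = (n : G)⁻¹ * ((n : G) * y0.1 * (n : G)⁻¹) * (n : G) := by group
      rw [h2, h1]; group
    exact y0.2.2 this
  let f0 : (Subgroup.normalizer ((Subgroup.zpowers x : Subgroup G) : Set G)) → {y : {y : G // y ∈ Subgroup.zpowers x ∧ y ≠ 1} //
      toClass p x hx y = toClass p x hx y0} := fun n =>
    ⟨⟨(n : G) * y0.1 * (n : G)⁻¹, hconj_mem n, hconj_ne n⟩, by
      apply Subtype.ext
      show ConjClasses.mk ((n : G) * y0.1 * (n : G)⁻¹) = ConjClasses.mk y0.1
      rw [ConjClasses.mk_eq_mk_iff_isConj]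
      exact (isConj_iff.mpr ⟨(n : G), rfl⟩ : IsConj y0.1 _).symm⟩
  have hcomm : ∀ c ∈ (Subgroup.zpowers x), c * y0.1 * c⁻¹ = y0.1 := by
    intro c hc
    obtain ⟨i, hi⟩ := Subgroup.mem_zpowers_iff.mp hc
    obtain ⟨j, hj⟩ := Subgroup.mem_zpowers_iff.mp y0.2.1
    rw [← hi, ← hj, ← zpow_add, ← zpow_neg, ← zpow_add]
    congr 1
    ring
  have hwd : ∀ a b : (Subgroup.normalizer ((Subgroup.zpowers x : Subgroup G) : Set G)), (QuotientGroup.leftRel ((Subgroup.zpowers x).subgroupOf (Subgroup.normalizer ((Subgroup.zpowers x : Subgroup G) : Set G)))) a b → f0 a = f0 b := by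
    intro a b hab
    rw [QuotientGroup.leftRel_apply, Subgroup.mem_subgroupOf] at hab
    apply Subtype.ext
    apply Subtype.ext
    show (a : G) * y0.1 * (a : G)⁻¹ = (b : G) * y0.1 * (b : G)⁻¹
    have h1 := hcomm _ hab
    have h2 : ((a⁻¹ * b : (Subgroup.normalizer ((Subgroup.zpowers x : Subgroup G) : Set G))) : G) = (a : G)⁻¹ * (b : G) := by simp
    rw [h2] at h1
    have h3 : (b : G) * y0.1 * (b : G)⁻¹ =
        (a : G) * (((a : G)⁻¹ * (b : G)) * y0.1 * ((a : G)⁻¹ * (b : G))⁻¹) * (a : G)⁻¹ := by group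
    rw [h3, h1]
  let f : (Subgroup.normalizer ((Subgroup.zpowers x : Subgroup G) : Set G)) ⧸ ((Subgroup.zpowers x).subgroupOf (Subgroup.normalizer ((Subgroup.zpowers x : Subgroup G) : Set G))) → {y : {y : G // y ∈ Subgroup.zpowers x ∧ y ≠ 1} //
      toClass p x hx y = toClass p x hx y0} := fun q => Quotient.liftOn' q f0 hwd
  have hinj : Function.Injective f := by
    intro q1 q2
    induction q1 using Quotient.inductionOn' with | h a => ?_
    induction q2 using Quotient.inductionOn' with | h b => ?_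
    intro hab
    have h1 : (a : G) * y0.1 * (a : G)⁻¹ = (b : G) * y0.1 * (b : G)⁻¹ := by
      have := congrArg (fun z => (z.1.1 : G)) hab
      exact this
    apply Quotient.sound'
    rw [QuotientGroup.leftRel_apply, Subgroup.mem_subgroupOf]
    have h2 : ((a⁻¹ * b : (Subgroup.normalizer ((Subgroup.zpowers x : Subgroup G) : Set G))) : G) = (a : G)⁻¹ * (b : G) := by simp
    rw [h2]
    have hcent := centralizer_of_mem p x hx hC y0.2.1 y0.2.2
    have h3 : (a : G)⁻¹ * (b : G) ∈ Subgroup.centralizer ({y0.1} : Set G) := by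
      rw [Subgroup.mem_centralizer_singleton_iff]
      have h4 : (a : G)⁻¹ * (b : G) * y0.1 =
          (a : G)⁻¹ * ((b : G) * y0.1 * (b : G)⁻¹) * (b : G) := by group
      rw [h4, ← h1]
      group
    rw [hcent] at h3
    exact h3
  have := Nat.card_le_card_of_injective f hinj
  rw [Subgroup.relIndex, Subgroup.index]
  exact this

/-- `t · [N : P] ≤ p - 1`. -/
theorem card_classes_mul_le :
    Nat.card {C : ConjClasses G // ∃ g ∈ C.carrier, orderOf g = p} *
      (Subgroup.zpowers x).relIndex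
        (Subgroup.normalizer ((Subgroup.zpowers x : Subgroup G) : Set G)) ≤ p - 1 := by
  classical
  set e := (Subgroup.zpowers x).relIndex
    (Subgroup.normalizer ((Subgroup.zpowers x : Subgroup G) : Set G)) with he
  haveI : Fintype {C : ConjClasses G // ∃ g ∈ C.carrier, orderOf g = p} := Fintype.ofFinite _
  have hX : Nat.card {y : G // y ∈ Subgroup.zpowers x ∧ y ≠ 1} = p - 1 := by
    have h1 : {y : G | y ∈ Subgroup.zpowers x ∧ y ≠ 1} =
        ((Subgroup.zpowers x : Subgroup G) : Set G) \ {1} := by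
      ext y; simp
    show Nat.card ↥{y : G | y ∈ Subgroup.zpowers x ∧ y ≠ 1} = p - 1
    rw [h1, Nat.card_coe_set_eq, Set.ncard_sdiff_singleton_of_mem (Subgroup.one_mem _),
      ← Nat.card_coe_set_eq]
    show Nat.card (Subgroup.zpowers x) - 1 = p - 1
    rw [card_P p x hx]
  rw [← hX, ← Nat.card_congr (Equiv.sigmaFiberEquiv (toClass p x hx)), Nat.card_sigma]
  have hfib : ∀ C : {C : ConjClasses G // ∃ g ∈ C.carrier, orderOf g = p},
      e ≤ Nat.card {y : {y : G // y ∈ Subgroup.zpowers x ∧ y ≠ 1} // toClass p x hx y = C} := by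
    intro C
    obtain ⟨y0, rfl⟩ := toClass_surjective p x hx hC C
    exact le_card_fiber p x hx hC y0
  calc Nat.card {C : ConjClasses G // ∃ g ∈ C.carrier, orderOf g = p} * e
      = ∑ _C : {C : ConjClasses G // ∃ g ∈ C.carrier, orderOf g = p}, e := by
        rw [Finset.sum_const, smul_eq_mul, Finset.card_univ, Nat.card_eq_fintype_card]
    _ ≤ _ := Finset.sum_le_sum (fun C _ => hfib C)

end Count

section Main

variable (p : ℕ) [hp : Fact p.Prime] (x : G) (hx : orderOf x = p)
  (hC : Subgroup.centralizer ({x} : Set G) = Subgroup.zpowers x)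

include hx hC

omit [Finite G] hp hC in
theorem card_X : Nat.card {y : G // y ∈ Subgroup.zpowers x ∧ y ≠ 1} = p - 1 := by
  have h1 : {y : G | y ∈ Subgroup.zpowers x ∧ y ≠ 1} =
      ((Subgroup.zpowers x : Subgroup G) : Set G) \ {1} := by
    ext y; simp
  show Nat.card ↥{y : G | y ∈ Subgroup.zpowers x ∧ y ≠ 1} = p - 1
  rw [h1, Nat.card_coe_set_eq, Set.ncard_sdiff_singleton_of_mem (Subgroup.one_mem _),
    ← Nat.card_coe_set_eq]
  show Nat.card (Subgroup.zpowers x) - 1 = p - 1
  rw [card_P p x hx]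

/-- If `N = P`, the classes of elements of order `p` are in bijection with `P ∖ {1}`. -/
theorem card_classes_of_normalizer_le
    (hN : Subgroup.normalizer ((Subgroup.zpowers x : Subgroup G) : Set G) ≤ Subgroup.zpowers x) :
    Nat.card {C : ConjClasses G // ∃ g ∈ C.carrier, orderOf g = p} = p - 1 := by
  rw [← card_X p x hx]
  symm
  apply Nat.card_congr
  apply Equiv.ofBijective (toClass p x hx)
  refine ⟨?_, toClass_surjective p x hx hC⟩
  intro y y' hyy'
  have h1 : ConjClasses.mk y.1 = ConjClasses.mk y'.1 := congrArg Subtype.val hyy'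
  rw [ConjClasses.mk_eq_mk_iff_isConj] at h1
  obtain ⟨g, hg⟩ := isConj_iff.mp h1
  have hgN : g ∈ Subgroup.normalizer ((Subgroup.zpowers x : Subgroup G) : Set G) :=
    mem_normalizer_of_conj p x hx y.2.1 y.2.2 (by rw [hg]; exact y'.2.1)
  have hgP := hN hgN
  apply Subtype.ext
  rw [← hg]
  obtain ⟨i, hi⟩ := Subgroup.mem_zpowers_iff.mp hgP
  obtain ⟨j, hj⟩ := Subgroup.mem_zpowers_iff.mp y.2.1
  rw [← hi, ← hj, ← zpow_add, ← zpow_neg, ← zpow_add]
  congr 1
  ring

/-- Burnside: if `N = P` then `G'` has index `p`. -/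
theorem index_commutator_of_normalizer_le
    (hN : Subgroup.normalizer ((Subgroup.zpowers x : Subgroup G) : Set G) ≤ Subgroup.zpowers x) :
    (commutator G).index = p := by
  obtain ⟨S, hS⟩ := exists_sylow_eq p x hx hC
  have hcommP : ∀ a ∈ Subgroup.zpowers x, ∀ b ∈ Subgroup.zpowers x, a * b = b * a := by
    intro a ha b hb
    obtain ⟨i, hi⟩ := Subgroup.mem_zpowers_iff.mp ha
    obtain ⟨j, hj⟩ := Subgroup.mem_zpowers_iff.mp hb
    rw [← hi, ← hj, ← zpow_add, ← zpow_add, add_comm]
  have hP : Subgroup.normalizer ((S : Subgroup G) : Set G) ≤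
      Subgroup.centralizer ((S : Subgroup G) : Set G) := by
    rw [hS]
    intro g hg
    have hgP := hN hg
    rw [Subgroup.mem_centralizer_iff]
    intro h hh
    exact hcommP h hh g hgP
  have hcompl := MonoidHom.ker_transferSylow_isComplement' S hP
  set K := (MonoidHom.transferSylow S hP).ker with hK
  haveI hKn : K.Normal := MonoidHom.normal_ker _
  -- `G' ≤ K`
  have h1 : commutator G ≤ K := by
    rw [commutator_def, Subgroup.commutator_le]
    intro a _ b _
    rw [hK, MonoidHom.mem_ker, map_commutatorElement]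
    apply Subtype.ext
    have ha : ((MonoidHom.transferSylow S hP a : (S : Subgroup G)) : G) ∈ Subgroup.zpowers x := by
      rw [← hS]; exact (MonoidHom.transferSylow S hP a).2
    have hb : ((MonoidHom.transferSylow S hP b : (S : Subgroup G)) : G) ∈ Subgroup.zpowers x := by
      rw [← hS]; exact (MonoidHom.transferSylow S hP b).2
    have := hcommP _ ha _ hb
    simp only [commutatorElement_def, Subgroup.coe_mul, Subgroup.coe_inv, Subgroup.coe_one]
    rw [this]
    group
  -- `K ≤ G'`
  have hdisj : K ⊓ (S : Subgroup G) = ⊥ := hcompl.disjoint.eq_bot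
  have hxS : x ∈ (S : Subgroup G) := by rw [hS]; exact Subgroup.mem_zpowers x
  have h2 : K ≤ commutator G := by
    let ψ : K → K := fun k => ⟨(k : G)⁻¹ * (x * (k : G) * x⁻¹),
      K.mul_mem (K.inv_mem k.2) (hKn.conj_mem _ k.2 x)⟩
    have hinj : Function.Injective ψ := by
      intro k k' hkk'
      have h3 : (k : G)⁻¹ * (x * (k : G) * x⁻¹) = (k' : G)⁻¹ * (x * (k' : G) * x⁻¹) :=
        congrArg Subtype.val hkk'
      have h4 : (k' : G) * (k : G)⁻¹ ∈ Subgroup.centralizer ({x} : Set G) := by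
        rw [Subgroup.mem_centralizer_singleton_iff]
        have h5 : (k' : G) * (k : G)⁻¹ * x =
            (k' : G) * ((k : G)⁻¹ * (x * (k : G) * x⁻¹)) * x * (k : G)⁻¹ := by group
        rw [h5, h3]
        group
      rw [hC, ← hS] at h4
      have h6 : (k' : G) * (k : G)⁻¹ ∈ K ⊓ (S : Subgroup G) :=
        Subgroup.mem_inf.mpr ⟨K.mul_mem k'.2 (K.inv_mem k.2), h4⟩
      rw [hdisj, Subgroup.mem_bot] at h6
      apply Subtype.ext
      have : (k' : G) = (k : G) := by
        rw [← mul_inv_eq_one]; exact h6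
      exact this.symm
    have hsurj : Function.Surjective ψ := Finite.surjective_of_injective hinj
    intro k hk
    obtain ⟨k0, hk0⟩ := hsurj ⟨k, hk⟩
    have h3 : (k0 : G)⁻¹ * (x * (k0 : G) * x⁻¹) = k := congrArg Subtype.val hk0
    rw [← h3]
    have : (k0 : G)⁻¹ * (x * (k0 : G) * x⁻¹) = ⁅(k0 : G)⁻¹, x⁆ := by
      rw [commutatorElement_def]; group
    rw [this]
    exact Subgroup.commutator_mem_commutator (Subgroup.mem_top _) (Subgroup.mem_top _)
  have h3 : commutator G = K := le_antisymm h1 h2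
  rw [h3, hcompl.symm.index_eq_card, hS, card_P p x hx]

/-- If `N ≠ P` then `[G : G']` divides `[N : P]`. -/
theorem index_commutator_dvd
    (hN : ¬ Subgroup.normalizer ((Subgroup.zpowers x : Subgroup G) : Set G) ≤ Subgroup.zpowers x) :
    (commutator G).index ∣ (Subgroup.zpowers x).relIndex
      (Subgroup.normalizer ((Subgroup.zpowers x : Subgroup G) : Set G)) := by
  obtain ⟨S, hS⟩ := exists_sylow_eq p x hx hC
  -- `P ≤ G'`
  obtain ⟨n, hnN, hnP⟩ := SetLike.not_le_iff_exists.mp hN
  have hnx : n * x * n⁻¹ ∈ Subgroup.zpowers x :=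
    (Subgroup.mem_normalizer_iff.mp hnN x).mp (Subgroup.mem_zpowers x)
  have hc1 : n * x * n⁻¹ * x⁻¹ ≠ 1 := by
    intro h
    apply hnP
    rw [← hC, Subgroup.mem_centralizer_singleton_iff]
    have : n * x * n⁻¹ = x := by
      rw [← mul_inv_eq_one]; exact h
    calc n * x = (n * x * n⁻¹) * n := by group
      _ = x * n := by rw [this]
  have hcP : n * x * n⁻¹ * x⁻¹ ∈ Subgroup.zpowers x :=
    Subgroup.mul_mem _ hnx (Subgroup.inv_mem _ (Subgroup.mem_zpowers x))
  have hcG : n * x * n⁻¹ * x⁻¹ ∈ commutator G := by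
    have : n * x * n⁻¹ * x⁻¹ = ⁅n, x⁆ := by rw [commutatorElement_def]
    rw [this]
    exact Subgroup.commutator_mem_commutator (Subgroup.mem_top _) (Subgroup.mem_top _)
  have hPG' : Subgroup.zpowers x ≤ commutator G := by
    rw [← zpowers_eq_of_mem p x hx hcP hc1]
    exact Subgroup.zpowers_le.mpr hcG
  -- Frattini
  haveI : (commutator G).Normal := inferInstance
  have hSle : (S : Subgroup G) ≤ commutator G := by rw [hS]; exact hPG'
  have hfr := Sylow.normalizer_sup_eq_top' S hSle
  have hfr' : Subgroup.normalizer ((Subgroup.zpowers x : Subgroup G) : Set G) ⊔ commutator G = ⊤ := by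
    rw [← hS]; exact hfr
  have h1 : (commutator G).index = (commutator G).relIndex
      (Subgroup.normalizer ((Subgroup.zpowers x : Subgroup G) : Set G)) := by
    rw [← Subgroup.relIndex_top_right, ← hfr', Subgroup.relIndex_sup_right]
  rw [h1, ← Subgroup.inf_relIndex_right]
  apply Subgroup.relIndex_dvd_of_le_left
  exact le_inf hPG' Subgroup.le_normalizer

/-- The main statement. -/
theorem main (t : ℕ)
    (ht : Nat.card {C : ConjClasses G // ∃ g ∈ C.carrier, orderOf g = p} = t) :
    (t ≠ p - 1 → (commutator G).index * t ≤ p - 1) ∧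
      (t = p - 1 → (commutator G).index = p) := by
  by_cases hN : Subgroup.normalizer ((Subgroup.zpowers x : Subgroup G) : Set G) ≤ Subgroup.zpowers x
  · have h1 := card_classes_of_normalizer_le p x hx hC hN
    rw [ht] at h1
    exact ⟨fun h => absurd h1 h, fun _ => index_commutator_of_normalizer_le p x hx hC hN⟩
  · have h1 := card_classes_mul_le p x hx hC
    rw [ht] at h1
    have h2 := index_commutator_dvd p x hx hC hN
    set e := (Subgroup.zpowers x).relIndex
      (Subgroup.normalizer ((Subgroup.zpowers x : Subgroup G) : Set G)) with he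
    have he0 : e ≠ 0 := by
      rw [he, Subgroup.relIndex]
      exact Subgroup.index_ne_zero_of_finite
    have he1 : e ≠ 1 := by
      intro h
      apply hN
      rw [he] at h
      exact Subgroup.relIndex_eq_one.mp h
    have hle : (commutator G).index ≤ e := Nat.le_of_dvd (Nat.pos_of_ne_zero he0) h2
    have hp2 : 2 ≤ p := hp.1.two_le
    refine ⟨fun _ => ?_, fun h => ?_⟩
    · calc (commutator G).index * t ≤ e * t := Nat.mul_le_mul_right t hle
        _ = t * e := Nat.mul_comm e t
        _ ≤ p - 1 := h1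
    · exfalso
      have he2 : 2 ≤ e := by omega
      have : t * 2 ≤ p - 1 := le_trans (Nat.mul_le_mul_left t he2) h1
      omega

end Main

end Cfsg.Agent.Lib.Helper2_SelfCent
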