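import Mathlib
import Cfsg.Prelude.Def_Characters
import Cfsg.Prelude.Def_Blocks
import Cfsg.Prelude.Def_BlockRank
import Cfsg.Agent.Lib.Helper2_ClassFn
import Cfsg.Agent.Lib.Helper2_CharBasic
import Cfsg.Agent.Lib.Helper2_CharOrtho
import Cfsg.Agent.Lib.Helper2_CharMore
import Cfsg.Agent.Lib.Helper2_CharValues
import Cfsg.Agent.Lib.Helper2_CharSum
import Cfsg.Agent.Lib.Helper2_CharCentral
import Cfsg.Agent.Lib.Helper2_ModM
import Cfsg.Agent.Lib.Helper2_Blocks
import Cfsg.Agent.Lib.Helper2_BlockOrtho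
import Cfsg.Agent.Lib.Helper2_BlockMore
import Cfsg.Agent.Lib.Helper2_DefectGroup
import Cfsg.Agent.Lib.Helper2_DefectPCore
import Cfsg.Agent.Lib.Helper2_MinMax
import Cfsg.Agent.Lib.Helper2_InducedBlock
import Cfsg.Agent.Lib.Helper2_BrauerMap
import Cfsg.Agent.Lib.Helper2_InducedDefect
import Cfsg.Agent.Lib.Helper2_BrauerFirst
import Cfsg.Agent.Lib.Helper2_BrauerConverse
import Cfsg.Agent.Lib.Helper2_SylowConj
import Cfsg.Agent.Lib.Helper2_BlockCover
import Cfsg.Agent.Lib.Helper2_BlockConj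
import Cfsg.Agent.Lib.Helper2_FirstMain
import Cfsg.Agent.S0964

set_option autoImplicit false

/-!
# The extended first main theorem
-/

namespace Cfsg.Agent.Lib.Helper2_ExtFirstMain

open Cfsg
open Cfsg.Agent.Lib.Helper2_ClassFn
open Cfsg.Agent.Lib.Helper2_CharBasic
open Cfsg.Agent.Lib.Helper2_CharOrtho
open Cfsg.Agent.Lib.Helper2_CharMore
open Cfsg.Agent.Lib.Helper2_CharValues
open Cfsg.Agent.Lib.Helper2_CharSum
open Cfsg.Agent.Lib.Helper2_CharCentral
open Cfsg.Agent.Lib.Helper2_ModM
open Cfsg.Agent.Lib.Helper2_Blocks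
open Cfsg.Agent.Lib.Helper2_BlockOrtho
open Cfsg.Agent.Lib.Helper2_BlockMore
open Cfsg.Agent.Lib.Helper2_DefectGroup
open Cfsg.Agent.Lib.Helper2_DefectPCore
open Cfsg.Agent.Lib.Helper2_MinMax
open Cfsg.Agent.Lib.Helper2_InducedBlock
open Cfsg.Agent.Lib.Helper2_BrauerMap
open Cfsg.Agent.Lib.Helper2_InducedDefect
open Cfsg.Agent.Lib.Helper2_BrauerFirst
open Cfsg.Agent.Lib.Helper2_BrauerConverse
open Cfsg.Agent.Lib.Helper2_SylowConj
open Cfsg.Agent.Lib.Helper2_BlockCover
open Cfsg.Agent.Lib.Helper2_BlockConj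
open Cfsg.Agent.Lib.Helper2_FirstMain
open scoped ComplexConjugate

universe u

section Transport

variable {A A' : Type u} [Group A] [Group A'] {M : Ideal AlgInt}

theorem index_centralizer_mulEquiv (e : A ≃* A') (a : A) :
    (Subgroup.centralizer ({e a} : Set A')).index
      = (Subgroup.centralizer ({a} : Set A)).index := by
  have h : Subgroup.centralizer ({e a} : Set A')
      = (Subgroup.centralizer ({a} : Set A)).map ((e : A ≃* A') : A →* A') := by
    ext x
    rw [Subgroup.mem_map, Subgroup.mem_centralizer_singleton_iff]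
    constructor
    · intro hx
      refine ⟨e.symm x, ?_, ?_⟩
      · rw [Subgroup.mem_centralizer_singleton_iff]
        apply e.injective
        rw [map_mul, map_mul, MulEquiv.apply_symm_apply]
        exact hx
      · exact MulEquiv.apply_symm_apply _ x
    · rintro ⟨y, hy, rfl⟩
      rw [Subgroup.mem_centralizer_singleton_iff] at hy
      show e y * _ = _ * e y
      rw [← map_mul, ← map_mul, hy]
  rw [h, Subgroup.index_map_equiv]

theorem centralChar_comp_mulEquiv (e : A ≃* A') (f : A' → ℂ) (a : A) :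
    centralChar (fun x => f (e x)) a = centralChar f (e a) := by
  unfold centralChar
  rw [index_centralizer_mulEquiv]
  simp only [map_one]

theorem sameBlock_comp_mulEquiv (e : A ≃* A') {f g : A' → ℂ} (h : SameBlock M f g) :
    SameBlock M (fun x => f (e x)) (fun x => g (e x)) := by
  intro a
  rw [centralChar_comp_mulEquiv, centralChar_comp_mulEquiv]
  exact h _

end Transport

variable {G : Type u} [Group G] [Fintype G] {M : Ideal AlgInt}

open Classical in
/-- The central character of `ξ` on the restriction of a class function of the big group,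
expanded over conjugacy classes. -/
theorem om_res_eq_sum_classes (K : Subgroup G) [Fintype K] (ξ : K → ℂ) {z : G → ℂ}
    (hz : IsClassFunction G z) :
    om ξ (fun k : K => z k) = ∑ C : ConjClasses G, z C.out * inducedCentralChar K ξ C.out := by
  unfold om
  rw [Finset.sum_div]
  simp_rw [inducedCentralChar_eq_sum, Finset.mul_sum]
  rw [Finset.sum_comm]
  refine Finset.sum_congr rfl fun h _ => ?_
  rw [Finset.sum_eq_single (ConjClasses.mk (h : G))]
  · obtain ⟨t, ht⟩ := isConj_out (h : G)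
    have hc : IsConj (ConjClasses.mk (h : G)).out (h : G) := by
      rw [← ht]
      exact (isConj_iff.mpr ⟨t, rfl⟩).symm
    rw [if_pos hc, ← ht, hz]
    ring
  · intro C _ hne
    rw [if_neg, mul_zero]
    intro hc
    apply hne
    rw [← Quotient.out_eq C]
    exact (ConjClasses.mk_eq_mk_iff_isConj.mpr hc)
  · intro h'
    exact absurd (Finset.mem_univ _) h'

/-- If `K` is a normal subgroup containing the centralizer of a normal `p`-subgroup `Q`, and
`χ` lies over `θ`, then the induced central character of `θ` is congruent to the central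
character of `χ`. -/
theorem induced_sub_centralChar_of_over {p : ℕ} [hp : Fact p.Prime] (hM : IsPModular p M)
    (Q K : Subgroup G) [hQn : Q.Normal] [hKn : K.Normal] [Fintype K] (hQ : IsPGroup p Q)
    (hCK : Subgroup.centralizer (Q : Set G) ≤ K) (χ : IrrCharacter G) (θ : IrrCharacter K)
    (he : classInner (fun n : K => (χ : G → ℂ) n) (θ : K → ℂ) ≠ 0) (g : G) :
    MemLocalIdeal M (inducedCentralChar K (θ : K → ℂ) g - centralChar (χ : G → ℂ) g) := by
  classical
  have hMmax := hM.2.1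
  by_cases hg : g ∈ K
  · have := centralChar_eq_induced_of_over K χ.2 θ.2 he ⟨g, hg⟩
    rw [← this, sub_self]
    exact memLocalIdeal_zero hMmax
  · have hind : inducedCentralChar K (θ : K → ℂ) g = 0 := by
      rw [inducedCentralChar_eq_sum]
      refine Finset.sum_eq_zero fun h _ => ?_
      rw [if_neg]
      intro hc
      apply hg
      obtain ⟨t, ht⟩ := isConj_iff.mp hc.symm
      rw [← ht]
      exact hKn.conj_mem _ h.2 t
    rw [hind, zero_sub]
    apply memLocalIdeal_neg hMmax
    have hg' : ¬ Q ≤ Subgroup.centralizer ({g} : Set G) := by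
      intro hle
      apply hg
      apply hCK
      rw [Subgroup.mem_centralizer_iff]
      intro q hq
      have := Subgroup.mem_centralizer_singleton_iff.mp (hle hq)
      exact this
    exact memLocalIdeal_centralChar_of_not_centralize' hM Q hQ χ g hg'

open Classical in
/-- Transitivity of block induction at the level of central characters. -/
theorem induced_trans (hMm : M.IsMaximal) (H N : Subgroup G) [Fintype H] [Fintype N]
    [Fintype (H.subgroupOf N)] (hHN : H ≤ N) (ξ : H → ℂ) {ζ : N → ℂ}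
    (hζ : IsClassFunction N ζ)
    (h : ∀ n : N, MemLocalIdeal M (inducedCentralChar (H.subgroupOf N)
      (fun k => ξ (Subgroup.subgroupOfEquivOfLe hHN k)) n - centralChar ζ n)) (g : G) :
    MemLocalIdeal M (inducedCentralChar H ξ g - inducedCentralChar N ζ g) := by
  have hz := classIndOn_isClassFunction N g
  have e1 : inducedCentralChar H ξ g
      = om (fun k : H.subgroupOf N => ξ (Subgroup.subgroupOfEquivOfLe hHN k))
          (fun k : H.subgroupOf N => classIndOn N g k) := by
    rw [inducedCentralChar_eq_om]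
    unfold om
    congr 1
    · refine (Fintype.sum_equiv (Subgroup.subgroupOfEquivOfLe hHN).toEquiv _ _ ?_).symm
      intro k
      rfl
  rw [e1, om_res_eq_sum_classes (H.subgroupOf N) _ hz, inducedCentralChar_eq_om,
    om_eq_sum_classes hζ hz, ← Finset.sum_sub_distrib]
  refine memLocalIdeal_sum hMm _ _ fun C _ => ?_
  rw [← mul_sub]
  exact memLocalIdeal_mul_ring hMm (h C.out) (classIndOn_memLocalRing hMm N g C.out)

/-- A block of `H`, `D ≤ H ≤ N_G(D)`, inducing a block with defect group `D` has defect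
group `D`. -/
theorem defect_of_induced {p : ℕ} [hp : Fact p.Prime] (hM : IsPModular p M)
    (D H : Subgroup G) [Fintype H] (hDH : D ≤ H) (hHN : H ≤ Subgroup.normalizer (D : Set G))
    (ξ : IrrCharacter H) (χ₀ : IrrCharacter G)
    (hind : IsInducedBlock M H (blockOf M (ξ : H → ℂ)) (blockOf M (χ₀ : G → ℂ)))
    (hD : IsDefectGroup p M (blockOf M (χ₀ : G → ℂ)) D) :
    IsDefectGroup p M (blockOf M (ξ : H → ℂ)) (D.subgroupOf H) := by
  classical
  have hMm := hM.2.1
  have hDp : IsPGroup p D := isPGroup_of_isDefectGroup hD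
  obtain ⟨h₀, hh₀⟩ := exists_defectClass hMm ξ
  obtain ⟨Δ₀⟩ : Nonempty (Sylow p (Subgroup.centralizer ({h₀} : Set H))) := inferInstance
  have hΔ : IsDefectGroup p M (blockOf M (ξ : H → ℂ))
      ((Δ₀ : Subgroup (Subgroup.centralizer ({h₀} : Set H))).map
        (Subgroup.centralizer ({h₀} : Set H)).subtype) := ⟨h₀, hh₀, Δ₀, rfl⟩
  haveI : (D.subgroupOf H).Normal := Subgroup.normal_subgroupOf_of_le_normalizer hHN
  have hDHp : IsPGroup p (D.subgroupOf H) :=
    hDp.comap_of_injective H.subtype (Subgroup.subtype_injective H)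
  have hle := normal_pSubgroup_le_defectGroup hM (D.subgroupOf H) hDHp ξ _ hΔ
  obtain ⟨E, hE, hEle⟩ := defectGroup_le_of_induced hM H _ _ hind _ hΔ
  have hcardE := card_defectGroup hM χ₀ E hE
  have hcardD := card_defectGroup hM χ₀ D hD
  have hcard : Nat.card ((Δ₀ : Subgroup (Subgroup.centralizer ({h₀} : Set H))).map
      (Subgroup.centralizer ({h₀} : Set H)).subtype) ≤ Nat.card (D.subgroupOf H) := by
    have h1 : Nat.card (((Δ₀ : Subgroup (Subgroup.centralizer ({h₀} : Set H))).map
        (Subgroup.centralizer ({h₀} : Set H)).subtype).map H.subtype)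
        = Nat.card ((Δ₀ : Subgroup (Subgroup.centralizer ({h₀} : Set H))).map
        (Subgroup.centralizer ({h₀} : Set H)).subtype) :=
      Subgroup.card_map_of_injective H.subtype_injective
    have h2 := Nat.le_of_dvd Nat.card_pos (Subgroup.card_dvd_of_le hEle)
    have h3 : Nat.card (D.subgroupOf H) = Nat.card D :=
      Nat.card_congr (Subgroup.subgroupOfEquivOfLe hDH).toEquiv
    rw [h3, hcardD, ← hcardE, ← h1]
    exact h2
  have heq := Subgroup.eq_of_le_of_card_ge hle hcard
  rw [heq]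
  exact hΔ

/-- **Conjugacy in the extended first main theorem.** -/
theorem ext_firstMain_conj {p : ℕ} [hp : Fact p.Prime] (hM : IsPModular p M) (P H : Subgroup G)
    [Fintype H] [Fintype (Subgroup.normalizer (P : Set G))] [Fintype (H.subgroupOf (Subgroup.normalizer (P : Set G)))]
    (hCH : Subgroup.centralizer (P : Set G) ≤ H) (hHN : H ≤ (Subgroup.normalizer (P : Set G)))
    (hHnorm : ∀ n ∈ (Subgroup.normalizer (P : Set G)), ∀ h ∈ H, n * h * n⁻¹ ∈ H)
    (χ₀ : IrrCharacter G) (hP : IsDefectGroup p M (blockOf M (χ₀ : G → ℂ)) P)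
    (ξ ξ' : IrrCharacter H)
    (h1 : IsInducedBlock M H (blockOf M (ξ : H → ℂ)) (blockOf M (χ₀ : G → ℂ)))
    (h2 : IsInducedBlock M H (blockOf M (ξ' : H → ℂ)) (blockOf M (χ₀ : G → ℂ))) :
    ∃ n ∈ (Subgroup.normalizer (P : Set G)), ∃ θ ∈ blockOf M (ξ : H → ℂ), ∀ x : H, ∀ hx : n * (x : G) * n⁻¹ ∈ H,
      (ξ' : H → ℂ) x = (θ : H → ℂ) ⟨n * (x : G) * n⁻¹, hx⟩ := by
  classical
  have hMm := hM.2.1
  have hPp : IsPGroup p P := isPGroup_of_isDefectGroup hP
  haveI hH'n : (H.subgroupOf (Subgroup.normalizer (P : Set G))).Normal := ⟨fun h hh n => by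
    rw [Subgroup.mem_subgroupOf] at hh ⊢
    have := hHnorm n n.2 h hh
    simpa using this⟩
  haveI hP'n : (P.subgroupOf (Subgroup.normalizer (P : Set G))).Normal := Subgroup.normal_subgroupOf_of_le_normalizer le_rfl
  have hP'p : IsPGroup p (P.subgroupOf (Subgroup.normalizer (P : Set G))) :=
    hPp.comap_of_injective (Subgroup.normalizer (P : Set G)).subtype (Subgroup.subtype_injective _)
  have hC' : Subgroup.centralizer ((P.subgroupOf (Subgroup.normalizer (P : Set G)) : Subgroup (Subgroup.normalizer (P : Set G))) : Set (Subgroup.normalizer (P : Set G)))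
      ≤ H.subgroupOf (Subgroup.normalizer (P : Set G)) := by
    intro n hn
    rw [Subgroup.mem_subgroupOf]
    apply hCH
    rw [Subgroup.mem_centralizer_iff]
    intro d hd
    have h3 : (⟨d, Subgroup.le_normalizer hd⟩ : (Subgroup.normalizer (P : Set G))) ∈ P.subgroupOf (Subgroup.normalizer (P : Set G)) := by
      rw [Subgroup.mem_subgroupOf]; exact hd
    have h4 := Subgroup.mem_centralizer_iff.mp hn _ h3
    have h5 := congrArg (fun a : (Subgroup.normalizer (P : Set G)) => (a : G)) h4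
    simpa using h5
  -- transported characters
  have hξt : IsIrrCharacter (H.subgroupOf (Subgroup.normalizer (P : Set G)))
      (fun k => (ξ : H → ℂ) (Subgroup.subgroupOfEquivOfLe hHN k)) :=
    IsIrrCharacter.comp_mulEquiv ξ.2 (Subgroup.subgroupOfEquivOfLe hHN)
  have hξt' : IsIrrCharacter (H.subgroupOf (Subgroup.normalizer (P : Set G)))
      (fun k => (ξ' : H → ℂ) (Subgroup.subgroupOfEquivOfLe hHN k)) :=
    IsIrrCharacter.comp_mulEquiv ξ'.2 (Subgroup.subgroupOfEquivOfLe hHN)
  obtain ⟨ζ, hζ⟩ := exists_over (H.subgroupOf (Subgroup.normalizer (P : Set G))) hξt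
  obtain ⟨ζ', hζ'⟩ := exists_over (H.subgroupOf (Subgroup.normalizer (P : Set G))) hξt'
  have key : ∀ (η : IrrCharacter H) (ζ : IrrCharacter (Subgroup.normalizer (P : Set G))),
      classInner (fun n : H.subgroupOf (Subgroup.normalizer (P : Set G)) => (ζ : (Subgroup.normalizer (P : Set G)) → ℂ) n)
        (fun k => (η : H → ℂ) (Subgroup.subgroupOfEquivOfLe hHN k)) ≠ 0 →
      IsInducedBlock M H (blockOf M (η : H → ℂ)) (blockOf M (χ₀ : G → ℂ)) →
      IsInducedBlock M (Subgroup.normalizer (P : Set G)) (blockOf M (ζ : (Subgroup.normalizer (P : Set G)) → ℂ)) (blockOf M (χ₀ : G → ℂ)) := by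
    intro η ζ hov hind
    refine ⟨⟨ζ, rfl⟩, ⟨χ₀, rfl⟩, ?_⟩
    intro ζ₂ hζ₂ χ hχ g
    have a1 := inducedCentralChar_sub_mem hMm (Subgroup.normalizer (P : Set G)) ζ₂.2 ζ.2 (sameBlock_symm hMm hζ₂) g
    have a2 := induced_trans hMm H (Subgroup.normalizer (P : Set G)) hHN (η : H → ℂ)
      (IsCharacter.isClassFunction (IsIrrCharacter.isCharacter ζ.2))
      (fun n => induced_sub_centralChar_of_over hM (P.subgroupOf (Subgroup.normalizer (P : Set G))) (H.subgroupOf (Subgroup.normalizer (P : Set G))) hP'p hC' ζ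
        ⟨_, IsIrrCharacter.comp_mulEquiv η.2 (Subgroup.subgroupOfEquivOfLe hHN)⟩ hov n) g
    have a3 := hind.2.2 η (self_mem_blockOf hMm η) χ hχ g
    have := memLocalIdeal_add hMm (memLocalIdeal_sub hMm a1 a2) a3
    have e : inducedCentralChar (Subgroup.normalizer (P : Set G)) (ζ₂ : (Subgroup.normalizer (P : Set G)) → ℂ) g - inducedCentralChar (Subgroup.normalizer (P : Set G)) (ζ : (Subgroup.normalizer (P : Set G)) → ℂ) g
        - (inducedCentralChar H (η : H → ℂ) g - inducedCentralChar (Subgroup.normalizer (P : Set G)) (ζ : (Subgroup.normalizer (P : Set G)) → ℂ) g)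
        + (inducedCentralChar H (η : H → ℂ) g - centralChar (χ : G → ℂ) g)
        = inducedCentralChar (Subgroup.normalizer (P : Set G)) (ζ₂ : (Subgroup.normalizer (P : Set G)) → ℂ) g - centralChar (χ : G → ℂ) g := by ring
    rwa [e] at this
  have hi1 := key ξ ζ hζ h1
  have hi2 := key ξ' ζ' hζ' h2
  have hd1 := defect_of_induced hM P (Subgroup.normalizer (P : Set G)) Subgroup.le_normalizer le_rfl ζ χ₀ hi1 hP
  have hmem := firstMain_unique P hM hPp ζ ζ' χ₀ hi1 hi2 hd1
  obtain ⟨g, θ', hθ', hconj⟩ := Cfsg.Agent.S0964.result p M hM (H.subgroupOf (Subgroup.normalizer (P : Set G)))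
    (blockOf M (ζ : (Subgroup.normalizer (P : Set G)) → ℂ)) ⟨ζ, rfl⟩
    (blockOf M (fun k : H.subgroupOf (Subgroup.normalizer (P : Set G)) => (ξ : H → ℂ) (Subgroup.subgroupOfEquivOfLe hHN k)))
    ⟨⟨_, hξt⟩, rfl⟩ ζ (self_mem_blockOf hMm ζ) ⟨_, hξt⟩ (self_mem_blockOf hMm ⟨_, hξt⟩) hζ
    ζ' hmem ⟨_, hξt'⟩ hζ'
  refine ⟨(g : G), g.2, ⟨fun x => (θ' : _ → ℂ) ((Subgroup.subgroupOfEquivOfLe hHN).symm x),
    IsIrrCharacter.comp_mulEquiv θ'.2 (Subgroup.subgroupOfEquivOfLe hHN).symm⟩, ?_, ?_⟩
  · have hs : SameBlock M (fun k : H.subgroupOf (Subgroup.normalizer (P : Set G)) => (ξ : H → ℂ) (Subgroup.subgroupOfEquivOfLe hHN k))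
        (θ' : _ → ℂ) := hθ'
    have := sameBlock_comp_mulEquiv (Subgroup.subgroupOfEquivOfLe hHN).symm hs
    simp only [MulEquiv.apply_symm_apply] at this
    exact this
  · intro x hx
    have := hconj ((Subgroup.subgroupOfEquivOfLe hHN).symm x)
    simp only [MulEquiv.apply_symm_apply] at this
    rw [this]
    rfl

/-- Conjugation by an element normalizing `H`, as an automorphism of `H`. -/
def conjEquiv (H : Subgroup G) (n : G) (hn : ∀ h ∈ H, n * h * n⁻¹ ∈ H)
    (hn' : ∀ h ∈ H, n⁻¹ * h * n ∈ H) : H ≃* H where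
  toFun x := ⟨n * x * n⁻¹, hn x x.2⟩
  invFun x := ⟨n⁻¹ * x * n, hn' x x.2⟩
  left_inv x := by
    apply Subtype.ext
    simp [mul_assoc]
  right_inv x := by
    apply Subtype.ext
    simp [mul_assoc]
  map_mul' x y := by
    apply Subtype.ext
    simp [mul_assoc]

omit [Fintype G] in
theorem conj_mem_sup_centralizer (P : Subgroup G) (n : G)
    (hn : n ∈ Subgroup.normalizer (P : Set G)) (h : G)
    (hh : h ∈ P ⊔ Subgroup.centralizer (P : Set G)) :
    n * h * n⁻¹ ∈ P ⊔ Subgroup.centralizer (P : Set G) := by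
  have hle : (P ⊔ Subgroup.centralizer (P : Set G)).map (MulAut.conj n).toMonoidHom
      ≤ P ⊔ Subgroup.centralizer (P : Set G) := by
    rw [Subgroup.map_sup]
    refine sup_le ?_ ?_
    · refine le_trans ?_ le_sup_left
      rintro _ ⟨q, hq, rfl⟩
      show n * q * n⁻¹ ∈ P
      exact (Subgroup.mem_normalizer_iff.mp hn q).mp hq
    · refine le_trans ?_ le_sup_right
      rintro _ ⟨c, hc, rfl⟩
      show n * c * n⁻¹ ∈ Subgroup.centralizer (P : Set G)
      rw [Subgroup.mem_centralizer_iff]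
      intro q hq
      have hq' : n⁻¹ * q * n ∈ P := by
        have := (Subgroup.mem_normalizer_iff.mp (inv_mem hn) q).mp hq
        simpa using this
      have hcq := Subgroup.mem_centralizer_iff.mp hc _ hq'
      -- hcq : n⁻¹ * q * n * c = c * (n⁻¹ * q * n)
      have e1 : q * (n * c * n⁻¹) = n * (n⁻¹ * q * n * c) * n⁻¹ := by group
      have e2 : n * c * n⁻¹ * q = n * (c * (n⁻¹ * q * n)) * n⁻¹ := by group
      rw [e1, e2, hcq]
  exact hle ⟨h, hh, rfl⟩

/-- **The extended first main theorem** for `H = P C_G(P)`. -/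
theorem ext_firstMain {p : ℕ} [hp : Fact p.Prime] (hM : IsPModular p M)
    (B : Set (IrrCharacter G)) (hB : IsPBlock M B) (P : Subgroup G)
    (hP : IsDefectGroup p M B P) :
    (∃ b : Set (IrrCharacter ↥(P ⊔ Subgroup.centralizer (P : Set G))),
      IsDefectGroup p M b (P.subgroupOf (P ⊔ Subgroup.centralizer (P : Set G))) ∧
      IsInducedBlock M (P ⊔ Subgroup.centralizer (P : Set G)) b B) ∧
    ∀ b b' : Set (IrrCharacter ↥(P ⊔ Subgroup.centralizer (P : Set G))),
      IsInducedBlock M (P ⊔ Subgroup.centralizer (P : Set G)) b B →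
      IsInducedBlock M (P ⊔ Subgroup.centralizer (P : Set G)) b' B →
      ∃ n ∈ Subgroup.normalizer (P : Set G), ∀ θ ∈ b, ∃ θ' ∈ b',
        ∀ x : ↥(P ⊔ Subgroup.centralizer (P : Set G)),
        ∀ hx : n * (x : G) * n⁻¹ ∈ P ⊔ Subgroup.centralizer (P : Set G),
        (θ' : ↥(P ⊔ Subgroup.centralizer (P : Set G)) → ℂ) x
          = (θ : ↥(P ⊔ Subgroup.centralizer (P : Set G)) → ℂ) ⟨n * (x : G) * n⁻¹, hx⟩ := by
  classical
  have hMm := hM.2.1
  obtain ⟨χ₀, rfl⟩ := hB
  haveI : Fintype ↥(P ⊔ Subgroup.centralizer (P : Set G)) := Fintype.ofFinite _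
  haveI : Fintype ↥(Subgroup.normalizer (P : Set G)) := Fintype.ofFinite _
  haveI : Fintype ↥((P ⊔ Subgroup.centralizer (P : Set G)).subgroupOf
    (Subgroup.normalizer (P : Set G))) := Fintype.ofFinite _
  have hHN : P ⊔ Subgroup.centralizer (P : Set G) ≤ Subgroup.normalizer (P : Set G) :=
    sup_le Subgroup.le_normalizer (Subgroup.centralizer_le_normalizer _)
  constructor
  · obtain ⟨ξ, hind, hdef⟩ := exists_induced_with_defect hM P
      (P ⊔ Subgroup.centralizer (P : Set G)) le_sup_left le_sup_right hHN χ₀ hP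
    exact ⟨_, hdef, hind⟩
  · intro b b' hb hb'
    obtain ⟨ξ, rfl⟩ := hb.1
    obtain ⟨ξ', rfl⟩ := hb'.1
    obtain ⟨n, hn, θ₀, hθ₀, hconj⟩ := ext_firstMain_conj hM P
      (P ⊔ Subgroup.centralizer (P : Set G)) le_sup_right hHN
      (fun n hn h hh => conj_mem_sup_centralizer P n hn h hh) χ₀ hP ξ ξ' hb hb'
    refine ⟨n, hn, ?_⟩
    intro θ hθ
    have hn1 : ∀ h ∈ P ⊔ Subgroup.centralizer (P : Set G),
        n * h * n⁻¹ ∈ P ⊔ Subgroup.centralizer (P : Set G) :=
      fun h hh => conj_mem_sup_centralizer P n hn h hh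
    have hn2 : ∀ h ∈ P ⊔ Subgroup.centralizer (P : Set G),
        n⁻¹ * h * n ∈ P ⊔ Subgroup.centralizer (P : Set G) := by
      intro h hh
      have := conj_mem_sup_centralizer P n⁻¹ (inv_mem hn) h hh
      simpa using this
    refine ⟨⟨fun x => (θ : ↥(P ⊔ Subgroup.centralizer (P : Set G)) → ℂ)
        (conjEquiv _ n hn1 hn2 x),
      IsIrrCharacter.comp_mulEquiv θ.2 (conjEquiv _ n hn1 hn2)⟩, ?_, ?_⟩
    · have hs0 : SameBlock M (ξ : ↥(P ⊔ Subgroup.centralizer (P : Set G)) → ℂ)
          (θ₀ : ↥(P ⊔ Subgroup.centralizer (P : Set G)) → ℂ) := hθ₀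
      have hs1 : SameBlock M (ξ : ↥(P ⊔ Subgroup.centralizer (P : Set G)) → ℂ)
          (θ : ↥(P ⊔ Subgroup.centralizer (P : Set G)) → ℂ) := hθ
      have hs : SameBlock M (θ₀ : ↥(P ⊔ Subgroup.centralizer (P : Set G)) → ℂ)
          (θ : ↥(P ⊔ Subgroup.centralizer (P : Set G)) → ℂ) :=
        sameBlock_trans hMm (sameBlock_symm hMm hs0) hs1
      have hs' := sameBlock_comp_mulEquiv (conjEquiv _ n hn1 hn2) hs
      have e : (fun x => (θ₀ : ↥(P ⊔ Subgroup.centralizer (P : Set G)) → ℂ)
          (conjEquiv _ n hn1 hn2 x))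
          = (ξ' : ↥(P ⊔ Subgroup.centralizer (P : Set G)) → ℂ) := by
        funext x
        exact (hconj x (hn1 x x.2)).symm
      rw [e] at hs'
      exact hs'
    · intro x hx
      rfl

end Cfsg.Agent.Lib.Helper2_ExtFirstMain
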