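import Mathlib
import Cfsg.Prelude.Def_Characters
import Cfsg.Prelude.Def_Blocks
import Cfsg.Prelude.Def_BlockRank
import Cfsg.Agent.Lib.Helper2_ClassFn
import Cfsg.Agent.Lib.Helper2_CharBasic
import Cfsg.Agent.Lib.Helper2_CharOrtho
import Cfsg.Agent.Lib.Helper2_Clifford
import Cfsg.Agent.Lib.Helper2_CharMore
import Cfsg.Agent.Lib.Helper2_CharDeg
import Cfsg.Agent.Lib.Helper2_CharInd
import Cfsg.Agent.Lib.Helper2_CharExtra
import Cfsg.Agent.Lib.Helper2_CharInt
import Cfsg.Agent.Lib.Helper2_CharValues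
import Cfsg.Agent.Lib.Helper2_CharSum
import Cfsg.Agent.Lib.Helper2_CharCentral
import Cfsg.Agent.Lib.Helper2_ModM
import Cfsg.Agent.Lib.Helper2_Blocks
import Cfsg.Agent.Lib.Helper2_BlockOrtho
import Cfsg.Agent.Lib.Helper2_BlockMore
import Cfsg.Agent.Lib.Helper2_DefectGroup
import Cfsg.Agent.Lib.Helper2_DefectPCore
import Cfsg.Agent.Lib.Helper2_MinMax
import Cfsg.Agent.Lib.Helper2_InducedBlock
import Cfsg.Agent.Lib.Helper2_BrauerMap
import Cfsg.Agent.Lib.Helper2_InducedDefect
import Cfsg.Agent.Lib.Helper2_BrauerFirst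
import Cfsg.Agent.Lib.Helper2_BrauerConverse
import Cfsg.Agent.Lib.Helper2_SylowConj
import Cfsg.Agent.Lib.Helper2_BlockCover
import Cfsg.Agent.Lib.Helper2_BlockConj
import Cfsg.Agent.Lib.Helper2_FirstMain
import Cfsg.Agent.Lib.Helper2_BlockNormal


set_option autoImplicit false

/-!
# Fong's theorem on covering blocks of maximal defect
-/

namespace Cfsg.Agent.Lib.Helper2_Fong

open Cfsg
open Cfsg.Agent.Lib.Helper2_ClassFn
open Cfsg.Agent.Lib.Helper2_CharBasic
open Cfsg.Agent.Lib.Helper2_CharOrtho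
open Cfsg.Agent.Lib.Helper2_Clifford
open Cfsg.Agent.Lib.Helper2_CharMore
open Cfsg.Agent.Lib.Helper2_CharDeg
open Cfsg.Agent.Lib.Helper2_CharInd
open Cfsg.Agent.Lib.Helper2_CharExtra
open Cfsg.Agent.Lib.Helper2_CharValues
open Cfsg.Agent.Lib.Helper2_CharSum
open Cfsg.Agent.Lib.Helper2_CharCentral
open Cfsg.Agent.Lib.Helper2_ModM
open Cfsg.Agent.Lib.Helper2_Blocks
open Cfsg.Agent.Lib.Helper2_BlockOrtho
open Cfsg.Agent.Lib.Helper2_BlockMore
open Cfsg.Agent.Lib.Helper2_DefectGroup
open Cfsg.Agent.Lib.Helper2_DefectPCore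
open Cfsg.Agent.Lib.Helper2_MinMax
open Cfsg.Agent.Lib.Helper2_InducedBlock
open Cfsg.Agent.Lib.Helper2_BrauerMap
open Cfsg.Agent.Lib.Helper2_InducedDefect
open Cfsg.Agent.Lib.Helper2_BrauerFirst
open Cfsg.Agent.Lib.Helper2_BrauerConverse
open Cfsg.Agent.Lib.Helper2_SylowConj
open Cfsg.Agent.Lib.Helper2_BlockCover
open Cfsg.Agent.Lib.Helper2_BlockConj
open Cfsg.Agent.Lib.Helper2_FirstMain
open Cfsg.Agent.Lib.Helper2_BlockNormal
open scoped ComplexConjugate

universe u

variable {G : Type u} [Group G] [Fintype G] {M : Ideal AlgInt}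

open Classical in
/-- The idempotent of a union of blocks is the sum of the block idempotents. -/
theorem blockCoeff_closed_eq_sum (hM : M.IsMaximal) (O : Set (IrrCharacter G))
    (hO : ∀ φ ∈ O, ∀ φ' : IrrCharacter G, SameBlock M (φ : G → ℂ) (φ' : G → ℂ) → φ' ∈ O)
    (x : G) :
    blockCoeff O x = ∑ β ∈ ((irrFinset G).filter (MemB O)).image
      (fun ψ : G → ℂ => blockOf M ψ), blockCoeff β x := by
  rw [blockCoeff_eq]
  rw [← Finset.sum_filter]
  set S := (irrFinset G).filter (MemB O) with hS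
  rw [← Finset.sum_fiberwise_of_maps_to (s := S)
    (t := S.image (fun ψ : G → ℂ => blockOf M ψ)) (g := fun ψ : G → ℂ => blockOf M ψ)
    (fun ψ hψ => Finset.mem_image_of_mem _ hψ)]
  rw [Finset.mul_sum]
  refine Finset.sum_congr rfl fun β hβ => ?_
  obtain ⟨ψ₀, hψ₀S, rfl⟩ := Finset.mem_image.mp hβ
  have hψ₀irr := mem_irrFinset.mp (Finset.mem_filter.mp hψ₀S).1
  have hψ₀O : MemB O ψ₀ := (Finset.mem_filter.mp hψ₀S).2
  rw [blockCoeff_eq (blockOf M ψ₀), ← Finset.sum_filter]
  congr 1
  refine Finset.sum_congr ?_ (fun _ _ => rfl)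
  ext ψ
  simp only [Finset.mem_filter, hS]
  constructor
  · rintro ⟨⟨hirr, hOψ⟩, heq⟩
    refine ⟨hirr, ?_⟩
    rw [memB_blockOf _ hirr]
    have h1 : (⟨ψ, mem_irrFinset.mp hirr⟩ : IrrCharacter G) ∈ blockOf M ψ :=
      self_mem_blockOf hM ⟨ψ, mem_irrFinset.mp hirr⟩
    rw [heq] at h1
    exact h1
  · rintro ⟨hirr, hmem⟩
    rw [memB_blockOf _ hirr] at hmem
    refine ⟨⟨hirr, ?_⟩, ?_⟩
    · obtain ⟨h0, h0O⟩ := hψ₀O
      exact ⟨mem_irrFinset.mp hirr, hO _ h0O ⟨ψ, mem_irrFinset.mp hirr⟩ hmem⟩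
    · exact blockOf_eq_of_sameBlock hM hmem

omit [Fintype G] in
/-- Every irreducible character lies over an irreducible character of a subgroup. -/
theorem exists_under (N : Subgroup G) [Fintype N] {χ : G → ℂ} (hχ : IsIrrCharacter G χ) :
    ∃ θ : IrrCharacter N, classInner (fun n : N => χ n) (θ : N → ℂ) ≠ 0 := by
  have hc : IsCharacter N (fun n : N => χ n) :=
    IsCharacter.restrict (IsIrrCharacter.isCharacter hχ) N
  have h0 : (fun n : N => χ n) ≠ 0 := by
    intro h
    have := congrFun h 1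
    simp only [Pi.zero_apply, OneMemClass.coe_one] at this
    exact IsIrrCharacter.apply_one_ne_zero hχ this
  obtain ⟨ψ, hψ, n, hn, hcl⟩ := IsCharacter.exists_constituent hc h0
  refine ⟨⟨ψ, hψ⟩, ?_⟩
  rw [hcl]
  exact_mod_cast hn.ne'

/-- A central element on which a central character takes the value `1` has a class on which
both its coefficient and the central character are units. -/
theorem exists_unit_class (hM : M.IsMaximal) {χ z : G → ℂ} (hχ : IsIrrCharacter G χ)
    (hz : IsClassFunction G z) (hzR : ∀ g, MemLocalRing M (z g)) (h1 : om χ z = 1) :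
    ∃ x : G, ¬ MemLocalIdeal M (z x) ∧ ¬ MemLocalIdeal M (centralChar χ x) := by
  classical
  by_contra hcon
  push Not at hcon
  have := om_eq_sum_classes (IsCharacter.isClassFunction (IsIrrCharacter.isCharacter hχ)) hz
  rw [h1] at this
  apply not_memLocalIdeal_one hM
  rw [this]
  refine memLocalIdeal_sum hM _ _ fun C _ => ?_
  by_cases hzC : MemLocalIdeal M (z C.out)
  · have := memLocalIdeal_mul_int hM hzC (isIntegral_centralChar hχ C.out)
    rw [mul_comm]
    exact this
  · have := memLocalIdeal_mul_ring hM (hcon _ hzC) (hzR C.out)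
    exact this

section Normal

variable (N : Subgroup G) [hN : N.Normal] [Fintype N]

/-- `G`-invariance of a set of characters of the normal subgroup `N`. -/
def Invariant (b : Set (IrrCharacter N)) : Prop :=
  ∀ g : G, ∀ θ ∈ b, ∀ θ' : IrrCharacter N,
    (∀ n : N, (θ' : N → ℂ) n = (θ : N → ℂ) ⟨g * n * g⁻¹, hN.conj_mem n n.2 g⟩) → θ' ∈ b

omit [Fintype G] [Fintype N] in
theorem conjUnion_eq_of_invariant (b : Set (IrrCharacter N)) (hinv : Invariant N b) :
    conjUnion N b = b := by
  ext φ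
  constructor
  · rintro ⟨g, θ', hθ', hφ⟩
    refine hinv g θ' hθ' φ fun n => ?_
    rw [hφ, conjFn_apply]
  · intro hφ
    exact ⟨1, φ, hφ, (conjFn_one N _).symm⟩

omit [Fintype G] [Fintype N] in
theorem conjFn_mem_of_invariant (b : Set (IrrCharacter N)) (hinv : Invariant N b)
    (θ : IrrCharacter N) (hθ : θ ∈ b) (g : G) :
    (⟨conjFn N (θ : N → ℂ) g, IsIrrCharacter.conjFn θ.2 g⟩ : IrrCharacter N) ∈ b :=
  hinv g θ hθ _ fun _ => rfl

/-- The number of `N`-classes in the `G`-class of `x`. -/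
noncomputable def nCl (x : N) : ℕ :=
  Nat.card {C : ConjClasses N // IsConj (x : G) ((C.out : N) : G)}

theorem sum_classIndOn [Fintype (ConjClasses N)] (x : N) :
    ∑ C : ConjClasses N, classIndOn N (x : G) C.out = (nCl N x : ℂ) := by
  classical
  unfold classIndOn nCl
  rw [Finset.sum_boole, Nat.card_eq_fintype_card, Fintype.card_subtype]

open Classical in
/-- For an invariant block `b`, the induced central character at `x ∈ N` is congruent to the
number of `N`-classes in the `G`-class times the central character. -/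
theorem induced_sub_nCl_mul (hMm : M.IsMaximal) (b : Set (IrrCharacter N)) (hb : IsPBlock M b)
    (hinv : Invariant N b) (θ : IrrCharacter N) (hθ : θ ∈ b) (x : N) :
    MemLocalIdeal M (inducedCentralChar N (θ : N → ℂ) (x : G)
      - (nCl N x : ℂ) * centralChar (θ : N → ℂ) x) := by
  have hθcf := IsCharacter.isClassFunction (IsIrrCharacter.isCharacter θ.2)
  rw [inducedCentralChar_eq_om, om_eq_sum_classes hθcf (classIndOn_isClassFunction N (x : G))]
  have key : ∀ (inst : Fintype (ConjClasses N)), MemLocalIdeal M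
      ((@Finset.sum _ _ _ (@Finset.univ _ inst) fun C : ConjClasses N =>
        classIndOn N (x : G) C.out * centralChar (θ : N → ℂ) C.out)
        - (nCl N x : ℂ) * centralChar (θ : N → ℂ) x) := by
    intro inst
    rw [← @sum_classIndOn _ _ _ N _ _ inst x, Finset.sum_mul, ← Finset.sum_sub_distrib]
    refine memLocalIdeal_sum hMm _ _ fun C _ => ?_
    rw [← mul_sub]
    by_cases hc : IsConj (x : G) ((C.out : N) : G)
    · obtain ⟨t, ht⟩ := isConj_iff.mp hc
      have e : C.out = MulAut.conjNormal t x := by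
        apply Subtype.ext
        rw [MulAut.conjNormal_apply]
        exact ht.symm
      rw [e, ← centralChar_conjFn]
      obtain ⟨θ₀, rfl⟩ := hb
      have h1 : SameBlock M (θ₀ : N → ℂ) (θ : N → ℂ) := hθ
      have h2 : SameBlock M (θ₀ : N → ℂ) (conjFn N (θ : N → ℂ) t) :=
        conjFn_mem_of_invariant N _ hinv θ hθ t
      have h3 := sameBlock_trans hMm (sameBlock_symm hMm h2) h1
      have := memLocalIdeal_mul_ring hMm (h3 x) (classIndOn_memLocalRing hMm N (x : G)
        (MulAut.conjNormal t x))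
      exact this
    · have : classIndOn N (x : G) C.out = 0 := by
        unfold classIndOn
        rw [if_neg hc]
      rw [this, zero_mul]
      exact memLocalIdeal_zero hMm
  exact key _

open Classical in
/-- The class of `x` in `G` is the union of `nCl` classes of `N` of equal size. -/
theorem index_centralizer_eq_nCl_mul (x : N) :
    (Subgroup.centralizer ({(x : G)} : Set G)).index
      = nCl N x * (Subgroup.centralizer ({x} : Set N)).index := by
  have he : classInner (fun n : N => (fun _ : G => (1 : ℂ)) n) (fun _ : N => (1 : ℂ)) ≠ 0 := by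
    have := classInner_irr_self (isIrrCharacter_one (G := N))
    rw [this]
    exact one_ne_zero
  have h1 := centralChar_eq_induced_of_over N (isIrrCharacter_one (G := G))
    (isIrrCharacter_one (G := N)) he x
  have hcf := IsCharacter.isClassFunction
    (IsIrrCharacter.isCharacter (isIrrCharacter_one (G := N)))
  rw [inducedCentralChar_eq_om, om_eq_sum_classes hcf (classIndOn_isClassFunction N (x : G))]
    at h1
  have h2 : ∀ C : ConjClasses N, classIndOn N (x : G) C.out
      * centralChar (fun _ : N => (1 : ℂ)) C.out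
      = classIndOn N (x : G) C.out * ((Subgroup.centralizer ({x} : Set N)).index : ℂ) := by
    intro C
    by_cases hc : IsConj (x : G) ((C.out : N) : G)
    · obtain ⟨t, ht⟩ := isConj_iff.mp hc
      have e : C.out = MulAut.conjNormal t x := by
        apply Subtype.ext
        rw [MulAut.conjNormal_apply]
        exact ht.symm
      rw [e]
      unfold centralChar
      rw [index_centralizer_conjNormal, mul_one, div_one]
    · have : classIndOn N (x : G) C.out = 0 := by
        unfold classIndOn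
        rw [if_neg hc]
      rw [this, zero_mul, zero_mul]
  have key : ∀ (inst : Fintype (ConjClasses N)),
      (@Finset.sum _ _ _ (@Finset.univ _ inst) fun C : ConjClasses N =>
        classIndOn N (x : G) C.out * centralChar (fun _ : N => (1 : ℂ)) C.out)
      = (nCl N x : ℂ) * ((Subgroup.centralizer ({x} : Set N)).index : ℂ) := by
    intro inst
    rw [Finset.sum_congr rfl (fun C _ => h2 C), ← Finset.sum_mul, sum_classIndOn]
  rw [key] at h1
  unfold centralChar at h1
  rw [mul_one, div_one] at h1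
  exact_mod_cast h1

end Normal

section Core

variable (N : Subgroup G) [hN : N.Normal] [Fintype N]

/-- The key class in Fong's theorem. -/
theorem fong_core {p : ℕ} [hp : Fact p.Prime] (hM : IsPModular p M) (b : Set (IrrCharacter N))
    (hb : IsPBlock M b) (hinv : Invariant N b) (χ₁ : IrrCharacter G) (θ₁ : IrrCharacter N)
    (hθ₁ : θ₁ ∈ b) (hov : classInner (fun n : N => (χ₁ : G → ℂ) n) (θ₁ : N → ℂ) ≠ 0) :
    ∃ x : N, ¬ MemLocalIdeal M (blockCoeff b x) ∧
      (∀ θ ∈ b, ¬ MemLocalIdeal M (centralChar (θ : N → ℂ) x)) ∧ ¬ p ∣ nCl N x ∧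
      ∀ (χ : IrrCharacter G) (θ : IrrCharacter N), θ ∈ b →
        classInner (fun n : N => (χ : G → ℂ) n) (θ : N → ℂ) ≠ 0 →
        ¬ MemLocalIdeal M (centralChar (χ : G → ℂ) (x : G)) := by
  classical
  have hMm := hM.2.1
  have hom : om (χ₁ : G → ℂ) (conjIdem N b) = 1 := by
    rw [om_conjIdem N b χ₁.2 θ₁.2 hov, if_pos]
    exact memB_conjUnion_of_memB N b ((memB_coe b θ₁).mpr hθ₁)
  obtain ⟨x₀, hz, hc⟩ := exists_unit_class hMm χ₁.2 (conjIdem_isClassFunction N b)
    (conjIdem_memLocalRing N hMm b hb) hom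
  have hx₀ : x₀ ∈ N := by
    by_contra h
    apply hz
    rw [conjIdem_supp N b x₀ h]
    exact memLocalIdeal_zero hMm
  have hz' : ¬ MemLocalIdeal M (blockCoeff b (⟨x₀, hx₀⟩ : N)) := by
    have := conjIdem_coe N b (⟨x₀, hx₀⟩ : N)
    rw [conjUnion_eq_of_invariant N b hinv] at this
    rw [← this]
    exact hz
  -- the congruence for `χ₁`
  have hcong : ∀ (χ : IrrCharacter G) (θ : IrrCharacter N), θ ∈ b →
      classInner (fun n : N => (χ : G → ℂ) n) (θ : N → ℂ) ≠ 0 →
      MemLocalIdeal M (centralChar (χ : G → ℂ) ((⟨x₀, hx₀⟩ : N) : G)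
        - (nCl N (⟨x₀, hx₀⟩ : N) : ℂ) * centralChar (θ : N → ℂ) (⟨x₀, hx₀⟩ : N)) := by
    intro χ θ hθ hov'
    rw [centralChar_eq_induced_of_over N χ.2 θ.2 hov' (⟨x₀, hx₀⟩ : N)]
    exact induced_sub_nCl_mul N hMm b hb hinv θ hθ _
  have hprod : ¬ MemLocalIdeal M ((nCl N (⟨x₀, hx₀⟩ : N) : ℂ)
      * centralChar (θ₁ : N → ℂ) (⟨x₀, hx₀⟩ : N)) := by
    intro h
    apply hc
    have := memLocalIdeal_add hMm (hcong χ₁ θ₁ hθ₁ hov) h
    rwa [sub_add_cancel] at this
  have hnp : ¬ p ∣ nCl N (⟨x₀, hx₀⟩ : N) := by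
    rintro ⟨k, hk⟩
    apply hprod
    rw [hk, Nat.cast_mul, mul_assoc]
    have h1 := memLocalIdeal_p hM
    have h2 : MemLocalRing M ((k : ℂ) * centralChar (θ₁ : N → ℂ) (⟨x₀, hx₀⟩ : N)) :=
      memLocalRing_of_isIntegral hMm ((isIntegral_nat k).mul (isIntegral_centralChar θ₁.2 _))
    have := memLocalIdeal_mul_ring hMm h1 h2
    rwa [mul_comm] at this
  have hθ₁u : ¬ MemLocalIdeal M (centralChar (θ₁ : N → ℂ) (⟨x₀, hx₀⟩ : N)) := by
    intro h
    apply hprod
    exact memLocalIdeal_mul_ring hMm h (memLocalRing_of_isIntegral hMm (isIntegral_nat _))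
  have hall : ∀ θ ∈ b, ¬ MemLocalIdeal M (centralChar (θ : N → ℂ) (⟨x₀, hx₀⟩ : N)) := by
    obtain ⟨θ₀, rfl⟩ := hb
    exact unit_centralChar_of_exists hMm θ₀ _ ⟨θ₁, hθ₁, hθ₁u⟩
  refine ⟨⟨x₀, hx₀⟩, hz', hall, hnp, ?_⟩
  intro χ θ hθ hov' hmem
  have h1 := memLocalIdeal_sub hMm hmem (hcong χ θ hθ hov')
  rw [sub_sub_cancel] at h1
  have hcop : (nCl N (⟨x₀, hx₀⟩ : N)).Coprime p :=
    (Nat.coprime_comm.mp ((Nat.Prime.coprime_iff_not_dvd hp.out).mpr hnp))
  have h2 := memLocalIdeal_mul_ring hMm h1 (memLocalRing_natCast_inv hM _ hcop)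
  have hne : (nCl N (⟨x₀, hx₀⟩ : N) : ℂ) ≠ 0 := by
    intro h0
    apply hnp
    have : nCl N (⟨x₀, hx₀⟩ : N) = 0 := by exact_mod_cast h0
    rw [this]
    exact dvd_zero p
  rw [← mul_assoc, inv_mul_cancel₀ hne, one_mul] at h2
  exact hall θ hθ h2

/-- The defect of a block is read off from a defect class. -/
theorem blockDefect_eq_of_defectClass {p : ℕ} [hp : Fact p.Prime] (hM : IsPModular p M)
    (ψ₀ : IrrCharacter G) (x : G) (hx : IsDefectClass M (blockOf M (ψ₀ : G → ℂ)) x) :
    blockDefect p (blockOf M (ψ₀ : G → ℂ))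
      = (Nat.card (Subgroup.centralizer ({x} : Set G))).factorization p := by
  obtain ⟨S⟩ : Nonempty (Sylow p (Subgroup.centralizer ({x} : Set G))) := inferInstance
  have hD : IsDefectGroup p M (blockOf M (ψ₀ : G → ℂ))
      ((S : Subgroup (Subgroup.centralizer ({x} : Set G))).map
        (Subgroup.centralizer ({x} : Set G)).subtype) := ⟨x, hx, S, rfl⟩
  have h1 := card_defectGroup hM ψ₀ _ hD
  rw [Subgroup.card_map_of_injective (Subgroup.subtype_injective _)] at h1
  have h2 := S.card_eq_multiplicity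
  rw [h1] at h2
  exact Nat.pow_right_injective hp.out.two_le h2

end Core

section Cover

variable (N : Subgroup G) [hN : N.Normal] [Fintype N]

/-- If the idempotent of the invariant block `b` is a unit at `x`, then so is the idempotent
of some block covering `b`. -/
theorem exists_cover_unit (hMm : M.IsMaximal) (b : Set (IrrCharacter N))
    (hb : IsPBlock M b) (hinv : Invariant N b) (x : N)
    (hx : ¬ MemLocalIdeal M (blockCoeff b x)) :
    ∃ (ψ₀ : IrrCharacter G) (θ' : IrrCharacter N), θ' ∈ b ∧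
      classInner (fun n : N => (ψ₀ : G → ℂ) n) (θ' : N → ℂ) ≠ 0 ∧
      ¬ MemLocalIdeal M (blockCoeff (blockOf M (ψ₀ : G → ℂ)) (x : G)) := by
  classical
  have hzcf := conjIdem_isClassFunction N b
  have hzR := conjIdem_memLocalRing N hMm b hb
  have hD1 : ∀ ψ : G → ℂ, IsIrrCharacter G ψ → om ψ (conjIdem N b)
      = if MemB {ψ : IrrCharacter G | om (ψ : G → ℂ) (conjIdem N b) = 1} ψ then 1 else 0 := by
    intro ψ hψ
    obtain ⟨θ', hθ'⟩ := exists_under N hψ
    have h1 := om_conjIdem N b hψ θ'.2 hθ'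
    by_cases hm : MemB (conjUnion N b) (θ' : N → ℂ)
    · rw [if_pos hm] at h1
      rw [h1, if_pos]
      exact ⟨hψ, h1⟩
    · rw [if_neg hm] at h1
      rw [h1, if_neg]
      rintro ⟨_, h2⟩
      have : om ψ (conjIdem N b) = 1 := h2
      rw [h1] at this
      exact zero_ne_one this
  have hD2 : ∀ g, conjIdem N b g
      = blockCoeff {ψ : IrrCharacter G | om (ψ : G → ℂ) (conjIdem N b) = 1} g := by
    have hdiff : (fun g => conjIdem N b g
        - blockCoeff {ψ : IrrCharacter G | om (ψ : G → ℂ) (conjIdem N b) = 1} g) = 0 := by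
      apply eq_zero_of_om_eq_zero
      · intro g t
        show conjIdem N b (t * g * t⁻¹) - blockCoeff _ (t * g * t⁻¹)
          = conjIdem N b g - blockCoeff _ g
        rw [hzcf g t, blockCoeff_isClassFunction _ g t]
      · intro ψ hψ
        rw [om_sub, hD1 ψ hψ, om_blockCoeff _ hψ, sub_self]
    intro g
    have := congrFun hdiff g
    simp only [Pi.zero_apply] at this
    exact sub_eq_zero.mp this
  have hD3 : ∀ φ ∈ {ψ : IrrCharacter G | om (ψ : G → ℂ) (conjIdem N b) = 1},
      ∀ φ' : IrrCharacter G, SameBlock M (φ : G → ℂ) (φ' : G → ℂ) →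
      φ' ∈ {ψ : IrrCharacter G | om (ψ : G → ℂ) (conjIdem N b) = 1} := by
    intro φ hφ φ' hs
    have h1 := om_sub_mem hMm (IsCharacter.isClassFunction (IsIrrCharacter.isCharacter φ.2))
      (IsCharacter.isClassFunction (IsIrrCharacter.isCharacter φ'.2)) hs hzcf hzR
    have h2 : om (φ : G → ℂ) (conjIdem N b) = 1 := hφ
    rw [h2, hD1 _ φ'.2] at h1
    by_cases hm : MemB {ψ : IrrCharacter G | om (ψ : G → ℂ) (conjIdem N b) = 1} (φ' : G → ℂ)
    · exact (memB_coe _ φ').mp hm
    · rw [if_neg hm, sub_zero] at h1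
      exact absurd h1 (not_memLocalIdeal_one hMm)
  have hsum := blockCoeff_closed_eq_sum hMm _ hD3 (x : G)
  have hzx : ¬ MemLocalIdeal M
      (blockCoeff {ψ : IrrCharacter G | om (ψ : G → ℂ) (conjIdem N b) = 1} (x : G)) := by
    rw [← hD2, conjIdem_coe, conjUnion_eq_of_invariant N b hinv]
    exact hx
  rw [hsum] at hzx
  by_contra hcon
  apply hzx
  refine memLocalIdeal_sum hMm _ _ fun β hβ => ?_
  obtain ⟨ψ₀, hψ₀S, rfl⟩ := Finset.mem_image.mp hβ
  have hψ₀irr := mem_irrFinset.mp (Finset.mem_filter.mp hψ₀S).1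
  have hψ₀O : MemB {ψ : IrrCharacter G | om (ψ : G → ℂ) (conjIdem N b) = 1} ψ₀ :=
    (Finset.mem_filter.mp hψ₀S).2
  by_contra hnot
  apply hcon
  obtain ⟨θ', hθ'⟩ := exists_under N hψ₀irr
  have h1 := om_conjIdem N b hψ₀irr θ'.2 hθ'
  have h2 : om ψ₀ (conjIdem N b) = 1 := by
    obtain ⟨_, h⟩ := hψ₀O
    exact h
  have hm : MemB (conjUnion N b) (θ' : N → ℂ) := by
    by_contra hm
    rw [if_neg hm] at h1
    rw [h1] at h2
    exact zero_ne_one h2
  rw [conjUnion_eq_of_invariant N b hinv] at hm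
  exact ⟨⟨ψ₀, hψ₀irr⟩, θ', (memB_coe b θ').mp hm, hθ', hnot⟩

end Cover

section Main

variable (N : Subgroup G) [hN : N.Normal] [Fintype N]

/-- **Fong's theorem** on covering blocks of maximal defect of an invariant block. -/
theorem fong {p : ℕ} [hp : Fact p.Prime] (hM : IsPModular p M) (b : Set (IrrCharacter N))
    (hb : IsPBlock M b) (hinv : Invariant N b) (B : Set (IrrCharacter G)) (hB : IsPBlock M B)
    (hcov : ∃ χ ∈ B, ∃ θ ∈ b, classInner (fun n : N => (χ : G → ℂ) n) (θ : N → ℂ) ≠ 0)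
    (hmax : ∀ B' : Set (IrrCharacter G), IsPBlock M B' →
      (∃ χ ∈ B', ∃ θ ∈ b, classInner (fun n : N => (χ : G → ℂ) n) (θ : N → ℂ) ≠ 0) →
      blockDefect p B' ≤ blockDefect p B)
    (P : Subgroup G) (hP : IsDefectGroup p M B P) :
    ¬ p ∣ (P ⊔ N).index ∧ IsDefectGroup p M b ((P ⊓ N).subgroupOf N) ∧
      blockDefect p B = blockDefect p b + N.index.factorization p := by
  classical
  have hMm := hM.2.1
  obtain ⟨χ₁, hχ₁, θ₁, hθ₁, hov⟩ := hcov
  obtain ⟨x, hxa, hxb, hxc, hxd⟩ := fong_core N hM b hb hinv χ₁ θ₁ hθ₁ hov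
  obtain ⟨θ₀, rfl⟩ := hb
  obtain ⟨χ₀, rfl⟩ := hB
  have hdcb : IsDefectClass M (blockOf M (θ₀ : N → ℂ)) x :=
    ⟨memLocalRing_blockCoeff hMm θ₀.2 x, hxa, hxb⟩
  have hdb := blockDefect_eq_of_defectClass hM θ₀ x hdcb
  obtain ⟨ψ₀, θ', hθ', hov', hunit⟩ := exists_cover_unit N hMm _ ⟨θ₀, rfl⟩ hinv x hxa
  have hdcB' : IsDefectClass M (blockOf M (ψ₀ : G → ℂ)) (x : G) := by
    refine ⟨memLocalRing_blockCoeff hMm ψ₀.2 _, hunit, ?_⟩
    exact unit_centralChar_of_exists hMm ψ₀ _
      ⟨ψ₀, self_mem_blockOf hMm ψ₀, hxd ψ₀ θ' hθ' hov'⟩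
  have hdB' := blockDefect_eq_of_defectClass hM ψ₀ (x : G) hdcB'
  have hle1 := hmax _ ⟨ψ₀, rfl⟩ ⟨ψ₀, self_mem_blockOf hMm ψ₀, θ', hθ', hov'⟩
  rw [hdB'] at hle1
  have hPp : IsPGroup p P := isPGroup_of_isDefectGroup hP
  have hcardP := card_defectGroup hM χ₀ P hP
  obtain ⟨g₀, hg₀, S₀, hS₀⟩ := hP
  have hPg : P ≤ Subgroup.centralizer ({g₀} : Set G) := by
    rw [hS₀]
    rintro _ ⟨s, _, rfl⟩
    exact s.2
  obtain ⟨t, Q, htQ⟩ := minmax_central hM χ₀ g₀ hg₀ P hPp hPg (x : G)
    ⟨χ₁, hχ₁, hxd χ₁ θ₁ hθ₁ hov⟩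
  have hx'coe : ((MulAut.conjNormal t⁻¹ x : N) : G) = t⁻¹ * x * t := by
    rw [MulAut.conjNormal_apply, inv_inv]
  have hPx' : P ≤ Subgroup.centralizer ({((MulAut.conjNormal t⁻¹ x : N) : G)} : Set G) := by
    intro u hu
    have h1 : t * u * t⁻¹ ∈ (Q : Subgroup _).map
        (Subgroup.centralizer ({(x : G)} : Set G)).subtype := htQ ⟨u, hu, rfl⟩
    obtain ⟨c, _, hc⟩ := h1
    have h2 := Subgroup.mem_centralizer_singleton_iff.mp c.2
    have h3 : (t * u * t⁻¹) * (x : G) = (x : G) * (t * u * t⁻¹) := by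
      rw [← hc]; exact h2
    rw [Subgroup.mem_centralizer_singleton_iff, hx'coe]
    calc u * (t⁻¹ * (x : G) * t) = t⁻¹ * ((t * u * t⁻¹) * (x : G)) * t := by group
      _ = t⁻¹ * ((x : G) * (t * u * t⁻¹)) * t := by rw [h3]
      _ = (t⁻¹ * (x : G) * t) * u := by group
  have hcx' : Nat.card (Subgroup.centralizer ({((MulAut.conjNormal t⁻¹ x : N) : G)} : Set G))
      = Nat.card (Subgroup.centralizer ({(x : G)} : Set G)) := by
    rw [MulAut.conjNormal_apply]
    exact card_centralizer_conj (x : G) t⁻¹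
  have hle2 : blockDefect p (blockOf M (χ₀ : G → ℂ))
      ≤ (Nat.card (Subgroup.centralizer ({(x : G)} : Set G))).factorization p := by
    have hdvd := Subgroup.card_dvd_of_le hPx'
    rw [hcardP, hcx'] at hdvd
    exact (Nat.Prime.pow_dvd_iff_le_factorization hp.out Nat.card_pos.ne').mp hdvd
  have hdB : blockDefect p (blockOf M (χ₀ : G → ℂ))
      = (Nat.card (Subgroup.centralizer ({(x : G)} : Set G))).factorization p :=
    le_antisymm hle2 hle1
  -- arithmetic
  have hidx := index_centralizer_eq_nCl_mul N x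
  have hn0 : nCl N x ≠ 0 := fun h => hxc (h ▸ dvd_zero p)
  have hνidx : (Subgroup.centralizer ({(x : G)} : Set G)).index.factorization p
      = (Subgroup.centralizer ({x} : Set N)).index.factorization p := by
    rw [hidx, Nat.factorization_mul hn0 Subgroup.index_ne_zero_of_finite, Finsupp.add_apply,
      Nat.factorization_eq_zero_of_not_dvd hxc, zero_add]
  have hGf : (Nat.card G).factorization p
      = (Nat.card (Subgroup.centralizer ({(x : G)} : Set G))).factorization p
        + (Subgroup.centralizer ({(x : G)} : Set G)).index.factorization p := by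
    rw [← Subgroup.card_mul_index (Subgroup.centralizer ({(x : G)} : Set G)),
      Nat.factorization_mul Nat.card_pos.ne' Subgroup.index_ne_zero_of_finite, Finsupp.add_apply]
  have hNf : (Nat.card N).factorization p
      = (Nat.card (Subgroup.centralizer ({x} : Set N))).factorization p
        + (Subgroup.centralizer ({x} : Set N)).index.factorization p := by
    rw [← Subgroup.card_mul_index (Subgroup.centralizer ({x} : Set N)),
      Nat.factorization_mul Nat.card_pos.ne' Subgroup.index_ne_zero_of_finite, Finsupp.add_apply]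
  have hGN : (Nat.card G).factorization p
      = (Nat.card N).factorization p + N.index.factorization p := by
    rw [← Subgroup.card_mul_index N,
      Nat.factorization_mul Nat.card_pos.ne' Subgroup.index_ne_zero_of_finite, Finsupp.add_apply]
  have h3 : blockDefect p (blockOf M (χ₀ : G → ℂ))
      = blockDefect p (blockOf M (θ₀ : N → ℂ)) + N.index.factorization p := by
    omega
  -- the intersection with `N`
  have hEp : IsPGroup p ((P ⊓ N).subgroupOf N) :=
    (hPp.to_le inf_le_left).comap_of_injective N.subtype (Subgroup.subtype_injective N)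
  have hEx' : (P ⊓ N).subgroupOf N
      ≤ Subgroup.centralizer ({(MulAut.conjNormal t⁻¹ x : N)} : Set N) := by
    intro e he
    rw [Subgroup.mem_subgroupOf] at he
    have := Subgroup.mem_centralizer_singleton_iff.mp (hPx' he.1)
    rw [Subgroup.mem_centralizer_singleton_iff]
    apply Subtype.ext
    simp only [Subgroup.coe_mul]
    exact this
  have hbx' : ¬ MemLocalIdeal M (blockCoeff (blockOf M (θ₀ : N → ℂ))
      (MulAut.conjNormal t⁻¹ x : N)) := by
    have := blockCoeff_conjUnion_conj N (blockOf M (θ₀ : N → ℂ)) t⁻¹ x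
    rw [conjUnion_eq_of_invariant N _ hinv] at this
    rw [this]
    exact hxa
  obtain ⟨Δ⟩ : Nonempty (Sylow p (Subgroup.centralizer ({x} : Set N))) := inferInstance
  have hΔ : IsDefectGroup p M (blockOf M (θ₀ : N → ℂ))
      ((Δ : Subgroup (Subgroup.centralizer ({x} : Set N))).map
        (Subgroup.centralizer ({x} : Set N)).subtype) := ⟨x, hdcb, Δ, rfl⟩
  obtain ⟨y, hy⟩ := minmax_support hM θ₀ x hdcb Δ (MulAut.conjNormal t⁻¹ x : N) hbx'
    ((P ⊓ N).subgroupOf N) hEp hEx'
  have hcardΔ := card_defectGroup hM θ₀ _ hΔ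
  have hcardE : Nat.card ((P ⊓ N).subgroupOf N) = Nat.card (P ⊓ N : Subgroup G) :=
    Nat.card_congr (Subgroup.subgroupOfEquivOfLe inf_le_right).toEquiv
  have hcardconj : Nat.card (((Δ : Subgroup (Subgroup.centralizer ({x} : Set N))).map
      (Subgroup.centralizer ({x} : Set N)).subtype).map (MulAut.conj y).toMonoidHom)
      = Nat.card ((Δ : Subgroup (Subgroup.centralizer ({x} : Set N))).map
      (Subgroup.centralizer ({x} : Set N)).subtype) :=
    Subgroup.card_map_of_injective (f := (MulAut.conj y).toMonoidHom) (MulAut.conj y).injective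
  have hEle : Nat.card (P ⊓ N : Subgroup G) ≤ p ^ blockDefect p (blockOf M (θ₀ : N → ℂ)) := by
    rw [← hcardE, ← hcardΔ, ← hcardconj]
    exact Nat.le_of_dvd Nat.card_pos (Subgroup.card_dvd_of_le hy)
  -- |P| = |P ⊓ N| * N.relIndex P
  have hmul := card_mul_relIndex_of_le (inf_le_left : P ⊓ N ≤ P)
  rw [Subgroup.inf_relIndex_left] at hmul
  have hreldvd : N.relIndex P ∣ N.index := Subgroup.relIndex_dvd_index_of_normal N P
  -- exponents
  obtain ⟨i, hi⟩ : ∃ i, Nat.card (P ⊓ N : Subgroup G) = p ^ i :=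
    (IsPGroup.iff_card.mp (hPp.to_le inf_le_left))
  have hrelpow : ∃ j, N.relIndex P = p ^ j := by
    have hd : N.relIndex P ∣ p ^ blockDefect p (blockOf M (χ₀ : G → ℂ)) := by
      rw [← hcardP, ← hmul]
      exact dvd_mul_left _ _
    obtain ⟨j, _, hj⟩ := (Nat.dvd_prime_pow hp.out).mp hd
    exact ⟨j, hj⟩
  obtain ⟨j, hj⟩ := hrelpow
  have hile : i ≤ blockDefect p (blockOf M (θ₀ : N → ℂ)) := by
    rw [hi] at hEle
    exact (Nat.pow_le_pow_iff_right hp.out.one_lt).mp hEle
  have hjle : j ≤ N.index.factorization p := by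
    rw [hj] at hreldvd
    exact (Nat.Prime.pow_dvd_iff_le_factorization hp.out Subgroup.index_ne_zero_of_finite).mp
      hreldvd
  have hij : i + j = blockDefect p (blockOf M (χ₀ : G → ℂ)) := by
    rw [hcardP, hi, hj, ← pow_add] at hmul
    exact Nat.pow_right_injective hp.out.two_le hmul
  have hi' : i = blockDefect p (blockOf M (θ₀ : N → ℂ)) := by omega
  have hj' : j = N.index.factorization p := by omega
  refine ⟨?_, ?_, h3⟩
  · -- index of `P ⊔ N`
    have hsup := card_mul_relIndex_of_le (le_sup_right : N ≤ P ⊔ N)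
    rw [Subgroup.relIndex_sup_right, hj, hj'] at hsup
    have htot := Subgroup.card_mul_index (P ⊔ N)
    rw [← hsup, ← Subgroup.card_mul_index N, mul_assoc] at htot
    have hcancel : p ^ N.index.factorization p * (P ⊔ N).index = N.index :=
      Nat.eq_of_mul_eq_mul_left Nat.card_pos htot
    intro hdvd
    obtain ⟨k, hk⟩ := hdvd
    have : p ^ (N.index.factorization p + 1) ∣ N.index := by
      have h : p ^ (N.index.factorization p + 1)
          ∣ p ^ N.index.factorization p * (P ⊔ N).index := by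
        rw [pow_succ]
        exact Nat.mul_dvd_mul_left _ ⟨k, hk⟩
      rwa [hcancel] at h
    exact Nat.pow_succ_factorization_not_dvd Subgroup.index_ne_zero_of_finite hp.out this
  · -- `P ⊓ N` is a defect group of `b`
    have hge : Nat.card (((Δ : Subgroup (Subgroup.centralizer ({x} : Set N))).map
        (Subgroup.centralizer ({x} : Set N)).subtype).map (MulAut.conj y).toMonoidHom)
        ≤ Nat.card ((P ⊓ N).subgroupOf N) := by
      rw [hcardconj, hcardΔ, hcardE, hi, hi']
    have heq := Subgroup.eq_of_le_of_card_ge hy hge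
    rw [heq]
    exact isDefectGroup_conj hΔ y

end Main

end Cfsg.Agent.Lib.Helper2_Fong
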