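import Mathlib

set_option autoImplicit false

/-!
# The number of `p`-regular elements of a finite group is prime to `p`
-/

namespace Cfsg.Agent.Lib.Helper2_PRegCount

variable {G : Type*} [Group G]

theorem normal_of_le_center'' (Z : Subgroup G) (hcent : Z ≤ Subgroup.center G) : Z.Normal := by
  refine ⟨fun z hz g => ?_⟩
  have h := Subgroup.mem_center_iff.mp (hcent hz) g
  have : g * z * g⁻¹ = z := by rw [h, mul_assoc, mul_inv_cancel, mul_one]
  rw [this]
  exact hz

/-- For a central `p`-subgroup `Z` of index prime to `p`, the `p`-regular elements are a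
transversal. -/
theorem card_pRegular_of_central [Finite G] (p : ℕ) [hp : Fact p.Prime] (Z : Subgroup G)
    (hZ : IsPGroup p Z) (hcent : Z ≤ Subgroup.center G) (hidx : ¬ p ∣ Z.index) :
    Nat.card {y : G // ¬ p ∣ orderOf y} = Z.index := by
  haveI : Z.Normal := normal_of_le_center'' Z hcent
  rw [Subgroup.index]
  apply Nat.card_congr
  refine Equiv.ofBijective (fun y => (QuotientGroup.mk (y : G) : G ⧸ Z)) ⟨?_, ?_⟩
  · rintro ⟨y, hy⟩ ⟨y', hy'⟩ h
    simp only at h
    rw [QuotientGroup.eq] at h
    apply Subtype.ext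
    simp only
    have hwc : ∀ g, g * (y⁻¹ * y') = (y⁻¹ * y') * g :=
      fun g => (Subgroup.mem_center_iff.mp (hcent h) g)
    have hy'eq : y' = y * (y⁻¹ * y') := by group
    have hcomm : Commute y (y⁻¹ * y') := hwc y
    have hpow : (y⁻¹ * y') ^ (orderOf y * orderOf y') = 1 := by
      have h1 : y' ^ (orderOf y * orderOf y') = 1 := by
        rw [mul_comm, pow_mul, pow_orderOf_eq_one, one_pow]
      rw [hy'eq, hcomm.mul_pow, pow_mul, pow_orderOf_eq_one, one_pow, one_mul] at h1
      rw [← hy'eq] at h1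
      exact h1
    obtain ⟨k, hk⟩ := (IsPGroup.iff_orderOf.mp hZ) ⟨y⁻¹ * y', h⟩
    have hk' : orderOf (y⁻¹ * y') = p ^ k := by
      rw [← hk]; exact (Subgroup.orderOf_mk _ h).symm
    have hdvd : orderOf (y⁻¹ * y') ∣ orderOf y * orderOf y' := orderOf_dvd_of_pow_eq_one hpow
    have hk0 : k = 0 := by
      by_contra hne
      have : p ∣ orderOf y * orderOf y' :=
        dvd_trans (by rw [hk']; exact dvd_pow_self p hne) hdvd
      rcases (hp.out.dvd_mul).mp this with h | h
      · exact hy h
      · exact hy' h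
    rw [hk0, pow_zero, orderOf_eq_one_iff] at hk'
    rw [hy'eq, hk', mul_one]
  · intro q
    obtain ⟨c, rfl⟩ := QuotientGroup.mk_surjective q
    have hcm : c ^ Z.index ∈ Z := Subgroup.pow_index_mem Z c
    have hcop : (Nat.card Z).Coprime Z.index := by
      obtain ⟨a, ha⟩ := IsPGroup.iff_card.mp hZ
      rw [ha]
      exact Nat.Coprime.pow_left a ((Nat.Prime.coprime_iff_not_dvd hp.out).mpr hidx)
    obtain ⟨w, hw⟩ : ∃ w : Z, w ^ Z.index = ⟨(c ^ Z.index)⁻¹, inv_mem hcm⟩ :=
      ⟨(powCoprime hcop).symm ⟨(c ^ Z.index)⁻¹, inv_mem hcm⟩,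
        (powCoprime hcop).apply_symm_apply _⟩
    have hwm : (w : G) ^ Z.index = (c ^ Z.index)⁻¹ := by
      have h2 := congrArg (fun z : Z => (z : G)) hw
      simpa using h2
    have hcomm : Commute c (w : G) := (Subgroup.mem_center_iff.mp (hcent w.2) c)
    refine ⟨⟨c * w, ?_⟩, ?_⟩
    · have h1 : (c * (w : G)) ^ Z.index = 1 := by rw [hcomm.mul_pow, hwm, mul_inv_cancel]
      intro hdvd
      exact hidx (dvd_trans hdvd (orderOf_dvd_of_pow_eq_one h1))
    · simp only
      rw [QuotientGroup.eq]
      have : (c * (w : G))⁻¹ * c = (w : G)⁻¹ := by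
        rw [mul_inv_rev, inv_mul_cancel_right]
      rw [this]
      exact inv_mem w.2

/-- The centre of a Sylow `p`-subgroup has index prime to `p` in its centralizer. -/
theorem not_dvd_index_subgroupOf_centralizer [Finite G] (p : ℕ) [hp : Fact p.Prime]
    (P : Sylow p G) :
    ¬ p ∣ ((P : Subgroup G).subgroupOf (Subgroup.centralizer ((P : Subgroup G) : Set G))).index := by
  obtain ⟨S⟩ : Nonempty (Sylow p (Subgroup.centralizer ((P : Subgroup G) : Set G))) :=
    inferInstance
  have hSP : (S : Subgroup (Subgroup.centralizer ((P : Subgroup G) : Set G)))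
      ≤ (P : Subgroup G).subgroupOf (Subgroup.centralizer ((P : Subgroup G) : Set G)) := by
    have hmap : IsPGroup p ((S : Subgroup (Subgroup.centralizer ((P : Subgroup G) : Set G))).map
        (Subgroup.centralizer ((P : Subgroup G) : Set G)).subtype) := S.isPGroup'.map _
    have hnorm : (S : Subgroup (Subgroup.centralizer ((P : Subgroup G) : Set G))).map
        (Subgroup.centralizer ((P : Subgroup G) : Set G)).subtype
        ≤ Subgroup.normalizer ((P : Subgroup G) : Set G) := by
      refine le_trans ?_ (Subgroup.centralizer_le_normalizer _)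
      rintro _ ⟨s, _, rfl⟩
      exact s.2
    have hsup := IsPGroup.to_sup_of_normal_right' hmap P.isPGroup' hnorm
    have heq := P.is_maximal' hsup le_sup_right
    intro s hs
    rw [Subgroup.mem_subgroupOf]
    have : (s : G) ∈ (S : Subgroup (Subgroup.centralizer ((P : Subgroup G) : Set G))).map
        (Subgroup.centralizer ((P : Subgroup G) : Set G)).subtype ⊔ (P : Subgroup G) :=
      Subgroup.mem_sup_left ⟨s, hs, rfl⟩
    rw [heq] at this
    exact this
  intro hdvd
  exact S.not_dvd_index (dvd_trans hdvd (Subgroup.index_dvd_of_le hSP))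

/-- The conjugation action of a subgroup on the `p`-regular elements. -/
@[instance_reducible]
def pRegAction (p : ℕ) (P : Subgroup G) : MulAction P {g : G // ¬ p ∣ orderOf g} where
  smul u g := ⟨(u : G) * g * (u : G)⁻¹, by
    have : orderOf ((u : G) * g * (u : G)⁻¹) = orderOf (g : G) :=
      (MulAut.conj (u : G)).orderOf_eq g
    rw [this]; exact g.2⟩
  one_smul g := by
    apply Subtype.ext
    show ((1 : P) : G) * g * ((1 : P) : G)⁻¹ = g
    simp
  mul_smul u v g := by
    apply Subtype.ext
    show ((u * v : P) : G) * g * ((u * v : P) : G)⁻¹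
      = (u : G) * ((v : G) * g * (v : G)⁻¹) * (u : G)⁻¹
    simp [mul_assoc]

/-- **The number of `p`-regular elements of a finite group is prime to `p`.** -/
theorem card_pRegular_not_dvd [Finite G] (p : ℕ) [hp : Fact p.Prime] :
    ¬ p ∣ Nat.card {g : G // ¬ p ∣ orderOf g} := by
  obtain ⟨P⟩ : Nonempty (Sylow p G) := inferInstance
  letI := pRegAction p (P : Subgroup G)
  have h1 := P.isPGroup'.card_modEq_card_fixedPoints {g : G // ¬ p ∣ orderOf g}
  have h2 : Nat.card (MulAction.fixedPoints (P : Subgroup G) {g : G // ¬ p ∣ orderOf g})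
      = Nat.card {y : Subgroup.centralizer ((P : Subgroup G) : Set G) // ¬ p ∣ orderOf y} := by
    apply Nat.card_congr
    refine
      { toFun := fun x => ⟨⟨(x : {g : G // ¬ p ∣ orderOf g}).1, ?_⟩, ?_⟩
        invFun := fun y => ⟨⟨(y.1 : G), ?_⟩, ?_⟩
        left_inv := fun x => ?_
        right_inv := fun y => ?_ }
    · rw [Subgroup.mem_centralizer_iff]
      intro u hu
      have hx := x.2 ⟨u, hu⟩
      have hx' : u * (x : {g : G // ¬ p ∣ orderOf g}).1 * u⁻¹
          = (x : {g : G // ¬ p ∣ orderOf g}).1 := congrArg Subtype.val hx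
      calc u * (x : {g : G // ¬ p ∣ orderOf g}).1
          = (u * (x : {g : G // ¬ p ∣ orderOf g}).1 * u⁻¹) * u := by group
        _ = (x : {g : G // ¬ p ∣ orderOf g}).1 * u := by rw [hx']
    · rw [Subgroup.orderOf_mk]
      exact (x : {g : G // ¬ p ∣ orderOf g}).2
    · rw [Subgroup.orderOf_coe]
      exact y.2
    · intro u
      apply Subtype.ext
      show (u : G) * (y.1 : G) * (u : G)⁻¹ = (y.1 : G)
      have := Subgroup.mem_centralizer_iff.mp y.1.2 (u : G) u.2
      rw [this, mul_assoc, mul_inv_cancel, mul_one]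
    · rfl
    · rfl
  have hcent : (P : Subgroup G).subgroupOf (Subgroup.centralizer ((P : Subgroup G) : Set G))
      ≤ Subgroup.center (Subgroup.centralizer ((P : Subgroup G) : Set G)) := by
    intro z hz
    rw [Subgroup.mem_subgroupOf] at hz
    rw [Subgroup.mem_center_iff]
    intro c
    apply Subtype.ext
    simp only [Subgroup.coe_mul]
    exact (Subgroup.mem_centralizer_iff.mp c.2 (z : G) hz).symm
  have hZp : IsPGroup p ((P : Subgroup G).subgroupOf
      (Subgroup.centralizer ((P : Subgroup G) : Set G))) :=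
    P.isPGroup'.comap_of_injective _ (Subgroup.subtype_injective _)
  have h3 := card_pRegular_of_central p _ hZp hcent (not_dvd_index_subgroupOf_centralizer p P)
  intro hdvd
  have h4 : Nat.card (MulAction.fixedPoints (P : Subgroup G) {g : G // ¬ p ∣ orderOf g})
      ≡ 0 [MOD p] := h1.symm.trans ((Nat.modEq_zero_iff_dvd).mpr hdvd)
  rw [h2, h3] at h4
  exact not_dvd_index_subgroupOf_centralizer p P ((Nat.modEq_zero_iff_dvd).mp h4)

end Cfsg.Agent.Lib.Helper2_PRegCount
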