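import Mathlib
import Cfsg.Prelude.Def_Characters
import Cfsg.Prelude.Def_Blocks
import Cfsg.Prelude.Def_BlockRank
import Cfsg.Agent.Lib.Helper2_ClassFn
import Cfsg.Agent.Lib.Helper2_CharBasic
import Cfsg.Agent.Lib.Helper2_CharOrtho
import Cfsg.Agent.Lib.Helper2_CharMore
import Cfsg.Agent.Lib.Helper2_CharValues
import Cfsg.Agent.Lib.Helper2_CharSum
import Cfsg.Agent.Lib.Helper2_CharCentral
import Cfsg.Agent.Lib.Helper2_ModM
import Cfsg.Agent.Lib.Helper2_Blocks
import Cfsg.Agent.Lib.Helper2_BlockOrtho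
import Cfsg.Agent.Lib.Helper2_BlockMore
import Cfsg.Agent.Lib.Helper2_DefectGroup
import Cfsg.Agent.Lib.Helper2_DefectPCore
import Cfsg.Agent.Lib.Helper2_MinMax
import Cfsg.Agent.Lib.Helper2_InducedBlock
import Cfsg.Agent.Lib.Helper2_BrauerMap
import Cfsg.Agent.Lib.Helper2_InducedDefect
import Cfsg.Agent.Lib.Helper2_BrauerFirst
import Cfsg.Agent.Lib.Helper2_BrauerConverse
import Cfsg.Agent.Lib.Helper2_SylowConj
import Cfsg.Agent.Lib.Helper2_BlockCover
import Cfsg.Agent.Lib.Helper2_BlockConj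
import Cfsg.Agent.Lib.Helper2_FirstMain
import Cfsg.Agent.Lib.Helper2_PRegCount
import Cfsg.Agent.Lib.Helper2_ExtFirstMain

set_option autoImplicit false

/-!
# The third main theorem
-/

namespace Cfsg.Agent.Lib.Helper2_ThirdMain

open Cfsg
open Cfsg.Agent.Lib.Helper2_ClassFn
open Cfsg.Agent.Lib.Helper2_CharBasic
open Cfsg.Agent.Lib.Helper2_CharOrtho
open Cfsg.Agent.Lib.Helper2_CharMore
open Cfsg.Agent.Lib.Helper2_CharValues
open Cfsg.Agent.Lib.Helper2_CharSum
open Cfsg.Agent.Lib.Helper2_CharCentral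
open Cfsg.Agent.Lib.Helper2_ModM
open Cfsg.Agent.Lib.Helper2_Blocks
open Cfsg.Agent.Lib.Helper2_BlockOrtho
open Cfsg.Agent.Lib.Helper2_BlockMore
open Cfsg.Agent.Lib.Helper2_DefectGroup
open Cfsg.Agent.Lib.Helper2_DefectPCore
open Cfsg.Agent.Lib.Helper2_MinMax
open Cfsg.Agent.Lib.Helper2_InducedBlock
open Cfsg.Agent.Lib.Helper2_BrauerMap
open Cfsg.Agent.Lib.Helper2_InducedDefect
open Cfsg.Agent.Lib.Helper2_BrauerFirst
open Cfsg.Agent.Lib.Helper2_BrauerConverse
open Cfsg.Agent.Lib.Helper2_SylowConj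
open Cfsg.Agent.Lib.Helper2_BlockCover
open Cfsg.Agent.Lib.Helper2_BlockConj
open Cfsg.Agent.Lib.Helper2_FirstMain
open Cfsg.Agent.Lib.Helper2_ExtFirstMain
open Cfsg.Agent.Lib.Helper2_PRegCount
open scoped ComplexConjugate

universe u

variable {G : Type u} [Group G] [Fintype G] {M : Ideal AlgInt}

omit [Fintype G] in
theorem rp_one_isClassFunction (p : ℕ) : IsClassFunction G (rp p (fun _ : G => (1 : ℂ))) := by
  classical
  intro g t
  have h : orderOf (t * g * t⁻¹) = orderOf g := (MulAut.conj t).orderOf_eq g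
  unfold rp
  rw [h]

omit [Fintype G] in
theorem rp_one_memLocalRing (hMm : M.IsMaximal) (p : ℕ) (g : G) :
    MemLocalRing M (rp p (fun _ : G => (1 : ℂ)) g) := by
  classical
  unfold rp
  split_ifs
  · exact memLocalRing_zero hMm
  · exact memLocalRing_one hMm

omit [Fintype G] in
theorem rp_one_res (p : ℕ) (H : Subgroup G) :
    (fun k : H => rp p (fun _ : G => (1 : ℂ)) (k : G)) = rp p (fun _ : H => (1 : ℂ)) := by
  classical
  funext k
  unfold rp
  rw [Subgroup.orderOf_coe]

open Classical in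
theorem sum_rp_one (p : ℕ) :
    ∑ g : G, rp p (fun _ : G => (1 : ℂ)) g = (Nat.card {g : G // ¬ p ∣ orderOf g} : ℂ) := by
  unfold rp
  rw [Finset.sum_ite, Finset.sum_const_zero, zero_add, Finset.sum_const, nsmul_eq_mul, mul_one,
    Nat.card_eq_fintype_card, Fintype.card_subtype]

/-- The `p`-regular class sum is killed by the central characters outside the principal block. -/
theorem om_rp_one_of_not_principal {p : ℕ} (hM : IsPModular p M) {χ : G → ℂ}
    (hχ : IsIrrCharacter G χ) (h : ¬ SameBlock M (fun _ : G => (1 : ℂ)) χ) :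
    om χ (rp p (fun _ : G => (1 : ℂ))) = 0 := by
  classical
  have hMm := hM.2.1
  have h0 := classInner_rp_eq_zero hM isIrrCharacter_one isIrrCharacter_one
    (sameBlock_refl hMm _) hχ h
  unfold classInner at h0
  have hG : ((Nat.card G : ℂ))⁻¹ ≠ 0 := inv_ne_zero card_ne_zero_complex
  have h1 : ∑ g : G, rp p (fun _ : G => (1 : ℂ)) g * conj (χ g) = 0 := by
    rcases mul_eq_zero.mp h0 with h | h
    · exact absurd h hG
    · exact h
  have h2 : ∑ g : G, rp p (fun _ : G => (1 : ℂ)) g * χ g = 0 := by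
    have := congrArg conj h1
    rw [map_sum, map_zero] at this
    rw [← this]
    refine Finset.sum_congr rfl fun g _ => ?_
    rw [map_mul, Complex.conj_conj]
    congr 1
    unfold rp
    split_ifs <;> simp
  unfold om
  rw [h2, zero_div]

/-- The `p`-regular class sum is not killed by the central characters of the principal block. -/
theorem om_rp_one_of_principal {p : ℕ} [hp : Fact p.Prime] (hM : IsPModular p M) {χ : G → ℂ}
    (hχ : IsIrrCharacter G χ) (h : SameBlock M (fun _ : G => (1 : ℂ)) χ) :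
    ¬ MemLocalIdeal M (om χ (rp p (fun _ : G => (1 : ℂ)))) := by
  classical
  have hMm := hM.2.1
  have h1 := om_sub_mem hMm
    (IsCharacter.isClassFunction (IsIrrCharacter.isCharacter (isIrrCharacter_one (G := G))))
    (IsCharacter.isClassFunction (IsIrrCharacter.isCharacter hχ)) h
    (rp_one_isClassFunction p) (rp_one_memLocalRing hMm p)
  intro hmem
  have h2 := memLocalIdeal_add hMm h1 hmem
  rw [sub_add_cancel] at h2
  have h3 : om (fun _ : G => (1 : ℂ)) (rp p (fun _ : G => (1 : ℂ)))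
      = (Nat.card {g : G // ¬ p ∣ orderOf g} : ℂ) := by
    unfold om
    rw [div_one, ← sum_rp_one]
    exact Finset.sum_congr rfl fun g _ => mul_one _
  rw [h3] at h2
  exact not_memLocalIdeal_nat hM _
    ((Nat.coprime_comm.mp ((Nat.Prime.coprime_iff_not_dvd hp.out).mpr
      (card_pRegular_not_dvd p)))) h2

/-- Induced central characters extend linearly to central elements. -/
theorem om_res_sub_om_mem (hMm : M.IsMaximal) (H : Subgroup G) [Fintype H] (ξ : H → ℂ)
    {χ : G → ℂ} (hχ : IsClassFunction G χ)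
    (h : ∀ g : G, MemLocalIdeal M (inducedCentralChar H ξ g - centralChar χ g))
    {z : G → ℂ} (hz : IsClassFunction G z) (hzR : ∀ g, MemLocalRing M (z g)) :
    MemLocalIdeal M (om ξ (fun k : H => z k) - om χ z) := by
  classical
  rw [om_res_eq_sum_classes H ξ hz, om_eq_sum_classes hχ hz, ← Finset.sum_sub_distrib]
  refine memLocalIdeal_sum hMm _ _ fun C _ => ?_
  rw [← mul_sub]
  exact memLocalIdeal_mul_ring hMm (h _) (hzR _)

/-- **Brauer's third main theorem.** -/
theorem third_main {p : ℕ} [hp : Fact p.Prime] (hM : IsPModular p M) (H : Subgroup G) [Fintype H]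
    (b : Set (IrrCharacter H)) (hdef : InducedBlockDefined M H b) :
    IsInducedBlock M H b (principalBlock M G) ↔ b = principalBlock M H := by
  classical
  have hMm := hM.2.1
  have key : ∀ (B : Set (IrrCharacter G)), IsInducedBlock M H b B → ∀ ξ ∈ b, ∀ χ ∈ B,
      MemLocalIdeal M (om (ξ : H → ℂ) (rp p (fun _ : H => (1 : ℂ)))
        - om (χ : G → ℂ) (rp p (fun _ : G => (1 : ℂ)))) := by
    intro B hind ξ hξ χ hχ
    have := om_res_sub_om_mem hMm H (ξ : H → ℂ)
      (IsCharacter.isClassFunction (IsIrrCharacter.isCharacter χ.2))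
      (fun g => hind.2.2 ξ hξ χ hχ g) (rp_one_isClassFunction p) (rp_one_memLocalRing hMm p)
    rwa [rp_one_res] at this
  have key2 : ∀ (B : Set (IrrCharacter G)), IsInducedBlock M H b B → ∀ ξ ∈ b, ∀ χ ∈ B,
      (SameBlock M (fun _ : H => (1 : ℂ)) (ξ : H → ℂ)
        ↔ SameBlock M (fun _ : G => (1 : ℂ)) (χ : G → ℂ)) := by
    intro B hind ξ hξ χ hχ
    have hk := key B hind ξ hξ χ hχ
    constructor
    · intro h1
      by_contra h2
      have e := om_rp_one_of_not_principal hM χ.2 h2
      rw [e, sub_zero] at hk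
      exact om_rp_one_of_principal hM ξ.2 h1 hk
    · intro h1
      by_contra h2
      have e := om_rp_one_of_not_principal hM ξ.2 h2
      rw [e, zero_sub] at hk
      have hk' := memLocalIdeal_neg hMm hk
      rw [neg_neg] at hk'
      exact om_rp_one_of_principal hM χ.2 h1 hk'
  constructor
  · intro hind
    obtain ⟨ξ, rfl⟩ := hind.1
    unfold principalBlock
    have h1G : (⟨fun _ => 1, isIrrCharacter_one⟩ : IrrCharacter G) ∈ principalBlock M G :=
      sameBlock_refl hMm _
    have := (key2 _ hind ξ (self_mem_blockOf hMm ξ) ⟨_, isIrrCharacter_one⟩ h1G).mpr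
      (sameBlock_refl hMm _)
    exact blockOf_eq_of_sameBlock hMm this
  · intro hb
    obtain ⟨B, hind⟩ := hdef
    obtain ⟨χ, rfl⟩ := hind.2.1
    have h1H : (⟨fun _ => 1, isIrrCharacter_one⟩ : IrrCharacter H) ∈ b := by
      rw [hb]; exact sameBlock_refl hMm _
    have := (key2 _ hind ⟨_, isIrrCharacter_one⟩ h1H χ (self_mem_blockOf hMm χ)).mp
      (sameBlock_refl hMm _)
    have e : blockOf M (χ : G → ℂ) = principalBlock M G := blockOf_eq_of_sameBlock hMm this
    rw [← e]
    exact hind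

end Cfsg.Agent.Lib.Helper2_ThirdMain
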