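import Mathlib
import Cfsg.Prelude.Def_Characters
import Cfsg.Prelude.Def_Blocks
import Cfsg.Prelude.Def_BlockRank
import Cfsg.Prelude.Def_BlockLocal
import Cfsg.Prelude.Def_BrauerPairs
import Cfsg.Agent.Lib.Helper2_ClassFn
import Cfsg.Agent.Lib.Helper2_CharBasic
import Cfsg.Agent.Lib.Helper2_CharOrtho
import Cfsg.Agent.Lib.Helper2_Clifford
import Cfsg.Agent.Lib.Helper2_CharMore
import Cfsg.Agent.Lib.Helper2_CharDeg
import Cfsg.Agent.Lib.Helper2_CharInd
import Cfsg.Agent.Lib.Helper2_CharExtra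
import Cfsg.Agent.Lib.Helper2_CharInt
import Cfsg.Agent.Lib.Helper2_CharValues
import Cfsg.Agent.Lib.Helper2_CharSum
import Cfsg.Agent.Lib.Helper2_CharComplete
import Cfsg.Agent.Lib.Helper2_CharTable
import Cfsg.Agent.Lib.Helper2_CharCentral
import Cfsg.Agent.Lib.Helper2_ModM
import Cfsg.Agent.Lib.Helper2_Blocks
import Cfsg.Agent.Lib.Helper2_BlockOrtho
import Cfsg.Agent.Lib.Helper2_BlockMore
import Cfsg.Agent.Lib.Helper2_DefectGroup
import Cfsg.Agent.Lib.Helper2_DefectPCore
import Cfsg.Agent.Lib.Helper2_MinMax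
import Cfsg.Agent.Lib.Helper2_InducedBlock
import Cfsg.Agent.Lib.Helper2_BrauerMap
import Cfsg.Agent.Lib.Helper2_InducedDefect
import Cfsg.Agent.Lib.Helper2_BrauerFirst
import Cfsg.Agent.Lib.Helper2_BrauerConverse
import Cfsg.Agent.Lib.Helper2_SylowConj
import Cfsg.Agent.Lib.Helper2_BlockCover
import Cfsg.Agent.Lib.Helper2_BlockConj
import Cfsg.Agent.Lib.Helper2_FirstMain
import Cfsg.Agent.Lib.Helper2_BlockNormal
import Cfsg.Agent.Lib.Helper2_BlockCount
import Cfsg.Agent.Lib.Helper2_BlockCount2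
import Cfsg.Agent.Lib.Helper2_BlockKer
import Cfsg.Agent.Lib.Helper2_PRegCount
import Cfsg.Agent.Lib.Helper2_ExtFirstMain
import Cfsg.Agent.Lib.Helper2_ThirdMain
import Cfsg.Agent.Lib.Helper2_Fong


set_option autoImplicit false

/-!
# Brauer pairs: the block of a Brauer pair
-/

namespace Cfsg.Agent.Lib.Helper2_BrauerPairs

open Cfsg
open Cfsg.Agent.Lib.Helper2_ClassFn
open Cfsg.Agent.Lib.Helper2_CharBasic
open Cfsg.Agent.Lib.Helper2_CharOrtho
open Cfsg.Agent.Lib.Helper2_Clifford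
open Cfsg.Agent.Lib.Helper2_CharMore
open Cfsg.Agent.Lib.Helper2_CharDeg
open Cfsg.Agent.Lib.Helper2_CharInd
open Cfsg.Agent.Lib.Helper2_CharExtra
open Cfsg.Agent.Lib.Helper2_CharValues
open Cfsg.Agent.Lib.Helper2_CharSum
open Cfsg.Agent.Lib.Helper2_CharComplete
open Cfsg.Agent.Lib.Helper2_CharTable
open Cfsg.Agent.Lib.Helper2_CharCentral
open Cfsg.Agent.Lib.Helper2_ModM
open Cfsg.Agent.Lib.Helper2_Blocks
open Cfsg.Agent.Lib.Helper2_BlockOrtho
open Cfsg.Agent.Lib.Helper2_BlockMore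
open Cfsg.Agent.Lib.Helper2_DefectGroup
open Cfsg.Agent.Lib.Helper2_DefectPCore
open Cfsg.Agent.Lib.Helper2_MinMax
open Cfsg.Agent.Lib.Helper2_InducedBlock
open Cfsg.Agent.Lib.Helper2_BrauerMap
open Cfsg.Agent.Lib.Helper2_InducedDefect
open Cfsg.Agent.Lib.Helper2_BrauerFirst
open Cfsg.Agent.Lib.Helper2_BrauerConverse
open Cfsg.Agent.Lib.Helper2_SylowConj
open Cfsg.Agent.Lib.Helper2_BlockCover
open Cfsg.Agent.Lib.Helper2_BlockConj
open Cfsg.Agent.Lib.Helper2_FirstMain
open Cfsg.Agent.Lib.Helper2_BlockNormal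
open Cfsg.Agent.Lib.Helper2_BlockCount
open Cfsg.Agent.Lib.Helper2_BlockCount2
open Cfsg.Agent.Lib.Helper2_BlockKer
open Cfsg.Agent.Lib.Helper2_PRegCount
open Cfsg.Agent.Lib.Helper2_ExtFirstMain
open Cfsg.Agent.Lib.Helper2_ThirdMain
open Cfsg.Agent.Lib.Helper2_Fong
open scoped ComplexConjugate

universe u


variable {G : Type u} [Group G] [Fintype G] {M : Ideal AlgInt}

/-- The Brauer central value of the definitions is the composite `beta` of the library. -/
theorem brauerOmega_eq_beta (P : Subgroup G) [Fintype (Subgroup.centralizer (P : Set G))]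
    (β : G → ℂ) (ξ : Subgroup.centralizer (P : Set G) → ℂ) :
    brauerOmega P β ξ = Helper2_BrauerFirst.beta P (Subgroup.centralizer (P : Set G)) ξ β := by
  classical
  unfold brauerOmega Helper2_BrauerFirst.beta om brRes
  rw [finsum_eq_sum_of_fintype, Finset.sum_div]
  refine Finset.sum_congr rfl fun x _ => ?_
  rw [if_pos x.2]

theorem beta_sum (P H : Subgroup G) [Fintype H] (ξ : H → ℂ) {ι : Type*} (s : Finset ι)
    (z : ι → G → ℂ) :
    Helper2_BrauerFirst.beta P H ξ (fun x => ∑ i ∈ s, z i x) = ∑ i ∈ s, Helper2_BrauerFirst.beta P H ξ (z i) := by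
  classical
  unfold Helper2_BrauerFirst.beta om brRes
  rw [← Finset.sum_div]
  congr 1
  rw [Finset.sum_comm]
  refine Finset.sum_congr rfl fun h _ => ?_
  split_ifs
  · rw [Finset.sum_mul]
  · simp

theorem beta_zero (P H : Subgroup G) [Fintype H] (ξ : H → ℂ) :
    Helper2_BrauerFirst.beta P H ξ (fun _ => 0) = 0 := by
  classical
  unfold Helper2_BrauerFirst.beta om brRes
  simp

theorem conv_blockCoeff_self (χ₀ : G → ℂ) :
    conv (blockCoeff (blockOf M χ₀)) (blockCoeff (blockOf M χ₀)) = blockCoeff (blockOf M χ₀) := by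
  funext x
  exact blockCoeff_idem χ₀ x

theorem conv_blockCoeff_of_ne (hM : M.IsMaximal) (χ₁ χ₂ : IrrCharacter G)
    (hne : ¬ SameBlock M (χ₁ : G → ℂ) (χ₂ : G → ℂ)) :
    conv (blockCoeff (blockOf M (χ₁ : G → ℂ))) (blockCoeff (blockOf M (χ₂ : G → ℂ)))
      = fun _ => 0 := by
  classical
  funext x
  unfold conv
  simp_rw [blockCoeff_blockOf]
  rw [← zf_mul]
  rw [zf_congr (g := fun _ => (0 : ℂ))]
  · unfold zf
    simp
  · intro ψ hψ
    by_cases h1 : SameBlock M (χ₁ : G → ℂ) ψ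
    · by_cases h2 : SameBlock M (χ₂ : G → ℂ) ψ
      · exact absurd (sameBlock_trans hM h1 (sameBlock_symm hM h2)) hne
      · simp only [if_neg h2, mul_zero]
    · simp only [if_neg h1, zero_mul]

open Classical in
theorem blockCoeff_univ (x : G) :
    blockCoeff (Set.univ : Set (IrrCharacter G)) x = if x = 1 then 1 else 0 := by
  rw [blockCoeff_eq, ← zf_one]
  unfold zf
  congr 1
  refine Finset.sum_congr rfl fun ψ hψ => ?_
  rw [if_pos ⟨mem_irrFinset.mp hψ, Set.mem_univ _⟩, one_mul]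

/-- **Every Brauer pair belongs to exactly one block.** -/
theorem existsUnique_block_of_brauerPair {p : ℕ} [hp : Fact p.Prime] (hM : IsPModular p M)
    (P : Subgroup G) (e : Set (IrrCharacter (Subgroup.centralizer (P : Set G))))
    (hPe : IsBrauerPair p M P e) : ∃! B : Set (IrrCharacter G), IsBrauerPairOf p M B P e := by
  classical
  haveI : Fintype (Subgroup.centralizer (P : Set G)) := Fintype.ofFinite _
  have hMm := hM.2.1
  obtain ⟨hP, ξ₀, rfl⟩ := hPe
  have hCN : (Subgroup.centralizer (P : Set G)) ≤ Subgroup.normalizer (P : Set G) := Subgroup.centralizer_le_normalizer (P : Set G)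
  have hcf : ∀ χ : IrrCharacter G, IsClassFunction G (blockCoeff (blockOf M (χ : G → ℂ))) :=
    fun χ => blockCoeff_isClassFunction _
  have hR : ∀ χ : IrrCharacter G, ∀ g, MemLocalRing M (blockCoeff (blockOf M (χ : G → ℂ)) g) :=
    fun χ g => memLocalRing_blockCoeff hMm χ.2 g
  set b : IrrCharacter G → ℂ := fun χ => Helper2_BrauerFirst.beta P (Subgroup.centralizer (P : Set G)) (ξ₀ : (Subgroup.centralizer (P : Set G)) → ℂ) (blockCoeff (blockOf M (χ : G → ℂ)))
    with hb
  have hbR : ∀ χ, MemLocalRing M (b χ) := fun χ =>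
    memLocalRing_beta hMm P (Subgroup.centralizer (P : Set G)) hCN ξ₀ (hcf χ) (hR χ)
  have hidem : ∀ χ, MemLocalIdeal M (b χ - b χ * b χ) := by
    intro χ
    have h1 := beta_conv_sub_mem hM P (Subgroup.centralizer (P : Set G)) hP le_rfl hCN ξ₀ (hcf χ) (hcf χ) (hR χ) (hR χ)
    rwa [conv_blockCoeff_self] at h1
  have horth : ∀ χ₁ χ₂ : IrrCharacter G, ¬ SameBlock M (χ₁ : G → ℂ) (χ₂ : G → ℂ) →
      MemLocalIdeal M (b χ₁ * b χ₂) := by
    intro χ₁ χ₂ hne
    have h1 := beta_conv_sub_mem hM P (Subgroup.centralizer (P : Set G)) hP le_rfl hCN ξ₀ (hcf χ₁) (hcf χ₂) (hR χ₁) (hR χ₂)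
    rw [conv_blockCoeff_of_ne hMm χ₁ χ₂ hne, beta_zero, zero_sub] at h1
    have h2 := memLocalIdeal_neg hMm h1
    rwa [neg_neg] at h2
  have hdich : ∀ χ, ¬ MemLocalIdeal M (b χ) → MemLocalIdeal M (b χ - 1) := by
    intro χ hn
    by_contra hcon
    have h1 := hidem χ
    have h2 : b χ - b χ * b χ = b χ * (1 - b χ) := by ring
    rw [h2] at h1
    have hn2 : ¬ MemLocalIdeal M (1 - b χ) := fun h => hcon (by
      have h3 := memLocalIdeal_neg hMm h
      rwa [neg_sub] at h3)
    exact not_memLocalIdeal_mul hMm (hbR χ) hn hn2 h1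
  -- some block has `b ≢ 0`
  have hex : ∃ χ : IrrCharacter G, ¬ MemLocalIdeal M (b χ) := by
    by_contra hall
    push Not at hall
    have h1 : blockCoeff (Set.univ : Set (IrrCharacter G))
        = fun x => ∑ β ∈ ((irrFinset G).filter (MemB (Set.univ : Set (IrrCharacter G)))).image
          (fun ψ : G → ℂ => blockOf M ψ), blockCoeff β x := by
      funext x
      exact blockCoeff_closed_eq_sum hMm Set.univ (fun _ _ _ _ => Set.mem_univ _) x
    have h3 : Helper2_BrauerFirst.beta P (Subgroup.centralizer (P : Set G)) (ξ₀ : (Subgroup.centralizer (P : Set G)) → ℂ) (blockCoeff (Set.univ : Set (IrrCharacter G))) = 1 := by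
      have hξ1 : (ξ₀ : (Subgroup.centralizer (P : Set G)) → ℂ) 1 ≠ 0 := IsIrrCharacter.apply_one_ne_zero ξ₀.2
      unfold Helper2_BrauerFirst.beta om brRes
      simp_rw [blockCoeff_univ]
      rw [Finset.sum_eq_single (1 : (Subgroup.centralizer (P : Set G)))]
      · simp [hξ1]
      · intro h _ hne
        have : ¬ ((h : G) = 1) := fun h1 => hne (Subtype.ext h1)
        simp [this]
      · intro h; exact absurd (Finset.mem_univ _) h
    rw [h1, beta_sum] at h3
    have h4 : MemLocalIdeal M (1 : ℂ) := by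
      rw [← h3]
      apply memLocalIdeal_sum hMm
      intro β hβ
      obtain ⟨ψ, hψ, rfl⟩ := Finset.mem_image.mp hβ
      have hψirr := mem_irrFinset.mp (Finset.mem_filter.mp hψ).1
      exact hall ⟨ψ, hψirr⟩
    exact not_memLocalIdeal_one hMm h4
  obtain ⟨χ₁, hχ₁⟩ := hex
  have hχ₁' := hdich χ₁ hχ₁
  refine ⟨blockOf M (χ₁ : G → ℂ), ⟨⟨hP, ξ₀, rfl⟩, ⟨χ₁, rfl⟩, ?_⟩, ?_⟩
  · intro ξ hξ
    rw [brauerOmega_eq_beta]
    have hξ₀cf := IsCharacter.isClassFunction (IsIrrCharacter.isCharacter ξ₀.2)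
    have hξcf := IsCharacter.isClassFunction (IsIrrCharacter.isCharacter ξ.2)
    have h1 := om_sub_mem hMm hξ₀cf hξcf hξ
      (brRes_isClassFunction P (Subgroup.centralizer (P : Set G)) hCN (hcf χ₁)) (brRes_memLocalRing hMm P (Subgroup.centralizer (P : Set G)) (hR χ₁))
    have h2 : Helper2_BrauerFirst.beta P (Subgroup.centralizer (P : Set G)) (ξ : (Subgroup.centralizer (P : Set G)) → ℂ) (blockCoeff (blockOf M (χ₁ : G → ℂ))) - 1
        = (b χ₁ - 1) - (om (ξ₀ : (Subgroup.centralizer (P : Set G)) → ℂ) (brRes P (Subgroup.centralizer (P : Set G)) (blockCoeff (blockOf M (χ₁ : G → ℂ))))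
            - om (ξ : (Subgroup.centralizer (P : Set G)) → ℂ) (brRes P (Subgroup.centralizer (P : Set G)) (blockCoeff (blockOf M (χ₁ : G → ℂ))))) := by
      rw [hb]
      unfold Helper2_BrauerFirst.beta
      ring
    rw [h2]
    exact memLocalIdeal_sub hMm hχ₁' h1
  · rintro B' ⟨_, ⟨χ₂, rfl⟩, h3⟩
    have h4 := h3 ξ₀ (self_mem_blockOf hMm ξ₀)
    rw [brauerOmega_eq_beta] at h4
    by_cases hs : SameBlock M (χ₁ : G → ℂ) (χ₂ : G → ℂ)
    · exact blockOf_eq_of_sameBlock hMm hs
    · exfalso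
      have h5 := horth χ₁ χ₂ hs
      have h6 : MemLocalIdeal M (b χ₁ * b χ₂ - 1) := memLocalIdeal_mul_sub_one hMm hχ₁' h4
      have h7 := memLocalIdeal_sub hMm h5 h6
      rw [sub_sub_cancel] at h7
      exact not_memLocalIdeal_one hMm h7

open Classical in
/-- The composite `beta` expanded over the conjugacy classes of `G`. -/
theorem beta_eq_sum_classes (P H : Subgroup G) [Fintype H] (ξ : H → ℂ) {z : G → ℂ}
    (hz : IsClassFunction G z) :
    Helper2_BrauerFirst.beta P H ξ z
      = ∑ C : ConjClasses G, z C.out * brauerCentralChar P H ξ C.out := by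
  unfold Helper2_BrauerFirst.beta om brRes
  rw [Finset.sum_div]
  simp_rw [brauerCentralChar_eq_sum, Finset.mul_sum]
  rw [Finset.sum_comm]
  refine Finset.sum_congr rfl fun h _ => ?_
  rw [Finset.sum_eq_single (ConjClasses.mk (h : G))]
  · obtain ⟨t, ht⟩ := isConj_out (h : G)
    have hc : IsConj (ConjClasses.mk (h : G)).out (h : G) := by
      rw [← ht]
      exact (isConj_iff.mpr ⟨t, rfl⟩).symm
    by_cases hcent : (h : G) ∈ Subgroup.centralizer (P : Set G)
    · rw [if_pos hcent, if_pos ⟨hc, hcent⟩, ← ht, hz]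
      ring
    · rw [if_neg hcent, if_neg (fun hh => hcent hh.2)]
      simp
  · intro C _ hne
    rw [if_neg, mul_zero]
    rintro ⟨hc, _⟩
    apply hne
    rw [← Quotient.out_eq C]
    exact (ConjClasses.mk_eq_mk_iff_isConj.mpr hc)
  · intro h'
    exact absurd (Finset.mem_univ _) h'

theorem beta_sub_om_mem (hMm : M.IsMaximal) (P H : Subgroup G) [Fintype H] (ξ : H → ℂ)
    {χ : G → ℂ} (hχ : IsClassFunction G χ)
    (h : ∀ g : G, MemLocalIdeal M (brauerCentralChar P H ξ g - centralChar χ g))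
    {z : G → ℂ} (hz : IsClassFunction G z) (hzR : ∀ g, MemLocalRing M (z g)) :
    MemLocalIdeal M (Helper2_BrauerFirst.beta P H ξ z - om χ z) := by
  classical
  rw [beta_eq_sum_classes P H ξ hz, om_eq_sum_classes hχ hz, ← Finset.sum_sub_distrib]
  refine memLocalIdeal_sum hMm _ _ fun C _ => ?_
  rw [← mul_sub]
  exact memLocalIdeal_mul_ring hMm (h C.out) (hzR C.out)

/-- **Brauer's third main theorem, Brauer-pair form.** -/
theorem brauerPair_principal {p : ℕ} [hp : Fact p.Prime] (hM : IsPModular p M)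
    (Q : Subgroup G) (hQ : IsPGroup p Q)
    (e : Set (IrrCharacter (Subgroup.centralizer (Q : Set G)))) (he : IsPBlock M e) :
    IsBrauerPairOf p M (principalBlock M G) Q e
      ↔ e = principalBlock M (Subgroup.centralizer (Q : Set G)) := by
  classical
  haveI : Fintype (Subgroup.centralizer (Q : Set G)) := Fintype.ofFinite _
  have hMm := hM.2.1
  have hCN : Subgroup.centralizer (Q : Set G) ≤ Subgroup.normalizer (Q : Set G) :=
    Subgroup.centralizer_le_normalizer (Q : Set G)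
  -- the block of `G` attached to a character of the centralizer
  have hkey : ∀ ξ : IrrCharacter (Subgroup.centralizer (Q : Set G)),
      ∃ χ : IrrCharacter G,
        (∀ {z : G → ℂ}, IsClassFunction G z → (∀ g, MemLocalRing M (z g)) →
          MemLocalIdeal M (Helper2_BrauerFirst.beta Q (Subgroup.centralizer (Q : Set G))
            (ξ : Subgroup.centralizer (Q : Set G) → ℂ) z - om (χ : G → ℂ) z)) ∧
        (SameBlock M (fun _ : Subgroup.centralizer (Q : Set G) => (1 : ℂ))
            (ξ : Subgroup.centralizer (Q : Set G) → ℂ)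
          ↔ SameBlock M (fun _ : G => (1 : ℂ)) (χ : G → ℂ)) := by
    intro ξ
    obtain ⟨χ, hχ⟩ := exists_irr_brauer hM Q (Subgroup.centralizer (Q : Set G)) hQ le_rfl hCN ξ
    have hχcf := IsCharacter.isClassFunction (IsIrrCharacter.isCharacter χ.2)
    have hb : ∀ {z : G → ℂ}, IsClassFunction G z → (∀ g, MemLocalRing M (z g)) →
        MemLocalIdeal M (Helper2_BrauerFirst.beta Q (Subgroup.centralizer (Q : Set G))
          (ξ : Subgroup.centralizer (Q : Set G) → ℂ) z - om (χ : G → ℂ) z) :=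
      fun hz hzR => beta_sub_om_mem hMm Q _ _ hχcf hχ hz hzR
    refine ⟨χ, hb, ?_⟩
    -- the detector
    have hdet := hb (rp_one_isClassFunction (G := G) p) (rp_one_memLocalRing hMm p)
    have hbeta : Helper2_BrauerFirst.beta Q (Subgroup.centralizer (Q : Set G))
        (ξ : Subgroup.centralizer (Q : Set G) → ℂ) (rp p (fun _ : G => (1 : ℂ)))
        = om (ξ : Subgroup.centralizer (Q : Set G) → ℂ)
            (rp p (fun _ : Subgroup.centralizer (Q : Set G) => (1 : ℂ))) := by
      unfold Helper2_BrauerFirst.beta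
      congr 1
      rw [← rp_one_res p (Subgroup.centralizer (Q : Set G))]
      funext h
      unfold brRes
      rw [if_pos h.2]
    rw [hbeta] at hdet
    constructor
    · intro hξ
      by_contra hχn
      have h1 := om_rp_one_of_not_principal hM χ.2 hχn
      rw [h1, sub_zero] at hdet
      exact om_rp_one_of_principal hM ξ.2 hξ hdet
    · intro hχp
      by_contra hξn
      have h1 := om_rp_one_of_not_principal hM ξ.2 hξn
      rw [h1, zero_sub] at hdet
      have h2 := memLocalIdeal_neg hMm hdet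
      rw [neg_neg] at h2
      exact om_rp_one_of_principal hM χ.2 hχp h2
  have hcfB : IsClassFunction G (blockCoeff (principalBlock M G)) := blockCoeff_isClassFunction _
  have hRB : ∀ g, MemLocalRing M (blockCoeff (principalBlock M G) g) := fun g =>
    memLocalRing_blockCoeff hMm isIrrCharacter_one g
  have hom : ∀ χ : IrrCharacter G, om (χ : G → ℂ) (blockCoeff (principalBlock M G))
      = if SameBlock M (fun _ : G => (1 : ℂ)) (χ : G → ℂ) then 1 else 0 := by
    intro χ
    rw [om_blockCoeff _ χ.2]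
    have : MemB (principalBlock M G) (χ : G → ℂ)
        ↔ SameBlock M (fun _ : G => (1 : ℂ)) (χ : G → ℂ) := by
      rw [memB_coe]
      rfl
    by_cases h : SameBlock M (fun _ : G => (1 : ℂ)) (χ : G → ℂ)
    · rw [if_pos h, if_pos (this.mpr h)]
    · rw [if_neg h, if_neg (fun h' => h (this.mp h'))]
  obtain ⟨ξ₀, rfl⟩ := he
  constructor
  · rintro ⟨_, _, h3⟩
    have h4 := h3 ξ₀ (self_mem_blockOf hMm ξ₀)
    rw [brauerOmega_eq_beta] at h4
    obtain ⟨χ, hb, hiff⟩ := hkey ξ₀
    have h5 := hb hcfB hRB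
    rw [hom χ] at h5
    have hχp : SameBlock M (fun _ : G => (1 : ℂ)) (χ : G → ℂ) := by
      by_contra hn
      rw [if_neg hn, sub_zero] at h5
      have h6 := memLocalIdeal_sub hMm h5 h4
      rw [sub_sub_cancel] at h6
      exact not_memLocalIdeal_one hMm h6
    have hξp := hiff.mpr hχp
    exact blockOf_eq_of_sameBlock hMm hξp
  · intro heq
    refine ⟨⟨hQ, ξ₀, rfl⟩, ⟨⟨_, isIrrCharacter_one⟩, rfl⟩, ?_⟩
    intro ξ hξ
    rw [heq] at hξ
    rw [brauerOmega_eq_beta]
    obtain ⟨χ, hb, hiff⟩ := hkey ξ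
    have h5 := hb hcfB hRB
    rw [hom χ, if_pos (hiff.mp hξ)] at h5
    exact h5

end Cfsg.Agent.Lib.Helper2_BrauerPairs
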