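import Mathlib
import Cfsg.Prelude.Def_Characters
import Cfsg.Prelude.Def_Blocks
import Cfsg.Prelude.Def_BlockRank
import Cfsg.Prelude.Def_BlockLocal
import Cfsg.Prelude.Def_BrauerPairs
import Cfsg.Agent.Lib.Helper2_ClassFn
import Cfsg.Agent.Lib.Helper2_CharBasic
import Cfsg.Agent.Lib.Helper2_CharOrtho
import Cfsg.Agent.Lib.Helper2_Clifford
import Cfsg.Agent.Lib.Helper2_CharMore
import Cfsg.Agent.Lib.Helper2_CharDeg
import Cfsg.Agent.Lib.Helper2_CharInd
import Cfsg.Agent.Lib.Helper2_CharExtra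
import Cfsg.Agent.Lib.Helper2_CharInt
import Cfsg.Agent.Lib.Helper2_CharValues
import Cfsg.Agent.Lib.Helper2_CharSum
import Cfsg.Agent.Lib.Helper2_CharComplete
import Cfsg.Agent.Lib.Helper2_CharTable
import Cfsg.Agent.Lib.Helper2_CharCentral
import Cfsg.Agent.Lib.Helper2_ModM
import Cfsg.Agent.Lib.Helper2_Blocks
import Cfsg.Agent.Lib.Helper2_BlockOrtho
import Cfsg.Agent.Lib.Helper2_BlockMore
import Cfsg.Agent.Lib.Helper2_DefectGroup
import Cfsg.Agent.Lib.Helper2_DefectPCore
import Cfsg.Agent.Lib.Helper2_MinMax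
import Cfsg.Agent.Lib.Helper2_InducedBlock
import Cfsg.Agent.Lib.Helper2_BrauerMap
import Cfsg.Agent.Lib.Helper2_InducedDefect
import Cfsg.Agent.Lib.Helper2_BrauerFirst
import Cfsg.Agent.Lib.Helper2_BrauerConverse
import Cfsg.Agent.Lib.Helper2_SylowConj
import Cfsg.Agent.Lib.Helper2_BlockCover
import Cfsg.Agent.Lib.Helper2_BlockConj
import Cfsg.Agent.Lib.Helper2_FirstMain
import Cfsg.Agent.Lib.Helper2_BlockNormal
import Cfsg.Agent.Lib.Helper2_BlockCount
import Cfsg.Agent.Lib.Helper2_BlockCount2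
import Cfsg.Agent.Lib.Helper2_BlockKer
import Cfsg.Agent.Lib.Helper2_PRegCount
import Cfsg.Agent.Lib.Helper2_ExtFirstMain
import Cfsg.Agent.Lib.Helper2_ThirdMain
import Cfsg.Agent.Lib.Helper2_Fong
import Cfsg.Agent.Lib.Helper2_BrauerPairs


set_option autoImplicit false

/-!
# Brauer pairs: invariants under a p-group and normal subpairs
-/

namespace Cfsg.Agent.Lib.Helper2_BrauerInv

open Cfsg
open Cfsg.Agent.Lib.Helper2_ClassFn
open Cfsg.Agent.Lib.Helper2_CharBasic
open Cfsg.Agent.Lib.Helper2_CharOrtho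
open Cfsg.Agent.Lib.Helper2_Clifford
open Cfsg.Agent.Lib.Helper2_CharMore
open Cfsg.Agent.Lib.Helper2_CharDeg
open Cfsg.Agent.Lib.Helper2_CharInd
open Cfsg.Agent.Lib.Helper2_CharExtra
open Cfsg.Agent.Lib.Helper2_CharValues
open Cfsg.Agent.Lib.Helper2_CharSum
open Cfsg.Agent.Lib.Helper2_CharComplete
open Cfsg.Agent.Lib.Helper2_CharTable
open Cfsg.Agent.Lib.Helper2_CharCentral
open Cfsg.Agent.Lib.Helper2_ModM
open Cfsg.Agent.Lib.Helper2_Blocks
open Cfsg.Agent.Lib.Helper2_BlockOrtho
open Cfsg.Agent.Lib.Helper2_BlockMore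
open Cfsg.Agent.Lib.Helper2_DefectGroup
open Cfsg.Agent.Lib.Helper2_DefectPCore
open Cfsg.Agent.Lib.Helper2_MinMax
open Cfsg.Agent.Lib.Helper2_InducedBlock
open Cfsg.Agent.Lib.Helper2_BrauerMap
open Cfsg.Agent.Lib.Helper2_InducedDefect
open Cfsg.Agent.Lib.Helper2_BrauerFirst
open Cfsg.Agent.Lib.Helper2_BrauerConverse
open Cfsg.Agent.Lib.Helper2_SylowConj
open Cfsg.Agent.Lib.Helper2_BlockCover
open Cfsg.Agent.Lib.Helper2_BlockConj
open Cfsg.Agent.Lib.Helper2_FirstMain
open Cfsg.Agent.Lib.Helper2_BlockNormal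
open Cfsg.Agent.Lib.Helper2_BlockCount
open Cfsg.Agent.Lib.Helper2_BlockCount2
open Cfsg.Agent.Lib.Helper2_BlockKer
open Cfsg.Agent.Lib.Helper2_PRegCount
open Cfsg.Agent.Lib.Helper2_ExtFirstMain
open Cfsg.Agent.Lib.Helper2_ThirdMain
open Cfsg.Agent.Lib.Helper2_Fong
open Cfsg.Agent.Lib.Helper2_BrauerPairs
open scoped ComplexConjugate

universe u

section Orbit

variable {M : Ideal AlgInt}

/-- Fixed point counting for a `p`-group acting on a finset. -/
theorem dvd_card_of_no_fixed' {p : ℕ} [hp : Fact p.Prime] {Γ : Type*} [Group Γ] [Finite Γ]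
    (hΓ : IsPGroup p Γ) {X : Type*} [MulAction Γ X] (S : Finset X)
    (hstab : ∀ d : Γ, ∀ x ∈ S, d • x ∈ S) (hfix : ∀ x ∈ S, ∃ d : Γ, d • x ≠ x) :
    p ∣ S.card := by
  classical
  letI : MulAction Γ S :=
    { smul := fun d x => ⟨d • (x : X), hstab d x x.2⟩
      one_smul := fun x => Subtype.ext (one_smul Γ (x : X))
      mul_smul := fun a b x => Subtype.ext (mul_smul a b (x : X)) }
  have hsmul : ∀ (d : Γ) (x : S), ((d • x : S) : X) = d • (x : X) := fun _ _ => rfl
  have key := hΓ.card_modEq_card_fixedPoints S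
  have hempty : IsEmpty (MulAction.fixedPoints Γ S) := by
    constructor
    rintro ⟨x, hx⟩
    rw [MulAction.mem_fixedPoints] at hx
    obtain ⟨d, hne⟩ := hfix x x.2
    apply hne
    have := hx d
    have h2 := congrArg (fun s : S => (s : X)) this
    simpa only [hsmul] using h2
  have h0 : Nat.card (MulAction.fixedPoints Γ S) = 0 := Nat.card_of_isEmpty
  rw [h0, Nat.card_eq_fintype_card, Fintype.card_coe] at key
  exact (Nat.modEq_zero_iff_dvd).mp key

/-- A sum of an invariant local-integral function over a stable finset without fixed points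
lies in the local ideal. -/
theorem memLocalIdeal_sum_of_no_fixed' {p : ℕ} [hp : Fact p.Prime] (hM : IsPModular p M)
    {Γ : Type*} [Group Γ] [Finite Γ] (hΓ : IsPGroup p Γ) {X : Type*} [MulAction Γ X]
    (S : Finset X) (F : X → ℂ)
    (hF : ∀ x ∈ S, MemLocalRing M (F x))
    (hstab : ∀ d : Γ, ∀ x ∈ S, d • x ∈ S)
    (hinv : ∀ d : Γ, ∀ x ∈ S, F (d • x) = F x)
    (hfix : ∀ x ∈ S, ∃ d : Γ, d • x ≠ x) : MemLocalIdeal M (∑ x ∈ S, F x) := by
  classical
  have hMm := hM.2.1
  have h1 : ∑ x ∈ S, F x = ∑ v ∈ S.image F, (S.filter (fun x => F x = v)).card • v := by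
    have := Finset.sum_comp (s := S) (fun v : ℂ => v) F
    exact this
  rw [h1]
  apply memLocalIdeal_sum hMm
  intro v hv
  obtain ⟨x₀, hx₀, rfl⟩ := Finset.mem_image.mp hv
  have hdvd : p ∣ (S.filter (fun x => F x = F x₀)).card := by
    apply dvd_card_of_no_fixed' hΓ
    · intro d x hx
      rw [Finset.mem_filter] at hx ⊢
      exact ⟨hstab d x hx.1, by rw [hinv d x hx.1, hx.2]⟩
    · intro x hx
      exact hfix x (Finset.mem_filter.mp hx).1
  obtain ⟨r, hr⟩ := hdvd
  rw [hr, nsmul_eq_mul]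
  have : ((p * r : ℕ) : ℂ) * F x₀ = ((r : ℂ) * F x₀) * (p : ℂ) := by push_cast; ring
  rw [this]
  apply memLocalIdeal_mul_ring hMm (memLocalIdeal_p hM)
  exact memLocalRing_mul hMm (memLocalRing_of_isIntegral hMm (isIntegral_nat r)) (hF x₀ hx₀)

end Orbit

section Aut

variable {K : Type u} [Group K] {M : Ideal AlgInt}

theorem index_centralizer_equiv (φ : K ≃* K) (k : K) :
    (Subgroup.centralizer ({φ k} : Set K)).index = (Subgroup.centralizer ({k} : Set K)).index := by
  have h : Subgroup.centralizer ({φ k} : Set K)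
      = (Subgroup.centralizer ({k} : Set K)).map (φ : K →* K) := by
    ext x
    rw [Subgroup.mem_map, Subgroup.mem_centralizer_singleton_iff]
    constructor
    · intro hx
      refine ⟨φ.symm x, ?_, ?_⟩
      · rw [Subgroup.mem_centralizer_singleton_iff]
        apply φ.injective
        rw [map_mul, map_mul, MulEquiv.apply_symm_apply]
        exact hx
      · exact MulEquiv.apply_symm_apply _ x
    · rintro ⟨y, hy, rfl⟩
      rw [Subgroup.mem_centralizer_singleton_iff] at hy
      show φ y * _ = _ * φ y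
      rw [← map_mul, ← map_mul, hy]
  rw [h, Subgroup.index_map_equiv]

theorem centralChar_comp_equiv (θ : K → ℂ) (φ : K ≃* K) (k : K) :
    centralChar (fun x => θ (φ x)) k = centralChar θ (φ k) := by
  unfold centralChar
  rw [index_centralizer_equiv]
  simp only [map_one]

theorem sameBlock_comp_equiv {θ ψ : K → ℂ} (h : SameBlock M θ ψ) (φ : K ≃* K) :
    SameBlock M (fun x => θ (φ x)) (fun x => ψ (φ x)) := by
  intro k
  rw [centralChar_comp_equiv, centralChar_comp_equiv]
  exact h _

end Aut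

section Action

variable {G : Type u} [Group G] {M : Ideal AlgInt}

/-- Conjugation by an element of `P ≤ N_G(H)`, as an automorphism of `H`. -/
def cj (P H : Subgroup G) (hPN : P ≤ Subgroup.normalizer (H : Set G)) (d : P) : H ≃* H where
  toFun h := ⟨(d : G) * h * (d : G)⁻¹, (Subgroup.mem_normalizer_iff.mp (hPN d.2) h).mp h.2⟩
  invFun h := ⟨(d : G)⁻¹ * h * (d : G), by
    have h1 := (Subgroup.mem_normalizer_iff.mp (hPN d.2) ((d : G)⁻¹ * h * (d : G))).mpr
    apply h1
    have h2 : (d : G) * ((d : G)⁻¹ * (h : G) * (d : G)) * (d : G)⁻¹ = h := by group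
    rw [h2]
    exact h.2⟩
  left_inv h := by
    apply Subtype.ext
    show (d : G)⁻¹ * ((d : G) * h * (d : G)⁻¹) * (d : G) = h
    group
  right_inv h := by
    apply Subtype.ext
    show (d : G) * ((d : G)⁻¹ * h * (d : G)) * (d : G)⁻¹ = h
    group
  map_mul' a b := by
    apply Subtype.ext
    show (d : G) * ((a : G) * (b : G)) * (d : G)⁻¹
      = ((d : G) * a * (d : G)⁻¹) * ((d : G) * b * (d : G)⁻¹)
    group

variable (P H : Subgroup G) (hPN : P ≤ Subgroup.normalizer (H : Set G))

theorem cj_coe (d : P) (h : H) : ((cj P H hPN d h : H) : G) = (d : G) * h * (d : G)⁻¹ := rfl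

theorem cj_symm_coe (d : P) (h : H) :
    (((cj P H hPN d).symm h : H) : G) = (d : G)⁻¹ * h * (d : G) := rfl

theorem cj_eq_of_coe (d : P) (h h' : H) (hh : (h' : G) = (d : G) * h * (d : G)⁻¹) :
    cj P H hPN d h = h' := Subtype.ext hh.symm

theorem cj_symm_eq_of_coe (d : P) (h h' : H) (hh : (h' : G) = (d : G) * h * (d : G)⁻¹) :
    (cj P H hPN d).symm h' = h := by
  rw [← cj_eq_of_coe P H hPN d h h' hh, MulEquiv.symm_apply_apply]

theorem cj_one (h : H) : cj P H hPN 1 h = h := by
  apply Subtype.ext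
  rw [cj_coe]
  simp

theorem cj_mul (a b : P) (h : H) : cj P H hPN (a * b) h = cj P H hPN a (cj P H hPN b h) := by
  apply Subtype.ext
  rw [cj_coe, cj_coe, cj_coe, Subgroup.coe_mul]
  group

theorem cj_symm_mul (a b : P) (h : H) :
    (cj P H hPN (a * b)).symm h = (cj P H hPN b).symm ((cj P H hPN a).symm h) := by
  apply (cj P H hPN (a * b)).injective
  rw [MulEquiv.apply_symm_apply, cj_mul, MulEquiv.apply_symm_apply, MulEquiv.apply_symm_apply]

/-- The conjugation action of `P` on the elements of `H`. -/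
@[reducible] def actH : MulAction P H where
  smul d h := cj P H hPN d h
  one_smul h := cj_one P H hPN h
  mul_smul a b h := cj_mul P H hPN a b h

/-- The conjugate of an irreducible character of `H` by an element of `P`. -/
noncomputable def cjIrr (d : P) (χ : IrrCharacter H) : IrrCharacter H :=
  ⟨fun h => (χ : H → ℂ) ((cj P H hPN d).symm h),
    IsIrrCharacter.comp_mulEquiv χ.2 (cj P H hPN d).symm⟩

theorem cjIrr_apply (d : P) (χ : IrrCharacter H) (h : H) :
    (cjIrr P H hPN d χ : H → ℂ) h = (χ : H → ℂ) ((cj P H hPN d).symm h) := rfl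

theorem cjIrr_apply_cj (d : P) (χ : IrrCharacter H) (h : H) :
    (cjIrr P H hPN d χ : H → ℂ) (cj P H hPN d h) = (χ : H → ℂ) h := by
  rw [cjIrr_apply, MulEquiv.symm_apply_apply]

theorem cjIrr_apply_of_coe (d : P) (χ : IrrCharacter H) (h h' : H)
    (hh : (h' : G) = (d : G) * h * (d : G)⁻¹) :
    (cjIrr P H hPN d χ : H → ℂ) h' = (χ : H → ℂ) h := by
  rw [← cj_eq_of_coe P H hPN d h h' hh, cjIrr_apply_cj]

theorem cjIrr_one (χ : IrrCharacter H) : cjIrr P H hPN 1 χ = χ := by
  apply Subtype.ext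
  funext h
  rw [cjIrr_apply]
  have : (cj P H hPN 1).symm h = h := by
    apply (cj P H hPN 1).injective
    rw [MulEquiv.apply_symm_apply, cj_one]
  rw [this]

theorem cjIrr_mul (a b : P) (χ : IrrCharacter H) :
    cjIrr P H hPN (a * b) χ = cjIrr P H hPN a (cjIrr P H hPN b χ) := by
  apply Subtype.ext
  funext h
  rw [cjIrr_apply, cjIrr_apply, cjIrr_apply, cj_symm_mul]

theorem cjIrr_inv_cjIrr (d : P) (χ : IrrCharacter H) :
    cjIrr P H hPN d⁻¹ (cjIrr P H hPN d χ) = χ := by
  rw [← cjIrr_mul, inv_mul_cancel, cjIrr_one]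

theorem cjIrr_cjIrr_inv (d : P) (χ : IrrCharacter H) :
    cjIrr P H hPN d (cjIrr P H hPN d⁻¹ χ) = χ := by
  rw [← cjIrr_mul, mul_inv_cancel, cjIrr_one]

theorem cjIrr_injective (d : P) : Function.Injective (cjIrr P H hPN d) := by
  intro χ ψ h
  have := congrArg (cjIrr P H hPN d⁻¹) h
  rwa [cjIrr_inv_cjIrr, cjIrr_inv_cjIrr] at this

theorem isConjCharOf_iff (d : P) (χ χ' : IrrCharacter H) :
    IsConjCharOf H (d : G) (χ : H → ℂ) (χ' : H → ℂ) ↔ χ' = cjIrr P H hPN d χ := by
  constructor
  · intro h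
    apply Subtype.ext
    funext k'
    rw [cjIrr_apply]
    apply h
    have := cj_coe P H hPN d ((cj P H hPN d).symm k')
    rw [MulEquiv.apply_symm_apply] at this
    exact this
  · rintro rfl k k' hk
    exact cjIrr_apply_of_coe P H hPN d χ k k' hk

theorem sameBlock_cjIrr (d : P) {χ ψ : IrrCharacter H}
    (h : SameBlock M (χ : H → ℂ) (ψ : H → ℂ)) :
    SameBlock M (cjIrr P H hPN d χ : H → ℂ) (cjIrr P H hPN d ψ : H → ℂ) :=
  sameBlock_comp_equiv h (cj P H hPN d).symm

/-- The conjugate of a set of irreducible characters. -/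
noncomputable def cjSet (d : P) (f : Set (IrrCharacter H)) : Set (IrrCharacter H) :=
  cjIrr P H hPN d '' f

theorem cjSet_one (f : Set (IrrCharacter H)) : cjSet P H hPN 1 f = f := by
  unfold cjSet
  have : cjIrr P H hPN 1 = id := funext fun χ => cjIrr_one P H hPN χ
  rw [this, Set.image_id]

theorem cjSet_mul (a b : P) (f : Set (IrrCharacter H)) :
    cjSet P H hPN (a * b) f = cjSet P H hPN a (cjSet P H hPN b f) := by
  unfold cjSet
  rw [Set.image_image]
  congr 1
  funext χ
  exact cjIrr_mul P H hPN a b χ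

theorem mem_cjSet_iff (d : P) (f : Set (IrrCharacter H)) (χ : IrrCharacter H) :
    χ ∈ cjSet P H hPN d f ↔ cjIrr P H hPN d⁻¹ χ ∈ f := by
  unfold cjSet
  constructor
  · rintro ⟨ψ, hψ, rfl⟩
    rwa [cjIrr_inv_cjIrr]
  · intro h
    exact ⟨_, h, cjIrr_cjIrr_inv P H hPN d χ⟩

theorem cjSet_blockOf (d : P) (χ : IrrCharacter H) :
    cjSet P H hPN d (blockOf M (χ : H → ℂ)) = blockOf M (cjIrr P H hPN d χ : H → ℂ) := by
  ext ψ
  rw [mem_cjSet_iff]
  constructor
  · intro h
    have h1 : SameBlock M (χ : H → ℂ) (cjIrr P H hPN d⁻¹ ψ : H → ℂ) := h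
    have h2 := sameBlock_cjIrr P H hPN d h1
    rw [cjIrr_cjIrr_inv] at h2
    exact h2
  · intro h
    have h1 : SameBlock M (cjIrr P H hPN d χ : H → ℂ) (ψ : H → ℂ) := h
    have h2 := sameBlock_cjIrr P H hPN d⁻¹ h1
    rw [cjIrr_inv_cjIrr] at h2
    exact h2

/-- Stability of a set of characters under `P`, in terms of the conjugation of sets. -/
theorem stabilizes_iff (f : Set (IrrCharacter H)) :
    (∀ x ∈ P, StabilizesBlock H f x) ↔ ∀ d : P, cjSet P H hPN d f = f := by
  constructor
  · intro h d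
    have hsub : ∀ d : P, cjSet P H hPN d f ⊆ f := by
      intro d ψ hψ
      obtain ⟨χ, hχ, rfl⟩ := hψ
      obtain ⟨χ', hχ', hc⟩ := (h d d.2).2 χ hχ
      rw [isConjCharOf_iff P H hPN d χ χ'] at hc
      rw [← hc]
      exact hχ'
    apply Set.Subset.antisymm (hsub d)
    intro χ hχ
    rw [mem_cjSet_iff]
    exact hsub d⁻¹ ⟨χ, hχ, rfl⟩
  · intro h x hx
    refine ⟨hPN hx, fun χ hχ => ?_⟩
    refine ⟨cjIrr P H hPN ⟨x, hx⟩ χ, ?_, ?_⟩
    · have := h ⟨x, hx⟩
      rw [← this]
      exact ⟨χ, hχ, rfl⟩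
    · exact (isConjCharOf_iff P H hPN ⟨x, hx⟩ χ _).mpr rfl

theorem blockCoeff_cjSet (d : P) (f : Set (IrrCharacter H)) (h : H) :
    blockCoeff (cjSet P H hPN d f) (cj P H hPN d h) = blockCoeff f h := by
  unfold blockCoeff cjSet
  congr 1
  rw [finsum_mem_image (fun a _ b _ hab => cjIrr_injective P H hPN d hab)]
  refine finsum_congr fun χ => ?_
  refine finsum_congr fun _ => ?_
  rw [cjIrr_apply_cj]
  have h1 : (cjIrr P H hPN d χ : H → ℂ) 1 = (χ : H → ℂ) 1 := by
    have := cjIrr_apply_cj P H hPN d χ 1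
    rwa [map_one] at this
  rw [h1]

end Action

section Inv

variable {G : Type u} [Group G] [Fintype G] {M : Ideal AlgInt}

/-- The `P`-invariant central elements of the local group ring of `H`. -/
structure InvA (M : Ideal AlgInt) (P H : Subgroup G)
    (hPN : P ≤ Subgroup.normalizer (H : Set G)) (w : H → ℂ) : Prop where
  cf : IsClassFunction H w
  inv : ∀ (d : P) (h : H), w (cj P H hPN d h) = w h
  loc : ∀ h, MemLocalRing M (w h)

variable (P H : Subgroup G) (hPN : P ≤ Subgroup.normalizer (H : Set G))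
  (hCH : Subgroup.centralizer (P : Set G) ≤ H)

/-- Truncation of a function on `H` to the centralizer of `P`. -/
def trunc (w : H → ℂ) : Subgroup.centralizer (P : Set G) → ℂ := fun c => w ⟨c, hCH c.2⟩

theorem trunc_isClassFunction {w : H → ℂ} (hw : IsClassFunction H w) :
    IsClassFunction (Subgroup.centralizer (P : Set G)) (trunc P H hCH w) := by
  intro c t
  unfold trunc
  have h := hw ⟨c, hCH c.2⟩ ⟨t, hCH t.2⟩
  have e : (⟨((t * c * t⁻¹ : Subgroup.centralizer (P : Set G)) : G), hCH (t * c * t⁻¹).2⟩ : H)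
      = ⟨t, hCH t.2⟩ * ⟨c, hCH c.2⟩ * (⟨t, hCH t.2⟩ : H)⁻¹ := by
    apply Subtype.ext
    simp
  rw [e]
  exact h

variable [Fintype H] [Fintype (Subgroup.centralizer (P : Set G))]

/-- The Brauer map at `P` followed by the central character of `ξ`. -/
noncomputable def lam (ξ : Subgroup.centralizer (P : Set G) → ℂ) (w : H → ℂ) : ℂ :=
  om ξ (trunc P H hCH w)

theorem memLocalRing_lam (hM : M.IsMaximal) (ξ : IrrCharacter (Subgroup.centralizer (P : Set G)))
    {w : H → ℂ} (hcf : IsClassFunction H w) (hloc : ∀ h, MemLocalRing M (w h)) :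
    MemLocalRing M (lam P H hCH (ξ : Subgroup.centralizer (P : Set G) → ℂ) w) :=
  memLocalRing_om hM ξ.2 (trunc_isClassFunction P H hCH hcf) (fun c => hloc _)

/-- The indicator of the identity. -/
noncomputable def dlt (K : Type u) [Group K] : K → ℂ := fun k => by
  classical exact if k = 1 then 1 else 0

theorem om_delta {K : Type u} [Group K] [Fintype K] (χ : K → ℂ) (h1 : χ 1 ≠ 0) :
    om χ (dlt K) = 1 := by
  classical
  unfold om dlt
  rw [Finset.sum_eq_single (1 : K)]
  · rw [if_pos rfl, one_mul, div_self h1]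
  · intro k _ hk
    rw [if_neg hk, zero_mul]
  · intro h; exact absurd (Finset.mem_univ _) h

theorem om_sub_smul_delta {K : Type u} [Group K] [Fintype K] (χ : K → ℂ) (h1 : χ 1 ≠ 0)
    (w : K → ℂ) (c : ℂ) : om χ (fun k => w k - c * dlt K k) = om χ w - c := by
  classical
  have h2 : om χ (fun k => w k - c * dlt K k) = om χ w - om χ (fun k => c * dlt K k) :=
    om_sub χ w (fun k => c * dlt K k)
  rw [h2]
  congr 1
  have h3 := om_delta χ h1
  unfold om at h3 ⊢
  have : ∑ k : K, c * dlt K k * χ k = c * ∑ k : K, dlt K k * χ k := by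
    rw [Finset.mul_sum]
    exact Finset.sum_congr rfl fun k _ => by ring
  rw [this, mul_div_assoc, h3, mul_one]

theorem trunc_delta : trunc P H hCH (dlt H) = dlt (Subgroup.centralizer (P : Set G)) := by
  classical
  funext c
  unfold trunc dlt
  by_cases hc : c = 1
  · rw [if_pos hc, if_pos]
    apply Subtype.ext
    rw [hc]
    rfl
  · rw [if_neg hc, if_neg]
    intro h
    apply hc
    apply Subtype.ext
    have := congrArg (fun x : H => (x : G)) h
    exact this

theorem lam_delta (ξ : Subgroup.centralizer (P : Set G) → ℂ) (h1 : ξ 1 ≠ 0) :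
    lam P H hCH ξ (dlt H) = 1 := by
  unfold lam
  rw [trunc_delta]
  exact om_delta ξ h1

theorem lam_sub_smul_delta (ξ : Subgroup.centralizer (P : Set G) → ℂ) (h1 : ξ 1 ≠ 0)
    (w : H → ℂ) (c : ℂ) :
    lam P H hCH ξ (fun k => w k - c * dlt H k) = lam P H hCH ξ w - c := by
  unfold lam
  have : trunc P H hCH (fun k => w k - c * dlt H k)
      = fun k => trunc P H hCH w k - c * dlt (Subgroup.centralizer (P : Set G)) k := by
    funext k
    rw [← trunc_delta P H hCH]
    rfl
  rw [this]
  exact om_sub_smul_delta ξ h1 _ c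

theorem lam_sum (ξ : Subgroup.centralizer (P : Set G) → ℂ) {ι : Type*} (s : Finset ι)
    (z : ι → H → ℂ) :
    lam P H hCH ξ (fun x => ∑ i ∈ s, z i x) = ∑ i ∈ s, lam P H hCH ξ (z i) := by
  unfold lam om trunc
  rw [← Finset.sum_div]
  congr 1
  rw [Finset.sum_comm]
  refine Finset.sum_congr rfl fun h _ => ?_
  rw [Finset.sum_mul]

theorem lam_zero (ξ : Subgroup.centralizer (P : Set G) → ℂ) :
    lam P H hCH ξ (fun _ => 0) = 0 := by
  unfold lam om trunc
  simp

theorem InvA.of_dlt (hM : M.IsMaximal) : InvA M P H hPN (dlt H) := by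
  classical
  refine ⟨?_, ?_, ?_⟩
  · intro g t
    unfold dlt
    by_cases hg : g = 1
    · rw [if_pos hg, if_pos]
      rw [hg]; group
    · rw [if_neg hg, if_neg]
      intro h
      apply hg
      have : g = t⁻¹ * (t * g * t⁻¹) * t := by group
      rw [this, h]; group
  · intro d h
    unfold dlt
    by_cases hg : h = 1
    · rw [if_pos hg, if_pos]
      rw [hg, map_one]
    · rw [if_neg hg, if_neg]
      intro h'
      apply hg
      have := (cj P H hPN d).injective (h'.trans (map_one _).symm)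
      exact this
  · intro h
    unfold dlt
    split_ifs
    · exact memLocalRing_one hM
    · exact memLocalRing_zero hM

theorem InvA.sub_smul_delta (hM : M.IsMaximal) {w : H → ℂ} (hw : InvA M P H hPN w) {c : ℂ}
    (hc : MemLocalRing M c) : InvA M P H hPN (fun k => w k - c * dlt H k) := by
  have hd := InvA.of_dlt P H hPN (M := M) hM
  refine ⟨?_, ?_, ?_⟩
  · intro g t
    show w (t * g * t⁻¹) - c * dlt H (t * g * t⁻¹) = w g - c * dlt H g
    rw [hw.cf g t, hd.cf g t]
  · intro d h
    show w (cj P H hPN d h) - c * dlt H (cj P H hPN d h) = w h - c * dlt H h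
    rw [hw.inv d h, hd.inv d h]
  · intro h
    exact memLocalRing_sub hM (hw.loc h) (memLocalRing_mul hM hc (hd.loc h))

theorem InvA.conv (hM : M.IsMaximal) {w₁ w₂ : H → ℂ} (h₁ : InvA M P H hPN w₁)
    (h₂ : InvA M P H hPN w₂) : InvA M P H hPN (conv w₁ w₂) := by
  refine ⟨conv_isClassFunction h₁.cf h₂.cf, ?_, ?_⟩
  · intro d h
    unfold Helper2_BrauerFirst.conv
    refine (Fintype.sum_equiv (cj P H hPN d).toEquiv _ _ fun y => ?_).symm
    simp only [MulEquiv.toEquiv_eq_coe, MulEquiv.coe_toEquiv]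
    rw [h₁.inv d y]
    have : (cj P H hPN d y)⁻¹ * cj P H hPN d h = cj P H hPN d (y⁻¹ * h) := by
      rw [map_mul, map_inv]
    rw [this, h₂.inv d]
  · intro h
    unfold Helper2_BrauerFirst.conv
    apply memLocalRing_sum hM
    intro y _
    exact memLocalRing_mul hM (h₁.loc _) (h₂.loc _)

theorem InvA.blockCoeff (hM : M.IsMaximal) (f : Set (IrrCharacter H)) (hf : IsPBlock M f)
    (hst : ∀ d : P, cjSet P H hPN d f = f) : InvA M P H hPN (blockCoeff f) := by
  obtain ⟨χ, rfl⟩ := hf
  refine ⟨blockCoeff_isClassFunction _, ?_, fun h => memLocalRing_blockCoeff hM χ.2 h⟩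
  intro d h
  have := blockCoeff_cjSet P H hPN d (blockOf M (χ : H → ℂ)) h
  rwa [hst d] at this

open Classical in
theorem sum_centralizer_eq (F : H → ℂ) :
    ∑ y : Subgroup.centralizer (P : Set G), F ⟨y, hCH y.2⟩
      = ∑ y ∈ Finset.univ.filter
          (fun y : H => (y : G) ∈ Subgroup.centralizer (P : Set G)), F y := by
  classical
  refine Finset.sum_bij (fun y _ => (⟨y, hCH y.2⟩ : H)) ?_ ?_ ?_ ?_
  · intro y _
    rw [Finset.mem_filter]
    exact ⟨Finset.mem_univ _, y.2⟩
  · intro a _ b _ hab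
    apply Subtype.ext
    have := congrArg (fun x : H => (x : G)) hab
    exact this
  · intro b hb
    rw [Finset.mem_filter] at hb
    exact ⟨⟨b, hb.2⟩, Finset.mem_univ _, rfl⟩
  · intro a _
    rfl

end Inv

section Main

variable {G : Type u} [Group G] [Fintype G] {M : Ideal AlgInt}
variable (P H : Subgroup G) (hPN : P ≤ Subgroup.normalizer (H : Set G))
  (hCH : Subgroup.centralizer (P : Set G) ≤ H)
variable [Fintype H] [Fintype (Subgroup.centralizer (P : Set G))]

theorem cj_of_mem_centralizer (d : P) (h : H) (hh : (h : G) ∈ Subgroup.centralizer (P : Set G)) :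
    cj P H hPN d h = h := by
  apply Subtype.ext
  rw [cj_coe]
  have := Subgroup.mem_centralizer_iff.mp hh d d.2
  calc (d : G) * h * (d : G)⁻¹ = (h : G) * d * (d : G)⁻¹ := by rw [this]
    _ = h := by group

theorem cj_mem_centralizer_iff (d : P) (y : H) :
    ((cj P H hPN d y : H) : G) ∈ Subgroup.centralizer (P : Set G)
      ↔ (y : G) ∈ Subgroup.centralizer (P : Set G) := by
  have key : ∀ (d : P) (y : H), (y : G) ∈ Subgroup.centralizer (P : Set G) →
      ((cj P H hPN d y : H) : G) ∈ Subgroup.centralizer (P : Set G) := by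
    intro d y hy
    rw [cj_of_mem_centralizer P H hPN d y hy]
    exact hy
  constructor
  · intro h
    have := key d⁻¹ _ h
    rwa [← cj_mul, inv_mul_cancel, cj_one] at this
  · exact key d y

open Classical in
/-- The truncation to the centralizer of `P` is multiplicative modulo the local ideal on
`P`-invariant elements. -/
theorem trunc_conv_sub_mem {p : ℕ} [hp : Fact p.Prime] (hM : IsPModular p M)
    (hP : IsPGroup p P) {w₁ w₂ : H → ℂ} (h₁ : InvA M P H hPN w₁) (h₂ : InvA M P H hPN w₂)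
    (c : Subgroup.centralizer (P : Set G)) :
    MemLocalIdeal M (trunc P H hCH (conv w₁ w₂) c
      - conv (trunc P H hCH w₁) (trunc P H hCH w₂) c) := by
  have hMm := hM.2.1
  set ιc : H := ⟨c, hCH c.2⟩ with hιc
  set F : H → ℂ := fun y => w₁ y * w₂ (y⁻¹ * ιc) with hF
  have e1 : conv (trunc P H hCH w₁) (trunc P H hCH w₂) c
      = ∑ y ∈ Finset.univ.filter
          (fun y : H => (y : G) ∈ Subgroup.centralizer (P : Set G)), F y := by
    rw [← sum_centralizer_eq P H hCH F]
    unfold Helper2_BrauerFirst.conv trunc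
    refine Finset.sum_congr rfl fun y _ => ?_
    rfl
  have e2 : trunc P H hCH (conv w₁ w₂) c = ∑ y : H, F y := rfl
  have e3 : trunc P H hCH (conv w₁ w₂) c - conv (trunc P H hCH w₁) (trunc P H hCH w₂) c
      = ∑ y ∈ Finset.univ.filter
          (fun y : H => (y : G) ∉ Subgroup.centralizer (P : Set G)), F y := by
    rw [e1, e2]
    have := Finset.sum_filter_add_sum_filter_not (Finset.univ : Finset H)
      (fun y : H => (y : G) ∈ Subgroup.centralizer (P : Set G)) F
    rw [← this]
    ring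
  rw [e3]
  letI : MulAction P H := actH P H hPN
  have hsm : ∀ (d : P) (y : H), d • y = cj P H hPN d y := fun _ _ => rfl
  apply memLocalIdeal_sum_of_no_fixed' hM hP _ F
  · intro y _
    exact memLocalRing_mul hMm (h₁.loc _) (h₂.loc _)
  · intro d y hy
    rw [Finset.mem_filter] at hy ⊢
    refine ⟨Finset.mem_univ _, fun hc => hy.2 ?_⟩
    rw [hsm] at hc
    exact (cj_mem_centralizer_iff P H hPN d y).mp hc
  · intro d y _
    rw [hsm, hF]
    simp only
    rw [h₁.inv d y]
    have : (cj P H hPN d y)⁻¹ * ιc = cj P H hPN d (y⁻¹ * ιc) := by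
      rw [map_mul, map_inv, cj_of_mem_centralizer P H hPN d ιc c.2]
    rw [this, h₂.inv d]
  · intro y hy
    have hyC := (Finset.mem_filter.mp hy).2
    rw [Subgroup.mem_centralizer_iff] at hyC
    push Not at hyC
    obtain ⟨d, hd, hne⟩ := hyC
    refine ⟨⟨d, hd⟩, fun heq => hne ?_⟩
    rw [hsm] at heq
    have h2 := congrArg (fun x : H => (x : G)) heq
    simp only [cj_coe] at h2
    calc d * (y : G) = d * y * d⁻¹ * d := by group
      _ = y * d := by rw [h2]

/-- **Multiplicativity** of the Brauer map followed by a central character. -/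
theorem lam_conv_sub_mem {p : ℕ} [hp : Fact p.Prime] (hM : IsPModular p M)
    (hP : IsPGroup p P) (ξ : IrrCharacter (Subgroup.centralizer (P : Set G)))
    {w₁ w₂ : H → ℂ} (h₁ : InvA M P H hPN w₁) (h₂ : InvA M P H hPN w₂) :
    MemLocalIdeal M (lam P H hCH (ξ : Subgroup.centralizer (P : Set G) → ℂ) (conv w₁ w₂)
      - lam P H hCH (ξ : Subgroup.centralizer (P : Set G) → ℂ) w₁
        * lam P H hCH (ξ : Subgroup.centralizer (P : Set G) → ℂ) w₂) := by
  have hMm := hM.2.1
  unfold lam
  rw [← om_conv ξ.2 _ _ (trunc_isClassFunction P H hCH h₂.cf), ← om_sub]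
  apply memLocalIdeal_om hMm ξ.2
  · intro c t
    show trunc P H hCH (conv w₁ w₂) (t * c * t⁻¹)
        - conv (trunc P H hCH w₁) (trunc P H hCH w₂) (t * c * t⁻¹)
      = trunc P H hCH (conv w₁ w₂) c - conv (trunc P H hCH w₁) (trunc P H hCH w₂) c
    rw [trunc_isClassFunction P H hCH (conv_isClassFunction h₁.cf h₂.cf) c t,
      conv_isClassFunction (trunc_isClassFunction P H hCH h₁.cf)
        (trunc_isClassFunction P H hCH h₂.cf) c t]
  · intro c
    exact trunc_conv_sub_mem P H hPN hCH hM hP h₁ h₂ c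

open Classical in
/-- The Brauer map followed by a central character agrees, on each invariant element, with
the central character of some irreducible character of `H`. -/
theorem exists_irr_lam {p : ℕ} [hp : Fact p.Prime] (hM : IsPModular p M)
    (hP : IsPGroup p P) (ξ : IrrCharacter (Subgroup.centralizer (P : Set G)))
    {w : H → ℂ} (hw : InvA M P H hPN w) :
    ∃ θ : IrrCharacter H, MemLocalIdeal M
      (lam P H hCH (ξ : Subgroup.centralizer (P : Set G) → ℂ) w - om (θ : H → ℂ) w) := by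
  have hMm := hM.2.1
  have hξ1 : (ξ : Subgroup.centralizer (P : Set G) → ℂ) 1 ≠ 0 :=
    IsIrrCharacter.apply_one_ne_zero ξ.2
  set L := lam P H hCH (ξ : Subgroup.centralizer (P : Set G) → ℂ) with hL
  have hcR : ∀ θ ∈ irrFinset H, MemLocalRing M (om θ w) := fun θ hθ =>
    memLocalRing_om hMm (mem_irrFinset.mp hθ) hw.cf hw.loc
  have hLR : MemLocalRing M (L w) := memLocalRing_lam P H hCH hMm ξ hw.cf hw.loc
  have hind : ∀ S : Finset (H → ℂ), S ⊆ irrFinset H → ∃ z : H → ℂ, InvA M P H hPN z ∧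
      (∀ ψ, IsIrrCharacter H ψ → om ψ z = ∏ θ ∈ S, (om ψ w - om θ w)) ∧
      MemLocalIdeal M (L z - ∏ θ ∈ S, (L w - om θ w)) := by
    intro S
    induction S using Finset.induction_on with
    | empty =>
      intro _
      refine ⟨dlt H, InvA.of_dlt P H hPN hMm, ?_, ?_⟩
      · intro ψ hψ
        rw [Finset.prod_empty]
        exact om_delta ψ (IsIrrCharacter.apply_one_ne_zero hψ)
      · rw [Finset.prod_empty, hL, lam_delta P H hCH _ hξ1, sub_self]
        exact memLocalIdeal_zero hMm
    | insert a S ha ih =>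
      intro hsub
      have haI := hsub (Finset.mem_insert_self a S)
      obtain ⟨z, hz, hz1, hz2⟩ := ih (fun x hx => hsub (Finset.mem_insert_of_mem hx))
      have hu : InvA M P H hPN (fun k => w k - om a w * dlt H k) :=
        InvA.sub_smul_delta P H hPN hMm hw (hcR a haI)
      refine ⟨conv (fun k => w k - om a w * dlt H k) z, InvA.conv P H hPN hMm hu hz, ?_, ?_⟩
      · intro ψ hψ
        rw [om_conv hψ _ _ hz.cf, hz1 ψ hψ, Finset.prod_insert ha,
          om_sub_smul_delta ψ (IsIrrCharacter.apply_one_ne_zero hψ)]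
      · have h1 := lam_conv_sub_mem P H hPN hCH hM hP ξ hu hz
        rw [← hL, hL, lam_sub_smul_delta P H hCH _ hξ1, ← hL] at h1
        rw [Finset.prod_insert ha]
        have hfR : MemLocalRing M (L w - om a w) := memLocalRing_sub hMm hLR (hcR a haI)
        have h3 := memLocalIdeal_mul_ring hMm hz2 hfR
        have := memLocalIdeal_add hMm h1 h3
        have e : L (conv (fun k => w k - om a w * dlt H k) z) - (L w - om a w) * L z
            + (L w - om a w) * (L z - ∏ θ ∈ S, (L w - om θ w))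
            = L (conv (fun k => w k - om a w * dlt H k) z)
              - (L w - om a w) * ∏ θ ∈ S, (L w - om θ w) := by ring
        rwa [e] at this
  obtain ⟨z, hz, hz1, hz2⟩ := hind (irrFinset H) (Finset.Subset.refl _)
  have hz0 : z = 0 := by
    apply eq_zero_of_forall_sum_eq_zero z hz.cf
    intro χ hχ
    have h1 := hz1 χ hχ
    rw [Finset.prod_eq_zero (f := fun θ => om χ w - om θ w) (mem_irrFinset.mpr hχ) (sub_self _)] at h1
    unfold om at h1
    rcases div_eq_zero_iff.mp h1 with h | h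
    · exact h
    · exact absurd h (IsIrrCharacter.apply_one_ne_zero hχ)
  have hLz : L z = 0 := by
    rw [hz0, hL]
    exact lam_zero P H hCH _
  rw [hLz, zero_sub] at hz2
  have hprod := memLocalIdeal_neg hMm hz2
  rw [neg_neg] at hprod
  by_contra hcon
  push Not at hcon
  apply not_memLocalIdeal_prod hMm (irrFinset H) (fun θ => L w - om θ w) _ _ hprod
  · intro θ hθ
    exact memLocalRing_sub hMm hLR (hcR θ hθ)
  · intro θ hθ
    exact hcon ⟨θ, mem_irrFinset.mp hθ⟩

end Main

section Stable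

variable {G : Type u} [Group G] [Fintype G] {M : Ideal AlgInt}
variable (P H : Subgroup G) (hPN : P ≤ Subgroup.normalizer (H : Set G))
  (hCH : Subgroup.centralizer (P : Set G) ≤ H)
variable [Fintype H] [Fintype (Subgroup.centralizer (P : Set G))]

open Classical in
/-- **Key congruence.** If the stable block `f` of `H` is hit by `ξ` under the Brauer map at
`P`, then the Brauer map followed by the central character of `ξ` agrees on all invariant
elements with the central character of `f`. -/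
theorem lam_sub_om_mem {p : ℕ} [hp : Fact p.Prime] (hM : IsPModular p M)
    (hP : IsPGroup p P) (ξ : IrrCharacter (Subgroup.centralizer (P : Set G)))
    (f : Set (IrrCharacter H)) (hf : IsPBlock M f) (hst : ∀ d : P, cjSet P H hPN d f = f)
    (hlam : MemLocalIdeal M
      (lam P H hCH (ξ : Subgroup.centralizer (P : Set G) → ℂ) (blockCoeff f) - 1))
    (θ : IrrCharacter H) (hθ : θ ∈ f) {w : H → ℂ} (hw : InvA M P H hPN w) :
    MemLocalIdeal M
      (lam P H hCH (ξ : Subgroup.centralizer (P : Set G) → ℂ) w - om (θ : H → ℂ) w) := by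
  have hMm := hM.2.1
  have hξ1 : (ξ : Subgroup.centralizer (P : Set G) → ℂ) 1 ≠ 0 :=
    IsIrrCharacter.apply_one_ne_zero ξ.2
  set L := lam P H hCH (ξ : Subgroup.centralizer (P : Set G) → ℂ) with hL
  set c := om (θ : H → ℂ) w with hc
  have hcR : MemLocalRing M c := memLocalRing_om hMm θ.2 hw.cf hw.loc
  have hLR : MemLocalRing M (L w) := memLocalRing_lam P H hCH hMm ξ hw.cf hw.loc
  have he := InvA.blockCoeff P H hPN hMm f hf hst
  have hu : InvA M P H hPN (fun k => w k - c * dlt H k) :=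
    InvA.sub_smul_delta P H hPN hMm hw hcR
  have hw' := InvA.conv P H hPN hMm hu he
  obtain ⟨ψ, hψ⟩ := exists_irr_lam P H hPN hCH hM hP ξ hw'
  rw [← hL] at hψ
  -- the central characters of `w'` all vanish modulo the ideal
  have h0 : MemLocalIdeal M (om (ψ : H → ℂ) (conv (fun k => w k - c * dlt H k) (blockCoeff f)))
      := by
    rw [om_conv ψ.2 _ _ he.cf, om_sub_smul_delta _ (IsIrrCharacter.apply_one_ne_zero ψ.2),
      om_blockCoeff f ψ.2]
    by_cases hm : MemB f (ψ : H → ℂ)
    · rw [if_pos hm, mul_one]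
      have hψf : ψ ∈ f := (memB_coe f ψ).mp hm
      obtain ⟨χ₀, rfl⟩ := hf
      have hs : SameBlock M (ψ : H → ℂ) (θ : H → ℂ) :=
        sameBlock_trans hMm (sameBlock_symm hMm hψf) hθ
      exact om_sub_mem hMm (IsCharacter.isClassFunction (IsIrrCharacter.isCharacter ψ.2))
        (IsCharacter.isClassFunction (IsIrrCharacter.isCharacter θ.2)) hs hw.cf hw.loc
    · rw [if_neg hm, mul_zero]
      exact memLocalIdeal_zero hMm
  have h1 : MemLocalIdeal M (L (conv (fun k => w k - c * dlt H k) (blockCoeff f))) := by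
    have := memLocalIdeal_add hMm hψ h0
    rwa [sub_add_cancel] at this
  have h2 := lam_conv_sub_mem P H hPN hCH hM hP ξ hu he
  rw [← hL, hL, lam_sub_smul_delta P H hCH _ hξ1, ← hL] at h2
  -- `(L w - c) * L e_f ≡ 0`
  have h3 : MemLocalIdeal M ((L w - c) * L (blockCoeff f)) := by
    have := memLocalIdeal_sub hMm h1 h2
    rwa [sub_sub_cancel] at this
  have h4 : MemLocalIdeal M ((L w - c) * (L (blockCoeff f) - 1)) :=
    memLocalIdeal_mul_ring hMm hlam (memLocalRing_sub hMm hLR hcR)
  have := memLocalIdeal_sub hMm h3 h4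
  have e : (L w - c) * L (blockCoeff f) - (L w - c) * (L (blockCoeff f) - 1) = L w - c := by
    ring
  rwa [e] at this

open Classical in
/-- Existence of a stable block hit by `ξ`. -/
theorem exists_stable_block {p : ℕ} [hp : Fact p.Prime] (hM : IsPModular p M)
    (hP : IsPGroup p P) (ξ : IrrCharacter (Subgroup.centralizer (P : Set G))) :
    ∃ f : Set (IrrCharacter H), IsPBlock M f ∧ (∀ d : P, cjSet P H hPN d f = f) ∧
      MemLocalIdeal M
        (lam P H hCH (ξ : Subgroup.centralizer (P : Set G) → ℂ) (blockCoeff f) - 1) := by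
  have hMm := hM.2.1
  have hξ1 : (ξ : Subgroup.centralizer (P : Set G) → ℂ) 1 ≠ 0 :=
    IsIrrCharacter.apply_one_ne_zero ξ.2
  set L := lam P H hCH (ξ : Subgroup.centralizer (P : Set G) → ℂ) with hL
  set 𝔅 : Finset (Set (IrrCharacter H)) :=
    ((irrFinset H).filter (MemB (Set.univ : Set (IrrCharacter H)))).image
      (fun ψ : H → ℂ => blockOf M ψ) with h𝔅
  have hmem : ∀ β ∈ 𝔅, ∃ χ : IrrCharacter H, β = blockOf M (χ : H → ℂ) := by
    intro β hβ
    obtain ⟨ψ, hψ, rfl⟩ := Finset.mem_image.mp hβ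
    exact ⟨⟨ψ, mem_irrFinset.mp (Finset.mem_filter.mp hψ).1⟩, rfl⟩
  have hmem' : ∀ χ : IrrCharacter H, blockOf M (χ : H → ℂ) ∈ 𝔅 := by
    intro χ
    apply Finset.mem_image.mpr
    refine ⟨(χ : H → ℂ), Finset.mem_filter.mpr ⟨mem_irrFinset.mpr χ.2, ?_⟩, rfl⟩
    exact (memB_coe _ χ).mpr (Set.mem_univ _)
  -- the sum of all block idempotents is the identity
  have h1 : blockCoeff (Set.univ : Set (IrrCharacter H))
      = fun x => ∑ β ∈ 𝔅, blockCoeff β x := by
    funext x
    exact blockCoeff_closed_eq_sum hMm Set.univ (fun _ _ _ _ => Set.mem_univ _) x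
  have h2 : blockCoeff (Set.univ : Set (IrrCharacter H)) = dlt H := by
    funext x
    rw [blockCoeff_univ]
    unfold dlt
    rfl
  have h3 : ∑ β ∈ 𝔅, L (blockCoeff β) = 1 := by
    rw [← lam_sum P H hCH, ← h1, h2]
    exact lam_delta P H hCH _ hξ1
  have hLR : ∀ β ∈ 𝔅, MemLocalRing M (L (blockCoeff β)) := by
    intro β hβ
    obtain ⟨χ, rfl⟩ := hmem β hβ
    exact memLocalRing_lam P H hCH hMm ξ (blockCoeff_isClassFunction _)
      (fun h => memLocalRing_blockCoeff hMm χ.2 h)
  -- the unstable blocks contribute nothing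
  have h4 : MemLocalIdeal M
      (∑ β ∈ 𝔅.filter (fun β => ¬ ∀ d : P, cjSet P H hPN d β = β), L (blockCoeff β)) := by
    letI : MulAction P (Set (IrrCharacter H)) :=
      { smul := fun d β => cjSet P H hPN d β
        one_smul := fun β => cjSet_one P H hPN β
        mul_smul := fun a b β => cjSet_mul P H hPN a b β }
    have hsm : ∀ (d : P) (β : Set (IrrCharacter H)), d • β = cjSet P H hPN d β :=
      fun _ _ => rfl
    apply memLocalIdeal_sum_of_no_fixed' hM hP _ (fun β => L (blockCoeff β))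
    · intro β hβ
      exact hLR β (Finset.mem_filter.mp hβ).1
    · intro d β hβ
      rw [Finset.mem_filter] at hβ ⊢
      obtain ⟨χ, rfl⟩ := hmem β hβ.1
      refine ⟨?_, fun hall => hβ.2 ?_⟩
      · rw [hsm, cjSet_blockOf]
        exact hmem' _
      · intro d'
        have := hall (d * d' * d⁻¹)
        rw [hsm, ← cjSet_mul] at this
        have h5 : d * d' * d⁻¹ * d = d * d' := by group
        rw [h5, cjSet_mul] at this
        have h6 := congrArg (cjSet P H hPN d⁻¹) this
        have h7 : ∀ X, cjSet P H hPN d⁻¹ (cjSet P H hPN d X) = X := fun X => by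
          rw [← cjSet_mul, inv_mul_cancel, cjSet_one]
        rw [h7, h7] at h6
        exact h6
    · intro d β _
      rw [hsm]
      show L (blockCoeff (cjSet P H hPN d β)) = L (blockCoeff β)
      rw [hL]
      unfold lam
      congr 1
      funext c
      unfold trunc
      have := blockCoeff_cjSet P H hPN d β ⟨c, hCH c.2⟩
      rwa [cj_of_mem_centralizer P H hPN d ⟨c, hCH c.2⟩ c.2] at this
    · intro β hβ
      have := (Finset.mem_filter.mp hβ).2
      push Not at this
      obtain ⟨d, hd⟩ := this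
      exact ⟨d, hd⟩
  -- hence some stable block has a unit value
  have h5 : ∃ β ∈ 𝔅.filter (fun β => ∀ d : P, cjSet P H hPN d β = β),
      ¬ MemLocalIdeal M (L (blockCoeff β)) := by
    by_contra hall
    push Not at hall
    have h6 : MemLocalIdeal M
        (∑ β ∈ 𝔅.filter (fun β => ∀ d : P, cjSet P H hPN d β = β), L (blockCoeff β)) :=
      memLocalIdeal_sum hMm _ _ hall
    have h7 := memLocalIdeal_add hMm h6 h4
    rw [Finset.sum_filter_add_sum_filter_not, h3] at h7
    exact not_memLocalIdeal_one hMm h7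
  obtain ⟨β, hβ, hunit⟩ := h5
  rw [Finset.mem_filter] at hβ
  obtain ⟨χ, rfl⟩ := hmem β hβ.1
  refine ⟨blockOf M (χ : H → ℂ), ⟨χ, rfl⟩, hβ.2, ?_⟩
  have he := InvA.blockCoeff P H hPN hMm (blockOf M (χ : H → ℂ)) ⟨χ, rfl⟩ hβ.2
  obtain ⟨ψ, hψ⟩ := exists_irr_lam P H hPN hCH hM hP ξ he
  rw [← hL, om_blockCoeff _ ψ.2] at hψ
  by_cases hm : MemB (blockOf M (χ : H → ℂ)) (ψ : H → ℂ)
  · rwa [if_pos hm] at hψ
  · rw [if_neg hm, sub_zero] at hψ
    exact absurd hψ hunit

/-- Uniqueness of the stable block hit by `ξ`. -/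
theorem stable_block_unique {p : ℕ} [hp : Fact p.Prime] (hM : IsPModular p M)
    (hP : IsPGroup p P) (ξ : IrrCharacter (Subgroup.centralizer (P : Set G)))
    (f f' : Set (IrrCharacter H)) (hf : IsPBlock M f) (hf' : IsPBlock M f')
    (hst : ∀ d : P, cjSet P H hPN d f = f) (hst' : ∀ d : P, cjSet P H hPN d f' = f')
    (hlam : MemLocalIdeal M
      (lam P H hCH (ξ : Subgroup.centralizer (P : Set G) → ℂ) (blockCoeff f) - 1))
    (hlam' : MemLocalIdeal M
      (lam P H hCH (ξ : Subgroup.centralizer (P : Set G) → ℂ) (blockCoeff f') - 1)) :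
    f = f' := by
  classical
  have hMm := hM.2.1
  obtain ⟨θ, rfl⟩ := hf
  have hθ : θ ∈ blockOf M (θ : H → ℂ) := self_mem_blockOf hMm θ
  have he' := InvA.blockCoeff P H hPN hMm f' hf' hst'
  have h1 := lam_sub_om_mem P H hPN hCH hM hP ξ (blockOf M (θ : H → ℂ)) ⟨θ, rfl⟩ hst hlam θ hθ he'
  rw [om_blockCoeff _ θ.2] at h1
  by_cases hm : MemB f' (θ : H → ℂ)
  · have hθf' : θ ∈ f' := (memB_coe f' θ).mp hm
    obtain ⟨θ', rfl⟩ := hf'
    exact (blockOf_eq_of_sameBlock hMm hθf')
  · exfalso
    rw [if_neg hm, sub_zero] at h1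
    have := memLocalIdeal_sub hMm h1 hlam'
    rw [sub_sub_cancel] at this
    exact not_memLocalIdeal_one hMm this

end Stable

section Pairs

variable {G : Type u} [Group G] [Fintype G] {M : Ideal AlgInt}

theorem normalizer_le_normalizer_centralizer (Q : Subgroup G) :
    Subgroup.normalizer (Q : Set G)
      ≤ Subgroup.normalizer ((Subgroup.centralizer (Q : Set G) : Subgroup G) : Set G) := by
  intro g hg
  rw [Subgroup.mem_normalizer_iff]
  intro h
  constructor
  · intro hh
    exact centralizer_conj_mem Q (Subgroup.normalizer (Q : Set G)) le_rfl ⟨g, hg⟩ h hh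
  · intro hh
    have hg' : g⁻¹ ∈ Subgroup.normalizer (Q : Set G) := Subgroup.inv_mem _ hg
    have := centralizer_conj_mem Q (Subgroup.normalizer (Q : Set G)) le_rfl ⟨g⁻¹, hg'⟩ _ hh
    have e : g⁻¹ * (g * h * g⁻¹) * g⁻¹⁻¹ = h := by group
    simp only at this
    rwa [e] at this

omit [Fintype G] in
theorem subgroupBlockCoeff_coe (H : Subgroup G) (f : Set (IrrCharacter H)) (h : H) :
    subgroupBlockCoeff H f (h : G) = blockCoeff f h := by
  unfold subgroupBlockCoeff
  rw [dif_pos h.2]

omit [Fintype G] in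
theorem subgroupBlockCoeff_of_mem (H : Subgroup G) (f : Set (IrrCharacter H)) (g : G)
    (hg : g ∈ H) : subgroupBlockCoeff H f g = blockCoeff f ⟨g, hg⟩ := by
  unfold subgroupBlockCoeff
  rw [dif_pos hg]

omit [Fintype G] in
theorem brauerOmega_eq_lam (P H : Subgroup G) (hCH : Subgroup.centralizer (P : Set G) ≤ H)
    [Fintype (Subgroup.centralizer (P : Set G))] (β : G → ℂ)
    (ξ : Subgroup.centralizer (P : Set G) → ℂ) :
    brauerOmega P β ξ = lam P H hCH ξ (fun h : H => β h) := by
  unfold brauerOmega lam om trunc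
  rw [finsum_eq_sum_of_fintype, Finset.sum_div]

omit [Fintype G] in
theorem brauerOmega_eq_om (Q : Subgroup G) [Fintype (Subgroup.centralizer (Q : Set G))]
    (β : G → ℂ) (θ : Subgroup.centralizer (Q : Set G) → ℂ) :
    brauerOmega Q β θ = om θ (fun h : Subgroup.centralizer (Q : Set G) => β h) := by
  unfold brauerOmega om
  rw [finsum_eq_sum_of_fintype, Finset.sum_div]

/-- **Key congruence for a normal inclusion of Brauer pairs.** -/
theorem normalSubpair_key {p : ℕ} [hp : Fact p.Prime] (hM : IsPModular p M)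
    (P Q : Subgroup G) (e : Set (IrrCharacter (Subgroup.centralizer (P : Set G))))
    (f : Set (IrrCharacter (Subgroup.centralizer (Q : Set G))))
    (hns : IsNormalSubpair p M Q f P e) (β : G → ℂ)
    (hcf : ∀ t ∈ Subgroup.centralizer (Q : Set G), ∀ h ∈ Subgroup.centralizer (Q : Set G),
      β (t * h * t⁻¹) = β h)
    (hinv : ∀ d ∈ P, ∀ h ∈ Subgroup.centralizer (Q : Set G), β (d * h * d⁻¹) = β h)
    (hloc : ∀ h ∈ Subgroup.centralizer (Q : Set G), MemLocalRing M (β h))
    (ξ : IrrCharacter (Subgroup.centralizer (P : Set G))) (hξ : ξ ∈ e)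
    (θ : IrrCharacter (Subgroup.centralizer (Q : Set G))) (hθ : θ ∈ f) :
    MemLocalIdeal M (brauerOmega P β (ξ : Subgroup.centralizer (P : Set G) → ℂ)
      - brauerOmega Q β (θ : Subgroup.centralizer (Q : Set G) → ℂ)) := by
  classical
  haveI : Fintype (Subgroup.centralizer (P : Set G)) := Fintype.ofFinite _
  haveI : Fintype (Subgroup.centralizer (Q : Set G)) := Fintype.ofFinite _
  obtain ⟨⟨hQ, hfB⟩, ⟨hP, heB⟩, hQP, hPN, hstab, hom⟩ := hns
  have hPNH : P ≤ Subgroup.normalizer
      ((Subgroup.centralizer (Q : Set G) : Subgroup G) : Set G) :=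
    hPN.trans (normalizer_le_normalizer_centralizer Q)
  have hCH : Subgroup.centralizer (P : Set G) ≤ Subgroup.centralizer (Q : Set G) :=
    Subgroup.centralizer_le hQP
  have hst := (stabilizes_iff P (Subgroup.centralizer (Q : Set G)) hPNH f).mp hstab
  have hw : InvA M P (Subgroup.centralizer (Q : Set G)) hPNH
      (fun h : Subgroup.centralizer (Q : Set G) => β h) := by
    refine ⟨?_, ?_, ?_⟩
    · intro h t
      exact hcf t t.2 h h.2
    · intro d h
      show β ((cj P _ hPNH d h : Subgroup.centralizer (Q : Set G)) : G) = β h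
      rw [cj_coe]
      exact hinv d d.2 h h.2
    · intro h
      exact hloc h h.2
  have hlam : MemLocalIdeal M
      (lam P (Subgroup.centralizer (Q : Set G)) hCH
        (ξ : Subgroup.centralizer (P : Set G) → ℂ) (blockCoeff f) - 1) := by
    have h1 := hom ξ hξ
    rw [brauerOmega_eq_lam P (Subgroup.centralizer (Q : Set G)) hCH] at h1
    have h2 : (fun h : Subgroup.centralizer (Q : Set G) =>
        subgroupBlockCoeff (Subgroup.centralizer (Q : Set G)) f (h : G)) = blockCoeff f := by
      funext h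
      exact subgroupBlockCoeff_coe _ f h
    rwa [h2] at h1
  have key := lam_sub_om_mem P (Subgroup.centralizer (Q : Set G)) hPNH hCH hM hP ξ f hfB hst
    hlam θ hθ hw
  rw [brauerOmega_eq_lam P (Subgroup.centralizer (Q : Set G)) hCH, brauerOmega_eq_om]
  exact key

/-- **Existence and uniqueness of the normal subpair below a Brauer pair.** -/
theorem existsUnique_normalSubpair {p : ℕ} [hp : Fact p.Prime] (hM : IsPModular p M)
    (P Q : Subgroup G) (e : Set (IrrCharacter (Subgroup.centralizer (P : Set G))))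
    (hPe : IsBrauerPair p M P e) (hQP : Q ≤ P) (hPN : P ≤ Subgroup.normalizer (Q : Set G)) :
    ∃! f : Set (IrrCharacter (Subgroup.centralizer (Q : Set G))),
      IsNormalSubpair p M Q f P e := by
  classical
  haveI : Fintype (Subgroup.centralizer (P : Set G)) := Fintype.ofFinite _
  haveI : Fintype (Subgroup.centralizer (Q : Set G)) := Fintype.ofFinite _
  have hMm := hM.2.1
  obtain ⟨hP, ξ₀, rfl⟩ := hPe
  have hPNH : P ≤ Subgroup.normalizer
      ((Subgroup.centralizer (Q : Set G) : Subgroup G) : Set G) :=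
    hPN.trans (normalizer_le_normalizer_centralizer Q)
  have hCH : Subgroup.centralizer (P : Set G) ≤ Subgroup.centralizer (Q : Set G) :=
    Subgroup.centralizer_le hQP
  have hsbc : ∀ f : Set (IrrCharacter (Subgroup.centralizer (Q : Set G))),
      (fun h : Subgroup.centralizer (Q : Set G) =>
        subgroupBlockCoeff (Subgroup.centralizer (Q : Set G)) f (h : G)) = blockCoeff f := by
    intro f
    funext h
    exact subgroupBlockCoeff_coe _ f h
  obtain ⟨f, hfB, hst, hlam⟩ :=
    exists_stable_block P (Subgroup.centralizer (Q : Set G)) hPNH hCH hM hP ξ₀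
  refine ⟨f, ⟨⟨hP.to_le hQP, hfB⟩, ⟨hP, ξ₀, rfl⟩, hQP, hPN,
    (stabilizes_iff P _ hPNH f).mpr hst, ?_⟩, ?_⟩
  · intro ξ hξ
    rw [brauerOmega_eq_lam P (Subgroup.centralizer (Q : Set G)) hCH, hsbc]
    obtain ⟨χ, rfl⟩ := hfB
    have hcf := blockCoeff_isClassFunction (blockOf M (χ : Subgroup.centralizer (Q : Set G) → ℂ))
    have h1 := om_sub_mem hMm
      (IsCharacter.isClassFunction (IsIrrCharacter.isCharacter ξ₀.2))
      (IsCharacter.isClassFunction (IsIrrCharacter.isCharacter ξ.2)) hξ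
      (trunc_isClassFunction P _ hCH hcf)
      (fun c => memLocalRing_blockCoeff hMm χ.2 _)
    have h2 := memLocalIdeal_sub hMm hlam h1
    have e : lam P (Subgroup.centralizer (Q : Set G)) hCH
          (ξ₀ : Subgroup.centralizer (P : Set G) → ℂ)
          (blockCoeff (blockOf M (χ : Subgroup.centralizer (Q : Set G) → ℂ))) - 1
        - (om (ξ₀ : Subgroup.centralizer (P : Set G) → ℂ)
            (trunc P _ hCH (blockCoeff (blockOf M (χ : Subgroup.centralizer (Q : Set G) → ℂ))))
          - om (ξ : Subgroup.centralizer (P : Set G) → ℂ)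
            (trunc P _ hCH (blockCoeff (blockOf M (χ : Subgroup.centralizer (Q : Set G) → ℂ)))))
        = lam P (Subgroup.centralizer (Q : Set G)) hCH
          (ξ : Subgroup.centralizer (P : Set G) → ℂ)
          (blockCoeff (blockOf M (χ : Subgroup.centralizer (Q : Set G) → ℂ))) - 1 := by
      unfold lam
      ring
    rwa [e] at h2
  · rintro f' ⟨⟨_, hfB'⟩, _, _, _, hstab', hom'⟩
    have hst' := (stabilizes_iff P _ hPNH f').mp hstab'
    have hlam' := hom' ξ₀ (self_mem_blockOf hMm ξ₀)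
    rw [brauerOmega_eq_lam P (Subgroup.centralizer (Q : Set G)) hCH, hsbc] at hlam'
    exact stable_block_unique P _ hPNH hCH hM hP ξ₀ f' f hfB' hfB hst' hst hlam' hlam

end Pairs

end Cfsg.Agent.Lib.Helper2_BrauerInv
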