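import Mathlib

set_option autoImplicit false
open scoped Pointwise

namespace Cfsg.Agent.Lib.Helper2_Conj

/-- Membership in a conjugate subgroup `g A g⁻¹`. -/
lemma mem_conj {G : Type*} [Group G] (A : Subgroup G) (g x : G) :
    x ∈ A.map (MulAut.conj g).toMonoidHom ↔ g⁻¹ * x * g ∈ A := by
  constructor
  · rintro ⟨a, ha, rfl⟩
    simpa [MulAut.conj_apply, mul_assoc] using ha
  · intro h
    refine ⟨g⁻¹ * x * g, h, ?_⟩
    simp [MulAut.conj_apply, mul_assoc]

lemma conj_mem_conj {G : Type*} [Group G] (A : Subgroup G) (g a : G) (ha : a ∈ A) :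
    g * a * g⁻¹ ∈ A.map (MulAut.conj g).toMonoidHom := by
  rw [mem_conj]
  have : g⁻¹ * (g * a * g⁻¹) * g = a := by group
  rwa [this]

lemma conj_conj {G : Type*} [Group G] (A : Subgroup G) (g h : G) :
    (A.map (MulAut.conj g).toMonoidHom).map (MulAut.conj h).toMonoidHom
      = A.map (MulAut.conj (h * g)).toMonoidHom := by
  ext x
  simp only [mem_conj]
  have : g⁻¹ * (h⁻¹ * x * h) * g = (h * g)⁻¹ * x * (h * g) := by group
  rw [this]

lemma conj_one {G : Type*} [Group G] (A : Subgroup G) :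
    A.map (MulAut.conj (1 : G)).toMonoidHom = A := by
  ext x; simp

lemma conj_eq_self_of_mem_normalizer {G : Type*} [Group G] (A : Subgroup G) (g : G)
    (hg : g ∈ Subgroup.normalizer (A : Set G)) :
    A.map (MulAut.conj g).toMonoidHom = A := by
  ext x
  rw [mem_conj]
  rw [Subgroup.mem_normalizer_iff] at hg
  rw [hg (g⁻¹ * x * g)]
  have : g * (g⁻¹ * x * g) * g⁻¹ = x := by group
  rw [this]

lemma mem_normalizer_of_conj_eq_self {G : Type*} [Group G] (A : Subgroup G) (g : G)
    (hg : A.map (MulAut.conj g).toMonoidHom = A) :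
    g ∈ Subgroup.normalizer (A : Set G) := by
  rw [Subgroup.mem_normalizer_iff]
  intro h
  constructor
  · intro hh
    rw [← hg]
    exact conj_mem_conj A g h hh
  · intro hh
    rw [← hg, mem_conj] at hh
    have : g⁻¹ * (g * h * g⁻¹) * g = h := by group
    rwa [this] at hh

lemma mem_smul_sylow {G : Type*} [Group G] {p : ℕ} (S : Sylow p G) (h x : G) :
    x ∈ ((h • S : Sylow p G) : Subgroup G) ↔ h⁻¹ * x * h ∈ (S : Subgroup G) := by
  rw [Sylow.coe_subgroup_smul, Subgroup.mem_pointwise_smul_iff_inv_smul_mem]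
  simp [MulAut.smul_def, mul_assoc]

lemma smul_sylow_eq_conj {G : Type*} [Group G] {p : ℕ} (S : Sylow p G) (h : G) :
    ((h • S : Sylow p G) : Subgroup G) = (S : Subgroup G).map (MulAut.conj h).toMonoidHom := by
  ext x
  rw [mem_smul_sylow, mem_conj]

/-- In a finite `p`-group `X`, a subgroup `Y ≤ X` that is self-normalizing in `X` is all of `X`
(normalizer condition), stated for subgroups of an ambient group. -/
theorem eq_of_self_normalizing_in_pgroup {G : Type*} [Group G] [Finite G] {p : ℕ} [Fact p.Prime]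
    {X Y : Subgroup G} (hX : IsPGroup p X) (hYX : Y ≤ X)
    (h : ∀ x ∈ X, x ∈ Subgroup.normalizer (Y : Set G) → x ∈ Y) : Y = X := by
  by_contra hne
  have hnil : Group.IsNilpotent X := hX.isNilpotent
  have hnc := Group.normalizerCondition_of_isNilpotent (G := X)
  have hsub_lt : Y.subgroupOf X < ⊤ := by
    rw [lt_top_iff_ne_top]
    intro h'
    rw [Subgroup.subgroupOf_eq_top] at h'
    exact hne (le_antisymm hYX h')
  have hgrow := hnc _ hsub_lt
  obtain ⟨x, hxN, hxP⟩ := SetLike.exists_of_lt hgrow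
  apply hxP
  rw [Subgroup.mem_subgroupOf]
  apply h _ x.2
  rw [Subgroup.mem_normalizer_iff] at hxN ⊢
  intro y
  constructor
  · intro hy
    have := (hxN ⟨y, hYX hy⟩).mp (by rw [Subgroup.mem_subgroupOf]; exact hy)
    rw [Subgroup.mem_subgroupOf] at this
    exact this
  · intro hy
    have hyX : y ∈ X := by
      have h1 : (x : G) * y * (x : G)⁻¹ ∈ X := hYX hy
      have h2 : (x : G)⁻¹ * ((x : G) * y * (x : G)⁻¹) * (x : G) ∈ X :=
        mul_mem (mul_mem (inv_mem x.2) h1) x.2
      have h3 : (x : G)⁻¹ * ((x : G) * y * (x : G)⁻¹) * (x : G) = y := by group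
      rwa [h3] at h2
    have := (hxN ⟨y, hyX⟩).mpr (by rw [Subgroup.mem_subgroupOf]; exact hy)
    rw [Subgroup.mem_subgroupOf] at this
    exact this

/-- In a nilpotent group `X`, a subgroup `Y ≤ X` that is self-normalizing in `X` is all of `X`
(normalizer condition), stated for subgroups of an ambient group. -/
theorem eq_of_self_normalizing_in_nilpotent {G : Type*} [Group G]
    {X Y : Subgroup G} (hX : Group.IsNilpotent X) (hYX : Y ≤ X)
    (h : ∀ x ∈ X, x ∈ Subgroup.normalizer (Y : Set G) → x ∈ Y) : Y = X := by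
  by_contra hne
  have hnc := Group.normalizerCondition_of_isNilpotent (G := X)
  have hsub_lt : Y.subgroupOf X < ⊤ := by
    rw [lt_top_iff_ne_top]
    intro h'
    rw [Subgroup.subgroupOf_eq_top] at h'
    exact hne (le_antisymm hYX h')
  have hgrow := hnc _ hsub_lt
  obtain ⟨x, hxN, hxP⟩ := SetLike.exists_of_lt hgrow
  apply hxP
  rw [Subgroup.mem_subgroupOf]
  apply h _ x.2
  rw [Subgroup.mem_normalizer_iff] at hxN ⊢
  intro y
  constructor
  · intro hy
    have := (hxN ⟨y, hYX hy⟩).mp (by rw [Subgroup.mem_subgroupOf]; exact hy)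
    rw [Subgroup.mem_subgroupOf] at this
    exact this
  · intro hy
    have hyX : y ∈ X := by
      have h1 : (x : G) * y * (x : G)⁻¹ ∈ X := hYX hy
      have h2 : (x : G)⁻¹ * ((x : G) * y * (x : G)⁻¹) * (x : G) ∈ X :=
        mul_mem (mul_mem (inv_mem x.2) h1) x.2
      have h3 : (x : G)⁻¹ * ((x : G) * y * (x : G)⁻¹) * (x : G) = y := by group
      rwa [h3] at h2
    have := (hxN ⟨y, hyX⟩).mpr (by rw [Subgroup.mem_subgroupOf]; exact hy)
    rw [Subgroup.mem_subgroupOf] at this
    exact this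

end Cfsg.Agent.Lib.Helper2_Conj
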