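import Mathlib
import Cfsg.Prelude.Def_Characters
import Cfsg.Prelude.Def_Blocks
import Cfsg.Prelude.Def_BlockRank
import Cfsg.Prelude.Def_BlockLocal
import Cfsg.Prelude.Def_BrauerPairs
import Cfsg.Agent.Lib.Helper2_ClassFn
import Cfsg.Agent.Lib.Helper2_CharBasic
import Cfsg.Agent.Lib.Helper2_CharOrtho
import Cfsg.Agent.Lib.Helper2_Clifford
import Cfsg.Agent.Lib.Helper2_CharMore
import Cfsg.Agent.Lib.Helper2_CharDeg
import Cfsg.Agent.Lib.Helper2_CharInd
import Cfsg.Agent.Lib.Helper2_CharExtra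
import Cfsg.Agent.Lib.Helper2_CharInt
import Cfsg.Agent.Lib.Helper2_CharValues
import Cfsg.Agent.Lib.Helper2_CharSum
import Cfsg.Agent.Lib.Helper2_CharComplete
import Cfsg.Agent.Lib.Helper2_CharTable
import Cfsg.Agent.Lib.Helper2_CharCentral
import Cfsg.Agent.Lib.Helper2_ModM
import Cfsg.Agent.Lib.Helper2_Blocks
import Cfsg.Agent.Lib.Helper2_BlockOrtho
import Cfsg.Agent.Lib.Helper2_BlockMore
import Cfsg.Agent.Lib.Helper2_DefectGroup
import Cfsg.Agent.Lib.Helper2_DefectPCore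
import Cfsg.Agent.Lib.Helper2_MinMax
import Cfsg.Agent.Lib.Helper2_InducedBlock
import Cfsg.Agent.Lib.Helper2_BrauerMap
import Cfsg.Agent.Lib.Helper2_InducedDefect
import Cfsg.Agent.Lib.Helper2_BrauerFirst
import Cfsg.Agent.Lib.Helper2_BrauerConverse
import Cfsg.Agent.Lib.Helper2_SylowConj
import Cfsg.Agent.Lib.Helper2_BlockCover
import Cfsg.Agent.Lib.Helper2_BlockConj
import Cfsg.Agent.Lib.Helper2_FirstMain
import Cfsg.Agent.Lib.Helper2_BlockNormal
import Cfsg.Agent.Lib.Helper2_BlockCount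
import Cfsg.Agent.Lib.Helper2_BlockCount2
import Cfsg.Agent.Lib.Helper2_BlockKer
import Cfsg.Agent.Lib.Helper2_PRegCount
import Cfsg.Agent.Lib.Helper2_ExtFirstMain
import Cfsg.Agent.Lib.Helper2_ThirdMain
import Cfsg.Agent.Lib.Helper2_Fong
import Cfsg.Agent.Lib.Helper2_BrauerPairs
import Cfsg.Agent.Lib.Helper2_BrauerInv
import Cfsg.Agent.Lib.Helper2_Conj


set_option autoImplicit false

/-!
# Brauer pairs: chains of normal inclusions
-/

namespace Cfsg.Agent.Lib.Helper2_BrauerChain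

open Cfsg
open Cfsg.Agent.Lib.Helper2_ClassFn
open Cfsg.Agent.Lib.Helper2_CharBasic
open Cfsg.Agent.Lib.Helper2_CharOrtho
open Cfsg.Agent.Lib.Helper2_Clifford
open Cfsg.Agent.Lib.Helper2_CharMore
open Cfsg.Agent.Lib.Helper2_CharDeg
open Cfsg.Agent.Lib.Helper2_CharInd
open Cfsg.Agent.Lib.Helper2_CharExtra
open Cfsg.Agent.Lib.Helper2_CharValues
open Cfsg.Agent.Lib.Helper2_CharSum
open Cfsg.Agent.Lib.Helper2_CharComplete
open Cfsg.Agent.Lib.Helper2_CharTable
open Cfsg.Agent.Lib.Helper2_CharCentral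
open Cfsg.Agent.Lib.Helper2_ModM
open Cfsg.Agent.Lib.Helper2_Blocks
open Cfsg.Agent.Lib.Helper2_BlockOrtho
open Cfsg.Agent.Lib.Helper2_BlockMore
open Cfsg.Agent.Lib.Helper2_DefectGroup
open Cfsg.Agent.Lib.Helper2_DefectPCore
open Cfsg.Agent.Lib.Helper2_MinMax
open Cfsg.Agent.Lib.Helper2_InducedBlock
open Cfsg.Agent.Lib.Helper2_BrauerMap
open Cfsg.Agent.Lib.Helper2_InducedDefect
open Cfsg.Agent.Lib.Helper2_BrauerFirst
open Cfsg.Agent.Lib.Helper2_BrauerConverse
open Cfsg.Agent.Lib.Helper2_SylowConj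
open Cfsg.Agent.Lib.Helper2_BlockCover
open Cfsg.Agent.Lib.Helper2_BlockConj
open Cfsg.Agent.Lib.Helper2_FirstMain
open Cfsg.Agent.Lib.Helper2_BlockNormal
open Cfsg.Agent.Lib.Helper2_BlockCount
open Cfsg.Agent.Lib.Helper2_BlockCount2
open Cfsg.Agent.Lib.Helper2_BlockKer
open Cfsg.Agent.Lib.Helper2_PRegCount
open Cfsg.Agent.Lib.Helper2_ExtFirstMain
open Cfsg.Agent.Lib.Helper2_ThirdMain
open Cfsg.Agent.Lib.Helper2_Fong
open Cfsg.Agent.Lib.Helper2_BrauerPairs
open Cfsg.Agent.Lib.Helper2_BrauerInv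
open scoped ComplexConjugate

universe u

section Chain

variable {G : Type u} [Group G] [Fintype G] {M : Ideal AlgInt}

/-- One step: a normal inclusion of Brauer pairs preserves the block of `G`. -/
theorem brauerPairOf_iff_of_normal {p : ℕ} [hp : Fact p.Prime] (hM : IsPModular p M)
    (P Q : Subgroup G) (e : Set (IrrCharacter (Subgroup.centralizer (P : Set G))))
    (f : Set (IrrCharacter (Subgroup.centralizer (Q : Set G))))
    (hns : IsNormalSubpair p M Q f P e) (B : Set (IrrCharacter G)) (hB : IsPBlock M B) :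
    IsBrauerPairOf p M B P e ↔ IsBrauerPairOf p M B Q f := by
  classical
  have hMm := hM.2.1
  obtain ⟨χ, rfl⟩ := hB
  have hcfG := blockCoeff_isClassFunction (blockOf M (χ : G → ℂ))
  have hkey : ∀ ξ ∈ e, ∀ θ ∈ f, MemLocalIdeal M
      (brauerOmega P (blockCoeff (blockOf M (χ : G → ℂ)))
          (ξ : Subgroup.centralizer (P : Set G) → ℂ)
        - brauerOmega Q (blockCoeff (blockOf M (χ : G → ℂ)))
          (θ : Subgroup.centralizer (Q : Set G) → ℂ)) := by
    intro ξ hξ θ hθ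
    exact normalSubpair_key hM P Q e f hns _ (fun t _ h _ => hcfG h t) (fun d _ h _ => hcfG h d)
      (fun h _ => memLocalRing_blockCoeff hMm χ.2 h) ξ hξ θ hθ
  obtain ⟨⟨hQ, θ₀, hf⟩, ⟨hP, ξ₀, he⟩, _⟩ := id hns
  have hξ₀ : ξ₀ ∈ e := he ▸ self_mem_blockOf hMm ξ₀
  have hθ₀ : θ₀ ∈ f := hf ▸ self_mem_blockOf hMm θ₀
  constructor
  · rintro ⟨_, _, hom⟩
    refine ⟨⟨hQ, θ₀, hf⟩, ⟨χ, rfl⟩, fun θ hθ => ?_⟩
    have := memLocalIdeal_sub hMm (hom ξ₀ hξ₀) (hkey ξ₀ hξ₀ θ hθ)
    have e1 : ∀ a b : ℂ, a - 1 - (a - b) = b - 1 := fun a b => by ring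
    rwa [e1] at this
  · rintro ⟨_, _, hom⟩
    refine ⟨⟨hP, ξ₀, he⟩, ⟨χ, rfl⟩, fun ξ hξ => ?_⟩
    have := memLocalIdeal_add hMm (hom θ₀ hθ₀) (hkey ξ hξ θ₀ hθ₀)
    have e1 : ∀ a b : ℂ, b - 1 + (a - b) = a - 1 := fun a b => by ring
    rwa [e1] at this

/-- Inclusion of Brauer pairs preserves the block of `G`. -/
theorem brauerPairOf_iff_of_le {p : ℕ} [hp : Fact p.Prime] (hM : IsPModular p M)
    (B : Set (IrrCharacter G)) (hB : IsPBlock M B) (a b : BrauerPairIdx G)
    (h : Relation.ReflTransGen (NormalSubpairRel p M) a b) :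
    IsBrauerPairOf p M B b.1 b.2 ↔ IsBrauerPairOf p M B a.1 a.2 := by
  induction h with
  | refl => exact Iff.rfl
  | tail _ hbc ih =>
    exact (brauerPairOf_iff_of_normal hM _ _ _ _ hbc B hB).trans ih

end Chain

section Unique

variable {G : Type u} [Group G] [Fintype G] {M : Ideal AlgInt}

omit [Fintype G] in
theorem le_fst {p : ℕ} {a b : BrauerPairIdx G}
    (h : Relation.ReflTransGen (NormalSubpairRel p M) a b) : a.1 ≤ b.1 := by
  induction h with
  | refl => exact le_rfl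
  | tail _ hbc ih => exact ih.trans hbc.2.2.1

omit [Fintype G] in
theorem isBrauerPair_of_le {p : ℕ} {a b : BrauerPairIdx G}
    (h : Relation.ReflTransGen (NormalSubpairRel p M) a b) (hb : IsBrauerPair p M b.1 b.2) :
    IsBrauerPair p M a.1 a.2 := by
  rcases Relation.ReflTransGen.cases_head h with rfl | ⟨c, hac, _⟩
  · exact hb
  · exact hac.1

/-- A normal inclusion between pairs on the same subgroup is an equality. -/
theorem eq_of_normal_same {p : ℕ} (hM : IsPModular p M) (Q : Subgroup G)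
    (f e : Set (IrrCharacter (Subgroup.centralizer (Q : Set G))))
    (h : IsNormalSubpair p M Q f Q e) : f = e := by
  classical
  haveI : Fintype (Subgroup.centralizer (Q : Set G)) := Fintype.ofFinite _
  have hMm := hM.2.1
  obtain ⟨⟨_, θ, rfl⟩, ⟨_, ξ₀, rfl⟩, _, _, _, hom⟩ := h
  have h1 := hom ξ₀ (self_mem_blockOf hMm ξ₀)
  rw [brauerOmega_eq_om] at h1
  have h2 : (fun h : Subgroup.centralizer (Q : Set G) =>
      subgroupBlockCoeff (Subgroup.centralizer (Q : Set G))
        (blockOf M (θ : Subgroup.centralizer (Q : Set G) → ℂ)) (h : G))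
      = blockCoeff (blockOf M (θ : Subgroup.centralizer (Q : Set G) → ℂ)) := by
    funext h
    exact subgroupBlockCoeff_coe _ _ h
  rw [h2, om_blockCoeff _ ξ₀.2] at h1
  by_cases hm : MemB (blockOf M (θ : Subgroup.centralizer (Q : Set G) → ℂ))
      (ξ₀ : Subgroup.centralizer (Q : Set G) → ℂ)
  · have hξ : ξ₀ ∈ blockOf M (θ : Subgroup.centralizer (Q : Set G) → ℂ) :=
      (memB_coe _ ξ₀).mp hm
    exact (blockOf_eq_of_sameBlock hMm hξ).symm
  · exfalso
    rw [if_neg hm, zero_sub] at h1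
    have := memLocalIdeal_neg hMm h1
    rw [neg_neg] at this
    exact not_memLocalIdeal_one hMm this

theorem eq_of_rel_same {p : ℕ} (hM : IsPModular p M) (a b : BrauerPairIdx G)
    (h : NormalSubpairRel p M a b) (h1 : a.1 = b.1) : a = b := by
  obtain ⟨Q, f⟩ := a
  obtain ⟨P, e⟩ := b
  simp only at h1
  subst h1
  have : f = e := eq_of_normal_same hM Q f e h
  rw [this]

theorem eq_of_le_same {p : ℕ} (hM : IsPModular p M) {a b : BrauerPairIdx G}
    (h : Relation.ReflTransGen (NormalSubpairRel p M) a b) (h1 : a.1 = b.1) : a = b := by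
  induction h using Relation.ReflTransGen.head_induction_on with
  | refl => rfl
  | head hac hcb ih =>
    rename_i a c
    have h2 : a.1 ≤ c.1 := hac.2.2.1
    have h3 : c.1 ≤ b.1 := le_fst hcb
    have h4 : c.1 = b.1 := le_antisymm h3 (h1 ▸ h2)
    have h5 : a.1 = c.1 := h1.trans h4.symm
    rw [eq_of_rel_same hM a c hac h5]
    exact ih h4

theorem head_strict {p : ℕ} (hM : IsPModular p M) {a b : BrauerPairIdx G}
    (h : Relation.ReflTransGen (NormalSubpairRel p M) a b) (h1 : a.1 ≠ b.1) :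
    ∃ c, NormalSubpairRel p M a c ∧ a.1 < c.1 ∧
      Relation.ReflTransGen (NormalSubpairRel p M) c b := by
  induction h using Relation.ReflTransGen.head_induction_on with
  | refl => exact absurd rfl h1
  | head hac hcb ih =>
    rename_i a c
    by_cases h2 : a.1 = c.1
    · have h3 := eq_of_rel_same hM a c hac h2
      subst h3
      exact ih h1
    · exact ⟨c, hac, lt_of_le_of_ne hac.2.2.1 h2, hcb⟩

omit [Fintype G] in
theorem card_lt_of_lt' [Finite G] {Q R : Subgroup G} (h : Q < R) : Nat.card Q < Nat.card R := by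
  have h1 : ((Q : Set G)) ⊂ (R : Set G) := SetLike.coe_ssubset_coe.mpr h
  have h2 := Set.ncard_lt_ncard h1 (Set.toFinite _)
  have e1 : Nat.card Q = (Q : Set G).ncard := Nat.card_coe_set_eq (Q : Set G)
  have e2 : Nat.card R = (R : Set G).ncard := Nat.card_coe_set_eq (R : Set G)
  rw [e1, e2]
  exact h2

/-- Existence of a pair on `Q` below a given pair. -/
theorem exists_le {p : ℕ} [hp : Fact p.Prime] (hM : IsPModular p M) (n : ℕ) :
    ∀ (P : Subgroup G) (e : Set (IrrCharacter (Subgroup.centralizer (P : Set G))))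
      (_ : IsBrauerPair p M P e) (Q : Subgroup G), Q ≤ P → Nat.card P - Nat.card Q = n →
      ∃ f : Set (IrrCharacter (Subgroup.centralizer (Q : Set G))),
        Relation.ReflTransGen (NormalSubpairRel p M) (⟨Q, f⟩ : BrauerPairIdx G) ⟨P, e⟩ := by
  induction n using Nat.strong_induction_on with
  | _ n ih =>
    intro P e hPe Q hQP hn
    by_cases hne : Q = P
    · subst hne
      exact ⟨e, Relation.ReflTransGen.refl⟩
    · set Q₁ : Subgroup G := P ⊓ Subgroup.normalizer (Q : Set G) with hQ₁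
      have hQQ₁ : Q ≤ Q₁ := le_inf hQP Subgroup.le_normalizer
      have hlt : Q < Q₁ := by
        apply lt_of_le_of_ne hQQ₁
        intro heq
        apply hne
        apply Cfsg.Agent.Lib.Helper2_Conj.eq_of_self_normalizing_in_pgroup hPe.1 hQP
        intro x hxP hxN
        have : x ∈ Q₁ := ⟨hxP, hxN⟩
        rwa [← heq] at this
      have hQ₁P : Q₁ ≤ P := inf_le_left
      have hc1 : Nat.card Q < Nat.card Q₁ := card_lt_of_lt' hlt
      have hc2 : Nat.card Q₁ ≤ Nat.card P := Subgroup.card_le_of_le hQ₁P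
      obtain ⟨f₁, hf₁⟩ := ih (Nat.card P - Nat.card Q₁) (by omega) P e hPe Q₁ hQ₁P rfl
      have hbp : IsBrauerPair p M Q₁ f₁ := isBrauerPair_of_le hf₁ hPe
      obtain ⟨f, hf, _⟩ := existsUnique_normalSubpair hM Q₁ Q f₁ hbp hQQ₁ inf_le_right
      have hf' : NormalSubpairRel p M (⟨Q, f⟩ : BrauerPairIdx G) ⟨Q₁, f₁⟩ := hf
      exact ⟨f, Relation.ReflTransGen.head hf' hf₁⟩

/-- Restriction of a normal subpair along an intermediate normal inclusion. -/
theorem restrict_normal {p : ℕ} [hp : Fact p.Prime] (hM : IsPModular p M)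
    (Q R S : Subgroup G) (fS : Set (IrrCharacter (Subgroup.centralizer (Q : Set G))))
    (h : Set (IrrCharacter (Subgroup.centralizer (R : Set G))))
    (k : Set (IrrCharacter (Subgroup.centralizer (S : Set G))))
    (h1 : IsNormalSubpair p M Q fS S k) (h2 : IsNormalSubpair p M R h S k) (hQR : Q ≤ R) :
    IsNormalSubpair p M Q fS R h := by
  classical
  haveI : Fintype (Subgroup.centralizer (Q : Set G)) := Fintype.ofFinite _
  haveI : Fintype (Subgroup.centralizer (S : Set G)) := Fintype.ofFinite _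
  have hMm := hM.2.1
  obtain ⟨⟨hQ, hfSB⟩, ⟨hS, κ₀, hk⟩, hQS, hSNQ, hstabS, homS⟩ := id h1
  obtain ⟨⟨hR, hhB⟩, _, hRS, hSNR, _, _⟩ := id h2
  have hκ₀ : κ₀ ∈ k := hk ▸ self_mem_blockOf hMm κ₀
  refine ⟨⟨hQ, hfSB⟩, ⟨hR, hhB⟩, hQR, hRS.trans hSNQ, fun x hx => hstabS x (hRS hx), ?_⟩
  intro η hη
  have hSNH : S ≤ Subgroup.normalizer
      ((Subgroup.centralizer (Q : Set G) : Subgroup G) : Set G) :=
    hSNQ.trans (normalizer_le_normalizer_centralizer Q)
  have hst := (stabilizes_iff S (Subgroup.centralizer (Q : Set G)) hSNH fS).mp hstabS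
  have hInv := InvA.blockCoeff S (Subgroup.centralizer (Q : Set G)) hSNH hMm fS hfSB hst
  have hRQ : Subgroup.centralizer (R : Set G) ≤ Subgroup.centralizer (Q : Set G) :=
    Subgroup.centralizer_le hQR
  have key := normalSubpair_key hM S R k h h2
    (subgroupBlockCoeff (Subgroup.centralizer (Q : Set G)) fS) ?_ ?_ ?_ κ₀ hκ₀ η hη
  · have := memLocalIdeal_sub hMm (homS κ₀ hκ₀) key
    have e1 : ∀ a b : ℂ, a - 1 - (a - b) = b - 1 := fun a b => by ring
    rwa [e1] at this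
  · intro t ht y hy
    have hyQ := hRQ hy
    have htQ := hRQ ht
    rw [subgroupBlockCoeff_of_mem _ _ _ hyQ,
      subgroupBlockCoeff_of_mem _ _ _ (Subgroup.mul_mem _ (Subgroup.mul_mem _ htQ hyQ)
        (Subgroup.inv_mem _ htQ))]
    exact hInv.cf ⟨y, hyQ⟩ ⟨t, htQ⟩
  · intro d hd y hy
    have hyQ := hRQ hy
    have h3 := hInv.inv ⟨d, hd⟩ ⟨y, hyQ⟩
    rw [subgroupBlockCoeff_of_mem _ _ _ hyQ, ← h3]
    have h4 := subgroupBlockCoeff_coe (Subgroup.centralizer (Q : Set G)) fS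
      (cj S (Subgroup.centralizer (Q : Set G)) hSNH ⟨d, hd⟩ ⟨y, hyQ⟩)
    rw [← h4]
    rfl
  · intro y hy
    have hyQ := hRQ hy
    rw [subgroupBlockCoeff_of_mem _ _ _ hyQ]
    exact hInv.loc _

/-- All normal subpairs on `Q` of the pairs between `Q` and `(N, g)` agree, when `Q` is normal
in `N`. -/
theorem normal_below_unique {p : ℕ} [hp : Fact p.Prime] (hM : IsPModular p M)
    (Q N : Subgroup G) (g : Set (IrrCharacter (Subgroup.centralizer (N : Set G))))
    (f₀ : Set (IrrCharacter (Subgroup.centralizer (Q : Set G))))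
    (hn : IsNormalSubpair p M Q f₀ N g) (m : BrauerPairIdx G)
    (hm : Relation.ReflTransGen (NormalSubpairRel p M) m ⟨N, g⟩) :
    Q ≤ m.1 → ∀ f : Set (IrrCharacter (Subgroup.centralizer (Q : Set G))),
      IsNormalSubpair p M Q f m.1 m.2 → f = f₀ := by
  induction hm using Relation.ReflTransGen.head_induction_on with
  | refl =>
    intro _ f hf
    exact (existsUnique_normalSubpair hM N Q g hn.2.1 hn.2.2.1 hn.2.2.2.1).unique hf hn
  | head hms hsn ih =>
    rename_i m s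
    intro hQm f hf
    have hms' : IsNormalSubpair p M m.1 m.2 s.1 s.2 := hms
    have hQs : Q ≤ s.1 := hQm.trans hms'.2.2.1
    have hsN : s.1 ≤ N := le_fst hsn
    have hNQ : N ≤ Subgroup.normalizer (Q : Set G) := hn.2.2.2.1
    obtain ⟨fS, hfS, _⟩ := existsUnique_normalSubpair hM s.1 Q s.2 hms'.2.1 hQs (hsN.trans hNQ)
    have e1 : fS = f₀ := ih hQs fS hfS
    have hres := restrict_normal hM Q m.1 s.1 fS m.2 s.2 hfS hms' hQm
    have e2 : f = fS :=
      (existsUnique_normalSubpair hM m.1 Q m.2 hms'.1 hQm hf.2.2.2.1).unique hf hres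
    rw [e2, e1]

/-- Uniqueness of the pair on `Q` below a given pair. -/
theorem unique_le {p : ℕ} [hp : Fact p.Prime] (hM : IsPModular p M) (n : ℕ) :
    ∀ (P : Subgroup G) (e : Set (IrrCharacter (Subgroup.centralizer (P : Set G))))
      (_ : IsBrauerPair p M P e) (Q : Subgroup G)
      (f f' : Set (IrrCharacter (Subgroup.centralizer (Q : Set G)))),
      Nat.card P - Nat.card Q = n →
      Relation.ReflTransGen (NormalSubpairRel p M) (⟨Q, f⟩ : BrauerPairIdx G) ⟨P, e⟩ →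
      Relation.ReflTransGen (NormalSubpairRel p M) (⟨Q, f'⟩ : BrauerPairIdx G) ⟨P, e⟩ →
      f = f' := by
  induction n using Nat.strong_induction_on with
  | _ n ih =>
    intro P e hPe Q f f' hn h1 h2
    have hQP : Q ≤ P := le_fst h1
    by_cases hne : Q = P
    · have e1 := eq_of_le_same hM h1 hne
      have e2 := eq_of_le_same hM h2 hne
      have e3 : (⟨Q, f⟩ : BrauerPairIdx G) = ⟨Q, f'⟩ := e1.trans e2.symm
      exact eq_of_heq (Sigma.mk.inj e3).2
    · obtain ⟨⟨R₁, k₁⟩, hc1, hc2, hc3⟩ := head_strict hM h1 hne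
      obtain ⟨⟨R₂, k₂⟩, hd1, hd2, hd3⟩ := head_strict hM h2 hne
      have hc1' : IsNormalSubpair p M Q f R₁ k₁ := hc1
      have hd1' : IsNormalSubpair p M Q f' R₂ k₂ := hd1
      have hc2' : Q < R₁ := hc2
      have hd2' : Q < R₂ := hd2
      set N : Subgroup G := P ⊓ Subgroup.normalizer (Q : Set G) with hN
      have hR₁P : R₁ ≤ P := le_fst hc3
      have hR₂P : R₂ ≤ P := le_fst hd3
      have hR₁N : R₁ ≤ N := le_inf hR₁P hc1'.2.2.2.1
      have hR₂N : R₂ ≤ N := le_inf hR₂P hd1'.2.2.2.1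
      have hQN : Q ≤ N := hc2'.le.trans hR₁N
      have hNP : N ≤ P := inf_le_left
      have hNQ : N ≤ Subgroup.normalizer (Q : Set G) := inf_le_right
      obtain ⟨g, hg⟩ := exists_le hM _ P e hPe N hNP rfl
      have hNg : IsBrauerPair p M N g := isBrauerPair_of_le hg hPe
      have hcP : Nat.card R₁ ≤ Nat.card P := Subgroup.card_le_of_le hR₁P
      have hdP : Nat.card R₂ ≤ Nat.card P := Subgroup.card_le_of_le hR₂P
      have hcQ : Nat.card Q < Nat.card R₁ := card_lt_of_lt' hc2'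
      have hdQ : Nat.card Q < Nat.card R₂ := card_lt_of_lt' hd2'
      have hcle : Relation.ReflTransGen (NormalSubpairRel p M)
          (⟨R₁, k₁⟩ : BrauerPairIdx G) ⟨N, g⟩ := by
        obtain ⟨f1, hf1⟩ := exists_le hM _ N g hNg R₁ hR₁N rfl
        have h3 := hf1.trans hg
        have h4 : f1 = k₁ := ih (Nat.card P - Nat.card R₁) (by omega) P e hPe R₁ f1 k₁ rfl h3 hc3
        rwa [h4] at hf1
      have hdle : Relation.ReflTransGen (NormalSubpairRel p M)
          (⟨R₂, k₂⟩ : BrauerPairIdx G) ⟨N, g⟩ := by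
        obtain ⟨f1, hf1⟩ := exists_le hM _ N g hNg R₂ hR₂N rfl
        have h3 := hf1.trans hg
        have h4 : f1 = k₂ := ih (Nat.card P - Nat.card R₂) (by omega) P e hPe R₂ f1 k₂ rfl h3 hd3
        rwa [h4] at hf1
      obtain ⟨f₀, hf₀, _⟩ := existsUnique_normalSubpair hM N Q g hNg hQN hNQ
      have e1 : f = f₀ := normal_below_unique hM Q N g f₀ hf₀ ⟨R₁, k₁⟩ hcle hc2'.le f hc1'
      have e2 : f' = f₀ := normal_below_unique hM Q N g f₀ hf₀ ⟨R₂, k₂⟩ hdle hd2'.le f' hd1'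
      rw [e1, e2]

/-- **Uniqueness of inclusion of Brauer pairs.** -/
theorem existsUnique_subpairLE {p : ℕ} [hp : Fact p.Prime] (hM : IsPModular p M)
    (P Q : Subgroup G) (e : Set (IrrCharacter (Subgroup.centralizer (P : Set G))))
    (hPe : IsBrauerPair p M P e) (hQP : Q ≤ P) :
    ∃! f : Set (IrrCharacter (Subgroup.centralizer (Q : Set G))),
      IsPBlock M f ∧ SubpairLE p M Q f P e := by
  obtain ⟨f, hf⟩ := exists_le hM _ P e hPe Q hQP rfl
  refine ⟨f, ⟨(isBrauerPair_of_le hf hPe).2, hf⟩, ?_⟩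
  rintro f' ⟨_, hf'⟩
  exact unique_le hM _ P e hPe Q f' f rfl hf' hf

end Unique

end Cfsg.Agent.Lib.Helper2_BrauerChain
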