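import Mathlib
import Cfsg.Prelude.Def_Characters
import Cfsg.Prelude.Def_Blocks
import Cfsg.Prelude.Def_BlockRank
import Cfsg.Prelude.Def_BlockLocal
import Cfsg.Prelude.Def_BrauerPairs
import Cfsg.Agent.Lib.Helper2_ClassFn
import Cfsg.Agent.Lib.Helper2_CharBasic
import Cfsg.Agent.Lib.Helper2_CharOrtho
import Cfsg.Agent.Lib.Helper2_Clifford
import Cfsg.Agent.Lib.Helper2_CharMore
import Cfsg.Agent.Lib.Helper2_CharDeg
import Cfsg.Agent.Lib.Helper2_CharInd
import Cfsg.Agent.Lib.Helper2_CharExtra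
import Cfsg.Agent.Lib.Helper2_CharInt
import Cfsg.Agent.Lib.Helper2_CharValues
import Cfsg.Agent.Lib.Helper2_CharSum
import Cfsg.Agent.Lib.Helper2_CharComplete
import Cfsg.Agent.Lib.Helper2_CharTable
import Cfsg.Agent.Lib.Helper2_CharCentral
import Cfsg.Agent.Lib.Helper2_ModM
import Cfsg.Agent.Lib.Helper2_Blocks
import Cfsg.Agent.Lib.Helper2_BlockOrtho
import Cfsg.Agent.Lib.Helper2_BlockMore
import Cfsg.Agent.Lib.Helper2_DefectGroup
import Cfsg.Agent.Lib.Helper2_DefectPCore
import Cfsg.Agent.Lib.Helper2_MinMax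
import Cfsg.Agent.Lib.Helper2_InducedBlock
import Cfsg.Agent.Lib.Helper2_BrauerMap
import Cfsg.Agent.Lib.Helper2_InducedDefect
import Cfsg.Agent.Lib.Helper2_BrauerFirst
import Cfsg.Agent.Lib.Helper2_BrauerConverse
import Cfsg.Agent.Lib.Helper2_SylowConj
import Cfsg.Agent.Lib.Helper2_BlockCover
import Cfsg.Agent.Lib.Helper2_BlockConj
import Cfsg.Agent.Lib.Helper2_FirstMain
import Cfsg.Agent.Lib.Helper2_BlockNormal
import Cfsg.Agent.Lib.Helper2_BlockCount
import Cfsg.Agent.Lib.Helper2_BlockCount2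
import Cfsg.Agent.Lib.Helper2_BlockKer
import Cfsg.Agent.Lib.Helper2_PRegCount
import Cfsg.Agent.Lib.Helper2_ExtFirstMain
import Cfsg.Agent.Lib.Helper2_ThirdMain
import Cfsg.Agent.Lib.Helper2_Fong
import Cfsg.Agent.Lib.Helper2_BrauerPairs
import Cfsg.Agent.Lib.Helper2_BrauerInv
import Cfsg.Agent.Lib.Helper2_Conj
import Cfsg.Agent.Lib.Helper2_BrauerChain


set_option autoImplicit false

/-!
# Maximal Brauer pairs and defect groups
-/

namespace Cfsg.Agent.Lib.Helper2_BrauerMax

open Cfsg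
open Cfsg.Agent.Lib.Helper2_ClassFn
open Cfsg.Agent.Lib.Helper2_CharBasic
open Cfsg.Agent.Lib.Helper2_CharOrtho
open Cfsg.Agent.Lib.Helper2_Clifford
open Cfsg.Agent.Lib.Helper2_CharMore
open Cfsg.Agent.Lib.Helper2_CharDeg
open Cfsg.Agent.Lib.Helper2_CharInd
open Cfsg.Agent.Lib.Helper2_CharExtra
open Cfsg.Agent.Lib.Helper2_CharValues
open Cfsg.Agent.Lib.Helper2_CharSum
open Cfsg.Agent.Lib.Helper2_CharComplete
open Cfsg.Agent.Lib.Helper2_CharTable
open Cfsg.Agent.Lib.Helper2_CharCentral
open Cfsg.Agent.Lib.Helper2_ModM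
open Cfsg.Agent.Lib.Helper2_Blocks
open Cfsg.Agent.Lib.Helper2_BlockOrtho
open Cfsg.Agent.Lib.Helper2_BlockMore
open Cfsg.Agent.Lib.Helper2_DefectGroup
open Cfsg.Agent.Lib.Helper2_DefectPCore
open Cfsg.Agent.Lib.Helper2_MinMax
open Cfsg.Agent.Lib.Helper2_InducedBlock
open Cfsg.Agent.Lib.Helper2_BrauerMap
open Cfsg.Agent.Lib.Helper2_InducedDefect
open Cfsg.Agent.Lib.Helper2_BrauerFirst
open Cfsg.Agent.Lib.Helper2_BrauerConverse
open Cfsg.Agent.Lib.Helper2_SylowConj
open Cfsg.Agent.Lib.Helper2_BlockCover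
open Cfsg.Agent.Lib.Helper2_BlockConj
open Cfsg.Agent.Lib.Helper2_FirstMain
open Cfsg.Agent.Lib.Helper2_BlockNormal
open Cfsg.Agent.Lib.Helper2_BlockCount
open Cfsg.Agent.Lib.Helper2_BlockCount2
open Cfsg.Agent.Lib.Helper2_BlockKer
open Cfsg.Agent.Lib.Helper2_PRegCount
open Cfsg.Agent.Lib.Helper2_ExtFirstMain
open Cfsg.Agent.Lib.Helper2_ThirdMain
open Cfsg.Agent.Lib.Helper2_Fong
open Cfsg.Agent.Lib.Helper2_BrauerPairs
open Cfsg.Agent.Lib.Helper2_BrauerInv
open Cfsg.Agent.Lib.Helper2_BrauerChain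
open scoped ComplexConjugate

universe u

section Above

variable {G : Type u} [Group G] [Fintype G] {M : Ideal AlgInt}

open Classical in
/-- **Extending a Brauer pair.** If the idempotent of `e` has a unit coefficient at an element
centralizing the `p`-group `R`, where `P ≤ R ≤ N_G(P)` and `R` stabilizes `e`, then `(P, e)` is
normal in some pair on `R`. -/
theorem exists_normalSubpair_above {p : ℕ} [hp : Fact p.Prime] (hM : IsPModular p M)
    (P R : Subgroup G) (e : Set (IrrCharacter (Subgroup.centralizer (P : Set G))))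
    (hPe : IsBrauerPair p M P e) (hR : IsPGroup p R) (hPR : P ≤ R)
    (hRN : R ≤ Subgroup.normalizer (P : Set G))
    (hst : ∀ x ∈ R, StabilizesBlock (Subgroup.centralizer (P : Set G)) e x)
    (c : G) (hc : c ∈ Subgroup.centralizer (R : Set G))
    (hunit : ¬ MemLocalIdeal M (subgroupBlockCoeff (Subgroup.centralizer (P : Set G)) e c)) :
    ∃ g : Set (IrrCharacter (Subgroup.centralizer (R : Set G))),
      IsNormalSubpair p M P e R g := by
  haveI : Fintype (Subgroup.centralizer (P : Set G)) := Fintype.ofFinite _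
  haveI : Fintype (Subgroup.centralizer (R : Set G)) := Fintype.ofFinite _
  have hMm := hM.2.1
  obtain ⟨hP, ξ, rfl⟩ := id hPe
  have hRNH : R ≤ Subgroup.normalizer
      ((Subgroup.centralizer (P : Set G) : Subgroup G) : Set G) :=
    hRN.trans (normalizer_le_normalizer_centralizer P)
  have hCH : Subgroup.centralizer (R : Set G) ≤ Subgroup.centralizer (P : Set G) :=
    Subgroup.centralizer_le hPR
  have hstab := (stabilizes_iff R (Subgroup.centralizer (P : Set G)) hRNH _).mp hst
  have hInv := InvA.blockCoeff R (Subgroup.centralizer (P : Set G)) hRNH hMm _ hPe.2 hstab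
  set ε := trunc R (Subgroup.centralizer (P : Set G)) hCH
    (blockCoeff (blockOf M (ξ : Subgroup.centralizer (P : Set G) → ℂ))) with hε
  have hεcf : IsClassFunction _ ε := trunc_isClassFunction R _ hCH hInv.cf
  have hεR : ∀ x, MemLocalRing M (ε x) := fun x => hInv.loc _
  have hidem : ∀ x, MemLocalIdeal M (conv ε ε x - ε x) := by
    intro x
    have h1 := trunc_conv_sub_mem R (Subgroup.centralizer (P : Set G)) hRNH hCH hM hR hInv hInv x
    rw [conv_blockCoeff_self] at h1
    have h2 := memLocalIdeal_neg hMm h1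
    rwa [neg_sub] at h2
  -- some central character does not kill `ε`
  have hex : ∃ θ : IrrCharacter (Subgroup.centralizer (R : Set G)),
      ¬ MemLocalIdeal M (om (θ : Subgroup.centralizer (R : Set G) → ℂ) ε) := by
    by_contra hall
    push Not at hall
    have h1 := memLocalIdeal_of_idem_of_om hMm hεcf hεR hidem
      (fun ψ hψ => hall ⟨ψ, hψ⟩) ⟨c, hc⟩
    apply hunit
    rw [subgroupBlockCoeff_of_mem _ _ c (hCH hc)]
    exact h1
  obtain ⟨θ, hθ⟩ := hex
  -- the value is `1` modulo the ideal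
  have hθ1 : MemLocalIdeal M (lam R (Subgroup.centralizer (P : Set G)) hCH
      (θ : Subgroup.centralizer (R : Set G) → ℂ)
      (blockCoeff (blockOf M (ξ : Subgroup.centralizer (P : Set G) → ℂ))) - 1) := by
    obtain ⟨ψ, hψ⟩ := exists_irr_lam R (Subgroup.centralizer (P : Set G)) hRNH hCH hM hR θ hInv
    rw [om_blockCoeff _ ψ.2] at hψ
    by_cases hm : MemB (blockOf M (ξ : Subgroup.centralizer (P : Set G) → ℂ))
        (ψ : Subgroup.centralizer (P : Set G) → ℂ)
    · rwa [if_pos hm] at hψ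
    · rw [if_neg hm, sub_zero] at hψ
      exact absurd hψ hθ
  refine ⟨blockOf M (θ : Subgroup.centralizer (R : Set G) → ℂ),
    hPe, ⟨hR, θ, rfl⟩, hPR, hRN, hst, ?_⟩
  intro θ' hθ'
  rw [brauerOmega_eq_lam R (Subgroup.centralizer (P : Set G)) hCH]
  have h2 : (fun h : Subgroup.centralizer (P : Set G) =>
      subgroupBlockCoeff (Subgroup.centralizer (P : Set G))
        (blockOf M (ξ : Subgroup.centralizer (P : Set G) → ℂ)) (h : G))
      = blockCoeff (blockOf M (ξ : Subgroup.centralizer (P : Set G) → ℂ)) := by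
    funext h
    exact subgroupBlockCoeff_coe _ _ h
  rw [h2]
  have h1 := om_sub_mem hMm
    (IsCharacter.isClassFunction (IsIrrCharacter.isCharacter θ.2))
    (IsCharacter.isClassFunction (IsIrrCharacter.isCharacter θ'.2)) hθ' hεcf hεR
  have h3 := memLocalIdeal_sub hMm hθ1 h1
  have e1 : ∀ a b : ℂ, a - 1 - (a - b) = b - 1 := fun a b => by ring
  unfold lam at h3 ⊢
  rwa [e1] at h3

/-- For a maximal pair, the idempotent of `e` vanishes modulo the ideal on the centralizers of
the larger `p`-subgroups stabilizing `e`. -/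
theorem eq_of_maximal {p : ℕ} [hp : Fact p.Prime] (hM : IsPModular p M)
    (B : Set (IrrCharacter G)) (P R : Subgroup G)
    (e : Set (IrrCharacter (Subgroup.centralizer (P : Set G))))
    (hmax : IsMaximalBrauerPair p M B P e) (hR : IsPGroup p R) (hPR : P ≤ R)
    (hRN : R ≤ Subgroup.normalizer (P : Set G))
    (hst : ∀ x ∈ R, StabilizesBlock (Subgroup.centralizer (P : Set G)) e x)
    (c : G) (hc : c ∈ Subgroup.centralizer (R : Set G))
    (hunit : ¬ MemLocalIdeal M (subgroupBlockCoeff (Subgroup.centralizer (P : Set G)) e c)) :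
    R = P := by
  obtain ⟨g, hg⟩ := exists_normalSubpair_above hM P R e hmax.1.1 hR hPR hRN hst c hc hunit
  have h1 : IsBrauerPairOf p M B R g :=
    (brauerPairOf_iff_of_normal hM R P g e hg B hmax.1.2.1).mpr hmax.1
  exact hmax.2 R g h1 (Relation.ReflTransGen.single hg)

omit [Fintype G] in
theorem inducedCentralChar_centralizer (P : Subgroup G)
    (ξ : Subgroup.centralizer (P : Set G) → ℂ) (g : G) :
    inducedCentralChar (Subgroup.centralizer (P : Set G)) ξ g
      = brauerCentralChar P (Subgroup.centralizer (P : Set G)) ξ g := by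
  unfold inducedCentralChar brauerCentralChar
  have hset : {h : Subgroup.centralizer (P : Set G) | IsConj g (h : G)}
      = {h : Subgroup.centralizer (P : Set G) | IsConj g (h : G) ∧
          (h : G) ∈ Subgroup.centralizer (P : Set G)} := by
    ext h
    exact ⟨fun hc => ⟨hc, h.2⟩, fun hc => hc.1⟩
  rw [hset]

/-- A Brauer pair of `B` induces `B` from the centralizer, at the level of central characters. -/
theorem induced_of_brauerPairOf {p : ℕ} [hp : Fact p.Prime] (hM : IsPModular p M)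
    (B : Set (IrrCharacter G)) (P : Subgroup G)
    (e : Set (IrrCharacter (Subgroup.centralizer (P : Set G))))
    (hBe : IsBrauerPairOf p M B P e)
    (ξ : IrrCharacter (Subgroup.centralizer (P : Set G))) (hξ : ξ ∈ e)
    (χ : IrrCharacter G) (hχ : χ ∈ B) (g : G) :
    MemLocalIdeal M (inducedCentralChar (Subgroup.centralizer (P : Set G))
      (ξ : Subgroup.centralizer (P : Set G) → ℂ) g - centralChar (χ : G → ℂ) g) := by
  classical
  haveI : Fintype (Subgroup.centralizer (P : Set G)) := Fintype.ofFinite _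
  have hMm := hM.2.1
  obtain ⟨⟨hP, _⟩, ⟨χ₀, rfl⟩, hom⟩ := hBe
  have hCN : Subgroup.centralizer (P : Set G) ≤ Subgroup.normalizer (P : Set G) :=
    Subgroup.centralizer_le_normalizer _
  obtain ⟨χ₁, hχ₁⟩ := exists_irr_brauer hM P (Subgroup.centralizer (P : Set G)) hP le_rfl hCN ξ
  have hcf := blockCoeff_isClassFunction (blockOf M (χ₀ : G → ℂ))
  have hR : ∀ g, MemLocalRing M (blockCoeff (blockOf M (χ₀ : G → ℂ)) g) :=
    fun g => memLocalRing_blockCoeff hMm χ₀.2 g
  have h1 := Cfsg.Agent.Lib.Helper2_FirstMain.beta_sub_om_mem hMm P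
    (Subgroup.centralizer (P : Set G)) (ξ : Subgroup.centralizer (P : Set G) → ℂ) χ₁.2 hχ₁ hcf hR
  rw [← brauerOmega_eq_beta, om_blockCoeff _ χ₁.2] at h1
  have h2 := hom ξ hξ
  have hχ₁B : χ₁ ∈ blockOf M (χ₀ : G → ℂ) := by
    by_contra hcon
    rw [if_neg (fun hm => hcon ((memB_coe _ χ₁).mp hm)), sub_zero] at h1
    have := memLocalIdeal_sub hMm h1 h2
    rw [sub_sub_cancel] at this
    exact not_memLocalIdeal_one hMm this
  rw [inducedCentralChar_centralizer]
  have h3 : SameBlock M (χ₁ : G → ℂ) (χ : G → ℂ) :=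
    sameBlock_trans hMm (sameBlock_symm hMm hχ₁B) hχ
  have := memLocalIdeal_add hMm (hχ₁ g) (h3 g)
  rwa [sub_add_sub_cancel] at this

end Above

section Orbit

variable {G : Type u} [Group G] {M : Ideal AlgInt}
variable (N H : Subgroup G) (hNH : N ≤ Subgroup.normalizer (H : Set G))

/-- Conjugation of the extended idempotents. -/
theorem sbc_conj (n : N) (β : Set (IrrCharacter H)) (y : G) :
    subgroupBlockCoeff H (cjSet N H hNH n β) ((n : G) * y * (n : G)⁻¹)
      = subgroupBlockCoeff H β y := by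
  by_cases hy : y ∈ H
  · have hy' : (n : G) * y * (n : G)⁻¹ ∈ H :=
      (Subgroup.mem_normalizer_iff.mp (hNH n.2) y).mp hy
    rw [subgroupBlockCoeff_of_mem H _ _ hy', subgroupBlockCoeff_of_mem H _ _ hy]
    exact blockCoeff_cjSet N H hNH n β ⟨y, hy⟩
  · have hy' : (n : G) * y * (n : G)⁻¹ ∉ H := fun h =>
      hy ((Subgroup.mem_normalizer_iff.mp (hNH n.2) y).mpr h)
    unfold subgroupBlockCoeff
    rw [dif_neg hy, dif_neg hy']

theorem cjSet_inv_cjSet (n : N) (β : Set (IrrCharacter H)) :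
    cjSet N H hNH n⁻¹ (cjSet N H hNH n β) = β := by
  rw [← cjSet_mul, inv_mul_cancel, cjSet_one]

theorem cjSet_cjSet_inv (n : N) (β : Set (IrrCharacter H)) :
    cjSet N H hNH n (cjSet N H hNH n⁻¹ β) = β := by
  rw [← cjSet_mul, mul_inv_cancel, cjSet_one]

theorem sbc_conj' (n : N) (β : Set (IrrCharacter H)) (y : G) :
    subgroupBlockCoeff H β ((n : G) * y * (n : G)⁻¹)
      = subgroupBlockCoeff H (cjSet N H hNH n⁻¹ β) y := by
  have := sbc_conj N H hNH n (cjSet N H hNH n⁻¹ β) y
  rwa [cjSet_cjSet_inv] at this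

end Orbit

section Fixed

variable {M : Ideal AlgInt}

/-- A sum of an invariant local-integral function which is a unit modulo the ideal has a fixed
point at which the function is a unit. -/
theorem exists_fixed_of_sum_not_mem {p : ℕ} [hp : Fact p.Prime] (hM : IsPModular p M)
    {Γ : Type*} [Group Γ] [Finite Γ] (hΓ : IsPGroup p Γ) {X : Type*}
    (act : Γ → X → X) (h1 : ∀ x, act 1 x = x)
    (hmul : ∀ a b x, act (a * b) x = act a (act b x))
    (S : Finset X) (F : X → ℂ)
    (hF : ∀ x ∈ S, MemLocalRing M (F x))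
    (hstab : ∀ d : Γ, ∀ x ∈ S, act d x ∈ S)
    (hinv : ∀ d : Γ, ∀ x ∈ S, F (act d x) = F x)
    (hsum : ¬ MemLocalIdeal M (∑ x ∈ S, F x)) :
    ∃ x ∈ S, (∀ d : Γ, act d x = x) ∧ ¬ MemLocalIdeal M (F x) := by
  classical
  have hMm := hM.2.1
  letI : MulAction Γ X := { smul := act, one_smul := h1, mul_smul := hmul }
  have hsm : ∀ (d : Γ) (x : X), d • x = act d x := fun _ _ => rfl
  by_contra hcon
  push Not at hcon
  apply hsum
  rw [← Finset.sum_filter_add_sum_filter_not S (fun x => ∀ d : Γ, act d x = x)]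
  apply memLocalIdeal_add hMm
  · apply memLocalIdeal_sum hMm
    intro x hx
    rw [Finset.mem_filter] at hx
    exact hcon x hx.1 hx.2
  · apply memLocalIdeal_sum_of_no_fixed' hM hΓ
    · intro x hx
      exact hF x (Finset.mem_filter.mp hx).1
    · intro d x hx
      rw [hsm]
      rw [Finset.mem_filter] at hx ⊢
      refine ⟨hstab d x hx.1, ?_⟩
      intro hfix
      apply hx.2
      intro d'
      have h2 := hfix (d * d' * d⁻¹)
      rw [← hmul, inv_mul_cancel_right, hmul] at h2
      have h3 := congrArg (act d⁻¹) h2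
      have e : ∀ y, act d⁻¹ (act d y) = y := fun y => by rw [← hmul, inv_mul_cancel, h1]
      rwa [e, e] at h3
    · intro d x hx
      rw [hsm]
      exact hinv d x (Finset.mem_filter.mp hx).1
    · intro x hx
      have := (Finset.mem_filter.mp hx).2
      push Not at this
      obtain ⟨d, hd⟩ := this
      exact ⟨d, by rw [hsm]; exact hd⟩

end Fixed

section OmExt

variable {K : Type u} [Group K] [Fintype K]

/-- Class functions with the same central character values are equal. -/
theorem eq_of_forall_om_eq {w₁ w₂ : K → ℂ} (h₁ : IsClassFunction K w₁)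
    (h₂ : IsClassFunction K w₂)
    (h : ∀ χ, IsIrrCharacter K χ → om χ w₁ = om χ w₂) : w₁ = w₂ := by
  have h0 : w₁ - w₂ = 0 := by
    apply eq_zero_of_forall_sum_eq_zero (w₁ - w₂) (IsClassFunction.sub h₁ h₂)
    intro χ hχ
    have h1 := h χ hχ
    unfold om at h1
    have hχ1 : χ 1 ≠ 0 := IsIrrCharacter.apply_one_ne_zero hχ
    rw [div_left_inj' hχ1] at h1
    simp only [Pi.sub_apply, sub_mul, Finset.sum_sub_distrib]
    rw [h1, sub_self]
  exact sub_eq_zero.mp h0

end OmExt

section OrbitSum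

variable {G : Type u} [Group G] {M : Ideal AlgInt}
variable (N H : Subgroup G) (hNH : N ≤ Subgroup.normalizer (H : Set G)) [Fintype N]

theorem stabilizesBlock_of_cjSet_eq (e : Set (IrrCharacter H)) (r : N)
    (h : cjSet N H hNH r e = e) : StabilizesBlock H e (r : G) := by
  refine ⟨hNH r.2, fun χ hχ => ?_⟩
  refine ⟨cjIrr N H hNH r χ, ?_, (isConjCharOf_iff N H hNH r χ _).mpr rfl⟩
  rw [← h]
  exact ⟨χ, hχ, rfl⟩

open Classical in
/-- The orbit of a set of characters of `H` under `N`. -/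
noncomputable def orb (e : Set (IrrCharacter H)) : Finset (Set (IrrCharacter H)) :=
  Finset.univ.image (fun n : N => cjSet N H hNH n e)

theorem mem_orb (e β : Set (IrrCharacter H)) :
    β ∈ orb N H hNH e ↔ ∃ n : N, cjSet N H hNH n e = β := by
  classical
  unfold orb
  rw [Finset.mem_image]
  constructor
  · rintro ⟨n, _, h⟩
    exact ⟨n, h⟩
  · rintro ⟨n, h⟩
    exact ⟨n, Finset.mem_univ _, h⟩

theorem self_mem_orb (e : Set (IrrCharacter H)) : e ∈ orb N H hNH e :=
  (mem_orb N H hNH e e).mpr ⟨1, cjSet_one N H hNH e⟩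

theorem cjSet_mem_orb (e β : Set (IrrCharacter H)) (hβ : β ∈ orb N H hNH e) (t : N) :
    cjSet N H hNH t β ∈ orb N H hNH e := by
  obtain ⟨n, rfl⟩ := (mem_orb N H hNH e β).mp hβ
  exact (mem_orb N H hNH e _).mpr ⟨t * n, cjSet_mul N H hNH t n e⟩

/-- The sum of the idempotents of the orbit, as a function on `N`. -/
noncomputable def eps (e : Set (IrrCharacter H)) : N → ℂ :=
  fun x => ∑ β ∈ orb N H hNH e, subgroupBlockCoeff H β (x : G)

theorem eps_isClassFunction (e : Set (IrrCharacter H)) :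
    IsClassFunction N (eps N H hNH e) := by
  intro x t
  unfold eps
  apply Finset.sum_nbij' (fun β => cjSet N H hNH t⁻¹ β) (fun β => cjSet N H hNH t β)
  · intro β hβ
    exact cjSet_mem_orb N H hNH e β hβ _
  · intro β hβ
    exact cjSet_mem_orb N H hNH e β hβ _
  · intro β _
    exact cjSet_cjSet_inv N H hNH t β
  · intro β _
    exact cjSet_inv_cjSet N H hNH t β
  · intro β _
    have := sbc_conj' N H hNH t β (x : G)
    simpa [Subgroup.coe_mul] using this

theorem eps_supp (e : Set (IrrCharacter H)) (x : N) (hx : (x : G) ∉ H) :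
    eps N H hNH e x = 0 := by
  unfold eps
  apply Finset.sum_eq_zero
  intro β _
  unfold subgroupBlockCoeff
  rw [dif_neg hx]

variable [Fintype H]

theorem orb_eq_blockOf (ξ : IrrCharacter H) (β : Set (IrrCharacter H))
    (hβ : β ∈ orb N H hNH (blockOf M (ξ : H → ℂ))) :
    ∃ ξ' : IrrCharacter H, β = blockOf M (ξ' : H → ℂ) := by
  obtain ⟨n, rfl⟩ := (mem_orb N H hNH _ β).mp hβ
  exact ⟨cjIrr N H hNH n ξ, cjSet_blockOf N H hNH n ξ⟩

theorem orb_eq_blockOf_of_mem (hMm : M.IsMaximal) (ξ : IrrCharacter H)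
    (β : Set (IrrCharacter H)) (hβ : β ∈ orb N H hNH (blockOf M (ξ : H → ℂ)))
    (ψ : IrrCharacter H) (hψ : ψ ∈ β) : β = blockOf M (ψ : H → ℂ) := by
  obtain ⟨ξ', rfl⟩ := orb_eq_blockOf N H hNH ξ β hβ
  exact (blockOf_eq_of_mem hMm hψ).symm

theorem sbc_local (hMm : M.IsMaximal) (ξ : IrrCharacter H) (β : Set (IrrCharacter H))
    (hβ : β ∈ orb N H hNH (blockOf M (ξ : H → ℂ))) (y : G) :
    MemLocalRing M (subgroupBlockCoeff H β y) := by
  obtain ⟨ξ', rfl⟩ := orb_eq_blockOf N H hNH ξ β hβ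
  by_cases hy : y ∈ H
  · rw [subgroupBlockCoeff_of_mem H _ y hy]
    exact memLocalRing_blockCoeff hMm ξ'.2 _
  · unfold subgroupBlockCoeff
    rw [dif_neg hy]
    exact memLocalRing_zero hMm

theorem eps_local (hMm : M.IsMaximal) (ξ : IrrCharacter H) (x : N) :
    MemLocalRing M (eps N H hNH (blockOf M (ξ : H → ℂ)) x) := by
  unfold eps
  apply memLocalRing_sum hMm
  intro β hβ
  exact sbc_local N H hNH hMm ξ β hβ _

open Classical in
theorem sum_memB_orb (hMm : M.IsMaximal) (ξ : IrrCharacter H) (ψ : IrrCharacter H) :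
    (∑ β ∈ orb N H hNH (blockOf M (ξ : H → ℂ)),
      (if MemB β (ψ : H → ℂ) then (1 : ℂ) else 0))
      = if (∃ β ∈ orb N H hNH (blockOf M (ξ : H → ℂ)), ψ ∈ β) then 1 else 0 := by
  by_cases h : ∃ β ∈ orb N H hNH (blockOf M (ξ : H → ℂ)), ψ ∈ β
  · rw [if_pos h]
    obtain ⟨β₀, hβ₀, hm⟩ := h
    rw [Finset.sum_eq_single β₀]
    · rw [if_pos ((memB_coe β₀ ψ).mpr hm)]
    · intro β hβ hne
      rw [if_neg]
      intro hmem
      apply hne
      rw [orb_eq_blockOf_of_mem N H hNH hMm ξ β hβ ψ ((memB_coe β ψ).mp hmem),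
        orb_eq_blockOf_of_mem N H hNH hMm ξ β₀ hβ₀ ψ hm]
    · intro h0
      exact absurd hβ₀ h0
  · rw [if_neg h]
    apply Finset.sum_eq_zero
    intro β hβ
    rw [if_neg]
    intro hmem
    exact h ⟨β, hβ, (memB_coe β ψ).mp hmem⟩

end OrbitSum

section OrbitOm

variable {G : Type u} [Group G] {M : Ideal AlgInt}
variable (N H : Subgroup G) (hNH : N ≤ Subgroup.normalizer (H : Set G)) [Fintype N]
variable [Fintype H] [Fintype (H.subgroupOf N)] (hHN : H ≤ N)

open Classical in
theorem om_eps (e : Set (IrrCharacter H)) {χ : N → ℂ} (hχ : IsIrrCharacter N χ)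
    {θ : H.subgroupOf N → ℂ} (hθ : IsIrrCharacter (H.subgroupOf N) θ)
    (he : classInner (fun k : H.subgroupOf N => χ k) θ ≠ 0) :
    om χ (eps N H hNH e) = ∑ β ∈ orb N H hNH e,
      (if MemB β (fun h : H => θ ((Subgroup.subgroupOfEquivOfLe hHN).symm h))
        then (1 : ℂ) else 0) := by
  haveI : (H.subgroupOf N).Normal :=
    (Subgroup.normal_subgroupOf_iff_le_normalizer hHN).mpr hNH
  have hsupp : ∀ x : N, x ∉ H.subgroupOf N → eps N H hNH e x = 0 := by
    intro x hx
    apply eps_supp N H hNH e x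
    intro hxH
    exact hx (Subgroup.mem_subgroupOf.mpr hxH)
  rw [om_of_supported (H.subgroupOf N) (eps_isClassFunction N H hNH e) hsupp hθ hχ he]
  have hθ' : IsIrrCharacter H (fun h : H => θ ((Subgroup.subgroupOfEquivOfLe hHN).symm h)) :=
    IsIrrCharacter.comp_mulEquiv hθ (Subgroup.subgroupOfEquivOfLe hHN).symm
  have h1 : ∀ k : H.subgroupOf N, eps N H hNH e (k : N) * θ k
      = ∑ β ∈ orb N H hNH e, subgroupBlockCoeff H β ((k : N) : G) * θ k := by
    intro k
    unfold eps
    rw [Finset.sum_mul]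
  simp_rw [h1]
  rw [Finset.sum_comm, Finset.sum_div]
  refine Finset.sum_congr rfl fun β _ => ?_
  rw [← om_blockCoeff β hθ']
  unfold om
  beta_reduce
  rw [map_one]
  congr 1
  rw [← Equiv.sum_comp (Subgroup.subgroupOfEquivOfLe hHN).toEquiv]
  refine Finset.sum_congr rfl fun k _ => ?_
  have e1 : (Subgroup.subgroupOfEquivOfLe hHN).symm
      ((Subgroup.subgroupOfEquivOfLe hHN).toEquiv k) = k :=
    (Subgroup.subgroupOfEquivOfLe hHN).symm_apply_apply k
  rw [e1]
  congr 1
  have hk : ((k : N) : G) ∈ H := Subgroup.mem_subgroupOf.mp k.2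
  rw [subgroupBlockCoeff_of_mem H β _ hk]
  rfl

variable {p : ℕ} [hp : Fact p.Prime]

theorem om_eps_of_mem_block (hM : IsPModular p M) (ξ : IrrCharacter H) (ζ : IrrCharacter N)
    (he : classInner (fun k : H.subgroupOf N => (ζ : N → ℂ) k)
      (fun k => (ξ : H → ℂ) (Subgroup.subgroupOfEquivOfLe hHN k)) ≠ 0)
    (χ : IrrCharacter N) (hχ : χ ∈ blockOf M (ζ : N → ℂ)) :
    om (χ : N → ℂ) (eps N H hNH (blockOf M (ξ : H → ℂ))) = 1 := by
  classical
  have hMm := hM.2.1
  have hξX : IsIrrCharacter (H.subgroupOf N)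
      (fun k => (ξ : H → ℂ) (Subgroup.subgroupOfEquivOfLe hHN k)) :=
    IsIrrCharacter.comp_mulEquiv ξ.2 (Subgroup.subgroupOfEquivOfLe hHN)
  -- the value at `ζ`
  have hζ1 : om (ζ : N → ℂ) (eps N H hNH (blockOf M (ξ : H → ℂ))) = 1 := by
    rw [om_eps N H hNH hHN _ ζ.2 hξX he]
    have e1 : (fun h : H => (ξ : H → ℂ) (Subgroup.subgroupOfEquivOfLe hHN
        ((Subgroup.subgroupOfEquivOfLe hHN).symm h))) = (ξ : H → ℂ) := by
      funext h
      rw [MulEquiv.apply_symm_apply]
    rw [e1, sum_memB_orb N H hNH hMm ξ ξ, if_pos]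
    exact ⟨_, self_mem_orb N H hNH _, self_mem_blockOf hMm ξ⟩
  obtain ⟨θ, hθ⟩ := exists_under (H.subgroupOf N) χ.2
  have h2 := om_eps N H hNH hHN (blockOf M (ξ : H → ℂ)) χ.2 θ.2 hθ
  have hθ' : IsIrrCharacter H
      (fun h : H => (θ : H.subgroupOf N → ℂ) ((Subgroup.subgroupOfEquivOfLe hHN).symm h)) :=
    IsIrrCharacter.comp_mulEquiv θ.2 (Subgroup.subgroupOfEquivOfLe hHN).symm
  have h3 := sum_memB_orb N H hNH hMm ξ ⟨_, hθ'⟩
  rw [h3] at h2
  split_ifs at h2 with hc
  · exact h2
  · exfalso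
    have h4 := om_sub_mem hMm
      (IsCharacter.isClassFunction (IsIrrCharacter.isCharacter ζ.2))
      (IsCharacter.isClassFunction (IsIrrCharacter.isCharacter χ.2)) hχ
      (eps_isClassFunction N H hNH (blockOf M (ξ : H → ℂ)))
      (fun x => eps_local N H hNH hMm ξ x)
    rw [hζ1, h2, sub_zero] at h4
    exact not_memLocalIdeal_one hMm h4

theorem conv_eps (hM : IsPModular p M) (ξ : IrrCharacter H) (ζ : IrrCharacter N)
    (he : classInner (fun k : H.subgroupOf N => (ζ : N → ℂ) k)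
      (fun k => (ξ : H → ℂ) (Subgroup.subgroupOfEquivOfLe hHN k)) ≠ 0) :
    conv (blockCoeff (blockOf M (ζ : N → ℂ))) (eps N H hNH (blockOf M (ξ : H → ℂ)))
      = blockCoeff (blockOf M (ζ : N → ℂ)) := by
  classical
  have hcf := eps_isClassFunction N H hNH (blockOf M (ξ : H → ℂ))
  apply eq_of_forall_om_eq
    (conv_isClassFunction (blockCoeff_isClassFunction _) hcf) (blockCoeff_isClassFunction _)
  intro χ hχ
  rw [om_conv hχ _ _ hcf, om_blockCoeff _ hχ]
  by_cases hm : MemB (blockOf M (ζ : N → ℂ)) χ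
  · rw [if_pos hm, one_mul]
    obtain ⟨hirr, hmem⟩ := hm
    exact om_eps_of_mem_block N H hNH hHN hM ξ ζ he ⟨χ, hirr⟩ hmem
  · rw [if_neg hm, zero_mul]

/-- The fixed-point argument: a block of `N` covering the orbit of `e`, with a unit coefficient at
`g'`, and a `p`-subgroup `Db` of `C_N(g')`. -/
theorem exists_fixed_data (hM : IsPModular p M) (ξ : IrrCharacter H) (ζ : IrrCharacter N)
    (he : classInner (fun k : H.subgroupOf N => (ζ : N → ℂ) k)
      (fun k => (ξ : H → ℂ) (Subgroup.subgroupOfEquivOfLe hHN k)) ≠ 0)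
    (g' : N) (hg' : ¬ MemLocalIdeal M (blockCoeff (blockOf M (ζ : N → ℂ)) g'))
    (Db : Subgroup N) (hDb : IsPGroup p Db) (hDbC : ∀ d ∈ Db, d * g' = g' * d) :
    ∃ n c : N, (∀ d ∈ Db, cjSet N H hNH (n⁻¹ * d * n) (blockOf M (ξ : H → ℂ))
        = blockOf M (ξ : H → ℂ) ∧ (n⁻¹ * d * n) * c = c * (n⁻¹ * d * n)) ∧
      ¬ MemLocalIdeal M (subgroupBlockCoeff H (blockOf M (ξ : H → ℂ)) (c : G)) := by
  classical
  have hMm := hM.2.1
  set e := blockOf M (ξ : H → ℂ) with he_def
  set eb := blockCoeff (blockOf M (ζ : N → ℂ)) with heb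
  have hebR : ∀ x, MemLocalRing M (eb x) := fun x => memLocalRing_blockCoeff hMm ζ.2 x
  have hebcf : IsClassFunction N eb := blockCoeff_isClassFunction _
  have hconv : conv eb (eps N H hNH e) = eb := conv_eps N H hNH hHN hM ξ ζ he
  set F : Set (IrrCharacter H) → ℂ :=
    fun β => ∑ x : N, eb x * subgroupBlockCoeff H β ((x⁻¹ * g' : N) : G) with hF
  have h1 : eb g' = ∑ β ∈ orb N H hNH e, F β := by
    have h2 := congrFun hconv g'
    rw [← h2]
    unfold conv eps
    simp_rw [hF, Finset.mul_sum]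
    rw [Finset.sum_comm]
  rw [h1] at hg'
  -- first fixed point: a `Db`-stable block in the orbit
  obtain ⟨β, hβ, hβfix, hFβ⟩ := exists_fixed_of_sum_not_mem hM hDb
    (fun (d : Db) (β : Set (IrrCharacter H)) => cjSet N H hNH (d : N) β)
    (fun β => cjSet_one N H hNH β)
    (fun a b β => by
      show cjSet N H hNH ((a * b : Db) : N) β = _
      rw [Subgroup.coe_mul, cjSet_mul])
    (orb N H hNH e) F
    (fun β hβ => by
      rw [hF]
      apply memLocalRing_sum hMm
      intro x _
      exact memLocalRing_mul hMm (hebR x) (sbc_local N H hNH hMm ξ β hβ _))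
    (fun d β hβ => cjSet_mem_orb N H hNH e β hβ _)
    (fun d β hβ => by
      rw [hF]
      simp only
      rw [← Equiv.sum_comp (MulAut.conj (d : N)).toEquiv]
      refine Finset.sum_congr rfl fun x _ => ?_
      have e1 : (MulAut.conj (d : N)).toEquiv x = (d : N) * x * (d : N)⁻¹ := rfl
      rw [e1, hebcf x (d : N)]
      congr 1
      have e2 : (((d : N) * x * (d : N)⁻¹)⁻¹ * g' : N)
          = (d : N) * (x⁻¹ * g') * (d : N)⁻¹ := by
        have := hDbC (d : N) d.2
        calc (((d : N) * x * (d : N)⁻¹)⁻¹ * g' : N)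
            = (d : N) * x⁻¹ * ((d : N)⁻¹ * g') := by group
          _ = (d : N) * x⁻¹ * (g' * (d : N)⁻¹) := by
              congr 1
              rw [inv_mul_eq_iff_eq_mul, ← mul_assoc, this, mul_inv_cancel_right]
          _ = (d : N) * (x⁻¹ * g') * (d : N)⁻¹ := by group
      rw [e2]
      have := sbc_conj N H hNH (d : N) β ((x⁻¹ * g' : N) : G)
      simpa [Subgroup.coe_mul] using this)
    hg'
  -- second fixed point: an element centralized by `Db`
  have hβinv : ∀ d : Db, cjSet N H hNH ((d : N))⁻¹ β = β := by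
    intro d
    have := hβfix d⁻¹
    simpa using this
  obtain ⟨x, _, hxfix, hTx⟩ := exists_fixed_of_sum_not_mem hM hDb
    (fun (d : Db) (x : N) => (d : N) * x * (d : N)⁻¹)
    (fun x => by simp)
    (fun a b x => by
      show ((a * b : Db) : N) * x * ((a * b : Db) : N)⁻¹ = _
      rw [Subgroup.coe_mul]
      group)
    Finset.univ (fun x => eb x * subgroupBlockCoeff H β ((x⁻¹ * g' : N) : G))
    (fun x _ => memLocalRing_mul hMm (hebR x) (sbc_local N H hNH hMm ξ β hβ _))
    (fun d x _ => Finset.mem_univ _)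
    (fun d x _ => by
      show eb ((d : N) * x * (d : N)⁻¹) * subgroupBlockCoeff H β
          ((((d : N) * x * (d : N)⁻¹)⁻¹ * g' : N) : G)
        = eb x * subgroupBlockCoeff H β ((x⁻¹ * g' : N) : G)
      rw [hebcf x (d : N)]
      congr 1
      have e2 : (((d : N) * x * (d : N)⁻¹)⁻¹ * g' : N)
          = (d : N) * (x⁻¹ * g') * (d : N)⁻¹ := by
        have := hDbC (d : N) d.2
        calc (((d : N) * x * (d : N)⁻¹)⁻¹ * g' : N)
            = (d : N) * x⁻¹ * ((d : N)⁻¹ * g') := by group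
          _ = (d : N) * x⁻¹ * (g' * (d : N)⁻¹) := by
              congr 1
              rw [inv_mul_eq_iff_eq_mul, ← mul_assoc, this, mul_inv_cancel_right]
          _ = (d : N) * (x⁻¹ * g') * (d : N)⁻¹ := by group
      rw [e2]
      have := sbc_conj' N H hNH (d : N) β ((x⁻¹ * g' : N) : G)
      rw [hβinv d] at this
      simpa [Subgroup.coe_mul] using this)
    hFβ
  obtain ⟨n, hn⟩ := (mem_orb N H hNH e β).mp hβ
  have hsb : ¬ MemLocalIdeal M (subgroupBlockCoeff H β ((x⁻¹ * g' : N) : G)) := by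
    intro h
    exact hTx (memLocalIdeal_mul_ring hMm h (hebR x))
  refine ⟨n, n⁻¹ * (x⁻¹ * g') * n, ?_, ?_⟩
  · intro d hd
    constructor
    · rw [cjSet_mul, cjSet_mul, hn]
      have : cjSet N H hNH d β = β := hβfix ⟨d, hd⟩
      rw [this, ← hn, cjSet_inv_cjSet]
    · have h3 : d * x * d⁻¹ = x := hxfix ⟨d, hd⟩
      have h4 := hDbC d hd
      have h5 : d * x = x * d := by
        rw [mul_inv_eq_iff_eq_mul] at h3
        exact h3
      have h6 : d * x⁻¹ = x⁻¹ * d := by
        rw [eq_inv_mul_iff_mul_eq, ← mul_assoc, ← h5, mul_inv_cancel_right]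
      calc n⁻¹ * d * n * (n⁻¹ * (x⁻¹ * g') * n)
          = n⁻¹ * (d * x⁻¹ * g') * n := by group
        _ = n⁻¹ * (x⁻¹ * (d * g')) * n := by rw [h6]; group
        _ = n⁻¹ * (x⁻¹ * (g' * d)) * n := by rw [h4]
        _ = n⁻¹ * (x⁻¹ * g') * n * (n⁻¹ * d * n) := by group
  · intro h
    apply hsb
    have := sbc_conj N H hNH n e (((n⁻¹ * (x⁻¹ * g') * n : N)) : G)
    rw [hn] at this
    have e3 : (n : G) * ((n⁻¹ * (x⁻¹ * g') * n : N) : G) * (n : G)⁻¹ = ((x⁻¹ * g' : N) : G) := by
      simp only [Subgroup.coe_mul, Subgroup.coe_inv]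
      group
    rw [e3] at this
    rw [this]
    exact h

end OrbitOm

section MaxDefect

variable {G : Type u} [Group G] [Fintype G] {M : Ideal AlgInt}

/-- **The group of a maximal Brauer pair is a defect group.** -/
theorem maximal_pair_defect {p : ℕ} [hp : Fact p.Prime] (hM : IsPModular p M)
    (B : Set (IrrCharacter G)) (P : Subgroup G)
    (e : Set (IrrCharacter (Subgroup.centralizer (P : Set G))))
    (hmax : IsMaximalBrauerPair p M B P e) : IsDefectGroup p M B P := by
  classical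
  have hMm := hM.2.1
  haveI : Fintype (Subgroup.normalizer (P : Set G)) := Fintype.ofFinite _
  haveI : Fintype (Subgroup.centralizer (P : Set G)) := Fintype.ofFinite _
  haveI : Fintype ((Subgroup.centralizer (P : Set G)).subgroupOf
    (Subgroup.normalizer (P : Set G))) := Fintype.ofFinite _
  have hHN : Subgroup.centralizer (P : Set G) ≤ Subgroup.normalizer (P : Set G) :=
    Subgroup.centralizer_le_normalizer _
  have hNH : Subgroup.normalizer (P : Set G) ≤ Subgroup.normalizer
      ((Subgroup.centralizer (P : Set G) : Subgroup G) : Set G) :=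
    normalizer_le_normalizer_centralizer P
  obtain ⟨⟨⟨hP, ξ, rfl⟩, ⟨χ₀, rfl⟩, hom⟩, hmx⟩ := id hmax
  haveI hKn : ((Subgroup.centralizer (P : Set G)).subgroupOf
      (Subgroup.normalizer (P : Set G))).Normal :=
    (Subgroup.normal_subgroupOf_iff_le_normalizer hHN).mpr hNH
  haveI hPn : (P.subgroupOf (Subgroup.normalizer (P : Set G))).Normal :=
    (Subgroup.normal_subgroupOf_iff_le_normalizer Subgroup.le_normalizer).mpr le_rfl
  have hPXp : IsPGroup p (P.subgroupOf (Subgroup.normalizer (P : Set G))) :=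
    hP.comap_of_injective (Subgroup.normalizer (P : Set G)).subtype
      (Subgroup.subtype_injective _)
  have hCK : Subgroup.centralizer
      ((P.subgroupOf (Subgroup.normalizer (P : Set G)) :
        Subgroup (Subgroup.normalizer (P : Set G))) : Set (Subgroup.normalizer (P : Set G)))
      ≤ (Subgroup.centralizer (P : Set G)).subgroupOf (Subgroup.normalizer (P : Set G)) := by
    intro x hx
    rw [Subgroup.mem_subgroupOf, Subgroup.mem_centralizer_iff]
    intro y hy
    have := hx ⟨y, Subgroup.le_normalizer hy⟩ (Subgroup.mem_subgroupOf.mpr hy)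
    exact congrArg Subtype.val this
  have hξX : IsIrrCharacter ((Subgroup.centralizer (P : Set G)).subgroupOf
      (Subgroup.normalizer (P : Set G)))
      (fun k => (ξ : Subgroup.centralizer (P : Set G) → ℂ)
        (Subgroup.subgroupOfEquivOfLe hHN k)) :=
    IsIrrCharacter.comp_mulEquiv ξ.2 (Subgroup.subgroupOfEquivOfLe hHN)
  obtain ⟨ζ, hζ⟩ := exists_over ((Subgroup.centralizer (P : Set G)).subgroupOf
      (Subgroup.normalizer (P : Set G))) hξX
  -- the block of `ζ` induces `B`
  have hind : IsInducedBlock M (Subgroup.normalizer (P : Set G))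
      (blockOf M (ζ : Subgroup.normalizer (P : Set G) → ℂ)) (blockOf M (χ₀ : G → ℂ)) := by
    refine ⟨⟨ζ, rfl⟩, ⟨χ₀, rfl⟩, ?_⟩
    intro ζ' hζ' χ hχ g
    have h1 := inducedCentralChar_sub_mem hMm (Subgroup.normalizer (P : Set G)) ζ'.2 ζ.2
      (sameBlock_symm hMm hζ') g
    have h2 := induced_trans hMm (Subgroup.centralizer (P : Set G))
      (Subgroup.normalizer (P : Set G)) hHN (ξ : Subgroup.centralizer (P : Set G) → ℂ)
      (IsCharacter.isClassFunction (IsIrrCharacter.isCharacter ζ.2))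
      (fun n => induced_sub_centralChar_of_over hM
        (P.subgroupOf (Subgroup.normalizer (P : Set G)))
        ((Subgroup.centralizer (P : Set G)).subgroupOf (Subgroup.normalizer (P : Set G)))
        hPXp hCK ζ ⟨_, hξX⟩ hζ n) g
    have h3 := induced_of_brauerPairOf hM _ P _ hmax.1 ξ (self_mem_blockOf hMm ξ) χ hχ g
    have := memLocalIdeal_add hMm (memLocalIdeal_sub hMm h1 h2) h3
    have e1 : ∀ a b c d : ℂ, a - b - (c - b) + (c - d) = a - d := fun a b c d => by ring
    rwa [e1] at this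
  -- a defect group of the block of `ζ`
  obtain ⟨g', hg'⟩ := exists_defectClass hMm ζ
  obtain ⟨S⟩ : Nonempty (Sylow p (Subgroup.centralizer
    ({g'} : Set (Subgroup.normalizer (P : Set G))))) := inferInstance
  have hDb : IsDefectGroup p M (blockOf M (ζ : Subgroup.normalizer (P : Set G) → ℂ))
      ((S : Subgroup _).map (Subgroup.centralizer
        ({g'} : Set (Subgroup.normalizer (P : Set G)))).subtype) := ⟨g', hg', S, rfl⟩
  set Db := (S : Subgroup _).map (Subgroup.centralizer
        ({g'} : Set (Subgroup.normalizer (P : Set G)))).subtype with hDbdef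
  have hPD : P.subgroupOf (Subgroup.normalizer (P : Set G)) ≤ Db :=
    normal_pSubgroup_le_defectGroup hM (P.subgroupOf (Subgroup.normalizer (P : Set G)))
      hPXp ζ Db hDb
  have hDbp : IsPGroup p Db := isPGroup_of_isDefectGroup hDb
  have hDbC : ∀ d ∈ Db, d * g' = g' * d := by
    intro d hd
    obtain ⟨s, _, rfl⟩ := hd
    have := s.2
    rw [Subgroup.mem_centralizer_iff] at this
    exact (this g' (Set.mem_singleton _)).symm
  -- the fixed-point argument
  obtain ⟨n, c, hnc, hc⟩ := exists_fixed_data (Subgroup.normalizer (P : Set G))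
    (Subgroup.centralizer (P : Set G)) hNH hHN hM ξ ζ hζ g' hg'.2.1 Db hDbp hDbC
  set R : Subgroup G := (Db.map (MulAut.conj n⁻¹).toMonoidHom).map
    (Subgroup.normalizer (P : Set G)).subtype with hRdef
  have hmemR : ∀ r : G, r ∈ R ↔ ∃ d ∈ Db, r = ((n⁻¹ * d * n : Subgroup.normalizer (P : Set G)) : G) := by
    intro r
    rw [hRdef, Subgroup.mem_map]
    constructor
    · rintro ⟨y, hy, rfl⟩
      rw [Subgroup.mem_map] at hy
      obtain ⟨d, hd, rfl⟩ := hy
      refine ⟨d, hd, ?_⟩
      simp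
    · rintro ⟨d, hd, rfl⟩
      refine ⟨n⁻¹ * d * n, Subgroup.mem_map.mpr ⟨d, hd, ?_⟩, rfl⟩
      simp
  have hRp : IsPGroup p R := (hDbp.map _).map _
  have hRN : R ≤ Subgroup.normalizer (P : Set G) := by
    intro r hr
    obtain ⟨d, _, rfl⟩ := (hmemR r).mp hr
    exact (n⁻¹ * d * n).2
  have hPR : P ≤ R := by
    intro y hy
    rw [hmemR]
    have hy' : (n : G) * y * (n : G)⁻¹ ∈ P :=
      (Subgroup.mem_normalizer_iff.mp n.2 y).mp hy
    refine ⟨⟨(n : G) * y * (n : G)⁻¹, Subgroup.le_normalizer hy'⟩,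
      hPD (Subgroup.mem_subgroupOf.mpr hy'), ?_⟩
    simp only [Subgroup.coe_mul, Subgroup.coe_inv]
    group
  have hst : ∀ x ∈ R, StabilizesBlock (Subgroup.centralizer (P : Set G))
      (blockOf M (ξ : Subgroup.centralizer (P : Set G) → ℂ)) x := by
    intro r hr
    obtain ⟨d, hd, rfl⟩ := (hmemR r).mp hr
    exact stabilizesBlock_of_cjSet_eq (Subgroup.normalizer (P : Set G))
      (Subgroup.centralizer (P : Set G)) hNH _ (n⁻¹ * d * n) (hnc d hd).1
  have hcR : (c : G) ∈ Subgroup.centralizer (R : Set G) := by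
    rw [Subgroup.mem_centralizer_iff]
    intro r hr
    obtain ⟨d, hd, rfl⟩ := (hmemR r).mp hr
    have := congrArg Subtype.val (hnc d hd).2
    simpa using this
  have hRP : R = P := eq_of_maximal hM _ P R _ hmax hRp hPR hRN hst (c : G) hcR hc
  -- compare orders
  have hcard1 : Nat.card R = Nat.card Db := by
    rw [hRdef, Subgroup.card_map_of_injective (Subgroup.subtype_injective _),
      Subgroup.card_map_of_injective (MulAut.conj n⁻¹).injective]
  have hcard2 : Nat.card (P.subgroupOf (Subgroup.normalizer (P : Set G))) = Nat.card P :=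
    Nat.card_congr (Subgroup.subgroupOfEquivOfLe
      (Subgroup.le_normalizer : P ≤ Subgroup.normalizer (P : Set G))).toEquiv
  have hDbeq : P.subgroupOf (Subgroup.normalizer (P : Set G)) = Db := by
    apply Subgroup.eq_of_le_of_card_ge hPD
    rw [hcard2, ← hcard1, hRP]
  rw [← hDbeq] at hDb
  exact defectGroup_of_induced_normalizer P hM hP ζ χ₀ hind hDb

end MaxDefect

end Cfsg.Agent.Lib.Helper2_BrauerMax
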