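import Mathlib
import Cfsg.Prelude.Def_Characters
import Cfsg.Prelude.Def_Blocks
import Cfsg.Prelude.Def_BlockRank
import Cfsg.Prelude.Def_BlockLocal
import Cfsg.Prelude.Def_BrauerPairs
import Cfsg.Agent.Lib.Helper2_ClassFn
import Cfsg.Agent.Lib.Helper2_CharBasic
import Cfsg.Agent.Lib.Helper2_CharOrtho
import Cfsg.Agent.Lib.Helper2_Clifford
import Cfsg.Agent.Lib.Helper2_CharMore
import Cfsg.Agent.Lib.Helper2_CharDeg
import Cfsg.Agent.Lib.Helper2_CharInd
import Cfsg.Agent.Lib.Helper2_CharExtra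
import Cfsg.Agent.Lib.Helper2_CharInt
import Cfsg.Agent.Lib.Helper2_CharValues
import Cfsg.Agent.Lib.Helper2_CharSum
import Cfsg.Agent.Lib.Helper2_CharComplete
import Cfsg.Agent.Lib.Helper2_CharTable
import Cfsg.Agent.Lib.Helper2_CharCentral
import Cfsg.Agent.Lib.Helper2_ModM
import Cfsg.Agent.Lib.Helper2_Blocks
import Cfsg.Agent.Lib.Helper2_BlockOrtho
import Cfsg.Agent.Lib.Helper2_BlockMore
import Cfsg.Agent.Lib.Helper2_DefectGroup
import Cfsg.Agent.Lib.Helper2_DefectPCore
import Cfsg.Agent.Lib.Helper2_MinMax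
import Cfsg.Agent.Lib.Helper2_InducedBlock
import Cfsg.Agent.Lib.Helper2_BrauerMap
import Cfsg.Agent.Lib.Helper2_InducedDefect
import Cfsg.Agent.Lib.Helper2_BrauerFirst
import Cfsg.Agent.Lib.Helper2_BrauerConverse
import Cfsg.Agent.Lib.Helper2_SylowConj
import Cfsg.Agent.Lib.Helper2_BlockCover
import Cfsg.Agent.Lib.Helper2_BlockConj
import Cfsg.Agent.Lib.Helper2_FirstMain
import Cfsg.Agent.Lib.Helper2_BlockNormal
import Cfsg.Agent.Lib.Helper2_BlockCount
import Cfsg.Agent.Lib.Helper2_BlockCount2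
import Cfsg.Agent.Lib.Helper2_BlockKer
import Cfsg.Agent.Lib.Helper2_PRegCount
import Cfsg.Agent.Lib.Helper2_ExtFirstMain
import Cfsg.Agent.Lib.Helper2_ThirdMain
import Cfsg.Agent.Lib.Helper2_Fong
import Cfsg.Agent.Lib.Helper2_BrauerPairs
import Cfsg.Agent.Lib.Helper2_BrauerInv
import Cfsg.Agent.Lib.Helper2_Conj
import Cfsg.Agent.Lib.Helper2_BrauerChain
import Cfsg.Prelude.Def_FusionSystem
import Cfsg.Prelude.Def_BlockFusion


set_option autoImplicit false

/-!
# Brauer pairs of the principal block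
-/

namespace Cfsg.Agent.Lib.Helper2_BrauerPrincipal

open Cfsg
open Cfsg.Agent.Lib.Helper2_ClassFn
open Cfsg.Agent.Lib.Helper2_CharBasic
open Cfsg.Agent.Lib.Helper2_CharOrtho
open Cfsg.Agent.Lib.Helper2_Clifford
open Cfsg.Agent.Lib.Helper2_CharMore
open Cfsg.Agent.Lib.Helper2_CharDeg
open Cfsg.Agent.Lib.Helper2_CharInd
open Cfsg.Agent.Lib.Helper2_CharExtra
open Cfsg.Agent.Lib.Helper2_CharValues
open Cfsg.Agent.Lib.Helper2_CharSum
open Cfsg.Agent.Lib.Helper2_CharComplete
open Cfsg.Agent.Lib.Helper2_CharTable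
open Cfsg.Agent.Lib.Helper2_CharCentral
open Cfsg.Agent.Lib.Helper2_ModM
open Cfsg.Agent.Lib.Helper2_Blocks
open Cfsg.Agent.Lib.Helper2_BlockOrtho
open Cfsg.Agent.Lib.Helper2_BlockMore
open Cfsg.Agent.Lib.Helper2_DefectGroup
open Cfsg.Agent.Lib.Helper2_DefectPCore
open Cfsg.Agent.Lib.Helper2_MinMax
open Cfsg.Agent.Lib.Helper2_InducedBlock
open Cfsg.Agent.Lib.Helper2_BrauerMap
open Cfsg.Agent.Lib.Helper2_InducedDefect
open Cfsg.Agent.Lib.Helper2_BrauerFirst
open Cfsg.Agent.Lib.Helper2_BrauerConverse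
open Cfsg.Agent.Lib.Helper2_SylowConj
open Cfsg.Agent.Lib.Helper2_BlockCover
open Cfsg.Agent.Lib.Helper2_BlockConj
open Cfsg.Agent.Lib.Helper2_FirstMain
open Cfsg.Agent.Lib.Helper2_BlockNormal
open Cfsg.Agent.Lib.Helper2_BlockCount
open Cfsg.Agent.Lib.Helper2_BlockCount2
open Cfsg.Agent.Lib.Helper2_BlockKer
open Cfsg.Agent.Lib.Helper2_PRegCount
open Cfsg.Agent.Lib.Helper2_ExtFirstMain
open Cfsg.Agent.Lib.Helper2_ThirdMain
open Cfsg.Agent.Lib.Helper2_Fong
open Cfsg.Agent.Lib.Helper2_BrauerPairs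
open Cfsg.Agent.Lib.Helper2_BrauerInv
open Cfsg.Agent.Lib.Helper2_BrauerChain
open scoped ComplexConjugate

universe u

section Transport

variable {K₁ K₂ : Type u} [Group K₁] [Group K₂] {M : Ideal AlgInt}

theorem index_centralizer_equiv' (φ : K₁ ≃* K₂) (k : K₁) :
    (Subgroup.centralizer ({φ k} : Set K₂)).index
      = (Subgroup.centralizer ({k} : Set K₁)).index := by
  have h : Subgroup.centralizer ({φ k} : Set K₂)
      = (Subgroup.centralizer ({k} : Set K₁)).map (φ : K₁ →* K₂) := by
    ext x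
    rw [Subgroup.mem_map, Subgroup.mem_centralizer_singleton_iff]
    constructor
    · intro hx
      refine ⟨φ.symm x, ?_, ?_⟩
      · rw [Subgroup.mem_centralizer_singleton_iff]
        apply φ.injective
        rw [map_mul, map_mul, MulEquiv.apply_symm_apply]
        exact hx
      · exact MulEquiv.apply_symm_apply _ x
    · rintro ⟨y, hy, rfl⟩
      rw [Subgroup.mem_centralizer_singleton_iff] at hy
      show φ y * _ = _ * φ y
      rw [← map_mul, ← map_mul, hy]
  rw [h, Subgroup.index_map_equiv]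

theorem centralChar_comp_equiv' (θ : K₂ → ℂ) (φ : K₁ ≃* K₂) (k : K₁) :
    centralChar (fun x => θ (φ x)) k = centralChar θ (φ k) := by
  unfold centralChar
  rw [index_centralizer_equiv']
  simp only [map_one]

theorem sameBlock_comp_equiv_iff (θ ψ : K₂ → ℂ) (φ : K₁ ≃* K₂) :
    SameBlock M (fun x => θ (φ x)) (fun x => ψ (φ x)) ↔ SameBlock M θ ψ := by
  constructor
  · intro h k
    have := h (φ.symm k)
    rwa [centralChar_comp_equiv', centralChar_comp_equiv', MulEquiv.apply_symm_apply] at this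
  · intro h k
    rw [centralChar_comp_equiv', centralChar_comp_equiv']
    exact h _

end Transport

section Principal

variable {G : Type u} [Group G] [Fintype G] {M : Ideal AlgInt}

omit [Fintype G] in
theorem conj_mem_centralizer_map (Q : Subgroup G) (g c : G)
    (hc : c ∈ Subgroup.centralizer (Q : Set G)) :
    g * c * g⁻¹ ∈ Subgroup.centralizer
      ((Q.map (MulAut.conj g).toMonoidHom : Subgroup G) : Set G) := by
  rw [Subgroup.mem_centralizer_iff] at hc ⊢
  rintro y ⟨q, hq, rfl⟩
  have := hc q hq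
  simp only [MulEquiv.coe_toMonoidHom, MulAut.conj_apply]
  calc g * q * g⁻¹ * (g * c * g⁻¹) = g * (q * c) * g⁻¹ := by group
    _ = g * (c * q) * g⁻¹ := by rw [this]
    _ = g * c * g⁻¹ * (g * q * g⁻¹) := by group

omit [Fintype G] in
theorem conj_inv_mem_centralizer (Q : Subgroup G) (g c : G)
    (hc : c ∈ Subgroup.centralizer
      ((Q.map (MulAut.conj g).toMonoidHom : Subgroup G) : Set G)) :
    g⁻¹ * c * g ∈ Subgroup.centralizer (Q : Set G) := by
  rw [Subgroup.mem_centralizer_iff] at hc ⊢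
  intro q hq
  have h1 : g * q * g⁻¹ ∈ ((Q.map (MulAut.conj g).toMonoidHom : Subgroup G) : Set G) :=
    ⟨q, hq, by simp⟩
  have := hc _ h1
  calc q * (g⁻¹ * c * g) = g⁻¹ * ((g * q * g⁻¹) * c) * g := by group
    _ = g⁻¹ * (c * (g * q * g⁻¹)) * g := by rw [this]
    _ = g⁻¹ * c * g * q := by group

/-- Conjugation by `g` as an isomorphism between the centralizers of `Q` and of `g Q g⁻¹`. -/
def centEquiv (Q : Subgroup G) (g : G) :
    Subgroup.centralizer (Q : Set G) ≃*
      Subgroup.centralizer ((Q.map (MulAut.conj g).toMonoidHom : Subgroup G) : Set G) where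
  toFun c := ⟨g * c * g⁻¹, conj_mem_centralizer_map Q g c c.2⟩
  invFun c := ⟨g⁻¹ * c * g, conj_inv_mem_centralizer Q g c c.2⟩
  left_inv c := by
    apply Subtype.ext
    show g⁻¹ * (g * (c : G) * g⁻¹) * g = c
    group
  right_inv c := by
    apply Subtype.ext
    show g * (g⁻¹ * (c : G) * g) * g⁻¹ = c
    group
  map_mul' a b := by
    apply Subtype.ext
    show g * ((a : G) * (b : G)) * g⁻¹ = (g * a * g⁻¹) * (g * b * g⁻¹)
    group

omit [Fintype G] in
theorem centEquiv_coe (Q : Subgroup G) (g : G) (c : Subgroup.centralizer (Q : Set G)) :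
    ((centEquiv Q g c : Subgroup.centralizer
      ((Q.map (MulAut.conj g).toMonoidHom : Subgroup G) : Set G)) : G) = g * c * g⁻¹ := rfl

omit [Fintype G] in
theorem mem_conjBlock_iff (Q : Subgroup G) (g : G)
    (f : Set (IrrCharacter (Subgroup.centralizer (Q : Set G))))
    (ξ' : IrrCharacter (Subgroup.centralizer
      ((Q.map (MulAut.conj g).toMonoidHom : Subgroup G) : Set G))) :
    ξ' ∈ conjBlock Q g f ↔
      (⟨fun c => (ξ' : Subgroup.centralizer
          ((Q.map (MulAut.conj g).toMonoidHom : Subgroup G) : Set G) → ℂ) (centEquiv Q g c),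
        IsIrrCharacter.comp_mulEquiv ξ'.2 (centEquiv Q g)⟩ :
          IrrCharacter (Subgroup.centralizer (Q : Set G))) ∈ f := by
  constructor
  · rintro ⟨ξ, hξ, hrel⟩
    have h2 : ξ = ⟨fun c => (ξ' : Subgroup.centralizer
          ((Q.map (MulAut.conj g).toMonoidHom : Subgroup G) : Set G) → ℂ) (centEquiv Q g c),
        IsIrrCharacter.comp_mulEquiv ξ'.2 (centEquiv Q g)⟩ := by
      apply Subtype.ext
      funext c
      exact (hrel c (centEquiv Q g c) (centEquiv_coe Q g c)).symm
    rw [← h2]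
    exact hξ
  · intro h
    refine ⟨_, h, ?_⟩
    intro c c' hcc'
    have : c' = centEquiv Q g c := Subtype.ext (hcc'.trans (centEquiv_coe Q g c).symm)
    rw [this]

omit [Fintype G] in
/-- The conjugate of the principal block is the principal block. -/
theorem conjBlock_principal (Q : Subgroup G) (g : G) :
    conjBlock Q g (principalBlock M (Subgroup.centralizer (Q : Set G)))
      = principalBlock M (Subgroup.centralizer
          ((Q.map (MulAut.conj g).toMonoidHom : Subgroup G) : Set G)) := by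
  ext ξ'
  rw [mem_conjBlock_iff]
  exact sameBlock_comp_equiv_iff (fun _ => (1 : ℂ))
    (ξ' : Subgroup.centralizer
      ((Q.map (MulAut.conj g).toMonoidHom : Subgroup G) : Set G) → ℂ) (centEquiv Q g)

omit [Fintype G] in
theorem isPBlock_principal (K : Type u) [Group K] : IsPBlock M (principalBlock M K) :=
  ⟨⟨fun _ => 1, isIrrCharacter_one⟩, rfl⟩

/-- The principal blocks of the centralizers form a chain of Brauer pairs. -/
theorem principal_subpairLE {p : ℕ} [hp : Fact p.Prime] (hM : IsPModular p M)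
    (P Q : Subgroup G) (hP : IsPGroup p P) (hQP : Q ≤ P) :
    SubpairLE p M Q (principalBlock M (Subgroup.centralizer (Q : Set G))) P
      (principalBlock M (Subgroup.centralizer (P : Set G))) := by
  have hPe : IsBrauerPair p M P (principalBlock M (Subgroup.centralizer (P : Set G))) :=
    ⟨hP, isPBlock_principal _⟩
  obtain ⟨f, ⟨hfB, hf⟩, _⟩ := existsUnique_subpairLE hM P Q _ hPe hQP
  have h1 : IsBrauerPairOf p M (principalBlock M G) P
      (principalBlock M (Subgroup.centralizer (P : Set G))) :=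
    (brauerPair_principal hM P hP _ (isPBlock_principal _)).mpr rfl
  have h2 := (brauerPairOf_iff_of_le hM (principalBlock M G) (isPBlock_principal G)
    ⟨Q, f⟩ ⟨P, _⟩ hf).mp h1
  have h3 := (brauerPair_principal hM Q (hP.to_le hQP) f hfB).mp h2
  rw [h3] at hf
  exact hf

/-- **The fusion system of the principal block** is the fusion system of the group on a Sylow
subgroup. -/
theorem principal_fusion {p : ℕ} [hp : Fact p.Prime] (hM : IsPModular p M) (S : Sylow p G) :
    IsMaximalBrauerPair p M (principalBlock M G) (S : Subgroup G)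
        (principalBlock M (Subgroup.centralizer ((S : Subgroup G) : Set G))) ∧
      ∀ F : FusionSystem (S : Subgroup G),
        IsBlockFusionSystemOn p M (principalBlock M G) (S : Subgroup G)
          (principalBlock M (Subgroup.centralizer ((S : Subgroup G) : Set G))) F →
        ∀ Q : Subgroup G, F.Hom Q = (groupFusionSystem (S : Subgroup G)).Hom Q := by
  have hMm := hM.2.1
  have hS : IsPGroup p (S : Subgroup G) := S.isPGroup'
  refine ⟨⟨(brauerPair_principal hM (S : Subgroup G) hS _ (isPBlock_principal _)).mpr rfl, ?_⟩, ?_⟩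
  · intro R g hRg hle
    have h1 : (S : Subgroup G) ≤ R := le_fst hle
    exact S.is_maximal' hRg.1.1 h1
  · intro F hF Q
    ext φ
    rw [hF.2 Q φ]
    constructor
    · rintro ⟨hQS, g, hg, hgS, _⟩
      refine ⟨hQS, fun x => ?_, g, hg⟩
      rw [hg x]
      apply hgS
      exact ⟨x, x.2, by simp⟩
    · rintro ⟨hQS, hφS, g, hg⟩
      have hgS : Q.map (MulAut.conj g).toMonoidHom ≤ (S : Subgroup G) := by
        rintro y ⟨q, hq, rfl⟩
        have := hφS ⟨q, hq⟩
        rw [hg] at this
        simpa using this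
      refine ⟨hQS, g, hg, hgS, principalBlock M (Subgroup.centralizer (Q : Set G)),
        principal_subpairLE hM (S : Subgroup G) Q hS hQS, ?_⟩
      rw [conjBlock_principal]
      exact principal_subpairLE hM (S : Subgroup G) _ hS hgS

end Principal

end Cfsg.Agent.Lib.Helper2_BrauerPrincipal
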