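import Mathlib
import Cfsg.Prelude.Def_Characters
import Cfsg.Prelude.Def_Blocks
import Cfsg.Prelude.Def_BlockRank
import Cfsg.Prelude.Def_BlockLocal
import Cfsg.Prelude.Def_BrauerPairs
import Cfsg.Agent.Lib.Helper2_ClassFn
import Cfsg.Agent.Lib.Helper2_CharBasic
import Cfsg.Agent.Lib.Helper2_CharOrtho
import Cfsg.Agent.Lib.Helper2_Clifford
import Cfsg.Agent.Lib.Helper2_CharMore
import Cfsg.Agent.Lib.Helper2_CharDeg
import Cfsg.Agent.Lib.Helper2_CharInd
import Cfsg.Agent.Lib.Helper2_CharExtra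
import Cfsg.Agent.Lib.Helper2_CharInt
import Cfsg.Agent.Lib.Helper2_CharValues
import Cfsg.Agent.Lib.Helper2_CharSum
import Cfsg.Agent.Lib.Helper2_CharComplete
import Cfsg.Agent.Lib.Helper2_CharTable
import Cfsg.Agent.Lib.Helper2_CharCentral
import Cfsg.Agent.Lib.Helper2_ModM
import Cfsg.Agent.Lib.Helper2_Blocks
import Cfsg.Agent.Lib.Helper2_BlockOrtho
import Cfsg.Agent.Lib.Helper2_BlockMore
import Cfsg.Agent.Lib.Helper2_DefectGroup
import Cfsg.Agent.Lib.Helper2_DefectPCore
import Cfsg.Agent.Lib.Helper2_MinMax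
import Cfsg.Agent.Lib.Helper2_InducedBlock
import Cfsg.Agent.Lib.Helper2_BrauerMap
import Cfsg.Agent.Lib.Helper2_InducedDefect
import Cfsg.Agent.Lib.Helper2_BrauerFirst
import Cfsg.Agent.Lib.Helper2_BrauerConverse
import Cfsg.Agent.Lib.Helper2_SylowConj
import Cfsg.Agent.Lib.Helper2_BlockCover
import Cfsg.Agent.Lib.Helper2_BlockConj
import Cfsg.Agent.Lib.Helper2_FirstMain
import Cfsg.Agent.Lib.Helper2_BlockNormal
import Cfsg.Agent.Lib.Helper2_BlockCount
import Cfsg.Agent.Lib.Helper2_BlockCount2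
import Cfsg.Agent.Lib.Helper2_BlockKer
import Cfsg.Agent.Lib.Helper2_PRegCount
import Cfsg.Agent.Lib.Helper2_ExtFirstMain
import Cfsg.Agent.Lib.Helper2_ThirdMain
import Cfsg.Agent.Lib.Helper2_Fong
import Cfsg.Agent.Lib.Helper2_BrauerPairs
import Cfsg.Agent.Lib.Helper2_BrauerInv
import Cfsg.Agent.Lib.Helper2_Conj
import Cfsg.Agent.Lib.Helper2_BrauerChain
import Cfsg.Agent.Lib.Helper2_BrauerPrincipal
import Cfsg.Agent.Lib.Helper2_BrauerMax


set_option autoImplicit false

/-!
# Maximal Brauer pairs and defect groups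
-/

namespace Cfsg.Agent.Lib.Helper2_BrauerConjMax

open Cfsg
open Cfsg.Agent.Lib.Helper2_ClassFn
open Cfsg.Agent.Lib.Helper2_CharBasic
open Cfsg.Agent.Lib.Helper2_CharOrtho
open Cfsg.Agent.Lib.Helper2_Clifford
open Cfsg.Agent.Lib.Helper2_CharMore
open Cfsg.Agent.Lib.Helper2_CharDeg
open Cfsg.Agent.Lib.Helper2_CharInd
open Cfsg.Agent.Lib.Helper2_CharExtra
open Cfsg.Agent.Lib.Helper2_CharValues
open Cfsg.Agent.Lib.Helper2_CharSum
open Cfsg.Agent.Lib.Helper2_CharComplete
open Cfsg.Agent.Lib.Helper2_CharTable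
open Cfsg.Agent.Lib.Helper2_CharCentral
open Cfsg.Agent.Lib.Helper2_ModM
open Cfsg.Agent.Lib.Helper2_Blocks
open Cfsg.Agent.Lib.Helper2_BlockOrtho
open Cfsg.Agent.Lib.Helper2_BlockMore
open Cfsg.Agent.Lib.Helper2_DefectGroup
open Cfsg.Agent.Lib.Helper2_DefectPCore
open Cfsg.Agent.Lib.Helper2_MinMax
open Cfsg.Agent.Lib.Helper2_InducedBlock
open Cfsg.Agent.Lib.Helper2_BrauerMap
open Cfsg.Agent.Lib.Helper2_InducedDefect
open Cfsg.Agent.Lib.Helper2_BrauerFirst
open Cfsg.Agent.Lib.Helper2_BrauerConverse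
open Cfsg.Agent.Lib.Helper2_SylowConj
open Cfsg.Agent.Lib.Helper2_BlockCover
open Cfsg.Agent.Lib.Helper2_BlockConj
open Cfsg.Agent.Lib.Helper2_FirstMain
open Cfsg.Agent.Lib.Helper2_BlockNormal
open Cfsg.Agent.Lib.Helper2_BlockCount
open Cfsg.Agent.Lib.Helper2_BlockCount2
open Cfsg.Agent.Lib.Helper2_BlockKer
open Cfsg.Agent.Lib.Helper2_PRegCount
open Cfsg.Agent.Lib.Helper2_ExtFirstMain
open Cfsg.Agent.Lib.Helper2_ThirdMain
open Cfsg.Agent.Lib.Helper2_Fong
open Cfsg.Agent.Lib.Helper2_BrauerPairs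
open Cfsg.Agent.Lib.Helper2_BrauerInv
open Cfsg.Agent.Lib.Helper2_BrauerChain
open Cfsg.Agent.Lib.Helper2_BrauerPrincipal
open Cfsg.Agent.Lib.Helper2_BrauerMax
open scoped ComplexConjugate

universe u

section ConjTransport

variable {G : Type u} [Group G] {M : Ideal AlgInt}

/-- Transport of an irreducible character of `C_G(Q)` to `C_G(x Q x⁻¹)`. -/
noncomputable def cbIrr (Q : Subgroup G) (x : G)
    (ξ : IrrCharacter (Subgroup.centralizer (Q : Set G))) :
    IrrCharacter (Subgroup.centralizer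
      ((Q.map (MulAut.conj x).toMonoidHom : Subgroup G) : Set G)) :=
  ⟨fun c => (ξ : Subgroup.centralizer (Q : Set G) → ℂ) ((centEquiv Q x).symm c),
    IsIrrCharacter.comp_mulEquiv ξ.2 (centEquiv Q x).symm⟩

/-- Transport back. -/
noncomputable def cbIrr' (Q : Subgroup G) (x : G)
    (ξ' : IrrCharacter (Subgroup.centralizer
      ((Q.map (MulAut.conj x).toMonoidHom : Subgroup G) : Set G))) :
    IrrCharacter (Subgroup.centralizer (Q : Set G)) :=
  ⟨fun c => (ξ' : Subgroup.centralizer
      ((Q.map (MulAut.conj x).toMonoidHom : Subgroup G) : Set G) → ℂ) (centEquiv Q x c),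
    IsIrrCharacter.comp_mulEquiv ξ'.2 (centEquiv Q x)⟩

theorem cbIrr_apply (Q : Subgroup G) (x : G)
    (ξ : IrrCharacter (Subgroup.centralizer (Q : Set G)))
    (c : Subgroup.centralizer ((Q.map (MulAut.conj x).toMonoidHom : Subgroup G) : Set G)) :
    (cbIrr Q x ξ : _ → ℂ) c
      = (ξ : Subgroup.centralizer (Q : Set G) → ℂ) ((centEquiv Q x).symm c) := rfl

theorem cbIrr'_apply (Q : Subgroup G) (x : G)
    (ξ' : IrrCharacter (Subgroup.centralizer
      ((Q.map (MulAut.conj x).toMonoidHom : Subgroup G) : Set G)))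
    (c : Subgroup.centralizer (Q : Set G)) :
    (cbIrr' Q x ξ' : _ → ℂ) c = (ξ' : _ → ℂ) (centEquiv Q x c) := rfl

theorem cbIrr'_cbIrr (Q : Subgroup G) (x : G)
    (ξ : IrrCharacter (Subgroup.centralizer (Q : Set G))) :
    cbIrr' Q x (cbIrr Q x ξ) = ξ := by
  apply Subtype.ext
  funext c
  rw [cbIrr'_apply, cbIrr_apply, MulEquiv.symm_apply_apply]

theorem cbIrr_cbIrr' (Q : Subgroup G) (x : G)
    (ξ' : IrrCharacter (Subgroup.centralizer
      ((Q.map (MulAut.conj x).toMonoidHom : Subgroup G) : Set G))) :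
    cbIrr Q x (cbIrr' Q x ξ') = ξ' := by
  apply Subtype.ext
  funext c
  rw [cbIrr_apply, cbIrr'_apply, MulEquiv.apply_symm_apply]

theorem cbIrr_injective (Q : Subgroup G) (x : G) : Function.Injective (cbIrr Q x) := by
  intro a b h
  have := congrArg (cbIrr' Q x) h
  rwa [cbIrr'_cbIrr, cbIrr'_cbIrr] at this

theorem mem_conjBlock_iff' (Q : Subgroup G) (x : G)
    (f : Set (IrrCharacter (Subgroup.centralizer (Q : Set G))))
    (ξ' : IrrCharacter (Subgroup.centralizer
      ((Q.map (MulAut.conj x).toMonoidHom : Subgroup G) : Set G))) :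
    ξ' ∈ conjBlock Q x f ↔ cbIrr' Q x ξ' ∈ f :=
  mem_conjBlock_iff Q x f ξ'

theorem conjBlock_eq_image (Q : Subgroup G) (x : G)
    (f : Set (IrrCharacter (Subgroup.centralizer (Q : Set G)))) :
    conjBlock Q x f = cbIrr Q x '' f := by
  ext ξ'
  rw [mem_conjBlock_iff']
  constructor
  · intro h
    exact ⟨_, h, cbIrr_cbIrr' Q x ξ'⟩
  · rintro ⟨ξ, hξ, rfl⟩
    rwa [cbIrr'_cbIrr]

theorem conjBlock_blockOf (Q : Subgroup G) (x : G)
    (ξ : IrrCharacter (Subgroup.centralizer (Q : Set G))) :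
    conjBlock Q x (blockOf M (ξ : Subgroup.centralizer (Q : Set G) → ℂ))
      = blockOf M (cbIrr Q x ξ : Subgroup.centralizer
          ((Q.map (MulAut.conj x).toMonoidHom : Subgroup G) : Set G) → ℂ) := by
  ext ξ'
  rw [mem_conjBlock_iff']
  have h1 := sameBlock_comp_equiv_iff (M := M)
    (cbIrr Q x ξ : Subgroup.centralizer
          ((Q.map (MulAut.conj x).toMonoidHom : Subgroup G) : Set G) → ℂ)
    (ξ' : Subgroup.centralizer
          ((Q.map (MulAut.conj x).toMonoidHom : Subgroup G) : Set G) → ℂ) (centEquiv Q x)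
  have h2 : (fun c => (cbIrr Q x ξ : Subgroup.centralizer
          ((Q.map (MulAut.conj x).toMonoidHom : Subgroup G) : Set G) → ℂ) (centEquiv Q x c))
      = (ξ : Subgroup.centralizer (Q : Set G) → ℂ) := by
    funext c
    rw [cbIrr_apply, MulEquiv.symm_apply_apply]
  rw [h2] at h1
  exact h1

theorem isPBlock_conjBlock (Q : Subgroup G) (x : G)
    (f : Set (IrrCharacter (Subgroup.centralizer (Q : Set G)))) (hf : IsPBlock M f) :
    IsPBlock M (conjBlock Q x f) := by
  obtain ⟨ξ, rfl⟩ := hf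
  exact ⟨cbIrr Q x ξ, conjBlock_blockOf Q x ξ⟩

theorem blockCoeff_conjBlock (Q : Subgroup G) (x : G)
    (f : Set (IrrCharacter (Subgroup.centralizer (Q : Set G))))
    (c : Subgroup.centralizer (Q : Set G)) :
    blockCoeff (conjBlock Q x f) (centEquiv Q x c) = blockCoeff f c := by
  rw [conjBlock_eq_image]
  unfold blockCoeff
  rw [finsum_mem_image (fun a _ b _ hab => cbIrr_injective Q x hab)]
  have hcard : Nat.card (Subgroup.centralizer
      ((Q.map (MulAut.conj x).toMonoidHom : Subgroup G) : Set G))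
      = Nat.card (Subgroup.centralizer (Q : Set G)) :=
    Nat.card_congr (centEquiv Q x).toEquiv.symm
  rw [hcard]
  congr 1
  refine finsum_congr fun ξ => ?_
  refine finsum_congr fun _ => ?_
  rw [cbIrr_apply, cbIrr_apply, MulEquiv.symm_apply_apply, map_one]

theorem conj_mem_centralizer_map_iff (Q : Subgroup G) (x g : G) :
    x * g * x⁻¹ ∈ Subgroup.centralizer
      ((Q.map (MulAut.conj x).toMonoidHom : Subgroup G) : Set G)
      ↔ g ∈ Subgroup.centralizer (Q : Set G) := by
  constructor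
  · intro h
    have := conj_inv_mem_centralizer Q x _ h
    have e : x⁻¹ * (x * g * x⁻¹) * x = g := by group
    rwa [e] at this
  · intro h
    exact conj_mem_centralizer_map Q x g h

theorem sbc_conjBlock (Q : Subgroup G) (x : G)
    (f : Set (IrrCharacter (Subgroup.centralizer (Q : Set G)))) (g : G) :
    subgroupBlockCoeff (Subgroup.centralizer
      ((Q.map (MulAut.conj x).toMonoidHom : Subgroup G) : Set G)) (conjBlock Q x f)
        (x * g * x⁻¹)
      = subgroupBlockCoeff (Subgroup.centralizer (Q : Set G)) f g := by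
  classical
  by_cases hg : g ∈ Subgroup.centralizer (Q : Set G)
  · have hg' := (conj_mem_centralizer_map_iff Q x g).mpr hg
    unfold subgroupBlockCoeff
    rw [dif_pos hg, dif_pos hg']
    exact blockCoeff_conjBlock Q x f ⟨g, hg⟩
  · have hg' : ¬ x * g * x⁻¹ ∈ Subgroup.centralizer
      ((Q.map (MulAut.conj x).toMonoidHom : Subgroup G) : Set G) :=
      fun h => hg ((conj_mem_centralizer_map_iff Q x g).mp h)
    unfold subgroupBlockCoeff
    rw [dif_neg hg, dif_neg hg']

theorem brauerOmega_conj (Q : Subgroup G) (x : G) (β : G → ℂ)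
    (ξ' : Subgroup.centralizer
      ((Q.map (MulAut.conj x).toMonoidHom : Subgroup G) : Set G) → ℂ) :
    brauerOmega (Q.map (MulAut.conj x).toMonoidHom) β ξ'
      = brauerOmega Q (fun g => β (x * g * x⁻¹)) (fun c => ξ' (centEquiv Q x c)) := by
  unfold brauerOmega
  rw [← finsum_comp_equiv (centEquiv Q x).toEquiv]
  refine finsum_congr fun c => ?_
  simp only [map_one]
  rfl

end ConjTransport

section ConjPairs

variable {G : Type u} [Group G] [Fintype G] {M : Ideal AlgInt}

theorem isBrauerPair_conj {p : ℕ} (Q : Subgroup G) (x : G)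
    (f : Set (IrrCharacter (Subgroup.centralizer (Q : Set G))))
    (h : IsBrauerPair p M Q f) :
    IsBrauerPair p M (Q.map (MulAut.conj x).toMonoidHom) (conjBlock Q x f) :=
  ⟨h.1.map _, isPBlock_conjBlock Q x f h.2⟩

theorem isBrauerPairOf_conj {p : ℕ} (B : Set (IrrCharacter G)) (Q : Subgroup G) (x : G)
    (f : Set (IrrCharacter (Subgroup.centralizer (Q : Set G))))
    (h : IsBrauerPairOf p M B Q f) :
    IsBrauerPairOf p M B (Q.map (MulAut.conj x).toMonoidHom) (conjBlock Q x f) := by
  refine ⟨isBrauerPair_conj Q x f h.1, h.2.1, ?_⟩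
  intro ξ' hξ'
  rw [brauerOmega_conj]
  have h1 : (fun g => blockCoeff B (x * g * x⁻¹)) = blockCoeff B :=
    funext fun g => blockCoeff_isClassFunction B g x
  rw [h1]
  exact h.2.2 (cbIrr' Q x ξ') ((mem_conjBlock_iff' Q x f ξ').mp hξ')

theorem mem_map_conj'' {B : Subgroup G} {x a : G} :
    a ∈ B.map (MulAut.conj x).toMonoidHom ↔ x⁻¹ * a * x ∈ B := by
  constructor
  · rintro ⟨b, hb, rfl⟩
    have : x⁻¹ * (MulAut.conj x).toMonoidHom b * x = b := by
      simp [MulAut.conj_apply, mul_assoc]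
    rwa [this]
  · intro h
    refine ⟨x⁻¹ * a * x, h, ?_⟩
    simp [MulAut.conj_apply, mul_assoc]

theorem map_conj_le_normalizer (Q P : Subgroup G) (x : G)
    (h : P ≤ Subgroup.normalizer (Q : Set G)) :
    P.map (MulAut.conj x).toMonoidHom ≤ Subgroup.normalizer
      ((Q.map (MulAut.conj x).toMonoidHom : Subgroup G) : Set G) := by
  rintro _ ⟨y, hy, rfl⟩
  have hy' := h hy
  rw [Subgroup.mem_normalizer_iff] at hy' ⊢
  intro a
  simp only [MulEquiv.coe_toMonoidHom, MulAut.conj_apply]
  rw [mem_map_conj'', mem_map_conj'']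
  have e1 : x⁻¹ * (x * y * x⁻¹ * a * (x * y * x⁻¹)⁻¹) * x = y * (x⁻¹ * a * x) * y⁻¹ := by group
  rw [e1]
  exact hy' _

theorem isNormalSubpair_conj {p : ℕ} (Q P : Subgroup G) (x : G)
    (f : Set (IrrCharacter (Subgroup.centralizer (Q : Set G))))
    (e : Set (IrrCharacter (Subgroup.centralizer (P : Set G))))
    (h : IsNormalSubpair p M Q f P e) :
    IsNormalSubpair p M (Q.map (MulAut.conj x).toMonoidHom) (conjBlock Q x f)
      (P.map (MulAut.conj x).toMonoidHom) (conjBlock P x e) := by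
  obtain ⟨hQf, hPe, hQP, hPN, hst, hom⟩ := h
  refine ⟨isBrauerPair_conj Q x f hQf, isBrauerPair_conj P x e hPe, Subgroup.map_mono hQP,
    map_conj_le_normalizer Q P x hPN, ?_, ?_⟩
  · rintro _ ⟨y₀, hy₀, rfl⟩
    refine ⟨?_, ?_⟩
    · have h1 := map_conj_le_normalizer Q P x hPN (Subgroup.mem_map_of_mem _ hy₀)
      -- `N(Q^x) ≤ N(C(Q^x))`
      have h2 : Subgroup.normalizer
          ((Q.map (MulAut.conj x).toMonoidHom : Subgroup G) : Set G)
          ≤ Subgroup.normalizer ((Subgroup.centralizer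
            ((Q.map (MulAut.conj x).toMonoidHom : Subgroup G) : Set G) : Subgroup G) : Set G) := by
        intro n hn
        rw [Subgroup.mem_normalizer_iff] at hn ⊢
        intro c
        have key : ∀ m : G, (∀ a, a ∈ Q.map (MulAut.conj x).toMonoidHom ↔
              m * a * m⁻¹ ∈ Q.map (MulAut.conj x).toMonoidHom) →
            ∀ c, c ∈ Subgroup.centralizer
              ((Q.map (MulAut.conj x).toMonoidHom : Subgroup G) : Set G) →
              m * c * m⁻¹ ∈ Subgroup.centralizer
              ((Q.map (MulAut.conj x).toMonoidHom : Subgroup G) : Set G) := by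
          intro m hm c hc
          rw [Subgroup.mem_centralizer_iff] at hc ⊢
          intro a ha
          have ha' : m⁻¹ * a * m ∈ Q.map (MulAut.conj x).toMonoidHom := by
            rw [hm]
            have e1 : m * (m⁻¹ * a * m) * m⁻¹ = a := by group
            rwa [e1]
          have := hc _ ha'
          calc a * (m * c * m⁻¹) = m * ((m⁻¹ * a * m) * c) * m⁻¹ := by group
            _ = m * (c * (m⁻¹ * a * m)) * m⁻¹ := by rw [this]
            _ = m * c * m⁻¹ * a := by group
        constructor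
        · exact key n hn c
        · intro hc
          have hn' : ∀ a, a ∈ Q.map (MulAut.conj x).toMonoidHom ↔
              n⁻¹ * a * n⁻¹⁻¹ ∈ Q.map (MulAut.conj x).toMonoidHom := by
            intro a
            rw [hn (n⁻¹ * a * n⁻¹⁻¹)]
            have e1 : n * (n⁻¹ * a * n⁻¹⁻¹) * n⁻¹ = a := by group
            rw [e1]
          have := key n⁻¹ hn' _ hc
          have e2 : n⁻¹ * (n * c * n⁻¹) * n⁻¹⁻¹ = c := by group
          rwa [e2] at this
      exact h2 h1
    · intro χ hχ
      have hχ' := (mem_conjBlock_iff' Q x f χ).mp hχ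
      obtain ⟨ψ, hψ, hconj⟩ := (hst y₀ hy₀).2 _ hχ'
      refine ⟨cbIrr Q x ψ, ?_, ?_⟩
      · rw [mem_conjBlock_iff', cbIrr'_cbIrr]
        exact hψ
      · intro k k' hk
        rw [cbIrr_apply]
        have h3 := hconj ((centEquiv Q x).symm k) ((centEquiv Q x).symm k') (by
          show x⁻¹ * (k' : G) * x = y₀ * (x⁻¹ * (k : G) * x) * y₀⁻¹
          rw [hk]
          simp only [MulEquiv.coe_toMonoidHom, MulAut.conj_apply]
          group)
        rw [h3, cbIrr'_apply, MulEquiv.apply_symm_apply]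
  · intro ξ' hξ'
    rw [brauerOmega_conj]
    have h1 : (fun g => subgroupBlockCoeff (Subgroup.centralizer
        ((Q.map (MulAut.conj x).toMonoidHom : Subgroup G) : Set G)) (conjBlock Q x f)
          (x * g * x⁻¹))
        = subgroupBlockCoeff (Subgroup.centralizer (Q : Set G)) f :=
      funext fun g => sbc_conjBlock Q x f g
    rw [h1]
    exact hom (cbIrr' P x ξ') ((mem_conjBlock_iff' P x e ξ').mp hξ')

theorem subpairLE_conj {p : ℕ} (Q P : Subgroup G) (x : G)
    (f : Set (IrrCharacter (Subgroup.centralizer (Q : Set G))))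
    (e : Set (IrrCharacter (Subgroup.centralizer (P : Set G))))
    (h : SubpairLE p M Q f P e) :
    SubpairLE p M (Q.map (MulAut.conj x).toMonoidHom) (conjBlock Q x f)
      (P.map (MulAut.conj x).toMonoidHom) (conjBlock P x e) := by
  unfold SubpairLE at h ⊢
  have key : ∀ a b : BrauerPairIdx G, Relation.ReflTransGen (NormalSubpairRel p M) a b →
      Relation.ReflTransGen (NormalSubpairRel p M)
        (⟨a.1.map (MulAut.conj x).toMonoidHom, conjBlock a.1 x a.2⟩ : BrauerPairIdx G)
        (⟨b.1.map (MulAut.conj x).toMonoidHom, conjBlock b.1 x b.2⟩ : BrauerPairIdx G) := by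
    intro a b hab
    induction hab with
    | refl => exact Relation.ReflTransGen.refl
    | tail _ hbc ih =>
      exact Relation.ReflTransGen.tail ih (isNormalSubpair_conj _ _ x _ _ hbc)
  exact key _ _ h

theorem subpairLE_congr {p : ℕ} (Q : Subgroup G)
    (f : Set (IrrCharacter (Subgroup.centralizer (Q : Set G)))) (P₁ P₂ : Subgroup G)
    (e₁ : Set (IrrCharacter (Subgroup.centralizer (P₁ : Set G))))
    (e₂ : Set (IrrCharacter (Subgroup.centralizer (P₂ : Set G))))
    (h : P₁ = P₂)
    (he : ∀ (ξ₁ : IrrCharacter (Subgroup.centralizer (P₁ : Set G)))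
      (ξ₂ : IrrCharacter (Subgroup.centralizer (P₂ : Set G))),
      (∀ (a : Subgroup.centralizer (P₁ : Set G)) (b : Subgroup.centralizer (P₂ : Set G)),
        (a : G) = (b : G) → (ξ₁ : _ → ℂ) a = (ξ₂ : _ → ℂ) b) → (ξ₁ ∈ e₁ ↔ ξ₂ ∈ e₂))
    (hle : SubpairLE p M Q f P₁ e₁) : SubpairLE p M Q f P₂ e₂ := by
  subst h
  have : e₁ = e₂ := Set.ext fun ξ => he ξ ξ (fun a b hab => by rw [Subtype.ext hab])
  subst this
  exact hle

end ConjPairs

section MaxConj

variable {G : Type u} [Group G] [Fintype G] {M : Ideal AlgInt}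

/-- Every Brauer pair of `B` lies below a maximal Brauer pair of `B`. -/
theorem exists_maximal_above {p : ℕ} (B : Set (IrrCharacter G)) :
    ∀ (n : ℕ) (Q : Subgroup G) (f : Set (IrrCharacter (Subgroup.centralizer (Q : Set G)))),
      IsBrauerPairOf p M B Q f → Nat.card G - Nat.card Q = n →
      ∃ (Q' : Subgroup G) (f' : Set (IrrCharacter (Subgroup.centralizer (Q' : Set G)))),
        IsMaximalBrauerPair p M B Q' f' ∧ SubpairLE p M Q f Q' f' := by
  intro n
  induction n using Nat.strong_induction_on with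
  | _ n ih =>
    intro Q f hQf hn
    by_cases hmax : IsMaximalBrauerPair p M B Q f
    · exact ⟨Q, f, hmax, Relation.ReflTransGen.refl⟩
    · unfold IsMaximalBrauerPair at hmax
      push Not at hmax
      obtain ⟨R, g, hRg, hle, hne⟩ := hmax hQf
      have hQR : Q ≤ R := le_fst hle
      have hlt : Q < R := lt_of_le_of_ne hQR (Ne.symm hne)
      have h1 : Nat.card Q < Nat.card R := card_lt_of_lt' hlt
      have h2 : Nat.card R ≤ Nat.card G := Subgroup.card_le_card_group R
      obtain ⟨Q', f', hmax', hle'⟩ := ih (Nat.card G - Nat.card R) (by omega) R g hRg rfl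
      exact ⟨Q', f', hmax', Relation.ReflTransGen.trans hle hle'⟩

/-- Defect groups of a block are conjugate. -/
theorem defectGroup_conj' {p : ℕ} [hp : Fact p.Prime] (hM : IsPModular p M)
    (χ₀ : IrrCharacter G) (D D' : Subgroup G)
    (hD : IsDefectGroup p M (blockOf M (χ₀ : G → ℂ)) D)
    (hD' : IsDefectGroup p M (blockOf M (χ₀ : G → ℂ)) D') :
    ∃ x : G, D' = D.map (MulAut.conj x).toMonoidHom := by
  have hc := card_defectGroup hM χ₀ D hD
  have hc' := card_defectGroup hM χ₀ D' hD'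
  have hD'p : IsPGroup p D' := isPGroup_of_isDefectGroup hD'
  obtain ⟨g, hg, S, rfl⟩ := hD
  obtain ⟨g', hg', S', hS'⟩ := id hD'
  have hle' : D' ≤ Subgroup.centralizer ({g'} : Set G) := by
    rw [hS']
    rintro _ ⟨s, _, rfl⟩
    exact s.2
  obtain ⟨x, hx⟩ := minmax_support hM χ₀ g hg S g' hg'.2.1 D' hD'p hle'
  refine ⟨x, ?_⟩
  apply Subgroup.eq_of_le_of_card_ge hx
  rw [Subgroup.card_map_of_injective (MulAut.conj x).injective, hc, hc']

end MaxConj

section Cover

variable {G : Type u} [Group G] [Fintype G] {M : Ideal AlgInt}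

/-- The block of `N_G(P)` covering the block `e` of a `B`-pair `(P, e)` induces `B`, and its
defect groups contain `P`. -/
theorem exists_cover_induced {p : ℕ} [hp : Fact p.Prime] (hM : IsPModular p M)
    (χ₀ : IrrCharacter G) (P : Subgroup G)
    [Fintype (Subgroup.normalizer (P : Set G))] [Fintype (Subgroup.centralizer (P : Set G))]
    [Fintype ((Subgroup.centralizer (P : Set G)).subgroupOf (Subgroup.normalizer (P : Set G)))]
    (ξ : IrrCharacter (Subgroup.centralizer (P : Set G)))
    (hBe : IsBrauerPairOf p M (blockOf M (χ₀ : G → ℂ)) P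
      (blockOf M (ξ : Subgroup.centralizer (P : Set G) → ℂ))) :
    ∃ ζ : IrrCharacter (Subgroup.normalizer (P : Set G)),
      classInner (fun k : (Subgroup.centralizer (P : Set G)).subgroupOf
          (Subgroup.normalizer (P : Set G)) => (ζ : Subgroup.normalizer (P : Set G) → ℂ) k)
        (fun k => (ξ : Subgroup.centralizer (P : Set G) → ℂ)
          (Subgroup.subgroupOfEquivOfLe (Subgroup.centralizer_le_normalizer (P : Set G)) k)) ≠ 0 ∧
      IsInducedBlock M (Subgroup.normalizer (P : Set G))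
        (blockOf M (ζ : Subgroup.normalizer (P : Set G) → ℂ)) (blockOf M (χ₀ : G → ℂ)) ∧
      ∀ Db : Subgroup (Subgroup.normalizer (P : Set G)),
        IsDefectGroup p M (blockOf M (ζ : Subgroup.normalizer (P : Set G) → ℂ)) Db →
        P.subgroupOf (Subgroup.normalizer (P : Set G)) ≤ Db := by
  classical
  have hMm := hM.2.1
  have hHN : Subgroup.centralizer (P : Set G) ≤ Subgroup.normalizer (P : Set G) :=
    Subgroup.centralizer_le_normalizer _
  have hNH : Subgroup.normalizer (P : Set G) ≤ Subgroup.normalizer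
      ((Subgroup.centralizer (P : Set G) : Subgroup G) : Set G) :=
    normalizer_le_normalizer_centralizer P
  have hP : IsPGroup p P := hBe.1.1
  haveI hKn : ((Subgroup.centralizer (P : Set G)).subgroupOf
      (Subgroup.normalizer (P : Set G))).Normal :=
    (Subgroup.normal_subgroupOf_iff_le_normalizer hHN).mpr hNH
  haveI hPn : (P.subgroupOf (Subgroup.normalizer (P : Set G))).Normal :=
    (Subgroup.normal_subgroupOf_iff_le_normalizer Subgroup.le_normalizer).mpr le_rfl
  have hPXp : IsPGroup p (P.subgroupOf (Subgroup.normalizer (P : Set G))) :=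
    hP.comap_of_injective (Subgroup.normalizer (P : Set G)).subtype
      (Subgroup.subtype_injective _)
  have hCK : Subgroup.centralizer
      ((P.subgroupOf (Subgroup.normalizer (P : Set G)) :
        Subgroup (Subgroup.normalizer (P : Set G))) : Set (Subgroup.normalizer (P : Set G)))
      ≤ (Subgroup.centralizer (P : Set G)).subgroupOf (Subgroup.normalizer (P : Set G)) := by
    intro x hx
    rw [Subgroup.mem_subgroupOf, Subgroup.mem_centralizer_iff]
    intro y hy
    have := hx ⟨y, Subgroup.le_normalizer hy⟩ (Subgroup.mem_subgroupOf.mpr hy)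
    exact congrArg Subtype.val this
  have hξX : IsIrrCharacter ((Subgroup.centralizer (P : Set G)).subgroupOf
      (Subgroup.normalizer (P : Set G)))
      (fun k => (ξ : Subgroup.centralizer (P : Set G) → ℂ)
        (Subgroup.subgroupOfEquivOfLe hHN k)) :=
    IsIrrCharacter.comp_mulEquiv ξ.2 (Subgroup.subgroupOfEquivOfLe hHN)
  obtain ⟨ζ, hζ⟩ := exists_over ((Subgroup.centralizer (P : Set G)).subgroupOf
      (Subgroup.normalizer (P : Set G))) hξX
  refine ⟨ζ, hζ, ?_, ?_⟩
  · refine ⟨⟨ζ, rfl⟩, ⟨χ₀, rfl⟩, ?_⟩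
    intro ζ' hζ' χ hχ g
    have h1 := inducedCentralChar_sub_mem hMm (Subgroup.normalizer (P : Set G)) ζ'.2 ζ.2
      (sameBlock_symm hMm hζ') g
    have h2 := induced_trans hMm (Subgroup.centralizer (P : Set G))
      (Subgroup.normalizer (P : Set G)) hHN (ξ : Subgroup.centralizer (P : Set G) → ℂ)
      (IsCharacter.isClassFunction (IsIrrCharacter.isCharacter ζ.2))
      (fun n => induced_sub_centralChar_of_over hM
        (P.subgroupOf (Subgroup.normalizer (P : Set G)))
        ((Subgroup.centralizer (P : Set G)).subgroupOf (Subgroup.normalizer (P : Set G)))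
        hPXp hCK ζ ⟨_, hξX⟩ hζ n) g
    have h3 := induced_of_brauerPairOf hM _ P _ hBe ξ (self_mem_blockOf hMm ξ) χ hχ g
    have := memLocalIdeal_add hMm (memLocalIdeal_sub hMm h1 h2) h3
    have e1 : ∀ a b c d : ℂ, a - b - (c - b) + (c - d) = a - d := fun a b c d => by ring
    rwa [e1] at this
  · intro Db hDb
    exact normal_pSubgroup_le_defectGroup hM (P.subgroupOf (Subgroup.normalizer (P : Set G)))
      hPXp ζ Db hDb

/-- On a defect group, the Brauer pairs of `B` are conjugate under the normalizer. -/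
theorem eq_cjSet_of_defect {p : ℕ} [hp : Fact p.Prime] (hM : IsPModular p M)
    (χ₀ : IrrCharacter G) (P : Subgroup G)
    (hPd : IsDefectGroup p M (blockOf M (χ₀ : G → ℂ)) P)
    (e e' : Set (IrrCharacter (Subgroup.centralizer (P : Set G))))
    (he : IsBrauerPairOf p M (blockOf M (χ₀ : G → ℂ)) P e)
    (he' : IsBrauerPairOf p M (blockOf M (χ₀ : G → ℂ)) P e') :
    ∃ n : Subgroup.normalizer (P : Set G),
      e' = cjSet (Subgroup.normalizer (P : Set G)) (Subgroup.centralizer (P : Set G))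
        (normalizer_le_normalizer_centralizer P) n e := by
  classical
  have hMm := hM.2.1
  haveI : Fintype (Subgroup.normalizer (P : Set G)) := Fintype.ofFinite _
  haveI : Fintype (Subgroup.centralizer (P : Set G)) := Fintype.ofFinite _
  haveI : Fintype ((Subgroup.centralizer (P : Set G)).subgroupOf
    (Subgroup.normalizer (P : Set G))) := Fintype.ofFinite _
  have hHN : Subgroup.centralizer (P : Set G) ≤ Subgroup.normalizer (P : Set G) :=
    Subgroup.centralizer_le_normalizer _
  have hNH : Subgroup.normalizer (P : Set G) ≤ Subgroup.normalizer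
      ((Subgroup.centralizer (P : Set G) : Subgroup G) : Set G) :=
    normalizer_le_normalizer_centralizer P
  have hP : IsPGroup p P := he.1.1
  obtain ⟨ξ, rfl⟩ := he.1.2
  obtain ⟨ξ', rfl⟩ := he'.1.2
  obtain ⟨ζ, hζ, hind, hPle⟩ := exists_cover_induced hM χ₀ P ξ he
  obtain ⟨ζ', hζ', hind', _⟩ := exists_cover_induced hM χ₀ P ξ' he'
  -- the defect group of the block of `ζ`
  obtain ⟨g', hg'⟩ := exists_defectClass hMm ζ
  obtain ⟨S⟩ : Nonempty (Sylow p (Subgroup.centralizer
    ({g'} : Set (Subgroup.normalizer (P : Set G))))) := inferInstance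
  have hDb : IsDefectGroup p M (blockOf M (ζ : Subgroup.normalizer (P : Set G) → ℂ))
      ((S : Subgroup _).map (Subgroup.centralizer
        ({g'} : Set (Subgroup.normalizer (P : Set G)))).subtype) := ⟨g', hg', S, rfl⟩
  set Db := (S : Subgroup _).map (Subgroup.centralizer
        ({g'} : Set (Subgroup.normalizer (P : Set G)))).subtype with hDbdef
  have hPD := hPle Db hDb
  obtain ⟨E, hE, hDE⟩ := defectGroup_le_of_induced hM (Subgroup.normalizer (P : Set G)) _ _
    hind Db hDb
  have hcE := card_defectGroup hM χ₀ E hE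
  have hcP := card_defectGroup hM χ₀ P hPd
  have hc1 : Nat.card Db ≤ Nat.card E := by
    rw [← Subgroup.card_map_of_injective (Subgroup.subtype_injective
      (Subgroup.normalizer (P : Set G)))]
    exact Subgroup.card_le_of_le hDE
  have hcard2 : Nat.card (P.subgroupOf (Subgroup.normalizer (P : Set G))) = Nat.card P :=
    Nat.card_congr (Subgroup.subgroupOfEquivOfLe
      (Subgroup.le_normalizer : P ≤ Subgroup.normalizer (P : Set G))).toEquiv
  have hDbeq : P.subgroupOf (Subgroup.normalizer (P : Set G)) = Db := by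
    apply Subgroup.eq_of_le_of_card_ge hPD
    rw [hcard2, hcP, ← hcE]
    exact hc1
  rw [← hDbeq] at hDb
  have hmem := firstMain_unique P hM hP ζ ζ' χ₀ hind hind' hDb
  have h1 := om_eps_of_mem_block (Subgroup.normalizer (P : Set G))
    (Subgroup.centralizer (P : Set G)) hNH hHN hM ξ ζ hζ ζ' hmem
  have hξ'X : IsIrrCharacter ((Subgroup.centralizer (P : Set G)).subgroupOf
      (Subgroup.normalizer (P : Set G)))
      (fun k => (ξ' : Subgroup.centralizer (P : Set G) → ℂ)
        (Subgroup.subgroupOfEquivOfLe hHN k)) :=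
    IsIrrCharacter.comp_mulEquiv ξ'.2 (Subgroup.subgroupOfEquivOfLe hHN)
  have h2 := om_eps (Subgroup.normalizer (P : Set G))
    (Subgroup.centralizer (P : Set G)) hNH hHN
    (blockOf M (ξ : Subgroup.centralizer (P : Set G) → ℂ)) ζ'.2 hξ'X hζ'
  have e1 : (fun h : Subgroup.centralizer (P : Set G) =>
      (ξ' : Subgroup.centralizer (P : Set G) → ℂ) (Subgroup.subgroupOfEquivOfLe hHN
        ((Subgroup.subgroupOfEquivOfLe hHN).symm h)))
      = (ξ' : Subgroup.centralizer (P : Set G) → ℂ) := by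
    funext h
    rw [MulEquiv.apply_symm_apply]
  rw [e1, sum_memB_orb (Subgroup.normalizer (P : Set G))
    (Subgroup.centralizer (P : Set G)) hNH hMm ξ ξ', h1] at h2
  split_ifs at h2 with hc
  · obtain ⟨β, hβ, hξ'β⟩ := hc
    obtain ⟨n, hn⟩ := (mem_orb (Subgroup.normalizer (P : Set G))
      (Subgroup.centralizer (P : Set G)) hNH _ β).mp hβ
    refine ⟨n, ?_⟩
    rw [hn]
    exact (orb_eq_blockOf_of_mem (Subgroup.normalizer (P : Set G))
      (Subgroup.centralizer (P : Set G)) hNH hMm ξ β hβ ξ' hξ'β).symm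
  · exact absurd h2 one_ne_zero

end Cover

section Final

variable {G : Type u} [Group G] [Fintype G] {M : Ideal AlgInt}

/-- **Conjugacy of maximal Brauer pairs**: every Brauer pair of `B` is conjugate to a pair below
a given maximal pair of `B`. -/
theorem maximal_pairs_conj {p : ℕ} [hp : Fact p.Prime] (hM : IsPModular p M)
    (B : Set (IrrCharacter G)) (P Q : Subgroup G)
    (e : Set (IrrCharacter (Subgroup.centralizer (P : Set G))))
    (f : Set (IrrCharacter (Subgroup.centralizer (Q : Set G))))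
    (hmax : IsMaximalBrauerPair p M B P e) (hQf : IsBrauerPairOf p M B Q f) :
    ∃ x : G, SubpairLE p M (Q.map (MulAut.conj x).toMonoidHom) (conjBlock Q x f) P e := by
  classical
  have hMm := hM.2.1
  obtain ⟨Q', f', hmax', hle⟩ := exists_maximal_above (p := p) (M := M) B _ Q f hQf rfl
  obtain ⟨χ₀, rfl⟩ := hmax.1.2.1
  have hPd := maximal_pair_defect hM _ P e hmax
  have hQ'd := maximal_pair_defect hM _ Q' f' hmax'
  obtain ⟨x, hx⟩ := defectGroup_conj' hM χ₀ Q' P hQ'd hPd
  subst hx
  have hB' : IsBrauerPairOf p M (blockOf M (χ₀ : G → ℂ))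
      (Q'.map (MulAut.conj x).toMonoidHom) (conjBlock Q' x f') :=
    isBrauerPairOf_conj _ Q' x f' hmax'.1
  obtain ⟨n, hn⟩ := eq_cjSet_of_defect hM χ₀ _ hPd (conjBlock Q' x f') e hB' hmax.1
  refine ⟨(n : G) * x, ?_⟩
  have h1 := subpairLE_conj Q Q' ((n : G) * x) f f' hle
  have hn' : ∀ a : G, a ∈ Q'.map (MulAut.conj x).toMonoidHom ↔
      (n : G) * a * (n : G)⁻¹ ∈ Q'.map (MulAut.conj x).toMonoidHom :=
    Subgroup.mem_normalizer_iff.mp n.2
  have hPeq : Q'.map (MulAut.conj ((n : G) * x)).toMonoidHom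
      = Q'.map (MulAut.conj x).toMonoidHom := by
    ext a
    rw [mem_map_conj'']
    have h2 := hn' ((n : G)⁻¹ * a * (n : G))
    have e1 : (n : G) * ((n : G)⁻¹ * a * (n : G)) * (n : G)⁻¹ = a := by group
    rw [e1] at h2
    rw [← h2, mem_map_conj'']
    have e2 : ((n : G) * x)⁻¹ * a * ((n : G) * x) = x⁻¹ * ((n : G)⁻¹ * a * (n : G)) * x := by
      group
    rw [e2]
  apply subpairLE_congr _ _ _ _ _ _ hPeq ?_ h1
  intro ξ₁ ξ₂ hag
  rw [mem_conjBlock_iff', hn, mem_cjSet_iff, mem_conjBlock_iff']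
  have hh : cbIrr' Q' ((n : G) * x) ξ₁
      = cbIrr' Q' x (cjIrr (Subgroup.normalizer
          ((Q'.map (MulAut.conj x).toMonoidHom : Subgroup G) : Set G))
        (Subgroup.centralizer ((Q'.map (MulAut.conj x).toMonoidHom : Subgroup G) : Set G))
        (normalizer_le_normalizer_centralizer _) n⁻¹ ξ₂) := by
    apply Subtype.ext
    funext c
    rw [cbIrr'_apply, cbIrr'_apply, cjIrr_apply]
    apply hag
    rw [cj_symm_coe, centEquiv_coe, centEquiv_coe]
    simp only [Subgroup.coe_inv]
    group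
  rw [hh]

end Final

end Cfsg.Agent.Lib.Helper2_BrauerConjMax
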