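import Mathlib
import Cfsg.Prelude.Def_Characters
import Cfsg.Prelude.Def_Blocks
import Cfsg.Prelude.Def_BlockRank
import Cfsg.Prelude.Def_BlockLocal
import Cfsg.Prelude.Def_BrauerPairs
import Cfsg.Agent.Lib.Helper2_ClassFn
import Cfsg.Agent.Lib.Helper2_CharBasic
import Cfsg.Agent.Lib.Helper2_CharOrtho
import Cfsg.Agent.Lib.Helper2_Clifford
import Cfsg.Agent.Lib.Helper2_CharMore
import Cfsg.Agent.Lib.Helper2_CharDeg
import Cfsg.Agent.Lib.Helper2_CharInd
import Cfsg.Agent.Lib.Helper2_CharExtra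
import Cfsg.Agent.Lib.Helper2_CharInt
import Cfsg.Agent.Lib.Helper2_CharValues
import Cfsg.Agent.Lib.Helper2_CharSum
import Cfsg.Agent.Lib.Helper2_CharComplete
import Cfsg.Agent.Lib.Helper2_CharTable
import Cfsg.Agent.Lib.Helper2_CharCentral
import Cfsg.Agent.Lib.Helper2_ModM
import Cfsg.Agent.Lib.Helper2_Blocks
import Cfsg.Agent.Lib.Helper2_BlockOrtho
import Cfsg.Agent.Lib.Helper2_BlockMore
import Cfsg.Agent.Lib.Helper2_DefectGroup
import Cfsg.Agent.Lib.Helper2_DefectPCore
import Cfsg.Agent.Lib.Helper2_MinMax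
import Cfsg.Agent.Lib.Helper2_InducedBlock
import Cfsg.Agent.Lib.Helper2_BrauerMap
import Cfsg.Agent.Lib.Helper2_InducedDefect
import Cfsg.Agent.Lib.Helper2_BrauerFirst
import Cfsg.Agent.Lib.Helper2_BrauerConverse
import Cfsg.Agent.Lib.Helper2_SylowConj
import Cfsg.Agent.Lib.Helper2_BlockCover
import Cfsg.Agent.Lib.Helper2_BlockConj
import Cfsg.Agent.Lib.Helper2_FirstMain
import Cfsg.Agent.Lib.Helper2_BlockNormal
import Cfsg.Agent.Lib.Helper2_BlockCount
import Cfsg.Agent.Lib.Helper2_BlockCount2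
import Cfsg.Agent.Lib.Helper2_BlockKer
import Cfsg.Agent.Lib.Helper2_PRegCount
import Cfsg.Agent.Lib.Helper2_ExtFirstMain
import Cfsg.Agent.Lib.Helper2_ThirdMain
import Cfsg.Agent.Lib.Helper2_Fong
import Cfsg.Agent.Lib.Helper2_BrauerPairs
import Cfsg.Agent.Lib.Helper2_BrauerInv
import Cfsg.Agent.Lib.Helper2_Conj
import Cfsg.Agent.Lib.Helper2_BrauerChain
import Cfsg.Agent.Lib.Helper2_BrauerPrincipal
import Cfsg.Agent.Lib.Helper2_BrauerMax
import Cfsg.Agent.Lib.Helper2_BrauerConjMax


set_option autoImplicit false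

/-!
# Local structure of Brauer pairs below a maximal pair
-/

namespace Cfsg.Agent.Lib.Helper2_BrauerLocal

open Cfsg
open Cfsg.Agent.Lib.Helper2_ClassFn
open Cfsg.Agent.Lib.Helper2_CharBasic
open Cfsg.Agent.Lib.Helper2_CharOrtho
open Cfsg.Agent.Lib.Helper2_Clifford
open Cfsg.Agent.Lib.Helper2_CharMore
open Cfsg.Agent.Lib.Helper2_CharDeg
open Cfsg.Agent.Lib.Helper2_CharInd
open Cfsg.Agent.Lib.Helper2_CharExtra
open Cfsg.Agent.Lib.Helper2_CharValues
open Cfsg.Agent.Lib.Helper2_CharSum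
open Cfsg.Agent.Lib.Helper2_CharComplete
open Cfsg.Agent.Lib.Helper2_CharTable
open Cfsg.Agent.Lib.Helper2_CharCentral
open Cfsg.Agent.Lib.Helper2_ModM
open Cfsg.Agent.Lib.Helper2_Blocks
open Cfsg.Agent.Lib.Helper2_BlockOrtho
open Cfsg.Agent.Lib.Helper2_BlockMore
open Cfsg.Agent.Lib.Helper2_DefectGroup
open Cfsg.Agent.Lib.Helper2_DefectPCore
open Cfsg.Agent.Lib.Helper2_MinMax
open Cfsg.Agent.Lib.Helper2_InducedBlock
open Cfsg.Agent.Lib.Helper2_BrauerMap
open Cfsg.Agent.Lib.Helper2_InducedDefect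
open Cfsg.Agent.Lib.Helper2_BrauerFirst
open Cfsg.Agent.Lib.Helper2_BrauerConverse
open Cfsg.Agent.Lib.Helper2_SylowConj
open Cfsg.Agent.Lib.Helper2_BlockCover
open Cfsg.Agent.Lib.Helper2_BlockConj
open Cfsg.Agent.Lib.Helper2_FirstMain
open Cfsg.Agent.Lib.Helper2_BlockNormal
open Cfsg.Agent.Lib.Helper2_BlockCount
open Cfsg.Agent.Lib.Helper2_BlockCount2
open Cfsg.Agent.Lib.Helper2_BlockKer
open Cfsg.Agent.Lib.Helper2_PRegCount
open Cfsg.Agent.Lib.Helper2_ExtFirstMain
open Cfsg.Agent.Lib.Helper2_ThirdMain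
open Cfsg.Agent.Lib.Helper2_Fong
open Cfsg.Agent.Lib.Helper2_BrauerPairs
open Cfsg.Agent.Lib.Helper2_BrauerInv
open Cfsg.Agent.Lib.Helper2_BrauerChain
open Cfsg.Agent.Lib.Helper2_BrauerPrincipal
open Cfsg.Agent.Lib.Helper2_BrauerMax
open Cfsg.Agent.Lib.Helper2_BrauerConjMax
open scoped ComplexConjugate

universe u

section LocalA

variable {G : Type u} [Group G] [Fintype G] {M : Ideal AlgInt}

/-- An inclusion of pairs on subgroups `Q ⊴ R` is a normal inclusion. -/
theorem normal_of_le {p : ℕ} [hp : Fact p.Prime] (hM : IsPModular p M) (Q R : Subgroup G)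
    (f : Set (IrrCharacter (Subgroup.centralizer (Q : Set G))))
    (g : Set (IrrCharacter (Subgroup.centralizer (R : Set G))))
    (hle : SubpairLE p M Q f R g) (hRg : IsBrauerPair p M R g)
    (hRN : R ≤ Subgroup.normalizer (Q : Set G)) : IsNormalSubpair p M Q f R g := by
  have hQR : Q ≤ R := le_fst hle
  obtain ⟨f₀, hf₀, _⟩ := existsUnique_normalSubpair hM R Q g hRg hQR hRN
  have : f = f₀ := unique_le hM _ R g hRg Q f f₀ rfl hle (Relation.ReflTransGen.single hf₀)
  rw [this]
  exact hf₀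

/-- **`C_P(Q)` lies in a defect group of the local block.** -/
theorem centralizer_le_defect {p : ℕ} [hp : Fact p.Prime] (hM : IsPModular p M)
    (P Q : Subgroup G) (e : Set (IrrCharacter (Subgroup.centralizer (P : Set G))))
    (f : Set (IrrCharacter (Subgroup.centralizer (Q : Set G))))
    (hPe : IsBrauerPair p M P e) (hle : SubpairLE p M Q f P e) :
    ∃ D : Subgroup (Subgroup.centralizer (Q : Set G)), IsDefectGroup p M f D ∧
      (P ⊓ Subgroup.centralizer (Q : Set G)).subgroupOf (Subgroup.centralizer (Q : Set G)) ≤ D := by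
  classical
  haveI : Fintype (Subgroup.centralizer (Q : Set G)) := Fintype.ofFinite _
  have hMm := hM.2.1
  have hQP : Q ≤ P := le_fst hle
  have hQf : IsBrauerPair p M Q f := isBrauerPair_of_le hle hPe
  have hLN : Subgroup.centralizer (Q : Set G) ≤ Subgroup.normalizer (Q : Set G) :=
    Subgroup.centralizer_le_normalizer _
  set R : Subgroup G := Q ⊔ (P ⊓ Subgroup.centralizer (Q : Set G)) with hR
  have hRP : R ≤ P := sup_le hQP inf_le_left
  have hRN : R ≤ Subgroup.normalizer (Q : Set G) :=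
    sup_le Subgroup.le_normalizer (inf_le_right.trans hLN)
  obtain ⟨g, hg⟩ := exists_le hM _ P e hPe R hRP rfl
  have hRg : IsBrauerPair p M R g := isBrauerPair_of_le hg hPe
  obtain ⟨f₁, hf₁⟩ := exists_le hM _ R g hRg Q le_sup_left rfl
  have hff : f = f₁ := unique_le hM _ P e hPe Q f f₁ rfl hle (hf₁.trans hg)
  subst hff
  have hn := normal_of_le hM Q R f g hf₁ hRg hRN
  obtain ⟨ξ', hgeq⟩ := hRg.2
  have hξ'g : ξ' ∈ g := hgeq ▸ self_mem_blockOf hMm ξ'
  have hom := hn.2.2.2.2.2 ξ' hξ'g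
  have hCRL : Subgroup.centralizer (R : Set G) ≤ Subgroup.centralizer (Q : Set G) :=
    Subgroup.centralizer_le (le_sup_left : Q ≤ R)
  have hex : ∃ c : G, c ∈ Subgroup.centralizer (R : Set G) ∧
      ¬ MemLocalIdeal M (subgroupBlockCoeff (Subgroup.centralizer (Q : Set G)) f c) := by
    by_contra hcon
    push Not at hcon
    haveI : Fintype (Subgroup.centralizer (R : Set G)) := Fintype.ofFinite _
    rw [brauerOmega_eq_om] at hom
    have hcf : IsClassFunction (Subgroup.centralizer (R : Set G))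
        (fun h : Subgroup.centralizer (R : Set G) =>
          subgroupBlockCoeff (Subgroup.centralizer (Q : Set G)) f (h : G)) := by
      intro h t
      show subgroupBlockCoeff (Subgroup.centralizer (Q : Set G)) f ((t * h * t⁻¹ : _) : G)
        = subgroupBlockCoeff (Subgroup.centralizer (Q : Set G)) f (h : G)
      rw [subgroupBlockCoeff_of_mem _ f _ (hCRL (t * h * t⁻¹).2),
        subgroupBlockCoeff_of_mem _ f _ (hCRL h.2)]
      exact blockCoeff_isClassFunction f ⟨h, hCRL h.2⟩ ⟨t, hCRL t.2⟩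
    have h1 := memLocalIdeal_om hMm ξ'.2 hcf (fun h => hcon h h.2)
    have := memLocalIdeal_sub hMm h1 hom
    rw [sub_sub_cancel] at this
    exact not_memLocalIdeal_one hMm this
  obtain ⟨c, hcR, hcu⟩ := hex
  have hcL : c ∈ Subgroup.centralizer (Q : Set G) := hCRL hcR
  rw [subgroupBlockCoeff_of_mem _ f c hcL] at hcu
  obtain ⟨ξ, rfl⟩ := hQf.2
  obtain ⟨g₀, hg₀⟩ := exists_defectClass hMm ξ
  obtain ⟨S⟩ : Nonempty (Sylow p (Subgroup.centralizer
    ({g₀} : Set (Subgroup.centralizer (Q : Set G))))) := inferInstance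
  have hE : IsPGroup p ((P ⊓ Subgroup.centralizer (Q : Set G)).subgroupOf
      (Subgroup.centralizer (Q : Set G))) :=
    (hPe.1.to_le inf_le_left).comap_of_injective _ (Subgroup.subtype_injective _)
  have hEc : (P ⊓ Subgroup.centralizer (Q : Set G)).subgroupOf
      (Subgroup.centralizer (Q : Set G))
      ≤ Subgroup.centralizer ({⟨c, hcL⟩} : Set (Subgroup.centralizer (Q : Set G))) := by
    intro y hy
    rw [Subgroup.mem_centralizer_singleton_iff]
    have hyR : (y : G) ∈ R := (le_sup_right : P ⊓ Subgroup.centralizer (Q : Set G) ≤ R)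
      (Subgroup.mem_subgroupOf.mp hy)
    have := Subgroup.mem_centralizer_iff.mp hcR (y : G) hyR
    exact Subtype.ext this
  obtain ⟨x, hx⟩ := minmax_support hM ξ g₀ hg₀ S ⟨c, hcL⟩ hcu _ hE hEc
  exact ⟨_, isDefectGroup_conj ⟨g₀, hg₀, S, rfl⟩ x, hx⟩

end LocalA

section LocalB

variable {G : Type u} [Group G] [Fintype G] {M : Ideal AlgInt}

/-- Elements of `N` acting on `H` as inner automorphisms of `H` fix all characters. -/
theorem cjIrr_eq_self_of_inner (N H : Subgroup G) (hNH : N ≤ Subgroup.normalizer (H : Set G))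
    (d : N) (l : H) (hl : ∀ h : H, (d : G)⁻¹ * (h : G) * (d : G) = ((l⁻¹ * h * l : H) : G))
    (χ : IrrCharacter H) : cjIrr N H hNH d χ = χ := by
  apply Subtype.ext
  funext h
  rw [cjIrr_apply]
  have e1 : (cj N H hNH d).symm h = l⁻¹ * h * l⁻¹⁻¹ := by
    apply Subtype.ext
    rw [cj_symm_coe, hl h, inv_inv]
  rw [e1]
  exact IsCharacter.isClassFunction (IsIrrCharacter.isCharacter χ.2) h l⁻¹

theorem cjSet_eq_self_of_inner (N H : Subgroup G) (hNH : N ≤ Subgroup.normalizer (H : Set G))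
    (d : N) (l : H) (hl : ∀ h : H, (d : G)⁻¹ * (h : G) * (d : G) = ((l⁻¹ * h * l : H) : G))
    (f : Set (IrrCharacter H)) : cjSet N H hNH d f = f := by
  unfold cjSet
  have : cjIrr N H hNH d = id := funext fun χ => cjIrr_eq_self_of_inner N H hNH d l hl χ
  rw [this, Set.image_id]

/-- The stabilizer of a set of characters, as a subgroup. -/
def stabSub (N H : Subgroup G) (hNH : N ≤ Subgroup.normalizer (H : Set G))
    (f : Set (IrrCharacter H)) : Subgroup G where
  carrier := {y | ∃ hy : y ∈ N, cjSet N H hNH ⟨y, hy⟩ f = f}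
  mul_mem' := by
    rintro a b ⟨ha, ha'⟩ ⟨hb, hb'⟩
    refine ⟨N.mul_mem ha hb, ?_⟩
    have : (⟨a * b, N.mul_mem ha hb⟩ : N) = ⟨a, ha⟩ * ⟨b, hb⟩ := rfl
    rw [this, cjSet_mul, hb', ha']
  one_mem' := ⟨N.one_mem, by
    have : (⟨1, N.one_mem⟩ : N) = 1 := rfl
    rw [this, cjSet_one]⟩
  inv_mem' := by
    rintro a ⟨ha, ha'⟩
    refine ⟨N.inv_mem ha, ?_⟩
    have : (⟨a⁻¹, N.inv_mem ha⟩ : N) = (⟨a, ha⟩ : N)⁻¹ := rfl
    rw [this]
    have h2 := cjSet_inv_cjSet N H hNH ⟨a, ha⟩ f
    rwa [ha'] at h2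

theorem stabilizes_of_mem_sup (Q : Subgroup G)
    (f : Set (IrrCharacter (Subgroup.centralizer (Q : Set G)))) (y : G)
    (hy : y ∈ Q ⊔ Subgroup.centralizer (Q : Set G)) :
    StabilizesBlock (Subgroup.centralizer (Q : Set G)) f y := by
  haveI : Fintype (Subgroup.normalizer (Q : Set G)) := Fintype.ofFinite _
  have hNL := normalizer_le_normalizer_centralizer Q
  have hle : Q ⊔ Subgroup.centralizer (Q : Set G)
      ≤ stabSub (Subgroup.normalizer (Q : Set G)) (Subgroup.centralizer (Q : Set G)) hNL f := by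
    apply sup_le
    · intro q hq
      refine ⟨Subgroup.le_normalizer hq, ?_⟩
      apply cjSet_eq_self_of_inner _ _ hNL _ 1
      intro h
      have := Subgroup.mem_centralizer_iff.mp h.2 q hq
      simp only [inv_one, one_mul, mul_one]
      show q⁻¹ * (h : G) * q = (h : G)
      rw [mul_assoc, ← this, inv_mul_cancel_left]
    · intro l hl
      refine ⟨Subgroup.centralizer_le_normalizer _ hl, ?_⟩
      apply cjSet_eq_self_of_inner _ _ hNL _ ⟨l, hl⟩
      intro h
      rfl
  obtain ⟨hyN, hyf⟩ := hle hy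
  exact stabilizesBlock_of_cjSet_eq _ _ hNL f ⟨y, hyN⟩ hyf

theorem blockDefect_conjBlock (p : ℕ) (Q : Subgroup G) (x : G)
    (f : Set (IrrCharacter (Subgroup.centralizer (Q : Set G)))) :
    blockDefect p (conjBlock Q x f) = blockDefect p f := by
  unfold blockDefect
  rw [Nat.card_congr (centEquiv Q x).toEquiv.symm]
  congr 2
  rw [conjBlock_eq_image, Set.image_image]
  congr 1
  funext ξ
  unfold charDegree
  rw [cbIrr_apply, map_one]

end LocalB

section LocalC

variable {G : Type u} [Group G] [Fintype G] {M : Ideal AlgInt}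

/-- **Some conjugate of `(Q, f)` below `(P, e)` has `C_P(Q)` as a defect group.** -/
theorem exists_conj_defect {p : ℕ} [hp : Fact p.Prime] (hM : IsPModular p M)
    (B : Set (IrrCharacter G)) (P Q : Subgroup G)
    (e : Set (IrrCharacter (Subgroup.centralizer (P : Set G))))
    (f : Set (IrrCharacter (Subgroup.centralizer (Q : Set G))))
    (hmax : IsMaximalBrauerPair p M B P e) (hle : SubpairLE p M Q f P e) :
    ∃ x : G, SubpairLE p M (Q.map (MulAut.conj x).toMonoidHom) (conjBlock Q x f) P e ∧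
      IsDefectGroup p M (conjBlock Q x f)
        ((P ⊓ Subgroup.centralizer ((Q.map (MulAut.conj x).toMonoidHom : Subgroup G) : Set G)).subgroupOf
          (Subgroup.centralizer ((Q.map (MulAut.conj x).toMonoidHom : Subgroup G) : Set G))) := by
  classical
  haveI : Fintype (Subgroup.centralizer (Q : Set G)) := Fintype.ofFinite _
  have hMm := hM.2.1
  have hPe := hmax.1.1
  have hB := hmax.1.2.1
  have hQf : IsBrauerPair p M Q f := isBrauerPair_of_le hle hPe
  have hQfB : IsBrauerPairOf p M B Q f :=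
    (brauerPairOf_iff_of_le hM B hB ⟨Q, f⟩ ⟨P, e⟩ hle).mp hmax.1
  obtain ⟨ξ, rfl⟩ := hQf.2
  obtain ⟨g₀, hg₀⟩ := exists_defectClass hMm ξ
  obtain ⟨S⟩ : Nonempty (Sylow p (Subgroup.centralizer
    ({g₀} : Set (Subgroup.centralizer (Q : Set G))))) := inferInstance
  have hDdef : IsDefectGroup p M (blockOf M (ξ : Subgroup.centralizer (Q : Set G) → ℂ))
      ((S : Subgroup _).map (Subgroup.centralizer
        ({g₀} : Set (Subgroup.centralizer (Q : Set G)))).subtype) := ⟨g₀, hg₀, S, rfl⟩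
  set D := (S : Subgroup _).map (Subgroup.centralizer
        ({g₀} : Set (Subgroup.centralizer (Q : Set G)))).subtype with hDeq
  set DG : Subgroup G := D.map (Subgroup.centralizer (Q : Set G)).subtype with hDG
  have hDGL : DG ≤ Subgroup.centralizer (Q : Set G) := by
    rintro _ ⟨d, _, rfl⟩
    exact d.2
  have hDGp : IsPGroup p DG := (isPGroup_of_isDefectGroup hDdef).map _
  have hLN : Subgroup.centralizer (Q : Set G) ≤ Subgroup.normalizer (Q : Set G) :=
    Subgroup.centralizer_le_normalizer _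
  set R : Subgroup G := Q ⊔ DG with hR
  have hRp : IsPGroup p R := hQf.1.to_sup_of_normal_left' hDGp (hDGL.trans hLN)
  have hQR : Q ≤ R := le_sup_left
  have hRN : R ≤ Subgroup.normalizer (Q : Set G) :=
    sup_le Subgroup.le_normalizer (hDGL.trans hLN)
  have hst : ∀ y ∈ R, StabilizesBlock (Subgroup.centralizer (Q : Set G))
      (blockOf M (ξ : Subgroup.centralizer (Q : Set G) → ℂ)) y := by
    intro y hy
    exact stabilizes_of_mem_sup Q _ y (sup_le_sup_left hDGL Q hy)
  have hc : (g₀ : G) ∈ Subgroup.centralizer (R : Set G) := by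
    have hle2 : R ≤ Subgroup.centralizer ({(g₀ : G)} : Set G) := by
      apply sup_le
      · intro q hq
        rw [Subgroup.mem_centralizer_singleton_iff]
        exact Subgroup.mem_centralizer_iff.mp g₀.2 q hq
      · rintro _ ⟨d, hd, rfl⟩
        obtain ⟨s, _, rfl⟩ := hd
        rw [Subgroup.mem_centralizer_singleton_iff]
        have := Subgroup.mem_centralizer_singleton_iff.mp s.2
        exact congrArg Subtype.val this
    rw [Subgroup.mem_centralizer_iff]
    intro h hh
    exact Subgroup.mem_centralizer_singleton_iff.mp (hle2 hh)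
  have hunit : ¬ MemLocalIdeal M (subgroupBlockCoeff (Subgroup.centralizer (Q : Set G))
      (blockOf M (ξ : Subgroup.centralizer (Q : Set G) → ℂ)) (g₀ : G)) := by
    rw [subgroupBlockCoeff_coe]
    exact hg₀.2.1
  obtain ⟨g, hn⟩ := exists_normalSubpair_above hM Q R _ hQf hRp hQR hRN hst (g₀ : G) hc hunit
  have hRgB : IsBrauerPairOf p M B R g :=
    (brauerPairOf_iff_of_normal hM R Q g _ hn B hB).mpr hQfB
  obtain ⟨x, hx⟩ := maximal_pairs_conj hM B P R e g hmax hRgB
  have hle' : SubpairLE p M (Q.map (MulAut.conj x).toMonoidHom)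
      (conjBlock Q x (blockOf M (ξ : Subgroup.centralizer (Q : Set G) → ℂ))) P e :=
    Relation.ReflTransGen.head
      (show NormalSubpairRel p M
        (⟨Q.map (MulAut.conj x).toMonoidHom, conjBlock Q x _⟩ : BrauerPairIdx G)
        (⟨R.map (MulAut.conj x).toMonoidHom, conjBlock R x g⟩ : BrauerPairIdx G) from
        isNormalSubpair_conj Q R x _ g hn) hx
  refine ⟨x, hle', ?_⟩
  haveI : Fintype (Subgroup.centralizer
    ((Q.map (MulAut.conj x).toMonoidHom : Subgroup G) : Set G)) := Fintype.ofFinite _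
  obtain ⟨D'', hD'', hsub⟩ := centralizer_le_defect hM P (Q.map (MulAut.conj x).toMonoidHom) e
    _ hPe hle'
  have hbd := blockDefect_conjBlock p Q x (blockOf M (ξ : Subgroup.centralizer (Q : Set G) → ℂ))
  have hD''2 := hD''
  rw [conjBlock_blockOf] at hD''2 hbd
  have hc1 := card_defectGroup hM (cbIrr Q x ξ) D'' hD''2
  have hc2 := card_defectGroup hM ξ D hDdef
  have hRxP : R.map (MulAut.conj x).toMonoidHom ≤ P := le_fst hx
  have hDGx : DG.map (MulAut.conj x).toMonoidHom
      ≤ P ⊓ Subgroup.centralizer ((Q.map (MulAut.conj x).toMonoidHom : Subgroup G) : Set G) := by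
    apply le_inf
    · exact (Subgroup.map_mono (le_sup_right : DG ≤ R)).trans hRxP
    · rintro _ ⟨d, hd, rfl⟩
      exact conj_mem_centralizer_map Q x d (hDGL hd)
  have hcard : Nat.card D'' ≤ Nat.card ((P ⊓ Subgroup.centralizer
      ((Q.map (MulAut.conj x).toMonoidHom : Subgroup G) : Set G)).subgroupOf
      (Subgroup.centralizer ((Q.map (MulAut.conj x).toMonoidHom : Subgroup G) : Set G))) := by
    rw [Nat.card_congr (Subgroup.subgroupOfEquivOfLe (inf_le_right :
      P ⊓ Subgroup.centralizer ((Q.map (MulAut.conj x).toMonoidHom : Subgroup G) : Set G)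
        ≤ Subgroup.centralizer
          ((Q.map (MulAut.conj x).toMonoidHom : Subgroup G) : Set G))).toEquiv]
    rw [hc1, hbd, ← hc2]
    calc Nat.card D = Nat.card DG :=
          (Subgroup.card_map_of_injective (Subgroup.subtype_injective _)).symm
      _ = Nat.card (DG.map (MulAut.conj x).toMonoidHom) :=
          (Subgroup.card_map_of_injective (MulAut.conj x).injective).symm
      _ ≤ _ := Subgroup.card_le_of_le hDGx
  have heq := Subgroup.eq_of_le_of_card_ge hsub hcard
  rw [heq]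
  exact hD''

end LocalC

end Cfsg.Agent.Lib.Helper2_BrauerLocal
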