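import Mathlib
import Cfsg.Prelude.Def_Characters
import Cfsg.Prelude.Def_Blocks
import Cfsg.Prelude.Def_BlockRank
import Cfsg.Prelude.Def_BlockLocal
import Cfsg.Prelude.Def_BrauerPairs
import Cfsg.Agent.Lib.Helper2_ClassFn
import Cfsg.Agent.Lib.Helper2_CharBasic
import Cfsg.Agent.Lib.Helper2_CharOrtho
import Cfsg.Agent.Lib.Helper2_Clifford
import Cfsg.Agent.Lib.Helper2_CharMore
import Cfsg.Agent.Lib.Helper2_CharDeg
import Cfsg.Agent.Lib.Helper2_CharInd
import Cfsg.Agent.Lib.Helper2_CharExtra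
import Cfsg.Agent.Lib.Helper2_CharInt
import Cfsg.Agent.Lib.Helper2_CharValues
import Cfsg.Agent.Lib.Helper2_CharSum
import Cfsg.Agent.Lib.Helper2_CharComplete
import Cfsg.Agent.Lib.Helper2_CharTable
import Cfsg.Agent.Lib.Helper2_CharCentral
import Cfsg.Agent.Lib.Helper2_ModM
import Cfsg.Agent.Lib.Helper2_Blocks
import Cfsg.Agent.Lib.Helper2_BlockOrtho
import Cfsg.Agent.Lib.Helper2_BlockMore
import Cfsg.Agent.Lib.Helper2_DefectGroup
import Cfsg.Agent.Lib.Helper2_DefectPCore
import Cfsg.Agent.Lib.Helper2_MinMax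
import Cfsg.Agent.Lib.Helper2_InducedBlock
import Cfsg.Agent.Lib.Helper2_BrauerMap
import Cfsg.Agent.Lib.Helper2_InducedDefect
import Cfsg.Agent.Lib.Helper2_BrauerFirst
import Cfsg.Agent.Lib.Helper2_BrauerConverse
import Cfsg.Agent.Lib.Helper2_SylowConj
import Cfsg.Agent.Lib.Helper2_BlockCover
import Cfsg.Agent.Lib.Helper2_BlockConj
import Cfsg.Agent.Lib.Helper2_FirstMain
import Cfsg.Agent.Lib.Helper2_BlockNormal
import Cfsg.Agent.Lib.Helper2_BlockCount
import Cfsg.Agent.Lib.Helper2_BlockCount2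
import Cfsg.Agent.Lib.Helper2_BlockKer
import Cfsg.Agent.Lib.Helper2_PRegCount
import Cfsg.Agent.Lib.Helper2_ExtFirstMain
import Cfsg.Agent.Lib.Helper2_ThirdMain
import Cfsg.Agent.Lib.Helper2_Fong
import Cfsg.Agent.Lib.Helper2_BrauerPairs
import Cfsg.Agent.Lib.Helper2_BrauerInv
import Cfsg.Agent.Lib.Helper2_Conj
import Cfsg.Agent.Lib.Helper2_BrauerChain
import Cfsg.Agent.Lib.Helper2_BrauerPrincipal
import Cfsg.Agent.Lib.Helper2_BrauerMax
import Cfsg.Agent.Lib.Helper2_BrauerConjMax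
import Cfsg.Agent.Lib.Helper2_BrauerLocal


set_option autoImplicit false

/-!
# Stabilizer blocks of Brauer pairs
-/

namespace Cfsg.Agent.Lib.Helper2_BrauerStab

open Cfsg
open Cfsg.Agent.Lib.Helper2_ClassFn
open Cfsg.Agent.Lib.Helper2_CharBasic
open Cfsg.Agent.Lib.Helper2_CharOrtho
open Cfsg.Agent.Lib.Helper2_Clifford
open Cfsg.Agent.Lib.Helper2_CharMore
open Cfsg.Agent.Lib.Helper2_CharDeg
open Cfsg.Agent.Lib.Helper2_CharInd
open Cfsg.Agent.Lib.Helper2_CharExtra
open Cfsg.Agent.Lib.Helper2_CharValues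
open Cfsg.Agent.Lib.Helper2_CharSum
open Cfsg.Agent.Lib.Helper2_CharComplete
open Cfsg.Agent.Lib.Helper2_CharTable
open Cfsg.Agent.Lib.Helper2_CharCentral
open Cfsg.Agent.Lib.Helper2_ModM
open Cfsg.Agent.Lib.Helper2_Blocks
open Cfsg.Agent.Lib.Helper2_BlockOrtho
open Cfsg.Agent.Lib.Helper2_BlockMore
open Cfsg.Agent.Lib.Helper2_DefectGroup
open Cfsg.Agent.Lib.Helper2_DefectPCore
open Cfsg.Agent.Lib.Helper2_MinMax
open Cfsg.Agent.Lib.Helper2_InducedBlock
open Cfsg.Agent.Lib.Helper2_BrauerMap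
open Cfsg.Agent.Lib.Helper2_InducedDefect
open Cfsg.Agent.Lib.Helper2_BrauerFirst
open Cfsg.Agent.Lib.Helper2_BrauerConverse
open Cfsg.Agent.Lib.Helper2_SylowConj
open Cfsg.Agent.Lib.Helper2_BlockCover
open Cfsg.Agent.Lib.Helper2_BlockConj
open Cfsg.Agent.Lib.Helper2_FirstMain
open Cfsg.Agent.Lib.Helper2_BlockNormal
open Cfsg.Agent.Lib.Helper2_BlockCount
open Cfsg.Agent.Lib.Helper2_BlockCount2
open Cfsg.Agent.Lib.Helper2_BlockKer
open Cfsg.Agent.Lib.Helper2_PRegCount
open Cfsg.Agent.Lib.Helper2_ExtFirstMain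
open Cfsg.Agent.Lib.Helper2_ThirdMain
open Cfsg.Agent.Lib.Helper2_Fong
open Cfsg.Agent.Lib.Helper2_BrauerPairs
open Cfsg.Agent.Lib.Helper2_BrauerInv
open Cfsg.Agent.Lib.Helper2_BrauerChain
open Cfsg.Agent.Lib.Helper2_BrauerPrincipal
open Cfsg.Agent.Lib.Helper2_BrauerMax
open Cfsg.Agent.Lib.Helper2_BrauerConjMax
open Cfsg.Agent.Lib.Helper2_BrauerLocal
open scoped ComplexConjugate

universe u

section EpsEq

variable {G : Type u} [Group G] {M : Ideal AlgInt}
variable (N H : Subgroup G) (hNH : N ≤ Subgroup.normalizer (H : Set G)) [Fintype N]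
variable [Fintype H] [Fintype (H.subgroupOf N)] (hHN : H ≤ N)

/-- Conjugation by `n ∈ N` on `H.subgroupOf N`. -/
noncomputable def cK (n : N) : H.subgroupOf N ≃* H.subgroupOf N :=
  ((Subgroup.subgroupOfEquivOfLe hHN).trans (cj N H hNH n)).trans
    (Subgroup.subgroupOfEquivOfLe hHN).symm

theorem equiv_cK (n : N) (k : H.subgroupOf N) :
    Subgroup.subgroupOfEquivOfLe hHN (cK N H hNH hHN n k)
      = cj N H hNH n (Subgroup.subgroupOfEquivOfLe hHN k) := by
  unfold cK
  simp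

theorem cK_coe (n : N) (k : H.subgroupOf N) :
    ((cK N H hNH hHN n k : H.subgroupOf N) : N) = n * k * n⁻¹ := by
  apply Subtype.ext
  have := congrArg (fun h : H => (h : G)) (equiv_cK N H hNH hHN n k)
  simp only [cj_coe] at this
  exact this

/-- Conjugate constituents have the same multiplicity. -/
theorem classInner_cjIrr {χ : N → ℂ} (hχ : IsClassFunction N χ) (ψ : IrrCharacter H) (n : N) :
    classInner (fun k : H.subgroupOf N => χ k)
        (fun k => (cjIrr N H hNH n ψ : H → ℂ) (Subgroup.subgroupOfEquivOfLe hHN k))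
      = classInner (fun k : H.subgroupOf N => χ k)
        (fun k => (ψ : H → ℂ) (Subgroup.subgroupOfEquivOfLe hHN k)) := by
  rw [classInner_def, classInner_def]
  congr 1
  rw [← Equiv.sum_comp (cK N H hNH hHN n).toEquiv]
  refine Finset.sum_congr rfl fun k _ => ?_
  have e1 : (cK N H hNH hHN n).toEquiv k = cK N H hNH hHN n k := rfl
  rw [e1, cK_coe, hχ, equiv_cK, cjIrr_apply_cj]

variable {p : ℕ} [hp : Fact p.Prime]

/-- When central characters of `N` are induced from `K`, the orbit sum is the block idempotent. -/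
theorem eps_eq_blockCoeff (hM : IsPModular p M) (ξ : IrrCharacter H) (ζ : IrrCharacter N)
    (he : classInner (fun k : H.subgroupOf N => (ζ : N → ℂ) k)
      (fun k => (ξ : H → ℂ) (Subgroup.subgroupOfEquivOfLe hHN k)) ≠ 0)
    (hstar : ∀ (χ : IrrCharacter N) (θ : IrrCharacter (H.subgroupOf N)),
      classInner (fun k : H.subgroupOf N => (χ : N → ℂ) k) (θ : H.subgroupOf N → ℂ) ≠ 0 →
      ∀ n : N, MemLocalIdeal M (inducedCentralChar (H.subgroupOf N) (θ : H.subgroupOf N → ℂ) n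
        - centralChar (χ : N → ℂ) n)) :
    eps N H hNH (blockOf M (ξ : H → ℂ)) = blockCoeff (blockOf M (ζ : N → ℂ)) := by
  classical
  have hMm := hM.2.1
  apply eq_of_forall_om_eq (eps_isClassFunction N H hNH _) (blockCoeff_isClassFunction _)
  intro χ hχ
  rw [om_blockCoeff _ hχ]
  by_cases hm : MemB (blockOf M (ζ : N → ℂ)) χ
  · rw [if_pos hm]
    obtain ⟨hirr, hmem⟩ := hm
    exact om_eps_of_mem_block N H hNH hHN hM ξ ζ he ⟨χ, hirr⟩ hmem
  · rw [if_neg hm]
    obtain ⟨θ, hθ⟩ := exists_under (H.subgroupOf N) hχ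
    rw [om_eps N H hNH hHN _ hχ θ.2 hθ]
    have hθ'irr : IsIrrCharacter H
        (fun h : H => (θ : H.subgroupOf N → ℂ) ((Subgroup.subgroupOfEquivOfLe hHN).symm h)) :=
      IsIrrCharacter.comp_mulEquiv θ.2 (Subgroup.subgroupOfEquivOfLe hHN).symm
    have h3 := sum_memB_orb N H hNH hMm ξ ⟨_, hθ'irr⟩
    rw [h3, if_neg]
    rintro ⟨β, hβ, hθ'β⟩
    apply hm
    obtain ⟨n, rfl⟩ := (mem_orb N H hNH _ β).mp hβ
    have h1 := (mem_cjSet_iff N H hNH n _ _).mp hθ'β
    set θ'' := cjIrr N H hNH n⁻¹ ⟨_, hθ'irr⟩ with hθ''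
    have hθ₂irr : IsIrrCharacter (H.subgroupOf N)
        (fun k => (θ'' : H → ℂ) (Subgroup.subgroupOfEquivOfLe hHN k)) :=
      IsIrrCharacter.comp_mulEquiv θ''.2 (Subgroup.subgroupOfEquivOfLe hHN)
    have hξX : IsIrrCharacter (H.subgroupOf N)
        (fun k => (ξ : H → ℂ) (Subgroup.subgroupOfEquivOfLe hHN k)) :=
      IsIrrCharacter.comp_mulEquiv ξ.2 (Subgroup.subgroupOfEquivOfLe hHN)
    have h2 : classInner (fun k : H.subgroupOf N => χ k)
        (fun k => (θ'' : H → ℂ) (Subgroup.subgroupOfEquivOfLe hHN k)) ≠ 0 := by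
      rw [hθ'', classInner_cjIrr N H hNH hHN
        (IsCharacter.isClassFunction (IsIrrCharacter.isCharacter hχ))]
      have e1 : (fun k : H.subgroupOf N =>
          ((⟨_, hθ'irr⟩ : IrrCharacter H) : H → ℂ) (Subgroup.subgroupOfEquivOfLe hHN k))
          = (θ : H.subgroupOf N → ℂ) := by
        funext k
        show (θ : H.subgroupOf N → ℂ) ((Subgroup.subgroupOfEquivOfLe hHN).symm
          (Subgroup.subgroupOfEquivOfLe hHN k)) = _
        rw [MulEquiv.symm_apply_apply]
      rw [e1]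
      exact hθ
    refine ⟨hχ, ?_⟩
    intro x
    have a1 := hstar ζ ⟨_, hξX⟩ he x
    have a2 := hstar ⟨χ, hχ⟩ ⟨_, hθ₂irr⟩ h2 x
    have hsb : SameBlock M (fun k : H.subgroupOf N =>
        (ξ : H → ℂ) (Subgroup.subgroupOfEquivOfLe hHN k))
        (fun k => (θ'' : H → ℂ) (Subgroup.subgroupOfEquivOfLe hHN k)) :=
      (sameBlock_comp_equiv_iff (M := M) (ξ : H → ℂ) (θ'' : H → ℂ)
        (Subgroup.subgroupOfEquivOfLe hHN)).mpr h1
    have a3 := inducedCentralChar_sub_mem hMm (H.subgroupOf N) hξX hθ₂irr hsb x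
    have := memLocalIdeal_add hMm (memLocalIdeal_sub hMm a3 a1) a2
    have e2 : ∀ a b c d : ℂ, a - b - (a - c) + (b - d) = c - d := fun a b c d => by ring
    rw [e2] at this
    exact this

end EpsEq

section StabBlock

variable {G : Type u} [Group G] [Fintype G] {M : Ideal AlgInt}

/-- **The block `f` of `C_G(Q)` is a block idempotent of its stabilizer `N_G(Q, f)`.** -/
theorem exists_stabilizer_block {p : ℕ} [hp : Fact p.Prime] (hM : IsPModular p M)
    (Q : Subgroup G) (hQ : IsPGroup p Q)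
    (f : Set (IrrCharacter (Subgroup.centralizer (Q : Set G)))) (hf : IsPBlock M f)
    (T : Subgroup G)
    (hT : ∀ y : G, y ∈ T ↔ y ∈ Subgroup.normalizer (Q : Set G) ∧
      StabilizesBlock (Subgroup.centralizer (Q : Set G)) f y) :
    ∃ F : Set (IrrCharacter T), IsPBlock M F ∧
      ∀ t : T, blockCoeff F t = subgroupBlockCoeff (Subgroup.centralizer (Q : Set G)) f (t : G) := by
  classical
  haveI : Fintype T := Fintype.ofFinite _
  haveI : Fintype (Subgroup.centralizer (Q : Set G)) := Fintype.ofFinite _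
  haveI : Fintype ((Subgroup.centralizer (Q : Set G)).subgroupOf T) := Fintype.ofFinite _
  have hMm := hM.2.1
  have hLT : Subgroup.centralizer (Q : Set G) ≤ T := fun l hl =>
    (hT l).mpr ⟨Subgroup.centralizer_le_normalizer _ hl,
      stabilizes_of_mem_sup Q f l ((le_sup_right : _ ≤ Q ⊔ Subgroup.centralizer (Q : Set G)) hl)⟩
  have hQT : Q ≤ T := fun q hq =>
    (hT q).mpr ⟨Subgroup.le_normalizer hq,
      stabilizes_of_mem_sup Q f q ((le_sup_left : _ ≤ Q ⊔ Subgroup.centralizer (Q : Set G)) hq)⟩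
  have hTN : T ≤ Subgroup.normalizer (Q : Set G) := fun y hy => ((hT y).mp hy).1
  have hTL : T ≤ Subgroup.normalizer
      ((Subgroup.centralizer (Q : Set G) : Subgroup G) : Set G) :=
    hTN.trans (normalizer_le_normalizer_centralizer Q)
  obtain ⟨ξ, rfl⟩ := hf
  have hξX : IsIrrCharacter ((Subgroup.centralizer (Q : Set G)).subgroupOf T)
      (fun k => (ξ : Subgroup.centralizer (Q : Set G) → ℂ)
        (Subgroup.subgroupOfEquivOfLe hLT k)) :=
    IsIrrCharacter.comp_mulEquiv ξ.2 (Subgroup.subgroupOfEquivOfLe hLT)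
  obtain ⟨ζ, hζ⟩ := exists_over ((Subgroup.centralizer (Q : Set G)).subgroupOf T) hξX
  haveI hKn : ((Subgroup.centralizer (Q : Set G)).subgroupOf T).Normal :=
    (Subgroup.normal_subgroupOf_iff_le_normalizer hLT).mpr hTL
  haveI hQn : (Q.subgroupOf T).Normal :=
    (Subgroup.normal_subgroupOf_iff_le_normalizer hQT).mpr hTN
  have hQXp : IsPGroup p (Q.subgroupOf T) :=
    hQ.comap_of_injective T.subtype (Subgroup.subtype_injective _)
  have hCK : Subgroup.centralizer ((Q.subgroupOf T : Subgroup T) : Set T)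
      ≤ (Subgroup.centralizer (Q : Set G)).subgroupOf T := by
    intro x hx
    rw [Subgroup.mem_subgroupOf, Subgroup.mem_centralizer_iff]
    intro y hy
    have := hx ⟨y, hQT hy⟩ (Subgroup.mem_subgroupOf.mpr hy)
    exact congrArg Subtype.val this
  have key := eps_eq_blockCoeff T (Subgroup.centralizer (Q : Set G)) hTL hLT hM ξ ζ hζ
    (fun χ θ he n => induced_sub_centralChar_of_over hM (Q.subgroupOf T)
      ((Subgroup.centralizer (Q : Set G)).subgroupOf T) hQXp hCK χ θ he n)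
  refine ⟨blockOf M (ζ : T → ℂ), ⟨ζ, rfl⟩, fun t => ?_⟩
  rw [← key]
  unfold eps
  have hstab := (stabilizes_iff T (Subgroup.centralizer (Q : Set G)) hTL
    (blockOf M (ξ : Subgroup.centralizer (Q : Set G) → ℂ))).mp
    (fun x hx => ((hT x).mp hx).2)
  rw [Finset.sum_eq_single (blockOf M (ξ : Subgroup.centralizer (Q : Set G) → ℂ))]
  · intro β hβ hne
    exfalso
    apply hne
    obtain ⟨n, rfl⟩ := (mem_orb T _ hTL _ β).mp hβ
    exact hstab n
  · intro h0
    exact absurd (self_mem_orb T _ hTL _) h0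

/-- **`N_P(Q)` lies in a defect group of the stabilizer block.** -/
theorem normalizer_le_defect {p : ℕ} [hp : Fact p.Prime] (hM : IsPModular p M)
    (P Q : Subgroup G) (e : Set (IrrCharacter (Subgroup.centralizer (P : Set G))))
    (f : Set (IrrCharacter (Subgroup.centralizer (Q : Set G))))
    (hPe : IsBrauerPair p M P e) (hle : SubpairLE p M Q f P e) (T : Subgroup G)
    (hT : ∀ y : G, y ∈ T ↔ y ∈ Subgroup.normalizer (Q : Set G) ∧
      StabilizesBlock (Subgroup.centralizer (Q : Set G)) f y)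
    (F : Set (IrrCharacter T)) (hF : IsPBlock M F)
    (hFe : ∀ t : T, blockCoeff F t
      = subgroupBlockCoeff (Subgroup.centralizer (Q : Set G)) f (t : G)) :
    P ⊓ Subgroup.normalizer (Q : Set G) ≤ T ∧
    ∃ D : Subgroup T, IsDefectGroup p M F D ∧
      (P ⊓ Subgroup.normalizer (Q : Set G)).subgroupOf T ≤ D := by
  classical
  haveI : Fintype T := Fintype.ofFinite _
  haveI : Fintype (Subgroup.centralizer (Q : Set G)) := Fintype.ofFinite _
  have hMm := hM.2.1
  have hQP : Q ≤ P := le_fst hle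
  set R : Subgroup G := P ⊓ Subgroup.normalizer (Q : Set G) with hR
  have hRP : R ≤ P := inf_le_left
  have hRN : R ≤ Subgroup.normalizer (Q : Set G) := inf_le_right
  have hQR : Q ≤ R := le_inf hQP Subgroup.le_normalizer
  obtain ⟨g, hg⟩ := exists_le hM _ P e hPe R hRP rfl
  have hRg : IsBrauerPair p M R g := isBrauerPair_of_le hg hPe
  obtain ⟨f₁, hf₁⟩ := exists_le hM _ R g hRg Q hQR rfl
  have hff : f = f₁ := unique_le hM _ P e hPe Q f f₁ rfl hle (hf₁.trans hg)
  subst hff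
  have hn := normal_of_le hM Q R f g hf₁ hRg hRN
  have hRT : R ≤ T := fun y hy => (hT y).mpr ⟨hRN hy, hn.2.2.2.2.1 y hy⟩
  refine ⟨hRT, ?_⟩
  obtain ⟨ξ', hgeq⟩ := hRg.2
  have hξ'g : ξ' ∈ g := hgeq ▸ self_mem_blockOf hMm ξ'
  have hom := hn.2.2.2.2.2 ξ' hξ'g
  have hCRL : Subgroup.centralizer (R : Set G) ≤ Subgroup.centralizer (Q : Set G) :=
    Subgroup.centralizer_le hQR
  have hex : ∃ c : G, c ∈ Subgroup.centralizer (R : Set G) ∧
      ¬ MemLocalIdeal M (subgroupBlockCoeff (Subgroup.centralizer (Q : Set G)) f c) := by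
    by_contra hcon
    push Not at hcon
    haveI : Fintype (Subgroup.centralizer (R : Set G)) := Fintype.ofFinite _
    rw [brauerOmega_eq_om] at hom
    have hcf : IsClassFunction (Subgroup.centralizer (R : Set G))
        (fun h : Subgroup.centralizer (R : Set G) =>
          subgroupBlockCoeff (Subgroup.centralizer (Q : Set G)) f (h : G)) := by
      intro h t
      show subgroupBlockCoeff (Subgroup.centralizer (Q : Set G)) f ((t * h * t⁻¹ : _) : G)
        = subgroupBlockCoeff (Subgroup.centralizer (Q : Set G)) f (h : G)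
      rw [subgroupBlockCoeff_of_mem _ f _ (hCRL (t * h * t⁻¹).2),
        subgroupBlockCoeff_of_mem _ f _ (hCRL h.2)]
      exact blockCoeff_isClassFunction f ⟨h, hCRL h.2⟩ ⟨t, hCRL t.2⟩
    have h1 := memLocalIdeal_om hMm ξ'.2 hcf (fun h => hcon h h.2)
    have := memLocalIdeal_sub hMm h1 hom
    rw [sub_sub_cancel] at this
    exact not_memLocalIdeal_one hMm this
  obtain ⟨c, hcR, hcu⟩ := hex
  have hLT : Subgroup.centralizer (Q : Set G) ≤ T := fun l hl =>
    (hT l).mpr ⟨Subgroup.centralizer_le_normalizer _ hl,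
      stabilizes_of_mem_sup Q f l ((le_sup_right : _ ≤ Q ⊔ Subgroup.centralizer (Q : Set G)) hl)⟩
  have hcT : c ∈ T := hLT (hCRL hcR)
  have hcu' : ¬ MemLocalIdeal M (blockCoeff F ⟨c, hcT⟩) := by
    rw [hFe]
    exact hcu
  obtain ⟨ζ, rfl⟩ := hF
  obtain ⟨g₀, hg₀⟩ := exists_defectClass hMm ζ
  obtain ⟨S⟩ : Nonempty (Sylow p (Subgroup.centralizer ({g₀} : Set T))) := inferInstance
  have hE : IsPGroup p (R.subgroupOf T) :=
    (hPe.1.to_le hRP).comap_of_injective _ (Subgroup.subtype_injective _)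
  have hEc : R.subgroupOf T ≤ Subgroup.centralizer ({⟨c, hcT⟩} : Set T) := by
    intro y hy
    rw [Subgroup.mem_centralizer_singleton_iff]
    have := Subgroup.mem_centralizer_iff.mp hcR (y : G) (Subgroup.mem_subgroupOf.mp hy)
    exact Subtype.ext this
  obtain ⟨x, hx⟩ := minmax_support hM ζ g₀ hg₀ S ⟨c, hcT⟩ hcu' _ hE hEc
  exact ⟨_, isDefectGroup_conj ⟨g₀, hg₀, S, rfl⟩ x, hx⟩

/-- A conjugate of `(Q, f)` below the maximal pair whose normalizer in `P` is at least as large as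
a given defect group of the stabilizer block. -/
theorem exists_conj_card_le {p : ℕ} [hp : Fact p.Prime] (hM : IsPModular p M)
    (B : Set (IrrCharacter G)) (P Q : Subgroup G)
    (e : Set (IrrCharacter (Subgroup.centralizer (P : Set G))))
    (f : Set (IrrCharacter (Subgroup.centralizer (Q : Set G))))
    (hmax : IsMaximalBrauerPair p M B P e) (hQfB : IsBrauerPairOf p M B Q f) (T : Subgroup G)
    (hT : ∀ y : G, y ∈ T ↔ y ∈ Subgroup.normalizer (Q : Set G) ∧
      StabilizesBlock (Subgroup.centralizer (Q : Set G)) f y)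
    (F : Set (IrrCharacter T)) (hF : IsPBlock M F)
    (hFe : ∀ t : T, blockCoeff F t
      = subgroupBlockCoeff (Subgroup.centralizer (Q : Set G)) f (t : G))
    (D' : Subgroup T) (hD' : IsDefectGroup p M F D') :
    ∃ y : G, SubpairLE p M (Q.map (MulAut.conj y).toMonoidHom) (conjBlock Q y f) P e ∧
      Nat.card D' ≤ Nat.card (P ⊓ Subgroup.normalizer
        ((Q.map (MulAut.conj y).toMonoidHom : Subgroup G) : Set G) : Subgroup G) := by
  classical
  haveI : Fintype T := Fintype.ofFinite _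
  have hMm := hM.2.1
  have hB := hmax.1.2.1
  have hQf := hQfB.1
  have hQT : Q ≤ T := fun q hq =>
    (hT q).mpr ⟨Subgroup.le_normalizer hq,
      stabilizes_of_mem_sup Q f q ((le_sup_left : _ ≤ Q ⊔ Subgroup.centralizer (Q : Set G)) hq)⟩
  have hTN : T ≤ Subgroup.normalizer (Q : Set G) := fun y hy => ((hT y).mp hy).1
  haveI hQn : (Q.subgroupOf T).Normal :=
    (Subgroup.normal_subgroupOf_iff_le_normalizer hQT).mpr hTN
  have hQXp : IsPGroup p (Q.subgroupOf T) :=
    hQf.1.comap_of_injective T.subtype (Subgroup.subtype_injective _)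
  obtain ⟨ζ, rfl⟩ := hF
  have hQD : Q.subgroupOf T ≤ D' := normal_pSubgroup_le_defectGroup hM _ hQXp ζ D' hD'
  have hD'p : IsPGroup p D' := isPGroup_of_isDefectGroup hD'
  obtain ⟨g₀, hg₀, S, hS⟩ := id hD'
  set DG : Subgroup G := D'.map T.subtype with hDG
  have hDGT : DG ≤ T := by
    rintro _ ⟨d, _, rfl⟩
    exact d.2
  have hDGp : IsPGroup p DG := hD'p.map _
  have hQDG : Q ≤ DG := by
    intro q hq
    exact ⟨⟨q, hQT hq⟩, hQD (Subgroup.mem_subgroupOf.mpr hq), rfl⟩
  have hDGN : DG ≤ Subgroup.normalizer (Q : Set G) := hDGT.trans hTN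
  have hst : ∀ y ∈ DG, StabilizesBlock (Subgroup.centralizer (Q : Set G)) f y :=
    fun y hy => ((hT y).mp (hDGT hy)).2
  have hc : (g₀ : G) ∈ Subgroup.centralizer (DG : Set G) := by
    rw [Subgroup.mem_centralizer_iff]
    rintro _ ⟨d, hd, rfl⟩
    rw [hS] at hd
    obtain ⟨s, _, rfl⟩ := hd
    have := Subgroup.mem_centralizer_singleton_iff.mp s.2
    exact congrArg Subtype.val this
  have hunit : ¬ MemLocalIdeal M (subgroupBlockCoeff (Subgroup.centralizer (Q : Set G)) f
      (g₀ : G)) := by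
    rw [← hFe]
    exact hg₀.2.1
  obtain ⟨g, hn⟩ := exists_normalSubpair_above hM Q DG f hQf hDGp hQDG hDGN hst (g₀ : G) hc hunit
  have hRgB : IsBrauerPairOf p M B DG g :=
    (brauerPairOf_iff_of_normal hM DG Q g f hn B hB).mpr hQfB
  obtain ⟨y, hy⟩ := maximal_pairs_conj hM B P DG e g hmax hRgB
  have hle' : SubpairLE p M (Q.map (MulAut.conj y).toMonoidHom) (conjBlock Q y f) P e :=
    Relation.ReflTransGen.head
      (show NormalSubpairRel p M
        (⟨Q.map (MulAut.conj y).toMonoidHom, conjBlock Q y f⟩ : BrauerPairIdx G)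
        (⟨DG.map (MulAut.conj y).toMonoidHom, conjBlock DG y g⟩ : BrauerPairIdx G) from
        isNormalSubpair_conj Q DG y f g hn) hy
  refine ⟨y, hle', ?_⟩
  have hDGyP : DG.map (MulAut.conj y).toMonoidHom ≤ P := le_fst hy
  have hDGy : DG.map (MulAut.conj y).toMonoidHom ≤ P ⊓ Subgroup.normalizer
      ((Q.map (MulAut.conj y).toMonoidHom : Subgroup G) : Set G) :=
    le_inf hDGyP (map_conj_le_normalizer Q DG y hDGN)
  calc Nat.card D' = Nat.card DG :=
        (Subgroup.card_map_of_injective (Subgroup.subtype_injective _)).symm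
    _ = Nat.card (DG.map (MulAut.conj y).toMonoidHom) :=
        (Subgroup.card_map_of_injective (MulAut.conj y).injective).symm
    _ ≤ _ := Subgroup.card_le_of_le hDGy

end StabBlock

section StabMain

variable {G : Type u} [Group G] [Fintype G] {M : Ideal AlgInt}

theorem subpairLE_congr_left {p : ℕ} (Q₁ Q₂ P : Subgroup G)
    (f₁ : Set (IrrCharacter (Subgroup.centralizer (Q₁ : Set G))))
    (f₂ : Set (IrrCharacter (Subgroup.centralizer (Q₂ : Set G))))
    (e : Set (IrrCharacter (Subgroup.centralizer (P : Set G))))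
    (h : Q₁ = Q₂)
    (hf : ∀ (ξ₁ : IrrCharacter (Subgroup.centralizer (Q₁ : Set G)))
      (ξ₂ : IrrCharacter (Subgroup.centralizer (Q₂ : Set G))),
      (∀ (a : Subgroup.centralizer (Q₁ : Set G)) (b : Subgroup.centralizer (Q₂ : Set G)),
        (a : G) = (b : G) → (ξ₁ : _ → ℂ) a = (ξ₂ : _ → ℂ) b) → (ξ₁ ∈ f₁ ↔ ξ₂ ∈ f₂))
    (hle : SubpairLE p M Q₁ f₁ P e) : SubpairLE p M Q₂ f₂ P e := by
  subst h
  have : f₁ = f₂ := Set.ext fun ξ => hf ξ ξ (fun a b hab => by rw [Subtype.ext hab])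
  subst this
  exact hle

theorem map_conj_mul (Q : Subgroup G) (x y : G) :
    (Q.map (MulAut.conj x).toMonoidHom).map (MulAut.conj y).toMonoidHom
      = Q.map (MulAut.conj (y * x)).toMonoidHom := by
  ext a
  rw [mem_map_conj'', mem_map_conj'', mem_map_conj'']
  have e1 : x⁻¹ * (y⁻¹ * a * y) * x = (y * x)⁻¹ * a * (y * x) := by group
  rw [e1]

omit [Fintype G] in
theorem conjBlock_mul_iff (Q : Subgroup G) (x y : G)
    (f : Set (IrrCharacter (Subgroup.centralizer (Q : Set G))))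
    (ξ₂ : IrrCharacter (Subgroup.centralizer
      (((Q.map (MulAut.conj x).toMonoidHom).map (MulAut.conj y).toMonoidHom : Subgroup G) : Set G)))
    (ξ₁ : IrrCharacter (Subgroup.centralizer
      ((Q.map (MulAut.conj (y * x)).toMonoidHom : Subgroup G) : Set G)))
    (hag : ∀ (a : Subgroup.centralizer
      (((Q.map (MulAut.conj x).toMonoidHom).map (MulAut.conj y).toMonoidHom : Subgroup G) : Set G))
      (b : Subgroup.centralizer
      ((Q.map (MulAut.conj (y * x)).toMonoidHom : Subgroup G) : Set G)),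
      (a : G) = (b : G) → (ξ₂ : _ → ℂ) a = (ξ₁ : _ → ℂ) b) :
    ξ₂ ∈ conjBlock (Q.map (MulAut.conj x).toMonoidHom) y (conjBlock Q x f)
      ↔ ξ₁ ∈ conjBlock Q (y * x) f := by
  rw [mem_conjBlock_iff', mem_conjBlock_iff', mem_conjBlock_iff']
  have hh : cbIrr' Q x (cbIrr' (Q.map (MulAut.conj x).toMonoidHom) y ξ₂)
      = cbIrr' Q (y * x) ξ₁ := by
    apply Subtype.ext
    funext c
    rw [cbIrr'_apply, cbIrr'_apply, cbIrr'_apply]
    apply hag
    rw [centEquiv_coe, centEquiv_coe, centEquiv_coe]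
    group
  rw [hh]

/-- **The stabilizer block and `N_P(Q)`.** -/
theorem stabilizer_block_defect {p : ℕ} [hp : Fact p.Prime] (hM : IsPModular p M)
    (B : Set (IrrCharacter G)) (P Q : Subgroup G)
    (e : Set (IrrCharacter (Subgroup.centralizer (P : Set G))))
    (f : Set (IrrCharacter (Subgroup.centralizer (Q : Set G))))
    (hmax : IsMaximalBrauerPair p M B P e) (hle : SubpairLE p M Q f P e) :
    ∃ x : G, SubpairLE p M (Q.map (MulAut.conj x).toMonoidHom) (conjBlock Q x f) P e ∧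
      ∀ (T' : Subgroup G), (∀ y : G, y ∈ T' ↔
          y ∈ Subgroup.normalizer ((Q.map (MulAut.conj x).toMonoidHom : Subgroup G) : Set G) ∧
          StabilizesBlock (Subgroup.centralizer
            ((Q.map (MulAut.conj x).toMonoidHom : Subgroup G) : Set G)) (conjBlock Q x f) y) →
        ∃ F' : Set (IrrCharacter T'), IsPBlock M F' ∧
          (∀ t : T', blockCoeff F' t = subgroupBlockCoeff (Subgroup.centralizer
            ((Q.map (MulAut.conj x).toMonoidHom : Subgroup G) : Set G)) (conjBlock Q x f) (t : G)) ∧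
          IsDefectGroup p M F' ((P ⊓ Subgroup.normalizer
            ((Q.map (MulAut.conj x).toMonoidHom : Subgroup G) : Set G)).subgroupOf T') := by
  classical
  have hMm := hM.2.1
  have hPe := hmax.1.1
  have hB := hmax.1.2.1
  -- the set of admissible conjugating elements
  obtain ⟨x₀, hx₀, _⟩ := exists_conj_defect hM B P Q e f hmax hle
  set 𝒮 : Finset G := Finset.univ.filter
    (fun x => SubpairLE p M (Q.map (MulAut.conj x).toMonoidHom) (conjBlock Q x f) P e) with h𝒮
  have hne : 𝒮.Nonempty := ⟨x₀, by rw [h𝒮, Finset.mem_filter]; exact ⟨Finset.mem_univ _, hx₀⟩⟩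
  obtain ⟨x, hx𝒮, hxmax⟩ := Finset.exists_max_image 𝒮
    (fun x => Nat.card (P ⊓ Subgroup.normalizer
      ((Q.map (MulAut.conj x).toMonoidHom : Subgroup G) : Set G) : Subgroup G)) hne
  have hx : SubpairLE p M (Q.map (MulAut.conj x).toMonoidHom) (conjBlock Q x f) P e := by
    rw [h𝒮, Finset.mem_filter] at hx𝒮
    exact hx𝒮.2
  refine ⟨x, hx, ?_⟩
  intro T' hT'
  have hQxf : IsBrauerPair p M (Q.map (MulAut.conj x).toMonoidHom) (conjBlock Q x f) :=
    isBrauerPair_of_le hx hPe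
  have hQxfB : IsBrauerPairOf p M B (Q.map (MulAut.conj x).toMonoidHom) (conjBlock Q x f) :=
    (brauerPairOf_iff_of_le hM B hB ⟨_, _⟩ ⟨P, e⟩ hx).mp hmax.1
  obtain ⟨F', hF', hF'e⟩ := exists_stabilizer_block hM _ hQxf.1 _ hQxf.2 T' hT'
  obtain ⟨hRT, D', hD', hsub⟩ := normalizer_le_defect hM P _ e _ hPe hx T' hT' F' hF' hF'e
  obtain ⟨y, hy, hcard⟩ := exists_conj_card_le hM B P _ e _ hmax hQxfB T' hT' F' hF' hF'e D' hD'
  refine ⟨F', hF', hF'e, ?_⟩
  -- `y * x` is admissible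
  have hyx : y * x ∈ 𝒮 := by
    rw [h𝒮, Finset.mem_filter]
    refine ⟨Finset.mem_univ _, ?_⟩
    apply subpairLE_congr_left _ _ P _ _ e (map_conj_mul Q x y) ?_ hy
    intro ξ₂ ξ₁ hag
    exact conjBlock_mul_iff Q x y f ξ₂ ξ₁ hag
  have h1 : Nat.card (P ⊓ Subgroup.normalizer
      ((Q.map (MulAut.conj (y * x)).toMonoidHom : Subgroup G) : Set G) : Subgroup G)
      ≤ Nat.card (P ⊓ Subgroup.normalizer
      ((Q.map (MulAut.conj x).toMonoidHom : Subgroup G) : Set G) : Subgroup G) :=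
    hxmax (y * x) hyx
  rw [← map_conj_mul Q x y] at h1
  have hcard2 : Nat.card ((P ⊓ Subgroup.normalizer
      ((Q.map (MulAut.conj x).toMonoidHom : Subgroup G) : Set G)).subgroupOf T')
      = Nat.card (P ⊓ Subgroup.normalizer
      ((Q.map (MulAut.conj x).toMonoidHom : Subgroup G) : Set G) : Subgroup G) :=
    Nat.card_congr (Subgroup.subgroupOfEquivOfLe hRT).toEquiv
  have heq := Subgroup.eq_of_le_of_card_ge hsub (by rw [hcard2]; exact hcard.trans h1)
  rw [heq]
  exact hD'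

end StabMain

end Cfsg.Agent.Lib.Helper2_BrauerStab
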