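import Mathlib
import Cfsg.Prelude.Def_Characters
import Cfsg.Prelude.Def_Blocks
import Cfsg.Prelude.Def_BlockRank
import Cfsg.Prelude.Def_BlockLocal
import Cfsg.Prelude.Def_BrauerPairs
import Cfsg.Agent.Lib.Helper2_ClassFn
import Cfsg.Agent.Lib.Helper2_CharBasic
import Cfsg.Agent.Lib.Helper2_CharOrtho
import Cfsg.Agent.Lib.Helper2_Clifford
import Cfsg.Agent.Lib.Helper2_CharMore
import Cfsg.Agent.Lib.Helper2_CharDeg
import Cfsg.Agent.Lib.Helper2_CharInd
import Cfsg.Agent.Lib.Helper2_CharExtra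
import Cfsg.Agent.Lib.Helper2_CharInt
import Cfsg.Agent.Lib.Helper2_CharValues
import Cfsg.Agent.Lib.Helper2_CharSum
import Cfsg.Agent.Lib.Helper2_CharComplete
import Cfsg.Agent.Lib.Helper2_CharTable
import Cfsg.Agent.Lib.Helper2_CharCentral
import Cfsg.Agent.Lib.Helper2_ModM
import Cfsg.Agent.Lib.Helper2_Blocks
import Cfsg.Agent.Lib.Helper2_BlockOrtho
import Cfsg.Agent.Lib.Helper2_BlockMore
import Cfsg.Agent.Lib.Helper2_DefectGroup
import Cfsg.Agent.Lib.Helper2_DefectPCore
import Cfsg.Agent.Lib.Helper2_MinMax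
import Cfsg.Agent.Lib.Helper2_InducedBlock
import Cfsg.Agent.Lib.Helper2_BrauerMap
import Cfsg.Agent.Lib.Helper2_InducedDefect
import Cfsg.Agent.Lib.Helper2_BrauerFirst
import Cfsg.Agent.Lib.Helper2_BrauerConverse
import Cfsg.Agent.Lib.Helper2_SylowConj
import Cfsg.Agent.Lib.Helper2_BlockCover
import Cfsg.Agent.Lib.Helper2_BlockConj
import Cfsg.Agent.Lib.Helper2_FirstMain
import Cfsg.Agent.Lib.Helper2_BlockNormal
import Cfsg.Agent.Lib.Helper2_BlockCount
import Cfsg.Agent.Lib.Helper2_BlockCount2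
import Cfsg.Agent.Lib.Helper2_BlockKer
import Cfsg.Agent.Lib.Helper2_PRegCount
import Cfsg.Agent.Lib.Helper2_ExtFirstMain
import Cfsg.Agent.Lib.Helper2_ThirdMain
import Cfsg.Agent.Lib.Helper2_Fong
import Cfsg.Agent.Lib.Helper2_BrauerPairs
import Cfsg.Agent.Lib.Helper2_BrauerInv
import Cfsg.Agent.Lib.Helper2_Conj
import Cfsg.Agent.Lib.Helper2_BrauerChain
import Cfsg.Agent.Lib.Helper2_BrauerPrincipal
import Cfsg.Agent.Lib.Helper2_BrauerMax
import Cfsg.Agent.Lib.Helper2_BrauerConjMax
import Cfsg.Agent.Lib.Helper2_BrauerLocal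
import Cfsg.Agent.Lib.Helper2_BrauerStab
import Cfsg.Prelude.Def_FusionSystem
import Cfsg.Prelude.Def_BlockFusion


set_option autoImplicit false

/-!
# The fusion system of a block: fully centralized, centric, fully normalized subgroups
-/

namespace Cfsg.Agent.Lib.Helper2_BlockFusion

open Cfsg
open Cfsg.Agent.Lib.Helper2_ClassFn
open Cfsg.Agent.Lib.Helper2_CharBasic
open Cfsg.Agent.Lib.Helper2_CharOrtho
open Cfsg.Agent.Lib.Helper2_Clifford
open Cfsg.Agent.Lib.Helper2_CharMore
open Cfsg.Agent.Lib.Helper2_CharDeg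
open Cfsg.Agent.Lib.Helper2_CharInd
open Cfsg.Agent.Lib.Helper2_CharExtra
open Cfsg.Agent.Lib.Helper2_CharValues
open Cfsg.Agent.Lib.Helper2_CharSum
open Cfsg.Agent.Lib.Helper2_CharComplete
open Cfsg.Agent.Lib.Helper2_CharTable
open Cfsg.Agent.Lib.Helper2_CharCentral
open Cfsg.Agent.Lib.Helper2_ModM
open Cfsg.Agent.Lib.Helper2_Blocks
open Cfsg.Agent.Lib.Helper2_BlockOrtho
open Cfsg.Agent.Lib.Helper2_BlockMore
open Cfsg.Agent.Lib.Helper2_DefectGroup
open Cfsg.Agent.Lib.Helper2_DefectPCore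
open Cfsg.Agent.Lib.Helper2_MinMax
open Cfsg.Agent.Lib.Helper2_InducedBlock
open Cfsg.Agent.Lib.Helper2_BrauerMap
open Cfsg.Agent.Lib.Helper2_InducedDefect
open Cfsg.Agent.Lib.Helper2_BrauerFirst
open Cfsg.Agent.Lib.Helper2_BrauerConverse
open Cfsg.Agent.Lib.Helper2_SylowConj
open Cfsg.Agent.Lib.Helper2_BlockCover
open Cfsg.Agent.Lib.Helper2_BlockConj
open Cfsg.Agent.Lib.Helper2_FirstMain
open Cfsg.Agent.Lib.Helper2_BlockNormal
open Cfsg.Agent.Lib.Helper2_BlockCount
open Cfsg.Agent.Lib.Helper2_BlockCount2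
open Cfsg.Agent.Lib.Helper2_BlockKer
open Cfsg.Agent.Lib.Helper2_PRegCount
open Cfsg.Agent.Lib.Helper2_ExtFirstMain
open Cfsg.Agent.Lib.Helper2_ThirdMain
open Cfsg.Agent.Lib.Helper2_Fong
open Cfsg.Agent.Lib.Helper2_BrauerPairs
open Cfsg.Agent.Lib.Helper2_BrauerInv
open Cfsg.Agent.Lib.Helper2_BrauerChain
open Cfsg.Agent.Lib.Helper2_BrauerPrincipal
open Cfsg.Agent.Lib.Helper2_BrauerMax
open Cfsg.Agent.Lib.Helper2_BrauerConjMax
open Cfsg.Agent.Lib.Helper2_BrauerLocal
open Cfsg.Agent.Lib.Helper2_BrauerStab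
open scoped ComplexConjugate

universe u

section Fusion

variable {G : Type u} [Group G] [Fintype G] {M : Ideal AlgInt}

/-- Conjugacy in the fusion system of a block, in terms of Brauer pairs. -/
theorem isConj_iff {p : ℕ} [hp : Fact p.Prime] (hM : IsPModular p M)
    (B : Set (IrrCharacter G)) (P : Subgroup G)
    (e : Set (IrrCharacter (Subgroup.centralizer (P : Set G)))) (F : FusionSystem P)
    (hF : IsBlockFusionSystemOn p M B P e F) (Q : Subgroup G)
    (f : Set (IrrCharacter (Subgroup.centralizer (Q : Set G))))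
    (hle : SubpairLE p M Q f P e) (Q' : Subgroup G) :
    F.IsConj Q Q' ↔ ∃ g : G, Q' = Q.map (MulAut.conj g).toMonoidHom ∧
      SubpairLE p M (Q.map (MulAut.conj g).toMonoidHom) (conjBlock Q g f) P e := by
  have hPe := hF.1.1.1
  constructor
  · rintro ⟨φ, hφ, hrange⟩
    obtain ⟨_, g, hφg, _, f', h1, h2⟩ := (hF.2 Q φ).mp hφ
    have hff : f' = f := unique_le hM _ P e hPe Q f' f rfl h1 hle
    subst hff
    refine ⟨g, ?_, h2⟩
    rw [← hrange]
    ext a
    constructor
    · rintro ⟨u, rfl⟩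
      exact ⟨u, u.2, (hφg u).symm⟩
    · rintro ⟨u, hu, rfl⟩
      exact ⟨⟨u, hu⟩, hφg ⟨u, hu⟩⟩
  · rintro ⟨g, rfl, h2⟩
    refine ⟨conjHom Q g, ?_, ?_⟩
    · exact (hF.2 Q (conjHom Q g)).mpr ⟨le_fst hle, g, fun u => rfl, le_fst h2, f, hle, h2⟩
    · ext a
      constructor
      · rintro ⟨u, rfl⟩
        exact ⟨u, u.2, rfl⟩
      · rintro ⟨u, hu, rfl⟩
        exact ⟨⟨u, hu⟩, rfl⟩

omit [Fintype G] in
theorem card_inf_subgroupOf (P L : Subgroup G) :
    Nat.card ((P ⊓ L).subgroupOf L) = Nat.card (P ⊓ L : Subgroup G) :=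
  Nat.card_congr (Subgroup.subgroupOfEquivOfLe (inf_le_right : P ⊓ L ≤ L)).toEquiv

/-- Defect groups of a block and of its conjugate have the same order. -/
theorem card_defect_conj {p : ℕ} [hp : Fact p.Prime] (hM : IsPModular p M) (Q : Subgroup G)
    (x : G) (f : Set (IrrCharacter (Subgroup.centralizer (Q : Set G)))) (hf : IsPBlock M f)
    (D : Subgroup (Subgroup.centralizer (Q : Set G))) (hD : IsDefectGroup p M f D)
    (D' : Subgroup (Subgroup.centralizer
      ((Q.map (MulAut.conj x).toMonoidHom : Subgroup G) : Set G)))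
    (hD' : IsDefectGroup p M (conjBlock Q x f) D') : Nat.card D' = Nat.card D := by
  classical
  haveI : Fintype (Subgroup.centralizer (Q : Set G)) := Fintype.ofFinite _
  haveI : Fintype (Subgroup.centralizer
    ((Q.map (MulAut.conj x).toMonoidHom : Subgroup G) : Set G)) := Fintype.ofFinite _
  obtain ⟨ξ, rfl⟩ := hf
  have hbd := blockDefect_conjBlock p Q x (blockOf M (ξ : Subgroup.centralizer (Q : Set G) → ℂ))
  rw [conjBlock_blockOf] at hD' hbd
  rw [card_defectGroup hM (cbIrr Q x ξ) D' hD', hbd, ← card_defectGroup hM ξ D hD]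

/-- **Fully centralized subgroups of the fusion system of a block.** -/
theorem fullyCentralized_iff {p : ℕ} [hp : Fact p.Prime] (hM : IsPModular p M)
    (B : Set (IrrCharacter G)) (P : Subgroup G)
    (e : Set (IrrCharacter (Subgroup.centralizer (P : Set G)))) (F : FusionSystem P)
    (hF : IsBlockFusionSystemOn p M B P e F) (Q : Subgroup G)
    (f : Set (IrrCharacter (Subgroup.centralizer (Q : Set G)))) (hQP : Q ≤ P)
    (hf : IsPBlock M f) (hle : SubpairLE p M Q f P e) :
    F.IsFullyCentralized Q ↔ IsDefectGroup p M f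
      ((P ⊓ Subgroup.centralizer (Q : Set G)).subgroupOf (Subgroup.centralizer (Q : Set G))) := by
  have hmax := hF.1
  have hPe := hmax.1.1
  constructor
  · rintro ⟨_, hfc⟩
    obtain ⟨x, hx, hdx⟩ := exists_conj_defect hM B P Q e f hmax hle
    have hconj : F.IsConj Q (Q.map (MulAut.conj x).toMonoidHom) :=
      (isConj_iff hM B P e F hF Q f hle _).mpr ⟨x, rfl, hx⟩
    have h1 := hfc _ hconj
    unfold FusionSystem.centralizerIn at h1
    obtain ⟨D, hD, hsub⟩ := centralizer_le_defect hM P Q e f hPe hle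
    have hc := card_defect_conj hM Q x f hf D hD _ hdx
    have heq := Subgroup.eq_of_le_of_card_ge hsub (by
      rw [← hc, card_inf_subgroupOf, card_inf_subgroupOf]
      exact h1)
    rw [heq]
    exact hD
  · intro hd
    refine ⟨hQP, fun Q' hQ' => ?_⟩
    obtain ⟨g, rfl, hg⟩ := (isConj_iff hM B P e F hF Q f hle Q').mp hQ'
    obtain ⟨D'', hD'', hsub⟩ := centralizer_le_defect hM P _ e _ hPe hg
    have hc := card_defect_conj hM Q g f hf _ hd D'' hD''
    unfold FusionSystem.centralizerIn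
    rw [← card_inf_subgroupOf, ← card_inf_subgroupOf P (Subgroup.centralizer (Q : Set G)), ← hc]
    exact Subgroup.card_le_of_le hsub

omit [Fintype G] in
theorem map_conj_inf_centralizer (Q : Subgroup G) (x : G) :
    (Q ⊓ Subgroup.centralizer (Q : Set G)).map (MulAut.conj x).toMonoidHom
      = Q.map (MulAut.conj x).toMonoidHom ⊓ Subgroup.centralizer
        ((Q.map (MulAut.conj x).toMonoidHom : Subgroup G) : Set G) := by
  ext a
  constructor
  · rintro ⟨b, hb, rfl⟩
    exact ⟨⟨b, hb.1, rfl⟩, conj_mem_centralizer_map Q x b hb.2⟩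
  · rintro ⟨⟨b, hb, rfl⟩, h2⟩
    refine ⟨b, ⟨hb, ?_⟩, rfl⟩
    have := conj_inv_mem_centralizer Q x _ h2
    have e1 : x⁻¹ * ((MulAut.conj x).toMonoidHom b) * x = b := by
      simp [MulAut.conj_apply, mul_assoc]
    rwa [e1] at this

/-- **Centric subgroups of the fusion system of a block.** -/
theorem centric_iff {p : ℕ} [hp : Fact p.Prime] (hM : IsPModular p M)
    (B : Set (IrrCharacter G)) (P : Subgroup G)
    (e : Set (IrrCharacter (Subgroup.centralizer (P : Set G)))) (F : FusionSystem P)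
    (hF : IsBlockFusionSystemOn p M B P e F) (Q : Subgroup G)
    (f : Set (IrrCharacter (Subgroup.centralizer (Q : Set G)))) (hQP : Q ≤ P)
    (hf : IsPBlock M f) (hle : SubpairLE p M Q f P e) :
    F.IsCentric Q ↔ IsDefectGroup p M f
      ((Q ⊓ Subgroup.centralizer (Q : Set G)).subgroupOf (Subgroup.centralizer (Q : Set G))) := by
  have hmax := hF.1
  have hPe := hmax.1.1
  have hcardZ : ∀ x : G, Nat.card (Q.map (MulAut.conj x).toMonoidHom ⊓ Subgroup.centralizer
        ((Q.map (MulAut.conj x).toMonoidHom : Subgroup G) : Set G) : Subgroup G)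
      = Nat.card (Q ⊓ Subgroup.centralizer (Q : Set G) : Subgroup G) := by
    intro x
    rw [← map_conj_inf_centralizer, Subgroup.card_map_of_injective (MulAut.conj x).injective]
  constructor
  · rintro ⟨_, hcen⟩
    obtain ⟨x, hx, hdx⟩ := exists_conj_defect hM B P Q e f hmax hle
    have hconj : F.IsConj Q (Q.map (MulAut.conj x).toMonoidHom) :=
      (isConj_iff hM B P e F hF Q f hle _).mpr ⟨x, rfl, hx⟩
    have h1 := hcen _ hconj
    unfold FusionSystem.centralizerIn at h1
    have hQxP : Q.map (MulAut.conj x).toMonoidHom ≤ P := le_fst hx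
    have h2 : P ⊓ Subgroup.centralizer
        ((Q.map (MulAut.conj x).toMonoidHom : Subgroup G) : Set G)
        = Q.map (MulAut.conj x).toMonoidHom ⊓ Subgroup.centralizer
        ((Q.map (MulAut.conj x).toMonoidHom : Subgroup G) : Set G) :=
      le_antisymm (le_inf h1 inf_le_right) (inf_le_inf_right _ hQxP)
    obtain ⟨D, hD, hsub⟩ := centralizer_le_defect hM P Q e f hPe hle
    have hc := card_defect_conj hM Q x f hf D hD _ hdx
    have hsub2 : (Q ⊓ Subgroup.centralizer (Q : Set G)).subgroupOf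
        (Subgroup.centralizer (Q : Set G)) ≤ D := by
      intro a ha
      apply hsub
      rw [Subgroup.mem_subgroupOf] at ha ⊢
      exact ⟨hQP ha.1, ha.2⟩
    have heq := Subgroup.eq_of_le_of_card_ge hsub2 (by
      rw [← hc, card_inf_subgroupOf, card_inf_subgroupOf, h2, hcardZ])
    rw [heq]
    exact hD
  · intro hd
    refine ⟨hQP, fun Q' hQ' => ?_⟩
    obtain ⟨g, rfl, hg⟩ := (isConj_iff hM B P e F hF Q f hle Q').mp hQ'
    obtain ⟨D'', hD'', hsub⟩ := centralizer_le_defect hM P _ e _ hPe hg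
    have hc := card_defect_conj hM Q g f hf _ hd D'' hD''
    have hQgP : Q.map (MulAut.conj g).toMonoidHom ≤ P := le_fst hg
    have hsub2 : (Q.map (MulAut.conj g).toMonoidHom ⊓ Subgroup.centralizer
        ((Q.map (MulAut.conj g).toMonoidHom : Subgroup G) : Set G)).subgroupOf
        (Subgroup.centralizer ((Q.map (MulAut.conj g).toMonoidHom : Subgroup G) : Set G))
        ≤ D'' := by
      intro a ha
      apply hsub
      rw [Subgroup.mem_subgroupOf] at ha ⊢
      exact ⟨hQgP ha.1, ha.2⟩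
    have heq := Subgroup.eq_of_le_of_card_ge hsub2 (by
      rw [hc, card_inf_subgroupOf, card_inf_subgroupOf, hcardZ])
    unfold FusionSystem.centralizerIn
    intro a ha
    have h3 : (⟨a, ha.2⟩ : Subgroup.centralizer
        ((Q.map (MulAut.conj g).toMonoidHom : Subgroup G) : Set G)) ∈ D'' :=
      hsub (Subgroup.mem_subgroupOf.mpr ha)
    rw [← heq, Subgroup.mem_subgroupOf] at h3
    exact h3.1

end Fusion

section FullyNormalized

variable {G : Type u} [Group G] [Fintype G] {M : Ideal AlgInt}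

/-- `N_P(Q)` stabilizes `f`, and `f` has a unit coefficient on `C_G(N_P(Q))`. -/
theorem normalizer_unit {p : ℕ} [hp : Fact p.Prime] (hM : IsPModular p M)
    (P Q : Subgroup G) (e : Set (IrrCharacter (Subgroup.centralizer (P : Set G))))
    (f : Set (IrrCharacter (Subgroup.centralizer (Q : Set G))))
    (hPe : IsBrauerPair p M P e) (hle : SubpairLE p M Q f P e) :
    (∀ y ∈ P ⊓ Subgroup.normalizer (Q : Set G),
      StabilizesBlock (Subgroup.centralizer (Q : Set G)) f y) ∧
    ∃ c : G, c ∈ Subgroup.centralizer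
      ((P ⊓ Subgroup.normalizer (Q : Set G) : Subgroup G) : Set G) ∧
      ¬ MemLocalIdeal M (subgroupBlockCoeff (Subgroup.centralizer (Q : Set G)) f c) := by
  classical
  haveI : Fintype (Subgroup.centralizer (Q : Set G)) := Fintype.ofFinite _
  have hMm := hM.2.1
  have hQP : Q ≤ P := le_fst hle
  set R : Subgroup G := P ⊓ Subgroup.normalizer (Q : Set G) with hR
  have hRP : R ≤ P := inf_le_left
  have hRN : R ≤ Subgroup.normalizer (Q : Set G) := inf_le_right
  have hQR : Q ≤ R := le_inf hQP Subgroup.le_normalizer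
  obtain ⟨g, hg⟩ := exists_le hM _ P e hPe R hRP rfl
  have hRg : IsBrauerPair p M R g := isBrauerPair_of_le hg hPe
  obtain ⟨f₁, hf₁⟩ := exists_le hM _ R g hRg Q hQR rfl
  have hff : f = f₁ := unique_le hM _ P e hPe Q f f₁ rfl hle (hf₁.trans hg)
  subst hff
  have hn := normal_of_le hM Q R f g hf₁ hRg hRN
  refine ⟨hn.2.2.2.2.1, ?_⟩
  obtain ⟨ξ', hgeq⟩ := hRg.2
  have hξ'g : ξ' ∈ g := hgeq ▸ self_mem_blockOf hMm ξ'
  have hom := hn.2.2.2.2.2 ξ' hξ'g
  have hCRL : Subgroup.centralizer (R : Set G) ≤ Subgroup.centralizer (Q : Set G) :=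
    Subgroup.centralizer_le hQR
  by_contra hcon
  push Not at hcon
  haveI : Fintype (Subgroup.centralizer (R : Set G)) := Fintype.ofFinite _
  rw [brauerOmega_eq_om] at hom
  have hcf : IsClassFunction (Subgroup.centralizer (R : Set G))
      (fun h : Subgroup.centralizer (R : Set G) =>
        subgroupBlockCoeff (Subgroup.centralizer (Q : Set G)) f (h : G)) := by
    intro h t
    show subgroupBlockCoeff (Subgroup.centralizer (Q : Set G)) f ((t * h * t⁻¹ : _) : G)
      = subgroupBlockCoeff (Subgroup.centralizer (Q : Set G)) f (h : G)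
    rw [subgroupBlockCoeff_of_mem _ f _ (hCRL (t * h * t⁻¹).2),
      subgroupBlockCoeff_of_mem _ f _ (hCRL h.2)]
    exact blockCoeff_isClassFunction f ⟨h, hCRL h.2⟩ ⟨t, hCRL t.2⟩
  have h1 := memLocalIdeal_om hMm ξ'.2 hcf (fun h => hcon h h.2)
  have := memLocalIdeal_sub hMm h1 hom
  rw [sub_sub_cancel] at this
  exact not_memLocalIdeal_one hMm this

/-- Stability transports backwards along conjugation. -/
theorem stabilizes_conj_back (Q : Subgroup G) (g : G)
    (f : Set (IrrCharacter (Subgroup.centralizer (Q : Set G)))) (y' : G)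
    (hyN : g⁻¹ * y' * g ∈ Subgroup.normalizer (Q : Set G))
    (hst : StabilizesBlock (Subgroup.centralizer
      ((Q.map (MulAut.conj g).toMonoidHom : Subgroup G) : Set G)) (conjBlock Q g f) y') :
    StabilizesBlock (Subgroup.centralizer (Q : Set G)) f (g⁻¹ * y' * g) := by
  refine ⟨normalizer_le_normalizer_centralizer Q hyN, ?_⟩
  intro χ hχ
  have hχ' : cbIrr Q g χ ∈ conjBlock Q g f := by
    rw [mem_conjBlock_iff', cbIrr'_cbIrr]
    exact hχ
  obtain ⟨ψ', hψ', hconj⟩ := hst.2 _ hχ'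
  refine ⟨cbIrr' Q g ψ', (mem_conjBlock_iff' Q g f ψ').mp hψ', ?_⟩
  intro k k' hk
  rw [cbIrr'_apply]
  have h3 := hconj (centEquiv Q g k) (centEquiv Q g k') (by
    rw [centEquiv_coe, centEquiv_coe, hk]
    group)
  rw [h3, cbIrr_apply, MulEquiv.symm_apply_apply]

/-- **Fully normalized subgroups of the fusion system of a block.** -/
theorem fullyNormalized_iff {p : ℕ} [hp : Fact p.Prime] (hM : IsPModular p M)
    (B : Set (IrrCharacter G)) (P : Subgroup G)
    (e : Set (IrrCharacter (Subgroup.centralizer (P : Set G)))) (F : FusionSystem P)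
    (hF : IsBlockFusionSystemOn p M B P e F) (Q : Subgroup G)
    (f : Set (IrrCharacter (Subgroup.centralizer (Q : Set G)))) (hQP : Q ≤ P)
    (hf : IsPBlock M f) (hle : SubpairLE p M Q f P e) (T : Subgroup G)
    (hT : ∀ y : G, y ∈ T ↔ y ∈ Subgroup.normalizer (Q : Set G) ∧
      StabilizesBlock (Subgroup.centralizer (Q : Set G)) f y) :
    F.IsFullyNormalized Q ↔ ∃ F' : Set (IrrCharacter T), IsPBlock M F' ∧
      (∀ t : T, blockCoeff F' t
        = subgroupBlockCoeff (Subgroup.centralizer (Q : Set G)) f (t : G)) ∧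
      IsDefectGroup p M F' ((P ⊓ Subgroup.normalizer (Q : Set G)).subgroupOf T) := by
  classical
  haveI : Fintype T := Fintype.ofFinite _
  have hMm := hM.2.1
  have hmax := hF.1
  have hPe := hmax.1.1
  have hB := hmax.1.2.1
  have hQ : IsPGroup p Q := hPe.1.to_le hQP
  constructor
  · rintro ⟨_, hfn⟩
    obtain ⟨F', hF', hF'e⟩ := exists_stabilizer_block hM Q hQ f hf T hT
    obtain ⟨hRT, D, hD, hsub⟩ := normalizer_le_defect hM P Q e f hPe hle T hT F' hF' hF'e
    have hQfB : IsBrauerPairOf p M B Q f :=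
      (brauerPairOf_iff_of_le hM B hB ⟨Q, f⟩ ⟨P, e⟩ hle).mp hmax.1
    obtain ⟨y, hy, hcard⟩ := exists_conj_card_le hM B P Q e f hmax hQfB T hT F' hF' hF'e D hD
    have hconj : F.IsConj Q (Q.map (MulAut.conj y).toMonoidHom) :=
      (isConj_iff hM B P e F hF Q f hle _).mpr ⟨y, rfl, hy⟩
    have h1 := hfn _ hconj
    unfold FusionSystem.normalizerIn at h1
    have hcard2 : Nat.card ((P ⊓ Subgroup.normalizer (Q : Set G)).subgroupOf T)
        = Nat.card (P ⊓ Subgroup.normalizer (Q : Set G) : Subgroup G) :=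
      Nat.card_congr (Subgroup.subgroupOfEquivOfLe hRT).toEquiv
    have heq := Subgroup.eq_of_le_of_card_ge hsub (by rw [hcard2]; exact hcard.trans h1)
    refine ⟨F', hF', hF'e, ?_⟩
    rw [heq]
    exact hD
  · rintro ⟨F', hF', hF'e, hd⟩
    refine ⟨hQP, fun Q' hQ' => ?_⟩
    obtain ⟨g, rfl, hg⟩ := (isConj_iff hM B P e F hF Q f hle Q').mp hQ'
    unfold FusionSystem.normalizerIn
    obtain ⟨hst', c', hc', hcu'⟩ := normalizer_unit hM P _ e _ hPe hg
    set R' : Subgroup G := P ⊓ Subgroup.normalizer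
      ((Q.map (MulAut.conj g).toMonoidHom : Subgroup G) : Set G) with hR'
    set R : Subgroup G := R'.map (MulAut.conj g⁻¹).toMonoidHom with hR
    have hQQ : (Q.map (MulAut.conj g).toMonoidHom).map (MulAut.conj g⁻¹).toMonoidHom = Q := by
      rw [map_conj_mul, inv_mul_cancel]
      ext a
      rw [mem_map_conj'']
      simp
    have hRN : R ≤ Subgroup.normalizer (Q : Set G) := by
      have := map_conj_le_normalizer (Q.map (MulAut.conj g).toMonoidHom) R' g⁻¹
        (inf_le_right : R' ≤ _)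
      rwa [hQQ] at this
    have hRp : IsPGroup p R := (hPe.1.to_le (inf_le_left : R' ≤ P)).map _
    have hRT : R ≤ T := by
      rintro _ ⟨y', hy', rfl⟩
      have hmem : (MulAut.conj g⁻¹).toMonoidHom y' ∈ R := ⟨y', hy', rfl⟩
      have e1 : (MulAut.conj g⁻¹).toMonoidHom y' = g⁻¹ * y' * g := by
        simp
      rw [e1] at hmem ⊢
      exact (hT _).mpr ⟨hRN hmem, stabilizes_conj_back Q g f y' (hRN hmem) (hst' y' hy')⟩
    set c : G := g⁻¹ * c' * g with hc
    have hcR : c ∈ Subgroup.centralizer (R : Set G) := by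
      rw [Subgroup.mem_centralizer_iff]
      rintro _ ⟨y', hy', rfl⟩
      have := Subgroup.mem_centralizer_iff.mp hc' y' hy'
      simp only [MulEquiv.coe_toMonoidHom, MulAut.conj_apply, inv_inv]
      calc g⁻¹ * y' * g * (g⁻¹ * c' * g) = g⁻¹ * (y' * c') * g := by group
        _ = g⁻¹ * (c' * y') * g := by rw [this]
        _ = g⁻¹ * c' * g * (g⁻¹ * y' * g) := by group
    have hcu : ¬ MemLocalIdeal M (subgroupBlockCoeff (Subgroup.centralizer (Q : Set G)) f c) := by
      have := sbc_conjBlock Q g f c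
      have e2 : g * c * g⁻¹ = c' := by rw [hc]; group
      rw [e2] at this
      rw [← this]
      exact hcu'
    have hcL : c ∈ Subgroup.centralizer (Q : Set G) := by
      by_contra hcon
      apply hcu
      unfold subgroupBlockCoeff
      rw [dif_neg hcon]
      exact memLocalIdeal_zero hMm
    have hLT : Subgroup.centralizer (Q : Set G) ≤ T := fun l hl =>
      (hT l).mpr ⟨Subgroup.centralizer_le_normalizer _ hl,
        stabilizes_of_mem_sup Q f l
          ((le_sup_right : _ ≤ Q ⊔ Subgroup.centralizer (Q : Set G)) hl)⟩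
    have hcT : c ∈ T := hLT hcL
    have hcu2 : ¬ MemLocalIdeal M (blockCoeff F' ⟨c, hcT⟩) := by
      rw [hF'e]
      exact hcu
    obtain ⟨ζ, rfl⟩ := hF'
    obtain ⟨g₀, hg₀, S, hS⟩ := id hd
    have hE : IsPGroup p (R.subgroupOf T) :=
      hRp.comap_of_injective _ (Subgroup.subtype_injective _)
    have hEc : R.subgroupOf T ≤ Subgroup.centralizer ({⟨c, hcT⟩} : Set T) := by
      intro y hy
      rw [Subgroup.mem_centralizer_singleton_iff]
      have := Subgroup.mem_centralizer_iff.mp hcR (y : G) (Subgroup.mem_subgroupOf.mp hy)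
      exact Subtype.ext this
    obtain ⟨x, hx⟩ := minmax_support hM ζ g₀ hg₀ S ⟨c, hcT⟩ hcu2 _ hE hEc
    have h5 := Subgroup.card_le_of_le hx
    rw [Subgroup.card_map_of_injective (MulAut.conj x).injective, ← hS] at h5
    have hRTcard : Nat.card (R.subgroupOf T) = Nat.card R :=
      Nat.card_congr (Subgroup.subgroupOfEquivOfLe hRT).toEquiv
    have hRcard : Nat.card R = Nat.card R' :=
      Subgroup.card_map_of_injective (MulAut.conj g⁻¹).injective
    have hNT : P ⊓ Subgroup.normalizer (Q : Set G) ≤ T :=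
      (normalizer_le_defect hM P Q e f hPe hle T hT _ ⟨ζ, rfl⟩ hF'e).1
    have hcard2 : Nat.card ((P ⊓ Subgroup.normalizer (Q : Set G)).subgroupOf T)
        = Nat.card (P ⊓ Subgroup.normalizer (Q : Set G) : Subgroup G) :=
      Nat.card_congr (Subgroup.subgroupOfEquivOfLe hNT).toEquiv
    rw [← hRcard, ← hRTcard, ← hcard2]
    exact h5

end FullyNormalized

end Cfsg.Agent.Lib.Helper2_BlockFusion
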