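import Mathlib
import Cfsg.Prelude.Def_Characters
import Cfsg.Prelude.Def_Blocks
import Cfsg.Prelude.Def_BlockRank
import Cfsg.Prelude.Def_BlockLocal
import Cfsg.Prelude.Def_BrauerPairs
import Cfsg.Agent.Lib.Helper2_ClassFn
import Cfsg.Agent.Lib.Helper2_CharBasic
import Cfsg.Agent.Lib.Helper2_CharOrtho
import Cfsg.Agent.Lib.Helper2_Clifford
import Cfsg.Agent.Lib.Helper2_CharMore
import Cfsg.Agent.Lib.Helper2_CharDeg
import Cfsg.Agent.Lib.Helper2_CharInd
import Cfsg.Agent.Lib.Helper2_CharExtra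
import Cfsg.Agent.Lib.Helper2_CharInt
import Cfsg.Agent.Lib.Helper2_CharValues
import Cfsg.Agent.Lib.Helper2_CharSum
import Cfsg.Agent.Lib.Helper2_CharComplete
import Cfsg.Agent.Lib.Helper2_CharTable
import Cfsg.Agent.Lib.Helper2_CharCentral
import Cfsg.Agent.Lib.Helper2_ModM
import Cfsg.Agent.Lib.Helper2_Blocks
import Cfsg.Agent.Lib.Helper2_BlockOrtho
import Cfsg.Agent.Lib.Helper2_BlockMore
import Cfsg.Agent.Lib.Helper2_DefectGroup
import Cfsg.Agent.Lib.Helper2_DefectPCore
import Cfsg.Agent.Lib.Helper2_MinMax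
import Cfsg.Agent.Lib.Helper2_InducedBlock
import Cfsg.Agent.Lib.Helper2_BrauerMap
import Cfsg.Agent.Lib.Helper2_InducedDefect
import Cfsg.Agent.Lib.Helper2_BrauerFirst
import Cfsg.Agent.Lib.Helper2_BrauerConverse
import Cfsg.Agent.Lib.Helper2_SylowConj
import Cfsg.Agent.Lib.Helper2_BlockCover
import Cfsg.Agent.Lib.Helper2_BlockConj
import Cfsg.Agent.Lib.Helper2_FirstMain
import Cfsg.Agent.Lib.Helper2_BlockNormal
import Cfsg.Agent.Lib.Helper2_BlockCount
import Cfsg.Agent.Lib.Helper2_BlockCount2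
import Cfsg.Agent.Lib.Helper2_BlockKer
import Cfsg.Agent.Lib.Helper2_PRegCount
import Cfsg.Agent.Lib.Helper2_ExtFirstMain
import Cfsg.Agent.Lib.Helper2_ThirdMain
import Cfsg.Agent.Lib.Helper2_Fong
import Cfsg.Agent.Lib.Helper2_BrauerPairs
import Cfsg.Agent.Lib.Helper2_BrauerInv
import Cfsg.Agent.Lib.Helper2_Conj
import Cfsg.Agent.Lib.Helper2_BrauerChain
import Cfsg.Agent.Lib.Helper2_BrauerPrincipal
import Cfsg.Agent.Lib.Helper2_BrauerMax
import Cfsg.Agent.Lib.Helper2_BrauerConjMax
import Cfsg.Agent.Lib.Helper2_BrauerLocal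
import Cfsg.Agent.Lib.Helper2_BrauerStab


set_option autoImplicit false

/-!
# The block over a normal p-subgroup as a trace of a centralizer block
-/

namespace Cfsg.Agent.Lib.Helper2_BlockTrace

open Cfsg
open Cfsg.Agent.Lib.Helper2_ClassFn
open Cfsg.Agent.Lib.Helper2_CharBasic
open Cfsg.Agent.Lib.Helper2_CharOrtho
open Cfsg.Agent.Lib.Helper2_Clifford
open Cfsg.Agent.Lib.Helper2_CharMore
open Cfsg.Agent.Lib.Helper2_CharDeg
open Cfsg.Agent.Lib.Helper2_CharInd
open Cfsg.Agent.Lib.Helper2_CharExtra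
open Cfsg.Agent.Lib.Helper2_CharValues
open Cfsg.Agent.Lib.Helper2_CharSum
open Cfsg.Agent.Lib.Helper2_CharComplete
open Cfsg.Agent.Lib.Helper2_CharTable
open Cfsg.Agent.Lib.Helper2_CharCentral
open Cfsg.Agent.Lib.Helper2_ModM
open Cfsg.Agent.Lib.Helper2_Blocks
open Cfsg.Agent.Lib.Helper2_BlockOrtho
open Cfsg.Agent.Lib.Helper2_BlockMore
open Cfsg.Agent.Lib.Helper2_DefectGroup
open Cfsg.Agent.Lib.Helper2_DefectPCore
open Cfsg.Agent.Lib.Helper2_MinMax
open Cfsg.Agent.Lib.Helper2_InducedBlock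
open Cfsg.Agent.Lib.Helper2_BrauerMap
open Cfsg.Agent.Lib.Helper2_InducedDefect
open Cfsg.Agent.Lib.Helper2_BrauerFirst
open Cfsg.Agent.Lib.Helper2_BrauerConverse
open Cfsg.Agent.Lib.Helper2_SylowConj
open Cfsg.Agent.Lib.Helper2_BlockCover
open Cfsg.Agent.Lib.Helper2_BlockConj
open Cfsg.Agent.Lib.Helper2_FirstMain
open Cfsg.Agent.Lib.Helper2_BlockNormal
open Cfsg.Agent.Lib.Helper2_BlockCount
open Cfsg.Agent.Lib.Helper2_BlockCount2
open Cfsg.Agent.Lib.Helper2_BlockKer
open Cfsg.Agent.Lib.Helper2_PRegCount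
open Cfsg.Agent.Lib.Helper2_ExtFirstMain
open Cfsg.Agent.Lib.Helper2_ThirdMain
open Cfsg.Agent.Lib.Helper2_Fong
open Cfsg.Agent.Lib.Helper2_BrauerPairs
open Cfsg.Agent.Lib.Helper2_BrauerInv
open Cfsg.Agent.Lib.Helper2_BrauerChain
open Cfsg.Agent.Lib.Helper2_BrauerPrincipal
open Cfsg.Agent.Lib.Helper2_BrauerMax
open Cfsg.Agent.Lib.Helper2_BrauerConjMax
open Cfsg.Agent.Lib.Helper2_BrauerLocal
open Cfsg.Agent.Lib.Helper2_BrauerStab
open scoped ComplexConjugate

universe u

section Transport2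

variable {K₁ K₂ : Type u} [Group K₁] [Group K₂] {M : Ideal AlgInt}

/-- Transport of an irreducible character along an isomorphism. -/
noncomputable def trIrr (ψ : K₁ ≃* K₂) (θ : IrrCharacter K₂) : IrrCharacter K₁ :=
  ⟨fun k => (θ : K₂ → ℂ) (ψ k), IsIrrCharacter.comp_mulEquiv θ.2 ψ⟩

theorem trIrr_apply (ψ : K₁ ≃* K₂) (θ : IrrCharacter K₂) (k : K₁) :
    (trIrr ψ θ : K₁ → ℂ) k = (θ : K₂ → ℂ) (ψ k) := rfl

theorem trIrr_symm_trIrr (ψ : K₁ ≃* K₂) (θ : IrrCharacter K₂) :
    trIrr ψ.symm (trIrr ψ θ) = θ := by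
  apply Subtype.ext
  funext k
  rw [trIrr_apply, trIrr_apply, MulEquiv.apply_symm_apply]

theorem trIrr_trIrr_symm (ψ : K₁ ≃* K₂) (θ : IrrCharacter K₁) :
    trIrr ψ (trIrr ψ.symm θ) = θ := by
  apply Subtype.ext
  funext k
  rw [trIrr_apply, trIrr_apply, MulEquiv.symm_apply_apply]

theorem trIrr_injective (ψ : K₁ ≃* K₂) : Function.Injective (trIrr ψ) := by
  intro a b h
  have := congrArg (trIrr ψ.symm) h
  rwa [trIrr_symm_trIrr, trIrr_symm_trIrr] at this

theorem blockOf_trIrr (ψ : K₁ ≃* K₂) (θ : IrrCharacter K₂) :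
    blockOf M (trIrr ψ θ : K₁ → ℂ) = trIrr ψ '' blockOf M (θ : K₂ → ℂ) := by
  ext χ
  constructor
  · intro h
    refine ⟨trIrr ψ.symm χ, ?_, trIrr_trIrr_symm ψ χ⟩
    apply (sameBlock_comp_equiv_iff (M := M) (θ : K₂ → ℂ) (trIrr ψ.symm χ : K₂ → ℂ) ψ).mp
    have e1 : (fun x => (trIrr ψ.symm χ : K₂ → ℂ) (ψ x)) = (χ : K₁ → ℂ) := by
      funext x
      rw [trIrr_apply, MulEquiv.symm_apply_apply]
    rw [e1]
    exact h
  · rintro ⟨θ', hθ', rfl⟩
    exact (sameBlock_comp_equiv_iff (M := M) (θ : K₂ → ℂ) (θ' : K₂ → ℂ) ψ).mpr hθ'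

theorem blockCoeff_image_trIrr (ψ : K₁ ≃* K₂) (f : Set (IrrCharacter K₂)) (k : K₁) :
    blockCoeff (trIrr ψ '' f) k = blockCoeff f (ψ k) := by
  unfold blockCoeff
  rw [finsum_mem_image (fun a _ b _ hab => trIrr_injective ψ hab), Nat.card_congr ψ.toEquiv]
  congr 1
  refine finsum_congr fun θ => ?_
  refine finsum_congr fun _ => ?_
  rw [trIrr_apply, trIrr_apply, map_one]

end Transport2

section CjCongr

variable {G : Type u} [Group G]

theorem cjSet_congr (N₁ N₂ H : Subgroup G) (h₁ : N₁ ≤ Subgroup.normalizer (H : Set G))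
    (h₂ : N₂ ≤ Subgroup.normalizer (H : Set G)) (d₁ : N₁) (d₂ : N₂) (hd : (d₁ : G) = (d₂ : G))
    (f : Set (IrrCharacter H)) : cjSet N₁ H h₁ d₁ f = cjSet N₂ H h₂ d₂ f := by
  unfold cjSet
  congr 1
  funext χ
  apply Subtype.ext
  funext h
  rw [cjIrr_apply, cjIrr_apply]
  have e1 : (cj N₁ H h₁ d₁).symm h = (cj N₂ H h₂ d₂).symm h := by
    apply Subtype.ext
    rw [cj_symm_coe, cj_symm_coe, hd]
  rw [e1]

end CjCongr

section Trace

variable {G : Type u} [Group G] [Fintype G] {M : Ideal AlgInt}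

omit [Fintype G] in
theorem mem_normalizer_of_normal (P : Subgroup G) [hn : P.Normal] (x : G) :
    x ∈ Subgroup.normalizer (P : Set G) := by
  rw [Subgroup.mem_normalizer_iff]
  intro h
  constructor
  · intro hh
    exact hn.conj_mem h hh x
  · intro hh
    have := hn.conj_mem _ hh x⁻¹
    have e1 : x⁻¹ * (x * h * x⁻¹) * x⁻¹⁻¹ = h := by group
    rwa [e1] at this

open Classical in
/-- When `N` is all of `G`, the central character induced from `N` is the central character of the
transported character. -/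
theorem inducedCentralChar_of_top (N : Subgroup G) [Fintype N] (hN : ∀ x : G, x ∈ N)
    (ζ : IrrCharacter N) (χ' : IrrCharacter G)
    (hχ' : ∀ n : N, (χ' : G → ℂ) (n : G) = (ζ : N → ℂ) n) (x : G) :
    inducedCentralChar N (ζ : N → ℂ) x = centralChar (χ' : G → ℂ) x := by
  rw [inducedCentralChar_eq_sum]
  let ψ : N ≃ G :=
    { toFun := fun n => (n : G)
      invFun := fun y => ⟨y, hN y⟩
      left_inv := fun n => rfl
      right_inv := fun y => rfl }
  have h1 : (ζ : N → ℂ) 1 = (χ' : G → ℂ) 1 := (hχ' 1).symm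
  have hcf := IsCharacter.isClassFunction (IsIrrCharacter.isCharacter χ'.2)
  rw [← Equiv.sum_comp ψ.symm]
  have h2 : ∀ y : G, (if IsConj x ((ψ.symm y : N) : G) then (ζ : N → ℂ) (ψ.symm y) / (ζ : N → ℂ) 1
      else 0) = if IsConj y x then (χ' : G → ℂ) x / (χ' : G → ℂ) 1 else 0 := by
    intro y
    have e0 : ((ψ.symm y : N) : G) = y := rfl
    rw [e0]
    by_cases hc : IsConj x y
    · rw [if_pos hc, if_pos hc.symm, h1, ← hχ' (ψ.symm y), e0]
      obtain ⟨c, hc'⟩ := isConj_iff.mp hc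
      rw [← hc', hcf x c]
    · rw [if_neg hc, if_neg (fun h => hc h.symm)]
  simp_rw [h2]
  rw [← Finset.sum_filter, Finset.sum_const, nsmul_eq_mul]
  unfold centralChar
  rw [index_centralizer_eq]
  ring

/-- **The block over a normal `p`-subgroup is the trace of a block of the centralizer.** -/
theorem blockCoeff_eq_trace {p : ℕ} [hp : Fact p.Prime] (hM : IsPModular p M)
    (P : Subgroup G) [hPn : P.Normal] (χ₀ : IrrCharacter G)
    (e : Set (IrrCharacter (Subgroup.centralizer (P : Set G))))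
    (hBe : IsBrauerPairOf p M (blockOf M (χ₀ : G → ℂ)) P e) (T : Subgroup G)
    (hT : ∀ x : G, x ∈ T ↔ StabilizesBlock (Subgroup.centralizer (P : Set G)) e x) (g : G) :
    blockCoeff (blockOf M (χ₀ : G → ℂ)) g = (Nat.card T : ℂ)⁻¹ *
      ∑ x : G, subgroupBlockCoeff (Subgroup.centralizer (P : Set G)) e (x⁻¹ * g * x) := by
  classical
  have hMm := hM.2.1
  haveI : Fintype (Subgroup.normalizer (P : Set G)) := Fintype.ofFinite _
  haveI : Fintype (Subgroup.centralizer (P : Set G)) := Fintype.ofFinite _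
  haveI : Fintype ((Subgroup.centralizer (P : Set G)).subgroupOf
    (Subgroup.normalizer (P : Set G))) := Fintype.ofFinite _
  haveI : Fintype T := Fintype.ofFinite _
  have hHN : Subgroup.centralizer (P : Set G) ≤ Subgroup.normalizer (P : Set G) :=
    Subgroup.centralizer_le_normalizer _
  have hNH : Subgroup.normalizer (P : Set G) ≤ Subgroup.normalizer
      ((Subgroup.centralizer (P : Set G) : Subgroup G) : Set G) :=
    normalizer_le_normalizer_centralizer P
  have hNtop : ∀ x : G, x ∈ Subgroup.normalizer (P : Set G) := mem_normalizer_of_normal P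
  have hP : IsPGroup p P := hBe.1.1
  obtain ⟨ξ, rfl⟩ := hBe.1.2
  obtain ⟨ζ, hζ, hind, _⟩ := exists_cover_induced hM χ₀ P ξ hBe
  -- the orbit sum is the idempotent of the block of `ζ`
  haveI hKn : ((Subgroup.centralizer (P : Set G)).subgroupOf
      (Subgroup.normalizer (P : Set G))).Normal :=
    (Subgroup.normal_subgroupOf_iff_le_normalizer hHN).mpr hNH
  haveI hPn' : (P.subgroupOf (Subgroup.normalizer (P : Set G))).Normal :=
    (Subgroup.normal_subgroupOf_iff_le_normalizer Subgroup.le_normalizer).mpr le_rfl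
  have hPXp : IsPGroup p (P.subgroupOf (Subgroup.normalizer (P : Set G))) :=
    hP.comap_of_injective (Subgroup.normalizer (P : Set G)).subtype
      (Subgroup.subtype_injective _)
  have hCK : Subgroup.centralizer
      ((P.subgroupOf (Subgroup.normalizer (P : Set G)) :
        Subgroup (Subgroup.normalizer (P : Set G))) : Set (Subgroup.normalizer (P : Set G)))
      ≤ (Subgroup.centralizer (P : Set G)).subgroupOf (Subgroup.normalizer (P : Set G)) := by
    intro x hx
    rw [Subgroup.mem_subgroupOf, Subgroup.mem_centralizer_iff]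
    intro y hy
    have := hx ⟨y, Subgroup.le_normalizer hy⟩ (Subgroup.mem_subgroupOf.mpr hy)
    exact congrArg Subtype.val this
  have key := eps_eq_blockCoeff (Subgroup.normalizer (P : Set G))
    (Subgroup.centralizer (P : Set G)) hNH hHN hM ξ ζ hζ
    (fun χ θ he n => induced_sub_centralChar_of_over hM
      (P.subgroupOf (Subgroup.normalizer (P : Set G)))
      ((Subgroup.centralizer (P : Set G)).subgroupOf (Subgroup.normalizer (P : Set G)))
      hPXp hCK χ θ he n)
  -- transport to `G`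
  let ψ : Subgroup.normalizer (P : Set G) ≃* G :=
    { toFun := fun n => (n : G)
      invFun := fun y => ⟨y, hNtop y⟩
      left_inv := fun n => rfl
      right_inv := fun y => rfl
      map_mul' := fun a b => rfl }
  set χ' : IrrCharacter G := trIrr ψ.symm ζ with hχ'def
  have hχ'B : χ' ∈ blockOf M (χ₀ : G → ℂ) := by
    intro x
    have h1 := hind.2.2 ζ (self_mem_blockOf hMm ζ) χ₀ (self_mem_blockOf hMm χ₀) x
    rw [inducedCentralChar_of_top (Subgroup.normalizer (P : Set G)) hNtop ζ χ'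
      (fun n => rfl) x] at h1
    have := memLocalIdeal_neg hMm h1
    rwa [neg_sub] at this
  have hB : blockOf M (χ₀ : G → ℂ) = blockOf M (χ' : G → ℂ) := (blockOf_eq_of_mem hMm hχ'B).symm
  have hζ' : ζ = trIrr ψ χ' := (trIrr_trIrr_symm ψ ζ).symm
  have h3 : blockCoeff (blockOf M (χ₀ : G → ℂ)) g
      = eps (Subgroup.normalizer (P : Set G)) (Subgroup.centralizer (P : Set G)) hNH
        (blockOf M (ξ : Subgroup.centralizer (P : Set G) → ℂ)) ⟨g, hNtop g⟩ := by
    rw [key, hB]
    conv_rhs => rw [hζ', blockOf_trIrr, blockCoeff_image_trIrr]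
    rfl
  rw [h3]
  unfold eps
  -- the right-hand side
  set e := blockOf M (ξ : Subgroup.centralizer (P : Set G) → ℂ) with he
  have hTH : T ≤ Subgroup.normalizer
      ((Subgroup.centralizer (P : Set G) : Subgroup G) : Set G) :=
    fun x hx => ((hT x).mp hx).1
  have hstabT := (stabilizes_iff T (Subgroup.centralizer (P : Set G)) hTH e).mp
    (fun x hx => (hT x).mp hx)
  have hR1 : ∑ x : G, subgroupBlockCoeff (Subgroup.centralizer (P : Set G)) e (x⁻¹ * g * x)
      = ∑ n : Subgroup.normalizer (P : Set G),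
        subgroupBlockCoeff (Subgroup.centralizer (P : Set G))
          (cjSet (Subgroup.normalizer (P : Set G)) (Subgroup.centralizer (P : Set G)) hNH n e)
          g := by
    rw [← Equiv.sum_comp ψ.toEquiv]
    refine Finset.sum_congr rfl fun n _ => ?_
    have := sbc_conj (Subgroup.normalizer (P : Set G)) (Subgroup.centralizer (P : Set G)) hNH n e
      ((n : G)⁻¹ * g * (n : G))
    have e1 : (n : G) * ((n : G)⁻¹ * g * (n : G)) * (n : G)⁻¹ = g := by group
    rw [e1] at this
    rw [this]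
    rfl
  rw [hR1]
  have horb : orb (Subgroup.normalizer (P : Set G)) (Subgroup.centralizer (P : Set G)) hNH e
      = Finset.univ.image (fun n : Subgroup.normalizer (P : Set G) =>
        cjSet (Subgroup.normalizer (P : Set G)) (Subgroup.centralizer (P : Set G)) hNH n e) := by
    ext β
    rw [mem_orb, Finset.mem_image]
    constructor
    · rintro ⟨n, h⟩
      exact ⟨n, Finset.mem_univ _, h⟩
    · rintro ⟨n, _, h⟩
      exact ⟨n, h⟩
  have hcomp := Finset.sum_comp (s := (Finset.univ : Finset (Subgroup.normalizer (P : Set G))))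
    (fun β : Set (IrrCharacter (Subgroup.centralizer (P : Set G))) =>
      subgroupBlockCoeff (Subgroup.centralizer (P : Set G)) β g)
    (fun n : Subgroup.normalizer (P : Set G) =>
      cjSet (Subgroup.normalizer (P : Set G)) (Subgroup.centralizer (P : Set G)) hNH n e)
  -- fibres have `|T|` elements
  have hfib : ∀ β ∈ orb (Subgroup.normalizer (P : Set G))
      (Subgroup.centralizer (P : Set G)) hNH e,
      (Finset.univ.filter (fun n : Subgroup.normalizer (P : Set G) =>
        cjSet (Subgroup.normalizer (P : Set G)) (Subgroup.centralizer (P : Set G)) hNH n e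
          = β)).card = Nat.card T := by
    intro β hβ
    obtain ⟨n₀, hn₀⟩ := (mem_orb _ _ hNH e β).mp hβ
    rw [Nat.card_eq_fintype_card, ← Finset.card_univ]
    apply Finset.card_bij (fun n hn => (⟨((n₀⁻¹ * n : Subgroup.normalizer (P : Set G)) : G), by
      rw [Finset.mem_filter] at hn
      rw [hT]
      apply stabilizesBlock_of_cjSet_eq (Subgroup.normalizer (P : Set G))
        (Subgroup.centralizer (P : Set G)) hNH e (n₀⁻¹ * n)
      rw [cjSet_mul, hn.2, ← hn₀, cjSet_inv_cjSet]⟩ : T))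
    · intro n hn
      exact Finset.mem_univ _
    · intro a ha b hb hab
      have h1 := Subtype.ext_iff.mp hab
      have h2 : n₀⁻¹ * a = n₀⁻¹ * b := Subtype.ext h1
      exact mul_left_cancel h2
    · intro t _
      refine ⟨n₀ * ⟨(t : G), hNtop t⟩, ?_, ?_⟩
      · rw [Finset.mem_filter]
        refine ⟨Finset.mem_univ _, ?_⟩
        rw [cjSet_mul, cjSet_congr (Subgroup.normalizer (P : Set G)) T
          (Subgroup.centralizer (P : Set G)) hNH hTH ⟨(t : G), hNtop t⟩ t rfl e, hstabT t, hn₀]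
      · apply Subtype.ext
        show ((n₀⁻¹ * (n₀ * ⟨(t : G), hNtop t⟩) : Subgroup.normalizer (P : Set G)) : G) = (t : G)
        rw [inv_mul_cancel_left]
  have hR2 : ∑ n : Subgroup.normalizer (P : Set G),
        subgroupBlockCoeff (Subgroup.centralizer (P : Set G))
          (cjSet (Subgroup.normalizer (P : Set G)) (Subgroup.centralizer (P : Set G)) hNH n e) g
      = (Nat.card T : ℂ) * ∑ β ∈ orb (Subgroup.normalizer (P : Set G))
          (Subgroup.centralizer (P : Set G)) hNH e,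
          subgroupBlockCoeff (Subgroup.centralizer (P : Set G)) β g := by
    rw [hcomp, ← horb, Finset.mul_sum]
    refine Finset.sum_congr rfl fun β hβ => ?_
    rw [hfib β hβ, nsmul_eq_mul]
  have hT0 : (Nat.card T : ℂ) ≠ 0 := by
    exact_mod_cast (Nat.card_pos (α := T)).ne'
  rw [hR2, ← mul_assoc, inv_mul_cancel₀ hT0, one_mul]

end Trace

end Cfsg.Agent.Lib.Helper2_BlockTrace
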