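import Mathlib
import Cfsg.Prelude.Def_Characters
import Cfsg.Prelude.Def_Blocks
import Cfsg.Prelude.Def_BlockRank
import Cfsg.Prelude.Def_BlockLocal
import Cfsg.Prelude.Def_BrauerPairs
import Cfsg.Agent.Lib.Helper2_ClassFn
import Cfsg.Agent.Lib.Helper2_CharBasic
import Cfsg.Agent.Lib.Helper2_CharOrtho
import Cfsg.Agent.Lib.Helper2_Clifford
import Cfsg.Agent.Lib.Helper2_CharMore
import Cfsg.Agent.Lib.Helper2_CharDeg
import Cfsg.Agent.Lib.Helper2_CharInd
import Cfsg.Agent.Lib.Helper2_CharExtra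
import Cfsg.Agent.Lib.Helper2_CharInt
import Cfsg.Agent.Lib.Helper2_CharValues
import Cfsg.Agent.Lib.Helper2_CharSum
import Cfsg.Agent.Lib.Helper2_CharComplete
import Cfsg.Agent.Lib.Helper2_CharTable
import Cfsg.Agent.Lib.Helper2_CharCentral
import Cfsg.Agent.Lib.Helper2_ModM
import Cfsg.Agent.Lib.Helper2_Blocks
import Cfsg.Agent.Lib.Helper2_BlockOrtho
import Cfsg.Agent.Lib.Helper2_BlockMore
import Cfsg.Agent.Lib.Helper2_DefectGroup
import Cfsg.Agent.Lib.Helper2_DefectPCore
import Cfsg.Agent.Lib.Helper2_MinMax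
import Cfsg.Agent.Lib.Helper2_InducedBlock
import Cfsg.Agent.Lib.Helper2_BrauerMap
import Cfsg.Agent.Lib.Helper2_InducedDefect
import Cfsg.Agent.Lib.Helper2_BrauerFirst
import Cfsg.Agent.Lib.Helper2_BrauerConverse
import Cfsg.Agent.Lib.Helper2_SylowConj
import Cfsg.Agent.Lib.Helper2_BlockCover
import Cfsg.Agent.Lib.Helper2_BlockConj
import Cfsg.Agent.Lib.Helper2_FirstMain
import Cfsg.Agent.Lib.Helper2_BlockNormal
import Cfsg.Agent.Lib.Helper2_BlockCount
import Cfsg.Agent.Lib.Helper2_BlockCount2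
import Cfsg.Agent.Lib.Helper2_BlockKer
import Cfsg.Agent.Lib.Helper2_PRegCount
import Cfsg.Agent.Lib.Helper2_ExtFirstMain
import Cfsg.Agent.Lib.Helper2_ThirdMain
import Cfsg.Agent.Lib.Helper2_Fong
import Cfsg.Agent.Lib.Helper2_BrauerPairs
import Cfsg.Agent.Lib.Helper2_BrauerInv
import Cfsg.Agent.Lib.Helper2_Conj
import Cfsg.Agent.Lib.Helper2_BrauerChain
import Cfsg.Agent.Lib.Helper2_BrauerPrincipal
import Cfsg.Agent.Lib.Helper2_BrauerMax
import Cfsg.Agent.Lib.Helper2_BrauerConjMax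
import Cfsg.Agent.Lib.Helper2_BrauerLocal
import Cfsg.Agent.Lib.Helper2_BrauerStab
import Cfsg.Agent.Lib.Helper2_BlockTrace
import Cfsg.Agent.Lib.Helper2_BlockFusion


set_option autoImplicit false

/-!
# Brauer pairs of blocks with abelian defect groups
-/

namespace Cfsg.Agent.Lib.Helper2_AbelianDefect

open Cfsg
open Cfsg.Agent.Lib.Helper2_ClassFn
open Cfsg.Agent.Lib.Helper2_CharBasic
open Cfsg.Agent.Lib.Helper2_CharOrtho
open Cfsg.Agent.Lib.Helper2_Clifford
open Cfsg.Agent.Lib.Helper2_CharMore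
open Cfsg.Agent.Lib.Helper2_CharDeg
open Cfsg.Agent.Lib.Helper2_CharInd
open Cfsg.Agent.Lib.Helper2_CharExtra
open Cfsg.Agent.Lib.Helper2_CharValues
open Cfsg.Agent.Lib.Helper2_CharSum
open Cfsg.Agent.Lib.Helper2_CharComplete
open Cfsg.Agent.Lib.Helper2_CharTable
open Cfsg.Agent.Lib.Helper2_CharCentral
open Cfsg.Agent.Lib.Helper2_ModM
open Cfsg.Agent.Lib.Helper2_Blocks
open Cfsg.Agent.Lib.Helper2_BlockOrtho
open Cfsg.Agent.Lib.Helper2_BlockMore
open Cfsg.Agent.Lib.Helper2_DefectGroup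
open Cfsg.Agent.Lib.Helper2_DefectPCore
open Cfsg.Agent.Lib.Helper2_MinMax
open Cfsg.Agent.Lib.Helper2_InducedBlock
open Cfsg.Agent.Lib.Helper2_BrauerMap
open Cfsg.Agent.Lib.Helper2_InducedDefect
open Cfsg.Agent.Lib.Helper2_BrauerFirst
open Cfsg.Agent.Lib.Helper2_BrauerConverse
open Cfsg.Agent.Lib.Helper2_SylowConj
open Cfsg.Agent.Lib.Helper2_BlockCover
open Cfsg.Agent.Lib.Helper2_BlockConj
open Cfsg.Agent.Lib.Helper2_FirstMain
open Cfsg.Agent.Lib.Helper2_BlockNormal
open Cfsg.Agent.Lib.Helper2_BlockCount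
open Cfsg.Agent.Lib.Helper2_BlockCount2
open Cfsg.Agent.Lib.Helper2_BlockKer
open Cfsg.Agent.Lib.Helper2_PRegCount
open Cfsg.Agent.Lib.Helper2_ExtFirstMain
open Cfsg.Agent.Lib.Helper2_ThirdMain
open Cfsg.Agent.Lib.Helper2_Fong
open Cfsg.Agent.Lib.Helper2_BrauerPairs
open Cfsg.Agent.Lib.Helper2_BrauerInv
open Cfsg.Agent.Lib.Helper2_BrauerChain
open Cfsg.Agent.Lib.Helper2_BrauerPrincipal
open Cfsg.Agent.Lib.Helper2_BrauerMax
open Cfsg.Agent.Lib.Helper2_BrauerConjMax
open Cfsg.Agent.Lib.Helper2_BrauerLocal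
open Cfsg.Agent.Lib.Helper2_BrauerStab
open Cfsg.Agent.Lib.Helper2_BlockTrace
open Cfsg.Agent.Lib.Helper2_BlockFusion
open scoped ComplexConjugate

universe u

section LocalGroup

variable {G : Type u} [Group G] [Fintype G] {M : Ideal AlgInt}

omit [Fintype G] in
theorem mem_centralizer_of_local (Q P : Subgroup G)
    (hPL : P ≤ Subgroup.centralizer (Q : Set G))
    (c : Subgroup.centralizer ((P.subgroupOf (Subgroup.centralizer (Q : Set G)) :
      Subgroup (Subgroup.centralizer (Q : Set G))) : Set (Subgroup.centralizer (Q : Set G)))) :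
    ((c : Subgroup.centralizer (Q : Set G)) : G) ∈ Subgroup.centralizer (P : Set G) := by
  rw [Subgroup.mem_centralizer_iff]
  intro y hy
  have := Subgroup.mem_centralizer_iff.mp c.2 ⟨y, hPL hy⟩ (Subgroup.mem_subgroupOf.mpr hy)
  exact congrArg Subtype.val this

omit [Fintype G] in
theorem mem_local_of_centralizer (Q P : Subgroup G) (hQP : Q ≤ P)
    (c : Subgroup.centralizer (P : Set G)) :
    (⟨(c : G), Subgroup.centralizer_le hQP c.2⟩ : Subgroup.centralizer (Q : Set G))
      ∈ Subgroup.centralizer ((P.subgroupOf (Subgroup.centralizer (Q : Set G)) :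
      Subgroup (Subgroup.centralizer (Q : Set G))) : Set (Subgroup.centralizer (Q : Set G))) := by
  rw [Subgroup.mem_centralizer_iff]
  intro y hy
  apply Subtype.ext
  exact Subgroup.mem_centralizer_iff.mp c.2 (y : G) (Subgroup.mem_subgroupOf.mp hy)

/-- The centralizer of `P` inside `C_G(Q)` is the centralizer of `P` in `G`, for `Q ≤ P`. -/
def centIso (Q P : Subgroup G) (hQP : Q ≤ P) (hPL : P ≤ Subgroup.centralizer (Q : Set G)) :
    Subgroup.centralizer ((P.subgroupOf (Subgroup.centralizer (Q : Set G)) :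
      Subgroup (Subgroup.centralizer (Q : Set G))) : Set (Subgroup.centralizer (Q : Set G)))
      ≃* Subgroup.centralizer (P : Set G) where
  toFun c := ⟨((c : Subgroup.centralizer (Q : Set G)) : G), mem_centralizer_of_local Q P hPL c⟩
  invFun c := ⟨⟨(c : G), Subgroup.centralizer_le hQP c.2⟩, mem_local_of_centralizer Q P hQP c⟩
  left_inv _ := rfl
  right_inv _ := rfl
  map_mul' _ _ := rfl

omit [Fintype G] in
theorem centIso_coe (Q P : Subgroup G) (hQP : Q ≤ P)
    (hPL : P ≤ Subgroup.centralizer (Q : Set G))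
    (c : Subgroup.centralizer ((P.subgroupOf (Subgroup.centralizer (Q : Set G)) :
      Subgroup (Subgroup.centralizer (Q : Set G))) : Set (Subgroup.centralizer (Q : Set G)))) :
    ((centIso Q P hQP hPL c : Subgroup.centralizer (P : Set G)) : G)
      = ((c : Subgroup.centralizer (Q : Set G)) : G) := rfl

/-- A pair `(P, e')` normally above `(Q, f)` is a Brauer pair of the block `f` of `C_G(Q)`. -/
theorem brauerPairOf_local {p : ℕ} (Q P : Subgroup G) (hQP : Q ≤ P)
    (hPL : P ≤ Subgroup.centralizer (Q : Set G))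
    (f : Set (IrrCharacter (Subgroup.centralizer (Q : Set G))))
    (e' : Set (IrrCharacter (Subgroup.centralizer (P : Set G))))
    (hn : IsNormalSubpair p M Q f P e') :
    IsBrauerPairOf p M f (P.subgroupOf (Subgroup.centralizer (Q : Set G)))
      (trIrr (centIso Q P hQP hPL) '' e') := by
  obtain ⟨hQf, hPe, _, _, _, hom⟩ := hn
  refine ⟨⟨hPe.1.comap_of_injective _ (Subgroup.subtype_injective _), ?_⟩, hQf.2, ?_⟩
  · obtain ⟨ξ, rfl⟩ := hPe.2
    exact ⟨trIrr (centIso Q P hQP hPL) ξ, (blockOf_trIrr _ ξ).symm⟩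
  · rintro _ ⟨ξ, hξ, rfl⟩
    have h1 := hom ξ hξ
    have h2 : brauerOmega (P.subgroupOf (Subgroup.centralizer (Q : Set G))) (blockCoeff f)
        (trIrr (centIso Q P hQP hPL) ξ : _ → ℂ)
        = brauerOmega P (subgroupBlockCoeff (Subgroup.centralizer (Q : Set G)) f)
          (ξ : Subgroup.centralizer (P : Set G) → ℂ) := by
      unfold brauerOmega
      rw [← finsum_comp_equiv (centIso Q P hQP hPL).toEquiv]
      refine finsum_congr fun c => ?_
      have e1 : (centIso Q P hQP hPL).toEquiv c = centIso Q P hQP hPL c := rfl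
      rw [e1, trIrr_apply, trIrr_apply, map_one, centIso_coe, subgroupBlockCoeff_coe]
    rw [h2]
    exact h1

end LocalGroup

section LocalConj

variable {G : Type u} [Group G] [Fintype G] {M : Ideal AlgInt}

/-- Blocks of `C_G(P)` normally above `(Q, f)` are conjugate under `N_G(P) ∩ C_G(Q)` when `P` is a
defect group of `f`. -/
theorem exists_local_conj {p : ℕ} [hp : Fact p.Prime] (hM : IsPModular p M)
    (Q P : Subgroup G) (hQP : Q ≤ P) (hPL : P ≤ Subgroup.centralizer (Q : Set G))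
    (f : Set (IrrCharacter (Subgroup.centralizer (Q : Set G))))
    (hPd : IsDefectGroup p M f (P.subgroupOf (Subgroup.centralizer (Q : Set G))))
    (e e' : Set (IrrCharacter (Subgroup.centralizer (P : Set G))))
    (hn : IsNormalSubpair p M Q f P e) (hn' : IsNormalSubpair p M Q f P e') :
    ∃ n₁ : Subgroup.normalizer (P : Set G), (n₁ : G) ∈ Subgroup.centralizer (Q : Set G) ∧
      e' = cjSet (Subgroup.normalizer (P : Set G)) (Subgroup.centralizer (P : Set G))
        (normalizer_le_normalizer_centralizer P) n₁ e := by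
  classical
  haveI : Fintype (Subgroup.centralizer (Q : Set G)) := Fintype.ofFinite _
  obtain ⟨ξf, rfl⟩ := hn.1.2
  have hB := brauerPairOf_local Q P hQP hPL _ e hn
  have hB' := brauerPairOf_local Q P hQP hPL _ e' hn'
  obtain ⟨n, hn₂⟩ := eq_cjSet_of_defect hM ξf _ hPd _ _ hB hB'
  -- the element of `N_G(P)`
  have hnN : (((n : Subgroup.centralizer (Q : Set G))) : G) ∈ Subgroup.normalizer (P : Set G) := by
    have hn3 := Subgroup.mem_normalizer_iff.mp n.2
    rw [Subgroup.mem_normalizer_iff]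
    intro h
    constructor
    · intro hh
      have := (hn3 ⟨h, hPL hh⟩).mp (Subgroup.mem_subgroupOf.mpr hh)
      exact Subgroup.mem_subgroupOf.mp this
    · intro hh
      have hhL : h ∈ Subgroup.centralizer (Q : Set G) := by
        have h1 := hPL hh
        have h2 : h = (((n : Subgroup.centralizer (Q : Set G))) : G)⁻¹ *
            ((((n : Subgroup.centralizer (Q : Set G))) : G) * h *
              (((n : Subgroup.centralizer (Q : Set G))) : G)⁻¹) *
            (((n : Subgroup.centralizer (Q : Set G))) : G) := by group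
        rw [h2]
        exact Subgroup.mul_mem _ (Subgroup.mul_mem _ (Subgroup.inv_mem _
          (n : Subgroup.centralizer (Q : Set G)).2) h1) (n : Subgroup.centralizer (Q : Set G)).2
      have := (hn3 ⟨h, hhL⟩).mpr (Subgroup.mem_subgroupOf.mpr hh)
      exact Subgroup.mem_subgroupOf.mp this
  refine ⟨⟨_, hnN⟩, (n : Subgroup.centralizer (Q : Set G)).2, ?_⟩
  ext ξ'
  rw [mem_cjSet_iff]
  have h1 : ξ' ∈ e' ↔ trIrr (centIso Q P hQP hPL) ξ' ∈ trIrr (centIso Q P hQP hPL) '' e' :=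
    ⟨fun h => ⟨ξ', h, rfl⟩, fun ⟨ξ'', h, heq⟩ => by
      rwa [← trIrr_injective _ heq]⟩
  rw [h1, hn₂, mem_cjSet_iff]
  have h2 : cjIrr _ _ (normalizer_le_normalizer_centralizer
      (P.subgroupOf (Subgroup.centralizer (Q : Set G)))) n⁻¹
      (trIrr (centIso Q P hQP hPL) ξ')
      = trIrr (centIso Q P hQP hPL) (cjIrr (Subgroup.normalizer (P : Set G))
        (Subgroup.centralizer (P : Set G)) (normalizer_le_normalizer_centralizer P)
        (⟨_, hnN⟩ : Subgroup.normalizer (P : Set G))⁻¹ ξ') := by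
    apply Subtype.ext
    funext c
    rw [cjIrr_apply, trIrr_apply, trIrr_apply, cjIrr_apply]
    congr 1
  rw [h2]
  constructor
  · rintro ⟨ξ'', h, heq⟩
    rwa [← trIrr_injective _ heq]
  · intro h
    exact ⟨_, h, rfl⟩

/-- `P ≤ C_G(Q)` with `|P|` at least the order of the defect groups of `B` is a defect group of the
local block `f`. -/
theorem defect_local_of_card {p : ℕ} [hp : Fact p.Prime] (hM : IsPModular p M)
    (B : Set (IrrCharacter G)) (P Q : Subgroup G)
    (e : Set (IrrCharacter (Subgroup.centralizer (P : Set G))))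
    (f : Set (IrrCharacter (Subgroup.centralizer (Q : Set G))))
    (hmax : IsMaximalBrauerPair p M B P e) (hle : SubpairLE p M Q f P e)
    (P' : Subgroup G) (e' : Set (IrrCharacter (Subgroup.centralizer (P' : Set G))))
    (hP'e' : IsBrauerPair p M P' e') (hle' : SubpairLE p M Q f P' e')
    (hP'L : P' ≤ Subgroup.centralizer (Q : Set G)) (hcard : Nat.card P ≤ Nat.card P') :
    IsDefectGroup p M f (P'.subgroupOf (Subgroup.centralizer (Q : Set G))) := by
  have hf : IsPBlock M f := (isBrauerPair_of_le hle hmax.1.1).2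
  obtain ⟨D, hD, hsub⟩ := centralizer_le_defect hM P' Q e' f hP'e' hle'
  obtain ⟨x, hx, hdx⟩ := exists_conj_defect hM B P Q e f hmax hle
  have hc := card_defect_conj hM Q x f hf D hD _ hdx
  have h1 : P' ⊓ Subgroup.centralizer (Q : Set G) = P' := inf_of_le_left hP'L
  rw [h1] at hsub
  have heq := Subgroup.eq_of_le_of_card_ge hsub (by
    rw [← hc, Cfsg.Agent.Lib.Helper2_BlockFusion.card_inf_subgroupOf]
    have h2 : Nat.card (P'.subgroupOf (Subgroup.centralizer (Q : Set G))) = Nat.card P' :=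
      Nat.card_congr (Subgroup.subgroupOfEquivOfLe hP'L).toEquiv
    rw [h2]
    exact (Subgroup.card_le_of_le inf_le_left).trans hcard)
  rw [heq]
  exact hD

end LocalConj

section NormCongr

variable {G : Type u} [Group G] [Fintype G] {M : Ideal AlgInt}

theorem map_conj_eq_of_mem_normalizer (Q : Subgroup G) (x : G)
    (hx : x ∈ Subgroup.normalizer (Q : Set G)) : Q.map (MulAut.conj x).toMonoidHom = Q := by
  ext a
  rw [mem_map_conj'']
  have := (Subgroup.mem_normalizer_iff.mp hx) (x⁻¹ * a * x)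
  have e1 : x * (x⁻¹ * a * x) * x⁻¹ = a := by group
  rw [e1] at this
  exact this

theorem mem_normalizer_of_map_conj_eq (Q : Subgroup G) (x : G)
    (h : Q.map (MulAut.conj x).toMonoidHom = Q) : x ∈ Subgroup.normalizer (Q : Set G) := by
  rw [Subgroup.mem_normalizer_iff]
  intro a
  have h1 : x * a * x⁻¹ ∈ Q ↔ x * a * x⁻¹ ∈ Q.map (MulAut.conj x).toMonoidHom := by rw [h]
  rw [h1, mem_map_conj'']
  have e1 : x⁻¹ * (x * a * x⁻¹) * x = a := by group
  rw [e1]

theorem conjBlock_iff_cjSet (Q : Subgroup G) (x : G)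
    (hx : x ∈ Subgroup.normalizer (Q : Set G))
    (f : Set (IrrCharacter (Subgroup.centralizer (Q : Set G))))
    (ξ₁ : IrrCharacter (Subgroup.centralizer
      ((Q.map (MulAut.conj x).toMonoidHom : Subgroup G) : Set G)))
    (ξ₂ : IrrCharacter (Subgroup.centralizer (Q : Set G)))
    (hag : ∀ (a : Subgroup.centralizer
      ((Q.map (MulAut.conj x).toMonoidHom : Subgroup G) : Set G))
      (b : Subgroup.centralizer (Q : Set G)), (a : G) = (b : G) →
        (ξ₁ : _ → ℂ) a = (ξ₂ : _ → ℂ) b) :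
    ξ₁ ∈ conjBlock Q x f ↔ ξ₂ ∈ cjSet (Subgroup.normalizer (Q : Set G))
      (Subgroup.centralizer (Q : Set G)) (normalizer_le_normalizer_centralizer Q) ⟨x, hx⟩ f := by
  rw [mem_conjBlock_iff', mem_cjSet_iff]
  have hh : cbIrr' Q x ξ₁ = cjIrr (Subgroup.normalizer (Q : Set G))
      (Subgroup.centralizer (Q : Set G)) (normalizer_le_normalizer_centralizer Q)
      (⟨x, hx⟩ : Subgroup.normalizer (Q : Set G))⁻¹ ξ₂ := by
    apply Subtype.ext
    funext c
    rw [cbIrr'_apply, cjIrr_apply]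
    apply hag
    rw [centEquiv_coe, cj_symm_coe]
    simp only [Subgroup.coe_inv, inv_inv]
  rw [hh]

theorem subpairLE_left_of_normalizer {p : ℕ} (Q P : Subgroup G) (x : G)
    (hx : x ∈ Subgroup.normalizer (Q : Set G))
    (f : Set (IrrCharacter (Subgroup.centralizer (Q : Set G))))
    (e : Set (IrrCharacter (Subgroup.centralizer (P : Set G))))
    (h : SubpairLE p M (Q.map (MulAut.conj x).toMonoidHom) (conjBlock Q x f) P e) :
    SubpairLE p M Q (cjSet (Subgroup.normalizer (Q : Set G))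
      (Subgroup.centralizer (Q : Set G)) (normalizer_le_normalizer_centralizer Q) ⟨x, hx⟩ f)
      P e := by
  apply subpairLE_congr_left _ _ P _ _ e (map_conj_eq_of_mem_normalizer Q x hx) ?_ h
  intro ξ₁ ξ₂ hag
  exact conjBlock_iff_cjSet Q x hx f ξ₁ ξ₂ hag

theorem subpairLE_right_of_normalizer {p : ℕ} (Q P : Subgroup G) (y : G)
    (hy : y ∈ Subgroup.normalizer (P : Set G))
    (f : Set (IrrCharacter (Subgroup.centralizer (Q : Set G))))
    (e : Set (IrrCharacter (Subgroup.centralizer (P : Set G))))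
    (h : SubpairLE p M Q f (P.map (MulAut.conj y).toMonoidHom) (conjBlock P y e)) :
    SubpairLE p M Q f P (cjSet (Subgroup.normalizer (P : Set G))
      (Subgroup.centralizer (P : Set G)) (normalizer_le_normalizer_centralizer P) ⟨y, hy⟩ e) := by
  apply subpairLE_congr Q f _ _ _ _ (map_conj_eq_of_mem_normalizer P y hy) ?_ h
  intro ξ₁ ξ₂ hag
  exact conjBlock_iff_cjSet P y hy e ξ₁ ξ₂ hag

theorem cjSet_eq_of_mem_stab (Q : Subgroup G)
    (f : Set (IrrCharacter (Subgroup.centralizer (Q : Set G)))) (T : Subgroup G)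
    (hT : ∀ y : G, y ∈ T ↔ y ∈ Subgroup.normalizer (Q : Set G) ∧
      StabilizesBlock (Subgroup.centralizer (Q : Set G)) f y) (x : G) (hx : x ∈ T) :
    cjSet (Subgroup.normalizer (Q : Set G)) (Subgroup.centralizer (Q : Set G))
      (normalizer_le_normalizer_centralizer Q) ⟨x, ((hT x).mp hx).1⟩ f = f := by
  have hTL : T ≤ Subgroup.normalizer
      ((Subgroup.centralizer (Q : Set G) : Subgroup G) : Set G) :=
    fun y hy => ((hT y).mp hy).2.1
  have h1 := (stabilizes_iff T (Subgroup.centralizer (Q : Set G)) hTL f).mp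
    (fun y hy => ((hT y).mp hy).2) ⟨x, hx⟩
  exact (cjSet_congr (Subgroup.normalizer (Q : Set G)) T (Subgroup.centralizer (Q : Set G))
    (normalizer_le_normalizer_centralizer Q) hTL ⟨x, ((hT x).mp hx).1⟩ ⟨x, hx⟩ rfl f).trans h1

end NormCongr

section AbelianFactor

variable {G : Type u} [Group G] [Fintype G] {M : Ideal AlgInt}

/-- **Abelian defect groups: the stabilizer of a subpair is covered by the stabilizer of the
maximal pair.** -/
theorem stabilizer_factor {p : ℕ} [hp : Fact p.Prime] (hM : IsPModular p M)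
    (B : Set (IrrCharacter G)) (P : Subgroup G)
    (e : Set (IrrCharacter (Subgroup.centralizer (P : Set G))))
    (hmax : IsMaximalBrauerPair p M B P e) (hab : ∀ x ∈ P, ∀ y ∈ P, x * y = y * x)
    (Q : Subgroup G) (f : Set (IrrCharacter (Subgroup.centralizer (Q : Set G))))
    (hle : SubpairLE p M Q f P e) (TQ : Subgroup G)
    (hTQ : ∀ y : G, y ∈ TQ ↔ y ∈ Subgroup.normalizer (Q : Set G) ∧
      StabilizesBlock (Subgroup.centralizer (Q : Set G)) f y) (TP : Subgroup G)
    (hTP : ∀ y : G, y ∈ TP ↔ y ∈ Subgroup.normalizer (P : Set G) ∧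
      StabilizesBlock (Subgroup.centralizer (P : Set G)) e y) :
    ∀ x ∈ TQ, ∃ y ∈ TP, ∃ c ∈ Subgroup.centralizer (Q : Set G), x = y * c := by
  classical
  intro x hx
  haveI : Fintype (Subgroup.centralizer (Q : Set G)) := Fintype.ofFinite _
  haveI : Fintype (Subgroup.normalizer (P : Set G)) := Fintype.ofFinite _
  have hMm := hM.2.1
  have hPe := hmax.1.1
  have hQP : Q ≤ P := le_fst hle
  have hPL : P ≤ Subgroup.centralizer (Q : Set G) := fun y hy =>
    Subgroup.mem_centralizer_iff.mpr (fun q hq => hab q (hQP hq) y hy)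
  have hxN : x ∈ Subgroup.normalizer (Q : Set G) := ((hTQ x).mp hx).1
  have hLTQ : Subgroup.centralizer (Q : Set G) ≤ TQ := fun l hl =>
    (hTQ l).mpr ⟨Subgroup.centralizer_le_normalizer _ hl,
      stabilizes_of_mem_sup Q f l
        ((le_sup_right : _ ≤ Q ⊔ Subgroup.centralizer (Q : Set G)) hl)⟩
  have hNL := normalizer_le_normalizer_centralizer Q
  have hf : IsPBlock M f := (isBrauerPair_of_le hle hPe).2
  -- `(Q, f) ≤ (P, e)^x`
  have h1 := subpairLE_conj Q P x f e hle
  have h2 := subpairLE_left_of_normalizer Q _ x hxN f _ h1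
  rw [cjSet_eq_of_mem_stab Q f TQ hTQ x hx] at h2
  have hPxL : P.map (MulAut.conj x).toMonoidHom ≤ Subgroup.centralizer (Q : Set G) := by
    rintro _ ⟨y, hy, rfl⟩
    rw [Subgroup.mem_centralizer_iff]
    intro q hq
    have hq' : x⁻¹ * q * x ∈ Q := by
      have := Subgroup.mem_normalizer_iff.mp hxN (x⁻¹ * q * x)
      have e1 : x * (x⁻¹ * q * x) * x⁻¹ = q := by group
      rw [e1] at this
      exact this.mpr hq
    have := hab _ (hQP hq') y hy
    show q * (x * y * x⁻¹) = x * y * x⁻¹ * q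
    calc q * (x * y * x⁻¹) = x * ((x⁻¹ * q * x) * y) * x⁻¹ := by group
      _ = x * (y * (x⁻¹ * q * x)) * x⁻¹ := by rw [this]
      _ = x * y * x⁻¹ * q := by group
  have hcardx : Nat.card P ≤ Nat.card (P.map (MulAut.conj x).toMonoidHom) :=
    (Subgroup.card_map_of_injective (MulAut.conj x).injective).ge
  have hdx := defect_local_of_card hM B P Q e f hmax hle _ _ (isBrauerPair_conj P x e hPe) h2
    hPxL hcardx
  have hd := defect_local_of_card hM B P Q e f hmax hle P e hPe hle hPL le_rfl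
  obtain ⟨ξf, rfl⟩ := hf
  obtain ⟨c₁, hc₁⟩ := defectGroup_conj' hM ξf _ _ hdx hd
  -- `n = c₁ x` normalizes `P`
  have hPn : P.map (MulAut.conj ((c₁ : G) * x)).toMonoidHom = P := by
    rw [← map_conj_mul P x (c₁ : G)]
    ext a
    rw [mem_map_conj'']
    constructor
    · intro ha
      have haL : a ∈ Subgroup.centralizer (Q : Set G) := by
        have h3 := hPxL ha
        have e1 : a = (c₁ : G) * ((c₁ : G)⁻¹ * a * (c₁ : G)) * (c₁ : G)⁻¹ := by group
        rw [e1]
        exact Subgroup.mul_mem _ (Subgroup.mul_mem _ c₁.2 h3) (Subgroup.inv_mem _ c₁.2)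
      have h4 : (⟨a, haL⟩ : Subgroup.centralizer (Q : Set G))
          ∈ P.subgroupOf (Subgroup.centralizer (Q : Set G)) := by
        rw [hc₁, mem_map_conj'', Subgroup.mem_subgroupOf]
        exact ha
      exact Subgroup.mem_subgroupOf.mp h4
    · intro ha
      have h4 : (⟨a, hPL ha⟩ : Subgroup.centralizer (Q : Set G))
          ∈ P.subgroupOf (Subgroup.centralizer (Q : Set G)) := Subgroup.mem_subgroupOf.mpr ha
      rw [hc₁, mem_map_conj'', Subgroup.mem_subgroupOf] at h4
      exact h4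
  have hnNP : (c₁ : G) * x ∈ Subgroup.normalizer (P : Set G) :=
    mem_normalizer_of_map_conj_eq P _ hPn
  have hnTQ : (c₁ : G) * x ∈ TQ := TQ.mul_mem (hLTQ c₁.2) hx
  have hnNQ : (c₁ : G) * x ∈ Subgroup.normalizer (Q : Set G) := ((hTQ _).mp hnTQ).1
  have h3 := subpairLE_conj Q P ((c₁ : G) * x) _ e hle
  have h4 := subpairLE_left_of_normalizer Q _ _ hnNQ _ _ h3
  rw [cjSet_eq_of_mem_stab Q _ TQ hTQ _ hnTQ] at h4
  have h5 := subpairLE_right_of_normalizer Q P _ hnNP _ e h4
  have hPN : P ≤ Subgroup.normalizer (Q : Set G) :=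
    hPL.trans (Subgroup.centralizer_le_normalizer _)
  have hn := normal_of_le hM Q P _ e hle hPe hPN
  have hPe'' : IsBrauerPair p M P (cjSet (Subgroup.normalizer (P : Set G))
      (Subgroup.centralizer (P : Set G)) (normalizer_le_normalizer_centralizer P)
      ⟨(c₁ : G) * x, hnNP⟩ e) := by
    refine ⟨hPe.1, ?_⟩
    obtain ⟨ξ, rfl⟩ := hPe.2
    exact ⟨_, cjSet_blockOf _ _ _ _ ξ⟩
  have hn' := normal_of_le hM Q P _ _ h5 hPe'' hPN
  obtain ⟨n₁, hn₁L, hn₁e⟩ := exists_local_conj hM Q P hQP hPL _ hd e _ hn hn'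
  -- the element of `T_P`
  have hye : cjSet (Subgroup.normalizer (P : Set G)) (Subgroup.centralizer (P : Set G))
      (normalizer_le_normalizer_centralizer P) (n₁⁻¹ * ⟨(c₁ : G) * x, hnNP⟩) e = e := by
    rw [cjSet_mul, hn₁e, cjSet_inv_cjSet]
  have hyTP : ((n₁⁻¹ * ⟨(c₁ : G) * x, hnNP⟩ : Subgroup.normalizer (P : Set G)) : G) ∈ TP :=
    (hTP _).mpr ⟨(n₁⁻¹ * ⟨(c₁ : G) * x, hnNP⟩ : Subgroup.normalizer (P : Set G)).2,
      stabilizesBlock_of_cjSet_eq _ _ _ e _ hye⟩
  refine ⟨_, hyTP, ((n₁⁻¹ * ⟨(c₁ : G) * x, hnNP⟩ : Subgroup.normalizer (P : Set G)) : G)⁻¹ * x,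
    ?_, by group⟩
  have e2 : ((n₁⁻¹ * ⟨(c₁ : G) * x, hnNP⟩ : Subgroup.normalizer (P : Set G)) : G)⁻¹ * x
      = x⁻¹ * ((c₁ : G)⁻¹ * (n₁ : G)) * x := by
    simp only [Subgroup.coe_mul, Subgroup.coe_inv]
    group
  rw [e2]
  have hl : (c₁ : G)⁻¹ * (n₁ : G) ∈ Subgroup.centralizer (Q : Set G) :=
    Subgroup.mul_mem _ (Subgroup.inv_mem _ c₁.2) hn₁L
  have := Subgroup.mem_normalizer_iff.mp (hNL hxN) (x⁻¹ * ((c₁ : G)⁻¹ * (n₁ : G)) * x)
  have e3 : x * (x⁻¹ * ((c₁ : G)⁻¹ * (n₁ : G)) * x) * x⁻¹ = (c₁ : G)⁻¹ * (n₁ : G) := by group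
  rw [e3] at this
  exact this.mpr hl

end AbelianFactor


section AbelianIndex

variable {G : Type u} [Group G] [Fintype G] {M : Ideal AlgInt}

theorem stab_inf_normalizer_le {p : ℕ} [hp : Fact p.Prime] (hM : IsPModular p M)
    (P : Subgroup G)
    (e : Set (IrrCharacter (Subgroup.centralizer (P : Set G))))
    (hPe : IsBrauerPair p M P e)
    (Q : Subgroup G) (f : Set (IrrCharacter (Subgroup.centralizer (Q : Set G))))
    (hle : SubpairLE p M Q f P e) (TQ : Subgroup G)
    (hTQ : ∀ y : G, y ∈ TQ ↔ y ∈ Subgroup.normalizer (Q : Set G) ∧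
      StabilizesBlock (Subgroup.centralizer (Q : Set G)) f y) (TP : Subgroup G)
    (hTP : ∀ y : G, y ∈ TP ↔ y ∈ Subgroup.normalizer (P : Set G) ∧
      StabilizesBlock (Subgroup.centralizer (P : Set G)) e y) :
    TP ⊓ Subgroup.normalizer (Q : Set G) ≤ TQ := by
  classical
  intro y hy
  obtain ⟨hyTP, hyNQ⟩ := Subgroup.mem_inf.mp hy
  have hyNP : y ∈ Subgroup.normalizer (P : Set G) := ((hTP y).mp hyTP).1
  have h3 := subpairLE_conj Q P y f e hle
  have h4 := subpairLE_left_of_normalizer Q _ y hyNQ f _ h3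
  have h5 := subpairLE_right_of_normalizer Q P y hyNP _ e h4
  rw [cjSet_eq_of_mem_stab P e TP hTP y hyTP] at h5
  have h6 := unique_le hM _ P e hPe Q _ f rfl h5 hle
  exact (hTQ y).mpr ⟨hyNQ, stabilizesBlock_of_cjSet_eq _ _ _ f ⟨y, hyNQ⟩ h6⟩

theorem stabilizer_index {p : ℕ} [hp : Fact p.Prime] (hM : IsPModular p M)
    (B : Set (IrrCharacter G)) (P : Subgroup G)
    (e : Set (IrrCharacter (Subgroup.centralizer (P : Set G))))
    (hmax : IsMaximalBrauerPair p M B P e) (hab : ∀ x ∈ P, ∀ y ∈ P, x * y = y * x)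
    (Q : Subgroup G) (f : Set (IrrCharacter (Subgroup.centralizer (Q : Set G))))
    (hle : SubpairLE p M Q f P e) (TQ : Subgroup G)
    (hTQ : ∀ y : G, y ∈ TQ ↔ y ∈ Subgroup.normalizer (Q : Set G) ∧
      StabilizesBlock (Subgroup.centralizer (Q : Set G)) f y) (TP : Subgroup G)
    (hTP : ∀ y : G, y ∈ TP ↔ y ∈ Subgroup.normalizer (P : Set G) ∧
      StabilizesBlock (Subgroup.centralizer (P : Set G)) e y) :
    ((Subgroup.centralizer (Q : Set G)).subgroupOf TQ).index
      = ((TP ⊓ Subgroup.centralizer (Q : Set G)).subgroupOf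
          (TP ⊓ Subgroup.normalizer (Q : Set G))).index := by
  classical
  have hPe := hmax.1.1
  have hA : TP ⊓ Subgroup.normalizer (Q : Set G) ≤ TQ :=
    stab_inf_normalizer_le hM P e hPe Q f hle TQ hTQ TP hTP
  have hfac := stabilizer_factor hM B P e hmax hab Q f hle TQ hTQ TP hTP
  have hLTQ : Subgroup.centralizer (Q : Set G) ≤ TQ := fun l hl =>
    (hTQ l).mpr ⟨Subgroup.centralizer_le_normalizer _ hl,
      stabilizes_of_mem_sup Q f l
        ((le_sup_right : _ ≤ Q ⊔ Subgroup.centralizer (Q : Set G)) hl)⟩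
  set L := Subgroup.centralizer (Q : Set G) with hL
  set A := TP ⊓ Subgroup.normalizer (Q : Set G) with hAdef
  -- right side
  have e1 : ((TP ⊓ L).subgroupOf A).index = L.relIndex A := by
    change (TP ⊓ L).relIndex A = L.relIndex A
    have : (TP ⊓ L) ⊓ A = L ⊓ A := by
      ext z
      simp only [Subgroup.mem_inf, hAdef]
      tauto
    rw [← Subgroup.inf_relIndex_right (TP ⊓ L) A, this, Subgroup.inf_relIndex_right]
  rw [e1]
  change L.relIndex TQ = L.relIndex A
  -- work in `TQ`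
  haveI hLn : (L.subgroupOf TQ).Normal := by
    refine ⟨fun n hn g => ?_⟩
    rw [Subgroup.mem_subgroupOf] at hn ⊢
    have hgN : (g : G) ∈ Subgroup.normalizer (Q : Set G) := ((hTQ _).mp g.2).1
    have := normalizer_le_normalizer_centralizer Q hgN
    have h2 := (Subgroup.mem_normalizer_iff.mp this (n : G)).mp hn
    simpa using h2
  have hsup : A.subgroupOf TQ ⊔ L.subgroupOf TQ = ⊤ := by
    rw [eq_top_iff]
    intro x _
    obtain ⟨y, hyTP, c, hc, hxy⟩ := hfac (x : G) x.2
    have hyTQ : y ∈ TQ := by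
      have : y = (x : G) * c⁻¹ := by rw [hxy]; group
      rw [this]
      exact TQ.mul_mem x.2 (TQ.inv_mem (hLTQ hc))
    have hyA : y ∈ A := by
      refine Subgroup.mem_inf.mpr ⟨hyTP, ((hTQ y).mp hyTQ).1⟩
    have hx : x = (⟨y, hyTQ⟩ : TQ) * ⟨c, hLTQ hc⟩ := Subtype.ext hxy
    rw [hx]
    exact Subgroup.mul_mem _
      (Subgroup.mem_sup_left (Subgroup.mem_subgroupOf.mpr hyA))
      (Subgroup.mem_sup_right (Subgroup.mem_subgroupOf.mpr hc))
  have h1 := Subgroup.relIndex_sup_right (A.subgroupOf TQ) (L.subgroupOf TQ)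
  rw [hsup, Subgroup.relIndex_top_right] at h1
  have h2 : (L.subgroupOf TQ).relIndex (A.subgroupOf TQ) = L.relIndex A :=
    Subgroup.relIndex_subgroupOf hA
  rw [← h2, ← h1]
  rfl

end AbelianIndex
end Cfsg.Agent.Lib.Helper2_AbelianDefect
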