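import Mathlib
import Cfsg.Prelude.Def_Characters
import Cfsg.Prelude.Def_Blocks
import Cfsg.Prelude.Def_BlockRank
import Cfsg.Prelude.Def_BlockLocal
import Cfsg.Prelude.Def_BrauerPairs
import Cfsg.Agent.Lib.Helper2_ClassFn
import Cfsg.Agent.Lib.Helper2_CharBasic
import Cfsg.Agent.Lib.Helper2_CharOrtho
import Cfsg.Agent.Lib.Helper2_Clifford
import Cfsg.Agent.Lib.Helper2_CharMore
import Cfsg.Agent.Lib.Helper2_CharDeg
import Cfsg.Agent.Lib.Helper2_CharInd
import Cfsg.Agent.Lib.Helper2_CharExtra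
import Cfsg.Agent.Lib.Helper2_CharInt
import Cfsg.Agent.Lib.Helper2_CharValues
import Cfsg.Agent.Lib.Helper2_CharSum
import Cfsg.Agent.Lib.Helper2_CharComplete
import Cfsg.Agent.Lib.Helper2_CharTable
import Cfsg.Agent.Lib.Helper2_CharCentral
import Cfsg.Agent.Lib.Helper2_ModM
import Cfsg.Agent.Lib.Helper2_Blocks
import Cfsg.Agent.Lib.Helper2_BlockOrtho
import Cfsg.Agent.Lib.Helper2_BlockMore
import Cfsg.Agent.Lib.Helper2_DefectGroup
import Cfsg.Agent.Lib.Helper2_DefectPCore
import Cfsg.Agent.Lib.Helper2_MinMax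
import Cfsg.Agent.Lib.Helper2_InducedBlock
import Cfsg.Agent.Lib.Helper2_BrauerMap
import Cfsg.Agent.Lib.Helper2_InducedDefect
import Cfsg.Agent.Lib.Helper2_BrauerFirst
import Cfsg.Agent.Lib.Helper2_BrauerConverse
import Cfsg.Agent.Lib.Helper2_SylowConj
import Cfsg.Agent.Lib.Helper2_BlockCover
import Cfsg.Agent.Lib.Helper2_BlockConj
import Cfsg.Agent.Lib.Helper2_FirstMain
import Cfsg.Agent.Lib.Helper2_BlockNormal
import Cfsg.Agent.Lib.Helper2_BlockCount
import Cfsg.Agent.Lib.Helper2_BlockCount2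
import Cfsg.Agent.Lib.Helper2_BlockKer
import Cfsg.Agent.Lib.Helper2_PRegCount
import Cfsg.Agent.Lib.Helper2_ExtFirstMain
import Cfsg.Agent.Lib.Helper2_ThirdMain
import Cfsg.Agent.Lib.Helper2_Fong
import Cfsg.Agent.Lib.Helper2_BrauerPairs
import Cfsg.Agent.Lib.Helper2_BrauerInv
import Cfsg.Agent.Lib.Helper2_Conj
import Cfsg.Agent.Lib.Helper2_BrauerChain
import Cfsg.Agent.Lib.Helper2_BrauerPrincipal
import Cfsg.Agent.Lib.Helper2_BrauerMax
import Cfsg.Agent.Lib.Helper2_BrauerConjMax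
import Cfsg.Agent.Lib.Helper2_BrauerLocal
import Cfsg.Agent.Lib.Helper2_BrauerStab
import Cfsg.Agent.Lib.Helper2_BlockTrace
import Cfsg.Agent.Lib.Helper2_BlockFusion
import Cfsg.Agent.Lib.Helper2_AbelianDefect


set_option autoImplicit false

/-!
# Nilpotent blocks with abelian defect groups
-/

namespace Cfsg.Agent.Lib.Helper2_AbelianNilpotent

open Cfsg
open Cfsg.Agent.Lib.Helper2_ClassFn
open Cfsg.Agent.Lib.Helper2_CharBasic
open Cfsg.Agent.Lib.Helper2_CharOrtho
open Cfsg.Agent.Lib.Helper2_Clifford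
open Cfsg.Agent.Lib.Helper2_CharMore
open Cfsg.Agent.Lib.Helper2_CharDeg
open Cfsg.Agent.Lib.Helper2_CharInd
open Cfsg.Agent.Lib.Helper2_CharExtra
open Cfsg.Agent.Lib.Helper2_CharValues
open Cfsg.Agent.Lib.Helper2_CharSum
open Cfsg.Agent.Lib.Helper2_CharComplete
open Cfsg.Agent.Lib.Helper2_CharTable
open Cfsg.Agent.Lib.Helper2_CharCentral
open Cfsg.Agent.Lib.Helper2_ModM
open Cfsg.Agent.Lib.Helper2_Blocks
open Cfsg.Agent.Lib.Helper2_BlockOrtho
open Cfsg.Agent.Lib.Helper2_BlockMore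
open Cfsg.Agent.Lib.Helper2_DefectGroup
open Cfsg.Agent.Lib.Helper2_DefectPCore
open Cfsg.Agent.Lib.Helper2_MinMax
open Cfsg.Agent.Lib.Helper2_InducedBlock
open Cfsg.Agent.Lib.Helper2_BrauerMap
open Cfsg.Agent.Lib.Helper2_InducedDefect
open Cfsg.Agent.Lib.Helper2_BrauerFirst
open Cfsg.Agent.Lib.Helper2_BrauerConverse
open Cfsg.Agent.Lib.Helper2_SylowConj
open Cfsg.Agent.Lib.Helper2_BlockCover
open Cfsg.Agent.Lib.Helper2_BlockConj
open Cfsg.Agent.Lib.Helper2_FirstMain
open Cfsg.Agent.Lib.Helper2_BlockNormal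
open Cfsg.Agent.Lib.Helper2_BlockCount
open Cfsg.Agent.Lib.Helper2_BlockCount2
open Cfsg.Agent.Lib.Helper2_BlockKer
open Cfsg.Agent.Lib.Helper2_PRegCount
open Cfsg.Agent.Lib.Helper2_ExtFirstMain
open Cfsg.Agent.Lib.Helper2_ThirdMain
open Cfsg.Agent.Lib.Helper2_Fong
open Cfsg.Agent.Lib.Helper2_BrauerPairs
open Cfsg.Agent.Lib.Helper2_BrauerInv
open Cfsg.Agent.Lib.Helper2_BrauerChain
open Cfsg.Agent.Lib.Helper2_BrauerPrincipal
open Cfsg.Agent.Lib.Helper2_BrauerMax
open Cfsg.Agent.Lib.Helper2_BrauerConjMax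
open Cfsg.Agent.Lib.Helper2_BrauerLocal
open Cfsg.Agent.Lib.Helper2_BrauerStab
open Cfsg.Agent.Lib.Helper2_BlockTrace
open Cfsg.Agent.Lib.Helper2_BlockFusion
open Cfsg.Agent.Lib.Helper2_AbelianDefect
open scoped ComplexConjugate

universe u


section SingleStab

variable {G : Type u} [Group G] [Fintype G] {M : Ideal AlgInt}

/-- A single element stabilizing a set of characters fixes it. -/
theorem cjSet_eq_of_stabilizes (N H : Subgroup G)
    (hNH : N ≤ Subgroup.normalizer (H : Set G)) (f : Set (IrrCharacter H)) (d : N)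
    (h : StabilizesBlock H f (d : G)) : cjSet N H hNH d f = f := by
  classical
  haveI : Fintype H := Fintype.ofFinite _
  have hsub : cjSet N H hNH d f ⊆ f := by
    intro ψ hψ
    obtain ⟨χ, hχ, rfl⟩ := hψ
    obtain ⟨χ', hχ', hc⟩ := h.2 χ hχ
    rw [isConjCharOf_iff N H hNH d χ χ'] at hc
    rw [← hc]
    exact hχ'
  have hfin : f.Finite := Set.toFinite f
  apply Set.eq_of_subset_of_ncard_le hsub _ hfin
  unfold cjSet
  rw [Set.ncard_image_of_injective _ (cjIrr_injective N H hNH d)]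

/-- The stabilizer subgroup of a block of `C_G(Q)` in `N_G(Q)`. -/
theorem mem_stabSub_iff (Q : Subgroup G)
    (f : Set (IrrCharacter (Subgroup.centralizer (Q : Set G)))) (y : G) :
    y ∈ stabSub (Subgroup.normalizer (Q : Set G)) (Subgroup.centralizer (Q : Set G))
        (normalizer_le_normalizer_centralizer Q) f ↔
      y ∈ Subgroup.normalizer (Q : Set G) ∧
        StabilizesBlock (Subgroup.centralizer (Q : Set G)) f y := by
  classical
  haveI : Fintype (Subgroup.normalizer (Q : Set G)) := Fintype.ofFinite _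
  constructor
  · rintro ⟨hy, hy'⟩
    exact ⟨hy, stabilizesBlock_of_cjSet_eq _ _ _ f ⟨y, hy⟩ hy'⟩
  · rintro ⟨hy, hst⟩
    exact ⟨hy, cjSet_eq_of_stabilizes _ _ _ f ⟨y, hy⟩ hst⟩

theorem conj_mem_normalizer_map (Q : Subgroup G) (g y : G)
    (hy : y ∈ Subgroup.normalizer (Q : Set G)) :
    g * y * g⁻¹ ∈ Subgroup.normalizer
      ((Q.map (MulAut.conj g).toMonoidHom : Subgroup G) : Set G) := by
  rw [Subgroup.mem_normalizer_iff]
  intro a
  rw [mem_map_conj'', mem_map_conj'']
  have h1 := Subgroup.mem_normalizer_iff.mp hy (g⁻¹ * a * g)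
  rw [h1]
  have e1 : g⁻¹ * (g * y * g⁻¹ * a * (g * y * g⁻¹)⁻¹) * g = y * (g⁻¹ * a * g) * y⁻¹ := by
    group
  rw [e1]

theorem stabilizes_conj_fwd (Q : Subgroup G) (g : G)
    (f : Set (IrrCharacter (Subgroup.centralizer (Q : Set G)))) (y : G)
    (hyN : y ∈ Subgroup.normalizer (Q : Set G))
    (hst : StabilizesBlock (Subgroup.centralizer (Q : Set G)) f y) :
    StabilizesBlock (Subgroup.centralizer
      ((Q.map (MulAut.conj g).toMonoidHom : Subgroup G) : Set G)) (conjBlock Q g f)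
      (g * y * g⁻¹) := by
  refine ⟨normalizer_le_normalizer_centralizer _ (conj_mem_normalizer_map Q g y hyN), ?_⟩
  intro χ hχ
  have hχ' := (mem_conjBlock_iff' Q g f χ).mp hχ
  obtain ⟨ψ, hψ, hconj⟩ := hst.2 _ hχ'
  refine ⟨cbIrr Q g ψ, ?_, ?_⟩
  · rw [mem_conjBlock_iff', cbIrr'_cbIrr]
    exact hψ
  · intro k k' hk
    rw [cbIrr_apply]
    have h3 := hconj ((centEquiv Q g).symm k) ((centEquiv Q g).symm k') (by
      show g⁻¹ * (k' : G) * g = y * (g⁻¹ * (k : G) * g) * y⁻¹
      rw [hk]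
      group)
    rw [h3, cbIrr'_apply, MulEquiv.apply_symm_apply]

/-- One direction of the criterion for nilpotent blocks with abelian defect groups. -/
theorem nilpotent_of_stab_le {p : ℕ} [hp : Fact p.Prime] (hM : IsPModular p M)
    (B : Set (IrrCharacter G)) (P : Subgroup G)
    (e : Set (IrrCharacter (Subgroup.centralizer (P : Set G))))
    (hmax : IsMaximalBrauerPair p M B P e) (hab : ∀ x ∈ P, ∀ y ∈ P, x * y = y * x)
    (h : ∀ x : G, x ∈ Subgroup.normalizer (P : Set G) →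
      StabilizesBlock (Subgroup.centralizer (P : Set G)) e x →
        x ∈ Subgroup.centralizer (P : Set G)) :
    IsNilpotentBlock p M B := by
  classical
  refine ⟨hmax.1.2.1, fun Q f hQf x hxN hst _ => ?_⟩
  obtain ⟨g, hg⟩ := maximal_pairs_conj hM B P Q e f hmax hQf
  have hfac := stabilizer_factor hM B P e hmax hab _ _ hg _ (mem_stabSub_iff _ _) _
    (mem_stabSub_iff P e) (g * x * g⁻¹)
    ((mem_stabSub_iff _ _ _).mpr ⟨conj_mem_normalizer_map Q g x hxN,
      stabilizes_conj_fwd Q g f x hxN hst⟩)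
  obtain ⟨y, hy, c, hc, hxy⟩ := hfac
  have hy' := (mem_stabSub_iff P e y).mp hy
  have hyC : y ∈ Subgroup.centralizer (P : Set G) := h y hy'.1 hy'.2
  have hyC' : y ∈ Subgroup.centralizer
      ((Q.map (MulAut.conj g).toMonoidHom : Subgroup G) : Set G) :=
    Subgroup.centralizer_le (le_fst hg) hyC
  have hx' : g * x * g⁻¹ ∈ Subgroup.centralizer
      ((Q.map (MulAut.conj g).toMonoidHom : Subgroup G) : Set G) := by
    rw [hxy]
    exact Subgroup.mul_mem _ hyC' hc
  have := conj_inv_mem_centralizer Q g _ hx'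
  have e1 : g⁻¹ * (g * x * g⁻¹) * g = x := by group
  rwa [e1] at this

end SingleStab

section CoverDefect

variable {G : Type u} [Group G] [Fintype G] {M : Ideal AlgInt}

/-- Blocks of a group between `P C_G(P)` and `N_G(P)` covering the block of a maximal Brauer pair
`(P, e)` have defect group `P`. -/
theorem defect_of_cover {p : ℕ} [hp : Fact p.Prime] (hM : IsPModular p M)
    (B : Set (IrrCharacter G)) (P : Subgroup G)
    (e : Set (IrrCharacter (Subgroup.centralizer (P : Set G))))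
    (hmax : IsMaximalBrauerPair p M B P e) (X : Subgroup G) (hPX : P ≤ X)
    (hCX : Subgroup.centralizer (P : Set G) ≤ X)
    (hXN : X ≤ Subgroup.normalizer (P : Set G))
    [Fintype X] [Fintype (Subgroup.centralizer (P : Set G))]
    [Fintype ((Subgroup.centralizer (P : Set G)).subgroupOf X)]
    (ξ : IrrCharacter (Subgroup.centralizer (P : Set G))) (hξ : ξ ∈ e)
    (ζ : IrrCharacter X)
    (hζ : classInner (fun k : (Subgroup.centralizer (P : Set G)).subgroupOf X => (ζ : X → ℂ) k)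
      (fun k => (ξ : Subgroup.centralizer (P : Set G) → ℂ)
        (Subgroup.subgroupOfEquivOfLe hCX k)) ≠ 0) :
    IsDefectGroup p M (blockOf M (ζ : X → ℂ)) (P.subgroupOf X) := by
  classical
  have hMm := hM.2.1
  have hNH : X ≤ Subgroup.normalizer
      ((Subgroup.centralizer (P : Set G) : Subgroup G) : Set G) :=
    hXN.trans (normalizer_le_normalizer_centralizer P)
  have hP : IsPGroup p P := hmax.1.1.1
  have he : e = blockOf M (ξ : Subgroup.centralizer (P : Set G) → ℂ) := by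
    obtain ⟨ξ₀, rfl⟩ := hmax.1.1.2
    exact (blockOf_eq_of_mem hMm hξ).symm
  subst he
  haveI hPn : (P.subgroupOf X).Normal :=
    (Subgroup.normal_subgroupOf_iff_le_normalizer hPX).mpr hXN
  have hPXp : IsPGroup p (P.subgroupOf X) :=
    hP.comap_of_injective X.subtype (Subgroup.subtype_injective _)
  obtain ⟨g', hg'⟩ := exists_defectClass hMm ζ
  obtain ⟨S⟩ : Nonempty (Sylow p (Subgroup.centralizer ({g'} : Set X))) := inferInstance
  have hDb : IsDefectGroup p M (blockOf M (ζ : X → ℂ))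
      ((S : Subgroup _).map (Subgroup.centralizer ({g'} : Set X)).subtype) := ⟨g', hg', S, rfl⟩
  set Db := (S : Subgroup _).map (Subgroup.centralizer ({g'} : Set X)).subtype with hDbdef
  have hPD : P.subgroupOf X ≤ Db :=
    normal_pSubgroup_le_defectGroup hM (P.subgroupOf X) hPXp ζ Db hDb
  have hDbp : IsPGroup p Db := isPGroup_of_isDefectGroup hDb
  have hDbC : ∀ d ∈ Db, d * g' = g' * d := by
    intro d hd
    obtain ⟨s, _, rfl⟩ := hd
    have := s.2
    rw [Subgroup.mem_centralizer_iff] at this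
    exact (this g' (Set.mem_singleton _)).symm
  obtain ⟨n, c, hnc, hc⟩ := exists_fixed_data X
    (Subgroup.centralizer (P : Set G)) hNH hCX hM ξ ζ hζ g' hg'.2.1 Db hDbp hDbC
  set R : Subgroup G := (Db.map (MulAut.conj n⁻¹).toMonoidHom).map X.subtype with hRdef
  have hmemR : ∀ r : G, r ∈ R ↔ ∃ d ∈ Db, r = ((n⁻¹ * d * n : X) : G) := by
    intro r
    rw [hRdef, Subgroup.mem_map]
    constructor
    · rintro ⟨y, hy, rfl⟩
      rw [Subgroup.mem_map] at hy
      obtain ⟨d, hd, rfl⟩ := hy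
      refine ⟨d, hd, ?_⟩
      simp
    · rintro ⟨d, hd, rfl⟩
      refine ⟨n⁻¹ * d * n, Subgroup.mem_map.mpr ⟨d, hd, ?_⟩, rfl⟩
      simp
  have hRp : IsPGroup p R := (hDbp.map _).map _
  have hRN : R ≤ Subgroup.normalizer (P : Set G) := by
    intro r hr
    obtain ⟨d, _, rfl⟩ := (hmemR r).mp hr
    exact hXN (n⁻¹ * d * n).2
  have hPR : P ≤ R := by
    intro y hy
    rw [hmemR]
    have hy' : (n : G) * y * (n : G)⁻¹ ∈ P :=
      (Subgroup.mem_normalizer_iff.mp (hXN n.2) y).mp hy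
    refine ⟨⟨(n : G) * y * (n : G)⁻¹, hPX hy'⟩,
      hPD (Subgroup.mem_subgroupOf.mpr hy'), ?_⟩
    simp only [Subgroup.coe_mul, Subgroup.coe_inv]
    group
  have hst : ∀ x ∈ R, StabilizesBlock (Subgroup.centralizer (P : Set G))
      (blockOf M (ξ : Subgroup.centralizer (P : Set G) → ℂ)) x := by
    intro r hr
    obtain ⟨d, hd, rfl⟩ := (hmemR r).mp hr
    exact stabilizesBlock_of_cjSet_eq X
      (Subgroup.centralizer (P : Set G)) hNH _ (n⁻¹ * d * n) (hnc d hd).1
  have hcR : (c : G) ∈ Subgroup.centralizer (R : Set G) := by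
    rw [Subgroup.mem_centralizer_iff]
    intro r hr
    obtain ⟨d, hd, rfl⟩ := (hmemR r).mp hr
    have := congrArg Subtype.val (hnc d hd).2
    simpa using this
  have hRP : R = P := eq_of_maximal hM _ P R _ hmax hRp hPR hRN hst (c : G) hcR hc
  have hcard1 : Nat.card R = Nat.card Db := by
    rw [hRdef, Subgroup.card_map_of_injective (Subgroup.subtype_injective _),
      Subgroup.card_map_of_injective (MulAut.conj n⁻¹).injective]
  have hcard2 : Nat.card (P.subgroupOf X) = Nat.card P :=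
    Nat.card_congr (Subgroup.subgroupOfEquivOfLe hPX).toEquiv
  have hDbeq : P.subgroupOf X = Db := by
    apply Subgroup.eq_of_le_of_card_ge hPD
    rw [hcard2, ← hcard1, hRP]
  rw [← hDbeq] at hDb
  exact hDb

end CoverDefect

section Forward

variable {G : Type u} [Group G] [Fintype G] {M : Ideal AlgInt}

/-- For a maximal Brauer pair `(P, e)` with `P` abelian, the index of `C_G(P)` in the stabilizer
of `e` in `N_G(P)` is prime to `p`. -/
theorem index_stab_centralizer {p : ℕ} [hp : Fact p.Prime] (hM : IsPModular p M)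
    (B : Set (IrrCharacter G)) (P : Subgroup G)
    (e : Set (IrrCharacter (Subgroup.centralizer (P : Set G))))
    (hmax : IsMaximalBrauerPair p M B P e) (hab : ∀ x ∈ P, ∀ y ∈ P, x * y = y * x)
    (X : Subgroup G)
    (hX : ∀ y : G, y ∈ X ↔ y ∈ Subgroup.normalizer (P : Set G) ∧
      StabilizesBlock (Subgroup.centralizer (P : Set G)) e y) :
    ¬ p ∣ ((Subgroup.centralizer (P : Set G)).subgroupOf X).index := by
  classical
  have hMm := hM.2.1
  haveI : Fintype X := Fintype.ofFinite _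
  haveI : Fintype (Subgroup.centralizer (P : Set G)) := Fintype.ofFinite _
  haveI : Fintype ((Subgroup.centralizer (P : Set G)).subgroupOf X) := Fintype.ofFinite _
  have hCX : Subgroup.centralizer (P : Set G) ≤ X := fun l hl =>
    (hX l).mpr ⟨Subgroup.centralizer_le_normalizer _ hl,
      stabilizes_of_mem_sup P e l
        ((le_sup_right : _ ≤ P ⊔ Subgroup.centralizer (P : Set G)) hl)⟩
  have hPC : P ≤ Subgroup.centralizer (P : Set G) := fun y hy =>
    Subgroup.mem_centralizer_iff.mpr (fun q hq => hab q hq y hy)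
  have hPX : P ≤ X := hPC.trans hCX
  have hXN : X ≤ Subgroup.normalizer (P : Set G) := fun y hy => ((hX y).mp hy).1
  have hNH : X ≤ Subgroup.normalizer
      ((Subgroup.centralizer (P : Set G) : Subgroup G) : Set G) :=
    hXN.trans (normalizer_le_normalizer_centralizer P)
  haveI hKn : ((Subgroup.centralizer (P : Set G)).subgroupOf X).Normal :=
    (Subgroup.normal_subgroupOf_iff_le_normalizer hCX).mpr hNH
  obtain ⟨hP, ξ, he⟩ := hmax.1.1
  set ψ := Subgroup.subgroupOfEquivOfLe hCX with hψ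
  set b : Set (IrrCharacter ((Subgroup.centralizer (P : Set G)).subgroupOf X)) :=
    blockOf M (trIrr ψ ξ : _ → ℂ) with hb
  have hbe : b = trIrr ψ '' e := by
    rw [hb, he]
    exact blockOf_trIrr ψ ξ
  have hinv : Invariant ((Subgroup.centralizer (P : Set G)).subgroupOf X) b := by
    intro g θ hθ θ' hθ'
    rw [hbe] at hθ ⊢
    obtain ⟨θ₀, hθ₀, rfl⟩ := hθ
    have hst := ((hX _).mp (X.inv_mem g.2)).2
    obtain ⟨χ', hχ', hconj⟩ := hst.2 θ₀ hθ₀
    refine ⟨χ', hχ', ?_⟩
    apply Subtype.ext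
    funext n
    rw [trIrr_apply, hθ' n, trIrr_apply]
    refine hconj (ψ ⟨g * n * g⁻¹, _⟩) (ψ n) ?_
    show ((n : X) : G) = (g : G)⁻¹ * ((g : G) * ((n : X) : G) * (g : G)⁻¹) * ((g : G)⁻¹)⁻¹
    group
  obtain ⟨ζ, hζ⟩ := exists_over ((Subgroup.centralizer (P : Set G)).subgroupOf X) (trIrr ψ ξ).2
  have hdef : ∀ (χ : IrrCharacter X)
      (θ : IrrCharacter ((Subgroup.centralizer (P : Set G)).subgroupOf X)), θ ∈ b →
      classInner (fun n : (Subgroup.centralizer (P : Set G)).subgroupOf X => (χ : X → ℂ) n)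
        (θ : _ → ℂ) ≠ 0 →
      IsDefectGroup p M (blockOf M (χ : X → ℂ)) (P.subgroupOf X) := by
    intro χ θ hθ hov
    rw [hbe] at hθ
    obtain ⟨θ₀, hθ₀, rfl⟩ := hθ
    exact defect_of_cover hM B P e hmax X hPX hCX hXN θ₀ hθ₀ χ hov
  have hξb : trIrr ψ ξ ∈ b := self_mem_blockOf hMm _
  have hF := fong ((Subgroup.centralizer (P : Set G)).subgroupOf X) hM b ⟨_, rfl⟩ hinv
    (blockOf M (ζ : X → ℂ)) ⟨ζ, rfl⟩
    ⟨ζ, self_mem_blockOf hMm ζ, trIrr ψ ξ, hξb, hζ⟩
    (by
      rintro B' ⟨χ₀, rfl⟩ ⟨χ, hχ, θ, hθ, hov⟩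
      have h1 := hdef χ θ hθ hov
      rw [blockOf_eq_of_mem hMm hχ] at h1
      have h2 := hdef ζ _ hξb hζ
      have c1 := card_defectGroup hM χ₀ _ h1
      have c2 := card_defectGroup hM ζ _ h2
      have := c1.symm.trans c2
      exact le_of_eq (Nat.pow_right_injective hp.out.two_le this))
    (P.subgroupOf X) (hdef ζ _ hξb hζ)
  have hsup : P.subgroupOf X ⊔ (Subgroup.centralizer (P : Set G)).subgroupOf X
      = (Subgroup.centralizer (P : Set G)).subgroupOf X :=
    sup_eq_right.mpr (Subgroup.subgroupOf_mono X hPC)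
  have := hF.1
  rwa [hsup] at this

/-- The other direction of the criterion for nilpotent blocks with abelian defect groups. -/
theorem stab_le_of_nilpotent {p : ℕ} [hp : Fact p.Prime] (hM : IsPModular p M)
    (B : Set (IrrCharacter G)) (P : Subgroup G)
    (e : Set (IrrCharacter (Subgroup.centralizer (P : Set G))))
    (hmax : IsMaximalBrauerPair p M B P e) (hab : ∀ x ∈ P, ∀ y ∈ P, x * y = y * x)
    (hnil : IsNilpotentBlock p M B) :
    ∀ x : G, x ∈ Subgroup.normalizer (P : Set G) →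
      StabilizesBlock (Subgroup.centralizer (P : Set G)) e x →
        x ∈ Subgroup.centralizer (P : Set G) := by
  classical
  intro x hxN hxst
  set X := stabSub (Subgroup.normalizer (P : Set G)) (Subgroup.centralizer (P : Set G))
    (normalizer_le_normalizer_centralizer P) e with hXdef
  have hX := mem_stabSub_iff P e
  have hidx := index_stab_centralizer hM B P e hmax hab X hX
  have hxX : x ∈ X := (hX x).mpr ⟨hxN, hxst⟩
  have hCX : Subgroup.centralizer (P : Set G) ≤ X := fun l hl =>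
    (hX l).mpr ⟨Subgroup.centralizer_le_normalizer _ hl,
      stabilizes_of_mem_sup P e l
        ((le_sup_right : _ ≤ P ⊔ Subgroup.centralizer (P : Set G)) hl)⟩
  have hXN : X ≤ Subgroup.normalizer (P : Set G) := fun y hy => ((hX y).mp hy).1
  have hNH : X ≤ Subgroup.normalizer
      ((Subgroup.centralizer (P : Set G) : Subgroup G) : Set G) :=
    hXN.trans (normalizer_le_normalizer_centralizer P)
  haveI hKn : ((Subgroup.centralizer (P : Set G)).subgroupOf X).Normal :=
    (Subgroup.normal_subgroupOf_iff_le_normalizer hCX).mpr hNH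
  obtain ⟨a, m, hm, hord⟩ :=
    Nat.exists_eq_pow_mul_and_not_dvd (orderOf_pos x).ne' p hp.out.ne_one
  have hy : x ^ (p ^ a) ∈ Subgroup.centralizer (P : Set G) := by
    have hyX : x ^ (p ^ a) ∈ X := X.pow_mem hxX _
    have h1 := (hX _).mp hyX
    apply hnil.2 P e hmax.1 _ h1.1 h1.2
    unfold IsPRegular
    rw [orderOf_pow_of_dvd (pow_ne_zero _ hp.out.ne_zero) ⟨m, hord⟩, hord,
      Nat.mul_div_cancel_left _ (pow_pos hp.out.pos _)]
    exact hm
  set K := (Subgroup.centralizer (P : Set G)).subgroupOf X with hK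
  set q : X ⧸ K := QuotientGroup.mk ⟨x, hxX⟩ with hq
  have h1 : q ^ (p ^ a) = 1 := by
    rw [hq, ← QuotientGroup.mk_pow, QuotientGroup.eq_one_iff, hK, Subgroup.mem_subgroupOf]
    simpa using hy
  have h2 : q ^ K.index = 1 := by
    have : K.index = Nat.card (X ⧸ K) := rfl
    rw [this]
    exact pow_card_eq_one'
  have h3 : q ^ Nat.gcd (p ^ a) K.index = 1 := pow_gcd_eq_one.mpr ⟨h1, h2⟩
  have hcop : Nat.Coprime (p ^ a) K.index :=
    Nat.Coprime.pow_left a ((Nat.Prime.coprime_iff_not_dvd hp.out).mpr hidx)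
  rw [Nat.Coprime.gcd_eq_one hcop, pow_one, hq, QuotientGroup.eq_one_iff, hK, Subgroup.mem_subgroupOf] at h3
  exact h3

end Forward
end Cfsg.Agent.Lib.Helper2_AbelianNilpotent
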