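import Mathlib
import Cfsg.Prelude.Def_Characters
import Cfsg.Prelude.Def_Blocks
import Cfsg.Agent.Lib.Helper2_ClassFn
import Cfsg.Agent.Lib.Helper2_CharBasic
import Cfsg.Agent.Lib.Helper2_CharOrtho
import Cfsg.Agent.Lib.Helper2_CharMore
import Cfsg.Agent.Lib.Helper2_CharValues
import Cfsg.Agent.Lib.Helper2_CharComplete
import Cfsg.Agent.Lib.Helper2_CharInd
import Cfsg.Agent.Lib.Helper2_CharSum
import Cfsg.Agent.Lib.Helper2_CharCentral
import Cfsg.Agent.Lib.Helper2_CharInt
import Cfsg.Agent.Lib.Helper2_Artin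
import Cfsg.Agent.Lib.Helper2_BrauerInd
import Cfsg.Agent.Lib.Helper2_BrauerThm
import Cfsg.Agent.Lib.Helper2_NilDecomp
import Cfsg.Agent.Lib.Helper2_DefectZero
import Cfsg.Agent.Lib.Helper2_DefectPCore

set_option autoImplicit false

/-!
# Characters of central defect: vanishing off elements whose `p`-part is central
-/

namespace Cfsg.Agent.Lib.Helper2_CentralDefect

open Cfsg
open Cfsg.Agent.Lib.Helper2_ClassFn
open Cfsg.Agent.Lib.Helper2_CharBasic
open Cfsg.Agent.Lib.Helper2_CharOrtho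
open Cfsg.Agent.Lib.Helper2_CharMore
open Cfsg.Agent.Lib.Helper2_CharValues
open Cfsg.Agent.Lib.Helper2_CharComplete
open Cfsg.Agent.Lib.Helper2_CharInd
open Cfsg.Agent.Lib.Helper2_CharSum
open Cfsg.Agent.Lib.Helper2_CharCentral
open Cfsg.Agent.Lib.Helper2_CharInt
open Cfsg.Agent.Lib.Helper2_Artin
open Cfsg.Agent.Lib.Helper2_BrauerInd
open Cfsg.Agent.Lib.Helper2_BrauerThm
open Cfsg.Agent.Lib.Helper2_NilDecomp
open Cfsg.Agent.Lib.Helper2_DefectZero
open Cfsg.Agent.Lib.Helper2_DefectPCore
open scoped ComplexConjugate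

universe u

section Pd

variable {G : Type u} [Group G]

/-- The `p`-part of `g` lies in `D`: `g` is the product of an element of `D` and a `p`-regular
element. -/
def Pd (p : ℕ) (D : Subgroup G) (g : G) : Prop := ∃ z ∈ D, ¬ p ∣ orderOf (z⁻¹ * g)

theorem pd_one {p : ℕ} (hp : p.Prime) (D : Subgroup G) : Pd p D (1 : G) :=
  ⟨1, D.one_mem, by
    rw [inv_one, one_mul, orderOf_one]
    exact fun h => hp.one_lt.ne' (Nat.dvd_one.mp h)⟩

theorem pd_conj {p : ℕ} (D : Subgroup G) (hDZ : D ≤ Subgroup.center G) (g h : G) :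
    Pd p D (h * g * h⁻¹) ↔ Pd p D g := by
  have key : ∀ z ∈ D, orderOf (z⁻¹ * (h * g * h⁻¹)) = orderOf (z⁻¹ * g) := by
    intro z hz
    have hzc := Subgroup.mem_center_iff.mp (D.inv_mem hz |> fun h' => hDZ h') h
    have : z⁻¹ * (h * g * h⁻¹) = h * (z⁻¹ * g) * h⁻¹ := by
      rw [← mul_assoc, ← mul_assoc, ← hzc]
      group
    rw [this]
    have h2 := (MulAut.conj h).orderOf_eq (z⁻¹ * g)
    rwa [MulAut.conj_apply] at h2
  constructor
  · rintro ⟨z, hz, hreg⟩
    exact ⟨z, hz, by rwa [key z hz] at hreg⟩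
  · rintro ⟨z, hz, hreg⟩
    exact ⟨z, hz, by rwa [key z hz]⟩

/-- A `p`-element `w` commuting with the `p`-regular `y`, with `w * y` `p`-regular, is `1`. -/
theorem eq_one_of_regular_mul [Finite G] {p : ℕ} [hp : Fact p.Prime] {w y : G}
    (hc : Commute w y) (hw : ∃ i : ℕ, orderOf w = p ^ i) (hy : ¬ p ∣ orderOf y)
    (hwy : ¬ p ∣ orderOf (w * y)) : w = 1 := by
  obtain ⟨i, hi⟩ := hw
  have hcop : (orderOf w).Coprime (orderOf y) := by
    rw [hi]
    exact Nat.Coprime.pow_left i ((Nat.Prime.coprime_iff_not_dvd hp.out).mpr hy)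
  have h1 := hc.orderOf_mul_eq_mul_orderOf_of_coprime hcop
  have hi0 : i = 0 := by
    by_contra hne
    apply hwy
    rw [h1, hi]
    exact dvd_mul_of_dvd_left (dvd_pow_self p hne) _
  rw [hi0, pow_zero] at hi
  exact orderOf_eq_one_iff.mp hi

theorem orderOf_central_pElement [Finite G] {p : ℕ} [hp : Fact p.Prime] (D : Subgroup G)
    (hD : IsPGroup p D) (hDZ : D ≤ Subgroup.center G) {z x : G} (hz : z ∈ D)
    (hx : ∃ k : ℕ, orderOf x = p ^ k) : ∃ i : ℕ, orderOf (z⁻¹ * x) = p ^ i := by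
  obtain ⟨k, hk⟩ := hx
  obtain ⟨j, hj⟩ := (IsPGroup.iff_orderOf.mp hD) ⟨z, hz⟩
  rw [Subgroup.orderOf_mk] at hj
  have hcomm : Commute z⁻¹ x := by
    have := Subgroup.mem_center_iff.mp (hDZ (D.inv_mem hz)) x
    exact this.symm
  have hpow : (z⁻¹ * x) ^ (p ^ (j + k)) = 1 := by
    rw [hcomm.mul_pow, pow_add, pow_mul, inv_pow, ← hj, pow_orderOf_eq_one, inv_one, one_pow,
      one_mul, mul_comm, pow_mul, ← hk, pow_orderOf_eq_one, one_pow]
  have hdvd : orderOf (z⁻¹ * x) ∣ p ^ (j + k) := orderOf_dvd_of_pow_eq_one hpow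
  obtain ⟨i, _, hi⟩ := (Nat.dvd_prime_pow hp.out).mp hdvd
  exact ⟨i, hi⟩

theorem pd_mul_iff [Finite G] {p : ℕ} [hp : Fact p.Prime] (D : Subgroup G) (hD : IsPGroup p D)
    (hDZ : D ≤ Subgroup.center G)
    {x y : G} (hc : Commute x y) (hx : ∃ k : ℕ, orderOf x = p ^ k) (hy : ¬ p ∣ orderOf y) :
    Pd p D (x * y) ↔ x ∈ D := by
  constructor
  · rintro ⟨z, hz, hreg⟩
    have hzc : ∀ g : G, z⁻¹ * g = g * z⁻¹ := fun g =>
      (Subgroup.mem_center_iff.mp (hDZ (D.inv_mem hz)) g).symm
    have hcomm : Commute (z⁻¹ * x) y := by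
      show z⁻¹ * x * y = y * (z⁻¹ * x)
      rw [mul_assoc, hc.eq, ← mul_assoc, hzc y, mul_assoc]
    have hw := orderOf_central_pElement D hD hDZ hz hx
    rw [← mul_assoc] at hreg
    have h1 := eq_one_of_regular_mul hcomm hw hy hreg
    have : x = z := by
      have := congrArg (fun t => z * t) h1
      simpa using this
    rw [this]; exact hz
  · intro hxD
    exact ⟨x, hxD, by rwa [inv_mul_cancel_left]⟩

/-- Uniqueness of the `D`-part. -/
theorem pd_unique [Finite G] {p : ℕ} [hp : Fact p.Prime] (D : Subgroup G) (hD : IsPGroup p D)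
    (hDZ : D ≤ Subgroup.center G) {g z z' : G} (hz : z ∈ D) (hz' : z' ∈ D)
    (h : ¬ p ∣ orderOf (z⁻¹ * g)) (h' : ¬ p ∣ orderOf (z'⁻¹ * g)) : z = z' := by
  -- z'⁻¹ g = (z'⁻¹ z) (z⁻¹ g)
  set y := z⁻¹ * g with hy
  have e : z'⁻¹ * g = (z'⁻¹ * z) * y := by rw [hy]; group
  rw [e] at h'
  have hcomm : Commute (z'⁻¹ * z) y := by
    have := Subgroup.mem_center_iff.mp (hDZ (D.mul_mem (D.inv_mem hz') hz)) y
    exact this.symm
  have hzord : ∃ k : ℕ, orderOf z = p ^ k := by
    obtain ⟨j, hj⟩ := (IsPGroup.iff_orderOf.mp hD) ⟨z, hz⟩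
    rw [Subgroup.orderOf_mk] at hj
    exact ⟨j, hj⟩
  have hw := orderOf_central_pElement D hD hDZ hz' hzord
  have h1 := eq_one_of_regular_mul hcomm hw h h'
  have := congrArg (fun t => z' * t) h1
  simpa using this

/-- The truncation of `χ` to the elements whose `p`-part lies in `D`. -/
noncomputable def pdPart (p : ℕ) (D : Subgroup G) (χ : G → ℂ) : G → ℂ :=
  fun g => haveI := Classical.propDecidable (Pd p D g); if Pd p D g then χ g else 0

theorem pdPart_of_pd {p : ℕ} {D : Subgroup G} {χ : G → ℂ} {g : G} (h : Pd p D g) :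
    pdPart p D χ g = χ g := by
  unfold pdPart; rw [if_pos h]

theorem pdPart_of_not_pd {p : ℕ} {D : Subgroup G} {χ : G → ℂ} {g : G} (h : ¬ Pd p D g) :
    pdPart p D χ g = 0 := by
  unfold pdPart; rw [if_neg h]

theorem pdPart_isClassFunction {p : ℕ} (D : Subgroup G) (hDZ : D ≤ Subgroup.center G)
    {χ : G → ℂ} (hχ : IsClassFunction G χ) : IsClassFunction G (pdPart p D χ) := by
  intro g h
  by_cases hd : Pd p D g
  · rw [pdPart_of_pd hd, pdPart_of_pd ((pd_conj D hDZ g h).mpr hd), hχ]
  · rw [pdPart_of_not_pd hd, pdPart_of_not_pd (fun h' => hd ((pd_conj D hDZ g h).mp h'))]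

end Pd

section MultSum

variable {E : Type u} [Group E]

/-- The sum of a multiplicative function over a finite subgroup is `0` or the order. -/
theorem sum_mult_subgroup (A : Subgroup E) [Fintype A] (f : E → ℂ)
    (hmul : ∀ u ∈ A, ∀ v ∈ A, f (u * v) = f u * f v) :
    ∑ w : A, f w = 0 ∨ ∑ w : A, f w = (Nat.card A : ℂ) := by
  by_cases h1 : ∀ u ∈ A, f u = 1
  · right
    rw [Finset.sum_congr rfl (fun (w : A) _ => h1 (w : E) w.2), Finset.sum_const, nsmul_eq_mul, mul_one,
      Finset.card_univ, Nat.card_eq_fintype_card]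
  · left
    push Not at h1
    obtain ⟨v, hv, hfv⟩ := h1
    have h2 : f v * ∑ w : A, f w = ∑ w : A, f w := by
      rw [Finset.mul_sum]
      have : ∀ w : A, f v * f w = f (((⟨v, hv⟩ : A) * w : A) : E) := by
        intro w
        rw [Subgroup.coe_mul, hmul v hv w w.2]
      rw [Finset.sum_congr rfl (fun w _ => this w)]
      exact Fintype.sum_equiv (Equiv.mulLeft (⟨v, hv⟩ : A)) _ _ (fun _ => rfl)
    have h3 : (f v - 1) * ∑ w : A, f w = 0 := by
      rw [sub_mul, h2, one_mul, sub_self]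
    rcases mul_eq_zero.mp h3 with h | h
    · exact absurd (sub_eq_zero.mp h) hfv
    · exact h

end MultSum

section Main

variable {G : Type u} [Group G] [Fintype G]

omit [Fintype G] in
theorem normal_of_le_center' (D : Subgroup G) (hDZ : D ≤ Subgroup.center G) : D.Normal :=
  ⟨fun x hx g => by
    have := Subgroup.mem_center_iff.mp (hDZ hx) g
    rw [this, mul_inv_cancel_right]; exact hx⟩

/-- Sum over a nilpotent group via its `p`-decomposition. -/
theorem sum_p_decomp {E : Type u} [Group E] [Fintype E] {p : ℕ} [hp : Fact p.Prime]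
    (P : Subgroup E) (hP : IsPGroup p P) (Q : Subgroup E) [Fintype P] [Fintype Q]
    (hcard : Nat.card P * Nat.card Q = Nat.card E)
    (hmem : ∀ y : E, y ∈ Q ↔ ¬ p ∣ orderOf y) (F : E → ℂ) :
    ∑ e : E, F e = ∑ u : P, ∑ y : Q, F ((u : E) * (y : E)) := by
  classical
  set φ : ↥P × ↥Q → E := fun a => (a.1 : E) * (a.2 : E) with hφ
  have hinj : Function.Injective φ := by
    rintro ⟨u, y⟩ ⟨u', y'⟩ h
    simp only [hφ] at h
    have hz : (u' : E)⁻¹ * (u : E) = (y' : E) * (y : E)⁻¹ := by
      have : (u : E) = (u' : E) * (y' : E) * (y : E)⁻¹ := by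
        rw [← h]; group
      rw [this]; group
    have hzP : (u' : E)⁻¹ * (u : E) ∈ P :=
      P.mul_mem (P.inv_mem u'.2) u.2
    have hzQ : (u' : E)⁻¹ * (u : E) ∈ Q := by
      rw [hz]; exact Q.mul_mem y'.2 (Q.inv_mem y.2)
    obtain ⟨k, hk⟩ := (IsPGroup.iff_orderOf.mp hP) ⟨_, hzP⟩
    rw [Subgroup.orderOf_mk] at hk
    have hnd := (hmem _).mp hzQ
    have hk0 : k = 0 := by
      by_contra hne
      apply hnd
      rw [hk]
      exact dvd_pow_self p hne
    rw [hk0, pow_zero, orderOf_eq_one_iff] at hk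
    have hu : (u : E) = (u' : E) := by
      have := congrArg (fun z => (u' : E) * z) hk
      simpa using this
    have hy : (y : E) = (y' : E) := by
      rw [hu] at h
      exact mul_left_cancel h
    exact Prod.ext (Subtype.ext hu) (Subtype.ext hy)
  have hbij : Function.Bijective φ := by
    rw [Fintype.bijective_iff_injective_and_card]
    refine ⟨hinj, ?_⟩
    rw [Fintype.card_prod, ← Nat.card_eq_fintype_card, ← Nat.card_eq_fintype_card,
      ← Nat.card_eq_fintype_card, hcard]
  rw [← Fintype.sum_bijective φ hbij (fun a => F (φ a)) F (fun _ => rfl),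
    Fintype.sum_prod_type]

theorem pdPart_res_isGenChar {χ : G → ℂ} (hχ : IsIrrCharacter G χ) (p n b d₁ δ : ℕ)
    (hp : p.Prime) (hcardG : Nat.card G = p ^ n * b) (hb : ¬ p ∣ b) (D : Subgroup G)
    (hDZ : D ≤ Subgroup.center G) (hDcard : Nat.card D = p ^ δ) (hδ : δ ≤ n)
    (hd : χ 1 = ((p ^ (n - δ) * d₁ : ℕ) : ℂ)) (E : Subgroup G) (q : ℕ) (hq : q.Prime)
    (hE : IsElementary q E) :
    IsGeneralizedCharacter E (fun e : E => pdPart p D χ e) := by
  classical
  haveI : Fact p.Prime := ⟨hp⟩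
  haveI : Fintype E := Fintype.ofFinite _
  haveI : Group.IsNilpotent E := IsElementary.nilpotent hq hE
  haveI hDn : D.Normal := normal_of_le_center' D hDZ
  have hDp : IsPGroup p D := IsPGroup.of_card hDcard
  have hχc := IsIrrCharacter.isCharacter hχ
  have hχcf := IsCharacter.isClassFunction hχc
  have hθcf : IsClassFunction G (pdPart p D χ) := pdPart_isClassFunction D hDZ hχcf
  have hθEcf : IsClassFunction E (fun e : E => pdPart p D χ e) :=
    fun g h => hθcf (g : G) (h : G)
  obtain ⟨P, Q, hcard, hQp, hmem, hcomm⟩ := nilpotent_p_decomp (E := E) p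
  obtain ⟨j, hj⟩ := IsPGroup.iff_card.mp P.2
  haveI : Fintype Q := Fintype.ofFinite _
  haveI : Fintype (P : Subgroup E) := Fintype.ofFinite _
  have hd10 : (d₁ : ℂ) ≠ 0 := by
    intro h0
    apply IsIrrCharacter.apply_one_ne_zero hχ
    rw [hd]
    push_cast
    rw [h0, mul_zero]
  have hχ1 : χ 1 ≠ 0 := IsIrrCharacter.apply_one_ne_zero hχ
  apply Helper2_DefectZero.isGeneralizedCharacter_of_classInner_int hθEcf
  intro ψ hψ
  have hψc := IsIrrCharacter.isCharacter hψ
  have hψ1 : ψ 1 ≠ 0 := IsIrrCharacter.apply_one_ne_zero hψ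
  set SQ : ℂ := ∑ y : Q, χ ((y : E) : G) * conj (ψ (y : E)) with hSQ
  set P' : Subgroup G := (P : Subgroup E).map E.subtype with hP'
  set PD : Subgroup E := (P' ⊓ D).subgroupOf E with hPD
  haveI : Fintype PD := Fintype.ofFinite _
  set f : E → ℂ := fun u => (χ (u : G) / χ 1) * conj (ψ u / ψ 1) with hf
  set T : ℂ := ∑ w : PD, f w with hT
  have hmemPD : ∀ e : E, e ∈ PD ↔ e ∈ (P : Subgroup E) ∧ (e : G) ∈ D := by
    intro e
    rw [hPD, Subgroup.mem_subgroupOf, Subgroup.mem_inf, hP', Subgroup.mem_map]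
    constructor
    · rintro ⟨⟨e', he', hee⟩, hD⟩
      have : e' = e := Subtype.ext hee
      exact ⟨this ▸ he', hD⟩
    · rintro ⟨h1, h2⟩
      exact ⟨⟨e, h1, rfl⟩, h2⟩
  have hcentG : ∀ e : E, (e : G) ∈ D → ∀ g : G, (e : G) * g = g * (e : G) := by
    intro e he g
    exact (Subgroup.mem_center_iff.mp (hDZ he) g).symm
  have hcentE : ∀ e : E, (e : G) ∈ D → ∀ g : E, e * g = g * e := by
    intro e he g
    apply Subtype.ext
    rw [Subgroup.coe_mul, Subgroup.coe_mul]
    exact hcentG e he g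
  -- the sum over `E`
  have claim1 : ∑ e : E, pdPart p D χ (e : G) * conj (ψ e) = T * SQ := by
    rw [sum_p_decomp (P : Subgroup E) P.2 Q hcard hmem]
    have hterm : ∀ (u : (P : Subgroup E)) (y : Q),
        pdPart p D χ (((u : E) * (y : E) : E) : G) * conj (ψ ((u : E) * (y : E)))
        = (if (u : E) ∈ PD then f u else 0) * (χ ((y : E) : G) * conj (ψ (y : E))) := by
      intro u y
      have hcommG : Commute ((u : E) : G) ((y : E) : G) := by
        have := hcomm u u.2 y y.2
        have h2 := congrArg (fun e : E => (e : G)) this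
        simp only [Subgroup.coe_mul] at h2
        exact h2
      have hordu : ∃ k : ℕ, orderOf ((u : E) : G) = p ^ k := by
        obtain ⟨k, hk⟩ := (IsPGroup.iff_orderOf.mp P.2) u
        refine ⟨k, ?_⟩
        rw [Subgroup.orderOf_coe, ← hk, Subgroup.orderOf_coe]
      have hordy : ¬ p ∣ orderOf ((y : E) : G) := by
        rw [Subgroup.orderOf_coe]
        exact (hmem y).mp y.2
      have hpd := pd_mul_iff D hDp hDZ hcommG hordu hordy
      rw [Subgroup.coe_mul]
      by_cases huD : ((u : E) : G) ∈ D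
      · have huPD : (u : E) ∈ PD := (hmemPD u).mpr ⟨u.2, huD⟩
        rw [if_pos huPD, pdPart_of_pd (hpd.mpr huD),
          apply_central_mul hχ _ (hcentG u huD) _,
          apply_central_mul hψ _ (hcentE u huD) _, hf]
        simp only [map_div₀, map_mul]
        field_simp
      · have huPD : (u : E) ∉ PD := fun h => huD ((hmemPD u).mp h).2
        rw [if_neg huPD, pdPart_of_not_pd (fun h => huD (hpd.mp h)), zero_mul, zero_mul]
    simp_rw [hterm]
    simp_rw [← Finset.mul_sum]
    rw [← Finset.sum_mul]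
    congr 1
    rw [← Finset.sum_filter]
    refine Finset.sum_bij' (fun u hu => (⟨(u : E), (Finset.mem_filter.mp hu).2⟩ : PD))
      (fun w _ => (⟨(w : E), ((hmemPD w).mp w.2).1⟩ : (P : Subgroup E)))
      ?_ ?_ ?_ ?_ ?_
    · intro u _; exact Finset.mem_univ _
    · intro w _
      rw [Finset.mem_filter]
      exact ⟨Finset.mem_univ _, w.2⟩
    · intro u _; rfl
    · intro w _; rfl
    · intro u _; rfl
  have hE0 : (Nat.card E : ℂ) ≠ 0 := by exact_mod_cast Nat.card_pos.ne'
  have hQ0 : (Nat.card Q : ℂ) ≠ 0 := by exact_mod_cast Nat.card_pos.ne'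
  have hP0 : (Nat.card (P : Subgroup E) : ℂ) ≠ 0 := by exact_mod_cast Nat.card_pos.ne'
  have hcardC : (Nat.card (P : Subgroup E) : ℂ) * (Nat.card Q : ℂ) = (Nat.card E : ℂ) := by
    exact_mod_cast hcard
  have hr : classInner (fun e : E => pdPart p D χ e) ψ = (Nat.card E : ℂ)⁻¹ * (T * SQ) := by
    rw [classInner_def, claim1]
  -- T is 0 or |PD|
  have hTcase : T = 0 ∨ T = (Nat.card PD : ℂ) := by
    apply sum_mult_subgroup PD f
    intro u hu v hv
    have huD := ((hmemPD u).mp hu).2
    rw [hf]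
    simp only
    rw [Subgroup.coe_mul, apply_central_mul hχ _ (hcentG u huD) _,
      apply_central_mul hψ _ (hcentE u huD) _]
    simp only [map_div₀, map_mul]
    field_simp
  rcases hTcase with hT0 | hTt
  · refine ⟨0, ?_⟩
    rw [hr, hT0, zero_mul, mul_zero, Int.cast_zero]
  set t := Nat.card PD with ht
  -- (B')
  obtain ⟨N, hN⟩ := IsCharacter.classInner_nat
    (IsCharacter.restrict (IsCharacter.restrict hχc E) Q) (IsCharacter.restrict hψc Q)
  have hSQN : SQ = (N : ℂ) * (Nat.card Q : ℂ) := by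
    rw [classInner_def] at hN
    have : (Nat.card Q : ℂ)⁻¹ * SQ = N := hN
    rw [← this]
    field_simp
  have hB : (Nat.card (P : Subgroup E) : ℂ) * classInner (fun e : E => pdPart p D χ e) ψ
      = ((t * N : ℕ) : ℂ) := by
    rw [hr, hTt, hSQN, ← hcardC]
    push_cast
    field_simp
  -- cardinalities
  have hP'card : Nat.card P' = Nat.card (P : Subgroup E) :=
    Subgroup.card_map_of_injective E.subtype_injective
  have htcard : Nat.card (P' ⊓ D : Subgroup G) = t := by
    have hle : P' ⊓ D ≤ E := by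
      intro x hx
      obtain ⟨e, _, rfl⟩ := hx.1
      exact e.2
    rw [ht, hPD]
    exact (Nat.card_congr (Subgroup.subgroupOfEquivOfLe hle).toEquiv).symm
  set ρ := P'.relIndex D with hρ
  have htρ : t * ρ = p ^ δ := by
    have h4 := card_mul_relIndex_of_le (inf_le_right : P' ⊓ D ≤ D)
    rw [Subgroup.inf_relIndex_right, htcard, hDcard] at h4
    exact h4
  have hsupcard : Nat.card (P' ⊔ D : Subgroup G) = Nat.card (P : Subgroup E) * ρ := by
    have h1 := card_mul_relIndex_of_le (le_sup_left : P' ≤ P' ⊔ D)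
    rw [relIndex_sup_eq, hP'card] at h1
    exact h1.symm
  have hρpos : 0 < ρ := by
    rcases Nat.eq_zero_or_pos ρ with h | h
    · rw [h, mul_zero] at htρ
      exact absurd htρ.symm (pow_pos hp.pos δ).ne'
    · exact h
  -- (A)
  have hterm : ∀ y : Q, IsIntegral ℤ
      ((t : ℂ) * (b : ℂ) * χ ((y : E) : G) / (Nat.card (P : Subgroup E) : ℂ)) := by
    intro y
    set g : G := ((y : E) : G) with hg
    have hω := isIntegral_omega hχ g
    set cl := (Finset.univ.filter (fun x : G => IsConj x g)).card with hcl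
    set c := Nat.card (Subgroup.centralizer ({g} : Set G)) with hc
    have hclc : cl * c = Nat.card G := card_class_mul_card_centralizer g
    have hPc : Nat.card (P' ⊔ D : Subgroup G) ∣ c := by
      have hle : P' ⊔ D ≤ Subgroup.centralizer ({g} : Set G) := by
        apply sup_le
        · intro u hu
          obtain ⟨u', hu', rfl⟩ := Subgroup.mem_map.mp hu
          rw [Subgroup.mem_centralizer_iff]
          intro z hz
          rw [Set.mem_singleton_iff] at hz
          subst hz
          have := hcomm u' hu' (y : E) y.2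
          have h2 := congrArg (fun e : E => (e : G)) this
          simp only [Subgroup.coe_mul] at h2
          exact h2.symm
        · intro u hu
          rw [Subgroup.mem_centralizer_singleton_iff]
          exact (Subgroup.mem_center_iff.mp (hDZ hu) g).symm
      exact Subgroup.card_dvd_of_le hle
    obtain ⟨c', hc'⟩ := hPc
    rw [hsupcard] at hc'
    -- t * b * p^(n-δ) = cl * c' * |P|
    have hnat : t * b * p ^ (n - δ) = cl * c' * Nat.card (P : Subgroup E) := by
      apply Nat.eq_of_mul_eq_mul_right hρpos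
      have hpn : p ^ (n - δ) * p ^ δ = p ^ n := by
        rw [← pow_add, Nat.sub_add_cancel hδ]
      calc t * b * p ^ (n - δ) * ρ = (t * ρ) * b * p ^ (n - δ) := by ring
        _ = p ^ n * b := by rw [htρ, ← hpn]; ring
        _ = cl * c := by rw [hclc, hcardG]
        _ = cl * c' * Nat.card (P : Subgroup E) * ρ := by rw [hc']; ring
    have hnatC : (t : ℂ) * (b : ℂ) * (p : ℂ) ^ (n - δ)
        = (cl : ℂ) * (c' : ℂ) * (Nat.card (P : Subgroup E) : ℂ) := by
      exact_mod_cast hnat
    have hpn0 : ((p : ℂ) ^ (n - δ)) ≠ 0 := pow_ne_zero _ (by exact_mod_cast hp.ne_zero)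
    have heq : (t : ℂ) * (b : ℂ) * χ g / (Nat.card (P : Subgroup E) : ℂ)
        = ((cl : ℂ) * χ g / χ 1) * ((d₁ : ℂ) * (c' : ℂ)) := by
      rw [hd]
      push_cast
      field_simp
      linear_combination (χ g) * hnatC
    rw [heq]
    apply IsIntegral.mul hω
    exact IsIntegral.mul (isIntegral_natCast d₁) (isIntegral_natCast c')
  have hA : IsIntegral ℤ (((b * Nat.card Q : ℕ) : ℂ)
      * classInner (fun e : E => pdPart p D χ e) ψ) := by
    have : ((b * Nat.card Q : ℕ) : ℂ) * classInner (fun e : E => pdPart p D χ e) ψ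
        = ∑ y : Q, ((t : ℂ) * (b : ℂ) * χ ((y : E) : G) / (Nat.card (P : Subgroup E) : ℂ))
            * conj (ψ (y : E)) := by
      rw [hr, hTt, hSQ, Finset.mul_sum, Finset.mul_sum, Finset.mul_sum]
      refine Finset.sum_congr rfl fun y _ => ?_
      rw [← hcardC]
      push_cast
      field_simp
    rw [this]
    apply IsIntegral.sum
    intro y _
    apply IsIntegral.mul (hterm y)
    exact IsCharacter.isIntegral (IsCharacter.conj hψc) (y : E)
  have hcop : Nat.Coprime (Nat.card (P : Subgroup E)) (b * Nat.card Q) := by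
    rw [hj]
    apply Nat.Coprime.pow_left
    exact Nat.Coprime.mul_right ((Nat.Prime.coprime_iff_not_dvd hp).mpr hb)
      ((Nat.Prime.coprime_iff_not_dvd hp).mpr hQp)
  exact int_of_two_integral _ (t * N) _ _ Nat.card_pos hB hcop hA

/-- An irreducible character whose degree has the `p`-part of `|G : D|`, `D` a central
`p`-subgroup, vanishes off the elements whose `p`-part lies in `D`. -/
theorem vanish_of_central_defect {χ : G → ℂ} (hχ : IsIrrCharacter G χ) (p n δ : ℕ)
    (hp : p.Prime) (hn : p ^ n ∣ Nat.card G) (hn' : ¬ p ^ (n + 1) ∣ Nat.card G)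
    (D : Subgroup G) (hDZ : D ≤ Subgroup.center G) (hDcard : Nat.card D = p ^ δ) (hδ : δ ≤ n)
    (d : ℕ) (hd : χ 1 = d) (hdeg : p ^ (n - δ) ∣ d) (x : G) (hx : ¬ Pd p D x) : χ x = 0 := by
  classical
  haveI hDn : D.Normal := normal_of_le_center' D hDZ
  have hχc := IsIrrCharacter.isCharacter hχ
  have hχcf := IsCharacter.isClassFunction hχc
  obtain ⟨b, hb⟩ := hn
  have hpb : ¬ p ∣ b := by
    rintro ⟨b', hb'⟩
    apply hn'
    rw [hb, hb', pow_succ]
    exact ⟨b', by ring⟩
  obtain ⟨d₁, hd₁⟩ := hdeg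
  have hd' : χ 1 = ((p ^ (n - δ) * d₁ : ℕ) : ℂ) := by rw [hd, hd₁]
  have hθ : IsGeneralizedCharacter G (pdPart p D χ) :=
    brauer_characterization _ (pdPart_isClassFunction D hDZ hχcf)
      (fun E q hq hE => pdPart_res_isGenChar hχ p n b d₁ δ hp hb hpb D hDZ hDcard hδ hd' E q hq hE)
  obtain ⟨k, hk⟩ := IsGeneralizedCharacter.classInner_irr_int hθ hχ
  set A : ℝ := ∑ g : G, if Pd p D g then Complex.normSq (χ g) else 0 with hAdef
  set B : ℝ := ∑ g : G, if Pd p D g then 0 else Complex.normSq (χ g) with hBdef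
  have hG0 : (Nat.card G : ℂ) ≠ 0 := card_ne_zero_complex
  have hGpos : (0 : ℝ) < Nat.card G := by exact_mod_cast Nat.card_pos
  have hAB : A + B = Nat.card G := by
    have h1 := classInner_irr_self hχ
    rw [classInner_def] at h1
    have h2 : ∑ g : G, χ g * conj (χ g) = (Nat.card G : ℂ) := by
      field_simp at h1
      exact h1
    have h3 : A + B = ∑ g : G, Complex.normSq (χ g) := by
      rw [hAdef, hBdef, ← Finset.sum_add_distrib]
      refine Finset.sum_congr rfl fun g _ => ?_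
      split_ifs <;> simp
    rw [h3]
    have h4 : ((∑ g : G, Complex.normSq (χ g) : ℝ) : ℂ) = (Nat.card G : ℂ) := by
      push_cast
      rw [← h2]
      refine Finset.sum_congr rfl fun g _ => ?_
      rw [Complex.mul_conj]
    exact_mod_cast h4
  have hA : (A : ℂ) = k * Nat.card G := by
    have h1 : classInner (pdPart p D χ) χ = (Nat.card G : ℂ)⁻¹ * (A : ℂ) := by
      rw [classInner_def]
      congr 1
      rw [hAdef]
      push_cast
      refine Finset.sum_congr rfl fun g _ => ?_
      by_cases hg : Pd p D g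
      · rw [pdPart_of_pd hg, if_pos hg, Complex.mul_conj]
      · rw [pdPart_of_not_pd hg, if_neg hg]; simp
    rw [h1] at hk
    rw [← hk]
    field_simp
  have hA' : A = k * Nat.card G := by exact_mod_cast hA
  have hApos : 0 < A := by
    rw [hAdef]
    apply Finset.sum_pos'
    · intro g _
      split_ifs
      · exact Complex.normSq_nonneg _
      · exact le_rfl
    · refine ⟨1, Finset.mem_univ _, ?_⟩
      have h1 : Pd p D (1 : G) := pd_one hp D
      rw [if_pos h1]
      exact Complex.normSq_pos.mpr (IsIrrCharacter.apply_one_ne_zero hχ)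
  have hB0 : 0 ≤ B := by
    rw [hBdef]
    apply Finset.sum_nonneg
    intro g _
    split_ifs
    · exact le_rfl
    · exact Complex.normSq_nonneg _
  have hk1 : 1 ≤ k := by
    by_contra hlt
    have h1 : k ≤ 0 := by omega
    have h2 : (k : ℝ) ≤ 0 := by exact_mod_cast h1
    nlinarith
  have hk1' : (1 : ℝ) ≤ k := by exact_mod_cast hk1
  have hBle : B ≤ 0 := by nlinarith
  have hBz : B = 0 := le_antisymm hBle hB0
  have hall := (Finset.sum_eq_zero_iff_of_nonneg (fun g _ => by
    split_ifs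
    · exact le_rfl
    · exact Complex.normSq_nonneg _)).mp hBz x (Finset.mem_univ x)
  rw [if_neg hx] at hall
  exact Complex.normSq_eq_zero.mp hall

end Main

end Cfsg.Agent.Lib.Helper2_CentralDefect
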