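import Mathlib
import Cfsg.Prelude.Def_Characters
import Cfsg.Prelude.Def_Blocks
import Cfsg.Prelude.Def_BlockRank
import Cfsg.Agent.Lib.Helper2_ClassFn
import Cfsg.Agent.Lib.Helper2_CharBasic
import Cfsg.Agent.Lib.Helper2_CharOrtho
import Cfsg.Agent.Lib.Helper2_CharValues
import Cfsg.Agent.Lib.Helper2_CharSum
import Cfsg.Agent.Lib.Helper2_CharCentral
import Cfsg.Agent.Lib.Helper2_ModM
import Cfsg.Agent.Lib.Helper2_Blocks
import Cfsg.Agent.Lib.Helper2_BlockOrtho
import Cfsg.Agent.Lib.Helper2_BlockMore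
import Cfsg.Agent.Lib.Helper2_BlockKer
import Cfsg.Agent.Lib.Helper2_DefectGroup
import Cfsg.Agent.Lib.Helper2_DefectPCore
import Cfsg.Agent.Lib.Helper2_BrauerFirst
import Cfsg.Agent.Lib.Helper2_CentralDefect

set_option autoImplicit false

/-!
# Blocks with a central defect group
-/

namespace Cfsg.Agent.Lib.Helper2_CentralDefect2

open Cfsg
open Cfsg.Agent.Lib.Helper2_ClassFn
open Cfsg.Agent.Lib.Helper2_CharBasic
open Cfsg.Agent.Lib.Helper2_CharOrtho
open Cfsg.Agent.Lib.Helper2_CharValues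
open Cfsg.Agent.Lib.Helper2_CharSum
open Cfsg.Agent.Lib.Helper2_CharCentral
open Cfsg.Agent.Lib.Helper2_ModM
open Cfsg.Agent.Lib.Helper2_Blocks
open Cfsg.Agent.Lib.Helper2_BlockOrtho
open Cfsg.Agent.Lib.Helper2_BlockMore
open Cfsg.Agent.Lib.Helper2_BlockKer
open Cfsg.Agent.Lib.Helper2_DefectGroup
open Cfsg.Agent.Lib.Helper2_DefectPCore
open Cfsg.Agent.Lib.Helper2_BrauerFirst
open Cfsg.Agent.Lib.Helper2_CentralDefect
open scoped ComplexConjugate

universe u

variable {G : Type u} [Group G] [Fintype G] {M : Ideal AlgInt}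

open Classical in
/-- Decomposition of a sum over the elements whose `p`-part lies in the central `p`-subgroup
`D`. -/
theorem sum_pd_decomp {p : ℕ} [hp : Fact p.Prime] (D : Subgroup G) [Fintype D]
    (hD : IsPGroup p D) (hDZ : D ≤ Subgroup.center G) (F : G → ℂ) :
    ∑ g : G, (if Pd p D g then F g else 0)
      = ∑ z : D, ∑ y : G, if ¬ p ∣ orderOf y then F ((z : G) * y) else 0 := by
  have h1 : ∀ z : D, ∑ y : G, (if ¬ p ∣ orderOf y then F ((z : G) * y) else 0)
      = ∑ g : G, if ¬ p ∣ orderOf ((z : G)⁻¹ * g) then F g else 0 := by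
    intro z
    refine Fintype.sum_equiv (Equiv.mulLeft (z : G)) _ _ fun y => ?_
    simp only [Equiv.coe_mulLeft, inv_mul_cancel_left]
  rw [Finset.sum_congr rfl (fun z _ => h1 z), Finset.sum_comm]
  refine Finset.sum_congr rfl fun g _ => ?_
  by_cases hg : Pd p D g
  · rw [if_pos hg]
    obtain ⟨z₀, hz₀, hreg⟩ := hg
    rw [Finset.sum_eq_single (⟨z₀, hz₀⟩ : D)]
    · rw [if_pos hreg]
    · intro z _ hne
      rw [if_neg]
      intro hreg'
      apply hne
      exact Subtype.ext (pd_unique D hD hDZ z.2 hz₀ hreg' hreg)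
    · intro h; exact absurd (Finset.mem_univ _) h
  · rw [if_neg hg]
    symm
    refine Finset.sum_eq_zero fun z _ => ?_
    rw [if_neg]
    intro hreg
    exact hg ⟨z, z.2, hreg⟩

/-- The weight `χ(g⁻¹)` on `p`-regular elements. -/
noncomputable def regW (p : ℕ) (χ : G → ℂ) : G → ℂ :=
  fun g => haveI := Classical.propDecidable (p ∣ orderOf g); if p ∣ orderOf g then 0 else χ g⁻¹

omit [Fintype G] in
theorem regW_isClassFunction (p : ℕ) {χ : G → ℂ} (hχ : IsClassFunction G χ) :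
    IsClassFunction G (regW p χ) := by
  classical
  intro g h
  unfold regW
  have hord : orderOf (h * g * h⁻¹) = orderOf g := by
    have := (MulAut.conj h).orderOf_eq g
    rwa [MulAut.conj_apply] at this
  have hinv : (h * g * h⁻¹)⁻¹ = h * g⁻¹ * h⁻¹ := by group
  rw [hord, hinv, hχ]

theorem regW_memLocalRing (hM : M.IsMaximal) (p : ℕ) {χ : G → ℂ} (hχ : IsCharacter G χ)
    (g : G) : MemLocalRing M (regW p χ g) := by
  classical
  unfold regW
  split_ifs
  · exact memLocalRing_zero hM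
  · exact memLocalRing_of_isIntegral hM (IsCharacter.isIntegral hχ _)

open Classical in
/-- The sum of `χ(y⁻¹) χ(y)` over `p`-regular elements, for a character vanishing off the elements
with `p`-part in `D`. -/
theorem card_mul_sum_regW {p : ℕ} [hp : Fact p.Prime] (D : Subgroup G) [Fintype D]
    (hD : IsPGroup p D) (hDZ : D ≤ Subgroup.center G) {χ : G → ℂ} (hχ : IsIrrCharacter G χ)
    (hvan : ∀ x : G, ¬ Pd p D x → χ x = 0) :
    (Nat.card D : ℂ) * ∑ y : G, regW p χ y * χ y = (Nat.card G : ℂ) := by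
  have hχc := IsIrrCharacter.isCharacter hχ
  have hχ1 : χ 1 ≠ 0 := IsIrrCharacter.apply_one_ne_zero hχ
  have h1 := classInner_irr_self hχ
  rw [classInner_def] at h1
  have hG0 : (Nat.card G : ℂ) ≠ 0 := card_ne_zero_complex
  have h2 : ∑ g : G, χ g * conj (χ g) = (Nat.card G : ℂ) := by
    field_simp at h1
    exact h1
  have h3 : ∑ g : G, χ g * conj (χ g)
      = ∑ g : G, if Pd p D g then χ g⁻¹ * χ g else 0 := by
    refine Finset.sum_congr rfl fun g _ => ?_
    by_cases hg : Pd p D g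
    · rw [if_pos hg, IsCharacter.apply_inv hχc, mul_comm]
    · rw [if_neg hg, hvan g hg, zero_mul]
  rw [← h2, h3, sum_pd_decomp D hD hDZ (fun g => χ g⁻¹ * χ g)]
  have h4 : ∀ z : D, ∑ y : G, (if ¬ p ∣ orderOf y then
      (fun g => χ g⁻¹ * χ g) ((z : G) * y) else 0) = ∑ y : G, regW p χ y * χ y := by
    intro z
    refine Finset.sum_congr rfl fun y _ => ?_
    unfold regW
    by_cases hy : p ∣ orderOf y
    · rw [if_neg (not_not.mpr hy), if_pos hy, zero_mul]
    · rw [if_pos hy, if_neg hy]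
      beta_reduce
      have hzc : ∀ g : G, (z : G) * g = g * (z : G) := fun g =>
        (Subgroup.mem_center_iff.mp (hDZ z.2) g).symm
      have hzc' : ∀ g : G, (z : G)⁻¹ * g = g * (z : G)⁻¹ := fun g =>
        (Subgroup.mem_center_iff.mp (hDZ (D.inv_mem z.2)) g).symm
      have e1 : ((z : G) * y)⁻¹ = (z : G)⁻¹ * y⁻¹ := by
        rw [mul_inv_rev, hzc']
      rw [e1, apply_central_mul hχ _ hzc y, apply_central_mul hχ _ hzc' y⁻¹]
      have e2 := apply_central_mul hχ _ hzc (z : G)⁻¹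
      rw [mul_inv_cancel] at e2
      have e3 : χ (z : G) * χ (z : G)⁻¹ = χ 1 * χ 1 := ((eq_div_iff hχ1).mp e2).symm
      field_simp
      linear_combination (χ y⁻¹ * χ y) * e3
  rw [Finset.sum_congr rfl (fun z _ => h4 z), Finset.sum_const, nsmul_eq_mul, Finset.card_univ,
    Nat.card_eq_fintype_card]

open Classical in
/-- All characters in the block of a character of central defect have degree divisible by the
same power of `p`. -/
theorem factorization_ge_of_sameBlock {p : ℕ} [hp : Fact p.Prime] (hM : IsPModular p M)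
    (D : Subgroup G) [Fintype D] (hD : IsPGroup p D) (hDZ : D ≤ Subgroup.center G)
    {χ ψ : G → ℂ} (hχ : IsIrrCharacter G χ) (hψ : IsIrrCharacter G ψ) (hs : SameBlock M χ ψ)
    (hvan : ∀ x : G, ¬ Pd p D x → χ x = 0) (n b d₁ δ : ℕ) (hcardG : Nat.card G = p ^ n * b)
    (hb : ¬ p ∣ b) (hDcard : Nat.card D = p ^ δ) (hδ : δ ≤ n)
    (hd : χ 1 = ((p ^ (n - δ) * d₁ : ℕ) : ℂ)) :
    n - δ ≤ (charDegree ψ).factorization p := by
  have hMm := hM.2.1
  have hχc := IsIrrCharacter.isCharacter hχ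
  have hψc := IsIrrCharacter.isCharacter hψ
  have hχcf := IsCharacter.isClassFunction hχc
  have hψcf := IsCharacter.isClassFunction hψc
  have hχ1 : χ 1 ≠ 0 := IsIrrCharacter.apply_one_ne_zero hχ
  have hψ1 : ψ 1 ≠ 0 := IsIrrCharacter.apply_one_ne_zero hψ
  have hp0 : (p : ℂ) ≠ 0 := by exact_mod_cast hp.out.ne_zero
  have hd10 : (d₁ : ℂ) ≠ 0 := by
    intro h0
    apply hχ1
    rw [hd]; push_cast; rw [h0, mul_zero]
  have key := om_sub_mem hMm hχcf hψcf hs (regW_isClassFunction p hχcf)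
    (regW_memLocalRing hMm p hχc)
  -- the value at χ
  have hχw : om χ (regW p χ) = (b : ℂ) / (d₁ : ℂ) := by
    have h1 := card_mul_sum_regW D hD hDZ hχ hvan
    unfold om
    rw [hDcard, hcardG] at h1
    push_cast at h1
    have hpn : (p : ℂ) ^ (n - δ) * (p : ℂ) ^ δ = (p : ℂ) ^ n := by
      rw [← pow_add, Nat.sub_add_cancel hδ]
    rw [hd]
    push_cast
    have hpd0 : (p : ℂ) ^ δ ≠ 0 := pow_ne_zero _ hp0
    have hpnd0 : (p : ℂ) ^ (n - δ) ≠ 0 := pow_ne_zero _ hp0
    rw [div_eq_div_iff (mul_ne_zero hpnd0 hd10) hd10]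
    have : (p : ℂ) ^ δ * ((∑ y : G, regW p χ y * χ y) * (d₁ : ℂ))
        = (p : ℂ) ^ δ * ((b : ℂ) * ((p : ℂ) ^ (n - δ) * (d₁ : ℂ))) := by
      rw [← mul_assoc, h1, ← hpn]; ring
    exact mul_left_cancel₀ hpd0 this
  have hbd : ¬ MemLocalIdeal M ((b : ℂ) / (d₁ : ℂ)) := by
    intro h
    have := memLocalIdeal_mul_int hMm h (isIntegral_natCast d₁)
    rw [mul_div_cancel₀ _ hd10] at this
    exact not_memLocalIdeal_nat hM b
      (Nat.Coprime.symm ((Nat.Prime.coprime_iff_not_dvd hp.out).mpr hb)) this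
  have hψw_notin : ¬ MemLocalIdeal M (om ψ (regW p χ)) := by
    intro h
    apply hbd
    rw [← hχw]
    have := memLocalIdeal_add hMm key h
    rwa [sub_add_cancel] at this
  have hswap : ∑ y : G, regW p χ y * ψ y = ∑ y : G, regW p ψ y * χ y := by
    refine Fintype.sum_equiv (Equiv.inv G) _ _ fun y => ?_
    simp only [Equiv.inv_apply]
    unfold regW
    rw [orderOf_inv, inv_inv]
    split_ifs
    · rw [zero_mul, zero_mul]
    · rw [mul_comm]
  have hψw_eq : om ψ (regW p χ) = (χ 1 / ψ 1) * om χ (regW p ψ) := by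
    unfold om
    rw [hswap]
    field_simp
  have hR : MemLocalRing M (om χ (regW p ψ)) :=
    memLocalRing_om hMm hχ (regW_isClassFunction p hψcf) (regW_memLocalRing hMm p hψc)
  by_contra hlt
  push Not at hlt
  obtain ⟨hψd, hdpos⟩ := apply_one_eq_charDegree hψ
  set dψ := charDegree ψ with hdψ
  set e := dψ.factorization p with he
  set d₂ := dψ / p ^ e with hd₂
  have hdecomp : p ^ e * d₂ = dψ := Nat.ordProj_mul_ordCompl_eq_self dψ p
  have hd₂p : ¬ p ∣ d₂ := Nat.not_dvd_ordCompl hp.out hdpos.ne'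
  have hd₂0 : (d₂ : ℂ) ≠ 0 := by
    intro h0
    have : d₂ = 0 := by exact_mod_cast h0
    rw [this, mul_zero] at hdecomp
    exact hdpos.ne' hdecomp.symm
  -- d₂ * om ψ w is in the ideal
  have hin : MemLocalIdeal M ((d₂ : ℂ) * om ψ (regW p χ)) := by
    obtain ⟨j, hk⟩ : ∃ j : ℕ, n - δ = e + 1 + j := ⟨n - δ - e - 1, by omega⟩
    have e1 : (d₂ : ℂ) * om ψ (regW p χ)
        = ((p : ℂ) ^ j * (d₁ : ℂ) * om χ (regW p ψ)) * (p : ℂ) := by
      rw [hψw_eq, hd, hψd, ← hdecomp, hk]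
      have hpe0 : (p : ℂ) ^ e ≠ 0 := pow_ne_zero _ hp0
      push_cast
      field_simp
      ring
    rw [e1]
    apply memLocalIdeal_mul_ring hMm (memLocalIdeal_p hM)
    apply memLocalRing_mul hMm _ hR
    exact memLocalRing_mul hMm
      (memLocalRing_of_isIntegral hMm (IsIntegral.pow (isIntegral_natCast p) _))
      (memLocalRing_of_isIntegral hMm (isIntegral_natCast d₁))
  have hnot : ¬ MemLocalIdeal M ((d₂ : ℂ) * om ψ (regW p χ)) :=
    not_memLocalIdeal_mul hMm (memLocalRing_of_isIntegral hMm (isIntegral_natCast d₂))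
      (not_memLocalIdeal_nat hM d₂
        (Nat.Coprime.symm ((Nat.Prime.coprime_iff_not_dvd hp.out).mpr hd₂p))) hψw_notin
  exact hnot hin

/-- **Blocks with central defect group.** -/
theorem central_defect {p : ℕ} [hp : Fact p.Prime] (hM : IsPModular p M) (D : Subgroup G)
    (hD : IsPGroup p D) (hDZ : D ≤ Subgroup.center G) (χ : IrrCharacter G)
    (hdeg : (charDegree (χ : G → ℂ)).factorization p = D.index.factorization p) :
    IsDefectGroup p M (blockOf M (χ : G → ℂ)) D ∧ ∀ x : G, ¬ Pd p D x → (χ : G → ℂ) x = 0 := by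
  classical
  haveI : Fintype D := Fintype.ofFinite _
  have hMm := hM.2.1
  have hG0 : Nat.card G ≠ 0 := Nat.card_pos.ne'
  set n := (Nat.card G).factorization p with hn
  set b := Nat.card G / p ^ n with hbdef
  have hcardG : Nat.card G = p ^ n * b := (Nat.ordProj_mul_ordCompl_eq_self (Nat.card G) p).symm
  have hb : ¬ p ∣ b := Nat.not_dvd_ordCompl hp.out hG0
  obtain ⟨δ, hDcard⟩ := IsPGroup.iff_card.mp hD
  have hδ : δ ≤ n := by
    have h1 : p ^ δ ∣ Nat.card G := hDcard ▸ Subgroup.card_subgroup_dvd_card D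
    exact (Nat.Prime.pow_dvd_iff_le_factorization hp.out hG0).mp h1
  have hidx : D.index.factorization p = n - δ := by
    have h1 := Subgroup.index_mul_card D
    rw [hDcard] at h1
    have hI0 : D.index ≠ 0 := Subgroup.index_ne_zero_of_finite
    have h2 := congrArg (fun m : ℕ => m.factorization p) h1
    beta_reduce at h2
    rw [Nat.factorization_mul hI0 (pow_pos hp.out.pos δ).ne', Finsupp.add_apply,
      Nat.Prime.factorization_pow hp.out, Finsupp.single_eq_same] at h2
    omega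
  obtain ⟨hd, hdpos⟩ := apply_one_eq_charDegree χ.2
  set d := charDegree (χ : G → ℂ) with hddef
  have hdfac : d.factorization p = n - δ := by rw [hdeg, hidx]
  obtain ⟨d₁, hddecomp⟩ : ∃ d₁ : ℕ, p ^ (n - δ) * d₁ = d := by
    refine ⟨d / p ^ (d.factorization p), ?_⟩
    have := Nat.ordProj_mul_ordCompl_eq_self d p
    rw [← hdfac]
    exact this
  have hd' : (χ : G → ℂ) 1 = ((p ^ (n - δ) * d₁ : ℕ) : ℂ) := by rw [hddecomp]; exact hd
  have hnd : p ^ n ∣ Nat.card G := Nat.ordProj_dvd _ _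
  have hnd' : ¬ p ^ (n + 1) ∣ Nat.card G := Nat.pow_succ_factorization_not_dvd hG0 hp.out
  have hvan : ∀ x : G, ¬ Pd p D x → (χ : G → ℂ) x = 0 := fun x hx =>
    vanish_of_central_defect χ.2 p n δ hp.out hnd hnd' D hDZ hDcard hδ d hd
      ⟨d₁, hddecomp.symm⟩ x hx
  refine ⟨?_, hvan⟩
  have hge : ∀ ψ ∈ blockOf M (χ : G → ℂ), n - δ ≤ (charDegree (ψ : G → ℂ)).factorization p :=
    fun ψ hψ => factorization_ge_of_sameBlock hM D hD hDZ χ.2 ψ.2 hψ hvan n b d₁ δ hcardG hb
      hDcard hδ hd'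
  have hdef : blockDefect p (blockOf M (χ : G → ℂ)) = δ := by
    unfold blockDefect
    have hinf : sInf ((fun ψ : IrrCharacter G => (charDegree (ψ : G → ℂ)).factorization p) ''
        blockOf M (χ : G → ℂ)) = n - δ := by
      apply le_antisymm
      · exact Nat.sInf_le ⟨χ, self_mem_blockOf hMm χ, hdfac⟩
      · apply le_csInf
        · exact ⟨_, ⟨χ, self_mem_blockOf hMm χ, rfl⟩⟩
        · rintro v ⟨ψ, hψ, rfl⟩
          exact hge ψ hψ
    rw [hinf]
    omega
  obtain ⟨g₀, hg₀⟩ := exists_defectClass hMm χ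
  obtain ⟨Δ₀⟩ : Nonempty (Sylow p (Subgroup.centralizer ({g₀} : Set G))) := inferInstance
  have hΔ : IsDefectGroup p M (blockOf M (χ : G → ℂ))
      ((Δ₀ : Subgroup (Subgroup.centralizer ({g₀} : Set G))).map
        (Subgroup.centralizer ({g₀} : Set G)).subtype) := ⟨g₀, hg₀, Δ₀, rfl⟩
  have hcardΔ := card_defectGroup hM χ _ hΔ
  haveI hDn : D.Normal := normal_of_le_center' D hDZ
  have hle := normal_pSubgroup_le_defectGroup hM D hD χ _ hΔ
  have heq : D = (Δ₀ : Subgroup (Subgroup.centralizer ({g₀} : Set G))).map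
      (Subgroup.centralizer ({g₀} : Set G)).subtype :=
    Subgroup.eq_of_le_of_card_ge hle (by rw [hcardΔ, hdef, hDcard])
  rw [heq]
  exact hΔ

end Cfsg.Agent.Lib.Helper2_CentralDefect2
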