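import Mathlib
import Cfsg.Prelude.Def_Characters
import Cfsg.Prelude.Def_Blocks
import Cfsg.Prelude.Def_BlockRank
import Cfsg.Prelude.Def_BlockLocal
import Cfsg.Prelude.Def_BrauerPairs
import Cfsg.Agent.Lib.Helper2_ClassFn
import Cfsg.Agent.Lib.Helper2_CharBasic
import Cfsg.Agent.Lib.Helper2_CharOrtho
import Cfsg.Agent.Lib.Helper2_Clifford
import Cfsg.Agent.Lib.Helper2_CharMore
import Cfsg.Agent.Lib.Helper2_CharDeg
import Cfsg.Agent.Lib.Helper2_CharInd
import Cfsg.Agent.Lib.Helper2_CharExtra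
import Cfsg.Agent.Lib.Helper2_CharInt
import Cfsg.Agent.Lib.Helper2_CharValues
import Cfsg.Agent.Lib.Helper2_CharSum
import Cfsg.Agent.Lib.Helper2_CharComplete
import Cfsg.Agent.Lib.Helper2_CharTable
import Cfsg.Agent.Lib.Helper2_CharCentral
import Cfsg.Agent.Lib.Helper2_ModM
import Cfsg.Agent.Lib.Helper2_Blocks
import Cfsg.Agent.Lib.Helper2_BlockOrtho
import Cfsg.Agent.Lib.Helper2_BlockMore
import Cfsg.Agent.Lib.Helper2_DefectGroup
import Cfsg.Agent.Lib.Helper2_DefectPCore
import Cfsg.Agent.Lib.Helper2_MinMax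
import Cfsg.Agent.Lib.Helper2_InducedBlock
import Cfsg.Agent.Lib.Helper2_BrauerMap
import Cfsg.Agent.Lib.Helper2_InducedDefect
import Cfsg.Agent.Lib.Helper2_BrauerFirst
import Cfsg.Agent.Lib.Helper2_BrauerConverse
import Cfsg.Agent.Lib.Helper2_SylowConj
import Cfsg.Agent.Lib.Helper2_BlockCover
import Cfsg.Agent.Lib.Helper2_BlockConj
import Cfsg.Agent.Lib.Helper2_FirstMain
import Cfsg.Agent.Lib.Helper2_BlockNormal
import Cfsg.Agent.Lib.Helper2_BlockCount
import Cfsg.Agent.Lib.Helper2_BlockCount2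
import Cfsg.Agent.Lib.Helper2_BlockKer
import Cfsg.Agent.Lib.Helper2_PRegCount
import Cfsg.Agent.Lib.Helper2_ExtFirstMain
import Cfsg.Agent.Lib.Helper2_ThirdMain
import Cfsg.Agent.Lib.Helper2_Fong
import Cfsg.Agent.Lib.Helper2_BrauerPairs
import Cfsg.Agent.Lib.Helper2_BrauerInv
import Cfsg.Agent.Lib.Helper2_Conj
import Cfsg.Agent.Lib.Helper2_BrauerChain
import Cfsg.Agent.Lib.Helper2_BrauerPrincipal
import Cfsg.Agent.Lib.Helper2_BrauerMax
import Cfsg.Agent.Lib.Helper2_BrauerConjMax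
import Cfsg.Agent.Lib.Helper2_BrauerLocal
import Cfsg.Agent.Lib.Helper2_BrauerStab
import Cfsg.Agent.Lib.Helper2_BlockTrace
import Cfsg.Agent.Lib.Helper2_BlockFusion
import Cfsg.Agent.Lib.Helper2_AbelianDefect
import Cfsg.Agent.Lib.Helper2_AbelianNilpotent


set_option autoImplicit false

/-!
# Normal centric Brauer pairs
-/

namespace Cfsg.Agent.Lib.Helper2_CentricNormal

open Cfsg
open Cfsg.Agent.Lib.Helper2_ClassFn
open Cfsg.Agent.Lib.Helper2_CharBasic
open Cfsg.Agent.Lib.Helper2_CharOrtho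
open Cfsg.Agent.Lib.Helper2_Clifford
open Cfsg.Agent.Lib.Helper2_CharMore
open Cfsg.Agent.Lib.Helper2_CharDeg
open Cfsg.Agent.Lib.Helper2_CharInd
open Cfsg.Agent.Lib.Helper2_CharExtra
open Cfsg.Agent.Lib.Helper2_CharValues
open Cfsg.Agent.Lib.Helper2_CharSum
open Cfsg.Agent.Lib.Helper2_CharComplete
open Cfsg.Agent.Lib.Helper2_CharTable
open Cfsg.Agent.Lib.Helper2_CharCentral
open Cfsg.Agent.Lib.Helper2_ModM
open Cfsg.Agent.Lib.Helper2_Blocks
open Cfsg.Agent.Lib.Helper2_BlockOrtho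
open Cfsg.Agent.Lib.Helper2_BlockMore
open Cfsg.Agent.Lib.Helper2_DefectGroup
open Cfsg.Agent.Lib.Helper2_DefectPCore
open Cfsg.Agent.Lib.Helper2_MinMax
open Cfsg.Agent.Lib.Helper2_InducedBlock
open Cfsg.Agent.Lib.Helper2_BrauerMap
open Cfsg.Agent.Lib.Helper2_InducedDefect
open Cfsg.Agent.Lib.Helper2_BrauerFirst
open Cfsg.Agent.Lib.Helper2_BrauerConverse
open Cfsg.Agent.Lib.Helper2_SylowConj
open Cfsg.Agent.Lib.Helper2_BlockCover
open Cfsg.Agent.Lib.Helper2_BlockConj
open Cfsg.Agent.Lib.Helper2_FirstMain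
open Cfsg.Agent.Lib.Helper2_BlockNormal
open Cfsg.Agent.Lib.Helper2_BlockCount
open Cfsg.Agent.Lib.Helper2_BlockCount2
open Cfsg.Agent.Lib.Helper2_BlockKer
open Cfsg.Agent.Lib.Helper2_PRegCount
open Cfsg.Agent.Lib.Helper2_ExtFirstMain
open Cfsg.Agent.Lib.Helper2_ThirdMain
open Cfsg.Agent.Lib.Helper2_Fong
open Cfsg.Agent.Lib.Helper2_BrauerPairs
open Cfsg.Agent.Lib.Helper2_BrauerInv
open Cfsg.Agent.Lib.Helper2_BrauerChain
open Cfsg.Agent.Lib.Helper2_BrauerPrincipal
open Cfsg.Agent.Lib.Helper2_BrauerMax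
open Cfsg.Agent.Lib.Helper2_BrauerConjMax
open Cfsg.Agent.Lib.Helper2_BrauerLocal
open Cfsg.Agent.Lib.Helper2_BrauerStab
open Cfsg.Agent.Lib.Helper2_BlockTrace
open Cfsg.Agent.Lib.Helper2_BlockFusion
open Cfsg.Agent.Lib.Helper2_AbelianDefect
open Cfsg.Agent.Lib.Helper2_AbelianNilpotent
open scoped ComplexConjugate

universe u


section CoverCoeff

variable {G : Type u} [Group G] [Fintype G] {M : Ideal AlgInt}

/-- For a group `X` between `Q C_G(Q)` and `N_G(Q)` that stabilizes the block of `ξ`, every block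
of `X` covering it has the idempotent of the block of `ξ`. -/
theorem cover_blockCoeff {p : ℕ} [hp : Fact p.Prime] (hM : IsPModular p M)
    (Q : Subgroup G) (hQ : IsPGroup p Q)
    (ξ : IrrCharacter (Subgroup.centralizer (Q : Set G)))
    (X : Subgroup G) (hQX : Q ≤ X) (hCX : Subgroup.centralizer (Q : Set G) ≤ X)
    (hXN : X ≤ Subgroup.normalizer (Q : Set G))
    (hst : ∀ x ∈ X, StabilizesBlock (Subgroup.centralizer (Q : Set G))
      (blockOf M (ξ : Subgroup.centralizer (Q : Set G) → ℂ)) x)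
    [Fintype X] [Fintype (Subgroup.centralizer (Q : Set G))]
    [Fintype ((Subgroup.centralizer (Q : Set G)).subgroupOf X)]
    (ζ : IrrCharacter X)
    (hζ : classInner (fun k : (Subgroup.centralizer (Q : Set G)).subgroupOf X => (ζ : X → ℂ) k)
      (fun k => (ξ : Subgroup.centralizer (Q : Set G) → ℂ)
        (Subgroup.subgroupOfEquivOfLe hCX k)) ≠ 0) :
    ∀ t : X, blockCoeff (blockOf M (ζ : X → ℂ)) t
      = subgroupBlockCoeff (Subgroup.centralizer (Q : Set G))
          (blockOf M (ξ : Subgroup.centralizer (Q : Set G) → ℂ)) (t : G) := by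
  classical
  have hMm := hM.2.1
  have hTL : X ≤ Subgroup.normalizer
      ((Subgroup.centralizer (Q : Set G) : Subgroup G) : Set G) :=
    hXN.trans (normalizer_le_normalizer_centralizer Q)
  haveI hKn : ((Subgroup.centralizer (Q : Set G)).subgroupOf X).Normal :=
    (Subgroup.normal_subgroupOf_iff_le_normalizer hCX).mpr hTL
  haveI hQn : (Q.subgroupOf X).Normal :=
    (Subgroup.normal_subgroupOf_iff_le_normalizer hQX).mpr hXN
  have hQXp : IsPGroup p (Q.subgroupOf X) :=
    hQ.comap_of_injective X.subtype (Subgroup.subtype_injective _)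
  have hCK : Subgroup.centralizer ((Q.subgroupOf X : Subgroup X) : Set X)
      ≤ (Subgroup.centralizer (Q : Set G)).subgroupOf X := by
    intro x hx
    rw [Subgroup.mem_subgroupOf, Subgroup.mem_centralizer_iff]
    intro y hy
    have := hx ⟨y, hQX hy⟩ (Subgroup.mem_subgroupOf.mpr hy)
    exact congrArg Subtype.val this
  have key := eps_eq_blockCoeff X (Subgroup.centralizer (Q : Set G)) hTL hCX hM ξ ζ hζ
    (fun χ θ he n => induced_sub_centralChar_of_over hM (Q.subgroupOf X)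
      ((Subgroup.centralizer (Q : Set G)).subgroupOf X) hQXp hCK χ θ he n)
  intro t
  rw [← key]
  unfold eps
  have hstab := (stabilizes_iff X (Subgroup.centralizer (Q : Set G)) hTL
    (blockOf M (ξ : Subgroup.centralizer (Q : Set G) → ℂ))).mp hst
  rw [Finset.sum_eq_single (blockOf M (ξ : Subgroup.centralizer (Q : Set G) → ℂ))]
  · intro β hβ hne
    exfalso
    apply hne
    obtain ⟨n, rfl⟩ := (mem_orb X _ hTL _ β).mp hβ
    exact hstab n
  · intro h0
    exact absurd (self_mem_orb X _ hTL _) h0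

/-- Equal idempotents give equal blocks. -/
theorem blockOf_eq_of_blockCoeff_eq {K : Type u} [Group K] [Fintype K] (hMm : M.IsMaximal)
    (χ ζ : IrrCharacter K)
    (h : ∀ t : K, blockCoeff (blockOf M (χ : K → ℂ)) t = blockCoeff (blockOf M (ζ : K → ℂ)) t) :
    blockOf M (χ : K → ℂ) = blockOf M (ζ : K → ℂ) := by
  classical
  have h1 := om_blockCoeff (blockOf M (χ : K → ℂ)) χ.2
  have h2 := om_blockCoeff (blockOf M (ζ : K → ℂ)) χ.2
  rw [show blockCoeff (blockOf M (χ : K → ℂ)) = blockCoeff (blockOf M (ζ : K → ℂ)) from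
    funext h, h2] at h1
  have hm1 : MemB (blockOf M (χ : K → ℂ)) (χ : K → ℂ) :=
    (memB_coe _ χ).mpr (self_mem_blockOf hMm χ)
  rw [if_pos hm1] at h1
  by_cases hm : MemB (blockOf M (ζ : K → ℂ)) (χ : K → ℂ)
  · exact blockOf_eq_of_mem hMm ((memB_coe _ χ).mp hm)
  · rw [if_neg hm] at h1
    exact absurd h1 zero_ne_one

end CoverCoeff

section NormalPair

variable {G : Type u} [Group G] [Fintype G] {M : Ideal AlgInt}

/-- If all of `G` normalizes `Q` and stabilizes `f`, then the block of `G` to which `(Q, f)`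
belongs has the idempotent of `f`. -/
theorem blockCoeff_eq_of_normal_pair {p : ℕ} [hp : Fact p.Prime] (hM : IsPModular p M)
    (B : Set (IrrCharacter G)) (Q : Subgroup G)
    (f : Set (IrrCharacter (Subgroup.centralizer (Q : Set G))))
    (hQf : IsBrauerPairOf p M B Q f)
    (hG : ∀ x : G, x ∈ Subgroup.normalizer (Q : Set G) ∧
      StabilizesBlock (Subgroup.centralizer (Q : Set G)) f x) :
    ∀ g : G, blockCoeff B g = subgroupBlockCoeff (Subgroup.centralizer (Q : Set G)) f g := by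
  classical
  have hMm := hM.2.1
  haveI : Fintype (⊤ : Subgroup G) := Fintype.ofFinite _
  haveI : Fintype (Subgroup.centralizer (Q : Set G)) := Fintype.ofFinite _
  haveI : Fintype ((Subgroup.centralizer (Q : Set G)).subgroupOf (⊤ : Subgroup G)) :=
    Fintype.ofFinite _
  obtain ⟨⟨hQ, ξ, rfl⟩, hB, hom⟩ := id hQf
  have hCX : Subgroup.centralizer (Q : Set G) ≤ (⊤ : Subgroup G) := le_top
  have hξX : IsIrrCharacter ((Subgroup.centralizer (Q : Set G)).subgroupOf (⊤ : Subgroup G))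
      (fun k => (ξ : Subgroup.centralizer (Q : Set G) → ℂ)
        (Subgroup.subgroupOfEquivOfLe hCX k)) :=
    IsIrrCharacter.comp_mulEquiv ξ.2 (Subgroup.subgroupOfEquivOfLe hCX)
  obtain ⟨ζ, hζ⟩ := exists_over ((Subgroup.centralizer (Q : Set G)).subgroupOf
    (⊤ : Subgroup G)) hξX
  have h1 := cover_blockCoeff hM Q hQ ξ ⊤ le_top hCX (fun x _ => (hG x).1)
    (fun x _ => (hG x).2) ζ hζ
  set ψ : G ≃* (⊤ : Subgroup G) := Subgroup.topEquiv.symm with hψ
  set χ' : IrrCharacter G := trIrr ψ ζ with hχ'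
  have hB' : ∀ g : G, blockCoeff (blockOf M (χ' : G → ℂ)) g
      = subgroupBlockCoeff (Subgroup.centralizer (Q : Set G))
        (blockOf M (ξ : Subgroup.centralizer (Q : Set G) → ℂ)) g := by
    intro g
    rw [hχ', blockOf_trIrr, blockCoeff_image_trIrr, h1]
    rfl
  have hpair : IsBrauerPairOf p M (blockOf M (χ' : G → ℂ)) Q
      (blockOf M (ξ : Subgroup.centralizer (Q : Set G) → ℂ)) := by
    refine ⟨⟨hQ, ξ, rfl⟩, ⟨χ', rfl⟩, fun θ hθ => ?_⟩
    rw [brauerOmega_eq_om]
    have e1 : (fun h : Subgroup.centralizer (Q : Set G) =>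
        blockCoeff (blockOf M (χ' : G → ℂ)) (h : G))
        = blockCoeff (blockOf M (ξ : Subgroup.centralizer (Q : Set G) → ℂ)) := by
      funext h
      rw [hB', subgroupBlockCoeff_coe]
    rw [e1, om_blockCoeff _ θ.2, if_pos ((memB_coe _ θ).mpr hθ), sub_self]
    exact memLocalIdeal_zero hMm
  have huniq := (existsUnique_block_of_brauerPair hM Q _ ⟨hQ, ξ, rfl⟩).unique hQf hpair
  intro g
  rw [huniq]
  exact hB' g

end NormalPair

section TransportDefect

variable {K₁ K₂ : Type u} [Group K₁] [Group K₂]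

theorem blockDefect_image_trIrr (p : ℕ) (ψ : K₁ ≃* K₂) (f : Set (IrrCharacter K₂)) :
    blockDefect p (trIrr ψ '' f) = blockDefect p f := by
  unfold blockDefect
  rw [Nat.card_congr ψ.toEquiv, Set.image_image]
  have : (fun x : IrrCharacter K₂ => (charDegree (trIrr ψ x : K₁ → ℂ)).factorization p)
      = (fun χ : IrrCharacter K₂ => (charDegree (χ : K₂ → ℂ)).factorization p) := by
    funext x
    unfold charDegree
    rw [trIrr_apply, map_one]
  rw [this]

end TransportDefect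

section CentricNilpotent

variable {G : Type u} [Group G] [Fintype G] {M : Ideal AlgInt}

/-- A `p`-regular element of a group with a normal subgroup of `p`-power index lies in it. -/
theorem mem_of_pRegular_of_index_pow {K : Type u} [Group K] [Finite K] {p : ℕ}
    [hp : Fact p.Prime] (N : Subgroup K) [N.Normal] (j : ℕ) (hN : N.index = p ^ j) (x : K)
    (hx : IsPRegular p x) : x ∈ N := by
  set q : K ⧸ N := QuotientGroup.mk x with hq
  have h1 : q ^ orderOf x = 1 := by
    rw [hq, ← QuotientGroup.mk_pow, pow_orderOf_eq_one]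
    rfl
  have h2 : q ^ (p ^ j) = 1 := by
    have : N.index = Nat.card (K ⧸ N) := rfl
    rw [← hN, this]
    exact pow_card_eq_one'
  have h3 : q ^ Nat.gcd (orderOf x) (p ^ j) = 1 := pow_gcd_eq_one.mpr ⟨h1, h2⟩
  have hcop : Nat.Coprime (orderOf x) (p ^ j) :=
    Nat.Coprime.pow_right j ((Nat.Prime.coprime_iff_not_dvd hp.out).mpr hx).symm
  rw [Nat.Coprime.gcd_eq_one hcop, pow_one, hq, QuotientGroup.eq_one_iff] at h3
  exact h3

end CentricNilpotent

section CentricMain

variable {G : Type u} [Group G] [Fintype G] {M : Ideal AlgInt}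

theorem centric_normal_nilpotent {p : ℕ} [hp : Fact p.Prime] (hM : IsPModular p M)
    (B : Set (IrrCharacter G)) (P : Subgroup G)
    (e : Set (IrrCharacter (Subgroup.centralizer (P : Set G)))) (F : FusionSystem P)
    (hF : IsBlockFusionSystemOn p M B P e F) (Q : Subgroup G)
    (f : Set (IrrCharacter (Subgroup.centralizer (Q : Set G)))) (hQP : Q ≤ P)
    (hf : IsPBlock M f) (hle : SubpairLE p M Q f P e) (hcen : F.IsCentric Q)
    (hG : ∀ x : G, x ∈ Subgroup.normalizer (Q : Set G) ∧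
      StabilizesBlock (Subgroup.centralizer (Q : Set G)) f x) :
    ∃ F' : Set (IrrCharacter ↥(Q ⊔ Subgroup.centralizer (Q : Set G))), IsPBlock M F' ∧
      (∀ t : ↥(Q ⊔ Subgroup.centralizer (Q : Set G)), blockCoeff F' t
        = subgroupBlockCoeff (Subgroup.centralizer (Q : Set G)) f (t : G)) ∧
      IsNilpotentBlock p M F' := by
  classical
  have hMm := hM.2.1
  have hPe := hF.1.1.1
  have hQ : IsPGroup p Q := hPe.1.to_le hQP
  have hdf := (centric_iff hM B P e F hF Q f hQP hf hle).mp hcen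
  set H : Subgroup G := Q ⊔ Subgroup.centralizer (Q : Set G) with hH
  haveI : Fintype H := Fintype.ofFinite _
  haveI : Fintype (Subgroup.centralizer (Q : Set G)) := Fintype.ofFinite _
  set N := (Subgroup.centralizer (Q : Set G)).subgroupOf H with hN
  haveI : Fintype N := Fintype.ofFinite _
  have hQH : Q ≤ H := le_sup_left
  have hCH : Subgroup.centralizer (Q : Set G) ≤ H := le_sup_right
  have hHN : H ≤ Subgroup.normalizer (Q : Set G) := fun x _ => (hG x).1
  have hNL := normalizer_le_normalizer_centralizer Q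
  have hHL : H ≤ Subgroup.normalizer
      ((Subgroup.centralizer (Q : Set G) : Subgroup G) : Set G) := hHN.trans hNL
  haveI hCn : (Subgroup.centralizer (Q : Set G)).Normal := by
    rw [← Subgroup.normalizer_eq_top_iff, eq_top_iff]
    intro x _
    exact hNL (hG x).1
  haveI hKn : ((Subgroup.centralizer (Q : Set G)).subgroupOf H).Normal :=
    (Subgroup.normal_subgroupOf_iff_le_normalizer hCH).mpr hHL
  haveI hQn : (Q.subgroupOf H).Normal :=
    (Subgroup.normal_subgroupOf_iff_le_normalizer hQH).mpr hHN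
  have hQHp : IsPGroup p (Q.subgroupOf H) :=
    hQ.comap_of_injective H.subtype (Subgroup.subtype_injective _)
  obtain ⟨ξ, rfl⟩ := hf
  set ψ := Subgroup.subgroupOfEquivOfLe hCH with hψ
  obtain ⟨ζ, hζ⟩ := exists_over ((Subgroup.centralizer (Q : Set G)).subgroupOf H)
    (trIrr ψ ξ).2
  have hst : ∀ x ∈ H, StabilizesBlock (Subgroup.centralizer (Q : Set G))
      (blockOf M (ξ : Subgroup.centralizer (Q : Set G) → ℂ)) x := fun x _ => (hG x).2
  have hcoef := cover_blockCoeff hM Q hQ ξ H hQH hCH hHN hst ζ hζ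
  refine ⟨blockOf M (ζ : H → ℂ), ⟨ζ, rfl⟩, hcoef, ⟨ζ, rfl⟩, ?_⟩
  intro R g hRg x hxN hxst hxreg
  -- the index of `C_G(Q)` in `H`
  have hidx : N.index = (Subgroup.centralizer (Q : Set G)).relIndex Q := by
    show (Subgroup.centralizer (Q : Set G)).relIndex H = _
    rw [hH, Subgroup.relIndex_sup_right]
  obtain ⟨k, hk⟩ := IsPGroup.iff_card.mp hQ
  have hdvd : N.index ∣ p ^ k := by
    rw [hidx, ← hk]
    exact Subgroup.relIndex_dvd_card _ _
  obtain ⟨j, hjk, hj⟩ := (Nat.dvd_prime_pow hp.out).mp hdvd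
  have hxNn : x ∈ N := mem_of_pRegular_of_index_pow N j hj x hxreg
  -- the block `b` of `N`
  set b := blockOf M (trIrr ψ ξ : N → ℂ) with hb
  have hbe : b = trIrr ψ '' blockOf M (ξ : Subgroup.centralizer (Q : Set G) → ℂ) :=
    blockOf_trIrr ψ ξ
  have hinv : Invariant N b := by
    intro y θ hθ θ' hθ'
    rw [hbe] at hθ ⊢
    obtain ⟨θ₀, hθ₀, rfl⟩ := hθ
    have hsty := (hG ((y : G)⁻¹)).2
    obtain ⟨χ', hχ', hconj⟩ := hsty.2 θ₀ hθ₀
    refine ⟨χ', hχ', ?_⟩
    apply Subtype.ext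
    funext n
    rw [trIrr_apply, hθ' n, trIrr_apply]
    refine hconj (ψ ⟨y * n * y⁻¹, _⟩) (ψ n) ?_
    show ((n : H) : G) = (y : G)⁻¹ * ((y : G) * ((n : H) : G) * (y : G)⁻¹) * ((y : G)⁻¹)⁻¹
    group
  have hξb : trIrr ψ ξ ∈ b := self_mem_blockOf hMm _
  have huniq : ∀ (χ : IrrCharacter H) (θ : IrrCharacter N), θ ∈ b →
      classInner (fun n : N => (χ : H → ℂ) n) (θ : N → ℂ) ≠ 0 →
      blockOf M (χ : H → ℂ) = blockOf M (ζ : H → ℂ) := by
    intro χ θ hθ hov
    rw [hbe] at hθ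
    obtain ⟨θ₀, hθ₀, rfl⟩ := hθ
    have hbl : blockOf M (θ₀ : Subgroup.centralizer (Q : Set G) → ℂ)
        = blockOf M (ξ : Subgroup.centralizer (Q : Set G) → ℂ) := blockOf_eq_of_mem hMm hθ₀
    have hst' : ∀ x ∈ H, StabilizesBlock (Subgroup.centralizer (Q : Set G))
        (blockOf M (θ₀ : Subgroup.centralizer (Q : Set G) → ℂ)) x := by
      rw [hbl]
      exact hst
    have h1 := cover_blockCoeff hM Q hQ θ₀ H hQH hCH hHN hst' χ hov
    apply blockOf_eq_of_blockCoeff_eq hMm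
    intro t
    rw [h1, hcoef, hbl]
  -- a maximal pair above `(R, g)`
  obtain ⟨R', g', hmax', hle'⟩ := exists_maximal_above (p := p) (M := M)
    (blockOf M (ζ : H → ℂ)) _ R g hRg rfl
  have hD := maximal_pair_defect hM _ R' g' hmax'
  have hfong := fong N hM b ⟨_, rfl⟩ hinv (blockOf M (ζ : H → ℂ)) ⟨ζ, rfl⟩
    ⟨ζ, self_mem_blockOf hMm ζ, trIrr ψ ξ, hξb, hζ⟩
    (by
      rintro B' ⟨χ₀, rfl⟩ ⟨χ, hχ, θ, hθ, hov⟩
      rw [← blockOf_eq_of_mem hMm hχ, huniq χ θ hθ hov])
    R' hD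
  have hdef := hfong.2.2
  have c1 := card_defectGroup hM ζ R' hD
  have c2 := card_defectGroup hM ξ _ hdf
  rw [card_inf_subgroupOf] at c2
  have c3 : blockDefect p b
      = blockDefect p (blockOf M (ξ : Subgroup.centralizer (Q : Set G) → ℂ)) := by
    rw [hbe]
    exact blockDefect_image_trIrr p ψ _
  have hjf : N.index.factorization p = j := by
    rw [hj, Nat.Prime.factorization_pow hp.out, Finsupp.single_eq_same]
  have c4 : Nat.card (Q ⊓ Subgroup.centralizer (Q : Set G) : Subgroup G) * N.index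
      = Nat.card Q := by
    have h1 := Subgroup.card_mul_index ((Subgroup.centralizer (Q : Set G)).subgroupOf Q)
    have h2 : Nat.card ((Subgroup.centralizer (Q : Set G)).subgroupOf Q)
        = Nat.card (Q ⊓ Subgroup.centralizer (Q : Set G) : Subgroup G) := by
      rw [← Subgroup.inf_subgroupOf_right, card_inf_subgroupOf, inf_comm]
    rw [h2] at h1
    rw [hidx]
    exact h1
  have hcardR' : Nat.card R' = Nat.card Q := by
    rw [c1, hdef, c3, hjf, pow_add, ← c2, ← c4, hj]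
  have hQR' : Q.subgroupOf H ≤ R' :=
    normal_pSubgroup_le_defectGroup hM (Q.subgroupOf H) hQHp ζ R' hD
  have hcQ : Nat.card (Q.subgroupOf H) = Nat.card Q :=
    Nat.card_congr (Subgroup.subgroupOfEquivOfLe hQH).toEquiv
  have hR'eq : Q.subgroupOf H = R' :=
    Subgroup.eq_of_le_of_card_ge hQR' (by rw [hcQ, hcardR'])
  have hRR' : R ≤ R' := le_fst hle'
  rw [Subgroup.mem_centralizer_iff]
  intro r hr
  have hrQ : (r : G) ∈ Q := by
    have := hRR' hr
    rw [← hR'eq] at this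
    exact Subgroup.mem_subgroupOf.mp this
  have hxC : (x : G) ∈ Subgroup.centralizer (Q : Set G) := Subgroup.mem_subgroupOf.mp hxNn
  apply Subtype.ext
  exact Subgroup.mem_centralizer_iff.mp hxC _ hrQ

end CentricMain
end Cfsg.Agent.Lib.Helper2_CentricNormal
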