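import Mathlib
import Cfsg.Prelude.Def_Characters
import Cfsg.Prelude.Def_Blocks
import Cfsg.Prelude.Def_BlockRank
import Cfsg.Prelude.Def_BlockLocal
import Cfsg.Prelude.Def_BrauerPairs
import Cfsg.Agent.Lib.Helper2_ClassFn
import Cfsg.Agent.Lib.Helper2_CharBasic
import Cfsg.Agent.Lib.Helper2_CharOrtho
import Cfsg.Agent.Lib.Helper2_Clifford
import Cfsg.Agent.Lib.Helper2_CharMore
import Cfsg.Agent.Lib.Helper2_CharDeg
import Cfsg.Agent.Lib.Helper2_CharInd
import Cfsg.Agent.Lib.Helper2_CharExtra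
import Cfsg.Agent.Lib.Helper2_CharInt
import Cfsg.Agent.Lib.Helper2_CharValues
import Cfsg.Agent.Lib.Helper2_CharSum
import Cfsg.Agent.Lib.Helper2_CharComplete
import Cfsg.Agent.Lib.Helper2_CharTable
import Cfsg.Agent.Lib.Helper2_CharCentral
import Cfsg.Agent.Lib.Helper2_ModM
import Cfsg.Agent.Lib.Helper2_Blocks
import Cfsg.Agent.Lib.Helper2_BlockOrtho
import Cfsg.Agent.Lib.Helper2_BlockMore
import Cfsg.Agent.Lib.Helper2_DefectGroup
import Cfsg.Agent.Lib.Helper2_DefectPCore
import Cfsg.Agent.Lib.Helper2_MinMax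
import Cfsg.Agent.Lib.Helper2_InducedBlock
import Cfsg.Agent.Lib.Helper2_BrauerMap
import Cfsg.Agent.Lib.Helper2_InducedDefect
import Cfsg.Agent.Lib.Helper2_BrauerFirst
import Cfsg.Agent.Lib.Helper2_BrauerConverse
import Cfsg.Agent.Lib.Helper2_SylowConj
import Cfsg.Agent.Lib.Helper2_BlockCover
import Cfsg.Agent.Lib.Helper2_BlockConj
import Cfsg.Agent.Lib.Helper2_FirstMain
import Cfsg.Agent.Lib.Helper2_BlockNormal
import Cfsg.Agent.Lib.Helper2_BlockCount
import Cfsg.Agent.Lib.Helper2_BlockCount2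
import Cfsg.Agent.Lib.Helper2_BlockKer
import Cfsg.Agent.Lib.Helper2_PRegCount
import Cfsg.Agent.Lib.Helper2_ExtFirstMain
import Cfsg.Agent.Lib.Helper2_ThirdMain
import Cfsg.Agent.Lib.Helper2_Fong
import Cfsg.Agent.Lib.Helper2_BrauerPairs
import Cfsg.Agent.Lib.Helper2_BrauerInv
import Cfsg.Agent.Lib.Helper2_Conj
import Cfsg.Agent.Lib.Helper2_BrauerChain
import Cfsg.Agent.Lib.Helper2_BrauerPrincipal
import Cfsg.Agent.Lib.Helper2_BrauerMax
import Cfsg.Agent.Lib.Helper2_BrauerConjMax
import Cfsg.Agent.Lib.Helper2_BrauerLocal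
import Cfsg.Agent.Lib.Helper2_BrauerStab
import Cfsg.Agent.Lib.Helper2_BlockTrace
import Cfsg.Agent.Lib.Helper2_BlockFusion
import Cfsg.Agent.Lib.Helper2_AbelianDefect
import Cfsg.Agent.Lib.Helper2_AbelianNilpotent
import Cfsg.Agent.Lib.Helper2_CentricNormal


set_option autoImplicit false

/-!
# The inertial index criterion for defect groups
-/

namespace Cfsg.Agent.Lib.Helper2_InertialIndex

open Cfsg
open Cfsg.Agent.Lib.Helper2_ClassFn
open Cfsg.Agent.Lib.Helper2_CharBasic
open Cfsg.Agent.Lib.Helper2_CharOrtho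
open Cfsg.Agent.Lib.Helper2_Clifford
open Cfsg.Agent.Lib.Helper2_CharMore
open Cfsg.Agent.Lib.Helper2_CharDeg
open Cfsg.Agent.Lib.Helper2_CharInd
open Cfsg.Agent.Lib.Helper2_CharExtra
open Cfsg.Agent.Lib.Helper2_CharValues
open Cfsg.Agent.Lib.Helper2_CharSum
open Cfsg.Agent.Lib.Helper2_CharComplete
open Cfsg.Agent.Lib.Helper2_CharTable
open Cfsg.Agent.Lib.Helper2_CharCentral
open Cfsg.Agent.Lib.Helper2_ModM
open Cfsg.Agent.Lib.Helper2_Blocks
open Cfsg.Agent.Lib.Helper2_BlockOrtho
open Cfsg.Agent.Lib.Helper2_BlockMore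
open Cfsg.Agent.Lib.Helper2_DefectGroup
open Cfsg.Agent.Lib.Helper2_DefectPCore
open Cfsg.Agent.Lib.Helper2_MinMax
open Cfsg.Agent.Lib.Helper2_InducedBlock
open Cfsg.Agent.Lib.Helper2_BrauerMap
open Cfsg.Agent.Lib.Helper2_InducedDefect
open Cfsg.Agent.Lib.Helper2_BrauerFirst
open Cfsg.Agent.Lib.Helper2_BrauerConverse
open Cfsg.Agent.Lib.Helper2_SylowConj
open Cfsg.Agent.Lib.Helper2_BlockCover
open Cfsg.Agent.Lib.Helper2_BlockConj
open Cfsg.Agent.Lib.Helper2_FirstMain
open Cfsg.Agent.Lib.Helper2_BlockNormal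
open Cfsg.Agent.Lib.Helper2_BlockCount
open Cfsg.Agent.Lib.Helper2_BlockCount2
open Cfsg.Agent.Lib.Helper2_BlockKer
open Cfsg.Agent.Lib.Helper2_PRegCount
open Cfsg.Agent.Lib.Helper2_ExtFirstMain
open Cfsg.Agent.Lib.Helper2_ThirdMain
open Cfsg.Agent.Lib.Helper2_Fong
open Cfsg.Agent.Lib.Helper2_BrauerPairs
open Cfsg.Agent.Lib.Helper2_BrauerInv
open Cfsg.Agent.Lib.Helper2_BrauerChain
open Cfsg.Agent.Lib.Helper2_BrauerPrincipal
open Cfsg.Agent.Lib.Helper2_BrauerMax
open Cfsg.Agent.Lib.Helper2_BrauerConjMax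
open Cfsg.Agent.Lib.Helper2_BrauerLocal
open Cfsg.Agent.Lib.Helper2_BrauerStab
open Cfsg.Agent.Lib.Helper2_BlockTrace
open Cfsg.Agent.Lib.Helper2_BlockFusion
open Cfsg.Agent.Lib.Helper2_AbelianDefect
open Cfsg.Agent.Lib.Helper2_AbelianNilpotent
open Cfsg.Agent.Lib.Helper2_CentricNormal
open scoped ComplexConjugate

universe u

section Forward

variable {G : Type u} [Group G] [Fintype G] {M : Ideal AlgInt}

/-- For a maximal Brauer pair `(P, e)`, the index of `P C_G(P)` in the stabilizer
of `e` in `N_G(P)` is prime to `p`. -/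
theorem index_stab_sup {p : ℕ} [hp : Fact p.Prime] (hM : IsPModular p M)
    (B : Set (IrrCharacter G)) (P : Subgroup G)
    (e : Set (IrrCharacter (Subgroup.centralizer (P : Set G))))
    (hmax : IsMaximalBrauerPair p M B P e)
    (X : Subgroup G)
    (hX : ∀ y : G, y ∈ X ↔ y ∈ Subgroup.normalizer (P : Set G) ∧
      StabilizesBlock (Subgroup.centralizer (P : Set G)) e y) :
    ¬ p ∣ (P.subgroupOf X ⊔ (Subgroup.centralizer (P : Set G)).subgroupOf X).index := by
  classical
  have hMm := hM.2.1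
  haveI : Fintype X := Fintype.ofFinite _
  haveI : Fintype (Subgroup.centralizer (P : Set G)) := Fintype.ofFinite _
  haveI : Fintype ((Subgroup.centralizer (P : Set G)).subgroupOf X) := Fintype.ofFinite _
  have hCX : Subgroup.centralizer (P : Set G) ≤ X := fun l hl =>
    (hX l).mpr ⟨Subgroup.centralizer_le_normalizer _ hl,
      stabilizes_of_mem_sup P e l
        ((le_sup_right : _ ≤ P ⊔ Subgroup.centralizer (P : Set G)) hl)⟩
  have hPX : P ≤ X := fun l hl =>
    (hX l).mpr ⟨Subgroup.le_normalizer hl,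
      stabilizes_of_mem_sup P e l
        ((le_sup_left : _ ≤ P ⊔ Subgroup.centralizer (P : Set G)) hl)⟩
  have hXN : X ≤ Subgroup.normalizer (P : Set G) := fun y hy => ((hX y).mp hy).1
  have hNH : X ≤ Subgroup.normalizer
      ((Subgroup.centralizer (P : Set G) : Subgroup G) : Set G) :=
    hXN.trans (normalizer_le_normalizer_centralizer P)
  haveI hKn : ((Subgroup.centralizer (P : Set G)).subgroupOf X).Normal :=
    (Subgroup.normal_subgroupOf_iff_le_normalizer hCX).mpr hNH
  obtain ⟨hP, ξ, he⟩ := hmax.1.1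
  set ψ := Subgroup.subgroupOfEquivOfLe hCX with hψ
  set b : Set (IrrCharacter ((Subgroup.centralizer (P : Set G)).subgroupOf X)) :=
    blockOf M (trIrr ψ ξ : _ → ℂ) with hb
  have hbe : b = trIrr ψ '' e := by
    rw [hb, he]
    exact blockOf_trIrr ψ ξ
  have hinv : Invariant ((Subgroup.centralizer (P : Set G)).subgroupOf X) b := by
    intro g θ hθ θ' hθ'
    rw [hbe] at hθ ⊢
    obtain ⟨θ₀, hθ₀, rfl⟩ := hθ
    have hst := ((hX _).mp (X.inv_mem g.2)).2
    obtain ⟨χ', hχ', hconj⟩ := hst.2 θ₀ hθ₀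
    refine ⟨χ', hχ', ?_⟩
    apply Subtype.ext
    funext n
    rw [trIrr_apply, hθ' n, trIrr_apply]
    refine hconj (ψ ⟨g * n * g⁻¹, _⟩) (ψ n) ?_
    show ((n : X) : G) = (g : G)⁻¹ * ((g : G) * ((n : X) : G) * (g : G)⁻¹) * ((g : G)⁻¹)⁻¹
    group
  obtain ⟨ζ, hζ⟩ := exists_over ((Subgroup.centralizer (P : Set G)).subgroupOf X) (trIrr ψ ξ).2
  have hdef : ∀ (χ : IrrCharacter X)
      (θ : IrrCharacter ((Subgroup.centralizer (P : Set G)).subgroupOf X)), θ ∈ b →
      classInner (fun n : (Subgroup.centralizer (P : Set G)).subgroupOf X => (χ : X → ℂ) n)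
        (θ : _ → ℂ) ≠ 0 →
      IsDefectGroup p M (blockOf M (χ : X → ℂ)) (P.subgroupOf X) := by
    intro χ θ hθ hov
    rw [hbe] at hθ
    obtain ⟨θ₀, hθ₀, rfl⟩ := hθ
    exact defect_of_cover hM B P e hmax X hPX hCX hXN θ₀ hθ₀ χ hov
  have hξb : trIrr ψ ξ ∈ b := self_mem_blockOf hMm _
  have hF := fong ((Subgroup.centralizer (P : Set G)).subgroupOf X) hM b ⟨_, rfl⟩ hinv
    (blockOf M (ζ : X → ℂ)) ⟨ζ, rfl⟩
    ⟨ζ, self_mem_blockOf hMm ζ, trIrr ψ ξ, hξb, hζ⟩
    (by
      rintro B' ⟨χ₀, rfl⟩ ⟨χ, hχ, θ, hθ, hov⟩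
      have h1 := hdef χ θ hθ hov
      rw [blockOf_eq_of_mem hMm hχ] at h1
      have h2 := hdef ζ _ hξb hζ
      have c1 := card_defectGroup hM χ₀ _ h1
      have c2 := card_defectGroup hM ζ _ h2
      have := c1.symm.trans c2
      exact le_of_eq (Nat.pow_right_injective hp.out.two_le this))
    (P.subgroupOf X) (hdef ζ _ hξb hζ)
  exact hF.1

end Forward

section PElement

/-- A `p`-element of a group with a normal subgroup of index prime to `p` lies in it. -/
theorem mem_of_pElement_of_index_coprime {K : Type u} [Group K] [Finite K] {p : ℕ}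
    [hp : Fact p.Prime] (N : Subgroup K) [N.Normal] (hN : ¬ p ∣ N.index) (x : K)
    (k : ℕ) (hx : x ^ (p ^ k) = 1) : x ∈ N := by
  set q : K ⧸ N := QuotientGroup.mk x with hq
  have h1 : q ^ (p ^ k) = 1 := by
    rw [hq, ← QuotientGroup.mk_pow, hx]
    rfl
  have h2 : q ^ N.index = 1 := by
    have : N.index = Nat.card (K ⧸ N) := rfl
    rw [this]
    exact pow_card_eq_one'
  have h3 : q ^ Nat.gcd (p ^ k) N.index = 1 := pow_gcd_eq_one.mpr ⟨h1, h2⟩
  have hcop : Nat.Coprime (p ^ k) N.index :=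
    Nat.Coprime.pow_left k ((Nat.Prime.coprime_iff_not_dvd hp.out).mpr hN)
  rw [Nat.Coprime.gcd_eq_one hcop, pow_one, hq, QuotientGroup.eq_one_iff] at h3
  exact h3

end PElement

section Reindex

variable {G : Type u} [Group G] {M : Ideal AlgInt}
variable (N H : Subgroup G) (hNH : N ≤ Subgroup.normalizer (H : Set G)) [Fintype H]

theorem om_cjIrr (d : N) (θ : IrrCharacter H) (z : H → ℂ) :
    om (cjIrr N H hNH d θ : H → ℂ) z
      = om (θ : H → ℂ) (fun h => z (cj N H hNH d h)) := by
  unfold om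
  have h1 : (cjIrr N H hNH d θ : H → ℂ) 1 = (θ : H → ℂ) 1 := by
    rw [cjIrr_apply, map_one]
  rw [h1]
  congr 1
  refine (Fintype.sum_equiv (cj N H hNH d).toEquiv _ _ ?_).symm
  intro h
  show z (cj N H hNH d h) * (θ : H → ℂ) h
    = z (cj N H hNH d h) * (cjIrr N H hNH d θ : H → ℂ) (cj N H hNH d h)
  rw [cjIrr_apply_cj]

end Reindex

section Cover

variable {G : Type u} [Group G] [Fintype G] {M : Ideal AlgInt}

/-- Blocks of `H = P C_G(P)` have the idempotent of the block of `C_G(P)` under them. -/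
theorem cover_coeff {p : ℕ} [hp : Fact p.Prime] (hM : IsPModular p M)
    (P : Subgroup G) (hP : IsPGroup p P) (H : Subgroup G) [Fintype H]
    (hH : H = P ⊔ Subgroup.centralizer (P : Set G))
    (hCH : Subgroup.centralizer (P : Set G) ≤ H)
    [Fintype (Subgroup.centralizer (P : Set G))]
    [Fintype ((Subgroup.centralizer (P : Set G)).subgroupOf H)]
    (ξ : IrrCharacter (Subgroup.centralizer (P : Set G))) (θ : IrrCharacter H)
    (hov : classInner (fun k : (Subgroup.centralizer (P : Set G)).subgroupOf H => (θ : H → ℂ) k)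
      (fun k => (ξ : Subgroup.centralizer (P : Set G) → ℂ)
        (Subgroup.subgroupOfEquivOfLe hCH k)) ≠ 0) :
    ∀ t : H, blockCoeff (blockOf M (θ : H → ℂ)) t
      = subgroupBlockCoeff (Subgroup.centralizer (P : Set G))
          (blockOf M (ξ : Subgroup.centralizer (P : Set G) → ℂ)) (t : G) := by
  have hPH : P ≤ H := by rw [hH]; exact le_sup_left
  have hHN : H ≤ Subgroup.normalizer (P : Set G) := by
    rw [hH]
    exact sup_le Subgroup.le_normalizer (Subgroup.centralizer_le_normalizer _)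
  exact cover_blockCoeff hM P hP ξ H hPH hCH hHN
    (fun x hx => stabilizes_of_mem_sup P _ x (by rw [← hH]; exact hx)) θ hov

/-- Blocks of `H = P C_G(P)` correspond to blocks of `C_G(P)`. -/
theorem block_eq_iff {p : ℕ} [hp : Fact p.Prime] (hM : IsPModular p M)
    (P : Subgroup G) (hP : IsPGroup p P) (H : Subgroup G) [Fintype H]
    (hH : H = P ⊔ Subgroup.centralizer (P : Set G))
    (hCH : Subgroup.centralizer (P : Set G) ≤ H)
    [Fintype (Subgroup.centralizer (P : Set G))]
    [Fintype ((Subgroup.centralizer (P : Set G)).subgroupOf H)]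
    (ξ ξ' : IrrCharacter (Subgroup.centralizer (P : Set G))) (θ θ' : IrrCharacter H)
    (hov : classInner (fun k : (Subgroup.centralizer (P : Set G)).subgroupOf H => (θ : H → ℂ) k)
      (fun k => (ξ : Subgroup.centralizer (P : Set G) → ℂ)
        (Subgroup.subgroupOfEquivOfLe hCH k)) ≠ 0)
    (hov' : classInner
      (fun k : (Subgroup.centralizer (P : Set G)).subgroupOf H => (θ' : H → ℂ) k)
      (fun k => (ξ' : Subgroup.centralizer (P : Set G) → ℂ)
        (Subgroup.subgroupOfEquivOfLe hCH k)) ≠ 0) :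
    blockOf M (θ : H → ℂ) = blockOf M (θ' : H → ℂ) ↔
      blockOf M (ξ : Subgroup.centralizer (P : Set G) → ℂ)
        = blockOf M (ξ' : Subgroup.centralizer (P : Set G) → ℂ) := by
  have hMm := hM.2.1
  have h1 := cover_coeff hM P hP H hH hCH ξ θ hov
  have h2 := cover_coeff hM P hP H hH hCH ξ' θ' hov'
  constructor
  · intro h
    apply blockOf_eq_of_blockCoeff_eq hMm
    intro c
    have e1 := h1 ⟨c, hCH c.2⟩
    have e2 := h2 ⟨c, hCH c.2⟩
    rw [h] at e1
    have e3 := e1.symm.trans e2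
    have e4 := subgroupBlockCoeff_coe (Subgroup.centralizer (P : Set G))
      (blockOf M (ξ : Subgroup.centralizer (P : Set G) → ℂ)) c
    have e5 := subgroupBlockCoeff_coe (Subgroup.centralizer (P : Set G))
      (blockOf M (ξ' : Subgroup.centralizer (P : Set G) → ℂ)) c
    rw [← e4, ← e5]
    exact e3
  · intro h
    apply blockOf_eq_of_blockCoeff_eq hMm
    intro t
    rw [h1 t, h2 t, h]

/-- The stabilizer in `N_G(P)` of a block of `P C_G(P)` is the stabilizer of the block of
`C_G(P)` under it. -/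
theorem stab_iff {p : ℕ} [hp : Fact p.Prime] (hM : IsPModular p M)
    (P : Subgroup G) (hP : IsPGroup p P) (H : Subgroup G) [Fintype H]
    (hH : H = P ⊔ Subgroup.centralizer (P : Set G))
    (hCH : Subgroup.centralizer (P : Set G) ≤ H)
    [Fintype (Subgroup.centralizer (P : Set G))]
    [Fintype ((Subgroup.centralizer (P : Set G)).subgroupOf H)]
    (ξ : IrrCharacter (Subgroup.centralizer (P : Set G))) (θ₀ : IrrCharacter H)
    (hov : classInner
      (fun k : (Subgroup.centralizer (P : Set G)).subgroupOf H => (θ₀ : H → ℂ) k)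
      (fun k => (ξ : Subgroup.centralizer (P : Set G) → ℂ)
        (Subgroup.subgroupOfEquivOfLe hCH k)) ≠ 0)
    (y : G) (hy : y ∈ Subgroup.normalizer (P : Set G)) :
    StabilizesBlock (Subgroup.centralizer (P : Set G))
        (blockOf M (ξ : Subgroup.centralizer (P : Set G) → ℂ)) y ↔
      ∀ θ ∈ blockOf M (θ₀ : H → ℂ), ∀ θ' : IrrCharacter H,
        (∀ h h' : H, (h' : G) = y * h * y⁻¹ → (θ' : H → ℂ) h' = (θ : H → ℂ) h) →
        θ' ∈ blockOf M (θ₀ : H → ℂ) := by
  classical
  have hMm := hM.2.1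
  haveI : Fintype (Subgroup.normalizer (P : Set G)) := Fintype.ofFinite _
  have hNC := normalizer_le_normalizer_centralizer P
  have hNH : Subgroup.normalizer (P : Set G) ≤ Subgroup.normalizer (H : Set G) := by
    intro n hn
    rw [Subgroup.mem_normalizer_iff]
    intro h
    constructor
    · intro hh
      rw [hH] at hh ⊢
      exact conj_mem_sup_centralizer P n hn h hh
    · intro hh
      rw [hH] at hh ⊢
      have := conj_mem_sup_centralizer P n⁻¹ (inv_mem hn) _ hh
      have e : n⁻¹ * (n * h * n⁻¹) * n⁻¹⁻¹ = h := by group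
      rwa [e] at this
  set d : Subgroup.normalizer (P : Set G) := ⟨y, hy⟩ with hd
  have hcoef := cover_coeff hM P hP H hH hCH ξ θ₀ hov
  -- the conjugated idempotent
  have hconjcoef : ∀ h : H, blockCoeff (blockOf M (θ₀ : H → ℂ))
      (cj (Subgroup.normalizer (P : Set G)) H hNH d h)
      = subgroupBlockCoeff (Subgroup.centralizer (P : Set G))
        (cjSet (Subgroup.normalizer (P : Set G)) (Subgroup.centralizer (P : Set G)) hNC d⁻¹
          (blockOf M (ξ : Subgroup.centralizer (P : Set G) → ℂ))) (h : G) := by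
    intro h
    rw [hcoef, cj_coe]
    exact sbc_conj' (Subgroup.normalizer (P : Set G)) (Subgroup.centralizer (P : Set G)) hNC d
      _ (h : G)
  constructor
  · intro hst θ hθ θ' hθ'
    have hfix : cjSet (Subgroup.normalizer (P : Set G)) (Subgroup.centralizer (P : Set G)) hNC d
        (blockOf M (ξ : Subgroup.centralizer (P : Set G) → ℂ))
        = blockOf M (ξ : Subgroup.centralizer (P : Set G) → ℂ) :=
      cjSet_eq_of_stabilizes _ _ hNC _ d hst
    have hfix' : cjSet (Subgroup.normalizer (P : Set G)) (Subgroup.centralizer (P : Set G)) hNC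
        d⁻¹ (blockOf M (ξ : Subgroup.centralizer (P : Set G) → ℂ))
        = blockOf M (ξ : Subgroup.centralizer (P : Set G) → ℂ) := by
      have := cjSet_inv_cjSet (Subgroup.normalizer (P : Set G))
        (Subgroup.centralizer (P : Set G)) hNC d
        (blockOf M (ξ : Subgroup.centralizer (P : Set G) → ℂ))
      rw [hfix] at this
      exact this
    have hθ'eq : θ' = cjIrr (Subgroup.normalizer (P : Set G)) H hNH d θ :=
      (isConjCharOf_iff (Subgroup.normalizer (P : Set G)) H hNH d θ θ').mp hθ'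
    rw [hθ'eq]
    have h1 := om_cjIrr (Subgroup.normalizer (P : Set G)) H hNH d θ
      (blockCoeff (blockOf M (θ₀ : H → ℂ)))
    have h2 : (fun h : H => blockCoeff (blockOf M (θ₀ : H → ℂ))
        (cj (Subgroup.normalizer (P : Set G)) H hNH d h))
        = blockCoeff (blockOf M (θ₀ : H → ℂ)) := by
      funext h
      rw [hconjcoef h, hfix', hcoef]
    rw [h2, om_blockCoeff _ θ.2, if_pos ((memB_coe _ θ).mpr hθ),
      om_blockCoeff _ (cjIrr (Subgroup.normalizer (P : Set G)) H hNH d θ).2] at h1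
    by_contra hcon
    rw [if_neg (fun hm => hcon ((memB_coe _ _).mp hm))] at h1
    exact zero_ne_one h1
  · intro hall
    have hmem := hall θ₀ (self_mem_blockOf hMm θ₀)
      (cjIrr (Subgroup.normalizer (P : Set G)) H hNH d θ₀)
      ((isConjCharOf_iff (Subgroup.normalizer (P : Set G)) H hNH d θ₀ _).mpr rfl)
    set ξ'' := cjIrr (Subgroup.normalizer (P : Set G)) (Subgroup.centralizer (P : Set G)) hNC
      d⁻¹ ξ with hξ''
    have hbl'' : cjSet (Subgroup.normalizer (P : Set G)) (Subgroup.centralizer (P : Set G)) hNC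
        d⁻¹ (blockOf M (ξ : Subgroup.centralizer (P : Set G) → ℂ))
        = blockOf M (ξ'' : Subgroup.centralizer (P : Set G) → ℂ) :=
      cjSet_blockOf _ _ hNC d⁻¹ ξ
    obtain ⟨θ'', hov''⟩ := exists_over ((Subgroup.centralizer (P : Set G)).subgroupOf H)
      (trIrr (Subgroup.subgroupOfEquivOfLe hCH) ξ'').2
    have hcoef'' := cover_coeff hM P hP H hH hCH ξ'' θ'' hov''
    have h1 := om_cjIrr (Subgroup.normalizer (P : Set G)) H hNH d θ₀
      (blockCoeff (blockOf M (θ₀ : H → ℂ)))
    have h2 : (fun h : H => blockCoeff (blockOf M (θ₀ : H → ℂ))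
        (cj (Subgroup.normalizer (P : Set G)) H hNH d h))
        = blockCoeff (blockOf M (θ'' : H → ℂ)) := by
      funext h
      rw [hconjcoef h, hbl'', hcoef'']
    rw [h2, om_blockCoeff _ (cjIrr (Subgroup.normalizer (P : Set G)) H hNH d θ₀).2,
      if_pos ((memB_coe _ _).mpr hmem), om_blockCoeff _ θ₀.2] at h1
    have hθ₀'' : θ₀ ∈ blockOf M (θ'' : H → ℂ) := by
      by_contra hcon
      rw [if_neg (fun hm => hcon ((memB_coe _ _).mp hm))] at h1
      exact one_ne_zero h1
    have hblH : blockOf M (θ₀ : H → ℂ) = blockOf M (θ'' : H → ℂ) :=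
      blockOf_eq_of_mem hMm hθ₀''
    have hblC := (block_eq_iff hM P hP H hH hCH ξ ξ'' θ₀ θ'' hov hov'').mp hblH
    have hfix : cjSet (Subgroup.normalizer (P : Set G)) (Subgroup.centralizer (P : Set G)) hNC d
        (blockOf M (ξ : Subgroup.centralizer (P : Set G) → ℂ))
        = blockOf M (ξ : Subgroup.centralizer (P : Set G) → ℂ) := by
      have := cjSet_cjSet_inv (Subgroup.normalizer (P : Set G))
        (Subgroup.centralizer (P : Set G)) hNC d
        (blockOf M (ξ : Subgroup.centralizer (P : Set G) → ℂ))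
      rw [hbl'', ← hblC] at this
      exact this
    exact stabilizesBlock_of_cjSet_eq (Subgroup.normalizer (P : Set G))
      (Subgroup.centralizer (P : Set G)) hNC _ d hfix

end Cover

section PairInduced

variable {G : Type u} [Group G] [Fintype G] {M : Ideal AlgInt}

omit [Fintype G] in
theorem normalizer_le_normalizer_sup (P H : Subgroup G)
    (hH : H = P ⊔ Subgroup.centralizer (P : Set G)) :
    Subgroup.normalizer (P : Set G) ≤ Subgroup.normalizer (H : Set G) := by
  intro n hn
  rw [Subgroup.mem_normalizer_iff]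
  intro h
  constructor
  · intro hh
    rw [hH] at hh ⊢
    exact conj_mem_sup_centralizer P n hn h hh
  · intro hh
    rw [hH] at hh ⊢
    have := conj_mem_sup_centralizer P n⁻¹ (inv_mem hn) _ hh
    have e : n⁻¹ * (n * h * n⁻¹) * n⁻¹⁻¹ = h := by group
    rwa [e] at this

/-- The block of `C_G(P)` under a block of `P C_G(P)` inducing `B` gives a Brauer pair of `B`. -/
theorem pair_of_induced {p : ℕ} [hp : Fact p.Prime] (hM : IsPModular p M)
    (P : Subgroup G) (hP : IsPGroup p P) (H : Subgroup G) [Fintype H]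
    (hH : H = P ⊔ Subgroup.centralizer (P : Set G))
    (hCH : Subgroup.centralizer (P : Set G) ≤ H)
    [Fintype (Subgroup.centralizer (P : Set G))]
    [Fintype ((Subgroup.centralizer (P : Set G)).subgroupOf H)]
    (ξ : IrrCharacter (Subgroup.centralizer (P : Set G))) (θ₀ : IrrCharacter H)
    (hov : classInner
      (fun k : (Subgroup.centralizer (P : Set G)).subgroupOf H => (θ₀ : H → ℂ) k)
      (fun k => (ξ : Subgroup.centralizer (P : Set G) → ℂ)
        (Subgroup.subgroupOfEquivOfLe hCH k)) ≠ 0)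
    (B : Set (IrrCharacter G)) (hind : IsInducedBlock M H (blockOf M (θ₀ : H → ℂ)) B) :
    IsBrauerPairOf p M B P (blockOf M (ξ : Subgroup.centralizer (P : Set G) → ℂ)) := by
  classical
  have hMm := hM.2.1
  obtain ⟨hb, ⟨χ₁, rfl⟩, hcong⟩ := hind
  refine ⟨⟨hP, ⟨ξ, rfl⟩⟩, ⟨χ₁, rfl⟩, ?_⟩
  intro ξ' hξ'
  have hPH : P ≤ H := by rw [hH]; exact le_sup_left
  have hHN : H ≤ Subgroup.normalizer (P : Set G) := by
    rw [hH]
    exact sup_le Subgroup.le_normalizer (Subgroup.centralizer_le_normalizer _)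
  have hNC := normalizer_le_normalizer_centralizer P
  haveI hKn : ((Subgroup.centralizer (P : Set G)).subgroupOf H).Normal :=
    (Subgroup.normal_subgroupOf_iff_le_normalizer hCH).mpr (hHN.trans hNC)
  haveI hPn : (P.subgroupOf H).Normal :=
    (Subgroup.normal_subgroupOf_iff_le_normalizer hPH).mpr hHN
  have hPHp : IsPGroup p (P.subgroupOf H) :=
    hP.comap_of_injective H.subtype (Subgroup.subtype_injective _)
  have hCK : Subgroup.centralizer ((P.subgroupOf H : Subgroup H) : Set H)
      ≤ (Subgroup.centralizer (P : Set G)).subgroupOf H := by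
    intro n hn
    rw [Subgroup.mem_subgroupOf, Subgroup.mem_centralizer_iff]
    intro q hq
    have h3 : (⟨q, hPH hq⟩ : H) ∈ P.subgroupOf H := Subgroup.mem_subgroupOf.mpr hq
    have h4 := Subgroup.mem_centralizer_iff.mp hn _ h3
    exact congrArg Subtype.val h4
  obtain ⟨θ', hov'⟩ := exists_over ((Subgroup.centralizer (P : Set G)).subgroupOf H)
      (trIrr (Subgroup.subgroupOfEquivOfLe hCH) ξ').2
  have hbl : blockOf M (θ' : H → ℂ) = blockOf M (θ₀ : H → ℂ) :=
    (block_eq_iff hM P hP H hH hCH ξ' ξ θ' θ₀ hov' hov).mpr (blockOf_eq_of_mem hMm hξ')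
  have hθ' : θ' ∈ blockOf M (θ₀ : H → ℂ) := by
    rw [← hbl]
    exact self_mem_blockOf hMm θ'
  have hK : ∀ n : H, MemLocalIdeal M
      (inducedCentralChar ((Subgroup.centralizer (P : Set G)).subgroupOf H)
        (fun k => (ξ' : Subgroup.centralizer (P : Set G) → ℂ)
          (Subgroup.subgroupOfEquivOfLe hCH k)) n - centralChar (θ' : H → ℂ) n) :=
    fun n => induced_sub_centralChar_of_over hM (P.subgroupOf H)
      ((Subgroup.centralizer (P : Set G)).subgroupOf H) hPHp hCK θ'
      (trIrr (Subgroup.subgroupOfEquivOfLe hCH) ξ') hov' n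
  have hcongC : ∀ g : G, MemLocalIdeal M
      (inducedCentralChar (Subgroup.centralizer (P : Set G))
        (ξ' : Subgroup.centralizer (P : Set G) → ℂ) g - centralChar (χ₁ : G → ℂ) g) := by
    intro g
    have h1 := induced_trans hMm (Subgroup.centralizer (P : Set G)) H hCH
      (ξ' : Subgroup.centralizer (P : Set G) → ℂ)
      (IsCharacter.isClassFunction (IsIrrCharacter.isCharacter θ'.2)) hK g
    have h2 := hcong θ' hθ' χ₁ (self_mem_blockOf hMm χ₁) g
    have := memLocalIdeal_add hMm h1 h2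
    rwa [sub_add_sub_cancel] at this
  set ε := blockCoeff (blockOf M (χ₁ : G → ℂ)) with hε
  have hεcf : IsClassFunction G ε := blockCoeff_isClassFunction _
  rw [brauerOmega_eq_om]
  have h1 := om_blockCoeff (blockOf M (χ₁ : G → ℂ)) χ₁.2
  rw [if_pos ((memB_coe _ χ₁).mpr (self_mem_blockOf hMm χ₁)),
    om_eq_sum_classes (IsCharacter.isClassFunction (IsIrrCharacter.isCharacter χ₁.2)) hεcf]
    at h1
  rw [om_res_eq_sum_classes (Subgroup.centralizer (P : Set G))
    (ξ' : Subgroup.centralizer (P : Set G) → ℂ) hεcf, ← h1, ← Finset.sum_sub_distrib]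
  apply memLocalIdeal_sum hMm
  intro C _
  rw [← mul_sub]
  exact memLocalIdeal_mul_ring hMm (hcongC C.out) (memLocalRing_blockCoeff hMm χ₁.2 _)

/-- The defect group of the block of `C_G(P)` under a block of `P C_G(P)` with defect group
`P` is `Z(P)`. -/
theorem defect_under {p : ℕ} [hp : Fact p.Prime] (hM : IsPModular p M)
    (P : Subgroup G) (hP : IsPGroup p P) (H : Subgroup G) [Fintype H]
    (hH : H = P ⊔ Subgroup.centralizer (P : Set G))
    (hCH : Subgroup.centralizer (P : Set G) ≤ H)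
    [Fintype (Subgroup.centralizer (P : Set G))]
    [Fintype ((Subgroup.centralizer (P : Set G)).subgroupOf H)]
    (ξ : IrrCharacter (Subgroup.centralizer (P : Set G))) (θ₀ : IrrCharacter H)
    (hov : classInner
      (fun k : (Subgroup.centralizer (P : Set G)).subgroupOf H => (θ₀ : H → ℂ) k)
      (fun k => (ξ : Subgroup.centralizer (P : Set G) → ℂ)
        (Subgroup.subgroupOfEquivOfLe hCH k)) ≠ 0)
    (hdef : IsDefectGroup p M (blockOf M (θ₀ : H → ℂ)) (P.subgroupOf H))
    (Δ : Subgroup (Subgroup.centralizer (P : Set G)))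
    (hΔ : IsDefectGroup p M (blockOf M (ξ : Subgroup.centralizer (P : Set G) → ℂ)) Δ) :
    Δ = (P ⊓ Subgroup.centralizer (P : Set G)).subgroupOf
      (Subgroup.centralizer (P : Set G)) := by
  classical
  have hMm := hM.2.1
  have hPH : P ≤ H := by rw [hH]; exact le_sup_left
  have hHN : H ≤ Subgroup.normalizer (P : Set G) := by
    rw [hH]
    exact sup_le Subgroup.le_normalizer (Subgroup.centralizer_le_normalizer _)
  have hNC := normalizer_le_normalizer_centralizer P
  haveI hKn : ((Subgroup.centralizer (P : Set G)).subgroupOf H).Normal :=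
    (Subgroup.normal_subgroupOf_iff_le_normalizer hCH).mpr (hHN.trans hNC)
  set ψ := Subgroup.subgroupOfEquivOfLe hCH with hψ
  set c : Set (IrrCharacter ((Subgroup.centralizer (P : Set G)).subgroupOf H)) :=
    blockOf M (trIrr ψ ξ : _ → ℂ) with hc
  have hce : c = trIrr ψ '' blockOf M (ξ : Subgroup.centralizer (P : Set G) → ℂ) :=
    blockOf_trIrr ψ ξ
  have hinv : Invariant ((Subgroup.centralizer (P : Set G)).subgroupOf H) c := by
    intro g θ hθ θ' hθ'
    rw [hce] at hθ ⊢
    obtain ⟨θ₁, hθ₁, rfl⟩ := hθ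
    have hst := stabilizes_of_mem_sup P
      (blockOf M (ξ : Subgroup.centralizer (P : Set G) → ℂ)) ((g : G)⁻¹)
      (by rw [← hH]; exact H.inv_mem g.2)
    obtain ⟨χ', hχ', hconj⟩ := hst.2 θ₁ hθ₁
    refine ⟨χ', hχ', ?_⟩
    apply Subtype.ext
    funext n
    rw [trIrr_apply, hθ' n, trIrr_apply]
    refine hconj (ψ ⟨g * n * g⁻¹, _⟩) (ψ n) ?_
    show ((n : H) : G) = (g : G)⁻¹ * ((g : G) * ((n : H) : G) * (g : G)⁻¹) * ((g : G)⁻¹)⁻¹
    group
  have hξc : trIrr ψ ξ ∈ c := self_mem_blockOf hMm _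
  have huniq : ∀ (χ : IrrCharacter H)
      (θ : IrrCharacter ((Subgroup.centralizer (P : Set G)).subgroupOf H)), θ ∈ c →
      classInner (fun n : (Subgroup.centralizer (P : Set G)).subgroupOf H => (χ : H → ℂ) n)
        (θ : _ → ℂ) ≠ 0 →
      blockOf M (χ : H → ℂ) = blockOf M (θ₀ : H → ℂ) := by
    intro χ θ hθ hovχ
    rw [hce] at hθ
    obtain ⟨θ₁, hθ₁, rfl⟩ := hθ
    exact (block_eq_iff hM P hP H hH hCH θ₁ ξ χ θ₀ hovχ hov).mpr (blockOf_eq_of_mem hMm hθ₁)
  have hfong := fong ((Subgroup.centralizer (P : Set G)).subgroupOf H) hM c ⟨_, rfl⟩ hinv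
    (blockOf M (θ₀ : H → ℂ)) ⟨θ₀, rfl⟩
    ⟨θ₀, self_mem_blockOf hMm θ₀, trIrr ψ ξ, hξc, hov⟩
    (by
      rintro B' ⟨χ₀, rfl⟩ ⟨χ, hχ, θ, hθ, hovχ⟩
      rw [← blockOf_eq_of_mem hMm hχ, huniq χ θ hθ hovχ])
    (P.subgroupOf H) hdef
  have hdefc := hfong.2.1
  have c1 := card_defectGroup hM (trIrr ψ ξ) _ hdefc
  have c2 := card_defectGroup hM ξ Δ hΔ
  have c3 : blockDefect p c
      = blockDefect p (blockOf M (ξ : Subgroup.centralizer (P : Set G) → ℂ)) := by
    rw [hce]
    exact blockDefect_image_trIrr p ψ _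
  rw [card_inf_subgroupOf] at c1
  have c4 : Nat.card (P.subgroupOf H ⊓ (Subgroup.centralizer (P : Set G)).subgroupOf H :
      Subgroup H) = Nat.card (P ⊓ Subgroup.centralizer (P : Set G) : Subgroup G) := by
    have h1 : (P.subgroupOf H ⊓ (Subgroup.centralizer (P : Set G)).subgroupOf H : Subgroup H)
        = (P ⊓ Subgroup.centralizer (P : Set G)).subgroupOf H := by
      ext x
      simp [Subgroup.mem_subgroupOf, Subgroup.mem_inf]
    rw [h1]
    exact Nat.card_congr (Subgroup.subgroupOfEquivOfLe (inf_le_left.trans hPH)).toEquiv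
  haveI hZn : ((P ⊓ Subgroup.centralizer (P : Set G)).subgroupOf
      (Subgroup.centralizer (P : Set G))).Normal := by
    refine ⟨fun n hn g => ?_⟩
    rw [Subgroup.mem_subgroupOf] at hn ⊢
    have hcomm : (n : G) * (g : G) = (g : G) * (n : G) :=
      Subgroup.mem_centralizer_iff.mp g.2 (n : G) (Subgroup.mem_inf.mp hn).1
    have e1 : ((g * n * g⁻¹ : Subgroup.centralizer (P : Set G)) : G) = (n : G) := by
      simp only [Subgroup.coe_mul, Subgroup.coe_inv]
      rw [← hcomm, mul_assoc, mul_inv_cancel, mul_one]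
    rw [e1]
    exact hn
  have hZp : IsPGroup p ((P ⊓ Subgroup.centralizer (P : Set G)).subgroupOf
      (Subgroup.centralizer (P : Set G))) :=
    (hP.to_le inf_le_left).comap_of_injective _ (Subgroup.subtype_injective _)
  have hle := normal_pSubgroup_le_defectGroup hM _ hZp ξ Δ hΔ
  have hcardZ := card_inf_subgroupOf P (Subgroup.centralizer (P : Set G))
  symm
  apply Subgroup.eq_of_le_of_card_ge hle
  rw [hcardZ, c2, ← c3, ← c1, c4]

end PairInduced

section NormalizerGrowth

/-- A `p`-group `D` whose subgroup `P` is self-normalizing in `D` equals `P`. -/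
theorem eq_of_inf_normalizer_le {G : Type u} [Group G] [Finite G] {p : ℕ} [hp : Fact p.Prime]
    (D P : Subgroup G) (hDp : IsPGroup p D) (hPD : P ≤ D)
    (h : D ⊓ Subgroup.normalizer (P : Set G) ≤ P) : D = P := by
  by_contra hne
  haveI : Group.IsNilpotent D := hDp.isNilpotent
  have hnc : NormalizerCondition D := Group.normalizerCondition_of_isNilpotent
  have hlt : P.subgroupOf D < ⊤ := by
    rw [lt_top_iff_ne_top]
    intro htop
    apply hne
    apply le_antisymm _ hPD
    intro a ha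
    have : (⟨a, ha⟩ : D) ∈ P.subgroupOf D := by rw [htop]; exact Subgroup.mem_top _
    exact this
  have hlt2 := hnc _ hlt
  obtain ⟨a, haN, haP⟩ := SetLike.exists_of_lt hlt2
  apply haP
  rw [Subgroup.mem_subgroupOf]
  apply h
  refine Subgroup.mem_inf.mpr ⟨a.2, ?_⟩
  rw [Subgroup.mem_normalizer_iff] at haN ⊢
  intro d
  constructor
  · intro hd
    have := (haN ⟨d, hPD hd⟩).mp (by rw [Subgroup.mem_subgroupOf]; exact hd)
    rw [Subgroup.mem_subgroupOf] at this
    simpa using this
  · intro hd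
    have hdD : d ∈ D := by
      have h1 : (a : G) * d * (a : G)⁻¹ ∈ D := hPD hd
      have h2 := D.mul_mem (D.mul_mem (D.inv_mem a.2) h1) a.2
      simpa [mul_assoc] using h2
    have := (haN ⟨d, hdD⟩).mpr (by rw [Subgroup.mem_subgroupOf]; simpa using hd)
    rw [Subgroup.mem_subgroupOf] at this
    exact this

end NormalizerGrowth

section Main

variable {G : Type u} [Group G] [Fintype G] {M : Ideal AlgInt}

/-- **The inertial index criterion.** A block `b` of `H = P C_G(P)` with defect group `P` induces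
a block of `G` with defect group `P` exactly when the index of `H` in the stabilizer of `b` in
`N_G(P)` is prime to `p`. -/
theorem inertial_index {p : ℕ} [hp : Fact p.Prime] (hM : IsPModular p M)
    (P : Subgroup G) (hP : IsPGroup p P) (H : Subgroup G) [Fintype H]
    (hH : H = P ⊔ Subgroup.centralizer (P : Set G)) (b : Set (IrrCharacter H))
    (hb : IsPBlock M b) (hbP : IsDefectGroup p M b (P.subgroupOf H))
    (B : Set (IrrCharacter G)) (hind : IsInducedBlock M H b B) (T : Subgroup G)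
    (hT : ∀ g : G, g ∈ T ↔ (g ∈ Subgroup.normalizer (P : Set G) ∧
      ∀ θ ∈ b, ∀ θ' : IrrCharacter H,
        (∀ h h' : H, (h' : G) = g * h * g⁻¹ → (θ' : H → ℂ) h' = (θ : H → ℂ) h) → θ' ∈ b)) :
    IsDefectGroup p M B P ↔ ¬ p ∣ H.relIndex T := by
  classical
  have hMm := hM.2.1
  haveI : Fintype (Subgroup.centralizer (P : Set G)) := Fintype.ofFinite _
  have hCH : Subgroup.centralizer (P : Set G) ≤ H := by rw [hH]; exact le_sup_right
  have hPH : P ≤ H := by rw [hH]; exact le_sup_left
  haveI : Fintype ((Subgroup.centralizer (P : Set G)).subgroupOf H) := Fintype.ofFinite _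
  obtain ⟨θ₀, rfl⟩ := hb
  obtain ⟨η, hη⟩ := exists_under ((Subgroup.centralizer (P : Set G)).subgroupOf H) θ₀.2
  set ψ := Subgroup.subgroupOfEquivOfLe hCH with hψ
  set ξ := trIrr ψ.symm η with hξ
  have hov : classInner
      (fun k : (Subgroup.centralizer (P : Set G)).subgroupOf H => (θ₀ : H → ℂ) k)
      (fun k => (ξ : Subgroup.centralizer (P : Set G) → ℂ) (ψ k)) ≠ 0 := by
    have : (fun k => (ξ : Subgroup.centralizer (P : Set G) → ℂ) (ψ k)) = (η : _ → ℂ) := by
      funext k
      rw [hξ, trIrr_apply, MulEquiv.symm_apply_apply]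
    rw [this]
    exact hη
  set e := blockOf M (ξ : Subgroup.centralizer (P : Set G) → ℂ) with he
  have hB : IsPBlock M B := hind.2.1
  have hpair : IsBrauerPairOf p M B P e := pair_of_induced hM P hP H hH hCH ξ θ₀ hov B hind
  have hTe : ∀ y : G, y ∈ T ↔ y ∈ Subgroup.normalizer (P : Set G) ∧
      StabilizesBlock (Subgroup.centralizer (P : Set G)) e y := by
    intro y
    rw [hT y]
    constructor
    · rintro ⟨hy, h⟩
      exact ⟨hy, (stab_iff hM P hP H hH hCH ξ θ₀ hov y hy).mpr h⟩
    · rintro ⟨hy, h⟩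
      exact ⟨hy, (stab_iff hM P hP H hH hCH ξ θ₀ hov y hy).mp h⟩
  have hHT : H ≤ T := by
    intro x hx
    rw [hTe]
    have hx' : x ∈ P ⊔ Subgroup.centralizer (P : Set G) := by rw [← hH]; exact hx
    exact ⟨(sup_le Subgroup.le_normalizer (Subgroup.centralizer_le_normalizer _)) hx',
      stabilizes_of_mem_sup P e x hx'⟩
  constructor
  · intro hdef
    obtain ⟨D, g, hmax', hle'⟩ := exists_maximal_above (p := p) (M := M) B _ P e hpair rfl
    have hD := maximal_pair_defect hM B D g hmax'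
    obtain ⟨χ₁, rfl⟩ := hB
    have c1 := card_defectGroup hM χ₁ D hD
    have c2 := card_defectGroup hM χ₁ P hdef
    have hPD : P ≤ D := le_fst hle'
    have hDP : P = D := Subgroup.eq_of_le_of_card_ge hPD (by rw [c1, c2])
    subst hDP
    have hge : e = g := unique_le hM _ P g hmax'.1.1 P e g rfl hle' Relation.ReflTransGen.refl
    rw [← hge] at hmax'
    have hidx := index_stab_sup hM _ P e hmax' T hTe
    have hsup : P.subgroupOf T ⊔ (Subgroup.centralizer (P : Set G)).subgroupOf T
        = H.subgroupOf T := by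
      rw [hH, Subgroup.subgroupOf_sup (hPH.trans hHT) (hCH.trans hHT)]
    rw [hsup] at hidx
    exact hidx
  · intro hidx
    obtain ⟨D, g, hmax', hle'⟩ := exists_maximal_above (p := p) (M := M) B _ P e hpair rfl
    have hD := maximal_pair_defect hM B D g hmax'
    have hPD : P ≤ D := le_fst hle'
    have hDp : IsPGroup p D := hmax'.1.1.1
    have hTN : T ≤ Subgroup.normalizer (P : Set G) := fun y hy => ((hTe y).mp hy).1
    have hRT : D ⊓ Subgroup.normalizer (P : Set G) ≤ T := by
      have h1 := stab_inf_normalizer_le hM D g hmax'.1.1 P e hle' T hTe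
        (stabSub (Subgroup.normalizer (D : Set G)) (Subgroup.centralizer (D : Set G))
          (normalizer_le_normalizer_centralizer D) g) (mem_stabSub_iff D g)
      refine le_trans (inf_le_inf_right _ ?_) h1
      intro y hy
      rw [mem_stabSub_iff]
      exact ⟨Subgroup.le_normalizer hy, stabilizes_of_mem_sup D g y
        ((le_sup_left : _ ≤ D ⊔ Subgroup.centralizer (D : Set G)) hy)⟩
    haveI hHn : (H.subgroupOf T).Normal :=
      (Subgroup.normal_subgroupOf_iff_le_normalizer hHT).mpr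
        (hTN.trans (normalizer_le_normalizer_sup P H hH))
    have hRH : D ⊓ Subgroup.normalizer (P : Set G) ≤ H := by
      intro r hr
      have hrT := hRT hr
      obtain ⟨k, hk⟩ := hDp ⟨r, (Subgroup.mem_inf.mp hr).1⟩
      have hk' : (⟨r, hrT⟩ : T) ^ (p ^ k) = 1 := by
        apply Subtype.ext
        have := congrArg Subtype.val hk
        simpa using this
      have := mem_of_pElement_of_index_coprime (H.subgroupOf T) hidx ⟨r, hrT⟩ k hk'
      exact Subgroup.mem_subgroupOf.mp this
    obtain ⟨Δ, hΔ, hΔle⟩ := centralizer_le_defect hM D P g e hmax'.1.1 hle'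
    have hΔeq := defect_under hM P hP H hH hCH ξ θ₀ hov hbP Δ hΔ
    have hDC : D ⊓ Subgroup.centralizer (P : Set G) ≤ P := by
      intro x hx
      have hxC : x ∈ Subgroup.centralizer (P : Set G) := (Subgroup.mem_inf.mp hx).2
      have h1 : (⟨x, hxC⟩ : Subgroup.centralizer (P : Set G))
          ∈ (D ⊓ Subgroup.centralizer (P : Set G)).subgroupOf
            (Subgroup.centralizer (P : Set G)) := Subgroup.mem_subgroupOf.mpr hx
      have h2 := hΔle h1
      rw [hΔeq, Subgroup.mem_subgroupOf] at h2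
      exact (Subgroup.mem_inf.mp h2).1
    have hRP : D ⊓ Subgroup.normalizer (P : Set G) ≤ P := by
      intro r hr
      have hrH : r ∈ P ⊔ Subgroup.centralizer (P : Set G) := by rw [← hH]; exact hRH hr
      have hmem : r ∈ ((P ⊔ Subgroup.centralizer (P : Set G) : Subgroup G) : Set G) := hrH
      rw [Subgroup.coe_mul_of_right_le_normalizer_left P (Subgroup.centralizer (P : Set G))
        (Subgroup.centralizer_le_normalizer _)] at hmem
      obtain ⟨u, hu, c, hc, rfl⟩ := Set.mem_mul.mp hmem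
      have hcD : c ∈ D := by
        have h1 : u * c ∈ D := (Subgroup.mem_inf.mp hr).1
        have h2 := D.mul_mem (D.inv_mem (hPD hu)) h1
        simpa using h2
      exact P.mul_mem hu (hDC (Subgroup.mem_inf.mpr ⟨hcD, hc⟩))
    have hDeq : D = P := eq_of_inf_normalizer_le D P hDp hPD hRP
    rw [← hDeq]
    exact hD

end Main

end Cfsg.Agent.Lib.Helper2_InertialIndex
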