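import Mathlib
import Cfsg.Prelude.Def_Characters
import Cfsg.Prelude.Def_Blocks
import Cfsg.Prelude.Def_BlockRank
import Cfsg.Prelude.Def_BlockLocal
import Cfsg.Prelude.Def_BrauerPairs
import Cfsg.Agent.Lib.Helper2_ClassFn
import Cfsg.Agent.Lib.Helper2_CharBasic
import Cfsg.Agent.Lib.Helper2_CharOrtho
import Cfsg.Agent.Lib.Helper2_Clifford
import Cfsg.Agent.Lib.Helper2_CharMore
import Cfsg.Agent.Lib.Helper2_CharDeg
import Cfsg.Agent.Lib.Helper2_CharInd
import Cfsg.Agent.Lib.Helper2_CharExtra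
import Cfsg.Agent.Lib.Helper2_CharInt
import Cfsg.Agent.Lib.Helper2_CharValues
import Cfsg.Agent.Lib.Helper2_CharSum
import Cfsg.Agent.Lib.Helper2_CharComplete
import Cfsg.Agent.Lib.Helper2_CharTable
import Cfsg.Agent.Lib.Helper2_CharCentral
import Cfsg.Agent.Lib.Helper2_ModM
import Cfsg.Agent.Lib.Helper2_Blocks
import Cfsg.Agent.Lib.Helper2_BlockOrtho
import Cfsg.Agent.Lib.Helper2_BlockMore
import Cfsg.Agent.Lib.Helper2_DefectGroup
import Cfsg.Agent.Lib.Helper2_DefectPCore
import Cfsg.Agent.Lib.Helper2_MinMax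
import Cfsg.Agent.Lib.Helper2_InducedBlock
import Cfsg.Agent.Lib.Helper2_BrauerMap
import Cfsg.Agent.Lib.Helper2_InducedDefect
import Cfsg.Agent.Lib.Helper2_BrauerFirst
import Cfsg.Agent.Lib.Helper2_BrauerConverse
import Cfsg.Agent.Lib.Helper2_SylowConj
import Cfsg.Agent.Lib.Helper2_BlockCover
import Cfsg.Agent.Lib.Helper2_BlockConj
import Cfsg.Agent.Lib.Helper2_FirstMain
import Cfsg.Agent.Lib.Helper2_BlockNormal
import Cfsg.Agent.Lib.Helper2_BlockCount
import Cfsg.Agent.Lib.Helper2_BlockCount2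
import Cfsg.Agent.Lib.Helper2_BlockKer
import Cfsg.Agent.Lib.Helper2_PRegCount
import Cfsg.Agent.Lib.Helper2_ExtFirstMain
import Cfsg.Agent.Lib.Helper2_ThirdMain
import Cfsg.Agent.Lib.Helper2_Fong
import Cfsg.Agent.Lib.Helper2_BrauerPairs
import Cfsg.Agent.Lib.Helper2_BrauerInv
import Cfsg.Agent.Lib.Helper2_Conj
import Cfsg.Agent.Lib.Helper2_BrauerChain
import Cfsg.Agent.Lib.Helper2_BrauerPrincipal
import Cfsg.Agent.Lib.Helper2_BrauerMax
import Cfsg.Agent.Lib.Helper2_BrauerConjMax
import Cfsg.Agent.Lib.Helper2_BrauerLocal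
import Cfsg.Agent.Lib.Helper2_BrauerStab
import Cfsg.Agent.Lib.Helper2_BlockTrace
import Cfsg.Agent.Lib.Helper2_BlockFusion
import Cfsg.Agent.Lib.Helper2_AbelianDefect
import Cfsg.Agent.Lib.Helper2_AbelianNilpotent
import Cfsg.Agent.Lib.Helper2_CentricNormal
import Cfsg.Agent.Lib.Helper2_InertialIndex
import Cfsg.Agent.Lib.Helper2_Ito
import Cfsg.Agent.Lib.Helper2_CentralDefect
import Cfsg.Agent.Lib.Helper2_CentralDefect2


set_option autoImplicit false

/-!
# A criterion for maximal Brauer pairs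
-/

namespace Cfsg.Agent.Lib.Helper2_MaxPairCrit

open Cfsg
open Cfsg.Agent.Lib.Helper2_ClassFn
open Cfsg.Agent.Lib.Helper2_CharBasic
open Cfsg.Agent.Lib.Helper2_CharOrtho
open Cfsg.Agent.Lib.Helper2_Clifford
open Cfsg.Agent.Lib.Helper2_CharMore
open Cfsg.Agent.Lib.Helper2_CharDeg
open Cfsg.Agent.Lib.Helper2_CharInd
open Cfsg.Agent.Lib.Helper2_CharExtra
open Cfsg.Agent.Lib.Helper2_CharValues
open Cfsg.Agent.Lib.Helper2_CharSum
open Cfsg.Agent.Lib.Helper2_CharComplete
open Cfsg.Agent.Lib.Helper2_CharTable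
open Cfsg.Agent.Lib.Helper2_CharCentral
open Cfsg.Agent.Lib.Helper2_ModM
open Cfsg.Agent.Lib.Helper2_Blocks
open Cfsg.Agent.Lib.Helper2_BlockOrtho
open Cfsg.Agent.Lib.Helper2_BlockMore
open Cfsg.Agent.Lib.Helper2_DefectGroup
open Cfsg.Agent.Lib.Helper2_DefectPCore
open Cfsg.Agent.Lib.Helper2_MinMax
open Cfsg.Agent.Lib.Helper2_InducedBlock
open Cfsg.Agent.Lib.Helper2_BrauerMap
open Cfsg.Agent.Lib.Helper2_InducedDefect
open Cfsg.Agent.Lib.Helper2_BrauerFirst
open Cfsg.Agent.Lib.Helper2_BrauerConverse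
open Cfsg.Agent.Lib.Helper2_SylowConj
open Cfsg.Agent.Lib.Helper2_BlockCover
open Cfsg.Agent.Lib.Helper2_BlockConj
open Cfsg.Agent.Lib.Helper2_FirstMain
open Cfsg.Agent.Lib.Helper2_BlockNormal
open Cfsg.Agent.Lib.Helper2_BlockCount
open Cfsg.Agent.Lib.Helper2_BlockCount2
open Cfsg.Agent.Lib.Helper2_BlockKer
open Cfsg.Agent.Lib.Helper2_PRegCount
open Cfsg.Agent.Lib.Helper2_ExtFirstMain
open Cfsg.Agent.Lib.Helper2_ThirdMain
open Cfsg.Agent.Lib.Helper2_Fong
open Cfsg.Agent.Lib.Helper2_BrauerPairs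
open Cfsg.Agent.Lib.Helper2_BrauerInv
open Cfsg.Agent.Lib.Helper2_BrauerChain
open Cfsg.Agent.Lib.Helper2_BrauerPrincipal
open Cfsg.Agent.Lib.Helper2_BrauerMax
open Cfsg.Agent.Lib.Helper2_BrauerConjMax
open Cfsg.Agent.Lib.Helper2_BrauerLocal
open Cfsg.Agent.Lib.Helper2_BrauerStab
open Cfsg.Agent.Lib.Helper2_BlockTrace
open Cfsg.Agent.Lib.Helper2_BlockFusion
open Cfsg.Agent.Lib.Helper2_AbelianDefect
open Cfsg.Agent.Lib.Helper2_AbelianNilpotent
open Cfsg.Agent.Lib.Helper2_CentricNormal
open Cfsg.Agent.Lib.Helper2_InertialIndex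
open scoped ComplexConjugate

universe u

section Crit

variable {G : Type u} [Group G] [Fintype G] {M : Ideal AlgInt}

/-- A block of `P C_G(P)` over the block of a Brauer pair `(P, e)` of `B` induces `B`. -/
theorem induced_of_pair {p : ℕ} [hp : Fact p.Prime] (hM : IsPModular p M)
    (P : Subgroup G) (hP : IsPGroup p P) (H : Subgroup G) [Fintype H]
    (hH : H = P ⊔ Subgroup.centralizer (P : Set G))
    (hCH : Subgroup.centralizer (P : Set G) ≤ H)
    [Fintype (Subgroup.centralizer (P : Set G))]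
    [Fintype ((Subgroup.centralizer (P : Set G)).subgroupOf H)]
    (ξ : IrrCharacter (Subgroup.centralizer (P : Set G))) (θ₀ : IrrCharacter H)
    (hov : classInner
      (fun k : (Subgroup.centralizer (P : Set G)).subgroupOf H => (θ₀ : H → ℂ) k)
      (fun k => (ξ : Subgroup.centralizer (P : Set G) → ℂ)
        (Subgroup.subgroupOfEquivOfLe hCH k)) ≠ 0)
    (B : Set (IrrCharacter G))
    (hpair : IsBrauerPairOf p M B P (blockOf M (ξ : Subgroup.centralizer (P : Set G) → ℂ))) :
    IsInducedBlock M H (blockOf M (θ₀ : H → ℂ)) B := by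
  classical
  have hMm := hM.2.1
  refine ⟨⟨θ₀, rfl⟩, hpair.2.1, ?_⟩
  intro θ' hθ' χ hχ g
  have hPH : P ≤ H := by rw [hH]; exact le_sup_left
  have hHN : H ≤ Subgroup.normalizer (P : Set G) := by
    rw [hH]
    exact sup_le Subgroup.le_normalizer (Subgroup.centralizer_le_normalizer _)
  have hNC := normalizer_le_normalizer_centralizer P
  haveI hKn : ((Subgroup.centralizer (P : Set G)).subgroupOf H).Normal :=
    (Subgroup.normal_subgroupOf_iff_le_normalizer hCH).mpr (hHN.trans hNC)
  haveI hPn : (P.subgroupOf H).Normal :=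
    (Subgroup.normal_subgroupOf_iff_le_normalizer hPH).mpr hHN
  have hPHp : IsPGroup p (P.subgroupOf H) :=
    hP.comap_of_injective H.subtype (Subgroup.subtype_injective _)
  have hCK : Subgroup.centralizer ((P.subgroupOf H : Subgroup H) : Set H)
      ≤ (Subgroup.centralizer (P : Set G)).subgroupOf H := by
    intro n hn
    rw [Subgroup.mem_subgroupOf, Subgroup.mem_centralizer_iff]
    intro q hq
    have h3 : (⟨q, hPH hq⟩ : H) ∈ P.subgroupOf H := Subgroup.mem_subgroupOf.mpr hq
    have h4 := Subgroup.mem_centralizer_iff.mp hn _ h3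
    exact congrArg Subtype.val h4
  obtain ⟨η', hη'⟩ := exists_under ((Subgroup.centralizer (P : Set G)).subgroupOf H) θ'.2
  set ψ := Subgroup.subgroupOfEquivOfLe hCH with hψ
  set ξ' := trIrr ψ.symm η' with hξ'
  have hov' : classInner
      (fun k : (Subgroup.centralizer (P : Set G)).subgroupOf H => (θ' : H → ℂ) k)
      (fun k => (ξ' : Subgroup.centralizer (P : Set G) → ℂ) (ψ k)) ≠ 0 := by
    have : (fun k => (ξ' : Subgroup.centralizer (P : Set G) → ℂ) (ψ k)) = (η' : _ → ℂ) := by
      funext k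
      rw [hξ', trIrr_apply, MulEquiv.symm_apply_apply]
    rw [this]
    exact hη'
  have hbl : blockOf M (ξ' : Subgroup.centralizer (P : Set G) → ℂ)
      = blockOf M (ξ : Subgroup.centralizer (P : Set G) → ℂ) :=
    (block_eq_iff hM P hP H hH hCH ξ' ξ θ' θ₀ hov' hov).mp (blockOf_eq_of_mem hMm hθ')
  have hξ'mem : ξ' ∈ blockOf M (ξ : Subgroup.centralizer (P : Set G) → ℂ) := by
    rw [← hbl]
    exact self_mem_blockOf hMm ξ'
  have hK : ∀ n : H, MemLocalIdeal M
      (inducedCentralChar ((Subgroup.centralizer (P : Set G)).subgroupOf H)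
        (fun k => (ξ' : Subgroup.centralizer (P : Set G) → ℂ)
          (Subgroup.subgroupOfEquivOfLe hCH k)) n - centralChar (θ' : H → ℂ) n) :=
    fun n => induced_sub_centralChar_of_over hM (P.subgroupOf H)
      ((Subgroup.centralizer (P : Set G)).subgroupOf H) hPHp hCK θ'
      (trIrr (Subgroup.subgroupOfEquivOfLe hCH) ξ') hov' n
  have h1 := induced_trans hMm (Subgroup.centralizer (P : Set G)) H hCH
    (ξ' : Subgroup.centralizer (P : Set G) → ℂ)
    (IsCharacter.isClassFunction (IsIrrCharacter.isCharacter θ'.2)) hK g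
  have h2 := induced_of_brauerPairOf hM B P _ hpair ξ' hξ'mem χ hχ g
  have := memLocalIdeal_sub hMm h2 h1
  rwa [sub_sub_sub_cancel_left] at this

/-- The order of `P` is the order of `Z(P)` times the index of `C_G(P)` in `P C_G(P)`. -/
theorem index_centralizer_sup (P H : Subgroup G)
    (hH : H = P ⊔ Subgroup.centralizer (P : Set G))
    (hCH : Subgroup.centralizer (P : Set G) ≤ H) (hPH : P ≤ H)
    [hKn : ((Subgroup.centralizer (P : Set G)).subgroupOf H).Normal] :
    Nat.card (P ⊓ Subgroup.centralizer (P : Set G) : Subgroup G)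
      * ((Subgroup.centralizer (P : Set G)).subgroupOf H).index = Nat.card P := by
  have htop : P.subgroupOf H ⊔ (Subgroup.centralizer (P : Set G)).subgroupOf H = ⊤ := by
    rw [← Subgroup.subgroupOf_sup hPH hCH, ← hH]
    exact Subgroup.subgroupOf_self H
  have h1 : ((Subgroup.centralizer (P : Set G)).subgroupOf H).index
      = ((Subgroup.centralizer (P : Set G)).subgroupOf H).relIndex (P.subgroupOf H) := by
    rw [← Subgroup.relIndex_top_right, ← htop, Subgroup.relIndex_sup_right]
  have h2 := Subgroup.card_mul_index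
    (((Subgroup.centralizer (P : Set G)).subgroupOf H).subgroupOf (P.subgroupOf H))
  have h3 : Nat.card (((Subgroup.centralizer (P : Set G)).subgroupOf H).subgroupOf
      (P.subgroupOf H))
      = Nat.card (P.subgroupOf H ⊓ (Subgroup.centralizer (P : Set G)).subgroupOf H :
        Subgroup H) := by
    rw [← Subgroup.inf_subgroupOf_right ((Subgroup.centralizer (P : Set G)).subgroupOf H)
      (P.subgroupOf H), card_inf_subgroupOf, inf_comm]
  have h4 : Nat.card (P.subgroupOf H ⊓ (Subgroup.centralizer (P : Set G)).subgroupOf H :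
      Subgroup H) = Nat.card (P ⊓ Subgroup.centralizer (P : Set G) : Subgroup G) := by
    have h1 : (P.subgroupOf H ⊓ (Subgroup.centralizer (P : Set G)).subgroupOf H : Subgroup H)
        = (P ⊓ Subgroup.centralizer (P : Set G)).subgroupOf H := by
      ext x
      simp [Subgroup.mem_subgroupOf, Subgroup.mem_inf]
    rw [h1]
    exact Nat.card_congr (Subgroup.subgroupOfEquivOfLe (inf_le_left.trans hPH)).toEquiv
  have h5 : Nat.card (P.subgroupOf H) = Nat.card P :=
    Nat.card_congr (Subgroup.subgroupOfEquivOfLe hPH).toEquiv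
  rw [h1, ← h4, ← h3, ← h5]
  exact h2

/-- Fong's defect formula for `C_G(P) ⊴ P C_G(P)`. -/
theorem defect_sum {p : ℕ} [hp : Fact p.Prime] (hM : IsPModular p M)
    (P : Subgroup G) (hP : IsPGroup p P) (H : Subgroup G) [Fintype H]
    (hH : H = P ⊔ Subgroup.centralizer (P : Set G))
    (hCH : Subgroup.centralizer (P : Set G) ≤ H)
    [Fintype (Subgroup.centralizer (P : Set G))]
    [Fintype ((Subgroup.centralizer (P : Set G)).subgroupOf H)]
    (ξ : IrrCharacter (Subgroup.centralizer (P : Set G))) (θ₀ : IrrCharacter H)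
    (hov : classInner
      (fun k : (Subgroup.centralizer (P : Set G)).subgroupOf H => (θ₀ : H → ℂ) k)
      (fun k => (ξ : Subgroup.centralizer (P : Set G) → ℂ)
        (Subgroup.subgroupOfEquivOfLe hCH k)) ≠ 0) :
    blockDefect p (blockOf M (θ₀ : H → ℂ))
      = blockDefect p (blockOf M (ξ : Subgroup.centralizer (P : Set G) → ℂ))
        + ((Subgroup.centralizer (P : Set G)).subgroupOf H).index.factorization p := by
  classical
  have hMm := hM.2.1
  have hPH : P ≤ H := by rw [hH]; exact le_sup_left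
  have hHN : H ≤ Subgroup.normalizer (P : Set G) := by
    rw [hH]
    exact sup_le Subgroup.le_normalizer (Subgroup.centralizer_le_normalizer _)
  have hNC := normalizer_le_normalizer_centralizer P
  haveI hKn : ((Subgroup.centralizer (P : Set G)).subgroupOf H).Normal :=
    (Subgroup.normal_subgroupOf_iff_le_normalizer hCH).mpr (hHN.trans hNC)
  set ψ := Subgroup.subgroupOfEquivOfLe hCH with hψ
  set c : Set (IrrCharacter ((Subgroup.centralizer (P : Set G)).subgroupOf H)) :=
    blockOf M (trIrr ψ ξ : _ → ℂ) with hc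
  have hce : c = trIrr ψ '' blockOf M (ξ : Subgroup.centralizer (P : Set G) → ℂ) :=
    blockOf_trIrr ψ ξ
  have hinv : Invariant ((Subgroup.centralizer (P : Set G)).subgroupOf H) c := by
    intro g θ hθ θ' hθ'
    rw [hce] at hθ ⊢
    obtain ⟨θ₁, hθ₁, rfl⟩ := hθ
    have hst := stabilizes_of_mem_sup P
      (blockOf M (ξ : Subgroup.centralizer (P : Set G) → ℂ)) ((g : G)⁻¹)
      (by rw [← hH]; exact H.inv_mem g.2)
    obtain ⟨χ', hχ', hconj⟩ := hst.2 θ₁ hθ₁
    refine ⟨χ', hχ', ?_⟩
    apply Subtype.ext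
    funext n
    rw [trIrr_apply, hθ' n, trIrr_apply]
    refine hconj (ψ ⟨g * n * g⁻¹, _⟩) (ψ n) ?_
    show ((n : H) : G) = (g : G)⁻¹ * ((g : G) * ((n : H) : G) * (g : G)⁻¹) * ((g : G)⁻¹)⁻¹
    group
  have hξc : trIrr ψ ξ ∈ c := self_mem_blockOf hMm _
  have huniq : ∀ (χ : IrrCharacter H)
      (θ : IrrCharacter ((Subgroup.centralizer (P : Set G)).subgroupOf H)), θ ∈ c →
      classInner (fun n : (Subgroup.centralizer (P : Set G)).subgroupOf H => (χ : H → ℂ) n)
        (θ : _ → ℂ) ≠ 0 →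
      blockOf M (χ : H → ℂ) = blockOf M (θ₀ : H → ℂ) := by
    intro χ θ hθ hovχ
    rw [hce] at hθ
    obtain ⟨θ₁, hθ₁, rfl⟩ := hθ
    exact (block_eq_iff hM P hP H hH hCH θ₁ ξ χ θ₀ hovχ hov).mpr (blockOf_eq_of_mem hMm hθ₁)
  obtain ⟨g₀, hg₀⟩ := exists_defectClass hMm θ₀
  obtain ⟨S₀⟩ : Nonempty (Sylow p (Subgroup.centralizer ({g₀} : Set H))) := inferInstance
  have hD₀ : IsDefectGroup p M (blockOf M (θ₀ : H → ℂ))
      ((S₀ : Subgroup _).map (Subgroup.centralizer ({g₀} : Set H)).subtype) :=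
    ⟨g₀, hg₀, S₀, rfl⟩
  have hfong := fong ((Subgroup.centralizer (P : Set G)).subgroupOf H) hM c ⟨_, rfl⟩ hinv
    (blockOf M (θ₀ : H → ℂ)) ⟨θ₀, rfl⟩
    ⟨θ₀, self_mem_blockOf hMm θ₀, trIrr ψ ξ, hξc, hov⟩
    (by
      rintro B' ⟨χ₀, rfl⟩ ⟨χ, hχ, θ, hθ, hovχ⟩
      rw [← blockOf_eq_of_mem hMm hχ, huniq χ θ hθ hovχ])
    _ hD₀
  have c3 : blockDefect p c
      = blockDefect p (blockOf M (ξ : Subgroup.centralizer (P : Set G) → ℂ)) := by
    rw [hce]
    exact blockDefect_image_trIrr p ψ _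
  rw [← c3]
  exact hfong.2.2

end Crit

section CritMain

variable {G : Type u} [Group G] [Fintype G] {M : Ideal AlgInt}

/-- **A criterion for maximal Brauer pairs** via the canonical character. -/
theorem maximal_pair_crit {p : ℕ} [hp : Fact p.Prime] (hM : IsPModular p M) (Q : Subgroup G)
    (e : Set (IrrCharacter (Subgroup.centralizer (Q : Set G)))) (he : IsBrauerPair p M Q e) :
    (∃ B : Set (IrrCharacter G), IsMaximalBrauerPair p M B Q e) ↔
      ∃ θ ∈ e, (∀ z : Subgroup.centralizer (Q : Set G), (z : G) ∈ Q →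
          (θ : Subgroup.centralizer (Q : Set G) → ℂ) z
            = (θ : Subgroup.centralizer (Q : Set G) → ℂ) 1) ∧
        (charDegree (θ : Subgroup.centralizer (Q : Set G) → ℂ)).factorization p
          + (Nat.card ↥(Q ⊓ Subgroup.centralizer (Q : Set G))).factorization p
          = (Nat.card (Subgroup.centralizer (Q : Set G))).factorization p ∧
        (∀ g : G, g ∈ Subgroup.normalizer (Q : Set G) →
          StabilizesBlock (Subgroup.centralizer (Q : Set G)) e g →
          (∃ k : ℕ, orderOf g = p ^ k) → g ∈ Q ⊔ Subgroup.centralizer (Q : Set G)) := by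
  classical
  have hMm := hM.2.1
  obtain ⟨hQ, ξ, rfl⟩ := id he
  set H : Subgroup G := Q ⊔ Subgroup.centralizer (Q : Set G) with hH
  haveI : Fintype H := Fintype.ofFinite _
  haveI : Fintype (Subgroup.centralizer (Q : Set G)) := Fintype.ofFinite _
  haveI : Fintype ((Subgroup.centralizer (Q : Set G)).subgroupOf H) := Fintype.ofFinite _
  have hCH : Subgroup.centralizer (Q : Set G) ≤ H := le_sup_right
  have hQH : Q ≤ H := le_sup_left
  have hHN : H ≤ Subgroup.normalizer (Q : Set G) :=
    sup_le Subgroup.le_normalizer (Subgroup.centralizer_le_normalizer _)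
  have hNC := normalizer_le_normalizer_centralizer Q
  haveI hKn : ((Subgroup.centralizer (Q : Set G)).subgroupOf H).Normal :=
    (Subgroup.normal_subgroupOf_iff_le_normalizer hCH).mpr (hHN.trans hNC)
  haveI hQn : (Q.subgroupOf H).Normal :=
    (Subgroup.normal_subgroupOf_iff_le_normalizer hQH).mpr hHN
  have hQHp : IsPGroup p (Q.subgroupOf H) :=
    hQ.comap_of_injective H.subtype (Subgroup.subtype_injective _)
  obtain ⟨θ₀, hov⟩ := exists_over ((Subgroup.centralizer (Q : Set G)).subgroupOf H)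
    (trIrr (Subgroup.subgroupOfEquivOfLe hCH) ξ).2
  -- the central subgroup `Z(Q)` of `C_G(Q)`
  have hZc : (Q ⊓ Subgroup.centralizer (Q : Set G)).subgroupOf
      (Subgroup.centralizer (Q : Set G)) ≤ Subgroup.center (Subgroup.centralizer (Q : Set G)) := by
    intro n hn
    rw [Subgroup.mem_subgroupOf] at hn
    rw [Subgroup.mem_center_iff]
    intro g
    apply Subtype.ext
    exact (Subgroup.mem_centralizer_iff.mp g.2 (n : G) (Subgroup.mem_inf.mp hn).1).symm
  haveI hZn : ((Q ⊓ Subgroup.centralizer (Q : Set G)).subgroupOf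
      (Subgroup.centralizer (Q : Set G))).Normal :=
    Cfsg.Agent.Lib.Helper2_CentralDefect.normal_of_le_center' _ hZc
  have hZp : IsPGroup p ((Q ⊓ Subgroup.centralizer (Q : Set G)).subgroupOf
      (Subgroup.centralizer (Q : Set G))) :=
    (hQ.to_le inf_le_left).comap_of_injective _ (Subgroup.subtype_injective _)
  have hcardZ := card_inf_subgroupOf Q (Subgroup.centralizer (Q : Set G))
  have hci := Subgroup.card_mul_index ((Q ⊓ Subgroup.centralizer (Q : Set G)).subgroupOf
      (Subgroup.centralizer (Q : Set G)))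
  have hfac : (Nat.card (Subgroup.centralizer (Q : Set G))).factorization p
      = (Nat.card ↥(Q ⊓ Subgroup.centralizer (Q : Set G))).factorization p
        + ((Q ⊓ Subgroup.centralizer (Q : Set G)).subgroupOf
          (Subgroup.centralizer (Q : Set G))).index.factorization p := by
    rw [← hci, Nat.factorization_mul Nat.card_pos.ne' Subgroup.index_ne_zero_of_finite, hcardZ]
    rfl
  -- the stabilizer
  set T := stabSub (Subgroup.normalizer (Q : Set G)) (Subgroup.centralizer (Q : Set G)) hNC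
    (blockOf M (ξ : Subgroup.centralizer (Q : Set G) → ℂ)) with hTdef
  have hTe : ∀ y : G, y ∈ T ↔ y ∈ Subgroup.normalizer (Q : Set G) ∧
      StabilizesBlock (Subgroup.centralizer (Q : Set G))
        (blockOf M (ξ : Subgroup.centralizer (Q : Set G) → ℂ)) y :=
    mem_stabSub_iff Q _
  have hHT : H ≤ T := by
    intro x hx
    rw [hTe]
    exact ⟨hHN hx, stabilizes_of_mem_sup Q _ x hx⟩
  have hTN : T ≤ Subgroup.normalizer (Q : Set G) := fun y hy => ((hTe y).mp hy).1
  haveI hHn : (H.subgroupOf T).Normal :=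
    (Subgroup.normal_subgroupOf_iff_le_normalizer hHT).mpr
      (hTN.trans (normalizer_le_normalizer_sup Q H hH))
  constructor
  · rintro ⟨B, hmax⟩
    have hb := defect_of_cover hM B Q _ hmax H hQH hCH hHN ξ (self_mem_blockOf hMm ξ) θ₀ hov
    obtain ⟨g', hg'⟩ := exists_defectClass hMm ξ
    obtain ⟨S⟩ : Nonempty (Sylow p (Subgroup.centralizer
      ({g'} : Set (Subgroup.centralizer (Q : Set G))))) := inferInstance
    have hΔ : IsDefectGroup p M (blockOf M (ξ : Subgroup.centralizer (Q : Set G) → ℂ))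
        ((S : Subgroup _).map (Subgroup.centralizer
          ({g'} : Set (Subgroup.centralizer (Q : Set G)))).subtype) := ⟨g', hg', S, rfl⟩
    have hΔeq := defect_under hM Q hQ H hH hCH ξ θ₀ hov hb _ hΔ
    rw [hΔeq] at hΔ
    obtain ⟨θ, hθ, hθZ⟩ := exists_trivial_on_pSubgroup hM _ hZp ξ
    refine ⟨θ, hθ, ?_, ?_, ?_⟩
    · intro z hz
      exact hθZ z (Subgroup.mem_subgroupOf.mpr (Subgroup.mem_inf.mpr ⟨hz, z.2⟩))
    · have c1 := card_defectGroup hM ξ _ hΔ
      rw [hcardZ] at c1
      have hθ1 := apply_one_eq_charDegree θ.2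
      have hdvd : charDegree (θ : Subgroup.centralizer (Q : Set G) → ℂ)
          ∣ ((Q ⊓ Subgroup.centralizer (Q : Set G)).subgroupOf
            (Subgroup.centralizer (Q : Set G))).index :=
        Cfsg.Agent.Lib.Helper2_Ito.ito θ.2 _
          (fun a ha b _ => (Subgroup.mem_center_iff.mp (hZc ha) b).symm) _ hθ1.1
      have hle : (charDegree (θ : Subgroup.centralizer (Q : Set G) → ℂ)).factorization p
          ≤ ((Q ⊓ Subgroup.centralizer (Q : Set G)).subgroupOf
            (Subgroup.centralizer (Q : Set G))).index.factorization p :=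
        (Nat.factorization_le_iff_dvd hθ1.2.ne' Subgroup.index_ne_zero_of_finite).mpr hdvd p
      have hz : (Nat.card ↥(Q ⊓ Subgroup.centralizer (Q : Set G))).factorization p
          = blockDefect p (blockOf M (ξ : Subgroup.centralizer (Q : Set G) → ℂ)) := by
        rw [c1, Nat.Prime.factorization_pow hp.out, Finsupp.single_eq_same]
      have hd : blockDefect p (blockOf M (ξ : Subgroup.centralizer (Q : Set G) → ℂ))
          = (Nat.card (Subgroup.centralizer (Q : Set G))).factorization p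
            - sInf ((fun χ : IrrCharacter (Subgroup.centralizer (Q : Set G)) =>
              (charDegree (χ : Subgroup.centralizer (Q : Set G) → ℂ)).factorization p) ''
                blockOf M (ξ : Subgroup.centralizer (Q : Set G) → ℂ)) := rfl
      have hs : sInf ((fun χ : IrrCharacter (Subgroup.centralizer (Q : Set G)) =>
              (charDegree (χ : Subgroup.centralizer (Q : Set G) → ℂ)).factorization p) ''
                blockOf M (ξ : Subgroup.centralizer (Q : Set G) → ℂ))
          ≤ (charDegree (θ : Subgroup.centralizer (Q : Set G) → ℂ)).factorization p :=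
        Nat.sInf_le ⟨θ, hθ, rfl⟩
      omega
    · rintro g hgN hgst ⟨k, hk⟩
      have hidx := index_stab_sup hM B Q _ hmax T hTe
      have hsup : Q.subgroupOf T ⊔ (Subgroup.centralizer (Q : Set G)).subgroupOf T
          = H.subgroupOf T := by
        rw [hH, Subgroup.subgroupOf_sup (hQH.trans hHT) (hCH.trans hHT)]
      rw [hsup] at hidx
      have hgT : g ∈ T := (hTe g).mpr ⟨hgN, hgst⟩
      have hk' : (⟨g, hgT⟩ : T) ^ (p ^ k) = 1 := by
        apply Subtype.ext
        simp only [Subgroup.coe_pow, Subgroup.coe_one]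
        rw [← hk]
        exact pow_orderOf_eq_one g
      have := mem_of_pElement_of_index_coprime (H.subgroupOf T) hidx ⟨g, hgT⟩ k hk'
      exact Subgroup.mem_subgroupOf.mp this
  · rintro ⟨θ, hθ, -, hdeg, hpel⟩
    have hbl : blockOf M (θ : Subgroup.centralizer (Q : Set G) → ℂ)
        = blockOf M (ξ : Subgroup.centralizer (Q : Set G) → ℂ) := blockOf_eq_of_mem hMm hθ
    have hdeg' : (charDegree (θ : Subgroup.centralizer (Q : Set G) → ℂ)).factorization p
        = ((Q ⊓ Subgroup.centralizer (Q : Set G)).subgroupOf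
          (Subgroup.centralizer (Q : Set G))).index.factorization p := by
      omega
    have hZdef := (Cfsg.Agent.Lib.Helper2_CentralDefect2.central_defect hM _ hZp hZc θ hdeg').1
    rw [hbl] at hZdef
    obtain ⟨B, hpair, -⟩ := existsUnique_block_of_brauerPair hM Q _ he
    have hind := induced_of_pair hM Q hQ H hH hCH ξ θ₀ hov B hpair
    have hbdef : IsDefectGroup p M (blockOf M (θ₀ : H → ℂ)) (Q.subgroupOf H) := by
      obtain ⟨g₀, hg₀⟩ := exists_defectClass hMm θ₀
      obtain ⟨S₀⟩ : Nonempty (Sylow p (Subgroup.centralizer ({g₀} : Set H))) := inferInstance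
      have hD₀ : IsDefectGroup p M (blockOf M (θ₀ : H → ℂ))
          ((S₀ : Subgroup _).map (Subgroup.centralizer ({g₀} : Set H)).subtype) :=
        ⟨g₀, hg₀, S₀, rfl⟩
      have hdef := defect_sum hM Q hQ H hH hCH ξ θ₀ hov
      have cZ := card_defectGroup hM ξ _ hZdef
      have cD := card_defectGroup hM θ₀ _ hD₀
      have hidxK := index_centralizer_sup Q H hH hCH hQH
      obtain ⟨k, hk⟩ := IsPGroup.iff_card.mp hQ
      have hdvd : ((Subgroup.centralizer (Q : Set G)).subgroupOf H).index ∣ p ^ k := by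
        rw [← hk, ← hidxK]
        exact dvd_mul_left _ _
      obtain ⟨j, hjk, hj⟩ := (Nat.dvd_prime_pow hp.out).mp hdvd
      have hjf : ((Subgroup.centralizer (Q : Set G)).subgroupOf H).index.factorization p = j := by
        rw [hj, Nat.Prime.factorization_pow hp.out, Finsupp.single_eq_same]
      have hcardD₀ : Nat.card ((S₀ : Subgroup _).map
          (Subgroup.centralizer ({g₀} : Set H)).subtype) = Nat.card Q := by
        rw [cD, hdef, hjf, pow_add, ← cZ, hcardZ, ← hj]
        exact hidxK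
      have hQD₀ := normal_pSubgroup_le_defectGroup hM (Q.subgroupOf H) hQHp θ₀ _ hD₀
      have hcQ : Nat.card (Q.subgroupOf H) = Nat.card Q :=
        Nat.card_congr (Subgroup.subgroupOfEquivOfLe hQH).toEquiv
      have heq : Q.subgroupOf H = (S₀ : Subgroup _).map
          (Subgroup.centralizer ({g₀} : Set H)).subtype :=
        Subgroup.eq_of_le_of_card_ge hQD₀ (by rw [hcQ, hcardD₀])
      rw [heq]
      exact hD₀
    have hTb : ∀ g : G, g ∈ T ↔ (g ∈ Subgroup.normalizer (Q : Set G) ∧
        ∀ θ ∈ blockOf M (θ₀ : H → ℂ), ∀ θ' : IrrCharacter H,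
          (∀ h h' : H, (h' : G) = g * h * g⁻¹ → (θ' : H → ℂ) h' = (θ : H → ℂ) h) →
          θ' ∈ blockOf M (θ₀ : H → ℂ)) := by
      intro g
      rw [hTe g]
      constructor
      · rintro ⟨hy, h⟩
        exact ⟨hy, (stab_iff hM Q hQ H hH hCH ξ θ₀ hov g hy).mp h⟩
      · rintro ⟨hy, h⟩
        exact ⟨hy, (stab_iff hM Q hQ H hH hCH ξ θ₀ hov g hy).mpr h⟩
    have hcrit := inertial_index hM Q hQ H hH (blockOf M (θ₀ : H → ℂ)) ⟨θ₀, rfl⟩ hbdef B hind
      T hTb
    have hidx : ¬ p ∣ H.relIndex T := by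
      obtain ⟨S⟩ : Nonempty (Sylow p T) := inferInstance
      have hSH : (S : Subgroup T) ≤ H.subgroupOf T := by
        intro s hs
        rw [Subgroup.mem_subgroupOf]
        have hsT := (hTe (s : G)).mp s.2
        obtain ⟨k, hk⟩ := (IsPGroup.iff_orderOf.mp S.isPGroup') ⟨s, hs⟩
        apply hpel (s : G) hsT.1 hsT.2 ⟨k, ?_⟩
        have e1 : orderOf ((s : T) : G) = orderOf s := Subgroup.orderOf_coe s
        have e2 : orderOf (((⟨s, hs⟩ : (S : Subgroup T)) : T))
            = orderOf (⟨s, hs⟩ : (S : Subgroup T)) := Subgroup.orderOf_coe _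
        rw [e1, ← hk, ← e2]
      intro hdiv
      have h1 : (H.subgroupOf T).index ∣ (S : Subgroup T).index := Subgroup.index_dvd_of_le hSH
      exact S.not_dvd_index (hdiv.trans h1)
    have hdefB := hcrit.mpr hidx
    obtain ⟨D, g, hmax', hle'⟩ := exists_maximal_above (p := p) (M := M) B _ Q _ hpair rfl
    have hD := maximal_pair_defect hM B D g hmax'
    obtain ⟨χ₁, hχ₁⟩ := hpair.2.1
    subst hχ₁
    have c1 := card_defectGroup hM χ₁ D hD
    have c2 := card_defectGroup hM χ₁ Q hdefB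
    have hQD : Q ≤ D := le_fst hle'
    have hDQ : Q = D := Subgroup.eq_of_le_of_card_ge hQD (by rw [c1, c2])
    subst hDQ
    have hge : blockOf M (ξ : Subgroup.centralizer (Q : Set G) → ℂ) = g :=
      unique_le hM _ Q g hmax'.1.1 Q _ g rfl hle' Relation.ReflTransGen.refl
    rw [← hge] at hmax'
    exact ⟨_, hmax'⟩

end CritMain

end Cfsg.Agent.Lib.Helper2_MaxPairCrit
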