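import Mathlib
import Cfsg.Prelude.Def_Characters
import Cfsg.Prelude.Def_Blocks
import Cfsg.Prelude.Def_BlockRank
import Cfsg.Prelude.Def_BlockLocal
import Cfsg.Prelude.Def_BrauerPairs
import Cfsg.Agent.Lib.Helper2_ClassFn
import Cfsg.Agent.Lib.Helper2_CharBasic
import Cfsg.Agent.Lib.Helper2_CharOrtho
import Cfsg.Agent.Lib.Helper2_Clifford
import Cfsg.Agent.Lib.Helper2_CharMore
import Cfsg.Agent.Lib.Helper2_CharDeg
import Cfsg.Agent.Lib.Helper2_CharInd
import Cfsg.Agent.Lib.Helper2_CharExtra
import Cfsg.Agent.Lib.Helper2_CharInt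
import Cfsg.Agent.Lib.Helper2_CharValues
import Cfsg.Agent.Lib.Helper2_CharSum
import Cfsg.Agent.Lib.Helper2_CharComplete
import Cfsg.Agent.Lib.Helper2_CharTable
import Cfsg.Agent.Lib.Helper2_CharCentral
import Cfsg.Agent.Lib.Helper2_ModM
import Cfsg.Agent.Lib.Helper2_Blocks
import Cfsg.Agent.Lib.Helper2_BlockOrtho
import Cfsg.Agent.Lib.Helper2_BlockMore
import Cfsg.Agent.Lib.Helper2_DefectGroup
import Cfsg.Agent.Lib.Helper2_DefectPCore
import Cfsg.Agent.Lib.Helper2_MinMax
import Cfsg.Agent.Lib.Helper2_InducedBlock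
import Cfsg.Agent.Lib.Helper2_BrauerMap
import Cfsg.Agent.Lib.Helper2_InducedDefect
import Cfsg.Agent.Lib.Helper2_BrauerFirst
import Cfsg.Agent.Lib.Helper2_BrauerConverse
import Cfsg.Agent.Lib.Helper2_SylowConj
import Cfsg.Agent.Lib.Helper2_BlockCover
import Cfsg.Agent.Lib.Helper2_BlockConj
import Cfsg.Agent.Lib.Helper2_FirstMain
import Cfsg.Agent.Lib.Helper2_BlockNormal
import Cfsg.Agent.Lib.Helper2_BlockCount
import Cfsg.Agent.Lib.Helper2_BlockCount2
import Cfsg.Agent.Lib.Helper2_BlockKer
import Cfsg.Agent.Lib.Helper2_PRegCount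
import Cfsg.Agent.Lib.Helper2_ExtFirstMain
import Cfsg.Agent.Lib.Helper2_ThirdMain
import Cfsg.Agent.Lib.Helper2_Fong
import Cfsg.Agent.Lib.Helper2_BrauerPairs
import Cfsg.Agent.Lib.Helper2_BrauerInv
import Cfsg.Agent.Lib.Helper2_Conj
import Cfsg.Agent.Lib.Helper2_BrauerChain
import Cfsg.Agent.Lib.Helper2_BrauerPrincipal
import Cfsg.Agent.Lib.Helper2_BrauerMax
import Cfsg.Agent.Lib.Helper2_BrauerConjMax
import Cfsg.Agent.Lib.Helper2_BrauerLocal
import Cfsg.Agent.Lib.Helper2_BrauerStab
import Cfsg.Agent.Lib.Helper2_BlockTrace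
import Cfsg.Agent.Lib.Helper2_BlockFusion
import Cfsg.Agent.Lib.Helper2_AbelianDefect
import Cfsg.Agent.Lib.Helper2_AbelianNilpotent
import Cfsg.Agent.Lib.Helper2_CentricNormal
import Cfsg.Agent.Lib.Helper2_InertialIndex
import Cfsg.Agent.Lib.Helper2_Ito
import Cfsg.Agent.Lib.Helper2_MaxPairCrit
import Cfsg.Agent.Lib.Helper2_CentralDefect
import Cfsg.Agent.Lib.Helper2_CentralDefect2


set_option autoImplicit false

/-!
# The Brauer correspondence for subgroups containing the normalizer
-/

namespace Cfsg.Agent.Lib.Helper2_BrauerCorrH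

open Cfsg
open Cfsg.Agent.Lib.Helper2_ClassFn
open Cfsg.Agent.Lib.Helper2_CharBasic
open Cfsg.Agent.Lib.Helper2_CharOrtho
open Cfsg.Agent.Lib.Helper2_Clifford
open Cfsg.Agent.Lib.Helper2_CharMore
open Cfsg.Agent.Lib.Helper2_CharDeg
open Cfsg.Agent.Lib.Helper2_CharInd
open Cfsg.Agent.Lib.Helper2_CharExtra
open Cfsg.Agent.Lib.Helper2_CharValues
open Cfsg.Agent.Lib.Helper2_CharSum
open Cfsg.Agent.Lib.Helper2_CharComplete
open Cfsg.Agent.Lib.Helper2_CharTable
open Cfsg.Agent.Lib.Helper2_CharCentral
open Cfsg.Agent.Lib.Helper2_ModM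
open Cfsg.Agent.Lib.Helper2_Blocks
open Cfsg.Agent.Lib.Helper2_BlockOrtho
open Cfsg.Agent.Lib.Helper2_BlockMore
open Cfsg.Agent.Lib.Helper2_DefectGroup
open Cfsg.Agent.Lib.Helper2_DefectPCore
open Cfsg.Agent.Lib.Helper2_MinMax
open Cfsg.Agent.Lib.Helper2_InducedBlock
open Cfsg.Agent.Lib.Helper2_BrauerMap
open Cfsg.Agent.Lib.Helper2_InducedDefect
open Cfsg.Agent.Lib.Helper2_BrauerFirst
open Cfsg.Agent.Lib.Helper2_BrauerConverse
open Cfsg.Agent.Lib.Helper2_SylowConj
open Cfsg.Agent.Lib.Helper2_BlockCover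
open Cfsg.Agent.Lib.Helper2_BlockConj
open Cfsg.Agent.Lib.Helper2_FirstMain
open Cfsg.Agent.Lib.Helper2_BlockNormal
open Cfsg.Agent.Lib.Helper2_BlockCount
open Cfsg.Agent.Lib.Helper2_BlockCount2
open Cfsg.Agent.Lib.Helper2_BlockKer
open Cfsg.Agent.Lib.Helper2_PRegCount
open Cfsg.Agent.Lib.Helper2_ExtFirstMain
open Cfsg.Agent.Lib.Helper2_ThirdMain
open Cfsg.Agent.Lib.Helper2_Fong
open Cfsg.Agent.Lib.Helper2_BrauerPairs
open Cfsg.Agent.Lib.Helper2_BrauerInv
open Cfsg.Agent.Lib.Helper2_BrauerChain
open Cfsg.Agent.Lib.Helper2_BrauerPrincipal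
open Cfsg.Agent.Lib.Helper2_BrauerMax
open Cfsg.Agent.Lib.Helper2_BrauerConjMax
open Cfsg.Agent.Lib.Helper2_BrauerLocal
open Cfsg.Agent.Lib.Helper2_BrauerStab
open Cfsg.Agent.Lib.Helper2_BlockTrace
open Cfsg.Agent.Lib.Helper2_BlockFusion
open Cfsg.Agent.Lib.Helper2_AbelianDefect
open Cfsg.Agent.Lib.Helper2_AbelianNilpotent
open Cfsg.Agent.Lib.Helper2_CentricNormal
open Cfsg.Agent.Lib.Helper2_InertialIndex
open Cfsg.Agent.Lib.Helper2_MaxPairCrit
open Cfsg.Agent.Lib.Helper2_Ito
open Cfsg.Agent.Lib.Helper2_CliffordCorr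
open scoped ComplexConjugate

universe u


section ConvAlg

variable {K : Type u} [Group K] [Fintype K] {M : Ideal AlgInt}

theorem conv_assoc' (a b c : K → ℂ) : conv (conv a b) c = conv a (conv b c) := by
  funext x
  unfold conv
  simp_rw [Finset.sum_mul, Finset.mul_sum]
  rw [Finset.sum_comm]
  refine Finset.sum_congr rfl fun t _ => ?_
  refine Fintype.sum_equiv (Equiv.mulLeft t⁻¹) _ _ fun y => ?_
  simp only [Equiv.coe_mulLeft]
  have : (t⁻¹ * y)⁻¹ * (t⁻¹ * x) = y⁻¹ * x := by group
  rw [this, mul_assoc]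

theorem conv_comm_of_class {a : K → ℂ} (ha : IsClassFunction K a) (b : K → ℂ) :
    conv a b = conv b a := by
  funext x
  unfold conv
  refine Fintype.sum_equiv ((Equiv.inv K).trans (Equiv.mulRight x)) _ _ fun y => ?_
  simp only [Equiv.trans_apply, Equiv.inv_apply, Equiv.coe_mulRight]
  have h1 : (y⁻¹ * x)⁻¹ * x = x⁻¹ * y * x⁻¹⁻¹ := by group
  rw [h1, ha y x⁻¹, mul_comm]

theorem conv_sub_left (a a' b : K → ℂ) (x : K) :
    conv (fun y => a y - a' y) b x = conv a b x - conv a' b x := by
  unfold conv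
  rw [← Finset.sum_sub_distrib]
  exact Finset.sum_congr rfl fun y _ => by ring

theorem conv_sub_right (a b b' : K → ℂ) (x : K) :
    conv a (fun y => b y - b' y) x = conv a b x - conv a b' x := by
  unfold conv
  rw [← Finset.sum_sub_distrib]
  exact Finset.sum_congr rfl fun y _ => by ring

theorem conv_memLocalIdeal_left (hM : M.IsMaximal) {w₁ w₂ : K → ℂ}
    (h₁ : ∀ x, MemLocalIdeal M (w₁ x)) (h₂ : ∀ x, MemLocalRing M (w₂ x)) (x : K) :
    MemLocalIdeal M (conv w₁ w₂ x) := by
  unfold conv
  refine memLocalIdeal_sum hM _ _ fun y _ => ?_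
  rw [mul_comm]
  exact memLocalIdeal_mul_ring hM (h₁ y) (h₂ _)

theorem isClassFunction_sub {a b : K → ℂ} (ha : IsClassFunction K a) (hb : IsClassFunction K b) :
    IsClassFunction K (fun x => a x - b x) := by
  intro g h
  show a _ - b _ = a _ - b _
  rw [ha g h, hb g h]

/-- Half of the comparison of idempotents modulo the ideal. -/
theorem idem_half (hM : M.IsMaximal) {z w : K → ℂ} (hz : IsClassFunction K z)
    (hw : IsClassFunction K w) (hzR : ∀ x, MemLocalRing M (z x))
    (hwR : ∀ x, MemLocalRing M (w x))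
    (hzi : ∀ x, MemLocalIdeal M (conv z z x - z x))
    (hwi : ∀ x, MemLocalIdeal M (conv w w x - w x))
    (hom : ∀ ξ, IsIrrCharacter K ξ → MemLocalIdeal M (om ξ z - om ξ w)) (x : K) :
    MemLocalIdeal M (z x - conv z w x) := by
  set zw := conv z w with hzw
  set A := conv z z with hA
  set Bw := conv w w with hBw
  have hzwcf : IsClassFunction K zw := conv_isClassFunction hz hw
  have hzwR : ∀ x, MemLocalRing M (zw x) := conv_memLocalRing hM hzR hwR
  have hAcf : IsClassFunction K A := conv_isClassFunction hz hz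
  have hAR : ∀ x, MemLocalRing M (A x) := conv_memLocalRing hM hzR hzR
  have hBwR : ∀ x, MemLocalRing M (Bw x) := conv_memLocalRing hM hwR hwR
  set u : K → ℂ := fun x => z x - zw x with hu
  have hucf : IsClassFunction K u := isClassFunction_sub hz hzwcf
  have huR : ∀ x, MemLocalRing M (u x) := fun x => memLocalRing_sub hM (hzR x) (hzwR x)
  -- identities
  have e1 : conv z zw = conv A w := (conv_assoc' z z w).symm
  have e2 : conv zw z = conv A w := by rw [conv_comm_of_class hzwcf z, e1]
  have e3 : conv zw zw = conv A Bw := by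
    have s1 : conv w zw = conv z Bw := by
      rw [hzw, ← conv_assoc', conv_comm_of_class hw z, conv_assoc']
    rw [hzw, conv_assoc' z w (conv z w), ← hzw, s1, ← conv_assoc']
  have hidem : ∀ x, MemLocalIdeal M (conv u u x - u x) := by
    intro x
    have h1 : conv u u x = A x - conv A w x - conv A w x + conv A Bw x := by
      rw [hu, conv_sub_left, conv_sub_right, conv_sub_right, e1, e2, e3]
      ring
    have d1 : MemLocalIdeal M (A x - z x) := hzi x
    have d2 : MemLocalIdeal M (conv A w x - zw x) := by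
      rw [hzw, ← conv_sub_left]
      exact conv_memLocalIdeal_left hM hzi hwR x
    have d3 : MemLocalIdeal M (conv A Bw x - zw x) := by
      have t1 : MemLocalIdeal M (conv A Bw x - conv z Bw x) := by
        rw [← conv_sub_left]
        exact conv_memLocalIdeal_left hM hzi hBwR x
      have t2 : MemLocalIdeal M (conv z Bw x - conv z w x) := by
        rw [← conv_sub_right]
        exact conv_memLocalIdeal_right hM hzR hwi x
      have := memLocalIdeal_add hM t1 t2
      rwa [sub_add_sub_cancel] at this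
    have e : conv u u x - u x
        = (A x - z x) - (conv A w x - zw x) - (conv A w x - zw x) + (conv A Bw x - zw x) := by
      rw [h1]; ring
    rw [e]
    exact memLocalIdeal_add hM (memLocalIdeal_sub hM (memLocalIdeal_sub hM d1 d2) d2) d3
  have homu : ∀ ξ, IsIrrCharacter K ξ → MemLocalIdeal M (om ξ u) := by
    intro ξ hξ
    have h1 : om ξ u = om ξ z - om ξ z * om ξ w := by
      rw [hu, om_sub, hzw, om_conv hξ z w hw]
    have h2 : MemLocalIdeal M (om ξ z * om ξ z - om ξ z) := by
      have := memLocalIdeal_om hM hξ (isClassFunction_sub hAcf hz) hzi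
      rwa [om_sub, hA, om_conv hξ z z hz] at this
    have h3 := hom ξ hξ
    have hzRing : MemLocalRing M (om ξ z) := memLocalRing_om hM hξ hz hzR
    have h4 : MemLocalIdeal M (om ξ z * (om ξ z - om ξ w)) := memLocalIdeal_mul_ring hM h3 hzRing
    have e : om ξ z - om ξ z * om ξ w
        = om ξ z * (om ξ z - om ξ w) - (om ξ z * om ξ z - om ξ z) := by ring
    rw [h1, e]
    exact memLocalIdeal_sub hM h4 h2
  exact memLocalIdeal_of_idem_of_om hM hucf huR hidem homu x

/-- Two idempotents modulo the ideal with congruent central character values are congruent. -/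
theorem idem_congr (hM : M.IsMaximal) {z w : K → ℂ} (hz : IsClassFunction K z)
    (hw : IsClassFunction K w) (hzR : ∀ x, MemLocalRing M (z x))
    (hwR : ∀ x, MemLocalRing M (w x))
    (hzi : ∀ x, MemLocalIdeal M (conv z z x - z x))
    (hwi : ∀ x, MemLocalIdeal M (conv w w x - w x))
    (hom : ∀ ξ, IsIrrCharacter K ξ → MemLocalIdeal M (om ξ z - om ξ w)) (x : K) :
    MemLocalIdeal M (z x - w x) := by
  have h1 := idem_half hM hz hw hzR hwR hzi hwi hom x
  have hom' : ∀ ξ, IsIrrCharacter K ξ → MemLocalIdeal M (om ξ w - om ξ z) := by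
    intro ξ hξ
    have := memLocalIdeal_neg hM (hom ξ hξ)
    rwa [neg_sub] at this
  have h2 := idem_half hM hw hz hwR hzR hwi hzi hom' x
  rw [conv_comm_of_class hw z] at h2
  have := memLocalIdeal_sub hM h1 h2
  rwa [sub_sub_sub_cancel_right] at this

/-- The central character value of an idempotent modulo the ideal is `0` or `1` modulo the
ideal. -/
theorem om_idem_dichotomy (hM : M.IsMaximal) {z : K → ℂ} (hz : IsClassFunction K z)
    (hzR : ∀ x, MemLocalRing M (z x))
    (hzi : ∀ x, MemLocalIdeal M (conv z z x - z x)) {ξ : K → ℂ} (hξ : IsIrrCharacter K ξ) :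
    MemLocalIdeal M (om ξ z) ∨ MemLocalIdeal M (om ξ z - 1) := by
  by_contra hcon
  push Not at hcon
  have h2 : MemLocalIdeal M (om ξ z * om ξ z - om ξ z) := by
    have := memLocalIdeal_om hM hξ (isClassFunction_sub (conv_isClassFunction hz hz) hz) hzi
    rwa [om_sub, om_conv hξ z z hz] at this
  have hzRing : MemLocalRing M (om ξ z) := memLocalRing_om hM hξ hz hzR
  have := not_memLocalIdeal_mul hM hzRing hcon.1 hcon.2
  apply this
  have e : om ξ z * (om ξ z - 1) = om ξ z * om ξ z - om ξ z := by ring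
  rw [e]; exact h2

end ConvAlg


section Transport

variable {K₁ K₂ : Type u} [Group K₁] [Group K₂] [Fintype K₁] [Fintype K₂]

theorem om_trIrr (κ : K₁ ≃* K₂) (ξ : IrrCharacter K₂) (f : K₂ → ℂ) :
    om (trIrr κ ξ : K₁ → ℂ) (fun k => f (κ k)) = om (ξ : K₂ → ℂ) f := by
  unfold om
  rw [trIrr_apply, map_one]
  congr 1
  exact Fintype.sum_equiv κ.toEquiv _ _ fun k => rfl

theorem conv_comp_equiv (κ : K₁ ≃* K₂) (f g : K₂ → ℂ) (k : K₁) :
    conv (fun y => f (κ y)) (fun y => g (κ y)) k = conv f g (κ k) := by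
  unfold conv
  refine Fintype.sum_equiv κ.toEquiv _ _ fun y => ?_
  show f (κ y) * g (κ (y⁻¹ * k)) = f (κ y) * g ((κ y)⁻¹ * κ k)
  rw [map_mul, map_inv]

end Transport

section General

variable {G : Type u} [Group G] [Fintype G] {M : Ideal AlgInt}

theorem exists_pair_of_defect {p : ℕ} [hp : Fact p.Prime] (hM : IsPModular p M)
    (B : Set (IrrCharacter G)) (hB : IsPBlock M B) (P : Subgroup G)
    (hPd : IsDefectGroup p M B P) :
    ∃ e : Set (IrrCharacter (Subgroup.centralizer (P : Set G))), IsBrauerPairOf p M B P e := by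
  classical
  have hMm := hM.2.1
  obtain ⟨χ₀, rfl⟩ := hB
  have hPp : IsPGroup p P := isPGroup_of_isDefectGroup hPd
  set H₀ : Subgroup G := P ⊔ Subgroup.centralizer (P : Set G) with hH₀
  have hCH : Subgroup.centralizer (P : Set G) ≤ H₀ := le_sup_right
  have hHN : H₀ ≤ Subgroup.normalizer (P : Set G) :=
    sup_le Subgroup.le_normalizer (Subgroup.centralizer_le_normalizer _)
  haveI : Fintype H₀ := Fintype.ofFinite _
  haveI : Fintype (Subgroup.centralizer (P : Set G)) := Fintype.ofFinite _
  haveI : Fintype ((Subgroup.centralizer (P : Set G)).subgroupOf H₀) := Fintype.ofFinite _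
  obtain ⟨θ₀, hind, _⟩ := exists_induced_with_defect hM P H₀ le_sup_left hCH hHN χ₀ hPd
  obtain ⟨θ, hθ⟩ := exists_under ((Subgroup.centralizer (P : Set G)).subgroupOf H₀) θ₀.2
  set ξ : IrrCharacter (Subgroup.centralizer (P : Set G)) :=
    trIrr (Subgroup.subgroupOfEquivOfLe hCH).symm θ with hξ
  refine ⟨blockOf M (ξ : Subgroup.centralizer (P : Set G) → ℂ), ?_⟩
  refine pair_of_induced hM P hPp H₀ rfl hCH ξ θ₀ ?_ _ hind
  have : (fun k => (ξ : Subgroup.centralizer (P : Set G) → ℂ)
      (Subgroup.subgroupOfEquivOfLe hCH k)) = (θ : _ → ℂ) := by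
    funext k
    rw [hξ, trIrr_apply, MulEquiv.symm_apply_apply]
  rw [this]
  exact hθ

theorem maximal_of_pair_defect {p : ℕ} [hp : Fact p.Prime] (hM : IsPModular p M)
    (B : Set (IrrCharacter G)) (P : Subgroup G) (hPD : IsDefectGroup p M B P)
    (e : Set (IrrCharacter (Subgroup.centralizer (P : Set G))))
    (hBe : IsBrauerPairOf p M B P e) :
    IsMaximalBrauerPair p M B P e := by
  classical
  refine ⟨hBe, ?_⟩
  intro R g hRg hle
  have hPR : P ≤ R := le_fst hle
  obtain ⟨D, e', hmax, hle'⟩ := exists_maximal_above (p := p) (M := M) B _ R g hRg rfl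
  have hRD : R ≤ D := le_fst hle'
  have hD : IsDefectGroup p M B D := maximal_pair_defect hM B D e' hmax
  obtain ⟨χ', hBeq⟩ := hBe.2.1
  have hcD : Nat.card D = p ^ blockDefect p B := by
    rw [hBeq] at hD ⊢
    exact card_defectGroup hM χ' D hD
  have hcP : Nat.card P = p ^ blockDefect p B := by
    rw [hBeq] at hPD ⊢
    exact card_defectGroup hM χ' P hPD
  have hPD' : P = D := Subgroup.eq_of_le_of_card_ge (hPR.trans hRD) (by rw [hcD, hcP])
  exact le_antisymm (by rw [hPD']; exact hRD) hPR

theorem pair_cjSet {p : ℕ} [hp : Fact p.Prime] (hM : IsPModular p M)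
    (B : Set (IrrCharacter G)) (P : Subgroup G)
    (e : Set (IrrCharacter (Subgroup.centralizer (P : Set G))))
    (hBe : IsBrauerPairOf p M B P e) (n : Subgroup.normalizer (P : Set G)) :
    IsBrauerPairOf p M B P
      (cjSet (Subgroup.normalizer (P : Set G)) (Subgroup.centralizer (P : Set G))
        (normalizer_le_normalizer_centralizer P) n e) := by
  classical
  haveI : Fintype (Subgroup.centralizer (P : Set G)) := Fintype.ofFinite _
  obtain ⟨⟨hPp, ⟨ξ₀, rfl⟩⟩, hB, hom⟩ := hBe
  refine ⟨⟨hPp, ?_⟩, hB, ?_⟩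
  · rw [cjSet_blockOf]
    exact ⟨_, rfl⟩
  · rintro _ ⟨ξ, hξ, rfl⟩
    have h1 := hom ξ hξ
    rw [brauerOmega_eq_om] at h1 ⊢
    rw [om_cjIrr]
    have : (fun h : Subgroup.centralizer (P : Set G) =>
        blockCoeff B ((cj (Subgroup.normalizer (P : Set G)) (Subgroup.centralizer (P : Set G))
          (normalizer_le_normalizer_centralizer P) n h : Subgroup.centralizer (P : Set G)) : G))
        = fun h : Subgroup.centralizer (P : Set G) => blockCoeff B (h : G) := by
      funext h
      rw [cj_coe]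
      exact blockCoeff_isClassFunction B (h : G) (n : G)
    rw [this]
    exact h1

end General


section HSetup

variable {G : Type u} [Group G] [Fintype G] {M : Ideal AlgInt}
variable (P H : Subgroup G) (hPH : P ≤ H) (hKH : Subgroup.centralizer (P : Set G) ≤ H)

omit [Fintype G] in
include hPH in
theorem coe_mem_centralizer
    (c : Subgroup.centralizer ((P.subgroupOf H : Subgroup H) : Set H)) :
    ((c : H) : G) ∈ Subgroup.centralizer (P : Set G) := by
  rw [Subgroup.mem_centralizer_iff]
  intro y hy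
  have := Subgroup.mem_centralizer_iff.mp c.2 ⟨y, hPH hy⟩ (Subgroup.mem_subgroupOf.mpr hy)
  exact congrArg Subtype.val this

omit [Fintype G] in
theorem mk_mem_centralizer (c : Subgroup.centralizer (P : Set G)) :
    (⟨(c : G), hKH c.2⟩ : H)
      ∈ Subgroup.centralizer ((P.subgroupOf H : Subgroup H) : Set H) := by
  rw [Subgroup.mem_centralizer_iff]
  intro y hy
  apply Subtype.ext
  exact Subgroup.mem_centralizer_iff.mp c.2 (y : G) (Subgroup.mem_subgroupOf.mp hy)

/-- The centralizer of `P` inside `H` is the centralizer of `P` in `G`, when the latter lies in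
`H`. -/
def cenIso : Subgroup.centralizer ((P.subgroupOf H : Subgroup H) : Set H)
    ≃* Subgroup.centralizer (P : Set G) where
  toFun c := ⟨((c : H) : G), coe_mem_centralizer P H hPH c⟩
  invFun c := ⟨⟨(c : G), hKH c.2⟩, mk_mem_centralizer P H hKH c⟩
  left_inv _ := rfl
  right_inv _ := rfl
  map_mul' _ _ := rfl

omit [Fintype G] in
theorem cenIso_coe (c : Subgroup.centralizer ((P.subgroupOf H : Subgroup H) : Set H)) :
    ((cenIso P H hPH hKH c : Subgroup.centralizer (P : Set G)) : G) = ((c : H) : G) := rfl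

omit [Fintype G] in
theorem cenIso_symm_coe (c : Subgroup.centralizer (P : Set G)) :
    ((((cenIso P H hPH hKH).symm c :
      Subgroup.centralizer ((P.subgroupOf H : Subgroup H) : Set H)) : H) : G) = (c : G) := rfl

omit [Fintype G] in
include hPH in
theorem coe_mem_normalizer (n' : H)
    (hn' : n' ∈ Subgroup.normalizer ((P.subgroupOf H : Subgroup H) : Set H)) :
    (n' : G) ∈ Subgroup.normalizer (P : Set G) := by
  rw [Subgroup.mem_normalizer_iff] at hn' ⊢
  intro h
  constructor
  · intro hh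
    exact Subgroup.mem_subgroupOf.mp
      ((hn' ⟨h, hPH hh⟩).mp (Subgroup.mem_subgroupOf.mpr hh))
  · intro hh
    have hhH : h ∈ H := by
      have h1 : (n' : G) * h * (n' : G)⁻¹ ∈ H := hPH hh
      have : h = (n' : G)⁻¹ * ((n' : G) * h * (n' : G)⁻¹) * (n' : G) := by group
      rw [this]
      exact H.mul_mem (H.mul_mem (H.inv_mem n'.2) h1) n'.2
    exact Subgroup.mem_subgroupOf.mp
      ((hn' ⟨h, hhH⟩).mpr (Subgroup.mem_subgroupOf.mpr hh))

omit [Fintype G] in
theorem mk_mem_normalizer (n : G) (hn : n ∈ Subgroup.normalizer (P : Set G)) (hnH : n ∈ H) :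
    (⟨n, hnH⟩ : H) ∈ Subgroup.normalizer ((P.subgroupOf H : Subgroup H) : Set H) := by
  rw [Subgroup.mem_normalizer_iff] at hn ⊢
  intro h
  exact hn (h : G)

variable [Fintype H]

theorem trIrr_cjIrr (n : Subgroup.normalizer (P : Set G))
    (n' : Subgroup.normalizer ((P.subgroupOf H : Subgroup H) : Set H))
    (hnn : (((n' : H)) : G) = (n : G))
    (χ : IrrCharacter (Subgroup.centralizer (P : Set G))) :
    trIrr (cenIso P H hPH hKH)
        (cjIrr (Subgroup.normalizer (P : Set G)) (Subgroup.centralizer (P : Set G))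
          (normalizer_le_normalizer_centralizer P) n χ)
      = cjIrr (Subgroup.normalizer ((P.subgroupOf H : Subgroup H) : Set H))
          (Subgroup.centralizer ((P.subgroupOf H : Subgroup H) : Set H))
          (normalizer_le_normalizer_centralizer (P.subgroupOf H)) n'
          (trIrr (cenIso P H hPH hKH) χ) := by
  apply Subtype.ext
  funext k'
  rw [trIrr_apply, cjIrr_apply, cjIrr_apply, trIrr_apply]
  refine congrArg (χ : Subgroup.centralizer (P : Set G) → ℂ) (Subtype.ext ?_)
  show (n : G)⁻¹ * ((k' : H) : G) * (n : G)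
    = (((n' : H) : G))⁻¹ * ((k' : H) : G) * ((n' : H) : G)
  rw [hnn]

theorem image_cjSet (n : Subgroup.normalizer (P : Set G))
    (n' : Subgroup.normalizer ((P.subgroupOf H : Subgroup H) : Set H))
    (hnn : (((n' : H)) : G) = (n : G))
    (e : Set (IrrCharacter (Subgroup.centralizer (P : Set G)))) :
    trIrr (cenIso P H hPH hKH) ''
        (cjSet (Subgroup.normalizer (P : Set G)) (Subgroup.centralizer (P : Set G))
          (normalizer_le_normalizer_centralizer P) n e)
      = cjSet (Subgroup.normalizer ((P.subgroupOf H : Subgroup H) : Set H))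
          (Subgroup.centralizer ((P.subgroupOf H : Subgroup H) : Set H))
          (normalizer_le_normalizer_centralizer (P.subgroupOf H)) n'
          (trIrr (cenIso P H hPH hKH) '' e) := by
  unfold cjSet
  rw [Set.image_image, Set.image_image]
  exact Set.image_congr fun χ _ => trIrr_cjIrr P H hPH hKH n n' hnn χ

theorem stab_iff_H (e : Set (IrrCharacter (Subgroup.centralizer (P : Set G)))) (g : H)
    (hgN : (g : G) ∈ Subgroup.normalizer (P : Set G)) :
    StabilizesBlock (Subgroup.centralizer ((P.subgroupOf H : Subgroup H) : Set H))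
        (trIrr (cenIso P H hPH hKH) '' e) g
      ↔ StabilizesBlock (Subgroup.centralizer (P : Set G)) e (g : G) := by
  constructor
  · intro h
    refine ⟨normalizer_le_normalizer_centralizer P hgN, fun χ hχ => ?_⟩
    obtain ⟨χ'', ⟨χ', hχ', rfl⟩, hc⟩ := h.2 (trIrr (cenIso P H hPH hKH) χ) ⟨χ, hχ, rfl⟩
    refine ⟨χ', hχ', fun k k' hkk' => ?_⟩
    have := hc ((cenIso P H hPH hKH).symm k) ((cenIso P H hPH hKH).symm k')
      (Subtype.ext hkk')
    rw [trIrr_apply, trIrr_apply, MulEquiv.apply_symm_apply, MulEquiv.apply_symm_apply] at this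
    exact this
  · intro h
    have hg' : g ∈ Subgroup.normalizer ((P.subgroupOf H : Subgroup H) : Set H) :=
      mk_mem_normalizer P H (g : G) hgN g.2
    refine ⟨normalizer_le_normalizer_centralizer (P.subgroupOf H) hg', ?_⟩
    rintro _ ⟨χ, hχ, rfl⟩
    obtain ⟨χ', hχ', hc⟩ := h.2 χ hχ
    refine ⟨trIrr (cenIso P H hPH hKH) χ', ⟨χ', hχ', rfl⟩, fun k k' hkk' => ?_⟩
    rw [trIrr_apply, trIrr_apply]
    exact hc _ _ (congrArg Subtype.val hkk')

omit [Fintype G] in
include hPH in
theorem cen_eq : Subgroup.centralizer ((P.subgroupOf H : Subgroup H) : Set H)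
    = (Subgroup.centralizer (P : Set G)).subgroupOf H := by
  ext x
  rw [Subgroup.mem_subgroupOf]
  constructor
  · intro hx
    exact coe_mem_centralizer P H hPH ⟨x, hx⟩
  · intro hx
    rw [Subgroup.mem_centralizer_iff]
    intro y hy
    apply Subtype.ext
    exact Subgroup.mem_centralizer_iff.mp hx (y : G) (Subgroup.mem_subgroupOf.mp hy)

/-- The criterion for a Brauer pair to be maximal for some block. -/
def Crit (p : ℕ) {G' : Type u} [Group G'] (Q : Subgroup G')
    (e : Set (IrrCharacter (Subgroup.centralizer (Q : Set G')))) : Prop :=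
  ∃ θ ∈ e, (∀ z : Subgroup.centralizer (Q : Set G'), (z : G') ∈ Q →
      (θ : Subgroup.centralizer (Q : Set G') → ℂ) z
        = (θ : Subgroup.centralizer (Q : Set G') → ℂ) 1) ∧
    (charDegree (θ : Subgroup.centralizer (Q : Set G') → ℂ)).factorization p
      + (Nat.card ↥(Q ⊓ Subgroup.centralizer (Q : Set G'))).factorization p
      = (Nat.card (Subgroup.centralizer (Q : Set G'))).factorization p ∧
    (∀ g : G', g ∈ Subgroup.normalizer (Q : Set G') →
      StabilizesBlock (Subgroup.centralizer (Q : Set G')) e g →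
      (∃ k : ℕ, orderOf g = p ^ k) → g ∈ Q ⊔ Subgroup.centralizer (Q : Set G'))

theorem crit_iff (p : ℕ) (hNH : Subgroup.normalizer (P : Set G) ≤ H)
    (e : Set (IrrCharacter (Subgroup.centralizer (P : Set G)))) :
    Crit p P e ↔ Crit p (P.subgroupOf H) (trIrr (cenIso P H hPH hKH) '' e) := by
  classical
  have hcardK : Nat.card (Subgroup.centralizer ((P.subgroupOf H : Subgroup H) : Set H))
      = Nat.card (Subgroup.centralizer (P : Set G)) :=
    Nat.card_congr (cenIso P H hPH hKH).toEquiv
  have hcardI : Nat.card ↥(P.subgroupOf H ⊓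
      Subgroup.centralizer ((P.subgroupOf H : Subgroup H) : Set H))
      = Nat.card ↥(P ⊓ Subgroup.centralizer (P : Set G)) := by
    have e1 : P.subgroupOf H ⊓ Subgroup.centralizer ((P.subgroupOf H : Subgroup H) : Set H)
        = (P ⊓ Subgroup.centralizer (P : Set G)).subgroupOf H := by
      rw [cen_eq P H hPH]
      ext x
      simp only [Subgroup.mem_inf, Subgroup.mem_subgroupOf]
    rw [e1]
    exact Nat.card_congr (Subgroup.subgroupOfEquivOfLe (inf_le_left.trans hPH)).toEquiv
  have hsup : P.subgroupOf H ⊔ Subgroup.centralizer ((P.subgroupOf H : Subgroup H) : Set H)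
      = (P ⊔ Subgroup.centralizer (P : Set G)).subgroupOf H := by
    rw [cen_eq P H hPH, Subgroup.subgroupOf_sup hPH hKH]
  have hcd : ∀ θ : IrrCharacter (Subgroup.centralizer (P : Set G)),
      charDegree (trIrr (cenIso P H hPH hKH) θ :
          Subgroup.centralizer ((P.subgroupOf H : Subgroup H) : Set H) → ℂ)
        = charDegree (θ : Subgroup.centralizer (P : Set G) → ℂ) := by
    intro θ
    unfold charDegree
    rw [trIrr_apply, map_one]
  constructor
  · rintro ⟨θ, hθ, h1, h2, h3⟩
    refine ⟨trIrr (cenIso P H hPH hKH) θ, ⟨θ, hθ, rfl⟩, ?_, ?_, ?_⟩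
    · intro z hz
      rw [trIrr_apply, trIrr_apply, map_one]
      exact h1 _ (Subgroup.mem_subgroupOf.mp hz)
    · rw [hcd, hcardI, hcardK]
      exact h2
    · intro g hg hst hord
      have hgN : (g : G) ∈ Subgroup.normalizer (P : Set G) := coe_mem_normalizer P H hPH g hg
      have hst' := (stab_iff_H P H hPH hKH e g hgN).mp hst
      have hord' : ∃ k : ℕ, orderOf (g : G) = p ^ k := by
        obtain ⟨k, hk⟩ := hord
        exact ⟨k, by rw [Subgroup.orderOf_coe, hk]⟩
      have := h3 (g : G) hgN hst' hord'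
      rw [hsup]
      exact Subgroup.mem_subgroupOf.mpr this
  · rintro ⟨_, ⟨θ, hθ, rfl⟩, h1, h2, h3⟩
    refine ⟨θ, hθ, ?_, ?_, ?_⟩
    · intro z hz
      have := h1 ((cenIso P H hPH hKH).symm z) (Subgroup.mem_subgroupOf.mpr hz)
      rw [trIrr_apply, trIrr_apply, MulEquiv.apply_symm_apply, map_one] at this
      exact this
    · rw [hcd, hcardI, hcardK] at h2
      exact h2
    · intro g hg hst hord
      have hgH : g ∈ H := hNH hg
      have hst' := (stab_iff_H P H hPH hKH e ⟨g, hgH⟩ hg).mpr hst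
      have hord' : ∃ k : ℕ, orderOf (⟨g, hgH⟩ : H) = p ^ k := by
        obtain ⟨k, hk⟩ := hord
        exact ⟨k, by rw [← Subgroup.orderOf_coe]; exact hk⟩
      have := h3 ⟨g, hgH⟩ (mk_mem_normalizer P H g hg hgH) hst' hord'
      rw [hsup] at this
      exact Subgroup.mem_subgroupOf.mp this

end HSetup


section PairOm

variable {G : Type u} [Group G] [Fintype G] {M : Ideal AlgInt}

theorem pairOf_blockOf_iff {p : ℕ} (hMm : M.IsMaximal) (B : Set (IrrCharacter G))
    (hB : IsPBlock M B) (P : Subgroup G) (hPp : IsPGroup p P)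
    [Fintype (Subgroup.centralizer (P : Set G))]
    (ξ : IrrCharacter (Subgroup.centralizer (P : Set G))) :
    IsBrauerPairOf p M B P (blockOf M (ξ : Subgroup.centralizer (P : Set G) → ℂ))
      ↔ MemLocalIdeal M (om (ξ : Subgroup.centralizer (P : Set G) → ℂ)
          (fun k : Subgroup.centralizer (P : Set G) => blockCoeff B (k : G)) - 1) := by
  constructor
  · intro h
    have := h.2.2 ξ (self_mem_blockOf hMm ξ)
    rwa [brauerOmega_eq_om] at this
  · intro h
    refine ⟨⟨hPp, ξ, rfl⟩, hB, fun ξ₂ hξ₂ => ?_⟩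
    rw [brauerOmega_eq_om]
    obtain ⟨χ₀, rfl⟩ := hB
    have hz : IsClassFunction (Subgroup.centralizer (P : Set G))
        (fun k : Subgroup.centralizer (P : Set G) => blockCoeff (blockOf M (χ₀ : G → ℂ)) (k : G)) :=
      fun g h => blockCoeff_isClassFunction _ (g : G) (h : G)
    have hzR : ∀ k : Subgroup.centralizer (P : Set G),
        MemLocalRing M (blockCoeff (blockOf M (χ₀ : G → ℂ)) (k : G)) :=
      fun k => memLocalRing_blockCoeff hMm χ₀.2 _
    have hs : SameBlock M (ξ₂ : Subgroup.centralizer (P : Set G) → ℂ)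
        (ξ : Subgroup.centralizer (P : Set G) → ℂ) := sameBlock_symm hMm hξ₂
    have h1 := om_sub_mem hMm
      (IsCharacter.isClassFunction (IsIrrCharacter.isCharacter ξ₂.2))
      (IsCharacter.isClassFunction (IsIrrCharacter.isCharacter ξ.2)) hs hz hzR
    have := memLocalIdeal_add hMm h1 h
    rwa [sub_add_sub_cancel] at this

end PairOm

section Corr

variable {G : Type u} [Group G] [Fintype G] {M : Ideal AlgInt}
variable (P H : Subgroup G) [Fintype H] (hPH : P ≤ H)
  (hKH : Subgroup.centralizer (P : Set G) ≤ H)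

/-- The value of `om` on the restriction of the block idempotent of a block of `H`. -/
theorem om_sbc (c : Set (IrrCharacter H))
    [Fintype (Subgroup.centralizer (P : Set G))]
    [Fintype (Subgroup.centralizer ((P.subgroupOf H : Subgroup H) : Set H))]
    (ξ : IrrCharacter (Subgroup.centralizer (P : Set G))) :
    om (trIrr (cenIso P H hPH hKH) ξ :
        Subgroup.centralizer ((P.subgroupOf H : Subgroup H) : Set H) → ℂ)
      (fun k' : Subgroup.centralizer ((P.subgroupOf H : Subgroup H) : Set H) =>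
        blockCoeff c (k' : H))
      = om (ξ : Subgroup.centralizer (P : Set G) → ℂ)
          (fun k : Subgroup.centralizer (P : Set G) => subgroupBlockCoeff H c (k : G)) := by
  rw [← om_trIrr (cenIso P H hPH hKH) ξ]
  congr 1
  funext k'
  rw [cenIso_coe, subgroupBlockCoeff_coe]

theorem pairH_iff {p : ℕ} (hMm : M.IsMaximal) (hPp : IsPGroup p P)
    (c : Set (IrrCharacter H)) (hc : IsPBlock M c)
    [Fintype (Subgroup.centralizer (P : Set G))]
    [Fintype (Subgroup.centralizer ((P.subgroupOf H : Subgroup H) : Set H))]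
    (ξ : IrrCharacter (Subgroup.centralizer (P : Set G))) :
    IsBrauerPairOf p M c (P.subgroupOf H)
        (trIrr (cenIso P H hPH hKH) '' blockOf M (ξ : Subgroup.centralizer (P : Set G) → ℂ))
      ↔ MemLocalIdeal M (om (ξ : Subgroup.centralizer (P : Set G) → ℂ)
          (fun k : Subgroup.centralizer (P : Set G) => subgroupBlockCoeff H c (k : G)) - 1) := by
  rw [← blockOf_trIrr, ← om_sbc P H hPH hKH c ξ]
  exact pairOf_blockOf_iff hMm c hc (P.subgroupOf H)
    (hPp.comap_of_injective _ (Subgroup.subtype_injective _)) _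

end Corr


section Main

variable {G : Type u} [Group G] [Fintype G] {M : Ideal AlgInt}
variable (P H : Subgroup G) [Fintype H] (hPH : P ≤ H)
  (hKH : Subgroup.centralizer (P : Set G) ≤ H)

include hKH in
theorem sbc_classFn (c : Set (IrrCharacter H)) :
    IsClassFunction (Subgroup.centralizer (P : Set G))
      (fun k : Subgroup.centralizer (P : Set G) => subgroupBlockCoeff H c (k : G)) := by
  intro g h
  show subgroupBlockCoeff H c ((h * g * h⁻¹ : Subgroup.centralizer (P : Set G)) : G)
    = subgroupBlockCoeff H c (g : G)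
  rw [subgroupBlockCoeff_of_mem H c _ (hKH (h * g * h⁻¹).2),
    subgroupBlockCoeff_of_mem H c _ (hKH g.2)]
  exact blockCoeff_isClassFunction c ⟨(g : G), hKH g.2⟩ ⟨(h : G), hKH h.2⟩

include hKH in
theorem om_congr_of_R (hMm : M.IsMaximal) (B : Set (IrrCharacter G))
    (c : Set (IrrCharacter H)) [Fintype (Subgroup.centralizer (P : Set G))]
    (hR : ∀ x : G, x ∈ Subgroup.centralizer (P : Set G) →
      MemLocalIdeal M (blockCoeff B x - subgroupBlockCoeff H c x))
    (ξ : IrrCharacter (Subgroup.centralizer (P : Set G))) :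
    MemLocalIdeal M
      (om (ξ : Subgroup.centralizer (P : Set G) → ℂ)
          (fun k : Subgroup.centralizer (P : Set G) => blockCoeff B (k : G))
        - om (ξ : Subgroup.centralizer (P : Set G) → ℂ)
          (fun k : Subgroup.centralizer (P : Set G) => subgroupBlockCoeff H c (k : G))) := by
  rw [← om_sub]
  have hzcf : IsClassFunction (Subgroup.centralizer (P : Set G))
      (fun k : Subgroup.centralizer (P : Set G) => blockCoeff B (k : G)) :=
    fun g h => blockCoeff_isClassFunction B (g : G) (h : G)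
  exact memLocalIdeal_om hMm ξ.2 (isClassFunction_sub hzcf (sbc_classFn P H hKH c))
    (fun k => hR k k.2)

set_option maxHeartbeats 1600000 in
theorem corr_congr {p : ℕ} [hp : Fact p.Prime] (hM : IsPModular p M)
    (hNH : Subgroup.normalizer (P : Set G) ≤ H)
    (B : Set (IrrCharacter G)) (c : Set (IrrCharacter H))
    (e : Set (IrrCharacter (Subgroup.centralizer (P : Set G))))
    (hBe : IsBrauerPairOf p M B P e) (hBd : IsDefectGroup p M B P)
    (hce : IsBrauerPairOf p M c (P.subgroupOf H) (trIrr (cenIso P H hPH hKH) '' e))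
    (hcd : IsDefectGroup p M c (P.subgroupOf H)) :
    ∀ x : G, x ∈ Subgroup.centralizer (P : Set G) →
      MemLocalIdeal M (blockCoeff B x - subgroupBlockCoeff H c x) := by
  classical
  have hMm := hM.2.1
  haveI : Fintype (Subgroup.centralizer (P : Set G)) := Fintype.ofFinite _
  haveI : Fintype (Subgroup.centralizer ((P.subgroupOf H : Subgroup H) : Set H)) :=
    Fintype.ofFinite _
  have hPp : IsPGroup p P := hBe.1.1
  have hP'p : IsPGroup p (P.subgroupOf H) := hce.1.1
  obtain ⟨χ₀, rfl⟩ := hBe.2.1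
  obtain ⟨ψ₀, rfl⟩ := hce.2.1
  set κ := cenIso P H hPH hKH with hκ
  set z : Subgroup.centralizer (P : Set G) → ℂ :=
    fun k => blockCoeff (blockOf M (χ₀ : G → ℂ)) (k : G) with hz
  set w : Subgroup.centralizer (P : Set G) → ℂ :=
    fun k => subgroupBlockCoeff H (blockOf M (ψ₀ : H → ℂ)) (k : G) with hw
  set w' : Subgroup.centralizer ((P.subgroupOf H : Subgroup H) : Set H) → ℂ :=
    fun k' => blockCoeff (blockOf M (ψ₀ : H → ℂ)) (k' : H) with hw'
  have hww' : w = fun k => w' (κ.symm k) := by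
    funext k
    show subgroupBlockCoeff H (blockOf M (ψ₀ : H → ℂ)) (k : G)
      = blockCoeff (blockOf M (ψ₀ : H → ℂ)) ((κ.symm k :
          Subgroup.centralizer ((P.subgroupOf H : Subgroup H) : Set H)) : H)
    rw [← subgroupBlockCoeff_coe, cenIso_symm_coe]
  have hzcf : IsClassFunction (Subgroup.centralizer (P : Set G)) z :=
    fun g h => blockCoeff_isClassFunction _ (g : G) (h : G)
  have hwcf : IsClassFunction (Subgroup.centralizer (P : Set G)) w := sbc_classFn P H hKH _
  have hzR : ∀ k, MemLocalRing M (z k) := fun k => memLocalRing_blockCoeff hMm χ₀.2 _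
  have hw'R : ∀ k', MemLocalRing M (w' k') := fun k' => memLocalRing_blockCoeff hMm ψ₀.2 _
  have hwR : ∀ k, MemLocalRing M (w k) := by
    intro k
    rw [hww']
    exact hw'R _
  have hzi : ∀ k, MemLocalIdeal M (conv z z k - z k) := by
    intro k
    have hRB : ∀ g, MemLocalRing M (blockCoeff (blockOf M (χ₀ : G → ℂ)) g) :=
      fun g => memLocalRing_blockCoeff hMm χ₀.2 g
    have h1 := brRes_conv_sub_mem hM P (Subgroup.centralizer (P : Set G)) hPp (le_refl _)
      (blockCoeff_isClassFunction _) (blockCoeff_isClassFunction _) hRB hRB k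
    have e1 : brRes P (Subgroup.centralizer (P : Set G)) (blockCoeff (blockOf M (χ₀ : G → ℂ)))
        = z := by
      funext k
      unfold brRes
      rw [if_pos k.2]
    have e2 : conv (blockCoeff (blockOf M (χ₀ : G → ℂ))) (blockCoeff (blockOf M (χ₀ : G → ℂ)))
        = blockCoeff (blockOf M (χ₀ : G → ℂ)) := funext (conv_blockCoeff _)
    rw [e2, e1] at h1
    have := memLocalIdeal_neg hMm h1
    rwa [neg_sub] at this
  have hw'i : ∀ k', MemLocalIdeal M (conv w' w' k' - w' k') := by
    intro k'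
    have hRB : ∀ g, MemLocalRing M (blockCoeff (blockOf M (ψ₀ : H → ℂ)) g) :=
      fun g => memLocalRing_blockCoeff hMm ψ₀.2 g
    have h1 := brRes_conv_sub_mem hM (P.subgroupOf H)
      (Subgroup.centralizer ((P.subgroupOf H : Subgroup H) : Set H)) hP'p (le_refl _)
      (blockCoeff_isClassFunction _) (blockCoeff_isClassFunction _) hRB hRB k'
    have e1 : brRes (P.subgroupOf H)
        (Subgroup.centralizer ((P.subgroupOf H : Subgroup H) : Set H))
        (blockCoeff (blockOf M (ψ₀ : H → ℂ))) = w' := by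
      funext k
      unfold brRes
      rw [if_pos k.2]
    have e2 : conv (blockCoeff (blockOf M (ψ₀ : H → ℂ))) (blockCoeff (blockOf M (ψ₀ : H → ℂ)))
        = blockCoeff (blockOf M (ψ₀ : H → ℂ)) := funext (conv_blockCoeff _)
    rw [e2, e1] at h1
    have := memLocalIdeal_neg hMm h1
    rwa [neg_sub] at this
  have hwi : ∀ k, MemLocalIdeal M (conv w w k - w k) := by
    intro k
    rw [hww']
    show MemLocalIdeal M (conv (fun y => w' (κ.symm y)) (fun y => w' (κ.symm y)) k
      - w' (κ.symm k))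
    rw [conv_comp_equiv κ.symm w' w' k]
    exact hw'i _
  have hom : ∀ ξ, IsIrrCharacter (Subgroup.centralizer (P : Set G)) ξ →
      MemLocalIdeal M (om ξ z - om ξ w) := by
    intro ξf hξf
    set ξ : IrrCharacter (Subgroup.centralizer (P : Set G)) := ⟨ξf, hξf⟩ with hξ
    have F1 := pairOf_blockOf_iff (p := p) hMm (blockOf M (χ₀ : G → ℂ)) ⟨χ₀, rfl⟩ P hPp ξ
    have F2 := pairH_iff P H hPH hKH (p := p) hMm hPp (blockOf M (ψ₀ : H → ℂ)) ⟨ψ₀, rfl⟩ ξ
    rcases om_idem_dichotomy hMm hzcf hzR hzi hξf with hz0 | hz1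
    · rcases om_idem_dichotomy hMm hwcf hwR hwi hξf with hw0 | hw1
      · exact memLocalIdeal_sub hMm hz0 hw0
      · exfalso
        have hpairH := F2.mpr hw1
        obtain ⟨n', hn'⟩ := eq_cjSet_of_defect hM ψ₀ (P.subgroupOf H) hcd _ _ hce hpairH
        set n : Subgroup.normalizer (P : Set G) :=
          ⟨((n' : H) : G), coe_mem_normalizer P H hPH n' n'.2⟩ with hn
        rw [← image_cjSet P H hPH hKH n n' rfl e] at hn'
        have heq := Set.image_injective.mpr (trIrr_injective κ) hn'
        have hpairG := pair_cjSet hM _ P e hBe n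
        rw [← heq] at hpairG
        have hz1 := F1.mp hpairG
        have := memLocalIdeal_sub hMm hz0 hz1
        rw [sub_sub_cancel] at this
        exact not_memLocalIdeal_one hMm this
    · have hpairG := F1.mpr hz1
      obtain ⟨n, hn⟩ := eq_cjSet_of_defect hM χ₀ P hBd _ _ hBe hpairG
      set n' : Subgroup.normalizer ((P.subgroupOf H : Subgroup H) : Set H) :=
        ⟨⟨(n : G), hNH n.2⟩, mk_mem_normalizer P H n n.2 (hNH n.2)⟩ with hn'
      have himg := image_cjSet P H hPH hKH n n' rfl e
      have hpairH := pair_cjSet hM _ (P.subgroupOf H) _ hce n'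
      rw [← himg, ← hn] at hpairH
      have hw1 := F2.mp hpairH
      have := memLocalIdeal_sub hMm hz1 hw1
      rwa [sub_sub_sub_cancel_right] at this
  intro x hx
  exact idem_congr hMm hzcf hwcf hzR hwR hzi hwi hom ⟨x, hx⟩

end Main


section Final

variable {G : Type u} [Group G] [Fintype G] {M : Ideal AlgInt}

set_option maxHeartbeats 1600000 in
theorem brauer_corr_H {p : ℕ} [hp : Fact p.Prime] (hM : IsPModular p M)
    (P H : Subgroup G) [Fintype H] (hP : IsPGroup p P)
    (hNH : Subgroup.normalizer (P : Set G) ≤ H) :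
    (∀ B : Set (IrrCharacter G), IsPBlock M B → IsDefectGroup p M B P →
      ∃! c : Set (IrrCharacter H), IsPBlock M c ∧ IsDefectGroup p M c (P.subgroupOf H) ∧
        ∀ x : G, x ∈ Subgroup.centralizer (P : Set G) →
          MemLocalIdeal M (blockCoeff B x - subgroupBlockCoeff H c x)) ∧
    (∀ c : Set (IrrCharacter H), IsPBlock M c → IsDefectGroup p M c (P.subgroupOf H) →
      ∃! B : Set (IrrCharacter G), IsPBlock M B ∧ IsDefectGroup p M B P ∧
        ∀ x : G, x ∈ Subgroup.centralizer (P : Set G) →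
          MemLocalIdeal M (blockCoeff B x - subgroupBlockCoeff H c x)) := by
  classical
  have hMm := hM.2.1
  have hPH : P ≤ H := Subgroup.le_normalizer.trans hNH
  have hKH : Subgroup.centralizer (P : Set G) ≤ H :=
    (Subgroup.centralizer_le_normalizer _).trans hNH
  haveI : Fintype (Subgroup.centralizer (P : Set G)) := Fintype.ofFinite _
  haveI : Fintype (Subgroup.centralizer ((P.subgroupOf H : Subgroup H) : Set H)) :=
    Fintype.ofFinite _
  have hP'p : IsPGroup p (P.subgroupOf H) :=
    hP.comap_of_injective _ (Subgroup.subtype_injective _)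
  set κ := cenIso P H hPH hKH with hκ
  -- transfer of pairs along the congruence
  have transGH : ∀ (B : Set (IrrCharacter G)) (c : Set (IrrCharacter H)),
      IsPBlock M B → IsPBlock M c →
      (∀ x : G, x ∈ Subgroup.centralizer (P : Set G) →
        MemLocalIdeal M (blockCoeff B x - subgroupBlockCoeff H c x)) →
      ∀ ξ : IrrCharacter (Subgroup.centralizer (P : Set G)),
        (IsBrauerPairOf p M B P (blockOf M (ξ : Subgroup.centralizer (P : Set G) → ℂ)) ↔
          IsBrauerPairOf p M c (P.subgroupOf H)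
            (trIrr κ '' blockOf M (ξ : Subgroup.centralizer (P : Set G) → ℂ))) := by
    intro B c hB hc hR ξ
    rw [pairOf_blockOf_iff hMm B hB P hP ξ, pairH_iff P H hPH hKH hMm hP c hc ξ]
    have hcg := om_congr_of_R P H hKH hMm B c hR ξ
    constructor
    · intro h
      have := memLocalIdeal_sub hMm h hcg
      rwa [sub_sub_sub_cancel_left] at this
    · intro h
      have := memLocalIdeal_add hMm hcg h
      rwa [sub_add_sub_cancel] at this
  refine ⟨?_, ?_⟩
  · intro B hB hBd
    obtain ⟨e, hBe⟩ := exists_pair_of_defect hM B hB P hBd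
    have hmaxG := maximal_of_pair_defect hM B P hBd e hBe
    have critG : Crit p P e := (maximal_pair_crit hM P e hBe.1).mp ⟨B, hmaxG⟩
    have critH := (crit_iff P H hPH hKH p hNH e).mp critG
    obtain ⟨ξ₀, heq⟩ := hBe.1.2
    have he' : IsBrauerPair p M (P.subgroupOf H) (trIrr κ '' e) := by
      refine ⟨hP'p, trIrr κ ξ₀, ?_⟩
      rw [heq, blockOf_trIrr]
    obtain ⟨c, hmaxH⟩ := (maximal_pair_crit hM (P.subgroupOf H) (trIrr κ '' e) he').mpr critH
    have hcd := maximal_pair_defect hM c (P.subgroupOf H) _ hmaxH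
    have hce := hmaxH.1
    have hc : IsPBlock M c := hce.2.1
    refine ⟨c, ⟨hc, hcd, corr_congr P H hPH hKH hM hNH B c e hBe hBd hce hcd⟩, ?_⟩
    rintro c₂ ⟨hc₂, _, hR₂⟩
    have h1 : IsBrauerPairOf p M c₂ (P.subgroupOf H) (trIrr κ '' e) := by
      rw [heq] at hBe ⊢
      exact (transGH B c₂ hB hc₂ hR₂ ξ₀).mp hBe
    exact (existsUnique_block_of_brauerPair hM (P.subgroupOf H) (trIrr κ '' e) he').unique
      h1 hce
  · intro c hc hcd
    obtain ⟨e'', hce''⟩ := exists_pair_of_defect hM c hc (P.subgroupOf H) hcd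
    set e : Set (IrrCharacter (Subgroup.centralizer (P : Set G))) := trIrr κ.symm '' e'' with he
    have hee : trIrr κ '' e = e'' := by
      rw [he, Set.image_image]
      have : (fun θ => trIrr κ (trIrr κ.symm θ)) = id := funext fun θ => trIrr_trIrr_symm κ θ
      rw [this, Set.image_id]
    rw [← hee] at hce''
    have hmaxH := maximal_of_pair_defect hM c (P.subgroupOf H) hcd _ hce''
    have critH : Crit p (P.subgroupOf H) (trIrr κ '' e) :=
      (maximal_pair_crit hM (P.subgroupOf H) _ hce''.1).mp ⟨c, hmaxH⟩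
    have critG := (crit_iff P H hPH hKH p hNH e).mpr critH
    obtain ⟨ψ₀, heq''⟩ := hce''.1.2
    have heblock : e = blockOf M (trIrr κ.symm (trIrr κ (trIrr κ.symm ψ₀)) :
        Subgroup.centralizer (P : Set G) → ℂ) := by
      rw [trIrr_trIrr_symm]
      have h1 : trIrr κ.symm '' (trIrr κ '' e) = e := by
        rw [Set.image_image]
        have : (fun θ => trIrr κ.symm (trIrr κ θ)) = id :=
          funext fun θ => trIrr_symm_trIrr κ θ
        rw [this, Set.image_id]
      rw [← h1, heq'', blockOf_trIrr]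
    have hePair : IsBrauerPair p M P e := ⟨hP, _, heblock⟩
    obtain ⟨B, hmaxG⟩ := (maximal_pair_crit hM P e hePair).mpr critG
    have hBd := maximal_pair_defect hM B P e hmaxG
    have hBe := hmaxG.1
    have hB : IsPBlock M B := hBe.2.1
    refine ⟨B, ⟨hB, hBd, corr_congr P H hPH hKH hM hNH B c e hBe hBd hce'' hcd⟩, ?_⟩
    rintro B₂ ⟨hB₂, _, hR₂⟩
    have h1 : IsBrauerPairOf p M B₂ P e := by
      obtain ⟨ξ₁, hξ₁⟩ := hePair.2
      rw [hξ₁] at hce'' ⊢
      exact (transGH B₂ c hB₂ hc hR₂ ξ₁).mpr hce''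
    exact (existsUnique_block_of_brauerPair hM P e hePair).unique h1 hBe

end Final

end Cfsg.Agent.Lib.Helper2_BrauerCorrH
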