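import Mathlib
import Cfsg.Prelude.Def_Characters
import Cfsg.Prelude.Def_Blocks
import Cfsg.Prelude.Def_BlockRank
import Cfsg.Prelude.Def_BlockLocal
import Cfsg.Prelude.Def_BrauerPairs
import Cfsg.Agent.Lib.Helper2_ClassFn
import Cfsg.Agent.Lib.Helper2_CharBasic
import Cfsg.Agent.Lib.Helper2_CharOrtho
import Cfsg.Agent.Lib.Helper2_Clifford
import Cfsg.Agent.Lib.Helper2_CharMore
import Cfsg.Agent.Lib.Helper2_CharDeg
import Cfsg.Agent.Lib.Helper2_CharInd
import Cfsg.Agent.Lib.Helper2_CharExtra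
import Cfsg.Agent.Lib.Helper2_CharInt
import Cfsg.Agent.Lib.Helper2_CharValues
import Cfsg.Agent.Lib.Helper2_CharSum
import Cfsg.Agent.Lib.Helper2_CharComplete
import Cfsg.Agent.Lib.Helper2_CharTable
import Cfsg.Agent.Lib.Helper2_CharCentral
import Cfsg.Agent.Lib.Helper2_ModM
import Cfsg.Agent.Lib.Helper2_Blocks
import Cfsg.Agent.Lib.Helper2_BlockOrtho
import Cfsg.Agent.Lib.Helper2_BlockMore
import Cfsg.Agent.Lib.Helper2_DefectGroup
import Cfsg.Agent.Lib.Helper2_DefectPCore
import Cfsg.Agent.Lib.Helper2_MinMax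
import Cfsg.Agent.Lib.Helper2_InducedBlock
import Cfsg.Agent.Lib.Helper2_BrauerMap
import Cfsg.Agent.Lib.Helper2_InducedDefect
import Cfsg.Agent.Lib.Helper2_BrauerFirst
import Cfsg.Agent.Lib.Helper2_BrauerConverse
import Cfsg.Agent.Lib.Helper2_SylowConj
import Cfsg.Agent.Lib.Helper2_BlockCover
import Cfsg.Agent.Lib.Helper2_BlockConj
import Cfsg.Agent.Lib.Helper2_FirstMain
import Cfsg.Agent.Lib.Helper2_BlockNormal
import Cfsg.Agent.Lib.Helper2_BlockCount
import Cfsg.Agent.Lib.Helper2_BlockCount2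
import Cfsg.Agent.Lib.Helper2_BlockKer
import Cfsg.Agent.Lib.Helper2_PRegCount
import Cfsg.Agent.Lib.Helper2_ExtFirstMain
import Cfsg.Agent.Lib.Helper2_ThirdMain
import Cfsg.Agent.Lib.Helper2_Fong
import Cfsg.Agent.Lib.Helper2_BrauerPairs
import Cfsg.Agent.Lib.Helper2_BrauerInv
import Cfsg.Agent.Lib.Helper2_Conj
import Cfsg.Agent.Lib.Helper2_BrauerChain
import Cfsg.Agent.Lib.Helper2_BrauerPrincipal
import Cfsg.Agent.Lib.Helper2_BrauerMax
import Cfsg.Agent.Lib.Helper2_BrauerConjMax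
import Cfsg.Agent.Lib.Helper2_BrauerLocal
import Cfsg.Agent.Lib.Helper2_BrauerStab
import Cfsg.Agent.Lib.Helper2_BlockTrace
import Cfsg.Agent.Lib.Helper2_BlockFusion
import Cfsg.Agent.Lib.Helper2_AbelianDefect
import Cfsg.Agent.Lib.Helper2_AbelianNilpotent
import Cfsg.Agent.Lib.Helper2_CentricNormal


set_option autoImplicit false

/-!
# Cyclic defect groups: the inertial quotient
-/

namespace Cfsg.Agent.Lib.Helper2_CyclicInertial

open Cfsg
open Cfsg.Agent.Lib.Helper2_ClassFn
open Cfsg.Agent.Lib.Helper2_CharBasic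
open Cfsg.Agent.Lib.Helper2_CharOrtho
open Cfsg.Agent.Lib.Helper2_Clifford
open Cfsg.Agent.Lib.Helper2_CharMore
open Cfsg.Agent.Lib.Helper2_CharDeg
open Cfsg.Agent.Lib.Helper2_CharInd
open Cfsg.Agent.Lib.Helper2_CharExtra
open Cfsg.Agent.Lib.Helper2_CharValues
open Cfsg.Agent.Lib.Helper2_CharSum
open Cfsg.Agent.Lib.Helper2_CharComplete
open Cfsg.Agent.Lib.Helper2_CharTable
open Cfsg.Agent.Lib.Helper2_CharCentral
open Cfsg.Agent.Lib.Helper2_ModM
open Cfsg.Agent.Lib.Helper2_Blocks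
open Cfsg.Agent.Lib.Helper2_BlockOrtho
open Cfsg.Agent.Lib.Helper2_BlockMore
open Cfsg.Agent.Lib.Helper2_DefectGroup
open Cfsg.Agent.Lib.Helper2_DefectPCore
open Cfsg.Agent.Lib.Helper2_MinMax
open Cfsg.Agent.Lib.Helper2_InducedBlock
open Cfsg.Agent.Lib.Helper2_BrauerMap
open Cfsg.Agent.Lib.Helper2_InducedDefect
open Cfsg.Agent.Lib.Helper2_BrauerFirst
open Cfsg.Agent.Lib.Helper2_BrauerConverse
open Cfsg.Agent.Lib.Helper2_SylowConj
open Cfsg.Agent.Lib.Helper2_BlockCover
open Cfsg.Agent.Lib.Helper2_BlockConj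
open Cfsg.Agent.Lib.Helper2_FirstMain
open Cfsg.Agent.Lib.Helper2_BlockNormal
open Cfsg.Agent.Lib.Helper2_BlockCount
open Cfsg.Agent.Lib.Helper2_BlockCount2
open Cfsg.Agent.Lib.Helper2_BlockKer
open Cfsg.Agent.Lib.Helper2_PRegCount
open Cfsg.Agent.Lib.Helper2_ExtFirstMain
open Cfsg.Agent.Lib.Helper2_ThirdMain
open Cfsg.Agent.Lib.Helper2_Fong
open Cfsg.Agent.Lib.Helper2_BrauerPairs
open Cfsg.Agent.Lib.Helper2_BrauerInv
open Cfsg.Agent.Lib.Helper2_BrauerChain
open Cfsg.Agent.Lib.Helper2_BrauerPrincipal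
open Cfsg.Agent.Lib.Helper2_BrauerMax
open Cfsg.Agent.Lib.Helper2_BrauerConjMax
open Cfsg.Agent.Lib.Helper2_BrauerLocal
open Cfsg.Agent.Lib.Helper2_BrauerStab
open Cfsg.Agent.Lib.Helper2_BlockTrace
open Cfsg.Agent.Lib.Helper2_BlockFusion
open Cfsg.Agent.Lib.Helper2_AbelianDefect
open Cfsg.Agent.Lib.Helper2_AbelianNilpotent
open Cfsg.Agent.Lib.Helper2_CentricNormal
open scoped ComplexConjugate

universe u


section Block

variable {G : Type u} [Group G] [Fintype G] {M : Ideal AlgInt}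

theorem maximal_of_induced_defect {p : ℕ} [hp : Fact p.Prime] (hM : IsPModular p M)
    (B : Set (IrrCharacter G)) (P : Subgroup G) (hPD : IsDefectGroup p M B P)
    (c : Set (IrrCharacter (Subgroup.centralizer (P : Set G))))
    (hc : IsInducedBlock M (Subgroup.centralizer (P : Set G)) c B) :
    IsMaximalBrauerPair p M B P c := by
  classical
  have hMm := hM.2.1
  have hPp : IsPGroup p P := isPGroup_of_isDefectGroup hPD
  have hpair : IsBrauerPair p M P c := ⟨hPp, hc.1⟩
  obtain ⟨B', hB', _⟩ := existsUnique_block_of_brauerPair hM P c hpair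
  have hBB : B' = B := by
    obtain ⟨ξ₀, hceq⟩ := hc.1
    have hξ₀ : ξ₀ ∈ c := by rw [hceq]; exact self_mem_blockOf hMm ξ₀
    obtain ⟨χB, hBeq⟩ := hc.2.1
    obtain ⟨χ', hB'eq⟩ := hB'.2.1
    have hχB : χB ∈ B := by rw [hBeq]; exact self_mem_blockOf hMm χB
    have hχ' : χ' ∈ B' := by rw [hB'eq]; exact self_mem_blockOf hMm χ'
    have hs : SameBlock M (χB : G → ℂ) (χ' : G → ℂ) := by
      intro g
      have e1 := hc.2.2 ξ₀ hξ₀ χB hχB g
      have e2 := induced_of_brauerPairOf hM B' P c hB' ξ₀ hξ₀ χ' hχ' g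
      have := memLocalIdeal_sub hMm e2 e1
      rwa [sub_sub_sub_cancel_left] at this
    have : χ' ∈ blockOf M (χB : G → ℂ) := hs
    rw [hBeq, hB'eq]
    exact blockOf_eq_of_mem hMm this
  subst hBB
  refine ⟨hB', ?_⟩
  intro R g hRg hle
  have hPR : P ≤ R := le_fst hle
  obtain ⟨D, e, hmax, hle'⟩ := exists_maximal_above (p := p) (M := M) B' _ R g hRg rfl
  have hRD : R ≤ D := le_fst hle'
  have hD : IsDefectGroup p M B' D := maximal_pair_defect hM B' D e hmax
  obtain ⟨χ', hB'eq⟩ := hB'.2.1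
  have hcD : Nat.card D = p ^ blockDefect p B' := by
    rw [hB'eq] at hD ⊢
    exact card_defectGroup hM χ' D hD
  have hcP : Nat.card P = p ^ blockDefect p B' := by
    rw [hB'eq] at hPD ⊢
    exact card_defectGroup hM χ' P hPD
  have hPD' : P = D := Subgroup.eq_of_le_of_card_ge (hPR.trans hRD) (by rw [hcD, hcP])
  exact le_antisymm (by rw [hPD']; exact hRD) hPR

end Block


section Aut

theorem cyclic_coprime_aut {G : Type u} [Group G] [Finite G] (p : ℕ) [hp : Fact p.Prime]
    (P : Subgroup G) (hcyc : IsCyclic P) (hPp : IsPGroup p P) (hP1 : P ≠ ⊥)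
    (T : Subgroup G) (hTN : T ≤ Subgroup.normalizer (P : Set G))
    [hn : ((Subgroup.centralizer (P : Set G)).subgroupOf T).Normal]
    (hidx : ¬ p ∣ ((Subgroup.centralizer (P : Set G)).subgroupOf T).index) :
    IsCyclic (T ⧸ (Subgroup.centralizer (P : Set G)).subgroupOf T) ∧
    (Subgroup.centralizer (P : Set G)).relIndex T ∣ p - 1 ∧
    ∀ g ∈ T, ∀ x ∈ P, x ≠ 1 → g * x * g⁻¹ = x → g ∈ Subgroup.centralizer (P : Set G) := by
  classical
  obtain ⟨a, hPa⟩ := IsPGroup.iff_card.mp hPp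
  have ha : a ≠ 0 := by
    rintro rfl
    apply hP1
    rw [pow_zero] at hPa
    exact Subgroup.card_eq_one.mp hPa
  have hapos : 0 < a := Nat.pos_of_ne_zero ha
  set m := ((Subgroup.centralizer (P : Set G)).subgroupOf T).index with hm
  -- the hom
  let φ : T →* MulAut P := P.normalizerMonoidHom.comp (Subgroup.inclusion hTN)
  have hker : φ.ker = (Subgroup.centralizer (P : Set G)).subgroupOf T := by
    ext g
    rw [MonoidHom.mem_ker, MonoidHom.comp_apply, ← MonoidHom.mem_ker,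
      Subgroup.normalizerMonoidHom_ker]
    rfl
  let eA : (T ⧸ (Subgroup.centralizer (P : Set G)).subgroupOf T) ≃* φ.range :=
    (QuotientGroup.quotientMulEquivOfEq hker.symm).trans (QuotientGroup.quotientKerEquivRange φ)
  have hmcard : m = Nat.card φ.range := by
    rw [hm, Subgroup.index_eq_card]
    exact Nat.card_congr eA.toEquiv
  have hmdvd : m ∣ p ^ (a - 1) * (p - 1) := by
    rw [hmcard]
    have h1 := Subgroup.card_subgroup_dvd_card φ.range
    rw [IsCyclic.card_mulAut P, hPa, Nat.totient_prime_pow hp.out hapos] at h1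
    exact h1
  have hcop : Nat.Coprime m (p ^ (a - 1)) :=
    (Nat.Coprime.pow_left _ ((Nat.Prime.coprime_iff_not_dvd hp.out).mpr hidx)).symm
  have hm1 : m ∣ p - 1 := by
    rw [mul_comm] at hmdvd
    exact Nat.Coprime.dvd_of_dvd_mul_right hcop hmdvd
  refine ⟨?_, hm1, ?_⟩
  · by_cases hp2 : p = 2
    · have : m = 1 := by
        rw [hp2] at hm1
        exact Nat.dvd_one.mp hm1
      rw [hm, Subgroup.index_eq_card] at this
      haveI : Subsingleton (T ⧸ (Subgroup.centralizer (P : Set G)).subgroupOf T) :=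
        (Nat.card_eq_one_iff_unique.mp this).1
      exact isCyclic_of_subsingleton
    · haveI : IsCyclic (ZMod (Nat.card P))ˣ := by
        rw [hPa]
        exact ZMod.isCyclic_units_of_prime_pow p hp.out hp2 a
      haveI : IsCyclic (MulAut P) :=
        isCyclic_of_surjective (IsCyclic.mulAutMulEquiv P).symm
          (IsCyclic.mulAutMulEquiv P).symm.surjective
      exact isCyclic_of_surjective eA.symm eA.symm.surjective
  · intro g hg x hx hx1 hfix
    obtain ⟨y, hy⟩ := hcyc.exists_generator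
    have hyord : orderOf (y : G) = p ^ a := by
      rw [Subgroup.orderOf_coe, ← hPa]
      exact orderOf_eq_card_of_forall_mem_zpowers hy
    have hgN : g ∈ Subgroup.normalizer (P : Set G) := hTN hg
    have hgy : g * (y : G) * g⁻¹ ∈ P := (Subgroup.mem_normalizer_iff.mp hgN _).mp y.2
    obtain ⟨k, hk⟩ := Subgroup.mem_zpowers_iff.mp (hy ⟨_, hgy⟩)
    have hk' : (y : G) ^ k = g * (y : G) * g⁻¹ := by
      have := congrArg Subtype.val hk
      simpa using this
    -- conjugation of powers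
    have hconj : ∀ n : ℤ, g * (y : G) ^ n * g⁻¹ = (y : G) ^ (k * n) := by
      intro n
      rw [← conj_zpow, ← hk', ← zpow_mul]
    obtain ⟨n, hn'⟩ := Subgroup.mem_zpowers_iff.mp (hy ⟨x, hx⟩)
    have hxn : (y : G) ^ n = x := by
      have := congrArg Subtype.val hn'
      simpa using this
    have h1 : (y : G) ^ ((k - 1) * n) = 1 := by
      have := hconj n
      rw [hxn, hfix, ← hxn] at this
      rw [sub_mul, one_mul, zpow_sub, ← this, mul_inv_cancel]
    have hd1 : ((p ^ a : ℕ) : ℤ) ∣ (k - 1) * n := by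
      rw [← hyord]; exact orderOf_dvd_iff_zpow_eq_one.mpr h1
    have hd2 : ¬ ((p ^ a : ℕ) : ℤ) ∣ n := by
      rw [← hyord, orderOf_dvd_iff_zpow_eq_one, hxn]; exact hx1
    have hpint : Prime (p : ℤ) := Nat.prime_iff_prime_int.mp hp.out
    have hpk : (p : ℤ) ∣ k - 1 := by
      by_contra hnd
      apply hd2
      push_cast at hd1 ⊢
      exact hpint.pow_dvd_of_dvd_mul_left a hnd hd1
    obtain ⟨t, ht⟩ := hpk
    have hkt : k = 1 + (p : ℤ) * t := by linarith
    -- iterate
    have hiter : ∀ j : ℕ, g ^ j * (y : G) * (g ^ j)⁻¹ = (y : G) ^ (k ^ j) := by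
      intro j
      induction j with
      | zero => simp
      | succ j ih =>
        have : g ^ (j + 1) * (y : G) * (g ^ (j + 1))⁻¹
            = g * (g ^ j * (y : G) * (g ^ j)⁻¹) * g⁻¹ := by
          rw [pow_succ', mul_inv_rev]; group
        rw [this, ih, hconj, pow_succ']
    obtain ⟨s, hs⟩ := ZMod.exists_one_add_mul_pow_prime_pow_eq (u := (p : ℤ)) (v := 1) hp.out
      (one_dvd _) (by
        rw [mul_one, ← pow_two]
        exact pow_dvd_pow _ hp.out.two_le) t (a - 1)
    have hkpow : k ^ (p ^ (a - 1)) = 1 + ((p ^ a : ℕ) : ℤ) * (t + 1 * s) := by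
      rw [hkt, hs]
      push_cast
      have : (p : ℤ) ^ a = (p : ℤ) ^ (a - 1) * p := by
        rw [← pow_succ, Nat.sub_add_cancel hapos]
      rw [this]
    have hcomm : g ^ (p ^ (a - 1)) * (y : G) * (g ^ (p ^ (a - 1)))⁻¹ = (y : G) := by
      rw [hiter, hkpow, zpow_add, zpow_one, zpow_mul, ← hyord, zpow_natCast, pow_orderOf_eq_one,
        one_zpow, mul_one]
    -- g^(p^(a-1)) centralizes P
    have hcent : g ^ (p ^ (a - 1)) ∈ Subgroup.centralizer (P : Set G) := by
      rw [Subgroup.mem_centralizer_iff]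
      intro z hz
      obtain ⟨n', hn''⟩ := Subgroup.mem_zpowers_iff.mp (hy ⟨z, hz⟩)
      have hzn : (y : G) ^ n' = z := by
        have := congrArg Subtype.val hn''
        simpa using this
      have hc1 : g ^ (p ^ (a - 1)) * (y : G) = (y : G) * g ^ (p ^ (a - 1)) := by
        have := hcomm
        rw [mul_inv_eq_iff_eq_mul] at this
        exact this
      rw [← hzn]
      exact ((Commute.zpow_right hc1 n').eq).symm
    -- conclude in the quotient
    set gT : T := ⟨g, hg⟩ with hgT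
    have hq1 : ((gT : T) : T ⧸ (Subgroup.centralizer (P : Set G)).subgroupOf T) ^ (p ^ (a - 1))
        = 1 := by
      rw [← QuotientGroup.mk_pow, QuotientGroup.eq_one_iff]
      exact hcent
    have hq2 : ((gT : T) : T ⧸ (Subgroup.centralizer (P : Set G)).subgroupOf T) ^ m = 1 := by
      rw [← QuotientGroup.mk_pow, QuotientGroup.eq_one_iff]
      exact Subgroup.pow_index_mem _ gT
    have hord : orderOf ((gT : T) : T ⧸ (Subgroup.centralizer (P : Set G)).subgroupOf T) = 1 := by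
      have d1 := orderOf_dvd_of_pow_eq_one hq1
      have d2 := orderOf_dvd_of_pow_eq_one hq2
      exact Nat.eq_one_of_dvd_coprimes hcop d2 d1
    have := orderOf_eq_one_iff.mp hord
    rw [QuotientGroup.eq_one_iff] at this
    exact this

end Aut

end Cfsg.Agent.Lib.Helper2_CyclicInertial
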