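import Mathlib
import Cfsg.Prelude.Def_Characters
import Cfsg.Prelude.Def_Blocks
import Cfsg.Prelude.Def_BlockRank
import Cfsg.Prelude.Def_BlockLocal
import Cfsg.Prelude.Def_BrauerPairs
import Cfsg.Agent.Lib.Helper2_ClassFn
import Cfsg.Agent.Lib.Helper2_CharBasic
import Cfsg.Agent.Lib.Helper2_CharOrtho
import Cfsg.Agent.Lib.Helper2_Clifford
import Cfsg.Agent.Lib.Helper2_CharMore
import Cfsg.Agent.Lib.Helper2_CharDeg
import Cfsg.Agent.Lib.Helper2_CharInd
import Cfsg.Agent.Lib.Helper2_CharExtra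
import Cfsg.Agent.Lib.Helper2_CharInt
import Cfsg.Agent.Lib.Helper2_CharValues
import Cfsg.Agent.Lib.Helper2_CharSum
import Cfsg.Agent.Lib.Helper2_CharComplete
import Cfsg.Agent.Lib.Helper2_CharTable
import Cfsg.Agent.Lib.Helper2_CharCentral
import Cfsg.Agent.Lib.Helper2_ModM
import Cfsg.Agent.Lib.Helper2_Blocks
import Cfsg.Agent.Lib.Helper2_BlockOrtho
import Cfsg.Agent.Lib.Helper2_BlockMore
import Cfsg.Agent.Lib.Helper2_DefectGroup
import Cfsg.Agent.Lib.Helper2_DefectPCore
import Cfsg.Agent.Lib.Helper2_MinMax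
import Cfsg.Agent.Lib.Helper2_InducedBlock
import Cfsg.Agent.Lib.Helper2_BrauerMap
import Cfsg.Agent.Lib.Helper2_InducedDefect
import Cfsg.Agent.Lib.Helper2_BrauerFirst
import Cfsg.Agent.Lib.Helper2_BrauerConverse
import Cfsg.Agent.Lib.Helper2_SylowConj
import Cfsg.Agent.Lib.Helper2_BlockCover
import Cfsg.Agent.Lib.Helper2_BlockConj
import Cfsg.Agent.Lib.Helper2_FirstMain
import Cfsg.Agent.Lib.Helper2_BlockNormal
import Cfsg.Agent.Lib.Helper2_BlockCount
import Cfsg.Agent.Lib.Helper2_BlockCount2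
import Cfsg.Agent.Lib.Helper2_BlockKer
import Cfsg.Agent.Lib.Helper2_PRegCount
import Cfsg.Agent.Lib.Helper2_ExtFirstMain
import Cfsg.Agent.Lib.Helper2_ThirdMain
import Cfsg.Agent.Lib.Helper2_Fong
import Cfsg.Agent.Lib.Helper2_BrauerPairs
import Cfsg.Agent.Lib.Helper2_BrauerInv
import Cfsg.Agent.Lib.Helper2_Conj
import Cfsg.Agent.Lib.Helper2_BrauerChain
import Cfsg.Agent.Lib.Helper2_BrauerPrincipal
import Cfsg.Agent.Lib.Helper2_BrauerMax
import Cfsg.Agent.Lib.Helper2_BrauerConjMax
import Cfsg.Agent.Lib.Helper2_BrauerLocal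
import Cfsg.Agent.Lib.Helper2_BrauerStab
import Cfsg.Agent.Lib.Helper2_BlockTrace
import Cfsg.Agent.Lib.Helper2_BlockFusion
import Cfsg.Agent.Lib.Helper2_AbelianDefect
import Cfsg.Agent.Lib.Helper2_AbelianNilpotent
import Cfsg.Agent.Lib.Helper2_CentricNormal
import Cfsg.Agent.Lib.Helper2_InertialIndex
import Cfsg.Agent.Lib.Helper2_Ito
import Cfsg.Agent.Lib.Helper2_MaxPairCrit
import Cfsg.Agent.Lib.Helper2_BrauerCorrH
import Cfsg.Agent.Lib.Helper2_CyclicInertial
import Cfsg.Agent.Lib.Helper2_CentralDefect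
import Cfsg.Agent.Lib.Helper2_CentralDefect2


set_option autoImplicit false

/-!
# Abelian defect groups: free action of the inertial group and nilpotent local blocks
-/

namespace Cfsg.Agent.Lib.Helper2_AbelianFree

open Cfsg
open Cfsg.Agent.Lib.Helper2_ClassFn
open Cfsg.Agent.Lib.Helper2_CharBasic
open Cfsg.Agent.Lib.Helper2_CharOrtho
open Cfsg.Agent.Lib.Helper2_Clifford
open Cfsg.Agent.Lib.Helper2_CharMore
open Cfsg.Agent.Lib.Helper2_CharDeg
open Cfsg.Agent.Lib.Helper2_CharInd
open Cfsg.Agent.Lib.Helper2_CharExtra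
open Cfsg.Agent.Lib.Helper2_CharValues
open Cfsg.Agent.Lib.Helper2_CharSum
open Cfsg.Agent.Lib.Helper2_CharComplete
open Cfsg.Agent.Lib.Helper2_CharTable
open Cfsg.Agent.Lib.Helper2_CharCentral
open Cfsg.Agent.Lib.Helper2_ModM
open Cfsg.Agent.Lib.Helper2_Blocks
open Cfsg.Agent.Lib.Helper2_BlockOrtho
open Cfsg.Agent.Lib.Helper2_BlockMore
open Cfsg.Agent.Lib.Helper2_DefectGroup
open Cfsg.Agent.Lib.Helper2_DefectPCore
open Cfsg.Agent.Lib.Helper2_MinMax
open Cfsg.Agent.Lib.Helper2_InducedBlock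
open Cfsg.Agent.Lib.Helper2_BrauerMap
open Cfsg.Agent.Lib.Helper2_InducedDefect
open Cfsg.Agent.Lib.Helper2_BrauerFirst
open Cfsg.Agent.Lib.Helper2_BrauerConverse
open Cfsg.Agent.Lib.Helper2_SylowConj
open Cfsg.Agent.Lib.Helper2_BlockCover
open Cfsg.Agent.Lib.Helper2_BlockConj
open Cfsg.Agent.Lib.Helper2_FirstMain
open Cfsg.Agent.Lib.Helper2_BlockNormal
open Cfsg.Agent.Lib.Helper2_BlockCount
open Cfsg.Agent.Lib.Helper2_BlockCount2
open Cfsg.Agent.Lib.Helper2_BlockKer
open Cfsg.Agent.Lib.Helper2_PRegCount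
open Cfsg.Agent.Lib.Helper2_ExtFirstMain
open Cfsg.Agent.Lib.Helper2_ThirdMain
open Cfsg.Agent.Lib.Helper2_Fong
open Cfsg.Agent.Lib.Helper2_BrauerPairs
open Cfsg.Agent.Lib.Helper2_BrauerInv
open Cfsg.Agent.Lib.Helper2_BrauerChain
open Cfsg.Agent.Lib.Helper2_BrauerPrincipal
open Cfsg.Agent.Lib.Helper2_BrauerMax
open Cfsg.Agent.Lib.Helper2_BrauerConjMax
open Cfsg.Agent.Lib.Helper2_BrauerLocal
open Cfsg.Agent.Lib.Helper2_BrauerStab
open Cfsg.Agent.Lib.Helper2_BlockTrace
open Cfsg.Agent.Lib.Helper2_BlockFusion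
open Cfsg.Agent.Lib.Helper2_AbelianDefect
open Cfsg.Agent.Lib.Helper2_AbelianNilpotent
open Cfsg.Agent.Lib.Helper2_CentricNormal
open Cfsg.Agent.Lib.Helper2_InertialIndex
open Cfsg.Agent.Lib.Helper2_MaxPairCrit
open Cfsg.Agent.Lib.Helper2_BrauerCorrH
open Cfsg.Agent.Lib.Helper2_CyclicInertial
open Cfsg.Agent.Lib.Helper2_Ito
open Cfsg.Agent.Lib.Helper2_CliffordCorr
open scoped ComplexConjugate

universe u


section Transport

variable {G : Type u} [Group G] [Fintype G] {M : Ideal AlgInt}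

theorem inducedIn_eq (Q P : Subgroup G) (hQP : Q ≤ P)
    (hPL : P ≤ Subgroup.centralizer (Q : Set G))
    [Fintype (Subgroup.centralizer (Q : Set G))]
    [Fintype (Subgroup.centralizer (P : Set G))]
    [Fintype (Subgroup.centralizer ((P.subgroupOf (Subgroup.centralizer (Q : Set G)) :
      Subgroup (Subgroup.centralizer (Q : Set G))) : Set (Subgroup.centralizer (Q : Set G))))]
    (ξ : Subgroup.centralizer (P : Set G) → ℂ) (h : Subgroup.centralizer (Q : Set G)) :
    inducedCentralCharIn (Subgroup.centralizer (Q : Set G)) (Subgroup.centralizer (P : Set G))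
        ξ (h : G)
      = inducedCentralChar
          (Subgroup.centralizer ((P.subgroupOf (Subgroup.centralizer (Q : Set G)) :
            Subgroup (Subgroup.centralizer (Q : Set G))) : Set (Subgroup.centralizer (Q : Set G))))
          (fun k => ξ (centIso Q P hQP hPL k)) h := by
  classical
  rw [inducedCentralChar_eq_sum]
  unfold inducedCentralCharIn
  rw [finsum_mem_def, finsum_eq_sum_of_fintype]
  symm
  refine Fintype.sum_equiv (centIso Q P hQP hPL).toEquiv _ _ fun k'' => ?_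
  rw [Set.indicator_apply]
  have e1 : (centIso Q P hQP hPL).toEquiv k'' = centIso Q P hQP hPL k'' := rfl
  rw [e1]
  have hiff : IsConj h ((k'' : Subgroup.centralizer (Q : Set G))) ↔
      centIso Q P hQP hPL k'' ∈ {k : Subgroup.centralizer (P : Set G) |
        ∃ x : Subgroup.centralizer (Q : Set G), (x : G) * (k : G) * (x : G)⁻¹ = (h : G)} := by
    rw [_root_.isConj_iff]
    constructor
    · rintro ⟨c, hc⟩
      refine ⟨c⁻¹, ?_⟩
      rw [centIso_coe, ← hc]
      simp only [Subgroup.coe_mul, Subgroup.coe_inv, inv_inv]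
      group
    · rintro ⟨x, hx⟩
      refine ⟨x⁻¹, ?_⟩
      apply Subtype.ext
      rw [centIso_coe] at hx
      simp only [Subgroup.coe_mul, Subgroup.coe_inv, inv_inv]
      rw [← hx]
      group
  by_cases hc : IsConj h ((k'' : Subgroup.centralizer (Q : Set G)))
  · rw [if_pos hc, if_pos (hiff.mp hc), map_one]
  · rw [if_neg hc, if_neg (fun h' => hc (hiff.mpr h'))]

end Transport


section Main

variable {G : Type u} [Group G] [Fintype G] {M : Ideal AlgInt}

/-- The block of `C_G(Q)` below `(P, c)` is induced from `c` inside `C_G(Q)`. -/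
theorem inducedIn_of_normal {p : ℕ} [hp : Fact p.Prime] (hM : IsPModular p M)
    (Q P : Subgroup G) (hQP : Q ≤ P) (hPL : P ≤ Subgroup.centralizer (Q : Set G))
    (c : Set (IrrCharacter (Subgroup.centralizer (P : Set G))))
    (f : Set (IrrCharacter (Subgroup.centralizer (Q : Set G))))
    (hn : IsNormalSubpair p M Q f P c) :
    IsInducedBlockIn M (Subgroup.centralizer (Q : Set G)) (Subgroup.centralizer (P : Set G))
      c f := by
  classical
  haveI : Fintype (Subgroup.centralizer (Q : Set G)) := Fintype.ofFinite _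
  haveI : Fintype (Subgroup.centralizer (P : Set G)) := Fintype.ofFinite _
  haveI : Fintype (Subgroup.centralizer ((P.subgroupOf (Subgroup.centralizer (Q : Set G)) :
      Subgroup (Subgroup.centralizer (Q : Set G))) : Set (Subgroup.centralizer (Q : Set G)))) :=
    Fintype.ofFinite _
  have hpairL := brauerPairOf_local (M := M) Q P hQP hPL f c hn
  refine ⟨hn.2.1.2, hn.1.2, fun ξ hξ χ hχ h => ?_⟩
  rw [inducedIn_eq Q P hQP hPL]
  exact induced_of_brauerPairOf hM f _ _ hpairL (trIrr (centIso Q P hQP hPL) ξ) ⟨ξ, hξ, rfl⟩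
    χ hχ h

/-- A block induced from `c` inside `C_G(Q)` is the block below `(P, c)`. -/
theorem normal_of_inducedIn {p : ℕ} [hp : Fact p.Prime] (hM : IsPModular p M)
    (Q P : Subgroup G) (hQP : Q ≤ P) (hPL : P ≤ Subgroup.centralizer (Q : Set G))
    (c : Set (IrrCharacter (Subgroup.centralizer (P : Set G))))
    (hPc : IsBrauerPair p M P c)
    (f : Set (IrrCharacter (Subgroup.centralizer (Q : Set G))))
    (hind : IsInducedBlockIn M (Subgroup.centralizer (Q : Set G))
      (Subgroup.centralizer (P : Set G)) c f) :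
    IsNormalSubpair p M Q f P c := by
  classical
  have hMm := hM.2.1
  obtain ⟨fQ, hle⟩ := exists_le hM _ P c hPc Q hQP rfl
  have hPN : P ≤ Subgroup.normalizer (Q : Set G) :=
    hPL.trans (Subgroup.centralizer_le_normalizer _)
  have hn := normal_of_le hM Q P fQ c hle hPc hPN
  have hindQ := inducedIn_of_normal hM Q P hQP hPL c fQ hn
  have : f = fQ := by
    obtain ⟨ξ₀, hceq⟩ := hind.1
    have hξ₀ : ξ₀ ∈ c := by rw [hceq]; exact self_mem_blockOf hMm ξ₀
    obtain ⟨χ₁, hfeq⟩ := hind.2.1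
    obtain ⟨χ₂, hfQeq⟩ := hindQ.2.1
    have hχ₁ : χ₁ ∈ f := by rw [hfeq]; exact self_mem_blockOf hMm χ₁
    have hχ₂ : χ₂ ∈ fQ := by rw [hfQeq]; exact self_mem_blockOf hMm χ₂
    have hs : SameBlock M (χ₂ : Subgroup.centralizer (Q : Set G) → ℂ)
        (χ₁ : Subgroup.centralizer (Q : Set G) → ℂ) := by
      intro h
      have e1 := hind.2.2 ξ₀ hξ₀ χ₁ hχ₁ h
      have e2 := hindQ.2.2 ξ₀ hξ₀ χ₂ hχ₂ h
      have := memLocalIdeal_sub hMm e1 e2
      rwa [sub_sub_sub_cancel_left] at this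
    have hmem : χ₁ ∈ blockOf M (χ₂ : Subgroup.centralizer (Q : Set G) → ℂ) := hs
    rw [hfeq, hfQeq]
    exact blockOf_eq_of_mem hMm hmem
  rw [this]
  exact hn

set_option maxHeartbeats 1600000 in
theorem abelian_free_iff {p : ℕ} [hp : Fact p.Prime] (hM : IsPModular p M)
    (B : Set (IrrCharacter G)) (P : Subgroup G) (hPD : IsDefectGroup p M B P)
    (hPab : ∀ x ∈ P, ∀ y ∈ P, x * y = y * x)
    (c : Set (IrrCharacter (Subgroup.centralizer (P : Set G))))
    (hc : IsInducedBlock M (Subgroup.centralizer (P : Set G)) c B) (T : Subgroup G)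
    (hT : ∀ g : G, g ∈ T ↔ (g ∈ Subgroup.normalizer (P : Set G) ∧
      StabilizesBlock (Subgroup.centralizer (P : Set G)) c g)) :
    (∀ g ∈ T, ∀ x ∈ P, x ≠ 1 → g * x * g⁻¹ = x → g ∈ Subgroup.centralizer (P : Set G)) ↔
      ∀ Q : Subgroup G, Q ≤ P → Q ≠ ⊥ →
        ∀ f : Set (IrrCharacter (Subgroup.centralizer (Q : Set G))),
          IsInducedBlockIn M (Subgroup.centralizer (Q : Set G))
            (Subgroup.centralizer (P : Set G)) c f → IsNilpotentBlock p M f := by
  classical
  have hMm := hM.2.1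
  have hmaxG := maximal_of_induced_defect hM B P hPD c hc
  have hPc := hmaxG.1.1
  -- common local data
  have key : ∀ Q : Subgroup G, Q ≤ P →
      ∀ f : Set (IrrCharacter (Subgroup.centralizer (Q : Set G))),
        IsNormalSubpair p M Q f P c →
        ∀ hQP : Q ≤ P, ∀ hPL : P ≤ Subgroup.centralizer (Q : Set G),
        IsMaximalBrauerPair p M f (P.subgroupOf (Subgroup.centralizer (Q : Set G)))
          (trIrr (centIso Q P hQP hPL) '' c) := by
    intro Q _ f hn hQP hPL
    have hle : SubpairLE p M Q f P c := Relation.ReflTransGen.single hn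
    have hpairL := brauerPairOf_local (M := M) Q P hQP hPL f c hn
    have hdefL := defect_local_of_card hM B P Q c f hmaxG hle P c hPc hle hPL le_rfl
    exact maximal_of_pair_defect hM f _ hdefL _ hpairL
  have hPLof : ∀ Q : Subgroup G, Q ≤ P → P ≤ Subgroup.centralizer (Q : Set G) := by
    intro Q hQP x hx
    rw [Subgroup.mem_centralizer_iff]
    intro y hy
    exact hPab y (hQP hy) x hx
  have hab' : ∀ Q : Subgroup G,
      ∀ x ∈ P.subgroupOf (Subgroup.centralizer (Q : Set G)),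
      ∀ y ∈ P.subgroupOf (Subgroup.centralizer (Q : Set G)), x * y = y * x := by
    intro Q x hx y hy
    apply Subtype.ext
    exact hPab _ (Subgroup.mem_subgroupOf.mp hx) _ (Subgroup.mem_subgroupOf.mp hy)
  constructor
  · intro hfree Q hQP hQne f hind
    have hPL := hPLof Q hQP
    have hKL : Subgroup.centralizer (P : Set G) ≤ Subgroup.centralizer (Q : Set G) :=
      Subgroup.centralizer_le hQP
    haveI : Fintype (Subgroup.centralizer (Q : Set G)) := Fintype.ofFinite _
    have hn := normal_of_inducedIn hM Q P hQP hPL c hPc f hind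
    have hmaxL := key Q hQP f hn hQP hPL
    refine nilpotent_of_stab_le hM f _ _ hmaxL (hab' Q) (fun x hxN hst => ?_)
    have hgN : (x : G) ∈ Subgroup.normalizer (P : Set G) :=
      coe_mem_normalizer P _ hPL x hxN
    have hst' : StabilizesBlock (Subgroup.centralizer (P : Set G)) c (x : G) :=
      (stab_iff_H P _ hPL hKL c x hgN).mp hst
    have hxT : (x : G) ∈ T := (hT _).mpr ⟨hgN, hst'⟩
    obtain ⟨q, hq1⟩ := (Subgroup.ne_bot_iff_exists_ne_one.mp hQne)
    have hq : ((q : Q) : G) ∈ Q := q.2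
    have hcomm : (x : G) * (q : G) * (x : G)⁻¹ = (q : G) := by
      have := Subgroup.mem_centralizer_iff.mp x.2 (q : G) hq
      rw [← this, mul_inv_cancel_right]
    have hq1' : (q : G) ≠ 1 := fun h => hq1 (Subtype.ext h)
    have hxC := hfree _ hxT (q : G) (hQP hq) hq1' hcomm
    rw [cen_eq P _ hPL]
    exact Subgroup.mem_subgroupOf.mpr hxC
  · intro hnil g hgT x hxP hx1 hfix
    set Q : Subgroup G := Subgroup.zpowers x with hQ
    have hQP : Q ≤ P := by
      rw [hQ, Subgroup.zpowers_le]; exact hxP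
    have hQne : Q ≠ ⊥ := by
      rw [hQ, Ne, Subgroup.zpowers_eq_bot]; exact hx1
    have hPL := hPLof Q hQP
    have hKL : Subgroup.centralizer (P : Set G) ≤ Subgroup.centralizer (Q : Set G) :=
      Subgroup.centralizer_le hQP
    haveI : Fintype (Subgroup.centralizer (Q : Set G)) := Fintype.ofFinite _
    obtain ⟨fQ, hle⟩ := exists_le hM _ P c hPc Q hQP rfl
    have hPN : P ≤ Subgroup.normalizer (Q : Set G) :=
      hPL.trans (Subgroup.centralizer_le_normalizer _)
    have hn := normal_of_le hM Q P fQ c hle hPc hPN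
    have hindQ := inducedIn_of_normal hM Q P hQP hPL c fQ hn
    have hmaxL := key Q hQP fQ hn hQP hPL
    have hnilQ := hnil Q hQP hQne fQ hindQ
    have hgL : g ∈ Subgroup.centralizer (Q : Set G) := by
      rw [Subgroup.mem_centralizer_iff]
      intro y hy
      obtain ⟨k, rfl⟩ := Subgroup.mem_zpowers_iff.mp hy
      have hc1 : Commute g x := by
        show g * x = x * g
        calc g * x = g * x * g⁻¹ * g := by group
          _ = x * g := by rw [hfix]
      exact ((hc1.zpow_right k).eq).symm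
    obtain ⟨hgN, hgst⟩ := (hT g).mp hgT
    have hg'N : (⟨g, hgL⟩ : Subgroup.centralizer (Q : Set G))
        ∈ Subgroup.normalizer ((P.subgroupOf (Subgroup.centralizer (Q : Set G)) :
          Subgroup (Subgroup.centralizer (Q : Set G))) : Set (Subgroup.centralizer (Q : Set G))) :=
      mk_mem_normalizer P _ g hgN hgL
    have hst' := (stab_iff_H P _ hPL hKL c ⟨g, hgL⟩ hgN).mpr hgst
    have := stab_le_of_nilpotent hM fQ _ _ hmaxL (hab' Q) hnilQ ⟨g, hgL⟩ hg'N hst'
    rw [cen_eq P _ hPL] at this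
    exact Subgroup.mem_subgroupOf.mp this

end Main

end Cfsg.Agent.Lib.Helper2_AbelianFree
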