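import Mathlib
import Cfsg.Prelude.Def_Characters
import Cfsg.Prelude.Def_Blocks
import Cfsg.Prelude.Def_BlockRank
import Cfsg.Agent.Lib.Helper2_ClassFn
import Cfsg.Agent.Lib.Helper2_CharBasic
import Cfsg.Agent.Lib.Helper2_CharOrtho
import Cfsg.Agent.Lib.Helper2_CharMore
import Cfsg.Agent.Lib.Helper2_CharValues
import Cfsg.Agent.Lib.Helper2_CharSum
import Cfsg.Agent.Lib.Helper2_CharCenter
import Cfsg.Agent.Lib.Helper2_ModM
import Cfsg.Agent.Lib.Helper2_Blocks
import Cfsg.Agent.Lib.Helper2_BlockOrtho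
import Cfsg.Agent.Lib.Helper2_BlockMore
import Cfsg.Agent.Lib.Helper2_BlockNormal
import Cfsg.Agent.Lib.Helper2_DefectPCore
import Cfsg.Agent.Lib.Helper2_BlockConj

set_option autoImplicit false

/-!
# Blocks of a quotient by a normal `p`-subgroup
-/

namespace Cfsg.Agent.Lib.Helper2_BlockQuot

open Cfsg
open Cfsg.Agent.Lib.Helper2_ClassFn
open Cfsg.Agent.Lib.Helper2_CharBasic
open Cfsg.Agent.Lib.Helper2_CharOrtho
open Cfsg.Agent.Lib.Helper2_CharMore
open Cfsg.Agent.Lib.Helper2_CharValues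
open Cfsg.Agent.Lib.Helper2_CharSum
open Cfsg.Agent.Lib.Helper2_CharCenter
open Cfsg.Agent.Lib.Helper2_ModM
open Cfsg.Agent.Lib.Helper2_Blocks
open Cfsg.Agent.Lib.Helper2_BlockOrtho
open Cfsg.Agent.Lib.Helper2_BlockMore
open Cfsg.Agent.Lib.Helper2_BlockNormal
open Cfsg.Agent.Lib.Helper2_DefectPCore
open Cfsg.Agent.Lib.Helper2_BlockConj
open scoped ComplexConjugate

universe u

variable {G : Type u} [Group G] {M : Ideal AlgInt}

/-- The class of `g` in `G` is a multiple of the class of its image in the quotient. -/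
theorem index_centralizer_quot (N : Subgroup G) [N.Normal] [Finite G] (g : G) :
    ∃ k : ℕ, (Subgroup.centralizer ({g} : Set G)).index
      = k * (Subgroup.centralizer ({(g : G ⧸ N)} : Set (G ⧸ N))).index := by
  set C' := (Subgroup.centralizer ({(g : G ⧸ N)} : Set (G ⧸ N))).comap (QuotientGroup.mk' N)
    with hC'
  have hle : Subgroup.centralizer ({g} : Set G) ≤ C' := by
    intro x hx
    rw [hC', Subgroup.mem_comap, Subgroup.mem_centralizer_singleton_iff]
    have := Subgroup.mem_centralizer_singleton_iff.mp hx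
    show (x : G ⧸ N) * (g : G ⧸ N) = (g : G ⧸ N) * (x : G ⧸ N)
    rw [← QuotientGroup.mk_mul, ← QuotientGroup.mk_mul, this]
  have h1 : C'.index = (Subgroup.centralizer ({(g : G ⧸ N)} : Set (G ⧸ N))).index :=
    Subgroup.index_comap_of_surjective _ (QuotientGroup.mk'_surjective N)
  refine ⟨(Subgroup.centralizer ({g} : Set G)).relIndex C', ?_⟩
  rw [← h1]
  exact (Subgroup.relIndex_mul_index hle).symm

theorem centralChar_inflate (N : Subgroup G) [N.Normal] [Finite G] (χ : G ⧸ N → ℂ) (g : G) :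
    ∃ k : ℕ, centralChar (χ ∘ (QuotientGroup.mk : G → G ⧸ N)) g
      = (k : ℂ) * centralChar χ (g : G ⧸ N) := by
  obtain ⟨k, hk⟩ := index_centralizer_quot N g
  refine ⟨k, ?_⟩
  unfold centralChar
  rw [hk]
  simp only [Function.comp, QuotientGroup.mk_one]
  push_cast
  ring

/-- Inflation preserves lying in the same block. -/
theorem sameBlock_inflate (hM : M.IsMaximal) (N : Subgroup G) [N.Normal] [Finite G]
    {χ ψ : G ⧸ N → ℂ} (h : SameBlock M χ ψ) :
    SameBlock M (χ ∘ (QuotientGroup.mk : G → G ⧸ N)) (ψ ∘ (QuotientGroup.mk : G → G ⧸ N)) := by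
  intro g
  obtain ⟨k, hk⟩ := index_centralizer_quot N g
  have e1 : centralChar (χ ∘ (QuotientGroup.mk : G → G ⧸ N)) g
      = (k : ℂ) * centralChar χ (g : G ⧸ N) := by
    unfold centralChar
    rw [hk]
    simp only [Function.comp, QuotientGroup.mk_one]
    push_cast
    ring
  have e2 : centralChar (ψ ∘ (QuotientGroup.mk : G → G ⧸ N)) g
      = (k : ℂ) * centralChar ψ (g : G ⧸ N) := by
    unfold centralChar
    rw [hk]
    simp only [Function.comp, QuotientGroup.mk_one]
    push_cast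
    ring
  rw [e1, e2, ← mul_sub]
  exact memLocalIdeal_mul_int hM (h _) (isIntegral_natCast k)

/-- For a `p`-regular element centralizing the normal `p`-subgroup `P`, the class sizes in `G`
and `G/P` agree. -/
theorem index_centralizer_quot_of_regular {p : ℕ} [hp : Fact p.Prime] (P : Subgroup G)
    [P.Normal] [Finite G] (hP : IsPGroup p P) (x : G) (hx : ¬ p ∣ orderOf x)
    (hPx : P ≤ Subgroup.centralizer ({x} : Set G)) :
    (Subgroup.centralizer ({(x : G ⧸ P)} : Set (G ⧸ P))).index
      = (Subgroup.centralizer ({x} : Set G)).index := by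
  have hcomap : (Subgroup.centralizer ({(x : G ⧸ P)} : Set (G ⧸ P))).comap (QuotientGroup.mk' P)
      = Subgroup.centralizer ({x} : Set G) := by
    ext g
    rw [Subgroup.mem_comap, Subgroup.mem_centralizer_singleton_iff,
      Subgroup.mem_centralizer_singleton_iff]
    constructor
    · intro h
      have h' : ((g * x : G) : G ⧸ P) = ((x * g : G) : G ⧸ P) := h
      -- u = (x * g)⁻¹ * (g * x) ∈ P
      have hu : (x * g)⁻¹ * (g * x) ∈ P := QuotientGroup.eq.mp h'.symm
      set u := (x * g)⁻¹ * (g * x) with hudef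
      have hxu : g⁻¹ * x * g = x * (x⁻¹ * g⁻¹ * x * g) := by group
      set v := x⁻¹ * g⁻¹ * x * g with hvdef
      have hvu : v = u⁻¹ := by rw [hvdef, hudef]; group
      have hvP : v ∈ P := hvu ▸ P.inv_mem hu
      have hcomm : Commute x v := by
        have := Subgroup.mem_centralizer_singleton_iff.mp (hPx hvP)
        exact this.symm
      have hordv : ∃ k : ℕ, orderOf v = p ^ k := by
        obtain ⟨k, hk⟩ := (IsPGroup.iff_orderOf.mp hP) ⟨v, hvP⟩
        exact ⟨k, by rw [← hk, Subgroup.orderOf_mk]⟩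
      obtain ⟨k, hk⟩ := hordv
      have hcop : (orderOf x).Coprime (orderOf v) := by
        rw [hk]
        exact Nat.Coprime.pow_right k
          (Nat.Coprime.symm ((Nat.Prime.coprime_iff_not_dvd hp.out).mpr hx))
      have h1 := hcomm.orderOf_mul_eq_mul_orderOf_of_coprime hcop
      have h2 : orderOf (x * v) = orderOf x := by
        rw [← hxu]
        have := (MulAut.conj g⁻¹).orderOf_eq x
        rw [MulAut.conj_apply, inv_inv] at this
        exact this
      rw [h2] at h1
      have hxpos : 0 < orderOf x := orderOf_pos x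
      have hv1 : orderOf v = 1 := by
        have : orderOf x * 1 = orderOf x * orderOf v := by rw [mul_one]; exact h1
        exact (Nat.eq_of_mul_eq_mul_left hxpos this).symm
      have hv : v = 1 := orderOf_eq_one_iff.mp hv1
      have : g⁻¹ * x * g = x := by rw [hxu, hv, mul_one]
      calc g * x = g * (g⁻¹ * x * g) := by rw [this]
        _ = x * g := by group
    · intro h
      show (g : G ⧸ P) * (x : G ⧸ P) = (x : G ⧸ P) * (g : G ⧸ P)
      rw [← QuotientGroup.mk_mul, ← QuotientGroup.mk_mul, h]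
  rw [← hcomap]
  exact (Subgroup.index_comap_of_surjective _ (QuotientGroup.mk'_surjective P)).symm

/-- A `p`-regular element of the quotient lifts to a `p`-regular element. -/
theorem exists_regular_lift {p : ℕ} [hp : Fact p.Prime] (N : Subgroup G) [N.Normal] [Finite G]
    (q : G ⧸ N) (hq : ¬ p ∣ orderOf q) : ∃ x : G, ¬ p ∣ orderOf x ∧ (x : G ⧸ N) = q := by
  obtain ⟨g, rfl⟩ := QuotientGroup.mk_surjective q
  have hn0 : orderOf g ≠ 0 := (orderOf_pos g).ne'
  obtain ⟨a, m, hpm, hnm⟩ := Nat.exists_eq_pow_mul_and_not_dvd hn0 p hp.out.one_lt.ne'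
  have hcop : (p ^ a).Coprime (orderOf (g : G ⧸ N)) :=
    Nat.Coprime.pow_left a ((Nat.Prime.coprime_iff_not_dvd hp.out).mpr hq)
  obtain ⟨s, hs⟩ := exists_pow_eq_self_of_coprime hcop
  refine ⟨(g ^ (p ^ a)) ^ s, ?_, ?_⟩
  · intro hdvd
    have h1 : orderOf ((g ^ (p ^ a)) ^ s) ∣ orderOf (g ^ (p ^ a)) := orderOf_pow_dvd s
    have h2 : orderOf (g ^ (p ^ a)) ∣ m := by
      apply orderOf_dvd_of_pow_eq_one
      rw [← pow_mul, ← hnm, pow_orderOf_eq_one]
    exact hpm (dvd_trans hdvd (dvd_trans h1 h2))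
  · rw [QuotientGroup.mk_pow, QuotientGroup.mk_pow]
    exact hs

/-- `p`-regular elements lie in a normal subgroup of `p`-power index. -/
theorem mem_of_regular_of_index {p : ℕ} [hp : Fact p.Prime] (C : Subgroup G) [C.Normal]
    [Finite G] (hC : ∃ k : ℕ, C.index = p ^ k) (x : G) (hx : ¬ p ∣ orderOf x) : x ∈ C := by
  obtain ⟨k, hk⟩ := hC
  have h1 : x ^ (p ^ k) ∈ C := hk ▸ C.pow_index_mem x
  have hcop : (p ^ k).Coprime (orderOf x) :=
    Nat.Coprime.pow_left k ((Nat.Prime.coprime_iff_not_dvd hp.out).mpr hx)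
  obtain ⟨s, hs⟩ := exists_pow_eq_self_of_coprime hcop
  rw [← hs]
  exact C.pow_mem h1 s

/-- If `P` is a normal `p`-subgroup with `G / C_G(P)` a `p`-group, then characters of `G/P` whose
inflations lie in the same block of `G` lie in the same block of `G/P`. -/
theorem sameBlock_deflate {p : ℕ} [hp : Fact p.Prime] [Fintype G] (hM : IsPModular p M)
    (P : Subgroup G) [P.Normal] (hP : IsPGroup p P)
    (hC : ∃ k : ℕ, (Subgroup.centralizer (P : Set G)).index = p ^ k)
    (χ ψ : IrrCharacter (G ⧸ P))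
    (h : SameBlock M ((χ : G ⧸ P → ℂ) ∘ (QuotientGroup.mk : G → G ⧸ P))
      ((ψ : G ⧸ P → ℂ) ∘ (QuotientGroup.mk : G → G ⧸ P))) :
    SameBlock M (χ : G ⧸ P → ℂ) (ψ : G ⧸ P → ℂ) := by
  classical
  haveI : Fintype (G ⧸ P) := Fintype.ofFinite _
  have hMm := hM.2.1
  have hreg : ∀ q : G ⧸ P, ¬ p ∣ orderOf q →
      MemLocalIdeal M (centralChar (χ : G ⧸ P → ℂ) q - centralChar (ψ : G ⧸ P → ℂ) q) := by
    intro q hq
    obtain ⟨x, hx, rfl⟩ := exists_regular_lift P q hq
    have hxC : x ∈ Subgroup.centralizer (P : Set G) := mem_of_regular_of_index _ hC x hx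
    have hPx : P ≤ Subgroup.centralizer ({x} : Set G) := by
      intro w hw
      rw [Subgroup.mem_centralizer_singleton_iff]
      exact (Subgroup.mem_centralizer_iff.mp hxC w hw)
    have hidx := index_centralizer_quot_of_regular P hP x hx hPx
    have h1 := h x
    unfold centralChar at h1 ⊢
    rw [hidx]
    simpa only [Function.comp, QuotientGroup.mk_one] using h1
  have key := om_sub_mem_of_supp hMm
    (IsCharacter.isClassFunction (IsIrrCharacter.isCharacter χ.2))
    (IsCharacter.isClassFunction (IsIrrCharacter.isCharacter ψ.2))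
    {q : G ⧸ P | ¬ p ∣ orderOf q} (fun q hq => hreg q hq)
    (blockCoeff_isClassFunction (blockOf M (χ : G ⧸ P → ℂ)))
    (memLocalRing_blockCoeff hMm χ.2)
    (fun q hq => blockCoeff_vanish hM χ q (by
      by_contra hne
      exact hq hne))
  rw [om_blockCoeff _ χ.2, om_blockCoeff _ ψ.2,
    if_pos ((memB_coe _ χ).mpr (self_mem_blockOf hMm χ))] at key
  by_contra hcon
  have hne : ¬ MemB (blockOf M (χ : G ⧸ P → ℂ)) (ψ : G ⧸ P → ℂ) := by
    intro hm
    exact hcon ((memB_coe _ ψ).mp hm)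
  rw [if_neg hne, sub_zero] at key
  exact not_memLocalIdeal_one hMm key

end Cfsg.Agent.Lib.Helper2_BlockQuot
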