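import Mathlib
import Cfsg.Prelude.Def_Characters
import Cfsg.Prelude.Def_Blocks
import Cfsg.Prelude.Def_BlockRank
import Cfsg.Prelude.Def_BlockLocal
import Cfsg.Prelude.Def_BrauerPairs
import Cfsg.Agent.Lib.Helper2_ClassFn
import Cfsg.Agent.Lib.Helper2_CharBasic
import Cfsg.Agent.Lib.Helper2_CharOrtho
import Cfsg.Agent.Lib.Helper2_Clifford
import Cfsg.Agent.Lib.Helper2_CharMore
import Cfsg.Agent.Lib.Helper2_CharDeg
import Cfsg.Agent.Lib.Helper2_CharInd
import Cfsg.Agent.Lib.Helper2_CharExtra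
import Cfsg.Agent.Lib.Helper2_CharInt
import Cfsg.Agent.Lib.Helper2_CharValues
import Cfsg.Agent.Lib.Helper2_CharSum
import Cfsg.Agent.Lib.Helper2_CharComplete
import Cfsg.Agent.Lib.Helper2_CharTable
import Cfsg.Agent.Lib.Helper2_CharCentral
import Cfsg.Agent.Lib.Helper2_ModM
import Cfsg.Agent.Lib.Helper2_Blocks
import Cfsg.Agent.Lib.Helper2_BlockOrtho
import Cfsg.Agent.Lib.Helper2_BlockMore
import Cfsg.Agent.Lib.Helper2_DefectGroup
import Cfsg.Agent.Lib.Helper2_DefectPCore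
import Cfsg.Agent.Lib.Helper2_MinMax
import Cfsg.Agent.Lib.Helper2_InducedBlock
import Cfsg.Agent.Lib.Helper2_BrauerMap
import Cfsg.Agent.Lib.Helper2_InducedDefect
import Cfsg.Agent.Lib.Helper2_BrauerFirst
import Cfsg.Agent.Lib.Helper2_BrauerConverse
import Cfsg.Agent.Lib.Helper2_SylowConj
import Cfsg.Agent.Lib.Helper2_BlockCover
import Cfsg.Agent.Lib.Helper2_BlockConj
import Cfsg.Agent.Lib.Helper2_FirstMain
import Cfsg.Agent.Lib.Helper2_BlockNormal
import Cfsg.Agent.Lib.Helper2_BlockCount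
import Cfsg.Agent.Lib.Helper2_BlockCount2
import Cfsg.Agent.Lib.Helper2_BlockKer
import Cfsg.Agent.Lib.Helper2_PRegCount
import Cfsg.Agent.Lib.Helper2_ExtFirstMain
import Cfsg.Agent.Lib.Helper2_ThirdMain
import Cfsg.Agent.Lib.Helper2_Fong
import Cfsg.Agent.Lib.Helper2_BrauerPairs
import Cfsg.Agent.Lib.Helper2_BrauerInv
import Cfsg.Agent.Lib.Helper2_Conj
import Cfsg.Agent.Lib.Helper2_BrauerChain
import Cfsg.Agent.Lib.Helper2_BrauerPrincipal
import Cfsg.Agent.Lib.Helper2_BrauerMax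
import Cfsg.Agent.Lib.Helper2_BrauerConjMax
import Cfsg.Agent.Lib.Helper2_BrauerLocal
import Cfsg.Agent.Lib.Helper2_BrauerStab
import Cfsg.Agent.Lib.Helper2_BlockTrace
import Cfsg.Agent.Lib.Helper2_BlockFusion
import Cfsg.Agent.Lib.Helper2_AbelianDefect
import Cfsg.Agent.Lib.Helper2_AbelianNilpotent
import Cfsg.Agent.Lib.Helper2_CentricNormal
import Cfsg.Agent.Lib.Helper2_InertialIndex
import Cfsg.Agent.Lib.Helper2_Ito
import Cfsg.Agent.Lib.Helper2_MaxPairCrit
import Cfsg.Agent.Lib.Helper2_CentralDefect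
import Cfsg.Agent.Lib.Helper2_CentralDefect2


set_option autoImplicit false

/-!
# Induction from subgroups containing the centralizer of a defect group
-/

namespace Cfsg.Agent.Lib.Helper2_CentInduced

open Cfsg
open Cfsg.Agent.Lib.Helper2_ClassFn
open Cfsg.Agent.Lib.Helper2_CharBasic
open Cfsg.Agent.Lib.Helper2_CharOrtho
open Cfsg.Agent.Lib.Helper2_Clifford
open Cfsg.Agent.Lib.Helper2_CharMore
open Cfsg.Agent.Lib.Helper2_CharDeg
open Cfsg.Agent.Lib.Helper2_CharInd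
open Cfsg.Agent.Lib.Helper2_CharExtra
open Cfsg.Agent.Lib.Helper2_CharValues
open Cfsg.Agent.Lib.Helper2_CharSum
open Cfsg.Agent.Lib.Helper2_CharComplete
open Cfsg.Agent.Lib.Helper2_CharTable
open Cfsg.Agent.Lib.Helper2_CharCentral
open Cfsg.Agent.Lib.Helper2_ModM
open Cfsg.Agent.Lib.Helper2_Blocks
open Cfsg.Agent.Lib.Helper2_BlockOrtho
open Cfsg.Agent.Lib.Helper2_BlockMore
open Cfsg.Agent.Lib.Helper2_DefectGroup
open Cfsg.Agent.Lib.Helper2_DefectPCore
open Cfsg.Agent.Lib.Helper2_MinMax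
open Cfsg.Agent.Lib.Helper2_InducedBlock
open Cfsg.Agent.Lib.Helper2_BrauerMap
open Cfsg.Agent.Lib.Helper2_InducedDefect
open Cfsg.Agent.Lib.Helper2_BrauerFirst
open Cfsg.Agent.Lib.Helper2_BrauerConverse
open Cfsg.Agent.Lib.Helper2_SylowConj
open Cfsg.Agent.Lib.Helper2_BlockCover
open Cfsg.Agent.Lib.Helper2_BlockConj
open Cfsg.Agent.Lib.Helper2_FirstMain
open Cfsg.Agent.Lib.Helper2_BlockNormal
open Cfsg.Agent.Lib.Helper2_BlockCount
open Cfsg.Agent.Lib.Helper2_BlockCount2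
open Cfsg.Agent.Lib.Helper2_BlockKer
open Cfsg.Agent.Lib.Helper2_PRegCount
open Cfsg.Agent.Lib.Helper2_ExtFirstMain
open Cfsg.Agent.Lib.Helper2_ThirdMain
open Cfsg.Agent.Lib.Helper2_Fong
open Cfsg.Agent.Lib.Helper2_BrauerPairs
open Cfsg.Agent.Lib.Helper2_BrauerInv
open Cfsg.Agent.Lib.Helper2_BrauerChain
open Cfsg.Agent.Lib.Helper2_BrauerPrincipal
open Cfsg.Agent.Lib.Helper2_BrauerMax
open Cfsg.Agent.Lib.Helper2_BrauerConjMax
open Cfsg.Agent.Lib.Helper2_BrauerLocal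
open Cfsg.Agent.Lib.Helper2_BrauerStab
open Cfsg.Agent.Lib.Helper2_BlockTrace
open Cfsg.Agent.Lib.Helper2_BlockFusion
open Cfsg.Agent.Lib.Helper2_AbelianDefect
open Cfsg.Agent.Lib.Helper2_AbelianNilpotent
open Cfsg.Agent.Lib.Helper2_CentricNormal
open Cfsg.Agent.Lib.Helper2_InertialIndex
open Cfsg.Agent.Lib.Helper2_MaxPairCrit
open Cfsg.Agent.Lib.Helper2_Ito
open Cfsg.Agent.Lib.Helper2_CliffordCorr
open scoped ComplexConjugate

universe u


section Transport

variable {G : Type u} [Group G] [Fintype G] {M : Ideal AlgInt}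

theorem exists_dg {p : ℕ} [hp : Fact p.Prime] (hMm : M.IsMaximal)
    (B : Set (IrrCharacter G)) (hB : IsPBlock M B) :
    ∃ D : Subgroup G, IsDefectGroup p M B D := by
  obtain ⟨χ₀, rfl⟩ := hB
  obtain ⟨g, hg⟩ := exists_defectClass hMm χ₀
  exact ⟨_, g, hg, default, rfl⟩

/-- The induced central character from a subgroup `L'` of `H`, computed through the image of
`L'` in `G`. -/
theorem inducedCentralChar_map (H : Subgroup G) [Fintype H] (L' : Subgroup H) [Fintype L']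
    [Fintype (L'.map H.subtype)] [Fintype ((L'.map H.subtype).subgroupOf H)]
    (hLH : L'.map H.subtype ≤ H) (ξ' : L' → ℂ) (n : H) :
    inducedCentralChar ((L'.map H.subtype).subgroupOf H)
        (fun k => ξ' ((L'.equivMapOfInjective H.subtype H.subtype_injective).symm
          (Subgroup.subgroupOfEquivOfLe hLH k))) n
      = inducedCentralChar L' ξ' n := by
  classical
  rw [inducedCentralChar_eq_sum, inducedCentralChar_eq_sum]
  set ι := L'.equivMapOfInjective H.subtype H.subtype_injective with hι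
  set E : ↥((L'.map H.subtype).subgroupOf H) ≃ ↥L' :=
    ((Subgroup.subgroupOfEquivOfLe hLH).trans ι.symm).toEquiv with hE
  have hEcoe : ∀ k : ↥((L'.map H.subtype).subgroupOf H), ((E k : L') : H) = (k : H) := by
    intro k
    apply Subtype.ext
    have h1 : ((ι (E k) : L'.map H.subtype) : G) = (((E k : L') : H) : G) :=
      Subgroup.coe_equivMapOfInjective_apply L' H.subtype H.subtype_injective (E k)
    rw [← h1]
    show ((ι (ι.symm (Subgroup.subgroupOfEquivOfLe hLH k)) : L'.map H.subtype) : G) = _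
    rw [MulEquiv.apply_symm_apply]
    rfl
  refine Fintype.sum_equiv E _ _ fun k => ?_
  have h1 : ι.symm (Subgroup.subgroupOfEquivOfLe hLH k) = E k := rfl
  have h2 : ι.symm (Subgroup.subgroupOfEquivOfLe hLH (1 : ↥((L'.map H.subtype).subgroupOf H)))
      = (1 : L') := by
    rw [map_one, map_one]
  rw [h1, h2, hEcoe]

end Transport


section Main

variable {G : Type u} [Group G] [Fintype G] {M : Ideal AlgInt}

set_option maxHeartbeats 1600000 in
theorem cent_induced {p : ℕ} [hp : Fact p.Prime] (hM : IsPModular p M)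
    (H : Subgroup G) [Fintype H] (b : Set (IrrCharacter H)) (hb : IsPBlock M b)
    (D₀ : Subgroup H) (hD₀ : IsDefectGroup p M b D₀)
    (hC : Subgroup.centralizer ((D₀.map H.subtype : Subgroup G) : Set G) ≤ H) :
    InducedBlockDefined M H b ∧ ∀ B : Set (IrrCharacter G), IsInducedBlock M H b B →
      (∃ D : Subgroup G, IsDefectGroup p M B D ∧
        (Subgroup.center ↥D).map D.subtype
          ≤ ((Subgroup.center ↥D₀).map D₀.subtype).map H.subtype ∧
        ((Subgroup.center ↥D₀).map D₀.subtype).map H.subtype ≤ D₀.map H.subtype ∧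
        D₀.map H.subtype ≤ D) ∧
      (∀ D : Subgroup G, IsDefectGroup p M B D → IsMulCommutative ↥D →
        IsDefectGroup p M B (D₀.map H.subtype)) := by
  classical
  have hMm := hM.2.1
  set D : Subgroup G := D₀.map H.subtype with hD
  set K : Subgroup G := Subgroup.centralizer (D : Set G) with hK
  have hD₀p : IsPGroup p D₀ := isPGroup_of_isDefectGroup hD₀
  have hDp : IsPGroup p D := hD₀p.map H.subtype
  set L' : Subgroup H := D₀ ⊔ Subgroup.centralizer (D₀ : Set H) with hL'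
  set L₀ : Subgroup G := L'.map H.subtype with hL₀
  have hKmap : (Subgroup.centralizer (D₀ : Set H)).map H.subtype = K := by
    ext x
    rw [Subgroup.mem_map]
    constructor
    · rintro ⟨k, hk, rfl⟩
      rw [hK, Subgroup.mem_centralizer_iff]
      rintro _ ⟨y₀, hy₀, rfl⟩
      have := Subgroup.mem_centralizer_iff.mp hk y₀ hy₀
      exact congrArg Subtype.val this
    · intro hx
      refine ⟨⟨x, hC hx⟩, ?_, rfl⟩
      rw [Subgroup.mem_centralizer_iff]
      intro y₀ hy₀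
      apply Subtype.ext
      exact Subgroup.mem_centralizer_iff.mp hx (y₀ : G) ⟨y₀, hy₀, rfl⟩
  have hL₀eq : L₀ = D ⊔ K := by
    rw [hL₀, hL', Subgroup.map_sup, hKmap]
  have hL₀H : L₀ ≤ H := Subgroup.map_subtype_le L'
  have hDL₀ : D ≤ L₀ := by rw [hL₀eq]; exact le_sup_left
  have hKL₀ : K ≤ L₀ := by rw [hL₀eq]; exact le_sup_right
  have hL₀N : L₀ ≤ Subgroup.normalizer (D : Set G) := by
    rw [hL₀eq]; exact sup_le Subgroup.le_normalizer (Subgroup.centralizer_le_normalizer _)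
  haveI : Fintype L' := Fintype.ofFinite _
  haveI : Fintype L₀ := Fintype.ofFinite _
  haveI : Fintype (L₀.subgroupOf H) := Fintype.ofFinite _
  haveI : Fintype K := Fintype.ofFinite _
  haveI : Fintype (K.subgroupOf L₀) := Fintype.ofFinite _
  -- Step 1
  obtain ⟨⟨b', hb'd, hb'ind⟩, _⟩ := ext_firstMain hM b hb D₀ hD₀
  -- Step 2
  set ι := L'.equivMapOfInjective H.subtype H.subtype_injective with hι
  set br : Set (IrrCharacter L₀) := trIrr ι.symm '' b' with hbr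
  obtain ⟨ξ'₀, hb'eq⟩ := hb'ind.1
  have hξ'₀ : ξ'₀ ∈ b' := by rw [hb'eq]; exact self_mem_blockOf hMm ξ'₀
  set θ₀ : IrrCharacter L₀ := trIrr ι.symm ξ'₀ with hθ₀
  have hbreq : br = blockOf M (θ₀ : L₀ → ℂ) := by
    rw [hbr, hb'eq, blockOf_trIrr]
  -- Step 3
  have hbrd : IsDefectGroup p M br (D.subgroupOf L₀) := by
    obtain ⟨Δ, hΔ⟩ := exists_dg (p := p) hMm br ⟨θ₀, hbreq⟩
    haveI : (D.subgroupOf L₀).Normal :=
      (Subgroup.normal_subgroupOf_iff_le_normalizer hDL₀).mpr hL₀N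
    have hle : D.subgroupOf L₀ ≤ Δ := by
      rw [hbreq] at hΔ
      exact normal_pSubgroup_le_defectGroup hM (D.subgroupOf L₀)
        (hDp.comap_of_injective _ (Subgroup.subtype_injective _)) θ₀ Δ hΔ
    have hcΔ : Nat.card Δ = p ^ blockDefect p br := by
      rw [hbreq] at hΔ ⊢; exact card_defectGroup hM θ₀ Δ hΔ
    have hcD' : Nat.card (D₀.subgroupOf L') = p ^ blockDefect p b' := by
      rw [hb'eq] at hb'd ⊢; exact card_defectGroup hM ξ'₀ _ hb'd
    have hdef : blockDefect p br = blockDefect p b' := blockDefect_image_trIrr p ι.symm b'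
    have hc1 : Nat.card (D.subgroupOf L₀) = Nat.card D :=
      Nat.card_congr (Subgroup.subgroupOfEquivOfLe hDL₀).toEquiv
    have hc2 : Nat.card D = Nat.card D₀ :=
      Subgroup.card_map_of_injective H.subtype_injective
    have hc3 : Nat.card (D₀.subgroupOf L') = Nat.card D₀ :=
      Nat.card_congr (Subgroup.subgroupOfEquivOfLe le_sup_left).toEquiv
    have : D.subgroupOf L₀ = Δ :=
      Subgroup.eq_of_le_of_card_ge hle (by rw [hcΔ, hdef, ← hcD', hc3, hc1, hc2])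
    rw [this]; exact hΔ
  -- Step 4
  have hkey : ∀ ξ' ∈ b', ∀ ζ ∈ b, ∀ g : G,
      MemLocalIdeal M (inducedCentralChar L₀ (trIrr ι.symm ξ' : L₀ → ℂ) g
        - inducedCentralChar H (ζ : H → ℂ) g) := by
    intro ξ' hξ' ζ hζ g
    refine induced_trans hMm L₀ H hL₀H _
      (IsCharacter.isClassFunction (IsIrrCharacter.isCharacter ζ.2)) ?_ g
    intro n
    have h1 := hb'ind.2.2 ξ' hξ' ζ hζ n
    have h2 := inducedCentralChar_map H L' hL₀H (ξ' : L' → ℂ) n
    rw [← h2] at h1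
    exact h1
  -- Step 5
  have hdefd : InducedBlockDefined M H b := by
    obtain ⟨χ, hχ⟩ := inducedBlockDefined_of_brauer hM D L₀ hDp hDL₀ hKL₀ hL₀N θ₀
    refine ⟨blockOf M (χ : G → ℂ), hb, ⟨χ, rfl⟩, fun ζ hζ χ' hχ' g => ?_⟩
    have h1 := hkey ξ'₀ hξ'₀ ζ hζ g
    have h2 := hχ.2.2 θ₀ (self_mem_blockOf hMm θ₀) χ' hχ' g
    have := memLocalIdeal_sub hMm h2 h1
    rwa [sub_sub_sub_cancel_left] at this
  refine ⟨hdefd, fun B hind => ?_⟩
  have hB := hind.2.1
  obtain ⟨ζ₀, hζ₀⟩ : ∃ ζ₀, ζ₀ ∈ b := by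
    obtain ⟨ζ, rfl⟩ := hb
    exact ⟨ζ, self_mem_blockOf hMm ζ⟩
  have hindr : IsInducedBlock M L₀ (blockOf M (θ₀ : L₀ → ℂ)) B := by
    rw [← hbreq]
    refine ⟨⟨θ₀, hbreq⟩, hB, ?_⟩
    rintro _ ⟨ξ', hξ', rfl⟩ χ hχ g
    have h1 := hkey ξ' hξ' ζ₀ hζ₀ g
    have h2 := hind.2.2 ζ₀ hζ₀ χ hχ g
    have := memLocalIdeal_add hMm h1 h2
    rwa [sub_add_sub_cancel] at this
  obtain ⟨θK, hθK⟩ := exists_under (K.subgroupOf L₀) θ₀.2
  set ξK : IrrCharacter K := trIrr (Subgroup.subgroupOfEquivOfLe hKL₀).symm θK with hξK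
  have hov : classInner (fun k : K.subgroupOf L₀ => (θ₀ : L₀ → ℂ) k)
      (fun k => (ξK : K → ℂ) (Subgroup.subgroupOfEquivOfLe hKL₀ k)) ≠ 0 := by
    have : (fun k => (ξK : K → ℂ) (Subgroup.subgroupOfEquivOfLe hKL₀ k))
        = (θK : _ → ℂ) := by
      funext k
      rw [hξK, trIrr_apply, MulEquiv.symm_apply_apply]
    rw [this]; exact hθK
  have hpair := pair_of_induced hM D hDp L₀ hL₀eq hKL₀ ξK θ₀ hov B hindr
  have hΔeq := fun Δ hΔ => defect_under hM D hDp L₀ hL₀eq hKL₀ ξK θ₀ hov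
    (by rw [← hbreq]; exact hbrd) Δ hΔ
  obtain ⟨D', e', hmax, hle⟩ := exists_maximal_above (p := p) (M := M) B _ D _ hpair rfl
  have hDD' : D ≤ D' := le_fst hle
  have hD'd : IsDefectGroup p M B D' := maximal_pair_defect hM B D' e' hmax
  obtain ⟨Δ, hΔ, hΔle⟩ := centralizer_le_defect hM D' D e' _ hmax.1.1 hle
  rw [hΔeq Δ hΔ] at hΔle
  have hinf : ∀ x : G, x ∈ D' → x ∈ K → x ∈ D := by
    intro x hx hxK
    have : (⟨x, hxK⟩ : K) ∈ (D' ⊓ K).subgroupOf K := Subgroup.mem_subgroupOf.mpr ⟨hx, hxK⟩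
    exact (Subgroup.mem_subgroupOf.mp (hΔle this)).1
  have hcenter : ∀ x : G, x ∈ D' → (∀ y ∈ D', y * x = x * y) →
      x ∈ ((Subgroup.center ↥D₀).map D₀.subtype).map H.subtype := by
    intro x hx hcomm
    have hxK : x ∈ K := by
      rw [hK, Subgroup.mem_centralizer_iff]
      intro y hy
      exact hcomm y (hDD' hy)
    obtain ⟨d₀, hd₀, hd₀x⟩ := hinf x hx hxK
    refine ⟨d₀, ⟨⟨d₀, hd₀⟩, ?_, rfl⟩, hd₀x⟩
    show (⟨d₀, hd₀⟩ : D₀) ∈ Subgroup.center ↥D₀
    rw [Subgroup.mem_center_iff]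
    intro y
    apply Subtype.ext
    apply Subtype.ext
    have := Subgroup.mem_centralizer_iff.mp hxK ((y : H) : G) ⟨(y : H), y.2, rfl⟩
    rw [← hd₀x] at this
    exact this
  have hsecond : ((Subgroup.center ↥D₀).map D₀.subtype).map H.subtype ≤ D :=
    Subgroup.map_mono (Subgroup.map_subtype_le _)
  refine ⟨⟨D', hD'd, ?_, hsecond, hDD'⟩, ?_⟩
  · rintro _ ⟨z, hz, rfl⟩
    apply hcenter (z : G) z.2
    intro y hy
    have := Subgroup.mem_center_iff.mp hz ⟨y, hy⟩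
    exact congrArg Subtype.val this
  · intro D₂ hD₂ hcomm
    obtain ⟨χB, rfl⟩ := hB
    obtain ⟨x, hx⟩ := defectGroup_conj' hM χB D₂ D' hD₂ hD'd
    have hcommD' : ∀ a ∈ D', ∀ c ∈ D', c * a = a * c := by
      intro a ha c hc
      rw [hx] at ha hc
      obtain ⟨a₂, ha₂, rfl⟩ := ha
      obtain ⟨c₂, hc₂, rfl⟩ := hc
      have := mul_comm' (⟨c₂, hc₂⟩ : D₂) ⟨a₂, ha₂⟩
      have h2 : c₂ * a₂ = a₂ * c₂ := congrArg Subtype.val this
      rw [← map_mul, ← map_mul, h2]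
    have hD'D : D' ≤ D := fun a ha => hsecond (hcenter a ha (fun c hc => hcommD' a ha c hc))
    have : D = D' := le_antisymm hDD' hD'D
    rw [this]
    exact hD'd

end Main

end Cfsg.Agent.Lib.Helper2_CentInduced
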