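import Mathlib
import Cfsg.Prelude.Def_Characters
import Cfsg.Prelude.Def_Blocks
import Cfsg.Agent.Lib.Helper2_ClassFn
import Cfsg.Agent.Lib.Helper2_CharBasic
import Cfsg.Agent.Lib.Helper2_CharOrtho
import Cfsg.Agent.Lib.Helper2_CharValues
import Cfsg.Agent.Lib.Helper2_CharComplete
import Cfsg.Agent.Lib.Helper2_CharSum
import Cfsg.Agent.Lib.Helper2_CharCentral
import Cfsg.Agent.Lib.Helper2_CharInt
import Cfsg.Agent.Lib.Helper2_ModM
import Cfsg.Agent.Lib.Helper2_Blocks
import Cfsg.Agent.Lib.Helper2_BlockOrtho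
import Cfsg.Agent.Lib.Helper2_BlockKer
import Cfsg.Agent.Lib.Helper2_PRegular

set_option autoImplicit false

/-!
# A criterion for membership in the principal block
-/

namespace Cfsg.Agent.Lib.Helper2_PrincipalCrit

open Cfsg
open Cfsg.Agent.Lib.Helper2_ClassFn
open Cfsg.Agent.Lib.Helper2_CharBasic
open Cfsg.Agent.Lib.Helper2_CharOrtho
open Cfsg.Agent.Lib.Helper2_CharValues
open Cfsg.Agent.Lib.Helper2_CharComplete
open Cfsg.Agent.Lib.Helper2_CharSum
open Cfsg.Agent.Lib.Helper2_CharCentral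
open Cfsg.Agent.Lib.Helper2_CharInt
open Cfsg.Agent.Lib.Helper2_ModM
open Cfsg.Agent.Lib.Helper2_Blocks
open Cfsg.Agent.Lib.Helper2_BlockOrtho
open Cfsg.Agent.Lib.Helper2_BlockKer
open Cfsg.Agent.Lib.Helper2_PRegular
open scoped ComplexConjugate

section Main

universe u

variable {G : Type u} [Group G] [Fintype G] {M : Ideal AlgInt}

/-- Sum over the `p`-regular elements. -/
noncomputable def regSum (p : ℕ) (ψ : G → ℂ) : ℂ := ∑ x : G, rp p ψ x

theorem conj_regSum (p : ℕ) {ψ : G → ℂ} (hψ : IsCharacter G ψ) :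
    conj (regSum p ψ) = regSum p ψ := by
  classical
  unfold regSum
  rw [map_sum]
  refine Fintype.sum_equiv (Equiv.inv G) _ _ (fun x => ?_)
  show conj (rp p ψ x) = rp p ψ x⁻¹
  by_cases hx : p ∣ orderOf x
  · rw [rp_of_dvd hx, rp_of_dvd (by rwa [orderOf_inv]), map_zero]
  · rw [rp_of_not_dvd hx, rp_of_not_dvd (by rwa [orderOf_inv]), IsCharacter.apply_inv hψ]

theorem classInner_rp_one (p : ℕ) {ψ : G → ℂ} (hψ : IsCharacter G ψ) :
    classInner (rp p (fun _ : G => (1 : ℂ))) ψ = (Nat.card G : ℂ)⁻¹ * regSum p ψ := by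
  classical
  rw [classInner_def, ← conj_regSum p hψ]
  congr 1
  unfold regSum
  rw [map_sum]
  refine Finset.sum_congr rfl fun x _ => ?_
  by_cases hx : p ∣ orderOf x
  · rw [rp_of_dvd hx, rp_of_dvd hx, zero_mul, map_zero]
  · rw [rp_of_not_dvd hx, rp_of_not_dvd hx, one_mul]

theorem mem_principal_of_regSum_ne_zero {p : ℕ} (hM : IsPModular p M) (ψ : IrrCharacter G)
    (h : regSum p (ψ : G → ℂ) ≠ 0) : ψ ∈ principalBlock M G := by
  classical
  by_contra hnot
  have h1 : IsIrrCharacter G (fun _ : G => (1 : ℂ)) := isIrrCharacter_one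
  have h0 := classInner_rp_eq_zero hM h1 h1 (sameBlock_refl hM.2.1 _) ψ.2 hnot
  rw [classInner_rp_one p (IsIrrCharacter.isCharacter ψ.2)] at h0
  exact h ((mul_eq_zero.mp h0).resolve_left (inv_ne_zero card_ne_zero_complex))

theorem int_dvd_of_memLocalIdeal {p : ℕ} (hM : IsPModular p M) (z : ℤ)
    (hz : MemLocalIdeal M (z : ℂ)) : (p : ℤ) ∣ z := by
  by_contra hnd
  have hcop : Nat.Coprime z.natAbs p := by
    rw [Nat.coprime_comm, Nat.Prime.coprime_iff_not_dvd hM.1]
    intro h
    exact hnd (Int.natCast_dvd.mpr h)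
  apply not_memLocalIdeal_nat hM z.natAbs hcop
  rcases Int.natAbs_eq z with h | h
  · have : ((z.natAbs : ℕ) : ℂ) = (z : ℂ) := by
      rw [← Int.cast_natCast, ← h]
    rw [this]; exact hz
  · have : ((z.natAbs : ℕ) : ℂ) = -(z : ℂ) := by
      rw [← Int.cast_natCast, ← Int.cast_neg]
      congr 1
      omega
    rw [this]; exact memLocalIdeal_neg hM.2.1 hz

theorem memLocalIdeal_natCast_of_dvd {p : ℕ} (hM : IsPModular p M) (n : ℕ) (h : p ∣ n) :
    MemLocalIdeal M (n : ℂ) := by
  obtain ⟨k, rfl⟩ := h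
  have hpM : MemLocalIdeal M ((p : ℕ) : ℂ) := by
    have := memLocalIdeal_of_mem hM.2.1 hM.2.2
    simpa using this
  have := memLocalIdeal_mul_ring hM.2.1 hpM
    (memLocalRing_of_isIntegral hM.2.1 (isIntegral_nat k))
  rw [mul_comm] at this
  exact_mod_cast this

open Classical in
theorem regSum_one (p : ℕ) :
    regSum p (fun _ : G => (1 : ℂ))
      = ((Finset.univ.filter (fun x : G => ¬ p ∣ orderOf x)).card : ℂ) := by
  unfold regSum
  rw [Finset.card_eq_sum_ones, Finset.sum_filter]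
  push_cast
  refine Finset.sum_congr rfl fun x _ => ?_
  by_cases hx : p ∣ orderOf x
  · rw [rp_of_dvd hx, if_neg (not_not.mpr hx)]
  · rw [rp_of_not_dvd hx, if_pos hx]

theorem om_rp_one (p : ℕ) (ψ : G → ℂ) :
    om ψ (rp p (fun _ : G => (1 : ℂ))) = regSum p ψ / ψ 1 := by
  classical
  unfold om regSum
  congr 1
  refine Finset.sum_congr rfl fun x _ => ?_
  by_cases hx : p ∣ orderOf x
  · rw [rp_of_dvd hx, rp_of_dvd hx, zero_mul]
  · rw [rp_of_not_dvd hx, rp_of_not_dvd hx, one_mul]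

theorem rp_one_isClassFunction (p : ℕ) :
    IsClassFunction G (rp p (fun _ : G => (1 : ℂ))) := by
  classical
  intro x h
  have hord : orderOf (h * x * h⁻¹) = orderOf x := by
    have := orderOf_injective (MulAut.conj h).toMonoidHom (MulAut.conj h).injective x
    simpa using this
  by_cases hx : p ∣ orderOf x
  · rw [rp_of_dvd hx, rp_of_dvd (by rwa [hord])]
  · rw [rp_of_not_dvd hx, rp_of_not_dvd (by rwa [hord])]

/-- For `ψ` in the principal block, `regSum ψ / ψ 1` is congruent to the number of `p`-regular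
elements. -/
theorem regSum_congr {p : ℕ} (hM : IsPModular p M) (ψ : IrrCharacter G)
    (hψ : ψ ∈ principalBlock M G) :
    MemLocalIdeal M (regSum p (fun _ : G => (1 : ℂ)) - regSum p (ψ : G → ℂ) / (ψ : G → ℂ) 1) := by
  classical
  have h1 : IsIrrCharacter G (fun _ : G => (1 : ℂ)) := isIrrCharacter_one
  have h := om_sub_mem hM.2.1 (IsCharacter.isClassFunction (IsIrrCharacter.isCharacter h1))
    (IsCharacter.isClassFunction (IsIrrCharacter.isCharacter ψ.2)) hψ
    (rp_one_isClassFunction p) (fun g => by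
      by_cases hx : p ∣ orderOf g
      · rw [rp_of_dvd hx]; exact memLocalRing_zero hM.2.1
      · rw [rp_of_not_dvd hx]; exact memLocalRing_one hM.2.1)
  rw [om_rp_one, om_rp_one] at h
  simpa using h

open Classical in
theorem not_dvd_card_regular {p : ℕ} [hp : Fact p.Prime] (hM : IsPModular p M) :
    ¬ p ∣ (Finset.univ.filter (fun x : G => ¬ p ∣ orderOf x)).card := by
  intro hdvd
  have hMm := hM.2.1
  set a := (Nat.card G).factorization p with ha
  set Θ : G → ℂ := fun x => if p ∣ orderOf x then (0 : ℂ) else ((p ^ a : ℕ) : ℂ) with hΘ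
  have hgen : IsGeneralizedCharacter G Θ := by
    have := pregular_genchar p (isIrrCharacter_one (G := G)) 1 (by simp)
    have heq : Θ = (fun x : G => if p ∣ orderOf x then (0 : ℂ) else
      ((p ^ ((Nat.card G).factorization p - (1 : ℕ).factorization p) : ℕ) : ℂ)
        * (fun _ : G => (1 : ℂ)) x) := by
      funext x
      simp [hΘ, ha]
    rw [heq]; exact this
  have hΘrp : Θ = ((p ^ a : ℕ) : ℂ) • rp p (fun _ : G => (1 : ℂ)) := by
    funext x
    by_cases hx : p ∣ orderOf x
    · simp [hΘ, hx, rp_of_dvd hx]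
    · simp [hΘ, hx, rp_of_not_dvd hx]
  obtain ⟨c, hc, hexp⟩ := IsGeneralizedCharacter.exists_int_expansion hgen
  have hm : p ^ a * (Nat.card G / p ^ a) = Nat.card G := Nat.ordProj_mul_ordCompl_eq_self _ p
  set m := Nat.card G / p ^ a with hmdef
  have hG0 : Nat.card G ≠ 0 := Nat.card_pos.ne'
  have hmcop : Nat.Coprime m p :=
    (Nat.coprime_ordCompl hp.out hG0).symm
  have hm0 : (m : ℂ) ≠ 0 := by
    intro h
    have : m = 0 := by exact_mod_cast h
    rw [this, mul_zero] at hm
    exact hG0 hm.symm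
  have hpa0 : ((p ^ a : ℕ) : ℂ) ≠ 0 := by exact_mod_cast (pow_pos hp.out.pos a).ne'
  -- all coefficients divisible by p
  have hdiv : ∀ ψ ∈ irrFinset G, (p : ℤ) ∣ c ψ := by
    intro ψ hψ
    have hψi := mem_irrFinset.mp hψ
    have hψc := IsIrrCharacter.isCharacter hψi
    apply int_dvd_of_memLocalIdeal hM
    rw [← hc ψ hψi, hΘrp, classInner_smul_left, classInner_rp_one p hψc]
    by_cases hB : (⟨ψ, hψi⟩ : IrrCharacter G) ∈ principalBlock M G
    · have h1 := regSum_congr hM ⟨ψ, hψi⟩ hB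
      rw [regSum_one] at h1
      have h2 := memLocalIdeal_natCast_of_dvd hM _ hdvd
      have h3 : MemLocalIdeal M (regSum p ψ / ψ 1) := by
        have := memLocalIdeal_sub hMm h2 h1
        simpa using this
      obtain ⟨d, hdpos, hd⟩ := IsIrrCharacter.apply_one hψi
      have hd0 : (d : ℂ) ≠ 0 := by exact_mod_cast hdpos.ne'
      have hw : MemLocalRing M ((d : ℂ) * (m : ℂ)⁻¹) :=
        memLocalRing_mul hMm (memLocalRing_of_isIntegral hMm (isIntegral_nat d))
          (memLocalRing_natCast_inv hM m hmcop)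
      have h4 := memLocalIdeal_mul_ring hMm h3 hw
      convert h4 using 1
      have hcard : (Nat.card G : ℂ) = ((p ^ a : ℕ) : ℂ) * (m : ℂ) := by exact_mod_cast hm.symm
      rw [hcard, hd]
      field_simp
    · have h1 : IsIrrCharacter G (fun _ : G => (1 : ℂ)) := isIrrCharacter_one
      have h0 := classInner_rp_eq_zero hM h1 h1 (sameBlock_refl hMm _) hψi hB
      rw [classInner_rp_one p hψc] at h0
      rw [h0, mul_zero]
      exact memLocalIdeal_zero hMm
  -- restriction to a Sylow subgroup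
  obtain S : Sylow p G := default
  haveI : Fintype (S : Subgroup G) := Fintype.ofFinite _
  have hcardS : Nat.card (S : Subgroup G) = p ^ a := Sylow.card_eq_multiplicity S
  have hn : ∀ ψ ∈ irrFinset G, ∃ n : ℕ, ∑ u : (S : Subgroup G), ψ u = ((p ^ a : ℕ) : ℂ) * n := by
    intro ψ hψ
    have hS := IsCharacter.restrict (IsIrrCharacter.isCharacter (mem_irrFinset.mp hψ))
      (S : Subgroup G)
    obtain ⟨n, hn⟩ := IsCharacter.classInner_irr_nat hS
      (isIrrCharacter_one (G := (S : Subgroup G)))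
    refine ⟨n, ?_⟩
    rw [classInner_def, hcardS] at hn
    rw [← hn, ← mul_assoc, mul_inv_cancel₀ hpa0, one_mul]
    refine Finset.sum_congr rfl fun u _ => ?_
    simp
  choose! n hn using hn
  have hsum1 : ∑ u : (S : Subgroup G), Θ u = ((p ^ a : ℕ) : ℂ) := by
    rw [Finset.sum_eq_single (1 : (S : Subgroup G))]
    · show Θ ((1 : (S : Subgroup G)) : G) = _
      rw [Subgroup.coe_one]
      simp only [hΘ]
      rw [if_neg]
      rw [orderOf_one]
      exact hp.out.not_dvd_one
    · intro u _ hu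
      have hne : (u : G) ≠ 1 := fun h => hu (Subtype.ext h)
      have h1 : orderOf (u : G) ∣ p ^ a := by
        rw [← hcardS, Subgroup.orderOf_coe]
        exact orderOf_dvd_natCard u
      obtain ⟨j, _, hj⟩ := (Nat.dvd_prime_pow hp.out).mp h1
      have hj0 : j ≠ 0 := by
        intro h0
        rw [h0, pow_zero, orderOf_eq_one_iff] at hj
        exact hne hj
      have hdvd' : p ∣ orderOf (u : G) := by
        rw [hj]
        exact dvd_pow_self p hj0
      have : Θ (u : G) = 0 := by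
        simp only [hΘ]
        exact if_pos hdvd'
      exact this
    · intro h
      exact absurd (Finset.mem_univ _) h
  have hsum2 : ∑ u : (S : Subgroup G), Θ u
      = ((p ^ a : ℕ) : ℂ) * ((∑ ψ ∈ irrFinset G, c ψ * (n ψ : ℤ) : ℤ) : ℂ) := by
    have : ∀ u : (S : Subgroup G), Θ u = ∑ ψ ∈ irrFinset G, (c ψ : ℂ) * ψ u := by
      intro u
      conv_lhs => rw [hexp]
      rw [Finset.sum_apply]
      rfl
    simp_rw [this]
    rw [Finset.sum_comm]
    push_cast
    rw [Finset.mul_sum]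
    refine Finset.sum_congr rfl fun ψ hψ => ?_
    rw [← Finset.mul_sum, hn ψ hψ]
    push_cast
    ring
  rw [hsum1] at hsum2
  have h1 : (1 : ℂ) = ((∑ ψ ∈ irrFinset G, c ψ * (n ψ : ℤ) : ℤ) : ℂ) := by
    apply mul_left_cancel₀ hpa0
    rw [mul_one]
    exact hsum2
  have h2 : (1 : ℤ) = ∑ ψ ∈ irrFinset G, c ψ * (n ψ : ℤ) := by exact_mod_cast h1
  have h3 : (p : ℤ) ∣ ∑ ψ ∈ irrFinset G, c ψ * (n ψ : ℤ) :=
    Finset.dvd_sum fun ψ hψ => Dvd.dvd.mul_right (hdiv ψ hψ) _
  rw [← h2] at h3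
  have : p ∣ 1 := by exact_mod_cast h3
  exact hp.out.one_lt.ne' (Nat.dvd_one.mp this)

theorem regSum_ne_zero_of_mem {p : ℕ} [hp : Fact p.Prime] (hM : IsPModular p M)
    (ψ : IrrCharacter G) (hψ : ψ ∈ principalBlock M G) : regSum p (ψ : G → ℂ) ≠ 0 := by
  classical
  intro h0
  have h1 := regSum_congr hM ψ hψ
  rw [h0, zero_div, sub_zero, regSum_one] at h1
  have hcop : Nat.Coprime (Finset.univ.filter (fun x : G => ¬ p ∣ orderOf x)).card p := by
    rw [Nat.coprime_comm, Nat.Prime.coprime_iff_not_dvd hp.out]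
    exact not_dvd_card_regular hM
  exact not_memLocalIdeal_nat hM _ hcop h1

end Main

end Cfsg.Agent.Lib.Helper2_PrincipalCrit
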