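import Mathlib
import Cfsg.Prelude.Def_Characters
import Cfsg.Prelude.Def_Blocks
import Cfsg.Prelude.Def_BlockRank
import Cfsg.Agent.Lib.Helper2_ClassFn
import Cfsg.Agent.Lib.Helper2_CharBasic
import Cfsg.Agent.Lib.Helper2_CharOrtho
import Cfsg.Agent.Lib.Helper2_Clifford
import Cfsg.Agent.Lib.Helper2_CharMore
import Cfsg.Agent.Lib.Helper2_CharDeg
import Cfsg.Agent.Lib.Helper2_CharInd
import Cfsg.Agent.Lib.Helper2_CharExtra
import Cfsg.Agent.Lib.Helper2_CharInt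
import Cfsg.Agent.Lib.Helper2_CharValues
import Cfsg.Agent.Lib.Helper2_CharSum
import Cfsg.Agent.Lib.Helper2_CharCentral
import Cfsg.Agent.Lib.Helper2_ModM
import Cfsg.Agent.Lib.Helper2_Blocks
import Cfsg.Agent.Lib.Helper2_BlockOrtho
import Cfsg.Agent.Lib.Helper2_BlockMore
import Cfsg.Agent.Lib.Helper2_DefectGroup
import Cfsg.Agent.Lib.Helper2_DefectPCore
import Cfsg.Agent.Lib.Helper2_MinMax
import Cfsg.Agent.Lib.Helper2_InducedBlock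
import Cfsg.Agent.Lib.Helper2_BrauerMap
import Cfsg.Agent.Lib.Helper2_InducedDefect
import Cfsg.Agent.Lib.Helper2_BrauerFirst
import Cfsg.Agent.Lib.Helper2_BrauerConverse
import Cfsg.Agent.Lib.Helper2_SylowConj
import Cfsg.Agent.Lib.Helper2_BlockCover
import Cfsg.Agent.Lib.Helper2_BlockConj
import Cfsg.Agent.Lib.Helper2_FirstMain
import Cfsg.Agent.Lib.Helper2_BlockNormal
import Cfsg.Agent.Lib.Helper2_Fong
import Cfsg.Agent.Lib.Helper2_CharComplete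
import Cfsg.Agent.Lib.Helper2_BlockKer
import Cfsg.Agent.Lib.Helper2_PiSection
import Cfsg.Agent.Lib.Helper2_PrincipalCrit

set_option autoImplicit false

/-!
# Principal blocks of central products
-/

namespace Cfsg.Agent.Lib.Helper2_CentralProd

open Cfsg
open Cfsg.Agent.Lib.Helper2_ClassFn
open Cfsg.Agent.Lib.Helper2_CharBasic
open Cfsg.Agent.Lib.Helper2_CharOrtho
open Cfsg.Agent.Lib.Helper2_Clifford
open Cfsg.Agent.Lib.Helper2_CharMore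
open Cfsg.Agent.Lib.Helper2_CharDeg
open Cfsg.Agent.Lib.Helper2_CharInd
open Cfsg.Agent.Lib.Helper2_CharExtra
open Cfsg.Agent.Lib.Helper2_CharValues
open Cfsg.Agent.Lib.Helper2_CharSum
open Cfsg.Agent.Lib.Helper2_CharCentral
open Cfsg.Agent.Lib.Helper2_ModM
open Cfsg.Agent.Lib.Helper2_Blocks
open Cfsg.Agent.Lib.Helper2_BlockOrtho
open Cfsg.Agent.Lib.Helper2_BlockMore
open Cfsg.Agent.Lib.Helper2_DefectGroup
open Cfsg.Agent.Lib.Helper2_DefectPCore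
open Cfsg.Agent.Lib.Helper2_MinMax
open Cfsg.Agent.Lib.Helper2_InducedBlock
open Cfsg.Agent.Lib.Helper2_BrauerMap
open Cfsg.Agent.Lib.Helper2_InducedDefect
open Cfsg.Agent.Lib.Helper2_BrauerFirst
open Cfsg.Agent.Lib.Helper2_BrauerConverse
open Cfsg.Agent.Lib.Helper2_SylowConj
open Cfsg.Agent.Lib.Helper2_BlockCover
open Cfsg.Agent.Lib.Helper2_BlockConj
open Cfsg.Agent.Lib.Helper2_FirstMain
open Cfsg.Agent.Lib.Helper2_BlockNormal
open scoped ComplexConjugate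
open Cfsg.Agent.Lib.Helper2_Fong
open Cfsg.Agent.Lib.Helper2_CharComplete
open Cfsg.Agent.Lib.Helper2_BlockKer
open Cfsg.Agent.Lib.Helper2_PrincipalCrit

universe u

variable {G : Type u} [Group G] [Fintype G] {M : Ideal AlgInt}
variable (U₁ U₂ : Subgroup G)

omit [Fintype G] in
theorem exists_prod (hcomm : ∀ u ∈ U₁, ∀ v ∈ U₂, u * v = v * u) (hgen : U₁ ⊔ U₂ = ⊤) (g : G) :
    ∃ u₁ ∈ U₁, ∃ u₂ ∈ U₂, u₁ * u₂ = g := by
  have hle : U₁ ≤ Subgroup.normalizer (U₂ : Set G) := by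
    intro u hu
    rw [Subgroup.mem_normalizer_iff]
    intro v
    constructor
    · intro hv
      have : u * v * u⁻¹ = v := by rw [hcomm u hu v hv, mul_inv_cancel_right]
      rw [this]; exact hv
    · intro hv
      have h1 : u⁻¹ * (u * v * u⁻¹) * u = v := by group
      have h2 : u * v * u⁻¹ = u⁻¹ * (u * v * u⁻¹) * u := by
        have h3 := hcomm u⁻¹ (U₁.inv_mem hu) _ hv
        rw [h3, inv_mul_cancel_right]
      rw [← h1, ← h2]; exact hv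
  have hset := Subgroup.coe_mul_of_left_le_normalizer_right U₁ U₂ hle
  have hg : g ∈ ((U₁ ⊔ U₂ : Subgroup G) : Set G) := by rw [hgen]; exact Set.mem_univ g
  rw [hset, Set.mem_mul] at hg
  obtain ⟨a, ha, b, hb, hab⟩ := hg
  exact ⟨a, ha, b, hb, hab⟩

omit [Fintype G] in
theorem conj_eq (hcomm : ∀ u ∈ U₁, ∀ v ∈ U₂, u * v = v * u) {v₁ v₂ x : G} (hv₂ : v₂ ∈ U₂)
    (hx : x ∈ U₁) : (v₁ * v₂) * x * (v₁ * v₂)⁻¹ = v₁ * x * v₁⁻¹ := by
  have h1 : v₂ * x * v₂⁻¹ = x := by rw [← hcomm x hx v₂ hv₂, mul_inv_cancel_right]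
  calc (v₁ * v₂) * x * (v₁ * v₂)⁻¹ = v₁ * (v₂ * x * v₂⁻¹) * v₁⁻¹ := by group
    _ = v₁ * x * v₁⁻¹ := by rw [h1]

theorem apply_mul (hcomm : ∀ u ∈ U₁, ∀ v ∈ U₂, u * v = v * u) (hgen : U₁ ⊔ U₂ = ⊤)
    {χ : G → ℂ} (hχ : IsIrrCharacter G χ) {u₁ u₂ : G} (hu₁ : u₁ ∈ U₁) (hu₂ : u₂ ∈ U₂) :
    χ (u₁ * u₂) = χ u₁ * χ u₂ / χ 1 := by
  have hcf := IsCharacter.isClassFunction (IsIrrCharacter.isCharacter hχ)
  have hsum := sum_conj_mul hχ u₁ u₂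
  have hterm : ∀ g : G, χ (g * u₁ * g⁻¹ * u₂) = χ (u₁ * u₂) := by
    intro g
    obtain ⟨v₁, hv₁, v₂, hv₂, rfl⟩ := exists_prod U₁ U₂ hcomm hgen g
    rw [conj_eq U₁ U₂ hcomm hv₂ hu₁]
    have h2 : v₁ * u₁ * v₁⁻¹ * u₂ = v₁ * (u₁ * u₂) * v₁⁻¹ := by
      have h3 : v₁⁻¹ * u₂ = u₂ * v₁⁻¹ := hcomm v₁⁻¹ (U₁.inv_mem hv₁) u₂ hu₂
      calc v₁ * u₁ * v₁⁻¹ * u₂ = v₁ * u₁ * (v₁⁻¹ * u₂) := by group
        _ = v₁ * u₁ * (u₂ * v₁⁻¹) := by rw [h3]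
        _ = v₁ * (u₁ * u₂) * v₁⁻¹ := by group
    rw [h2, hcf]
  rw [Finset.sum_congr rfl (fun g _ => hterm g), Finset.sum_const, Finset.card_univ,
    nsmul_eq_mul, ← Nat.card_eq_fintype_card] at hsum
  have hG : (Nat.card G : ℂ) ≠ 0 := card_ne_zero_complex
  have h4 : (Nat.card G : ℂ) * χ (u₁ * u₂) = (Nat.card G : ℂ) * (χ u₁ * χ u₂ / χ 1) := by
    rw [hsum]; ring
  exact mul_left_cancel₀ hG h4

omit [Fintype G] in
/-- The CRT exponent: `x ↦ x ^ e` is the `p'`-part map. -/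
theorem exists_exp [Finite G] (p : ℕ) [hp : Fact p.Prime] :
    ∃ e : ℕ, (∀ x : G, ¬ p ∣ orderOf x → x ^ e = x) ∧ (∀ x : G, ¬ p ∣ orderOf (x ^ e)) ∧
      (∀ z : G, (∃ k, orderOf z = p ^ k) → z ^ e = 1) := by
  set a := (Nat.card G).factorization p with ha
  set m := Nat.card G / p ^ a with hmdef
  have hm : p ^ a * m = Nat.card G := Nat.ordProj_mul_ordCompl_eq_self _ p
  have hG0 : Nat.card G ≠ 0 := Nat.card_pos.ne'
  have hcop : Nat.Coprime (p ^ a) m :=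
    Nat.Coprime.pow_left _ (Nat.coprime_ordCompl hp.out hG0)
  have hpos : 0 < p ^ a * m := by rw [hm]; exact Nat.card_pos
  obtain ⟨e, he1, he2, he3⟩ :=
    Cfsg.Agent.Lib.Helper2_PiSection.exists_crt_exp (p ^ a) m hcop hpos
  refine ⟨e, ?_, ?_, ?_⟩
  · intro x hx
    have h1 : orderOf x ∣ m := by
      have h2 : orderOf x ∣ p ^ a * m := by rw [hm]; exact orderOf_dvd_natCard x
      have h3 : Nat.Coprime (orderOf x) (p ^ a) :=
        Nat.Coprime.pow_right _ ((Nat.Prime.coprime_iff_not_dvd hp.out).mpr hx).symm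
      exact h3.dvd_of_dvd_mul_left h2
    have h4 : x ^ (e - 1) = 1 := orderOf_dvd_iff_pow_eq_one.mp (h1.trans he2)
    calc x ^ e = x ^ (e - 1 + 1) := by rw [Nat.sub_add_cancel he3]
      _ = x ^ (e - 1) * x := pow_succ _ _
      _ = x := by rw [h4, one_mul]
  · intro x hx
    have h1 : (x ^ e) ^ m = 1 := by
      rw [← pow_mul]
      obtain ⟨k, hk⟩ := he1
      rw [hk, mul_assoc, mul_comm k m, ← mul_assoc, hm, pow_mul, pow_card_eq_one']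
      exact one_pow _
    have h2 : orderOf (x ^ e) ∣ m := orderOf_dvd_of_pow_eq_one h1
    exact Nat.not_dvd_ordCompl hp.out hG0 (hx.trans h2)
  · rintro z ⟨k, hk⟩
    have h1 : orderOf z ∣ Nat.card G := orderOf_dvd_natCard z
    rw [hk] at h1
    have h2 : k ≤ a := (Nat.Prime.pow_dvd_iff_le_factorization hp.out hG0).mp h1
    have h3 : orderOf z ∣ e := by rw [hk]; exact (pow_dvd_pow p h2).trans he1
    exact orderOf_dvd_iff_pow_eq_one.mp h3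

open Classical in
theorem sum_rp_eq {K : Type u} [Group K] [Fintype K] (p : ℕ) (f : K → ℂ) :
    ∑ x : K, rp p f x = ∑ x ∈ Finset.univ.filter (fun x : K => ¬ p ∣ orderOf x), f x := by
  rw [Finset.sum_filter]
  refine Finset.sum_congr rfl fun x _ => ?_
  by_cases hx : p ∣ orderOf x
  · rw [rp_of_dvd hx, if_neg (not_not.mpr hx)]
  · rw [rp_of_not_dvd hx, if_pos hx]

open Classical in
theorem regSum_mul (p : ℕ) [hp : Fact p.Prime] [Fintype U₁] [Fintype U₂]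
    (hcomm : ∀ u ∈ U₁, ∀ v ∈ U₂, u * v = v * u) (hgen : U₁ ⊔ U₂ = ⊤)
    (hZ : IsPGroup p ↥(U₁ ⊓ U₂)) {χ : G → ℂ} (hχ : IsIrrCharacter G χ) :
    regSum p χ = regSum p (fun u : U₁ => χ u) * regSum p (fun u : U₂ => χ u) / χ 1 := by
  obtain ⟨e, he1, he2, he3⟩ := exists_exp (G := G) p
  unfold regSum
  rw [sum_rp_eq, sum_rp_eq, sum_rp_eq, Finset.sum_mul_sum, Finset.sum_div]
  simp_rw [Finset.sum_div]
  rw [← Finset.sum_product']
  symm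
  refine Finset.sum_bij (fun q _ => ((q.1 : U₁) : G) * ((q.2 : U₂) : G)) ?_ ?_ ?_ ?_
  · intro q hq
    rw [Finset.mem_product, Finset.mem_filter, Finset.mem_filter] at hq
    rw [Finset.mem_filter]
    refine ⟨Finset.mem_univ _, ?_⟩
    have hc : Commute ((q.1 : U₁) : G) ((q.2 : U₂) : G) := hcomm _ q.1.2 _ q.2.2
    have h1 : (((q.1 : U₁) : G) * ((q.2 : U₂) : G)) ^ e = ((q.1 : U₁) : G) * ((q.2 : U₂) : G) := by
      rw [hc.mul_pow, he1 _ (by rw [Subgroup.orderOf_coe]; exact hq.1.2),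
        he1 _ (by rw [Subgroup.orderOf_coe]; exact hq.2.2)]
    rw [← h1]
    exact he2 _
  · intro q hq q' hq' heq
    rw [Finset.mem_product, Finset.mem_filter, Finset.mem_filter] at hq hq'
    have hz : ((q'.1 : U₁) : G)⁻¹ * ((q.1 : U₁) : G) = ((q'.2 : U₂) : G) * ((q.2 : U₂) : G)⁻¹ := by
      have h2 : ((q'.1 : U₁) : G)⁻¹ * (((q.1 : U₁) : G) * ((q.2 : U₂) : G)) * ((q.2 : U₂) : G)⁻¹
          = ((q'.1 : U₁) : G)⁻¹ * (((q'.1 : U₁) : G) * ((q'.2 : U₂) : G)) * ((q.2 : U₂) : G)⁻¹ := by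
        rw [heq]
      calc ((q'.1 : U₁) : G)⁻¹ * ((q.1 : U₁) : G)
          = ((q'.1 : U₁) : G)⁻¹ * (((q.1 : U₁) : G) * ((q.2 : U₂) : G)) * ((q.2 : U₂) : G)⁻¹ := by
            group
        _ = ((q'.1 : U₁) : G)⁻¹ * (((q'.1 : U₁) : G) * ((q'.2 : U₂) : G)) * ((q.2 : U₂) : G)⁻¹ := h2
        _ = _ := by group
    set z := ((q'.1 : U₁) : G)⁻¹ * ((q.1 : U₁) : G) with hzdef
    have hz1 : z ∈ U₁ := U₁.mul_mem (U₁.inv_mem q'.1.2) q.1.2
    have hz2 : z ∈ U₂ := by rw [hz]; exact U₂.mul_mem q'.2.2 (U₂.inv_mem q.2.2)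
    have hze : z ^ e = 1 := by
      apply he3
      obtain ⟨k, hk⟩ := IsPGroup.iff_orderOf.mp hZ ⟨z, Subgroup.mem_inf.mpr ⟨hz1, hz2⟩⟩
      rw [Subgroup.orderOf_mk] at hk
      exact ⟨k, hk⟩
    have h3 : ((q.1 : U₁) : G) = ((q'.1 : U₁) : G) * z := by rw [hzdef]; group
    have hc : Commute ((q'.1 : U₁) : G) z := hcomm _ q'.1.2 _ hz2
    have h4 : ((q.1 : U₁) : G) = ((q'.1 : U₁) : G) := by
      have h5 := he1 ((q.1 : U₁) : G) (by rw [Subgroup.orderOf_coe]; exact hq.1.2)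
      rw [h3, hc.mul_pow, hze, mul_one,
        he1 _ (by rw [Subgroup.orderOf_coe]; exact hq'.1.2)] at h5
      rw [h3, ← h5]
    have h6 : ((q.2 : U₂) : G) = ((q'.2 : U₂) : G) := by
      rw [h4] at heq
      exact mul_left_cancel heq
    exact Prod.ext (Subtype.ext h4) (Subtype.ext h6)
  · intro g hg
    rw [Finset.mem_filter] at hg
    obtain ⟨u₁, hu₁, u₂, hu₂, rfl⟩ := exists_prod U₁ U₂ hcomm hgen g
    have hc : Commute u₁ u₂ := hcomm u₁ hu₁ u₂ hu₂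
    refine ⟨(⟨u₁ ^ e, U₁.pow_mem hu₁ e⟩, ⟨u₂ ^ e, U₂.pow_mem hu₂ e⟩), ?_, ?_⟩
    · rw [Finset.mem_product, Finset.mem_filter, Finset.mem_filter]
      refine ⟨⟨Finset.mem_univ _, ?_⟩, ⟨Finset.mem_univ _, ?_⟩⟩
      · rw [Subgroup.orderOf_mk]; exact he2 u₁
      · rw [Subgroup.orderOf_mk]; exact he2 u₂
    · show u₁ ^ e * u₂ ^ e = u₁ * u₂
      rw [← hc.mul_pow, he1 _ hg.2]
  · intro q _
    exact (apply_mul U₁ U₂ hcomm hgen hχ q.1.2 q.2.2).symm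

omit [Fintype G] in
theorem normal_left (hcomm : ∀ u ∈ U₁, ∀ v ∈ U₂, u * v = v * u) (hgen : U₁ ⊔ U₂ = ⊤) :
    U₁.Normal := by
  rw [← Subgroup.normalizer_eq_top_iff, eq_top_iff, ← hgen]
  apply sup_le Subgroup.le_normalizer
  intro v hv
  rw [Subgroup.mem_normalizer_iff]
  intro u
  constructor
  · intro hu
    have : v * u * v⁻¹ = u := by rw [← hcomm u hu v hv, mul_inv_cancel_right]
    rw [this]; exact hu
  · intro hu
    have h1 : (v * u * v⁻¹) * v⁻¹ = v⁻¹ * (v * u * v⁻¹) := hcomm _ hu v⁻¹ (U₂.inv_mem hv)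
    have h2 : u = v * u * v⁻¹ := by
      calc u = v⁻¹ * (v * u * v⁻¹) * v := by group
        _ = (v * u * v⁻¹) * v⁻¹ * v := by rw [h1]
        _ = v * u * v⁻¹ := by group
    rw [h2]; exact hu

theorem restrict_eq_smul [Fintype U₁] (hcomm : ∀ u ∈ U₁, ∀ v ∈ U₂, u * v = v * u)
    (hgen : U₁ ⊔ U₂ = ⊤) [hN : U₁.Normal] {χ : G → ℂ} (hχ : IsIrrCharacter G χ)
    {ψ : U₁ → ℂ} (hψ : IsIrrCharacter U₁ ψ)
    (h : classInner (fun u : U₁ => χ u) ψ ≠ 0) :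
    (fun u : U₁ => χ u) = classInner (fun u : U₁ => χ u) ψ • ψ := by
  classical
  have hcl := clifford U₁ hχ hψ h
  have hall : ∀ g : G, conjFn U₁ ψ g = ψ := by
    intro g
    funext x
    rw [conjFn_apply]
    obtain ⟨v₁, hv₁, v₂, hv₂, rfl⟩ := exists_prod U₁ U₂ hcomm hgen g
    have h1 := conj_eq U₁ U₂ hcomm hv₂ x.2 (v₁ := v₁)
    have h2 : (⟨(v₁ * v₂) * (x : G) * (v₁ * v₂)⁻¹, hN.conj_mem x x.2 (v₁ * v₂)⟩ : U₁)
        = ⟨v₁, hv₁⟩ * x * ⟨v₁, hv₁⟩⁻¹ := Subtype.ext (by simpa using h1)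
    rw [h2]
    exact IsCharacter.isClassFunction (IsIrrCharacter.isCharacter hψ) x ⟨v₁, hv₁⟩
  have himg : Finset.univ.image (conjFn U₁ ψ) = {ψ} := by
    ext φ
    rw [Finset.mem_image, Finset.mem_singleton]
    constructor
    · rintro ⟨g, -, rfl⟩; exact hall g
    · rintro rfl; exact ⟨1, Finset.mem_univ _, hall 1⟩
  rw [himg, Finset.sum_singleton] at hcl
  exact hcl

theorem regSum_smul {K : Type u} [Group K] [Fintype K] (p : ℕ) (c : ℂ) (f : K → ℂ) :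
    regSum p (c • f) = c * regSum p f := by
  classical
  unfold regSum
  rw [Finset.mul_sum]
  refine Finset.sum_congr rfl fun x _ => ?_
  by_cases hx : p ∣ orderOf x
  · rw [rp_of_dvd hx, rp_of_dvd hx, mul_zero]
  · rw [rp_of_not_dvd hx, rp_of_not_dvd hx]; rfl

/-- S4521. -/
theorem principal_iff {p : ℕ} [hp : Fact p.Prime] (hM : IsPModular p M) [Fintype U₁]
    [Fintype U₂] (hcomm : ∀ u ∈ U₁, ∀ v ∈ U₂, u * v = v * u) (hgen : U₁ ⊔ U₂ = ⊤)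
    (hZ : IsPGroup p ↥(U₁ ⊓ U₂)) (χ : IrrCharacter G) (ψ₁ : IrrCharacter U₁)
    (ψ₂ : IrrCharacter U₂)
    (h₁ : classInner (fun u : U₁ => (χ : G → ℂ) u) (ψ₁ : U₁ → ℂ) ≠ 0)
    (h₂ : classInner (fun u : U₂ => (χ : G → ℂ) u) (ψ₂ : U₂ → ℂ) ≠ 0) :
    χ ∈ principalBlock M G ↔ (ψ₁ ∈ principalBlock M U₁ ∧ ψ₂ ∈ principalBlock M U₂) := by
  have hcomm' : ∀ u ∈ U₂, ∀ v ∈ U₁, u * v = v * u := fun u hu v hv => (hcomm v hv u hu).symm
  have hgen' : U₂ ⊔ U₁ = ⊤ := by rw [sup_comm]; exact hgen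
  haveI : U₁.Normal := normal_left U₁ U₂ hcomm hgen
  haveI : U₂.Normal := normal_left U₂ U₁ hcomm' hgen'
  have hr1 := restrict_eq_smul U₁ U₂ hcomm hgen χ.2 ψ₁.2 h₁
  have hr2 := restrict_eq_smul U₂ U₁ hcomm' hgen' χ.2 ψ₂.2 h₂
  have hmul := regSum_mul U₁ U₂ p hcomm hgen hZ χ.2
  have e1 : regSum p (fun u : U₁ => (χ : G → ℂ) u)
      = classInner (fun u : U₁ => (χ : G → ℂ) u) (ψ₁ : U₁ → ℂ) * regSum p (ψ₁ : U₁ → ℂ) := by
    conv_lhs => rw [hr1]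
    exact regSum_smul p _ _
  have e2 : regSum p (fun u : U₂ => (χ : G → ℂ) u)
      = classInner (fun u : U₂ => (χ : G → ℂ) u) (ψ₂ : U₂ → ℂ) * regSum p (ψ₂ : U₂ → ℂ) := by
    conv_lhs => rw [hr2]
    exact regSum_smul p _ _
  rw [e1, e2] at hmul
  have c0 : χ ∈ principalBlock M G ↔ regSum p (χ : G → ℂ) ≠ 0 :=
    ⟨regSum_ne_zero_of_mem hM χ, mem_principal_of_regSum_ne_zero hM χ⟩
  have c1 : ψ₁ ∈ principalBlock M U₁ ↔ regSum p (ψ₁ : U₁ → ℂ) ≠ 0 :=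
    ⟨regSum_ne_zero_of_mem hM ψ₁, mem_principal_of_regSum_ne_zero hM ψ₁⟩
  have c2 : ψ₂ ∈ principalBlock M U₂ ↔ regSum p (ψ₂ : U₂ → ℂ) ≠ 0 :=
    ⟨regSum_ne_zero_of_mem hM ψ₂, mem_principal_of_regSum_ne_zero hM ψ₂⟩
  rw [c0, c1, c2, hmul]
  have hχ1 := IsIrrCharacter.apply_one_ne_zero χ.2
  constructor
  · intro h
    constructor
    · intro h0; apply h; rw [h0]; simp
    · intro h0; apply h; rw [h0]; simp
  · rintro ⟨ha, hb⟩
    exact div_ne_zero (mul_ne_zero (mul_ne_zero h₁ ha) (mul_ne_zero h₂ hb)) hχ1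

end Cfsg.Agent.Lib.Helper2_CentralProd
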