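import Mathlib
import Cfsg.Prelude.Def_Characters
import Cfsg.Prelude.Def_Blocks
import Cfsg.Agent.Lib.Helper2_ClassFn
import Cfsg.Agent.Lib.Helper2_CharBasic
import Cfsg.Agent.Lib.Helper2_CharOrtho
import Cfsg.Agent.Lib.Helper2_CharValues
import Cfsg.Agent.Lib.Helper2_CharSum
import Cfsg.Agent.Lib.Helper2_CharCentral
import Cfsg.Agent.Lib.Helper2_CharInt
import Cfsg.Agent.Lib.Helper2_ModM
import Cfsg.Agent.Lib.Helper2_Blocks
import Cfsg.Agent.Lib.Helper2_BlockOrtho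
import Cfsg.Agent.Lib.Helper2_BlockKer

set_option autoImplicit false

/-!
# Class products avoiding a `p`-subgroup force a character degree divisible by a power of `p`
-/

namespace Cfsg.Agent.Lib.Helper2_ClassProd

open Cfsg
open Cfsg.Agent.Lib.Helper2_ClassFn
open Cfsg.Agent.Lib.Helper2_CharBasic
open Cfsg.Agent.Lib.Helper2_CharOrtho
open Cfsg.Agent.Lib.Helper2_CharValues
open Cfsg.Agent.Lib.Helper2_CharSum
open Cfsg.Agent.Lib.Helper2_CharCentral
open Cfsg.Agent.Lib.Helper2_CharInt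
open Cfsg.Agent.Lib.Helper2_ModM
open Cfsg.Agent.Lib.Helper2_Blocks
open Cfsg.Agent.Lib.Helper2_BlockOrtho
open Cfsg.Agent.Lib.Helper2_BlockKer
open scoped ComplexConjugate

section Main

universe u

variable {G : Type u} [Group G] [Fintype G]

theorem class_mul_zero (z t : G)
    (h : ∀ g h : G, g * z * g⁻¹ * (h * z⁻¹ * h⁻¹ * t) ≠ 1) :
    ∑ χ ∈ irrFinset G, χ z * χ z⁻¹ * χ t / χ 1 = 0 := by
  classical
  have h0 : ∀ g h' : G, ∑ χ ∈ irrFinset G,
      χ (g * z * g⁻¹ * (h' * z⁻¹ * h'⁻¹ * t)) * conj (χ 1) = 0 := by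
    intro g h'
    rw [second_orthogonality', if_neg]
    rw [isConj_one_left]
    exact h g h'
  have h1 : ∑ g : G, ∑ h' : G, ∑ χ ∈ irrFinset G,
      χ (g * z * g⁻¹ * (h' * z⁻¹ * h'⁻¹ * t)) * conj (χ 1) = 0 :=
    Finset.sum_eq_zero fun g _ => Finset.sum_eq_zero fun h' _ => h0 g h'
  have hper : ∀ χ ∈ irrFinset G, ∑ g : G, ∑ h' : G,
      χ (g * z * g⁻¹ * (h' * z⁻¹ * h'⁻¹ * t)) * conj (χ 1)
      = (Nat.card G : ℂ) ^ 2 * (χ z * χ z⁻¹ * χ t / χ 1) := by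
    intro χ hχ
    have hχi := mem_irrFinset.mp hχ
    obtain ⟨n, hn, hχ1⟩ := IsIrrCharacter.apply_one hχi
    have hn0 : (n : ℂ) ≠ 0 := by exact_mod_cast hn.ne'
    have e1 : ∀ h' : G, ∑ g : G, χ (g * z * g⁻¹ * (h' * z⁻¹ * h'⁻¹ * t)) * conj (χ 1)
        = (Nat.card G : ℂ) * χ z * χ (h' * z⁻¹ * h'⁻¹ * t) / χ 1 * conj (χ 1) := by
      intro h'
      rw [← Finset.sum_mul, sum_conj_mul hχi]
    rw [Finset.sum_comm, Finset.sum_congr rfl (fun h' _ => e1 h')]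
    have e2 : ∑ h' : G, (Nat.card G : ℂ) * χ z * χ (h' * z⁻¹ * h'⁻¹ * t) / χ 1 * conj (χ 1)
        = ((Nat.card G : ℂ) * χ z / χ 1 * conj (χ 1)) * ∑ h' : G, χ (h' * z⁻¹ * h'⁻¹ * t) := by
      rw [Finset.mul_sum]
      exact Finset.sum_congr rfl fun _ _ => by ring
    rw [e2, sum_conj_mul hχi, hχ1, Complex.conj_natCast]
    field_simp
  have h2 : ∑ g : G, ∑ h' : G, ∑ χ ∈ irrFinset G,
      χ (g * z * g⁻¹ * (h' * z⁻¹ * h'⁻¹ * t)) * conj (χ 1)
      = (Nat.card G : ℂ) ^ 2 * ∑ χ ∈ irrFinset G, χ z * χ z⁻¹ * χ t / χ 1 := by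
    calc ∑ g : G, ∑ h' : G, ∑ χ ∈ irrFinset G,
          χ (g * z * g⁻¹ * (h' * z⁻¹ * h'⁻¹ * t)) * conj (χ 1)
        = ∑ g : G, ∑ χ ∈ irrFinset G, ∑ h' : G,
          χ (g * z * g⁻¹ * (h' * z⁻¹ * h'⁻¹ * t)) * conj (χ 1) :=
          Finset.sum_congr rfl fun g _ => Finset.sum_comm
      _ = ∑ χ ∈ irrFinset G, ∑ g : G, ∑ h' : G,
          χ (g * z * g⁻¹ * (h' * z⁻¹ * h'⁻¹ * t)) * conj (χ 1) := Finset.sum_comm
      _ = ∑ χ ∈ irrFinset G, (Nat.card G : ℂ) ^ 2 * (χ z * χ z⁻¹ * χ t / χ 1) :=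
          Finset.sum_congr rfl hper
      _ = _ := (Finset.mul_sum _ _ _).symm
  rw [h2] at h1
  have hG : (Nat.card G : ℂ) ^ 2 ≠ 0 := pow_ne_zero 2 card_ne_zero_complex
  exact (mul_eq_zero.mp h1).resolve_left hG

theorem dvd_of_not_pow_dvd {p : ℕ} (hp : p.Prime) {d N k : ℕ} (hd : d ∣ N) (hN : N ≠ 0)
    (hk : ¬ p ^ (k + 1) ∣ d) : d ∣ p ^ k * (N / p ^ N.factorization p) := by
  have hd0 : d ≠ 0 := fun h => hN (by rw [h] at hd; exact zero_dvd_iff.mp hd)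
  obtain ⟨ν, s, hs, hds⟩ := Nat.exists_eq_pow_mul_and_not_dvd hd0 p hp.ne_one
  have hν : ν ≤ k := by
    by_contra hlt
    push Not at hlt
    apply hk
    rw [hds]
    exact Dvd.dvd.mul_right (pow_dvd_pow p hlt) s
  have hNeq : p ^ N.factorization p * (N / p ^ N.factorization p) = N :=
    Nat.ordProj_mul_ordCompl_eq_self N p
  have hsN : s ∣ N := (Dvd.intro_left _ hds.symm).trans hd
  have hcop : Nat.Coprime s (p ^ N.factorization p) :=
    Nat.Coprime.pow_right _ ((Nat.Prime.coprime_iff_not_dvd hp).mpr hs).symm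
  have hsm : s ∣ N / p ^ N.factorization p := by
    rw [← hNeq] at hsN
    exact hcop.dvd_of_dvd_mul_left hsN
  rw [hds]
  exact mul_dvd_mul (pow_dvd_pow p hν) hsm

open Classical in
theorem exists_degree_dvd (p : ℕ) [hp : Fact p.Prime] (z : G) (P : Subgroup G) (c : ℕ)
    (hP : Nat.card P = p ^ c)
    (hno : ∀ g h : G, ∀ w ∈ P, w ≠ 1 → (g * z * g⁻¹) * (h * z * h⁻¹)⁻¹ ≠ w) (a : ℕ)
    (ha : (Nat.card (Subgroup.centralizer ({z} : Set G))).factorization p = a) :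
    ∃ χ : IrrCharacter G, p ^ (c - a) ∣ charDegree (χ : G → ℂ) := by
  by_contra hcon
  push Not at hcon
  haveI : Fintype P := Fintype.ofFinite _
  -- `c - a ≥ 1`
  have hca : 1 ≤ c - a := by
    by_contra hlt
    have h0 : c - a = 0 := by omega
    exact hcon ⟨_, isIrrCharacter_one⟩ (by rw [h0, pow_zero]; exact one_dvd _)
  obtain ⟨k, hk⟩ : ∃ k, c - a = k + 1 := ⟨c - a - 1, by omega⟩
  set N := Nat.card G with hNdef
  have hN0 : N ≠ 0 := Nat.card_pos.ne'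
  set m := N / p ^ N.factorization p with hm
  have hpm : ¬ p ∣ m := Nat.not_dvd_ordCompl hp.out hN0
  set D := p ^ k * m with hD
  -- vanishing on `P ∖ 1`
  have hF : ∀ w ∈ P, w ≠ 1 → ∑ χ ∈ irrFinset G, χ z * χ z⁻¹ * χ w / χ 1 = 0 := by
    intro w hw hw1
    apply class_mul_zero
    intro g h' heq
    apply hno g h' w⁻¹ (P.inv_mem hw) (by simpa using hw1)
    have : (h' * z * h'⁻¹)⁻¹ = h' * z⁻¹ * h'⁻¹ := by group
    rw [this]
    have h3 : g * z * g⁻¹ * (h' * z⁻¹ * h'⁻¹) * w = 1 := by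
      rw [← heq]; group
    exact eq_inv_of_mul_eq_one_left h3
  have hF1 : ∑ χ ∈ irrFinset G, χ z * χ z⁻¹ * χ 1 / χ 1
      = (Nat.card (Subgroup.centralizer ({z} : Set G)) : ℂ) := by
    have := second_orthogonality' (G := G) z z
    rw [if_pos (IsConj.refl z)] at this
    rw [← this]
    refine Finset.sum_congr rfl fun χ hχ => ?_
    have hχi := mem_irrFinset.mp hχ
    rw [IsCharacter.apply_inv (IsIrrCharacter.isCharacter hχi)]
    have := IsIrrCharacter.apply_one_ne_zero hχi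
    field_simp
  -- the multiplicities of the trivial character of `P`
  have hn : ∀ χ ∈ irrFinset G, ∃ n : ℕ,
      (Nat.card P : ℂ)⁻¹ * ∑ u : P, χ u = n := by
    intro ψ hψ
    have hS := IsCharacter.restrict (IsIrrCharacter.isCharacter (mem_irrFinset.mp hψ)) P
    obtain ⟨n, hn⟩ := IsCharacter.classInner_irr_nat hS (isIrrCharacter_one (G := P))
    refine ⟨n, ?_⟩
    rw [classInner_def] at hn
    simpa using hn
  choose! n hn using hn
  -- degrees divide `D`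
  have hdeg : ∀ χ ∈ irrFinset G, ∃ e : ℕ, (D : ℂ) = e * χ 1 := by
    intro χ hχ
    have hχi := mem_irrFinset.mp hχ
    obtain ⟨d, hdpos, hd⟩ := IsIrrCharacter.apply_one hχi
    have hdN : d ∣ N := degree_dvd_card hχi d hd
    have hnd : ¬ p ^ (k + 1) ∣ d := by
      have := hcon ⟨χ, hχi⟩
      rw [hk] at this
      rwa [charDegree_eq' hd] at this
    obtain ⟨e, he⟩ := dvd_of_not_pow_dvd hp.out hdN hN0 hnd
    refine ⟨e, ?_⟩
    rw [hd, hD, he]
    push_cast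
    ring
  choose! e he using hdeg
  have hX : IsIntegral ℤ (∑ χ ∈ irrFinset G, (e χ : ℂ) * (χ z * χ z⁻¹) * (n χ : ℂ)) := by
    refine IsIntegral.sum _ fun χ hχ => ?_
    have hχc := IsIrrCharacter.isCharacter (mem_irrFinset.mp hχ)
    exact ((isIntegral_nat _).mul ((IsCharacter.isIntegral hχc z).mul
      (IsCharacter.isIntegral hχc z⁻¹))).mul (isIntegral_nat _)
  have hP0 : (Nat.card P : ℂ) ≠ 0 := by
    rw [hP]; exact_mod_cast (pow_pos hp.out.pos _).ne'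
  have hsumP : ∑ u : P, ∑ χ ∈ irrFinset G, χ z * χ z⁻¹ * χ u / χ 1
      = (Nat.card (Subgroup.centralizer ({z} : Set G)) : ℂ) := by
    rw [Finset.sum_eq_single (1 : P)]
    · exact hF1
    · intro u _ hu
      exact hF u u.2 (fun h => hu (Subtype.ext h))
    · intro h
      exact absurd (Finset.mem_univ _) h
  have hXeq : ∑ χ ∈ irrFinset G, (e χ : ℂ) * (χ z * χ z⁻¹) * (n χ : ℂ)
      = (D : ℂ) * (Nat.card (Subgroup.centralizer ({z} : Set G)) : ℂ) / (Nat.card P : ℂ) := by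
    rw [← hsumP, Finset.sum_comm, Finset.mul_sum, Finset.sum_div]
    refine Finset.sum_congr rfl fun χ hχ => ?_
    have hχ1 := IsIrrCharacter.apply_one_ne_zero (mem_irrFinset.mp hχ)
    have h5 : ∑ u : P, χ z * χ z⁻¹ * χ u / χ 1 = χ z * χ z⁻¹ / χ 1 * ∑ u : P, χ u := by
      rw [Finset.mul_sum]
      exact Finset.sum_congr rfl fun _ _ => by ring
    have h6 : ∑ u : P, χ u = (Nat.card P : ℂ) * (n χ : ℂ) := by
      rw [← hn χ hχ, ← mul_assoc, mul_inv_cancel₀ hP0, one_mul]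
    rw [h5, h6, he χ hχ]
    field_simp
  -- the centralizer order
  set C := Nat.card (Subgroup.centralizer ({z} : Set G)) with hC
  have hC0 : C ≠ 0 := Nat.card_pos.ne'
  have hCeq : p ^ a * (C / p ^ a) = C := by
    rw [← ha]; exact Nat.ordProj_mul_ordCompl_eq_self C p
  have hpt : ¬ p ∣ C / p ^ a := by
    rw [← ha]; exact Nat.not_dvd_ordCompl hp.out hC0
  set t := C / p ^ a with ht
  have hval : (D : ℂ) * (C : ℂ) / (Nat.card P : ℂ) = ((m * t : ℕ) : ℂ) / (p : ℕ) := by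
    have hp0 : (p : ℂ) ≠ 0 := by exact_mod_cast hp.out.ne_zero
    have hc : c = k + 1 + a := by omega
    rw [hP, hD, ← hCeq, hc]
    push_cast
    field_simp
    ring
  rw [hXeq, hval] at hX
  have hdvd := nat_dvd_of_isIntegral_div (m * t) p hp.out.ne_zero hX
  rcases (Nat.Prime.dvd_mul hp.out).mp hdvd with h | h
  · exact hpm h
  · exact hpt h

end Main

end Cfsg.Agent.Lib.Helper2_ClassProd
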