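import Mathlib
import Cfsg.Prelude.Def_Characters
import Cfsg.Prelude.Def_Blocks
import Cfsg.Agent.Lib.Helper2_ClassFn
import Cfsg.Agent.Lib.Helper2_CharBasic
import Cfsg.Agent.Lib.Helper2_CharOrtho
import Cfsg.Agent.Lib.Helper2_CharValues
import Cfsg.Agent.Lib.Helper2_CharSum
import Cfsg.Agent.Lib.Helper2_CharCentral
import Cfsg.Agent.Lib.Helper2_CharInt
import Cfsg.Agent.Lib.Helper2_CharBurnside
import Cfsg.Agent.Lib.Helper2_CharCenter
import Cfsg.Agent.Lib.Helper2_BlockOrtho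
import Cfsg.Agent.Lib.Helper2_BlockKer

set_option autoImplicit false

/-!
# Codegrees and the order of a simple group
-/

namespace Cfsg.Agent.Lib.Helper2_Codegree

open Cfsg
open Cfsg.Agent.Lib.Helper2_ClassFn
open Cfsg.Agent.Lib.Helper2_CharBasic
open Cfsg.Agent.Lib.Helper2_CharOrtho
open Cfsg.Agent.Lib.Helper2_CharValues
open Cfsg.Agent.Lib.Helper2_CharSum
open Cfsg.Agent.Lib.Helper2_CharCentral
open Cfsg.Agent.Lib.Helper2_CharInt
open Cfsg.Agent.Lib.Helper2_CharBurnside
open Cfsg.Agent.Lib.Helper2_CharCenter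
open Cfsg.Agent.Lib.Helper2_BlockOrtho
open Cfsg.Agent.Lib.Helper2_BlockKer
open scoped ComplexConjugate

section Main

universe u v

theorem ker_mul_degree_dvd {G : Type u} [Group G] [Finite G] {ψ : G → ℂ}
    (hψ : IsIrrCharacter G ψ) :
    Nat.card {g : G // ψ g = ψ 1} * charDegree ψ ∣ Nat.card G := by
  classical
  haveI : Fintype G := Fintype.ofFinite G
  obtain ⟨K, hKn, hK⟩ := exists_ker (IsIrrCharacter.isCharacter hψ)
  haveI := hKn
  have hcard : Nat.card {g : G // ψ g = ψ 1} = Nat.card K :=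
    Nat.card_congr (Equiv.subtypeEquivRight (fun x => (hK x).symm))
  obtain ⟨ψ', hψ', hval⟩ := IsIrrCharacter.deflate hψ K (fun n hn => (hK n).mp hn)
  obtain ⟨d, hdpos, hd⟩ := IsIrrCharacter.apply_one hψ
  have hd' : ψ' 1 = d := by rw [← hd, ← hval 1]; rfl
  haveI : Fintype (G ⧸ K) := Fintype.ofFinite _
  have h1 := degree_dvd_card hψ' d hd'
  rw [hcard, charDegree_eq' hd, Subgroup.card_eq_card_quotient_mul_card_subgroup K, mul_comm]
  exact mul_dvd_mul_right h1 _

theorem sum_degree_sq {S : Type u} [Group S] [Fintype S] :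
    ∑ χ ∈ irrFinset S, (charDegree χ) ^ 2 = Nat.card S := by
  classical
  have h := second_orthogonality' (G := S) 1 1
  rw [if_pos (IsConj.refl 1)] at h
  have hc : Nat.card (Subgroup.centralizer ({1} : Set S)) = Nat.card S := by
    have : Subgroup.centralizer ({1} : Set S) = ⊤ := by
      rw [eq_top_iff]
      intro x _
      rw [Subgroup.mem_centralizer_singleton_iff]
      simp
    rw [this, Subgroup.card_top]
  rw [hc] at h
  have h2 : ∑ χ ∈ irrFinset S, χ 1 * conj (χ 1)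
      = ((∑ χ ∈ irrFinset S, (charDegree χ) ^ 2 : ℕ) : ℂ) := by
    push_cast
    refine Finset.sum_congr rfl fun χ hχ => ?_
    rw [(apply_one_eq_charDegree (mem_irrFinset.mp hχ)).1, Complex.conj_natCast, pow_two]
  rw [h2] at h
  exact_mod_cast h

theorem exists_nontrivial_coprime_degree {S : Type u} [Group S] [Fintype S] (p : ℕ)
    (hp : p.Prime) (hpS : p ∣ Nat.card S) :
    ∃ χ : IrrCharacter S, (χ : S → ℂ) ≠ (fun _ => 1) ∧ ¬ p ∣ charDegree (χ : S → ℂ) := by
  classical
  by_contra hcon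
  push Not at hcon
  have h1 : IsIrrCharacter S (fun _ : S => (1 : ℂ)) := isIrrCharacter_one
  have h1m : (fun _ : S => (1 : ℂ)) ∈ irrFinset S := mem_irrFinset.mpr h1
  have hs := sum_degree_sq (S := S)
  rw [← Finset.add_sum_erase _ _ h1m] at hs
  have hd1 : charDegree (fun _ : S => (1 : ℂ)) = 1 := charDegree_eq' (by simp)
  have hdvd : p ∣ ∑ χ ∈ (irrFinset S).erase (fun _ : S => (1 : ℂ)), (charDegree χ) ^ 2 := by
    refine Finset.dvd_sum fun χ hχ => ?_
    obtain ⟨hne, hm⟩ := Finset.mem_erase.mp hχ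
    have := hcon ⟨χ, mem_irrFinset.mp hm⟩ hne
    exact Dvd.dvd.pow this two_ne_zero
  rw [hd1, one_pow] at hs
  have : p ∣ 1 := by
    have h3 := (Nat.dvd_add_right hdvd).mp (by rw [add_comm] at hs; rw [hs]; exact hpS)
    exact h3
  exact hp.one_lt.ne' (Nat.dvd_one.mp this)

theorem ker_card_eq_one {S : Type u} [Group S] [Fintype S] (hS : IsSimpleGroup S)
    (χ : IrrCharacter S) (hne : (χ : S → ℂ) ≠ (fun _ => 1)) :
    Nat.card {g : S // (χ : S → ℂ) g = (χ : S → ℂ) 1} = 1 := by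
  classical
  obtain ⟨K, hKn, hK⟩ := exists_ker (IsIrrCharacter.isCharacter χ.2)
  have hcard : Nat.card {g : S // (χ : S → ℂ) g = (χ : S → ℂ) 1} = Nat.card K :=
    Nat.card_congr (Equiv.subtypeEquivRight (fun x => (hK x).symm))
  rcases hS.eq_bot_or_eq_top_of_normal K hKn with h | h
  · rw [hcard, h, Subgroup.card_bot]
  · exfalso
    have hall : ∀ g : S, (χ : S → ℂ) g = (χ : S → ℂ) 1 := fun g =>
      (hK g).mp (by rw [h]; exact Subgroup.mem_top g)
    have h1 : IsIrrCharacter S (fun _ : S => (1 : ℂ)) := isIrrCharacter_one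
    have hin := classInner_irr_of_ne χ.2 h1 hne
    rw [classInner_def] at hin
    have hsum : ∑ g : S, (χ : S → ℂ) g * conj ((fun _ : S => (1 : ℂ)) g)
        = (Nat.card S : ℂ) * (χ : S → ℂ) 1 := by
      simp only [map_one, mul_one, hall]
      rw [Finset.sum_const, Finset.card_univ, nsmul_eq_mul, Nat.card_eq_fintype_card]
    rw [hsum, ← mul_assoc, inv_mul_cancel₀ card_ne_zero_complex, one_mul] at hin
    exact IsIrrCharacter.apply_one_ne_zero χ.2 hin

/-- S4801. -/
theorem card_dvd_of_codegrees {S : Type u} [Group S] [Finite S] (hS : IsSimpleGroup S)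
    {G : Type v} [Group G] [Finite G]
    (hsub : ∀ χ : IrrCharacter S, ∃ ψ : IrrCharacter G,
      (Nat.card S / (Nat.card {g : S // (χ : S → ℂ) g = (χ : S → ℂ) 1}
        * charDegree (χ : S → ℂ)))
      = (Nat.card G / (Nat.card {g : G // (ψ : G → ℂ) g = (ψ : G → ℂ) 1}
        * charDegree (ψ : G → ℂ)))) :
    Nat.card S ∣ Nat.card G := by
  classical
  haveI : Fintype S := Fintype.ofFinite S
  have hS0 : Nat.card S ≠ 0 := Nat.card_pos.ne'
  have hG0 : Nat.card G ≠ 0 := Nat.card_pos.ne'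
  rw [← Nat.factorization_prime_le_iff_dvd hS0 hG0]
  intro p hp
  by_cases hpS : p ∣ Nat.card S
  swap
  · rw [Nat.factorization_eq_zero_of_not_dvd hpS]; exact Nat.zero_le _
  obtain ⟨χ, hχne, hχp⟩ := exists_nontrivial_coprime_degree p hp hpS
  obtain ⟨ψ, hψ⟩ := hsub χ
  rw [ker_card_eq_one hS χ hχne, one_mul] at hψ
  obtain ⟨d, hdpos, hd⟩ := IsIrrCharacter.apply_one χ.2
  have hdS : d ∣ Nat.card S := degree_dvd_card χ.2 d hd
  rw [charDegree_eq' hd] at hψ hχp
  have hpe : p ^ (Nat.card S).factorization p ∣ Nat.card S / d := by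
    have h1 : p ^ (Nat.card S).factorization p ∣ d * (Nat.card S / d) := by
      rw [Nat.mul_div_cancel' hdS]
      exact Nat.ordProj_dvd _ _
    have hcop : Nat.Coprime (p ^ (Nat.card S).factorization p) d :=
      Nat.Coprime.pow_left _ ((Nat.Prime.coprime_iff_not_dvd hp).mpr hχp)
    exact hcop.dvd_of_dvd_mul_left h1
  rw [hψ] at hpe
  have hfin : p ^ (Nat.card S).factorization p ∣ Nat.card G :=
    hpe.trans (Nat.div_dvd_of_dvd (ker_mul_degree_dvd ψ.2))
  exact (Nat.Prime.pow_dvd_iff_le_factorization hp hG0).mp hfin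

end Main

end Cfsg.Agent.Lib.Helper2_Codegree
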