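import Mathlib
import Cfsg.Prelude.Def_Characters
import Cfsg.Agent.Lib.Helper2_ClassFn
import Cfsg.Agent.Lib.Helper2_CharBasic
import Cfsg.Agent.Lib.Helper2_CharOrtho
import Cfsg.Agent.Lib.Helper2_CharMore
import Cfsg.Agent.Lib.Helper2_CharValues
import Cfsg.Agent.Lib.Helper2_CharComplete
import Cfsg.Agent.Lib.Helper2_CharInd
import Cfsg.Agent.Lib.Helper2_CharSum
import Cfsg.Agent.Lib.Helper2_CharInt
import Cfsg.Agent.Lib.Helper2_Artin
import Cfsg.Agent.Lib.Helper2_BrauerInd
import Cfsg.Agent.Lib.Helper2_BrauerThm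
import Cfsg.Agent.Lib.Helper2_NilDecomp
import Cfsg.Agent.Lib.Helper2_DefectZero

set_option autoImplicit false

/-!
# A `p`-power multiple of the `p`-regular part of an irreducible character is a generalized
character
-/

namespace Cfsg.Agent.Lib.Helper2_RegPartPow

open Cfsg
open Cfsg.Agent.Lib.Helper2_ClassFn
open Cfsg.Agent.Lib.Helper2_CharBasic
open Cfsg.Agent.Lib.Helper2_CharOrtho
open Cfsg.Agent.Lib.Helper2_CharMore
open Cfsg.Agent.Lib.Helper2_CharValues
open Cfsg.Agent.Lib.Helper2_CharComplete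
open Cfsg.Agent.Lib.Helper2_CharInd
open Cfsg.Agent.Lib.Helper2_CharSum
open Cfsg.Agent.Lib.Helper2_CharInt
open Cfsg.Agent.Lib.Helper2_Artin
open Cfsg.Agent.Lib.Helper2_BrauerInd
open Cfsg.Agent.Lib.Helper2_BrauerThm
open Cfsg.Agent.Lib.Helper2_NilDecomp
open Cfsg.Agent.Lib.Helper2_DefectZero
open scoped ComplexConjugate

universe u

variable {G : Type u} [Group G] [Fintype G]

theorem regPartPow_res_isGenChar {χ : G → ℂ} (hχ : IsIrrCharacter G χ) (p n b d₁ k : ℕ)
    (hp : p.Prime) (hcardG : Nat.card G = p ^ n * b) (hb : ¬ p ∣ b) (hk : k ≤ n)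
    (hd : χ 1 = ((p ^ (n - k) * d₁ : ℕ) : ℂ)) (E : Subgroup G) (q : ℕ) (hq : q.Prime)
    (hE : IsElementary q E) :
    IsGeneralizedCharacter E (fun e : E => ((p : ℂ) ^ k) * regPart p χ e) := by
  classical
  haveI : Fact p.Prime := ⟨hp⟩
  haveI : Fintype E := Fintype.ofFinite _
  haveI : Group.IsNilpotent E := IsElementary.nilpotent hq hE
  have hχc := IsIrrCharacter.isCharacter hχ
  have hχcf := IsCharacter.isClassFunction hχc
  have hθcf : IsClassFunction G (regPart p χ) := regPart_isClassFunction hχcf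
  have hθEcf : IsClassFunction E (fun e : E => ((p : ℂ) ^ k) * regPart p χ e) := by
    intro g h
    show ((p : ℂ) ^ k) * regPart p χ ((h * g * h⁻¹ : E) : G) = ((p : ℂ) ^ k) * regPart p χ (g : G)
    congr 1
    exact hθcf (g : G) (h : G)
  obtain ⟨P, Q, hcard, hQp, hmem, hcomm⟩ := nilpotent_p_decomp (E := E) p
  obtain ⟨j, hj⟩ := IsPGroup.iff_card.mp P.2
  haveI : Fintype Q := Fintype.ofFinite _
  have hd10 : (d₁ : ℂ) ≠ 0 := by
    intro h0
    apply IsIrrCharacter.apply_one_ne_zero hχ
    rw [hd]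
    push_cast
    rw [h0, mul_zero]
  have hp0 : (p : ℂ) ≠ 0 := by exact_mod_cast hp.ne_zero
  have hpn0 : ((p : ℂ) ^ n) ≠ 0 := pow_ne_zero n hp0
  have hpk0 : ((p : ℂ) ^ k) ≠ 0 := pow_ne_zero k hp0
  have hpnk0 : ((p : ℂ) ^ (n - k)) ≠ 0 := pow_ne_zero (n - k) hp0
  have hpsplit : (p : ℂ) ^ n = (p : ℂ) ^ (n - k) * (p : ℂ) ^ k := by
    rw [← pow_add, Nat.sub_add_cancel hk]
  apply Helper2_DefectZero.isGeneralizedCharacter_of_classInner_int hθEcf
  intro ψ hψ
  have hψc := IsIrrCharacter.isCharacter hψ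
  -- the sum over Q
  set SQ : ℂ := ∑ y : Q, χ ((y : E) : G) * conj (ψ (y : E)) with hSQ
  have claim1 : ∑ e : E, regPart p χ (e : G) * conj (ψ e) = SQ := by
    have h1 : ∀ e : E, regPart p χ (e : G) * conj (ψ e)
        = if e ∈ Q then χ (e : G) * conj (ψ e) else 0 := by
      intro e
      have hord : orderOf (e : G) = orderOf e := Subgroup.orderOf_coe e
      by_cases he : e ∈ Q
      · rw [if_pos he, regPart_of_not_dvd]
        rw [hord]; exact (hmem e).mp he
      · rw [if_neg he, regPart_of_dvd, zero_mul]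
        rw [hord]
        by_contra hnd
        exact he ((hmem e).mpr hnd)
    rw [Finset.sum_congr rfl (fun e _ => h1 e), ← Finset.sum_filter,
      ← Finset.sum_subtype_eq_sum_filter]
    have h2 : (Finset.univ : Finset E).subtype (fun e => e ∈ Q) = (Finset.univ : Finset Q) := by
      ext y; simp
    rw [h2]
  have hE0 : (Nat.card E : ℂ) ≠ 0 := by exact_mod_cast Nat.card_pos.ne'
  have hQ0 : (Nat.card Q : ℂ) ≠ 0 := by exact_mod_cast Nat.card_pos.ne'
  have hP0 : (Nat.card (P : Subgroup E) : ℂ) ≠ 0 := by exact_mod_cast Nat.card_pos.ne'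
  have hcardC : (Nat.card (P : Subgroup E) : ℂ) * (Nat.card Q : ℂ) = (Nat.card E : ℂ) := by
    exact_mod_cast hcard
  have hr : classInner (fun e : E => ((p : ℂ) ^ k) * regPart p χ e) ψ
      = (Nat.card E : ℂ)⁻¹ * (((p : ℂ) ^ k) * SQ) := by
    rw [classInner_def, ← claim1]
    congr 1
    rw [Finset.mul_sum]
    exact Finset.sum_congr rfl fun e _ => by ring
  -- (B')
  obtain ⟨N, hN⟩ := IsCharacter.classInner_nat
    (IsCharacter.restrict (IsCharacter.restrict hχc E) Q) (IsCharacter.restrict hψc Q)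
  have hSQN : SQ = (N : ℂ) * (Nat.card Q : ℂ) := by
    rw [classInner_def] at hN
    have : (Nat.card Q : ℂ)⁻¹ * SQ = N := hN
    rw [← this]
    field_simp
  have hB : (Nat.card (P : Subgroup E) : ℂ)
      * classInner (fun e : E => ((p : ℂ) ^ k) * regPart p χ e) ψ = ((p ^ k * N : ℕ) : ℂ) := by
    rw [hr, hSQN, ← hcardC]
    push_cast
    field_simp
  -- (A)
  have hterm : ∀ y : Q, IsIntegral ℤ
      ((b : ℂ) * ((p : ℂ) ^ k) * χ ((y : E) : G) / (Nat.card (P : Subgroup E) : ℂ)) := by
    intro y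
    set g : G := ((y : E) : G) with hg
    have hω := isIntegral_omega hχ g
    set cl := (Finset.univ.filter (fun x : G => IsConj x g)).card with hcl
    set c := Nat.card (Subgroup.centralizer ({g} : Set G)) with hc
    have hclc : cl * c = Nat.card G := card_class_mul_card_centralizer g
    have hPc : Nat.card (P : Subgroup E) ∣ c := by
      have hle : ((P : Subgroup E).map E.subtype) ≤ Subgroup.centralizer ({g} : Set G) := by
        intro u hu
        obtain ⟨u', hu', rfl⟩ := Subgroup.mem_map.mp hu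
        rw [Subgroup.mem_centralizer_iff]
        intro z hz
        rw [Set.mem_singleton_iff] at hz
        subst hz
        have := hcomm u' hu' (y : E) y.2
        have h2 := congrArg (fun e : E => (e : G)) this
        simp only [Subgroup.coe_mul] at h2
        exact h2.symm
      have h1 := Subgroup.card_dvd_of_le hle
      rwa [Subgroup.card_map_of_injective E.subtype_injective] at h1
    obtain ⟨c', hc'⟩ := hPc
    have heq : (b : ℂ) * ((p : ℂ) ^ k) * χ g / (Nat.card (P : Subgroup E) : ℂ)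
        = ((cl : ℂ) * χ g / χ 1) * ((d₁ : ℂ) * (c' : ℂ)) := by
      have h1 : (cl : ℂ) * ((Nat.card (P : Subgroup E) : ℂ) * (c' : ℂ)) = (p : ℂ) ^ n * b := by
        have : cl * (Nat.card (P : Subgroup E) * c') = p ^ n * b := by
          rw [← hc', hclc, hcardG]
        exact_mod_cast this
      rw [hpsplit] at h1
      rw [hd]
      push_cast
      field_simp
      linear_combination (-(χ g)) * h1
    rw [heq]
    apply IsIntegral.mul hω
    exact IsIntegral.mul (isIntegral_natCast d₁) (isIntegral_natCast c')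
  have hA : IsIntegral ℤ (((b * Nat.card Q : ℕ) : ℂ)
      * classInner (fun e : E => ((p : ℂ) ^ k) * regPart p χ e) ψ) := by
    have : ((b * Nat.card Q : ℕ) : ℂ) * classInner (fun e : E => ((p : ℂ) ^ k) * regPart p χ e) ψ
        = ∑ y : Q, ((b : ℂ) * ((p : ℂ) ^ k) * χ ((y : E) : G) / (Nat.card (P : Subgroup E) : ℂ))
            * conj (ψ (y : E)) := by
      rw [hr, hSQ, Finset.mul_sum, Finset.mul_sum, Finset.mul_sum]
      refine Finset.sum_congr rfl fun y _ => ?_
      rw [← hcardC]
      push_cast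
      field_simp
    rw [this]
    apply IsIntegral.sum
    intro y _
    apply IsIntegral.mul (hterm y)
    exact IsCharacter.isIntegral (IsCharacter.conj hψc) (y : E)
  have hcop : Nat.Coprime (Nat.card (P : Subgroup E)) (b * Nat.card Q) := by
    rw [hj]
    apply Nat.Coprime.pow_left
    exact Nat.Coprime.mul_right ((Nat.Prime.coprime_iff_not_dvd hp).mpr hb)
      ((Nat.Prime.coprime_iff_not_dvd hp).mpr hQp)
  exact int_of_two_integral _ (p ^ k * N) _ _ Nat.card_pos hB hcop hA

/-- If `p ^ (n - k)` divides the degree of the irreducible character `χ`, where `p ^ n` is the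
`p`-part of `|G|`, then `p ^ k` times the `p`-regular part of `χ` is a generalized character. -/
theorem regPartPow_isGenChar {χ : G → ℂ} (hχ : IsIrrCharacter G χ) (p : ℕ) [hp : Fact p.Prime]
    (k : ℕ) (hk : k ≤ (Nat.card G).factorization p) (d : ℕ) (hd : χ 1 = d)
    (hdeg : p ^ ((Nat.card G).factorization p - k) ∣ d) :
    IsGeneralizedCharacter G (fun g => ((p : ℂ) ^ k) * regPart p χ g) := by
  classical
  have hχc := IsIrrCharacter.isCharacter hχ
  have hχcf := IsCharacter.isClassFunction hχc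
  set n := (Nat.card G).factorization p with hn
  have hG0 : Nat.card G ≠ 0 := Nat.card_pos.ne'
  set b := Nat.card G / p ^ n with hbdef
  have hcardG : Nat.card G = p ^ n * b := (Nat.ordProj_mul_ordCompl_eq_self (Nat.card G) p).symm
  have hpb : ¬ p ∣ b := Nat.not_dvd_ordCompl hp.out hG0
  obtain ⟨d₁, hd₁⟩ := hdeg
  have hd' : χ 1 = ((p ^ (n - k) * d₁ : ℕ) : ℂ) := by rw [hd, hd₁]
  have hcf : IsClassFunction G (fun g => ((p : ℂ) ^ k) * regPart p χ g) := by
    intro g h
    show ((p : ℂ) ^ k) * regPart p χ (h * g * h⁻¹) = ((p : ℂ) ^ k) * regPart p χ g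
    rw [regPart_isClassFunction hχcf g h]
  exact brauer_characterization _ hcf
    (fun E q hq hE => regPartPow_res_isGenChar hχ p n b d₁ k hp.out hcardG hpb hk hd' E q hq hE)

/-- Integrality of the contributions: `p ^ k ⟨regPart χ, ψ⟩` is an integer. -/
theorem regPartPow_classInner_int {χ ψ : G → ℂ} (hχ : IsIrrCharacter G χ)
    (hψ : IsIrrCharacter G ψ) (p : ℕ) [hp : Fact p.Prime]
    (k : ℕ) (hk : k ≤ (Nat.card G).factorization p) (d : ℕ) (hd : χ 1 = d)
    (hdeg : p ^ ((Nat.card G).factorization p - k) ∣ d) :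
    ∃ m : ℤ, ((p : ℂ) ^ k) * classInner (regPart p χ) ψ = m := by
  obtain ⟨m, hm⟩ := IsGeneralizedCharacter.classInner_irr_int
    (regPartPow_isGenChar hχ p k hk d hd hdeg) hψ
  refine ⟨m, ?_⟩
  rw [← hm, classInner_def, classInner_def, Finset.mul_sum, Finset.mul_sum, Finset.mul_sum]
  refine Finset.sum_congr rfl fun g _ => ?_
  ring

end Cfsg.Agent.Lib.Helper2_RegPartPow
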