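import Mathlib
import Cfsg.Prelude.Def_Characters
import Cfsg.Prelude.Def_Blocks
import Cfsg.Prelude.Def_BlockRank
import Cfsg.Agent.Lib.Helper2_ClassFn
import Cfsg.Agent.Lib.Helper2_CharBasic
import Cfsg.Agent.Lib.Helper2_CharOrtho
import Cfsg.Agent.Lib.Helper2_Clifford
import Cfsg.Agent.Lib.Helper2_CharMore
import Cfsg.Agent.Lib.Helper2_CharDeg
import Cfsg.Agent.Lib.Helper2_CharInd
import Cfsg.Agent.Lib.Helper2_CharExtra
import Cfsg.Agent.Lib.Helper2_CharInt
import Cfsg.Agent.Lib.Helper2_CharValues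
import Cfsg.Agent.Lib.Helper2_CharSum
import Cfsg.Agent.Lib.Helper2_CharComplete
import Cfsg.Agent.Lib.Helper2_CharTable
import Cfsg.Agent.Lib.Helper2_CharCentral
import Cfsg.Agent.Lib.Helper2_ModM
import Cfsg.Agent.Lib.Helper2_Blocks
import Cfsg.Agent.Lib.Helper2_BlockOrtho
import Cfsg.Agent.Lib.Helper2_BlockMore
import Cfsg.Agent.Lib.Helper2_DefectGroup
import Cfsg.Agent.Lib.Helper2_DefectPCore
import Cfsg.Agent.Lib.Helper2_MinMax
import Cfsg.Agent.Lib.Helper2_InducedBlock
import Cfsg.Agent.Lib.Helper2_BrauerMap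
import Cfsg.Agent.Lib.Helper2_InducedDefect
import Cfsg.Agent.Lib.Helper2_BrauerFirst
import Cfsg.Agent.Lib.Helper2_BrauerConverse
import Cfsg.Agent.Lib.Helper2_SylowConj
import Cfsg.Agent.Lib.Helper2_BlockCover
import Cfsg.Agent.Lib.Helper2_BlockConj
import Cfsg.Agent.Lib.Helper2_FirstMain
import Cfsg.Agent.Lib.Helper2_BlockNormal
import Cfsg.Agent.Lib.Helper2_BlockCount
import Cfsg.Agent.Lib.Helper2_BlockCount2
import Cfsg.Agent.Lib.Helper2_BlockKer
import Cfsg.Agent.Lib.Helper2_PRegCount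
import Cfsg.Agent.Lib.Helper2_ExtFirstMain
import Cfsg.Agent.Lib.Helper2_ThirdMain
import Cfsg.Agent.Lib.Helper2_BlockRank
import Cfsg.Agent.Lib.Helper2_BlockIndep
import Cfsg.Agent.Lib.Helper2_CentralDefect
import Cfsg.Agent.Lib.Helper2_CentralDefect2
import Cfsg.Agent.Lib.Helper2_DefectZero
import Cfsg.Agent.Lib.Helper2_RegPartPow
import Cfsg.Agent.Lib.Helper2_CharCenter


set_option autoImplicit false

/-!
# Linking of characters in a block, and blocks with central defect group
-/

namespace Cfsg.Agent.Lib.Helper2_Linking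

open Cfsg
open Cfsg.Agent.Lib.Helper2_ClassFn
open Cfsg.Agent.Lib.Helper2_CharBasic
open Cfsg.Agent.Lib.Helper2_CharOrtho
open Cfsg.Agent.Lib.Helper2_Clifford
open Cfsg.Agent.Lib.Helper2_CharMore
open Cfsg.Agent.Lib.Helper2_CharDeg
open Cfsg.Agent.Lib.Helper2_CharInd
open Cfsg.Agent.Lib.Helper2_CharExtra
open Cfsg.Agent.Lib.Helper2_CharValues
open Cfsg.Agent.Lib.Helper2_CharSum
open Cfsg.Agent.Lib.Helper2_CharComplete
open Cfsg.Agent.Lib.Helper2_CharTable
open Cfsg.Agent.Lib.Helper2_CharCentral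
open Cfsg.Agent.Lib.Helper2_ModM
open Cfsg.Agent.Lib.Helper2_Blocks
open Cfsg.Agent.Lib.Helper2_BlockOrtho
open Cfsg.Agent.Lib.Helper2_BlockMore
open Cfsg.Agent.Lib.Helper2_DefectGroup
open Cfsg.Agent.Lib.Helper2_DefectPCore
open Cfsg.Agent.Lib.Helper2_MinMax
open Cfsg.Agent.Lib.Helper2_InducedBlock
open Cfsg.Agent.Lib.Helper2_BrauerMap
open Cfsg.Agent.Lib.Helper2_InducedDefect
open Cfsg.Agent.Lib.Helper2_BrauerFirst
open Cfsg.Agent.Lib.Helper2_BrauerConverse
open Cfsg.Agent.Lib.Helper2_SylowConj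
open Cfsg.Agent.Lib.Helper2_BlockCover
open Cfsg.Agent.Lib.Helper2_BlockConj
open Cfsg.Agent.Lib.Helper2_FirstMain
open Cfsg.Agent.Lib.Helper2_BlockNormal
open Cfsg.Agent.Lib.Helper2_BlockCount
open Cfsg.Agent.Lib.Helper2_BlockCount2
open Cfsg.Agent.Lib.Helper2_BlockKer
open Cfsg.Agent.Lib.Helper2_PRegCount
open Cfsg.Agent.Lib.Helper2_ExtFirstMain
open Cfsg.Agent.Lib.Helper2_ThirdMain
open Cfsg.Agent.Lib.Helper2_BlockRank
open Cfsg.Agent.Lib.Helper2_BlockIndep
open Cfsg.Agent.Lib.Helper2_CentralDefect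
open Cfsg.Agent.Lib.Helper2_CentralDefect2
open Cfsg.Agent.Lib.Helper2_DefectZero
open Cfsg.Agent.Lib.Helper2_RegPartPow
open Cfsg.Agent.Lib.Helper2_CharCenter
open scoped ComplexConjugate

universe u


variable {G : Type u} [Group G] [Fintype G] {M : Ideal AlgInt}

theorem rp_eq_regPart (p : ℕ) (χ : G → ℂ) : rp p χ = regPart p χ := by
  funext y
  by_cases h : p ∣ orderOf y
  · rw [rp_of_dvd h, regPart_of_dvd h]
  · rw [rp_of_not_dvd h, regPart_of_not_dvd h]

theorem rp_isClassFunction {p : ℕ} {χ : G → ℂ} (hχ : IsClassFunction G χ) :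
    IsClassFunction G (rp p χ) := by
  rw [rp_eq_regPart]
  exact regPart_isClassFunction hχ

/-- Symmetry of the contributions `⟨rp χ, ψ⟩`. -/
theorem classInner_rp_symm (p : ℕ) (χ ψ : G → ℂ) :
    classInner (rp p χ) ψ = conj (classInner (rp p ψ) χ) := by
  classical
  rw [classInner_def, classInner_def, map_mul, map_inv₀, map_natCast, map_sum]
  congr 1
  refine Finset.sum_congr rfl fun g _ => ?_
  by_cases h : p ∣ orderOf g
  · rw [rp_of_dvd h, rp_of_dvd h]; simp
  · rw [rp_of_not_dvd h, rp_of_not_dvd h, map_mul, Complex.conj_conj, mul_comm]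

/-- A subset of a block closed under linking satisfies weak block orthogonality. -/
theorem wbo_of_linking_closed {p : ℕ} [hp : Fact p.Prime] (hM : IsPModular p M)
    (χ₀ : IrrCharacter G) (A : Set (IrrCharacter G)) (hAB : A ⊆ blockOf M (χ₀ : G → ℂ))
    (hclosed : ∀ χ ∈ A, ∀ ψ ∈ blockOf M (χ₀ : G → ℂ), ψ ∉ A →
      classInner (rp p (χ : G → ℂ)) (ψ : G → ℂ) = 0) : WBO p A := by
  classical
  have hMm := hM.2.1
  have hz1 : ∀ χ ∈ irrFinset G, ∀ ψ ∈ irrFinset G, MemB A χ → ¬ MemB A ψ →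
      classInner (rp p χ) ψ = 0 := by
    intro χ hχ ψ hψ hχA hψA
    obtain ⟨hχirr, hχmem⟩ := hχA
    by_cases hψB : SameBlock M (χ₀ : G → ℂ) ψ
    · exact hclosed ⟨χ, hχirr⟩ hχmem ⟨ψ, mem_irrFinset.mp hψ⟩ hψB
        (fun h => hψA ⟨mem_irrFinset.mp hψ, h⟩)
    · exact classInner_rp_eq_zero hM χ₀.2 hχirr (hAB hχmem) (mem_irrFinset.mp hψ) hψB
  intro x y hx hy
  rw [finsum_mem_eq_sum A (fun ψ => ψ x * conj (ψ y))]
  have hS : ∑ χ ∈ irrFinset G, (if MemB A χ then conj (χ x) * χ y else 0) = 0 := by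
    have hexp : ∀ χ ∈ irrFinset G, ∀ g : G,
        rp p χ g = ∑ ψ ∈ irrFinset G, classInner (rp p χ) ψ * ψ g := by
      intro χ hχ g
      have hcf := rp_isClassFunction (p := p) (IsCharacter.isClassFunction
        (IsIrrCharacter.isCharacter (mem_irrFinset.mp hχ)))
      have := congrFun (IsClassFunction.expansion hcf) g
      simpa only [Finset.sum_apply, Pi.smul_apply, smul_eq_mul] using this
    have h1 : ∀ χ ∈ irrFinset G, (if MemB A χ then conj (χ x) * χ y else 0)
        = ∑ ψ ∈ irrFinset G,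
          (if MemB A ψ then conj (ψ x) * (classInner (rp p ψ) χ * χ y) else 0) := by
      intro χ hχ
      by_cases hχA : MemB A χ
      · rw [if_pos hχA]
        have hx' : χ x = rp p χ x := (rp_of_not_dvd hx).symm
        rw [hx', hexp χ hχ x, map_sum, Finset.sum_mul]
        refine Finset.sum_congr rfl fun ψ hψ => ?_
        by_cases hψA : MemB A ψ
        · have e : conj (classInner (rp p χ) ψ) = classInner (rp p ψ) χ :=
            (classInner_rp_symm p ψ χ).symm
          rw [if_pos hψA, map_mul, e]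
          ring
        · rw [if_neg hψA, hz1 χ hχ ψ hψ hχA hψA]
          simp
      · rw [if_neg hχA]
        symm
        refine Finset.sum_eq_zero fun ψ hψ => ?_
        by_cases hψA : MemB A ψ
        · rw [if_pos hψA, hz1 ψ hψ χ hχ hψA hχA]
          simp
        · rw [if_neg hψA]
    rw [Finset.sum_congr rfl h1, Finset.sum_comm]
    refine Finset.sum_eq_zero fun ψ hψ => ?_
    by_cases hψA : MemB A ψ
    · simp only [if_pos hψA]
      rw [← Finset.mul_sum, ← hexp ψ hψ y, rp_of_dvd hy, mul_zero]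
    · simp only [if_neg hψA]
      exact Finset.sum_const_zero
  have h2 := congrArg conj hS
  rw [map_sum, map_zero] at h2
  refine Eq.trans ?_ h2
  refine Finset.sum_congr rfl fun ψ _ => ?_
  split_ifs
  · rw [map_mul, Complex.conj_conj, mul_comm]
  · rw [map_zero]

/-- **Linking**: a nonempty subset of a block that is closed under linking is the whole
block. -/
theorem eq_blockOf_of_linking_closed {p : ℕ} [hp : Fact p.Prime] (hM : IsPModular p M)
    (χ₀ : IrrCharacter G) (A : Set (IrrCharacter G)) (hAB : A ⊆ blockOf M (χ₀ : G → ℂ))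
    (hne : A.Nonempty)
    (hclosed : ∀ χ ∈ A, ∀ ψ ∈ blockOf M (χ₀ : G → ℂ), ψ ∉ A →
      classInner (rp p (χ : G → ℂ)) (ψ : G → ℂ) = 0) : A = blockOf M (χ₀ : G → ℂ) := by
  have hMm := hM.2.1
  apply Set.Subset.antisymm hAB
  intro ψ hψ
  obtain ⟨χ₁, hχ₁⟩ := hne
  have h1 : SameBlock M (χ₁ : G → ℂ) (ψ : G → ℂ) :=
    sameBlock_trans hMm (sameBlock_symm hMm (hAB hχ₁)) hψ
  exact mem_of_wbo hM A (wbo_of_linking_closed hM χ₀ A hAB hclosed) hχ₁ h1

/-- **Blocks with central defect group** have a single irreducible Brauer character: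
the `p`-regular parts of the members of the block span a line. -/
theorem blockRank_eq_one_of_central_defect {p : ℕ} [hp : Fact p.Prime] (hM : IsPModular p M)
    (χ₀ : IrrCharacter G) (P : Subgroup G)
    (hD : IsDefectGroup p M (blockOf M (χ₀ : G → ℂ)) P) (hPZ : P ≤ Subgroup.center G) :
    blockRank p (blockOf M (χ₀ : G → ℂ)) = 1 := by
  classical
  haveI : Fintype P := Fintype.ofFinite _
  have hMm := hM.2.1
  set B := blockOf M (χ₀ : G → ℂ) with hB
  have hP : IsPGroup p P := isPGroup_of_isDefectGroup hD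
  set n := (Nat.card G).factorization p with hn
  have hG0 : Nat.card G ≠ 0 := Nat.card_pos.ne'
  obtain ⟨δ, hδ⟩ := IsPGroup.iff_card.mp hP
  have hPidx : Nat.card P * P.index = Nat.card G := P.card_mul_index
  have hidx0 : P.index ≠ 0 := Subgroup.index_ne_zero_of_finite
  have hpowfac : ∀ k : ℕ, (p ^ k).factorization p = k := by
    intro k
    rw [Nat.Prime.factorization_pow hp.out, Finsupp.single_eq_same]
  have hfac : δ + P.index.factorization p = n := by
    rw [hn, ← hPidx, Nat.factorization_mul Nat.card_pos.ne' hidx0, Finsupp.add_apply, hδ,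
      hpowfac]
  -- degrees
  have hdeg : ∀ χ ∈ B, (charDegree (χ : G → ℂ)).factorization p = P.index.factorization p := by
    intro χ hχ
    obtain ⟨d, hdpos, hd⟩ := IsIrrCharacter.apply_one χ.2
    rw [charDegree_eq' hd]
    apply le_antisymm
    · have h1 : d ∣ (Subgroup.center G).index := degree_dvd_index_center χ.2 d hd
      have h2 : (Subgroup.center G).index ∣ P.index := Subgroup.index_dvd_of_le hPZ
      exact (Nat.factorization_le_iff_dvd hdpos.ne' hidx0).mpr (h1.trans h2) p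
    · obtain ⟨g, hg, S, hPeq⟩ := hD
      have h3 := factorization_index_le hM χ.2 g (hg.2.2 χ hχ)
      rw [charDegree_eq' hd] at h3
      have hcardP' : Nat.card P
          = p ^ (Nat.card (Subgroup.centralizer ({g} : Set G))).factorization p := by
        rw [hPeq, Subgroup.card_map_of_injective (Subgroup.subtype_injective _),
          Sylow.card_eq_multiplicity]
      have hδ' : δ = (Nat.card (Subgroup.centralizer ({g} : Set G))).factorization p := by
        rw [hδ] at hcardP'
        exact Nat.pow_right_injective hp.out.two_le hcardP'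
      have hC := (Subgroup.centralizer ({g} : Set G)).card_mul_index
      have hCidx0 : (Subgroup.centralizer ({g} : Set G)).index ≠ 0 :=
        Subgroup.index_ne_zero_of_finite
      have hfacC : (Nat.card (Subgroup.centralizer ({g} : Set G))).factorization p
          + (Subgroup.centralizer ({g} : Set G)).index.factorization p = n := by
        rw [hn, ← hC, Nat.factorization_mul Nat.card_pos.ne' hCidx0, Finsupp.add_apply]
      omega
  -- vanishing
  have hvan : ∀ χ ∈ B, ∀ x, ¬ Pd p P x → (χ : G → ℂ) x = 0 := fun χ hχ =>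
    (central_defect hM P hP hPZ χ (hdeg χ hχ)).2
  have hP0 : (Nat.card P : ℂ) ≠ 0 := by exact_mod_cast Nat.card_pos.ne'
  have hGC0 : (Nat.card G : ℂ) ≠ 0 := card_ne_zero_complex
  -- self inner product
  have hself : ∀ χ ∈ B, classInner (rp p (χ : G → ℂ)) (χ : G → ℂ) = (Nat.card P : ℂ)⁻¹ := by
    intro χ hχ
    have h1 := card_mul_sum_regW P hP hPZ χ.2 (hvan χ hχ)
    rw [classInner_def]
    have h2 : ∑ g, rp p (χ : G → ℂ) g * conj ((χ : G → ℂ) g)
        = ∑ y, regW p (χ : G → ℂ) y * (χ : G → ℂ) y := by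
      refine Finset.sum_congr rfl fun g _ => ?_
      unfold regW
      by_cases h : p ∣ orderOf g
      · rw [rp_of_dvd h, if_pos h]; simp
      · rw [rp_of_not_dvd h, if_neg h, IsCharacter.apply_inv (IsIrrCharacter.isCharacter χ.2)]
        ring
    rw [h2]
    field_simp
    linear_combination h1
  -- integrality
  have hint : ∀ χ ∈ B, ∀ ψ : IrrCharacter G, ∃ m : ℤ,
      (Nat.card P : ℂ) * classInner (rp p (χ : G → ℂ)) (ψ : G → ℂ) = m := by
    intro χ hχ ψ
    obtain ⟨d, hdpos, hd⟩ := IsIrrCharacter.apply_one χ.2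
    have hk : δ ≤ n := by omega
    have hdvd : p ^ (n - δ) ∣ d := by
      have h1 := hdeg χ hχ
      rw [charDegree_eq' hd] at h1
      have e : n - δ = d.factorization p := by omega
      rw [e]
      exact Nat.ordProj_dvd d p
    obtain ⟨m, hm⟩ := regPartPow_classInner_int χ.2 ψ.2 p δ hk d hd hdvd
    refine ⟨m, ?_⟩
    rw [rp_eq_regPart, hδ]
    push_cast
    exact hm
  -- rp-inner products
  have hrr : ∀ (f h : G → ℂ), classInner (rp p f) (rp p h) = classInner (rp p f) h := by
    intro f h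
    rw [classInner_def, classInner_def]
    congr 1
    refine Finset.sum_congr rfl fun g _ => ?_
    by_cases hg : p ∣ orderOf g
    · rw [rp_of_dvd hg, zero_mul, zero_mul]
    · rw [rp_of_not_dvd hg, rp_of_not_dvd hg]
  -- dichotomy
  have hdich : ∀ χ ∈ B, ∀ ψ ∈ B, classInner (rp p (χ : G → ℂ)) (ψ : G → ℂ) ≠ 0 →
      ∃ c : ℂ, rp p (ψ : G → ℂ) = c • rp p (χ : G → ℂ) := by
    intro χ hχ ψ hψ hne
    obtain ⟨I, hI⟩ := hint χ hχ ψ
    set t : ℂ := (Nat.card P : ℂ)⁻¹ with ht
    have hab : classInner (rp p (χ : G → ℂ)) (ψ : G → ℂ) = I * t := by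
      rw [← hI, ht]
      field_simp
    have hI0 : I ≠ 0 := by
      rintro rfl
      apply hne
      rw [hab]
      simp
    set a := rp p (χ : G → ℂ) with ha
    set b := rp p (ψ : G → ℂ) with hb
    have haa : classInner a a = t := by rw [ha, hrr, hself χ hχ]
    have hbb : classInner b b = t := by rw [hb, hrr, hself ψ hψ]
    have hab' : classInner a b = I * t := by rw [ha, hb, hrr, hab]
    have hba : classInner b a = I * t := by
      rw [← classInner_conj_symm, hab', map_mul, map_intCast, ht, map_inv₀,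
        map_natCast]
    have hu : classInner (a - (I : ℂ) • b) (a - (I : ℂ) • b) = t * (1 - (I : ℂ) ^ 2) := by
      rw [classInner_sub_left, classInner_sub_right, classInner_sub_right,
        classInner_smul_left, classInner_smul_left, classInner_smul_right,
        classInner_smul_right, haa, hab', hba, hbb, map_intCast]
      ring
    have hsum : classInner (a - (I : ℂ) • b) (a - (I : ℂ) • b)
        = (Nat.card G : ℂ)⁻¹ *
          ((∑ g, Complex.normSq ((a - (I : ℂ) • b) g) : ℝ) : ℂ) := by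
      rw [classInner_def]
      congr 1
      push_cast
      exact Finset.sum_congr rfl fun g _ => Complex.mul_conj _
    rw [hsum] at hu
    have hreal : (∑ g, Complex.normSq ((a - (I : ℂ) • b) g) : ℝ)
        = (Nat.card G : ℝ) * (Nat.card P : ℝ)⁻¹ * (1 - (I : ℝ) ^ 2) := by
      have h3 : ((∑ g, Complex.normSq ((a - (I : ℂ) • b) g) : ℝ) : ℂ)
          = (Nat.card G : ℂ) * t * (1 - (I : ℂ) ^ 2) := by
        rw [mul_assoc, ← hu]
        field_simp
      rw [ht] at h3
      have h4 : ((∑ g, Complex.normSq ((a - (I : ℂ) • b) g) : ℝ) : ℂ)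
          = (((Nat.card G : ℝ) * (Nat.card P : ℝ)⁻¹ * (1 - (I : ℝ) ^ 2) : ℝ) : ℂ) := by
        rw [h3]
        push_cast
        ring
      exact Complex.ofReal_injective h4
    have hnn : 0 ≤ (∑ g, Complex.normSq ((a - (I : ℂ) • b) g) : ℝ) :=
      Finset.sum_nonneg fun g _ => Complex.normSq_nonneg _
    have hGpos : (0 : ℝ) < Nat.card G := by exact_mod_cast Nat.card_pos
    have hPpos : (0 : ℝ) < (Nat.card P : ℝ)⁻¹ := by
      apply inv_pos.mpr
      exact_mod_cast Nat.card_pos
    have hI2 : (I : ℝ) ^ 2 ≤ 1 := by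
      by_contra hcon
      push Not at hcon
      have : (Nat.card G : ℝ) * (Nat.card P : ℝ)⁻¹ * (1 - (I : ℝ) ^ 2) < 0 := by
        apply mul_neg_of_pos_of_neg (mul_pos hGpos hPpos)
        linarith
      linarith
    have hI2' : I ^ 2 ≤ 1 := by exact_mod_cast hI2
    have hI1 : I ^ 2 = 1 := by
      have h4 : 0 < I ^ 2 := by positivity
      omega
    have hzero : (∑ g, Complex.normSq ((a - (I : ℂ) • b) g) : ℝ) = 0 := by
      rw [hreal]
      have : (I : ℝ) ^ 2 = 1 := by exact_mod_cast hI1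
      rw [this, sub_self, mul_zero]
    have hall : ∀ g, a g = (I : ℂ) * b g := by
      intro g
      have h5 := (Finset.sum_eq_zero_iff_of_nonneg
        (fun g _ => Complex.normSq_nonneg ((a - (I : ℂ) • b) g))).mp hzero g (Finset.mem_univ g)
      have h6 := Complex.normSq_eq_zero.mp h5
      simp only [Pi.sub_apply, Pi.smul_apply, smul_eq_mul] at h6
      exact sub_eq_zero.mp h6
    refine ⟨(I : ℂ), ?_⟩
    funext g
    simp only [Pi.smul_apply, smul_eq_mul]
    rw [hall g, ← mul_assoc]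
    have : (I : ℂ) * (I : ℂ) = 1 := by
      have h7 : ((I ^ 2 : ℤ) : ℂ) = 1 := by rw [hI1]; simp
      rw [← h7]
      push_cast
      ring
    rw [this, one_mul]
  -- the linked set
  set A : Set (IrrCharacter G) :=
    {ψ | ψ ∈ B ∧ ∃ c : ℂ, rp p (ψ : G → ℂ) = c • rp p (χ₀ : G → ℂ)} with hA
  have hAB : A ⊆ B := fun ψ h => h.1
  have hne : A.Nonempty := ⟨χ₀, self_mem_blockOf hMm χ₀, 1, by rw [one_smul]⟩
  have hclosed : ∀ χ ∈ A, ∀ ψ ∈ B, ψ ∉ A →
      classInner (rp p (χ : G → ℂ)) (ψ : G → ℂ) = 0 := by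
    intro χ hχ ψ hψ hψA
    by_contra hne'
    obtain ⟨c, hc⟩ := hdich χ hχ.1 ψ hψ hne'
    obtain ⟨c', hc'⟩ := hχ.2
    exact hψA ⟨hψ, c * c', by rw [hc, hc', smul_smul]⟩
  have hAeq : A = B := eq_blockOf_of_linking_closed hM χ₀ A hAB hne hclosed
  -- rank
  unfold blockRank
  have hspan : Submodule.span ℂ
      ((fun χ : IrrCharacter G => pRegularPart p (χ : G → ℂ)) '' B)
      = Submodule.span ℂ {rp p (χ₀ : G → ℂ)} := by
    apply le_antisymm
    · rw [Submodule.span_le]
      rintro _ ⟨ψ, hψ, rfl⟩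
      rw [← hAeq] at hψ
      obtain ⟨c, hc⟩ := hψ.2
      show pRegularPart p (ψ : G → ℂ) ∈ _
      rw [pRegularPart_eq_rp, hc]
      exact Submodule.smul_mem _ _ (Submodule.mem_span_singleton_self _)
    · rw [Submodule.span_le, Set.singleton_subset_iff]
      apply Submodule.subset_span
      exact ⟨χ₀, self_mem_blockOf hMm χ₀, pRegularPart_eq_rp p _⟩
  rw [hspan]
  apply finrank_span_singleton
  intro h0
  have h8 := congrFun h0 1
  have h1 : ¬ p ∣ orderOf (1 : G) := by
    rw [orderOf_one]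
    exact hp.out.one_lt.ne' ∘ Nat.dvd_one.mp
  rw [rp_of_not_dvd h1] at h8
  exact IsIrrCharacter.apply_one_ne_zero χ₀.2 h8

end Cfsg.Agent.Lib.Helper2_Linking
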