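import Mathlib
import Cfsg.Prelude.Def_Characters
import Cfsg.Prelude.Def_Blocks
import Cfsg.Prelude.Def_BlockRank
import Cfsg.Agent.Lib.Helper2_ClassFn
import Cfsg.Agent.Lib.Helper2_CharBasic
import Cfsg.Agent.Lib.Helper2_CharOrtho
import Cfsg.Agent.Lib.Helper2_Clifford
import Cfsg.Agent.Lib.Helper2_CharMore
import Cfsg.Agent.Lib.Helper2_CharDeg
import Cfsg.Agent.Lib.Helper2_CharInd
import Cfsg.Agent.Lib.Helper2_CharExtra
import Cfsg.Agent.Lib.Helper2_CharInt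
import Cfsg.Agent.Lib.Helper2_CharValues
import Cfsg.Agent.Lib.Helper2_CharSum
import Cfsg.Agent.Lib.Helper2_CharComplete
import Cfsg.Agent.Lib.Helper2_CharTable
import Cfsg.Agent.Lib.Helper2_CharCentral
import Cfsg.Agent.Lib.Helper2_ModM
import Cfsg.Agent.Lib.Helper2_Blocks
import Cfsg.Agent.Lib.Helper2_BlockOrtho
import Cfsg.Agent.Lib.Helper2_BlockMore
import Cfsg.Agent.Lib.Helper2_DefectGroup
import Cfsg.Agent.Lib.Helper2_DefectPCore
import Cfsg.Agent.Lib.Helper2_MinMax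
import Cfsg.Agent.Lib.Helper2_InducedBlock
import Cfsg.Agent.Lib.Helper2_BrauerMap
import Cfsg.Agent.Lib.Helper2_InducedDefect
import Cfsg.Agent.Lib.Helper2_BrauerFirst
import Cfsg.Agent.Lib.Helper2_BrauerConverse
import Cfsg.Agent.Lib.Helper2_SylowConj
import Cfsg.Agent.Lib.Helper2_BlockCover
import Cfsg.Agent.Lib.Helper2_BlockConj
import Cfsg.Agent.Lib.Helper2_FirstMain
import Cfsg.Agent.Lib.Helper2_BlockNormal
import Cfsg.Agent.Lib.Helper2_BlockCount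
import Cfsg.Agent.Lib.Helper2_BlockCount2
import Cfsg.Agent.Lib.Helper2_BlockKer
import Cfsg.Agent.Lib.Helper2_PRegCount
import Cfsg.Agent.Lib.Helper2_ExtFirstMain
import Cfsg.Agent.Lib.Helper2_ThirdMain
import Cfsg.Agent.Lib.Helper2_BlockRank
import Cfsg.Agent.Lib.Helper2_BlockIndep
import Cfsg.Agent.Lib.Helper2_CentralDefect
import Cfsg.Agent.Lib.Helper2_CentralDefect2
import Cfsg.Agent.Lib.Helper2_DefectZero
import Cfsg.Agent.Lib.Helper2_RegPartPow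
import Cfsg.Agent.Lib.Helper2_CharCenter
import Cfsg.Agent.Lib.Helper2_Linking


set_option autoImplicit false

/-!
# Integrality of the contributions of a block
-/

namespace Cfsg.Agent.Lib.Helper2_Contrib

open Cfsg
open Cfsg.Agent.Lib.Helper2_ClassFn
open Cfsg.Agent.Lib.Helper2_CharBasic
open Cfsg.Agent.Lib.Helper2_CharOrtho
open Cfsg.Agent.Lib.Helper2_Clifford
open Cfsg.Agent.Lib.Helper2_CharMore
open Cfsg.Agent.Lib.Helper2_CharDeg
open Cfsg.Agent.Lib.Helper2_CharInd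
open Cfsg.Agent.Lib.Helper2_CharExtra
open Cfsg.Agent.Lib.Helper2_CharValues
open Cfsg.Agent.Lib.Helper2_CharSum
open Cfsg.Agent.Lib.Helper2_CharComplete
open Cfsg.Agent.Lib.Helper2_CharTable
open Cfsg.Agent.Lib.Helper2_CharCentral
open Cfsg.Agent.Lib.Helper2_ModM
open Cfsg.Agent.Lib.Helper2_Blocks
open Cfsg.Agent.Lib.Helper2_BlockOrtho
open Cfsg.Agent.Lib.Helper2_BlockMore
open Cfsg.Agent.Lib.Helper2_DefectGroup
open Cfsg.Agent.Lib.Helper2_DefectPCore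
open Cfsg.Agent.Lib.Helper2_MinMax
open Cfsg.Agent.Lib.Helper2_InducedBlock
open Cfsg.Agent.Lib.Helper2_BrauerMap
open Cfsg.Agent.Lib.Helper2_InducedDefect
open Cfsg.Agent.Lib.Helper2_BrauerFirst
open Cfsg.Agent.Lib.Helper2_BrauerConverse
open Cfsg.Agent.Lib.Helper2_SylowConj
open Cfsg.Agent.Lib.Helper2_BlockCover
open Cfsg.Agent.Lib.Helper2_BlockConj
open Cfsg.Agent.Lib.Helper2_FirstMain
open Cfsg.Agent.Lib.Helper2_BlockNormal
open Cfsg.Agent.Lib.Helper2_BlockCount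
open Cfsg.Agent.Lib.Helper2_BlockCount2
open Cfsg.Agent.Lib.Helper2_BlockKer
open Cfsg.Agent.Lib.Helper2_PRegCount
open Cfsg.Agent.Lib.Helper2_ExtFirstMain
open Cfsg.Agent.Lib.Helper2_ThirdMain
open Cfsg.Agent.Lib.Helper2_BlockRank
open Cfsg.Agent.Lib.Helper2_BlockIndep
open Cfsg.Agent.Lib.Helper2_CentralDefect
open Cfsg.Agent.Lib.Helper2_CentralDefect2
open Cfsg.Agent.Lib.Helper2_DefectZero
open Cfsg.Agent.Lib.Helper2_RegPartPow
open Cfsg.Agent.Lib.Helper2_CharCenter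
open Cfsg.Agent.Lib.Helper2_Linking
open scoped ComplexConjugate

universe u


variable {G : Type u} [Group G] [Fintype G] {M : Ideal AlgInt}

/-- The degrees of the members of a block of defect `d` are divisible by `p ^ (a - d)`. -/
theorem pow_dvd_degree_of_mem {p : ℕ} [hp : Fact p.Prime] (hM : IsPModular p M)
    (χ₀ : IrrCharacter G) {χ : G → ℂ} (hχ : IsIrrCharacter G χ)
    (hχB : SameBlock M (χ₀ : G → ℂ) χ) (d : ℕ) (hd : χ 1 = d) :
    blockDefect p (blockOf M (χ₀ : G → ℂ)) ≤ (Nat.card G).factorization p ∧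
    p ^ ((Nat.card G).factorization p - blockDefect p (blockOf M (χ₀ : G → ℂ))) ∣ d := by
  classical
  have hMm := hM.2.1
  set B := blockOf M (χ₀ : G → ℂ) with hB
  set n := (Nat.card G).factorization p with hn
  have hχ₀B : χ₀ ∈ B := self_mem_blockOf hMm χ₀
  have hne : ((fun χ : IrrCharacter G => (charDegree (χ : G → ℂ)).factorization p) '' B).Nonempty :=
    ⟨_, χ₀, hχ₀B, rfl⟩
  set s := sInf ((fun χ : IrrCharacter G => (charDegree (χ : G → ℂ)).factorization p) '' B)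
    with hs
  have hδ : blockDefect p B = n - s := rfl
  have hsle : s ≤ (charDegree χ).factorization p :=
    Nat.sInf_le ⟨⟨χ, hχ⟩, hχB, rfl⟩
  rw [charDegree_eq' hd] at hsle
  have hdpos : 0 < d := by
    obtain ⟨d', hd'pos, hd'⟩ := IsIrrCharacter.apply_one hχ
    have : (d : ℂ) = d' := by rw [← hd, hd']
    have : d = d' := by exact_mod_cast this
    omega
  have hdvd : d ∣ Nat.card G := Cfsg.Agent.Lib.Helper2_CharInt.degree_dvd_card hχ d hd
  have h3 : d.factorization p ≤ n :=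
    (Nat.factorization_le_iff_dvd hdpos.ne' Nat.card_pos.ne').mpr hdvd p
  refine ⟨by rw [hδ]; exact Nat.sub_le n s, ?_⟩
  rw [hδ]
  have e : n - (n - s) = s := by omega
  rw [e]
  exact (pow_dvd_pow p hsle).trans (Nat.ordProj_dvd d p)

/-- **Integrality of the contributions**: for `χ` in a block `B` of defect `d`,
`p ^ d ⟨rp χ, ψ⟩` is an integer. -/
theorem contrib_int {p : ℕ} [hp : Fact p.Prime] (hM : IsPModular p M)
    (χ₀ : IrrCharacter G) {χ ψ : G → ℂ} (hχ : IsIrrCharacter G χ)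
    (hχB : SameBlock M (χ₀ : G → ℂ) χ) (hψ : IsIrrCharacter G ψ) :
    ∃ k : ℤ, ((p : ℂ) ^ blockDefect p (blockOf M (χ₀ : G → ℂ))) * classInner (rp p χ) ψ = k := by
  obtain ⟨d, hdpos, hd⟩ := IsIrrCharacter.apply_one hχ
  obtain ⟨hk, hdvd⟩ := pow_dvd_degree_of_mem hM χ₀ hχ hχB d hd
  obtain ⟨k, hk'⟩ := regPartPow_classInner_int hχ hψ p _ hk d hd hdvd
  exact ⟨k, by rw [rp_eq_regPart]; exact hk'⟩

/-- `p ^ d` times the `p`-regular part of an integral combination of the members of a block of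
defect `d` is again an integral combination of the members of the block. -/
theorem zspan_rp {p : ℕ} [hp : Fact p.Prime] (hM : IsPModular p M)
    (χ₀ : IrrCharacter G) (χ : G → ℂ) (n : IrrCharacter G → ℤ)
    (hχ : ∀ g : G, χ g = ∑ᶠ ψ ∈ blockOf M (χ₀ : G → ℂ), (n ψ : ℂ) * (ψ : G → ℂ) g) :
    ∃ n' : IrrCharacter G → ℤ, ∀ g : G,
      (p ^ blockDefect p (blockOf M (χ₀ : G → ℂ)) : ℂ) * pRegularPart p χ g
        = ∑ᶠ ψ ∈ blockOf M (χ₀ : G → ℂ), (n' ψ : ℂ) * (ψ : G → ℂ) g := by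
  classical
  have hMm := hM.2.1
  set B := blockOf M (χ₀ : G → ℂ) with hB
  set d := blockDefect p B with hd
  have hfin : B.Finite := Set.toFinite B
  set SB := hfin.toFinset with hSB
  have hmemSB : ∀ ψ, ψ ∈ SB ↔ ψ ∈ B := fun ψ => Set.Finite.mem_toFinset hfin
  have hint : ∀ ψ : IrrCharacter G, ψ ∈ B → ∀ ξ : IrrCharacter G,
      ∃ k : ℤ, ((p : ℂ) ^ d) * classInner (rp p (ψ : G → ℂ)) (ξ : G → ℂ) = k :=
    fun ψ hψ ξ => contrib_int hM χ₀ ψ.2 hψ ξ.2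
  choose! I hI using hint
  have hfs : ∀ F : IrrCharacter G → ℂ, ∑ᶠ ψ ∈ B, F ψ = ∑ ψ ∈ SB, F ψ := fun F =>
    finsum_mem_eq_finite_toFinset_sum F hfin
  -- expansion of `p ^ d • rp ψ`
  have hexp : ∀ ψ ∈ B, ∀ g : G, ((p : ℂ) ^ d) * rp p (ψ : G → ℂ) g
      = ∑ ξ ∈ SB, (I ψ ξ : ℂ) * (ξ : G → ℂ) g := by
    intro ψ hψ g
    rw [rp_block_expansion hM χ₀.2 ψ.2 hψ g]
    have h1 : ∑ φ ∈ irrFinset G, (if SameBlock M (χ₀ : G → ℂ) φ
        then classInner (rp p (ψ : G → ℂ)) φ * φ g else 0)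
        = ∑ᶠ ξ ∈ B, classInner (rp p (ψ : G → ℂ)) (ξ : G → ℂ) * (ξ : G → ℂ) g := by
      rw [finsum_mem_eq_sum B (fun φ => classInner (rp p (ψ : G → ℂ)) φ * φ g)]
      refine Finset.sum_congr rfl fun φ hφ => ?_
      have hiff : MemB B φ ↔ SameBlock M (χ₀ : G → ℂ) φ := memB_blockOf _ hφ
      by_cases h : SameBlock M (χ₀ : G → ℂ) φ
      · rw [if_pos h, if_pos (hiff.mpr h)]
      · rw [if_neg h, if_neg (fun h' => h (hiff.mp h'))]
    rw [h1, hfs, Finset.mul_sum]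
    refine Finset.sum_congr rfl fun ξ _ => ?_
    rw [← hI ψ hψ ξ]
    ring
  refine ⟨fun ξ => ∑ ψ ∈ SB, n ψ * I ψ ξ, ?_⟩
  intro g
  rw [hfs]
  have hrpχ : rp p χ g = ∑ ψ ∈ SB, (n ψ : ℂ) * rp p (ψ : G → ℂ) g := by
    by_cases hg : p ∣ orderOf g
    · rw [rp_of_dvd hg]
      symm
      refine Finset.sum_eq_zero fun ψ _ => ?_
      rw [rp_of_dvd hg, mul_zero]
    · rw [rp_of_not_dvd hg, hχ g, hfs]
      refine Finset.sum_congr rfl fun ψ _ => ?_
      rw [rp_of_not_dvd hg]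
  rw [pRegularPart_eq_rp, hrpχ, Finset.mul_sum]
  have h2 : ∀ ψ ∈ SB, ((p : ℂ) ^ d) * ((n ψ : ℂ) * rp p (ψ : G → ℂ) g)
      = ∑ ξ ∈ SB, (n ψ : ℂ) * ((I ψ ξ : ℂ) * (ξ : G → ℂ) g) := by
    intro ψ hψ
    rw [← Finset.mul_sum, ← hexp ψ ((hmemSB ψ).mp hψ) g]
    ring
  rw [Finset.sum_congr rfl h2, Finset.sum_comm]
  refine Finset.sum_congr rfl fun ξ _ => ?_
  push_cast
  rw [Finset.sum_mul]
  refine Finset.sum_congr rfl fun ψ _ => ?_
  ring

end Cfsg.Agent.Lib.Helper2_Contrib
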