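import Mathlib

set_option autoImplicit false

namespace Cfsg.Agent.Lib.Helper2_Count

/-- If all fibers of `f : α → β` have cardinality `c`, then `|α| = c * |β|`. -/
theorem card_eq_mul_of_fibers {α β : Type*} [Finite α] [Finite β] (f : α → β) (c : ℕ)
    (h : ∀ b, Nat.card {a // f a = b} = c) : Nat.card α = c * Nat.card β := by
  classical
  haveI := Fintype.ofFinite β
  rw [Nat.card_congr (Equiv.sigmaFiberEquiv f).symm, Nat.card_sigma]
  simp [h, Nat.card_eq_fintype_card, mul_comm]

/-- Orbit counting: the number of group elements sending `x` into a subset `Y` of the orbit of `x`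
is `|Stab(x)| * |Y|`. -/
theorem card_orbit_preimage {G X : Type*} [Group G] [MulAction G X] [Finite G] (x : X)
    (Y : Set X) [Finite Y] (hY : Y ⊆ MulAction.orbit G x) :
    Nat.card {g : G // g • x ∈ Y} = Nat.card (MulAction.stabilizer G x) * Nat.card Y := by
  apply card_eq_mul_of_fibers (fun g : {g : G // g • x ∈ Y} => (⟨g.1 • x, g.2⟩ : Y))
  rintro ⟨y, hy⟩
  obtain ⟨g₀, hg₀⟩ := hY hy
  have hg₀' : g₀ • x = y := hg₀
  apply Nat.card_congr
  refine
    { toFun := fun a => ⟨g₀⁻¹ * a.1.1, ?_⟩
      invFun := fun s => ⟨⟨g₀ * s.1, ?_⟩, ?_⟩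
      left_inv := ?_
      right_inv := ?_ }
  · rw [MulAction.mem_stabilizer_iff, mul_smul]
    have h1 : a.1.1 • x = y := congrArg Subtype.val a.2
    rw [h1, ← hg₀', inv_smul_smul]
  · rw [mul_smul]
    have h1 : s.1 • x = x := s.2
    rw [h1, hg₀']
    exact hy
  · apply Subtype.ext
    show (g₀ * s.1) • x = y
    rw [mul_smul]
    have h1 : s.1 • x = x := s.2
    rw [h1, hg₀']
  · intro a
    apply Subtype.ext
    apply Subtype.ext
    show g₀ * (g₀⁻¹ * a.1.1) = a.1.1
    group
  · intro s
    apply Subtype.ext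
    show g₀⁻¹ * (g₀ * s.1) = s.1
    group

theorem card_subtype_ne_one (G : Type*) [Group G] [Finite G] :
    Nat.card {y : G // y ≠ 1} = Nat.card G - 1 := by
  classical
  have := Fintype.ofFinite G
  rw [Nat.card_eq_fintype_card, Nat.card_eq_fintype_card]
  rw [Fintype.card_subtype_compl]
  simp

theorem card_subgroup_ne_one {G : Type*} [Group G] (H : Subgroup G) [Finite H] :
    Nat.card {h : G // h ∈ H ∧ h ≠ 1} = Nat.card H - 1 := by
  rw [← card_subtype_ne_one H]
  apply Nat.card_congr
  refine
    { toFun := fun h => ⟨⟨h.1, h.2.1⟩, fun hh => h.2.2 (congrArg Subtype.val hh)⟩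
      invFun := fun h => ⟨h.1.1, h.1.2, fun hh => h.2 (Subtype.ext hh)⟩
      left_inv := fun h => rfl
      right_inv := fun h => rfl }

/-- The size of a conjugacy class divides the group order. -/
theorem card_isConj_dvd {K : Type*} [Group K] [Finite K] (c : K) :
    Nat.card {y : K // IsConj c y} ∣ Nat.card K := by
  have : Finite (ConjAct K) := Finite.of_equiv K ConjAct.toConjAct.toEquiv
  have h3 := card_orbit_preimage (G := ConjAct K) (X := K) c {y | IsConj c y}
    (by
      intro y hy
      rw [ConjAct.mem_orbit_conjAct]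
      exact (show IsConj c y from hy).symm)
  have hall : Nat.card {g : ConjAct K // g • c ∈ {y | IsConj c y}} = Nat.card K := by
    have : ∀ g : ConjAct K, g • c ∈ {y | IsConj c y} := by
      intro g
      show IsConj c (g • c)
      rw [ConjAct.smul_def, isConj_iff]
      exact ⟨ConjAct.ofConjAct g, rfl⟩
    rw [Nat.card_congr (Equiv.subtypeUnivEquiv this)]
    exact Nat.card_congr ConjAct.ofConjAct.toEquiv
  rw [hall] at h3
  exact Dvd.intro_left _ h3.symm

end Cfsg.Agent.Lib.Helper2_Count
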