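import Mathlib
import Cfsg.Prelude.Def_Characters
import Cfsg.Prelude.Def_Blocks
import Cfsg.Prelude.Def_BlockRank
import Cfsg.Prelude.Def_BlockLocal
import Cfsg.Prelude.Def_BrauerPairs
import Cfsg.Agent.Lib.Helper2_ClassFn
import Cfsg.Agent.Lib.Helper2_CharBasic
import Cfsg.Agent.Lib.Helper2_CharOrtho
import Cfsg.Agent.Lib.Helper2_Clifford
import Cfsg.Agent.Lib.Helper2_CharMore
import Cfsg.Agent.Lib.Helper2_CharDeg
import Cfsg.Agent.Lib.Helper2_CharInd
import Cfsg.Agent.Lib.Helper2_CharExtra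
import Cfsg.Agent.Lib.Helper2_CharInt
import Cfsg.Agent.Lib.Helper2_CharValues
import Cfsg.Agent.Lib.Helper2_CharSum
import Cfsg.Agent.Lib.Helper2_CharComplete
import Cfsg.Agent.Lib.Helper2_CharTable
import Cfsg.Agent.Lib.Helper2_CharCentral
import Cfsg.Agent.Lib.Helper2_ModM
import Cfsg.Agent.Lib.Helper2_Blocks
import Cfsg.Agent.Lib.Helper2_BlockOrtho
import Cfsg.Agent.Lib.Helper2_BlockMore
import Cfsg.Agent.Lib.Helper2_DefectGroup
import Cfsg.Agent.Lib.Helper2_DefectPCore
import Cfsg.Agent.Lib.Helper2_MinMax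
import Cfsg.Agent.Lib.Helper2_InducedBlock
import Cfsg.Agent.Lib.Helper2_BrauerMap
import Cfsg.Agent.Lib.Helper2_InducedDefect
import Cfsg.Agent.Lib.Helper2_BrauerFirst
import Cfsg.Agent.Lib.Helper2_BrauerConverse
import Cfsg.Agent.Lib.Helper2_SylowConj
import Cfsg.Agent.Lib.Helper2_BlockCover
import Cfsg.Agent.Lib.Helper2_BlockConj
import Cfsg.Agent.Lib.Helper2_FirstMain
import Cfsg.Agent.Lib.Helper2_BlockNormal
import Cfsg.Agent.Lib.Helper2_BlockCount
import Cfsg.Agent.Lib.Helper2_BlockCount2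
import Cfsg.Agent.Lib.Helper2_BlockKer
import Cfsg.Agent.Lib.Helper2_PRegCount
import Cfsg.Agent.Lib.Helper2_ExtFirstMain
import Cfsg.Agent.Lib.Helper2_ThirdMain
import Cfsg.Agent.Lib.Helper2_Fong
import Cfsg.Agent.Lib.Helper2_BrauerPairs
import Cfsg.Agent.Lib.Helper2_BrauerInv
import Cfsg.Agent.Lib.Helper2_Conj


set_option autoImplicit false

/-!
# Stable blocks of normal subgroups of p-power index
-/

namespace Cfsg.Agent.Lib.Helper2_CoverPIndex

open Cfsg
open Cfsg.Agent.Lib.Helper2_ClassFn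
open Cfsg.Agent.Lib.Helper2_CharBasic
open Cfsg.Agent.Lib.Helper2_CharOrtho
open Cfsg.Agent.Lib.Helper2_Clifford
open Cfsg.Agent.Lib.Helper2_CharMore
open Cfsg.Agent.Lib.Helper2_CharDeg
open Cfsg.Agent.Lib.Helper2_CharInd
open Cfsg.Agent.Lib.Helper2_CharExtra
open Cfsg.Agent.Lib.Helper2_CharValues
open Cfsg.Agent.Lib.Helper2_CharSum
open Cfsg.Agent.Lib.Helper2_CharComplete
open Cfsg.Agent.Lib.Helper2_CharTable
open Cfsg.Agent.Lib.Helper2_CharCentral
open Cfsg.Agent.Lib.Helper2_ModM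
open Cfsg.Agent.Lib.Helper2_Blocks
open Cfsg.Agent.Lib.Helper2_BlockOrtho
open Cfsg.Agent.Lib.Helper2_BlockMore
open Cfsg.Agent.Lib.Helper2_DefectGroup
open Cfsg.Agent.Lib.Helper2_DefectPCore
open Cfsg.Agent.Lib.Helper2_MinMax
open Cfsg.Agent.Lib.Helper2_InducedBlock
open Cfsg.Agent.Lib.Helper2_BrauerMap
open Cfsg.Agent.Lib.Helper2_InducedDefect
open Cfsg.Agent.Lib.Helper2_BrauerFirst
open Cfsg.Agent.Lib.Helper2_BrauerConverse
open Cfsg.Agent.Lib.Helper2_SylowConj
open Cfsg.Agent.Lib.Helper2_BlockCover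
open Cfsg.Agent.Lib.Helper2_BlockConj
open Cfsg.Agent.Lib.Helper2_FirstMain
open Cfsg.Agent.Lib.Helper2_BlockNormal
open Cfsg.Agent.Lib.Helper2_BlockCount
open Cfsg.Agent.Lib.Helper2_BlockCount2
open Cfsg.Agent.Lib.Helper2_BlockKer
open Cfsg.Agent.Lib.Helper2_PRegCount
open Cfsg.Agent.Lib.Helper2_ExtFirstMain
open Cfsg.Agent.Lib.Helper2_ThirdMain
open Cfsg.Agent.Lib.Helper2_Fong
open Cfsg.Agent.Lib.Helper2_BrauerPairs
open Cfsg.Agent.Lib.Helper2_BrauerInv
open scoped ComplexConjugate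

universe u

section Cover

variable {G : Type u} [Group G] [Fintype G] {M : Ideal AlgInt}
variable (N : Subgroup G) [hN : N.Normal] [Fintype N]

omit [Fintype G] [Fintype N] in
theorem invariant_of_stabilizes (c : Set (IrrCharacter N))
    (hst : ∀ x : G, StabilizesBlock N c x) : Invariant N c := by
  intro g θ hθ θ' hrel
  obtain ⟨χ', hχ', hc⟩ := (hst g⁻¹).2 θ hθ
  have : χ' = θ' := by
    apply Subtype.ext
    funext n
    rw [hrel n]
    apply hc ⟨g * n * g⁻¹, hN.conj_mem n n.2 g⟩ n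
    show (n : G) = g⁻¹ * (g * (n : G) * g⁻¹) * g⁻¹⁻¹
    group
  rw [← this]
  exact hχ'

omit [Fintype G] [Fintype N] in
theorem subgroupBlockCoeff_eq_conjIdem (c : Set (IrrCharacter N)) (hinv : Invariant N c)
    (g : G) : subgroupBlockCoeff N c g = conjIdem N c g := by
  by_cases hg : g ∈ N
  · rw [subgroupBlockCoeff_of_mem N c g hg]
    have h2 := conjIdem_coe N c ⟨g, hg⟩
    rw [conjUnion_eq_of_invariant N c hinv] at h2
    exact h2.symm
  · rw [conjIdem_supp N c g hg]
    unfold subgroupBlockCoeff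
    rw [dif_neg hg]

open Classical in
/-- If `G/N` is a `p`-group and `c` is a `G`-stable block of `N`, the block of `G` covering `c`
has the same idempotent as `c`. -/
theorem blockCoeff_eq_of_cover_pIndex {p : ℕ} [hp : Fact p.Prime] (hM : IsPModular p M)
    (hidx : ∃ k : ℕ, N.index = p ^ k) (c : Set (IrrCharacter N)) (hc : IsPBlock M c)
    (hinv : Invariant N c) (χ : IrrCharacter G) (θ : IrrCharacter N) (hθ : θ ∈ c)
    (hov : classInner (fun n : N => (χ : G → ℂ) n) (θ : N → ℂ) ≠ 0) (g : G) :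
    blockCoeff (blockOf M (χ : G → ℂ)) g = subgroupBlockCoeff N c g := by
  have hMm := hM.2.1
  set B := blockOf M (χ : G → ℂ) with hB
  have hz : IsClassFunction G (blockCoeff B) := blockCoeff_isClassFunction B
  have hsupp : ∀ g, g ∉ N → blockCoeff B g = 0 := by
    intro g hg
    apply blockCoeff_vanish hM χ g
    by_contra hpg
    exact hg (mem_of_pregular N hidx g hpg)
  by_cases hg : g ∈ N
  swap
  · rw [hsupp g hg]
    unfold subgroupBlockCoeff
    rw [dif_neg hg]
  rw [subgroupBlockCoeff_of_mem N c g hg]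
  -- compare on `N`
  have hD : (fun n : N => blockCoeff B (n : G) - blockCoeff c n) = 0 := by
    apply eq_zero_of_forall_sum_eq_zero
    · intro n t
      show blockCoeff B ((t * n * t⁻¹ : N) : G) - blockCoeff c (t * n * t⁻¹)
        = blockCoeff B (n : G) - blockCoeff c n
      rw [blockCoeff_isClassFunction c n t]
      have := hz (n : G) (t : G)
      simp only [Subgroup.coe_mul, Subgroup.coe_inv]
      rw [this]
    · intro θ' hθ'
      obtain ⟨χ', hov'⟩ := exists_over N hθ'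
      have hθ'1 : θ' 1 ≠ 0 := IsIrrCharacter.apply_one_ne_zero hθ'
      have e1 := om_of_supported N hz hsupp hθ' χ'.2 hov'
      rw [om_blockCoeff B χ'.2] at e1
      have e2 := om_blockCoeff c hθ'
      unfold om at e2
      have hiff : MemB B (χ' : G → ℂ) ↔ MemB c θ' := by
        constructor
        · intro hm
          have hχ'B : χ' ∈ B := (memB_coe B χ').mp hm
          have hs : ∀ n : N, MemLocalIdeal M
              (centralChar (χ : G → ℂ) n - centralChar (χ' : G → ℂ) n) := fun n => hχ'B n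
          have := memB_conjUnion_of_cover N hMm c hc χ.2 χ'.2 hs θ.2 hθ'
            ((memB_coe c θ).mpr hθ) hov hov'
          rwa [conjUnion_eq_of_invariant N c hinv] at this
        · intro hm
          obtain ⟨hirr, hmem⟩ := hm
          obtain ⟨θ₀, rfl⟩ := hc
          have hs : SameBlock M (θ : N → ℂ) θ' :=
            sameBlock_trans hMm (sameBlock_symm hMm hθ) hmem
          have := sameBlock_of_cover_pIndex hM N hidx χ χ' θ.2 hθ' hs hov hov'
          exact (memB_coe B χ').mpr this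
      have h3 : ∑ n : N, (blockCoeff B (n : G) - blockCoeff c n) * θ' n
          = ∑ n : N, blockCoeff B (n : G) * θ' n - ∑ n : N, blockCoeff c n * θ' n := by
        rw [← Finset.sum_sub_distrib]
        exact Finset.sum_congr rfl fun n _ => by ring
      rw [h3]
      have h4 : ∑ n : N, blockCoeff B (n : G) * θ' n
          = (if MemB B (χ' : G → ℂ) then 1 else 0) * θ' 1 := by
        rw [e1]
        field_simp
      have h5 : ∑ n : N, blockCoeff c n * θ' n = (if MemB c θ' then 1 else 0) * θ' 1 := by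
        rw [← e2]
        field_simp
      rw [h4, h5, if_congr hiff rfl rfl, sub_self]
  have := congrFun hD ⟨g, hg⟩
  simp only [Pi.zero_apply] at this
  exact sub_eq_zero.mp this

/-- Defect groups of the block of `G` covering a stable block of a normal subgroup of `p`-power
index. -/
theorem defect_of_cover_pIndex {p : ℕ} [hp : Fact p.Prime] (hM : IsPModular p M)
    (hidx : ∃ k : ℕ, N.index = p ^ k) (c : Set (IrrCharacter N)) (hc : IsPBlock M c)
    (hinv : Invariant N c) (B : Set (IrrCharacter G)) (hB : IsPBlock M B)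
    (hBc : ∀ g : G, blockCoeff B g = subgroupBlockCoeff N c g) (P : Subgroup G)
    (hP : IsDefectGroup p M B P) :
    N ⊔ P = ⊤ ∧ IsDefectGroup p M c ((P ⊓ N).subgroupOf N) := by
  classical
  have hMm := hM.2.1
  obtain ⟨χ₁, rfl⟩ := id hB
  obtain ⟨θ₁, hov₁⟩ := exists_under N χ₁.2
  have hfun : blockCoeff (blockOf M (χ₁ : G → ℂ)) = conjIdem N c := by
    funext g
    rw [hBc g, subgroupBlockCoeff_eq_conjIdem N c hinv]
  have hθ₁ : θ₁ ∈ c := by
    have h1 := om_blockCoeff (blockOf M (χ₁ : G → ℂ)) χ₁.2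
    rw [if_pos ((memB_coe _ χ₁).mpr (self_mem_blockOf hMm χ₁)), hfun,
      om_conjIdem N c χ₁.2 θ₁.2 hov₁] at h1
    by_contra hcon
    rw [if_neg, eq_comm] at h1
    · exact one_ne_zero h1
    · intro hm
      rw [conjUnion_eq_of_invariant N c hinv] at hm
      exact hcon ((memB_coe c θ₁).mp hm)
  have hcov : ∃ χ ∈ blockOf M (χ₁ : G → ℂ), ∃ θ ∈ c,
      classInner (fun n : N => (χ : G → ℂ) n) (θ : N → ℂ) ≠ 0 :=
    ⟨χ₁, self_mem_blockOf hMm χ₁, θ₁, hθ₁, hov₁⟩
  have hmax : ∀ B' : Set (IrrCharacter G), IsPBlock M B' →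
      (∃ χ ∈ B', ∃ θ ∈ c, classInner (fun n : N => (χ : G → ℂ) n) (θ : N → ℂ) ≠ 0) →
      blockDefect p B' ≤ blockDefect p (blockOf M (χ₁ : G → ℂ)) := by
    rintro B' ⟨χ', rfl⟩ ⟨χ'', hχ'', θ'', hθ'', hov''⟩
    obtain ⟨θ₀, rfl⟩ := hc
    have hs : SameBlock M (θ₁ : N → ℂ) (θ'' : N → ℂ) :=
      sameBlock_trans hMm (sameBlock_symm hMm hθ₁) hθ''
    have h1 := sameBlock_of_cover_pIndex hM N hidx χ₁ χ'' θ₁.2 θ''.2 hs hov₁ hov''
    have h2 : SameBlock M (χ₁ : G → ℂ) (χ' : G → ℂ) :=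
      sameBlock_trans hMm h1 (sameBlock_symm hMm hχ'')
    rw [blockOf_eq_of_sameBlock hMm h2]
  obtain ⟨h1, h2, _⟩ := fong N hM c hc hinv _ hB hcov hmax P hP
  refine ⟨?_, h2⟩
  obtain ⟨k, hk⟩ := hidx
  have h3 : (P ⊔ N).index ∣ p ^ k := by
    rw [← hk]
    exact Subgroup.index_dvd_of_le le_sup_right
  obtain ⟨j, _, hj⟩ := (Nat.dvd_prime_pow hp.out).mp h3
  have hj0 : j = 0 := by
    by_contra hne
    apply h1
    rw [hj]
    exact dvd_pow_self p hne
  rw [hj0, pow_zero] at hj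
  rw [sup_comm]
  exact Subgroup.index_eq_one.mp hj

/-- **Stable blocks of a normal subgroup of `p`-power index.** -/
theorem cover_pIndex {p : ℕ} [hp : Fact p.Prime] (hM : IsPModular p M)
    (hidx : ∃ k : ℕ, N.index = p ^ k) (c : Set (IrrCharacter N)) (hc : IsPBlock M c)
    (hst : ∀ x : G, StabilizesBlock N c x) :
    (∃ B : Set (IrrCharacter G), IsPBlock M B ∧
      ∀ g : G, blockCoeff B g = subgroupBlockCoeff N c g) ∧
    ∀ B : Set (IrrCharacter G), IsPBlock M B →
      (∀ g : G, blockCoeff B g = subgroupBlockCoeff N c g) →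
      ∀ P : Subgroup G, IsDefectGroup p M B P →
        N ⊔ P = ⊤ ∧ IsDefectGroup p M c ((P ⊓ N).subgroupOf N) := by
  have hMm := hM.2.1
  have hinv := invariant_of_stabilizes N c hst
  constructor
  · obtain ⟨θ₀, rfl⟩ := id hc
    obtain ⟨χ, hov⟩ := exists_over N θ₀.2
    exact ⟨blockOf M (χ : G → ℂ), ⟨χ, rfl⟩, fun g =>
      blockCoeff_eq_of_cover_pIndex N hM hidx _ hc hinv χ θ₀ (self_mem_blockOf hMm θ₀) hov g⟩
  · intro B hB hBc P hP
    exact defect_of_cover_pIndex N hM hidx c hc hinv B hB hBc P hP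

end Cover

end Cfsg.Agent.Lib.Helper2_CoverPIndex
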