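import Mathlib
import Cfsg.Prelude.Def_Characters
import Cfsg.Prelude.Def_Blocks
import Cfsg.Prelude.Def_BlockRank
import Cfsg.Prelude.Def_BlockLocal
import Cfsg.Prelude.Def_BrauerPairs
import Cfsg.Agent.Lib.Helper2_ClassFn
import Cfsg.Agent.Lib.Helper2_CharBasic
import Cfsg.Agent.Lib.Helper2_CharOrtho
import Cfsg.Agent.Lib.Helper2_Clifford
import Cfsg.Agent.Lib.Helper2_CharMore
import Cfsg.Agent.Lib.Helper2_CharDeg
import Cfsg.Agent.Lib.Helper2_CharInd
import Cfsg.Agent.Lib.Helper2_CharExtra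
import Cfsg.Agent.Lib.Helper2_CharInt
import Cfsg.Agent.Lib.Helper2_CharValues
import Cfsg.Agent.Lib.Helper2_CharSum
import Cfsg.Agent.Lib.Helper2_CharComplete
import Cfsg.Agent.Lib.Helper2_CharTable
import Cfsg.Agent.Lib.Helper2_CharCentral
import Cfsg.Agent.Lib.Helper2_ModM
import Cfsg.Agent.Lib.Helper2_Blocks
import Cfsg.Agent.Lib.Helper2_BlockOrtho
import Cfsg.Agent.Lib.Helper2_BlockMore
import Cfsg.Agent.Lib.Helper2_DefectGroup
import Cfsg.Agent.Lib.Helper2_DefectPCore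
import Cfsg.Agent.Lib.Helper2_MinMax
import Cfsg.Agent.Lib.Helper2_InducedBlock
import Cfsg.Agent.Lib.Helper2_BrauerMap
import Cfsg.Agent.Lib.Helper2_InducedDefect
import Cfsg.Agent.Lib.Helper2_BrauerFirst
import Cfsg.Agent.Lib.Helper2_BrauerConverse
import Cfsg.Agent.Lib.Helper2_SylowConj
import Cfsg.Agent.Lib.Helper2_BlockCover
import Cfsg.Agent.Lib.Helper2_BlockConj
import Cfsg.Agent.Lib.Helper2_FirstMain
import Cfsg.Agent.Lib.Helper2_BlockNormal
import Cfsg.Agent.Lib.Helper2_BlockCount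
import Cfsg.Agent.Lib.Helper2_BlockCount2
import Cfsg.Agent.Lib.Helper2_BlockKer
import Cfsg.Agent.Lib.Helper2_PRegCount
import Cfsg.Agent.Lib.Helper2_ExtFirstMain
import Cfsg.Agent.Lib.Helper2_ThirdMain
import Cfsg.Agent.Lib.Helper2_Fong
import Cfsg.Agent.Lib.Helper2_BrauerPairs
import Cfsg.Agent.Lib.Helper2_BrauerInv
import Cfsg.Agent.Lib.Helper2_Conj
import Cfsg.Agent.Lib.Helper2_BrauerChain
import Cfsg.Agent.Lib.Helper2_BrauerPrincipal
import Cfsg.Agent.Lib.Helper2_BrauerMax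
import Cfsg.Agent.Lib.Helper2_BrauerConjMax
import Cfsg.Agent.Lib.Helper2_BrauerLocal
import Cfsg.Agent.Lib.Helper2_BrauerStab
import Cfsg.Agent.Lib.Helper2_BlockTrace
import Cfsg.Agent.Lib.Helper2_BlockFusion
import Cfsg.Agent.S0876


set_option autoImplicit false

/-!
# Character values near defect classes
-/

namespace Cfsg.Agent.Lib.Helper2_DefectValues

open Cfsg
open Cfsg.Agent.Lib.Helper2_ClassFn
open Cfsg.Agent.Lib.Helper2_CharBasic
open Cfsg.Agent.Lib.Helper2_CharOrtho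
open Cfsg.Agent.Lib.Helper2_Clifford
open Cfsg.Agent.Lib.Helper2_CharMore
open Cfsg.Agent.Lib.Helper2_CharDeg
open Cfsg.Agent.Lib.Helper2_CharInd
open Cfsg.Agent.Lib.Helper2_CharExtra
open Cfsg.Agent.Lib.Helper2_CharValues
open Cfsg.Agent.Lib.Helper2_CharSum
open Cfsg.Agent.Lib.Helper2_CharComplete
open Cfsg.Agent.Lib.Helper2_CharTable
open Cfsg.Agent.Lib.Helper2_CharCentral
open Cfsg.Agent.Lib.Helper2_ModM
open Cfsg.Agent.Lib.Helper2_Blocks
open Cfsg.Agent.Lib.Helper2_BlockOrtho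
open Cfsg.Agent.Lib.Helper2_BlockMore
open Cfsg.Agent.Lib.Helper2_DefectGroup
open Cfsg.Agent.Lib.Helper2_DefectPCore
open Cfsg.Agent.Lib.Helper2_MinMax
open Cfsg.Agent.Lib.Helper2_InducedBlock
open Cfsg.Agent.Lib.Helper2_BrauerMap
open Cfsg.Agent.Lib.Helper2_InducedDefect
open Cfsg.Agent.Lib.Helper2_BrauerFirst
open Cfsg.Agent.Lib.Helper2_BrauerConverse
open Cfsg.Agent.Lib.Helper2_SylowConj
open Cfsg.Agent.Lib.Helper2_BlockCover
open Cfsg.Agent.Lib.Helper2_BlockConj
open Cfsg.Agent.Lib.Helper2_FirstMain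
open Cfsg.Agent.Lib.Helper2_BlockNormal
open Cfsg.Agent.Lib.Helper2_BlockCount
open Cfsg.Agent.Lib.Helper2_BlockCount2
open Cfsg.Agent.Lib.Helper2_BlockKer
open Cfsg.Agent.Lib.Helper2_PRegCount
open Cfsg.Agent.Lib.Helper2_ExtFirstMain
open Cfsg.Agent.Lib.Helper2_ThirdMain
open Cfsg.Agent.Lib.Helper2_Fong
open Cfsg.Agent.Lib.Helper2_BrauerPairs
open Cfsg.Agent.Lib.Helper2_BrauerInv
open Cfsg.Agent.Lib.Helper2_BrauerChain
open Cfsg.Agent.Lib.Helper2_BrauerPrincipal
open Cfsg.Agent.Lib.Helper2_BrauerMax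
open Cfsg.Agent.Lib.Helper2_BrauerConjMax
open Cfsg.Agent.Lib.Helper2_BrauerLocal
open Cfsg.Agent.Lib.Helper2_BrauerStab
open Cfsg.Agent.Lib.Helper2_BlockTrace
open Cfsg.Agent.Lib.Helper2_BlockFusion
open scoped ComplexConjugate

universe u


section PElement

variable {G : Type u} [Group G] [Fintype G] {M : Ideal AlgInt}

/-- `χ (x y) ≡ χ y` for a `p`-element `x` commuting with the `p`-regular element `y`. -/
theorem char_mul_pElement_sub_mem {p : ℕ} (hM : IsPModular p M) (χ : IrrCharacter G) (x y : G)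
    (hx : ∃ k : ℕ, orderOf x = p ^ k) (hy : ¬ p ∣ orderOf y) (hc : Commute x y) :
    MemLocalIdeal M ((χ : G → ℂ) (x * y) - (χ : G → ℂ) y) := by
  have h1 : IsPPart p (x * y) x := ⟨y, rfl, hc, hx, hy⟩
  have h2 : IsPPart p y 1 := ⟨y, one_mul y, Commute.one_left y, ⟨0, by simp⟩, hy⟩
  refine (Cfsg.Agent.S0876.result p M hM (x * y) y x 1 h1 h2).mp ?_ χ
  rw [inv_mul_cancel_left, inv_one, one_mul]

/-- `y` is a power of `x y`. -/
theorem exists_pow_eq_of_pElement {p : ℕ} [hp : Fact p.Prime] (x y : G)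
    (hx : ∃ k : ℕ, orderOf x = p ^ k) (hy : ¬ p ∣ orderOf y) (hc : Commute x y) :
    ∃ r : ℕ, (x * y) ^ r = y := by
  obtain ⟨k, hk⟩ := hx
  have hcop : (p ^ k).Coprime (orderOf y) :=
    Nat.Coprime.pow_left k ((Nat.Prime.coprime_iff_not_dvd hp.out).mpr hy)
  obtain ⟨r, hr0, hr1⟩ := Nat.chineseRemainder hcop 0 1
  refine ⟨r, ?_⟩
  rw [hc.mul_pow]
  have h1 : x ^ r = 1 := by
    rw [← orderOf_dvd_iff_pow_eq_one, hk]
    exact (Nat.modEq_zero_iff_dvd).mp hr0
  have h2 : y ^ r = y := by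
    have := (pow_eq_pow_iff_modEq (x := y) (n := r) (m := 1)).mpr hr1
    rwa [pow_one] at this
  rw [h1, h2, one_mul]

end PElement

section DefectClassValues

variable {G : Type u} [Group G] [Fintype G] {M : Ideal AlgInt}

/-- Cancelling `p'`-integers in a central character. -/
theorem memLocalIdeal_of_ratio {p : ℕ} (hM : IsPModular p M) (m₁ m₂ s : ℕ)
    (h1 : m₁.Coprime p) (h2 : m₂.Coprime p) (hp0 : p ≠ 0) (z : ℂ)
    (h : MemLocalIdeal M (((p ^ s * m₁ : ℕ) : ℂ) * z / ((p ^ s * m₂ : ℕ) : ℂ))) :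
    MemLocalIdeal M z := by
  have hMm := hM.2.1
  have hps : ((p : ℂ) ^ s) ≠ 0 := pow_ne_zero _ (Nat.cast_ne_zero.mpr hp0)
  have hm1 : (m₁ : ℂ) ≠ 0 := by
    intro h0
    have : m₁ = 0 := by exact_mod_cast h0
    rw [this, Nat.coprime_zero_left] at h1
    exact hM.1.one_lt.ne' h1
  have hm2 : (m₂ : ℂ) ≠ 0 := by
    intro h0
    have : m₂ = 0 := by exact_mod_cast h0
    rw [this, Nat.coprime_zero_left] at h2
    exact hM.1.one_lt.ne' h2
  have e1 : z = (m₁ : ℂ)⁻¹ * ((m₂ : ℂ) *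
      (((p ^ s * m₁ : ℕ) : ℂ) * z / ((p ^ s * m₂ : ℕ) : ℂ))) := by
    push_cast
    field_simp
  rw [e1]
  exact memLocalIdeal_mul_ring hMm
    (memLocalIdeal_mul_int hMm h (isIntegral_nat m₂)) (memLocalRing_natCast_inv hM m₁ h1)

theorem memLocalIdeal_ratio_of {p : ℕ} (hM : IsPModular p M) (m₁ m₂ s : ℕ)
    (h2 : m₂.Coprime p) (hp0 : p ≠ 0) (z : ℂ) (h : MemLocalIdeal M z) :
    MemLocalIdeal M (((p ^ s * m₁ : ℕ) : ℂ) * z / ((p ^ s * m₂ : ℕ) : ℂ)) := by
  have hMm := hM.2.1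
  have hps : ((p : ℂ) ^ s) ≠ 0 := pow_ne_zero _ (Nat.cast_ne_zero.mpr hp0)
  have hm2 : (m₂ : ℂ) ≠ 0 := by
    intro h0
    have : m₂ = 0 := by exact_mod_cast h0
    rw [this, Nat.coprime_zero_left] at h2
    exact hM.1.one_lt.ne' h2
  have e1 : ((p ^ s * m₁ : ℕ) : ℂ) * z / ((p ^ s * m₂ : ℕ) : ℂ)
      = (m₂ : ℂ)⁻¹ * ((m₁ : ℂ) * z) := by
    push_cast
    field_simp
  rw [e1]
  exact memLocalIdeal_mul_ring hMm
    (memLocalIdeal_mul_int hMm h (isIntegral_nat m₁)) (memLocalRing_natCast_inv hM m₂ h2)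

end DefectClassValues

section DefectClassMain

variable {G : Type u} [Group G] [Fintype G] {M : Ideal AlgInt}

theorem nat_decomp (p : ℕ) [hp : Fact p.Prime] (n : ℕ) (hn : n ≠ 0) :
    ∃ m : ℕ, m.Coprime p ∧ n = p ^ (n.factorization p) * m :=
  ⟨n / p ^ n.factorization p, (Nat.coprime_ordCompl hp.out hn).symm,
    (Nat.ordProj_mul_ordCompl_eq_self n p).symm⟩

theorem defectClass_values {p : ℕ} [hp : Fact p.Prime] (hM : IsPModular p M)
    (B : Set (IrrCharacter G)) (hB : IsPBlock M B) (y : G) (hy : IsDefectClass M B y)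
    (P : Sylow p (Subgroup.centralizer ({y} : Set G)))
    (x : Subgroup.centralizer ({y} : Set G))
    (hx : x ∈ (P : Subgroup (Subgroup.centralizer ({y} : Set G)))) :
    (∀ χ ∈ B, blockHeight p B (χ : G → ℂ) = 0 →
      ¬ MemLocalIdeal M ((χ : G → ℂ) ((x : G) * y))) ∧
    ((∀ w ∈ (P : Subgroup (Subgroup.centralizer ({y} : Set G))), x * w = w * x) →
      ∀ χ ∈ B, ¬ MemLocalIdeal M (centralChar (χ : G → ℂ) ((x : G) * y))) := by
  classical
  have hMm := hM.2.1
  have hp0 : p ≠ 0 := hp.out.ne_zero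
  obtain ⟨χ₁, rfl⟩ := hB
  have hyreg : ¬ p ∣ orderOf y := by
    intro hdvd
    apply hy.2.1
    rw [blockCoeff_vanish hM χ₁ y hdvd]
    exact memLocalIdeal_zero hMm
  have hxp : ∃ k : ℕ, orderOf (x : G) = p ^ k := by
    obtain ⟨k, hk⟩ := (IsPGroup.iff_orderOf.mp P.2) ⟨x, hx⟩
    refine ⟨k, ?_⟩
    rw [← hk, Subgroup.orderOf_mk, Subgroup.orderOf_coe]
  have hcomm : Commute (x : G) y :=
    (Subgroup.mem_centralizer_iff.mp x.2 y (Set.mem_singleton y)).symm
  have hcong : ∀ χ : IrrCharacter G,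
      MemLocalIdeal M ((χ : G → ℂ) ((x : G) * y) - (χ : G → ℂ) y) :=
    fun χ => char_mul_pElement_sub_mem hM χ x y hxp hyreg hcomm
  set a := (Nat.card G).factorization p with ha
  set d := (Nat.card (Subgroup.centralizer ({y} : Set G))).factorization p with hd
  set S := (fun ψ : IrrCharacter G => (charDegree (ψ : G → ℂ)).factorization p) ''
    blockOf M (χ₁ : G → ℂ) with hS
  have hdef : a - sInf S = d := blockDefect_eq_of_defectClass hM χ₁ y hy
  have hSne : S.Nonempty := ⟨_, χ₁, self_mem_blockOf hMm χ₁, rfl⟩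
  have hsle : sInf S ≤ a := by
    have h1 : (charDegree (χ₁ : G → ℂ)).factorization p ∈ S :=
      ⟨χ₁, self_mem_blockOf hMm χ₁, rfl⟩
    have h2 := Nat.sInf_le h1
    have h3 : charDegree (χ₁ : G → ℂ) ∣ Nat.card G :=
      Cfsg.Agent.Lib.Helper2_CharInt.degree_dvd_card χ₁.2 _ (apply_one_eq_charDegree χ₁.2).1
    have h4 := (Nat.factorization_le_iff_dvd (apply_one_eq_charDegree χ₁.2).2.ne'
      Nat.card_pos.ne').mpr h3 p
    exact h2.trans h4
  have hidx : ∀ g : G,
      (Nat.card (Subgroup.centralizer ({g} : Set G))).factorization p = d →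
      (Subgroup.centralizer ({g} : Set G)).index.factorization p = sInf S := by
    intro g hg
    have h1 := Subgroup.card_mul_index (Subgroup.centralizer ({g} : Set G))
    have h2 : (Nat.card (Subgroup.centralizer ({g} : Set G)) *
        (Subgroup.centralizer ({g} : Set G)).index).factorization p = a := by rw [h1]
    rw [Nat.factorization_mul Nat.card_pos.ne' (Subgroup.index_ne_zero_of_finite),
      Finsupp.add_apply, hg] at h2
    omega
  have hkey : ∀ (χ : IrrCharacter G), χ ∈ blockOf M (χ₁ : G → ℂ) →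
      blockHeight p (blockOf M (χ₁ : G → ℂ)) (χ : G → ℂ) = 0 → ∀ g : G,
      (Nat.card (Subgroup.centralizer ({g} : Set G))).factorization p = d →
      (MemLocalIdeal M (centralChar (χ : G → ℂ) g) ↔ MemLocalIdeal M ((χ : G → ℂ) g)) := by
    intro χ hχ hh g hg
    have hν : (charDegree (χ : G → ℂ)).factorization p = sInf S := by
      have h1 : (charDegree (χ : G → ℂ)).factorization p ∈ S := ⟨χ, hχ, rfl⟩
      have h2 := Nat.sInf_le h1
      unfold blockHeight at hh
      rw [← hS] at hh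
      omega
    obtain ⟨m₁, hm₁, e₁⟩ := nat_decomp p (Subgroup.centralizer ({g} : Set G)).index
      Subgroup.index_ne_zero_of_finite
    obtain ⟨m₂, hm₂, e₂⟩ := nat_decomp p (charDegree (χ : G → ℂ))
      (apply_one_eq_charDegree χ.2).2.ne'
    rw [hidx g hg] at e₁
    rw [hν] at e₂
    have hcc : centralChar (χ : G → ℂ) g
        = ((p ^ sInf S * m₁ : ℕ) : ℂ) * (χ : G → ℂ) g / ((p ^ sInf S * m₂ : ℕ) : ℂ) := by
      unfold centralChar
      rw [(apply_one_eq_charDegree χ.2).1, ← e₁, ← e₂]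
    rw [hcc]
    exact ⟨memLocalIdeal_of_ratio hM m₁ m₂ _ hm₁ hm₂ hp0 _,
      memLocalIdeal_ratio_of hM m₁ m₂ _ hm₂ hp0 _⟩
  refine ⟨?_, ?_⟩
  · intro χ hχ hh hmem
    have h1 : MemLocalIdeal M ((χ : G → ℂ) y) := by
      have := memLocalIdeal_sub hMm hmem (hcong χ)
      rwa [sub_sub_cancel] at this
    exact hy.2.2 χ hχ ((hkey χ hχ hh y rfl).mpr h1)
  · intro hcen χ hχ hmem
    obtain ⟨χ₀, hχ₀, hν₀⟩ := Nat.sInf_mem hSne
    have hh₀ : blockHeight p (blockOf M (χ₁ : G → ℂ)) (χ₀ : G → ℂ) = 0 := by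
      unfold blockHeight
      rw [← hS, ← hν₀]
      exact Nat.sub_self _
    have hCxy : (Nat.card (Subgroup.centralizer ({(x : G) * y} : Set G))).factorization p
        = d := by
      apply le_antisymm
      · obtain ⟨r, hr⟩ := exists_pow_eq_of_pElement (x : G) y hxp hyreg hcomm
        have hle : Subgroup.centralizer ({(x : G) * y} : Set G)
            ≤ Subgroup.centralizer ({y} : Set G) := by
          intro g hg
          rw [Subgroup.mem_centralizer_singleton_iff] at hg ⊢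
          rw [← hr]
          have hc : Commute g ((x : G) * y) := hg
          exact (hc.pow_right r)
        have hdvd := Subgroup.card_dvd_of_le hle
        exact (Nat.factorization_le_iff_dvd Nat.card_pos.ne' Nat.card_pos.ne').mpr hdvd p
      · have hPle : (P : Subgroup (Subgroup.centralizer ({y} : Set G))).map
            (Subgroup.centralizer ({y} : Set G)).subtype
            ≤ Subgroup.centralizer ({(x : G) * y} : Set G) := by
          rintro _ ⟨w, hw, rfl⟩
          rw [Subgroup.mem_centralizer_singleton_iff]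
          have h1 : (x : G) * (w : G) = (w : G) * (x : G) := congrArg Subtype.val (hcen w hw)
          have h2 : y * (w : G) = (w : G) * y :=
            Subgroup.mem_centralizer_iff.mp w.2 y (Set.mem_singleton y)
          show (w : G) * ((x : G) * y) = (x : G) * y * (w : G)
          rw [← mul_assoc, ← h1, mul_assoc, ← h2, mul_assoc]
        have hdvd := Subgroup.card_dvd_of_le hPle
        rw [Subgroup.card_map_of_injective (Subgroup.subtype_injective _),
          P.card_eq_multiplicity] at hdvd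
        exact (hp.out.pow_dvd_iff_le_factorization Nat.card_pos.ne').mp hdvd
    have h0 : ¬ MemLocalIdeal M (centralChar (χ₀ : G → ℂ) ((x : G) * y)) := by
      rw [hkey χ₀ hχ₀ hh₀ _ hCxy]
      intro hmem0
      have h1 : MemLocalIdeal M ((χ₀ : G → ℂ) y) := by
        have := memLocalIdeal_sub hMm hmem0 (hcong χ₀)
        rwa [sub_sub_cancel] at this
      exact hy.2.2 χ₀ hχ₀ ((hkey χ₀ hχ₀ hh₀ y rfl).mpr h1)
    apply h0
    have hsb : SameBlock M (χ₀ : G → ℂ) (χ : G → ℂ) :=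
      sameBlock_trans hMm (sameBlock_symm hMm hχ₀) hχ
    have := memLocalIdeal_add hMm (hsb ((x : G) * y)) hmem
    rwa [sub_add_cancel] at this

end DefectClassMain
end Cfsg.Agent.Lib.Helper2_DefectValues
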