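import Mathlib
import Cfsg.Prelude.Def_Characters
import Cfsg.Prelude.Def_Blocks
import Cfsg.Agent.Lib.Helper2_ClassFn
import Cfsg.Agent.Lib.Helper2_CharBasic
import Cfsg.Agent.Lib.Helper2_CharOrtho
import Cfsg.Agent.Lib.Helper2_CharValues
import Cfsg.Agent.Lib.Helper2_CharSum
import Cfsg.Agent.Lib.Helper2_CharCentral
import Cfsg.Agent.Lib.Helper2_CharInt
import Cfsg.Agent.Lib.Helper2_CharBurnside
import Cfsg.Agent.Lib.Helper2_ModM
import Cfsg.Agent.Lib.Helper2_Blocks
import Cfsg.Agent.Lib.Helper2_BlockOrtho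
import Cfsg.Agent.Lib.Helper2_BlockKer

set_option autoImplicit false

/-!
# Faithful irreducible characters of prime power degree in a centreless group
-/

namespace Cfsg.Agent.Lib.Helper2_FaithfulPow

open Cfsg
open Cfsg.Agent.Lib.Helper2_ClassFn
open Cfsg.Agent.Lib.Helper2_CharBasic
open Cfsg.Agent.Lib.Helper2_CharOrtho
open Cfsg.Agent.Lib.Helper2_CharValues
open Cfsg.Agent.Lib.Helper2_CharSum
open Cfsg.Agent.Lib.Helper2_CharCentral
open Cfsg.Agent.Lib.Helper2_CharInt
open Cfsg.Agent.Lib.Helper2_CharBurnside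
open Cfsg.Agent.Lib.Helper2_ModM
open Cfsg.Agent.Lib.Helper2_Blocks
open Cfsg.Agent.Lib.Helper2_BlockOrtho
open Cfsg.Agent.Lib.Helper2_BlockKer
open scoped ComplexConjugate

section Main

universe u

variable {G : Type u} [Group G] [Fintype G]

theorem central_of_norm_eq {χ : G → ℂ} (hχ : IsIrrCharacter G χ)
    (hfaith : ∀ g, χ g = χ 1 → g = 1) (k : G) (hk : ‖χ k‖ = ‖χ 1‖) :
    k ∈ Subgroup.center G := by
  classical
  have hχc := IsIrrCharacter.isCharacter hχ
  obtain ⟨n, hnpos, hn⟩ := IsIrrCharacter.apply_one hχ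
  have hn0 : (n : ℂ) ≠ 0 := by exact_mod_cast hnpos.ne'
  have hsum := sum_conj_mul hχ k k⁻¹
  have hkk : χ k * χ k⁻¹ = ((n : ℂ)) ^ 2 := by
    rw [IsCharacter.apply_inv hχc, Complex.mul_conj, Complex.normSq_eq_norm_sq, hk, hn,
      Complex.norm_natCast]
    push_cast
    ring
  have hsum' : ∑ g : G, χ (g * k * g⁻¹ * k⁻¹) = (Nat.card G : ℂ) * (n : ℂ) := by
    rw [hsum, mul_assoc, hkk, hn]
    field_simp
  have hre : ∑ g : G, ((n : ℝ) - (χ (g * k * g⁻¹ * k⁻¹)).re) = 0 := by
    rw [Finset.sum_sub_distrib, Finset.sum_const, Finset.card_univ, nsmul_eq_mul]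
    have h2 := congrArg Complex.re hsum'
    rw [Complex.re_sum] at h2
    rw [h2, Nat.card_eq_fintype_card]
    simp
  have hnonneg : ∀ g ∈ (Finset.univ : Finset G),
      0 ≤ (n : ℝ) - (χ (g * k * g⁻¹ * k⁻¹)).re := by
    intro g _
    have := IsCharacter.re_le hχc (g * k * g⁻¹ * k⁻¹)
    rw [hn] at this
    simp at this
    linarith
  have hall := (Finset.sum_eq_zero_iff_of_nonneg hnonneg).mp hre
  rw [Subgroup.mem_center_iff]
  intro g
  have h1 := hall g (Finset.mem_univ g)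
  have h2 : (χ (g * k * g⁻¹ * k⁻¹)).re = (χ 1).re := by
    rw [hn]; simp; linarith
  have h3 := hfaith _ (IsCharacter.eq_of_re_eq hχc _ h2)
  have h4 : g * k = g * k * g⁻¹ * k⁻¹ * (k * g) := by group
  rw [h4, h3, one_mul]

variable {M : Ideal AlgInt}

open Classical in
theorem pow_dvd_degree {p : ℕ} [hp : Fact p.Prime] (hM : IsPModular p M)
    (hZ : Subgroup.center G = ⊥) (P : Sylow p G) (b : ℕ)
    (hb : Nat.card (Subgroup.center ↥(P : Subgroup G)) = p ^ b)
    (χ : IrrCharacter G) (hfaith : ∀ g : G, (χ : G → ℂ) g = (χ : G → ℂ) 1 → g = 1) (n : ℕ)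
    (hdeg : charDegree (χ : G → ℂ) = p ^ n) (ψ : IrrCharacter G)
    (hψ : ψ ∈ blockOf M (χ : G → ℂ)) : p ^ b ∣ charDegree (ψ : G → ℂ) := by
  have hMm := hM.2.1
  have hχ1 : (χ : G → ℂ) 1 = ((p ^ n : ℕ) : ℂ) := by
    rw [(apply_one_eq_charDegree χ.2).1, hdeg]
  -- coprimality of class sizes
  have hidx : ∀ z : Subgroup.center ↥(P : Subgroup G),
      Nat.Coprime (Subgroup.centralizer ({((z : ↥(P : Subgroup G)) : G)} : Set G)).index p := by
    intro z
    have hle : (P : Subgroup G) ≤ Subgroup.centralizer ({((z : ↥(P : Subgroup G)) : G)} : Set G) := by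
      intro x hx
      rw [Subgroup.mem_centralizer_singleton_iff]
      have := Subgroup.mem_center_iff.mp z.2 ⟨x, hx⟩
      have h2 := congrArg (Subtype.val) this
      simpa using h2
    have hdvd := Subgroup.index_dvd_of_le hle
    have hnd : ¬ p ∣ (P : Subgroup G).index := P.not_dvd_index
    rw [Nat.coprime_comm, Nat.Prime.coprime_iff_not_dvd hp.out]
    exact fun h => hnd (h.trans hdvd)
  -- Step A
  have hA : ∀ z : Subgroup.center ↥(P : Subgroup G), z ≠ 1 →
      (χ : G → ℂ) ((z : ↥(P : Subgroup G)) : G) = 0 := by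
    intro z hz
    have hcop : Nat.Coprime (p ^ n)
        (Finset.univ.filter (fun x : G => IsConj x ((z : ↥(P : Subgroup G)) : G))).card := by
      rw [← index_centralizer_eq]
      exact Nat.Coprime.pow_left _ (hidx z).symm
    rcases burnside_coprime χ.2 _ (p ^ n) hχ1 hcop with h | h
    · exact h
    · exfalso
      have hk : ‖(χ : G → ℂ) ((z : ↥(P : Subgroup G)) : G)‖ = ‖(χ : G → ℂ) 1‖ := by
        rw [h, hχ1, Complex.norm_natCast]
      have hc := central_of_norm_eq χ.2 hfaith _ hk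
      rw [hZ, Subgroup.mem_bot] at hc
      apply hz
      apply Subtype.ext
      apply Subtype.ext
      simpa using hc
  -- Step B
  have hψc := IsIrrCharacter.isCharacter ψ.2
  obtain ⟨d, hdpos, hd⟩ := IsIrrCharacter.apply_one ψ.2
  have hd0 : (d : ℂ) ≠ 0 := by exact_mod_cast hdpos.ne'
  have hB : ∀ z : Subgroup.center ↥(P : Subgroup G), z ≠ 1 →
      MemLocalIdeal M ((ψ : G → ℂ) ((z : ↥(P : Subgroup G)) : G) / (d : ℂ)) := by
    intro z hz
    have h1 := hψ ((z : ↥(P : Subgroup G)) : G)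
    unfold centralChar at h1
    rw [hA z hz, mul_zero, zero_div, zero_sub] at h1
    have h2 := memLocalIdeal_neg hMm h1
    rw [neg_neg, hd] at h2
    have h3 := memLocalIdeal_mul_ring hMm h2 (memLocalRing_natCast_inv hM _ (hidx z))
    have hi0 : ((Subgroup.centralizer ({((z : ↥(P : Subgroup G)) : G)} : Set G)).index : ℂ) ≠ 0 := by
      exact_mod_cast Subgroup.index_ne_zero_of_finite
    convert h3 using 1
    field_simp
  -- Step C
  haveI : Fintype ↥(P : Subgroup G) := Fintype.ofFinite _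
  haveI : Fintype (Subgroup.center ↥(P : Subgroup G)) := Fintype.ofFinite _
  have hres := IsCharacter.restrict (IsCharacter.restrict hψc (P : Subgroup G))
    (Subgroup.center ↥(P : Subgroup G))
  obtain ⟨m, hm⟩ := IsCharacter.classInner_irr_nat hres
    (isIrrCharacter_one (G := Subgroup.center ↥(P : Subgroup G)))
  rw [classInner_def, hb] at hm
  have hpb0 : ((p ^ b : ℕ) : ℂ) ≠ 0 := by exact_mod_cast (pow_pos hp.out.pos b).ne'
  have hsumZ : ∑ z : Subgroup.center ↥(P : Subgroup G),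
      (ψ : G → ℂ) ((z : ↥(P : Subgroup G)) : G) = ((p ^ b : ℕ) : ℂ) * (m : ℂ) := by
    have : ∑ z : Subgroup.center ↥(P : Subgroup G),
        (ψ : G → ℂ) ((z : ↥(P : Subgroup G)) : G)
        = ∑ z : Subgroup.center ↥(P : Subgroup G),
          (ψ : G → ℂ) ((z : ↥(P : Subgroup G)) : G)
            * conj ((fun _ : Subgroup.center ↥(P : Subgroup G) => (1 : ℂ)) z) := by
      refine Finset.sum_congr rfl fun z _ => ?_
      simp
    rw [this, ← hm, ← mul_assoc, mul_inv_cancel₀ hpb0, one_mul]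
  have hC : MemLocalIdeal M (((p ^ b : ℕ) : ℂ) * (m : ℂ) / (d : ℂ) - 1) := by
    have hsplit : ((p ^ b : ℕ) : ℂ) * (m : ℂ) / (d : ℂ) - 1
        = ∑ z ∈ (Finset.univ : Finset (Subgroup.center ↥(P : Subgroup G))).erase 1,
          (ψ : G → ℂ) ((z : ↥(P : Subgroup G)) : G) / (d : ℂ) := by
      rw [← hsumZ, ← Finset.add_sum_erase _ _ (Finset.mem_univ (1 : Subgroup.center ↥(P : Subgroup G))),
        ← Finset.sum_div]
      have h1 : (ψ : G → ℂ) (((1 : Subgroup.center ↥(P : Subgroup G)) : ↥(P : Subgroup G)) : G)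
          = (d : ℂ) := by
        rw [← hd]; simp
      rw [h1]
      field_simp
      ring
    rw [hsplit]
    apply memLocalIdeal_sum hMm
    intro z hz
    exact hB z (Finset.ne_of_mem_erase hz)
  -- Step D
  rw [charDegree_eq' hd]
  obtain ⟨ν, d', hd', hdd⟩ := Nat.exists_eq_pow_mul_and_not_dvd hdpos.ne' p hp.out.ne_one
  by_contra hnd
  have hν : ν < b := by
    by_contra hge
    push Not at hge
    apply hnd
    rw [hdd]
    exact Dvd.dvd.mul_right (pow_dvd_pow p hge) d'
  have hcop : Nat.Coprime d' p := (Nat.Prime.coprime_iff_not_dvd hp.out).mpr hd' |>.symm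
  have hd'0 : (d' : ℂ) ≠ 0 := by
    intro h
    have : d' = 0 := by exact_mod_cast h
    rw [this, mul_zero] at hdd
    omega
  have hpM : MemLocalIdeal M ((p : ℕ) : ℂ) := by
    have := memLocalIdeal_of_mem hMm hM.2.2
    simpa using this
  have hw : MemLocalRing M (((p ^ (b - ν - 1) * m : ℕ) : ℂ) * ((d' : ℂ))⁻¹) :=
    memLocalRing_mul hMm (memLocalRing_of_isIntegral hMm (isIntegral_nat _))
      (memLocalRing_natCast_inv hM d' hcop)
  have hz := memLocalIdeal_mul_ring hMm hpM hw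
  have heq : ((p ^ (b - ν - 1) * m : ℕ) : ℂ) * ((d' : ℂ))⁻¹ * ((p : ℕ) : ℂ)
      = ((p ^ b : ℕ) : ℂ) * (m : ℂ) / (d : ℂ) := by
    have hb' : b = (b - ν - 1) + 1 + ν := by omega
    have hpν0 : ((p : ℂ)) ^ ν ≠ 0 := pow_ne_zero _ (by exact_mod_cast hp.out.ne_zero)
    rw [hdd]
    conv_rhs => rw [hb']
    push_cast
    field_simp
    ring
  rw [heq] at hz
  exact not_memLocalIdeal_of_sub_one hMm hC hz

open Classical in
/-- S4730, `Fintype` form. -/
theorem defect_le {p : ℕ} [hp : Fact p.Prime] (hM : IsPModular p M)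
    (hZ : Subgroup.center G = ⊥) (P : Sylow p G) (a b : ℕ) (ha : Nat.card P = p ^ a)
    (hb : Nat.card (Subgroup.center ↥(P : Subgroup G)) = p ^ b)
    (χ : IrrCharacter G) (hfaith : ∀ g : G, (χ : G → ℂ) g = (χ : G → ℂ) 1 → g = 1) (n : ℕ)
    (hdeg : charDegree (χ : G → ℂ) = p ^ n) :
    blockDefect p (blockOf M (χ : G → ℂ)) ≤ a - b
      ∧ (IsMulCommutative ↥(P : Subgroup G) → blockDefect p (blockOf M (χ : G → ℂ)) = 0) := by
  have hfa : (Nat.card G).factorization p = a := by
    have h1 := Sylow.card_eq_multiplicity P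
    rw [ha] at h1
    exact (Nat.pow_right_injective hp.out.two_le h1).symm
  have hmain : blockDefect p (blockOf M (χ : G → ℂ)) ≤ a - b := by
    unfold blockDefect
    rw [hfa]
    apply Nat.sub_le_sub_left
    apply le_csInf
    · exact ⟨_, χ, sameBlock_refl hM.2.1 _, rfl⟩
    · rintro _ ⟨ψ, hψ, rfl⟩
      have hdvd := pow_dvd_degree hM hZ P b hb χ hfaith n hdeg ψ hψ
      have hpos : charDegree (ψ : G → ℂ) ≠ 0 := (apply_one_eq_charDegree ψ.2).2.ne'
      exact (Nat.Prime.pow_dvd_iff_le_factorization hp.out hpos).mp hdvd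
  refine ⟨hmain, fun hcomm => ?_⟩
  have htop : Subgroup.center ↥(P : Subgroup G) = ⊤ := by
    rw [eq_top_iff]
    intro x _
    rw [Subgroup.mem_center_iff]
    intro y
    exact hcomm.is_comm.comm y x
  have hab : a = b := by
    have h1 : Nat.card (Subgroup.center ↥(P : Subgroup G)) = Nat.card ↥(P : Subgroup G) := by
      rw [htop, Subgroup.card_top]
    rw [hb] at h1
    have h2 : Nat.card ↥(P : Subgroup G) = p ^ a := ha
    rw [h2] at h1
    exact (Nat.pow_right_injective hp.out.two_le h1).symm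
  rw [hab, Nat.sub_self] at hmain
  exact Nat.le_zero.mp hmain

end Main

end Cfsg.Agent.Lib.Helper2_FaithfulPow
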