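import Mathlib
import Cfsg.Prelude.Def_Characters
import Cfsg.Prelude.Def_Blocks
import Cfsg.Prelude.Def_BlockRank
import Cfsg.Prelude.Def_BlockLocal
import Cfsg.Prelude.Def_BrauerPairs
import Cfsg.Agent.Lib.Helper2_ClassFn
import Cfsg.Agent.Lib.Helper2_CharBasic
import Cfsg.Agent.Lib.Helper2_CharOrtho
import Cfsg.Agent.Lib.Helper2_Clifford
import Cfsg.Agent.Lib.Helper2_CharMore
import Cfsg.Agent.Lib.Helper2_CharDeg
import Cfsg.Agent.Lib.Helper2_CharInd
import Cfsg.Agent.Lib.Helper2_CharExtra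
import Cfsg.Agent.Lib.Helper2_CharInt
import Cfsg.Agent.Lib.Helper2_CharValues
import Cfsg.Agent.Lib.Helper2_CharSum
import Cfsg.Agent.Lib.Helper2_CharComplete
import Cfsg.Agent.Lib.Helper2_CharTable
import Cfsg.Agent.Lib.Helper2_CharCentral
import Cfsg.Agent.Lib.Helper2_ModM
import Cfsg.Agent.Lib.Helper2_Blocks
import Cfsg.Agent.Lib.Helper2_BlockOrtho
import Cfsg.Agent.Lib.Helper2_BlockMore
import Cfsg.Agent.Lib.Helper2_DefectGroup
import Cfsg.Agent.Lib.Helper2_DefectPCore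
import Cfsg.Agent.Lib.Helper2_MinMax
import Cfsg.Agent.Lib.Helper2_InducedBlock
import Cfsg.Agent.Lib.Helper2_BrauerMap
import Cfsg.Agent.Lib.Helper2_InducedDefect
import Cfsg.Agent.Lib.Helper2_BrauerFirst
import Cfsg.Agent.Lib.Helper2_BrauerConverse
import Cfsg.Agent.Lib.Helper2_SylowConj
import Cfsg.Agent.Lib.Helper2_BlockCover
import Cfsg.Agent.Lib.Helper2_BlockConj
import Cfsg.Agent.Lib.Helper2_FirstMain
import Cfsg.Agent.Lib.Helper2_BlockNormal
import Cfsg.Agent.Lib.Helper2_BlockCount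
import Cfsg.Agent.Lib.Helper2_BlockCount2
import Cfsg.Agent.Lib.Helper2_BlockKer
import Cfsg.Agent.Lib.Helper2_PRegCount
import Cfsg.Agent.Lib.Helper2_ExtFirstMain
import Cfsg.Agent.Lib.Helper2_ThirdMain
import Cfsg.Agent.Lib.Helper2_Fong
import Cfsg.Agent.Lib.Helper2_BrauerPairs
import Cfsg.Agent.Lib.Helper2_BrauerInv
import Cfsg.Agent.Lib.Helper2_Conj
import Cfsg.Agent.Lib.Helper2_BrauerChain
import Cfsg.Agent.Lib.Helper2_BrauerPrincipal
import Cfsg.Agent.Lib.Helper2_BrauerMax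
import Cfsg.Agent.Lib.Helper2_BrauerConjMax
import Cfsg.Agent.Lib.Helper2_BrauerLocal
import Cfsg.Agent.Lib.Helper2_BrauerStab
import Cfsg.Agent.Lib.Helper2_BlockTrace
import Cfsg.Agent.Lib.Helper2_BlockFusion
import Cfsg.Agent.Lib.Helper2_AbelianDefect
import Cfsg.Agent.Lib.Helper2_AbelianNilpotent
import Cfsg.Agent.Lib.Helper2_CentricNormal
import Cfsg.Agent.Lib.Helper2_MGroup


set_option autoImplicit false

/-!
# The Fong-Reynolds correspondence
-/

namespace Cfsg.Agent.Lib.Helper2_FongReynolds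

open Cfsg
open Cfsg.Agent.Lib.Helper2_ClassFn
open Cfsg.Agent.Lib.Helper2_CharBasic
open Cfsg.Agent.Lib.Helper2_CharOrtho
open Cfsg.Agent.Lib.Helper2_Clifford
open Cfsg.Agent.Lib.Helper2_CharMore
open Cfsg.Agent.Lib.Helper2_CharDeg
open Cfsg.Agent.Lib.Helper2_CharInd
open Cfsg.Agent.Lib.Helper2_CharExtra
open Cfsg.Agent.Lib.Helper2_CharValues
open Cfsg.Agent.Lib.Helper2_CharSum
open Cfsg.Agent.Lib.Helper2_CharComplete
open Cfsg.Agent.Lib.Helper2_CharTable
open Cfsg.Agent.Lib.Helper2_CharCentral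
open Cfsg.Agent.Lib.Helper2_ModM
open Cfsg.Agent.Lib.Helper2_Blocks
open Cfsg.Agent.Lib.Helper2_BlockOrtho
open Cfsg.Agent.Lib.Helper2_BlockMore
open Cfsg.Agent.Lib.Helper2_DefectGroup
open Cfsg.Agent.Lib.Helper2_DefectPCore
open Cfsg.Agent.Lib.Helper2_MinMax
open Cfsg.Agent.Lib.Helper2_InducedBlock
open Cfsg.Agent.Lib.Helper2_BrauerMap
open Cfsg.Agent.Lib.Helper2_InducedDefect
open Cfsg.Agent.Lib.Helper2_BrauerFirst
open Cfsg.Agent.Lib.Helper2_BrauerConverse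
open Cfsg.Agent.Lib.Helper2_SylowConj
open Cfsg.Agent.Lib.Helper2_BlockCover
open Cfsg.Agent.Lib.Helper2_BlockConj
open Cfsg.Agent.Lib.Helper2_FirstMain
open Cfsg.Agent.Lib.Helper2_BlockNormal
open Cfsg.Agent.Lib.Helper2_BlockCount
open Cfsg.Agent.Lib.Helper2_BlockCount2
open Cfsg.Agent.Lib.Helper2_BlockKer
open Cfsg.Agent.Lib.Helper2_PRegCount
open Cfsg.Agent.Lib.Helper2_ExtFirstMain
open Cfsg.Agent.Lib.Helper2_ThirdMain
open Cfsg.Agent.Lib.Helper2_Fong
open Cfsg.Agent.Lib.Helper2_BrauerPairs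
open Cfsg.Agent.Lib.Helper2_BrauerInv
open Cfsg.Agent.Lib.Helper2_BrauerChain
open Cfsg.Agent.Lib.Helper2_BrauerPrincipal
open Cfsg.Agent.Lib.Helper2_BrauerMax
open Cfsg.Agent.Lib.Helper2_BrauerConjMax
open Cfsg.Agent.Lib.Helper2_BrauerLocal
open Cfsg.Agent.Lib.Helper2_BrauerStab
open Cfsg.Agent.Lib.Helper2_BlockTrace
open Cfsg.Agent.Lib.Helper2_BlockFusion
open Cfsg.Agent.Lib.Helper2_AbelianDefect
open Cfsg.Agent.Lib.Helper2_AbelianNilpotent
open Cfsg.Agent.Lib.Helper2_CentricNormal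
open scoped ComplexConjugate

universe u

section Stab

variable {G : Type u} [Group G] [Fintype G] {M : Ideal AlgInt}
variable (N : Subgroup G) [hN : N.Normal]

/-- The conjugate of an irreducible character of a normal subgroup, as an irreducible
character. -/
noncomputable def cI (θ : IrrCharacter N) (g : G) : IrrCharacter N :=
  ⟨conjFn N (θ : N → ℂ) g, IsIrrCharacter.conjFn θ.2 g⟩

omit [Fintype G] in
theorem cI_coe (θ : IrrCharacter N) (g : G) : (cI N θ g : N → ℂ) = conjFn N (θ : N → ℂ) g := rfl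

omit [Fintype G] in
theorem cI_mul (θ : IrrCharacter N) (g k : G) : cI N θ (g * k) = cI N (cI N θ g) k := by
  apply Subtype.ext
  exact conjFn_mul N (θ : N → ℂ) g k

omit [Fintype G] in
theorem cI_one (θ : IrrCharacter N) : cI N θ 1 = θ := by
  apply Subtype.ext
  exact conjFn_one N (θ : N → ℂ)

omit [Fintype G] in
theorem cI_cI_inv (θ : IrrCharacter N) (g : G) : cI N (cI N θ g) g⁻¹ = θ := by
  rw [← cI_mul, mul_inv_cancel, cI_one]

omit [Fintype G] in
theorem cI_inv_cI (θ : IrrCharacter N) (g : G) : cI N (cI N θ g⁻¹) g = θ := by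
  rw [← cI_mul, inv_mul_cancel, cI_one]

omit [Fintype G] in
theorem cI_apply_one (θ : IrrCharacter N) (g : G) :
    (cI N θ g : N → ℂ) 1 = (θ : N → ℂ) 1 := by
  rw [cI_coe, conjFn_apply]
  have : (⟨g * ((1 : N) : G) * g⁻¹, hN.conj_mem (1 : N) (1 : N).2 g⟩ : N) = 1 := by
    apply Subtype.ext
    simp
  rw [this]

variable (b : Set (IrrCharacter N)) (T : Subgroup G)

omit [Fintype G] in
/-- Reformulation of the stabilizer condition. -/
theorem mem_T_iff
    (hT : ∀ g : G, g ∈ T ↔ ∀ θ ∈ b, ∀ θ' : IrrCharacter N,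
      (∀ n : N, (θ' : N → ℂ) n = (θ : N → ℂ) ⟨g * n * g⁻¹, hN.conj_mem n n.2 g⟩) → θ' ∈ b)
    (g : G) : g ∈ T ↔ ∀ θ ∈ b, cI N θ g ∈ b := by
  rw [hT g]
  constructor
  · intro h θ hθ
    exact h θ hθ (cI N θ g) (fun n => rfl)
  · intro h θ hθ θ' hθ'
    have : θ' = cI N θ g := by
      apply Subtype.ext
      funext n
      exact hθ' n
    rw [this]
    exact h θ hθ

omit [Fintype G] in
/-- One conjugate in the block forces the element into the stabilizer. -/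
theorem mem_T_of_one (hMm : M.IsMaximal) (hb : IsPBlock M b)
    (hT : ∀ g : G, g ∈ T ↔ ∀ θ ∈ b, ∀ θ' : IrrCharacter N,
      (∀ n : N, (θ' : N → ℂ) n = (θ : N → ℂ) ⟨g * n * g⁻¹, hN.conj_mem n n.2 g⟩) → θ' ∈ b)
    (θ : IrrCharacter N) (hθ : θ ∈ b) (g : G) (hg : cI N θ g ∈ b) : g ∈ T := by
  rw [mem_T_iff N b T hT]
  intro θ₁ hθ₁
  obtain ⟨θ₀, rfl⟩ := hb
  have h1 : SameBlock M (θ : N → ℂ) (θ₁ : N → ℂ) :=
    sameBlock_trans hMm (sameBlock_symm hMm hθ) hθ₁
  have h2 := sameBlock_conjFn (M := M) N h1 g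
  exact sameBlock_trans hMm hg h2

omit [Fintype G] in
theorem cI_mem_iff
    (hT : ∀ g : G, g ∈ T ↔ ∀ θ ∈ b, ∀ θ' : IrrCharacter N,
      (∀ n : N, (θ' : N → ℂ) n = (θ : N → ℂ) ⟨g * n * g⁻¹, hN.conj_mem n n.2 g⟩) → θ' ∈ b)
    (g : G) (hg : g ∈ T) (θ : IrrCharacter N) : cI N θ g ∈ b ↔ θ ∈ b := by
  constructor
  · intro h
    have := (mem_T_iff N b T hT g⁻¹).mp (T.inv_mem hg) _ h
    rwa [cI_cI_inv] at this
  · intro h
    exact (mem_T_iff N b T hT g).mp hg θ h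

open Classical in
/-- The number of conjugating elements carrying a character into the block. -/
theorem card_conj_mem (hMm : M.IsMaximal) (hb : IsPBlock M b)
    (hT : ∀ g : G, g ∈ T ↔ ∀ θ ∈ b, ∀ θ' : IrrCharacter N,
      (∀ n : N, (θ' : N → ℂ) n = (θ : N → ℂ) ⟨g * n * g⁻¹, hN.conj_mem n n.2 g⟩) → θ' ∈ b)
    (φ : IrrCharacter N) :
    (Finset.univ.filter (fun g : G => cI N φ g ∈ b)).card
      = if φ ∈ conjUnion N b then Nat.card T else 0 := by
  by_cases hφ : φ ∈ conjUnion N b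
  · rw [if_pos hφ]
    obtain ⟨g₁, θ₁, hθ₁, hφ₁⟩ := hφ
    have hφeq : φ = cI N θ₁ g₁ := Subtype.ext hφ₁
    have hset : (Finset.univ.filter (fun g : G => cI N φ g ∈ b))
        = (Finset.univ.filter (fun g : G => g ∈ T)).image (fun t => g₁⁻¹ * t) := by
      ext g
      simp only [Finset.mem_filter, Finset.mem_univ, true_and, Finset.mem_image]
      constructor
      · intro hg
        refine ⟨g₁ * g, ?_, by group⟩
        apply mem_T_of_one N b T hMm hb hT θ₁ hθ₁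
        rw [cI_mul, ← hφeq]
        exact hg
      · rintro ⟨t, ht, rfl⟩
        rw [hφeq, ← cI_mul, mul_inv_cancel_left]
        exact (mem_T_iff N b T hT t).mp ht θ₁ hθ₁
    rw [hset, Finset.card_image_of_injective _ (mul_right_injective g₁⁻¹),
      Nat.card_eq_fintype_card, Fintype.card_subtype]
  · rw [if_neg hφ]
    rw [Finset.card_eq_zero, Finset.filter_eq_empty_iff]
    intro g _ hg
    apply hφ
    refine ⟨g⁻¹, cI N φ g, hg, ?_⟩
    have := cI_cI_inv N φ g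
    exact (congrArg Subtype.val this).symm

end Stab

section Beta

variable {G : Type u} [Group G] [Fintype G] {M : Ideal AlgInt}
variable (N : Subgroup G) [hN : N.Normal] [Fintype N]

omit [Fintype G] hN in
open Classical in
/-- Summation over `Irr(N)` as a type versus as a finset of functions. -/
theorem sum_irr_eq [Fintype (IrrCharacter N)] (F : (N → ℂ) → ℂ) :
    ∑ φ : IrrCharacter N, F (φ : N → ℂ) = ∑ ψ ∈ irrFinset N, F ψ := by
  rw [← finsum_irr_eq_sum, finsum_eq_sum_of_fintype]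

omit [Fintype G] hN in
open Classical in
/-- Pairing a function with the idempotent of a set of characters. -/
theorem sum_mul_blockCoeff [Fintype (IrrCharacter N)] (b : Set (IrrCharacter N)) (F : N → ℂ) :
    ∑ n : N, F n * blockCoeff b n
      = ∑ φ : IrrCharacter N,
          if φ ∈ b then (φ : N → ℂ) 1 * conj (classInner (φ : N → ℂ) F) else 0 := by
  have h1 : ∀ n : N, blockCoeff b n = (Nat.card N : ℂ)⁻¹ *
      ∑ φ : IrrCharacter N, if φ ∈ b then (φ : N → ℂ) 1 * conj ((φ : N → ℂ) n) else 0 := by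
    intro n
    rw [blockCoeff_eq, ← sum_irr_eq N
      (fun ψ => if MemB b ψ then ψ 1 * conj (ψ n) else 0)]
    congr 1
    refine Finset.sum_congr rfl fun φ _ => ?_
    simp only [memB_coe]
  simp_rw [h1, Finset.mul_sum]
  rw [Finset.sum_comm]
  refine Finset.sum_congr rfl fun φ _ => ?_
  by_cases hφ : φ ∈ b
  · simp only [if_pos hφ]
    rw [classInner_def, map_mul, map_inv₀, Complex.conj_natCast, map_sum, Finset.mul_sum,
      Finset.mul_sum]
    refine Finset.sum_congr rfl fun n _ => ?_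
    rw [map_mul, Complex.conj_conj]
    ring
  · simp only [if_neg hφ, mul_zero, Finset.sum_const_zero]

open Classical in
/-- **The counting formula**: the `b`-part of the restriction to `N` of an irreducible character
of `G` over `b` has degree `χ(1) / |G : T|`. -/
theorem card_mul_beta (hMm : M.IsMaximal) (b : Set (IrrCharacter N)) (hb : IsPBlock M b)
    (T : Subgroup G)
    (hT : ∀ g : G, g ∈ T ↔ ∀ θ ∈ b, ∀ θ' : IrrCharacter N,
      (∀ n : N, (θ' : N → ℂ) n = (θ : N → ℂ) ⟨g * n * g⁻¹, hN.conj_mem n n.2 g⟩) → θ' ∈ b)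
    (χ : IrrCharacter G) (θ : IrrCharacter N) (hθ : θ ∈ b)
    (hov : classInner (fun n : N => (χ : G → ℂ) n) (θ : N → ℂ) ≠ 0) :
    (Nat.card G : ℂ) * ∑ n : N, (χ : G → ℂ) n * blockCoeff b n
      = (Nat.card T : ℂ) * (χ : G → ℂ) 1 := by
  haveI : Fintype (IrrCharacter N) := Fintype.ofFinite _
  have hχcf := IsCharacter.isClassFunction (IsIrrCharacter.isCharacter χ.2)
  set F : IrrCharacter N → ℂ := fun φ =>
    (φ : N → ℂ) 1 * conj (classInner (φ : N → ℂ) (fun n : N => (χ : G → ℂ) n)) with hF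
  have hFinv : ∀ (φ : IrrCharacter N) (g : G), F (cI N φ g) = F φ := by
    intro φ g
    simp only [hF]
    rw [cI_apply_one, classInner_conj_symm, classInner_conj_symm, cI_coe,
      classInner_restrict_conjFn N hχcf]
  have h1 := sum_mul_blockCoeff N b (fun n : N => (χ : G → ℂ) n)
  -- for each `g`, reindex
  have h3 : ∀ g : G, ∑ φ : IrrCharacter N, (if cI N φ g ∈ b then F φ else 0)
      = ∑ φ : IrrCharacter N, if φ ∈ b then F φ else 0 := by
    intro g
    let e : IrrCharacter N ≃ IrrCharacter N :=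
      { toFun := fun φ => cI N φ g
        invFun := fun φ => cI N φ g⁻¹
        left_inv := fun φ => cI_cI_inv N φ g
        right_inv := fun φ => cI_inv_cI N φ g }
    refine Fintype.sum_equiv e _ _ fun φ => ?_
    show (if cI N φ g ∈ b then F φ else 0) = if cI N φ g ∈ b then F (cI N φ g) else 0
    rw [hFinv]
  -- double counting
  have h4 : ∑ g : G, ∑ φ : IrrCharacter N, (if cI N φ g ∈ b then F φ else 0)
      = ∑ φ : IrrCharacter N, F φ * (if φ ∈ conjUnion N b then (Nat.card T : ℂ) else 0) := by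
    rw [Finset.sum_comm]
    refine Finset.sum_congr rfl fun φ _ => ?_
    rw [← Finset.sum_filter, Finset.sum_const, nsmul_eq_mul,
      card_conj_mem N b T hMm hb hT φ, mul_comm]
    split_ifs <;> simp
  -- characters outside the orbit do not occur
  have h5 : ∀ φ : IrrCharacter N, φ ∉ conjUnion N b → F φ = 0 := by
    intro φ hφ
    simp only [hF]
    rw [classInner_conj_symm]
    by_contra hne
    have hne' : classInner (fun n : N => (χ : G → ℂ) n) (φ : N → ℂ) ≠ 0 :=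
      fun h0 => hne (by rw [h0, mul_zero])
    have := memB_conjUnion_of_cover N hMm b hb χ.2 χ.2
      (fun n => by rw [sub_self]; exact memLocalIdeal_zero hMm) θ.2 φ.2
      ((memB_coe b θ).mpr hθ) hov hne'
    exact hφ ((memB_coe _ φ).mp this)
  -- the total
  have h6 : ∑ φ : IrrCharacter N, F φ = (χ : G → ℂ) 1 := by
    have hcf : IsClassFunction N (fun n : N => (χ : G → ℂ) n) :=
      IsClassFunction.restrict hχcf N
    have hexp := congrFun (IsClassFunction.expansion hcf) 1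
    rw [Finset.sum_apply] at hexp
    simp only [Pi.smul_apply, smul_eq_mul] at hexp
    rw [show ((1 : N) : G) = 1 from rfl] at hexp
    rw [hexp, ← sum_irr_eq N
      (fun ψ => classInner (fun n : N => (χ : G → ℂ) n) ψ * ψ 1)]
    refine Finset.sum_congr rfl fun φ _ => ?_
    simp only [hF]
    rw [classInner_conj_symm, mul_comm]
  have h7 : ∑ φ : IrrCharacter N, F φ * (if φ ∈ conjUnion N b then (Nat.card T : ℂ) else 0)
      = (Nat.card T : ℂ) * ∑ φ : IrrCharacter N, F φ := by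
    rw [Finset.mul_sum]
    refine Finset.sum_congr rfl fun φ _ => ?_
    by_cases hφ : φ ∈ conjUnion N b
    · rw [if_pos hφ, mul_comm]
    · rw [if_neg hφ, h5 φ hφ, mul_zero, mul_zero]
  rw [h1]
  have h8 : ∑ g : G, ∑ φ : IrrCharacter N, (if cI N φ g ∈ b then F φ else 0)
      = (Nat.card G : ℂ) * ∑ φ : IrrCharacter N, if φ ∈ b then F φ else 0 := by
    rw [Finset.sum_congr rfl fun g _ => h3 g, Finset.sum_const, nsmul_eq_mul, Finset.card_univ,
      Nat.card_eq_fintype_card]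
  rw [← h8, h4, h7, h6]

end Beta

section TLevel

variable {G : Type u} [Group G] [Fintype G] {M : Ideal AlgInt}
variable (N : Subgroup G) [hN : N.Normal] [Fintype N]

omit [Fintype G] hN in
/-- Transport of the multiplicity of a constituent along `N.subgroupOf T ≃ N`. -/
theorem classInner_subgroupOf (T : Subgroup G) [Fintype T] (hNT : N ≤ T)
    [Fintype (N.subgroupOf T)] (χ : T → ℂ) (η : N → ℂ) :
    classInner (fun n : N.subgroupOf T => χ n)
        (fun n' => η (Subgroup.subgroupOfEquivOfLe hNT n'))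
      = classInner (fun n : N => χ ⟨(n : G), hNT n.2⟩) η :=
  Cfsg.Agent.Lib.Helper2_MGroup.classInner_comp_equiv (Subgroup.subgroupOfEquivOfLe hNT)
    (fun n : N => χ ⟨(n : G), hNT n.2⟩) η

/-- In the stabilizer `T` of `b`, characters in the same block as a character over `b` only lie
over members of `b`. -/
theorem mem_of_over_sameBlock (hMm : M.IsMaximal) (b : Set (IrrCharacter N)) (hb : IsPBlock M b)
    (T : Subgroup G) [Fintype T]
    (hT : ∀ g : G, g ∈ T ↔ ∀ θ ∈ b, ∀ θ' : IrrCharacter N,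
      (∀ n : N, (θ' : N → ℂ) n = (θ : N → ℂ) ⟨g * n * g⁻¹, hN.conj_mem n n.2 g⟩) → θ' ∈ b)
    (hNT : N ≤ T) (ψ ψ' : IrrCharacter T) (hs : SameBlock M (ψ : T → ℂ) (ψ' : T → ℂ))
    (θ : IrrCharacter N) (hθ : θ ∈ b)
    (h1 : classInner (fun n : N => (ψ : T → ℂ) ⟨(n : G), hNT n.2⟩) (θ : N → ℂ) ≠ 0)
    (φ : IrrCharacter N)
    (h2 : classInner (fun n : N => (ψ' : T → ℂ) ⟨(n : G), hNT n.2⟩) (φ : N → ℂ) ≠ 0) :
    φ ∈ b := by
  classical
  haveI : Fintype (N.subgroupOf T) := Fintype.ofFinite _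
  set ι : N.subgroupOf T ≃* N := Subgroup.subgroupOfEquivOfLe hNT with hι
  set b' : Set (IrrCharacter (N.subgroupOf T)) := trIrr ι '' b with hb'
  have hb'blk : IsPBlock M b' := by
    obtain ⟨θ₀, rfl⟩ := hb
    exact ⟨trIrr ι θ₀, (blockOf_trIrr ι θ₀).symm⟩
  have hψθ : classInner (fun n : N.subgroupOf T => (ψ : T → ℂ) n)
      (trIrr ι θ : N.subgroupOf T → ℂ) ≠ 0 := by
    have := classInner_subgroupOf N T hNT (ψ : T → ℂ) (θ : N → ℂ)
    rw [← this] at h1
    exact h1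
  have hψ'φ : classInner (fun n : N.subgroupOf T => (ψ' : T → ℂ) n)
      (trIrr ι φ : N.subgroupOf T → ℂ) ≠ 0 := by
    have := classInner_subgroupOf N T hNT (ψ' : T → ℂ) (φ : N → ℂ)
    rw [← this] at h2
    exact h2
  have hmem := memB_conjUnion_of_cover (N.subgroupOf T) hMm b' hb'blk ψ.2 ψ'.2
    (fun n => hs n) (trIrr ι θ).2 (trIrr ι φ).2
    ((memB_coe b' _).mpr ⟨θ, hθ, rfl⟩) hψθ hψ'φ
  obtain ⟨_, t, θ₁', hθ₁', heq⟩ := hmem
  obtain ⟨θ₁, hθ₁, rfl⟩ := hθ₁'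
  have hφ : φ = cI N θ₁ (t : G) := by
    apply Subtype.ext
    funext n
    have h3 := congrFun heq (ι.symm n)
    rw [cI_coe, conjFn_apply]
    rw [conjFn_apply, trIrr_apply, trIrr_apply, MulEquiv.apply_symm_apply] at h3
    rw [h3]
    congr 1
  rw [hφ]
  exact (mem_T_iff N b T hT t).mp t.2 θ₁ hθ₁

end TLevel

section Key

variable {G : Type u} [Group G] [Fintype G] {M : Ideal AlgInt}
variable (N : Subgroup G) [hN : N.Normal] [Fintype N]

open Classical in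
theorem sum_irr_eq' {K : Type u} [Group K] [Fintype K] [Fintype (IrrCharacter K)]
    (F : (K → ℂ) → ℂ) :
    ∑ φ : IrrCharacter K, F (φ : K → ℂ) = ∑ ψ ∈ irrFinset K, F ψ := by
  rw [← finsum_irr_eq_sum, finsum_eq_sum_of_fintype]

/-- Pointwise expansion of a class function over the irreducible characters. -/
theorem expansion_apply {K : Type u} [Group K] [Fintype K] [Fintype (IrrCharacter K)]
    {f : K → ℂ} (hf : IsClassFunction K f) (t : K) :
    f t = ∑ ψ : IrrCharacter K, classInner f (ψ : K → ℂ) * (ψ : K → ℂ) t := by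
  have hexp := congrFun (IsClassFunction.expansion hf) t
  rw [Finset.sum_apply] at hexp
  simp only [Pi.smul_apply, smul_eq_mul] at hexp
  rw [sum_irr_eq' (fun ψ => classInner f ψ * ψ t)]
  exact hexp

open Classical in
/-- The `b`-part of the restriction to `N` of an irreducible character of the stabilizer. -/
theorem betaT_eq (hMm : M.IsMaximal) (b : Set (IrrCharacter N)) (hb : IsPBlock M b)
    (T : Subgroup G) [Fintype T]
    (hT : ∀ g : G, g ∈ T ↔ ∀ θ ∈ b, ∀ θ' : IrrCharacter N,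
      (∀ n : N, (θ' : N → ℂ) n = (θ : N → ℂ) ⟨g * n * g⁻¹, hN.conj_mem n n.2 g⟩) → θ' ∈ b)
    (hNT : N ≤ T) (ψ : IrrCharacter T) :
    ∑ n : N, (ψ : T → ℂ) ⟨(n : G), hNT n.2⟩ * blockCoeff b n
      = if ∃ θ ∈ b, classInner (fun n : N => (ψ : T → ℂ) ⟨(n : G), hNT n.2⟩) (θ : N → ℂ) ≠ 0
        then (ψ : T → ℂ) 1 else 0 := by
  haveI : Fintype (IrrCharacter N) := Fintype.ofFinite _
  rw [sum_mul_blockCoeff N b (fun n : N => (ψ : T → ℂ) ⟨(n : G), hNT n.2⟩)]
  by_cases hcase : ∃ θ ∈ b,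
      classInner (fun n : N => (ψ : T → ℂ) ⟨(n : G), hNT n.2⟩) (θ : N → ℂ) ≠ 0
  · rw [if_pos hcase]
    obtain ⟨θ, hθ, hov⟩ := hcase
    have hcf : IsClassFunction N (fun n : N => (ψ : T → ℂ) ⟨(n : G), hNT n.2⟩) := by
      have h1 : IsCharacter N (fun n : N => (ψ : T → ℂ) (Subgroup.inclusion hNT n)) :=
        IsCharacter.comp_hom (IsIrrCharacter.isCharacter ψ.2) (Subgroup.inclusion hNT)
      exact IsCharacter.isClassFunction h1
    have hexp := expansion_apply hcf 1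
    have h1T : (⟨((1 : N) : G), hNT (1 : N).2⟩ : T) = 1 := rfl
    rw [h1T] at hexp
    rw [hexp]
    refine Finset.sum_congr rfl fun φ _ => ?_
    by_cases hφ : φ ∈ b
    · rw [if_pos hφ, classInner_conj_symm, mul_comm]
    · rw [if_neg hφ]
      have : classInner (fun n : N => (ψ : T → ℂ) ⟨(n : G), hNT n.2⟩) (φ : N → ℂ) = 0 := by
        by_contra hne
        exact hφ (mem_of_over_sameBlock N hMm b hb T hT hNT ψ ψ (sameBlock_refl hMm _) θ hθ hov
          φ hne)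
      rw [this, zero_mul]
  · rw [if_neg hcase]
    push Not at hcase
    refine Finset.sum_eq_zero fun φ _ => ?_
    by_cases hφ : φ ∈ b
    · rw [if_pos hφ, classInner_conj_symm, hcase φ hφ, mul_zero]
    · rw [if_neg hφ]

end Key

section KeyInd

variable {G : Type u} [Group G] [Fintype G] {M : Ideal AlgInt}
variable (N : Subgroup G) [hN : N.Normal] [Fintype N]

open Classical in
/-- **Key lemma.** A character of the stabilizer over `b` induces irreducibly, and is the only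
constituent over `b` of the restriction of the induced character. -/
theorem key_ind (hMm : M.IsMaximal) (b : Set (IrrCharacter N)) (hb : IsPBlock M b)
    (T : Subgroup G) [Fintype T]
    (hT : ∀ g : G, g ∈ T ↔ ∀ θ ∈ b, ∀ θ' : IrrCharacter N,
      (∀ n : N, (θ' : N → ℂ) n = (θ : N → ℂ) ⟨g * n * g⁻¹, hN.conj_mem n n.2 g⟩) → θ' ∈ b)
    (hNT : N ≤ T) (ψ₀ : IrrCharacter T) (θ : IrrCharacter N) (hθ : θ ∈ b)
    (h0 : classInner (fun n : N => (ψ₀ : T → ℂ) ⟨(n : G), hNT n.2⟩) (θ : N → ℂ) ≠ 0)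
    (χ : IrrCharacter G)
    (hχ : classInner (fun t : T => (χ : G → ℂ) t) (ψ₀ : T → ℂ) ≠ 0) :
    indFun T (ψ₀ : T → ℂ) = (χ : G → ℂ) ∧
    classInner (fun n : N => (χ : G → ℂ) n) (θ : N → ℂ) ≠ 0 ∧
    ∀ ψ' : IrrCharacter T,
      (∃ θ' ∈ b, classInner (fun n : N => (ψ' : T → ℂ) ⟨(n : G), hNT n.2⟩) (θ' : N → ℂ) ≠ 0) →
      ψ' ≠ ψ₀ → classInner (fun t : T => (χ : G → ℂ) t) (ψ' : T → ℂ) = 0 := by
  haveI : Fintype (IrrCharacter T) := Fintype.ofFinite _
  have hχc := IsIrrCharacter.isCharacter χ.2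
  have hχcf := IsCharacter.isClassFunction hχc
  have hχT : IsCharacter T (fun t : T => (χ : G → ℂ) t) := IsCharacter.restrict hχc T
  have hχTcf := IsCharacter.isClassFunction hχT
  choose m hm using fun ψ : IrrCharacter T => IsCharacter.classInner_irr_nat hχT ψ.2
  choose d hd0 hd using fun ψ : IrrCharacter T => IsIrrCharacter.apply_one ψ.2
  have hresc : ∀ ψ : IrrCharacter T,
      IsCharacter N (fun n : N => (ψ : T → ℂ) ⟨(n : G), hNT n.2⟩) := fun ψ =>
    IsCharacter.comp_hom (IsIrrCharacter.isCharacter ψ.2) (Subgroup.inclusion hNT)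
  choose c hc using fun ψ : IrrCharacter T => IsCharacter.classInner_irr_nat (hresc ψ) θ.2
  set k : IrrCharacter T → ℕ := fun ψ =>
    if ∃ θ' ∈ b, classInner (fun n : N => (ψ : T → ℂ) ⟨(n : G), hNT n.2⟩) (θ' : N → ℂ) ≠ 0
    then d ψ else 0 with hk
  have hkβ : ∀ ψ : IrrCharacter T,
      ∑ n : N, (ψ : T → ℂ) ⟨(n : G), hNT n.2⟩ * blockCoeff b n = (k ψ : ℂ) := by
    intro ψ
    rw [betaT_eq N hMm b hb T hT hNT ψ]
    simp only [hk]
    split_ifs
    · exact hd ψ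
    · simp
  -- expansions
  have hexpT : ∀ t : T, (χ : G → ℂ) t = ∑ ψ : IrrCharacter T, (m ψ : ℂ) * (ψ : T → ℂ) t := by
    intro t
    have := expansion_apply hχTcf t
    rw [this]
    exact Finset.sum_congr rfl fun ψ _ => by rw [hm ψ]
  have X1 : ∑ n : N, (χ : G → ℂ) n * blockCoeff b n
      = ((∑ ψ : IrrCharacter T, m ψ * k ψ : ℕ) : ℂ) := by
    have : ∀ n : N, (χ : G → ℂ) n * blockCoeff b n
        = ∑ ψ : IrrCharacter T,
          (m ψ : ℂ) * ((ψ : T → ℂ) ⟨(n : G), hNT n.2⟩ * blockCoeff b n) := by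
      intro n
      rw [hexpT ⟨(n : G), hNT n.2⟩, Finset.sum_mul]
      exact Finset.sum_congr rfl fun ψ _ => by ring
    rw [Finset.sum_congr rfl fun n _ => this n, Finset.sum_comm]
    push_cast
    refine Finset.sum_congr rfl fun ψ _ => ?_
    rw [← Finset.mul_sum, hkβ ψ]
  have X2 : classInner (fun n : N => (χ : G → ℂ) n) (θ : N → ℂ)
      = ((∑ ψ : IrrCharacter T, m ψ * c ψ : ℕ) : ℂ) := by
    rw [classInner_def]
    have : ∀ n : N, (χ : G → ℂ) n * conj ((θ : N → ℂ) n)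
        = ∑ ψ : IrrCharacter T,
          (m ψ : ℂ) * ((ψ : T → ℂ) ⟨(n : G), hNT n.2⟩ * conj ((θ : N → ℂ) n)) := by
      intro n
      rw [hexpT ⟨(n : G), hNT n.2⟩, Finset.sum_mul]
      exact Finset.sum_congr rfl fun ψ _ => by ring
    rw [Finset.sum_congr rfl fun n _ => this n, Finset.sum_comm, Finset.mul_sum]
    push_cast
    refine Finset.sum_congr rfl fun ψ _ => ?_
    rw [← Finset.mul_sum, ← hc ψ, classInner_def]
    ring
  -- multiplicities at `ψ₀`
  have hm0 : 1 ≤ m ψ₀ := by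
    have : (m ψ₀ : ℂ) ≠ 0 := by rw [← hm ψ₀]; exact hχ
    have : m ψ₀ ≠ 0 := by exact_mod_cast this
    omega
  have hc0 : 1 ≤ c ψ₀ := by
    have : (c ψ₀ : ℂ) ≠ 0 := by rw [← hc ψ₀]; exact h0
    have : c ψ₀ ≠ 0 := by exact_mod_cast this
    omega
  have hk0 : k ψ₀ = d ψ₀ := by
    simp only [hk]
    rw [if_pos ⟨θ, hθ, h0⟩]
  -- `χ` lies over `θ`
  have hovχ : classInner (fun n : N => (χ : G → ℂ) n) (θ : N → ℂ) ≠ 0 := by
    rw [X2]
    have h1 : m ψ₀ * c ψ₀ ≤ ∑ ψ : IrrCharacter T, m ψ * c ψ :=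
      Finset.single_le_sum (f := fun ψ => m ψ * c ψ) (fun _ _ => Nat.zero_le _)
        (Finset.mem_univ ψ₀)
    have h2 : 1 ≤ m ψ₀ * c ψ₀ := Nat.one_le_iff_ne_zero.mpr (Nat.mul_ne_zero (by omega) (by omega))
    have : (∑ ψ : IrrCharacter T, m ψ * c ψ) ≠ 0 := by omega
    exact_mod_cast this
  -- the counting formula
  have hcount := card_mul_beta N hMm b hb T hT χ θ hθ hovχ
  obtain ⟨dχ, hdχ0, hdχ⟩ := IsIrrCharacter.apply_one χ.2
  rw [X1, hdχ] at hcount
  have N1 : Nat.card G * (∑ ψ : IrrCharacter T, m ψ * k ψ) = Nat.card T * dχ := by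
    exact_mod_cast hcount
  have N3 : Nat.card T * T.index = Nat.card G := Subgroup.card_mul_index T
  -- the induced character
  set Φ := indFun T (ψ₀ : T → ℂ) with hΦdef
  have hΦ : IsCharacter G Φ := IsCharacter.indFun (IsIrrCharacter.isCharacter ψ₀.2)
  have hΦχ : classInner Φ (χ : G → ℂ) ≠ 0 := by
    rw [hΦdef, frobenius_reciprocity T (ψ₀ : T → ℂ) (χ : G → ℂ) hχcf, ← classInner_conj_symm]
    intro h
    apply hχ
    have := congrArg conj h
    rwa [Complex.conj_conj, map_zero] at this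
  have hsub := IsCharacter.sub_constituent hΦ χ.2 hΦχ
  obtain ⟨kk, hkk⟩ := IsCharacter.apply_one hsub
  have N2 : T.index * d ψ₀ = dχ + kk := by
    have h1 : Φ 1 = (T.index : ℂ) * (ψ₀ : T → ℂ) 1 := indFun_one T _
    have h2 : (Φ - (χ : G → ℂ)) 1 = Φ 1 - (χ : G → ℂ) 1 := rfl
    rw [h2, h1, hd ψ₀, hdχ] at hkk
    have h3 : ((T.index * d ψ₀ : ℕ) : ℂ) = ((dχ + kk : ℕ) : ℂ) := by
      push_cast
      linear_combination hkk
    exact_mod_cast h3
  -- the sum
  have hsplit : ∑ ψ : IrrCharacter T, m ψ * k ψ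
      = m ψ₀ * k ψ₀ + ∑ ψ ∈ Finset.univ.erase ψ₀, m ψ * k ψ :=
    (Finset.add_sum_erase Finset.univ (fun ψ => m ψ * k ψ) (Finset.mem_univ ψ₀)).symm
  have hTpos : 0 < Nat.card T := Nat.card_pos
  have hIpos : 0 < T.index := Nat.pos_of_ne_zero Subgroup.index_ne_zero_of_finite
  have N4 : T.index * (∑ ψ : IrrCharacter T, m ψ * k ψ) = dχ := by
    have : Nat.card T * (T.index * (∑ ψ : IrrCharacter T, m ψ * k ψ)) = Nat.card T * dχ := by
      rw [← mul_assoc, N3, N1]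
    exact Nat.eq_of_mul_eq_mul_left hTpos this
  have hge : d ψ₀ ≤ m ψ₀ * k ψ₀ := by
    rw [hk0]
    exact Nat.le_mul_of_pos_left _ (by omega)
  have hkk0 : kk = 0 ∧ ∑ ψ ∈ Finset.univ.erase ψ₀, m ψ * k ψ = 0 := by
    rw [hsplit, mul_add] at N4
    have h1 : T.index * d ψ₀ ≤ T.index * (m ψ₀ * k ψ₀) := Nat.mul_le_mul_left _ hge
    have h2 : T.index * (∑ ψ ∈ Finset.univ.erase ψ₀, m ψ * k ψ) = 0 := by omega
    constructor
    · omega
    · rcases Nat.mul_eq_zero.mp h2 with h | h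
      · omega
      · exact h
  refine ⟨?_, hovχ, ?_⟩
  · have h1 : (Φ - (χ : G → ℂ)) 1 = 0 := by rw [hkk, hkk0.1]; simp
    have h2 := Cfsg.Agent.Lib.Helper2_CliffordCorr.IsCharacter.eq_zero_of_apply_one hsub h1
    exact sub_eq_zero.mp h2
  · intro ψ' hψ' hne
    have h1 := (Finset.sum_eq_zero_iff.mp hkk0.2) ψ'
      (Finset.mem_erase.mpr ⟨hne, Finset.mem_univ ψ'⟩)
    have hk' : k ψ' = d ψ' := by
      simp only [hk]
      rw [if_pos hψ']
    rw [hk'] at h1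
    have : m ψ' = 0 := by
      rcases Nat.mul_eq_zero.mp h1 with h | h
      · exact h
      · have := hd0 ψ'
        omega
    rw [hm ψ', this]
    simp

end KeyInd

section Corollaries

variable {G : Type u} [Group G] [Fintype G] {M : Ideal AlgInt}
variable (N : Subgroup G) [hN : N.Normal] [Fintype N]

omit hN [Fintype N] in
/-- Frobenius reciprocity in the form needed here. -/
theorem inner_res_ne_zero_iff (T : Subgroup G) [Fintype T] (ψ : T → ℂ) (χ : IrrCharacter G) :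
    classInner (fun t : T => (χ : G → ℂ) t) ψ ≠ 0 ↔ classInner (indFun T ψ) (χ : G → ℂ) ≠ 0 := by
  have hχcf := IsCharacter.isClassFunction (IsIrrCharacter.isCharacter χ.2)
  rw [frobenius_reciprocity T ψ (χ : G → ℂ) hχcf, ← classInner_conj_symm]
  constructor
  · intro h h'
    apply h
    rw [h', map_zero]
  · intro h h'
    apply h
    have := congrArg conj h'
    rwa [Complex.conj_conj, map_zero] at this

/-- **Irreducibility of induction from the stabilizer.** -/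
theorem ind_irr (hMm : M.IsMaximal) (b : Set (IrrCharacter N)) (hb : IsPBlock M b)
    (T : Subgroup G) [Fintype T]
    (hT : ∀ g : G, g ∈ T ↔ ∀ θ ∈ b, ∀ θ' : IrrCharacter N,
      (∀ n : N, (θ' : N → ℂ) n = (θ : N → ℂ) ⟨g * n * g⁻¹, hN.conj_mem n n.2 g⟩) → θ' ∈ b)
    (hNT : N ≤ T) (ψ₀ : IrrCharacter T) (θ : IrrCharacter N) (hθ : θ ∈ b)
    (h0 : classInner (fun n : N => (ψ₀ : T → ℂ) ⟨(n : G), hNT n.2⟩) (θ : N → ℂ) ≠ 0) :
    IsIrrCharacter G (indFun T (ψ₀ : T → ℂ)) ∧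
      classInner (fun n : N => indFun T (ψ₀ : T → ℂ) n) (θ : N → ℂ) ≠ 0 := by
  classical
  have hΦ : IsCharacter G (indFun T (ψ₀ : T → ℂ)) :=
    IsCharacter.indFun (IsIrrCharacter.isCharacter ψ₀.2)
  have hne : indFun T (ψ₀ : T → ℂ) ≠ 0 := by
    intro h
    have h1 := congrFun h 1
    rw [indFun_one] at h1
    obtain ⟨n, hn, hn1⟩ := IsIrrCharacter.apply_one ψ₀.2
    rw [hn1] at h1
    have hI : (T.index : ℂ) ≠ 0 := by exact_mod_cast Subgroup.index_ne_zero_of_finite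
    have hn' : (n : ℂ) ≠ 0 := by exact_mod_cast hn.ne'
    exact mul_ne_zero hI hn' h1
  obtain ⟨χ, hχ, n, hn, hinner⟩ := IsCharacter.exists_constituent hΦ hne
  have h1 : classInner (fun t : T => ((⟨χ, hχ⟩ : IrrCharacter G) : G → ℂ) t) (ψ₀ : T → ℂ) ≠ 0 := by
    rw [inner_res_ne_zero_iff]
    show classInner (indFun T (ψ₀ : T → ℂ)) χ ≠ 0
    rw [hinner]
    exact_mod_cast hn.ne'
  obtain ⟨e1, e2, _⟩ := key_ind N hMm b hb T hT hNT ψ₀ θ hθ h0 ⟨χ, hχ⟩ h1
  constructor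
  · rw [e1]
    exact hχ
  · rw [e1]
    exact e2

/-- **Injectivity of induction from the stabilizer.** -/
theorem ind_inj (hMm : M.IsMaximal) (b : Set (IrrCharacter N)) (hb : IsPBlock M b)
    (T : Subgroup G) [Fintype T]
    (hT : ∀ g : G, g ∈ T ↔ ∀ θ ∈ b, ∀ θ' : IrrCharacter N,
      (∀ n : N, (θ' : N → ℂ) n = (θ : N → ℂ) ⟨g * n * g⁻¹, hN.conj_mem n n.2 g⟩) → θ' ∈ b)
    (hNT : N ≤ T) (ψ₁ ψ₂ : IrrCharacter T)
    (h1 : ∃ θ ∈ b, classInner (fun n : N => (ψ₁ : T → ℂ) ⟨(n : G), hNT n.2⟩) (θ : N → ℂ) ≠ 0)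
    (h2 : ∃ θ ∈ b, classInner (fun n : N => (ψ₂ : T → ℂ) ⟨(n : G), hNT n.2⟩) (θ : N → ℂ) ≠ 0)
    (heq : indFun T (ψ₁ : T → ℂ) = indFun T (ψ₂ : T → ℂ)) : ψ₁ = ψ₂ := by
  classical
  obtain ⟨θ₁, hθ₁, hov₁⟩ := h1
  obtain ⟨hirr, _⟩ := ind_irr N hMm b hb T hT hNT ψ₁ θ₁ hθ₁ hov₁
  set χ : IrrCharacter G := ⟨indFun T (ψ₁ : T → ℂ), hirr⟩ with hχ
  have hself : classInner (χ : G → ℂ) (χ : G → ℂ) ≠ 0 := by
    rw [classInner_irr_self χ.2]
    exact one_ne_zero
  have hc1 : classInner (fun t : T => (χ : G → ℂ) t) (ψ₁ : T → ℂ) ≠ 0 := by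
    rw [inner_res_ne_zero_iff]
    exact hself
  have hc2 : classInner (fun t : T => (χ : G → ℂ) t) (ψ₂ : T → ℂ) ≠ 0 := by
    rw [inner_res_ne_zero_iff, ← heq]
    exact hself
  obtain ⟨_, _, huniq⟩ := key_ind N hMm b hb T hT hNT ψ₁ θ₁ hθ₁ hov₁ χ hc1
  by_contra hne
  exact hc2 (huniq ψ₂ h2 (fun h => hne h.symm))

open Classical in
/-- Multiplicities over `N` through the stabilizer. -/
theorem inner_res_expansion (T : Subgroup G) [Fintype T] (hNT : N ≤ T)
    [Fintype (IrrCharacter T)] (χ : IrrCharacter G) (θ : N → ℂ) :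
    classInner (fun n : N => (χ : G → ℂ) n) θ
      = ∑ ψ : IrrCharacter T, classInner (fun t : T => (χ : G → ℂ) t) (ψ : T → ℂ)
          * classInner (fun n : N => (ψ : T → ℂ) ⟨(n : G), hNT n.2⟩) θ := by
  have hχT : IsCharacter T (fun t : T => (χ : G → ℂ) t) :=
    IsCharacter.restrict (IsIrrCharacter.isCharacter χ.2) T
  have hχTcf := IsCharacter.isClassFunction hχT
  rw [classInner_def]
  have : ∀ n : N, (χ : G → ℂ) n * conj (θ n)
      = ∑ ψ : IrrCharacter T, classInner (fun t : T => (χ : G → ℂ) t) (ψ : T → ℂ)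
          * ((ψ : T → ℂ) ⟨(n : G), hNT n.2⟩ * conj (θ n)) := by
    intro n
    have h1 := expansion_apply hχTcf ⟨(n : G), hNT n.2⟩
    have h2 : (χ : G → ℂ) n = ∑ ψ : IrrCharacter T,
        classInner (fun t : T => (χ : G → ℂ) t) (ψ : T → ℂ) * (ψ : T → ℂ) ⟨(n : G), hNT n.2⟩ := h1
    rw [h2, Finset.sum_mul]
    exact Finset.sum_congr rfl fun ψ _ => by ring
  rw [Finset.sum_congr rfl fun n _ => this n, Finset.sum_comm, Finset.mul_sum]
  refine Finset.sum_congr rfl fun ψ _ => ?_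
  rw [← Finset.mul_sum,
    classInner_def (fun n : N => (ψ : T → ℂ) ⟨(n : G), hNT n.2⟩) θ]
  ring

/-- **Surjectivity of induction from the stabilizer.** -/
theorem ind_surj (hMm : M.IsMaximal) (b : Set (IrrCharacter N)) (hb : IsPBlock M b)
    (T : Subgroup G) [Fintype T]
    (hT : ∀ g : G, g ∈ T ↔ ∀ θ ∈ b, ∀ θ' : IrrCharacter N,
      (∀ n : N, (θ' : N → ℂ) n = (θ : N → ℂ) ⟨g * n * g⁻¹, hN.conj_mem n n.2 g⟩) → θ' ∈ b)
    (hNT : N ≤ T) (χ : IrrCharacter G) (θ : IrrCharacter N) (hθ : θ ∈ b)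
    (hov : classInner (fun n : N => (χ : G → ℂ) n) (θ : N → ℂ) ≠ 0) :
    ∃ ψ : IrrCharacter T,
      classInner (fun n : N => (ψ : T → ℂ) ⟨(n : G), hNT n.2⟩) (θ : N → ℂ) ≠ 0 ∧
      indFun T (ψ : T → ℂ) = (χ : G → ℂ) := by
  classical
  haveI : Fintype (IrrCharacter T) := Fintype.ofFinite _
  rw [inner_res_expansion N T hNT χ (θ : N → ℂ)] at hov
  obtain ⟨ψ, _, hψ⟩ := Finset.exists_ne_zero_of_sum_ne_zero hov
  have h1 : classInner (fun t : T => (χ : G → ℂ) t) (ψ : T → ℂ) ≠ 0 := left_ne_zero_of_mul hψ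
  have h2 : classInner (fun n : N => (ψ : T → ℂ) ⟨(n : G), hNT n.2⟩) (θ : N → ℂ) ≠ 0 :=
    right_ne_zero_of_mul hψ
  exact ⟨ψ, h2, (key_ind N hMm b hb T hT hNT ψ θ hθ h2 χ h1).1⟩

end Corollaries

section Trace

variable {G : Type u} [Group G] [Fintype G] {M : Ideal AlgInt}

open Classical in
/-- Induced class functions with local-integral values have local-integral values. -/
theorem indFun_memLocalRing (hMm : M.IsMaximal) (T : Subgroup G) [Fintype T] {w : T → ℂ}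
    (hw : IsClassFunction T w) (hwR : ∀ t, MemLocalRing M (w t)) (x : G) :
    MemLocalRing M (indFun T w x) := by
  set F : G → ℂ := fun g => extendByZero T w (g⁻¹ * x * g) with hF
  have hFR : ∀ g, MemLocalRing M (F g) := by
    intro g
    simp only [hF]
    by_cases h : g⁻¹ * x * g ∈ T
    · rw [extendByZero_of_mem T w h]
      exact hwR _
    · rw [extendByZero_of_not_mem T w h]
      exact memLocalRing_zero hMm
  have hFinv : ∀ g : G, ∀ t ∈ T, F (g * t) = F g := by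
    intro g t ht
    simp only [hF]
    have e : (g * t)⁻¹ * x * (g * t) = t⁻¹ * (g⁻¹ * x * g) * t := by group
    rw [e]
    by_cases h : g⁻¹ * x * g ∈ T
    · have h' : t⁻¹ * (g⁻¹ * x * g) * t ∈ T := T.mul_mem (T.mul_mem (T.inv_mem ht) h) ht
      rw [extendByZero_of_mem T w h', extendByZero_of_mem T w h]
      have := hw ⟨_, h⟩ ⟨t⁻¹, T.inv_mem ht⟩
      rw [← this]
      congr 1
      apply Subtype.ext
      simp
    · have h' : t⁻¹ * (g⁻¹ * x * g) * t ∉ T := by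
        intro hc
        apply h
        have := T.mul_mem (T.mul_mem ht hc) (T.inv_mem ht)
        simpa [mul_assoc] using this
      rw [extendByZero_of_not_mem T w h', extendByZero_of_not_mem T w h]
  set r := QuotientGroup.leftRel T with hr
  have key := Cfsg.Agent.Lib.Helper2_CharCenter.sum_over_quotient r (fun q => F q.out)
  have h1 : ∀ g : G, F ((Quotient.mk r g).out) = F g := by
    intro g
    have hrel : r.r (Quotient.mk r g).out g := Quotient.mk_out (s := r) g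
    have hrel' : ((Quotient.mk r g).out)⁻¹ * g ∈ T := QuotientGroup.leftRel_apply.mp hrel
    have := hFinv (Quotient.mk r g).out _ hrel'
    rw [mul_inv_cancel_left] at this
    exact this.symm
  have h2 : ∀ (g : G) (inst : DecidablePred (fun y : G => r.r g y)),
      (@Finset.filter G (fun y : G => r.r g y) inst Finset.univ).card = Nat.card T := by
    intro g inst
    have : @Finset.filter G (fun y : G => r.r g y) inst Finset.univ
        = (Finset.univ.filter (fun t : G => t ∈ T)).image (fun t => g * t) := by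
      ext y
      simp only [Finset.mem_filter, Finset.mem_univ, true_and, Finset.mem_image]
      constructor
      · intro h
        exact ⟨g⁻¹ * y, QuotientGroup.leftRel_apply.mp h, by group⟩
      · rintro ⟨t, ht, rfl⟩
        apply QuotientGroup.leftRel_apply.mpr
        simpa using ht
    rw [this, Finset.card_image_of_injective _ (mul_right_injective g),
      Nat.card_eq_fintype_card, Fintype.card_subtype]
  simp only [h1, h2, div_eq_inv_mul] at key
  rw [← Finset.mul_sum] at key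
  rw [indFun_apply]
  show MemLocalRing M ((Nat.card T : ℂ)⁻¹ * ∑ g : G, F g)
  rw [key]
  exact memLocalRing_sum hMm _ _ fun q _ => hFR _

/-- Pairing an induced class function with a character of `G`. -/
theorem sum_indFun_mul (T : Subgroup G) [Fintype T] (w : T → ℂ) (χ : IrrCharacter G) :
    ∑ x : G, indFun T w x * (χ : G → ℂ) x
      = (T.index : ℂ) * ∑ t : T, w t * (χ : G → ℂ) t := by
  have hχcf := IsCharacter.isClassFunction (IsIrrCharacter.isCharacter χ.2)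
  set φ : G → ℂ := fun x => conj ((χ : G → ℂ) x) with hφ
  have hφcf : IsClassFunction G φ := by
    intro g h
    simp only [hφ]
    rw [hχcf g h]
  have hfr := frobenius_reciprocity T w φ hφcf
  rw [classInner_def, classInner_def] at hfr
  simp only [hφ, Complex.conj_conj] at hfr
  have hcard : (Nat.card T : ℂ) * (T.index : ℂ) = (Nat.card G : ℂ) := by
    exact_mod_cast Subgroup.card_mul_index T
  have hT0 : (Nat.card T : ℂ) ≠ 0 := Nat.cast_ne_zero.mpr Nat.card_pos.ne'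
  have hG0 : (Nat.card G : ℂ) ≠ 0 := Nat.cast_ne_zero.mpr Nat.card_pos.ne'
  rw [← hcard] at hfr
  have hI0 : (T.index : ℂ) ≠ 0 := by
    exact_mod_cast Subgroup.index_ne_zero_of_finite
  field_simp at hfr
  linear_combination hfr

open Classical in
/-- Pairing the idempotent of a set of characters of `T` with the restriction of a character. -/
theorem sum_blockCoeff_mul_res (T : Subgroup G) [Fintype T] [Fintype (IrrCharacter T)]
    (B' : Set (IrrCharacter T)) (χ : IrrCharacter G) :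
    ∑ t : T, blockCoeff B' t * (χ : G → ℂ) t
      = ∑ ψ : IrrCharacter T, classInner (fun t : T => (χ : G → ℂ) t) (ψ : T → ℂ)
          * (if ψ ∈ B' then (ψ : T → ℂ) 1 else 0) := by
  have hχT : IsCharacter T (fun t : T => (χ : G → ℂ) t) :=
    IsCharacter.restrict (IsIrrCharacter.isCharacter χ.2) T
  have hχTcf := IsCharacter.isClassFunction hχT
  have : ∀ t : T, blockCoeff B' t * (χ : G → ℂ) t
      = ∑ ψ : IrrCharacter T, classInner (fun t : T => (χ : G → ℂ) t) (ψ : T → ℂ)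
          * (blockCoeff B' t * (ψ : T → ℂ) t) := by
    intro t
    have h1 := expansion_apply hχTcf t
    have h2 : (χ : G → ℂ) t = ∑ ψ : IrrCharacter T,
        classInner (fun t : T => (χ : G → ℂ) t) (ψ : T → ℂ) * (ψ : T → ℂ) t := h1
    rw [h2, Finset.mul_sum]
    exact Finset.sum_congr rfl fun ψ _ => by ring
  rw [Finset.sum_congr rfl fun t _ => this t, Finset.sum_comm]
  refine Finset.sum_congr rfl fun ψ _ => ?_
  rw [← Finset.mul_sum]
  congr 1
  have h3 := om_blockCoeff B' ψ.2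
  unfold om at h3
  obtain ⟨n, hn, hn1⟩ := IsIrrCharacter.apply_one ψ.2
  have hne : (ψ : T → ℂ) 1 ≠ 0 := by rw [hn1]; exact_mod_cast hn.ne'
  rw [div_eq_iff hne] at h3
  rw [h3]
  simp only [memB_coe]
  split_ifs <;> simp

end Trace

section Closure

variable {G : Type u} [Group G] [Fintype G] {M : Ideal AlgInt}
variable (N : Subgroup G) [hN : N.Normal] [Fintype N]

omit [Fintype G] hN in
/-- A character of `T` has an irreducible constituent on `N`. -/
theorem exists_under_T (T : Subgroup G) [Fintype T] (hNT : N ≤ T) (ψ : IrrCharacter T) :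
    ∃ φ : IrrCharacter N,
      classInner (fun n : N => (ψ : T → ℂ) ⟨(n : G), hNT n.2⟩) (φ : N → ℂ) ≠ 0 := by
  classical
  have hc : IsCharacter N (fun n : N => (ψ : T → ℂ) (Subgroup.inclusion hNT n)) :=
    IsCharacter.comp_hom (IsIrrCharacter.isCharacter ψ.2) (Subgroup.inclusion hNT)
  have hne : (fun n : N => (ψ : T → ℂ) (Subgroup.inclusion hNT n)) ≠ 0 := by
    intro h
    have h1 := congrFun h 1
    obtain ⟨n, hn, hn1⟩ := IsIrrCharacter.apply_one ψ.2
    have h2 : (ψ : T → ℂ) (Subgroup.inclusion hNT (1 : N)) = (ψ : T → ℂ) 1 := by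
      rw [map_one]
    rw [h2, hn1] at h1
    have : (n : ℂ) ≠ 0 := by exact_mod_cast hn.ne'
    exact this h1
  obtain ⟨φ, hφ, n, hn, hinner⟩ := IsCharacter.exists_constituent hc hne
  refine ⟨⟨φ, hφ⟩, ?_⟩
  show classInner (fun n : N => (ψ : T → ℂ) (Subgroup.inclusion hNT n)) φ ≠ 0
  rw [hinner]
  exact_mod_cast hn.ne'

/-- All members of a block of `T` covering `b` lie over `b`. -/
theorem all_over (hMm : M.IsMaximal) (b : Set (IrrCharacter N)) (hb : IsPBlock M b)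
    (T : Subgroup G) [Fintype T]
    (hT : ∀ g : G, g ∈ T ↔ ∀ θ ∈ b, ∀ θ' : IrrCharacter N,
      (∀ n : N, (θ' : N → ℂ) n = (θ : N → ℂ) ⟨g * n * g⁻¹, hN.conj_mem n n.2 g⟩) → θ' ∈ b)
    (hNT : N ≤ T) (B' : Set (IrrCharacter T)) (hB' : IsPBlock M B')
    (hcov : ∃ ψ ∈ B', ∃ θ ∈ b,
      classInner (fun n : N => (ψ : T → ℂ) ⟨(n : G), hNT n.2⟩) (θ : N → ℂ) ≠ 0) :
    ∀ ψ ∈ B', ∃ θ ∈ b,
      classInner (fun n : N => (ψ : T → ℂ) ⟨(n : G), hNT n.2⟩) (θ : N → ℂ) ≠ 0 := by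
  intro ψ hψ
  obtain ⟨ψ₀, hψ₀, θ₀, hθ₀, hov₀⟩ := hcov
  obtain ⟨ψ', rfl⟩ := hB'
  have hs : SameBlock M (ψ₀ : T → ℂ) (ψ : T → ℂ) :=
    sameBlock_trans hMm (sameBlock_symm hMm hψ₀) hψ
  obtain ⟨φ, hφ⟩ := exists_under_T N T hNT ψ
  exact ⟨φ, mem_of_over_sameBlock N hMm b hb T hT hNT ψ₀ ψ hs θ₀ hθ₀ hov₀ φ hφ, hφ⟩

open Classical in
/-- **Closure.** The characters induced from a block of `T` covering `b` form a union of
blocks. -/
theorem closure_ind (hMm : M.IsMaximal) (b : Set (IrrCharacter N)) (hb : IsPBlock M b)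
    (T : Subgroup G) [Fintype T]
    (hT : ∀ g : G, g ∈ T ↔ ∀ θ ∈ b, ∀ θ' : IrrCharacter N,
      (∀ n : N, (θ' : N → ℂ) n = (θ : N → ℂ) ⟨g * n * g⁻¹, hN.conj_mem n n.2 g⟩) → θ' ∈ b)
    (hNT : N ≤ T) (B' : Set (IrrCharacter T)) (hB' : IsPBlock M B')
    (hover : ∀ ψ ∈ B', ∃ θ ∈ b,
      classInner (fun n : N => (ψ : T → ℂ) ⟨(n : G), hNT n.2⟩) (θ : N → ℂ) ≠ 0)
    (ψ₁ : IrrCharacter T) (hψ₁ : ψ₁ ∈ B') (χ χ' : IrrCharacter G)
    (hχ : indFun T (ψ₁ : T → ℂ) = (χ : G → ℂ))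
    (hs : SameBlock M (χ : G → ℂ) (χ' : G → ℂ)) :
    ∃ ψ ∈ B', indFun T (ψ : T → ℂ) = (χ' : G → ℂ) := by
  haveI : Fintype (IrrCharacter T) := Fintype.ofFinite _
  have hχcf := IsCharacter.isClassFunction (IsIrrCharacter.isCharacter χ.2)
  have hχ'cf := IsCharacter.isClassFunction (IsIrrCharacter.isCharacter χ'.2)
  obtain ⟨ψ₀', hB'eq⟩ := id hB'
  set w : T → ℂ := blockCoeff B' with hw
  have hwcf : IsClassFunction T w := blockCoeff_isClassFunction _
  have hwR : ∀ t, MemLocalRing M (w t) := by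
    intro t
    rw [hw, hB'eq]
    exact memLocalRing_blockCoeff hMm ψ₀'.2 t
  set Y := indFun T w with hY
  have hYcf : IsClassFunction G Y := indFun_isClassFunction T w
  have hYR : ∀ x, MemLocalRing M (Y x) := indFun_memLocalRing hMm T hwcf hwR
  have key := om_sub_mem hMm hχcf hχ'cf hs hYcf hYR
  have hom : ∀ χ'' : IrrCharacter G, om (χ'' : G → ℂ) Y * (χ'' : G → ℂ) 1
      = (T.index : ℂ) * ∑ ψ : IrrCharacter T,
          classInner (fun t : T => (χ'' : G → ℂ) t) (ψ : T → ℂ)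
            * (if ψ ∈ B' then (ψ : T → ℂ) 1 else 0) := by
    intro χ''
    obtain ⟨n, hn, hn1⟩ := IsIrrCharacter.apply_one χ''.2
    have hne : (χ'' : G → ℂ) 1 ≠ 0 := by rw [hn1]; exact_mod_cast hn.ne'
    unfold om
    rw [div_mul_cancel₀ _ hne, hY, sum_indFun_mul T w χ'', hw, sum_blockCoeff_mul_res T B' χ'']
  -- the value at `χ`
  obtain ⟨θ₁, hθ₁, hov₁⟩ := hover ψ₁ hψ₁
  have hself : classInner (χ : G → ℂ) (χ : G → ℂ) = 1 := classInner_irr_self χ.2
  have hc1 : classInner (fun t : T => (χ : G → ℂ) t) (ψ₁ : T → ℂ) = 1 := by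
    have h1 := frobenius_reciprocity T (ψ₁ : T → ℂ) (χ : G → ℂ) hχcf
    rw [hχ, hself] at h1
    rw [← classInner_conj_symm, ← h1, map_one]
  have hc1' : classInner (fun t : T => (χ : G → ℂ) t) (ψ₁ : T → ℂ) ≠ 0 := by
    rw [hc1]; exact one_ne_zero
  obtain ⟨_, _, huniq⟩ := key_ind N hMm b hb T hT hNT ψ₁ θ₁ hθ₁ hov₁ χ hc1'
  have hsumχ : ∑ ψ : IrrCharacter T, classInner (fun t : T => (χ : G → ℂ) t) (ψ : T → ℂ)
      * (if ψ ∈ B' then (ψ : T → ℂ) 1 else 0) = (ψ₁ : T → ℂ) 1 := by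
    rw [Finset.sum_eq_single ψ₁]
    · rw [hc1, if_pos hψ₁, one_mul]
    · intro ψ _ hne
      by_cases hψ : ψ ∈ B'
      · rw [huniq ψ (hover ψ hψ) hne, zero_mul]
      · rw [if_neg hψ, mul_zero]
    · intro h
      exact absurd (Finset.mem_univ _) h
  have hχ1 : (χ : G → ℂ) 1 = (T.index : ℂ) * (ψ₁ : T → ℂ) 1 := by
    rw [← hχ, indFun_one]
  have homχ : om (χ : G → ℂ) Y = 1 := by
    have h1 := hom χ
    rw [hsumχ, ← hχ1] at h1
    obtain ⟨n, hn, hn1⟩ := IsIrrCharacter.apply_one χ.2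
    have hne : (χ : G → ℂ) 1 ≠ 0 := by rw [hn1]; exact_mod_cast hn.ne'
    exact mul_right_cancel₀ hne (by rw [h1, one_mul])
  have hsumχ' : ∑ ψ : IrrCharacter T, classInner (fun t : T => (χ' : G → ℂ) t) (ψ : T → ℂ)
      * (if ψ ∈ B' then (ψ : T → ℂ) 1 else 0) ≠ 0 := by
    intro h0
    have h1 := hom χ'
    rw [h0, mul_zero] at h1
    obtain ⟨n, hn, hn1⟩ := IsIrrCharacter.apply_one χ'.2
    have hne : (χ' : G → ℂ) 1 ≠ 0 := by rw [hn1]; exact_mod_cast hn.ne'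
    have h2 : om (χ' : G → ℂ) Y = 0 := by
      rcases mul_eq_zero.mp h1 with h | h
      · exact h
      · exact absurd h hne
    rw [homχ, h2, sub_zero] at key
    exact not_memLocalIdeal_one hMm key
  obtain ⟨ψ, _, hψ⟩ := Finset.exists_ne_zero_of_sum_ne_zero hsumχ'
  have h1 : classInner (fun t : T => (χ' : G → ℂ) t) (ψ : T → ℂ) ≠ 0 := left_ne_zero_of_mul hψ
  have h2 : ψ ∈ B' := by
    by_contra hcon
    rw [if_neg hcon, mul_zero] at hψ
    exact hψ rfl
  obtain ⟨θ, hθ, hov⟩ := hover ψ h2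
  exact ⟨ψ, h2, (key_ind N hMm b hb T hT hNT ψ θ hθ hov χ' h1).1⟩

end Closure

section Main

variable {G : Type u} [Group G] [Fintype G] {M : Ideal AlgInt}
variable (N : Subgroup G) [hN : N.Normal] [Fintype N]

omit hN [Fintype N] in
/-- Central characters of irreducibly induced characters from the same block. -/
theorem sameBlock_ind (hMm : M.IsMaximal) (T : Subgroup G) [Fintype T]
    (ψ₁ ψ₂ : IrrCharacter T) (hs : SameBlock M (ψ₁ : T → ℂ) (ψ₂ : T → ℂ)) :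
    SameBlock M (indFun T (ψ₁ : T → ℂ)) (indFun T (ψ₂ : T → ℂ)) := by
  intro g
  have h1 : (ψ₁ : T → ℂ) 1 ≠ 0 := by
    obtain ⟨n, hn, h⟩ := IsIrrCharacter.apply_one ψ₁.2
    rw [h]; exact_mod_cast hn.ne'
  have h2 : (ψ₂ : T → ℂ) 1 ≠ 0 := by
    obtain ⟨n, hn, h⟩ := IsIrrCharacter.apply_one ψ₂.2
    rw [h]; exact_mod_cast hn.ne'
  rw [centralChar_indFun T _ h1 g, centralChar_indFun T _ h2 g]
  exact inducedCentralChar_sub_mem hMm T ψ₁.2 ψ₂.2 hs g

/-- **The Fong–Reynolds correspondence.** -/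
theorem fong_reynolds {p : ℕ} (hM : IsPModular p M) (b : Set (IrrCharacter N))
    (hb : IsPBlock M b) (T : Subgroup G) [Fintype T]
    (hT : ∀ g : G, g ∈ T ↔ ∀ θ ∈ b, ∀ θ' : IrrCharacter N,
      (∀ n : N, (θ' : N → ℂ) n = (θ : N → ℂ) ⟨g * n * g⁻¹, hN.conj_mem n n.2 g⟩) → θ' ∈ b)
    (hNT : N ≤ T) :
    (∀ B' : Set (IrrCharacter T), IsPBlock M B' →
      (∃ ψ ∈ B', ∃ θ ∈ b,
        classInner (fun n : N => (ψ : T → ℂ) ⟨(n : G), hNT n.2⟩) (θ : N → ℂ) ≠ 0) →
      ∃ B : Set (IrrCharacter G), IsInducedBlock M T B' B ∧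
        (∃ χ ∈ B, ∃ θ ∈ b, classInner (fun n : N => (χ : G → ℂ) n) (θ : N → ℂ) ≠ 0) ∧
        (∀ ψ ∈ B', IsIrrCharacter G (indFun T (ψ : T → ℂ))) ∧
        ∀ χ : IrrCharacter G, χ ∈ B ↔ ∃ ψ ∈ B', (χ : G → ℂ) = indFun T (ψ : T → ℂ)) ∧
    (∀ B'₁ B'₂ : Set (IrrCharacter T), IsPBlock M B'₁ → IsPBlock M B'₂ →
      (∃ ψ ∈ B'₁, ∃ θ ∈ b,
        classInner (fun n : N => (ψ : T → ℂ) ⟨(n : G), hNT n.2⟩) (θ : N → ℂ) ≠ 0) →
      (∃ ψ ∈ B'₂, ∃ θ ∈ b,
        classInner (fun n : N => (ψ : T → ℂ) ⟨(n : G), hNT n.2⟩) (θ : N → ℂ) ≠ 0) →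
      ∀ B : Set (IrrCharacter G), IsInducedBlock M T B'₁ B → IsInducedBlock M T B'₂ B →
        B'₁ = B'₂) ∧
    (∀ B : Set (IrrCharacter G), IsPBlock M B →
      (∃ χ ∈ B, ∃ θ ∈ b, classInner (fun n : N => (χ : G → ℂ) n) (θ : N → ℂ) ≠ 0) →
      ∃ B' : Set (IrrCharacter T), IsPBlock M B' ∧
        (∃ ψ ∈ B', ∃ θ ∈ b,
          classInner (fun n : N => (ψ : T → ℂ) ⟨(n : G), hNT n.2⟩) (θ : N → ℂ) ≠ 0) ∧
        IsInducedBlock M T B' B) := by
  classical
  have hMm := hM.2.1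
  refine ⟨?_, ?_, ?_⟩
  · intro B' hB' hcov
    have hover := all_over N hMm b hb T hT hNT B' hB' hcov
    obtain ⟨ψ₀, hψ₀, θ₀, hθ₀, hov₀⟩ := hcov
    obtain ⟨hirr₀, hovχ₀⟩ := ind_irr N hMm b hb T hT hNT ψ₀ θ₀ hθ₀ hov₀
    set χ₀ : IrrCharacter G := ⟨indFun T (ψ₀ : T → ℂ), hirr₀⟩ with hχ₀
    have hB'eq : blockOf M (ψ₀ : T → ℂ) = B' := by
      obtain ⟨ψ', rfl⟩ := hB'
      exact blockOf_eq_of_mem hMm hψ₀
    refine ⟨blockOf M (χ₀ : G → ℂ), ?_, ?_, ?_, ?_⟩
    · have := isInducedBlock_of_irr_ind hM T ψ₀ hirr₀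
      rw [hB'eq] at this
      exact this
    · exact ⟨χ₀, self_mem_blockOf hMm χ₀, θ₀, hθ₀, hovχ₀⟩
    · intro ψ hψ
      obtain ⟨θ, hθ, hov⟩ := hover ψ hψ
      exact (ind_irr N hMm b hb T hT hNT ψ θ hθ hov).1
    · intro χ
      constructor
      · intro hχ
        obtain ⟨ψ, hψ, hψχ⟩ := closure_ind N hMm b hb T hT hNT B' hB' hover ψ₀ hψ₀ χ₀ χ rfl hχ
        exact ⟨ψ, hψ, hψχ.symm⟩
      · rintro ⟨ψ, hψ, hψχ⟩
        have hs : SameBlock M (ψ₀ : T → ℂ) (ψ : T → ℂ) := by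
          rw [← hB'eq] at hψ
          exact hψ
        have := sameBlock_ind hMm T ψ₀ ψ hs
        rw [← hψχ] at this
        exact this
  · intro B'₁ B'₂ hB'₁ hB'₂ hcov₁ hcov₂ B hind₁ hind₂
    have hover₂ := all_over N hMm b hb T hT hNT B'₂ hB'₂ hcov₂
    obtain ⟨ψ₁, hψ₁, θ₁, hθ₁, hov₁⟩ := hcov₁
    obtain ⟨ψ₂, hψ₂, θ₂, hθ₂, hov₂⟩ := hcov₂
    obtain ⟨hirr₁, _⟩ := ind_irr N hMm b hb T hT hNT ψ₁ θ₁ hθ₁ hov₁
    obtain ⟨hirr₂, _⟩ := ind_irr N hMm b hb T hT hNT ψ₂ θ₂ hθ₂ hov₂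
    set χ₁ : IrrCharacter G := ⟨indFun T (ψ₁ : T → ℂ), hirr₁⟩ with hχ₁
    set χ₂ : IrrCharacter G := ⟨indFun T (ψ₂ : T → ℂ), hirr₂⟩ with hχ₂
    obtain ⟨χB, hBeq⟩ := hind₁.2.1
    have hχB : χB ∈ B := by rw [hBeq]; exact self_mem_blockOf hMm χB
    have h1ne : (ψ₁ : T → ℂ) 1 ≠ 0 := by
      obtain ⟨n, hn, h⟩ := IsIrrCharacter.apply_one ψ₁.2
      rw [h]; exact_mod_cast hn.ne'
    have h2ne : (ψ₂ : T → ℂ) 1 ≠ 0 := by
      obtain ⟨n, hn, h⟩ := IsIrrCharacter.apply_one ψ₂.2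
      rw [h]; exact_mod_cast hn.ne'
    have hs : SameBlock M (χ₂ : G → ℂ) (χ₁ : G → ℂ) := by
      intro g
      show MemLocalIdeal M (centralChar (indFun T (ψ₂ : T → ℂ)) g
        - centralChar (indFun T (ψ₁ : T → ℂ)) g)
      rw [centralChar_indFun T _ h2ne g, centralChar_indFun T _ h1ne g]
      have e1 := hind₁.2.2 ψ₁ hψ₁ χB hχB g
      have e2 := hind₂.2.2 ψ₂ hψ₂ χB hχB g
      have := memLocalIdeal_sub hMm e2 e1
      rwa [sub_sub_sub_cancel_right] at this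
    obtain ⟨ψ, hψ, hψχ⟩ := closure_ind N hMm b hb T hT hNT B'₂ hB'₂ hover₂ ψ₂ hψ₂ χ₂ χ₁ rfl hs
    have hψeq : ψ = ψ₁ :=
      ind_inj N hMm b hb T hT hNT ψ ψ₁ (hover₂ ψ hψ) ⟨θ₁, hθ₁, hov₁⟩ hψχ
    rw [hψeq] at hψ
    obtain ⟨ψ', rfl⟩ := hB'₁
    obtain ⟨ψ'', rfl⟩ := hB'₂
    rw [← blockOf_eq_of_mem hMm hψ₁, ← blockOf_eq_of_mem hMm hψ]
  · intro B hB hcov
    obtain ⟨χ, hχ, θ, hθ, hov⟩ := hcov
    obtain ⟨ψ, hψov, hψχ⟩ := ind_surj N hMm b hb T hT hNT χ θ hθ hov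
    refine ⟨blockOf M (ψ : T → ℂ), ⟨ψ, rfl⟩, ⟨ψ, self_mem_blockOf hMm ψ, θ, hθ, hψov⟩, ?_⟩
    have hirr : IsIrrCharacter G (indFun T (ψ : T → ℂ)) := by rw [hψχ]; exact χ.2
    have := isInducedBlock_of_irr_ind hM T ψ hirr
    rw [hψχ] at this
    obtain ⟨χ', rfl⟩ := hB
    rw [blockOf_eq_of_mem hMm hχ] at this
    exact this

end Main

end Cfsg.Agent.Lib.Helper2_FongReynolds
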