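import Mathlib
import Cfsg.Prelude.Def_Characters
import Cfsg.Prelude.Def_Blocks
import Cfsg.Prelude.Def_BlockRank
import Cfsg.Prelude.Def_BlockLocal
import Cfsg.Prelude.Def_BrauerPairs
import Cfsg.Agent.Lib.Helper2_ClassFn
import Cfsg.Agent.Lib.Helper2_CharBasic
import Cfsg.Agent.Lib.Helper2_CharOrtho
import Cfsg.Agent.Lib.Helper2_Clifford
import Cfsg.Agent.Lib.Helper2_CharMore
import Cfsg.Agent.Lib.Helper2_CharDeg
import Cfsg.Agent.Lib.Helper2_CharInd
import Cfsg.Agent.Lib.Helper2_CharExtra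
import Cfsg.Agent.Lib.Helper2_CharInt
import Cfsg.Agent.Lib.Helper2_CharValues
import Cfsg.Agent.Lib.Helper2_CharSum
import Cfsg.Agent.Lib.Helper2_CharComplete
import Cfsg.Agent.Lib.Helper2_CharTable
import Cfsg.Agent.Lib.Helper2_CharCentral
import Cfsg.Agent.Lib.Helper2_ModM
import Cfsg.Agent.Lib.Helper2_Blocks
import Cfsg.Agent.Lib.Helper2_BlockOrtho
import Cfsg.Agent.Lib.Helper2_BlockMore
import Cfsg.Agent.Lib.Helper2_DefectGroup
import Cfsg.Agent.Lib.Helper2_DefectPCore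
import Cfsg.Agent.Lib.Helper2_MinMax
import Cfsg.Agent.Lib.Helper2_InducedBlock
import Cfsg.Agent.Lib.Helper2_BrauerMap
import Cfsg.Agent.Lib.Helper2_InducedDefect
import Cfsg.Agent.Lib.Helper2_BrauerFirst
import Cfsg.Agent.Lib.Helper2_BrauerConverse
import Cfsg.Agent.Lib.Helper2_SylowConj
import Cfsg.Agent.Lib.Helper2_BlockCover
import Cfsg.Agent.Lib.Helper2_BlockConj
import Cfsg.Agent.Lib.Helper2_FirstMain
import Cfsg.Agent.Lib.Helper2_BlockNormal
import Cfsg.Agent.Lib.Helper2_BlockCount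
import Cfsg.Agent.Lib.Helper2_BlockCount2
import Cfsg.Agent.Lib.Helper2_BlockKer
import Cfsg.Agent.Lib.Helper2_PRegCount
import Cfsg.Agent.Lib.Helper2_ExtFirstMain
import Cfsg.Agent.Lib.Helper2_ThirdMain
import Cfsg.Agent.Lib.Helper2_Fong
import Cfsg.Agent.Lib.Helper2_BrauerPairs
import Cfsg.Agent.Lib.Helper2_BrauerInv
import Cfsg.Agent.Lib.Helper2_Conj
import Cfsg.Agent.Lib.Helper2_BrauerChain
import Cfsg.Agent.Lib.Helper2_BrauerPrincipal
import Cfsg.Agent.Lib.Helper2_BrauerMax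
import Cfsg.Agent.Lib.Helper2_BrauerConjMax
import Cfsg.Agent.Lib.Helper2_BrauerLocal
import Cfsg.Agent.Lib.Helper2_BrauerStab
import Cfsg.Agent.Lib.Helper2_BlockTrace
import Cfsg.Agent.Lib.Helper2_BlockFusion
import Cfsg.Agent.Lib.Helper2_AbelianDefect
import Cfsg.Agent.Lib.Helper2_AbelianNilpotent
import Cfsg.Agent.Lib.Helper2_CentricNormal
import Cfsg.Agent.Lib.Helper2_MGroup
import Cfsg.Agent.Lib.Helper2_FongReynolds


set_option autoImplicit false

/-!
# Fong-Reynolds: defect groups and heights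
-/

namespace Cfsg.Agent.Lib.Helper2_FongReynolds2

open Cfsg
open Cfsg.Agent.Lib.Helper2_ClassFn
open Cfsg.Agent.Lib.Helper2_CharBasic
open Cfsg.Agent.Lib.Helper2_CharOrtho
open Cfsg.Agent.Lib.Helper2_Clifford
open Cfsg.Agent.Lib.Helper2_CharMore
open Cfsg.Agent.Lib.Helper2_CharDeg
open Cfsg.Agent.Lib.Helper2_CharInd
open Cfsg.Agent.Lib.Helper2_CharExtra
open Cfsg.Agent.Lib.Helper2_CharValues
open Cfsg.Agent.Lib.Helper2_CharSum
open Cfsg.Agent.Lib.Helper2_CharComplete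
open Cfsg.Agent.Lib.Helper2_CharTable
open Cfsg.Agent.Lib.Helper2_CharCentral
open Cfsg.Agent.Lib.Helper2_ModM
open Cfsg.Agent.Lib.Helper2_Blocks
open Cfsg.Agent.Lib.Helper2_BlockOrtho
open Cfsg.Agent.Lib.Helper2_BlockMore
open Cfsg.Agent.Lib.Helper2_DefectGroup
open Cfsg.Agent.Lib.Helper2_DefectPCore
open Cfsg.Agent.Lib.Helper2_MinMax
open Cfsg.Agent.Lib.Helper2_InducedBlock
open Cfsg.Agent.Lib.Helper2_BrauerMap
open Cfsg.Agent.Lib.Helper2_InducedDefect
open Cfsg.Agent.Lib.Helper2_BrauerFirst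
open Cfsg.Agent.Lib.Helper2_BrauerConverse
open Cfsg.Agent.Lib.Helper2_SylowConj
open Cfsg.Agent.Lib.Helper2_BlockCover
open Cfsg.Agent.Lib.Helper2_BlockConj
open Cfsg.Agent.Lib.Helper2_FirstMain
open Cfsg.Agent.Lib.Helper2_BlockNormal
open Cfsg.Agent.Lib.Helper2_BlockCount
open Cfsg.Agent.Lib.Helper2_BlockCount2
open Cfsg.Agent.Lib.Helper2_BlockKer
open Cfsg.Agent.Lib.Helper2_PRegCount
open Cfsg.Agent.Lib.Helper2_ExtFirstMain
open Cfsg.Agent.Lib.Helper2_ThirdMain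
open Cfsg.Agent.Lib.Helper2_Fong
open Cfsg.Agent.Lib.Helper2_BrauerPairs
open Cfsg.Agent.Lib.Helper2_BrauerInv
open Cfsg.Agent.Lib.Helper2_BrauerChain
open Cfsg.Agent.Lib.Helper2_BrauerPrincipal
open Cfsg.Agent.Lib.Helper2_BrauerMax
open Cfsg.Agent.Lib.Helper2_BrauerConjMax
open Cfsg.Agent.Lib.Helper2_BrauerLocal
open Cfsg.Agent.Lib.Helper2_BrauerStab
open Cfsg.Agent.Lib.Helper2_BlockTrace
open Cfsg.Agent.Lib.Helper2_BlockFusion
open Cfsg.Agent.Lib.Helper2_AbelianDefect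
open Cfsg.Agent.Lib.Helper2_AbelianNilpotent
open Cfsg.Agent.Lib.Helper2_CentricNormal
open Cfsg.Agent.Lib.Helper2_FongReynolds
open scoped ComplexConjugate

universe u


section Defect

variable {G : Type u} [Group G] [Fintype G] {M : Ideal AlgInt}

theorem sInf_add_image (a : ℕ) (S : Set ℕ) (hS : S.Nonempty) :
    sInf ((fun n => a + n) '' S) = a + sInf S := by
  apply le_antisymm
  · exact Nat.sInf_le ⟨sInf S, Nat.sInf_mem hS, rfl⟩
  · have hne : ((fun n => a + n) '' S).Nonempty := hS.image _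
    obtain ⟨n, hn, hn'⟩ := Nat.sInf_mem hne
    rw [← hn']
    exact Nat.add_le_add_left (Nat.sInf_le hn) a

theorem charDegree_indFun (T : Subgroup G) [Fintype T] (ψ : IrrCharacter T) :
    charDegree (indFun T (ψ : T → ℂ)) = T.index * charDegree (ψ : T → ℂ) := by
  obtain ⟨h1, _⟩ := apply_one_eq_charDegree ψ.2
  apply charDegree_eq'
  rw [indFun_one, h1]
  push_cast
  rfl

variable (N : Subgroup G) [hN : N.Normal] [Fintype N]

theorem fong_reynolds_defect {p : ℕ} [hp : Fact p.Prime] (hM : IsPModular p M)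
    (b : Set (IrrCharacter N))
    (hb : IsPBlock M b) (T : Subgroup G) [Fintype T]
    (hT : ∀ g : G, g ∈ T ↔ ∀ θ ∈ b, ∀ θ' : IrrCharacter N,
      (∀ n : N, (θ' : N → ℂ) n = (θ : N → ℂ) ⟨g * n * g⁻¹, hN.conj_mem n n.2 g⟩) → θ' ∈ b)
    (hNT : N ≤ T) (B' : Set (IrrCharacter T)) (hB' : IsPBlock M B')
    (hcov : ∃ ψ ∈ B', ∃ θ ∈ b,
        classInner (fun n : N => (ψ : T → ℂ) ⟨(n : G), hNT n.2⟩) (θ : N → ℂ) ≠ 0)
    (B : Set (IrrCharacter G)) (hind : IsInducedBlock M T B' B) :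
    (∀ D : Subgroup T, IsDefectGroup p M B' D → IsDefectGroup p M B (D.map T.subtype)) ∧
    ∀ ψ ∈ B', ∃ χ ∈ B, (χ : G → ℂ) = indFun T (ψ : T → ℂ) ∧
      blockHeight p B (χ : G → ℂ) = blockHeight p B' (ψ : T → ℂ) := by
  classical
  have hMm := hM.2.1
  obtain ⟨B₀, hind₀, _, hirr, hmem⟩ := (fong_reynolds N hM b hb T hT hNT).1 B' hB' hcov
  -- B = B₀
  have hBB : B = B₀ := by
    obtain ⟨ψ₀, hψ₀, _⟩ := hcov
    obtain ⟨χB, hBeq⟩ := hind.2.1
    obtain ⟨χ₀, hB₀eq⟩ := hind₀.2.1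
    have hχB : χB ∈ B := by rw [hBeq]; exact self_mem_blockOf hMm χB
    have hχ₀ : χ₀ ∈ B₀ := by rw [hB₀eq]; exact self_mem_blockOf hMm χ₀
    have hs : SameBlock M (χ₀ : G → ℂ) (χB : G → ℂ) := by
      intro g
      have e1 := hind.2.2 ψ₀ hψ₀ χB hχB g
      have e2 := hind₀.2.2 ψ₀ hψ₀ χ₀ hχ₀ g
      have := memLocalIdeal_sub hMm e1 e2
      rwa [sub_sub_sub_cancel_left] at this
    have : χB ∈ blockOf M (χ₀ : G → ℂ) := hs
    rw [hBeq, hB₀eq]
    exact blockOf_eq_of_mem hMm this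
  subst hBB
  set a := (T.index).factorization p with ha
  have hidx : T.index ≠ 0 := Subgroup.index_ne_zero_of_finite
  have hdeg : ∀ ψ : IrrCharacter T,
      (charDegree (indFun T (ψ : T → ℂ))).factorization p
        = a + (charDegree (ψ : T → ℂ)).factorization p := by
    intro ψ
    rw [charDegree_indFun]
    have hpos := (apply_one_eq_charDegree ψ.2).2
    rw [Nat.factorization_mul hidx hpos.ne']
    rfl
  -- the image sets
  have hB'ne : B'.Nonempty := by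
    obtain ⟨ψ₀, hψ₀, _⟩ := hcov
    exact ⟨ψ₀, hψ₀⟩
  have himg : ((fun χ : IrrCharacter G => (charDegree (χ : G → ℂ)).factorization p) '' B)
      = (fun n => a + n) ''
        ((fun ψ : IrrCharacter T => (charDegree (ψ : T → ℂ)).factorization p) '' B') := by
    ext n
    constructor
    · rintro ⟨χ, hχ, rfl⟩
      obtain ⟨ψ, hψ, hψχ⟩ := (hmem χ).mp hχ
      refine ⟨_, ⟨ψ, hψ, rfl⟩, ?_⟩
      show a + (charDegree (ψ : T → ℂ)).factorization p
        = (charDegree (χ : G → ℂ)).factorization p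
      rw [hψχ, hdeg]
    · rintro ⟨_, ⟨ψ, hψ, rfl⟩, rfl⟩
      refine ⟨⟨indFun T (ψ : T → ℂ), hirr ψ hψ⟩, (hmem _).mpr ⟨ψ, hψ, rfl⟩, ?_⟩
      show (charDegree (indFun T (ψ : T → ℂ))).factorization p
        = a + (charDegree (ψ : T → ℂ)).factorization p
      rw [← hdeg]
  have hinf : sInf ((fun χ : IrrCharacter G => (charDegree (χ : G → ℂ)).factorization p) '' B)
      = a + sInf ((fun ψ : IrrCharacter T => (charDegree (ψ : T → ℂ)).factorization p) '' B') := by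
    rw [himg]
    exact sInf_add_image a _ (hB'ne.image _)
  have hdef : blockDefect p B = blockDefect p B' := by
    unfold blockDefect
    rw [hinf]
    have hcard : Nat.card G = T.index * Nat.card T := by
      rw [mul_comm]; exact (Subgroup.card_mul_index T).symm
    have hcT : Nat.card T ≠ 0 := Nat.card_pos.ne'
    rw [hcard, Nat.factorization_mul hidx hcT]
    show a + _ - _ = _
    rw [Nat.add_sub_add_left]
  refine ⟨?_, ?_⟩
  · intro D hD
    obtain ⟨E, hE, hDE⟩ := defectGroup_le_of_induced hM T B' B hind D hD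
    obtain ⟨ψ', hB'eq⟩ := hB'
    obtain ⟨χ', hBeq⟩ := hind.2.1
    have hcD : Nat.card D = p ^ blockDefect p B' := by
      rw [hB'eq] at hD ⊢
      exact card_defectGroup hM ψ' D hD
    have hcE : Nat.card E = p ^ blockDefect p B := by
      rw [hBeq] at hE ⊢
      exact card_defectGroup hM χ' E hE
    have hcmap : Nat.card (D.map T.subtype) = Nat.card D :=
      Subgroup.card_map_of_injective T.subtype_injective
    have : D.map T.subtype = E := by
      apply Subgroup.eq_of_le_of_card_ge hDE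
      rw [hcmap, hcD, hcE, hdef]
    rw [this]
    exact hE
  · intro ψ hψ
    refine ⟨⟨indFun T (ψ : T → ℂ), hirr ψ hψ⟩, (hmem _).mpr ⟨ψ, hψ, rfl⟩, rfl, ?_⟩
    unfold blockHeight
    rw [hinf]
    show (charDegree (indFun T (ψ : T → ℂ))).factorization p - _ = _
    rw [hdeg, Nat.add_sub_add_left]

end Defect

end Cfsg.Agent.Lib.Helper2_FongReynolds2
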