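import Mathlib
import Cfsg.Prelude.Def_Characters
import Cfsg.Prelude.Def_Blocks
import Cfsg.Agent.Lib.Helper2_ClassFn
import Cfsg.Agent.Lib.Helper2_CharBasic
import Cfsg.Agent.Lib.Helper2_CharOrtho
import Cfsg.Agent.Lib.Helper2_CharValues
import Cfsg.Agent.Lib.Helper2_CharComplete
import Cfsg.Agent.Lib.Helper2_CharSum
import Cfsg.Agent.Lib.Helper2_CharInt
import Cfsg.Agent.Lib.Helper2_ModM
import Cfsg.Agent.Lib.Helper2_Blocks
import Cfsg.Agent.Lib.Helper2_BlockOrtho
import Cfsg.Agent.Lib.Helper2_BlockKer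
import Cfsg.Agent.Lib.Helper2_PRegular
import Cfsg.Agent.Lib.Helper2_PrincipalCrit
import Cfsg.Agent.Lib.Helper2_GaloisConj
import Cfsg.Agent.Lib.Helper2_FongReynolds

set_option linter.unusedSectionVars false
set_option linter.unusedVariables false
set_option linter.style.longLine false
set_option linter.unusedDecidableInType false
set_option linter.unusedFintypeInType false

namespace Cfsg.Agent.Lib.Helper2_GalParity

open Cfsg
open Cfsg.Agent.Lib.Helper2_ClassFn
open Cfsg.Agent.Lib.Helper2_CharBasic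
open Cfsg.Agent.Lib.Helper2_CharOrtho
open Cfsg.Agent.Lib.Helper2_CharValues
open Cfsg.Agent.Lib.Helper2_CharComplete
open Cfsg.Agent.Lib.Helper2_CharSum
open Cfsg.Agent.Lib.Helper2_CharInt
open Cfsg.Agent.Lib.Helper2_ModM
open Cfsg.Agent.Lib.Helper2_Blocks
open Cfsg.Agent.Lib.Helper2_BlockOrtho
open Cfsg.Agent.Lib.Helper2_BlockKer
open Cfsg.Agent.Lib.Helper2_PRegular
open Cfsg.Agent.Lib.Helper2_PrincipalCrit
open Cfsg.Agent.Lib.Helper2_GaloisConj
open scoped ComplexConjugate

universe u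

variable {G : Type u} [Group G] [Fintype G] {M : Ideal AlgInt}

/-- a value at an element of order `p` is congruent to the degree -/
theorem apply_sub_one_mem {p : ℕ} [hp : Fact p.Prime] (hM : IsPModular p M) {χ : G → ℂ}
    (hχ : IsCharacter G χ) (t : G) (ht : orderOf t = p) :
    MemLocalIdeal M (χ 1 - χ t) := by
  have hn0 : Nat.card G ≠ 0 := Nat.card_pos.ne'
  set a := (Nat.card G).factorization p with ha
  set m := Nat.card G / p ^ a with hm
  have hcop : Nat.Coprime p m := Nat.coprime_ordCompl hp.out hn0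
  have hcard : Nat.card G = p ^ a * m := (Nat.ordProj_mul_ordCompl_eq_self (Nat.card G) p).symm
  obtain ⟨r0, hr0p, hr0m⟩ := Nat.chineseRemainder hcop 0 1
  set r := r0 + p * m with hr
  have hrp : r ≡ 0 [MOD p] := by
    have h2 : p * m ≡ 0 [MOD p] := (Nat.modEq_zero_iff_dvd).mpr (dvd_mul_right _ _)
    have h3 := hr0p.add h2
    rwa [add_zero] at h3
  have hrm : r ≡ 1 [MOD m] := by
    have h2 : p * m ≡ 0 [MOD m] := (Nat.modEq_zero_iff_dvd).mpr (dvd_mul_left _ _)
    have h3 := hr0m.add h2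
    rwa [add_zero] at h3
  have hmpos : 0 < m := Nat.pos_of_ne_zero (fun h => by rw [h, mul_zero] at hcard; exact hn0 hcard)
  have hr1 : 1 ≤ r := by
    have : 1 ≤ p * m := Nat.mul_pos hp.out.pos hmpos
    omega
  have hdm : m ∣ r - 1 := (Nat.modEq_iff_dvd' hr1).mp hrm.symm
  have hdiv : Nat.card G ∣ (r - 1) * p ^ a := by
    rw [hcard, mul_comm]
    exact Nat.mul_dvd_mul hdm (dvd_refl _)
  have key := char_pow_sub_mem hM hχ t a r hdiv hr1
  have htr : t ^ r = 1 := by
    rw [← orderOf_dvd_iff_pow_eq_one, ht]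
    exact (Nat.modEq_zero_iff_dvd).mp hrp
  rwa [htr] at key

open Classical in
/-- `p` divides the sum of the squares of the degrees in the principal block -/
theorem dvd_sum_sq {p : ℕ} [hp : Fact p.Prime] (hM : IsPModular p M) (hpG : p ∣ Nat.card G) :
    p ∣ ∑ ψ ∈ irrFinset G,
      (if SameBlock M (fun _ : G => (1 : ℂ)) ψ then (charDegree ψ) ^ 2 else 0) := by
  obtain ⟨t, ht⟩ := exists_prime_orderOf_dvd_card' p hpG
  have h1 : ¬ p ∣ orderOf (1 : G) := by
    rw [orderOf_one]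
    exact hp.out.one_lt.ne' ∘ Nat.dvd_one.mp
  have hpt : p ∣ orderOf t := by rw [ht]
  have h0 := weak_block_orthogonality hM (isIrrCharacter_one (G := G)) 1 t h1 hpt
  by_contra hnd
  have hcop : Nat.Coprime (∑ ψ ∈ irrFinset G,
      (if SameBlock M (fun _ : G => (1 : ℂ)) ψ then (charDegree ψ) ^ 2 else 0)) p :=
    ((Nat.Prime.coprime_iff_not_dvd hp.out).mpr hnd).symm
  apply not_memLocalIdeal_nat hM _ hcop
  have e1 : ((∑ ψ ∈ irrFinset G,
      (if SameBlock M (fun _ : G => (1 : ℂ)) ψ then (charDegree ψ) ^ 2 else 0) : ℕ) : ℂ)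
      = ∑ ψ ∈ irrFinset G, (((if SameBlock M (fun _ : G => (1 : ℂ)) ψ then (charDegree ψ) ^ 2 else 0 : ℕ) : ℂ)
        - (if SameBlock M (fun _ : G => (1 : ℂ)) ψ then ψ 1 * conj (ψ t) else 0)) := by
    rw [Finset.sum_sub_distrib, h0, sub_zero, Nat.cast_sum]
  rw [e1]
  refine memLocalIdeal_sum hM.2.1 _ _ fun ψ hψ => ?_
  have hψ' := mem_irrFinset.mp hψ
  split_ifs with hs
  · have hc := IsCharacter.conj (IsIrrCharacter.isCharacter hψ')
    have hd := (apply_one_eq_charDegree hψ').1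
    have key := apply_sub_one_mem hM hc t ht
    have e2 : (((charDegree ψ) ^ 2 : ℕ) : ℂ) - ψ 1 * conj (ψ t)
        = ψ 1 * (conj (ψ 1) - conj (ψ t)) := by
      rw [hd]
      push_cast
      rw [Complex.conj_natCast]
      ring
    rw [e2]
    exact memLocalIdeal_mul_int hM.2.1 key
      (IsCharacter.isIntegral (IsIrrCharacter.isCharacter hψ') 1)
  · simp only [Nat.cast_zero, sub_self]
    exact memLocalIdeal_zero hM.2.1

/-- membership in the principal block is invariant under `p`-regular-fixing power maps -/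
theorem powFn_mem_principal {p : ℕ} [hp : Fact p.Prime] (hM : IsPModular p M) (k : ℕ)
    (hk : k.Coprime (Nat.card G)) (hk₂ : ∀ g : G, ¬ p ∣ orderOf g → g ^ k = g)
    (χ : IrrCharacter G) (hχ : χ ∈ principalBlock M G) :
    (⟨powFn k (χ : G → ℂ), powFn_isIrrCharacter k hk χ.2⟩ : IrrCharacter G)
      ∈ principalBlock M G := by
  classical
  apply mem_principal_of_regSum_ne_zero hM
  have h := regSum_ne_zero_of_mem hM χ hχ
  have e : regSum p (powFn k (χ : G → ℂ)) = regSum p (χ : G → ℂ) := by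
    unfold regSum
    refine Finset.sum_congr rfl fun x _ => ?_
    by_cases hx : p ∣ orderOf x
    · rw [rp_of_dvd hx, rp_of_dvd hx]
    · rw [rp_of_not_dvd hx, rp_of_not_dvd hx, powFn_apply, hk₂ x hx]
  show regSum p (powFn k (χ : G → ℂ)) ≠ 0
  rw [e]
  exact h


theorem coprime_of_hyp (k : ℕ)
    (hk₁ : ∀ g : G, (∃ j : ℕ, orderOf g = 2 ^ j) → g ^ k = g ^ 3)
    (hk₂ : ∀ g : G, Odd (orderOf g) → g ^ k = g) : k.Coprime (Nat.card G) := by
  apply Nat.Coprime.symm
  apply Nat.coprime_of_dvd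
  intro q hq hqG hqk
  haveI : Fact q.Prime := ⟨hq⟩
  obtain ⟨g, hg⟩ := exists_prime_orderOf_dvd_card' q hqG
  have hgk : g ^ k = 1 := by
    rw [← orderOf_dvd_iff_pow_eq_one, hg]
    exact hqk
  have hg1 : g ≠ 1 := by
    intro h
    rw [h, orderOf_one] at hg
    exact hq.one_lt.ne hg
  rcases Nat.Prime.eq_two_or_odd' hq with h2 | hodd
  · have h3 := hk₁ g ⟨1, by rw [hg, h2, pow_one]⟩
    rw [hgk] at h3
    have hg2 : g ^ 2 = 1 := by
      rw [← orderOf_dvd_iff_pow_eq_one, hg, h2]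
    have h4 : g ^ 3 = g := by
      rw [pow_succ, hg2, one_mul]
    rw [h4] at h3
    exact hg1 h3.symm
  · have h3 := hk₂ g (by rw [hg]; exact hodd)
    rw [hgk] at h3
    exact hg1 h3.symm

theorem pow_pow_two_eq (k : ℕ) (hkcop : k.Coprime (Nat.card G)) (h2G : 2 ∣ Nat.card G)
    (hk₂ : ∀ g : G, Odd (orderOf g) → g ^ k = g) (g : G) :
    g ^ (k ^ (2 ^ ((Nat.card G).factorization 2))) = g := by
  have hkodd : Nat.Coprime k 2 := Nat.Coprime.coprime_dvd_right h2G hkcop
  set a := (Nat.card G).factorization 2 with ha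
  have hn0 : orderOf g ≠ 0 := (orderOf_pos g).ne'
  set n := orderOf g with hn
  set b := n.factorization 2 with hb
  set m' := n / 2 ^ b with hm'
  have hnG : n ∣ Nat.card G := orderOf_dvd_natCard g
  have hnb : 2 ^ b * m' = n := Nat.ordProj_mul_ordCompl_eq_self n 2
  have hcop2 : Nat.Coprime 2 m' := Nat.coprime_ordCompl Nat.prime_two hn0
  have hcop : Nat.Coprime (2 ^ b) m' := Nat.Coprime.pow_left b hcop2
  have hba : b ≤ a := by
    have h : 2 ^ b ∣ Nat.card G := dvd_trans (Nat.ordProj_dvd n 2) hnG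
    exact (Nat.Prime.pow_dvd_iff_le_factorization Nat.prime_two Nat.card_pos.ne').mp h
  have h1 : k ^ (2 ^ a) ≡ 1 [MOD m'] := by
    have hh : orderOf (g ^ (2 ^ b)) = m' := by
      rw [orderOf_pow_of_dvd (pow_pos two_pos b).ne' (Nat.ordProj_dvd n 2)]
    have hodd : Odd (orderOf (g ^ (2 ^ b))) := by
      rw [hh]
      exact Nat.Coprime.odd_of_left hcop2
    have hk := hk₂ _ hodd
    have h : k ≡ 1 [MOD m'] := by
      rw [← hh]
      apply (pow_eq_pow_iff_modEq).mp
      rw [hk, pow_one]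
    have h' := h.pow (2 ^ a)
    rwa [one_pow] at h'
  have h2 : k ^ (2 ^ a) ≡ 1 [MOD 2 ^ b] := by
    rcases Nat.eq_zero_or_pos b with hb0 | hbpos
    · rw [hb0, pow_zero]
      exact Nat.modEq_one
    · have ht := Nat.ModEq.pow_totient (Nat.Coprime.pow_right b hkodd)
      rw [Nat.totient_prime_pow Nat.prime_two hbpos] at ht
      have ht' : k ^ (2 ^ (b - 1)) ≡ 1 [MOD 2 ^ b] := by
        simpa using ht
      have e : 2 ^ a = 2 ^ (b - 1) * 2 ^ (a - (b - 1)) := by
        rw [← pow_add, Nat.add_sub_cancel' (by omega)]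
      rw [e, pow_mul]
      have h' := ht'.pow (2 ^ (a - (b - 1)))
      rwa [one_pow] at h'
  have h3 : k ^ (2 ^ a) ≡ 1 [MOD 2 ^ b * m'] :=
    (Nat.modEq_and_modEq_iff_modEq_mul hcop).mp ⟨h2, h1⟩
  rw [hnb] at h3
  have h4 : g ^ (k ^ (2 ^ a)) = g ^ 1 := (pow_eq_pow_iff_modEq).mpr h3
  rwa [pow_one] at h4

open Classical in
theorem even_card_odd_principal (hM : IsPModular 2 M) (h2G : 2 ∣ Nat.card G) :
    Even (Nat.card {χ : IrrCharacter G //
      χ ∈ principalBlock M G ∧ Odd (charDegree (χ : G → ℂ))}) := by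
  haveI : Fact (Nat.Prime 2) := ⟨Nat.prime_two⟩
  haveI : Fintype (IrrCharacter G) := Fintype.ofFinite _
  have h := dvd_sum_sq hM h2G
  have e1 : (∑ ψ ∈ irrFinset G,
      (if SameBlock M (fun _ : G => (1 : ℂ)) ψ then (charDegree ψ) ^ 2 else 0))
      = ∑ χ : IrrCharacter G,
        (if χ ∈ principalBlock M G then (charDegree (χ : G → ℂ)) ^ 2 else 0) := by
    have hinj : Function.Injective (Nat.cast : ℕ → ℂ) := Nat.cast_injective
    apply hinj
    rw [Nat.cast_sum, Nat.cast_sum]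
    exact (Cfsg.Agent.Lib.Helper2_FongReynolds.sum_irr_eq' (K := G)
      (fun ψ => (((if SameBlock M (fun _ : G => (1 : ℂ)) ψ then (charDegree ψ) ^ 2 else 0 : ℕ)) : ℂ))).symm
  rw [e1] at h
  have h' : Even (∑ χ : IrrCharacter G,
        (if χ ∈ principalBlock M G then (charDegree (χ : G → ℂ)) ^ 2 else 0)) :=
    even_iff_two_dvd.mpr h
  rw [Finset.even_sum_iff_even_card_odd] at h'
  rw [Nat.card_eq_fintype_card, Fintype.card_subtype]
  convert h' using 2
  ext χ
  simp only [Finset.mem_filter, Finset.mem_univ, true_and]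
  constructor
  · rintro ⟨h1, h2⟩
    rw [if_pos h1]
    exact h2.pow
  · intro h3
    by_cases h1 : χ ∈ principalBlock M G
    · rw [if_pos h1] at h3
      exact ⟨h1, (Nat.odd_pow_iff (by norm_num)).mp h3⟩
    · rw [if_neg h1] at h3
      exact absurd h3 (by decide)

theorem charDegree_powFn (k : ℕ) {χ : G → ℂ} (hχ : IsIrrCharacter G χ) :
    charDegree (powFn k χ) = charDegree χ := by
  apply charDegree_eq'
  rw [powFn_apply, one_pow]
  exact (apply_one_eq_charDegree hχ).1

open Classical in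
/-- the parity theorem -/
theorem even_card_fixed (hM : IsPModular 2 M) (h2G : 2 ∣ Nat.card G) (k : ℕ)
    (hk₁ : ∀ g : G, (∃ j : ℕ, orderOf g = 2 ^ j) → g ^ k = g ^ 3)
    (hk₂ : ∀ g : G, Odd (orderOf g) → g ^ k = g) :
    Even (Nat.card {χ : IrrCharacter G // χ ∈ principalBlock M G ∧
      Odd (charDegree (χ : G → ℂ)) ∧ ∀ g : G, (χ : G → ℂ) (g ^ k) = (χ : G → ℂ) g}) := by
  haveI : Fact (Nat.Prime 2) := ⟨Nat.prime_two⟩
  haveI : Fintype (IrrCharacter G) := Fintype.ofFinite _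
  have hkcop := coprime_of_hyp k hk₁ hk₂
  have hk₂' : ∀ g : G, ¬ 2 ∣ orderOf g → g ^ k = g := fun g hg =>
    hk₂ g (Nat.not_even_iff_odd.mp (fun h => hg (even_iff_two_dvd.mp h)))
  set a := (Nat.card G).factorization 2 with ha
  let X := {χ : IrrCharacter G // χ ∈ principalBlock M G ∧ Odd (charDegree (χ : G → ℂ))}
  let f : Function.End X := fun x =>
    ⟨⟨powFn k (x.1 : G → ℂ), powFn_isIrrCharacter k hkcop x.1.2⟩,
      powFn_mem_principal hM k hkcop hk₂' x.1 x.2.1, by
        show Odd (charDegree (powFn k (x.1 : G → ℂ)))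
        rw [charDegree_powFn k x.1.2]
        exact x.2.2⟩
  have hfiter : ∀ j : ℕ, ∀ x : X, ∀ g : G,
      (((f ^ j : Function.End X) x).1 : G → ℂ) g = (x.1 : G → ℂ) (g ^ (k ^ j)) := by
    intro j
    induction j with
    | zero =>
      intro x g
      rw [pow_zero, pow_zero, pow_one]
      rfl
    | succ j ih =>
      intro x g
      rw [pow_succ]
      show (((f ^ j : Function.End X) (f x)).1 : G → ℂ) g = _
      rw [ih (f x) g]
      show powFn k (x.1 : G → ℂ) (g ^ (k ^ j)) = _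
      rw [powFn_apply, ← pow_mul, ← pow_succ]
  have hfa : f ^ 2 ^ a = 1 := by
    funext x
    apply Subtype.ext
    apply Subtype.ext
    funext g
    rw [hfiter, pow_pow_two_eq k hkcop h2G hk₂ g]
    rfl
  have hmod := Equiv.Perm.card_fixedPoints_modEq (f := f) (p := 2) (n := a) hfa
  rw [← Nat.card_eq_fintype_card, ← Nat.card_eq_fintype_card] at hmod
  have hX : Even (Nat.card X) := even_card_odd_principal hM h2G
  have hfix : Even (Nat.card (Function.fixedPoints f)) := by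
    rw [Nat.even_iff] at hX ⊢
    rw [← hX]
    exact hmod.symm
  have heq : Nat.card (Function.fixedPoints f) = Nat.card {χ : IrrCharacter G //
      χ ∈ principalBlock M G ∧
      Odd (charDegree (χ : G → ℂ)) ∧ ∀ g : G, (χ : G → ℂ) (g ^ k) = (χ : G → ℂ) g} := by
    refine Nat.card_congr ?_
    refine ⟨fun x => ⟨x.1.1, x.1.2.1, x.1.2.2, fun g => ?_⟩,
      fun y => ⟨⟨y.1, y.2.1, y.2.2.1⟩, ?_⟩, ?_, ?_⟩
    · have hx : f x.1 = x.1 := x.2
      have := congrArg (fun z : X => (z.1 : G → ℂ) g) hx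
      exact this
    · show f ⟨y.1, y.2.1, y.2.2.1⟩ = ⟨y.1, y.2.1, y.2.2.1⟩
      apply Subtype.ext
      apply Subtype.ext
      funext g
      exact y.2.2.2 g
    · intro x
      rfl
    · intro y
      rfl
  rw [← heq]
  exact hfix

end Cfsg.Agent.Lib.Helper2_GalParity
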