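import Mathlib
import Cfsg.Prelude.Def_OddOrderLocal

set_option autoImplicit false

namespace Cfsg.Agent.Lib.Helper2_Hall

open Cfsg

/-- `|N₁ ⊔ N₂|` divides `|N₁| * |N₂|` when `N₁` is normal. -/
theorem card_sup_dvd_mul {M : Type*} [Group M] (N₁ N₂ : Subgroup M) [N₁.Normal] :
    Nat.card ↥(N₁ ⊔ N₂) ∣ Nat.card N₁ * Nat.card N₂ := by
  have h1 := Subgroup.card_mul_index (N₁.subgroupOf (N₁ ⊔ N₂))
  have h2 : Nat.card (N₁.subgroupOf (N₁ ⊔ N₂)) = Nat.card N₁ :=
    Nat.card_congr (Subgroup.subgroupOfEquivOfLe (le_sup_left : N₁ ≤ N₁ ⊔ N₂)).toEquiv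
  have h3 : (N₁.subgroupOf (N₁ ⊔ N₂)).index = N₁.relIndex N₂ := by
    show N₁.relIndex (N₁ ⊔ N₂) = _
    exact Subgroup.relIndex_sup_left N₂ N₁
  rw [h2, h3] at h1
  rw [← h1]
  exact Nat.mul_dvd_mul_left _ (Subgroup.relIndex_dvd_card N₁ N₂)

/-- The join of two normal Hall subgroups is a Hall subgroup. -/
theorem coprime_sup {M : Type*} [Group M] (N₁ N₂ : Subgroup M) [N₁.Normal]
    (h₁ : (Nat.card N₁).Coprime N₁.index) (h₂ : (Nat.card N₂).Coprime N₂.index) :
    (Nat.card ↥(N₁ ⊔ N₂)).Coprime (N₁ ⊔ N₂).index := by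
  have hd1 : (N₁ ⊔ N₂).index ∣ N₁.index := Subgroup.index_dvd_of_le le_sup_left
  have hd2 : (N₁ ⊔ N₂).index ∣ N₂.index := Subgroup.index_dvd_of_le le_sup_right
  have c1 : (Nat.card N₁).Coprime (N₁ ⊔ N₂).index := Nat.Coprime.coprime_dvd_right hd1 h₁
  have c2 : (Nat.card N₂).Coprime (N₁ ⊔ N₂).index := Nat.Coprime.coprime_dvd_right hd2 h₂
  exact Nat.Coprime.coprime_dvd_left (card_sup_dvd_mul N₁ N₂) (Nat.Coprime.mul_left c1 c2)

/-- The join of a family of normal Hall subgroups of a finite group is a normal Hall subgroup. -/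
theorem coprime_sSup {M : Type*} [Group M] [Finite M] (𝒮 : Set (Subgroup M))
    (h : ∀ N ∈ 𝒮, N.Normal ∧ (Nat.card N).Coprime N.index) :
    (sSup 𝒮).Normal ∧ (Nat.card ↥(sSup 𝒮)).Coprime (sSup 𝒮).index := by
  classical
  have hfin : 𝒮.Finite := Set.toFinite 𝒮
  have hS : sSup 𝒮 = hfin.toFinset.sup id := by
    rw [Finset.sup_id_eq_sSup]
    simp
  rw [hS]
  apply Finset.sup_induction (p := fun N : Subgroup M => N.Normal ∧ (Nat.card ↥N).Coprime N.index)
  · refine ⟨inferInstance, ?_⟩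
    simp
  · rintro a₁ ⟨hn1, hc1⟩ a₂ ⟨hn2, hc2⟩
    exact ⟨inferInstance, coprime_sup a₁ a₂ hc1 hc2⟩
  · intro b hb
    rw [Set.Finite.mem_toFinset] at hb
    exact h b hb

/-- `M_F` has order coprime to its index. -/
theorem fittingHall_coprime (M : Type*) [Group M] [Finite M] :
    (Nat.card (Cfsg.fittingHall M)).Coprime (Cfsg.fittingHall M).index := by
  unfold Cfsg.fittingHall
  apply (coprime_sSup _ _).2
  intro N hN
  exact ⟨hN.1, hN.2.2⟩

/-- `M_F` (as a subgroup of `G`) is contained in `M`. -/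
theorem fittingHallOf_le {G : Type*} [Group G] (M : Subgroup G) : Cfsg.fittingHallOf M ≤ M := by
  unfold Cfsg.fittingHallOf
  rintro x ⟨y, _, rfl⟩
  exact y.2

theorem card_fittingHallOf {G : Type*} [Group G] (M : Subgroup G) :
    Nat.card (Cfsg.fittingHallOf M) = Nat.card (Cfsg.fittingHall M) := by
  unfold Cfsg.fittingHallOf
  exact Subgroup.card_map_of_injective M.subtype_injective

/-- `|M_F|` is coprime to `[M : M_F]`. -/
theorem fittingHallOf_coprime {G : Type*} [Group G] (M : Subgroup G) [Finite M] :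
    (Nat.card (Cfsg.fittingHallOf M)).Coprime ((Cfsg.fittingHallOf M).relIndex M) := by
  rw [card_fittingHallOf]
  have h := fittingHall_coprime M
  have h2 : (Cfsg.fittingHallOf M).relIndex M = (Cfsg.fittingHall M).index := by
    unfold Cfsg.fittingHallOf Subgroup.relIndex
    congr 1
    ext x
    rw [Subgroup.mem_subgroupOf]
    constructor
    · rintro ⟨y, hy, hyx⟩
      have : y = x := Subtype.ext hyx
      rwa [← this]
    · intro hx
      exact ⟨x, hx, rfl⟩
  rw [h2]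
  exact h

/-- A subgroup meeting a normal subgroup trivially has order dividing its index. -/
theorem card_dvd_index_of_disjoint_normal {M : Type*} [Group M] (H U : Subgroup M) [H.Normal]
    (hd : H ⊓ U = ⊥) : Nat.card U ∣ H.index := by
  have h1 := Subgroup.relIndex_dvd_index_of_normal H U
  have h2 : H.relIndex U = Nat.card U := by
    unfold Subgroup.relIndex
    have : H.subgroupOf U = ⊥ := by
      rw [Subgroup.subgroupOf_eq_bot, disjoint_iff]
      exact hd
    rw [this, Subgroup.index_bot]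
  rwa [h2] at h1

/-- A subgroup of `M` meeting `M_F` trivially has order coprime to `|M_F|`. -/
theorem coprime_card_of_disjoint_fittingHallOf {G : Type*} [Group G] (M U : Subgroup G) [Finite M]
    (hU : U ≤ M) (hdisj : Cfsg.fittingHallOf M ⊓ U = ⊥) :
    (Nat.card (Cfsg.fittingHallOf M)).Coprime (Nat.card U) := by
  rw [card_fittingHallOf]
  have h := fittingHall_coprime M
  apply Nat.Coprime.coprime_dvd_right _ h
  have hUM : Nat.card (U.subgroupOf M) = Nat.card U :=
    Nat.card_congr (Subgroup.subgroupOfEquivOfLe hU).toEquiv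
  rw [← hUM]
  apply card_dvd_index_of_disjoint_normal
  rw [eq_bot_iff]
  intro x hx
  obtain ⟨hx1, hx2⟩ := Subgroup.mem_inf.mp hx
  rw [Subgroup.mem_subgroupOf] at hx2
  have : (x : G) ∈ Cfsg.fittingHallOf M ⊓ U := by
    refine Subgroup.mem_inf.mpr ⟨?_, hx2⟩
    unfold Cfsg.fittingHallOf
    exact ⟨x, hx1, rfl⟩
  rw [hdisj, Subgroup.mem_bot] at this
  rw [Subgroup.mem_bot]
  exact Subtype.ext this

/-- Cardinality of an internal complement decomposition. -/
theorem card_of_isComplIn {G : Type*} [Group G] (A B M : Subgroup G) (h : Cfsg.IsComplIn A B M) :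
    Nat.card M = Nat.card A * Nat.card B := by
  obtain ⟨hA, hB, hdisj, hdec⟩ := h
  rw [← Nat.card_prod]
  symm
  apply Nat.card_congr
  refine Equiv.ofBijective
    (fun ab : A × B => (⟨ab.1.1 * ab.2.1, mul_mem (hA ab.1.2) (hB ab.2.2)⟩ : ↥M)) ⟨?_, ?_⟩
  · rintro ⟨⟨a, ha⟩, ⟨b, hb⟩⟩ ⟨⟨a', ha'⟩, ⟨b', hb'⟩⟩ h
    have h1 : a * b = a' * b' := congrArg Subtype.val h
    have h2 : a'⁻¹ * a = b' * b⁻¹ := by
      calc a'⁻¹ * a = a'⁻¹ * (a * b) * b⁻¹ := by group
        _ = a'⁻¹ * (a' * b') * b⁻¹ := by rw [h1]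
        _ = b' * b⁻¹ := by group
    have h3 : a'⁻¹ * a ∈ A ⊓ B :=
      Subgroup.mem_inf.mpr ⟨A.mul_mem (A.inv_mem ha') ha, by rw [h2]; exact B.mul_mem hb' (B.inv_mem hb)⟩
    rw [hdisj, Subgroup.mem_bot] at h3
    have h4 : a = a' := by
      have : a = a' * (a'⁻¹ * a) := by group
      rw [this, h3, mul_one]
    have h5 : b = b' := by
      rw [h4] at h1
      exact mul_left_cancel h1
    subst h4; subst h5; rfl
  · rintro ⟨x, hx⟩
    obtain ⟨a, ha, b, hb, rfl⟩ := hdec x hx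
    exact ⟨⟨⟨a, ha⟩, ⟨b, hb⟩⟩, rfl⟩

/-- `card M = relIndex * card` for a subgroup `W ≤ M`. -/
theorem relIndex_mul_card_of_le {G : Type*} [Group G] (W M : Subgroup G) (h : W ≤ M) :
    W.relIndex M * Nat.card W = Nat.card M := by
  have h1 := Subgroup.card_mul_index (W.subgroupOf M)
  have h2 : Nat.card (W.subgroupOf M) = Nat.card W :=
    Nat.card_congr (Subgroup.subgroupOfEquivOfLe h).toEquiv
  rw [h2] at h1
  rw [mul_comm]
  exact h1

/-- A subgroup `U ≤ M` normalized by `M`, nilpotent, with order coprime to its index in `M`, lies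
in `M_F`. -/
theorem le_fittingHallOf {G : Type*} [Group G] (M U : Subgroup G) (hUM : U ≤ M)
    (hnorm : M ≤ Subgroup.normalizer (U : Set G)) (hnil : Group.IsNilpotent U)
    (hcop : (Nat.card U).Coprime (U.relIndex M)) : U ≤ Cfsg.fittingHallOf M := by
  have hle : U.subgroupOf M ≤ Cfsg.fittingHall M := by
    unfold Cfsg.fittingHall
    apply le_sSup
    refine ⟨?_, ?_, ?_⟩
    · exact (Subgroup.normal_subgroupOf_iff_le_normalizer hUM).mpr hnorm
    · exact Group.nilpotent_of_mulEquiv (Subgroup.subgroupOfEquivOfLe hUM).symm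
    · have h2 : Nat.card (U.subgroupOf M) = Nat.card U :=
        Nat.card_congr (Subgroup.subgroupOfEquivOfLe hUM).toEquiv
      rw [h2]
      exact hcop
  intro u hu
  unfold Cfsg.fittingHallOf
  exact ⟨⟨u, hUM hu⟩, hle (by rw [Subgroup.mem_subgroupOf]; exact hu), rfl⟩

end Cfsg.Agent.Lib.Helper2_Hall
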