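import Mathlib
import Cfsg.Agent.Lib.Helper1_Card
import Cfsg.Agent.Lib.Helper1_MinNormal
import Cfsg.Agent.S0144

set_option autoImplicit false

/-!
# Tools for Hall's converse and related solvability criteria
-/

namespace Cfsg.Agent.Lib.Helper2_HallConverse

open scoped Pointwise
open Cfsg.Agent.Lib.Helper1_Card Cfsg.Agent.Lib.Helper1_MinNormal

universe u

section Tools

variable {G : Type u} [Group G]

theorem exists_minimal_normal [Finite G] [Nontrivial G] :
    ∃ N : Subgroup G, N.Normal ∧ N ≠ ⊥ ∧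
      ∀ K : Subgroup G, K.Normal → K ≤ N → K = ⊥ ∨ K = N := by
  obtain ⟨K, hK⟩ := exists_minimal_of_wellFoundedLT
    (fun K : Subgroup G => K.Normal ∧ K ≠ ⊥) ⟨⊤, inferInstance, top_ne_bot⟩
  refine ⟨K, hK.1.1, hK.1.2, ?_⟩
  intro J hJn hJK
  by_cases hJ : J = ⊥
  · exact Or.inl hJ
  · right
    exact le_antisymm hJK (hK.2 ⟨hJn, hJ⟩ hJK)

/-- Subgroups of coprime index: `[H : H ∩ K] = [G : K]`. -/
theorem relIndex_eq_index_of_coprime [Finite G] (H K : Subgroup G)
    (h : Nat.Coprime H.index K.index) : K.relIndex H = K.index := by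
  have h1 : K.relIndex H * H.index = (H ⊓ K).index := by
    rw [← Subgroup.inf_relIndex_left H K]
    exact Subgroup.relIndex_mul_index inf_le_left
  have h2 : H.relIndex K * K.index = (H ⊓ K).index := by
    rw [← Subgroup.inf_relIndex_right H K]
    exact Subgroup.relIndex_mul_index inf_le_right
  have h3 : K.index ∣ K.relIndex H := by
    have : K.index ∣ K.relIndex H * H.index := by
      rw [h1, ← h2]; exact dvd_mul_left _ _
    exact (Nat.Coprime.dvd_of_dvd_mul_right h.symm this)
  have h4 : K.relIndex H ≤ K.index := by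
    have h5 := Subgroup.index_inf_le (H := H) (K := K)
    rw [← h1] at h5
    have hpos : 0 < H.index := Nat.pos_of_ne_zero Subgroup.index_ne_zero_of_finite
    rw [mul_comm] at h5
    exact Nat.le_of_mul_le_mul_left h5 hpos
  have hpos : 0 < K.relIndex H := by
    apply Nat.pos_of_ne_zero
    show (K.subgroupOf H).index ≠ 0
    exact Subgroup.index_ne_zero_of_finite
  exact le_antisymm h4 (Nat.le_of_dvd hpos h3)

/-- Subgroups of coprime index factorize the group. -/
theorem exists_mul_of_coprime_index [Finite G] (H K : Subgroup G)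
    (h : Nat.Coprime H.index K.index) (g : G) : ∃ x ∈ H, ∃ y ∈ K, g = x * y := by
  have h1 := card_mul_eq_card_mul_relIndex H K
  rw [relIndex_eq_index_of_coprime H K h, Subgroup.card_mul_index] at h1
  have h2 : ((H : Set G) * (K : Set G) : Set G) = Set.univ := by
    rw [Set.eq_univ_iff_ncard, ← Nat.card_coe_set_eq]
    exact h1
  have : g ∈ ((H : Set G) * (K : Set G) : Set G) := by rw [h2]; trivial
  obtain ⟨x, hx, y, hy, rfl⟩ := Set.mem_mul.mp this
  exact ⟨x, hx, y, hy, rfl⟩

/-- A normal subgroup whose order is coprime to the index of `K` is contained in `K`. -/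
theorem le_of_coprime_card_index [Finite G] (N K : Subgroup G) [N.Normal]
    (h : Nat.Coprime (Nat.card N) K.index) : N ≤ K := by
  have h1 := card_sup_mul_card_inf_of_normal K N
  obtain ⟨t, ht⟩ := Subgroup.card_dvd_of_le (le_sup_left : K ≤ K ⊔ N)
  have hKpos : 0 < Nat.card K := Nat.card_pos
  have h2 : t * Nat.card (K ⊓ N : Subgroup G) = Nat.card N := by
    rw [ht] at h1
    have : Nat.card K * (t * Nat.card (K ⊓ N : Subgroup G)) = Nat.card K * Nat.card N := by
      rw [← h1]; ring
    exact Nat.eq_of_mul_eq_mul_left hKpos this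
  have h3 : t ∣ Nat.card N := ⟨_, h2.symm⟩
  have h4 : t ∣ K.index := by
    have e1 := Subgroup.card_mul_index K
    have e2 := Subgroup.card_mul_index (K ⊔ N)
    rw [ht, ← e1] at e2
    have : Nat.card K * (t * (K ⊔ N).index) = Nat.card K * K.index := by
      rw [← e2]; ring
    have := Nat.eq_of_mul_eq_mul_left hKpos this
    exact ⟨_, this.symm⟩
  have h5 : t = 1 := Nat.eq_one_of_dvd_coprimes h h3 h4
  rw [h5, mul_one] at ht
  have h6 : K ⊔ N = K := by
    symm
    exact Subgroup.eq_of_le_of_card_ge le_sup_left ht.le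
  rw [← h6]
  exact le_sup_right

/-- If `G = K H`, `H` normalizes `N` and `N ≤ K`, then the normal closure of `N` lies in `K`. -/
theorem normalClosure_le_of_factor (N K H : Subgroup G) (hNK : N ≤ K)
    (hnorm : ∀ h ∈ H, ∀ n ∈ N, h * n * h⁻¹ ∈ N)
    (hfac : ∀ g : G, ∃ k ∈ K, ∃ h ∈ H, g = k * h) :
    Subgroup.normalClosure (N : Set G) ≤ K := by
  unfold Subgroup.normalClosure
  rw [Subgroup.closure_le]
  intro x hx
  rw [Group.mem_conjugatesOfSet_iff] at hx
  obtain ⟨a, ha, hc⟩ := hx
  obtain ⟨g, hg⟩ := isConj_iff.mp hc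
  obtain ⟨k, hk, h, hh, rfl⟩ := hfac g
  have h1 : h * a * h⁻¹ ∈ N := hnorm h hh a ha
  have h2 : x = k * (h * a * h⁻¹) * k⁻¹ := by
    rw [← hg]; group
  rw [h2]
  exact K.mul_mem (K.mul_mem hk (hNK h1)) (K.inv_mem hk)

/-- Extension criterion for solvability through a solvable normal subgroup. -/
theorem solvable_of_normal (M : Subgroup G) [M.Normal] (h1 : Group.IsSolvable M)
    (h2 : Group.IsSolvable (G ⧸ M)) : Group.IsSolvable G := by
  apply Group.isSolvable_of_ker_le_range M.subtype (QuotientGroup.mk' M)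
  rw [QuotientGroup.ker_mk', Subgroup.range_subtype]

theorem solvable_of_le {A B : Subgroup G} (hAB : A ≤ B) (hB : Group.IsSolvable B) :
    Group.IsSolvable A :=
  Group.isSolvable_of_isSolvable_injective (Subgroup.inclusion_injective hAB)

theorem card_quotient_lt [Finite G] (M : Subgroup G) (hM : M ≠ ⊥) :
    Nat.card (G ⧸ M) < Nat.card G := by
  rw [← Subgroup.index_eq_card]
  have h1 := Subgroup.card_mul_index M
  have h2 : 1 < Nat.card M := by
    rw [Subgroup.one_lt_card_iff_ne_bot]; exact hM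
  have hipos : 0 < M.index := Nat.pos_of_ne_zero Subgroup.index_ne_zero_of_finite
  nlinarith

end Tools


section PCompl

theorem eq_two_prime_pow (n p q : ℕ) (hn : n ≠ 0) (hpq : p ≠ q)
    (h : ∀ r : ℕ, r.Prime → r ∣ n → r = p ∨ r = q) :
    n = p ^ n.factorization p * q ^ n.factorization q := by
  have h1 := Nat.prod_factorization_pow_eq_self hn
  have hsub : n.factorization.support ⊆ {p, q} := by
    intro r hr
    rw [Nat.support_factorization, Nat.mem_primeFactors] at hr
    rcases h r hr.1 hr.2.1 with h | h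
    · rw [h]; simp
    · rw [h]; simp
  rw [Finsupp.prod_of_support_subset _ hsub _ (fun i _ => pow_zero i), Finset.prod_pair hpq] at h1
  exact h1.symm

variable {G : Type u} [Group G] [Finite G]

/-- `H` is a `p`-complement: its index is a power of `p` and its order is prime to `p`. -/
def IsPCompl (p : ℕ) (H : Subgroup G) : Prop := (∃ j, H.index = p ^ j) ∧ ¬ p ∣ Nat.card H

theorem isPCompl_of_index (p : ℕ) (hp : p.Prime) (H : Subgroup G)
    (h : H.index = p ^ (Nat.card G).factorization p) : IsPCompl p H := by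
  refine ⟨⟨_, h⟩, ?_⟩
  have h1 := Subgroup.card_mul_index H
  rw [h] at h1
  have hG : Nat.card G ≠ 0 := Nat.card_pos.ne'
  have : Nat.card H = Nat.card G / p ^ (Nat.card G).factorization p :=
    (Nat.div_eq_of_eq_mul_left (pow_pos hp.pos _) h1.symm).symm
  rw [this]
  exact Nat.not_dvd_ordCompl hp hG

/-- `G` has a `p`-complement for every prime `p`. -/
def HasCompl (G : Type u) [Group G] : Prop :=
  ∀ p : ℕ, p.Prime → ∃ H : Subgroup G, IsPCompl p H

theorem card_subgroupOf_dvd (K H : Subgroup G) : Nat.card (K.subgroupOf H) ∣ Nat.card K := by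
  have h2 : Nat.card (K.subgroupOf H) = Nat.card (K ⊓ H : Subgroup G) := by
    rw [← Subgroup.inf_subgroupOf_right K H]
    exact Nat.card_congr (Subgroup.subgroupOfEquivOfLe (inf_le_right : K ⊓ H ≤ H)).toEquiv
  rw [h2]
  exact Subgroup.card_dvd_of_le inf_le_left

theorem hasCompl_subgroup (hG : HasCompl G) {p : ℕ} (hp : p.Prime) {H : Subgroup G}
    (hH : IsPCompl p H) : HasCompl H := by
  intro r hr
  by_cases hrp : r = p
  · subst hrp
    refine ⟨⊤, ⟨0, by simp⟩, ?_⟩
    rw [Subgroup.card_top]; exact hH.2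
  · obtain ⟨K, ⟨j, hj⟩, hK2⟩ := hG r hr
    obtain ⟨i, hi⟩ := hH.1
    have hcop : Nat.Coprime H.index K.index := by
      rw [hi, hj]
      exact Nat.Coprime.pow _ _ ((Nat.coprime_primes hp hr).mpr (Ne.symm hrp))
    refine ⟨K.subgroupOf H, ⟨j, ?_⟩, ?_⟩
    · show K.relIndex H = r ^ j
      rw [relIndex_eq_index_of_coprime H K hcop, hj]
    · intro hdvd
      exact hK2 (hdvd.trans (card_subgroupOf_dvd K H))

theorem hasCompl_quotient (hG : HasCompl G) (M : Subgroup G) [M.Normal] : HasCompl (G ⧸ M) := by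
  intro s hs
  obtain ⟨K, ⟨j, hj⟩, hK2⟩ := hG s hs
  refine ⟨K.map (QuotientGroup.mk' M), ?_, ?_⟩
  · have := Subgroup.index_map_dvd K (QuotientGroup.mk'_surjective M)
    rw [hj] at this
    obtain ⟨j', -, hj'⟩ := (Nat.dvd_prime_pow hs).mp this
    exact ⟨j', hj'⟩
  · intro hdvd
    exact hK2 (hdvd.trans (Subgroup.card_map_dvd K _))

theorem card_lt_of_isPCompl {p : ℕ} (hpd : p ∣ Nat.card G) {H : Subgroup G}
    (hH : IsPCompl p H) : Nat.card H < Nat.card G := by
  have hne : Nat.card H ≠ Nat.card G := fun h => hH.2 (h ▸ hpd)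
  exact lt_of_le_of_ne (Subgroup.card_le_card_group H) hne

end PCompl

/-- **Hall's converse**: a finite group with `p`-complements for all primes `p` is solvable. -/
theorem solvable_of_hasCompl : ∀ n : ℕ, ∀ (G : Type u) [Group G] [Finite G],
    Nat.card G = n → HasCompl G → Group.IsSolvable G := by
  intro n
  induction n using Nat.strong_induction_on with
  | _ n ih =>
  intro G _ _ hcard hG
  rcases subsingleton_or_nontrivial G with hss | hnt
  · infer_instance
  have h1 : 1 < Nat.card G := Finite.one_lt_card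
  obtain ⟨p, hp, hpd⟩ := Nat.exists_prime_and_dvd h1.ne'
  obtain ⟨H, hH⟩ := hG p hp
  obtain ⟨i, hi⟩ := hH.1
  have hHlt : Nat.card H < Nat.card G := card_lt_of_isPCompl hpd hH
  have hHsolv : Group.IsSolvable H :=
    ih _ (hcard ▸ hHlt) H rfl (hasCompl_subgroup hG hp hH)
  by_cases hHbot : H = ⊥
  · have : Nat.card G = p ^ i * p ^ 0 := by
      rw [← Subgroup.card_mul_index H, hi, hHbot, Subgroup.card_bot]; ring
    exact Cfsg.Agent.S0144.result p p i 0 hp hp this
  haveI : Nontrivial H := (Subgroup.nontrivial_iff_ne_bot H).mpr hHbot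
  obtain ⟨N, hNn, hNbot, hNmin⟩ := exists_minimal_normal (G := H)
  haveI := hNn
  obtain ⟨q, d, hq, hd, hNcard⟩ := exists_card_eq_prime_pow N hNbot hNmin
  have hqp : q ≠ p := by
    intro h
    apply hH.2
    have : q ∣ Nat.card N := by rw [hNcard]; exact dvd_pow_self q hd.ne'
    rw [← h]
    exact this.trans (Subgroup.card_subgroup_dvd_card N)
  by_cases h3 : ∃ r : ℕ, r.Prime ∧ r ∣ Nat.card G ∧ r ≠ p ∧ r ≠ q
  · obtain ⟨r, hr, hrd, hrp, hrq⟩ := h3
    obtain ⟨K, hK⟩ := hG r hr
    obtain ⟨j, hj⟩ := hK.1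
    have hKlt : Nat.card K < Nat.card G := card_lt_of_isPCompl hrd hK
    have hKsolv : Group.IsSolvable K :=
      ih _ (hcard ▸ hKlt) K rfl (hasCompl_subgroup hG hr hK)
    have hcop : Nat.Coprime H.index K.index := by
      rw [hi, hj]
      exact Nat.Coprime.pow _ _ ((Nat.coprime_primes hp hr).mpr (Ne.symm hrp))
    have hNK : N ≤ K.subgroupOf H := by
      apply le_of_coprime_card_index
      show Nat.Coprime (Nat.card N) (K.relIndex H)
      rw [relIndex_eq_index_of_coprime H K hcop, hj, hNcard]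
      exact Nat.Coprime.pow _ _ ((Nat.coprime_primes hq hr).mpr (Ne.symm hrq))
    set NG : Subgroup G := N.map H.subtype with hNG
    have hNGK : NG ≤ K := by
      rintro _ ⟨x, hx, rfl⟩
      exact Subgroup.mem_subgroupOf.mp (hNK hx)
    have hnorm : ∀ h ∈ H, ∀ n ∈ NG, h * n * h⁻¹ ∈ NG := by
      rintro h hh _ ⟨x, hx, rfl⟩
      exact ⟨⟨h, hh⟩ * x * ⟨h, hh⟩⁻¹, hNn.conj_mem x hx ⟨h, hh⟩, by simp⟩
    have hfac : ∀ g : G, ∃ k ∈ K, ∃ h ∈ H, g = k * h := by
      intro g
      obtain ⟨x, hx, y, hy, hg⟩ := exists_mul_of_coprime_index K H hcop.symm g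
      exact ⟨x, hx, y, hy, hg⟩
    set M := Subgroup.normalClosure (NG : Set G) with hM
    have hMK : M ≤ K := normalClosure_le_of_factor NG K H hNGK hnorm hfac
    have hMbot : M ≠ ⊥ := by
      intro h
      apply hNbot
      have h2 : NG ≤ M := Subgroup.le_normalClosure
      rw [h, le_bot_iff, hNG, Subgroup.map_eq_bot_iff_of_injective _
        (Subgroup.subtype_injective H)] at h2
      exact h2
    haveI : M.Normal := Subgroup.normalClosure_normal
    have hMsolv : Group.IsSolvable M := solvable_of_le hMK hKsolv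
    have hQsolv : Group.IsSolvable (G ⧸ M) :=
      ih _ (hcard ▸ card_quotient_lt M hMbot) (G ⧸ M) rfl (hasCompl_quotient hG M)
    exact solvable_of_normal M hMsolv hQsolv
  · push Not at h3
    have hform := eq_two_prime_pow (Nat.card G) p q Nat.card_pos.ne' (Ne.symm hqp)
      (fun r hr hrd => by
        by_contra hcon
        push Not at hcon
        exact hcon.2 (h3 r hr hrd hcon.1))
    exact Cfsg.Agent.S0144.result p q _ _ hp hq hform

end Cfsg.Agent.Lib.Helper2_HallConverse
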