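import Mathlib
import Cfsg.Prelude.Def_Characters
import Cfsg.Prelude.Def_Blocks
import Cfsg.Prelude.Def_BlockRank
import Cfsg.Prelude.Def_BlockLocal
import Cfsg.Prelude.Def_BrauerPairs
import Cfsg.Agent.Lib.Helper2_ClassFn
import Cfsg.Agent.Lib.Helper2_CharBasic
import Cfsg.Agent.Lib.Helper2_CharOrtho
import Cfsg.Agent.Lib.Helper2_Clifford
import Cfsg.Agent.Lib.Helper2_CharMore
import Cfsg.Agent.Lib.Helper2_CharDeg
import Cfsg.Agent.Lib.Helper2_CharInd
import Cfsg.Agent.Lib.Helper2_CharExtra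
import Cfsg.Agent.Lib.Helper2_CharInt
import Cfsg.Agent.Lib.Helper2_CharValues
import Cfsg.Agent.Lib.Helper2_CharSum
import Cfsg.Agent.Lib.Helper2_CharComplete
import Cfsg.Agent.Lib.Helper2_CharTable
import Cfsg.Agent.Lib.Helper2_CharCentral
import Cfsg.Agent.Lib.Helper2_ModM
import Cfsg.Agent.Lib.Helper2_Blocks
import Cfsg.Agent.Lib.Helper2_BlockOrtho
import Cfsg.Agent.Lib.Helper2_BlockMore
import Cfsg.Agent.Lib.Helper2_DefectGroup
import Cfsg.Agent.Lib.Helper2_DefectPCore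
import Cfsg.Agent.Lib.Helper2_MinMax
import Cfsg.Agent.Lib.Helper2_InducedBlock
import Cfsg.Agent.Lib.Helper2_BrauerMap
import Cfsg.Agent.Lib.Helper2_InducedDefect
import Cfsg.Agent.Lib.Helper2_BrauerFirst
import Cfsg.Agent.Lib.Helper2_BrauerConverse
import Cfsg.Agent.Lib.Helper2_SylowConj
import Cfsg.Agent.Lib.Helper2_BlockCover
import Cfsg.Agent.Lib.Helper2_BlockConj
import Cfsg.Agent.Lib.Helper2_FirstMain
import Cfsg.Agent.Lib.Helper2_BlockNormal
import Cfsg.Agent.Lib.Helper2_BlockCount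
import Cfsg.Agent.Lib.Helper2_BlockCount2
import Cfsg.Agent.Lib.Helper2_BlockKer
import Cfsg.Agent.Lib.Helper2_PRegCount
import Cfsg.Agent.Lib.Helper2_ExtFirstMain
import Cfsg.Agent.Lib.Helper2_ThirdMain
import Cfsg.Agent.Lib.Helper2_Fong
import Cfsg.Agent.Lib.Helper2_BrauerPairs
import Cfsg.Agent.Lib.Helper2_BrauerInv
import Cfsg.Agent.Lib.Helper2_Conj
import Cfsg.Agent.Lib.Helper2_BrauerChain
import Cfsg.Agent.Lib.Helper2_BrauerPrincipal
import Cfsg.Agent.Lib.Helper2_BrauerMax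
import Cfsg.Agent.Lib.Helper2_BrauerConjMax
import Cfsg.Agent.Lib.Helper2_BrauerLocal
import Cfsg.Agent.Lib.Helper2_BrauerStab
import Cfsg.Agent.Lib.Helper2_BlockTrace
import Cfsg.Agent.Lib.Helper2_BlockFusion
import Cfsg.Agent.Lib.Helper2_AbelianDefect
import Cfsg.Agent.Lib.Helper2_AbelianNilpotent
import Cfsg.Agent.Lib.Helper2_CentricNormal
import Cfsg.Agent.Lib.Helper2_InertialIndex
import Cfsg.Agent.Lib.Helper2_Ito
import Cfsg.Agent.Lib.Helper2_CentralDefect
import Cfsg.Agent.Lib.Helper2_CentralDefect2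


set_option autoImplicit false

/-!
# Height-zero characters with large stabilizer
-/

namespace Cfsg.Agent.Lib.Helper2_HeightZeroStab

open Cfsg
open Cfsg.Agent.Lib.Helper2_ClassFn
open Cfsg.Agent.Lib.Helper2_CharBasic
open Cfsg.Agent.Lib.Helper2_CharOrtho
open Cfsg.Agent.Lib.Helper2_Clifford
open Cfsg.Agent.Lib.Helper2_CharMore
open Cfsg.Agent.Lib.Helper2_CharDeg
open Cfsg.Agent.Lib.Helper2_CharInd
open Cfsg.Agent.Lib.Helper2_CharExtra
open Cfsg.Agent.Lib.Helper2_CharValues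
open Cfsg.Agent.Lib.Helper2_CharSum
open Cfsg.Agent.Lib.Helper2_CharComplete
open Cfsg.Agent.Lib.Helper2_CharTable
open Cfsg.Agent.Lib.Helper2_CharCentral
open Cfsg.Agent.Lib.Helper2_ModM
open Cfsg.Agent.Lib.Helper2_Blocks
open Cfsg.Agent.Lib.Helper2_BlockOrtho
open Cfsg.Agent.Lib.Helper2_BlockMore
open Cfsg.Agent.Lib.Helper2_DefectGroup
open Cfsg.Agent.Lib.Helper2_DefectPCore
open Cfsg.Agent.Lib.Helper2_MinMax
open Cfsg.Agent.Lib.Helper2_InducedBlock
open Cfsg.Agent.Lib.Helper2_BrauerMap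
open Cfsg.Agent.Lib.Helper2_InducedDefect
open Cfsg.Agent.Lib.Helper2_BrauerFirst
open Cfsg.Agent.Lib.Helper2_BrauerConverse
open Cfsg.Agent.Lib.Helper2_SylowConj
open Cfsg.Agent.Lib.Helper2_BlockCover
open Cfsg.Agent.Lib.Helper2_BlockConj
open Cfsg.Agent.Lib.Helper2_FirstMain
open Cfsg.Agent.Lib.Helper2_BlockNormal
open Cfsg.Agent.Lib.Helper2_BlockCount
open Cfsg.Agent.Lib.Helper2_BlockCount2
open Cfsg.Agent.Lib.Helper2_BlockKer
open Cfsg.Agent.Lib.Helper2_PRegCount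
open Cfsg.Agent.Lib.Helper2_ExtFirstMain
open Cfsg.Agent.Lib.Helper2_ThirdMain
open Cfsg.Agent.Lib.Helper2_Fong
open Cfsg.Agent.Lib.Helper2_BrauerPairs
open Cfsg.Agent.Lib.Helper2_BrauerInv
open Cfsg.Agent.Lib.Helper2_BrauerChain
open Cfsg.Agent.Lib.Helper2_BrauerPrincipal
open Cfsg.Agent.Lib.Helper2_BrauerMax
open Cfsg.Agent.Lib.Helper2_BrauerConjMax
open Cfsg.Agent.Lib.Helper2_BrauerLocal
open Cfsg.Agent.Lib.Helper2_BrauerStab
open Cfsg.Agent.Lib.Helper2_BlockTrace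
open Cfsg.Agent.Lib.Helper2_BlockFusion
open Cfsg.Agent.Lib.Helper2_AbelianDefect
open Cfsg.Agent.Lib.Helper2_AbelianNilpotent
open Cfsg.Agent.Lib.Helper2_CentricNormal
open Cfsg.Agent.Lib.Helper2_InertialIndex
open Cfsg.Agent.Lib.Helper2_Ito
open Cfsg.Agent.Lib.Helper2_CliffordCorr
open scoped ComplexConjugate

universe u


section Main

variable {G : Type u} [Group G] [Fintype G] {M : Ideal AlgInt}

theorem exists_defectGroup' {p : ℕ} [hp : Fact p.Prime] (hMm : M.IsMaximal)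
    (B : Set (IrrCharacter G)) (hB : IsPBlock M B) :
    ∃ D : Subgroup G, IsDefectGroup p M B D := by
  obtain ⟨χ₀, rfl⟩ := hB
  obtain ⟨g, hg⟩ := exists_defectClass hMm χ₀
  exact ⟨_, g, hg, default, rfl⟩

set_option maxHeartbeats 1600000 in
theorem height_zero_stab {p : ℕ} [hp : Fact p.Prime] (hM : IsPModular p M)
    (H : Subgroup G) [hH : H.Normal] (b : Set (IrrCharacter H)) (hb : IsPBlock M b)
    (T : Subgroup G)
    (hT : ∀ g : G, g ∈ T ↔ ∀ θ ∈ b, ∀ θ' : IrrCharacter H,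
      (∀ h h' : H, (h' : G) = g * h * g⁻¹ → (θ' : H → ℂ) h' = (θ : H → ℂ) h) → θ' ∈ b) :
    ∃ θ ∈ b, blockHeight p b (θ : H → ℂ) = 0 ∧ ∃ S : Subgroup G, S ≤ T ∧
      (∀ g : G, g ∈ S ↔ (g ∈ T ∧ ∀ h h' : H, (h' : G) = g * h * g⁻¹ →
        (θ : H → ℂ) h' = (θ : H → ℂ) h)) ∧ ¬ p ∣ S.relIndex T := by
  classical
  have hMm := hM.2.1
  haveI : Fintype H := Fintype.ofFinite _
  haveI : Fintype T := Fintype.ofFinite _
  -- A
  have hHT : H ≤ T := by
    intro x hx
    rw [hT]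
    intro θ hθ θ' hθ'
    have : θ' = θ := by
      apply Subtype.ext
      funext h
      have hcf := IsCharacter.isClassFunction (IsIrrCharacter.isCharacter θ.2)
      have h1 := hθ' ⟨x⁻¹ * h * x, H.mul_mem (H.mul_mem (H.inv_mem hx) h.2) hx⟩ h
        (by simp [mul_assoc])
      rw [h1]
      have h2 := hcf h ⟨x⁻¹, H.inv_mem hx⟩
      rw [← h2]
      exact congrArg (θ : H → ℂ) (Subtype.ext (by simp))
    rw [this]; exact hθ
  -- B
  set H' : Subgroup T := H.subgroupOf T with hH'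
  haveI : H'.Normal := Subgroup.Normal.subgroupOf hH T
  haveI : Fintype H' := Fintype.ofFinite _
  let ε : H' ≃* H := Subgroup.subgroupOfEquivOfLe hHT
  have hε : ∀ n : H', ((ε n : H) : G) = ((n : T) : G) := fun n => rfl
  set b' : Set (IrrCharacter H') := trIrr ε '' b with hb'def
  have hb' : IsPBlock M b' := by
    obtain ⟨ξ, rfl⟩ := hb
    exact ⟨trIrr ε ξ, (blockOf_trIrr ε ξ).symm⟩
  have hinv : Invariant H' b' := by
    intro t θ'' hθ'' φ hφ
    obtain ⟨θ, hθ, rfl⟩ := hθ''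
    refine ⟨trIrr ε.symm φ, ?_, trIrr_trIrr_symm ε φ⟩
    refine (hT ((t : G))⁻¹).mp (T.inv_mem t.2) θ hθ _ (fun h h' hh' => ?_)
    rw [trIrr_apply, hφ (ε.symm h'), trIrr_apply]
    refine congrArg (θ : H → ℂ) (Subtype.ext ?_)
    rw [hε]
    show (t : G) * (((ε.symm h' : H') : T) : G) * ((t⁻¹ : T) : G) = (h : G)
    have e1 : (((ε.symm h' : H') : T) : G) = (h' : G) := by
      rw [← hε, MulEquiv.apply_symm_apply]
    rw [e1, hh']
    simp [mul_assoc]
  -- C
  obtain ⟨ξ₀, hξ₀⟩ : ∃ ξ₀, ξ₀ ∈ b := by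
    obtain ⟨ξ, rfl⟩ := hb
    exact ⟨ξ, self_mem_blockOf hMm ξ⟩
  let Cov : Set (IrrCharacter T) → Prop := fun B => IsPBlock M B ∧
    ∃ χ ∈ B, ∃ θ ∈ b', classInner (fun n : H' => (χ : T → ℂ) n) (θ : H' → ℂ) ≠ 0
  have hne : ∃ B, Cov B := by
    obtain ⟨χ, hχ⟩ := exists_over H' (trIrr ε ξ₀).2
    exact ⟨blockOf M (χ : T → ℂ), ⟨χ, rfl⟩, χ, self_mem_blockOf hMm χ, trIrr ε ξ₀,
      ⟨ξ₀, hξ₀, rfl⟩, hχ⟩
  set SS : Set ℕ := {d | ∃ B, Cov B ∧ blockDefect p B = d} with hSS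
  have hSSne : SS.Nonempty := by
    obtain ⟨B, hB⟩ := hne
    exact ⟨_, B, hB, rfl⟩
  have hSSb : BddAbove SS := ⟨(Nat.card T).factorization p, by
    rintro d ⟨B, _, rfl⟩
    exact Nat.sub_le _ _⟩
  obtain ⟨B, hCov, hd⟩ := Nat.sSup_mem hSSne hSSb
  have hmax : ∀ B' : Set (IrrCharacter T), IsPBlock M B' →
      (∃ χ ∈ B', ∃ θ ∈ b', classInner (fun n : H' => (χ : T → ℂ) n) (θ : H' → ℂ) ≠ 0) →
      blockDefect p B' ≤ blockDefect p B := by
    intro B' h1 h2
    rw [hd]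
    exact le_csSup hSSb ⟨B', ⟨h1, h2⟩, rfl⟩
  -- D
  obtain ⟨P, hP⟩ := exists_defectGroup' (p := p) hMm B hCov.1
  obtain ⟨_, _, hdef⟩ := fong H' hM b' hb' hinv B hCov.1 hCov.2 hmax P hP
  -- E
  set SB := (fun χ : IrrCharacter T => (charDegree (χ : T → ℂ)).factorization p) '' B with hSB
  set Sb' := (fun θ : IrrCharacter H' => (charDegree (θ : H' → ℂ)).factorization p) '' b'
    with hSb'
  obtain ⟨χ₁, hχ₁B, θ₁, hθ₁, hov₁⟩ := hCov.2
  have hSBne : SB.Nonempty := ⟨_, χ₁, hχ₁B, rfl⟩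
  obtain ⟨χ, hχB, hχν⟩ := Nat.sInf_mem hSBne
  obtain ⟨ψ, hψ⟩ := exists_under H' χ.2
  have hψb' : ψ ∈ b' := by
    obtain ⟨χ₀, hBeq⟩ := hCov.1
    have hs : SameBlock M (χ₁ : T → ℂ) (χ : T → ℂ) := by
      rw [hBeq] at hχ₁B hχB
      exact sameBlock_trans hMm (sameBlock_symm hMm hχ₁B) hχB
    have := memB_conjUnion_of_cover H' hMm b' hb' χ₁.2 χ.2 (fun n => hs n) θ₁.2 ψ.2
      ((memB_coe b' θ₁).mpr hθ₁) hov₁ hψ
    rw [conjUnion_eq_of_invariant H' b' hinv] at this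
    exact (memB_coe b' ψ).mp this
  -- F
  have hcl := clifford H' χ.2 ψ.2 hψ
  obtain ⟨e, he⟩ := IsCharacter.classInner_nat
    (IsCharacter.restrict (IsIrrCharacter.isCharacter χ.2) H') (IsIrrCharacter.isCharacter ψ.2)
  have hcard := card_image_conjFn H' (inertia H' (ψ : H' → ℂ)) (mem_inertia H' (ψ : H' → ℂ))
  set I := inertia H' (ψ : H' → ℂ) with hI
  have he0 : e ≠ 0 := by
    rintro rfl
    apply hψ
    rw [he]; simp
  obtain ⟨hχ1, hχpos⟩ := apply_one_eq_charDegree χ.2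
  obtain ⟨hψ1, hψpos⟩ := apply_one_eq_charDegree ψ.2
  have hdeg : charDegree (χ : T → ℂ) = e * I.index * charDegree (ψ : H' → ℂ) := by
    apply charDegree_eq'
    have := congrFun hcl 1
    simp only [OneMemClass.coe_one] at this
    rw [this, he, Pi.smul_apply, Finset.sum_apply]
    have hterm : ∀ ψ' ∈ Finset.univ.image (conjFn H' (ψ : H' → ℂ)), ψ' 1 = (ψ : H' → ℂ) 1 := by
      intro ψ' hψ'
      obtain ⟨g, _, rfl⟩ := Finset.mem_image.mp hψ'
      rw [conjFn_apply]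
      exact congrArg (ψ : H' → ℂ) (Subtype.ext (by simp))
    rw [Finset.sum_congr rfl hterm, Finset.sum_const, hcard, hψ1]
    simp only [smul_eq_mul, nsmul_eq_mul]
    push_cast
    ring
  -- G
  have hIidx : I.index ≠ 0 := Subgroup.index_ne_zero_of_finite
  have hνχ : (charDegree (χ : T → ℂ)).factorization p
      = e.factorization p + I.index.factorization p
        + (charDegree (ψ : H' → ℂ)).factorization p := by
    rw [hdeg, Nat.factorization_mul (Nat.mul_ne_zero he0 hIidx) hψpos.ne',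
      Nat.factorization_mul he0 hIidx]
    rfl
  have hψge : sInf Sb' ≤ (charDegree (ψ : H' → ℂ)).factorization p :=
    Nat.sInf_le ⟨ψ, hψb', rfl⟩
  have hψle : (charDegree (ψ : H' → ℂ)).factorization p ≤ (Nat.card H').factorization p := by
    have h3 : charDegree (ψ : H' → ℂ) ∣ Nat.card H' :=
      Cfsg.Agent.Lib.Helper2_CharInt.degree_dvd_card ψ.2 _ hψ1
    exact (Nat.factorization_le_iff_dvd hψpos.ne' Nat.card_pos.ne').mpr h3 p
  have hχle : (charDegree (χ : T → ℂ)).factorization p ≤ (Nat.card T).factorization p := by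
    have h3 : charDegree (χ : T → ℂ) ∣ Nat.card T :=
      Cfsg.Agent.Lib.Helper2_CharInt.degree_dvd_card χ.2 _ hχ1
    exact (Nat.factorization_le_iff_dvd hχpos.ne' Nat.card_pos.ne').mpr h3 p
  have hidxν : (Nat.card H').factorization p + H'.index.factorization p
      = (Nat.card T).factorization p := by
    have h1 := H'.card_mul_index
    rw [← h1, Nat.factorization_mul Nat.card_pos.ne' Subgroup.index_ne_zero_of_finite]
    rfl
  have hdB : blockDefect p B = (Nat.card T).factorization p - sInf SB := rfl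
  have hdb : blockDefect p b' = (Nat.card H').factorization p - sInf Sb' := rfl
  have hkey : I.index.factorization p = 0 ∧
      (charDegree (ψ : H' → ℂ)).factorization p = sInf Sb' := by
    have hχν' : (charDegree (χ : T → ℂ)).factorization p = sInf SB := hχν
    omega
  -- H
  obtain ⟨θ, hθ, hθψ⟩ := hψb'
  have hcd : ∀ θ : IrrCharacter H, charDegree (trIrr ε θ : H' → ℂ) = charDegree (θ : H → ℂ) := by
    intro θ
    unfold charDegree
    rw [trIrr_apply, map_one]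
  have hSbeq : Sb' = (fun θ : IrrCharacter H => (charDegree (θ : H → ℂ)).factorization p) '' b := by
    rw [hSb', hb'def, Set.image_image]
    simp only [hcd]
  refine ⟨θ, hθ, ?_, I.map T.subtype, Subgroup.map_subtype_le _, ?_, ?_⟩
  · unfold blockHeight
    rw [← hSbeq, ← hcd θ, hθψ, hkey.2]
    exact Nat.sub_self _
  · intro g
    rw [Subgroup.mem_map]
    constructor
    · rintro ⟨t, ht, rfl⟩
      refine ⟨t.2, fun h h' hh' => ?_⟩
      have hmem := (mem_inertia H' (ψ : H' → ℂ) t).mp ht (ε.symm h)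
      rw [← hθψ, trIrr_apply, trIrr_apply, MulEquiv.apply_symm_apply] at hmem
      rw [← hmem]
      refine congrArg (θ : H → ℂ) (Subtype.ext ?_)
      rw [hh', hε]
      show _ = (t : G) * (((ε.symm h : H') : T) : G) * ((t⁻¹ : T) : G)
      have e1 : (((ε.symm h : H') : T) : G) = (h : G) := by
        rw [← hε, MulEquiv.apply_symm_apply]
      rw [e1]
      rfl
    · rintro ⟨hg, hcond⟩
      refine ⟨⟨g, hg⟩, ?_, rfl⟩
      rw [hI, mem_inertia]
      intro n
      rw [← hθψ, trIrr_apply, trIrr_apply]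
      exact hcond (ε n) _ rfl
  · have hsub : (I.map T.subtype).subgroupOf T = I := by
      ext x
      rw [Subgroup.mem_subgroupOf, Subgroup.mem_map]
      constructor
      · rintro ⟨t, ht, htx⟩
        have : t = x := Subtype.ext htx
        rw [← this]; exact ht
      · intro hx
        exact ⟨x, hx, rfl⟩
    show ¬ p ∣ ((I.map T.subtype).subgroupOf T).index
    rw [hsub]
    intro hdvd
    have := (Nat.factorization_eq_zero_iff _ p).mp hkey.1
    rcases this with h | h | h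
    · exact h hp.out
    · exact h hdvd
    · exact hIidx h

end Main

end Cfsg.Agent.Lib.Helper2_HeightZeroStab
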