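import Mathlib
import Cfsg.Prelude.Def_Characters
import Cfsg.Prelude.Def_Blocks
import Cfsg.Prelude.Def_BlockRank
import Cfsg.Prelude.Def_BlockLocal
import Cfsg.Prelude.Def_BrauerPairs
import Cfsg.Agent.Lib.Helper2_ClassFn
import Cfsg.Agent.Lib.Helper2_CharBasic
import Cfsg.Agent.Lib.Helper2_CharOrtho
import Cfsg.Agent.Lib.Helper2_Clifford
import Cfsg.Agent.Lib.Helper2_CharMore
import Cfsg.Agent.Lib.Helper2_CharDeg
import Cfsg.Agent.Lib.Helper2_CharInd
import Cfsg.Agent.Lib.Helper2_CharExtra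
import Cfsg.Agent.Lib.Helper2_CharInt
import Cfsg.Agent.Lib.Helper2_CharValues
import Cfsg.Agent.Lib.Helper2_CharSum
import Cfsg.Agent.Lib.Helper2_CharComplete
import Cfsg.Agent.Lib.Helper2_CharTable
import Cfsg.Agent.Lib.Helper2_CharCentral
import Cfsg.Agent.Lib.Helper2_ModM
import Cfsg.Agent.Lib.Helper2_Blocks
import Cfsg.Agent.Lib.Helper2_BlockOrtho
import Cfsg.Agent.Lib.Helper2_BlockMore
import Cfsg.Agent.Lib.Helper2_DefectGroup
import Cfsg.Agent.Lib.Helper2_DefectPCore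
import Cfsg.Agent.Lib.Helper2_MinMax
import Cfsg.Agent.Lib.Helper2_InducedBlock
import Cfsg.Agent.Lib.Helper2_BrauerMap
import Cfsg.Agent.Lib.Helper2_InducedDefect
import Cfsg.Agent.Lib.Helper2_BrauerFirst
import Cfsg.Agent.Lib.Helper2_BrauerConverse
import Cfsg.Agent.Lib.Helper2_SylowConj
import Cfsg.Agent.Lib.Helper2_BlockCover
import Cfsg.Agent.Lib.Helper2_BlockConj
import Cfsg.Agent.Lib.Helper2_FirstMain
import Cfsg.Agent.Lib.Helper2_BlockNormal
import Cfsg.Agent.Lib.Helper2_BlockCount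
import Cfsg.Agent.Lib.Helper2_BlockCount2
import Cfsg.Agent.Lib.Helper2_BlockKer
import Cfsg.Agent.Lib.Helper2_PRegCount
import Cfsg.Agent.Lib.Helper2_ExtFirstMain
import Cfsg.Agent.Lib.Helper2_ThirdMain
import Cfsg.Agent.Lib.Helper2_Fong
import Cfsg.Agent.Lib.Helper2_BrauerPairs
import Cfsg.Agent.Lib.Helper2_BrauerInv
import Cfsg.Agent.Lib.Helper2_Conj
import Cfsg.Agent.Lib.Helper2_BrauerChain
import Cfsg.Agent.Lib.Helper2_BrauerPrincipal
import Cfsg.Agent.Lib.Helper2_BrauerMax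
import Cfsg.Agent.Lib.Helper2_BrauerConjMax
import Cfsg.Agent.Lib.Helper2_BrauerLocal
import Cfsg.Agent.Lib.Helper2_BrauerStab
import Cfsg.Agent.Lib.Helper2_BlockTrace
import Cfsg.Agent.Lib.Helper2_BlockFusion
import Cfsg.Agent.S0876
import Cfsg.Agent.Lib.Helper2_DefectValues


set_option autoImplicit false

/-!
# Height zero characters and induced blocks
-/

namespace Cfsg.Agent.Lib.Helper2_InducedHeight

open Cfsg
open Cfsg.Agent.Lib.Helper2_ClassFn
open Cfsg.Agent.Lib.Helper2_CharBasic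
open Cfsg.Agent.Lib.Helper2_CharOrtho
open Cfsg.Agent.Lib.Helper2_Clifford
open Cfsg.Agent.Lib.Helper2_CharMore
open Cfsg.Agent.Lib.Helper2_CharDeg
open Cfsg.Agent.Lib.Helper2_CharInd
open Cfsg.Agent.Lib.Helper2_CharExtra
open Cfsg.Agent.Lib.Helper2_CharValues
open Cfsg.Agent.Lib.Helper2_CharSum
open Cfsg.Agent.Lib.Helper2_CharComplete
open Cfsg.Agent.Lib.Helper2_CharTable
open Cfsg.Agent.Lib.Helper2_CharCentral
open Cfsg.Agent.Lib.Helper2_ModM
open Cfsg.Agent.Lib.Helper2_Blocks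
open Cfsg.Agent.Lib.Helper2_BlockOrtho
open Cfsg.Agent.Lib.Helper2_BlockMore
open Cfsg.Agent.Lib.Helper2_DefectGroup
open Cfsg.Agent.Lib.Helper2_DefectPCore
open Cfsg.Agent.Lib.Helper2_MinMax
open Cfsg.Agent.Lib.Helper2_InducedBlock
open Cfsg.Agent.Lib.Helper2_BrauerMap
open Cfsg.Agent.Lib.Helper2_InducedDefect
open Cfsg.Agent.Lib.Helper2_BrauerFirst
open Cfsg.Agent.Lib.Helper2_BrauerConverse
open Cfsg.Agent.Lib.Helper2_SylowConj
open Cfsg.Agent.Lib.Helper2_BlockCover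
open Cfsg.Agent.Lib.Helper2_BlockConj
open Cfsg.Agent.Lib.Helper2_FirstMain
open Cfsg.Agent.Lib.Helper2_BlockNormal
open Cfsg.Agent.Lib.Helper2_BlockCount
open Cfsg.Agent.Lib.Helper2_BlockCount2
open Cfsg.Agent.Lib.Helper2_BlockKer
open Cfsg.Agent.Lib.Helper2_PRegCount
open Cfsg.Agent.Lib.Helper2_ExtFirstMain
open Cfsg.Agent.Lib.Helper2_ThirdMain
open Cfsg.Agent.Lib.Helper2_Fong
open Cfsg.Agent.Lib.Helper2_BrauerPairs
open Cfsg.Agent.Lib.Helper2_BrauerInv
open Cfsg.Agent.Lib.Helper2_BrauerChain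
open Cfsg.Agent.Lib.Helper2_BrauerPrincipal
open Cfsg.Agent.Lib.Helper2_BrauerMax
open Cfsg.Agent.Lib.Helper2_BrauerConjMax
open Cfsg.Agent.Lib.Helper2_BrauerLocal
open Cfsg.Agent.Lib.Helper2_BrauerStab
open Cfsg.Agent.Lib.Helper2_BlockTrace
open Cfsg.Agent.Lib.Helper2_BlockFusion
open Cfsg.Agent.Lib.Helper2_DefectValues
open scoped ComplexConjugate

universe u


section Valuation

variable {M : Ideal AlgInt}

theorem memLocalIdeal_nat_div {p : ℕ} [hp : Fact p.Prime] (hM : IsPModular p M) (X Y : ℕ)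
    (hX : X ≠ 0) (hY : Y ≠ 0) (h : Y.factorization p < X.factorization p) :
    MemLocalIdeal M ((X : ℂ) / (Y : ℂ)) := by
  have hMm := hM.2.1
  obtain ⟨x', hx', eX⟩ : ∃ m : ℕ, m.Coprime p ∧ X = p ^ (X.factorization p) * m :=
    ⟨X / p ^ X.factorization p, (Nat.coprime_ordCompl hp.out hX).symm,
      (Nat.ordProj_mul_ordCompl_eq_self X p).symm⟩
  obtain ⟨y', hy', eY⟩ : ∃ m : ℕ, m.Coprime p ∧ Y = p ^ (Y.factorization p) * m :=
    ⟨Y / p ^ Y.factorization p, (Nat.coprime_ordCompl hp.out hY).symm,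
      (Nat.ordProj_mul_ordCompl_eq_self Y p).symm⟩
  set u := X.factorization p
  set v := Y.factorization p
  obtain ⟨k, hk⟩ : ∃ k, u = v + 1 + k := ⟨u - v - 1, by omega⟩
  have hpC : (p : ℂ) ≠ 0 := Nat.cast_ne_zero.mpr hp.out.ne_zero
  have hy0 : (y' : ℂ) ≠ 0 := by
    intro h0
    have : y' = 0 := by exact_mod_cast h0
    rw [this, Nat.coprime_zero_left] at hy'
    exact hp.out.one_lt.ne' hy'
  have e1 : (X : ℂ) / (Y : ℂ) = (y' : ℂ)⁻¹ * (((p ^ k * x' : ℕ) : ℂ) * (p : ℂ)) := by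
    rw [eX, eY, hk]
    push_cast
    field_simp
    ring
  rw [e1]
  have hpI : MemLocalIdeal M (p : ℂ) := by
    have := memLocalIdeal_of_mem hMm hM.2.2
    simpa using this
  exact memLocalIdeal_mul_ring hMm
    (memLocalIdeal_mul_int hMm hpI (isIntegral_nat _)) (memLocalRing_natCast_inv hM y' hy')

theorem factorization_eq_of_ratio_unit {p : ℕ} [hp : Fact p.Prime] (hM : IsPModular p M)
    (N F : ℕ) (hF : F ≠ 0) (l : ℂ) (hl : MemLocalIdeal M (l - 1)) (h : (N : ℂ) = F * l) :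
    N ≠ 0 ∧ N.factorization p = F.factorization p := by
  have hMm := hM.2.1
  have hFC : (F : ℂ) ≠ 0 := Nat.cast_ne_zero.mpr hF
  have hl1 : ¬ MemLocalIdeal M l := by
    intro hmem
    have := memLocalIdeal_sub hMm hmem hl
    rw [sub_sub_cancel] at this
    exact not_memLocalIdeal_one hMm this
  have hl0 : l ≠ 0 := by
    intro h0
    apply hl1
    rw [h0]
    exact memLocalIdeal_zero hMm
  have hN : N ≠ 0 := by
    intro h0
    rw [h0, Nat.cast_zero] at h
    rcases mul_eq_zero.mp h.symm with h1 | h1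
    · exact hFC h1
    · exact hl0 h1
  refine ⟨hN, ?_⟩
  have hNC : (N : ℂ) ≠ 0 := Nat.cast_ne_zero.mpr hN
  rcases lt_trichotomy (N.factorization p) (F.factorization p) with hlt | heq | hgt
  · exfalso
    have h1 := memLocalIdeal_nat_div hM F N hF hN hlt
    have h2 : l * ((F : ℂ) / (N : ℂ)) = 1 := by
      rw [h]
      field_simp
    have h3 := memLocalIdeal_mul_ring hMm h1 (memLocalRing_of_sub_one hMm hl)
    rw [h2] at h3
    exact not_memLocalIdeal_one hMm h3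
  · exact heq
  · exfalso
    have h1 := memLocalIdeal_nat_div hM N F hN hF hgt
    have h2 : (N : ℂ) / (F : ℂ) = l := by
      rw [h]
      field_simp
    rw [h2] at h1
    exact hl1 h1

end Valuation

section InducedHeight

variable {G : Type u} [Group G] [Fintype G] {M : Ideal AlgInt}

theorem induced_height_zero {p : ℕ} [hp : Fact p.Prime] (hM : IsPModular p M)
    (H : Subgroup G) (b : Set (IrrCharacter H)) (B : Set (IrrCharacter G))
    (hind : IsInducedBlock M H b B) (hdef : blockDefect p b = blockDefect p B)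
    (ζ : IrrCharacter H) (hζ : ζ ∈ b) (hζ0 : blockHeight p b (ζ : H → ℂ) = 0) :
    ∃ χ ∈ B, blockHeight p B (χ : G → ℂ) = 0 ∧
      ∃ a : ℕ, classInner (indFun H (ζ : H → ℂ)) (χ : G → ℂ) = (a : ℂ) ∧ ¬ p ∣ a := by
  classical
  haveI : Fintype H := Fintype.ofFinite _
  have hMm := hM.2.1
  obtain ⟨hb, ⟨χ₁, rfl⟩, hcong⟩ := hind
  set ε := blockCoeff (blockOf M (χ₁ : G → ℂ)) with hε
  have hεcf : IsClassFunction G ε := blockCoeff_isClassFunction _
  set l := om (ζ : H → ℂ) (fun k : H => ε k) with hl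
  -- `l ≡ 1`
  have hl1 : MemLocalIdeal M (l - 1) := by
    have h1 := om_blockCoeff (blockOf M (χ₁ : G → ℂ)) χ₁.2
    rw [if_pos ((memB_coe _ χ₁).mpr (self_mem_blockOf hMm χ₁)),
      om_eq_sum_classes (IsCharacter.isClassFunction (IsIrrCharacter.isCharacter χ₁.2)) hεcf]
      at h1
    rw [hl, om_res_eq_sum_classes H (ζ : H → ℂ) hεcf, ← h1, ← Finset.sum_sub_distrib]
    apply memLocalIdeal_sum hMm
    intro C _
    rw [← mul_sub]
    exact memLocalIdeal_mul_ring hMm (hcong ζ hζ χ₁ (self_mem_blockOf hMm χ₁) C.out)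
      (memLocalRing_blockCoeff hMm χ₁.2 _)
  -- multiplicities
  have hΦ : IsCharacter G (indFun H (ζ : H → ℂ)) :=
    IsCharacter.indFun (IsIrrCharacter.isCharacter ζ.2)
  choose m hm using fun χ : IrrCharacter G => IsCharacter.classInner_irr_nat hΦ χ.2
  set 𝔅 : Finset (IrrCharacter G) := (Set.toFinite (blockOf M (χ₁ : G → ℂ))).toFinset with h𝔅
  have hmem𝔅 : ∀ χ, χ ∈ 𝔅 ↔ χ ∈ blockOf M (χ₁ : G → ℂ) := fun χ => Set.Finite.mem_toFinset _
  set N : ℕ := ∑ χ ∈ 𝔅, m χ * charDegree (χ : G → ℂ) with hN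
  set F : ℕ := H.index * charDegree (ζ : H → ℂ) with hF
  have hζ1 := apply_one_eq_charDegree ζ.2
  have hF0 : F ≠ 0 := Nat.mul_ne_zero Subgroup.index_ne_zero_of_finite hζ1.2.ne'
  have hGC : (Nat.card G : ℂ) ≠ 0 := Nat.cast_ne_zero.mpr Nat.card_pos.ne'
  have hHC : (Nat.card H : ℂ) ≠ 0 := Nat.cast_ne_zero.mpr Nat.card_pos.ne'
  have hNF : (N : ℂ) = (F : ℂ) * l := by
    have h1 : ∀ χ : IrrCharacter G, (m χ : ℂ) = (Nat.card H : ℂ)⁻¹ *
        ∑ h : H, (ζ : H → ℂ) h * conj ((χ : G → ℂ) h) := by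
      intro χ
      rw [← hm χ, frobenius_reciprocity H (ζ : H → ℂ) (χ : G → ℂ)
        (IsCharacter.isClassFunction (IsIrrCharacter.isCharacter χ.2))]
      rfl
    have h2 : ∀ g : G, ∑ χ ∈ 𝔅, (χ : G → ℂ) 1 * conj ((χ : G → ℂ) g)
        = (Nat.card G : ℂ) * ε g := by
      intro g
      rw [hε]
      unfold blockCoeff
      rw [finsum_mem_eq_finite_toFinset_sum _ (Set.toFinite _), ← mul_assoc,
        mul_inv_cancel₀ hGC, one_mul]
    have h3 : (N : ℂ) = ∑ χ ∈ 𝔅, (m χ : ℂ) * (χ : G → ℂ) 1 := by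
      rw [hN]
      push_cast
      refine Finset.sum_congr rfl fun χ _ => ?_
      rw [(apply_one_eq_charDegree χ.2).1]
    rw [h3]
    simp_rw [h1, Finset.mul_sum, Finset.sum_mul]
    rw [Finset.sum_comm]
    have h4 : ∀ h : H, ∑ χ ∈ 𝔅, (Nat.card H : ℂ)⁻¹ *
        ((ζ : H → ℂ) h * conj ((χ : G → ℂ) h)) * (χ : G → ℂ) 1
        = (Nat.card H : ℂ)⁻¹ * (ζ : H → ℂ) h * ((Nat.card G : ℂ) * ε h) := by
      intro h
      rw [← h2 (h : G), Finset.mul_sum]
      refine Finset.sum_congr rfl fun χ _ => ?_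
      ring
    simp_rw [h4]
    rw [hl]
    unfold om
    rw [hF, hζ1.1]
    have hidx : (Nat.card G : ℂ) = (Nat.card H : ℂ) * (H.index : ℂ) := by
      rw [← H.card_mul_index]
      push_cast
      ring
    rw [hidx, Finset.sum_div, Finset.mul_sum]
    refine Finset.sum_congr rfl fun h _ => ?_
    have hc0 : ((charDegree (ζ : H → ℂ) : ℕ) : ℂ) ≠ 0 := Nat.cast_ne_zero.mpr hζ1.2.ne'
    push_cast
    field_simp
  obtain ⟨hN0, hval⟩ := factorization_eq_of_ratio_unit hM N F hF0 l hl1 hNF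
  -- the valuation of `F`
  set aG := (Nat.card G).factorization p with haG
  set aH := (Nat.card H).factorization p with haH
  set SB := (fun ψ : IrrCharacter G => (charDegree (ψ : G → ℂ)).factorization p) ''
    blockOf M (χ₁ : G → ℂ) with hSB
  set Sb := (fun ψ : IrrCharacter H => (charDegree (ψ : H → ℂ)).factorization p) '' b with hSb
  have hdef' : aH - sInf Sb = aG - sInf SB := hdef
  have hνζ : (charDegree (ζ : H → ℂ)).factorization p = sInf Sb := by
    have h1 : (charDegree (ζ : H → ℂ)).factorization p ∈ Sb := ⟨ζ, hζ, rfl⟩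
    have h2 := Nat.sInf_le h1
    unfold blockHeight at hζ0
    rw [← hSb] at hζ0
    omega
  have hζle : (charDegree (ζ : H → ℂ)).factorization p ≤ aH := by
    have h3 : charDegree (ζ : H → ℂ) ∣ Nat.card H :=
      Cfsg.Agent.Lib.Helper2_CharInt.degree_dvd_card ζ.2 _ hζ1.1
    exact (Nat.factorization_le_iff_dvd hζ1.2.ne' Nat.card_pos.ne').mpr h3 p
  have hSBle : sInf SB ≤ aG := by
    have h1 : (charDegree (χ₁ : G → ℂ)).factorization p ∈ SB :=
      ⟨χ₁, self_mem_blockOf hMm χ₁, rfl⟩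
    have h2 := Nat.sInf_le h1
    have h3 : charDegree (χ₁ : G → ℂ) ∣ Nat.card G :=
      Cfsg.Agent.Lib.Helper2_CharInt.degree_dvd_card χ₁.2 _ (apply_one_eq_charDegree χ₁.2).1
    have h4 := (Nat.factorization_le_iff_dvd (apply_one_eq_charDegree χ₁.2).2.ne'
      Nat.card_pos.ne').mpr h3 p
    exact h2.trans h4
  have hidxν : H.index.factorization p + aH = aG := by
    have h1 := H.card_mul_index
    have h2 : (Nat.card H * H.index).factorization p = aG := by rw [h1]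
    rw [Nat.factorization_mul Nat.card_pos.ne' Subgroup.index_ne_zero_of_finite,
      Finsupp.add_apply] at h2
    omega
  have hFν : F.factorization p = sInf SB := by
    rw [hF, Nat.factorization_mul Subgroup.index_ne_zero_of_finite hζ1.2.ne',
      Finsupp.add_apply, hνζ]
    omega
  -- conclusion
  by_contra hcon
  push Not at hcon
  have hall : ∀ χ ∈ 𝔅, p ^ (sInf SB + 1) ∣ m χ * charDegree (χ : G → ℂ) := by
    intro χ hχ
    have hχB := (hmem𝔅 χ).mp hχ
    have h1 : (charDegree (χ : G → ℂ)).factorization p ∈ SB := ⟨χ, hχB, rfl⟩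
    have h2 := Nat.sInf_le h1
    have hχ0 := (apply_one_eq_charDegree χ.2).2.ne'
    rcases Nat.lt_or_ge (sInf SB) ((charDegree (χ : G → ℂ)).factorization p) with hlt | hge
    · exact Dvd.dvd.mul_left
        ((hp.out.pow_dvd_iff_le_factorization hχ0).mpr hlt) _
    · have hh : blockHeight p (blockOf M (χ₁ : G → ℂ)) (χ : G → ℂ) = 0 := by
        unfold blockHeight
        rw [← hSB]
        omega
      have h3 := hcon χ hχB hh (m χ) (hm χ)
      have h4 : p ^ sInf SB ∣ charDegree (χ : G → ℂ) :=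
        (hp.out.pow_dvd_iff_le_factorization hχ0).mpr h2
      rw [pow_succ, mul_comm (p ^ sInf SB) p]
      exact Nat.mul_dvd_mul h3 h4
  have hdvd : p ^ (sInf SB + 1) ∣ N := Finset.dvd_sum hall
  have := (hp.out.pow_dvd_iff_le_factorization hN0).mp hdvd
  omega

end InducedHeight
end Cfsg.Agent.Lib.Helper2_InducedHeight
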