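import Mathlib
import Cfsg.Prelude.Def_Characters
import Cfsg.Prelude.Def_Blocks
import Cfsg.Prelude.Def_BlockRank
import Cfsg.Agent.Lib.Helper2_ClassFn
import Cfsg.Agent.Lib.Helper2_CharBasic
import Cfsg.Agent.Lib.Helper2_CharOrtho
import Cfsg.Agent.Lib.Helper2_Clifford
import Cfsg.Agent.Lib.Helper2_CharMore
import Cfsg.Agent.Lib.Helper2_CharDeg
import Cfsg.Agent.Lib.Helper2_CharInd
import Cfsg.Agent.Lib.Helper2_CharExtra
import Cfsg.Agent.Lib.Helper2_CharInt
import Cfsg.Agent.Lib.Helper2_CharValues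
import Cfsg.Agent.Lib.Helper2_CharSum
import Cfsg.Agent.Lib.Helper2_CharCentral
import Cfsg.Agent.Lib.Helper2_ModM
import Cfsg.Agent.Lib.Helper2_Blocks
import Cfsg.Agent.Lib.Helper2_BlockOrtho
import Cfsg.Agent.Lib.Helper2_BlockMore
import Cfsg.Agent.Lib.Helper2_DefectGroup
import Cfsg.Agent.Lib.Helper2_DefectPCore
import Cfsg.Agent.Lib.Helper2_MinMax
import Cfsg.Agent.Lib.Helper2_InducedBlock
import Cfsg.Agent.Lib.Helper2_BrauerMap
import Cfsg.Agent.Lib.Helper2_InducedDefect
import Cfsg.Agent.Lib.Helper2_BrauerFirst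
import Cfsg.Agent.Lib.Helper2_BrauerConverse
import Cfsg.Agent.Lib.Helper2_SylowConj
import Cfsg.Agent.Lib.Helper2_BlockCover
import Cfsg.Agent.Lib.Helper2_BlockConj
import Cfsg.Agent.Lib.Helper2_FirstMain
import Cfsg.Agent.Lib.Helper2_BlockNormal
import Cfsg.Agent.Lib.Helper2_BlockCount
import Cfsg.Agent.Lib.Helper2_BlockCount2
import Cfsg.Agent.Lib.Helper2_BlockKer
import Cfsg.Agent.Lib.Helper2_PRegCount
import Cfsg.Agent.Lib.Helper2_ExtFirstMain
import Cfsg.Agent.Lib.Helper2_ThirdMain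


set_option autoImplicit false

/-!
# Block parts of induced characters
-/

namespace Cfsg.Agent.Lib.Helper2_InducedPart

open Cfsg
open Cfsg.Agent.Lib.Helper2_ClassFn
open Cfsg.Agent.Lib.Helper2_CharBasic
open Cfsg.Agent.Lib.Helper2_CharOrtho
open Cfsg.Agent.Lib.Helper2_Clifford
open Cfsg.Agent.Lib.Helper2_CharMore
open Cfsg.Agent.Lib.Helper2_CharDeg
open Cfsg.Agent.Lib.Helper2_CharInd
open Cfsg.Agent.Lib.Helper2_CharExtra
open Cfsg.Agent.Lib.Helper2_CharValues
open Cfsg.Agent.Lib.Helper2_CharSum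
open Cfsg.Agent.Lib.Helper2_CharCentral
open Cfsg.Agent.Lib.Helper2_ModM
open Cfsg.Agent.Lib.Helper2_Blocks
open Cfsg.Agent.Lib.Helper2_BlockOrtho
open Cfsg.Agent.Lib.Helper2_BlockMore
open Cfsg.Agent.Lib.Helper2_DefectGroup
open Cfsg.Agent.Lib.Helper2_DefectPCore
open Cfsg.Agent.Lib.Helper2_MinMax
open Cfsg.Agent.Lib.Helper2_InducedBlock
open Cfsg.Agent.Lib.Helper2_BrauerMap
open Cfsg.Agent.Lib.Helper2_InducedDefect
open Cfsg.Agent.Lib.Helper2_BrauerFirst
open Cfsg.Agent.Lib.Helper2_BrauerConverse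
open Cfsg.Agent.Lib.Helper2_SylowConj
open Cfsg.Agent.Lib.Helper2_BlockCover
open Cfsg.Agent.Lib.Helper2_BlockConj
open Cfsg.Agent.Lib.Helper2_FirstMain
open Cfsg.Agent.Lib.Helper2_BlockNormal
open Cfsg.Agent.Lib.Helper2_BlockCount
open Cfsg.Agent.Lib.Helper2_BlockCount2
open Cfsg.Agent.Lib.Helper2_BlockKer
open Cfsg.Agent.Lib.Helper2_PRegCount
open Cfsg.Agent.Lib.Helper2_ExtFirstMain
open Cfsg.Agent.Lib.Helper2_ThirdMain
open scoped ComplexConjugate

universe u

section Valuation

variable {M : Ideal AlgInt}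

theorem memLocalRing_div_of_factorization_le {p : ℕ} [hp : Fact p.Prime] (hM : IsPModular p M)
    (n m : ℕ) (hm : m ≠ 0) (h : m.factorization p ≤ n.factorization p) :
    MemLocalRing M ((n : ℂ) / (m : ℂ)) := by
  have hMm := hM.2.1
  by_cases hn : n = 0
  · rw [hn, Nat.cast_zero, zero_div]
    exact memLocalRing_zero hMm
  obtain ⟨t, ht⟩ : ∃ t, n.factorization p = m.factorization p + t := ⟨_, (Nat.add_sub_cancel' h).symm⟩
  have hn' : n = p ^ (m.factorization p + t) * (n / p ^ n.factorization p) := by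
    rw [← ht]
    exact (Nat.ordProj_mul_ordCompl_eq_self n p).symm
  have hm' : m = p ^ m.factorization p * (m / p ^ m.factorization p) :=
    (Nat.ordProj_mul_ordCompl_eq_self m p).symm
  have hcop : (m / p ^ m.factorization p).Coprime p :=
    (Nat.coprime_ordCompl hp.out hm).symm
  have hm0 : ((m / p ^ m.factorization p : ℕ) : ℂ) ≠ 0 := by
    intro h0
    have : m / p ^ m.factorization p = 0 := by exact_mod_cast h0
    rw [this, mul_zero] at hm'
    exact hm hm'
  have hp0 : (p : ℂ) ≠ 0 := by exact_mod_cast hp.out.ne_zero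
  have e : (n : ℂ) / (m : ℂ) = ((p ^ t * (n / p ^ n.factorization p) : ℕ) : ℂ)
      * ((m / p ^ m.factorization p : ℕ) : ℂ)⁻¹ := by
    have h1 : (n : ℂ) = (p : ℂ) ^ (m.factorization p + t)
        * ((n / p ^ n.factorization p : ℕ) : ℂ) := by exact_mod_cast hn'
    have h2 : (m : ℂ) = (p : ℂ) ^ m.factorization p
        * ((m / p ^ m.factorization p : ℕ) : ℂ) := by exact_mod_cast hm'
    rw [h1, h2]
    push_cast
    field_simp
    ring
  rw [e]
  exact memLocalRing_mul hMm (memLocalRing_of_isIntegral hMm (isIntegral_nat _))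
    (memLocalRing_natCast_inv hM _ hcop)

theorem memLocalIdeal_div_of_factorization_lt {p : ℕ} [hp : Fact p.Prime] (hM : IsPModular p M)
    (n m : ℕ) (hn : n ≠ 0) (hm : m ≠ 0) (h : m.factorization p < n.factorization p) :
    MemLocalIdeal M ((n : ℂ) / (m : ℂ)) := by
  have hMm := hM.2.1
  have hpm : (p * m).factorization p ≤ n.factorization p := by
    rw [Nat.factorization_mul hp.out.ne_zero hm, Finsupp.add_apply,
      Nat.Prime.factorization_self hp.out]
    omega
  have h1 := memLocalRing_div_of_factorization_le hM n (p * m)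
    (Nat.mul_ne_zero hp.out.ne_zero hm) hpm
  have h2 := memLocalIdeal_mul_ring hMm (memLocalIdeal_p hM) h1
  have hp0 : (p : ℂ) ≠ 0 := by exact_mod_cast hp.out.ne_zero
  have hm0 : (m : ℂ) ≠ 0 := by exact_mod_cast hm
  have e : (n : ℂ) / ((p * m : ℕ) : ℂ) * (p : ℂ) = (n : ℂ) / (m : ℂ) := by
    push_cast
    field_simp
  rw [e] at h2
  exact h2

/-- A ratio of natural numbers which is a unit of the local ring has numerator and denominator
with the same `p`-adic valuation. -/
theorem factorization_eq_of_unit {p : ℕ} [hp : Fact p.Prime] (hM : IsPModular p M)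
    (n m : ℕ) (hn : n ≠ 0) (hm : m ≠ 0) (hR : MemLocalRing M ((n : ℂ) / (m : ℂ)))
    (hu : ¬ MemLocalIdeal M ((n : ℂ) / (m : ℂ))) : n.factorization p = m.factorization p := by
  have hMm := hM.2.1
  rcases lt_trichotomy (n.factorization p) (m.factorization p) with hlt | heq | hgt
  · exfalso
    have h1 := memLocalIdeal_div_of_factorization_lt hM m n hm hn hlt
    have h2 := memLocalIdeal_mul_ring hMm h1 hR
    have hn0 : (n : ℂ) ≠ 0 := by exact_mod_cast hn
    have hm0 : (m : ℂ) ≠ 0 := by exact_mod_cast hm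
    have e : (n : ℂ) / (m : ℂ) * ((m : ℂ) / (n : ℂ)) = 1 := by field_simp
    rw [e] at h2
    exact not_memLocalIdeal_one hMm h2
  · exact heq
  · exfalso
    exact hu (memLocalIdeal_div_of_factorization_lt hM n m hn hm hgt)

/-- A ratio of natural numbers in the ideal has numerator zero or of larger valuation. -/
theorem factorization_lt_of_mem {p : ℕ} [hp : Fact p.Prime] (hM : IsPModular p M)
    (n m : ℕ) (hn : n ≠ 0) (hm : m ≠ 0) (hI : MemLocalIdeal M ((n : ℂ) / (m : ℂ))) :
    m.factorization p < n.factorization p := by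
  have hMm := hM.2.1
  by_contra hle
  push Not at hle
  have h1 := memLocalRing_div_of_factorization_le hM m n hn hle
  have h2 := memLocalIdeal_mul_ring hMm hI h1
  have hn0 : (n : ℂ) ≠ 0 := by exact_mod_cast hn
  have hm0 : (m : ℂ) ≠ 0 := by exact_mod_cast hm
  have e : (m : ℂ) / (n : ℂ) * ((n : ℂ) / (m : ℂ)) = 1 := by field_simp
  rw [e] at h2
  exact not_memLocalIdeal_one hMm h2

end Valuation

variable {G : Type u} [Group G] [Fintype G] {M : Ideal AlgInt}

theorem blockPart_apply (B : Set (IrrCharacter G)) (ϑ : G → ℂ) (g : G) :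
    blockPart B ϑ g = ∑ᶠ χ ∈ B, classInner ϑ (χ : G → ℂ) * (χ : G → ℂ) g := by
  unfold blockPart
  refine finsum_congr fun χ => finsum_congr fun _ => ?_
  congr 1
  unfold classInner
  congr!

open Classical in
/-- The degree of the block part is the value of the function against the block idempotent. -/
theorem blockPart_one_eq (B : Set (IrrCharacter G)) (Φ : G → ℂ) :
    blockPart B Φ 1 = ∑ g : G, blockCoeff B g * Φ g := by
  rw [blockPart_apply, finsum_mem_eq_sum B (fun ψ => classInner Φ ψ * ψ 1)]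
  simp_rw [blockCoeff_eq, Finset.mul_sum, Finset.sum_mul]
  rw [Finset.sum_comm]
  refine Finset.sum_congr rfl fun φ _ => ?_
  split_ifs with hm
  · rw [classInner_def, Finset.mul_sum, Finset.sum_mul]
    refine Finset.sum_congr rfl fun g _ => ?_
    ring
  · simp

open Classical in
/-- The degree of the block part of a character is a natural number. -/
theorem blockPart_one_nat (B : Set (IrrCharacter G)) {Φ : G → ℂ} (hΦ : IsCharacter G Φ) :
    ∃ n : ℕ, blockPart B Φ 1 = (n : ℂ) := by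
  obtain ⟨m, hm, rfl⟩ := IsCharacter.exists_irr_decomp hΦ
  rw [blockPart_apply, finsum_mem_eq_sum B (fun ψ => classInner m.sum ψ * ψ 1)]
  refine ⟨∑ ψ ∈ irrFinset G, if MemB B ψ then m.count ψ * charDegree ψ else 0, ?_⟩
  rw [Nat.cast_sum]
  refine Finset.sum_congr rfl fun ψ hψ => ?_
  have hψi := mem_irrFinset.mp hψ
  split_ifs
  · rw [classInner_multiset_sum_irr hm hψi, (apply_one_eq_charDegree hψi).1, Nat.cast_mul]
  · rw [Nat.cast_zero]

open Classical in
/-- **Block parts of a character induced from a block with defined induced block.** -/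
theorem induced_blockPart {p : ℕ} [hp : Fact p.Prime] (hM : IsPModular p M) (H : Subgroup G)
    [Fintype H] (b : Set (IrrCharacter H)) (B₀ : Set (IrrCharacter G))
    (hind : IsInducedBlock M H b B₀) (ξ : IrrCharacter H) (hξ : ξ ∈ b) :
    (∃ n : ℕ, blockPart B₀ (indFun H (ξ : H → ℂ)) 1 = (n : ℂ) ∧ n ≠ 0 ∧
      n.factorization p = (charDegree (indFun H (ξ : H → ℂ))).factorization p) ∧
    ∀ B : Set (IrrCharacter G), IsPBlock M B → B ≠ B₀ →
      ∃ n : ℕ, blockPart B (indFun H (ξ : H → ℂ)) 1 = (n : ℂ) ∧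
        (n = 0 ∨ (charDegree (indFun H (ξ : H → ℂ))).factorization p < n.factorization p) := by
  have hMm := hM.2.1
  have hΦ : IsCharacter G (indFun H (ξ : H → ℂ)) :=
    IsCharacter.indFun (IsIrrCharacter.isCharacter ξ.2)
  obtain ⟨hξdeg, hξpos⟩ := apply_one_eq_charDegree ξ.2
  have hΦ1 : indFun H (ξ : H → ℂ) 1 = ((H.index * charDegree (ξ : H → ℂ) : ℕ) : ℂ) := by
    rw [indFun_one, hξdeg, Nat.cast_mul]
  have hDdeg : charDegree (indFun H (ξ : H → ℂ)) = H.index * charDegree (ξ : H → ℂ) :=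
    charDegree_eq' hΦ1
  have hD0 : H.index * charDegree (ξ : H → ℂ) ≠ 0 :=
    Nat.mul_ne_zero Subgroup.index_ne_zero_of_finite hξpos.ne'
  obtain ⟨χ₀, hB₀⟩ := hind.2.1
  have hχ₀mem : χ₀ ∈ B₀ := by rw [hB₀]; exact self_mem_blockOf hMm χ₀
  have key : ∀ (B : Set (IrrCharacter G)), IsPBlock M B → ∀ n : ℕ,
      blockPart B (indFun H (ξ : H → ℂ)) 1 = (n : ℂ) →
      MemLocalIdeal M ((n : ℂ) / ((H.index * charDegree (ξ : H → ℂ) : ℕ) : ℂ)
        - (if B = B₀ then 1 else 0)) := by
    intro B hB n hn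
    obtain ⟨χ₁, rfl⟩ := hB
    have hzcf := blockCoeff_isClassFunction (blockOf M (χ₁ : G → ℂ))
    have hzR := memLocalRing_blockCoeff hMm χ₁.2
    have e1 : (n : ℂ) / ((H.index * charDegree (ξ : H → ℂ) : ℕ) : ℂ)
        = om (indFun H (ξ : H → ℂ)) (blockCoeff (blockOf M (χ₁ : G → ℂ))) := by
      unfold om
      rw [← hn, blockPart_one_eq, hΦ1]
    have e2 : (if blockOf M (χ₁ : G → ℂ) = B₀ then (1 : ℂ) else 0)
        = om (χ₀ : G → ℂ) (blockCoeff (blockOf M (χ₁ : G → ℂ))) := by
      rw [om_blockCoeff _ χ₀.2]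
      by_cases hBB : blockOf M (χ₁ : G → ℂ) = B₀
      · rw [if_pos hBB, if_pos]
        rw [memB_coe, hBB]
        exact hχ₀mem
      · rw [if_neg hBB, if_neg]
        rw [memB_coe]
        intro hmem
        apply hBB
        rw [hB₀]
        exact (blockOf_eq_of_mem hMm hmem).symm
    rw [e1, e2, om_eq_sum_classes (indFun_isClassFunction H _) hzcf,
      om_eq_sum_classes (IsCharacter.isClassFunction (IsIrrCharacter.isCharacter χ₀.2)) hzcf,
      ← Finset.sum_sub_distrib]
    refine memLocalIdeal_sum hMm _ _ fun C _ => ?_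
    rw [← mul_sub, centralChar_indFun H _ (IsIrrCharacter.apply_one_ne_zero ξ.2)]
    exact memLocalIdeal_mul_ring hMm (hind.2.2 ξ hξ χ₀ hχ₀mem C.out) (hzR _)
  constructor
  · obtain ⟨n, hn⟩ := blockPart_one_nat B₀ hΦ
    have hk := key B₀ hind.2.1 n hn
    rw [if_pos rfl] at hk
    have hu : ¬ MemLocalIdeal M ((n : ℂ) / ((H.index * charDegree (ξ : H → ℂ) : ℕ) : ℂ)) :=
      not_memLocalIdeal_of_sub_one hMm hk
    have hR : MemLocalRing M ((n : ℂ) / ((H.index * charDegree (ξ : H → ℂ) : ℕ) : ℂ)) := by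
      have := memLocalRing_add hMm (memLocalRing_of_ideal hk) (memLocalRing_one hMm)
      rwa [sub_add_cancel] at this
    have hn0 : n ≠ 0 := by
      intro h0
      apply hu
      rw [h0, Nat.cast_zero, zero_div]
      exact memLocalIdeal_zero hMm
    refine ⟨n, hn, hn0, ?_⟩
    rw [hDdeg]
    exact factorization_eq_of_unit hM n _ hn0 hD0 hR hu
  · intro B hB hne
    obtain ⟨n, hn⟩ := blockPart_one_nat B hΦ
    have hk := key B hB n hn
    rw [if_neg hne, sub_zero] at hk
    refine ⟨n, hn, ?_⟩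
    by_cases hn0 : n = 0
    · exact Or.inl hn0
    · right
      rw [hDdeg]
      exact factorization_lt_of_mem hM n _ hn0 hD0 hk

end Cfsg.Agent.Lib.Helper2_InducedPart
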