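import Mathlib
import Cfsg.Prelude.Def_TwoFusion

/-!
Helper library (helper2): basic facts on isolated involutions.
-/

set_option autoImplicit false

namespace Cfsg.Agent.Lib.Helper2_Isolated

open Cfsg

/-- The defining property, restated with `g * z * g⁻¹ * z = z * (g * z * g⁻¹)`. -/
lemma conj_eq_of_commute {G : Type*} [Group G] {z : G} (hz : Cfsg.IsIsolatedInvolution z) (g : G)
    (h : z * (g * z * g⁻¹) = (g * z * g⁻¹) * z) : g * z * g⁻¹ = z :=
  hz.2 g h

lemma sq_eq_one {G : Type*} [Group G] {z : G} (hz : Cfsg.IsIsolatedInvolution z) : z * z = 1 := by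
  have := pow_orderOf_eq_one z
  rw [hz.1, pow_two] at this
  exact this

lemma ne_one {G : Type*} [Group G] {z : G} (hz : Cfsg.IsIsolatedInvolution z) : z ≠ 1 := by
  intro h
  have := hz.1
  rw [h, orderOf_one] at this
  omega

lemma inv_eq {G : Type*} [Group G] {z : G} (hz : Cfsg.IsIsolatedInvolution z) : z⁻¹ = z :=
  inv_eq_of_mul_eq_one_left (sq_eq_one hz)

/-- A conjugate of an isolated involution is isolated. -/
lemma conj {G : Type*} [Group G] {z : G} (hz : Cfsg.IsIsolatedInvolution z) (x : G) :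
    Cfsg.IsIsolatedInvolution (x * z * x⁻¹) := by
  refine ⟨?_, ?_⟩
  · have : x * z * x⁻¹ = MulAut.conj x z := by simp [MulAut.conj_apply]
    rw [this, MulEquiv.orderOf_eq]; exact hz.1
  · intro g hg
    -- conjugate back by x⁻¹
    have h1 : Commute z ((x⁻¹ * g * x) * z * (x⁻¹ * g * x)⁻¹) := by
      have := hg.eq
      show z * _ = _ * z
      have e1 : z * ((x⁻¹ * g * x) * z * (x⁻¹ * g * x)⁻¹)
          = x⁻¹ * ((x * z * x⁻¹) * (g * (x * z * x⁻¹) * g⁻¹)) * x := by group
      have e2 : ((x⁻¹ * g * x) * z * (x⁻¹ * g * x)⁻¹) * z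
          = x⁻¹ * ((g * (x * z * x⁻¹) * g⁻¹) * (x * z * x⁻¹)) * x := by group
      rw [e1, e2, this]
    have h2 := hz.2 _ h1
    calc g * (x * z * x⁻¹) * g⁻¹ = x * ((x⁻¹ * g * x) * z * (x⁻¹ * g * x)⁻¹) * x⁻¹ := by group
      _ = x * z * x⁻¹ := by rw [h2]

/-- An isolated involution is central in every finite 2-subgroup containing it. -/
theorem central_of_mem_two_group {G : Type*} [Group G] [Finite G] {z : G}
    (hz : Cfsg.IsIsolatedInvolution z) (S : Subgroup G) (hS : IsPGroup 2 S) (hzS : z ∈ S) :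
    ∀ s ∈ S, s * z = z * s := by
  have : Fact (Nat.Prime 2) := ⟨Nat.prime_two⟩
  have : Group.IsNilpotent S := hS.isNilpotent
  set H : Subgroup S := (Subgroup.centralizer ({z} : Set G)).subgroupOf S with hH
  by_cases htop : H = ⊤
  · intro s hs
    have : (⟨s, hs⟩ : S) ∈ H := by rw [htop]; trivial
    rw [hH, Subgroup.mem_subgroupOf, Subgroup.mem_centralizer_iff] at this
    exact (this z rfl).symm
  · exfalso
    have hlt : H < ⊤ := lt_top_iff_ne_top.mpr htop
    have hnc := Group.normalizerCondition_of_isNilpotent (G := S) H hlt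
    obtain ⟨s, hsN, hsH⟩ := SetLike.exists_of_lt hnc
    apply hsH
    rw [Subgroup.mem_normalizer_iff] at hsN
    have hzH : (⟨z, hzS⟩ : S) ∈ H := by
      rw [hH, Subgroup.mem_subgroupOf, Subgroup.mem_centralizer_iff]
      intro y hy
      rw [Set.mem_singleton_iff] at hy
      rw [hy]
    have h1 := (hsN ⟨z, hzS⟩).mp hzH
    rw [hH, Subgroup.mem_subgroupOf, Subgroup.mem_centralizer_iff] at h1
    have h2 := h1 z rfl
    simp only [Subgroup.coe_mul, InvMemClass.coe_inv] at h2
    have h3 := hz.2 (s : G) h2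
    rw [hH, Subgroup.mem_subgroupOf, Subgroup.mem_centralizer_iff]
    intro y hy
    rw [Set.mem_singleton_iff] at hy
    rw [hy]
    calc z * (s : G) = ((s : G) * z * (s : G)⁻¹) * (s : G) := by rw [h3]
      _ = (s : G) * z := by group

/-- In a finite 2-subgroup containing the isolated involution `z`, the only conjugate of `z`
is `z` itself. -/
theorem conj_eq_of_mem_two_group {G : Type*} [Group G] [Finite G] {z : G}
    (hz : Cfsg.IsIsolatedInvolution z) (S : Subgroup G) (hS : IsPGroup 2 S) (hzS : z ∈ S)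
    (g : G) (hg : g * z * g⁻¹ ∈ S) : g * z * g⁻¹ = z := by
  apply hz.2
  exact (central_of_mem_two_group hz S hS hzS _ hg).symm

/-- The product of a conjugate of an isolated involution `z` with `z` has odd order. -/
theorem odd_orderOf_conj_mul {G : Type*} [Group G] [Finite G] {z : G}
    (hz : Cfsg.IsIsolatedInvolution z) (g : G) : Odd (orderOf (g * z * g⁻¹ * z)) := by
  set t := g * z * g⁻¹ with ht
  set r := t * z with hr
  have hzz : z * z = 1 := sq_eq_one hz
  have hzinv : z⁻¹ = z := inv_eq hz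
  have htt : t * t = 1 := by
    rw [ht]
    calc g * z * g⁻¹ * (g * z * g⁻¹) = g * (z * z) * g⁻¹ := by group
      _ = 1 := by rw [hzz]; group
  have htinv : t⁻¹ = t := inv_eq_of_mul_eq_one_left htt
  have hrinv : r⁻¹ = z * t := by rw [hr, mul_inv_rev, hzinv, htinv]
  -- z r = r⁻¹ z
  have hsc : SemiconjBy z r r⁻¹ := by
    show z * r = r⁻¹ * z
    rw [hrinv, hr]; group
  have hsc' : SemiconjBy z r⁻¹ r := by
    show z * r⁻¹ = r * z
    rw [hrinv, hr, ← mul_assoc, hzz, one_mul, mul_assoc, hzz, mul_one]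
  rw [← Nat.not_even_iff_odd]
  intro heven
  obtain ⟨m, hm⟩ := heven
  have hn0 : 0 < orderOf r := orderOf_pos r
  have hm0 : 0 < m := by omega
  set u := r ^ m with hu
  have hu1 : u ≠ 1 := pow_ne_one_of_lt_orderOf hm0.ne' (by omega)
  have huu : u * u = 1 := by
    rw [hu, ← pow_add, ← hm, pow_orderOf_eq_one]
  have huinv : u⁻¹ = u := inv_eq_of_mul_eq_one_left huu
  -- z commutes with u
  have hzu : z * u = u * z := by
    have h1 : z * r ^ m = r⁻¹ ^ m * z := (hsc.pow_right m).eq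
    rw [hu, h1, inv_pow, ← hu, huinv]
  -- u * z is a conjugate of z
  have hconj : ∃ x : G, x * z * x⁻¹ = u * z := by
    rcases Nat.even_or_odd' m with ⟨i, hi | hi⟩
    · refine ⟨r ^ i, ?_⟩
      have h1 : z * (r ^ i)⁻¹ = r ^ i * z := by
        rw [← inv_pow]; exact (hsc'.pow_right i).eq
      calc r ^ i * z * (r ^ i)⁻¹ = r ^ i * (z * (r ^ i)⁻¹) := by group
        _ = r ^ i * (r ^ i * z) := by rw [h1]
        _ = r ^ (i + i) * z := by rw [pow_add]; group
        _ = u * z := by rw [hu, hi]; congr 2; omega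
    · refine ⟨r ^ i * g, ?_⟩
      have h1 : z * (r ^ i)⁻¹ = r ^ i * z := by
        rw [← inv_pow]; exact (hsc'.pow_right i).eq
      have h2 : t = r * z := by rw [hr, mul_assoc, hzz, mul_one]
      calc r ^ i * g * z * (r ^ i * g)⁻¹ = r ^ i * t * (r ^ i)⁻¹ := by rw [ht]; group
        _ = r ^ i * r * (z * (r ^ i)⁻¹) := by rw [h2]; group
        _ = r ^ i * r * (r ^ i * z) := by rw [h1]
        _ = r ^ (i + 1 + i) * z := by rw [pow_add, pow_succ]; group
        _ = u * z := by rw [hu, hi]; congr 2; omega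
  obtain ⟨x, hx⟩ := hconj
  have h3 : x * z * x⁻¹ = z := by
    apply hz.2
    show z * (x * z * x⁻¹) = x * z * x⁻¹ * z
    rw [hx, ← mul_assoc, hzu]
  rw [hx] at h3
  exact hu1 (mul_right_cancel (h3.trans (one_mul z).symm))

/-- For an isolated involution `z` and `g : G`, with `r = g z g⁻¹ z` of odd order `2j+1`,
the element `k = r^(j+1)` conjugates `z` to `g z g⁻¹`. -/
theorem exists_pow_conj {G : Type*} [Group G] [Finite G] {z : G}
    (hz : Cfsg.IsIsolatedInvolution z) (g : G) :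
    ∃ j : ℕ, orderOf (g * z * g⁻¹ * z) = 2 * j + 1 ∧
      (g * z * g⁻¹ * z) ^ (j + 1) * z * ((g * z * g⁻¹ * z) ^ (j + 1))⁻¹ = g * z * g⁻¹ := by
  obtain ⟨j, hj⟩ := odd_orderOf_conj_mul hz g
  refine ⟨j, hj, ?_⟩
  set t := g * z * g⁻¹ with ht
  set r := t * z with hr
  have hzz : z * z = 1 := sq_eq_one hz
  have hzinv : z⁻¹ = z := inv_eq hz
  have htt : t * t = 1 := by
    rw [ht]
    calc g * z * g⁻¹ * (g * z * g⁻¹) = g * (z * z) * g⁻¹ := by group
      _ = 1 := by rw [hzz]; group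
  have htinv : t⁻¹ = t := inv_eq_of_mul_eq_one_left htt
  have hrinv : r⁻¹ = z * t := by rw [hr, mul_inv_rev, hzinv, htinv]
  have hsc' : SemiconjBy z r⁻¹ r := by
    show z * r⁻¹ = r * z
    rw [hrinv, hr, ← mul_assoc, hzz, one_mul, mul_assoc, hzz, mul_one]
  have h1 : z * (r ^ (j + 1))⁻¹ = r ^ (j + 1) * z := by
    rw [← inv_pow]; exact (hsc'.pow_right (j + 1)).eq
  calc r ^ (j + 1) * z * (r ^ (j + 1))⁻¹ = r ^ (j + 1) * (z * (r ^ (j + 1))⁻¹) := by group
    _ = r ^ (j + 1) * (r ^ (j + 1) * z) := by rw [h1]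
    _ = r ^ (orderOf r + 1) * z := by
        rw [← mul_assoc, ← pow_add]; congr 2; omega
    _ = r * z := by rw [pow_succ, pow_orderOf_eq_one, one_mul]
    _ = t := by rw [hr, mul_assoc, hzz, mul_one]

end Cfsg.Agent.Lib.Helper2_Isolated
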