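import Mathlib
import Cfsg.Prelude.Def_Characters
import Cfsg.Prelude.Def_Blocks
import Cfsg.Prelude.Def_BlockRank
import Cfsg.Agent.Lib.Helper2_ClassFn
import Cfsg.Agent.Lib.Helper2_CharBasic
import Cfsg.Agent.Lib.Helper2_CharOrtho
import Cfsg.Agent.Lib.Helper2_Clifford
import Cfsg.Agent.Lib.Helper2_CharMore
import Cfsg.Agent.Lib.Helper2_CharDeg
import Cfsg.Agent.Lib.Helper2_CharInd
import Cfsg.Agent.Lib.Helper2_CharExtra
import Cfsg.Agent.Lib.Helper2_CharInt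
import Cfsg.Agent.Lib.Helper2_CharValues
import Cfsg.Agent.Lib.Helper2_CharSum
import Cfsg.Agent.Lib.Helper2_CharComplete
import Cfsg.Agent.Lib.Helper2_CharTable
import Cfsg.Agent.Lib.Helper2_CharCentral
import Cfsg.Agent.Lib.Helper2_ModM
import Cfsg.Agent.Lib.Helper2_Blocks
import Cfsg.Agent.Lib.Helper2_BlockOrtho
import Cfsg.Agent.Lib.Helper2_BlockMore
import Cfsg.Agent.Lib.Helper2_DefectGroup
import Cfsg.Agent.Lib.Helper2_DefectPCore
import Cfsg.Agent.Lib.Helper2_MinMax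
import Cfsg.Agent.Lib.Helper2_InducedBlock
import Cfsg.Agent.Lib.Helper2_BrauerMap
import Cfsg.Agent.Lib.Helper2_InducedDefect
import Cfsg.Agent.Lib.Helper2_BrauerFirst
import Cfsg.Agent.Lib.Helper2_BrauerConverse
import Cfsg.Agent.Lib.Helper2_SylowConj
import Cfsg.Agent.Lib.Helper2_BlockCover
import Cfsg.Agent.Lib.Helper2_BlockConj
import Cfsg.Agent.Lib.Helper2_FirstMain
import Cfsg.Agent.Lib.Helper2_BlockNormal
import Cfsg.Agent.Lib.Helper2_BlockCount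
import Cfsg.Agent.Lib.Helper2_BlockCount2
import Cfsg.Agent.Lib.Helper2_BlockKer
import Cfsg.Agent.Lib.Helper2_PRegCount
import Cfsg.Agent.Lib.Helper2_ExtFirstMain
import Cfsg.Agent.Lib.Helper2_ThirdMain
import Cfsg.Agent.Lib.Helper2_BlockRank
import Cfsg.Agent.Lib.Helper2_BlockIndep
import Cfsg.Agent.Lib.Helper2_CentralDefect
import Cfsg.Agent.Lib.Helper2_CentralDefect2
import Cfsg.Agent.Lib.Helper2_DefectZero
import Cfsg.Agent.Lib.Helper2_RegPartPow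
import Cfsg.Agent.Lib.Helper2_CharCenter
import Cfsg.Agent.Lib.Helper2_Linking


set_option autoImplicit false

/-!
# Blocks with a single irreducible Brauer character
-/

namespace Cfsg.Agent.Lib.Helper2_RankOne

open Cfsg
open Cfsg.Agent.Lib.Helper2_ClassFn
open Cfsg.Agent.Lib.Helper2_CharBasic
open Cfsg.Agent.Lib.Helper2_CharOrtho
open Cfsg.Agent.Lib.Helper2_Clifford
open Cfsg.Agent.Lib.Helper2_CharMore
open Cfsg.Agent.Lib.Helper2_CharDeg
open Cfsg.Agent.Lib.Helper2_CharInd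
open Cfsg.Agent.Lib.Helper2_CharExtra
open Cfsg.Agent.Lib.Helper2_CharValues
open Cfsg.Agent.Lib.Helper2_CharSum
open Cfsg.Agent.Lib.Helper2_CharComplete
open Cfsg.Agent.Lib.Helper2_CharTable
open Cfsg.Agent.Lib.Helper2_CharCentral
open Cfsg.Agent.Lib.Helper2_ModM
open Cfsg.Agent.Lib.Helper2_Blocks
open Cfsg.Agent.Lib.Helper2_BlockOrtho
open Cfsg.Agent.Lib.Helper2_BlockMore
open Cfsg.Agent.Lib.Helper2_DefectGroup
open Cfsg.Agent.Lib.Helper2_DefectPCore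
open Cfsg.Agent.Lib.Helper2_MinMax
open Cfsg.Agent.Lib.Helper2_InducedBlock
open Cfsg.Agent.Lib.Helper2_BrauerMap
open Cfsg.Agent.Lib.Helper2_InducedDefect
open Cfsg.Agent.Lib.Helper2_BrauerFirst
open Cfsg.Agent.Lib.Helper2_BrauerConverse
open Cfsg.Agent.Lib.Helper2_SylowConj
open Cfsg.Agent.Lib.Helper2_BlockCover
open Cfsg.Agent.Lib.Helper2_BlockConj
open Cfsg.Agent.Lib.Helper2_FirstMain
open Cfsg.Agent.Lib.Helper2_BlockNormal
open Cfsg.Agent.Lib.Helper2_BlockCount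
open Cfsg.Agent.Lib.Helper2_BlockCount2
open Cfsg.Agent.Lib.Helper2_BlockKer
open Cfsg.Agent.Lib.Helper2_PRegCount
open Cfsg.Agent.Lib.Helper2_ExtFirstMain
open Cfsg.Agent.Lib.Helper2_ThirdMain
open Cfsg.Agent.Lib.Helper2_BlockRank
open Cfsg.Agent.Lib.Helper2_BlockIndep
open Cfsg.Agent.Lib.Helper2_CentralDefect
open Cfsg.Agent.Lib.Helper2_CentralDefect2
open Cfsg.Agent.Lib.Helper2_DefectZero
open Cfsg.Agent.Lib.Helper2_RegPartPow
open Cfsg.Agent.Lib.Helper2_CharCenter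
open Cfsg.Agent.Lib.Helper2_Linking
open scoped ComplexConjugate

universe u


variable {G : Type u} [Group G] [Fintype G] {M : Ideal AlgInt}

open Classical in
theorem finsum_mem_eq_sum_nat (B : Set (IrrCharacter G)) (F : (G → ℂ) → ℕ) :
    ∑ᶠ χ ∈ B, F (χ : G → ℂ) = ∑ ψ ∈ irrFinset G, if MemB B ψ then F ψ else 0 := by
  rw [finsum_mem_def]
  have := finsum_irr_eq_sum (G := G) (fun ψ => if MemB B ψ then F ψ else 0)
  rw [← this]
  refine finsum_congr fun χ => ?_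
  rw [Set.indicator_apply]
  simp only [memB_coe]

/-- A block with `l(B) = 1`: every member is a natural multiple of a common "Brauer character"
on `p`-regular elements, and the squares of the multiplicities sum to the order of a defect
group. -/
theorem rankOne_structure {p : ℕ} [hp : Fact p.Prime] (hM : IsPModular p M) (χ₀ : IrrCharacter G)
    (P : Subgroup G) (hP : IsDefectGroup p M (blockOf M (χ₀ : G → ℂ)) P)
    (hl : blockRank p (blockOf M (χ₀ : G → ℂ)) = 1) :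
    ∃ φ : G → ℂ, ∃ d : IrrCharacter G → ℕ,
      (∃ n : IrrCharacter G → ℤ, ∀ x : G, IsPRegular p x →
        φ x = ∑ᶠ ψ ∈ blockOf M (χ₀ : G → ℂ), (n ψ : ℂ) * (ψ : G → ℂ) x) ∧
      (∀ χ ∈ blockOf M (χ₀ : G → ℂ), ∀ x : G, IsPRegular p x →
        (χ : G → ℂ) x = (d χ : ℂ) * φ x) ∧
      ∑ᶠ χ ∈ blockOf M (χ₀ : G → ℂ), d χ ^ 2 = Nat.card P := by
  classical
  have hMm := hM.2.1
  set B := blockOf M (χ₀ : G → ℂ) with hB
  have hχ₀B : χ₀ ∈ B := self_mem_blockOf hMm χ₀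
  set S : Finset (G → ℂ) := (irrFinset G).filter (MemB B) with hS
  have hSmem : ∀ ψ, ψ ∈ S ↔ ∃ h : IsIrrCharacter G ψ, (⟨ψ, h⟩ : IrrCharacter G) ∈ B := by
    intro ψ
    rw [hS, Finset.mem_filter]
    constructor
    · rintro ⟨_, h⟩
      exact h
    · rintro ⟨h, hm⟩
      exact ⟨mem_irrFinset.mpr h, h, hm⟩
  have hχ₀S : (χ₀ : G → ℂ) ∈ S := (hSmem _).mpr ⟨χ₀.2, hχ₀B⟩
  have hSirr : ∀ ψ ∈ S, IsIrrCharacter G ψ := fun ψ hψ => by
    obtain ⟨h, _⟩ := (hSmem ψ).mp hψ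
    exact h
  have hdegC : ∀ ψ ∈ S, ψ 1 = (charDegree ψ : ℂ) ∧ 0 < charDegree ψ := fun ψ hψ =>
    apply_one_eq_charDegree (hSirr ψ hψ)
  have h1reg : ¬ p ∣ orderOf (1 : G) := by
    rw [orderOf_one]
    exact hp.out.one_lt.ne' ∘ Nat.dvd_one.mp
  set deg₀ := charDegree (χ₀ : G → ℂ) with hdeg₀def
  have hdeg₀ : (χ₀ : G → ℂ) 1 = (deg₀ : ℂ) := (hdegC _ hχ₀S).1
  have hdeg₀pos : 0 < deg₀ := (hdegC _ hχ₀S).2
  have hdeg₀C : (deg₀ : ℂ) ≠ 0 := by exact_mod_cast hdeg₀pos.ne'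
  -- proportionality from rank one
  have hprop : ∀ ψ ∈ S, ∀ x, ¬ p ∣ orderOf x →
      ψ x * (deg₀ : ℂ) = (charDegree ψ : ℂ) * (χ₀ : G → ℂ) x := by
    intro ψ hψ x hx
    obtain ⟨hψirr, hψB⟩ := (hSmem ψ).mp hψ
    have hv0 : pRegularPart p (χ₀ : G → ℂ) ∈ Submodule.span ℂ
        ((fun χ : IrrCharacter G => pRegularPart p (χ : G → ℂ)) '' B) :=
      Submodule.subset_span ⟨χ₀, hχ₀B, rfl⟩
    have hvψ : pRegularPart p ψ ∈ Submodule.span ℂ
        ((fun χ : IrrCharacter G => pRegularPart p (χ : G → ℂ)) '' B) :=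
      Submodule.subset_span ⟨⟨ψ, hψirr⟩, hψB, rfl⟩
    have hnz : (⟨_, hv0⟩ : Submodule.span ℂ
        ((fun χ : IrrCharacter G => pRegularPart p (χ : G → ℂ)) '' B)) ≠ 0 := by
      intro h0
      have h2 := congrArg Subtype.val h0
      have h3 := congrFun h2 1
      simp only [ZeroMemClass.coe_zero, Pi.zero_apply] at h3
      rw [pRegularPart_eq_rp, rp_of_not_dvd h1reg] at h3
      exact IsIrrCharacter.apply_one_ne_zero χ₀.2 h3
    obtain ⟨c, hc⟩ := (finrank_eq_one_iff_of_nonzero' _ hnz).mp hl ⟨_, hvψ⟩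
    have hc' : c • pRegularPart p (χ₀ : G → ℂ) = pRegularPart p ψ := congrArg Subtype.val hc
    rw [pRegularPart_eq_rp, pRegularPart_eq_rp] at hc'
    have e1 := congrFun hc' 1
    have ex := congrFun hc' x
    simp only [Pi.smul_apply, smul_eq_mul] at e1 ex
    rw [rp_of_not_dvd h1reg, rp_of_not_dvd h1reg] at e1
    rw [rp_of_not_dvd hx, rp_of_not_dvd hx] at ex
    have h1 : (charDegree ψ : ℂ) = c * (deg₀ : ℂ) := by
      rw [← (hdegC ψ hψ).1, ← hdeg₀]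
      exact e1.symm
    rw [h1, ← ex]
    ring
  -- gcd and Bezout
  obtain ⟨n', hn'⟩ := Finset.gcd_eq_sum_mul S (fun ψ => (charDegree ψ : ℤ))
  set gz : ℤ := S.gcd (fun ψ => (charDegree ψ : ℤ)) with hgz
  set g : ℕ := gz.natAbs with hg
  have hgdvd : ∀ ψ ∈ S, g ∣ charDegree ψ := by
    intro ψ hψ
    have h1 : gz ∣ (charDegree ψ : ℤ) := Finset.gcd_dvd hψ
    exact Int.natCast_dvd_natCast.mp (Int.natAbs_dvd.mpr h1)
  have hg0 : 0 < g := Nat.pos_of_dvd_of_pos (hgdvd _ hχ₀S) hdeg₀pos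
  have hgC : (g : ℂ) ≠ 0 := by exact_mod_cast hg0.ne'
  obtain ⟨m, hm⟩ : ∃ m : (G → ℂ) → ℤ, (g : ℤ) = ∑ ψ ∈ S, (charDegree ψ : ℤ) * m ψ := by
    rcases Int.natAbs_eq gz with h | h
    · refine ⟨n', ?_⟩
      rw [← hn']
      exact h.symm
    · refine ⟨fun ψ => - n' ψ, ?_⟩
      have h2 : ((g : ℕ) : ℤ) = - gz := by rw [hg]; linarith [h]
      rw [h2, hn', ← Finset.sum_neg_distrib]
      exact Finset.sum_congr rfl fun ψ _ => by ring
  set dN : (G → ℂ) → ℕ := fun ψ => charDegree ψ / g with hdN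
  have hdg : ∀ ψ ∈ S, dN ψ * g = charDegree ψ := fun ψ hψ =>
    Nat.div_mul_cancel (hgdvd ψ hψ)
  have hdgC : ∀ ψ ∈ S, (charDegree ψ : ℂ) = (dN ψ : ℂ) * (g : ℂ) := by
    intro ψ hψ
    rw [← hdg ψ hψ]
    push_cast
    ring
  have hbez : ∑ ψ ∈ S, (dN ψ : ℤ) * m ψ = 1 := by
    have h1 : (g : ℤ) * ∑ ψ ∈ S, (dN ψ : ℤ) * m ψ = (g : ℤ) * 1 := by
      rw [Finset.mul_sum, mul_one]
      conv_rhs => rw [hm]
      refine Finset.sum_congr rfl fun ψ hψ => ?_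
      rw [← hdg ψ hψ]
      push_cast
      ring
    exact mul_left_cancel₀ (by exact_mod_cast hg0.ne') h1
  set φ : G → ℂ := fun x => (g : ℂ) * (χ₀ : G → ℂ) x / (deg₀ : ℂ) with hφ
  have h2 : ∀ ψ ∈ S, ∀ x, ¬ p ∣ orderOf x → ψ x = (dN ψ : ℂ) * φ x := by
    intro ψ hψ x hx
    have h := hprop ψ hψ x hx
    rw [hdgC ψ hψ] at h
    rw [hφ]
    simp only
    field_simp
    linear_combination h
  have h1 : ∀ x, ¬ p ∣ orderOf x → φ x = ∑ ψ ∈ S, (m ψ : ℂ) * ψ x := by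
    intro x hx
    have h3 : ∀ ψ ∈ S, (m ψ : ℂ) * ψ x
        = (((charDegree ψ : ℤ) * m ψ : ℤ) : ℂ) * ((χ₀ : G → ℂ) x / (deg₀ : ℂ)) := by
      intro ψ hψ
      have h := hprop ψ hψ x hx
      push_cast
      field_simp
      linear_combination (m ψ : ℂ) * h
    rw [Finset.sum_congr rfl h3, ← Finset.sum_mul, ← Int.cast_sum, ← hm, hφ]
    simp only
    push_cast
    ring
  -- defect data
  set n := (Nat.card G).factorization p with hn
  have hcardP := card_defectGroup hM χ₀ P hP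
  have hne : ((fun χ : IrrCharacter G => (charDegree (χ : G → ℂ)).factorization p) '' B).Nonempty :=
    ⟨_, χ₀, hχ₀B, rfl⟩
  set s := sInf ((fun χ : IrrCharacter G => (charDegree (χ : G → ℂ)).factorization p) '' B)
    with hs
  obtain ⟨χ₁, hχ₁B, hχ₁s⟩ := Nat.sInf_mem hne
  have hsle : ∀ χ ∈ B, s ≤ (charDegree (χ : G → ℂ)).factorization p := fun χ hχ =>
    Nat.sInf_le ⟨χ, hχ, rfl⟩
  have hsn : s ≤ n := by
    obtain ⟨d, hdpos, hd⟩ := IsIrrCharacter.apply_one χ₁.2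
    have hdvd : d ∣ Nat.card G := Cfsg.Agent.Lib.Helper2_CharInt.degree_dvd_card χ₁.2 d hd
    have h3 : d.factorization p ≤ n :=
      (Nat.factorization_le_iff_dvd hdpos.ne' Nat.card_pos.ne').mpr hdvd p
    rw [hs, ← hχ₁s]
    simp only
    rw [charDegree_eq' hd]
    exact h3
  set δ := n - s with hδdef
  have hPcard : Nat.card P = p ^ δ := hcardP
  -- integrality
  have hint : ∀ χ ∈ S, ∀ ψ ∈ S, ∃ k : ℤ, ((p : ℂ) ^ δ) * classInner (rp p χ) ψ = k := by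
    intro χ hχ ψ hψ
    obtain ⟨hχirr, hχB⟩ := (hSmem χ).mp hχ
    obtain ⟨d, hdpos, hd⟩ := IsIrrCharacter.apply_one hχirr
    have hk : δ ≤ n := Nat.sub_le n s
    have hdvd : p ^ (n - δ) ∣ d := by
      have h3 := hsle ⟨χ, hχirr⟩ hχB
      simp only at h3
      rw [charDegree_eq' hd] at h3
      have e : n - δ = s := by omega
      rw [e]
      exact (pow_dvd_pow p h3).trans (Nat.ordProj_dvd d p)
    obtain ⟨k, hk'⟩ := regPartPow_classInner_int hχirr (hSirr ψ hψ) p δ hk d hd hdvd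
    exact ⟨k, by rw [rp_eq_regPart]; exact hk'⟩
  set T := classInner (rp p (χ₀ : G → ℂ)) (χ₀ : G → ℂ) with hT
  have hTreal : conj T = T := (classInner_rp_symm p (χ₀ : G → ℂ) (χ₀ : G → ℂ)).symm
  have hrp : ∀ χ ∈ S, rp p χ = ((charDegree χ : ℂ) / (deg₀ : ℂ)) • rp p (χ₀ : G → ℂ) := by
    intro χ hχ
    funext x
    simp only [Pi.smul_apply, smul_eq_mul]
    by_cases hx : p ∣ orderOf x
    · rw [rp_of_dvd hx, rp_of_dvd hx, mul_zero]
    · rw [rp_of_not_dvd hx, rp_of_not_dvd hx]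
      have h := hprop χ hχ x hx
      field_simp
      linear_combination h
  set t : ℂ := (g : ℂ) ^ 2 * T / (deg₀ : ℂ) ^ 2 with ht
  have hmform : ∀ χ ∈ S, ∀ ψ ∈ S,
      classInner (rp p χ) ψ = (dN χ : ℂ) * (dN ψ : ℂ) * t := by
    intro χ hχ ψ hψ
    rw [hrp χ hχ, classInner_smul_left, classInner_rp_symm p (χ₀ : G → ℂ) ψ, hrp ψ hψ,
      classInner_smul_left, map_mul, hTreal, map_div₀, map_natCast, map_natCast,
      hdgC χ hχ, hdgC ψ hψ, ht]
    field_simp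
  set c : ℕ := ∑ ψ ∈ S, dN ψ ^ 2 with hc
  have hexpS : ∀ y : G, rp p (χ₀ : G → ℂ) y
      = ∑ ψ ∈ S, classInner (rp p (χ₀ : G → ℂ)) ψ * ψ y := by
    intro y
    rw [rp_block_expansion hM χ₀.2 χ₀.2 (sameBlock_refl hMm _) y, hS, Finset.sum_filter]
    refine Finset.sum_congr rfl fun ψ hψ => ?_
    have hiff : MemB B ψ ↔ SameBlock M (χ₀ : G → ℂ) ψ := memB_blockOf _ hψ
    by_cases h : SameBlock M (χ₀ : G → ℂ) ψ
    · rw [if_pos h, if_pos (hiff.mpr h)]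
    · rw [if_neg h, if_neg (fun h' => h (hiff.mp h'))]
  have hdg₀C : (deg₀ : ℂ) = (dN (χ₀ : G → ℂ) : ℂ) * (g : ℂ) := hdgC _ hχ₀S
  have htc : t * (c : ℂ) = 1 := by
    have h3 := hexpS 1
    rw [rp_of_not_dvd h1reg, hdeg₀] at h3
    have h4 : ∑ ψ ∈ S, classInner (rp p (χ₀ : G → ℂ)) ψ * ψ 1
        = (deg₀ : ℂ) * (t * (c : ℂ)) := by
      rw [hc]
      push_cast
      rw [Finset.mul_sum, Finset.mul_sum]
      refine Finset.sum_congr rfl fun ψ hψ => ?_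
      rw [hmform _ hχ₀S ψ hψ, (hdegC ψ hψ).1, hdgC ψ hψ, hdg₀C]
      ring
    rw [h4] at h3
    exact mul_left_cancel₀ hdeg₀C (h3.symm.trans (mul_one _).symm)
  have hd0pos : 0 < dN (χ₀ : G → ℂ) := by
    have h := hdg _ hχ₀S
    rcases Nat.eq_zero_or_pos (dN (χ₀ : G → ℂ)) with h0 | h0
    · rw [h0, zero_mul] at h
      omega
    · exact h0
  have hc0 : 0 < c := by
    rw [hc]
    apply Finset.sum_pos' (fun _ _ => Nat.zero_le _)
    exact ⟨_, hχ₀S, by positivity⟩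
  have hcdvd : c ∣ p ^ δ := by
    have hmem : ((p : ℂ) ^ δ) * t ∈ (Int.castRingHom ℂ).range := by
      have hb : (∑ ψ ∈ S, (dN ψ : ℂ) * (m ψ : ℂ)) = 1 := by exact_mod_cast hbez
      have h3 : ((p : ℂ) ^ δ) * t = ∑ χ ∈ S, ∑ ψ ∈ S,
          ((m χ : ℂ) * (m ψ : ℂ)) * (((p : ℂ) ^ δ) * classInner (rp p χ) ψ) := by
        calc ((p : ℂ) ^ δ) * t
            = ((p : ℂ) ^ δ) * t * ((∑ χ ∈ S, (dN χ : ℂ) * (m χ : ℂ))
                * (∑ ψ ∈ S, (dN ψ : ℂ) * (m ψ : ℂ))) := by rw [hb]; ring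
          _ = _ := by
            rw [Finset.sum_mul_sum, Finset.mul_sum]
            refine Finset.sum_congr rfl fun χ hχ => ?_
            rw [Finset.mul_sum]
            refine Finset.sum_congr rfl fun ψ hψ => ?_
            rw [hmform χ hχ ψ hψ]
            ring
      rw [h3]
      refine Subring.sum_mem _ fun χ hχ => Subring.sum_mem _ fun ψ hψ => ?_
      obtain ⟨k, hk⟩ := hint χ hχ ψ hψ
      rw [hk]
      exact ⟨m χ * m ψ * k, by simp⟩
    obtain ⟨K, hK⟩ := hmem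
    have hK' : (K : ℂ) = (p : ℂ) ^ δ * t := hK
    have h4 : ((p ^ δ : ℕ) : ℤ) = K * (c : ℤ) := by
      have h5 : ((p : ℂ) ^ δ) = (K : ℂ) * (c : ℂ) := by
        rw [hK', mul_assoc, htc, mul_one]
      exact_mod_cast h5
    exact Int.natCast_dvd_natCast.mp ⟨K, by rw [h4]; ring⟩
  have hpdvd : p ^ δ ∣ c := by
    set Φ : G → ℂ := ∑ ψ ∈ S, dN ψ • ψ with hΦ
    have hΦc : IsCharacter G Φ := IsCharacter.sum S fun ψ hψ =>
      IsCharacter.nsmul _ (IsIrrCharacter.isCharacter (hSirr ψ hψ))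
    have ht0 : t ≠ 0 := by
      intro h0
      rw [h0, zero_mul] at htc
      exact zero_ne_one htc
    have hd0 : (dN (χ₀ : G → ℂ) : ℂ) ≠ 0 := by exact_mod_cast hd0pos.ne'
    have hv : ∀ y : G, p ∣ orderOf y → Φ y = 0 := by
      intro y hy
      have h3 := hexpS y
      rw [rp_of_dvd hy] at h3
      have h4 : ∑ ψ ∈ S, classInner (rp p (χ₀ : G → ℂ)) ψ * ψ y
          = (dN (χ₀ : G → ℂ) : ℂ) * t * Φ y := by
        rw [hΦ, Finset.sum_apply, Finset.mul_sum]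
        refine Finset.sum_congr rfl fun ψ hψ => ?_
        rw [hmform _ hχ₀S ψ hψ]
        simp only [Pi.smul_apply, nsmul_eq_mul]
        ring
      rw [h4] at h3
      rcases mul_eq_zero.mp h3.symm with h | h
      · exact absurd h (mul_ne_zero hd0 ht0)
      · exact h
    have hΦ1 : Φ 1 = ((g * c : ℕ) : ℂ) := by
      rw [hΦ, Finset.sum_apply, hc]
      push_cast
      rw [Finset.mul_sum]
      refine Finset.sum_congr rfl fun ψ hψ => ?_
      simp only [Pi.smul_apply, nsmul_eq_mul]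
      rw [(hdegC ψ hψ).1, hdgC ψ hψ]
      ring
    have h5 := pow_dvd_of_vanish p hΦc hv (g * c) hΦ1
    have hgs : g.factorization p ≤ s := by
      have hχ₁S : (χ₁ : G → ℂ) ∈ S := (hSmem _).mpr ⟨χ₁.2, hχ₁B⟩
      have h6 : g ∣ charDegree (χ₁ : G → ℂ) := hgdvd _ hχ₁S
      have h7 := (Nat.factorization_le_iff_dvd hg0.ne' (hdegC _ hχ₁S).2.ne').mpr h6 p
      rw [hs, ← hχ₁s]
      exact h7
    have h8 : n ≤ (g * c).factorization p :=
      (Nat.Prime.pow_dvd_iff_le_factorization hp.out (mul_ne_zero hg0.ne' hc0.ne')).mp h5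
    rw [Nat.factorization_mul hg0.ne' hc0.ne', Finsupp.add_apply] at h8
    apply (Nat.Prime.pow_dvd_iff_le_factorization hp.out hc0.ne').mpr
    omega
  have hcP : c = Nat.card P := by
    rw [hPcard]
    exact Nat.dvd_antisymm hcdvd hpdvd
  refine ⟨φ, fun χ => dN (χ : G → ℂ), ⟨fun ψ => m (ψ : G → ℂ), ?_⟩, ?_, ?_⟩
  · intro x hx
    rw [finsum_mem_eq_sum B (fun ψ => (m ψ : ℂ) * ψ x), h1 x hx, hS, Finset.sum_filter]
  · intro χ hχ x hx
    exact h2 _ ((hSmem _).mpr ⟨χ.2, hχ⟩) x hx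
  · rw [finsum_mem_eq_sum_nat B (fun ψ => dN ψ ^ 2), ← hcP, hc, hS, Finset.sum_filter]

end Cfsg.Agent.Lib.Helper2_RankOne
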