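import Mathlib
import Cfsg.Prelude.Def_Characters
import Cfsg.Prelude.Def_Blocks
import Cfsg.Prelude.Def_BlockRank
import Cfsg.Agent.Lib.Helper2_ClassFn
import Cfsg.Agent.Lib.Helper2_CharBasic
import Cfsg.Agent.Lib.Helper2_CharOrtho
import Cfsg.Agent.Lib.Helper2_Clifford
import Cfsg.Agent.Lib.Helper2_CharMore
import Cfsg.Agent.Lib.Helper2_CharDeg
import Cfsg.Agent.Lib.Helper2_CharInd
import Cfsg.Agent.Lib.Helper2_CharExtra
import Cfsg.Agent.Lib.Helper2_CharInt
import Cfsg.Agent.Lib.Helper2_CharValues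
import Cfsg.Agent.Lib.Helper2_CharSum
import Cfsg.Agent.Lib.Helper2_CharCentral
import Cfsg.Agent.Lib.Helper2_ModM
import Cfsg.Agent.Lib.Helper2_Blocks
import Cfsg.Agent.Lib.Helper2_BlockOrtho
import Cfsg.Agent.Lib.Helper2_BlockMore
import Cfsg.Agent.Lib.Helper2_DefectGroup
import Cfsg.Agent.Lib.Helper2_DefectPCore
import Cfsg.Agent.Lib.Helper2_MinMax
import Cfsg.Agent.Lib.Helper2_InducedBlock
import Cfsg.Agent.Lib.Helper2_BrauerMap
import Cfsg.Agent.Lib.Helper2_InducedDefect
import Cfsg.Agent.Lib.Helper2_BrauerFirst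
import Cfsg.Agent.Lib.Helper2_BrauerConverse
import Cfsg.Agent.Lib.Helper2_SylowConj
import Cfsg.Agent.Lib.Helper2_BlockCover
import Cfsg.Agent.Lib.Helper2_BlockConj
import Cfsg.Agent.Lib.Helper2_FirstMain
import Cfsg.Agent.Lib.Helper2_BlockNormal
import Cfsg.Agent.Lib.Helper2_Fong
import Cfsg.Agent.Lib.Helper2_CharComplete
import Cfsg.Agent.Lib.Helper2_RankOne
import Cfsg.Agent.Lib.Helper2_BlockKer
import Cfsg.Agent.Lib.Helper2_PrincipalCrit

set_option autoImplicit false

/-!
# Squared degrees over the principal block and normal subgroups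
-/

namespace Cfsg.Agent.Lib.Helper2_LambdaNormal

open Cfsg
open Cfsg.Agent.Lib.Helper2_ClassFn
open Cfsg.Agent.Lib.Helper2_CharBasic
open Cfsg.Agent.Lib.Helper2_CharOrtho
open Cfsg.Agent.Lib.Helper2_Clifford
open Cfsg.Agent.Lib.Helper2_CharMore
open Cfsg.Agent.Lib.Helper2_CharDeg
open Cfsg.Agent.Lib.Helper2_CharInd
open Cfsg.Agent.Lib.Helper2_CharExtra
open Cfsg.Agent.Lib.Helper2_CharValues
open Cfsg.Agent.Lib.Helper2_CharSum
open Cfsg.Agent.Lib.Helper2_CharCentral
open Cfsg.Agent.Lib.Helper2_ModM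
open Cfsg.Agent.Lib.Helper2_Blocks
open Cfsg.Agent.Lib.Helper2_BlockOrtho
open Cfsg.Agent.Lib.Helper2_BlockMore
open Cfsg.Agent.Lib.Helper2_DefectGroup
open Cfsg.Agent.Lib.Helper2_DefectPCore
open Cfsg.Agent.Lib.Helper2_MinMax
open Cfsg.Agent.Lib.Helper2_InducedBlock
open Cfsg.Agent.Lib.Helper2_BrauerMap
open Cfsg.Agent.Lib.Helper2_InducedDefect
open Cfsg.Agent.Lib.Helper2_BrauerFirst
open Cfsg.Agent.Lib.Helper2_BrauerConverse
open Cfsg.Agent.Lib.Helper2_SylowConj
open Cfsg.Agent.Lib.Helper2_BlockCover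
open Cfsg.Agent.Lib.Helper2_BlockConj
open Cfsg.Agent.Lib.Helper2_FirstMain
open Cfsg.Agent.Lib.Helper2_BlockNormal
open scoped ComplexConjugate
open Cfsg.Agent.Lib.Helper2_Fong
open Cfsg.Agent.Lib.Helper2_CharComplete
open Cfsg.Agent.Lib.Helper2_RankOne
open Cfsg.Agent.Lib.Helper2_BlockKer
open Cfsg.Agent.Lib.Helper2_PrincipalCrit

universe u

variable {G : Type u} [Group G] [Fintype G] {M : Ideal AlgInt}
variable (H : Subgroup G) [hN : H.Normal] [Fintype H]

theorem invariant_principal : Invariant H (principalBlock M H) := by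
  intro g θ hθ θ' h
  have heq : (θ' : H → ℂ) = conjFn H (θ : H → ℂ) g := funext fun n => by
    rw [conjFn_apply]; exact h n
  have h1 := sameBlock_conjFn (M := M) H hθ g
  have h2 : conjFn H (fun _ : H => (1 : ℂ)) g = fun _ => 1 := funext fun n => by
    rw [conjFn_apply]
  rw [h2, ← heq] at h1
  exact h1

/-- Constituents of the restriction of a principal block character lie in the principal block. -/
theorem under_principal (hM : M.IsMaximal) (χ : IrrCharacter G) (hχ : χ ∈ principalBlock M G)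
    (θ : IrrCharacter H)
    (h : classInner (fun n : H => (χ : G → ℂ) n) (θ : H → ℂ) ≠ 0) :
    θ ∈ principalBlock M H := by
  have h1G : IsIrrCharacter G (fun _ : G => (1 : ℂ)) := isIrrCharacter_one
  have h1H : IsIrrCharacter H (fun _ : H => (1 : ℂ)) := isIrrCharacter_one
  have hm := memB_conjUnion_of_cover H hM (principalBlock M H) ⟨⟨_, h1H⟩, rfl⟩ h1G χ.2
    (fun n => hχ (n : G)) h1H θ.2 ⟨h1H, sameBlock_refl hM _⟩
    (by
      have := classInner_irr_self h1H
      rw [this]; exact one_ne_zero) h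
  rw [conjUnion_eq_of_invariant H _ (invariant_principal H)] at hm
  exact (memB_coe _ θ).mp hm

open Classical in
/-- Every character of the principal block of `H` lies under one of the principal block of
`G`. -/
theorem exists_over_principal {p : ℕ} [hp : Fact p.Prime] (hM : IsPModular p M)
    (θ : IrrCharacter H) (hθ : θ ∈ principalBlock M H) :
    ∃ χ : IrrCharacter G, χ ∈ principalBlock M G ∧
      classInner (fun n : H => (χ : G → ℂ) n) (θ : H → ℂ) ≠ 0 := by
  by_contra hcon
  push Not at hcon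
  have hθc := IsIrrCharacter.isCharacter θ.2
  have hne := regSum_ne_zero_of_mem hM θ hθ
  have h1 : classInner (rp p (fun _ : H => (1 : ℂ))) (θ : H → ℂ) ≠ 0 := by
    rw [classInner_rp_one p hθc]
    exact mul_ne_zero (inv_ne_zero card_ne_zero_complex) hne
  -- Frobenius reciprocity
  have hcf : IsClassFunction G (rp p (fun _ : G => (1 : ℂ))) := rp_one_isClassFunction p
  have hres : (fun h : H => rp p (fun _ : G => (1 : ℂ)) (h : G))
      = rp p (fun _ : H => (1 : ℂ)) := by
    funext h
    by_cases hx : p ∣ orderOf h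
    · rw [rp_of_dvd hx, rp_of_dvd (by rwa [Subgroup.orderOf_coe])]
    · rw [rp_of_not_dvd hx, rp_of_not_dvd (by rwa [Subgroup.orderOf_coe])]
  have h2 : classInner (indFun H (θ : H → ℂ)) (rp p (fun _ : G => (1 : ℂ))) ≠ 0 := by
    rw [frobenius_reciprocity H _ _ hcf, hres, ← classInner_conj_symm]
    intro h0
    apply h1
    have := congrArg conj h0
    rwa [Complex.conj_conj, map_zero] at this
  apply h2
  have hind : IsCharacter G (indFun H (θ : H → ℂ)) := IsCharacter.indFun hθc
  rw [IsClassFunction.expansion (IsCharacter.isClassFunction hind), classInner_sum_left]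
  apply Finset.sum_eq_zero
  intro ψ hψ
  have hψi := mem_irrFinset.mp hψ
  rw [classInner_smul_left]
  by_cases hB : (⟨ψ, hψi⟩ : IrrCharacter G) ∈ principalBlock M G
  · have := hcon ⟨ψ, hψi⟩ hB
    rw [frobenius_reciprocity H _ _ (IsCharacter.isClassFunction (IsIrrCharacter.isCharacter hψi)),
      ← classInner_conj_symm]
    have h3 : classInner (fun h : H => ψ h) (θ : H → ℂ) = 0 := this
    rw [h3, map_zero, zero_mul]
  · have h1G : IsIrrCharacter G (fun _ : G => (1 : ℂ)) := isIrrCharacter_one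
    have h0 := classInner_rp_eq_zero hM h1G h1G (sameBlock_refl hM.2.1 _) hψi hB
    have h5 : classInner ψ (rp p (fun _ : G => (1 : ℂ))) = 0 := by
      rw [← classInner_conj_symm, h0, map_zero]
    rw [h5, mul_zero]

open Classical in
/-- S4708, `Fintype` form. -/
theorem lambda_bounds {p : ℕ} [hp : Fact p.Prime] (hM : IsPModular p M) :
    (∑ᶠ θ ∈ principalBlock M H, charDegree (θ : H → ℂ) ^ 2)
      ≤ (∑ᶠ χ ∈ principalBlock M G, charDegree (χ : G → ℂ) ^ 2)
    ∧ (∑ᶠ χ ∈ principalBlock M G, charDegree (χ : G → ℂ) ^ 2)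
      ≤ H.index * ∑ᶠ θ ∈ principalBlock M H, charDegree (θ : H → ℂ) ^ 2 := by
  have hn : ∀ χ ∈ irrFinset G, ∀ θ ∈ irrFinset H, ∃ n : ℕ,
      classInner (fun h : H => χ h) θ = n := by
    intro χ hχ θ hθ
    exact IsCharacter.classInner_irr_nat
      (IsCharacter.restrict (IsIrrCharacter.isCharacter (mem_irrFinset.mp hχ)) H)
      (mem_irrFinset.mp hθ)
  choose! n hn using hn
  have hF1 : ∀ χ ∈ irrFinset G,
      charDegree χ = ∑ θ ∈ irrFinset H, n χ θ * charDegree θ := by
    intro χ hχ
    have hχi := mem_irrFinset.mp hχ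
    have hres := IsCharacter.restrict (IsIrrCharacter.isCharacter hχi) H
    have hexp := congrFun (IsClassFunction.expansion (IsCharacter.isClassFunction hres)) 1
    rw [Finset.sum_apply] at hexp
    have h1 : χ ((1 : H) : G) = (charDegree χ : ℂ) := by
      rw [Subgroup.coe_one]; exact (apply_one_eq_charDegree hχi).1
    rw [h1] at hexp
    have h2 : ∑ θ ∈ irrFinset H, (classInner (fun h : H => χ h) θ • θ) 1
        = ((∑ θ ∈ irrFinset H, n χ θ * charDegree θ : ℕ) : ℂ) := by
      push_cast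
      refine Finset.sum_congr rfl fun θ hθ => ?_
      rw [Pi.smul_apply, smul_eq_mul, hn χ hχ θ hθ,
        (apply_one_eq_charDegree (mem_irrFinset.mp hθ)).1]
    rw [h2] at hexp
    exact_mod_cast hexp
  have hF2 : ∀ θ ∈ irrFinset H,
      ∑ χ ∈ irrFinset G, charDegree χ * n χ θ = H.index * charDegree θ := by
    intro θ hθ
    have hθi := mem_irrFinset.mp hθ
    have hind : IsCharacter G (indFun H θ) :=
      IsCharacter.indFun (IsIrrCharacter.isCharacter hθi)
    have hexp := congrFun (IsClassFunction.expansion (IsCharacter.isClassFunction hind)) 1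
    rw [Finset.sum_apply, indFun_one, (apply_one_eq_charDegree hθi).1] at hexp
    have h2 : ∑ χ ∈ irrFinset G, (classInner (indFun H θ) χ • χ) 1
        = ((∑ χ ∈ irrFinset G, charDegree χ * n χ θ : ℕ) : ℂ) := by
      push_cast
      refine Finset.sum_congr rfl fun χ hχ => ?_
      have hχi := mem_irrFinset.mp hχ
      rw [Pi.smul_apply, smul_eq_mul,
        frobenius_reciprocity H _ _
          (IsCharacter.isClassFunction (IsIrrCharacter.isCharacter hχi)),
        ← classInner_conj_symm, hn χ hχ θ hθ, Complex.conj_natCast,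
        (apply_one_eq_charDegree hχi).1, mul_comm]
    rw [h2] at hexp
    exact_mod_cast hexp.symm
  rw [finsum_mem_eq_sum_nat (principalBlock M H) (fun θ => charDegree θ ^ 2),
    finsum_mem_eq_sum_nat (principalBlock M G) (fun χ => charDegree χ ^ 2)]
  set A : (H → ℂ) → ℕ := fun θ => ∑ χ ∈ irrFinset G,
    if MemB (principalBlock M G) χ then charDegree χ * n χ θ else 0 with hA
  have hLG : ∑ χ ∈ irrFinset G,
      (if MemB (principalBlock M G) χ then charDegree χ ^ 2 else 0)
      = ∑ θ ∈ irrFinset H, charDegree θ * A θ := by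
    simp only [hA, Finset.mul_sum]
    rw [Finset.sum_comm]
    refine Finset.sum_congr rfl fun χ hχ => ?_
    split_ifs with hm
    · calc charDegree χ ^ 2 = charDegree χ * charDegree χ := pow_two _
        _ = charDegree χ * ∑ θ ∈ irrFinset H, n χ θ * charDegree θ := by
            rw [← hF1 χ hχ]
        _ = _ := by
            rw [Finset.mul_sum]
            exact Finset.sum_congr rfl fun θ _ => by ring
    · simp
  have hA0 : ∀ θ ∈ irrFinset H, ¬ MemB (principalBlock M H) θ → A θ = 0 := by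
    intro θ hθ hnot
    apply Finset.sum_eq_zero
    intro χ hχ
    split_ifs with hm
    · by_contra hne
      have hn0 : n χ θ ≠ 0 := fun h0 => hne (by rw [h0, mul_zero])
      apply hnot
      obtain ⟨hχi, hmem⟩ := hm
      have := under_principal H hM.2.1 ⟨χ, hχi⟩ hmem ⟨θ, mem_irrFinset.mp hθ⟩
        (by
          show classInner (fun h : H => χ h) θ ≠ 0
          rw [hn χ hχ θ hθ]; exact_mod_cast hn0)
      exact ⟨mem_irrFinset.mp hθ, this⟩
    · rfl
  have hAle : ∀ θ ∈ irrFinset H, A θ ≤ H.index * charDegree θ := by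
    intro θ hθ
    rw [← hF2 θ hθ]
    apply Finset.sum_le_sum
    intro χ _
    split_ifs
    · exact le_rfl
    · exact Nat.zero_le _
  have hAge : ∀ θ ∈ irrFinset H, MemB (principalBlock M H) θ → charDegree θ ≤ A θ := by
    intro θ hθ hm
    obtain ⟨hθi, hmem⟩ := hm
    obtain ⟨χ, hχB, hχn⟩ := exists_over_principal H hM ⟨θ, hθi⟩ hmem
    have hχm : (χ : G → ℂ) ∈ irrFinset G := mem_irrFinset.mpr χ.2
    have hn0 : n (χ : G → ℂ) θ ≠ 0 := by
      intro h0
      apply hχn
      show classInner (fun h : H => (χ : G → ℂ) h) θ = 0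
      rw [hn _ hχm θ hθ, h0]; simp
    have h1 : charDegree θ ≤ charDegree (χ : G → ℂ) * n (χ : G → ℂ) θ := by
      have h2 : n (χ : G → ℂ) θ * charDegree θ ≤ charDegree (χ : G → ℂ) := by
        rw [hF1 _ hχm]
        exact Finset.single_le_sum (f := fun θ' => n (χ : G → ℂ) θ' * charDegree θ')
          (fun _ _ => Nat.zero_le _) hθ
      have h3 : 1 ≤ n (χ : G → ℂ) θ := Nat.one_le_iff_ne_zero.mpr hn0
      nlinarith
    refine le_trans h1 ?_
    have := Finset.single_le_sum
      (f := fun χ' => if MemB (principalBlock M G) χ' then charDegree χ' * n χ' θ else 0)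
      (fun _ _ => Nat.zero_le _) hχm
    simp only [if_pos ((memB_coe _ χ).mpr hχB)] at this
    exact this
  rw [hLG]
  constructor
  · apply Finset.sum_le_sum
    intro θ hθ
    split_ifs with hm
    · rw [pow_two]; exact Nat.mul_le_mul_left _ (hAge θ hθ hm)
    · exact Nat.zero_le _
  · rw [Finset.mul_sum]
    apply Finset.sum_le_sum
    intro θ hθ
    split_ifs with hm
    · calc charDegree θ * A θ ≤ charDegree θ * (H.index * charDegree θ) :=
            Nat.mul_le_mul_left _ (hAle θ hθ)
        _ = H.index * charDegree θ ^ 2 := by ring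
    · rw [hA0 θ hθ hm]; simp

end Cfsg.Agent.Lib.Helper2_LambdaNormal
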