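import Mathlib

set_option autoImplicit false

namespace Cfsg.Agent.Lib.Helper5_Sylow

open Subgroup
open scoped Pointwise

/-- If `T ≤ H` is a `p`-subgroup of a finite group and `p ∣ |H : T|`, then `p ∣ |N_H(T) : T|`. -/
theorem dvd_relIndex_inf_normalizer {G : Type*} [Group G] [Finite G] {p : ℕ} [Fact p.Prime]
    {T H : Subgroup G} (hTH : T ≤ H) (hT : IsPGroup p T) (h : p ∣ T.relIndex H) :
    p ∣ T.relIndex (H ⊓ normalizer (T : Set G)) := by
  have hT' : IsPGroup p (T.subgroupOf H) := hT.comap_subtype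
  obtain ⟨n, hn⟩ := IsPGroup.iff_card.mp hT'
  have key := Sylow.card_quotient_normalizer_modEq_card_quotient hn
  have e1 : Nat.card (↥H ⧸ T.subgroupOf H) = T.relIndex H := by
    rw [← Subgroup.index_eq_card]; rfl
  have e2 : Nat.card (normalizer ((T.subgroupOf H : Subgroup H) : Set H) ⧸
      (T.subgroupOf H).comap (normalizer ((T.subgroupOf H : Subgroup H) : Set H)).subtype) =
      T.relIndex (H ⊓ normalizer (T : Set G)) := by
    rw [← Subgroup.index_eq_card, Subgroup.comap_subtype]
    change (T.subgroupOf H).relIndex (normalizer ((T.subgroupOf H : Subgroup H) : Set H)) = _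
    rw [← subgroupOf_normalizer_eq hTH, ← inf_subgroupOf_left (normalizer (T : Set G)) H,
      relIndex_subgroupOf inf_le_left]
  rw [e1, e2] at key
  exact (Nat.modEq_zero_iff_dvd.mp (key.trans (Nat.modEq_zero_iff_dvd.mpr h)))

/-- Two `p`-subgroups `A, B` of a subgroup `K` of a finite group: some `K`-conjugate of `B` lies with `A`
in a common `p`-subgroup of `K`. -/
theorem exists_conj_le_common_pgroup {G : Type*} [Group G] [Finite G] {p : ℕ} [Fact p.Prime]
    {K A B : Subgroup G} (hA : A ≤ K) (hB : B ≤ K) (hAp : IsPGroup p A) (hBp : IsPGroup p B) :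
    ∃ k ∈ K, ∃ R : Subgroup G, IsPGroup p R ∧ R ≤ K ∧ A ≤ R ∧ B.map (MulAut.conj k).toMonoidHom ≤ R := by
  obtain ⟨RA, hRA⟩ := (hAp.comap_subtype (K := K)).exists_le_sylow
  obtain ⟨RB, hRB⟩ := (hBp.comap_subtype (K := K)).exists_le_sylow
  obtain ⟨k, hk⟩ := MulAction.exists_smul_eq (↥K) RB RA
  refine ⟨k, k.2, (RA : Subgroup K).map K.subtype, RA.2.map _, ?_, ?_, ?_⟩
  · exact Subgroup.map_subtype_le _
  · intro a ha
    exact ⟨⟨a, hA ha⟩, hRA (by simpa [Subgroup.mem_subgroupOf] using ha), rfl⟩
  · rintro _ ⟨b, hb, rfl⟩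
    have hb' : (⟨b, hB hb⟩ : K) ∈ (RB : Subgroup K) := hRB (by simpa [Subgroup.mem_subgroupOf] using hb)
    have : MulAut.conj k • (⟨b, hB hb⟩ : K) ∈ MulAut.conj k • (RB : Subgroup K) :=
      Subgroup.smul_mem_pointwise_smul _ _ _ hb'
    rw [Sylow.smul_def] at hk
    rw [← Sylow.pointwise_smul_def, hk] at this
    refine ⟨_, this, ?_⟩
    simp [MulAut.smul_def]

/-- A `p`-subgroup of a finite group can be conjugated into any given Sylow `p`-subgroup. -/
theorem exists_conj_le_sylow {G : Type*} [Group G] [Finite G] {p : ℕ} [Fact p.Prime]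
    {R : Subgroup G} (hR : IsPGroup p R) (P : Sylow p G) :
    ∃ h : G, R.map (MulAut.conj h).toMonoidHom ≤ (P : Subgroup G) := by
  obtain ⟨Q, hQ⟩ := hR.exists_le_sylow
  obtain ⟨h, hh⟩ := MulAction.exists_smul_eq G Q P
  refine ⟨h, ?_⟩
  rintro _ ⟨r, hr, rfl⟩
  have : MulAut.conj h • r ∈ MulAut.conj h • (Q : Subgroup G) :=
    Subgroup.smul_mem_pointwise_smul _ _ _ (hQ hr)
  rw [Sylow.smul_def] at hh
  rw [← Sylow.pointwise_smul_def, hh] at this
  simpa [MulAut.smul_def] using this

/-- If `P` is a cyclic Sylow `p`-subgroup and `n ∈ N(P)` centralizes a nontrivial element of `P`,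
then `n` centralizes `P`. -/
theorem cyclic_sylow_centralizes {G : Type*} [Group G] [Finite G] {p : ℕ} [Fact p.Prime]
    (P : Sylow p G) [hcyc : IsCyclic (P : Subgroup G)]
    (n : G) (hn : n ∈ normalizer ((P : Subgroup G) : Set G)) (x : G) (hxP : x ∈ (P : Subgroup G))
    (hx1 : x ≠ 1) (hnx : n * x * n⁻¹ = x) :
    n ∈ centralizer ((P : Subgroup G) : Set G) := by
  -- P is commutative
  have hPcomm : (P : Subgroup G) ≤ centralizer ((P : Subgroup G) : Set G) := by
    intro a ha
    rw [mem_centralizer_iff]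
    intro b hb
    have := (isMulCommutative_iff.mp (IsCyclic.isMulCommutative (α := (P : Subgroup G)))) ⟨b, hb⟩ ⟨a, ha⟩
    exact congrArg Subtype.val this
  set m := Nat.card (P : Subgroup G) with hm
  set e := (P : Subgroup G).relIndex (normalizer ((P : Subgroup G) : Set G)) with he
  -- n^e ∈ P
  have hne : n ^ e ∈ (P : Subgroup G) := by
    have : ((P : Subgroup G).subgroupOf (normalizer ((P : Subgroup G) : Set G))).Normal :=
      Subgroup.normal_in_normalizer
    have := Subgroup.pow_index_mem ((P : Subgroup G).subgroupOf (normalizer ((P : Subgroup G) : Set G)))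
      (⟨n, hn⟩ : normalizer ((P : Subgroup G) : Set G))
    rw [Subgroup.mem_subgroupOf] at this
    exact this
  -- e coprime to p
  have hep : e.Coprime p := by
    have h1 : e ∣ (P : Subgroup G).index := Subgroup.relIndex_dvd_index_of_le le_normalizer
    have h2 : ¬ p ∣ (P : Subgroup G).index := P.not_dvd_index
    rw [Nat.coprime_comm, Nat.Prime.coprime_iff_not_dvd Fact.out]
    exact fun h => h2 (h.trans h1)
  obtain ⟨j, hj⟩ := IsPGroup.iff_card.mp P.2
  have hem : e.Coprime m := by rw [hm, hj]; exact Nat.Coprime.pow_right j hep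
  -- k₀ = n^m
  set k₀ := n ^ m with hk₀
  have hk₀e : k₀ ^ e = 1 := by
    rw [hk₀, ← pow_mul, mul_comm, pow_mul]
    have := pow_card_eq_one' (G := (P : Subgroup G)) (x := ⟨n ^ e, hne⟩)
    have h2 := congrArg Subtype.val this
    rw [hm]
    exact h2
  have hnm : k₀ ∈ normalizer ((P : Subgroup G) : Set G) := Subgroup.pow_mem _ hn m
  set K : Subgroup G := Subgroup.zpowers k₀ with hK
  have hKP : K ≤ normalizer ((P : Subgroup G) : Set G) := by
    rw [hK, Subgroup.zpowers_le]; exact hnm
  have hcardK : Nat.card K ∣ e := by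
    rw [hK, Nat.card_zpowers]; exact orderOf_dvd_of_pow_eq_one hk₀e
  have hPK : (Nat.card (P : Subgroup G)).Coprime (Nat.card K) :=
    (Nat.Coprime.coprime_dvd_left hcardK hem).symm
  -- elements of K fix x
  have hKx : ∀ k ∈ K, k * x * k⁻¹ = x := by
    have hcx : n ∈ centralizer ({x} : Set G) := by
      rw [mem_centralizer_singleton_iff]
      have : n * x = (n * x * n⁻¹) * n := by group
      rw [this, hnx]
    intro k hk
    have h1 : K ≤ centralizer ({x} : Set G) := by
      rw [hK, Subgroup.zpowers_le]; exact Subgroup.pow_mem _ hcx m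
    have := h1 hk
    rw [mem_centralizer_singleton_iff] at this
    rw [this]; group
  let _ := MulDistribMulAction.compHom (↥(P : Subgroup G))
    ((P : Subgroup G).normalizerMonoidHom.comp (Subgroup.inclusion hKP))
  have hsmul : ∀ (k : K) (q : (P : Subgroup G)), ((k • q : (P : Subgroup G)) : G) = k * q * (k : G)⁻¹ := by
    intro k q; rfl
  rcases IsPGroup.smul_mul_inv_trivial_or_surjective P.2 hPK with h | h
  · -- k₀ centralizes P
    have hk₀c : k₀ ∈ centralizer ((P : Subgroup G) : Set G) := by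
      rw [mem_centralizer_iff]
      intro q hq
      have := h ⟨q, hq⟩ ⟨k₀, Subgroup.mem_zpowers k₀⟩
      have h2 := congrArg Subtype.val this
      simp only [Subgroup.coe_mul, hsmul, Subgroup.coe_inv, Subgroup.coe_one] at h2
      -- h2 : k₀ * q * k₀⁻¹ * q⁻¹ = 1
      have h3 : k₀ * q * k₀⁻¹ = q := by
        have := mul_inv_eq_one.mp h2
        exact this
      calc q * k₀ = (k₀ * q * k₀⁻¹) * k₀ := by rw [h3]
        _ = k₀ * q := by group
    -- Bezout
    have hcop : IsCoprime (m : ℤ) (e : ℤ) := by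
      rw [Int.isCoprime_iff_gcd_eq_one, Int.gcd_natCast_natCast]
      exact hem.symm
    obtain ⟨a, b, hab⟩ := hcop
    have hn1 : n = (n ^ m) ^ a * (n ^ e) ^ b := by
      rw [← zpow_natCast n m, ← zpow_natCast n e, ← zpow_mul, ← zpow_mul, ← zpow_add,
        mul_comm (m : ℤ), mul_comm (e : ℤ), hab, zpow_one]
    rw [hn1]
    exact Subgroup.mul_mem _ (Subgroup.zpow_mem _ hk₀c a) (Subgroup.zpow_mem _ (hPcomm hne) b)
  · exfalso
    obtain ⟨c, hc⟩ := hcyc.exists_generator
    obtain ⟨k, q, hkq⟩ := h c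
    -- ψ : P →* P
    let ψ : (P : Subgroup G) →* (P : Subgroup G) :=
      { toFun := fun q => k • q * q⁻¹
        map_one' := by simp
        map_mul' := by
          intro a b
          have hc' := isMulCommutative_iff.mp (IsCyclic.isMulCommutative (α := (P : Subgroup G)))
          rw [smul_mul', mul_inv_rev]
          calc k • a * k • b * (b⁻¹ * a⁻¹) = k • a * (k • b * b⁻¹) * a⁻¹ := by group
            _ = k • a * (a⁻¹ * (k • b * b⁻¹)) := by rw [mul_assoc, hc' (k • b * b⁻¹) a⁻¹]
            _ = k • a * a⁻¹ * (k • b * b⁻¹) := by group }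
    have hsurj : Function.Surjective ψ := by
      rw [← MonoidHom.range_eq_top, eq_top_iff]
      intro y _
      have hy := hc y
      have : Subgroup.zpowers c ≤ ψ.range := by
        rw [Subgroup.zpowers_le]
        exact ⟨q, hkq⟩
      exact this hy
    have hinj : Function.Injective ψ := Finite.injective_iff_surjective.mpr hsurj
    have hx' : ψ ⟨x, hxP⟩ = 1 := by
      apply Subtype.ext
      show ((k • (⟨x, hxP⟩ : (P : Subgroup G)) * (⟨x, hxP⟩ : (P : Subgroup G))⁻¹ : (P : Subgroup G)) : G) = 1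
      rw [Subgroup.coe_mul, hsmul, Subgroup.coe_inv]
      simp only
      rw [hKx k k.2]; group
    have := hinj (hx'.trans (map_one ψ).symm)
    apply hx1
    exact congrArg Subtype.val this

theorem map_conj_mul {G : Type*} [Group G] (a b : G) (W : Subgroup G) :
    (W.map (MulAut.conj b).toMonoidHom).map (MulAut.conj a).toMonoidHom = W.map (MulAut.conj (a * b)).toMonoidHom := by
  rw [Subgroup.map_map]
  congr 1
  ext x
  simp [mul_assoc]

theorem mem_normalizer_of_map_eq {G : Type*} [Group G] (a : G) (W : Subgroup G)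
    (h : W.map (MulAut.conj a).toMonoidHom = W) : a ∈ Subgroup.normalizer (W : Set G) := by
  rw [Subgroup.mem_normalizer_iff]
  intro x
  constructor
  · intro hx
    rw [← h]
    exact ⟨x, hx, rfl⟩
  · intro hx
    rw [← h] at hx
    obtain ⟨y, hy, hxy⟩ := hx
    have : y = x := by
      simp only [MulEquiv.coe_toMonoidHom, MulAut.conj_apply] at hxy
      have := mul_left_cancel (mul_right_cancel hxy)
      exact this
    rwa [← this]

theorem card_map_conj {G : Type*} [Group G] (a : G) (W : Subgroup G) :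
    Nat.card (W.map (MulAut.conj a).toMonoidHom) = Nat.card W :=
  Subgroup.card_map_of_injective (MulAut.conj a).injective

/-- In a finite `p`-group `P`, a proper subgroup is properly contained in its normalizer in `P`. -/
theorem lt_inf_normalizer {G : Type*} [Group G] [Finite G] {p : ℕ} [Fact p.Prime]
    {R P : Subgroup G} (hP : IsPGroup p P) (hRP : R < P) : R < P ⊓ normalizer (R : Set G) := by
  have hle : R ≤ P ⊓ normalizer (R : Set G) := le_inf hRP.le le_normalizer
  refine lt_of_le_of_ne hle ?_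
  intro heq
  have hR : IsPGroup p R := hP.to_le hRP.le
  have h1 : p ∣ R.relIndex P := by
    obtain ⟨n, hn⟩ := IsPGroup.index hP (R.subgroupOf P)
    have hne : R.relIndex P ≠ 1 := by
      intro h
      rw [Subgroup.relIndex_eq_one] at h
      exact (not_le_of_gt hRP) h
    change R.relIndex P = p ^ n at hn
    rw [hn] at hne ⊢
    cases n with
    | zero => simp at hne
    | succ n => exact dvd_pow_self p (Nat.succ_ne_zero n)
  have h2 := dvd_relIndex_inf_normalizer hRP.le hR h1
  rw [← heq, Subgroup.relIndex_self] at h2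
  exact (Nat.Prime.one_lt Fact.out).ne' (Nat.dvd_one.mp h2)

theorem card_lt_of_lt {G : Type*} [Group G] [Finite G] {H K : Subgroup G} (h : H < K) :
    Nat.card H < Nat.card K := by
  refine lt_of_le_of_ne (Subgroup.card_le_of_le h.le) ?_
  intro heq
  exact h.ne (Subgroup.eq_of_le_of_card_ge h.le heq.ge)

end Cfsg.Agent.Lib.Helper5_Sylow
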