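import Mathlib

set_option autoImplicit false

/-!
Small reusable lemmas (helper7): conjugacy class sizes, Sylow membership, cyclic subgroups.
-/

namespace Cfsg.Agent.Lib.Helper7_Basic

open scoped Pointwise

/-- The conjugacy class of `x` has `[G : C_G(x)]` elements. -/
theorem card_conj_class {G : Type*} [Group G] (x : G) :
    Nat.card {y : G // IsConj y x} = (Subgroup.centralizer ({x} : Set G)).index := by
  have h1 := Subgroup.index_comap_of_surjective (MulAction.stabilizer (ConjAct G) x)
    (f := (ConjAct.toConjAct (G := G)).toMonoidHom) (ConjAct.toConjAct (G := G)).surjective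
  have h0 : (Subgroup.centralizer ({x} : Set G)).index = (MulAction.stabilizer (ConjAct G) x).index := by
    rw [Subgroup.centralizer_eq_comap_stabilizer]; exact h1
  rw [h0, MulAction.index_stabilizer, ← Nat.card_coe_set_eq]
  apply Nat.card_congr
  refine Equiv.subtypeEquivRight ?_
  intro y
  exact ConjAct.mem_orbit_conjAct.symm

/-- membership in a conjugate Sylow subgroup -/
theorem mem_smul_sylow {G : Type*} [Group G] {p : ℕ} (g x : G) (P : Sylow p G) :
    x ∈ g • P ↔ g⁻¹ * x * g ∈ P := by
  have h1 : x ∈ g • P ↔ x ∈ ((g • P : Sylow p G) : Subgroup G) := Iff.rfl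
  rw [h1, Sylow.coe_subgroup_smul, Subgroup.mem_pointwise_smul_iff_inv_smul_mem]
  rw [MulAut.smul_def, MulAut.conj_inv_apply]
  rfl

/-- membership in a conjugate subgroup -/
theorem mem_conj_smul {G : Type*} [Group G] (g x : G) (H : Subgroup G) :
    x ∈ MulAut.conj g • H ↔ g⁻¹ * x * g ∈ H := by
  rw [Subgroup.mem_pointwise_smul_iff_inv_smul_mem, MulAut.smul_def, MulAut.conj_inv_apply]

/-- every `p`-element lies in a Sylow `p`-subgroup -/
theorem pElement_mem_sylow {G : Type*} [Group G] [Finite G] {p : ℕ} [Fact p.Prime] (x : G)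
    (hx : ∃ k : ℕ, orderOf x = p ^ k) : ∃ P : Sylow p G, x ∈ P := by
  obtain ⟨k, hk⟩ := hx
  have hP : IsPGroup p (Subgroup.zpowers x) := by
    apply IsPGroup.of_card (n := k)
    rw [Nat.card_zpowers, hk]
  obtain ⟨Q, hQ⟩ := hP.exists_le_sylow
  exact ⟨Q, hQ (Subgroup.mem_zpowers x)⟩

/-- order of a conjugate -/
theorem orderOf_conj' {G : Type*} [Group G] (g x : G) : orderOf (g * x * g⁻¹) = orderOf x :=
  orderOf_injective (MulAut.conj g).toMonoidHom (MulAut.conj g).injective x

/-- In a finite cyclic subgroup `C`, a subgroup is determined by its order. -/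
theorem cyclic_subgroup_unique {G : Type*} [Group G] (C : Subgroup G) [Finite C] (hC : IsCyclic C)
    (P Q : Subgroup G) (hP : P ≤ C) (hQ : Q ≤ C) (h : Nat.card P = Nat.card Q) : P = Q := by
  classical
  haveI : Finite P := Finite.of_injective (Subgroup.inclusion hP) (Subgroup.inclusion_injective hP)
  haveI : Finite Q := Finite.of_injective (Subgroup.inclusion hQ) (Subgroup.inclusion_injective hQ)
  letI : Fintype C := Fintype.ofFinite C
  set d := Nat.card P with hd
  have hdpos : 0 < d := Nat.card_pos
  -- the set of solutions of x^d = 1 in C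
  have hS := IsCyclic.card_pow_eq_one_le (α := C) hdpos
  -- key: any subgroup K ≤ C of order d equals the solution set
  have key : ∀ K : Subgroup G, K ≤ C → Nat.card K = d →
      ∀ x : G, x ∈ K ↔ (x ∈ C ∧ x ^ d = 1) := by
    intro K hK hKd
    haveI : Finite K := Finite.of_injective (Subgroup.inclusion hK) (Subgroup.inclusion_injective hK)
    letI : Fintype K := Fintype.ofFinite K
    -- image of K in C as a finset
    let T : Finset C := Finset.univ.image (Subgroup.inclusion hK)
    have hTcard : T.card = d := by
      rw [Finset.card_image_of_injective _ (Subgroup.inclusion_injective hK), Finset.card_univ,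
        ← Nat.card_eq_fintype_card, hKd]
    have hTsub : T ⊆ Finset.univ.filter (fun a : C => a ^ d = 1) := by
      intro a ha
      obtain ⟨k, _, rfl⟩ := Finset.mem_image.mp ha
      rw [Finset.mem_filter]
      refine ⟨Finset.mem_univ _, ?_⟩
      have h1 : k ^ d = 1 := by rw [← hKd]; exact pow_card_eq_one'
      apply Subtype.ext
      have h2 := congrArg Subtype.val h1
      simpa using h2
    have hTeq : T = Finset.univ.filter (fun a : C => a ^ d = 1) :=
      Finset.eq_of_subset_of_card_le hTsub (by rw [hTcard]; exact hS)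
    intro x
    constructor
    · intro hx
      refine ⟨hK hx, ?_⟩
      have h1 : (⟨x, hx⟩ : K) ^ d = 1 := by rw [← hKd]; exact pow_card_eq_one'
      have h2 := congrArg Subtype.val h1
      simpa using h2
    · rintro ⟨hxC, hxd⟩
      have hmem : (⟨x, hxC⟩ : C) ∈ Finset.univ.filter (fun a : C => a ^ d = 1) := by
        rw [Finset.mem_filter]
        refine ⟨Finset.mem_univ _, ?_⟩
        apply Subtype.ext
        simpa using hxd
      rw [← hTeq] at hmem
      obtain ⟨k, _, hk⟩ := Finset.mem_image.mp hmem
      have : (k : G) = x := by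
        have := congrArg Subtype.val hk
        simpa using this
      rw [← this]; exact k.2
  ext x
  rw [key P hP rfl x, key Q hQ h.symm x]

end Cfsg.Agent.Lib.Helper7_Basic
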