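import Mathlib
import Cfsg.Prelude.Def_Transfer
import Cfsg.Agent.Lib.Helper7_Basic
import Cfsg.Agent.Lib.Helper5_Sylow

set_option autoImplicit false

/-!
# Normal `p`-complements: Frobenius' theorem
-/

namespace Cfsg.Agent.Lib.Helper7_NPC

open Cfsg Subgroup
open Cfsg.Agent.Lib.Helper7_Basic
open scoped Pointwise

/-- Frobenius' hypothesis: the `p'`-elements of the normalizer of a `p`-subgroup centralize it. -/
def FrobHyp (p : ℕ) (G : Type*) [Group G] : Prop :=
  ∀ Q : Subgroup G, IsPGroup p Q → ∀ g ∈ normalizer (Q : Set G), (orderOf g).Coprime p →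
    g ∈ centralizer (Q : Set G)

/-- Normal `p`-complement, in numerical form. -/
def NPC (p : ℕ) (G : Type*) [Group G] : Prop :=
  ∃ N : Subgroup G, N.Normal ∧ (Nat.card N).Coprime p ∧ ∃ k : ℕ, N.index = p ^ k

section L1

variable {N : Type*} [Group N] [Finite N] {p : ℕ} [Fact p.Prime]

theorem sylow_sup_eq_top (C : Subgroup N) [C.Normal]
    (hC : ∀ n : N, ∃ k : ℕ, n ^ (p ^ k) ∈ C) (S : Sylow p N) : (S : Subgroup N) ⊔ C = ⊤ := by
  have hp := (Fact.out : p.Prime)
  have hQ : IsPGroup p (N ⧸ C) := by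
    intro g
    obtain ⟨n, rfl⟩ := QuotientGroup.mk_surjective g
    obtain ⟨k, hk⟩ := hC n
    refine ⟨k, ?_⟩
    rw [← QuotientGroup.mk_pow]
    exact (QuotientGroup.eq_one_iff _).mpr hk
  obtain ⟨k, hk⟩ := IsPGroup.iff_card.mp hQ
  have h1 : C.index = p ^ k := by rw [Subgroup.index_eq_card]; exact hk
  have h2 : ((S : Subgroup N) ⊔ C).index ∣ p ^ k := by
    rw [← h1]; exact Subgroup.index_dvd_of_le le_sup_right
  obtain ⟨j, -, hj⟩ := (Nat.dvd_prime_pow hp).mp h2
  have h3 : ((S : Subgroup N) ⊔ C).index ∣ (S : Subgroup N).index :=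
    Subgroup.index_dvd_of_le le_sup_left
  have h4 : ¬ p ∣ (S : Subgroup N).index := S.not_dvd_index
  rw [← Subgroup.index_eq_one]
  rcases Nat.eq_zero_or_pos j with h0 | h0
  · rw [hj, h0, pow_zero]
  · exfalso
    apply h4
    rw [hj] at h3
    exact (dvd_pow_self p h0.ne').trans h3

end L1

section Main

variable {G : Type*} [Group G] [Finite G] {p : ℕ} [Fact p.Prime]

theorem pow_mem_centralizer (hF : FrobHyp p G) (D : Subgroup G) (hD : IsPGroup p D) (n : G)
    (hn : n ∈ normalizer (D : Set G)) : ∃ k : ℕ, n ^ (p ^ k) ∈ centralizer (D : Set G) := by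
  have hp := (Fact.out : p.Prime)
  obtain ⟨k, m, hm, hkm⟩ := Nat.exists_eq_pow_mul_and_not_dvd (orderOf_pos n).ne' p hp.one_lt.ne'
  refine ⟨k, ?_⟩
  apply hF D hD _ (Subgroup.pow_mem _ hn _)
  have h1 : (n ^ (p ^ k)) ^ m = 1 := by
    rw [← pow_mul, ← hkm]; exact pow_orderOf_eq_one n
  have h2 : orderOf (n ^ (p ^ k)) ∣ m := orderOf_dvd_of_pow_eq_one h1
  exact Nat.Coprime.coprime_dvd_left h2 ((Nat.Prime.coprime_iff_not_dvd hp).mpr hm).symm

/-- Two Sylow subgroups of `N_G(D)` are conjugate by an element of `C_G(D)`. -/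
theorem exists_centralizer_conj (hF : FrobHyp p G) (D : Subgroup G) (hD : IsPGroup p D)
    (S₁ T₁ : Sylow p (normalizer (D : Set G))) :
    ∃ c : normalizer (D : Set G), (c : G) ∈ centralizer (D : Set G) ∧ c • S₁ = T₁ := by
  set C : Subgroup (normalizer (D : Set G)) :=
    (centralizer (D : Set G)).subgroupOf (normalizer (D : Set G)) with hC
  haveI : C.Normal := Subgroup.normal_subgroupOf_centralizer_normalizer (D : Set G)
  have hCp : ∀ n : normalizer (D : Set G), ∃ k : ℕ, n ^ (p ^ k) ∈ C := by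
    intro n
    obtain ⟨k, hk⟩ := pow_mem_centralizer hF D hD (n : G) n.2
    exact ⟨k, by rw [hC, Subgroup.mem_subgroupOf]; simpa using hk⟩
  have htop := sylow_sup_eq_top C hCp S₁
  obtain ⟨n₀, hn₀⟩ := MulAction.exists_smul_eq (normalizer (D : Set G)) S₁ T₁
  have hmem : n₀ ∈ ((S₁ : Subgroup (normalizer (D : Set G))) ⊔ C) := by
    rw [htop]; exact Subgroup.mem_top _
  rw [sup_comm] at hmem
  have : n₀ ∈ ((C ⊔ (S₁ : Subgroup (normalizer (D : Set G))) :
      Subgroup (normalizer (D : Set G))) : Set (normalizer (D : Set G))) := hmem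
  rw [Subgroup.normal_mul] at this
  obtain ⟨c, hc, s, hs, hcs⟩ := Set.mem_mul.mp this
  refine ⟨c, ?_, ?_⟩
  · have := hc
    rw [SetLike.mem_coe, hC, Subgroup.mem_subgroupOf] at this
    exact this
  · have hs' : s • S₁ = S₁ := by
      rw [Sylow.smul_eq_iff_mem_normalizer]
      exact Subgroup.le_normalizer hs
    rw [← hn₀, ← hcs, mul_smul, hs']

/-- Under Frobenius' hypothesis, two Sylow subgroups are conjugate by an element centralizing their
intersection. -/
theorem exists_conj_centralizing_inf (hF : FrobHyp p G) : ∀ n : ℕ, ∀ S T : Sylow p G,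
    Nat.card (S : Subgroup G) - Nat.card ((S : Subgroup G) ⊓ (T : Subgroup G) : Subgroup G) = n →
    ∃ c : G, c ∈ centralizer (((S : Subgroup G) ⊓ (T : Subgroup G) : Subgroup G) : Set G) ∧
      c • S = T := by
  intro n
  induction n using Nat.strong_induction_on with
  | _ n ih =>
  intro S T hn
  set D := (S : Subgroup G) ⊓ (T : Subgroup G) with hD
  have hDp : IsPGroup p D := S.isPGroup'.to_le inf_le_left
  by_cases hDS : D = S
  · refine ⟨1, one_mem _, ?_⟩
    rw [one_smul]
    have hST : (S : Subgroup G) ≤ T := by rw [← hDS]; exact inf_le_right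
    exact Sylow.ext (S.is_maximal' T.isPGroup' hST).symm
  · have hDltS : D < S := lt_of_le_of_ne inf_le_left hDS
    have hDT : D ≠ T := by
      intro h
      have hTS : (T : Subgroup G) ≤ S := by rw [← h]; exact inf_le_left
      have := T.is_maximal' S.isPGroup' hTS
      apply hDS
      rw [hD, this, inf_idem]
    have hDltT : D < T := lt_of_le_of_ne inf_le_right hDT
    have h1 : D < (S : Subgroup G) ⊓ normalizer (D : Set G) :=
      Cfsg.Agent.Lib.Helper5_Sylow.lt_inf_normalizer S.isPGroup' hDltS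
    have h2 : D < (T : Subgroup G) ⊓ normalizer (D : Set G) :=
      Cfsg.Agent.Lib.Helper5_Sylow.lt_inf_normalizer T.isPGroup' hDltT
    obtain ⟨S₁, hS₁⟩ := ((S.isPGroup'.to_le (inf_le_left :
      (S : Subgroup G) ⊓ normalizer (D : Set G) ≤ S)).comap_subtype
        (K := normalizer (D : Set G))).exists_le_sylow
    obtain ⟨T₁, hT₁⟩ := ((T.isPGroup'.to_le (inf_le_left :
      (T : Subgroup G) ⊓ normalizer (D : Set G) ≤ T)).comap_subtype
        (K := normalizer (D : Set G))).exists_le_sylow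
    obtain ⟨c, hcC, hc⟩ := exists_centralizer_conj hF D hDp S₁ T₁
    have hS₁p : IsPGroup p ((S₁ : Subgroup (normalizer (D : Set G))).map
        (normalizer (D : Set G)).subtype) := S₁.isPGroup'.map _
    obtain ⟨S₂, hS₂⟩ := hS₁p.exists_le_sylow
    have hSN : (S : Subgroup G) ⊓ normalizer (D : Set G) ≤ S₂ := by
      intro x hx
      apply hS₂
      refine ⟨⟨x, hx.2⟩, hS₁ ?_, rfl⟩
      exact Subgroup.mem_subgroupOf.mpr hx
    have hcardlt : Nat.card D < Nat.card ((S : Subgroup G) ⊓ S₂ : Subgroup G) := by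
      calc Nat.card D < Nat.card ((S : Subgroup G) ⊓ normalizer (D : Set G) : Subgroup G) :=
            Cfsg.Agent.Lib.Helper5_Sylow.card_lt_of_lt h1
        _ ≤ _ := Subgroup.card_le_of_le (le_inf inf_le_left hSN)
    have hDS' : Nat.card D < Nat.card (S : Subgroup G) :=
      Cfsg.Agent.Lib.Helper5_Sylow.card_lt_of_lt hDltS
    have hle1 : Nat.card ((S : Subgroup G) ⊓ S₂ : Subgroup G) ≤ Nat.card (S : Subgroup G) :=
      Subgroup.card_le_of_le inf_le_left
    obtain ⟨a, haC, ha⟩ := ih (Nat.card (S : Subgroup G) -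
      Nat.card ((S : Subgroup G) ⊓ S₂ : Subgroup G)) (by omega) S S₂ rfl
    set T₂ : Sylow p G := (c : G) • S₂ with hT₂
    have hTN : (T : Subgroup G) ⊓ normalizer (D : Set G) ≤ T₂ := by
      intro x hx
      show x ∈ (c : G) • S₂
      rw [mem_smul_sylow]
      have hx1 : (⟨x, hx.2⟩ : normalizer (D : Set G)) ∈ T₁ :=
        hT₁ (Subgroup.mem_subgroupOf.mpr hx)
      rw [← hc, mem_smul_sylow] at hx1
      apply hS₂
      exact ⟨_, hx1, by simp⟩
    have hcardT₂ : Nat.card (T₂ : Subgroup G) = Nat.card (S : Subgroup G) := by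
      rw [Sylow.card_eq_multiplicity, Sylow.card_eq_multiplicity]
    have hcardlt2 : Nat.card D < Nat.card ((T₂ : Subgroup G) ⊓ T : Subgroup G) := by
      calc Nat.card D < Nat.card ((T : Subgroup G) ⊓ normalizer (D : Set G) : Subgroup G) :=
            Cfsg.Agent.Lib.Helper5_Sylow.card_lt_of_lt h2
        _ ≤ _ := Subgroup.card_le_of_le (le_inf hTN inf_le_left)
    have hle2 : Nat.card ((T₂ : Subgroup G) ⊓ T : Subgroup G) ≤ Nat.card (T₂ : Subgroup G) :=
      Subgroup.card_le_of_le inf_le_left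
    obtain ⟨b, hbC, hb⟩ := ih (Nat.card (T₂ : Subgroup G) -
      Nat.card ((T₂ : Subgroup G) ⊓ T : Subgroup G)) (by omega) T₂ T rfl
    have hDN : D ≤ normalizer (D : Set G) := Subgroup.le_normalizer
    refine ⟨b * (c : G) * a, ?_, ?_⟩
    · apply mul_mem (mul_mem ?_ hcC) ?_
      · refine Subgroup.centralizer_le ?_ hbC
        intro x hx
        exact ⟨hTN ⟨hx.2, hDN hx⟩, hx.2⟩
      · refine Subgroup.centralizer_le ?_ haC
        intro x hx
        exact ⟨hx.1, hSN ⟨hx.1, hDN hx⟩⟩
    · rw [mul_smul, mul_smul, ha, ← hT₂, hb]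

/-- Under Frobenius' hypothesis `N_G(P) = P C_G(P)` for a Sylow subgroup `P`. -/
theorem normalizer_eq_mul_centralizer (hF : FrobHyp p G) (P : Sylow p G) (n : G)
    (hn : n ∈ normalizer ((P : Subgroup G) : Set G)) :
    ∃ y ∈ P, ∃ c ∈ centralizer ((P : Subgroup G) : Set G), n = y * c := by
  set C : Subgroup (normalizer ((P : Subgroup G) : Set G)) :=
    (centralizer ((P : Subgroup G) : Set G)).subgroupOf (normalizer ((P : Subgroup G) : Set G))
    with hC
  haveI : C.Normal := Subgroup.normal_subgroupOf_centralizer_normalizer ((P : Subgroup G) : Set G)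
  have hCp : ∀ n : normalizer ((P : Subgroup G) : Set G), ∃ k : ℕ, n ^ (p ^ k) ∈ C := by
    intro n
    obtain ⟨k, hk⟩ := pow_mem_centralizer hF P P.isPGroup' (n : G) n.2
    exact ⟨k, by rw [hC, Subgroup.mem_subgroupOf]; simpa using hk⟩
  have htop := sylow_sup_eq_top C hCp (P.subtype Subgroup.le_normalizer)
  have hmem : (⟨n, hn⟩ : normalizer ((P : Subgroup G) : Set G)) ∈
      (((P.subtype Subgroup.le_normalizer : Sylow p (normalizer ((P : Subgroup G) : Set G))) :
        Subgroup (normalizer ((P : Subgroup G) : Set G))) ⊔ C :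
          Subgroup (normalizer ((P : Subgroup G) : Set G))) := by
    rw [htop]; exact Subgroup.mem_top _
  rw [← SetLike.mem_coe, Subgroup.mul_normal] at hmem
  obtain ⟨y, hy, c, hc, hyc⟩ := Set.mem_mul.mp hmem
  refine ⟨(y : G), ?_, (c : G), ?_, ?_⟩
  · have := hy
    rw [SetLike.mem_coe, Sylow.coe_subtype, Subgroup.mem_subgroupOf] at this
    exact this
  · have := hc
    rw [SetLike.mem_coe, hC, Subgroup.mem_subgroupOf] at this
    exact this
  · have := congrArg (fun z : normalizer ((P : Subgroup G) : Set G) => (z : G)) hyc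
    simpa using this.symm

/-- Under Frobenius' hypothesis a Sylow subgroup controls its own fusion. -/
theorem control_fusion (hF : FrobHyp p G) (P : Sylow p G) (x u : G) (hx : x ∈ P)
    (hux : u * x * u⁻¹ ∈ P) : ∃ y ∈ P, u * x * u⁻¹ = y * x * y⁻¹ := by
  set T : Sylow p G := u⁻¹ • P with hT
  have hxT : x ∈ T := by
    rw [hT, mem_smul_sylow]; simpa using hux
  obtain ⟨c, hcC, hc⟩ := exists_conj_centralizing_inf hF _ P T rfl
  have hn : (u * c) • P = P := by rw [mul_smul, hc, hT, smul_inv_smul]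
  have hnN : u * c ∈ normalizer ((P : Subgroup G) : Set G) :=
    Sylow.smul_eq_iff_mem_normalizer.mp hn
  have hcx : x * c = c * x := Subgroup.mem_centralizer_iff.mp hcC x ⟨hx, hxT⟩
  obtain ⟨y, hy, c', hc', hyc⟩ := normalizer_eq_mul_centralizer hF P (u * c) hnN
  have hc'x : x * c' = c' * x := Subgroup.mem_centralizer_iff.mp hc' x hx
  refine ⟨y, hy, ?_⟩
  have e1 : u * x * u⁻¹ = (u * c) * x * (u * c)⁻¹ := by
    have : c * x * c⁻¹ = x := by rw [← hcx]; group
    calc u * x * u⁻¹ = u * (c * x * c⁻¹) * u⁻¹ := by rw [this]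
      _ = _ := by group
  have e2 : (y * c') * x * (y * c')⁻¹ = y * x * y⁻¹ := by
    have : c' * x * c'⁻¹ = x := by rw [← hc'x]; group
    calc (y * c') * x * (y * c')⁻¹ = y * (c' * x * c'⁻¹) * y⁻¹ := by group
      _ = _ := by rw [this]
  rw [e1, hyc, e2]

open scoped commutatorElement in
/-- Under Frobenius' hypothesis the focal subgroup of a Sylow subgroup is its derived subgroup. -/
theorem focal_eq (hF : FrobHyp p G) (P : Sylow p G) :
    (P : Subgroup G).focalSubgroup = ⁅(P : Subgroup G), (P : Subgroup G)⁆ := by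
  apply le_antisymm
  · rw [Subgroup.focalSubgroup_def, Subgroup.closure_le]
    rintro g ⟨hgP, x, hx, u, rfl⟩
    have h1 : u * x⁻¹ * u⁻¹ ∈ P := by
      have : u * x⁻¹ * u⁻¹ = x⁻¹ * ⁅x, u⁆ := by rw [commutatorElement_def]; group
      rw [this]; exact mul_mem (inv_mem hx) hgP
    obtain ⟨y, hy, hyx⟩ := control_fusion hF P x⁻¹ u (inv_mem hx) h1
    have : ⁅x, u⁆ = ⁅x, y⁆ := by
      rw [commutatorElement_def, commutatorElement_def]
      calc x * u * x⁻¹ * u⁻¹ = x * (u * x⁻¹ * u⁻¹) := by group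
        _ = x * (y * x⁻¹ * y⁻¹) := by rw [hyx]
        _ = _ := by group
    rw [SetLike.mem_coe, this]
    exact Subgroup.commutator_mem_commutator hx hy
  · exact Subgroup.commutator_le_focalSubgroup _

omit [Finite G] [Fact p.Prime] in
theorem FrobHyp.subgroup (hF : FrobHyp p G) (K : Subgroup G) : FrobHyp p K := by
  intro Q' hQ' g' hg' hcop
  have h1 : (g' : G) ∈ normalizer ((Q'.map K.subtype : Subgroup G) : Set G) := by
    apply Subgroup.le_normalizer_map K.subtype
    exact ⟨g', hg', rfl⟩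
  have h2 := hF (Q'.map K.subtype) (hQ'.map _) (g' : G) h1 (by rwa [Subgroup.orderOf_coe])
  rw [Subgroup.mem_centralizer_iff] at h2 ⊢
  intro y hy
  apply Subtype.ext
  have := h2 (y : G) ⟨y, hy, rfl⟩
  simpa using this

end Main

section Induction

universe u

theorem npc_of_frobHyp_aux (p : ℕ) [Fact p.Prime] : ∀ n : ℕ, ∀ (G : Type u) [Group G] [Finite G],
    Nat.card G = n → FrobHyp p G → NPC p G := by
  intro n
  induction n using Nat.strong_induction_on with
  | _ n ih =>
  intro G _ _ hn hF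
  have hp := (Fact.out : p.Prime)
  by_cases hpd : p ∣ Nat.card G
  swap
  · refine ⟨⊤, inferInstance, ?_, 0, ?_⟩
    · rw [Subgroup.card_top]
      exact ((Nat.Prime.coprime_iff_not_dvd hp).mpr hpd).symm
    · rw [Subgroup.index_top, pow_zero]
  -- a non-trivial Sylow subgroup
  let P : Sylow p G := default
  have hPbot : (P : Subgroup G) ≠ ⊥ := P.ne_bot_of_dvd_card hpd
  haveI : Nontrivial (P : Subgroup G) := (Subgroup.nontrivial_iff_ne_bot _).mpr hPbot
  haveI : Group.IsNilpotent (P : Subgroup G) := P.isPGroup'.isNilpotent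
  have hcomm_lt : commutator (P : Subgroup G) < ⊤ := Group.IsSolvable.commutator_lt_top_of_nontrivial _
  set K : Subgroup G := (P : Subgroup G).transferFocal.ker with hK
  have e := Subgroup.transferFocal.quotientKerMulEquivQuotientFocalSubroupOf P
  -- the focal subgroup is the commutator subgroup
  have hfoc : (P : Subgroup G).focalSubgroupOf = commutator (P : Subgroup G) := by
    rw [Subgroup.focalSubgroupOf_def, focal_eq hF P, ← Subgroup.map_subtype_commutator]
    exact Subgroup.comap_map_eq_self_of_injective (Subgroup.subtype_injective _) _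
  have hQp : IsPGroup p ((P : Subgroup G) ⧸ (P : Subgroup G).focalSubgroupOf) :=
    P.isPGroup'.to_quotient _
  obtain ⟨k, hk⟩ := IsPGroup.iff_card.mp hQp
  have hKidx : K.index = p ^ k := by
    rw [Subgroup.index_eq_card, Nat.card_congr e.toEquiv, hk]
  have hKtop : K.index ≠ 1 := by
    intro h1
    have h2 : Nat.card ((P : Subgroup G) ⧸ (P : Subgroup G).focalSubgroupOf) = 1 := by
      rw [← Nat.card_congr e.toEquiv, ← Subgroup.index_eq_card]; exact h1
    rw [← Subgroup.index_eq_card, Subgroup.index_eq_one, hfoc] at h2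
    exact hcomm_lt.ne h2
  have hKlt : Nat.card K < Nat.card G := by
    have h1 := Subgroup.card_mul_index K
    have h2 : K.index ≠ 0 := Subgroup.index_ne_zero_of_finite
    have h3 : 0 < Nat.card K := Nat.card_pos
    have h4 : 2 ≤ K.index := by omega
    nlinarith
  haveI hKn : K.Normal := by rw [hK]; infer_instance
  obtain ⟨N', hN'n, hN'c, j, hN'j⟩ := ih (Nat.card K) (hn ▸ hKlt) K rfl (hF.subgroup K)
  -- characterization of `N'`
  have hchar : ∀ x : K, x ∈ N' ↔ (orderOf x).Coprime p := by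
    intro x
    constructor
    · intro hx
      have h1 : orderOf x ∣ Nat.card N' := by
        have := orderOf_dvd_natCard (⟨x, hx⟩ : N')
        rwa [Subgroup.orderOf_mk] at this
      exact Nat.Coprime.coprime_dvd_left h1 hN'c
    · intro hx
      have h1 : ((x : K ⧸ N') : K ⧸ N') ^ orderOf x = 1 := by
        rw [← QuotientGroup.mk_pow, pow_orderOf_eq_one]; rfl
      have h2 : ((x : K ⧸ N') : K ⧸ N') ^ (p ^ j) = 1 := by
        rw [← hN'j, Subgroup.index_eq_card]; exact pow_card_eq_one'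
      have h3 : orderOf ((x : K ⧸ N') : K ⧸ N') ∣ orderOf x := orderOf_dvd_of_pow_eq_one h1
      have h4 : orderOf ((x : K ⧸ N') : K ⧸ N') ∣ p ^ j := orderOf_dvd_of_pow_eq_one h2
      have h5 : orderOf ((x : K ⧸ N') : K ⧸ N') = 1 :=
        Nat.eq_one_of_dvd_coprimes (Nat.Coprime.pow_right j hx) h3 h4
      exact (QuotientGroup.eq_one_iff x).mp (orderOf_eq_one_iff.mp h5)
  refine ⟨N'.map K.subtype, ?_, ?_, j + k, ?_⟩
  · constructor
    rintro _ ⟨x, hx, rfl⟩ g
    have hmem : g * (x : G) * g⁻¹ ∈ K := hKn.conj_mem _ x.2 g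
    refine ⟨⟨g * (x : G) * g⁻¹, hmem⟩, ?_, rfl⟩
    rw [SetLike.mem_coe, hchar, ← Subgroup.orderOf_coe]
    show (orderOf (g * (x : G) * g⁻¹)).Coprime p
    rw [orderOf_conj', Subgroup.orderOf_coe]
    exact (hchar x).mp hx
  · rw [Subgroup.card_map_of_injective (Subgroup.subtype_injective _)]
    exact hN'c
  · rw [Subgroup.index_map_subtype, hN'j, hKidx, pow_add]

end Induction

section Basic

variable {G : Type*} [Group G] {p : ℕ} [Fact p.Prime]

/-- **Frobenius' normal `p`-complement theorem**. -/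
theorem npc_of_frobHyp [Finite G] (hF : FrobHyp p G) : NPC p G :=
  npc_of_frobHyp_aux p _ G rfl hF

omit [Fact p.Prime] in
/-- Elements of order prime to `p` lie in every normal subgroup of `p`-power index. -/
theorem mem_of_index_pow (N : Subgroup G) [N.Normal] {k : ℕ} (hidx : N.index = p ^ k) (g : G)
    (hg : (orderOf g).Coprime p) : g ∈ N := by
  have h1 : ((g : G ⧸ N) : G ⧸ N) ^ orderOf g = 1 := by
    rw [← QuotientGroup.mk_pow, pow_orderOf_eq_one]; rfl
  have h2 : ((g : G ⧸ N) : G ⧸ N) ^ (p ^ k) = 1 := by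
    rw [← hidx, Subgroup.index_eq_card]; exact pow_card_eq_one'
  have h3 : orderOf ((g : G ⧸ N) : G ⧸ N) ∣ orderOf g := orderOf_dvd_of_pow_eq_one h1
  have h4 : orderOf ((g : G ⧸ N) : G ⧸ N) ∣ p ^ k := orderOf_dvd_of_pow_eq_one h2
  have h5 : orderOf ((g : G ⧸ N) : G ⧸ N) = 1 :=
    Nat.eq_one_of_dvd_coprimes (Nat.Coprime.pow_right k hg) h3 h4
  exact (QuotientGroup.eq_one_iff g).mp (orderOf_eq_one_iff.mp h5)

/-- The easy direction of Frobenius' theorem. -/
theorem frobHyp_of_npc [Finite G] (h : NPC p G) : FrobHyp p G := by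
  obtain ⟨N, hNn, hNc, k, hk⟩ := h
  intro Q hQ g hg hcop
  have hgN : g ∈ N := mem_of_index_pow N hk g hcop
  obtain ⟨a, ha⟩ := IsPGroup.iff_card.mp hQ
  have hdisj : Disjoint Q N := by
    apply Subgroup.disjoint_of_coprime_natCard
    rw [ha]
    exact (Nat.Coprime.pow_right a hNc).symm
  rw [Subgroup.mem_centralizer_iff]
  intro x hx
  have h1 : g * x * g⁻¹ ∈ Q := (Subgroup.mem_normalizer_iff.mp hg x).mp hx
  have h2 : g * x * g⁻¹ * x⁻¹ ∈ Q := mul_mem h1 (inv_mem hx)
  have h3 : g * x * g⁻¹ * x⁻¹ ∈ N := by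
    have : x * g⁻¹ * x⁻¹ ∈ N := hNn.conj_mem _ (inv_mem hgN) x
    have e : g * x * g⁻¹ * x⁻¹ = g * (x * g⁻¹ * x⁻¹) := by group
    rw [e]; exact mul_mem hgN this
  have h4 : g * x * g⁻¹ * x⁻¹ = 1 := Subgroup.disjoint_def.mp hdisj h2 h3
  have h5 : g * x * g⁻¹ = x := by rwa [mul_inv_eq_one] at h4
  exact (eq_mul_of_mul_inv_eq h5).symm

omit [Fact p.Prime] in
theorem NPC.subgroup (h : NPC p G) (hp : p.Prime) (H : Subgroup G) : NPC p H := by
  obtain ⟨N, hNn, hNc, k, hk⟩ := h
  have h1 : N.relIndex H ∣ p ^ k := by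
    rw [← hk]; exact Subgroup.relIndex_dvd_index_of_normal (H := N) (K := H)
  obtain ⟨j, -, hj⟩ := (Nat.dvd_prime_pow hp).mp h1
  refine ⟨N.subgroupOf H, inferInstance, ?_, j, hj⟩
  have h2 : Nat.card (N.subgroupOf H) ∣ Nat.card N := by
    have e : Nat.card (N.subgroupOf H) = Nat.card (N ⊓ H : Subgroup G) := by
      rw [← Subgroup.inf_subgroupOf_right]
      exact Nat.card_congr (Subgroup.subgroupOfEquivOfLe inf_le_right).toEquiv
    rw [e]
    exact Subgroup.card_dvd_of_le inf_le_left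
  exact Nat.Coprime.coprime_dvd_left h2 hNc

/-- A normal `p`-complement (numerical form) is a complement of every Sylow `p`-subgroup. -/
theorem NPC.isComplement' [Finite G] {N : Subgroup G} (hNc : (Nat.card N).Coprime p) {k : ℕ}
    (hk : N.index = p ^ k) (P : Sylow p G) : N.IsComplement' (P : Subgroup G) := by
  have hp := (Fact.out : p.Prime)
  have h1 := Subgroup.card_mul_index N
  rw [hk] at h1
  have hN0 : Nat.card N ≠ 0 := Nat.card_pos.ne'
  have hcardP : Nat.card (P : Subgroup G) = p ^ k := by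
    rw [Sylow.card_eq_multiplicity, ← h1, Nat.factorization_mul hN0 (pow_ne_zero k hp.ne_zero)]
    have h2 : (Nat.card N).factorization p = 0 :=
      Nat.factorization_eq_zero_of_not_dvd ((Nat.Prime.coprime_iff_not_dvd hp).mp hNc.symm)
    simp [h2, hp.factorization_self]
  apply Subgroup.isComplement'_of_coprime
  · rw [hcardP]; exact h1
  · rw [hcardP]; exact Nat.Coprime.pow_right k hNc

theorem hasNormalPComplement_iff_npc [Finite G] : HasNormalPComplement p G ↔ NPC p G := by
  have hp := (Fact.out : p.Prime)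
  constructor
  · rintro ⟨P, N, hNn, hc⟩
    obtain ⟨a, ha⟩ := IsPGroup.iff_card.mp P.isPGroup'
    refine ⟨N, hNn, ?_, a, ?_⟩
    · have h1 : (P : Subgroup G).index = Nat.card N := hc.index_eq_card
      rw [← h1]
      exact ((Nat.Prime.coprime_iff_not_dvd hp).mpr P.not_dvd_index).symm
    · rw [hc.symm.index_eq_card, ha]
  · rintro ⟨N, hNn, hNc, k, hk⟩
    exact ⟨default, N, hNn, NPC.isComplement' hNc hk default⟩

/-- The form of the normal `p`-complement property for a given Sylow subgroup. -/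
theorem exists_complement_iff_npc [Finite G] (P : Sylow p G) :
    (∃ N : Subgroup G, N.Normal ∧ N.IsComplement' (P : Subgroup G)) ↔ NPC p G := by
  constructor
  · rintro ⟨N, hNn, hc⟩
    exact hasNormalPComplement_iff_npc.mp ⟨P, N, hNn, hc⟩
  · rintro ⟨N, hNn, hNc, k, hk⟩
    exact ⟨N, hNn, NPC.isComplement' hNc hk P⟩

/-- Frobenius' hypothesis follows from its restriction to the subgroups of a Sylow subgroup. -/
theorem frobHyp_of_sylow [Finite G] (P : Sylow p G)
    (h : ∀ Q : Subgroup G, Q ≤ (P : Subgroup G) → ∀ g ∈ normalizer (Q : Set G),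
      Nat.Coprime (orderOf g) p → g ∈ centralizer (Q : Set G)) : FrobHyp p G := by
  intro Q hQ g hg hcop
  obtain ⟨t, ht⟩ := Cfsg.Agent.Lib.Helper5_Sylow.exists_conj_le_sylow hQ P
  have h1 : t * g * t⁻¹ ∈ normalizer ((Q.map (MulAut.conj t).toMonoidHom : Subgroup G) : Set G) := by
    apply Subgroup.le_normalizer_map (MulAut.conj t).toMonoidHom
    exact ⟨g, hg, by simp⟩
  have h2 := h _ ht (t * g * t⁻¹) h1 (by rwa [orderOf_conj'])
  rw [Subgroup.mem_centralizer_iff] at h2 ⊢
  intro x hx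
  have h3 := h2 (t * x * t⁻¹) ⟨x, hx, by simp⟩
  have h4 : t * (x * g) * t⁻¹ = t * (g * x) * t⁻¹ := by
    calc t * (x * g) * t⁻¹ = t * x * t⁻¹ * (t * g * t⁻¹) := by group
      _ = t * g * t⁻¹ * (t * x * t⁻¹) := h3
      _ = _ := by group
  exact mul_left_cancel (mul_right_cancel h4)

end Basic

end Cfsg.Agent.Lib.Helper7_NPC
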