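import Mathlib
import Cfsg.Prelude.Def_Characters
import Cfsg.Prelude.Def_Blocks
import Cfsg.Prelude.Def_BlockRank
import Cfsg.Prelude.Def_BlockLocal
import Cfsg.Prelude.Def_BrauerPairs
import Cfsg.Agent.Lib.Helper2_ClassFn
import Cfsg.Agent.Lib.Helper2_CharBasic
import Cfsg.Agent.Lib.Helper2_CharOrtho
import Cfsg.Agent.Lib.Helper2_Clifford
import Cfsg.Agent.Lib.Helper2_CharMore
import Cfsg.Agent.Lib.Helper2_CharDeg
import Cfsg.Agent.Lib.Helper2_CharInd
import Cfsg.Agent.Lib.Helper2_CharExtra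
import Cfsg.Agent.Lib.Helper2_CharInt
import Cfsg.Agent.Lib.Helper2_CharValues
import Cfsg.Agent.Lib.Helper2_CharSum
import Cfsg.Agent.Lib.Helper2_CharComplete
import Cfsg.Agent.Lib.Helper2_CharTable
import Cfsg.Agent.Lib.Helper2_CharCentral
import Cfsg.Agent.Lib.Helper2_ModM
import Cfsg.Agent.Lib.Helper2_Blocks
import Cfsg.Agent.Lib.Helper2_BlockOrtho
import Cfsg.Agent.Lib.Helper2_BlockMore
import Cfsg.Agent.Lib.Helper2_DefectGroup
import Cfsg.Agent.Lib.Helper2_DefectPCore
import Cfsg.Agent.Lib.Helper2_MinMax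
import Cfsg.Agent.Lib.Helper2_InducedBlock
import Cfsg.Agent.Lib.Helper2_BrauerMap
import Cfsg.Agent.Lib.Helper2_InducedDefect
import Cfsg.Agent.Lib.Helper2_BrauerFirst
import Cfsg.Agent.Lib.Helper2_BrauerConverse
import Cfsg.Agent.Lib.Helper2_SylowConj
import Cfsg.Agent.Lib.Helper2_BlockCover
import Cfsg.Agent.Lib.Helper2_BlockConj
import Cfsg.Agent.Lib.Helper2_FirstMain
import Cfsg.Agent.Lib.Helper2_BlockNormal
import Cfsg.Agent.Lib.Helper2_BlockCount
import Cfsg.Agent.Lib.Helper2_BlockCount2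
import Cfsg.Agent.Lib.Helper2_BlockKer
import Cfsg.Agent.Lib.Helper2_PRegCount
import Cfsg.Agent.Lib.Helper2_ExtFirstMain
import Cfsg.Agent.Lib.Helper2_ThirdMain
import Cfsg.Agent.Lib.Helper2_Fong
import Cfsg.Agent.Lib.Helper2_BrauerPairs
import Cfsg.Agent.Lib.Helper2_BrauerInv
import Cfsg.Agent.Lib.Helper2_Conj
import Cfsg.Agent.Lib.Helper2_BrauerChain
import Cfsg.Prelude.Def_FusionSystem
import Cfsg.Prelude.Def_BlockFusion
import Cfsg.Prelude.Def_Transfer
import Cfsg.Agent.Lib.Helper2_BrauerPrincipal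
import Cfsg.Agent.Lib.Helper7_NPC


set_option autoImplicit false

/-!
# Nilpotency of the principal block
-/

namespace Cfsg.Agent.Lib.Helper2_NilpPrincipal

open Cfsg
open Cfsg.Agent.Lib.Helper2_ClassFn
open Cfsg.Agent.Lib.Helper2_CharBasic
open Cfsg.Agent.Lib.Helper2_CharOrtho
open Cfsg.Agent.Lib.Helper2_Clifford
open Cfsg.Agent.Lib.Helper2_CharMore
open Cfsg.Agent.Lib.Helper2_CharDeg
open Cfsg.Agent.Lib.Helper2_CharInd
open Cfsg.Agent.Lib.Helper2_CharExtra
open Cfsg.Agent.Lib.Helper2_CharValues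
open Cfsg.Agent.Lib.Helper2_CharSum
open Cfsg.Agent.Lib.Helper2_CharComplete
open Cfsg.Agent.Lib.Helper2_CharTable
open Cfsg.Agent.Lib.Helper2_CharCentral
open Cfsg.Agent.Lib.Helper2_ModM
open Cfsg.Agent.Lib.Helper2_Blocks
open Cfsg.Agent.Lib.Helper2_BlockOrtho
open Cfsg.Agent.Lib.Helper2_BlockMore
open Cfsg.Agent.Lib.Helper2_DefectGroup
open Cfsg.Agent.Lib.Helper2_DefectPCore
open Cfsg.Agent.Lib.Helper2_MinMax
open Cfsg.Agent.Lib.Helper2_InducedBlock
open Cfsg.Agent.Lib.Helper2_BrauerMap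
open Cfsg.Agent.Lib.Helper2_InducedDefect
open Cfsg.Agent.Lib.Helper2_BrauerFirst
open Cfsg.Agent.Lib.Helper2_BrauerConverse
open Cfsg.Agent.Lib.Helper2_SylowConj
open Cfsg.Agent.Lib.Helper2_BlockCover
open Cfsg.Agent.Lib.Helper2_BlockConj
open Cfsg.Agent.Lib.Helper2_FirstMain
open Cfsg.Agent.Lib.Helper2_BlockNormal
open Cfsg.Agent.Lib.Helper2_BlockCount
open Cfsg.Agent.Lib.Helper2_BlockCount2
open Cfsg.Agent.Lib.Helper2_BlockKer
open Cfsg.Agent.Lib.Helper2_PRegCount
open Cfsg.Agent.Lib.Helper2_ExtFirstMain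
open Cfsg.Agent.Lib.Helper2_ThirdMain
open Cfsg.Agent.Lib.Helper2_Fong
open Cfsg.Agent.Lib.Helper2_BrauerPairs
open Cfsg.Agent.Lib.Helper2_BrauerInv
open Cfsg.Agent.Lib.Helper2_BrauerChain
open Cfsg.Agent.Lib.Helper2_BrauerPrincipal
open scoped ComplexConjugate

universe u

section Nilp

variable {G : Type u} [Group G] [Fintype G] {M : Ideal AlgInt}

omit [Fintype G] in
theorem cjIrr_one_char (P H : Subgroup G) (hPN : P ≤ Subgroup.normalizer (H : Set G)) (d : P) :
    cjIrr P H hPN d ⟨fun _ => (1 : ℂ), isIrrCharacter_one⟩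
      = ⟨fun _ => (1 : ℂ), isIrrCharacter_one⟩ := by
  apply Subtype.ext
  rfl

/-- Every element of the normalizer of `Q` stabilizes the principal block of `C_G(Q)`. -/
theorem stabilizes_principal (Q : Subgroup G) (g : G)
    (hg : g ∈ Subgroup.normalizer (Q : Set G)) :
    StabilizesBlock (Subgroup.centralizer (Q : Set G))
      (principalBlock M (Subgroup.centralizer (Q : Set G))) g := by
  have hPN : Subgroup.normalizer (Q : Set G) ≤ Subgroup.normalizer
      ((Subgroup.centralizer (Q : Set G) : Subgroup G) : Set G) :=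
    normalizer_le_normalizer_centralizer Q
  have h1 : ∀ d : Subgroup.normalizer (Q : Set G),
      cjSet (Subgroup.normalizer (Q : Set G)) (Subgroup.centralizer (Q : Set G)) hPN d
        (principalBlock M (Subgroup.centralizer (Q : Set G)))
      = principalBlock M (Subgroup.centralizer (Q : Set G)) := by
    intro d
    have := cjSet_blockOf (M := M) (Subgroup.normalizer (Q : Set G))
      (Subgroup.centralizer (Q : Set G)) hPN d ⟨fun _ => (1 : ℂ), isIrrCharacter_one⟩
    rw [cjIrr_one_char] at this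
    exact this
  exact ((stabilizes_iff (Subgroup.normalizer (Q : Set G)) (Subgroup.centralizer (Q : Set G))
    hPN _).mpr h1) g hg

/-- **The principal block is nilpotent exactly when the group has a normal `p`-complement.** -/
theorem nilpotent_principal_iff {p : ℕ} [hp : Fact p.Prime] (hM : IsPModular p M) :
    HasNormalPComplement p G ↔ IsNilpotentBlock p M (principalBlock M G) := by
  rw [Cfsg.Agent.Lib.Helper7_NPC.hasNormalPComplement_iff_npc]
  constructor
  · intro h
    have hF := Cfsg.Agent.Lib.Helper7_NPC.frobHyp_of_npc h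
    refine ⟨isPBlock_principal G, ?_⟩
    intro Q e hQe x hx _ hreg
    apply hF Q hQe.1.1 x hx
    exact (Nat.Prime.coprime_iff_not_dvd hp.out).mpr hreg |>.symm
  · intro h
    apply Cfsg.Agent.Lib.Helper7_NPC.npc_of_frobHyp
    intro Q hQ g hg hcop
    have hpair : IsBrauerPairOf p M (principalBlock M G) Q
        (principalBlock M (Subgroup.centralizer (Q : Set G))) :=
      (brauerPair_principal hM Q hQ _ (isPBlock_principal _)).mpr rfl
    apply h.2 Q _ hpair g hg (stabilizes_principal Q g hg)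
    intro hdvd
    have := (Nat.Prime.coprime_iff_not_dvd hp.out).mp hcop.symm
    exact this hdvd

end Nilp

end Cfsg.Agent.Lib.Helper2_NilpPrincipal
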