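import Mathlib
import Cfsg.Prelude.Def_Characters
import Cfsg.Prelude.Def_Blocks
import Cfsg.Prelude.Def_BlockRank
import Cfsg.Prelude.Def_BlockLocal
import Cfsg.Prelude.Def_BrauerPairs
import Cfsg.Agent.Lib.Helper2_ClassFn
import Cfsg.Agent.Lib.Helper2_CharBasic
import Cfsg.Agent.Lib.Helper2_CharOrtho
import Cfsg.Agent.Lib.Helper2_Clifford
import Cfsg.Agent.Lib.Helper2_CharMore
import Cfsg.Agent.Lib.Helper2_CharDeg
import Cfsg.Agent.Lib.Helper2_CharInd
import Cfsg.Agent.Lib.Helper2_CharExtra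
import Cfsg.Agent.Lib.Helper2_CharInt
import Cfsg.Agent.Lib.Helper2_CharValues
import Cfsg.Agent.Lib.Helper2_CharSum
import Cfsg.Agent.Lib.Helper2_CharComplete
import Cfsg.Agent.Lib.Helper2_CharTable
import Cfsg.Agent.Lib.Helper2_CharCentral
import Cfsg.Agent.Lib.Helper2_ModM
import Cfsg.Agent.Lib.Helper2_Blocks
import Cfsg.Agent.Lib.Helper2_BlockOrtho
import Cfsg.Agent.Lib.Helper2_BlockMore
import Cfsg.Agent.Lib.Helper2_DefectGroup
import Cfsg.Agent.Lib.Helper2_DefectPCore
import Cfsg.Agent.Lib.Helper2_MinMax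
import Cfsg.Agent.Lib.Helper2_InducedBlock
import Cfsg.Agent.Lib.Helper2_BrauerMap
import Cfsg.Agent.Lib.Helper2_InducedDefect
import Cfsg.Agent.Lib.Helper2_BrauerFirst
import Cfsg.Agent.Lib.Helper2_BrauerConverse
import Cfsg.Agent.Lib.Helper2_SylowConj
import Cfsg.Agent.Lib.Helper2_BlockCover
import Cfsg.Agent.Lib.Helper2_BlockConj
import Cfsg.Agent.Lib.Helper2_FirstMain
import Cfsg.Agent.Lib.Helper2_BlockNormal
import Cfsg.Agent.Lib.Helper2_BlockCount
import Cfsg.Agent.Lib.Helper2_BlockCount2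
import Cfsg.Agent.Lib.Helper2_BlockKer
import Cfsg.Agent.Lib.Helper2_PRegCount
import Cfsg.Agent.Lib.Helper2_ExtFirstMain
import Cfsg.Agent.Lib.Helper2_ThirdMain
import Cfsg.Agent.Lib.Helper2_Fong
import Cfsg.Agent.Lib.Helper2_BrauerPairs
import Cfsg.Agent.Lib.Helper2_BrauerInv
import Cfsg.Agent.Lib.Helper2_Conj
import Cfsg.Agent.Lib.Helper2_BrauerChain
import Cfsg.Prelude.Def_FusionSystem
import Cfsg.Prelude.Def_BlockFusion
import Cfsg.Prelude.Def_Transfer
import Cfsg.Agent.Lib.Helper2_BrauerPrincipal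
import Cfsg.Agent.Lib.Helper7_NPC
import Cfsg.Agent.Lib.Helper2_NilpPrincipal
import Cfsg.Agent.Lib.Helper2_CharBurnside
import Cfsg.Agent.Lib.Helper2_BlockRank


set_option autoImplicit false

/-!
# Nilpotency of the principal block and its rank
-/

namespace Cfsg.Agent.Lib.Helper2_NilpRank

open Cfsg
open Cfsg.Agent.Lib.Helper2_ClassFn
open Cfsg.Agent.Lib.Helper2_CharBasic
open Cfsg.Agent.Lib.Helper2_CharOrtho
open Cfsg.Agent.Lib.Helper2_Clifford
open Cfsg.Agent.Lib.Helper2_CharMore
open Cfsg.Agent.Lib.Helper2_CharDeg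
open Cfsg.Agent.Lib.Helper2_CharInd
open Cfsg.Agent.Lib.Helper2_CharExtra
open Cfsg.Agent.Lib.Helper2_CharValues
open Cfsg.Agent.Lib.Helper2_CharSum
open Cfsg.Agent.Lib.Helper2_CharComplete
open Cfsg.Agent.Lib.Helper2_CharTable
open Cfsg.Agent.Lib.Helper2_CharCentral
open Cfsg.Agent.Lib.Helper2_ModM
open Cfsg.Agent.Lib.Helper2_Blocks
open Cfsg.Agent.Lib.Helper2_BlockOrtho
open Cfsg.Agent.Lib.Helper2_BlockMore
open Cfsg.Agent.Lib.Helper2_DefectGroup
open Cfsg.Agent.Lib.Helper2_DefectPCore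
open Cfsg.Agent.Lib.Helper2_MinMax
open Cfsg.Agent.Lib.Helper2_InducedBlock
open Cfsg.Agent.Lib.Helper2_BrauerMap
open Cfsg.Agent.Lib.Helper2_InducedDefect
open Cfsg.Agent.Lib.Helper2_BrauerFirst
open Cfsg.Agent.Lib.Helper2_BrauerConverse
open Cfsg.Agent.Lib.Helper2_SylowConj
open Cfsg.Agent.Lib.Helper2_BlockCover
open Cfsg.Agent.Lib.Helper2_BlockConj
open Cfsg.Agent.Lib.Helper2_FirstMain
open Cfsg.Agent.Lib.Helper2_BlockNormal
open Cfsg.Agent.Lib.Helper2_BlockCount
open Cfsg.Agent.Lib.Helper2_BlockCount2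
open Cfsg.Agent.Lib.Helper2_BlockKer
open Cfsg.Agent.Lib.Helper2_PRegCount
open Cfsg.Agent.Lib.Helper2_ExtFirstMain
open Cfsg.Agent.Lib.Helper2_ThirdMain
open Cfsg.Agent.Lib.Helper2_Fong
open Cfsg.Agent.Lib.Helper2_BrauerPairs
open Cfsg.Agent.Lib.Helper2_BrauerInv
open Cfsg.Agent.Lib.Helper2_BrauerChain
open Cfsg.Agent.Lib.Helper2_BrauerPrincipal
open Cfsg.Agent.Lib.Helper2_NilpPrincipal
open scoped ComplexConjugate

universe u

section Rank

variable {G : Type u} [Group G] [Fintype G] {M : Ideal AlgInt}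

omit [Fintype G] in
theorem pRegularPart_apply_of_regular (p : ℕ) (χ : G → ℂ) (x : G) (hx : IsPRegular p x) :
    pRegularPart p χ x = χ x := by
  unfold pRegularPart
  rw [if_pos hx]

omit [Fintype G] in
theorem pRegularPart_apply_of_not_regular (p : ℕ) (χ : G → ℂ) (x : G) (hx : ¬ IsPRegular p x) :
    pRegularPart p χ x = 0 := by
  unfold pRegularPart
  rw [if_neg hx]

omit [Fintype G] in
theorem isPRegular_one (p : ℕ) [hp : Fact p.Prime] : IsPRegular p (1 : G) := by
  unfold IsPRegular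
  rw [orderOf_one]
  exact hp.out.one_lt.ne' ∘ Nat.dvd_one.mp

/-- A normal `p`-complement forces the principal block to have rank one. -/
theorem blockRank_principal_of_npc {p : ℕ} [hp : Fact p.Prime] (hM : IsPModular p M)
    (h : Cfsg.Agent.Lib.Helper7_NPC.NPC p G) : blockRank p (principalBlock M G) = 1 := by
  classical
  have hMm := hM.2.1
  obtain ⟨N, hNn, hNc, k, hk⟩ := h
  set u : G → ℂ := pRegularPart p (fun _ : G => (1 : ℂ)) with hu
  have hu1 : u 1 = 1 := pRegularPart_apply_of_regular p _ 1 (isPRegular_one p)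
  have hune : u ≠ 0 := by
    intro h0
    have := congrFun h0 1
    rw [hu1] at this
    exact one_ne_zero this
  have hone : (⟨fun _ : G => (1 : ℂ), isIrrCharacter_one⟩ : IrrCharacter G)
      ∈ principalBlock M G := sameBlock_refl hMm _
  have hval : ∀ χ ∈ principalBlock M G,
      pRegularPart p ((χ : IrrCharacter G) : G → ℂ) = ((χ : IrrCharacter G) : G → ℂ) 1 • u := by
    intro χ hχ
    have hker : ∀ n ∈ N, (χ : G → ℂ) n = (χ : G → ℂ) 1 :=
      trivial_on_of_sameBlock hM N hNc isIrrCharacter_one χ.2 hχ (fun _ _ => rfl)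
    funext x
    rw [Pi.smul_apply, smul_eq_mul]
    by_cases hx : IsPRegular p x
    · rw [pRegularPart_apply_of_regular p _ x hx, hu, pRegularPart_apply_of_regular p _ x hx,
        mul_one]
      apply hker
      apply Cfsg.Agent.Lib.Helper7_NPC.mem_of_index_pow N hk x
      exact ((Nat.Prime.coprime_iff_not_dvd hp.out).mpr hx).symm
    · rw [pRegularPart_apply_of_not_regular p _ x hx, hu,
        pRegularPart_apply_of_not_regular p _ x hx, mul_zero]
  have hspan : Submodule.span ℂ ((fun χ : IrrCharacter G => pRegularPart p (χ : G → ℂ)) ''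
      (principalBlock M G)) = Submodule.span ℂ {u} := by
    apply le_antisymm
    · rw [Submodule.span_le]
      rintro _ ⟨χ, hχ, rfl⟩
      simp only
      rw [hval χ hχ]
      exact Submodule.smul_mem _ _ (Submodule.mem_span_singleton_self u)
    · rw [Submodule.span_le]
      intro v hv
      rw [Set.mem_singleton_iff] at hv
      rw [hv]
      apply Submodule.subset_span
      exact ⟨_, hone, rfl⟩
  unfold blockRank
  rw [hspan]
  exact finrank_span_singleton hune

/-- Rank one of the principal block forces a normal `p`-complement. -/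
theorem npc_of_blockRank_principal {p : ℕ} [hp : Fact p.Prime] (hM : IsPModular p M)
    (h : blockRank p (principalBlock M G) = 1) : Cfsg.Agent.Lib.Helper7_NPC.NPC p G := by
  classical
  have hMm := hM.2.1
  set one₀ : IrrCharacter G := ⟨fun _ : G => (1 : ℂ), isIrrCharacter_one⟩ with hone₀
  have hone : one₀ ∈ principalBlock M G := sameBlock_refl hMm _
  set V := Submodule.span ℂ ((fun χ : IrrCharacter G => pRegularPart p (χ : G → ℂ)) ''
      (principalBlock M G)) with hV
  set u : G → ℂ := pRegularPart p (fun _ : G => (1 : ℂ)) with hu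
  have hu1 : u 1 = 1 := pRegularPart_apply_of_regular p _ 1 (isPRegular_one p)
  have huV : u ∈ V := Submodule.subset_span ⟨one₀, hone, rfl⟩
  have hune : (⟨u, huV⟩ : V) ≠ 0 := by
    intro h0
    have h1 := congrArg (fun v : V => (v : G → ℂ) 1) h0
    simp only [Submodule.coe_zero, Pi.zero_apply] at h1
    rw [hu1] at h1
    exact one_ne_zero h1
  have hfr : Module.finrank ℂ V = 1 := h
  have hall := (finrank_eq_one_iff_of_nonzero' (⟨u, huV⟩ : V) hune).mp hfr
  -- all members of the block are constant on the regular elements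
  have hval : ∀ χ ∈ principalBlock M G, ∀ x : G, IsPRegular p x →
      ((χ : IrrCharacter G) : G → ℂ) x = ((χ : IrrCharacter G) : G → ℂ) 1 := by
    intro χ hχ x hx
    have hχV : pRegularPart p (χ : G → ℂ) ∈ V := Submodule.subset_span ⟨χ, hχ, rfl⟩
    obtain ⟨c, hc⟩ := hall ⟨_, hχV⟩
    have hc' : c • u = pRegularPart p (χ : G → ℂ) := congrArg (fun v : V => (v : G → ℂ)) hc
    have e1 := congrFun hc' 1
    have e2 := congrFun hc' x
    rw [Pi.smul_apply, smul_eq_mul, hu1, mul_one,
      pRegularPart_apply_of_regular p _ 1 (isPRegular_one p)] at e1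
    rw [Pi.smul_apply, smul_eq_mul, hu, pRegularPart_apply_of_regular p _ x hx, mul_one,
      pRegularPart_apply_of_regular p _ x hx] at e2
    rw [← e2, e1]
  -- the kernel of the block as a normal subgroup
  have hker : ∀ χ : IrrCharacter G, ∃ K : Subgroup G, K.Normal ∧
      ∀ x, x ∈ K ↔ (χ : G → ℂ) x = (χ : G → ℂ) 1 := fun χ =>
    Cfsg.Agent.Lib.Helper2_CharBurnside.exists_ker (IsIrrCharacter.isCharacter χ.2)
  choose K hKn hK using hker
  set K₀ : Subgroup G := ⨅ χ : {χ : IrrCharacter G // χ ∈ principalBlock M G}, K χ.1 with hK₀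
  have hK₀mem : ∀ x, x ∈ K₀ ↔ ∀ χ ∈ principalBlock M G,
      ((χ : IrrCharacter G) : G → ℂ) x = ((χ : IrrCharacter G) : G → ℂ) 1 := by
    intro x
    rw [hK₀, Subgroup.mem_iInf]
    constructor
    · intro hx χ hχ
      exact (hK χ x).mp (hx ⟨χ, hχ⟩)
    · intro hx χ
      exact (hK χ.1 x).mpr (hx χ.1 χ.2)
  haveI hK₀n : K₀.Normal := by
    rw [hK₀]
    exact Subgroup.normal_iInf_normal (fun χ => hKn χ.1)
  have hreg : ∀ x : G, IsPRegular p x → x ∈ K₀ := fun x hx =>
    (hK₀mem x).mpr (fun χ hχ => hval χ hχ x hx)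
  have hnosing : ∀ y ∈ K₀, ¬ p ∣ orderOf y := by
    intro y hy
    apply not_singular_of_mem_blockKer hM one₀ y
    intro χ hχ
    exact (hK₀mem y).mp hy χ hχ
  refine ⟨K₀, hK₀n, ?_, ?_⟩
  · -- the kernel is a `p'`-group
    rw [Nat.coprime_comm, Nat.Prime.coprime_iff_not_dvd hp.out]
    intro hdvd
    obtain ⟨y, hy⟩ := exists_prime_orderOf_dvd_card' p hdvd
    apply hnosing (y : G) y.2
    rw [Subgroup.orderOf_coe, hy]
  · -- the quotient is a `p`-group
    have hpg : IsPGroup p (G ⧸ K₀) := by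
      intro g
      induction g using QuotientGroup.induction_on with
      | H g =>
        set k := (orderOf g).factorization p with hk
        refine ⟨k, ?_⟩
        rw [← QuotientGroup.mk_pow, QuotientGroup.eq_one_iff]
        apply hreg
        unfold IsPRegular
        have hpos : orderOf g ≠ 0 := (orderOf_pos g).ne'
        have hdvd : p ^ k ∣ orderOf g := Nat.ordProj_dvd (orderOf g) p
        rw [orderOf_pow' g (pow_ne_zero k hp.out.ne_zero), Nat.gcd_eq_right hdvd]
        exact Nat.not_dvd_ordCompl hp.out hpos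
    obtain ⟨n, hn⟩ := IsPGroup.iff_card.mp hpg
    exact ⟨n, by rw [Subgroup.index_eq_card]; exact hn⟩

/-- **The principal block is nilpotent iff it has a single irreducible Brauer character.** -/
theorem nilpotent_principal_iff_rank {p : ℕ} [hp : Fact p.Prime] (hM : IsPModular p M) :
    IsNilpotentBlock p M (principalBlock M G) ↔ blockRank p (principalBlock M G) = 1 := by
  rw [← nilpotent_principal_iff hM, Cfsg.Agent.Lib.Helper7_NPC.hasNormalPComplement_iff_npc]
  exact ⟨blockRank_principal_of_npc hM, npc_of_blockRank_principal hM⟩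

end Rank

end Cfsg.Agent.Lib.Helper2_NilpRank
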