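import Mathlib

set_option autoImplicit false

namespace Cfsg.Agent.Lib.Helper2_Nilpotent

open scoped commutatorElement

/-- The supremum of a family of subgroups closed under conjugation is normal. -/
theorem sSup_normal_of_conj_closed {G : Type*} [Group G] (𝒮 : Set (Subgroup G))
    (h : ∀ A ∈ 𝒮, ∀ g : G, A.map (MulAut.conj g).toMonoidHom ∈ 𝒮) : (sSup 𝒮).Normal := by
  constructor
  intro n hn g
  have hle : sSup 𝒮 ≤ (sSup 𝒮).comap (MulAut.conj g).toMonoidHom := by
    apply sSup_le
    intro A hA
    rw [← Subgroup.map_le_iff_le_comap]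
    exact le_sSup (h A hA g)
  have := hle hn
  rw [Subgroup.mem_comap] at this
  simpa [MulAut.conj_apply] using this

/-- Iterated commutator with the whole group. -/
def iterComm {R : Type*} [Group R] (C : Subgroup R) : ℕ → Subgroup R
  | 0 => C
  | k + 1 => ⁅iterComm C k, (⊤ : Subgroup R)⁆

/-- In a nilpotent group, if a normal subgroup `C` is not contained in a subgroup `L`, there is
`c ∈ C \ L` all of whose commutators `⁅c, r⁆` lie in `L`. -/
theorem exists_mem_not_mem_commutator_mem {R : Type*} [Group R] [hn : Group.IsNilpotent R]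
    (C L : Subgroup R) [C.Normal] (hCL : ¬ C ≤ L) :
    ∃ c ∈ C, c ∉ L ∧ ∀ r : R, ⁅c, r⁆ ∈ L := by
  classical
  let D : ℕ → Subgroup R := iterComm C
  have hD0 : D 0 = C := rfl
  have hDs : ∀ k, D (k + 1) = ⁅D k, (⊤ : Subgroup R)⁆ := fun k => rfl
  have hDC : ∀ k, D k ≤ C := by
    intro k
    induction k with
    | zero => exact le_rfl
    | succ k ih =>
      rw [hDs]
      exact (Subgroup.commutator_mono ih le_rfl).trans (Subgroup.commutator_le_left C ⊤)
  have hDlcs : ∀ k, D k ≤ (⊤ : Subgroup R).lowerCentralSeries k := by
    intro k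
    induction k with
    | zero => simp
    | succ k ih =>
      rw [hDs, Subgroup.lowerCentralSeries_succ]
      exact Subgroup.commutator_mono ih le_rfl
  obtain ⟨n, hn'⟩ := Subgroup.nilpotent_iff_lowerCentralSeries.mp hn
  have hDn : D n ≤ L := by
    have := hDlcs n
    rw [hn'] at this
    exact this.trans bot_le
  have main : ∀ k, D k ≤ L → ∃ c ∈ C, c ∉ L ∧ ∀ r : R, ⁅c, r⁆ ∈ L := by
    intro k
    induction k with
    | zero =>
      intro h
      exact absurd h hCL
    | succ j ih =>
      intro h
      by_cases hj : D j ≤ L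
      · exact ih hj
      · obtain ⟨c, hcD, hcL⟩ := SetLike.not_le_iff_exists.mp hj
        refine ⟨c, hDC j hcD, hcL, ?_⟩
        intro r
        apply h
        rw [hDs]
        exact Subgroup.commutator_mem_commutator hcD (Subgroup.mem_top r)
  exact main n hDn

/-- Commutativity of a join of two commutative, mutually commuting subgroups. -/
theorem sup_commute {G : Type*} [Group G] (A B : Subgroup G)
    (hA : ∀ x ∈ A, ∀ y ∈ A, x * y = y * x) (hB : ∀ x ∈ B, ∀ y ∈ B, x * y = y * x)
    (hAB : ∀ x ∈ A, ∀ y ∈ B, x * y = y * x) :
    ∀ x ∈ A ⊔ B, ∀ y ∈ A ⊔ B, x * y = y * x := by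
  have key : A ⊔ B ≤ Subgroup.centralizer ((A ⊔ B : Subgroup G) : Set G) := by
    apply sup_le
    · intro a ha
      rw [Subgroup.mem_centralizer_iff]
      intro y hy
      have hy' : y ∈ A ⊔ B := hy
      have : A ⊔ B ≤ Subgroup.centralizer ({a} : Set G) := by
        apply sup_le
        · intro x hx
          rw [Subgroup.mem_centralizer_iff]
          intro z hz
          rw [Set.mem_singleton_iff] at hz
          rw [hz]; exact hA a ha x hx
        · intro x hx
          rw [Subgroup.mem_centralizer_iff]
          intro z hz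
          rw [Set.mem_singleton_iff] at hz
          rw [hz]; exact hAB a ha x hx
      have h2 := this hy'
      rw [Subgroup.mem_centralizer_iff] at h2
      exact (h2 a rfl).symm
    · intro b hb
      rw [Subgroup.mem_centralizer_iff]
      intro y hy
      have hy' : y ∈ A ⊔ B := hy
      have : A ⊔ B ≤ Subgroup.centralizer ({b} : Set G) := by
        apply sup_le
        · intro x hx
          rw [Subgroup.mem_centralizer_iff]
          intro z hz
          rw [Set.mem_singleton_iff] at hz
          rw [hz]; exact (hAB x hx b hb).symm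
        · intro x hx
          rw [Subgroup.mem_centralizer_iff]
          intro z hz
          rw [Set.mem_singleton_iff] at hz
          rw [hz]; exact hB b hb x hx
      have h2 := this hy'
      rw [Subgroup.mem_centralizer_iff] at h2
      exact (h2 b rfl).symm
  intro x hx y hy
  have := key hx
  rw [Subgroup.mem_centralizer_iff] at this
  exact (this y hy).symm

end Cfsg.Agent.Lib.Helper2_Nilpotent
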