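import Mathlib
import Cfsg.Prelude.Def_Characters
import Cfsg.Prelude.Def_Blocks
import Cfsg.Prelude.Def_BlockRank
import Cfsg.Agent.Lib.Helper2_ClassFn
import Cfsg.Agent.Lib.Helper2_CharBasic
import Cfsg.Agent.Lib.Helper2_CharOrtho
import Cfsg.Agent.Lib.Helper2_Clifford
import Cfsg.Agent.Lib.Helper2_CharMore
import Cfsg.Agent.Lib.Helper2_CharDeg
import Cfsg.Agent.Lib.Helper2_CharInd
import Cfsg.Agent.Lib.Helper2_CharExtra
import Cfsg.Agent.Lib.Helper2_CharInt
import Cfsg.Agent.Lib.Helper2_CharValues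
import Cfsg.Agent.Lib.Helper2_CharSum
import Cfsg.Agent.Lib.Helper2_CharComplete
import Cfsg.Agent.Lib.Helper2_CharTable
import Cfsg.Agent.Lib.Helper2_CharCentral
import Cfsg.Agent.Lib.Helper2_ModM
import Cfsg.Agent.Lib.Helper2_Blocks
import Cfsg.Agent.Lib.Helper2_BlockOrtho
import Cfsg.Agent.Lib.Helper2_BlockMore
import Cfsg.Agent.Lib.Helper2_DefectGroup
import Cfsg.Agent.Lib.Helper2_DefectPCore
import Cfsg.Agent.Lib.Helper2_MinMax
import Cfsg.Agent.Lib.Helper2_InducedBlock
import Cfsg.Agent.Lib.Helper2_BrauerMap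
import Cfsg.Agent.Lib.Helper2_InducedDefect
import Cfsg.Agent.Lib.Helper2_BrauerFirst
import Cfsg.Agent.Lib.Helper2_BrauerConverse
import Cfsg.Agent.Lib.Helper2_SylowConj
import Cfsg.Agent.Lib.Helper2_BlockCover
import Cfsg.Agent.Lib.Helper2_BlockConj
import Cfsg.Agent.Lib.Helper2_FirstMain
import Cfsg.Agent.Lib.Helper2_BlockNormal
import Cfsg.Agent.Lib.Helper2_BlockCount
import Cfsg.Agent.Lib.Helper2_BlockCount2
import Cfsg.Agent.Lib.Helper2_BlockKer
import Cfsg.Agent.Lib.Helper2_PRegCount
import Cfsg.Agent.Lib.Helper2_ExtFirstMain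
import Cfsg.Agent.Lib.Helper2_ThirdMain


set_option autoImplicit false

/-!
# Support of block idempotents for a normal p-subgroup
-/

namespace Cfsg.Agent.Lib.Helper2_NormalPSupport

open Cfsg
open Cfsg.Agent.Lib.Helper2_ClassFn
open Cfsg.Agent.Lib.Helper2_CharBasic
open Cfsg.Agent.Lib.Helper2_CharOrtho
open Cfsg.Agent.Lib.Helper2_Clifford
open Cfsg.Agent.Lib.Helper2_CharMore
open Cfsg.Agent.Lib.Helper2_CharDeg
open Cfsg.Agent.Lib.Helper2_CharInd
open Cfsg.Agent.Lib.Helper2_CharExtra
open Cfsg.Agent.Lib.Helper2_CharValues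
open Cfsg.Agent.Lib.Helper2_CharSum
open Cfsg.Agent.Lib.Helper2_CharComplete
open Cfsg.Agent.Lib.Helper2_CharTable
open Cfsg.Agent.Lib.Helper2_CharCentral
open Cfsg.Agent.Lib.Helper2_ModM
open Cfsg.Agent.Lib.Helper2_Blocks
open Cfsg.Agent.Lib.Helper2_BlockOrtho
open Cfsg.Agent.Lib.Helper2_BlockMore
open Cfsg.Agent.Lib.Helper2_DefectGroup
open Cfsg.Agent.Lib.Helper2_DefectPCore
open Cfsg.Agent.Lib.Helper2_MinMax
open Cfsg.Agent.Lib.Helper2_InducedBlock
open Cfsg.Agent.Lib.Helper2_BrauerMap
open Cfsg.Agent.Lib.Helper2_InducedDefect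
open Cfsg.Agent.Lib.Helper2_BrauerFirst
open Cfsg.Agent.Lib.Helper2_BrauerConverse
open Cfsg.Agent.Lib.Helper2_SylowConj
open Cfsg.Agent.Lib.Helper2_BlockCover
open Cfsg.Agent.Lib.Helper2_BlockConj
open Cfsg.Agent.Lib.Helper2_FirstMain
open Cfsg.Agent.Lib.Helper2_BlockNormal
open Cfsg.Agent.Lib.Helper2_BlockCount
open Cfsg.Agent.Lib.Helper2_BlockCount2
open Cfsg.Agent.Lib.Helper2_BlockKer
open Cfsg.Agent.Lib.Helper2_PRegCount
open Cfsg.Agent.Lib.Helper2_ExtFirstMain
open Cfsg.Agent.Lib.Helper2_ThirdMain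
open scoped ComplexConjugate

universe u


variable {G : Type u} [Group G] [Fintype G] {M : Ideal AlgInt}

/-- Characters lying over a common irreducible character of the centralizer of a normal
`p`-subgroup are in the same `p`-block. -/
theorem sameBlock_of_common_centralizer {p : ℕ} [hp : Fact p.Prime] (hM : IsPModular p M)
    (P : Subgroup G) [hPn : P.Normal] (hP : IsPGroup p P)
    [Fintype (Subgroup.centralizer (P : Set G))]
    (χ ψ : IrrCharacter G) {θ : Subgroup.centralizer (P : Set G) → ℂ}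
    (hθ : IsIrrCharacter (Subgroup.centralizer (P : Set G)) θ)
    (h1 : classInner (fun n : Subgroup.centralizer (P : Set G) => (χ : G → ℂ) n) θ ≠ 0)
    (h2 : classInner (fun n : Subgroup.centralizer (P : Set G) => (ψ : G → ℂ) n) θ ≠ 0) :
    SameBlock M (χ : G → ℂ) (ψ : G → ℂ) := by
  classical
  have hMm := hM.2.1
  intro g
  by_cases hg : g ∈ Subgroup.centralizer (P : Set G)
  · have hχc := IsCharacter.isClassFunction (IsIrrCharacter.isCharacter χ.2)
    have hψc := IsCharacter.isClassFunction (IsIrrCharacter.isCharacter ψ.2)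
    rw [centralChar_eq_om_classInd hχc g, centralChar_eq_om_classInd hψc g]
    have hz : IsClassFunction G (fun x => if IsConj g x then (1 : ℂ) else 0) := by
      intro x y
      have : IsConj g (y * x * y⁻¹) ↔ IsConj g x := by
        constructor
        · intro h
          exact h.trans (isConj_iff.mpr ⟨y⁻¹, by group⟩)
        · intro h
          exact h.trans (isConj_iff.mpr ⟨y, rfl⟩)
      simp only [this]
    have hsupp : ∀ x, x ∉ Subgroup.centralizer (P : Set G) →
        (fun x => if IsConj g x then (1 : ℂ) else 0) x = 0 := by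
      intro x hx
      show (if IsConj g x then (1 : ℂ) else 0) = 0
      rw [if_neg]
      intro hc
      obtain ⟨c, hc⟩ := isConj_iff.mp hc
      apply hx
      rw [← hc]
      exact (Subgroup.normal_centralizer (H := P)).conj_mem g hg c
    rw [om_of_supported _ hz hsupp hθ χ.2 h1, om_of_supported _ hz hsupp hθ ψ.2 h2, sub_self]
    exact memLocalIdeal_zero hMm
  · have hnc : ¬ P ≤ Subgroup.centralizer ({g} : Set G) := by
      intro hle
      apply hg
      rw [Subgroup.mem_centralizer_iff]
      intro x hx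
      have := hle hx
      rw [Subgroup.mem_centralizer_iff] at this
      exact (this g rfl).symm
    exact memLocalIdeal_sub hMm
      (memLocalIdeal_centralChar_of_not_centralize' hM P hP χ g hnc)
      (memLocalIdeal_centralChar_of_not_centralize' hM P hP ψ g hnc)

/-- For `θ` an irreducible character of a normal subgroup `N` and `g ∉ N`, the induced
character vanishes at `g`, in expanded form. -/
theorem sum_classInner_restrict_mul_conj (N : Subgroup G) [hN : N.Normal] [Fintype N]
    (θ : N → ℂ) (g : G) (hg : g ∉ N) :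
    ∑ ψ ∈ irrFinset G, classInner (fun n : N => ψ n) θ * conj (ψ g) = 0 := by
  classical
  unfold classInner
  have h1 : ∀ ψ ∈ irrFinset G,
      ((Nat.card N : ℂ)⁻¹ * ∑ n : N, ψ n * conj (θ n)) * conj (ψ g)
        = (Nat.card N : ℂ)⁻¹ * ∑ n : N, conj (θ n) * (ψ n * conj (ψ g)) := by
    intro ψ _
    rw [mul_assoc, Finset.sum_mul]
    congr 1
    exact Finset.sum_congr rfl fun n _ => by ring
  rw [Finset.sum_congr rfl h1, ← Finset.mul_sum, Finset.sum_comm]
  have h2 : ∀ n : N, ∑ ψ ∈ irrFinset G, conj (θ n) * (ψ n * conj (ψ g)) = 0 := by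
    intro n
    rw [← Finset.mul_sum, second_orthogonality', if_neg, mul_zero]
    intro hc
    obtain ⟨c, hc⟩ := isConj_iff.mp hc
    apply hg
    rw [← hc]
    exact hN.conj_mem n n.2 c
  rw [Finset.sum_congr rfl fun n _ => h2 n, Finset.sum_const_zero, mul_zero]

/-- **Support of block idempotents**: if `P` is a normal `p`-subgroup, the idempotent of every
`p`-block has zero coefficient outside the centralizer of `P`. -/
theorem blockCoeff_eq_zero_of_not_mem_centralizer {p : ℕ} [hp : Fact p.Prime]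
    (hM : IsPModular p M) (P : Subgroup G) [hPn : P.Normal] (hP : IsPGroup p P)
    (B : Set (IrrCharacter G)) (hB : IsPBlock M B) (g : G)
    (hg : g ∉ Subgroup.centralizer (P : Set G)) : blockCoeff B g = 0 := by
  classical
  have hMm := hM.2.1
  obtain ⟨χ₀, rfl⟩ := hB
  set C := Subgroup.centralizer (P : Set G) with hC
  haveI : C.Normal := Subgroup.normal_centralizer
  rw [blockCoeff_eq]
  have hexp : ∀ ψ ∈ irrFinset G, ψ 1 = ∑ θ ∈ irrFinset C,
      classInner (fun n : C => ψ n) θ * θ 1 := by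
    intro ψ hψ
    have hcf : IsClassFunction C (fun n : C => ψ n) :=
      IsCharacter.isClassFunction (IsCharacter.restrict
        (IsIrrCharacter.isCharacter (mem_irrFinset.mp hψ)) C)
    have := congrFun (IsClassFunction.expansion hcf) 1
    simp only [Finset.sum_apply, Pi.smul_apply, smul_eq_mul, OneMemClass.coe_one] at this
    exact this
  have h1 : ∀ ψ ∈ irrFinset G,
      (if MemB (blockOf M (χ₀ : G → ℂ)) ψ then ψ 1 * conj (ψ g) else 0)
        = ∑ θ ∈ irrFinset C, θ 1 * (if MemB (blockOf M (χ₀ : G → ℂ)) ψ then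
            classInner (fun n : C => ψ n) θ * conj (ψ g) else 0) := by
    intro ψ hψ
    split_ifs with hm
    · rw [hexp ψ hψ, Finset.sum_mul]
      exact Finset.sum_congr rfl fun θ _ => by ring
    · simp
  rw [Finset.sum_congr rfl h1, Finset.sum_comm]
  have h2 : ∀ θ ∈ irrFinset C, ∑ ψ ∈ irrFinset G,
      θ 1 * (if MemB (blockOf M (χ₀ : G → ℂ)) ψ then
            classInner (fun n : C => ψ n) θ * conj (ψ g) else 0) = 0 := by
    intro θ hθ
    rw [← Finset.mul_sum]
    by_cases hex : ∃ ψ₀ ∈ irrFinset G, MemB (blockOf M (χ₀ : G → ℂ)) ψ₀ ∧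
        classInner (fun n : C => ψ₀ n) θ ≠ 0
    · obtain ⟨ψ₀, hψ₀, hm₀, hne₀⟩ := hex
      have h3 : ∀ ψ ∈ irrFinset G,
          (if MemB (blockOf M (χ₀ : G → ℂ)) ψ then
            classInner (fun n : C => ψ n) θ * conj (ψ g) else 0)
            = classInner (fun n : C => ψ n) θ * conj (ψ g) := by
        intro ψ hψ
        split_ifs with hm
        · rfl
        · by_cases hne : classInner (fun n : C => ψ n) θ = 0
          · rw [hne, zero_mul]
          · exfalso
            apply hm
            rw [memB_blockOf _ hψ]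
            rw [memB_blockOf _ hψ₀] at hm₀
            have := sameBlock_of_common_centralizer hM P hP
              ⟨ψ₀, mem_irrFinset.mp hψ₀⟩ ⟨ψ, mem_irrFinset.mp hψ⟩ (mem_irrFinset.mp hθ) hne₀ hne
            exact sameBlock_trans hMm hm₀ this
      rw [Finset.sum_congr rfl h3, sum_classInner_restrict_mul_conj C θ g hg, mul_zero]
    · push Not at hex
      have h3 : ∀ ψ ∈ irrFinset G,
          (if MemB (blockOf M (χ₀ : G → ℂ)) ψ then
            classInner (fun n : C => ψ n) θ * conj (ψ g) else 0) = 0 := by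
        intro ψ hψ
        split_ifs with hm
        · rw [hex ψ hψ hm, zero_mul]
        · rfl
      rw [Finset.sum_congr rfl h3, Finset.sum_const_zero, mul_zero]
  rw [Finset.sum_congr rfl h2, Finset.sum_const_zero, mul_zero]

end Cfsg.Agent.Lib.Helper2_NormalPSupport
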