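import Mathlib
import Cfsg.Prelude.Def_Characters
import Cfsg.Prelude.Def_Blocks
import Cfsg.Prelude.Def_BlockRank
import Cfsg.Agent.Lib.Helper2_ClassFn
import Cfsg.Agent.Lib.Helper2_CharBasic
import Cfsg.Agent.Lib.Helper2_CharOrtho
import Cfsg.Agent.Lib.Helper2_CharMore
import Cfsg.Agent.Lib.Helper2_CharValues
import Cfsg.Agent.Lib.Helper2_CharSum
import Cfsg.Agent.Lib.Helper2_CharCentral
import Cfsg.Agent.Lib.Helper2_ModM
import Cfsg.Agent.Lib.Helper2_Blocks
import Cfsg.Agent.Lib.Helper2_BlockOrtho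
import Cfsg.Agent.Lib.Helper2_BlockMore
import Cfsg.Agent.Lib.Helper2_DefectGroup
import Cfsg.Agent.Lib.Helper2_DefectPCore
import Cfsg.Agent.Lib.Helper2_MinMax
import Cfsg.Agent.Lib.Helper2_InducedBlock
import Cfsg.Agent.Lib.Helper2_BrauerMap
import Cfsg.Agent.Lib.Helper2_InducedDefect
import Cfsg.Agent.Lib.Helper2_BrauerFirst
import Cfsg.Agent.Lib.Helper2_BrauerConverse
import Cfsg.Agent.Lib.Helper2_SylowConj
import Cfsg.Agent.Lib.Helper2_BlockCover
import Cfsg.Agent.Lib.Helper2_BlockConj
import Cfsg.Agent.Lib.Helper2_FirstMain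
import Cfsg.Agent.Lib.Helper2_BlockNormal
import Cfsg.Agent.Lib.Helper2_BlockCount
import Cfsg.Agent.Lib.Helper2_BlockCount2
import Cfsg.Agent.Lib.Helper2_BlockKer
import Cfsg.Agent.Lib.Helper2_PRegCount
import Cfsg.Agent.Lib.Helper2_ExtFirstMain
import Cfsg.Agent.Lib.Helper2_ThirdMain


set_option autoImplicit false

/-!
# Miscellaneous results on the principal block
-/

namespace Cfsg.Agent.Lib.Helper2_PrincipalMisc

open Cfsg
open Cfsg.Agent.Lib.Helper2_ClassFn
open Cfsg.Agent.Lib.Helper2_CharBasic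
open Cfsg.Agent.Lib.Helper2_CharOrtho
open Cfsg.Agent.Lib.Helper2_CharMore
open Cfsg.Agent.Lib.Helper2_CharValues
open Cfsg.Agent.Lib.Helper2_CharSum
open Cfsg.Agent.Lib.Helper2_CharCentral
open Cfsg.Agent.Lib.Helper2_ModM
open Cfsg.Agent.Lib.Helper2_Blocks
open Cfsg.Agent.Lib.Helper2_BlockOrtho
open Cfsg.Agent.Lib.Helper2_BlockMore
open Cfsg.Agent.Lib.Helper2_DefectGroup
open Cfsg.Agent.Lib.Helper2_DefectPCore
open Cfsg.Agent.Lib.Helper2_MinMax
open Cfsg.Agent.Lib.Helper2_InducedBlock
open Cfsg.Agent.Lib.Helper2_BrauerMap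
open Cfsg.Agent.Lib.Helper2_InducedDefect
open Cfsg.Agent.Lib.Helper2_BrauerFirst
open Cfsg.Agent.Lib.Helper2_BrauerConverse
open Cfsg.Agent.Lib.Helper2_SylowConj
open Cfsg.Agent.Lib.Helper2_BlockCover
open Cfsg.Agent.Lib.Helper2_BlockConj
open Cfsg.Agent.Lib.Helper2_FirstMain
open Cfsg.Agent.Lib.Helper2_BlockNormal
open Cfsg.Agent.Lib.Helper2_BlockCount
open Cfsg.Agent.Lib.Helper2_BlockCount2
open Cfsg.Agent.Lib.Helper2_BlockKer
open Cfsg.Agent.Lib.Helper2_PRegCount
open Cfsg.Agent.Lib.Helper2_ExtFirstMain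
open Cfsg.Agent.Lib.Helper2_ThirdMain
open scoped ComplexConjugate

universe u

variable {G : Type u} [Group G] [Fintype G] {M : Ideal AlgInt}

open Classical in
/-- The principal block has a nontrivial character of degree prime to `p` iff `p` divides the
group order. -/
theorem principal_pprime_iff {p : ℕ} [hp : Fact p.Prime] (hM : IsPModular p M) :
    (∀ χ : IrrCharacter G, χ ∈ principalBlock M G → ¬ p ∣ charDegree (χ : G → ℂ) →
      (χ : G → ℂ) = fun _ => (1 : ℂ)) ↔ ¬ p ∣ Nat.card G := by
  have hMm := hM.2.1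
  constructor
  · intro h hdvd
    obtain ⟨g, hg⟩ := exists_prime_orderOf_dvd_card' p hdvd
    have h1 : ¬ p ∣ orderOf (1 : G) := by
      rw [orderOf_one]
      exact hp.out.one_lt.ne' ∘ Nat.dvd_one.mp
    have hy : p ∣ orderOf g := by rw [hg]
    have hw := wbo_finsum hM ⟨fun _ => 1, isIrrCharacter_one⟩ 1 g h1 hy
    rw [finsum_mem_eq_sum _ (fun ψ => ψ 1 * conj (ψ g))] at hw
    have h1mem : (fun _ : G => (1 : ℂ)) ∈ irrFinset G := mem_irrFinset.mpr isIrrCharacter_one
    rw [← Finset.add_sum_erase _ _ h1mem] at hw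
    have hfirst : (if MemB (blockOf M (fun _ : G => (1 : ℂ))) (fun _ : G => (1 : ℂ))
        then (fun _ : G => (1 : ℂ)) 1 * conj ((fun _ : G => (1 : ℂ)) g) else 0) = 1 := by
      rw [if_pos]
      · simp
      · exact ⟨isIrrCharacter_one, sameBlock_refl hMm _⟩
    have hrest : MemLocalIdeal M (∑ ψ ∈ (irrFinset G).erase (fun _ : G => (1 : ℂ)),
        if MemB (blockOf M (fun _ : G => (1 : ℂ))) ψ then ψ 1 * conj (ψ g) else 0) := by
      refine memLocalIdeal_sum hMm _ _ fun ψ hψ => ?_
      have hψne := (Finset.mem_erase.mp hψ).1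
      have hψirr := mem_irrFinset.mp (Finset.mem_erase.mp hψ).2
      by_cases hm : MemB (blockOf M (fun _ : G => (1 : ℂ))) ψ
      · rw [if_pos hm]
        have hdvdψ : p ∣ charDegree ψ := by
          by_contra hnd
          obtain ⟨hi, hmem⟩ := hm
          exact hψne (h ⟨ψ, hi⟩ hmem hnd)
        obtain ⟨k, hk⟩ := hdvdψ
        rw [(apply_one_eq_charDegree hψirr).1, hk, Nat.cast_mul, mul_assoc]
        have hint : IsIntegral ℤ ((k : ℂ) * conj (ψ g)) :=
          (isIntegral_nat k).mul
            (IsCharacter.isIntegral (IsCharacter.conj (IsIrrCharacter.isCharacter hψirr)) g)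
        have := memLocalIdeal_mul_int hMm (memLocalIdeal_p hM) hint
        rw [mul_comm]
        exact this
      · rw [if_neg hm]
        exact memLocalIdeal_zero hMm
    rw [hfirst] at hw
    have h1' : (1 : ℂ) = -(∑ ψ ∈ (irrFinset G).erase (fun _ : G => (1 : ℂ)),
        if MemB (blockOf M (fun _ : G => (1 : ℂ))) ψ then ψ 1 * conj (ψ g) else 0) := by
      linear_combination hw
    apply not_memLocalIdeal_one hMm
    rw [h1']
    exact memLocalIdeal_neg hMm hrest
  · intro hnd χ hχ _
    have hdeg : charDegree (fun _ : G => (1 : ℂ)) = 1 := charDegree_eq' (by simp)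
    have hs := blockOf_eq_singleton_of_defect_zero hM
      (⟨fun _ => 1, isIrrCharacter_one⟩ : IrrCharacter G) (by
        show ¬ p ∣ Nat.card G / charDegree (fun _ : G => (1 : ℂ))
        rw [hdeg, Nat.div_one]
        exact hnd)
    have hχ' : χ ∈ blockOf M (fun _ : G => (1 : ℂ)) := hχ
    have hs' : blockOf M (fun _ : G => (1 : ℂ))
        = {(⟨fun _ => 1, isIrrCharacter_one⟩ : IrrCharacter G)} := hs
    rw [hs'] at hχ'
    have := Set.mem_singleton_iff.mp hχ'
    rw [this]

section Pairing

omit [Group G] [Fintype G] in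
open Classical in
/-- A sum over a finite type with an involution, whose summands are congruent along the
involution and vanish at its fixed points, vanishes modulo an ideal containing `2`. -/
theorem memLocalIdeal_sum_of_involution (hMm : M.IsMaximal) (h2 : MemLocalIdeal M (2 : ℂ))
    {α : Type*} [Fintype α] (τ : α → α) (hτ : ∀ a, τ (τ a) = a) (f : α → ℂ)
    (hf : ∀ a, MemLocalRing M (f a)) (hfτ : ∀ a, MemLocalIdeal M (f (τ a) - f a))
    (hfix : ∀ a, τ a = a → MemLocalIdeal M (f a)) : MemLocalIdeal M (∑ a, f a) := by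
  set e := Fintype.equivFin α with he
  have hsplit : ∑ a, f a = ∑ a ∈ Finset.univ.filter (fun a => τ a = a), f a
      + (∑ a ∈ (Finset.univ.filter (fun a => ¬ τ a = a)).filter (fun a => e a < e (τ a)), f a
      + ∑ a ∈ (Finset.univ.filter (fun a => ¬ τ a = a)).filter (fun a => ¬ e a < e (τ a)),
          f a) := by
    rw [Finset.sum_filter_add_sum_filter_not, Finset.sum_filter_add_sum_filter_not]
  have hswap : ∑ a ∈ (Finset.univ.filter (fun a => ¬ τ a = a)).filter
        (fun a => ¬ e a < e (τ a)), f a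
      = ∑ a ∈ (Finset.univ.filter (fun a => ¬ τ a = a)).filter (fun a => e a < e (τ a)),
          f (τ a) := by
    refine Finset.sum_nbij' τ τ ?_ ?_ ?_ ?_ ?_
    · intro a ha
      simp only [Finset.mem_filter, Finset.mem_univ, true_and] at ha ⊢
      refine ⟨fun h => ha.1 (by rw [hτ] at h; exact h.symm), ?_⟩
      rw [hτ]
      have hne : e (τ a) ≠ e a := fun h => ha.1 (e.injective h)
      exact lt_of_le_of_ne (not_lt.mp ha.2) hne
    · intro a ha
      simp only [Finset.mem_filter, Finset.mem_univ, true_and] at ha ⊢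
      refine ⟨fun h => ha.1 (by rw [hτ] at h; exact h.symm), ?_⟩
      rw [hτ]
      exact not_lt.mpr (le_of_lt ha.2)
    · intro a _
      exact hτ a
    · intro a _
      exact hτ a
    · intro a _
      rw [hτ]
  rw [hsplit, hswap, ← Finset.sum_add_distrib]
  refine memLocalIdeal_add hMm ?_ ?_
  · refine memLocalIdeal_sum hMm _ _ fun a ha => ?_
    exact hfix a (Finset.mem_filter.mp ha).2
  · refine memLocalIdeal_sum hMm _ _ fun a _ => ?_
    have e1 : f a + f (τ a) = f a * 2 + (f (τ a) - f a) := by ring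
    rw [e1]
    exact memLocalIdeal_add hMm (memLocalIdeal_mul_ring hMm h2 (hf a)) (hfτ a)

open Classical in
/-- A real class of nonidentity elements of odd order has even size. -/
theorem even_index_centralizer_of_real (g : G) (hodd : ¬ 2 ∣ orderOf g) (hg1 : g ≠ 1)
    (hreal : IsConj g g⁻¹) : 2 ∣ (Subgroup.centralizer ({g} : Set G)).index := by
  rw [index_centralizer_eq]
  have hsum : ∑ x ∈ Finset.univ.filter (fun x : G => IsConj x g), (1 : ZMod 2) = 0 := by
    refine Finset.sum_involution (fun x _ => x⁻¹) ?_ ?_ ?_ ?_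
    · intro x _
      exact CharTwo.add_self_eq_zero 1
    · intro x hx _ hxx
      have hx' : IsConj x g := (Finset.mem_filter.mp hx).2
      have h1 : x * x = 1 := by
        have : x⁻¹ = x := hxx
        calc x * x = x⁻¹ * x := by rw [this]
          _ = 1 := inv_mul_cancel x
      have h2 : orderOf x ∣ 2 := orderOf_dvd_of_pow_eq_one (by rw [pow_two]; exact h1)
      have hox : orderOf x = orderOf g := by
        obtain ⟨t, ht⟩ := isConj_iff.mp hx'
        rw [← ht]
        exact ((MulAut.conj t).orderOf_eq x).symm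
      rw [hox] at h2
      rcases (Nat.dvd_prime Nat.prime_two).mp h2 with h | h
      · exact hg1 (orderOf_eq_one_iff.mp h)
      · exact hodd (by rw [h])
    · intro x hx
      have hx' : IsConj x g := (Finset.mem_filter.mp hx).2
      refine Finset.mem_filter.mpr ⟨Finset.mem_univ _, ?_⟩
      obtain ⟨t, ht⟩ := isConj_iff.mp hx'
      have : IsConj x⁻¹ g⁻¹ := isConj_iff.mpr ⟨t, by rw [← ht]; group⟩
      exact this.trans hreal.symm
    · intro x _
      exact inv_inv x
  rw [Finset.sum_const, nsmul_eq_mul, mul_one] at hsum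
  exact (ZMod.natCast_eq_zero_iff _ _).mp hsum

end Pairing

section Real

omit [Fintype G] in
theorem centralizer_singleton_inv (g : G) :
    Subgroup.centralizer ({g⁻¹} : Set G) = Subgroup.centralizer ({g} : Set G) := by
  ext x
  rw [Subgroup.mem_centralizer_singleton_iff, Subgroup.mem_centralizer_singleton_iff]
  constructor
  · intro h
    have : g * (x * g⁻¹) * g = g * (g⁻¹ * x) * g := by rw [h]
    have e1 : g * (x * g⁻¹) * g = g * x := by group
    have e2 : g * (g⁻¹ * x) * g = x * g := by group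
    rw [e1, e2] at this
    exact this.symm
  · intro h
    have : g⁻¹ * (x * g) * g⁻¹ = g⁻¹ * (g * x) * g⁻¹ := by rw [h]
    have e1 : g⁻¹ * (x * g) * g⁻¹ = g⁻¹ * x := by group
    have e2 : g⁻¹ * (g * x) * g⁻¹ = x * g⁻¹ := by group
    rw [e1, e2] at this
    exact this.symm

omit [Fintype G] in
theorem centralChar_inv [Finite G] {χ : G → ℂ} (hχ : IsIrrCharacter G χ) (g : G) :
    centralChar χ g⁻¹ = centralChar (fun x => conj (χ x)) g := by
  unfold centralChar
  rw [centralizer_singleton_inv, IsCharacter.apply_inv (IsIrrCharacter.isCharacter hχ)]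
  obtain ⟨n, _, hn⟩ := IsIrrCharacter.apply_one hχ
  simp only [hn, Complex.conj_natCast]

omit [Fintype G] in
theorem isConj_inv_inv {a b : G} (h : IsConj a b) : IsConj a⁻¹ b⁻¹ := by
  obtain ⟨t, ht⟩ := isConj_iff.mp h
  exact isConj_iff.mpr ⟨t, by rw [← ht]; group⟩

open Classical in
/-- **A real `2`-block of full defect is the principal block.** -/
theorem real_full_defect_principal (hM : IsPModular 2 M) (B : Set (IrrCharacter G))
    (hB : IsPBlock M B) (P : Sylow 2 G) (hfull : IsDefectGroup 2 M B (P : Subgroup G))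
    (hreal : {ψ : IrrCharacter G | ∃ χ ∈ B,
      (ψ : G → ℂ) = fun g => (starRingEnd ℂ) ((χ : G → ℂ) g)} = B) :
    B = principalBlock M G := by
  haveI : Fact (Nat.Prime 2) := ⟨Nat.prime_two⟩
  have hMm := hM.2.1
  obtain ⟨χ₀, rfl⟩ := hB
  have hcard := card_defectGroup hM χ₀ _ hfull
  have hsyl := P.card_eq_multiplicity
  have hda : blockDefect 2 (blockOf M (χ₀ : G → ℂ)) = (Nat.card G).factorization 2 := by
    have h : Nat.card (P : Subgroup G) = Nat.card P := rfl
    rw [h, hsyl] at hcard
    exact (Nat.pow_right_injective (le_refl 2) hcard).symm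
  obtain ⟨χ, hχ, hBχ, hdef⟩ := exists_height_zero_rep 2 hMm (blockOf M (χ₀ : G → ℂ)) ⟨χ₀, rfl⟩
  obtain ⟨hdeg, hdegpos⟩ := apply_one_eq_charDegree χ.2
  have hdvd : charDegree (χ : G → ℂ) ∣ Nat.card G :=
    Cfsg.Agent.Lib.Helper2_CharInt.degree_dvd_card χ.2 _ hdeg
  have hνle : (charDegree (χ : G → ℂ)).factorization 2 ≤ (Nat.card G).factorization 2 :=
    (Nat.factorization_le_iff_dvd hdegpos.ne' Nat.card_pos.ne').mpr hdvd 2
  have hν0 : (charDegree (χ : G → ℂ)).factorization 2 = 0 := by omega
  have hodd : ¬ 2 ∣ charDegree (χ : G → ℂ) := by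
    intro h
    have := (Nat.Prime.dvd_iff_one_le_factorization Nat.prime_two hdegpos.ne').mp h
    omega
  have hχs : SameBlock M (χ₀ : G → ℂ) (χ : G → ℂ) := hχ
  have hχbar : SameBlock M (fun g => conj ((χ : G → ℂ) g)) (χ : G → ℂ) := by
    have hmem : (⟨fun g => conj ((χ : G → ℂ) g), IsIrrCharacter.conj χ.2⟩ : IrrCharacter G)
        ∈ {ψ : IrrCharacter G | ∃ χ ∈ blockOf M (χ₀ : G → ℂ),
          (ψ : G → ℂ) = fun g => (starRingEnd ℂ) ((χ : G → ℂ) g)} := ⟨χ, hχ, rfl⟩
    rw [hreal] at hmem
    have hm' : SameBlock M (χ₀ : G → ℂ) (fun g => conj ((χ : G → ℂ) g)) := hmem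
    exact sameBlock_trans hMm (sameBlock_symm hMm hm') hχs
  have hχcf := IsCharacter.isClassFunction (IsIrrCharacter.isCharacter χ.2)
  have hzcf := rp_one_isClassFunction (G := G) 2
  have hzR := rp_one_memLocalRing (G := G) hMm 2
  have h2mem : MemLocalIdeal M (2 : ℂ) := by
    have := memLocalIdeal_p hM
    exact_mod_cast this
  have hinvdeg : MemLocalRing M ((charDegree (χ : G → ℂ) : ℂ)⁻¹) :=
    memLocalRing_natCast_inv hM _
      (Nat.coprime_comm.mp ((Nat.Prime.coprime_iff_not_dvd Nat.prime_two).mpr hodd))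
  -- the involution on classes
  have hout1 : (ConjClasses.mk (1 : G)).out = 1 := by
    have h : ConjClasses.mk (ConjClasses.mk (1 : G)).out = ConjClasses.mk 1 := Quotient.out_eq _
    have hc := ConjClasses.mk_eq_mk_iff_isConj.mp h
    exact isConj_one_right.mp hc.symm
  have hτout : ∀ C : ConjClasses G, IsConj (ConjClasses.mk (C.out)⁻¹).out (C.out)⁻¹ := by
    intro C
    have h : ConjClasses.mk (ConjClasses.mk (C.out)⁻¹).out = ConjClasses.mk (C.out)⁻¹ :=
      Quotient.out_eq _
    exact ConjClasses.mk_eq_mk_iff_isConj.mp h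
  have hττ : ∀ C : ConjClasses G,
      ConjClasses.mk ((ConjClasses.mk (C.out)⁻¹).out)⁻¹ = C := by
    intro C
    have h1 := isConj_inv_inv (hτout C)
    rw [inv_inv] at h1
    rw [ConjClasses.mk_eq_mk_iff_isConj.mpr h1]
    exact Quotient.out_eq C
  have hτ1 : ∀ C : ConjClasses G, ConjClasses.mk (C.out)⁻¹ = ConjClasses.mk 1 →
      C = ConjClasses.mk 1 := by
    intro C h
    have hc := ConjClasses.mk_eq_mk_iff_isConj.mp h
    have : (C.out)⁻¹ = 1 := isConj_one_right.mp hc.symm
    have h1 : C.out = 1 := inv_eq_one.mp this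
    rw [← Quotient.out_eq C, h1]
    rfl
  -- the summand
  have hFτ : ∀ C : ConjClasses G,
      MemLocalIdeal M (rp 2 (fun _ : G => (1 : ℂ)) (ConjClasses.mk (C.out)⁻¹).out
          * centralChar (χ : G → ℂ) (ConjClasses.mk (C.out)⁻¹).out
        - rp 2 (fun _ : G => (1 : ℂ)) C.out * centralChar (χ : G → ℂ) C.out) := by
    intro C
    obtain ⟨t, ht⟩ := isConj_iff.mp (hτout C).symm
    rw [← ht, hzcf, centralChar_conj _ hχcf, centralChar_inv χ.2]
    have hz : rp 2 (fun _ : G => (1 : ℂ)) (C.out)⁻¹ = rp 2 (fun _ : G => (1 : ℂ)) C.out := by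
      unfold rp
      rw [orderOf_inv]
    rw [hz, ← mul_sub]
    exact memLocalIdeal_mul_ring hMm (hχbar C.out) (hzR _)
  have hpair := memLocalIdeal_sum_of_involution hMm h2mem
    (fun C : ConjClasses G => ConjClasses.mk (C.out)⁻¹) hττ
    (fun C => if C = ConjClasses.mk 1 then 0
      else rp 2 (fun _ : G => (1 : ℂ)) C.out * centralChar (χ : G → ℂ) C.out)
    (fun C => by
      beta_reduce
      split_ifs
      · exact memLocalRing_zero hMm
      · exact memLocalRing_mul hMm (hzR _)
          (memLocalRing_of_isIntegral hMm (isIntegral_centralChar χ.2 _)))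
    (fun C => by
      beta_reduce
      by_cases hC : C = ConjClasses.mk 1
      · have : ConjClasses.mk (C.out)⁻¹ = ConjClasses.mk 1 := by
          rw [hC, hout1, inv_one]
        rw [if_pos this, if_pos hC, sub_self]
        exact memLocalIdeal_zero hMm
      · have : ¬ ConjClasses.mk (C.out)⁻¹ = ConjClasses.mk 1 := fun h => hC (hτ1 C h)
        rw [if_neg this, if_neg hC]
        exact hFτ C)
    (fun C hfix => by
      beta_reduce
      by_cases hC : C = ConjClasses.mk 1
      · rw [if_pos hC]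
        exact memLocalIdeal_zero hMm
      · rw [if_neg hC]
        by_cases hreg : 2 ∣ orderOf C.out
        · rw [rp_of_dvd hreg, zero_mul]
          exact memLocalIdeal_zero hMm
        · have hne1 : C.out ≠ 1 := by
            intro h1
            apply hC
            rw [← Quotient.out_eq C, h1]
            rfl
          have hrealC : IsConj C.out (C.out)⁻¹ := by
            have h := hτout C
            have h' : (ConjClasses.mk (C.out)⁻¹).out = C.out := by
              have : ConjClasses.mk (C.out)⁻¹ = C := hfix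
              rw [this]
            rw [h'] at h
            exact h
          obtain ⟨k, hk⟩ := even_index_centralizer_of_real C.out hreg hne1 hrealC
          have hcc : centralChar (χ : G → ℂ) C.out
              = 2 * ((k : ℂ) * (χ : G → ℂ) C.out * (charDegree (χ : G → ℂ) : ℂ)⁻¹) := by
            unfold centralChar
            rw [hk, hdeg, Nat.cast_mul, Nat.cast_two]
            field_simp
          rw [hcc]
          have hr : MemLocalRing M (rp 2 (fun _ : G => (1 : ℂ)) C.out
              * ((k : ℂ) * (χ : G → ℂ) C.out * (charDegree (χ : G → ℂ) : ℂ)⁻¹)) :=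
            memLocalRing_mul hMm (hzR _) (memLocalRing_mul hMm
              (memLocalRing_of_isIntegral hMm ((isIntegral_nat k).mul
                (IsCharacter.isIntegral (IsIrrCharacter.isCharacter χ.2) _))) hinvdeg)
          have := memLocalIdeal_mul_ring hMm h2mem hr
          have e : rp 2 (fun _ : G => (1 : ℂ)) C.out
              * (2 * ((k : ℂ) * (χ : G → ℂ) C.out * (charDegree (χ : G → ℂ) : ℂ)⁻¹))
              = rp 2 (fun _ : G => (1 : ℂ)) C.out
              * ((k : ℂ) * (χ : G → ℂ) C.out * (charDegree (χ : G → ℂ) : ℂ)⁻¹) * 2 := by ring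
          rw [e]
          exact this)
  -- conclude
  have hom : om (χ : G → ℂ) (rp 2 (fun _ : G => (1 : ℂ)))
      = 1 + ∑ C : ConjClasses G, (if C = ConjClasses.mk 1 then 0
      else rp 2 (fun _ : G => (1 : ℂ)) C.out * centralChar (χ : G → ℂ) C.out) := by
    rw [om_eq_sum_classes hχcf hzcf]
    have hsplit : ∀ C : ConjClasses G,
        rp 2 (fun _ : G => (1 : ℂ)) C.out * centralChar (χ : G → ℂ) C.out
        = (if C = ConjClasses.mk 1 then (1 : ℂ) else 0)
          + (if C = ConjClasses.mk 1 then 0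
            else rp 2 (fun _ : G => (1 : ℂ)) C.out * centralChar (χ : G → ℂ) C.out) := by
      intro C
      by_cases hC : C = ConjClasses.mk 1
      · rw [if_pos hC, if_pos hC, add_zero, hC, hout1]
        have h1 : ¬ 2 ∣ orderOf (1 : G) := by
          rw [orderOf_one]; norm_num
        rw [rp_of_not_dvd h1]
        unfold centralChar
        have : Subgroup.centralizer ({(1 : G)} : Set G) = ⊤ := by
          ext x
          simp [Subgroup.mem_centralizer_singleton_iff]
        rw [this, Subgroup.index_top, Nat.cast_one, one_mul, one_mul,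
          div_self (IsIrrCharacter.apply_one_ne_zero χ.2)]
      · rw [if_neg hC, if_neg hC, zero_add]
    rw [Finset.sum_congr rfl (fun C _ => hsplit C), Finset.sum_add_distrib,
      Finset.sum_ite_eq' Finset.univ (ConjClasses.mk (1 : G)) (fun _ => (1 : ℂ)),
      if_pos (Finset.mem_univ _)]
  have hnot : ¬ MemLocalIdeal M (om (χ : G → ℂ) (rp 2 (fun _ : G => (1 : ℂ)))) := by
    intro h
    rw [hom] at h
    have := memLocalIdeal_sub hMm h hpair
    rw [add_sub_cancel_right] at this
    exact not_memLocalIdeal_one hMm this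
  have hprin : SameBlock M (fun _ : G => (1 : ℂ)) (χ : G → ℂ) := by
    by_contra hns
    apply hnot
    rw [om_rp_one_of_not_principal hM χ.2 hns]
    exact memLocalIdeal_zero hMm
  unfold principalBlock
  rw [hBχ]
  exact blockOf_eq_of_sameBlock hMm hprin

end Real

section Constrained

open Classical in
/-- Blocks are determined by the central characters on `p`-regular classes. -/
theorem sameBlock_of_regular {p : ℕ} [hp : Fact p.Prime] (hM : IsPModular p M)
    (χ ψ : IrrCharacter G)
    (h : ∀ g : G, ¬ p ∣ orderOf g →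
      MemLocalIdeal M (centralChar (χ : G → ℂ) g - centralChar (ψ : G → ℂ) g)) :
    SameBlock M (χ : G → ℂ) (ψ : G → ℂ) := by
  have hMm := hM.2.1
  have hχcf := IsCharacter.isClassFunction (IsIrrCharacter.isCharacter χ.2)
  have hψcf := IsCharacter.isClassFunction (IsIrrCharacter.isCharacter ψ.2)
  have hecf := blockCoeff_isClassFunction (blockOf M (χ : G → ℂ))
  have h1 := om_blockCoeff (blockOf M (χ : G → ℂ)) χ.2
  rw [if_pos ((memB_coe _ χ).mpr (self_mem_blockOf hMm χ))] at h1
  have h2 := om_blockCoeff (blockOf M (χ : G → ℂ)) ψ.2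
  have hdiff : MemLocalIdeal M (om (χ : G → ℂ) (blockCoeff (blockOf M (χ : G → ℂ)))
      - om (ψ : G → ℂ) (blockCoeff (blockOf M (χ : G → ℂ)))) := by
    rw [om_eq_sum_classes hχcf hecf, om_eq_sum_classes hψcf hecf, ← Finset.sum_sub_distrib]
    refine memLocalIdeal_sum hMm _ _ fun C _ => ?_
    rw [← mul_sub]
    by_cases hreg : p ∣ orderOf C.out
    · rw [blockCoeff_vanish hM χ _ hreg, zero_mul]
      exact memLocalIdeal_zero hMm
    · exact memLocalIdeal_mul_ring hMm (h C.out hreg) (memLocalRing_blockCoeff hMm χ.2 _)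
  rw [h1, h2] at hdiff
  by_cases hm : MemB (blockOf M (χ : G → ℂ)) (ψ : G → ℂ)
  · exact (memB_coe _ ψ).mp hm
  · rw [if_neg hm, sub_zero] at hdiff
    exact absurd hdiff (not_memLocalIdeal_one hMm)

/-- A `p`-constrained group with trivial `p'`-core has a single `p`-block. -/
theorem one_block_of_constrained {p : ℕ} [hp : Fact p.Prime] (hM : IsPModular p M)
    (hconstr : Subgroup.centralizer ((Cfsg.pCore p G) : Set G) ≤ Cfsg.pCore p G)
    (χ ψ : IrrCharacter G) : SameBlock M (χ : G → ℂ) (ψ : G → ℂ) := by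
  classical
  have hMm := hM.2.1
  haveI := pCore_normal' (G := G) p
  have hPp : IsPGroup p (Cfsg.pCore p G) := pCore_isPGroup'
  apply sameBlock_of_regular hM
  intro g hg
  by_cases hgC : Cfsg.pCore p G ≤ Subgroup.centralizer ({g} : Set G)
  · -- then `g ∈ C_G(P) ≤ P` is a `p`-element, hence trivial
    have hgmem : g ∈ Subgroup.centralizer ((Cfsg.pCore p G) : Set G) := by
      rw [Subgroup.mem_centralizer_iff]
      intro u hu
      exact Subgroup.mem_centralizer_singleton_iff.mp (hgC hu)
    have hgP := hconstr hgmem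
    obtain ⟨k, hk⟩ := (IsPGroup.iff_orderOf.mp hPp) ⟨g, hgP⟩
    have hk' : orderOf g = p ^ k := by
      rw [← hk]; exact (Subgroup.orderOf_mk g hgP).symm
    have hk0 : k = 0 := by
      by_contra hne
      exact hg (by rw [hk']; exact dvd_pow_self p hne)
    rw [hk0, pow_zero, orderOf_eq_one_iff] at hk'
    rw [hk']
    have e1 : ∀ φ : IrrCharacter G, centralChar (φ : G → ℂ) 1 = 1 := by
      intro φ
      unfold centralChar
      have : Subgroup.centralizer ({(1 : G)} : Set G) = ⊤ := by
        ext x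
        simp [Subgroup.mem_centralizer_singleton_iff]
      rw [this, Subgroup.index_top, Nat.cast_one, one_mul,
        div_self (IsIrrCharacter.apply_one_ne_zero φ.2)]
    rw [e1 χ, e1 ψ, sub_self]
    exact memLocalIdeal_zero hMm
  · exact memLocalIdeal_sub hMm
      (memLocalIdeal_centralChar_of_not_centralize' hM _ hPp χ g hgC)
      (memLocalIdeal_centralChar_of_not_centralize' hM _ hPp ψ g hgC)

end Constrained

end Cfsg.Agent.Lib.Helper2_PrincipalMisc
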