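import Mathlib
import Cfsg.Prelude.Def_CaseTheorems

set_option autoImplicit false

namespace Cfsg.Agent.Lib.Helper2_Rank

open Cfsg

/-- `PRankLE` pulls back along injective homomorphisms. -/
theorem pRankLE_of_injective {K L : Type*} [Group K] [Group L] (p k : ℕ) (f : K →* L)
    (hf : Function.Injective f) (h : Cfsg.PRankLE p k L) : Cfsg.PRankLE p k K := by
  intro A hA hexp
  have hcomm : IsMulCommutative (A.map f) := by
    rw [isMulCommutative_iff]
    rintro ⟨x, hx⟩ ⟨y, hy⟩
    obtain ⟨a, ha, rfl⟩ := hx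
    obtain ⟨b, hb, rfl⟩ := hy
    apply Subtype.ext
    show f a * f b = f b * f a
    have : (⟨a, ha⟩ : A) * ⟨b, hb⟩ = ⟨b, hb⟩ * ⟨a, ha⟩ := (isMulCommutative_iff.mp hA) _ _
    have h2 : a * b = b * a := congrArg Subtype.val this
    rw [← map_mul, ← map_mul, h2]
  have hexp' : ∀ x ∈ A.map f, x ^ p = 1 := by
    rintro x ⟨a, ha, rfl⟩
    rw [← map_pow, hexp a ha, map_one]
  have := h (A.map f) hcomm hexp'
  rwa [Nat.card_congr (A.equivMapOfInjective f hf).symm.toEquiv] at this

/-- `PRankLE` of a subgroup, from the ambient group. -/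
theorem pRankLE_subgroup {L : Type*} [Group L] (p k : ℕ) (H : Subgroup L)
    (h : Cfsg.PRankLE p k L) : Cfsg.PRankLE p k H :=
  pRankLE_of_injective p k H.subtype H.subtype_injective h

/-- `PRankLE` is invariant under isomorphism. -/
theorem pRankLE_congr {K L : Type*} [Group K] [Group L] (p k : ℕ) (e : K ≃* L) :
    Cfsg.PRankLE p k K ↔ Cfsg.PRankLE p k L :=
  ⟨pRankLE_of_injective p k e.symm.toMonoidHom e.symm.injective,
   pRankLE_of_injective p k e.toMonoidHom e.injective⟩

/-- Monotone in a subgroup. -/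
theorem pRankLE_of_le {L : Type*} [Group L] (p k : ℕ) {H K : Subgroup L} (hHK : H ≤ K)
    (h : Cfsg.PRankLE p k K) : Cfsg.PRankLE p k H :=
  pRankLE_of_injective p k (Subgroup.inclusion hHK) (Subgroup.inclusion_injective hHK) h

/-- Monotone in the bound. -/
theorem pRankLE_mono {L : Type*} [Group L] (p : ℕ) (hp : 0 < p) {k k' : ℕ} (hkk : k ≤ k')
    (h : Cfsg.PRankLE p k L) : Cfsg.PRankLE p k' L := by
  intro A hA hexp
  exact (h A hA hexp).trans (Nat.pow_le_pow_right hp hkk)

end Cfsg.Agent.Lib.Helper2_Rank
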