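import Mathlib
import Cfsg.Prelude.Def_Characters
import Cfsg.Prelude.Def_Blocks
import Cfsg.Agent.Lib.Helper2_ClassFn
import Cfsg.Agent.Lib.Helper2_CharBasic
import Cfsg.Agent.Lib.Helper2_CharOrtho
import Cfsg.Agent.Lib.Helper2_CharValues
import Cfsg.Agent.Lib.Helper2_CharComplete
import Cfsg.Agent.Lib.Helper2_CharSum
import Cfsg.Agent.Lib.Helper2_CharInt
import Cfsg.Agent.Lib.Helper2_ModM
import Cfsg.Agent.Lib.Helper2_Blocks
import Cfsg.Agent.Lib.Helper2_BlockOrtho
import Cfsg.Agent.Lib.Helper2_BlockKer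
import Cfsg.Agent.Lib.Helper2_BlockMore
import Cfsg.Agent.Lib.Helper2_DefectGroup
import Cfsg.Agent.Lib.Helper2_HeightZeroStab
import Cfsg.Agent.Lib.Helper2_PrincipalMisc

set_option linter.unusedSectionVars false
set_option linter.unusedVariables false
set_option linter.style.longLine false
set_option linter.unusedDecidableInType false
set_option linter.unusedFintypeInType false

namespace Cfsg.Agent.Lib.Helper2_RealBlock

open Cfsg
open Cfsg.Agent.Lib.Helper2_ClassFn
open Cfsg.Agent.Lib.Helper2_CharBasic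
open Cfsg.Agent.Lib.Helper2_CharOrtho
open Cfsg.Agent.Lib.Helper2_CharValues
open Cfsg.Agent.Lib.Helper2_CharComplete
open Cfsg.Agent.Lib.Helper2_CharSum
open Cfsg.Agent.Lib.Helper2_CharInt
open Cfsg.Agent.Lib.Helper2_ModM
open Cfsg.Agent.Lib.Helper2_Blocks
open Cfsg.Agent.Lib.Helper2_BlockOrtho
open Cfsg.Agent.Lib.Helper2_BlockKer
open Cfsg.Agent.Lib.Helper2_BlockMore
open Cfsg.Agent.Lib.Helper2_DefectGroup
open Cfsg.Agent.Lib.Helper2_HeightZeroStab
open Cfsg.Agent.Lib.Helper2_PrincipalMisc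
open scoped ComplexConjugate

universe u

variable {G : Type u} [Group G] [Fintype G] {M : Ideal AlgInt}

open Classical in
theorem galois_stable_full_defect_principal (hM : IsPModular 2 M) (k : ℕ)
    (hk₂ : ∀ g : G, Odd (orderOf g) → g ^ k = g⁻¹) (B : Set (IrrCharacter G))
    (hB : IsPBlock M B) (hdef : blockDefect 2 B = (Nat.card G).factorization 2)
    (hstab : ∀ χ ∈ B, ∃ ψ ∈ B, ∀ g : G, (ψ : G → ℂ) g = (χ : G → ℂ) (g ^ k)) :
    B = principalBlock M G := by
  haveI : Fact (Nat.Prime 2) := ⟨Nat.prime_two⟩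
  have hMm := hM.2.1
  obtain ⟨D, hD⟩ := exists_defectGroup' (p := 2) hMm B hB
  obtain ⟨χ₀, rfl⟩ := hB
  have hcard := card_defectGroup hM χ₀ D hD
  rw [hdef] at hcard
  set P : Sylow 2 G := Sylow.ofCard D hcard with hP
  have hPD : (P : Subgroup G) = D := rfl
  have hconj : ∀ χ : IrrCharacter G, χ ∈ blockOf M (χ₀ : G → ℂ) →
      (⟨fun g => conj ((χ : G → ℂ) g), IsIrrCharacter.conj χ.2⟩ : IrrCharacter G)
        ∈ blockOf M (χ₀ : G → ℂ) := by
    intro χ hχ
    obtain ⟨ψ, hψB, hψ⟩ := hstab χ hχ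
    have hsb : SameBlock M (ψ : G → ℂ)
        ((⟨fun g => conj ((χ : G → ℂ) g), IsIrrCharacter.conj χ.2⟩ : IrrCharacter G) : G → ℂ) := by
      apply sameBlock_of_regular hM
      intro g hg
      have hodd : Odd (orderOf g) := Nat.not_even_iff_odd.mp (fun h => hg (even_iff_two_dvd.mp h))
      have h1 : (ψ : G → ℂ) g = conj ((χ : G → ℂ) g) := by
        rw [hψ g, hk₂ g hodd, IsCharacter.apply_inv (IsIrrCharacter.isCharacter χ.2)]
      have h2 : (ψ : G → ℂ) 1 = conj ((χ : G → ℂ) 1) := by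
        rw [hψ 1, one_pow, (apply_one_eq_charDegree χ.2).1, Complex.conj_natCast]
      unfold centralChar
      simp only
      rw [h1, h2, sub_self]
      exact memLocalIdeal_zero hMm
    exact sameBlock_trans hMm hψB hsb
  apply real_full_defect_principal hM _ ⟨χ₀, rfl⟩ P (by rw [hPD]; exact hD)
  ext φ
  constructor
  · rintro ⟨χ, hχ, hφ⟩
    have : φ = (⟨fun g => conj ((χ : G → ℂ) g), IsIrrCharacter.conj χ.2⟩ : IrrCharacter G) :=
      Subtype.ext hφ
    rw [this]
    exact hconj χ hχ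
  · intro hφ
    refine ⟨⟨fun g => conj ((φ : G → ℂ) g), IsIrrCharacter.conj φ.2⟩, hconj φ hφ, ?_⟩
    funext g
    simp only [Complex.conj_conj]

end Cfsg.Agent.Lib.Helper2_RealBlock
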