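import Mathlib
import Cfsg.Prelude.Def_Characters
import Cfsg.Prelude.Def_Blocks
import Cfsg.Agent.Lib.Helper2_ClassFn
import Cfsg.Agent.Lib.Helper2_CharBasic
import Cfsg.Agent.Lib.Helper2_CharOrtho
import Cfsg.Agent.Lib.Helper2_CharValues
import Cfsg.Agent.Lib.Helper2_CharComplete
import Cfsg.Agent.Lib.Helper2_CharSum
import Cfsg.Agent.Lib.Helper2_CharCentral
import Cfsg.Agent.Lib.Helper2_CharInt
import Cfsg.Agent.Lib.Helper2_ModM
import Cfsg.Agent.Lib.Helper2_Blocks
import Cfsg.Agent.Lib.Helper2_BlockOrtho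
import Cfsg.Agent.Lib.Helper2_BlockKer
import Cfsg.Agent.Lib.Helper2_PRegular

set_option autoImplicit false

/-!
# Real-valued irreducible characters of odd degree lie in the principal 2-block
-/

namespace Cfsg.Agent.Lib.Helper2_RealOdd

open Cfsg
open Cfsg.Agent.Lib.Helper2_ClassFn
open Cfsg.Agent.Lib.Helper2_CharBasic
open Cfsg.Agent.Lib.Helper2_CharOrtho
open Cfsg.Agent.Lib.Helper2_CharValues
open Cfsg.Agent.Lib.Helper2_CharComplete
open Cfsg.Agent.Lib.Helper2_CharSum
open Cfsg.Agent.Lib.Helper2_CharCentral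
open Cfsg.Agent.Lib.Helper2_CharInt
open Cfsg.Agent.Lib.Helper2_ModM
open Cfsg.Agent.Lib.Helper2_Blocks
open Cfsg.Agent.Lib.Helper2_BlockOrtho
open Cfsg.Agent.Lib.Helper2_BlockKer
open Cfsg.Agent.Lib.Helper2_PRegular
open scoped ComplexConjugate

section Main

universe u

theorem sum_eq_two_mul {α : Type*} [LinearOrder α] (A : Finset α) (σ : α → α)
    (hσA : ∀ a ∈ A, σ a ∈ A) (hσσ : ∀ a ∈ A, σ (σ a) = a) (hfix : ∀ a ∈ A, σ a ≠ a)
    (f : α → ℂ) (hf : ∀ a ∈ A, f (σ a) = f a) :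
    ∑ a ∈ A, f a = 2 * ∑ a ∈ A.filter (fun a => a < σ a), f a := by
  rw [← Finset.sum_filter_add_sum_filter_not A (fun a => a < σ a) f]
  have : ∑ a ∈ A.filter (fun a => ¬ a < σ a), f a
      = ∑ a ∈ A.filter (fun a => a < σ a), f a := by
    symm
    refine Finset.sum_nbij' σ σ ?_ ?_ ?_ ?_ ?_
    · intro a ha
      rw [Finset.mem_filter] at ha ⊢
      refine ⟨hσA a ha.1, ?_⟩
      rw [hσσ a ha.1]
      exact not_lt.mpr ha.2.le
    · intro a ha
      rw [Finset.mem_filter] at ha ⊢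
      refine ⟨hσA a ha.1, ?_⟩
      rw [hσσ a ha.1]
      exact lt_of_le_of_ne (not_lt.mp ha.2) (hfix a ha.1)
    · intro a ha; exact hσσ a (Finset.mem_filter.mp ha).1
    · intro a ha; exact hσσ a (Finset.mem_filter.mp ha).1
    · intro a ha; exact (hf a (Finset.mem_filter.mp ha).1).symm
  rw [this]; ring

variable {G : Type u} [Group G] [Fintype G]

open Classical in
theorem sum_regular_ne_zero {ψ : G → ℂ} (hψ : IsIrrCharacter G ψ)
    (hreal : ∀ g, (ψ g).im = 0) (hodd : Odd (charDegree ψ)) :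
    ∑ x : G, (if 2 ∣ orderOf x then (0 : ℂ) else ψ x) ≠ 0 := by
  letI : LinearOrder G := LinearOrder.lift' (Fintype.equivFin G) (Fintype.equivFin G).injective
  have hψc := IsIrrCharacter.isCharacter hψ
  set B : Finset G := Finset.univ.filter (fun x => ¬ 2 ∣ orderOf x) with hB
  have h1B : (1 : G) ∈ B := by
    rw [hB, Finset.mem_filter]
    refine ⟨Finset.mem_univ _, ?_⟩
    rw [orderOf_one]; norm_num
  have hS : ∑ x : G, (if 2 ∣ orderOf x then (0 : ℂ) else ψ x) = ∑ x ∈ B, ψ x := by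
    rw [hB, Finset.sum_filter]
    refine Finset.sum_congr rfl fun x _ => ?_
    by_cases hx : 2 ∣ orderOf x
    · rw [if_pos hx, if_neg (not_not.mpr hx)]
    · rw [if_neg hx, if_pos hx]
  rw [hS, ← Finset.add_sum_erase _ _ h1B]
  set A := B.erase 1 with hA
  have hmemA : ∀ a, a ∈ A ↔ (¬ 2 ∣ orderOf a ∧ a ≠ 1) := by
    intro a
    rw [hA, Finset.mem_erase, hB, Finset.mem_filter]
    constructor
    · rintro ⟨h1, _, h2⟩; exact ⟨h2, h1⟩
    · rintro ⟨h1, h2⟩; exact ⟨h2, Finset.mem_univ _, h1⟩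
  have hpair := sum_eq_two_mul A (fun a => a⁻¹)
    (fun a ha => by
      rw [hmemA] at ha ⊢
      refine ⟨by rw [orderOf_inv]; exact ha.1, ?_⟩
      intro h
      exact ha.2 (inv_eq_one.mp h))
    (fun a _ => inv_inv a)
    (fun a ha => by
      rw [hmemA] at ha
      intro h
      have h2' : a * a = 1 := (congrArg (· * a) h.symm).trans (inv_mul_cancel a)
      have h2 : a ^ 2 = 1 := by rw [pow_two]; exact h2'
      have hdvd : orderOf a ∣ 2 := orderOf_dvd_of_pow_eq_one h2
      rcases (Nat.dvd_prime Nat.prime_two).mp hdvd with h3 | h3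
      · exact ha.2 (orderOf_eq_one_iff.mp h3)
      · exact ha.1 (by rw [h3]))
    ψ
    (fun a _ => by
      show ψ a⁻¹ = ψ a
      rw [IsCharacter.apply_inv hψc, Complex.conj_eq_iff_im.mpr (hreal a)])
  rw [hpair]
  set β := ∑ a ∈ A.filter (fun a => a < a⁻¹), ψ a with hβ
  have hβint : IsIntegral ℤ β := by
    rw [hβ]
    exact IsIntegral.sum _ fun a _ => IsCharacter.isIntegral hψc a
  obtain ⟨hd1, hdpos⟩ := apply_one_eq_charDegree hψ
  rw [hd1]
  intro h0
  have hβeq : ((charDegree ψ : ℕ) : ℂ) / ((2 : ℕ) : ℂ) = -β := by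
    have : ((charDegree ψ : ℕ) : ℂ) = -(2 * β) := by
      rw [eq_neg_iff_add_eq_zero]; exact h0
    rw [this]; push_cast; ring
  have hint : IsIntegral ℤ (((charDegree ψ : ℕ) : ℂ) / ((2 : ℕ) : ℂ)) := by
    rw [hβeq]; exact hβint.neg
  have h2 := nat_dvd_of_isIntegral_div (charDegree ψ) 2 two_ne_zero hint
  exact (Nat.not_even_iff_odd.mpr hodd) (even_iff_two_dvd.mpr h2)

variable {M : Ideal AlgInt}

theorem real_odd_mem_principal (hM : IsPModular 2 M) (χ : IrrCharacter G)
    (hreal : ∀ g : G, ((χ : G → ℂ) g).im = 0) (hodd : Odd (charDegree (χ : G → ℂ))) :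
    χ ∈ principalBlock M G := by
  classical
  by_contra hnot
  have h1 : IsIrrCharacter G (fun _ : G => (1 : ℂ)) := isIrrCharacter_one
  have h0 := classInner_rp_eq_zero hM h1 h1 (sameBlock_refl hM.2.1 _) χ.2 hnot
  rw [classInner_def] at h0
  apply sum_regular_ne_zero χ.2 hreal hodd
  have h2 : ∑ x : G, (if 2 ∣ orderOf x then (0 : ℂ) else (χ : G → ℂ) x)
      = ∑ x : G, rp 2 (fun _ : G => (1 : ℂ)) x * conj ((χ : G → ℂ) x) := by
    refine Finset.sum_congr rfl fun x _ => ?_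
    by_cases hx : 2 ∣ orderOf x
    · rw [if_pos hx, rp_of_dvd hx, zero_mul]
    · rw [if_neg hx, rp_of_not_dvd hx, one_mul, Complex.conj_eq_iff_im.mpr (hreal x)]
  rw [h2]
  exact (mul_eq_zero.mp h0).resolve_left (inv_ne_zero card_ne_zero_complex)

open Classical in
theorem card_real_odd_le :
    Nat.card {χ : IrrCharacter G // (∀ g : G, ((χ : G → ℂ) g).im = 0)
      ∧ Odd (charDegree (χ : G → ℂ))} ≤ 2 ^ (2 * (Nat.card G).factorization 2) := by
  haveI : Fact (Nat.Prime 2) := ⟨Nat.prime_two⟩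
  set n := (Nat.card G).factorization 2 with hn
  set θ : G → ℂ := fun x => if 2 ∣ orderOf x then (0 : ℂ) else ((2 ^ n : ℕ) : ℂ) with hθ
  have hgen : IsGeneralizedCharacter G θ := by
    have := pregular_genchar 2 (isIrrCharacter_one (G := G)) 1 (by simp)
    have heq : θ = (fun x : G => if 2 ∣ orderOf x then (0 : ℂ) else
      ((2 ^ ((Nat.card G).factorization 2 - (1 : ℕ).factorization 2) : ℕ) : ℂ)
        * (fun _ : G => (1 : ℂ)) x) := by
      funext x
      simp [hθ, hn]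
    rw [heq]; exact this
  obtain ⟨c, hc, hexp⟩ := IsGeneralizedCharacter.exists_int_expansion hgen
  -- norm of θ
  have hθθ : classInner θ θ = ∑ ψ ∈ irrFinset G, ((c ψ : ℤ) : ℂ) * ((c ψ : ℤ) : ℂ) := by
    calc classInner θ θ = classInner (∑ ψ ∈ irrFinset G, (c ψ : ℂ) • ψ) θ := by rw [← hexp]
      _ = ∑ ψ ∈ irrFinset G, (c ψ : ℂ) * classInner ψ θ := by
          rw [classInner_sum_left]
          simp_rw [classInner_smul_left]
      _ = _ := by
          refine Finset.sum_congr rfl fun ψ hψ => ?_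
          rw [← classInner_conj_symm, hc ψ (mem_irrFinset.mp hψ)]
          simp
  set B : Finset G := Finset.univ.filter (fun x => ¬ 2 ∣ orderOf x) with hB
  have hdirect : classInner θ θ = (Nat.card G : ℂ)⁻¹ * ((B.card : ℂ) * ((2 ^ (2 * n) : ℕ) : ℂ)) := by
    rw [classInner_def]
    congr 1
    have : ∀ x : G, θ x * conj (θ x)
        = if ¬ 2 ∣ orderOf x then ((2 ^ (2 * n) : ℕ) : ℂ) else 0 := by
      intro x
      by_cases hx : 2 ∣ orderOf x
      · simp [hθ, hx]
      · simp only [hθ, if_neg hx, if_pos hx, map_natCast]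
        push_cast
        ring
    simp_rw [this]
    rw [← Finset.sum_filter, Finset.sum_const, nsmul_eq_mul]
  have hBle : B.card ≤ Nat.card G := by
    rw [Nat.card_eq_fintype_card]
    exact Finset.card_le_univ B
  have hGpos : 0 < Nat.card G := Nat.card_pos
  -- integer identity
  have hint : (∑ ψ ∈ irrFinset G, (c ψ) * (c ψ)) * (Nat.card G : ℤ)
      = (B.card : ℤ) * ((2 ^ (2 * n) : ℕ) : ℤ) := by
    have h3 : (∑ ψ ∈ irrFinset G, ((c ψ : ℤ) : ℂ) * ((c ψ : ℤ) : ℂ)) * (Nat.card G : ℂ)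
        = (B.card : ℂ) * ((2 ^ (2 * n) : ℕ) : ℂ) := by
      rw [← hθθ, hdirect, mul_comm, ← mul_assoc, mul_inv_cancel₀ card_ne_zero_complex, one_mul]
    exact_mod_cast h3
  have hsumle : ∑ ψ ∈ irrFinset G, (c ψ) * (c ψ) ≤ ((2 ^ (2 * n) : ℕ) : ℤ) := by
    by_contra hlt
    push Not at hlt
    have h4 : ((2 ^ (2 * n) : ℕ) : ℤ) * (Nat.card G : ℤ)
        < (∑ ψ ∈ irrFinset G, (c ψ) * (c ψ)) * (Nat.card G : ℤ) :=
      mul_lt_mul_of_pos_right hlt (by exact_mod_cast hGpos)
    rw [hint] at h4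
    have h5 : (B.card : ℤ) * ((2 ^ (2 * n) : ℕ) : ℤ)
        ≤ (Nat.card G : ℤ) * ((2 ^ (2 * n) : ℕ) : ℤ) :=
      mul_le_mul_of_nonneg_right (by exact_mod_cast hBle) (by positivity)
    linarith [mul_comm ((2 ^ (2 * n) : ℕ) : ℤ) (Nat.card G : ℤ)]
  -- the nonzero coefficients
  set F : Finset (G → ℂ) := (irrFinset G).filter (fun ψ => c ψ ≠ 0) with hF
  have hFle : (F.card : ℤ) ≤ ∑ ψ ∈ irrFinset G, (c ψ) * (c ψ) := by
    rw [Finset.card_eq_sum_ones, hF, Finset.sum_filter]
    push_cast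
    refine Finset.sum_le_sum fun ψ _ => ?_
    split_ifs with h
    · have : 0 < c ψ * c ψ := mul_self_pos.mpr h
      omega
    · exact mul_self_nonneg _
  have hX : Nat.card {χ : IrrCharacter G // (∀ g : G, ((χ : G → ℂ) g).im = 0)
      ∧ Odd (charDegree (χ : G → ℂ))} ≤ F.card := by
    have hinj : Function.Injective (fun χ : {χ : IrrCharacter G //
        (∀ g : G, ((χ : G → ℂ) g).im = 0) ∧ Odd (charDegree (χ : G → ℂ))} =>
        (⟨((χ : IrrCharacter G) : G → ℂ), by
          rw [hF, Finset.mem_filter]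
          refine ⟨mem_irrFinset.mpr χ.1.2, ?_⟩
          intro h0
          have h1 := hc _ χ.1.2
          rw [h0, classInner_def] at h1
          have h2 : ∑ x : G, θ x * conj (((χ : IrrCharacter G) : G → ℂ) x)
              = ((2 ^ n : ℕ) : ℂ) * ∑ x : G, (if 2 ∣ orderOf x then (0 : ℂ)
                else ((χ : IrrCharacter G) : G → ℂ) x) := by
            rw [Finset.mul_sum]
            refine Finset.sum_congr rfl fun x _ => ?_
            by_cases hx : 2 ∣ orderOf x
            · simp [hθ, hx]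
            · simp only [hθ, if_neg hx]
              rw [Complex.conj_eq_iff_im.mpr (χ.2.1 x)]
          rw [h2] at h1
          have h3 := sum_regular_ne_zero χ.1.2 χ.2.1 χ.2.2
          have h4 : ((2 ^ n : ℕ) : ℂ) ≠ 0 := by exact_mod_cast (pow_pos two_pos n).ne'
          simp only [Int.cast_zero] at h1
          rcases mul_eq_zero.mp h1 with h5 | h5
          · exact inv_ne_zero card_ne_zero_complex h5
          · exact (mul_ne_zero h4 h3) h5⟩ : F)) := by
      intro χ₁ χ₂ h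
      have h' := congrArg Subtype.val h
      exact Subtype.ext (Subtype.ext h')
    have := Nat.card_le_card_of_injective _ hinj
    rw [Nat.card_eq_fintype_card (α := ↥F), Fintype.card_coe] at this
    exact this
  have : (Nat.card {χ : IrrCharacter G // (∀ g : G, ((χ : G → ℂ) g).im = 0)
      ∧ Odd (charDegree (χ : G → ℂ))} : ℤ) ≤ ((2 ^ (2 * n) : ℕ) : ℤ) :=
    le_trans (by exact_mod_cast hX) (le_trans hFle hsumle)
  exact_mod_cast this

end Main

end Cfsg.Agent.Lib.Helper2_RealOdd
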