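import Mathlib
import Cfsg.Prelude.Def_Characters
import Cfsg.Prelude.Def_Blocks
import Cfsg.Agent.Lib.Helper2_ClassFn
import Cfsg.Agent.Lib.Helper2_CharBasic
import Cfsg.Agent.Lib.Helper2_CharOrtho
import Cfsg.Agent.Lib.Helper2_Clifford
import Cfsg.Agent.Lib.Helper2_CharMore
import Cfsg.Agent.Lib.Helper2_CharValues
import Cfsg.Agent.Lib.Helper2_CharComplete
import Cfsg.Agent.Lib.Helper2_CharInd
import Cfsg.Agent.Lib.Helper2_CharTable
import Cfsg.Agent.Lib.Helper2_CharSum
import Cfsg.Agent.Lib.Helper2_CharDeg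
import Cfsg.Agent.Lib.Helper2_CharExtra
import Cfsg.Agent.Lib.Helper2_CharCentral
import Cfsg.Agent.Lib.Helper2_CharInt
import Cfsg.Agent.Lib.Helper2_ModM
import Cfsg.Agent.Lib.Helper2_Blocks
import Cfsg.Agent.Lib.Helper2_BlockOrtho
import Cfsg.Agent.Lib.Helper2_BlockKer
import Cfsg.Agent.Lib.Helper2_PRegular
import Cfsg.Agent.Lib.Helper2_Gallagher
import Cfsg.Agent.Lib.Helper2_DetChar
import Cfsg.Agent.Lib.Helper2_SylowExt
import Cfsg.Agent.Lib.Helper2_RealOdd
import Cfsg.Agent.Lib.Helper2_PrincipalCrit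

set_option linter.unusedSectionVars false
set_option linter.unusedVariables false
set_option linter.style.longLine false
set_option linter.unusedDecidableInType false
set_option linter.unusedFintypeInType false

namespace Cfsg.Agent.Lib.Helper2_RealExt

open Cfsg
open Cfsg.Agent.Lib.Helper2_ClassFn
open Cfsg.Agent.Lib.Helper2_CharBasic
open Cfsg.Agent.Lib.Helper2_CharOrtho
open Cfsg.Agent.Lib.Helper2_Clifford
open Cfsg.Agent.Lib.Helper2_CharMore
open Cfsg.Agent.Lib.Helper2_CharValues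
open Cfsg.Agent.Lib.Helper2_CharComplete
open Cfsg.Agent.Lib.Helper2_CharInd
open Cfsg.Agent.Lib.Helper2_CharTable
open Cfsg.Agent.Lib.Helper2_CharSum
open Cfsg.Agent.Lib.Helper2_CharDeg
open Cfsg.Agent.Lib.Helper2_CharExtra
open Cfsg.Agent.Lib.Helper2_CharCentral
open Cfsg.Agent.Lib.Helper2_CharInt
open Cfsg.Agent.Lib.Helper2_ModM
open Cfsg.Agent.Lib.Helper2_Blocks
open Cfsg.Agent.Lib.Helper2_BlockOrtho
open Cfsg.Agent.Lib.Helper2_BlockKer
open Cfsg.Agent.Lib.Helper2_PRegular
open Cfsg.Agent.Lib.Helper2_Gallagher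
open Cfsg.Agent.Lib.Helper2_DetChar
open Cfsg.Agent.Lib.Helper2_SylowExt
open Cfsg.Agent.Lib.Helper2_RealOdd
open Cfsg.Agent.Lib.Helper2_PrincipalCrit
open scoped ComplexConjugate

universe u

variable {G : Type u} [Group G] [Fintype G] {M : Ideal AlgInt}

open Classical in
theorem sum_regular_ne_zero' {ψ : G → ℂ} (hψ : IsIrrCharacter G ψ)
    (hreal : ∀ g, ¬ 2 ∣ orderOf g → conj (ψ g) = ψ g) (hodd : Odd (charDegree ψ)) :
    ∑ x : G, (if 2 ∣ orderOf x then (0 : ℂ) else ψ x) ≠ 0 := by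
  letI : LinearOrder G := LinearOrder.lift' (Fintype.equivFin G) (Fintype.equivFin G).injective
  have hψc := IsIrrCharacter.isCharacter hψ
  set B : Finset G := Finset.univ.filter (fun x => ¬ 2 ∣ orderOf x) with hB
  have h1B : (1 : G) ∈ B := by
    rw [hB, Finset.mem_filter]
    refine ⟨Finset.mem_univ _, ?_⟩
    rw [orderOf_one]; norm_num
  have hS : ∑ x : G, (if 2 ∣ orderOf x then (0 : ℂ) else ψ x) = ∑ x ∈ B, ψ x := by
    rw [hB, Finset.sum_filter]
    refine Finset.sum_congr rfl fun x _ => ?_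
    by_cases hx : 2 ∣ orderOf x
    · rw [if_pos hx, if_neg (not_not.mpr hx)]
    · rw [if_neg hx, if_pos hx]
  rw [hS, ← Finset.add_sum_erase _ _ h1B]
  set A := B.erase 1 with hA
  have hmemA : ∀ a, a ∈ A ↔ (¬ 2 ∣ orderOf a ∧ a ≠ 1) := by
    intro a
    rw [hA, Finset.mem_erase, hB, Finset.mem_filter]
    constructor
    · rintro ⟨h1, _, h2⟩; exact ⟨h2, h1⟩
    · rintro ⟨h1, h2⟩; exact ⟨h2, Finset.mem_univ _, h1⟩
  have hpair := sum_eq_two_mul A (fun a => a⁻¹)
    (fun a ha => by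
      rw [hmemA] at ha ⊢
      refine ⟨by rw [orderOf_inv]; exact ha.1, ?_⟩
      intro h
      exact ha.2 (inv_eq_one.mp h))
    (fun a _ => inv_inv a)
    (fun a ha => by
      rw [hmemA] at ha
      intro h
      have h2' : a * a = 1 := (congrArg (· * a) h.symm).trans (inv_mul_cancel a)
      have h2 : a ^ 2 = 1 := by rw [pow_two]; exact h2'
      have hdvd : orderOf a ∣ 2 := orderOf_dvd_of_pow_eq_one h2
      rcases (Nat.dvd_prime Nat.prime_two).mp hdvd with h3 | h3
      · exact ha.2 (orderOf_eq_one_iff.mp h3)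
      · exact ha.1 (by rw [h3]))
    ψ
    (fun a ha => by
      show ψ a⁻¹ = ψ a
      rw [IsCharacter.apply_inv hψc]
      exact hreal a ((hmemA a).mp ha).1)
  rw [hpair]
  set β := ∑ a ∈ A.filter (fun a => a < a⁻¹), ψ a with hβ
  have hβint : IsIntegral ℤ β := by
    rw [hβ]
    exact IsIntegral.sum _ fun a _ => IsCharacter.isIntegral hψc a
  obtain ⟨hd1, hdpos⟩ := apply_one_eq_charDegree hψ
  rw [hd1]
  intro h0
  have hβeq : ((charDegree ψ : ℕ) : ℂ) / ((2 : ℕ) : ℂ) = -β := by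
    have : ((charDegree ψ : ℕ) : ℂ) = -(2 * β) := by
      rw [eq_neg_iff_add_eq_zero]; exact h0
    rw [this]; push_cast; ring
  have hint : IsIntegral ℤ (((charDegree ψ : ℕ) : ℂ) / ((2 : ℕ) : ℂ)) := by
    rw [hβeq]; exact hβint.neg
  have h2 := nat_dvd_of_isIntegral_div (charDegree ψ) 2 two_ne_zero hint
  exact (Nat.not_even_iff_odd.mpr hodd) (even_iff_two_dvd.mpr h2)

open Classical in
theorem exists_hom_of_two_ext (N : Subgroup G) [hN : N.Normal] [Fintype N] {η η' : G → ℂ}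
    (hη : IsIrrCharacter G η) (hη' : IsIrrCharacter G η')
    (hηN : IsIrrCharacter N (fun n : N => η n)) (hres : ∀ n : N, η' n = η n) :
    ∃ ω : G →* ℂˣ, (∀ n : N, ω n = 1) ∧ η' = fun g => η g * ((ω g : ℂˣ) : ℂ) := by
  have hηc := IsIrrCharacter.isCharacter hη
  have hηcf := IsCharacter.isClassFunction hηc
  have hdec := gallagher_decomp N hηcf
  have h1 : classInner (indFun N (fun n : N => η n)) η' = 1 := by
    rw [frobenius_reciprocity N _ _ (IsCharacter.isClassFunction (IsIrrCharacter.isCharacter hη'))]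
    have e : (fun n : N => η' n) = fun n : N => η n := funext hres
    rw [e]
    exact classInner_irr_self hηN
  rw [hdec, classInner_sum_left] at h1
  have hirr : ∀ β : G ⧸ N → ℂ, IsIrrCharacter (G ⧸ N) β → IsIrrCharacter G (infl N β * η) := by
    intro β hβ
    apply IsCharacter.isIrr_of_norm_one
    · exact IsCharacter.mul (IsCharacter.infl N (IsIrrCharacter.isCharacter hβ)) hηc
    · have := gallagher N hη hηN hβ hβ
      rw [if_pos rfl] at this
      exact this
  have hex : ∃ β ∈ irrFinset (G ⧸ N), infl N β * η = η' := by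
    by_contra hno
    push Not at hno
    have h0 : ∑ β ∈ irrFinset (G ⧸ N), classInner (β 1 • (infl N β * η)) η' = 0 := by
      refine Finset.sum_eq_zero fun β hβ => ?_
      have hβi := mem_irrFinset.mp hβ
      rw [classInner_smul_left, classInner_irr_of_ne (hirr β hβi) hη' (hno β hβ), mul_zero]
    rw [h0] at h1
    exact zero_ne_one h1
  obtain ⟨β, hβ, hβη⟩ := hex
  have hβi := mem_irrFinset.mp hβ
  have hβ1 : β 1 = 1 := by
    have h2 := congrFun hβη 1
    simp only [Pi.mul_apply, infl_apply, QuotientGroup.mk_one] at h2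
    have h3 : η' 1 = η 1 := hres 1
    obtain ⟨hd, hpos⟩ := apply_one_eq_charDegree hη
    have hne : η 1 ≠ 0 := by
      rw [hd]
      exact_mod_cast hpos.ne'
    rw [h3] at h2
    have h4 : β 1 * η 1 = 1 * η 1 := by rw [h2, one_mul]
    exact mul_right_cancel₀ hne h4
  obtain ⟨ω, hω⟩ := exists_hom_of_linear (lam := infl N β)
    ⟨IsCharacter.infl N (IsIrrCharacter.isCharacter hβi), by
      rw [infl_apply, QuotientGroup.mk_one]; exact hβ1⟩
  refine ⟨ω, ?_, ?_⟩
  · intro n
    apply Units.ext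
    have h2 := congrFun hω (n : G)
    simp only [infl_apply] at h2
    rw [← h2, (QuotientGroup.eq_one_iff (n : G)).mpr n.2, hβ1]
    rfl
  · funext g
    have h2 := congrFun hβη g
    have h3 := congrFun hω g
    simp only [Pi.mul_apply] at h2
    rw [← h2, h3, mul_comm]


open Classical in
theorem exists_ext_principal (hM : IsPModular 2 M) (N : Subgroup G) [hN : N.Normal] [Fintype N]
    (θ : IrrCharacter N) (hreal : ∀ n : N, ((θ : N → ℂ) n).im = 0)
    (hodd : Odd (charDegree (θ : N → ℂ)))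
    (η₀ : IrrCharacter G) (hη₀ : ∀ n : N, (η₀ : G → ℂ) n = (θ : N → ℂ) n) :
    ∃ η : IrrCharacter G, (∀ n : N, (η : G → ℂ) n = (θ : N → ℂ) n) ∧ η ∈ principalBlock M G := by
  haveI : Fact (Nat.Prime 2) := ⟨Nat.prime_two⟩
  have hc : IsIrrCharacter G (fun g => conj ((η₀ : G → ℂ) g)) := IsIrrCharacter.conj η₀.2
  have hηN : IsIrrCharacter N (fun n : N => (η₀ : G → ℂ) n) := by
    have e : (fun n : N => (η₀ : G → ℂ) n) = (θ : N → ℂ) := funext hη₀
    rw [e]
    exact θ.2
  have hres : ∀ n : N, (fun g => conj ((η₀ : G → ℂ) g)) (n : G) = (η₀ : G → ℂ) n := by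
    intro n
    simp only
    rw [hη₀ n]
    exact Complex.conj_eq_iff_im.mpr (hreal n)
  obtain ⟨μ, hμN, hμ⟩ := exists_hom_of_two_ext N η₀.2 hc hηN hres
  have hn0 : Nat.card G ≠ 0 := Nat.card_pos.ne'
  set a := (Nat.card G).factorization 2 with ha
  set r := Nat.card G / 2 ^ a with hr
  have hcop2 : Nat.Coprime 2 r := Nat.coprime_ordCompl Nat.prime_two hn0
  have hr_odd : Odd r := Nat.Coprime.odd_of_left hcop2
  have hrpos : r ≠ 0 := fun h => by rw [h] at hr_odd; exact (by decide : ¬ Odd 0) hr_odd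
  obtain ⟨s, hs⟩ : ∃ s, r + 1 = s + s := hr_odd.add_one
  set ν : G →* ℂˣ := μ ^ s with hν
  set η : G → ℂ := fun g => (η₀ : G → ℂ) g * ((ν g : ℂˣ) : ℂ) with hη
  have hηirr : IsIrrCharacter G η := isIrr_mul_hom η₀.2 ν
  have hηres : ∀ n : N, η n = (θ : N → ℂ) n := by
    intro n
    rw [hη]
    simp only
    rw [hν, MonoidHom.pow_apply, hμN n, one_pow, Units.val_one, mul_one, hη₀ n]
  have hreal2 : ∀ g : G, ¬ 2 ∣ orderOf g → conj (η g) = η g := by
    intro g hg
    have hdvd : orderOf g ∣ r := by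
      have h1 : orderOf g ∣ 2 ^ a * r := by
        rw [Nat.ordProj_mul_ordCompl_eq_self]
        exact orderOf_dvd_natCard g
      have hcop : Nat.Coprime (orderOf g) (2 ^ a) :=
        Nat.Coprime.pow_right a ((Nat.Prime.coprime_iff_not_dvd Nat.prime_two).mpr hg).symm
      exact hcop.dvd_of_dvd_mul_left h1
    have hzr : ((μ g : ℂˣ) : ℂ) ^ r = 1 := by
      obtain ⟨c, hc'⟩ := hdvd
      have h1 : (μ g) ^ r = 1 := by
        rw [← map_pow, hc', pow_mul, pow_orderOf_eq_one, one_pow, map_one]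
      have := congrArg (fun u : ℂˣ => (u : ℂ)) h1
      simpa using this
    set z : ℂ := ((μ g : ℂˣ) : ℂ) with hz
    set w : ℂ := z ^ s with hw
    have hww : w * w = z := by
      rw [hw, ← pow_add, ← hs, pow_succ, hzr, one_mul]
    have hwr : w ^ r = 1 := by
      rw [hw, ← pow_mul, mul_comm, pow_mul, hzr, one_pow]
    have hwnorm : ‖w‖ = 1 := Complex.norm_eq_one_of_pow_eq_one hwr hrpos
    have hwconj : conj w = w⁻¹ := (Complex.inv_eq_conj hwnorm).symm
    have hw0 : w ≠ 0 := by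
      intro h
      rw [h, norm_zero] at hwnorm
      exact zero_ne_one hwnorm
    have hνg : ((ν g : ℂˣ) : ℂ) = w := by
      rw [hν, MonoidHom.pow_apply, Units.val_pow_eq_pow_val]
    have h1 : conj ((η₀ : G → ℂ) g) = (η₀ : G → ℂ) g * z := congrFun hμ g
    rw [hη]
    simp only
    rw [hνg, map_mul, h1, hwconj, ← hww]
    field_simp
  have hodd' : Odd (charDegree η) := by
    have h1 : η 1 = (θ : N → ℂ) 1 := hηres 1
    have h2 := (apply_one_eq_charDegree θ.2).1
    have h3 : charDegree η = charDegree (θ : N → ℂ) := charDegree_eq' (h1.trans h2)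
    rw [h3]
    exact hodd
  refine ⟨⟨η, hηirr⟩, hηres, ?_⟩
  apply mem_principal_of_regSum_ne_zero hM
  have h := sum_regular_ne_zero' hηirr hreal2 hodd'
  have e : regSum 2 η = ∑ x : G, (if 2 ∣ orderOf x then (0 : ℂ) else η x) := by
    unfold regSum
    refine Finset.sum_congr rfl fun x _ => ?_
    by_cases hx : 2 ∣ orderOf x
    · rw [rp_of_dvd hx, if_pos hx]
    · rw [rp_of_not_dvd hx, if_neg hx]
  show regSum 2 η ≠ 0
  rw [e]
  exact h

end Cfsg.Agent.Lib.Helper2_RealExt
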