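import Mathlib
import Cfsg.Prelude.Def_Characters
import Cfsg.Prelude.Def_Blocks
import Cfsg.Agent.Lib.Helper2_ClassFn
import Cfsg.Agent.Lib.Helper2_CharBasic
import Cfsg.Agent.Lib.Helper2_CharOrtho
import Cfsg.Agent.Lib.Helper2_CharValues
import Cfsg.Agent.Lib.Helper2_CharComplete
import Cfsg.Agent.Lib.Helper2_CharSum
import Cfsg.Agent.Lib.Helper2_CharCentral
import Cfsg.Agent.Lib.Helper2_CharInt
import Cfsg.Agent.Lib.Helper2_ModM
import Cfsg.Agent.Lib.Helper2_Blocks
import Cfsg.Agent.Lib.Helper2_BlockOrtho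
import Cfsg.Agent.Lib.Helper2_BlockKer
import Cfsg.Agent.Lib.Helper2_BlockNormal
import Cfsg.Agent.Lib.Helper2_PRegular
import Cfsg.Agent.Lib.Helper2_FongReynolds

set_option linter.unusedSectionVars false
set_option linter.unusedVariables false
set_option linter.style.longLine false
set_option linter.unusedDecidableInType false
set_option linter.unusedFintypeInType false

namespace Cfsg.Agent.Lib.Helper2_RelOrtho

open Cfsg
open Cfsg.Agent.Lib.Helper2_ClassFn
open Cfsg.Agent.Lib.Helper2_CharBasic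
open Cfsg.Agent.Lib.Helper2_CharOrtho
open Cfsg.Agent.Lib.Helper2_CharValues
open Cfsg.Agent.Lib.Helper2_CharComplete
open Cfsg.Agent.Lib.Helper2_CharSum
open Cfsg.Agent.Lib.Helper2_CharCentral
open Cfsg.Agent.Lib.Helper2_CharInt
open Cfsg.Agent.Lib.Helper2_ModM
open Cfsg.Agent.Lib.Helper2_Blocks
open Cfsg.Agent.Lib.Helper2_BlockOrtho
open Cfsg.Agent.Lib.Helper2_BlockKer
open Cfsg.Agent.Lib.Helper2_BlockNormal
open Cfsg.Agent.Lib.Helper2_PRegular
open scoped ComplexConjugate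

universe u

variable {G : Type u} [Group G] [Fintype G] {M : Ideal AlgInt}

/-- a value at a `p`-element is congruent to the degree -/
theorem apply_sub_one_mem' {p : ℕ} [hp : Fact p.Prime] (hM : IsPModular p M) {χ : G → ℂ}
    (hχ : IsCharacter G χ) (t : G) (ht : ∃ j : ℕ, orderOf t = p ^ j) :
    MemLocalIdeal M (χ 1 - χ t) := by
  obtain ⟨j, hj⟩ := ht
  have hn0 : Nat.card G ≠ 0 := Nat.card_pos.ne'
  set a := (Nat.card G).factorization p with ha
  set m := Nat.card G / p ^ a with hm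
  have hcop : Nat.Coprime (p ^ a) m := Nat.Coprime.pow_left a (Nat.coprime_ordCompl hp.out hn0)
  have hcard : Nat.card G = p ^ a * m := (Nat.ordProj_mul_ordCompl_eq_self (Nat.card G) p).symm
  obtain ⟨r0, hr0p, hr0m⟩ := Nat.chineseRemainder hcop 0 1
  set r := r0 + p ^ a * m with hr
  have hrp : r ≡ 0 [MOD p ^ a] := by
    have h2 : p ^ a * m ≡ 0 [MOD p ^ a] := (Nat.modEq_zero_iff_dvd).mpr (dvd_mul_right _ _)
    have h3 := hr0p.add h2
    rwa [add_zero] at h3
  have hrm : r ≡ 1 [MOD m] := by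
    have h2 : p ^ a * m ≡ 0 [MOD m] := (Nat.modEq_zero_iff_dvd).mpr (dvd_mul_left _ _)
    have h3 := hr0m.add h2
    rwa [add_zero] at h3
  have hmpos : 0 < m := Nat.pos_of_ne_zero (fun h => by rw [h, mul_zero] at hcard; exact hn0 hcard)
  have hr1 : 1 ≤ r := by
    have : 1 ≤ p ^ a * m := Nat.mul_pos (pow_pos hp.out.pos a) hmpos
    omega
  have hdm : m ∣ r - 1 := (Nat.modEq_iff_dvd' hr1).mp hrm.symm
  have hdiv : Nat.card G ∣ (r - 1) * p ^ a := by
    rw [hcard, mul_comm]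
    exact Nat.mul_dvd_mul hdm (dvd_refl _)
  have key := char_pow_sub_mem hM hχ t a r hdiv hr1
  have hja : p ^ j ∣ p ^ a := by
    have h : p ^ j ∣ Nat.card G := by rw [← hj]; exact orderOf_dvd_natCard t
    exact pow_dvd_pow p ((Nat.Prime.pow_dvd_iff_le_factorization hp.out hn0).mp h)
  have htr : t ^ r = 1 := by
    rw [← orderOf_dvd_iff_pow_eq_one, hj]
    exact dvd_trans hja ((Nat.modEq_zero_iff_dvd).mp hrp)
  rwa [htr] at key

open Classical in
/-- relative block orthogonality -/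
theorem rel_block_sum_zero {p : ℕ} [hp : Fact p.Prime] (hM : IsPModular p M)
    (χ₀ : IrrCharacter G) (N : Subgroup G) [hN : N.Normal] [Fintype N] {θ : N → ℂ}
    (hθ : IsIrrCharacter N θ) (x : G) (hx : ∃ j : ℕ, orderOf x = p ^ j) (hxN : x ∉ N) :
    ∑ ψ ∈ irrFinset G, (if (SameBlock M (χ₀ : G → ℂ) ψ ∧ classInner (fun n : N => ψ n) θ ≠ 0)
      then ψ 1 * ψ x else 0) = 0 := by
  obtain ⟨j, hj⟩ := hx
  set a := blockCoeff (blockOf M (χ₀ : G → ℂ)) with ha
  set z := orbitIdem N θ with hz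
  have hterm : ∀ ψ ∈ irrFinset G,
      (if (SameBlock M (χ₀ : G → ℂ) ψ ∧ classInner (fun n : N => ψ n) θ ≠ 0)
        then ψ 1 * ψ x else 0)
      = ∑ h : G, ∑ g : G, z h * a g * (ψ 1 * ψ (g * (h * x))) := by
    intro ψ hψ
    have hψi := mem_irrFinset.mp hψ
    have h1 : ∀ w : G, ∑ g : G, a g * ψ (g * w)
        = (if SameBlock M (χ₀ : G → ℂ) ψ then (1 : ℂ) else 0) * ψ w := by
      intro w
      rw [sum_classFn_mul hψi (blockCoeff_isClassFunction _) w]
      have h := om_blockCoeff (blockOf M (χ₀ : G → ℂ)) hψi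
      unfold om at h
      rw [mul_div_right_comm, h]
      simp only [memB_blockOf (χ₀ : G → ℂ) hψ]
    have h2 : ∀ w : G, ∑ h : G, z h * ψ (h * w)
        = (if classInner (fun n : N => ψ n) θ ≠ 0 then (1 : ℂ) else 0) * ψ w := by
      intro w
      rw [sum_classFn_mul hψi (orbitIdem_isClassFunction N θ) w]
      have h := om_orbitIdem N hθ hψi
      unfold om at h
      rw [mul_div_right_comm, h]
    have e : ∑ h : G, ∑ g : G, z h * a g * (ψ 1 * ψ (g * (h * x)))
        = ψ 1 * ∑ h : G, z h * ∑ g : G, a g * ψ (g * (h * x)) := by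
      rw [Finset.mul_sum]
      refine Finset.sum_congr rfl fun h _ => ?_
      rw [Finset.mul_sum, Finset.mul_sum]
      refine Finset.sum_congr rfl fun g _ => ?_
      ring
    rw [e]
    simp_rw [h1]
    have e2 : ∑ h : G, z h * ((if SameBlock M (χ₀ : G → ℂ) ψ then (1 : ℂ) else 0) * ψ (h * x))
        = (if SameBlock M (χ₀ : G → ℂ) ψ then (1 : ℂ) else 0) * ∑ h : G, z h * ψ (h * x) := by
      rw [Finset.mul_sum]
      refine Finset.sum_congr rfl fun h _ => ?_
      ring
    rw [e2, h2 x]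
    by_cases hb : SameBlock M (χ₀ : G → ℂ) ψ <;>
      by_cases ht : classInner (fun n : N => ψ n) θ ≠ 0 <;> simp [hb, ht]
  rw [Finset.sum_congr rfl hterm, Finset.sum_comm]
  refine Finset.sum_eq_zero fun h _ => ?_
  rw [Finset.sum_comm]
  refine Finset.sum_eq_zero fun g _ => ?_
  rw [← Finset.mul_sum]
  by_cases hhN : h ∈ N
  · by_cases hpg : p ∣ orderOf g
    · have : a g = 0 := blockCoeff_vanish hM χ₀ g hpg
      rw [this, mul_zero, zero_mul]
    · have hw : g * (h * x) ≠ 1 := by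
        intro hw
        apply hxN
        have hq : (QuotientGroup.mk x : G ⧸ N) = (QuotientGroup.mk g : G ⧸ N)⁻¹ := by
          have h3 : (QuotientGroup.mk (g * (h * x)) : G ⧸ N) = 1 := by rw [hw]; rfl
          rw [QuotientGroup.mk_mul, QuotientGroup.mk_mul, (QuotientGroup.eq_one_iff h).mpr hhN,
            one_mul] at h3
          exact eq_inv_of_mul_eq_one_right h3
        have h1 : orderOf (QuotientGroup.mk x : G ⧸ N) ∣ p ^ j := by
          rw [← hj]
          exact orderOf_map_dvd (QuotientGroup.mk' N) x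
        have h2 : orderOf (QuotientGroup.mk x : G ⧸ N) ∣ orderOf g := by
          rw [hq, orderOf_inv]
          exact orderOf_map_dvd (QuotientGroup.mk' N) g
        have hcop : Nat.Coprime (p ^ j) (orderOf g) :=
          Nat.Coprime.pow_left j ((Nat.Prime.coprime_iff_not_dvd hp.out).mpr hpg)
        have h3 : orderOf (QuotientGroup.mk x : G ⧸ N) = 1 := by
          have := Nat.dvd_gcd h1 h2
          rw [hcop.gcd_eq_one] at this
          exact Nat.dvd_one.mp this
        exact (QuotientGroup.eq_one_iff x).mp (orderOf_eq_one_iff.mp h3)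
      have hso := second_orthogonality' (g * (h * x)) (1 : G)
      rw [if_neg (fun hc => hw (isConj_one_left.mp hc))] at hso
      have : ∑ ψ ∈ irrFinset G, ψ 1 * ψ (g * (h * x)) = 0 := by
        refine Eq.trans ?_ hso
        refine Finset.sum_congr rfl fun ψ hψ => ?_
        have hψi := mem_irrFinset.mp hψ
        rw [(apply_one_eq_charDegree hψi).1, Complex.conj_natCast, mul_comm]
      rw [this, mul_zero]
  · have : z h = 0 := by
      rw [hz]
      unfold orbitIdem
      rw [dif_neg hhN]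
    rw [this, zero_mul, zero_mul]


open Classical in
theorem dvd_sum_sq_rel {p : ℕ} [hp : Fact p.Prime] (hM : IsPModular p M)
    (χ₀ : IrrCharacter G) (N : Subgroup G) [hN : N.Normal] [Fintype N] {θ : N → ℂ}
    (hθ : IsIrrCharacter N θ) (x : G) (hx : ∃ j : ℕ, orderOf x = p ^ j) (hxN : x ∉ N) :
    p ∣ ∑ ψ ∈ irrFinset G,
      (if (SameBlock M (χ₀ : G → ℂ) ψ ∧ classInner (fun n : N => ψ n) θ ≠ 0)
        then (charDegree ψ) ^ 2 else 0) := by
  have h0 := rel_block_sum_zero hM χ₀ N hθ x hx hxN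
  by_contra hnd
  have hcop : Nat.Coprime (∑ ψ ∈ irrFinset G,
      (if (SameBlock M (χ₀ : G → ℂ) ψ ∧ classInner (fun n : N => ψ n) θ ≠ 0)
        then (charDegree ψ) ^ 2 else 0)) p :=
    ((Nat.Prime.coprime_iff_not_dvd hp.out).mpr hnd).symm
  apply not_memLocalIdeal_nat hM _ hcop
  have e1 : ((∑ ψ ∈ irrFinset G,
      (if (SameBlock M (χ₀ : G → ℂ) ψ ∧ classInner (fun n : N => ψ n) θ ≠ 0)
        then (charDegree ψ) ^ 2 else 0) : ℕ) : ℂ)
      = ∑ ψ ∈ irrFinset G, (((if (SameBlock M (χ₀ : G → ℂ) ψ ∧ classInner (fun n : N => ψ n) θ ≠ 0)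
          then (charDegree ψ) ^ 2 else 0 : ℕ) : ℂ)
        - (if (SameBlock M (χ₀ : G → ℂ) ψ ∧ classInner (fun n : N => ψ n) θ ≠ 0)
          then ψ 1 * ψ x else 0)) := by
    rw [Finset.sum_sub_distrib, h0, sub_zero, Nat.cast_sum]
  rw [e1]
  refine memLocalIdeal_sum hM.2.1 _ _ fun ψ hψ => ?_
  have hψ' := mem_irrFinset.mp hψ
  split_ifs with hs
  · have hc := IsIrrCharacter.isCharacter hψ'
    have hd := (apply_one_eq_charDegree hψ').1
    have key := apply_sub_one_mem' hM hc x hx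
    have e2 : (((charDegree ψ) ^ 2 : ℕ) : ℂ) - ψ 1 * ψ x = ψ 1 * (ψ 1 - ψ x) := by
      rw [hd]
      push_cast
      ring
    rw [e2]
    exact memLocalIdeal_mul_int hM.2.1 key (IsCharacter.isIntegral hc 1)
  · simp only [Nat.cast_zero, sub_self]
    exact memLocalIdeal_zero hM.2.1

open Classical in
theorem count_main {p : ℕ} [hp : Fact p.Prime] (hM : IsPModular p M)
    (χ₀ : IrrCharacter G) (P : Sylow p G) (N : Subgroup G) [hN : N.Normal] [Fintype N]
    (hPN : ¬ (P : Subgroup G) ≤ N) (θ : IrrCharacter N) :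
    (Nat.card {χ : IrrCharacter G // χ ∈ blockOf M (χ₀ : G → ℂ) ∧
        ¬ p ∣ charDegree (χ : G → ℂ) ∧
        classInner (fun n : N => (χ : G → ℂ) n) (θ : N → ℂ) ≠ 0} = 0 ∨
      2 ≤ Nat.card {χ : IrrCharacter G // χ ∈ blockOf M (χ₀ : G → ℂ) ∧
        ¬ p ∣ charDegree (χ : G → ℂ) ∧
        classInner (fun n : N => (χ : G → ℂ) n) (θ : N → ℂ) ≠ 0}) ∧
    (p ≤ 3 → p ∣ Nat.card {χ : IrrCharacter G // χ ∈ blockOf M (χ₀ : G → ℂ) ∧
        ¬ p ∣ charDegree (χ : G → ℂ) ∧
        classInner (fun n : N => (χ : G → ℂ) n) (θ : N → ℂ) ≠ 0}) := by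
  haveI : Fintype (IrrCharacter G) := Fintype.ofFinite _
  obtain ⟨x, hxP, hxN⟩ := SetLike.not_le_iff_exists.mp hPN
  have hx : ∃ j : ℕ, orderOf x = p ^ j := by
    obtain ⟨k, hk⟩ := (IsPGroup.iff_orderOf.mp P.isPGroup') ⟨x, hxP⟩
    exact ⟨k, by rw [← hk, Subgroup.orderOf_mk]⟩
  have hd := dvd_sum_sq_rel hM χ₀ N θ.2 x hx hxN
  set T : Finset (IrrCharacter G) := Finset.univ.filter (fun χ : IrrCharacter G =>
    χ ∈ blockOf M (χ₀ : G → ℂ) ∧ ¬ p ∣ charDegree (χ : G → ℂ) ∧
      classInner (fun n : N => (χ : G → ℂ) n) (θ : N → ℂ) ≠ 0) with hT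
  have hcard : Nat.card {χ : IrrCharacter G // χ ∈ blockOf M (χ₀ : G → ℂ) ∧
        ¬ p ∣ charDegree (χ : G → ℂ) ∧
        classInner (fun n : N => (χ : G → ℂ) n) (θ : N → ℂ) ≠ 0} = T.card := by
    rw [Nat.card_eq_fintype_card, Fintype.card_subtype]
  have hz : ∑ χ ∈ T, ((charDegree (χ : G → ℂ) : ℕ) : ZMod p) ^ 2 = 0 := by
    have e1 : (∑ ψ ∈ irrFinset G,
        (if (SameBlock M (χ₀ : G → ℂ) ψ ∧ classInner (fun n : N => ψ n) (θ : N → ℂ) ≠ 0)
          then (charDegree ψ) ^ 2 else 0))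
        = ∑ χ : IrrCharacter G,
          (if (χ ∈ blockOf M (χ₀ : G → ℂ) ∧
              classInner (fun n : N => (χ : G → ℂ) n) (θ : N → ℂ) ≠ 0)
            then (charDegree (χ : G → ℂ)) ^ 2 else 0) := by
      have hinj : Function.Injective (Nat.cast : ℕ → ℂ) := Nat.cast_injective
      apply hinj
      rw [Nat.cast_sum, Nat.cast_sum]
      exact (Cfsg.Agent.Lib.Helper2_FongReynolds.sum_irr_eq' (K := G)
        (fun ψ => (((if (SameBlock M (χ₀ : G → ℂ) ψ ∧
            classInner (fun n : N => ψ n) (θ : N → ℂ) ≠ 0)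
          then (charDegree ψ) ^ 2 else 0 : ℕ)) : ℂ))).symm
    rw [e1] at hd
    have h0 : ((∑ χ : IrrCharacter G,
          (if (χ ∈ blockOf M (χ₀ : G → ℂ) ∧
              classInner (fun n : N => (χ : G → ℂ) n) (θ : N → ℂ) ≠ 0)
            then (charDegree (χ : G → ℂ)) ^ 2 else 0) : ℕ) : ZMod p) = 0 :=
      (ZMod.natCast_eq_zero_iff _ _).mpr hd
    rw [Nat.cast_sum] at h0
    rw [hT, Finset.sum_filter]
    refine Eq.trans ?_ h0
    refine Finset.sum_congr rfl fun χ _ => ?_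
    by_cases hb : χ ∈ blockOf M (χ₀ : G → ℂ) ∧
        classInner (fun n : N => (χ : G → ℂ) n) (θ : N → ℂ) ≠ 0
    · by_cases hp' : p ∣ charDegree (χ : G → ℂ)
      · have h3 : ((charDegree (χ : G → ℂ) : ℕ) : ZMod p) = 0 :=
          (ZMod.natCast_eq_zero_iff _ _).mpr hp'
        rw [if_neg (fun h => h.2.1 hp'), if_pos hb]
        push_cast
        rw [h3]
        ring
      · rw [if_pos ⟨hb.1, hp', hb.2⟩, if_pos hb]
        push_cast
        rfl
    · rw [if_neg (fun h => hb ⟨h.1, h.2.2⟩), if_neg hb]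
      simp
  rw [hcard]
  refine ⟨?_, ?_⟩
  · by_cases h0 : T.card = 0
    · left; exact h0
    · right
      by_contra h2
      have h1 : T.card = 1 := by omega
      obtain ⟨χ, hχ⟩ := Finset.card_eq_one.mp h1
      rw [hχ, Finset.sum_singleton] at hz
      have h3 := (pow_eq_zero_iff (two_ne_zero)).mp hz
      have hχT : χ ∈ T := by rw [hχ]; exact Finset.mem_singleton_self _
      exact (Finset.mem_filter.mp hχT).2.2.1 ((ZMod.natCast_eq_zero_iff _ _).mp h3)
  · intro hp3
    have hp2 := hp.out.two_le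
    have hsq : ∀ χ ∈ T, ((charDegree (χ : G → ℂ) : ℕ) : ZMod p) ^ 2 = 1 := by
      intro χ hχ
      have hne : ((charDegree (χ : G → ℂ) : ℕ) : ZMod p) ≠ 0 := by
        rw [Ne, ZMod.natCast_eq_zero_iff]
        exact (Finset.mem_filter.mp hχ).2.2.1
      have h := ZMod.pow_card_sub_one_eq_one hne
      have hcases : p = 2 ∨ p = 3 := by omega
      rcases hcases with h2 | h3
      · rw [show p - 1 = 1 by omega, pow_one] at h
        rw [h, one_pow]
      · rw [show p - 1 = 2 by omega] at h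
        exact h
    rw [Finset.sum_congr rfl hsq] at hz
    simp only [Finset.sum_const, nsmul_eq_mul, mul_one] at hz
    exact (ZMod.natCast_eq_zero_iff _ _).mp hz

end Cfsg.Agent.Lib.Helper2_RelOrtho
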