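import Mathlib
import Cfsg.Prelude.Def_Solvable

set_option autoImplicit false

namespace Cfsg.Agent.Lib.Helper5_PPrime

open Cfsg

/-- `|N₁ ⊔ N₂|` divides `|N₁| * |N₂|` when `N₁` is normal. -/
theorem card_sup_dvd_mul {M : Type*} [Group M] (N₁ N₂ : Subgroup M) [N₁.Normal] :
    Nat.card ↥(N₁ ⊔ N₂) ∣ Nat.card N₁ * Nat.card N₂ := by
  have h1 := Subgroup.card_mul_index (N₁.subgroupOf (N₁ ⊔ N₂))
  have h2 : Nat.card (N₁.subgroupOf (N₁ ⊔ N₂)) = Nat.card N₁ :=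
    Nat.card_congr (Subgroup.subgroupOfEquivOfLe (le_sup_left : N₁ ≤ N₁ ⊔ N₂)).toEquiv
  have h3 : (N₁.subgroupOf (N₁ ⊔ N₂)).index = N₁.relIndex N₂ := by
    show N₁.relIndex (N₁ ⊔ N₂) = _
    exact Subgroup.relIndex_sup_left N₂ N₁
  rw [h2, h3] at h1
  rw [← h1]
  exact Nat.mul_dvd_mul_left _ (Subgroup.relIndex_dvd_card N₁ N₂)

/-- The join of a family of normal subgroups of order coprime to `n` is normal of order coprime
to `n`. -/
theorem coprime_sSup {M : Type*} [Group M] [Finite M] (n : ℕ) (𝒮 : Set (Subgroup M))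
    (h : ∀ N ∈ 𝒮, N.Normal ∧ (Nat.card N).Coprime n) :
    (sSup 𝒮).Normal ∧ (Nat.card ↥(sSup 𝒮)).Coprime n := by
  classical
  have hfin : 𝒮.Finite := Set.toFinite 𝒮
  have hS : sSup 𝒮 = hfin.toFinset.sup id := by
    rw [Finset.sup_id_eq_sSup]
    simp
  rw [hS]
  apply Finset.sup_induction (p := fun N : Subgroup M => N.Normal ∧ (Nat.card ↥N).Coprime n)
  · refine ⟨inferInstance, ?_⟩
    simp
  · rintro a₁ ⟨hn1, hc1⟩ a₂ ⟨hn2, hc2⟩
    refine ⟨inferInstance, ?_⟩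
    exact Nat.Coprime.coprime_dvd_left (card_sup_dvd_mul a₁ a₂) (Nat.Coprime.mul_left hc1 hc2)
  · intro b hb
    rw [Set.Finite.mem_toFinset] at hb
    exact h b hb

theorem pPrimeCore_normal (p : ℕ) (M : Type*) [Group M] [Finite M] :
    (Cfsg.pPrimeCore p M).Normal :=
  (coprime_sSup p _ (fun _ hN => hN)).1

theorem pPrimeCore_coprime (p : ℕ) (M : Type*) [Group M] [Finite M] :
    (Nat.card (Cfsg.pPrimeCore p M)).Coprime p :=
  (coprime_sSup p _ (fun _ hN => hN)).2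

theorem le_pPrimeCore {p : ℕ} {M : Type*} [Group M] (N : Subgroup M) [hN : N.Normal]
    (h : (Nat.card N).Coprime p) : N ≤ Cfsg.pPrimeCore p M :=
  le_sSup ⟨hN, h⟩

/-- A `p`-subgroup meets a subgroup of order prime to `p` trivially. -/
theorem inf_eq_bot_of_pGroup_of_coprime {M : Type*} [Group M] [Finite M] {p : ℕ} [Fact p.Prime]
    {H K : Subgroup M} (hH : IsPGroup p H) (hK : (Nat.card K).Coprime p) : H ⊓ K = ⊥ := by
  rw [eq_bot_iff]
  intro x ⟨hxH, hxK⟩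
  obtain ⟨k, hk⟩ := hH ⟨x, hxH⟩
  have h1 : x ^ p ^ k = 1 := by
    have := congrArg Subtype.val hk
    simpa using this
  have h2 : x ^ Nat.card K = 1 := by
    have : (⟨x, hxK⟩ : K) ^ Nat.card K = 1 := pow_card_eq_one'
    have h3 := congrArg Subtype.val this
    rw [Subgroup.coe_pow, Subgroup.coe_one] at h3
    exact h3
  have hcop : (p ^ k).Coprime (Nat.card K) := (Nat.Coprime.pow_left k hK.symm)
  have : orderOf x ∣ 1 := by
    rw [← Nat.Coprime.gcd_eq_one hcop]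
    exact Nat.dvd_gcd (orderOf_dvd_of_pow_eq_one h1) (orderOf_dvd_of_pow_eq_one h2)
  rw [Subgroup.mem_bot]
  exact orderOf_eq_one_iff.mp (Nat.dvd_one.mp this)

end Cfsg.Agent.Lib.Helper5_PPrime
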