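import Mathlib
import Cfsg.Prelude.Def_Solvable
import Cfsg.Prelude.Def_OddOrderLocal
import Cfsg.Agent.Lib.Helper5_PPrime
import Cfsg.Agent.Lib.Helper2_SelfCent
import Cfsg.Agent.S3743
import Cfsg.Agent.S4496

set_option autoImplicit false

/-!
# Groups with a self-centralizing element of prime order, II: the structure of `G'`
-/

namespace Cfsg.Agent.Lib.Helper2_SelfCent2

open scoped commutatorElement
open Cfsg.Agent.Lib.Helper2_SelfCent
open Cfsg.Agent.Lib.Helper5_PPrime

variable {G : Type*} [Group G] [Finite G]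

/-- a subnormal subgroup of order prime to `p` lies in `O_{p'}(G)` (after helper3) -/
theorem subnormal_coprime_le (p : ℕ) [hp : Fact p.Prime]
    (A : Subgroup G) (hA : A.IsSubnormal) (hc : (Nat.card ↥A).Coprime p) :
    A ≤ Cfsg.pPrimeCore p G := by
  have h1 := (Cfsg.Agent.S3743.result A hA).2 {q | q ≠ p} (by
    intro q hq hqd
    show q ≠ p
    rintro rfl
    exact (Nat.Prime.coprime_iff_not_dvd hp.out).mp hc.symm hqd)
  refine h1.trans ?_
  apply sSup_le
  rintro N ⟨hNn, hN⟩
  apply le_sSup
  refine ⟨hNn, ?_⟩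
  apply Nat.Coprime.symm
  rw [Nat.Prime.coprime_iff_not_dvd hp.out]
  intro hd
  exact hN p hp.out hd rfl

section

variable (p : ℕ) [hp : Fact p.Prime] (x : G) (hx : orderOf x = p)
  (hC : Subgroup.centralizer ({x} : Set G) = Subgroup.zpowers x)

include hx hC

omit hp hx in
/-- a normal subgroup meeting `⟨x⟩` trivially lies in `G'` -/
theorem le_commutator_of_disjoint (K : Subgroup G) [hKn : K.Normal]
    (hdisj : K ⊓ Subgroup.zpowers x = ⊥) : K ≤ commutator G := by
  let ψ : K → K := fun k => ⟨(k : G)⁻¹ * (x * (k : G) * x⁻¹),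
    K.mul_mem (K.inv_mem k.2) (hKn.conj_mem _ k.2 x)⟩
  have hinj : Function.Injective ψ := by
    intro k k' hkk'
    have h3 : (k : G)⁻¹ * (x * (k : G) * x⁻¹) = (k' : G)⁻¹ * (x * (k' : G) * x⁻¹) :=
      congrArg Subtype.val hkk'
    have h4 : (k' : G) * (k : G)⁻¹ ∈ Subgroup.centralizer ({x} : Set G) := by
      rw [Subgroup.mem_centralizer_singleton_iff]
      have h5 : (k' : G) * (k : G)⁻¹ * x =
          (k' : G) * ((k : G)⁻¹ * (x * (k : G) * x⁻¹)) * x * (k : G)⁻¹ := by group
      rw [h5, h3]
      group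
    rw [hC] at h4
    have h6 : (k' : G) * (k : G)⁻¹ ∈ K ⊓ Subgroup.zpowers x :=
      Subgroup.mem_inf.mpr ⟨K.mul_mem k'.2 (K.inv_mem k.2), h4⟩
    rw [hdisj, Subgroup.mem_bot] at h6
    apply Subtype.ext
    have : (k' : G) = (k : G) := by
      rw [← mul_inv_eq_one]; exact h6
    exact this.symm
  have hsurj : Function.Surjective ψ := Finite.surjective_of_injective hinj
  intro k hk
  obtain ⟨k0, hk0⟩ := hsurj ⟨k, hk⟩
  have h3 : (k0 : G)⁻¹ * (x * (k0 : G) * x⁻¹) = k := congrArg Subtype.val hk0
  rw [← h3]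
  have : (k0 : G)⁻¹ * (x * (k0 : G) * x⁻¹) = ⁅(k0 : G)⁻¹, x⁆ := by
    rw [commutatorElement_def]; group
  rw [this]
  exact Subgroup.commutator_mem_commutator (Subgroup.mem_top _) (Subgroup.mem_top _)

omit [Finite G] hp hC in
theorem isPGroup_P : IsPGroup p (Subgroup.zpowers x) :=
  IsPGroup.of_card (n := 1) (by rw [card_P p x hx, pow_one])

/-- `O_{p'}(G) ≤ G'`. -/
theorem pPrimeCore_le_commutator : Cfsg.pPrimeCore p G ≤ commutator G := by
  haveI := pPrimeCore_normal p G
  apply le_commutator_of_disjoint x hC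
  rw [inf_comm]
  exact inf_eq_bot_of_pGroup_of_coprime (isPGroup_P p x hx) (pPrimeCore_coprime p G)

/-- every element of order `p` is conjugate into `⟨x⟩` -/
theorem exists_conj_mem (y : G) (hy : orderOf y = p) :
    ∃ h : G, h * y * h⁻¹ ∈ Subgroup.zpowers x ∧ h * y * h⁻¹ ≠ 1 := by
  have hy1 : y ≠ 1 := by
    intro h
    rw [h, orderOf_one] at hy
    exact hp.1.one_lt.ne' hy.symm
  have hmem : (ConjClasses.mk y) ∈ {C : ConjClasses G | ∃ g ∈ C.carrier, orderOf g = p} :=
    ⟨y, ConjClasses.mem_carrier_mk, hy⟩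
  obtain ⟨z, hz⟩ := toClass_surjective p x hx hC ⟨ConjClasses.mk y, hmem⟩
  have h1 : ConjClasses.mk z.1 = ConjClasses.mk y := congrArg Subtype.val hz
  rw [ConjClasses.mk_eq_mk_iff_isConj] at h1
  obtain ⟨h, hh⟩ := isConj_iff.mp h1.symm
  exact ⟨h, by rw [hh]; exact z.2.1, by rw [hh]; exact z.2.2⟩

/-- `⟨x⟩` is a Sylow subgroup, so `p ∥ |G|`. -/
theorem not_sq_dvd : ¬ p ^ 2 ∣ Nat.card G := by
  obtain ⟨S, hS⟩ := exists_sylow_eq p x hx hC
  have h1 := Sylow.card_eq_multiplicity S
  rw [hS, card_P p x hx] at h1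
  intro h2
  have h3 := (Nat.Prime.pow_dvd_iff_le_factorization hp.1 Nat.card_pos.ne').mp h2
  have h4 : (Nat.card G).factorization p = 1 := by
    have : p ^ 1 = p ^ (Nat.card G).factorization p := by rw [pow_one]; exact h1
    exact (Nat.pow_right_injective hp.1.two_le this).symm
  omega

variable (hN : ¬ Subgroup.normalizer ((Subgroup.zpowers x : Subgroup G) : Set G) ≤
  Subgroup.zpowers x)

include hN

theorem P_le_commutator : Subgroup.zpowers x ≤ commutator G := by
  obtain ⟨n, hnN, hnP⟩ := SetLike.not_le_iff_exists.mp hN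
  have hnx : n * x * n⁻¹ ∈ Subgroup.zpowers x :=
    (Subgroup.mem_normalizer_iff.mp hnN x).mp (Subgroup.mem_zpowers x)
  have hc1 : n * x * n⁻¹ * x⁻¹ ≠ 1 := by
    intro h
    apply hnP
    rw [← hC, Subgroup.mem_centralizer_singleton_iff]
    have : n * x * n⁻¹ = x := by
      rw [← mul_inv_eq_one]; exact h
    calc n * x = (n * x * n⁻¹) * n := by group
      _ = x * n := by rw [this]
  have hcP : n * x * n⁻¹ * x⁻¹ ∈ Subgroup.zpowers x :=
    Subgroup.mul_mem _ hnx (Subgroup.inv_mem _ (Subgroup.mem_zpowers x))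
  have hcG : n * x * n⁻¹ * x⁻¹ ∈ commutator G := by
    have : n * x * n⁻¹ * x⁻¹ = ⁅n, x⁆ := by rw [commutatorElement_def]
    rw [this]
    exact Subgroup.commutator_mem_commutator (Subgroup.mem_top _) (Subgroup.mem_top _)
  rw [← zpowers_eq_of_mem p x hx hcP hc1]
  exact Subgroup.zpowers_le.mpr hcG

theorem frattini :
    Subgroup.normalizer ((Subgroup.zpowers x : Subgroup G) : Set G) ⊔ commutator G = ⊤ := by
  obtain ⟨S, hS⟩ := exists_sylow_eq p x hx hC
  haveI : (commutator G).Normal := inferInstance
  have hSle : (S : Subgroup G) ≤ commutator G := by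
    rw [hS]; exact P_le_commutator p x hx hC hN
  have hfr := Sylow.normalizer_sup_eq_top' S hSle
  rw [← hS]; exact hfr

/-- a subgroup of `G'`, normalized by `G'`, containing an element of order `p` contains `x` -/
theorem mem_of_normal_in_commutator (M : Subgroup G)
    (hMn : ∀ c ∈ commutator G, ∀ m ∈ M, c * m * c⁻¹ ∈ M) (y : G) (hyM : y ∈ M)
    (hy : orderOf y = p) : x ∈ M := by
  obtain ⟨h, hh, hh1⟩ := exists_conj_mem p x hx hC y hy
  have hfr := frattini p x hx hC hN
  have hmem : h ∈ Subgroup.normalizer ((Subgroup.zpowers x : Subgroup G) : Set G) ⊔ commutator G := by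
    rw [hfr]; exact Subgroup.mem_top h
  rw [← SetLike.mem_coe, Subgroup.mul_normal] at hmem
  obtain ⟨n, hn, c, hc, rfl⟩ := Set.mem_mul.mp hmem
  have hz : c * y * c⁻¹ ∈ Subgroup.zpowers x := by
    have h1 : n⁻¹ ∈ Subgroup.normalizer ((Subgroup.zpowers x : Subgroup G) : Set G) :=
      Subgroup.inv_mem _ hn
    have h2 := (Subgroup.mem_normalizer_iff.mp h1 _).mp hh
    have h3 : n⁻¹ * (n * c * y * (n * c)⁻¹) * n⁻¹⁻¹ = c * y * c⁻¹ := by group
    rw [h3] at h2
    exact h2
  have hz1 : c * y * c⁻¹ ≠ 1 := by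
    intro h1
    apply hh1
    have : n * c * y * (n * c)⁻¹ = n * (c * y * c⁻¹) * n⁻¹ := by group
    rw [this, h1]; group
  have hzM : c * y * c⁻¹ ∈ M := hMn c hc y hyM
  have : x ∈ Subgroup.zpowers (c * y * c⁻¹) := by
    rw [zpowers_eq_of_mem p x hx hz hz1]; exact Subgroup.mem_zpowers x
  exact (Subgroup.zpowers_le.mpr hzM) this

end

section Main2

variable (p : ℕ) [hp : Fact p.Prime] (x : G) (hx : orderOf x = p)
  (hC : Subgroup.centralizer ({x} : Set G) = Subgroup.zpowers x)

include hx hC

theorem normalizer_le_of_card (t : ℕ)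
    (ht : Nat.card {C : ConjClasses G // ∃ g ∈ C.carrier, orderOf g = p} = t) (htp : t = p - 1) :
    Subgroup.normalizer ((Subgroup.zpowers x : Subgroup G) : Set G) ≤ Subgroup.zpowers x := by
  by_contra hN
  have h1 := card_classes_mul_le p x hx hC
  rw [ht] at h1
  set e := (Subgroup.zpowers x).relIndex
    (Subgroup.normalizer ((Subgroup.zpowers x : Subgroup G) : Set G)) with he
  have he0 : e ≠ 0 := by
    rw [he, Subgroup.relIndex]
    exact Subgroup.index_ne_zero_of_finite
  have he1 : e ≠ 1 := by
    intro h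
    apply hN
    rw [he] at h
    exact Subgroup.relIndex_eq_one.mp h
  have hp2 : 2 ≤ p := hp.1.two_le
  have he2 : 2 ≤ e := by omega
  have : t * 2 ≤ p - 1 := le_trans (Nat.mul_le_mul_left t he2) h1
  omega

theorem main2 (t : ℕ)
    (ht : Nat.card {C : ConjClasses G // ∃ g ∈ C.carrier, orderOf g = p} = t) :
    Cfsg.pPrimeCore p G ≤ commutator G ∧
    (t ≠ p - 1 → ∀ _h : ((Cfsg.pPrimeCore p G).subgroupOf (commutator G)).Normal,
      IsSimpleGroup (↥(commutator G) ⧸ (Cfsg.pPrimeCore p G).subgroupOf (commutator G))) ∧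
    (t = p - 1 → commutator G = Cfsg.pPrimeCore p G) := by
  have hpart1 := pPrimeCore_le_commutator p x hx hC
  haveI hSn := pPrimeCore_normal p G
  have hScop := pPrimeCore_coprime p G
  have hdisjS : Cfsg.pPrimeCore p G ⊓ Subgroup.zpowers x = ⊥ := by
    rw [inf_comm]
    exact inf_eq_bot_of_pGroup_of_coprime (isPGroup_P p x hx) hScop
  refine ⟨hpart1, ?_, ?_⟩
  · intro htp hnorm
    have hN : ¬ Subgroup.normalizer ((Subgroup.zpowers x : Subgroup G) : Set G) ≤
        Subgroup.zpowers x := by
      intro hN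
      apply htp
      rw [← ht]
      exact card_classes_of_normalizer_le p x hx hC hN
    have hPG := P_le_commutator p x hx hC hN
    have hxG : x ∈ commutator G := hPG (Subgroup.mem_zpowers x)
    have hx1 : x ≠ 1 := x_ne_one p x hx
    refine { toNontrivial := ?_, eq_bot_or_eq_top_of_normal := ?_ }
    · refine ⟨⟨((⟨x, hxG⟩ : commutator G) : ↥(commutator G) ⧸ _), 1, ?_⟩⟩
      intro h
      rw [QuotientGroup.eq_one_iff, Subgroup.mem_subgroupOf] at h
      have : x ∈ Cfsg.pPrimeCore p G ⊓ Subgroup.zpowers x :=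
        Subgroup.mem_inf.mpr ⟨h, Subgroup.mem_zpowers x⟩
      rw [hdisjS, Subgroup.mem_bot] at this
      exact hx1 this
    · intro H hH
      set S' := (Cfsg.pPrimeCore p G).subgroupOf (commutator G) with hS'
      set M : Subgroup (commutator G) := H.comap (QuotientGroup.mk' S') with hM
      haveI hMnorm : M.Normal := hH.comap _
      set M' : Subgroup G := M.map (commutator G).subtype with hM'
      have hM'le : M' ≤ commutator G := Subgroup.map_subtype_le M
      have hHeq : H = M.map (QuotientGroup.mk' S') := by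
        rw [hM, Subgroup.map_comap_eq_self_of_surjective (QuotientGroup.mk'_surjective S')]
      have hMn : ∀ c ∈ commutator G, ∀ m ∈ M', c * m * c⁻¹ ∈ M' := by
        intro c hc m hm
        obtain ⟨m0, hm0, rfl⟩ := hm
        refine ⟨⟨c, hc⟩ * m0 * ⟨c, hc⟩⁻¹, hMnorm.conj_mem m0 hm0 ⟨c, hc⟩, ?_⟩
        simp
      by_cases hdiv : p ∣ Nat.card M'
      · right
        obtain ⟨y, hy⟩ := exists_prime_orderOf_dvd_card' p hdiv
        have hy' : orderOf (y : G) = p := by rw [Subgroup.orderOf_coe]; exact hy
        -- all conjugates of `x` lie in `M'`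
        have hconj : ∀ g : G, g * x * g⁻¹ ∈ M' := by
          intro g
          set M'' : Subgroup G := M'.map (MulAut.conj g⁻¹).toMonoidHom with hM''
          have hMn'' : ∀ c ∈ commutator G, ∀ m ∈ M'', c * m * c⁻¹ ∈ M'' := by
            intro c hc m hm
            obtain ⟨m0, hm0, rfl⟩ := hm
            have hc' : g * c * g⁻¹ ∈ commutator G :=
              (inferInstance : (commutator G).Normal).conj_mem c hc g
            refine ⟨(g * c * g⁻¹) * m0 * (g * c * g⁻¹)⁻¹, hMn _ hc' m0 hm0, ?_⟩
            simp only [MulEquiv.coe_toMonoidHom, MulAut.conj_apply]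
            group
          have hy'' : g⁻¹ * (y : G) * g ∈ M'' := by
            refine ⟨(y : G), y.2, ?_⟩
            simp [MulAut.conj_apply]
          have hord : orderOf (g⁻¹ * (y : G) * g) = p := by
            have := orderOf_injective (MulAut.conj g⁻¹).toMonoidHom (MulAut.conj g⁻¹).injective
              (y : G)
            rw [← hy', ← this]
            simp [MulAut.conj_apply]
          have hxM'' := mem_of_normal_in_commutator p x hx hC hN M'' hMn'' _ hy'' hord
          obtain ⟨m0, hm0, hm0x⟩ := hxM''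
          have : g * x * g⁻¹ = m0 := by
            rw [← hm0x]
            simp only [MulEquiv.coe_toMonoidHom, MulAut.conj_apply]
            group
          rw [this]; exact hm0
        have hR : Subgroup.normalClosure ({x} : Set G) ≤ M' := by
          rw [Subgroup.normalClosure, Subgroup.closure_le]
          intro z hz
          rw [Group.mem_conjugatesOfSet_iff] at hz
          obtain ⟨b, hb, hbz⟩ := hz
          rw [Set.mem_singleton_iff] at hb
          subst hb
          obtain ⟨g, rfl⟩ := isConj_iff.mp hbz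
          exact hconj g
        have hxR : x ∈ Subgroup.normalClosure ({x} : Set G) :=
          Subgroup.subset_normalClosure (Set.mem_singleton x)
        have hdivR : p ∣ Nat.card (Subgroup.normalClosure ({x} : Set G)) := by
          rw [← hx]; exact Subgroup.orderOf_dvd_natCard _ hxR
        have hGR := (Cfsg.Agent.S4496.result p hp.1 x hx hC
          (Subgroup.normalClosure ({x} : Set G))).1 hdivR
        have hMtop : M = ⊤ := by
          rw [eq_top_iff]
          intro c _
          have hc := hR (hGR c.2)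
          obtain ⟨m0, hm0, hm0c⟩ := hc
          have : m0 = c := Subtype.ext hm0c
          rw [← this]; exact hm0
        rw [hHeq, hMtop]
        exact Subgroup.map_top_of_surjective _ (QuotientGroup.mk'_surjective S')
      · left
        have hcop : (Nat.card M').Coprime p :=
          ((Nat.Prime.coprime_iff_not_dvd hp.1).mpr hdiv).symm
        have hsub : M'.IsSubnormal := by
          apply Subgroup.IsSubnormal.step M' (commutator G) hM'le
            (Subgroup.Normal.isSubnormal inferInstance)
          have : M'.subgroupOf (commutator G) = M :=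
            Subgroup.comap_map_eq_self_of_injective (Subgroup.subtype_injective _) M
          rw [this]; exact hMnorm
        have hle := subnormal_coprime_le p M' hsub hcop
        have hMS : M ≤ S' := by
          intro m hm
          rw [hS', Subgroup.mem_subgroupOf]
          exact hle ⟨m, hm, rfl⟩
        rw [hHeq, eq_bot_iff]
        calc M.map (QuotientGroup.mk' S') ≤ S'.map (QuotientGroup.mk' S') := Subgroup.map_mono hMS
          _ = ⊥ := QuotientGroup.map_mk'_self S'
  · intro htp
    have hN := normalizer_le_of_card p x hx hC t ht htp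
    have hidx := index_commutator_of_normalizer_le p x hx hC hN
    have hnsq := not_sq_dvd p x hx hC
    have hmul := Subgroup.card_mul_index (commutator G)
    rw [hidx] at hmul
    have hcop : (Nat.card (commutator G)).Coprime p := by
      apply Nat.Coprime.symm
      rw [Nat.Prime.coprime_iff_not_dvd hp.1]
      intro hd
      apply hnsq
      rw [← hmul, pow_two]
      exact Nat.mul_dvd_mul_right hd p
    exact le_antisymm (le_pPrimeCore (commutator G) hcop) hpart1

end Main2

end Cfsg.Agent.Lib.Helper2_SelfCent2
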