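import Mathlib
import Cfsg.Prelude.Def_Solvable
import Cfsg.Agent.Lib.Helper5_PPrime
import Cfsg.Agent.Lib.Helper2_SelfCent
import Cfsg.Agent.Lib.Helper2_SelfCent2
import Cfsg.Agent.S4496

set_option autoImplicit false

/-!
# Groups with a self-centralizing element of prime order, III: normal subgroups of order `1 + np`
-/

namespace Cfsg.Agent.Lib.Helper2_SelfCent3

open scoped commutatorElement
open Cfsg.Agent.Lib.Helper2_SelfCent
open Cfsg.Agent.Lib.Helper2_SelfCent2
open Cfsg.Agent.Lib.Helper5_PPrime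

variable {G : Type*} [Group G] [Finite G]

omit [Finite G] in
theorem card_mul_relIndex {H K : Subgroup G} (h : H ≤ K) :
    Nat.card H * H.relIndex K = Nat.card K := by
  have := Subgroup.relIndex_mul_relIndex (⊥ : Subgroup G) H K bot_le h
  rwa [Subgroup.relIndex_bot_left, Subgroup.relIndex_bot_left] at this

section

variable (p : ℕ) [hp : Fact p.Prime] (x : G) (hx : orderOf x = p)
  (hC : Subgroup.centralizer ({x} : Set G) = Subgroup.zpowers x)

include hx hC

/-- the number of subgroups of order `p` is the index of the normalizer -/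
theorem card_subgroups :
    Nat.card {H : Subgroup G // Nat.card H = p} =
      (Subgroup.normalizer ((Subgroup.zpowers x : Subgroup G) : Set G)).index := by
  obtain ⟨S, hS⟩ := exists_sylow_eq p x hx hC
  have hfact : (Nat.card G).factorization p = 1 := by
    have h1 := Sylow.card_eq_multiplicity S
    rw [hS, card_P p x hx] at h1
    have : p ^ 1 = p ^ (Nat.card G).factorization p := by rw [pow_one]; exact h1
    exact (Nat.pow_right_injective hp.1.two_le this).symm
  have hcardH : ∀ H : {H : Subgroup G // Nat.card H = p},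
      Nat.card (H.1) = p ^ (Nat.card G).factorization p := by
    intro H; rw [H.2, hfact, pow_one]
  let e : Sylow p G ≃ {H : Subgroup G // Nat.card H = p} :=
    { toFun := fun P => ⟨(P : Subgroup G), Cfsg.Agent.S4496.sylow_card p x hx hC P⟩
      invFun := fun H => Sylow.ofCard (p := p) H.1 (hcardH H)
      left_inv := fun P => Sylow.ext (Sylow.coe_ofCard _ _)
      right_inv := fun H => Subtype.ext (Sylow.coe_ofCard (p := p) H.1 (hcardH H)) }
  rw [← Nat.card_congr e, Sylow.card_eq_index_normalizer S, ← hS]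
  rfl

omit [Finite G] hp hx in
/-- a normal `p'`-subgroup meets the normalizer of `⟨x⟩` trivially -/
theorem inf_normalizer_eq_bot (S : Subgroup G) [hSn : S.Normal]
    (hdisj : S ⊓ Subgroup.zpowers x = ⊥) :
    S ⊓ Subgroup.normalizer ((Subgroup.zpowers x : Subgroup G) : Set G) = ⊥ := by
  rw [eq_bot_iff]
  intro s hs
  obtain ⟨hsS, hsN⟩ := Subgroup.mem_inf.mp hs
  have h1 : s * x * s⁻¹ ∈ Subgroup.zpowers x :=
    (Subgroup.mem_normalizer_iff.mp hsN x).mp (Subgroup.mem_zpowers x)
  have h2 : s * x * s⁻¹ * x⁻¹ ∈ Subgroup.zpowers x :=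
    Subgroup.mul_mem _ h1 (Subgroup.inv_mem _ (Subgroup.mem_zpowers x))
  have h3 : s * x * s⁻¹ * x⁻¹ ∈ S := by
    have : s * x * s⁻¹ * x⁻¹ = s * (x * s⁻¹ * x⁻¹) := by group
    rw [this]
    exact S.mul_mem hsS (hSn.conj_mem _ (S.inv_mem hsS) x)
  have h4 : s * x * s⁻¹ * x⁻¹ ∈ S ⊓ Subgroup.zpowers x := ⟨h3, h2⟩
  rw [hdisj, Subgroup.mem_bot] at h4
  have h5 : s ∈ Subgroup.centralizer ({x} : Set G) := by
    rw [Subgroup.mem_centralizer_singleton_iff]
    have : s * x * s⁻¹ = x := by
      rw [← mul_inv_eq_one]; exact h4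
    calc s * x = (s * x * s⁻¹) * s := by group
      _ = x * s := by rw [this]
  rw [hC] at h5
  have h6 : s ∈ S ⊓ Subgroup.zpowers x := ⟨hsS, h5⟩
  rw [hdisj] at h6
  exact h6

omit hp hC in
/-- the order of `G` -/
theorem card_G : Nat.card G =
    (Subgroup.normalizer ((Subgroup.zpowers x : Subgroup G) : Set G)).index *
      ((Subgroup.zpowers x).relIndex
        (Subgroup.normalizer ((Subgroup.zpowers x : Subgroup G) : Set G)) * p) := by
  have h1 := Subgroup.card_mul_index
    (Subgroup.normalizer ((Subgroup.zpowers x : Subgroup G) : Set G))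
  have h2 := card_mul_relIndex (H := Subgroup.zpowers x)
    (K := Subgroup.normalizer ((Subgroup.zpowers x : Subgroup G) : Set G)) Subgroup.le_normalizer
  rw [card_P p x hx] at h2
  rw [← h1, ← h2]
  ring

variable (hN : ¬ Subgroup.normalizer ((Subgroup.zpowers x : Subgroup G) : Set G) ≤
  Subgroup.zpowers x)

include hN

/-- a subgroup normalized by `G'` containing an element of order `p` contains `G'` -/
theorem commutator_le_of_normalized (M' : Subgroup G)
    (hMn : ∀ c ∈ commutator G, ∀ m ∈ M', c * m * c⁻¹ ∈ M') (y : G) (hyM : y ∈ M')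
    (hy' : orderOf y = p) : commutator G ≤ M' := by
  have hconj : ∀ g : G, g * x * g⁻¹ ∈ M' := by
    intro g
    set M'' : Subgroup G := M'.map (MulAut.conj g⁻¹).toMonoidHom with hM''
    have hMn'' : ∀ c ∈ commutator G, ∀ m ∈ M'', c * m * c⁻¹ ∈ M'' := by
      intro c hc m hm
      obtain ⟨m0, hm0, rfl⟩ := hm
      have hc' : g * c * g⁻¹ ∈ commutator G :=
        (inferInstance : (commutator G).Normal).conj_mem c hc g
      refine ⟨(g * c * g⁻¹) * m0 * (g * c * g⁻¹)⁻¹, hMn _ hc' m0 hm0, ?_⟩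
      simp only [MulEquiv.coe_toMonoidHom, MulAut.conj_apply]
      group
    have hy'' : g⁻¹ * y * g ∈ M'' := by
      refine ⟨y, hyM, ?_⟩
      simp
    have hord : orderOf (g⁻¹ * y * g) = p := by
      have := orderOf_injective (MulAut.conj g⁻¹).toMonoidHom (MulAut.conj g⁻¹).injective y
      rw [← hy', ← this]
      simp
    have hxM'' := mem_of_normal_in_commutator p x hx hC hN M'' hMn'' _ hy'' hord
    obtain ⟨m0, hm0, hm0x⟩ := hxM''
    have : g * x * g⁻¹ = m0 := by
      rw [← hm0x]
      simp only [MulEquiv.coe_toMonoidHom, MulAut.conj_apply]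
      group
    rw [this]; exact hm0
  have hR : Subgroup.normalClosure ({x} : Set G) ≤ M' := by
    rw [Subgroup.normalClosure, Subgroup.closure_le]
    intro z hz
    rw [Group.mem_conjugatesOfSet_iff] at hz
    obtain ⟨b, hb, hbz⟩ := hz
    rw [Set.mem_singleton_iff] at hb
    subst hb
    obtain ⟨g, rfl⟩ := isConj_iff.mp hbz
    exact hconj g
  have hxR : x ∈ Subgroup.normalClosure ({x} : Set G) :=
    Subgroup.subset_normalClosure (Set.mem_singleton x)
  have hdivR : p ∣ Nat.card (Subgroup.normalClosure ({x} : Set G)) := by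
    rw [← hx]; exact Subgroup.orderOf_dvd_natCard _ hxR
  have hGR := (Cfsg.Agent.S4496.result p hp.1 x hx hC
    (Subgroup.normalClosure ({x} : Set G))).1 hdivR
  exact hGR.trans hR

end

section Main3

variable (p : ℕ) [hp : Fact p.Prime] (x : G) (hx : orderOf x = p)
  (hC : Subgroup.centralizer ({x} : Set G) = Subgroup.zpowers x)

include hx hC

omit hp hx in
/-- every element of a normal subgroup meeting `⟨x⟩` trivially is a commutator with `x` -/
theorem exists_commutator_eq (K : Subgroup G) [hKn : K.Normal]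
    (hdisj : K ⊓ Subgroup.zpowers x = ⊥) (k : G) (hk : k ∈ K) :
    ∃ k0 ∈ K, k = ⁅k0⁻¹, x⁆ := by
  let ψ : K → K := fun k => ⟨(k : G)⁻¹ * (x * (k : G) * x⁻¹),
    K.mul_mem (K.inv_mem k.2) (hKn.conj_mem _ k.2 x)⟩
  have hinj : Function.Injective ψ := by
    intro k k' hkk'
    have h3 : (k : G)⁻¹ * (x * (k : G) * x⁻¹) = (k' : G)⁻¹ * (x * (k' : G) * x⁻¹) :=
      congrArg Subtype.val hkk'
    have h4 : (k' : G) * (k : G)⁻¹ ∈ Subgroup.centralizer ({x} : Set G) := by
      rw [Subgroup.mem_centralizer_singleton_iff]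
      have h5 : (k' : G) * (k : G)⁻¹ * x =
          (k' : G) * ((k : G)⁻¹ * (x * (k : G) * x⁻¹)) * x * (k : G)⁻¹ := by group
      rw [h5, h3]
      group
    rw [hC] at h4
    have h6 : (k' : G) * (k : G)⁻¹ ∈ K ⊓ Subgroup.zpowers x :=
      Subgroup.mem_inf.mpr ⟨K.mul_mem k'.2 (K.inv_mem k.2), h4⟩
    rw [hdisj, Subgroup.mem_bot] at h6
    apply Subtype.ext
    have : (k' : G) = (k : G) := by
      rw [← mul_inv_eq_one]; exact h6
    exact this.symm
  have hsurj : Function.Surjective ψ := Finite.surjective_of_injective hinj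
  obtain ⟨k0, hk0⟩ := hsurj ⟨k, hk⟩
  have h3 : (k0 : G)⁻¹ * (x * (k0 : G) * x⁻¹) = k := congrArg Subtype.val hk0
  refine ⟨k0, k0.2, ?_⟩
  rw [← h3, commutatorElement_def]; group

theorem part_ii (n : ℕ) (hn : Nat.card {H : Subgroup G // Nat.card H = p} = 1 + n * p)
    (hN : Subgroup.normalizer ((Subgroup.zpowers x : Subgroup G) : Set G) ≤ Subgroup.zpowers x) :
    Nat.card (commutator G) = 1 + n * p ∧ IsCyclic (G ⧸ commutator G) ∧
      (commutator G).index = p := by
  have hidx := index_commutator_of_normalizer_le p x hx hC hN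
  have he : (Subgroup.zpowers x).relIndex
      (Subgroup.normalizer ((Subgroup.zpowers x : Subgroup G) : Set G)) = 1 :=
    Subgroup.relIndex_eq_one.mpr hN
  have hG := card_G p x hx
  rw [← card_subgroups p x hx hC, hn, he, one_mul] at hG
  have hmul := Subgroup.card_mul_index (commutator G)
  rw [hidx, hG] at hmul
  have hcard : Nat.card (commutator G) = 1 + n * p :=
    Nat.eq_of_mul_eq_mul_right hp.1.pos hmul
  refine ⟨hcard, ?_, hidx⟩
  have : Nat.card (G ⧸ commutator G) = p := by
    rw [← Subgroup.index_eq_card]; exact hidx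
  exact isCyclic_of_prime_card this

theorem part_iii (n : ℕ) (hn : Nat.card {H : Subgroup G // Nat.card H = p} = 1 + n * p)
    (hN : ¬ Subgroup.normalizer ((Subgroup.zpowers x : Subgroup G) : Set G) ≤ Subgroup.zpowers x)
    (hne : derivedSeries G 2 ≠ derivedSeries G 1) :
    Nat.card (derivedSeries G 2) = 1 + n * p ∧ Nat.card (commutator G) = p * (1 + n * p) := by
  haveI hSn := pPrimeCore_normal p G
  have hScop := pPrimeCore_coprime p G
  have hdisjS : Cfsg.pPrimeCore p G ⊓ Subgroup.zpowers x = ⊥ := by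
    rw [inf_comm]
    exact inf_eq_bot_of_pGroup_of_coprime (isPGroup_P p x hx) hScop
  have hSG := pPrimeCore_le_commutator p x hx hC
  have hPG := P_le_commutator p x hx hC hN
  have hxG : x ∈ commutator G := hPG (Subgroup.mem_zpowers x)
  have h1 : derivedSeries G 1 = commutator G := derivedSeries_one G
  have h2 : derivedSeries G 2 = ⁅commutator G, commutator G⁆ := by
    rw [derivedSeries_succ, h1]
  have h2le : derivedSeries G 2 ≤ commutator G := by
    rw [h2]; exact Subgroup.commutator_le_left _ _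
  haveI : (derivedSeries G 2).Normal := derivedSeries_normal G 2
  -- `p ∤ |G''|`
  have hA : ¬ p ∣ Nat.card (derivedSeries G 2) := by
    intro hd
    have := (Cfsg.Agent.S4496.result p hp.1 x hx hC (derivedSeries G 2)).1 hd
    apply hne
    rw [h1]
    exact le_antisymm h2le this
  have hG2S : derivedSeries G 2 ≤ Cfsg.pPrimeCore p G :=
    le_pPrimeCore _ ((Nat.Prime.coprime_iff_not_dvd hp.1).mpr hA).symm
  have hSG2 : Cfsg.pPrimeCore p G ≤ derivedSeries G 2 := by
    intro s hs
    obtain ⟨s0, hs0, rfl⟩ := exists_commutator_eq x hC _ hdisjS s hs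
    rw [h2]
    exact Subgroup.commutator_mem_commutator (hSG (Subgroup.inv_mem _ hs0)) hxG
  have hG2 : derivedSeries G 2 = Cfsg.pPrimeCore p G := le_antisymm hG2S hSG2
  -- `G' = S* P`
  set M : Subgroup G := Cfsg.pPrimeCore p G ⊔ Subgroup.zpowers x with hM
  have hMle : M ≤ commutator G := sup_le hSG hPG
  have hMn : ∀ c ∈ commutator G, ∀ m ∈ M, c * m * c⁻¹ ∈ M := by
    intro c hc m hm
    have : c * m * c⁻¹ = ⁅c, m⁆ * m := by rw [commutatorElement_def]; group
    rw [this]
    apply M.mul_mem _ hm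
    apply (le_sup_left : Cfsg.pPrimeCore p G ≤ M)
    rw [← hG2, h2]
    exact Subgroup.commutator_mem_commutator hc (hMle hm)
  have hGM : commutator G ≤ M :=
    commutator_le_of_normalized p x hx hC hN M hMn x
      ((le_sup_right : Subgroup.zpowers x ≤ M) (Subgroup.mem_zpowers x)) hx
  have hMeq : M = commutator G := le_antisymm hMle hGM
  have hrel : (Cfsg.pPrimeCore p G).relIndex M = p := by
    rw [hM, Subgroup.relIndex_sup_left, ← Subgroup.inf_relIndex_right, hdisjS,
      Subgroup.relIndex_bot_left, card_P p x hx]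
  have hcardM : Nat.card (Cfsg.pPrimeCore p G) * p = Nat.card (commutator G) := by
    have h := card_mul_relIndex (le_sup_left : Cfsg.pPrimeCore p G ≤ M)
    rw [hrel] at h
    rw [← hMeq]
    exact h
  -- `|S*| = 1 + n p`
  have hidx := index_commutator_dvd p x hx hC hN
  obtain ⟨k, hk⟩ := hidx
  have hG := card_G p x hx
  rw [← card_subgroups p x hx hC, hn, hk] at hG
  have hmul := Subgroup.card_mul_index (commutator G)
  rw [← hcardM, hG] at hmul
  have hidxpos : 0 < (commutator G).index := Nat.pos_of_ne_zero Subgroup.index_ne_zero_of_finite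
  have hSk : Nat.card (Cfsg.pPrimeCore p G) = (1 + n * p) * k := by
    have h3 : Nat.card (Cfsg.pPrimeCore p G) * (p * (commutator G).index) =
        ((1 + n * p) * k) * (p * (commutator G).index) := by
      rw [← mul_assoc, hmul]; ring
    exact Nat.eq_of_mul_eq_mul_right (Nat.mul_pos hp.1.pos hidxpos) h3
  have hSdvd := ((Cfsg.Agent.S4496.result p hp.1 x hx hC (Cfsg.pPrimeCore p G)).2
    ((Nat.Prime.coprime_iff_not_dvd hp.1).mp hScop.symm)).1
  rw [hn, hSk] at hSdvd
  have hk1 : k = 1 := by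
    have hpos : 0 < 1 + n * p := by omega
    have h4 : (1 + n * p) * k ∣ (1 + n * p) * 1 := by rw [mul_one]; exact hSdvd
    have h5 := Nat.dvd_of_mul_dvd_mul_left hpos h4
    exact Nat.dvd_one.mp h5
  rw [hk1, mul_one] at hSk
  refine ⟨by rw [hG2, hSk], ?_⟩
  rw [← hcardM, hSk, mul_comm]

/-- if `G` has a normal subgroup of order `1 + np` and `N ≠ P` then `G'' ≠ G'` -/
theorem part_i_forward (n : ℕ) (hn : Nat.card {H : Subgroup G // Nat.card H = p} = 1 + n * p)
    (hN : ¬ Subgroup.normalizer ((Subgroup.zpowers x : Subgroup G) : Set G) ≤ Subgroup.zpowers x)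
    (S : Subgroup G) (hSnorm : S.Normal) (hScard : Nat.card S = 1 + n * p) :
    derivedSeries G 2 ≠ derivedSeries G 1 := by
  intro hEq
  haveI hSn := pPrimeCore_normal p G
  have hScop := pPrimeCore_coprime p G
  have hdisjS : Cfsg.pPrimeCore p G ⊓ Subgroup.zpowers x = ⊥ := by
    rw [inf_comm]
    exact inf_eq_bot_of_pGroup_of_coprime (isPGroup_P p x hx) hScop
  have hPG := P_le_commutator p x hx hC hN
  have hxG : x ∈ commutator G := hPG (Subgroup.mem_zpowers x)
  have h1 : derivedSeries G 1 = commutator G := derivedSeries_one G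
  have h2 : derivedSeries G 2 = ⁅commutator G, commutator G⁆ := by
    rw [derivedSeries_succ, h1]
  set N := Subgroup.normalizer ((Subgroup.zpowers x : Subgroup G) : Set G) with hNdef
  -- `|S*| = 1 + n p`
  have hSle : S ≤ Cfsg.pPrimeCore p G := by
    haveI := hSnorm
    apply le_pPrimeCore
    rw [hScard]
    have : (n * p + 1).Coprime p := by
      rw [Nat.coprime_mul_right_add_left]
      exact Nat.coprime_one_left p
    rwa [add_comm] at this
  have hd1 : (1 + n * p) ∣ Nat.card (Cfsg.pPrimeCore p G) := by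
    rw [← hScard]; exact Subgroup.card_dvd_of_le hSle
  have hd2 := ((Cfsg.Agent.S4496.result p hp.1 x hx hC (Cfsg.pPrimeCore p G)).2
    ((Nat.Prime.coprime_iff_not_dvd hp.1).mp hScop.symm)).1
  rw [hn] at hd2
  have hcardS : Nat.card (Cfsg.pPrimeCore p G) = 1 + n * p := Nat.dvd_antisymm hd2 hd1
  -- `S* N = G`
  have hSN : Cfsg.pPrimeCore p G ⊓ N = ⊥ := inf_normalizer_eq_bot x hC _ hdisjS
  have htop : Cfsg.pPrimeCore p G ⊔ N = ⊤ := by
    apply Subgroup.eq_top_of_card_eq
    have h3 := card_mul_relIndex (le_sup_left : Cfsg.pPrimeCore p G ≤ Cfsg.pPrimeCore p G ⊔ N)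
    rw [Subgroup.relIndex_sup_left, ← Subgroup.inf_relIndex_right, hSN,
      Subgroup.relIndex_bot_left] at h3
    rw [← h3, hcardS]
    have hG := card_G p x hx
    rw [← card_subgroups p x hx hC, hn] at hG
    rw [hG]
    congr 1
    have h4 := card_mul_relIndex (H := Subgroup.zpowers x) (K := N) Subgroup.le_normalizer
    rw [card_P p x hx] at h4
    rw [← h4, mul_comm]
  -- `M = S* P` is normal in `G`
  set M : Subgroup G := Cfsg.pPrimeCore p G ⊔ Subgroup.zpowers x with hM
  have hMnormal : M.Normal := by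
    rw [← Subgroup.normalizer_eq_top_iff, eq_top_iff, ← htop]
    apply sup_le
    · exact (le_sup_left : Cfsg.pPrimeCore p G ≤ M).trans Subgroup.le_normalizer
    · intro g hg
      apply Subgroup.mem_normalizer_fintype
      intro m hm
      have hm' : m ∈ ((Cfsg.pPrimeCore p G ⊔ Subgroup.zpowers x : Subgroup G) : Set G) := hm
      rw [Subgroup.normal_mul] at hm'
      obtain ⟨s, hs, y, hy, rfl⟩ := Set.mem_mul.mp hm'
      have : g * (s * y) * g⁻¹ = (g * s * g⁻¹) * (g * y * g⁻¹) := by group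
      show g * (s * y) * g⁻¹ ∈ M
      rw [this]
      apply M.mul_mem
      · exact (le_sup_left : Cfsg.pPrimeCore p G ≤ M) (hSn.conj_mem s hs g)
      · exact (le_sup_right : Subgroup.zpowers x ≤ M)
          ((Subgroup.mem_normalizer_iff.mp hg y).mp hy)
  have hxM : x ∈ M := (le_sup_right : Subgroup.zpowers x ≤ M) (Subgroup.mem_zpowers x)
  have hdivM : p ∣ Nat.card M := by
    rw [← hx]; exact Subgroup.orderOf_dvd_natCard _ hxM
  haveI := hMnormal
  have hGM := (Cfsg.Agent.S4496.result p hp.1 x hx hC M).1 hdivM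
  -- `[M, M] ≤ S*`
  have hMM : ⁅M, M⁆ ≤ Cfsg.pPrimeCore p G := by
    rw [Subgroup.commutator_le]
    intro a ha b hb
    have ha' : a ∈ ((Cfsg.pPrimeCore p G ⊔ Subgroup.zpowers x : Subgroup G) : Set G) := ha
    have hb' : b ∈ ((Cfsg.pPrimeCore p G ⊔ Subgroup.zpowers x : Subgroup G) : Set G) := hb
    rw [Subgroup.normal_mul] at ha' hb'
    obtain ⟨s, hs, y, hy, rfl⟩ := Set.mem_mul.mp ha'
    obtain ⟨s', hs', y', hy', rfl⟩ := Set.mem_mul.mp hb'
    rw [← QuotientGroup.eq_one_iff, QuotientGroup.mk_mul] at *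
    have e1 : ((s * y : G) : G ⧸ Cfsg.pPrimeCore p G) = (y : G ⧸ Cfsg.pPrimeCore p G) := by
      rw [QuotientGroup.mk_mul, (QuotientGroup.eq_one_iff s).mpr hs, one_mul]
    have e2 : ((s' * y' : G) : G ⧸ Cfsg.pPrimeCore p G) = (y' : G ⧸ Cfsg.pPrimeCore p G) := by
      rw [QuotientGroup.mk_mul, (QuotientGroup.eq_one_iff s').mpr hs', one_mul]
    have e3 : ((⁅s * y, s' * y'⁆ : G) : G ⧸ Cfsg.pPrimeCore p G) =
        ⁅((s * y : G) : G ⧸ Cfsg.pPrimeCore p G), ((s' * y' : G) : G ⧸ Cfsg.pPrimeCore p G)⁆ := by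
      simp only [commutatorElement_def, QuotientGroup.mk_mul, QuotientGroup.mk_inv]
    have e4 : y * y' = y' * y := by
      obtain ⟨i, hi⟩ := Subgroup.mem_zpowers_iff.mp hy
      obtain ⟨j, hj⟩ := Subgroup.mem_zpowers_iff.mp hy'
      rw [← hi, ← hj, ← zpow_add, ← zpow_add, add_comm]
    rw [e3, e1, e2, commutatorElement_def, ← QuotientGroup.mk_mul, ← QuotientGroup.mk_inv,
      ← QuotientGroup.mk_inv, ← QuotientGroup.mk_mul, ← QuotientGroup.mk_mul, e4]
    have : y' * y * y⁻¹ * y'⁻¹ = 1 := by group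
    rw [this]
    rfl
  have hG2S : derivedSeries G 2 ≤ Cfsg.pPrimeCore p G := by
    rw [h2]
    exact (Subgroup.commutator_mono hGM hGM).trans hMM
  have hxS : x ∈ Cfsg.pPrimeCore p G := by
    apply hG2S
    rw [hEq, h1]
    exact hxG
  have : x ∈ Cfsg.pPrimeCore p G ⊓ Subgroup.zpowers x := ⟨hxS, Subgroup.mem_zpowers x⟩
  rw [hdisjS, Subgroup.mem_bot] at this
  exact x_ne_one p x hx this

theorem main3 (t : ℕ)
    (ht : Nat.card {C : ConjClasses G // ∃ g ∈ C.carrier, orderOf g = p} = t) (n : ℕ)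
    (hn : Nat.card {H : Subgroup G // Nat.card H = p} = 1 + n * p) :
    ((∃ S : Subgroup G, S.Normal ∧ Nat.card S = 1 + n * p) ↔
      (t = p - 1 ∨ (t < p - 1 ∧ derivedSeries G 2 ≠ derivedSeries G 1))) ∧
    (t = p - 1 → Nat.card (commutator G) = 1 + n * p ∧ IsCyclic (G ⧸ commutator G) ∧
      (commutator G).index = p) ∧
    (t < p - 1 → derivedSeries G 2 ≠ derivedSeries G 1 →
      Nat.card (derivedSeries G 2) = 1 + n * p ∧ Nat.card (commutator G) = p * (1 + n * p)) := by
  have hii : t = p - 1 → Nat.card (commutator G) = 1 + n * p ∧ IsCyclic (G ⧸ commutator G) ∧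
      (commutator G).index = p := by
    intro htp
    exact part_ii p x hx hC n hn (normalizer_le_of_card p x hx hC t ht htp)
  have hNof : t < p - 1 →
      ¬ Subgroup.normalizer ((Subgroup.zpowers x : Subgroup G) : Set G) ≤ Subgroup.zpowers x := by
    intro hlt hN
    have := card_classes_of_normalizer_le p x hx hC hN
    rw [ht] at this
    omega
  have hiii : t < p - 1 → derivedSeries G 2 ≠ derivedSeries G 1 →
      Nat.card (derivedSeries G 2) = 1 + n * p ∧ Nat.card (commutator G) = p * (1 + n * p) := by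
    intro hlt hne
    exact part_iii p x hx hC n hn (hNof hlt) hne
  have htle : t ≤ p - 1 := by
    have h1 := card_classes_mul_le p x hx hC
    rw [ht] at h1
    have he0 : (Subgroup.zpowers x).relIndex
        (Subgroup.normalizer ((Subgroup.zpowers x : Subgroup G) : Set G)) ≠ 0 := by
      rw [Subgroup.relIndex]
      exact Subgroup.index_ne_zero_of_finite
    calc t = t * 1 := (mul_one t).symm
      _ ≤ t * _ := Nat.mul_le_mul_left t (Nat.pos_of_ne_zero he0)
      _ ≤ p - 1 := h1
  refine ⟨⟨?_, ?_⟩, hii, hiii⟩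
  · rintro ⟨S, hSn, hScard⟩
    by_cases htp : t = p - 1
    · exact Or.inl htp
    · right
      have hlt : t < p - 1 := lt_of_le_of_ne htle htp
      exact ⟨hlt, part_i_forward p x hx hC n hn (hNof hlt) S hSn hScard⟩
  · rintro (htp | ⟨hlt, hne⟩)
    · exact ⟨commutator G, inferInstance, (hii htp).1⟩
    · exact ⟨derivedSeries G 2, derivedSeries_normal G 2, (hiii hlt hne).1⟩

end Main3

end Cfsg.Agent.Lib.Helper2_SelfCent3
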