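import Mathlib
import Cfsg.Prelude.Def_Characters
import Cfsg.Prelude.Def_Blocks
import Cfsg.Agent.Lib.Helper2_ClassFn
import Cfsg.Agent.Lib.Helper2_CharBasic
import Cfsg.Agent.Lib.Helper2_CharOrtho
import Cfsg.Agent.Lib.Helper2_CharValues
import Cfsg.Agent.Lib.Helper2_CharSum
import Cfsg.Agent.Lib.Helper2_CharCentral
import Cfsg.Agent.Lib.Helper2_ModM
import Cfsg.Agent.Lib.Helper2_Blocks
import Cfsg.Agent.Lib.Helper2_BlockOrtho
import Cfsg.Agent.Lib.Helper2_BlockKer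

set_option autoImplicit false

/-!
# Blocks for two primes in a group without elements of order `p * q`
-/

namespace Cfsg.Agent.Lib.Helper2_TwoPrimes

open Cfsg
open Cfsg.Agent.Lib.Helper2_ClassFn
open Cfsg.Agent.Lib.Helper2_CharBasic
open Cfsg.Agent.Lib.Helper2_CharOrtho
open Cfsg.Agent.Lib.Helper2_CharValues
open Cfsg.Agent.Lib.Helper2_CharSum
open Cfsg.Agent.Lib.Helper2_CharCentral
open Cfsg.Agent.Lib.Helper2_ModM
open Cfsg.Agent.Lib.Helper2_Blocks
open Cfsg.Agent.Lib.Helper2_BlockOrtho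
open Cfsg.Agent.Lib.Helper2_BlockKer
open scoped ComplexConjugate

section Main

universe u

variable {G : Type u} [Group G] [Fintype G]

theorem not_dvd_of_no_pq {p q : ℕ} (hp : p.Prime) (hq : q.Prime) (hpq : p ≠ q)
    (hno : ∀ g : G, orderOf g ≠ p * q) (g : G) (h1 : p ∣ orderOf g) : ¬ q ∣ orderOf g := by
  intro h2
  have hcop : Nat.Coprime p q := (Nat.coprime_primes hp hq).mpr hpq
  have hd : p * q ∣ orderOf g := hcop.mul_dvd_of_dvd_of_dvd h1 h2
  obtain ⟨n, hn⟩ := hd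
  have hpos : 0 < orderOf g := orderOf_pos g
  have hn0 : n ≠ 0 := by
    rintro rfl
    rw [mul_zero] at hn
    omega
  apply hno (g ^ n)
  rw [orderOf_pow_of_dvd hn0 ⟨p * q, by rw [hn]; ring⟩, hn]
  exact Nat.mul_div_cancel _ (Nat.pos_of_ne_zero hn0)

open Classical in
theorem two_block_sum_zero {p q : ℕ} {Mp Mq : Ideal AlgInt} (hMp : IsPModular p Mp)
    (hMq : IsPModular q Mq) (hpq : p ≠ q) (hno : ∀ g : G, orderOf g ≠ p * q)
    {χp χq : G → ℂ} (hχp : IsIrrCharacter G χp) (hχq : IsIrrCharacter G χq)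
    (y g : G) (hy : p ∣ orderOf y) (hg : q ∣ orderOf g) :
    ∑ ψ ∈ irrFinset G,
      (if SameBlock Mp χp ψ ∧ SameBlock Mq χq ψ then ψ y * ψ g else 0) = 0 := by
  set c : (G → ℂ) → ℂ := fun φ => if SameBlock Mp χp φ then φ y else 0 with hc
  set θ : G → ℂ := ∑ φ ∈ irrFinset G, c φ • φ with hθ
  have hθx : ∀ x : G, θ x = ∑ φ ∈ irrFinset G,
      (if SameBlock Mp χp φ then conj (φ y⁻¹) * φ x else 0) := by
    intro x
    rw [hθ, Finset.sum_apply]
    refine Finset.sum_congr rfl fun φ hφ => ?_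
    have hφc := IsIrrCharacter.isCharacter (mem_irrFinset.mp hφ)
    simp only [Pi.smul_apply, smul_eq_mul, hc]
    split_ifs
    · rw [IsCharacter.apply_inv hφc, Complex.conj_conj]
    · rw [zero_mul]
  have hθ0 : ∀ x : G, q ∣ orderOf x → θ x = 0 := by
    intro x hx
    have hnp : ¬ p ∣ orderOf x := fun h => not_dvd_of_no_pq hMp.1 hMq.1 hpq hno x h hx
    rw [hθx]
    exact block_kernel_zero hMp hχp y⁻¹ x (Or.inr ⟨by rwa [orderOf_inv], hnp⟩)
  have hinner : ∀ ψ ∈ irrFinset G, classInner θ ψ = c ψ := by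
    intro ψ hψ
    rw [hθ, classInner_sum_left]
    simp_rw [classInner_smul_left]
    rw [Finset.sum_eq_single ψ]
    · rw [classInner_irr_self (mem_irrFinset.mp hψ), mul_one]
    · intro φ hφ hne
      rw [classInner_irr_of_ne (mem_irrFinset.mp hφ) (mem_irrFinset.mp hψ) hne, mul_zero]
    · intro h; exact absurd hψ h
  have h1 : ∑ ψ ∈ irrFinset G,
      (if SameBlock Mp χp ψ ∧ SameBlock Mq χq ψ then ψ y * ψ g else 0)
      = ∑ ψ ∈ irrFinset G, (if SameBlock Mq χq ψ then classInner θ ψ * ψ g else 0) := by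
    refine Finset.sum_congr rfl fun ψ hψ => ?_
    rw [hinner ψ hψ, hc]
    by_cases h1 : SameBlock Mp χp ψ <;> by_cases h2 : SameBlock Mq χq ψ <;> simp [h1, h2]
  rw [h1]
  have h2 : ∀ ψ : G → ℂ, (if SameBlock Mq χq ψ then classInner θ ψ * ψ g else 0)
      = (Nat.card G : ℂ)⁻¹ * ∑ x : G, θ x *
          (if SameBlock Mq χq ψ then conj (ψ x) * ψ g else 0) := by
    intro ψ
    split_ifs
    · rw [classInner_def, mul_assoc, Finset.sum_mul]
      congr 1
      refine Finset.sum_congr rfl fun x _ => ?_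
      ring
    · simp
  rw [Finset.sum_congr rfl (fun ψ _ => h2 ψ), ← Finset.mul_sum, Finset.sum_comm]
  simp_rw [← Finset.mul_sum]
  rw [Finset.sum_eq_zero, mul_zero]
  intro x _
  by_cases hx : q ∣ orderOf x
  · rw [hθ0 x hx, zero_mul]
  · rw [block_kernel_zero hMq hχq x g (Or.inl ⟨hx, hg⟩), mul_zero]

theorem pow_dvd_of_vanish_algInt (q : ℕ) [hq : Fact q.Prime] (a : (G → ℂ) → ℂ)
    (ha : ∀ ψ ∈ irrFinset G, IsIntegral ℤ (a ψ))
    (hv : ∀ x : G, q ∣ orderOf x → ∑ ψ ∈ irrFinset G, a ψ * ψ x = 0) :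
    ∃ ω : AlgInt, ∑ ψ ∈ irrFinset G, a ψ * ψ 1
      = (q : ℂ) ^ (Nat.card G).factorization q * (ω : ℂ) := by
  classical
  obtain S : Sylow q G := default
  haveI : Fintype (S : Subgroup G) := Fintype.ofFinite _
  have hcardS : Nat.card (S : Subgroup G) = q ^ (Nat.card G).factorization q :=
    Sylow.card_eq_multiplicity S
  have hn : ∀ ψ ∈ irrFinset G, ∃ n : ℕ,
      (Nat.card (S : Subgroup G) : ℂ)⁻¹ * ∑ u : (S : Subgroup G), ψ u = n := by
    intro ψ hψ
    have hS := IsCharacter.restrict (IsIrrCharacter.isCharacter (mem_irrFinset.mp hψ))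
      (S : Subgroup G)
    obtain ⟨n, hn⟩ := IsCharacter.classInner_irr_nat hS
      (isIrrCharacter_one (G := (S : Subgroup G)))
    refine ⟨n, ?_⟩
    rw [classInner_def] at hn
    simpa using hn
  choose! n hn using hn
  have hω : IsIntegral ℤ (∑ ψ ∈ irrFinset G, a ψ * (n ψ : ℂ)) := by
    refine IsIntegral.sum _ fun ψ hψ => ?_
    exact (ha ψ hψ).mul (isIntegral_nat _)
  refine ⟨⟨_, hω⟩, ?_⟩
  show _ = (q : ℂ) ^ _ * (∑ ψ ∈ irrFinset G, a ψ * (n ψ : ℂ))
  have hsum : ∑ u : (S : Subgroup G), ∑ ψ ∈ irrFinset G, a ψ * ψ u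
      = ∑ ψ ∈ irrFinset G, a ψ * ψ 1 := by
    rw [Finset.sum_eq_single (1 : (S : Subgroup G))]
    · rfl
    · intro u _ hu
      have hne : (u : G) ≠ 1 := fun h => hu (Subtype.ext h)
      have h1 : orderOf (u : G) ∣ q ^ (Nat.card G).factorization q := by
        rw [← hcardS, Subgroup.orderOf_coe]
        exact orderOf_dvd_natCard u
      obtain ⟨j, _, hj⟩ := (Nat.dvd_prime_pow hq.out).mp h1
      have hj0 : j ≠ 0 := by
        intro h0
        rw [h0, pow_zero, orderOf_eq_one_iff] at hj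
        exact hne hj
      have hdvd : q ∣ orderOf (u : G) := by
        rw [hj]
        exact dvd_pow_self q hj0
      exact hv _ hdvd
    · intro h
      exact absurd (Finset.mem_univ _) h
  have hS0 : (Nat.card (S : Subgroup G) : ℂ) ≠ 0 := by
    rw [hcardS]; exact_mod_cast (pow_pos hq.out.pos _).ne'
  have hkey : ∑ ψ ∈ irrFinset G, a ψ * (n ψ : ℂ)
      = (Nat.card (S : Subgroup G) : ℂ)⁻¹ * ∑ ψ ∈ irrFinset G, a ψ * ψ 1 := by
    rw [← hsum, Finset.sum_comm, Finset.mul_sum]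
    refine Finset.sum_congr rfl fun ψ hψ => ?_
    rw [← hn ψ hψ, ← Finset.mul_sum]
    ring
  have hqS : ((q : ℂ) ^ (Nat.card G).factorization q) = (Nat.card (S : Subgroup G) : ℂ) := by
    rw [hcardS]; push_cast; rfl
  rw [hkey, ← mul_assoc, hqS, mul_inv_cancel₀ hS0, one_mul]

open Classical in
/-- S4731, `Fintype` form. -/
theorem two_block_divisible (p q : ℕ) [Fact p.Prime] [Fact q.Prime] (hpq : p ≠ q)
    (Mp Mq : Ideal AlgInt) (hMp : IsPModular p Mp) (hMq : IsPModular q Mq)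
    (hno : ∀ g : G, orderOf g ≠ p * q)
    (Bp : Set (IrrCharacter G)) (hBp : IsPBlock Mp Bp)
    (Bq : Set (IrrCharacter G)) (hBq : IsPBlock Mq Bq) (y : G) (hy : p ∣ orderOf y) :
    ∃ ω : AlgInt, ∑ᶠ χ ∈ Bp ∩ Bq, (charDegree (χ : G → ℂ) : ℂ) * (χ : G → ℂ) y
      = (q : ℂ) ^ (Nat.card G).factorization q * (ω : ℂ) := by
  obtain ⟨χp, rfl⟩ := hBp
  obtain ⟨χq, rfl⟩ := hBq
  obtain ⟨ω, hω⟩ := pow_dvd_of_vanish_algInt q
    (fun ψ => if SameBlock Mp (χp : G → ℂ) ψ ∧ SameBlock Mq (χq : G → ℂ) ψ then ψ y else 0)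
    (fun ψ hψ => by
      beta_reduce
      split_ifs
      · exact IsCharacter.isIntegral (IsIrrCharacter.isCharacter (mem_irrFinset.mp hψ)) y
      · exact isIntegral_zero)
    (fun x hx => by
      have := two_block_sum_zero hMp hMq hpq hno χp.2 χq.2 y x hy hx
      refine Eq.trans ?_ this
      refine Finset.sum_congr rfl fun ψ _ => ?_
      split_ifs
      · rfl
      · rw [zero_mul])
  refine ⟨ω, ?_⟩
  rw [← hω, finsum_mem_eq_sum (blockOf Mp (χp : G → ℂ) ∩ blockOf Mq (χq : G → ℂ))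
    (fun ψ => (charDegree ψ : ℂ) * ψ y)]
  refine Finset.sum_congr rfl fun ψ hψ => ?_
  have hψi := mem_irrFinset.mp hψ
  have hmem : MemB (blockOf Mp (χp : G → ℂ) ∩ blockOf Mq (χq : G → ℂ)) ψ
      ↔ SameBlock Mp (χp : G → ℂ) ψ ∧ SameBlock Mq (χq : G → ℂ) ψ := by
    constructor
    · rintro ⟨_, h1, h2⟩
      exact ⟨h1, h2⟩
    · rintro ⟨h1, h2⟩
      exact ⟨hψi, h1, h2⟩
  simp only [hmem]
  split_ifs
  · rw [(apply_one_eq_charDegree hψi).1, mul_comm]
  · rw [zero_mul]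

open Classical in
/-- S4498, `Fintype` form. -/
theorem exists_common_nonprincipal (p q : ℕ) [Fact p.Prime] [Fact q.Prime] (hpq : p ≠ q)
    (hp : p ∣ Nat.card G) (hq : q ∣ Nat.card G) (hno : ∀ g : G, orderOf g ≠ p * q)
    (Mp Mq : Ideal AlgInt) (hMp : IsPModular p Mp) (hMq : IsPModular q Mq) :
    ∃ χ : IrrCharacter G, (χ : G → ℂ) ≠ (fun _ => 1) ∧ χ ∈ principalBlock Mp G
      ∧ χ ∈ principalBlock Mq G := by
  by_contra hcon
  push Not at hcon
  obtain ⟨y, hy⟩ := exists_prime_orderOf_dvd_card' p hp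
  obtain ⟨g, hg⟩ := exists_prime_orderOf_dvd_card' q hq
  have h1 : IsIrrCharacter G (fun _ : G => (1 : ℂ)) := isIrrCharacter_one
  have hz := two_block_sum_zero hMp hMq hpq hno h1 h1 y g (by rw [hy]) (by rw [hg])
  rw [Finset.sum_eq_single (fun _ : G => (1 : ℂ))] at hz
  · rw [if_pos ⟨sameBlock_refl hMp.2.1 _, sameBlock_refl hMq.2.1 _⟩] at hz
    norm_num at hz
  · intro ψ hψ hne
    rw [if_neg]
    rintro ⟨h2, h3⟩
    have hψi := mem_irrFinset.mp hψ
    exact hne (by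
      by_contra hne'
      exact hcon ⟨ψ, hψi⟩ hne' h2 h3)
  · intro h
    exact absurd (mem_irrFinset.mpr h1) h

end Main

end Cfsg.Agent.Lib.Helper2_TwoPrimes
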