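import Mathlib

set_option autoImplicit false

namespace Cfsg.Agent.Lib.Helper3_Conj

/-- Membership in a conjugate subgroup `g A g⁻¹`. -/
theorem mem_map_conj {G : Type*} [Group G] (A : Subgroup G) (g x : G) :
    x ∈ A.map (MulAut.conj g).toMonoidHom ↔ g⁻¹ * x * g ∈ A := by
  constructor
  · rintro ⟨a, ha, rfl⟩
    simpa [MulAut.conj_apply, mul_assoc] using ha
  · intro h
    refine ⟨g⁻¹ * x * g, h, ?_⟩
    simp [MulAut.conj_apply, mul_assoc]

theorem conj_mem_map_conj {G : Type*} [Group G] (A : Subgroup G) (g a : G) (ha : a ∈ A) :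
    g * a * g⁻¹ ∈ A.map (MulAut.conj g).toMonoidHom := by
  rw [mem_map_conj]
  have : g⁻¹ * (g * a * g⁻¹) * g = a := by group
  rwa [this]

theorem map_conj_map_conj {G : Type*} [Group G] (A : Subgroup G) (g h : G) :
    (A.map (MulAut.conj g).toMonoidHom).map (MulAut.conj h).toMonoidHom
      = A.map (MulAut.conj (h * g)).toMonoidHom := by
  ext x
  simp only [mem_map_conj]
  have : g⁻¹ * (h⁻¹ * x * h) * g = (h * g)⁻¹ * x * (h * g) := by group
  rw [this]

theorem map_conj_one {G : Type*} [Group G] (A : Subgroup G) :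
    A.map (MulAut.conj (1 : G)).toMonoidHom = A := by
  ext x; simp

theorem map_conj_eq_self_of_mem_normalizer {G : Type*} [Group G] (A : Subgroup G) (g : G)
    (hg : g ∈ Subgroup.normalizer (A : Set G)) :
    A.map (MulAut.conj g).toMonoidHom = A := by
  ext x
  rw [mem_map_conj]
  rw [Subgroup.mem_normalizer_iff] at hg
  rw [hg (g⁻¹ * x * g)]
  have : g * (g⁻¹ * x * g) * g⁻¹ = x := by group
  rw [this]

theorem mem_normalizer_of_map_conj_eq_self {G : Type*} [Group G] (A : Subgroup G) (g : G)
    (hg : A.map (MulAut.conj g).toMonoidHom = A) :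
    g ∈ Subgroup.normalizer (A : Set G) := by
  rw [Subgroup.mem_normalizer_iff]
  intro h
  constructor
  · intro hh
    rw [← hg]
    exact conj_mem_map_conj A g h hh
  · intro hh
    rw [← hg, mem_map_conj] at hh
    have : g⁻¹ * (g * h * g⁻¹) * g = h := by group
    rwa [this] at hh

theorem mem_normalizer_iff_map_conj_eq_self {G : Type*} [Group G] (A : Subgroup G) (g : G) :
    g ∈ Subgroup.normalizer (A : Set G) ↔ A.map (MulAut.conj g).toMonoidHom = A :=
  ⟨map_conj_eq_self_of_mem_normalizer A g, mem_normalizer_of_map_conj_eq_self A g⟩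

theorem mem_smul_sylow_iff' {G : Type*} [Group G] {p : ℕ} (S : Sylow p G) (h x : G) :
    x ∈ ((h • S : Sylow p G) : Subgroup G) ↔ h⁻¹ * x * h ∈ (S : Subgroup G) := by
  rw [Sylow.coe_subgroup_smul, Subgroup.mem_pointwise_smul_iff_inv_smul_mem]
  simp [MulAut.smul_def, mul_assoc]

theorem smul_sylow_eq_map_conj {G : Type*} [Group G] {p : ℕ} (S : Sylow p G) (h : G) :
    ((h • S : Sylow p G) : Subgroup G) = (S : Subgroup G).map (MulAut.conj h).toMonoidHom := by
  ext x
  rw [mem_smul_sylow_iff', mem_map_conj]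

/-- Any two Sylow `p`-subgroups are conjugate, in `map conj` form. -/
theorem sylow_exists_map_conj_eq {G : Type*} [Group G] [Finite G] {p : ℕ} [Fact p.Prime]
    (S T : Sylow p G) : ∃ u : G, (T : Subgroup G).map (MulAut.conj u).toMonoidHom = (S : Subgroup G) := by
  obtain ⟨u, hu⟩ := MulAction.exists_smul_eq G T S
  refine ⟨u, ?_⟩
  rw [← smul_sylow_eq_map_conj, hu]

/-- The normalizer of a conjugate is the conjugate of the normalizer (membership form). -/
theorem conj_mem_normalizer_map_conj {G : Type*} [Group G] (A : Subgroup G) (u x : G)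
    (hx : x ∈ Subgroup.normalizer (A : Set G)) :
    u * x * u⁻¹ ∈ Subgroup.normalizer ((A.map (MulAut.conj u).toMonoidHom : Subgroup G) : Set G) := by
  rw [mem_normalizer_iff_map_conj_eq_self, map_conj_map_conj]
  have h1 : u * x * u⁻¹ * u = u * x := by group
  rw [h1, ← map_conj_map_conj, map_conj_eq_self_of_mem_normalizer A x hx]

end Cfsg.Agent.Lib.Helper3_Conj
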