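import Mathlib
import Cfsg.Agent.Lib.Helper3_Conj

set_option autoImplicit false

namespace Cfsg.Agent.Lib.Helper3_SylowRel

open Cfsg.Agent.Lib.Helper3_Conj

/-- Sylow's theorem relative to a subgroup `N`: if `R ≤ N` is a `p`-subgroup of index prime to `p`
in `N` and `Q ≤ N` is a `p`-subgroup, some `N`-conjugate of `Q` lies in `R`. -/
theorem exists_conj_le_of_relIndex {G : Type*} [Group G] [Finite G] {p : ℕ} [Fact p.Prime]
    (N R Q : Subgroup G) (hRN : R ≤ N) (hR : IsPGroup p ↥R) (hRi : ¬ p ∣ R.relIndex N)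
    (hQN : Q ≤ N) (hQ : IsPGroup p ↥Q) :
    ∃ n ∈ N, ∀ q ∈ Q, n * q * n⁻¹ ∈ R := by
  -- work inside ↥N
  have hR' : IsPGroup p ↥(R.subgroupOf N) :=
    hR.comap_of_injective N.subtype (Subgroup.subtype_injective N)
  have hRi' : ¬ p ∣ (R.subgroupOf N).index := hRi
  let R' : Sylow p N := hR'.toSylow hRi'
  have hR'c : (R' : Subgroup N) = R.subgroupOf N := IsPGroup.toSylow_coe hR' hRi'
  have hQ' : IsPGroup p ↥(Q.subgroupOf N) :=
    hQ.comap_of_injective N.subtype (Subgroup.subtype_injective N)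
  obtain ⟨Q'', hQ''⟩ := hQ'.exists_le_sylow
  obtain ⟨n, hn⟩ := MulAction.exists_smul_eq N Q'' R'
  refine ⟨n, n.2, fun q hq => ?_⟩
  have hqN : q ∈ N := hQN hq
  have hmem : (⟨q, hqN⟩ : N) ∈ (Q'' : Subgroup N) := hQ'' (Subgroup.mem_subgroupOf.mpr hq)
  have h2 : n⁻¹ * (n * ⟨q, hqN⟩ * n⁻¹) * n ∈ (Q'' : Subgroup N) := by
    have : n⁻¹ * (n * ⟨q, hqN⟩ * n⁻¹) * n = (⟨q, hqN⟩ : N) := by group
    rw [this]; exact hmem
  rw [← mem_smul_sylow_iff', hn, hR'c, Subgroup.mem_subgroupOf] at h2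
  exact h2

end Cfsg.Agent.Lib.Helper3_SylowRel
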