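import Mathlib
import Cfsg.Prelude.Def_ConjugacyFunctors
import Cfsg.Agent.Lib.Helper3_Conj
import Cfsg.Agent.Lib.Helper3_SylowRel

set_option autoImplicit false

namespace Cfsg.Agent.Lib.Helper3_Alperin

open Cfsg Cfsg.Agent.Lib.Helper3_Conj Cfsg.Agent.Lib.Helper3_SylowRel

variable {G : Type*} [Group G]

/-- Chain predicate: starting from the accumulated element `c`, each entry `(T, x)` of the list has
`T ∈ 𝓕`, `x ∈ N(T)` and `A ^ c ⊆ T`; then continue with `c * x`. -/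
def Ch (𝓕 : Set (Subgroup G)) (A : Set G) : G → List (Subgroup G × G) → Prop
  | _, [] => True
  | c, p :: l => p.1 ∈ 𝓕 ∧ p.2 ∈ Subgroup.normalizer ((p.1 : Subgroup G) : Set G) ∧
      (∀ a ∈ A, c⁻¹ * a * c ∈ p.1) ∧ Ch 𝓕 A (c * p.2) l

/-- product of the second components -/
def lprod (l : List (Subgroup G × G)) : G := (l.map Prod.snd).prod

/-- reversed list with inverted elements -/
def rinv (l : List (Subgroup G × G)) : List (Subgroup G × G) :=
  (l.map (fun p => (p.1, p.2⁻¹))).reverse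

theorem lprod_nil : lprod ([] : List (Subgroup G × G)) = 1 := by simp [lprod]

theorem lprod_cons (p : Subgroup G × G) (l : List (Subgroup G × G)) :
    lprod (p :: l) = p.2 * lprod l := by simp [lprod]

theorem lprod_append (l₁ l₂ : List (Subgroup G × G)) :
    lprod (l₁ ++ l₂) = lprod l₁ * lprod l₂ := by simp [lprod]

theorem rinv_cons (p : Subgroup G × G) (l : List (Subgroup G × G)) :
    rinv (p :: l) = rinv l ++ [(p.1, p.2⁻¹)] := by simp [rinv]

theorem lprod_rinv (l : List (Subgroup G × G)) : lprod (rinv l) = (lprod l)⁻¹ := by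
  induction l with
  | nil => simp [rinv, lprod]
  | cons p l ih =>
    rw [rinv_cons, lprod_append, ih, lprod_cons, lprod_cons, lprod_nil, mul_one, mul_inv_rev]

theorem ch_append (𝓕 : Set (Subgroup G)) (A : Set G) :
    ∀ (l₁ l₂ : List (Subgroup G × G)) (c : G), Ch 𝓕 A c l₁ → Ch 𝓕 A (c * lprod l₁) l₂ →
      Ch 𝓕 A c (l₁ ++ l₂)
  | [], l₂, c, _, h2 => by
    rw [lprod_nil, mul_one] at h2
    simpa using h2
  | p :: l₁, l₂, c, h1, h2 => by
    obtain ⟨h11, h12, h13, h14⟩ := h1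
    refine ⟨h11, h12, h13, ?_⟩
    apply ch_append 𝓕 A l₁ l₂ (c * p.2) h14
    rw [lprod_cons, ← mul_assoc] at h2
    exact h2

theorem ch_mono (𝓕 : Set (Subgroup G)) {A B : Set G} (hBA : B ⊆ A) :
    ∀ (l : List (Subgroup G × G)) (c : G), Ch 𝓕 A c l → Ch 𝓕 B c l
  | [], _, _ => trivial
  | p :: l, c, h => by
    obtain ⟨h1, h2, h3, h4⟩ := h
    exact ⟨h1, h2, fun a ha => h3 a (hBA ha), ch_mono 𝓕 hBA l (c * p.2) h4⟩

theorem ch_conj (𝓕 : Set (Subgroup G)) (A : Set G) (g : G) :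
    ∀ (l : List (Subgroup G × G)) (c : G),
      Ch 𝓕 ((fun a => g⁻¹ * a * g) '' A) c l → Ch 𝓕 A (g * c) l
  | [], _, _ => trivial
  | p :: l, c, h => by
    obtain ⟨h1, h2, h3, h4⟩ := h
    refine ⟨h1, h2, ?_, ?_⟩
    · intro a ha
      have := h3 (g⁻¹ * a * g) ⟨a, ha, rfl⟩
      have e : (g * c)⁻¹ * a * (g * c) = c⁻¹ * (g⁻¹ * a * g) * c := by group
      rw [e]; exact this
    · rw [mul_assoc]
      exact ch_conj 𝓕 A g l (c * p.2) h4

theorem ch_single (𝓕 : Set (Subgroup G)) (A : Set G) (c : G) (T : Subgroup G) (x : G)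
    (hT : T ∈ 𝓕) (hx : x ∈ Subgroup.normalizer ((T : Subgroup G) : Set G))
    (hA : ∀ a ∈ A, c⁻¹ * a * c ∈ T) : Ch 𝓕 A c [(T, x)] :=
  ⟨hT, hx, hA, trivial⟩

theorem ch_reverse (𝓕 : Set (Subgroup G)) (A : Set G) :
    ∀ (l : List (Subgroup G × G)) (c : G), Ch 𝓕 A c l → Ch 𝓕 A (c * lprod l) (rinv l)
  | [], _, _ => trivial
  | p :: l, c, h => by
    obtain ⟨h1, h2, h3, h4⟩ := h
    rw [rinv_cons]
    have ih := ch_reverse 𝓕 A l (c * p.2) h4
    have e1 : c * lprod (p :: l) = c * p.2 * lprod l := by rw [lprod_cons, mul_assoc]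
    rw [e1]
    apply ch_append 𝓕 A _ _ _ ih
    rw [lprod_rinv]
    have e2 : c * p.2 * lprod l * (lprod l)⁻¹ = c * p.2 := by group
    rw [e2]
    apply ch_single 𝓕 A _ _ _ h1 (Subgroup.inv_mem _ h2)
    intro a ha
    have h5 := h3 a ha
    have h6 := (Subgroup.mem_normalizer_iff.mp (Subgroup.inv_mem _ h2)) (c⁻¹ * a * c)
    have e3 : (c * p.2)⁻¹ * a * (c * p.2) = p.2⁻¹ * (c⁻¹ * a * c) * p.2⁻¹⁻¹ := by group
    rw [e3]
    exact h6.mp h5

theorem ch_get (𝓕 : Set (Subgroup G)) (A : Set G) :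
    ∀ (l : List (Subgroup G × G)) (c : G), Ch 𝓕 A c l → ∀ (i : ℕ) (hi : i < l.length),
      (l[i]).1 ∈ 𝓕 ∧ (l[i]).2 ∈ Subgroup.normalizer (((l[i]).1 : Subgroup G) : Set G) ∧
      ∀ a ∈ A, (c * ((l.map Prod.snd).take i).prod)⁻¹ * a * (c * ((l.map Prod.snd).take i).prod)
        ∈ (l[i]).1
  | [], _, _, i, hi => by simp at hi
  | p :: l, c, h, 0, _ => by
    obtain ⟨h1, h2, h3, _⟩ := h
    refine ⟨h1, h2, ?_⟩
    intro a ha
    simpa using h3 a ha
  | p :: l, c, h, i + 1, hi => by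
    obtain ⟨_, _, _, h4⟩ := h
    have hi' : i < l.length := by simpa using hi
    obtain ⟨k1, k2, k3⟩ := ch_get 𝓕 A l (c * p.2) h4 i hi'
    refine ⟨by simpa using k1, by simpa using k2, ?_⟩
    intro a ha
    have := k3 a ha
    simpa [mul_assoc] using this

/-- `A` is carried along `g` by a chain through `𝓕`. -/
def Good (𝓕 : Set (Subgroup G)) (A : Set G) (g : G) : Prop :=
  ∃ l : List (Subgroup G × G), Ch 𝓕 A 1 l ∧ lprod l = g

theorem good_mono (𝓕 : Set (Subgroup G)) {A B : Set G} (hBA : B ⊆ A) (g : G) (h : Good 𝓕 A g) :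
    Good 𝓕 B g := by
  obtain ⟨l, hl, hp⟩ := h
  exact ⟨l, ch_mono 𝓕 hBA l 1 hl, hp⟩

/-- Conversion of a chain into the `Fin n` form of `IsConjugationFamily`. -/
theorem good_to_fin (𝓕 : Set (Subgroup G)) (A : Set G) (g : G) (h : Good 𝓕 A g) :
    ∃ (n : ℕ) (T : Fin n → Subgroup G) (x : Fin n → G), (List.ofFn x).prod = g ∧
      (∀ i, T i ∈ 𝓕) ∧ (∀ i, x i ∈ Subgroup.normalizer ((T i : Subgroup G) : Set G)) ∧
      (∀ h : 0 < n, A ⊆ T ⟨0, h⟩) ∧
      ∀ (i : Fin n) (h : i.val + 1 < n),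
        (fun a => (((List.ofFn x).take (i.val + 1)).prod)⁻¹ * a * ((List.ofFn x).take (i.val + 1)).prod) '' A ⊆
          T ⟨i.val + 1, h⟩ := by
  obtain ⟨l, hl, hp⟩ := h
  have hofn : List.ofFn (fun i : Fin l.length => (l.get i).2) = l.map Prod.snd := by
    have : (fun i : Fin l.length => (l.get i).2) = Prod.snd ∘ l.get := rfl
    rw [this, ← List.map_ofFn, List.ofFn_get]
  refine ⟨l.length, fun i => (l.get i).1, fun i => (l.get i).2, ?_, ?_, ?_, ?_, ?_⟩
  · rw [hofn]; exact hp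
  · intro i
    exact (ch_get 𝓕 A l 1 hl i.1 i.2).1
  · intro i
    exact (ch_get 𝓕 A l 1 hl i.1 i.2).2.1
  · intro h0 a ha
    have := (ch_get 𝓕 A l 1 hl 0 h0).2.2 a ha
    simpa using this
  · intro i hi
    rw [hofn]
    rintro _ ⟨a, ha, rfl⟩
    have := (ch_get 𝓕 A l 1 hl (i.1 + 1) hi).2.2 a ha
    simpa using this


/-- In a finite group, an element conjugating `H` into itself normalizes `H`. -/
theorem mem_normalizer_of_conj_le [Finite G] (H : Subgroup G) (g : G)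
    (h : ∀ a ∈ H, g⁻¹ * a * g ∈ H) : g ∈ Subgroup.normalizer ((H : Subgroup G) : Set G) := by
  have h1 : H.map (MulAut.conj g⁻¹).toMonoidHom ≤ H := by
    intro x hx
    rw [mem_map_conj] at hx
    have := h _ hx
    have e : g⁻¹ * (g⁻¹⁻¹ * x * g⁻¹) * g = x := by group
    rwa [e] at this
  have h2 : Nat.card (H.map (MulAut.conj g⁻¹).toMonoidHom) = Nat.card H :=
    Subgroup.card_map_of_injective (MulAut.conj g⁻¹).injective
  have h3 : H.map (MulAut.conj g⁻¹).toMonoidHom = H :=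
    Subgroup.eq_of_le_of_card_ge h1 (le_of_eq h2.symm)
  have h4 := mem_normalizer_of_map_conj_eq_self H g⁻¹ h3
  simpa using Subgroup.inv_mem _ h4

/-- Normalizers grow in `p`-groups. -/
theorem card_lt_card_inf_normalizer [Finite G] {p : ℕ} [Fact p.Prime] (S A : Subgroup G)
    (hS : IsPGroup p ↥S) (hAS : A ≤ S) (hne : A ≠ S) :
    Nat.card A < Nat.card ↥(S ⊓ Subgroup.normalizer ((A : Subgroup G) : Set G)) := by
  have : Group.IsNilpotent ↥S := hS.isNilpotent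
  have hnc : NormalizerCondition ↥S := Group.normalizerCondition_of_isNilpotent
  have hlt : A.subgroupOf S < ⊤ := by
    rw [lt_top_iff_ne_top, Ne, Subgroup.subgroupOf_eq_top]
    intro h
    exact hne (le_antisymm hAS h)
  have h1 := hnc _ hlt
  rw [← Subgroup.subgroupOf_normalizer_eq hAS] at h1
  obtain ⟨_, s, hs1, hs2⟩ := SetLike.lt_iff_le_and_exists.mp h1
  rw [Subgroup.mem_subgroupOf] at hs1 hs2
  have hle : A ≤ S ⊓ Subgroup.normalizer ((A : Subgroup G) : Set G) :=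
    le_inf hAS Subgroup.le_normalizer
  by_contra hcon
  push Not at hcon
  have heq := Subgroup.eq_of_le_of_card_ge hle hcon
  apply hs2
  rw [heq]
  exact ⟨s.2, hs1⟩

end Cfsg.Agent.Lib.Helper3_Alperin
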