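import Mathlib

set_option autoImplicit false

namespace Cfsg.Agent.Lib.Helper3_AltForm

open Module LinearMap

universe u

/-- A finite-dimensional space carrying a nondegenerate alternating form has even dimension. -/
theorem even_finrank_of_nondegenerate_isAlt {K : Type*} [Field K] :
    ∀ (n : ℕ) (V : Type u) [AddCommGroup V] [Module K V] [FiniteDimensional K V]
      (B : LinearMap.BilinForm K V), B.IsAlt → B.Nondegenerate → finrank K V = n → Even n := by
  intro n
  induction n using Nat.strong_induction_on with
  | _ n ih =>
  intro V _ _ _ B halt hnd hn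
  by_cases h0 : n = 0
  · rw [h0]; exact Even.zero
  have hpos : 0 < finrank K V := by omega
  obtain ⟨v, hv⟩ := Module.finrank_pos_iff_exists_ne_zero.mp hpos
  have hrefl : B.IsRefl := halt.isRefl
  -- a partner w with B v w ≠ 0
  obtain ⟨w, hw⟩ : ∃ w, B v w ≠ 0 := by
    by_contra hcon
    push Not at hcon
    exact hv (hnd.1 v hcon)
  have hwv : B w v = - B v w := by
    exact (halt.neg_eq v w).symm
  set W : Submodule K V := Submodule.span K {v, w} with hW
  have hvW : v ∈ W := Submodule.subset_span (by simp)
  have hwW : w ∈ W := Submodule.subset_span (by simp)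
  -- W meets its orthogonal trivially
  have hdisj : Disjoint W (B.orthogonal W) := by
    rw [Submodule.disjoint_def]
    intro x hxW hxO
    obtain ⟨a, b, rfl⟩ := Submodule.mem_span_pair.mp hxW
    rw [LinearMap.BilinForm.mem_orthogonal_iff] at hxO
    have h1 : B v (a • v + b • w) = 0 := hxO v hvW
    have h2 : B w (a • v + b • w) = 0 := hxO w hwW
    rw [map_add, map_smul, map_smul, halt v, smul_zero, zero_add, smul_eq_mul] at h1
    rw [map_add, map_smul, map_smul, halt w, smul_zero, add_zero, smul_eq_mul, hwv] at h2
    have hb : b = 0 := by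
      rcases mul_eq_zero.mp h1 with h | h
      · exact h
      · exact absurd h hw
    have ha : a = 0 := by
      rcases mul_eq_zero.mp h2 with h | h
      · exact h
      · exact absurd (neg_eq_zero.mp h) hw
    rw [ha, hb, zero_smul, zero_smul, add_zero]
  have hcompl : IsCompl W (B.orthogonal W) :=
    (LinearMap.BilinForm.isCompl_orthogonal_iff_disjoint hrefl).mpr hdisj
  -- dimension of W
  have hli : LinearIndependent K ![v, w] := by
    rw [LinearIndependent.pair_iff]
    intro s t hst
    have h1 : B v (s • v + t • w) = 0 := by rw [hst, map_zero]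
    rw [map_add, map_smul, map_smul, halt v, smul_zero, zero_add, smul_eq_mul] at h1
    have ht : t = 0 := by
      rcases mul_eq_zero.mp h1 with h | h
      · exact h
      · exact absurd h hw
    rw [ht, zero_smul, add_zero] at hst
    rcases smul_eq_zero.mp hst with h | h
    · exact ⟨h, ht⟩
    · exact absurd h hv
  have hW2 : finrank K W = 2 := by
    have h1 := finrank_span_eq_card hli
    rw [Fintype.card_fin] at h1
    have h2 : Set.range ![v, w] = {v, w} := by
      simp [Matrix.range_cons, Set.pair_comm]
    rw [h2] at h1
    exact h1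
  have hsum : finrank K W + finrank K (B.orthogonal W) = finrank K V :=
    Submodule.finrank_add_eq_of_isCompl hcompl
  -- the orthogonal complement is again nondegenerate
  have hnd' : (B.restrict (B.orthogonal W)).Nondegenerate := by
    rw [LinearMap.BilinForm.restrict_nondegenerate_iff_isCompl_orthogonal hrefl,
      LinearMap.BilinForm.orthogonal_orthogonal hnd hrefl]
    exact hcompl.symm
  have halt' : (B.restrict (B.orthogonal W)).IsAlt := fun x => halt x
  have hlt : finrank K (B.orthogonal W) < n := by omega
  have := ih _ hlt (B.orthogonal W) (B.restrict (B.orthogonal W)) halt' hnd' rfl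
  obtain ⟨k, hk⟩ := this
  exact ⟨k + 1, by omega⟩

/-- If `f` separates points on the right and `f v (N v) = 0` for all `v`, the rank of `N` is even. -/
theorem even_finrank_range {K : Type*} [Field K] {V : Type u} [AddCommGroup V] [Module K V]
    [FiniteDimensional K V] (f : LinearMap.BilinForm K V) (hf : ∀ z, (∀ y, f y z = 0) → z = 0)
    (N : V →ₗ[K] V) (hN : ∀ v, f v (N v) = 0) : Even (finrank K (LinearMap.range N)) := by
  set G : LinearMap.BilinForm K V := f.compRight N with hG
  have hGalt : G.IsAlt := fun v => hN v
  obtain ⟨U, hU⟩ := Submodule.exists_isCompl (LinearMap.ker N)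
  set g : LinearMap.BilinForm K U := G.restrict U with hg
  have hgalt : g.IsAlt := fun x => hGalt x
  have hgnd : g.Nondegenerate := by
    apply (LinearMap.IsRefl.nondegenerate_iff_separatingLeft hgalt.isRefl).mpr
    intro x hx
    -- f x (N y) = 0 for all y
    have h1 : ∀ y : V, G x y = 0 := by
      intro y
      have hy : y ∈ LinearMap.ker N ⊔ U := by rw [hU.sup_eq_top]; exact Submodule.mem_top
      obtain ⟨k, hk, u, hu, rfl⟩ := Submodule.mem_sup.mp hy
      have h2 : G x u = 0 := hx ⟨u, hu⟩
      have h3 : N k = 0 := LinearMap.mem_ker.mp hk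
      rw [map_add, h2, add_zero]
      show f x (N k) = 0
      rw [h3, map_zero]
    have h2 : ∀ y : V, f y (N x) = 0 := by
      intro y
      have : G y x = - G (x : V) y := (hGalt.neg_eq x y).symm
      rw [h1 y, neg_zero] at this
      exact this
    have h3 : N x = 0 := hf _ h2
    have h4 : (x : V) ∈ LinearMap.ker N ⊓ U := ⟨LinearMap.mem_ker.mpr h3, x.2⟩
    rw [hU.inf_eq_bot, Submodule.mem_bot] at h4
    exact Subtype.ext h4
  have heven := even_finrank_of_nondegenerate_isAlt (K := K) _ U g hgalt hgnd rfl
  have h1 : finrank K (LinearMap.ker N) + finrank K U = finrank K V :=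
    Submodule.finrank_add_eq_of_isCompl hU
  have h2 := LinearMap.finrank_range_add_finrank_ker N
  have h3 : finrank K (LinearMap.range N) = finrank K U := by omega
  rw [h3]; exact heven

end Cfsg.Agent.Lib.Helper3_AltForm
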