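import Mathlib
import Cfsg.Prelude.Def_Local
import Cfsg.Agent.S1259
import Cfsg.Agent.S1754

/-! Basic theory of components (helper3): components of subnormal subgroups, a component is
contained in or commutes with a subnormal subgroup, distinct components commute. -/

set_option autoImplicit false

namespace Cfsg.Agent.Lib.Helper3_Components

open Cfsg
open scoped commutatorElement

universe u

theorem quasisimple_nontrivial {A : Type*} [Group A] (h : Cfsg.IsQuasisimple A) : Nontrivial A := by
  obtain ⟨_, hs⟩ := h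
  by_contra hnt
  rw [not_nontrivial_iff_subsingleton] at hnt
  haveI := hs
  exact not_subsingleton (A ⧸ Subgroup.center A) inferInstance

theorem quasisimple_not_solvable {A : Type*} [Group A] (h : Cfsg.IsQuasisimple A) :
    ¬ Group.IsSolvable A := by
  haveI := quasisimple_nontrivial h
  haveI := h.1
  exact Group.IsPerfect.not_isSolvable A

/-- a component `L` of `G` contained in `H` is a component of `H` -/
theorem component_subgroupOf {G : Type*} [Group G] (L H : Subgroup G) (hL : Cfsg.IsComponent L)
    (hLH : L ≤ H) : Cfsg.IsComponent (L.subgroupOf H) :=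
  ⟨hL.1.subgroupOf, Cfsg.Agent.S1754.quasisimple_of_equiv (Subgroup.subgroupOfEquivOfLe hLH).symm hL.2⟩

/-- a component of a subnormal subgroup is a component -/
theorem component_map_subtype {G : Type*} [Group G] (H : Subgroup G) (hH : H.IsSubnormal)
    (K : Subgroup ↥H) (hK : Cfsg.IsComponent K) : Cfsg.IsComponent (K.map H.subtype) :=
  ⟨hK.1.trans' hH, Cfsg.Agent.S1754.quasisimple_of_equiv
    (K.equivMapOfInjective _ H.subtype_injective) hK.2⟩

theorem component_of_map_subtype {G : Type*} [Group G] (H : Subgroup G)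
    (K : Subgroup ↥H) (hK : Cfsg.IsComponent (K.map H.subtype)) : Cfsg.IsComponent K := by
  refine ⟨?_, Cfsg.Agent.S1754.quasisimple_of_equiv
    (K.equivMapOfInjective _ H.subtype_injective).symm hK.2⟩
  have h := hK.1.subgroupOf (K := H)
  have e : (K.map H.subtype).subgroupOf H = K := by
    unfold Subgroup.subgroupOf
    exact Subgroup.comap_map_eq_self_of_injective H.subtype_injective K
  rwa [e] at h

/-- commutators of `subgroupOf` -/
theorem commutator_eq_bot_of_subgroupOf {G : Type*} [Group G] (A B Y : Subgroup G) (hA : A ≤ Y)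
    (hB : B ≤ Y) (h : ⁅A.subgroupOf Y, B.subgroupOf Y⁆ = ⊥) : ⁅A, B⁆ = ⊥ := by
  rw [Subgroup.commutator_eq_bot_iff_le_centralizer] at h ⊢
  intro a ha
  rw [Subgroup.mem_centralizer_iff]
  intro b hb
  have h1 : (⟨a, hA ha⟩ : ↥Y) ∈ A.subgroupOf Y := Subgroup.mem_subgroupOf.mpr ha
  have h2 : (⟨b, hB hb⟩ : ↥Y) ∈ ((B.subgroupOf Y : Subgroup ↥Y) : Set ↥Y) :=
    Subgroup.mem_subgroupOf.mpr hb
  have h3 := Subgroup.mem_centralizer_iff.mp (h h1) _ h2
  exact congrArg Subtype.val h3

theorem commutator_eq_bot_of_le_inf {G : Type*} [Group G] (A B Y : Subgroup G)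
    (h : ⁅A.subgroupOf Y, B.subgroupOf Y⁆ = ⊥) : ⁅A ⊓ Y, B ⊓ Y⁆ = ⊥ := by
  apply commutator_eq_bot_of_subgroupOf (A ⊓ Y) (B ⊓ Y) Y inf_le_right inf_le_right
  rw [Subgroup.inf_subgroupOf_right, Subgroup.inf_subgroupOf_right]
  exact h

/-- **(31.4)** a component is contained in, or commutes with, any subnormal subgroup -/
theorem component_le_or_commute_aux : ∀ n : ℕ, ∀ (G : Type u) [Group G] [Finite G],
    Nat.card G = n → ∀ L H : Subgroup G, Cfsg.IsComponent L → H.IsSubnormal →
      L ≤ H ∨ ⁅L, H⁆ = ⊥ := by
  intro n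
  induction n using Nat.strong_induction_on with
  | _ n ih =>
    intro G _ _ hn L H hL hH
    by_cases hHtop : H = ⊤
    · left; rw [hHtop]; exact le_top
    by_cases hLtop : L = ⊤
    · right
      have hG : Cfsg.IsQuasisimple G := by
        have := hL.2
        rw [hLtop] at this
        exact Cfsg.Agent.S1754.quasisimple_of_equiv Subgroup.topEquiv this
      rcases Cfsg.Agent.S1259.result hG H hH with h | h
      · exact absurd h hHtop
      · rw [Subgroup.commutator_comm, Subgroup.commutator_eq_bot_iff_le_centralizer]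
        intro x hx
        rw [Subgroup.mem_centralizer_iff]
        intro y _
        exact (Subgroup.mem_center_iff.mp (h hx) y)
    obtain ⟨X, hXn, hLX, hXlt⟩ := hL.1.exists_normal_and_le_and_lt_top_of_ne hLtop
    obtain ⟨Y, hYn, hHY, hYlt⟩ := hH.exists_normal_and_le_and_lt_top_of_ne hHtop
    have hcard : ∀ Z : Subgroup G, Z < ⊤ → Nat.card Z < n := by
      intro Z hZ
      rw [← hn]
      rcases Nat.lt_or_ge (Nat.card Z) (Nat.card G) with h | h
      · exact h
      · exact absurd (Subgroup.eq_top_of_le_card Z h) hZ.ne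
    by_cases hLY : L ≤ Y
    · -- work inside Y
      have h1 := ih (Nat.card Y) (hcard Y hYlt) ↥Y rfl (L.subgroupOf Y) (H.subgroupOf Y)
        (component_subgroupOf L Y hL hLY) hH.subgroupOf
      rcases h1 with h1 | h1
      · left
        intro l hl
        have : (⟨l, hLY hl⟩ : ↥Y) ∈ H.subgroupOf Y := h1 (Subgroup.mem_subgroupOf.mpr hl)
        exact Subgroup.mem_subgroupOf.mp this
      · right
        exact commutator_eq_bot_of_subgroupOf L H Y hLY hHY h1
    · right
      -- work inside X
      have hXYn : ((X ⊓ Y).subgroupOf X).Normal := by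
        haveI : (X ⊓ Y).Normal := Subgroup.normal_inf_normal X Y
        infer_instance
      have h1 := ih (Nat.card X) (hcard X hXlt) ↥X rfl (L.subgroupOf X) ((X ⊓ Y).subgroupOf X)
        (component_subgroupOf L X hL hLX) hXYn.isSubnormal
      have h2 : ⁅L, X ⊓ Y⁆ = ⊥ := by
        rcases h1 with h1 | h1
        · exfalso
          apply hLY
          intro l hl
          have : (⟨l, hLX hl⟩ : ↥X) ∈ (X ⊓ Y).subgroupOf X := h1 (Subgroup.mem_subgroupOf.mpr hl)
          exact (Subgroup.mem_subgroupOf.mp this).2
        · exact commutator_eq_bot_of_subgroupOf L (X ⊓ Y) X hLX inf_le_left h1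
      have h3 : ⁅Y, L⁆ ≤ X ⊓ Y := by
        apply le_inf
        · exact (Subgroup.commutator_mono le_top hLX).trans (Subgroup.commutator_le_right ⊤ X)
        · exact Subgroup.commutator_le_left Y L
      have h4 : ⁅⁅Y, L⁆, L⁆ = ⊥ := by
        rw [eq_bot_iff]
        calc ⁅⁅Y, L⁆, L⁆ ≤ ⁅X ⊓ Y, L⁆ := Subgroup.commutator_mono h3 le_rfl
          _ = ⁅L, X ⊓ Y⁆ := Subgroup.commutator_comm _ _
          _ = ⊥ := h2
      have h5 : ⁅⁅L, Y⁆, L⁆ = ⊥ := by rw [Subgroup.commutator_comm L Y]; exact h4
      have h6 : ⁅⁅L, L⁆, Y⁆ = ⊥ := Subgroup.commutator_commutator_eq_bot_of_rotate h5 h4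
      have hperf : ⁅L, L⁆ = L := by
        haveI := hL.2.1
        exact Subgroup.commutator_eq_self
      rw [hperf] at h6
      rw [eq_bot_iff]
      calc ⁅L, H⁆ ≤ ⁅L, Y⁆ := Subgroup.commutator_mono le_rfl hHY
        _ = ⊥ := h6

theorem component_le_or_commute {G : Type u} [Group G] [Finite G] (L H : Subgroup G)
    (hL : Cfsg.IsComponent L) (hH : H.IsSubnormal) : L ≤ H ∨ ⁅L, H⁆ = ⊥ :=
  component_le_or_commute_aux (Nat.card G) G rfl L H hL hH


/-- a component is not abelian -/
theorem component_not_le_center {G : Type*} [Group G] (L : Subgroup G) (hL : Cfsg.IsComponent L) :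
    ¬ (⊤ : Subgroup ↥L) ≤ Subgroup.center ↥L := by
  intro h
  apply quasisimple_not_solvable hL.2
  have hcomm : ∀ a b : ↥L, a * b = b * a := by
    intro a b
    exact (Subgroup.mem_center_iff.mp (h (Subgroup.mem_top b)) a)
  letI : CommGroup ↥L := { (inferInstance : Group ↥L) with mul_comm := hcomm }
  infer_instance

/-- distinct components commute -/
theorem components_commute {G : Type u} [Group G] [Finite G] (L K : Subgroup G)
    (hL : Cfsg.IsComponent L) (hK : Cfsg.IsComponent K) (hne : L ≠ K) : ⁅L, K⁆ = ⊥ := by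
  rcases component_le_or_commute L K hL hK.1 with h | h
  · exfalso
    rcases Cfsg.Agent.S1259.result hK.2 (L.subgroupOf K) hL.1.subgroupOf with h1 | h1
    · apply hne
      apply le_antisymm h
      intro k hk
      have : (⟨k, hk⟩ : ↥K) ∈ L.subgroupOf K := by rw [h1]; trivial
      exact Subgroup.mem_subgroupOf.mp this
    · apply component_not_le_center L hL
      intro a _
      rw [Subgroup.mem_center_iff]
      intro b
      have ha : (⟨(a : G), h a.2⟩ : ↥K) ∈ L.subgroupOf K := Subgroup.mem_subgroupOf.mpr a.2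
      have := Subgroup.mem_center_iff.mp (h1 ha) ⟨(b : G), h b.2⟩
      apply Subtype.ext
      have h2 := congrArg Subtype.val this
      exact h2
  · exact h

/-- a component commutes with every solvable subnormal subgroup -/
theorem component_commute_solvable_subnormal {G : Type u} [Group G] [Finite G] (L H : Subgroup G)
    (hL : Cfsg.IsComponent L) (hH : H.IsSubnormal) (hsolv : Group.IsSolvable ↥H) : ⁅L, H⁆ = ⊥ := by
  rcases component_le_or_commute L H hL hH with h | h
  · exfalso
    apply quasisimple_not_solvable hL.2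
    exact Group.isSolvable_of_isSolvable_injective (f := Subgroup.inclusion h) (Subgroup.inclusion_injective h)
  · exact h

/-- a component commutes with every solvable subgroup it normalizes -/
theorem component_commute_solvable {G : Type u} [Group G] [Finite G] (L H : Subgroup G)
    (hL : Cfsg.IsComponent L) (hsolv : Group.IsSolvable ↥H)
    (hinv : L ≤ Subgroup.normalizer (H : Set G)) : ⁅L, H⁆ = ⊥ := by
  set M := L ⊔ H with hM
  have hLM : L ≤ M := le_sup_left
  have hHM : H ≤ M := le_sup_right
  have hHn : (H.subgroupOf M).Normal := by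
    apply Subgroup.normal_subgroupOf_of_le_normalizer
    exact sup_le hinv Subgroup.le_normalizer
  have hsolv' : Group.IsSolvable ↥(H.subgroupOf M) :=
    Group.isSolvable_of_isSolvable_injective (f := (Subgroup.subgroupOfEquivOfLe hHM).toMonoidHom)
      (Subgroup.subgroupOfEquivOfLe hHM).injective
  have h := component_commute_solvable_subnormal (L.subgroupOf M) (H.subgroupOf M)
    (component_subgroupOf L M hL hLM) hHn.isSubnormal hsolv'
  exact commutator_eq_bot_of_subgroupOf L H M hLM hHM h

theorem commute_of_commutator_eq_bot {G : Type*} [Group G] {A B : Subgroup G} (h : ⁅A, B⁆ = ⊥)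
    {a b : G} (ha : a ∈ A) (hb : b ∈ B) : a * b = b * a := by
  rw [Subgroup.commutator_eq_bot_iff_le_centralizer] at h
  exact (Subgroup.mem_centralizer_iff.mp (h ha) b hb).symm

end Cfsg.Agent.Lib.Helper3_Components
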