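import Mathlib
import Cfsg.Prelude.Def_Solvable
import Cfsg.Prelude.Def_Transfer

namespace Cfsg.Agent.Lib.Helper4_PCore

open Cfsg

theorem pCore_normal (p : ℕ) (G : Type*) [Group G] : (Cfsg.pCore p G).Normal := by
  unfold Cfsg.pCore
  exact Subgroup.sSup_normal _ (fun H hH => hH.1)

theorem normal_pGroup_le_sylow {G : Type*} [Group G] {p : ℕ}
    (N : Subgroup G) (hN : N.Normal) (hp : IsPGroup p N) (P : Sylow p G) : N ≤ (P : Subgroup G) := by
  have h1 : IsPGroup p ((P : Subgroup G) ⊔ N : Subgroup G) :=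
    IsPGroup.to_sup_of_normal_right P.isPGroup' hp
  have h2 : (P : Subgroup G) ⊔ N = P := P.is_maximal' h1 le_sup_left
  calc N ≤ (P : Subgroup G) ⊔ N := le_sup_right
    _ = P := h2

theorem pCore_le_sylow {G : Type*} [Group G] {p : ℕ} (P : Sylow p G) :
    Cfsg.pCore p G ≤ (P : Subgroup G) := by
  unfold Cfsg.pCore
  apply sSup_le
  intro N hN
  exact normal_pGroup_le_sylow N hN.1 hN.2 P

theorem pCore_isPGroup {G : Type*} [Group G] {p : ℕ} [Fact p.Prime] :
    IsPGroup p (Cfsg.pCore p G) := by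
  obtain ⟨P⟩ : Nonempty (Sylow p G) := inferInstance
  exact P.isPGroup'.to_le (pCore_le_sylow P)

theorem le_pCore {G : Type*} [Group G] {p : ℕ} (N : Subgroup G) (hN : N.Normal)
    (hp : IsPGroup p N) : N ≤ Cfsg.pCore p G := by
  unfold Cfsg.pCore
  exact le_sSup ⟨hN, hp⟩

end Cfsg.Agent.Lib.Helper4_PCore
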