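import Mathlib
import Cfsg.Prelude.Def_Solvable
import Cfsg.Agent.Lib.Helper5_PPrime
import Cfsg.Agent.Lib.Helper4_PCore

/-! Fitting's theorem for finite groups, via the p-cores. -/

set_option autoImplicit false

namespace Cfsg.Agent.Lib.Lead_Fitting

open Cfsg

/-- the join of the p-cores -/
def F0 (G : Type*) [Group G] : Subgroup G := ⨆ p : Nat.Primes, Cfsg.pCore (p : ℕ) G

theorem F0_normal (G : Type*) [Group G] : (F0 G).Normal := by
  unfold F0
  rw [iSup]
  refine Subgroup.sSup_normal _ ?_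
  rintro _ ⟨p, rfl⟩
  exact Cfsg.Agent.Lib.Helper4_PCore.pCore_normal _ G

theorem pCore_le_F0 {G : Type*} [Group G] (p : ℕ) [hp : Fact p.Prime] : Cfsg.pCore p G ≤ F0 G :=
  le_iSup (fun q : Nat.Primes => Cfsg.pCore (q : ℕ) G) ⟨p, hp.out⟩

/-- the join of the `q`-cores for `q ≠ p` -/
def Y (G : Type*) [Group G] (p : ℕ) : Subgroup G :=
  sSup {N : Subgroup G | ∃ q : Nat.Primes, (q : ℕ) ≠ p ∧ N = Cfsg.pCore (q : ℕ) G}

theorem Y_spec (G : Type*) [Group G] [Finite G] (p : ℕ) [hp : Fact p.Prime] :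
    (Y G p).Normal ∧ (Nat.card (Y G p)).Coprime p := by
  refine Cfsg.Agent.Lib.Helper5_PPrime.coprime_sSup p _ ?_
  rintro N ⟨q, hq, rfl⟩
  refine ⟨Cfsg.Agent.Lib.Helper4_PCore.pCore_normal _ G, ?_⟩
  haveI : Fact (q : ℕ).Prime := ⟨q.2⟩
  obtain ⟨k, hk⟩ := (Cfsg.Agent.Lib.Helper4_PCore.pCore_isPGroup (G := G) (p := (q : ℕ))).exists_card_eq
  rw [hk]
  exact Nat.Coprime.pow_left _ ((Nat.coprime_primes q.2 hp.out).mpr hq)

theorem F0_le (G : Type*) [Group G] (p : ℕ) : F0 G ≤ Cfsg.pCore p G ⊔ Y G p := by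
  unfold F0
  apply iSup_le
  intro q
  by_cases hq : (q : ℕ) = p
  · rw [hq]; exact le_sup_left
  · exact le_trans (le_sSup (s := {N : Subgroup G | ∃ q : Nat.Primes, (q : ℕ) ≠ p ∧ N = Cfsg.pCore (q : ℕ) G}) ⟨q, hq, rfl⟩) le_sup_right

/-- every Sylow `p`-subgroup of `F0` is the `p`-core -/
theorem sylow_F0 (G : Type*) [Group G] [Finite G] (p : ℕ) [hp : Fact p.Prime] (P : Sylow p (F0 G)) :
    (P : Subgroup (F0 G)) = (Cfsg.pCore p G).subgroupOf (F0 G) := by
  haveI := Cfsg.Agent.Lib.Helper4_PCore.pCore_normal p G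
  have h1 : (Cfsg.pCore p G).subgroupOf (F0 G) ≤ (P : Subgroup (F0 G)) := by
    refine Cfsg.Agent.Lib.Helper4_PCore.normal_pGroup_le_sylow _ inferInstance ?_ P
    have : IsPGroup p (Cfsg.pCore p G) := Cfsg.Agent.Lib.Helper4_PCore.pCore_isPGroup
    exact this.comap_subtype
  refine le_antisymm ?_ h1
  intro x hx
  rw [Subgroup.mem_subgroupOf]
  have hxF : (x : G) ∈ Cfsg.pCore p G ⊔ Y G p := F0_le G p x.2
  haveI := (Y_spec G p).1
  rw [← SetLike.mem_coe, Subgroup.mul_normal] at hxF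
  obtain ⟨a, ha, y, hy, hay⟩ := Set.mem_mul.mp hxF
  -- the image of P in G
  have hP' : IsPGroup p ((P : Subgroup (F0 G)).map (F0 G).subtype) := P.isPGroup'.map _
  have haP : a ∈ (P : Subgroup (F0 G)).map (F0 G).subtype := by
    refine ⟨⟨a, pCore_le_F0 p ha⟩, ?_, rfl⟩
    exact h1 (by rw [Subgroup.mem_subgroupOf]; exact ha)
  have hxP : (x : G) ∈ (P : Subgroup (F0 G)).map (F0 G).subtype := ⟨x, hx, rfl⟩
  have hyP : y ∈ (P : Subgroup (F0 G)).map (F0 G).subtype := by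
    have : y = a⁻¹ * (x : G) := by rw [← hay]; group
    rw [this]
    exact Subgroup.mul_mem _ (Subgroup.inv_mem _ haP) hxP
  have hbot := Cfsg.Agent.Lib.Helper5_PPrime.inf_eq_bot_of_pGroup_of_coprime hP' (Y_spec G p).2
  have hy1 : y = 1 := by
    have : y ∈ (P : Subgroup (F0 G)).map (F0 G).subtype ⊓ Y G p := Subgroup.mem_inf.mpr ⟨hyP, hy⟩
    rw [hbot, Subgroup.mem_bot] at this
    exact this
  rw [hy1, mul_one] at hay
  rw [← hay]; exact ha

theorem F0_nilpotent (G : Type*) [Group G] [Finite G] : Group.IsNilpotent (F0 G) := by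
  refine (Group.isNilpotent_of_finite_tfae.out 0 3 rfl rfl).mpr ?_
  intro p hp P
  haveI := hp
  rw [sylow_F0 G p P]
  haveI := Cfsg.Agent.Lib.Helper4_PCore.pCore_normal p G
  infer_instance

/-- a normal nilpotent subgroup lies in `F0` -/
theorem le_F0 {G : Type*} [Group G] [Finite G] (N : Subgroup G) (hN : N.Normal)
    (hnil : Group.IsNilpotent N) : N ≤ F0 G := by
  classical
  haveI := hN
  -- choose a Sylow subgroup of N for each prime
  let S : ∀ p : Nat.Primes, Subgroup N := fun p =>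
    haveI : Fact (p : ℕ).Prime := ⟨p.2⟩
    ((Classical.arbitrary (Sylow (p : ℕ) N)) : Subgroup N)
  have hS : ∀ p : Nat.Primes, (S p).map N.subtype ≤ Cfsg.pCore (p : ℕ) G := by
    intro p
    haveI : Fact (p : ℕ).Prime := ⟨p.2⟩
    have hnorm : ((Classical.arbitrary (Sylow (p : ℕ) N)) : Subgroup N).Normal := inferInstance
    haveI : ((Classical.arbitrary (Sylow (p : ℕ) N)) : Subgroup N).Characteristic :=
      Sylow.characteristic_of_normal _ hnorm
    refine Cfsg.Agent.Lib.Helper4_PCore.le_pCore _ ?_ ?_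
    · exact ConjAct.normal_of_characteristic_of_normal
    · exact (Classical.arbitrary (Sylow (p : ℕ) N)).isPGroup'.map _
  have htop : (⨆ p : Nat.Primes, S p) = ⊤ := by
    rw [← Subgroup.index_eq_one]
    rw [Nat.eq_one_iff_not_exists_prime_dvd]
    intro p hp hdvd
    haveI : Fact p.Prime := ⟨hp⟩
    have h1 : S ⟨p, hp⟩ ≤ ⨆ q : Nat.Primes, S q := le_iSup S ⟨p, hp⟩
    have h2 := Subgroup.index_dvd_of_le h1
    exact (Classical.arbitrary (Sylow p N)).not_dvd_index (hdvd.trans h2)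
  have hN' : N = (⨆ p : Nat.Primes, S p).map N.subtype := by
    rw [htop, ← MonoidHom.range_eq_map, Subgroup.range_subtype]
  rw [hN', Subgroup.map_iSup]
  apply iSup_le
  intro p
  exact (hS p).trans (le_iSup (fun q : Nat.Primes => Cfsg.pCore (q : ℕ) G) p)

theorem fitting_eq (G : Type*) [Group G] [Finite G] : Cfsg.fittingSubgroup G = F0 G := by
  apply le_antisymm
  · apply sSup_le
    rintro N ⟨hN, hnil⟩
    exact le_F0 N hN hnil
  · exact le_sSup ⟨F0_normal G, F0_nilpotent G⟩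

end Cfsg.Agent.Lib.Lead_Fitting
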