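import Mathlib
import Cfsg.Prelude.Def_Local
import Cfsg.Agent.S3747
import Cfsg.Agent.Lib.Helper3_Conj
import Cfsg.Agent.Lib.Helper3_Alperin
import Cfsg.Agent.Lib.Helper3_Components

set_option autoImplicit false

namespace Cfsg.Agent.Lib.Helper3_AltStd
open Equiv Equiv.Perm Cfsg.Agent.Lib.Helper3_Conj

variable {n : ℕ}

/-- a `3`-cycle as an element of the alternating group -/
def tc (b c d : Fin n) (hbc : b ≠ c) (hcd : c ≠ d) : alternatingGroup (Fin n) :=
  ⟨swap b c * swap c d, by
    rw [Equiv.Perm.mem_alternatingGroup, Equiv.Perm.sign_mul, Equiv.Perm.sign_swap hbc,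
      Equiv.Perm.sign_swap hcd]; rfl⟩

theorem tc_apply_first (b c d : Fin n) (hbc : b ≠ c) (hcd : c ≠ d) (hbd : b ≠ d) :
    (tc b c d hbc hcd).1 b = c := by
  show (swap b c * swap c d) b = c
  rw [Equiv.Perm.mul_apply, Equiv.swap_apply_of_ne_of_ne hbc hbd, Equiv.swap_apply_left]

theorem tc_apply_other (b c d : Fin n) (hbc : b ≠ c) (hcd : c ≠ d) (x : Fin n) (hb : x ≠ b)
    (hc : x ≠ c) (hd : x ≠ d) : (tc b c d hbc hcd).1 x = x := by
  show (swap b c * swap c d) x = x
  rw [Equiv.Perm.mul_apply, Equiv.swap_apply_of_ne_of_ne hc hd, Equiv.swap_apply_of_ne_of_ne hb hc]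

/-- even permutations supported on `p` -/
def Sp (p : Fin n → Prop) : Subgroup (alternatingGroup (Fin n)) where
  carrier := {g | ∀ x, ¬ p x → g.1 x = x}
  mul_mem' := by
    intro a b ha hb x hx
    show (a.1 * b.1) x = x
    rw [Equiv.Perm.mul_apply, hb x hx, ha x hx]
  one_mem' := by intro x _; rfl
  inv_mem' := by
    intro a ha x hx
    show (a.1)⁻¹ x = x
    rw [Equiv.Perm.inv_eq_iff_eq]; exact (ha x hx).symm

theorem mem_Sp {p : Fin n → Prop} {g : alternatingGroup (Fin n)} :
    g ∈ Sp p ↔ ∀ x, ¬ p x → g.1 x = x := Iff.rfl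

theorem tc_mem_Sp (p : Fin n → Prop) (b c d : Fin n) (hbc : b ≠ c) (hcd : c ≠ d) (hb : p b)
    (hc : p c) (hd : p d) : tc b c d hbc hcd ∈ Sp p := by
  intro x hx
  apply tc_apply_other
  · rintro rfl; exact hx hb
  · rintro rfl; exact hx hc
  · rintro rfl; exact hx hd

theorem mul_apply' (a b : alternatingGroup (Fin n)) (x : Fin n) : (a * b).1 x = a.1 (b.1 x) := rfl

/-- the "two more points" property -/
def Rich (p : Fin n → Prop) : Prop :=
  ∀ a b : Fin n, ∃ c d : Fin n, p c ∧ p d ∧ c ≠ d ∧ c ≠ a ∧ c ≠ b ∧ d ≠ a ∧ d ≠ b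

theorem cent_Sp (p : Fin n → Prop) (hp : Rich p) :
    Subgroup.centralizer (Sp p : Set (alternatingGroup (Fin n))) = Sp (fun x => ¬ p x) := by
  classical
  apply le_antisymm
  · intro g hg
    rw [Subgroup.mem_centralizer_iff] at hg
    rw [mem_Sp]
    intro a ha
    have ha : p a := not_not.mp ha
    by_contra hne
    by_cases hb : p (g.1 a)
    · obtain ⟨c, d, hc, hd, hcd, hca, hcb, hda, hdb⟩ := hp a (g.1 a)
      have h1 := hg _ (tc_mem_Sp p (g.1 a) c d hcb.symm hcd hb hc hd)
      have h2 := congrArg (fun t : alternatingGroup (Fin n) => t.1 a) h1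
      simp only [mul_apply'] at h2
      rw [tc_apply_first _ _ _ _ _ hdb.symm,
        tc_apply_other _ _ _ _ _ a (fun h => hne h.symm) hca.symm hda.symm] at h2
      exact hcb h2
    · obtain ⟨c, d, hc, hd, hcd, hca, _, hda, _⟩ := hp a a
      have h1 := hg _ (tc_mem_Sp p a c d hca.symm hcd ha hc hd)
      have h2 := congrArg (fun t : alternatingGroup (Fin n) => t.1 a) h1
      simp only [mul_apply'] at h2
      rw [tc_apply_first _ _ _ _ _ hda.symm,
        tc_apply_other _ _ _ _ _ (g.1 a) hne (fun h => hb (h ▸ hc)) (fun h => hb (h ▸ hd))] at h2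
      exact hca (g.1.injective h2.symm)
  · intro g hg
    rw [Subgroup.mem_centralizer_iff]
    intro l hl
    apply Subtype.ext
    show l.1 * g.1 = g.1 * l.1
    have hdis : Equiv.Perm.Disjoint l.1 g.1 := by
      intro x
      by_cases hx : p x
      · right; exact hg x (not_not.mpr hx)
      · left; exact hl x hx
    exact hdis.commute.eq

theorem Sp_not_not (p : Fin n → Prop) : Sp (fun x => ¬ ¬ p x) = Sp p := by
  ext g
  simp only [mem_Sp, not_not]

/-- criterion for normalizing `Sp p` -/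
theorem mem_normalizer_Sp (p : Fin n → Prop) (g : alternatingGroup (Fin n))
    (h : ∀ z, p (g.1 z) → p z) :
    g ∈ Subgroup.normalizer (Sp p : Set (alternatingGroup (Fin n))) := by
  apply Cfsg.Agent.Lib.Helper3_Alperin.mem_normalizer_of_conj_le
  intro k hk z hz
  show (g⁻¹ * k * g).1 z = z
  rw [mul_apply', mul_apply']
  have h3 : ¬ p (g.1 z) := fun h4 => hz (h z h4)
  rw [hk _ h3]
  show (g.1)⁻¹ (g.1 z) = z
  simp

theorem exists_of_not_mem_normalizer (p : Fin n → Prop) (g : alternatingGroup (Fin n))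
    (hg : g ∉ Subgroup.normalizer (Sp p : Set (alternatingGroup (Fin n)))) :
    ∃ z, p (g.1 z) ∧ ¬ p z := by
  by_contra hcon
  push Not at hcon
  exact hg (mem_normalizer_Sp p g hcon)

end Cfsg.Agent.Lib.Helper3_AltStd
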