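import Mathlib
import Cfsg.Prelude.Def_Local
import Cfsg.Agent.S3747
import Cfsg.Agent.Lib.Helper3_Conj
import Cfsg.Agent.Lib.Helper3_Alperin
import Cfsg.Agent.Lib.Helper3_AltStd

set_option autoImplicit false

namespace Cfsg.Agent.Lib.Helper3_AltStd2
open Equiv Equiv.Perm Cfsg.Agent.Lib.Helper3_Conj Cfsg.Agent.Lib.Helper3_AltStd

variable {n : ℕ}

theorem rich_of_inj (p : Fin n → Prop) (f : Fin 4 → Fin n) (hf : Function.Injective f)
    (hp : ∀ i, p (f i)) : Rich p := by
  classical
  intro a b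
  have h1 : 2 ≤ ((Finset.univ.image f) \ {a, b}).card := by
    have h3 := Finset.le_card_sdiff ({a,b} : Finset (Fin n)) (Finset.univ.image f)
    rw [Finset.card_image_of_injective _ hf] at h3
    have h2 : ({a,b} : Finset (Fin n)).card ≤ 2 := Finset.card_le_two
    simp only [Finset.card_univ, Fintype.card_fin] at h3
    omega
  obtain ⟨c, hc, d, hd, hcd⟩ := Finset.one_lt_card.mp (by omega : 1 < ((Finset.univ.image f) \ {a, b}).card)
  simp only [Finset.mem_sdiff, Finset.mem_image, Finset.mem_univ, true_and, Finset.mem_insert,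
    Finset.mem_singleton, not_or] at hc hd
  obtain ⟨⟨i, rfl⟩, hca, hcb⟩ := hc
  obtain ⟨⟨j, rfl⟩, hda, hdb⟩ := hd
  exact ⟨f i, f j, hp i, hp j, hcd, hca, hcb, hda, hdb⟩

/-- the predicate "at least 4" -/
def P4 (n : ℕ) : Fin n → Prop := fun x => 4 ≤ x.val

theorem rich_P4 (hn : 9 ≤ n) : Rich (P4 n) := by
  apply rich_of_inj (P4 n) (fun i => ⟨i.val + 4, by omega⟩)
  · intro i j hij
    have := congrArg Fin.val hij
    simp only at this
    exact Fin.ext (by omega)
  · intro i
    show 4 ≤ i.val + 4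
    omega

theorem rich_not_P4 (h4 : 4 ≤ n) : Rich (fun x => ¬ P4 n x) := by
  apply rich_of_inj _ (Fin.castLE h4)
  · exact Fin.castLE_injective h4
  · intro i
    show ¬ (4 ≤ (Fin.castLE h4 i).val)
    simp

theorem iInf_stab_eq (h4 : 4 ≤ n) :
    (⨅ i : Fin 4, MulAction.stabilizer ↥(alternatingGroup (Fin n)) (Fin.castLE h4 i : Fin n))
      = Sp (P4 n) := by
  ext g
  rw [Subgroup.mem_iInf, mem_Sp]
  constructor
  · intro h x hx
    have hx' : x.val < 4 := by
      have : ¬ (4 ≤ x.val) := hx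
      omega
    have h1 := h ⟨x.val, hx'⟩
    rw [MulAction.mem_stabilizer_iff] at h1
    have he : Fin.castLE h4 ⟨x.val, hx'⟩ = x := Fin.ext rfl
    rw [he] at h1
    exact h1
  · intro h i
    rw [MulAction.mem_stabilizer_iff]
    apply h
    show ¬ (4 ≤ (Fin.castLE h4 i).val)
    simp

/-- general: the normalizer of `H` normalizes the centralizer of `H` -/
theorem normalizer_le_normalizer_centralizer {G : Type*} [Group G] [Finite G] (H : Subgroup G) :
    Subgroup.normalizer (H : Set G) ≤
      Subgroup.normalizer (Subgroup.centralizer (H : Set G) : Set G) := by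
  intro g hg
  apply Cfsg.Agent.Lib.Helper3_Alperin.mem_normalizer_of_conj_le
  intro k hk
  rw [Subgroup.mem_centralizer_iff] at hk ⊢
  intro l hl
  have h1 : g * l * g⁻¹ ∈ H := (Subgroup.mem_normalizer_iff.mp hg l).mp hl
  have h2 := hk _ h1
  calc l * (g⁻¹ * k * g) = g⁻¹ * ((g * l * g⁻¹) * k) * g := by group
    _ = g⁻¹ * (k * (g * l * g⁻¹)) * g := by rw [h2]
    _ = g⁻¹ * k * g * l := by group

theorem normalizer_eq (h4 : 4 ≤ n) (hn : 9 ≤ n) :
    Subgroup.normalizer (Sp (P4 n) : Set (alternatingGroup (Fin n))) =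
      Subgroup.normalizer (Subgroup.centralizer (Sp (P4 n) : Set (alternatingGroup (Fin n))) :
        Set (alternatingGroup (Fin n))) := by
  apply le_antisymm
  · exact normalizer_le_normalizer_centralizer _
  · have h1 := normalizer_le_normalizer_centralizer
      (Subgroup.centralizer (Sp (P4 n) : Set (alternatingGroup (Fin n))))
    have h2 : Subgroup.centralizer (Subgroup.centralizer (Sp (P4 n) :
        Set (alternatingGroup (Fin n))) : Set (alternatingGroup (Fin n))) = Sp (P4 n) := by
      rw [cent_Sp _ (rich_P4 hn), cent_Sp _ (rich_not_P4 h4), Sp_not_not]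
    rw [h2] at h1
    exact h1

end Cfsg.Agent.Lib.Helper3_AltStd2
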