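import Mathlib
import Cfsg.Prelude.Def_Local
import Cfsg.Agent.S3747
import Cfsg.Agent.Lib.Helper3_Conj
import Cfsg.Agent.Lib.Helper3_Alperin
import Cfsg.Agent.Lib.Helper3_AltStd
import Cfsg.Agent.Lib.Helper3_AltStd2

set_option autoImplicit false

namespace Cfsg.Agent.Lib.Helper3_AltStd3
open Equiv Equiv.Perm Cfsg.Agent.Lib.Helper3_Conj Cfsg.Agent.Lib.Helper3_AltStd
  Cfsg.Agent.Lib.Helper3_AltStd2

variable {n : ℕ}

theorem tc_apply_second (b c d : Fin n) (hbc : b ≠ c) (hcd : c ≠ d) (hbd : b ≠ d) :
    (tc b c d hbc hcd).1 c = d := by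
  show (swap b c * swap c d) c = d
  rw [Equiv.Perm.mul_apply, Equiv.swap_apply_left, Equiv.swap_apply_of_ne_of_ne hbd.symm hcd.symm]

section QS
variable (p : Fin n → Prop) [DecidablePred p]

/-- the hom from the alternating group on the subtype -/
noncomputable def phi : alternatingGroup {x // p x} →* alternatingGroup (Fin n) :=
  ((Equiv.Perm.ofSubtype : Perm {x // p x} →* Perm (Fin n)).comp
    (alternatingGroup {x // p x}).subtype).codRestrict (alternatingGroup (Fin n)) (by
    intro f
    rw [Equiv.Perm.mem_alternatingGroup]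
    simp only [MonoidHom.comp_apply, Subgroup.coe_subtype]
    rw [Equiv.Perm.sign_ofSubtype]
    exact Equiv.Perm.mem_alternatingGroup.mp f.2)

theorem phi_apply (f : alternatingGroup {x // p x}) :
    (phi p f).1 = Equiv.Perm.ofSubtype f.1 := rfl

/-- the hom onto `Sp p` -/
noncomputable def psi : alternatingGroup {x // p x} →* ↥(Sp p) :=
  (phi p).codRestrict (Sp p) (by
    intro f x hx
    rw [phi_apply]
    exact Equiv.Perm.ofSubtype_apply_of_not_mem _ hx)

theorem psi_surjective : Function.Surjective (psi p) := by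
  rintro ⟨g, hg⟩
  have h2 : ∀ x, g.1 x ≠ x → p x := by
    intro x hx
    by_contra hpx
    exact hx (hg x hpx)
  have h1 : ∀ x, p (g.1 x) ↔ p x := by
    intro x
    constructor
    · intro h
      by_contra hpx
      rw [hg x hpx] at h
      exact hpx h
    · intro h
      by_contra hpx
      have h3 := hg _ hpx
      have h4 := g.1.injective h3
      rw [h4] at hpx
      exact hpx h
  have hs : Equiv.Perm.subtypePerm g.1 h1 ∈ alternatingGroup {x // p x} := by
    rw [Equiv.Perm.mem_alternatingGroup, Equiv.Perm.sign_subtypePerm _ h1 h2]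
    exact Equiv.Perm.mem_alternatingGroup.mp g.2
  refine ⟨⟨_, hs⟩, ?_⟩
  apply Subtype.ext
  apply Subtype.ext
  show Equiv.Perm.ofSubtype (Equiv.Perm.subtypePerm g.1 h1) = g.1
  exact Equiv.Perm.ofSubtype_subtypePerm h1 h2

end QS

theorem quasisimple_Sp (hn : 9 ≤ n) : Cfsg.IsQuasisimple ↥(Sp (P4 n)) := by
  classical
  have hcard : 5 ≤ Nat.card {x : Fin n // P4 n x} := by
    have hinj : Function.Injective (fun i : Fin 5 => (⟨⟨i.val + 4, by omega⟩, by
        show 4 ≤ i.val + 4; omega⟩ : {x : Fin n // P4 n x})) := by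
      intro i j hij
      have h1 := congrArg (fun t : {x : Fin n // P4 n x} => t.1.val) hij
      simp only at h1
      exact Fin.ext (by omega)
    have := Nat.card_le_card_of_injective _ hinj
    simpa using this
  haveI := alternatingGroup.isSimpleGroup hcard
  -- witnesses
  let a : Fin n := ⟨4, by omega⟩
  let b : Fin n := ⟨5, by omega⟩
  let c : Fin n := ⟨6, by omega⟩
  let d : Fin n := ⟨7, by omega⟩
  have hab : a ≠ b := by intro h; have := congrArg Fin.val h; simp [a, b] at this
  have hac : a ≠ c := by intro h; have := congrArg Fin.val h; simp [a, c] at this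
  have had : a ≠ d := by intro h; have := congrArg Fin.val h; simp [a, d] at this
  have hbc : b ≠ c := by intro h; have := congrArg Fin.val h; simp [b, c] at this
  have hbd : b ≠ d := by intro h; have := congrArg Fin.val h; simp [b, d] at this
  have hcd : c ≠ d := by intro h; have := congrArg Fin.val h; simp [c, d] at this
  have pa : P4 n a := by show 4 ≤ 4; omega
  have pb : P4 n b := by show 4 ≤ 5; omega
  have pc : P4 n c := by show 4 ≤ 6; omega
  have pd : P4 n d := by show 4 ≤ 7; omega
  let s : ↥(Sp (P4 n)) := ⟨tc a b c hab hbc, tc_mem_Sp _ _ _ _ _ _ pa pb pc⟩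
  let t : ↥(Sp (P4 n)) := ⟨tc a b d hab hbd, tc_mem_Sp _ _ _ _ _ _ pa pb pd⟩
  have hst : s * t ≠ t * s := by
    intro h
    have h1 := congrArg (fun u : ↥(Sp (P4 n)) => u.1.1 a) h
    have e1 : (s * t).1.1 a = c := by
      show (tc a b c hab hbc).1 ((tc a b d hab hbd).1 a) = c
      rw [tc_apply_first _ _ _ _ _ had, tc_apply_second _ _ _ _ _ hac]
    have e2 : (t * s).1.1 a = d := by
      show (tc a b d hab hbd).1 ((tc a b c hab hbc).1 a) = d
      rw [tc_apply_first _ _ _ _ _ hac, tc_apply_second _ _ _ _ _ had]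
    change (s * t).1.1 a = (t * s).1.1 a at h1
    rw [e1, e2] at h1
    exact hcd h1
  haveI : Nontrivial ↥(Sp (P4 n)) := ⟨⟨s * t, t * s, hst⟩⟩
  haveI : IsSimpleGroup ↥(Sp (P4 n)) :=
    IsSimpleGroup.isSimpleGroup_of_surjective (psi (P4 n)) (psi_surjective (P4 n))
  exact Cfsg.Agent.S3747.quasisimple_of_simple ⟨s, t, hst⟩

/-- an even involution moves at least four points -/
theorem four_le_support (σ : Perm (Fin n)) (h2 : orderOf σ = 2) (hs : Equiv.Perm.sign σ = 1) :
    4 ≤ σ.support.card := by
  have hp : (orderOf σ).Prime := by rw [h2]; exact Nat.prime_two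
  obtain ⟨m, hm⟩ := Equiv.Perm.cycleType_prime_order hp
  rw [h2] at hm
  have h3 := Equiv.Perm.sign_of_cycleType σ
  rw [hm, hs] at h3
  simp only [Multiset.sum_replicate, Multiset.card_replicate, smul_eq_mul] at h3
  have h4 := Equiv.Perm.sum_cycleType σ
  rw [hm, Multiset.sum_replicate, smul_eq_mul] at h4
  by_contra hlt
  have hm0 : m = 0 := by omega
  subst hm0
  revert h3
  decide

end Cfsg.Agent.Lib.Helper3_AltStd3
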