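import Mathlib
import Cfsg.Prelude.Def_Local
import Cfsg.Agent.S3747
import Cfsg.Agent.Lib.Helper3_Conj
import Cfsg.Agent.Lib.Helper3_Alperin
import Cfsg.Agent.Lib.Helper3_AltStd
import Cfsg.Agent.Lib.Helper3_AltStd2
import Cfsg.Agent.Lib.Helper3_AltStd3

set_option autoImplicit false

namespace Cfsg.Agent.Lib.Helper3_AltStd4
open Equiv Equiv.Perm Cfsg.Agent.Lib.Helper3_Conj Cfsg.Agent.Lib.Helper3_AltStd
  Cfsg.Agent.Lib.Helper3_AltStd2 Cfsg.Agent.Lib.Helper3_AltStd3

variable {n : ℕ}

/-- a double transposition in the alternating group -/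
def dt (a b c d : Fin n) (hab : a ≠ b) (hcd : c ≠ d) : alternatingGroup (Fin n) :=
  ⟨swap a b * swap c d, by
    rw [Equiv.Perm.mem_alternatingGroup, Equiv.Perm.sign_mul, Equiv.Perm.sign_swap hab,
      Equiv.Perm.sign_swap hcd]; rfl⟩

theorem even_card_K (h4 : 4 ≤ n) :
    Even (Nat.card ↥(Sp (fun x : Fin n => ¬ P4 n x))) := by
  let a : Fin n := ⟨0, by omega⟩
  let b : Fin n := ⟨1, by omega⟩
  let c : Fin n := ⟨2, by omega⟩
  let d : Fin n := ⟨3, by omega⟩
  have hab : a ≠ b := by intro h; have := congrArg Fin.val h; simp [a, b] at this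
  have hac : a ≠ c := by intro h; have := congrArg Fin.val h; simp [a, c] at this
  have had : a ≠ d := by intro h; have := congrArg Fin.val h; simp [a, d] at this
  have hbc : b ≠ c := by intro h; have := congrArg Fin.val h; simp [b, c] at this
  have hbd : b ≠ d := by intro h; have := congrArg Fin.val h; simp [b, d] at this
  have hcd : c ≠ d := by intro h; have := congrArg Fin.val h; simp [c, d] at this
  have hmem : dt a b c d hab hcd ∈ Sp (fun x : Fin n => ¬ P4 n x) := by
    intro x hx
    have hx4 : 4 ≤ x.val := not_not.mp hx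
    show (swap a b * swap c d) x = x
    have hxa : x ≠ a := by intro h; have := congrArg Fin.val h; simp [a] at this; omega
    have hxb : x ≠ b := by intro h; have := congrArg Fin.val h; simp [b] at this; omega
    have hxc : x ≠ c := by intro h; have := congrArg Fin.val h; simp [c] at this; omega
    have hxd : x ≠ d := by intro h; have := congrArg Fin.val h; simp [d] at this; omega
    rw [Equiv.Perm.mul_apply, Equiv.swap_apply_of_ne_of_ne hxc hxd,
      Equiv.swap_apply_of_ne_of_ne hxa hxb]
  let t : ↥(Sp (fun x : Fin n => ¬ P4 n x)) := ⟨_, hmem⟩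
  have ht1 : t ≠ 1 := by
    intro h
    have h1 := congrArg (fun u : ↥(Sp (fun x : Fin n => ¬ P4 n x)) => u.1.1 a) h
    change (swap a b * swap c d) a = a at h1
    rw [Equiv.Perm.mul_apply, Equiv.swap_apply_of_ne_of_ne hac had, Equiv.swap_apply_left] at h1
    exact hab h1.symm
  have ht2 : t ^ 2 = 1 := by
    apply Subtype.ext
    apply Subtype.ext
    show (swap a b * swap c d) ^ 2 = 1
    have hdis : Equiv.Perm.Disjoint (swap a b) (swap c d) := by
      apply Equiv.Perm.disjoint_swap_swap
      simp [hab, hac, had, hbc, hbd, hcd]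
    rw [hdis.commute.mul_pow]
    simp [sq]
  have ho : orderOf t = 2 := orderOf_eq_prime ht2 ht1
  have := orderOf_dvd_natCard t
  rw [ho] at this
  exact even_iff_two_dvd.mpr this

theorem tight (h4 : 4 ≤ n) :
    Cfsg.IsTightlyEmbedded (Sp (fun x : Fin n => ¬ P4 n x)) := by
  classical
  refine ⟨even_card_K h4, ?_⟩
  intro g hg
  obtain ⟨z, hz1, hz2⟩ := exists_of_not_mem_normalizer _ g hg
  by_contra hodd
  rw [Nat.not_odd_iff_even] at hodd
  have hdvd := hodd.two_dvd
  haveI : Fact (Nat.Prime 2) := ⟨Nat.prime_two⟩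
  obtain ⟨x, hx⟩ := exists_prime_orderOf_dvd_card' 2 hdvd
  have hxK : x.1 ∈ Sp (fun x : Fin n => ¬ P4 n x) := x.2.1
  have hxKg : x.1 ∈ (Sp (fun x : Fin n => ¬ P4 n x)).map (MulAut.conj g).toMonoidHom := x.2.2
  rw [mem_map_conj] at hxKg
  have hσ2 : orderOf x.1.1 = 2 := by
    rw [← hx, Subgroup.orderOf_coe, Subgroup.orderOf_coe]
  have hσs : Equiv.Perm.sign x.1.1 = 1 := Equiv.Perm.mem_alternatingGroup.mp x.1.2
  have h4s := four_le_support x.1.1 hσ2 hσs
  have hgz : (g.1 z).val < 4 := by
    have : ¬ (4 ≤ (g.1 z).val) := hz1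
    omega
  have hgzmem : g.1 z ∈ Finset.univ.image (Fin.castLE h4) := by
    rw [Finset.mem_image]
    exact ⟨⟨(g.1 z).val, hgz⟩, Finset.mem_univ _, Fin.ext rfl⟩
  have hsupp : x.1.1.support ⊆ (Finset.univ.image (Fin.castLE h4)).erase (g.1 z) := by
    intro y hy
    rw [Equiv.Perm.mem_support] at hy
    rw [Finset.mem_erase]
    constructor
    · rintro rfl
      apply hy
      have h1 := hxKg z hz2
      rw [mul_apply', mul_apply'] at h1
      have h2 := congrArg g.1 h1
      change g.1 ((g.1)⁻¹ (x.1.1 (g.1 z))) = g.1 z at h2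
      simpa using h2
    · rw [Finset.mem_image]
      have hy4 : y.val < 4 := by
        by_contra hge
        apply hy
        apply hxK y
        intro h5
        apply h5
        show 4 ≤ y.val
        omega
      exact ⟨⟨y.val, hy4⟩, Finset.mem_univ _, Fin.ext rfl⟩
  have hc1 := Finset.card_le_card hsupp
  rw [Finset.card_erase_of_mem hgzmem] at hc1
  have hc2 : (Finset.univ.image (Fin.castLE h4 : Fin 4 → Fin n)).card ≤ 4 := by
    have := Finset.card_image_le (s := (Finset.univ : Finset (Fin 4))) (f := Fin.castLE h4)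
    simpa using this
  omega

end Cfsg.Agent.Lib.Helper3_AltStd4
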