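import Mathlib
import Cfsg.Prelude.Def_Local
import Cfsg.Agent.S3747
import Cfsg.Agent.Lib.Helper3_Conj
import Cfsg.Agent.Lib.Helper3_Alperin
import Cfsg.Agent.Lib.Helper3_AltStd
import Cfsg.Agent.Lib.Helper3_AltStd2
import Cfsg.Agent.Lib.Helper3_AltStd3
import Cfsg.Agent.Lib.Helper3_AltStd4

set_option autoImplicit false

namespace Cfsg.Agent.Lib.Helper3_AltStd5
open Equiv Equiv.Perm Cfsg.Agent.Lib.Helper3_Conj Cfsg.Agent.Lib.Helper3_AltStd
  Cfsg.Agent.Lib.Helper3_AltStd2 Cfsg.Agent.Lib.Helper3_AltStd3 Cfsg.Agent.Lib.Helper3_AltStd4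

open scoped commutatorElement

variable {n : ℕ}

theorem inv_apply_apply' (g : alternatingGroup (Fin n)) (x : Fin n) :
    (g⁻¹).1 (g.1 x) = x := by
  show (g.1)⁻¹ (g.1 x) = x
  simp

theorem noncomm (hn : 9 ≤ n) (g : alternatingGroup (Fin n))
    (hg : (Sp (P4 n)).map (MulAut.conj g).toMonoidHom ≠ Sp (P4 n)) :
    ⁅Sp (P4 n), (Sp (P4 n)).map (MulAut.conj g).toMonoidHom⁆ ≠ ⊥ := by
  classical
  have hgN : g ∉ Subgroup.normalizer (Sp (P4 n) : Set (alternatingGroup (Fin n))) := by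
    intro h
    exact hg (map_conj_eq_self_of_mem_normalizer _ _ h)
  obtain ⟨z, hz1, hz2⟩ := exists_of_not_mem_normalizer _ g hgN
  have hc : ∃ c, P4 n c ∧ P4 n ((g⁻¹).1 c) := by
    by_contra hcon
    push Not at hcon
    have hlt : ∀ i : Fin 5, ((g⁻¹).1 (⟨i.val + 4, by omega⟩ : Fin n)).val < 4 := by
      intro i
      have h' : ¬ (4 ≤ ((g⁻¹).1 (⟨i.val + 4, by omega⟩ : Fin n)).val) :=
        hcon ⟨i.val+4, by omega⟩ (by show 4 ≤ i.val + 4; omega)
      omega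
    have hinj : Function.Injective
        (fun i : Fin 5 => (⟨((g⁻¹).1 (⟨i.val + 4, by omega⟩ : Fin n)).val, hlt i⟩ : Fin 4)) := by
      intro i j hij
      have h1 := congrArg Fin.val hij
      simp only at h1
      have h2 := (g⁻¹).1.injective (Fin.ext h1)
      have h3 := congrArg Fin.val h2
      simp only at h3
      exact Fin.ext (by omega)
    have := Fintype.card_le_of_injective _ hinj
    simp at this
  obtain ⟨c, hc1, hc2⟩ := hc
  have hcy : c ≠ g.1 z := by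
    rintro rfl
    apply hz2
    rw [inv_apply_apply'] at hc2
    exact hc2
  obtain ⟨d, _, hd, _, _, hdy, hdc, _, _⟩ := rich_P4 hn (g.1 z) c
  obtain ⟨e, f, he, hf, hef, hec, _, hfc, _⟩ := rich_P4 hn ((g⁻¹).1 c) ((g⁻¹).1 c)
  have hσ : tc (g.1 z) c d hcy.symm hdc.symm ∈ Sp (P4 n) := tc_mem_Sp _ _ _ _ _ _ hz1 hc1 hd
  have hτ0 : tc ((g⁻¹).1 c) e f hec.symm hef ∈ Sp (P4 n) := tc_mem_Sp _ _ _ _ _ _ hc2 he hf
  have hτ : g * tc ((g⁻¹).1 c) e f hec.symm hef * g⁻¹ ∈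
      (Sp (P4 n)).map (MulAut.conj g).toMonoidHom := by
    rw [mem_map_conj]
    have : g⁻¹ * (g * tc ((g⁻¹).1 c) e f hec.symm hef * g⁻¹) * g
        = tc ((g⁻¹).1 c) e f hec.symm hef := by group
    rw [this]; exact hτ0
  intro hbot
  have hcomm : ⁅tc (g.1 z) c d hcy.symm hdc.symm,
      g * tc ((g⁻¹).1 c) e f hec.symm hef * g⁻¹⁆ = 1 := by
    have := Subgroup.commutator_mem_commutator hσ hτ
    rw [hbot, Subgroup.mem_bot] at this
    exact this
  rw [commutatorElement_eq_one_iff_mul_comm] at hcomm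
  have h1 := congrArg (fun u : alternatingGroup (Fin n) => u.1 (g.1 z)) hcomm
  simp only [mul_apply'] at h1
  rw [inv_apply_apply', hτ0 z hz2, tc_apply_first _ _ _ _ _ hdy.symm,
    tc_apply_first _ _ _ _ _ hfc.symm] at h1
  -- h1 : c = g e
  apply hec
  have h2 := inv_apply_apply' g e
  rw [← h1] at h2
  exact h2.symm

theorem standard (h4 : 4 ≤ n) (hn : 9 ≤ n) : Cfsg.IsStandardSubgroup (Sp (P4 n)) := by
  refine ⟨quasisimple_Sp hn, ?_, noncomm hn, normalizer_eq h4 hn⟩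
  rw [cent_Sp _ (rich_P4 hn)]
  exact tight h4

end Cfsg.Agent.Lib.Helper3_AltStd5
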