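import Mathlib

/-!
Coprime action lemmas: a `p`-group `P` normalizing a `p'`-group `Q`, both acting on a `p`-group
`H` of class at most two (`p` odd), with `C_H(P) ≤ C_H(Q)`, forces `Q` to act trivially.
The class two case is reduced to the abelian case by the Baer trick.
-/

namespace Cfsg.Agent.Lib.Helper3_BaerTrick

/-- the abelian case. -/
theorem abelian_case {A K : Type*} [CommGroup A] [Finite A] [Group K] [MulDistribMulAction K A]
    {p : ℕ} [Fact p.Prime] (hA : IsPGroup p A) (P Q : Subgroup K) [Finite Q] (hP : IsPGroup p P)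
    (hQ : (Nat.card Q).Coprime p) (hPQ : ∀ a ∈ P, ∀ q ∈ Q, a * q * a⁻¹ ∈ Q)
    (hC : ∀ x : A, (∀ a ∈ P, a • x = x) → ∀ q ∈ Q, q • x = x) :
    ∀ q ∈ Q, ∀ x : A, q • x = x := by
  classical
  haveI := Fintype.ofFinite Q
  let S : Set A := {y | ∃ q ∈ Q, ∃ x : A, y = x⁻¹ * q • x}
  let B : Subgroup A := Subgroup.closure S
  have hinv : ∀ a ∈ P, ∀ b ∈ B, a • b ∈ B := by
    intro a ha b hb
    induction hb using Subgroup.closure_induction with
    | mem y hy =>
      obtain ⟨q, hq, x, rfl⟩ := hy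
      apply Subgroup.subset_closure
      refine ⟨a * q * a⁻¹, hPQ a ha q hq, a • x, ?_⟩
      rw [smul_mul', smul_inv', mul_smul, mul_smul, inv_smul_smul]
    | one => rw [smul_one]; exact B.one_mem
    | mul x y _ _ hx hy => rw [smul_mul']; exact B.mul_mem hx hy
    | inv x _ hx => rw [smul_inv']; exact B.inv_mem hx
  let N : A →* A :=
    { toFun := fun x => ∏ q : Q, (q : K) • x
      map_one' := by simp
      map_mul' := by intro x y; simp [smul_mul', Finset.prod_mul_distrib] }
  have hN : ∀ x, N x = ∏ q : Q, (q : K) • x := fun x => rfl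
  have hNq : ∀ q₀ ∈ Q, ∀ x, N (q₀ • x) = N x := by
    intro q₀ hq₀ x
    rw [hN, hN]
    refine Fintype.prod_equiv (Equiv.mulRight (⟨q₀, hq₀⟩ : Q)) _ _ ?_
    intro q
    show (q : K) • q₀ • x = (((q * ⟨q₀, hq₀⟩ : Q)) : K) • x
    rw [Subgroup.coe_mul, mul_smul]
  have hBN : ∀ b ∈ B, N b = 1 := by
    intro b hb
    induction hb using Subgroup.closure_induction with
    | mem y hy =>
      obtain ⟨q, hq, x, rfl⟩ := hy
      rw [map_mul, map_inv, hNq q hq, inv_mul_cancel]
    | one => exact map_one N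
    | mul x y _ _ hx hy => rw [map_mul, hx, hy, one_mul]
    | inv x _ hx => rw [map_inv, hx, inv_one]
  by_cases hB : B = ⊥
  · intro q hq x
    have : x⁻¹ * q • x ∈ B := Subgroup.subset_closure ⟨q, hq, x, rfl⟩
    rw [hB, Subgroup.mem_bot] at this
    exact (inv_mul_eq_one.mp this).symm
  · exfalso
    letI : MulAction P B :=
      { smul := fun a b => ⟨(a : K) • (b : A), hinv a a.2 b b.2⟩
        one_smul := fun b => Subtype.ext (one_smul K (b : A))
        mul_smul := fun a a' b => Subtype.ext (mul_smul (a : K) (a' : K) (b : A)) }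
    have hBp : IsPGroup p B := hA.to_subgroup B
    have hcard : p ∣ Nat.card B := by
      rcases hBp.card_eq_or_dvd with h | h
      · exact absurd (Subgroup.card_eq_one.mp h) hB
      · exact h
    have hfix : (1 : B) ∈ MulAction.fixedPoints P B := fun a => Subtype.ext (smul_one (a : K))
    obtain ⟨b, hb, hb1⟩ := hP.exists_fixed_point_of_prime_dvd_card_of_fixed_point B hcard hfix
    have hbP : ∀ a ∈ P, a • (b : A) = b := by
      intro a ha
      exact congrArg Subtype.val (hb ⟨a, ha⟩)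
    have hbQ := hC _ hbP
    have h1 : N (b : A) = (b : A) ^ Nat.card Q := by
      rw [hN]
      rw [Finset.prod_congr rfl (fun (q : Q) _ => hbQ (q : K) q.2), Finset.prod_const, Finset.card_univ,
        Nat.card_eq_fintype_card]
    have h2 : (b : A) ^ Nat.card Q = 1 := by rw [← h1]; exact hBN b b.2
    obtain ⟨k, hk⟩ := hA (b : A)
    have h3 : orderOf (b : A) ∣ Nat.card Q := orderOf_dvd_of_pow_eq_one h2
    have h4 : orderOf (b : A) ∣ p ^ k := orderOf_dvd_of_pow_eq_one hk
    have h5 : orderOf (b : A) ∣ 1 := by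
      have hcop : (Nat.card Q).Coprime (p ^ k) := hQ.pow_right k
      exact hcop ▸ Nat.dvd_gcd h3 h4
    have h6 : (b : A) = 1 := orderOf_eq_one_iff.mp (Nat.dvd_one.mp h5)
    exact hb1 (Subtype.ext h6.symm)


open scoped commutatorElement

section baer

variable {H : Type*} [Group H]

/-- type synonym carrying the Baer group structure. -/
def Baer (H : Type*) := H

/-- the Baer product. -/
def bop (h : ℕ) (x y : H) : H := x * y * ⁅y, x⁆ ^ h

/-- central elements. -/
def Cen (c : H) : Prop := ∀ g : H, Commute c g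

theorem Cen.pow {c : H} (hc : Cen c) (n : ℕ) : Cen (c ^ n) := fun g => (hc g).pow_left n

theorem Cen.mul {c d : H} (hc : Cen c) (hd : Cen d) : Cen (c * d) := fun g => (hc g).mul_left (hd g)

theorem Cen.key1 {c : H} (hc : Cen c) (x y : H) : x * c * y = x * y * c := by
  rw [mul_assoc, (hc y).eq, ← mul_assoc]

variable (hc : ∀ a b c : H, Commute ⁅a, b⁆ c)
include hc

theorem cen_comm (a b : H) : Cen ⁅a, b⁆ := fun g => hc a b g

theorem comm_mul_left (x y z : H) : ⁅x * y, z⁆ = ⁅x, z⁆ * ⁅y, z⁆ := by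
  have h1 := (hc y z x).eq
  have e : ⁅x * y, z⁆ = x * ⁅y, z⁆ * x⁻¹ * ⁅x, z⁆ := by
    simp only [commutatorElement_def]; group
  rw [e, ← h1, mul_inv_cancel_right, (hc y z _).eq]

theorem comm_mul_right (x y z : H) : ⁅x, y * z⁆ = ⁅x, y⁆ * ⁅x, z⁆ := by
  rw [← commutatorElement_inv, comm_mul_left hc, mul_inv_rev, commutatorElement_inv,
    commutatorElement_inv, (hc x z _).eq]

omit hc in
theorem Cen.comm_right {c : H} (h : Cen c) (x : H) : ⁅x, c⁆ = 1 :=
  commutatorElement_eq_one_iff_commute.mpr (h x).symm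

omit hc in
theorem Cen.comm_left {c : H} (h : Cen c) (x : H) : ⁅c, x⁆ = 1 :=
  commutatorElement_eq_one_iff_commute.mpr (h x)

theorem key2 {c : H} (h : Cen c) (x y : H) : ⁅x * c, y⁆ = ⁅x, y⁆ := by
  rw [comm_mul_left hc, h.comm_left, mul_one]

theorem key3 {c : H} (h : Cen c) (x y : H) : ⁅y, x * c⁆ = ⁅y, x⁆ := by
  rw [comm_mul_right hc, h.comm_right, mul_one]

theorem bop_assoc (h : ℕ) (x y z : H) : bop h (bop h x y) z = bop h x (bop h y z) := by
  unfold bop
  have ca : Cen (⁅y, x⁆ ^ h) := (cen_comm hc y x).pow h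
  have cb : Cen (⁅z, x⁆ ^ h) := (cen_comm hc z x).pow h
  have cc : Cen (⁅z, y⁆ ^ h) := (cen_comm hc z y).pow h
  rw [key3 hc ca, key2 hc cc, comm_mul_right hc, comm_mul_left hc, (hc z x ⁅z, y⁆).mul_pow,
    (hc y x ⁅z, x⁆).mul_pow]
  set a := ⁅y, x⁆ ^ h
  set b := ⁅z, x⁆ ^ h
  set c := ⁅z, y⁆ ^ h
  calc x * y * a * z * (b * c) = x * y * z * a * (b * c) := by rw [ca.key1]
    _ = x * y * z * ((a * b) * c) := by simp only [mul_assoc]
    _ = x * y * z * (c * (a * b)) := by rw [(cc (a * b)).eq]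
    _ = x * (y * z * c) * (a * b) := by simp only [mul_assoc]

theorem bop_comm (h : ℕ) (hh : ∀ x : H, x ^ (2 * h) = x) (x y : H) : bop h x y = bop h y x := by
  unfold bop
  have hcc : Cen ⁅x, y⁆ := cen_comm hc x y
  have e1 : x * y = ⁅x, y⁆ * (y * x) := by rw [commutatorElement_def]; group
  have e2 : ⁅x, y⁆ * (⁅x, y⁆⁻¹) ^ h = ⁅x, y⁆ ^ h := by
    have t := hh ⁅x, y⁆
    rw [two_mul, pow_add] at t
    calc ⁅x, y⁆ * (⁅x, y⁆⁻¹) ^ h = (⁅x, y⁆ ^ h * ⁅x, y⁆ ^ h) * (⁅x, y⁆ ^ h)⁻¹ := by
          rw [t, inv_pow]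
      _ = ⁅x, y⁆ ^ h := mul_inv_cancel_right _ _
  rw [← commutatorElement_inv x y, e1, (hcc (y * x)).eq, mul_assoc, e2]

omit hc in
theorem bop_one_left (h : ℕ) (x : H) : bop h 1 x = x := by
  unfold bop; rw [commutatorElement_one_right, one_pow, one_mul, mul_one]

omit hc in
theorem bop_one_right (h : ℕ) (x : H) : bop h x 1 = x := by
  unfold bop; rw [commutatorElement_one_left, one_pow, mul_one, mul_one]

omit hc in
theorem bop_inv_left (h : ℕ) (x : H) : bop h x⁻¹ x = 1 := by
  unfold bop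
  have : ⁅x, x⁻¹⁆ = 1 := by rw [commutatorElement_def]; group
  rw [this, one_pow, inv_mul_cancel, one_mul]

omit hc in
theorem smul_bop {K : Type*} [Group K] [MulDistribMulAction K H] (h : ℕ) (a : K) (x y : H) :
    a • bop h x y = bop h (a • x) (a • y) := by
  unfold bop
  simp only [commutatorElement_def, smul_mul', smul_pow', smul_inv']

/-- the Baer group structure. -/
@[reducible] def baerCommGroup (h : ℕ) (hh : ∀ x : H, x ^ (2 * h) = x) : CommGroup (Baer H) :=
  { mul := fun x y => @bop H _ h x y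
    one := (1 : H)
    inv := fun x => @Inv.inv H _ x
    mul_assoc := fun x y z => @bop_assoc H _ hc h x y z
    one_mul := fun x => @bop_one_left H _ h x
    mul_one := fun x => @bop_one_right H _ h x
    inv_mul_cancel := fun x => @bop_inv_left H _ h x
    mul_comm := fun x y => @bop_comm H _ hc h hh x y }

end baer

/-- the class two case, by the Baer trick. -/
theorem class_two_case {H K : Type*} [Group H] [Finite H] [Group K] [MulDistribMulAction K H]
    {p : ℕ} [Fact p.Prime] (hp : p ≠ 2) (hH : IsPGroup p H)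
    (hc : ∀ a b c : H, Commute ⁅a, b⁆ c)
    (P Q : Subgroup K) [Finite Q] (hP : IsPGroup p P) (hQ : (Nat.card Q).Coprime p)
    (hPQ : ∀ a ∈ P, ∀ q ∈ Q, a * q * a⁻¹ ∈ Q)
    (hC : ∀ x : H, (∀ a ∈ P, a • x = x) → ∀ q ∈ Q, q • x = x) :
    ∀ q ∈ Q, ∀ x : H, q • x = x := by
  obtain ⟨k, hk⟩ := IsPGroup.iff_card.mp hH
  have hodd : Odd (Nat.card H) := by
    rw [hk]; exact ((Fact.out : p.Prime).odd_of_ne_two hp).pow
  obtain ⟨m, hm⟩ := hodd
  have hh : ∀ x : H, x ^ (2 * (m + 1)) = x := by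
    intro x
    have : 2 * (m + 1) = Nat.card H + 1 := by omega
    rw [this, pow_succ, pow_card_eq_one', one_mul]
  letI : CommGroup (Baer H) := baerCommGroup hc (m + 1) hh
  letI : MulDistribMulAction K (Baer H) :=
    { smul := fun a x => @HSMul.hSMul K H H _ a x
      one_smul := fun x => @one_smul K H _ _ x
      mul_smul := fun a b x => @mul_smul K H _ _ a b x
      smul_mul := fun a x y => @smul_bop H _ K _ _ (m + 1) a x y
      smul_one := fun a => @smul_one K H _ _ _ a }
  haveI : Finite (Baer H) := inferInstanceAs (Finite H)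
  have hA : IsPGroup p (Baer H) := IsPGroup.of_card (n := k) hk
  exact abelian_case (A := Baer H) hA P Q hP hQ hPQ hC

end Cfsg.Agent.Lib.Helper3_BaerTrick
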