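import Mathlib
import Cfsg.Prelude.Def_Local
import Cfsg.Agent.Lib.Helper3_Conj
import Cfsg.Agent.Lib.Helper3_SylowRel
import Cfsg.Agent.Lib.Helper3_Alperin

set_option autoImplicit false

namespace Cfsg.Agent.Lib.Helper3_Tight
open Cfsg Cfsg.Agent.Lib.Helper3_Conj Cfsg.Agent.Lib.Helper3_SylowRel

variable {G : Type*} [Group G]

local notation:max "cj(" x ", " H ")" => Subgroup.map (MulEquiv.toMonoidHom (MulAut.conj x)) H
local notation:max "Nz(" H ")" => Subgroup.normalizer (SetLike.coe H)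

theorem card_cj (x : G) (H : Subgroup G) : Nat.card cj(x, H) = Nat.card H :=
  Subgroup.card_map_of_injective (MulAut.conj x).injective

theorem cj_inf (x : G) (H K : Subgroup G) : cj(x, H ⊓ K) = cj(x, H) ⊓ cj(x, K) :=
  Subgroup.map_inf H K _ (MulAut.conj x).injective

theorem cj_inv_cj (x : G) (H : Subgroup G) : cj(x⁻¹, cj(x, H)) = H := by
  rw [map_conj_map_conj, inv_mul_cancel, map_conj_one]

theorem cj_cj_inv (x : G) (H : Subgroup G) : cj(x, cj(x⁻¹, H)) = H := by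
  rw [map_conj_map_conj, mul_inv_cancel, map_conj_one]

theorem cj_isPGroup {p : ℕ} (x : G) (H : Subgroup G) (h : IsPGroup p H) : IsPGroup p cj(x, H) :=
  h.map _

theorem cj_ne_bot (x : G) (H : Subgroup G) (h : H ≠ ⊥) : cj(x, H) ≠ ⊥ := by
  intro h2
  apply h
  have h3 : cj(x⁻¹, cj(x, H)) = cj(x⁻¹, ⊥) := by rw [h2]
  rwa [cj_inv_cj, Subgroup.map_bot] at h3

theorem cj_eq_of_le [Finite G] (x : G) (H : Subgroup G) (h : cj(x, H) ≤ H) : cj(x, H) = H :=
  Subgroup.eq_of_le_of_card_ge h (le_of_eq (card_cj x H).symm)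

theorem eq_bot_of_odd [Finite G] (P H : Subgroup G) (hP : IsPGroup 2 P) (hPH : P ≤ H)
    (hodd : Odd (Nat.card H)) : P = ⊥ := by
  haveI : Fact (Nat.Prime 2) := ⟨Nat.prime_two⟩
  obtain ⟨k, hk⟩ := IsPGroup.iff_card.mp hP
  have hdvd : Nat.card P ∣ Nat.card H := Subgroup.card_dvd_of_le hPH
  rw [hk] at hdvd
  have hk0 : k = 0 := by
    by_contra hk0
    have : 2 ∣ Nat.card H := dvd_trans (dvd_pow_self 2 hk0) hdvd
    exact (Nat.not_even_iff_odd.mpr hodd) (even_iff_two_dvd.mpr this)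
  rw [hk0, pow_zero] at hk
  exact Subgroup.card_eq_one.mp hk

theorem ti [Finite G] (Q : Subgroup G) (hQ : IsTightlyEmbedded Q) (a b : G) (P : Subgroup G)
    (hP : IsPGroup 2 P) (hP1 : P ≠ ⊥) (hPa : P ≤ cj(a, Q)) (hPb : P ≤ cj(b, Q)) :
    cj(a, Q) = cj(b, Q) := by
  by_contra hne
  have hn : a⁻¹ * b ∉ Subgroup.normalizer (Q : Set G) := by
    intro h
    apply hne
    have h1 := map_conj_eq_self_of_mem_normalizer Q _ h
    have h2 : cj(a, cj(a⁻¹ * b, Q)) = cj(b, Q) := by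
      rw [map_conj_map_conj, mul_inv_cancel_left]
    rw [h1] at h2
    exact h2
  have hodd := hQ.2 _ hn
  have h1 : cj(a⁻¹, P) ≤ Q ⊓ cj(a⁻¹ * b, Q) := by
    apply le_inf
    · have := Subgroup.map_mono (f := (MulAut.conj a⁻¹).toMonoidHom) hPa
      rwa [cj_inv_cj] at this
    · have := Subgroup.map_mono (f := (MulAut.conj a⁻¹).toMonoidHom) hPb
      rwa [map_conj_map_conj] at this
  have h2 := eq_bot_of_odd _ _ (cj_isPGroup a⁻¹ P hP) h1 hodd
  exact cj_ne_bot _ _ hP1 h2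

theorem mem_sup_of_le_normalizer (Q T : Subgroup G) (hT : T ≤ Subgroup.normalizer (Q : Set G))
    (y : G) (hy : y ∈ Q ⊔ T) : ∃ q ∈ Q, ∃ t ∈ T, y = q * t := by
  rw [Subgroup.sup_eq_closure] at hy
  induction hy using Subgroup.closure_induction with
  | mem x hx =>
    rcases hx with hx | hx
    · exact ⟨x, hx, 1, T.one_mem, by simp⟩
    · exact ⟨1, Q.one_mem, x, hx, by simp⟩
  | one => exact ⟨1, Q.one_mem, 1, T.one_mem, by simp⟩
  | mul x y _ _ hx hy =>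
    obtain ⟨q, hq, t, ht, rfl⟩ := hx
    obtain ⟨q', hq', t', ht', rfl⟩ := hy
    refine ⟨q * (t * q' * t⁻¹), Q.mul_mem hq ?_, t * t', T.mul_mem ht ht', by group⟩
    exact ((Subgroup.mem_normalizer_iff.mp (hT ht)) q').mp hq'
  | inv x _ hx =>
    obtain ⟨q, hq, t, ht, rfl⟩ := hx
    refine ⟨t⁻¹ * q⁻¹ * t⁻¹⁻¹, ?_, t⁻¹, T.inv_mem ht, by group⟩
    exact ((Subgroup.mem_normalizer_iff.mp (hT (T.inv_mem ht))) q⁻¹).mp (Q.inv_mem hq)

theorem card_mul_le [Finite G] (A B C : Subgroup G) (hA : A ≤ C) (hB : B ≤ C) (h : A ⊓ B = ⊥) :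
    Nat.card A * Nat.card B ≤ Nat.card C := by
  rw [← Nat.card_prod]
  apply Nat.card_le_card_of_injective
    (fun p : A × B => (⟨p.1 * p.2, C.mul_mem (hA p.1.2) (hB p.2.2)⟩ : C))
  rintro ⟨a, b⟩ ⟨a', b'⟩ hab
  have hab' : (a : G) * b = a' * b' := congrArg Subtype.val hab
  have h1 : (a' : G)⁻¹ * a = b' * (b : G)⁻¹ := by
    calc (a' : G)⁻¹ * a = (a' : G)⁻¹ * (a * b) * (b : G)⁻¹ := by group
      _ = (a' : G)⁻¹ * (a' * b') * (b : G)⁻¹ := by rw [hab']
      _ = b' * (b : G)⁻¹ := by group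
  have h2 : (a' : G)⁻¹ * a ∈ A ⊓ B :=
    ⟨A.mul_mem (A.inv_mem a'.2) a.2, by rw [h1]; exact B.mul_mem b'.2 (B.inv_mem b.2)⟩
  rw [h, Subgroup.mem_bot] at h2
  have ha : (a : G) = a' := (inv_mul_eq_one.mp h2).symm
  have hb : (b : G) = b' := by
    rw [ha] at hab'
    exact mul_left_cancel hab'
  exact Prod.ext (Subtype.ext ha) (Subtype.ext hb)

theorem card_le_mul [Finite G] (A B C : Subgroup G)
    (h : ∀ c ∈ C, ∃ a ∈ A, ∃ b ∈ B, c = a * b) : Nat.card C ≤ Nat.card A * Nat.card B := by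
  rw [← Nat.card_prod]
  choose! fa hfa fb hfb hc using h
  apply Nat.card_le_card_of_injective
    (fun c : C => ((⟨fa c, hfa c c.2⟩ : A), (⟨fb c, hfb c c.2⟩ : B)))
  intro c c' hcc
  have h1 : fa c = fa c' := congrArg (fun p : A × B => (p.1 : G)) hcc
  have h2 : fb c = fb c' := congrArg (fun p : A × B => (p.2 : G)) hcc
  apply Subtype.ext
  rw [hc c c.2, hc c' c'.2, h1, h2]

theorem card_mul_relIndex (T H : Subgroup G) (hTH : T ≤ H) :
    Nat.card T * T.relIndex H = Nat.card H := by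
  have h1 := (T.subgroupOf H).card_mul_index
  rw [Nat.card_congr (Subgroup.subgroupOfEquivOfLe hTH).toEquiv] at h1
  exact h1

theorem syl_card_dvd [Finite G] (T H P : Subgroup G) (hTH : T ≤ H) (hT : IsPGroup 2 T)
    (hT2 : ¬ 2 ∣ T.relIndex H) (hPH : P ≤ H) (hP : IsPGroup 2 P) : Nat.card P ∣ Nat.card T := by
  haveI : Fact (Nat.Prime 2) := ⟨Nat.prime_two⟩
  obtain ⟨n, _, hn⟩ := exists_conj_le_of_relIndex H T P hTH hT hT2 hPH hP
  have h1 : cj(n, P) ≤ T := by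
    intro y hy
    rw [mem_map_conj] at hy
    have := hn _ hy
    have e : n * (n⁻¹ * y * n) * n⁻¹ = y := by group
    rwa [e] at this
  have := Subgroup.card_dvd_of_le h1
  rwa [card_cj] at this

theorem syl_max [Finite G] (T H P : Subgroup G) (hTH : T ≤ H) (hT : IsPGroup 2 T)
    (hT2 : ¬ 2 ∣ T.relIndex H) (hTP : T ≤ P) (hPH : P ≤ H) (hP : IsPGroup 2 P) : T = P :=
  Subgroup.eq_of_le_of_card_ge hTP
    (Nat.le_of_dvd Nat.card_pos (syl_card_dvd T H P hTH hT hT2 hPH hP))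

theorem exists_syl [Finite G] (H P : Subgroup G) (hPH : P ≤ H) (hP : IsPGroup 2 P) :
    ∃ P' : Subgroup G, P ≤ P' ∧ P' ≤ H ∧ IsPGroup 2 P' ∧ ¬ 2 ∣ P'.relIndex H := by
  haveI : Fact (Nat.Prime 2) := ⟨Nat.prime_two⟩
  have hP' : IsPGroup 2 ↥(P.subgroupOf H) :=
    hP.comap_of_injective H.subtype (Subgroup.subtype_injective H)
  obtain ⟨S, hS⟩ := hP'.exists_le_sylow
  refine ⟨(S : Subgroup H).map H.subtype, ?_, Subgroup.map_subtype_le _, S.isPGroup'.map _, ?_⟩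
  · intro y hy
    exact ⟨⟨y, hPH hy⟩, hS (Subgroup.mem_subgroupOf.mpr hy), rfl⟩
  · have h1 : ((S : Subgroup H).map H.subtype).subgroupOf H = (S : Subgroup H) := by
      ext y
      rw [Subgroup.mem_subgroupOf]
      constructor
      · rintro ⟨z, hz, hzy⟩
        have : z = y := Subtype.ext hzy
        rwa [← this]
      · intro hy
        exact ⟨y, hy, rfl⟩
    show ¬ 2 ∣ (((S : Subgroup H).map H.subtype).subgroupOf H).index
    rw [h1]
    exact S.not_dvd_index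

theorem compl_iso {Y : Type*} [Group Y] (N H₁ H₂ : Subgroup Y) [N.Normal] (h1 : N ⊓ H₁ = ⊥)
    (h2 : N ⊓ H₂ = ⊥) (h : H₁ ⊔ N = H₂ ⊔ N) : Nonempty (H₁ ≃* H₂) := by
  have e1 := QuotientGroup.quotientInfEquivProdNormalQuotient H₁ N
  have e2 := QuotientGroup.quotientInfEquivProdNormalQuotient H₂ N
  rw [← h] at e2
  have b1 : N.subgroupOf H₁ = ⊥ := by
    rw [Subgroup.subgroupOf_eq_bot, disjoint_iff]; exact h1
  have b2 : N.subgroupOf H₂ = ⊥ := by
    rw [Subgroup.subgroupOf_eq_bot, disjoint_iff]; exact h2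
  exact ⟨(QuotientGroup.quotientBot.symm.trans (QuotientGroup.quotientMulEquivOfEq b1.symm)).trans
    (e1.trans (e2.symm.trans ((QuotientGroup.quotientMulEquivOfEq b2).trans
      QuotientGroup.quotientBot)))⟩

end Cfsg.Agent.Lib.Helper3_Tight
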