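import Mathlib
import Cfsg.Prelude.Def_Local
import Cfsg.Agent.S1754

/-! Transport of the cores, the layer and the (generalized) Fitting subgroup along group
isomorphisms (helper3). -/

set_option autoImplicit false

namespace Cfsg.Agent.Lib.Helper3_Transport

open Cfsg

variable {A B : Type*} [Group A] [Group B]

theorem map_symm_map (e : A ≃* B) (K : Subgroup B) :
    (K.map e.symm.toMonoidHom).map e.toMonoidHom = K := by
  ext x
  constructor
  · rintro ⟨y, ⟨z, hz, rfl⟩, rfl⟩
    simpa using hz
  · intro hx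
    exact ⟨e.symm x, ⟨x, hx, rfl⟩, by simp⟩

/-- the join of the subgroups satisfying an isomorphism-invariant predicate is mapped to the
corresponding join -/
theorem map_sSup_of_invariant (e : A ≃* B) (PA : Subgroup A → Prop) (PB : Subgroup B → Prop)
    (h1 : ∀ K, PA K → PB (K.map e.toMonoidHom))
    (h2 : ∀ K, PB K → PA (K.map e.symm.toMonoidHom)) :
    (sSup {K | PA K}).map e.toMonoidHom = sSup {K | PB K} := by
  apply le_antisymm
  · rw [Subgroup.map_le_iff_le_comap]
    apply sSup_le
    intro K hK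
    rw [← Subgroup.map_le_iff_le_comap]
    exact le_sSup (h1 K hK)
  · apply sSup_le
    intro K hK
    rw [← map_symm_map e K]
    exact Subgroup.map_mono (le_sSup (h2 K hK))

theorem component_map_equiv (e : A ≃* B) (K : Subgroup A) (hK : IsComponent K) :
    IsComponent (K.map e.toMonoidHom) :=
  ⟨hK.1.map e.surjective, Cfsg.Agent.S1754.quasisimple_of_equiv
    (K.equivMapOfInjective _ e.injective) hK.2⟩

theorem layer_map_equiv (e : A ≃* B) : (layer A).map e.toMonoidHom = layer B :=
  map_sSup_of_invariant e _ _ (fun K hK => component_map_equiv e K hK)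
    (fun K hK => component_map_equiv e.symm K hK)

theorem normal_nilpotent_map_equiv (e : A ≃* B) (K : Subgroup A)
    (hK : K.Normal ∧ Group.IsNilpotent ↥K) :
    (K.map e.toMonoidHom).Normal ∧ Group.IsNilpotent ↥(K.map e.toMonoidHom) := by
  refine ⟨hK.1.map _ e.surjective, ?_⟩
  haveI := hK.2
  exact Group.nilpotent_of_mulEquiv (K.equivMapOfInjective _ e.injective)

theorem fitting_map_equiv (e : A ≃* B) :
    (fittingSubgroup A).map e.toMonoidHom = fittingSubgroup B :=
  map_sSup_of_invariant e _ _ (fun K hK => normal_nilpotent_map_equiv e K hK)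
    (fun K hK => normal_nilpotent_map_equiv e.symm K hK)

theorem normal_pGroup_map_equiv (p : ℕ) (e : A ≃* B) (K : Subgroup A)
    (hK : K.Normal ∧ IsPGroup p ↥K) :
    (K.map e.toMonoidHom).Normal ∧ IsPGroup p ↥(K.map e.toMonoidHom) :=
  ⟨hK.1.map _ e.surjective, hK.2.of_equiv (K.equivMapOfInjective _ e.injective)⟩

theorem pCore_map_equiv (p : ℕ) (e : A ≃* B) : (pCore p A).map e.toMonoidHom = pCore p B :=
  map_sSup_of_invariant e _ _ (fun K hK => normal_pGroup_map_equiv p e K hK)
    (fun K hK => normal_pGroup_map_equiv p e.symm K hK)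

theorem normal_coprime_map_equiv (p : ℕ) (e : A ≃* B) (K : Subgroup A)
    (hK : K.Normal ∧ (Nat.card ↥K).Coprime p) :
    (K.map e.toMonoidHom).Normal ∧ (Nat.card ↥(K.map e.toMonoidHom)).Coprime p := by
  refine ⟨hK.1.map _ e.surjective, ?_⟩
  rw [← Nat.card_congr (K.equivMapOfInjective _ e.injective).toEquiv]
  exact hK.2

theorem pPrimeCore_map_equiv (p : ℕ) (e : A ≃* B) :
    (pPrimeCore p A).map e.toMonoidHom = pPrimeCore p B :=
  map_sSup_of_invariant e _ _ (fun K hK => normal_coprime_map_equiv p e K hK)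
    (fun K hK => normal_coprime_map_equiv p e.symm K hK)

theorem gf_map_equiv (e : A ≃* B) :
    (generalizedFittingSubgroup A).map e.toMonoidHom = generalizedFittingSubgroup B := by
  unfold generalizedFittingSubgroup
  rw [Subgroup.map_sup, layer_map_equiv, fitting_map_equiv]

/-- `F* = O_p` is invariant under isomorphism -/
theorem gf_eq_pCore_of_equiv (p : ℕ) (e : A ≃* B)
    (h : generalizedFittingSubgroup A = pCore p A) :
    generalizedFittingSubgroup B = pCore p B := by
  rw [← gf_map_equiv e, ← pCore_map_equiv p e, h]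

/-- `N ∩ C` viewed inside `C` and inside `N` -/
def subgroupOfSwap {G : Type*} [Group G] (N C : Subgroup G) :
    ↥(N.subgroupOf C) ≃* ↥(C.subgroupOf N) where
  toFun x := ⟨⟨x.1.1, Subgroup.mem_subgroupOf.mp x.2⟩, Subgroup.mem_subgroupOf.mpr x.1.2⟩
  invFun y := ⟨⟨y.1.1, Subgroup.mem_subgroupOf.mp y.2⟩, Subgroup.mem_subgroupOf.mpr y.1.2⟩
  left_inv _ := rfl
  right_inv _ := rfl
  map_mul' _ _ := rfl

end Cfsg.Agent.Lib.Helper3_Transport
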