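import Mathlib
import Cfsg.Agent.Lib.Lead_SZ

/-! Coprime action helper lemmas (subgroup form). -/

namespace Cfsg.Agent.Lib.Lead_Coprime

open Cfsg.Agent.Lib.Lead_SZ
open scoped Pointwise commutatorElement

variable {G : Type*} [Group G]

theorem normalizer_coe_eq (D : Subgroup G) :
    Subgroup.normalizer (D : Set G) = Subgroup.normalizer D := rfl

/-- second isomorphism theorem, index form -/
theorem relIndex_sup_of_le_normalizer (H N : Subgroup G) (hLE : H ≤ Subgroup.normalizer (N : Set G)) :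
    N.relIndex (H ⊔ N) = N.relIndex H := by
  have i1 := Subgroup.normal_subgroupOf_of_le_normalizer hLE
  have i2 := Subgroup.normal_subgroupOf_sup_of_le_normalizer hLE
  exact (Nat.card_congr (QuotientGroup.quotientInfEquivProdNormalizerQuotient H N hLE).toEquiv).symm

theorem card_sup_of_normalizer [Finite G] (D A : Subgroup G)
    (hAD : A ≤ Subgroup.normalizer (D : Set G)) (hcop : (Nat.card A).Coprime (Nat.card D)) :
    Nat.card (D ⊔ A : Subgroup G) = Nat.card D * Nat.card A := by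
  have h1 := relIndex_sup_of_le_normalizer A D hAD
  have h2 : D.relIndex A = Nat.card A := by
    rw [← Subgroup.inf_relIndex_right, (Subgroup.disjoint_of_coprime_natCard hcop.symm).eq_bot,
      Subgroup.relIndex_bot_left]
  have h3 : Nat.card (D.subgroupOf (A ⊔ D)) * D.relIndex (A ⊔ D) = Nat.card (A ⊔ D : Subgroup G) :=
    Subgroup.card_mul_index _
  rw [card_subgroupOf_of_le le_sup_right, h1, h2] at h3
  rw [sup_comm, ← h3]

/-- conjugacy form: a subgroup `A₂ ≤ D ⊔ A` with `|A₂| = |A|` is `D`-conjugate to `A`. -/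
theorem exists_conj_of_le_sup {G : Type*} [Group G] [Finite G] (D A A₂ : Subgroup G)
    (hAD : A ≤ Subgroup.normalizer (D : Set G)) (hcop : (Nat.card A).Coprime (Nat.card D))
    (hsolv : Group.IsSolvable A ∨ Group.IsSolvable D)
    (hA₂ : A₂ ≤ D ⊔ A) (hcard : Nat.card A₂ = Nat.card A) :
    ∃ d ∈ D, MulAut.conj d • A = A₂ := by
  have hL := sz_conj ↥(D ⊔ A : Subgroup G)
  have hDn : (D.subgroupOf (D ⊔ A)).Normal := by
    rw [sup_comm]; exact Subgroup.normal_subgroupOf_sup_of_le_normalizer hAD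
  have hc := card_sup_of_normalizer D A hAD hcop
  obtain ⟨l, hl, hlA⟩ := sub_step (D ⊔ A) hL D A A₂ hDn le_sup_left le_sup_right hA₂ hcop.symm
    hc.symm (by rw [hcard]; exact hc.symm) hsolv.symm
  have hl' : l ∈ (↑(D ⊔ A) : Set G) := hl
  rw [Subgroup.coe_mul_of_right_le_normalizer_left D A hAD] at hl'
  obtain ⟨d, hd, a, ha, rfl⟩ := hl'
  refine ⟨d, hd, ?_⟩
  rw [← hlA, ← conj_smul_smul, conj_smul_eq_self_of_mem ha]

/-- Lemma C: the key coprime-action lifting lemma. -/
theorem lemmaC {G : Type*} [Group G] [Finite G] (D A : Subgroup G)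
    (hAD : A ≤ Subgroup.normalizer (D : Set G)) (hcop : (Nat.card A).Coprime (Nat.card D))
    (hsolv : Group.IsSolvable A ∨ Group.IsSolvable D)
    (x : G) (hx : ∀ a ∈ A, x⁻¹ * a * x * a⁻¹ ∈ D) :
    ∃ d ∈ D, x * d ∈ Subgroup.centralizer (A : Set G) := by
  have hA₂ : MulAut.conj x⁻¹ • A ≤ D ⊔ A := by
    intro y hy
    rw [mem_conj_smul, inv_inv] at hy
    -- y = x⁻¹ a x with a = x y x⁻¹
    have h1 := hx _ hy
    have h2 : y = (x⁻¹ * (x * y * x⁻¹) * x * (x * y * x⁻¹)⁻¹) * (x * y * x⁻¹) := by group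
    rw [h2]
    exact Subgroup.mul_mem _ (Subgroup.mem_sup_left h1) (Subgroup.mem_sup_right hy)
  obtain ⟨d, hd, hdA⟩ := exists_conj_of_le_sup D A _ hAD hcop hsolv hA₂ (card_conj_smul _ A)
  refine ⟨d, hd, ?_⟩
  have hnorm : MulAut.conj (x * d) • A = A := by
    rw [← conj_smul_smul, hdA, conj_smul_smul, mul_inv_cancel, map_one, one_smul]
  have hbot : A ⊓ D = ⊥ := (Subgroup.disjoint_of_coprime_natCard hcop).eq_bot
  rw [Subgroup.mem_centralizer_iff]
  intro a ha
  -- m⁻¹ a m a⁻¹ ∈ A ⊓ D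
  have hmA : (x * d)⁻¹ * a * (x * d) ∈ A := by
    have : a ∈ MulAut.conj (x * d) • A := by rw [hnorm]; exact ha
    rwa [mem_conj_smul] at this
  have h1 : (x * d)⁻¹ * a * (x * d) * a⁻¹ ∈ A := A.mul_mem hmA (A.inv_mem ha)
  have h2 : (x * d)⁻¹ * a * (x * d) * a⁻¹ ∈ D := by
    have e : (x * d)⁻¹ * a * (x * d) * a⁻¹ = d⁻¹ * (x⁻¹ * a * x * a⁻¹) * (a * d * a⁻¹) := by group
    rw [e]
    refine D.mul_mem (D.mul_mem (D.inv_mem hd) (hx a ha)) ?_
    exact ((Subgroup.mem_normalizer_iff.mp (hAD ha)) d).mp hd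
  have h3 : (x * d)⁻¹ * a * (x * d) * a⁻¹ ∈ A ⊓ D := ⟨h1, h2⟩
  rw [hbot, Subgroup.mem_bot] at h3
  -- so a * m = m * a
  have h4 : (x * d)⁻¹ * a * (x * d) = a := by
    have := congrArg (· * a) h3
    simpa [mul_assoc] using this
  have h5 : x * d * ((x * d)⁻¹ * a * (x * d)) = x * d * a := by rw [h4]
  have h6 : x * d * ((x * d)⁻¹ * a * (x * d)) = a * (x * d) := by group
  rw [← h6, h5]

theorem conj_mem_closure_of_forall {G : Type*} [Group G] {S : Set G} {g : G}
    (h : ∀ s ∈ S, g * s * g⁻¹ ∈ Subgroup.closure S) :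
    ∀ n ∈ Subgroup.closure S, g * n * g⁻¹ ∈ Subgroup.closure S := by
  intro n hn
  induction hn using Subgroup.closure_induction with
  | mem x hx => exact h x hx
  | one => simp
  | mul x y _ _ hx hy =>
    have e : g * (x * y) * g⁻¹ = (g * x * g⁻¹) * (g * y * g⁻¹) := by group
    rw [e]; exact Subgroup.mul_mem _ hx hy
  | inv x _ hx =>
    have e : g * x⁻¹ * g⁻¹ = (g * x * g⁻¹)⁻¹ := by group
    rw [e]; exact Subgroup.inv_mem _ hx

theorem mem_normalizer_of_conj_mem {G : Type*} [Group G] {N : Subgroup G} {g : G}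
    (h1 : ∀ n ∈ N, g * n * g⁻¹ ∈ N) (h2 : ∀ n ∈ N, g⁻¹ * n * g ∈ N) :
    g ∈ Subgroup.normalizer (N : Set G) := by
  rw [Subgroup.mem_normalizer_iff]
  intro n
  constructor
  · exact h1 n
  · intro hn
    have h3 := h2 _ hn
    have e : g⁻¹ * (g * n * g⁻¹) * g = n := by group
    rw [e] at h3; exact h3

/-- `H` always normalizes `⁅H, K⁆`. -/
theorem le_normalizer_commutator_left {G : Type*} [Group G] (H K : Subgroup G) :
    H ≤ Subgroup.normalizer ((⁅H, K⁆ : Subgroup G) : Set G) := by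
  have key : ∀ g ∈ H, ∀ n ∈ (⁅H, K⁆ : Subgroup G), g * n * g⁻¹ ∈ (⁅H, K⁆ : Subgroup G) := by
    intro g hg n hn
    rw [Subgroup.commutator_def] at hn ⊢
    refine conj_mem_closure_of_forall ?_ n hn
    rintro _ ⟨k, hk, a, ha, rfl⟩
    have e : g * ⁅k, a⁆ * g⁻¹ = ⁅g * k, a⁆ * ⁅g, a⁆⁻¹ := by
      simp only [commutatorElement_def]; group
    rw [e]
    exact Subgroup.mul_mem _ (Subgroup.subset_closure ⟨g * k, H.mul_mem hg hk, a, ha, rfl⟩)
      (Subgroup.inv_mem _ (Subgroup.subset_closure ⟨g, hg, a, ha, rfl⟩))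
  intro g hg
  refine mem_normalizer_of_conj_mem (key g hg) ?_
  intro n hn
  have := key g⁻¹ (H.inv_mem hg) n hn
  rwa [inv_inv] at this

theorem le_normalizer_commutator_right {G : Type*} [Group G] (H K : Subgroup G) :
    K ≤ Subgroup.normalizer ((⁅H, K⁆ : Subgroup G) : Set G) := by
  rw [Subgroup.commutator_comm]
  exact le_normalizer_commutator_left K H

theorem commutator_le_of_le_normalizer {G : Type*} [Group G] (K A : Subgroup G)
    (hAK : A ≤ Subgroup.normalizer (K : Set G)) : ⁅K, A⁆ ≤ K := by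
  rw [Subgroup.commutator_le]
  intro k hk a ha
  have h1 := (Subgroup.mem_normalizer_iff.mp (hAK ha) k⁻¹).mp (K.inv_mem hk)
  have e : ⁅k, a⁆ = k * (a * k⁻¹ * a⁻¹) := by simp only [commutatorElement_def]; group
  rw [e]
  exact K.mul_mem hk h1

/-- `K = [K,A] C_K(A)` elementwise. -/
theorem decomp {G : Type*} [Group G] [Finite G] (A K : Subgroup G)
    (hAK : A ≤ Subgroup.normalizer (K : Set G))
    (hcop : (Nat.card A).Coprime (Nat.card K)) (hsolv : Group.IsSolvable A ∨ Group.IsSolvable K)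
    (k : G) (hk : k ∈ K) :
    ∃ n ∈ (⁅K, A⁆ : Subgroup G), ∃ c ∈ K ⊓ Subgroup.centralizer (A : Set G), k = n * c := by
  have hNK : ⁅K, A⁆ ≤ K := commutator_le_of_le_normalizer K A hAK
  have hcop' : (Nat.card A).Coprime (Nat.card (⁅K, A⁆ : Subgroup G)) :=
    Nat.Coprime.coprime_dvd_right (Subgroup.card_dvd_of_le hNK) hcop
  have hsolv' : Group.IsSolvable A ∨ Group.IsSolvable (⁅K, A⁆ : Subgroup G) :=
    hsolv.imp id (solvable_of_le hNK)
  have hx : ∀ a ∈ A, k⁻¹ * a * k * a⁻¹ ∈ (⁅K, A⁆ : Subgroup G) := by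
    intro a ha
    have h1 : ⁅k⁻¹, a⁆ ∈ (⁅K, A⁆ : Subgroup G) :=
      Subgroup.commutator_mem_commutator (K.inv_mem hk) ha
    have e : k⁻¹ * a * k * a⁻¹ = ⁅k⁻¹, a⁆ := by simp only [commutatorElement_def]; group
    rw [e]; exact h1
  obtain ⟨d, hd, hdc⟩ := lemmaC ⁅K, A⁆ A (le_normalizer_commutator_right K A) hcop' hsolv' k hx
  have hkd : k * d ∈ K := K.mul_mem hk (hNK hd)
  refine ⟨(k * d) * d⁻¹ * (k * d)⁻¹, ?_, k * d, Subgroup.mem_inf.mpr ⟨hkd, hdc⟩, by group⟩
  exact (Subgroup.mem_normalizer_iff.mp (le_normalizer_commutator_left K A hkd) _).mp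
    (Subgroup.inv_mem _ hd)

/-- Existence of an `A`-invariant Sylow `p`-subgroup of `K` under coprime action. -/
theorem exists_invariant_sylow {G : Type*} [Group G] [Finite G] (A K : Subgroup G)
    (hAK : A ≤ Subgroup.normalizer (K : Set G))
    (hcop : (Nat.card A).Coprime (Nat.card K)) (hsolv : Group.IsSolvable A ∨ Group.IsSolvable K)
    (p : ℕ) [Fact p.Prime] :
    ∃ P : Sylow p K, A ≤ Subgroup.normalizer ((P : Subgroup K).map K.subtype : Set G) := by
  obtain ⟨P⟩ : Nonempty (Sylow p K) := inferInstance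
  set P' := (P : Subgroup K).map K.subtype with hP'
  have hP'K : P' ≤ K := Subgroup.map_subtype_le _
  set Γ := K ⊔ A with hΓ
  set S := Subgroup.normalizer (P' : Set G) ⊓ Γ with hS
  have hfrat : ∀ a ∈ A, ∃ k ∈ K, k⁻¹ * a ∈ S := by
    intro a ha
    have hle : MulAut.conj a • P' ≤ K := by
      intro x hx
      rw [mem_conj_smul] at hx
      have h1 := (Subgroup.mem_normalizer_iff.mp (hAK ha) _).mp (hP'K hx)
      have e : a * (a⁻¹ * x * a) * a⁻¹ = x := by group
      rw [e] at h1; exact h1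
    have hcard : Nat.card ((MulAut.conj a • P').subgroupOf K) = p ^ (Nat.card K).factorization p := by
      rw [card_subgroupOf_of_le hle, card_conj_smul,
        Subgroup.card_map_of_injective K.subtype_injective]
      exact P.card_eq_multiplicity
    obtain ⟨k, hk⟩ := MulAction.exists_smul_eq K P (Sylow.ofCard _ hcard)
    have hk' : MulAut.conj k • (P : Subgroup K) = (MulAut.conj a • P').subgroupOf K :=
      congrArg (fun S : Sylow p K => (S : Subgroup K)) hk
    have hka : MulAut.conj (k : G) • P' = MulAut.conj a • P' := by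
      have h2 := congrArg (Subgroup.map K.subtype) hk'
      rw [map_conj_smul, Subgroup.map_subgroupOf_eq_of_le hle] at h2
      exact h2
    refine ⟨k, k.2, Subgroup.mem_inf.mpr ⟨?_, ?_⟩⟩
    · rw [conj_smul_le_normalizer, ← conj_smul_smul, ← hka, conj_smul_smul, inv_mul_cancel,
        map_one, one_smul]
    · exact Subgroup.mul_mem _ (Subgroup.inv_mem _ (Subgroup.mem_sup_left k.2))
        (Subgroup.mem_sup_right ha)
  have hΓK : Γ ≤ Subgroup.normalizer (K : Set G) := sup_le Subgroup.le_normalizer hAK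
  have hSK : S ≤ Subgroup.normalizer (K : Set G) := inf_le_right.trans hΓK
  have hSsupK : S ⊔ K = Γ := by
    apply le_antisymm
    · exact sup_le inf_le_right le_sup_left
    · refine sup_le le_sup_right ?_
      intro a ha
      obtain ⟨k, hk, hka⟩ := hfrat a ha
      have e : a = k * (k⁻¹ * a) := by group
      rw [e]; exact Subgroup.mul_mem _ (Subgroup.mem_sup_right hk) (Subgroup.mem_sup_left hka)
  have hidx : K.relIndex S = Nat.card A := by
    rw [← relIndex_sup_of_le_normalizer S K hSK, hSsupK, hΓ, sup_comm,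
      relIndex_sup_of_le_normalizer A K hAK, ← Subgroup.inf_relIndex_right,
      (Subgroup.disjoint_of_coprime_natCard hcop.symm).eq_bot, Subgroup.relIndex_bot_left]
  have hN : (K.subgroupOf S).Normal := Subgroup.normal_subgroupOf_of_le_normalizer hSK
  have hNcard : Nat.card (K.subgroupOf S) ∣ Nat.card K := by
    rw [← Subgroup.inf_subgroupOf_right, card_subgroupOf_of_le inf_le_right]
    exact Subgroup.card_dvd_of_le inf_le_left
  have hcopS : (Nat.card (K.subgroupOf S)).Coprime (K.subgroupOf S).index := by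
    show (Nat.card (K.subgroupOf S)).Coprime (K.relIndex S)
    rw [hidx]; exact (Nat.Coprime.coprime_dvd_right hNcard hcop).symm
  obtain ⟨H, hH⟩ := Subgroup.exists_right_complement'_of_coprime hcopS
  have hBcard : Nat.card (H.map S.subtype) = Nat.card A := by
    rw [Subgroup.card_map_of_injective S.subtype_injective, ← hH.symm.index_eq_card]
    exact hidx
  have hBS : H.map S.subtype ≤ S := Subgroup.map_subtype_le _
  obtain ⟨d, hd, hdB⟩ := exists_conj_of_le_sup K A (H.map S.subtype) hAK hcop hsolv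
    (hBS.trans inf_le_right) hBcard
  refine ⟨(⟨d, hd⟩ : K)⁻¹ • P, ?_⟩
  intro a ha
  rw [conj_smul_le_normalizer]
  have e1 : ((((⟨d, hd⟩ : K)⁻¹ • P : Sylow p K) : Subgroup K)).map K.subtype
      = MulAut.conj d⁻¹ • P' := by
    rw [Sylow.smul_def, Sylow.pointwise_smul_def, map_conj_smul]; rfl
  rw [e1]
  have h1 : d * a * d⁻¹ ∈ H.map S.subtype := by
    rw [← hdB, mem_conj_smul]
    have e : d⁻¹ * (d * a * d⁻¹) * d = a := by group
    rw [e]; exact ha
  have h2 := conj_smul_le_normalizer.mp (Subgroup.mem_inf.mp (hBS h1)).1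
  rw [conj_smul_smul]
  have e2 : a * d⁻¹ = d⁻¹ * (d * a * d⁻¹) := by group
  rw [e2, ← conj_smul_smul, h2]

theorem le_normalizer_normalizer_inf {G : Type*} [Group G] (A X K : Subgroup G)
    (hX : A ≤ Subgroup.normalizer (X : Set G)) (hK : A ≤ Subgroup.normalizer (K : Set G)) :
    A ≤ Subgroup.normalizer ((Subgroup.normalizer (X : Set G) ⊓ K : Subgroup G) : Set G) := by
  intro a ha
  refine mem_normalizer_of_conj_mem ?_ ?_
  · intro n hn
    obtain ⟨h1, h2⟩ := Subgroup.mem_inf.mp hn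
    refine Subgroup.mem_inf.mpr ⟨?_, ?_⟩
    · exact Subgroup.mul_mem _ (Subgroup.mul_mem _ (hX ha) h1) (Subgroup.inv_mem _ (hX ha))
    · exact (Subgroup.mem_normalizer_iff.mp (hK ha) n).mp h2
  · intro n hn
    obtain ⟨h1, h2⟩ := Subgroup.mem_inf.mp hn
    refine Subgroup.mem_inf.mpr ⟨?_, ?_⟩
    · exact Subgroup.mul_mem _ (Subgroup.mul_mem _ (Subgroup.inv_mem _ (hX ha)) h1) (hX ha)
    · have := (Subgroup.mem_normalizer_iff.mp (hK (A.inv_mem ha)) n).mp h2
      rwa [inv_inv] at this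

/-- A `p`-subgroup `V ≤ K` that is maximal among `p`-subgroups of `N_K(V)` is Sylow in `K`. -/
theorem sylow_of_self_normalizing {G : Type*} [Group G] [Finite G] (p : ℕ) [Fact p.Prime]
    {K V : Subgroup G} (hVK : V ≤ K) (hV : IsPGroup p V)
    (h : ∀ W : Subgroup G, V ≤ W → W ≤ Subgroup.normalizer (V : Set G) ⊓ K → IsPGroup p W → W = V) :
    ∃ P : Sylow p K, (P : Subgroup K).map K.subtype = V := by
  obtain ⟨P, hP⟩ := IsPGroup.exists_le_sylow (hV.comap_of_injective K.subtype K.subtype_injective)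
  refine ⟨P, ?_⟩
  set P' := (P : Subgroup K).map K.subtype with hP'
  have hP'K : P' ≤ K := Subgroup.map_subtype_le _
  have hP'p : IsPGroup p P' := P.isPGroup'.map _
  have hVP : V ≤ P' := by
    intro v hv
    exact ⟨⟨v, hVK hv⟩, hP (Subgroup.mem_subgroupOf.mpr hv), rfl⟩
  have hW : Subgroup.normalizer (V : Set G) ⊓ P' = V :=
    h _ (le_inf Subgroup.le_normalizer hVP) (inf_le_inf_left _ hP'K) (hP'p.to_le inf_le_right)
  by_contra hne
  have hlt : V.subgroupOf P' < ⊤ := by
    rw [lt_top_iff_ne_top]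
    intro htop
    apply hne
    apply le_antisymm _ hVP
    intro x hx
    have : (⟨x, hx⟩ : P') ∈ V.subgroupOf P' := by rw [htop]; trivial
    exact Subgroup.mem_subgroupOf.mp this
  have hnil : Group.IsNilpotent P' := IsPGroup.isNilpotent hP'p
  have hnc := normalizerCondition_of_isNilpotent (G := P') _ hlt
  obtain ⟨x, hxN, hxV⟩ := SetLike.exists_of_lt hnc
  apply hxV
  rw [Subgroup.mem_subgroupOf, ← hW]
  refine Subgroup.mem_inf.mpr ⟨?_, x.2⟩
  have hx1 : ∀ v ∈ V, (x : G) * v * (x : G)⁻¹ ∈ V := by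
    intro v hv
    have := (Subgroup.mem_normalizer_iff.mp hxN ⟨v, hVP hv⟩).mp (Subgroup.mem_subgroupOf.mpr hv)
    exact Subgroup.mem_subgroupOf.mp this
  have hx2 : ∀ v ∈ V, (x : G)⁻¹ * v * (x : G) ∈ V := by
    intro v hv
    have hmem : (x : G)⁻¹ * v * (x : G) ∈ P' :=
      P'.mul_mem (P'.mul_mem (P'.inv_mem x.2) (hVP hv)) x.2
    have := (Subgroup.mem_normalizer_iff.mp hxN ⟨_, hmem⟩).mpr (by
      rw [Subgroup.mem_subgroupOf]
      have e : ((x * ⟨(x : G)⁻¹ * v * (x : G), hmem⟩ * x⁻¹ : P') : G) = v := by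
        simp [mul_assoc]
      rw [e]; exact hv)
    exact Subgroup.mem_subgroupOf.mp this
  exact mem_normalizer_of_conj_mem hx1 hx2

/-- conjugation by an element normalizing `K`, as an automorphism of `K`. -/
def conjEquivOfMemNormalizer {G : Type*} [Group G] {K : Subgroup G} {g : G}
    (hg : g ∈ Subgroup.normalizer (K : Set G)) : K ≃* K where
  toFun k := ⟨g * k * g⁻¹, (Subgroup.mem_normalizer_iff.mp hg k).mp k.2⟩
  invFun k := ⟨g⁻¹ * k * g, by
    have := (Subgroup.mem_normalizer_iff.mp (Subgroup.inv_mem _ hg) k).mp k.2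
    rwa [inv_inv] at this⟩
  left_inv k := by ext; simp [mul_assoc]
  right_inv k := by ext; simp [mul_assoc]
  map_mul' a b := by ext; simp [mul_assoc]

theorem conj_mem_char_map {G : Type*} [Group G] {K : Subgroup G} (C : Subgroup K)
    [hC : C.Characteristic] {g : G} (hg : g ∈ Subgroup.normalizer (K : Set G)) {n : G}
    (hn : n ∈ C.map K.subtype) : g * n * g⁻¹ ∈ C.map K.subtype := by
  obtain ⟨m, hm, rfl⟩ := hn
  have h1 := Subgroup.characteristic_iff_map_eq.mp hC (conjEquivOfMemNormalizer hg)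
  have h2 : conjEquivOfMemNormalizer hg m ∈ C := by
    rw [← h1]; exact ⟨m, hm, rfl⟩
  exact ⟨_, h2, rfl⟩

theorem normalizer_le_normalizer_char_map {G : Type*} [Group G] {K : Subgroup G} (C : Subgroup K)
    [hC : C.Characteristic] :
    Subgroup.normalizer (K : Set G) ≤ Subgroup.normalizer ((C.map K.subtype : Subgroup G) : Set G) := by
  intro g hg
  refine mem_normalizer_of_conj_mem (fun n hn => conj_mem_char_map C hg hn) ?_
  intro n hn
  have := conj_mem_char_map C (Subgroup.inv_mem _ hg) hn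
  rwa [inv_inv] at this

open scoped IsMulCommutative in
/-- For abelian `V` under coprime action: `C_V(A) ∩ [V,A] = 1` (averaging argument). -/
theorem abelian_inf_eq_bot {G : Type*} [Group G] [Finite G] (A V : Subgroup G) [IsMulCommutative V]
    (hAV : A ≤ Subgroup.normalizer (V : Set G)) (hcop : (Nat.card A).Coprime (Nat.card V)) :
    (V ⊓ Subgroup.centralizer (A : Set G)) ⊓ ⁅V, A⁆ = ⊥ := by
  classical
  letI : Fintype A := Fintype.ofFinite A
  let φ : A → (V →* V) := fun a => (conjEquivOfMemNormalizer (hAV a.2)).toMonoidHom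
  let θ : V →* V := ∏ a : A, φ a
  have hθ : ∀ v, θ v = ∏ a : A, φ a v := fun v => by simp [θ]
  have hφ : ∀ (a : A) (v : V), ((φ a v : V) : G) = a * v * (a : G)⁻¹ := fun a v => rfl
  have h2 : ∀ (b : A) (v : V), θ (φ b v) = θ v := by
    intro b v
    rw [hθ, hθ]
    refine Fintype.prod_equiv (Equiv.mulRight b) _ _ ?_
    intro a
    ext
    simp [hφ, mul_assoc]
  have h3 : ⁅V, A⁆ ≤ θ.ker.map V.subtype := by
    rw [Subgroup.commutator_le]
    intro v hv a ha
    refine ⟨⟨v, hv⟩ * φ ⟨a, ha⟩ (⟨v, hv⟩⁻¹), ?_, ?_⟩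
    · rw [SetLike.mem_coe, MonoidHom.mem_ker, map_mul, h2, map_inv, mul_inv_cancel]
    · simp [hφ, commutatorElement_def, mul_assoc]
  rw [eq_bot_iff]
  intro x hx
  obtain ⟨hx1, hx2⟩ := Subgroup.mem_inf.mp hx
  obtain ⟨hxV, hxC⟩ := Subgroup.mem_inf.mp hx1
  obtain ⟨x', hx', rfl⟩ := h3 hx2
  have h4 : θ x' = x' ^ Nat.card A := by
    rw [hθ]
    have hfix : ∀ a : A, φ a x' = x' := by
      intro a
      ext
      rw [hφ]
      have hc : (a : G) * (x' : G) = (x' : G) * a := Subgroup.mem_centralizer_iff.mp hxC a a.2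
      rw [hc]; group
    simp [hfix, Nat.card_eq_fintype_card]
  rw [SetLike.mem_coe, MonoidHom.mem_ker, h4] at hx'
  have h5 : x' ^ Nat.card V = 1 := pow_card_eq_one'
  have h6 : orderOf x' ∣ 1 := by
    rw [← Nat.Coprime.gcd_eq_one hcop]
    exact Nat.dvd_gcd (orderOf_dvd_of_pow_eq_one hx') (orderOf_dvd_of_pow_eq_one h5)
  have h7 : x' = 1 := orderOf_eq_one_iff.mp (Nat.dvd_one.mp h6)
  rw [h7]; simp

/-- Fixed-point lemma: if `A ⊆ K S` then some `K`-conjugate of `A` lies in `S`. -/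
theorem lemmaF {G : Type*} [Group G] [Finite G] (A K : Subgroup G)
    (hAK : A ≤ Subgroup.normalizer (K : Set G))
    (hcop : (Nat.card A).Coprime (Nat.card K)) (hsolv : Group.IsSolvable A ∨ Group.IsSolvable K)
    (S₀ : Subgroup G) (hfrat : ∀ a ∈ A, ∃ k ∈ K, k⁻¹ * a ∈ S₀) :
    ∃ d ∈ K, ∀ a ∈ A, d * a * d⁻¹ ∈ S₀ := by
  set Γ := K ⊔ A with hΓ
  set S := S₀ ⊓ Γ with hS
  have hΓK : Γ ≤ Subgroup.normalizer (K : Set G) := sup_le Subgroup.le_normalizer hAK
  have hSK : S ≤ Subgroup.normalizer (K : Set G) := inf_le_right.trans hΓK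
  have hSsupK : S ⊔ K = Γ := by
    apply le_antisymm
    · exact sup_le inf_le_right le_sup_left
    · refine sup_le le_sup_right ?_
      intro a ha
      obtain ⟨k, hk, hka⟩ := hfrat a ha
      have e : a = k * (k⁻¹ * a) := by group
      rw [e]
      refine Subgroup.mul_mem _ (Subgroup.mem_sup_right hk) (Subgroup.mem_sup_left ?_)
      refine Subgroup.mem_inf.mpr ⟨hka, ?_⟩
      exact Subgroup.mul_mem _ (Subgroup.inv_mem _ (Subgroup.mem_sup_left hk))
        (Subgroup.mem_sup_right ha)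
  have hidx : K.relIndex S = Nat.card A := by
    rw [← relIndex_sup_of_le_normalizer S K hSK, hSsupK, hΓ, sup_comm,
      relIndex_sup_of_le_normalizer A K hAK, ← Subgroup.inf_relIndex_right,
      (Subgroup.disjoint_of_coprime_natCard hcop.symm).eq_bot, Subgroup.relIndex_bot_left]
  have hN : (K.subgroupOf S).Normal := Subgroup.normal_subgroupOf_of_le_normalizer hSK
  have hNcard : Nat.card (K.subgroupOf S) ∣ Nat.card K := by
    rw [← Subgroup.inf_subgroupOf_right, card_subgroupOf_of_le inf_le_right]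
    exact Subgroup.card_dvd_of_le inf_le_left
  have hcopS : (Nat.card (K.subgroupOf S)).Coprime (K.subgroupOf S).index := by
    show (Nat.card (K.subgroupOf S)).Coprime (K.relIndex S)
    rw [hidx]; exact (Nat.Coprime.coprime_dvd_right hNcard hcop).symm
  obtain ⟨H, hH⟩ := Subgroup.exists_right_complement'_of_coprime hcopS
  have hBcard : Nat.card (H.map S.subtype) = Nat.card A := by
    rw [Subgroup.card_map_of_injective S.subtype_injective, ← hH.symm.index_eq_card]
    exact hidx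
  have hBS : H.map S.subtype ≤ S := Subgroup.map_subtype_le _
  obtain ⟨d, hd, hdB⟩ := exists_conj_of_le_sup K A (H.map S.subtype) hAK hcop hsolv
    (hBS.trans inf_le_right) hBcard
  refine ⟨d, hd, ?_⟩
  intro a ha
  have h1 : d * a * d⁻¹ ∈ H.map S.subtype := by
    rw [← hdB, mem_conj_smul]
    have e : d⁻¹ * (d * a * d⁻¹) * d = a := by group
    rw [e]; exact ha
  exact (Subgroup.mem_inf.mp (hBS h1)).1

theorem le_normalizer_commutator {G : Type*} [Group G] (X H K : Subgroup G)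
    (hH : X ≤ Subgroup.normalizer (H : Set G)) (hK : X ≤ Subgroup.normalizer (K : Set G)) :
    X ≤ Subgroup.normalizer ((⁅H, K⁆ : Subgroup G) : Set G) := by
  have key : ∀ g ∈ X, ∀ n ∈ (⁅H, K⁆ : Subgroup G), g * n * g⁻¹ ∈ (⁅H, K⁆ : Subgroup G) := by
    intro g hg n hn
    rw [Subgroup.commutator_def] at hn ⊢
    refine conj_mem_closure_of_forall ?_ n hn
    rintro _ ⟨h, hh, k, hk, rfl⟩
    have e : g * ⁅h, k⁆ * g⁻¹ = ⁅g * h * g⁻¹, g * k * g⁻¹⁆ := by
      simp only [commutatorElement_def]; group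
    rw [e]
    exact Subgroup.subset_closure ⟨_, (Subgroup.mem_normalizer_iff.mp (hH hg) h).mp hh, _,
      (Subgroup.mem_normalizer_iff.mp (hK hg) k).mp hk, rfl⟩
  intro g hg
  refine mem_normalizer_of_conj_mem (key g hg) ?_
  intro n hn
  have := key g⁻¹ (X.inv_mem hg) n hn
  rwa [inv_inv] at this

/-- For `p`-groups `U ≠ 1` and `P` with `P` normalizing `U`: `[U,P] < U`. -/
theorem commutator_lt_of_pgroup {G : Type*} [Group G] [Finite G] (p : ℕ) [Fact p.Prime]
    (U P : Subgroup G) (hU : IsPGroup p U) (hP : IsPGroup p P)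
    (hPU : P ≤ Subgroup.normalizer (U : Set G)) (hne : U ≠ ⊥) : ⁅U, P⁆ < U := by
  refine lt_of_le_of_ne (commutator_le_of_le_normalizer U P hPU) ?_
  intro heq
  have hT : IsPGroup p (U ⊔ P : Subgroup G) := hU.to_sup_of_normal_left' hP hPU
  have hnil : Group.IsNilpotent (U ⊔ P : Subgroup G) := hT.isNilpotent
  obtain ⟨n, hn⟩ := (Subgroup.isNilpotent_iff_lowerCentralSeries _).mp hnil
  have hle : ∀ m, U ≤ (U ⊔ P).lowerCentralSeries m := by
    intro m
    induction m with
    | zero => exact le_sup_left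
    | succ m ih =>
      rw [Subgroup.lowerCentralSeries_succ]
      calc U = ⁅U, P⁆ := heq.symm
        _ ≤ ⁅(U ⊔ P).lowerCentralSeries m, U ⊔ P⁆ := Subgroup.commutator_mono ih le_sup_right
  apply hne
  rw [eq_bot_iff, ← hn]
  exact hle n

end Cfsg.Agent.Lib.Lead_Coprime
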