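import Mathlib

set_option autoImplicit false

/-!
helper5: Sylow subgroups of normal subgroups, and the subgroup generated by the `p'`-elements
of a normal subgroup (`O^p(N)`), all inside an ambient finite group.
-/

namespace Cfsg.Agent.Lib.Helper5_Residual

open Subgroup

/-- For `N` normal, `|N : N ∩ P|` divides `|G : P|`. -/
theorem relIndex_dvd_index_of_normal_right {G : Type*} [Group G] [Finite G] (P N : Subgroup G)
    [N.Normal] : P.relIndex N ∣ P.index := by
  have h1 : Nat.card ↥(P ⊓ N) * P.relIndex N = Nat.card N := by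
    rw [← relIndex_bot_left, ← relIndex_bot_left, ← inf_relIndex_right P N]
    exact relIndex_mul_relIndex _ _ _ bot_le inf_le_right
  have h2 : Nat.card ↥(P ⊓ N) * N.relIndex P = Nat.card P := by
    rw [← relIndex_bot_left, ← relIndex_bot_left, ← inf_relIndex_left P N]
    exact relIndex_mul_relIndex _ _ _ bot_le inf_le_left
  have h3 : Nat.card N * N.relIndex P = Nat.card ↥(P ⊔ N) := by
    rw [← relIndex_bot_left, ← relIndex_bot_left, ← relIndex_sup_right P N]
    exact relIndex_mul_relIndex _ _ _ bot_le le_sup_right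
  have h4 : Nat.card P * P.relIndex (P ⊔ N) = Nat.card ↥(P ⊔ N) := by
    rw [← relIndex_bot_left, ← relIndex_bot_left]
    exact relIndex_mul_relIndex _ _ _ bot_le le_sup_left
  have h5 : P.relIndex N = P.relIndex (P ⊔ N) := by
    have hpos : 0 < Nat.card ↥(P ⊓ N) * N.relIndex P := by
      rw [h2]; exact Nat.card_pos
    apply Nat.eq_of_mul_eq_mul_left hpos
    calc Nat.card ↥(P ⊓ N) * N.relIndex P * P.relIndex N
        = (Nat.card ↥(P ⊓ N) * P.relIndex N) * N.relIndex P := by ring
      _ = Nat.card ↥(P ⊔ N) := by rw [h1, h3]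
      _ = Nat.card ↥(P ⊓ N) * N.relIndex P * P.relIndex (P ⊔ N) := by rw [h2, h4]
  rw [h5]
  exact relIndex_dvd_index_of_le le_sup_left

/-- A Sylow `p`-subgroup of `G` meets a normal subgroup `N` in a subgroup of index prime to `p`. -/
theorem not_dvd_relIndex_of_normal {G : Type*} [Group G] [Finite G] {p : ℕ} [Fact p.Prime]
    (P : Sylow p G) (N : Subgroup G) [N.Normal] : ¬ p ∣ (P : Subgroup G).relIndex N := by
  intro h
  exact P.not_dvd_index (h.trans (relIndex_dvd_index_of_normal_right (P : Subgroup G) N))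

/-- `P ∩ N` as a Sylow `p`-subgroup of the normal subgroup `N`. -/
noncomputable def sylowInfNormal {G : Type*} [Group G] [Finite G] {p : ℕ} [Fact p.Prime]
    (P : Sylow p G) (N : Subgroup G) [N.Normal] : Sylow p ↥N :=
  IsPGroup.toSylow (P := (P : Subgroup G).subgroupOf N)
    (IsPGroup.comap_subtype P.isPGroup' (K := N)) (not_dvd_relIndex_of_normal P N)

theorem coe_sylowInfNormal {G : Type*} [Group G] [Finite G] {p : ℕ} [Fact p.Prime]
    (P : Sylow p G) (N : Subgroup G) [N.Normal] :
    ((sylowInfNormal P N : Sylow p ↥N) : Subgroup ↥N) = (P : Subgroup G).subgroupOf N := rfl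

theorem map_sylowInfNormal {G : Type*} [Group G] [Finite G] {p : ℕ} [Fact p.Prime]
    (P : Sylow p G) (N : Subgroup G) [N.Normal] :
    ((sylowInfNormal P N : Sylow p ↥N) : Subgroup ↥N).map N.subtype = (P : Subgroup G) ⊓ N := by
  rw [coe_sylowInfNormal, subgroupOf_map_subtype]

/-- In a finite group, for every `g` there is `a` with `g ^ (p ^ a)` of order prime to `p`. -/
theorem exists_pow_coprime {G : Type*} [Group G] [Finite G] (p : ℕ) [hp : Fact p.Prime] (g : G) :
    ∃ a : ℕ, (orderOf (g ^ (p ^ a))).Coprime p := by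
  have hpos : orderOf g ≠ 0 := (orderOf_pos g).ne'
  obtain ⟨a, m, hm, hgm⟩ := Nat.exists_eq_pow_mul_and_not_dvd hpos p hp.out.ne_one
  refine ⟨a, ?_⟩
  have h1 : orderOf (g ^ (p ^ a)) = m := by
    rw [orderOf_pow, hgm]
    have : Nat.gcd (p ^ a * m) (p ^ a) = p ^ a := Nat.gcd_eq_right (Dvd.intro _ rfl)
    rw [this]
    exact Nat.mul_div_cancel_left m (pow_pos hp.out.pos a)
  rw [h1, Nat.coprime_comm, Nat.Prime.coprime_iff_not_dvd hp.out]
  exact hm

/-- A normal subgroup containing all `p'`-elements has `p`-group quotient. -/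
theorem isPGroup_quotient_of_coprime_mem {G : Type*} [Group G] [Finite G] (p : ℕ) [Fact p.Prime]
    (K : Subgroup G) [K.Normal] (hK : ∀ g : G, (orderOf g).Coprime p → g ∈ K) :
    IsPGroup p (G ⧸ K) := by
  intro q
  obtain ⟨g, rfl⟩ := QuotientGroup.mk_surjective q
  obtain ⟨a, ha⟩ := exists_pow_coprime p g
  refine ⟨a, ?_⟩
  rw [← QuotientGroup.mk_pow, QuotientGroup.eq_one_iff]
  exact hK _ ha

/-- The closure of a conjugation-invariant set is normal. -/
theorem closure_normal_of_conj_invariant {G : Type*} [Group G] (S : Set G)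
    (h : ∀ n ∈ S, ∀ g : G, g * n * g⁻¹ ∈ S) : (Subgroup.closure S).Normal := by
  constructor
  intro n hn g
  induction hn using Subgroup.closure_induction with
  | mem x hx => exact Subgroup.subset_closure (h x hx g)
  | one => simp
  | mul a b _ _ ha hb =>
    have : g * (a * b) * g⁻¹ = (g * a * g⁻¹) * (g * b * g⁻¹) := by group
    rw [this]; exact Subgroup.mul_mem _ ha hb
  | inv a _ ha =>
    have : g * a⁻¹ * g⁻¹ = (g * a * g⁻¹)⁻¹ := by group
    rw [this]; exact Subgroup.inv_mem _ ha

/-- A subgroup of index prime to `p` together with a normal subgroup with `p`-group quotient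
generates the whole group. -/
theorem sup_eq_top_of_index_coprime {G : Type*} [Group G] [Finite G] (p : ℕ) [hp : Fact p.Prime]
    (R K : Subgroup G) [K.Normal] (hR : ¬ p ∣ R.index) (hK : IsPGroup p (G ⧸ K)) :
    R ⊔ K = ⊤ := by
  rw [← Subgroup.index_eq_one]
  have h1 : (R ⊔ K).index ∣ R.index := Subgroup.index_dvd_of_le le_sup_left
  have h2 : (R ⊔ K).index ∣ K.index := Subgroup.index_dvd_of_le le_sup_right
  obtain ⟨k, hk⟩ := IsPGroup.iff_card.mp hK
  have h3 : K.index = p ^ k := by rw [Subgroup.index, hk]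
  rw [h3] at h2
  obtain ⟨j, _, hj⟩ := (Nat.dvd_prime_pow hp.out).mp h2
  rcases Nat.eq_zero_or_pos j with h0 | hpos
  · rw [hj, h0, pow_zero]
  · exfalso
    apply hR
    have : p ∣ (R ⊔ K).index := by rw [hj]; exact dvd_pow_self p hpos.ne'
    exact dvd_trans this h1

/-- `O^p(N)` computed inside the ambient group: the subgroup generated by the `p'`-elements of `N`. -/
def residualOf {G : Type*} [Group G] (p : ℕ) (N : Subgroup G) : Subgroup G :=
  Subgroup.closure {g : G | g ∈ N ∧ (orderOf g).Coprime p}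

theorem residualOf_le {G : Type*} [Group G] (p : ℕ) (N : Subgroup G) : residualOf p N ≤ N := by
  unfold residualOf
  rw [Subgroup.closure_le]
  intro g hg
  exact hg.1

theorem residualOf_normal {G : Type*} [Group G] (p : ℕ) (N : Subgroup G) [hN : N.Normal] :
    (residualOf p N).Normal := by
  unfold residualOf
  apply closure_normal_of_conj_invariant
  rintro n ⟨hn, hc⟩ g
  refine ⟨hN.conj_mem n hn g, ?_⟩
  have : orderOf (g * n * g⁻¹) = orderOf n := by
    simpa [MulAut.conj_apply] using (MulAut.conj g).orderOf_eq n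
  rw [this]; exact hc

/-- If `R ≤ N` has index in `N` prime to `p`, then `N = R · O^p(N)`. -/
theorem le_sup_residualOf {G : Type*} [Group G] [Finite G] (p : ℕ) [Fact p.Prime]
    (N R : Subgroup G) (hR : ¬ p ∣ R.relIndex N) :
    N ≤ R ⊔ residualOf p N := by
  -- work inside `N`
  set L' : Subgroup ↥N := Subgroup.closure {x : ↥N | (orderOf x).Coprime p} with hL'
  have hL'n : L'.Normal := by
    apply closure_normal_of_conj_invariant
    intro n hn g
    show Nat.Coprime (orderOf (g * n * g⁻¹)) p
    have : orderOf (g * n * g⁻¹) = orderOf n := by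
      simpa [MulAut.conj_apply] using (MulAut.conj g).orderOf_eq n
    rw [this]; exact hn
  have hq : IsPGroup p (↥N ⧸ L') :=
    isPGroup_quotient_of_coprime_mem p L' (fun g hg => Subgroup.subset_closure hg)
  have htop : R.subgroupOf N ⊔ L' = ⊤ := sup_eq_top_of_index_coprime p _ L' hR hq
  have hL'map : L'.map N.subtype ≤ residualOf p N := by
    rw [hL', MonoidHom.map_closure]
    unfold residualOf
    apply Subgroup.closure_mono
    rintro _ ⟨x, hx, rfl⟩
    refine ⟨x.2, ?_⟩
    have : orderOf ((N.subtype) x) = orderOf x := Subgroup.orderOf_coe x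
    rw [this]; exact hx
  intro x hx
  have h1 : (⟨x, hx⟩ : ↥N) ∈ R.subgroupOf N ⊔ L' := by rw [htop]; trivial
  have h2 : N.subtype ⟨x, hx⟩ ∈ (R.subgroupOf N ⊔ L').map N.subtype := ⟨_, h1, rfl⟩
  rw [Subgroup.map_sup, subgroupOf_map_subtype] at h2
  have h3 : (R ⊓ N) ⊔ L'.map N.subtype ≤ R ⊔ residualOf p N :=
    sup_le_sup inf_le_left hL'map
  exact h3 h2

end Cfsg.Agent.Lib.Helper5_Residual
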