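import Mathlib
import Cfsg.Prelude.Def_Local
import Cfsg.Agent.Lib.Helper3_Components
import Cfsg.Agent.Lib.Helper5_Residual
import Cfsg.Agent.Lib.Helper5_PPrime

/-! The preimage of the layer of `M / O_{p'}(M)` (helper3). -/

set_option autoImplicit false

namespace Cfsg.Agent.Lib.Helper3_LayerPre

open Cfsg Cfsg.Agent.Lib.Helper3_Components
open scoped commutatorElement

universe u

/-- If `φ : A → B` is onto a perfect group and the kernel consists of `p'`-elements, then `A` is
generated by its `p'`-elements. -/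
theorem closure_pprime_of_surjective {A B : Type*} [Group A] [Finite A] [Group B]
    [Group.IsPerfect B] (p : ℕ) [Fact p.Prime] (φ : A →* B) (hφ : Function.Surjective φ)
    (hker : ∀ x ∈ φ.ker, (orderOf x).Coprime p) :
    Subgroup.closure {x : A | (orderOf x).Coprime p} = ⊤ := by
  set R := Subgroup.closure {x : A | (orderOf x).Coprime p} with hR
  haveI hRn : R.Normal := by
    apply Cfsg.Agent.Lib.Helper5_Residual.closure_normal_of_conj_invariant
    intro n hn g
    show (orderOf (g * n * g⁻¹)).Coprime p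
    have := (MulAut.conj g).orderOf_eq n
    simp only [MulAut.conj_apply] at this
    rw [this]; exact hn
  have hp : IsPGroup p (A ⧸ R) :=
    Cfsg.Agent.Lib.Helper5_Residual.isPGroup_quotient_of_coprime_mem p R
      (fun g hg => Subgroup.subset_closure hg)
  have hkR : φ.ker ≤ (QuotientGroup.mk' R).ker := by
    intro x hx
    rw [QuotientGroup.ker_mk']
    exact Subgroup.subset_closure (hker x hx)
  let ψ : B →* A ⧸ R := φ.liftOfSurjective hφ ⟨QuotientGroup.mk' R, hkR⟩
  have hψ : ∀ a : A, ψ (φ a) = QuotientGroup.mk' R a := by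
    intro a
    exact MonoidHom.liftOfRightInverse_comp_apply _ _ _ _ a
  have hψs : Function.Surjective ψ := by
    intro q
    obtain ⟨a, rfl⟩ := QuotientGroup.mk'_surjective R q
    exact ⟨φ a, hψ a⟩
  haveI : Group.IsPerfect (A ⧸ R) := Group.IsPerfect.ofSurjective hψs
  by_contra hne
  haveI : Nontrivial (A ⧸ R) := by
    by_contra hnt
    rw [not_nontrivial_iff_subsingleton] at hnt
    exact hne (QuotientGroup.subgroup_eq_top_of_subsingleton R hnt)
  haveI : Group.IsNilpotent (A ⧸ R) := hp.isNilpotent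
  exact Group.IsPerfect.not_isSolvable (A ⧸ R) inferInstance

/-- the layer is perfect -/
theorem layer_perfect (G : Type*) [Group G] : ⁅Cfsg.layer G, Cfsg.layer G⁆ = Cfsg.layer G := by
  apply le_antisymm
  · rw [Subgroup.commutator_le]
    intro a ha b hb
    exact (Cfsg.layer G).mul_mem ((Cfsg.layer G).mul_mem ((Cfsg.layer G).mul_mem ha hb)
      ((Cfsg.layer G).inv_mem ha)) ((Cfsg.layer G).inv_mem hb)
  · apply sSup_le
    intro K hK
    have hKp : Group.IsPerfect ↥K := hK.2.1
    have h1 : ⁅K, K⁆ = K := Subgroup.isPerfect_iff.mp hKp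
    have hle : K ≤ Cfsg.layer G := le_sSup hK
    calc K = ⁅K, K⁆ := h1.symm
      _ ≤ ⁅Cfsg.layer G, Cfsg.layer G⁆ := Subgroup.commutator_mono hle hle

instance layer_isPerfect (G : Type*) [Group G] : Group.IsPerfect ↥(Cfsg.layer G) :=
  Subgroup.isPerfect_iff.mpr (layer_perfect G)

/-- the layer commutes with every solvable normal subgroup -/
theorem layer_commute_normal_solvable {G : Type u} [Group G] [Finite G] (H : Subgroup G)
    [hH : H.Normal] (hs : Group.IsSolvable ↥H) : ⁅Cfsg.layer G, H⁆ = ⊥ := by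
  rw [Subgroup.commutator_eq_bot_iff_le_centralizer]
  apply sSup_le
  intro L hL
  rw [← Subgroup.commutator_eq_bot_iff_le_centralizer]
  exact component_commute_solvable_subnormal L H hL hH.isSubnormal hs

/-- the preimage of the layer of `M / O_{p'}(M)` commutes with every normal `p`-subgroup -/
theorem layerPre_commute_normal_pgroup {M : Type u} [Group M] [Finite M] (p : ℕ) [Fact p.Prime]
    (R : Subgroup M) [hRn : R.Normal] (hR : IsPGroup p ↥R) :
    ⁅(Cfsg.layer (M ⧸ Cfsg.pPrimeCore p M)).comap (QuotientGroup.mk' (Cfsg.pPrimeCore p M)), R⁆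
      = ⊥ := by
  set D := Cfsg.pPrimeCore p M with hD
  have hsurj : Function.Surjective (QuotientGroup.mk' D) := QuotientGroup.mk'_surjective D
  haveI hRbn : (R.map (QuotientGroup.mk' D)).Normal := hRn.map _ hsurj
  have hRs : Group.IsSolvable ↥R := by
    haveI : Group.IsNilpotent ↥R := hR.isNilpotent
    infer_instance
  have hRbs : Group.IsSolvable ↥(R.map (QuotientGroup.mk' D)) :=
    Group.isSolvable_of_surjective ((QuotientGroup.mk' D).subgroupMap_surjective R)
  have h1 := layer_commute_normal_solvable (R.map (QuotientGroup.mk' D)) hRbs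
  rw [eq_bot_iff, Subgroup.commutator_le]
  intro x hx r hr
  rw [Subgroup.mem_bot]
  have hxr : ⁅x, r⁆ ∈ D := by
    rw [← QuotientGroup.eq_one_iff]
    have e : ((⁅x, r⁆ : M) : M ⧸ D) = ⁅QuotientGroup.mk' D x, QuotientGroup.mk' D r⁆ := by
      simp [commutatorElement_def]
    rw [e]
    have hmem : ⁅QuotientGroup.mk' D x, QuotientGroup.mk' D r⁆ ∈
        ⁅Cfsg.layer (M ⧸ D), R.map (QuotientGroup.mk' D)⁆ :=
      Subgroup.commutator_mem_commutator hx ⟨r, hr, rfl⟩
    rw [h1, Subgroup.mem_bot] at hmem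
    exact hmem
  have hxr2 : ⁅x, r⁆ ∈ R := by
    rw [commutatorElement_def]
    exact R.mul_mem (hRn.conj_mem r hr x) (R.inv_mem hr)
  have hbot : R ⊓ D = ⊥ :=
    Cfsg.Agent.Lib.Helper5_PPrime.inf_eq_bot_of_pGroup_of_coprime hR
      (Cfsg.Agent.Lib.Helper5_PPrime.pPrimeCore_coprime p M)
  have : ⁅x, r⁆ ∈ R ⊓ D := ⟨hxr2, hxr⟩
  rw [hbot, Subgroup.mem_bot] at this
  exact this

/-- the preimage of the layer of `M / O_{p'}(M)` lies in any subgroup containing its
`p'`-elements -/
theorem layerPre_le_of_pprime_mem {M : Type u} [Group M] [Finite M] (p : ℕ) [Fact p.Prime]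
    (C : Subgroup M)
    (hC : ∀ x ∈ (Cfsg.layer (M ⧸ Cfsg.pPrimeCore p M)).comap
      (QuotientGroup.mk' (Cfsg.pPrimeCore p M)), (orderOf x).Coprime p → x ∈ C) :
    (Cfsg.layer (M ⧸ Cfsg.pPrimeCore p M)).comap (QuotientGroup.mk' (Cfsg.pPrimeCore p M)) ≤ C := by
  set D := Cfsg.pPrimeCore p M with hD
  set X' := (Cfsg.layer (M ⧸ D)).comap (QuotientGroup.mk' D) with hX'
  let φ : ↥X' →* ↥(Cfsg.layer (M ⧸ D)) := (QuotientGroup.mk' D).subgroupComap (Cfsg.layer (M ⧸ D))
  have hφ : Function.Surjective φ :=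
    (QuotientGroup.mk' D).subgroupComap_surjective_of_surjective _ (QuotientGroup.mk'_surjective D)
  have hker : ∀ x ∈ φ.ker, (orderOf x).Coprime p := by
    intro x hx
    rw [MonoidHom.mem_ker] at hx
    have h1 : QuotientGroup.mk' D (x : M) = 1 := congrArg Subtype.val hx
    have h2 : (x : M) ∈ D := (QuotientGroup.eq_one_iff _).mp h1
    have h3 : orderOf (x : M) ∣ Nat.card ↥D := by
      have := orderOf_dvd_natCard (⟨(x : M), h2⟩ : ↥D)
      rwa [Subgroup.orderOf_mk] at this
    rw [← Subgroup.orderOf_coe]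
    exact Nat.Coprime.coprime_dvd_left h3 (Cfsg.Agent.Lib.Helper5_PPrime.pPrimeCore_coprime p M)
  have hgen := closure_pprime_of_surjective p φ hφ hker
  intro x hx
  have hx' : (⟨x, hx⟩ : ↥X') ∈ Subgroup.closure {y : ↥X' | (orderOf y).Coprime p} := by
    rw [hgen]; trivial
  have hle : Subgroup.closure {y : ↥X' | (orderOf y).Coprime p} ≤ C.comap X'.subtype := by
    rw [Subgroup.closure_le]
    intro y hy
    show (y : M) ∈ C
    apply hC _ y.2
    rw [Subgroup.orderOf_coe]; exact hy
  exact hle hx'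

end Cfsg.Agent.Lib.Helper3_LayerPre
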