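import Mathlib

namespace Cfsg.Agent.Lib.Helper3_SupNormalizer

open scoped Pointwise

variable {G : Type*} [Group G]

/-- elements of `X ⊔ Y` are products when `Y` normalizes `X`. -/
theorem exists_mul_of_mem_sup (X Y : Subgroup G) (hn : Y ≤ Subgroup.normalizer (X : Set G))
    {g : G} (hg : g ∈ X ⊔ Y) : ∃ x ∈ X, ∃ y ∈ Y, g = x * y := by
  have hg' : g ∈ (↑(X ⊔ Y) : Set G) := hg
  rw [Subgroup.coe_mul_of_right_le_normalizer_left X Y hn] at hg'
  obtain ⟨x, hx, y, hy, rfl⟩ := hg'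
  exact ⟨x, hx, y, hy, rfl⟩

/-- `X ⊔ Y` is solvable when `X`, `Y` are and `Y` normalizes `X`. -/
theorem isSolvable_sup_of_le_normalizer (X Y : Subgroup G)
    (hn : Y ≤ Subgroup.normalizer (X : Set G)) [hX : Group.IsSolvable ↥X] [hY : Group.IsSolvable ↥Y] :
    Group.IsSolvable ↥(X ⊔ Y) := by
  have hnorm : (X.subgroupOf (X ⊔ Y)).Normal := by
    have := Subgroup.normal_subgroupOf_sup_of_le_normalizer hn
    rwa [sup_comm] at this
  let f : ↥X →* ↥(X ⊔ Y) := Subgroup.inclusion le_sup_left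
  let g : ↥(X ⊔ Y) →* ↥(X ⊔ Y) ⧸ X.subgroupOf (X ⊔ Y) := QuotientGroup.mk' _
  let φ : ↥Y →* ↥(X ⊔ Y) ⧸ X.subgroupOf (X ⊔ Y) := g.comp (Subgroup.inclusion le_sup_right)
  have hφ : Function.Surjective φ := by
    intro q
    obtain ⟨j, rfl⟩ := QuotientGroup.mk'_surjective _ q
    obtain ⟨x, hx, y, hy, hj⟩ := exists_mul_of_mem_sup X Y hn j.2
    refine ⟨⟨y, hy⟩, ?_⟩
    show g (Subgroup.inclusion le_sup_right ⟨y, hy⟩) = g j
    have e : j = (Subgroup.inclusion le_sup_left ⟨x, hx⟩ : ↥(X ⊔ Y)) *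
        Subgroup.inclusion le_sup_right ⟨y, hy⟩ := by
      apply Subtype.ext; exact hj
    rw [e, map_mul]
    have : g (Subgroup.inclusion le_sup_left ⟨x, hx⟩) = 1 := by
      show (QuotientGroup.mk' (X.subgroupOf (X ⊔ Y))) _ = 1
      rw [QuotientGroup.mk'_apply, QuotientGroup.eq_one_iff, Subgroup.mem_subgroupOf]
      exact hx
    rw [this, one_mul]
  have : Group.IsSolvable (↥(X ⊔ Y) ⧸ X.subgroupOf (X ⊔ Y)) := Group.isSolvable_of_surjective hφ
  refine Group.isSolvable_of_ker_le_range f g ?_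
  intro j hj
  rw [QuotientGroup.ker_mk'] at hj
  rw [Subgroup.mem_subgroupOf] at hj
  exact ⟨⟨j, hj⟩, Subtype.ext rfl⟩

/-- `|X ⊔ Y|` divides `|X| * |Y|` when `Y` normalizes `X`. -/
theorem card_sup_dvd_of_le_normalizer [Finite G] (X Y : Subgroup G)
    (hn : Y ≤ Subgroup.normalizer (X : Set G)) :
    Nat.card ↥(X ⊔ Y) ∣ Nat.card ↥X * Nat.card ↥Y := by
  have h1 : X.relIndex (Y ⊔ X) = X.relIndex Y := by
    have i1 := Subgroup.normal_subgroupOf_of_le_normalizer hn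
    have i2 := Subgroup.normal_subgroupOf_sup_of_le_normalizer hn
    exact (Nat.card_congr (QuotientGroup.quotientInfEquivProdNormalizerQuotient Y X hn).toEquiv).symm
  have h3 : Nat.card (X.subgroupOf (X ⊔ Y)) * X.relIndex (X ⊔ Y) = Nat.card (X ⊔ Y : Subgroup G) :=
    Subgroup.card_mul_index _
  have h4 : Nat.card (X.subgroupOf (X ⊔ Y)) = Nat.card ↥X :=
    Nat.card_congr (Subgroup.subgroupOfEquivOfLe le_sup_left).toEquiv
  rw [← h3, h4, sup_comm, h1]
  exact Nat.mul_dvd_mul_left _ (Subgroup.relIndex_dvd_card X Y)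

end Cfsg.Agent.Lib.Helper3_SupNormalizer
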