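import Mathlib
import Cfsg.Prelude.Def_Local
import Cfsg.Agent.Lib.Helper3_Components
import Cfsg.Agent.Lib.Helper3_Transport
import Cfsg.Agent.Lib.Helper3_Tight
import Cfsg.Agent.Lib.Lead_Coprime
import Cfsg.Agent.Lib.Lead_Fitting
import Cfsg.Agent.S1265
import Cfsg.Agent.S1317
import Cfsg.Agent.S1318

set_option autoImplicit false

namespace Cfsg.Agent.Lib.Helper3_CommDecomp
open Cfsg
open scoped commutatorElement

universe u
variable {G : Type u} [Group G]

theorem layer_char (A : Type*) [Group A] : (layer A).Characteristic :=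
  Subgroup.characteristic_iff_map_eq.mpr
    (fun e => Cfsg.Agent.Lib.Helper3_Transport.layer_map_equiv e)

theorem fitting_char (A : Type*) [Group A] : (fittingSubgroup A).Characteristic :=
  Subgroup.characteristic_iff_map_eq.mpr
    (fun e => Cfsg.Agent.Lib.Helper3_Transport.fitting_map_equiv e)

/-- the layer part: `E(L) = C_{E(L)}(Y) [E(L), Y]` for `Y` normalizing `L` -/
theorem layer_decomp [Finite G] (L Y : Subgroup G)
    (hYL : Y ≤ Subgroup.normalizer (L : Set G)) :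
    (layer ↥L).map L.subtype ≤
      ((layer ↥L).map L.subtype ⊓ Subgroup.centralizer (Y : Set G)) ⊔
        ⁅(layer ↥L).map L.subtype, Y⁆ := by
  classical
  haveI := layer_char ↥L
  have hEL : (layer ↥L).map L.subtype ≤ L := Subgroup.map_subtype_le _
  have hYE : Y ≤ Subgroup.normalizer (((layer ↥L).map L.subtype : Subgroup G) : Set G) :=
    hYL.trans (Cfsg.Agent.Lib.Lead_Coprime.normalizer_le_normalizer_char_map (layer ↥L))
  set E := (layer ↥L).map L.subtype with hE
  set K := ⁅E, Y⁆ with hK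
  have hKE : K ≤ E := Cfsg.Agent.Lib.Lead_Coprime.commutator_le_of_le_normalizer E Y hYE
  have hEK : E ≤ Subgroup.normalizer (K : Set G) :=
    Cfsg.Agent.Lib.Lead_Coprime.le_normalizer_commutator_left E Y
  set K' := K.subgroupOf L with hK'
  have hK'le : K' ≤ layer ↥L := by
    intro x hx
    have hx1 : (x : G) ∈ E := hKE (Subgroup.mem_subgroupOf.mp hx)
    obtain ⟨y, hy, hyx⟩ := hx1
    have : y = x := Subtype.ext hyx
    rw [← this]; exact hy
  have hK'n : (K'.subgroupOf (layer ↥L)).Normal := by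
    apply Subgroup.normal_subgroupOf_of_le_normalizer
    intro e he
    rw [Subgroup.mem_normalizer_iff]
    intro k
    have heE : (e : G) ∈ E := ⟨e, he, rfl⟩
    have := Subgroup.mem_normalizer_iff.mp (hEK heE) (k : G)
    simp only [hK', Subgroup.mem_subgroupOf]
    exact this
  have hK'sn : K'.IsSubnormal :=
    Subgroup.IsSubnormal.trans hK'le hK'n.isSubnormal
      (Cfsg.Agent.S1265.layer_normal ↥L).isSubnormal
  have key : ∀ C' : Subgroup ↥L, IsComponent C' →
      C'.map L.subtype ≤ K ∨ ⁅C'.map L.subtype, K⁆ = ⊥ := by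
    intro C' hC'
    rcases Cfsg.Agent.Lib.Helper3_Components.component_le_or_commute C' K' hC' hK'sn with h | h
    · left
      calc C'.map L.subtype ≤ K'.map L.subtype := Subgroup.map_mono h
        _ ≤ K := by rw [hK', Subgroup.subgroupOf_map_subtype]; exact inf_le_left
    · right
      have h1 := congrArg (Subgroup.map L.subtype) h
      rw [Subgroup.map_commutator, Subgroup.map_bot, hK', Subgroup.subgroupOf_map_subtype,
        inf_eq_left.mpr (hKE.trans hEL)] at h1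
      exact h1
  set E2 := sSup {C : Subgroup G | (∃ C' : Subgroup ↥L, IsComponent C' ∧ C'.map L.subtype = C) ∧
    ⁅C, K⁆ = ⊥} with hE2
  have hE2E : E2 ≤ E := by
    apply sSup_le
    rintro C ⟨⟨C', hC', rfl⟩, _⟩
    exact Subgroup.map_mono (le_sSup hC')
  have hE2K : ⁅E2, K⁆ = ⊥ := by
    rw [Subgroup.commutator_eq_bot_iff_le_centralizer]
    apply sSup_le
    rintro C ⟨_, hCK⟩
    rw [Subgroup.commutator_eq_bot_iff_le_centralizer] at hCK
    exact hCK
  have hE2perf : E2 ≤ ⁅E2, E2⁆ := by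
    apply sSup_le
    rintro C ⟨⟨C', hC', rfl⟩, hCK⟩
    have hp : ⁅C', C'⁆ = C' := Subgroup.isPerfect_iff.mp hC'.2.1
    have h1 : ⁅C'.map L.subtype, C'.map L.subtype⁆ = C'.map L.subtype := by
      rw [← Subgroup.map_commutator, hp]
    have hle : C'.map L.subtype ≤ E2 := le_sSup ⟨⟨C', hC', rfl⟩, hCK⟩
    calc C'.map L.subtype = ⁅C'.map L.subtype, C'.map L.subtype⁆ := h1.symm
      _ ≤ ⁅E2, E2⁆ := Subgroup.commutator_mono hle hle
  have hE2U : ⁅E2, Y⁆ ≤ K := Subgroup.commutator_mono hE2E le_rfl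
  have h1 : ⁅⁅E2, Y⁆, E2⁆ = ⊥ := by
    rw [eq_bot_iff, ← hE2K, Subgroup.commutator_comm E2 K]
    exact Subgroup.commutator_mono hE2U le_rfl
  have h2 : ⁅⁅Y, E2⁆, E2⁆ = ⊥ := by
    rw [Subgroup.commutator_comm Y E2]; exact h1
  have h3 : ⁅⁅E2, E2⁆, Y⁆ = ⊥ := Subgroup.commutator_commutator_eq_bot_of_rotate h1 h2
  have h4 : ⁅E2, Y⁆ = ⊥ := by
    rw [eq_bot_iff, ← h3]
    exact Subgroup.commutator_mono hE2perf le_rfl
  rw [Subgroup.commutator_eq_bot_iff_le_centralizer] at h4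
  rw [hE, Subgroup.map_le_iff_le_comap]
  apply sSup_le
  intro C' hC'
  rw [← Subgroup.map_le_iff_le_comap]
  rcases key C' hC' with h | h
  · exact h.trans le_sup_right
  · have hle : C'.map L.subtype ≤ E2 := le_sSup ⟨⟨C', hC', rfl⟩, h⟩
    exact (le_inf (hle.trans hE2E) (hle.trans h4)).trans le_sup_left

/-- coprime action, as a statement about joins -/
theorem coprime_decomp [Finite G] (F Y : Subgroup G)
    (hYF : Y ≤ Subgroup.normalizer (F : Set G))
    (hcop : (Nat.card Y).Coprime (Nat.card F)) (hsolv : Group.IsSolvable F) :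
    F ≤ ⁅F, Y⁆ ⊔ (F ⊓ Subgroup.centralizer (Y : Set G)) := by
  intro k hk
  obtain ⟨n, hn, c, hc, rfl⟩ :=
    Cfsg.Agent.Lib.Lead_Coprime.decomp Y F hYF hcop (Or.inr hsolv) k hk
  exact Subgroup.mul_mem_sup hn hc

/-- `[L, Y] = [L, Y, Y]` from `L = [L, Y] C_L(Y)` -/
theorem comm_comm_eq (L Y : Subgroup G) (hYL : Y ≤ Subgroup.normalizer (L : Set G))
    (h : ⁅L, Y⁆ ⊔ (L ⊓ Subgroup.centralizer (Y : Set G)) = L) : ⁅L, Y⁆ = ⁅⁅L, Y⁆, Y⁆ := by
  apply le_antisymm
  · rw [Subgroup.commutator_le]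
    intro l hl y hy
    have hLK : L ≤ Subgroup.normalizer ((⁅L, Y⁆ : Subgroup G) : Set G) :=
      Cfsg.Agent.Lib.Lead_Coprime.le_normalizer_commutator_left L Y
    have hl' : l ∈ ⁅L, Y⁆ ⊔ (L ⊓ Subgroup.centralizer (Y : Set G)) := by rw [h]; exact hl
    obtain ⟨k, hk, c, hc, rfl⟩ := Cfsg.Agent.Lib.Helper3_Tight.mem_sup_of_le_normalizer ⁅L, Y⁆
      (L ⊓ Subgroup.centralizer (Y : Set G)) (inf_le_left.trans hLK) l hl'
    have hcy : y * c = c * y := Subgroup.mem_centralizer_iff.mp hc.2 y hy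
    have e : ⁅k * c, y⁆ = ⁅k, y⁆ := by
      simp only [commutatorElement_def]
      have h5 : c * y * c⁻¹ = y := by rw [← hcy]; group
      calc k * c * y * (k * c)⁻¹ * y⁻¹ = k * (c * y * c⁻¹) * k⁻¹ * y⁻¹ := by group
        _ = k * y * k⁻¹ * y⁻¹ := by rw [h5]
    rw [e]
    exact Subgroup.commutator_mem_commutator hk hy
  · exact Subgroup.commutator_mono
      (Cfsg.Agent.Lib.Lead_Coprime.commutator_le_of_le_normalizer L Y hYL) le_rfl

/-- if `O_p(A) = 1` then `F(A)` is a `p'`-group -/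
theorem fitting_coprime_of_pCore_bot {A : Type*} [Group A] [Finite A] (p : ℕ) [hp : Fact p.Prime]
    (h : pCore p A = ⊥) : (Nat.card ↥(fittingSubgroup A)).Coprime p := by
  rw [Cfsg.Agent.Lib.Lead_Fitting.fitting_eq]
  rw [Nat.coprime_comm, Nat.Prime.coprime_iff_not_dvd hp.out]
  intro hdvd
  let P : Sylow p ↥(Cfsg.Agent.Lib.Lead_Fitting.F0 A) := default
  have h1 := Cfsg.Agent.Lib.Lead_Fitting.sylow_F0 A p P
  rw [h, Subgroup.bot_subgroupOf] at h1
  exact P.ne_bot_of_dvd_card hdvd h1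

end Cfsg.Agent.Lib.Helper3_CommDecomp
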