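import Mathlib
import Cfsg.Prelude.Def_Local
import Cfsg.Agent.Lib.Helper3_CommDecomp
import Cfsg.Agent.S1320

set_option autoImplicit false

namespace Cfsg.Agent.Lib.Helper3_CommDecomp2
open Cfsg Cfsg.Agent.Lib.Helper3_CommDecomp
open scoped commutatorElement

universe u

/-- `F*(A) ∩ B = F*(B)` for subnormal `B` -/
theorem gf_inf_subnormal {A : Type u} [Group A] [Finite A] (B : Subgroup A) (hB : B.IsSubnormal) :
    generalizedFittingSubgroup A ⊓ B = (generalizedFittingSubgroup ↥B).map B.subtype := by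
  induction hB with
  | top =>
    rw [inf_top_eq]
    have h := Cfsg.Agent.Lib.Helper3_Transport.gf_map_equiv (Subgroup.topEquiv (G := A))
    rw [← h]
    rfl
  | step B K hBK hK hN ih =>
    haveI := hN
    have h1 := Cfsg.Agent.S1320.result (A := ↥K) (B.subgroupOf K)
    have h2 := congrArg (Subgroup.map K.subtype) h1
    rw [Subgroup.map_inf _ _ _ (Subgroup.subtype_injective K), ← ih,
      Subgroup.subgroupOf_map_subtype] at h2
    have h3 : generalizedFittingSubgroup A ⊓ B = generalizedFittingSubgroup A ⊓ K ⊓ (B ⊓ K) := by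
      rw [inf_eq_left.mpr hBK, inf_assoc, inf_eq_right.mpr hBK]
    rw [h3, h2]
    have h4 := Cfsg.Agent.Lib.Helper3_Transport.gf_map_equiv (Subgroup.subgroupOfEquivOfLe hBK)
    rw [← h4, Subgroup.map_map, Subgroup.map_map]
    rfl

variable {A : Type u} [Group A] [Finite A]

/-- the main decomposition lemma -/
theorem lemmaM {p : ℕ} [hp : Fact p.Prime] (hO : pCore p A = ⊥) (Y : Subgroup A)
    (hY : IsPGroup p ↥Y) (L : Subgroup A) (hLF : L ≤ generalizedFittingSubgroup A)
    (hLsn : L.IsSubnormal) (hYL : Y ≤ Subgroup.normalizer (L : Set A)) :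
    ⁅L, Y⁆ ⊔ (L ⊓ Subgroup.centralizer (Y : Set A)) = L ∧ ⁅L, Y⁆ = ⁅⁅L, Y⁆, Y⁆ := by
  classical
  have hdec := Cfsg.Agent.S1318.decomposition L hLF hLsn
  have hfit := Cfsg.Agent.S1318.fitting_subnormal L hLsn
  have hsup : L ≤ (fittingSubgroup ↥L).map L.subtype ⊔ (layer ↥L).map L.subtype := by
    intro l hl
    obtain ⟨e1, c, he1, hc, rfl⟩ := hdec l hl
    rw [← hfit] at hc
    rw [sup_comm]
    exact Subgroup.mul_mem_sup he1 hc
  haveI := fitting_char ↥L
  have hYF : Y ≤ Subgroup.normalizer (((fittingSubgroup ↥L).map L.subtype : Subgroup A) : Set A) :=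
    hYL.trans (Cfsg.Agent.Lib.Lead_Coprime.normalizer_le_normalizer_char_map (fittingSubgroup ↥L))
  have hcopH := fitting_coprime_of_pCore_bot p hO
  have hcardF : Nat.card ↥((fittingSubgroup ↥L).map L.subtype) ∣ Nat.card ↥(fittingSubgroup A) := by
    rw [hfit]
    exact Subgroup.card_dvd_of_le inf_le_left
  have hcop : (Nat.card ↥Y).Coprime (Nat.card ↥((fittingSubgroup ↥L).map L.subtype)) := by
    obtain ⟨k, hk⟩ := IsPGroup.iff_card.mp hY
    rw [hk]
    apply Nat.Coprime.pow_left
    exact (Nat.Coprime.coprime_dvd_left hcardF hcopH).symm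
  have hsolv : Group.IsSolvable ↥((fittingSubgroup ↥L).map L.subtype) := by
    haveI := Cfsg.Agent.S1317.fitting_nilpotent ↥L
    haveI : Group.IsNilpotent ↥((fittingSubgroup ↥L).map L.subtype) :=
      Group.nilpotent_of_mulEquiv ((fittingSubgroup ↥L).equivMapOfInjective _
        (Subgroup.subtype_injective _))
    infer_instance
  have hF := coprime_decomp _ Y hYF hcop hsolv
  have hE := layer_decomp L Y hYL
  have hFL : (fittingSubgroup ↥L).map L.subtype ≤ L := Subgroup.map_subtype_le _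
  have hEL : (layer ↥L).map L.subtype ≤ L := Subgroup.map_subtype_le _
  have hmain : ⁅L, Y⁆ ⊔ (L ⊓ Subgroup.centralizer (Y : Set A)) = L := by
    apply le_antisymm
    · exact sup_le (Cfsg.Agent.Lib.Lead_Coprime.commutator_le_of_le_normalizer L Y hYL) inf_le_left
    · refine hsup.trans (sup_le ?_ ?_)
      · refine hF.trans (sup_le ?_ ?_)
        · exact (Subgroup.commutator_mono hFL le_rfl).trans le_sup_left
        · exact (inf_le_inf_right _ hFL).trans le_sup_right
      · refine hE.trans (sup_le ?_ ?_)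
        · exact (inf_le_inf_right _ hEL).trans le_sup_right
        · exact (Subgroup.commutator_mono hEL le_rfl).trans le_sup_left
  exact ⟨hmain, comm_comm_eq L Y hYL hmain⟩

omit [Finite A] in
/-- a subgroup `M = [M, Y]` lies in every subnormal subgroup containing `Y` -/
theorem comm_le_subnormal (M Y K : Subgroup A) (hM : M = ⁅M, Y⁆) (hK : K.IsSubnormal)
    (hYK : Y ≤ K) : M ≤ K := by
  induction hK with
  | top => exact le_top
  | step B K hBK hK hN ih =>
    have hMK : M ≤ K := ih (hYK.trans hBK)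
    rw [hM]
    have h1 : ⁅M, Y⁆ ≤ ⁅K, B⁆ := Subgroup.commutator_mono hMK hYK
    refine h1.trans ?_
    rw [Subgroup.commutator_le]
    intro k hk b hb
    have hn := hN.conj_mem ⟨b, hBK hb⟩ (Subgroup.mem_subgroupOf.mpr hb) ⟨k, hk⟩
    have hn' : k * b * k⁻¹ ∈ B := Subgroup.mem_subgroupOf.mp hn
    have e : ⁅k, b⁆ = (k * b * k⁻¹) * b⁻¹ := by simp only [commutatorElement_def]
    rw [e]
    exact B.mul_mem hn' (B.inv_mem hb)

/-- a `p`-subgroup centralizing `F*(A)` is trivial when `O_p(A) = 1` -/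
theorem pgroup_centralizing_gf {p : ℕ} [hp : Fact p.Prime] (hO : pCore p A = ⊥) (Y : Subgroup A)
    (hY : IsPGroup p ↥Y) (h : ⁅generalizedFittingSubgroup A, Y⁆ = ⊥) : Y = ⊥ := by
  haveI := Cfsg.Agent.S1265.gf_normal A
  have hYc : Y ≤ Subgroup.centralizer (generalizedFittingSubgroup A : Set A) := by
    rw [Subgroup.commutator_comm, Subgroup.commutator_eq_bot_iff_le_centralizer] at h
    exact h
  have hYF : Y ≤ generalizedFittingSubgroup A := hYc.trans Cfsg.Agent.S1265.result
  set Z := generalizedFittingSubgroup A ⊓ Subgroup.centralizer (generalizedFittingSubgroup A : Set A)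
    with hZ
  have hZn : Z.Normal := inferInstance
  have hZc : IsMulCommutative ↥Z := ⟨⟨fun a b => by
    apply Subtype.ext
    have ha : (a : A) ∈ generalizedFittingSubgroup A := a.2.1
    have hb := Subgroup.mem_centralizer_iff.mp b.2.2 (a : A) ha
    exact hb⟩⟩
  have hZnil : Group.IsNilpotent ↥Z := ⟨⟨1, Subgroup.upperCentralSeries_one_eq_top_iff.mpr hZc⟩⟩
  have hZF : Z ≤ fittingSubgroup A := le_sSup ⟨hZn, hZnil⟩
  have hcop := fitting_coprime_of_pCore_bot p hO
  have hdvd : Nat.card ↥Y ∣ Nat.card ↥(fittingSubgroup A) :=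
    Subgroup.card_dvd_of_le ((le_inf hYF hYc).trans hZF)
  obtain ⟨k, hk⟩ := IsPGroup.iff_card.mp hY
  have h1 : (Nat.card ↥Y).Coprime p := Nat.Coprime.coprime_dvd_left hdvd hcop
  rw [hk] at h1
  have hk0 : k = 0 := by
    by_contra hk0
    have := (Nat.coprime_pow_left_iff (Nat.pos_of_ne_zero hk0) p p).mp h1
    exact hp.out.one_lt.ne' ((Nat.coprime_self p).mp this)
  rw [hk0, pow_zero] at hk
  exact Subgroup.card_eq_one.mp hk

end Cfsg.Agent.Lib.Helper3_CommDecomp2
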