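import Mathlib
import Cfsg.Prelude.Def_Solvable
import Cfsg.Prelude.Def_Amalgam

set_option autoImplicit false

/-!
Groups of characteristic `p` (helper5): basic facts about `Cfsg.pCore`, `Cfsg.pCoreOf`,
coprime action on `p`-groups, Thompson's `A × B` lemma, and the standard inheritance
properties of "characteristic `p`".
-/

namespace Cfsg.Agent.Lib.Helper5_CharP

open Cfsg

section basics

variable {G : Type*} [Group G]

theorem pCore_normal (p : ℕ) (G : Type*) [Group G] : (Cfsg.pCore p G).Normal := by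
  unfold Cfsg.pCore
  exact Subgroup.sSup_normal _ (fun H hH => hH.1)

theorem normal_pGroup_le_sylow {p : ℕ}
    (N : Subgroup G) (hN : N.Normal) (hp : IsPGroup p N) (P : Sylow p G) :
    N ≤ (P : Subgroup G) := by
  have h1 : IsPGroup p ((P : Subgroup G) ⊔ N : Subgroup G) :=
    IsPGroup.to_sup_of_normal_right P.isPGroup' hp
  have h2 : (P : Subgroup G) ⊔ N = P := P.is_maximal' h1 le_sup_left
  calc N ≤ (P : Subgroup G) ⊔ N := le_sup_right
    _ = P := h2

theorem pCore_le_sylow {p : ℕ} (P : Sylow p G) :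
    Cfsg.pCore p G ≤ (P : Subgroup G) := by
  unfold Cfsg.pCore
  apply sSup_le
  intro N hN
  exact normal_pGroup_le_sylow N hN.1 hN.2 P

theorem pCore_isPGroup {p : ℕ} [Fact p.Prime] :
    IsPGroup p (Cfsg.pCore p G) := by
  obtain ⟨P⟩ : Nonempty (Sylow p G) := inferInstance
  exact P.isPGroup'.to_le (pCore_le_sylow P)

theorem le_pCore {p : ℕ} (N : Subgroup G) (hN : N.Normal)
    (hp : IsPGroup p N) : N ≤ Cfsg.pCore p G := by
  unfold Cfsg.pCore
  exact le_sSup ⟨hN, hp⟩

theorem pCoreOf_le (p : ℕ) (L : Subgroup G) : Cfsg.pCoreOf p L ≤ L := by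
  unfold Cfsg.pCoreOf
  exact Subgroup.map_subtype_le _

theorem pCoreOf_isPGroup (p : ℕ) [Fact p.Prime] (L : Subgroup G) :
    IsPGroup p (Cfsg.pCoreOf p L) := by
  unfold Cfsg.pCoreOf
  exact pCore_isPGroup.map _

theorem mem_pCoreOf_iff (p : ℕ) (L : Subgroup G) (x : G) :
    x ∈ Cfsg.pCoreOf p L ↔ ∃ h : x ∈ L, (⟨x, h⟩ : L) ∈ Cfsg.pCore p L := by
  unfold Cfsg.pCoreOf
  constructor
  · rintro ⟨y, hy, rfl⟩
    exact ⟨y.2, hy⟩
  · rintro ⟨h, hy⟩
    exact ⟨⟨x, h⟩, hy, rfl⟩

theorem le_pCoreOf {p : ℕ} {S L : Subgroup G} (hSL : S ≤ L) (hS : IsPGroup p S)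
    (hn : L ≤ Subgroup.normalizer (S : Set G)) : S ≤ Cfsg.pCoreOf p L := by
  have hnorm : (S.subgroupOf L).Normal :=
    (Subgroup.normal_subgroupOf_iff_le_normalizer hSL).2 hn
  have hp : IsPGroup p (S.subgroupOf L) :=
    hS.of_equiv (Subgroup.subgroupOfEquivOfLe hSL).symm
  have h1 : S.subgroupOf L ≤ Cfsg.pCore p L := le_pCore _ hnorm hp
  intro x hx
  rw [mem_pCoreOf_iff]
  exact ⟨hSL hx, h1 (by simpa [Subgroup.mem_subgroupOf] using hx)⟩

theorem mem_normalizer_of_forall_conj_mem {H : Subgroup G} {g : G}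
    (h1 : ∀ h ∈ H, g * h * g⁻¹ ∈ H) (h2 : ∀ h ∈ H, g⁻¹ * h * g ∈ H) :
    g ∈ Subgroup.normalizer (H : Set G) := by
  rw [Subgroup.mem_normalizer_iff]
  intro h
  constructor
  · exact h1 h
  · intro hh
    have := h2 _ hh
    simpa [mul_assoc] using this

theorem conj_mem_of_mem_normalizer {H : Subgroup G} {g h : G}
    (hg : g ∈ Subgroup.normalizer (H : Set G)) (hh : h ∈ H) : g * h * g⁻¹ ∈ H :=
  (Subgroup.mem_normalizer_iff.1 hg h).1 hh

theorem conj_mem_of_mem_normalizer' {H : Subgroup G} {g h : G}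
    (hg : g ∈ Subgroup.normalizer (H : Set G)) (hh : h ∈ H) : g⁻¹ * h * g ∈ H :=
  (Subgroup.mem_normalizer_iff''.1 hg h).1 hh

theorem le_normalizer_pCoreOf (p : ℕ) (L : Subgroup G) :
    L ≤ Subgroup.normalizer (Cfsg.pCoreOf p L : Set G) := by
  have hn := pCore_normal p L
  intro l hl
  apply mem_normalizer_of_forall_conj_mem
  · intro q hq
    rw [mem_pCoreOf_iff] at hq ⊢
    obtain ⟨hqL, hq⟩ := hq
    refine ⟨L.mul_mem (L.mul_mem hl hqL) (L.inv_mem hl), ?_⟩
    have := hn.conj_mem _ hq ⟨l, hl⟩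
    exact this
  · intro q hq
    rw [mem_pCoreOf_iff] at hq ⊢
    obtain ⟨hqL, hq⟩ := hq
    refine ⟨L.mul_mem (L.mul_mem (L.inv_mem hl) hqL) hl, ?_⟩
    have h3 := hn.conj_mem _ hq ⟨l, hl⟩⁻¹
    rw [inv_inv] at h3
    exact h3

/-- conjugation by an element normalizing `H` maps `O_p(H)` into itself -/
theorem conj_mem_pCoreOf {p : ℕ} [Fact p.Prime] {H : Subgroup G} {g q : G}
    (hg : g ∈ Subgroup.normalizer (H : Set G)) (hq : q ∈ Cfsg.pCoreOf p H) :
    g * q * g⁻¹ ∈ Cfsg.pCoreOf p H := by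
  set Q := Cfsg.pCoreOf p H with hQ
  set Q' : Subgroup G := Q.map (MulAut.conj g).toMonoidHom with hQ'
  have hQH : Q ≤ H := pCoreOf_le p H
  have hQ'H : Q' ≤ H := by
    rintro _ ⟨y, hy, rfl⟩
    simp only [MulEquiv.coe_toMonoidHom, MulAut.conj_apply]
    exact conj_mem_of_mem_normalizer hg (hQH hy)
  have hQ'p : IsPGroup p Q' := (pCoreOf_isPGroup p H).map _
  have hQ'n : H ≤ Subgroup.normalizer (Q' : Set G) := by
    have key : ∀ h ∈ H, ∀ y ∈ Q', h * y * h⁻¹ ∈ Q' := by
      intro h hh y hy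
      obtain ⟨x, hx, rfl⟩ := hy
      simp only [MulEquiv.coe_toMonoidHom, MulAut.conj_apply]
      have h1 : g⁻¹ * h * g ∈ H := conj_mem_of_mem_normalizer' hg hh
      have h2 : (g⁻¹ * h * g) * x * (g⁻¹ * h * g)⁻¹ ∈ Q :=
        conj_mem_of_mem_normalizer (le_normalizer_pCoreOf p H h1) hx
      refine ⟨(g⁻¹ * h * g) * x * (g⁻¹ * h * g)⁻¹, h2, ?_⟩
      simp only [MulEquiv.coe_toMonoidHom, MulAut.conj_apply]
      group
    intro h hh
    apply mem_normalizer_of_forall_conj_mem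
    · exact key h hh
    · intro y hy
      have := key h⁻¹ (H.inv_mem hh) y hy
      simpa using this
  have hle : Q' ≤ Q := le_pCoreOf hQ'H hQ'p hQ'n
  apply hle
  exact ⟨q, hq, by simp⟩

theorem normalizer_le_normalizer_pCoreOf (p : ℕ) [Fact p.Prime] (H : Subgroup G) :
    Subgroup.normalizer (H : Set G) ≤ Subgroup.normalizer (Cfsg.pCoreOf p H : Set G) := by
  intro g hg
  apply mem_normalizer_of_forall_conj_mem
  · intro q hq
    exact conj_mem_pCoreOf hg hq
  · intro q hq
    have := conj_mem_pCoreOf (Subgroup.inv_mem _ hg) hq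
    simpa using this

/-- the characteristic-`p` condition for the group `↥L`, expressed inside the ambient group -/
theorem charP_subgroup_iff (p : ℕ) (L : Subgroup G) :
    Subgroup.centralizer (Cfsg.pCore p ↥L : Set ↥L) ≤ Cfsg.pCore p ↥L ↔
      L ⊓ Subgroup.centralizer (Cfsg.pCoreOf p L : Set G) ≤ Cfsg.pCoreOf p L := by
  constructor
  · intro h x hx
    obtain ⟨hxL, hxC⟩ := hx
    rw [mem_pCoreOf_iff]
    refine ⟨hxL, h ?_⟩
    rw [Subgroup.mem_centralizer_iff]
    intro y hy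
    have hy' : (y : G) ∈ Cfsg.pCoreOf p L := (mem_pCoreOf_iff p L _).2 ⟨y.2, hy⟩
    have := (Subgroup.mem_centralizer_iff.1 hxC) _ hy'
    exact Subtype.ext this
  · intro h y hy
    have hyL : (y : G) ∈ L := y.2
    have hyC : (y : G) ∈ Subgroup.centralizer (Cfsg.pCoreOf p L : Set G) := by
      rw [Subgroup.mem_centralizer_iff]
      intro q hq
      obtain ⟨hqL, hq'⟩ := (mem_pCoreOf_iff p L q).1 hq
      have := (Subgroup.mem_centralizer_iff.1 hy) _ hq'
      exact congrArg Subtype.val this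
    obtain ⟨_, h2⟩ := (mem_pCoreOf_iff p L _).1 (h ⟨hyL, hyC⟩)
    exact h2

theorem pCore_map_equiv_le {H : Type*} [Group H] (p : ℕ) [Fact p.Prime] (e : G ≃* H) :
    (Cfsg.pCore p G).map e.toMonoidHom ≤ Cfsg.pCore p H := by
  apply le_pCore
  · have := pCore_normal p G
    exact Subgroup.Normal.map inferInstance _ e.surjective
  · exact pCore_isPGroup.map _

theorem pCore_map_equiv {H : Type*} [Group H] (p : ℕ) [Fact p.Prime] (e : G ≃* H) :
    (Cfsg.pCore p G).map e.toMonoidHom = Cfsg.pCore p H := by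
  apply le_antisymm (pCore_map_equiv_le p e)
  intro x hx
  have h1 := pCore_map_equiv_le p e.symm
  refine ⟨e.symm x, h1 ⟨x, hx, rfl⟩, ?_⟩
  simp

theorem pCoreOf_top (p : ℕ) [Fact p.Prime] :
    Cfsg.pCoreOf p (⊤ : Subgroup G) = Cfsg.pCore p G := by
  rw [← pCore_map_equiv p (Subgroup.topEquiv : (⊤ : Subgroup G) ≃* G)]
  rfl

end basics

section coprime

variable {G : Type*} [Group G]

/-- If `d x d⁻¹ = x z`, `z` commutes with `d` and the orders of `d` and `z` are coprime,
then `z = 1`. -/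
theorem eq_one_of_conj_eq_mul {d x z : G} (hz : d * x * d⁻¹ = x * z) (hc : Commute d z)
    (hco : (orderOf d).Coprime (orderOf z)) : z = 1 := by
  have key : ∀ n : ℕ, d ^ n * x * (d ^ n)⁻¹ = x * z ^ n := by
    intro n
    induction n with
    | zero => simp
    | succ n ih =>
      have h1 : d ^ (n + 1) * x * (d ^ (n + 1))⁻¹ = d * (d ^ n * x * (d ^ n)⁻¹) * d⁻¹ := by
        rw [pow_succ']
        group
      rw [h1, ih]
      have h2 : d * (x * z ^ n) * d⁻¹ = (d * x * d⁻¹) * (d * z ^ n * d⁻¹) := by group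
      rw [h2, hz]
      have h3 : d * z ^ n * d⁻¹ = z ^ n := by
        have : Commute d (z ^ n) := hc.pow_right n
        rw [this.eq]
        group
      rw [h3, pow_succ', mul_assoc]
  have h := key (orderOf d)
  rw [pow_orderOf_eq_one] at h
  simp only [one_mul, inv_one, mul_one] at h
  have h4 : z ^ orderOf d = 1 := by
    have := congrArg (fun t => x⁻¹ * t) h
    simpa using this.symm
  have h5 : orderOf z ∣ orderOf d := orderOf_dvd_of_pow_eq_one h4
  have h6 : orderOf z = 1 := Nat.Coprime.eq_one_of_dvd hco.symm h5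
  exact orderOf_eq_one_iff.1 h6

theorem eq_one_of_mem_pGroup_of_coprime {p : ℕ} {S : Subgroup G} (hS : IsPGroup p S) {x : G}
    (hx : x ∈ S) (hc : (orderOf x).Coprime p) : x = 1 := by
  obtain ⟨k, hk⟩ := hS ⟨x, hx⟩
  have hk' : x ^ p ^ k = 1 := by
    have := congrArg Subtype.val hk
    simpa using this
  have h1 : orderOf x ∣ p ^ k := orderOf_dvd_of_pow_eq_one hk'
  have h2 : (orderOf x).Coprime (p ^ k) := Nat.Coprime.pow_right k hc
  have h3 : orderOf x = 1 := Nat.Coprime.eq_one_of_dvd h2 h1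
  exact orderOf_eq_one_iff.1 h3

theorem coprime_orderOf_of_mem_pGroup {p : ℕ} {S : Subgroup G} (hS : IsPGroup p S) {z d : G}
    (hz : z ∈ S) (hd : (orderOf d).Coprime p) : (orderOf d).Coprime (orderOf z) := by
  obtain ⟨k, hk⟩ := hS ⟨z, hz⟩
  have hk' : z ^ p ^ k = 1 := by
    have := congrArg Subtype.val hk
    simpa using this
  have h1 : orderOf z ∣ p ^ k := orderOf_dvd_of_pow_eq_one hk'
  exact Nat.Coprime.coprime_dvd_right h1 (Nat.Coprime.pow_right k hd)

/-- a finite subgroup all of whose `p'`-elements are trivial is a `p`-group -/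
theorem isPGroup_of_forall_coprime_eq_one [Finite G] {p : ℕ} [hp : Fact p.Prime] {H : Subgroup G}
    (h : ∀ d ∈ H, (orderOf d).Coprime p → d = 1) : IsPGroup p H := by
  intro g
  have hpos : orderOf (g : G) ≠ 0 := (orderOf_pos (g : G)).ne'
  obtain ⟨k, m, hm, hkm⟩ := Nat.exists_eq_pow_mul_and_not_dvd hpos p hp.out.ne_one
  refine ⟨k, ?_⟩
  have hd : ((g : G) ^ p ^ k) ∈ H := H.pow_mem g.2 _
  have hdm : ((g : G) ^ p ^ k) ^ m = 1 := by
    rw [← pow_mul, ← hkm, pow_orderOf_eq_one]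
  have h1 : orderOf ((g : G) ^ p ^ k) ∣ m := orderOf_dvd_of_pow_eq_one hdm
  have h2 : m.Coprime p := ((Nat.Prime.coprime_iff_not_dvd hp.out).2 hm).symm
  have h3 : (orderOf ((g : G) ^ p ^ k)).Coprime p := Nat.Coprime.coprime_dvd_left h1 h2
  have := h _ hd h3
  exact Subtype.ext (by simpa using this)

end coprime

section charp

variable {G : Type*} [Group G]

/-- `L` has characteristic `p`, expressed inside the ambient group. -/
def CharPSub (p : ℕ) (L : Subgroup G) : Prop :=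
  L ⊓ Subgroup.centralizer (Cfsg.pCoreOf p L : Set G) ≤ Cfsg.pCoreOf p L

theorem charPSub_iff (p : ℕ) (L : Subgroup G) :
    CharPSub p L ↔ Subgroup.centralizer (Cfsg.pCore p ↥L : Set ↥L) ≤ Cfsg.pCore p ↥L :=
  (charP_subgroup_iff p L).symm

theorem charPSub_top_iff (p : ℕ) [Fact p.Prime] :
    CharPSub p (⊤ : Subgroup G) ↔
      Subgroup.centralizer (Cfsg.pCore p G : Set G) ≤ Cfsg.pCore p G := by
  unfold CharPSub
  rw [pCoreOf_top, top_inf_eq]

/-- a subgroup that is a `p`-group and normalized by `L` (and inside `L`) lies in `O_p(L)`;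
to show characteristic `p` it suffices that all `p'`-elements of `C_L(O_p(L))` are trivial -/
theorem charPSub_of_forall_coprime [Finite G] {p : ℕ} [Fact p.Prime] {L : Subgroup G}
    (h : ∀ d ∈ L, d ∈ Subgroup.centralizer (Cfsg.pCoreOf p L : Set G) →
      (orderOf d).Coprime p → d = 1) : CharPSub p L := by
  unfold CharPSub
  apply le_pCoreOf inf_le_left
  · apply isPGroup_of_forall_coprime_eq_one
    intro d hd hco
    exact h d hd.1 hd.2 hco
  · intro l hl
    have hlR : l ∈ Subgroup.normalizer (Cfsg.pCoreOf p L : Set G) := le_normalizer_pCoreOf p L hl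
    have key : ∀ l ∈ L, ∀ c ∈ L ⊓ Subgroup.centralizer (Cfsg.pCoreOf p L : Set G),
        l * c * l⁻¹ ∈ L ⊓ Subgroup.centralizer (Cfsg.pCoreOf p L : Set G) := by
      intro l hl c hc
      refine ⟨L.mul_mem (L.mul_mem hl hc.1) (L.inv_mem hl), ?_⟩
      show l * c * l⁻¹ ∈ Subgroup.centralizer (Cfsg.pCoreOf p L : Set G)
      rw [Subgroup.mem_centralizer_iff]
      intro q hq
      have hq' : l⁻¹ * q * l ∈ Cfsg.pCoreOf p L :=
        conj_mem_of_mem_normalizer' (le_normalizer_pCoreOf p L hl) hq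
      have := (Subgroup.mem_centralizer_iff.1 hc.2) _ hq'
      calc q * (l * c * l⁻¹) = l * ((l⁻¹ * q * l) * c) * l⁻¹ := by group
        _ = l * (c * (l⁻¹ * q * l)) * l⁻¹ := by rw [this]
        _ = l * c * l⁻¹ * q := by group
    apply mem_normalizer_of_forall_conj_mem
    · exact key l hl
    · intro c hc
      have := key l⁻¹ (L.inv_mem hl) c hc
      simpa using this

/-- a normal subgroup of a group of characteristic `p` has characteristic `p` -/
theorem charPSub_of_normal [Finite G] {p : ℕ} [Fact p.Prime] {K H : Subgroup G}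
    (hK : CharPSub p K) (hHK : H ≤ K) (hn : K ≤ Subgroup.normalizer (H : Set G)) :
    CharPSub p H := by
  set P := Cfsg.pCoreOf p K with hP
  set Q := Cfsg.pCoreOf p H with hQ
  have hPK : P ≤ K := pCoreOf_le p K
  have hPp : IsPGroup p P := pCoreOf_isPGroup p K
  have hQp : IsPGroup p Q := pCoreOf_isPGroup p H
  have hKP : K ≤ Subgroup.normalizer (P : Set G) := le_normalizer_pCoreOf p K
  -- `P ⊓ H ≤ Q`
  have hPH : P ⊓ H ≤ Q := by
    apply le_pCoreOf inf_le_right (hPp.to_le inf_le_left)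
    intro h hh
    have h1 : h ∈ Subgroup.normalizer (P : Set G) := hKP (hHK hh)
    apply mem_normalizer_of_forall_conj_mem
    · intro x hx
      exact ⟨conj_mem_of_mem_normalizer h1 hx.1, H.mul_mem (H.mul_mem hh hx.2) (H.inv_mem hh)⟩
    · intro x hx
      exact ⟨conj_mem_of_mem_normalizer' h1 hx.1, H.mul_mem (H.mul_mem (H.inv_mem hh) hx.2) hh⟩
  apply charPSub_of_forall_coprime
  intro d hdH hdC hco
  have hdK : d ∈ K := hHK hdH
  -- `d` centralizes `P`
  have hdP : d ∈ Subgroup.centralizer (P : Set G) := by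
    rw [Subgroup.mem_centralizer_iff]
    intro x hx
    set z := x⁻¹ * (d * x * d⁻¹) with hz
    have hzP : z ∈ P := P.mul_mem (P.inv_mem hx) (conj_mem_of_mem_normalizer (hKP hdK) hx)
    have hzH : z ∈ H := by
      have h1 : x⁻¹ * d * x ∈ H := conj_mem_of_mem_normalizer' (hn (hPK hx)) hdH
      have : z = (x⁻¹ * d * x) * d⁻¹ := by rw [hz]; group
      rw [this]
      exact H.mul_mem h1 (H.inv_mem hdH)
    have hzQ : z ∈ Q := hPH ⟨hzP, hzH⟩
    have hcomm : Commute d z := ((Subgroup.mem_centralizer_iff.1 hdC) z hzQ).symm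
    have hz1 : z = 1 := by
      apply eq_one_of_conj_eq_mul (d := d) (x := x) _ hcomm
        (coprime_orderOf_of_mem_pGroup hQp hzQ hco)
      rw [hz]; group
    have : d * x * d⁻¹ = x := by
      have h2 : d * x * d⁻¹ = x * z := by rw [hz]; group
      rw [h2, hz1, mul_one]
    calc x * d = (d * x * d⁻¹) * d := by rw [this]
      _ = d * x := by group
  have hdP' : d ∈ P := hK ⟨hdK, hdP⟩
  exact eq_one_of_mem_pGroup_of_coprime hPp hdP' hco

/-- a subgroup containing `O_p(K)` of a characteristic-`p` group `K` has characteristic `p` -/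
theorem charPSub_of_pCoreOf_le [Finite G] {p : ℕ} [Fact p.Prime] {K L : Subgroup G}
    (hK : CharPSub p K) (hLK : L ≤ K) (hPL : Cfsg.pCoreOf p K ≤ L) : CharPSub p L := by
  have h1 : Cfsg.pCoreOf p K ≤ Cfsg.pCoreOf p L := by
    apply le_pCoreOf hPL (pCoreOf_isPGroup p K)
    exact hLK.trans (le_normalizer_pCoreOf p K)
  intro x hx
  apply h1
  apply hK
  refine ⟨hLK hx.1, ?_⟩
  exact Subgroup.centralizer_le (by exact_mod_cast h1) hx.2

end charp

end Cfsg.Agent.Lib.Helper5_CharP
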