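import Mathlib
import Cfsg.Agent.Lib.Helper5_CharP

set_option autoImplicit false

/-!
Thompson's `A × B` lemma (helper5), stated for subgroups of an ambient finite group.
-/

namespace Cfsg.Agent.Lib.Helper5_AxB

open Cfsg Cfsg.Agent.Lib.Helper5_CharP
open scoped commutatorElement

variable {G : Type*} [Group G]

/-- `⁅P, B⁆ ≤ P` when `B` normalizes `P` -/
theorem commutator_le_of_le_normalizer {P B : Subgroup G}
    (h : B ≤ Subgroup.normalizer (P : Set G)) : ⁅P, B⁆ ≤ P := by
  rw [Subgroup.commutator_le]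
  intro x hx b hb
  have : ⁅x, b⁆ = x * (b * x⁻¹ * b⁻¹) := by rw [commutatorElement_def]; group
  rw [this]
  exact P.mul_mem hx (conj_mem_of_mem_normalizer (h hb) (P.inv_mem hx))

/-- nilpotency of `p`-groups: if `B` normalizes `P ≠ ⊥` (both `p`-groups) then `⁅P, B⁆ ≠ P` -/
theorem commutator_ne_of_pGroup [Finite G] {p : ℕ} [Fact p.Prime] {P B : Subgroup G}
    (hP : IsPGroup p P) (hB : IsPGroup p B) (h : B ≤ Subgroup.normalizer (P : Set G))
    (hne : P ≠ ⊥) : ⁅P, B⁆ ≠ P := by
  intro heq
  have hN : IsPGroup p (P ⊔ B : Subgroup G) := hP.to_sup_of_normal_left' hB h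
  have hnil : Group.IsNilpotent (P ⊔ B : Subgroup G) := hN.isNilpotent
  obtain ⟨n, hn⟩ := (Subgroup.isNilpotent_iff_lowerCentralSeries (P ⊔ B)).1 hnil
  have key : ∀ k, P ≤ (P ⊔ B).lowerCentralSeries k := by
    intro k
    induction k with
    | zero => exact le_sup_left
    | succ k ih =>
      rw [Subgroup.lowerCentralSeries_succ]
      calc P = ⁅P, B⁆ := heq.symm
        _ ≤ ⁅(P ⊔ B).lowerCentralSeries k, P ⊔ B⁆ := Subgroup.commutator_mono ih le_sup_right
  exact hne (le_bot_iff.1 (hn ▸ key n))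

theorem conj_mem_commutator {P B : Subgroup G} {a : G}
    (haP : a ∈ Subgroup.normalizer (P : Set G)) (haB : a ∈ Subgroup.normalizer (B : Set G))
    {y : G} (hy : y ∈ ⁅P, B⁆) : a * y * a⁻¹ ∈ ⁅P, B⁆ := by
  have : ⁅P, B⁆ ≤ (⁅P, B⁆).comap (MulAut.conj a).toMonoidHom := by
    rw [Subgroup.commutator_le]
    intro x hx b hb
    rw [Subgroup.mem_comap, map_commutatorElement]
    apply Subgroup.commutator_mem_commutator
    · simpa using conj_mem_of_mem_normalizer haP hx
    · simpa using conj_mem_of_mem_normalizer haB hb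
  simpa using this hy

theorem mem_normalizer_commutator {P B : Subgroup G} {a : G}
    (haP : a ∈ Subgroup.normalizer (P : Set G)) (haB : a ∈ Subgroup.normalizer (B : Set G)) :
    a ∈ Subgroup.normalizer ((⁅P, B⁆ : Subgroup G) : Set G) := by
  apply mem_normalizer_of_forall_conj_mem
  · intro y hy
    exact conj_mem_commutator haP haB hy
  · intro y hy
    have := conj_mem_commutator (Subgroup.inv_mem _ haP) (Subgroup.inv_mem _ haB) hy
    simpa using this

theorem centralizer_le_normalizer' (B : Subgroup G) :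
    Subgroup.centralizer (B : Set G) ≤ Subgroup.normalizer (B : Set G) := by
  intro a ha
  rw [Subgroup.mem_centralizer_iff] at ha
  apply mem_normalizer_of_forall_conj_mem
  · intro b hb
    have h1 := ha b hb
    have : a * b * a⁻¹ = b := by rw [← h1]; group
    rw [this]; exact hb
  · intro b hb
    have h1 := ha b hb
    have : a⁻¹ * b * a = b := by rw [mul_assoc, h1]; group
    rw [this]; exact hb

/-- **Thompson's `A × B` lemma.** -/
theorem thompson_AxB [Finite G] {p : ℕ} [Fact p.Prime] (A B : Subgroup G)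
    (hA : ∀ a ∈ A, (orderOf a).Coprime p) (hB : IsPGroup p B)
    (hAB : A ≤ Subgroup.centralizer (B : Set G)) :
    ∀ (P : Subgroup G), IsPGroup p P → A ≤ Subgroup.normalizer (P : Set G) →
      B ≤ Subgroup.normalizer (P : Set G) →
      P ⊓ Subgroup.centralizer (B : Set G) ≤ Subgroup.centralizer (A : Set G) →
      P ≤ Subgroup.centralizer (A : Set G) := by
  intro P
  induction' hn : Nat.card P using Nat.strong_induction_on with n ih generalizing P
  intro hP hAP hBP hC
  by_cases hbot : P = ⊥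
  · rw [hbot]; exact bot_le
  -- the proper subgroup `⁅P, B⁆`
  have h1le : ⁅P, B⁆ ≤ P := commutator_le_of_le_normalizer hBP
  have h1ne : ⁅P, B⁆ ≠ P := commutator_ne_of_pGroup hP hB hBP hbot
  have h1card : Nat.card (⁅P, B⁆ : Subgroup G) < n := by
    by_contra hcon
    push Not at hcon
    rw [← hn] at hcon
    exact h1ne (Subgroup.eq_of_le_of_card_ge h1le hcon)
  have hANB : A ≤ Subgroup.normalizer (B : Set G) := hAB.trans (centralizer_le_normalizer' B)
  have h1 : ⁅P, B⁆ ≤ Subgroup.centralizer (A : Set G) := by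
    apply ih _ h1card ⁅P, B⁆ rfl (hP.to_le h1le)
    · intro a ha
      exact mem_normalizer_commutator (hAP ha) (hANB ha)
    · intro b hb
      exact mem_normalizer_commutator (hBP hb) (Subgroup.le_normalizer hb)
    · exact (inf_le_inf_right _ h1le).trans hC
  have h2 : ⁅⁅P, B⁆, A⁆ = ⊥ := Subgroup.commutator_eq_bot_iff_le_centralizer.2 h1
  have h3 : ⁅⁅B, A⁆, P⁆ = ⊥ := by
    have : ⁅B, A⁆ = ⊥ := by
      rw [Subgroup.commutator_comm]
      exact Subgroup.commutator_eq_bot_iff_le_centralizer.2 hAB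
    rw [this, Subgroup.commutator_bot_left]
  have h4 : ⁅⁅A, P⁆, B⁆ = ⊥ := Subgroup.commutator_commutator_eq_bot_of_rotate h2 h3
  have h5 : ⁅A, P⁆ ≤ Subgroup.centralizer (B : Set G) :=
    Subgroup.commutator_eq_bot_iff_le_centralizer.1 h4
  have h6 : ⁅A, P⁆ ≤ P := by
    rw [Subgroup.commutator_comm]
    exact commutator_le_of_le_normalizer hAP
  have h7 : ⁅A, P⁆ ≤ Subgroup.centralizer (A : Set G) := (le_inf h6 h5).trans hC
  intro x hx
  rw [Subgroup.mem_centralizer_iff]
  intro a ha
  set z := x⁻¹ * (a * x * a⁻¹) with hz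
  have hzc : z ∈ ⁅A, P⁆ := by
    rw [Subgroup.commutator_comm]
    have : z = ⁅x⁻¹, a⁆ := by rw [hz, commutatorElement_def]; group
    rw [this]
    exact Subgroup.commutator_mem_commutator (P.inv_mem hx) ha
  have hcomm : Commute a z := ((Subgroup.mem_centralizer_iff.1 (h7 hzc)) a ha)
  have hz1 : z = 1 := by
    apply eq_one_of_conj_eq_mul (d := a) (x := x) _ hcomm
      (coprime_orderOf_of_mem_pGroup hP (h6 hzc) (hA a ha))
    rw [hz]; group
  have h8 : a * x * a⁻¹ = x := by
    have h9 : a * x * a⁻¹ = x * z := by rw [hz]; group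
    rw [h9, hz1, mul_one]
  calc a * x = (a * x * a⁻¹) * a := by group
    _ = x * a := by rw [h8]

end Cfsg.Agent.Lib.Helper5_AxB
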