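import Mathlib
import Cfsg.Prelude.Def_Amalgam

namespace Cfsg.Agent.Lib.Helper4_CosetGraph

open Cfsg

variable {X : Type*} [Group X] (M₁ M₂ : Subgroup X)

theorem adj_iff (a b : CosetVertex M₁ M₂) :
    (cosetGraph M₁ M₂).Adj a b ↔
      ∃ x : X, (a = Sum.inl (x : X ⧸ M₁) ∧ b = Sum.inr (x : X ⧸ M₂)) ∨
        (a = Sum.inr (x : X ⧸ M₂) ∧ b = Sum.inl (x : X ⧸ M₁)) := by
  unfold cosetGraph
  rw [SimpleGraph.fromRel_adj]
  constructor
  · rintro ⟨_, h | h⟩
    · obtain ⟨x, hx⟩ := h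
      exact ⟨x, Or.inl hx⟩
    · obtain ⟨x, hx⟩ := h
      exact ⟨x, Or.inr ⟨hx.2, hx.1⟩⟩
  · rintro ⟨x, h | h⟩
    · refine ⟨?_, Or.inl ⟨x, h⟩⟩
      rw [h.1, h.2]; exact Sum.inl_ne_inr
    · refine ⟨?_, Or.inr ⟨x, h.2, h.1⟩⟩
      rw [h.1, h.2]; exact Sum.inr_ne_inl

theorem adj_inl_inr (x : X) :
    (cosetGraph M₁ M₂).Adj (Sum.inl (x : X ⧸ M₁)) (Sum.inr (x : X ⧸ M₂)) :=
  (adj_iff M₁ M₂ _ _).mpr ⟨x, Or.inl ⟨rfl, rfl⟩⟩

theorem smul_inl (g x : X) :
    g • (Sum.inl (x : X ⧸ M₁) : CosetVertex M₁ M₂) = Sum.inl ((g * x : X) : X ⧸ M₁) := rfl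

theorem smul_inr (g x : X) :
    g • (Sum.inr (x : X ⧸ M₂) : CosetVertex M₁ M₂) = Sum.inr ((g * x : X) : X ⧸ M₂) := rfl

theorem adj_smul (g : X) {a b : CosetVertex M₁ M₂} (h : (cosetGraph M₁ M₂).Adj a b) :
    (cosetGraph M₁ M₂).Adj (g • a) (g • b) := by
  rw [adj_iff] at h ⊢
  obtain ⟨x, h | h⟩ := h
  · exact ⟨g * x, Or.inl ⟨by rw [h.1, smul_inl], by rw [h.2, smul_inr]⟩⟩
  · exact ⟨g * x, Or.inr ⟨by rw [h.1, smul_inr], by rw [h.2, smul_inl]⟩⟩

theorem reach_induct {V : Type*} (G : SimpleGraph V) (P : V → Prop)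
    (hP : ∀ a b, G.Adj a b → P a → P b) {a b : V} (h : G.Reachable a b) (ha : P a) : P b := by
  obtain ⟨w⟩ := h
  induction w with
  | nil => exact ha
  | cons hadj w ih => exact ih (hP _ _ hadj ha)

theorem reach_inl_mul (hgen : M₁ ⊔ M₂ = ⊤) (x : X) :
    ∀ y : X, (cosetGraph M₁ M₂).Reachable (Sum.inl (y : X ⧸ M₁)) (Sum.inl ((y * x : X) : X ⧸ M₁)) := by
  have hx : x ∈ Subgroup.closure ((M₁ : Set X) ∪ (M₂ : Set X)) := by
    rw [Subgroup.closure_union, Subgroup.closure_eq, Subgroup.closure_eq, hgen]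
    exact Subgroup.mem_top x
  induction hx using Subgroup.closure_induction with
  | mem x hx =>
    intro y
    rcases hx with hx | hx
    · have : ((y * x : X) : X ⧸ M₁) = (y : X ⧸ M₁) := by
        rw [eq_comm, QuotientGroup.eq]
        simpa using hx
      rw [this]
    · have h1 : (cosetGraph M₁ M₂).Adj (Sum.inl (y : X ⧸ M₁)) (Sum.inr (y : X ⧸ M₂)) :=
        adj_inl_inr M₁ M₂ y
      have h2 : (cosetGraph M₁ M₂).Adj (Sum.inl ((y * x : X) : X ⧸ M₁)) (Sum.inr ((y * x : X) : X ⧸ M₂)) :=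
        adj_inl_inr M₁ M₂ (y * x)
      have h3 : ((y * x : X) : X ⧸ M₂) = (y : X ⧸ M₂) := by
        rw [eq_comm, QuotientGroup.eq]
        simpa using hx
      rw [h3] at h2
      exact h1.reachable.trans h2.symm.reachable
  | one => intro y; rw [mul_one]
  | mul a b _ _ iha ihb =>
    intro y
    have := (iha y).trans (ihb (y * a))
    rwa [mul_assoc] at this
  | inv a _ iha =>
    intro y
    have := (iha (y * a⁻¹)).symm
    rwa [inv_mul_cancel_right] at this

theorem connected (hgen : M₁ ⊔ M₂ = ⊤) : (cosetGraph M₁ M₂).Connected := by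
  have hreach : ∀ v : CosetVertex M₁ M₂,
      (cosetGraph M₁ M₂).Reachable (Sum.inl ((1 : X) : X ⧸ M₁)) v := by
    intro v
    rcases v with q | q
    · induction q using QuotientGroup.induction_on with
      | H x =>
        have := reach_inl_mul M₁ M₂ hgen x 1
        rwa [one_mul] at this
    · induction q using QuotientGroup.induction_on with
      | H x =>
        have := reach_inl_mul M₁ M₂ hgen x 1
        rw [one_mul] at this
        exact this.trans (adj_inl_inr M₁ M₂ x).reachable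
  haveI : Nonempty (CosetVertex M₁ M₂) := ⟨Sum.inl ((1 : X) : X ⧸ M₁)⟩
  exact SimpleGraph.Connected.mk (fun a b => (hreach a).symm.trans (hreach b))

theorem stabilizer_inl (x : X) :
    MulAction.stabilizer X (Sum.inl (x : X ⧸ M₁) : CosetVertex M₁ M₂) =
      M₁.map (MulAut.conj x).toMonoidHom := by
  ext g
  rw [MulAction.mem_stabilizer_iff, smul_inl, Sum.inl.injEq, QuotientGroup.eq, Subgroup.mem_map]
  constructor
  · intro h
    refine ⟨x⁻¹ * g * x, ?_, ?_⟩
    · have := M₁.inv_mem h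
      simpa [mul_assoc] using this
    · simp [mul_assoc]
  · rintro ⟨m, hm, rfl⟩
    have : (x * m * x⁻¹ * x)⁻¹ * x = m⁻¹ := by group
    simp only [MulEquiv.coe_toMonoidHom, MulAut.conj_apply]
    rw [this]
    exact M₁.inv_mem hm

theorem stabilizer_inr (x : X) :
    MulAction.stabilizer X (Sum.inr (x : X ⧸ M₂) : CosetVertex M₁ M₂) =
      M₂.map (MulAut.conj x).toMonoidHom := by
  ext g
  rw [MulAction.mem_stabilizer_iff, smul_inr, Sum.inr.injEq, QuotientGroup.eq, Subgroup.mem_map]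
  constructor
  · intro h
    refine ⟨x⁻¹ * g * x, ?_, ?_⟩
    · have := M₂.inv_mem h
      simpa [mul_assoc] using this
    · simp [mul_assoc]
  · rintro ⟨m, hm, rfl⟩
    have : (x * m * x⁻¹ * x)⁻¹ * x = m⁻¹ := by group
    simp only [MulEquiv.coe_toMonoidHom, MulAut.conj_apply]
    rw [this]
    exact M₂.inv_mem hm

theorem stabilizer_inl_one :
    MulAction.stabilizer X (Sum.inl ((1 : X) : X ⧸ M₁) : CosetVertex M₁ M₂) = M₁ := by
  rw [stabilizer_inl]; ext g; simp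

theorem stabilizer_inr_one :
    MulAction.stabilizer X (Sum.inr ((1 : X) : X ⧸ M₂) : CosetVertex M₁ M₂) = M₂ := by
  rw [stabilizer_inr]; ext g; simp

/-- the kernel of the action on the coset graph lies in `M₁ ⊓ M₂`. -/
theorem ker_le : (MulAction.toPermHom X (CosetVertex M₁ M₂)).ker ≤ M₁ ⊓ M₂ := by
  intro g hg
  rw [MonoidHom.mem_ker] at hg
  have h : ∀ v : CosetVertex M₁ M₂, g • v = v := by
    intro v
    have := congrArg (fun f : Equiv.Perm (CosetVertex M₁ M₂) => f v) hg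
    simpa using this
  constructor
  · have := h (Sum.inl ((1 : X) : X ⧸ M₁))
    rw [← MulAction.mem_stabilizer_iff, stabilizer_inl_one] at this
    exact this
  · have := h (Sum.inr ((1 : X) : X ⧸ M₂))
    rw [← MulAction.mem_stabilizer_iff, stabilizer_inr_one] at this
    exact this

theorem faithful (h : ∀ N : Subgroup X, N ≤ M₁ ⊓ M₂ → N.Normal → N = ⊥) :
    Function.Injective (MulAction.toPermHom X (CosetVertex M₁ M₂)) := by
  rw [← MonoidHom.ker_eq_bot_iff]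
  exact h _ (ker_le M₁ M₂) inferInstance

theorem fixes_all_eq_one (h : ∀ N : Subgroup X, N ≤ M₁ ⊓ M₂ → N.Normal → N = ⊥) (g : X)
    (hg : ∀ v : CosetVertex M₁ M₂, g • v = v) : g = 1 := by
  apply faithful M₁ M₂ h
  ext v
  simpa using hg v

/-- transitivity of a vertex stabilizer on the neighbours. -/
theorem stabilizer_transitive (δ μ μ' : CosetVertex M₁ M₂)
    (hμ : (cosetGraph M₁ M₂).Adj δ μ) (hμ' : (cosetGraph M₁ M₂).Adj δ μ') :
    ∃ g ∈ MulAction.stabilizer X δ, g • μ = μ' := by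
  rw [adj_iff] at hμ hμ'
  obtain ⟨y, h | h⟩ := hμ <;> obtain ⟨y', h' | h'⟩ := hμ'
  · refine ⟨y' * y⁻¹, ?_, ?_⟩
    · rw [MulAction.mem_stabilizer_iff]
      conv_lhs => rw [h.1]
      rw [smul_inl, h'.1]; simp
    · rw [h.2, smul_inr, h'.2]; simp
  · exact absurd (h.1.symm.trans h'.1) Sum.inl_ne_inr
  · exact absurd (h.1.symm.trans h'.1) Sum.inr_ne_inl
  · refine ⟨y' * y⁻¹, ?_, ?_⟩
    · rw [MulAction.mem_stabilizer_iff]
      conv_lhs => rw [h.1]
      rw [smul_inr, h'.1]; simp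
    · rw [h.2, smul_inl, h'.2]; simp

end Cfsg.Agent.Lib.Helper4_CosetGraph
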