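import Mathlib
import Cfsg.Prelude.Def_Amalgam
import Cfsg.Agent.Lib.Helper4_PCore
import Cfsg.Agent.Lib.Helper4_CosetGraph

namespace Cfsg.Agent.Lib.Helper4_Amalgam

open Cfsg Cfsg.Agent.Lib.Helper4_PCore Cfsg.Agent.Lib.Helper4_CosetGraph

variable {X : Type*} [Group X]

theorem pCoreOf_le (p : ℕ) (H : Subgroup X) : pCoreOf p H ≤ H := by
  unfold pCoreOf
  intro x hx
  obtain ⟨y, _, rfl⟩ := Subgroup.mem_map.mp hx
  exact y.2

/-- If `E ≤ H` has the same `p`-part of the order as the finite group `H`, then `O_p(H) ≤ E`. -/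
theorem pCoreOf_le_of_factorization {p : ℕ} [Fact p.Prime] (H E : Subgroup X) [Finite H]
    (hEH : E ≤ H) (hcard : (Nat.card E).factorization p = (Nat.card H).factorization p) :
    pCoreOf p H ≤ E := by
  haveI : Finite E := Finite.of_injective (Subgroup.inclusion hEH) (Subgroup.inclusion_injective hEH)
  obtain ⟨S⟩ : Nonempty (Sylow p E) := inferInstance
  -- S viewed in H
  let S'' : Subgroup H := (S : Subgroup E).map (Subgroup.inclusion hEH)
  have hS''p : IsPGroup p S'' := S.isPGroup'.map _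
  obtain ⟨P, hP⟩ := hS''p.exists_le_sylow
  have hc1 : Nat.card S'' = Nat.card (S : Subgroup E) :=
    Subgroup.card_map_of_injective (Subgroup.inclusion_injective hEH)
  have hc2 : Nat.card S'' = Nat.card (P : Subgroup H) := by
    rw [hc1, S.card_eq_multiplicity, P.card_eq_multiplicity, hcard]
  have hSP : S'' = (P : Subgroup H) := by
    have hfin : (↑(P : Subgroup H) : Set H).Finite := Set.toFinite _
    have := Set.eq_of_subset_of_ncard_le (s := (S'' : Set H)) (t := ((P : Subgroup H) : Set H)) hP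
      (by
        have e1 : ((P : Subgroup H) : Set H).ncard = Nat.card (P : Subgroup H) := rfl
        have e2 : (S'' : Set H).ncard = Nat.card S'' := rfl
        rw [e1, e2, hc2]) hfin
    exact SetLike.coe_injective this
  have h1 : pCore p H ≤ S'' := by
    rw [hSP]; exact pCore_le_sylow P
  unfold pCoreOf
  intro x hx
  obtain ⟨y, hy, rfl⟩ := Subgroup.mem_map.mp hx
  obtain ⟨z, _, hz⟩ := Subgroup.mem_map.mp (h1 hy)
  have : (y : X) = (z : X) := by rw [← hz]; rfl
  rw [Subgroup.coe_subtype, this]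
  exact z.2

theorem card_map_conj (y : X) (M : Subgroup X) :
    Nat.card (M.map (MulAut.conj y).toMonoidHom) = Nat.card M :=
  Subgroup.card_map_of_injective (MulAut.conj y).injective

theorem finite_map_conj (y : X) (M : Subgroup X) [Finite M] :
    Finite (M.map (MulAut.conj y).toMonoidHom) := by
  apply Nat.finite_of_card_ne_zero
  rw [card_map_conj]
  exact Nat.card_pos.ne'

/-- In a characteristic-`p` amalgam pair the `p`-part of `|M₁ ⊓ M₂|` equals that of `|Mᵢ|`. -/
theorem factorization_eq {p : ℕ} [Fact p.Prime] (M₁ M₂ : Subgroup X)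
    (h : IsCharPAmalgamPair p M₁ M₂) :
    (Nat.card ↥(M₁ ⊓ M₂)).factorization p = (Nat.card M₁).factorization p ∧
      (Nat.card ↥(M₁ ⊓ M₂)).factorization p = (Nat.card M₂).factorization p := by
  obtain ⟨_, hf1, hf2, _, _, hS, _, _⟩ := h
  haveI := hf1
  haveI := hf2
  haveI : Finite ↥(M₁ ⊓ M₂) :=
    Finite.of_injective (Subgroup.inclusion (inf_le_left : M₁ ⊓ M₂ ≤ M₁)) (Subgroup.inclusion_injective _)
  obtain ⟨S⟩ : Nonempty (Sylow p ↥(M₁ ⊓ M₂)) := inferInstance
  obtain ⟨P₁⟩ : Nonempty (Sylow p M₁) := inferInstance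
  obtain ⟨P₂⟩ : Nonempty (Sylow p M₂) := inferInstance
  obtain ⟨h1, h2⟩ := hS S P₁ P₂
  have hp : 2 ≤ p := (Fact.out : p.Prime).two_le
  constructor
  · have e1 : Nat.card (S : Subgroup ↥(M₁ ⊓ M₂)) = Nat.card (P₁ : Subgroup M₁) := h1
    rw [S.card_eq_multiplicity, P₁.card_eq_multiplicity] at e1
    exact Nat.pow_right_injective hp e1
  · have e2 : Nat.card (S : Subgroup ↥(M₁ ⊓ M₂)) = Nat.card (P₂ : Subgroup M₂) := h2
    rw [S.card_eq_multiplicity, P₂.card_eq_multiplicity] at e2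
    exact Nat.pow_right_injective hp e2

/-- `Q_δ ≤ G_μ` for adjacent vertices. -/
theorem vertexQ_le_stabilizer {p : ℕ} [Fact p.Prime] (M₁ M₂ : Subgroup X)
    (h : IsCharPAmalgamPair p M₁ M₂) (δ μ : CosetVertex M₁ M₂)
    (hadj : (cosetGraph M₁ M₂).Adj δ μ) : vertexQ p δ ≤ MulAction.stabilizer X μ := by
  obtain ⟨hfa1, hfa2⟩ := factorization_eq M₁ M₂ h
  haveI : Finite M₁ := h.2.1
  haveI : Finite M₂ := h.2.2.1
  rw [adj_iff] at hadj
  obtain ⟨y, hy | hy⟩ := hadj
  · obtain ⟨rfl, rfl⟩ := hy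
    have hE : MulAction.stabilizer X (Sum.inl (y : X ⧸ M₁) : CosetVertex M₁ M₂) ⊓
        MulAction.stabilizer X (Sum.inr (y : X ⧸ M₂) : CosetVertex M₁ M₂) =
          (M₁ ⊓ M₂).map (MulAut.conj y).toMonoidHom := by
      rw [stabilizer_inl, stabilizer_inr, Subgroup.map_inf _ _ _ (MulAut.conj y).injective]
    haveI : Finite (MulAction.stabilizer X (Sum.inl (y : X ⧸ M₁) : CosetVertex M₁ M₂)) := by
      rw [stabilizer_inl]; exact finite_map_conj y M₁
    have := pCoreOf_le_of_factorization (p := p)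
      (MulAction.stabilizer X (Sum.inl (y : X ⧸ M₁) : CosetVertex M₁ M₂))
      (MulAction.stabilizer X (Sum.inl (y : X ⧸ M₁) : CosetVertex M₁ M₂) ⊓
        MulAction.stabilizer X (Sum.inr (y : X ⧸ M₂) : CosetVertex M₁ M₂)) inf_le_left
      (by rw [hE, card_map_conj, stabilizer_inl, card_map_conj, hfa1])
    exact this.trans inf_le_right
  · obtain ⟨rfl, rfl⟩ := hy
    have hE : MulAction.stabilizer X (Sum.inr (y : X ⧸ M₂) : CosetVertex M₁ M₂) ⊓
        MulAction.stabilizer X (Sum.inl (y : X ⧸ M₁) : CosetVertex M₁ M₂) =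
          (M₁ ⊓ M₂).map (MulAut.conj y).toMonoidHom := by
      rw [stabilizer_inl, stabilizer_inr, inf_comm, Subgroup.map_inf _ _ _ (MulAut.conj y).injective]
    haveI : Finite (MulAction.stabilizer X (Sum.inr (y : X ⧸ M₂) : CosetVertex M₁ M₂)) := by
      rw [stabilizer_inr]; exact finite_map_conj y M₂
    have := pCoreOf_le_of_factorization (p := p)
      (MulAction.stabilizer X (Sum.inr (y : X ⧸ M₂) : CosetVertex M₁ M₂))
      (MulAction.stabilizer X (Sum.inr (y : X ⧸ M₂) : CosetVertex M₁ M₂) ⊓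
        MulAction.stabilizer X (Sum.inl (y : X ⧸ M₁) : CosetVertex M₁ M₂)) inf_le_left
      (by rw [hE, card_map_conj, stabilizer_inr, card_map_conj, hfa2])
    exact this.trans inf_le_right

theorem vertexQ_le_neighbourKernel {p : ℕ} [Fact p.Prime] (M₁ M₂ : Subgroup X)
    (h : IsCharPAmalgamPair p M₁ M₂) (δ : CosetVertex M₁ M₂) :
    vertexQ p δ ≤ neighbourKernel δ := by
  unfold neighbourKernel
  refine le_inf (pCoreOf_le p _) ?_
  refine le_iInf (fun μ => le_iInf (fun hμ => ?_))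
  exact vertexQ_le_stabilizer M₁ M₂ h δ μ hμ

end Cfsg.Agent.Lib.Helper4_Amalgam
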