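import Mathlib
import Cfsg.Prelude.Def_Amalgam
import Cfsg.Agent.Lib.Helper4_Amalgam

namespace Cfsg.Agent.Lib.Helper4_Amalgam2

open Cfsg Cfsg.Agent.Lib.Helper4_PCore Cfsg.Agent.Lib.Helper4_CosetGraph

variable {X : Type*} [Group X]

open scoped commutatorElement

theorem sylowCenterClosure_le (p : ℕ) (H : Subgroup X) : sylowCenterClosure p H ≤ H := by
  unfold sylowCenterClosure
  apply iSup_le
  intro S
  unfold omegaOne
  rw [Subgroup.closure_le]
  intro x hx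
  obtain ⟨s, _, rfl⟩ := Subgroup.mem_map.mp hx.1.1
  exact s.2

theorem sylowCenterClosure_conj_le {p : ℕ} (H : Subgroup X) (h : X) (hh : h ∈ H) :
    sylowCenterClosure p H ≤ (sylowCenterClosure p H).comap (MulAut.conj h).toMonoidHom := by
  unfold sylowCenterClosure
  apply iSup_le
  intro S
  unfold omegaOne
  rw [Subgroup.closure_le]
  intro x hx
  obtain ⟨hx1, hxp⟩ := hx
  rw [Subgroup.mem_inf] at hx1
  obtain ⟨hxS, hxC⟩ := hx1
  rw [SetLike.mem_coe, Subgroup.mem_comap]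
  apply Subgroup.mem_iSup_of_mem ((⟨h, hh⟩ : H) • S)
  apply Subgroup.subset_closure
  have key : ∀ y : X, y ∈ (S : Subgroup H).map H.subtype →
      h * y * h⁻¹ ∈ (((⟨h, hh⟩ : H) • S : Sylow p H) : Subgroup H).map H.subtype := by
    intro y hy
    obtain ⟨s, hs, rfl⟩ := Subgroup.mem_map.mp hy
    refine Subgroup.mem_map.mpr ⟨(⟨h, hh⟩ : H) * s * (⟨h, hh⟩ : H)⁻¹, ?_, by simp⟩
    rw [Sylow.coe_subgroup_smul]
    have : (⟨h, hh⟩ : H) * s * (⟨h, hh⟩ : H)⁻¹ = MulAut.conj (⟨h, hh⟩ : H) • s := by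
      simp [MulAut.smul_def]
    rw [this]
    exact Subgroup.smul_mem_pointwise_smul _ _ _ hs
  have key2 : ∀ y : X, y ∈ (((⟨h, hh⟩ : H) • S : Sylow p H) : Subgroup H).map H.subtype →
      h⁻¹ * y * h ∈ (S : Subgroup H).map H.subtype := by
    intro y hy
    obtain ⟨s, hs, rfl⟩ := Subgroup.mem_map.mp hy
    rw [Sylow.coe_subgroup_smul, Subgroup.mem_pointwise_smul_iff_inv_smul_mem] at hs
    refine Subgroup.mem_map.mpr ⟨_, hs, ?_⟩
    simp [MulAut.smul_def]
  refine ⟨⟨?_, ?_⟩, ?_⟩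
  · exact key x hxS
  · show (MulEquiv.toMonoidHom (MulAut.conj h)) x ∈ Subgroup.centralizer _
    rw [Subgroup.mem_centralizer_iff]
    intro y hy
    have h1 := key2 y hy
    have h2 := (Subgroup.mem_centralizer_iff.mp hxC) _ h1
    simp only [MulEquiv.coe_toMonoidHom, MulAut.conj_apply]
    calc y * (h * x * h⁻¹) = h * ((h⁻¹ * y * h) * x) * h⁻¹ := by group
      _ = h * (x * (h⁻¹ * y * h)) * h⁻¹ := by rw [h2]
      _ = h * x * h⁻¹ * y := by group
  · simp only [MulEquiv.coe_toMonoidHom, MulAut.conj_apply]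
    rw [conj_pow, hxp]; simp

theorem conj_mem_sylowCenterClosure {p : ℕ} (H : Subgroup X) {h x : X} (hh : h ∈ H)
    (hx : x ∈ sylowCenterClosure p H) : h * x * h⁻¹ ∈ sylowCenterClosure p H :=
  sylowCenterClosure_conj_le H h hh hx


theorem exists_adj_dist_lt {V : Type*} {G : SimpleGraph V} (hc : G.Connected) {u v : V}
    (h : G.dist u v ≠ 0) : ∃ w, G.Adj u w ∧ G.dist w v < G.dist u v := by
  obtain ⟨q, hq⟩ := hc.exists_walk_length_eq_dist u v
  cases q with
  | nil => exact absurd SimpleGraph.dist_self h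
  | cons hadj q' =>
    refine ⟨_, hadj, ?_⟩
    have := SimpleGraph.dist_le q'
    simp only [SimpleGraph.Walk.length_cons] at hq
    omega

theorem neighbourKernel_le_stabilizer {M₁ M₂ : Subgroup X} {μ ν : CosetVertex M₁ M₂}
    (h : (cosetGraph M₁ M₂).Adj μ ν) : neighbourKernel μ ≤ MulAction.stabilizer X ν := by
  unfold neighbourKernel
  exact inf_le_right.trans (iInf₂_le ν h)

theorem le_neighbourKernel_of_dist_lt {p : ℕ} {M₁ M₂ : Subgroup X} (δ μ : CosetVertex M₁ M₂)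
    (h : (cosetGraph M₁ M₂).dist δ μ < criticalDistance p M₁ M₂) :
    vertexZ p δ ≤ neighbourKernel μ := by
  by_contra hcon
  have : (cosetGraph M₁ M₂).dist δ μ ∈ {n : ℕ | ∃ δ μ : CosetVertex M₁ M₂,
      (cosetGraph M₁ M₂).dist δ μ = n ∧ ¬ vertexZ p δ ≤ neighbourKernel μ} := ⟨δ, μ, rfl, hcon⟩
  have h2 := Nat.sInf_le this
  unfold criticalDistance at h
  omega

theorem critical_pair_facts {p : ℕ} (M₁ M₂ : Subgroup X) (hgen : M₁ ⊔ M₂ = ⊤)
    (α α' : CosetVertex M₁ M₂) (hc : IsCriticalPair p α α') :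
    vertexZ p α' ≤ MulAction.stabilizer X α ∧ vertexZ p α ≤ MulAction.stabilizer X α' ∧
      ⁅vertexZ p α, vertexZ p α'⁆ ≤ vertexZ p α ⊓ vertexZ p α' := by
  have hconn := connected M₁ M₂ hgen
  obtain ⟨hnot, hdist⟩ := hc
  have h12 : vertexZ p α' ≤ MulAction.stabilizer X α ∧ vertexZ p α ≤ MulAction.stabilizer X α' := by
    by_cases h0 : (cosetGraph M₁ M₂).dist α α' = 0
    · have : α = α' := hconn.dist_eq_zero_iff.mp h0
      subst this
      exact ⟨sylowCenterClosure_le p _, sylowCenterClosure_le p _⟩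
    · constructor
      · obtain ⟨γ, hadj, hlt⟩ := exists_adj_dist_lt hconn h0
        rw [hdist, SimpleGraph.dist_comm] at hlt
        exact (le_neighbourKernel_of_dist_lt α' γ hlt).trans (neighbourKernel_le_stabilizer hadj.symm)
      · have h0' : (cosetGraph M₁ M₂).dist α' α ≠ 0 := by rwa [SimpleGraph.dist_comm]
        obtain ⟨β, hadj, hlt⟩ := exists_adj_dist_lt hconn h0'
        rw [SimpleGraph.dist_comm (u := α') (v := α), hdist, SimpleGraph.dist_comm] at hlt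
        exact (le_neighbourKernel_of_dist_lt α β hlt).trans (neighbourKernel_le_stabilizer hadj.symm)
  refine ⟨h12.1, h12.2, ?_⟩
  rw [Subgroup.commutator_le]
  intro g₁ hg₁ g₂ hg₂
  rw [Subgroup.mem_inf]
  constructor
  · have h3 : g₂ * g₁⁻¹ * g₂⁻¹ ∈ vertexZ p α :=
      conj_mem_sylowCenterClosure _ (h12.1 hg₂) (inv_mem hg₁)
    have : ⁅g₁, g₂⁆ = g₁ * (g₂ * g₁⁻¹ * g₂⁻¹) := by rw [commutatorElement_def]; group
    rw [this]
    exact mul_mem hg₁ h3
  · have h3 : g₁ * g₂ * g₁⁻¹ ∈ vertexZ p α' :=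
      conj_mem_sylowCenterClosure _ (h12.2 hg₁) hg₂
    have : ⁅g₁, g₂⁆ = (g₁ * g₂ * g₁⁻¹) * g₂⁻¹ := by rw [commutatorElement_def]
    rw [this]
    exact mul_mem h3 (inv_mem hg₂)

end Cfsg.Agent.Lib.Helper4_Amalgam2
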