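import Mathlib
import Cfsg.Prelude.Def_Amalgam
import Cfsg.Agent.Lib.Helper4_Amalgam2

namespace Cfsg.Agent.Lib.Helper4_Amalgam3

open Cfsg Cfsg.Agent.Lib.Helper4_PCore Cfsg.Agent.Lib.Helper4_CosetGraph
  Cfsg.Agent.Lib.Helper4_Amalgam Cfsg.Agent.Lib.Helper4_Amalgam2

variable {X : Type*} [Group X]

theorem omegaOne_le (p : ℕ) (K : Subgroup X) : omegaOne p K ≤ K := by
  unfold omegaOne
  rw [Subgroup.closure_le]
  intro x hx
  exact hx.1

/-- `Ω₁Z` of a Sylow subgroup, as a subgroup of the ambient group. -/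
def omegaZ (p : ℕ) (H : Subgroup X) (S : Sylow p H) : Subgroup X :=
  omegaOne p (((S : Subgroup H).map H.subtype) ⊓
      Subgroup.centralizer (((S : Subgroup H).map H.subtype : Subgroup X) : Set X))

theorem omegaZ_le_sylowCenterClosure (p : ℕ) (H : Subgroup X) (S : Sylow p H) :
    omegaZ p H S ≤ sylowCenterClosure p H := by
  unfold omegaZ sylowCenterClosure
  exact le_iSup (fun S : Sylow p H => omegaOne p (((S : Subgroup H).map H.subtype) ⊓
      Subgroup.centralizer (((S : Subgroup H).map H.subtype : Subgroup X) : Set X))) S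

theorem omegaZ_le_map (p : ℕ) (H : Subgroup X) (S : Sylow p H) :
    omegaZ p H S ≤ (S : Subgroup H).map H.subtype :=
  (omegaOne_le p _).trans inf_le_left

theorem omegaZ_conj_le {p : ℕ} (H : Subgroup X) (h : X) (hh : h ∈ H) (S : Sylow p H) :
    omegaZ p H S ≤ (omegaZ p H ((⟨h, hh⟩ : H) • S)).comap (MulAut.conj h).toMonoidHom := by
  unfold omegaZ
  unfold omegaOne
  rw [Subgroup.closure_le]
  intro x hx
  obtain ⟨hx1, hxp⟩ := hx
  rw [Subgroup.mem_inf] at hx1
  obtain ⟨hxS, hxC⟩ := hx1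
  rw [SetLike.mem_coe, Subgroup.mem_comap]
  apply Subgroup.subset_closure
  have key : ∀ y : X, y ∈ (S : Subgroup H).map H.subtype →
      h * y * h⁻¹ ∈ (((⟨h, hh⟩ : H) • S : Sylow p H) : Subgroup H).map H.subtype := by
    intro y hy
    obtain ⟨s, hs, rfl⟩ := Subgroup.mem_map.mp hy
    refine Subgroup.mem_map.mpr ⟨(⟨h, hh⟩ : H) * s * (⟨h, hh⟩ : H)⁻¹, ?_, by simp⟩
    rw [Sylow.coe_subgroup_smul]
    have : (⟨h, hh⟩ : H) * s * (⟨h, hh⟩ : H)⁻¹ = MulAut.conj (⟨h, hh⟩ : H) • s := by
      simp [MulAut.smul_def]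
    rw [this]
    exact Subgroup.smul_mem_pointwise_smul _ _ _ hs
  have key2 : ∀ y : X, y ∈ (((⟨h, hh⟩ : H) • S : Sylow p H) : Subgroup H).map H.subtype →
      h⁻¹ * y * h ∈ (S : Subgroup H).map H.subtype := by
    intro y hy
    obtain ⟨s, hs, rfl⟩ := Subgroup.mem_map.mp hy
    rw [Sylow.coe_subgroup_smul, Subgroup.mem_pointwise_smul_iff_inv_smul_mem] at hs
    refine Subgroup.mem_map.mpr ⟨_, hs, ?_⟩
    simp [MulAut.smul_def]
  refine ⟨⟨?_, ?_⟩, ?_⟩
  · exact key x hxS
  · show (MulEquiv.toMonoidHom (MulAut.conj h)) x ∈ Subgroup.centralizer _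
    rw [Subgroup.mem_centralizer_iff]
    intro y hy
    have h1 := key2 y hy
    have h2 := (Subgroup.mem_centralizer_iff.mp hxC) _ h1
    simp only [MulEquiv.coe_toMonoidHom, MulAut.conj_apply]
    calc y * (h * x * h⁻¹) = h * ((h⁻¹ * y * h) * x) * h⁻¹ := by group
      _ = h * (x * (h⁻¹ * y * h)) * h⁻¹ := by rw [h2]
      _ = h * x * h⁻¹ * y := by group
  · simp only [MulEquiv.coe_toMonoidHom, MulAut.conj_apply]
    rw [conj_pow, hxp]; simp

/-- If `Z_H = Ω₁Z(S)` for one Sylow subgroup `S` of the finite group `H`, then `Z_H ≤ Ω₁Z(S')` for all. -/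
theorem sylowCenterClosure_le_omegaZ {p : ℕ} [Fact p.Prime] (H : Subgroup X) [Finite H]
    (S S' : Sylow p H) (hS : sylowCenterClosure p H = omegaZ p H S) :
    sylowCenterClosure p H ≤ omegaZ p H S' := by
  obtain ⟨g, rfl⟩ := MulAction.exists_smul_eq H S S'
  intro x hx
  -- x = g (g⁻¹ x g) g⁻¹
  have h1 : (g : X)⁻¹ * x * ((g : X)⁻¹)⁻¹ ∈ sylowCenterClosure p H :=
    conj_mem_sylowCenterClosure H (inv_mem g.2) hx
  rw [hS] at h1
  have h2 := omegaZ_conj_le H (g : X) g.2 S h1
  rw [Subgroup.mem_comap] at h2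
  simp only [MulEquiv.coe_toMonoidHom, MulAut.conj_apply] at h2
  have h3 : (g : X) * ((g : X)⁻¹ * x * ((g : X)⁻¹)⁻¹) * (g : X)⁻¹ = x := by group
  rw [h3] at h2
  exact h2

/-- If `E ≤ H` has the same `p`-part of the order as the finite group `H`, every Sylow of `E` is a Sylow of `H`. -/
theorem exists_sylow_of_factorization {p : ℕ} [Fact p.Prime] (H E : Subgroup X) [Finite H]
    (hEH : E ≤ H) (hcard : (Nat.card E).factorization p = (Nat.card H).factorization p)
    (S : Sylow p E) :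
    ∃ P : Sylow p H, (P : Subgroup H).map H.subtype = (S : Subgroup E).map E.subtype := by
  haveI : Finite E := Finite.of_injective (Subgroup.inclusion hEH) (Subgroup.inclusion_injective hEH)
  let S'' : Subgroup H := (S : Subgroup E).map (Subgroup.inclusion hEH)
  have hS''p : IsPGroup p S'' := S.isPGroup'.map _
  obtain ⟨P, hP⟩ := hS''p.exists_le_sylow
  have hc1 : Nat.card S'' = Nat.card (S : Subgroup E) :=
    Subgroup.card_map_of_injective (Subgroup.inclusion_injective hEH)
  have hc2 : Nat.card S'' = Nat.card (P : Subgroup H) := by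
    rw [hc1, S.card_eq_multiplicity, P.card_eq_multiplicity, hcard]
  have hSP : S'' = (P : Subgroup H) := by
    have hfin : (↑(P : Subgroup H) : Set H).Finite := Set.toFinite _
    have := Set.eq_of_subset_of_ncard_le (s := (S'' : Set H)) (t := ((P : Subgroup H) : Set H)) hP
      (by
        have e1 : ((P : Subgroup H) : Set H).ncard = Nat.card (P : Subgroup H) := rfl
        have e2 : (S'' : Set H).ncard = Nat.card S'' := rfl
        rw [e1, e2, hc2]) hfin
    exact SetLike.coe_injective this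
  refine ⟨P, ?_⟩
  rw [← hSP]
  show ((S : Subgroup E).map (Subgroup.inclusion hEH)).map H.subtype = _
  rw [Subgroup.map_map]
  rfl

/-- finiteness and `p`-part for adjacent vertices. -/
theorem adj_factorization {p : ℕ} [Fact p.Prime] (M₁ M₂ : Subgroup X)
    (h : IsCharPAmalgamPair p M₁ M₂) (δ μ : CosetVertex M₁ M₂)
    (hadj : (cosetGraph M₁ M₂).Adj δ μ) :
    Finite (MulAction.stabilizer X δ) ∧
      (Nat.card ↥(MulAction.stabilizer X δ ⊓ MulAction.stabilizer X μ)).factorization p =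
        (Nat.card (MulAction.stabilizer X δ)).factorization p := by
  obtain ⟨hfa1, hfa2⟩ := factorization_eq M₁ M₂ h
  haveI : Finite M₁ := h.2.1
  haveI : Finite M₂ := h.2.2.1
  rw [adj_iff] at hadj
  obtain ⟨y, hy | hy⟩ := hadj
  · obtain ⟨rfl, rfl⟩ := hy
    have hE : MulAction.stabilizer X (Sum.inl (y : X ⧸ M₁) : CosetVertex M₁ M₂) ⊓
        MulAction.stabilizer X (Sum.inr (y : X ⧸ M₂) : CosetVertex M₁ M₂) =
          (M₁ ⊓ M₂).map (MulAut.conj y).toMonoidHom := by
      rw [stabilizer_inl, stabilizer_inr, Subgroup.map_inf _ _ _ (MulAut.conj y).injective]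
    refine ⟨?_, ?_⟩
    · rw [stabilizer_inl]; exact finite_map_conj y M₁
    · rw [hE, card_map_conj, stabilizer_inl, card_map_conj, hfa1]
  · obtain ⟨rfl, rfl⟩ := hy
    have hE : MulAction.stabilizer X (Sum.inr (y : X ⧸ M₂) : CosetVertex M₁ M₂) ⊓
        MulAction.stabilizer X (Sum.inl (y : X ⧸ M₁) : CosetVertex M₁ M₂) =
          (M₁ ⊓ M₂).map (MulAut.conj y).toMonoidHom := by
      rw [stabilizer_inl, stabilizer_inr, inf_comm, Subgroup.map_inf _ _ _ (MulAut.conj y).injective]
    refine ⟨?_, ?_⟩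
    · rw [stabilizer_inr]; exact finite_map_conj y M₂
    · rw [hE, card_map_conj, stabilizer_inr, card_map_conj, hfa2]

/-- For adjacent vertices there are Sylow subgroups of both stabilizers with the same image, inside the edge stabilizer. -/
theorem exists_common_sylow {p : ℕ} [Fact p.Prime] (M₁ M₂ : Subgroup X)
    (h : IsCharPAmalgamPair p M₁ M₂) (δ μ : CosetVertex M₁ M₂)
    (hadj : (cosetGraph M₁ M₂).Adj δ μ) :
    ∃ (P : Sylow p (MulAction.stabilizer X δ)) (Q : Sylow p (MulAction.stabilizer X μ)),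
      (P : Subgroup (MulAction.stabilizer X δ)).map (MulAction.stabilizer X δ).subtype =
        (Q : Subgroup (MulAction.stabilizer X μ)).map (MulAction.stabilizer X μ).subtype ∧
      (P : Subgroup (MulAction.stabilizer X δ)).map (MulAction.stabilizer X δ).subtype ≤
        MulAction.stabilizer X δ ⊓ MulAction.stabilizer X μ := by
  obtain ⟨hf1, hc1⟩ := adj_factorization M₁ M₂ h δ μ hadj
  obtain ⟨hf2, hc2⟩ := adj_factorization M₁ M₂ h μ δ hadj.symm
  rw [inf_comm] at hc2
  haveI := hf1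
  haveI := hf2
  haveI : Finite ↥(MulAction.stabilizer X δ ⊓ MulAction.stabilizer X μ) :=
    Finite.of_injective (Subgroup.inclusion (inf_le_left : MulAction.stabilizer X δ ⊓ MulAction.stabilizer X μ ≤ _))
      (Subgroup.inclusion_injective _)
  obtain ⟨S⟩ : Nonempty (Sylow p ↥(MulAction.stabilizer X δ ⊓ MulAction.stabilizer X μ)) := inferInstance
  obtain ⟨P, hP⟩ := exists_sylow_of_factorization _ _ inf_le_left hc1 S
  obtain ⟨Q, hQ⟩ := exists_sylow_of_factorization _ _ inf_le_right hc2 S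
  refine ⟨P, Q, hP.trans hQ.symm, ?_⟩
  rw [hP]
  intro x hx
  obtain ⟨s, _, rfl⟩ := Subgroup.mem_map.mp hx
  exact s.2

theorem not_vertexZ_eq_omegaZ {p : ℕ} [Fact p.Prime] (M₁ M₂ : Subgroup X)
    (h : IsCharPAmalgamPair p M₁ M₂) (α α' : CosetVertex M₁ M₂) (hc : IsCriticalPair p α α')
    (S : Sylow p ↥(MulAction.stabilizer X α)) :
    vertexZ p α ≠ omegaZ p (MulAction.stabilizer X α) S := by
  intro heq
  have hconn := connected M₁ M₂ h.1.1
  obtain ⟨hnot, hdist⟩ := hc
  -- key: for each neighbour β of α, Z_α ≤ Z_β and Z_α ≤ G_β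
  have key : ∀ β, (cosetGraph M₁ M₂).Adj α β →
      vertexZ p α ≤ vertexZ p β ∧ vertexZ p α ≤ MulAction.stabilizer X β := by
    intro β hadj
    obtain ⟨P, Q, hPQ, hPle⟩ := exists_common_sylow M₁ M₂ h α β hadj
    haveI := (adj_factorization M₁ M₂ h α β hadj).1
    have h1 : vertexZ p α ≤ omegaZ p _ P := sylowCenterClosure_le_omegaZ _ S P heq
    constructor
    · have h2 : omegaZ p _ P = omegaZ p _ Q := by
        unfold omegaZ
        rw [hPQ]
      rw [h2] at h1
      exact h1.trans (omegaZ_le_sylowCenterClosure p _ Q)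
    · exact h1.trans ((omegaZ_le_map p _ P).trans (hPle.trans inf_le_right))
  by_cases h0 : (cosetGraph M₁ M₂).dist α α' = 0
  · have : α = α' := hconn.dist_eq_zero_iff.mp h0
    subst this
    apply hnot
    unfold neighbourKernel
    refine le_inf (sylowCenterClosure_le p _) ?_
    exact le_iInf (fun β => le_iInf (fun hβ => (key β hβ).2))
  · obtain ⟨β, hadj, hlt⟩ := exists_adj_dist_lt hconn h0
    rw [hdist] at hlt
    exact hnot ((key β hadj).1.trans (le_neighbourKernel_of_dist_lt β α' hlt))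

end Cfsg.Agent.Lib.Helper4_Amalgam3
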