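import Mathlib
import Cfsg.Prelude.Def_Amalgam
import Cfsg.Agent.Lib.Helper4_Amalgam3
import Cfsg.Agent.S2745

namespace Cfsg.Agent.Lib.Helper4_Amalgam4

open Cfsg Cfsg.Agent.Lib.Helper4_PCore Cfsg.Agent.Lib.Helper4_CosetGraph
  Cfsg.Agent.Lib.Helper4_Amalgam Cfsg.Agent.Lib.Helper4_Amalgam2 Cfsg.Agent.Lib.Helper4_Amalgam3

section transport

variable {A B : Type*} [Group A] [Group B]

theorem pCore_map_le (p : ℕ) (e : A ≃* B) : (pCore p A).map e.toMonoidHom ≤ pCore p B := by
  rw [Subgroup.map_le_iff_le_comap]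
  unfold pCore
  apply sSup_le
  intro N hN
  rw [← Subgroup.map_le_iff_le_comap]
  apply le_sSup
  refine ⟨?_, ?_⟩
  · haveI := hN.1
    exact Subgroup.Normal.map hN.1 e.toMonoidHom e.surjective
  · exact hN.2.map _

theorem pCore_map_equiv (p : ℕ) (e : A ≃* B) : (pCore p A).map e.toMonoidHom = pCore p B := by
  apply le_antisymm (pCore_map_le p e)
  have h := pCore_map_le p e.symm
  intro x hx
  have hx' : e.symm x ∈ pCore p A := h (Subgroup.mem_map.mpr ⟨x, hx, rfl⟩)
  exact Subgroup.mem_map.mpr ⟨e.symm x, hx', by simp⟩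

theorem charP_of_equiv (p : ℕ) (e : A ≃* B)
    (h : Subgroup.centralizer (pCore p A : Set A) ≤ pCore p A) :
    Subgroup.centralizer (pCore p B : Set B) ≤ pCore p B := by
  intro x hx
  have h1 : e.symm x ∈ Subgroup.centralizer (pCore p A : Set A) := by
    rw [Subgroup.mem_centralizer_iff]
    intro y hy
    have hy' : e y ∈ pCore p B := by
      rw [← pCore_map_equiv p e]
      exact Subgroup.mem_map.mpr ⟨y, hy, rfl⟩
    have := (Subgroup.mem_centralizer_iff.mp hx) (e y) hy'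
    apply e.injective
    simpa using this
  have h2 := h h1
  rw [← pCore_map_equiv p e]
  exact Subgroup.mem_map.mpr ⟨e.symm x, h2, by simp⟩

end transport

variable {X : Type*} [Group X]

theorem charP_map_conj (p : ℕ) (M : Subgroup X) (y : X)
    (h : Subgroup.centralizer (pCore p M : Set M) ≤ pCore p M) :
    Subgroup.centralizer (pCore p ↥(M.map (MulAut.conj y).toMonoidHom) : Set ↥(M.map (MulAut.conj y).toMonoidHom)) ≤
      pCore p ↥(M.map (MulAut.conj y).toMonoidHom) :=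
  charP_of_equiv p (M.equivMapOfInjective _ (MulAut.conj y).injective) h

theorem charP_stabilizer {p : ℕ} (M₁ M₂ : Subgroup X) (h : IsCharPAmalgamPair p M₁ M₂)
    (δ : CosetVertex M₁ M₂) :
    Subgroup.centralizer (pCore p ↥(MulAction.stabilizer X δ) : Set ↥(MulAction.stabilizer X δ)) ≤
      pCore p ↥(MulAction.stabilizer X δ) := by
  obtain ⟨_, _, _, _, _, _, hc1, hc2⟩ := h
  rcases δ with q | q
  · induction q using QuotientGroup.induction_on with
    | H y =>
      rw [stabilizer_inl]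
      exact charP_map_conj p M₁ y hc1
  · induction q using QuotientGroup.induction_on with
    | H y =>
      rw [stabilizer_inr]
      exact charP_map_conj p M₂ y hc2

theorem le_normalizer_of_conj_mem (H W : Subgroup X)
    (h : ∀ g ∈ H, ∀ w ∈ W, g * w * g⁻¹ ∈ W) : H ≤ Subgroup.normalizer (W : Set X) := by
  intro g hg
  rw [Subgroup.mem_normalizer_iff]
  intro w
  constructor
  · exact h g hg w
  · intro hw
    have := h g⁻¹ (inv_mem hg) _ hw
    have e : g⁻¹ * (g * w * g⁻¹) * g⁻¹⁻¹ = w := by group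
    rwa [e] at this

theorem pElementClosure_le (p : ℕ) (H : Subgroup X) : pElementClosure p H ≤ H := by
  unfold pElementClosure
  rw [Subgroup.closure_le]
  intro x hx
  exact hx.1

theorem pElementClosure_conj_mem (p : ℕ) (H : Subgroup X) {g : X} (hg : g ∈ H) :
    ∀ x ∈ pElementClosure p H, g * x * g⁻¹ ∈ pElementClosure p H := by
  have : pElementClosure p H ≤ (pElementClosure p H).comap (MulAut.conj g).toMonoidHom := by
    conv_lhs => unfold pElementClosure
    rw [Subgroup.closure_le]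
    intro x hx
    rw [SetLike.mem_coe, Subgroup.mem_comap]
    unfold pElementClosure
    apply Subgroup.subset_closure
    obtain ⟨hxH, k, hk⟩ := hx
    refine ⟨?_, k, ?_⟩
    · simp only [MulEquiv.coe_toMonoidHom, MulAut.conj_apply]
      exact mul_mem (mul_mem hg hxH) (inv_mem hg)
    · rw [MulEquiv.coe_toMonoidHom, MulEquiv.orderOf_eq, hk]
  intro x hx
  exact this hx

/-- `Z₀`: the centre of `O^{p'}(H)`, in the ambient group. -/
def centerPEC (p : ℕ) (H : Subgroup X) : Subgroup X :=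
  (Subgroup.center ↥(pElementClosure p H)).map (pElementClosure p H).subtype

theorem mem_centerPEC (p : ℕ) (H : Subgroup X) (x : X) :
    x ∈ centerPEC p H ↔ x ∈ pElementClosure p H ∧ ∀ k ∈ pElementClosure p H, k * x = x * k := by
  unfold centerPEC
  constructor
  · intro hx
    obtain ⟨z, hz, rfl⟩ := Subgroup.mem_map.mp hx
    refine ⟨z.2, ?_⟩
    intro k hk
    have := (Subgroup.mem_center_iff.mp hz) ⟨k, hk⟩
    exact congrArg Subtype.val this
  · rintro ⟨hx, hc⟩
    refine Subgroup.mem_map.mpr ⟨⟨x, hx⟩, ?_, rfl⟩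
    rw [Subgroup.mem_center_iff]
    intro k
    apply Subtype.ext
    exact hc k k.2

theorem centerPEC_conj_mem (p : ℕ) (H : Subgroup X) {g : X} (hg : g ∈ H) :
    ∀ x ∈ centerPEC p H, g * x * g⁻¹ ∈ centerPEC p H := by
  intro x hx
  rw [mem_centerPEC] at hx ⊢
  refine ⟨pElementClosure_conj_mem p H hg x hx.1, ?_⟩
  intro k hk
  have h1 : g⁻¹ * k * g⁻¹⁻¹ ∈ pElementClosure p H :=
    pElementClosure_conj_mem p H (inv_mem hg) k hk
  have h2 := hx.2 _ h1
  calc k * (g * x * g⁻¹) = g * ((g⁻¹ * k * g⁻¹⁻¹) * x) * g⁻¹ := by group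
    _ = g * (x * (g⁻¹ * k * g⁻¹⁻¹)) * g⁻¹ := by rw [h2]
    _ = g * x * g⁻¹ * k := by group

theorem omegaOne_conj_mem (p : ℕ) (Z H : Subgroup X)
    (hZ : ∀ g ∈ H, ∀ x ∈ Z, g * x * g⁻¹ ∈ Z) :
    ∀ g ∈ H, ∀ x ∈ omegaOne p Z, g * x * g⁻¹ ∈ omegaOne p Z := by
  intro g hg
  have : omegaOne p Z ≤ (omegaOne p Z).comap (MulAut.conj g).toMonoidHom := by
    conv_lhs => unfold omegaOne
    rw [Subgroup.closure_le]
    intro x hx
    rw [SetLike.mem_coe, Subgroup.mem_comap]
    unfold omegaOne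
    apply Subgroup.subset_closure
    refine ⟨hZ g hg x hx.1, ?_⟩
    simp only [MulEquiv.coe_toMonoidHom, MulAut.conj_apply]
    rw [conj_pow, hx.2]; simp
  intro x hx
  exact this hx

theorem center_pElementClosure_eq_bot {p : ℕ} [Fact p.Prime] (M₁ M₂ : Subgroup X)
    (h : IsCharPAmalgamPair p M₁ M₂) (α β : CosetVertex M₁ M₂)
    (hβ : (cosetGraph M₁ M₂).Adj α β)
    (S : Sylow p ↥(edgeStabilizer α β)) (T : Subgroup X)
    (hT : T = (S : Subgroup ↥(edgeStabilizer α β)).map (edgeStabilizer α β).subtype)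
    (L : Subgroup X) (hL : L ≤ MulAction.stabilizer X β)
    (hLc : L ≤ Subgroup.centralizer (omegaOne p (T ⊓ Subgroup.centralizer (T : Set X)) : Set X))
    (hLt : ∀ ν ν' : CosetVertex M₁ M₂, (cosetGraph M₁ M₂).Adj β ν →
      (cosetGraph M₁ M₂).Adj β ν' → ∃ g ∈ L, g • ν = ν') :
    Subgroup.center ↥(pElementClosure p (MulAction.stabilizer X α)) = ⊥ := by
  obtain ⟨hfin, hfac⟩ := adj_factorization M₁ M₂ h α β hβ
  haveI := hfin
  have hchar := charP_stabilizer M₁ M₂ h α
  -- T is a Sylow subgroup of G_α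
  obtain ⟨P, hP⟩ := exists_sylow_of_factorization (MulAction.stabilizer X α)
    (MulAction.stabilizer X α ⊓ MulAction.stabilizer X β) inf_le_left hfac S
  have hPT : (P : Subgroup _).map (MulAction.stabilizer X α).subtype = T := by
    rw [hT]; exact hP
  have hTE : T ≤ edgeStabilizer α β := by
    rw [hT]
    intro x hx
    obtain ⟨s, _, rfl⟩ := Subgroup.mem_map.mp hx
    exact s.2
  have hTp : ∀ t ∈ T, ∃ k : ℕ, orderOf t = p ^ k := by
    intro t ht
    rw [← hPT] at ht
    obtain ⟨s, hs, rfl⟩ := Subgroup.mem_map.mp ht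
    obtain ⟨k, hk⟩ := (IsPGroup.iff_orderOf.mp P.isPGroup') ⟨s, hs⟩
    refine ⟨k, ?_⟩
    rw [← hk]
    simp
  -- T ≤ K
  have hTK : T ≤ pElementClosure p (MulAction.stabilizer X α) := by
    intro t ht
    unfold pElementClosure
    apply Subgroup.subset_closure
    exact ⟨(hTE ht).1, hTp t ht⟩
  set Z₀ := centerPEC p (MulAction.stabilizer X α) with hZ₀
  have hZ₀G : Z₀ ≤ MulAction.stabilizer X α := by
    intro z hz
    rw [hZ₀, mem_centerPEC] at hz
    exact pElementClosure_le p _ hz.1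
  -- Z₀ centralizes T
  have hZ₀cT : ∀ z ∈ Z₀, ∀ t ∈ T, t * z = z * t := by
    intro z hz t ht
    rw [hZ₀, mem_centerPEC] at hz
    exact hz.2 t (hTK ht)
  -- Z₀ ≤ T
  have hZ₀T : Z₀ ≤ T := by
    intro z hz
    have hzG := hZ₀G hz
    have h1 : (⟨z, hzG⟩ : ↥(MulAction.stabilizer X α)) ∈
        Subgroup.centralizer (pCore p ↥(MulAction.stabilizer X α) : Set ↥(MulAction.stabilizer X α)) := by
      rw [Subgroup.mem_centralizer_iff]
      intro q hq
      have hqP : q ∈ (P : Subgroup _) := pCore_le_sylow P hq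
      have hqT : (q : X) ∈ T := by
        rw [← hPT]; exact Subgroup.mem_map.mpr ⟨q, hqP, rfl⟩
      apply Subtype.ext
      exact hZ₀cT z hz _ hqT
    have h2 := pCore_le_sylow P (hchar h1)
    rw [← hPT]
    exact Subgroup.mem_map.mpr ⟨_, h2, rfl⟩
  set W := omegaOne p Z₀ with hW
  have hWZ : W ≤ Z₀ := omegaOne_le p Z₀
  -- W ≤ Ω₁Z(T)
  have hWΩ : W ≤ omegaOne p (T ⊓ Subgroup.centralizer (T : Set X)) := by
    rw [hW]
    unfold omegaOne
    apply Subgroup.closure_mono
    intro x hx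
    refine ⟨⟨hZ₀T hx.1, ?_⟩, hx.2⟩
    show x ∈ Subgroup.centralizer (T : Set X)
    rw [Subgroup.mem_centralizer_iff]
    intro t ht
    exact hZ₀cT x hx.1 t ht
  -- G_α normalizes W
  have hαN : MulAction.stabilizer X α ≤ Subgroup.normalizer (W : Set X) := by
    apply le_normalizer_of_conj_mem
    exact omegaOne_conj_mem p Z₀ _ (fun g hg => centerPEC_conj_mem p _ hg)
  -- L normalizes W
  have hLN : L ≤ Subgroup.normalizer (W : Set X) := by
    refine hLc.trans ((Subgroup.centralizer_le ?_).trans (Subgroup.centralizer_le_normalizer _))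
    exact hWΩ
  -- G_β normalizes W
  have hβN : MulAction.stabilizer X β ≤ Subgroup.normalizer (W : Set X) := by
    intro g hg
    have hgβ : g • β = β := hg
    have hadj : (cosetGraph M₁ M₂).Adj β (g • α) := by
      have := adj_smul M₁ M₂ g hβ.symm
      rwa [hgβ] at this
    obtain ⟨l, hl, hlα⟩ := hLt α (g • α) hβ.symm hadj
    have he : l⁻¹ * g ∈ MulAction.stabilizer X α := by
      rw [MulAction.mem_stabilizer_iff, mul_smul, ← hlα, inv_smul_smul]
    have : g = l * (l⁻¹ * g) := by group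
    rw [this]
    exact mul_mem (hLN hl) (hαN he)
  -- apply S2745
  have hWbot : W = ⊥ := by
    apply Cfsg.Agent.S2745.result M₁ M₂ h.1 α β hβ W
    · exact hWZ.trans (hZ₀T.trans hTE)
    · intro ν ν' hν hν'
      obtain ⟨g, hg, hgν⟩ := stabilizer_transitive M₁ M₂ α ν ν' hν hν'
      exact ⟨g, ⟨hαN hg, hg⟩, hgν⟩
    · intro ν ν' hν hν'
      obtain ⟨g, hg, hgν⟩ := stabilizer_transitive M₁ M₂ β ν ν' hν hν'
      exact ⟨g, ⟨hβN hg, hg⟩, hgν⟩
  -- conclude
  rw [eq_bot_iff]
  intro z hz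
  rw [Subgroup.mem_bot]
  have hzZ : (z : X) ∈ Z₀ := Subgroup.mem_map.mpr ⟨z, hz, rfl⟩
  obtain ⟨k, hk⟩ := hTp _ (hZ₀T hzZ)
  have hp : p.Prime := Fact.out
  rcases Nat.eq_zero_or_pos k with hk0 | hkpos
  · rw [hk0, pow_zero, orderOf_eq_one_iff] at hk
    exact Subtype.ext hk
  · exfalso
    have h1 : ((z : X) ^ (p ^ (k - 1))) ∈ W := by
      rw [hW]
      unfold omegaOne
      apply Subgroup.subset_closure
      refine ⟨pow_mem hzZ _, ?_⟩
      rw [← pow_mul, ← pow_succ, Nat.sub_add_cancel hkpos, ← hk, pow_orderOf_eq_one]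
    rw [hWbot, Subgroup.mem_bot] at h1
    have h2 := orderOf_dvd_of_pow_eq_one h1
    rw [hk] at h2
    have h3 := Nat.pow_dvd_pow_iff_le_right hp.one_lt |>.mp h2
    omega

end Cfsg.Agent.Lib.Helper4_Amalgam4
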