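import Mathlib
import Cfsg.Prelude.Def_LocalStructure
import Cfsg.Agent.Lib.Helper4_PCore

namespace Cfsg.Agent.Lib.Helper4_Minimal

open Cfsg Cfsg.Agent.Lib.Helper4_PCore
open scoped Pointwise

variable {H : Type*} [Group H]

/-- the unique coatom over `Y`, with its universal property -/
theorem exists_coatom_of_minimalOver [Finite H] {Y : Subgroup H} (hmin : IsMinimalOver Y) :
    ∃ M : Subgroup H, IsCoatom M ∧ Y ≤ M ∧ ∀ X : Subgroup H, Y ≤ X → X ≠ ⊤ → X ≤ M := by
  obtain ⟨_, M, ⟨hM, hYM⟩, huniq⟩ := hmin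
  refine ⟨M, hM, hYM, ?_⟩
  intro X hYX hX
  rcases eq_top_or_exists_le_coatom X with h | ⟨M', hM', hXM'⟩
  · exact absurd h hX
  · have := huniq M' ⟨hM', hYX.trans hXM'⟩
    rw [← this]; exact hXM'

/-- if `T ⊔ N = ⊤` with `T` a `p`-group and `N` normal, then `O^p(H) ≤ N`. -/
theorem pResidual_le_of_sup_eq_top [Finite H] {p : ℕ} [Fact p.Prime] (T N : Subgroup H) [N.Normal]
    (hT : IsPGroup p T) (h : T ⊔ N = ⊤) : pResidual p H ≤ N := by
  unfold pResidual
  rw [Subgroup.closure_le]
  intro x hx
  have hx' : Nat.Coprime (orderOf x) p := hx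
  have hxtop : x ∈ T ⊔ N := by rw [h]; exact Subgroup.mem_top x
  obtain ⟨t, ht, n, hn, rfl⟩ := Subgroup.mem_sup_of_normal_right.mp hxtop
  obtain ⟨k, hk⟩ := hT ⟨t, ht⟩
  have hk' : t ^ (p ^ k) = 1 := by
    have := congrArg Subtype.val hk
    simpa using this
  have h1 : (t * n) ^ (p ^ k) ∈ N := by
    rw [← QuotientGroup.eq_one_iff, QuotientGroup.mk_pow, QuotientGroup.mk_mul,
      (QuotientGroup.eq_one_iff n).mpr hn, mul_one, ← QuotientGroup.mk_pow, hk']
    rfl
  have hcop : (p ^ k).Coprime (orderOf (t * n)) := (Nat.Coprime.pow_right k hx').symm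
  obtain ⟨m, hm⟩ := exists_pow_eq_self_of_coprime hcop
  rw [SetLike.mem_coe, ← hm]
  exact pow_mem h1 m

/-- a Sylow subgroup `Q` of `H` containing the image of a Sylow `P` of the normal subgroup `N` normalizes it. -/
theorem sylow_le_normalizer_of_le {p : ℕ} [Fact p.Prime] (N : Subgroup H) [N.Normal] (P : Sylow p N)
    (Q : Sylow p H) (hPQ : (P : Subgroup N).map N.subtype ≤ Q) :
    (Q : Subgroup H) ≤ Subgroup.normalizer (((P : Subgroup N).map N.subtype : Subgroup H) : Set H) := by
  -- P' = Q ⊓ N
  have hEq : (P : Subgroup N).map N.subtype = (Q : Subgroup H) ⊓ N := by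
    apply le_antisymm
    · refine le_inf hPQ ?_
      intro x hx
      obtain ⟨y, _, rfl⟩ := Subgroup.mem_map.mp hx
      exact y.2
    · have hp : IsPGroup p (((Q : Subgroup H) ⊓ N).subgroupOf N) := by
        apply IsPGroup.comap_subtype
        exact Q.isPGroup'.to_le inf_le_left
      have hle : (P : Subgroup N) ≤ ((Q : Subgroup H) ⊓ N).subgroupOf N := by
        intro x hx
        rw [Subgroup.mem_subgroupOf]
        exact ⟨hPQ (Subgroup.mem_map.mpr ⟨x, hx, rfl⟩), x.2⟩
      have := P.is_maximal' hp hle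
      intro x hx
      refine Subgroup.mem_map.mpr ⟨⟨x, hx.2⟩, ?_, rfl⟩
      rw [← this, Subgroup.mem_subgroupOf]
      exact hx
  rw [hEq]
  intro q hq
  rw [Subgroup.mem_normalizer_iff]
  intro x
  have hq' : q ∈ (Q : Subgroup H) := hq
  rw [Subgroup.mem_inf, Subgroup.mem_inf]
  constructor
  · intro hx
    exact ⟨(Q : Subgroup H).mul_mem ((Q : Subgroup H).mul_mem hq' hx.1) ((Q : Subgroup H).inv_mem hq'),
      ‹N.Normal›.conj_mem x hx.2 q⟩
  · intro hx
    refine ⟨?_, ?_⟩
    · have := (Q : Subgroup H).mul_mem ((Q : Subgroup H).mul_mem ((Q : Subgroup H).inv_mem hq') hx.1) hq'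
      have e : q⁻¹ * (q * x * q⁻¹) * q = x := by group
      rwa [e] at this
    · have := ‹N.Normal›.conj_mem _ hx.2 q⁻¹
      have e : q⁻¹ * (q * x * q⁻¹) * q⁻¹⁻¹ = x := by group
      rwa [e] at this

theorem minimal_isPIrreducible [Finite H] {p : ℕ} [Fact p.Prime] (T : Sylow p H)
    (hmin : IsMinimalOver (T : Subgroup H)) : IsPIrreducible p H := by
  obtain ⟨M, hM, hTM, hMuniv⟩ := exists_coatom_of_minimalOver hmin
  constructor
  · intro hcl
    have hTn : (T : Subgroup H).Normal := hcl T
    have h1 : Subgroup.normalClosure ((T : Subgroup H) : Set H) = T :=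
      Subgroup.normalClosure_eq_self _
    rw [hmin.1] at h1
    have : M = ⊤ := by
      rw [eq_top_iff, h1]; exact hTM
    exact hM.1 this
  · intro N hN hNcl
    haveI := hN
    by_contra hres
    apply hNcl
    have hTN : (T : Subgroup H) ⊔ N ≠ ⊤ := fun h =>
      hres (pResidual_le_of_sup_eq_top (T : Subgroup H) N T.isPGroup' h)
    have hNM : N ≤ M := le_sup_right.trans (hMuniv _ le_sup_left hTN)
    intro P
    -- P' and a Sylow Q of H above it
    set P' : Subgroup H := (P : Subgroup N).map N.subtype with hP'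
    have hP'p : IsPGroup p P' := P.isPGroup'.map _
    obtain ⟨Q, hQ⟩ := hP'p.exists_le_sylow
    obtain ⟨g, hg⟩ := MulAction.exists_smul_eq H T Q
    have hQnorm := sylow_le_normalizer_of_le N P Q hQ
    have hfrat : Subgroup.normalizer (P' : Set H) ⊔ N = ⊤ := Sylow.normalizer_sup_eq_top P
    have hnormtop : Subgroup.normalizer (P' : Set H) = ⊤ := by
      by_contra hne
      -- normalizer ≤ g • M
      have h1 : (MulAut.conj g)⁻¹ • Subgroup.normalizer (P' : Set H) ≤ M := by
        apply hMuniv
        · have : (T : Subgroup H) = (MulAut.conj g)⁻¹ • (Q : Subgroup H) := by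
            rw [← hg, Sylow.coe_subgroup_smul, inv_smul_smul]
          rw [this]
          exact Subgroup.pointwise_smul_le_pointwise_smul_iff.mpr hQnorm
        · intro h
          apply hne
          have := congrArg (fun K => MulAut.conj g • K) h
          simp only [smul_inv_smul] at this
          rw [this]
          ext x
          simp only [Subgroup.mem_top, iff_true]
          rw [Subgroup.mem_pointwise_smul_iff_inv_smul_mem]
          exact Subgroup.mem_top _
      have h2 : Subgroup.normalizer (P' : Set H) ≤ MulAut.conj g • M := by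
        have := Subgroup.pointwise_smul_le_pointwise_smul_iff (a := MulAut.conj g) |>.mpr h1
        rwa [smul_inv_smul] at this
      have h3 : N ≤ MulAut.conj g • M := by
        have := Subgroup.pointwise_smul_le_pointwise_smul_iff (a := MulAut.conj g) |>.mpr hNM
        rwa [Subgroup.Normal.conj_smul_eq_self] at this
      have h4 : MulAut.conj g • M = ⊤ := by
        rw [eq_top_iff, ← hfrat]; exact sup_le h2 h3
      have h5 : M = ⊤ := by
        have := congrArg (fun K => (MulAut.conj g)⁻¹ • K) h4
        simp only [inv_smul_smul] at this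
        rw [this]
        ext x
        simp only [Subgroup.mem_top, iff_true]
        rw [Subgroup.mem_pointwise_smul_iff_inv_smul_mem]
        exact Subgroup.mem_top _
      exact hM.1 h5
    -- P normal in N
    have hP'n : P'.Normal := Subgroup.normalizer_eq_top_iff.mp hnormtop
    constructor
    intro n hn x
    have h1 : ((x : H) * (n : H) * (x : H)⁻¹) ∈ P' := hP'n.conj_mem _ (Subgroup.mem_map.mpr ⟨n, hn, rfl⟩) _
    obtain ⟨y, hy, hyx⟩ := Subgroup.mem_map.mp h1
    have : y = x * n * x⁻¹ := by
      apply Subtype.ext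
      rw [← Subgroup.subtype_apply, hyx]; simp
    rw [← this]; exact hy

end Cfsg.Agent.Lib.Helper4_Minimal
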