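import Mathlib
import Cfsg.Prelude.Def_LocalStructure
import Cfsg.Agent.Lib.Helper4_PCore
import Cfsg.Agent.Lib.Helper4_Minimal

namespace Cfsg.Agent.Lib.Helper4_PIrred

open Cfsg Cfsg.Agent.Lib.Helper4_PCore Cfsg.Agent.Lib.Helper4_Minimal
open scoped commutatorElement

variable {H : Type*} [Group H]

theorem le_normalizer_of_conj_mem' (A W : Subgroup H)
    (h : ∀ g ∈ A, ∀ w ∈ W, g * w * g⁻¹ ∈ W) : A ≤ Subgroup.normalizer (W : Set H) := by
  intro g hg
  rw [Subgroup.mem_normalizer_iff]
  intro w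
  constructor
  · exact h g hg w
  · intro hw
    have := h g⁻¹ (inv_mem hg) _ hw
    have e : g⁻¹ * (g * w * g⁻¹) * g⁻¹⁻¹ = w := by group
    rwa [e] at this

theorem closure_normal_of_conj_mem (s : Set H) (h : ∀ g x, x ∈ s → g * x * g⁻¹ ∈ s) :
    (Subgroup.closure s).Normal := by
  constructor
  intro n hn g
  have : Subgroup.closure s ≤ (Subgroup.closure s).comap (MulAut.conj g).toMonoidHom := by
    rw [Subgroup.closure_le]
    intro x hx
    rw [SetLike.mem_coe, Subgroup.mem_comap]
    exact Subgroup.subset_closure (h g x hx)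
  exact this hn

theorem pResidual_normal (p : ℕ) : (pResidual p H).Normal := by
  unfold pResidual
  apply closure_normal_of_conj_mem
  intro g x hx
  have hx' : Nat.Coprime (orderOf x) p := hx
  show Nat.Coprime (orderOf (g * x * g⁻¹)) p
  have : orderOf (g * x * g⁻¹) = orderOf x := by
    have := MulEquiv.orderOf_eq (MulAut.conj g) x
    simpa using this
  rw [this]; exact hx'

/-- `H / O^p(H)` is a `p`-group. -/
theorem quotient_pResidual_isPGroup [Finite H] (p : ℕ) [Fact p.Prime]
    [hn : (pResidual p H).Normal] : IsPGroup p (H ⧸ pResidual p H) := by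
  have hp : p.Prime := Fact.out
  intro x
  induction x using QuotientGroup.induction_on with
  | H g =>
    have hpos : 0 < orderOf g := orderOf_pos _
    obtain ⟨a, m, hm, hgm⟩ := Nat.exists_eq_pow_mul_and_not_dvd hpos.ne' p hp.ne_one
    refine ⟨a, ?_⟩
    have h2 : orderOf (g ^ (p ^ a)) = m := by
      rw [orderOf_pow' _ (pow_ne_zero a hp.ne_zero), hgm, Nat.gcd_eq_right (Dvd.intro _ rfl)]
      exact Nat.mul_div_cancel_left m (pow_pos hp.pos a)
    have h3 : g ^ (p ^ a) ∈ pResidual p H := by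
      unfold pResidual
      apply Subgroup.subset_closure
      show Nat.Coprime (orderOf (g ^ (p ^ a))) p
      rw [h2]
      exact (Nat.Coprime.symm ((Nat.Prime.coprime_iff_not_dvd hp).mpr hm))
    rw [← QuotientGroup.mk_pow]
    exact (QuotientGroup.eq_one_iff _).mpr h3

/-- `O^p(H) T = H` for a Sylow `p`-subgroup `T`. -/
theorem sylow_sup_pResidual [Finite H] {p : ℕ} [Fact p.Prime] (T : Sylow p H) :
    (T : Subgroup H) ⊔ pResidual p H = ⊤ := by
  haveI := pResidual_normal (H := H) p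
  have hsurj : Function.Surjective (QuotientGroup.mk' (pResidual p H)) :=
    QuotientGroup.mk'_surjective _
  have hQ : IsPGroup p (H ⧸ pResidual p H) := quotient_pResidual_isPGroup p
  have h1 : ((T.mapSurjective hsurj : Sylow p (H ⧸ pResidual p H)) : Subgroup (H ⧸ pResidual p H)) = ⊤ := by
    have hp : IsPGroup p (⊤ : Subgroup (H ⧸ pResidual p H)) := hQ.to_subgroup ⊤
    exact ((T.mapSurjective hsurj).is_maximal' hp le_top).symm
  rw [Sylow.coe_mapSurjective] at h1
  have h2 := congrArg (Subgroup.comap (QuotientGroup.mk' (pResidual p H))) h1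
  rw [Subgroup.comap_map_eq, QuotientGroup.ker_mk', Subgroup.comap_top] at h2
  exact h2

/-- a `p'`-element of `Y ⊔ K` (`Y` a `p`-group, `K` normal) lies in `K`. -/
theorem mem_of_coprime_of_mem_sup [Finite H] {p : ℕ} [Fact p.Prime] (Y K : Subgroup H) [K.Normal]
    (hY : IsPGroup p Y) {x : H} (hx : x ∈ Y ⊔ K) (hcop : Nat.Coprime (orderOf x) p) : x ∈ K := by
  obtain ⟨t, ht, n, hn, rfl⟩ := Subgroup.mem_sup_of_normal_right.mp hx
  obtain ⟨k, hk⟩ := hY ⟨t, ht⟩
  have hk' : t ^ (p ^ k) = 1 := by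
    have := congrArg Subtype.val hk
    simpa using this
  have h1 : (t * n) ^ (p ^ k) ∈ K := by
    rw [← QuotientGroup.eq_one_iff, QuotientGroup.mk_pow, QuotientGroup.mk_mul,
      (QuotientGroup.eq_one_iff n).mpr hn, mul_one, ← QuotientGroup.mk_pow, hk']
    rfl
  have hcop' : (p ^ k).Coprime (orderOf (t * n)) := (Nat.Coprime.pow_right k hcop).symm
  obtain ⟨m, hm⟩ := exists_pow_eq_self_of_coprime hcop'
  rw [← hm]
  exact pow_mem h1 m

/-- if all `p'`-elements of `R = O^p(H)` that lie in ... : `O^p(H) ≤ K` when `O^p(H) ≤ Y ⊔ K`. -/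
theorem pResidual_le_of_le_sup [Finite H] {p : ℕ} [Fact p.Prime] (Y K : Subgroup H) [K.Normal]
    (hY : IsPGroup p Y) (h : pResidual p H ≤ Y ⊔ K) : pResidual p H ≤ K := by
  conv_lhs => unfold pResidual
  rw [Subgroup.closure_le]
  intro x hx
  have hx' : Nat.Coprime (orderOf x) p := hx
  have hxR : x ∈ pResidual p H := by
    unfold pResidual
    exact Subgroup.subset_closure hx
  exact mem_of_coprime_of_mem_sup Y K hY (h hxR) hx'

/-- In a `p`-closed normal subgroup `N` of `H`, the Sylow subgroup is normal in `H`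
and contains every `p`-subgroup of `N`. -/
theorem pClosed_normal_sylow [Finite H] {p : ℕ} [Fact p.Prime] (N : Subgroup H) [N.Normal]
    (hN : IsPClosed p ↥N) (P : Sylow p N) :
    ((P : Subgroup N).map N.subtype).Normal ∧
      ∀ Y : Subgroup H, Y ≤ N → IsPGroup p Y → Y ≤ (P : Subgroup N).map N.subtype := by
  haveI : Unique (Sylow p N) := Sylow.unique_of_normal P (hN P)
  constructor
  · haveI : (P : Subgroup N).Characteristic := Sylow.characteristic_of_subsingleton P
    exact ConjAct.normal_of_characteristic_of_normal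
  · intro Y hYN hYp
    have hp : IsPGroup p (Y.subgroupOf N) := hYp.comap_subtype
    obtain ⟨Q, hQ⟩ := hp.exists_le_sylow
    have : Q = P := Subsingleton.elim _ _
    rw [this] at hQ
    intro y hy
    exact Subgroup.mem_map.mpr ⟨⟨y, hYN hy⟩, hQ (by rw [Subgroup.mem_subgroupOf]; exact hy), rfl⟩

/-- A normal subgroup containing a Sylow subgroup `T` of a non-`p`-closed group is not `p`-closed. -/
theorem not_pClosed_of_sylow_le [Finite H] {p : ℕ} [Fact p.Prime] (hH : ¬ IsPClosed p H)
    (T : Sylow p H) (N : Subgroup H) [N.Normal] (hTN : (T : Subgroup H) ≤ N) : ¬ IsPClosed p ↥N := by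
  intro hN
  apply hH
  have h1 := (pClosed_normal_sylow N hN (T.subtype hTN)).1
  have h2 : ((T.subtype hTN : Sylow p N) : Subgroup N).map N.subtype = T := by
    rw [Sylow.coe_subtype, Subgroup.subgroupOf_map_subtype, inf_of_le_left hTN]
  rw [h2] at h1
  intro Q
  obtain ⟨g, rfl⟩ := MulAction.exists_smul_eq H T Q
  haveI := h1
  rw [Sylow.smul_eq_of_normal]
  exact h1

/-- A normal subgroup that is `p`-closed has all its `p`-subgroups inside `O_p(H)`. -/
theorem le_pCore_of_pClosed [Finite H] {p : ℕ} [Fact p.Prime] (N : Subgroup H) [N.Normal]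
    (hN : IsPClosed p ↥N) (Y : Subgroup H) (hYN : Y ≤ N) (hY : IsPGroup p Y) : Y ≤ pCore p H := by
  obtain ⟨P⟩ : Nonempty (Sylow p N) := inferInstance
  obtain ⟨h1, h2⟩ := pClosed_normal_sylow N hN P
  exact (h2 Y hYN hY).trans (le_pCore _ h1 (P.isPGroup'.map _))

theorem commutator_conj_mem_left (R Y : Subgroup H) :
    ∀ a ∈ R, ∀ n ∈ ⁅R, Y⁆, a * n * a⁻¹ ∈ ⁅R, Y⁆ := by
  intro a ha
  have : ⁅R, Y⁆ ≤ (⁅R, Y⁆).comap (MulAut.conj a).toMonoidHom := by
    conv_lhs => rw [Subgroup.commutator_def]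
    rw [Subgroup.closure_le]
    rintro g ⟨b, hb, c, hc, rfl⟩
    rw [SetLike.mem_coe, Subgroup.mem_comap]
    simp only [MulEquiv.coe_toMonoidHom, MulAut.conj_apply]
    have h1 : ⁅a * b, c⁆ ∈ ⁅R, Y⁆ := Subgroup.commutator_mem_commutator (mul_mem ha hb) hc
    have h2 : ⁅a, c⁆ ∈ ⁅R, Y⁆ := Subgroup.commutator_mem_commutator ha hc
    have : a * ⁅b, c⁆ * a⁻¹ = ⁅a * b, c⁆ * ⁅a, c⁆⁻¹ := by
      simp only [commutatorElement_def]; group
    rw [this]
    exact mul_mem h1 (inv_mem h2)
  intro n hn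
  exact this hn

theorem commutator_conj_mem_of_normalizes (R Y : Subgroup H) (t : H)
    (hR : ∀ r ∈ R, t * r * t⁻¹ ∈ R) (hY : ∀ y ∈ Y, t * y * t⁻¹ ∈ Y) :
    ∀ n ∈ ⁅R, Y⁆, t * n * t⁻¹ ∈ ⁅R, Y⁆ := by
  have : ⁅R, Y⁆ ≤ (⁅R, Y⁆).comap (MulAut.conj t).toMonoidHom := by
    conv_lhs => rw [Subgroup.commutator_def]
    rw [Subgroup.closure_le]
    rintro g ⟨b, hb, c, hc, rfl⟩
    rw [SetLike.mem_coe, Subgroup.mem_comap]
    simp only [MulEquiv.coe_toMonoidHom, MulAut.conj_apply]
    have : t * ⁅b, c⁆ * t⁻¹ = ⁅t * b * t⁻¹, t * c * t⁻¹⁆ := by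
      simp only [commutatorElement_def]; group
    rw [this]
    exact Subgroup.commutator_mem_commutator (hR b hb) (hY c hc)
  intro n hn
  exact this hn

theorem pIrreducible_generation [Finite H] {p : ℕ} [Fact p.Prime] (hH : IsPIrreducible p H)
    (T : Sylow p H) :
    Subgroup.normalClosure ((T : Subgroup H) : Set H) = ⊤ ∧ commutator H ⊔ (T : Subgroup H) = ⊤ ∧
      pResidual p H ≤ commutator H ∧
      ∀ Y : Subgroup H, Y ≤ (T : Subgroup H) → (T : Subgroup H) ≤ Subgroup.normalizer (Y : Set H) →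
        ¬ Y ≤ pCore p H →
          ⁅pResidual p H, Y⁆ = pResidual p H ∧ pResidual p H ≤ Subgroup.normalClosure (Y : Set H) := by
  obtain ⟨hncl, hirr⟩ := hH
  haveI hRn := pResidual_normal (H := H) p
  have hTR := sylow_sup_pResidual T
  -- (a)
  have ha : Subgroup.normalClosure ((T : Subgroup H) : Set H) = ⊤ := by
    have h1 : (T : Subgroup H) ≤ Subgroup.normalClosure ((T : Subgroup H) : Set H) :=
      Subgroup.le_normalClosure
    have h2 := not_pClosed_of_sylow_le hncl T _ h1
    have h3 := hirr _ inferInstance h2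
    rw [eq_top_iff, ← hTR]
    exact sup_le h1 h3
  -- (c)
  have hc : pResidual p H ≤ commutator H := by
    haveI hn1 : ((T : Subgroup H) ⊔ commutator H).Normal :=
      Subgroup.Normal.of_commutator_le (h := le_sup_right)
    have h2 := not_pClosed_of_sylow_le hncl T _ (le_sup_left : (T : Subgroup H) ≤ (T : Subgroup H) ⊔ commutator H)
    have h3 := hirr _ hn1 h2
    exact pResidual_le_of_le_sup (T : Subgroup H) (commutator H) T.isPGroup' h3
  -- (b)
  have hb : commutator H ⊔ (T : Subgroup H) = ⊤ := by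
    apply le_antisymm le_top
    calc (⊤ : Subgroup H) = (T : Subgroup H) ⊔ pResidual p H := hTR.symm
      _ ≤ commutator H ⊔ (T : Subgroup H) := sup_le le_sup_right (hc.trans le_sup_left)
  refine ⟨ha, hb, hc, ?_⟩
  intro Y hYT hTY hYO
  have hYp : IsPGroup p Y := T.isPGroup'.to_le hYT
  -- second claim
  have h2nd : pResidual p H ≤ Subgroup.normalClosure (Y : Set H) := by
    apply hirr _ inferInstance
    intro hcl
    exact hYO (le_pCore_of_pClosed _ hcl Y Subgroup.le_normalClosure hYp)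
  refine ⟨?_, h2nd⟩
  set R := pResidual p H with hR
  set K := ⁅R, Y⁆ with hK
  have hKR : K ≤ R := by
    rw [hK, Subgroup.commutator_le]
    intro r hr y hy
    have h1 : y * r⁻¹ * y⁻¹ ∈ R := hRn.conj_mem _ (inv_mem hr) y
    have : ⁅r, y⁆ = r * (y * r⁻¹ * y⁻¹) := by rw [commutatorElement_def]; group
    rw [this]
    exact mul_mem hr h1
  -- K is normal in H
  have hKn : K.Normal := by
    have hnorm : (⊤ : Subgroup H) ≤ Subgroup.normalizer (K : Set H) := by
      rw [← hTR]
      apply sup_le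
      · apply Cfsg.Agent.Lib.Helper4_PIrred.le_normalizer_of_conj_mem'
        intro t ht
        apply commutator_conj_mem_of_normalizes
        · intro r hr
          exact hRn.conj_mem r hr t
        · intro y hy
          exact (Subgroup.mem_normalizer_iff.mp (hTY ht) y).mp hy
      · apply Cfsg.Agent.Lib.Helper4_PIrred.le_normalizer_of_conj_mem'
        intro r hr
        exact commutator_conj_mem_left R Y r hr
    exact Subgroup.normalizer_eq_top_iff.mp (top_le_iff.mp hnorm)
  -- Y ⊔ K is normal in H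
  have hYKn : (Y ⊔ K).Normal := by
    have hnorm : (⊤ : Subgroup H) ≤ Subgroup.normalizer ((Y ⊔ K : Subgroup H) : Set H) := by
      rw [← hTR]
      apply sup_le
      · apply Cfsg.Agent.Lib.Helper4_PIrred.le_normalizer_of_conj_mem'
        intro t ht x hx
        obtain ⟨y, hy, k, hk, rfl⟩ := Subgroup.mem_sup_of_normal_right.mp hx
        have h1 : t * y * t⁻¹ ∈ Y := (Subgroup.mem_normalizer_iff.mp (hTY ht) y).mp hy
        have h2 : t * k * t⁻¹ ∈ K := hKn.conj_mem k hk t
        have : t * (y * k) * t⁻¹ = (t * y * t⁻¹) * (t * k * t⁻¹) := by group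
        rw [this]
        exact mul_mem (Subgroup.mem_sup_left h1) (Subgroup.mem_sup_right h2)
      · apply Cfsg.Agent.Lib.Helper4_PIrred.le_normalizer_of_conj_mem'
        intro r hr x hx
        obtain ⟨y, hy, k, hk, rfl⟩ := Subgroup.mem_sup_of_normal_right.mp hx
        have h1 : ⁅r, y⁆ ∈ K := Subgroup.commutator_mem_commutator hr hy
        have h2 : r * k * r⁻¹ ∈ K := hKn.conj_mem k hk r
        have : r * (y * k) * r⁻¹ = ⁅r, y⁆ * y * (r * k * r⁻¹) := by
          rw [commutatorElement_def]; group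
        rw [this]
        exact mul_mem (mul_mem (Subgroup.mem_sup_right h1) (Subgroup.mem_sup_left hy)) (Subgroup.mem_sup_right h2)
    exact Subgroup.normalizer_eq_top_iff.mp (top_le_iff.mp hnorm)
  have h3 : Subgroup.normalClosure (Y : Set H) ≤ Y ⊔ K :=
    Subgroup.normalClosure_le_normal (le_sup_left : Y ≤ Y ⊔ K)
  have h4 : R ≤ K := pResidual_le_of_le_sup Y K hYp (h2nd.trans h3)
  exact le_antisymm hKR h4

end Cfsg.Agent.Lib.Helper4_PIrred
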