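import Mathlib
import Cfsg.Prelude.Def_LocalStructure
import Cfsg.Agent.Lib.Helper4_PIrred
import Cfsg.Agent.Lib.Helper4_Amalgam4

namespace Cfsg.Agent.Lib.Helper4_PIrred2

open Cfsg Cfsg.Agent.Lib.Helper4_PCore Cfsg.Agent.Lib.Helper4_Minimal Cfsg.Agent.Lib.Helper4_PIrred
open scoped commutatorElement

variable {G : Type*} [Group G]

/-- criterion: `G` is `p`-closed iff every `p`-element lies in `O_p(G)`. -/
theorem isPClosed_iff [Finite G] {p : ℕ} [Fact p.Prime] :
    IsPClosed p G ↔ ∀ x : G, (∃ k : ℕ, x ^ (p ^ k) = 1) → x ∈ pCore p G := by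
  constructor
  · intro hcl x ⟨k, hk⟩
    obtain ⟨P⟩ : Nonempty (Sylow p G) := inferInstance
    have hPn := hcl P
    have hzp : IsPGroup p (Subgroup.zpowers x) := by
      rintro ⟨y, hy⟩
      obtain ⟨n, rfl⟩ := Subgroup.mem_zpowers_iff.mp hy
      refine ⟨k, ?_⟩
      apply Subtype.ext
      show (x ^ n) ^ (p ^ k) = 1
      rw [← zpow_natCast, ← zpow_mul, mul_comm, zpow_mul, zpow_natCast, hk, one_zpow]
    obtain ⟨Q, hQ⟩ := hzp.exists_le_sylow
    haveI : Unique (Sylow p G) := Sylow.unique_of_normal P hPn
    have : Q = P := Subsingleton.elim _ _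
    rw [this] at hQ
    exact le_pCore _ hPn P.isPGroup' (hQ (Subgroup.mem_zpowers x))
  · intro h P
    have h1 : (P : Subgroup G) = pCore p G := by
      apply le_antisymm _ (pCore_le_sylow P)
      intro x hx
      obtain ⟨k, hk⟩ := P.isPGroup' ⟨x, hx⟩
      apply h x ⟨k, ?_⟩
      have := congrArg Subtype.val hk
      simpa using this
    rw [h1]
    exact pCore_normal p G

theorem pCore_characteristic (p : ℕ) : (pCore p G).Characteristic := by
  rw [Subgroup.characteristic_iff_map_eq]
  intro φ
  exact Cfsg.Agent.Lib.Helper4_Amalgam4.pCore_map_equiv p φ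

/-- `O_p(N) = N ∩ O_p(G)` for `N` normal. -/
theorem pCore_subgroupOf_normal [Finite G] {p : ℕ} [Fact p.Prime] (N : Subgroup G) [hN : N.Normal] :
    pCore p ↥N = (pCore p G).subgroupOf N := by
  apply le_antisymm
  · haveI := pCore_characteristic (G := ↥N) p
    have hn : ((pCore p ↥N).map N.subtype).Normal := ConjAct.normal_of_characteristic_of_normal
    have hp : IsPGroup p ((pCore p ↥N).map N.subtype) := (pCore_isPGroup (G := ↥N) (p := p)).map _
    have := le_pCore _ hn hp
    intro x hx
    rw [Subgroup.mem_subgroupOf]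
    exact this (Subgroup.mem_map.mpr ⟨x, hx, rfl⟩)
  · apply le_pCore
    · haveI := pCore_normal p G
      infer_instance
    · exact (pCore_isPGroup (G := G) (p := p)).comap_subtype

/-- criterion for a normal subgroup. -/
theorem isPClosed_normal_iff [Finite G] {p : ℕ} [Fact p.Prime] (N : Subgroup G) [hN : N.Normal] :
    IsPClosed p ↥N ↔ ∀ x ∈ N, (∃ k : ℕ, x ^ (p ^ k) = 1) → x ∈ pCore p G := by
  rw [isPClosed_iff, pCore_subgroupOf_normal]
  constructor
  · intro h x hx ⟨k, hk⟩
    have := h ⟨x, hx⟩ ⟨k, by apply Subtype.ext; simpa using hk⟩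
    rwa [Subgroup.mem_subgroupOf] at this
  · intro h x ⟨k, hk⟩
    rw [Subgroup.mem_subgroupOf]
    apply h _ x.2 ⟨k, ?_⟩
    have := congrArg Subtype.val hk
    simpa using this

section quotient

variable [Finite G] {p : ℕ} [Fact p.Prime] (D : Subgroup G) [D.Normal]

theorem comap_pCore_quotient (hD : IsPGroup p D) :
    (pCore p (G ⧸ D)).comap (QuotientGroup.mk' D) = pCore p G := by
  apply le_antisymm
  · apply le_pCore
    · haveI := pCore_normal p (G ⧸ D)
      infer_instance
    · apply (pCore_isPGroup (G := G ⧸ D) (p := p)).comap_of_ker_isPGroup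
      rw [QuotientGroup.ker_mk']
      exact hD
  · rw [← Subgroup.map_le_iff_le_comap]
    apply le_pCore
    · haveI := pCore_normal p G
      exact Subgroup.Normal.map inferInstance _ (QuotientGroup.mk'_surjective D)
    · exact (pCore_isPGroup (G := G) (p := p)).map _

theorem map_pResidual_quotient :
    (pResidual p G).map (QuotientGroup.mk' D) = pResidual p (G ⧸ D) := by
  apply le_antisymm
  · rw [Subgroup.map_le_iff_le_comap]
    conv_lhs => unfold pResidual
    rw [Subgroup.closure_le]
    intro x hx
    have hx' : Nat.Coprime (orderOf x) p := hx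
    rw [SetLike.mem_coe, Subgroup.mem_comap]
    unfold pResidual
    apply Subgroup.subset_closure
    show Nat.Coprime (orderOf (QuotientGroup.mk' D x)) p
    exact Nat.Coprime.coprime_dvd_left (orderOf_map_dvd _ x) hx'
  · conv_lhs => unfold pResidual
    rw [Subgroup.closure_le]
    intro y hy
    have hy' : Nat.Coprime (orderOf y) p := hy
    induction y using QuotientGroup.induction_on with
    | H x =>
      haveI := pResidual_normal (H := G) p
      obtain ⟨a, ha⟩ := quotient_pResidual_isPGroup (H := G) p (QuotientGroup.mk x)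
      rw [← QuotientGroup.mk_pow, QuotientGroup.eq_one_iff] at ha
      have h1 : (QuotientGroup.mk' D x) ^ (p ^ a) ∈ (pResidual p G).map (QuotientGroup.mk' D) := by
        rw [← map_pow]
        exact Subgroup.mem_map.mpr ⟨_, ha, rfl⟩
      have hcop : (p ^ a).Coprime (orderOf (QuotientGroup.mk' D x)) :=
        (Nat.Coprime.pow_right a hy').symm
      obtain ⟨m, hm⟩ := exists_pow_eq_self_of_coprime hcop
      rw [SetLike.mem_coe]
      have : (x : G ⧸ D) = ((QuotientGroup.mk' D x) ^ (p ^ a)) ^ m := hm.symm
      rw [this]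
      exact pow_mem h1 m

/-- transfer of `p`-closedness of normal subgroups to the quotient by a normal `p`-subgroup -/
theorem isPClosed_map_iff (hD : IsPGroup p D) (N : Subgroup G) [N.Normal] :
    haveI : (N.map (QuotientGroup.mk' D)).Normal :=
      Subgroup.Normal.map inferInstance _ (QuotientGroup.mk'_surjective D)
    IsPClosed p ↥(N.map (QuotientGroup.mk' D)) ↔ IsPClosed p ↥N := by
  haveI : (N.map (QuotientGroup.mk' D)).Normal :=
    Subgroup.Normal.map inferInstance _ (QuotientGroup.mk'_surjective D)
  rw [isPClosed_normal_iff, isPClosed_normal_iff]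
  constructor
  · intro h x hx ⟨k, hk⟩
    have := h (QuotientGroup.mk' D x) (Subgroup.mem_map.mpr ⟨x, hx, rfl⟩) ⟨k, by rw [← map_pow, hk, map_one]⟩
    rw [← comap_pCore_quotient D hD]
    exact this
  · intro h y hy ⟨k, hk⟩
    obtain ⟨x, hx, rfl⟩ := Subgroup.mem_map.mp hy
    have h1 : x ^ (p ^ k) ∈ D := by
      rw [← map_pow, QuotientGroup.mk'_apply, QuotientGroup.eq_one_iff] at hk
      exact hk
    obtain ⟨j, hj⟩ := hD ⟨_, h1⟩
    have hj' : (x ^ (p ^ k)) ^ (p ^ j) = 1 := by
      have := congrArg Subtype.val hj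
      simpa using this
    have h2 := h x hx ⟨k + j, by rw [pow_add, pow_mul, hj']⟩
    rw [← comap_pCore_quotient D hD] at h2
    exact h2

theorem isPClosed_quotient_iff (hD : IsPGroup p D) :
    IsPClosed p (G ⧸ D) ↔ IsPClosed p G := by
  rw [isPClosed_iff, isPClosed_iff]
  constructor
  · intro h x ⟨k, hk⟩
    have := h (QuotientGroup.mk' D x) ⟨k, by rw [← map_pow, hk, map_one]⟩
    rw [← comap_pCore_quotient D hD]
    exact this
  · intro h y ⟨k, hk⟩
    induction y using QuotientGroup.induction_on with
    | H x =>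
      have h1 : x ^ (p ^ k) ∈ D := by
        rw [← QuotientGroup.mk_pow, QuotientGroup.eq_one_iff] at hk
        exact hk
      obtain ⟨j, hj⟩ := hD ⟨_, h1⟩
      have hj' : (x ^ (p ^ k)) ^ (p ^ j) = 1 := by
        have := congrArg Subtype.val hj
        simpa using this
      have h2 := h x ⟨k + j, by rw [pow_add, pow_mul, hj']⟩
      rw [← comap_pCore_quotient D hD] at h2
      exact h2

theorem pIrreducible_quotient_iff (hD : IsPGroup p D) :
    (IsPIrreducible p G ↔ IsPIrreducible p (G ⧸ D)) ∧
      (IsStronglyPIrreducible p G ↔ IsStronglyPIrreducible p (G ⧸ D)) := by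
  have hsurj : Function.Surjective (QuotientGroup.mk' D) := QuotientGroup.mk'_surjective D
  have hres := map_pResidual_quotient (p := p) D
  have hcore := comap_pCore_quotient D hD
  -- common step: from O^p(G/D) ≤ map N deduce O^p(G) ≤ N
  have hback : ∀ N : Subgroup G, N.Normal →
      pResidual p (G ⧸ D) ≤ N.map (QuotientGroup.mk' D) → pResidual p G ≤ N := by
    intro N hN h
    haveI := hN
    rw [← hres, Subgroup.map_le_iff_le_comap, Subgroup.comap_map_eq, QuotientGroup.ker_mk', sup_comm] at h
    exact pResidual_le_of_le_sup D N hD h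
  have hfwd : ∀ N' : Subgroup (G ⧸ D),
      pResidual p G ≤ N'.comap (QuotientGroup.mk' D) → pResidual p (G ⧸ D) ≤ N' := by
    intro N' h
    rw [← hres, Subgroup.map_le_iff_le_comap]
    exact h
  constructor
  · constructor
    · rintro ⟨hncl, hirr⟩
      refine ⟨fun h => hncl ((isPClosed_quotient_iff D hD).mp h), ?_⟩
      intro N' hN' hN'cl
      haveI := hN'
      apply hfwd
      apply hirr _ inferInstance
      intro hcl
      apply hN'cl
      have hmap : (N'.comap (QuotientGroup.mk' D)).map (QuotientGroup.mk' D) = N' :=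
        Subgroup.map_comap_eq_self_of_surjective hsurj N'
      have := (isPClosed_map_iff D hD (N'.comap (QuotientGroup.mk' D))).mpr hcl
      rw [hmap] at this
      exact this
    · rintro ⟨hncl, hirr⟩
      refine ⟨fun h => hncl ((isPClosed_quotient_iff D hD).mpr h), ?_⟩
      intro N hN hNcl
      haveI := hN
      apply hback N hN
      apply hirr _ (Subgroup.Normal.map hN _ hsurj)
      intro hcl
      exact hNcl ((isPClosed_map_iff D hD N).mp hcl)
  · constructor
    · rintro ⟨hncl, hirr⟩
      refine ⟨fun h => hncl ((isPClosed_quotient_iff D hD).mp h), ?_⟩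
      intro N' hN' hN'c
      haveI := hN'
      apply hfwd
      apply hirr _ inferInstance
      intro hc
      apply hN'c
      have hmap : (N'.comap (QuotientGroup.mk' D)).map (QuotientGroup.mk' D) = N' :=
        Subgroup.map_comap_eq_self_of_surjective hsurj N'
      have h1 := Subgroup.map_mono (f := QuotientGroup.mk' D) hc
      rw [Subgroup.map_commutator, hmap, ← MonoidHom.range_eq_map, MonoidHom.range_eq_top.mpr hsurj] at h1
      refine h1.trans ?_
      rw [Subgroup.map_le_iff_le_comap, hcore]
    · rintro ⟨hncl, hirr⟩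
      refine ⟨fun h => hncl ((isPClosed_quotient_iff D hD).mpr h), ?_⟩
      intro N hN hNc
      haveI := hN
      apply hback N hN
      apply hirr _ (Subgroup.Normal.map hN _ hsurj)
      intro hc
      apply hNc
      rw [← hcore, ← Subgroup.map_le_iff_le_comap, Subgroup.map_commutator,
        ← MonoidHom.range_eq_map, MonoidHom.range_eq_top.mpr hsurj]
      exact hc

end quotient

end Cfsg.Agent.Lib.Helper4_PIrred2
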