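import Mathlib
import Cfsg.Prelude.Def_LocalStructure
import Cfsg.Agent.Lib.Helper4_PIrred2

namespace Cfsg.Agent.Lib.Helper4_Subnormal

open Cfsg Cfsg.Agent.Lib.Helper4_PCore Cfsg.Agent.Lib.Helper4_Minimal Cfsg.Agent.Lib.Helper4_PIrred
  Cfsg.Agent.Lib.Helper4_PIrred2
open scoped commutatorElement

universe u

/-- a subnormal `p`-subgroup of a finite group lies in `O_p`. -/
theorem subnormal_pGroup_le_pCore_aux {p : ℕ} [Fact p.Prime] :
    ∀ n : ℕ, ∀ (G : Type u) [Group G] [Finite G], Nat.card G = n →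
      ∀ A : Subgroup G, A.IsSubnormal → IsPGroup p A → A ≤ pCore p G := by
  intro n
  induction n using Nat.strong_induction_on with
  | _ n ih =>
    intro G _ _ hn A hA hAp
    by_cases htop : A = ⊤
    · exact le_pCore A (htop ▸ inferInstance) hAp
    · obtain ⟨N, hN, hAN, hNlt⟩ := hA.exists_normal_and_le_and_lt_top_of_ne htop
      haveI := hN
      have hcard : Nat.card N < n := by
        rw [← hn]
        have h1 : Nat.card N ≤ Nat.card G := Subgroup.card_le_card_group N
        rcases Nat.lt_or_ge (Nat.card N) (Nat.card G) with h | h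
        · exact h
        · exact absurd (Subgroup.eq_top_of_le_card N h) hNlt.ne
      have h1 := ih (Nat.card N) hcard ↥N rfl (A.subgroupOf N) hA.subgroupOf hAp.comap_subtype
      rw [pCore_subgroupOf_normal] at h1
      intro a ha
      have := h1 (show (⟨a, hAN ha⟩ : N) ∈ A.subgroupOf N by rw [Subgroup.mem_subgroupOf]; exact ha)
      rwa [Subgroup.mem_subgroupOf] at this

theorem subnormal_pGroup_le_pCore {G : Type u} [Group G] [Finite G] {p : ℕ} [Fact p.Prime]
    (A : Subgroup G) (hA : A.IsSubnormal) (hAp : IsPGroup p A) : A ≤ pCore p G :=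
  subnormal_pGroup_le_pCore_aux (Nat.card G) G rfl A hA hAp

variable {H : Type u} [Group H]

theorem map_pResidual_subtype (p : ℕ) (S : Subgroup H) :
    (pResidual p ↥S).map S.subtype = Subgroup.closure {x : H | x ∈ S ∧ Nat.Coprime (orderOf x) p} := by
  unfold pResidual
  rw [MonoidHom.map_closure]
  congr 1
  ext x
  constructor
  · rintro ⟨y, hy, rfl⟩
    refine ⟨y.2, ?_⟩
    have hy' : Nat.Coprime (orderOf y) p := hy
    rwa [Subgroup.coe_subtype, Subgroup.orderOf_coe]
  · rintro ⟨hxS, hx⟩
    refine ⟨⟨x, hxS⟩, ?_, rfl⟩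
    show Nat.Coprime (orderOf (⟨x, hxS⟩ : S)) p
    rw [← Subgroup.orderOf_coe]
    exact hx

theorem map_pResidual_subtype_mono (p : ℕ) {S K : Subgroup H} (h : S ≤ K) :
    (pResidual p ↥S).map S.subtype ≤ (pResidual p ↥K).map K.subtype := by
  rw [map_pResidual_subtype, map_pResidual_subtype]
  apply Subgroup.closure_mono
  intro x hx
  exact ⟨h hx.1, hx.2⟩

/-- `O^p(O^p(H)) = O^p(H)`. -/
theorem pResidual_pResidual_eq_top (p : ℕ) : pResidual p ↥(pResidual p H) = ⊤ := by
  apply Subgroup.map_injective (pResidual p H).subtype_injective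
  rw [map_pResidual_subtype, ← MonoidHom.range_eq_map, Subgroup.range_subtype]
  apply le_antisymm
  · rw [Subgroup.closure_le]
    intro x hx
    exact hx.1
  · conv_lhs => unfold pResidual
    apply Subgroup.closure_mono
    intro x hx
    have hx' : Nat.Coprime (orderOf x) p := hx
    refine ⟨?_, hx'⟩
    unfold pResidual
    exact Subgroup.subset_closure hx

/-- special case `A ⊔ B = ⊤`. -/
theorem eq_pResidual_of_sup_eq_top [Finite H] {p : ℕ} [Fact p.Prime] (A B : Subgroup H)
    (hA : A.IsSubnormal) (hB : B.IsSubnormal) (hAp : IsPGroup p ↥A) (hBR : B ≤ pResidual p H)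
    (hAB : A ⊔ B = ⊤) : B = pResidual p H := by
  set R := pResidual p H with hR
  set P := pCore p H with hP
  haveI hPn : P.Normal := pCore_normal p H
  have hAP : A ≤ P := subnormal_pGroup_le_pCore A hA hAp
  have hPB : P ⊔ B = ⊤ := by
    rw [eq_top_iff, ← hAB]
    exact sup_le_sup_right hAP B
  apply le_antisymm hBR
  by_contra hcon
  have hB1 : (B.subgroupOf R) ≠ ⊤ := by
    intro h
    apply hcon
    intro r hr
    have : (⟨r, hr⟩ : R) ∈ B.subgroupOf R := by rw [h]; exact Subgroup.mem_top _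
    rwa [Subgroup.mem_subgroupOf] at this
  obtain ⟨N, hN, hBN, hNlt⟩ := (hB.subgroupOf (K := R)).exists_normal_and_le_and_lt_top_of_ne hB1
  haveI := hN
  have hYp : IsPGroup p (P.subgroupOf R) := (pCore_isPGroup (G := H) (p := p)).comap_subtype
  have hYN : P.subgroupOf R ⊔ N = ⊤ := by
    rw [eq_top_iff]
    intro r _
    have hr : (r : H) ∈ P ⊔ B := by rw [hPB]; exact Subgroup.mem_top _
    obtain ⟨x, hx, b, hb, hxb⟩ := Subgroup.mem_sup_of_normal_left.mp hr
    have hbR : b ∈ R := hBR hb
    have hxR : x ∈ R := by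
      have : x = (r : H) * b⁻¹ := by rw [← hxb]; group
      rw [this]
      exact mul_mem r.2 (inv_mem hbR)
    have : r = (⟨x, hxR⟩ : R) * ⟨b, hbR⟩ := by
      apply Subtype.ext
      exact hxb.symm
    rw [this]
    apply mul_mem
    · apply Subgroup.mem_sup_left
      rw [Subgroup.mem_subgroupOf]; exact hx
    · apply Subgroup.mem_sup_right
      apply hBN
      rw [Subgroup.mem_subgroupOf]; exact hb
  have h1 := pResidual_le_of_sup_eq_top (P.subgroupOf R) N hYp hYN
  rw [pResidual_pResidual_eq_top, top_le_iff] at h1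
  exact hNlt.ne h1

theorem subnormal_pGroup_normalizes [Finite H] {p : ℕ} [Fact p.Prime] (A B : Subgroup H)
    (hA : A.IsSubnormal) (hB : B.IsSubnormal) (hAp : IsPGroup p ↥A)
    (hBres : (pResidual p ↥B).map B.subtype = B) :
    A ≤ Subgroup.normalizer (B : Set H) ∧ (pResidual p ↥(A ⊔ B)).map (A ⊔ B).subtype = B := by
  set K := A ⊔ B with hK
  have hAK : A ≤ K := le_sup_left
  have hBK : B ≤ K := le_sup_right
  have hB'R : B.subgroupOf K ≤ pResidual p ↥K := by
    intro x hx
    rw [Subgroup.mem_subgroupOf] at hx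
    have h1 : (x : H) ∈ (pResidual p ↥K).map K.subtype := by
      apply map_pResidual_subtype_mono p hBK
      rw [hBres]; exact hx
    obtain ⟨y, hy, hyx⟩ := Subgroup.mem_map.mp h1
    have : y = x := Subtype.ext hyx
    rw [← this]; exact hy
  have hsup : A.subgroupOf K ⊔ B.subgroupOf K = ⊤ := by
    rw [← Subgroup.subgroupOf_sup hAK hBK, ← hK, Subgroup.subgroupOf_self]
  have key := eq_pResidual_of_sup_eq_top (A.subgroupOf K) (B.subgroupOf K) hA.subgroupOf hB.subgroupOf
    hAp.comap_subtype hB'R hsup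
  constructor
  · apply le_normalizer_of_conj_mem'
    intro a ha b hb
    haveI := pResidual_normal (H := ↥K) p
    have hb' : (⟨b, hBK hb⟩ : K) ∈ pResidual p ↥K := by
      rw [← key, Subgroup.mem_subgroupOf]; exact hb
    have := (pResidual_normal (H := ↥K) p).conj_mem _ hb' ⟨a, hAK ha⟩
    rw [← key, Subgroup.mem_subgroupOf] at this
    exact this
  · rw [← key, Subgroup.subgroupOf_map_subtype, inf_of_le_left hBK]

end Cfsg.Agent.Lib.Helper4_Subnormal
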