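import Mathlib
import Cfsg.Agent.Lib.Helper3_Bender
import Cfsg.Agent.Lib.Helper4_Subnormal

set_option autoImplicit false

/-! Bender's theorem on two maximal subgroups containing each other's `F*`. -/

namespace Cfsg.Agent.Lib.Helper3_BenderMax

open Cfsg

universe u

variable {G : Type u} [Group G] [Finite G]

/-- image of `O_r(A)` in `G` -/
def X (A : Subgroup G) (r : ℕ) : Subgroup G := (pCore r ↥A).map A.subtype
/-- image of `F*(A)` in `G` -/
def Fs (A : Subgroup G) : Subgroup G := (generalizedFittingSubgroup ↥A).map A.subtype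
/-- image of `E(A)` in `G` -/
def E (A : Subgroup G) : Subgroup G := (layer ↥A).map A.subtype

theorem X_le_Fs (A : Subgroup G) (r : ℕ) [Fact r.Prime] : X A r ≤ Fs A :=
  Subgroup.map_mono (le_trans (Cfsg.Agent.Lib.Helper3_Bender.pCore_le_fitting r) le_sup_right)

theorem E_le_Fs (A : Subgroup G) : E A ≤ Fs A := Subgroup.map_mono le_sup_left

theorem X_le (A : Subgroup G) (r : ℕ) : X A r ≤ A := Subgroup.map_subtype_le _

theorem le_normalizer_X (A : Subgroup G) (r : ℕ) :
    A ≤ Subgroup.normalizer ((X A r : Subgroup G) : Set G) := by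
  haveI := Cfsg.Agent.Lib.Helper4_PCore.pCore_normal r ↥A
  exact Cfsg.Agent.Lib.Helper3_Bender.le_normalizer_map_subtype A (pCore r ↥A)

theorem le_normalizer_E (A : Subgroup G) :
    A ≤ Subgroup.normalizer ((E A : Subgroup G) : Set G) := by
  haveI := Cfsg.Agent.S1265.layer_normal ↥A
  exact Cfsg.Agent.Lib.Helper3_Bender.le_normalizer_map_subtype A (layer ↥A)

theorem X_isPGroup (A : Subgroup G) (r : ℕ) [Fact r.Prime] : IsPGroup r ↥(X A r) :=
  (Cfsg.Agent.Lib.Helper4_PCore.pCore_isPGroup (G := ↥A) (p := r)).map A.subtype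

theorem normalizer_map_eq [IsSimpleGroup G] (A : Subgroup G) (hA : IsCoatom A) (K : Subgroup ↥A)
    [hK : K.Normal] (hK1 : K ≠ ⊥) :
    Subgroup.normalizer ((K.map A.subtype : Subgroup G) : Set G) = A := by
  have h1 := Cfsg.Agent.Lib.Helper3_Bender.le_normalizer_map_subtype A K
  rcases hA.le_iff.mp h1 with h | h
  · exfalso
    have hn : (K.map A.subtype).Normal := Subgroup.normalizer_eq_top_iff.mp h
    rcases hn.eq_bot_or_eq_top with h3 | h3
    · apply hK1
      exact (Subgroup.map_eq_bot_iff_of_injective K A.subtype_injective).mp h3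
    · apply hA.1
      rw [eq_top_iff, ← h3]
      exact Subgroup.map_subtype_le K
  · exact h

theorem cross_comm (M N : Subgroup G) (h1 : Fs M ≤ N) (h2 : Fs N ≤ M) {p q : ℕ}
    [Fact p.Prime] [Fact q.Prime] (hpq : p ≠ q) :
    X M p ≤ Subgroup.centralizer ((X N q : Subgroup G) : Set G) := by
  refine Cfsg.Agent.Lib.Helper3_Bender.le_centralizer_of_coprime hpq (X M p) (X N q) (X N q)
    (X_isPGroup M p) (X_isPGroup N q) ?_ le_rfl ?_
  · exact le_trans (le_trans (X_le_Fs N q) h2) (le_normalizer_X M p)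
  · exact le_trans (le_trans (X_le_Fs M p) h1) (le_normalizer_X N q)

theorem E_centralizes_X (M N : Subgroup G) (h1 : Fs M ≤ N) (h2 : Fs N ≤ M) (p : ℕ)
    [Fact p.Prime] : E N ≤ Subgroup.centralizer ((X M p : Subgroup G) : Set G) := by
  have hnil : Group.IsNilpotent ↥(X M p) := (X_isPGroup M p).isNilpotent
  have hsolv : Group.IsSolvable ↥(X M p) := IsNilpotent.to_isSolvable
  exact Cfsg.Agent.Lib.Helper3_Bender.layer_le_centralizer_of N (X M p)
    (le_trans (X_le_Fs M p) h1) hsolv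
    (le_trans (le_trans (E_le_Fs N) h2) (le_normalizer_X M p))

/-- an element of `A` commuting with all `O_r(A)` centralizes `F(A)`. -/
theorem mem_centralizer_fitting (A : Subgroup G) (c : ↥A)
    (h : ∀ r : ℕ, r.Prime → ∀ x ∈ X A r, (c : G) * x = x * c) :
    c ∈ Subgroup.centralizer ((fittingSubgroup ↥A : Subgroup ↥A) : Set ↥A) := by
  rw [Subgroup.mem_centralizer_iff]
  have h1 : fittingSubgroup ↥A ≤ Subgroup.centralizer ({c} : Set ↥A) := by
    rw [Cfsg.Agent.Lib.Lead_Fitting.fitting_eq]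
    unfold Cfsg.Agent.Lib.Lead_Fitting.F0
    apply iSup_le
    intro r x hx
    rw [Subgroup.mem_centralizer_singleton_iff]
    apply Subtype.ext
    have := h (r : ℕ) r.2 (x : G) ⟨x, hx, rfl⟩
    simpa using this.symm
  intro f hf
  have := h1 hf
  rw [Subgroup.mem_centralizer_singleton_iff] at this
  exact this


/-- an element of `A` centralizing the images of `E(A)` and all `O_r(A)` lies in `F*(A)` and
centralizes it. -/
theorem mem_gF_of_centralizes (A : Subgroup G) (c : ↥A)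
    (hE : ∀ x ∈ E A, (c : G) * x = x * c)
    (h : ∀ r : ℕ, r.Prime → ∀ x ∈ X A r, (c : G) * x = x * c) :
    c ∈ generalizedFittingSubgroup ↥A ∧
      c ∈ Subgroup.centralizer ((generalizedFittingSubgroup ↥A : Subgroup ↥A) : Set ↥A) := by
  have h0 : c ∈ Subgroup.centralizer ((generalizedFittingSubgroup ↥A : Subgroup ↥A) : Set ↥A) := by
    rw [Subgroup.mem_centralizer_iff]
    have h1 : generalizedFittingSubgroup ↥A ≤ Subgroup.centralizer ({c} : Set ↥A) := by
      unfold generalizedFittingSubgroup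
      apply sup_le
      · intro x hx
        rw [Subgroup.mem_centralizer_singleton_iff]
        apply Subtype.ext
        have := hE (x : G) ⟨x, hx, rfl⟩
        simpa using this.symm
      · intro f hf
        have := Subgroup.mem_centralizer_iff.mp (mem_centralizer_fitting A c h) f hf
        rw [Subgroup.mem_centralizer_singleton_iff]
        exact this
    intro f hf
    have := h1 hf
    rw [Subgroup.mem_centralizer_singleton_iff] at this
    exact this
  exact ⟨Cfsg.Agent.S1265.result h0, h0⟩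

theorem layer_le (M N : Subgroup G) (h1 : Fs M ≤ N) (h2 : Fs N ≤ M) : E N ≤ E M := by
  have hmain : layer ↥N ≤ (E M).subgroupOf N := by
    unfold layer
    apply sSup_le
    intro K hK
    haveI hLNn : (layer ↥N).Normal := Cfsg.Agent.S1265.layer_normal ↥N
    have hKLN : K ≤ layer ↥N := le_sSup hK
    set EMN : Subgroup ↥N := (E M).subgroupOf N with hEMN
    set LN : Subgroup ↥N := layer ↥N with hLN
    -- elements of `LN` normalize `EMN`
    have hnormE : LN ≤ Subgroup.normalizer ((EMN : Subgroup ↥N) : Set ↥N) := by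
      intro l hl
      have hlM : (l : G) ∈ M := h2 (E_le_Fs N ⟨l, hl, rfl⟩)
      have hlE := le_normalizer_E M hlM
      rw [Subgroup.mem_normalizer_iff] at hlE ⊢
      intro x
      rw [hEMN, Subgroup.mem_subgroupOf, Subgroup.mem_subgroupOf]
      exact hlE (x : G)
    have hnormI : LN ≤ Subgroup.normalizer (((EMN ⊓ LN : Subgroup ↥N)) : Set ↥N) := by
      intro l hl
      exact Cfsg.Agent.Lib.Helper3_Bender.mem_normalizer_inf EMN LN (hnormE hl) hl
    have hIn : ((EMN ⊓ LN).subgroupOf LN).Normal :=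
      Subgroup.normal_subgroupOf_of_le_normalizer hnormI
    have hsn : (EMN ⊓ LN).IsSubnormal :=
      Subgroup.IsSubnormal.trans inf_le_right hIn.isSubnormal hLNn.isSubnormal
    rcases Cfsg.Agent.Lib.Helper3_Components.component_le_or_commute K (EMN ⊓ LN) hK hsn with h | h
    · exact le_trans h inf_le_left
    · exfalso
      have hperf : ⁅K, K⁆ = K := by
        haveI := hK.2.1
        exact Subgroup.commutator_eq_self
      have hKE : ⁅K, EMN⁆ ≤ EMN ⊓ LN := by
        apply le_inf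
        · rw [Subgroup.commutator_comm]
          exact Cfsg.Agent.Lib.Lead_Coprime.commutator_le_of_le_normalizer EMN K
            (le_trans hKLN hnormE)
        · exact le_trans (Subgroup.commutator_mono hKLN le_rfl) (Subgroup.commutator_le_left LN EMN)
      have h3 : ⁅⁅K, EMN⁆, K⁆ = ⊥ := by
        rw [eq_bot_iff, ← h, Subgroup.commutator_comm K (EMN ⊓ LN)]
        exact Subgroup.commutator_mono hKE le_rfl
      have h4 : ⁅⁅EMN, K⁆, K⁆ = ⊥ := by
        rw [Subgroup.commutator_comm EMN K]; exact h3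
      have h5 : ⁅⁅K, K⁆, EMN⁆ = ⊥ := Subgroup.commutator_commutator_eq_bot_of_rotate h3 h4
      rw [hperf] at h5
      -- every element of `K` lies in `F*(M)` and centralizes it
      have hkey : ∀ k ∈ K, ∃ hkM : (k : G) ∈ M,
          (⟨(k : G), hkM⟩ : ↥M) ∈ generalizedFittingSubgroup ↥M ∧
          (⟨(k : G), hkM⟩ : ↥M) ∈
            Subgroup.centralizer ((generalizedFittingSubgroup ↥M : Subgroup ↥M) : Set ↥M) := by
        intro k hk
        have hkEN : (k : G) ∈ E N := ⟨k, hKLN hk, rfl⟩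
        have hkM : (k : G) ∈ M := h2 (E_le_Fs N hkEN)
        refine ⟨hkM, ?_⟩
        apply mem_gF_of_centralizes M ⟨(k : G), hkM⟩
        · intro x hx
          have hxN : x ∈ N := h1 (E_le_Fs M hx)
          have hx' : (⟨x, hxN⟩ : ↥N) ∈ EMN := by
            rw [hEMN, Subgroup.mem_subgroupOf]; exact hx
          have := Cfsg.Agent.Lib.Helper3_Components.commute_of_commutator_eq_bot h5 hk hx'
          exact congrArg Subtype.val this
        · intro r hr x hx
          haveI : Fact r.Prime := ⟨hr⟩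
          have := E_centralizes_X M N h1 h2 r hkEN
          exact (Subgroup.mem_centralizer_iff.mp this x hx).symm
      apply Cfsg.Agent.Lib.Helper3_Components.quasisimple_not_solvable hK.2
      have hcomm : ∀ a b : ↥K, a * b = b * a := by
        intro a b
        obtain ⟨haM, _, haC⟩ := hkey a.1 a.2
        obtain ⟨hbM, hbF, _⟩ := hkey b.1 b.2
        have := Subgroup.mem_centralizer_iff.mp haC _ hbF
        apply Subtype.ext
        apply Subtype.ext
        have h6 := congrArg Subtype.val this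
        simpa using h6.symm
      letI : CommGroup ↥K := { (inferInstance : Group ↥K) with mul_comm := hcomm }
      infer_instance
  rintro x ⟨l, hl, rfl⟩
  have := hmain hl
  rw [Subgroup.mem_subgroupOf] at this
  exact this

theorem layer_eq_bot [IsSimpleGroup G] (M N : Subgroup G) (hM : IsCoatom M) (hN : IsCoatom N)
    (hMN : M ≠ N) (h1 : Fs M ≤ N) (h2 : Fs N ≤ M) : layer ↥M = ⊥ := by
  by_contra hne
  have heq : E M = E N := le_antisymm (layer_le N M h2 h1) (layer_le M N h1 h2)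
  haveI := Cfsg.Agent.S1265.layer_normal ↥M
  haveI := Cfsg.Agent.S1265.layer_normal ↥N
  have hneN : layer ↥N ≠ ⊥ := by
    intro hb
    apply hne
    have : E M = ⊥ := by rw [heq]; unfold E; rw [hb, Subgroup.map_bot]
    exact (Subgroup.map_eq_bot_iff_of_injective _ M.subtype_injective).mp this
  have e1 := normalizer_map_eq M hM (layer ↥M) hne
  have e2 := normalizer_map_eq N hN (layer ↥N) hneN
  apply hMN
  have heq' : (layer ↥M).map M.subtype = (layer ↥N).map N.subtype := heq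
  rw [← e1, ← e2, heq']


omit [Finite G] in
theorem conj_mem_centralizer (S : Subgroup G) {a b : G}
    (ha : a ∈ Subgroup.centralizer ((S : Subgroup G) : Set G))
    (hb : b ∈ Subgroup.normalizer ((S : Subgroup G) : Set G)) :
    b⁻¹ * a * b ∈ Subgroup.centralizer ((S : Subgroup G) : Set G) := by
  rw [Subgroup.mem_centralizer_iff] at ha ⊢
  intro x hx
  have hx' : b * x * b⁻¹ ∈ S := (Subgroup.mem_normalizer_iff.mp hb x).mp hx
  have := ha _ hx'
  calc x * (b⁻¹ * a * b) = b⁻¹ * ((b * x * b⁻¹) * a) * b := by group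
    _ = b⁻¹ * (a * (b * x * b⁻¹)) * b := by rw [this]
    _ = b⁻¹ * a * b * x := by group

theorem eq_one_of_pow_coprime {H : Type*} [Group H] {x : H} {u v : ℕ} (hu : x ^ u = 1)
    (hv : x ^ v = 1) (huv : Nat.Coprime u v) : x = 1 :=
  orderOf_eq_one_iff.mp (Nat.eq_one_of_dvd_coprimes huv (orderOf_dvd_of_pow_eq_one hu)
    (orderOf_dvd_of_pow_eq_one hv))

theorem isPGroup_zpowers {H : Type*} [Group H] {p k : ℕ} {g : H} (hg : g ^ (p ^ k) = 1) :
    IsPGroup p ↥(Subgroup.zpowers g) := by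
  rintro ⟨x, hx⟩
  obtain ⟨n, rfl⟩ := Subgroup.mem_zpowers_iff.mp hx
  refine ⟨k, ?_⟩
  apply Subtype.ext
  show (g ^ n) ^ (p ^ k) = 1
  rw [← zpow_natCast, ← zpow_mul, mul_comm, zpow_mul, zpow_natCast, hg, one_zpow]

theorem pow_mul_eq_one {H : Type*} [Group H] {x : H} {u : ℕ} (hu : x ^ u = 1) (v : ℕ) :
    x ^ (u * v) = 1 ∧ x ^ (v * u) = 1 := by
  constructor
  · rw [pow_mul, hu, one_pow]
  · rw [mul_comm, pow_mul, hu, one_pow]

theorem exists_pow_eq_one_of_mem {p : ℕ} (S : Subgroup G) (hS : IsPGroup p ↥S) {x : G}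
    (hx : x ∈ S) : ∃ k : ℕ, x ^ (p ^ k) = 1 := by
  obtain ⟨k, hk⟩ := hS ⟨x, hx⟩
  refine ⟨k, ?_⟩
  have := congrArg Subtype.val hk
  simpa using this

theorem gF_eq_F0 (A : Subgroup G) (hL : layer ↥A = ⊥) :
    generalizedFittingSubgroup ↥A = Cfsg.Agent.Lib.Lead_Fitting.F0 ↥A := by
  unfold generalizedFittingSubgroup
  rw [hL, bot_sup_eq, Cfsg.Agent.Lib.Lead_Fitting.fitting_eq]

/-- the key commutation -/
theorem key_comm (M N : Subgroup G) (h1 : Fs M ≤ N) (h2 : Fs N ≤ M) (hLM : layer ↥M = ⊥)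
    {p q : ℕ} [hp : Fact p.Prime] [hq : Fact q.Prime] (hpq : p ≠ q)
    {m y t : G} (hm : m ∈ M) (hy : y ∈ X N p) (ht : t ∈ X N q) :
    t * (m * y * m⁻¹) = (m * y * m⁻¹) * t := by
  have hyM : y ∈ M := h2 (X_le_Fs N p hy)
  have htM : t ∈ M := h2 (X_le_Fs N q ht)
  obtain ⟨k, hk⟩ := exists_pow_eq_one_of_mem (X N p) (X_isPGroup N p) hy
  obtain ⟨l, hl⟩ := exists_pow_eq_one_of_mem (X N q) (X_isPGroup N q) ht
  have hy'k : (m * y * m⁻¹) ^ (p ^ k) = 1 := by
    rw [conj_pow, hk]; group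
  have hy'cent0 : ∀ r : ℕ, r.Prime → r ≠ p →
      m * y * m⁻¹ ∈ Subgroup.centralizer ((X M r : Subgroup G) : Set G) := by
    intro r hr hrp
    haveI : Fact r.Prime := ⟨hr⟩
    have h3 : y ∈ Subgroup.centralizer ((X M r : Subgroup G) : Set G) :=
      cross_comm N M h2 h1 (Ne.symm hrp) hy
    have h4 := conj_mem_centralizer (X M r) h3 (le_normalizer_X M r (M.inv_mem hm))
    simpa using h4
  generalize hy' : m * y * m⁻¹ = y' at hy'k hy'cent0 ⊢
  have hy'M : y' ∈ M := by
    rw [← hy']; exact M.mul_mem (M.mul_mem hm hyM) (M.inv_mem hm)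
  have htcent : t ∈ Subgroup.centralizer ((X M p : Subgroup G) : Set G) :=
    cross_comm N M h2 h1 (Ne.symm hpq) ht
  have hcM : y'⁻¹ * t⁻¹ * y' * t ∈ M :=
    M.mul_mem (M.mul_mem (M.mul_mem (M.inv_mem hy'M) (M.inv_mem htM)) hy'M) htM
  have hccent : ∀ r : ℕ, r.Prime →
      y'⁻¹ * t⁻¹ * y' * t ∈ Subgroup.centralizer ((X M r : Subgroup G) : Set G) := by
    intro r hr
    by_cases hrp : r = p
    · rw [hrp]
      have h5 := conj_mem_centralizer (X M p) (Subgroup.inv_mem _ htcent)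
        (le_normalizer_X M p hy'M)
      exact Subgroup.mul_mem _ h5 htcent
    · have h5 := conj_mem_centralizer (X M r) (hy'cent0 r hr hrp) (le_normalizer_X M r htM)
      have h6 := Subgroup.mul_mem _ (Subgroup.inv_mem _ (hy'cent0 r hr hrp)) h5
      have : y'⁻¹ * t⁻¹ * y' * t = y'⁻¹ * (t⁻¹ * y' * t) := by group
      rw [this]; exact h6
  have hcgF : (⟨y'⁻¹ * t⁻¹ * y' * t, hcM⟩ : ↥M) ∈ generalizedFittingSubgroup ↥M := by
    refine (mem_gF_of_centralizes M ⟨y'⁻¹ * t⁻¹ * y' * t, hcM⟩ ?_ ?_).1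
    · intro x hx
      unfold E at hx
      rw [hLM, Subgroup.map_bot, Subgroup.mem_bot] at hx
      subst hx
      simp
    · intro r hr x hx
      exact (Subgroup.mem_centralizer_iff.mp (hccent r hr) x hx).symm
  have hcF : (⟨y'⁻¹ * t⁻¹ * y' * t, hcM⟩ : ↥M) ∈
      pCore p ↥M ⊔ Cfsg.Agent.Lib.Lead_Fitting.Y ↥M p := by
    apply Cfsg.Agent.Lib.Lead_Fitting.F0_le ↥M p
    rw [← gF_eq_F0 M hLM]; exact hcgF
  haveI hYn : (Cfsg.Agent.Lib.Lead_Fitting.Y ↥M p).Normal :=
    (Cfsg.Agent.Lib.Lead_Fitting.Y_spec ↥M p).1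
  haveI hPn : (pCore p ↥M).Normal := Cfsg.Agent.Lib.Helper4_PCore.pCore_normal p ↥M
  rw [← SetLike.mem_coe, Subgroup.mul_normal, Set.mem_mul] at hcF
  obtain ⟨a', ha', b', hb', hab⟩ := hcF
  -- notation in `↥M`
  set y'' : ↥M := ⟨y', hy'M⟩ with hy''
  set t'' : ↥M := ⟨t, htM⟩ with ht''
  have hab' : a' * b' = y''⁻¹ * t''⁻¹ * y'' * t'' := by
    rw [hab]; apply Subtype.ext; simp [hy'', ht'']
  have hcomm_ab : Commute a' b' :=
    Subgroup.commute_of_normal_of_disjoint _ _ hPn hYn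
      (Cfsg.Agent.Lib.Helper3_Bender.pCore_disjoint_Y p) a' b' ha' hb'
  have hYcent : Cfsg.Agent.Lib.Lead_Fitting.Y ↥M p ≤
      Subgroup.centralizer ({y''} : Set ↥M) := by
    unfold Cfsg.Agent.Lib.Lead_Fitting.Y
    apply sSup_le
    rintro K ⟨r, hrp, rfl⟩
    intro x hx
    rw [Subgroup.mem_centralizer_singleton_iff]
    apply Subtype.ext
    have := Subgroup.mem_centralizer_iff.mp (hy'cent0 r r.2 hrp) (x : G) ⟨x, hx, rfl⟩
    simpa [hy''] using this
  have hcomm_by : Commute b' y'' := by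
    have := hYcent hb'
    rw [Subgroup.mem_centralizer_singleton_iff] at this
    exact this
  -- `y'' * a'` is a `p`-element
  have hy''k : y'' ^ (p ^ k) = 1 := by
    apply Subtype.ext; simp [hy'', hy'k]
  have hPQ : IsPGroup p ↥(Subgroup.zpowers y'' ⊔ pCore p ↥M) :=
    IsPGroup.to_sup_of_normal_right (isPGroup_zpowers hy''k)
      Cfsg.Agent.Lib.Helper4_PCore.pCore_isPGroup
  have hzmem : y'' * a' ∈ Subgroup.zpowers y'' ⊔ pCore p ↥M :=
    Subgroup.mul_mem _ (Subgroup.mem_sup_left (Subgroup.mem_zpowers y''))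
      (Subgroup.mem_sup_right ha')
  obtain ⟨j, hj⟩ := hPQ ⟨y'' * a', hzmem⟩
  have hj' : (y'' * a') ^ (p ^ j) = 1 := by
    have := congrArg Subtype.val hj
    simpa using this
  -- `y'' * a' * b' = t''⁻¹ * y'' * t''` has order dividing `p ^ k`
  have hzb : y'' * a' * b' = t''⁻¹ * y'' * t'' := by
    rw [mul_assoc, hab']; group
  have hzbk : (y'' * a' * b') ^ (p ^ k) = 1 := by
    rw [hzb]
    have : t''⁻¹ * y'' * t'' = t''⁻¹ * y'' * (t''⁻¹)⁻¹ := by rw [inv_inv]
    rw [this, conj_pow, hy''k]; group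
  have hcomm_zb : Commute (y'' * a') b' :=
    (hcomm_by.symm.mul_left hcomm_ab)
  have hb1 : b' ^ (p ^ k * p ^ j) = 1 := by
    have e1 := (pow_mul_eq_one hzbk (p ^ j)).1
    rw [hcomm_zb.mul_pow, (pow_mul_eq_one hj' (p ^ k)).2, one_mul] at e1
    exact e1
  have hb2 : b' ^ (Nat.card ↥(Cfsg.Agent.Lib.Lead_Fitting.Y ↥M p)) = 1 :=
    orderOf_dvd_iff_pow_eq_one.mp (Subgroup.orderOf_dvd_natCard _ hb')
  have hbone : b' = 1 := by
    refine eq_one_of_pow_coprime hb1 hb2 ?_
    rw [← pow_add]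
    exact Nat.Coprime.pow_left _ (Cfsg.Agent.Lib.Lead_Fitting.Y_spec ↥M p).2.symm
  rw [hbone, mul_one] at hab'
  -- now `c = a'` lies in `O_p(M)` and commutes with `t`
  have hcX : y'⁻¹ * t⁻¹ * y' * t ∈ X M p := by
    refine ⟨a', ha', ?_⟩
    rw [hab']; simp [hy'', ht'']
  have hct : (y'⁻¹ * t⁻¹ * y' * t) * t = t * (y'⁻¹ * t⁻¹ * y' * t) :=
    Subgroup.mem_centralizer_iff.mp htcent _ hcX
  obtain ⟨i, hi⟩ := exists_pow_eq_one_of_mem (X M p) (X_isPGroup M p) hcX
  generalize hc : y'⁻¹ * t⁻¹ * y' * t = c at hct hi hcX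
  have hconj : y'⁻¹ * t⁻¹ * y' = c * t⁻¹ := by rw [← hc]; group
  have hconjl : (y'⁻¹ * t⁻¹ * y') ^ (q ^ l) = 1 := by
    have : y'⁻¹ * t⁻¹ * y' = y'⁻¹ * t⁻¹ * (y'⁻¹)⁻¹ := by rw [inv_inv]
    rw [this, conj_pow, inv_pow, hl]; group
  have hcomm_ct : Commute c t⁻¹ := (Commute.inv_right (show Commute c t from hct))
  have hcl : c ^ (q ^ l) = 1 := by
    rw [hconj, hcomm_ct.mul_pow, inv_pow, hl, inv_one, mul_one] at hconjl
    exact hconjl
  have hc1 : c = 1 := by
    refine eq_one_of_pow_coprime hi hcl ?_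
    exact Nat.Coprime.pow _ _ ((Nat.coprime_primes hp.out hq.out).mpr hpq)
  rw [hc1] at hc
  calc t * y' = t * y' * (y'⁻¹ * t⁻¹ * y' * t) := by rw [hc, mul_one]
    _ = y' * t := by group


theorem XN_le_XM [IsSimpleGroup G] (M N : Subgroup G) (hN : IsCoatom N)
    (h1 : Fs M ≤ N) (h2 : Fs N ≤ M) (hLM : layer ↥M = ⊥)
    {p q : ℕ} [hp : Fact p.Prime] [hq : Fact q.Prime] (hpq : p ≠ q)
    (hq1 : pCore q ↥N ≠ ⊥) : X N p ≤ X M p := by
  haveI := Cfsg.Agent.Lib.Helper4_PCore.pCore_normal q ↥N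
  have hCN : Subgroup.centralizer ((X N q : Subgroup G) : Set G) ≤ N :=
    Cfsg.Agent.Lib.Helper3_Bender.centralizer_map_le N hN (pCore q ↥N) hq1
  have hXM : X N p ≤ M := le_trans (X_le_Fs N p) h2
  set H : Subgroup ↥M := (X N p).subgroupOf M with hH
  set K : Subgroup ↥M := Subgroup.normalClosure (H : Set ↥M) with hK
  have hKn : K ≤ Subgroup.normalizer ((H : Subgroup ↥M) : Set ↥M) := by
    rw [hK]
    show Subgroup.closure (Group.conjugatesOfSet (H : Set ↥M)) ≤ _
    rw [Subgroup.closure_le]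
    intro g hg
    rw [Group.mem_conjugatesOfSet_iff] at hg
    obtain ⟨y, hy, hyg⟩ := hg
    rw [isConj_iff] at hyg
    obtain ⟨m, rfl⟩ := hyg
    have hyX : (y : G) ∈ X N p := by
      have : y ∈ H := hy
      rw [hH, Subgroup.mem_subgroupOf] at this
      exact this
    have hgC : ((m : G) * (y : G) * (m : G)⁻¹) ∈
        Subgroup.centralizer ((X N q : Subgroup G) : Set G) := by
      rw [Subgroup.mem_centralizer_iff]
      intro t ht
      exact key_comm M N h1 h2 hLM hpq m.2 hyX ht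
    have hgN := le_normalizer_X N p (hCN hgC)
    rw [Subgroup.mem_normalizer_iff] at hgN
    rw [SetLike.mem_coe, Subgroup.mem_normalizer_iff]
    intro x
    rw [hH, Subgroup.mem_subgroupOf, Subgroup.mem_subgroupOf]
    have := hgN (x : G)
    simpa using this
  have hHK : H ≤ K := Subgroup.le_normalClosure
  have hHn : (H.subgroupOf K).Normal := Subgroup.normal_subgroupOf_of_le_normalizer hKn
  have hKnorm : K.Normal := Subgroup.normalClosure_normal
  have hsn : H.IsSubnormal := Subgroup.IsSubnormal.trans hHK hHn.isSubnormal hKnorm.isSubnormal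
  have hHp : IsPGroup p ↥H := (X_isPGroup N p).comap_subtype
  have hle := Cfsg.Agent.Lib.Helper4_Subnormal.subnormal_pGroup_le_pCore H hsn hHp
  intro x hx
  have hxM : x ∈ M := hXM hx
  have : (⟨x, hxM⟩ : ↥M) ∈ H := by
    rw [hH, Subgroup.mem_subgroupOf]; exact hx
  exact ⟨⟨x, hxM⟩, hle this, rfl⟩

theorem X_eq_bot_iff (A : Subgroup G) (r : ℕ) : X A r = ⊥ ↔ pCore r ↥A = ⊥ :=
  Subgroup.map_eq_bot_iff_of_injective _ A.subtype_injective

/-- `N` cannot have two nontrivial `p`-cores -/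
theorem two_primes_false [IsSimpleGroup G] (M N : Subgroup G) (hM : IsCoatom M) (hN : IsCoatom N)
    (hMN : M ≠ N) (h1 : Fs M ≤ N) (h2 : Fs N ≤ M)
    {p q : ℕ} [hp : Fact p.Prime] [hq : Fact q.Prime] (hpq : p ≠ q)
    (hp1 : pCore p ↥N ≠ ⊥) (hq1 : pCore q ↥N ≠ ⊥) : False := by
  have hLM := layer_eq_bot M N hM hN hMN h1 h2
  have hLN := layer_eq_bot N M hN hM hMN.symm h2 h1
  have e1 : X N p ≤ X M p := XN_le_XM M N hN h1 h2 hLM hpq hq1
  have e2 : X N q ≤ X M q := XN_le_XM M N hN h1 h2 hLM (Ne.symm hpq) hp1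
  have hp2 : pCore p ↥M ≠ ⊥ := by
    intro hb
    apply hp1
    rw [← X_eq_bot_iff] at hb ⊢
    rw [eq_bot_iff, ← hb]; exact e1
  have hq2 : pCore q ↥M ≠ ⊥ := by
    intro hb
    apply hq1
    rw [← X_eq_bot_iff] at hb ⊢
    rw [eq_bot_iff, ← hb]; exact e2
  have e3 : X M p ≤ X N p := XN_le_XM N M hM h2 h1 hLN hpq hq2
  have heq : X M p = X N p := le_antisymm e3 e1
  haveI := Cfsg.Agent.Lib.Helper4_PCore.pCore_normal p ↥M
  haveI := Cfsg.Agent.Lib.Helper4_PCore.pCore_normal p ↥N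
  have n1 := normalizer_map_eq M hM (pCore p ↥M) hp2
  have n2 := normalizer_map_eq N hN (pCore p ↥N) hp1
  apply hMN
  have heq' : (pCore p ↥M).map M.subtype = (pCore p ↥N).map N.subtype := heq
  rw [← n1, ← n2, heq']

theorem gF_le_pCore (A : Subgroup G) (hL : layer ↥A = ⊥) (p : ℕ)
    (h : ∀ r : ℕ, r.Prime → r ≠ p → pCore r ↥A = ⊥) :
    generalizedFittingSubgroup ↥A ≤ pCore p ↥A := by
  rw [gF_eq_F0 A hL]
  unfold Cfsg.Agent.Lib.Lead_Fitting.F0
  apply iSup_le
  intro r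
  by_cases hr : (r : ℕ) = p
  · rw [hr]
  · rw [h r r.2 hr]; exact bot_le

/-- the nontrivial cores of `M` and `N` belong to the same prime -/
theorem mixed_false [IsSimpleGroup G] (M N : Subgroup G) (hM : IsCoatom M) (hN : IsCoatom N)
    (hMN : M ≠ N) (h1 : Fs M ≤ N) (h2 : Fs N ≤ M)
    {p q : ℕ} [hp : Fact p.Prime] [hq : Fact q.Prime] (hpq : p ≠ q)
    (hp1 : pCore p ↥M ≠ ⊥) (hq1 : pCore q ↥N ≠ ⊥) : False := by
  have hLM := layer_eq_bot M N hM hN hMN h1 h2
  have hMr : ∀ r : ℕ, r.Prime → r ≠ p → pCore r ↥M = ⊥ := by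
    intro r hr hrp
    by_contra hne
    haveI : Fact r.Prime := ⟨hr⟩
    exact two_primes_false N M hN hM hMN.symm h2 h1 hrp hne hp1
  have hle := gF_le_pCore M hLM p hMr
  have hXle : X N q ≤ X M p := by
    intro t ht
    have htM : t ∈ M := h2 (X_le_Fs N q ht)
    have := (mem_gF_of_centralizes M ⟨t, htM⟩ ?_ ?_).1
    · exact ⟨⟨t, htM⟩, hle this, rfl⟩
    · intro x hx
      unfold E at hx
      rw [hLM, Subgroup.map_bot, Subgroup.mem_bot] at hx
      subst hx
      simp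
    · intro r hr x hx
      haveI : Fact r.Prime := ⟨hr⟩
      by_cases hrq : r = q
      · have hrp : r ≠ p := by rw [hrq]; exact Ne.symm hpq
        have hb : X M r = ⊥ := (X_eq_bot_iff M r).mpr (hMr r hr hrp)
        rw [hb, Subgroup.mem_bot] at hx
        subst hx
        simp
      · have := cross_comm N M h2 h1 (Ne.symm hrq) ht
        exact (Subgroup.mem_centralizer_iff.mp this x hx).symm
  have hdis : Disjoint (X N q) (X M p) :=
    IsPGroup.disjoint_of_ne q p (Ne.symm hpq) _ _ (X_isPGroup N q) (X_isPGroup M p)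
  apply hq1
  rw [← X_eq_bot_iff, eq_bot_iff]
  intro t ht
  exact (disjoint_iff.mp hdis).le ⟨ht, hXle ht⟩

theorem main [IsSimpleGroup G] (M N : Subgroup G) (hM : IsCoatom M) (hN : IsCoatom N)
    (hMN : M ≠ N) (h1 : Fs M ≤ N) (h2 : Fs N ≤ M) :
    ∃ p : ℕ, p.Prime ∧ IsPGroup p ↥(generalizedFittingSubgroup ↥M) ∧
      IsPGroup p ↥(generalizedFittingSubgroup ↥N) := by
  have hLM := layer_eq_bot M N hM hN hMN h1 h2
  have hLN := layer_eq_bot N M hN hM hMN.symm h2 h1
  have key : ∃ p : ℕ, p.Prime ∧ (∀ r : ℕ, r.Prime → r ≠ p → pCore r ↥M = ⊥) ∧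
      (∀ r : ℕ, r.Prime → r ≠ p → pCore r ↥N = ⊥) := by
    by_cases hN' : ∃ p : ℕ, p.Prime ∧ pCore p ↥N ≠ ⊥
    · obtain ⟨p, hp, hpN⟩ := hN'
      haveI : Fact p.Prime := ⟨hp⟩
      refine ⟨p, hp, ?_, ?_⟩
      · intro r hr hrp
        by_contra hne
        haveI : Fact r.Prime := ⟨hr⟩
        exact mixed_false M N hM hN hMN h1 h2 hrp hne hpN
      · intro r hr hrp
        by_contra hne
        haveI : Fact r.Prime := ⟨hr⟩
        exact two_primes_false M N hM hN hMN h1 h2 hrp hne hpN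
    · push Not at hN'
      by_cases hM' : ∃ p : ℕ, p.Prime ∧ pCore p ↥M ≠ ⊥
      · obtain ⟨p, hp, hpM⟩ := hM'
        haveI : Fact p.Prime := ⟨hp⟩
        refine ⟨p, hp, ?_, ?_⟩
        · intro r hr hrp
          by_contra hne
          haveI : Fact r.Prime := ⟨hr⟩
          exact two_primes_false N M hN hM hMN.symm h2 h1 hrp hne hpM
        · intro r hr _
          exact hN' r hr
      · push Not at hM'
        exact ⟨2, Nat.prime_two, fun r hr _ => hM' r hr, fun r hr _ => hN' r hr⟩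
  obtain ⟨p, hp, hMr, hNr⟩ := key
  haveI : Fact p.Prime := ⟨hp⟩
  refine ⟨p, hp, ?_, ?_⟩
  · exact IsPGroup.to_le Cfsg.Agent.Lib.Helper4_PCore.pCore_isPGroup (gF_le_pCore M hLM p hMr)
  · exact IsPGroup.to_le Cfsg.Agent.Lib.Helper4_PCore.pCore_isPGroup (gF_le_pCore N hLN p hNr)

end Cfsg.Agent.Lib.Helper3_BenderMax
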