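import Mathlib
import Cfsg.Agent.Lib.Helper3_BenderMax

set_option autoImplicit false

/-! Bender's theorem on primitive pairs, reusing the maximal-subgroup argument. -/

namespace Cfsg.Agent.Lib.Helper3_BenderPair

open Cfsg
open Cfsg.Agent.Lib.Helper3_BenderMax

universe u

variable {G : Type u} [Group G] [Finite G]

/-- the primitive pair condition -/
def PrimPair (M N : Subgroup G) : Prop :=
  ∀ A : Subgroup G, A ≠ ⊥ → A ≤ M ⊓ N →
    (M ≤ Subgroup.normalizer (A : Set G) → N ⊓ Subgroup.normalizer (A : Set G) = M ⊓ N) ∧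
    (N ≤ Subgroup.normalizer (A : Set G) → M ⊓ Subgroup.normalizer (A : Set G) = M ⊓ N)

omit [Finite G] in
theorem PrimPair.symm {M N : Subgroup G} (h : PrimPair M N) : PrimPair N M := by
  intro A hA hle
  rw [inf_comm] at hle
  obtain ⟨h1, h2⟩ := h A hA hle
  rw [inf_comm N M]
  exact ⟨h2, h1⟩

omit [Finite G] in
theorem pp_false {M N : Subgroup G} (hP : PrimPair M N) (hMN : M ≠ N) (K : Subgroup G)
    (hK1 : K ≠ ⊥) (hKle : K ≤ M ⊓ N) (hM : M ≤ Subgroup.normalizer (K : Set G))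
    (hN : N ≤ Subgroup.normalizer (K : Set G)) : False := by
  obtain ⟨h1, h2⟩ := hP K hK1 hKle
  have e1 := h1 hM
  have e2 := h2 hN
  rw [inf_eq_left.mpr hN] at e1
  rw [inf_eq_left.mpr hM] at e2
  apply hMN
  apply le_antisymm
  · rw [e2]; exact inf_le_right
  · rw [e1]; exact inf_le_left

theorem pp_layer_eq_bot (M N : Subgroup G) (hP : PrimPair M N)
    (hMN : M ≠ N) (h1 : Fs M ≤ N) (h2 : Fs N ≤ M) : layer ↥M = ⊥ := by
  by_contra hne
  have heq : E M = E N := le_antisymm (layer_le N M h2 h1) (layer_le M N h1 h2)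
  have hEne : E M ≠ ⊥ := by
    intro hb
    apply hne
    exact (Subgroup.map_eq_bot_iff_of_injective _ M.subtype_injective).mp hb
  refine pp_false hP hMN (E M) hEne ?_ (le_normalizer_E M) ?_
  · apply le_inf
    · exact Subgroup.map_subtype_le _
    · rw [heq]; exact Subgroup.map_subtype_le _
  · rw [heq]; exact le_normalizer_E N

theorem pp_XN_le_XM (M N : Subgroup G) (hP : PrimPair M N)
    (h1 : Fs M ≤ N) (h2 : Fs N ≤ M) (hLM : layer ↥M = ⊥)
    {p q : ℕ} [hp : Fact p.Prime] [hq : Fact q.Prime] (hpq : p ≠ q)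
    (hq1 : pCore q ↥N ≠ ⊥) : X N p ≤ X M p := by
  have hXq1 : X N q ≠ ⊥ := fun hb => hq1 ((X_eq_bot_iff N q).mp hb)
  have hXqle : X N q ≤ M ⊓ N := le_inf (le_trans (X_le_Fs N q) h2) (X_le N q)
  have hPq := (hP (X N q) hXq1 hXqle).2 (le_normalizer_X N q)
  have hXM : X N p ≤ M := le_trans (X_le_Fs N p) h2
  set H : Subgroup ↥M := (X N p).subgroupOf M with hH
  set K : Subgroup ↥M := Subgroup.normalClosure (H : Set ↥M) with hK
  have hKn : K ≤ Subgroup.normalizer ((H : Subgroup ↥M) : Set ↥M) := by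
    rw [hK]
    show Subgroup.closure (Group.conjugatesOfSet (H : Set ↥M)) ≤ _
    rw [Subgroup.closure_le]
    intro g hg
    rw [Group.mem_conjugatesOfSet_iff] at hg
    obtain ⟨y, hy, hyg⟩ := hg
    rw [isConj_iff] at hyg
    obtain ⟨m, rfl⟩ := hyg
    have hyX : (y : G) ∈ X N p := by
      have : y ∈ H := hy
      rw [hH, Subgroup.mem_subgroupOf] at this
      exact this
    have hgC : ((m : G) * (y : G) * (m : G)⁻¹) ∈
        Subgroup.centralizer ((X N q : Subgroup G) : Set G) := by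
      rw [Subgroup.mem_centralizer_iff]
      intro t ht
      exact key_comm M N h1 h2 hLM hpq m.2 hyX ht
    have hgM : ((m : G) * (y : G) * (m : G)⁻¹) ∈ M :=
      M.mul_mem (M.mul_mem m.2 y.2) (M.inv_mem m.2)
    have hgN : ((m : G) * (y : G) * (m : G)⁻¹) ∈ N := by
      have : ((m : G) * (y : G) * (m : G)⁻¹) ∈
          M ⊓ Subgroup.normalizer ((X N q : Subgroup G) : Set G) :=
        ⟨hgM, Subgroup.centralizer_le_normalizer _ hgC⟩
      rw [hPq] at this
      exact this.2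
    have hgN := le_normalizer_X N p hgN
    rw [Subgroup.mem_normalizer_iff] at hgN
    rw [SetLike.mem_coe, Subgroup.mem_normalizer_iff]
    intro x
    rw [hH, Subgroup.mem_subgroupOf, Subgroup.mem_subgroupOf]
    have := hgN (x : G)
    simpa using this
  have hHK : H ≤ K := Subgroup.le_normalClosure
  have hHn : (H.subgroupOf K).Normal := Subgroup.normal_subgroupOf_of_le_normalizer hKn
  have hKnorm : K.Normal := Subgroup.normalClosure_normal
  have hsn : H.IsSubnormal := Subgroup.IsSubnormal.trans hHK hHn.isSubnormal hKnorm.isSubnormal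
  have hHp : IsPGroup p ↥H := (X_isPGroup N p).comap_subtype
  have hle := Cfsg.Agent.Lib.Helper4_Subnormal.subnormal_pGroup_le_pCore H hsn hHp
  intro x hx
  have hxM : x ∈ M := hXM hx
  have : (⟨x, hxM⟩ : ↥M) ∈ H := by
    rw [hH, Subgroup.mem_subgroupOf]; exact hx
  exact ⟨⟨x, hxM⟩, hle this, rfl⟩

theorem pp_two_primes_false (M N : Subgroup G) (hP : PrimPair M N)
    (hMN : M ≠ N) (h1 : Fs M ≤ N) (h2 : Fs N ≤ M)
    {p q : ℕ} [hp : Fact p.Prime] [hq : Fact q.Prime] (hpq : p ≠ q)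
    (hp1 : pCore p ↥N ≠ ⊥) (hq1 : pCore q ↥N ≠ ⊥) : False := by
  have hLM := pp_layer_eq_bot M N hP hMN h1 h2
  have hLN := pp_layer_eq_bot N M hP.symm hMN.symm h2 h1
  have e1 : X N p ≤ X M p := pp_XN_le_XM M N hP h1 h2 hLM hpq hq1
  have e2 : X N q ≤ X M q := pp_XN_le_XM M N hP h1 h2 hLM (Ne.symm hpq) hp1
  have hp2 : pCore p ↥M ≠ ⊥ := by
    intro hb
    apply hp1
    rw [← X_eq_bot_iff] at hb ⊢
    rw [eq_bot_iff, ← hb]; exact e1
  have hq2 : pCore q ↥M ≠ ⊥ := by
    intro hb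
    apply hq1
    rw [← X_eq_bot_iff] at hb ⊢
    rw [eq_bot_iff, ← hb]; exact e2
  have e3 : X M p ≤ X N p := pp_XN_le_XM N M hP.symm h2 h1 hLN hpq hq2
  have heq : X M p = X N p := le_antisymm e3 e1
  have hXne : X M p ≠ ⊥ := fun hb => hp2 ((X_eq_bot_iff M p).mp hb)
  refine pp_false hP hMN (X M p) hXne ?_ (le_normalizer_X M p) ?_
  · apply le_inf (X_le M p)
    rw [heq]; exact X_le N p
  · rw [heq]; exact le_normalizer_X N p

theorem pp_mixed_false (M N : Subgroup G) (hP : PrimPair M N)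
    (hMN : M ≠ N) (h1 : Fs M ≤ N) (h2 : Fs N ≤ M)
    {p q : ℕ} [hp : Fact p.Prime] [hq : Fact q.Prime] (hpq : p ≠ q)
    (hp1 : pCore p ↥M ≠ ⊥) (hq1 : pCore q ↥N ≠ ⊥) : False := by
  have hLM := pp_layer_eq_bot M N hP hMN h1 h2
  have hMr : ∀ r : ℕ, r.Prime → r ≠ p → pCore r ↥M = ⊥ := by
    intro r hr hrp
    by_contra hne
    haveI : Fact r.Prime := ⟨hr⟩
    exact pp_two_primes_false N M hP.symm hMN.symm h2 h1 hrp hne hp1
  have hle := gF_le_pCore M hLM p hMr
  have hXle : X N q ≤ X M p := by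
    intro t ht
    have htM : t ∈ M := h2 (X_le_Fs N q ht)
    have := (mem_gF_of_centralizes M ⟨t, htM⟩ ?_ ?_).1
    · exact ⟨⟨t, htM⟩, hle this, rfl⟩
    · intro x hx
      unfold E at hx
      rw [hLM, Subgroup.map_bot, Subgroup.mem_bot] at hx
      subst hx
      simp
    · intro r hr x hx
      haveI : Fact r.Prime := ⟨hr⟩
      by_cases hrq : r = q
      · have hrp : r ≠ p := by rw [hrq]; exact Ne.symm hpq
        have hb : X M r = ⊥ := (X_eq_bot_iff M r).mpr (hMr r hr hrp)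
        rw [hb, Subgroup.mem_bot] at hx
        subst hx
        simp
      · have := cross_comm N M h2 h1 (Ne.symm hrq) ht
        exact (Subgroup.mem_centralizer_iff.mp this x hx).symm
  have hdis : Disjoint (X N q) (X M p) :=
    IsPGroup.disjoint_of_ne q p (Ne.symm hpq) _ _ (X_isPGroup N q) (X_isPGroup M p)
  apply hq1
  rw [← X_eq_bot_iff, eq_bot_iff]
  intro t ht
  exact (disjoint_iff.mp hdis).le ⟨ht, hXle ht⟩

theorem pp_main (M N : Subgroup G) (hP : PrimPair M N)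
    (hMN : M ≠ N) (h1 : Fs M ≤ N) (h2 : Fs N ≤ M) :
    ∃ p : ℕ, p.Prime ∧ IsPGroup p ↥(generalizedFittingSubgroup ↥M) ∧
      IsPGroup p ↥(generalizedFittingSubgroup ↥N) := by
  have hLM := pp_layer_eq_bot M N hP hMN h1 h2
  have hLN := pp_layer_eq_bot N M hP.symm hMN.symm h2 h1
  have key : ∃ p : ℕ, p.Prime ∧ (∀ r : ℕ, r.Prime → r ≠ p → pCore r ↥M = ⊥) ∧
      (∀ r : ℕ, r.Prime → r ≠ p → pCore r ↥N = ⊥) := by
    by_cases hN' : ∃ p : ℕ, p.Prime ∧ pCore p ↥N ≠ ⊥
    · obtain ⟨p, hp, hpN⟩ := hN'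
      haveI : Fact p.Prime := ⟨hp⟩
      refine ⟨p, hp, ?_, ?_⟩
      · intro r hr hrp
        by_contra hne
        haveI : Fact r.Prime := ⟨hr⟩
        exact pp_mixed_false M N hP hMN h1 h2 hrp hne hpN
      · intro r hr hrp
        by_contra hne
        haveI : Fact r.Prime := ⟨hr⟩
        exact pp_two_primes_false M N hP hMN h1 h2 hrp hne hpN
    · push Not at hN'
      by_cases hM' : ∃ p : ℕ, p.Prime ∧ pCore p ↥M ≠ ⊥
      · obtain ⟨p, hp, hpM⟩ := hM'
        haveI : Fact p.Prime := ⟨hp⟩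
        refine ⟨p, hp, ?_, ?_⟩
        · intro r hr hrp
          by_contra hne
          haveI : Fact r.Prime := ⟨hr⟩
          exact pp_two_primes_false N M hP.symm hMN.symm h2 h1 hrp hne hpM
        · intro r hr _
          exact hN' r hr
      · push Not at hM'
        exact ⟨2, Nat.prime_two, fun r hr _ => hM' r hr, fun r hr _ => hN' r hr⟩
  obtain ⟨p, hp, hMr, hNr⟩ := key
  haveI : Fact p.Prime := ⟨hp⟩
  refine ⟨p, hp, ?_, ?_⟩
  · exact IsPGroup.to_le Cfsg.Agent.Lib.Helper4_PCore.pCore_isPGroup (gF_le_pCore M hLM p hMr)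
  · exact IsPGroup.to_le Cfsg.Agent.Lib.Helper4_PCore.pCore_isPGroup (gF_le_pCore N hLN p hNr)

/-- if `F*(A)` is a `p`-group then `O_p(A)` is self-centralizing -/
theorem centralizer_pCore_le (A : Subgroup G) {p : ℕ} [Fact p.Prime]
    (h : IsPGroup p ↥(generalizedFittingSubgroup ↥A)) :
    Subgroup.centralizer ((pCore p ↥A : Subgroup ↥A) : Set ↥A) ≤ pCore p ↥A := by
  have hle : generalizedFittingSubgroup ↥A ≤ pCore p ↥A :=
    Cfsg.Agent.Lib.Helper4_PCore.le_pCore _ (Cfsg.Agent.S1265.gf_normal ↥A) h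
  have hge : pCore p ↥A ≤ generalizedFittingSubgroup ↥A :=
    le_trans (Cfsg.Agent.Lib.Helper3_Bender.pCore_le_fitting p) le_sup_right
  have heq : generalizedFittingSubgroup ↥A = pCore p ↥A := le_antisymm hle hge
  have := Cfsg.Agent.S1265.result (G := ↥A)
  rw [heq] at this
  exact this

end Cfsg.Agent.Lib.Helper3_BenderPair
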