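import Mathlib
import Cfsg.Prelude.Def_Local
import Cfsg.Agent.Lib.Helper3_CommDecomp3
import Cfsg.Agent.Lib.Helper3_LayerPre
import Cfsg.Agent.Lib.Helper3_Conj

set_option autoImplicit false

namespace Cfsg.Agent.Lib.Helper3_CommDecomp4
open Cfsg Cfsg.Agent.Lib.Helper3_CommDecomp Cfsg.Agent.Lib.Helper3_CommDecomp2
  Cfsg.Agent.Lib.Helper3_CommDecomp3
open scoped commutatorElement

universe u

/-- `Z(L) ∩ L' ≤ Φ(L)` -/
theorem gaschutz {L : Type*} [Group L] (z : L) (hz : z ∈ Subgroup.center L)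
    (hz' : z ∈ commutator L) : z ∈ frattini L := by
  unfold frattini Order.radical
  simp only [Subgroup.mem_iInf]
  intro M hM
  by_contra hzM
  have hsup : M ⊔ Subgroup.zpowers z = ⊤ := by
    apply hM.2
    apply lt_of_le_of_ne le_sup_left
    intro h
    apply hzM
    rw [h]
    exact Subgroup.mem_sup_right (Subgroup.mem_zpowers z)
  have hdec : ∀ a : L, ∃ m ∈ M, ∃ k : ℤ, a = m * z ^ k := by
    intro a
    have ha : a ∈ M ⊔ Subgroup.zpowers z := by rw [hsup]; exact Subgroup.mem_top a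
    have hn : Subgroup.zpowers z ≤ Subgroup.normalizer (M : Set L) := by
      rw [Subgroup.zpowers_le]
      rw [Subgroup.mem_normalizer_iff]
      intro h
      have e : z * h * z⁻¹ = h := by
        rw [Subgroup.mem_center_iff] at hz
        rw [← hz h]; group
      rw [e]
    obtain ⟨m, hm, t, ht, rfl⟩ :=
      Cfsg.Agent.Lib.Helper3_Tight.mem_sup_of_le_normalizer M (Subgroup.zpowers z) hn a ha
    obtain ⟨k, rfl⟩ := Subgroup.mem_zpowers_iff.mp ht
    exact ⟨m, hm, k, rfl⟩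
  have hcomm : commutator L ≤ M := by
    rw [commutator_def, Subgroup.commutator_le]
    intro a _ b _
    obtain ⟨m1, hm1, k1, rfl⟩ := hdec a
    obtain ⟨m2, hm2, k2, rfl⟩ := hdec b
    have hzc : ∀ (k : ℤ) (x : L), z ^ k * x = x * z ^ k := by
      intro k x
      have := (Subgroup.center L).zpow_mem hz k
      rw [Subgroup.mem_center_iff] at this
      exact (this x).symm
    have e : ⁅m1 * z ^ k1, m2 * z ^ k2⁆ = ⁅m1, m2⁆ := by
      simp only [commutatorElement_def]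
      have h1 : (m1 * z ^ k1) * (m2 * z ^ k2) = m1 * m2 * (z ^ k1 * z ^ k2) := by
        rw [mul_assoc, ← mul_assoc (z ^ k1), hzc k1 m2]; group
      have h2 : (m1 * z ^ k1)⁻¹ * (m2 * z ^ k2)⁻¹ = (z ^ k1 * z ^ k2)⁻¹ * (m1⁻¹ * m2⁻¹) := by
        rw [mul_inv_rev, mul_inv_rev, mul_inv_rev]
        have h3 := hzc (-k1) (m1⁻¹)
        have h4 := hzc (-k2) (m2⁻¹)
        have h5 := hzc (-k2) (m1⁻¹)
        rw [zpow_neg] at h3 h4 h5
        calc (z ^ k1)⁻¹ * m1⁻¹ * ((z ^ k2)⁻¹ * m2⁻¹)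
            = (z ^ k1)⁻¹ * (m1⁻¹ * (z ^ k2)⁻¹) * m2⁻¹ := by group
          _ = (z ^ k1)⁻¹ * ((z ^ k2)⁻¹ * m1⁻¹) * m2⁻¹ := by rw [h5]
          _ = (z ^ k2)⁻¹ * (z ^ k1)⁻¹ * (m1⁻¹ * m2⁻¹) := by
            have h6 : (z ^ k1)⁻¹ * (z ^ k2)⁻¹ = (z ^ k2)⁻¹ * (z ^ k1)⁻¹ := by
              rw [← zpow_neg, ← zpow_neg, ← zpow_add, ← zpow_add, add_comm]
            calc (z ^ k1)⁻¹ * ((z ^ k2)⁻¹ * m1⁻¹) * m2⁻¹
                = ((z ^ k1)⁻¹ * (z ^ k2)⁻¹) * (m1⁻¹ * m2⁻¹) := by group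
              _ = (z ^ k2)⁻¹ * (z ^ k1)⁻¹ * (m1⁻¹ * m2⁻¹) := by rw [h6]
      calc m1 * z ^ k1 * (m2 * z ^ k2) * (m1 * z ^ k1)⁻¹ * (m2 * z ^ k2)⁻¹
          = ((m1 * z ^ k1) * (m2 * z ^ k2)) * ((m1 * z ^ k1)⁻¹ * (m2 * z ^ k2)⁻¹) := by group
        _ = (m1 * m2 * (z ^ k1 * z ^ k2)) * ((z ^ k1 * z ^ k2)⁻¹ * (m1⁻¹ * m2⁻¹)) := by rw [h1, h2]
        _ = m1 * m2 * m1⁻¹ * m2⁻¹ := by group
    rw [e]
    exact M.mul_mem (M.mul_mem (M.mul_mem hm1 hm2) (M.inv_mem hm1)) (M.inv_mem hm2)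
  exact hzM (hcomm hz')

variable {A : Type u} [Group A] [Finite A]

/-- structure of a subnormal subgroup of `F*(A)` -/
theorem structure_FE {p : ℕ} [hp : Fact p.Prime] (hO : pCore p A = ⊥) (L : Subgroup A)
    (hLF : L ≤ generalizedFittingSubgroup A) (hLsn : L.IsSubnormal) :
    L ≤ (fittingSubgroup ↥L).map L.subtype ⊔ (layer ↥L).map L.subtype ∧
      (Nat.card ↥((fittingSubgroup ↥L).map L.subtype)).Coprime p ∧
      (layer ↥L).map L.subtype ≤ ⁅L, L⁆ := by
  classical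
  have hdec := Cfsg.Agent.S1318.decomposition L hLF hLsn
  have hfit := Cfsg.Agent.S1318.fitting_subnormal L hLsn
  refine ⟨?_, ?_, ?_⟩
  · intro l hl
    obtain ⟨e1, c, he1, hc, rfl⟩ := hdec l hl
    rw [← hfit] at hc
    rw [sup_comm]
    exact Subgroup.mul_mem_sup he1 hc
  · have hcopH := fitting_coprime_of_pCore_bot p hO
    rw [hfit]
    exact Nat.Coprime.coprime_dvd_left (Subgroup.card_dvd_of_le inf_le_left) hcopH
  · have h1 := Cfsg.Agent.Lib.Helper3_LayerPre.layer_perfect ↥L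
    have h2 := congrArg (Subgroup.map L.subtype) h1
    rw [Subgroup.map_commutator] at h2
    rw [← h2]
    exact Subgroup.commutator_mono (Subgroup.map_subtype_le _) (Subgroup.map_subtype_le _)

/-- key lemma: a central, `Q`-fixed element of `L = [L, Q]` lies in `L'` -/
theorem keyK {p : ℕ} [hp : Fact p.Prime] (hO : pCore p A = ⊥) (L Q : Subgroup A)
    (hQ : IsPGroup p ↥Q) (hLF : L ≤ generalizedFittingSubgroup A) (hLsn : L.IsSubnormal)
    (hQL : Q ≤ Subgroup.normalizer (L : Set A)) (hLQ : ⁅L, Q⁆ = L) (z : A) (hzL : z ∈ L)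
    (hzQ : z ∈ Subgroup.centralizer (Q : Set A)) : z ∈ ⁅L, L⁆ := by
  classical
  obtain ⟨hsup, hcopF, hEL⟩ := structure_FE hO L hLF hLsn
  set FL := (fittingSubgroup ↥L).map L.subtype with hFL
  set EL := (layer ↥L).map L.subtype with hELdef
  set L' := ⁅L, L⁆ with hL'
  set N := Subgroup.normalizer (L' : Set A) with hN
  have hLN : L ≤ N := Cfsg.Agent.Lib.Lead_Coprime.le_normalizer_commutator_left L L
  have hQN : Q ≤ N := Cfsg.Agent.Lib.Lead_Coprime.le_normalizer_commutator Q L L hQL hQL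
  have hL'L : L' ≤ L :=
    Cfsg.Agent.Lib.Lead_Coprime.commutator_le_of_le_normalizer L L Subgroup.le_normalizer
  have hFLL : FL ≤ L := Subgroup.map_subtype_le _
  haveI hnorm : (L'.subgroupOf N).Normal := Subgroup.normal_in_normalizer
  set π := QuotientGroup.mk' (L'.subgroupOf N) with hπ
  set V := (L.subgroupOf N).map π with hV
  set Aq := (Q.subgroupOf N).map π with hAq
  -- V abelian
  haveI hVc : IsMulCommutative ↥V := ⟨⟨by
    rintro ⟨a, x, hx, rfl⟩ ⟨b, y, hy, rfl⟩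
    apply Subtype.ext
    show π x * π y = π y * π x
    rw [← commutatorElement_eq_one_iff_mul_comm, ← map_commutatorElement, hπ,
      QuotientGroup.mk'_apply, QuotientGroup.eq_one_iff]
    rw [Subgroup.mem_subgroupOf]
    exact Subgroup.commutator_mem_commutator (Subgroup.mem_subgroupOf.mp hx)
      (Subgroup.mem_subgroupOf.mp hy)⟩⟩
  -- Aq normalizes V
  have hAV : Aq ≤ Subgroup.normalizer (V : Set (↥N ⧸ L'.subgroupOf N)) := by
    have h1 : Q.subgroupOf N ≤ Subgroup.normalizer ((L.subgroupOf N : Subgroup ↥N) : Set ↥N) := by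
      intro q hq
      rw [Subgroup.mem_normalizer_iff]
      intro h
      have := Subgroup.mem_normalizer_iff.mp (hQL (Subgroup.mem_subgroupOf.mp hq)) (h : A)
      simp only [Subgroup.mem_subgroupOf]
      exact this
    exact (Subgroup.map_mono h1).trans (Subgroup.le_normalizer_map π)
  -- V = π(FL_N)
  have hVF : V = (FL.subgroupOf N).map π := by
    apply le_antisymm
    · have h1 : L.subgroupOf N ≤ FL.subgroupOf N ⊔ EL.subgroupOf N := by
        rw [← Subgroup.subgroupOf_sup (hFLL.trans hLN) ((hEL.trans hL'L).trans hLN)]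
        intro x hx
        exact Subgroup.mem_subgroupOf.mpr (hsup (Subgroup.mem_subgroupOf.mp hx))
      have h2 : (EL.subgroupOf N).map π = ⊥ := by
        rw [Subgroup.map_eq_bot_iff, hπ, QuotientGroup.ker_mk']
        intro x hx
        exact Subgroup.mem_subgroupOf.mpr (hEL (Subgroup.mem_subgroupOf.mp hx))
      calc V ≤ (FL.subgroupOf N ⊔ EL.subgroupOf N).map π := Subgroup.map_mono h1
        _ = (FL.subgroupOf N).map π ⊔ (EL.subgroupOf N).map π := Subgroup.map_sup _ _ _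
        _ = (FL.subgroupOf N).map π := by rw [h2, sup_bot_eq]
    · apply Subgroup.map_mono
      intro x hx
      exact Subgroup.mem_subgroupOf.mpr (hFLL (Subgroup.mem_subgroupOf.mp hx))
  have hcop : (Nat.card ↥Aq).Coprime (Nat.card ↥V) := by
    have h1 : Nat.card ↥Aq ∣ Nat.card ↥Q := by
      have := Subgroup.card_map_dvd (H := Q.subgroupOf N) π
      rwa [Nat.card_congr (Subgroup.subgroupOfEquivOfLe hQN).toEquiv] at this
    have h2 : Nat.card ↥V ∣ Nat.card ↥FL := by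
      rw [hVF]
      have := Subgroup.card_map_dvd (H := FL.subgroupOf N) π
      rwa [Nat.card_congr (Subgroup.subgroupOfEquivOfLe (hFLL.trans hLN)).toEquiv] at this
    obtain ⟨k, hk⟩ := IsPGroup.iff_card.mp hQ
    rw [hk] at h1
    have h3 : (p ^ k).Coprime (Nat.card ↥FL) := Nat.Coprime.pow_left k hcopF.symm
    exact Nat.Coprime.coprime_dvd_left h1 (Nat.Coprime.coprime_dvd_right h2 h3)
  have hkey := Cfsg.Agent.Lib.Lead_Coprime.abelian_inf_eq_bot Aq V hAV hcop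
  -- [V, Aq] = V
  have hcomm : ⁅V, Aq⁆ = V := by
    rw [hV, hAq, ← Subgroup.map_commutator]
    congr 1
    apply Subgroup.map_injective (Subgroup.subtype_injective N)
    rw [Subgroup.map_commutator, Subgroup.subgroupOf_map_subtype, Subgroup.subgroupOf_map_subtype,
      inf_eq_left.mpr hLN, inf_eq_left.mpr hQN, hLQ]
  -- the element
  have hzN : z ∈ N := hLN hzL
  have hzV : π ⟨z, hzN⟩ ∈ V := ⟨⟨z, hzN⟩, Subgroup.mem_subgroupOf.mpr hzL, rfl⟩
  have hzC : π ⟨z, hzN⟩ ∈ Subgroup.centralizer (Aq : Set (↥N ⧸ L'.subgroupOf N)) := by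
    rw [Subgroup.mem_centralizer_iff]
    rintro _ ⟨q, hq, rfl⟩
    rw [← map_mul, ← map_mul]
    congr 1
    apply Subtype.ext
    exact Subgroup.mem_centralizer_iff.mp hzQ (q : A) (Subgroup.mem_subgroupOf.mp hq)
  have hz1 : π ⟨z, hzN⟩ ∈ (V ⊓ Subgroup.centralizer (Aq : Set (↥N ⧸ L'.subgroupOf N))) ⊓ ⁅V, Aq⁆ := by
    rw [hcomm]
    exact ⟨⟨hzV, hzC⟩, hzV⟩
  rw [hkey, Subgroup.mem_bot, hπ, QuotientGroup.mk'_apply, QuotientGroup.eq_one_iff] at hz1
  exact Subgroup.mem_subgroupOf.mp hz1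

end Cfsg.Agent.Lib.Helper3_CommDecomp4
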