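import Mathlib
import Cfsg.Agent.Lib.Lead_Coprime

/-! Hall's theorems for finite solvable groups. -/

namespace Cfsg.Agent.Lib.Lead_Hall

open Cfsg.Agent.Lib.Lead_SZ Cfsg.Agent.Lib.Lead_Coprime
open scoped Pointwise

universe u

/-- Existence, conjugacy and dominance of Hall subgroups. -/
def HallProp (G : Type u) [Group G] : Prop :=
  ∀ m n : ℕ, Nat.card G = m * n → m.Coprime n →
    (∃ H : Subgroup G, Nat.card H = m) ∧
    (∀ H K : Subgroup G, Nat.card H = m → Nat.card K = m → ∃ g : G, MulAut.conj g • H = K) ∧
    (∀ K : Subgroup G, (Nat.card K).Coprime n → ∃ H : Subgroup G, Nat.card H = m ∧ K ≤ H)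

theorem le_comap_mk {G : Type u} [Group G] (N : Subgroup G) [N.Normal] (X : Subgroup (G ⧸ N)) :
    N ≤ X.comap (QuotientGroup.mk' N) := by
  intro x hx
  rw [Subgroup.mem_comap]
  have : QuotientGroup.mk' N x = 1 := (QuotientGroup.eq_one_iff x).mpr hx
  rw [this]; exact X.one_mem

theorem card_comap_mk {G : Type u} [Group G] [Finite G] (N : Subgroup G) [N.Normal]
    (X : Subgroup (G ⧸ N)) :
    Nat.card (X.comap (QuotientGroup.mk' N)) = Nat.card X * Nat.card N := by
  have h := card_map_of_le N (X.comap (QuotientGroup.mk' N)) (le_comap_mk N X)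
  rw [Subgroup.map_comap_eq_self_of_surjective (QuotientGroup.mk'_surjective N)] at h
  exact h.symm

theorem exists_complement_in {G : Type u} [Group G] [Finite G] (N L : Subgroup G) [N.Normal]
    (hNL : N ≤ L) (m : ℕ) (hL : Nat.card L = m * Nat.card N) (hcop : m.Coprime (Nat.card N)) :
    ∃ H₀ : Subgroup G, H₀ ≤ L ∧ Nat.card H₀ = m ∧ ∀ l ∈ L, ∃ k ∈ N, ∃ h ∈ H₀, l = k * h := by
  have hn : (N.subgroupOf L).Normal := inferInstance
  have hc : Nat.card (N.subgroupOf L) = Nat.card N := card_subgroupOf_of_le hNL
  have hidx : (N.subgroupOf L).index = m := by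
    have h1 := Subgroup.card_mul_index (N.subgroupOf L)
    rw [hc, hL, mul_comm] at h1
    exact Nat.eq_of_mul_eq_mul_right (Nat.card_pos : 0 < Nat.card N) h1
  obtain ⟨H, hH⟩ := Subgroup.exists_right_complement'_of_coprime (N := N.subgroupOf L)
    (by rw [hc, hidx]; exact hcop.symm)
  refine ⟨H.map L.subtype, Subgroup.map_subtype_le _, ?_, ?_⟩
  · rw [Subgroup.card_map_of_injective L.subtype_injective, ← hH.symm.index_eq_card, hidx]
  · intro l hl
    obtain ⟨k, hk, h, hh, hkh⟩ := exists_mul_of_complement hH ⟨l, hl⟩
    exact ⟨k, Subgroup.mem_subgroupOf.mp hk, h, ⟨h, hh, rfl⟩, congrArg Subtype.val hkh⟩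

theorem hall_aux : ∀ (c : ℕ) (G : Type u) [Group G] [Finite G] [Group.IsSolvable G],
    Nat.card G = c → HallProp G := by
  intro c
  induction c using Nat.strong_induction_on with
  | _ c ih =>
    intro G _ _ _ hc m n hmn hcop
    by_cases htriv : Subsingleton G
    · have h1 : Nat.card G = 1 := Nat.card_of_subsingleton (1 : G)
      have hm : m = 1 := by
        rw [h1] at hmn
        exact Nat.eq_one_of_mul_eq_one_right hmn.symm
      refine ⟨⟨⊥, by rw [Subgroup.card_bot, hm]⟩, fun H K _ _ => ⟨1, Subsingleton.elim _ _⟩,
        fun K _ => ⟨⊥, by rw [Subgroup.card_bot, hm], by rw [Subsingleton.elim K ⊥]⟩⟩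
    · haveI : Nontrivial G := not_subsingleton_iff_nontrivial.mp htriv
      obtain ⟨p, hp, N, hNn, hNp, hNne⟩ := exists_normal_pgroup G
      haveI := hNn
      haveI := Fact.mk hp
      obtain ⟨k, hk⟩ := hNp.exists_card_eq
      have hNG : Nat.card N ∣ Nat.card G := Subgroup.card_subgroup_dvd_card N
      have hQ : Nat.card (G ⧸ N) * Nat.card N = Nat.card G :=
        (Subgroup.card_eq_card_quotient_mul_card_subgroup N).symm
      have hNpos : 0 < Nat.card N := Nat.card_pos
      have hN1 : 1 < Nat.card N := by
        rcases Nat.lt_or_ge 1 (Nat.card N) with h | h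
        · exact h
        · exfalso
          have : Nat.card N = 1 := by omega
          exact hNne (Subgroup.card_eq_one.mp this)
      have hlt : Nat.card (G ⧸ N) < c := by
        rw [← hc, ← hQ]
        have h2 : 0 < Nat.card (G ⧸ N) := Nat.card_pos
        nlinarith
      have IH := ih _ hlt (G ⧸ N) rfl
      have hNsolv : Group.IsSolvable N := by
        have := hNp.isNilpotent
        infer_instance
      have hnormN : ∀ X : Subgroup G, X ≤ Subgroup.normalizer (N : Set G) := by
        intro X
        rw [Subgroup.normalizer_eq_top_iff.mpr hNn]; exact le_top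
      by_cases hpm : p ∣ m
      · -- Case 1 : p ∣ m
        have hpn : ¬ p ∣ n := by
          intro h
          have := Nat.dvd_gcd hpm h
          rw [hcop] at this
          exact Nat.Prime.not_dvd_one hp this
        have hcopN : (Nat.card N).Coprime n := by
          rw [hk]; exact Nat.Coprime.pow_left k ((Nat.Prime.coprime_iff_not_dvd hp).mpr hpn)
        have hNm : Nat.card N ∣ m := hcopN.dvd_of_dvd_mul_right (hmn ▸ hNG)
        obtain ⟨m', hm'⟩ := hNm
        have hQc : Nat.card (G ⧸ N) = m' * n := by
          apply Nat.eq_of_mul_eq_mul_right hNpos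
          rw [hQ, hmn, hm']; ring
        have hcop' : m'.Coprime n :=
          Nat.Coprime.coprime_dvd_left (Dvd.intro_left _ hm'.symm) hcop
        have hm'pos : 0 < m' := by
          rcases Nat.eq_zero_or_pos m' with h | h
          · exfalso
            rw [h, mul_zero] at hm'
            rw [hm', zero_mul] at hmn
            have : 0 < Nat.card G := Nat.card_pos
            omega
          · exact h
        obtain ⟨hE, hC, hD⟩ := IH m' n hQc hcop'
        refine ⟨?_, ?_, ?_⟩
        · obtain ⟨Hb, hHb⟩ := hE
          exact ⟨Hb.comap (QuotientGroup.mk' N), by rw [card_comap_mk, hHb, hm']; ring⟩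
        · intro H K hH hK
          have hNle : ∀ X : Subgroup G, Nat.card X = m → N ≤ X := by
            intro X hX
            have h1 := card_map_mul N X
            have h2 : Nat.card (X.map (QuotientGroup.mk' N)) ∣ m' * n :=
              hQc ▸ Subgroup.card_subgroup_dvd_card _
            have h3 : Nat.card (X ⊓ N : Subgroup G) ∣ Nat.card N :=
              Subgroup.card_dvd_of_le inf_le_right
            obtain ⟨t, ht⟩ := h3
            have hXNpos : 0 < Nat.card (X ⊓ N : Subgroup G) := Nat.card_pos
            have h4 : Nat.card (X.map (QuotientGroup.mk' N)) = t * m' := by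
              apply Nat.eq_of_mul_eq_mul_right hXNpos
              rw [h1, hX, hm', ht]; ring
            have h5 : t ∣ n := by
              rw [h4, mul_comm t m'] at h2
              exact Nat.dvd_of_mul_dvd_mul_left hm'pos h2
            have h6 : t = 1 := by
              have h7 : t ∣ Nat.card N := Dvd.intro_left _ ht.symm
              exact Nat.Coprime.eq_one_of_dvd (hcopN.coprime_dvd_left h7) h5
            rw [h6, mul_one] at ht
            have h8 := eq_of_le_of_card_eq (inf_le_right : X ⊓ N ≤ N) ht.symm
            rw [← h8]; exact inf_le_left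
          have hNH := hNle H hH
          have hNK := hNle K hK
          have cH : Nat.card (H.map (QuotientGroup.mk' N)) = m' := by
            have h1 := card_map_of_le N H hNH
            apply Nat.eq_of_mul_eq_mul_right hNpos
            rw [h1, hH, hm']; ring
          have cK : Nat.card (K.map (QuotientGroup.mk' N)) = m' := by
            have h1 := card_map_of_le N K hNK
            apply Nat.eq_of_mul_eq_mul_right hNpos
            rw [h1, hK, hm']; ring
          obtain ⟨gb, hgb⟩ := hC _ _ cH cK
          obtain ⟨g, rfl⟩ := QuotientGroup.mk'_surjective N gb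
          refine ⟨g, ?_⟩
          rw [← map_conj_smul] at hgb
          have h1 := congrArg (Subgroup.comap (QuotientGroup.mk' N)) hgb
          rw [Subgroup.comap_map_eq, Subgroup.comap_map_eq, QuotientGroup.ker_mk'] at h1
          have hNgH : N ≤ MulAut.conj g • H := by
            have h2 := conj_smul_mono g hNH
            rwa [hNn.conj_smul_eq_self g] at h2
          rwa [sup_eq_left.mpr hNgH, sup_eq_left.mpr hNK] at h1
        · intro K hK
          have hKb : (Nat.card (K.map (QuotientGroup.mk' N))).Coprime n :=
            Nat.Coprime.coprime_dvd_left (Subgroup.card_map_dvd _ _) hK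
          obtain ⟨Hb, hHb, hle⟩ := hD _ hKb
          refine ⟨Hb.comap (QuotientGroup.mk' N), by rw [card_comap_mk, hHb, hm']; ring, ?_⟩
          exact Subgroup.map_le_iff_le_comap.mp hle
      · -- Case 2 : p ∤ m
        have hcopN : m.Coprime (Nat.card N) := by
          rw [hk]
          exact Nat.Coprime.pow_right k ((Nat.Prime.coprime_iff_not_dvd hp).mpr hpm).symm
        have hNn' : Nat.card N ∣ n := hcopN.symm.dvd_of_dvd_mul_left (hmn ▸ hNG)
        obtain ⟨n', hn'⟩ := hNn'
        have hQc : Nat.card (G ⧸ N) = m * n' := by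
          apply Nat.eq_of_mul_eq_mul_right hNpos
          rw [hQ, hmn, hn']; ring
        have hcop' : m.Coprime n' :=
          Nat.Coprime.coprime_dvd_right (Dvd.intro_left _ hn'.symm) hcop
        obtain ⟨hE, hC, hD⟩ := IH m n' hQc hcop'
        refine ⟨?_, ?_, ?_⟩
        · obtain ⟨Lb, hLb⟩ := hE
          obtain ⟨H₀, -, hH₀, -⟩ := exists_complement_in N (Lb.comap (QuotientGroup.mk' N))
            (le_comap_mk N Lb) m (by rw [card_comap_mk, hLb]) hcopN
          exact ⟨H₀, hH₀⟩
        · intro H K hH hK
          have hbot : ∀ X : Subgroup G, Nat.card X = m → X ⊓ N = ⊥ := fun X hX =>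
            (Subgroup.disjoint_of_coprime_natCard (hX ▸ hcopN)).eq_bot
          have cH := card_map_of_inf_bot N H (hbot H hH)
          have cK := card_map_of_inf_bot N K (hbot K hK)
          obtain ⟨gb, hgb⟩ := hC _ _ (cH.trans hH) (cK.trans hK)
          obtain ⟨g, rfl⟩ := QuotientGroup.mk'_surjective N gb
          rw [← map_conj_smul] at hgb
          have h1 := congrArg (Subgroup.comap (QuotientGroup.mk' N)) hgb
          rw [Subgroup.comap_map_eq, Subgroup.comap_map_eq, QuotientGroup.ker_mk'] at h1
          have hH'L : MulAut.conj g • H ≤ K ⊔ N := h1 ▸ le_sup_left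
          have cL : Nat.card (K ⊔ N : Subgroup G) = Nat.card N * m := by
            have h2 := card_sup_of_normalizer N K (hnormN K) (hK ▸ hcopN)
            rw [sup_comm, h2, hK]
          have hcH' : Nat.card (MulAut.conj g • H : Subgroup G) = m := by
            rw [card_conj_smul, hH]
          obtain ⟨l, hl, hlK⟩ := sub_step (K ⊔ N) (sz_conj ↥(K ⊔ N : Subgroup G)) N
            (MulAut.conj g • H) K inferInstance le_sup_right hH'L le_sup_left
            (by rw [hcH']; exact hcopN.symm) (by rw [hcH']; exact cL.symm)
            (by rw [hK]; exact cL.symm) (Or.inl hNsolv)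
          exact ⟨l * g, by rw [← conj_smul_smul]; exact hlK⟩
        · intro K hK
          have hKn' : (Nat.card K).Coprime n' :=
            Nat.Coprime.coprime_dvd_right (Dvd.intro_left _ hn'.symm) hK
          have hKN : (Nat.card K).Coprime (Nat.card N) :=
            Nat.Coprime.coprime_dvd_right (Dvd.intro _ hn'.symm) hK
          have hKb : (Nat.card (K.map (QuotientGroup.mk' N))).Coprime n' :=
            Nat.Coprime.coprime_dvd_left (Subgroup.card_map_dvd _ _) hKn'
          obtain ⟨Lb, hLb, hle⟩ := hD _ hKb
          have hKL : K ≤ Lb.comap (QuotientGroup.mk' N) := Subgroup.map_le_iff_le_comap.mp hle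
          obtain ⟨H₀, hH₀L, hH₀, hdec⟩ := exists_complement_in N (Lb.comap (QuotientGroup.mk' N))
            (le_comap_mk N Lb) m (by rw [card_comap_mk, hLb]) hcopN
          obtain ⟨d, hd, hdK⟩ := lemmaF K N (hnormN K) hKN (Or.inr hNsolv) H₀ (by
            intro a ha
            obtain ⟨k, hk, h, hh, hakh⟩ := hdec a (hKL ha)
            refine ⟨k, hk, ?_⟩
            rw [hakh]; simpa using hh)
          refine ⟨MulAut.conj d⁻¹ • H₀, by rw [card_conj_smul, hH₀], ?_⟩
          intro a ha
          rw [mem_conj_smul, inv_inv]
          exact hdK a ha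

/-- Hall's theorems. -/
theorem hall (G : Type u) [Group G] [Finite G] [Group.IsSolvable G] : HallProp G :=
  hall_aux _ G rfl

end Cfsg.Agent.Lib.Lead_Hall
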