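import Mathlib
import Cfsg.Prelude.Def_Local
import Cfsg.Agent.Lib.Helper3_Components
import Cfsg.Agent.Lib.Helper3_SupNormalizer
import Cfsg.Agent.Lib.Helper5_PPrime
import Cfsg.Agent.Lib.Lead_Coprime
import Cfsg.Agent.S1958
import Cfsg.Agent.S3743

/-! Basic theory of `p`-components (helper3). -/

set_option autoImplicit false

namespace Cfsg.Agent.Lib.Helper3_PComp

open Cfsg Cfsg.Agent.Lib.Helper3_Components
open scoped commutatorElement

universe u

section transfer
open scoped IsMulCommutative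

/-- a finite perfect group whose centre has index prime to `p` has order prime to `p` -/
theorem perfect_card_coprime_of_center_index {A : Type*} [Group A] [Finite A] [Group.IsPerfect A]
    (p : ℕ) [hp : Fact p.Prime] (h : ((Subgroup.center A).index).Coprime p) :
    (Nat.card A).Coprime p := by
  have hker : ∀ g : A, g ^ (Subgroup.center A).index = 1 := by
    intro g
    have h1 : commutator A ≤ (MonoidHom.transferCenterPow A).ker :=
      Abelianization.commutator_subset_ker _
    have hg : g ∈ commutator A := Group.IsPerfect.mem_commutator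
    have h2 := h1 hg
    rw [MonoidHom.mem_ker] at h2
    have h3 := congrArg Subtype.val h2
    rwa [MonoidHom.transferCenterPow_apply] at h3
  by_contra hnc
  have hdvd : p ∣ Nat.card A := by
    by_contra hnd
    exact hnc ((Nat.Prime.coprime_iff_not_dvd hp.out).mpr hnd).symm
  obtain ⟨g, hg⟩ := exists_prime_orderOf_dvd_card' p hdvd
  have h4 := orderOf_dvd_of_pow_eq_one (hker g)
  rw [hg] at h4
  exact (Nat.Prime.coprime_iff_not_dvd hp.out).mp h.symm h4

end transfer

/-- a subnormal subgroup of order prime to `p` lies in `O_{p'}(G)` -/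
theorem subnormal_coprime_le_pPrimeCore {G : Type*} [Group G] [Finite G] (p : ℕ) [hp : Fact p.Prime]
    (A : Subgroup G) (hA : A.IsSubnormal) (hc : (Nat.card ↥A).Coprime p) :
    A ≤ Cfsg.pPrimeCore p G := by
  have h1 := (Cfsg.Agent.S3743.result A hA).2 {q | q ≠ p} (by
    intro q hq hqd
    show q ≠ p
    rintro rfl
    exact (Nat.Prime.coprime_iff_not_dvd hp.out).mp hc.symm hqd)
  refine h1.trans ?_
  apply sSup_le
  rintro N ⟨hNn, hN⟩
  apply le_sSup
  refine ⟨hNn, ?_⟩
  apply Nat.Coprime.symm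
  rw [Nat.Prime.coprime_iff_not_dvd hp.out]
  intro hd
  exact hN p hp.out hd rfl

/-- in a group with `O_{p'} = 1`, a component has no central subgroup of index prime to `p` -/
theorem component_central_index {Q : Type*} [Group Q] [Finite Q] (p : ℕ) [hp : Fact p.Prime]
    (hO : Cfsg.pPrimeCore p Q = ⊥) (K : Subgroup Q) (hK : Cfsg.IsComponent K)
    (M : Subgroup ↥K) (hM : M ≤ Subgroup.center ↥K) : ¬ (M.index).Coprime p := by
  intro hc
  haveI : Group.IsPerfect ↥K := hK.2.1
  have h1 : ((Subgroup.center ↥K).index).Coprime p :=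
    Nat.Coprime.coprime_dvd_left (Subgroup.index_dvd_of_le hM) hc
  have h2 := perfect_card_coprime_of_center_index p h1
  have h3 := subnormal_coprime_le_pPrimeCore p K hK.1 h2
  rw [hO, le_bot_iff] at h3
  haveI := quasisimple_nontrivial hK.2
  exact (Subgroup.nontrivial_iff_ne_bot K).mp inferInstance h3

/-! ### Basic facts on `p`-components -/

section basic

variable {X : Type*} [Group X] [Finite X] (p : ℕ) [hp : Fact p.Prime]

/-- the image of a `p`-component -/
theorem pc_image {K : Subgroup X} (hK : Cfsg.IsPComponent p K) :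
    Cfsg.IsComponent (K.map (QuotientGroup.mk' (Cfsg.pPrimeCore p X))) := hK.2.1

/-- dichotomy: a subnormal subgroup of `X` inside a `p`-component `K` is `K` or has central image -/
theorem pc_dichotomy {K : Subgroup X} (hK : Cfsg.IsPComponent p K) (H : Subgroup X)
    (hH : H.IsSubnormal) (hHK : H ≤ K) :
    H = K ∨ ∀ a ∈ H, ∀ k ∈ K, QuotientGroup.mk' (Cfsg.pPrimeCore p X) a *
      QuotientGroup.mk' (Cfsg.pPrimeCore p X) k = QuotientGroup.mk' (Cfsg.pPrimeCore p X) k *
      QuotientGroup.mk' (Cfsg.pPrimeCore p X) a := by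
  set π := QuotientGroup.mk' (Cfsg.pPrimeCore p X) with hπ
  have hHsub : (H.map π).IsSubnormal := hH.map (QuotientGroup.mk'_surjective _)
  have hle : H.map π ≤ K.map π := Subgroup.map_mono hHK
  have h1 : ((H.map π).subgroupOf (K.map π)).IsSubnormal := hHsub.subgroupOf
  rcases Cfsg.Agent.S1259.result hK.2.1.2 _ h1 with h | h
  · left
    apply hK.2.2 H hH hHK
    apply le_antisymm hle
    rw [Subgroup.subgroupOf_eq_top] at h
    exact h
  · right
    intro a ha k hk
    have h2 : (⟨π a, Subgroup.mem_map_of_mem π (hHK ha)⟩ : ↥(K.map π)) ∈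
        (H.map π).subgroupOf (K.map π) := Subgroup.mem_subgroupOf.mpr (Subgroup.mem_map_of_mem π ha)
    have h3 := Subgroup.mem_center_iff.mp (h h2) ⟨π k, Subgroup.mem_map_of_mem π hk⟩
    exact (congrArg Subtype.val h3).symm

/-- a `p`-component is perfect -/
theorem pc_perfect {K : Subgroup X} (hK : Cfsg.IsPComponent p K) : ⁅K, K⁆ = K := by
  set π := QuotientGroup.mk' (Cfsg.pPrimeCore p X) with hπ
  have hle : ⁅K, K⁆ ≤ K := by
    rw [Subgroup.commutator_le]
    intro a ha b hb
    exact K.mul_mem (K.mul_mem (K.mul_mem ha hb) (K.inv_mem ha)) (K.inv_mem hb)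
  have hn : ((⁅K, K⁆ : Subgroup X).subgroupOf K).Normal :=
    Subgroup.normal_subgroupOf_of_le_normalizer
      (Cfsg.Agent.Lib.Lead_Coprime.le_normalizer_commutator_left K K)
  have hsub : (⁅K, K⁆ : Subgroup X).IsSubnormal :=
    Subgroup.IsSubnormal.trans hle hn.isSubnormal hK.1
  apply hK.2.2 _ hsub hle
  rw [Subgroup.map_commutator]
  haveI : Group.IsPerfect ↥(K.map π) := hK.2.1.2.1
  exact Subgroup.isPerfect_iff.mp inferInstance

/-- a `p`-component is not contained in `O_{p'}` -/
theorem pc_not_le {K : Subgroup X} (hK : Cfsg.IsPComponent p K) : ¬ K ≤ Cfsg.pPrimeCore p X := by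
  intro h
  have h1 : K.map (QuotientGroup.mk' (Cfsg.pPrimeCore p X)) = ⊥ := by
    rw [eq_bot_iff]
    rintro _ ⟨k, hk, rfl⟩
    rw [Subgroup.mem_bot]
    exact (QuotientGroup.eq_one_iff k).mpr (h hk)
  haveI := quasisimple_nontrivial hK.2.1.2
  exact (Subgroup.nontrivial_iff_ne_bot _).mp inferInstance h1

/-- the order of a `p`-component is divisible by `p` -/
theorem pc_dvd_card {K : Subgroup X} (hK : Cfsg.IsPComponent p K) : p ∣ Nat.card ↥K := by
  by_contra hnd
  exact pc_not_le p hK (subnormal_coprime_le_pPrimeCore p K hK.1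
    ((Nat.Prime.coprime_iff_not_dvd hp.out).mpr hnd).symm)

/-- a subgroup of `O_{p'}(X)` has order prime to `p` -/
theorem coprime_of_le_pPrimeCore {H : Subgroup X} (h : H ≤ Cfsg.pPrimeCore p X) :
    (Nat.card ↥H).Coprime p :=
  Nat.Coprime.coprime_dvd_left (Subgroup.card_dvd_of_le h)
    (Cfsg.Agent.Lib.Helper5_PPrime.pPrimeCore_coprime p X)

/-- in the central case of the dichotomy, a perfect `H` lies in `O_{p'}(X)` -/
theorem le_core_of_central_perfect {K H : Subgroup X} (hH : ⁅H, H⁆ = H)
    (hc : ∀ a ∈ H, ∀ k ∈ K, QuotientGroup.mk' (Cfsg.pPrimeCore p X) a *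
      QuotientGroup.mk' (Cfsg.pPrimeCore p X) k = QuotientGroup.mk' (Cfsg.pPrimeCore p X) k *
      QuotientGroup.mk' (Cfsg.pPrimeCore p X) a) (hHK : H ≤ K) : H ≤ Cfsg.pPrimeCore p X := by
  set π := QuotientGroup.mk' (Cfsg.pPrimeCore p X) with hπ
  have h1 : ⁅H.map π, H.map π⁆ = ⊥ := by
    rw [Subgroup.commutator_eq_bot_iff_le_centralizer]
    rintro _ ⟨a, ha, rfl⟩
    rw [Subgroup.mem_centralizer_iff]
    rintro _ ⟨b, hb, rfl⟩
    exact (hc a ha b (hHK hb)).symm
  have h2 : H.map π = ⊥ := by
    have h3 : (⁅H, H⁆ : Subgroup X).map π = ⁅H.map π, H.map π⁆ := Subgroup.map_commutator H H π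
    rw [hH, h1] at h3
    exact h3
  intro x hx
  have : π x ∈ H.map π := Subgroup.mem_map_of_mem π hx
  rw [h2, Subgroup.mem_bot] at this
  exact (QuotientGroup.eq_one_iff x).mp this

/-- a `p`-component has no proper normal subgroup of index prime to `p` -/
theorem pc_no_coprime_index {K : Subgroup X} (hK : Cfsg.IsPComponent p K) (N : Subgroup ↥K)
    [hN : N.Normal] (hidx : (N.index).Coprime p) : N = ⊤ := by
  set π := QuotientGroup.mk' (Cfsg.pPrimeCore p X) with hπ
  have hsub : (N.map K.subtype).IsSubnormal := hN.isSubnormal.trans' hK.1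
  have hle : N.map K.subtype ≤ K := Subgroup.map_subtype_le N
  rcases pc_dichotomy p hK _ hsub hle with h | h
  · apply Subgroup.map_injective K.subtype_injective
    rw [h, ← MonoidHom.range_eq_map, Subgroup.range_subtype]
  · exfalso
    let f : ↥K →* ↥(K.map π) := π.subgroupMap K
    have hf : Function.Surjective f := π.subgroupMap_surjective K
    have hM : N.map f ≤ Subgroup.center ↥(K.map π) := by
      rintro _ ⟨n, hn, rfl⟩
      rw [Subgroup.mem_center_iff]
      intro y
      obtain ⟨k, rfl⟩ := hf y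
      apply Subtype.ext
      show π (k : X) * π (n : X) = π (n : X) * π (k : X)
      exact (h (n : X) ⟨n, hn, rfl⟩ (k : X) k.2).symm
    have hO := Cfsg.Agent.S1958.pPrimeCore_quotient p X
    apply component_central_index p hO _ hK.2.1 (N.map f) hM
    exact Nat.Coprime.coprime_dvd_left (Subgroup.index_map_dvd N hf) hidx

end basic

/-! ### The `p'`-core of a subnormal subgroup and the quotient `K / O_{p'}(K)` -/

section core

variable {X : Type*} [Group X] [Finite X] (p : ℕ) [hp : Fact p.Prime]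

/-- for a subnormal subgroup `K`, `O_{p'}(K) = O_{p'}(X) ∩ K` (as subgroups of `K`) -/
theorem pPrimeCore_subnormal (K : Subgroup X) (hK : K.IsSubnormal) :
    Cfsg.pPrimeCore p ↥K = (Cfsg.pPrimeCore p X).subgroupOf K := by
  apply le_antisymm
  · have hn : (Cfsg.pPrimeCore p ↥K).Normal := Cfsg.pPrimeCore_normal p ↥K
    have hsub : ((Cfsg.pPrimeCore p ↥K).map K.subtype).IsSubnormal := hn.isSubnormal.trans' hK
    have hc : (Nat.card ↥((Cfsg.pPrimeCore p ↥K).map K.subtype)).Coprime p := by
      rw [← Nat.card_congr ((Cfsg.pPrimeCore p ↥K).equivMapOfInjective _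
        K.subtype_injective).toEquiv]
      exact Cfsg.Agent.Lib.Helper5_PPrime.pPrimeCore_coprime p ↥K
    have h1 := subnormal_coprime_le_pPrimeCore p _ hsub hc
    intro x hx
    rw [Subgroup.mem_subgroupOf]
    exact h1 ⟨x, hx, rfl⟩
  · apply le_sSup
    refine ⟨inferInstance, ?_⟩
    have hle : Cfsg.pPrimeCore p X ⊓ K ≤ Cfsg.pPrimeCore p X := inf_le_left
    rw [← Subgroup.inf_subgroupOf_right,
      Nat.card_congr (Subgroup.subgroupOfEquivOfLe (inf_le_right : Cfsg.pPrimeCore p X ⊓ K ≤ K)).toEquiv]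
    exact coprime_of_le_pPrimeCore p hle

/-- `K / O_{p'}(K)` is isomorphic to the image of `K` in `X / O_{p'}(X)`, for `K` subnormal -/
noncomputable def quotientCoreEquiv (K : Subgroup X) (hK : K.IsSubnormal) :
    ↥K ⧸ Cfsg.pPrimeCore p ↥K ≃* ↥(K.map (QuotientGroup.mk' (Cfsg.pPrimeCore p X))) :=
  let f : ↥K →* ↥(K.map (QuotientGroup.mk' (Cfsg.pPrimeCore p X))) :=
    (QuotientGroup.mk' (Cfsg.pPrimeCore p X)).subgroupMap K
  have hf : Function.Surjective f := (QuotientGroup.mk' (Cfsg.pPrimeCore p X)).subgroupMap_surjective K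
  have hker : Cfsg.pPrimeCore p ↥K = f.ker := by
    rw [pPrimeCore_subnormal p K hK]
    ext x
    rw [Subgroup.mem_subgroupOf, MonoidHom.mem_ker]
    constructor
    · intro hx
      apply Subtype.ext
      exact (QuotientGroup.eq_one_iff (x : X)).mpr hx
    · intro hx
      have := congrArg Subtype.val hx
      exact (QuotientGroup.eq_one_iff (x : X)).mp this
  (QuotientGroup.quotientMulEquivOfEq hker).trans (QuotientGroup.quotientKerEquivOfSurjective f hf)

/-- for a `p`-component `K`, `K / O_{p'}(K)` is quasisimple -/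
theorem pc_quotient_quasisimple {K : Subgroup X} (hK : Cfsg.IsPComponent p K) :
    Cfsg.IsQuasisimple (↥K ⧸ Cfsg.pPrimeCore p ↥K) :=
  Cfsg.Agent.S1754.quasisimple_of_equiv (quotientCoreEquiv p K hK.1).symm hK.2.1.2

end core

/-! ### Quasisimplicity of central extensions -/

/-- a perfect group whose quotient by a central subgroup is quasisimple is quasisimple -/
theorem quasisimple_of_central_quotient {A : Type*} [Group A] [hperf : Group.IsPerfect A]
    (Z0 : Subgroup A) [hZn : Z0.Normal] (hZ : Z0 ≤ Subgroup.center A)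
    (hq : Cfsg.IsQuasisimple (A ⧸ Z0)) : Cfsg.IsQuasisimple A := by
  refine ⟨hperf, ?_⟩
  set B := A ⧸ Z0 with hB
  let ψ : A →* B ⧸ Subgroup.center B :=
    (QuotientGroup.mk' (Subgroup.center B)).comp (QuotientGroup.mk' Z0)
  have hψ : Function.Surjective ψ :=
    (QuotientGroup.mk'_surjective _).comp (QuotientGroup.mk'_surjective _)
  set H := (Subgroup.center B).comap (QuotientGroup.mk' Z0) with hH
  have hker : ψ.ker = H := by
    ext a
    rw [MonoidHom.mem_ker, hH, Subgroup.mem_comap]
    show (QuotientGroup.mk' (Subgroup.center B)) (QuotientGroup.mk' Z0 a) = 1 ↔ _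
    rw [QuotientGroup.mk'_apply, QuotientGroup.eq_one_iff]
  have hHZ : ⁅H, (⊤ : Subgroup A)⁆ ≤ Z0 := by
    rw [Subgroup.commutator_le]
    intro h hh b _
    rw [← QuotientGroup.eq_one_iff]
    have e : ((⁅h, b⁆ : A) : A ⧸ Z0) = ⁅QuotientGroup.mk' Z0 h, QuotientGroup.mk' Z0 b⁆ := by
      simp [commutatorElement_def]
    rw [e, commutatorElement_eq_one_iff_mul_comm]
    rw [hH, Subgroup.mem_comap, Subgroup.mem_center_iff] at hh
    exact (hh _).symm
  have h1 : ⁅⁅H, (⊤ : Subgroup A)⁆, (⊤ : Subgroup A)⁆ = ⊥ := by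
    rw [Subgroup.commutator_eq_bot_iff_le_centralizer]
    refine (hHZ.trans hZ).trans ?_
    rw [Subgroup.coe_top, Subgroup.centralizer_univ]
  have h2 : ⁅⁅(⊤ : Subgroup A), H⁆, (⊤ : Subgroup A)⁆ = ⊥ := by
    rw [Subgroup.commutator_comm ⊤ H]; exact h1
  have h3 : ⁅⁅(⊤ : Subgroup A), (⊤ : Subgroup A)⁆, H⁆ = ⊥ :=
    Subgroup.commutator_commutator_eq_bot_of_rotate h2 h1
  have htop : ⁅(⊤ : Subgroup A), (⊤ : Subgroup A)⁆ = ⊤ := by
    have := (Group.isPerfect_def (G := A)).mp hperf
    exact this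
  rw [htop] at h3
  have hHc : H = Subgroup.center A := by
    apply le_antisymm
    · rw [Subgroup.commutator_comm, Subgroup.commutator_eq_bot_iff_le_centralizer,
        Subgroup.coe_top, Subgroup.centralizer_univ] at h3
      exact h3
    · intro a ha
      rw [hH, Subgroup.mem_comap, Subgroup.mem_center_iff]
      intro y
      obtain ⟨b, rfl⟩ := QuotientGroup.mk'_surjective Z0 y
      rw [← map_mul, ← map_mul, Subgroup.mem_center_iff.mp ha b]
  have e1 : A ⧸ Subgroup.center A ≃* A ⧸ ψ.ker :=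
    QuotientGroup.quotientMulEquivOfEq (by rw [hker, hHc])
  have e2 : A ⧸ ψ.ker ≃* B ⧸ Subgroup.center B := QuotientGroup.quotientKerEquivOfSurjective ψ hψ
  haveI := hq.2
  exact (e1.trans e2).isSimpleGroup

end Cfsg.Agent.Lib.Helper3_PComp
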