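import Mathlib
import Cfsg.Prelude.Def_Local
import Cfsg.Agent.Lib.Helper3_PComp
import Cfsg.Agent.S1960

/-! `p`-components as `O^{p'}` of a preimage; uniqueness, existence, normalizers (helper3). -/

set_option autoImplicit false

namespace Cfsg.Agent.Lib.Helper3_PComp2

open Cfsg Cfsg.Agent.Lib.Helper3_Components Cfsg.Agent.Lib.Helper3_PComp
open scoped commutatorElement

/-- the subgroup generated by the `p`-elements of `H` -/
def pGen (p : ℕ) {X : Type*} [Group X] (H : Subgroup X) : Subgroup X :=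
  Subgroup.closure {x | x ∈ H ∧ ∃ k : ℕ, x ^ (p ^ k) = 1}

section pgen
variable {X : Type*} [Group X] (p : ℕ)

theorem pGen_le (H : Subgroup X) : pGen p H ≤ H := by
  unfold pGen
  rw [Subgroup.closure_le]
  intro x hx
  exact hx.1

theorem pGen_mono {H H' : Subgroup X} (h : H ≤ H') : pGen p H ≤ pGen p H' := by
  unfold pGen
  apply Subgroup.closure_mono
  intro x hx
  exact ⟨h hx.1, hx.2⟩

theorem pGen_map_conj (H : Subgroup X) (g : X) :
    (pGen p H).map (MulAut.conj g).toMonoidHom = pGen p (H.map (MulAut.conj g).toMonoidHom) := by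
  unfold pGen
  rw [MonoidHom.map_closure]
  congr 1
  ext y
  constructor
  · rintro ⟨x, ⟨hx, k, hk⟩, rfl⟩
    refine ⟨⟨x, hx, rfl⟩, k, ?_⟩
    rw [← map_pow, hk, map_one]
  · rintro ⟨⟨x, hx, rfl⟩, k, hk⟩
    refine ⟨x, ⟨hx, k, ?_⟩, rfl⟩
    rw [← map_pow] at hk
    have : (MulAut.conj g).toMonoidHom (x ^ p ^ k) = (MulAut.conj g).toMonoidHom 1 := by
      rw [hk, map_one]
    exact (MulAut.conj g).injective this

/-- `H` normalizes `pGen p H` -/
theorem le_normalizer_pGen [Finite X] (H : Subgroup X) :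
    H ≤ Subgroup.normalizer ((pGen p H : Subgroup X) : Set X) := by
  intro h hh
  apply Cfsg.Agent.S1960.mem_normalizer_of_conj_le'
  intro a ha
  have h1 : (MulAut.conj h).toMonoidHom a ∈ (pGen p H).map (MulAut.conj h).toMonoidHom :=
    Subgroup.mem_map_of_mem _ ha
  rw [pGen_map_conj] at h1
  have h2 : H.map (MulAut.conj h).toMonoidHom ≤ H := by
    rintro _ ⟨y, hy, rfl⟩
    exact H.mul_mem (H.mul_mem hh hy) (H.inv_mem hh)
  exact pGen_mono p h2 h1

/-- the index of `pGen p H` in `H` is prime to `p` -/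
theorem pGen_index_coprime [Finite X] [hp : Fact p.Prime] (H : Subgroup X) :
    (((pGen p H).subgroupOf H).index).Coprime p := by
  obtain ⟨P⟩ : Nonempty (Sylow p ↥H) := inferInstance
  have hle : (P : Subgroup ↥H) ≤ (pGen p H).subgroupOf H := by
    intro x hx
    rw [Subgroup.mem_subgroupOf]
    obtain ⟨k, hk⟩ := P.isPGroup' ⟨x, hx⟩
    apply Subgroup.subset_closure
    refine ⟨x.2, k, ?_⟩
    have := congrArg Subtype.val (congrArg Subtype.val hk)
    simpa using this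
  have h1 := Subgroup.index_dvd_of_le hle
  have h2 : ¬ p ∣ (P : Subgroup ↥H).index := P.not_dvd_index
  apply Nat.Coprime.symm
  rw [Nat.Prime.coprime_iff_not_dvd hp.out]
  intro hd
  exact h2 (hd.trans h1)

end pgen

section main
variable {X : Type*} [Group X] [Finite X] (p : ℕ) [hp : Fact p.Prime]

/-- a `p`-component is generated by its `p`-elements -/
theorem pc_pGen_eq {K : Subgroup X} (hK : Cfsg.IsPComponent p K) : pGen p K = K := by
  haveI hn : ((pGen p K).subgroupOf K).Normal :=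
    Subgroup.normal_subgroupOf_of_le_normalizer (le_normalizer_pGen p K)
  have h1 := pc_no_coprime_index p hK ((pGen p K).subgroupOf K) (pGen_index_coprime p K)
  rw [Subgroup.subgroupOf_eq_top] at h1
  exact le_antisymm (pGen_le p K) h1

/-- key step: a `p`-element of `K'' ∩ (K ⊔ D)` lies in any normal subgroup `H ≥ K` of `K''` -/
theorem mem_of_pElement (D : Subgroup X) [hDn : D.Normal] (hD : (Nat.card ↥D).Coprime p)
    (K H K'' : Subgroup X) (hKH : K ≤ H) (hHK : H ≤ K'') (hN : (H.subgroupOf K'').Normal)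
    (x : X) (hx : x ∈ K'') (hxM : x ∈ K ⊔ D) (k : ℕ) (hxp : x ^ (p ^ k) = 1) : x ∈ H := by
  have hn : K ≤ Subgroup.normalizer (D : Set X) := by
    rw [Subgroup.normalizer_eq_top_iff.mpr hDn]; exact le_top
  rw [sup_comm] at hxM
  obtain ⟨d, hd, c, hc, rfl⟩ :=
    Cfsg.Agent.Lib.Helper3_SupNormalizer.exists_mul_of_mem_sup D K hn hxM
  have hcK'' : c ∈ K'' := hHK (hKH hc)
  have hdK'' : d ∈ K'' := by
    have : d = (d * c) * c⁻¹ := by group
    rw [this]; exact K''.mul_mem hx (K''.inv_mem hcK'')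
  let φ := QuotientGroup.mk' (H.subgroupOf K'')
  have h1 : φ ⟨d * c, hx⟩ = φ ⟨d, hdK''⟩ := by
    have e : (⟨d * c, hx⟩ : ↥K'') = ⟨d, hdK''⟩ * ⟨c, hcK''⟩ := rfl
    rw [e, map_mul]
    have : φ ⟨c, hcK''⟩ = 1 := by
      show (QuotientGroup.mk' (H.subgroupOf K'')) _ = 1
      rw [QuotientGroup.mk'_apply, QuotientGroup.eq_one_iff, Subgroup.mem_subgroupOf]
      exact hKH hc
    rw [this, mul_one]
  have h2 : (φ ⟨d * c, hx⟩) ^ (p ^ k) = 1 := by
    rw [← map_pow]
    have : (⟨d * c, hx⟩ : ↥K'') ^ (p ^ k) = 1 := by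
      apply Subtype.ext
      simpa using hxp
    rw [this, map_one]
  have h3 : (φ ⟨d * c, hx⟩) ^ (Nat.card ↥D) = 1 := by
    rw [h1, ← map_pow]
    have : (⟨d, hdK''⟩ : ↥K'') ^ (Nat.card ↥D) = 1 := by
      apply Subtype.ext
      have h4 : (⟨d, hd⟩ : ↥D) ^ Nat.card ↥D = 1 := pow_card_eq_one'
      have h5 := congrArg Subtype.val h4
      rw [Subgroup.coe_pow, Subgroup.coe_one] at h5
      rw [Subgroup.coe_pow, Subgroup.coe_one]
      exact h5
    rw [this, map_one]
  have hcop : (p ^ k).Coprime (Nat.card ↥D) := Nat.Coprime.pow_left k hD.symm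
  have h6 : orderOf (φ ⟨d * c, hx⟩) ∣ 1 := by
    rw [← Nat.Coprime.gcd_eq_one hcop]
    exact Nat.dvd_gcd (orderOf_dvd_of_pow_eq_one h2) (orderOf_dvd_of_pow_eq_one h3)
  have h7 : φ ⟨d * c, hx⟩ = 1 := orderOf_eq_one_iff.mp (Nat.dvd_one.mp h6)
  have h8 : (⟨d * c, hx⟩ : ↥K'') ∈ H.subgroupOf K'' := by
    rw [← QuotientGroup.eq_one_iff]; exact h7
  exact Subgroup.mem_subgroupOf.mp h8

/-- for subnormal `K' ≥ K` and a normal `p'`-subgroup `D`: `O^{p'}(K' ∩ KD) = O^{p'}(KD)` -/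
theorem pGen_inf_eq (D : Subgroup X) [hDn : D.Normal] (hD : (Nat.card ↥D).Coprime p)
    (K : Subgroup X) : ∀ K' : Subgroup X, K'.IsSubnormal → K ≤ K' →
      pGen p (K' ⊓ (K ⊔ D)) = pGen p (K ⊔ D) := by
  intro K' hK'
  induction hK' with
  | top => intro _; rw [top_inf_eq]
  | step H K'' hle hsub hN ih =>
    intro hKH
    rw [← ih (hKH.trans hle)]
    apply le_antisymm (pGen_mono p (inf_le_inf_right _ hle))
    unfold pGen
    rw [Subgroup.closure_le]
    rintro x ⟨⟨hx1, hx2⟩, k, hk⟩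
    apply Subgroup.subset_closure
    exact ⟨⟨mem_of_pElement p D hD K H K'' hKH hle hN x hx1 hx2 k hk, hx2⟩, k, hk⟩

/-- a `p`-component is `O^{p'}` of the full preimage of its image -/
theorem pc_eq {K : Subgroup X} (hK : Cfsg.IsPComponent p K) :
    K = pGen p ((K.map (QuotientGroup.mk' (Cfsg.pPrimeCore p X))).comap
      (QuotientGroup.mk' (Cfsg.pPrimeCore p X))) := by
  rw [Subgroup.comap_map_eq, QuotientGroup.ker_mk']
  have h1 := pGen_inf_eq p (Cfsg.pPrimeCore p X)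
    (Cfsg.Agent.Lib.Helper5_PPrime.pPrimeCore_coprime p X) K K hK.1 le_rfl
  rw [inf_eq_left.mpr (le_sup_left : K ≤ K ⊔ Cfsg.pPrimeCore p X), pc_pGen_eq p hK] at h1
  exact h1

/-- a `p`-component is determined by its image -/
theorem pc_unique {K L : Subgroup X} (hK : Cfsg.IsPComponent p K) (hL : Cfsg.IsPComponent p L)
    (h : K.map (QuotientGroup.mk' (Cfsg.pPrimeCore p X)) =
      L.map (QuotientGroup.mk' (Cfsg.pPrimeCore p X))) : K = L := by
  rw [pc_eq p hK, pc_eq p hL, h]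

/-- every component of `X / O_{p'}(X)` is the image of a `p`-component -/
theorem pc_exists (Kbar : Subgroup (X ⧸ Cfsg.pPrimeCore p X)) (hKbar : Cfsg.IsComponent Kbar) :
    ∃ K : Subgroup X, Cfsg.IsPComponent p K ∧
      K.map (QuotientGroup.mk' (Cfsg.pPrimeCore p X)) = Kbar := by
  classical
  set π := QuotientGroup.mk' (Cfsg.pPrimeCore p X) with hπ
  set 𝒮 : Set (Subgroup X) := {H | H.IsSubnormal ∧ H.map π = Kbar} with h𝒮
  have hne : ∃ H, H ∈ 𝒮 :=
    ⟨Kbar.comap π, hKbar.1.comap π, Subgroup.map_comap_eq_self_of_surjective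
      (QuotientGroup.mk'_surjective _) Kbar⟩
  obtain ⟨K, hKmin⟩ := (Set.toFinite 𝒮).exists_minimal hne
  refine ⟨K, ⟨hKmin.1.1, ?_, ?_⟩, hKmin.1.2⟩
  · rw [hKmin.1.2]; exact hKbar
  · intro H hH hHK hHim
    have hH𝒮 : H ∈ 𝒮 := ⟨hH, hHim.trans hKmin.1.2⟩
    exact le_antisymm hHK (hKmin.2 hH𝒮 hHK)

end main

end Cfsg.Agent.Lib.Helper3_PComp2
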