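import Mathlib
import Cfsg.Prelude.Def_Local
import Cfsg.Agent.Lib.Helper3_PComp2

/-! Normalizers and commutators of `p`-components (helper3). -/

set_option autoImplicit false

namespace Cfsg.Agent.Lib.Helper3_PComp3

open Cfsg Cfsg.Agent.Lib.Helper3_Components Cfsg.Agent.Lib.Helper3_PComp
  Cfsg.Agent.Lib.Helper3_PComp2
open scoped commutatorElement

universe u

variable {X : Type u} [Group X] [Finite X] (p : ℕ) [hp : Fact p.Prime]

/-- an element whose image normalizes the image of a `p`-component normalizes it -/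
theorem pc_mem_normalizer {K : Subgroup X} (hK : Cfsg.IsPComponent p K) (g : X)
    (hg : ∀ y ∈ K.map (QuotientGroup.mk' (Cfsg.pPrimeCore p X)),
      QuotientGroup.mk' (Cfsg.pPrimeCore p X) g * y * (QuotientGroup.mk' (Cfsg.pPrimeCore p X) g)⁻¹
        ∈ K.map (QuotientGroup.mk' (Cfsg.pPrimeCore p X))) :
    g ∈ Subgroup.normalizer (K : Set X) := by
  set π := QuotientGroup.mk' (Cfsg.pPrimeCore p X) with hπ
  set M := (K.map π).comap π with hM
  apply Cfsg.Agent.S1960.mem_normalizer_of_conj_le'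
  intro a ha
  have hKeq : K = pGen p M := pc_eq p hK
  have h1 : (MulAut.conj g).toMonoidHom a ∈ (pGen p M).map (MulAut.conj g).toMonoidHom := by
    apply Subgroup.mem_map_of_mem
    rw [← hKeq]; exact ha
  rw [pGen_map_conj] at h1
  have h2 : M.map (MulAut.conj g).toMonoidHom ≤ M := by
    rintro _ ⟨m, hm, rfl⟩
    replace hm : π m ∈ K.map π := hm
    show π ((MulAut.conj g).toMonoidHom m) ∈ K.map π
    have e : π ((MulAut.conj g).toMonoidHom m) = π g * π m * (π g)⁻¹ := by
      show π (g * m * g⁻¹) = _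
      rw [map_mul, map_mul, map_inv]
    rw [e]
    exact hg _ hm
  have h3 := pGen_mono p h2 h1
  rw [← hKeq] at h3
  exact h3

/-- distinct `p`-components have commuting images -/
theorem pc_images_commute {K L : Subgroup X} (hK : Cfsg.IsPComponent p K)
    (hL : Cfsg.IsPComponent p L) (hne : K ≠ L) :
    ⁅K.map (QuotientGroup.mk' (Cfsg.pPrimeCore p X)),
      L.map (QuotientGroup.mk' (Cfsg.pPrimeCore p X))⁆ = ⊥ := by
  apply components_commute _ _ hK.2.1 hL.2.1
  intro h
  exact hne (pc_unique p hK hL h)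

/-- distinct `p`-components normalize each other -/
theorem pc_normalizes {K L : Subgroup X} (hK : Cfsg.IsPComponent p K)
    (hL : Cfsg.IsPComponent p L) (hne : K ≠ L) : L ≤ Subgroup.normalizer (K : Set X) := by
  intro l hl
  apply pc_mem_normalizer p hK
  intro y hy
  have h1 := pc_images_commute p hK hL hne
  have h2 : y * QuotientGroup.mk' (Cfsg.pPrimeCore p X) l
      = QuotientGroup.mk' (Cfsg.pPrimeCore p X) l * y :=
    commute_of_commutator_eq_bot h1 hy (Subgroup.mem_map_of_mem _ hl)
  have e : QuotientGroup.mk' (Cfsg.pPrimeCore p X) l * y *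
      (QuotientGroup.mk' (Cfsg.pPrimeCore p X) l)⁻¹ = y := by
    rw [← h2]; group
  rw [e]; exact hy

/-- `[K, L] ≤ K ∩ O_{p'}(X)` for distinct `p`-components -/
theorem pc_commutator_le {K L : Subgroup X} (hK : Cfsg.IsPComponent p K)
    (hL : Cfsg.IsPComponent p L) (hne : K ≠ L) : ⁅K, L⁆ ≤ K ⊓ Cfsg.pPrimeCore p X := by
  apply le_inf
  · exact Cfsg.Agent.Lib.Lead_Coprime.commutator_le_of_le_normalizer K L (pc_normalizes p hK hL hne)
  · have h1 := pc_images_commute p hK hL hne
    rw [← Subgroup.map_commutator] at h1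
    intro x hx
    have : QuotientGroup.mk' (Cfsg.pPrimeCore p X) x ∈
        (⁅K, L⁆ : Subgroup X).map (QuotientGroup.mk' (Cfsg.pPrimeCore p X)) :=
      Subgroup.mem_map_of_mem _ hx
    rw [h1, Subgroup.mem_bot] at this
    exact (QuotientGroup.eq_one_iff x).mp this

/-- `K ∩ O_{p'}(X)` is `O_{p'}(K)` viewed in `X`, for `K` subnormal -/
theorem inf_core_eq (K : Subgroup X) (hK : K.IsSubnormal) :
    K ⊓ Cfsg.pPrimeCore p X = (Cfsg.pPrimeCore p ↥K).map K.subtype := by
  rw [pPrimeCore_subnormal p K hK, Subgroup.subgroupOf_map_subtype, inf_comm]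

end Cfsg.Agent.Lib.Helper3_PComp3
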