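import Mathlib
import Cfsg.Prelude.Def_Local
import Cfsg.Agent.Lib.Helper3_PComp3

/-! Components versus `p`-components (helper3). -/

set_option autoImplicit false

namespace Cfsg.Agent.Lib.Helper3_PComp4

open Cfsg Cfsg.Agent.Lib.Helper3_Components Cfsg.Agent.Lib.Helper3_PComp
  Cfsg.Agent.Lib.Helper3_PComp2 Cfsg.Agent.Lib.Helper3_PComp3
open scoped commutatorElement

universe u

/-- for a perfect group `A` and a central subgroup `Z0`, the preimage of `Z(A / Z0)` is `Z(A)` -/
theorem center_comap_of_perfect {A : Type*} [Group A] [hperf : Group.IsPerfect A]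
    (Z0 : Subgroup A) [hZn : Z0.Normal] (hZ : Z0 ≤ Subgroup.center A) :
    (Subgroup.center (A ⧸ Z0)).comap (QuotientGroup.mk' Z0) = Subgroup.center A := by
  set H := (Subgroup.center (A ⧸ Z0)).comap (QuotientGroup.mk' Z0) with hH
  have hHZ : ⁅H, (⊤ : Subgroup A)⁆ ≤ Z0 := by
    rw [Subgroup.commutator_le]
    intro h hh b _
    rw [← QuotientGroup.eq_one_iff]
    have e : ((⁅h, b⁆ : A) : A ⧸ Z0) = ⁅QuotientGroup.mk' Z0 h, QuotientGroup.mk' Z0 b⁆ := by
      simp [commutatorElement_def]
    rw [e, commutatorElement_eq_one_iff_mul_comm]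
    rw [hH, Subgroup.mem_comap, Subgroup.mem_center_iff] at hh
    exact (hh _).symm
  have h1 : ⁅⁅H, (⊤ : Subgroup A)⁆, (⊤ : Subgroup A)⁆ = ⊥ := by
    rw [Subgroup.commutator_eq_bot_iff_le_centralizer]
    refine (hHZ.trans hZ).trans ?_
    rw [Subgroup.coe_top, Subgroup.centralizer_univ]
  have h2 : ⁅⁅(⊤ : Subgroup A), H⁆, (⊤ : Subgroup A)⁆ = ⊥ := by
    rw [Subgroup.commutator_comm ⊤ H]; exact h1
  have h3 : ⁅⁅(⊤ : Subgroup A), (⊤ : Subgroup A)⁆, H⁆ = ⊥ :=
    Subgroup.commutator_commutator_eq_bot_of_rotate h2 h1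
  have htop : ⁅(⊤ : Subgroup A), (⊤ : Subgroup A)⁆ = ⊤ := (Group.isPerfect_def (G := A)).mp hperf
  rw [htop] at h3
  apply le_antisymm
  · rw [Subgroup.commutator_comm, Subgroup.commutator_eq_bot_iff_le_centralizer,
      Subgroup.coe_top, Subgroup.centralizer_univ] at h3
    exact h3
  · intro a ha
    rw [hH, Subgroup.mem_comap, Subgroup.mem_center_iff]
    intro y
    obtain ⟨b, rfl⟩ := QuotientGroup.mk'_surjective Z0 y
    rw [← map_mul, ← map_mul, Subgroup.mem_center_iff.mp ha b]

/-- the quotient of a quasisimple group by a central subgroup is quasisimple -/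
theorem quasisimple_quotient_central {A : Type*} [Group A] (hq : Cfsg.IsQuasisimple A)
    (Z0 : Subgroup A) [hZn : Z0.Normal] (hZ : Z0 ≤ Subgroup.center A) :
    Cfsg.IsQuasisimple (A ⧸ Z0) := by
  haveI := hq.1
  refine ⟨inferInstance, ?_⟩
  set B := A ⧸ Z0 with hB
  let ψ : A →* B ⧸ Subgroup.center B :=
    (QuotientGroup.mk' (Subgroup.center B)).comp (QuotientGroup.mk' Z0)
  have hψ : Function.Surjective ψ :=
    (QuotientGroup.mk'_surjective _).comp (QuotientGroup.mk'_surjective _)
  have hker : ψ.ker = Subgroup.center A := by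
    rw [← center_comap_of_perfect Z0 hZ]
    ext a
    rw [MonoidHom.mem_ker, Subgroup.mem_comap]
    show (QuotientGroup.mk' (Subgroup.center B)) (QuotientGroup.mk' Z0 a) = 1 ↔ _
    rw [QuotientGroup.mk'_apply, QuotientGroup.eq_one_iff]
  have e1 : A ⧸ Subgroup.center A ≃* A ⧸ ψ.ker :=
    QuotientGroup.quotientMulEquivOfEq hker.symm
  have e2 : A ⧸ ψ.ker ≃* B ⧸ Subgroup.center B := QuotientGroup.quotientKerEquivOfSurjective ψ hψ
  haveI := hq.2
  exact (e1.trans e2).symm.isSimpleGroup

section comp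
variable {X : Type u} [Group X] [Finite X] (p : ℕ) [hp : Fact p.Prime]

/-- the image in `X / O_{p'}(X)` of a component not contained in `O_{p'}(X)` is a component -/
theorem component_map_core {L : Subgroup X} (hL : Cfsg.IsComponent L)
    (hLD : ¬ L ≤ Cfsg.pPrimeCore p X) :
    Cfsg.IsComponent (L.map (QuotientGroup.mk' (Cfsg.pPrimeCore p X))) := by
  set π := QuotientGroup.mk' (Cfsg.pPrimeCore p X) with hπ
  refine ⟨hL.1.map (QuotientGroup.mk'_surjective _), ?_⟩
  let f : ↥L →* ↥(L.map π) := π.subgroupMap L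
  have hf : Function.Surjective f := π.subgroupMap_surjective L
  have hker : f.ker = (Cfsg.pPrimeCore p X).subgroupOf L := by
    ext x
    rw [Subgroup.mem_subgroupOf, MonoidHom.mem_ker]
    constructor
    · intro hx
      have := congrArg Subtype.val hx
      exact (QuotientGroup.eq_one_iff (x : X)).mp this
    · intro hx
      apply Subtype.ext
      exact (QuotientGroup.eq_one_iff (x : X)).mpr hx
  have hcent : f.ker ≤ Subgroup.center ↥L := by
    rcases Cfsg.Agent.S1259.result hL.2 f.ker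
      (inferInstance : f.ker.Normal).isSubnormal with h | h
    · exfalso
      apply hLD
      intro l hl
      have : (⟨l, hl⟩ : ↥L) ∈ f.ker := by rw [h]; trivial
      rw [hker, Subgroup.mem_subgroupOf] at this
      exact this
    · exact h
  have h1 := quasisimple_quotient_central hL.2 f.ker hcent
  exact Cfsg.Agent.S1754.quasisimple_of_equiv (QuotientGroup.quotientKerEquivOfSurjective f hf) h1

/-- a component not contained in `O_{p'}(X)` is a `p`-component -/
theorem component_isPComponent {L : Subgroup X} (hL : Cfsg.IsComponent L)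
    (hLD : ¬ L ≤ Cfsg.pPrimeCore p X) : Cfsg.IsPComponent p L := by
  set π := QuotientGroup.mk' (Cfsg.pPrimeCore p X) with hπ
  have hLbar := component_map_core p hL hLD
  refine ⟨hL.1, hLbar, ?_⟩
  intro H hH hHL him
  rcases Cfsg.Agent.S1259.result hL.2 (H.subgroupOf L) hH.subgroupOf with h | h
  · rw [Subgroup.subgroupOf_eq_top] at h
    exact le_antisymm hHL h
  · exfalso
    apply component_not_le_center _ hLbar
    intro y _
    rw [Subgroup.mem_center_iff]
    intro z
    have hy : (y : X ⧸ Cfsg.pPrimeCore p X) ∈ H.map π := by rw [him]; exact y.2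
    have hz : (z : X ⧸ Cfsg.pPrimeCore p X) ∈ H.map π := by rw [him]; exact z.2
    obtain ⟨a, ha, hay⟩ := hy
    obtain ⟨b, hb, hbz⟩ := hz
    have hab : (⟨b, hHL hb⟩ : ↥L) * ⟨a, hHL ha⟩ = ⟨a, hHL ha⟩ * ⟨b, hHL hb⟩ :=
      Subgroup.mem_center_iff.mp (h (Subgroup.mem_subgroupOf.mpr ha)) ⟨b, hHL hb⟩
    have hab' : b * a = a * b := congrArg Subtype.val hab
    apply Subtype.ext
    show (z : X ⧸ Cfsg.pPrimeCore p X) * y = y * z
    rw [← hay, ← hbz, ← map_mul, ← map_mul, hab']

end comp

end Cfsg.Agent.Lib.Helper3_PComp4
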