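import Mathlib
import Cfsg.Prelude.Def_Balance
import Cfsg.Agent.Lib.Helper3_PComp4
import Cfsg.Agent.Lib.Helper5_Residual
import Cfsg.Agent.S1265
import Cfsg.Agent.S1958

/-! Sylow subgroups of subnormal subgroups; the extended 2-layer (helper3). -/

set_option autoImplicit false

namespace Cfsg.Agent.Lib.Helper3_LStar

open Cfsg Cfsg.Agent.Lib.Helper3_Components Cfsg.Agent.Lib.Helper3_PComp
  Cfsg.Agent.Lib.Helper3_PComp2 Cfsg.Agent.Lib.Helper3_PComp3 Cfsg.Agent.Lib.Helper3_PComp4

universe u

/-- a Sylow `p`-subgroup meets a subnormal subgroup in a subgroup of index prime to `p` -/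
theorem not_dvd_relIndex_of_subnormal {G : Type u} [Group G] [Finite G] {p : ℕ} [Fact p.Prime]
    (P : Sylow p G) (H : Subgroup G) (hH : H.IsSubnormal) : ¬ p ∣ (P : Subgroup G).relIndex H := by
  induction hH with
  | top => rw [Subgroup.relIndex_top_right]; exact P.not_dvd_index
  | step H K' hle hsub hN ih =>
    let P1 : Sylow p ↥K' := IsPGroup.toSylow (P := (P : Subgroup G).subgroupOf K')
      (IsPGroup.comap_subtype P.isPGroup' (K := K')) ih
    have h1 := Cfsg.Agent.Lib.Helper5_Residual.not_dvd_relIndex_of_normal P1 (H.subgroupOf K')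
    have h2 : ((P1 : Sylow p ↥K') : Subgroup ↥K') = (P : Subgroup G).subgroupOf K' := rfl
    rw [h2, Subgroup.relIndex_subgroupOf hle] at h1
    exact h1

/-- an element centralizing a Sylow `p`-subgroup of a subgroup `N` normalizes every `p`-component
contained in `N` -/
theorem centralizer_sylow_le_normalizer_pc {X : Type u} [Group X] [Finite X] (p : ℕ)
    [hp : Fact p.Prime] {K : Subgroup X} (hK : Cfsg.IsPComponent p K) (N : Subgroup X) (hKN : K ≤ N)
    (T : Sylow p ↥N) (w : X)
    (hw : w ∈ Subgroup.centralizer (((T : Subgroup ↥N).map N.subtype : Subgroup X) : Set X)) :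
    w ∈ Subgroup.normalizer (K : Set X) := by
  classical
  set π := QuotientGroup.mk' (Cfsg.pPrimeCore p X) with hπ
  set T' := (T : Subgroup ↥N).map N.subtype with hT'
  have hKbar := hK.2.1
  apply pc_mem_normalizer p hK
  intro y hy
  set c := π w with hc
  by_cases h : (K.map π).map (MulAut.conj c).toMonoidHom = K.map π
  · rw [← h]
    exact ⟨y, hy, rfl⟩
  · exfalso
    have hKc := Cfsg.Agent.S1265.component_conj (K.map π) hKbar c
    have hcomm := components_commute _ _ hKc hKbar h
    -- index of T' ∩ K in K
    have hidx : ¬ p ∣ T'.relIndex K := by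
      have h1 := not_dvd_relIndex_of_subnormal T (K.subgroupOf N) hK.1.subgroupOf
      have h2 : (T : Subgroup ↥N) = T'.subgroupOf N := by
        rw [hT']
        unfold Subgroup.subgroupOf
        exact (Subgroup.comap_map_eq_self_of_injective N.subtype_injective _).symm
      rw [h2, Subgroup.relIndex_subgroupOf hKN] at h1
      exact h1
    let f : ↥K →* ↥(K.map π) := π.subgroupMap K
    have hf : Function.Surjective f := π.subgroupMap_surjective K
    set A := (T' ⊓ K).subgroupOf K with hA
    have hM : A.map f ≤ Subgroup.center ↥(K.map π) := by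
      rintro _ ⟨z, hz, rfl⟩
      rw [Subgroup.mem_center_iff]
      intro v
      apply Subtype.ext
      show (v : X ⧸ Cfsg.pPrimeCore p X) * π (z : X) = π (z : X) * v
      have hzT : (z : X) ∈ T' := (Subgroup.mem_subgroupOf.mp hz).1
      have hwz : (z : X) * w = w * (z : X) := Subgroup.mem_centralizer_iff.mp hw _ hzT
      have hzc : π (z : X) ∈ (K.map π).map (MulAut.conj c).toMonoidHom := by
        refine ⟨π (z : X), Subgroup.mem_map_of_mem π z.2, ?_⟩
        show c * π (z : X) * c⁻¹ = π (z : X)
        rw [hc, ← map_mul, ← hwz, map_mul]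
        group
      exact (commute_of_commutator_eq_bot hcomm hzc v.2).symm
    have hO := Cfsg.Agent.S1958.pPrimeCore_quotient p X
    apply component_central_index p hO _ hKbar (A.map f) hM
    have h3 : A.index = T'.relIndex K := by
      rw [hA, ← Subgroup.relIndex, Subgroup.inf_relIndex_right]
    have h4 : (A.index).Coprime p := by
      rw [h3]
      exact ((Nat.Prime.coprime_iff_not_dvd hp.out).mpr hidx).symm
    exact Nat.Coprime.coprime_dvd_left (Subgroup.index_map_dvd A hf) h4

end Cfsg.Agent.Lib.Helper3_LStar
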