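import Mathlib
import Cfsg.Prelude.Def_PLocal

namespace Cfsg.Agent.Lib.Helper4_Stab

open Cfsg
open scoped commutatorElement

variable {H : Type*} [Group H]

/-- One step of the stability-group argument. -/
theorem stab_step [Finite H] {p : ℕ} [Fact p.Prime] (x : H) (hx : (orderOf x).Coprime p)
    (B B' : Subgroup H) (hB : ∀ r ∈ B, ⁅r, x⁆ ∈ B') (hc : ∀ z ∈ B', x * z = z * x)
    (hp : ∀ z ∈ B', ∃ k : ℕ, orderOf z = p ^ k) : ∀ r ∈ B, x * r = r * x := by
  intro r hr
  set z := ⁅r⁻¹, x⁆ with hz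
  have hzB : z ∈ B' := hB _ (inv_mem hr)
  have hconj : x * r * x⁻¹ = r * z := by
    rw [hz, commutatorElement_def]; group
  have hzc : x * z = z * x := hc z hzB
  have hk : ∀ k : ℕ, x ^ k * r * (x ^ k)⁻¹ = r * z ^ k := by
    intro k
    induction k with
    | zero => simp
    | succ k ih =>
      have hzk : x * z ^ k * x⁻¹ = z ^ k := by
        have : Commute x (z ^ k) := (show Commute x z from hzc).pow_right k
        rw [this.eq]; group
      calc x ^ (k + 1) * r * (x ^ (k + 1))⁻¹ = x * (x ^ k * r * (x ^ k)⁻¹) * x⁻¹ := by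
            rw [pow_succ']; group
        _ = x * (r * z ^ k) * x⁻¹ := by rw [ih]
        _ = (x * r * x⁻¹) * (x * z ^ k * x⁻¹) := by group
        _ = r * z * z ^ k := by rw [hconj, hzk]
        _ = r * z ^ (k + 1) := by rw [pow_succ', mul_assoc]
  have h1 := hk (orderOf x)
  rw [pow_orderOf_eq_one, one_mul, inv_one, mul_one] at h1
  have h2 : z ^ orderOf x = 1 := by
    have : r * z ^ orderOf x = r * 1 := by rw [mul_one]; exact h1.symm
    exact mul_left_cancel this
  have h3 : orderOf z ∣ orderOf x := orderOf_dvd_of_pow_eq_one h2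
  obtain ⟨j, hj⟩ := hp z hzB
  have h4 : orderOf z = 1 := by
    have hcop : (orderOf z).Coprime (orderOf x) := by
      rw [hj]
      exact Nat.Coprime.pow_left j hx.symm
    exact Nat.Coprime.eq_one_of_dvd hcop h3
  rw [orderOf_eq_one_iff] at h4
  rw [h4, mul_one] at hconj
  calc x * r = (x * r * x⁻¹) * x := by group
    _ = r * x := by rw [hconj]

/-- an element both of `p`-power order and of order prime to `p` is trivial -/
theorem eq_one_of_coprime_of_pow {p : ℕ} [Fact p.Prime] (x : H) (hx : (orderOf x).Coprime p)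
    (k : ℕ) (hk : orderOf x = p ^ k) : x = 1 := by
  rw [← orderOf_eq_one_iff]
  rcases Nat.eq_zero_or_pos k with h0 | hpos
  · rw [hk, h0, pow_zero]
  · rw [hk] at hx
    have hp : p.Prime := Fact.out
    have : p ∣ 1 := by
      have h1 : p ∣ Nat.gcd (p ^ k) p := Nat.dvd_gcd (dvd_pow_self p hpos.ne') dvd_rfl
      rwa [Nat.Coprime.gcd_eq_one hx] at h1
    exact absurd (Nat.dvd_one.mp this) hp.one_lt.ne'

/-- a finite group all of whose `p'`-elements are trivial is a `p`-group. -/
theorem isPGroup_of_pPrime_trivial [Finite H] {p : ℕ} [Fact p.Prime] (L : Subgroup H)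
    (h : ∀ x ∈ L, (orderOf x).Coprime p → x = 1) : IsPGroup p L := by
  have hp : p.Prime := Fact.out
  intro g
  -- orderOf g = p^a * m
  have hpos : 0 < orderOf (g : H) := orderOf_pos _
  obtain ⟨a, m, hm, hgm⟩ := Nat.exists_eq_pow_mul_and_not_dvd hpos.ne' p hp.ne_one
  refine ⟨a, ?_⟩
  have h1 : ((g : H) ^ (p ^ a)) ∈ L := pow_mem g.2 _
  have h2 : orderOf ((g : H) ^ (p ^ a)) = m := by
    rw [orderOf_pow' _ (pow_ne_zero a hp.ne_zero), hgm, Nat.gcd_eq_right (Dvd.intro _ rfl)]
    exact Nat.mul_div_cancel_left m (pow_pos hp.pos a)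
  have h3 : ((g : H) ^ (p ^ a)) = 1 := by
    apply h _ h1
    rw [h2]
    exact (Nat.Coprime.symm ((Nat.Prime.coprime_iff_not_dvd hp).mpr hm))
  apply Subtype.ext
  simpa using h3

end Cfsg.Agent.Lib.Helper4_Stab
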