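import Mathlib
import Cfsg.Prelude.Def_LocalStructure
import Cfsg.Agent.Lib.Helper4_Stab
import Cfsg.Agent.Lib.Helper4_PIrred

namespace Cfsg.Agent.Lib.Helper4_Coprime

open Cfsg Cfsg.Agent.Lib.Helper4_PIrred Cfsg.Agent.Lib.Helper4_Stab
open scoped commutatorElement

variable {L : Type*} [Group L]

/-- if `x ^ n ∈ C` with `n` coprime to the (positive) order of `x`, then `x ∈ C`. -/
theorem mem_of_pow_mem_of_coprime (C : Subgroup L) (x : L) (n : ℕ) (hpos : 0 < orderOf x)
    (hcop : Nat.Coprime n (orderOf x)) (h : x ^ n ∈ C) : x ∈ C := by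
  rcases Nat.lt_or_ge 1 (orderOf x) with h1 | h1
  · obtain ⟨m, -, hm⟩ := Nat.exists_mul_mod_eq_one_of_coprime hcop h1
    have : x = (x ^ n) ^ m := by
      rw [← pow_mul, ← pow_mod_orderOf, hm, pow_one]
    rw [this]
    exact pow_mem h m
  · have : orderOf x = 1 := by omega
    rw [orderOf_eq_one_iff] at this
    rw [this]; exact C.one_mem

/-- coprime action: `[V, X] ≤ [[V, X], X]` when `V` is a normal abelian `p`-subgroup and
`X` is generated by elements of order prime to `p`. -/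
theorem commutator_le_commutator_commutator [Finite L] {p : ℕ} [Fact p.Prime] (V X : Subgroup L)
    [hVn : V.Normal] (hVc : ∀ a ∈ V, ∀ b ∈ V, a * b = b * a)
    (hVp : ∀ v ∈ V, ∃ k : ℕ, v ^ (p ^ k) = 1)
    (S : Set L) (hS : ∀ x ∈ S, Nat.Coprime (orderOf x) p) (hX : X = Subgroup.closure S) :
    ⁅V, X⁆ ≤ ⁅⁅V, X⁆, X⁆ := by
  have hp : p.Prime := Fact.out
  set W₁ := ⁅V, X⁆ with hW₁
  set U := ⁅W₁, X⁆ with hU
  have hW₁V : W₁ ≤ V := by
    rw [hW₁, Subgroup.commutator_le]
    intro v hv x _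
    rw [commutatorElement_def]
    have := hVn.conj_mem v⁻¹ (inv_mem hv) x
    have e : v * x * v⁻¹ * x⁻¹ = v * (x * v⁻¹ * x⁻¹) := by group
    rw [e]; exact mul_mem hv this
  have hUW₁ : U ≤ W₁ := by
    rw [hU, Subgroup.commutator_le]
    intro w hw x hx
    rw [commutatorElement_def]
    have h1 : x * w⁻¹ * x⁻¹ ∈ W₁ :=
      commutator_conj_mem_of_normalizes V X x (fun v hv => hVn.conj_mem v hv x)
        (fun y hy => mul_mem (mul_mem hx hy) (inv_mem hx)) w⁻¹ (inv_mem hw)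
    have e : w * x * w⁻¹ * x⁻¹ = w * (x * w⁻¹ * x⁻¹) := by group
    rw [e]; exact mul_mem hw h1
  have hUV : U ≤ V := hUW₁.trans hW₁V
  -- X normalizes W₁ and U
  have hXW₁ : ∀ t ∈ X, ∀ w ∈ W₁, t * w * t⁻¹ ∈ W₁ := fun t ht =>
    commutator_conj_mem_of_normalizes V X t (fun v hv => hVn.conj_mem v hv t)
      (fun y hy => mul_mem (mul_mem ht hy) (inv_mem ht))
  have hXU : ∀ t ∈ X, ∀ u ∈ U, t * u * t⁻¹ ∈ U := fun t ht =>
    commutator_conj_mem_of_normalizes W₁ X t (hXW₁ t ht)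
      (fun y hy => mul_mem (mul_mem ht hy) (inv_mem ht))
  have hSX : S ⊆ X := by rw [hX]; exact Subgroup.subset_closure
  -- step 2
  have step2 : ∀ x ∈ S, ∀ v ∈ V, ⁅v, x⁆ ∈ U := by
    intro x hxS
    have hxX : x ∈ X := hSX hxS
    have key : ∀ v ∈ V, ⁅v⁻¹, x⁆ ∈ U := by
      intro v hv
      set z := ⁅v⁻¹, x⁆ with hz
      have hzW₁ : z ∈ W₁ := Subgroup.commutator_mem_commutator (inv_mem hv) hxX
      have hzV : z ∈ V := hW₁V hzW₁
      have hconj : x * v * x⁻¹ = v * z := by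
        rw [hz, commutatorElement_def]; group
      set u₁ := ⁅z⁻¹, x⁆ with hu₁
      have hu₁U : u₁ ∈ U := Subgroup.commutator_mem_commutator (inv_mem hzW₁) hxX
      have hconjz : x * z * x⁻¹ = z * u₁ := by
        rw [hu₁, commutatorElement_def]; group
      have hk : ∀ k : ℕ, ∃ u ∈ U, x ^ k * v * (x ^ k)⁻¹ = v * z ^ k * u := by
        intro k
        induction k with
        | zero => exact ⟨1, U.one_mem, by simp⟩
        | succ k ih =>
          obtain ⟨u, hu, h⟩ := ih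
          refine ⟨u₁ ^ k * (x * u * x⁻¹), mul_mem (pow_mem hu₁U k) (hXU x hxX u hu), ?_⟩
          have hzk : x * z ^ k * x⁻¹ = (z * u₁) ^ k := by
            rw [← hconjz, conj_pow]
          have hcomm : Commute z u₁ := hVc z hzV u₁ (hUV hu₁U)
          calc x ^ (k + 1) * v * (x ^ (k + 1))⁻¹ = x * (x ^ k * v * (x ^ k)⁻¹) * x⁻¹ := by
                rw [pow_succ']; group
            _ = x * (v * z ^ k * u) * x⁻¹ := by rw [h]
            _ = (x * v * x⁻¹) * (x * z ^ k * x⁻¹) * (x * u * x⁻¹) := by group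
            _ = (v * z) * ((z * u₁) ^ k) * (x * u * x⁻¹) := by rw [hconj, hzk]
            _ = (v * z) * (z ^ k * u₁ ^ k) * (x * u * x⁻¹) := by rw [hcomm.mul_pow]
            _ = v * z ^ (k + 1) * (u₁ ^ k * (x * u * x⁻¹)) := by rw [pow_succ']; group
      obtain ⟨u, hu, h⟩ := hk (orderOf x)
      rw [pow_orderOf_eq_one, one_mul, inv_one, mul_one] at h
      have hzk : z ^ orderOf x = u⁻¹ := by
        have h1 : v * 1 = v * (z ^ orderOf x * u) := by rw [mul_one, ← mul_assoc]; exact h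
        have h2 := mul_left_cancel h1
        rw [eq_comm, mul_eq_one_iff_eq_inv] at h2
        exact h2
      have hzU : z ^ orderOf x ∈ U := by rw [hzk]; exact inv_mem hu
      obtain ⟨a, ha⟩ := hVp z hzV
      have hoz : orderOf z ∣ p ^ a := orderOf_dvd_of_pow_eq_one ha
      have hcop : Nat.Coprime (orderOf x) (orderOf z) :=
        Nat.Coprime.coprime_dvd_right hoz (Nat.Coprime.pow_right a (hS x hxS))
      exact mem_of_pow_mem_of_coprime U z (orderOf x) (orderOf_pos z) hcop hzU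
    intro v hv
    have := key v⁻¹ (inv_mem hv)
    rwa [inv_inv] at this
  -- step 3
  let T : Subgroup L :=
    { carrier := {t | t ∈ X ∧ ∀ v ∈ V, ⁅v, t⁆ ∈ U}
      mul_mem' := by
        rintro t s ⟨htX, ht⟩ ⟨hsX, hs⟩
        refine ⟨mul_mem htX hsX, ?_⟩
        intro v hv
        have e : ⁅v, t * s⁆ = ⁅v, t⁆ * (t * ⁅v, s⁆ * t⁻¹) := by
          simp only [commutatorElement_def]; group
        rw [e]
        exact mul_mem (ht v hv) (hXU t htX _ (hs v hv))
      one_mem' := by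
        refine ⟨X.one_mem, ?_⟩
        intro v _
        rw [commutatorElement_one_right]
        exact U.one_mem
      inv_mem' := by
        rintro t ⟨htX, ht⟩
        refine ⟨inv_mem htX, ?_⟩
        intro v hv
        have e : ⁅v, t⁻¹⁆ = t⁻¹ * (⁅v, t⁆)⁻¹ * (t⁻¹)⁻¹ := by
          simp only [commutatorElement_def]; group
        rw [e]
        exact hXU _ (inv_mem htX) _ (inv_mem (ht v hv)) }
  have hXT : X ≤ T := by
    conv_lhs => rw [hX]
    rw [Subgroup.closure_le]
    intro x hx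
    exact ⟨hSX hx, step2 x hx⟩
  rw [hW₁, Subgroup.commutator_le]
  intro v hv t ht
  exact (hXT ht).2 v hv

end Cfsg.Agent.Lib.Helper4_Coprime
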