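import Mathlib
import Cfsg.Prelude.Def_LocalStructure
import Cfsg.Agent.Lib.Helper4_PIrred2

namespace Cfsg.Agent.Lib.Helper4_PReduced

open Cfsg Cfsg.Agent.Lib.Helper4_PCore Cfsg.Agent.Lib.Helper4_Minimal Cfsg.Agent.Lib.Helper4_PIrred
  Cfsg.Agent.Lib.Helper4_PIrred2
open scoped commutatorElement

variable {L : Type*} [Group L]

/-- intrinsic form of `O_p(L / C) = 1`. -/
def NoPQuot (p : ℕ) (C : Subgroup L) : Prop :=
  ∀ D : Subgroup L, D.Normal → (∀ d ∈ D, ∃ k : ℕ, d ^ (p ^ k) ∈ C) → D ≤ C

theorem pCore_quotient_eq_bot_iff {p : ℕ} [Fact p.Prime] (C : Subgroup L) [C.Normal] :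
    pCore p (L ⧸ C) = ⊥ ↔ NoPQuot p C := by
  constructor
  · intro h D hD hDp
    have h1 : D.map (QuotientGroup.mk' C) ≤ pCore p (L ⧸ C) := by
      apply le_pCore
      · exact Subgroup.Normal.map hD _ (QuotientGroup.mk'_surjective C)
      · rintro ⟨y, hy⟩
        obtain ⟨d, hd, rfl⟩ := Subgroup.mem_map.mp hy
        obtain ⟨k, hk⟩ := hDp d hd
        refine ⟨k, ?_⟩
        apply Subtype.ext
        show (QuotientGroup.mk' C d) ^ (p ^ k) = 1
        rw [← map_pow, QuotientGroup.mk'_apply, QuotientGroup.eq_one_iff]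
        exact hk
    rw [h, le_bot_iff] at h1
    intro d hd
    have h2 : QuotientGroup.mk' C d ∈ D.map (QuotientGroup.mk' C) := Subgroup.mem_map.mpr ⟨d, hd, rfl⟩
    rw [h1, Subgroup.mem_bot, QuotientGroup.mk'_apply, QuotientGroup.eq_one_iff] at h2
    exact h2
  · intro h
    have hn := pCore_normal p (L ⧸ C)
    have h1 := h ((pCore p (L ⧸ C)).comap (QuotientGroup.mk' C)) inferInstance (by
      intro d hd
      have hd' : QuotientGroup.mk' C d ∈ pCore p (L ⧸ C) := hd
      obtain ⟨k, hk⟩ := (pCore_isPGroup (G := L ⧸ C) (p := p)) ⟨_, hd'⟩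
      refine ⟨k, ?_⟩
      have hk' : (QuotientGroup.mk' C d) ^ (p ^ k) = 1 := by
        have := congrArg Subtype.val hk
        simpa using this
      rw [← map_pow, QuotientGroup.mk'_apply, QuotientGroup.eq_one_iff] at hk'
      exact hk')
    rw [eq_bot_iff]
    intro y hy
    induction y using QuotientGroup.induction_on with
    | H d =>
      rw [Subgroup.mem_bot, QuotientGroup.eq_one_iff]
      exact h1 hy

theorem isPReducedNormal_iff {p : ℕ} [Fact p.Prime] (V : Subgroup L) :
    IsPReducedNormal p V ↔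
      V.Normal ∧ IsElementaryAbelian p V ∧ NoPQuot p (Subgroup.centralizer (V : Set L)) := by
  unfold IsPReducedNormal
  constructor
  · rintro ⟨hV, hel, hn, h⟩
    exact ⟨hV, hel, (pCore_quotient_eq_bot_iff _).mp h⟩
  · rintro ⟨hV, hel, h⟩
    haveI := hV
    exact ⟨hV, hel, inferInstance, (pCore_quotient_eq_bot_iff _).mpr h⟩

theorem isPReducedNormal_bot {p : ℕ} [Fact p.Prime] : IsPReducedNormal p (⊥ : Subgroup L) := by
  rw [isPReducedNormal_iff]
  refine ⟨inferInstance, ⟨⟨⟨fun a b => ?_⟩⟩, ?_⟩, ?_⟩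
  · apply Subtype.ext
    have ha := Subgroup.mem_bot.mp a.2
    have hb := Subgroup.mem_bot.mp b.2
    show (a : L) * (b : L) = (b : L) * (a : L)
    rw [ha, hb]
  · intro a ha
    rw [Subgroup.mem_bot.mp ha, one_pow]
  · intro D _ _
    intro d _
    rw [Subgroup.mem_centralizer_iff]
    intro x hx
    have : x = 1 := Subgroup.mem_bot.mp hx
    rw [this]; simp

/-- a `p`-reduced normal subgroup is centralized by every normal `p`-subgroup. -/
theorem normal_pGroup_le_centralizer {p : ℕ} [Fact p.Prime] (V : Subgroup L)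
    (hV : IsPReducedNormal p V) (Q : Subgroup L) (hQn : Q.Normal) (hQp : IsPGroup p Q) :
    Q ≤ Subgroup.centralizer (V : Set L) := by
  rw [isPReducedNormal_iff] at hV
  obtain ⟨hVn, _, hno⟩ := hV
  haveI := hVn
  haveI := hQn
  have h1 := hno (Q ⊔ Subgroup.centralizer (V : Set L)) inferInstance (by
    intro d hd
    obtain ⟨q, hq, c, hc, rfl⟩ := Subgroup.mem_sup_of_normal_right.mp hd
    obtain ⟨k, hk⟩ := hQp ⟨q, hq⟩
    have hk' : q ^ (p ^ k) = 1 := by
      have := congrArg Subtype.val hk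
      simpa using this
    refine ⟨k, ?_⟩
    rw [← QuotientGroup.eq_one_iff, QuotientGroup.mk_pow, QuotientGroup.mk_mul,
      (QuotientGroup.eq_one_iff c).mpr hc, mul_one, ← QuotientGroup.mk_pow, hk']
    rfl)
  exact le_sup_left.trans h1

theorem isPReducedNormal_sup {p : ℕ} [Fact p.Prime] (V W : Subgroup L)
    (hV : IsPReducedNormal p V) (hW : IsPReducedNormal p W) : IsPReducedNormal p (V ⊔ W) := by
  have hVW : V ≤ Subgroup.centralizer (W : Set L) := by
    have hV' := (isPReducedNormal_iff V).mp hV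
    apply normal_pGroup_le_centralizer W hW V hV'.1
    intro v
    refine ⟨1, ?_⟩
    apply Subtype.ext
    simpa using hV'.2.1.2 v v.2
  rw [isPReducedNormal_iff] at hV hW ⊢
  obtain ⟨hVn, hVel, hVno⟩ := hV
  obtain ⟨hWn, hWel, hWno⟩ := hW
  haveI := hVn
  haveI := hWn
  have hcomm : ∀ v ∈ V, ∀ w ∈ W, v * w = w * v := by
    intro v hv w hw
    exact (Subgroup.mem_centralizer_iff.mp (hVW hv) w hw).symm
  have hVc : ∀ a ∈ V, ∀ b ∈ V, a * b = b * a := by
    intro a ha b hb
    exact congrArg Subtype.val (hVel.1.is_comm.comm (⟨a, ha⟩ : V) ⟨b, hb⟩)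
  have hWc : ∀ a ∈ W, ∀ b ∈ W, a * b = b * a := by
    intro a ha b hb
    exact congrArg Subtype.val (hWel.1.is_comm.comm (⟨a, ha⟩ : W) ⟨b, hb⟩)
  refine ⟨inferInstance, ⟨⟨⟨fun a b => ?_⟩⟩, ?_⟩, ?_⟩
  · apply Subtype.ext
    obtain ⟨v, hv, w, hw, hvw⟩ := Subgroup.mem_sup_of_normal_right.mp a.2
    obtain ⟨v', hv', w', hw', hvw'⟩ := Subgroup.mem_sup_of_normal_right.mp b.2
    show (a : L) * (b : L) = (b : L) * (a : L)
    rw [← hvw, ← hvw']
    calc v * w * (v' * w') = v * (w * v') * w' := by group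
      _ = v * (v' * w) * w' := by rw [hcomm v' hv' w hw]
      _ = (v * v') * (w * w') := by group
      _ = (v' * v) * (w' * w) := by rw [hVc v hv v' hv', hWc w hw w' hw']
      _ = v' * (v * w') * w := by group
      _ = v' * (w' * v) * w := by rw [hcomm v hv w' hw']
      _ = v' * w' * (v * w) := by group
  · intro a ha
    obtain ⟨v, hv, w, hw, rfl⟩ := Subgroup.mem_sup_of_normal_right.mp ha
    have hc : Commute v w := hcomm v hv w hw
    rw [hc.mul_pow, hVel.2 v hv, hWel.2 w hw, one_mul]
  · intro D hD hDp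
    have e : Subgroup.centralizer ((V ⊔ W : Subgroup L) : Set L) =
        Subgroup.centralizer (V : Set L) ⊓ Subgroup.centralizer (W : Set L) := by
      ext x
      rw [Subgroup.mem_inf, Subgroup.mem_centralizer_iff, Subgroup.mem_centralizer_iff,
        Subgroup.mem_centralizer_iff]
      constructor
      · intro h
        exact ⟨fun y hy => h y (Subgroup.mem_sup_left hy), fun y hy => h y (Subgroup.mem_sup_right hy)⟩
      · rintro ⟨h1, h2⟩ y hy
        obtain ⟨v, hv, w, hw, rfl⟩ := Subgroup.mem_sup_of_normal_right.mp hy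
        calc v * w * x = v * (w * x) := by group
          _ = v * (x * w) := by rw [h2 w hw]
          _ = (v * x) * w := by group
          _ = (x * v) * w := by rw [h1 v hv]
          _ = x * (v * w) := by group
    rw [e] at hDp ⊢
    apply le_inf
    · exact hVno D hD (fun d hd => (hDp d hd).imp fun k hk => hk.1)
    · exact hWno D hD (fun d hd => (hDp d hd).imp fun k hk => hk.2)

theorem largestPReduced_isPReducedNormal [Finite L] {p : ℕ} [Fact p.Prime] :
    IsPReducedNormal p (largestPReduced p L) := by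
  classical
  unfold largestPReduced
  have hfin : {V : Subgroup L | IsPReducedNormal p V}.Finite := Set.toFinite _
  have h1 : sSup {V : Subgroup L | IsPReducedNormal p V} = hfin.toFinset.sup id := by
    rw [Finset.sup_id_eq_sSup, Set.Finite.coe_toFinset]
  rw [h1]
  apply Finset.sup_mem {V : Subgroup L | IsPReducedNormal p V}
  · exact isPReducedNormal_bot
  · intro x hx y hy
    exact isPReducedNormal_sup x y hx hy
  · intro V hV
    rwa [Set.Finite.mem_toFinset] at hV

theorem le_largestPReduced {p : ℕ} (V : Subgroup L) (hV : IsPReducedNormal p V) :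
    V ≤ largestPReduced p L := by
  unfold largestPReduced
  exact le_sSup hV

end Cfsg.Agent.Lib.Helper4_PReduced
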