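import Mathlib
import Cfsg.Prelude.Def_LocalStructure
import Cfsg.Agent.Lib.Helper4_PReduced

namespace Cfsg.Agent.Lib.Helper4_PReduced2

open Cfsg Cfsg.Agent.Lib.Helper4_PCore Cfsg.Agent.Lib.Helper4_Minimal Cfsg.Agent.Lib.Helper4_PIrred
  Cfsg.Agent.Lib.Helper4_PIrred2 Cfsg.Agent.Lib.Helper4_PReduced
open scoped commutatorElement

variable {H : Type*} [Group H]

/-- relative version, inside an ambient group -/
def RelPReduced (p : ℕ) (L V : Subgroup H) : Prop :=
  V ≤ L ∧ L ≤ Subgroup.normalizer (V : Set H) ∧ IsElementaryAbelian p V ∧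
    ∀ D : Subgroup H, D ≤ L → L ≤ Subgroup.normalizer (D : Set H) →
      (∀ d ∈ D, ∃ k : ℕ, d ^ (p ^ k) ∈ Subgroup.centralizer (V : Set H)) →
        D ≤ Subgroup.centralizer (V : Set H)

theorem isElementaryAbelian_subgroupOf_iff (p : ℕ) {L V : Subgroup H} (hVL : V ≤ L) :
    IsElementaryAbelian p (V.subgroupOf L) ↔ IsElementaryAbelian p V := by
  unfold IsElementaryAbelian
  constructor
  · rintro ⟨hc, hp⟩
    refine ⟨⟨⟨fun a b => ?_⟩⟩, ?_⟩
    · have := hc.is_comm.comm (⟨⟨a, hVL a.2⟩, by rw [Subgroup.mem_subgroupOf]; exact a.2⟩ : V.subgroupOf L)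
        ⟨⟨b, hVL b.2⟩, by rw [Subgroup.mem_subgroupOf]; exact b.2⟩
      apply Subtype.ext
      have h2 := congrArg (fun x : V.subgroupOf L => ((x : L) : H)) this
      exact h2
    · intro a ha
      have := hp ⟨a, hVL ha⟩ (by rw [Subgroup.mem_subgroupOf]; exact ha)
      have h2 := congrArg (fun x : L => (x : H)) this
      simpa using h2
  · rintro ⟨hc, hp⟩
    refine ⟨⟨⟨fun a b => ?_⟩⟩, ?_⟩
    · have ha : ((a : L) : H) ∈ V := a.2
      have hb : ((b : L) : H) ∈ V := b.2
      have := hc.is_comm.comm (⟨_, ha⟩ : V) ⟨_, hb⟩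
      apply Subtype.ext
      apply Subtype.ext
      exact congrArg (fun x : V => (x : H)) this
    · intro a ha
      rw [Subgroup.mem_subgroupOf] at ha
      apply Subtype.ext
      simpa using hp _ ha

theorem centralizer_subgroupOf {L V : Subgroup H} (hVL : V ≤ L) :
    Subgroup.centralizer ((V.subgroupOf L : Subgroup ↥L) : Set ↥L) =
      (Subgroup.centralizer (V : Set H)).subgroupOf L := by
  ext x
  rw [Subgroup.mem_subgroupOf, Subgroup.mem_centralizer_iff, Subgroup.mem_centralizer_iff]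
  constructor
  · intro h v hv
    have := h ⟨v, hVL hv⟩ (by rw [SetLike.mem_coe, Subgroup.mem_subgroupOf]; exact hv)
    exact congrArg (fun x : L => (x : H)) this
  · intro h v hv
    rw [SetLike.mem_coe, Subgroup.mem_subgroupOf] at hv
    apply Subtype.ext
    exact h _ hv

theorem isPReducedNormal_subgroupOf_iff {p : ℕ} [Fact p.Prime] {L V : Subgroup H} (hVL : V ≤ L) :
    IsPReducedNormal p (V.subgroupOf L) ↔ RelPReduced p L V := by
  rw [isPReducedNormal_iff, Subgroup.normal_subgroupOf_iff_le_normalizer hVL,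
    isElementaryAbelian_subgroupOf_iff p hVL, centralizer_subgroupOf hVL]
  unfold RelPReduced NoPQuot
  constructor
  · rintro ⟨h1, h2, h3⟩
    refine ⟨hVL, h1, h2, ?_⟩
    intro D hDL hLD hDp
    have hn : (D.subgroupOf L).Normal := (Subgroup.normal_subgroupOf_iff_le_normalizer hDL).mpr hLD
    have := h3 (D.subgroupOf L) hn (by
      intro d hd
      rw [Subgroup.mem_subgroupOf] at hd
      obtain ⟨k, hk⟩ := hDp _ hd
      refine ⟨k, ?_⟩
      rw [Subgroup.mem_subgroupOf]
      simpa using hk)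
    intro d hd
    have h4 := this (show (⟨d, hDL hd⟩ : L) ∈ D.subgroupOf L by rw [Subgroup.mem_subgroupOf]; exact hd)
    rwa [Subgroup.mem_subgroupOf] at h4
  · rintro ⟨_, h1, h2, h3⟩
    refine ⟨h1, h2, ?_⟩
    intro D' hD' hD'p
    have hDL : D'.map L.subtype ≤ L := Subgroup.map_subtype_le D'
    have e : (D'.map L.subtype).subgroupOf L = D' :=
      Subgroup.comap_map_eq_self_of_injective L.subtype_injective D'
    have hLD : L ≤ Subgroup.normalizer ((D'.map L.subtype : Subgroup H) : Set H) := by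
      rw [← Subgroup.normal_subgroupOf_iff_le_normalizer hDL, e]
      exact hD'
    have := h3 (D'.map L.subtype) hDL hLD (by
      intro d hd
      obtain ⟨d', hd', rfl⟩ := Subgroup.mem_map.mp hd
      obtain ⟨k, hk⟩ := hD'p d' hd'
      refine ⟨k, ?_⟩
      rw [Subgroup.mem_subgroupOf] at hk
      simpa using hk)
    intro d hd
    rw [Subgroup.mem_subgroupOf]
    exact this (Subgroup.mem_map.mpr ⟨d, hd, rfl⟩)

/-- `Y_L` is relatively `p`-reduced. -/
theorem relPReduced_largest [Finite H] {p : ℕ} [Fact p.Prime] (L : Subgroup H) :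
    RelPReduced p L (largestPReducedOf p L) := by
  have hle : largestPReducedOf p L ≤ L := Subgroup.map_subtype_le _
  rw [← isPReducedNormal_subgroupOf_iff hle]
  have e : (largestPReducedOf p L).subgroupOf L = largestPReduced p ↥L :=
    Subgroup.comap_map_eq_self_of_injective L.subtype_injective _
  rw [e]
  exact largestPReduced_isPReducedNormal

theorem le_largestPReducedOf {p : ℕ} [Fact p.Prime] (L V : Subgroup H) (h : RelPReduced p L V) :
    V ≤ largestPReducedOf p L := by
  have hVL := h.1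
  rw [← isPReducedNormal_subgroupOf_iff hVL] at h
  have := le_largestPReduced _ h
  intro v hv
  exact Subgroup.mem_map.mpr ⟨⟨v, hVL hv⟩, this (by rw [Subgroup.mem_subgroupOf]; exact hv), rfl⟩

end Cfsg.Agent.Lib.Helper4_PReduced2
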