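import Mathlib
import Cfsg.Prelude.Def_LocalStructure
import Cfsg.Agent.Lib.Helper4_PReduced2

namespace Cfsg.Agent.Lib.Helper4_PReduced3

open Cfsg Cfsg.Agent.Lib.Helper4_PCore Cfsg.Agent.Lib.Helper4_Minimal Cfsg.Agent.Lib.Helper4_PIrred
  Cfsg.Agent.Lib.Helper4_PIrred2 Cfsg.Agent.Lib.Helper4_PReduced Cfsg.Agent.Lib.Helper4_PReduced2
open scoped commutatorElement

variable {H : Type*} [Group H]

/-- if `d` normalizes `C` then `(d c)^n ∈ d^n C`. -/
theorem mul_pow_mem_of_normalizes (C : Subgroup H) {d c : H} (hd : d ∈ Subgroup.normalizer (C : Set H))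
    (hc : c ∈ C) (n : ℕ) : ∃ c' ∈ C, (d * c) ^ n = d ^ n * c' := by
  induction n with
  | zero => exact ⟨1, C.one_mem, by simp⟩
  | succ n ih =>
    obtain ⟨c', hc', h⟩ := ih
    refine ⟨d⁻¹ * c' * d * c, ?_, ?_⟩
    · apply mul_mem _ hc
      have := (Subgroup.mem_normalizer_iff.mp (inv_mem hd) c').mp hc'
      simpa using this
    · rw [pow_succ, h, pow_succ]; group

/-- a relatively `p`-reduced subgroup lies in every Sylow `p`-subgroup of the ambient group inside `L`. -/
theorem relPReduced_le_sylow [Finite H] {p : ℕ} [Fact p.Prime] (L V : Subgroup H) (h : RelPReduced p L V)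
    (T : Sylow p H) (hTL : (T : Subgroup H) ≤ L) : V ≤ T := by
  obtain ⟨hVL, hLV, hel, _⟩ := h
  have hn : (V.subgroupOf L).Normal := (Subgroup.normal_subgroupOf_iff_le_normalizer hVL).mpr hLV
  have hp : IsPGroup p (V.subgroupOf L) := by
    intro v
    refine ⟨1, ?_⟩
    apply Subtype.ext
    apply Subtype.ext
    have := hel.2 _ (Subgroup.mem_subgroupOf.mp v.2)
    simpa using this
  have := normal_pGroup_le_sylow _ hn hp (T.subtype hTL)
  intro v hv
  have h2 := this (show (⟨v, hVL hv⟩ : L) ∈ V.subgroupOf L by rw [Subgroup.mem_subgroupOf]; exact hv)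
  rw [Sylow.coe_subtype] at h2
  exact Subgroup.mem_subgroupOf.mp h2

theorem largestPReduced_comparison [Finite H] {p : ℕ} [Fact p.Prime] (T : Sylow p H)
    (L M : Subgroup H) (hTL : (T : Subgroup H) ≤ L) (hTM : (T : Subgroup H) ≤ M)
    (hfac : L ⊔ Subgroup.centralizer ((largestPReducedOf p M : Subgroup H) : Set H) =
      M ⊔ Subgroup.centralizer ((largestPReducedOf p M : Subgroup H) : Set H)) :
    largestPReducedOf p M ≤ largestPReducedOf p L := by
  set Y := largestPReducedOf p M with hY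
  set C := Subgroup.centralizer (Y : Set H) with hC
  have hM := relPReduced_largest (p := p) M
  rw [← hY] at hM
  have hYT : Y ≤ T := relPReduced_le_sylow M Y hM T hTM
  obtain ⟨hYM, hMY, hel, hno⟩ := hM
  have hCN : C ≤ Subgroup.normalizer (Y : Set H) := Subgroup.centralizer_le_normalizer _
  have hNYC : Subgroup.normalizer (Y : Set H) ≤ Subgroup.normalizer (C : Set H) := by
    intro g hg
    rw [Subgroup.mem_normalizer_iff]
    intro c
    rw [hC, Subgroup.mem_centralizer_iff, Subgroup.mem_centralizer_iff]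
    constructor
    · intro h y hy
      have hy' : g⁻¹ * y * g ∈ Y := by
        have := (Subgroup.mem_normalizer_iff.mp (inv_mem hg) y).mp hy
        simpa using this
      have := h _ hy'
      calc y * (g * c * g⁻¹) = g * ((g⁻¹ * y * g) * c) * g⁻¹ := by group
        _ = g * (c * (g⁻¹ * y * g)) * g⁻¹ := by rw [this]
        _ = g * c * g⁻¹ * y := by group
    · intro h y hy
      have hy' : g * y * g⁻¹ ∈ Y := (Subgroup.mem_normalizer_iff.mp hg y).mp hy
      have := h _ hy'
      calc y * c = g⁻¹ * ((g * y * g⁻¹) * (g * c * g⁻¹)) * g := by group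
        _ = g⁻¹ * ((g * c * g⁻¹) * (g * y * g⁻¹)) * g := by rw [this]
        _ = c * y := by group
  have hLN : L ≤ Subgroup.normalizer (Y : Set H) := by
    calc L ≤ L ⊔ C := le_sup_left
      _ = M ⊔ C := hfac
      _ ≤ Subgroup.normalizer (Y : Set H) := sup_le hMY hCN
  apply le_largestPReducedOf
  refine ⟨hYT.trans hTL, hLN, hel, ?_⟩
  intro D hDL hLD hDp
  -- D' = (D ⊔ C) ⊓ M
  have hLC : L ≤ Subgroup.normalizer (C : Set H) := hLN.trans hNYC
  have hMC : M ≤ Subgroup.normalizer (C : Set H) := hMY.trans hNYC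
  have hDC : D ≤ Subgroup.normalizer (C : Set H) := hDL.trans hLC
  have hnormDC : M ≤ Subgroup.normalizer ((D ⊔ C : Subgroup H) : Set H) := by
    calc M ≤ M ⊔ C := le_sup_left
      _ = L ⊔ C := hfac.symm
      _ ≤ Subgroup.normalizer ((D ⊔ C : Subgroup H) : Set H) := by
        apply sup_le
        · exact (le_inf hLD hLC).trans (Subgroup.normalizer_inf_normalizer_le_normalizer_sup D C)
        · exact le_sup_right.trans Subgroup.le_normalizer
  have hD' := hno ((D ⊔ C) ⊓ M) inf_le_right (by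
      intro m hm
      rw [Subgroup.mem_normalizer_iff]
      intro x
      have h1 := Subgroup.mem_normalizer_iff.mp (hnormDC hm) x
      rw [Subgroup.mem_inf, Subgroup.mem_inf]
      constructor
      · rintro ⟨hx1, hx2⟩
        exact ⟨h1.mp hx1, mul_mem (mul_mem hm hx2) (inv_mem hm)⟩
      · rintro ⟨hx1, hx2⟩
        refine ⟨h1.mpr hx1, ?_⟩
        have := mul_mem (mul_mem (inv_mem hm) hx2) hm
        have e : m⁻¹ * (m * x * m⁻¹) * m = x := by group
        rwa [e] at this) (by
      intro d' hd'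
      rw [Subgroup.mem_inf] at hd'
      have hcoe := Subgroup.coe_mul_of_left_le_normalizer_right D C hDC
      have h2 : d' ∈ ((D ⊔ C : Subgroup H) : Set H) := hd'.1
      rw [hcoe] at h2
      obtain ⟨d, hd, c, hc, rfl⟩ := Set.mem_mul.mp h2
      obtain ⟨k, hk⟩ := hDp d hd
      obtain ⟨c', hc', he⟩ := mul_pow_mem_of_normalizes C (hDC hd) hc (p ^ k)
      exact ⟨k, by rw [he]; exact mul_mem hk hc'⟩)
  intro d hd
  have h1 : d ∈ M ⊔ C := by rw [← hfac]; exact Subgroup.mem_sup_left (hDL hd)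
  have hcoe := Subgroup.coe_mul_of_left_le_normalizer_right M C hMC
  have h2 : d ∈ ((M ⊔ C : Subgroup H) : Set H) := h1
  rw [hcoe] at h2
  obtain ⟨m, hm, c, hc, hmc⟩ := Set.mem_mul.mp h2
  have hm' : m ∈ (D ⊔ C) ⊓ M := by
    refine ⟨?_, hm⟩
    have : m = d * c⁻¹ := by rw [← hmc]; group
    rw [this]
    exact mul_mem (Subgroup.mem_sup_left hd) (Subgroup.mem_sup_right (inv_mem hc))
  rw [← hmc]
  exact mul_mem (hD' hm') hc

end Cfsg.Agent.Lib.Helper4_PReduced3
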