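import Mathlib
import Cfsg.Prelude.Def_LocalStructure
import Cfsg.Agent.Lib.Helper4_PReduced3
import Cfsg.Agent.Lib.Helper4_Amalgam3

namespace Cfsg.Agent.Lib.Helper4_PReduced4

open Cfsg Cfsg.Agent.Lib.Helper4_PCore Cfsg.Agent.Lib.Helper4_Minimal Cfsg.Agent.Lib.Helper4_PIrred
  Cfsg.Agent.Lib.Helper4_PIrred2 Cfsg.Agent.Lib.Helper4_PReduced Cfsg.Agent.Lib.Helper4_PReduced2
  Cfsg.Agent.Lib.Helper4_PReduced3
open scoped commutatorElement

variable {H : Type*} [Group H]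

/-- relative Sylow-intersection lemma: `S` a Sylow subgroup of `N`, `C ≤ N` normalized by `N`;
then `S ∩ C` is a Sylow subgroup of `C`. -/
theorem exists_sylow_eq_subgroupOf_rel [Finite H] {p : ℕ} [Fact p.Prime] (N C : Subgroup H)
    (hCN : C ≤ N) (hNC : N ≤ Subgroup.normalizer (C : Set H)) (S : Sylow p ↥N) :
    ∃ P : Sylow p ↥C, (P : Subgroup ↥C) = ((S : Subgroup ↥N).map N.subtype).subgroupOf C := by
  set S' : Subgroup H := (S : Subgroup ↥N).map N.subtype with hS'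
  have hp : IsPGroup p (S'.subgroupOf C) := (S.isPGroup'.map _).comap_subtype
  obtain ⟨Q, hQ⟩ := hp.exists_le_sylow
  refine ⟨Q, ?_⟩
  set Q' : Subgroup H := (Q : Subgroup ↥C).map C.subtype with hQ'
  have hQ'C : Q' ≤ C := Subgroup.map_subtype_le _
  have hQ'p : IsPGroup p (Q'.subgroupOf N) := (Q.isPGroup'.map _).comap_subtype
  obtain ⟨S₁, hS₁⟩ := hQ'p.exists_le_sylow
  obtain ⟨n, hn⟩ := MulAction.exists_smul_eq ↥N S S₁
  have h1 : Q'.map (MulAut.conj (n : H)⁻¹).toMonoidHom ≤ S' ⊓ C := by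
    intro y hy
    obtain ⟨x, hx, rfl⟩ := Subgroup.mem_map.mp hy
    simp only [MulEquiv.coe_toMonoidHom, MulAut.conj_apply, inv_inv]
    constructor
    · have hxN : x ∈ N := hCN (hQ'C hx)
      have hx1 : (⟨x, hxN⟩ : N) ∈ (S₁ : Subgroup ↥N) :=
        hS₁ (by rw [Subgroup.mem_subgroupOf]; exact hx)
      rw [← hn, Sylow.coe_subgroup_smul, Subgroup.mem_pointwise_smul_iff_inv_smul_mem] at hx1
      have hx2 : n⁻¹ * (⟨x, hxN⟩ : N) * n ∈ (S : Subgroup ↥N) := by
        simpa [MulAut.smul_def] using hx1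
      exact Subgroup.mem_map.mpr ⟨_, hx2, by simp⟩
    · have := (Subgroup.mem_normalizer_iff.mp (inv_mem (hNC n.2)) x).mp (hQ'C hx)
      simpa using this
  have h2 : S' ⊓ C ≤ Q' := by
    intro x hx
    exact Subgroup.mem_map.mpr ⟨⟨x, hx.2⟩, hQ (by rw [Subgroup.mem_subgroupOf]; exact hx.1), rfl⟩
  have hcard : Nat.card Q' ≤ Nat.card ↥(S' ⊓ C) := by
    have e : Nat.card (Q'.map (MulAut.conj (n : H)⁻¹).toMonoidHom) = Nat.card Q' :=
      Subgroup.card_map_of_injective (f := (MulAut.conj (n : H)⁻¹).toMonoidHom)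
        (MulAut.conj (n : H)⁻¹).injective
    rw [← e]
    exact Subgroup.card_le_of_le h1
  have h3 : S' ⊓ C = Q' := Subgroup.eq_of_le_of_card_ge h2 hcard
  apply le_antisymm _ hQ
  intro x hx
  rw [Subgroup.mem_subgroupOf]
  have : (x : H) ∈ Q' := Subgroup.mem_map.mpr ⟨x, hx, rfl⟩
  rw [← h3] at this
  exact this.1

/-- `T R = G` when `G / R` is a `p`-group and `T` is a Sylow subgroup. -/
theorem sylow_sup_eq_top_of_quotient_pGroup {G : Type*} [Group G] [Finite G] {p : ℕ} [Fact p.Prime]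
    (T : Sylow p G) (R : Subgroup G) [R.Normal] (hQ : IsPGroup p (G ⧸ R)) :
    (T : Subgroup G) ⊔ R = ⊤ := by
  have hsurj : Function.Surjective (QuotientGroup.mk' R) := QuotientGroup.mk'_surjective _
  have h1 : ((T.mapSurjective hsurj : Sylow p (G ⧸ R)) : Subgroup (G ⧸ R)) = ⊤ := by
    have hp : IsPGroup p (⊤ : Subgroup (G ⧸ R)) := hQ.to_subgroup ⊤
    exact ((T.mapSurjective hsurj).is_maximal' hp le_top).symm
  rw [Sylow.coe_mapSurjective] at h1
  have h2 := congrArg (Subgroup.comap (QuotientGroup.mk' R)) h1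
  rw [Subgroup.comap_map_eq, QuotientGroup.ker_mk', Subgroup.comap_top] at h2
  exact h2

/-- `Ω₁(Z)` for an abelian `Z`: membership and exponent. -/
theorem mem_omegaOne_center (p : ℕ) (Q : Subgroup H) :
    ∀ w ∈ omegaOne p (Q ⊓ Subgroup.centralizer (Q : Set H)),
      w ∈ Q ⊓ Subgroup.centralizer (Q : Set H) ∧ w ^ p = 1 := by
  set Z : Subgroup H := Q ⊓ Subgroup.centralizer (Q : Set H) with hZ
  have hZcomm : ∀ a ∈ Z, ∀ b ∈ Z, a * b = b * a := by
    intro a ha b hb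
    exact (Subgroup.mem_centralizer_iff.mp hb.2 a ha.1)
  intro w hw
  have hw' : w ∈ Subgroup.closure {x : H | x ∈ Z ∧ x ^ p = 1} := hw
  induction hw' using Subgroup.closure_induction with
  | mem x hx => exact hx
  | one => exact ⟨Z.one_mem, one_pow p⟩
  | mul x y hx hy ihx ihy =>
    obtain ⟨hxZ, hxp⟩ := ihx hx
    obtain ⟨hyZ, hyp⟩ := ihy hy
    refine ⟨Z.mul_mem hxZ hyZ, ?_⟩
    have hcomm : Commute x y := hZcomm x hxZ y hyZ
    rw [hcomm.mul_pow, hxp, hyp, one_mul]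
  | inv x hx ihx =>
    obtain ⟨hxZ, hxp⟩ := ihx hx
    exact ⟨Z.inv_mem hxZ, by rw [inv_pow, hxp, inv_one]⟩

theorem isElementaryAbelian_of_le_omegaOne_center (p : ℕ) (Q V : Subgroup H)
    (h : V ≤ omegaOne p (Q ⊓ Subgroup.centralizer (Q : Set H))) : IsElementaryAbelian p V := by
  refine ⟨⟨⟨fun a b => ?_⟩⟩, ?_⟩
  · apply Subtype.ext
    have ha := (mem_omegaOne_center p Q _ (h a.2)).1
    have hb := (mem_omegaOne_center p Q _ (h b.2)).1
    exact (Subgroup.mem_centralizer_iff.mp hb.2 a ha.1)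
  · intro a ha
    exact (mem_omegaOne_center p Q _ (h ha)).2

end Cfsg.Agent.Lib.Helper4_PReduced4
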