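import Mathlib
import Cfsg.Prelude.Def_LocalStructure
import Cfsg.Agent.Lib.Helper4_PReduced4

namespace Cfsg.Agent.Lib.Helper4_PReduced5

open Cfsg Cfsg.Agent.Lib.Helper4_PCore Cfsg.Agent.Lib.Helper4_Minimal Cfsg.Agent.Lib.Helper4_PIrred
  Cfsg.Agent.Lib.Helper4_PIrred2 Cfsg.Agent.Lib.Helper4_PReduced Cfsg.Agent.Lib.Helper4_PReduced2
  Cfsg.Agent.Lib.Helper4_PReduced3 Cfsg.Agent.Lib.Helper4_PReduced4
open scoped commutatorElement

variable {H : Type*} [Group H]

theorem normalizer_le_normalizer_centralizer (Y : Subgroup H) :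
    Subgroup.normalizer (Y : Set H) ≤
      Subgroup.normalizer ((Subgroup.centralizer (Y : Set H) : Subgroup H) : Set H) := by
  intro g hg
  rw [Subgroup.mem_normalizer_iff]
  intro c
  rw [Subgroup.mem_centralizer_iff, Subgroup.mem_centralizer_iff]
  constructor
  · intro h y hy
    have hy' : g⁻¹ * y * g ∈ Y := by
      have := (Subgroup.mem_normalizer_iff.mp (inv_mem hg) y).mp hy
      simpa using this
    have := h _ hy'
    calc y * (g * c * g⁻¹) = g * ((g⁻¹ * y * g) * c) * g⁻¹ := by group
      _ = g * (c * (g⁻¹ * y * g)) * g⁻¹ := by rw [this]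
      _ = g * c * g⁻¹ * y := by group
  · intro h y hy
    have hy' : g * y * g⁻¹ ∈ Y := (Subgroup.mem_normalizer_iff.mp hg y).mp hy
    have := h _ hy'
    calc y * c = g⁻¹ * ((g * y * g⁻¹) * (g * c * g⁻¹)) * g := by group
      _ = g⁻¹ * ((g * c * g⁻¹) * (g * y * g⁻¹)) * g := by rw [this]
      _ = c * y := by group

theorem pCoreOf_facts [Finite H] {p : ℕ} [Fact p.Prime] (L : Subgroup H) :
    pCoreOf p L ≤ L ∧ L ≤ Subgroup.normalizer (pCoreOf p L : Set H) ∧
      (∀ q ∈ pCoreOf p L, ∃ k : ℕ, q ^ (p ^ k) = 1) ∧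
      (∀ V : Subgroup H, V ≤ L → L ≤ Subgroup.normalizer (V : Set H) →
        (∀ v ∈ V, ∃ k : ℕ, v ^ (p ^ k) = 1) → V ≤ pCoreOf p L) := by
  have hQL : pCoreOf p L ≤ L := Subgroup.map_subtype_le _
  have e : (pCoreOf p L).subgroupOf L = pCore p ↥L :=
    Subgroup.comap_map_eq_self_of_injective L.subtype_injective _
  refine ⟨hQL, ?_, ?_, ?_⟩
  · rw [← Subgroup.normal_subgroupOf_iff_le_normalizer hQL, e]
    exact pCore_normal p ↥L
  · intro q hq
    obtain ⟨q', hq', rfl⟩ := Subgroup.mem_map.mp hq
    obtain ⟨k, hk⟩ := (pCore_isPGroup (G := ↥L) (p := p)) ⟨q', hq'⟩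
    refine ⟨k, ?_⟩
    have := congrArg (fun x : pCore p ↥L => ((x : L) : H)) hk
    simpa using this
  · intro V hVL hLV hVp
    have hn : (V.subgroupOf L).Normal := (Subgroup.normal_subgroupOf_iff_le_normalizer hVL).mpr hLV
    have hp : IsPGroup p (V.subgroupOf L) := by
      intro v
      obtain ⟨k, hk⟩ := hVp _ (Subgroup.mem_subgroupOf.mp v.2)
      refine ⟨k, ?_⟩
      apply Subtype.ext
      apply Subtype.ext
      simpa using hk
    have := le_pCore _ hn hp
    intro v hv
    exact Subgroup.mem_map.mpr ⟨⟨v, hVL hv⟩, this (by rw [Subgroup.mem_subgroupOf]; exact hv), rfl⟩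

theorem largestPReduced_sylow_facts [Finite H] {p : ℕ} [Fact p.Prime] (T : Sylow p H) (L : Subgroup H)
    (hTL : (T : Subgroup H) ≤ L)
    (hL : Subgroup.centralizer (pCore p ↥L : Set ↥L) ≤ pCore p ↥L) :
    (∃ P : Sylow p ↥(Subgroup.centralizer ((largestPReducedOf p L : Subgroup H) : Set H)),
      (P : Subgroup ↥(Subgroup.centralizer ((largestPReducedOf p L : Subgroup H) : Set H))) =
        ((T : Subgroup H) ⊓ Subgroup.centralizer ((largestPReducedOf p L : Subgroup H) : Set H)).subgroupOf
          (Subgroup.centralizer ((largestPReducedOf p L : Subgroup H) : Set H))) ∧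
    pCoreOf p L ≤ (T : Subgroup H) ⊓ Subgroup.centralizer ((largestPReducedOf p L : Subgroup H) : Set H) ∧
    omegaOne p ((T : Subgroup H) ⊓ Subgroup.centralizer ((T : Subgroup H) : Set H)) ≤ sylowCenterClosure p L ∧
    sylowCenterClosure p L ≤ largestPReducedOf p L ∧
    largestPReducedOf p L ≤ omegaOne p (pCoreOf p L ⊓ Subgroup.centralizer ((pCoreOf p L : Subgroup H) : Set H)) := by
  set Y := largestPReducedOf p L with hYdef
  set C := Subgroup.centralizer (Y : Set H) with hC
  set Q := pCoreOf p L with hQdef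
  obtain ⟨hQL, hLQ, hQp, hQmax⟩ := pCoreOf_facts (p := p) L
  rw [← hQdef] at hQL hLQ hQp hQmax
  have hY := relPReduced_largest (p := p) L
  rw [← hYdef] at hY
  obtain ⟨hYL, hLY, hel, hno⟩ := hY
  -- Q ≤ T
  have hQT : Q ≤ T := by
    intro x hx
    obtain ⟨q, hq, rfl⟩ := Subgroup.mem_map.mp hx
    have := pCore_le_sylow (T.subtype hTL) hq
    rw [Sylow.coe_subtype] at this
    exact Subgroup.mem_subgroupOf.mp this
  -- Q ≤ C
  have hQC : Q ≤ C := by
    apply hno Q hQL hLQ
    intro d hd
    obtain ⟨k, hk⟩ := hQp d hd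
    exact ⟨k, by rw [hk]; exact Subgroup.one_mem _⟩
  refine ⟨?_, le_inf hQT hQC, ?_, ?_, ?_⟩
  · -- (a)
    have hCN : C ≤ Subgroup.normalizer (Y : Set H) := Subgroup.centralizer_le_normalizer _
    have hTN : (T : Subgroup H) ≤ Subgroup.normalizer (Y : Set H) := hTL.trans hLY
    obtain ⟨P, hP⟩ := exists_sylow_eq_subgroupOf_rel (Subgroup.normalizer (Y : Set H)) C hCN
      (normalizer_le_normalizer_centralizer Y) (T.subtype hTN)
    refine ⟨P, ?_⟩
    rw [hP, Sylow.coe_subtype, Subgroup.subgroupOf_map_subtype, inf_of_le_left hTN,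
      Subgroup.inf_subgroupOf_right]
  · -- (d)
    unfold sylowCenterClosure
    have e : ((T.subtype hTL : Sylow p ↥L) : Subgroup ↥L).map L.subtype = T := by
      rw [Sylow.coe_subtype, Subgroup.subgroupOf_map_subtype, inf_of_le_left hTL]
    have := le_iSup (fun S : Sylow p ↥L => omegaOne p (((S : Subgroup ↥L).map L.subtype) ⊓
      Subgroup.centralizer (((S : Subgroup ↥L).map L.subtype : Subgroup H) : Set H))) (T.subtype hTL)
    simp only [e] at this
    exact this
  · -- (e)
    set Z := sylowCenterClosure p L with hZdef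
    have hZL : Z ≤ L := Cfsg.Agent.Lib.Helper4_Amalgam2.sylowCenterClosure_le p L
    have hLZ : L ≤ Subgroup.normalizer (Z : Set H) :=
      le_normalizer_of_conj_mem' L Z (fun g hg x hx =>
        Cfsg.Agent.Lib.Helper4_Amalgam2.conj_mem_sylowCenterClosure L hg hx)
    have hZE : Z ≤ omegaOne p (Q ⊓ Subgroup.centralizer (Q : Set H)) := by
      rw [hZdef]
      unfold sylowCenterClosure
      apply iSup_le
      intro S
      unfold omegaOne
      apply Subgroup.closure_mono
      rintro x ⟨⟨hxS, hxC⟩, hxp⟩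
      have hQS : Q ≤ (S : Subgroup ↥L).map L.subtype := by
        intro y hy
        obtain ⟨q, hq, rfl⟩ := Subgroup.mem_map.mp hy
        exact Subgroup.mem_map.mpr ⟨q, pCore_le_sylow S hq, rfl⟩
      have hxCQ : x ∈ Subgroup.centralizer (Q : Set H) := Subgroup.centralizer_le hQS hxC
      have hxL : x ∈ L := Subgroup.map_subtype_le _ hxS
      have hx1 : (⟨x, hxL⟩ : L) ∈ Subgroup.centralizer (pCore p ↥L : Set ↥L) := by
        rw [Subgroup.mem_centralizer_iff]
        intro q hq
        apply Subtype.ext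
        exact Subgroup.mem_centralizer_iff.mp hxCQ q (Subgroup.mem_map.mpr ⟨q, hq, rfl⟩)
      have hxQ : x ∈ Q := Subgroup.mem_map.mpr ⟨_, hL hx1, rfl⟩
      exact ⟨⟨hxQ, hxCQ⟩, hxp⟩
    apply le_largestPReducedOf
    refine ⟨hZL, hLZ, isElementaryAbelian_of_le_omegaOne_center p Q Z hZE, ?_⟩
    intro D hDL hLD hDp
    set CZ := Subgroup.centralizer (Z : Set H) with hCZ
    intro d hd
    -- Z ≤ centralizer {d}
    have hZd : Z ≤ Subgroup.centralizer ({d} : Set H) := by
      conv_lhs => rw [hZdef]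
      unfold sylowCenterClosure
      apply iSup_le
      intro S
      have hSZ : omegaOne p (((S : Subgroup ↥L).map L.subtype) ⊓
          Subgroup.centralizer (((S : Subgroup ↥L).map L.subtype : Subgroup H) : Set H)) ≤ Z := by
        rw [hZdef]
        unfold sylowCenterClosure
        exact le_iSup (fun S : Sylow p ↥L => omegaOne p (((S : Subgroup ↥L).map L.subtype) ⊓
          Subgroup.centralizer (((S : Subgroup ↥L).map L.subtype : Subgroup H) : Set H))) S
      conv_lhs => unfold omegaOne
      rw [Subgroup.closure_le]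
      intro x hx
      have hxZ : x ∈ Z := hSZ (by unfold omegaOne; exact Subgroup.subset_closure hx)
      obtain ⟨⟨hxS, hxC⟩, hxp⟩ := hx
      obtain ⟨PD, hPD⟩ := exists_sylow_eq_subgroupOf_rel L D hDL hLD S
      have hDCZ : D ≤ Subgroup.normalizer (CZ : Set H) :=
        (hDL.trans hLZ).trans (normalizer_le_normalizer_centralizer Z)
      haveI hRn : (CZ.subgroupOf D).Normal := by
        rw [← Subgroup.inf_subgroupOf_right,
          Subgroup.normal_subgroupOf_iff_le_normalizer inf_le_right]
        intro d' hd'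
        rw [Subgroup.mem_normalizer_iff]
        intro y
        have h1 := Subgroup.mem_normalizer_iff.mp (hDCZ hd') y
        rw [Subgroup.mem_inf, Subgroup.mem_inf]
        constructor
        · rintro ⟨h2, h3⟩
          exact ⟨h1.mp h2, mul_mem (mul_mem hd' h3) (inv_mem hd')⟩
        · rintro ⟨h2, h3⟩
          refine ⟨h1.mpr h2, ?_⟩
          have := mul_mem (mul_mem (inv_mem hd') h3) hd'
          have e : d'⁻¹ * (d' * y * d'⁻¹) * d' = y := by group
          rwa [e] at this
      have hquot : IsPGroup p (↥D ⧸ CZ.subgroupOf D) := by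
        intro y
        induction y using QuotientGroup.induction_on with
        | H d' =>
          obtain ⟨k, hk⟩ := hDp d' d'.2
          refine ⟨k, ?_⟩
          rw [← QuotientGroup.mk_pow, QuotientGroup.eq_one_iff, Subgroup.mem_subgroupOf]
          simpa using hk
      have htop := sylow_sup_eq_top_of_quotient_pGroup PD (CZ.subgroupOf D) hquot
      have hdtop : (⟨d, hd⟩ : D) ∈ (PD : Subgroup ↥D) ⊔ CZ.subgroupOf D := by
        rw [htop]; exact Subgroup.mem_top _
      obtain ⟨t, ht, r, hr, htr⟩ := Subgroup.mem_sup_of_normal_right.mp hdtop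
      rw [hPD, Subgroup.mem_subgroupOf] at ht
      rw [Subgroup.mem_subgroupOf] at hr
      have hd_eq : d = (t : H) * (r : H) := by
        have := congrArg (fun x : D => (x : H)) htr
        simpa using this.symm
      have h1 : (t : H) * x = x * (t : H) := Subgroup.mem_centralizer_iff.mp hxC _ ht
      have h2 : x * (r : H) = (r : H) * x := Subgroup.mem_centralizer_iff.mp hr x hxZ
      rw [SetLike.mem_coe, Subgroup.mem_centralizer_iff]
      intro y hy
      rw [Set.mem_singleton_iff] at hy
      rw [hy, hd_eq]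
      calc (t : H) * (r : H) * x = (t : H) * ((r : H) * x) := by group
        _ = (t : H) * (x * (r : H)) := by rw [h2]
        _ = ((t : H) * x) * (r : H) := by group
        _ = (x * (t : H)) * (r : H) := by rw [h1]
        _ = x * ((t : H) * (r : H)) := by group
    rw [Subgroup.mem_centralizer_iff]
    intro z hz
    have := Subgroup.mem_centralizer_iff.mp (hZd hz) d (Set.mem_singleton d)
    exact this.symm
  · -- (f)
    intro y hy
    unfold omegaOne
    apply Subgroup.subset_closure
    have hyQ : y ∈ Q := by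
      apply hQmax Y hYL hLY _ hy
      intro v hv
      exact ⟨1, by rw [pow_one]; exact hel.2 v hv⟩
    refine ⟨⟨hyQ, ?_⟩, hel.2 y hy⟩
    show y ∈ Subgroup.centralizer (Q : Set H)
    rw [Subgroup.mem_centralizer_iff]
    intro q hq
    exact (Subgroup.mem_centralizer_iff.mp (hQC hq) y hy).symm

end Cfsg.Agent.Lib.Helper4_PReduced5
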