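import Mathlib
import Cfsg.Prelude.Def_LocalStructure
import Cfsg.Agent.Lib.Helper4_PReduced5

namespace Cfsg.Agent.Lib.Helper4_OrbitProd

open Cfsg Cfsg.Agent.Lib.Helper4_PCore Cfsg.Agent.Lib.Helper4_Minimal Cfsg.Agent.Lib.Helper4_PIrred
  Cfsg.Agent.Lib.Helper4_PIrred2 Cfsg.Agent.Lib.Helper4_PReduced Cfsg.Agent.Lib.Helper4_PReduced2
  Cfsg.Agent.Lib.Helper4_PReduced3 Cfsg.Agent.Lib.Helper4_PReduced4 Cfsg.Agent.Lib.Helper4_PReduced5
open scoped commutatorElement

variable {H : Type*} [Group H]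

/-- the product over the `L`-orbit of an element `z` of an abelian subgroup `Z` normalized by `L`. -/
theorem orbit_product [Finite H] (L Z : Subgroup H)
    (hLZ : ∀ g ∈ L, ∀ x ∈ Z, g * x * g⁻¹ ∈ Z) (hcomm : ∀ a ∈ Z, ∀ b ∈ Z, a * b = b * a)
    (z : H) (hz : z ∈ Z) :
    ∃ u ∈ Z, (∀ h ∈ L, h * u * h⁻¹ = u) ∧
      ∃ w ∈ ⁅L, Z⁆, u = w * z ^ ((Subgroup.centralizer ({z} : Set H)).subgroupOf L).index := by
  classical
  let _ : CommGroup ↥Z :=
    { (inferInstance : Group ↥Z) with mul_comm := fun a b => Subtype.ext (hcomm a a.2 b b.2) }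
  set C : Subgroup ↥L := (Subgroup.centralizer ({z} : Set H)).subgroupOf L with hC
  have : Fintype (↥L ⧸ C) := Fintype.ofFinite _
  let φ₀ : ↥L → ↥Z := fun g => ⟨(g:H) * z * (g:H)⁻¹, hLZ g g.2 z hz⟩
  have hφ₀ : ∀ a b : ↥L, a⁻¹ * b ∈ C → φ₀ a = φ₀ b := by
    intro a b hab
    rw [hC, Subgroup.mem_subgroupOf, Subgroup.mem_centralizer_iff] at hab
    have := hab z (Set.mem_singleton z)
    apply Subtype.ext
    show (a:H) * z * (a:H)⁻¹ = (b:H) * z * (b:H)⁻¹
    simp only [Subgroup.coe_mul, Subgroup.coe_inv] at this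
    calc (a:H) * z * (a:H)⁻¹ = (a:H) * (z * ((a:H)⁻¹ * b)) * (b:H)⁻¹ := by group
      _ = (a:H) * (((a:H)⁻¹ * b) * z) * (b:H)⁻¹ := by rw [this]
      _ = _ := by group
  let φ : ↥L ⧸ C → ↥Z :=
    Quotient.lift φ₀ (fun a b hab => hφ₀ a b (QuotientGroup.leftRel_apply.mp hab))
  have hφmk : ∀ g : ↥L, φ (QuotientGroup.mk g) = φ₀ g := fun g => rfl
  set u : ↥Z := ∏ q : ↥L ⧸ C, φ q with hu
  refine ⟨u, u.2, ?_, ?_⟩
  · intro h hh
    let σ : ↥Z →* ↥Z :=
      { toFun := fun x => ⟨h * x * h⁻¹, hLZ h hh x x.2⟩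
        map_one' := by apply Subtype.ext; simp
        map_mul' := by intro x y; apply Subtype.ext; simp }
    have h1 : σ u = ∏ q : ↥L ⧸ C, σ (φ q) := map_prod σ φ Finset.univ
    have h2 : ∀ q : ↥L ⧸ C, σ (φ q) = φ ((⟨h, hh⟩ : L) • q) := by
      intro q
      induction q using QuotientGroup.induction_on with
      | H g =>
        rw [MulAction.Quotient.smul_mk, hφmk, hφmk]
        apply Subtype.ext
        show h * ((g:H) * z * (g:H)⁻¹) * h⁻¹ =
          (((⟨h,hh⟩ : L) • g : L) : H) * z * (((⟨h,hh⟩ : L) • g : L) : H)⁻¹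
        simp only [smul_eq_mul, Subgroup.coe_mul]
        group
    have h3 : ∏ q : ↥L ⧸ C, φ ((⟨h, hh⟩ : L) • q) = ∏ q : ↥L ⧸ C, φ q :=
      Equiv.prod_comp (MulAction.toPerm (⟨h, hh⟩ : L)) φ
    have h4 : σ u = u := by rw [h1]; simp_rw [h2]; exact h3
    exact congrArg Subtype.val h4
  · set zz : ↥Z := ⟨z, hz⟩ with hzz
    have h1 : u = (∏ q : ↥L ⧸ C, φ q * zz⁻¹) * zz ^ C.index := by
      rw [Finset.prod_mul_distrib, Finset.prod_const, Finset.card_univ, inv_pow]
      have : C.index = Fintype.card (↥L ⧸ C) := by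
        rw [← Nat.card_eq_fintype_card]; rfl
      rw [this, inv_mul_cancel_right]
    have h2 : (∏ q : ↥L ⧸ C, φ q * zz⁻¹) ∈ (⁅L, Z⁆).subgroupOf Z := by
      apply Subgroup.prod_mem
      intro q _
      induction q using QuotientGroup.induction_on with
      | H g =>
        rw [hφmk, Subgroup.mem_subgroupOf]
        show (g:H) * z * (g:H)⁻¹ * z⁻¹ ∈ ⁅L, Z⁆
        exact Subgroup.commutator_mem_commutator g.2 hz
    refine ⟨_, Subgroup.mem_subgroupOf.mp h2, ?_⟩
    have := congrArg Subtype.val h1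
    simpa using this

/-- `O^p(L)` in the ambient group is normalized by `L`. -/
theorem pResidualOf_conj_mem (p : ℕ) (L : Subgroup H) :
    ∀ g ∈ L, ∀ r ∈ (pResidual p ↥L).map L.subtype, g * r * g⁻¹ ∈ (pResidual p ↥L).map L.subtype := by
  intro g hg r hr
  obtain ⟨r', hr', rfl⟩ := Subgroup.mem_map.mp hr
  haveI := pResidual_normal (H := ↥L) p
  have := (pResidual_normal (H := ↥L) p).conj_mem r' hr' ⟨g, hg⟩
  exact Subgroup.mem_map.mpr ⟨_, this, rfl⟩

/-- `L = S · O^p(L)` elementwise, in the ambient group. -/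
theorem exists_mul_of_sylow_pResidual [Finite H] {p : ℕ} [Fact p.Prime] (L : Subgroup H)
    (S : Sylow p ↥L) (g : H) (hg : g ∈ L) :
    ∃ s ∈ (S : Subgroup ↥L).map L.subtype, ∃ r ∈ (pResidual p ↥L).map L.subtype, g = s * r := by
  haveI := pResidual_normal (H := ↥L) p
  have h := sylow_sup_pResidual S
  have hg' : (⟨g, hg⟩ : L) ∈ (S : Subgroup ↥L) ⊔ pResidual p ↥L := by rw [h]; trivial
  obtain ⟨s, hs, r, hr, hsr⟩ := Subgroup.mem_sup_of_normal_right.mp hg'
  refine ⟨s, Subgroup.mem_map.mpr ⟨s, hs, rfl⟩, r, Subgroup.mem_map.mpr ⟨r, hr, rfl⟩, ?_⟩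
  have := congrArg (fun x : L => (x : H)) hsr
  simpa using this.symm

theorem sylowCenterClosure_decomp [Finite H] {p : ℕ} [Fact p.Prime] (T : Sylow p H) (L : Subgroup H)
    (hTL : (T : Subgroup H) ≤ L)
    (hL : Subgroup.centralizer (pCore p ↥L : Set ↥L) ≤ pCore p ↥L) :
    sylowCenterClosure p L =
      omegaOne p (L ⊓ Subgroup.centralizer ((L : Subgroup H) : Set H)) ⊔
        ⁅sylowCenterClosure p L, (pResidual p ↥L).map L.subtype⁆ ∧
    ⁅sylowCenterClosure p L, L⁆ = ⁅sylowCenterClosure p L, (pResidual p ↥L).map L.subtype⁆ := by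
  have hp : p.Prime := Fact.out
  obtain ⟨-, hQT, hΩT, hZY, hYΩ⟩ := largestPReduced_sylow_facts T L hTL hL
  set Z := sylowCenterClosure p L with hZdef
  set R := (pResidual p ↥L).map L.subtype with hRdef
  set Q := pCoreOf p L with hQdef
  have hel : IsElementaryAbelian p Z :=
    isElementaryAbelian_of_le_omegaOne_center p Q Z (hZY.trans hYΩ)
  have hZL : Z ≤ L := Cfsg.Agent.Lib.Helper4_Amalgam2.sylowCenterClosure_le p L
  have hLZ : ∀ g ∈ L, ∀ x ∈ Z, g * x * g⁻¹ ∈ Z := fun g hg x hx =>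
    Cfsg.Agent.Lib.Helper4_Amalgam2.conj_mem_sylowCenterClosure L hg hx
  have hRL : R ≤ L := Subgroup.map_subtype_le _
  have hLR : ∀ g ∈ L, ∀ r ∈ R, g * r * g⁻¹ ∈ R := pResidualOf_conj_mem p L
  have hcomm : ∀ a ∈ Z, ∀ b ∈ Z, a * b = b * a := by
    intro a ha b hb
    exact congrArg Subtype.val (hel.1.is_comm.comm (⟨a, ha⟩ : Z) ⟨b, hb⟩)
  set W := ⁅Z, R⁆ with hWdef
  have hLW : ∀ g ∈ L, ∀ w ∈ W, g * w * g⁻¹ ∈ W := fun g hg =>
    commutator_conj_mem_of_normalizes Z R g (hLZ g hg) (hLR g hg)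
  -- (2)
  have h2 : ⁅Z, L⁆ ≤ W := by
    let A : Subgroup H :=
      { carrier := {z | z ∈ L ∧ ∀ g ∈ L, ⁅z, g⁆ ∈ W}
        mul_mem' := by
          rintro a b ⟨haL, ha⟩ ⟨hbL, hb⟩
          refine ⟨mul_mem haL hbL, ?_⟩
          intro g hg
          have e : ⁅a * b, g⁆ = (a * ⁅b, g⁆ * a⁻¹) * ⁅a, g⁆ := by
            simp only [commutatorElement_def]; group
          rw [e]
          exact mul_mem (hLW a haL _ (hb g hg)) (ha g hg)
        one_mem' := by
          refine ⟨L.one_mem, ?_⟩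
          intro g _
          rw [commutatorElement_one_left]
          exact W.one_mem
        inv_mem' := by
          rintro a ⟨haL, ha⟩
          refine ⟨inv_mem haL, ?_⟩
          intro g hg
          have e : ⁅a⁻¹, g⁆ = a⁻¹ * (⁅a, g⁆)⁻¹ * (a⁻¹)⁻¹ := by
            simp only [commutatorElement_def]; group
          rw [e]
          exact hLW _ (inv_mem haL) _ (inv_mem (ha g hg)) }
    have hZA : Z ≤ A := by
      conv_lhs => rw [hZdef]
      unfold sylowCenterClosure
      apply iSup_le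
      intro S
      have hSZ : omegaOne p (((S : Subgroup ↥L).map L.subtype) ⊓
          Subgroup.centralizer (((S : Subgroup ↥L).map L.subtype : Subgroup H) : Set H)) ≤ Z := by
        rw [hZdef]
        unfold sylowCenterClosure
        exact le_iSup (fun S : Sylow p ↥L => omegaOne p (((S : Subgroup ↥L).map L.subtype) ⊓
          Subgroup.centralizer (((S : Subgroup ↥L).map L.subtype : Subgroup H) : Set H))) S
      conv_lhs => unfold omegaOne
      rw [Subgroup.closure_le]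
      intro x hx
      have hxZ : x ∈ Z := hSZ (by unfold omegaOne; exact Subgroup.subset_closure hx)
      obtain ⟨⟨hxS, hxC⟩, hxp⟩ := hx
      refine ⟨hZL hxZ, ?_⟩
      intro g hg
      obtain ⟨s, hs, r, hr, rfl⟩ := exists_mul_of_sylow_pResidual L S g hg
      have hsx : s * x = x * s := Subgroup.mem_centralizer_iff.mp hxC s hs
      have hsL : s ∈ L := Subgroup.map_subtype_le _ hs
      have e : ⁅x, s * r⁆ = s * ⁅x, r⁆ * s⁻¹ := by
        simp only [commutatorElement_def]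
        calc x * (s * r) * x⁻¹ * (s * r)⁻¹ = (x * s) * r * x⁻¹ * r⁻¹ * s⁻¹ := by group
          _ = (s * x) * r * x⁻¹ * r⁻¹ * s⁻¹ := by rw [hsx]
          _ = _ := by group
      rw [e]
      exact hLW s hsL _ (Subgroup.commutator_mem_commutator hxZ hr)
    rw [Subgroup.commutator_le]
    intro z hz g hg
    exact (hZA hz).2 g hg
  have h2' : ⁅Z, L⁆ = W := le_antisymm h2 (Subgroup.commutator_mono le_rfl hRL)
  refine ⟨?_, h2'⟩
  -- (1)
  have hWZ : W ≤ Z := by
    rw [hWdef, Subgroup.commutator_le]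
    intro z hz r hr
    rw [commutatorElement_def]
    have := hLZ r (hRL hr) z⁻¹ (inv_mem hz)
    have e : z * r * z⁻¹ * r⁻¹ = z * (r * z⁻¹ * r⁻¹) := by group
    rw [e]
    exact mul_mem hz this
  obtain ⟨hQL, hLQ, hQp, hQmax⟩ := pCoreOf_facts (p := p) L
  have hΩLZ : omegaOne p (L ⊓ Subgroup.centralizer ((L : Subgroup H) : Set H)) ≤ Z := by
    refine le_trans ?_ hΩT
    unfold omegaOne
    apply Subgroup.closure_mono
    rintro x ⟨⟨hxL, hxC⟩, hxp⟩
    have hxC' : x ∈ Subgroup.centralizer ((L : Subgroup H) : Set H) := hxC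
    have hV : Subgroup.zpowers x ≤ pCoreOf p L := by
      apply hQmax
      · rw [Subgroup.zpowers_le]; exact hxL
      · intro g hg
        have hgx : g * x = x * g := (Subgroup.mem_centralizer_iff.mp hxC' g hg)
        rw [Subgroup.mem_normalizer_iff]
        intro y
        have : g * y * g⁻¹ = y ∨ True := Or.inr trivial
        constructor
        · intro hy
          obtain ⟨k, rfl⟩ := Subgroup.mem_zpowers_iff.mp hy
          have hc : Commute g (x ^ k) := (Commute.zpow_right hgx k)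
          have e : g * x ^ k * g⁻¹ = x ^ k := by rw [hc.eq]; group
          rw [e]; exact hy
        · intro hy
          obtain ⟨k, hk⟩ := Subgroup.mem_zpowers_iff.mp hy
          have hc : Commute g⁻¹ (x ^ k) := (Commute.zpow_right (Commute.inv_left hgx) k)
          have e : y = x ^ k := by
            have : y = g⁻¹ * (g * y * g⁻¹) * g := by group
            rw [this, ← hk, hc.eq]; group
          rw [e]; exact Subgroup.zpow_mem_zpowers x k
      · intro v hv
        obtain ⟨k, rfl⟩ := Subgroup.mem_zpowers_iff.mp hv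
        refine ⟨1, ?_⟩
        rw [pow_one, ← zpow_natCast, ← zpow_mul, mul_comm, zpow_mul, zpow_natCast, hxp, one_zpow]
    have hxT : x ∈ (T : Subgroup H) := (hQT (hV (Subgroup.mem_zpowers x))).1
    refine ⟨⟨hxT, ?_⟩, hxp⟩
    exact Subgroup.centralizer_le hTL hxC'
  apply le_antisymm _ (sup_le hΩLZ hWZ)
  conv_lhs => rw [hZdef]
  unfold sylowCenterClosure
  apply iSup_le
  intro S
  have hSZ : omegaOne p (((S : Subgroup ↥L).map L.subtype) ⊓
      Subgroup.centralizer (((S : Subgroup ↥L).map L.subtype : Subgroup H) : Set H)) ≤ Z := by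
    rw [hZdef]
    unfold sylowCenterClosure
    exact le_iSup (fun S : Sylow p ↥L => omegaOne p (((S : Subgroup ↥L).map L.subtype) ⊓
      Subgroup.centralizer (((S : Subgroup ↥L).map L.subtype : Subgroup H) : Set H))) S
  conv_lhs => unfold omegaOne
  rw [Subgroup.closure_le]
  intro x hx
  have hxZ : x ∈ Z := hSZ (by unfold omegaOne; exact Subgroup.subset_closure hx)
  obtain ⟨⟨hxS, hxC⟩, hxp⟩ := hx
  obtain ⟨u, huZ, huinv, w, hw, huw⟩ := orbit_product L Z hLZ hcomm x hxZ
  set n := ((Subgroup.centralizer ({x} : Set H)).subgroupOf L).index with hn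
  have hSle : (S : Subgroup ↥L) ≤ (Subgroup.centralizer ({x} : Set H)).subgroupOf L := by
    intro s hs
    rw [Subgroup.mem_subgroupOf, Subgroup.mem_centralizer_iff]
    intro y hy
    rw [Set.mem_singleton_iff] at hy
    rw [hy]
    exact (Subgroup.mem_centralizer_iff.mp hxC _ (Subgroup.mem_map.mpr ⟨s, hs, rfl⟩)).symm
  have hnp : ¬ p ∣ n := fun h => S.not_dvd_index (h.trans (Subgroup.index_dvd_of_le hSle))
  have hcop : Nat.Coprime n p := (Nat.Coprime.symm ((Nat.Prime.coprime_iff_not_dvd hp).mpr hnp))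
  obtain ⟨m, -, hm⟩ := Nat.exists_mul_mod_eq_one_of_coprime hcop hp.one_lt
  have hx_eq : x = (x ^ n) ^ m := by
    rw [← pow_mul, pow_eq_pow_mod (n * m) hxp, hm, pow_one]
  have hxn : x ^ n = w⁻¹ * u := by rw [huw]; group
  have huΩ : u ∈ omegaOne p (L ⊓ Subgroup.centralizer ((L : Subgroup H) : Set H)) := by
    apply Subgroup.subset_closure
    refine ⟨⟨hZL huZ, ?_⟩, hel.2 u huZ⟩
    show u ∈ Subgroup.centralizer ((L : Subgroup H) : Set H)
    rw [Subgroup.mem_centralizer_iff]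
    intro h hh
    have := huinv h hh
    calc h * u = (h * u * h⁻¹) * h := by group
      _ = u * h := by rw [this]
  have hwW : w ∈ W := by
    rw [← h2', Subgroup.commutator_comm]; exact hw
  rw [SetLike.mem_coe, hx_eq, hxn]
  apply pow_mem
  exact mul_mem (Subgroup.mem_sup_right (inv_mem hwW)) (Subgroup.mem_sup_left huΩ)

end Cfsg.Agent.Lib.Helper4_OrbitProd
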