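import Mathlib

namespace Cfsg.Agent.Lib.Helper4_SylowNormal

variable {G : Type*} [Group G]

/-- The intersection of a Sylow subgroup with a normal subgroup is a Sylow subgroup of the latter. -/
theorem exists_sylow_eq_subgroupOf [Finite G] {p : ℕ} [Fact p.Prime] (P : Sylow p G) (N : Subgroup G)
    [hN : N.Normal] : ∃ Q : Sylow p ↥N, (Q : Subgroup ↥N) = (P : Subgroup G).subgroupOf N := by
  have hp : IsPGroup p ((P : Subgroup G).subgroupOf N) := P.isPGroup'.comap_subtype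
  obtain ⟨Q, hQ⟩ := hp.exists_le_sylow
  refine ⟨Q, ?_⟩
  set Q' : Subgroup G := (Q : Subgroup ↥N).map N.subtype with hQ'
  have hQ'p : IsPGroup p Q' := Q.isPGroup'.map _
  obtain ⟨P₁, hP₁⟩ := hQ'p.exists_le_sylow
  obtain ⟨g, hg⟩ := MulAction.exists_smul_eq G P P₁
  have hQ'N : Q' ≤ N := Subgroup.map_subtype_le _
  -- conjugating Q' by g⁻¹ lands in P ⊓ N
  have h1 : Q'.map (MulAut.conj g⁻¹).toMonoidHom ≤ (P : Subgroup G) ⊓ N := by
    intro y hy
    obtain ⟨x, hx, rfl⟩ := Subgroup.mem_map.mp hy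
    simp only [MulEquiv.coe_toMonoidHom, MulAut.conj_apply, inv_inv]
    constructor
    · have hx1 : x ∈ (P₁ : Subgroup G) := hP₁ hx
      rw [← hg, Sylow.coe_subgroup_smul, Subgroup.mem_pointwise_smul_iff_inv_smul_mem] at hx1
      have hx2 : g⁻¹ * x * g ∈ (P : Subgroup G) := by simpa [MulAut.smul_def] using hx1
      exact hx2
    · have := hN.conj_mem x (hQ'N hx) g⁻¹
      simpa using this
  have h2 : (P : Subgroup G) ⊓ N ≤ Q' := by
    intro x hx
    exact Subgroup.mem_map.mpr ⟨⟨x, hx.2⟩, hQ (by rw [Subgroup.mem_subgroupOf]; exact hx.1), rfl⟩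
  have hcard : Nat.card Q' ≤ Nat.card ↥((P : Subgroup G) ⊓ N) := by
    have e : Nat.card (Q'.map (MulAut.conj g⁻¹).toMonoidHom) = Nat.card Q' :=
      Subgroup.card_map_of_injective (f := (MulAut.conj g⁻¹).toMonoidHom) (MulAut.conj g⁻¹).injective
    rw [← e]
    exact Subgroup.card_le_of_le h1
  have h3 : (P : Subgroup G) ⊓ N = Q' := Subgroup.eq_of_le_of_card_ge h2 hcard
  apply le_antisymm _ hQ
  intro x hx
  rw [Subgroup.mem_subgroupOf]
  have : (x : G) ∈ Q' := Subgroup.mem_map.mpr ⟨x, hx, rfl⟩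
  rw [← h3] at this
  exact this.1

end Cfsg.Agent.Lib.Helper4_SylowNormal
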