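import Mathlib
import Cfsg.Prelude.Def_LocalStructure
import Cfsg.Agent.Lib.Helper4_PReduced5
import Cfsg.Agent.Lib.Helper4_SylowNormal

namespace Cfsg.Agent.Lib.Helper4_PReduced6

open Cfsg Cfsg.Agent.Lib.Helper4_PCore Cfsg.Agent.Lib.Helper4_Minimal Cfsg.Agent.Lib.Helper4_PIrred
  Cfsg.Agent.Lib.Helper4_PIrred2 Cfsg.Agent.Lib.Helper4_PReduced Cfsg.Agent.Lib.Helper4_PReduced2
  Cfsg.Agent.Lib.Helper4_PReduced3 Cfsg.Agent.Lib.Helper4_PReduced4 Cfsg.Agent.Lib.Helper4_PReduced5
open scoped commutatorElement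

variable {L : Type*} [Group L]

/-- `Ω₁(Z(Q))` is normal when `Q` is. -/
theorem omegaOne_center_normal (p : ℕ) (Q : Subgroup L) [hQ : Q.Normal] :
    (omegaOne p (Q ⊓ Subgroup.centralizer (Q : Set L))).Normal := by
  unfold omegaOne
  have : Subgroup.closure {x : L | x ∈ Q ⊓ Subgroup.centralizer (Q : Set L) ∧ x ^ p = 1} =
      Subgroup.normalClosure {x : L | x ∈ Q ⊓ Subgroup.centralizer (Q : Set L) ∧ x ^ p = 1} := by
    apply le_antisymm
    · exact Subgroup.closure_le_normalClosure
    · rw [Subgroup.normalClosure]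
      apply Subgroup.closure_mono
      intro y hy
      obtain ⟨x, hx, hconj⟩ := Group.mem_conjugatesOfSet_iff.mp hy
      obtain ⟨g, rfl⟩ := isConj_iff.mp hconj
      obtain ⟨⟨hxQ, hxC⟩, hxp⟩ := hx
      refine ⟨⟨hQ.conj_mem _ hxQ g, ?_⟩, ?_⟩
      · show g * x * g⁻¹ ∈ Subgroup.centralizer (Q : Set L)
        haveI : (Subgroup.centralizer (Q : Set L)).Normal := inferInstance
        exact Subgroup.Normal.conj_mem inferInstance _ hxC g
      · rw [conj_pow, hxp]; group
  rw [this]
  exact Subgroup.normalClosure_normal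

/-- a normal subgroup centralizing `X` centralizes the normal closure of `X`. -/
theorem le_centralizer_normalClosure (D : Subgroup L) [hD : D.Normal] (X : Subgroup L)
    (h : D ≤ Subgroup.centralizer (X : Set L)) :
    D ≤ Subgroup.centralizer ((Subgroup.normalClosure (X : Set L) : Subgroup L) : Set L) := by
  rw [← Subgroup.le_centralizer_iff]
  haveI : (Subgroup.centralizer (D : Set L)).Normal := inferInstance
  apply Subgroup.normalClosure_le_normal
  intro x hx
  have := Subgroup.le_centralizer_iff.mp h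
  exact this hx

theorem relPReduced_normalClosure [Finite L] {p : ℕ} [Fact p.Prime]
    (hchar : Subgroup.centralizer (pCore p L : Set L) ≤ pCore p L) (T : Sylow p L)
    (R : Subgroup L) (hTR : (T : Subgroup L) ≤ R) (X : Subgroup L) (hX : RelPReduced p R X) :
    IsPReducedNormal p (Subgroup.normalClosure (X : Set L)) := by
  obtain ⟨hXR, hRX, hel, hno⟩ := hX
  set Q := pCore p L with hQdef
  haveI hQn : Q.Normal := pCore_normal p L
  have hQp : IsPGroup p Q := pCore_isPGroup
  have hQT : Q ≤ T := pCore_le_sylow T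
  have hQC : Q ≤ Subgroup.centralizer (X : Set L) := by
    apply hno Q (hQT.trans hTR)
    · intro r _
      rw [Subgroup.mem_normalizer_iff]
      intro y
      exact ⟨fun h => hQn.conj_mem y h r, fun h => by
        have := hQn.conj_mem _ h r⁻¹
        simpa [mul_assoc] using this⟩
    · intro d hd
      obtain ⟨k, hk⟩ := hQp ⟨d, hd⟩
      refine ⟨k, ?_⟩
      have hk' : d ^ (p ^ k) = 1 := by
        have := congrArg Subtype.val hk
        simpa using this
      rw [hk']; exact Subgroup.one_mem _
  set W := omegaOne p (Q ⊓ Subgroup.centralizer (Q : Set L)) with hW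
  haveI hWn : W.Normal := omegaOne_center_normal p Q
  have hXW : X ≤ W := by
    intro x hx
    have hxC : x ∈ Subgroup.centralizer (Q : Set L) := by
      rw [Subgroup.mem_centralizer_iff]
      intro q hq
      exact (Subgroup.mem_centralizer_iff.mp (hQC hq) x hx).symm
    apply Subgroup.subset_closure
    exact ⟨⟨hchar hxC, hxC⟩, hel.2 x hx⟩
  set V := Subgroup.normalClosure (X : Set L) with hV
  have hVW : V ≤ W := Subgroup.normalClosure_le_normal hXW
  rw [isPReducedNormal_iff]
  refine ⟨Subgroup.normalClosure_normal, isElementaryAbelian_of_le_omegaOne_center p Q V hVW, ?_⟩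
  intro D hDn hDp
  haveI := hDn
  apply le_centralizer_normalClosure D X
  set CV := Subgroup.centralizer (V : Set L) with hCV
  have hCVX : CV ≤ Subgroup.centralizer (X : Set L) :=
    Subgroup.centralizer_le Subgroup.subset_normalClosure
  -- D ⊓ R ≤ C(X)
  have hDR : D ⊓ R ≤ Subgroup.centralizer (X : Set L) := by
    apply hno (D ⊓ R) inf_le_right
    · intro r hr
      rw [Subgroup.mem_normalizer_iff]
      intro y
      rw [Subgroup.mem_inf, Subgroup.mem_inf]
      constructor
      · rintro ⟨h1, h2⟩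
        exact ⟨hDn.conj_mem y h1 r, mul_mem (mul_mem hr h2) (inv_mem hr)⟩
      · rintro ⟨h1, h2⟩
        constructor
        · have := hDn.conj_mem _ h1 r⁻¹
          simpa [mul_assoc] using this
        · have := mul_mem (mul_mem (inv_mem hr) h2) hr
          simpa [mul_assoc] using this
    · intro d hd
      obtain ⟨k, hk⟩ := hDp d hd.1
      exact ⟨k, hCVX hk⟩
  obtain ⟨PD, hPD⟩ := Cfsg.Agent.Lib.Helper4_SylowNormal.exists_sylow_eq_subgroupOf T D
  haveI hCVn : CV.Normal := inferInstance
  haveI hRn : (CV.subgroupOf D).Normal := inferInstance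
  have hquot : IsPGroup p (↥D ⧸ CV.subgroupOf D) := by
    intro y
    induction y using QuotientGroup.induction_on with
    | H d' =>
      obtain ⟨k, hk⟩ := hDp d' d'.2
      refine ⟨k, ?_⟩
      rw [← QuotientGroup.mk_pow, QuotientGroup.eq_one_iff, Subgroup.mem_subgroupOf]
      simpa using hk
  have htop := sylow_sup_eq_top_of_quotient_pGroup PD (CV.subgroupOf D) hquot
  intro d hd
  have hdtop : (⟨d, hd⟩ : D) ∈ (PD : Subgroup ↥D) ⊔ CV.subgroupOf D := by
    rw [htop]; exact Subgroup.mem_top _
  obtain ⟨t, ht, r, hr, htr⟩ := Subgroup.mem_sup_of_normal_right.mp hdtop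
  rw [hPD, Subgroup.mem_subgroupOf] at ht
  rw [Subgroup.mem_subgroupOf] at hr
  have hd_eq : d = (t : L) * (r : L) := by
    have := congrArg (fun x : D => (x : L)) htr
    simpa using this.symm
  rw [hd_eq]
  exact mul_mem (hDR ⟨t.2, hTR ht⟩) (hCVX hr)

end Cfsg.Agent.Lib.Helper4_PReduced6
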