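import Mathlib
import Cfsg.Prelude.Def_LocalStructure
import Cfsg.Agent.Lib.Helper4_PReduced6
import Cfsg.Agent.Lib.Helper4_Amalgam4

namespace Cfsg.Agent.Lib.Helper4_PReduced7

open Cfsg Cfsg.Agent.Lib.Helper4_PCore Cfsg.Agent.Lib.Helper4_Minimal Cfsg.Agent.Lib.Helper4_PIrred
  Cfsg.Agent.Lib.Helper4_PIrred2 Cfsg.Agent.Lib.Helper4_PReduced Cfsg.Agent.Lib.Helper4_PReduced2
  Cfsg.Agent.Lib.Helper4_PReduced3 Cfsg.Agent.Lib.Helper4_PReduced4 Cfsg.Agent.Lib.Helper4_PReduced5
  Cfsg.Agent.Lib.Helper4_PReduced6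
open scoped commutatorElement

variable {L : Type*} [Group L]

/-- conjugation invariance of `Z(K) = K ⊓ C(K)` under elements normalizing `K`. -/
theorem center_conj_mem (K : Subgroup L) (g : L) (hg : g ∈ Subgroup.normalizer (K : Set L))
    (x : L) (hx : x ∈ K ⊓ Subgroup.centralizer (K : Set L)) :
    g * x * g⁻¹ ∈ K ⊓ Subgroup.centralizer (K : Set L) := by
  rw [Subgroup.mem_inf] at hx ⊢
  obtain ⟨hxK, hxC⟩ := hx
  refine ⟨(Subgroup.mem_normalizer_iff.mp hg x).mp hxK, ?_⟩
  rw [Subgroup.mem_centralizer_iff]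
  intro k hk
  have hk' : g⁻¹ * k * g ∈ K := by
    have := (Subgroup.mem_normalizer_iff.mp (inv_mem hg) k).mp hk
    simpa using this
  have := Subgroup.mem_centralizer_iff.mp hxC _ hk'
  calc k * (g * x * g⁻¹) = g * ((g⁻¹ * k * g) * x) * g⁻¹ := by group
    _ = g * (x * (g⁻¹ * k * g)) * g⁻¹ := by rw [this]
    _ = g * x * g⁻¹ * k := by group

theorem largest_pReduced_structure [Finite L] {p : ℕ} [Fact p.Prime]
    (hchar : Subgroup.centralizer (pCore p L : Set L) ≤ pCore p L) (T : Sylow p L) (Y : Subgroup L)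
    (hY : IsPReducedNormal p Y ∧ ∀ V : Subgroup L, IsPReducedNormal p V → V ≤ Y) :
    (∀ g : L, ∃ a ∈ Subgroup.normalizer
        (((T : Subgroup L) ⊓ Subgroup.centralizer (Y : Set L) : Subgroup L) : Set L),
        ∃ c ∈ Subgroup.centralizer (Y : Set L), g = a * c) ∧
    pCoreOf p (Subgroup.normalizer
        (((T : Subgroup L) ⊓ Subgroup.centralizer (Y : Set L) : Subgroup L) : Set L)) =
      (T : Subgroup L) ⊓ Subgroup.centralizer (Y : Set L) ∧
    Y = omegaOne p (((T : Subgroup L) ⊓ Subgroup.centralizer (Y : Set L)) ⊓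
      Subgroup.centralizer ((((T : Subgroup L) ⊓ Subgroup.centralizer (Y : Set L)) : Subgroup L) : Set L)) := by
  obtain ⟨hYred, hYmax⟩ := hY
  obtain ⟨hYn, hYel, hYno⟩ := (isPReducedNormal_iff Y).mp hYred
  haveI := hYn
  set C := Subgroup.centralizer (Y : Set L) with hC
  haveI hCn : C.Normal := inferInstance
  set TL := (T : Subgroup L) ⊓ C with hTLdef
  set N := Subgroup.normalizer (TL : Set L) with hN
  -- Frattini
  obtain ⟨PC, hPC⟩ := Cfsg.Agent.Lib.Helper4_SylowNormal.exists_sylow_eq_subgroupOf T C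
  have hmap : (PC : Subgroup C).map C.subtype = TL := by
    rw [hPC, Subgroup.subgroupOf_map_subtype]
  have hfr := Sylow.normalizer_sup_eq_top PC
  rw [hmap] at hfr
  have hA : ∀ g : L, ∃ a ∈ N, ∃ c ∈ C, g = a * c := by
    intro g
    have : g ∈ N ⊔ C := by rw [hfr]; trivial
    obtain ⟨a, ha, c, hc, h⟩ := Subgroup.mem_sup_of_normal_right.mp this
    exact ⟨a, ha, c, hc, h.symm⟩
  -- Lemma A
  have hLemA : ∀ D : Subgroup L, N ≤ Subgroup.normalizer (D : Set L) →
      (∀ d ∈ D, ∃ k : ℕ, d ^ (p ^ k) ∈ C) → D ≤ C := by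
    intro D hND hDp
    have hn : (D ⊔ C).Normal := by
      constructor
      intro x hx g
      obtain ⟨a, ha, c, hc, rfl⟩ := hA g
      obtain ⟨d, hd, c', hc', rfl⟩ := Subgroup.mem_sup_of_normal_right.mp hx
      have h1 : a * d * a⁻¹ ∈ D := (Subgroup.mem_normalizer_iff.mp (hND ha) d).mp hd
      have h2 : a * (d⁻¹ * c * d * c⁻¹) * a⁻¹ ∈ C := by
        apply hCn.conj_mem
        apply mul_mem _ (inv_mem hc)
        have := hCn.conj_mem c hc d⁻¹
        simpa [mul_assoc] using this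
      have h3 : (a * c) * c' * (a * c)⁻¹ ∈ C := hCn.conj_mem c' hc' _
      have e : a * c * (d * c') * (a * c)⁻¹ =
          (a * d * a⁻¹) * ((a * (d⁻¹ * c * d * c⁻¹) * a⁻¹) * ((a * c) * c' * (a * c)⁻¹)) := by group
      rw [e]
      exact Subgroup.mul_mem_sup h1 (mul_mem h2 h3)
    have := hYno (D ⊔ C) hn (by
      intro x hx
      obtain ⟨d, hd, c', hc', rfl⟩ := Subgroup.mem_sup_of_normal_right.mp hx
      obtain ⟨k, hk⟩ := hDp d hd
      refine ⟨k, ?_⟩
      rw [← QuotientGroup.eq_one_iff, QuotientGroup.mk_pow, QuotientGroup.mk_mul,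
        (QuotientGroup.eq_one_iff c').mpr hc', mul_one, ← QuotientGroup.mk_pow,
        QuotientGroup.eq_one_iff]
      exact hk)
    exact le_sup_left.trans this
  -- T ≤ N
  have hTN : (T : Subgroup L) ≤ N := by
    apply le_normalizer_of_conj_mem'
    intro t ht w hw
    rw [hTLdef, Subgroup.mem_inf] at hw ⊢
    exact ⟨mul_mem (mul_mem ht hw.1) (inv_mem ht), hCn.conj_mem w hw.2 t⟩
  have hTLN : TL ≤ N := Subgroup.le_normalizer
  have hTLp : ∀ v ∈ TL, ∃ k : ℕ, v ^ (p ^ k) = 1 := by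
    intro v hv
    obtain ⟨k, hk⟩ := T.isPGroup' ⟨v, hv.1⟩
    refine ⟨k, ?_⟩
    have := congrArg Subtype.val hk
    simpa using this
  obtain ⟨hQN, hNQ, hQp, hQmax⟩ := pCoreOf_facts (p := p) N
  set P₀ := pCoreOf p N with hP₀
  have hP₀T : P₀ ≤ T := by
    intro x hx
    obtain ⟨q, hq, rfl⟩ := Subgroup.mem_map.mp hx
    have := pCore_le_sylow (T.subtype hTN) hq
    rw [Sylow.coe_subtype] at this
    exact Subgroup.mem_subgroupOf.mp this
  have hP₀C : P₀ ≤ C := by
    apply hLemA P₀ hNQ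
    intro d hd
    obtain ⟨k, hk⟩ := hQp d hd
    exact ⟨k, by rw [hk]; exact Subgroup.one_mem _⟩
  have hB : P₀ = TL := le_antisymm (le_inf hP₀T hP₀C) (hQmax TL hTLN le_rfl hTLp)
  refine ⟨hA, hB, ?_⟩
  -- (c)
  set X' := omegaOne p (TL ⊓ Subgroup.centralizer (TL : Set L)) with hX'
  have hYp : IsPGroup p Y := by
    intro y
    refine ⟨1, ?_⟩
    apply Subtype.ext
    simpa using hYel.2 y y.2
  have hYT : Y ≤ T := (le_pCore Y hYn hYp).trans (pCore_le_sylow T)
  have hYC : Y ≤ C := by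
    intro y hy
    rw [hC, Subgroup.mem_centralizer_iff]
    intro z hz
    exact congrArg Subtype.val (hYel.1.is_comm.comm (⟨z, hz⟩ : Y) ⟨y, hy⟩)
  have hYX' : Y ≤ X' := by
    intro y hy
    apply Subgroup.subset_closure
    refine ⟨⟨⟨hYT hy, hYC hy⟩, ?_⟩, hYel.2 y hy⟩
    show y ∈ Subgroup.centralizer (TL : Set L)
    rw [Subgroup.mem_centralizer_iff]
    intro t ht
    exact (Subgroup.mem_centralizer_iff.mp ht.2 y hy).symm
  apply le_antisymm hYX'
  have hX'TL : X' ≤ TL := (Cfsg.Agent.Lib.Helper4_Amalgam3.omegaOne_le p _).trans inf_le_left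
  have hTLX' : TL ≤ Subgroup.centralizer (X' : Set L) := by
    intro t ht
    rw [Subgroup.mem_centralizer_iff]
    intro x hx
    have hx' : x ∈ TL ⊓ Subgroup.centralizer (TL : Set L) := Cfsg.Agent.Lib.Helper4_Amalgam3.omegaOne_le p _ hx
    rw [Subgroup.mem_inf] at hx'
    exact (Subgroup.mem_centralizer_iff.mp hx'.2 t ht).symm
  have hCX'C : Subgroup.centralizer (X' : Set L) ≤ C := Subgroup.centralizer_le hYX'
  have hNX' : N ≤ Subgroup.normalizer (X' : Set L) := by
    apply le_normalizer_of_conj_mem'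
    exact Cfsg.Agent.Lib.Helper4_Amalgam4.omegaOne_conj_mem p _ N
      (fun g hg x hx => center_conj_mem TL g hg x hx)
  have hrel : RelPReduced p N X' := by
    refine ⟨hX'TL.trans hTLN, hNX', isElementaryAbelian_of_le_omegaOne_center p TL X' le_rfl, ?_⟩
    intro D hDN hND hDp
    set CX := Subgroup.centralizer (X' : Set L) with hCX
    have hDC : D ≤ C := hLemA D hND (fun d hd => (hDp d hd).imp fun k hk => hCX'C hk)
    -- every p-subgroup of N ⊓ C lies in TL
    have hpsub : ∀ P : Subgroup L, P ≤ N → P ≤ C → IsPGroup p P → P ≤ TL := by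
      intro P hPN hPleC hPp
      have hTLpg : IsPGroup p TL := T.isPGroup'.to_le inf_le_left
      have hsup : IsPGroup p (P ⊔ TL : Subgroup L) := hPp.to_sup_of_normal_right' hTLpg hPN
      have hsupC : P ⊔ TL ≤ C := sup_le hPleC inf_le_right
      have h1 : IsPGroup p ((P ⊔ TL).subgroupOf C) := hsup.comap_subtype
      have h2 : (PC : Subgroup C) ≤ (P ⊔ TL).subgroupOf C := by
        rw [hPC]
        intro x hx
        rw [Subgroup.mem_subgroupOf] at hx ⊢
        exact Subgroup.mem_sup_right ⟨hx, x.2⟩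
      have h3 := PC.is_maximal' h1 h2
      intro x hx
      have hx' : (⟨x, hPleC hx⟩ : C) ∈ (P ⊔ TL).subgroupOf C := by
        rw [Subgroup.mem_subgroupOf]; exact Subgroup.mem_sup_left hx
      rw [h3, hPC, Subgroup.mem_subgroupOf] at hx'
      exact ⟨hx', hPleC hx⟩
    have hDCX : D ≤ Subgroup.normalizer (CX : Set L) :=
      (hDN.trans hNX').trans (normalizer_le_normalizer_centralizer X')
    haveI hRn : (CX.subgroupOf D).Normal := by
      rw [← Subgroup.inf_subgroupOf_right,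
        Subgroup.normal_subgroupOf_iff_le_normalizer inf_le_right]
      intro d' hd'
      rw [Subgroup.mem_normalizer_iff]
      intro y
      have h1 := Subgroup.mem_normalizer_iff.mp (hDCX hd') y
      rw [Subgroup.mem_inf, Subgroup.mem_inf]
      constructor
      · rintro ⟨h2, h3⟩
        exact ⟨h1.mp h2, mul_mem (mul_mem hd' h3) (inv_mem hd')⟩
      · rintro ⟨h2, h3⟩
        refine ⟨h1.mpr h2, ?_⟩
        have := mul_mem (mul_mem (inv_mem hd') h3) hd'
        have e : d'⁻¹ * (d' * y * d'⁻¹) * d' = y := by group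
        rwa [e] at this
    have hquot : IsPGroup p (↥D ⧸ CX.subgroupOf D) := by
      intro y
      induction y using QuotientGroup.induction_on with
      | H d' =>
        obtain ⟨k, hk⟩ := hDp d' d'.2
        refine ⟨k, ?_⟩
        rw [← QuotientGroup.mk_pow, QuotientGroup.eq_one_iff, Subgroup.mem_subgroupOf]
        simpa using hk
    obtain ⟨PD⟩ : Nonempty (Sylow p ↥D) := inferInstance
    have htop := sylow_sup_eq_top_of_quotient_pGroup PD (CX.subgroupOf D) hquot
    have hPDle : (PD : Subgroup ↥D).map D.subtype ≤ TL := by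
      apply hpsub
      · exact (Subgroup.map_subtype_le _).trans hDN
      · exact (Subgroup.map_subtype_le _).trans hDC
      · exact PD.isPGroup'.map _
    intro d hd
    have hdtop : (⟨d, hd⟩ : D) ∈ (PD : Subgroup ↥D) ⊔ CX.subgroupOf D := by
      rw [htop]; exact Subgroup.mem_top _
    obtain ⟨t, ht, r, hr, htr⟩ := Subgroup.mem_sup_of_normal_right.mp hdtop
    rw [Subgroup.mem_subgroupOf] at hr
    have hd_eq : d = (t : L) * (r : L) := by
      have := congrArg (fun x : D => (x : L)) htr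
      simpa using this.symm
    rw [hd_eq]
    exact mul_mem (hTLX' (hPDle (Subgroup.mem_map.mpr ⟨t, ht, rfl⟩))) hr
  have hcl := relPReduced_normalClosure hchar T N hTN X' hrel
  exact Subgroup.subset_normalClosure.trans (hYmax _ hcl)

end Cfsg.Agent.Lib.Helper4_PReduced7
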