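import Mathlib
import Cfsg.Prelude.Def_LocalStructure
import Cfsg.Agent.Lib.Helper4_Subnormal
import Cfsg.Agent.Lib.Helper4_OrbitProd

namespace Cfsg.Agent.Lib.Helper4_SubnormalClosure

open Cfsg Cfsg.Agent.Lib.Helper4_PCore Cfsg.Agent.Lib.Helper4_Minimal Cfsg.Agent.Lib.Helper4_PIrred
  Cfsg.Agent.Lib.Helper4_Subnormal Cfsg.Agent.Lib.Helper4_OrbitProd
open scoped commutatorElement

universe u

variable {H : Type u} [Group H]

/-- every subgroup of a finite `p`-group is subnormal. -/
theorem isSubnormal_of_isPGroup [Finite H] {p : ℕ} [Fact p.Prime] (hH : IsPGroup p H)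
    (B : Subgroup H) : B.IsSubnormal := by
  haveI : Group.IsNilpotent H := hH.isNilpotent
  have hnc := Group.normalizerCondition_of_isNilpotent (G := H)
  induction B using WellFoundedGT.induction with
  | ind B ih =>
    by_cases hB : B = ⊤
    · rw [hB]; exact Subgroup.IsSubnormal.top
    · have hlt : B < Subgroup.normalizer (B : Set H) := hnc B (lt_top_iff_ne_top.mpr hB)
      exact Subgroup.IsSubnormal.step B _ hlt.le (ih _ hlt) Subgroup.normal_in_normalizer

/-- a subgroup containing a normal subgroup with `p`-group quotient is subnormal. -/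
theorem isSubnormal_of_le_of_quotient_isPGroup [Finite H] {p : ℕ} [Fact p.Prime]
    (R : Subgroup H) [R.Normal] (hQ : IsPGroup p (H ⧸ R)) (B : Subgroup H) (hRB : R ≤ B) :
    B.IsSubnormal := by
  have h1 : (B.map (QuotientGroup.mk' R)).IsSubnormal := isSubnormal_of_isPGroup hQ _
  have h2 := h1.comap (QuotientGroup.mk' R)
  rw [Subgroup.comap_map_eq, QuotientGroup.ker_mk', sup_of_le_left hRB] at h2
  exact h2

theorem subnormalClosure_mem [Finite H] (A : Subgroup H) :
    A ≤ subnormalClosure A ∧ (subnormalClosure A).IsSubnormal := by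
  classical
  unfold subnormalClosure
  have hfin : {K : Subgroup H | A ≤ K ∧ K.IsSubnormal}.Finite := Set.toFinite _
  have h1 : sInf {K : Subgroup H | A ≤ K ∧ K.IsSubnormal} = hfin.toFinset.inf id := by
    rw [Finset.inf_id_eq_sInf, Set.Finite.coe_toFinset]
  rw [h1]
  apply Finset.inf_mem {K : Subgroup H | A ≤ K ∧ K.IsSubnormal}
  · exact ⟨le_top, Subgroup.IsSubnormal.top⟩
  · intro x hx y hy
    exact ⟨le_inf hx.1 hy.1, hx.2.inf hy.2⟩
  · intro V hV
    rwa [Set.Finite.mem_toFinset] at hV

theorem subnormalClosure_le (A B : Subgroup H) (hAB : A ≤ B) (hB : B.IsSubnormal) :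
    subnormalClosure A ≤ B := by
  unfold subnormalClosure
  exact sInf_le ⟨hAB, hB⟩

/-- a subgroup of `K` normal in `K` (relative form) is subnormal in `H` when `K` is. -/
theorem isSubnormal_of_normal_in (K B : Subgroup H) (hK : K.IsSubnormal) (hBK : B ≤ K)
    (hKB : K ≤ Subgroup.normalizer (B : Set H)) : B.IsSubnormal :=
  Subgroup.IsSubnormal.step B K hBK hK ((Subgroup.normal_subgroupOf_iff_le_normalizer hBK).mpr hKB)

theorem subnormalClosure_properties [Finite H] {p : ℕ} [Fact p.Prime] (A : Subgroup H) :
    (Subgroup.normalClosure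
        ((A.subgroupOf (subnormalClosure A) : Subgroup ↥(subnormalClosure A)) :
          Set ↥(subnormalClosure A))).map (subnormalClosure A).subtype = subnormalClosure A ∧
    Subgroup.normalizer (A : Set H) ≤ Subgroup.normalizer ((subnormalClosure A : Subgroup H) : Set H) ∧
    A ⊔ (pResidual p ↥(subnormalClosure A)).map (subnormalClosure A).subtype = subnormalClosure A ∧
    (IsPGroup p ↥A →
      ⁅(pResidual p ↥(subnormalClosure A)).map (subnormalClosure A).subtype, A⁆ =
        (pResidual p ↥(subnormalClosure A)).map (subnormalClosure A).subtype) := by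
  obtain ⟨hAK, hKsn⟩ := subnormalClosure_mem A
  set K := subnormalClosure A with hK
  set R := (pResidual p ↥K).map K.subtype with hR
  have hRK : R ≤ K := Subgroup.map_subtype_le _
  have hKR : ∀ g ∈ K, ∀ r ∈ R, g * r * g⁻¹ ∈ R := pResidualOf_conj_mem p K
  have hKNR : K ≤ Subgroup.normalizer (R : Set H) := le_normalizer_of_conj_mem' K R hKR
  -- (3)
  have h3 : A ⊔ R = K := by
    apply le_antisymm (sup_le hAK hRK)
    apply subnormalClosure_le A _ le_sup_left
    have hB : ((A ⊔ R).subgroupOf K).IsSubnormal := by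
      haveI := pResidual_normal (H := ↥K) p
      apply isSubnormal_of_le_of_quotient_isPGroup (pResidual p ↥K) (quotient_pResidual_isPGroup p)
      intro x hx
      rw [Subgroup.mem_subgroupOf]
      exact Subgroup.mem_sup_right (Subgroup.mem_map.mpr ⟨x, hx, rfl⟩)
    exact hB.trans (sup_le hAK hRK) hKsn
  refine ⟨?_, ?_, h3, ?_⟩
  · -- (1)
    set N := (Subgroup.normalClosure ((A.subgroupOf K : Subgroup ↥K) : Set ↥K)).map K.subtype with hN
    have hNK : N ≤ K := Subgroup.map_subtype_le _
    apply le_antisymm hNK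
    apply subnormalClosure_le A N
    · intro a ha
      refine Subgroup.mem_map.mpr ⟨⟨a, hAK ha⟩, ?_, rfl⟩
      apply Subgroup.subset_normalClosure
      rw [SetLike.mem_coe, Subgroup.mem_subgroupOf]
      exact ha
    · exact (Subgroup.Normal.isSubnormal Subgroup.normalClosure_normal).trans' hKsn
  · -- (2)
    have key : ∀ g ∈ Subgroup.normalizer (A : Set H), K ≤ K.map (MulAut.conj g).toMonoidHom := by
      intro g hg
      apply subnormalClosure_le A
      · intro a ha
        have ha' : g⁻¹ * a * g ∈ A := by
          have := (Subgroup.mem_normalizer_iff.mp (inv_mem hg) a).mp ha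
          simpa using this
        refine Subgroup.mem_map.mpr ⟨g⁻¹ * a * g, hAK ha', ?_⟩
        simp only [MulEquiv.coe_toMonoidHom, MulAut.conj_apply]
        group
      · exact hKsn.map (MulAut.conj g).surjective
    apply le_normalizer_of_conj_mem'
    intro g hg k hk
    obtain ⟨k', hk', hkk'⟩ := Subgroup.mem_map.mp (key g⁻¹ (inv_mem hg) hk)
    simp only [MulEquiv.coe_toMonoidHom, MulAut.conj_apply, inv_inv] at hkk'
    have : g * k * g⁻¹ = k' := by rw [← hkk']; group
    rw [this]; exact hk'
  · -- (4)
    intro hAp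
    set R₀ := ⁅R, A⁆ with hR₀
    have hAR : ∀ a ∈ A, ∀ r ∈ R, a * r * a⁻¹ ∈ R := fun a ha => hKR a (hAK ha)
    have hR₀R : R₀ ≤ R := by
      rw [hR₀, Subgroup.commutator_le]
      intro r hr a ha
      rw [commutatorElement_def]
      have := hAR a ha r⁻¹ (inv_mem hr)
      have e : r * a * r⁻¹ * a⁻¹ = r * (a * r⁻¹ * a⁻¹) := by group
      rw [e]; exact mul_mem hr this
    apply le_antisymm hR₀R
    -- normalizer of R₀
    have hRN : ∀ r ∈ R, ∀ n ∈ R₀, r * n * r⁻¹ ∈ R₀ := commutator_conj_mem_left R A
    have hAN : ∀ a ∈ A, ∀ n ∈ R₀, a * n * a⁻¹ ∈ R₀ := fun a ha =>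
      commutator_conj_mem_of_normalizes R A a (hAR a ha)
        (fun y hy => mul_mem (mul_mem ha hy) (inv_mem ha))
    have hKNR₀ : K ≤ Subgroup.normalizer (R₀ : Set H) := by
      rw [← h3]
      exact sup_le (le_normalizer_of_conj_mem' A R₀ hAN) (le_normalizer_of_conj_mem' R R₀ hRN)
    -- A ⊔ R₀ normalized by K
    have hKNAR₀ : K ≤ Subgroup.normalizer ((A ⊔ R₀ : Subgroup H) : Set H) := by
      rw [← h3]
      apply sup_le
      · apply le_normalizer_of_conj_mem'
        intro a ha w hw
        have hw' : w ∈ (A ⊔ R₀).comap (MulAut.conj a).toMonoidHom := by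
          have hle : A ⊔ R₀ ≤ (A ⊔ R₀).comap (MulAut.conj a).toMonoidHom := by
            apply sup_le
            · intro y hy
              rw [Subgroup.mem_comap]
              simp only [MulEquiv.coe_toMonoidHom, MulAut.conj_apply]
              exact Subgroup.mem_sup_left (mul_mem (mul_mem ha hy) (inv_mem ha))
            · intro y hy
              rw [Subgroup.mem_comap]
              simp only [MulEquiv.coe_toMonoidHom, MulAut.conj_apply]
              exact Subgroup.mem_sup_right (hAN a ha y hy)
          exact hle hw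
        rw [Subgroup.mem_comap] at hw'
        simpa using hw'
      · apply le_normalizer_of_conj_mem'
        intro r hr w hw
        have hw' : w ∈ (A ⊔ R₀).comap (MulAut.conj r).toMonoidHom := by
          have hle : A ⊔ R₀ ≤ (A ⊔ R₀).comap (MulAut.conj r).toMonoidHom := by
            apply sup_le
            · intro y hy
              rw [Subgroup.mem_comap]
              simp only [MulEquiv.coe_toMonoidHom, MulAut.conj_apply]
              have e : r * y * r⁻¹ = ⁅r, y⁆ * y := by rw [commutatorElement_def]; group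
              rw [e]
              exact mul_mem (Subgroup.mem_sup_right (Subgroup.commutator_mem_commutator hr hy))
                (Subgroup.mem_sup_left hy)
            · intro y hy
              rw [Subgroup.mem_comap]
              simp only [MulEquiv.coe_toMonoidHom, MulAut.conj_apply]
              exact Subgroup.mem_sup_right (hRN r hr y hy)
          exact hle hw
        rw [Subgroup.mem_comap] at hw'
        simpa using hw'
    have hAR₀K : A ⊔ R₀ ≤ K := sup_le hAK (hR₀R.trans hRK)
    have hKle : K ≤ A ⊔ R₀ := by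
      apply subnormalClosure_le A _ le_sup_left
      exact isSubnormal_of_normal_in K _ hKsn hAR₀K hKNAR₀
    -- now in ↥K
    haveI hn : (R₀.subgroupOf K).Normal :=
      (Subgroup.normal_subgroupOf_iff_le_normalizer (hR₀R.trans hRK)).mpr hKNR₀
    have hAp' : IsPGroup p (A.subgroupOf K) := hAp.comap_subtype
    have htop : A.subgroupOf K ⊔ R₀.subgroupOf K = ⊤ := by
      rw [← Subgroup.subgroupOf_sup hAK (hR₀R.trans hRK), eq_top_iff]
      intro x _
      rw [Subgroup.mem_subgroupOf]
      exact hKle x.2
    have hres := pResidual_le_of_sup_eq_top (A.subgroupOf K) (R₀.subgroupOf K) hAp' htop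
    intro x hx
    obtain ⟨y, hy, rfl⟩ := Subgroup.mem_map.mp hx
    exact Subgroup.mem_subgroupOf.mp (hres hy)

end Cfsg.Agent.Lib.Helper4_SubnormalClosure
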