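import Mathlib
import Cfsg.Prelude.Def_LocalStructure
import Cfsg.Agent.Lib.Helper4_PReduced7
import Cfsg.Agent.Lib.Helper4_OrbitProd
import Cfsg.Agent.Lib.Helper4_Coprime
import Cfsg.Agent.Lib.Helper4_Trace
import Cfsg.Agent.Lib.Helper4_Amalgam4
import Cfsg.Agent.Lib.Helper4_SubnormalClosure

namespace Cfsg.Agent.Lib.Helper4_Kieler0
open Cfsg Cfsg.Agent.Lib.Helper4_PReduced4 Cfsg.Agent.Lib.Helper4_PReduced7
  Cfsg.Agent.Lib.Helper4_OrbitProd Cfsg.Agent.Lib.Helper4_Coprime Cfsg.Agent.Lib.Helper4_Trace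
  Cfsg.Agent.Lib.Helper4_Amalgam4 Cfsg.Agent.Lib.Helper4_PIrred Cfsg.Agent.Lib.Helper4_Stab
  Cfsg.Agent.Lib.Helper4_Subnormal Cfsg.Agent.Lib.Helper4_SubnormalClosure
open scoped commutatorElement

variable {G : Type*} [Group G]

/-- In a nilpotent group a nontrivial normal subgroup meets the centre nontrivially. -/
theorem normal_inf_center_ne_bot' {Q : Type*} [Group Q] [Group.IsNilpotent Q] (A : Subgroup Q)
    [hAn : A.Normal] (hA : A ≠ ⊥) : ∃ a ∈ A, a ∈ Subgroup.center Q ∧ a ≠ 1 := by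
  classical
  obtain ⟨n, hn⟩ := Group.IsNilpotent.nilpotent Q
  have hex : ∃ i, A ⊓ Subgroup.upperCentralSeries Q i ≠ ⊥ := ⟨n, by rw [hn, inf_top_eq]; exact hA⟩
  have hspec := Nat.find_spec hex
  have hmin := fun {m : ℕ} (h : m < Nat.find hex) => Nat.find_min hex h
  cases hi : Nat.find hex with
  | zero =>
    rw [hi, Subgroup.upperCentralSeries_zero, inf_bot_eq] at hspec
    exact absurd rfl hspec
  | succ j =>
    rw [hi] at hspec
    have hj : A ⊓ Subgroup.upperCentralSeries Q j = ⊥ := by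
      have := hmin (m := j) (by omega)
      rwa [not_not] at this
    obtain ⟨a, ha1⟩ := (Subgroup.ne_bot_iff_exists_ne_one).mp hspec
    have haA : (a : Q) ∈ A := (Subgroup.mem_inf.mp a.2).1
    have haZ : (a : Q) ∈ Subgroup.upperCentralSeries Q (j + 1) := (Subgroup.mem_inf.mp a.2).2
    refine ⟨a, haA, ?_, fun h => ha1 (Subtype.ext h)⟩
    rw [Subgroup.mem_center_iff]
    intro y
    have h1 : ⁅(a : Q), y⁆ ∈ Subgroup.upperCentralSeries Q j :=
      Subgroup.mem_upperCentralSeries_succ_iff.mp haZ y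
    have h2 : ⁅(a : Q), y⁆ ∈ A := by
      have e : ⁅(a : Q), y⁆ = (a : Q) * (y * (a : Q)⁻¹ * y⁻¹) := by
        simp only [commutatorElement_def]; group
      rw [e]
      exact A.mul_mem haA (hAn.conj_mem _ (A.inv_mem haA) y)
    have h3 : ⁅(a : Q), y⁆ ∈ A ⊓ Subgroup.upperCentralSeries Q j := Subgroup.mem_inf.mpr ⟨h2, h1⟩
    rw [hj, Subgroup.mem_bot, commutatorElement_def] at h3
    have := congrArg (fun z => z * y * (a : Q)) h3
    simp only [one_mul] at this
    rw [← this]; group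

/-- if `T'` is a `p`-subgroup of `K` of index prime to `p` normalizing `A ≤ K`, then `T' ∩ A` has
index prime to `p` in `A`. -/
theorem coprime_relIndex [Finite G] {p : ℕ} [Fact p.Prime] (T' A K : Subgroup G)
    (hTK : T' ≤ K) (hAK : A ≤ K) (hTp : IsPGroup p T') (hidx : ¬ p ∣ T'.relIndex K)
    (hnorm : T' ≤ Subgroup.normalizer (A : Set G)) : ¬ p ∣ (T' ⊓ A).relIndex A := by
  set X := A ⊔ T' with hX
  have hXK : X ≤ K := sup_le hAK hTK
  have hTX : T' ≤ X := le_sup_right
  have hAX : A ≤ X := le_sup_left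
  have h1 : ¬ p ∣ T'.relIndex X := by
    intro h
    apply hidx
    rw [← Subgroup.relIndex_mul_relIndex T' X K hTX hXK]
    exact Dvd.dvd.mul_right h _
  have hpX : IsPGroup p (T'.subgroupOf X) := hTp.comap_subtype
  let Sx : Sylow p ↥X := hpX.toSylow h1
  have hXA : X ≤ Subgroup.normalizer (A : Set G) := sup_le Subgroup.le_normalizer hnorm
  obtain ⟨P, hP⟩ := exists_sylow_eq_subgroupOf_rel X A hAX hXA Sx
  have h2 : ((Sx : Subgroup ↥X).map X.subtype) = T' := by
    have : (Sx : Subgroup ↥X) = T'.subgroupOf X := IsPGroup.toSylow_coe hpX h1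
    rw [this, Subgroup.subgroupOf_map_subtype, inf_of_le_left hTX]
  rw [h2] at hP
  have h3 := P.not_dvd_index
  rw [hP] at h3
  rw [Subgroup.inf_relIndex_right]
  exact h3

/-- conjugation preserves the centralizer of a subgroup that it normalizes. -/
theorem conj_mem_centralizer (Z : Subgroup G) (t x : G) (ht : ∀ z ∈ Z, t⁻¹ * z * t ∈ Z)
    (hx : x ∈ Subgroup.centralizer (Z : Set G)) : t * x * t⁻¹ ∈ Subgroup.centralizer (Z : Set G) := by
  rw [Subgroup.mem_centralizer_iff] at hx ⊢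
  intro z hz
  have := hx _ (ht z hz)
  calc z * (t * x * t⁻¹) = t * ((t⁻¹ * z * t) * x) * t⁻¹ := by group
    _ = t * (x * (t⁻¹ * z * t)) * t⁻¹ := by rw [this]
    _ = _ := by group

/-- `Ω₁Z(X)` is normalized by the normalizer of `X`. -/
theorem omegaOneCenter_conj_mem (p : ℕ) (X : Subgroup G) (t : G)
    (ht : t ∈ Subgroup.normalizer (X : Set G)) :
    ∀ z ∈ omegaOne p (X ⊓ Subgroup.centralizer (X : Set G)),
      t * z * t⁻¹ ∈ omegaOne p (X ⊓ Subgroup.centralizer (X : Set G)) :=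
  omegaOne_conj_mem p _ (Subgroup.normalizer (X : Set G))
    (fun g hg x hx => center_conj_mem X g hg x hx) t ht

theorem mem_omegaOneCenter (p : ℕ) (X : Subgroup G) (z : G) (hzX : z ∈ X)
    (hzC : ∀ x ∈ X, x * z = z * x) (hzp : z ^ p = 1) :
    z ∈ omegaOne p (X ⊓ Subgroup.centralizer (X : Set G)) := by
  unfold omegaOne
  apply Subgroup.subset_closure
  have hc : z ∈ Subgroup.centralizer (X : Set G) := by
    rw [Subgroup.mem_centralizer_iff]
    intro x hx
    exact hzC x hx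
  exact ⟨Subgroup.mem_inf.mpr ⟨hzX, hc⟩, hzp⟩

/-- commuting with `z ^ n` implies commuting with `z` when `z ^ p = 1` and `p ∤ n`. -/
theorem commute_of_pow {p : ℕ} [Fact p.Prime] (g z : G) (n : ℕ) (hzp : z ^ p = 1) (hn : ¬ p ∣ n)
    (h : g * z ^ n = z ^ n * g) : g * z = z * g := by
  have hp : p.Prime := Fact.out
  have hz : z ∈ Subgroup.centralizer ({g} : Set G) := by
    apply mem_of_pow_mem_of_coprime _ z n
    · exact orderOf_pos_iff.mpr (isOfFinOrder_iff_pow_eq_one.mpr ⟨p, hp.pos, hzp⟩)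
    · have h1 : orderOf z ∣ p := orderOf_dvd_of_pow_eq_one hzp
      have h2 : Nat.Coprime n p := ((Nat.Prime.coprime_iff_not_dvd hp).mpr hn).symm
      exact Nat.Coprime.coprime_dvd_right h1 h2
    · rw [Subgroup.mem_centralizer_iff]
      intro x hx
      rw [Set.mem_singleton_iff.mp hx]
      exact h
  rw [Subgroup.mem_centralizer_iff] at hz
  exact hz g (Set.mem_singleton g)

end Cfsg.Agent.Lib.Helper4_Kieler0
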