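import Mathlib
import Cfsg.Prelude.Def_PLocal
import Cfsg.Prelude.Def_Transfer
import Cfsg.Agent.Lib.Helper3_SupNormalizer

/-! Timmesfeld's replacement theorem: counting with `f X = |X| * |C_V(X)|` (helper3). -/

set_option autoImplicit false

namespace Cfsg.Agent.Lib.Helper3_Replacement

open Cfsg
open scoped commutatorElement

variable {G : Type*} [Group G]

/-- `|X| |Y| ≤ |X ⊓ Y| |X ⊔ Y|` -/
theorem card_mul_card_le [Finite G] (X Y : Subgroup G) :
    Nat.card ↥X * Nat.card ↥Y ≤ Nat.card ↥(X ⊓ Y) * Nat.card ↥(X ⊔ Y) := by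
  have h1 : Nat.card ↥(X ⊓ Y) * (X ⊓ Y).relIndex X = Nat.card ↥X := by
    have := Subgroup.relIndex_mul_relIndex ⊥ (X ⊓ Y) X bot_le inf_le_left
    rwa [Subgroup.relIndex_bot_left, Subgroup.relIndex_bot_left] at this
  have h2 : Nat.card ↥Y * Y.relIndex (X ⊔ Y) = Nat.card ↥(X ⊔ Y) := by
    have := Subgroup.relIndex_mul_relIndex ⊥ Y (X ⊔ Y) bot_le le_sup_right
    rwa [Subgroup.relIndex_bot_left, Subgroup.relIndex_bot_left] at this
  have h3 : (X ⊓ Y).relIndex X ≤ Y.relIndex (X ⊔ Y) := by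
    rw [inf_comm, Subgroup.inf_relIndex_right]
    apply Subgroup.relIndex_le_of_le_right le_sup_left
    haveI : Y.IsFiniteRelIndex (X ⊔ Y) := Subgroup.isFiniteRelIndex_of_finiteIndex
    exact Subgroup.relIndex_ne_zero
  rw [← h1, ← h2]
  calc Nat.card ↥(X ⊓ Y) * (X ⊓ Y).relIndex X * Nat.card ↥Y
      ≤ Nat.card ↥(X ⊓ Y) * Y.relIndex (X ⊔ Y) * Nat.card ↥Y := by gcongr
    _ = Nat.card ↥(X ⊓ Y) * (Nat.card ↥Y * Y.relIndex (X ⊔ Y)) := by ring

/-- the centralizer of a join -/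
theorem centralizer_sup (X Y : Subgroup G) :
    Subgroup.centralizer ((X ⊔ Y : Subgroup G) : Set G) =
      Subgroup.centralizer (X : Set G) ⊓ Subgroup.centralizer (Y : Set G) := by
  apply le_antisymm
  · exact le_inf (Subgroup.centralizer_le (by exact_mod_cast (le_sup_left : X ≤ X ⊔ Y)))
      (Subgroup.centralizer_le (by exact_mod_cast (le_sup_right : Y ≤ X ⊔ Y)))
  · intro z hz
    have h1 : Subgroup.zpowers z ≤ Subgroup.centralizer (X : Set G) :=
      (Subgroup.zpowers_le).mpr hz.1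
    have h2 : Subgroup.zpowers z ≤ Subgroup.centralizer (Y : Set G) :=
      (Subgroup.zpowers_le).mpr hz.2
    have h3 : X ⊔ Y ≤ Subgroup.centralizer (Subgroup.zpowers z : Set G) :=
      sup_le (Subgroup.le_centralizer_iff.mp h1) (Subgroup.le_centralizer_iff.mp h2)
    exact (Subgroup.le_centralizer_iff.mp h3) (Subgroup.mem_zpowers z)

/-- `C_V(X)` -/
def cv (V X : Subgroup G) : Subgroup G := V ⊓ Subgroup.centralizer (X : Set G)

/-- `f X = |X| * |C_V(X)|` -/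
noncomputable def ff (V X : Subgroup G) : ℕ := Nat.card ↥X * Nat.card ↥(cv V X)

theorem cv_anti (V : Subgroup G) {X Y : Subgroup G} (h : X ≤ Y) : cv V Y ≤ cv V X :=
  inf_le_inf_left V (Subgroup.centralizer_le (by exact_mod_cast h))

theorem cv_sup (V X Y : Subgroup G) : cv V (X ⊔ Y) = cv V X ⊓ cv V Y := by
  unfold cv
  rw [centralizer_sup, inf_inf_distrib_left]

theorem ff_pos [Finite G] (V X : Subgroup G) : 0 < ff V X :=
  Nat.mul_pos Nat.card_pos Nat.card_pos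

/-- submodularity of `f` -/
theorem ff_mul_le [Finite G] (V X Y : Subgroup G) :
    ff V X * ff V Y ≤ ff V (X ⊓ Y) * ff V (X ⊔ Y) := by
  unfold ff
  have h1 := card_mul_card_le X Y
  have h2 := card_mul_card_le (cv V X) (cv V Y)
  have h3 : Nat.card ↥(cv V X ⊔ cv V Y) ≤ Nat.card ↥(cv V (X ⊓ Y)) :=
    Subgroup.card_le_of_le (sup_le (cv_anti V inf_le_left) (cv_anti V inf_le_right))
  rw [cv_sup]
  calc Nat.card ↥X * Nat.card ↥(cv V X) * (Nat.card ↥Y * Nat.card ↥(cv V Y))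
      = (Nat.card ↥X * Nat.card ↥Y) * (Nat.card ↥(cv V X) * Nat.card ↥(cv V Y)) := by ring
    _ ≤ (Nat.card ↥(X ⊓ Y) * Nat.card ↥(X ⊔ Y)) *
        (Nat.card ↥(cv V X ⊓ cv V Y) * Nat.card ↥(cv V X ⊔ cv V Y)) := Nat.mul_le_mul h1 h2
    _ ≤ (Nat.card ↥(X ⊓ Y) * Nat.card ↥(X ⊔ Y)) *
        (Nat.card ↥(cv V X ⊓ cv V Y) * Nat.card ↥(cv V (X ⊓ Y))) := by gcongr
    _ = Nat.card ↥(X ⊓ Y) * Nat.card ↥(cv V (X ⊓ Y)) *
        (Nat.card ↥(X ⊔ Y) * Nat.card ↥(cv V X ⊓ cv V Y)) := by ring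


/-- under the best-offender inequality, the subgroups of `A` attaining `f A` are closed under
intersection, and `C_V` turns that intersection into a join -/
theorem step [Finite G] (V A : Subgroup G)
    (hbest : ∀ B : Subgroup G, B ≤ A → ff V B ≤ ff V A)
    (X Y : Subgroup G) (hX : X ≤ A) (hY : Y ≤ A) (hfX : ff V X = ff V A) (hfY : ff V Y = ff V A) :
    ff V (X ⊓ Y) = ff V A ∧ cv V (X ⊓ Y) = cv V X ⊔ cv V Y := by
  have h1 := ff_mul_le V X Y
  have h2 := hbest (X ⊓ Y) (inf_le_left.trans hX)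
  have h3 := hbest (X ⊔ Y) (sup_le hX hY)
  have hpos := ff_pos V A
  rw [hfX, hfY] at h1
  have h4 : ff V (X ⊓ Y) = ff V A := by
    apply le_antisymm h2
    have : ff V A * ff V A ≤ ff V (X ⊓ Y) * ff V A := h1.trans (Nat.mul_le_mul_left _ h3)
    exact Nat.le_of_mul_le_mul_right this hpos
  have h5 : ff V (X ⊔ Y) = ff V A := by
    apply le_antisymm h3
    have : ff V A * ff V A ≤ ff V A * ff V (X ⊔ Y) := by rw [h4] at h1; exact h1
    exact Nat.le_of_mul_le_mul_left this hpos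
  refine ⟨h4, ?_⟩
  symm
  apply Subgroup.eq_of_le_of_card_ge (sup_le (cv_anti V inf_le_left) (cv_anti V inf_le_right))
  by_contra hlt
  push Not at hlt
  have e1 := card_mul_card_le X Y
  have e2 := card_mul_card_le (cv V X) (cv V Y)
  have e3 : ff V X * ff V Y = ff V (X ⊓ Y) * ff V (X ⊔ Y) := by rw [hfX, hfY, h4, h5]
  unfold ff at e3
  rw [cv_sup] at e3
  have hpos1 : 0 < Nat.card ↥(X ⊓ Y) * Nat.card ↥(X ⊔ Y) := Nat.mul_pos Nat.card_pos Nat.card_pos
  have hpos2 : 0 < Nat.card ↥(cv V X ⊓ cv V Y) := Nat.card_pos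
  have : Nat.card ↥X * Nat.card ↥(cv V X) * (Nat.card ↥Y * Nat.card ↥(cv V Y)) <
      Nat.card ↥(X ⊓ Y) * Nat.card ↥(cv V (X ⊓ Y)) *
        (Nat.card ↥(X ⊔ Y) * Nat.card ↥(cv V X ⊓ cv V Y)) := by
    calc Nat.card ↥X * Nat.card ↥(cv V X) * (Nat.card ↥Y * Nat.card ↥(cv V Y))
        = (Nat.card ↥X * Nat.card ↥Y) * (Nat.card ↥(cv V X) * Nat.card ↥(cv V Y)) := by ring
      _ ≤ (Nat.card ↥(X ⊓ Y) * Nat.card ↥(X ⊔ Y)) *
          (Nat.card ↥(cv V X ⊓ cv V Y) * Nat.card ↥(cv V X ⊔ cv V Y)) := Nat.mul_le_mul e1 e2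
      _ < (Nat.card ↥(X ⊓ Y) * Nat.card ↥(X ⊔ Y)) *
          (Nat.card ↥(cv V X ⊓ cv V Y) * Nat.card ↥(cv V (X ⊓ Y))) :=
          mul_lt_mul_of_pos_left (mul_lt_mul_of_pos_left hlt hpos2) hpos1
      _ = _ := by ring
  exact absurd e3 (ne_of_lt this)

/-- the subgroup `[u, A]` generated by the commutators `⁅u, a⁆`, `a ∈ A` -/
def wu (A : Subgroup G) (u : G) : Subgroup G := Subgroup.closure {x | ∃ a ∈ A, ⁅u, a⁆ = x}

theorem comm_aux {M : Type*} [CommGroup M] (u p q z : M) :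
    q * z⁻¹ = u * p⁻¹ ↔ p * z⁻¹ = u * q⁻¹ := by
  rw [mul_inv_eq_iff_eq_mul, mul_right_comm, eq_mul_inv_iff_mul_eq,
    mul_inv_eq_iff_eq_mul, mul_right_comm, eq_mul_inv_iff_mul_eq, mul_comm]

section action

variable (V A : Subgroup G) (hVc : IsMulCommutative ↥V)
  (hAV : A ≤ Subgroup.normalizer (V : Set G))
  (hab : ⁅A, A⁆ ≤ Subgroup.centralizer (V : Set G))

include hAV in
theorem conj_mem {a v : G} (ha : a ∈ A) (hv : v ∈ V) : a * v * a⁻¹ ∈ V :=
  (Subgroup.mem_normalizer_iff.mp (hAV ha) v).mp hv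

include hAV in
theorem comm_mem {a v : G} (ha : a ∈ A) (hv : v ∈ V) : ⁅v, a⁆ ∈ V := by
  have h1 := conj_mem V A hAV ha (V.inv_mem hv)
  have e : ⁅v, a⁆ = v * (a * v⁻¹ * a⁻¹) := by rw [commutatorElement_def]; group
  rw [e]; exact V.mul_mem hv h1

include hAV hab in
theorem conj_conj {a c v : G} (ha : a ∈ A) (hc : c ∈ A) (hv : v ∈ V) :
    a * (c * v * c⁻¹) * a⁻¹ = c * (a * v * a⁻¹) * c⁻¹ := by
  have hk : ⁅a, c⁆ ∈ Subgroup.centralizer (V : Set G) :=
    hab (Subgroup.commutator_mem_commutator ha hc)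
  have hw : c * (a * v * a⁻¹) * c⁻¹ ∈ V := conj_mem V A hAV hc (conj_mem V A hAV ha hv)
  have h1 := Subgroup.mem_centralizer_iff.mp hk _ hw
  have e : a * (c * v * c⁻¹) * a⁻¹ = ⁅a, c⁆ * (c * (a * v * a⁻¹) * c⁻¹) * ⁅a, c⁆⁻¹ := by
    rw [commutatorElement_def]; group
  rw [e, ← h1]; group

include hVc hAV hab in
/-- the key symmetry: `c` centralizes `⁅u, a⁆` iff `a` centralizes `⁅u, c⁆` -/
theorem key_symm {u a c : G} (hu : u ∈ V) (ha : a ∈ A) (hc : c ∈ A) :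
    ⁅u, a⁆ * c = c * ⁅u, a⁆ ↔ a * ⁅u, c⁆ = ⁅u, c⁆ * a := by
  open scoped IsMulCommutative in
  have hp : a * u * a⁻¹ ∈ V := conj_mem V A hAV ha hu
  have hq : c * u * c⁻¹ ∈ V := conj_mem V A hAV hc hu
  have hz : c * (a * u * a⁻¹) * c⁻¹ ∈ V := conj_mem V A hAV hc hp
  have hzz : a * (c * u * c⁻¹) * a⁻¹ = c * (a * u * a⁻¹) * c⁻¹ := conj_conj V A hAV hab ha hc hu
  have h := comm_aux (⟨u, hu⟩ : ↥V) ⟨_, hp⟩ ⟨_, hq⟩ ⟨_, hz⟩
  rw [Subtype.ext_iff, Subtype.ext_iff] at h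
  simp only [Subgroup.coe_mul, Subgroup.coe_inv] at h
  have e1 : ⁅u, a⁆ = u * (a * u * a⁻¹)⁻¹ := by rw [commutatorElement_def]; group
  have e2 : ⁅u, c⁆ = u * (c * u * c⁻¹)⁻¹ := by rw [commutatorElement_def]; group
  have e3 : c * ⁅u, a⁆ * c⁻¹ = c * u * c⁻¹ * (c * (a * u * a⁻¹) * c⁻¹)⁻¹ := by
    rw [commutatorElement_def]; group
  have e4 : a * ⁅u, c⁆ * a⁻¹ = a * u * a⁻¹ * (c * (a * u * a⁻¹) * c⁻¹)⁻¹ := by
    rw [← hzz, commutatorElement_def]; group
  constructor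
  · intro h1
    have h2 : c * ⁅u, a⁆ * c⁻¹ = ⁅u, a⁆ := by rw [← h1]; group
    rw [e3, e1] at h2
    have h3 := h.mp h2
    rw [← e4, ← e2] at h3
    calc a * ⁅u, c⁆ = a * ⁅u, c⁆ * a⁻¹ * a := by group
      _ = ⁅u, c⁆ * a := by rw [h3]
  · intro h1
    have h2 : a * ⁅u, c⁆ * a⁻¹ = ⁅u, c⁆ := by rw [h1]; group
    rw [e4, e2] at h2
    have h3 := h.mpr h2
    rw [← e3, ← e1] at h3
    calc ⁅u, a⁆ * c = c * ⁅u, a⁆ * c⁻¹ * c := by rw [h3]
      _ = c * ⁅u, a⁆ := by group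

end action


/-- `E_u = C_A([u, A])` -/
def eu (A : Subgroup G) (u : G) : Subgroup G := A ⊓ Subgroup.centralizer (wu A u : Set G)

section single

variable (V A : Subgroup G) (hVc : IsMulCommutative ↥V)
  (hAV : A ≤ Subgroup.normalizer (V : Set G))
  (hab : ⁅A, A⁆ ≤ Subgroup.centralizer (V : Set G))

include hAV in
theorem wu_le {u : G} (hu : u ∈ V) : wu A u ≤ V := by
  unfold wu
  rw [Subgroup.closure_le]
  rintro x ⟨a, ha, rfl⟩
  exact comm_mem V A hAV ha hu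

include hVc hAV hab in
theorem mem_eu_iff {u d : G} (hu : u ∈ V) (hd : d ∈ A) : d ∈ eu A u ↔ ⁅u, d⁆ ∈ cv V A := by
  unfold eu wu cv
  rw [Subgroup.mem_inf, Subgroup.centralizer_closure, Subgroup.mem_inf]
  constructor
  · rintro ⟨-, h⟩
    refine ⟨comm_mem V A hAV hd hu, ?_⟩
    refine Subgroup.mem_centralizer_iff.mpr ?_
    intro a ha
    have h1 := Subgroup.mem_centralizer_iff.mp h ⁅u, a⁆ ⟨a, ha, rfl⟩
    exact (key_symm V A hVc hAV hab hu ha hd).mp h1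
  · rintro ⟨-, h⟩
    refine ⟨hd, ?_⟩
    refine Subgroup.mem_centralizer_iff.mpr ?_
    rintro x ⟨a, ha, rfl⟩
    have h1 := Subgroup.mem_centralizer_iff.mp h a ha
    exact (key_symm V A hVc hAV hab hu ha hd).mpr h1

theorem conj_mem_cv_iff {a y : G} (ha : a ∈ A) : a * y * a⁻¹ ∈ cv V A ↔ y ∈ cv V A := by
  constructor
  · intro h
    have h1 := Subgroup.mem_centralizer_iff.mp h.2 a⁻¹ (A.inv_mem ha)
    have e : y = a * y * a⁻¹ := by
      calc y = a⁻¹ * (a * y * a⁻¹) * a := by group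
        _ = a * y * a⁻¹ * a⁻¹ * a := by rw [h1]
        _ = a * y * a⁻¹ := by group
    rw [e]; exact h
  · intro h
    have h1 := Subgroup.mem_centralizer_iff.mp h.2 a ha
    have e : a * y * a⁻¹ = y := by rw [h1]; group
    rw [e]; exact h

include hVc hAV hab in
theorem single_card [Finite G] {u : G} (hu : u ∈ V) :
    Nat.card ↥A * Nat.card ↥(cv V A) ≤ Nat.card ↥(eu A u) * Nat.card ↥(wu A u ⊔ cv V A) := by
  have hEA : eu A u ≤ A := inf_le_left
  have hCM : cv V A ≤ wu A u ⊔ cv V A := le_sup_right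
  have h1 : Nat.card ↥(eu A u) * (eu A u).relIndex A = Nat.card ↥A := by
    have := Subgroup.relIndex_mul_relIndex ⊥ (eu A u) A bot_le hEA
    rwa [Subgroup.relIndex_bot_left, Subgroup.relIndex_bot_left] at this
  have h2 : Nat.card ↥(cv V A) * (cv V A).relIndex (wu A u ⊔ cv V A) =
      Nat.card ↥(wu A u ⊔ cv V A) := by
    have := Subgroup.relIndex_mul_relIndex ⊥ (cv V A) (wu A u ⊔ cv V A) bot_le hCM
    rwa [Subgroup.relIndex_bot_left, Subgroup.relIndex_bot_left] at this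
  have hφ : ∀ a : ↥A, ⁅u, (a : G)⁆ ∈ wu A u ⊔ cv V A := fun a =>
    (le_sup_left : wu A u ≤ wu A u ⊔ cv V A) (Subgroup.subset_closure ⟨a, a.2, rfl⟩)
  have key : ∀ a b : ↥A, a⁻¹ * b ∈ (eu A u).subgroupOf A ↔
      (⟨⁅u, (a : G)⁆, hφ a⟩ : ↥(wu A u ⊔ cv V A))⁻¹ * ⟨⁅u, (b : G)⁆, hφ b⟩ ∈
        (cv V A).subgroupOf (wu A u ⊔ cv V A) := by
    intro a b
    rw [Subgroup.mem_subgroupOf, Subgroup.mem_subgroupOf]
    simp only [Subgroup.coe_mul, Subgroup.coe_inv]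
    have e : ⁅u, (a : G)⁆⁻¹ * ⁅u, (b : G)⁆ = a * ⁅u, (a : G)⁻¹ * b⁆ * (a : G)⁻¹ := by
      simp only [commutatorElement_def]; group
    rw [e, conj_mem_cv_iff V A a.2,
      mem_eu_iff V A hVc hAV hab hu (A.mul_mem (A.inv_mem a.2) b.2)]
  let ψ : ↥A ⧸ (eu A u).subgroupOf A →
      ↥(wu A u ⊔ cv V A) ⧸ (cv V A).subgroupOf (wu A u ⊔ cv V A) :=
    Quotient.map' (fun a => ⟨⁅u, (a : G)⁆, hφ a⟩) (fun a b hab => by
      rw [QuotientGroup.leftRel_apply] at hab ⊢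
      exact (key a b).mp hab)
  have hinj : Function.Injective ψ := by
    intro x y
    induction x using Quotient.inductionOn' with
    | _ a =>
    induction y using Quotient.inductionOn' with
    | _ b =>
    intro h
    apply Quotient.sound'
    rw [QuotientGroup.leftRel_apply]
    apply (key a b).mpr
    have := Quotient.exact' h
    rwa [QuotientGroup.leftRel_apply] at this
  have h3 : (eu A u).relIndex A ≤ (cv V A).relIndex (wu A u ⊔ cv V A) :=
    Nat.card_le_card_of_injective ψ hinj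
  calc Nat.card ↥A * Nat.card ↥(cv V A)
      = Nat.card ↥(eu A u) * (eu A u).relIndex A * Nat.card ↥(cv V A) := by rw [h1]
    _ ≤ Nat.card ↥(eu A u) * (cv V A).relIndex (wu A u ⊔ cv V A) * Nat.card ↥(cv V A) := by
        gcongr
    _ = Nat.card ↥(eu A u) * (Nat.card ↥(cv V A) * (cv V A).relIndex (wu A u ⊔ cv V A)) := by
        ring
    _ = _ := by rw [h2]

include hVc hAV hab in
theorem single [Finite G] (hbest : ∀ B : Subgroup G, B ≤ A → ff V B ≤ ff V A) {u : G} (hu : u ∈ V) :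
    ff V (eu A u) = ff V A ∧ cv V (eu A u) = wu A u ⊔ cv V A := by
  have h1 := single_card V A hVc hAV hab hu
  have hle : wu A u ⊔ cv V A ≤ cv V (eu A u) := by
    apply sup_le
    · apply le_inf (wu_le V A hAV hu)
      rw [Subgroup.le_centralizer_iff]
      exact inf_le_right
    · exact cv_anti V inf_le_left
  have h2 : Nat.card ↥(wu A u ⊔ cv V A) ≤ Nat.card ↥(cv V (eu A u)) := Subgroup.card_le_of_le hle
  have h3 := hbest (eu A u) inf_le_left
  unfold ff at h3 ⊢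
  have h4 : Nat.card ↥(eu A u) * Nat.card ↥(wu A u ⊔ cv V A) ≤
      Nat.card ↥(eu A u) * Nat.card ↥(cv V (eu A u)) := Nat.mul_le_mul_left _ h2
  have h5 : Nat.card ↥(eu A u) * Nat.card ↥(cv V (eu A u)) = Nat.card ↥A * Nat.card ↥(cv V A) :=
    le_antisymm h3 (h1.trans h4)
  refine ⟨h5, ?_⟩
  symm
  apply Subgroup.eq_of_le_of_card_ge hle
  have : Nat.card ↥(eu A u) * Nat.card ↥(cv V (eu A u)) ≤
      Nat.card ↥(eu A u) * Nat.card ↥(wu A u ⊔ cv V A) := by rw [h5]; exact h1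
  exact Nat.le_of_mul_le_mul_left this Nat.card_pos

theorem inf_centralizer_bot : A ⊓ Subgroup.centralizer ((⊥ : Subgroup G) : Set G) = A := by
  apply le_antisymm inf_le_left
  apply le_inf le_rfl
  intro a _
  refine Subgroup.mem_centralizer_iff.mpr ?_
  intro x hx
  rw [Subgroup.coe_bot, Set.mem_singleton_iff] at hx
  subst hx
  simp

include hVc hAV hab in
theorem main_finset [Finite G] (hbest : ∀ B : Subgroup G, B ≤ A → ff V B ≤ ff V A) (T : Finset G)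
    (hT : ∀ u ∈ T, u ∈ V) :
    ff V (A ⊓ Subgroup.centralizer ((⨆ u ∈ T, wu A u : Subgroup G) : Set G)) = ff V A ∧
    cv V (A ⊓ Subgroup.centralizer ((⨆ u ∈ T, wu A u : Subgroup G) : Set G)) =
      (⨆ u ∈ T, wu A u) ⊔ cv V A := by
  classical
  induction T using Finset.induction_on with
  | empty =>
    simp only [Finset.notMem_empty, iSup_false, iSup_bot, bot_sup_eq, inf_centralizer_bot]
    exact ⟨trivial, trivial⟩
  | insert u T hnot ih =>
    have ih' := ih (fun v hv => hT v (Finset.mem_insert_of_mem hv))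
    have hu := hT u (Finset.mem_insert_self u T)
    rw [Finset.iSup_insert, centralizer_sup, inf_inf_distrib_left]
    have hs := single V A hVc hAV hab hbest hu
    have hst := step V A hbest (eu A u)
      (A ⊓ Subgroup.centralizer ((⨆ u ∈ T, wu A u : Subgroup G) : Set G))
      inf_le_left inf_le_left hs.1 ih'.1
    refine ⟨hst.1, ?_⟩
    have := hst.2
    unfold eu at this hs
    rw [this, hs.2, ih'.2]
    exact (sup_sup_distrib_right _ _ _).symm

theorem commutator_eq_iSup (U : Subgroup G) (T : Finset G) (hT : ∀ u, u ∈ T ↔ u ∈ U) :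
    ⁅U, A⁆ = ⨆ u ∈ T, wu A u := by
  apply le_antisymm
  · rw [Subgroup.commutator_le]
    intro u hu a ha
    have : wu A u ≤ ⨆ u ∈ T, wu A u := le_iSup₂ (f := fun u _ => wu A u) u ((hT u).mpr hu)
    exact this (Subgroup.subset_closure ⟨a, ha, rfl⟩)
  · apply iSup₂_le
    intro u hu
    unfold wu
    rw [Subgroup.closure_le]
    rintro x ⟨a, ha, rfl⟩
    exact Subgroup.commutator_mem_commutator ((hT u).mp hu) ha

include hVc hAV hab in
/-- Timmesfeld replacement, first half: `C_A([U, A])` attains `f A` and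
`C_V(C_A([U, A])) = [U, A] C_V(A)`. -/
theorem replacement [Finite G] (hbest : ∀ B : Subgroup G, B ≤ A → ff V B ≤ ff V A) (U : Subgroup G)
    (hU : U ≤ V) :
    ff V (A ⊓ Subgroup.centralizer ((⁅U, A⁆ : Subgroup G) : Set G)) = ff V A ∧
    cv V (A ⊓ Subgroup.centralizer ((⁅U, A⁆ : Subgroup G) : Set G)) = ⁅U, A⁆ ⊔ cv V A := by
  classical
  have hfin : (U : Set G).Finite := Set.toFinite _
  have hT : ∀ u, u ∈ hfin.toFinset ↔ u ∈ U := fun u => by
    rw [Set.Finite.mem_toFinset]; rfl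
  rw [commutator_eq_iSup A U hfin.toFinset hT]
  exact main_finset V A hVc hAV hab hbest hfin.toFinset (fun u hu => hU ((hT u).mp hu))

end single

end Cfsg.Agent.Lib.Helper3_Replacement
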