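import Mathlib
import Cfsg.Prelude.Def_Balance
import Cfsg.Agent.Lib.Helper3_Transport
import Cfsg.Agent.Lib.Helper3_LStar
import Cfsg.Agent.S1306
import Cfsg.Agent.Lib.Helper4_PCore

/-! Isomorphism invariance of `p`-components, the `p`-layer; conjugation of cores of subgroups
(helper3). -/

set_option autoImplicit false

namespace Cfsg.Agent.Lib.Helper3_LStar2

open Cfsg Cfsg.Agent.Lib.Helper3_Transport

universe u v

/-- the isomorphism of the quotients by the `p'`-cores induced by an isomorphism -/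
noncomputable def coreQuotEquiv (p : ℕ) {A : Type u} {B : Type v} [Group A] [Group B] (e : A ≃* B) :
    A ⧸ pPrimeCore p A ≃* B ⧸ pPrimeCore p B :=
  QuotientGroup.congr (pPrimeCore p A) (pPrimeCore p B) e (pPrimeCore_map_equiv p e)

theorem coreQuotEquiv_mk (p : ℕ) {A : Type u} {B : Type v} [Group A] [Group B] (e : A ≃* B) (a : A) :
    coreQuotEquiv p e (QuotientGroup.mk' (pPrimeCore p A) a) =
      QuotientGroup.mk' (pPrimeCore p B) (e a) := rfl

theorem map_map_coreQuot (p : ℕ) {A : Type u} {B : Type v} [Group A] [Group B] (e : A ≃* B)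
    (K : Subgroup A) :
    (K.map e.toMonoidHom).map (QuotientGroup.mk' (pPrimeCore p B)) =
      (K.map (QuotientGroup.mk' (pPrimeCore p A))).map (coreQuotEquiv p e).toMonoidHom := by
  rw [Subgroup.map_map, Subgroup.map_map]
  congr 1

theorem pComponent_map_equiv (p : ℕ) {A : Type u} {B : Type v} [Group A] [Group B] (e : A ≃* B)
    (K : Subgroup A) (hK : IsPComponent p K) : IsPComponent p (K.map e.toMonoidHom) := by
  refine ⟨hK.1.map e.surjective, ?_, ?_⟩
  · rw [map_map_coreQuot]
    exact component_map_equiv _ _ hK.2.1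
  · intro H hH hle himg
    have h1 : H.map e.symm.toMonoidHom ≤ K := by
      rintro _ ⟨h, hh, rfl⟩
      obtain ⟨k, hk, hkh⟩ := hle hh
      have : e.symm h = k := by
        rw [← hkh]; simp
      show e.symm h ∈ K
      rw [this]; exact hk
    have h2 : (H.map e.symm.toMonoidHom).map (QuotientGroup.mk' (pPrimeCore p A)) =
        K.map (QuotientGroup.mk' (pPrimeCore p A)) := by
      apply Subgroup.map_injective (coreQuotEquiv p e).injective
      show Subgroup.map (coreQuotEquiv p e).toMonoidHom _ = Subgroup.map (coreQuotEquiv p e).toMonoidHom _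
      rw [← map_map_coreQuot, ← map_map_coreQuot, map_symm_map]
      exact himg
    have h3 := hK.2.2 _ (hH.map e.symm.surjective) h1 h2
    rw [← h3, map_symm_map]

theorem pLayer_map_equiv (p : ℕ) {A : Type u} {B : Type v} [Group A] [Group B] (e : A ≃* B) :
    (pLayer p A).map e.toMonoidHom = pLayer p B :=
  map_sSup_of_invariant e _ _ (fun K hK => pComponent_map_equiv p e K hK)
    (fun K hK => pComponent_map_equiv p e.symm K hK)

theorem normal_of_map_conj_le {X : Type u} [Group X] (H : Subgroup X)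
    (h : ∀ g : X, H.map (MulAut.conj g).toMonoidHom ≤ H) : H.Normal := by
  constructor
  intro n hn g
  exact h g ⟨n, hn, rfl⟩

theorem pLayer_normal (p : ℕ) (X : Type u) [Group X] : (pLayer p X).Normal := by
  apply normal_of_map_conj_le
  intro g
  exact (pLayer_map_equiv p (MulAut.conj g)).le

theorem pPrimeCore_normal' (p : ℕ) (X : Type u) [Group X] : (pPrimeCore p X).Normal := by
  apply normal_of_map_conj_le
  intro g
  exact (pPrimeCore_map_equiv p (MulAut.conj g)).le

/-- conjugating a subgroup conjugates its `p'`-core -/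
theorem core_conj (p : ℕ) {X : Type u} [Group X] (C C' : Subgroup X) (g : X)
    (h : C' = C.map (MulAut.conj g).toMonoidHom) :
    (pPrimeCore p ↥C').map C'.subtype =
      ((pPrimeCore p ↥C).map C.subtype).map (MulAut.conj g).toMonoidHom := by
  subst h
  have e : (pPrimeCore p ↥C).map ((MulAut.conj g).subgroupMap C).toMonoidHom =
      pPrimeCore p ↥(C.map (MulAut.conj g).toMonoidHom) :=
    pPrimeCore_map_equiv p ((MulAut.conj g).subgroupMap C)
  ext x
  constructor
  · rintro ⟨y, hy, rfl⟩
    rw [← e] at hy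
    obtain ⟨z, hz, rfl⟩ := hy
    exact ⟨(z : X), ⟨z, hz, rfl⟩, rfl⟩
  · rintro ⟨_, ⟨z, hz, rfl⟩, rfl⟩
    refine ⟨(MulAut.conj g).subgroupMap C z, ?_, rfl⟩
    rw [← e]
    exact ⟨z, hz, rfl⟩

theorem centralizer_map_conj {X : Type u} [Group X] (H : Subgroup X) (g : X) :
    Subgroup.centralizer ((H.map (MulAut.conj g).toMonoidHom : Subgroup X) : Set X) =
      (Subgroup.centralizer (H : Set X)).map (MulAut.conj g).toMonoidHom := by
  ext z
  rw [Cfsg.Agent.S1306.mem_centralizer_map_conj]
  constructor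
  · intro hz
    refine ⟨g⁻¹ * z * g, hz, ?_⟩
    show g * (g⁻¹ * z * g) * g⁻¹ = z
    group
  · rintro ⟨c, hc, rfl⟩
    have : g⁻¹ * (MulAut.conj g).toMonoidHom c * g = c := by
      show g⁻¹ * (g * c * g⁻¹) * g = c
      group
    rw [this]; exact hc

/-- conjugating a Sylow subgroup of a normal subgroup -/
theorem exists_sylow_conj {X : Type u} [Group X] [Finite X] (p : ℕ) [Fact p.Prime] (N : Subgroup X)
    [N.Normal] (T : Sylow p ↥N) (g : X) :
    ∃ T2 : Sylow p ↥N, ((T2 : Subgroup ↥N).map N.subtype) =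
      ((T : Subgroup ↥N).map N.subtype).map (MulAut.conj g).toMonoidHom := by
  have hs : Function.Surjective ((MulAut.conjNormal g : MulAut ↥N).toMonoidHom) :=
    (MulAut.conjNormal g : MulAut ↥N).surjective
  refine ⟨T.mapSurjective hs, ?_⟩
  have e : ((T.mapSurjective hs : Sylow p ↥N) : Subgroup ↥N) =
    (T : Subgroup ↥N).map (MulAut.conjNormal g : MulAut ↥N).toMonoidHom := rfl
  rw [e]
  ext x
  constructor
  · rintro ⟨_, ⟨t, ht, rfl⟩, rfl⟩
    exact ⟨(t : X), ⟨t, ht, rfl⟩, rfl⟩
  · rintro ⟨_, ⟨t, ht, rfl⟩, rfl⟩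
    exact ⟨(MulAut.conjNormal g : MulAut ↥N) t, ⟨t, ht, rfl⟩, rfl⟩

theorem pPrimePCore_normal (p : ℕ) (X : Type u) [Group X] : (pPrimePCore p X).Normal := by
  unfold pPrimePCore
  haveI := Cfsg.Agent.Lib.Helper4_PCore.pCore_normal p (X ⧸ pPrimeCore p X)
  exact Subgroup.Normal.comap inferInstance _

end Cfsg.Agent.Lib.Helper3_LStar2
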