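import Mathlib
import Cfsg.Prelude.Def_Local
import Cfsg.Agent.Lib.Helper3_LBal3
import Cfsg.Agent.S1259

/-! Diagonal subgroups of products of conjugates `L, L^y, …, L^{y^{p-1}}` via twisted powers
`(l y)^n y^{-n}`; centralizing perfect subgroups (helper3). -/

set_option autoImplicit false

namespace Cfsg.Agent.Lib.Helper3_Diag

open Cfsg Cfsg.Agent.Lib.Helper3_LBal3

variable {G : Type*} [Group G]

/-- `g` centralizes the perfect subgroup `K` if all the commutators `g x g⁻¹ x⁻¹` (`x ∈ K`) are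
central elements of `K`. -/
theorem centralizes_of_commutator_central (K : Subgroup G) [hK : Group.IsPerfect ↥K] (g : G)
    (hg : ∀ x ∈ K, g * x * g⁻¹ * x⁻¹ ∈ K)
    (hc : ∀ x ∈ K, ∀ z ∈ K, (g * x * g⁻¹ * x⁻¹) * z = z * (g * x * g⁻¹ * x⁻¹)) :
    ∀ x ∈ K, g * x = x * g := by
  have hz : ∀ x : ↥K, (⟨g * x * g⁻¹ * (x : G)⁻¹, hg x x.2⟩ : ↥K) ∈ Subgroup.center ↥K := by
    intro x
    rw [Subgroup.mem_center_iff]
    intro z
    apply Subtype.ext
    exact (hc x x.2 z z.2).symm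
  let φ : ↥K →* ↥(Subgroup.center ↥K) := MonoidHom.mk'
    (fun x => ⟨⟨g * x * g⁻¹ * (x : G)⁻¹, hg x x.2⟩, hz x⟩) (by
      intro a b
      apply Subtype.ext
      apply Subtype.ext
      show g * ((a : G) * (b : G)) * g⁻¹ * ((a : G) * (b : G))⁻¹ =
        (g * (a : G) * g⁻¹ * (a : G)⁻¹) * (g * (b : G) * g⁻¹ * (b : G)⁻¹)
      have h1 := hc b b.2 (a : G)⁻¹ (K.inv_mem a.2)
      calc g * ((a : G) * (b : G)) * g⁻¹ * ((a : G) * (b : G))⁻¹
          = (g * (a : G) * g⁻¹) * ((g * (b : G) * g⁻¹ * (b : G)⁻¹) * (a : G)⁻¹) := by group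
        _ = (g * (a : G) * g⁻¹) * ((a : G)⁻¹ * (g * (b : G) * g⁻¹ * (b : G)⁻¹)) := by rw [h1]
        _ = _ := by group)
  haveI : Group.IsSolvable ↥(Subgroup.center ↥K) :=
    Group.isSolvable_of_comm (fun a b => Subtype.ext (Subgroup.mem_center_iff.mp b.2 a.1))
  intro x hx
  have h5 := congrArg Subtype.val (congrArg Subtype.val (hom_eq_one_of_perfect_solvable φ ⟨x, hx⟩))
  have h6 : g * x * g⁻¹ * x⁻¹ = 1 := h5
  calc g * x = (g * x * g⁻¹ * x⁻¹) * (x * g) := by group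
    _ = x * g := by rw [h6, one_mul]

/-- twisted power `(l y)^n y^{-n} = l · l^y ⋯ l^{y^{n-1}}` -/
def tw (y : G) (n : ℕ) (l : G) : G := (l * y) ^ n * (y ^ n)⁻¹

theorem tw_zero (y l : G) : tw y 0 l = 1 := by simp [tw]

theorem tw_one (y l : G) : tw y 1 l = l := by simp [tw]

theorem tw_succ (y : G) (n : ℕ) (l : G) :
    tw y (n + 1) l = tw y n l * (y ^ n * l * (y ^ n)⁻¹) := by
  unfold tw
  rw [pow_succ, pow_succ]
  group

section comm

variable (L : Subgroup G) (y : G) (p : ℕ)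
  (Hc : ∀ i j : ℕ, i < p → j < p → i ≠ j → ∀ a ∈ L, ∀ b ∈ L,
    Commute (y ^ i * a * (y ^ i)⁻¹) (y ^ j * b * (y ^ j)⁻¹))

include Hc

theorem tw_commute : ∀ n : ℕ, n ≤ p → ∀ l ∈ L, ∀ j : ℕ, n ≤ j → j < p → ∀ b ∈ L,
    Commute (tw y n l) (y ^ j * b * (y ^ j)⁻¹) := by
  intro n
  induction n with
  | zero =>
    intro _ l _ j _ _ b _
    rw [tw_zero]; exact Commute.one_left _
  | succ n ih =>
    intro hn l hl j hj hjp b hb
    rw [tw_succ]
    apply Commute.mul_left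
    · exact ih (by omega) l hl j (by omega) hjp b hb
    · exact Hc n j (by omega) hjp (by omega) l hl b hb

theorem tw_mul : ∀ n : ℕ, n ≤ p → ∀ a ∈ L, ∀ b ∈ L, tw y n (a * b) = tw y n a * tw y n b := by
  intro n
  induction n with
  | zero =>
    intro _ a _ b _
    simp [tw_zero]
  | succ n ih =>
    intro hn a ha b hb
    rw [tw_succ, tw_succ, tw_succ, ih (by omega) a ha b hb]
    have hcm := tw_commute L y p Hc n (by omega) b hb n le_rfl (by omega) a ha
    have h1 : y ^ n * (a * b) * (y ^ n)⁻¹ = (y ^ n * a * (y ^ n)⁻¹) * (y ^ n * b * (y ^ n)⁻¹) := by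
      group
    rw [h1]
    calc tw y n a * tw y n b * ((y ^ n * a * (y ^ n)⁻¹) * (y ^ n * b * (y ^ n)⁻¹))
        = tw y n a * (tw y n b * (y ^ n * a * (y ^ n)⁻¹)) * (y ^ n * b * (y ^ n)⁻¹) := by group
      _ = tw y n a * ((y ^ n * a * (y ^ n)⁻¹) * tw y n b) * (y ^ n * b * (y ^ n)⁻¹) := by
          rw [hcm.eq]
      _ = _ := by group

theorem tw_head : ∀ n : ℕ, 1 ≤ n → n ≤ p → ∀ l ∈ L, ∃ q : G, tw y n l = l * q ∧
    ∀ b ∈ L, Commute q b := by
  intro n hn1
  induction n, hn1 using Nat.le_induction with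
  | base =>
    intro _ l _
    exact ⟨1, by rw [tw_one, mul_one], fun b _ => Commute.one_left b⟩
  | succ n hn1 ih =>
    intro hn l hl
    obtain ⟨q, hq, hqc⟩ := ih (by omega) l hl
    refine ⟨q * (y ^ n * l * (y ^ n)⁻¹), ?_, ?_⟩
    · rw [tw_succ, hq]; group
    · intro b hb
      apply Commute.mul_left (hqc b hb)
      have := Hc n 0 (by omega) (by omega) (by omega) l hl b hb
      simpa using this

end comm


section diag

variable (L : Subgroup G) (y : G) (p : ℕ)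
  (Hc : ∀ i j : ℕ, i < p → j < p → i ≠ j → ∀ a ∈ L, ∀ b ∈ L,
    Commute (y ^ i * a * (y ^ i)⁻¹) (y ^ j * b * (y ^ j)⁻¹))
  (hyp : y ^ p = 1)

include hyp in
theorem diag_eq (l : G) : (l * y) ^ p = tw y p l := by
  unfold tw
  rw [hyp, inv_one, mul_one]

include Hc hyp in
theorem diag_mul : ∀ a ∈ L, ∀ b ∈ L, (a * b * y) ^ p = (a * y) ^ p * (b * y) ^ p := by
  intro a ha b hb
  rw [diag_eq y p hyp, diag_eq y p hyp, diag_eq y p hyp]
  exact tw_mul L y p Hc p le_rfl a ha b hb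

include Hc hyp in
theorem diag_head (hp1 : 1 ≤ p) : ∀ l ∈ L, ∃ q : G, (l * y) ^ p = l * q ∧ ∀ b ∈ L, Commute q b := by
  intro l hl
  rw [diag_eq y p hyp]
  exact tw_head L y p Hc p hp1 le_rfl l hl

include Hc hyp in
theorem diag_commute_y (hp1 : 1 ≤ p) : ∀ l ∈ L, y * (l * y) ^ p = (l * y) ^ p * y := by
  intro l hl
  obtain ⟨q, hq, hqc⟩ := diag_head L y p Hc hyp hp1 l hl
  have h1 : y * (l * y) ^ p * y⁻¹ = (y * l) ^ p := by
    rw [← conj_pow]
    congr 1
    group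
  have h2 : l⁻¹ * (l * y) ^ p * l = (y * l) ^ p := by
    have := (conj_pow (a := l⁻¹) (b := l * y) (i := p)).symm
    rw [inv_inv] at this
    rw [this]
    congr 1
    group
  have h3 : y * (l * y) ^ p * y⁻¹ = (l * y) ^ p := by
    rw [h1, ← h2, hq]
    have := (hqc l hl).eq
    calc l⁻¹ * (l * q) * l = q * l := by group
      _ = l * q := this
  calc y * (l * y) ^ p = (y * (l * y) ^ p * y⁻¹) * y := by group
    _ = (l * y) ^ p * y := by rw [h3]

theorem diag_conj (w l : G) (hw : w * y = y * w) :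
    w * (l * y) ^ p * w⁻¹ = (w * l * w⁻¹ * y) ^ p := by
  rw [← conj_pow]
  congr 1
  calc w * (l * y) * w⁻¹ = w * l * (y * w⁻¹) := by group
    _ = w * l * (w⁻¹ * y) := by
        have : y * w⁻¹ = w⁻¹ * y := by
          calc y * w⁻¹ = w⁻¹ * (w * y) * w⁻¹ := by group
            _ = w⁻¹ * (y * w) * w⁻¹ := by rw [hw]
            _ = w⁻¹ * y := by group
        rw [this]
    _ = w * l * w⁻¹ * y := by group

end diag


universe u

/-- **Lemma D**: let `L` be a component of `G` (with `O_{p'}(G) = 1`) and `y` an element with `y^p = 1`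
whose powers move `L` to `p` pairwise commuting conjugates. A `p'`-subgroup `W` centralizing `y`,
normalizing `L` and normalized by `C_G(y)` centralizes `L`. -/
theorem centralizes_of_diag {G : Type u} [Group G] [Finite G] (p : ℕ) [hp : Fact p.Prime]
    (hO : pPrimeCore p G = ⊥) (L : Subgroup G) (hL : IsComponent L) (y : G) (hyp : y ^ p = 1)
    (Hc : ∀ i j : ℕ, i < p → j < p → i ≠ j → ∀ a ∈ L, ∀ b ∈ L,
      Commute (y ^ i * a * (y ^ i)⁻¹) (y ^ j * b * (y ^ j)⁻¹))
    (W : Subgroup G) (hW : (Nat.card ↥W).Coprime p) (hWy : ∀ w ∈ W, w * y = y * w)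
    (hWL : W ≤ Subgroup.normalizer (L : Set G))
    (hN : ∀ g : G, g * y = y * g → g ∈ Subgroup.normalizer (W : Set G)) :
    ∀ l ∈ L, ∀ w ∈ W, w * l = l * w := by
  classical
  have hp1 : 1 ≤ p := hp.out.one_le
  have hdmul := diag_mul L y p Hc hyp
  have hdN : ∀ a ∈ L, (a * y) ^ p ∈ Subgroup.normalizer (W : Set G) := fun a ha =>
    hN _ (diag_commute_y L y p Hc hyp hp1 a ha).symm
  have hd1 : ((1 : G) * y) ^ p = 1 := by rw [one_mul, hyp]
  have hdinv : ∀ u ∈ L, (u⁻¹ * y) ^ p = ((u * y) ^ p)⁻¹ := by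
    intro u hu
    have := hdmul u⁻¹ (L.inv_mem hu) u hu
    rw [inv_mul_cancel, hd1] at this
    exact eq_inv_of_mul_eq_one_left this.symm
  let U : Subgroup G :=
    { carrier := {u | u ∈ L ∧ (u * y) ^ p ∈ W}
      mul_mem' := by
        rintro a b ⟨ha, ha'⟩ ⟨hb, hb'⟩
        exact ⟨L.mul_mem ha hb, by rw [hdmul a ha b hb]; exact W.mul_mem ha' hb'⟩
      one_mem' := ⟨L.one_mem, by rw [hd1]; exact W.one_mem⟩
      inv_mem' := by
        rintro a ⟨ha, ha'⟩
        exact ⟨L.inv_mem ha, by rw [hdinv a ha]; exact W.inv_mem ha'⟩ }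
  have hUL : U ≤ L := fun u hu => hu.1
  haveI hUn : (U.subgroupOf L).Normal := by
    constructor
    intro u hu a
    rw [Subgroup.mem_subgroupOf] at hu ⊢
    refine ⟨L.mul_mem (L.mul_mem a.2 u.2) (L.inv_mem a.2), ?_⟩
    show (((a : G) * (u : G) * (a : G)⁻¹) * y) ^ p ∈ W
    rw [hdmul _ (L.mul_mem a.2 u.2) _ (L.inv_mem a.2), hdmul _ a.2 _ u.2, hdinv _ a.2]
    exact (Subgroup.mem_normalizer_iff.mp (hdN a a.2) _).mp hu.2
  rcases Cfsg.Agent.S1259.result hL.2 (U.subgroupOf L) hUn.isSubnormal with htop | hcen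
  · exfalso
    have hall : ∀ l : ↥L, ((l : G) * y) ^ p ∈ W := by
      intro l
      have : l ∈ U.subgroupOf L := by rw [htop]; exact Subgroup.mem_top l
      rw [Subgroup.mem_subgroupOf] at this
      exact this.2
    let f : ↥L →* ↥W := MonoidHom.mk' (fun l => ⟨((l : G) * y) ^ p, hall l⟩) (by
      intro a b
      apply Subtype.ext
      exact hdmul a a.2 b b.2)
    have hker : f.ker ≤ Subgroup.center ↥L := by
      intro l hl
      rw [MonoidHom.mem_ker] at hl
      have h1 : ((l : G) * y) ^ p = 1 := congrArg Subtype.val hl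
      obtain ⟨q, hq, hqc⟩ := diag_head L y p Hc hyp hp1 l l.2
      rw [h1] at hq
      have hlq : (l : G) = q⁻¹ := eq_inv_of_mul_eq_one_left hq.symm
      rw [Subgroup.mem_center_iff]
      intro b
      apply Subtype.ext
      show (b : G) * (l : G) = (l : G) * (b : G)
      rw [hlq]
      exact ((hqc b b.2).inv_left).eq.symm
    apply Cfsg.Agent.Lib.Helper3_PComp.component_central_index p hO L hL f.ker hker
    rw [Subgroup.index_ker]
    exact Nat.Coprime.coprime_dvd_left (Subgroup.card_subgroup_dvd_card _) hW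
  · haveI : Group.IsPerfect ↥L := hL.2.1
    intro l hl w hw
    have hwN := hWL hw
    refine centralizes_of_commutator_central L w ?_ ?_ l hl
    · intro x hx
      exact L.mul_mem ((Subgroup.mem_normalizer_iff.mp hwN x).mp hx) (L.inv_mem hx)
    · intro x hx z hz
      have hxL : w * x * w⁻¹ ∈ L := (Subgroup.mem_normalizer_iff.mp hwN x).mp hx
      have huL : w * x * w⁻¹ * x⁻¹ ∈ L := L.mul_mem hxL (L.inv_mem hx)
      have huU : w * x * w⁻¹ * x⁻¹ ∈ U := by
        refine ⟨huL, ?_⟩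
        show ((w * x * w⁻¹ * x⁻¹) * y) ^ p ∈ W
        rw [hdmul _ hxL _ (L.inv_mem hx), hdinv x hx, ← diag_conj y p w x (hWy w hw)]
        have h1 := (Subgroup.mem_normalizer_iff.mp (hdN x hx) w⁻¹).mp (W.inv_mem hw)
        have h2 : w * (x * y) ^ p * w⁻¹ * ((x * y) ^ p)⁻¹ =
            w * ((x * y) ^ p * w⁻¹ * ((x * y) ^ p)⁻¹) := by group
        rw [h2]
        exact W.mul_mem hw h1
      have hmem : (⟨w * x * w⁻¹ * x⁻¹, huL⟩ : ↥L) ∈ U.subgroupOf L := by
        rw [Subgroup.mem_subgroupOf]; exact huU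
      have := Subgroup.mem_center_iff.mp (hcen hmem) ⟨z, hz⟩
      exact (congrArg Subtype.val this).symm

end Cfsg.Agent.Lib.Helper3_Diag
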