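import Mathlib
import Cfsg.Prelude.Def_Local
import Cfsg.Agent.Lib.Helper3_LBal
import Cfsg.Agent.Lib.Helper3_Replacement
import Cfsg.Agent.S1270
import Cfsg.Agent.S1265
import Cfsg.Agent.S1268

/-! A nontrivial subgroup of `O(C_G(t))` in a group with `O(G) = 1` acts nontrivially on a
`t`-invariant component not centralized by `t` (helper3). -/

set_option autoImplicit false

namespace Cfsg.Agent.Lib.Helper3_CoreComp

open Cfsg
open scoped commutatorElement

variable {G : Type*} [Group G] [Finite G]

theorem special (p : ℕ) [hp : Fact p.Prime] (hO : pPrimeCore p G = ⊥) (t : G)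
    (ht : orderOf t = p)
    (Y : Subgroup G) (hY1 : Y ≠ ⊥) (hY : Y ≤ centralizerPPrimeCore p t) :
    ∃ E : Subgroup G, IsComponent E ∧ E.map (MulAut.conj t).toMonoidHom = E ∧
      Y ≤ Subgroup.normalizer (E : Set G) ∧ t ∉ Subgroup.centralizer (E : Set G) ∧
      ¬ Y ≤ Subgroup.centralizer (E : Set G) := by
  classical
  set C := Subgroup.centralizer ({t} : Set G) with hC
  set W := centralizerPPrimeCore p t with hW
  have hWdef : W = (pPrimeCore p ↥C).map C.subtype := rfl
  have hWC : W ≤ C := by rw [hWdef]; exact Subgroup.map_subtype_le _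
  have hRp : IsPGroup p ↥(Subgroup.zpowers t) := by
    apply IsPGroup.of_card (n := 1)
    rw [Nat.card_zpowers, ht, pow_one]
  have hWcop : (Nat.card ↥W).Coprime p := by
    rw [hWdef, Subgroup.card_map_of_injective C.subtype_injective]
    exact Cfsg.Agent.Lib.Helper5_PPrime.pPrimeCore_coprime p ↥C
  have hcomm_t : ∀ y : G, y ∈ C → ∀ s ∈ Subgroup.zpowers t, y * s = s * y := by
    intro y hy s hs
    have h1 : y * t = t * y := Subgroup.mem_centralizer_singleton_iff.mp hy
    have h2 : Subgroup.zpowers t ≤ Subgroup.centralizer ({y} : Set G) := by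
      rw [Subgroup.zpowers_le, Subgroup.mem_centralizer_singleton_iff]; exact h1.symm
    exact (Subgroup.mem_centralizer_singleton_iff.mp (h2 hs)).symm
  have hWR : ∀ w ∈ W, ∀ s ∈ Subgroup.zpowers t, w * s = s * w := fun w hw =>
    hcomm_t w (hWC hw)
  have hN : ∀ y : G, (∀ s ∈ Subgroup.zpowers t, y * s = s * y) →
      y ∈ Subgroup.normalizer (W : Set G) := by
    intro y hy
    have hyC : y ∈ C := by
      rw [hC, Subgroup.mem_centralizer_singleton_iff]
      exact hy t (Subgroup.mem_zpowers t)
    haveI hn : (pPrimeCore p ↥C).Normal := Cfsg.Agent.Lib.Helper5_PPrime.pPrimeCore_normal p ↥C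
    have h1 := Subgroup.le_normalizer_map (H := pPrimeCore p ↥C) C.subtype
    rw [Subgroup.normalizer_eq_top_iff.mpr hn, ← MonoidHom.range_eq_map, Subgroup.range_subtype]
      at h1
    exact h1 hyC
  obtain ⟨hA1, hA2⟩ := Cfsg.Agent.Lib.Helper3_LBal.lemmaA p hO (Subgroup.zpowers t) W hRp hWcop
    hWR hN
  -- some component is not centralized by `Y`
  have hex : ∃ E : Subgroup G, IsComponent E ∧ ¬ Y ≤ Subgroup.centralizer (E : Set G) := by
    by_contra hno
    push Not at hno
    apply hY1
    have hYlayer : layer G ≤ Subgroup.centralizer (Y : Set G) := by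
      apply sSup_le
      intro E hE
      exact Subgroup.le_centralizer_iff.mp (hno E hE)
    have hYpc : pCore p G ≤ Subgroup.centralizer (Y : Set G) :=
      hA1.trans (Subgroup.centralizer_le (by exact_mod_cast hY))
    have hfit := Cfsg.Agent.S1268.fitting_eq_pCore_of_pPrimeCore_eq_bot p hO
    have hYgf : generalizedFittingSubgroup G ≤ Subgroup.centralizer (Y : Set G) := by
      unfold generalizedFittingSubgroup
      rw [hfit]
      exact sup_le hYlayer hYpc
    have hYc : Y ≤ Subgroup.centralizer (generalizedFittingSubgroup G : Set G) :=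
      Subgroup.le_centralizer_iff.mp hYgf
    have hYgf' : Y ≤ generalizedFittingSubgroup G := hYc.trans Cfsg.Agent.S1265.result
    -- the center of `F*` is a normal abelian subgroup
    haveI hgn : (generalizedFittingSubgroup G).Normal := Cfsg.Agent.S1265.gf_normal G
    have hZn : (generalizedFittingSubgroup G ⊓
        Subgroup.centralizer (generalizedFittingSubgroup G : Set G)).Normal := inferInstance
    have hnil : Group.IsNilpotent ↥(generalizedFittingSubgroup G ⊓
        Subgroup.centralizer (generalizedFittingSubgroup G : Set G)) := by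
      letI : CommGroup ↥(generalizedFittingSubgroup G ⊓
          Subgroup.centralizer (generalizedFittingSubgroup G : Set G)) :=
        { (inferInstance : Group ↥(generalizedFittingSubgroup G ⊓
            Subgroup.centralizer (generalizedFittingSubgroup G : Set G))) with
          mul_comm := fun a b => Subtype.ext
            ((Subgroup.mem_centralizer_iff.mp b.2.2 a a.2.1)) }
      exact CommGroup.isNilpotent
    have hZle : generalizedFittingSubgroup G ⊓
        Subgroup.centralizer (generalizedFittingSubgroup G : Set G) ≤ pCore p G := by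
      rw [← hfit]
      exact le_sSup ⟨hZn, hnil⟩
    have hYle : Y ≤ pCore p G := (le_inf hYgf' hYc).trans hZle
    have hpp : IsPGroup p ↥(pCore p G) := Cfsg.Agent.Lib.Helper4_PCore.pCore_isPGroup
    rw [eq_bot_iff]
    intro y hy
    rw [Subgroup.mem_bot]
    obtain ⟨k, hk⟩ := hpp ⟨y, hYle hy⟩
    have hk' : y ^ (p ^ k) = 1 := by
      have := congrArg Subtype.val hk
      simpa using this
    have h1 : orderOf y ∣ p ^ k := orderOf_dvd_of_pow_eq_one hk'
    have h2 : orderOf y ∣ Nat.card ↥W := Subgroup.orderOf_dvd_natCard W (hY hy)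
    have hcop : Nat.Coprime (p ^ k) (Nat.card ↥W) := Nat.Coprime.pow_left k hWcop.symm
    exact orderOf_eq_one_iff.mp (Nat.eq_one_of_dvd_coprimes hcop h1 h2)
  obtain ⟨E, hE, hYE⟩ := hex
  have hcomE : ⁅E, Subgroup.zpowers t⁆ = E := by
    by_contra hne
    have h1 := Cfsg.Agent.S1270.result p hO t ht E hE hne
    apply hYE
    have h2 : E ≤ Subgroup.centralizer (W : Set G) :=
      Subgroup.commutator_eq_bot_iff_le_centralizer.mp h1
    exact hY.trans (Subgroup.le_centralizer_iff.mp h2)
  have hconj : ∀ e ∈ E, t * e * t⁻¹ ∈ E := by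
    intro e he
    have h1 : ⁅e⁻¹, t⁆ ∈ ⁅E, Subgroup.zpowers t⁆ :=
      Subgroup.commutator_mem_commutator (E.inv_mem he) (Subgroup.mem_zpowers t)
    rw [hcomE] at h1
    have e1 : t * e * t⁻¹ = e * ⁅e⁻¹, t⁆ := by rw [commutatorElement_def]; group
    rw [e1]
    exact E.mul_mem he h1
  refine ⟨E, hE, ?_, hY.trans (hA2 E hE), ?_, hYE⟩
  · apply Subgroup.eq_of_le_of_card_ge
    · rintro _ ⟨e, he, rfl⟩
      exact hconj e he
    · rw [Subgroup.card_map_of_injective (MulAut.conj t).injective]
  · intro htc
    have h1 : Subgroup.zpowers t ≤ Subgroup.centralizer (E : Set G) :=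
      (Subgroup.zpowers_le).mpr htc
    have h2 : ⁅E, Subgroup.zpowers t⁆ = ⊥ :=
      Subgroup.commutator_eq_bot_iff_le_centralizer.mpr (Subgroup.le_centralizer_iff.mp h1)
    rw [hcomE] at h2
    haveI := Cfsg.Agent.Lib.Helper3_Components.quasisimple_nontrivial hE.2
    exact (Subgroup.nontrivial_iff_ne_bot E).mp inferInstance h2

end Cfsg.Agent.Lib.Helper3_CoreComp
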