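import Mathlib
import Cfsg.Prelude.Def_Local
import Cfsg.Agent.Lib.Helper3_CoreComp
import Cfsg.Agent.Lib.Helper3_Transport
import Cfsg.Agent.Lib.Helper3_SupNormalizer
import Cfsg.Agent.Lib.Lead_Coprime
import Cfsg.Agent.Lib.Lead_SZ

/-! Passing from `H` to `H ⟨t⟩` for an involution `t` normalizing `H` (helper3). -/

set_option autoImplicit false

namespace Cfsg.Agent.Lib.Helper3_CoreComp2

open Cfsg
open scoped commutatorElement

variable {G : Type*} [Group G] [Finite G]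

theorem sq_eq_one_of_mem_zpowers (t : G) (ht : orderOf t = 2) {s : G}
    (hs : s ∈ Subgroup.zpowers t) : s * s = 1 := by
  obtain ⟨k, rfl⟩ := Subgroup.mem_zpowers_iff.mp hs
  have h2 : t ^ (2 : ℤ) = 1 := by
    have := pow_orderOf_eq_one t
    rw [ht] at this
    exact_mod_cast this
  calc t ^ k * t ^ k = t ^ (k + k) := (zpow_add t k k).symm
    _ = t ^ (2 * k) := by ring_nf
    _ = (t ^ (2 : ℤ)) ^ k := zpow_mul t 2 k
    _ = 1 := by rw [h2, one_zpow]

/-- `O(H⟨t⟩) = 1` when `O(H) = 1` -/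
theorem core_sup_eq_bot (H : Subgroup G) (hO : pPrimeCore 2 ↥H = ⊥) (t : G) (ht : orderOf t = 2)
    (htH : t ∈ Subgroup.normalizer (H : Set G)) :
    pPrimeCore 2 ↥(H ⊔ Subgroup.zpowers t) = ⊥ := by
  classical
  haveI : Fact (Nat.Prime 2) := ⟨Nat.prime_two⟩
  have hHX : H ≤ H ⊔ Subgroup.zpowers t := le_sup_left
  have hZN : Subgroup.zpowers t ≤ Subgroup.normalizer (H : Set G) := (Subgroup.zpowers_le).mpr htH
  haveI hDn : (pPrimeCore 2 ↥(H ⊔ Subgroup.zpowers t)).Normal :=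
    Cfsg.Agent.Lib.Helper5_PPrime.pPrimeCore_normal 2 _
  have hDc : (Nat.card ↥(pPrimeCore 2 ↥(H ⊔ Subgroup.zpowers t))).Coprime 2 :=
    Cfsg.Agent.Lib.Helper5_PPrime.pPrimeCore_coprime 2 _
  -- step A
  have hA : (pPrimeCore 2 ↥(H ⊔ Subgroup.zpowers t)).map (H ⊔ Subgroup.zpowers t).subtype ⊓ H = ⊥ := by
    set DG := (pPrimeCore 2 ↥(H ⊔ Subgroup.zpowers t)).map (H ⊔ Subgroup.zpowers t).subtype with hDG
    haveI hn0 : ((DG ⊓ H).subgroupOf H).Normal := by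
      constructor
      rintro ⟨n, hnH⟩ hn ⟨g, hgH⟩
      rw [Subgroup.mem_subgroupOf] at hn ⊢
      show g * n * g⁻¹ ∈ DG ⊓ H
      refine ⟨?_, H.mul_mem (H.mul_mem hgH hnH) (H.inv_mem hgH)⟩
      obtain ⟨d, hd, hdn⟩ := hn.1
      have h1 := hDn.conj_mem d hd ⟨g, hHX hgH⟩
      refine ⟨_, h1, ?_⟩
      change (H ⊔ Subgroup.zpowers t).subtype d = n at hdn
      simp only [Subgroup.coe_subtype] at hdn
      simp [hdn]
    have hc0 : (Nat.card ↥((DG ⊓ H).subgroupOf H)).Coprime 2 := by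
      rw [Cfsg.Agent.Lib.Lead_SZ.card_subgroupOf_of_le inf_le_right]
      have h1 : Nat.card ↥(DG ⊓ H) ∣ Nat.card ↥DG := Subgroup.card_dvd_of_le inf_le_left
      rw [hDG, Subgroup.card_map_of_injective (Subgroup.subtype_injective _)] at h1
      exact Nat.Coprime.coprime_dvd_left h1 hDc
    have h0 := Cfsg.Agent.Lib.Helper5_PPrime.le_pPrimeCore ((DG ⊓ H).subgroupOf H) hc0
    rw [hO] at h0
    rw [eq_bot_iff]
    intro x hx
    have : (⟨x, hx.2⟩ : ↥H) ∈ (DG ⊓ H).subgroupOf H := Subgroup.mem_subgroupOf.mpr hx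
    have h2 := h0 this
    rw [Subgroup.mem_bot] at h2 ⊢
    exact congrArg Subtype.val h2
  rw [eq_bot_iff]
  rintro ⟨d, hdX⟩ hd
  rw [Subgroup.mem_bot]
  obtain ⟨h, hh, s, hs, rfl⟩ :=
    Cfsg.Agent.Lib.Helper3_SupNormalizer.exists_mul_of_mem_sup H (Subgroup.zpowers t) hZN hdX
  have hss := sq_eq_one_of_mem_zpowers t ht hs
  have hconj : s * h * s⁻¹ ∈ H := (Subgroup.mem_normalizer_iff.mp (hZN hs) h).mp hh
  have hsqH : (h * s) * (h * s) ∈ H := by
    have e : (h * s) * (h * s) = h * (s * h * s⁻¹) * (s * s) := by group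
    rw [e, hss, mul_one]
    exact H.mul_mem hh hconj
  have hsqD : (h * s) * (h * s) ∈
      (pPrimeCore 2 ↥(H ⊔ Subgroup.zpowers t)).map (H ⊔ Subgroup.zpowers t).subtype :=
    ⟨_, Subgroup.mul_mem _ hd hd, rfl⟩
  have hsq1 : (h * s) * (h * s) = 1 := by
    have : (h * s) * (h * s) ∈ (⊥ : Subgroup G) := by rw [← hA]; exact ⟨hsqD, hsqH⟩
    exact Subgroup.mem_bot.mp this
  have ho1 : orderOf (h * s) ∣ 2 := orderOf_dvd_of_pow_eq_one (by rw [pow_two]; exact hsq1)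
  have ho2 : orderOf (h * s) ∣ Nat.card ↥(pPrimeCore 2 ↥(H ⊔ Subgroup.zpowers t)) := by
    have := Subgroup.orderOf_dvd_natCard _ hd
    rwa [Subgroup.orderOf_mk] at this
  have ho : orderOf (h * s) = 1 := Nat.eq_one_of_dvd_coprimes hDc.symm ho1 ho2
  apply Subtype.ext
  exact orderOf_eq_one_iff.mp ho


instance pPrimeCore_characteristic (p : ℕ) (A : Type*) [Group A] : (pPrimeCore p A).Characteristic :=
  Subgroup.characteristic_iff_map_eq.mpr
    (fun e => Cfsg.Agent.Lib.Helper3_Transport.pPrimeCore_map_equiv p e)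

/-- `O(C_H(t)) ≤ O(C_{H⟨t⟩}(t))` -/
theorem core_le (H : Subgroup G) (t : G)
    (htH : t ∈ Subgroup.normalizer (H : Set G)) (htX : t ∈ H ⊔ Subgroup.zpowers t)
    (y : G)
    (hy : y ∈ (pPrimeCore 2 ↥(H ⊓ Subgroup.centralizer ({t} : Set G))).map
      (H ⊓ Subgroup.centralizer ({t} : Set G)).subtype)
    (hyX : y ∈ H ⊔ Subgroup.zpowers t) :
    (⟨y, hyX⟩ : ↥(H ⊔ Subgroup.zpowers t)) ∈
      centralizerPPrimeCore 2 (⟨t, htX⟩ : ↥(H ⊔ Subgroup.zpowers t)) := by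
  classical
  haveI : Fact (Nat.Prime 2) := ⟨Nat.prime_two⟩
  set K := H ⊓ Subgroup.centralizer ({t} : Set G) with hK
  set WH := (pPrimeCore 2 ↥K).map K.subtype with hWH
  set X := H ⊔ Subgroup.zpowers t with hX
  set t' : ↥X := ⟨t, htX⟩ with ht'
  set C' := Subgroup.centralizer ({t'} : Set ↥X) with hC'
  have hHX : H ≤ X := le_sup_left
  have hXN : X ≤ Subgroup.normalizer (H : Set G) :=
    sup_le Subgroup.le_normalizer ((Subgroup.zpowers_le).mpr htH)
  have hWK : WH ≤ K := Subgroup.map_subtype_le _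
  have hWX : WH ≤ X := hWK.trans (inf_le_left.trans hHX)
  have hWC : WH.subgroupOf X ≤ C' := by
    intro x hx
    rw [Subgroup.mem_subgroupOf] at hx
    rw [hC', Subgroup.mem_centralizer_singleton_iff]
    apply Subtype.ext
    exact Subgroup.mem_centralizer_singleton_iff.mp (hWK hx).2
  -- elements of `C'` normalize `K`
  have hCK : ∀ c : ↥C', ((c : ↥X) : G) ∈ Subgroup.normalizer (K : Set G) := by
    intro c
    have hct : ((c : ↥X) : G) * t = t * ((c : ↥X) : G) := by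
      have := Subgroup.mem_centralizer_singleton_iff.mp c.2
      exact congrArg Subtype.val this
    have hcH := hXN (c : ↥X).2
    apply Subgroup.mem_normalizer_fintype
    intro k hk
    refine ⟨(Subgroup.mem_normalizer_iff.mp hcH k).mp hk.1, ?_⟩
    refine Subgroup.mem_centralizer_singleton_iff.mpr ?_
    have hkt : k * t = t * k := Subgroup.mem_centralizer_singleton_iff.mp hk.2
    calc ((c : ↥X) : G) * k * ((c : ↥X) : G)⁻¹ * t
        = ((c : ↥X) : G) * k * (((c : ↥X) : G)⁻¹ * t * ((c : ↥X) : G)) * ((c : ↥X) : G)⁻¹ := by group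
      _ = ((c : ↥X) : G) * k * (((c : ↥X) : G)⁻¹ * (((c : ↥X) : G) * t)) * ((c : ↥X) : G)⁻¹ := by
          rw [hct, mul_assoc (((c : ↥X) : G)⁻¹)]
      _ = ((c : ↥X) : G) * (k * t) * ((c : ↥X) : G)⁻¹ := by group
      _ = ((c : ↥X) : G) * (t * k) * ((c : ↥X) : G)⁻¹ := by rw [hkt]
      _ = (((c : ↥X) : G) * t) * k * ((c : ↥X) : G)⁻¹ := by group
      _ = t * (((c : ↥X) : G) * k * ((c : ↥X) : G)⁻¹) := by rw [hct]; group
  haveI hNn : ((WH.subgroupOf X).subgroupOf C').Normal := by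
    constructor
    intro n hn c
    rw [Subgroup.mem_subgroupOf, Subgroup.mem_subgroupOf] at hn ⊢
    have h := Cfsg.Agent.Lib.Lead_Coprime.conj_mem_char_map (pPrimeCore 2 ↥K) (hCK c) hn
    simp only [Subgroup.coe_mul, Subgroup.coe_inv]
    exact h
  have hNc : (Nat.card ↥((WH.subgroupOf X).subgroupOf C')).Coprime 2 := by
    rw [Cfsg.Agent.Lib.Lead_SZ.card_subgroupOf_of_le hWC,
      Cfsg.Agent.Lib.Lead_SZ.card_subgroupOf_of_le hWX, hWH,
      Subgroup.card_map_of_injective (Subgroup.subtype_injective _)]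
    exact Cfsg.Agent.Lib.Helper5_PPrime.pPrimeCore_coprime 2 _
  have hle := Cfsg.Agent.Lib.Helper5_PPrime.le_pPrimeCore ((WH.subgroupOf X).subgroupOf C') hNc
  have hyC : (⟨y, hyX⟩ : ↥X) ∈ C' := hWC (Subgroup.mem_subgroupOf.mpr hy)
  have hyN : (⟨⟨y, hyX⟩, hyC⟩ : ↥C') ∈ (WH.subgroupOf X).subgroupOf C' := by
    rw [Subgroup.mem_subgroupOf, Subgroup.mem_subgroupOf]
    exact hy
  exact ⟨⟨⟨y, hyX⟩, hyC⟩, hle hyN, rfl⟩


/-- components of `H⟨t⟩` lie in `H` -/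
theorem component_le (H : Subgroup G) (t : G) (htH : t ∈ Subgroup.normalizer (H : Set G))
    (E' : Subgroup ↥(H ⊔ Subgroup.zpowers t)) (hE' : IsComponent E') :
    E' ≤ H.subgroupOf (H ⊔ Subgroup.zpowers t) := by
  classical
  have hHX : H ≤ (H ⊔ Subgroup.zpowers t) := le_sup_left
  have hZN : Subgroup.zpowers t ≤ Subgroup.normalizer (H : Set G) := (Subgroup.zpowers_le).mpr htH
  have hXN : (H ⊔ Subgroup.zpowers t) ≤ Subgroup.normalizer (H : Set G) := sup_le Subgroup.le_normalizer hZN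
  haveI hHn : (H.subgroupOf (H ⊔ Subgroup.zpowers t)).Normal := Subgroup.normal_subgroupOf_of_le_normalizer hXN
  have htX : t ∈ (H ⊔ Subgroup.zpowers t) := Subgroup.mem_sup_right (Subgroup.mem_zpowers t)
  have hquot : ∀ x : ↥(H ⊔ Subgroup.zpowers t), ∃ k : ℤ, QuotientGroup.mk' (H.subgroupOf (H ⊔ Subgroup.zpowers t)) x =
      (QuotientGroup.mk' (H.subgroupOf (H ⊔ Subgroup.zpowers t)) ⟨t, htX⟩) ^ k := by
    rintro ⟨x, hx⟩
    obtain ⟨h, hh, s, hs, rfl⟩ :=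
      Cfsg.Agent.Lib.Helper3_SupNormalizer.exists_mul_of_mem_sup H (Subgroup.zpowers t) hZN hx
    obtain ⟨k, rfl⟩ := Subgroup.mem_zpowers_iff.mp hs
    refine ⟨k, ?_⟩
    have e : (⟨h * t ^ k, hx⟩ : ↥(H ⊔ Subgroup.zpowers t)) = ⟨h, hHX hh⟩ * (⟨t, htX⟩ : ↥(H ⊔ Subgroup.zpowers t)) ^ k := by
      apply Subtype.ext
      simp
    rw [e, map_mul, map_zpow]
    have h1 : QuotientGroup.mk' (H.subgroupOf (H ⊔ Subgroup.zpowers t)) ⟨h, hHX hh⟩ = 1 :=
      (QuotientGroup.eq_one_iff _).mpr (Subgroup.mem_subgroupOf.mpr hh)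
    rw [h1, one_mul]
  have hcomm : commutator ↥(H ⊔ Subgroup.zpowers t) ≤ H.subgroupOf (H ⊔ Subgroup.zpowers t) := by
    rw [commutator_def, Subgroup.commutator_le]
    intro x _ y _
    rw [← QuotientGroup.eq_one_iff, ← QuotientGroup.mk'_apply, map_commutatorElement]
    obtain ⟨i, hi⟩ := hquot x
    obtain ⟨j, hj⟩ := hquot y
    rw [hi, hj]
    exact commutatorElement_eq_one_iff_commute.mpr ((Commute.refl _).zpow_zpow i j)
  have hperf : ⁅E', E'⁆ = E' := Subgroup.isPerfect_iff.mp hE'.2.1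
  calc E' = ⁅E', E'⁆ := hperf.symm
    _ ≤ ⁅(⊤ : Subgroup ↥(H ⊔ Subgroup.zpowers t)), ⊤⁆ := Subgroup.commutator_mono le_top le_top
    _ = commutator ↥(H ⊔ Subgroup.zpowers t) := (commutator_def ↥(H ⊔ Subgroup.zpowers t)).symm
    _ ≤ H.subgroupOf (H ⊔ Subgroup.zpowers t) := hcomm

/-- a component of `H⟨t⟩` as a component of `H` -/
theorem exists_component (H : Subgroup G) (t : G) (htH : t ∈ Subgroup.normalizer (H : Set G))
    (E' : Subgroup ↥(H ⊔ Subgroup.zpowers t)) (hE' : IsComponent E') :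
    ∃ E : Subgroup ↥H, IsComponent E ∧
      E.map H.subtype = E'.map (H ⊔ Subgroup.zpowers t).subtype := by
  classical
  have hHX : H ≤ H ⊔ Subgroup.zpowers t := le_sup_left
  have hle := component_le H t htH E' hE'
  have h1 := Cfsg.Agent.Lib.Helper3_Components.component_subgroupOf E'
    (H.subgroupOf (H ⊔ Subgroup.zpowers t)) hE' hle
  have h2 := Cfsg.Agent.Lib.Helper3_Transport.component_map_equiv
    (Subgroup.subgroupOfEquivOfLe hHX) _ h1
  refine ⟨_, h2, ?_⟩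
  ext g
  constructor
  · rintro ⟨z, ⟨w, hw, rfl⟩, rfl⟩
    rw [SetLike.mem_coe, Subgroup.mem_subgroupOf] at hw
    exact ⟨_, hw, rfl⟩
  · rintro ⟨x, hx, rfl⟩
    refine ⟨Subgroup.subgroupOfEquivOfLe hHX ⟨x, hle hx⟩, ⟨⟨x, hle hx⟩, ?_, rfl⟩, rfl⟩
    rw [SetLike.mem_coe, Subgroup.mem_subgroupOf]
    exact hx

end Cfsg.Agent.Lib.Helper3_CoreComp2
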