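import Mathlib

/-!
Nondegenerate quadratic forms on finite elementary abelian 2-groups (written additively),
with values in `ZMod 2`: hyperbolic splitting, zero counts and isometries.
-/

namespace Cfsg.Agent.Lib.Helper3_QuadF2

universe u v

theorem z2_add_self (a : ZMod 2) : a + a = 0 := by revert a; decide

theorem z2_cases (a : ZMod 2) : a = 0 ∨ a = 1 := by revert a; decide

theorem z2_sum (f : ZMod 2 → ℕ) : ∑ a, f a = f 0 + f 1 := by
  have hu : (Finset.univ : Finset (ZMod 2)) = {0, 1} := by decide
  rw [hu, Finset.sum_pair (by decide)]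

theorem z2_sum2 (f : ZMod 2 × ZMod 2 → ℕ) :
    ∑ a, f a = f (0, 0) + f (0, 1) + f (1, 0) + f (1, 1) := by
  rw [Fintype.sum_prod_type, z2_sum, z2_sum, z2_sum]; ring

/-- scalar action of `ZMod 2` by cases. -/
def sm {V : Type*} [Zero V] (a : ZMod 2) (x : V) : V := if a = 0 then 0 else x

/-- the polar form of `q`. -/
def pol {V : Type*} [Add V] (q : V → ZMod 2) (x y : V) : ZMod 2 := q (x + y) + q x + q y

/-- `q` is a nondegenerate quadratic form on the elementary abelian 2-group `V`. -/
structure IsQF {V : Type*} [AddCommGroup V] (q : V → ZMod 2) : Prop where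
  two : ∀ x : V, x + x = 0
  zero : q 0 = 0
  add : ∀ x y w : V, pol q (x + y) w = pol q x w + pol q y w
  nondeg : ∀ x : V, x ≠ 0 → ∃ y, pol q x y = 1

/-- the number of zeros of `q`. -/
noncomputable def N₀ {V : Type*} (q : V → ZMod 2) : ℕ := Nat.card {x : V // q x = 0}

section basic

variable {V : Type*} [AddCommGroup V] {q : V → ZMod 2}

theorem sm_zero (x : V) : sm 0 x = 0 := by simp [sm]

theorem sm_one (x : V) : sm 1 x = x := by simp [sm]

theorem sm_zero_right (a : ZMod 2) : sm a (0 : V) = 0 := by simp [sm]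

theorem pol_comm (q : V → ZMod 2) (x y : V) : pol q x y = pol q y x := by
  unfold pol; rw [add_comm x y]; ring

theorem IsQF.pol_self (h : IsQF q) (x : V) : pol q x x = 0 := by
  unfold pol; rw [h.two, h.zero, zero_add]; exact z2_add_self _

theorem IsQF.pol_zero_left (h : IsQF q) (y : V) : pol q 0 y = 0 := by
  unfold pol; rw [zero_add, h.zero, add_zero]; exact z2_add_self _

theorem IsQF.pol_zero_right (h : IsQF q) (y : V) : pol q y 0 = 0 := by
  rw [pol_comm]; exact h.pol_zero_left y

theorem IsQF.add_right (h : IsQF q) (w x y : V) : pol q w (x + y) = pol q w x + pol q w y := by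
  rw [pol_comm, h.add, pol_comm q x, pol_comm q y]

theorem IsQF.q_add (h : IsQF q) (x y : V) : q (x + y) = q x + q y + pol q x y := by
  unfold pol
  have : ∀ a b c : ZMod 2, a = b + c + (a + b + c) := by decide
  exact this _ _ _

theorem IsQF.neg_eq (h : IsQF q) (x : V) : -x = x :=
  neg_eq_of_add_eq_zero_left (h.two x)

theorem IsQF.sm_add (h : IsQF q) (a b : ZMod 2) (x : V) : sm (a + b) x = sm a x + sm b x := by
  rcases z2_cases a with rfl | rfl <;> rcases z2_cases b with rfl | rfl
  · simp [sm]
  · simp [sm]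
  · simp [sm]
  · have : (1 + 1 : ZMod 2) = 0 := by decide
    rw [this, sm_zero, sm_one, h.two]

theorem sm_add_right (a : ZMod 2) (x y : V) : sm a (x + y) = sm a x + sm a y := by
  rcases z2_cases a with rfl | rfl <;> simp [sm]

theorem IsQF.q_sm (h : IsQF q) (a : ZMod 2) (x : V) : q (sm a x) = a * q x := by
  rcases z2_cases a with rfl | rfl <;> simp [sm, h.zero]

theorem IsQF.pol_sm_left (h : IsQF q) (a : ZMod 2) (x y : V) :
    pol q (sm a x) y = a * pol q x y := by
  rcases z2_cases a with rfl | rfl <;> simp [sm, h.pol_zero_left]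

theorem IsQF.pol_sm_right (h : IsQF q) (a : ZMod 2) (x y : V) :
    pol q y (sm a x) = a * pol q y x := by
  rw [pol_comm, h.pol_sm_left, pol_comm]

/-- the orthogonal complement of the pair `u, v`. -/
def perp (h : IsQF q) (u v : V) : AddSubgroup V where
  carrier := {w | pol q u w = 0 ∧ pol q v w = 0}
  zero_mem' := ⟨h.pol_zero_right u, h.pol_zero_right v⟩
  add_mem' := by
    rintro a b ⟨ha1, ha2⟩ ⟨hb1, hb2⟩
    exact ⟨by rw [h.add_right, ha1, hb1, add_zero], by rw [h.add_right, ha2, hb2, add_zero]⟩
  neg_mem' := by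
    rintro a ⟨ha1, ha2⟩
    show pol q u (-a) = 0 ∧ pol q v (-a) = 0
    rw [h.neg_eq]; exact ⟨ha1, ha2⟩

theorem mem_perp (h : IsQF q) (u v w : V) : w ∈ perp h u v ↔ pol q u w = 0 ∧ pol q v w = 0 :=
  Iff.rfl

/-- restriction of `q` to a subgroup. -/
def qr (q : V → ZMod 2) (W : AddSubgroup V) : W → ZMod 2 := fun w => q w

theorem pol_qr (q : V → ZMod 2) (W : AddSubgroup V) (a b : W) :
    pol (qr q W) a b = pol q (a : V) (b : V) := rfl

/-- the projection to `perp u v`. -/
def proj (q : V → ZMod 2) (u v : V) (x : V) : V := x + sm (pol q x v) u + sm (pol q x u) v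

theorem proj_mem (h : IsQF q) {u v : V} (huv : pol q u v = 1) (x : V) :
    proj q u v x ∈ perp h u v := by
  rw [mem_perp]
  unfold proj
  have hvu : pol q v u = 1 := by rw [pol_comm]; exact huv
  constructor
  · rw [h.add_right, h.add_right, h.pol_sm_right, h.pol_sm_right, h.pol_self, huv,
      pol_comm q u x]
    have : ∀ a b : ZMod 2, a + b * 0 + a * 1 = 0 := by decide
    exact this _ _
  · rw [h.add_right, h.add_right, h.pol_sm_right, h.pol_sm_right, h.pol_self, hvu,
      pol_comm q v x]
    have : ∀ a b : ZMod 2, a + a * 1 + b * 0 = 0 := by decide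
    exact this _ _

theorem isQF_perp (h : IsQF q) {u v : V} (huv : pol q u v = 1) :
    IsQF (qr q (perp h u v)) where
  two x := Subtype.ext (h.two _)
  zero := h.zero
  add x y w := h.add _ _ _
  nondeg := by
    intro w hw
    have hw' : (w : V) ≠ 0 := fun h0 => hw (Subtype.ext h0)
    obtain ⟨y, hy⟩ := h.nondeg _ hw'
    refine ⟨⟨proj q u v y, proj_mem h huv y⟩, ?_⟩
    rw [pol_qr]
    show pol q (w : V) (proj q u v y) = 1
    unfold proj
    have h1 : pol q (w : V) u = 0 := by rw [pol_comm]; exact w.2.1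
    have h2 : pol q (w : V) v = 0 := by rw [pol_comm]; exact w.2.2
    rw [h.add_right, h.add_right, h.pol_sm_right, h.pol_sm_right, h1, h2, hy]
    simp

theorem q_combo (h : IsQF q) {u v : V} (huv : pol q u v = 1) (a b : ZMod 2) (w : V)
    (hw : w ∈ perp h u v) :
    q (sm a u + sm b v + w) = a * q u + b * q v + a * b + q w := by
  rw [h.q_add, h.q_add, h.q_sm, h.q_sm, h.pol_sm_left, h.pol_sm_right, huv, h.add, h.pol_sm_left,
    h.pol_sm_left, hw.1, hw.2]
  ring

/-- the splitting of `V` along a pair `u, v` with `pol q u v = 1`. -/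
noncomputable def decomp (h : IsQF q) {u v : V} (huv : pol q u v = 1) :
    V ≃+ (ZMod 2 × ZMod 2) × (perp h u v) where
  toFun x := ((pol q x v, pol q x u), ⟨proj q u v x, proj_mem h huv x⟩)
  invFun p := sm p.1.1 u + sm p.1.2 v + (p.2 : V)
  left_inv x := by
    show sm (pol q x v) u + sm (pol q x u) v + proj q u v x = x
    unfold proj
    have : ∀ A B x : V, A + A = 0 → B + B = 0 → A + B + (x + A + B) = x := by
      intro A B x hA hB
      calc A + B + (x + A + B) = x + (A + A) + (B + B) := by abel
        _ = x := by rw [hA, hB, add_zero, add_zero]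
    exact this _ _ _ (h.two _) (h.two _)
  right_inv p := by
    obtain ⟨⟨a, b⟩, w⟩ := p
    have hvu : pol q v u = 1 := by rw [pol_comm]; exact huv
    have hw1 : pol q (w : V) u = 0 := by rw [pol_comm]; exact w.2.1
    have hw2 : pol q (w : V) v = 0 := by rw [pol_comm]; exact w.2.2
    have e1 : pol q (sm a u + sm b v + (w : V)) v = a := by
      rw [h.add, h.add, h.pol_sm_left, h.pol_sm_left, huv, h.pol_self, hw2]; ring
    have e2 : pol q (sm a u + sm b v + (w : V)) u = b := by
      rw [h.add, h.add, h.pol_sm_left, h.pol_sm_left, hvu, h.pol_self, hw1]; ring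
    have e3 : proj q u v (sm a u + sm b v + (w : V)) = w := by
      unfold proj
      rw [e1, e2]
      have : ∀ A B x : V, A + A = 0 → B + B = 0 → A + B + x + A + B = x := by
        intro A B x hA hB
        calc A + B + x + A + B = x + (A + A) + (B + B) := by abel
          _ = x := by rw [hA, hB, add_zero, add_zero]
      exact this _ _ _ (h.two _) (h.two _)
    apply Prod.ext
    · exact Prod.ext e1 e2
    · exact Subtype.ext e3
  map_add' x y := by
    apply Prod.ext
    · exact Prod.ext (h.add x y v) (h.add x y u)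
    · apply Subtype.ext
      show proj q u v (x + y) = proj q u v x + proj q u v y
      unfold proj
      rw [h.add, h.add, h.sm_add, h.sm_add]
      abel

theorem decomp_symm_apply (h : IsQF q) {u v : V} (huv : pol q u v = 1)
    (p : (ZMod 2 × ZMod 2) × (perp h u v)) :
    (decomp h huv).symm p = sm p.1.1 u + sm p.1.2 v + (p.2 : V) := rfl

theorem q_decomp_symm (h : IsQF q) {u v : V} (huv : pol q u v = 1)
    (p : (ZMod 2 × ZMod 2) × (perp h u v)) :
    q ((decomp h huv).symm p) = p.1.1 * q u + p.1.2 * q v + p.1.1 * p.1.2 + q (p.2 : V) := by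
  rw [decomp_symm_apply, q_combo h huv _ _ _ p.2.2]

theorem card_decomp [Finite V] (h : IsQF q) {u v : V} (huv : pol q u v = 1) :
    Nat.card V = 4 * Nat.card (perp h u v) := by
  rw [Nat.card_congr (decomp h huv).toEquiv, Nat.card_prod, Nat.card_prod]
  simp

theorem exists_hyperbolic (h : IsQF q) {u : V} (hu : u ≠ 0) (hqu : q u = 0) :
    ∃ v, q v = 0 ∧ pol q u v = 1 := by
  obtain ⟨v, hv⟩ := h.nondeg u hu
  rcases z2_cases (q v) with h0 | h1
  · exact ⟨v, h0, hv⟩
  · refine ⟨v + u, ?_, ?_⟩
    · rw [h.q_add, h1, hqu, pol_comm, hv]; decide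
    · rw [h.add_right, hv, h.pol_self]; decide

theorem N₀_decomp [Finite V] (h : IsQF q) {u v : V} (huv : pol q u v = 1) :
    N₀ q = ∑ ab : ZMod 2 × ZMod 2,
      Nat.card {w : perp h u v // ab.1 * q u + ab.2 * q v + ab.1 * ab.2 + q (w : V) = 0} := by
  unfold N₀
  have e1 : {x : V // q x = 0} ≃
      {p : (ZMod 2 × ZMod 2) × (perp h u v) //
        p.1.1 * q u + p.1.2 * q v + p.1.1 * p.1.2 + q (p.2 : V) = 0} :=
    (decomp h huv).toEquiv.subtypeEquiv (fun x => by
      have := q_decomp_symm h huv ((decomp h huv) x)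
      rw [AddEquiv.symm_apply_apply] at this
      show q x = 0 ↔ _
      rw [this]; rfl)
  rw [Nat.card_congr e1, Nat.card_congr (Equiv.subtypeProdEquivSigmaSubtype
    (fun (ab : ZMod 2 × ZMod 2) (w : perp h u v) =>
      ab.1 * q u + ab.2 * q v + ab.1 * ab.2 + q (w : V) = 0)), Nat.card_sigma]

theorem card_compl [Finite V] (W : AddSubgroup V) (q : V → ZMod 2) :
    Nat.card {w : W // q (w : V) = 0} + Nat.card {w : W // 1 + q (w : V) = 0} = Nat.card W := by
  classical
  have e : {w : W // 1 + q (w : V) = 0} ≃ {w : W // ¬ q (w : V) = 0} :=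
    Equiv.subtypeEquivRight (fun w => by
      have : ∀ c : ZMod 2, 1 + c = 0 ↔ ¬ c = 0 := by decide
      exact this _)
  rw [Nat.card_congr e, ← Nat.card_sum]
  exact Nat.card_congr (Equiv.sumCompl _)

theorem N₀_hyperbolic [Finite V] (h : IsQF q) {u v : V} (huv : pol q u v = 1)
    (hu : q u = 0) (hv : q v = 0) :
    N₀ q = 2 * N₀ (qr q (perp h u v)) + Nat.card (perp h u v) := by
  rw [N₀_decomp h huv, z2_sum2, hu, hv]
  have hc := card_compl (perp h u v) q
  have e0 : Nat.card {w : perp h u v // (0 : ZMod 2) * 0 + 0 * 0 + 0 * 0 + q (w : V) = 0} =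
      N₀ (qr q (perp h u v)) := by
    unfold N₀ qr; simp only [mul_zero, add_zero, zero_add]
  have e1 : Nat.card {w : perp h u v // (0 : ZMod 2) * 0 + 1 * 0 + 0 * 1 + q (w : V) = 0} =
      N₀ (qr q (perp h u v)) := by
    unfold N₀ qr; simp only [mul_zero, zero_mul, add_zero, zero_add]
  have e2 : Nat.card {w : perp h u v // (1 : ZMod 2) * 0 + 0 * 0 + 1 * 0 + q (w : V) = 0} =
      N₀ (qr q (perp h u v)) := by
    unfold N₀ qr; simp only [mul_zero, add_zero, zero_add]
  have e3 : Nat.card {w : perp h u v // (1 : ZMod 2) * 0 + 1 * 0 + 1 * 1 + q (w : V) = 0} =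
      Nat.card {w : perp h u v // 1 + q (w : V) = 0} := by
    simp only [mul_zero, mul_one, add_zero, zero_add]
  simp only at e0 e1 e2 e3 ⊢
  rw [e0, e1, e2, e3]
  have : N₀ (qr q (perp h u v)) = Nat.card {w : perp h u v // q (w : V) = 0} := rfl
  omega

theorem N₀_aniso [Finite V] (h : IsQF q) (han : ∀ x, q x = 0 → x = 0) : N₀ q = 1 := by
  unfold N₀
  rw [Nat.card_eq_one_iff_unique]
  exact ⟨⟨fun a b => Subtype.ext ((han _ a.2).trans (han _ b.2).symm)⟩, ⟨⟨0, h.zero⟩⟩⟩

theorem exists_singular_of_N₀ [Finite V] (h : IsQF q) (hN : 1 < N₀ q) :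
    ∃ u, u ≠ 0 ∧ q u = 0 := by
  by_contra hcon
  push Not at hcon
  have := N₀_aniso h (fun x hx => by
    by_contra hx0
    exact hcon x hx0 hx)
  omega

theorem one_lt_N₀ [Finite V] (h : IsQF q) {u : V} (hu : u ≠ 0) (hqu : q u = 0) : 1 < N₀ q := by
  unfold N₀
  have : Nontrivial {x : V // q x = 0} :=
    ⟨⟨⟨0, h.zero⟩, ⟨u, hqu⟩, fun hh => hu (Subtype.ext_iff.mp hh).symm⟩⟩
  exact Finite.one_lt_card

/-- an anisotropic space has 1 or 4 elements. -/
theorem card_aniso [Finite V] (h : IsQF q) (han : ∀ x, q x = 0 → x = 0) :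
    Nat.card V = 1 ∨ Nat.card V = 4 := by
  by_cases hs : Subsingleton V
  · left; exact Nat.card_of_subsingleton (0 : V)
  · right
    rw [not_subsingleton_iff_nontrivial] at hs
    obtain ⟨a, ha⟩ := exists_ne (0 : V)
    obtain ⟨b, hab⟩ := h.nondeg a ha
    have hqa : q a = 1 := by
      rcases z2_cases (q a) with h0 | h1
      · exact absurd (han a h0) ha
      · exact h1
    have hW : Nat.card (perp h a b) = 1 := by
      rw [Nat.card_eq_one_iff_unique]
      refine ⟨⟨fun x y => ?_⟩, ⟨0⟩⟩
      have key : ∀ w : perp h a b, (w : V) = 0 := by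
        intro w
        by_contra hw
        have hqw : q (w : V) = 1 := by
          rcases z2_cases (q (w : V)) with h0 | h1
          · exact absurd (han _ h0) hw
          · exact h1
        have h0 : q (a + (w : V)) = 0 := by
          rw [h.q_add, hqa, hqw, w.2.1]; decide
        have h1 : a + (w : V) = 0 := han _ h0
        have h2 : (w : V) = a :=
          ((neg_eq_of_add_eq_zero_right h1).symm.trans (h.neg_eq a))
        have h3 := w.2.2
        rw [h2, pol_comm, hab] at h3
        exact absurd h3 (by decide)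
      exact Subtype.ext ((key x).trans (key y).symm)
    rw [card_decomp h hab, hW]

end basic

section main

/-- the value theorem: `(2 N₀ - |V|)² = |V|`. -/
theorem sq_formula : ∀ (n : ℕ) {V : Type u} [AddCommGroup V] [Finite V] (q : V → ZMod 2),
    IsQF q → Nat.card V ≤ n → (2 * (N₀ q : ℤ) - (Nat.card V : ℤ)) ^ 2 = (Nat.card V : ℤ) := by
  intro n
  induction n with
  | zero =>
    intro V _ _ q _ hn
    have : 0 < Nat.card V := Nat.card_pos
    omega
  | succ n ih =>
    intro V _ _ q h hn
    by_cases hex : ∃ u, u ≠ 0 ∧ q u = 0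
    · obtain ⟨u, hu, hqu⟩ := hex
      obtain ⟨v, hqv, huv⟩ := exists_hyperbolic h hu hqu
      have hc := card_decomp h huv
      have hN := N₀_hyperbolic h huv hqu hqv
      have hpos : 0 < Nat.card (perp h u v) := Nat.card_pos
      have := ih (qr q (perp h u v)) (isQF_perp h huv) (by omega)
      rw [hc, hN]
      push_cast
      have e : (2 * (2 * (N₀ (qr q (perp h u v)) : ℤ) + (Nat.card (perp h u v) : ℤ)) -
          4 * (Nat.card (perp h u v) : ℤ)) =
          2 * (2 * (N₀ (qr q (perp h u v)) : ℤ) - (Nat.card (perp h u v) : ℤ)) := by ring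
      rw [e, mul_pow, this]; ring
    · push Not at hex
      have han : ∀ x, q x = 0 → x = 0 := fun x hx => by
        by_contra hx0; exact hex x hx0 hx
      rw [N₀_aniso h han]
      rcases card_aniso h han with h1 | h4
      · rw [h1]; norm_num
      · rw [h4]; norm_num

/-- the sign `2 N₀ - |V|` halves along a hyperbolic splitting. -/
theorem sign_hyperbolic {V : Type u} [AddCommGroup V] [Finite V] {q : V → ZMod 2} (h : IsQF q)
    {u v : V} (huv : pol q u v = 1) (hu : q u = 0) (hv : q v = 0) :
    2 * (N₀ q : ℤ) - (Nat.card V : ℤ) =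
      2 * (2 * (N₀ (qr q (perp h u v)) : ℤ) - (Nat.card (perp h u v) : ℤ)) := by
  rw [card_decomp h huv, N₀_hyperbolic h huv hu hv]; push_cast; ring

/-- assembling an isometry from one on the complements. -/
theorem isometry_of_perp {V : Type u} {V' : Type v} [AddCommGroup V] [AddCommGroup V']
    {q : V → ZMod 2} {q' : V' → ZMod 2} (h : IsQF q) (h' : IsQF q')
    {a b : V} {a' b' : V'} (hab : pol q a b = 1) (hab' : pol q' a' b' = 1)
    (ha : q a = q' a') (hb : q b = q' b')
    (φ : perp h a b ≃+ perp h' a' b') (hφ : ∀ w, q' (φ w : V') = q (w : V)) :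
    ∃ ψ : V ≃+ V', ∀ x, q' (ψ x) = q x := by
  refine ⟨((decomp h hab).trans ((AddEquiv.refl _).prodCongr φ)).trans (decomp h' hab').symm, ?_⟩
  intro x
  have e1 := q_decomp_symm h hab ((decomp h hab) x)
  rw [AddEquiv.symm_apply_apply] at e1
  rw [e1]
  show q' ((decomp h' hab').symm (((AddEquiv.refl _).prodCongr φ) ((decomp h hab) x))) = _
  rw [q_decomp_symm h' hab']
  show _ * q' a' + _ * q' b' + _ * _ + q' (φ ((decomp h hab) x).2 : V') = _
  rw [hφ, ha, hb]
  rfl

/-- two nondegenerate quadratic spaces of the same size and the same number of zeros are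
isometric. -/
theorem exists_isometry : ∀ (n : ℕ) {V : Type u} {V' : Type v} [AddCommGroup V] [Finite V]
    [AddCommGroup V'] [Finite V'] (q : V → ZMod 2) (q' : V' → ZMod 2),
    IsQF q → IsQF q' → Nat.card V ≤ n → Nat.card V = Nat.card V' → N₀ q = N₀ q' →
    ∃ φ : V ≃+ V', ∀ x, q' (φ x) = q x := by
  intro n
  induction n with
  | zero =>
    intro V V' _ _ _ _ q q' _ _ hn
    have : 0 < Nat.card V := Nat.card_pos
    omega
  | succ n ih =>
    intro V V' _ _ _ _ q q' h h' hn hc hN
    by_cases hs : Nat.card V = 1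
    · -- trivial spaces
      have hs' : Nat.card V' = 1 := hc ▸ hs
      rw [Nat.card_eq_one_iff_unique] at hs hs'
      haveI := hs.1
      haveI := hs'.1
      refine ⟨⟨⟨fun _ => 0, fun _ => 0, fun x => Subsingleton.elim _ _,
        fun x => Subsingleton.elim _ _⟩, fun x y => Subsingleton.elim _ _⟩, fun x => ?_⟩
      show q' 0 = q x
      rw [Subsingleton.elim x 0, h.zero, h'.zero]
    · by_cases hex : ∃ u, u ≠ 0 ∧ q u = 0
      · obtain ⟨u, hu, hqu⟩ := hex
        have h1 : 1 < N₀ q' := hN ▸ one_lt_N₀ h hu hqu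
        obtain ⟨u', hu', hqu'⟩ := exists_singular_of_N₀ h' h1
        obtain ⟨v, hqv, huv⟩ := exists_hyperbolic h hu hqu
        obtain ⟨v', hqv', huv'⟩ := exists_hyperbolic h' hu' hqu'
        have c1 := card_decomp h huv
        have c2 := card_decomp h' huv'
        have n1 := N₀_hyperbolic h huv hqu hqv
        have n2 := N₀_hyperbolic h' huv' hqu' hqv'
        have hpos : 0 < Nat.card (perp h u v) := Nat.card_pos
        obtain ⟨φ, hφ⟩ := ih (qr q (perp h u v)) (qr q' (perp h' u' v')) (isQF_perp h huv)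
          (isQF_perp h' huv') (by omega) (by omega) (by omega)
        exact isometry_of_perp h h' huv huv' (hqu.trans hqu'.symm) (hqv.trans hqv'.symm) φ hφ
      · push Not at hex
        have han : ∀ x, q x = 0 → x = 0 := fun x hx => by
          by_contra hx0; exact hex x hx0 hx
        have hN1 : N₀ q' = 1 := hN ▸ N₀_aniso h han
        have han' : ∀ x, q' x = 0 → x = 0 := by
          intro x hx
          by_contra hx0
          have := one_lt_N₀ h' hx0 hx
          omega
        have hV : Nontrivial V := by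
          by_contra hnt
          rw [not_nontrivial_iff_subsingleton] at hnt
          exact hs (Nat.card_of_subsingleton (0 : V))
        have hV' : Nontrivial V' := by
          by_contra hnt
          rw [not_nontrivial_iff_subsingleton] at hnt
          exact hs (hc.trans (Nat.card_of_subsingleton (0 : V')))
        obtain ⟨a, ha⟩ := exists_ne (0 : V)
        obtain ⟨a', ha'⟩ := exists_ne (0 : V')
        obtain ⟨b, hab⟩ := h.nondeg a ha
        obtain ⟨b', hab'⟩ := h'.nondeg a' ha'
        have hb : b ≠ 0 := by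
          rintro rfl; rw [h.pol_zero_right] at hab; exact absurd hab (by decide)
        have hb' : b' ≠ 0 := by
          rintro rfl; rw [h'.pol_zero_right] at hab'; exact absurd hab' (by decide)
        have q1 : ∀ x, x ≠ 0 → q x = 1 := fun x hx => by
          rcases z2_cases (q x) with h0 | h1
          · exact absurd (han x h0) hx
          · exact h1
        have q1' : ∀ x, x ≠ 0 → q' x = 1 := fun x hx => by
          rcases z2_cases (q' x) with h0 | h1
          · exact absurd (han' x h0) hx
          · exact h1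
        have c1 := card_decomp h hab
        have c2 := card_decomp h' hab'
        have hpos : 0 < Nat.card (perp h a b) := Nat.card_pos
        have hanW : ∀ w : perp h a b, qr q (perp h a b) w = 0 → w = 0 :=
          fun w hw => Subtype.ext (han _ hw)
        have hanW' : ∀ w : perp h' a' b', qr q' (perp h' a' b') w = 0 → w = 0 :=
          fun w hw => Subtype.ext (han' _ hw)
        obtain ⟨φ, hφ⟩ := ih (qr q (perp h a b)) (qr q' (perp h' a' b')) (isQF_perp h hab)
          (isQF_perp h' hab') (by omega) (by omega)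
          ((N₀_aniso (isQF_perp h hab) hanW).trans (N₀_aniso (isQF_perp h' hab') hanW').symm)
        exact isometry_of_perp h h' hab hab' ((q1 a ha).trans (q1' a' ha').symm)
          ((q1 b hb).trans (q1' b' hb').symm) φ hφ

end main

end Cfsg.Agent.Lib.Helper3_QuadF2
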