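import Mathlib

namespace Cfsg.Agent.Lib.Helper4_Frattini

open scoped commutatorElement

/-- The Frattini subgroup of a finite abelian group of exponent `p` is trivial. -/
theorem frattini_eq_bot_of_elementary {Q : Type*} [Group Q] [Finite Q] {p : ℕ} [Fact p.Prime]
    (hcomm : ∀ a b : Q, a * b = b * a) (hexp : ∀ x : Q, x ^ p = 1) : frattini Q = ⊥ := by
  have hp : p.Prime := Fact.out
  letI : CommGroup Q := { ‹Group Q› with mul_comm := hcomm }
  rw [eq_bot_iff]
  intro z hz
  rw [Subgroup.mem_bot]
  by_contra hz1
  have hord : ∀ w : Q, w ≠ 1 → orderOf w = p := by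
    intro w hw
    have h1 : orderOf w ∣ p := orderOf_dvd_of_pow_eq_one (hexp w)
    rcases (Nat.dvd_prime hp).mp h1 with h | h
    · exact absurd (orderOf_eq_one_iff.mp h) hw
    · exact h
  obtain ⟨M, _, hM⟩ := Finite.exists_le_maximal (p := fun M : Subgroup Q => z ∉ M) (a := ⊥)
    (by simpa [Subgroup.mem_bot] using hz1)
  have hzM : z ∉ M := hM.prop
  have htop : M ⊔ Subgroup.zpowers z = ⊤ := by
    rw [eq_top_iff]
    intro y _
    by_contra hy
    have hyM : y ∉ M := fun h => hy (Subgroup.mem_sup_left h)
    have hlt : ¬ (M ⊔ Subgroup.zpowers y ≤ M) := by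
      intro hle
      exact hyM (hle (Subgroup.mem_sup_right (Subgroup.mem_zpowers y)))
    have hzin : z ∈ M ⊔ Subgroup.zpowers y := by
      by_contra hcon
      exact hlt (hM.le_of_ge hcon le_sup_left)
    obtain ⟨m, hm, w, hw, hmw⟩ := Subgroup.mem_sup.mp hzin
    have hw1 : w ≠ 1 := by
      intro h
      rw [h, mul_one] at hmw
      exact hzM (hmw ▸ hm)
    have hy1 : y ≠ 1 := by
      intro h
      exact hyM (h ▸ M.one_mem)
    have hle : Subgroup.zpowers w ≤ Subgroup.zpowers y := by
      rw [Subgroup.zpowers_le]; exact hw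
    have heq : Subgroup.zpowers w = Subgroup.zpowers y := by
      apply Subgroup.eq_of_le_of_card_ge hle
      rw [Nat.card_zpowers, Nat.card_zpowers, hord w hw1, hord y hy1]
    have hyw : y ∈ Subgroup.zpowers w := by
      rw [heq]; exact Subgroup.mem_zpowers y
    have hwin : w ∈ M ⊔ Subgroup.zpowers z := by
      have : w = m⁻¹ * z := by rw [← hmw]; group
      rw [this]
      exact mul_mem (Subgroup.mem_sup_left (inv_mem hm)) (Subgroup.mem_sup_right (Subgroup.mem_zpowers z))
    have : Subgroup.zpowers w ≤ M ⊔ Subgroup.zpowers z := by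
      rw [Subgroup.zpowers_le]; exact hwin
    exact hy (this hyw)
  have h2 : M ⊔ frattini Q = ⊤ := by
    rw [eq_top_iff, ← htop]
    apply sup_le_sup_left
    rw [Subgroup.zpowers_le]; exact hz
  have h3 : M = ⊤ := frattini_nongenerating h2
  exact hzM (h3 ▸ Subgroup.mem_top z)

/-- If `P/C` is elementary abelian then `Φ(P) ≤ C`. -/
theorem frattini_le_of_elementary_quotient {P : Type*} [Group P] [Finite P] {p : ℕ} [Fact p.Prime]
    (C : Subgroup P) [C.Normal] (hc : ∀ a b : P, ⁅a, b⁆ ∈ C) (hpow : ∀ a : P, a ^ p ∈ C) :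
    frattini P ≤ C := by
  have h1 : frattini (P ⧸ C) = ⊥ := by
    apply frattini_eq_bot_of_elementary (p := p)
    · intro a b
      induction a using QuotientGroup.induction_on with
      | H a =>
        induction b using QuotientGroup.induction_on with
        | H b =>
          rw [← QuotientGroup.mk_mul, ← QuotientGroup.mk_mul, QuotientGroup.eq]
          have := hc b⁻¹ a⁻¹
          have e : (a * b)⁻¹ * (b * a) = ⁅b⁻¹, a⁻¹⁆ := by rw [commutatorElement_def]; group
          rw [e]; exact this
    · intro a
      induction a using QuotientGroup.induction_on with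
      | H a =>
        rw [← QuotientGroup.mk_pow, QuotientGroup.eq_one_iff]
        exact hpow a
  have h2 := frattini_le_comap_frattini_of_surjective (QuotientGroup.mk'_surjective C)
  rw [h1] at h2
  intro x hx
  have := h2 hx
  rw [Subgroup.mem_comap, Subgroup.mem_bot, QuotientGroup.mk'_apply, QuotientGroup.eq_one_iff] at this
  exact this

end Cfsg.Agent.Lib.Helper4_Frattini
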