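import Mathlib
import Cfsg.Prelude.Def_Transfer
import Cfsg.Agent.Lib.Helper7_PFrattini
import Cfsg.Agent.Lib.Helper4_Frattini
import Cfsg.Agent.Lib.Helper3_QuadF2

/-!
Central extensions of an elementary abelian 2-group `V` by `ZMod 2` given by a bilinear cocycle,
and the criterion for them to be extraspecial.
-/

namespace Cfsg.Agent.Lib.Helper3_ExtCocycle

open Cfsg.Agent.Lib.Helper3_QuadF2

/-- a biadditive map `V → V → ZMod 2`. -/
structure Cocycle (V : Type*) [AddCommGroup V] where
  B : V → V → ZMod 2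
  add_left : ∀ u v w, B (u + v) w = B u w + B v w
  add_right : ∀ u v w, B u (v + w) = B u v + B u w

section

variable {V : Type*} [AddCommGroup V]

theorem Cocycle.zero_left (c : Cocycle V) (w : V) : c.B 0 w = 0 := by
  have := c.add_left 0 0 w
  rw [add_zero] at this
  exact left_eq_add.mp this

theorem Cocycle.zero_right (c : Cocycle V) (w : V) : c.B w 0 = 0 := by
  have := c.add_right w 0 0
  rw [add_zero] at this
  exact left_eq_add.mp this

theorem Cocycle.neg_left (c : Cocycle V) (v w : V) : c.B (-v) w = c.B v w := by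
  have := c.add_left (-v) v w
  rw [neg_add_cancel, c.zero_left] at this
  have h2 : ∀ a b : ZMod 2, 0 = a + b → a = b := by decide
  exact h2 _ _ this

/-- the extension group, as a set `V × ZMod 2`. -/
@[ext] structure Ext (c : Cocycle V) where
  v : V
  a : ZMod 2

instance (c : Cocycle V) : Group (Ext c) where
  mul x y := ⟨x.v + y.v, x.a + y.a + c.B x.v y.v⟩
  one := ⟨0, 0⟩
  inv x := ⟨-x.v, x.a + c.B x.v x.v⟩
  mul_assoc x y z := by
    apply Ext.ext
    · show x.v + y.v + z.v = x.v + (y.v + z.v)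
      abel
    · show (x.a + y.a + c.B x.v y.v) + z.a + c.B (x.v + y.v) z.v =
        x.a + (y.a + z.a + c.B y.v z.v) + c.B x.v (y.v + z.v)
      rw [c.add_left, c.add_right]; ring
  one_mul x := by
    apply Ext.ext
    · show 0 + x.v = x.v
      simp
    · show 0 + x.a + c.B 0 x.v = x.a
      rw [c.zero_left]; ring
  mul_one x := by
    apply Ext.ext
    · show x.v + 0 = x.v
      simp
    · show x.a + 0 + c.B x.v 0 = x.a
      rw [c.zero_right]; ring
  inv_mul_cancel x := by
    apply Ext.ext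
    · show -x.v + x.v = 0
      simp
    · show (x.a + c.B x.v x.v) + x.a + c.B (-x.v) x.v = 0
      rw [c.neg_left]
      have : ∀ a b : ZMod 2, a + b + a + b = 0 := by decide
      exact this _ _

variable (c : Cocycle V)

@[simp] theorem mul_v (x y : Ext c) : (x * y).v = x.v + y.v := rfl
@[simp] theorem mul_a (x y : Ext c) : (x * y).a = x.a + y.a + c.B x.v y.v := rfl
@[simp] theorem one_v : (1 : Ext c).v = 0 := rfl
@[simp] theorem one_a : (1 : Ext c).a = 0 := rfl
@[simp] theorem inv_v (x : Ext c) : (x⁻¹).v = -x.v := rfl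
@[simp] theorem inv_a (x : Ext c) : (x⁻¹).a = x.a + c.B x.v x.v := rfl

/-- the underlying equivalence with the product. -/
def toProd : Ext c ≃ V × ZMod 2 where
  toFun x := (x.v, x.a)
  invFun p := ⟨p.1, p.2⟩
  left_inv _ := rfl
  right_inv _ := rfl

instance [Finite V] : Finite (Ext c) := Finite.of_equiv _ (toProd c).symm

theorem card_ext [Finite V] : Nat.card (Ext c) = Nat.card V * 2 := by
  rw [Nat.card_congr (toProd c), Nat.card_prod]; simp

/-- the quadratic form of the cocycle. -/
def qc (v : V) : ZMod 2 := c.B v v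

theorem pol_qc (u v : V) : pol (qc c) u v = c.B u v + c.B v u := by
  unfold pol qc
  rw [c.add_left, c.add_right, c.add_right]
  have : ∀ a b d e : ZMod 2, a + b + (d + e) + a + e = b + d := by decide
  exact this _ _ _ _

theorem isQF_qc (hV2 : ∀ v : V, v + v = 0) (hnd : ∀ v : V, v ≠ 0 → ∃ w, c.B v w + c.B w v = 1) :
    IsQF (qc c) where
  two := hV2
  zero := c.zero_left 0
  add x y w := by
    rw [pol_qc, pol_qc, pol_qc, c.add_left, c.add_right]; ring
  nondeg v hv := by
    obtain ⟨w, hw⟩ := hnd v hv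
    exact ⟨w, by rw [pol_qc]; exact hw⟩

variable {c}

theorem sq_eq_one_iff (hV2 : ∀ v : V, v + v = 0) (x : Ext c) : x ^ 2 = 1 ↔ c.B x.v x.v = 0 := by
  rw [pow_two]
  constructor
  · intro h
    have := congrArg Ext.a h
    simp only [mul_a, one_a] at this
    have h2 : ∀ a b : ZMod 2, a + a + b = 0 → b = 0 := by decide
    exact h2 _ _ this
  · intro h
    apply Ext.ext
    · simp [hV2]
    · simp only [mul_a, one_a, h]
      have h2 : ∀ a : ZMod 2, a + a + 0 = 0 := by decide
      exact h2 _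

theorem card_sq [Finite V] (hV2 : ∀ v : V, v + v = 0) :
    Nat.card {x : Ext c // x ^ 2 = 1} = N₀ (qc c) * 2 := by
  have e1 : {x : Ext c // x ^ 2 = 1} ≃ {p : V × ZMod 2 // qc c p.1 = 0} :=
    (toProd c).subtypeEquiv (fun x => sq_eq_one_iff hV2 x)
  have e2 : {p : V × ZMod 2 // qc c p.1 = 0} ≃ {v : V // qc c v = 0} × ZMod 2 :=
    Equiv.prodSubtypeFstEquivSubtypeProd (p := fun v : V => qc c v = 0)
  rw [Nat.card_congr e1, Nat.card_congr e2, Nat.card_prod]
  simp [N₀]

theorem mem_center_iff (hV2 : ∀ v : V, v + v = 0)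
    (hnd : ∀ v : V, v ≠ 0 → ∃ w, c.B v w + c.B w v = 1) (x : Ext c) :
    x ∈ Subgroup.center (Ext c) ↔ x.v = 0 := by
  rw [Subgroup.mem_center_iff]
  constructor
  · intro h
    by_contra hx
    obtain ⟨w, hw⟩ := hnd x.v hx
    have := congrArg Ext.a (h ⟨w, 0⟩)
    simp only [mul_a] at this
    have h2 : ∀ a b d : ZMod 2, 0 + a + b = a + 0 + d → d + b = 1 → False := by decide
    exact h2 _ _ _ this hw
  · intro h y
    apply Ext.ext
    · simp [add_comm]
    · simp only [mul_a, h, c.zero_left, c.zero_right]; ring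

omit [AddCommGroup V] in
theorem z2_aux1 : ∀ b d : ZMod 2, 0 + 0 + b = 0 + 0 + d → b + d = 1 → False := by decide

theorem isExtraspecial [Finite V] [Nontrivial V] (hV2 : ∀ v : V, v + v = 0)
    (hnd : ∀ v : V, v ≠ 0 → ∃ w, c.B v w + c.B w v = 1) : Cfsg.IsExtraspecial 2 (Ext c) := by
  have hcen := mem_center_iff hV2 hnd
  -- the central involution
  let z : Ext c := ⟨0, 1⟩
  have hz : z ∈ Subgroup.center (Ext c) := (hcen z).mpr rfl
  have hz1 : z ≠ 1 := fun h => by
    have h' : (1 : ZMod 2) = 0 := congrArg Ext.a h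
    exact absurd h' (by decide)
  have hcz : ∀ x ∈ Subgroup.center (Ext c), x = 1 ∨ x = z := by
    intro x hx
    have hv := (hcen x).mp hx
    rcases z2_cases x.a with h0 | h1
    · left; exact Ext.ext hv h0
    · right; exact Ext.ext hv h1
  have hsq : ∀ x : Ext c, x ^ 2 ∈ Subgroup.center (Ext c) := by
    intro x
    rw [hcen, pow_two, mul_v, hV2]
  have hcomm : ∀ x y : Ext c, x * y * x⁻¹ * y⁻¹ ∈ Subgroup.center (Ext c) := by
    intro x y
    rw [hcen]
    simp only [mul_v, inv_v]
    abel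
  have hp : IsPGroup 2 (Ext c) := by
    intro x
    refine ⟨2, ?_⟩
    have h4 : x ^ 2 ^ 2 = (x ^ 2) ^ 2 := by rw [← pow_mul]; norm_num
    rw [h4]
    rcases hcz _ (hsq x) with h | h
    · rw [h]; simp
    · rw [h, sq_eq_one_iff hV2]
      exact c.zero_left 0
  haveI : Fact (Nat.Prime 2) := ⟨Nat.prime_two⟩
  -- a noncommuting pair
  obtain ⟨v, hv⟩ := exists_ne (0 : V)
  obtain ⟨w, hw⟩ := hnd v hv
  have hzc : z = (⟨v, 0⟩ : Ext c) * ⟨w, 0⟩ * (⟨v, 0⟩ : Ext c)⁻¹ * (⟨w, 0⟩ : Ext c)⁻¹ := by
    rcases hcz _ (hcomm ⟨v, 0⟩ ⟨w, 0⟩) with h | h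
    · exfalso
      have h1 : (⟨v, 0⟩ : Ext c) * ⟨w, 0⟩ = ⟨w, 0⟩ * ⟨v, 0⟩ := by
        have : (⟨v, 0⟩ : Ext c) * ⟨w, 0⟩ =
          ((⟨v, 0⟩ : Ext c) * ⟨w, 0⟩ * (⟨v, 0⟩ : Ext c)⁻¹ * (⟨w, 0⟩ : Ext c)⁻¹) *
            (⟨w, 0⟩ * ⟨v, 0⟩) := by group
        rw [h, one_mul] at this; exact this
      have := congrArg Ext.a h1
      simp only [mul_a] at this
      exact z2_aux1 _ _ this hw
    · exact h.symm
  refine ⟨⟨hp, ?_, ?_⟩, ?_⟩
  · -- frattini
    apply le_antisymm
    · apply Cfsg.Agent.Lib.Helper4_Frattini.frattini_le_of_elementary_quotient (p := 2)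
      · intro a b
        rw [commutatorElement_def]; exact hcomm a b
      · exact hsq
    · intro x hx
      rcases hcz x hx with rfl | rfl
      · exact Subgroup.one_mem _
      · rw [hzc]
        exact Cfsg.Agent.Lib.Helper7_PFrattini.comm_mem_frattini hp _ _
  · -- commutator
    apply le_antisymm
    · rw [commutator_def, Subgroup.commutator_le]
      intro a _ b _
      rw [commutatorElement_def]; exact hcomm a b
    · intro x hx
      rcases hcz x hx with rfl | rfl
      · exact Subgroup.one_mem _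
      · rw [hzc, commutator_def, ← commutatorElement_def]
        exact Subgroup.commutator_mem_commutator (Subgroup.mem_top _) (Subgroup.mem_top _)
  · -- centre of order two
    have e : Subgroup.center (Ext c) ≃ ZMod 2 :=
      { toFun := fun x => (x : Ext c).a
        invFun := fun a => ⟨⟨0, a⟩, (hcen _).mpr rfl⟩
        left_inv := fun x => Subtype.ext (Ext.ext ((hcen _).mp x.2).symm rfl)
        right_inv := fun a => rfl }
    rw [Nat.card_congr e]; simp

end

end Cfsg.Agent.Lib.Helper3_ExtCocycle
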