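import Mathlib
import Cfsg.Agent.Lib.Helper3_QuadF2

/-!
Totally singular subgroups of nondegenerate quadratic spaces over `ZMod 2`:
bounds and existence in terms of the sign `2 N₀ - |V|`.
-/

namespace Cfsg.Agent.Lib.Helper3_QuadF2b

open Cfsg.Agent.Lib.Helper3_QuadF2

universe u

/-- `U` is totally singular for `q`. -/
def IsTS {V : Type*} [AddCommGroup V] (q : V → ZMod 2) (U : AddSubgroup V) : Prop :=
  ∀ x ∈ U, q x = 0

section split

variable {V : Type u} [AddCommGroup V] {q : V → ZMod 2}

theorem IsTS.pol_eq_zero {U : AddSubgroup V} (hU : IsTS q U) {x y : V} (hx : x ∈ U) (hy : y ∈ U) :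
    pol q x y = 0 := by
  unfold pol
  rw [hU _ (U.add_mem hx hy), hU _ hx, hU _ hy]; decide

/-- the part of `U` inside `perp u v`. -/
def inPerp (h : IsQF q) (u v : V) (U : AddSubgroup V) : AddSubgroup (perp h u v) :=
  U.comap (perp h u v).subtype

theorem isTS_inPerp (h : IsQF q) (u v : V) {U : AddSubgroup V} (hU : IsTS q U) :
    IsTS (qr q (perp h u v)) (inPerp h u v U) := fun x hx => hU _ hx

theorem sm_mem {U : AddSubgroup V} {u : V} (hu : u ∈ U) (a : ZMod 2) : sm a u ∈ U := by
  unfold sm; split_ifs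
  · exact U.zero_mem
  · exact hu

/-- a totally singular subgroup containing `u` splits as `⟨u⟩` plus its part in `perp u v`. -/
noncomputable def tsSplit (h : IsQF q) {u v : V} (huv : pol q u v = 1) {U : AddSubgroup V}
    (hU : IsTS q U) (hu : u ∈ U) : U ≃ ZMod 2 × inPerp h u v U where
  toFun x := (pol q x v, ⟨⟨(x : V) + sm (pol q x v) u, by
      rw [mem_perp]
      constructor
      · rw [h.add_right, h.pol_sm_right, h.pol_self, hU.pol_eq_zero hu x.2]; simp
      · rw [h.add_right, h.pol_sm_right, pol_comm q v u, huv, pol_comm q v x]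
        have : ∀ a : ZMod 2, a + a * 1 = 0 := by decide
        exact this _⟩, by
      show (x : V) + sm (pol q x v) u ∈ U
      exact U.add_mem x.2 (sm_mem hu _)⟩)
  invFun p := ⟨((p.2 : perp h u v) : V) + sm p.1 u, U.add_mem p.2.2 (sm_mem hu _)⟩
  left_inv x := by
    apply Subtype.ext
    show (x : V) + sm (pol q x v) u + sm (pol q x v) u = x
    rw [add_assoc, h.two, add_zero]
  right_inv p := by
    obtain ⟨a, w⟩ := p
    have hw2 : pol q ((w : perp h u v) : V) v = 0 := by rw [pol_comm]; exact (w : perp h u v).2.2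
    have e1 : pol q (((w : perp h u v) : V) + sm a u) v = a := by
      rw [h.add, h.pol_sm_left, huv, hw2]; ring
    apply Prod.ext
    · exact e1
    · apply Subtype.ext; apply Subtype.ext
      show ((w : perp h u v) : V) + sm a u + sm (pol q (((w : perp h u v) : V) + sm a u) v) u = _
      rw [e1, add_assoc, h.two, add_zero]

theorem card_tsSplit [Finite V] (h : IsQF q) {u v : V} (huv : pol q u v = 1) {U : AddSubgroup V}
    (hU : IsTS q U) (hu : u ∈ U) : Nat.card U = 2 * Nat.card (inPerp h u v U) := by
  rw [Nat.card_congr (tsSplit h huv hU hu), Nat.card_prod]; simp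

/-- extending a totally singular subgroup of `perp u v` by `u`. -/
def extend (h : IsQF q) {u v : V} (huv : pol q u v = 1) (U₀ : AddSubgroup (perp h u v)) :
    AddSubgroup V where
  carrier := {x | pol q x u = 0 ∧ (⟨proj q u v x, proj_mem h huv x⟩ : perp h u v) ∈ U₀}
  zero_mem' := by
    refine ⟨h.pol_zero_left u, ?_⟩
    have : (⟨proj q u v 0, proj_mem h huv 0⟩ : perp h u v) = 0 := by
      apply Subtype.ext
      show proj q u v 0 = 0
      unfold proj; rw [h.pol_zero_left, h.pol_zero_left, sm_zero, sm_zero]; simp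
    rw [this]; exact U₀.zero_mem
  add_mem' := by
    rintro a b ⟨ha1, ha2⟩ ⟨hb1, hb2⟩
    refine ⟨by rw [h.add, ha1, hb1, add_zero], ?_⟩
    have : (⟨proj q u v (a + b), proj_mem h huv (a + b)⟩ : perp h u v) =
        ⟨proj q u v a, proj_mem h huv a⟩ + ⟨proj q u v b, proj_mem h huv b⟩ := by
      apply Subtype.ext
      show proj q u v (a + b) = proj q u v a + proj q u v b
      unfold proj
      rw [h.add, h.add, h.sm_add, h.sm_add]; abel
    rw [this]; exact U₀.add_mem ha2 hb2
  neg_mem' := by
    rintro a ⟨ha1, ha2⟩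
    show pol q (-a) u = 0 ∧ _
    simp only [h.neg_eq]
    exact ⟨ha1, ha2⟩

theorem mem_extend (h : IsQF q) {u v : V} (huv : pol q u v = 1) (U₀ : AddSubgroup (perp h u v))
    (x : V) : x ∈ extend h huv U₀ ↔
      pol q x u = 0 ∧ (⟨proj q u v x, proj_mem h huv x⟩ : perp h u v) ∈ U₀ := Iff.rfl

theorem isTS_extend (h : IsQF q) {u v : V} (huv : pol q u v = 1) (hu : q u = 0)
    {U₀ : AddSubgroup (perp h u v)} (hU₀ : IsTS (qr q (perp h u v)) U₀) :
    IsTS q (extend h huv U₀) := by
  rintro x ⟨hx1, hx2⟩
  have e := q_decomp_symm h huv ((decomp h huv) x)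
  rw [AddEquiv.symm_apply_apply] at e
  rw [e]
  show pol q x v * q u + pol q x u * q v + pol q x v * pol q x u + q (proj q u v x) = 0
  have := hU₀ _ hx2
  have h4 : q (proj q u v x) = 0 := this
  rw [hu, hx1, h4]; ring

theorem self_mem_extend (h : IsQF q) {u v : V} (huv : pol q u v = 1)
    (U₀ : AddSubgroup (perp h u v)) : u ∈ extend h huv U₀ := by
  rw [mem_extend]
  refine ⟨h.pol_self u, ?_⟩
  have : (⟨proj q u v u, proj_mem h huv u⟩ : perp h u v) = 0 := by
    apply Subtype.ext
    show proj q u v u = 0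
    unfold proj
    rw [huv, h.pol_self, sm_one, sm_zero, add_zero, h.two]
  rw [this]; exact U₀.zero_mem

theorem inPerp_extend (h : IsQF q) {u v : V} (huv : pol q u v = 1)
    (U₀ : AddSubgroup (perp h u v)) : inPerp h u v (extend h huv U₀) = U₀ := by
  ext w
  show (w : V) ∈ extend h huv U₀ ↔ w ∈ U₀
  rw [mem_extend]
  have h1 : pol q (w : V) u = 0 := by rw [pol_comm]; exact w.2.1
  have h2 : pol q (w : V) v = 0 := by rw [pol_comm]; exact w.2.2
  have : (⟨proj q u v (w : V), proj_mem h huv (w : V)⟩ : perp h u v) = w := by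
    apply Subtype.ext
    show proj q u v (w : V) = w
    unfold proj; rw [h1, h2, sm_zero, sm_zero, add_zero, add_zero]
  rw [this]
  exact ⟨fun hh => hh.2, fun hh => ⟨h1, hh⟩⟩

end split

section main

/-- upper bound for totally singular subgroups. -/
theorem ts_bound : ∀ (n : ℕ) {V : Type u} [AddCommGroup V] [Finite V] (q : V → ZMod 2),
    IsQF q → Nat.card V ≤ n → ∀ U : AddSubgroup V, IsTS q U →
      Nat.card U ^ 2 ≤ Nat.card V ∧
        (Nat.card U ^ 2 = Nat.card V → 0 < 2 * (N₀ q : ℤ) - (Nat.card V : ℤ)) := by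
  intro n
  induction n with
  | zero =>
    intro V _ _ q _ hn
    have : 0 < Nat.card V := Nat.card_pos
    omega
  | succ n ih =>
    intro V _ _ q h hn U hU
    by_cases hbot : U = ⊥
    · subst hbot
      have h1 : Nat.card (⊥ : AddSubgroup V) = 1 := AddSubgroup.card_bot
      rw [h1]
      refine ⟨by have : 0 < Nat.card V := Nat.card_pos; omega, ?_⟩
      intro hV
      have hV1 : Nat.card V = 1 := by omega
      have hsub : Subsingleton V := (Nat.card_eq_one_iff_unique.mp hV1).1
      have : N₀ q = 1 := N₀_aniso h (fun x _ => Subsingleton.elim _ _)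
      rw [this, hV1]; norm_num
    · obtain ⟨⟨u, huU⟩, hu0'⟩ := (AddSubgroup.ne_bot_iff_exists_ne_zero.mp hbot)
      have hu0 : u ≠ 0 := fun hh => hu0' (Subtype.ext hh)
      have hqu : q u = 0 := hU u huU
      obtain ⟨v, hqv, huv⟩ := exists_hyperbolic h hu0 hqu
      have hc := card_decomp h huv
      have hpos : 0 < Nat.card (perp h u v) := Nat.card_pos
      have hs := card_tsSplit h huv hU huU
      obtain ⟨b1, b2⟩ := ih (qr q (perp h u v)) (isQF_perp h huv) (by omega) _
        (isTS_inPerp h u v hU)
      have hsign := sign_hyperbolic h huv hqu hqv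
      rw [hs, hc]
      constructor
      · nlinarith
      · intro heq
        have : Nat.card (inPerp h u v U) ^ 2 = Nat.card (perp h u v) := by nlinarith
        have := b2 this
        rw [← hc, hsign]; linarith

/-- existence of large totally singular subgroups. -/
theorem ts_exists : ∀ (n : ℕ) {V : Type u} [AddCommGroup V] [Finite V] (q : V → ZMod 2),
    IsQF q → Nat.card V ≤ n →
      (0 < 2 * (N₀ q : ℤ) - (Nat.card V : ℤ) →
        ∃ U : AddSubgroup V, IsTS q U ∧ Nat.card U ^ 2 = Nat.card V) ∧
      (2 * (N₀ q : ℤ) - (Nat.card V : ℤ) < 0 →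
        ∃ U : AddSubgroup V, IsTS q U ∧ 4 * Nat.card U ^ 2 = Nat.card V) := by
  intro n
  induction n with
  | zero =>
    intro V _ _ q _ hn
    have : 0 < Nat.card V := Nat.card_pos
    omega
  | succ n ih =>
    intro V _ _ q h hn
    have hbotTS : IsTS q (⊥ : AddSubgroup V) := by
      intro x hx
      rw [AddSubgroup.mem_bot] at hx
      rw [hx, h.zero]
    have h1 : Nat.card (⊥ : AddSubgroup V) = 1 := AddSubgroup.card_bot
    by_cases hex : ∃ u, u ≠ 0 ∧ q u = 0
    · obtain ⟨u, hu0, hqu⟩ := hex
      obtain ⟨v, hqv, huv⟩ := exists_hyperbolic h hu0 hqu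
      have hc := card_decomp h huv
      have hpos : 0 < Nat.card (perp h u v) := Nat.card_pos
      have hsign := sign_hyperbolic h huv hqu hqv
      obtain ⟨i1, i2⟩ := ih (qr q (perp h u v)) (isQF_perp h huv) (by omega)
      constructor
      · intro ht
        obtain ⟨U₀, hU₀, hcard⟩ := i1 (by rw [hsign] at ht; linarith)
        refine ⟨extend h huv U₀, isTS_extend h huv hqu hU₀, ?_⟩
        have := card_tsSplit h huv (isTS_extend h huv hqu hU₀) (self_mem_extend h huv U₀)
        rw [inPerp_extend] at this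
        rw [this, hc]; nlinarith
      · intro ht
        obtain ⟨U₀, hU₀, hcard⟩ := i2 (by rw [hsign] at ht; linarith)
        refine ⟨extend h huv U₀, isTS_extend h huv hqu hU₀, ?_⟩
        have := card_tsSplit h huv (isTS_extend h huv hqu hU₀) (self_mem_extend h huv U₀)
        rw [inPerp_extend] at this
        rw [this, hc]; nlinarith
    · push Not at hex
      have han : ∀ x, q x = 0 → x = 0 := fun x hx => by
        by_contra hx0; exact hex x hx0 hx
      have hN := N₀_aniso h han
      rcases card_aniso h han with hV | hV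
      · constructor
        · intro _
          exact ⟨⊥, hbotTS, by rw [h1, hV]; norm_num⟩
        · intro ht
          rw [hN, hV] at ht; norm_num at ht
      · constructor
        · intro ht
          rw [hN, hV] at ht; norm_num at ht
        · intro _
          exact ⟨⊥, hbotTS, by rw [h1, hV]; norm_num⟩

end main

end Cfsg.Agent.Lib.Helper3_QuadF2b
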