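import Mathlib
import Cfsg.Prelude.Def_Transfer
import Cfsg.Agent.Lib.Helper3_ExtCocycle
import Cfsg.Agent.Lib.Helper3_QuadF2b

/-!
Models of the two extraspecial 2-groups of each order, via explicit cocycles.
-/

namespace Cfsg.Agent.Lib.Helper3_ExtModels

open Cfsg.Agent.Lib.Helper3_QuadF2 Cfsg.Agent.Lib.Helper3_QuadF2b
open Cfsg.Agent.Lib.Helper3_ExtCocycle

section sum

variable {V₁ V₂ : Type*} [AddCommGroup V₁] [AddCommGroup V₂]

/-- orthogonal sum of cocycles. -/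
def csum (c₁ : Cocycle V₁) (c₂ : Cocycle V₂) : Cocycle (V₁ × V₂) where
  B p q := c₁.B p.1 q.1 + c₂.B p.2 q.2
  add_left u v w := by
    simp only [Prod.fst_add, Prod.snd_add, c₁.add_left, c₂.add_left]; ring
  add_right u v w := by
    simp only [Prod.fst_add, Prod.snd_add, c₁.add_right, c₂.add_right]; ring

theorem csum_nondeg {c₁ : Cocycle V₁} {c₂ : Cocycle V₂}
    (h₁ : ∀ v : V₁, v ≠ 0 → ∃ w, c₁.B v w + c₁.B w v = 1)
    (h₂ : ∀ v : V₂, v ≠ 0 → ∃ w, c₂.B v w + c₂.B w v = 1) :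
    ∀ v : V₁ × V₂, v ≠ 0 → ∃ w, (csum c₁ c₂).B v w + (csum c₁ c₂).B w v = 1 := by
  rintro ⟨a, b⟩ hv
  by_cases ha : a = 0
  · have hb : b ≠ 0 := by
      rintro rfl; exact hv (by rw [ha]; rfl)
    obtain ⟨w, hw⟩ := h₂ b hb
    refine ⟨(0, w), ?_⟩
    show c₁.B a 0 + c₂.B b w + (c₁.B 0 a + c₂.B w b) = 1
    rw [c₁.zero_right, c₁.zero_left, ← hw]; ring
  · obtain ⟨w, hw⟩ := h₁ a ha
    refine ⟨(w, 0), ?_⟩
    show c₁.B a w + c₂.B b 0 + (c₁.B w a + c₂.B 0 b) = 1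
    rw [c₂.zero_right, c₂.zero_left, ← hw]; ring

theorem qc_csum (c₁ : Cocycle V₁) (c₂ : Cocycle V₂) (p : V₁ × V₂) :
    qc (csum c₁ c₂) p = qc c₁ p.1 + qc c₂ p.2 := rfl

end sum

section mult

variable {V₁ V₂ : Type*}

theorem card_compl' [Finite V₂] (q₂ : V₂ → ZMod 2) :
    N₀ q₂ + Nat.card {w : V₂ // 1 + q₂ w = 0} = Nat.card V₂ := by
  classical
  have e : {w : V₂ // 1 + q₂ w = 0} ≃ {w : V₂ // ¬ q₂ w = 0} :=
    Equiv.subtypeEquivRight (fun w => by
      have : ∀ c : ZMod 2, 1 + c = 0 ↔ ¬ c = 0 := by decide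
      exact this _)
  unfold N₀
  rw [Nat.card_congr e, ← Nat.card_sum]
  exact Nat.card_congr (Equiv.sumCompl _)

/-- the sign is multiplicative on orthogonal sums. -/
theorem sign_mul [Finite V₁] [Finite V₂] (q₁ : V₁ → ZMod 2) (q₂ : V₂ → ZMod 2) :
    2 * (N₀ (fun p : V₁ × V₂ => q₁ p.1 + q₂ p.2) : ℤ) - (Nat.card (V₁ × V₂) : ℤ) =
      (2 * (N₀ q₁ : ℤ) - (Nat.card V₁ : ℤ)) * (2 * (N₀ q₂ : ℤ) - (Nat.card V₂ : ℤ)) := by
  classical
  haveI := Fintype.ofFinite V₁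
  set a := N₀ q₂ with ha
  set b := Nat.card {w : V₂ // 1 + q₂ w = 0} with hb
  have hab : a + b = Nat.card V₂ := card_compl' q₂
  have h1 : N₀ (fun p : V₁ × V₂ => q₁ p.1 + q₂ p.2) =
      ∑ v : V₁, Nat.card {w : V₂ // q₁ v + q₂ w = 0} := by
    unfold N₀
    rw [Nat.card_congr (Equiv.subtypeProdEquivSigmaSubtype
      (fun (v : V₁) (w : V₂) => q₁ v + q₂ w = 0)), Nat.card_sigma]
  have h2 : ∀ v : V₁, Nat.card {w : V₂ // q₁ v + q₂ w = 0} = if q₁ v = 0 then a else b := by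
    intro v
    rcases z2_cases (q₁ v) with h0 | h0
    · rw [if_pos h0, h0]; simp only [zero_add]; rfl
    · rw [if_neg (by rw [h0]; decide), h0]
  have h3 : (Finset.univ.filter (fun v : V₁ => q₁ v = 0)).card = N₀ q₁ := by
    unfold N₀
    rw [Nat.card_eq_fintype_card, Fintype.card_subtype]
  have h4 := Finset.card_filter_add_card_filter_not
    (s := (Finset.univ : Finset V₁)) (fun v : V₁ => q₁ v = 0)
  rw [h3, Finset.card_univ, ← Nat.card_eq_fintype_card] at h4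
  have h5 : N₀ (fun p : V₁ × V₂ => q₁ p.1 + q₂ p.2) =
      N₀ q₁ * a + (Finset.univ.filter (fun v : V₁ => ¬ q₁ v = 0)).card * b := by
    rw [h1, Finset.sum_congr rfl (fun v _ => h2 v), Finset.sum_ite, Finset.sum_const,
      Finset.sum_const, h3, smul_eq_mul, smul_eq_mul]
  set B₁ := (Finset.univ.filter (fun v : V₁ => ¬ q₁ v = 0)).card with hB₁
  rw [h5, Nat.card_prod, ← h4, ← hab]
  push_cast
  ring

end mult

section models

/-- the hyperbolic cocycle on `F₂ⁿ × F₂ⁿ`. -/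
def cP (n : ℕ) : Cocycle ((Fin n → ZMod 2) × (Fin n → ZMod 2)) where
  B p q := ∑ i, p.2 i * q.1 i
  add_left u v w := by
    simp only [Prod.snd_add, Pi.add_apply, add_mul, Finset.sum_add_distrib]
  add_right u v w := by
    simp only [Prod.fst_add, Pi.add_apply, mul_add, Finset.sum_add_distrib]

/-- the anisotropic cocycle on `F₂ × F₂`. -/
def cA : Cocycle (ZMod 2 × ZMod 2) where
  B p q := p.1 * q.1 + p.2 * q.2 + p.2 * q.1
  add_left u v w := by
    simp only [Prod.fst_add, Prod.snd_add]; ring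
  add_right u v w := by
    simp only [Prod.fst_add, Prod.snd_add]; ring

theorem two_P (n : ℕ) (v : (Fin n → ZMod 2) × (Fin n → ZMod 2)) : v + v = 0 := by
  apply Prod.ext <;> funext i <;> exact z2_add_self _

theorem two_A (v : ZMod 2 × ZMod 2) : v + v = 0 := by
  apply Prod.ext <;> exact z2_add_self _

theorem two_prod {V₁ V₂ : Type*} [AddCommGroup V₁] [AddCommGroup V₂] (h₁ : ∀ v : V₁, v + v = 0)
    (h₂ : ∀ v : V₂, v + v = 0) (v : V₁ × V₂) : v + v = 0 :=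
  Prod.ext (h₁ _) (h₂ _)

theorem nondeg_A : ∀ v : ZMod 2 × ZMod 2, v ≠ 0 → ∃ w, cA.B v w + cA.B w v = 1 := by
  decide

theorem nondeg_P (n : ℕ) : ∀ v : (Fin n → ZMod 2) × (Fin n → ZMod 2), v ≠ 0 →
    ∃ w, (cP n).B v w + (cP n).B w v = 1 := by
  rintro ⟨x, y⟩ hv
  have hex : ∃ i, x i ≠ 0 ∨ y i ≠ 0 := by
    by_contra hcon
    push Not at hcon
    apply hv
    apply Prod.ext
    · funext i; exact (hcon i).1
    · funext i; exact (hcon i).2
  obtain ⟨i, hi⟩ := hex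
  rcases hi with hi | hi
  · have hx : x i = 1 := by
      rcases z2_cases (x i) with h | h
      · exact absurd h hi
      · exact h
    refine ⟨(0, Pi.single i 1), ?_⟩
    show ∑ j, y j * (0 : Fin n → ZMod 2) j + ∑ j, (Pi.single i (1 : ZMod 2) : Fin n → ZMod 2) j * x j = 1
    simp [Pi.single_apply, hx]
  · have hy : y i = 1 := by
      rcases z2_cases (y i) with h | h
      · exact absurd h hi
      · exact h
    refine ⟨(Pi.single i 1, 0), ?_⟩
    show ∑ j, y j * (Pi.single i (1 : ZMod 2) : Fin n → ZMod 2) j + ∑ j, (0 : Fin n → ZMod 2) j * x j = 1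
    simp [Pi.single_apply, hy]

theorem card_VP (n : ℕ) : Nat.card ((Fin n → ZMod 2) × (Fin n → ZMod 2)) = 2 ^ n * 2 ^ n := by
  rw [Nat.card_prod, Nat.card_fun]; simp

theorem sign_P_pos (n : ℕ) :
    0 < 2 * (N₀ (qc (cP n)) : ℤ) - (Nat.card ((Fin n → ZMod 2) × (Fin n → ZMod 2)) : ℤ) := by
  have hQ := isQF_qc (cP n) (two_P n) (nondeg_P n)
  let U : AddSubgroup ((Fin n → ZMod 2) × (Fin n → ZMod 2)) := AddSubgroup.prod ⊤ ⊥
  have hTS : IsTS (qc (cP n)) U := by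
    rintro ⟨x, y⟩ hxy
    have hy : y = 0 := (AddSubgroup.mem_prod.mp hxy).2
    subst hy
    show ∑ i, (0 : Fin n → ZMod 2) i * x i = 0
    simp
  have hU : Nat.card U = 2 ^ n := by
    rw [Nat.card_congr (AddSubgroup.prodEquiv ⊤ ⊥).toEquiv, Nat.card_prod, AddSubgroup.card_top,
      AddSubgroup.card_bot, Nat.card_fun]
    simp
  apply (ts_bound _ (qc (cP n)) hQ le_rfl U hTS).2
  rw [hU, card_VP]; ring

theorem N₀_A : N₀ (qc cA) = 1 := by
  unfold N₀
  rw [Nat.card_eq_fintype_card]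
  rfl

end models

end Cfsg.Agent.Lib.Helper3_ExtModels
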