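import Mathlib
import Cfsg.Prelude.Def_Transfer
import Cfsg.Agent.Lib.Helper3_QuadF2

/-!
Extraspecial 2-groups: the quadratic form on `E / Z(E)` and the isomorphism theorem
(same order and same number of solutions of `x ^ 2 = 1` implies isomorphic).
-/

namespace Cfsg.Agent.Lib.Helper3_Extra2

open Cfsg.Agent.Lib.Helper3_QuadF2

universe u v

/-- a complement lemma in a group whose quotient by `Δ` is elementary abelian. -/
theorem exists_index_two {G : Type*} [Group G] [Finite G] (D Δ : Subgroup G) (hΔD : Δ ≤ D)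
    (hsq : ∀ d ∈ D, d * d ∈ Δ) (hcomm : ∀ a ∈ D, ∀ b ∈ D, a * b * a⁻¹ * b⁻¹ ∈ Δ)
    (c : G) (hcD : c ∈ D) (hc : c ∉ Δ) :
    ∃ C : Subgroup G, Δ ≤ C ∧ C ≤ D ∧ c ∉ C ∧ ∀ d ∈ D, d ∈ C ∨ d * c ∈ C := by
  obtain ⟨C, hΔC, hmax⟩ := Finite.exists_le_maximal
    (p := fun C : Subgroup G => Δ ≤ C ∧ C ≤ D ∧ c ∉ C) (a := Δ) ⟨le_rfl, hΔD, hc⟩
  obtain ⟨⟨h1, h2, h3⟩, hmax⟩ := hmax
  refine ⟨C, h1, h2, h3, ?_⟩
  intro d hd
  by_contra hcon
  push Not at hcon
  obtain ⟨hdC, hdcC⟩ := hcon
  -- normality of C under D
  have hn : ∀ y ∈ C, ∀ g ∈ D, g * y * g⁻¹ ∈ C := by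
    intro y hy g hg
    have := h1 (hcomm g hg y (h2 hy))
    have e : g * y * g⁻¹ = (g * y * g⁻¹ * y⁻¹) * y := by group
    rw [e]; exact C.mul_mem this hy
  -- the subgroup C ∪ C d⁻¹
  let C' : Subgroup G :=
    { carrier := {y | y ∈ D ∧ (y ∈ C ∨ y * d ∈ C)}
      one_mem' := ⟨D.one_mem, Or.inl C.one_mem⟩
      mul_mem' := by
        rintro y₁ y₂ ⟨hy₁D, hy₁⟩ ⟨hy₂D, hy₂⟩
        refine ⟨D.mul_mem hy₁D hy₂D, ?_⟩
        rcases hy₁ with hy₁ | hy₁ <;> rcases hy₂ with hy₂ | hy₂
        · exact Or.inl (C.mul_mem hy₁ hy₂)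
        · right; rw [mul_assoc]; exact C.mul_mem hy₁ hy₂
        · right
          have e : y₁ * y₂ * d = (y₁ * d) * (d⁻¹ * y₂ * d⁻¹⁻¹) := by group
          rw [e]; exact C.mul_mem hy₁ (hn y₂ hy₂ d⁻¹ (D.inv_mem hd))
        · left
          have e : y₁ * y₂ = (y₁ * d) * (d⁻¹ * (y₂ * d) * d⁻¹⁻¹) * (d * d)⁻¹ := by group
          rw [e]
          exact C.mul_mem (C.mul_mem hy₁ (hn _ hy₂ d⁻¹ (D.inv_mem hd)))
            (C.inv_mem (h1 (hsq d hd)))
      inv_mem' := by
        rintro y ⟨hyD, hy⟩
        refine ⟨D.inv_mem hyD, ?_⟩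
        rcases hy with hy | hy
        · exact Or.inl (C.inv_mem hy)
        · right
          have e : y⁻¹ * d = (d * (y * d)⁻¹ * d⁻¹) * (d * d) := by group
          rw [e]
          exact C.mul_mem (hn _ (C.inv_mem hy) d hd) (h1 (hsq d hd)) }
  have hCC' : C ≤ C' := fun y hy => ⟨h2 hy, Or.inl hy⟩
  have hdC' : d ∈ C' := ⟨hd, Or.inr (h1 (hsq d hd))⟩
  have hcC' : c ∈ C' := by
    by_contra hcn
    have hp : Δ ≤ C' ∧ C' ≤ D ∧ c ∉ C' := ⟨h1.trans hCC', fun y hy => hy.1, hcn⟩
    exact hdC (hmax hp hCC' hdC')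
  rcases hcC'.2 with hcc | hcd
  · exact h3 hcc
  · apply hdcC
    have e : d * c = d * (c * d) * d⁻¹ := by group
    rw [e]
    exact hn _ hcd d hd

section extra

variable {E : Type u} [Group E]

/-- the identification of a group of order two with `ZMod 2`. -/
noncomputable def iota (c : E) : ZMod 2 := by
  classical exact if c = 1 then 0 else 1

theorem iota_eq_zero {c : E} : iota c = 0 ↔ c = 1 := by
  unfold iota; split_ifs with h <;> simp [h]

theorem iota_one : iota (1 : E) = 0 := iota_eq_zero.mpr rfl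

/-- basic data of an extraspecial 2-group. -/
structure Data (E : Type u) [Group E] where
  z : E
  z_ne : z ≠ 1
  z_mem : z ∈ Subgroup.center E
  z_sq : z * z = 1
  center : ∀ c ∈ Subgroup.center E, c = 1 ∨ c = z
  comm : ∀ x y : E, x * y * x⁻¹ * y⁻¹ ∈ Subgroup.center E
  sq : ∀ x : E, x * x ∈ Subgroup.center E

theorem exists_data [Finite E] (hE : Cfsg.IsExtraspecial 2 E) : Nonempty (Data E) := by
  obtain ⟨⟨hp, hfr, hco⟩, hcard⟩ := hE
  obtain ⟨z, hz, hzu⟩ := (Nat.card_eq_two_iff' (1 : Subgroup.center E)).mp hcard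
  have hcen : ∀ c ∈ Subgroup.center E, c = 1 ∨ c = (z : E) := by
    intro c hc
    by_cases h1 : c = 1
    · exact Or.inl h1
    · right
      have := hzu ⟨c, hc⟩ (fun h => h1 (by simpa using congrArg Subtype.val h))
      exact congrArg Subtype.val this
  have hzne : (z : E) ≠ 1 := fun h => hz (Subtype.ext h)
  have hzsq : (z : E) * z = 1 := by
    rcases hcen _ ((Subgroup.center E).mul_mem z.2 z.2) with h | h
    · exact h
    · exfalso; apply hzne
      have : (z : E) * z = z * 1 := by rw [mul_one]; exact h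
      exact mul_left_cancel this
  have hcomm : ∀ x y : E, x * y * x⁻¹ * y⁻¹ ∈ Subgroup.center E := by
    intro x y
    rw [← hco, commutator_def, ← commutatorElement_def]
    exact Subgroup.commutator_mem_commutator (Subgroup.mem_top x) (Subgroup.mem_top y)
  have hcsq : ∀ c ∈ Subgroup.center E, c * c = 1 := by
    intro c hc
    rcases hcen c hc with rfl | rfl
    · simp
    · exact hzsq
  have hsq : ∀ x : E, x * x ∈ Subgroup.center E := by
    intro x
    rw [Subgroup.mem_center_iff]
    intro y
    -- y * (x * x) = (x * x) * y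
    have hc := hcomm x y
    set c := x * y * x⁻¹ * y⁻¹ with hcdef
    have hcc := hcsq c hc
    have hxy : x * y = c * (y * x) := by rw [hcdef]; group
    have hcx : ∀ g : E, g * c = c * g := fun g => (Subgroup.mem_center_iff.mp hc g)
    calc y * (x * x) = (c * c) * (y * x * x) := by rw [hcc, one_mul, mul_assoc]
      _ = c * (c * (y * x)) * x := by group
      _ = c * (x * y) * x := by rw [← hxy]
      _ = x * (c * (y * x)) := by rw [← mul_assoc, ← hcx x]; group
      _ = x * x * y := by rw [← hxy]; group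
  exact ⟨⟨z, hzne, z.2, hzsq, hcen, hcomm, hsq⟩⟩

variable (dat : Data E)

include dat

theorem Data.center_sq {c : E} (hc : c ∈ Subgroup.center E) : c * c = 1 := by
  rcases dat.center c hc with rfl | rfl
  · simp
  · exact dat.z_sq

theorem Data.iota_mul {c d : E} (hc : c ∈ Subgroup.center E) (hd : d ∈ Subgroup.center E) :
    iota (c * d) = iota c + iota d := by
  rcases dat.center c hc with rfl | rfl <;> rcases dat.center d hd with rfl | rfl
  · simp [iota_one]
  · simp [iota_one]
  · simp [iota_one]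
  · rw [dat.z_sq, iota_one]
    have : iota dat.z = 1 := by
      unfold iota; rw [if_neg dat.z_ne]
    rw [this]; decide

theorem Data.iota_z : iota dat.z = 1 := by
  unfold iota; rw [if_neg dat.z_ne]

omit dat in
/-- the projection to `V = E / Z`, written additively. -/
def proj (x : E) : Additive (Abelianization E) := Additive.ofMul (Abelianization.of x)

omit dat in
theorem proj_mul (x y : E) : proj (x * y) = proj x + proj y := by
  unfold proj; rw [map_mul]; rfl

omit dat in
theorem proj_one : proj (1 : E) = 0 := by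
  unfold proj; rw [map_one]; rfl

omit dat in
theorem proj_inv (x : E) : proj x⁻¹ = - proj x := by
  unfold proj; rw [map_inv]; rfl

omit dat in
theorem proj_surjective : Function.Surjective (proj : E → Additive (Abelianization E)) := by
  intro v
  obtain ⟨x, hx⟩ := QuotientGroup.mk_surjective (Additive.toMul v)
  exact ⟨x, by unfold proj; exact congrArg Additive.ofMul hx⟩

omit dat in
theorem proj_eq_zero_iff' (x : E) : proj x = 0 ↔ x ∈ commutator E := by
  rw [← Abelianization.ker_of, MonoidHom.mem_ker]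
  unfold proj
  constructor
  · intro h; exact congrArg Additive.toMul h
  · intro h; exact congrArg Additive.ofMul h

end extra

section form

variable {E : Type u} [Group E] (dat : Data E) (hco : commutator E = Subgroup.center E)

include hco in
theorem proj_eq_zero_iff (x : E) : proj x = 0 ↔ x ∈ Subgroup.center E := by
  rw [proj_eq_zero_iff', hco]

include hco in
theorem proj_eq_iff (x y : E) : proj x = proj y ↔ x⁻¹ * y ∈ Subgroup.center E := by
  rw [← proj_eq_zero_iff hco, proj_mul, proj_inv, neg_add_eq_zero]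

/-- a section of the projection. -/
noncomputable def sec (v : Additive (Abelianization E)) : E :=
  Function.surjInv proj_surjective v

theorem proj_sec (v : Additive (Abelianization E)) : proj (sec v) = v :=
  Function.surjInv_eq _ v

/-- the quadratic form `x Z ↦ x ^ 2`. -/
noncomputable def qf (v : Additive (Abelianization E)) : ZMod 2 := iota (sec v * sec v)

include dat hco in
theorem sq_eq_of_proj_eq {x y : E} (h : proj x = proj y) : x * x = y * y := by
  have hc := (proj_eq_iff hco x y).mp h
  set c := x⁻¹ * y with hcdef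
  have hy : y = x * c := by rw [hcdef]; group
  have hcx : ∀ g : E, g * c = c * g := fun g => (Subgroup.mem_center_iff.mp hc g)
  have hcc := dat.center_sq hc
  rw [hy]
  calc x * x = x * x * (c * c) := by rw [hcc, mul_one]
    _ = x * (x * c) * c := by group
    _ = x * (c * x) * c := by rw [hcx x]
    _ = x * c * (x * c) := by group

include dat hco in
theorem qf_proj (x : E) : qf (proj x) = iota (x * x) := by
  unfold qf; rw [sq_eq_of_proj_eq dat hco (proj_sec (proj x))]

include dat hco in
theorem pol_qf (x y : E) : pol qf (proj x) (proj y) = iota (x * y * x⁻¹ * y⁻¹) := by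
  unfold pol
  rw [← proj_mul, qf_proj dat hco, qf_proj dat hco, qf_proj dat hco]
  have hc := dat.comm x y
  set c := x * y * x⁻¹ * y⁻¹ with hcdef
  have hcc := dat.center_sq hc
  have hcx : ∀ g : E, g * c = c * g := fun g => (Subgroup.mem_center_iff.mp hc g)
  have hcinv : c⁻¹ = c := inv_eq_of_mul_eq_one_left hcc
  have hyx : y * x = c * (x * y) := by
    have : y * x = c⁻¹ * (x * y) := by rw [hcdef]; group
    rw [this, hcinv]
  have key : x * y * (x * y) = c * (x * x) * (y * y) := by
    calc x * y * (x * y) = x * (y * x) * y := by group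
      _ = x * (c * (x * y)) * y := by rw [hyx]
      _ = (x * c) * x * y * y := by group
      _ = (c * x) * x * y * y := by rw [hcx x]
      _ = c * (x * x) * (y * y) := by group
  rw [key, dat.iota_mul ((Subgroup.center E).mul_mem hc (dat.sq x)) (dat.sq y),
    dat.iota_mul hc (dat.sq x)]
  have : ∀ a b c : ZMod 2, a + b + c + b + c = a := by decide
  exact this _ _ _

include dat hco in
theorem isQF_qf : IsQF (qf : Additive (Abelianization E) → ZMod 2) where
  two v := by
    obtain ⟨x, rfl⟩ := proj_surjective v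
    rw [← proj_mul, proj_eq_zero_iff hco]; exact dat.sq x
  zero := by
    rw [← proj_one, qf_proj dat hco, one_mul, iota_one]
  add v v' w := by
    obtain ⟨x, rfl⟩ := proj_surjective v
    obtain ⟨x', rfl⟩ := proj_surjective v'
    obtain ⟨y, rfl⟩ := proj_surjective w
    rw [← proj_mul, pol_qf dat hco, pol_qf dat hco, pol_qf dat hco]
    have hc' := dat.comm x' y
    set c' := x' * y * x'⁻¹ * y⁻¹ with hc'def
    have hcx : ∀ g : E, g * c' = c' * g := fun g => (Subgroup.mem_center_iff.mp hc' g)
    have e : x * x' * y * (x * x')⁻¹ * y⁻¹ = (x * y * x⁻¹ * y⁻¹) * c' := by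
      calc x * x' * y * (x * x')⁻¹ * y⁻¹ = (x * c') * (y * x⁻¹ * y⁻¹) := by rw [hc'def]; group
        _ = (c' * x) * (y * x⁻¹ * y⁻¹) := by rw [hcx x]
        _ = c' * (x * y * x⁻¹ * y⁻¹) := by group
        _ = (x * y * x⁻¹ * y⁻¹) * c' := (hcx _).symm
    rw [e, dat.iota_mul (dat.comm x y) hc']
  nondeg v hv := by
    obtain ⟨x, rfl⟩ := proj_surjective v
    have hx : x ∉ Subgroup.center E := fun h => hv ((proj_eq_zero_iff hco x).mpr h)
    rw [Subgroup.mem_center_iff] at hx
    push Not at hx
    obtain ⟨y, hy⟩ := hx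
    refine ⟨proj y, ?_⟩
    rw [pol_qf dat hco]
    rcases z2_cases (iota (x * y * x⁻¹ * y⁻¹)) with h0 | h1
    · exfalso
      rw [iota_eq_zero] at h0
      apply hy
      have : x * y = (x * y * x⁻¹ * y⁻¹) * (y * x) := by group
      rw [h0, one_mul] at this
      exact this.symm
    · exact h1

include hco in
/-- `E` as a product of `V` and the centre (as sets). -/
noncomputable def splitEquiv : E ≃ Additive (Abelianization E) × Subgroup.center E where
  toFun x := (proj x, ⟨(sec (proj x))⁻¹ * x, (proj_eq_iff hco _ _).mp (proj_sec (proj x))⟩)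
  invFun p := sec p.1 * (p.2 : E)
  left_inv x := by
    show sec (proj x) * ((sec (proj x))⁻¹ * x) = x
    group
  right_inv p := by
    obtain ⟨v, c⟩ := p
    have hv : proj (sec v * (c : E)) = v := by
      rw [proj_mul, proj_sec, (proj_eq_zero_iff hco _).mpr c.2, add_zero]
    apply Prod.ext
    · exact hv
    · apply Subtype.ext
      show (sec (proj (sec v * (c : E))))⁻¹ * (sec v * (c : E)) = c
      rw [hv]; group

include hco in
theorem card_eq [Finite E] (h2 : Nat.card (Subgroup.center E) = 2) :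
    Nat.card E = Nat.card (Additive (Abelianization E)) * 2 := by
  rw [Nat.card_congr (splitEquiv hco), Nat.card_prod, h2]

include dat hco in
theorem card_sq_eq_one [Finite E] (h2 : Nat.card (Subgroup.center E) = 2) :
    Nat.card {x : E // x ^ 2 = 1} = N₀ (qf : Additive (Abelianization E) → ZMod 2) * 2 := by
  have e1 : {x : E // x ^ 2 = 1} ≃
      {p : Additive (Abelianization E) × Subgroup.center E // qf p.1 = 0} :=
    (splitEquiv hco).subtypeEquiv (fun x => by
      show x ^ 2 = 1 ↔ qf (proj x) = 0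
      rw [qf_proj dat hco, iota_eq_zero, pow_two])
  have e2 : {p : Additive (Abelianization E) × Subgroup.center E // qf p.1 = 0} ≃
      {v : Additive (Abelianization E) // qf v = 0} × Subgroup.center E :=
    Equiv.prodSubtypeFstEquivSubtypeProd (p := fun v : Additive (Abelianization E) => qf v = 0)
  rw [Nat.card_congr e1, Nat.card_congr e2, Nat.card_prod, h2]
  rfl

end form

section iso

variable {E : Type u} {E' : Type v} [Group E] [Group E']

/-- an isometry of the quadratic forms lifts to an isomorphism of the groups. -/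
theorem iso_of_isometry [Finite E] [Finite E'] (dat : Data E) (dat' : Data E')
    (hco : commutator E = Subgroup.center E) (hco' : commutator E' = Subgroup.center E')
    (φ : Additive (Abelianization E) ≃+ Additive (Abelianization E'))
    (hφ : ∀ v, qf (φ v) = qf v) : Nonempty (E ≃* E') := by
  have hpol : ∀ u w, pol qf (φ u) (φ w) = pol qf u w := by
    intro u w; unfold pol; rw [← map_add, hφ, hφ, hφ]
  let D : Subgroup (E × E') :=
    { carrier := {p | φ (proj p.1) = proj p.2}
      one_mem' := by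
        show φ (proj (1 : E)) = proj (1 : E')
        rw [proj_one, proj_one, map_zero]
      mul_mem' := by
        intro a b ha hb
        have ha' : φ (proj a.1) = proj a.2 := ha
        have hb' : φ (proj b.1) = proj b.2 := hb
        show φ (proj (a.1 * b.1)) = proj (a.2 * b.2)
        rw [proj_mul, proj_mul, map_add, ha', hb']
      inv_mem' := by
        intro a ha
        have ha' : φ (proj a.1) = proj a.2 := ha
        show φ (proj a.1⁻¹) = proj a.2⁻¹
        rw [proj_inv, proj_inv, map_neg, ha'] }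
  have hD : ∀ p : E × E', p ∈ D ↔ φ (proj p.1) = proj p.2 := fun p => Iff.rfl
  let Δ : Subgroup (E × E') :=
    { carrier := {p | p = 1 ∨ p = (dat.z, dat'.z)}
      one_mem' := Or.inl rfl
      mul_mem' := by
        rintro a b (rfl | rfl) (rfl | rfl)
        · left; simp
        · right; simp
        · right; simp
        · left
          show (dat.z, dat'.z) * (dat.z, dat'.z) = 1
          rw [Prod.mk_mul_mk, dat.z_sq, dat'.z_sq]; rfl
      inv_mem' := by
        rintro a (rfl | rfl)
        · left; simp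
        · right
          show ((dat.z, dat'.z) : E × E')⁻¹ = (dat.z, dat'.z)
          rw [Prod.inv_mk, inv_eq_of_mul_eq_one_left dat.z_sq,
            inv_eq_of_mul_eq_one_left dat'.z_sq] }
  have hΔ : ∀ p : E × E', p ∈ Δ ↔ p = 1 ∨ p = (dat.z, dat'.z) := fun p => Iff.rfl
  have hzz : ((dat.z, dat'.z) : E × E') ∈ Δ := Or.inr rfl
  -- pairs of central elements with the same iota lie in Δ
  have hpair : ∀ c ∈ Subgroup.center E, ∀ c' ∈ Subgroup.center E', iota c = iota c' →
      ((c, c') : E × E') ∈ Δ := by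
    intro c hc c' hc' hi
    rcases dat.center c hc with rfl | rfl <;> rcases dat'.center c' hc' with rfl | rfl
    · exact Or.inl rfl
    · rw [iota_one, dat'.iota_z] at hi; exact absurd hi (by decide)
    · rw [iota_one, dat.iota_z] at hi; exact absurd hi (by decide)
    · exact Or.inr rfl
  have hΔD : Δ ≤ D := by
    rintro p (rfl | rfl)
    · exact D.one_mem
    · rw [hD]
      show φ (proj dat.z) = proj dat'.z
      rw [(proj_eq_zero_iff hco _).mpr dat.z_mem, (proj_eq_zero_iff hco' _).mpr dat'.z_mem,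
        map_zero]
  have hsq : ∀ d ∈ D, d * d ∈ Δ := by
    rintro ⟨x, x'⟩ hd
    have hd' : φ (proj x) = proj x' := hd
    show ((x * x, x' * x') : E × E') ∈ Δ
    apply hpair _ (dat.sq x) _ (dat'.sq x')
    rw [← qf_proj dat hco, ← qf_proj dat' hco', ← hd', hφ]
  have hcomm : ∀ a ∈ D, ∀ b ∈ D, a * b * a⁻¹ * b⁻¹ ∈ Δ := by
    rintro ⟨x, x'⟩ ha ⟨y, y'⟩ hb
    have ha' : φ (proj x) = proj x' := ha
    have hb' : φ (proj y) = proj y' := hb
    show ((x * y * x⁻¹ * y⁻¹, x' * y' * x'⁻¹ * y'⁻¹) : E × E') ∈ Δ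
    apply hpair _ (dat.comm x y) _ (dat'.comm x' y')
    rw [← pol_qf dat hco, ← pol_qf dat' hco', ← ha', ← hb', hpol]
  have hcD : ((1, dat'.z) : E × E') ∈ D := by
    rw [hD]
    show φ (proj (1 : E)) = proj dat'.z
    rw [proj_one, map_zero, (proj_eq_zero_iff hco' _).mpr dat'.z_mem]
  have hcΔ : ((1, dat'.z) : E × E') ∉ Δ := by
    rintro (h | h)
    · exact dat'.z_ne (congrArg Prod.snd h)
    · exact dat.z_ne (congrArg Prod.fst h).symm
  obtain ⟨C, hΔC, hCD, hcC, hC⟩ := exists_index_two D Δ hΔD hsq hcomm _ hcD hcΔ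
  have hz1C : ((dat.z, 1) : E × E') ∉ C := by
    intro h
    apply hcC
    have := C.mul_mem h (hΔC hzz)
    rw [Prod.mk_mul_mk, dat.z_sq, one_mul] at this
    exact this
  let f1 : C →* E := (MonoidHom.fst E E').comp C.subtype
  let f2 : C →* E' := (MonoidHom.snd E E').comp C.subtype
  have f1_inj : Function.Injective f1 := by
    rw [injective_iff_map_eq_one]
    rintro ⟨⟨x, x'⟩, hp⟩ hx
    have hx1 : x = 1 := hx
    subst hx1
    have hpD := (hD _).mp (hCD hp)
    have h0 : proj x' = 0 := by
      have : φ (proj (1 : E)) = proj x' := hpD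
      rw [proj_one, map_zero] at this; exact this.symm
    rcases dat'.center x' ((proj_eq_zero_iff hco' _).mp h0) with rfl | rfl
    · rfl
    · exact absurd hp hcC
  have f1_surj : Function.Surjective f1 := by
    intro x
    obtain ⟨x', hx'⟩ := proj_surjective (φ (proj x))
    have hd : ((x, x') : E × E') ∈ D := by rw [hD]; exact hx'.symm
    rcases hC _ hd with h | h
    · exact ⟨⟨_, h⟩, rfl⟩
    · refine ⟨⟨_, h⟩, ?_⟩
      show x * 1 = x
      rw [mul_one]
  have f2_inj : Function.Injective f2 := by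
    rw [injective_iff_map_eq_one]
    rintro ⟨⟨x, x'⟩, hp⟩ hx
    have hx1 : x' = 1 := hx
    subst hx1
    have hpD := (hD _).mp (hCD hp)
    have h0 : proj x = 0 := by
      have : φ (proj x) = proj (1 : E') := hpD
      rw [proj_one] at this
      exact (AddEquiv.map_eq_zero_iff φ).mp this
    rcases dat.center x ((proj_eq_zero_iff hco _).mp h0) with rfl | rfl
    · rfl
    · exact absurd hp hz1C
  have f2_surj : Function.Surjective f2 := by
    intro x'
    obtain ⟨x, hx⟩ := proj_surjective (φ.symm (proj x'))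
    have hd : ((x, x') : E × E') ∈ D := by
      rw [hD]; show φ (proj x) = proj x'
      rw [hx, AddEquiv.apply_symm_apply]
    rcases hC _ hd with h | h
    · exact ⟨⟨_, h⟩, rfl⟩
    · have h' := C.mul_mem h (hΔC hzz)
      refine ⟨⟨_, h'⟩, ?_⟩
      show x' * dat'.z * dat'.z = x'
      rw [mul_assoc, dat'.z_sq, mul_one]
  exact ⟨(MulEquiv.ofBijective f1 ⟨f1_inj, f1_surj⟩).symm.trans
    (MulEquiv.ofBijective f2 ⟨f2_inj, f2_surj⟩)⟩

/-- the isomorphism theorem for extraspecial 2-groups. -/
theorem iso_of_card [Finite E] [Finite E'] (hE : Cfsg.IsExtraspecial 2 E)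
    (hE' : Cfsg.IsExtraspecial 2 E') (hc : Nat.card E = Nat.card E')
    (hs : Nat.card {x : E // x ^ 2 = 1} = Nat.card {x : E' // x ^ 2 = 1}) :
    Nonempty (E ≃* E') := by
  obtain ⟨dat⟩ := exists_data hE
  obtain ⟨dat'⟩ := exists_data hE'
  have hco := hE.1.2.2
  have hco' := hE'.1.2.2
  have c1 := card_eq hco hE.2
  have c2 := card_eq hco' hE'.2
  have s1 := card_sq_eq_one dat hco hE.2
  have s2 := card_sq_eq_one dat' hco' hE'.2
  obtain ⟨φ, hφ⟩ := exists_isometry (Nat.card (Additive (Abelianization E)))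
    (qf : Additive (Abelianization E) → ZMod 2) (qf : Additive (Abelianization E') → ZMod 2)
    (isQF_qf dat hco) (isQF_qf dat' hco') le_rfl (by omega) (by omega)
  exact iso_of_isometry dat dat' hco hco' φ hφ

/-- the number `s` of solutions of `x ^ 2 = 1` satisfies `(2 s - |E|)² = 2 |E|`. -/
theorem sq_count [Finite E] (hE : Cfsg.IsExtraspecial 2 E) :
    (2 * (Nat.card {x : E // x ^ 2 = 1} : ℤ) - (Nat.card E : ℤ)) ^ 2 = 2 * (Nat.card E : ℤ) := by
  obtain ⟨dat⟩ := exists_data hE
  have hco := hE.1.2.2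
  have c1 := card_eq hco hE.2
  have s1 := card_sq_eq_one dat hco hE.2
  have := sq_formula (Nat.card (Additive (Abelianization E)))
    (qf : Additive (Abelianization E) → ZMod 2) (isQF_qf dat hco) le_rfl
  rw [c1, s1]
  push_cast
  have e : (2 * ((N₀ (qf : Additive (Abelianization E) → ZMod 2) : ℤ) * 2) -
      (Nat.card (Additive (Abelianization E)) : ℤ) * 2) =
      2 * (2 * (N₀ (qf : Additive (Abelianization E) → ZMod 2) : ℤ) -
        (Nat.card (Additive (Abelianization E)) : ℤ)) := by ring
  rw [e, mul_pow, this]; ring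

/-- an extraspecial 2-group is not of order 2. -/
theorem card_ne_two [Finite E] (hE : Cfsg.IsExtraspecial 2 E) : Nat.card E ≠ 2 := by
  intro h
  have h1 : Subgroup.center E = ⊤ := Subgroup.eq_top_of_card_eq _ (hE.2.trans h.symm)
  have h2 : commutator E = ⊥ := by
    rw [commutator_def, Subgroup.commutator_top_right_eq_bot_iff_le_center, h1]
  have h3 : Subgroup.center E = ⊥ := hE.1.2.2 ▸ h2
  have h4 := hE.2
  rw [h3] at h4
  simp at h4

end iso

end Cfsg.Agent.Lib.Helper3_Extra2
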