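import Mathlib
import Cfsg.Prelude.Def_Transfer
import Cfsg.Prelude.Def_CaseTheorems
import Cfsg.Agent.Lib.Helper3_Extra2
import Cfsg.Agent.Lib.Helper3_QuadF2b

/-!
The 2-rank of an extraspecial 2-group in terms of its sign.
-/

namespace Cfsg.Agent.Lib.Helper3_Extra2b

open Cfsg.Agent.Lib.Helper3_QuadF2 Cfsg.Agent.Lib.Helper3_QuadF2b Cfsg.Agent.Lib.Helper3_Extra2

universe u

section sub

variable {E : Type u} [Group E] (dat : Data E) (hco : commutator E = Subgroup.center E)

/-- the image of a subgroup in `V`. -/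
def img (A : Subgroup E) : AddSubgroup (Additive (Abelianization E)) where
  carrier := {v | ∃ a ∈ A, proj a = v}
  zero_mem' := ⟨1, A.one_mem, proj_one⟩
  add_mem' := by
    rintro _ _ ⟨a, ha, rfl⟩ ⟨b, hb, rfl⟩
    exact ⟨a * b, A.mul_mem ha hb, proj_mul a b⟩
  neg_mem' := by
    rintro _ ⟨a, ha, rfl⟩
    exact ⟨a⁻¹, A.inv_mem ha, proj_inv a⟩

include dat hco in
theorem isTS_img (A : Subgroup E) (hA : ∀ a ∈ A, a ^ 2 = 1) : IsTS qf (img A) := by
  rintro _ ⟨a, ha, rfl⟩
  rw [qf_proj dat hco, iota_eq_zero, ← pow_two]; exact hA a ha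

include hco in
theorem card_le_img [Finite E] (A : Subgroup E) (h2 : Nat.card (Subgroup.center E) = 2) :
    Nat.card A ≤ Nat.card (img A) * 2 := by
  have hinj : Function.Injective (fun a : A =>
      ((⟨proj (a : E), ⟨a, a.2, rfl⟩⟩ : img A), (splitEquiv hco (a : E)).2)) := by
    intro a b hab
    simp only [Prod.mk.injEq] at hab
    obtain ⟨hab1, hab2⟩ := hab
    have h1 : Helper3_Extra2.proj (a : E) = Helper3_Extra2.proj (b : E) :=
      Subtype.ext_iff.mp hab1
    have h3 : (splitEquiv hco (a : E)).2 = (splitEquiv hco (b : E)).2 := hab2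
    apply Subtype.ext
    apply (splitEquiv hco).injective
    exact Prod.ext h1 h3
  have := Nat.card_le_card_of_injective _ hinj
  rwa [Nat.card_prod, h2] at this

/-- the preimage of a subgroup of `V`. -/
def pre (U : AddSubgroup (Additive (Abelianization E))) : Subgroup E where
  carrier := {x | proj x ∈ U}
  one_mem' := by show proj 1 ∈ U; rw [proj_one]; exact U.zero_mem
  mul_mem' := by
    intro a b ha hb
    show proj (a * b) ∈ U
    rw [proj_mul]; exact U.add_mem ha hb
  inv_mem' := by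
    intro a ha
    show proj a⁻¹ ∈ U
    rw [proj_inv]; exact U.neg_mem ha

include dat hco in
theorem pre_sq (U : AddSubgroup (Additive (Abelianization E))) (hU : IsTS qf U) :
    ∀ a ∈ pre U, a ^ 2 = 1 := by
  intro a ha
  have := hU _ ha
  rw [qf_proj dat hco, iota_eq_zero] at this
  rw [pow_two]; exact this

include dat hco in
theorem pre_comm (U : AddSubgroup (Additive (Abelianization E))) (hU : IsTS qf U) :
    IsMulCommutative (pre U) := by
  refine ⟨⟨?_⟩⟩
  rintro ⟨a, ha⟩ ⟨b, hb⟩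
  apply Subtype.ext
  show a * b = b * a
  have := hU.pol_eq_zero ha hb
  rw [pol_qf dat hco, iota_eq_zero] at this
  calc a * b = (a * b * a⁻¹ * b⁻¹) * (b * a) := by group
    _ = b * a := by rw [this, one_mul]

include hco in
theorem card_pre [Finite E] (U : AddSubgroup (Additive (Abelianization E)))
    (h2 : Nat.card (Subgroup.center E) = 2) : Nat.card (pre U) = Nat.card U * 2 := by
  have e : pre U ≃ {p : Additive (Abelianization E) × Subgroup.center E // p.1 ∈ U} :=
    (splitEquiv hco).subtypeEquiv (fun x => Iff.rfl)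
  have e2 : {p : Additive (Abelianization E) × Subgroup.center E // p.1 ∈ U} ≃
      {v : Additive (Abelianization E) // v ∈ U} × Subgroup.center E :=
    Equiv.prodSubtypeFstEquivSubtypeProd (p := fun v : Additive (Abelianization E) => v ∈ U)
  rw [Nat.card_congr e, Nat.card_congr e2, Nat.card_prod, h2]

end sub

section rank

variable (E : Type u) [Group E]

/-- twice the sign of the quadratic form. -/
noncomputable def sgn : ℤ := 2 * (Nat.card {x : E // x ^ 2 = 1} : ℤ) - (Nat.card E : ℤ)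

variable {E}

theorem sgn_eq [Finite E] (hE : Cfsg.IsExtraspecial 2 E) (dat : Data E) :
    sgn E = 2 * (2 * (N₀ (qf : Additive (Abelianization E) → ZMod 2) : ℤ) -
      (Nat.card (Additive (Abelianization E)) : ℤ)) := by
  unfold sgn
  rw [card_eq hE.1.2.2 hE.2, card_sq_eq_one dat hE.1.2.2 hE.2]
  push_cast; ring

theorem sgn_sq [Finite E] (hE : Cfsg.IsExtraspecial 2 E) : sgn E ^ 2 = 2 * (Nat.card E : ℤ) :=
  sq_count hE

theorem card_V [Finite E] (hE : Cfsg.IsExtraspecial 2 E) (n : ℕ)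
    (hn : Nat.card E = 2 ^ (2 * n + 1)) : Nat.card (Additive (Abelianization E)) = 2 ^ (2 * n) := by
  have := card_eq hE.1.2.2 hE.2
  rw [hn, pow_succ] at this
  omega

theorem rank_pos [Finite E] (hE : Cfsg.IsExtraspecial 2 E) (n : ℕ)
    (hn : Nat.card E = 2 ^ (2 * n + 1)) (ht : 0 < sgn E) :
    Cfsg.PRankLE 2 (n + 1) E ∧ ¬ Cfsg.PRankLE 2 n E := by
  obtain ⟨dat⟩ := exists_data hE
  have hco := hE.1.2.2
  have hV := card_V hE n hn
  have hq := isQF_qf dat hco
  rw [sgn_eq hE dat] at ht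
  have ht' : 0 < 2 * (N₀ (qf : Additive (Abelianization E) → ZMod 2) : ℤ) -
      (Nat.card (Additive (Abelianization E)) : ℤ) := by linarith
  constructor
  · intro A _ hAe
    have h1 := card_le_img hco A hE.2
    have h2 := (ts_bound _ qf hq le_rfl (img A) (isTS_img dat hco A hAe)).1
    rw [hV, pow_mul'] at h2
    have h3 : Nat.card (img A) ≤ 2 ^ n := (Nat.pow_le_pow_iff_left (by norm_num)).mp h2
    rw [pow_succ]; omega
  · intro hr
    obtain ⟨U, hU, hcard⟩ := (ts_exists _ qf hq le_rfl).1 ht'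
    rw [hV, pow_mul'] at hcard
    have h3 : Nat.card U = 2 ^ n := Nat.pow_left_injective (by norm_num : 2 ≠ 0) hcard
    have h4 := hr (pre U) (pre_comm dat hco U hU) (pre_sq dat hco U hU)
    rw [card_pre hco U hE.2, h3] at h4
    have : 0 < 2 ^ n := Nat.two_pow_pos n
    omega

theorem rank_neg [Finite E] (hE : Cfsg.IsExtraspecial 2 E) (n : ℕ)
    (hn : Nat.card E = 2 ^ (2 * n + 1)) (ht : sgn E < 0) :
    Cfsg.PRankLE 2 n E ∧ ¬ Cfsg.PRankLE 2 (n - 1) E := by
  obtain ⟨dat⟩ := exists_data hE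
  have hco := hE.1.2.2
  have hV := card_V hE n hn
  have hq := isQF_qf dat hco
  have hn1 : 1 ≤ n := by
    by_contra h0
    have : n = 0 := by omega
    subst this
    exact card_ne_two hE (by rw [hn]; norm_num)
  rw [sgn_eq hE dat] at ht
  have ht' : 2 * (N₀ (qf : Additive (Abelianization E) → ZMod 2) : ℤ) -
      (Nat.card (Additive (Abelianization E)) : ℤ) < 0 := by linarith
  have hnn : n = (n - 1) + 1 := by omega
  constructor
  · intro A _ hAe
    have h1 := card_le_img hco A hE.2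
    obtain ⟨b1, b2⟩ := ts_bound _ qf hq le_rfl (img A) (isTS_img dat hco A hAe)
    have hne : Nat.card (img A) ^ 2 ≠ Nat.card (Additive (Abelianization E)) := by
      intro heq
      have := b2 heq
      linarith
    have hdvd : Nat.card (img A) ∣ 2 ^ (2 * n) := by
      rw [← hV]; exact AddSubgroup.card_addSubgroup_dvd_card _
    obtain ⟨j, -, hj⟩ := (Nat.dvd_prime_pow Nat.prime_two).mp hdvd
    rw [hV, hj, ← pow_mul] at b1 hne
    have hlt : 2 ^ (j * 2) < 2 ^ (2 * n) := lt_of_le_of_ne b1 hne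
    have hj2 : j * 2 < 2 * n := (Nat.pow_lt_pow_iff_right (by norm_num)).mp hlt
    have hjn : j ≤ n - 1 := by omega
    have h5 : (2 : ℕ) ^ j ≤ 2 ^ (n - 1) := Nat.pow_le_pow_right (by norm_num) hjn
    rw [hj] at h1
    have h6 : (2 : ℕ) ^ n = 2 ^ (n - 1) * 2 := by
      conv_lhs => rw [hnn]
      rw [pow_succ]
    omega
  · intro hr
    obtain ⟨U, hU, hcard⟩ := (ts_exists _ qf hq le_rfl).2 ht'
    rw [hV] at hcard
    have e : (2 : ℕ) ^ (2 * n) = 4 * (2 ^ (n - 1)) ^ 2 := by
      conv_lhs => rw [hnn]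
      rw [← pow_mul]
      have : 2 * (n - 1 + 1) = (n - 1) * 2 + 2 := by ring
      rw [this, pow_add]; ring
    rw [e] at hcard
    have h2 : Nat.card U ^ 2 = (2 ^ (n - 1)) ^ 2 := by omega
    have h3 : Nat.card U = 2 ^ (n - 1) := Nat.pow_left_injective (by norm_num : 2 ≠ 0) h2
    have h4 := hr (pre U) (pre_comm dat hco U hU) (pre_sq dat hco U hU)
    rw [card_pre hco U hE.2, h3] at h4
    have : 0 < 2 ^ (n - 1) := Nat.two_pow_pos (n - 1)
    omega

end rank

end Cfsg.Agent.Lib.Helper3_Extra2b
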