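import Mathlib

/-!
Nondegenerate alternating biadditive forms with values in `ZMod p` on finite
`ZMod p`-modules: hyperbolic splitting and the isometry theorem.
-/

namespace Cfsg.Agent.Lib.Helper3_SympFp

universe u v

variable {p : ℕ} [Fact p.Prime]

/-- `β` is a nondegenerate alternating biadditive form. -/
structure IsSymp {V : Type*} [AddCommGroup V] (β : V → V → ZMod p) : Prop where
  add_left : ∀ u v w, β (u + v) w = β u w + β v w
  add_right : ∀ u v w, β u (v + w) = β u v + β u w
  alt : ∀ v, β v v = 0
  nondeg : ∀ v, v ≠ 0 → ∃ w, β v w ≠ 0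

section basic

variable {V : Type*} [AddCommGroup V] {β : V → V → ZMod p}

theorem IsSymp.zero_left (h : IsSymp β) (w : V) : β 0 w = 0 := by
  have := h.add_left 0 0 w
  rw [add_zero] at this
  simpa using this

theorem IsSymp.zero_right (h : IsSymp β) (w : V) : β w 0 = 0 := by
  have := h.add_right w 0 0
  rw [add_zero] at this
  simpa using this

theorem IsSymp.skew (h : IsSymp β) (u w : V) : β u w = - β w u := by
  have := h.alt (u + w)
  rw [h.add_left, h.add_right, h.add_right, h.alt, h.alt, zero_add, add_zero] at this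
  exact eq_neg_of_add_eq_zero_left this

theorem IsSymp.neg_left (h : IsSymp β) (u w : V) : β (-u) w = - β u w := by
  have := h.add_left (-u) u w
  rw [neg_add_cancel, h.zero_left] at this
  exact eq_neg_of_add_eq_zero_left this.symm

theorem IsSymp.neg_right (h : IsSymp β) (u w : V) : β u (-w) = - β u w := by
  rw [h.skew, h.neg_left, ← h.skew]

theorem IsSymp.sub_left (h : IsSymp β) (u v w : V) : β (u - v) w = β u w - β v w := by
  rw [sub_eq_add_neg, h.add_left, h.neg_left, sub_eq_add_neg]

theorem IsSymp.sub_right (h : IsSymp β) (u v w : V) : β u (v - w) = β u v - β u w := by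
  rw [sub_eq_add_neg, h.add_right, h.neg_right, sub_eq_add_neg]

variable [Module (ZMod p) V]

theorem IsSymp.smul_left (h : IsSymp β) (a : ZMod p) (u w : V) : β (a • u) w = a * β u w := by
  obtain ⟨n, rfl⟩ : ∃ n : ℕ, (n : ZMod p) = a := ⟨a.val, ZMod.natCast_zmod_val a⟩
  rw [Nat.cast_smul_eq_nsmul]
  induction n with
  | zero => simp [h.zero_left]
  | succ n ih => rw [succ_nsmul, h.add_left, ih]; push_cast; ring

theorem IsSymp.smul_right (h : IsSymp β) (a : ZMod p) (u w : V) : β u (a • w) = a * β u w := by
  rw [h.skew, h.smul_left, h.skew w u]; ring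

/-- the orthogonal complement of the pair `u, v`. -/
def perp (h : IsSymp β) (u v : V) : Submodule (ZMod p) V where
  carrier := {w | β u w = 0 ∧ β v w = 0}
  zero_mem' := ⟨h.zero_right u, h.zero_right v⟩
  add_mem' := by
    rintro a b ⟨ha1, ha2⟩ ⟨hb1, hb2⟩
    exact ⟨by rw [h.add_right, ha1, hb1, add_zero], by rw [h.add_right, ha2, hb2, add_zero]⟩
  smul_mem' := by
    rintro a w ⟨h1, h2⟩
    exact ⟨by rw [h.smul_right, h1, mul_zero], by rw [h.smul_right, h2, mul_zero]⟩

theorem mem_perp (h : IsSymp β) (u v w : V) : w ∈ perp h u v ↔ β u w = 0 ∧ β v w = 0 :=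
  Iff.rfl

/-- restriction of `β` to a submodule. -/
def βr (β : V → V → ZMod p) (W : Submodule (ZMod p) V) : W → W → ZMod p := fun a b => β a b

/-- the projection to `perp u v`. -/
def pr (β : V → V → ZMod p) (u v : V) (x : V) : V := x - (β x v) • u - (β u x) • v

theorem pr_mem (h : IsSymp β) {u v : V} (huv : β u v = 1) (x : V) :
    pr β u v x ∈ perp h u v := by
  rw [mem_perp]
  unfold pr
  have hvu : β v u = -1 := by rw [h.skew, huv]
  constructor
  · rw [h.sub_right, h.sub_right, h.smul_right, h.smul_right, h.alt, huv]; ring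
  · rw [h.sub_right, h.sub_right, h.smul_right, h.smul_right, h.alt, hvu, h.skew v x]; ring

theorem pr_add (u v x y : V) (h : IsSymp β) :
    pr β u v (x + y) = pr β u v x + pr β u v y := by
  unfold pr
  rw [h.add_left, h.add_right, add_smul, add_smul]
  abel

theorem isSymp_perp (h : IsSymp β) {u v : V} (huv : β u v = 1) :
    IsSymp (βr β (perp h u v)) where
  add_left a b c := h.add_left _ _ _
  add_right a b c := h.add_right _ _ _
  alt a := h.alt _
  nondeg := by
    intro w hw
    have hw' : (w : V) ≠ 0 := fun h0 => hw (Subtype.ext h0)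
    obtain ⟨y, hy⟩ := h.nondeg _ hw'
    refine ⟨⟨pr β u v y, pr_mem h huv y⟩, ?_⟩
    show β (w : V) (pr β u v y) ≠ 0
    unfold pr
    have h1 : β (w : V) u = 0 := by rw [h.skew, w.2.1, neg_zero]
    have h2 : β (w : V) v = 0 := by rw [h.skew, w.2.2, neg_zero]
    rw [h.sub_right, h.sub_right, h.smul_right, h.smul_right, h1, h2]
    simpa using hy

/-- the splitting of `V` along a hyperbolic pair. -/
noncomputable def decomp (h : IsSymp β) {u v : V} (huv : β u v = 1) :
    V ≃+ (ZMod p × ZMod p) × (perp h u v) where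
  toFun x := ((β x v, β u x), ⟨pr β u v x, pr_mem h huv x⟩)
  invFun q := q.1.1 • u + q.1.2 • v + (q.2 : V)
  left_inv x := by
    show (β x v) • u + (β u x) • v + pr β u v x = x
    unfold pr
    abel
  right_inv q := by
    obtain ⟨⟨a, b⟩, w⟩ := q
    have hvu : β v u = -1 := by rw [h.skew, huv]
    have hw1 : β (w : V) u = 0 := by rw [h.skew, w.2.1, neg_zero]
    have hw2 : β (w : V) v = 0 := by rw [h.skew, w.2.2, neg_zero]
    have e1 : β (a • u + b • v + (w : V)) v = a := by
      rw [h.add_left, h.add_left, h.smul_left, h.smul_left, huv, h.alt, hw2]; ring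
    have e2 : β u (a • u + b • v + (w : V)) = b := by
      rw [h.add_right, h.add_right, h.smul_right, h.smul_right, huv, h.alt, w.2.1]; ring
    have e3 : pr β u v (a • u + b • v + (w : V)) = w := by
      unfold pr
      rw [e1, e2]
      abel
    apply Prod.ext
    · exact Prod.ext e1 e2
    · exact Subtype.ext e3
  map_add' x y := by
    apply Prod.ext
    · exact Prod.ext (h.add_left x y v) (h.add_right u x y)
    · exact Subtype.ext (pr_add u v x y h)

theorem decomp_fst_fst (h : IsSymp β) {u v : V} (huv : β u v = 1) (x : V) :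
    (decomp h huv x).1.1 = β x v := rfl

theorem decomp_fst_snd (h : IsSymp β) {u v : V} (huv : β u v = 1) (x : V) :
    (decomp h huv x).1.2 = β u x := rfl

theorem decomp_snd (h : IsSymp β) {u v : V} (huv : β u v = 1) (x : V) :
    ((decomp h huv x).2 : V) = pr β u v x := rfl

theorem form_decomp (h : IsSymp β) {u v : V} (huv : β u v = 1) (x y : V) :
    β x y = β x v * β u y - β u x * β y v + β (pr β u v x) (pr β u v y) := by
  have hvu : β v u = -1 := by rw [h.skew, huv]
  have hx : x = (β x v) • u + (β u x) • v + pr β u v x := by unfold pr; abel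
  have hy : y = (β y v) • u + (β u y) • v + pr β u v y := by unfold pr; abel
  have px := pr_mem h huv x
  have py := pr_mem h huv y
  rw [mem_perp] at px py
  have px1 : β (pr β u v x) u = 0 := by rw [h.skew, px.1, neg_zero]
  have px2 : β (pr β u v x) v = 0 := by rw [h.skew, px.2, neg_zero]
  set a := β x v
  set b := β u x
  set a' := β y v
  set b' := β u y
  set w := pr β u v x
  set w' := pr β u v y
  calc β x y = β (a • u + b • v + w) (a' • u + b' • v + w') := by rw [← hx, ← hy]
    _ = a * b' - b * a' + β w w' := by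
      rw [h.add_left, h.add_left, h.add_right, h.add_right, h.add_right, h.add_right,
        h.add_right, h.add_right, h.smul_left, h.smul_left, h.smul_left, h.smul_left,
        h.smul_left, h.smul_left, h.smul_right, h.smul_right, h.smul_right, h.smul_right,
        h.smul_right, h.smul_right, h.alt, h.alt, huv, hvu, px1, px2, py.1, py.2]
      ring

theorem card_decomp [Finite V] (h : IsSymp β) {u v : V} (huv : β u v = 1) :
    Nat.card V = p * p * Nat.card (perp h u v) := by
  rw [Nat.card_congr (decomp h huv).toEquiv, Nat.card_prod, Nat.card_prod,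
    Nat.card_eq_fintype_card, ZMod.card]

theorem exists_hyperbolic [Nontrivial V] (h : IsSymp β) : ∃ u v : V, β u v = 1 := by
  obtain ⟨u, hu⟩ := exists_ne (0 : V)
  obtain ⟨w, hw⟩ := h.nondeg u hu
  refine ⟨u, (β u w)⁻¹ • w, ?_⟩
  rw [h.smul_right, inv_mul_cancel₀ hw]

end basic

/-- gluing an isometry of the complements of hyperbolic pairs. -/
theorem isometry_of_perp {V : Type u} {V' : Type v} [AddCommGroup V] [AddCommGroup V']
    [Module (ZMod p) V] [Module (ZMod p) V'] {β : V → V → ZMod p} {β' : V' → V' → ZMod p}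
    (h : IsSymp β) (h' : IsSymp β') {u v : V} {u' v' : V'} (huv : β u v = 1)
    (huv' : β' u' v' = 1) (ψ : perp h u v ≃+ perp h' u' v')
    (hψ : ∀ a b, βr β' (perp h' u' v') (ψ a) (ψ b) = βr β (perp h u v) a b) :
    ∃ φ : V ≃+ V', ∀ x y, β' (φ x) (φ y) = β x y := by
  let φ : V ≃+ V' :=
    ((decomp h huv).trans ((AddEquiv.refl (ZMod p × ZMod p)).prodCongr ψ)).trans
      (decomp h' huv').symm
  have hφ : ∀ x, decomp h' huv' (φ x) = ((β x v, β u x), ψ ⟨pr β u v x, pr_mem h huv x⟩) := by
    intro x
    show decomp h' huv' ((decomp h' huv').symm _) = _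
    rw [AddEquiv.apply_symm_apply]
    rfl
  refine ⟨φ, fun x y => ?_⟩
  have e1 : ∀ x, β' (φ x) v' = β x v := fun x => by
    rw [← decomp_fst_fst h' huv', hφ]
  have e2 : ∀ x, β' u' (φ x) = β u x := fun x => by
    rw [← decomp_fst_snd h' huv', hφ]
  have e3 : ∀ x, pr β' u' v' (φ x) = ψ ⟨pr β u v x, pr_mem h huv x⟩ := fun x => by
    rw [← decomp_snd h' huv', hφ]
  rw [form_decomp h' huv' (φ x) (φ y), form_decomp h huv x y, e1, e1, e2, e2, e3, e3]
  congr 1
  exact hψ _ _

/-- two nondegenerate alternating spaces of the same order are isometric. -/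
theorem exists_isometry : ∀ (n : ℕ) {V : Type u} {V' : Type v} [AddCommGroup V] [Finite V]
    [AddCommGroup V'] [Finite V'] [Module (ZMod p) V] [Module (ZMod p) V']
    (β : V → V → ZMod p) (β' : V' → V' → ZMod p),
    IsSymp β → IsSymp β' → Nat.card V ≤ n → Nat.card V = Nat.card V' →
    ∃ φ : V ≃+ V', ∀ x y, β' (φ x) (φ y) = β x y := by
  intro n
  induction n with
  | zero =>
    intro V V' _ _ _ _ _ _ β β' _ _ hn
    have : 0 < Nat.card V := Nat.card_pos
    omega
  | succ n ih =>
    intro V V' _ _ _ _ _ _ β β' h h' hn hc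
    by_cases hs : Nat.card V = 1
    · have hs' : Nat.card V' = 1 := hc ▸ hs
      rw [Nat.card_eq_one_iff_unique] at hs hs'
      haveI := hs.1
      haveI := hs'.1
      refine ⟨⟨⟨fun _ => 0, fun _ => 0, fun x => Subsingleton.elim _ _,
        fun x => Subsingleton.elim _ _⟩, fun x y => Subsingleton.elim _ _⟩, fun x y => ?_⟩
      show β' 0 0 = β x y
      rw [Subsingleton.elim x 0, h.zero_left, h'.zero_left]
    · have hV : Nontrivial V := by
        by_contra hnt
        rw [not_nontrivial_iff_subsingleton] at hnt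
        exact hs (Nat.card_of_subsingleton (0 : V))
      have hV' : Nontrivial V' := by
        by_contra hnt
        rw [not_nontrivial_iff_subsingleton] at hnt
        exact hs (hc.trans (Nat.card_of_subsingleton (0 : V')))
      obtain ⟨u, v, huv⟩ := exists_hyperbolic h
      obtain ⟨u', v', huv'⟩ := exists_hyperbolic h'
      have c1 := card_decomp h huv
      have c2 := card_decomp h' huv'
      have hpos : 0 < Nat.card (perp h u v) := Nat.card_pos
      have hp2 : 2 ≤ p := (Fact.out : p.Prime).two_le
      have hpp : 4 ≤ p * p := by nlinarith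
      have hlt : Nat.card (perp h u v) ≤ n := by
        by_contra hcon
        push Not at hcon
        have : 4 * Nat.card (perp h u v) ≤ p * p * Nat.card (perp h u v) :=
          Nat.mul_le_mul_right _ hpp
        omega
      have hce : Nat.card (perp h u v) = Nat.card (perp h' u' v') := by
        have h0 : 0 < p * p := by omega
        have : p * p * Nat.card (perp h u v) = p * p * Nat.card (perp h' u' v') := by
          rw [← c1, ← c2, hc]
        exact Nat.eq_of_mul_eq_mul_left h0 this
      obtain ⟨ψ, hψ⟩ := ih (βr β (perp h u v)) (βr β' (perp h' u' v')) (isSymp_perp h huv)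
        (isSymp_perp h' huv') hlt hce
      exact isometry_of_perp h h' huv huv' ψ hψ

end Cfsg.Agent.Lib.Helper3_SympFp
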