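import Mathlib
import Cfsg.Prelude.Def_Transfer
import Cfsg.Agent.Lib.Helper3_Extra2
import Cfsg.Agent.Lib.Helper3_SympFp

/-!
Extraspecial `p`-groups of exponent `p`: the commutator form on `E / Z(E)` and the
isomorphism theorem (same order implies isomorphic).
-/

namespace Cfsg.Agent.Lib.Helper3_ExtraOdd

open Cfsg.Agent.Lib.Helper3_Extra2 Cfsg.Agent.Lib.Helper3_SympFp

universe u v

/-- a complement lemma in a group whose quotient by `Δ` is elementary abelian. -/
theorem exists_compl_p {G : Type*} [Group G] [Finite G] (p : ℕ) [Fact p.Prime]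
    (D Δ : Subgroup G) (hΔD : Δ ≤ D)
    (hpow : ∀ d ∈ D, d ^ p ∈ Δ) (hcomm : ∀ a ∈ D, ∀ b ∈ D, a * b * a⁻¹ * b⁻¹ ∈ Δ)
    (c : G) (hcD : c ∈ D) (hc : c ∉ Δ) (hcen : ∀ g : G, Commute c g) :
    ∃ C : Subgroup G, Δ ≤ C ∧ C ≤ D ∧ c ∉ C ∧ ∀ d ∈ D, ∃ j : ℤ, d * c ^ j ∈ C := by
  obtain ⟨C, hΔC, hmax⟩ := Finite.exists_le_maximal
    (p := fun C : Subgroup G => Δ ≤ C ∧ C ≤ D ∧ c ∉ C) (a := Δ) ⟨le_rfl, hΔD, hc⟩
  obtain ⟨⟨h1, h2, h3⟩, hmax⟩ := hmax
  refine ⟨C, h1, h2, h3, ?_⟩
  intro d hd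
  by_cases hdC : d ∈ C
  · exact ⟨0, by simpa using hdC⟩
  have hn : ∀ y ∈ C, ∀ g ∈ D, g * y * g⁻¹ ∈ C := by
    intro y hy g hg
    have := h1 (hcomm g hg y (h2 hy))
    have e : g * y * g⁻¹ = (g * y * g⁻¹ * y⁻¹) * y := by group
    rw [e]; exact C.mul_mem this hy
  let C' : Subgroup G :=
    { carrier := {y | y ∈ D ∧ ∃ i : ℤ, y * d ^ i ∈ C}
      one_mem' := ⟨D.one_mem, 0, by simpa using C.one_mem⟩
      mul_mem' := by
        rintro y₁ y₂ ⟨hy₁D, i, hy₁⟩ ⟨hy₂D, j, hy₂⟩
        refine ⟨D.mul_mem hy₁D hy₂D, i + j, ?_⟩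
        have e : y₁ * y₂ * d ^ (i + j) =
            (y₁ * d ^ i) * (d ^ (-i) * (y₂ * d ^ j) * (d ^ (-i))⁻¹) := by
          rw [zpow_add, zpow_neg]; group
        rw [e]
        exact C.mul_mem hy₁ (hn _ hy₂ _ (D.zpow_mem hd _))
      inv_mem' := by
        rintro y ⟨hyD, i, hy⟩
        refine ⟨D.inv_mem hyD, -i, ?_⟩
        have e : y⁻¹ * d ^ (-i) = d ^ i * (y * d ^ i)⁻¹ * (d ^ i)⁻¹ := by
          rw [zpow_neg]; group
        rw [e]
        exact hn _ (C.inv_mem hy) _ (D.zpow_mem hd _) }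
  have hCC' : C ≤ C' := fun y hy => ⟨h2 hy, 0, by simpa using hy⟩
  have hdC' : d ∈ C' := ⟨hd, -1, by simpa using C.one_mem⟩
  have hcC' : c ∈ C' := by
    by_contra hcn
    have hp : Δ ≤ C' ∧ C' ≤ D ∧ c ∉ C' := ⟨h1.trans hCC', fun y hy => hy.1, hcn⟩
    exact hdC (hmax hp hCC' hdC')
  obtain ⟨-, i, hi⟩ := hcC'
  have hpi : ¬ (p : ℤ) ∣ i := by
    rintro ⟨m, rfl⟩
    apply h3
    have hm : d ^ ((p : ℤ) * m) ∈ C := by
      rw [zpow_mul, zpow_natCast]
      exact C.zpow_mem (h1 (hpow d hd)) m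
    have e : c = c * d ^ ((p : ℤ) * m) * (d ^ ((p : ℤ) * m))⁻¹ := by group
    rw [e]
    exact C.mul_mem hi (C.inv_mem hm)
  have hcop : IsCoprime (p : ℤ) i := by
    rw [Int.isCoprime_iff_gcd_eq_one]
    have : ¬ p ∣ i.natAbs := fun h => hpi (Int.natCast_dvd.mpr h)
    exact (Nat.Prime.coprime_iff_not_dvd (Fact.out : p.Prime)).mpr this
  obtain ⟨a, b, hab⟩ := hcop
  refine ⟨b, ?_⟩
  have h4 : (c * d ^ i) ^ b ∈ C := C.zpow_mem hi b
  rw [(hcen (d ^ i)).mul_zpow, ← zpow_mul] at h4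
  have h5 : d ^ (a * (p : ℤ)) ∈ C := by
    rw [mul_comm, zpow_mul, zpow_natCast]
    exact C.zpow_mem (h1 (hpow d hd)) a
  have h6 : c ^ b * d ^ (i * b) * d ^ (a * (p : ℤ)) ∈ C := C.mul_mem h4 h5
  rw [mul_assoc, ← zpow_add, mul_comm i b, add_comm, hab, zpow_one] at h6
  rw [← ((hcen d).zpow_left b).eq]
  exact h6

section form

variable {E : Type u} [Group E] {p : ℕ} [Fact p.Prime]

/-- basic data of an extraspecial `p`-group of exponent `p`. -/
structure DataP (p : ℕ) (E : Type u) [Group E] where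
  ι : Subgroup.center E ≃* Multiplicative (ZMod p)
  card : Nat.card (Subgroup.center E) = p
  comm : ∀ x y : E, x * y * x⁻¹ * y⁻¹ ∈ Subgroup.center E
  hco : commutator E = Subgroup.center E
  pow : ∀ x : E, x ^ p = 1

theorem exists_dataP [Finite E] (hE : Cfsg.IsExtraspecial p E) (he : Monoid.exponent E = p) :
    Nonempty (DataP p E) := by
  obtain ⟨⟨hp, hfr, hco⟩, hcard⟩ := hE
  have hcomm : ∀ x y : E, x * y * x⁻¹ * y⁻¹ ∈ Subgroup.center E := by
    intro x y
    rw [← hco, commutator_def, ← commutatorElement_def]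
    exact Subgroup.commutator_mem_commutator (Subgroup.mem_top x) (Subgroup.mem_top y)
  have hc2 : Nat.card (Multiplicative (ZMod p)) = p := by
    rw [Nat.card_eq_fintype_card, Fintype.card_multiplicative, ZMod.card]
  exact ⟨⟨mulEquivOfPrimeCardEq hcard hc2, hcard, hcomm, hco,
    fun x => he ▸ Monoid.pow_exponent_eq_one x⟩⟩

theorem comm_eq_of_proj_eq (hco : commutator E = Subgroup.center E) {x x' y y' : E}
    (hx : proj x = proj x') (hy : proj y = proj y') :
    x * y * x⁻¹ * y⁻¹ = x' * y' * x'⁻¹ * y'⁻¹ := by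
  have hc := (proj_eq_iff hco x x').mp hx
  have hc' := (proj_eq_iff hco y y').mp hy
  set c := x⁻¹ * x' with hcdef
  set c' := y⁻¹ * y' with hc'def
  have hx' : x' = x * c := by rw [hcdef]; group
  have hy' : y' = y * c' := by rw [hc'def]; group
  have hcg : ∀ g : E, c * g * c⁻¹ = g := fun g => by
    rw [← (Subgroup.mem_center_iff.mp hc g)]; group
  have hcg' : ∀ g : E, c' * g * c'⁻¹ = g := fun g => by
    rw [← (Subgroup.mem_center_iff.mp hc' g)]; group
  rw [hx', hy']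
  symm
  calc x * c * (y * c') * (x * c)⁻¹ * (y * c')⁻¹
      = x * (c * (y * c') * c⁻¹) * x⁻¹ * c'⁻¹ * y⁻¹ := by group
    _ = x * (y * c') * x⁻¹ * c'⁻¹ * y⁻¹ := by rw [hcg]
    _ = x * y * (c' * x⁻¹ * c'⁻¹) * y⁻¹ := by group
    _ = x * y * x⁻¹ * y⁻¹ := by rw [hcg']

variable (dat : DataP p E)

/-- the commutator form on `E / Z(E)`. -/
noncomputable def bet (u w : Additive (Abelianization E)) : ZMod p :=
  Multiplicative.toAdd (dat.ι ⟨sec u * sec w * (sec u)⁻¹ * (sec w)⁻¹, dat.comm _ _⟩)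

theorem bet_proj (x y : E) :
    bet dat (proj x) (proj y) = Multiplicative.toAdd (dat.ι ⟨x * y * x⁻¹ * y⁻¹, dat.comm x y⟩) := by
  unfold bet
  have e : (⟨sec (proj x) * sec (proj y) * (sec (proj x))⁻¹ * (sec (proj y))⁻¹, dat.comm _ _⟩ :
      Subgroup.center E) = ⟨x * y * x⁻¹ * y⁻¹, dat.comm x y⟩ :=
    Subtype.ext (comm_eq_of_proj_eq dat.hco (proj_sec _) (proj_sec _))
  rw [e]

theorem iota_comm (x y : E) :
    dat.ι ⟨x * y * x⁻¹ * y⁻¹, dat.comm x y⟩ = Multiplicative.ofAdd (bet dat (proj x) (proj y)) := by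
  rw [bet_proj]; rfl

theorem isSymp_bet : IsSymp (bet dat) where
  add_left v v' w := by
    obtain ⟨x, rfl⟩ := proj_surjective v
    obtain ⟨x', rfl⟩ := proj_surjective v'
    obtain ⟨y, rfl⟩ := proj_surjective w
    rw [← proj_mul, bet_proj, bet_proj, bet_proj, ← toAdd_mul, ← map_mul]
    congr 2
    apply Subtype.ext
    show x * x' * y * (x * x')⁻¹ * y⁻¹ = (x * y * x⁻¹ * y⁻¹) * (x' * y * x'⁻¹ * y⁻¹)
    have hc' := dat.comm x' y
    set c' := x' * y * x'⁻¹ * y⁻¹ with hc'def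
    have hcx : ∀ g : E, g * c' = c' * g := fun g => (Subgroup.mem_center_iff.mp hc' g)
    calc x * x' * y * (x * x')⁻¹ * y⁻¹ = (x * c') * (y * x⁻¹ * y⁻¹) := by rw [hc'def]; group
      _ = (c' * x) * (y * x⁻¹ * y⁻¹) := by rw [hcx x]
      _ = c' * (x * y * x⁻¹ * y⁻¹) := by group
      _ = (x * y * x⁻¹ * y⁻¹) * c' := (hcx _).symm
  add_right v w w' := by
    obtain ⟨x, rfl⟩ := proj_surjective v
    obtain ⟨y, rfl⟩ := proj_surjective w
    obtain ⟨y', rfl⟩ := proj_surjective w'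
    rw [← proj_mul, bet_proj, bet_proj, bet_proj, ← toAdd_mul, ← map_mul]
    congr 2
    apply Subtype.ext
    show x * (y * y') * x⁻¹ * (y * y')⁻¹ = (x * y * x⁻¹ * y⁻¹) * (x * y' * x⁻¹ * y'⁻¹)
    have hc' := dat.comm x y'
    set c' := x * y' * x⁻¹ * y'⁻¹ with hc'def
    have hcx : ∀ g : E, g * c' = c' * g := fun g => (Subgroup.mem_center_iff.mp hc' g)
    calc x * (y * y') * x⁻¹ * (y * y')⁻¹ = (x * y * x⁻¹) * c' * y⁻¹ := by rw [hc'def]; group
      _ = (x * y * x⁻¹) * (c' * y⁻¹) := by group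
      _ = (x * y * x⁻¹) * (y⁻¹ * c') := by rw [hcx y⁻¹]
      _ = (x * y * x⁻¹ * y⁻¹) * c' := by group
  alt v := by
    obtain ⟨x, rfl⟩ := proj_surjective v
    rw [bet_proj]
    have e : (⟨x * x * x⁻¹ * x⁻¹, dat.comm x x⟩ : Subgroup.center E) = 1 :=
      Subtype.ext (by show x * x * x⁻¹ * x⁻¹ = 1; group)
    rw [e, map_one]; rfl
  nondeg v hv := by
    obtain ⟨x, rfl⟩ := proj_surjective v
    have hx : x ∉ Subgroup.center E := fun h => hv ((proj_eq_zero_iff dat.hco x).mpr h)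
    rw [Subgroup.mem_center_iff] at hx
    push Not at hx
    obtain ⟨y, hy⟩ := hx
    refine ⟨proj y, ?_⟩
    rw [bet_proj]
    intro h0
    have h1 : dat.ι ⟨x * y * x⁻¹ * y⁻¹, dat.comm x y⟩ = 1 := h0
    rw [MulEquiv.map_eq_one_iff] at h1
    have h2 : x * y * x⁻¹ * y⁻¹ = 1 := congrArg Subtype.val h1
    apply hy
    have : x * y = (x * y * x⁻¹ * y⁻¹) * (y * x) := by group
    rw [h2, one_mul] at this
    exact this.symm

include dat in
theorem card_eq_mul [Finite E] : Nat.card E = Nat.card (Additive (Abelianization E)) * p := by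
  rw [Nat.card_congr (splitEquiv dat.hco), Nat.card_prod, dat.card]

include dat in
theorem nsmul_eq_zero (v : Additive (Abelianization E)) : p • v = 0 := by
  obtain ⟨x, rfl⟩ := proj_surjective v
  have : proj (x ^ p) = p • proj x := by
    unfold proj; rw [map_pow]; rfl
  rw [← this, dat.pow, proj_one]

end form

section iso

variable {E : Type u} {E' : Type v} [Group E] [Group E'] {p : ℕ} [Fact p.Prime]

/-- an isometry of the commutator forms lifts to an isomorphism of the groups. -/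
theorem iso_of_isometry [Finite E] [Finite E'] (dat : DataP p E) (dat' : DataP p E')
    (φ : Additive (Abelianization E) ≃+ Additive (Abelianization E'))
    (hφ : ∀ u w, bet dat' (φ u) (φ w) = bet dat u w) : Nonempty (E ≃* E') := by
  have hco := dat.hco
  have hco' := dat'.hco
  let D : Subgroup (E × E') :=
    { carrier := {q | φ (proj q.1) = proj q.2}
      one_mem' := by
        show φ (proj (1 : E)) = proj (1 : E')
        rw [proj_one, proj_one, map_zero]
      mul_mem' := by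
        intro a b ha hb
        have ha' : φ (proj a.1) = proj a.2 := ha
        have hb' : φ (proj b.1) = proj b.2 := hb
        show φ (proj (a.1 * b.1)) = proj (a.2 * b.2)
        rw [proj_mul, proj_mul, map_add, ha', hb']
      inv_mem' := by
        intro a ha
        have ha' : φ (proj a.1) = proj a.2 := ha
        show φ (proj a.1⁻¹) = proj a.2⁻¹
        rw [proj_inv, proj_inv, map_neg, ha'] }
  have hD : ∀ q : E × E', q ∈ D ↔ φ (proj q.1) = proj q.2 := fun q => Iff.rfl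
  let θ : Subgroup.center E ≃* Subgroup.center E' := dat.ι.trans dat'.ι.symm
  let Δ : Subgroup (E × E') :=
    (MonoidHom.prod (Subgroup.center E).subtype
      ((Subgroup.center E').subtype.comp θ.toMonoidHom)).range
  have hΔ : ∀ q : E × E', q ∈ Δ ↔ ∃ c : Subgroup.center E, ((c : E), ((θ c : Subgroup.center E') : E')) = q :=
    fun q => Iff.rfl
  have hpair : ∀ (c : Subgroup.center E) (c' : Subgroup.center E'), dat.ι c = dat'.ι c' →
      (((c : E), (c' : E')) : E × E') ∈ Δ := by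
    intro c c' hi
    rw [hΔ]
    refine ⟨c, ?_⟩
    have : θ c = c' := by
      show dat'.ι.symm (dat.ι c) = c'
      rw [hi, MulEquiv.symm_apply_apply]
    rw [this]
  have hΔD : Δ ≤ D := by
    rintro q ⟨c, rfl⟩
    rw [hD]
    show φ (proj (c : E)) = proj ((θ c : Subgroup.center E') : E')
    rw [(proj_eq_zero_iff hco _).mpr c.2, (proj_eq_zero_iff hco' _).mpr (θ c).2, map_zero]
  have hpow : ∀ d ∈ D, d ^ p ∈ Δ := by
    rintro ⟨x, x'⟩ -
    rw [Prod.pow_mk, dat.pow, dat'.pow]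
    exact Δ.one_mem
  have hcomm : ∀ a ∈ D, ∀ b ∈ D, a * b * a⁻¹ * b⁻¹ ∈ Δ := by
    rintro ⟨x, x'⟩ ha ⟨y, y'⟩ hb
    have ha' : φ (proj x) = proj x' := ha
    have hb' : φ (proj y) = proj y' := hb
    show ((x * y * x⁻¹ * y⁻¹, x' * y' * x'⁻¹ * y'⁻¹) : E × E') ∈ Δ
    apply hpair ⟨_, dat.comm x y⟩ ⟨_, dat'.comm x' y'⟩
    rw [iota_comm, iota_comm, ← ha', ← hb', hφ]
  -- the element t
  let zc : Subgroup.center E' := dat'.ι.symm (Multiplicative.ofAdd 1)
  have hzc : zc ≠ 1 := by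
    intro h
    have h1 : dat'.ι zc = 1 := by rw [h, map_one]
    have h2 : dat'.ι zc = Multiplicative.ofAdd 1 := MulEquiv.apply_symm_apply _ _
    rw [h2] at h1
    have h3 : (1 : ZMod p) = 0 := congrArg Multiplicative.toAdd h1
    exact one_ne_zero h3
  have htD : ((1, (zc : E')) : E × E') ∈ D := by
    rw [hD]
    show φ (proj (1 : E)) = proj (zc : E')
    rw [proj_one, map_zero, (proj_eq_zero_iff hco' _).mpr zc.2]
  have htΔ : ((1, (zc : E')) : E × E') ∉ Δ := by
    rintro ⟨c, hc⟩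
    have h1 : (c : E) = 1 := congrArg Prod.fst hc
    have h2 : ((θ c : Subgroup.center E') : E') = zc := congrArg Prod.snd hc
    have h3 : c = 1 := Subtype.ext h1
    rw [h3, map_one] at h2
    exact hzc (Subtype.ext h2.symm)
  have htcen : ∀ g : E × E', Commute ((1, (zc : E')) : E × E') g := by
    rintro ⟨g, g'⟩
    show ((1, (zc : E')) : E × E') * (g, g') = (g, g') * (1, (zc : E'))
    rw [Prod.mk_mul_mk, Prod.mk_mul_mk, one_mul, mul_one,
      (Subgroup.mem_center_iff.mp zc.2 g')]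
  obtain ⟨C, hΔC, hCD, htC, hC⟩ := exists_compl_p p D Δ hΔD hpow hcomm _ htD htΔ htcen
  have F1 : ∀ x' : Subgroup.center E', ((1, (x' : E')) : E × E') ∈ C → x' = 1 := by
    intro x' hx'
    by_contra hne
    have htop := zpowers_eq_top_of_prime_card dat'.card hne
    have hz : zc ∈ Subgroup.zpowers x' := by rw [htop]; exact Subgroup.mem_top _
    obtain ⟨k, hk⟩ := Subgroup.mem_zpowers_iff.mp hz
    apply htC
    have h1 := C.zpow_mem hx' k
    rw [Prod.pow_mk, one_zpow] at h1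
    have h2 : ((x' : E')) ^ k = (zc : E') := by
      rw [← hk]; simp
    rw [h2] at h1
    exact h1
  let f1 : C →* E := (MonoidHom.fst E E').comp C.subtype
  let f2 : C →* E' := (MonoidHom.snd E E').comp C.subtype
  have f1_inj : Function.Injective f1 := by
    rw [injective_iff_map_eq_one]
    rintro ⟨⟨x, x'⟩, hq⟩ hx
    have hx1 : x = 1 := hx
    subst hx1
    have hqD := (hD _).mp (hCD hq)
    have h0 : proj x' = 0 := by
      have : φ (proj (1 : E)) = proj x' := hqD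
      rw [proj_one, map_zero] at this; exact this.symm
    have hcen := (proj_eq_zero_iff hco' _).mp h0
    have := F1 ⟨x', hcen⟩ hq
    have h1 : x' = 1 := congrArg Subtype.val this
    subst h1
    rfl
  have f1_surj : Function.Surjective f1 := by
    intro x
    obtain ⟨x', hx'⟩ := proj_surjective (φ (proj x))
    have hd : ((x, x') : E × E') ∈ D := by rw [hD]; exact hx'.symm
    obtain ⟨j, hj⟩ := hC _ hd
    refine ⟨⟨_, hj⟩, ?_⟩
    show (((x, x') : E × E') * ((1, (zc : E')) : E × E') ^ j).1 = x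
    rw [Prod.pow_mk, Prod.mk_mul_mk, one_zpow, mul_one]
  have f2_inj : Function.Injective f2 := by
    rw [injective_iff_map_eq_one]
    rintro ⟨⟨x, x'⟩, hq⟩ hx
    have hx1 : x' = 1 := hx
    subst hx1
    have hqD := (hD _).mp (hCD hq)
    have h0 : proj x = 0 := by
      have : φ (proj x) = proj (1 : E') := hqD
      rw [proj_one] at this
      exact (AddEquiv.map_eq_zero_iff φ).mp this
    have hcen := (proj_eq_zero_iff hco _).mp h0
    have hmem : (((⟨x, hcen⟩ : Subgroup.center E) : E), ((θ ⟨x, hcen⟩ : Subgroup.center E') : E')) ∈ C :=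
      hΔC ((hΔ _).mpr ⟨⟨x, hcen⟩, rfl⟩)
    have h2 := C.mul_mem (C.inv_mem hq) hmem
    rw [Prod.inv_mk, Prod.mk_mul_mk, inv_one, one_mul] at h2
    have h3 : ((x⁻¹ * x, ((θ ⟨x, hcen⟩ : Subgroup.center E') : E')) : E × E') ∈ C := h2
    rw [inv_mul_cancel] at h3
    have h4 := F1 _ h3
    rw [MulEquiv.map_eq_one_iff] at h4
    have h5 : x = 1 := congrArg Subtype.val h4
    subst h5
    rfl
  have f2_surj : Function.Surjective f2 := by
    intro x'
    obtain ⟨x, hx⟩ := proj_surjective (φ.symm (proj x'))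
    have hd : ((x, x') : E × E') ∈ D := by
      rw [hD]; show φ (proj x) = proj x'
      rw [hx, AddEquiv.apply_symm_apply]
    obtain ⟨j, hj⟩ := hC _ hd
    rw [Prod.pow_mk, Prod.mk_mul_mk, one_zpow, mul_one] at hj
    let c' : Subgroup.center E' := zc ^ (-j)
    have hmem : (((θ.symm c' : Subgroup.center E) : E), (c' : E')) ∈ C := by
      apply hΔC
      rw [hΔ]
      refine ⟨θ.symm c', ?_⟩
      rw [MulEquiv.apply_symm_apply]
    have h2 := C.mul_mem hj hmem
    rw [Prod.mk_mul_mk] at h2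
    refine ⟨⟨_, h2⟩, ?_⟩
    show x' * (zc : E') ^ j * ((zc ^ (-j) : Subgroup.center E') : E') = x'
    rw [Subgroup.coe_zpow, mul_assoc, ← zpow_add, add_neg_cancel, zpow_zero, mul_one]
  exact ⟨(MulEquiv.ofBijective f1 ⟨f1_inj, f1_surj⟩).symm.trans
    (MulEquiv.ofBijective f2 ⟨f2_inj, f2_surj⟩)⟩

/-- the isomorphism theorem for extraspecial groups of exponent `p`. -/
theorem iso_of_card [Finite E] [Finite E'] (hE : Cfsg.IsExtraspecial p E)
    (hE' : Cfsg.IsExtraspecial p E') (he : Monoid.exponent E = p)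
    (he' : Monoid.exponent E' = p) (hc : Nat.card E = Nat.card E') : Nonempty (E ≃* E') := by
  obtain ⟨dat⟩ := exists_dataP hE he
  obtain ⟨dat'⟩ := exists_dataP hE' he'
  letI : Module (ZMod p) (Additive (Abelianization E)) :=
    AddCommGroup.zmodModule (nsmul_eq_zero dat)
  letI : Module (ZMod p) (Additive (Abelianization E')) :=
    AddCommGroup.zmodModule (nsmul_eq_zero dat')
  have hp : 0 < p := (Fact.out : p.Prime).pos
  have hcV : Nat.card (Additive (Abelianization E)) = Nat.card (Additive (Abelianization E')) := by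
    have h1 := card_eq_mul dat
    have h2 := card_eq_mul dat'
    rw [hc, h2] at h1
    exact (Nat.eq_of_mul_eq_mul_right hp h1).symm
  obtain ⟨φ, hφ⟩ := exists_isometry (Nat.card (Additive (Abelianization E))) (bet dat) (bet dat')
    (isSymp_bet dat) (isSymp_bet dat') le_rfl hcV
  exact iso_of_isometry dat dat' φ hφ

end iso

end Cfsg.Agent.Lib.Helper3_ExtraOdd
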