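import Mathlib

/-! Class-two commutator identities under local commutation hypotheses. -/

set_option autoImplicit false

namespace Cfsg.Agent.Lib.Helper6_ClassTwo

open scoped commutatorElement

variable {R : Type*} [Group R]

/-- `y^n x = c^n x y^n` with `c = [y,x]` commuting with `y`. -/
theorem pow_mul_comm' (x y : R) (hy : Commute ⁅y, x⁆ y) (n : ℕ) :
    y ^ n * x = ⁅y, x⁆ ^ n * x * y ^ n := by
  induction n with
  | zero => simp
  | succ n ih =>
    have h0 : y * x = ⁅y, x⁆ * x * y := by simp only [commutatorElement_def]; group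
    calc y ^ (n + 1) * x = y * (y ^ n * x) := by rw [pow_succ', mul_assoc]
      _ = y * (⁅y, x⁆ ^ n * x * y ^ n) := by rw [ih]
      _ = ⁅y, x⁆ ^ n * (y * x) * y ^ n := by
        rw [← mul_assoc, ← mul_assoc, (hy.pow_left n).eq.symm]; simp only [mul_assoc]
      _ = ⁅y, x⁆ ^ n * (⁅y, x⁆ * x * y) * y ^ n := by rw [h0]
      _ = ⁅y, x⁆ ^ (n + 1) * x * y ^ (n + 1) := by
        rw [pow_succ, pow_succ']; simp only [mul_assoc]

/-- `[y^n, x] = [y,x]^n` when `[y,x]` commutes with `y`. -/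
theorem commutator_pow' (x y : R) (hy : Commute ⁅y, x⁆ y) (n : ℕ) :
    ⁅y ^ n, x⁆ = ⁅y, x⁆ ^ n := by
  have h := pow_mul_comm' x y hy n
  rw [commutatorElement_def, h]
  group

/-- `[x, y^n] = [x,y]^n` when `[x,y]` commutes with `y`. -/
theorem commutator_pow_right' (x y : R) (hy : Commute ⁅x, y⁆ y) (n : ℕ) :
    ⁅x, y ^ n⁆ = ⁅x, y⁆ ^ n := by
  have hy' : Commute ⁅y, x⁆ y := by
    rw [← commutatorElement_inv]; exact hy.inv_left
  have h := commutator_pow' x y hy' n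
  rw [← commutatorElement_inv, h, ← commutatorElement_inv x y, inv_pow, inv_inv]

/-- the class-two power formula under local hypotheses. -/
theorem mul_pow' (x y : R) (hx : Commute ⁅y, x⁆ x) (hy : Commute ⁅y, x⁆ y) (n : ℕ) :
    (x * y) ^ n = x ^ n * y ^ n * ⁅y, x⁆ ^ (n.choose 2) := by
  have hcc : ∀ (m : ℕ) (r : R), Commute ⁅y, x⁆ r → ⁅y, x⁆ ^ m * r = r * ⁅y, x⁆ ^ m :=
    fun m r h => (h.pow_left m).eq
  induction n with
  | zero => simp
  | succ n ih =>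
    have hch : (n + 1).choose 2 = n + n.choose 2 := by
      rw [Nat.choose_succ_succ' n 1, Nat.choose_one_right]
    calc (x * y) ^ (n + 1) = (x * y) ^ n * (x * y) := pow_succ _ _
      _ = x ^ n * y ^ n * ⁅y, x⁆ ^ (n.choose 2) * (x * y) := by rw [ih]
      _ = x ^ n * y ^ n * ((x * y) * ⁅y, x⁆ ^ (n.choose 2)) := by
        rw [mul_assoc (x ^ n * y ^ n), hcc _ _ (hx.mul_right hy)]
      _ = x ^ n * (y ^ n * x) * y * ⁅y, x⁆ ^ (n.choose 2) := by simp only [mul_assoc]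
      _ = x ^ n * (⁅y, x⁆ ^ n * x * y ^ n) * y * ⁅y, x⁆ ^ (n.choose 2) := by
        rw [pow_mul_comm' x y hy n]
      _ = x ^ n * (x * y ^ n * ⁅y, x⁆ ^ n) * y * ⁅y, x⁆ ^ (n.choose 2) := by
        rw [mul_assoc (⁅y, x⁆ ^ n) x (y ^ n), hcc n (x * y ^ n) (hx.mul_right (hy.pow_right n))]
      _ = x ^ n * x * y ^ n * (⁅y, x⁆ ^ n * y) * ⁅y, x⁆ ^ (n.choose 2) := by
        simp only [mul_assoc]
      _ = x ^ n * x * y ^ n * (y * ⁅y, x⁆ ^ n) * ⁅y, x⁆ ^ (n.choose 2) := by rw [hcc n y hy]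
      _ = (x ^ n * x) * (y ^ n * y) * (⁅y, x⁆ ^ n * ⁅y, x⁆ ^ (n.choose 2)) := by
        simp only [mul_assoc]
      _ = x ^ (n + 1) * y ^ (n + 1) * ⁅y, x⁆ ^ ((n + 1).choose 2) := by
        rw [← pow_succ, ← pow_succ, ← pow_add, hch]

end Cfsg.Agent.Lib.Helper6_ClassTwo
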