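import Mathlib
import Cfsg.Prelude.Def_Transfer
import Cfsg.Agent.Lib.Helper6_ClassTwo
import Cfsg.Agent.Lib.Helper7_PFrattini
import Cfsg.Agent.Lib.Helper3_BaerTrick

/-!
Extraspecial `p`-groups (`p` odd): the `p`-power homomorphism, `Ω₁`, and conjugation of
noncentral elements of `Ω₁` (used for the group of order `p ^ 3` and exponent `p ^ 2`).
-/

namespace Cfsg.Agent.Lib.Helper3_ExtraP3

open scoped commutatorElement

variable {H : Type*} [Group H] [Finite H] {p : ℕ} [Fact p.Prime]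

omit [Finite H] in
theorem comm_mem_center (hE : Cfsg.IsExtraspecial p H) (a b : H) :
    ⁅a, b⁆ ∈ Subgroup.center H := by
  obtain ⟨⟨_, _, hco⟩, _⟩ := hE
  rw [← hco, commutator_def]
  exact Subgroup.commutator_mem_commutator (Subgroup.mem_top a) (Subgroup.mem_top b)

omit [Finite H] in
theorem comm_central (hE : Cfsg.IsExtraspecial p H) (a b c : H) : Commute ⁅a, b⁆ c :=
  (Subgroup.mem_center_iff.mp (comm_mem_center hE a b) c).symm

theorem pow_mem_center (hE : Cfsg.IsExtraspecial p H) (x : H) : x ^ p ∈ Subgroup.center H := by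
  obtain ⟨⟨hp, hfr, _⟩, _⟩ := hE
  rw [← hfr]; exact Helper7_PFrattini.pow_mem_frattini hp x

omit [Finite H] in
theorem center_pow (hE : Cfsg.IsExtraspecial p H) {c : H} (hc : c ∈ Subgroup.center H) :
    c ^ p = 1 := by
  have := pow_card_eq_one' (G := Subgroup.center H) (x := ⟨c, hc⟩)
  rw [hE.2] at this
  exact congrArg Subtype.val this

omit [Finite H] in
theorem mul_pow_p (hE : Cfsg.IsExtraspecial p H) (hp2 : p ≠ 2) (x y : H) :
    (x * y) ^ p = x ^ p * y ^ p := by
  have hc := comm_mem_center hE y x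
  rw [Helper6_ClassTwo.mul_pow' x y (comm_central hE y x x) (comm_central hE y x y) p]
  have hp := (Fact.out : p.Prime)
  have h3 : 2 < p := lt_of_le_of_ne hp.two_le (Ne.symm hp2)
  obtain ⟨m, hm⟩ := Nat.Prime.dvd_choose_self hp (by norm_num : (2 : ℕ) ≠ 0) h3
  rw [hm, pow_mul, center_pow hE hc, one_pow, mul_one]

/-- the `p`-power homomorphism. -/
def pw (hE : Cfsg.IsExtraspecial p H) (hp2 : p ≠ 2) : H →* H where
  toFun x := x ^ p
  map_one' := one_pow p
  map_mul' := mul_pow_p hE hp2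

/-- the kernel of the `p`-power homomorphism. -/
def Om (hE : Cfsg.IsExtraspecial p H) (hp2 : p ≠ 2) : Subgroup H := (pw hE hp2).ker

omit [Finite H] in
theorem mem_Om (hE : Cfsg.IsExtraspecial p H) (hp2 : p ≠ 2) (x : H) :
    x ∈ Om hE hp2 ↔ x ^ p = 1 := MonoidHom.mem_ker

omit [Finite H] in
theorem center_le_Om (hE : Cfsg.IsExtraspecial p H) (hp2 : p ≠ 2) :
    Subgroup.center H ≤ Om hE hp2 := fun _ hc => (mem_Om hE hp2 _).mpr (center_pow hE hc)

theorem card_Om (hE : Cfsg.IsExtraspecial p H) (hp2 : p ≠ 2) (hcard : Nat.card H = p ^ 3)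
    (hexp : Monoid.exponent H = p ^ 2) : Nat.card (Om hE hp2) = p ^ 2 := by
  have hp := (Fact.out : p.Prime)
  have hr1 : (pw hE hp2).range ≤ Subgroup.center H := by
    rintro _ ⟨x, rfl⟩
    exact pow_mem_center hE x
  have hr2 : (pw hE hp2).range ≠ ⊥ := by
    intro hbot
    have hall : ∀ x : H, x ^ p = 1 := by
      intro x
      have : (pw hE hp2) x ∈ (pw hE hp2).range := ⟨x, rfl⟩
      rw [hbot, Subgroup.mem_bot] at this
      exact this
    have := Monoid.exponent_dvd_of_forall_pow_eq_one hall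
    rw [hexp] at this
    have h2 : p ^ 2 ≤ p := Nat.le_of_dvd hp.pos this
    have : 2 ≤ p := hp.two_le
    nlinarith
  have hr3 : Nat.card (pw hE hp2).range = p := by
    have hd := Subgroup.card_dvd_of_le hr1
    rw [hE.2] at hd
    rcases (Nat.dvd_prime hp).mp hd with h | h
    · exact absurd (Subgroup.card_eq_one.mp h) hr2
    · exact h
  have h1 := Subgroup.card_mul_index (pw hE hp2).ker
  rw [Subgroup.index_ker, hr3, hcard] at h1
  have h2 : Nat.card (Om hE hp2) * p = p ^ 2 * p := by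
    show Nat.card (pw hE hp2).ker * p = p ^ 2 * p
    rw [h1]; ring
  exact Nat.eq_of_mul_eq_mul_right hp.pos h2

theorem Om_comm (hE : Cfsg.IsExtraspecial p H) (hp2 : p ≠ 2) (hcard : Nat.card H = p ^ 3)
    (hexp : Monoid.exponent H = p ^ 2) :
    ∀ a ∈ Om hE hp2, ∀ b ∈ Om hE hp2, a * b = b * a := by
  intro a ha b hb
  haveI := IsPGroup.isMulCommutative_of_card_eq_prime_sq (card_Om hE hp2 hcard hexp)
  have := mul_comm' (⟨a, ha⟩ : Om hE hp2) ⟨b, hb⟩
  exact congrArg Subtype.val this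

omit [Finite H] in
theorem exists_conj (hE : Cfsg.IsExtraspecial p H) {y : H} (hy : y ∉ Subgroup.center H) {c : H}
    (hc : c ∈ Subgroup.center H) : ∃ a : H, a * y * a⁻¹ = y * c := by
  rw [Subgroup.mem_center_iff] at hy
  push Not at hy
  obtain ⟨a₀, ha₀⟩ := hy
  have hcc := comm_central hE
  let θ : H →* H :=
    { toFun := fun a => ⁅a, y⁆
      map_one' := commutatorElement_one_left y
      map_mul' := fun a b => Helper3_BaerTrick.comm_mul_left hcc a b y }
  have hθ : ∀ a, θ a = ⁅a, y⁆ := fun a => rfl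
  have hc₀ : ⁅a₀, y⁆ ∈ Subgroup.center H := comm_mem_center hE a₀ y
  have hc₀1 : (⟨⁅a₀, y⁆, hc₀⟩ : Subgroup.center H) ≠ 1 := by
    intro h
    have h1 : ⁅a₀, y⁆ = 1 := congrArg Subtype.val h
    rw [commutatorElement_eq_one_iff_commute] at h1
    exact ha₀ h1.eq
  have htop := zpowers_eq_top_of_prime_card hE.2 hc₀1
  have hmem : (⟨c, hc⟩ : Subgroup.center H) ∈ Subgroup.zpowers (⟨⁅a₀, y⁆, hc₀⟩ : Subgroup.center H) := by
    rw [htop]; exact Subgroup.mem_top _
  obtain ⟨i, hi⟩ := Subgroup.mem_zpowers_iff.mp hmem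
  have hi' : ⁅a₀, y⁆ ^ i = c := by
    have := congrArg Subtype.val hi
    simpa using this
  refine ⟨a₀ ^ i, ?_⟩
  have h2 : ⁅a₀ ^ i, y⁆ = c := by rw [← hθ, map_zpow, hθ, hi']
  have h3 : a₀ ^ i * y * (a₀ ^ i)⁻¹ = ⁅a₀ ^ i, y⁆ * y := by
    rw [commutatorElement_def]; group
  rw [h3, h2]
  exact (Subgroup.mem_center_iff.mp hc y).symm

end Cfsg.Agent.Lib.Helper3_ExtraP3
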