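import Mathlib
import Cfsg.Prelude.Def_SolvableStructure
import Cfsg.Agent.Lib.Lead_Coprime
import Cfsg.Agent.Lib.Helper2_Coprime
import Cfsg.Agent.Lib.Helper1_Supersolvable

set_option autoImplicit false
set_option linter.style.haveILetI false

/-!
# Tools for Huppert-type supersolvability criteria
eigenvectors for automorphisms of exponent dividing `p - 1`, scalar actions on minimal normal
subgroups, commutators / `(p-1)`-th powers centralize normal `p`-subgroups of supersolvable groups.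
-/

namespace Cfsg.Agent.Lib.Helper3_Huppert
open scoped commutatorElement
open Cfsg Cfsg.Agent.Lib.Helper1_Supersolvable

open Polynomial in
theorem exists_eigen_lin {W : Type*} [AddCommGroup W] (p : ℕ) [hp : Fact p.Prime] [Module (ZMod p) W]
    [Finite W] [Nontrivial W] (g : W →+ W) (hg : ∀ x : W, (⇑g)^[p - 1] x = x) :
    ∃ v : W, v ≠ 0 ∧ ∃ k : ℕ, g v = k • v := by
  classical
  have : Module.Finite (ZMod p) W := Module.Finite.of_finite
  let f : W →ₗ[ZMod p] W := g.toZModLinearMap p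
  have hfg : ∀ x, f x = g x := fun x => rfl
  have hfpow : ∀ (n : ℕ) (x : W), (f ^ n) x = (⇑g)^[n] x := by
    intro n
    induction n with
    | zero => intro x; rfl
    | succ n ih =>
      intro x
      rw [pow_succ, Module.End.mul_apply, ih, hfg, Function.iterate_succ_apply]
  have hf1 : f ^ (p - 1) = 1 := by
    ext x
    rw [hfpow, hg]
    rfl
  have hdvd1 : minpoly (ZMod p) f ∣ (X ^ (p - 1) - 1 : (ZMod p)[X]) := by
    apply minpoly.dvd
    simp [hf1]
  have hdvd2 : (X ^ (p - 1) - 1 : (ZMod p)[X]) ∣ (X ^ p - X : (ZMod p)[X]) := by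
    refine ⟨X, ?_⟩
    have h1 : (X : (ZMod p)[X]) ^ p = X ^ (p - 1) * X := by
      rw [← pow_succ, Nat.sub_add_cancel hp.out.one_lt.le]
    rw [h1]
    ring
  have hne : (X ^ p - X : (ZMod p)[X]) ≠ 0 := FiniteField.X_pow_card_sub_X_ne_zero (ZMod p) hp.out.one_lt
  have hsplit : (X ^ p - X : (ZMod p)[X]).Splits := by
    have := FiniteField.splits_X_pow_card_sub_X (K := ZMod p) (p := p)
    simpa using this
  have hms : (minpoly (ZMod p) f).Splits := hsplit.of_dvd hne (hdvd1.trans hdvd2)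
  have hint : IsIntegral (ZMod p) f := Algebra.IsIntegral.isIntegral f
  have hdeg : (minpoly (ZMod p) f).degree ≠ 0 := by
    have := minpoly.degree_pos hint
    exact this.ne'
  obtain ⟨μ, hμ⟩ := hms.exists_eval_eq_zero hdeg
  have hev : Module.End.HasEigenvalue f μ := Module.End.hasEigenvalue_of_isRoot hμ
  obtain ⟨v, hv⟩ := hev.exists_hasEigenvector
  refine ⟨v, hv.2, μ.val, ?_⟩
  have h1 : f v = μ • v := hv.apply_eq_smul
  have h2 : μ • v = μ.val • v := by
    conv_lhs => rw [← ZMod.natCast_zmod_val μ]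
    exact Nat.cast_smul_eq_nsmul (ZMod p) μ.val v
  rw [← hfg, h1, h2]

/-- An automorphism `a` of a nontrivial finite abelian group of exponent `p` with `a^(p-1) = 1`
has an eigenvector: some `v ≠ 1` with `a v = v^k`. -/
theorem exists_eigen {V : Type*} [CommGroup V] [Finite V] [Nontrivial V] (p : ℕ) [hp : Fact p.Prime]
    (hexp : ∀ x : V, x ^ p = 1) (a : V →* V) (ha : ∀ x : V, (⇑a)^[p - 1] x = x) :
    ∃ v : V, v ≠ 1 ∧ ∃ k : ℕ, a v = v ^ k := by
  classical
  have hW : ∀ x : Additive V, p • x = 0 := fun x => hexp (Additive.toMul x)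
  have hit : ∀ (n : ℕ) (x : Additive V), (⇑(MonoidHom.toAdditive a))^[n] x
      = Additive.ofMul ((⇑a)^[n] (Additive.toMul x)) := by
    intro n
    induction n with
    | zero => intro x; rfl
    | succ n ih =>
      intro x
      rw [Function.iterate_succ_apply, ih, Function.iterate_succ_apply]
      rfl
  obtain ⟨v, hv, k, h⟩ := @exists_eigen_lin (Additive V) _ p hp (AddCommGroup.zmodModule hW) _ _
    (MonoidHom.toAdditive a) (by
      intro x
      rw [hit, ha]
      rfl)
  exact ⟨Additive.toMul v, fun h' => hv h', k, h⟩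


theorem normal_of_sup_eq_top {G : Type*} [Group G] (K Q H : Subgroup G) (hQH : Q ⊔ H = ⊤)
    (hQ : ∀ q ∈ Q, ∀ n ∈ K, q * n * q⁻¹ ∈ K) (hH : ∀ h ∈ H, ∀ n ∈ K, h * n * h⁻¹ ∈ K) :
    K.Normal := by
  have h1 : Q ≤ Subgroup.normalizer (K : Set G) := fun q hq =>
    Cfsg.Agent.Lib.Lead_Coprime.mem_normalizer_of_conj_mem (hQ q hq)
      (fun n hn => by simpa using hQ q⁻¹ (Q.inv_mem hq) n hn)
  have h2 : H ≤ Subgroup.normalizer (K : Set G) := fun q hq =>
    Cfsg.Agent.Lib.Lead_Coprime.mem_normalizer_of_conj_mem (hH q hq)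
      (fun n hn => by simpa using hH q⁻¹ (H.inv_mem hq) n hn)
  have h3 : Subgroup.normalizer (K : Set G) = ⊤ := by
    rw [eq_top_iff, ← hQH]
    exact sup_le h1 h2
  exact Subgroup.normalizer_eq_top_iff.mp h3

theorem card_eq_of_scalar {G : Type*} [Group G] [Finite G] (p : ℕ) [hp : Fact p.Prime]
    (N : Subgroup G) [hNn : N.Normal] (hN1 : N ≠ ⊥)
    (hNc : ∀ x ∈ N, ∀ y ∈ N, x * y = y * x) (hNp : ∀ x ∈ N, x ^ p = 1)
    (hmin : ∀ K : Subgroup G, K.Normal → K ≤ N → K = ⊥ ∨ K = N)
    (Q H : Subgroup G) (hQH : Q ⊔ H = ⊤)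
    (hQ : ∀ q ∈ Q, ∀ n ∈ N, q * n * q⁻¹ = n)
    (hcomm : ∀ y ∈ H, ∀ z ∈ H, ∀ n ∈ N, ⁅y, z⁆ * n * ⁅y, z⁆⁻¹ = n)
    (hpow : ∀ y ∈ H, ∀ n ∈ N, y ^ (p - 1) * n * (y ^ (p - 1))⁻¹ = n) :
    Nat.card N = p := by
  classical
  -- Step 1: every h ∈ H acts as a power map on N
  have step1 : ∀ h ∈ H, ∃ k : ℕ, ∀ n ∈ N, h * n * h⁻¹ = n ^ k := by
    intro h hh
    letI : CommGroup ↥N := { (inferInstance : Group ↥N) with
      mul_comm := fun x y => Subtype.ext (hNc x x.2 y y.2) }
    haveI : Nontrivial ↥N := (Subgroup.nontrivial_iff_ne_bot N).mpr hN1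
    let a : ↥N →* ↥N := (MulAut.conjNormal h : MulAut ↥N).toMonoidHom
    have ha : ∀ x : ↥N, ((a x : ↥N) : G) = h * x * h⁻¹ := fun x => MulAut.conjNormal_apply h x
    have hit : ∀ (m : ℕ) (x : ↥N), (((⇑a)^[m] x : ↥N) : G) = h ^ m * x * (h ^ m)⁻¹ := by
      intro m
      induction m with
      | zero => intro x; simp
      | succ m ih =>
        intro x
        rw [Function.iterate_succ_apply', ha, ih, pow_succ']
        group
    obtain ⟨v, hv1, k, hvk⟩ := exists_eigen p (fun x => Subtype.ext (by simpa using hNp x x.2)) a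
      (fun x => Subtype.ext (by rw [hit]; exact hpow h hh x x.2))
    refine ⟨k, ?_⟩
    let K : Subgroup G :=
      { carrier := {n | n ∈ N ∧ h * n * h⁻¹ = n ^ k}
        one_mem' := ⟨N.one_mem, by simp⟩
        mul_mem' := by
          rintro x y ⟨hx, hx'⟩ ⟨hy, hy'⟩
          refine ⟨N.mul_mem hx hy, ?_⟩
          have e : h * (x * y) * h⁻¹ = (h * x * h⁻¹) * (h * y * h⁻¹) := by group
          rw [e, hx', hy', (show Commute x y from hNc x hx y hy).mul_pow]
        inv_mem' := by
          rintro x ⟨hx, hx'⟩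
          refine ⟨N.inv_mem hx, ?_⟩
          have e : h * x⁻¹ * h⁻¹ = (h * x * h⁻¹)⁻¹ := by group
          rw [e, hx', inv_pow] }
    have hKN : K ≤ N := fun n hn => hn.1
    have hKn : K.Normal := by
      apply normal_of_sup_eq_top K Q H hQH
      · intro q hq n hn
        rw [hQ q hq n hn.1]; exact hn
      · intro h' hh' n hn
        refine ⟨hNn.conj_mem n hn.1 h', ?_⟩
        have hc := hcomm h⁻¹ (H.inv_mem hh) h'⁻¹ (H.inv_mem hh') n hn.1
        have e : h * (h' * n * h'⁻¹) * h⁻¹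
            = h' * (h * (⁅h⁻¹, h'⁻¹⁆ * n * ⁅h⁻¹, h'⁻¹⁆⁻¹) * h⁻¹) * h'⁻¹ := by
          simp only [commutatorElement_def]; group
        rw [e, hc, hn.2, conj_pow]
    have hvK : (v : G) ∈ K := ⟨v.2, by rw [← ha, hvk]; rfl⟩
    rcases hmin K hKn hKN with h0 | h0
    · exfalso
      rw [h0, Subgroup.mem_bot] at hvK
      exact hv1 (Subtype.ext hvK)
    · intro n hn
      have : n ∈ K := by rw [h0]; exact hn
      exact this.2
  -- Step 2
  obtain ⟨v, hvN, hv1⟩ : ∃ v ∈ N, v ≠ 1 := by
    by_contra hcon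
    push Not at hcon
    exact hN1 ((Subgroup.eq_bot_iff_forall N).mpr hcon)
  have hZN : Subgroup.zpowers v ≤ N := (Subgroup.zpowers_le).mpr hvN
  have hZn : (Subgroup.zpowers v).Normal := by
    apply normal_of_sup_eq_top _ Q H hQH
    · intro q hq n hn
      rw [hQ q hq n (hZN hn)]; exact hn
    · intro h hh n hn
      obtain ⟨k, hk⟩ := step1 h hh
      rw [hk n (hZN hn)]
      exact Subgroup.pow_mem _ hn k
  have hZ : Subgroup.zpowers v = N := by
    rcases hmin _ hZn hZN with h0 | h0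
    · exfalso
      apply hv1
      have : v ∈ Subgroup.zpowers v := Subgroup.mem_zpowers v
      rw [h0, Subgroup.mem_bot] at this
      exact this
    · exact h0
  rw [← hZ, Nat.card_zpowers]
  exact orderOf_eq_prime (hNp v hvN) hv1


/-- commutators and `(p-1)`-th powers centralize a normal subgroup of order `p`. -/
theorem conj_eq_of_card_prime {X : Type*} [Group X] [Finite X] (p : ℕ) [hp : Fact p.Prime]
    (L : Subgroup X) [hL : L.Normal] (hLp : Nat.card L = p) (x : X)
    (hxc : (∃ y z : X, x = ⁅y, z⁆) ∨ ∃ y : X, x = y ^ (p - 1)) :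
    ∀ r ∈ L, x * r * x⁻¹ = r := by
  haveI : IsCyclic L := isCyclic_of_prime_card hLp
  let φ : X →* MulAut L := MulAut.conjNormal
  have hcomm : ∀ a b : MulAut L, a * b = b * a := by
    intro a b
    apply (IsCyclic.mulAutMulEquiv L).injective
    rw [map_mul, map_mul, mul_comm]
  have hφ : φ x = 1 := by
    rcases hxc with ⟨y, z, rfl⟩ | ⟨y, rfl⟩
    · rw [map_commutatorElement, commutatorElement_def, hcomm (φ y) (φ z)]
      group
    · rw [map_pow]
      have h1 : Nat.card (MulAut L) = p - 1 := by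
        rw [IsCyclic.card_mulAut, hLp, Nat.totient_prime hp.out]
      rw [← h1]
      exact pow_card_eq_one'
  intro r hr
  have := congrArg (fun f : MulAut L => ((f ⟨r, hr⟩ : L) : X)) hφ
  simpa [φ, MulAut.conjNormal_apply] using this

/-- Lemma T -/
theorem centralizes_of_supersolvable {X : Type*} [Group X] [Finite X] (hX : IsSupersolvable X)
    (p : ℕ) [hp : Fact p.Prime] (R : Subgroup X) [hRn : R.Normal] (hR : IsPGroup p R) (x : X)
    (hx : (orderOf x).Coprime p) (hxc : (∃ y z : X, x = ⁅y, z⁆) ∨ ∃ y : X, x = y ^ (p - 1)) :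
    ∀ r ∈ R, x * r * x⁻¹ = r := by
  induction hn : Nat.card X using Nat.strong_induction_on generalizing X with
  | _ n ih =>
  intro r hr
  rcases subsingleton_or_nontrivial X with hs | hnt
  · exact Subsingleton.elim _ _
  obtain ⟨L, hLn, hLp⟩ := exists_normal_prime hX
  have hlt : Nat.card (X ⧸ L) < n := hn ▸ card_quotient_lt L hLp
  have hRb : IsPGroup p (R.map (QuotientGroup.mk' L)) := hR.map _
  haveI : (R.map (QuotientGroup.mk' L)).Normal :=
    hRn.map _ (QuotientGroup.mk'_surjective L)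
  have hxb : (orderOf (QuotientGroup.mk' L x)).Coprime p :=
    Nat.Coprime.coprime_dvd_left (orderOf_map_dvd _ x) hx
  have hxcb : (∃ y z : X ⧸ L, QuotientGroup.mk' L x = ⁅y, z⁆) ∨ ∃ y : X ⧸ L, QuotientGroup.mk' L x = y ^ (p - 1) := by
    rcases hxc with ⟨y, z, rfl⟩ | ⟨y, rfl⟩
    · exact Or.inl ⟨QuotientGroup.mk' L y, QuotientGroup.mk' L z, map_commutatorElement _ _ _⟩
    · exact Or.inr ⟨QuotientGroup.mk' L y, map_pow _ _ _⟩
  have key := ih _ hlt (quotient L hX) (R.map (QuotientGroup.mk' L)) hRb (QuotientGroup.mk' L x)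
    hxb hxcb rfl (QuotientGroup.mk' L r) (Subgroup.mem_map_of_mem _ hr)
  have hkL : x * r * x⁻¹ * r⁻¹ ∈ L := by
    rw [← QuotientGroup.ker_mk' L, MonoidHom.mem_ker, map_mul, map_inv, map_mul, map_mul, map_inv, key]
    group
  have hkR : x * r * x⁻¹ * r⁻¹ ∈ R := R.mul_mem (hRn.conj_mem r hr x) (R.inv_mem hr)
  by_cases hqp : Nat.card L = p
  · have hk := conj_eq_of_card_prime p L hqp x hxc _ hkL
    apply Cfsg.Agent.Lib.Helper2_Coprime.conj_eq_of_stable_step L x r hkL hk
    rw [hqp]; exact hx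
  · -- L ∩ R trivial
    have h1 : orderOf (x * r * x⁻¹ * r⁻¹) ∣ Nat.card L := Subgroup.orderOf_dvd_natCard L hkL
    obtain ⟨m, hm⟩ := (hR ⟨_, hkR⟩)
    have h2 : orderOf (x * r * x⁻¹ * r⁻¹) ∣ p ^ m := by
      apply orderOf_dvd_of_pow_eq_one
      have := congrArg Subtype.val hm
      simpa using this
    have h3 : (Nat.card L).Coprime (p ^ m) := by
      apply Nat.Coprime.pow_right
      exact (Nat.coprime_primes hLp hp.out).mpr hqp
    have h4 : orderOf (x * r * x⁻¹ * r⁻¹) = 1 := Nat.eq_one_of_dvd_coprimes h3 h1 h2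
    rw [orderOf_eq_one_iff] at h4
    calc x * r * x⁻¹ = (x * r * x⁻¹ * r⁻¹) * r := by group
      _ = r := by rw [h4, one_mul]


/-- If all maximal subgroups have prime index, the Sylow subgroup for the largest prime is normal. -/
theorem sylow_normal_of_prime_index {G : Type*} [Group G] [Finite G]
    (h : ∀ M : Subgroup G, IsCoatom M → M.index.Prime) (p : ℕ) [hp : Fact p.Prime]
    (hmax : ∀ q : ℕ, q.Prime → q ∣ Nat.card G → q ≤ p) (P : Sylow p G) :
    (P : Subgroup G).Normal := by
  by_contra hn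
  have hne : Subgroup.normalizer ((P : Subgroup G) : Set G) ≠ ⊤ := fun h' =>
    hn (Subgroup.normalizer_eq_top_iff.mp h')
  obtain ⟨M, hM, hNM⟩ := (eq_top_or_exists_le_coatom _).resolve_left hne
  have hPM : (P : Subgroup G) ≤ M := Subgroup.le_normalizer.trans hNM
  have hq := h M hM
  -- Sylow counting
  have c1 : Nat.card (Sylow p G) ≡ 1 [MOD p] := card_sylow_modEq_one p G
  have c2 : Nat.card (Sylow p M) ≡ 1 [MOD p] := card_sylow_modEq_one p M
  have e1 : Nat.card (Sylow p G) = (Subgroup.normalizer ((P : Subgroup G) : Set G)).index :=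
    P.card_eq_index_normalizer
  have e2 : Nat.card (Sylow p M) =
      (Subgroup.normalizer ((P : Subgroup G) : Set G)).relIndex M := by
    rw [(P.subtype hPM).card_eq_index_normalizer]
    show (Subgroup.normalizer (((P.subtype hPM : Sylow p M) : Subgroup M) : Set M)).index = _
    rw [Sylow.coe_subtype]
    have := Subgroup.subgroupOf_normalizer_eq hPM
    rw [Subgroup.relIndex]
    exact congrArg Subgroup.index this.symm
  have e3 := Subgroup.relIndex_mul_index hNM
  rw [← e1, ← e2] at e3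
  have c3 : M.index ≡ 1 [MOD p] := by
    have : Nat.card (Sylow p M) * M.index ≡ 1 * M.index [MOD p] := c2.mul_right _
    rw [e3, one_mul] at this
    exact this.symm.trans c1
  have hqG : M.index ∣ Nat.card G := Subgroup.index_dvd_card M
  have hle := hmax _ hq hqG
  have h1 : M.index % p = 1 := by
    have := c3
    unfold Nat.ModEq at this
    rw [this, Nat.mod_eq_of_lt hp.out.one_lt]
  have h2 : M.index ≠ 1 := hq.one_lt.ne'
  have h3 : M.index < p ∨ M.index = p := lt_or_eq_of_le hle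
  rcases h3 with h3 | h3
  · rw [Nat.mod_eq_of_lt h3] at h1; exact h2 h1
  · rw [h3, Nat.mod_self] at h1; omega

theorem isCoatom_comap_mk' {G : Type*} [Group G] (N : Subgroup G) [N.Normal]
    (M : Subgroup (G ⧸ N)) (hM : IsCoatom M) : IsCoatom (M.comap (QuotientGroup.mk' N)) := by
  have hsurj := QuotientGroup.mk'_surjective N
  constructor
  · intro h
    apply hM.1
    rw [← Subgroup.map_comap_eq_self_of_surjective hsurj M, h,
      Subgroup.map_top_of_surjective _ hsurj]
  · intro K hK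
    have hNK : (QuotientGroup.mk' N).ker ≤ K := by
      refine le_trans ?_ hK.le
      intro x hx
      rw [Subgroup.mem_comap, MonoidHom.mem_ker.mp hx]
      exact M.one_mem
    have h1 : M ≤ K.map (QuotientGroup.mk' N) := by
      rw [← Subgroup.map_comap_eq_self_of_surjective hsurj M]
      exact Subgroup.map_mono hK.le
    have h2 : M ≠ K.map (QuotientGroup.mk' N) := by
      intro h'
      apply hK.ne
      rw [h', Subgroup.comap_map_eq_self hNK]
    have h3 := hM.2 _ (lt_of_le_of_ne h1 h2)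
    rw [← Subgroup.comap_map_eq_self hNK, h3, Subgroup.comap_top]

theorem quotient_coatom_prime {G : Type*} [Group G]
    (h : ∀ M : Subgroup G, IsCoatom M → M.index.Prime) (N : Subgroup G) [N.Normal] :
    ∀ M : Subgroup (G ⧸ N), IsCoatom M → M.index.Prime := by
  intro M hM
  have := h _ (isCoatom_comap_mk' N M hM)
  rwa [Subgroup.index_comap_of_surjective _ (QuotientGroup.mk'_surjective N)] at this


end Cfsg.Agent.Lib.Helper3_Huppert
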