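import Mathlib

namespace Cfsg.Agent.Lib.Helper4_MaxNormAb0
open scoped commutatorElement

variable {G : Type*} [Group G]

/-- In a nilpotent group a nontrivial normal subgroup meets the centre nontrivially. -/
theorem normal_inf_center {Q : Type*} [Group Q] [Group.IsNilpotent Q] (A : Subgroup Q)
    [hAn : A.Normal] (hA : A ≠ ⊥) : ∃ a ∈ A, a ∈ Subgroup.center Q ∧ a ≠ 1 := by
  classical
  obtain ⟨n, hn⟩ := Group.IsNilpotent.nilpotent Q
  have hex : ∃ i, A ⊓ Subgroup.upperCentralSeries Q i ≠ ⊥ := ⟨n, by rw [hn, inf_top_eq]; exact hA⟩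
  have hspec := Nat.find_spec hex
  have hmin := fun {m : ℕ} (h : m < Nat.find hex) => Nat.find_min hex h
  cases hi : Nat.find hex with
  | zero =>
    rw [hi, Subgroup.upperCentralSeries_zero, inf_bot_eq] at hspec
    exact absurd rfl hspec
  | succ j =>
    rw [hi] at hspec
    have hj : A ⊓ Subgroup.upperCentralSeries Q j = ⊥ := by
      have := hmin (m := j) (by omega)
      rwa [not_not] at this
    obtain ⟨a, ha1⟩ := (Subgroup.ne_bot_iff_exists_ne_one).mp hspec
    have haA : (a : Q) ∈ A := (Subgroup.mem_inf.mp a.2).1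
    have haZ : (a : Q) ∈ Subgroup.upperCentralSeries Q (j + 1) := (Subgroup.mem_inf.mp a.2).2
    refine ⟨a, haA, ?_, fun h => ha1 (Subtype.ext h)⟩
    rw [Subgroup.mem_center_iff]
    intro y
    have h1 : ⁅(a : Q), y⁆ ∈ Subgroup.upperCentralSeries Q j :=
      Subgroup.mem_upperCentralSeries_succ_iff.mp haZ y
    have h2 : ⁅(a : Q), y⁆ ∈ A := by
      have e : ⁅(a : Q), y⁆ = (a : Q) * (y * (a : Q)⁻¹ * y⁻¹) := by
        simp only [commutatorElement_def]; group
      rw [e]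
      exact A.mul_mem haA (hAn.conj_mem _ (A.inv_mem haA) y)
    have h3 : ⁅(a : Q), y⁆ ∈ A ⊓ Subgroup.upperCentralSeries Q j := Subgroup.mem_inf.mpr ⟨h2, h1⟩
    rw [hj, Subgroup.mem_bot, commutatorElement_def] at h3
    have := congrArg (fun z => z * y * (a : Q)) h3
    simp only [one_mul] at this
    rw [← this]; group

/-- a central element of order `p` inside a nontrivial normal subgroup of a `p`-group -/
theorem exists_central_order_p {Q : Type*} [Group Q] [Finite Q] {p : ℕ} [Fact p.Prime]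
    (hQ : IsPGroup p Q) (A : Subgroup Q) [A.Normal] (hA : A ≠ ⊥) :
    ∃ b ∈ A, b ∈ Subgroup.center Q ∧ orderOf b = p := by
  have : Group.IsNilpotent Q := hQ.isNilpotent
  obtain ⟨a, haA, haZ, ha1⟩ := normal_inf_center A hA
  set Z : Subgroup Q := A ⊓ Subgroup.center Q with hZ
  have hZp : IsPGroup p Z := hQ.to_subgroup Z
  have hZnt : Nontrivial Z := ⟨⟨⟨a, haA, haZ⟩, 1, fun h => ha1 (congrArg Subtype.val h)⟩⟩
  obtain ⟨k, hk⟩ := hZp.exists_card_eq
  have hk0 : k ≠ 0 := by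
    rintro rfl
    rw [pow_zero] at hk
    have := Finite.one_lt_card_iff_nontrivial.2 hZnt
    omega
  have hdvd : p ∣ Nat.card Z := by rw [hk]; exact dvd_pow_self p hk0
  obtain ⟨b, hb⟩ := exists_prime_orderOf_dvd_card' p hdvd
  refine ⟨b, b.2.1, b.2.2, ?_⟩
  rw [Subgroup.orderOf_coe]; exact hb

/-- if `N ≤ N'` with `|N'| = p |N|` and `x ∈ N' ∖ N`, then `N' = N ⊔ ⟨x⟩` -/
theorem eq_sup_zpowers [Finite G] {p : ℕ} [Fact p.Prime] (N N' : Subgroup G) (hNN' : N ≤ N')
    (hcard : Nat.card N' = p * Nat.card N) (x : G) (hx : x ∈ N') (hxN : x ∉ N) :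
    N' = N ⊔ Subgroup.zpowers x := by
  have hle : N ⊔ Subgroup.zpowers x ≤ N' := sup_le hNN' (by rwa [Subgroup.zpowers_le])
  symm
  apply Subgroup.eq_of_le_of_card_ge hle
  obtain ⟨m, hm⟩ : Nat.card N ∣ Nat.card ↥(N ⊔ Subgroup.zpowers x) := Subgroup.card_dvd_of_le le_sup_left
  have h2 : Nat.card ↥(N ⊔ Subgroup.zpowers x) ∣ Nat.card N' := Subgroup.card_dvd_of_le hle
  have hN0 : 0 < Nat.card N := Nat.card_pos
  have hm1 : m ≠ 1 := by
    rintro rfl
    rw [mul_one] at hm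
    have := Subgroup.eq_of_le_of_card_ge (le_sup_left : N ≤ N ⊔ Subgroup.zpowers x) hm.le
    apply hxN
    rw [this]
    exact Subgroup.mem_sup_right (Subgroup.mem_zpowers x)
  rw [hm, hcard, mul_comm (Nat.card N) m] at h2
  have h3 : m ∣ p := Nat.dvd_of_mul_dvd_mul_right hN0 h2
  rcases (Nat.dvd_prime (Fact.out : p.Prime)).1 h3 with h | h
  · exact absurd h hm1
  · rw [hcard, hm, h, mul_comm]

end Cfsg.Agent.Lib.Helper4_MaxNormAb0
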