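import Mathlib
import Cfsg.Agent.Lib.Helper3_Huppert
import Cfsg.Agent.S0579

set_option autoImplicit false
set_option linter.style.haveILetI false

/-!
# A split criterion for supersolvability
`G = Q H`, `Q` a normal `q`-subgroup, `G/Q` supersolvable, commutators and `(q-1)`-th powers of `H`
centralize `Q`: then `G` is supersolvable.
-/

namespace Cfsg.Agent.Lib.Helper3_Huppert2
open scoped commutatorElement
open Cfsg Cfsg.Agent.Lib.Helper1_Supersolvable Cfsg.Agent.Lib.Helper3_Huppert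

theorem supersolvable_of_split {G : Type*} [Group G] [Finite G] (q : ℕ) [hq : Fact q.Prime]
    (Q : Subgroup G) [hQn : Q.Normal] (hQ : IsPGroup q Q) (H : Subgroup G) (hQH : Q ⊔ H = ⊤)
    (hsup : IsSupersolvable (G ⧸ Q))
    (hcomm : ∀ y ∈ H, ∀ z ∈ H, ∀ x ∈ Q, ⁅y, z⁆ * x * ⁅y, z⁆⁻¹ = x)
    (hpow : ∀ y ∈ H, ∀ x ∈ Q, y ^ (q - 1) * x * (y ^ (q - 1))⁻¹ = x) :
    IsSupersolvable G := by
  classical
  induction hn : Nat.card Q using Nat.strong_induction_on generalizing G with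
  | _ n ih =>
  by_cases hQ1 : Q = ⊥
  · subst hQ1
    exact of_mulEquiv (QuotientGroup.quotientBot (G := G)) hsup
  -- minimal normal subgroup inside Q
  obtain ⟨N, ⟨hNn, hNQ, hN1⟩, hNmin⟩ := WellFounded.has_min (wellFounded_lt (α := Subgroup G))
    {N : Subgroup G | N.Normal ∧ N ≤ Q ∧ N ≠ ⊥} ⟨Q, hQn, le_rfl, hQ1⟩
  haveI := hNn
  have hmin : ∀ K : Subgroup G, K.Normal → K ≤ N → K = ⊥ ∨ K = N := by
    intro K hKn hKN
    by_cases hK : K = ⊥
    · exact Or.inl hK
    · right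
      have := hNmin K ⟨hKn, hKN.trans hNQ, hK⟩
      exact eq_of_le_of_not_lt hKN this
  obtain ⟨hcent, hexp⟩ := Cfsg.Agent.S0579.minimal_props q Q hQ N hNQ hN1 hmin
  have hNcomm : ∀ x ∈ N, ∀ y ∈ N, x * y = y * x := by
    intro x hx y hy
    have := hcent x (hNQ hx) y hy
    calc x * y = (x * y * x⁻¹) * x := by group
      _ = y * x := by rw [this]
  have hcard : Nat.card N = q :=
    card_eq_of_scalar q N hN1 hNcomm hexp hmin Q H hQH hcent
      (fun y hy z hz x hx => hcomm y hy z hz x (hNQ hx))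
      (fun y hy x hx => hpow y hy x (hNQ hx))
  -- pass to the quotient
  haveI : (Q.map (QuotientGroup.mk' N)).Normal := hQn.map _ (QuotientGroup.mk'_surjective N)
  have hQb : IsPGroup q (Q.map (QuotientGroup.mk' N)) := hQ.map _
  have hQHb : Q.map (QuotientGroup.mk' N) ⊔ H.map (QuotientGroup.mk' N) = ⊤ := by
    rw [← Subgroup.map_sup, hQH, Subgroup.map_top_of_surjective _ (QuotientGroup.mk'_surjective N)]
  have hsupb : IsSupersolvable ((G ⧸ N) ⧸ Q.map (QuotientGroup.mk' N)) :=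
    of_mulEquiv (QuotientGroup.quotientQuotientEquivQuotient N Q hNQ).symm hsup
  have hlt : Nat.card (Q.map (QuotientGroup.mk' N)) < n := by
    have h1 := Cfsg.Agent.Lib.Helper1_Supersolvable3.card_comap_mk' N (Q.map (QuotientGroup.mk' N))
    rw [Subgroup.comap_map_eq, QuotientGroup.ker_mk', sup_eq_left.mpr hNQ, hn, hcard] at h1
    have h2 : 0 < Nat.card (Q.map (QuotientGroup.mk' N)) := Nat.card_pos
    have h3 := hq.out.one_lt
    nlinarith
  have hG' : IsSupersolvable (G ⧸ N) := by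
    refine ih _ hlt (Q.map (QuotientGroup.mk' N)) hQb (H.map (QuotientGroup.mk' N)) hQHb hsupb ?_ ?_ rfl
    · rintro _ ⟨y, hy, rfl⟩ _ ⟨z, hz, rfl⟩ _ ⟨x, hx, rfl⟩
      rw [← map_commutatorElement, ← map_mul, ← map_inv, ← map_mul, hcomm y hy z hz x hx]
    · rintro _ ⟨y, hy, rfl⟩ _ ⟨x, hx, rfl⟩
      rw [← map_pow, ← map_mul, ← map_inv, ← map_mul, hpow y hy x hx]
  haveI : IsCyclic N := isCyclic_of_prime_card hcard
  exact of_quotient_of_isCyclic N hG'

end Cfsg.Agent.Lib.Helper3_Huppert2
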