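import Cfsg.Prelude.Def_ConjugacyFunctors

set_option autoImplicit false

namespace Cfsg.Agent.Lib.Helper3_KInf

open Cfsg

variable {P : Type*} [Group P]

theorem kLower_antitone {Q Q' : Subgroup P} (h : Q' ≤ Q) :
    kLowerStarFamily Q ⊆ kLowerStarFamily Q' := by
  rintro B ⟨hB2, hBn, hB⟩
  exact ⟨hB2, h.trans hBn, fun A hA2 hAQ => hB A hA2 (hAQ.trans h)⟩

theorem kUpper_antitone {Q Q' : Subgroup P} (h : Q' ≤ Q) :
    kUpperStarFamily Q ⊆ kUpperStarFamily Q' := by
  rintro B ⟨hB2, hB⟩
  exact ⟨hB2, (Subgroup.commutator_mono le_rfl h).trans hB⟩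

theorem kSeqOdd_succ_le (n : ℕ) : kSeqOdd P (n + 1) ≤ kSeqOdd P n := by
  induction n with
  | zero => show _ ≤ (⊤ : Subgroup P); exact le_top
  | succ n ih =>
    show sSup (kUpperStarFamily (sSup (kLowerStarFamily (kSeqOdd P (n + 1))))) ≤
      sSup (kUpperStarFamily (sSup (kLowerStarFamily (kSeqOdd P n))))
    apply sSup_le_sSup
    apply kUpper_antitone
    apply sSup_le_sSup
    exact kLower_antitone ih

theorem kSeqEven_le_succ (n : ℕ) : kSeqEven P n ≤ kSeqEven P (n + 1) := by
  show sSup (kLowerStarFamily (kSeqOdd P n)) ≤ sSup (kLowerStarFamily (kSeqOdd P (n + 1)))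
  apply sSup_le_sSup
  exact kLower_antitone (kSeqOdd_succ_le n)

theorem kSeqOdd_antitone : Antitone (kSeqOdd P) :=
  antitone_nat_of_succ_le kSeqOdd_succ_le

theorem kSeqEven_monotone : Monotone (kSeqEven P) :=
  monotone_nat_of_le_succ kSeqEven_le_succ

/-- an abelian normal subgroup lies in all the families -/
theorem abelian_mem_classTwo (A : Subgroup P) (hA : IsMulCommutative ↥A) :
    A ∈ classTwoSubgroups P := by
  show ⁅A, A⁆ ≤ Subgroup.centralizer (A : Set P)
  have : ⁅A, A⁆ = ⊥ := by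
    rw [Subgroup.commutator_eq_bot_iff_le_centralizer]
    intro a ha b hb
    have := (isMulCommutative_iff.mp hA) ⟨b, hb⟩ ⟨a, ha⟩
    exact congrArg Subtype.val this
  rw [this]; exact bot_le

theorem abelian_le_centralizer (A : Subgroup P) (hA : IsMulCommutative ↥A) :
    A ≤ Subgroup.centralizer (A : Set P) := by
  intro a ha b hb
  have := (isMulCommutative_iff.mp hA) ⟨b, hb⟩ ⟨a, ha⟩
  exact congrArg Subtype.val this

theorem abelian_normal_mem_kUpper (A : Subgroup P) [A.Normal] (hA : IsMulCommutative ↥A)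
    (Q : Subgroup P) : A ∈ kUpperStarFamily Q := by
  refine ⟨abelian_mem_classTwo A hA, ?_⟩
  rw [inf_eq_left.mpr (abelian_le_centralizer A hA)]
  exact Subgroup.commutator_le_left A Q

theorem abelian_normal_mem_kLower (A : Subgroup P) [A.Normal] (hA : IsMulCommutative ↥A)
    (Q : Subgroup P) : A ∈ kLowerStarFamily Q := by
  refine ⟨abelian_mem_classTwo A hA, ?_, ?_⟩
  · rw [Subgroup.normalizer_eq_top]; exact le_top
  · intro B _ _ _ _ _
    rw [inf_eq_left.mpr (abelian_le_centralizer A hA)]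
    exact Subgroup.commutator_le_left A B

end Cfsg.Agent.Lib.Helper3_KInf
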