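import Mathlib
import Cfsg.Prelude.Def_Balance
import Cfsg.Agent.Lib.Helper3_LStar2
import Cfsg.Agent.Lib.Helper3_SupNormalizer
import Cfsg.Agent.S1907

/-! The extended layer is generated with a single Sylow subgroup (helper3). -/

set_option autoImplicit false

namespace Cfsg.Agent.Lib.Helper3_LStar3

open Cfsg Cfsg.Agent.Lib.Helper3_Transport Cfsg.Agent.Lib.Helper3_LStar2
open scoped Pointwise

universe u

/-- the image in `X` of the `p'`-core of the centralizer of a subgroup -/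
def coreCent (p : ℕ) {X : Type u} [Group X] (H : Subgroup X) : Subgroup X :=
  (pPrimeCore p ↥(Subgroup.centralizer (H : Set X))).map (Subgroup.centralizer (H : Set X)).subtype

theorem coreCent_conj (p : ℕ) {X : Type u} [Group X] (H : Subgroup X) (g : X) :
    coreCent p (H.map (MulAut.conj g).toMonoidHom) = (coreCent p H).map (MulAut.conj g).toMonoidHom := by
  unfold coreCent
  apply core_conj p
  rw [centralizer_map_conj]

variable {X : Type u} [Group X] [Finite X] (p : ℕ) [hp : Fact p.Prime]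

/-- `O_{p',p}(X) ≤ T O_{p'}(X)` for a Sylow `p`-subgroup `T` of a normal subgroup containing it -/
theorem pPrimePCore_le_sup (N : Subgroup X) (hN : pPrimePCore p X ≤ N) (T : Sylow p ↥N) :
    pPrimePCore p X ≤ (T : Subgroup ↥N).map N.subtype ⊔ pPrimeCore p X := by
  haveI := pPrimePCore_normal p X
  set T' := (T : Subgroup ↥N).map N.subtype with hT'
  have hidx : ¬ p ∣ T'.relIndex (pPrimePCore p X) := by
    have h1 := Cfsg.Agent.Lib.Helper5_Residual.not_dvd_relIndex_of_normal T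
      ((pPrimePCore p X).subgroupOf N)
    have h2 : (T : Subgroup ↥N) = T'.subgroupOf N := by
      rw [hT']
      unfold Subgroup.subgroupOf
      exact (Subgroup.comap_map_eq_self_of_injective N.subtype_injective _).symm
    rw [h2, Subgroup.relIndex_subgroupOf hN] at h1
    exact h1
  refine (Cfsg.Agent.Lib.Helper5_Residual.le_sup_residualOf p _ _ hidx).trans
    (sup_le_sup le_rfl ?_)
  unfold Cfsg.Agent.Lib.Helper5_Residual.residualOf
  rw [Subgroup.closure_le]
  intro g hg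
  exact Cfsg.Agent.S1907.mem_D_of_coprime g hg.1 hg.2

omit [Finite X] in
theorem map_conj_mul (H : Subgroup X) (a t : X) (ht : t ∈ H) :
    H.map (MulAut.conj (a * t)).toMonoidHom = H.map (MulAut.conj a).toMonoidHom := by
  ext x
  constructor
  · rintro ⟨h, hh, rfl⟩
    refine ⟨t * h * t⁻¹, H.mul_mem (H.mul_mem ht hh) (H.inv_mem ht), ?_⟩
    show a * (t * h * t⁻¹) * a⁻¹ = a * t * h * (a * t)⁻¹
    group
  · rintro ⟨h, hh, rfl⟩
    refine ⟨t⁻¹ * h * t, H.mul_mem (H.mul_mem (H.inv_mem ht) hh) ht, ?_⟩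
    show a * t * (t⁻¹ * h * t) * (a * t)⁻¹ = a * h * a⁻¹
    group

/-- the cores of the centralizers of two Sylow subgroups of `L_{p'}(X) O_{p',p}(X)` -/
theorem coreCent_sylow_le (N : Subgroup X) (hN : N = pLayer p X ⊔ pPrimePCore p X)
    (T T2 : Sylow p ↥N) :
    coreCent p ((T2 : Subgroup ↥N).map N.subtype) ≤
      pLayer p X ⊔ pPrimeCore p X ⊔ coreCent p ((T : Subgroup ↥N).map N.subtype) := by
  classical
  haveI h1 := pLayer_normal p X
  haveI h2 := pPrimePCore_normal p X
  haveI h3 := pPrimeCore_normal' p X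
  set T' := (T : Subgroup ↥N).map N.subtype with hT'
  obtain ⟨n, hn⟩ := MulAction.exists_smul_eq ↥N T T2
  have hnN : (n : X) ∈ (pLayer p X ⊔ pPrimeCore p X) ⊔ T' := by
    have h4 : N ≤ (pLayer p X ⊔ pPrimeCore p X) ⊔ T' := by
      rw [hN]
      apply sup_le (le_sup_left.trans le_sup_left)
      refine (pPrimePCore_le_sup p N (by rw [hN]; exact le_sup_right) T).trans ?_
      apply sup_le le_sup_right (le_sup_right.trans le_sup_left)
    exact h4 n.2
  haveI : (pLayer p X ⊔ pPrimeCore p X).Normal := Subgroup.sup_normal _ _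
  obtain ⟨a, ha, t, ht, hat⟩ := Cfsg.Agent.Lib.Helper3_SupNormalizer.exists_mul_of_mem_sup
    (pLayer p X ⊔ pPrimeCore p X) T' (by
      rw [Subgroup.normalizer_eq_top]; exact le_top) hnN
  have hT2 : (T2 : Subgroup ↥N).map N.subtype = T'.map (MulAut.conj a).toMonoidHom := by
    rw [← map_conj_mul T' a t ht, ← hat, ← hn, Sylow.coe_subgroup_smul]
    ext x
    constructor
    · rintro ⟨_, ⟨y, hy, rfl⟩, rfl⟩
      exact ⟨(y : X), ⟨y, hy, rfl⟩, rfl⟩
    · rintro ⟨_, ⟨y, hy, rfl⟩, rfl⟩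
      exact ⟨MulAut.conj n y, ⟨y, hy, rfl⟩, rfl⟩
  rw [hT2, coreCent_conj]
  rintro _ ⟨w, hw, rfl⟩
  have haM : a ∈ pLayer p X ⊔ pPrimeCore p X ⊔ coreCent p T' :=
    (le_sup_left : pLayer p X ⊔ pPrimeCore p X ≤ pLayer p X ⊔ pPrimeCore p X ⊔ coreCent p T') ha
  have hwM : w ∈ pLayer p X ⊔ pPrimeCore p X ⊔ coreCent p T' :=
    (le_sup_right : coreCent p T' ≤ pLayer p X ⊔ pPrimeCore p X ⊔ coreCent p T') hw
  exact Subgroup.mul_mem _ (Subgroup.mul_mem _ haM hwM) (Subgroup.inv_mem _ haM)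

end Cfsg.Agent.Lib.Helper3_LStar3
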