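import Mathlib
import Cfsg.Prelude.Def_LocalEven
import Cfsg.Agent.Lib.Helper5_CharP
import Cfsg.Agent.Lib.Helper3_Bender

set_option autoImplicit false

/-! Existence of primitive pairs of characteristic `p` in groups of local characteristic `p`. -/

namespace Cfsg.Agent.Lib.Helper3_PrimPairExist

open Cfsg
open Cfsg.Agent.Lib.Helper5_CharP

universe u

variable {G : Type u} [Group G] [Finite G] {p : ℕ} [hp : Fact p.Prime]

/-- `p`-local subgroup -/
def IsLoc (p : ℕ) (M : Subgroup G) : Prop :=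
  ∃ T : Subgroup G, IsPGroup p T ∧ T ≠ ⊥ ∧ M = Subgroup.normalizer (T : Set G)

/-- maximal `p`-local subgroup -/
def IsMaxLoc (p : ℕ) (M : Subgroup G) : Prop :=
  IsLoc p M ∧ ∀ L : Subgroup G, IsLoc p L → M ≤ L → L = M

/-- `T` is a maximal `p`-subgroup of `M` -/
def IsSylIn (p : ℕ) (T M : Subgroup G) : Prop :=
  T ≤ M ∧ IsPGroup p T ∧ ∀ U : Subgroup G, IsPGroup p U → T ≤ U → U ≤ M → U = T

theorem loc_ne_top (hOp : pCore p G = ⊥) {M : Subgroup G} (hM : IsLoc p M) : M ≠ ⊤ := by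
  obtain ⟨T, hT, hT1, rfl⟩ := hM
  intro h
  have hn : T.Normal := Subgroup.normalizer_eq_top_iff.mp h
  have := le_pCore T hn hT
  rw [hOp] at this
  exact hT1 (eq_bot_iff.mpr this)

theorem loc_card {M : Subgroup G} (hM : IsLoc p M) : p ∣ Nat.card M := by
  obtain ⟨T, hT, hT1, rfl⟩ := hM
  have hle : T ≤ Subgroup.normalizer (T : Set G) := Subgroup.le_normalizer
  obtain ⟨k, hk⟩ := hT.exists_card_eq
  have hk0 : k ≠ 0 := by
    intro h0
    rw [h0, pow_zero] at hk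
    exact hT1 (Subgroup.eq_bot_of_card_eq T hk)
  have h1 : p ∣ Nat.card T := by rw [hk]; exact dvd_pow_self p hk0
  exact dvd_trans h1 (Subgroup.card_dvd_of_le hle)

theorem loc_op_ne_bot {M : Subgroup G} (hM : IsLoc p M) : pCoreOf p M ≠ ⊥ := by
  obtain ⟨T, hT, hT1, rfl⟩ := hM
  have hle : T ≤ pCoreOf p (Subgroup.normalizer (T : Set G)) :=
    le_pCoreOf Subgroup.le_normalizer hT le_rfl
  intro hb
  rw [hb] at hle
  exact hT1 (eq_bot_iff.mpr hle)

theorem maxLoc_normalizer {M : Subgroup G} (hM : IsMaxLoc p M) (K : Subgroup G)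
    (hK : IsPGroup p K) (hK1 : K ≠ ⊥) (hMK : M ≤ Subgroup.normalizer (K : Set G)) :
    Subgroup.normalizer (K : Set G) = M :=
  hM.2 _ ⟨K, hK, hK1, rfl⟩ hMK

theorem maxLoc_normalizer_self {M : Subgroup G} (hM : IsMaxLoc p M) :
    Subgroup.normalizer (M : Set G) ≤ M := by
  have h1 := normalizer_le_normalizer_pCoreOf p M
  have h2 := maxLoc_normalizer hM (pCoreOf p M) (pCoreOf_isPGroup p M) (loc_op_ne_bot hM.1)
    (le_normalizer_pCoreOf p M)
  rw [h2] at h1
  exact h1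

theorem loc_charp (hloc : IsOfLocalCharacteristic p G) {M : Subgroup G} (hM : IsLoc p M) :
    Subgroup.centralizer ((pCore p ↥M : Subgroup ↥M) : Set ↥M) ≤ pCore p ↥M := by
  obtain ⟨T, hT, hT1, rfl⟩ := hM
  exact hloc.2 T hT hT1

/-- a nontrivial normal subgroup of a maximal `p`-local of characteristic `p` has its normalizer
inside it -/
theorem normalizer_le_of_normal (hloc : IsOfLocalCharacteristic p G) {M : Subgroup G}
    (hM : IsMaxLoc p M) (A : Subgroup G) (hA1 : A ≠ ⊥) (hAM : A ≤ M)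
    (hMA : M ≤ Subgroup.normalizer (A : Set G)) : Subgroup.normalizer (A : Set G) ≤ M := by
  have hB1 : pCoreOf p A ≠ ⊥ := by
    intro hB
    apply hA1
    have hQn := le_normalizer_pCoreOf p M
    have hinf : A ⊓ pCoreOf p M ≤ pCoreOf p A := by
      apply le_pCoreOf inf_le_left ((pCoreOf_isPGroup p M).to_le inf_le_right)
      intro a ha
      have h1 : a ∈ Subgroup.normalizer ((pCoreOf p M : Subgroup G) : Set G) := hQn (hAM ha)
      have := Cfsg.Agent.Lib.Helper3_Bender.mem_normalizer_inf (pCoreOf p M) A h1 ha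
      rw [inf_comm] at this
      exact this
    rw [hB] at hinf
    rw [eq_bot_iff]
    intro a ha
    have haM : a ∈ M := hAM ha
    -- `a` centralizes `O_p(M)`
    have hcent : (⟨a, haM⟩ : ↥M) ∈
        Subgroup.centralizer ((pCore p ↥M : Subgroup ↥M) : Set ↥M) := by
      rw [Subgroup.mem_centralizer_iff]
      intro q hq
      have hqQ : (q : G) ∈ pCoreOf p M := ⟨q, hq, rfl⟩
      have hc : a * (q : G) * a⁻¹ * (q : G)⁻¹ ∈ A ⊓ pCoreOf p M := by
        constructor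
        · have h2 : (q : G) * a⁻¹ * (q : G)⁻¹ ∈ A :=
            conj_mem_of_mem_normalizer (hMA q.2) (A.inv_mem ha)
          have : a * (q : G) * a⁻¹ * (q : G)⁻¹ = a * ((q : G) * a⁻¹ * (q : G)⁻¹) := by group
          rw [this]
          exact A.mul_mem ha h2
        · have h2 : a * (q : G) * a⁻¹ ∈ pCoreOf p M :=
            conj_mem_of_mem_normalizer (hQn haM) hqQ
          exact Subgroup.mul_mem _ h2 (Subgroup.inv_mem _ hqQ)
      have hc1 : a * (q : G) * a⁻¹ * (q : G)⁻¹ = 1 := by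
        have := hinf hc
        rwa [Subgroup.mem_bot] at this
      apply Subtype.ext
      show (q : G) * a = a * (q : G)
      have : a * (q : G) = (a * (q : G) * a⁻¹ * (q : G)⁻¹) * ((q : G) * a) := by group
      rw [this, hc1, one_mul]
    have hmem := loc_charp hloc hM.1 hcent
    have haQ : a ∈ pCoreOf p M := ⟨⟨a, haM⟩, hmem, rfl⟩
    have := hinf ⟨ha, haQ⟩
    exact this
  have h1 := normalizer_le_normalizer_pCoreOf p A
  have h2 := maxLoc_normalizer hM (pCoreOf p A) (pCoreOf_isPGroup p A) hB1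
    (le_trans hMA h1)
  rw [h2] at h1
  exact h1

theorem primPair_of_maxLoc (hloc : IsOfLocalCharacteristic p G) {M₁ M₂ : Subgroup G}
    (hM₁ : IsMaxLoc p M₁) (hM₂ : IsMaxLoc p M₂) :
    ∀ A : Subgroup G, A ≠ ⊥ → A ≤ M₁ ⊓ M₂ →
      (M₁ ≤ Subgroup.normalizer (A : Set G) → M₂ ⊓ Subgroup.normalizer (A : Set G) = M₁ ⊓ M₂) ∧
      (M₂ ≤ Subgroup.normalizer (A : Set G) → M₁ ⊓ Subgroup.normalizer (A : Set G) = M₁ ⊓ M₂) := by
  intro A hA1 hle
  constructor
  · intro hn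
    apply le_antisymm
    · intro x hx
      exact ⟨normalizer_le_of_normal hloc hM₁ A hA1 (le_trans hle inf_le_left) hn hx.2, hx.1⟩
    · intro x hx
      exact ⟨hx.2, hn hx.1⟩
  · intro hn
    apply le_antisymm
    · intro x hx
      exact ⟨hx.1, normalizer_le_of_normal hloc hM₂ A hA1 (le_trans hle inf_le_right) hn hx.2⟩
    · intro x hx
      exact ⟨hx.1, hn hx.2⟩

theorem exists_maxLoc_ge {L : Subgroup G} (hL : IsLoc p L) : ∃ M, IsMaxLoc p M ∧ L ≤ M := by
  have hfin : ({M : Subgroup G | IsLoc p M} : Set (Subgroup G)).Finite := Set.toFinite _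
  obtain ⟨M, hLM, hmax⟩ := hfin.exists_le_maximal (a := L) hL
  refine ⟨M, ⟨hmax.1, ?_⟩, hLM⟩
  intro K hK hMK
  exact le_antisymm (hmax.2 hK hMK) hMK


theorem mem_map_cj {H : Subgroup G} {x y : G} :
    y ∈ H.map (MulAut.conj x).toMonoidHom ↔ x⁻¹ * y * x ∈ H := by
  rw [Subgroup.mem_map]
  constructor
  · rintro ⟨h, hh, rfl⟩
    have : x⁻¹ * ((MulAut.conj x).toMonoidHom h) * x = h := by
      simp [MulAut.conj_apply, mul_assoc]
    rw [this]; exact hh
  · intro h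
    refine ⟨x⁻¹ * y * x, h, ?_⟩
    simp [MulAut.conj_apply, mul_assoc]

theorem loc_map {M : Subgroup G} (hM : IsLoc p M) (x : G) :
    IsLoc p (M.map (MulAut.conj x).toMonoidHom) := by
  obtain ⟨T, hT, hT1, rfl⟩ := hM
  refine ⟨T.map (MulAut.conj x).toMonoidHom, hT.map _, ?_, ?_⟩
  · intro hb
    exact hT1 ((Subgroup.map_eq_bot_iff_of_injective T (MulAut.conj x).injective).mp hb)
  · exact Subgroup.map_equiv_normalizer_eq T (MulAut.conj x)

theorem maxLoc_map {M : Subgroup G} (hM : IsMaxLoc p M) (x : G) :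
    IsMaxLoc p (M.map (MulAut.conj x).toMonoidHom) := by
  refine ⟨loc_map hM.1 x, ?_⟩
  intro L hL hle
  have h1 : M ≤ L.map (MulAut.conj x⁻¹).toMonoidHom := by
    intro m hm
    rw [mem_map_cj, inv_inv]
    apply hle
    rw [mem_map_cj]
    have : x⁻¹ * (x * m * x⁻¹) * x = m := by group
    rw [this]; exact hm
  have h2 := hM.2 _ (loc_map hL x⁻¹) h1
  ext y
  rw [mem_map_cj, ← h2, mem_map_cj]
  have : (x⁻¹)⁻¹ * (x⁻¹ * y * x) * x⁻¹ = y := by group
  rw [this]

theorem map_cj_ne {M : Subgroup G} (hM : IsMaxLoc p M) {x : G} (hx : x ∉ M) :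
    M.map (MulAut.conj x).toMonoidHom ≠ M := by
  intro h
  apply hx
  apply maxLoc_normalizer_self hM
  apply mem_normalizer_of_forall_conj_mem
  · intro q hq
    have : x * q * x⁻¹ ∈ M.map (MulAut.conj x).toMonoidHom := by
      rw [mem_map_cj]
      have : x⁻¹ * (x * q * x⁻¹) * x = q := by group
      rw [this]; exact hq
    rwa [h] at this
  · intro q hq
    rw [← h, mem_map_cj] at hq
    exact hq

theorem sylIn_map {T M : Subgroup G} (hS : IsSylIn p T M) {x : G}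
    (hx : x ∈ Subgroup.normalizer (T : Set G)) :
    IsSylIn p T (M.map (MulAut.conj x).toMonoidHom) := by
  obtain ⟨hTM, hTp, hmax⟩ := hS
  refine ⟨?_, hTp, ?_⟩
  · intro t ht
    rw [mem_map_cj]
    exact hTM (conj_mem_of_mem_normalizer' hx ht)
  · intro U hU hTU hUM
    have hU'p : IsPGroup p ↥(U.map (MulAut.conj x⁻¹).toMonoidHom) := hU.map _
    have hTU' : T ≤ U.map (MulAut.conj x⁻¹).toMonoidHom := by
      intro t ht
      rw [mem_map_cj, inv_inv]
      exact hTU (conj_mem_of_mem_normalizer hx ht)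
    have hU'M : U.map (MulAut.conj x⁻¹).toMonoidHom ≤ M := by
      intro u hu
      rw [mem_map_cj, inv_inv] at hu
      have := hUM hu
      rw [mem_map_cj] at this
      have e : x⁻¹ * (x * u * x⁻¹) * x = u := by group
      rw [e] at this
      exact this
    have heq := hmax _ hU'p hTU' hU'M
    apply le_antisymm _ hTU
    intro u hu
    have h1 : x⁻¹ * u * x ∈ U.map (MulAut.conj x⁻¹).toMonoidHom := by
      rw [mem_map_cj, inv_inv]
      have e : x * (x⁻¹ * u * x) * x⁻¹ = u := by group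
      rw [e]; exact hu
    rw [heq] at h1
    have h3 := conj_mem_of_mem_normalizer hx h1
    have e : x * (x⁻¹ * u * x) * x⁻¹ = u := by group
    rw [e] at h3
    exact h3

theorem not_sylIn_exists {T M : Subgroup G} (hTM : T ≤ M) (hT : IsPGroup p T)
    (hns : ¬ IsSylIn p T M) :
    ∃ x ∈ M, x ∈ Subgroup.normalizer (T : Set G) ∧ x ∉ T ∧
      IsPGroup p ↥(T ⊔ Subgroup.zpowers x) := by
  unfold IsSylIn at hns
  push Not at hns
  obtain ⟨U, hU, hTU, hUM, hne⟩ := hns hTM hT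
  haveI : Group.IsNilpotent ↥U := hU.isNilpotent
  have hlt : T.subgroupOf U < ⊤ := by
    rw [lt_top_iff_ne_top]
    intro h
    rw [Subgroup.subgroupOf_eq_top] at h
    exact hne (le_antisymm h hTU)
  have hnc := Group.normalizerCondition_of_isNilpotent (G := ↥U) (T.subgroupOf U) hlt
  obtain ⟨u, huN, huT⟩ := SetLike.exists_of_lt hnc
  refine ⟨(u : G), hUM u.2, ?_, ?_, ?_⟩
  · apply mem_normalizer_of_forall_conj_mem
    · intro q hq
      have hq' : (⟨q, hTU hq⟩ : ↥U) ∈ T.subgroupOf U := by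
        rw [Subgroup.mem_subgroupOf]; exact hq
      have := conj_mem_of_mem_normalizer huN hq'
      rw [Subgroup.mem_subgroupOf] at this
      simpa using this
    · intro q hq
      have hq' : (⟨q, hTU hq⟩ : ↥U) ∈ T.subgroupOf U := by
        rw [Subgroup.mem_subgroupOf]; exact hq
      have := conj_mem_of_mem_normalizer' huN hq'
      rw [Subgroup.mem_subgroupOf] at this
      simpa using this
  · intro h
    apply huT
    rw [Subgroup.mem_subgroupOf]; exact h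
  · exact hU.to_le (sup_le hTU ((Subgroup.zpowers_le).mpr u.2))

theorem sylIn_op_le {T M : Subgroup G} (hS : IsSylIn p T M) : pCoreOf p M ≤ T := by
  obtain ⟨hTM, hTp, hmax⟩ := hS
  have h1 : IsPGroup p ↥(T ⊔ pCoreOf p M) :=
    IsPGroup.to_sup_of_normal_right' hTp (pCoreOf_isPGroup p M)
      (le_trans hTM (le_normalizer_pCoreOf p M))
  have h2 := hmax _ h1 le_sup_left (sup_le hTM (pCoreOf_le p M))
  rw [← h2]
  exact le_sup_right

/-- sizes of nontrivial `p`-subgroups common to two distinct maximal `p`-locals -/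
def Sizes (p : ℕ) (G : Type u) [Group G] : Set ℕ :=
  {n | ∃ M₁ M₂ T : Subgroup G, IsMaxLoc p M₁ ∧ IsMaxLoc p M₂ ∧ M₁ ≠ M₂ ∧ T ≤ M₁ ⊓ M₂ ∧
    IsPGroup p T ∧ T ≠ ⊥ ∧ Nat.card T = n}

theorem step {M₁ M₂ T : Subgroup G} (hM₁ : IsMaxLoc p M₁) (hM₂ : IsMaxLoc p M₂)
    (hT : T ≤ M₁ ⊓ M₂) (hTp : IsPGroup p T) (hne : M₁ ≠ M₂) (hS2 : IsSylIn p T M₂) :
    ∃ N₁ N₂ T' : Subgroup G, IsMaxLoc p N₁ ∧ IsMaxLoc p N₂ ∧ N₁ ≠ N₂ ∧
      IsSylIn p T' N₁ ∧ IsSylIn p T' N₂ := by
  by_cases h1 : IsSylIn p T M₁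
  · exact ⟨M₁, M₂, T, hM₁, hM₂, hne, h1, hS2⟩
  · obtain ⟨x, hxM, hxN, hxT, hU⟩ := not_sylIn_exists (le_trans hT inf_le_left) hTp h1
    have hxM₂ : x ∉ M₂ := by
      intro hx2
      have := hS2.2.2 _ hU le_sup_left
        (sup_le (le_trans hT inf_le_right) ((Subgroup.zpowers_le).mpr hx2))
      apply hxT
      rw [← this]
      exact Subgroup.mem_sup_right (Subgroup.mem_zpowers x)
    exact ⟨M₂, M₂.map (MulAut.conj x).toMonoidHom, T, hM₂, maxLoc_map hM₂ x,
      (map_cj_ne hM₂ hxM₂).symm, hS2, sylIn_map hS2 hxN⟩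

theorem either {M₁ M₂ T : Subgroup G} (hM₁ : IsMaxLoc p M₁) (hM₂ : IsMaxLoc p M₂)
    (hT : T ≤ M₁ ⊓ M₂) (hTp : IsPGroup p T) (hT1 : T ≠ ⊥) (hne : M₁ ≠ M₂)
    (hmax : ∀ m ∈ Sizes p G, m ≤ Nat.card T) : IsSylIn p T M₁ ∨ IsSylIn p T M₂ := by
  by_contra h
  push Not at h
  obtain ⟨h1, h2⟩ := h
  obtain ⟨x₁, hx₁M, hx₁N, hx₁T, hU₁⟩ := not_sylIn_exists (le_trans hT inf_le_left) hTp h1
  obtain ⟨x₂, hx₂M, hx₂N, hx₂T, hU₂⟩ := not_sylIn_exists (le_trans hT inf_le_right) hTp h2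
  have hlocN : IsLoc p (Subgroup.normalizer (T : Set G)) := ⟨T, hTp, hT1, rfl⟩
  obtain ⟨M₃, hM₃, hNM₃⟩ := exists_maxLoc_ge hlocN
  have key : ∀ (M : Subgroup G) (x : G), IsMaxLoc p M → T ≤ M → x ∈ M →
      x ∈ Subgroup.normalizer (T : Set G) → x ∉ T → IsPGroup p ↥(T ⊔ Subgroup.zpowers x) →
      M = M₃ := by
    intro M x hM hTM hxM hxN hxT hU
    by_contra hne3
    have hmem : Nat.card ↥(T ⊔ Subgroup.zpowers x) ∈ Sizes p G := by
      refine ⟨M, M₃, T ⊔ Subgroup.zpowers x, hM, hM₃, hne3, ?_, hU, ?_, rfl⟩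
      · exact le_inf (sup_le hTM ((Subgroup.zpowers_le).mpr hxM))
          (sup_le (le_trans Subgroup.le_normalizer hNM₃) ((Subgroup.zpowers_le).mpr (hNM₃ hxN)))
      · intro hb
        apply hT1
        rw [eq_bot_iff, ← hb]
        exact le_sup_left
    have hle := hmax _ hmem
    have heq := Subgroup.eq_of_le_of_card_ge (le_sup_left : T ≤ T ⊔ Subgroup.zpowers x) hle
    apply hxT
    rw [heq]
    exact Subgroup.mem_sup_right (Subgroup.mem_zpowers x)
  have e1 := key M₁ x₁ hM₁ (le_trans hT inf_le_left) hx₁M hx₁N hx₁T hU₁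
  have e2 := key M₂ x₂ hM₂ (le_trans hT inf_le_right) hx₂M hx₂N hx₂T hU₂
  exact hne (e1.trans e2.symm)

theorem exists_good_pair (M : Subgroup G) (hM : IsMaxLoc p M) (g : G) (hg : g ∉ M)
    (hdiv : p ∣ Nat.card ↥(M ⊓ M.map (MulAut.conj g).toMonoidHom)) :
    ∃ N₁ N₂ T : Subgroup G, IsMaxLoc p N₁ ∧ IsMaxLoc p N₂ ∧ N₁ ≠ N₂ ∧
      IsSylIn p T N₁ ∧ IsSylIn p T N₂ := by
  have hne : (Sizes p G).Nonempty := by
    obtain ⟨P⟩ : Nonempty (Sylow p ↥(M ⊓ M.map (MulAut.conj g).toMonoidHom)) := inferInstance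
    refine ⟨_, M, M.map (MulAut.conj g).toMonoidHom,
      (P : Subgroup _).map (M ⊓ M.map (MulAut.conj g).toMonoidHom).subtype, hM, maxLoc_map hM g,
      (map_cj_ne hM hg).symm, Subgroup.map_subtype_le _, P.isPGroup'.map _, ?_, rfl⟩
    intro hb
    have hb' : (P : Subgroup ↥(M ⊓ M.map (MulAut.conj g).toMonoidHom)) = ⊥ :=
      (Subgroup.map_eq_bot_iff_of_injective (P : Subgroup ↥(M ⊓ M.map (MulAut.conj g).toMonoidHom))
        (M ⊓ M.map (MulAut.conj g).toMonoidHom).subtype_injective).mp hb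
    exact Sylow.ne_bot_of_dvd_card P hdiv hb'
  have hbdd : BddAbove (Sizes p G) := by
    refine ⟨Nat.card G, ?_⟩
    rintro n ⟨M₁, M₂, T, -, -, -, -, -, -, rfl⟩
    exact Nat.le_of_dvd Nat.card_pos (Subgroup.card_subgroup_dvd_card T)
  obtain ⟨M₁, M₂, T, hM₁, hM₂, hne12, hT, hTp, hT1, hcard⟩ := Nat.sSup_mem hne hbdd
  have hmax : ∀ m ∈ Sizes p G, m ≤ Nat.card T := by
    intro m hm
    rw [hcard]
    exact le_csSup hbdd hm
  rcases either hM₁ hM₂ hT hTp hT1 hne12 hmax with h | h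
  · exact step hM₂ hM₁ (by rw [inf_comm]; exact hT) hTp hne12.symm h
  · exact step hM₁ hM₂ hT hTp hne12 h

end Cfsg.Agent.Lib.Helper3_PrimPairExist
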