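import Mathlib
import Cfsg.Agent.Lib.Lead_Coprime
import Cfsg.Agent.Lib.Helper7_PFrattini

/-! Generation of an odd-order group by the centralizers of the involutions of a four-group
acting on it (internal form). -/

set_option autoImplicit false

namespace Cfsg.Agent.Helper9Four

open scoped commutatorElement

variable {G : Type*} [Group G] [Finite G]

omit [Finite G] in
lemma inv_eq_self_of_sq {v : G} (hv : v * v = 1) : v⁻¹ = v := inv_eq_of_mul_eq_one_left hv

omit [Finite G] in
lemma mem_zpowers_invol {v : G} (hv : v * v = 1) (a : G) (ha : a ∈ Subgroup.zpowers v) :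
    a = 1 ∨ a = v := by
  obtain ⟨k, rfl⟩ := Subgroup.mem_zpowers_iff.1 ha
  have h2 : v ^ (2 : ℤ) = 1 := by
    have : v ^ (2 : ℤ) = v * v := by
      rw [show (2 : ℤ) = 1 + 1 by norm_num, zpow_add, zpow_one]
    rw [this, hv]
  have hk : k = k % 2 + 2 * (k / 2) := (Int.emod_add_mul_ediv k 2).symm
  have : v ^ k = v ^ (k % 2) := by
    conv_lhs => rw [hk, zpow_add, zpow_mul, h2, one_zpow, mul_one]
  rw [this]
  rcases Int.emod_two_eq_zero_or_one k with h | h
  · left; rw [h, zpow_zero]
  · right; rw [h, zpow_one]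

/-- lifting of fixed points of an involution -/
lemma lift_fixed (P N : Subgroup G) (hNP : N ≤ P) (hNodd : Odd (Nat.card N)) (v : G)
    (hv : v * v = 1) (hvN : v ∈ Subgroup.normalizer (N : Set G)) (u : G) (hu : u ∈ P)
    (h : u⁻¹ * (v * u * v) ∈ N) :
    u ∈ (P ⊓ Subgroup.centralizer {v}) ⊔ N := by
  have hA : Subgroup.zpowers v ≤ Subgroup.normalizer (N : Set G) := by
    rw [Subgroup.zpowers_le]; exact hvN
  have hcard : Nat.card (Subgroup.zpowers v) ∣ 2 := by
    rw [Nat.card_zpowers]
    exact orderOf_dvd_of_pow_eq_one (by rw [pow_two]; exact hv)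
  have hcop : (Nat.card (Subgroup.zpowers v)).Coprime (Nat.card N) :=
    Nat.Coprime.coprime_dvd_left hcard (Nat.coprime_two_left.2 hNodd)
  obtain ⟨d, hd, hc⟩ := Cfsg.Agent.Lib.Lead_Coprime.lemmaC N (Subgroup.zpowers v) hA hcop
    (Or.inl inferInstance) u (by
      intro a ha
      rcases mem_zpowers_invol hv a ha with rfl | rfl
      · simp
      · rw [inv_eq_self_of_sq hv]
        simpa [mul_assoc] using h)
  have hud : u * d ∈ P ⊓ Subgroup.centralizer {v} := by
    refine ⟨P.mul_mem hu (hNP hd), ?_⟩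
    show u * d ∈ Subgroup.centralizer {v}
    rw [Subgroup.mem_centralizer_singleton_iff]
    rw [Subgroup.mem_centralizer_iff] at hc
    exact (hc v (Subgroup.mem_zpowers v)).symm
  have : u = (u * d) * d⁻¹ := by group
  rw [this]
  exact Subgroup.mul_mem _ (Subgroup.mem_sup_left hud) (Subgroup.mem_sup_right (Subgroup.inv_mem _ hd))


omit [Finite G] in
lemma mem_comm_iff (P : Subgroup G) (w : P) :
    (w : G) ∈ (⁅P, P⁆ : Subgroup G) ↔ Abelianization.of w = 1 := by
  rw [← Subgroup.map_subtype_commutator]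
  show P.subtype w ∈ _ ↔ _
  rw [Subgroup.mem_map_iff_mem P.subtype_injective]
  rw [← MonoidHom.mem_ker, Abelianization.ker_of]

omit [Finite G] in
lemma conj_invol_mem {P : Subgroup G} {v : G} (hv : v * v = 1)
    (hvP : v ∈ Subgroup.normalizer (P : Set G)) {x : G} (hx : x ∈ P) : v * x * v ∈ P := by
  have := (Subgroup.mem_normalizer_iff.1 hvP x).1 hx
  rwa [inv_eq_self_of_sq hv] at this

theorem pgroup_gen (p : ℕ) [Fact p.Prime] (P : Subgroup G) (hP : IsPGroup p P)
    (hPodd : Odd (Nat.card P))
    (b z : G) (hb : b * b = 1) (hz : z * z = 1) (hbz : b * z = z * b)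
    (hbP : b ∈ Subgroup.normalizer (P : Set G)) (hzP : z ∈ Subgroup.normalizer (P : Set G)) :
    P ≤ (P ⊓ Subgroup.centralizer {b}) ⊔ (P ⊓ Subgroup.centralizer {z})
      ⊔ (P ⊓ Subgroup.centralizer {b * z}) := by
  set T := (P ⊓ Subgroup.centralizer {b}) ⊔ (P ⊓ Subgroup.centralizer {z})
      ⊔ (P ⊓ Subgroup.centralizer {b * z}) with hT
  have hTP : T ≤ P := sup_le (sup_le inf_le_left inf_le_left) inf_le_left
  have hNP : (⁅P, P⁆ : Subgroup G) ≤ P := Subgroup.commutator_le_self P
  have hNodd : Odd (Nat.card (⁅P, P⁆ : Subgroup G)) :=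
    Odd.of_dvd_nat hPodd (Subgroup.card_dvd_of_le hNP)
  have hbzsq : (b * z) * (b * z) = 1 := by
    calc (b * z) * (b * z) = b * (z * b) * z := by group
      _ = b * (b * z) * z := by rw [hbz]
      _ = (b * b) * (z * z) := by group
      _ = 1 := by rw [hb, hz, one_mul]
  have hbzP : b * z ∈ Subgroup.normalizer (P : Set G) := Subgroup.mul_mem _ hbP hzP
  have hnorm : ∀ v, v ∈ Subgroup.normalizer (P : Set G) →
      v ∈ Subgroup.normalizer ((⁅P, P⁆ : Subgroup G) : Set G) := by
    intro v hv
    have h1 : Subgroup.zpowers v ≤ Subgroup.normalizer (P : Set G) := by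
      rw [Subgroup.zpowers_le]; exact hv
    exact Cfsg.Agent.Lib.Lead_Coprime.le_normalizer_commutator _ P P h1 h1 (Subgroup.mem_zpowers v)
  -- the three part memberships
  have hS1 : P ⊓ Subgroup.centralizer {b} ≤ T := le_sup_of_le_left le_sup_left
  have hS2 : P ⊓ Subgroup.centralizer {z} ≤ T := le_sup_of_le_left le_sup_right
  have hS3 : P ⊓ Subgroup.centralizer {b * z} ≤ T := le_sup_right
  have stepA : ∀ x ∈ P, x * x ∈ T ⊔ ⁅P, P⁆ := by
    intro x hx
    have hBx : b * x * b ∈ P := conj_invol_mem hb hbP hx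
    have hZx : z * x * z ∈ P := conj_invol_mem hz hzP hx
    have hBZx : b * (z * x * z) * b ∈ P := conj_invol_mem hb hbP hZx
    set X : P := ⟨x, hx⟩ with hX
    set Bx : P := ⟨b * x * b, hBx⟩ with hBxd
    set Zx : P := ⟨z * x * z, hZx⟩ with hZxd
    set BZx : P := ⟨b * (z * x * z) * b, hBZx⟩ with hBZxd
    -- u₁
    have h1 : x * (b * x * b) ∈ T ⊔ ⁅P, P⁆ := by
      have := lift_fixed P ⁅P, P⁆ hNP hNodd b hb (hnorm b hbP) (x * (b * x * b)) (P.mul_mem hx hBx) (by
        have e : (x * (b * x * b))⁻¹ * (b * (x * (b * x * b)) * b)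
            = ((X * Bx)⁻¹ * (Bx * X) : P) := by
          have : b * (x * (b * x * b)) * b = (b * x * b) * x * (b * b) := by simp only [mul_assoc]
          rw [this, hb, mul_one]
          simp [hX, hBxd]
        rw [e, mem_comm_iff]
        rw [map_mul, map_inv, inv_mul_eq_one, map_mul, map_mul]
        ac_rfl)
      exact sup_le_sup_right hS1 _ this
    have h2 : x * (z * x * z) ∈ T ⊔ ⁅P, P⁆ := by
      have := lift_fixed P ⁅P, P⁆ hNP hNodd z hz (hnorm z hzP) (x * (z * x * z)) (P.mul_mem hx hZx) (by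
        have e : (x * (z * x * z))⁻¹ * (z * (x * (z * x * z)) * z)
            = ((X * Zx)⁻¹ * (Zx * X) : P) := by
          have : z * (x * (z * x * z)) * z = (z * x * z) * x * (z * z) := by simp only [mul_assoc]
          rw [this, hz, mul_one]
          simp [hX, hZxd]
        rw [e, mem_comm_iff]
        rw [map_mul, map_inv, inv_mul_eq_one, map_mul, map_mul]
        ac_rfl)
      exact sup_le_sup_right hS2 _ this
    have hbzx : b * z * x * (b * z) = b * (z * x * z) * b := by
      calc b * z * x * (b * z) = b * z * x * (z * b) := by rw [hbz]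
        _ = b * (z * x * z) * b := by simp only [mul_assoc]
    have h3 : x * (b * (z * x * z) * b) ∈ T ⊔ ⁅P, P⁆ := by
      have := lift_fixed P ⁅P, P⁆ hNP hNodd (b * z) hbzsq (hnorm _ hbzP) (x * (b * (z * x * z) * b))
        (P.mul_mem hx hBZx) (by
        have e : (x * (b * (z * x * z) * b))⁻¹ * (b * z * (x * (b * (z * x * z) * b)) * (b * z))
            = ((X * BZx)⁻¹ * (BZx * X) : P) := by
          have : b * z * (x * (b * (z * x * z) * b)) * (b * z)
              = (b * z * x * (b * z)) * x * ((b * z) * (b * z)) := by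
            rw [← hbzx]; simp only [mul_assoc]
          rw [this, hbzsq, mul_one, hbzx]
          simp [hX, hBZxd]
        rw [e, mem_comm_iff]
        rw [map_mul, map_inv, inv_mul_eq_one, map_mul, map_mul]
        ac_rfl)
      exact sup_le_sup_right hS3 _ this
    have h4 : x * (b * x * b) * (z * x * z) * (b * (z * x * z) * b) ∈ T ⊔ ⁅P, P⁆ := by
      have := lift_fixed P ⁅P, P⁆ hNP hNodd b hb (hnorm b hbP)
        (x * (b * x * b) * (z * x * z) * (b * (z * x * z) * b))
        (P.mul_mem (P.mul_mem (P.mul_mem hx hBx) hZx) hBZx) (by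
        have e : (x * (b * x * b) * (z * x * z) * (b * (z * x * z) * b))⁻¹ *
            (b * (x * (b * x * b) * (z * x * z) * (b * (z * x * z) * b)) * b)
            = ((X * Bx * Zx * BZx)⁻¹ * (Bx * X * BZx * Zx) : P) := by
          have : b * (x * (b * x * b) * (z * x * z) * (b * (z * x * z) * b)) * b
              = (b * x * b) * x * (b * (z * x * z) * b) * (z * x * z) * (b * b) := by
            simp only [mul_assoc]
          rw [this, hb, mul_one]
          simp [hX, hBxd, hZxd, hBZxd]
        rw [e, mem_comm_iff]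
        rw [map_mul, map_inv, inv_mul_eq_one]
        simp only [map_mul]
        ac_rfl)
      exact sup_le_sup_right hS1 _ this
    -- combine
    have h5 : (x * x * (x * (b * x * b) * (z * x * z) * (b * (z * x * z) * b)))⁻¹ *
        ((x * (b * x * b)) * (x * (z * x * z)) * (x * (b * (z * x * z) * b))) ∈ (⁅P, P⁆ : Subgroup G) := by
      have e : (x * x * (x * (b * x * b) * (z * x * z) * (b * (z * x * z) * b)))⁻¹ *
        ((x * (b * x * b)) * (x * (z * x * z)) * (x * (b * (z * x * z) * b)))
          = ((X * X * (X * Bx * Zx * BZx))⁻¹ * ((X * Bx) * (X * Zx) * (X * BZx)) : P) := by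
        simp [hX, hBxd, hZxd, hBZxd]
      rw [e, mem_comm_iff]
      rw [map_mul, map_inv, inv_mul_eq_one]
      simp only [map_mul]
      ac_rfl
    set n := x * (b * x * b) * (z * x * z) * (b * (z * x * z) * b) with hn
    set u := (x * (b * x * b)) * (x * (z * x * z)) * (x * (b * (z * x * z) * b)) with hu
    have hu' : u ∈ T ⊔ ⁅P, P⁆ := Subgroup.mul_mem _ (Subgroup.mul_mem _ h1 h2) h3
    have h6 : x * x * n ∈ T ⊔ ⁅P, P⁆ := by
      have : x * x * n = u * ((x * x * n)⁻¹ * u)⁻¹ := by
        rw [mul_inv_rev, inv_inv, mul_inv_cancel_left]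
      rw [this]
      exact Subgroup.mul_mem _ hu' (Subgroup.inv_mem _ (Subgroup.mem_sup_right h5))
    have : x * x = (x * x * n) * n⁻¹ := by rw [mul_inv_cancel_right]
    rw [this]
    exact Subgroup.mul_mem _ h6 (Subgroup.inv_mem _ h4)
  have stepB : P ≤ T ⊔ ⁅P, P⁆ := by
    intro x hx
    have hxodd : Odd (orderOf x) := Odd.of_dvd_nat hPodd (Subgroup.orderOf_dvd_natCard P hx)
    obtain ⟨m, hm⟩ := hxodd
    have : x = (x * x) ^ (m + 1) := by
      rw [← pow_two, ← pow_mul]
      have : 2 * (m + 1) = orderOf x + 1 := by omega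
      rw [this, pow_succ, pow_orderOf_eq_one, one_mul]
    rw [this]
    exact Subgroup.pow_mem _ (stepA x hx) _
  -- Frattini argument
  by_contra hcon
  have hne : T.subgroupOf P ≠ ⊤ := by
    intro h
    apply hcon
    rw [Subgroup.subgroupOf_eq_top] at h
    exact h
  obtain ⟨M, hM, hTM⟩ := (eq_top_or_exists_le_coatom (T.subgroupOf P)).resolve_left hne
  have hTM' : T ≤ M.map P.subtype := by
    intro t ht
    exact ⟨⟨t, hTP ht⟩, hTM ht, rfl⟩
  have hNM : (⁅P, P⁆ : Subgroup G) ≤ M.map P.subtype := by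
    rw [Subgroup.commutator_le]
    intro g₁ h₁ g₂ h₂
    have := Cfsg.Agent.Lib.Helper7_PFrattini.comm_mem_frattini hP (⟨g₁, h₁⟩ : P) ⟨g₂, h₂⟩
    have := frattini_le_coatom hM this
    exact ⟨_, this, by simp [commutatorElement_def]⟩
  have hall : P ≤ M.map P.subtype := stepB.trans (sup_le hTM' hNM)
  apply hM.1
  rw [eq_top_iff]
  intro w _
  obtain ⟨w', hw', hww⟩ := hall w.2
  have : w' = w := Subtype.ext hww
  rw [← this]; exact hw'


omit [Finite G] in
lemma closure_pair_comm (b z : G) (hbz : b * z = z * b) :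
    ∀ x ∈ Subgroup.closure ({b, z} : Set G), ∀ y ∈ Subgroup.closure ({b, z} : Set G),
      x * y = y * x := by
  have hk : ∀ x ∈ ({b, z} : Set G), ∀ y ∈ ({b, z} : Set G), x * y = y * x := by
    intro x hx y hy
    rcases hx with rfl | rfl <;> rcases hy with rfl | rfl
    · rfl
    · exact hbz
    · exact hbz.symm
    · rfl
  intro x hx y hy
  letI := Subgroup.closureCommGroupOfComm hk
  have := mul_comm (⟨x, hx⟩ : Subgroup.closure ({b, z} : Set G)) ⟨y, hy⟩
  exact congrArg Subtype.val this

omit [Finite G] in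
lemma closure_pair_sq (b z : G) (hb : b * b = 1) (hz : z * z = 1) (hbz : b * z = z * b) :
    ∀ x ∈ Subgroup.closure ({b, z} : Set G), x * x = 1 := by
  intro x hx
  induction hx using Subgroup.closure_induction with
  | mem x hx =>
    rcases hx with rfl | rfl
    · exact hb
    · exact hz
  | one => simp
  | mul x y hx hy ihx ihy =>
    have hc := closure_pair_comm b z hbz x hx y hy
    calc x * y * (x * y) = x * (y * x) * y := by simp only [mul_assoc]
      _ = x * (x * y) * y := by rw [hc]
      _ = (x * x) * (y * y) := by simp only [mul_assoc]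
      _ = 1 := by rw [ihx, ihy, one_mul]
  | inv x hx ih =>
    have : x⁻¹ = x := inv_eq_of_mul_eq_one_left ih
    rw [this, ih]

/-- An odd-order subgroup normalized by a four-group `⟨b, z⟩` is generated by the centralizers
of `b`, `z` and `b * z`. -/
theorem four_gen (K : Subgroup G) (hK : Odd (Nat.card K))
    (b z : G) (hb : b * b = 1) (hz : z * z = 1) (hbz : b * z = z * b)
    (hbK : b ∈ Subgroup.normalizer (K : Set G)) (hzK : z ∈ Subgroup.normalizer (K : Set G)) :
    K = (K ⊓ Subgroup.centralizer {b}) ⊔ (K ⊓ Subgroup.centralizer {z})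
      ⊔ (K ⊓ Subgroup.centralizer {b * z}) := by
  set T := (K ⊓ Subgroup.centralizer {b}) ⊔ (K ⊓ Subgroup.centralizer {z})
      ⊔ (K ⊓ Subgroup.centralizer {b * z}) with hT
  have hTK : T ≤ K := sup_le (sup_le inf_le_left inf_le_left) inf_le_left
  set A := Subgroup.closure ({b, z} : Set G) with hA
  have hAK : A ≤ Subgroup.normalizer (K : Set G) := by
    rw [hA, Subgroup.closure_le]
    rintro x (rfl | rfl)
    · exact hbK
    · exact hzK
  have hA2 : IsPGroup 2 A := by
    intro g
    refine ⟨1, ?_⟩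
    apply Subtype.ext
    have := closure_pair_sq b z hb hz hbz g g.2
    simpa [pow_two] using this
  have hcop : (Nat.card A).Coprime (Nat.card K) := by
    obtain ⟨n, hn⟩ := hA2.exists_card_eq
    rw [hn]
    exact Nat.Coprime.pow_left n (Nat.coprime_two_left.2 hK)
  have hsolv : Group.IsSolvable A := by
    apply isSolvable_of_comm
    intro x y
    exact Subtype.ext (closure_pair_comm b z hbz x x.2 y y.2)
  have hbA : b ∈ A := Subgroup.subset_closure (by simp)
  have hzA : z ∈ A := Subgroup.subset_closure (by simp)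
  -- each invariant Sylow is inside T
  have hsyl : ∀ p : ℕ, p.Prime → (Nat.card K).factorization p ≤ (Nat.card T).factorization p := by
    intro p hp
    haveI := Fact.mk hp
    obtain ⟨P, hPA⟩ := Cfsg.Agent.Lib.Lead_Coprime.exists_invariant_sylow A K hAK hcop (Or.inl hsolv) p
    set P' := (P : Subgroup K).map K.subtype with hP'
    have hP'K : P' ≤ K := Subgroup.map_subtype_le _
    have hP'p : IsPGroup p P' := P.isPGroup'.map _
    have hP'odd : Odd (Nat.card P') := Odd.of_dvd_nat hK (Subgroup.card_dvd_of_le hP'K)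
    have hle := pgroup_gen p P' hP'p hP'odd b z hb hz hbz (hPA hbA) (hPA hzA)
    have hP'T : P' ≤ T := by
      refine hle.trans ?_
      apply sup_le_sup (sup_le_sup ?_ ?_) ?_
      · exact inf_le_inf_right _ hP'K
      · exact inf_le_inf_right _ hP'K
      · exact inf_le_inf_right _ hP'K
    have hcard : Nat.card P' = p ^ (Nat.card K).factorization p := by
      rw [hP', Subgroup.card_map_of_injective K.subtype_injective]
      exact P.card_eq_multiplicity
    have hdvd : p ^ (Nat.card K).factorization p ∣ Nat.card T := by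
      rw [← hcard]; exact Subgroup.card_dvd_of_le hP'T
    exact (hp.pow_dvd_iff_le_factorization (Nat.card_pos.ne')).1 hdvd
  have hdvd : Nat.card K ∣ Nat.card T :=
    (Nat.factorization_prime_le_iff_dvd (Nat.card_pos.ne') (Nat.card_pos.ne')).1 hsyl
  exact (Subgroup.eq_of_le_of_card_ge hTK (Nat.le_of_dvd Nat.card_pos hdvd)).symm

end Cfsg.Agent.Helper9Four
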