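import Mathlib
import Cfsg.Agent.Lib.Helper5_CharP
import Cfsg.Agent.Lib.Helper5_PPrime
import Cfsg.Agent.Lib.Helper3_PrimPairExist
import Cfsg.Agent.Lib.Helper9_Four
import Cfsg.Agent.Lib.Lead_SZ

/-! Normal four-subgroups of a Sylow 2-subgroup in groups of characteristic 2 type (helper3). -/

set_option autoImplicit false

namespace Cfsg.Agent.Lib.Helper3_NGroupFour

open Cfsg Cfsg.Agent.Lib.Helper5_CharP Cfsg.Agent.Lib.Helper3_PrimPairExist

variable {G : Type*} [Group G] [Finite G]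

/-- a subgroup `U` normalized by `O_2(H)` and meeting it in at most `⟨z⟩`, `z` central, lies in
`O_2(H)` when `H` has characteristic 2 -/
theorem L1 (H U : Subgroup G) (hchar : CharPSub 2 H) (z : G) (hz2 : z * z = 1)
    (hzc : ∀ h ∈ H, h * z = z * h) (hUH : U ≤ H)
    (hQU : ∀ q ∈ pCoreOf 2 H, ∀ a ∈ U, q * a * q⁻¹ ∈ U)
    (hdich : ∀ a ∈ U, a ∈ pCoreOf 2 H → a ≠ 1 → a ≠ z → U ≤ pCoreOf 2 H) :
    U ≤ pCoreOf 2 H := by
  classical
  haveI : Fact (Nat.Prime 2) := ⟨Nat.prime_two⟩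
  set Q := pCoreOf 2 H with hQ
  by_cases hex : ∃ a ∈ U, a ∈ Q ∧ a ≠ 1 ∧ a ≠ z
  · obtain ⟨a, haU, haQ, ha1, haz⟩ := hex
    exact hdich a haU haQ ha1 haz
  push Not at hex
  have hQH : Q ≤ H := pCoreOf_le 2 H
  have hHQ : H ≤ Subgroup.normalizer (Q : Set G) := le_normalizer_pCoreOf 2 H
  have hQp : IsPGroup 2 Q := pCoreOf_isPGroup 2 H
  have hZc : ∀ c ∈ Subgroup.zpowers z, ∀ h ∈ H, h * c * h⁻¹ = c := by
    intro c hc h hh
    obtain ⟨k, rfl⟩ := Subgroup.mem_zpowers_iff.mp hc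
    have h1 : Commute h z := hzc h hh
    have h2 : Commute h (z ^ k) := h1.zpow_right k
    rw [h2.eq]; group
  have hZ2 : ∀ c ∈ Subgroup.zpowers z, c * c = 1 := by
    intro c hc
    obtain ⟨k, rfl⟩ := Subgroup.mem_zpowers_iff.mp hc
    have h1 : z ^ (2 : ℤ) = 1 := by rw [zpow_two]; exact hz2
    rw [← zpow_add, ← two_mul, zpow_mul, h1, one_zpow]
  let A : Subgroup G :=
    { carrier := {h | h ∈ H ∧ ∀ q ∈ Q, h * q * h⁻¹ * q⁻¹ ∈ Subgroup.zpowers z}
      one_mem' := ⟨H.one_mem, fun q _ => by simp⟩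
      mul_mem' := by
        rintro h1 h2 ⟨hh1, hc1⟩ ⟨hh2, hc2⟩
        refine ⟨H.mul_mem hh1 hh2, fun q hq => ?_⟩
        have e : h1 * h2 * q * (h1 * h2)⁻¹ * q⁻¹ =
            (h1 * (h2 * q * h2⁻¹ * q⁻¹) * h1⁻¹) * (h1 * q * h1⁻¹ * q⁻¹) := by group
        rw [e, hZc _ (hc2 q hq) h1 hh1]
        exact Subgroup.mul_mem _ (hc2 q hq) (hc1 q hq)
      inv_mem' := by
        rintro h ⟨hh, hc⟩
        refine ⟨H.inv_mem hh, fun q hq => ?_⟩
        have hq' : h⁻¹ * q * h ∈ Q := conj_mem_of_mem_normalizer' (hHQ hh) hq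
        have h1 := hc _ hq'
        have e1 : h * (h⁻¹ * q * h) * h⁻¹ * (h⁻¹ * q * h)⁻¹ = q * (h⁻¹ * q * h)⁻¹ := by group
        rw [e1] at h1
        have e2 : h⁻¹ * q * h⁻¹⁻¹ * q⁻¹ = (q * (h⁻¹ * q * h)⁻¹)⁻¹ := by group
        rw [e2]
        exact Subgroup.inv_mem _ h1 }
  have hAmem : ∀ h, h ∈ A ↔ (h ∈ H ∧ ∀ q ∈ Q, h * q * h⁻¹ * q⁻¹ ∈ Subgroup.zpowers z) :=
    fun h => Iff.rfl
  have hAH : A ≤ H := fun h hh => ((hAmem h).mp hh).1
  have hconj : ∀ g ∈ H, ∀ h ∈ A, g * h * g⁻¹ ∈ A := by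
    intro g hg h hh
    obtain ⟨hhH, hhc⟩ := (hAmem h).mp hh
    rw [hAmem]
    refine ⟨H.mul_mem (H.mul_mem hg hhH) (H.inv_mem hg), fun q hq => ?_⟩
    have hq' : g⁻¹ * q * g ∈ Q := conj_mem_of_mem_normalizer' (hHQ hg) hq
    have e : g * h * g⁻¹ * q * (g * h * g⁻¹)⁻¹ * q⁻¹ =
        g * (h * (g⁻¹ * q * g) * h⁻¹ * (g⁻¹ * q * g)⁻¹) * g⁻¹ := by group
    rw [e, hZc _ (hhc _ hq') g hg]
    exact hhc _ hq'
  have hAn : H ≤ Subgroup.normalizer (A : Set G) := by
    intro g hg
    apply mem_normalizer_of_forall_conj_mem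
    · exact hconj g hg
    · intro h hh
      have := hconj g⁻¹ (H.inv_mem hg) h hh
      simpa using this
  have hAp : IsPGroup 2 A := by
    rintro ⟨h, hh⟩
    obtain ⟨hhH, hhc⟩ := (hAmem h).mp hh
    have hsq : h * h ∈ Q := by
      apply hchar
      refine Subgroup.mem_inf.mpr ⟨H.mul_mem hhH hhH, ?_⟩
      rw [Subgroup.mem_centralizer_iff]
      intro q hq
      have hc := hhc q hq
      have e : h * h * q * (h * h)⁻¹ =
          (h * (h * q * h⁻¹ * q⁻¹) * h⁻¹) * (h * q * h⁻¹ * q⁻¹) * q := by group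
      rw [hZc _ hc h hhH, hZ2 _ hc, one_mul] at e
      exact (mul_inv_eq_iff_eq_mul.mp e).symm
    obtain ⟨k, hk⟩ := hQp ⟨h * h, hsq⟩
    have hk' : (h * h) ^ 2 ^ k = 1 := by
      have := congrArg Subtype.val hk
      simpa using this
    refine ⟨k + 1, Subtype.ext ?_⟩
    show h ^ 2 ^ (k + 1) = 1
    rw [pow_succ, mul_comm, pow_mul, pow_two]
    exact hk'
  have hAQ : A ≤ Q := le_pCoreOf hAH hAp hAn
  intro a haU
  apply hAQ
  rw [hAmem]
  refine ⟨hUH haU, fun q hq => ?_⟩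
  have h1 : a * q * a⁻¹ * q⁻¹ ∈ Q :=
    Q.mul_mem (conj_mem_of_mem_normalizer (hHQ (hUH haU)) hq) (Q.inv_mem hq)
  have h2 : a * q * a⁻¹ * q⁻¹ ∈ U := by
    have := hQU q hq a⁻¹ (U.inv_mem haU)
    have e : a * q * a⁻¹ * q⁻¹ = a * (q * a⁻¹ * q⁻¹) := by group
    rw [e]; exact U.mul_mem haU this
  by_cases h3 : a * q * a⁻¹ * q⁻¹ = 1
  · rw [h3]; exact Subgroup.one_mem _
  · rw [hex _ h2 h1 h3]; exact Subgroup.mem_zpowers z

/-- if `U ≤ O_2(H)` then `U` centralizes every odd-order subgroup `D ≤ H` of a `U`-invariant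
odd-order group `K` -/
theorem L2 (H U K : Subgroup G) (hUQ : U ≤ pCoreOf 2 H) (hK : Odd (Nat.card K))
    (hUK : U ≤ Subgroup.normalizer (K : Set G)) (D : Subgroup G) (hDK : D ≤ K) (hDH : D ≤ H) :
    ∀ a ∈ U, ∀ d ∈ D, a * d = d * a := by
  haveI : Fact (Nat.Prime 2) := ⟨Nat.prime_two⟩
  intro a ha d hd
  have hHQ := le_normalizer_pCoreOf 2 H
  have h1 : a * d * a⁻¹ * d⁻¹ ∈ K :=
    K.mul_mem (conj_mem_of_mem_normalizer (hUK ha) (hDK hd)) (K.inv_mem (hDK hd))
  have h2 : a * d * a⁻¹ * d⁻¹ ∈ pCoreOf 2 H := by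
    have := conj_mem_of_mem_normalizer (hHQ (hDH hd)) ((pCoreOf 2 H).inv_mem (hUQ ha))
    have e : a * d * a⁻¹ * d⁻¹ = a * (d * a⁻¹ * d⁻¹) := by group
    rw [e]; exact Subgroup.mul_mem _ (hUQ ha) this
  have h3 : pCoreOf 2 H ⊓ K = ⊥ :=
    Cfsg.Agent.Lib.Helper5_PPrime.inf_eq_bot_of_pGroup_of_coprime (pCoreOf_isPGroup 2 H)
      (Nat.coprime_two_left.mpr hK).symm
  have h4 : a * d * a⁻¹ * d⁻¹ = 1 := by
    have : a * d * a⁻¹ * d⁻¹ ∈ pCoreOf 2 H ⊓ K := Subgroup.mem_inf.mpr ⟨h2, h1⟩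
    rw [h3] at this; exact Subgroup.mem_bot.mp this
  have h5 := mul_inv_eq_one.mp h4
  exact mul_inv_eq_iff_eq_mul.mp h5

/-- a finite cyclic group has at most one involution -/
theorem cyclic_invol {C : Type*} [Group C] [Finite C] [IsCyclic C] (x y : C) (hx : x * x = 1)
    (hy : y * y = 1) (hy1 : y ≠ 1) : x = 1 ∨ x = y := by
  classical
  by_contra hcon
  push Not at hcon
  haveI := Fintype.ofFinite C
  have h := IsCyclic.card_pow_eq_one_le (α := C) (n := 2) (by norm_num)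
  have hsub : ({1, x, y} : Finset C) ⊆ Finset.univ.filter (fun a : C => a ^ 2 = 1) := by
    intro a ha
    simp only [Finset.mem_insert, Finset.mem_singleton] at ha
    simp only [Finset.mem_filter, Finset.mem_univ, true_and]
    rcases ha with rfl | rfl | rfl
    · simp
    · rw [pow_two]; exact hx
    · rw [pow_two]; exact hy
  have hcard : ({1, x, y} : Finset C).card = 3 := by
    rw [Finset.card_insert_of_notMem, Finset.card_insert_of_notMem, Finset.card_singleton]
    · simp only [Finset.mem_singleton]; exact hcon.2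
    · simp only [Finset.mem_insert, Finset.mem_singleton, not_or]
      exact ⟨fun h => hcon.1 h.symm, fun h => hy1 h.symm⟩
  have := Finset.card_le_card hsub
  omega

omit [Finite G] in
/-- elements normalizing `⟨v⟩`, `v` an involution, centralize `v` -/
theorem conj_eq_of_mem_normalizer {v g : G} (hv : v * v = 1) (hv1 : v ≠ 1)
    (hg : g ∈ Subgroup.normalizer ((Subgroup.zpowers v : Subgroup G) : Set G)) :
    g * v * g⁻¹ = v := by
  have h1 : g * v * g⁻¹ ∈ Subgroup.zpowers v :=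
    conj_mem_of_mem_normalizer hg (Subgroup.mem_zpowers v)
  rcases Cfsg.Agent.Helper9Four.mem_zpowers_invol hv _ h1 with h | h
  · exfalso; apply hv1
    have : v = g⁻¹ * (g * v * g⁻¹) * g := by group
    rw [this, h]; group
  · exact h

omit [Finite G] in
/-- elements centralizing `v` normalize `⟨v⟩` -/
theorem mem_normalizer_of_comm {v g : G} (hg : g * v = v * g) :
    g ∈ Subgroup.normalizer ((Subgroup.zpowers v : Subgroup G) : Set G) := by
  have hc : Commute g v := hg
  apply mem_normalizer_of_forall_conj_mem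
  · intro h hh
    obtain ⟨k, rfl⟩ := Subgroup.mem_zpowers_iff.mp hh
    have h2 : Commute g (v ^ k) := hc.zpow_right k
    rw [h2.eq, mul_inv_cancel_right]
    exact Subgroup.zpow_mem _ (Subgroup.mem_zpowers v) k
  · intro h hh
    obtain ⟨k, rfl⟩ := Subgroup.mem_zpowers_iff.mp hh
    have h2 : Commute g⁻¹ (v ^ k) := (hc.zpow_right k).inv_left
    rw [h2.eq, mul_assoc, inv_mul_cancel, mul_one]
    exact Subgroup.zpow_mem _ (Subgroup.mem_zpowers v) k


/-- `O_2(N_G(⟨v⟩))` normalizes `U` for every involution `v` of the normal four-subgroup `U` of the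
Sylow 2-subgroup `P` -/
theorem core_normalizes (P : Sylow 2 G) (U : Subgroup G) (hUP : U ≤ (P : Subgroup G))
    (hUn : (P : Subgroup G) ≤ Subgroup.normalizer (U : Set G))
    (hUZ : ¬ IsCyclic ↥((P : Subgroup G) ⊓ Subgroup.centralizer ((P : Subgroup G) : Set G)) →
      U ≤ Subgroup.centralizer ((P : Subgroup G) : Set G))
    (z v : G) (hz2 : z * z = 1) (hz1 : z ≠ 1) (hzU : z ∈ U)
    (hzZ : z ∈ Subgroup.centralizer ((P : Subgroup G) : Set G))
    (hvU : v ∈ U) (hv1 : v ≠ 1)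
    (hU : ∀ a ∈ U, a = 1 ∨ a = z ∨ a = v ∨ a = z * v)
    (hsq : ∀ a ∈ U, a * a = 1) (hcomm : ∀ a ∈ U, ∀ b ∈ U, a * b = b * a) :
    pCoreOf 2 (Subgroup.normalizer ((Subgroup.zpowers v : Subgroup G) : Set G)) ≤
      Subgroup.normalizer (U : Set G) := by
  classical
  haveI : Fact (Nat.Prime 2) := ⟨Nat.prime_two⟩
  set N := Subgroup.normalizer ((Subgroup.zpowers v : Subgroup G) : Set G) with hN
  have hv2 : v * v = 1 := hsq v hvU
  have hzc : ∀ s ∈ (P : Subgroup G), s * z = z * s :=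
    fun s hs => Subgroup.mem_centralizer_iff.mp hzZ s hs
  by_cases hPN : (P : Subgroup G) ≤ N
  · have hS : IsSylIn 2 (P : Subgroup G) N :=
      ⟨hPN, P.isPGroup', fun T hT hPT _ => P.is_maximal' hT hPT⟩
    exact (sylIn_op_le hS).trans hUn
  obtain ⟨t, htP, htN⟩ := SetLike.not_le_iff_exists.mp hPN
  have htv : t * v * t⁻¹ ≠ v := by
    intro h
    exact htN (mem_normalizer_of_comm (mul_inv_eq_iff_eq_mul.mp h))
  have hvz : v ≠ z := by
    rintro rfl
    apply htv
    rw [hzc t htP, mul_inv_cancel_right]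
  have hzv_ne : z * v ≠ v := by
    intro h
    apply hz1
    exact mul_right_cancel (h.trans (one_mul v).symm)
  have hconjP : ∀ s ∈ (P : Subgroup G), s * v * s⁻¹ = v ∨ s * v * s⁻¹ = z * v := by
    intro s hs
    have hmem : s * v * s⁻¹ ∈ U := conj_mem_of_mem_normalizer (hUn hs) hvU
    rcases hU _ hmem with h | h | h | h
    · exfalso; apply hv1
      have : v = s⁻¹ * (s * v * s⁻¹) * s := by group
      rw [this, h]; group
    · exfalso; apply hvz
      have : v = s⁻¹ * (s * v * s⁻¹) * s := by group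
      rw [this, h]
      have := hzc s⁻¹ (Subgroup.inv_mem _ hs)
      rw [this]; group
    · exact Or.inl h
    · exact Or.inr h
  have htv' : t * v * t⁻¹ = z * v := by
    rcases hconjP t htP with h | h
    · exact absurd h htv
    · exact h
  have hcyc : IsCyclic ↥((P : Subgroup G) ⊓ Subgroup.centralizer ((P : Subgroup G) : Set G)) := by
    by_contra hnc
    have h1 := hUZ hnc hvU
    have h2 := Subgroup.mem_centralizer_iff.mp h1 t htP
    exact htv (by rw [h2, mul_inv_cancel_right])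
  set P0 := (P : Subgroup G) ⊓ N with hP0
  have hP0mem : ∀ s ∈ (P : Subgroup G), (s ∈ P0 ↔ s * v * s⁻¹ = v) := by
    intro s hs
    constructor
    · intro h; exact conj_eq_of_mem_normalizer hv2 hv1 (Subgroup.mem_inf.mp h).2
    · intro h
      exact Subgroup.mem_inf.mpr ⟨hs, mem_normalizer_of_comm (mul_inv_eq_iff_eq_mul.mp h)⟩
  have hUP0 : U ≤ P0 := fun a ha =>
    Subgroup.mem_inf.mpr ⟨hUP ha, mem_normalizer_of_comm (hcomm a ha v hvU)⟩
  have hidx : (P0.subgroupOf (P : Subgroup G)).index = 2 := by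
    rw [Subgroup.index_eq_two_iff]
    refine ⟨⟨t, htP⟩, fun b => ?_⟩
    have hb1 : (b ∈ P0.subgroupOf (P : Subgroup G)) ↔ (b : G) * v * (b : G)⁻¹ = v := by
      rw [Subgroup.mem_subgroupOf]; exact hP0mem _ b.2
    have hb2 : (b * ⟨t, htP⟩ ∈ P0.subgroupOf (P : Subgroup G)) ↔
        (b : G) * v * (b : G)⁻¹ = z * v := by
      rw [Subgroup.mem_subgroupOf]
      have hbt : ((b * ⟨t, htP⟩ : ↥(P : Subgroup G)) : G) = (b : G) * t := rfl
      rw [hbt, hP0mem _ (Subgroup.mul_mem _ b.2 htP)]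
      have e : (b : G) * t * v * ((b : G) * t)⁻¹ = (b : G) * (t * v * t⁻¹) * (b : G)⁻¹ := by group
      rw [e, htv']
      have e2 : (b : G) * (z * v) * (b : G)⁻¹ = z * ((b : G) * v * (b : G)⁻¹) := by
        rw [← mul_assoc, hzc _ b.2]; group
      rw [e2]
      constructor
      · intro h
        have : (b : G) * v * (b : G)⁻¹ = z * (z * ((b : G) * v * (b : G)⁻¹)) := by
          rw [← mul_assoc, hz2, one_mul]
        rw [this, h]
      · intro h
        rw [h, ← mul_assoc, hz2, one_mul]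
    rw [hb1, hb2]
    rcases hconjP _ b.2 with h | h
    · right; exact ⟨h, by rw [h]; exact fun h' => hzv_ne h'.symm⟩
    · left; exact ⟨h, by rw [h]; exact hzv_ne⟩
  have hcardP : Nat.card (P : Subgroup G) = Nat.card P0 * 2 := by
    have h1 := Subgroup.card_mul_index (P0.subgroupOf (P : Subgroup G))
    rw [hidx] at h1
    have h2 : Nat.card (P0.subgroupOf (P : Subgroup G)) = Nat.card P0 :=
      Nat.card_congr (Subgroup.subgroupOfEquivOfLe (inf_le_left : P0 ≤ (P : Subgroup G))).toEquiv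
    rw [h2] at h1; exact h1.symm
  have hP0p : IsPGroup 2 P0 := P.isPGroup'.to_le inf_le_left
  obtain ⟨T, hP0T, hTsyl⟩ : ∃ T : Subgroup G, P0 ≤ T ∧ IsSylIn 2 T N := by
    have hfin : ({T : Subgroup G | IsPGroup 2 T ∧ T ≤ N} : Set (Subgroup G)).Finite :=
      Set.toFinite _
    obtain ⟨T, hle, hmax⟩ := hfin.exists_le_maximal (a := P0) ⟨hP0p, inf_le_right⟩
    refine ⟨T, hle, hmax.1.2, hmax.1.1, ?_⟩
    intro V hV hTV hVN
    exact le_antisymm (hmax.2 ⟨hV, hVN⟩ hTV) hTV
  refine (sylIn_op_le hTsyl).trans ?_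
  have hTp := hTsyl.2.1
  have hTN := hTsyl.1
  have hdvd1 : Nat.card P0 ∣ Nat.card T := Subgroup.card_dvd_of_le hP0T
  obtain ⟨P', hP'⟩ := hTp.exists_le_sylow
  have hcardP' : Nat.card (P' : Subgroup G) = Nat.card (P : Subgroup G) :=
    (P'.card_eq_multiplicity).trans (P.card_eq_multiplicity).symm
  have hdvd2 : Nat.card T ∣ Nat.card P0 * 2 := by
    rw [← hcardP, ← hcardP']; exact Subgroup.card_dvd_of_le hP'
  have hcases : Nat.card T = Nat.card P0 ∨ Nat.card T = Nat.card P0 * 2 := by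
    obtain ⟨k, hk⟩ := hdvd1
    rw [hk] at hdvd2 ⊢
    have hpos : 0 < Nat.card P0 := Nat.card_pos
    have hk2 : k ∣ 2 := (Nat.mul_dvd_mul_iff_left hpos).mp hdvd2
    rcases (Nat.dvd_prime Nat.prime_two).mp hk2 with rfl | rfl
    · left; ring
    · right; ring
  rcases hcases with hc | hc
  · have hTP0 : P0 = T := Subgroup.eq_of_le_of_card_ge hP0T (le_of_eq hc)
    rw [← hTP0]; exact inf_le_left.trans hUn
  · have hTP' : T = (P' : Subgroup G) :=
      Subgroup.eq_of_le_of_card_ge hP' (by rw [hcardP', hcardP, hc])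
    obtain ⟨g, hg⟩ := MulAction.exists_smul_eq G P P'
    have hTg : ∀ x, x ∈ T ↔ g⁻¹ * x * g ∈ (P : Subgroup G) := by
      intro x
      rw [hTP', ← hg, Sylow.coe_subgroup_smul, Cfsg.Agent.Lib.Lead_SZ.mem_conj_smul]
    have hidxT : (P0.subgroupOf T).index = 2 := by
      have h1 := Subgroup.card_mul_index (P0.subgroupOf T)
      have h2 : Nat.card (P0.subgroupOf T) = Nat.card P0 :=
        Nat.card_congr (Subgroup.subgroupOfEquivOfLe hP0T).toEquiv
      rw [h2, hc] at h1
      exact Nat.eq_of_mul_eq_mul_left Nat.card_pos h1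
    have key : ∀ r ∈ T, ∀ s ∈ T, (r * s ∈ P0 ↔ (r ∈ P0 ↔ s ∈ P0)) := by
      intro r hr s hs
      have := Subgroup.mul_mem_iff_of_index_two hidxT (a := ⟨r, hr⟩) (b := ⟨s, hs⟩)
      simpa [Subgroup.mem_subgroupOf] using this
    have hTv : ∀ r ∈ T, r * v * r⁻¹ = v :=
      fun r hr => conj_eq_of_mem_normalizer hv2 hv1 (hTN hr)
    have hzP0 : z ∈ P0 := hUP0 hzU
    have hP0z : ∀ s ∈ P0, s * z = z * s := fun s hs => hzc s (Subgroup.mem_inf.mp hs).1
    have hmain : ∀ r ∈ T, r * z * r⁻¹ ∈ U := by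
      intro r hr
      by_cases hrP0 : r ∈ P0
      · rw [hP0z r hrP0, mul_inv_cancel_right]; exact hzU
      have hrinv : r⁻¹ ∈ T := T.inv_mem hr
      have hrinvP0 : r⁻¹ ∉ P0 := fun h => hrP0 (by simpa using P0.inv_mem h)
      have hnorm : ∀ x ∈ T, ∀ s ∈ P0, x * s * x⁻¹ ∈ P0 := by
        intro x hx s hs
        rw [key (x * s) (T.mul_mem hx (hP0T hs)) x⁻¹ (T.inv_mem hx), key x hx s (hP0T hs)]
        simp [hs]
      obtain ⟨z', hz'⟩ : ∃ z', z' = r * z * r⁻¹ := ⟨_, rfl⟩
      have hz'T : z' ∈ T := by rw [hz']; exact T.mul_mem (T.mul_mem hr (hP0T hzP0)) hrinv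
      have hz'P0 : z' ∈ P0 := by rw [hz']; exact hnorm r hr z hzP0
      have hsq' : r * r ∈ P0 := by rw [key r hr r hr]
      have hz'c : ∀ s ∈ P0, s * z' = z' * s := by
        intro s hs
        have h1 := hnorm r⁻¹ hrinv s hs
        have h2 := hP0z _ h1
        calc s * z' = r * ((r⁻¹ * s * r⁻¹⁻¹) * z) * r⁻¹ := by rw [hz']; group
          _ = r * (z * (r⁻¹ * s * r⁻¹⁻¹)) * r⁻¹ := by rw [h2]
          _ = z' * s := by rw [hz']; group
      obtain ⟨w, hw⟩ : ∃ w, w = z * z' := ⟨_, rfl⟩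
      have hwT : w ∈ T := by rw [hw]; exact T.mul_mem (hP0T hzP0) hz'T
      have hzz' : z * z' = z' * z := (hP0z z' hz'P0).symm
      have hz'2 : z' * z' = 1 := by
        rw [hz']
        calc r * z * r⁻¹ * (r * z * r⁻¹) = r * (z * z) * r⁻¹ := by group
          _ = 1 := by rw [hz2]; group
      have hw2 : w * w = 1 := by
        calc w * w = z * (z' * z) * z' := by rw [hw]; group
          _ = z * (z * z') * z' := by rw [hzz']
          _ = (z * z) * (z' * z') := by group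
          _ = 1 := by rw [hz2, hz'2, one_mul]
      have hwc0 : ∀ s ∈ P0, s * w = w * s := by
        intro s hs
        rw [hw, ← mul_assoc, hP0z s hs, mul_assoc, hz'c s hs, ← mul_assoc]
      have hwr : r * w = w * r := by
        have h1 : r * z' * r⁻¹ = z := by
          have h2 := hP0z _ hsq'
          calc r * z' * r⁻¹ = (r * r) * z * (r * r)⁻¹ := by rw [hz']; group
            _ = z * (r * r) * (r * r)⁻¹ := by rw [h2]
            _ = z := by group
        have h3 : r * w * r⁻¹ = w := by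
          calc r * w * r⁻¹ = (r * z * r⁻¹) * (r * z' * r⁻¹) := by rw [hw]; group
            _ = z' * z := by rw [h1, ← hz']
            _ = w := by rw [hw, hzz']
        exact mul_inv_eq_iff_eq_mul.mp h3
      have hwcT : ∀ s ∈ T, s * w = w * s := by
        intro s hs
        by_cases hsP0 : s ∈ P0
        · exact hwc0 s hsP0
        · have h1 : r⁻¹ * s ∈ P0 := by
            rw [key r⁻¹ hrinv s hs]
            exact ⟨fun h => absurd h hrinvP0, fun h => absurd h hsP0⟩
          have h2 := hwc0 _ h1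
          calc s * w = r * ((r⁻¹ * s) * w) := by group
            _ = r * (w * (r⁻¹ * s)) := by rw [h2]
            _ = (r * w) * (r⁻¹ * s) := by group
            _ = (w * r) * (r⁻¹ * s) := by rw [hwr]
            _ = w * s := by group
      have hvcT : ∀ s ∈ T, s * v = v * s := fun s hs => mul_inv_eq_iff_eq_mul.mp (hTv s hs)
      have hvT : v ∈ T := hP0T (hUP0 hvU)
      have hcent : ∀ x ∈ T, (∀ s ∈ T, s * x = x * s) →
          g⁻¹ * x * g ∈ (P : Subgroup G) ⊓ Subgroup.centralizer ((P : Subgroup G) : Set G) := by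
        intro x hx hxc
        refine Subgroup.mem_inf.mpr ⟨(hTg x).mp hx, ?_⟩
        rw [Subgroup.mem_centralizer_iff]
        intro s hs
        have hs' : g * s * g⁻¹ ∈ T := by
          rw [hTg]
          have : g⁻¹ * (g * s * g⁻¹) * g = s := by group
          rw [this]; exact hs
        have := hxc _ hs'
        calc s * (g⁻¹ * x * g) = g⁻¹ * ((g * s * g⁻¹) * x) * g := by group
          _ = g⁻¹ * (x * (g * s * g⁻¹)) * g := by rw [this]
          _ = g⁻¹ * x * g * s := by group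
      haveI := hcyc
      have hcy := cyclic_invol
        (C := ↥((P : Subgroup G) ⊓ Subgroup.centralizer ((P : Subgroup G) : Set G)))
        ⟨g⁻¹ * w * g, hcent w hwT hwcT⟩ ⟨g⁻¹ * v * g, hcent v hvT hvcT⟩
        (by
          apply Subtype.ext
          show g⁻¹ * w * g * (g⁻¹ * w * g) = 1
          calc g⁻¹ * w * g * (g⁻¹ * w * g) = g⁻¹ * (w * w) * g := by group
            _ = 1 := by rw [hw2]; group)
        (by
          apply Subtype.ext
          show g⁻¹ * v * g * (g⁻¹ * v * g) = 1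
          calc g⁻¹ * v * g * (g⁻¹ * v * g) = g⁻¹ * (v * v) * g := by group
            _ = 1 := by rw [hv2]; group)
        (by
          intro h
          apply hv1
          have h' : g⁻¹ * v * g = 1 := congrArg Subtype.val h
          have e1 : v = g * (g⁻¹ * v * g) * g⁻¹ := by group
          rw [e1, h']; group)
      have hz'eq : z' = z * (z * z') := by rw [← mul_assoc, hz2, one_mul]
      rcases hcy with h | h
      · have h' : g⁻¹ * w * g = 1 := congrArg Subtype.val h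
        have hw1 : w = 1 := by
          have e1 : w = g * (g⁻¹ * w * g) * g⁻¹ := by group
          rw [e1, h']; group
        have : z' = z := by rw [hz'eq, ← hw, hw1, mul_one]
        rw [← hz', this]; exact hzU
      · have h' : g⁻¹ * w * g = g⁻¹ * v * g := congrArg Subtype.val h
        have hwv : w = v := by
          have e1 : w = g * (g⁻¹ * w * g) * g⁻¹ := by group
          rw [e1, h']; group
        have : z' = z * v := by rw [hz'eq, ← hw, hwv]
        rw [← hz', this]; exact U.mul_mem hzU hvU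
    have hconj : ∀ x ∈ T, ∀ a ∈ U, x * a * x⁻¹ ∈ U := by
      intro x hx a ha
      rcases hU a ha with h | h | h | h
      · rw [h]; simp
      · rw [h]; exact hmain x hx
      · rw [h, hTv x hx]; exact hvU
      · rw [h]
        have e : x * (z * v) * x⁻¹ = (x * z * x⁻¹) * (x * v * x⁻¹) := by group
        rw [e, hTv x hx]; exact U.mul_mem (hmain x hx) hvU
    intro r hr
    apply mem_normalizer_of_forall_conj_mem
    · exact hconj r hr
    · intro a ha
      have := hconj r⁻¹ (T.inv_mem hr) a ha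
      simpa using this


/-- the 2-central case of `core_normalizes` -/
theorem core_normalizes_central (P : Sylow 2 G) (U : Subgroup G)
    (hUn : (P : Subgroup G) ≤ Subgroup.normalizer (U : Set G)) (v : G)
    (hvZ : v ∈ Subgroup.centralizer ((P : Subgroup G) : Set G)) :
    pCoreOf 2 (Subgroup.normalizer ((Subgroup.zpowers v : Subgroup G) : Set G)) ≤
      Subgroup.normalizer (U : Set G) := by
  haveI : Fact (Nat.Prime 2) := ⟨Nat.prime_two⟩
  have hPN : (P : Subgroup G) ≤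
      Subgroup.normalizer ((Subgroup.zpowers v : Subgroup G) : Set G) :=
    fun s hs => mem_normalizer_of_comm (Subgroup.mem_centralizer_iff.mp hvZ s hs)
  have hS : IsSylIn 2 (P : Subgroup G)
      (Subgroup.normalizer ((Subgroup.zpowers v : Subgroup G) : Set G)) :=
    ⟨hPN, P.isPGroup', fun T hT hPT _ => P.is_maximal' hT hPT⟩
  exact (sylIn_op_le hS).trans hUn


end Cfsg.Agent.Lib.Helper3_NGroupFour
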