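import Mathlib
import Cfsg.Prelude.Def_Local
import Cfsg.Agent.Lib.Helper3_LStar2
import Cfsg.Agent.Lib.Helper3_GFp3
import Cfsg.Agent.Lib.Lead_Coprime
import Cfsg.Agent.S1327
import Cfsg.Agent.S1317

/-! `p`-constraint (trivial `p`-layer) and centralizers of normal `p`-subgroups (helper3). -/

set_option autoImplicit false

namespace Cfsg.Agent.Lib.Helper3_PConstr

open Cfsg Cfsg.Agent.Lib.Helper3_Components Cfsg.Agent.Lib.Helper3_Transport
  Cfsg.Agent.Lib.Helper3_LStar2

universe u v

theorem coprime_of_no_order_p {A : Type u} [Group A] [Finite A] (p : ℕ) [hp : Fact p.Prime]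
    (h : ∀ y : A, orderOf y ≠ p) : (Nat.card A).Coprime p := by
  apply Nat.Coprime.symm
  rw [Nat.Prime.coprime_iff_not_dvd hp.out]
  intro hd
  obtain ⟨y, hy⟩ := exists_prime_orderOf_dvd_card' p hd
  exact h y hy

theorem pPrimeCore_coprime' (p : ℕ) (A : Type u) [Group A] [Finite A] :
    (Nat.card ↥(pPrimeCore p A)).Coprime p := Cfsg.Agent.Lib.Helper5_PPrime.pPrimeCore_coprime p A

/-- the trivial `p`-layer passes to quotients by normal `p'`-subgroups -/
theorem pLayer_eq_bot_of_surjective {B : Type u} {B' : Type v} [Group B] [Group B'] [Finite B]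
    [Finite B'] (p : ℕ) [hp : Fact p.Prime] (f : B →* B') (hf : Function.Surjective f)
    (hker : (Nat.card ↥f.ker).Coprime p) (h : pLayer p B = ⊥) : pLayer p B' = ⊥ := by
  classical
  rw [Cfsg.Agent.S1327.pLayer_eq_bot_iff p] at h ⊢
  haveI hDn' := Cfsg.Agent.Lib.Helper5_PPrime.pPrimeCore_normal p B'
  haveI hDn := Cfsg.Agent.Lib.Helper5_PPrime.pPrimeCore_normal p B
  set D' := pPrimeCore p B' with hD'
  let g : B →* B' ⧸ D' := (QuotientGroup.mk' D').comp f
  have hg : Function.Surjective g := (QuotientGroup.mk'_surjective D').comp hf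
  have hgker : g.ker = pPrimeCore p B := by
    apply le_antisymm
    · apply le_sSup
      refine ⟨inferInstance, ?_⟩
      apply coprime_of_no_order_p
      intro y hy
      have hy1 : f (y : B) ∈ D' := by
        have := y.2
        rw [MonoidHom.mem_ker] at this
        exact (QuotientGroup.eq_one_iff _).mp this
      have h1 : orderOf (f (y : B)) ∣ p := by
        rw [← hy, ← Subgroup.orderOf_coe]
        exact orderOf_map_dvd f (y : B)
      have h2 : orderOf (f (y : B)) ∣ Nat.card ↥D' := by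
        have := orderOf_dvd_natCard (⟨f (y : B), hy1⟩ : ↥D')
        rwa [Subgroup.orderOf_mk] at this
      have h3 : orderOf (f (y : B)) = 1 :=
        Nat.eq_one_of_dvd_coprimes (pPrimeCore_coprime' p B') h2 h1
      rw [orderOf_eq_one_iff] at h3
      have h4 : (y : B) ∈ f.ker := h3
      have h5 : orderOf (y : B) ∣ Nat.card ↥f.ker := by
        have := orderOf_dvd_natCard (⟨(y : B), h4⟩ : ↥f.ker)
        rwa [Subgroup.orderOf_mk] at this
      rw [Subgroup.orderOf_coe, hy] at h5
      exact (Nat.Prime.coprime_iff_not_dvd hp.out).mp hker.symm h5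
    · intro d hd
      rw [MonoidHom.mem_ker]
      show QuotientGroup.mk' D' (f d) = 1
      rw [QuotientGroup.mk'_apply, QuotientGroup.eq_one_iff]
      have h1 : (pPrimeCore p B).map f ≤ D' := by
        apply le_sSup
        refine ⟨Subgroup.Normal.map inferInstance f hf, ?_⟩
        exact Nat.Coprime.coprime_dvd_left (Subgroup.card_map_dvd _ f) (pPrimeCore_coprime' p B)
      exact h1 (Subgroup.mem_map_of_mem f hd)
  let e : B ⧸ pPrimeCore p B ≃* B' ⧸ D' :=
    (QuotientGroup.quotientMulEquivOfEq hgker.symm).trans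
      (QuotientGroup.quotientKerEquivOfSurjective g hg)
  rw [← layer_map_equiv e, h, Subgroup.map_bot]

/-- if `A ≤ O_p(N)` and `C_N(A)` has trivial `p`-layer then `N` has trivial `p`-layer -/
theorem pLayer_eq_bot_of_centralizer {N : Type u} [Group N] [Finite N] (p : ℕ) [hp : Fact p.Prime]
    (A : Subgroup N) (hA : A ≤ pCore p N)
    (hC : pLayer p ↥(Subgroup.centralizer (A : Set N)) = ⊥) : pLayer p N = ⊥ := by
  classical
  rw [Cfsg.Agent.S1327.pLayer_eq_bot_iff p]
  have hO : pPrimeCore p (N ⧸ pPrimeCore p N) = ⊥ := Cfsg.Agent.S1958.pPrimeCore_quotient p N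
  have hfit := Cfsg.Agent.S1268.fitting_eq_pCore_of_pPrimeCore_eq_bot p hO
  have hcomm := Cfsg.Agent.S1317.layer_commute_fitting (N ⧸ pPrimeCore p N)
  haveI hDn : (pPrimeCore p N).Normal := Cfsg.Agent.Lib.Helper5_PPrime.pPrimeCore_normal p N
  have hDc : (Nat.card ↥(pPrimeCore p N)).Coprime p := pPrimeCore_coprime' p N
  have hQp : IsPGroup p ↥(pCore p N) := Cfsg.Agent.Lib.Helper4_PCore.pCore_isPGroup
  haveI hQn : (pCore p N).Normal := Cfsg.Agent.Lib.Helper4_PCore.pCore_normal p N
  set D := pPrimeCore p N with hD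
  set π := QuotientGroup.mk' D with hπ
  set Cx := Subgroup.centralizer (A : Set N) with hCx
  have hAp : IsPGroup p ↥A := hQp.to_le hA
  rw [eq_bot_iff]
  apply sSup_le
  intro Kb hKb
  exfalso
  haveI hKnt := quasisimple_nontrivial hKb.2
  have hKne : Kb ≠ ⊥ := (Subgroup.nontrivial_iff_ne_bot _).mp inferInstance
  -- the image of `O_p(N)` lies in the Fitting subgroup
  have hQF : (pCore p N).map π ≤ fittingSubgroup (N ⧸ D) := by
    rw [hfit]
    apply Cfsg.Agent.Lib.Helper4_PCore.le_pCore _ (Subgroup.Normal.map hQn π (QuotientGroup.mk'_surjective D))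
    exact hQp.map π
  have hle : Kb ≤ Cx.map π := by
    intro kb hkb
    obtain ⟨y, rfl⟩ := QuotientGroup.mk'_surjective D kb
    have hx : ∀ a ∈ A, y⁻¹ * a * y * a⁻¹ ∈ D := by
      intro a ha
      have ha1 : π a ∈ fittingSubgroup (N ⧸ D) := hQF (Subgroup.mem_map_of_mem π (hA ha))
      have hk1 : π y ∈ layer (N ⧸ D) := (le_sSup hKb : Kb ≤ layer (N ⧸ D)) hkb
      have hc := commute_of_commutator_eq_bot hcomm hk1 ha1
      rw [← QuotientGroup.eq_one_iff]
      show π (y⁻¹ * a * y * a⁻¹) = 1
      rw [map_mul, map_mul, map_mul, map_inv, map_inv, mul_assoc (π y)⁻¹, ← hc]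
      group
    have hcop : (Nat.card ↥A).Coprime (Nat.card ↥D) := by
      obtain ⟨n, hn⟩ := (IsPGroup.iff_card.mp hAp)
      rw [hn]
      exact Nat.Coprime.pow_left n hDc.symm
    haveI : Group.IsNilpotent ↥A := hAp.isNilpotent
    obtain ⟨d, hd, hxd⟩ := Cfsg.Agent.Lib.Lead_Coprime.lemmaC D A
      (by rw [Subgroup.normalizer_eq_top]; exact le_top) hcop (Or.inl inferInstance) y hx
    refine ⟨y * d, hxd, ?_⟩
    rw [map_mul]
    have : π d = 1 := (QuotientGroup.eq_one_iff d).mpr hd
    rw [this, mul_one]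
  -- `Kb` is a component of the image of `C_N(A)`
  have hKc : IsComponent (Kb.subgroupOf (Cx.map π)) :=
    ⟨hKb.1.subgroupOf, Cfsg.Agent.S1754.quasisimple_of_equiv
      (Subgroup.subgroupOfEquivOfLe hle).symm hKb.2⟩
  -- the image of `C_N(A)` has trivial `p`-layer
  have hker : (Nat.card ↥(π.subgroupMap Cx).ker).Coprime p := by
    let j : ↥(π.subgroupMap Cx).ker →* ↥D :=
      { toFun := fun z => ⟨(z : ↥Cx), by
          have hz := z.2
          rw [MonoidHom.mem_ker] at hz
          have hz' := congrArg Subtype.val hz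
          exact (QuotientGroup.eq_one_iff _).mp hz'⟩
        map_one' := rfl
        map_mul' := fun _ _ => rfl }
    have hj : Function.Injective j := by
      intro a b hab
      apply Subtype.ext
      apply Subtype.ext
      exact congrArg (fun z : ↥D => (z : N)) hab
    exact Nat.Coprime.coprime_dvd_left (Subgroup.card_dvd_of_injective j hj) hDc
  have hL' : pLayer p ↥(Cx.map π) = ⊥ :=
    pLayer_eq_bot_of_surjective p (π.subgroupMap Cx) (π.subgroupMap_surjective Cx) hker hC
  rw [Cfsg.Agent.S1327.pLayer_eq_bot_iff p] at hL'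
  -- but `Kb` gives a component of the quotient by the core
  have hnot : ¬ Kb.subgroupOf (Cx.map π) ≤ pPrimeCore p ↥(Cx.map π) := by
    intro hcon
    have h1 : (Nat.card ↥(Kb.subgroupOf (Cx.map π))).Coprime p :=
      Nat.Coprime.coprime_dvd_left (Subgroup.card_dvd_of_le hcon) (pPrimeCore_coprime' p _)
    rw [Nat.card_congr (Subgroup.subgroupOfEquivOfLe hle).toEquiv] at h1
    have h2 := Cfsg.Agent.Lib.Helper3_PComp.subnormal_coprime_le_pPrimeCore p Kb hKb.1 h1
    rw [hO, le_bot_iff] at h2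
    exact hKne h2
  have h3 := Cfsg.Agent.Lib.Helper3_PComp4.component_map_core p hKc hnot
  have h4 : (Kb.subgroupOf (Cx.map π)).map (QuotientGroup.mk' (pPrimeCore p ↥(Cx.map π))) ≤
      layer (↥(Cx.map π) ⧸ pPrimeCore p ↥(Cx.map π)) := le_sSup h3
  rw [hL', le_bot_iff] at h4
  haveI := quasisimple_nontrivial h3.2
  exact (Subgroup.nontrivial_iff_ne_bot _).mp inferInstance h4

theorem isPConstrained_of_equiv {A : Type u} {B : Type v} [Group A] [Group B] [Finite A] [Finite B]
    (p : ℕ) [hp : Fact p.Prime] (e : A ≃* B) (h : IsPConstrained p A) : IsPConstrained p B := by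
  rw [Cfsg.Agent.S1327.result p] at h ⊢
  rw [← pLayer_map_equiv p e, h, Subgroup.map_bot]

end Cfsg.Agent.Lib.Helper3_PConstr
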