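import Mathlib
import Cfsg.Prelude.Def_Local
import Cfsg.Prelude.Def_LocalStructure
import Cfsg.Agent.Lib.Helper3_GFp3
import Cfsg.Agent.Lib.Helper3_LStar
import Cfsg.Agent.Lib.Helper4_Kieler0
import Cfsg.Agent.Lib.Lead_SZ
import Cfsg.Agent.S2896

/-! Parabolic characteristic `p` for subnormal subgroups (helper3). -/

set_option autoImplicit false

namespace Cfsg.Agent.Lib.Helper3_ParChar

open Cfsg Cfsg.Agent.Lib.Helper3_Components Cfsg.Agent.Lib.Helper3_GFp Cfsg.Agent.Lib.Helper3_GFp2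
  Cfsg.Agent.Lib.Helper3_GFp3

universe u

theorem gf_pgroup_of_normal {A : Type u} [Group A] [Finite A] (p : ℕ) [hp : Fact p.Prime]
    (B : Subgroup A) [B.Normal] (h : IsPGroup p ↥(generalizedFittingSubgroup A)) :
    IsPGroup p ↥(generalizedFittingSubgroup ↥B) := by
  have h2 := Cfsg.Agent.S1320.result (A := A) B
  have h3 : IsPGroup p ↥((generalizedFittingSubgroup ↥B).map B.subtype) := by
    rw [← h2]
    exact h.to_le inf_le_left
  exact h3.of_equiv ((generalizedFittingSubgroup ↥B).equivMapOfInjective _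
      (Subgroup.subtype_injective _)).symm

theorem gf_pgroup_of_subnormal {A : Type u} [Group A] [Finite A] (p : ℕ) [hp : Fact p.Prime]
    (B : Subgroup A) (hB : B.IsSubnormal) (h : IsPGroup p ↥(generalizedFittingSubgroup A)) :
    IsPGroup p ↥(generalizedFittingSubgroup ↥B) := by
  induction hB with
  | top => exact gf_pgroup_of_equiv p Subgroup.topEquiv.symm h
  | step H K hle hsub hN ih =>
    haveI := hN
    have h1 := gf_pgroup_of_normal p (H.subgroupOf K) ih
    exact gf_pgroup_of_equiv p (Subgroup.subgroupOfEquivOfLe hle) h1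

/-- passing from the centralizer in `G` to the centralizer in a subnormal subgroup -/
theorem gf_pgroup_centralizer_subnormal {G : Type u} [Group G] [Finite G] (p : ℕ) [hp : Fact p.Prime]
    (G₁ : Subgroup G) (hsn : G₁.IsSubnormal) (z₁ : ↥G₁)
    (h : IsPGroup p ↥(generalizedFittingSubgroup ↥(Subgroup.centralizer ({(z₁ : G)} : Set G)))) :
    IsPGroup p ↥(generalizedFittingSubgroup ↥(Subgroup.centralizer ({z₁} : Set ↥G₁))) := by
  set C := Subgroup.centralizer ({(z₁ : G)} : Set G) with hC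
  have h1 := gf_pgroup_of_subnormal p (G₁.subgroupOf C) hsn.subgroupOf h
  have h2 := gf_pgroup_of_equiv p (Cfsg.Agent.Lib.Helper3_Transport.subgroupOfSwap G₁ C) h1
  have e : Subgroup.centralizer ({z₁} : Set ↥G₁) = C.subgroupOf G₁ := by
    ext x
    rw [Subgroup.mem_subgroupOf, hC, Subgroup.mem_centralizer_singleton_iff,
      Subgroup.mem_centralizer_singleton_iff]
    constructor
    · intro hx; exact congrArg Subtype.val hx
    · intro hx; exact Subtype.ext hx
  exact gf_pgroup_of_equiv p (MulEquiv.subgroupCongr e.symm) h2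

/-- a nontrivial `p`-subgroup normalized by a Sylow `p`-subgroup `T` contains an element of order
`p` of `Z(T)` -/
theorem exists_central_order_p {H : Type u} [Group H] [Finite H] {p : ℕ} [hp : Fact p.Prime]
    (T : Sylow p H) (R : Subgroup H) (hRp : IsPGroup p ↥R) (hR1 : R ≠ ⊥)
    (hT : (T : Subgroup H) ≤ Subgroup.normalizer (R : Set H)) :
    ∃ z ∈ R, z ∈ (T : Subgroup H) ∧ z ∈ Subgroup.centralizer ((T : Subgroup H) : Set H) ∧
      orderOf z = p := by
  have hTp : IsPGroup p ↥(T : Subgroup H) := T.isPGroup'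
  have hRT : R ≤ (T : Subgroup H) := by
    have h1 : IsPGroup p ↥((T : Subgroup H) ⊔ R) := IsPGroup.to_sup_of_normal_right' hTp hRp hT
    have h2 := T.is_maximal' h1 le_sup_left
    rw [← h2]
    exact le_sup_right
  haveI : Group.IsNilpotent ↥(T : Subgroup H) := hTp.isNilpotent
  haveI : (R.subgroupOf (T : Subgroup H)).Normal := Subgroup.normal_subgroupOf_of_le_normalizer hT
  have hne : R.subgroupOf (T : Subgroup H) ≠ ⊥ := by
    intro h0
    rw [Subgroup.subgroupOf_eq_bot] at h0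
    exact hR1 (h0.eq_bot_of_le hRT)
  obtain ⟨a, haA, haZ, ha1⟩ :=
    Cfsg.Agent.Lib.Helper4_Kieler0.normal_inf_center_ne_bot' (R.subgroupOf (T : Subgroup H)) hne
  have hW1 : R ⊓ ((T : Subgroup H) ⊓ Subgroup.centralizer ((T : Subgroup H) : Set H)) ≠ ⊥ := by
    intro h0
    have : (a : H) ∈ R ⊓ ((T : Subgroup H) ⊓ Subgroup.centralizer ((T : Subgroup H) : Set H)) := by
      refine ⟨Subgroup.mem_subgroupOf.mp haA, a.2, Subgroup.mem_centralizer_iff.mpr ?_⟩
      intro t ht
      have := Subgroup.mem_center_iff.mp haZ ⟨t, ht⟩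
      exact congrArg Subtype.val this
    rw [h0, Subgroup.mem_bot] at this
    exact ha1 (Subtype.ext this)
  obtain ⟨zT, hzTW, hzTo⟩ := Cfsg.Agent.S2896.exists_order_p _ (hRp.to_le inf_le_left) hW1
  exact ⟨zT, hzTW.1, hzTW.2.1, hzTW.2.2, hzTo⟩

/-- parabolic characteristic `p` for a subnormal subgroup `G₁`, given characteristic `p` for the
centralizers of the elements of order `p` of `Z(S ∩ G₁)` -/
theorem parabolic_of_subnormal {G : Type u} [Group G] [Finite G] {p : ℕ} [hp : Fact p.Prime]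
    (S : Sylow p G) (G₁ : Subgroup G) (hsn : G₁.IsSubnormal)
    (H1 : ∀ z : G, orderOf z = p → z ∈ ((S : Subgroup G) ⊓ G₁) ⊓
        Subgroup.centralizer (((S : Subgroup G) ⊓ G₁ : Subgroup G) : Set G) →
      IsPGroup p ↥(generalizedFittingSubgroup ↥(Subgroup.centralizer ({z} : Set G)))) :
    IsOfParabolicCharacteristic p ↥G₁ := by
  classical
  rintro R hRp hR1 ⟨T, hT⟩
  rw [← gf_eq_pCore_iff_centralizer p, ← gf_pgroup_iff p]
  have hidx : ¬ p ∣ (S : Subgroup G).relIndex G₁ :=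
    Cfsg.Agent.Lib.Helper3_LStar.not_dvd_relIndex_of_subnormal S G₁ hsn
  let S₁ : Sylow p ↥G₁ := IsPGroup.toSylow (P := (S : Subgroup G).subgroupOf G₁)
    (IsPGroup.comap_subtype S.isPGroup' (K := G₁)) hidx
  have hS₁ : ∀ x : ↥G₁, x ∈ (S₁ : Subgroup ↥G₁) ↔ (x : G) ∈ (S : Subgroup G) := by
    intro x
    exact Subgroup.mem_subgroupOf
  obtain ⟨z, hzR, hzT, hzC, hzo⟩ := exists_central_order_p T R hRp hR1 hT
  obtain ⟨g, hg⟩ := MulAction.exists_smul_eq ↥G₁ S₁ T
  have hTg : ∀ x, x ∈ (T : Subgroup ↥G₁) ↔ g⁻¹ * x * g ∈ (S₁ : Subgroup ↥G₁) := by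
    intro x
    rw [← hg, Sylow.coe_subgroup_smul, Cfsg.Agent.Lib.Lead_SZ.mem_conj_smul]
  have hz'o : orderOf (g⁻¹ * z * g) = p := by
    have := (MulAut.conj g⁻¹).orderOf_eq z
    simpa [MulAut.conj_apply, hzo] using this
  have hz'S : g⁻¹ * z * g ∈ (S₁ : Subgroup ↥G₁) := (hTg z).mp hzT
  have hz'C : ∀ s ∈ (S₁ : Subgroup ↥G₁), s * (g⁻¹ * z * g) = (g⁻¹ * z * g) * s := by
    intro s hs
    have hsT : g * s * g⁻¹ ∈ (T : Subgroup ↥G₁) := by
      rw [hTg]
      have : g⁻¹ * (g * s * g⁻¹) * g = s := by group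
      rw [this]; exact hs
    have h5 := Subgroup.mem_centralizer_iff.mp hzC _ hsT
    calc s * (g⁻¹ * z * g) = g⁻¹ * ((g * s * g⁻¹) * z) * g := by group
      _ = g⁻¹ * (z * (g * s * g⁻¹)) * g := by rw [h5]
      _ = g⁻¹ * z * g * s := by group
  have h1 : IsPGroup p ↥(generalizedFittingSubgroup
      ↥(Subgroup.centralizer ({((g⁻¹ * z * g : ↥G₁) : G)} : Set G))) := by
    apply H1
    · rw [Subgroup.orderOf_coe]; exact hz'o
    · refine ⟨⟨(hS₁ _).mp hz'S, (g⁻¹ * z * g).2⟩, Subgroup.mem_centralizer_iff.mpr ?_⟩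
      intro s hs
      have := hz'C ⟨s, hs.2⟩ ((hS₁ _).mpr hs.1)
      exact congrArg Subtype.val this
  have h2 := gf_pgroup_centralizer_subnormal p G₁ hsn (g⁻¹ * z * g) h1
  have h3 := gf_pgroup_centralizer_conj p g (g⁻¹ * z * g) h2
  have e : g * (g⁻¹ * z * g) * g⁻¹ = z := by group
  rw [e] at h3
  exact gf_pgroup_normalizer_of_mem p R hRp z hzR h3

end Cfsg.Agent.Lib.Helper3_ParChar
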