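import Mathlib

set_option autoImplicit false

/-! The four-group generated by two commuting involutions. -/

namespace Cfsg.Agent.Lib.Helper5_KleinSub

variable {G : Type*} [Group G]

/-- The subgroup `{1, z, t, z t}` for commuting `z, t` with `z² = t² = 1`. -/
def kleinSub (z t : G) (hz : z * z = 1) (ht : t * t = 1) (hzt : z * t = t * z) : Subgroup G where
  carrier := {1, z, t, z * t}
  mul_mem' := by
    have hzt' : t * z = z * t := hzt.symm
    have h1 : z * (z * t) = t := by rw [← mul_assoc, hz, one_mul]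
    have h2 : t * (z * t) = z := by rw [← mul_assoc, hzt', mul_assoc, ht, mul_one]
    have h3 : z * t * z = t := by rw [mul_assoc, hzt', ← mul_assoc, hz, one_mul]
    have h4 : z * t * t = z := by rw [mul_assoc, ht, mul_one]
    have h5 : z * t * (z * t) = 1 := by rw [mul_assoc, h2, hz]
    rintro a b (rfl | rfl | rfl | rfl) (rfl | rfl | rfl | rfl) <;>
      simp [hz, ht, hzt', h1, h2, h3, h4, h5]
  one_mem' := by simp
  inv_mem' := by
    have hzi : z⁻¹ = z := inv_eq_of_mul_eq_one_left hz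
    have hti : t⁻¹ = t := inv_eq_of_mul_eq_one_left ht
    rintro a (rfl | rfl | rfl | rfl)
    · simp
    · simp [hzi]
    · simp [hti]
    · simp [hzi, hti, hzt.symm]

theorem mem_kleinSub {z t : G} {hz : z * z = 1} {ht : t * t = 1} {hzt : z * t = t * z} {g : G} :
    g ∈ kleinSub z t hz ht hzt ↔ g = 1 ∨ g = z ∨ g = t ∨ g = z * t := by
  show g ∈ ({1, z, t, z * t} : Set G) ↔ _
  simp

theorem left_mem_kleinSub (z t : G) (hz : z * z = 1) (ht : t * t = 1) (hzt : z * t = t * z) :
    z ∈ kleinSub z t hz ht hzt := mem_kleinSub.mpr (Or.inr (Or.inl rfl))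

theorem right_mem_kleinSub (z t : G) (hz : z * z = 1) (ht : t * t = 1) (hzt : z * t = t * z) :
    t ∈ kleinSub z t hz ht hzt := mem_kleinSub.mpr (Or.inr (Or.inr (Or.inl rfl)))

theorem sq_eq_one_of_mem_kleinSub {z t : G} {hz : z * z = 1} {ht : t * t = 1}
    {hzt : z * t = t * z} {g : G} (hg : g ∈ kleinSub z t hz ht hzt) : g * g = 1 := by
  rcases mem_kleinSub.mp hg with rfl | rfl | rfl | rfl
  · simp
  · exact hz
  · exact ht
  · rw [mul_assoc, ← mul_assoc t, ← hzt, mul_assoc, ht, mul_one, hz]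

theorem card_kleinSub (z t : G) (hz : z * z = 1) (ht : t * t = 1) (hzt : z * t = t * z)
    (hz1 : z ≠ 1) (ht1 : t ≠ 1) (hne : z ≠ t) : Nat.card (kleinSub z t hz ht hzt) = 4 := by
  have hti : t⁻¹ = t := inv_eq_of_mul_eq_one_left ht
  have h1 : Nat.card (kleinSub z t hz ht hzt) = ({1, z, t, z * t} : Set G).ncard := rfl
  rw [h1, Set.ncard_insert_of_notMem, Set.ncard_eq_three.mpr]
  · refine ⟨z, t, z * t, hne, ?_, ?_, rfl⟩
    · intro h
      apply ht1
      have : z * t = z * 1 := by rw [mul_one]; exact h.symm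
      exact mul_left_cancel this
    · intro h
      apply hz1
      have : z * t = 1 * t := by rw [one_mul]; exact h.symm
      exact mul_right_cancel this
  · simp only [Set.mem_insert_iff, Set.mem_singleton_iff, not_or]
    refine ⟨fun h => hz1 h.symm, fun h => ht1 h.symm, ?_⟩
    intro h
    apply hne
    rw [← hti]
    exact eq_inv_of_mul_eq_one_left h.symm

theorem kleinSub_comm {z t : G} {hz : z * z = 1} {ht : t * t = 1} {hzt : z * t = t * z}
    {a b : G} (ha : a ∈ kleinSub z t hz ht hzt) (hb : b ∈ kleinSub z t hz ht hzt) :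
    a * b = b * a := by
  have h1 := sq_eq_one_of_mem_kleinSub ha
  have h2 := sq_eq_one_of_mem_kleinSub hb
  have h3 := sq_eq_one_of_mem_kleinSub (mul_mem ha hb)
  have hai : a⁻¹ = a := inv_eq_of_mul_eq_one_left h1
  have hbi : b⁻¹ = b := inv_eq_of_mul_eq_one_left h2
  have h4 : (a * b)⁻¹ = a * b := inv_eq_of_mul_eq_one_left h3
  rw [mul_inv_rev, hai, hbi] at h4
  exact h4.symm

theorem kleinSub_not_cyclic (z t : G) (hz : z * z = 1) (ht : t * t = 1) (hzt : z * t = t * z)
    (hz1 : z ≠ 1) (ht1 : t ≠ 1) (hne : z ≠ t) : ¬ IsCyclic (kleinSub z t hz ht hzt) := by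
  intro hc
  have hfin : Finite (kleinSub z t hz ht hzt) :=
    Nat.finite_of_card_ne_zero (by rw [card_kleinSub z t hz ht hzt hz1 ht1 hne]; norm_num)
  obtain ⟨g, hg⟩ := IsCyclic.exists_ofOrder_eq_natCard (α := kleinSub z t hz ht hzt)
  rw [card_kleinSub z t hz ht hzt hz1 ht1 hne] at hg
  have h2 : g ^ 2 = 1 := by
    apply Subtype.ext
    have := sq_eq_one_of_mem_kleinSub g.2
    simpa [pow_two] using this
  have := orderOf_dvd_of_pow_eq_one h2
  rw [hg] at this
  norm_num at this

end Cfsg.Agent.Lib.Helper5_KleinSub
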