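import Mathlib

set_option autoImplicit false

/-! Involutions of a modular 2-group `⟨a, b | a^(8K) = b² = 1, b a b⁻¹ = a^(4K+1)⟩`. -/

namespace Cfsg.Agent.Lib.Helper5_ModularInv

open Subgroup

variable {G : Type*} [Group G]

/-- The hypotheses on a modular 2-group, with `orderOf a = 8K`, in element-wise form. -/
structure Modu (S : Subgroup G) (K : ℕ) (a b : G) : Prop where
  cases : ∀ x ∈ S, x ∈ zpowers a ∨ ∃ y ∈ zpowers a, x = y * b
  hao : orderOf a = 8 * K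
  hb2 : b * b = 1
  hrel : b * a * b⁻¹ = a ^ (4 * K + 1)
  hK : ∃ k : ℕ, K = 2 ^ k

variable {S : Subgroup G} {K : ℕ} {a b : G}

theorem Modu.Kpos (h : Modu S K a b) : 0 < K := by
  obtain ⟨k, hk⟩ := h.hK
  rw [hk]; positivity

theorem Modu.z_sq (h : Modu S K a b) : a ^ (4 * K) * a ^ (4 * K) = 1 := by
  rw [← pow_add, show 4 * K + 4 * K = 8 * K by ring, ← h.hao, pow_orderOf_eq_one]

theorem Modu.binv (h : Modu S K a b) : b⁻¹ = b := inv_eq_of_mul_eq_one_left h.hb2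

theorem Modu.pow8 (h : Modu S K a b) {y : G} (hy : y ∈ zpowers a) : y ^ (8 * K) = 1 := by
  obtain ⟨i, rfl⟩ := hy
  rw [← zpow_natCast, ← zpow_mul, mul_comm, zpow_mul, zpow_natCast, ← h.hao, pow_orderOf_eq_one,
    one_zpow]

theorem Modu.conj_pow (h : Modu S K a b) {y : G} (hy : y ∈ zpowers a) :
    b * y * b⁻¹ = y ^ (4 * K + 1) := by
  obtain ⟨i, rfl⟩ := hy
  have h1 : b * a ^ i * b⁻¹ = (b * a * b⁻¹) ^ i := by
    have := map_zpow (MulAut.conj b).toMonoidHom a i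
    simpa [MulAut.conj_apply] using this
  rw [h1, h.hrel, ← zpow_natCast, ← zpow_natCast, ← zpow_mul, ← zpow_mul, mul_comm]

theorem Modu.sq_yb (h : Modu S K a b) {y : G} (hy : y ∈ zpowers a) :
    (y * b) ^ 2 = y ^ (4 * K + 2) := by
  have h1 := h.conj_pow hy
  rw [h.binv] at h1
  calc (y * b) ^ 2 = y * (b * y * b) := by rw [pow_two]; group
    _ = y * y ^ (4 * K + 1) := by rw [h1]
    _ = y ^ (4 * K + 2) := by rw [← pow_succ']

theorem Modu.invol (h : Modu S K a b) {y : G} (hy : y ∈ zpowers a) (hy2 : y ^ 2 = 1) :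
    y = 1 ∨ y = a ^ (4 * K) := by
  obtain ⟨i, rfl⟩ := hy
  have hK := h.Kpos
  simp only at hy2 ⊢
  rw [← zpow_natCast, ← zpow_mul] at hy2
  have h1 := orderOf_dvd_iff_zpow_eq_one.mpr hy2
  rw [h.hao] at h1
  obtain ⟨c, hc⟩ := h1
  have h2 : i = 4 * K * c := by push_cast at hc; linarith
  have h3 : a ^ (4 * (K : ℤ)) = a ^ (4 * K) := by
    rw [← zpow_natCast]; push_cast; rfl
  rw [h2, zpow_mul, h3]
  rcases Int.even_or_odd' c with ⟨d, hd | hd⟩
  · left
    rw [hd, zpow_mul, zpow_ofNat, pow_two, h.z_sq, one_zpow]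
  · right
    rw [hd, zpow_add, zpow_mul, zpow_ofNat, pow_two, h.z_sq, one_zpow, one_mul, zpow_one]

theorem Modu.gcd_eq (h : Modu S K a b) : Nat.gcd (4 * K + 2) (8 * K) = 2 := by
  obtain ⟨k, hk⟩ := h.hK
  have h1 : 4 * K + 2 = 2 * (2 * K + 1) := by ring
  have h2 : 8 * K = 2 * (2 ^ (k + 2)) := by rw [hk]; ring
  rw [h1, h2, Nat.gcd_mul_left]
  have h3 : Nat.Coprime (2 * K + 1) (2 ^ (k + 2)) := by
    apply Nat.Coprime.pow_right
    rw [Nat.coprime_two_right]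
    exact ⟨K, rfl⟩
  rw [h3]

/-- The involutions of `S`. -/
theorem Modu.F1 (h : Modu S K a b) {x : G} (hx : x ∈ S) (hx2 : x ^ 2 = 1) :
    x = 1 ∨ x = a ^ (4 * K) ∨ x = b ∨ x = a ^ (4 * K) * b := by
  rcases h.cases x hx with h1 | ⟨y, hy, rfl⟩
  · rcases h.invol h1 hx2 with h2 | h2
    · exact Or.inl h2
    · exact Or.inr (Or.inl h2)
  · rw [h.sq_yb hy] at hx2
    have h2 : y ^ 2 = 1 := by
      have := pow_gcd_eq_one.mpr ⟨hx2, h.pow8 hy⟩
      rwa [h.gcd_eq] at this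
    rcases h.invol hy h2 with h3 | h3
    · right; right; left; rw [h3, one_mul]
    · right; right; right; rw [h3]

end Cfsg.Agent.Lib.Helper5_ModularInv
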