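import Mathlib
import Cfsg.Agent.Lib.Helper7_Basic

set_option autoImplicit false

/-! Subgroups of a cyclic `p`-group are totally ordered. -/

namespace Cfsg.Agent.Lib.Helper6_CyclicP

/-- In a finite cyclic `p`-subgroup `C`, any two subgroups are comparable. -/
theorem le_total_of_cyclic {G : Type*} [Group G] [Finite G] {p : ℕ} [Fact p.Prime]
    (C : Subgroup G) (hC : IsCyclic C) (hp : IsPGroup p C) (H K : Subgroup G)
    (hH : H ≤ C) (hK : K ≤ C) : H ≤ K ∨ K ≤ H := by
  wlog hle : Nat.card H ≤ Nat.card K generalizing H K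
  · exact (this K H hK hH (le_of_not_ge hle)).symm
  left
  have hHp : IsPGroup p H := hp.to_le hH
  have hKp : IsPGroup p K := hp.to_le hK
  obtain ⟨i, hi⟩ := hHp.exists_card_eq
  obtain ⟨j, hj⟩ := hKp.exists_card_eq
  have hij : i ≤ j := by
    rw [hi, hj] at hle
    exact (Nat.pow_le_pow_iff_right (Fact.out : p.Prime).one_lt).mp hle
  have hdvd : p ^ i ∣ Nat.card K := by rw [hj]; exact pow_dvd_pow p hij
  obtain ⟨H', hH'⟩ := Sylow.exists_subgroup_card_pow_prime p hdvd
  have hH'K : H'.map K.subtype ≤ K := Subgroup.map_subtype_le _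
  have hcard : Nat.card (H'.map K.subtype) = Nat.card H := by
    rw [Subgroup.card_map_of_injective K.subtype_injective, hH', hi]
  have := Cfsg.Agent.Lib.Helper7_Basic.cyclic_subgroup_unique C hC (H'.map K.subtype) H
    (hH'K.trans hK) hH hcard
  rw [← this]
  exact hH'K

/-- In a finite cyclic `p`-group, any two subgroups are comparable. -/
theorem le_total_of_cyclic' {G : Type*} [Group G] [Finite G] {p : ℕ} [Fact p.Prime]
    [IsCyclic G] (hp : IsPGroup p G) (H K : Subgroup G) : H ≤ K ∨ K ≤ H :=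
  le_total_of_cyclic (⊤ : Subgroup G) inferInstance (hp.to_subgroup ⊤) H K le_top le_top

end Cfsg.Agent.Lib.Helper6_CyclicP
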