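import Mathlib
import Cfsg.Agent.Lib.Helper5_ModularInv
import Cfsg.Agent.Lib.Helper5_KleinSub
import Cfsg.Agent.Lib.Helper6_CyclicP
import Cfsg.Agent.Lib.Helper7_Basic
import Cfsg.Agent.S0015
import Cfsg.Agent.S0112
import Cfsg.Agent.S3303

set_option autoImplicit false

/-! A 2-group in which every normal abelian subgroup is cyclic is cyclic or of maximal class. -/

namespace Cfsg.Agent.Lib.Helper5_NoNormalFour

open Subgroup
open scoped commutatorElement

section Basic

variable {G : Type*} [Group G]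

theorem cyc_invol (a : G) (N : ℕ) (ha : orderOf a = 2 * N) {x : G} (hx : x ∈ zpowers a)
    (hx2 : x ^ 2 = 1) : x = 1 ∨ x = a ^ N := by
  obtain ⟨i, rfl⟩ := hx
  simp only at hx2 ⊢
  have hz2 : a ^ N * a ^ N = 1 := by
    rw [← pow_add, ← two_mul, ← ha, pow_orderOf_eq_one]
  rw [← zpow_natCast, ← zpow_mul] at hx2
  have h1 := orderOf_dvd_iff_zpow_eq_one.mpr hx2
  rw [ha] at h1
  obtain ⟨c, hc⟩ := h1
  have h2 : i = N * c := by push_cast at hc; linarith
  rw [h2, zpow_mul, zpow_natCast]
  rcases Int.even_or_odd' c with ⟨d, hd | hd⟩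
  · left
    rw [hd, zpow_mul, zpow_ofNat, pow_two, hz2, one_zpow]
  · right
    rw [hd, zpow_add, zpow_mul, zpow_ofNat, pow_two, hz2, one_zpow, one_mul, zpow_one]

theorem mem_zpowers_four (y : G) (hy : orderOf y = 4) {x : G} (hx : x ∈ zpowers y) :
    x = 1 ∨ x = y ∨ x = y ^ 2 ∨ x = y⁻¹ := by
  obtain ⟨i, rfl⟩ := hx
  simp only
  have h4 : y ^ 4 = 1 := by rw [← hy, pow_orderOf_eq_one]
  have h1 : y ^ i = y ^ (i % 4) := by
    have := zpow_mod_orderOf y i
    rw [hy] at this
    exact this.symm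
  rw [h1]
  have h2 : 0 ≤ i % 4 := Int.emod_nonneg _ (by norm_num)
  have h3 : i % 4 < 4 := Int.emod_lt_of_pos _ (by norm_num)
  obtain ⟨k, hk⟩ : ∃ k : ℕ, i % 4 = k := ⟨(i % 4).toNat, by omega⟩
  rw [hk, zpow_natCast]
  have hk4 : k < 4 := by omega
  interval_cases k
  · left; simp
  · right; left; simp
  · right; right; left; rfl
  · right; right; right
    rw [eq_inv_iff_mul_eq_one, ← pow_succ]
    exact h4

/-- integer powers of an involution -/
theorem zpow_invol (z : G) (hz : z * z = 1) (i : ℤ) : z ^ i = 1 ∨ z ^ i = z := by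
  rcases Int.even_or_odd' i with ⟨d, hd | hd⟩
  · left
    rw [hd, zpow_mul, zpow_ofNat, pow_two, hz, one_zpow]
  · right
    rw [hd, zpow_add, zpow_mul, zpow_ofNat, pow_two, hz, one_zpow, one_mul, zpow_one]

theorem zpow_invol_even (z : G) (hz : z * z = 1) (hz1 : z ≠ 1) (i : ℤ) (h : z ^ i = 1) :
    Even i := by
  rcases Int.even_or_odd i with he | ho
  · exact he
  · exfalso
    obtain ⟨d, hd⟩ := ho
    rw [hd, zpow_add, zpow_mul, zpow_ofNat, pow_two, hz, one_zpow, one_mul, zpow_one] at h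
    exact hz1 h

end Basic

universe u

section Ctx

variable {P : Type u} [Group P] [Finite P]

/-- A self-centralizing cyclic normal subgroup `⟨a⟩` of order `4L` of a 2-group with `P' ≤ ⟨a⟩`. -/
structure Ctx (a : P) (L : ℕ) : Prop where
  hP : IsPGroup 2 P
  norm : (zpowers a).Normal
  cent : centralizer (zpowers a : Set P) = zpowers a
  ord : orderOf a = 4 * L
  comm : commutator P ≤ zpowers a

variable {a : P} {L : ℕ}

theorem Ctx.Lpos (c : Ctx a L) : 0 < L := by
  have := orderOf_pos a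
  rw [c.ord] at this
  omega

theorem Ctx.y_ord (c : Ctx a L) : orderOf (a ^ L) = 4 := by
  have hL := c.Lpos
  rw [orderOf_pow' a hL.ne', c.ord, Nat.gcd_eq_right ⟨4, by ring⟩]
  exact Nat.mul_div_cancel _ hL

theorem Ctx.y_sq (c : Ctx a L) : (a ^ L) ^ 2 = a ^ (2 * L) := by
  rw [← pow_mul, mul_comm]

theorem Ctx.z_sq (c : Ctx a L) : a ^ (2 * L) * a ^ (2 * L) = 1 := by
  rw [← pow_add, show 2 * L + 2 * L = 4 * L by ring, ← c.ord, pow_orderOf_eq_one]

theorem Ctx.z_ne (c : Ctx a L) : a ^ (2 * L) ≠ 1 := by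
  intro h
  have := orderOf_dvd_of_pow_eq_one h
  rw [c.ord] at this
  have hL := c.Lpos
  have := Nat.le_of_dvd (by omega) this
  omega

theorem Ctx.conj_mem (c : Ctx a L) (g : P) {x : P} (hx : x ∈ zpowers a) :
    g * x * g⁻¹ ∈ zpowers a := c.norm.conj_mem x hx g

theorem Ctx.comm_A (c : Ctx a L) {x x' : P} (hx : x ∈ zpowers a) (hx' : x' ∈ zpowers a) :
    x * x' = x' * x := by
  obtain ⟨i, rfl⟩ := hx
  obtain ⟨j, rfl⟩ := hx'
  exact ((Commute.refl a).zpow_zpow i j).eq

theorem Ctx.invol (c : Ctx a L) {x : P} (hx : x ∈ zpowers a) (hx2 : x ^ 2 = 1) :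
    x = 1 ∨ x = a ^ (2 * L) :=
  cyc_invol a (2 * L) (by rw [c.ord]; ring) hx hx2

theorem Ctx.z_central (c : Ctx a L) (g : P) : g * a ^ (2 * L) * g⁻¹ = a ^ (2 * L) := by
  have h1 : g * a ^ (2 * L) * g⁻¹ ∈ zpowers a := c.conj_mem g (pow_mem (mem_zpowers a) _)
  have h2 : (g * a ^ (2 * L) * g⁻¹) ^ 2 = 1 := by
    rw [conj_pow, pow_two, c.z_sq]; group
  rcases c.invol h1 h2 with h | h
  · exfalso
    apply c.z_ne
    have : a ^ (2 * L) = g⁻¹ * (g * a ^ (2 * L) * g⁻¹) * g := by group
    rw [this, h]; group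
  · exact h

theorem Ctx.z_comm (c : Ctx a L) (g : P) : g * a ^ (2 * L) = a ^ (2 * L) * g := by
  have := c.z_central g
  calc g * a ^ (2 * L) = g * a ^ (2 * L) * g⁻¹ * g := by group
    _ = a ^ (2 * L) * g := by rw [this]

/-- conjugates of `y` -/
theorem Ctx.conj_y (c : Ctx a L) (g : P) :
    g * a ^ L * g⁻¹ = a ^ L ∨ g * a ^ L * g⁻¹ = (a ^ L)⁻¹ := by
  set y := a ^ L with hy
  have hyo := c.y_ord
  have hyA : y ∈ zpowers a := pow_mem (mem_zpowers a) _
  have h1 : g * y * g⁻¹ ∈ zpowers a := c.conj_mem g hyA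
  haveI : IsCyclic (zpowers a) := inferInstance
  have h2 : zpowers (g * y * g⁻¹) = zpowers y := by
    apply Cfsg.Agent.Lib.Helper7_Basic.cyclic_subgroup_unique (zpowers a) inferInstance _ _
      ((zpowers_le).mpr h1) ((zpowers_le).mpr hyA)
    rw [Nat.card_zpowers, Nat.card_zpowers, Cfsg.Agent.Lib.Helper7_Basic.orderOf_conj']
  have h3 : g * y * g⁻¹ ∈ zpowers y := by rw [← h2]; exact mem_zpowers _
  have ho : orderOf (g * y * g⁻¹) = 4 := by
    rw [Cfsg.Agent.Lib.Helper7_Basic.orderOf_conj', hyo]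
  rcases mem_zpowers_four y hyo h3 with h | h | h | h
  · exfalso; rw [h, orderOf_one] at ho; omega
  · exact Or.inl h
  · exfalso
    have h5 : (g * y * g⁻¹) ^ 2 = 1 := by
      rw [h, ← pow_mul]
      have : y ^ 4 = 1 := by rw [← hyo]; exact pow_orderOf_eq_one _
      exact this
    have := orderOf_dvd_of_pow_eq_one h5
    rw [ho] at this
    norm_num at this
  · exact Or.inr h

theorem Ctx.y_ne_inv (c : Ctx a L) : a ^ L ≠ (a ^ L)⁻¹ := by
  intro h
  have h2 : (a ^ L) ^ 2 = 1 := by
    rw [pow_two]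
    nth_rewrite 2 [h]
    exact mul_inv_cancel _
  have := orderOf_dvd_of_pow_eq_one h2
  rw [c.y_ord] at this
  norm_num at this

/-- elements of `⟨a⟩` comparable with `y` -/
theorem Ctx.mem_or (c : Ctx a L) {x : P} (hx : x ∈ zpowers a) :
    a ^ L ∈ zpowers x ∨ x = 1 ∨ x = a ^ (2 * L) := by
  haveI : Fact (Nat.Prime 2) := ⟨Nat.prime_two⟩
  have hyA : a ^ L ∈ zpowers a := pow_mem (mem_zpowers a) _
  rcases Cfsg.Agent.Lib.Helper6_CyclicP.le_total_of_cyclic (zpowers a) inferInstance
    (c.hP.to_subgroup _) (zpowers (a ^ L)) (zpowers x) ((zpowers_le).mpr hyA)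
    ((zpowers_le).mpr hx) with h | h
  · left; exact h (mem_zpowers _)
  · have h1 : x ∈ zpowers (a ^ L) := h (mem_zpowers _)
    rcases mem_zpowers_four _ c.y_ord h1 with h2 | h2 | h2 | h2
    · right; left; exact h2
    · left; rw [h2]; exact mem_zpowers _
    · right; right; rw [h2, c.y_sq]
    · left; rw [h2, zpowers_inv]; exact mem_zpowers _

/-- Case `C_P(y) = ⟨a⟩`: the group has maximal class. -/
theorem Ctx.case_small (c : Ctx a L) (hne : zpowers a ≠ ⊤)
    (hD : centralizer {a ^ L} ≤ zpowers a) (n : ℕ) (hn : Nat.card P = 2 ^ n) :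
    Group.nilpotencyClass P = n - 1 := by
  haveI : Fact (Nat.Prime 2) := ⟨Nat.prime_two⟩
  set y := a ^ L with hy
  set z := a ^ (2 * L) with hz
  have hyA : y ∈ zpowers a := pow_mem (mem_zpowers a) _
  have hzA : z ∈ zpowers a := pow_mem (mem_zpowers a) _
  -- elements outside A invert y
  have hinv : ∀ g : P, g ∉ zpowers a → g * y * g⁻¹ = y⁻¹ := by
    intro g hg
    rcases c.conj_y g with h | h
    · exfalso
      apply hg
      apply hD
      rw [mem_centralizer_iff]
      intro w hw
      rw [Set.mem_singleton_iff] at hw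
      subst hw
      calc a ^ L * g = g * a ^ L * g⁻¹ * g := by rw [h]
        _ = g * a ^ L := by group
    · exact h
  have hmul : ∀ g h : P, g ∉ zpowers a → h ∉ zpowers a → g * h ∈ zpowers a := by
    intro g h hg hh
    apply hD
    rw [mem_centralizer_iff]
    intro w hw
    rw [Set.mem_singleton_iff] at hw
    subst hw
    have h1 := hinv g hg
    have h2 := hinv h hh
    have h3 : g * h * y * (g * h)⁻¹ = y := by
      calc g * h * y * (g * h)⁻¹ = g * (h * y * h⁻¹) * g⁻¹ := by group
        _ = g * y⁻¹ * g⁻¹ := by rw [h2]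
        _ = (g * y * g⁻¹)⁻¹ := by group
        _ = y := by rw [h1, inv_inv]
    calc y * (g * h) = g * h * y * (g * h)⁻¹ * (g * h) := by rw [h3]
      _ = g * h * y := by group
  obtain ⟨u, hu⟩ : ∃ u : P, u ∉ zpowers a := by
    by_contra hcon
    push_neg at hcon
    exact hne ((Subgroup.eq_top_iff' _).mpr hcon)
  have huy : u * y * u⁻¹ = y⁻¹ := hinv u hu
  have hui : u⁻¹ ∉ zpowers a := fun h => hu (by simpa using inv_mem h)
  -- C_A(u) ⊆ {1, z}
  have hCA : ∀ x ∈ zpowers a, u * x = x * u → x = 1 ∨ x = z := by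
    intro x hx hxu
    rcases c.mem_or hx with h | h
    · exfalso
      obtain ⟨i, hi⟩ := h
      have h1 : u * y = y * u := by
        rw [hy, ← hi]
        exact ((show Commute u x from hxu).zpow_right i).eq
      have h2 : u * y * u⁻¹ = y := by rw [h1]; group
      rw [huy] at h2
      exact c.y_ne_inv h2.symm
    · exact h
  set B := centralizer ({u} : Set P) with hB
  have hBmem : ∀ x : P, x ∈ B ↔ u * x = x * u := by
    intro x
    rw [hB, mem_centralizer_iff]
    constructor
    · intro h; exact (h u rfl)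
    · intro h w hw
      rw [Set.mem_singleton_iff] at hw
      subst hw; exact h
  have hzu : u * z = z * u := c.z_comm u
  have hBel : ∀ x ∈ B, x = 1 ∨ x = z ∨ x = u ∨ x = u * z := by
    intro x hx
    have hxu := (hBmem x).mp hx
    by_cases hxA : x ∈ zpowers a
    · rcases hCA x hxA hxu with h | h
      · exact Or.inl h
      · exact Or.inr (Or.inl h)
    · have h1 : u⁻¹ * x ∈ zpowers a := hmul _ _ hui hxA
      have h2 : u * (u⁻¹ * x) = (u⁻¹ * x) * u := by
        calc u * (u⁻¹ * x) = x := by group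
          _ = u⁻¹ * (u * x) := by group
          _ = u⁻¹ * (x * u) := by rw [hxu]
          _ = (u⁻¹ * x) * u := by group
      rcases hCA _ h1 h2 with h | h
      · right; right; left
        calc x = u * (u⁻¹ * x) := by group
          _ = u := by rw [h, mul_one]
      · right; right; right
        calc x = u * (u⁻¹ * x) := by group
          _ = u * z := by rw [h]
  have hz1 : z ≠ 1 := c.z_ne
  have hu1 : u ≠ 1 := fun h => hu (h ▸ one_mem _)
  have huz : u ≠ z := fun h => hu (h ▸ hzA)
  have huz1 : u * z ≠ 1 := by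
    intro h
    apply hu
    have : u = z⁻¹ := eq_inv_of_mul_eq_one_left h
    rw [this]; exact inv_mem hzA
  have huzz : u * z ≠ z := by
    intro h
    apply hu1
    have : u * z = 1 * z := by rw [one_mul]; exact h
    exact mul_right_cancel this
  have huzu : u * z ≠ u := by
    intro h
    apply hz1
    have : u * z = u * 1 := by rw [mul_one]; exact h
    exact mul_left_cancel this
  have hBset : (B : Set P) = {1, z, u, u * z} := by
    ext x
    simp only [SetLike.mem_coe, Set.mem_insert_iff, Set.mem_singleton_iff]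
    constructor
    · exact hBel x
    · rintro (rfl | rfl | rfl | rfl)
      · exact one_mem _
      · exact (hBmem _).mpr hzu
      · exact (hBmem _).mpr rfl
      · rw [hBmem]
        calc u * (u * z) = u * (z * u) := by rw [hzu]
          _ = u * z * u := by rw [mul_assoc]
  have hBcard : Nat.card B = 4 := by
    have h1 : Nat.card B = (B : Set P).ncard := rfl
    rw [h1, hBset, Set.ncard_insert_of_notMem, Set.ncard_eq_three.mpr]
    · exact ⟨z, u, u * z, fun h => huz h.symm, fun h => huzz h.symm, fun h => huzu h.symm, rfl⟩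
    · simp only [Set.mem_insert_iff, Set.mem_singleton_iff, not_or]
      exact ⟨fun h => hz1 h.symm, fun h => hu1 h.symm, fun h => huz1 h.symm⟩
  have hCB : centralizer (B : Set P) = B := by
    apply le_antisymm
    · intro g hg
      rw [hBmem]
      exact ((mem_centralizer_iff.mp hg) u ((hBmem u).mpr rfl))
    · intro g hg
      rw [mem_centralizer_iff]
      intro x hx
      have hgu := (hBmem g).mp hg
      rcases hBel x hx with rfl | rfl | rfl | rfl
      · simp
      · exact c.z_comm g |>.symm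
      · exact hgu
      · rw [mul_assoc, ← c.z_comm g, ← mul_assoc, hgu, mul_assoc]
  exact Cfsg.Agent.S0112.result (p := 2) n hn B (by rw [hBcard]; norm_num) hCB

/-- Case `C_P(y) > ⟨a⟩`: there is a normal four-group. -/
theorem Ctx.case_big (c : Ctx a L) (hD : ¬ centralizer {a ^ L} ≤ zpowers a) :
    ∃ V : Subgroup P, V.Normal ∧ IsMulCommutative V ∧ ¬ IsCyclic V := by
  haveI : Fact (Nat.Prime 2) := ⟨Nat.prime_two⟩
  haveI := c.norm
  set y := a ^ L with hy
  set z := a ^ (2 * L) with hz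
  have hyA : y ∈ zpowers a := pow_mem (mem_zpowers a) _
  have hzA : z ∈ zpowers a := pow_mem (mem_zpowers a) _
  have hz2 : z * z = 1 := c.z_sq
  have hz1 : z ≠ 1 := c.z_ne
  have hy2 : y ^ 2 = z := c.y_sq
  obtain ⟨g, hgD, hgA⟩ := SetLike.not_le_iff_exists.mp hD
  -- an element u ∈ D \ A with u² ∈ A
  obtain ⟨u, huD, huA, huu⟩ : ∃ u : P, u ∈ centralizer {y} ∧ u ∉ zpowers a ∧ u * u ∈ zpowers a := by
    classical
    have hex : ∃ j : ℕ, g ^ 2 ^ j ∈ zpowers a := by
      obtain ⟨k, hk⟩ := c.hP g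
      exact ⟨k, hk ▸ one_mem _⟩
    have hj0 : Nat.find hex ≠ 0 := by
      intro h0
      have := Nat.find_spec hex
      rw [h0, pow_zero, pow_one] at this
      exact hgA this
    obtain ⟨j, hj⟩ : ∃ j, Nat.find hex = j + 1 := ⟨Nat.find hex - 1, by omega⟩
    refine ⟨g ^ 2 ^ j, pow_mem hgD _, ?_, ?_⟩
    · intro hmem
      have := Nat.find_min' hex hmem
      omega
    · have := Nat.find_spec hex
      rw [hj, pow_succ, pow_mul, pow_two] at this
      exact this
  have huy : u * y = y * u := ((mem_centralizer_iff.mp huD) y rfl).symm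
  -- ψ
  have hconjA : ∀ x ∈ zpowers a, u * x * u⁻¹ ∈ zpowers a := fun x hx => c.conj_mem u hx
  set w := a⁻¹ * (u * a * u⁻¹) with hw
  have hwA : w ∈ zpowers a := mul_mem (inv_mem (mem_zpowers a)) (hconjA a (mem_zpowers a))
  have hs : ∀ x ∈ zpowers a, (u * u) * x = x * (u * u) := fun x hx => c.comm_A huu hx
  have huw : u * w * u⁻¹ = w⁻¹ := by
    have h1 : u * w * u⁻¹ = (u * a * u⁻¹)⁻¹ * ((u * u) * a * (u * u)⁻¹) := by rw [hw]; group
    have h2 : (u * u) * a * (u * u)⁻¹ = a := by rw [hs a (mem_zpowers a)]; group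
    have h3 : w⁻¹ = (u * a * u⁻¹)⁻¹ * a := by rw [hw]; group
    rw [h1, h2, h3]
  have hw2 : w ^ 2 = 1 := by
    by_contra hne
    rcases c.mem_or hwA with h | h | h
    · obtain ⟨i, hi⟩ := h
      have h1 : u * y * u⁻¹ = y⁻¹ := by
        have h2 : u * w ^ i * u⁻¹ = (u * w * u⁻¹) ^ i := by
          have := map_zpow (MulAut.conj u).toMonoidHom w i
          simpa [MulAut.conj_apply] using this
        rw [hy, ← hi, h2, huw, inv_zpow]
      have h3 : u * y * u⁻¹ = y := by rw [huy]; group
      rw [h3] at h1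
      exact c.y_ne_inv h1
    · apply hne; rw [h, one_pow]
    · apply hne; rw [h, pow_two]; exact hz2
  have hwz : w = z := by
    rcases c.invol hwA hw2 with h | h
    · exfalso
      apply huA
      rw [← c.cent, mem_centralizer_iff]
      intro x hx
      obtain ⟨i, rfl⟩ := hx
      have h1 : u * a * u⁻¹ = a := by
        have : a * w = a * 1 := by rw [h]
        rw [hw] at this
        have h2 : a * (a⁻¹ * (u * a * u⁻¹)) = u * a * u⁻¹ := by group
        rw [h2, mul_one] at this
        exact this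
      have h2 : u * a = a * u := by
        calc u * a = u * a * u⁻¹ * u := by group
          _ = a * u := by rw [h1]
      exact ((show Commute u a from h2).zpow_right i).eq.symm
    · exact h
  have hua : u * a * u⁻¹ = a * z := by
    rw [← hwz, hw]; group
  -- L is even
  have hL2 : ∃ K, L = 2 * K := by
    have hLpos := c.Lpos
    have hLpow : ∃ k, 4 * L = 2 ^ k := by
      obtain ⟨k, hk⟩ := (IsPGroup.iff_orderOf.mp c.hP) a
      exact ⟨k, by rw [← c.ord, hk]⟩
    obtain ⟨k, hk⟩ := hLpow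
    by_contra hodd
    have hLodd : ¬ 2 ∣ L := fun ⟨K, hK⟩ => hodd ⟨K, hK⟩
    -- then L = 1
    have hk2 : 2 ≤ k := by
      by_contra hlt
      push_neg at hlt
      have : 2 ^ k ≤ 2 ^ 1 := Nat.pow_le_pow_right (by norm_num) (by omega)
      omega
    obtain ⟨k', rfl⟩ : ∃ k', k = k' + 2 := ⟨k - 2, by omega⟩
    have hL' : L = 2 ^ k' := by
      have : 4 * L = 4 * 2 ^ k' := by rw [hk]; ring
      omega
    have hk0 : k' = 0 := by
      by_contra hne
      apply hLodd
      rw [hL']
      exact dvd_pow_self 2 hne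
    rw [hk0, pow_zero] at hL'
    -- y = a, so u centralizes a
    apply huA
    rw [← c.cent, mem_centralizer_iff]
    intro x hx
    obtain ⟨i, rfl⟩ := hx
    have h2 : u * a = a * u := by
      have := huy
      rw [hy, hL', pow_one] at this
      exact this
    exact ((show Commute u a from h2).zpow_right i).eq.symm
  obtain ⟨K, hK⟩ := hL2
  have hKpos : 0 < K := by have := c.Lpos; omega
  have hKpow : ∃ k, K = 2 ^ k := by
    obtain ⟨k, hk⟩ := (IsPGroup.iff_orderOf.mp c.hP) a
    rw [c.ord, hK] at hk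
    have hk3 : 3 ≤ k := by
      by_contra hlt
      push_neg at hlt
      have : 2 ^ k ≤ 2 ^ 2 := Nat.pow_le_pow_right (by norm_num) (by omega)
      omega
    obtain ⟨k', rfl⟩ : ∃ k', k = k' + 3 := ⟨k - 3, by omega⟩
    refine ⟨k', ?_⟩
    have : 8 * K = 8 * 2 ^ k' := by rw [pow_add] at hk; omega
    omega
  -- ψ on A
  have hpsi : ∀ x ∈ zpowers a, ∃ e : P, (e = 1 ∨ e = z) ∧ u * x * u⁻¹ = x * e := by
    rintro _ ⟨i, rfl⟩
    have h2 : u * a ^ i * u⁻¹ = (u * a * u⁻¹) ^ i := by
      have := map_zpow (MulAut.conj u).toMonoidHom a i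
      simpa [MulAut.conj_apply] using this
    have hcz : Commute a z := (Commute.refl a).pow_right _
    refine ⟨z ^ i, zpow_invol z hz2 i, ?_⟩
    show u * a ^ i * u⁻¹ = a ^ i * z ^ i
    rw [h2, hua, hcz.mul_zpow]
  -- squares in the coset uA
  have hsq : ∀ x ∈ zpowers a, ∀ e : P, u * x * u⁻¹ = x * e →
      (u * x) * (u * x) = (u * u) * (x * x) * e := by
    intro x hx e he
    have heA : e ∈ zpowers a := by
      have : e = x⁻¹ * (u * x * u⁻¹) := by rw [he]; group
      rw [this]; exact mul_mem (inv_mem hx) (hconjA x hx)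
    calc (u * x) * (u * x) = (u * x * u⁻¹) * ((u * u) * x) := by group
      _ = (x * e) * ((u * u) * x) := by rw [he]
      _ = (u * u) * (x * x) * e := by
        have h1 : (x * e) * ((u * u) * x) = ((u * u) * x) * (x * e) :=
          c.comm_A (mul_mem hx heA) (mul_mem huu hx)
        rw [h1]
        have h2 : x * (x * e) = x * x * e := by group
        rw [mul_assoc (u * u), h2, ← mul_assoc]
  -- u*u is a square in A
  obtain ⟨i, hi⟩ := huu
  simp only at hi
  have hieven : Even i := by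
    apply zpow_invol_even z hz2 hz1
    have h1 : u * (u * u) * u⁻¹ = u * u := by group
    have h2 : u * a ^ i * u⁻¹ = (u * a * u⁻¹) ^ i := by
      have := map_zpow (MulAut.conj u).toMonoidHom a i
      simpa [MulAut.conj_apply] using this
    have hcz : Commute a z := (Commute.refl a).pow_right _
    rw [← hi, h2, hua, hcz.mul_zpow] at h1
    have : a ^ i * z ^ i = a ^ i * 1 := by rw [mul_one]; exact h1
    exact mul_left_cancel this
  obtain ⟨j, hj⟩ := hieven
  set x₀ := a ^ (-j) with hx₀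
  have hx₀A : x₀ ∈ zpowers a := zpow_mem (mem_zpowers a) _
  have hx₀s : (u * u) * (x₀ * x₀) = 1 := by
    rw [← hi, hx₀, ← zpow_add, ← zpow_add, hj]
    have : j + j + (-j + -j) = 0 := by ring
    rw [this, zpow_zero]
  -- the involution t
  obtain ⟨t, htA, htt, hta⟩ : ∃ t : P, t ∉ zpowers a ∧ t * t = 1 ∧ t * a * t⁻¹ = a * z := by
    obtain ⟨e, he, hxe⟩ := hpsi x₀ hx₀A
    rcases he with he | he
    · refine ⟨u * x₀, ?_, ?_, ?_⟩
      · intro h
        apply huA
        have : u = (u * x₀) * x₀⁻¹ := by group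
        rw [this]; exact mul_mem h (inv_mem hx₀A)
      · rw [hsq x₀ hx₀A e hxe, hx₀s, he, mul_one]
      · have h1 : x₀ * a * x₀⁻¹ = a := by
          rw [c.comm_A hx₀A (mem_zpowers a)]; group
        calc u * x₀ * a * (u * x₀)⁻¹ = u * (x₀ * a * x₀⁻¹) * u⁻¹ := by group
          _ = a * z := by rw [h1, hua]
    · have hx₁A : x₀ * y ∈ zpowers a := mul_mem hx₀A hyA
      have hy1 : u * (x₀ * y) * u⁻¹ = (x₀ * y) * z := by
        have h1 : u * (x₀ * y) * u⁻¹ = (u * x₀ * u⁻¹) * (u * y * u⁻¹) := by group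
        have h2 : u * y * u⁻¹ = y := by rw [huy]; group
        rw [h1, hxe, h2, he]
        rw [mul_assoc, mul_assoc, c.comm_A hzA hyA]
      refine ⟨u * (x₀ * y), ?_, ?_, ?_⟩
      · intro h
        apply huA
        have : u = (u * (x₀ * y)) * (x₀ * y)⁻¹ := by group
        rw [this]; exact mul_mem h (inv_mem hx₁A)
      · rw [hsq (x₀ * y) hx₁A z hy1]
        have h3 : (x₀ * y) * (x₀ * y) = (x₀ * x₀) * z := by
          rw [← hy2, pow_two]
          calc x₀ * y * (x₀ * y) = x₀ * (y * x₀) * y := by group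
            _ = x₀ * (x₀ * y) * y := by rw [c.comm_A hyA hx₀A]
            _ = x₀ * x₀ * (y * y) := by group
        rw [h3, ← mul_assoc, hx₀s, one_mul, hz2]
      · have h1 : (x₀ * y) * a * (x₀ * y)⁻¹ = a := by
          rw [c.comm_A hx₁A (mem_zpowers a)]; group
        calc u * (x₀ * y) * a * (u * (x₀ * y))⁻¹ = u * ((x₀ * y) * a * (x₀ * y)⁻¹) * u⁻¹ := by group
          _ = a * z := by rw [h1, hua]
  have ht1 : t ≠ 1 := fun h => htA (h ▸ one_mem _)
  have htz : z ≠ t := fun h => htA (h ▸ hzA)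
  have hzt : z * t = t * z := (c.z_comm t).symm
  -- E = A ⊔ <t>
  set E : Subgroup P := zpowers a ⊔ zpowers t with hE
  have hAE : zpowers a ≤ E := le_sup_left
  have htE : t ∈ E := (le_sup_right : zpowers t ≤ E) (mem_zpowers t)
  have hM : Cfsg.Agent.Lib.Helper5_ModularInv.Modu E K a t := by
    refine ⟨?_, ?_, htt, ?_, hKpow⟩
    · intro x hx
      have h1 : (x : P) ∈ ((zpowers a ⊔ zpowers t : Subgroup P) : Set P) := hx
      rw [Subgroup.normal_mul] at h1
      obtain ⟨x₁, hx₁, x₂, hx₂, rfl⟩ := Set.mem_mul.mp h1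
      obtain ⟨k, rfl⟩ := hx₂
      rcases zpow_invol t htt k with h | h
      · left
        simp only [h, mul_one]; exact hx₁
      · right
        exact ⟨x₁, hx₁, by simp only [h]⟩
    · rw [c.ord, hK]; ring
    · rw [hta, hz, hK, pow_succ, show 2 * (2 * K) = 4 * K by ring]
      exact ((Commute.refl a).pow_right _).eq
  have hEn : ∀ g' : P, ∀ x ∈ E, g' * x * g'⁻¹ ∈ E := by
    intro g' x hx
    have h1 : ⁅g', x⁆ ∈ commutator P := by
      rw [_root_.commutator_def]
      exact Subgroup.commutator_mem_commutator (Subgroup.mem_top _) (Subgroup.mem_top _)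
    have h2 : g' * x * g'⁻¹ = ⁅g', x⁆ * x := by
      rw [commutatorElement_def]; group
    rw [h2]
    exact mul_mem (hAE (c.comm h1)) hx
  -- the four-group
  set V := Cfsg.Agent.Lib.Helper5_KleinSub.kleinSub z t hz2 htt hzt with hV
  have hVE : V ≤ E := by
    intro x hx
    rcases Cfsg.Agent.Lib.Helper5_KleinSub.mem_kleinSub.mp hx with rfl | rfl | rfl | rfl
    · exact one_mem _
    · exact hAE hzA
    · exact htE
    · exact mul_mem (hAE hzA) htE
  refine ⟨V, ⟨?_⟩, ⟨⟨fun x x' => Subtype.ext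
    (Cfsg.Agent.Lib.Helper5_KleinSub.kleinSub_comm x.2 x'.2)⟩⟩,
    Cfsg.Agent.Lib.Helper5_KleinSub.kleinSub_not_cyclic z t hz2 htt hzt hz1 ht1 htz⟩
  intro x hx g'
  have h1 : g' * x * g'⁻¹ ∈ E := hEn g' x (hVE hx)
  have h2 : (g' * x * g'⁻¹) ^ 2 = 1 := by
    rw [conj_pow, pow_two, Cfsg.Agent.Lib.Helper5_KleinSub.sq_eq_one_of_mem_kleinSub hx]; group
  have h3 := hM.F1 h1 h2
  have hzK : a ^ (4 * K) = z := by rw [hz, hK]; congr 1; ring
  rw [hzK] at h3
  exact Cfsg.Agent.Lib.Helper5_KleinSub.mem_kleinSub.mpr h3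

end Ctx

section Main

variable {P : Type u} [Group P] [Finite P]

/-- A non-cyclic 2-group all of whose normal abelian subgroups are cyclic has maximal class. -/
theorem maxclass_of_cyclic_normal_abelian (hP : IsPGroup 2 P)
    (hn : ∀ A : Subgroup P, A.Normal → IsMulCommutative A → IsCyclic A) (hnc : ¬ IsCyclic P) :
    ∃ n : ℕ, 3 ≤ n ∧ Nat.card P = 2 ^ n ∧ Group.nilpotencyClass P = n - 1 := by
  haveI : Fact (Nat.Prime 2) := ⟨Nat.prime_two⟩
  haveI : Group.IsNilpotent P := hP.isNilpotent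
  -- a maximal normal abelian subgroup
  have hfin : {M : Subgroup P | M.Normal ∧ IsMulCommutative M}.Finite := Set.toFinite _
  have hbot : (⊥ : Subgroup P) ∈ {M : Subgroup P | M.Normal ∧ IsMulCommutative M} :=
    ⟨inferInstance, inferInstance⟩
  obtain ⟨A, -, hAmax⟩ := hfin.exists_le_maximal hbot
  obtain ⟨⟨hAn, hAc⟩, hAm⟩ := hAmax
  haveI := hAn
  haveI := hAc
  have hcent : centralizer (A : Set P) = A :=
    Cfsg.Agent.S0015.result A (fun M hMn hMc hle => le_antisymm (hAm ⟨hMn, hMc⟩ hle) hle)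
  have hAcyc : IsCyclic A := hn A hAn hAc
  obtain ⟨a₀, ha₀⟩ := hAcyc.exists_generator
  set a : P := (a₀ : P) with ha
  have hAa : A = zpowers a := by
    ext x
    constructor
    · intro hx
      obtain ⟨i, hi⟩ := ha₀ ⟨x, hx⟩
      refine ⟨i, ?_⟩
      have := congrArg Subtype.val hi
      simpa using this
    · intro hx
      exact (zpowers_le.mpr a₀.2) hx
  have hAtop : A ≠ ⊤ := by
    intro h
    apply hnc
    rw [hAa] at h
    refine ⟨⟨a, fun x => ?_⟩⟩
    have hx : x ∈ zpowers a := by rw [h]; exact mem_top x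
    exact hx
  -- the commutator subgroup lies in A
  have hcomm : commutator P ≤ A := by
    let _ := (hAcyc.mulAutMulEquiv _).toMonoidHom.commGroupOfInjective
      (hAcyc.mulAutMulEquiv _).injective
    have h := Abelianization.commutator_subset_ker (MulAut.conjNormal : P →* MulAut A)
    rwa [Cfsg.Agent.S3303.ker_conjNormal, hcent] at h
  -- the order of a
  obtain ⟨m, hm⟩ := (IsPGroup.iff_orderOf.mp hP) a
  have hm2 : 2 ≤ m := by
    by_contra hlt
    push_neg at hlt
    -- a² = 1, so a is central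
    have ha2 : a ^ 2 = 1 := by
      have h1 : orderOf a ∣ 2 := by
        rw [hm]
        calc 2 ^ m ∣ 2 ^ 1 := pow_dvd_pow 2 (by omega)
          _ = 2 := pow_one 2
      exact orderOf_dvd_iff_pow_eq_one.mp h1
    apply hAtop
    rw [← hcent, eq_top_iff]
    intro g _
    rw [mem_centralizer_iff]
    intro x hx
    rw [hAa] at hx
    obtain ⟨i, rfl⟩ := hx
    have hga : g * a * g⁻¹ = a := by
      have h1 : g * a * g⁻¹ ∈ zpowers a := by rw [← hAa]; exact hAn.conj_mem a (hAa ▸ mem_zpowers a) g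
      obtain ⟨j, hj⟩ := h1
      simp only at hj
      rcases zpow_invol a (by rw [← pow_two]; exact ha2) j with h | h
      · rw [h] at hj
        have : a = g⁻¹ * (g * a * g⁻¹) * g := by group
        rw [this, ← hj]; group
      · rw [← hj, h]
    have h2 : g * a = a * g := by
      calc g * a = g * a * g⁻¹ * g := by group
        _ = a * g := by rw [hga]
    exact ((show Commute g a from h2).zpow_right i).eq.symm
  obtain ⟨m', rfl⟩ : ∃ m', m = m' + 2 := ⟨m - 2, by omega⟩
  set L := 2 ^ m' with hL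
  have hord : orderOf a = 4 * L := by rw [hm, hL]; ring
  have hctx : Ctx a L := by
    refine ⟨hP, ?_, ?_, hord, ?_⟩
    · rw [← hAa]; exact hAn
    · rw [← hAa]; exact hcent
    · rw [← hAa]; exact hcomm
  obtain ⟨n, hncard⟩ := hP.exists_card_eq
  by_cases hD : centralizer {a ^ L} ≤ zpowers a
  · refine ⟨n, ?_, hncard, hctx.case_small (by rw [← hAa]; exact hAtop) hD n hncard⟩
    -- card P ≥ 8
    have h1 : Nat.card A = 4 * L := by rw [hAa, Nat.card_zpowers, hord]
    have h2 : Nat.card A ∣ Nat.card P := Subgroup.card_subgroup_dvd_card A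
    have h3 : Nat.card A ≠ Nat.card P := by
      intro h
      exact hAtop (Subgroup.card_eq_iff_eq_top A |>.mp h)
    obtain ⟨k, hk⟩ := h2
    have hLpos : 0 < L := by positivity
    have hk2 : 2 ≤ k := by
      by_contra hlt
      push_neg at hlt
      interval_cases k
      · rw [mul_zero] at hk
        have : 0 < Nat.card P := Nat.card_pos
        omega
      · rw [mul_one] at hk; exact h3 hk.symm
    by_contra hlt
    push_neg at hlt
    have h4 : 2 ^ n ≤ 2 ^ 2 := Nat.pow_le_pow_right (by norm_num) (by omega)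
    rw [← hncard, hk, h1] at h4
    have : 4 * L * 2 ≤ 4 * L * k := Nat.mul_le_mul_left _ hk2
    omega
  · exfalso
    obtain ⟨V, hVn, hVc, hVnc⟩ := hctx.case_big hD
    exact hVnc (hn V hVn hVc)

end Main

end Cfsg.Agent.Lib.Helper5_NoNormalFour
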