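import Mathlib

set_option autoImplicit false

namespace Cfsg.Agent.Lib.Helper6_DihedralLift

/-- Recognition of the dihedral group: a group of order `2m` generated by an element `a` of order
`m` and an element `b ∉ ⟨a⟩` with `b² = 1` inverting `a` is `DihedralGroup m`. -/
theorem dihedral_equiv {Y : Type*} [Group Y] (m : ℕ) [NeZero m] (hY : Nat.card Y = 2 * m) (a b : Y)
    (ha : orderOf a = m) (hb : b ∉ Subgroup.zpowers a) (hb2 : b * b = 1)
    (hba : b * a * b⁻¹ = a⁻¹) : Nonempty (Y ≃* DihedralGroup m) := by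
  have hm0 : m ≠ 0 := NeZero.ne m
  have hfin : Finite Y := Nat.finite_of_card_ne_zero (by rw [hY]; omega)
  have ham : a ^ m = 1 := by rw [← ha]; exact pow_orderOf_eq_one a
  let g : ZMod m → Y := fun i => a ^ i.val
  have hg_add : ∀ i j, g (i + j) = g i * g j := by
    intro i j
    show a ^ (i + j).val = a ^ i.val * a ^ j.val
    rw [ZMod.val_add, ← pow_add, ← pow_eq_pow_mod _ ham]
  have hgcomm : ∀ i j, g i * g j = g j * g i := by
    intro i j
    show a ^ i.val * a ^ j.val = a ^ j.val * a ^ i.val
    rw [← pow_add, ← pow_add, add_comm]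
  have hg_sub : ∀ i j, g (j - i) = g j * (g i)⁻¹ := by
    intro i j
    have h1 := hg_add (j - i) i
    rw [sub_add_cancel] at h1
    rw [h1]; group
  have hbinv : b⁻¹ = b := inv_eq_of_mul_eq_one_right hb2
  have hbg : ∀ i, g i * b = b * (g i)⁻¹ := by
    intro i
    show a ^ i.val * b = b * (a ^ i.val)⁻¹
    have h1 : b * a ^ i.val * b⁻¹ = (a ^ i.val)⁻¹ := by
      rw [← MulAut.conj_apply, map_pow, MulAut.conj_apply, hba, inv_pow]
    rw [hbinv] at h1
    calc a ^ i.val * b = b * b * (a ^ i.val * b) := by rw [hb2, one_mul]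
      _ = b * (b * a ^ i.val * b) := by group
      _ = b * (a ^ i.val)⁻¹ := by rw [h1]
  let f : DihedralGroup m → Y := fun x => match x with
    | DihedralGroup.r i => g i
    | DihedralGroup.sr i => b * g i
  have hfr : ∀ i, f (DihedralGroup.r i) = g i := fun i => rfl
  have hfsr : ∀ i, f (DihedralGroup.sr i) = b * g i := fun i => rfl
  have hmul : ∀ x y, f (x * y) = f x * f y := by
    rintro (i | i) (j | j)
    · rw [DihedralGroup.r_mul_r, hfr, hfr, hfr, hg_add]
    · rw [DihedralGroup.r_mul_sr, hfr, hfsr, hfsr, hg_sub]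
      have h1 := hbg i
      have h2 := hgcomm i j
      calc b * (g j * (g i)⁻¹) = b * ((g i)⁻¹ * (g i * g j) * (g i)⁻¹) := by group
        _ = b * ((g i)⁻¹ * (g j * g i) * (g i)⁻¹) := by rw [h2]
        _ = (b * (g i)⁻¹) * g j := by group
        _ = g i * b * g j := by rw [← h1]
        _ = g i * (b * g j) := by group
    · rw [DihedralGroup.sr_mul_r, hfr, hfsr, hfsr, hg_add, mul_assoc]
    · rw [DihedralGroup.sr_mul_sr, hfr, hfsr, hfsr, hg_sub]
      have h1 := hbg i
      have h2 := hgcomm i j
      calc g j * (g i)⁻¹ = (g i)⁻¹ * (g i * g j) * (g i)⁻¹ := by group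
        _ = (g i)⁻¹ * (g j * g i) * (g i)⁻¹ := by rw [h2]
        _ = (b * b) * (g i)⁻¹ * g j := by rw [hb2]; group
        _ = b * (b * (g i)⁻¹) * g j := by group
        _ = b * (g i * b) * g j := by rw [← h1]
        _ = b * g i * (b * g j) := by group
  let F : DihedralGroup m →* Y := MonoidHom.mk' f hmul
  have hinj : Function.Injective F := by
    rw [injective_iff_map_eq_one]
    rintro (i | i) hx
    · have h1 : a ^ i.val = 1 := hx
      have h2 : m ∣ i.val := by
        have := orderOf_dvd_of_pow_eq_one h1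
        rw [ha] at this
        exact this
      have h3 : i.val < m := ZMod.val_lt i
      have h4 : i.val = 0 := Nat.eq_zero_of_dvd_of_lt h2 h3
      have h5 : i = 0 := (ZMod.val_eq_zero i).mp h4
      rw [h5]; rfl
    · exfalso
      have h1 : b * a ^ i.val = 1 := hx
      apply hb
      have h2 : b = (a ^ i.val)⁻¹ := eq_inv_of_mul_eq_one_left h1
      rw [h2]
      exact Subgroup.inv_mem _ (Subgroup.pow_mem _ (Subgroup.mem_zpowers a) _)
  have hbij : Function.Bijective F :=
    hinj.bijective_of_nat_card_le (by rw [hY, DihedralGroup.nat_card])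
  exact ⟨(MulEquiv.ofBijective F hbij).symm⟩

end Cfsg.Agent.Lib.Helper6_DihedralLift
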