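import Mathlib
import Cfsg.Agent.Lib.Helper4_Kieler0

set_option autoImplicit false

namespace Cfsg.Agent.Lib.Helper6_MaxClass

open scoped commutatorElement

universe u

/-- A group of order `p^m`, `m ≥ 2`, has nilpotency class at most `m - 1`. -/
theorem class_le (p : ℕ) [hfact : Fact p.Prime] : ∀ (m : ℕ) (G : Type u) [Group G] [Finite G],
    Nat.card G = p ^ m → 2 ≤ m → Group.nilpotencyClass G ≤ m - 1 := by
  intro m
  induction m using Nat.strong_induction_on with
  | _ m ih =>
    intro G _ _ hG hm
    have hp := hfact.out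
    have hGp : IsPGroup p G := IsPGroup.of_card hG
    have hnil : Group.IsNilpotent G := hGp.isNilpotent
    have hnt : Nontrivial G := by
      rw [← Finite.one_lt_card_iff_nontrivial, hG]
      exact Nat.one_lt_pow (by omega) hp.one_lt
    have hclass : Group.nilpotencyClass G = Group.nilpotencyClass (G ⧸ Subgroup.center G) + 1 :=
      Group.nilpotencyClass_eq_quotient_center_plus_one
    obtain ⟨k, hk⟩ := (hGp.to_subgroup (Subgroup.center G)).exists_card_eq
    have hk0 : k ≠ 0 := by
      intro h
      rw [h, pow_zero] at hk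
      exact (hGp.bot_lt_center).ne' (Subgroup.card_eq_one.mp hk)
    have hkm : k ≤ m := by
      have h1 : Nat.card (Subgroup.center G) ∣ Nat.card G := Subgroup.card_subgroup_dvd_card _
      rw [hk, hG] at h1
      exact (Nat.pow_dvd_pow_iff_le_right hp.one_lt).mp h1
    have hQ : Nat.card (G ⧸ Subgroup.center G) = p ^ (m - k) := by
      have h1 := Subgroup.card_eq_card_quotient_mul_card_subgroup (Subgroup.center G)
      rw [hG, hk] at h1
      have h2 : p ^ m = p ^ (m - k) * p ^ k := by rw [← pow_add]; congr 1; omega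
      rw [h2] at h1
      exact (Nat.eq_of_mul_eq_mul_right (pow_pos hp.pos k) h1).symm
    by_cases h2 : 2 ≤ m - k
    · have := ih (m - k) (by omega) (G ⧸ Subgroup.center G) hQ h2
      omega
    · have hcyc : IsCyclic (G ⧸ Subgroup.center G) := by
        have h3 : m - k = 0 ∨ m - k = 1 := by omega
        rcases h3 with h | h
        · rw [h, pow_zero] at hQ
          have : Subsingleton (G ⧸ Subgroup.center G) := (Nat.card_eq_one_iff_unique.mp hQ).1
          infer_instance
        · rw [h, pow_one] at hQ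
          have : Fact (Nat.card (G ⧸ Subgroup.center G)).Prime := ⟨by rw [hQ]; exact hp⟩
          exact isCyclic_of_prime_card rfl
      have hcomm : IsMulCommutative G :=
        MonoidHom.isMulCommutative_of_isCyclic_of_ker_le_center
          (QuotientGroup.mk' (Subgroup.center G)) (by rw [QuotientGroup.ker_mk'])
      have := Group.IsNilpotent.nilpotencyClass_le_one_iff.mpr hcomm
      omega

/-- In a `p`-group of maximal class of order `p^n`, `n ≥ 3`, the centre has order `p` and the
central quotient is of maximal class (or of order `p^2`). -/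
theorem center_of_maxclass (p : ℕ) [hfact : Fact p.Prime] {X : Type u} [Group X] [Finite X] (n : ℕ)
    (hn : 3 ≤ n) (hX : Nat.card X = p ^ n) (hc : Group.nilpotencyClass X = n - 1) :
    Nat.card (Subgroup.center X) = p ∧ Nat.card (X ⧸ Subgroup.center X) = p ^ (n - 1) ∧
      Group.nilpotencyClass (X ⧸ Subgroup.center X) = n - 2 := by
  have hp := hfact.out
  have hGp : IsPGroup p X := IsPGroup.of_card hX
  have hnil : Group.IsNilpotent X := hGp.isNilpotent
  have hnt : Nontrivial X := by
    rw [← Finite.one_lt_card_iff_nontrivial, hX]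
    exact Nat.one_lt_pow (by omega) hp.one_lt
  have hclass : Group.nilpotencyClass X = Group.nilpotencyClass (X ⧸ Subgroup.center X) + 1 :=
    Group.nilpotencyClass_eq_quotient_center_plus_one
  obtain ⟨k, hk⟩ := (hGp.to_subgroup (Subgroup.center X)).exists_card_eq
  have hk0 : k ≠ 0 := by
    intro h
    rw [h, pow_zero] at hk
    exact (hGp.bot_lt_center).ne' (Subgroup.card_eq_one.mp hk)
  have hkm : k ≤ n := by
    have h1 : Nat.card (Subgroup.center X) ∣ Nat.card X := Subgroup.card_subgroup_dvd_card _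
    rw [hk, hX] at h1
    exact (Nat.pow_dvd_pow_iff_le_right hp.one_lt).mp h1
  have hQ : Nat.card (X ⧸ Subgroup.center X) = p ^ (n - k) := by
    have h1 := Subgroup.card_eq_card_quotient_mul_card_subgroup (Subgroup.center X)
    rw [hX, hk] at h1
    have h2 : p ^ n = p ^ (n - k) * p ^ k := by rw [← pow_add]; congr 1; omega
    rw [h2] at h1
    exact (Nat.eq_of_mul_eq_mul_right (pow_pos hp.pos k) h1).symm
  have hk1 : k = 1 := by
    by_cases h2 : 2 ≤ n - k
    · have := class_le p (n - k) (X ⧸ Subgroup.center X) hQ h2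
      omega
    · exfalso
      have hcyc : IsCyclic (X ⧸ Subgroup.center X) := by
        have h3 : n - k = 0 ∨ n - k = 1 := by omega
        rcases h3 with h | h
        · rw [h, pow_zero] at hQ
          have : Subsingleton (X ⧸ Subgroup.center X) := (Nat.card_eq_one_iff_unique.mp hQ).1
          infer_instance
        · rw [h, pow_one] at hQ
          have : Fact (Nat.card (X ⧸ Subgroup.center X)).Prime := ⟨by rw [hQ]; exact hp⟩
          exact isCyclic_of_prime_card rfl
      have hcomm : IsMulCommutative X :=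
        MonoidHom.isMulCommutative_of_isCyclic_of_ker_le_center
          (QuotientGroup.mk' (Subgroup.center X)) (by rw [QuotientGroup.ker_mk'])
      have := Group.IsNilpotent.nilpotencyClass_le_one_iff.mpr hcomm
      omega
  subst hk1
  refine ⟨by rw [hk, pow_one], hQ, by omega⟩

/-- If a nonabelian finite group `G` has an abelian subgroup of index 2 then
`|G| = 2 |Z(G)| |G'|`. -/
theorem card_of_abelian_index_two {G : Type*} [Group G] [Finite G] (H : Subgroup G)
    (hH : H.index = 2) (hab : ∀ a ∈ H, ∀ b ∈ H, a * b = b * a) (hna : ¬ IsMulCommutative G) :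
    Nat.card G = 2 * (Nat.card (Subgroup.center G) * Nat.card (commutator G)) := by
  classical
  have hHn : H.Normal := Subgroup.normal_of_index_eq_two hH
  obtain ⟨x, hx⟩ : ∃ x, x ∉ H := by
    by_contra hcon
    push Not at hcon
    have h1 : H = ⊤ := (Subgroup.eq_top_iff' H).mpr hcon
    rw [h1, Subgroup.index_top] at hH
    omega
  have hdecomp : ∀ y, y ∉ H → ∀ g, g ∉ H → y⁻¹ * g ∈ H := by
    intro y hy g hg
    rw [Subgroup.mul_mem_iff_of_index_two hH]
    constructor
    · intro h; exact absurd (H.inv_mem_iff.mp h) hy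
    · intro h; exact absurd h hg
  -- centre inside H
  have hZH : Subgroup.center G ≤ H := by
    intro z hz
    by_contra hzH
    apply hna
    have key : ∀ g : G, ∃ c ∈ Subgroup.center G, ∃ h ∈ H, g = c * h := by
      intro g
      by_cases hg : g ∈ H
      · exact ⟨1, Subgroup.one_mem _, g, hg, by rw [one_mul]⟩
      · exact ⟨z, hz, z⁻¹ * g, hdecomp z hzH g hg, by group⟩
    refine ⟨⟨fun a b => ?_⟩⟩
    obtain ⟨c₁, hc₁, h₁, hh₁, rfl⟩ := key a
    obtain ⟨c₂, hc₂, h₂, hh₂, rfl⟩ := key b
    have e1 := Subgroup.mem_center_iff.mp hc₁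
    have e2 := Subgroup.mem_center_iff.mp hc₂
    calc c₁ * h₁ * (c₂ * h₂) = c₁ * (h₁ * c₂) * h₂ := by group
      _ = c₁ * (c₂ * h₁) * h₂ := by rw [e2 h₁]
      _ = (c₁ * c₂) * (h₁ * h₂) := by group
      _ = (c₂ * c₁) * (h₂ * h₁) := by rw [e1 c₂, hab h₁ hh₁ h₂ hh₂]
      _ = c₂ * (c₁ * h₂) * h₁ := by group
      _ = c₂ * (h₂ * c₁) * h₁ := by rw [e1 h₂]
      _ = c₂ * h₂ * (c₁ * h₁) := by group
  -- the commutator homomorphism
  have hmemφ : ∀ h : H, x * (h : G) * x⁻¹ * (h : G)⁻¹ ∈ H := fun h =>
    H.mul_mem (hHn.conj_mem h h.2 x) (H.inv_mem h.2)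
  let φ : H →* H := MonoidHom.mk' (fun h => ⟨x * (h : G) * x⁻¹ * (h : G)⁻¹, hmemφ h⟩) (by
    intro a b
    apply Subtype.ext
    have h1 : x * (b : G) * x⁻¹ * (b : G)⁻¹ ∈ H := hmemφ b
    have h2 := hab _ (H.inv_mem a.2) _ h1
    show x * ((a : G) * (b : G)) * x⁻¹ * ((a : G) * (b : G))⁻¹ =
      (x * (a : G) * x⁻¹ * (a : G)⁻¹) * (x * (b : G) * x⁻¹ * (b : G)⁻¹)
    calc x * ((a : G) * (b : G)) * x⁻¹ * ((a : G) * (b : G))⁻¹
        = x * (a : G) * x⁻¹ * ((x * (b : G) * x⁻¹ * (b : G)⁻¹) * (a : G)⁻¹) := by group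
      _ = x * (a : G) * x⁻¹ * ((a : G)⁻¹ * (x * (b : G) * x⁻¹ * (b : G)⁻¹)) := by rw [h2]
      _ = _ := by group)
  have hφ : ∀ h : H, ((φ h : H) : G) = x * (h : G) * x⁻¹ * (h : G)⁻¹ := fun h => rfl
  -- kernel = centre
  have hker : φ.ker = (Subgroup.center G).subgroupOf H := by
    ext h
    rw [MonoidHom.mem_ker, Subgroup.mem_subgroupOf, Subgroup.mem_center_iff]
    constructor
    · intro h1
      have h2 : x * (h : G) * x⁻¹ * (h : G)⁻¹ = 1 := by
        rw [← hφ, h1]; rfl
      have h3 : x * (h : G) = (h : G) * x := by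
        calc x * (h : G) = (x * (h : G) * x⁻¹ * (h : G)⁻¹) * ((h : G) * x) := by group
          _ = (h : G) * x := by rw [h2, one_mul]
      intro g
      by_cases hg : g ∈ H
      · exact hab g hg h h.2
      · have h4 := hdecomp x hx g hg
        have h5 := hab _ h4 h h.2
        calc g * (h : G) = x * ((x⁻¹ * g) * (h : G)) := by group
          _ = x * ((h : G) * (x⁻¹ * g)) := by rw [h5]
          _ = (x * (h : G)) * (x⁻¹ * g) := by group
          _ = ((h : G) * x) * (x⁻¹ * g) := by rw [h3]
          _ = (h : G) * g := by group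
    · intro h1
      apply Subtype.ext
      rw [hφ]
      show x * (h : G) * x⁻¹ * (h : G)⁻¹ = 1
      rw [h1 x]; group
  have hcardker : Nat.card φ.ker = Nat.card (Subgroup.center G) := by
    rw [hker]
    exact Nat.card_congr (Subgroup.subgroupOfEquivOfLe hZH).toEquiv
  -- range = commutator
  have hR : ∀ g, g ∉ H → ∀ h (hh : h ∈ H), ⁅g, h⁆ = ((φ ⟨h, hh⟩ : H) : G) := by
    intro g hg h hh
    rw [hφ, commutatorElement_def]
    have h4 := hdecomp x hx g hg
    have h5 := hab _ h4 h hh
    show g * h * g⁻¹ * h⁻¹ = x * h * x⁻¹ * h⁻¹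
    calc g * h * g⁻¹ * h⁻¹ = x * ((x⁻¹ * g) * h) * (x⁻¹ * g)⁻¹ * x⁻¹ * h⁻¹ := by group
      _ = x * (h * (x⁻¹ * g)) * (x⁻¹ * g)⁻¹ * x⁻¹ * h⁻¹ := by rw [h5]
      _ = x * h * x⁻¹ * h⁻¹ := by group
  have hrange : (φ.range).map H.subtype = commutator G := by
    apply le_antisymm
    · rintro _ ⟨_, ⟨h, rfl⟩, rfl⟩
      rw [commutator_def]
      show ((φ h : H) : G) ∈ _
      rw [hφ, ← commutatorElement_def]
      exact Subgroup.commutator_mem_commutator (Subgroup.mem_top x) (Subgroup.mem_top _)
    · rw [commutator_def, Subgroup.commutator_le]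
      have hRmem : ∀ g, g ∉ H → ∀ h, h ∈ H → ⁅g, h⁆ ∈ (φ.range).map H.subtype := by
        intro g hg h hh
        rw [hR g hg h hh]
        exact ⟨φ ⟨h, hh⟩, ⟨⟨h, hh⟩, rfl⟩, rfl⟩
      intro g₁ _ g₂ _
      by_cases h1 : g₁ ∈ H <;> by_cases h2 : g₂ ∈ H
      · rw [commutatorElement_eq_one_iff_mul_comm.mpr (hab g₁ h1 g₂ h2)]
        exact Subgroup.one_mem _
      · rw [← commutatorElement_inv]
        exact Subgroup.inv_mem _ (hRmem g₂ h2 g₁ h1)
      · exact hRmem g₁ h1 g₂ h2
      · have h3 : g₁ * g₂ ∈ H := by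
          rw [Subgroup.mul_mem_iff_of_index_two hH]
          exact ⟨fun h => absurd h h1, fun h => absurd h h2⟩
        have h4 : g₁⁻¹ ∉ H := fun h => h1 (H.inv_mem_iff.mp h)
        have h5 : ⁅g₁, g₂⁆ = (⁅g₁⁻¹, g₁ * g₂⁆)⁻¹ := by
          rw [commutatorElement_def, commutatorElement_def]; group
        rw [h5]
        exact Subgroup.inv_mem _ (hRmem _ h4 _ h3)
  have hcardR : Nat.card φ.range = Nat.card (commutator G) := by
    rw [← hrange]
    exact (Subgroup.card_map_of_injective H.subtype_injective).symm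
  have h1 : Nat.card G = Nat.card H * 2 := by rw [← hH, Subgroup.card_mul_index]
  have h2 := Subgroup.card_eq_card_quotient_mul_card_subgroup φ.ker
  have h3 : Nat.card (H ⧸ φ.ker) = Nat.card φ.range :=
    Nat.card_congr (QuotientGroup.quotientKerEquivRange φ).toEquiv
  rw [h1, h2, h3, hcardR, hcardker]
  ring

/-- A group in which every element squares to one is commutative. -/
theorem comm_of_sq_eq_one {G : Type*} [Group G] (h : ∀ g : G, g ^ 2 = 1) (a b : G) :
    a * b = b * a := by
  have ha : a⁻¹ = a := inv_eq_of_mul_eq_one_right (by rw [← pow_two]; exact h a)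
  have hb : b⁻¹ = b := inv_eq_of_mul_eq_one_right (by rw [← pow_two]; exact h b)
  have hab : (a * b)⁻¹ = a * b := inv_eq_of_mul_eq_one_right (by rw [← pow_two]; exact h (a * b))
  calc a * b = (a * b)⁻¹ := hab.symm
    _ = b⁻¹ * a⁻¹ := mul_inv_rev a b
    _ = b * a := by rw [ha, hb]

/-- A group of order 2 consists of `1` and one further element. -/
theorem exists_of_card_two {G : Type*} [Group G] (Z : Subgroup G) (hZ : Nat.card Z = 2) :
    ∃ z ∈ Z, z ≠ 1 ∧ z ^ 2 = 1 ∧ ∀ w ∈ Z, w = 1 ∨ w = z := by
  obtain ⟨⟨z, hzZ⟩, hz1, huniq⟩ := (Nat.card_eq_two_iff' (1 : Z)).mp hZ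
  have hz1' : z ≠ 1 := fun h => hz1 (Subtype.ext h)
  have hall : ∀ w ∈ Z, w = 1 ∨ w = z := by
    intro w hw
    by_cases h : w = 1
    · exact Or.inl h
    · right
      have := huniq ⟨w, hw⟩ (fun h' => h (congrArg Subtype.val h'))
      exact congrArg Subtype.val this
  refine ⟨z, hzZ, hz1', ?_, hall⟩
  rcases hall (z ^ 2) (Z.pow_mem hzZ 2) with h | h
  · exact h
  · exfalso
    apply hz1'
    have : z * z = z := by rw [← pow_two]; exact h
    exact mul_eq_left.mp this |>.symm ▸ rfl

/-- A 2-group of maximal class has a cyclic subgroup of index 2. -/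
theorem exists_cyclic_index_two : ∀ (n : ℕ) (X : Type u) [Group X] [Finite X], 3 ≤ n →
    Nat.card X = 2 ^ n → Group.nilpotencyClass X = n - 1 →
    ∃ C : Subgroup X, IsCyclic C ∧ C.index = 2 := by
  intro n
  induction n with
  | zero => intro X _ _ hn; omega
  | succ n ih =>
    intro X _ _ hn hX hc
    have hXp : IsPGroup 2 X := IsPGroup.of_card hX
    have hnil : Group.IsNilpotent X := hXp.isNilpotent
    have hna : ¬ IsMulCommutative X := by
      intro h
      have := Group.IsNilpotent.nilpotencyClass_le_one_iff.mpr h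
      omega
    by_cases hn3 : n + 1 = 3
    · -- order 8
      rw [hn3] at hX
      obtain ⟨g, hg⟩ : ∃ g : X, g ^ 2 ≠ 1 := by
        by_contra hcon
        push Not at hcon
        exact hna ⟨⟨comm_of_sq_eq_one hcon⟩⟩
      have hdvd : orderOf g ∣ 2 ^ 3 := by rw [← hX]; exact orderOf_dvd_natCard g
      obtain ⟨k, hk, hk'⟩ := (Nat.dvd_prime_pow Nat.prime_two).mp hdvd
      have hk0 : k ≠ 0 := by
        intro h
        rw [h, pow_zero, orderOf_eq_one_iff] at hk'
        rw [hk', one_pow] at hg
        exact hg rfl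
      have hk1 : k ≠ 1 := by
        intro h
        rw [h, pow_one] at hk'
        apply hg
        rw [← hk']; exact pow_orderOf_eq_one g
      have hk3 : k ≠ 3 := by
        intro h
        rw [h, ← hX] at hk'
        have := isCyclic_of_orderOf_eq_card g hk'
        exact hna IsCyclic.isMulCommutative
      have hk2 : k = 2 := by omega
      refine ⟨Subgroup.zpowers g, inferInstance, ?_⟩
      have h1 := Subgroup.card_mul_index (Subgroup.zpowers g)
      rw [Nat.card_zpowers, hk', hk2, hX] at h1
      omega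
    · -- order ≥ 16
      obtain ⟨hZcard, hQcard, hQclass⟩ := center_of_maxclass 2 (n + 1) hn hX hc
      obtain ⟨Cb, hCbcyc, hCbidx⟩ := ih (X ⧸ Subgroup.center X) (by omega) hQcard hQclass
      set Z := Subgroup.center X with hZ
      obtain ⟨z, hzZ, hz1, hz2, hzall⟩ := exists_of_card_two Z hZcard
      have hzc : ∀ g : X, g * z = z * g := Subgroup.mem_center_iff.mp hzZ
      set π := QuotientGroup.mk' Z with hπ
      set H : Subgroup X := Cb.comap π with hH
      have hHidx : H.index = 2 := by
        rw [hH, Subgroup.index_comap_of_surjective Cb (QuotientGroup.mk'_surjective Z), hCbidx]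
      have hHn : H.Normal := Subgroup.normal_of_index_eq_two hHidx
      obtain ⟨g, hgen⟩ := hCbcyc.exists_generator
      obtain ⟨h, hh⟩ := QuotientGroup.mk'_surjective Z (g : X ⧸ Z)
      have hhH : h ∈ H := by
        show π h ∈ Cb
        rw [hπ, hh]; exact g.2
      have hHel : ∀ y ∈ H, ∃ k : ℤ, y = h ^ k ∨ y = h ^ k * z := by
        intro y hy
        have hy' : π y ∈ Cb := hy
        obtain ⟨k, hk⟩ := Subgroup.mem_zpowers_iff.mp (hgen ⟨π y, hy'⟩)
        have h1 : π (h ^ k) = π y := by
          rw [map_zpow, hπ, hh]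
          have := congrArg Subtype.val hk
          rw [Subgroup.coe_zpow] at this
          exact this
        have h2 : (h ^ k)⁻¹ * y ∈ Z := by
          rw [← QuotientGroup.eq]; exact h1
        refine ⟨k, ?_⟩
        rcases hzall _ h2 with h3 | h3
        · left
          calc y = h ^ k * ((h ^ k)⁻¹ * y) := by group
            _ = h ^ k := by rw [h3, mul_one]
        · right
          calc y = h ^ k * ((h ^ k)⁻¹ * y) := by group
            _ = h ^ k * z := by rw [h3]
      by_cases hzh : z ∈ Subgroup.zpowers h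
      · have hHeq : H = Subgroup.zpowers h := by
          apply le_antisymm
          · intro y hy
            obtain ⟨k, hk | hk⟩ := hHel y hy
            · rw [hk]; exact Subgroup.zpow_mem_zpowers h k
            · rw [hk]; exact Subgroup.mul_mem _ (Subgroup.zpow_mem_zpowers h k) hzh
          · rw [Subgroup.zpowers_le]; exact hhH
        refine ⟨Subgroup.zpowers h, inferInstance, ?_⟩
        rw [← hHeq]; exact hHidx
      · exfalso
        -- K = ⟨h²⟩ is normal and nontrivial
        have hconj : ∀ x : X, ∃ k : ℤ, x * h ^ 2 * x⁻¹ = (h ^ 2) ^ k := by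
          intro x
          have h1 : x * h * x⁻¹ ∈ H := hHn.conj_mem h hhH x
          obtain ⟨k, hk | hk⟩ := hHel _ h1
          · refine ⟨k, ?_⟩
            calc x * h ^ 2 * x⁻¹ = (x * h * x⁻¹) ^ 2 := by rw [pow_two, pow_two]; group
              _ = (h ^ k) ^ 2 := by rw [hk]
              _ = (h ^ 2) ^ k := by rw [← zpow_natCast, ← zpow_natCast, ← zpow_mul, ← zpow_mul,
                  mul_comm]
          · refine ⟨k, ?_⟩
            calc x * h ^ 2 * x⁻¹ = (x * h * x⁻¹) ^ 2 := by rw [pow_two, pow_two]; group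
              _ = (h ^ k * z) ^ 2 := by rw [hk]
              _ = h ^ k * (z * h ^ k) * z := by rw [pow_two]; group
              _ = h ^ k * (h ^ k * z) * z := by rw [← hzc (h ^ k)]
              _ = h ^ k * h ^ k * (z ^ 2) := by rw [pow_two]; group
              _ = (h ^ k) ^ 2 := by rw [hz2, mul_one, pow_two]
              _ = (h ^ 2) ^ k := by rw [← zpow_natCast, ← zpow_natCast, ← zpow_mul, ← zpow_mul,
                  mul_comm]
        have hKn : (Subgroup.zpowers (h ^ 2)).Normal := by
          constructor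
          intro a ha x
          obtain ⟨j, rfl⟩ := Subgroup.mem_zpowers_iff.mp ha
          obtain ⟨k, hk⟩ := hconj x
          have : x * (h ^ 2) ^ j * x⁻¹ = (x * h ^ 2 * x⁻¹) ^ j := by
            rw [← MulAut.conj_apply, map_zpow, MulAut.conj_apply]
          rw [this, hk]
          exact Subgroup.zpow_mem _ (Subgroup.zpow_mem_zpowers _ k) j
        have hK0 : Subgroup.zpowers (h ^ 2) ≠ ⊥ := by
          intro h0
          have h1 : h ^ 2 = 1 := Subgroup.zpowers_eq_bot.mp h0
          have h2 : g ^ 2 = 1 := by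
            apply Subtype.ext
            rw [Subgroup.coe_pow, ← hh, ← hπ, ← map_pow, h1, map_one]; rfl
          have h3 : orderOf g = Nat.card Cb := orderOf_eq_card_of_forall_mem_zpowers hgen
          have h4 : orderOf g ≤ 2 := Nat.le_of_dvd (by norm_num) (orderOf_dvd_of_pow_eq_one h2)
          have h5 := Subgroup.card_mul_index Cb
          rw [hCbidx, hQcard, ← h3] at h5
          have h6 : 2 ^ 3 ≤ 2 ^ (n + 1 - 1) := Nat.pow_le_pow_right (by norm_num) (by omega)
          omega
        obtain ⟨a, haK, hac, ha1⟩ :=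
          Cfsg.Agent.Lib.Helper4_Kieler0.normal_inf_center_ne_bot' (Subgroup.zpowers (h ^ 2)) hK0
        rcases hzall a hac with h1 | h1
        · exact ha1 h1
        · apply hzh
          rw [← h1]
          have hle : Subgroup.zpowers (h ^ 2) ≤ Subgroup.zpowers h := by
            rw [Subgroup.zpowers_le]; exact Subgroup.pow_mem _ (Subgroup.mem_zpowers h) 2
          exact hle haK

end Cfsg.Agent.Lib.Helper6_MaxClass
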