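import Mathlib
import Cfsg.Agent.Lib.Helper6_MaxClass
import Cfsg.Agent.Lib.Helper6_DihedralLift

set_option autoImplicit false

namespace Cfsg.Agent.Lib.Helper6_MaxClass2

open Cfsg.Agent.Lib.Helper6_MaxClass

universe u

theorem decomp_of_index_two {G : Type*} [Group G] (H : Subgroup G) (hH : H.index = 2)
    (y g : G) (hy : y ∉ H) (hg : g ∉ H) : y⁻¹ * g ∈ H := by
  rw [Subgroup.mul_mem_iff_of_index_two hH]
  constructor
  · intro h; exact absurd (H.inv_mem_iff.mp h) hy
  · intro h; exact absurd h hg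

/-- In a nonabelian group, the centre lies inside any abelian subgroup of index 2. -/
theorem center_le_of_abelian_index_two {G : Type*} [Group G] (H : Subgroup G)
    (hH : H.index = 2) (hab : ∀ a ∈ H, ∀ b ∈ H, a * b = b * a) (hna : ¬ IsMulCommutative G) :
    Subgroup.center G ≤ H := by
  intro z hz
  by_contra hzH
  apply hna
  have key : ∀ g : G, ∃ c ∈ Subgroup.center G, ∃ h ∈ H, g = c * h := by
    intro g
    by_cases hg : g ∈ H
    · exact ⟨1, Subgroup.one_mem _, g, hg, by rw [one_mul]⟩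
    · exact ⟨z, hz, z⁻¹ * g, decomp_of_index_two H hH z g hzH hg, by group⟩
  refine ⟨⟨fun a b => ?_⟩⟩
  obtain ⟨c₁, hc₁, h₁, hh₁, rfl⟩ := key a
  obtain ⟨c₂, hc₂, h₂, hh₂, rfl⟩ := key b
  have e1 := Subgroup.mem_center_iff.mp hc₁
  have e2 := Subgroup.mem_center_iff.mp hc₂
  calc c₁ * h₁ * (c₂ * h₂) = c₁ * (h₁ * c₂) * h₂ := by group
    _ = c₁ * (c₂ * h₁) * h₂ := by rw [e2 h₁]
    _ = (c₁ * c₂) * (h₁ * h₂) := by group
    _ = (c₂ * c₁) * (h₂ * h₁) := by rw [e1 c₂, hab h₁ hh₁ h₂ hh₂]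
    _ = c₂ * (c₁ * h₂) * h₁ := by group
    _ = c₂ * (h₂ * c₁) * h₁ := by rw [e1 h₂]
    _ = c₂ * h₂ * (c₁ * h₁) := by group

/-- An element of an abelian subgroup `H` of index 2 commuting with some element outside `H` is
central. -/
theorem mem_center_of_abelian_index_two {G : Type*} [Group G] (H : Subgroup G)
    (hH : H.index = 2) (hab : ∀ a ∈ H, ∀ b ∈ H, a * b = b * a) (x : G) (hx : x ∉ H) (h : G)
    (hh : h ∈ H) (hxh : x * h = h * x) : h ∈ Subgroup.center G := by
  rw [Subgroup.mem_center_iff]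
  intro g
  by_cases hg : g ∈ H
  · exact hab g hg h hh
  · have h4 := decomp_of_index_two H hH x g hx hg
    have h5 := hab _ h4 h hh
    calc g * h = x * ((x⁻¹ * g) * h) := by group
      _ = x * (h * (x⁻¹ * g)) := by rw [h5]
      _ = (x * h) * (x⁻¹ * g) := by group
      _ = (h * x) * (x⁻¹ * g) := by rw [hxh]
      _ = h * g := by group

/-- Structure of a 2-group of maximal class. -/
theorem maxclass_structure {X : Type u} [Group X] [Finite X] (n : ℕ) (hn : 3 ≤ n)
    (hX : Nat.card X = 2 ^ n) (hc : Group.nilpotencyClass X = n - 1) :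
    ∃ (c x : X), orderOf c = 2 ^ (n - 1) ∧ x ∉ Subgroup.zpowers c ∧
      (Subgroup.zpowers c).index = 2 ∧
      Subgroup.center X ≤ Subgroup.zpowers c ∧ x * x ∈ Subgroup.center X ∧
      c * (x * c * x⁻¹) ∈ Subgroup.center X ∧
      (∀ y, y ∉ Subgroup.zpowers c → y * y ∈ Subgroup.center X) := by
  have hXp : IsPGroup 2 X := IsPGroup.of_card hX
  have hnil : Group.IsNilpotent X := hXp.isNilpotent
  have hna : ¬ IsMulCommutative X := by
    intro h
    have := Group.IsNilpotent.nilpotencyClass_le_one_iff.mpr h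
    omega
  obtain ⟨C, hCcyc, hCidx⟩ := exists_cyclic_index_two n X hn hX hc
  obtain ⟨g, hgen⟩ := hCcyc.exists_generator
  have hCeq : C = Subgroup.zpowers (g : X) := by
    apply le_antisymm
    · intro y hy
      obtain ⟨k, hk⟩ := Subgroup.mem_zpowers_iff.mp (hgen ⟨y, hy⟩)
      have := congrArg Subtype.val hk
      rw [Subgroup.coe_zpow] at this
      rw [← show (g : X) ^ k = y from this]
      exact Subgroup.zpow_mem_zpowers _ k
    · rw [Subgroup.zpowers_le]; exact g.2
  set c : X := (g : X) with hcdef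
  rw [hCeq] at hCidx
  clear hCeq hgen
  obtain ⟨x, hx⟩ : ∃ x, x ∉ Subgroup.zpowers c := by
    by_contra hcon
    push Not at hcon
    have h1 : Subgroup.zpowers c = ⊤ := (Subgroup.eq_top_iff' _).mpr hcon
    rw [h1, Subgroup.index_top] at hCidx
    omega
  have hCn : (Subgroup.zpowers c).Normal := Subgroup.normal_of_index_eq_two hCidx
  have hab : ∀ a ∈ Subgroup.zpowers c, ∀ b ∈ Subgroup.zpowers c, a * b = b * a := by
    intro a ha b hb
    obtain ⟨i, rfl⟩ := Subgroup.mem_zpowers_iff.mp ha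
    obtain ⟨j, rfl⟩ := Subgroup.mem_zpowers_iff.mp hb
    rw [← zpow_add, ← zpow_add, add_comm]
  have hord : orderOf c = 2 ^ (n - 1) := by
    have h1 := Subgroup.card_mul_index (Subgroup.zpowers c)
    rw [hCidx, hX, Nat.card_zpowers] at h1
    have h2 : 2 ^ n = 2 ^ (n - 1) * 2 := by rw [← pow_succ]; congr 1; omega
    rw [h2] at h1
    exact Nat.eq_of_mul_eq_mul_right (by norm_num) h1
  have hsq : ∀ y, y ∉ Subgroup.zpowers c → y * y ∈ Subgroup.center X := by
    intro y hy
    have h1 : y * y ∈ Subgroup.zpowers c :=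
      (Subgroup.mul_mem_iff_of_index_two hCidx).mpr Iff.rfl
    exact mem_center_of_abelian_index_two _ hCidx hab y hy _ h1 (by group)
  refine ⟨c, x, hord, hx, hCidx, center_le_of_abelian_index_two _ hCidx hab hna, hsq x hx, ?_, hsq⟩
  have hcC : c ∈ Subgroup.zpowers c := Subgroup.mem_zpowers c
  have h1 : x * c * x⁻¹ ∈ Subgroup.zpowers c := hCn.conj_mem c hcC x
  have h2 : x * x ∈ Subgroup.zpowers c :=
    (Subgroup.mul_mem_iff_of_index_two hCidx).mpr Iff.rfl
  have h3 : c * (x * c * x⁻¹) ∈ Subgroup.zpowers c := Subgroup.mul_mem _ hcC h1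
  apply mem_center_of_abelian_index_two _ hCidx hab x hx _ h3
  have h4 := hab _ h2 c hcC
  have h5 := hab _ h1 c hcC
  calc x * (c * (x * c * x⁻¹)) = (x * c * x⁻¹) * (x * x * c) * (x * x)⁻¹ * x := by group
    _ = (x * c * x⁻¹) * (c * (x * x)) * (x * x)⁻¹ * x := by rw [h4]
    _ = (x * c * x⁻¹ * c) * x := by group
    _ = c * (x * c * x⁻¹) * x := by rw [h5]

/-- The central quotient of a 2-group of maximal class is dihedral. -/
theorem quotient_center_dihedral {X : Type u} [Group X] [Finite X] (n : ℕ) (hn : 3 ≤ n)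
    (hX : Nat.card X = 2 ^ n) (hc : Group.nilpotencyClass X = n - 1) :
    Nonempty (X ⧸ Subgroup.center X ≃* DihedralGroup (2 ^ (n - 2))) := by
  obtain ⟨c, x, hord, hx, hCidx, hZC, hxx, hd, -⟩ := maxclass_structure n hn hX hc
  obtain ⟨hZcard, hQcard, hQclass⟩ := center_of_maxclass 2 n hn hX hc
  set Z := Subgroup.center X with hZ
  set π := QuotientGroup.mk' Z with hπ
  have hπs : Function.Surjective π := QuotientGroup.mk'_surjective Z
  have hker : π.ker = Z := QuotientGroup.ker_mk' Z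
  have hmap : (Subgroup.zpowers c).map π = Subgroup.zpowers (π c) := MonoidHom.map_zpowers π c
  have hidx : (Subgroup.zpowers (π c)).index = 2 := by
    rw [← hmap, Subgroup.index_map_eq _ hπs (by rw [hker]; exact hZC), hCidx]
  have hcardY : Nat.card (X ⧸ Z) = 2 * 2 ^ (n - 2) := by
    rw [hQcard, ← pow_succ']; congr 1; omega
  apply Cfsg.Agent.Lib.Helper6_DihedralLift.dihedral_equiv (2 ^ (n - 2)) hcardY (π c) (π x)
  · have h1 := Subgroup.card_mul_index (Subgroup.zpowers (π c))
    rw [hidx, hcardY, Nat.card_zpowers] at h1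
    omega
  · intro h
    rw [← hmap] at h
    obtain ⟨d, hd', hdx⟩ := h
    have h1 : d⁻¹ * x ∈ Z := by
      rw [← QuotientGroup.eq]; exact hdx
    apply hx
    have h2 : x = d * (d⁻¹ * x) := by group
    rw [h2]
    exact Subgroup.mul_mem _ hd' (hZC h1)
  · rw [← map_mul]
    exact (QuotientGroup.eq_one_iff _).mpr hxx
  · have h1 : π (c * (x * c * x⁻¹)) = 1 := (QuotientGroup.eq_one_iff _).mpr hd
    rw [map_mul, map_mul, map_mul, map_inv] at h1
    exact eq_inv_of_mul_eq_one_right h1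

end Cfsg.Agent.Lib.Helper6_MaxClass2
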