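import Mathlib

set_option autoImplicit false

namespace Cfsg.Agent.Lib.Helper6_Derangement

open MulAction
open scoped Pointwise

/-- Burnside's lemma in `Nat.card` form. -/
theorem burnside (G X : Type*) [Group G] [MulAction G X] [Fintype G] [Finite X] :
    ∑ g : G, Nat.card (fixedBy X g) = Nat.card (orbitRel.Quotient G X) * Nat.card G := by
  classical
  have := Fintype.ofFinite X
  have : ∀ g : G, Fintype (fixedBy X g) := fun g => Fintype.ofFinite _
  have : Fintype (orbitRel.Quotient G X) := Fintype.ofFinite _
  have h := sum_card_fixedBy_eq_card_orbits_mul_card_group G X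
  simp only [Nat.card_eq_fintype_card]
  convert h

/-- Burnside's lemma for a subgroup, the sum being taken in the ambient group. -/
theorem burnside_subgroup {G : Type*} (X : Type*) [Group G] [MulAction G X] [Fintype G] [Finite X]
    (D : Subgroup G) [DecidablePred (· ∈ D)] :
    ∑ g ∈ Finset.univ.filter (· ∈ D), Nat.card (fixedBy X g)
      = Nat.card (orbitRel.Quotient D X) * Nat.card D := by
  classical
  have h := burnside D X
  rw [← h]
  rw [Finset.sum_subtype (Finset.univ.filter (· ∈ D)) (p := (· ∈ D)) (by simp)]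
  rfl

/-- squares of fixed point numbers count fixed pairs -/
theorem card_fixedBy_prod {G : Type*} (X : Type*) [Group G] [MulAction G X] (g : G) :
    Nat.card (fixedBy (X × X) g) = Nat.card (fixedBy X g) * Nat.card (fixedBy X g) := by
  have : fixedBy (X × X) g = (fixedBy X g) ×ˢ (fixedBy X g) := by
    ext ⟨a, b⟩
    simp [mem_fixedBy, Prod.ext_iff]
  rw [this, Nat.card_congr (Equiv.Set.prod _ _), Nat.card_prod]

/-- Key counting lemma: if `G` is transitive on a nonempty finite set and the subgroup `D`
contains every fixed-point-free element then `D` is transitive and every element outside `D`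
has exactly one fixed point. -/
theorem key {G X : Type*} [Group G] [MulAction G X] [Finite G] [Finite X] [Nonempty X]
    [IsPretransitive G X] (D : Subgroup G) (hD : ∀ g : G, g ∉ D → ∃ x : X, g • x = x) :
    IsPretransitive D X ∧ ∀ g : G, g ∉ D → Nat.card (fixedBy X g) = 1 := by
  classical
  have := Fintype.ofFinite G
  set f : G → ℕ := fun g => Nat.card (fixedBy X g) with hf
  have hG : ∑ g : G, f g = Nat.card G := by
    have h := burnside G X
    obtain ⟨hu⟩ := (pretransitive_iff_unique_quotient_of_nonempty G X).mp inferInstance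
    rw [Nat.card_unique, one_mul] at h
    exact h
  have hDsum := burnside_subgroup X D
  have hsplit := Finset.sum_filter_add_sum_filter_not (Finset.univ : Finset G) (· ∈ D) f
  have hk : 1 ≤ Nat.card (orbitRel.Quotient D X) := by
    have : Nonempty (orbitRel.Quotient D X) := ⟨Quotient.mk'' (Classical.arbitrary X)⟩
    exact Nat.card_pos
  have hone : ∀ g ∈ Finset.univ.filter (fun g : G => ¬ g ∈ D), 1 ≤ f g := by
    intro g hg
    rw [Finset.mem_filter] at hg
    obtain ⟨x, hx⟩ := hD g hg.2
    have : Nonempty (fixedBy X g) := ⟨⟨x, hx⟩⟩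
    exact Nat.card_pos
  have hge : ∑ g ∈ Finset.univ.filter (fun g : G => ¬ g ∈ D), 1 ≤
      ∑ g ∈ Finset.univ.filter (fun g : G => ¬ g ∈ D), f g := Finset.sum_le_sum hone
  have hcard : (Finset.univ.filter (fun g : G => g ∈ D)).card +
      (Finset.univ.filter (fun g : G => ¬ g ∈ D)).card = Nat.card G := by
    rw [Finset.card_filter_add_card_filter_not, Finset.card_univ, Nat.card_eq_fintype_card]
  have hcardD : (Finset.univ.filter (fun g : G => g ∈ D)).card = Nat.card D := by
    rw [Nat.card_eq_fintype_card, Fintype.card_subtype]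
  have hDpos : 0 < Nat.card D := Nat.card_pos
  rw [Finset.sum_const, smul_eq_mul, mul_one] at hge
  -- now arithmetic
  have hkD : Nat.card D ≤ Nat.card (orbitRel.Quotient D X) * Nat.card D :=
    Nat.le_mul_of_pos_left _ hk
  have h1 : Nat.card (orbitRel.Quotient D X) * Nat.card D = Nat.card D := by
    have : Nat.card (orbitRel.Quotient D X) * Nat.card D +
      ∑ g ∈ Finset.univ.filter (fun g : G => ¬ g ∈ D), f g = Nat.card G := by
      rw [← hDsum, ← hG]; exact hsplit
    omega
  have h2 : ∑ g ∈ Finset.univ.filter (fun g : G => ¬ g ∈ D), f g =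
      ∑ g ∈ Finset.univ.filter (fun g : G => ¬ g ∈ D), 1 := by
    have : Nat.card (orbitRel.Quotient D X) * Nat.card D +
      ∑ g ∈ Finset.univ.filter (fun g : G => ¬ g ∈ D), f g = Nat.card G := by
      rw [← hDsum, ← hG]; exact hsplit
    rw [Finset.sum_const, smul_eq_mul, mul_one]
    omega
  constructor
  · have hk1 : Nat.card (orbitRel.Quotient D X) = 1 := by
      have := Nat.eq_of_mul_eq_mul_right hDpos (h1.trans (one_mul _).symm)
      exact this
    rw [pretransitive_iff_subsingleton_quotient]
    exact (Nat.card_eq_one_iff_unique.mp hk1).1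
  · intro g hg
    have := (Finset.sum_eq_sum_iff_of_le hone).mp h2.symm g (by simp [hg])
    exact this.symm

/-- Rank formula: under the hypotheses of `key`, `r_D - 1 = (r_G - 1) * [G : D]`, where `r`
denotes the number of orbits on ordered pairs. -/
theorem rank_formula {G X : Type*} [Group G] [MulAction G X] [Finite G] [Finite X] [Nonempty X]
    [IsPretransitive G X] (D : Subgroup G) (hD : ∀ g : G, g ∉ D → ∃ x : X, g • x = x) :
    Nat.card (orbitRel.Quotient D (X × X)) - 1 =
      (Nat.card (orbitRel.Quotient G (X × X)) - 1) * D.index := by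
  classical
  have := Fintype.ofFinite G
  obtain ⟨-, hfix⟩ := key D hD
  set f : G → ℕ := fun g => Nat.card (fixedBy (X × X) g) with hf
  have hG : ∑ g : G, f g = Nat.card (orbitRel.Quotient G (X × X)) * Nat.card G :=
    burnside G (X × X)
  have hDsum := burnside_subgroup (X × X) D
  have hsplit := Finset.sum_filter_add_sum_filter_not (Finset.univ : Finset G) (· ∈ D) f
  have hrest : ∑ g ∈ Finset.univ.filter (fun g : G => ¬ g ∈ D), f g =
      (Finset.univ.filter (fun g : G => ¬ g ∈ D)).card := by
    rw [Finset.card_eq_sum_ones]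
    refine Finset.sum_congr rfl fun g hg => ?_
    rw [Finset.mem_filter] at hg
    simp only [hf]
    rw [card_fixedBy_prod, hfix g hg.2]
  have hcard : (Finset.univ.filter (fun g : G => g ∈ D)).card +
      (Finset.univ.filter (fun g : G => ¬ g ∈ D)).card = Nat.card G := by
    rw [Finset.card_filter_add_card_filter_not, Finset.card_univ, Nat.card_eq_fintype_card]
  have hcardD : (Finset.univ.filter (fun g : G => g ∈ D)).card = Nat.card D := by
    rw [Nat.card_eq_fintype_card, Fintype.card_subtype]
  have hDpos : 0 < Nat.card D := Nat.card_pos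
  have hidx : Nat.card D * D.index = Nat.card G := Subgroup.card_mul_index D
  have hipos : 0 < D.index := Nat.pos_of_ne_zero Subgroup.index_ne_zero_of_finite
  have hrG : 1 ≤ Nat.card (orbitRel.Quotient G (X × X)) := by
    have : Nonempty (orbitRel.Quotient G (X × X)) :=
      ⟨Quotient.mk'' (Classical.arbitrary X, Classical.arbitrary X)⟩
    exact Nat.card_pos
  have hrD : 1 ≤ Nat.card (orbitRel.Quotient D (X × X)) := by
    have : Nonempty (orbitRel.Quotient D (X × X)) :=
      ⟨Quotient.mk'' (Classical.arbitrary X, Classical.arbitrary X)⟩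
    exact Nat.card_pos
  have hmain : Nat.card (orbitRel.Quotient D (X × X)) * Nat.card D +
      (Finset.univ.filter (fun g : G => ¬ g ∈ D)).card =
      Nat.card (orbitRel.Quotient G (X × X)) * Nat.card G := by
    rw [← hDsum, ← hrest, ← hG]; exact hsplit
  -- arithmetic
  generalize Nat.card (orbitRel.Quotient D (X × X)) = rD at *
  generalize Nat.card (orbitRel.Quotient G (X × X)) = rG at *
  generalize Nat.card D = d at *
  generalize D.index = i at *
  generalize Nat.card G = n at *
  generalize (Finset.univ.filter (fun g : G => ¬ g ∈ D)).card = c at *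
  obtain ⟨rD', rfl⟩ : ∃ k, rD = k + 1 := ⟨rD - 1, by omega⟩
  obtain ⟨rG', rfl⟩ : ∃ k, rG = k + 1 := ⟨rG - 1, by omega⟩
  simp only [Nat.add_sub_cancel]
  have hc : c = n - d := by omega
  subst hidx
  have : (rD' + 1) * d + (d * i - d) = (rG' + 1) * (d * i) := by rw [← hc]; exact hmain
  have hdi : d ≤ d * i := Nat.le_mul_of_pos_right _ hipos
  have h3 : rD' * d + d * i = rG' * i * d + d * i := by
    have : (rD' + 1) * d + d * i = (rG' + 1) * (d * i) + d := by omega
    nlinarith
  have h4 : rD' * d = rG' * i * d := by omega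
  exact Nat.eq_of_mul_eq_mul_right hDpos h4

/-- If `m` divides the size of every orbit then `m` divides the size of the set. -/
theorem dvd_card_of_dvd_orbit {H Y : Type*} [Group H] [MulAction H Y] [Finite Y] (m : ℕ)
    (h : ∀ y : Y, m ∣ (orbit H y).ncard) : m ∣ Nat.card Y := by
  classical
  have := Fintype.ofFinite (orbitRel.Quotient H Y)
  rw [Nat.card_congr (selfEquivSigmaOrbits H Y), Nat.card_sigma]
  refine Finset.dvd_sum fun ω _ => ?_
  rw [Nat.card_coe_set_eq]
  exact h _

/-- The set-up common to the two halves of the index theorem. -/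
theorem index_setup {G X : Type*} [Group G] [MulAction G X] [Finite G] [Finite X] [Nonempty X]
    [IsPretransitive G X] (D : Subgroup G) [D.Normal]
    (hD : ∀ g : G, g ∉ D → ∃ x : X, g • x = x) (a : X) :
    D.relIndex (stabilizer G a) = D.index ∧
    ∀ y : SubMulAction.ofStabilizer G a,
      stabilizer (stabilizer G a) y ≤ D.subgroupOf (stabilizer G a) := by
  obtain ⟨hDt, hfix⟩ := key D hD
  constructor
  · have hsup : stabilizer G a ⊔ D = ⊤ := by
      rw [eq_top_iff]
      intro g _
      obtain ⟨d, hd⟩ := exists_smul_eq D a (g • a)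
      have h1 : (d : G)⁻¹ * g ∈ stabilizer G a := by
        rw [mem_stabilizer_iff, mul_smul, ← hd]
        exact inv_smul_smul _ _
      have : g = (d : G) * ((d : G)⁻¹ * g) := by group
      rw [this]
      exact Subgroup.mul_mem _ (Subgroup.mem_sup_right d.2) (Subgroup.mem_sup_left h1)
    rw [← Subgroup.relIndex_sup_right, hsup, Subgroup.relIndex_top_right]
  · intro y h hh
    rw [mem_stabilizer_iff] at hh
    rw [Subgroup.mem_subgroupOf]
    by_contra hcon
    have h1 := hfix _ hcon
    have ha : a ∈ fixedBy X (h : G) := h.2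
    have hy : (y : X) ∈ fixedBy X (h : G) := by
      have := congrArg Subtype.val hh
      exact this
    rw [Nat.card_eq_one_iff_unique] at h1
    have := h1.1.elim ⟨a, ha⟩ ⟨(y : X), hy⟩
    exact SubMulAction.neq_of_mem_ofStabilizer G a (Subtype.ext_iff.mp this).symm

/-- The index of `D` divides `|X| - 1`. -/
theorem index_dvd {G X : Type*} [Group G] [MulAction G X] [Finite G] [Finite X] [Nonempty X]
    [IsPretransitive G X] (D : Subgroup G) [D.Normal]
    (hD : ∀ g : G, g ∉ D → ∃ x : X, g • x = x) : D.index ∣ Nat.card X - 1 := by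
  let a : X := Classical.arbitrary X
  obtain ⟨h1, h2⟩ := index_setup D hD a
  rw [← h1, ← SubMulAction.nat_card_ofStabilizer_eq G a]
  refine dvd_card_of_dvd_orbit (H := stabilizer G a) _ fun y => ?_
  rw [← index_stabilizer]
  exact Subgroup.index_dvd_of_le (h2 y)

/-- If the index of `D` equals `|X| - 1` (and the action is faithful) then `|X|` is a
prime power. -/
theorem isPrimePow_of_index_eq {G X : Type*} [Group G] [MulAction G X] [Finite G] [Finite X]
    [FaithfulSMul G X] [IsPretransitive G X] (hX : 2 ≤ Nat.card X) (D : Subgroup G) [D.Normal]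
    (hD : ∀ g : G, g ∉ D → ∃ x : X, g • x = x) (hidx : D.index = Nat.card X - 1) :
    IsPrimePow (Nat.card X) := by
  have hne : Nonempty X := (Nat.card_pos_iff.mp (by omega)).1
  let a : X := Classical.arbitrary X
  obtain ⟨hDt, hfix⟩ := key D hD
  obtain ⟨h1, h2⟩ := index_setup D hD a
  have hY : Nat.card (SubMulAction.ofStabilizer G a) = D.index := by
    rw [hidx, SubMulAction.nat_card_ofStabilizer_eq]
  have hipos : 0 < D.index := by omega
  -- each orbit of the stabilizer on the other points is everything
  have horb : ∀ y : SubMulAction.ofStabilizer G a,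
      (orbit (stabilizer G a) y).ncard = D.index := by
    intro y
    have hdvd : D.index ∣ (orbit (stabilizer G a) y).ncard := by
      rw [← index_stabilizer, ← h1]; exact Subgroup.index_dvd_of_le (h2 y)
    have hle : (orbit (stabilizer G a) y).ncard ≤ Nat.card (SubMulAction.ofStabilizer G a) := by
      rw [← Set.ncard_univ]; exact Set.ncard_le_ncard (Set.subset_univ _)
    have hpos : 0 < (orbit (stabilizer G a) y).ncard :=
      (Set.ncard_pos (Set.toFinite _)).mpr (nonempty_orbit y)
    exact le_antisymm (hY ▸ hle) (Nat.le_of_dvd hpos hdvd)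
  have htrans : ∀ y y' : SubMulAction.ofStabilizer G a, ∃ h : stabilizer G a, h • y = y' := by
    intro y y'
    have : orbit (stabilizer G a) y = Set.univ := by
      rw [Set.eq_univ_iff_ncard, horb y, hY]
    have hy' : y' ∈ orbit (stabilizer G a) y := this ▸ Set.mem_univ _
    exact hy'
  -- D meets the stabilizer trivially
  have htriv : ∀ d : G, d ∈ D → d • a = a → d = 1 := by
    intro d hd hda
    have hall : ∀ x : X, d • x = x := by
      intro x
      by_cases hx : x = a
      · rw [hx]; exact hda
      · let y : SubMulAction.ofStabilizer G a := ⟨x, hx⟩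
        have hle := h2 y
        have hmul := Subgroup.relIndex_mul_index hle
        rw [index_stabilizer, horb y] at hmul
        have hDi : (D.subgroupOf (stabilizer G a)).index = D.index := h1
        rw [hDi] at hmul
        have hone : (stabilizer (stabilizer G a) y).relIndex (D.subgroupOf (stabilizer G a)) = 1 := by
          have : (stabilizer (stabilizer G a) y).relIndex (D.subgroupOf (stabilizer G a)) * D.index
              = 1 * D.index := by rw [hmul, one_mul]
          exact Nat.eq_of_mul_eq_mul_right hipos this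
        rw [Subgroup.relIndex_eq_one] at hone
        have hmem : (⟨d, hda⟩ : stabilizer G a) ∈ D.subgroupOf (stabilizer G a) := by
          rw [Subgroup.mem_subgroupOf]; exact hd
        have := hone hmem
        rw [mem_stabilizer_iff] at this
        exact congrArg Subtype.val this
    exact FaithfulSMul.eq_of_smul_eq_smul (α := X) (fun x => by rw [hall x, one_smul])
  -- all non-identity elements of D are conjugate
  have hconj : ∀ d d' : G, d ∈ D → d' ∈ D → d ≠ 1 → d' ≠ 1 → orderOf d = orderOf d' := by
    intro d d' hd hd' hd1 hd'1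
    have hda : d • a ≠ a := fun h => hd1 (htriv d hd h)
    have hd'a : d' • a ≠ a := fun h => hd'1 (htriv d' hd' h)
    obtain ⟨h, hh⟩ := htrans ⟨d • a, hda⟩ ⟨d' • a, hd'a⟩
    have hh' : (h : G) • d • a = d' • a := congrArg Subtype.val hh
    have hha : (h : G)⁻¹ • a = a := by
      have := h.2
      rw [mem_stabilizer_iff] at this
      rw [inv_smul_eq_iff, this]
    have hmem : d'⁻¹ * ((h : G) * d * (h : G)⁻¹) ∈ D :=
      D.mul_mem (D.inv_mem hd') (Subgroup.Normal.conj_mem inferInstance d hd _)
    have hfixa : (d'⁻¹ * ((h : G) * d * (h : G)⁻¹)) • a = a := by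
      rw [mul_smul, mul_smul, mul_smul, hha, hh', inv_smul_smul]
    have := htriv _ hmem hfixa
    have heq : d' = (h : G) * d * (h : G)⁻¹ := by
      rw [← mul_one d', ← this]; group
    rw [heq]
    have := (MulAut.conj (h : G)).orderOf_eq d
    rw [MulAut.conj_apply] at this
    exact this.symm
  -- |D| = |X|
  have hcardD : Nat.card D = Nat.card X := by
    refine Nat.card_eq_of_bijective (fun d : D => d • a) ⟨?_, ?_⟩
    · intro d d' hdd
      have hdd' : (d : G) • a = (d' : G) • a := hdd
      have : ((d' : G)⁻¹ * (d : G)) • a = a := by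
        rw [mul_smul, hdd', inv_smul_smul]
      have := htriv _ (D.mul_mem (D.inv_mem d'.2) d.2) this
      apply Subtype.ext
      rw [inv_mul_eq_one] at this
      exact this.symm
    · intro x
      exact exists_smul_eq D a x
  -- a prime
  have hDcard2 : 2 ≤ Nat.card D := hcardD ▸ hX
  obtain ⟨p, hp, hpd⟩ := Nat.exists_prime_and_dvd (show Nat.card D ≠ 1 by omega)
  have : Fact p.Prime := ⟨hp⟩
  obtain ⟨x, hx⟩ := exists_prime_orderOf_dvd_card' p hpd
  have hx1 : (x : G) ≠ 1 := by
    intro h
    have : x = 1 := Subtype.ext h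
    rw [this, orderOf_one] at hx
    exact hp.one_lt.ne hx
  have hpg : IsPGroup p D := by
    intro g
    by_cases hg : (g : G) = 1
    · have hg1 : g = 1 := Subtype.ext hg
      exact ⟨0, by rw [hg1]; simp⟩
    · refine ⟨1, ?_⟩
      have := hconj _ _ g.2 x.2 hg hx1
      rw [Subgroup.orderOf_coe, Subgroup.orderOf_coe, hx] at this
      rw [pow_one]
      have h2 := pow_orderOf_eq_one g
      rw [this] at h2
      exact h2
  obtain ⟨k, hk⟩ := IsPGroup.exists_card_eq hpg
  rw [← hcardD, hk]
  refine ⟨p, k, hp.prime, ?_, rfl⟩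
  rcases Nat.eq_zero_or_pos k with h0 | hpos
  · rw [h0, pow_zero] at hk; omega
  · exact hpos

/-- The subgroup generated by a conjugation-invariant set is normal. -/
theorem closure_normal_of_conj {G : Type*} [Group G] (S : Set G)
    (hS : ∀ x ∈ S, ∀ g : G, g * x * g⁻¹ ∈ S) : (Subgroup.closure S).Normal := by
  refine ⟨fun n hn g => ?_⟩
  induction hn using Subgroup.closure_induction with
  | mem x hx => exact Subgroup.subset_closure (hS x hx g)
  | one => simp
  | mul x y _ _ hx hy =>
    have : g * (x * y) * g⁻¹ = (g * x * g⁻¹) * (g * y * g⁻¹) := by group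
    rw [this]; exact Subgroup.mul_mem _ hx hy
  | inv x _ hx =>
    have : g * x⁻¹ * g⁻¹ = (g * x * g⁻¹)⁻¹ := by group
    rw [this]; exact Subgroup.inv_mem _ hx

/-- The subgroup generated by the derangements is normal. -/
theorem derangement_closure_normal {G X : Type*} [Group G] [MulAction G X] :
    (Subgroup.closure {g : G | ∀ x : X, g • x ≠ x}).Normal := by
  apply closure_normal_of_conj
  intro x hx g y hy
  apply hx (g⁻¹ • y)
  rw [mul_smul, mul_smul] at hy
  exact (smul_eq_iff_eq_inv_smul g).mp hy

/-- Invariant-subset version of `dvd_card_of_dvd_orbit`. -/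
theorem dvd_ncard_of_dvd_orbit {H Y : Type*} [Group H] [MulAction H Y] [Finite Y] (m : ℕ)
    (S : Set Y) (hS : ∀ h : H, ∀ y ∈ S, h • y ∈ S)
    (hm : ∀ y ∈ S, m ∣ (orbit H y).ncard) : m ∣ S.ncard := by
  let S' : SubMulAction H Y := ⟨S, fun h y hy => hS h y hy⟩
  have h1 : m ∣ Nat.card S' := by
    refine dvd_card_of_dvd_orbit (H := H) m fun y => ?_
    rw [← index_stabilizer, SubMulAction.stabilizer_of_subMul, index_stabilizer]
    exact hm _ y.2
  have h2 : Nat.card S' = S.ncard := Nat.card_coe_set_eq S
  rw [← h2]
  exact h1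

/-- Point stabilizers of the one-point stabilizer lie in `D`. -/
theorem stab_le {G X : Type*} [Group G] [MulAction G X] [Finite G] [Finite X] [Nonempty X]
    [IsPretransitive G X] (D : Subgroup G)
    (hD : ∀ g : G, g ∉ D → ∃ x : X, g • x = x) (a : X) (y : X) (hy : y ≠ a) :
    stabilizer (stabilizer G a) y ≤ D.subgroupOf (stabilizer G a) := by
  obtain ⟨hDt, hfix⟩ := key D hD
  intro h hh
  rw [mem_stabilizer_iff] at hh
  rw [Subgroup.mem_subgroupOf]
  by_contra hcon
  have h1 := hfix _ hcon
  have ha : a ∈ fixedBy X (h : G) := h.2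
  have hy' : y ∈ fixedBy X (h : G) := hh
  rw [Nat.card_eq_one_iff_unique] at h1
  have := h1.1.elim ⟨a, ha⟩ ⟨y, hy'⟩
  exact hy (Subtype.ext_iff.mp this).symm

/-- The index of `D` divides `|B| - 1` for every nonempty block `B`. -/
theorem index_dvd_block {G X : Type*} [Group G] [MulAction G X] [Finite G] [Finite X]
    [Nonempty X] [IsPretransitive G X] (D : Subgroup G) [D.Normal]
    (hD : ∀ g : G, g ∉ D → ∃ x : X, g • x = x) (B : Set X) (hB : IsBlock G B)
    (hne : B.Nonempty) : D.index ∣ B.ncard - 1 := by
  obtain ⟨a, ha⟩ := hne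
  obtain ⟨h1, -⟩ := index_setup D hD a
  have hcard : (B \ {a}).ncard = B.ncard - 1 := Set.ncard_sdiff_singleton_of_mem ha
  rw [← hcard, ← h1]
  refine dvd_ncard_of_dvd_orbit (H := stabilizer G a) _ _ ?_ ?_
  · intro h y hy
    have hha : (h : G) • a = a := h.2
    have hhB : (h : G) • B = B := hB.smul_eq_of_mem ha (by rw [hha]; exact ha)
    refine ⟨?_, ?_⟩
    · have : (h : G) • y ∈ (h : G) • B := Set.smul_mem_smul_set hy.1
      rw [hhB] at this
      exact this
    · intro hcon
      rw [Set.mem_singleton_iff] at hcon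
      apply hy.2
      rw [Set.mem_singleton_iff]
      have : (h : G) • y = (h : G) • a := by rw [hha]; exact hcon
      exact smul_left_cancel _ this
  · intro y hy
    rw [← index_stabilizer]
    exact Subgroup.index_dvd_of_le (stab_le D hD a y hy.2)

end Cfsg.Agent.Lib.Helper6_Derangement
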