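import Mathlib
import Cfsg.Agent.S3975
import Cfsg.Agent.Lib.Helper6_Derangement

set_option autoImplicit false

/-! Normal subgroups of prescribed order inside a normal subgroup of a `p`-group. -/

namespace Cfsg.Agent.Lib.Helper6_PNormal

open MulAction
open scoped Pointwise

/-- In a finite `p`-group `R`, a normal subgroup `N` with `p ^ s ∣ |N|` contains a normal
subgroup of `R` of order `p ^ s`. -/
theorem exists_normal_le_of_pow_dvd {R : Type*} [Group R] [Finite R] {p : ℕ} [hfact : Fact p.Prime]
    (hR : IsPGroup p R) (N : Subgroup R) [hN : N.Normal] (s : ℕ) (hs : p ^ s ∣ Nat.card N) :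
    ∃ K : Subgroup R, K ≤ N ∧ K.Normal ∧ Nat.card K = p ^ s := by
  classical
  have hp := hfact.out
  let inst : MulAction R (Subgroup R) := MulAction.compHom _ (MulAut.conj : R →* MulAut R)
  have hsm : ∀ (g : R) (H : Subgroup R), g • H = MulAut.conj g • H := fun _ _ => rfl
  have htot := Cfsg.Agent.S3975.result (G := N) p s hp hs
  set X : Set (Subgroup R) := {H | H ≤ N ∧ Nat.card H = p ^ s} with hX
  set Y : Set (Subgroup R) := {H | (H ≤ N ∧ Nat.card H = p ^ s) ∧ ¬ H.Normal} with hY
  set Z : Set (Subgroup R) := {H | H.Normal ∧ (H ≤ N ∧ Nat.card H = p ^ s)} with hZ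
  -- bijection
  have hbij : Nat.card {H : Subgroup N // Nat.card H = p ^ s} = X.ncard := by
    rw [← Nat.card_coe_set_eq X]
    refine Nat.card_congr ⟨fun H => ⟨H.1.map N.subtype, Subgroup.map_subtype_le _, ?_⟩,
      fun H => ⟨H.1.subgroupOf N, ?_⟩, ?_, ?_⟩
    · rw [Subgroup.card_map_of_injective N.subtype_injective]; exact H.2
    · rw [Nat.card_congr (Subgroup.subgroupOfEquivOfLe H.2.1).toEquiv]; exact H.2.2
    · intro H
      apply Subtype.ext
      show (H.1.map N.subtype).subgroupOf N = H.1
      exact Subgroup.comap_map_eq_self_of_injective N.subtype_injective H.1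
    · intro H
      apply Subtype.ext
      exact Subgroup.map_subgroupOf_eq_of_le H.2.1
  obtain ⟨m, hm⟩ := hR.exists_card_eq
  have hYdvd : p ∣ Y.ncard := by
    apply Cfsg.Agent.Lib.Helper6_Derangement.dvd_ncard_of_dvd_orbit (H := R) (Y := Subgroup R)
    · rintro g H ⟨⟨hHN, hHc⟩, hHn⟩
      refine ⟨⟨?_, ?_⟩, ?_⟩
      · rw [hsm]
        intro x hx
        rw [Subgroup.mem_pointwise_smul_iff_inv_smul_mem, MulAut.smul_def, MulAut.conj_inv_apply] at hx
        have h1 := hN.conj_mem _ (hHN hx) g
        have h2 : g * (g⁻¹ * x * g) * g⁻¹ = x := by group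
        rw [h2] at h1; exact h1
      · rw [hsm]
        have : Nat.card ((MulAut.conj g • H : Subgroup R)) = Nat.card H := by
          rw [Subgroup.pointwise_smul_def]
          exact Subgroup.card_map_of_injective (MulAut.conj g).injective
        rw [this, hHc]
      · intro hn
        apply hHn
        have : H = g⁻¹ • (g • H) := by rw [inv_smul_smul]
        rw [this, hsm g⁻¹]
        exact Subgroup.Normal.map hn _ (MulAut.conj g⁻¹).surjective
    · rintro H ⟨-, hHn⟩
      rw [← index_stabilizer]
      have hdvd : (stabilizer R H).index ∣ p ^ m := by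
        rw [← hm]; exact Subgroup.index_dvd_card _
      obtain ⟨j, -, hj⟩ := (Nat.dvd_prime_pow hp).mp hdvd
      rw [hj]
      apply dvd_pow_self
      rintro rfl
      rw [pow_zero, Subgroup.index_eq_one] at hj
      apply hHn
      constructor
      intro n hn g
      have hg : g ∈ stabilizer R H := by rw [hj]; trivial
      have h1 : g • H = H := hg
      rw [hsm] at h1
      rw [← h1]
      have := Subgroup.smul_mem_pointwise_smul n (MulAut.conj g) H hn
      rwa [MulAut.smul_def, MulAut.conj_apply] at this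
  have hsplit : X.ncard = Z.ncard + Y.ncard := by
    have hZX : Z ⊆ X := fun H hH => hH.2
    have hXZ : X \ Z = Y := by
      ext H
      constructor
      · rintro ⟨h1, h2⟩
        exact ⟨h1, fun hn => h2 ⟨hn, h1⟩⟩
      · rintro ⟨h1, h2⟩
        exact ⟨h1, fun hn => h2 hn.1⟩
    rw [← hXZ, add_comm]
    exact (Set.ncard_sdiff_add_ncard_of_subset hZX (Set.toFinite X)).symm
  rw [hbij, hsplit] at htot
  obtain ⟨c, hc⟩ := hYdvd
  rw [hc] at htot
  have h3 : (Z.ncard + p * c) % p = 1 % p := htot
  rw [Nat.add_mul_mod_self_left, Nat.mod_eq_of_lt hp.one_lt] at h3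
  have hZne : Z.ncard ≠ 0 := by
    intro h0
    rw [h0] at h3
    simp at h3
  obtain ⟨K, hK⟩ := Set.nonempty_of_ncard_ne_zero hZne
  exact ⟨K, hK.2.1, hK.1, hK.2.2⟩

/-- the closure of a conjugation-invariant set is normal -/
theorem closure_normal_of_conj_mem {G : Type*} [Group G] (S : Set G)
    (h : ∀ g s : G, s ∈ S → g * s * g⁻¹ ∈ S) : (Subgroup.closure S).Normal := by
  refine ⟨fun n hn g => ?_⟩
  induction hn using Subgroup.closure_induction with
  | mem x hx => exact Subgroup.subset_closure (h g x hx)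
  | one => simp
  | mul x y _ _ hx hy =>
    have : g * (x * y) * g⁻¹ = (g * x * g⁻¹) * (g * y * g⁻¹) := by group
    rw [this]; exact Subgroup.mul_mem _ hx hy
  | inv x _ hx =>
    have : g * x⁻¹ * g⁻¹ = (g * x * g⁻¹)⁻¹ := by group
    rw [this]; exact Subgroup.inv_mem _ hx

end Cfsg.Agent.Lib.Helper6_PNormal
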