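import Mathlib
import Cfsg.Agent.Lib.Helper5_NoNormalFour
import Cfsg.Agent.Lib.Helper5_KleinSub
import Cfsg.Agent.Lib.Helper6_PNormal
import Cfsg.Agent.Lib.Helper6_MaxClass2

set_option autoImplicit false

/-! Normal four-subgroups of 2-groups of rank at least 3 (helper5). -/

namespace Cfsg.Agent.Lib.Helper5_NormalFour

open Subgroup

universe u

section L1

variable {P : Type u} [Group P] [Finite P]

/-- A non-cyclic abelian 2-subgroup contains two distinct involutions. -/
theorem two_involutions (A : Subgroup P) (hA2 : IsPGroup 2 A) (hAc : IsMulCommutative A)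
    (hnc : ¬ IsCyclic A) :
    ∃ z t : P, z ∈ A ∧ t ∈ A ∧ z ≠ 1 ∧ t ≠ 1 ∧ z ≠ t ∧ z * z = 1 ∧ t * t = 1 := by
  classical
  have hcomm : ∀ x ∈ A, ∀ y ∈ A, x * y = y * x := fun x hx y hy => by
    have := mul_comm' (⟨x, hx⟩ : A) ⟨y, hy⟩
    exact congrArg Subtype.val this
  have hord : ∀ x ∈ A, ∃ k : ℕ, orderOf x = 2 ^ k := by
    intro x hx
    obtain ⟨k, hk⟩ := (IsPGroup.iff_orderOf.mp hA2) ⟨x, hx⟩
    exact ⟨k, by rw [← hk, Subgroup.orderOf_mk]⟩
  -- an element of maximal order
  obtain ⟨a₀, ha₀⟩ := Finite.exists_max (fun x : A => orderOf (x : P))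
  set a : P := (a₀ : P) with ha
  have haA : a ∈ A := a₀.2
  have hamax : ∀ x ∈ A, orderOf x ≤ orderOf a := fun x hx => ha₀ ⟨x, hx⟩
  have hzA : zpowers a ≤ A := zpowers_le.mpr haA
  -- `A` is not `⟨a⟩`
  have hne : ∃ b ∈ A, b ∉ zpowers a := by
    by_contra h
    push_neg at h
    apply hnc
    refine ⟨⟨a₀, fun x => ?_⟩⟩
    obtain ⟨i, hi⟩ := h x x.2
    refine ⟨i, ?_⟩
    apply Subtype.ext
    rw [Subgroup.coe_zpow]
    exact hi
  -- choose such a `b` of minimal order
  have hex : ∃ n : ℕ, ∃ b ∈ A, b ∉ zpowers a ∧ orderOf b = n := by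
    obtain ⟨b, hb, hb'⟩ := hne
    exact ⟨_, b, hb, hb', rfl⟩
  obtain ⟨b, hbA, hba, hbn⟩ := Nat.find_spec hex
  have hbmin : ∀ c ∈ A, c ∉ zpowers a → orderOf b ≤ orderOf c := by
    intro c hc hca
    rw [hbn]
    exact Nat.find_min' hex ⟨c, hc, hca, rfl⟩
  have hb1 : b ≠ 1 := fun h => hba (h ▸ one_mem _)
  obtain ⟨k, hk⟩ := hord b hbA
  have hk1 : 1 ≤ k := by
    by_contra hlt
    push_neg at hlt
    have : k = 0 := by omega
    rw [this, pow_zero, orderOf_eq_one_iff] at hk
    exact hb1 hk
  have h2dvd : 2 ∣ orderOf b := by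
    rw [hk]; exact dvd_pow_self 2 (by omega)
  have hb2ord : orderOf (b ^ 2) = orderOf b / 2 := orderOf_pow_of_dvd (by norm_num) h2dvd
  have hbpos : 0 < orderOf b := by rw [hk]; positivity
  have hb2 : b ^ 2 ∈ zpowers a := by
    by_contra h
    have := hbmin (b ^ 2) (pow_mem hbA 2) h
    rw [hb2ord] at this
    omega
  rw [← mem_powers_iff_mem_zpowers] at hb2
  obtain ⟨j, hj⟩ := hb2
  simp only at hj
  obtain ⟨m, hm⟩ := hord a haA
  have ha1 : a ≠ 1 := by
    intro h
    have := hamax b hbA
    rw [h, orderOf_one] at this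
    omega
  have hm1 : 1 ≤ m := by
    by_contra hlt
    push_neg at hlt
    have : m = 0 := by omega
    rw [this, pow_zero, orderOf_eq_one_iff] at hm
    exact ha1 hm
  -- `j` is even
  have hjeven : Even j := by
    by_contra hodd
    rw [Nat.not_even_iff_odd] at hodd
    have hcop : (orderOf a).Coprime j := by
      rw [hm]
      exact Nat.Coprime.pow_left m (Nat.coprime_two_left.mpr hodd)
    have h1 := hcop.orderOf_pow
    rw [hj, hb2ord] at h1
    have := hamax b hbA
    have h2 : orderOf b = 2 * orderOf a := by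
      obtain ⟨c, hc⟩ := h2dvd
      rw [hc] at h1 ⊢
      rw [Nat.mul_div_cancel_left c (by norm_num)] at h1
      rw [h1]
    have hapos : 0 < orderOf a := by rw [hm]; positivity
    omega
  obtain ⟨i, hi⟩ := hjeven
  -- the two involutions
  set z := a ^ (2 ^ (m - 1)) with hz
  set t := b * (a ^ i)⁻¹ with ht
  have haiA : a ^ i ∈ A := pow_mem haA i
  have hzz : z * z = 1 := by
    rw [hz, ← pow_add, ← two_mul, ← pow_succ', show m - 1 + 1 = m by omega, ← hm]
    exact pow_orderOf_eq_one a
  have hz1 : z ≠ 1 := by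
    intro h
    rw [hz] at h
    have := orderOf_dvd_of_pow_eq_one h
    rw [hm] at this
    have h3 := Nat.le_of_dvd (by positivity) this
    have h4 : 2 ^ (m - 1) < 2 ^ m := Nat.pow_lt_pow_right (by norm_num) (by omega)
    omega
  have htt : t * t = 1 := by
    have hc : b * (a ^ i)⁻¹ = (a ^ i)⁻¹ * b := hcomm b hbA _ (inv_mem haiA)
    calc t * t = b * ((a ^ i)⁻¹ * b) * (a ^ i)⁻¹ := by rw [ht]; group
      _ = b * (b * (a ^ i)⁻¹) * (a ^ i)⁻¹ := by rw [hc]
      _ = b ^ 2 * ((a ^ i) * (a ^ i))⁻¹ := by rw [pow_two]; group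
      _ = 1 := by rw [← hj, hi, ← pow_add]; group
  have htA : t ∈ A := mul_mem hbA (inv_mem haiA)
  have htna : t ∉ zpowers a := by
    intro h
    apply hba
    have : b = t * a ^ i := by rw [ht]; group
    rw [this]
    exact mul_mem h (pow_mem (mem_zpowers a) i)
  have hzza : z ∈ zpowers a := pow_mem (mem_zpowers a) _
  refine ⟨z, t, hzA hzza, htA, hz1, ?_, ?_, hzz, htt⟩
  · intro h
    exact htna (h ▸ one_mem _)
  · intro h
    exact htna (h ▸ hzza)

/-- If `X` has a cyclic subgroup of index at most 2, its exponent-2 subgroups have order at most 4. -/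
theorem card_le_four_of_cyclic_index_two (C : Subgroup P) (hC : IsCyclic C) (hidx : C.index ≤ 2)
    (hidx0 : C.index ≠ 0)
    (E : Subgroup P) (hE : ∀ e ∈ E, e ^ 2 = 1) : Nat.card E ≤ 4 := by
  have h1 : Nat.card (C.subgroupOf E) * (C.subgroupOf E).index = Nat.card E :=
    Subgroup.card_mul_index _
  have h2 : (C.subgroupOf E).index ≤ 2 := by
    have h3 : C.relIndex E ≤ C.relIndex ⊤ :=
      Subgroup.relIndex_le_of_le_right le_top (by rw [Subgroup.relIndex_top_right]; exact hidx0)
    rw [Subgroup.relIndex_top_right] at h3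
    exact le_trans h3 hidx
  have h4 : Nat.card (C.subgroupOf E) ≤ 2 := by
    let f : (C.subgroupOf E) →* C :=
      { toFun := fun x => ⟨x.1.1, x.2⟩
        map_one' := rfl
        map_mul' := fun _ _ => rfl }
    have hf : Function.Injective f := by
      intro x y hxy
      apply Subtype.ext
      apply Subtype.ext
      exact congrArg (fun w : C => (w : P)) hxy
    haveI : IsCyclic (C.subgroupOf E) := isCyclic_of_injective f hf
    obtain ⟨g, hg⟩ := IsCyclic.exists_generator (α := C.subgroupOf E)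
    have h5 : orderOf g = Nat.card (C.subgroupOf E) := orderOf_eq_card_of_forall_mem_zpowers hg
    have h6 : g ^ 2 = 1 := by
      apply Subtype.ext
      apply Subtype.ext
      exact hE g.1.1 g.1.2
    rw [← h5]
    exact Nat.le_of_dvd (by norm_num) (orderOf_dvd_of_pow_eq_one h6)
  calc Nat.card E = Nat.card (C.subgroupOf E) * (C.subgroupOf E).index := h1.symm
    _ ≤ 2 * 2 := Nat.mul_le_mul h4 h2
    _ = 4 := by norm_num

end L1

section L2

variable {P : Type u} [Group P] [Finite P]

/-- The elements of order dividing 2 of a commutative subgroup. -/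
def omegaOne (A : Subgroup P) (hAc : IsMulCommutative A) : Subgroup P where
  carrier := {x | x ∈ A ∧ x * x = 1}
  one_mem' := ⟨one_mem _, by simp⟩
  mul_mem' := by
    rintro x y ⟨hx, hx2⟩ ⟨hy, hy2⟩
    refine ⟨mul_mem hx hy, ?_⟩
    have hc : x * y = y * x := by
      have := mul_comm' (⟨x, hx⟩ : A) ⟨y, hy⟩
      exact congrArg Subtype.val this
    calc x * y * (x * y) = x * (y * x) * y := by group
      _ = x * (x * y) * y := by rw [hc]
      _ = (x * x) * (y * y) := by group
      _ = 1 := by rw [hx2, hy2, one_mul]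
  inv_mem' := by
    rintro x ⟨hx, hx2⟩
    refine ⟨inv_mem hx, ?_⟩
    rw [← mul_inv_rev, hx2, inv_one]

theorem mem_omegaOne {A : Subgroup P} {hAc : IsMulCommutative A} {x : P} :
    x ∈ omegaOne A hAc ↔ x ∈ A ∧ x * x = 1 := Iff.rfl

/-- A 2-group containing an exponent-2 subgroup of order at least 8 has a normal four-subgroup. -/
theorem exists_normal_four (hP : IsPGroup 2 P) (E : Subgroup P) (hE8 : 8 ≤ Nat.card E)
    (hE : ∀ e ∈ E, e ^ 2 = 1) :
    ∃ U : Subgroup P, U.Normal ∧ Nat.card U = 4 ∧ ∀ u ∈ U, u * u = 1 := by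
  haveI : Fact (Nat.Prime 2) := ⟨Nat.prime_two⟩
  by_contra hno
  -- every normal abelian subgroup is cyclic
  have hn : ∀ A : Subgroup P, A.Normal → IsMulCommutative A → IsCyclic A := by
    intro A hAn hAc
    by_contra hnc
    obtain ⟨z, t, hzA, htA, hz1, ht1, hzt, hzz, htt⟩ :=
      two_involutions A (hP.to_subgroup A) hAc hnc
    set Ω := omegaOne A hAc with hΩ
    haveI hΩn : Ω.Normal := by
      refine ⟨fun x hx g => ?_⟩
      obtain ⟨hxA, hx2⟩ := hx
      refine ⟨hAn.conj_mem x hxA g, ?_⟩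
      calc g * x * g⁻¹ * (g * x * g⁻¹) = g * (x * x) * g⁻¹ := by group
        _ = 1 := by rw [hx2]; group
    obtain ⟨k, hk⟩ := (hP.to_subgroup Ω).exists_card_eq
    have h3 : 3 ≤ Nat.card Ω := by
      have hinj : Function.Injective (fun i : Fin 3 => (![⟨1, one_mem Ω⟩, ⟨z, hzA, hzz⟩, ⟨t, htA, htt⟩] i : Ω)) := by
        intro i j hij
        fin_cases i <;> fin_cases j <;> simp_all [Subtype.ext_iff]
      have := Nat.card_le_card_of_injective _ hinj
      simpa using this
    have hk2 : 2 ≤ k := by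
      by_contra hlt
      push_neg at hlt
      have : 2 ^ k ≤ 2 ^ 1 := Nat.pow_le_pow_right (by norm_num) (by omega)
      omega
    have hdvd : 2 ^ 2 ∣ Nat.card Ω := by
      rw [hk]; exact pow_dvd_pow 2 hk2
    obtain ⟨K, hKΩ, hKn, hKcard⟩ :=
      Cfsg.Agent.Lib.Helper6_PNormal.exists_normal_le_of_pow_dvd hP Ω 2 hdvd
    exact hno ⟨K, hKn, by rw [hKcard]; norm_num, fun u hu => (hKΩ hu).2⟩
  have hnc : ¬ IsCyclic P := by
    intro hc
    have hc' : IsCyclic (⊤ : Subgroup P) := by
      exact isCyclic_of_injective (⊤ : Subgroup P).subtype Subtype.val_injective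
    have := card_le_four_of_cyclic_index_two (⊤ : Subgroup P) hc' (by simp) (by simp) E hE
    omega
  obtain ⟨n, hn3, hcard, hclass⟩ :=
    Cfsg.Agent.Lib.Helper5_NoNormalFour.maxclass_of_cyclic_normal_abelian hP hn hnc
  obtain ⟨c, x, hord, hx, hCidx, -⟩ :=
    Cfsg.Agent.Lib.Helper6_MaxClass2.maxclass_structure n hn3 hcard hclass
  have := card_le_four_of_cyclic_index_two (zpowers c) inferInstance (by omega) (by omega) E hE
  omega

end L2

section L3

variable {P : Type u} [Group P]

theorem comm_of_sq (U : Subgroup P) (hU2 : ∀ v ∈ U, v * v = 1) :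
    ∀ v ∈ U, ∀ v' ∈ U, v * v' = v' * v := by
  intro v hv v' hv'
  have h1 := hU2 (v * v') (mul_mem hv hv')
  have h2 := hU2 v hv
  have h3 := hU2 v' hv'
  calc v * v' = (v' * v') * (v * v') * (v * v) := by rw [h2, h3, one_mul, mul_one]
    _ = v' * (v' * v * (v' * v)) * v := by group
    _ = v' * v := by rw [hU2 (v' * v) (mul_mem hv' hv), mul_one]

/-- An exponent-2 subgroup of order 8 generated by a four-group and a commuting involution. -/
theorem eight (U : Subgroup P) (hU4 : Nat.card U = 4) (w : P) (hw2 : w * w = 1) (hwU : w ∉ U)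
    (hwc : ∀ v ∈ U, v * w = w * v)
    (hU2 : ∀ v ∈ U, v * v = 1)
    (y : P) (hyU : ∀ v ∈ U, v * y = y * v) (hyw : w * y = y * w) :
    ∃ F : Subgroup P, F ≤ centralizer {y} ∧ Nat.card F = 8 ∧ ∀ f ∈ F, f ^ 2 = 1 := by
  have hcomm : ∀ (m : U) (n : zpowers w), Commute (U.subtype m) ((zpowers w).subtype n) := by
    rintro ⟨v, hv⟩ ⟨c, hc⟩
    obtain ⟨i, rfl⟩ := hc
    exact (show Commute v w from hwc v hv).zpow_right i
  set φ := MonoidHom.noncommCoprod U.subtype (zpowers w).subtype hcomm with hφ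
  have hinj : Function.Injective φ := by
    rw [MonoidHom.noncommCoprod_injective]
    refine ⟨Subtype.val_injective, Subtype.val_injective, ?_⟩
    rw [Subgroup.range_subtype, Subgroup.range_subtype, Subgroup.disjoint_def]
    intro x hxU hxw
    obtain ⟨i, rfl⟩ := hxw
    simp only at hxU ⊢
    rcases Cfsg.Agent.Lib.Helper5_NoNormalFour.zpow_invol w hw2 i with h | h
    · exact h
    · rw [h] at hxU; exact absurd hxU hwU
  have hw1 : w ≠ 1 := fun h => hwU (h ▸ one_mem _)
  have hordw : orderOf w = 2 := by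
    haveI : Fact (Nat.Prime 2) := ⟨Nat.prime_two⟩
    exact orderOf_eq_prime (by rw [pow_two]; exact hw2) hw1
  refine ⟨φ.range, ?_, ?_, ?_⟩
  · rintro _ ⟨⟨⟨v, hv⟩, ⟨c, hc⟩⟩, rfl⟩
    rw [mem_centralizer_iff]
    intro y' hy'
    rw [Set.mem_singleton_iff] at hy'; subst hy'
    simp only [hφ, MonoidHom.noncommCoprod_apply, Subgroup.coe_subtype]
    obtain ⟨i, rfl⟩ := hc
    have h1 : Commute y' v := (hyU v hv).symm
    have h2 : Commute y' (w ^ i) := (show Commute y' w from hyw.symm).zpow_right i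
    exact (h1.mul_right h2).eq
  · rw [← Nat.card_congr (MonoidHom.ofInjective hinj).toEquiv, Nat.card_prod, hU4,
      Nat.card_zpowers, hordw]
  · rintro _ ⟨⟨⟨v, hv⟩, ⟨c, hc⟩⟩, rfl⟩
    simp only [hφ, MonoidHom.noncommCoprod_apply, Subgroup.coe_subtype]
    obtain ⟨i, rfl⟩ := hc
    have h1 : Commute v (w ^ i) := (show Commute v w from hwc v hv).zpow_right i
    rw [h1.mul_pow, pow_two, hU2 v hv, one_mul, ← zpow_natCast, ← zpow_mul, mul_comm, zpow_mul,
      zpow_natCast, pow_two, hw2, one_zpow]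

end L3

section L4

variable {P : Type u} [Group P] [Finite P]

/-- In a 2-group of rank at least 3 there is a subgroup `M` of index at most 2 all of whose
involutions centralize an exponent-2 subgroup of order 8. -/
theorem exists_good_subgroup (hP : IsPGroup 2 P) (E : Subgroup P) (hE8 : Nat.card E = 8)
    (hE : ∀ e ∈ E, e ^ 2 = 1) :
    ∃ M : Subgroup P, (M = ⊤ ∨ M.index = 2) ∧ ∀ y ∈ M, y * y = 1 →
      ∃ F : Subgroup P, F ≤ centralizer {y} ∧ Nat.card F = 8 ∧ ∀ f ∈ F, f ^ 2 = 1 := by
  haveI : Fact (Nat.Prime 2) := ⟨Nat.prime_two⟩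
  obtain ⟨U, hUn, hU4, hU2⟩ := exists_normal_four hP E (by omega) hE
  haveI := hUn
  have hUc := comm_of_sq U hU2
  -- a central involution in `U`
  obtain ⟨K, hKU, hKn, hK2⟩ :=
    Cfsg.Agent.Lib.Helper6_PNormal.exists_normal_le_of_pow_dvd hP U 1 (by rw [hU4]; norm_num)
  rw [pow_one] at hK2
  obtain ⟨z, hzK, hz1⟩ : ∃ z ∈ K, z ≠ 1 := by
    by_contra h
    push_neg at h
    have : K = ⊥ := (Subgroup.eq_bot_iff_forall K).mpr h
    rw [this, Subgroup.card_bot] at hK2
    omega
  have hzU : z ∈ U := hKU hzK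
  have hzz : z * z = 1 := hU2 z hzU
  have hKmem : ∀ x ∈ K, x = 1 ∨ x = z := by
    intro x hx
    by_contra hne
    push_neg at hne
    have hinj : Function.Injective (fun i : Fin 3 => (![⟨1, one_mem K⟩, ⟨z, hzK⟩, ⟨x, hx⟩] i : K)) := by
      intro i j hij
      fin_cases i <;> fin_cases j <;> simp_all [Subtype.ext_iff]
    have := Nat.card_le_card_of_injective _ hinj
    simp only [Nat.card_eq_fintype_card, Fintype.card_fin] at this
    rw [hK2] at this
    omega
  have hzcent : ∀ g : P, g * z = z * g := by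
    intro g
    have h1 : g * z * g⁻¹ ∈ K := hKn.conj_mem z hzK g
    rcases hKmem _ h1 with h | h
    · exfalso
      apply hz1
      have : z = g⁻¹ * (g * z * g⁻¹) * g := by group
      rw [this, h]; group
    · calc g * z = g * z * g⁻¹ * g := by group
        _ = z * g := by rw [h]
  -- another element of `U`
  obtain ⟨u, huU, huK⟩ : ∃ u ∈ U, u ∉ K := by
    by_contra h
    push_neg at h
    have : U = K := le_antisymm h hKU
    rw [this, hK2] at hU4
    omega
  have hu1 : u ≠ 1 := fun h => huK (h ▸ one_mem _)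
  have huz : z ≠ u := fun h => huK (h ▸ hzK)
  have huu : u * u = 1 := hU2 u huU
  have hzu : z * u = u * z := (hzcent u).symm
  have hUeq : U = Cfsg.Agent.Lib.Helper5_KleinSub.kleinSub z u hzz huu hzu := by
    symm
    apply Subgroup.eq_of_le_of_card_ge
    · intro x hx
      rcases Cfsg.Agent.Lib.Helper5_KleinSub.mem_kleinSub.mp hx with rfl | rfl | rfl | rfl
      · exact one_mem _
      · exact hzU
      · exact huU
      · exact mul_mem hzU huU
    · rw [hU4, Cfsg.Agent.Lib.Helper5_KleinSub.card_kleinSub z u hzz huu hzu hz1 hu1 huz]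
  have hUmem : ∀ x ∈ U, x = 1 ∨ x = z ∨ x = u ∨ x = z * u := by
    intro x hx
    rw [hUeq] at hx
    exact Cfsg.Agent.Lib.Helper5_KleinSub.mem_kleinSub.mp hx
  have hconj : ∀ g : P, g * u * g⁻¹ = u ∨ g * u * g⁻¹ = z * u := by
    intro g
    have h1 : g * u * g⁻¹ ∈ U := hUn.conj_mem u huU g
    rcases hUmem _ h1 with h | h | h | h
    · exfalso
      apply hu1
      have : u = g⁻¹ * (g * u * g⁻¹) * g := by group
      rw [this, h]; group
    · exfalso
      apply huz
      have : u = g⁻¹ * (g * u * g⁻¹) * g := by group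
      rw [this, h]
      calc z = g⁻¹ * (g * z) := by group
        _ = g⁻¹ * z * g := by rw [hzcent g]; group
    · left; exact h
    · right; exact h
  set M : Subgroup P := centralizer {u} with hM
  have hMmem : ∀ g : P, g ∈ M ↔ g * u * g⁻¹ = u := by
    intro g
    rw [hM, mem_centralizer_iff]
    constructor
    · intro h
      have := h u (Set.mem_singleton u)
      calc g * u * g⁻¹ = (g * u) * g⁻¹ := rfl
        _ = (u * g) * g⁻¹ := by rw [← this]
        _ = u := by group
    · intro h y hy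
      rw [Set.mem_singleton_iff] at hy; subst hy
      calc y * g = (g * y * g⁻¹) * g := by rw [h]
        _ = g * y := by group
  have hMU : ∀ g ∈ M, ∀ v ∈ U, v * g = g * v := by
    intro g hg v hv
    have hgu : u * g = g * u := by
      rw [hM, mem_centralizer_iff] at hg
      exact hg u (Set.mem_singleton u)
    rcases hUmem v hv with rfl | rfl | rfl | rfl
    · simp
    · exact (hzcent g).symm
    · exact hgu
    · rw [mul_assoc, hgu, ← mul_assoc, ← hzcent g, mul_assoc]
  have hMidx : M = ⊤ ∨ M.index = 2 := by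
    by_cases hall : ∀ g : P, g ∈ M
    · left; exact (Subgroup.eq_top_iff' M).mpr hall
    · right
      push_neg at hall
      obtain ⟨a, ha⟩ := hall
      have hau : a * u * a⁻¹ = z * u := by
        rcases hconj a with h | h
        · exact absurd ((hMmem a).mpr h) ha
        · exact h
      rw [Subgroup.index_eq_two_iff]
      refine ⟨a, fun b => ?_⟩
      by_cases hb : b ∈ M
      · right
        refine ⟨hb, fun hba => ha ?_⟩
        have : a = b⁻¹ * (b * a) := by group
        rw [this]
        exact mul_mem (inv_mem hb) hba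
      · left
        refine ⟨?_, hb⟩
        have hbu : b * u * b⁻¹ = z * u := by
          rcases hconj b with h | h
          · exact absurd ((hMmem b).mpr h) hb
          · exact h
        rw [hMmem]
        calc b * a * u * (b * a)⁻¹ = b * (a * u * a⁻¹) * b⁻¹ := by group
          _ = b * (z * u) * b⁻¹ := by rw [hau]
          _ = (b * z) * u * b⁻¹ := by group
          _ = z * (b * u * b⁻¹) := by rw [hzcent b]; group
          _ = z * (z * u) := by rw [hbu]
          _ = u := by rw [← mul_assoc, hzz, one_mul]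
  -- an element of `E ⊓ M` outside `U`
  obtain ⟨e₀, he₀E, he₀M, he₀U⟩ : ∃ e ∈ E, e ∈ M ∧ e ∉ U := by
    by_contra h
    push_neg at h
    have h1 : Nat.card (M.subgroupOf E) * (M.subgroupOf E).index = Nat.card E :=
      Subgroup.card_mul_index _
    have h2 : (M.subgroupOf E).index ≤ 2 := by
      rcases hMidx with hM' | hM'
      · have : M.subgroupOf E = ⊤ := by rw [hM']; exact Subgroup.top_subgroupOf E
        rw [this, Subgroup.index_top]; norm_num
      · have h3 : M.relIndex E ≤ M.relIndex ⊤ :=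
          Subgroup.relIndex_le_of_le_right le_top (by rw [Subgroup.relIndex_top_right, hM']; norm_num)
        rw [Subgroup.relIndex_top_right, hM'] at h3
        exact h3
    have h4 : 4 ≤ Nat.card (M.subgroupOf E) := by
      rw [hE8] at h1
      by_contra hlt
      push_neg at hlt
      have : Nat.card (M.subgroupOf E) * (M.subgroupOf E).index ≤ 3 * 2 :=
        Nat.mul_le_mul (by omega) h2
      omega
    -- `E ⊓ M ≤ U`
    have h5 : Nat.card (M.subgroupOf E) = Nat.card (M ⊓ E : Subgroup P) := by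
      rw [← Subgroup.inf_subgroupOf_right M E]
      exact Nat.card_congr (Subgroup.subgroupOfEquivOfLe inf_le_right).toEquiv
    have h6 : (M ⊓ E : Subgroup P) ≤ U := fun x hx => h x hx.2 hx.1
    have h7 : (M ⊓ E : Subgroup P) = U := by
      apply Subgroup.eq_of_le_of_card_ge h6
      rw [hU4, ← h5]; exact h4
    have huE : u ∈ E := by
      have : u ∈ (M ⊓ E : Subgroup P) := by rw [h7]; exact huU
      exact this.2
    have hEM : E ≤ M := by
      intro e he
      rw [hM, mem_centralizer_iff]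
      intro y hy
      rw [Set.mem_singleton_iff] at hy; subst hy
      have hE2' : ∀ v ∈ E, v * v = 1 := fun v hv => by rw [← pow_two]; exact hE v hv
      exact comm_of_sq E hE2' y huE e he
    have h8 : (M ⊓ E : Subgroup P) = E := inf_eq_right.mpr hEM
    rw [h8] at h7
    rw [h7, hU4] at hE8
    omega
  have he₀2 : e₀ * e₀ = 1 := by rw [← pow_two]; exact hE e₀ he₀E
  refine ⟨M, hMidx, fun y hyM hy2 => ?_⟩
  by_cases hyU : y ∈ U
  · -- use `e₀`
    refine eight U hU4 e₀ he₀2 he₀U (hMU e₀ he₀M) hU2 y (fun v hv => hUc v hv y hyU) ?_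
    exact hMU e₀ he₀M y hyU |>.symm
  · exact eight U hU4 y hy2 hyU (hMU y hyM) hU2 y (hMU y hyM) rfl

end L4

end Cfsg.Agent.Lib.Helper5_NormalFour
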