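import Mathlib
import Cfsg.Prelude.Def_PLocal
import Cfsg.Agent.Lib.Helper7_PFrattini

/-! Regular `p`-groups (P. Hall): `a^q = b^q ↔ (a b⁻¹)^q = 1` for `q = p^k`. -/

set_option autoImplicit false

namespace Cfsg.Agent.Lib.Helper7_Regular

open Subgroup
open scoped commutatorElement
open Cfsg.Agent.Lib.Helper7_PFrattini

variable {G : Type*} [Group G] {p : ℕ}

theorem map_powerClosure {H : Type*} [Group H] (f : H →* G) (n : ℕ) (K : Subgroup H) :
    (Cfsg.powerClosure p n K).map f = Cfsg.powerClosure p n (K.map f) := by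
  unfold Cfsg.powerClosure
  rw [MonoidHom.map_closure]
  congr 1
  ext y
  constructor
  · rintro ⟨_, ⟨x, hx, rfl⟩, rfl⟩
    exact ⟨f x, ⟨x, hx, rfl⟩, map_pow f x _⟩
  · rintro ⟨_, ⟨x, hx, rfl⟩, rfl⟩
    exact ⟨x ^ (p ^ n), ⟨x, hx, rfl⟩, map_pow f x _⟩

/-- regularity passes to subgroups -/
theorem regular_subgroup (hG : Cfsg.IsRegularPGroup p G) (H : Subgroup G) :
    Cfsg.IsRegularPGroup p H := by
  refine ⟨hG.1.to_subgroup H, fun a b n => ?_⟩
  obtain ⟨c, hc, heq⟩ := hG.2 (a : G) (b : G) n
  have e1 : (closure ({a, b} : Set H)).map H.subtype = closure ({(a : G), (b : G)} : Set G) := by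
    rw [MonoidHom.map_closure, Set.image_pair]
    rfl
  have e2 : (Cfsg.powerClosure p n ⁅closure ({a, b} : Set H), closure ({a, b} : Set H)⁆).map
      H.subtype = Cfsg.powerClosure p n ⁅closure ({(a : G), (b : G)} : Set G),
        closure ({(a : G), (b : G)} : Set G)⁆ := by
    rw [map_powerClosure, Subgroup.map_commutator, e1]
  rw [← e2] at hc
  obtain ⟨c', hc', rfl⟩ := hc
  refine ⟨c', hc', ?_⟩
  apply Subtype.ext
  simpa using heq

/-- in a finite `p`-group, an element whose normal closure is everything generates the group -/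
theorem zpowers_eq_top_of_normalClosure [Finite G] [Fact p.Prime] (hP : IsPGroup p G) (x : G)
    (h : normalClosure ({x} : Set G) = ⊤) : zpowers x = ⊤ := by
  by_contra hne
  obtain ⟨M, hM, hxM⟩ := (eq_top_or_exists_le_coatom (zpowers x)).resolve_left hne
  haveI : M.Normal := (coatom_normal_index hP M hM).1
  have : normalClosure ({x} : Set G) ≤ M := by
    apply normalClosure_le_normal
    rw [Set.singleton_subset_iff]
    exact hxM (mem_zpowers x)
  rw [h] at this
  exact hM.1 (eq_top_iff.mpr this)

/-- if the generators `x`, `y` commute modulo the normal subgroup `T`, then `G' ≤ T` -/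
theorem commutator_le_of_gen (T : Subgroup G) [hT : T.Normal] (x y : G)
    (hgen : closure ({x, y} : Set G) = ⊤) (hxy : ⁅x, y⁆ ∈ T) : commutator G ≤ T := by
  have hyx : ⁅y, x⁆ ∈ T := by
    rw [← commutatorElement_inv]; exact T.inv_mem hxy
  -- for a fixed g, the set of h with ⁅g,h⁆ ∈ T is a subgroup
  have step : ∀ g : G, ⁅g, x⁆ ∈ T → ⁅g, y⁆ ∈ T → ∀ h : G, ⁅g, h⁆ ∈ T := by
    intro g hgx hgy h
    have hh : h ∈ closure ({x, y} : Set G) := by rw [hgen]; trivial
    induction hh using closure_induction with
    | mem z hz =>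
      rcases hz with rfl | hz
      · exact hgx
      · rw [Set.mem_singleton_iff] at hz; subst hz; exact hgy
    | one => simp
    | mul h h' _ _ ih ih' =>
      have e : ⁅g, h * h'⁆ = ⁅g, h⁆ * (h * ⁅g, h'⁆ * h⁻¹) := by
        simp only [commutatorElement_def]; group
      rw [e]
      exact T.mul_mem ih (hT.conj_mem _ ih' _)
    | inv h _ ih =>
      have e : ⁅g, h⁻¹⁆ = h⁻¹ * ⁅g, h⁆⁻¹ * h⁻¹⁻¹ := by
        simp only [commutatorElement_def]; group
      rw [e]
      exact hT.conj_mem _ (T.inv_mem ih) _
  have hx : ∀ h : G, ⁅x, h⁆ ∈ T := step x (by simp) hxy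
  have hy : ∀ h : G, ⁅y, h⁆ ∈ T := step y hyx (by simp)
  have hall : ∀ g h : G, ⁅g, h⁆ ∈ T := by
    intro g
    have hg : g ∈ closure ({x, y} : Set G) := by rw [hgen]; trivial
    induction hg using closure_induction with
    | mem z hz =>
      rcases hz with rfl | hz
      · exact hx
      · rw [Set.mem_singleton_iff] at hz; subst hz; exact hy
    | one => intro h; simp
    | mul g g' _ _ ih ih' =>
      intro h
      have e : ⁅g * g', h⁆ = (g * ⁅g', h⁆ * g⁻¹) * ⁅g, h⁆ := by
        simp only [commutatorElement_def]; group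
      rw [e]
      exact T.mul_mem (hT.conj_mem _ (ih' h) _) (ih h)
    | inv g _ ih =>
      intro h
      have e : ⁅g⁻¹, h⁆ = g⁻¹ * ⁅g, h⁆⁻¹ * g⁻¹⁻¹ := by
        simp only [commutatorElement_def]; group
      rw [e]
      exact hT.conj_mem _ (T.inv_mem (ih h)) _
  rw [_root_.commutator_def, Subgroup.commutator_le]
  intro g _ h _
  exact hall g h

/-- the key consequence of regularity when `G'` has exponent dividing `q` -/
theorem pow_mul_of_commutator_exp (hG : Cfsg.IsRegularPGroup p G) (x y : G) (k : ℕ)
    (hgen : closure ({x, y} : Set G) = ⊤)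
    (hexp : ∀ z ∈ commutator G, z ^ p ^ k = 1) :
    (x * y) ^ p ^ k = x ^ p ^ k * y ^ p ^ k := by
  obtain ⟨c, hc, heq⟩ := hG.2 x y k
  rw [hgen] at hc
  have hc1 : c = 1 := by
    have : Cfsg.powerClosure p k ⁅(⊤ : Subgroup G), (⊤ : Subgroup G)⁆ ≤ ⊥ := by
      unfold Cfsg.powerClosure
      rw [closure_le]
      rintro _ ⟨z, hz, rfl⟩
      rw [← _root_.commutator_def] at hz
      rw [hexp z hz]
      exact one_mem _
    exact mem_bot.mp (this hc)
  rw [heq, hc1, mul_one]

/-- P. Hall: in a regular `p`-group, `a^q = b^q ↔ (a b⁻¹)^q = 1`. -/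
theorem pow_eq_iff_aux (p : ℕ) [hp : Fact p.Prime] : ∀ (n : ℕ) (G : Type*) [Group G] [Finite G],
    Nat.card G = n → Cfsg.IsRegularPGroup p G →
    ∀ (a b : G) (k : ℕ), a ^ p ^ k = b ^ p ^ k ↔ (a * b⁻¹) ^ p ^ k = 1 := by
  intro n
  induction n using Nat.strong_induction_on with
  | _ n ih =>
  intro G _ _ hcard hG a b k
  -- induction hypothesis for proper subgroups
  have IH : ∀ K : Subgroup G, K ≠ ⊤ → ∀ x y : G, x ∈ K → y ∈ K → ∀ j : ℕ,
      (x ^ p ^ j = y ^ p ^ j ↔ (x * y⁻¹) ^ p ^ j = 1) := by
    intro K hK x y hx hy j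
    have hlt : Nat.card K < n := by
      rw [← hcard]
      refine lt_of_le_of_ne (Subgroup.card_le_card_group K) ?_
      intro h
      exact hK ((Subgroup.card_eq_iff_eq_top K).mp h)
    have := ih _ hlt K rfl (regular_subgroup hG K) ⟨x, hx⟩ ⟨y, hy⟩ j
    rw [Subtype.ext_iff, Subtype.ext_iff] at this
    simpa using this
  -- elements of order dividing q in a proper subgroup form a subgroup
  have Omega : ∀ K : Subgroup G, K ≠ ⊤ → ∀ j : ℕ, ∀ S : Set G, S ⊆ K →
      (∀ s ∈ S, s ^ p ^ j = 1) → closure S ≤ K → ∀ x ∈ closure S, x ^ p ^ j = 1 := by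
    intro K hK j S hSK hS hcl x hx
    have : ∀ x ∈ closure S, x ∈ K ∧ x ^ p ^ j = 1 := by
      intro x hx
      induction hx using closure_induction with
      | mem z hz => exact ⟨hSK hz, hS z hz⟩
      | one => exact ⟨one_mem _, one_pow _⟩
      | mul u v _ _ hu hv =>
        refine ⟨K.mul_mem hu.1 hv.1, ?_⟩
        have h1 : u ^ p ^ j = (v⁻¹) ^ p ^ j := by rw [hu.2, inv_pow, hv.2, inv_one]
        have := (IH K hK u v⁻¹ hu.1 (K.inv_mem hv.1) j).mp h1
        rwa [inv_inv] at this
      | inv u _ hu => exact ⟨K.inv_mem hu.1, by rw [inv_pow, hu.2, inv_one]⟩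
    exact (this x hx).2
  set q := p ^ k with hq
  by_cases hgen : closure ({a, b} : Set G) = ⊤
  swap
  · exact IH _ hgen a b (subset_closure (by simp)) (subset_closure (by simp)) k
  by_cases htriv : Subsingleton G
  · have ha : a = 1 := Subsingleton.elim _ _
    have hb : b = 1 := Subsingleton.elim _ _
    simp [ha, hb]
  rw [not_subsingleton_iff_nontrivial] at htriv
  haveI : Group.IsNilpotent G := hG.1.isNilpotent
  have hcomm_lt : commutator G < ⊤ := Group.IsSolvable.commutator_lt_top_of_nontrivial G
  -- general step: normal closure of w with w^q = 1, proper, containing the commutator of generators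
  have key : ∀ (x y w : G), closure ({x, y} : Set G) = ⊤ → w ^ q = 1 →
      normalClosure ({w} : Set G) ≠ ⊤ → ⁅x, y⁆ ∈ normalClosure ({w} : Set G) →
      (x * y) ^ q = x ^ q * y ^ q := by
    intro x y w hxy hw hne hmem
    have hT : ∀ z ∈ normalClosure ({w} : Set G), z ^ q = 1 := by
      intro z hz
      apply Omega _ hne k (Group.conjugatesOfSet {w}) conjugatesOfSet_subset_normalClosure ?_
        (le_of_eq rfl) z hz
      intro s hs
      rw [Group.mem_conjugatesOfSet_iff] at hs
      obtain ⟨w', hw', hconj⟩ := hs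
      rw [Set.mem_singleton_iff] at hw'
      subst hw'
      obtain ⟨g, rfl⟩ := isConj_iff.mp hconj
      rw [conj_pow, hw]; simp
    have hle : commutator G ≤ normalClosure ({w} : Set G) :=
      commutator_le_of_gen _ x y hxy hmem
    exact pow_mul_of_commutator_exp hG x y k hxy (fun z hz => hT z (hle hz))
  constructor
  · intro hab
    by_cases hM : closure ({a, b⁻¹ * a * b} : Set G) = ⊤
    · -- cyclic case
      have hnc : normalClosure ({a} : Set G) = ⊤ := by
        rw [eq_top_iff, ← hM, closure_le]
        intro z hz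
        rcases hz with rfl | hz
        · exact subset_normalClosure (by simp)
        · rw [Set.mem_singleton_iff] at hz; subst hz
          have := (normalClosure_normal (s := ({a} : Set G))).conj_mem a
            (subset_normalClosure (by simp)) b⁻¹
          simpa using this
      have hcyc := zpowers_eq_top_of_normalClosure hG.1 a hnc
      have hb : b ∈ zpowers a := by rw [hcyc]; trivial
      obtain ⟨j, rfl⟩ := mem_zpowers_iff.mp hb
      have hc : Commute a (a ^ j)⁻¹ := (Commute.refl a).zpow_right j |>.inv_right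
      rw [hc.mul_pow, hab, inv_pow, mul_inv_cancel]
    · -- apply IH to a and its conjugate
      have h1 : a ^ q = (b⁻¹ * a * b) ^ q := by
        have e : (b⁻¹ * a * b) ^ q = b⁻¹ * a ^ q * b := by
          have := conj_pow (a := b⁻¹) (b := a) (i := q)
          rw [inv_inv] at this
          exact this
        rw [e, hab]; group
      have h2 := (IH _ hM a (b⁻¹ * a * b) (subset_closure (by simp)) (subset_closure (by simp)) k).mp h1
      have hw : ⁅a, b⁻¹⁆ ^ q = 1 := by
        have e : ⁅a, b⁻¹⁆ = a * (b⁻¹ * a * b)⁻¹ := by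
          simp only [commutatorElement_def]; group
        rw [e]; exact h2
      have hgen' : closure ({a, b⁻¹} : Set G) = ⊤ := by
        rw [eq_top_iff, ← hgen, closure_le]
        intro z hz
        rcases hz with rfl | hz
        · exact subset_closure (by simp)
        · rw [Set.mem_singleton_iff] at hz; subst hz
          have : z⁻¹ ∈ closure ({a, z⁻¹} : Set G) := subset_closure (by simp)
          simpa using inv_mem this
      have hne : normalClosure ({⁅a, b⁻¹⁆} : Set G) ≠ ⊤ := by
        intro htop
        have hle : normalClosure ({⁅a, b⁻¹⁆} : Set G) ≤ commutator G := by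
          apply normalClosure_le_normal
          rw [Set.singleton_subset_iff]
          rw [_root_.commutator_def]
          exact Subgroup.commutator_mem_commutator (mem_top a) (mem_top _)
        rw [htop] at hle
        exact (lt_irrefl _ (lt_of_lt_of_le hcomm_lt hle))
      have := key a b⁻¹ ⁅a, b⁻¹⁆ hgen' hw hne (subset_normalClosure (by simp))
      rw [this, hab, inv_pow, mul_inv_cancel]
  · intro hu
    set u := a * b⁻¹ with hudef
    have hau : a = u * b := by rw [hudef]; group
    have hgen' : closure ({u, b} : Set G) = ⊤ := by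
      rw [eq_top_iff, ← hgen, closure_le]
      intro z hz
      rcases hz with rfl | hz
      · rw [hau]
        exact mul_mem (subset_closure (by simp)) (subset_closure (by simp))
      · rw [Set.mem_singleton_iff] at hz; subst hz
        exact subset_closure (by simp)
    by_cases hN : normalClosure ({u} : Set G) = ⊤
    · have hcyc := zpowers_eq_top_of_normalClosure hG.1 u hN
      have hb : b ∈ zpowers u := by rw [hcyc]; trivial
      obtain ⟨j, hj⟩ := mem_zpowers_iff.mp hb
      have hc : Commute u b := by rw [← hj]; exact (Commute.refl u).zpow_right j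
      rw [hau, hc.mul_pow, hu, one_mul]
    · have hmem : ⁅u, b⁆ ∈ normalClosure ({u} : Set G) := by
        have e : ⁅u, b⁆ = u * (b * u⁻¹ * b⁻¹) := by
          simp only [commutatorElement_def]; group
        rw [e]
        have hu' : u ∈ normalClosure ({u} : Set G) := subset_normalClosure (by simp)
        exact mul_mem hu' ((normalClosure_normal (s := ({u} : Set G))).conj_mem _ (inv_mem hu') b)
      have := key u b u hgen' hu hN hmem
      rw [hau, this, hu, one_mul]

/-- P. Hall: in a regular `p`-group, `a^q = b^q ↔ (a b⁻¹)^q = 1`. -/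
theorem pow_eq_iff [Finite G] [Fact p.Prime] (hG : Cfsg.IsRegularPGroup p G) (a b : G) (k : ℕ) :
    a ^ p ^ k = b ^ p ^ k ↔ (a * b⁻¹) ^ p ^ k = 1 :=
  pow_eq_iff_aux p _ G rfl hG a b k

end Cfsg.Agent.Lib.Helper7_Regular
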