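import Mathlib
import Cfsg.Agent.Lib.Helper7_PFrattini
import Cfsg.Agent.Lib.Helper7_Regular

set_option autoImplicit false

/-!
# `p`-groups without a subgroup `C_p × C_p`
-/

namespace Cfsg.Agent.Lib.Helper7_PGroupRank

open Subgroup
open Cfsg.Agent.Lib.Helper7_PFrattini

section ClassTwo

variable {G : Type*} [Group G]

theorem pow_mul_of_comm (x y d : G) (hd : y * x = d * x * y) (hdx : d * x = x * d)
    (hdy : d * y = y * d) (n : ℕ) : y ^ n * x = d ^ n * x * y ^ n := by
  induction n with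
  | zero => simp
  | succ n ih =>
    have hdyn : d * y ^ n = y ^ n * d := (Commute.pow_right (show Commute d y from hdy) n).eq
    calc y ^ (n + 1) * x = y * (y ^ n * x) := by rw [pow_succ']; group
      _ = y * (d ^ n * x * y ^ n) := by rw [ih]
      _ = d ^ n * (y * x) * y ^ n := by
          have : y * d ^ n = d ^ n * y := ((Commute.pow_left (show Commute d y from hdy) n).eq).symm
          calc y * (d ^ n * x * y ^ n) = (y * d ^ n) * x * y ^ n := by group
            _ = d ^ n * y * x * y ^ n := by rw [this]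
            _ = d ^ n * (y * x) * y ^ n := by group
      _ = d ^ n * (d * x * y) * y ^ n := by rw [hd]
      _ = d ^ (n + 1) * x * y ^ (n + 1) := by rw [pow_succ, pow_succ']; group

/-- power formula in class two -/
theorem mul_pow_of_comm (x y d : G) (hd : y * x = d * x * y) (hdx : d * x = x * d)
    (hdy : d * y = y * d) (n : ℕ) :
    (x * y) ^ n = x ^ n * y ^ n * d ^ (∑ i ∈ Finset.range n, i) := by
  induction n with
  | zero => simp
  | succ n ih =>
    have h1 := pow_mul_of_comm x y d hd hdx hdy n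
    have cx : ∀ k : ℕ, d ^ k * x = x * d ^ k := fun k =>
      (Commute.pow_left (show Commute d x from hdx) k).eq
    have cy : ∀ k : ℕ, d ^ k * y = y * d ^ k := fun k =>
      (Commute.pow_left (show Commute d y from hdy) k).eq
    have cxn : ∀ k m : ℕ, d ^ k * x ^ m = x ^ m * d ^ k := fun k m =>
      (Commute.pow_pow (show Commute d x from hdx) k m).eq
    have cyn : ∀ k m : ℕ, d ^ k * y ^ m = y ^ m * d ^ k := fun k m =>
      (Commute.pow_pow (show Commute d y from hdy) k m).eq
    rw [pow_succ, ih, Finset.sum_range_succ]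
    calc x ^ n * y ^ n * d ^ (∑ i ∈ Finset.range n, i) * (x * y)
        = x ^ n * y ^ n * (d ^ (∑ i ∈ Finset.range n, i) * x) * y := by group
      _ = x ^ n * y ^ n * (x * d ^ (∑ i ∈ Finset.range n, i)) * y := by rw [cx]
      _ = x ^ n * (y ^ n * x) * (d ^ (∑ i ∈ Finset.range n, i) * y) := by group
      _ = x ^ n * (d ^ n * x * y ^ n) * (y * d ^ (∑ i ∈ Finset.range n, i)) := by rw [h1, cy]
      _ = x ^ n * (d ^ n * x) * y ^ (n + 1) * d ^ (∑ i ∈ Finset.range n, i) := by
          rw [pow_succ]; group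
      _ = x ^ n * (x * d ^ n) * y ^ (n + 1) * d ^ (∑ i ∈ Finset.range n, i) := by rw [cx]
      _ = x ^ (n + 1) * (d ^ n * y ^ (n + 1)) * d ^ (∑ i ∈ Finset.range n, i) := by
          rw [pow_succ]; group
      _ = x ^ (n + 1) * (y ^ (n + 1) * d ^ n) * d ^ (∑ i ∈ Finset.range n, i) := by rw [cyn]
      _ = x ^ (n + 1) * y ^ (n + 1) * d ^ (∑ i ∈ Finset.range n, i + n) := by
          rw [pow_add (a := d), mul_assoc, mul_assoc, mul_assoc]
          congr 2
          rw [← pow_add, ← pow_add, add_comm]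

/-- commutators with powers in class two -/
theorem comm_pow_of_central (a b : G) (hc : ∀ g : G, g * (a * b * a⁻¹ * b⁻¹) = (a * b * a⁻¹ * b⁻¹) * g)
    (n : ℕ) : a ^ n * b * (a ^ n)⁻¹ * b⁻¹ = (a * b * a⁻¹ * b⁻¹) ^ n := by
  induction n with
  | zero => simp
  | succ n ih =>
    calc a ^ (n + 1) * b * (a ^ (n + 1))⁻¹ * b⁻¹
        = a * (a ^ n * b * (a ^ n)⁻¹ * b⁻¹) * b * a⁻¹ * b⁻¹ := by rw [pow_succ']; group
      _ = a * (a * b * a⁻¹ * b⁻¹) ^ n * b * a⁻¹ * b⁻¹ := by rw [ih]
      _ = (a * b * a⁻¹ * b⁻¹) ^ n * (a * b * a⁻¹ * b⁻¹) := by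
          have : a * (a * b * a⁻¹ * b⁻¹) ^ n = (a * b * a⁻¹ * b⁻¹) ^ n * a :=
            (Commute.pow_right (show Commute a (a * b * a⁻¹ * b⁻¹) from hc a) n).eq
          rw [this]; group
      _ = (a * b * a⁻¹ * b⁻¹) ^ (n + 1) := by rw [pow_succ]

end ClassTwo

section PGroup

variable {Q : Type*} [Group Q] [Finite Q] {p : ℕ} [Fact p.Prime]

theorem sq_le_index_frattini (hQ : IsPGroup p Q) (hnc : ¬ IsCyclic Q) :
    p ^ 2 ≤ (frattini Q).index := by
  have hp := (Fact.out : p.Prime)
  have hq : ¬ IsCyclic (Q ⧸ frattini Q) := by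
    intro hcyc
    obtain ⟨g, hg⟩ := hcyc.exists_generator
    obtain ⟨x, rfl⟩ := QuotientGroup.mk_surjective g
    apply hnc
    have hsup : zpowers x ⊔ frattini Q = ⊤ := by
      rw [eq_top_iff]
      intro y _
      obtain ⟨k, hk⟩ := Subgroup.mem_zpowers_iff.mp (hg (y : Q ⧸ frattini Q))
      have h2 : ((x ^ k)⁻¹ * y : Q) ∈ frattini Q := by
        rw [← QuotientGroup.eq]
        rw [← hk]; rfl
      have : y = x ^ k * ((x ^ k)⁻¹ * y) := by group
      rw [this]
      exact Subgroup.mul_mem_sup (Subgroup.zpow_mem_zpowers x k) h2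
    have htop : zpowers x = ⊤ := frattini_nongenerating hsup
    exact ⟨⟨x, fun y => by rw [← Subgroup.mem_zpowers_iff, htop]; exact Subgroup.mem_top y⟩⟩
  obtain ⟨j, hj⟩ := (hQ.to_quotient (frattini Q)).exists_card_eq
  rw [Subgroup.index_eq_card, hj]
  have hj2 : 2 ≤ j := by
    by_contra hlt
    push Not at hlt
    interval_cases j
    · rw [pow_zero] at hj
      haveI : Subsingleton (Q ⧸ frattini Q) := (Nat.card_eq_one_iff_unique.mp hj).1
      exact hq inferInstance
    · rw [pow_one] at hj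
      exact hq (isCyclic_of_prime_card hj)
  exact Nat.pow_le_pow_right hp.pos hj2

/-- A non-cyclic `p`-group on which `x ↦ x ^ p` is multiplicative contains `C_p × C_p`. -/
theorem exists_rank_two_of_pow_hom (hQ : IsPGroup p Q) (hnc : ¬ IsCyclic Q)
    (hpow : ∀ x y : Q, (x * y) ^ p = x ^ p * y ^ p) :
    ∃ x u : Q, x * u = u * x ∧ x ^ p = 1 ∧ u ^ p = 1 ∧ x ≠ 1 ∧ u ∉ zpowers x := by
  classical
  have hp := (Fact.out : p.Prime)
  let φ : Q →* Q := ⟨⟨fun x => x ^ p, one_pow p⟩, hpow⟩
  have hrange : φ.range ≤ frattini Q := by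
    rintro _ ⟨x, rfl⟩
    exact pow_mem_frattini hQ x
  have h1 : Nat.card φ.ker * Nat.card φ.range = Nat.card Q := by
    rw [← Subgroup.index_ker, mul_comm]
    exact Subgroup.index_mul_card _
  have h2 : Nat.card (frattini Q) * (frattini Q).index = Nat.card Q := Subgroup.card_mul_index _
  have h3 : Nat.card φ.range ≤ Nat.card (frattini Q) := Subgroup.card_le_of_le hrange
  have h4 := sq_le_index_frattini hQ hnc
  have h5 : p ^ 2 ≤ Nat.card φ.ker := by
    by_contra hlt
    push Not at hlt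
    have hpos : 0 < Nat.card φ.range := Nat.card_pos
    have : Nat.card φ.ker * Nat.card φ.range < Nat.card (frattini Q) * (frattini Q).index := by
      calc Nat.card φ.ker * Nat.card φ.range < p ^ 2 * Nat.card φ.range :=
            Nat.mul_lt_mul_of_pos_right hlt hpos
        _ ≤ (frattini Q).index * Nat.card (frattini Q) := Nat.mul_le_mul h4 h3
        _ = Nat.card (frattini Q) * (frattini Q).index := mul_comm _ _
    omega
  haveI : Nontrivial Q := by
    by_contra hnt
    rw [not_nontrivial_iff_subsingleton] at hnt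
    exact hnc inferInstance
  haveI := hQ.center_nontrivial
  have hdvd : p ∣ Nat.card (center Q) := by
    obtain ⟨k, hk⟩ := (hQ.to_subgroup (center Q)).exists_card_eq
    rw [hk]
    have : k ≠ 0 := by
      rintro rfl
      rw [pow_zero] at hk
      have := (Nat.card_eq_one_iff_unique.mp hk).1
      exact not_subsingleton _ this
    exact dvd_pow_self p this
  obtain ⟨z, hz⟩ := exists_prime_orderOf_dvd_card' p hdvd
  have hz' : orderOf (z : Q) = p := by rw [Subgroup.orderOf_coe]; exact hz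
  have hz1 : (z : Q) ≠ 1 := by
    intro h; rw [h, orderOf_one] at hz'; exact hp.one_lt.ne hz'
  have hzp : (z : Q) ^ p = 1 := by rw [← hz']; exact pow_orderOf_eq_one _
  have hcard : Nat.card (zpowers (z : Q)) = p := by rw [Nat.card_zpowers, hz']
  have hex : ∃ u ∈ φ.ker, u ∉ zpowers (z : Q) := by
    by_contra hcon
    push Not at hcon
    have hle : φ.ker ≤ zpowers (z : Q) := hcon
    have := Subgroup.card_le_of_le hle
    rw [hcard] at this
    have hp2 : p < p ^ 2 := by
      calc p = p ^ 1 := (pow_one p).symm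
        _ < p ^ 2 := Nat.pow_lt_pow_right hp.one_lt (by norm_num)
    omega
  obtain ⟨u, hu, hunot⟩ := hex
  refine ⟨z, u, ?_, hzp, ?_, hz1, hunot⟩
  · exact (Subgroup.mem_center_iff.mp z.2 u).symm
  · exact MonoidHom.mem_ker.mp hu

/-- A non-abelian `p`-group has a central commutator of order `p`. -/
theorem exists_central_commutator (hQ : IsPGroup p Q) (hnc : ∃ a b : Q, a * b ≠ b * a) :
    ∃ a b : Q, a * b * a⁻¹ * b⁻¹ ∈ center Q ∧ a * b * a⁻¹ * b⁻¹ ≠ 1 ∧
      (a * b * a⁻¹ * b⁻¹) ^ p = 1 := by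
  classical
  have hp := (Fact.out : p.Prime)
  haveI : Nontrivial (Q ⧸ center Q) := by
    by_contra hnt
    rw [not_nontrivial_iff_subsingleton] at hnt
    obtain ⟨a, b, hab⟩ := hnc
    apply hab
    have : (a : Q ⧸ center Q) = 1 := Subsingleton.elim _ _
    have ha : a ∈ center Q := (QuotientGroup.eq_one_iff a).mp this
    exact (Subgroup.mem_center_iff.mp ha b).symm
  haveI := (hQ.to_quotient (center Q)).center_nontrivial
  obtain ⟨⟨abar, habar⟩, hne⟩ := exists_ne (1 : center (Q ⧸ center Q))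
  obtain ⟨a, rfl⟩ := QuotientGroup.mk_surjective abar
  have hane : a ∉ center Q := by
    intro h
    apply hne
    apply Subtype.ext
    exact (QuotientGroup.eq_one_iff a).mpr h
  have hcent : ∀ x : Q, a * x * a⁻¹ * x⁻¹ ∈ center Q := by
    intro x
    rw [← QuotientGroup.eq_one_iff]
    have := Subgroup.mem_center_iff.mp habar (x : Q ⧸ center Q)
    have h2 : ((a * x * a⁻¹ * x⁻¹ : Q) : Q ⧸ center Q)
        = (a : Q ⧸ center Q) * (x : Q ⧸ center Q) * (a : Q ⧸ center Q)⁻¹ * (x : Q ⧸ center Q)⁻¹ := rfl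
    rw [h2, ← this]; group
  have hex : ∃ b : Q, a * b ≠ b * a := by
    by_contra hcon
    push Not at hcon
    exact hane (Subgroup.mem_center_iff.mpr fun g => (hcon g).symm)
  obtain ⟨b, hb⟩ := hex
  set c := a * b * a⁻¹ * b⁻¹ with hc
  have hc1 : c ≠ 1 := by
    intro h
    apply hb
    have : a * b = c * b * a := by rw [hc]; group
    rw [this, h, one_mul]
  have hcc : c ∈ center Q := hcent b
  -- order of `c`
  obtain ⟨j, hj⟩ := IsPGroup.exists_orderOf_eq_pow hQ c
  have hj0 : j ≠ 0 := by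
    rintro rfl
    rw [pow_zero, orderOf_eq_one_iff] at hj
    exact hc1 hj
  obtain ⟨i, rfl⟩ := Nat.exists_eq_succ_of_ne_zero hj0
  refine ⟨a ^ (p ^ i), b, ?_, ?_, ?_⟩
  · rw [comm_pow_of_central a b (fun g => (Subgroup.mem_center_iff.mp hcc g)) (p ^ i)]
    exact (center Q).pow_mem hcc _
  · rw [comm_pow_of_central a b (fun g => (Subgroup.mem_center_iff.mp hcc g)) (p ^ i)]
    intro h
    have := orderOf_dvd_of_pow_eq_one h
    rw [← hc, hj] at this
    have h2 := Nat.le_of_dvd (pow_pos hp.pos i) this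
    have h3 : p ^ i < p ^ (i + 1) := Nat.pow_lt_pow_right hp.one_lt (Nat.lt_succ_self i)
    have h4 : p ^ i.succ = p ^ (i + 1) := rfl
    omega
  · rw [comm_pow_of_central a b (fun g => (Subgroup.mem_center_iff.mp hcc g)) (p ^ i)]
    rw [← pow_mul, ← pow_succ, ← hj]
    exact pow_orderOf_eq_one _

end PGroup

end Cfsg.Agent.Lib.Helper7_PGroupRank

namespace Cfsg.Agent.Lib.Helper7_PGroupRank

open Subgroup
open Cfsg.Agent.Lib.Helper7_PFrattini

open scoped commutatorElement

/-- A `p`-group with no subgroup `C_p × C_p` is cyclic, or `p = 2` and some commutator is an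
involution. -/
theorem cyclic_or_quaternion_like {P : Type*} [Group P] [Finite P] {p : ℕ} [Fact p.Prime]
    (hP : IsPGroup p P)
    (hR : ∀ x u : P, x * u = u * x → x ^ p = 1 → u ^ p = 1 → x ≠ 1 → u ∈ zpowers x) :
    IsCyclic P ∨ (p = 2 ∧ ∃ a b : P, a * b * a⁻¹ * b⁻¹ ≠ 1 ∧ (a * b * a⁻¹ * b⁻¹) ^ 2 = 1) := by
  classical
  have hp := (Fact.out : p.Prime)
  by_cases hc : IsCyclic P
  · exact Or.inl hc
  right
  by_cases hab : ∀ a b : P, a * b = b * a
  · exfalso
    obtain ⟨x, u, h1, h2, h3, h4, h5⟩ := exists_rank_two_of_pow_hom hP hc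
      (fun x y => (show Commute x y from hab x y).mul_pow p)
    exact h5 (hR x u h1 h2 h3 h4)
  push Not at hab
  obtain ⟨a, b, hcc, hc1, hcp⟩ := exists_central_commutator hP hab
  by_cases h2 : p = 2
  · refine ⟨h2, a, b, hc1, ?_⟩
    rw [← h2]; exact hcp
  exfalso
  have hodd : Nat.Coprime p 2 := by
    rw [Nat.coprime_primes hp Nat.prime_two]; exact h2
  set Q : Subgroup P := closure ({a, b} : Set P) with hQ
  have haQ : a ∈ Q := subset_closure (by simp)
  have hbQ : b ∈ Q := subset_closure (by simp)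
  let a' : Q := ⟨a, haQ⟩
  let b' : Q := ⟨b, hbQ⟩
  have hgen : closure ({a', b'} : Set Q) = ⊤ := by
    have := Subgroup.closure_closure_coe_preimage (k := ({a, b} : Set P))
    convert this using 2
    ext z
    simp only [Set.mem_insert_iff, Set.mem_singleton_iff, Set.mem_preimage]
    constructor
    · rintro (h | h)
      · left; rw [h]
      · right; rw [h]
    · rintro (h | h)
      · left; exact Subtype.ext h
      · right; exact Subtype.ext h
  set c' : Q := a' * b' * a'⁻¹ * b'⁻¹ with hc'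
  have hc'coe : (c' : P) = a * b * a⁻¹ * b⁻¹ := rfl
  have hc'cent : ∀ g : Q, g * c' = c' * g := by
    intro g
    apply Subtype.ext
    show (g : P) * (c' : P) = (c' : P) * (g : P)
    rw [hc'coe]
    exact Subgroup.mem_center_iff.mp hcc (g : P)
  have hc'p : c' ^ p = 1 := by
    apply Subtype.ext
    show (c' : P) ^ p = 1
    rw [hc'coe]; exact hcp
  haveI hTn : (zpowers c').Normal := by
    refine ⟨fun n hn g => ?_⟩
    obtain ⟨k, rfl⟩ := Subgroup.mem_zpowers_iff.mp hn
    have : g * c' ^ k * g⁻¹ = c' ^ k := by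
      have hcm : Commute g (c' ^ k) := Commute.zpow_right (hc'cent g) k
      rw [hcm.eq]; group
    rw [this]
    exact Subgroup.zpow_mem_zpowers c' k
  have hcomm : commutator Q ≤ zpowers c' := by
    apply Cfsg.Agent.Lib.Helper7_Regular.commutator_le_of_gen (zpowers c') a' b' hgen
    rw [commutatorElement_def]
    exact Subgroup.mem_zpowers c'
  have hpow : ∀ x y : Q, (x * y) ^ p = x ^ p * y ^ p := by
    intro x y
    have hd : ⁅y, x⁆ ∈ zpowers c' :=
      hcomm (Subgroup.commutator_mem_commutator (Subgroup.mem_top y) (Subgroup.mem_top x))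
    obtain ⟨k, hk⟩ := Subgroup.mem_zpowers_iff.mp hd
    rw [commutatorElement_def] at hk
    set d := y * x * y⁻¹ * x⁻¹ with hddef
    have hdcent : ∀ g : Q, d * g = g * d := by
      intro g
      rw [← hk]
      exact ((Commute.zpow_right (hc'cent g) k).eq).symm
    have hdp : d ^ p = 1 := by
      rw [← hk, ← zpow_natCast, ← zpow_mul, mul_comm, zpow_mul, zpow_natCast, hc'p, one_zpow]
    have h1 := mul_pow_of_comm x y d (by rw [hddef]; group) (hdcent x) (hdcent y) p
    rw [h1]
    have hdvd : p ∣ ∑ i ∈ Finset.range p, i := by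
      have := Finset.sum_range_id_mul_two p
      have h3 : p ∣ (∑ i ∈ Finset.range p, i) * 2 := by rw [this]; exact dvd_mul_right p _
      exact hodd.dvd_of_dvd_mul_right h3
    obtain ⟨m, hm⟩ := hdvd
    rw [hm, pow_mul, hdp, one_pow, mul_one]
  have hQnc : ¬ IsCyclic Q := by
    intro hcyc
    apply hc1
    have : a' * b' = b' * a' := by
      obtain ⟨g, hg⟩ := hcyc.exists_generator
      obtain ⟨i, hi⟩ := Subgroup.mem_zpowers_iff.mp (hg a')
      obtain ⟨j, hj⟩ := Subgroup.mem_zpowers_iff.mp (hg b')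
      rw [← hi, ← hj, ← zpow_add, ← zpow_add, add_comm]
    have h2 : a * b = b * a := congrArg (fun z : Q => (z : P)) this
    calc a * b * a⁻¹ * b⁻¹ = b * a * a⁻¹ * b⁻¹ := by rw [h2]
      _ = 1 := by group
  obtain ⟨x, u, h1, h2', h3, h4, h5⟩ := exists_rank_two_of_pow_hom (hP.to_subgroup Q) hQnc hpow
  apply h5
  have := hR (x : P) (u : P) (congrArg (fun z : Q => (z : P)) h1)
    (congrArg (fun z : Q => (z : P)) h2') (congrArg (fun z : Q => (z : P)) h3)
    (fun h => h4 (Subtype.ext h))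
  obtain ⟨k, hk⟩ := Subgroup.mem_zpowers_iff.mp this
  rw [Subgroup.mem_zpowers_iff]
  exact ⟨k, Subtype.ext hk⟩

end Cfsg.Agent.Lib.Helper7_PGroupRank
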