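import Mathlib
import Cfsg.Prelude.Def_Transfer
import Cfsg.Prelude.Def_CaseTheorems
import Cfsg.Agent.Lib.Helper3_Replacement
import Cfsg.Agent.Lib.Helper5_NormalFour
import Cfsg.Agent.Lib.Lead_SZ
import Cfsg.Agent.S0126
import Cfsg.Agent.S0015

/-! `p`-groups of rank at least 3: a normal `E_{p²}` and the centralizers of its elements (helper3). -/

set_option autoImplicit false

namespace Cfsg.Agent.Lib.Helper3_RankThree

open Cfsg Cfsg.Agent.Lib.Helper3_Replacement

variable {P : Type*} [Group P]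

/-- the join of two commuting elementary abelian subgroups is elementary abelian -/
theorem elemAb_sup {p : ℕ} (X Y : Subgroup P)
    (hX : Cfsg.IsElementaryAbelian p X) (hY : Cfsg.IsElementaryAbelian p Y)
    (hXY : Y ≤ Subgroup.centralizer (X : Set P)) : Cfsg.IsElementaryAbelian p (X ⊔ Y) := by
  have hYX : X ≤ Subgroup.centralizer (Y : Set P) := Subgroup.le_centralizer_iff.mp hXY
  constructor
  · rw [← Subgroup.le_centralizer_iff_isMulCommutative, centralizer_sup]
    exact sup_le (le_inf (Subgroup.le_centralizer_iff_isMulCommutative.mpr hX.1) hYX)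
      (le_inf hXY (Subgroup.le_centralizer_iff_isMulCommutative.mpr hY.1))
  · intro g hg
    obtain ⟨x, hx, y, hy, rfl⟩ :=
      Cfsg.Agent.Lib.Helper3_SupNormalizer.exists_mul_of_mem_sup X Y
        (hXY.trans (Subgroup.centralizer_le_normalizer _)) hg
    have hc : Commute x y := (Subgroup.mem_centralizer_iff.mp (hXY hy) x hx)
    rw [hc.mul_pow, hX.2 x hx, hY.2 y hy, one_mul]

theorem elemAb_of_le {p : ℕ} (X Y : Subgroup P) (hX : Cfsg.IsElementaryAbelian p X) (hYX : Y ≤ X) :
    Cfsg.IsElementaryAbelian p Y := by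
  refine ⟨?_, fun a ha => hX.2 a (hYX ha)⟩
  rw [← Subgroup.le_centralizer_iff_isMulCommutative]
  exact hYX.trans ((Subgroup.le_centralizer_iff_isMulCommutative.mpr hX.1).trans
    (Subgroup.centralizer_le (by exact_mod_cast hYX)))

theorem elemAb_le_centralizer {p : ℕ} (X : Subgroup P) (hX : Cfsg.IsElementaryAbelian p X) :
    X ≤ Subgroup.centralizer (X : Set P) :=
  Subgroup.le_centralizer_iff_isMulCommutative.mpr hX.1

/-- an elementary abelian `p`-subgroup is a `p`-group -/
theorem elemAb_isPGroup {p : ℕ} (X : Subgroup P) (hX : Cfsg.IsElementaryAbelian p X) :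
    IsPGroup p ↥X := by
  intro x
  refine ⟨1, ?_⟩
  rw [pow_one]
  apply Subtype.ext
  rw [Subgroup.coe_pow]
  exact hX.2 x x.2

/-- a witness for rank at least 3 inside a subgroup `C` -/
theorem not_prankLE_of_witness {p : ℕ} (C B : Subgroup P) (hBC : B ≤ C)
    (hB : Cfsg.IsElementaryAbelian p B) (hcard : p ^ 2 < Nat.card ↥B) : ¬ Cfsg.PRankLE p 2 ↥C := by
  intro h
  have h1 := h (B.subgroupOf C) (by haveI := hB.1; infer_instance) (by
    intro a ha
    apply Subtype.ext
    rw [Subgroup.coe_pow]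
    exact hB.2 a ha)
  rw [Cfsg.Agent.Lib.Lead_SZ.card_subgroupOf_of_le hBC] at h1
  omega

/-- conversely, rank at least 3 inside `C` gives a witness in `P` -/
theorem exists_witness {p : ℕ} (C : Subgroup P) (h : ¬ Cfsg.PRankLE p 2 ↥C) :
    ∃ B : Subgroup P, B ≤ C ∧ Cfsg.IsElementaryAbelian p B ∧ p ^ 2 < Nat.card ↥B := by
  unfold Cfsg.PRankLE at h
  push Not at h
  obtain ⟨A, hAc, hAp, hcard⟩ := h
  refine ⟨A.map C.subtype, Subgroup.map_subtype_le _, ⟨?_, ?_⟩, ?_⟩
  · infer_instance
  · rintro _ ⟨a, ha, rfl⟩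
    have := hAp a ha
    rw [← map_pow, this, map_one]
  · rw [Subgroup.card_map_of_injective C.subtype_injective]
    exact hcard


variable [Finite P]

/-- in a `p`-group, a nonidentity element of a normal subgroup of order `p²` has a centralizer of
index at most `p` -/
theorem index_centralizer_le {p : ℕ} [Fact p.Prime] (hP : IsPGroup p P) (U : Subgroup P)
    [hU : U.Normal] (hcard : Nat.card ↥U = p ^ 2) (u : P) (hu : u ∈ U) (hu1 : u ≠ 1) :
    (Subgroup.centralizer ({u} : Set P)).index ≤ p := by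
  classical
  obtain ⟨n, hn⟩ := hP.index (Subgroup.centralizer ({u} : Set P))
  let f : P ⧸ Subgroup.centralizer ({u} : Set P) → ↥U :=
    Quotient.lift (fun g : P => (⟨g * u * g⁻¹, hU.conj_mem u hu g⟩ : ↥U)) (by
      intro g h hgh
      have h1 : g⁻¹ * h ∈ Subgroup.centralizer ({u} : Set P) := QuotientGroup.leftRel_apply.mp hgh
      rw [Subgroup.mem_centralizer_singleton_iff] at h1
      apply Subtype.ext
      show g * u * g⁻¹ = h * u * h⁻¹
      calc g * u * g⁻¹ = g * (u * (g⁻¹ * h)) * h⁻¹ := by group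
        _ = g * (g⁻¹ * h * u) * h⁻¹ := by rw [← h1]
        _ = h * u * h⁻¹ := by group)
  have hf : Function.Injective f := by
    intro x y
    induction x using Quotient.inductionOn' with
    | _ g =>
    induction y using Quotient.inductionOn' with
    | _ h =>
    intro hxy
    apply Quotient.sound'
    rw [QuotientGroup.leftRel_apply, Subgroup.mem_centralizer_singleton_iff]
    have h1 : g * u * g⁻¹ = h * u * h⁻¹ := congrArg Subtype.val hxy
    calc g⁻¹ * h * u = g⁻¹ * (h * u * h⁻¹) * h := by group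
      _ = g⁻¹ * (g * u * g⁻¹) * h := by rw [h1]
      _ = u * (g⁻¹ * h) := by group
  have hns : (1 : ↥U) ∉ Set.range f := by
    rintro ⟨x, hx⟩
    induction x using Quotient.inductionOn' with
    | _ g =>
    have h1 : g * u * g⁻¹ = 1 := congrArg Subtype.val hx
    apply hu1
    calc u = g⁻¹ * (g * u * g⁻¹) * g := by group
      _ = 1 := by rw [h1]; group
  have hlt : Nat.card (P ⧸ Subgroup.centralizer ({u} : Set P)) < Nat.card ↥U := by
    haveI := Fintype.ofFinite (P ⧸ Subgroup.centralizer ({u} : Set P))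
    haveI := Fintype.ofFinite ↥U
    rw [Nat.card_eq_fintype_card, Nat.card_eq_fintype_card]
    exact Fintype.card_lt_of_injective_of_notMem f hf hns
  have hidx : (Subgroup.centralizer ({u} : Set P)).index =
      Nat.card (P ⧸ Subgroup.centralizer ({u} : Set P)) := rfl
  rw [← hidx, hn, hcard] at hlt
  have hn2 : n < 2 := (Nat.pow_lt_pow_iff_right (Fact.out : p.Prime).one_lt).mp hlt
  rw [hn]
  calc p ^ n ≤ p ^ 1 := Nat.pow_le_pow_right (Fact.out : p.Prime).pos (by omega)
    _ = p := pow_one p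

/-- a `p`-group of rank at least 3 has a normal elementary abelian subgroup of order `p²` -/
theorem exists_normal_Ep2 (p : ℕ) [Fact p.Prime] (hP : IsPGroup p P)
    (hrk : ¬ Cfsg.PRankLE p 2 P) :
    ∃ U : Subgroup P, U.Normal ∧ Cfsg.IsElementaryAbelian p U ∧ Nat.card ↥U = p ^ 2 := by
  classical
  unfold Cfsg.PRankLE at hrk
  push Not at hrk
  obtain ⟨A, hAc, hAp, hcard⟩ := hrk
  by_cases hp2 : p = 2
  · subst hp2
    have h8 : 8 ≤ Nat.card ↥A := by
      obtain ⟨k, hk⟩ := IsPGroup.iff_card.mp (elemAb_isPGroup A ⟨hAc, hAp⟩)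
      rw [hk] at hcard ⊢
      have h2k : 2 < k := (Nat.pow_lt_pow_iff_right (by norm_num)).mp hcard
      calc 8 = 2 ^ 3 := by norm_num
        _ ≤ 2 ^ k := Nat.pow_le_pow_right (by norm_num) h2k
    obtain ⟨U, hUn, hU4, hU2⟩ := Cfsg.Agent.Lib.Helper5_NormalFour.exists_normal_four hP A h8 hAp
    refine ⟨U, hUn, ⟨?_, ?_⟩, ?_⟩
    · rw [← Subgroup.le_centralizer_iff_isMulCommutative]
      intro v hv
      refine Subgroup.mem_centralizer_iff.mpr ?_
      intro w hw
      exact Cfsg.Agent.Lib.Helper5_NormalFour.comm_of_sq U hU2 w hw v hv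
    · intro u hu
      rw [pow_two]
      exact hU2 u hu
    · rw [hU4]; norm_num
  · have hnc : ¬ IsCyclic P := by
      intro hcyc
      haveI : IsCyclic ↥A := inferInstance
      obtain ⟨g, hg⟩ := IsCyclic.exists_generator (α := ↥A)
      have h1 : orderOf g = Nat.card ↥A := orderOf_eq_card_of_forall_mem_zpowers hg
      have h2 : orderOf g ∣ p := orderOf_dvd_of_pow_eq_one (by
        apply Subtype.ext
        rw [Subgroup.coe_pow]
        exact hAp g g.2)
      have h3 : orderOf g ≤ p := Nat.le_of_dvd (Fact.out : p.Prime).pos h2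
      have h4 : p ≤ p ^ 2 := by nlinarith [(Fact.out : p.Prime).one_lt]
      omega
    exact Cfsg.Agent.S0126.result hp2 hP hnc

/-- generators of a normal `E_{p²}`: a central element and one more -/
theorem exists_gens {p : ℕ} [Fact p.Prime] (hP : IsPGroup p P) (U : Subgroup P) [hU : U.Normal]
    (hUe : Cfsg.IsElementaryAbelian p U) (hcard : Nat.card ↥U = p ^ 2) :
    ∃ z u : P, z ∈ Subgroup.center P ∧ u ∈ U ∧ u ≠ 1 ∧
      U ≤ Subgroup.zpowers z ⊔ Subgroup.zpowers u := by
  classical
  have hp := (Fact.out : p.Prime)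
  haveI hnil : Group.IsNilpotent P := hP.isNilpotent
  have hUne : U ≠ ⊥ := by
    intro h
    rw [h, Subgroup.card_bot] at hcard
    have : 1 < p ^ 2 := Nat.one_lt_pow (by norm_num) hp.one_lt
    omega
  obtain ⟨z, hzU, hzc, hz1⟩ := Cfsg.Agent.S0015.normal_inf_center_ne_bot U hUne
  have hzord : orderOf z = p := orderOf_eq_prime (hUe.2 z hzU) hz1
  have hzcard : Nat.card ↥(Subgroup.zpowers z) = p := by rw [Nat.card_zpowers, hzord]
  have hzle : Subgroup.zpowers z ≤ U := (Subgroup.zpowers_le).mpr hzU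
  have hex : ∃ u ∈ U, u ∉ Subgroup.zpowers z := by
    by_contra hno
    push Not at hno
    have : U ≤ Subgroup.zpowers z := hno
    have := Subgroup.card_le_of_le this
    rw [hcard, hzcard] at this
    nlinarith [hp.one_lt]
  obtain ⟨u, huU, huz⟩ := hex
  refine ⟨z, u, hzc, huU, ?_, ?_⟩
  · rintro rfl
    exact huz (Subgroup.one_mem _)
  · have hK : Subgroup.zpowers z ⊔ Subgroup.zpowers u ≤ U :=
      sup_le hzle ((Subgroup.zpowers_le).mpr huU)
    have hdvd : Nat.card ↥(Subgroup.zpowers z ⊔ Subgroup.zpowers u) ∣ p ^ 2 := by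
      rw [← hcard]; exact Subgroup.card_dvd_of_le hK
    obtain ⟨i, hi, hci⟩ := (Nat.dvd_prime_pow hp).mp hdvd
    have hi2 : i = 2 := by
      by_contra hne
      have hi1 : i ≤ 1 := by omega
      have hle : Nat.card ↥(Subgroup.zpowers z ⊔ Subgroup.zpowers u) ≤
          Nat.card ↥(Subgroup.zpowers z) := by
        rw [hci, hzcard]
        calc p ^ i ≤ p ^ 1 := Nat.pow_le_pow_right hp.pos hi1
          _ = p := pow_one p
      have heq : Subgroup.zpowers z = Subgroup.zpowers z ⊔ Subgroup.zpowers u :=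
        Subgroup.eq_of_le_of_card_ge le_sup_left hle
      apply huz
      rw [heq]
      exact Subgroup.mem_sup_right (Subgroup.mem_zpowers u)
    have heq : Subgroup.zpowers z ⊔ Subgroup.zpowers u = U := by
      apply Subgroup.eq_of_le_of_card_ge hK
      rw [hcard, hci, hi2]
    rw [heq]

/-- a large elementary abelian subgroup has a subgroup of order at least `p²` centralizing `U` -/
theorem exists_A0 {p : ℕ} [Fact p.Prime] (hP : IsPGroup p P) (U : Subgroup P) [hU : U.Normal]
    (hUe : Cfsg.IsElementaryAbelian p U) (hcard : Nat.card ↥U = p ^ 2)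
    (A : Subgroup P) (hA : Cfsg.IsElementaryAbelian p A) (hAcard : p ^ 2 < Nat.card ↥A) :
    ∃ A₀ : Subgroup P, A₀ ≤ A ∧ p ^ 2 ≤ Nat.card ↥A₀ ∧
      A₀ ≤ Subgroup.centralizer (U : Set P) := by
  classical
  have hp := (Fact.out : p.Prime)
  obtain ⟨z, u, hzc, huU, hu1, hUle⟩ := exists_gens hP U hUe hcard
  refine ⟨A ⊓ Subgroup.centralizer ({u} : Set P), inf_le_left, ?_, ?_⟩
  · have hidx := index_centralizer_le hP U hcard u huU hu1
    have h1 : Nat.card ↥(A ⊓ Subgroup.centralizer ({u} : Set P)) *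
        (A ⊓ Subgroup.centralizer ({u} : Set P)).relIndex A = Nat.card ↥A := by
      have := Subgroup.relIndex_mul_relIndex ⊥ (A ⊓ Subgroup.centralizer ({u} : Set P)) A
        bot_le inf_le_left
      rwa [Subgroup.relIndex_bot_left, Subgroup.relIndex_bot_left] at this
    have h2 : (A ⊓ Subgroup.centralizer ({u} : Set P)).relIndex A ≤ p := by
      rw [inf_comm, Subgroup.inf_relIndex_right]
      have h3 : (Subgroup.centralizer ({u} : Set P)).relIndex A ≤
          (Subgroup.centralizer ({u} : Set P)).relIndex ⊤ := by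
        apply Subgroup.relIndex_le_of_le_right le_top
        rw [Subgroup.relIndex_top_right]
        exact Subgroup.index_ne_zero_of_finite
      rw [Subgroup.relIndex_top_right] at h3
      exact h3.trans hidx
    obtain ⟨k, hk⟩ := IsPGroup.iff_card.mp (elemAb_isPGroup A hA)
    have hk3 : 3 ≤ k := by
      rw [hk] at hAcard
      have := (Nat.pow_lt_pow_iff_right hp.one_lt).mp hAcard
      omega
    have h4 : p ^ 3 ≤ Nat.card ↥A := by
      rw [hk]; exact Nat.pow_le_pow_right hp.pos hk3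
    have h5 : p ^ 2 * p ≤ Nat.card ↥(A ⊓ Subgroup.centralizer ({u} : Set P)) * p := by
      calc p ^ 2 * p = p ^ 3 := by ring
        _ ≤ Nat.card ↥A := h4
        _ = _ := h1.symm
        _ ≤ _ := Nat.mul_le_mul_left _ h2
    exact Nat.le_of_mul_le_mul_right h5 hp.pos
  · intro a ha
    have hau : a * u = u * a := Subgroup.mem_centralizer_singleton_iff.mp ha.2
    have hK : Subgroup.zpowers z ⊔ Subgroup.zpowers u ≤ Subgroup.centralizer ({a} : Set P) := by
      apply sup_le
      · rw [Subgroup.zpowers_le, Subgroup.mem_centralizer_singleton_iff]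
        exact (Subgroup.mem_center_iff.mp hzc a).symm
      · rw [Subgroup.zpowers_le, Subgroup.mem_centralizer_singleton_iff]
        exact hau.symm
    refine Subgroup.mem_centralizer_iff.mpr ?_
    intro w hw
    exact Subgroup.mem_centralizer_singleton_iff.mp (hK (hUle hw))


/-- commuting vertices: rank of the centralizer propagates -/
theorem step_rank {p : ℕ} (X Y : Subgroup P) (hX : Cfsg.IsElementaryAbelian p X)
    (hXc : p ^ 2 ≤ Nat.card ↥X) (hY : Cfsg.IsElementaryAbelian p Y) (hYc : p ^ 2 ≤ Nat.card ↥Y)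
    (hcomm : ∀ a ∈ X, ∀ b ∈ Y, a * b = b * a)
    (hQ : ¬ Cfsg.PRankLE p 2 ↥(Subgroup.centralizer (Y : Set P))) :
    ¬ Cfsg.PRankLE p 2 ↥(Subgroup.centralizer (X : Set P)) := by
  have hYX : Y ≤ Subgroup.centralizer (X : Set P) := by
    intro b hb
    refine Subgroup.mem_centralizer_iff.mpr ?_
    intro a ha
    exact hcomm a ha b hb
  have hW := elemAb_sup X Y hX hY hYX
  by_cases hWc : p ^ 2 < Nat.card ↥(X ⊔ Y)
  · refine not_prankLE_of_witness _ (X ⊔ Y) ?_ hW hWc
    exact (elemAb_le_centralizer _ hW).trans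
      (Subgroup.centralizer_le (by exact_mod_cast (le_sup_left : X ≤ X ⊔ Y)))
  · push Not at hWc
    have h1 : X = X ⊔ Y := Subgroup.eq_of_le_of_card_ge le_sup_left (hWc.trans hXc)
    have h2 : Y = X ⊔ Y := Subgroup.eq_of_le_of_card_ge le_sup_right (hWc.trans hYc)
    rw [h1, ← h2]
    exact hQ

/-- the centralizer of the normal `E_{p²}` has rank at least 3 -/
theorem rank_centralizer_U {p : ℕ} [Fact p.Prime] (hP : IsPGroup p P) (U : Subgroup P)
    [hU : U.Normal] (hUe : Cfsg.IsElementaryAbelian p U) (hcard : Nat.card ↥U = p ^ 2)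
    (hrk : ¬ Cfsg.PRankLE p 2 P) :
    ¬ Cfsg.PRankLE p 2 ↥(Subgroup.centralizer (U : Set P)) := by
  have hrk' : ¬ Cfsg.PRankLE p 2 ↥(⊤ : Subgroup P) := by
    intro h
    apply hrk
    intro A hAc hAp
    have h1 := h (A.subgroupOf ⊤) (by infer_instance) (by
      intro a ha
      apply Subtype.ext
      rw [Subgroup.coe_pow]
      exact hAp a ha)
    rwa [Cfsg.Agent.Lib.Lead_SZ.card_subgroupOf_of_le le_top] at h1
  obtain ⟨A, -, hAe, hAcard⟩ := exists_witness _ hrk'
  obtain ⟨A₀, hA₀A, hA₀c, hA₀U⟩ := exists_A0 hP U hUe hcard A hAe hAcard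
  have hA₀e := elemAb_of_le A A₀ hAe hA₀A
  have hUA₀ : U ≤ Subgroup.centralizer (A₀ : Set P) := Subgroup.le_centralizer_iff.mp hA₀U
  have hW := elemAb_sup A₀ U hA₀e hUe hUA₀
  by_cases hWc : p ^ 2 < Nat.card ↥(A₀ ⊔ U)
  · refine not_prankLE_of_witness _ (A₀ ⊔ U) ?_ hW hWc
    exact sup_le hA₀U (elemAb_le_centralizer _ hUe)
  · push Not at hWc
    have h1 : A₀ = A₀ ⊔ U := Subgroup.eq_of_le_of_card_ge le_sup_left (hWc.trans hA₀c)
    have h2 : U = A₀ ⊔ U := Subgroup.eq_of_le_of_card_ge le_sup_right (by rw [hcard]; exact hWc)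
    have hUA : U ≤ A := by rw [h2, ← h1]; exact hA₀A
    refine not_prankLE_of_witness _ A ?_ hAe hAcard
    exact (elemAb_le_centralizer _ hAe).trans (Subgroup.centralizer_le (by exact_mod_cast hUA))

end Cfsg.Agent.Lib.Helper3_RankThree
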