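import Mathlib
import Cfsg.Prelude.Def_PLocal
import Cfsg.Agent.Lib.Helper7_Regular

/-! Level-`n` regularity of `p`-groups and the passage from level `n` to level `n+1`
using Kemhadze's condition. -/

set_option autoImplicit false

namespace Cfsg.Agent.Lib.Helper3_RegN

open Cfsg.Agent.Lib.Helper7_Regular Cfsg.Agent.Lib.Helper7_PFrattini
open scoped commutatorElement

universe u

/-- level-`n` regularity -/
def RegN (p n : ℕ) (G : Type*) [Group G] : Prop :=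
  IsPGroup p G ∧ ∀ a b : G,
    ∃ c ∈ Cfsg.powerClosure p n ⁅Subgroup.closure ({a, b} : Set G),
        Subgroup.closure ({a, b} : Set G)⁆,
      (a * b) ^ (p ^ n) = a ^ (p ^ n) * b ^ (p ^ n) * c

/-- Kemhadze's condition -/
def WR (p : ℕ) (G : Type*) [Group G] : Prop :=
  ∀ a b : G, ∃ c ∈ ⁅Subgroup.closure ({a, b} : Set G), Subgroup.closure ({a, b} : Set G)⁆,
    (a * b) ^ p = a ^ p * b ^ p * c ^ p

theorem regN_subgroup {G : Type*} [Group G] {p n : ℕ} (hG : RegN p n G) (H : Subgroup G) :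
    RegN p n H := by
  refine ⟨hG.1.to_subgroup H, fun a b => ?_⟩
  obtain ⟨c, hc, heq⟩ := hG.2 (a : G) (b : G)
  have e1 : (Subgroup.closure ({a, b} : Set H)).map H.subtype
      = Subgroup.closure ({(a : G), (b : G)} : Set G) := by
    rw [MonoidHom.map_closure, Set.image_pair]
    rfl
  have e2 : (Cfsg.powerClosure p n ⁅Subgroup.closure ({a, b} : Set H),
      Subgroup.closure ({a, b} : Set H)⁆).map H.subtype
      = Cfsg.powerClosure p n ⁅Subgroup.closure ({(a : G), (b : G)} : Set G),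
        Subgroup.closure ({(a : G), (b : G)} : Set G)⁆ := by
    rw [map_powerClosure, Subgroup.map_commutator, e1]
  rw [← e2] at hc
  obtain ⟨c', hc', rfl⟩ := hc
  refine ⟨c', hc', ?_⟩
  apply Subtype.ext
  simpa using heq

theorem commutator_le_frattini {P : Type*} [Group P] [Finite P] {p : ℕ} [Fact p.Prime]
    (hP : IsPGroup p P) : commutator P ≤ frattini P := by
  rw [commutator_def, Subgroup.commutator_le]
  intro a _ b _
  rw [commutatorElement_def]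
  exact comm_mem_frattini hP a b

theorem mem_powerClosure_of_mul {G : Type*} [Group G] {p : ℕ} (n : ℕ) (K : Subgroup G)
    (hmul : ∀ a ∈ K, ∀ b ∈ K, ∃ c ∈ K, a ^ p ^ n * b ^ p ^ n = c ^ p ^ n)
    (y : G) (hy : y ∈ Cfsg.powerClosure p n K) : ∃ x ∈ K, y = x ^ p ^ n := by
  unfold Cfsg.powerClosure at hy
  induction hy using Subgroup.closure_induction with
  | mem y hy => exact hy
  | one => exact ⟨1, one_mem _, (one_pow _).symm⟩
  | mul y₁ y₂ _ _ h₁ h₂ =>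
    obtain ⟨x₁, hx₁, rfl⟩ := h₁
    obtain ⟨x₂, hx₂, rfl⟩ := h₂
    obtain ⟨c, hc, hc'⟩ := hmul x₁ hx₁ x₂ hx₂
    exact ⟨c, hc, hc'⟩
  | inv y _ h =>
    obtain ⟨x, hx, rfl⟩ := h
    exact ⟨x⁻¹, inv_mem hx, (inv_pow x _).symm⟩

theorem pow_mul_pow_aux (p : ℕ) [Fact p.Prime] (k : ℕ) :
    ∀ (n : ℕ) (G : Type u) [Group G] [Finite G],
    Nat.card G = n → RegN p k G →
    ∀ a b : G, ∃ c : G, a ^ p ^ k * b ^ p ^ k = c ^ p ^ k := by
  intro n
  induction n using Nat.strong_induction_on with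
  | _ n ih =>
  intro G _ _ hcard hG a b
  have sub : ∀ K : Subgroup G, K ≠ ⊤ → ∀ x ∈ K, ∀ y ∈ K,
      ∃ c ∈ K, x ^ p ^ k * y ^ p ^ k = c ^ p ^ k := by
    intro K hK x hx y hy
    have hlt : Nat.card K < n := by
      rw [← hcard]
      exact lt_of_le_of_ne (Subgroup.card_le_card_group K)
        (fun h => hK ((Subgroup.card_eq_iff_eq_top K).mp h))
    obtain ⟨c, hc⟩ := ih (Nat.card K) hlt K rfl (regN_subgroup hG K) ⟨x, hx⟩ ⟨y, hy⟩
    refine ⟨c, c.2, ?_⟩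
    have := congrArg (Subtype.val) hc
    simpa using this
  by_cases hcomm : ∀ x y : G, x * y = y * x
  · exact ⟨a * b, ((show Commute a b from hcomm a b).mul_pow _).symm⟩
  by_cases hK : Subgroup.closure ({a, b} : Set G) = ⊤
  · obtain ⟨c₀, hc₀, heq⟩ := hG.2 a b
    rw [hK, ← commutator_def] at hc₀
    have hDtop : commutator G ≠ ⊤ := by
      haveI := hG.1.isNilpotent
      haveI : Nontrivial G := by
        by_contra hnt
        rw [not_nontrivial_iff_subsingleton] at hnt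
        exact hcomm (fun x y => Subsingleton.elim _ _)
      exact (Group.IsSolvable.commutator_lt_top_of_nontrivial G).ne
    obtain ⟨d, hd, rfl⟩ := mem_powerClosure_of_mul k (commutator G)
      (sub (commutator G) hDtop) c₀ hc₀
    have h1 : a ^ p ^ k * b ^ p ^ k = (a * b) ^ p ^ k * (d⁻¹) ^ p ^ k := by
      rw [heq, inv_pow, mul_assoc, mul_inv_cancel, mul_one]
    by_cases hM : Subgroup.closure ({a * b, d⁻¹} : Set G) = ⊤
    · exfalso
      have h2 : Subgroup.zpowers (a * b) ⊔ frattini G = ⊤ := by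
        rw [eq_top_iff, ← hM, Subgroup.closure_le]
        intro x hx
        rcases hx with rfl | rfl
        · exact (le_sup_left : Subgroup.zpowers (a * b) ≤ _) (Subgroup.mem_zpowers _)
        · exact (le_sup_right : frattini G ≤ _)
            (commutator_le_frattini hG.1 (inv_mem hd))
      have h3 : Subgroup.zpowers (a * b) = ⊤ := frattini_nongenerating h2
      apply hcomm
      intro x y
      have hx : x ∈ Subgroup.zpowers (a * b) := h3 ▸ Subgroup.mem_top x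
      have hy : y ∈ Subgroup.zpowers (a * b) := h3 ▸ Subgroup.mem_top y
      obtain ⟨i, rfl⟩ := Subgroup.mem_zpowers_iff.mp hx
      obtain ⟨j, rfl⟩ := Subgroup.mem_zpowers_iff.mp hy
      exact (Commute.zpow_zpow (Commute.refl _) i j).eq
    · obtain ⟨c, -, hc⟩ := sub _ hM (a * b) (Subgroup.subset_closure (by simp))
        d⁻¹ (Subgroup.subset_closure (by simp))
      exact ⟨c, h1.trans hc⟩
  · obtain ⟨c, -, hc⟩ := sub _ hK a (Subgroup.subset_closure (by simp))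
      b (Subgroup.subset_closure (by simp))
    exact ⟨c, hc⟩

theorem pow_mul_pow {G : Type u} [Group G] [Finite G] {p : ℕ} [Fact p.Prime] {k : ℕ}
    (hG : RegN p k G) (a b : G) :
    ∃ c : G, a ^ p ^ k * b ^ p ^ k = c ^ p ^ k :=
  pow_mul_pow_aux p k _ G rfl hG a b

theorem powerClosure_mono {G : Type*} [Group G] (p n : ℕ) {K K' : Subgroup G} (h : K ≤ K') :
    Cfsg.powerClosure p n K ≤ Cfsg.powerClosure p n K' := by
  unfold Cfsg.powerClosure
  apply Subgroup.closure_mono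
  rintro y ⟨x, hx, rfl⟩
  exact ⟨x, h hx, rfl⟩

theorem pow_mem_powerClosure {G : Type*} [Group G] (p n : ℕ) {K : Subgroup G} {x : G}
    (hx : x ∈ K) : x ^ p ^ n ∈ Cfsg.powerClosure p n K :=
  Subgroup.subset_closure ⟨x, hx, rfl⟩

section main
variable {G : Type u} [Group G] [Finite G] {p : ℕ} [Fact p.Prime] {n : ℕ}

theorem part1 (hG : RegN p n G) (K : Subgroup G) (y : G) (hy : y ∈ Cfsg.powerClosure p n K) :
    ∃ x ∈ K, y = x ^ p ^ n := by
  refine mem_powerClosure_of_mul n K ?_ y hy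
  intro a ha b hb
  obtain ⟨c, hc⟩ := pow_mul_pow (regN_subgroup hG K) ⟨a, ha⟩ ⟨b, hb⟩
  refine ⟨c, c.2, ?_⟩
  have := congrArg Subtype.val hc
  simpa using this

theorem comm_powerClosure_le (hG : RegN p n G) (H : Subgroup G) :
    ⁅Cfsg.powerClosure p n H, Cfsg.powerClosure p n H⁆ ≤ Cfsg.powerClosure p n ⁅H, H⁆ := by
  have hDH : ⁅H, H⁆ ≤ H := Subgroup.commutator_le.mpr (fun a ha b hb =>
    H.mul_mem (H.mul_mem (H.mul_mem ha hb) (H.inv_mem ha)) (H.inv_mem hb))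
  have key : ∀ a ∈ H, ∀ b ∈ H,
      (a ^ p ^ n)⁻¹ * (b⁻¹ * a ^ p ^ n * b) ∈ Cfsg.powerClosure p n ⁅H, H⁆ := by
    intro a ha b hb
    have hd : ⁅a⁻¹, b⁻¹⁆ ∈ ⁅H, H⁆ :=
      Subgroup.commutator_mem_commutator (H.inv_mem ha) (H.inv_mem hb)
    have hd' : ⁅a⁻¹, b⁻¹⁆ = a⁻¹ * (b⁻¹ * a * b) := by
      rw [commutatorElement_def]; group
    obtain ⟨c, hc, heq⟩ := hG.2 a ⁅a⁻¹, b⁻¹⁆
    have hcT : c ∈ Cfsg.powerClosure p n ⁅H, H⁆ := by
      refine powerClosure_mono p n (Subgroup.commutator_mono ?_ ?_) hc <;>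
      · rw [Subgroup.closure_le]
        intro x hx
        rcases hx with rfl | rfl
        · exact ha
        · exact hDH hd
    have h1 : b⁻¹ * a ^ p ^ n * b = (a * ⁅a⁻¹, b⁻¹⁆) ^ p ^ n := by
      have h2 : a * ⁅a⁻¹, b⁻¹⁆ = b⁻¹ * a * b⁻¹⁻¹ := by rw [hd']; group
      rw [h2, conj_pow, inv_inv]
    rw [h1, heq]
    have h3 : (a ^ p ^ n)⁻¹ * (a ^ p ^ n * ⁅a⁻¹, b⁻¹⁆ ^ p ^ n * c) = ⁅a⁻¹, b⁻¹⁆ ^ p ^ n * c := by
      group
    rw [h3]
    exact Subgroup.mul_mem _ (pow_mem_powerClosure p n hd) hcT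
  rw [Subgroup.commutator_le]
  intro g₁ hg₁ g₂ hg₂
  obtain ⟨a, ha, rfl⟩ := part1 hG H g₁ hg₁
  obtain ⟨b, hb, rfl⟩ := part1 hG H g₂ hg₂
  have h := key a⁻¹ (H.inv_mem ha) (b ^ p ^ n)⁻¹ (H.inv_mem (H.pow_mem hb _))
  have e : ((a⁻¹) ^ p ^ n)⁻¹ * (((b ^ p ^ n)⁻¹)⁻¹ * (a⁻¹) ^ p ^ n * (b ^ p ^ n)⁻¹)
      = ⁅a ^ p ^ n, b ^ p ^ n⁆ := by
    rw [commutatorElement_def, inv_pow]; group
  rw [e] at h
  exact h

theorem regN_succ (hW : WR p G) (hG : RegN p n G) : RegN p (n + 1) G := by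
  refine ⟨hG.1, fun a b => ?_⟩
  set K := Subgroup.closure ({a, b} : Set G) with hK
  have haK : a ∈ K := Subgroup.subset_closure (by simp)
  have hbK : b ∈ K := Subgroup.subset_closure (by simp)
  have hDK : ⁅K, K⁆ ≤ K := Subgroup.commutator_le.mpr (fun a ha b hb =>
    K.mul_mem (K.mul_mem (K.mul_mem ha hb) (K.inv_mem ha)) (K.inv_mem hb))
  obtain ⟨c, hc, heq⟩ := hG.2 a b
  obtain ⟨d, hd, rfl⟩ := part1 hG ⁅K, K⁆ c hc
  obtain ⟨e₂, he₂, h2⟩ := hW (b ^ p ^ n) (d ^ p ^ n)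
  obtain ⟨e₁, he₁, h1⟩ := hW (a ^ p ^ n) (b ^ p ^ n * d ^ p ^ n)
  have hx : a ^ p ^ n ∈ Cfsg.powerClosure p n K := pow_mem_powerClosure p n haK
  have hy : b ^ p ^ n ∈ Cfsg.powerClosure p n K := pow_mem_powerClosure p n hbK
  have hz : d ^ p ^ n ∈ Cfsg.powerClosure p n K := pow_mem_powerClosure p n (hDK hd)
  have hle : ∀ u v : G, u ∈ Cfsg.powerClosure p n K → v ∈ Cfsg.powerClosure p n K →
      ∀ e ∈ ⁅Subgroup.closure ({u, v} : Set G), Subgroup.closure ({u, v} : Set G)⁆,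
      ∃ f ∈ ⁅K, K⁆, e = f ^ p ^ n := by
    intro u v hu hv e he
    have h3 : Subgroup.closure ({u, v} : Set G) ≤ Cfsg.powerClosure p n K := by
      rw [Subgroup.closure_le]
      intro x hx
      rcases hx with rfl | rfl
      · exact hu
      · exact hv
    exact part1 hG ⁅K, K⁆ e
      (comm_powerClosure_le hG K (Subgroup.commutator_mono h3 h3 he))
  obtain ⟨f₂, hf₂, rfl⟩ := hle _ _ hy hz e₂ he₂
  obtain ⟨f₁, hf₁, rfl⟩ := hle _ _ hx (Subgroup.mul_mem _ hy hz) e₁ he₁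
  have hpow : ∀ g : G, (g ^ p ^ n) ^ p = g ^ p ^ (n + 1) := fun g => by
    rw [← pow_mul, ← pow_succ]
  refine ⟨d ^ p ^ (n + 1) * f₂ ^ p ^ (n + 1) * f₁ ^ p ^ (n + 1), ?_, ?_⟩
  · exact Subgroup.mul_mem _ (Subgroup.mul_mem _ (pow_mem_powerClosure p (n + 1) hd)
      (pow_mem_powerClosure p (n + 1) hf₂)) (pow_mem_powerClosure p (n + 1) hf₁)
  · rw [← hpow (a * b), heq, mul_assoc (a ^ p ^ n), h1, h2, hpow, hpow, hpow, hpow, hpow]
    simp only [mul_assoc]

theorem regN_of_WR (hP : IsPGroup p G) (hW : WR p G) : ∀ n, RegN p n G := by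
  intro n
  induction n with
  | zero =>
    refine ⟨hP, fun a b => ⟨1, one_mem _, ?_⟩⟩
    simp
  | succ n ih => exact regN_succ hW ih

end main

end Cfsg.Agent.Lib.Helper3_RegN
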