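import Mathlib
import Cfsg.Prelude.Def_PLocal
import Cfsg.Prelude.Def_Transfer
import Cfsg.Agent.Lib.Helper3_Replacement
import Cfsg.Agent.Lib.Helper7_NPC
import Cfsg.Agent.Lib.Helper4_PIrred

/-! Nilpotent action of a group acting as a `p`-group on an elementary abelian `p`-group: if
`V = [V, A] C_V(A)` then `[V, A] = 1` (helper3). -/

set_option autoImplicit false

namespace Cfsg.Agent.Lib.Helper3_Replacement2

open Cfsg Cfsg.Agent.Lib.Helper3_Replacement
open scoped commutatorElement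

variable {G : Type*} [Group G]

/-- the chain `V ≥ [V, A] ≥ [V, A, A] ≥ …` -/
def chain (V A : Subgroup G) : ℕ → Subgroup G
  | 0 => V
  | k + 1 => ⁅chain V A k, A⁆

theorem chain_le (V A : Subgroup G) (hAV : A ≤ Subgroup.normalizer (V : Set G)) :
    ∀ k, chain V A k ≤ V
  | 0 => le_rfl
  | k + 1 => by
    show ⁅chain V A k, A⁆ ≤ V
    rw [Subgroup.commutator_le]
    intro x hx a ha
    exact comm_mem V A hAV ha (chain_le V A hAV k hx)

/-- `[w y, a] = [w, a]` when `y` commutes with `a` -/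
theorem comm_mul_left_of_commute (w y a : G) (h : a * y = y * a) : ⁅w * y, a⁆ = ⁅w, a⁆ := by
  have e : y * a * y⁻¹ = a := by rw [← h]; group
  calc ⁅w * y, a⁆ = w * (y * a * y⁻¹) * w⁻¹ * a⁻¹ := by rw [commutatorElement_def]; group
    _ = ⁅w, a⁆ := by rw [e, commutatorElement_def]

/-- `[x, s c] = [x, s]` when `c` commutes with `x⁻¹` -/
theorem comm_mul_right_of_commute (x s c : G) (h : x⁻¹ * c = c * x⁻¹) : ⁅x, s * c⁆ = ⁅x, s⁆ := by
  have e : c * x⁻¹ * c⁻¹ = x⁻¹ := by rw [← h]; group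
  calc ⁅x, s * c⁆ = x * s * (c * x⁻¹ * c⁻¹) * s⁻¹ := by rw [commutatorElement_def]; group
    _ = ⁅x, s⁆ := by rw [e, commutatorElement_def]

theorem nilpotent_action [Finite G] (p : ℕ) [Fact p.Prime] (V A : Subgroup G)
    (hVc : IsMulCommutative ↥V) (hVp : ∀ v ∈ V, v ^ p = 1)
    (hAV : A ≤ Subgroup.normalizer (V : Set G))
    (hpow : ∀ a ∈ A, a ^ p ∈ Subgroup.centralizer (V : Set G))
    (h : V ≤ ⁅V, A⁆ ⊔ cv V A) : ⁅V, A⁆ = ⊥ := by
  classical
  -- `C_A(V)` is normal in `A`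
  have hAC : A ≤ Subgroup.normalizer (Subgroup.centralizer (V : Set G) : Set G) := by
    apply Cfsg.Agent.Lib.Helper4_PIrred.le_normalizer_of_conj_mem'
    intro g hg c hc
    refine Subgroup.mem_centralizer_iff.mpr ?_
    intro v hv
    have hv' : g⁻¹ * v * g⁻¹⁻¹ ∈ V := conj_mem V A hAV (A.inv_mem hg) hv
    have h1 := Subgroup.mem_centralizer_iff.mp hc _ hv'
    calc v * (g * c * g⁻¹) = g * ((g⁻¹ * v * g⁻¹⁻¹) * c) * g⁻¹ := by group
      _ = g * (c * (g⁻¹ * v * g⁻¹⁻¹)) * g⁻¹ := by rw [h1]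
      _ = g * c * g⁻¹ * v := by group
  haveI hCn : ((Subgroup.centralizer (V : Set G)).subgroupOf A).Normal :=
    Subgroup.normal_subgroupOf_of_le_normalizer hAC
  obtain ⟨P₀⟩ : Nonempty (Sylow p ↥A) := inferInstance
  have htop := Cfsg.Agent.Lib.Helper7_NPC.sylow_sup_eq_top (p := p)
    ((Subgroup.centralizer (V : Set G)).subgroupOf A) (by
      intro a
      refine ⟨1, ?_⟩
      rw [pow_one, Subgroup.mem_subgroupOf]
      exact hpow a a.2) P₀
  set P : Subgroup G := (P₀ : Subgroup ↥A).map A.subtype with hPdef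
  have hPp : IsPGroup p ↥P := P₀.isPGroup'.map _
  have hPA : P ≤ A := Subgroup.map_subtype_le _
  have hdecomp : ∀ a ∈ A, ∃ s ∈ P, ∃ c ∈ Subgroup.centralizer (V : Set G), a = s * c := by
    intro a ha
    have hmem : (⟨a, ha⟩ : ↥A) ∈ (P₀ : Subgroup ↥A) ⊔
        (Subgroup.centralizer (V : Set G)).subgroupOf A := by rw [htop]; exact Subgroup.mem_top _
    obtain ⟨y, hy, z, hz, hyz⟩ := Subgroup.mem_sup_of_normal_right.mp hmem
    refine ⟨y, Subgroup.mem_map.mpr ⟨y, hy, rfl⟩, z, Subgroup.mem_subgroupOf.mp hz, ?_⟩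
    have := congrArg Subtype.val hyz
    simpa using this.symm
  -- `[X, A] ≤ [X, P]` for `X ≤ V`
  have hXP : ∀ X : Subgroup G, X ≤ V → ⁅X, A⁆ ≤ ⁅X, P⁆ := by
    intro X hX
    rw [Subgroup.commutator_le]
    intro x hx a ha
    obtain ⟨s, hs, c, hc, rfl⟩ := hdecomp a ha
    have h1 := Subgroup.mem_centralizer_iff.mp hc x⁻¹ (V.inv_mem (hX hx))
    rw [comm_mul_right_of_commute x s c h1]
    exact Subgroup.commutator_mem_commutator hx hs
  -- the nilpotent group `P V`
  have hVpg : IsPGroup p ↥V := by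
    intro v
    refine ⟨1, ?_⟩
    rw [pow_one]
    apply Subtype.ext
    rw [Subgroup.coe_pow]
    exact hVp v v.2
  have hH : IsPGroup p ↥(P ⊔ V) :=
    IsPGroup.to_sup_of_normal_right' hPp hVpg (hPA.trans hAV)
  have hnil : Group.IsNilpotent ↥(P ⊔ V) := hH.isNilpotent
  obtain ⟨n, hn⟩ := (Subgroup.isNilpotent_iff_lowerCentralSeries (P ⊔ V)).mp hnil
  have hchain : ∀ k, chain V A k ≤ (P ⊔ V).lowerCentralSeries k := by
    intro k
    induction k with
    | zero => exact le_sup_right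
    | succ k ih =>
      show ⁅chain V A k, A⁆ ≤ ⁅(P ⊔ V).lowerCentralSeries k, P ⊔ V⁆
      exact (hXP _ (chain_le V A hAV k)).trans (Subgroup.commutator_mono ih le_sup_left)
  -- `[V, A] ≤ [V, A, A]`
  have hcn : cv V A ≤ Subgroup.normalizer ((⁅V, A⁆ : Subgroup G) : Set G) := by
    apply Cfsg.Agent.Lib.Helper4_PIrred.le_normalizer_of_conj_mem'
    intro g hg w hw
    have hwV : w ∈ V := chain_le V A hAV 1 hw
    have e : g * w * g⁻¹ = w := by
      rw [setLike_mul_comm hg.1 hwV]; group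
    rw [e]; exact hw
  have hbase : chain V A 1 ≤ chain V A 2 := by
    show ⁅V, A⁆ ≤ ⁅⁅V, A⁆, A⁆
    refine (Subgroup.commutator_mono h le_rfl).trans ?_
    rw [Subgroup.commutator_le]
    intro x hx a ha
    obtain ⟨w, hw, y, hy, rfl⟩ :=
      Cfsg.Agent.Lib.Helper3_SupNormalizer.exists_mul_of_mem_sup _ _ hcn hx
    have hya : a * y = y * a := Subgroup.mem_centralizer_iff.mp hy.2 a ha
    rw [comm_mul_left_of_commute w y a hya]
    exact Subgroup.commutator_mem_commutator hw ha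
  have hmono : ∀ k, chain V A (k + 1) ≤ chain V A (k + 2) := by
    intro k
    induction k with
    | zero => exact hbase
    | succ k ih => exact Subgroup.commutator_mono ih le_rfl
  have hall : ∀ k, chain V A 1 ≤ chain V A (k + 1) := by
    intro k
    induction k with
    | zero => exact le_rfl
    | succ k ih => exact ih.trans (hmono k)
  rw [eq_bot_iff]
  calc ⁅V, A⁆ = chain V A 1 := rfl
    _ ≤ chain V A (n + 1) := hall n
    _ ≤ (P ⊔ V).lowerCentralSeries (n + 1) := hchain (n + 1)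
    _ ≤ (P ⊔ V).lowerCentralSeries n := Subgroup.lowerCentralSeries_antitone _ (Nat.le_succ n)
    _ = ⊥ := hn

end Cfsg.Agent.Lib.Helper3_Replacement2
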