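import Mathlib

namespace Cfsg.Agent.Lib.Helper4_SL2Card
open Matrix

variable {F : Type*} [Field F]

theorem det_surjective :
    Function.Surjective (Matrix.GeneralLinearGroup.det : GL (Fin 2) F →* Fˣ) := by
  intro u
  refine ⟨Matrix.GeneralLinearGroup.mkOfDetNeZero !![(u : F), 0; 0, 1] (by simp [det_fin_two]), ?_⟩
  apply Units.ext
  simp [Matrix.GeneralLinearGroup.mkOfDetNeZero, det_fin_two]

/-- SL₂ is the kernel of det -/
noncomputable def slEquivKer :
    Matrix.SpecialLinearGroup (Fin 2) F ≃ (Matrix.GeneralLinearGroup.det : GL (Fin 2) F →* Fˣ).ker where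
  toFun A := ⟨Matrix.SpecialLinearGroup.toGL A, by
    rw [MonoidHom.mem_ker]
    apply Units.ext
    simp [Matrix.SpecialLinearGroup.toGL]⟩
  invFun g := ⟨g.1.val, by
    have := g.2
    rw [MonoidHom.mem_ker] at this
    have h2 := congrArg Units.val this
    simpa using h2⟩
  left_inv A := by
    apply Subtype.ext
    rfl
  right_inv g := by
    apply Subtype.ext
    apply Units.ext
    rfl

theorem card_SL2_mul [Fintype F] :
    Nat.card (Matrix.SpecialLinearGroup (Fin 2) F) * (Fintype.card F - 1) =
      Nat.card (GL (Fin 2) F) := by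
  classical
  have h1 := Subgroup.card_eq_card_quotient_mul_card_subgroup
    (Matrix.GeneralLinearGroup.det : GL (Fin 2) F →* Fˣ).ker
  have h2 : Nat.card (GL (Fin 2) F ⧸ (Matrix.GeneralLinearGroup.det : GL (Fin 2) F →* Fˣ).ker)
      = Fintype.card F - 1 := by
    rw [Nat.card_congr (QuotientGroup.quotientKerEquivOfSurjective _ det_surjective).toEquiv,
      Nat.card_eq_fintype_card, Fintype.card_units]
  rw [h1, h2, ← Nat.card_congr slEquivKer, mul_comm]

theorem card_SL2 [Fintype F] :
    Nat.card (Matrix.SpecialLinearGroup (Fin 2) F) =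
      Fintype.card F * (Fintype.card F ^ 2 - 1) := by
  have h := card_SL2_mul (F := F)
  rw [Matrix.card_GL_field, Fin.prod_univ_two] at h
  simp only [Fin.val_zero, Fin.val_one, pow_zero, pow_one] at h
  have hq : 2 ≤ Fintype.card F := Fintype.one_lt_card
  set q := Fintype.card F with hqdef
  have h3 : q ^ 2 - q = q * (q - 1) := by
    rw [Nat.mul_sub, mul_one, pow_two]
  rw [h3] at h
  have h4 : 0 < q - 1 := by omega
  apply Nat.eq_of_mul_eq_mul_right h4
  rw [h]; ring

end Cfsg.Agent.Lib.Helper4_SL2Card
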