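import Mathlib
import Cfsg.Prelude.Def_EvenType
import Cfsg.Agent.Lib.Helper5_Sylow
import Cfsg.Agent.Lib.Helper5_CharP

set_option autoImplicit false

/-!
Strongly `p`-embedded subgroups (helper5).
-/

namespace Cfsg.Agent.Lib.Helper5_SE

open Cfsg Cfsg.Agent.Lib.Helper5_Sylow Cfsg.Agent.Lib.Helper5_CharP

variable {G : Type*} [Group G]

/-- a nontrivial finite `p`-subgroup does not have `p`-rank `≤ 0` -/
theorem not_pRankLE_zero [Finite G] {p : ℕ} [hp : Fact p.Prime] {Q : Subgroup G}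
    (hQ : IsPGroup p Q) (hne : Q ≠ ⊥) : ¬ Cfsg.PRankLE p 0 ↥Q := by
  intro h
  have hnt : Nontrivial Q := (Subgroup.nontrivial_iff_ne_bot Q).2 hne
  obtain ⟨n, hn⟩ := IsPGroup.iff_card.1 hQ
  have hn0 : n ≠ 0 := by
    rintro rfl
    rw [pow_zero] at hn
    have := (Nat.card_eq_one_iff_unique.1 hn).1
    exact not_subsingleton Q this
  have hdvd : p ∣ Nat.card Q := by rw [hn]; exact dvd_pow_self p hn0
  obtain ⟨x, hx⟩ := exists_prime_orderOf_dvd_card' p hdvd
  have h1 := h (Subgroup.zpowers x) inferInstance (by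
    intro a ha
    obtain ⟨k, rfl⟩ := Subgroup.mem_zpowers_iff.1 ha
    rw [← zpow_natCast, ← zpow_mul, mul_comm, zpow_mul, zpow_natCast, ← hx, pow_orderOf_eq_one,
      one_zpow])
  rw [Nat.card_zpowers, hx, pow_zero] at h1
  exact absurd h1 (by have := hp.out.two_le; omega)

theorem ne_bot_of_not_pRankLE_zero {p : ℕ} {Q : Subgroup G}
    (h : ¬ Cfsg.PRankLE p 0 ↥Q) : Q ≠ ⊥ := by
  rintro rfl
  apply h
  intro A _ _
  have : Subsingleton (⊥ : Subgroup G) := inferInstance
  have : Subsingleton A := inferInstance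
  simp

/-- the data of a strongly `p`-embedded subgroup -/
theorem exists_sylow [Finite G] {p : ℕ} [Fact p.Prime] {Y : Subgroup G}
    (hY : Cfsg.IsStronglyPEmbedded p Y) :
    ∃ P : Sylow p G, (P : Subgroup G) ≠ ⊥ ∧ (P : Subgroup G) ≤ Y ∧
      ∀ Q : Subgroup G, Q ≤ (P : Subgroup G) → Q ≠ ⊥ →
        Subgroup.normalizer (Q : Set G) ≤ Y := by
  obtain ⟨hdvd, _, P, hP⟩ := hY
  have hPne : (P : Subgroup G) ≠ ⊥ := P.ne_bot_of_dvd_card hdvd
  have key : ∀ Q : Subgroup G, Q ≤ (P : Subgroup G) → Q ≠ ⊥ →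
      Subgroup.normalizer (Q : Set G) ≤ Y := by
    intro Q hQP hQ
    refine le_trans ?_ hP
    unfold Cfsg.kGeneratedCore
    exact le_iSup (fun Q : {Q : Subgroup G // Q ≤ (P : Subgroup G) ∧ ¬ PRankLE p (1 - 1) Q} =>
      Subgroup.normalizer ((Q : Subgroup G) : Set G))
      ⟨Q, hQP, by simpa using not_pRankLE_zero (P.isPGroup'.to_le hQP) hQ⟩
  exact ⟨P, hPne, Subgroup.le_normalizer.trans (key P le_rfl hPne), key⟩

/-- a `p`-subgroup of `Y ⊇ P` is `Y`-conjugate into the Sylow subgroup `P` -/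
theorem exists_conj_le_of_le [Finite G] {p : ℕ} [Fact p.Prime] {Y : Subgroup G} (P : Sylow p G)
    (hPY : (P : Subgroup G) ≤ Y) {Q : Subgroup G} (hQY : Q ≤ Y) (hQ : IsPGroup p Q) :
    ∃ y ∈ Y, Q.map (MulAut.conj y).toMonoidHom ≤ (P : Subgroup G) := by
  obtain ⟨k, hk, R, hRp, _, hPR, hQR⟩ := exists_conj_le_common_pgroup hPY hQY P.isPGroup' hQ
  have : R = P := P.is_maximal' hRp hPR
  exact ⟨k, hk, this ▸ hQR⟩

theorem conj_ne_bot {Q : Subgroup G} (hQ : Q ≠ ⊥) (c : G) :
    Q.map (MulAut.conj c).toMonoidHom ≠ ⊥ := by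
  intro h
  apply hQ
  rw [Subgroup.map_eq_bot_iff_of_injective _ (MulAut.conj c).injective] at h
  exact h

/-- `Y ⊇ P` controls fusion of nontrivial subgroups of `P` when it contains their normalizers -/
theorem mem_of_conj_le_sylow [Finite G] {p : ℕ} [Fact p.Prime] {Y : Subgroup G} (P : Sylow p G)
    (hPY : (P : Subgroup G) ≤ Y)
    (hN : ∀ Q : Subgroup G, Q ≤ (P : Subgroup G) → Q ≠ ⊥ → Subgroup.normalizer (Q : Set G) ≤ Y) :
    ∀ (n : ℕ) (Q : Subgroup G), Nat.card (P : Subgroup G) - Nat.card Q = n →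
      Q ≤ (P : Subgroup G) → Q ≠ ⊥ → ∀ c : G,
        Q.map (MulAut.conj c).toMonoidHom ≤ (P : Subgroup G) → c ∈ Y := by
  intro n
  induction n using Nat.strong_induction_on with
  | _ n ih =>
  intro Q hn hQP hQ c hc
  by_cases hQeq : Q = (P : Subgroup G)
  · have h1 : Q.map (MulAut.conj c).toMonoidHom = Q := by
      rw [hQeq] at hc ⊢
      exact Subgroup.eq_of_le_of_card_ge hc (by rw [card_map_conj])
    exact hN Q hQP hQ (mem_normalizer_of_map_eq c _ h1)
  · have hlt : Q < (P : Subgroup G) := lt_of_le_of_ne hQP hQeq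
    have hcardlt : Nat.card Q < Nat.card (P : Subgroup G) := card_lt_of_lt hlt
    have hQ2lt : Q.map (MulAut.conj c).toMonoidHom < (P : Subgroup G) := by
      refine lt_of_le_of_ne hc ?_
      intro h
      have := card_map_conj c Q
      rw [h] at this
      omega
    have hR1 := lt_inf_normalizer P.isPGroup' hlt
    have hR2 := lt_inf_normalizer P.isPGroup' hQ2lt
    have hR2' : ((P : Subgroup G) ⊓ Subgroup.normalizer
        ((Q.map (MulAut.conj c).toMonoidHom : Subgroup G) : Set G)).map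
          (MulAut.conj c⁻¹).toMonoidHom ≤ Subgroup.normalizer (Q : Set G) := by
      rintro _ ⟨r, hr, rfl⟩
      simp only [MulEquiv.coe_toMonoidHom, MulAut.conj_apply, inv_inv]
      apply mem_normalizer_of_forall_conj_mem
      · intro q hq
        have h1 : c * q * c⁻¹ ∈ Q.map (MulAut.conj c).toMonoidHom := ⟨q, hq, by simp⟩
        have h2 := conj_mem_of_mem_normalizer hr.2 h1
        obtain ⟨q', hq', hq'e⟩ := h2
        simp only [MulEquiv.coe_toMonoidHom, MulAut.conj_apply] at hq'e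
        have : c⁻¹ * r * c * q * (c⁻¹ * r * c)⁻¹ = q' := by
          have : q' = c⁻¹ * (c * q' * c⁻¹) * c := by group
          rw [this, hq'e]; group
        rw [this]; exact hq'
      · intro q hq
        have h1 : c * q * c⁻¹ ∈ Q.map (MulAut.conj c).toMonoidHom := ⟨q, hq, by simp⟩
        have h2 := conj_mem_of_mem_normalizer' hr.2 h1
        obtain ⟨q', hq', hq'e⟩ := h2
        simp only [MulEquiv.coe_toMonoidHom, MulAut.conj_apply] at hq'e
        have : (c⁻¹ * r * c)⁻¹ * q * (c⁻¹ * r * c) = q' := by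
          have : q' = c⁻¹ * (c * q' * c⁻¹) * c := by group
          rw [this, hq'e]; group
        rw [this]; exact hq'
    obtain ⟨k, hk, R, hRp, hRK, hR1R, hR2R⟩ :=
      exists_conj_le_common_pgroup (K := Subgroup.normalizer (Q : Set G))
        (inf_le_right : (P : Subgroup G) ⊓ Subgroup.normalizer (Q : Set G) ≤ _) hR2'
        (P.isPGroup'.to_le inf_le_left) ((P.isPGroup'.to_le inf_le_left).map _)
    have hKY : Subgroup.normalizer (Q : Set G) ≤ Y := hN Q hQP hQ
    obtain ⟨y, hy, hyR⟩ := exists_conj_le_of_le P hPY (hRK.trans hKY) hRp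
    have hd : ((P : Subgroup G) ⊓ Subgroup.normalizer
        ((Q.map (MulAut.conj c).toMonoidHom : Subgroup G) : Set G)).map
          (MulAut.conj (y * (k * c⁻¹))).toMonoidHom ≤ (P : Subgroup G) := by
      rw [← map_conj_mul, ← map_conj_mul]
      exact (Subgroup.map_mono hR2R).trans hyR
    have hcardQ2 : Nat.card (Q.map (MulAut.conj c).toMonoidHom) = Nat.card Q := card_map_conj c Q
    have hcardR2 := card_lt_of_lt hR2
    have hcardR2le : Nat.card ((P : Subgroup G) ⊓ Subgroup.normalizer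
        ((Q.map (MulAut.conj c).toMonoidHom : Subgroup G) : Set G) : Subgroup G) ≤
        Nat.card (P : Subgroup G) := Subgroup.card_le_of_le inf_le_left
    have hne2 : ((P : Subgroup G) ⊓ Subgroup.normalizer
        ((Q.map (MulAut.conj c).toMonoidHom : Subgroup G) : Set G)) ≠ ⊥ := by
      intro h
      rw [h] at hR2
      exact (not_lt_bot hR2)
    have hmem := ih (Nat.card (P : Subgroup G) - Nat.card ((P : Subgroup G) ⊓ Subgroup.normalizer
        ((Q.map (MulAut.conj c).toMonoidHom : Subgroup G) : Set G) : Subgroup G)) (by omega) _ rfl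
        inf_le_left hne2 (y * (k * c⁻¹)) hd
    have hkY : k ∈ Y := hKY hk
    have h3 : (y * k)⁻¹ * (y * (k * c⁻¹)) ∈ Y := Y.mul_mem (Y.inv_mem (Y.mul_mem hy hkY)) hmem
    have h4 : (y * k)⁻¹ * (y * (k * c⁻¹)) = c⁻¹ := by group
    rw [h4] at h3
    exact (Subgroup.inv_mem_iff Y).1 h3

section se

variable [Finite G] {p : ℕ} [Fact p.Prime] {Y : Subgroup G}

/-- a strongly `p`-embedded subgroup contains the normalizers of its nontrivial `p`-subgroups -/
theorem normalizer_le (hY : Cfsg.IsStronglyPEmbedded p Y) {Q : Subgroup G} (hQY : Q ≤ Y)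
    (hQ : IsPGroup p Q) (hne : Q ≠ ⊥) : Subgroup.normalizer (Q : Set G) ≤ Y := by
  obtain ⟨P, _, hPY, hN⟩ := exists_sylow hY
  obtain ⟨y, hy, hyQ⟩ := exists_conj_le_of_le P hPY hQY hQ
  have h1 := hN _ hyQ (conj_ne_bot hne y)
  intro g hg
  have h2 : y * g * y⁻¹ ∈ Subgroup.normalizer
      ((Q.map (MulAut.conj y).toMonoidHom : Subgroup G) : Set G) := by
    apply mem_normalizer_of_map_eq
    rw [map_conj_mul]
    have : y * g * y⁻¹ * y = y * g := by group
    rw [this, ← map_conj_mul]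
    congr 1
    exact (Subgroup.mem_normalizer_iff_map_conj_eq.1 hg)
  have h3 := h1 h2
  have : g = y⁻¹ * (y * g * y⁻¹) * y := by group
  rw [this]
  exact Y.mul_mem (Y.mul_mem (Y.inv_mem hy) h3) hy

/-- a `p`-subgroup meeting a strongly `p`-embedded subgroup nontrivially lies in it -/
theorem pGroup_le (hY : Cfsg.IsStronglyPEmbedded p Y) {U : Subgroup G} (hU : IsPGroup p U)
    (hne : U ⊓ Y ≠ ⊥) : U ≤ Y := by
  by_contra hcon
  have hlt : U ⊓ Y < U := lt_of_le_of_ne inf_le_left (fun h => hcon (h ▸ inf_le_right))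
  have h1 := lt_inf_normalizer hU hlt
  have h2 : Subgroup.normalizer ((U ⊓ Y : Subgroup G) : Set G) ≤ Y :=
    normalizer_le hY inf_le_right (hU.to_le inf_le_left) hne
  have h3 : U ⊓ Subgroup.normalizer ((U ⊓ Y : Subgroup G) : Set G) ≤ U ⊓ Y :=
    inf_le_inf_left U h2
  exact (not_lt_of_ge h3) h1

/-- if a nontrivial `p`-subgroup `Q` of `Y` has `g Q g⁻¹ ≤ Y` then `g ∈ Y` -/
theorem mem_of_conj_le (hY : Cfsg.IsStronglyPEmbedded p Y) {Q : Subgroup G} (hQY : Q ≤ Y)
    (hQ : IsPGroup p Q) (hne : Q ≠ ⊥) {g : G}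
    (hg : Q.map (MulAut.conj g).toMonoidHom ≤ Y) : g ∈ Y := by
  obtain ⟨P, _, hPY, hN⟩ := exists_sylow hY
  obtain ⟨y1, hy1, hy1Q⟩ := exists_conj_le_of_le P hPY hQY hQ
  obtain ⟨y2, hy2, hy2Q⟩ := exists_conj_le_of_le P hPY hg (hQ.map _)
  have h1 : (Q.map (MulAut.conj y1).toMonoidHom).map (MulAut.conj (y2 * g * y1⁻¹)).toMonoidHom
      ≤ (P : Subgroup G) := by
    rw [map_conj_mul]
    have : y2 * g * y1⁻¹ * y1 = y2 * g := by group
    rw [this, ← map_conj_mul]
    exact hy2Q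
  have h2 := mem_of_conj_le_sylow P hPY hN _ _ rfl hy1Q (conj_ne_bot hne y1) _ h1
  have : g = y2⁻¹ * (y2 * g * y1⁻¹) * y1 := by group
  rw [this]
  exact Y.mul_mem (Y.mul_mem (Y.inv_mem hy2) h2) hy1

end se

end Cfsg.Agent.Lib.Helper5_SE
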