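import Mathlib

set_option autoImplicit false

/-!
# Finite groups in which elements of the same order are conjugate: general lemmas
-/

namespace Cfsg.Agent.Lib.Helper3_SameOrder

variable {G : Type*} [Group G] [Finite G]

/-- for a prime `q`, `c ≥ 1` and `y`, there is a power `y ^ e` of `q`-power order with
`e ≡ 1 mod q ^ c`. -/
theorem exists_qpart {q : ℕ} (hq : q.Prime) (c : ℕ) (hc : 1 ≤ c) (y : G) :
    ∃ e j u : ℕ, e = 1 + q ^ c * j ∧ orderOf (y ^ e) = q ^ u := by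
  have hn : orderOf y ≠ 0 := (orderOf_pos y).ne'
  obtain ⟨a, m, hm, hnm⟩ := Nat.exists_eq_pow_mul_and_not_dvd hn q hq.ne_one
  have hcop : Nat.Coprime m (q ^ c) := by
    apply Nat.Coprime.pow_right
    exact ((Nat.Prime.coprime_iff_not_dvd hq).mpr hm).symm
  have hqc : 1 < q ^ c := Nat.one_lt_pow (by omega) hq.one_lt
  obtain ⟨m', -, hm'⟩ := Nat.exists_mul_mod_eq_one_of_coprime hcop hqc
  have he : m * m' = 1 + q ^ c * (m * m' / q ^ c) := by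
    have := Nat.div_add_mod (m * m') (q ^ c)
    rw [hm'] at this
    omega
  have hpow : (y ^ (m * m')) ^ (q ^ a) = 1 := by
    rw [← pow_mul]
    have : m * m' * q ^ a = orderOf y * m' := by rw [hnm]; ring
    rw [this, pow_mul, pow_orderOf_eq_one, one_pow]
  obtain ⟨u, -, hu⟩ := (Nat.dvd_prime_pow hq).mp (orderOf_dvd_of_pow_eq_one hpow)
  exact ⟨m * m', m * m' / q ^ c, u, he, hu⟩

/-- The same-order-conjugate property. -/
def SOC (G : Type*) [Group G] : Prop := ∀ x y : G, orderOf x = orderOf y → IsConj x y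

theorem lt_absurd (hP : SOC G) (N K : Subgroup G) [hN : N.Normal] {q : ℕ} (hq : q.Prime)
    (hE : ∀ y ∈ K, y ^ q ∈ N) {y₁ y₂ : G} (h1N : y₁ ∉ N) (h2K : y₂ ∈ K)
    {u₁ u₂ : ℕ} (ho1 : orderOf y₁ = q ^ u₁) (ho2 : orderOf y₂ = q ^ u₂) (hlt : u₁ < u₂) : False := by
  obtain ⟨d, rfl⟩ := Nat.exists_eq_add_of_lt hlt
  -- z = y₂ ^ (q ^ (d+1)) has order q ^ u₁
  have hz : orderOf (y₂ ^ (q ^ (d + 1))) = q ^ u₁ := by
    rw [orderOf_pow, ho2]
    have : (q ^ (u₁ + d + 1)).gcd (q ^ (d + 1)) = q ^ (d + 1) := by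
      apply Nat.gcd_eq_right
      exact pow_dvd_pow q (by omega)
    rw [this]
    have : q ^ (u₁ + d + 1) = q ^ u₁ * q ^ (d + 1) := by rw [← pow_add]; ring_nf
    rw [this, Nat.mul_div_cancel _ (pow_pos hq.pos _)]
  have hconj := hP y₁ _ (ho1.trans hz.symm)
  have hzN : y₂ ^ (q ^ (d + 1)) ∈ N := by
    rw [pow_succ, pow_mul']
    exact N.pow_mem (hE y₂ h2K) _
  obtain ⟨g, hg⟩ := isConj_iff.mp hconj
  apply h1N
  have : y₁ = g⁻¹ * (y₂ ^ (q ^ (d + 1))) * g⁻¹⁻¹ := by rw [← hg]; group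
  rw [this]
  exact hN.conj_mem _ hzN _

/-- `q`-elements of `K ∖ N` are all conjugate, if `K/N` has exponent `q`. -/
theorem conj_of_qelem (hP : SOC G) (N K : Subgroup G) [hN : N.Normal] {q : ℕ} (hq : q.Prime)
    (hE : ∀ y ∈ K, y ^ q ∈ N) {y₁ y₂ : G} (h1K : y₁ ∈ K) (h1N : y₁ ∉ N) (h2K : y₂ ∈ K)
    (h2N : y₂ ∉ N) {u₁ u₂ : ℕ} (ho1 : orderOf y₁ = q ^ u₁) (ho2 : orderOf y₂ = q ^ u₂) :
    IsConj y₁ y₂ := by
  apply hP
  rcases lt_trichotomy u₁ u₂ with h | h | h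
  · exact (lt_absurd hP N K hq hE h1N h2K ho1 ho2 h).elim
  · rw [ho1, ho2, h]
  · exact (lt_absurd hP N K hq hE h2N h1K ho2 ho1 h).elim

/-- `G` acts transitively on the non-identity elements of `K/N`. -/
theorem trans_of_exp (hP : SOC G) (N K : Subgroup G) [hN : N.Normal] {q : ℕ}
    (hq : q.Prime) (hE : ∀ y ∈ K, y ^ q ∈ N) {y₁ y₂ : G} (h1K : y₁ ∈ K) (h1N : y₁ ∉ N)
    (h2K : y₂ ∈ K) (h2N : y₂ ∉ N) : ∃ g : G, g * y₁ * g⁻¹ * y₂⁻¹ ∈ N := by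
  obtain ⟨e₁, j₁, u₁, he₁, ho₁⟩ := exists_qpart hq 1 le_rfl y₁
  obtain ⟨e₂, j₂, u₂, he₂, ho₂⟩ := exists_qpart hq 1 le_rfl y₂
  rw [pow_one] at he₁ he₂
  have hd1 : y₁ ^ e₁ * y₁⁻¹ ∈ N := by
    have : y₁ ^ e₁ * y₁⁻¹ = (y₁ ^ q) ^ j₁ := by
      rw [he₁, pow_add, pow_one, pow_mul]; group
    rw [this]; exact N.pow_mem (hE y₁ h1K) _
  have hd2 : y₂ ^ e₂ * y₂⁻¹ ∈ N := by
    have : y₂ ^ e₂ * y₂⁻¹ = (y₂ ^ q) ^ j₂ := by
      rw [he₂, pow_add, pow_one, pow_mul]; group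
    rw [this]; exact N.pow_mem (hE y₂ h2K) _
  have h1N' : y₁ ^ e₁ ∉ N := by
    intro h
    apply h1N
    have := N.mul_mem (N.inv_mem hd1) h
    have e : (y₁ ^ e₁ * y₁⁻¹)⁻¹ * y₁ ^ e₁ = y₁ := by group
    rw [e] at this; exact this
  have h2N' : y₂ ^ e₂ ∉ N := by
    intro h
    apply h2N
    have := N.mul_mem (N.inv_mem hd2) h
    have e : (y₂ ^ e₂ * y₂⁻¹)⁻¹ * y₂ ^ e₂ = y₂ := by group
    rw [e] at this; exact this
  have hc := conj_of_qelem hP N K hq hE (K.pow_mem h1K _) h1N' (K.pow_mem h2K _) h2N' ho₁ ho₂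
  obtain ⟨g, hg⟩ := isConj_iff.mp hc
  refine ⟨g, ?_⟩
  -- g y₁ g⁻¹ y₂⁻¹ = g (y₁^e₁ y₁⁻¹)⁻¹ g⁻¹ · (y₂^e₂ y₂⁻¹)
  have e : g * y₁ * g⁻¹ * y₂⁻¹ =
      (g * (y₁ ^ e₁ * y₁⁻¹)⁻¹ * g⁻¹) * (g * y₁ ^ e₁ * g⁻¹ * (y₂ ^ e₂)⁻¹) * (y₂ ^ e₂ * y₂⁻¹) := by
    group
  rw [e, hg]
  refine N.mul_mem (N.mul_mem (hN.conj_mem _ (N.inv_mem hd1) g) ?_) hd2
  simp

section Inversion

open scoped commutatorElement

variable {E : Type*} [Group E]

/-- In a group `E = A ∪ sA` with `A` abelian normal, every commutator has the form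
`s b s⁻¹ b⁻¹` with `b ∈ A`. -/
theorem comm_form (A : Subgroup E) [hAn : A.Normal] (s : E)
    (hcomm : ∀ a ∈ A, ∀ b ∈ A, a * b = b * a) (hcov : ∀ g : E, g ∈ A ∨ s⁻¹ * g ∈ A)
    (hs : s ∉ A) (g h : E) : ∃ b ∈ A, ⁅g, h⁆ = s * b * s⁻¹ * b⁻¹ := by
  have hss : s * s ∈ A := by
    rcases hcov (s * s) with h | h
    · exact h
    · exfalso; apply hs; simpa using h
  rcases hcov g with hg | hg <;> rcases hcov h with hh | hh
  · refine ⟨1, A.one_mem, ?_⟩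
    rw [commutatorElement_def, hcomm g hg h hh]; group
  · -- g ∈ A, h = s a₂
    refine ⟨g⁻¹, A.inv_mem hg, ?_⟩
    have hmem : s * g⁻¹ * s⁻¹ ∈ A := hAn.conj_mem _ (A.inv_mem hg) s
    have h2 := hcomm g hg _ hmem
    have hmem2 : h⁻¹ * g * h ∈ A := by
      have := hAn.conj_mem _ hg h⁻¹
      simpa using this
    -- ⁅g,h⁆ = g * (h g⁻¹ h⁻¹); h = s a₂ so h g⁻¹ h⁻¹ = s (a₂ g⁻¹ a₂⁻¹) s⁻¹ = s g⁻¹ s⁻¹
    have h3 : (s⁻¹ * h) * g⁻¹ * (s⁻¹ * h)⁻¹ = g⁻¹ := by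
      rw [hcomm _ hh _ (A.inv_mem hg)]; group
    have h4 : h * g⁻¹ * h⁻¹ = s * g⁻¹ * s⁻¹ := by
      calc h * g⁻¹ * h⁻¹ = s * ((s⁻¹ * h) * g⁻¹ * (s⁻¹ * h)⁻¹) * s⁻¹ := by group
        _ = s * g⁻¹ * s⁻¹ := by rw [h3]
    calc ⁅g, h⁆ = g * (h * g⁻¹ * h⁻¹) := by rw [commutatorElement_def]; group
      _ = g * (s * g⁻¹ * s⁻¹) := by rw [h4]
      _ = (s * g⁻¹ * s⁻¹) * g := h2
      _ = s * g⁻¹ * s⁻¹ * g⁻¹⁻¹ := by group
  · -- g = s a₁, h ∈ A
    refine ⟨h, hh, ?_⟩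
    have h3 : (s⁻¹ * g) * h * (s⁻¹ * g)⁻¹ = h := by
      rw [hcomm _ hg _ hh]; group
    calc ⁅g, h⁆ = s * ((s⁻¹ * g) * h * (s⁻¹ * g)⁻¹) * s⁻¹ * h⁻¹ := by
          rw [commutatorElement_def]; group
      _ = s * h * s⁻¹ * h⁻¹ := by rw [h3]
  · -- both outside
    set a₁ := s⁻¹ * g with ha₁
    set a₂ := s⁻¹ * h with ha₂
    refine ⟨a₁ * a₂⁻¹, A.mul_mem hg (A.inv_mem hh), ?_⟩
    have hw : a₂ * a₁⁻¹ ∈ A := A.mul_mem hh (A.inv_mem hg)
    have hz : s * a₂⁻¹ * s⁻¹ ∈ A := hAn.conj_mem _ (A.inv_mem hh) s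
    have hcw : (s * s) * (a₂ * a₁⁻¹) * (s * s)⁻¹ = a₂ * a₁⁻¹ := by
      rw [hcomm _ hss _ hw]; group
    have hwz := hcomm _ hw _ hz
    have hg' : g = s * a₁ := by rw [ha₁]; group
    have hh' : h = s * a₂ := by rw [ha₂]; group
    calc ⁅g, h⁆ = (s * a₁ * s⁻¹) * ((s * s) * (a₂ * a₁⁻¹) * (s * s)⁻¹) * (s * a₂⁻¹ * s⁻¹) := by
          rw [commutatorElement_def, hg', hh']; group
      _ = (s * a₁ * s⁻¹) * ((a₂ * a₁⁻¹) * (s * a₂⁻¹ * s⁻¹)) := by rw [hcw]; group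
      _ = (s * a₁ * s⁻¹) * ((s * a₂⁻¹ * s⁻¹) * (a₂ * a₁⁻¹)) := by rw [hwz]
      _ = s * (a₁ * a₂⁻¹) * s⁻¹ * (a₁ * a₂⁻¹)⁻¹ := by group

/-- If moreover `A ≤ E'`, every element of `A` has the form `s b s⁻¹ b⁻¹`. -/
theorem mem_range (A : Subgroup E) [hAn : A.Normal] (s : E)
    (hcomm : ∀ a ∈ A, ∀ b ∈ A, a * b = b * a) (hcov : ∀ g : E, g ∈ A ∨ s⁻¹ * g ∈ A)
    (hs : s ∉ A) (hA : A ≤ commutator E) : ∀ a ∈ A, ∃ b ∈ A, a = s * b * s⁻¹ * b⁻¹ := by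
  -- the subgroup `R`
  let R : Subgroup E :=
    { carrier := {x | ∃ b ∈ A, x = s * b * s⁻¹ * b⁻¹}
      one_mem' := ⟨1, A.one_mem, by group⟩
      mul_mem' := by
        rintro x y ⟨b₁, hb₁, rfl⟩ ⟨b₂, hb₂, rfl⟩
        refine ⟨b₁ * b₂, A.mul_mem hb₁ hb₂, ?_⟩
        have h1 : s * b₂ * s⁻¹ ∈ A := hAn.conj_mem _ hb₂ s
        have h2 := hcomm _ (A.inv_mem hb₁) _ (A.mul_mem h1 (A.inv_mem hb₂))
        calc s * b₁ * s⁻¹ * b₁⁻¹ * (s * b₂ * s⁻¹ * b₂⁻¹)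
            = s * b₁ * s⁻¹ * (b₁⁻¹ * (s * b₂ * s⁻¹ * b₂⁻¹)) := by group
          _ = s * b₁ * s⁻¹ * ((s * b₂ * s⁻¹ * b₂⁻¹) * b₁⁻¹) := by rw [h2]
          _ = s * (b₁ * b₂) * s⁻¹ * (b₁ * b₂)⁻¹ := by group
      inv_mem' := by
        rintro x ⟨b, hb, rfl⟩
        refine ⟨b⁻¹, A.inv_mem hb, ?_⟩
        have h1 : s * b⁻¹ * s⁻¹ ∈ A := hAn.conj_mem _ (A.inv_mem hb) s
        have h2 := hcomm _ hb _ h1
        calc (s * b * s⁻¹ * b⁻¹)⁻¹ = b * (s * b⁻¹ * s⁻¹) := by group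
          _ = (s * b⁻¹ * s⁻¹) * b := h2
          _ = s * b⁻¹ * s⁻¹ * b⁻¹⁻¹ := by group }
  have hle : commutator E ≤ R := by
    rw [commutator_def, Subgroup.commutator_le]
    intro g _ h _
    obtain ⟨b, hb, hgh⟩ := comm_form A s hcomm hcov hs g h
    exact ⟨b, hb, hgh⟩
  intro a ha
  exact hle (hA ha)

/-- If moreover `A ≤ E'`, then `s` inverts `A`. -/
theorem inverts (A : Subgroup E) [hAn : A.Normal] (s : E)
    (hcomm : ∀ a ∈ A, ∀ b ∈ A, a * b = b * a) (hcov : ∀ g : E, g ∈ A ∨ s⁻¹ * g ∈ A)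
    (hs : s ∉ A) (hA : A ≤ commutator E) : ∀ a ∈ A, s * a * s⁻¹ = a⁻¹ := by
  have hss : s * s ∈ A := by
    rcases hcov (s * s) with h | h
    · exact h
    · exfalso; apply hs; simpa using h
  intro a ha
  obtain ⟨b, hb, rfl⟩ := mem_range A s hcomm hcov hs hA a ha
  have h1 : (s * s) * b * (s * s)⁻¹ = b := by
    rw [hcomm _ hss _ hb]; group
  calc s * (s * b * s⁻¹ * b⁻¹) * s⁻¹ = ((s * s) * b * (s * s)⁻¹) * (s * b⁻¹ * s⁻¹) := by group
    _ = b * (s * b⁻¹ * s⁻¹) := by rw [h1]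
    _ = (s * b * s⁻¹ * b⁻¹)⁻¹ := by group

/-- hence every element of `A` is a square of an element of `A`. -/
theorem exists_sq (A : Subgroup E) [hAn : A.Normal] (s : E)
    (hcomm : ∀ a ∈ A, ∀ b ∈ A, a * b = b * a) (hcov : ∀ g : E, g ∈ A ∨ s⁻¹ * g ∈ A)
    (hs : s ∉ A) (hA : A ≤ commutator E) : ∀ a ∈ A, ∃ b ∈ A, a = b ^ 2 := by
  intro a ha
  obtain ⟨b, hb, rfl⟩ := mem_range A s hcomm hcov hs hA a ha
  refine ⟨b⁻¹, A.inv_mem hb, ?_⟩
  rw [inverts A s hcomm hcov hs hA b hb]; group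

end Inversion

section NoSection

open scoped commutatorElement

variable {E : Type*} [Group E] [Finite E]

omit [Finite E] in
/-- step: in the situation of `no_section`, if `τ` centralises `V` we get a contradiction. -/
theorem no_section_aux (V : Subgroup E) [hVn : V.Normal]
    (hVcomm : ∀ a ∈ V, ∀ b ∈ V, a * b = b * a) (α τ : E)
    (hα3 : α ^ 3 ∈ V) (hinv : τ⁻¹ * α * τ * α ∈ V)
    (hαV : ∃ v ∈ V, α * v ≠ v * α) (hτ : ∀ v ∈ V, τ * v = v * τ) : False := by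
  obtain ⟨v, hv, hne⟩ := hαV
  apply hne
  have hVC : V ≤ Subgroup.centralizer (V : Set E) := by
    intro x hx
    rw [Subgroup.mem_centralizer_iff]
    intro y hy
    exact hVcomm y hy x hx
  have hτC : τ ∈ Subgroup.centralizer (V : Set E) := by
    rw [Subgroup.mem_centralizer_iff]
    intro y hy
    exact (hτ y hy).symm
  have hCn : (Subgroup.centralizer (V : Set E)).Normal := Subgroup.normal_centralizer
  have h1 : α * τ * α⁻¹ * τ⁻¹ ∈ Subgroup.centralizer (V : Set E) :=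
    Subgroup.mul_mem _ (hCn.conj_mem _ hτC α) (Subgroup.inv_mem _ hτC)
  -- α τ α⁻¹ τ⁻¹ = (α (τ v'⁻¹ τ⁻¹) α⁻¹) α²
  have h2 : α * (τ * (τ⁻¹ * α * τ * α)⁻¹ * τ⁻¹) * α⁻¹ ∈ Subgroup.centralizer (V : Set E) :=
    hVC (hVn.conj_mem _ (hVn.conj_mem _ (V.inv_mem hinv) τ) α)
  have h3 : α ^ 2 ∈ Subgroup.centralizer (V : Set E) := by
    have := Subgroup.mul_mem _ (Subgroup.inv_mem _ h2) h1
    have e : (α * (τ * (τ⁻¹ * α * τ * α)⁻¹ * τ⁻¹) * α⁻¹)⁻¹ * (α * τ * α⁻¹ * τ⁻¹) = α ^ 2 := by group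
    rw [e] at this
    exact this
  have h4 : α ∈ Subgroup.centralizer (V : Set E) := by
    have := Subgroup.mul_mem _ (hVC hα3) (Subgroup.inv_mem _ h3)
    have e : α ^ 3 * (α ^ 2)⁻¹ = α := by group
    rw [e] at this
    exact this
  rw [Subgroup.mem_centralizer_iff] at h4
  exact (h4 v hv).symm

theorem no_section (V : Subgroup E) [hVn : V.Normal]
    (hVcomm : ∀ a ∈ V, ∀ b ∈ V, a * b = b * a) (hVne : V ≠ ⊥)
    {q : ℕ} (hq : q.Prime) (hexp : ∀ v ∈ V, v ^ q = 1)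
    (α τ : E)
    (hgen : ∀ g : E, ∃ (ε : Fin 2) (i : Fin 3), ∃ v ∈ V, g = τ ^ (ε : ℕ) * α ^ (i : ℕ) * v)
    (hα3 : α ^ 3 ∈ V) (hinv : τ⁻¹ * α * τ * α ∈ V)
    (htrans : ∀ v₁ ∈ V, ∀ v₂ ∈ V, v₁ ≠ 1 → v₂ ≠ 1 → ∃ g : E, g * v₁ * g⁻¹ = v₂)
    (hαV : ∃ v ∈ V, α * v ≠ v * α) (hαcomm : α ∈ commutator E)
    (hτ2 : τ * τ ∈ V)
    (h2 : q = 2 → ∀ v ∈ V, orderOf (τ * v) = orderOf τ) : False := by
  classical
  haveI : Fact q.Prime := ⟨hq⟩
  -- Step 1: |V| ≤ 7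
  obtain ⟨v₁, hv₁, hv₁ne⟩ : ∃ v ∈ V, v ≠ 1 := by
    by_contra hcon
    push Not at hcon
    apply hVne
    rw [eq_bot_iff]
    intro x hx
    rw [Subgroup.mem_bot]
    exact hcon x hx
  let f : Fin 2 × Fin 3 → E := fun p =>
    (τ ^ (p.1 : ℕ) * α ^ (p.2 : ℕ)) * v₁ * (τ ^ (p.1 : ℕ) * α ^ (p.2 : ℕ))⁻¹
  let S : Finset E := insert 1 (Finset.univ.image f)
  have hScard : S.card ≤ 7 := by
    refine (Finset.card_insert_le _ _).trans ?_
    have : (Finset.univ.image f).card ≤ 6 := by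
      refine Finset.card_image_le.trans ?_
      simp
    omega
  have hVS : ∀ v ∈ V, v ∈ S := by
    intro v hv
    by_cases hv1 : v = 1
    · rw [hv1]; exact Finset.mem_insert_self _ _
    · apply Finset.mem_insert_of_mem
      rw [Finset.mem_image]
      obtain ⟨g, hg⟩ := htrans v₁ hv₁ v hv hv₁ne hv1
      obtain ⟨ε, i, w, hw, rfl⟩ := hgen g
      refine ⟨(ε, i), Finset.mem_univ _, ?_⟩
      rw [← hg]
      show (τ ^ (ε : ℕ) * α ^ (i : ℕ)) * v₁ * (τ ^ (ε : ℕ) * α ^ (i : ℕ))⁻¹ = _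
      have hc : w * v₁ * w⁻¹ = v₁ := by
        rw [hVcomm w hw v₁ hv₁]; group
      calc (τ ^ (ε : ℕ) * α ^ (i : ℕ)) * v₁ * (τ ^ (ε : ℕ) * α ^ (i : ℕ))⁻¹
          = (τ ^ (ε : ℕ) * α ^ (i : ℕ)) * (w * v₁ * w⁻¹) * (τ ^ (ε : ℕ) * α ^ (i : ℕ))⁻¹ := by
            rw [hc]
        _ = _ := by group
  have hVcard7 : Nat.card V ≤ 7 := by
    have h1 : Nat.card V ≤ Nat.card (S : Set E) := by
      apply Nat.card_le_card_of_injective (fun v : V => (⟨(v : E), hVS v v.2⟩ : (S : Set E)))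
      intro x y hxy
      apply Subtype.ext
      exact congrArg (fun t : (S : Set E) => (t : E)) hxy
    refine h1.trans ?_
    rw [Nat.card_coe_set_eq, Set.ncard_coe_finset]
    exact hScard
  -- Step 2: |V| = q ^ n
  have hPG : IsPGroup q V := by
    intro v
    refine ⟨1, ?_⟩
    rw [pow_one]
    apply Subtype.ext
    have := hexp (v : E) v.2
    simpa using this
  obtain ⟨n, hn⟩ := (IsPGroup.iff_card (p := q)).mp hPG
  have hn0 : n ≠ 0 := by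
    intro h
    rw [h, pow_zero] at hn
    exact hVne (Subgroup.card_eq_one.mp hn)
  have hq2 : 2 ≤ q := hq.two_le
  have hcases : n = 1 ∨ (q = 2 ∧ n = 2) := by
    rw [hn] at hVcard7
    by_cases h1 : n = 1
    · exact Or.inl h1
    right
    have hn2 : 2 ≤ n := by omega
    have hle : q ^ 2 ≤ q ^ n := Nat.pow_le_pow_right (by omega) hn2
    have hq3 : q < 3 := by
      by_contra hcon
      push Not at hcon
      have : 3 ^ 2 ≤ q ^ 2 := Nat.pow_le_pow_left hcon 2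
      omega
    have hq2' : q = 2 := by omega
    refine ⟨hq2', ?_⟩
    subst hq2'
    by_contra hcon
    have hn3 : 3 ≤ n := by omega
    have : 2 ^ 3 ≤ 2 ^ n := Nat.pow_le_pow_right (by omega) hn3
    omega
  rcases hcases with h1 | ⟨hq2', hn2⟩
  · -- cyclic case
    rw [h1, pow_one] at hn
    haveI : IsCyclic V := isCyclic_of_prime_card hn
    obtain ⟨v₀, hv₀⟩ := IsCyclic.exists_generator (α := V)
    have hpow : ∀ g : E, ∃ k : ℤ, g * (v₀ : E) * g⁻¹ = (v₀ : E) ^ k := by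
      intro g
      have hmem : g * (v₀ : E) * g⁻¹ ∈ V := hVn.conj_mem _ v₀.2 g
      obtain ⟨k, hk⟩ := Subgroup.mem_zpowers_iff.mp (hv₀ ⟨_, hmem⟩)
      refine ⟨k, ?_⟩
      have := congrArg (fun t : V => (t : E)) hk
      simpa using this.symm
    have hcommv₀ : ∀ g h : E, (g * h) * (v₀ : E) * (g * h)⁻¹ = (h * g) * (v₀ : E) * (h * g)⁻¹ := by
      intro g h
      obtain ⟨kg, hkg⟩ := hpow g
      obtain ⟨kh, hkh⟩ := hpow h
      have e1 : (g * h) * (v₀ : E) * (g * h)⁻¹ = g * (h * (v₀ : E) * h⁻¹) * g⁻¹ := by group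
      have e2 : (h * g) * (v₀ : E) * (h * g)⁻¹ = h * (g * (v₀ : E) * g⁻¹) * h⁻¹ := by group
      rw [e1, e2, hkh, hkg, ← conj_zpow, ← conj_zpow, hkg, hkh, ← zpow_mul, ← zpow_mul, mul_comm]
    have hle : commutator E ≤ Subgroup.centralizer (V : Set E) := by
      rw [commutator_def, Subgroup.commutator_le]
      intro g _ h _
      rw [Subgroup.mem_centralizer_iff]
      intro y hy
      -- ⁅g,h⁆ commutes with v₀
      have hc0 : ⁅g, h⁆ * (v₀ : E) = (v₀ : E) * ⁅g, h⁆ := by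
        have := hcommv₀ g⁻¹ h⁻¹
        rw [commutatorElement_def]
        -- (g⁻¹h⁻¹) v₀ (g⁻¹h⁻¹)⁻¹ = (h⁻¹g⁻¹) v₀ (h⁻¹g⁻¹)⁻¹
        calc g * h * g⁻¹ * h⁻¹ * (v₀ : E)
            = g * h * ((g⁻¹ * h⁻¹) * (v₀ : E) * (g⁻¹ * h⁻¹)⁻¹) * (g⁻¹ * h⁻¹) := by group
          _ = g * h * ((h⁻¹ * g⁻¹) * (v₀ : E) * (h⁻¹ * g⁻¹)⁻¹) * (g⁻¹ * h⁻¹) := by rw [this]
          _ = (v₀ : E) * (g * h * g⁻¹ * h⁻¹) := by group
      obtain ⟨k, hk⟩ := Subgroup.mem_zpowers_iff.mp (hv₀ ⟨y, hy⟩)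
      have hy' : y = (v₀ : E) ^ k := by
        have := congrArg (fun t : V => (t : E)) hk
        simpa using this.symm
      rw [hy']
      have hcm : Commute ⁅g, h⁆ (v₀ : E) := hc0
      exact (hcm.zpow_right k).eq.symm
    obtain ⟨v, hv, hne⟩ := hαV
    have := hle hαcomm
    rw [Subgroup.mem_centralizer_iff] at this
    exact hne (this v hv).symm
  · -- |V| = 4, q = 2
    subst hq2'
    rw [hn2] at hn
    have hexp2 : ∀ v ∈ V, v * v = 1 := by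
      intro v hv
      have := hexp v hv
      rwa [pow_two] at this
    have hinvV : ∀ v ∈ V, v⁻¹ = v := by
      intro v hv
      exact inv_eq_of_mul_eq_one_left (hexp2 v hv)
    have hord := h2 rfl
    apply no_section_aux V hVcomm α τ hα3 hinv hαV
    by_contra hcon
    push Not at hcon
    obtain ⟨v₀, hv₀, hv₀ne⟩ := hcon
    have hsq : ∀ v : E, (τ * v) ^ 2 = (τ * τ) * ((τ⁻¹ * v * τ) * v) := by
      intro v; rw [pow_two]; group
    have hconjV : ∀ v ∈ V, τ⁻¹ * v * τ ∈ V := by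
      intro v hv
      have := hVn.conj_mem v hv τ⁻¹
      simpa using this
    by_cases hz : τ * τ = 1
    · -- τ² = 1
      have h1 : orderOf τ ∣ 2 := orderOf_dvd_of_pow_eq_one (by rw [pow_two]; exact hz)
      have h3 : (τ * v₀) ^ 2 = 1 := by
        apply orderOf_dvd_iff_pow_eq_one.mp
        rw [hord v₀ hv₀]; exact h1
      rw [hsq, hz, one_mul] at h3
      apply hv₀ne
      have h4 : τ⁻¹ * v₀ * τ = v₀⁻¹ := eq_inv_of_mul_eq_one_left h3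
      rw [hinvV v₀ hv₀] at h4
      calc τ * v₀ = τ * (τ⁻¹ * v₀ * τ) := by rw [h4]
        _ = v₀ * τ := by group
    · -- τ² = z ≠ 1
      have hne1 : ∀ v ∈ V, (τ * τ) * ((τ⁻¹ * v * τ) * v) ≠ 1 := by
        intro v hv h
        apply hz
        have h3 : (τ * v) ^ 2 = 1 := by rw [hsq, h]
        have h4 : orderOf (τ * v) ∣ 2 := orderOf_dvd_of_pow_eq_one h3
        rw [hord v hv] at h4
        have := orderOf_dvd_iff_pow_eq_one.mp h4
        rwa [pow_two] at this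
      set z := τ * τ with hzdef
      set w := (τ⁻¹ * v₀ * τ) * v₀ with hwdef
      have hwV : w ∈ V := V.mul_mem (hconjV v₀ hv₀) hv₀
      have hw1 : w ≠ 1 := by
        intro h
        apply hv₀ne
        have h4 : τ⁻¹ * v₀ * τ = v₀⁻¹ := eq_inv_of_mul_eq_one_left h
        rw [hinvV v₀ hv₀] at h4
        calc τ * v₀ = τ * (τ⁻¹ * v₀ * τ) := by rw [h4]
          _ = v₀ * τ := by group
      have hwz : w ≠ z := by
        intro h
        apply hne1 v₀ hv₀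
        rw [← hwdef, h]
        exact hexp2 z hτ2
      have hτz : τ * z = z * τ := by rw [hzdef]; group
      have hτw : τ * w = w * τ := by
        -- τ⁻¹ w τ = (z⁻¹ v₀ z)(τ⁻¹ v₀ τ) = v₀ (τ⁻¹ v₀ τ) = w
        have h5 : z⁻¹ * v₀ * z = v₀ := by
          rw [hinvV z hτ2, hVcomm z hτ2 v₀ hv₀, mul_assoc, hexp2 z hτ2, mul_one]
        have h6 : τ⁻¹ * w * τ = w := by
          calc τ⁻¹ * w * τ = (z⁻¹ * v₀ * z) * (τ⁻¹ * v₀ * τ) := by rw [hwdef, hzdef]; group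
            _ = v₀ * (τ⁻¹ * v₀ * τ) := by rw [h5]
            _ = w := hVcomm _ hv₀ _ (hconjV v₀ hv₀)
        calc τ * w = τ * (τ⁻¹ * w * τ) := by rw [h6]
          _ = w * τ := by group
      -- the subgroup of V centralised by τ
      set H : Subgroup E := V ⊓ Subgroup.centralizer ({τ} : Set E) with hH
      have hHV : H ≤ V := inf_le_left
      have hmemH : ∀ x : E, x ∈ H ↔ x ∈ V ∧ τ * x = x * τ := by
        intro x
        rw [hH, Subgroup.mem_inf, Subgroup.mem_centralizer_singleton_iff]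
        constructor
        · rintro ⟨h1, h2⟩; exact ⟨h1, h2.symm⟩
        · rintro ⟨h1, h2⟩; exact ⟨h1, h2.symm⟩
      have hzH : z ∈ H := (hmemH z).mpr ⟨hτ2, hτz⟩
      have hwH : w ∈ H := (hmemH w).mpr ⟨hwV, hτw⟩
      have h3le : 3 ≤ Nat.card H := by
        let φ : Fin 3 → H := ![1, ⟨z, hzH⟩, ⟨w, hwH⟩]
        have hφ : Function.Injective φ := by
          intro i j hij
          have hij' : ((φ i : H) : E) = ((φ j : H) : E) := congrArg _ hij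
          fin_cases i <;> fin_cases j <;> simp [φ] at hij' ⊢
          all_goals first
            | exact (hz hij').elim
            | exact (hz hij'.symm).elim
            | exact (hw1 hij').elim
            | exact (hw1 hij'.symm).elim
            | exact (hwz hij').elim
            | exact (hwz hij'.symm).elim
        have := Nat.card_le_card_of_injective φ hφ
        simpa using this
      have hdvd : Nat.card H ∣ Nat.card V := Subgroup.card_dvd_of_le hHV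
      rw [hn] at hdvd
      have hH4 : Nat.card H = 4 := by
        have hle : Nat.card H ≤ 4 := Nat.le_of_dvd (by norm_num) hdvd
        interval_cases hc : Nat.card H
        · norm_num at hdvd
        · rfl
      have hHeq : H = V := by
        apply Subgroup.eq_of_le_of_card_ge hHV
        rw [hn, hH4]; norm_num
      have : v₀ ∈ H := by rw [hHeq]; exact hv₀
      exact hv₀ne ((hmemH v₀).mp this).2

end NoSection

end Cfsg.Agent.Lib.Helper3_SameOrder
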