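import Mathlib
import Cfsg.Agent.Lib.Helper3_SameOrder

set_option autoImplicit false

/-!
# Finite solvable groups in which elements of the same order are conjugate
-/

namespace Cfsg.Agent.Lib.Helper3_SameOrder2

open Cfsg.Agent.Lib.Helper3_SameOrder
open scoped commutatorElement

variable {G : Type*} [Group G] [Finite G]

omit [Finite G] in
theorem comm_mem (g x : G) : g * x * g⁻¹ * x⁻¹ ∈ commutator G := by
  rw [commutator_def, ← commutatorElement_def]
  exact Subgroup.commutator_mem_commutator (Subgroup.mem_top _) (Subgroup.mem_top _)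

omit [Finite G] in
theorem sq_mem (hP : SOC G) (x : G) : x ^ 2 ∈ commutator G := by
  have hc : IsConj x x⁻¹ := hP x x⁻¹ (orderOf_inv x).symm
  obtain ⟨g, hg⟩ := isConj_iff.mp hc
  have h1 := comm_mem g x
  rw [hg] at h1
  have : x ^ 2 = (x⁻¹ * x⁻¹)⁻¹ := by group
  rw [this]
  exact (commutator G).inv_mem h1

theorem index_two (hP : SOC G) {x y : G} (hx : x ∉ commutator G) (hy : y ∉ commutator G) :
    x * y⁻¹ ∈ commutator G := by
  have hE : ∀ z ∈ (⊤ : Subgroup G), z ^ 2 ∈ commutator G := fun z _ => sq_mem hP z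
  obtain ⟨g, hg⟩ := trans_of_exp hP (commutator G) ⊤ Nat.prime_two hE (Subgroup.mem_top x) hx
    (Subgroup.mem_top y) hy
  have h1 := comm_mem g x
  have := (commutator G).mul_mem ((commutator G).inv_mem h1) hg
  have e : (g * x * g⁻¹ * x⁻¹)⁻¹ * (g * x * g⁻¹ * y⁻¹) = x * y⁻¹ := by group
  rw [e] at this
  exact this

section Part3

variable (hP : SOC G) {t : G} (ht : t ∉ commutator G)

include hP ht

theorem cov (g : G) : g ∈ commutator G ∨ t⁻¹ * g ∈ commutator G := by
  by_cases hg : g ∈ commutator G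
  · exact Or.inl hg
  right
  have h1 := index_two hP hg ht
  have hn : (commutator G).Normal := inferInstance
  have := hn.conj_mem _ h1 t⁻¹
  have e : t⁻¹ * (g * t⁻¹) * t⁻¹⁻¹ = t⁻¹ * g := by group
  rw [e] at this
  exact this

/-- data in the quotient by `L = ⁅K, K⁆` -/
theorem quot_data :
    let L : Subgroup G := ⁅commutator G, commutator G⁆
    let π := QuotientGroup.mk' L
    let A := (commutator G).map π
    (∀ a ∈ A, ∀ b ∈ A, a * b = b * a) ∧ (∀ g, g ∈ A ∨ (π t)⁻¹ * g ∈ A) ∧ π t ∉ A ∧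
      A ≤ commutator (G ⧸ L) ∧ A.Normal ∧ L ≤ commutator G := by
  intro L π A
  have hLK : L ≤ commutator G := Subgroup.commutator_le_left _ _
  have hπs : Function.Surjective π := QuotientGroup.mk'_surjective L
  refine ⟨?_, ?_, ?_, ?_, ?_, hLK⟩
  · rintro a ⟨k₁, hk₁, rfl⟩ b ⟨k₂, hk₂, rfl⟩
    rw [← map_mul, ← map_mul]
    show (QuotientGroup.mk (k₁ * k₂) : G ⧸ L) = QuotientGroup.mk (k₂ * k₁)
    rw [QuotientGroup.eq]
    have : (k₁ * k₂)⁻¹ * (k₂ * k₁) = ⁅k₂⁻¹, k₁⁻¹⁆ := by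
      rw [commutatorElement_def]; group
    rw [this]
    exact Subgroup.commutator_mem_commutator ((commutator G).inv_mem hk₂)
      ((commutator G).inv_mem hk₁)
  · intro g
    obtain ⟨g₀, rfl⟩ := hπs g
    rcases cov hP ht g₀ with h | h
    · exact Or.inl ⟨g₀, h, rfl⟩
    · right
      refine ⟨t⁻¹ * g₀, h, ?_⟩
      rw [map_mul, map_inv]
  · rintro ⟨k, hk, hkt⟩
    apply ht
    have : (QuotientGroup.mk k : G ⧸ L) = QuotientGroup.mk t := hkt
    rw [QuotientGroup.eq] at this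
    have h2 := (commutator G).mul_mem hk (hLK this)
    have e : k * (k⁻¹ * t) = t := by group
    rw [e] at h2
    exact h2
  · intro a ha
    have h1 : commutator (G ⧸ L) = ⁅(⊤ : Subgroup (G ⧸ L)), ⊤⁆ := commutator_def _
    have h2 : commutator G = ⁅(⊤ : Subgroup G), ⊤⁆ := commutator_def G
    have : commutator (G ⧸ L) = A := by
      calc commutator (G ⧸ L) = ⁅(⊤ : Subgroup (G ⧸ L)), ⊤⁆ := h1
        _ = ⁅(⊤ : Subgroup G).map π, (⊤ : Subgroup G).map π⁆ := by
            rw [Subgroup.map_top_of_surjective π hπs]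
        _ = (⁅(⊤ : Subgroup G), ⊤⁆ : Subgroup G).map π := (Subgroup.map_commutator _ _ π).symm
        _ = (commutator G).map π := congrArg (Subgroup.map π) h2.symm
    rw [this]
    exact ha
  · exact Subgroup.Normal.map inferInstance π hπs

theorem inv_mod (k : G) (hk : k ∈ commutator G) :
    t * k * t⁻¹ * k ∈ (⁅commutator G, commutator G⁆ : Subgroup G) := by
  obtain ⟨h1, h2, h3, h4, h5, -⟩ := quot_data hP ht
  haveI := h5
  have := inverts _ _ h1 h2 h3 h4 _ ⟨k, hk, rfl⟩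
  rw [← QuotientGroup.eq_one_iff]
  have e : ((t * k * t⁻¹ * k : G) : G ⧸ (⁅commutator G, commutator G⁆ : Subgroup G)) =
      (QuotientGroup.mk' _ t) * (QuotientGroup.mk' _ k) * (QuotientGroup.mk' _ t)⁻¹ *
        (QuotientGroup.mk' _ k) := by
    simp
  rw [e, this]
  simp

theorem sq_inj (k : G) (hk : k ∈ commutator G)
    (h : k ^ 2 ∈ (⁅commutator G, commutator G⁆ : Subgroup G)) :
    k ∈ (⁅commutator G, commutator G⁆ : Subgroup G) := by
  obtain ⟨h1, h2, h3, h4, h5, -⟩ := quot_data hP ht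
  haveI := h5
  set L : Subgroup G := ⁅commutator G, commutator G⁆ with hL
  set π := QuotientGroup.mk' L with hπ
  set A := (commutator G).map π with hA
  have hsurj : Function.Surjective (fun x : A => (⟨(x : G ⧸ L) ^ 2, A.pow_mem x.2 2⟩ : A)) := by
    intro a
    obtain ⟨b, hb, hab⟩ := exists_sq A (π t) h1 h2 h3 h4 a a.2
    exact ⟨⟨b, hb⟩, Subtype.ext hab.symm⟩
  have hinj := Finite.injective_iff_surjective.mpr hsurj
  have hmem : π k ∈ A := ⟨k, hk, rfl⟩
  have h0 : (⟨π k, hmem⟩ : A) = 1 := by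
    apply hinj
    apply Subtype.ext
    show (π k) ^ 2 = ((1 : A) : G ⧸ L) ^ 2
    rw [← map_pow, Subgroup.coe_one, one_pow]
    exact (QuotientGroup.eq_one_iff _).mpr h
  have h01 : π k = 1 := congrArg Subtype.val h0
  exact (QuotientGroup.eq_one_iff _).mp h01

omit [Finite G] hP ht in
theorem comm_mem_L' {x y : G} (hx : x ∈ commutator G) (hy : y ∈ commutator G) :
    x * y * x⁻¹ * y⁻¹ ∈ (⁅commutator G, commutator G⁆ : Subgroup G) := by
  rw [← commutatorElement_def]
  exact Subgroup.commutator_mem_commutator hx hy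

theorem pow_two_pow_inj (a : ℕ) : ∀ x ∈ commutator G,
    x ^ (2 ^ a) ∈ (⁅commutator G, commutator G⁆ : Subgroup G) →
    x ∈ (⁅commutator G, commutator G⁆ : Subgroup G) := by
  induction a with
  | zero => intro x _ h; simpa using h
  | succ a ih =>
    intro x hx h
    apply sq_inj hP ht x hx
    apply ih (x ^ 2) ((commutator G).pow_mem hx 2)
    rw [← pow_mul, ← pow_succ']
    exact h

theorem cube_mem (k : G) (hk : k ∈ commutator G) :
    k ^ 3 ∈ (⁅commutator G, commutator G⁆ : Subgroup G) := by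
  set K := commutator G with hK
  set L : Subgroup G := ⁅K, K⁆ with hL
  have hLn : L.Normal := Subgroup.commutator_normal K K
  have hn : orderOf k ≠ 0 := (orderOf_pos k).ne'
  obtain ⟨a, m, hm, hnm⟩ := Nat.exists_eq_pow_mul_and_not_dvd hn 2 (by norm_num)
  set y₁ := k ^ (2 ^ a) with hy₁
  have hy₁K : y₁ ∈ K := K.pow_mem hk _
  have hpow : y₁ ^ m = 1 := by
    rw [hy₁, ← pow_mul, ← hnm, pow_orderOf_eq_one]
  have hcop : (orderOf y₁).Coprime 2 := by
    have h1 : orderOf y₁ ∣ m := orderOf_dvd_of_pow_eq_one hpow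
    have h2 : Nat.Coprime m 2 := by
      rw [Nat.coprime_comm, Nat.Prime.coprime_iff_not_dvd Nat.prime_two]
      exact hm
    exact Nat.Coprime.coprime_dvd_left h1 h2
  have hord : orderOf (y₁ ^ 2) = orderOf y₁ := hcop.orderOf_pow
  obtain ⟨g, hg⟩ := isConj_iff.mp (hP y₁ (y₁ ^ 2) hord.symm)
  have hy3 : y₁ ^ 3 ∈ L := by
    rcases cov hP ht g with hgK | hgK
    · have h1 := comm_mem_L' hgK hy₁K
      rw [hg] at h1
      have e : y₁ ^ 2 * y₁⁻¹ = y₁ := by group
      rw [e] at h1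
      exact L.pow_mem h1 3
    · set k' := t⁻¹ * g with hk'
      set w := k' * y₁ * k'⁻¹ with hw
      have hwK : w ∈ K := (inferInstance : K.Normal).conj_mem _ hy₁K _
      have h1 := inv_mod hP ht w hwK
      have h2 : t * w * t⁻¹ = y₁ ^ 2 := by
        rw [← hg, hw, hk']; group
      rw [h2] at h1
      have hc : w * y₁⁻¹ ∈ L := comm_mem_L' hgK hy₁K
      have h3 : y₁ ^ 2 * (w * y₁⁻¹) * (y₁ ^ 2)⁻¹ ∈ L := hLn.conj_mem _ hc _
      have := L.mul_mem (L.inv_mem h3) h1
      have e : (y₁ ^ 2 * (w * y₁⁻¹) * (y₁ ^ 2)⁻¹)⁻¹ * (y₁ ^ 2 * w) = y₁ ^ 3 := by group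
      rw [e] at this
      exact this
  apply pow_two_pow_inj hP ht a (k ^ 3) (K.pow_mem hk 3)
  have : (k ^ 3) ^ (2 ^ a) = y₁ ^ 3 := by
    rw [hy₁, ← pow_mul, ← pow_mul, mul_comm]
  rw [this]
  exact hy3

theorem two_cosets {y₁ y₂ : G} (h1 : y₁ ∈ commutator G) (h2 : y₂ ∈ commutator G)
    (h1L : y₁ ∉ (⁅commutator G, commutator G⁆ : Subgroup G))
    (h2L : y₂ ∉ (⁅commutator G, commutator G⁆ : Subgroup G)) :
    y₁ * y₂⁻¹ ∈ (⁅commutator G, commutator G⁆ : Subgroup G) ∨
      y₁ * y₂ ∈ (⁅commutator G, commutator G⁆ : Subgroup G) := by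
  set K := commutator G with hK
  set L : Subgroup G := ⁅K, K⁆ with hL
  have hLn : L.Normal := Subgroup.commutator_normal K K
  obtain ⟨g, hg⟩ := trans_of_exp hP L K Nat.prime_three (cube_mem hP ht) h1 h1L h2 h2L
  rcases cov hP ht g with hgK | hgK
  · left
    have h3 := comm_mem_L' hgK h1
    have := L.mul_mem (L.inv_mem h3) hg
    have e : (g * y₁ * g⁻¹ * y₁⁻¹)⁻¹ * (g * y₁ * g⁻¹ * y₂⁻¹) = y₁ * y₂⁻¹ := by group
    rw [e] at this
    exact this
  · right
    set k' := t⁻¹ * g with hk'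
    set w := k' * y₁ * k'⁻¹ with hw
    have hwK : w ∈ K := (inferInstance : K.Normal).conj_mem _ h1 _
    have h3 := inv_mod hP ht w hwK
    have h4 : t * w * t⁻¹ = g * y₁ * g⁻¹ := by
      rw [hw, hk']; group
    rw [h4] at h3
    have h5 : y₂ * w ∈ L := by
      have := L.mul_mem (L.inv_mem hg) h3
      have e : (g * y₁ * g⁻¹ * y₂⁻¹)⁻¹ * (g * y₁ * g⁻¹ * w) = y₂ * w := by group
      rw [e] at this
      exact this
    have hc : w * y₁⁻¹ ∈ L := comm_mem_L' hgK h1
    have h6 : y₂ * y₁ ∈ L := by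
      have h7 : y₂ * (w * y₁⁻¹) * y₂⁻¹ ∈ L := hLn.conj_mem _ hc _
      have := L.mul_mem (L.inv_mem h7) h5
      have e : (y₂ * (w * y₁⁻¹) * y₂⁻¹)⁻¹ * (y₂ * w) = y₂ * y₁ := by group
      rw [e] at this
      exact this
    have := hLn.conj_mem _ h6 y₁
    have e : y₁ * (y₂ * y₁) * y₁⁻¹ = y₁ * y₂ := by group
    rw [e] at this
    exact this

end Part3

section Part4

variable (hP : SOC G) {t : G} (ht : t ∉ commutator G)

include hP ht

omit hP ht in
/-- existence of a suitable normal subgroup `N < L` -/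
theorem exists_N [Group.IsSolvable G]
    (hL : (⁅commutator G, commutator G⁆ : Subgroup G) ≠ ⊥) :
    ∃ (N : Subgroup G) (q : ℕ), N.Normal ∧ q.Prime ∧
      N ≤ (⁅commutator G, commutator G⁆ : Subgroup G) ∧
      (∀ x ∈ (⁅commutator G, commutator G⁆ : Subgroup G),
        ∀ y ∈ (⁅commutator G, commutator G⁆ : Subgroup G), x * y * x⁻¹ * y⁻¹ ∈ N) ∧
      (∀ y ∈ (⁅commutator G, commutator G⁆ : Subgroup G), y ^ q ∈ N) ∧
      (∃ y ∈ (⁅commutator G, commutator G⁆ : Subgroup G), y ∉ N) := by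
  set K := commutator G with hK
  set L : Subgroup G := ⁅K, K⁆ with hLdef
  have hLn : L.Normal := Subgroup.commutator_normal K K
  set L₂ : Subgroup G := ⁅L, L⁆ with hL₂
  have hL₂n : L₂.Normal := Subgroup.commutator_normal L L
  have hlt : L₂ < L := Group.IsSolvable.commutator_lt_of_ne_bot hL
  set π₀ := QuotientGroup.mk' L₂ with hπ₀
  have hπ₀s : Function.Surjective π₀ := QuotientGroup.mk'_surjective L₂
  set V₀ := L.map π₀ with hV₀
  have hV₀n : V₀.Normal := Subgroup.Normal.map hLn π₀ hπ₀s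
  have hV₀comm : ∀ a ∈ V₀, ∀ b ∈ V₀, a * b = b * a := by
    rintro a ⟨k₁, hk₁, rfl⟩ b ⟨k₂, hk₂, rfl⟩
    rw [← map_mul, ← map_mul]
    show (QuotientGroup.mk (k₁ * k₂) : G ⧸ L₂) = QuotientGroup.mk (k₂ * k₁)
    rw [QuotientGroup.eq]
    have : (k₁ * k₂)⁻¹ * (k₂ * k₁) = ⁅k₂⁻¹, k₁⁻¹⁆ := by
      rw [commutatorElement_def]; group
    rw [this]
    exact Subgroup.commutator_mem_commutator (L.inv_mem hk₂) (L.inv_mem hk₁)
  have hV₀ne : V₀ ≠ ⊥ := by
    intro h
    obtain ⟨y, hyL, hyL₂⟩ := SetLike.exists_of_lt hlt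
    apply hyL₂
    have : π₀ y ∈ V₀ := ⟨y, hyL, rfl⟩
    rw [h, Subgroup.mem_bot] at this
    exact (QuotientGroup.eq_one_iff _).mp this
  have hcard : Nat.card V₀ ≠ 1 := fun h => hV₀ne (Subgroup.card_eq_one.mp h)
  obtain ⟨q, hq, hqd⟩ := Nat.exists_prime_and_dvd hcard
  haveI : Fact q.Prime := ⟨hq⟩
  obtain ⟨v, hv⟩ := exists_prime_orderOf_dvd_card' q hqd
  -- the subgroup of q-th powers
  let P : Subgroup (G ⧸ L₂) :=
    { carrier := {x | ∃ w ∈ V₀, x = w ^ q}
      one_mem' := ⟨1, V₀.one_mem, by simp⟩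
      mul_mem' := by
        rintro x y ⟨w₁, hw₁, rfl⟩ ⟨w₂, hw₂, rfl⟩
        refine ⟨w₁ * w₂, V₀.mul_mem hw₁ hw₂, ?_⟩
        have hc : Commute w₁ w₂ := hV₀comm w₁ hw₁ w₂ hw₂
        exact (hc.mul_pow q).symm
      inv_mem' := by
        rintro x ⟨w, hw, rfl⟩
        exact ⟨w⁻¹, V₀.inv_mem hw, by simp⟩ }
  have hPn : P.Normal := by
    constructor
    rintro x ⟨w, hw, rfl⟩ g
    exact ⟨g * w * g⁻¹, hV₀n.conj_mem w hw g, (conj_pow).symm⟩
  refine ⟨P.comap π₀, q, hPn.comap π₀, hq, ?_, ?_, ?_, ?_⟩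
  · intro y hy
    obtain ⟨w, ⟨l, hl, rfl⟩, hyw⟩ := hy
    rw [← map_pow] at hyw
    have h1 : (QuotientGroup.mk y : G ⧸ L₂) = QuotientGroup.mk (l ^ q) := hyw
    rw [QuotientGroup.eq] at h1
    have := L.mul_mem (L.pow_mem hl q) (hlt.le (L₂.inv_mem h1))
    have e : l ^ q * (y⁻¹ * l ^ q)⁻¹ = y := by group
    rw [e] at this
    exact this
  · intro x hx y hy
    show π₀ (x * y * x⁻¹ * y⁻¹) ∈ P
    have : x * y * x⁻¹ * y⁻¹ ∈ L₂ := by
      rw [← commutatorElement_def]
      exact Subgroup.commutator_mem_commutator hx hy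
    have h1 : π₀ (x * y * x⁻¹ * y⁻¹) = 1 := (QuotientGroup.eq_one_iff _).mpr this
    rw [h1]
    exact P.one_mem
  · intro y hy
    show π₀ (y ^ q) ∈ P
    exact ⟨π₀ y, ⟨y, hy, rfl⟩, map_pow _ _ _⟩
  · -- the q-power map on V₀ is not surjective
    by_contra hcon
    push Not at hcon
    have hsurj : Function.Surjective (fun x : V₀ => x ^ q) := by
      intro w
      obtain ⟨l, hl, hlw⟩ := w.2
      obtain ⟨w', hw', hw'eq⟩ := hcon l hl
      refine ⟨⟨w', hw'⟩, ?_⟩
      apply Subtype.ext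
      show w' ^ q = (w : G ⧸ L₂)
      rw [← hlw]
      exact hw'eq.symm
    have hinj := Finite.injective_iff_surjective.mpr hsurj
    have h1 : v ^ q = (1 : V₀) ^ q := by
      rw [one_pow, ← hv, pow_orderOf_eq_one]
    have h2 := hinj h1
    rw [h2, orderOf_one] at hv
    exact hq.one_lt.ne hv

omit [Finite G] hP ht in
theorem map_commutator_eq (N : Subgroup G) [N.Normal] :
    commutator (G ⧸ N) = (commutator G).map (QuotientGroup.mk' N) := by
  have hπs : Function.Surjective (QuotientGroup.mk' N) := QuotientGroup.mk'_surjective N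
  have h1 : commutator (G ⧸ N) = ⁅(⊤ : Subgroup (G ⧸ N)), ⊤⁆ := commutator_def _
  have h2 : commutator G = ⁅(⊤ : Subgroup G), ⊤⁆ := commutator_def G
  calc commutator (G ⧸ N) = ⁅(⊤ : Subgroup (G ⧸ N)), ⊤⁆ := h1
    _ = ⁅(⊤ : Subgroup G).map (QuotientGroup.mk' N), (⊤ : Subgroup G).map (QuotientGroup.mk' N)⁆ := by
        rw [Subgroup.map_top_of_surjective _ hπs]
    _ = (⁅(⊤ : Subgroup G), ⊤⁆ : Subgroup G).map (QuotientGroup.mk' N) :=
        (Subgroup.map_commutator _ _ _).symm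
    _ = (commutator G).map (QuotientGroup.mk' N) := congrArg (Subgroup.map _) h2.symm

theorem L_bot [Group.IsSolvable G] {u : ℕ} (htu : orderOf t = 2 ^ u) {a : G}
    (haK : a ∈ commutator G) (haL : a ∉ (⁅commutator G, commutator G⁆ : Subgroup G)) :
    (⁅commutator G, commutator G⁆ : Subgroup G) = ⊥ := by
  by_contra hL
  obtain ⟨N, q, hNn, hq, hNL, hcommN, hE, ⟨y₀, hy₀L, hy₀N⟩⟩ := exists_N hL
  haveI := hNn
  set K := commutator G with hK
  set L : Subgroup G := ⁅K, K⁆ with hLdef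
  have hKn : K.Normal := inferInstance
  have hLn : L.Normal := Subgroup.commutator_normal K K
  have hLK : L ≤ K := Subgroup.commutator_le_left _ _
  set π := QuotientGroup.mk' N with hπ
  have hπs : Function.Surjective π := QuotientGroup.mk'_surjective N
  have hπ1 : ∀ x : G, π x = 1 ↔ x ∈ N := fun x => QuotientGroup.eq_one_iff x
  set V := L.map π with hV
  haveI hVn : V.Normal := Subgroup.Normal.map hLn π hπs
  -- facts in G
  have hK3 : ∀ k ∈ K, k ∈ L ∨ k * a⁻¹ ∈ L ∨ k * a ∈ L := by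
    intro k hk
    by_cases hkL : k ∈ L
    · exact Or.inl hkL
    · right; exact two_cosets hP ht hk haK hkL haL
  have ha3 : a ^ 3 ∈ L := cube_mem hP ht a haK
  have hdecomp : ∀ k ∈ K, ∃ i : Fin 3, ∃ l ∈ L, k = a ^ (i : ℕ) * l := by
    intro k hk
    rcases hK3 k hk with h | h | h
    · exact ⟨0, k, h, by simp⟩
    · refine ⟨1, a⁻¹ * k, ?_, by simp⟩
      have := hLn.conj_mem _ h a⁻¹
      have e : a⁻¹ * (k * a⁻¹) * a⁻¹⁻¹ = a⁻¹ * k := by group
      rw [e] at this; exact this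
    · refine ⟨2, (a ^ 2)⁻¹ * k, ?_, by simp⟩
      have h1 := hLn.conj_mem _ h a
      have h2 := L.mul_mem (L.inv_mem ha3) h1
      have e : (a ^ 3)⁻¹ * (a * (k * a) * a⁻¹) = (a ^ 2)⁻¹ * k := by group
      rw [e] at h2; exact h2
  have ht2 : t * t ∈ L := by
    have h1 : t ^ 2 ∈ K := sq_mem hP t
    have h2 : (t ^ 2) ^ 3 ∈ L := cube_mem hP ht _ h1
    have h3 : (t ^ 2) ^ (2 ^ u) = 1 := by
      rw [← pow_mul, mul_comm, pow_mul, ← htu, pow_orderOf_eq_one, one_pow]
    have hx3 : ((QuotientGroup.mk' L) (t ^ 2)) ^ 3 = 1 := by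
      rw [← map_pow]; exact (QuotientGroup.eq_one_iff _).mpr h2
    have hx2 : ((QuotientGroup.mk' L) (t ^ 2)) ^ (2 ^ u) = 1 := by
      rw [← map_pow, h3, map_one]
    have hd1 := orderOf_dvd_of_pow_eq_one hx3
    have hd2 := orderOf_dvd_of_pow_eq_one hx2
    have hd : orderOf ((QuotientGroup.mk' L) (t ^ 2)) ∣ Nat.gcd 3 (2 ^ u) := Nat.dvd_gcd hd1 hd2
    have hg : Nat.gcd 3 (2 ^ u) = 1 := by
      have : Nat.Coprime 3 (2 ^ u) := Nat.Coprime.pow_right u (by norm_num)
      exact this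
    rw [hg, Nat.dvd_one, orderOf_eq_one_iff] at hd
    have := (QuotientGroup.eq_one_iff _).mp hd
    rwa [pow_two] at this
  -- hypotheses of `no_section`
  have hVcomm : ∀ x ∈ V, ∀ y ∈ V, x * y = y * x := by
    rintro x ⟨l₁, hl₁, rfl⟩ y ⟨l₂, hl₂, rfl⟩
    rw [← map_mul, ← map_mul]
    show (QuotientGroup.mk (l₁ * l₂) : G ⧸ N) = QuotientGroup.mk (l₂ * l₁)
    rw [QuotientGroup.eq]
    have := hcommN _ (L.inv_mem hl₂) _ (L.inv_mem hl₁)
    have e : l₂⁻¹ * l₁⁻¹ * l₂⁻¹⁻¹ * l₁⁻¹⁻¹ = (l₁ * l₂)⁻¹ * (l₂ * l₁) := by group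
    rw [e] at this; exact this
  have hVne : V ≠ ⊥ := by
    intro h
    apply hy₀N
    have : π y₀ ∈ V := ⟨y₀, hy₀L, rfl⟩
    rw [h, Subgroup.mem_bot] at this
    exact (hπ1 _).mp this
  have hexp : ∀ v ∈ V, v ^ q = 1 := by
    rintro v ⟨l, hl, rfl⟩
    rw [← map_pow]
    exact (hπ1 _).mpr (hE l hl)
  have hgen : ∀ g : G ⧸ N, ∃ (ε : Fin 2) (i : Fin 3), ∃ v ∈ V,
      g = (π t) ^ (ε : ℕ) * (π a) ^ (i : ℕ) * v := by
    intro g
    obtain ⟨g₀, rfl⟩ := hπs g
    rcases cov hP ht g₀ with h | h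
    · obtain ⟨i, l, hl, hk⟩ := hdecomp g₀ h
      refine ⟨0, i, π l, ⟨l, hl, rfl⟩, ?_⟩
      rw [hk]; simp
    · obtain ⟨i, l, hl, hk⟩ := hdecomp _ h
      refine ⟨1, i, π l, ⟨l, hl, rfl⟩, ?_⟩
      have : g₀ = t * (a ^ (i : ℕ) * l) := by rw [← hk]; group
      rw [this]; simp [mul_assoc]
  have hα3 : (π a) ^ 3 ∈ V := ⟨a ^ 3, ha3, map_pow _ _ _⟩
  have hinv : (π t)⁻¹ * π a * π t * π a ∈ V := by
    refine ⟨t⁻¹ * a * t * a, ?_, by simp⟩
    have hk : t⁻¹ * a * t ∈ K := by
      have := hKn.conj_mem _ haK t⁻¹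
      simpa using this
    have h1 := inv_mod hP ht _ hk
    have h2 := hLn.conj_mem _ h1 a⁻¹
    have e : a⁻¹ * (t * (t⁻¹ * a * t) * t⁻¹ * (t⁻¹ * a * t)) * a⁻¹⁻¹ = t⁻¹ * a * t * a := by group
    rw [e] at h2; exact h2
  have htrans : ∀ v₁ ∈ V, ∀ v₂ ∈ V, v₁ ≠ 1 → v₂ ≠ 1 → ∃ g : G ⧸ N, g * v₁ * g⁻¹ = v₂ := by
    rintro v₁ ⟨l₁, hl₁, rfl⟩ v₂ ⟨l₂, hl₂, rfl⟩ h1 h2
    have h1N : l₁ ∉ N := fun h => h1 ((hπ1 _).mpr h)
    have h2N : l₂ ∉ N := fun h => h2 ((hπ1 _).mpr h)
    obtain ⟨g, hg⟩ := trans_of_exp hP N L hq hE hl₁ h1N hl₂ h2N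
    refine ⟨π g, ?_⟩
    have := (hπ1 _).mpr hg
    rw [map_mul, map_mul, map_mul, map_inv, map_inv, mul_inv_eq_one] at this
    exact this
  have hαV : ∃ v ∈ V, π a * v ≠ v * π a := by
    by_contra hcon
    push Not at hcon
    apply hy₀N
    have hle : L ≤ N := by
      rw [hLdef, Subgroup.commutator_le]
      intro k₁ hk₁ k₂ hk₂
      obtain ⟨i, l₁, hl₁, rfl⟩ := hdecomp k₁ hk₁
      obtain ⟨j, l₂, hl₂, rfl⟩ := hdecomp k₂ hk₂
      rw [← hπ1, map_commutatorElement, commutatorElement_eq_one_iff_commute]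
      have c1 : Commute (π a) (π l₁) := hcon _ ⟨l₁, hl₁, rfl⟩
      have c2 : Commute (π a) (π l₂) := hcon _ ⟨l₂, hl₂, rfl⟩
      have c3 : Commute (π l₁) (π l₂) := hVcomm _ ⟨l₁, hl₁, rfl⟩ _ ⟨l₂, hl₂, rfl⟩
      rw [map_mul, map_mul, map_pow, map_pow]
      apply Commute.mul_left
      · apply Commute.mul_right
        · exact (Commute.refl (π a)).pow_pow _ _
        · exact c2.pow_left _
      · apply Commute.mul_right
        · exact (c1.pow_left _).symm
        · exact c3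
    exact hle hy₀L
  have hαcomm : π a ∈ commutator (G ⧸ N) := by
    rw [map_commutator_eq]
    exact ⟨a, haK, rfl⟩
  have hτ2 : π t * π t ∈ V := ⟨t * t, ht2, map_mul _ _ _⟩
  have h2 : q = 2 → ∀ v ∈ V, orderOf (π t * v) = orderOf (π t) := by
    rintro hq2 v ⟨l, hl, rfl⟩
    subst hq2
    set x := t * l with hx
    have hx2L : x ^ 2 ∈ L := by
      have h1 : t⁻¹ * l * t ∈ L := by
        have := hLn.conj_mem _ hl t⁻¹
        simpa using this
      have := L.mul_mem (L.mul_mem ht2 h1) hl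
      have e : t * t * (t⁻¹ * l * t) * l = x ^ 2 := by rw [hx, pow_two]; group
      rw [e] at this; exact this
    have hx4N : x ^ 4 ∈ N := by
      have := hE _ hx2L
      rw [← pow_mul] at this
      exact this
    obtain ⟨e, j, u', he, ho⟩ := exists_qpart Nat.prime_two 2 (by norm_num) x
    have hxe : x ^ e = x * (x ^ 4) ^ j := by
      rw [he, pow_add, pow_one, pow_mul]; norm_num
    have hπxe : π (x ^ e) = π x := by
      rw [hxe, map_mul, (hπ1 _).mpr (N.pow_mem hx4N j), mul_one]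
    have hxK : x ∉ K := by
      intro h
      apply ht
      have := K.mul_mem h (K.inv_mem (hLK hl))
      have e' : x * l⁻¹ = t := by rw [hx]; group
      rw [e'] at this; exact this
    have hxeK : x ^ e ∉ K := by
      intro h
      apply hxK
      have h4 : x ^ 4 ∈ K := hLK (hNL hx4N)
      have := K.mul_mem h (K.inv_mem (K.pow_mem h4 j))
      rw [hxe] at this
      simpa using this
    have hE' : ∀ z ∈ (⊤ : Subgroup G), z ^ 2 ∈ K := fun z _ => sq_mem hP z
    have hc := conj_of_qelem hP K ⊤ Nat.prime_two hE' (Subgroup.mem_top _) hxeK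
      (Subgroup.mem_top t) ht ho htu
    obtain ⟨g, hg⟩ := isConj_iff.mp hc
    have hsc : SemiconjBy (π g) (π x) (π t) := by
      show π g * π x = π t * π g
      rw [← hπxe, ← map_mul, ← map_mul, ← hg]
      congr 1
      group
    have : π x = π t * π l := map_mul _ _ _
    rw [← this]
    exact hsc.orderOf_eq
  exact no_section V hVcomm hVne hq hexp (π a) (π t) hgen hα3 hinv htrans hαV hαcomm hτ2 h2

end Part4

theorem main [Group.IsSolvable G] (hP : SOC G) :
    Nat.card G = 1 ∨ Nat.card G = 2 ∨ Nonempty (G ≃* Equiv.Perm (Fin 3)) := by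
  by_cases hnt : Nontrivial G
  swap
  · left
    rw [not_nontrivial_iff_subsingleton] at hnt
    exact Nat.card_of_subsingleton 1
  have hKlt : commutator G < ⊤ := Group.IsSolvable.commutator_lt_top_of_nontrivial G
  obtain ⟨t₀, -, ht₀⟩ := SetLike.exists_of_lt hKlt
  obtain ⟨e, j, u, he, htu⟩ := exists_qpart Nat.prime_two 1 le_rfl t₀
  have ht : t₀ ^ e ∉ commutator G := by
    intro h
    apply ht₀
    have h1 : t₀ ^ e = t₀ * (t₀ ^ 2) ^ j := by
      rw [he, pow_add, pow_one, pow_mul, pow_one]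
    rw [h1] at h
    have := (commutator G).mul_mem h ((commutator G).inv_mem ((commutator G).pow_mem (sq_mem hP t₀) j))
    simpa using this
  set t := t₀ ^ e with htdef
  set K := commutator G with hK
  have hKn : K.Normal := inferInstance
  have hKidx : K.index = 2 := by
    rw [Subgroup.index_eq_two_iff]
    refine ⟨t, fun b => ?_⟩
    by_cases hb : b ∈ K
    · refine Or.inr ⟨hb, ?_⟩
      intro h
      apply ht
      have := K.mul_mem (K.inv_mem hb) h
      simpa using this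
    · refine Or.inl ⟨?_, hb⟩
      have h1 := index_two hP hb ht
      have h2 := K.mul_mem h1 (sq_mem hP t)
      have e' : b * t⁻¹ * t ^ 2 = b * t := by group
      rw [e'] at h2
      exact h2
  set L : Subgroup G := ⁅K, K⁆ with hL
  have hLK : L ≤ K := Subgroup.commutator_le_left _ _
  by_cases hKL : K ≤ L
  · have hKbot : K = ⊥ := by
      by_contra h
      have h1 : L < K := Group.IsSolvable.commutator_lt_of_ne_bot h
      exact absurd (lt_of_lt_of_le h1 hKL) (lt_irrefl _)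
    right; left
    rw [← K.card_mul_index, hKidx, hKbot, Subgroup.card_bot]
  · obtain ⟨a, haK, haL⟩ := SetLike.not_le_iff_exists.mp hKL
    have hLbot : L = ⊥ := L_bot hP ht htu haK haL
    right; right
    have hLmem : ∀ x : G, x ∈ L → x = 1 := by
      intro x hx
      rw [hLbot, Subgroup.mem_bot] at hx
      exact hx
    have ha3 : a ^ 3 = 1 := hLmem _ (cube_mem hP ht a haK)
    have ha1 : a ≠ 1 := fun h => haL (h ▸ L.one_mem)
    haveI : Fact (Nat.Prime 3) := ⟨Nat.prime_three⟩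
    haveI : Fact (Nat.Prime 2) := ⟨Nat.prime_two⟩
    have hoa : orderOf a = 3 := orderOf_eq_prime ha3 ha1
    have hKa : K = Subgroup.zpowers a := by
      apply le_antisymm
      · intro k hk
        by_cases hkL : k ∈ L
        · rw [hLmem k hkL]; exact Subgroup.one_mem _
        · rcases two_cosets hP ht hk haK hkL haL with h | h
          · have h1 := hLmem _ h
            have : k = a := by
              calc k = (k * a⁻¹) * a := by group
                _ = a := by rw [h1, one_mul]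
            rw [this]; exact Subgroup.mem_zpowers a
          · have h1 := hLmem _ h
            have : k = a⁻¹ := eq_inv_of_mul_eq_one_left h1
            rw [this]; exact Subgroup.inv_mem _ (Subgroup.mem_zpowers a)
      · rw [Subgroup.zpowers_le]; exact haK
    have hcardK : Nat.card K = 3 := by rw [hKa, Nat.card_zpowers, hoa]
    have hcardG : Nat.card G = 6 := by rw [← K.card_mul_index, hcardK, hKidx]
    have htt : t ^ 2 = 1 := by
      have h1 : (t ^ 2) ^ 3 = 1 := hLmem _ (cube_mem hP ht _ (sq_mem hP t))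
      have h3 : (t ^ 2) ^ (2 ^ u) = 1 := by
        rw [← pow_mul, mul_comm, pow_mul, ← htu, pow_orderOf_eq_one, one_pow]
      have hd : orderOf (t ^ 2) ∣ Nat.gcd 3 (2 ^ u) :=
        Nat.dvd_gcd (orderOf_dvd_of_pow_eq_one h1) (orderOf_dvd_of_pow_eq_one h3)
      have hg : Nat.gcd 3 (2 ^ u) = 1 := by
        have : Nat.Coprime 3 (2 ^ u) := Nat.Coprime.pow_right u (by norm_num)
        exact this
      rw [hg, Nat.dvd_one, orderOf_eq_one_iff] at hd
      exact hd
    have ht1 : t ≠ 1 := fun h => ht (h ▸ K.one_mem)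
    have hot : orderOf t = 2 := orderOf_eq_prime htt ht1
    have hinv : t * a * t⁻¹ = a⁻¹ := eq_inv_of_mul_eq_one_left (hLmem _ (inv_mod hP ht a haK))
    set H := Subgroup.zpowers t with hH
    have hHmem : ∀ x ∈ H, x = 1 ∨ x = t := by
      intro x hx
      obtain ⟨k, rfl⟩ := Subgroup.mem_zpowers_iff.mp hx
      rw [← zpow_mod_orderOf, hot]
      have h1 : (0 : ℤ) ≤ k % 2 := Int.emod_nonneg _ (by norm_num)
      have h2 : k % 2 < 2 := Int.emod_lt_of_pos _ (by norm_num)
      have : k % 2 = 0 ∨ k % 2 = 1 := by omega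
      rcases this with h | h
      · left; rw [show (k % ((2 : ℕ) : ℤ)) = 0 from h, zpow_zero]
      · right; rw [show (k % ((2 : ℕ) : ℤ)) = 1 from h, zpow_one]
    let φ := MulAction.toPermHom G (G ⧸ H)
    have hker : ∀ x, φ x = 1 → x = 1 := by
      intro x hx
      have hxc : x ∈ H.normalCore := by
        rw [Subgroup.normalCore_eq_ker]
        exact hx
      by_contra hx1
      have hxt : x = t := by
        rcases hHmem x (Subgroup.normalCore_le H hxc) with h | h
        · exact absurd h hx1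
        · exact h
      rw [hxt] at hxc
      have hcn : H.normalCore.Normal := Subgroup.normalCore_normal H
      have h1 := Subgroup.normalCore_le H (hcn.conj_mem _ hxc a)
      rcases hHmem _ h1 with h | h
      · apply ht1
        have : t = a⁻¹ * (a * t * a⁻¹) * a := by group
        rw [this, h]; group
      · -- a t = t a
        have h2 : t * a * t⁻¹ = a := by
          calc t * a * t⁻¹ = (a * t * a⁻¹) * a * t⁻¹ := by rw [h]
            _ = a := by group
        rw [hinv] at h2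
        -- a⁻¹ = a, a^3 = 1 ⇒ a = 1
        apply ha1
        have h3 : a ^ 2 = 1 := by
          calc a ^ 2 = a * a := pow_two a
            _ = a⁻¹ * a := by rw [h2]
            _ = 1 := by group
        calc a = a ^ 3 * (a ^ 2)⁻¹ := by group
          _ = 1 := by rw [ha3, h3]; group
    have hinj : Function.Injective φ := (injective_iff_map_eq_one φ).mpr hker
    have hcardH : Nat.card H = 2 := by rw [hH, Nat.card_zpowers, hot]
    have hidx : H.index = 3 := by
      have := H.card_mul_index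
      rw [hcardH, hcardG] at this
      omega
    have hcq : Nat.card (G ⧸ H) = 3 := hidx
    haveI : Finite (G ⧸ H) := inferInstance
    let e₃ : (G ⧸ H) ≃ Fin 3 := Finite.equivFinOfCardEq hcq
    let ψ : G →* Equiv.Perm (Fin 3) := (e₃.permCongrHom.toMonoidHom).comp φ
    have hψinj : Function.Injective ψ := e₃.permCongrHom.injective.comp hinj
    have hbij : Function.Bijective ψ := by
      rw [Nat.bijective_iff_injective_and_card]
      refine ⟨hψinj, ?_⟩
      rw [hcardG, Nat.card_perm, Nat.card_fin]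
      rfl
    exact ⟨MulEquiv.ofBijective ψ hbij⟩

end Cfsg.Agent.Lib.Helper3_SameOrder2
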