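import Mathlib
import Cfsg.Agent.Lib.Helper3_Conj

set_option autoImplicit false

/-! Chains of "steps" `s₁, …, sₙ` such that all partial right-conjugates of a set `X` stay in a
subgroup `T`, each step satisfying a predicate `St`. -/

namespace Cfsg.Agent.Lib.Helper3_StepChain

open Cfsg.Agent.Lib.Helper3_Conj

variable {G : Type*} [Group G]

/-- positions `c, c*s₁, c*s₁*s₂, …` all conjugate `X` into `T` (right conjugation `x ↦ c⁻¹ x c`),
and every step satisfies `St`. -/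
def ChS (T : Subgroup G) (St : G → Prop) (X : Set G) : G → List G → Prop
  | c, [] => ∀ x ∈ X, c⁻¹ * x * c ∈ T
  | c, s :: l => St s ∧ (∀ x ∈ X, c⁻¹ * x * c ∈ T) ∧ ChS T St X (c * s) l

/-- reversed list of inverses -/
def rinvS (l : List G) : List G := (l.map (fun s => s⁻¹)).reverse

theorem rinvS_cons (s : G) (l : List G) : rinvS (s :: l) = rinvS l ++ [s⁻¹] := by simp [rinvS]

theorem prod_rinvS (l : List G) : (rinvS l).prod = l.prod⁻¹ := by
  induction l with
  | nil => simp [rinvS]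
  | cons s l ih =>
    rw [rinvS_cons, List.prod_append, ih, List.prod_cons, List.prod_cons, List.prod_nil, mul_one,
      mul_inv_rev]

section

variable (T : Subgroup G) (St : G → Prop)

theorem chS_head (X : Set G) : ∀ (l : List G) (c : G), ChS T St X c l → ∀ x ∈ X, c⁻¹ * x * c ∈ T
  | [], _, h => h
  | _ :: _, _, h => h.2.1

theorem chS_last (X : Set G) : ∀ (l : List G) (c : G), ChS T St X c l →
    ∀ x ∈ X, (c * l.prod)⁻¹ * x * (c * l.prod) ∈ T
  | [], c, h => by
    have h' : ∀ x ∈ X, c⁻¹ * x * c ∈ T := h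
    simpa using h'
  | s :: l, c, h => by
    have := chS_last X l (c * s) h.2.2
    rw [List.prod_cons, ← mul_assoc]
    exact this

theorem chS_append (X : Set G) : ∀ (l₁ l₂ : List G) (c : G), ChS T St X c l₁ →
    ChS T St X (c * l₁.prod) l₂ → ChS T St X c (l₁ ++ l₂)
  | [], l₂, c, _, h2 => by simpa using h2
  | s :: l₁, l₂, c, h1, h2 => by
    refine ⟨h1.1, h1.2.1, ?_⟩
    apply chS_append X l₁ l₂ (c * s) h1.2.2
    rw [List.prod_cons, ← mul_assoc] at h2
    exact h2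

theorem chS_mono {X Y : Set G} (hYX : Y ⊆ X) : ∀ (l : List G) (c : G), ChS T St X c l →
    ChS T St Y c l
  | [], _, h => fun x hx => h x (hYX hx)
  | s :: l, c, h => ⟨h.1, fun x hx => h.2.1 x (hYX hx), chS_mono hYX l (c * s) h.2.2⟩

theorem chS_conj (X X' : Set G) (g : G) (hXX' : ∀ x ∈ X, g⁻¹ * x * g ∈ X') :
    ∀ (l : List G) (c : G), ChS T St X' c l → ChS T St X (g * c) l
  | [], c, h => by
    intro x hx
    have := h _ (hXX' x hx)
    have e : (g * c)⁻¹ * x * (g * c) = c⁻¹ * (g⁻¹ * x * g) * c := by group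
    rw [e]; exact this
  | s :: l, c, h => by
    refine ⟨h.1, ?_, ?_⟩
    · intro x hx
      have := h.2.1 _ (hXX' x hx)
      have e : (g * c)⁻¹ * x * (g * c) = c⁻¹ * (g⁻¹ * x * g) * c := by group
      rw [e]; exact this
    · rw [mul_assoc]
      exact chS_conj X X' g hXX' l (c * s) h.2.2

theorem chS_conj' (X X' : Set G) (g : G) (hX'X : ∀ x' ∈ X', g * x' * g⁻¹ ∈ X) :
    ∀ (l : List G) (c : G), ChS T St X (g * c) l → ChS T St X' c l
  | [], c, h => by
    intro x hx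
    have := h _ (hX'X x hx)
    have e : (g * c)⁻¹ * (g * x * g⁻¹) * (g * c) = c⁻¹ * x * c := by group
    rwa [e] at this
  | s :: l, c, h => by
    refine ⟨h.1, ?_, ?_⟩
    · intro x hx
      have := h.2.1 _ (hX'X x hx)
      have e : (g * c)⁻¹ * (g * x * g⁻¹) * (g * c) = c⁻¹ * x * c := by group
      rwa [e] at this
    · apply chS_conj' X X' g hX'X l (c * s)
      rw [← mul_assoc]; exact h.2.2

theorem chS_reverse (hSt : ∀ s, St s → St s⁻¹) (X : Set G) : ∀ (l : List G) (c : G),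
    ChS T St X c l → ChS T St X (c * l.prod) (rinvS l)
  | [], c, h => by
    have h' : ∀ x ∈ X, c⁻¹ * x * c ∈ T := h
    show ∀ x ∈ X, (c * ([] : List G).prod)⁻¹ * x * (c * ([] : List G).prod) ∈ T
    simpa using h'
  | s :: l, c, h => by
    rw [rinvS_cons]
    have ih := chS_reverse hSt X l (c * s) h.2.2
    have e1 : c * (s :: l).prod = c * s * l.prod := by rw [List.prod_cons, mul_assoc]
    rw [e1]
    apply chS_append T St X _ _ _ ih
    rw [prod_rinvS]
    have e2 : c * s * l.prod * l.prod⁻¹ = c * s := by group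
    rw [e2]
    refine ⟨hSt s h.1, chS_head T St X l (c * s) h.2.2, ?_⟩
    have e3 : c * s * s⁻¹ = c := by group
    show ∀ x ∈ X, (c * s * s⁻¹)⁻¹ * x * (c * s * s⁻¹) ∈ T
    rw [e3]
    exact h.2.1

theorem chS_take (X : Set G) : ∀ (l : List G) (c : G), ChS T St X c l → ∀ k ≤ l.length,
    ∀ x ∈ X, (c * (l.take k).prod)⁻¹ * x * (c * (l.take k).prod) ∈ T
  | [], c, h, k, _ => by
    intro x hx
    simpa using h x hx
  | s :: l, c, h, 0, _ => by
    intro x hx
    simpa using h.2.1 x hx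
  | s :: l, c, h, k + 1, hk => by
    intro x hx
    have hk' : k ≤ l.length := by simpa using hk
    have := chS_take X l (c * s) h.2.2 k hk' x hx
    simpa [mul_assoc] using this

theorem chS_all (X : Set G) : ∀ (l : List G) (c : G), ChS T St X c l → ∀ s ∈ l, St s
  | [], _, _ => by simp
  | s :: l, c, h => by
    intro t ht
    rcases List.mem_cons.mp ht with rfl | ht
    · exact h.1
    · exact chS_all X l (c * s) h.2.2 t ht

theorem chS_of_take (X : Set G) : ∀ (l : List G) (c : G), (∀ s ∈ l, St s) →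
    (∀ k ≤ l.length, ∀ x ∈ X, (c * (l.take k).prod)⁻¹ * x * (c * (l.take k).prod) ∈ T) →
    ChS T St X c l
  | [], c, _, h => by
    intro x hx
    simpa using h 0 (Nat.le_refl _) x hx
  | s :: l, c, hs, h => by
    refine ⟨hs s (List.mem_cons_self), ?_, ?_⟩
    · intro x hx
      simpa using h 0 (Nat.zero_le _) x hx
    · apply chS_of_take X l (c * s) (fun t ht => hs t (List.mem_cons_of_mem _ ht))
      intro k hk x hx
      have := h (k + 1) (by simpa using hk) x hx
      simpa [mul_assoc] using this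

/-- `a` acts on `X` (by right conjugation) as the product of a chain of steps. -/
def GoodR (X : Set G) (a : G) : Prop :=
  ∃ l : List G, ChS T St X 1 l ∧ ∀ x ∈ X, a⁻¹ * x * a = l.prod⁻¹ * x * l.prod

theorem goodR_one (X : Set G) (hX : ∀ x ∈ X, x ∈ T) : GoodR T St X 1 := by
  refine ⟨[], ?_, fun x _ => by simp⟩
  intro x hx
  simpa using hX x hx

theorem goodR_congr (X : Set G) (a a' : G) (h : ∀ x ∈ X, a⁻¹ * x * a = a'⁻¹ * x * a')
    (hg : GoodR T St X a) : GoodR T St X a' := by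
  obtain ⟨l, hl, hla⟩ := hg
  exact ⟨l, hl, fun x hx => (h x hx).symm.trans (hla x hx)⟩

theorem goodR_mono {X Y : Set G} (hYX : Y ⊆ X) (a : G) (hg : GoodR T St X a) : GoodR T St Y a := by
  obtain ⟨l, hl, hla⟩ := hg
  exact ⟨l, chS_mono T St hYX l 1 hl, fun x hx => hla x (hYX hx)⟩

theorem goodR_comp (X X' : Set G) (a a' : G) (hXX' : ∀ x ∈ X, a⁻¹ * x * a ∈ X')
    (hg : GoodR T St X a) (hg' : GoodR T St X' a') : GoodR T St X (a * a') := by
  obtain ⟨l₁, hl₁, ha₁⟩ := hg
  obtain ⟨l₂, hl₂, ha₂⟩ := hg'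
  refine ⟨l₁ ++ l₂, ?_, ?_⟩
  · apply chS_append T St X _ _ _ hl₁
    rw [one_mul]
    have := chS_conj T St X X' l₁.prod (fun x hx => by rw [← ha₁ x hx]; exact hXX' x hx) l₂ 1 hl₂
    rwa [mul_one] at this
  · intro x hx
    rw [List.prod_append]
    calc (a * a')⁻¹ * x * (a * a') = a'⁻¹ * (a⁻¹ * x * a) * a' := by group
      _ = l₂.prod⁻¹ * (a⁻¹ * x * a) * l₂.prod := ha₂ _ (hXX' x hx)
      _ = l₂.prod⁻¹ * (l₁.prod⁻¹ * x * l₁.prod) * l₂.prod := by rw [ha₁ x hx]
      _ = (l₁.prod * l₂.prod)⁻¹ * x * (l₁.prod * l₂.prod) := by group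

theorem goodR_inv (hSt : ∀ s, St s → St s⁻¹) (X X' : Set G) (a : G)
    (hX'X : ∀ x' ∈ X', a * x' * a⁻¹ ∈ X) (hg : GoodR T St X a) : GoodR T St X' a⁻¹ := by
  obtain ⟨l, hl, hla⟩ := hg
  have hrev := chS_reverse T St hSt X l 1 hl
  rw [one_mul] at hrev
  have key : ∀ x' ∈ X', l.prod * x' * l.prod⁻¹ = a * x' * a⁻¹ := by
    intro x' hx'
    have h1 := hla _ (hX'X x' hx')
    have e : a⁻¹ * (a * x' * a⁻¹) * a = x' := by group
    rw [e] at h1
    calc l.prod * x' * l.prod⁻¹ = l.prod * (l.prod⁻¹ * (a * x' * a⁻¹) * l.prod) * l.prod⁻¹ := by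
          rw [← h1]
      _ = a * x' * a⁻¹ := by group
  refine ⟨rinvS l, ?_, ?_⟩
  · apply chS_conj' T St X X' l.prod (fun x' hx' => by rw [key x' hx']; exact hX'X x' hx') (rinvS l) 1
    rw [mul_one]; exact hrev
  · intro x' hx'
    rw [prod_rinvS, inv_inv, inv_inv, key x' hx']

theorem goodR_step (X : Set G) (s : G) (hs : St s) (hX : ∀ x ∈ X, x ∈ T)
    (hXs : ∀ x ∈ X, s⁻¹ * x * s ∈ T) : GoodR T St X s := by
  refine ⟨[s], ⟨hs, ?_, ?_⟩, fun x _ => by simp⟩
  · intro x hx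
    simpa using hX x hx
  · intro x hx
    show (1 * s)⁻¹ * x * (1 * s) ∈ T
    rw [one_mul]; exact hXs x hx

end

/-- conjugating a list of steps -/
theorem prod_map_conj (u : G) (l : List G) :
    (l.map (fun s => u * s * u⁻¹)).prod = u * l.prod * u⁻¹ := by
  induction l with
  | nil => simp
  | cons s l ih =>
    rw [List.map_cons, List.prod_cons, ih, List.prod_cons]; group

theorem chS_map_conj (T : Subgroup G) (St St' : G → Prop) (u : G)
    (hSt : ∀ s, St s → St' (u * s * u⁻¹)) (X X' : Set G) (hXX' : ∀ x ∈ X, u⁻¹ * x * u ∈ X') :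
    ∀ (l : List G) (c : G), ChS T St X' c l →
      ChS (T.map (MulAut.conj u).toMonoidHom) St' X (u * c * u⁻¹) (l.map (fun s => u * s * u⁻¹))
  | [], c, h => by
    intro x hx
    have := h _ (hXX' x hx)
    have e : (u * c * u⁻¹)⁻¹ * x * (u * c * u⁻¹) = u * (c⁻¹ * (u⁻¹ * x * u) * c) * u⁻¹ := by group
    rw [e]
    exact conj_mem_map_conj T u _ this
  | s :: l, c, h => by
    refine ⟨hSt s h.1, ?_, ?_⟩
    · intro x hx
      have := h.2.1 _ (hXX' x hx)
      have e : (u * c * u⁻¹)⁻¹ * x * (u * c * u⁻¹) = u * (c⁻¹ * (u⁻¹ * x * u) * c) * u⁻¹ := by group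
      rw [e]
      exact conj_mem_map_conj T u _ this
    · have e : u * c * u⁻¹ * (u * s * u⁻¹) = u * (c * s) * u⁻¹ := by group
      rw [e]
      exact chS_map_conj T St St' u hSt X X' hXX' l (c * s) h.2.2

theorem goodR_map_conj (T : Subgroup G) (St St' : G → Prop) (u : G)
    (hSt : ∀ s, St s → St' (u * s * u⁻¹)) (X X' : Set G) (hXX' : ∀ x ∈ X, u⁻¹ * x * u ∈ X')
    (a : G) (hg : GoodR T St X' (u⁻¹ * a * u)) :
    GoodR (T.map (MulAut.conj u).toMonoidHom) St' X a := by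
  obtain ⟨l, hl, hla⟩ := hg
  refine ⟨l.map (fun s => u * s * u⁻¹), ?_, ?_⟩
  · have := chS_map_conj T St St' u hSt X X' hXX' l 1 hl
    have e : u * 1 * u⁻¹ = 1 := by group
    rwa [e] at this
  · intro x hx
    rw [prod_map_conj]
    have h1 := hla _ (hXX' x hx)
    calc a⁻¹ * x * a = u * ((u⁻¹ * a * u)⁻¹ * (u⁻¹ * x * u) * (u⁻¹ * a * u)) * u⁻¹ := by group
      _ = u * (l.prod⁻¹ * (u⁻¹ * x * u) * l.prod) * u⁻¹ := by rw [h1]
      _ = (u * l.prod * u⁻¹)⁻¹ * x * (u * l.prod * u⁻¹) := by group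

end Cfsg.Agent.Lib.Helper3_StepChain
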