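import Mathlib
import Cfsg.Prelude.Def_Local
import Cfsg.Agent.Lib.Helper3_Conj
import Cfsg.Agent.Lib.Helper3_SylowRel
import Cfsg.Agent.Lib.Helper3_Alperin
import Cfsg.Agent.Lib.Helper3_Tight

set_option autoImplicit false

namespace Cfsg.Agent.Lib.Helper3_Tight2
open Cfsg Cfsg.Agent.Lib.Helper3_Conj Cfsg.Agent.Lib.Helper3_SylowRel
  Cfsg.Agent.Lib.Helper3_Tight Cfsg.Agent.Lib.Helper3_Alperin
open scoped commutatorElement

variable {G : Type*} [Group G]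

local notation:max "cj(" x ", " H ")" => Subgroup.map (MulEquiv.toMonoidHom (MulAut.conj x)) H
local notation:max "Nz(" H ")" => Subgroup.normalizer (SetLike.coe H)

/-- a conjugation-closed family of subgroups that is TI for `2`-subgroups -/
structure Fam (C : Subgroup G → Prop) : Prop where
  conj : ∀ A x, C A → C cj(x, A)
  ti : ∀ A B, C A → C B → ∀ P : Subgroup G, IsPGroup 2 P → P ≠ ⊥ → P ≤ A → P ≤ B → A = B
  card : ∀ A B, C A → C B → Nat.card A = Nat.card B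

/-- the configuration -/
structure Cfg (C : Subgroup G → Prop) (Q Q' T S : Subgroup G) : Prop where
  cQ : C Q
  cQ' : C Q'
  ne : Q' ≠ Q
  T1 : T ≠ ⊥
  hT : T ≤ Q' ⊓ Nz(Q)
  T2 : IsPGroup 2 T
  Tsyl : ¬ 2 ∣ T.relIndex (Q' ⊓ Nz(Q))
  hTS : T ≤ S
  hS : S ≤ Q ⊔ T
  S2 : IsPGroup 2 S
  Ssyl : ¬ 2 ∣ S.relIndex (Q ⊔ T)

variable {C : Subgroup G → Prop} {Q Q' T S : Subgroup G}

theorem Cfg.inf_eq_bot (F : Fam C) (h : Cfg C Q Q' T S) : T ⊓ Q = ⊥ := by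
  by_contra hne
  exact h.ne (F.ti Q' Q h.cQ' h.cQ (T ⊓ Q) (h.T2.to_le inf_le_left) hne
    (inf_le_left.trans (h.hT.trans inf_le_left)) inf_le_right)

theorem Cfg.comm (F : Fam C) (h : Cfg C Q Q' T S) (x : G) (hx : x ∈ T) (r : G)
    (hrN : r ∈ Nz(T)) (hrQ : r ∈ Q) : x * r = r * x := by
  have h1 : ⁅x, r⁆ ∈ T ⊓ Q := by
    constructor
    · have h2 : r * x⁻¹ * r⁻¹ ∈ T :=
        ((Subgroup.mem_normalizer_iff.mp hrN) x⁻¹).mp (T.inv_mem hx)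
      have e : ⁅x, r⁆ = x * (r * x⁻¹ * r⁻¹) := by rw [commutatorElement_def]; group
      rw [e]; exact T.mul_mem hx h2
    · have hxN : x ∈ Nz(Q) := (h.hT hx).2
      have h2 : x * r * x⁻¹ ∈ Q := ((Subgroup.mem_normalizer_iff.mp hxN) r).mp hrQ
      rw [commutatorElement_def]
      exact Q.mul_mem h2 (Q.inv_mem hrQ)
  rw [h.inf_eq_bot F, Subgroup.mem_bot, commutatorElement_def] at h1
  calc x * r = (x * r * x⁻¹ * r⁻¹) * (r * x) := by group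
    _ = r * x := by rw [h1, one_mul]

theorem Cfg.decomp (h : Cfg C Q Q' T S) (y : G) (hy : y ∈ S ⊓ Nz(T)) :
    ∃ r ∈ S ⊓ Nz(T) ⊓ Q, ∃ t ∈ T, y = r * t := by
  obtain ⟨q, hq, t, ht, rfl⟩ := mem_sup_of_le_normalizer Q T (h.hT.trans inf_le_right) y (h.hS hy.1)
  refine ⟨q, ⟨⟨?_, ?_⟩, hq⟩, t, ht, rfl⟩
  · have := S.mul_mem hy.1 (S.inv_mem (h.hTS ht))
    simpa using this
  · have := (Nz(T)).mul_mem hy.2 ((Nz(T)).inv_mem (Subgroup.le_normalizer ht))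
    simpa using this

theorem Cfg.T_le (h : Cfg C Q Q' T S) : T ≤ S ⊓ Nz(T) := le_inf h.hTS Subgroup.le_normalizer

theorem Cfg.sup_eq (h : Cfg C Q Q' T S) : T ⊔ (S ⊓ Nz(T) ⊓ Q) = S ⊓ Nz(T) := by
  apply le_antisymm
  · exact sup_le h.T_le inf_le_left
  · intro y hy
    obtain ⟨r, hr, t, ht, rfl⟩ := h.decomp y hy
    exact Subgroup.mul_mem _ (Subgroup.mem_sup_right hr) (Subgroup.mem_sup_left ht)

theorem Cfg.R_le (F : Fam C) (h : Cfg C Q Q' T S) : S ⊓ Nz(T) ⊓ Q ≤ Q ⊓ Nz(Q') := by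
  intro r hr
  refine ⟨hr.2, ?_⟩
  apply mem_normalizer_of_map_conj_eq_self
  refine F.ti _ _ (F.conj _ r h.cQ') h.cQ' T h.T2 h.T1 ?_ (h.hT.trans inf_le_left)
  intro t ht
  rw [mem_map_conj]
  have hc := h.comm F t ht r hr.1.2 hr.2
  have e : r⁻¹ * t * r = t := by
    calc r⁻¹ * t * r = r⁻¹ * (t * r) := by group
      _ = r⁻¹ * (r * t) := by rw [hc]
      _ = t := by group
  rw [e]
  exact (h.hT ht).1

theorem Cfg.card_N_le [Finite G] (h : Cfg C Q Q' T S) :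
    Nat.card ↥(S ⊓ Nz(T)) ≤ Nat.card ↥(S ⊓ Nz(T) ⊓ Q) * Nat.card T :=
  card_le_mul _ _ _ (fun y hy => h.decomp y hy)

theorem exists_normalizing [Finite G] (S N : Subgroup G) (hS : IsPGroup 2 S) (hNS : N ≤ S)
    (hne : N ≠ S) : ∃ x ∈ S, x ∈ Nz(N) ∧ x ∉ N := by
  haveI : Fact (Nat.Prime 2) := ⟨Nat.prime_two⟩
  have hlt := card_lt_card_inf_normalizer S N hS hNS hne
  by_contra hcon
  push Not at hcon
  have h1 : S ⊓ Nz(N) ≤ N := fun x hx => hcon x hx.1 hx.2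
  exact absurd (Subgroup.card_le_of_le h1) (not_le_of_gt hlt)

/-- case A: a second complement -/
theorem Cfg.caseA [Finite G] (F : Fam C) (h : Cfg C Q Q' T S) (hA : ¬ S ≤ Nz(T)) :
    ∃ x : G, cj(x, T) ≤ S ⊓ Nz(T) ∧ cj(x, T) ⊓ T = ⊥ := by
  have hne : S ⊓ Nz(T) ≠ S := by
    intro h1
    apply hA
    rw [← h1]; exact inf_le_right
  obtain ⟨x, hxS, hxN, hxn⟩ := exists_normalizing S (S ⊓ Nz(T)) h.S2 inf_le_left hne
  have hxT : x ∉ Nz(T) := fun h1 => hxn ⟨hxS, h1⟩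
  have hT'N : cj(x, T) ≤ S ⊓ Nz(T) := by
    have h1 : cj(x, T) ≤ cj(x, S ⊓ Nz(T)) := Subgroup.map_mono h.T_le
    have h2 : cj(x, S ⊓ Nz(T)) = S ⊓ Nz(T) := map_conj_eq_self_of_mem_normalizer _ x hxN
    rw [h2] at h1
    exact h1
  have hT'ne : cj(x, T) ≠ T := fun h1 => hxT (mem_normalizer_of_map_conj_eq_self T x h1)
  refine ⟨x, hT'N, ?_⟩
  by_contra hne2
  have hTQ' : T ≤ Q' := h.hT.trans inf_le_left
  have hTNQ : T ≤ Nz(Q) := h.hT.trans inf_le_right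
  have hT'Q' : cj(x, T) ≤ cj(x, Q') := Subgroup.map_mono hTQ'
  have hP2 : IsPGroup 2 ↥(cj(x, T) ⊓ T) := h.T2.to_le inf_le_right
  have h1 : cj(x, Q') = Q' :=
    F.ti _ _ (F.conj _ x h.cQ') h.cQ' (cj(x, T) ⊓ T) hP2 hne2
      (inf_le_left.trans hT'Q') (inf_le_right.trans hTQ')
  have hQTN : Q ⊔ T ≤ Nz(Q) := sup_le Subgroup.le_normalizer hTNQ
  have hxQ : x ∈ Nz(Q) := hQTN (h.hS hxS)
  have h2 : cj(x, Nz(Q)) = Nz(Q) :=
    map_conj_eq_self_of_mem_normalizer _ x (Subgroup.le_normalizer hxQ)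
  have h3 : cj(x, T) ≤ Q' ⊓ Nz(Q) := by
    have h4 : cj(x, T) ≤ cj(x, Q' ⊓ Nz(Q)) := Subgroup.map_mono h.hT
    rw [cj_inf, h1, h2] at h4
    exact h4
  have hle : T ⊔ cj(x, T) ≤ Q' ⊓ Nz(Q) := sup_le h.hT h3
  have hle2 : T ⊔ cj(x, T) ≤ S := sup_le h.hTS (hT'N.trans inf_le_left)
  have h2g : IsPGroup 2 ↥(T ⊔ cj(x, T)) := h.S2.to_le hle2
  have h4 : T = T ⊔ cj(x, T) :=
    syl_max T (Q' ⊓ Nz(Q)) (T ⊔ cj(x, T)) h.hT h.T2 h.Tsyl le_sup_left hle h2g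
  have h5 : cj(x, T) ≤ T :=
    le_of_le_of_eq (le_sup_right : cj(x, T) ≤ T ⊔ cj(x, T)) h4.symm
  exact hT'ne (cj_eq_of_le x T h5)

/-- case B: `R` has odd index in `Q` -/
theorem Cfg.caseB [Finite G] (F : Fam C) (h : Cfg C Q Q' T S) (hB : S ≤ Nz(T)) :
    Nat.card Q = Nat.card ↥(S ⊓ Nz(T) ⊓ Q) * S.relIndex (Q ⊔ T) := by
  have hNS : S ⊓ Nz(T) = S := inf_of_le_left hB
  have hTQ : Q ⊓ T = ⊥ := by rw [inf_comm]; exact h.inf_eq_bot F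
  have hTN : T ≤ Nz(Q) := h.hT.trans inf_le_right
  have c1 : Nat.card ↥(Q ⊔ T) = Nat.card Q * Nat.card T := by
    apply le_antisymm
    · exact card_le_mul Q T (Q ⊔ T) (fun y hy => mem_sup_of_le_normalizer Q T hTN y hy)
    · exact card_mul_le Q T (Q ⊔ T) le_sup_left le_sup_right hTQ
  have c2 : Nat.card S = Nat.card ↥(S ⊓ Nz(T) ⊓ Q) * Nat.card T := by
    apply le_antisymm
    · calc Nat.card S = Nat.card ↥(S ⊓ Nz(T)) := by rw [hNS]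
        _ ≤ _ := h.card_N_le
    · apply card_mul_le _ _ S (inf_le_left.trans inf_le_left) h.hTS
      rw [eq_bot_iff, ← hTQ]
      exact le_inf (inf_le_left.trans inf_le_right) inf_le_right
  have c3 := card_mul_relIndex S (Q ⊔ T) h.hS
  rw [c1, c2] at c3
  have hpos : 0 < Nat.card T := Nat.card_pos
  apply Nat.eq_of_mul_eq_mul_right hpos
  rw [← c3]; ring

theorem Cfg.L1 [Finite G] (F : Fam C) (h : Cfg C Q Q' T S) :
    Nat.card T ≤ Nat.card ↥(S ⊓ Nz(T) ⊓ Q) := by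
  haveI : Fact (Nat.Prime 2) := ⟨Nat.prime_two⟩
  by_cases hB : S ≤ Nz(T)
  · have c := h.caseB F hB
    obtain ⟨k, hk⟩ := IsPGroup.iff_card.mp h.T2
    have h1 : Nat.card T ∣ Nat.card Q := by
      rw [F.card Q Q' h.cQ h.cQ']
      exact Subgroup.card_dvd_of_le (h.hT.trans inf_le_left)
    rw [c, hk] at h1
    have hcop : Nat.Coprime (2 ^ k) (S.relIndex (Q ⊔ T)) :=
      Nat.Coprime.pow_left k ((Nat.Prime.coprime_iff_not_dvd Nat.prime_two).mpr h.Ssyl)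
    have h2 := hcop.dvd_of_dvd_mul_right h1
    rw [hk]
    exact Nat.le_of_dvd Nat.card_pos h2
  · obtain ⟨x, hx1, hx2⟩ := h.caseA F hB
    have c1 := card_mul_le cj(x, T) T (S ⊓ Nz(T)) hx1 h.T_le hx2
    rw [card_cj] at c1
    have c2 := h.card_N_le
    have hpos : 0 < Nat.card T := Nat.card_pos
    exact Nat.le_of_mul_le_mul_right (c1.trans c2) hpos

theorem Cfg.R_ne_bot [Finite G] (F : Fam C) (h : Cfg C Q Q' T S) : S ⊓ Nz(T) ⊓ Q ≠ ⊥ := by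
  intro h1
  have c := h.L1 F
  rw [h1, Subgroup.card_bot] at c
  have : Nat.card T = 1 := le_antisymm c Nat.card_pos
  exact h.T1 (Subgroup.card_eq_one.mp this)

theorem Cfg.L2 [Finite G] (F : Fam C) (h : Cfg C Q Q' T S) :
    Nat.card ↥(S ⊓ Nz(T) ⊓ Q) ≤ Nat.card T := by
  have hR2 : IsPGroup 2 ↥(S ⊓ Nz(T) ⊓ Q) := h.S2.to_le (inf_le_left.trans inf_le_left)
  obtain ⟨Ts, hRTs, hTsH, hTs2, hTssyl⟩ := exists_syl (Q ⊓ Nz(Q')) _ (h.R_le F) hR2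
  obtain ⟨Ss, hTsSs, hSsH, hSs2, hSssyl⟩ := exists_syl (Q' ⊔ Ts) Ts le_sup_right hTs2
  have hTs1 : Ts ≠ ⊥ := by
    intro h1
    apply h.R_ne_bot F
    rw [eq_bot_iff, ← h1]
    exact hRTs
  have hcfg : Cfg C Q' Q Ts Ss :=
    { cQ := h.cQ'
      cQ' := h.cQ
      ne := h.ne.symm
      T1 := hTs1
      hT := hTsH
      T2 := hTs2
      Tsyl := hTssyl
      hTS := hTsSs
      hS := hSsH
      S2 := hSs2
      Ssyl := hSssyl }
  have c1 := hcfg.L1 F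
  have hRs2 : IsPGroup 2 ↥(Ss ⊓ Nz(Ts) ⊓ Q') := hSs2.to_le (inf_le_left.trans inf_le_left)
  have c2 := syl_card_dvd T (Q' ⊓ Nz(Q)) _ h.hT h.T2 h.Tsyl (hcfg.R_le F) hRs2
  have c3 := Nat.le_of_dvd Nat.card_pos c2
  have c4 := Subgroup.card_le_of_le hRTs
  omega

theorem Cfg.iso [Finite G] (F : Fam C) (h : Cfg C Q Q' T S) (g : G) (hg : Q' = cj(g, Q)) :
    Nonempty (↥(S ⊓ Nz(T) ⊓ Q) ≃* T) := by
  haveI : Fact (Nat.Prime 2) := ⟨Nat.prime_two⟩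
  have hcard : Nat.card ↥(S ⊓ Nz(T) ⊓ Q) = Nat.card T := le_antisymm (h.L2 F) (h.L1 F)
  have hR2 : IsPGroup 2 ↥(S ⊓ Nz(T) ⊓ Q) := h.S2.to_le (inf_le_left.trans inf_le_left)
  by_cases hB : S ≤ Nz(T)
  · have c := h.caseB F hB
    have hrel : ¬ 2 ∣ (S ⊓ Nz(T) ⊓ Q).relIndex Q := by
      have c2 := card_mul_relIndex (S ⊓ Nz(T) ⊓ Q) Q inf_le_right
      rw [c] at c2
      have h3 : (S ⊓ Nz(T) ⊓ Q).relIndex Q = S.relIndex (Q ⊔ T) :=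
        Nat.eq_of_mul_eq_mul_left Nat.card_pos c2
      rw [h3]; exact h.Ssyl
    have hP1 : cj(g⁻¹, T) ≤ Q := by
      have h3 : cj(g⁻¹, T) ≤ cj(g⁻¹, Q') := Subgroup.map_mono (h.hT.trans inf_le_left)
      rw [hg, cj_inv_cj] at h3
      exact h3
    obtain ⟨n, _, hn⟩ := exists_conj_le_of_relIndex Q (S ⊓ Nz(T) ⊓ Q) cj(g⁻¹, T) inf_le_right
      hR2 hrel hP1 (cj_isPGroup _ _ h.T2)
    have h1 : cj(n, cj(g⁻¹, T)) ≤ S ⊓ Nz(T) ⊓ Q := by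
      intro y hy
      rw [mem_map_conj] at hy
      have h3 := hn _ hy
      have e : n * (n⁻¹ * y * n) * n⁻¹ = y := by group
      rwa [e] at h3
    have h2 : cj(n, cj(g⁻¹, T)) = S ⊓ Nz(T) ⊓ Q :=
      Subgroup.eq_of_le_of_card_ge h1 (by rw [card_cj, card_cj, hcard])
    have e1 : T ≃* cj(g⁻¹, T) := T.equivMapOfInjective _ (MulAut.conj g⁻¹).injective
    have e2 : cj(g⁻¹, T) ≃* cj(n, cj(g⁻¹, T)) :=
      Subgroup.equivMapOfInjective _ _ (MulAut.conj n).injective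
    exact ⟨((e1.trans e2).trans (MulEquiv.subgroupCongr h2)).symm⟩
  · obtain ⟨x, hx1, hx2⟩ := h.caseA F hB
    have hsup : T ⊔ cj(x, T) = S ⊓ Nz(T) := by
      apply Subgroup.eq_of_le_of_card_ge (sup_le h.T_le hx1)
      have c1 := card_mul_le cj(x, T) T (T ⊔ cj(x, T)) le_sup_right le_sup_left hx2
      rw [card_cj] at c1
      have c2 := h.card_N_le
      rw [hcard] at c2
      exact c2.trans c1
    haveI hnorm : (T.subgroupOf (S ⊓ Nz(T))).Normal :=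
      Subgroup.normal_subgroupOf_of_le_normalizer inf_le_right
    have hRN : S ⊓ Nz(T) ⊓ Q ≤ S ⊓ Nz(T) := inf_le_left
    have b1 : T.subgroupOf (S ⊓ Nz(T)) ⊓ (S ⊓ Nz(T) ⊓ Q).subgroupOf (S ⊓ Nz(T)) = ⊥ := by
      rw [eq_bot_iff]
      rintro y ⟨hy1, hy2⟩
      rw [Subgroup.mem_bot]
      apply Subtype.ext
      have h3 : (y : G) ∈ T ⊓ Q := ⟨hy1, hy2.2⟩
      rw [h.inf_eq_bot F, Subgroup.mem_bot] at h3
      exact h3
    have b2 : T.subgroupOf (S ⊓ Nz(T)) ⊓ cj(x, T).subgroupOf (S ⊓ Nz(T)) = ⊥ := by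
      rw [eq_bot_iff]
      rintro y ⟨hy1, hy2⟩
      rw [Subgroup.mem_bot]
      apply Subtype.ext
      have h3 : (y : G) ∈ cj(x, T) ⊓ T := ⟨hy2, hy1⟩
      rw [hx2, Subgroup.mem_bot] at h3
      exact h3
    have b3 : (S ⊓ Nz(T) ⊓ Q).subgroupOf (S ⊓ Nz(T)) ⊔ T.subgroupOf (S ⊓ Nz(T)) =
        cj(x, T).subgroupOf (S ⊓ Nz(T)) ⊔ T.subgroupOf (S ⊓ Nz(T)) := by
      rw [← Subgroup.subgroupOf_sup hRN h.T_le, ← Subgroup.subgroupOf_sup hx1 h.T_le,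
        sup_comm, h.sup_eq, sup_comm, hsup]
    obtain ⟨e⟩ := compl_iso _ _ _ b1 b2 b3
    have e1 := Subgroup.subgroupOfEquivOfLe hRN
    have e2 := Subgroup.subgroupOfEquivOfLe hx1
    have e3 : T ≃* cj(x, T) := T.equivMapOfInjective _ (MulAut.conj x).injective
    exact ⟨(e1.symm.trans (e.trans e2)).trans e3.symm⟩

theorem main [Finite G] (Q : Subgroup G) (hQ : Cfsg.IsTightlyEmbedded Q)
    (g : G) (hg : g ∉ Subgroup.normalizer (Q : Set G))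
    (T : Subgroup G) (hT1 : T ≠ ⊥)
    (hT : T ≤ Q.map (MulAut.conj g).toMonoidHom ⊓ Subgroup.normalizer (Q : Set G))
    (hTsyl : IsPGroup 2 T ∧ ¬ 2 ∣ T.relIndex
      (Q.map (MulAut.conj g).toMonoidHom ⊓ Subgroup.normalizer (Q : Set G)))
    (S : Subgroup G) (hTS : T ≤ S) (hS : S ≤ Q ⊔ T)
    (hSsyl : IsPGroup 2 S ∧ ¬ 2 ∣ S.relIndex (Q ⊔ T)) :
    T ⊓ Q = ⊥ ∧
      T ⊓ (S ⊓ Subgroup.normalizer (T : Set G) ⊓ Q) = ⊥ ∧
      ⁅T, S ⊓ Subgroup.normalizer (T : Set G) ⊓ Q⁆ = ⊥ ∧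
      T ⊔ (S ⊓ Subgroup.normalizer (T : Set G) ⊓ Q) = S ⊓ Subgroup.normalizer (T : Set G) ∧
      Nonempty (↥(S ⊓ Subgroup.normalizer (T : Set G) ⊓ Q) ≃* T) := by
  have F : Fam (fun A : Subgroup G => ∃ a : G, A = cj(a, Q)) :=
    { conj := by
        rintro A x ⟨a, rfl⟩
        exact ⟨x * a, map_conj_map_conj Q a x⟩
      ti := by
        rintro A B ⟨a, rfl⟩ ⟨b, rfl⟩ P hP hP1 hPa hPb
        exact ti Q hQ a b P hP hP1 hPa hPb
      card := by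
        rintro A B ⟨a, rfl⟩ ⟨b, rfl⟩
        rw [card_cj, card_cj] }
  have h : Cfg (fun A : Subgroup G => ∃ a : G, A = cj(a, Q)) Q cj(g, Q) T S :=
    { cQ := ⟨1, (map_conj_one Q).symm⟩
      cQ' := ⟨g, rfl⟩
      ne := fun h1 => hg (mem_normalizer_of_map_conj_eq_self Q g h1)
      T1 := hT1
      hT := hT
      T2 := hTsyl.1
      Tsyl := hTsyl.2
      hTS := hTS
      hS := hS
      S2 := hSsyl.1
      Ssyl := hSsyl.2 }
  refine ⟨h.inf_eq_bot F, ?_, ?_, h.sup_eq, h.iso F g rfl⟩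
  · rw [eq_bot_iff]
    exact le_trans (inf_le_inf_left T inf_le_right) (le_of_eq (h.inf_eq_bot F))
  · rw [Subgroup.commutator_eq_bot_iff_le_centralizer]
    intro t ht
    rw [Subgroup.mem_centralizer_iff]
    intro r hr
    exact (h.comm F t ht r hr.1.2 hr.2).symm

end Cfsg.Agent.Lib.Helper3_Tight2
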