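import Mathlib

set_option autoImplicit false

namespace Cfsg.Agent.Lib.Helper3_Trace

/-- Splitting by the trace map: if `V` is an abelian normal subgroup of the finite group `G` whose
order is prime to the index of the subgroup `S`, then the fixed points `C_V(G)` are a direct factor
of `C_V(S)`. -/
theorem trace_split {G : Type*} [Group G] [Finite G] (S V : Subgroup G) [hVn : V.Normal]
    (hV : ∀ a ∈ V, ∀ b ∈ V, a * b = b * a)
    (hcop : Nat.Coprime S.index (Nat.card V)) :
    ∃ K : Subgroup G, K ≤ V ⊓ Subgroup.centralizer (S : Set G) ∧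
      (V ⊓ Subgroup.center G) ⊓ K = ⊥ ∧
      (V ⊓ Subgroup.center G) ⊔ K = V ⊓ Subgroup.centralizer (S : Set G) := by
  classical
  letI : CommGroup ↥V := { (inferInstance : Group ↥V) with
    mul_comm := fun a b => Subtype.ext (hV a a.2 b b.2) }
  letI : Fintype (G ⧸ S) := Fintype.ofFinite _
  obtain ⟨tr, htr⟩ : ∃ tr : ↥V → ↥V,
      ∀ v, tr v = ∏ q : G ⧸ S, MulAut.conjNormal (q.out) v := ⟨_, fun v => rfl⟩
  have htr_mul : ∀ a b, tr (a * b) = tr a * tr b := by
    intro a b
    rw [htr, htr, htr, ← Finset.prod_mul_distrib]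
    exact Finset.prod_congr rfl fun q _ => map_mul _ _ _
  have htr_one : tr 1 = 1 := by
    rw [htr]
    exact Finset.prod_eq_one fun q _ => map_one _
  have htr_inv : ∀ a, tr a⁻¹ = (tr a)⁻¹ := by
    intro a
    apply eq_inv_of_mul_eq_one_left
    rw [← htr_mul, inv_mul_cancel, htr_one]
  set m := Fintype.card (G ⧸ S) with hmdef
  have hmidx : S.index = m := by
    rw [Subgroup.index, Nat.card_eq_fintype_card]
  -- central elements
  have htr_central : ∀ v : ↥V, (v : G) ∈ Subgroup.center G → tr v = v ^ m := by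
    intro v hv
    rw [htr]
    have h1 : ∀ q : G ⧸ S, MulAut.conjNormal (q.out) v = v := by
      intro q
      apply Subtype.ext
      rw [MulAut.conjNormal_apply]
      have := Subgroup.mem_center_iff.mp hv (q.out)
      rw [this, mul_inv_cancel_right]
    simp_rw [h1]
    rw [Finset.prod_const, Finset.card_univ]
  -- invariance
  have hinv : ∀ v : ↥V, (v : G) ∈ Subgroup.centralizer (S : Set G) →
      ∀ g : G, MulAut.conjNormal g (tr v) = tr v := by
    intro v hv g
    have hS : ∀ s ∈ S, MulAut.conjNormal s v = v := by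
      intro s hs
      apply Subtype.ext
      rw [MulAut.conjNormal_apply]
      have := Subgroup.mem_centralizer_iff.mp hv s hs
      rw [this, mul_inv_cancel_right]
    have hstep : ∀ q : G ⧸ S, MulAut.conjNormal g (MulAut.conjNormal q.out v) =
        MulAut.conjNormal (g • q).out v := by
      intro q
      have h1 : ((g • q).out)⁻¹ * (g * q.out) ∈ S := by
        have h2 : (QuotientGroup.mk ((g • q).out) : G ⧸ S) = QuotientGroup.mk (g * q.out) := by
          rw [QuotientGroup.out_eq']
          have : (QuotientGroup.mk (g * q.out) : G ⧸ S) = g • (QuotientGroup.mk q.out : G ⧸ S) := rfl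
          rw [this, QuotientGroup.out_eq']
        exact QuotientGroup.eq.mp h2
      have h2 := hS _ h1
      rw [← MulAut.mul_apply, ← map_mul]
      conv_rhs => rw [← h2, ← MulAut.mul_apply, ← map_mul, mul_inv_cancel_left]
    rw [htr, map_prod]
    simp_rw [hstep]
    exact Equiv.prod_comp (MulAction.toPerm g) (fun q : G ⧸ S => MulAut.conjNormal q.out v)
  have htr_center : ∀ v : ↥V, (v : G) ∈ Subgroup.centralizer (S : Set G) →
      ((tr v : ↥V) : G) ∈ Subgroup.center G := by
    intro v hv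
    rw [Subgroup.mem_center_iff]
    intro g
    have h1 := congrArg Subtype.val (hinv v hv g)
    rw [MulAut.conjNormal_apply] at h1
    calc g * ((tr v : ↥V) : G) = g * ((tr v : ↥V) : G) * g⁻¹ * g := by group
      _ = ((tr v : ↥V) : G) * g := by rw [h1]
  -- the kernel
  let K' : Subgroup ↥V :=
    { carrier := {v | (v : G) ∈ Subgroup.centralizer (S : Set G) ∧ tr v = 1}
      mul_mem' := by
        intro a b ha hb
        refine ⟨?_, ?_⟩
        · rw [Subgroup.coe_mul]; exact Subgroup.mul_mem _ ha.1 hb.1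
        · rw [htr_mul, ha.2, hb.2, mul_one]
      one_mem' := ⟨by rw [Subgroup.coe_one]; exact Subgroup.one_mem _, htr_one⟩
      inv_mem' := by
        intro a ha
        refine ⟨?_, ?_⟩
        · rw [Subgroup.coe_inv]; exact Subgroup.inv_mem _ ha.1
        · rw [htr_inv, ha.2, inv_one] }
  have hK'mem : ∀ v : ↥V, v ∈ K' ↔ ((v : G) ∈ Subgroup.centralizer (S : Set G) ∧ tr v = 1) :=
    fun v => Iff.rfl
  -- coprimality
  have hcop' : Nat.Coprime m (Nat.card ↥V) := by rw [← hmidx]; exact hcop
  have hbez := Nat.gcd_eq_gcd_ab m (Nat.card ↥V)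
  rw [hcop'.gcd_eq_one] at hbez
  set A := m.gcdA (Nat.card ↥V) with hA
  set B := m.gcdB (Nat.card ↥V) with hB
  have hroot : ∀ z : ↥V, z = (z ^ m) ^ A := by
    intro z
    have h1 : z ^ ((m : ℤ) * A + (Nat.card ↥V : ℤ) * B) = z := by
      rw [← hbez]; simp
    rw [zpow_add, zpow_mul, zpow_mul, zpow_natCast, zpow_natCast, pow_card_eq_one', one_zpow,
      mul_one] at h1
    exact h1.symm
  refine ⟨K'.map V.subtype, ?_, ?_, ?_⟩
  · rintro x ⟨v, hv, rfl⟩
    exact ⟨v.2, ((hK'mem v).mp hv).1⟩
  · rw [eq_bot_iff]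
    rintro x ⟨⟨_, hxc⟩, ⟨v, hv, rfl⟩⟩
    rw [Subgroup.mem_bot]
    have h1 := ((hK'mem v).mp hv).2
    rw [htr_central v hxc] at h1
    have h2 := hroot v
    rw [h1, one_zpow] at h2
    rw [h2]
    rfl
  · apply le_antisymm
    · apply sup_le
      · exact inf_le_inf_left _ (Subgroup.center_le_centralizer _)
      · rintro x ⟨v, hv, rfl⟩
        exact ⟨v.2, ((hK'mem v).mp hv).1⟩
    · rintro x ⟨hxV, hxS⟩
      obtain ⟨v, hvdef⟩ : ∃ v : ↥V, v = ⟨x, hxV⟩ := ⟨_, rfl⟩
      have hvx : (v : G) = x := by rw [hvdef]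
      have hvS : (v : G) ∈ Subgroup.centralizer (S : Set G) := by rw [hvx]; exact hxS
      obtain ⟨b, hbdef⟩ : ∃ b : ↥V, b = (tr v) ^ A := ⟨_, rfl⟩
      have hbc : (b : G) ∈ Subgroup.center G := by
        rw [hbdef, Subgroup.coe_zpow]
        exact Subgroup.zpow_mem _ (htr_center v hvS) _
      have hbinvc : ((b⁻¹ : ↥V) : G) ∈ Subgroup.center G := by
        rw [Subgroup.coe_inv]; exact Subgroup.inv_mem _ hbc
      have hk : b⁻¹ * v ∈ K' := by
        rw [hK'mem]
        refine ⟨?_, ?_⟩
        · rw [Subgroup.coe_mul]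
          exact Subgroup.mul_mem _ (Subgroup.center_le_centralizer _ hbinvc) hvS
        · rw [htr_mul, htr_inv, htr_central b hbc, hbdef, ← zpow_natCast, ← zpow_mul,
            mul_comm A, zpow_mul, zpow_natCast, ← hroot, inv_mul_cancel]
      have hx : x = (b : G) * ((b⁻¹ * v : ↥V) : G) := by
        rw [Subgroup.coe_mul, Subgroup.coe_inv, mul_inv_cancel_left, hvx]
      rw [hx]
      apply Subgroup.mul_mem
      · exact Subgroup.mem_sup_left ⟨b.2, hbc⟩
      · exact Subgroup.mem_sup_right ⟨_, hk, rfl⟩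

end Cfsg.Agent.Lib.Helper3_Trace
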