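import Mathlib
import Cfsg.Prelude.Def_LocalStructure
import Cfsg.Prelude.Def_CaseTheorems
import Cfsg.Agent.Lib.Helper4_PCore
import Cfsg.Agent.Lib.Helper4_Minimal
import Cfsg.Agent.Lib.Helper4_PReduced4
import Cfsg.Agent.Lib.Helper3_Bender

set_option autoImplicit false

namespace Cfsg.Agent.Lib.Helper3_YMin

open Cfsg

theorem pclosed_of_normal_sylow {G : Type*} [Group G] [Finite G] {p : ℕ} [Fact p.Prime]
    (Q : Sylow p G) (hQ : (Q : Subgroup G).Normal) : IsPClosed p G := by
  intro P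
  obtain ⟨g, hg⟩ := MulAction.exists_smul_eq G Q P
  rw [← hg, Sylow.smul_eq_of_normal]
  exact hQ

variable {L : Type*} [Group L] [Finite L] {p : ℕ} [hp : Fact p.Prime]

theorem le_of_ne_top (L₀ : Subgroup L) (hL₀ : IsCoatom L₀) (Y : Subgroup L) (hYL₀ : Y ≤ L₀)
    (hmin : IsMinimalOver Y) : ∀ X : Subgroup L, Y ≤ X → X ≠ ⊤ → X ≤ L₀ := by
  obtain ⟨M, hM, hYM, hK⟩ := Cfsg.Agent.Lib.Helper4_Minimal.exists_coatom_of_minimalOver hmin
  have h1 : L₀ ≤ M := hK L₀ hYL₀ hL₀.1
  have h2 : M = L₀ := by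
    rcases hL₀.le_iff.mp h1 with h | h
    · exact absurd h hM.1
    · exact h
  rw [← h2]; exact hK

variable (L₀ : Subgroup L) (hL₀ : IsCoatom L₀) (T : Sylow p ↥L₀) (Y : Subgroup L)
  (hYT : Y ≤ (T : Subgroup ↥L₀).map L₀.subtype) (hmin : IsMinimalOver Y)

include hL₀ hYT hmin

theorem Y_le : Y ≤ L₀ := le_trans hYT (Subgroup.map_subtype_le _)

theorem pCore_le : pCore p L ≤ L₀ := by
  have hYL₀ : Y ≤ L₀ := Y_le L₀ hL₀ T Y hYT hmin
  have hT' : IsPGroup p ↥((T : Subgroup ↥L₀).map L₀.subtype) := T.isPGroup'.map _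
  obtain ⟨P, hP⟩ := hT'.exists_le_sylow
  have hOP : pCore p L ≤ P := Cfsg.Agent.Lib.Helper4_PCore.pCore_le_sylow P
  by_cases htop : (P : Subgroup L) = ⊤
  · exfalso
    have hLp : IsPGroup p L := by
      intro g
      have hg : g ∈ (P : Subgroup L) := by rw [htop]; exact Subgroup.mem_top g
      obtain ⟨k, hk⟩ := P.isPGroup' ⟨g, hg⟩
      exact ⟨k, by simpa using congrArg Subtype.val hk⟩
    haveI := hLp.isNilpotent
    have hn : L₀.Normal :=
      Subgroup.NormalizerCondition.normal_of_coatom L₀ (Group.normalizerCondition_of_isNilpotent (G := L)) hL₀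
    have := Subgroup.normalClosure_le_normal (N := L₀) (s := (Y : Set L)) hYL₀
    rw [hmin.1] at this
    exact hL₀.1 (top_le_iff.mp this)
  · exact le_trans hOP (le_of_ne_top L₀ hL₀ Y hYL₀ hmin P (le_trans hYT hP) htop)

theorem core_sylow : (∃ Q : Sylow p ↥L₀.normalCore, (Q : Subgroup ↥L₀.normalCore).Normal) ∧
    ¬ p ∣ (pCore p L).relIndex L₀.normalCore := by
  have hYL₀ : Y ≤ L₀ := Y_le L₀ hL₀ T Y hYT hmin
  have hT' : IsPGroup p ↥((T : Subgroup ↥L₀).map L₀.subtype) := T.isPGroup'.map _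
  have hDL₀ : L₀.normalCore ≤ L₀ := Subgroup.normalCore_le L₀
  have hL₀D : L₀ ≤ Subgroup.normalizer ((L₀.normalCore : Subgroup L) : Set L) := by
    rw [Subgroup.normalizer_eq_top]; exact le_top
  obtain ⟨Q, hQ⟩ := Cfsg.Agent.Lib.Helper4_PReduced4.exists_sylow_eq_subgroupOf_rel L₀ L₀.normalCore hDL₀ hL₀D T
  have hQmap : (Q : Subgroup ↥L₀.normalCore).map L₀.normalCore.subtype =
      (T : Subgroup ↥L₀).map L₀.subtype ⊓ L₀.normalCore := by
    rw [hQ, Subgroup.subgroupOf_map_subtype]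
  have hfr := Sylow.normalizer_sup_eq_top Q
  rw [hQmap] at hfr
  have hYN : Y ≤ Subgroup.normalizer
      (((T : Subgroup ↥L₀).map L₀.subtype ⊓ L₀.normalCore : Subgroup L) : Set L) := by
    intro y hy
    have h1 : y ∈ (T : Subgroup ↥L₀).map L₀.subtype := hYT hy
    rw [inf_comm]
    exact Cfsg.Agent.Lib.Helper3_Bender.mem_normalizer_inf L₀.normalCore _
      (by rw [Subgroup.normalizer_eq_top]; exact Subgroup.mem_top y) h1
  have hNtop : Subgroup.normalizer
      (((T : Subgroup ↥L₀).map L₀.subtype ⊓ L₀.normalCore : Subgroup L) : Set L) = ⊤ := by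
    by_contra hne
    have h1 := le_of_ne_top L₀ hL₀ Y hYL₀ hmin _ hYN hne
    have : (⊤ : Subgroup L) ≤ L₀ := by rw [← hfr]; exact sup_le h1 hDL₀
    exact hL₀.1 (top_le_iff.mp this)
  have hnorm : ((T : Subgroup ↥L₀).map L₀.subtype ⊓ L₀.normalCore).Normal :=
    Subgroup.normalizer_eq_top_iff.mp hNtop
  have hle : (T : Subgroup ↥L₀).map L₀.subtype ⊓ L₀.normalCore ≤ pCore p L :=
    Cfsg.Agent.Lib.Helper4_PCore.le_pCore _ hnorm (hT'.to_le inf_le_left)
  refine ⟨⟨Q, ?_⟩, ?_⟩
  · rw [hQ, ← Subgroup.inf_subgroupOf_right]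
    exact hnorm.subgroupOf _
  · have h2 : ¬ p ∣ (Q : Subgroup ↥L₀.normalCore).index := Q.not_dvd_index
    have h3 : (Q : Subgroup ↥L₀.normalCore).index =
        ((T : Subgroup ↥L₀).map L₀.subtype ⊓ L₀.normalCore).relIndex L₀.normalCore := by
      rw [hQ, Subgroup.inf_relIndex_right]; rfl
    have h4 : (pCore p L).relIndex L₀.normalCore ∣
        ((T : Subgroup ↥L₀).map L₀.subtype ⊓ L₀.normalCore).relIndex L₀.normalCore :=
      Subgroup.relIndex_dvd_of_le_left _ hle
    intro h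
    exact h2 (h3 ▸ dvd_trans h h4)

theorem normalCore_le_coatom (M : Subgroup L) (hM : IsCoatom M) (hOM : pCore p L ≤ M) :
    L₀.normalCore ≤ M := by
  have hYL₀ : Y ≤ L₀ := Y_le L₀ hL₀ T Y hYT hmin
  have hT' : IsPGroup p ↥((T : Subgroup ↥L₀).map L₀.subtype) := T.isPGroup'.map _
  have hOD : pCore p L ≤ L₀.normalCore :=
    Subgroup.normal_le_normalCore.mpr (pCore_le L₀ hL₀ T Y hYT hmin)
  by_contra hDM
  have hsup : M ⊔ L₀.normalCore = ⊤ := by
    rcases hM.le_iff.mp (le_sup_left : M ≤ M ⊔ L₀.normalCore) with h | h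
    · exact h
    · exact absurd (h ▸ (le_sup_right : L₀.normalCore ≤ M ⊔ L₀.normalCore)) hDM
  have hidx : M.index = M.relIndex L₀.normalCore := by
    have e1 : (M ⊓ L₀.normalCore).relIndex L₀.normalCore * L₀.normalCore.index =
        (M ⊓ L₀.normalCore).index := Subgroup.relIndex_mul_index inf_le_right
    have e2 : (M ⊓ L₀.normalCore).relIndex M * M.index = (M ⊓ L₀.normalCore).index :=
      Subgroup.relIndex_mul_index inf_le_left
    have e3 : (M ⊓ L₀.normalCore).relIndex L₀.normalCore = M.relIndex L₀.normalCore :=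
      Subgroup.inf_relIndex_right M L₀.normalCore
    have e4 : (M ⊓ L₀.normalCore).relIndex M = L₀.normalCore.relIndex M :=
      Subgroup.inf_relIndex_left M L₀.normalCore
    have e5 : L₀.normalCore.index = L₀.normalCore.relIndex M := by
      rw [← Subgroup.relIndex_top_right, ← hsup, Subgroup.relIndex_sup_right]
    rw [e3, e5] at e1
    rw [e4] at e2
    have hne : L₀.normalCore.relIndex M ≠ 0 := by
      intro h0
      have h1 := Subgroup.relIndex_dvd_card L₀.normalCore M
      rw [h0] at h1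
      exact (Nat.card_pos (α := ↥M)).ne' (Nat.eq_zero_of_zero_dvd h1)
    have : L₀.normalCore.relIndex M * M.index =
        L₀.normalCore.relIndex M * M.relIndex L₀.normalCore := by rw [e2, ← e1, mul_comm]
    exact Nat.eq_of_mul_eq_mul_left (Nat.pos_of_ne_zero hne) this
  have hnd : ¬ p ∣ M.index := by
    rw [hidx, ← Subgroup.inf_relIndex_right]
    intro h
    have h4 : (M ⊓ L₀.normalCore).relIndex L₀.normalCore ∣ (pCore p L).relIndex L₀.normalCore :=
      Subgroup.relIndex_dvd_of_le_left _ (le_inf hOM hOD)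
    exact (core_sylow L₀ hL₀ T Y hYT hmin).2 (dvd_trans h h4)
  have hYp : IsPGroup p ↥Y := hT'.to_le hYT
  rw [Subgroup.index_eq_card] at hnd
  obtain ⟨q, hq⟩ := hYp.nonempty_fixed_point_of_prime_not_dvd_card (L ⧸ M) hnd
  obtain ⟨g, rfl⟩ := QuotientGroup.mk_surjective q
  have hconj : ∀ y ∈ Y, g⁻¹ * y * g ∈ M := by
    intro y hy
    have h1 := hq ⟨y, hy⟩
    have h2 : ((y * g : L) : L ⧸ M) = (g : L ⧸ M) := h1
    rw [QuotientGroup.eq] at h2
    have h3 := M.inv_mem h2
    have h4 : ((y * g)⁻¹ * g)⁻¹ = g⁻¹ * y * g := by group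
    rw [h4] at h3
    exact h3
  -- X = g M g⁻¹
  have hYX : Y ≤ M.comap (MulAut.conj g⁻¹).toMonoidHom := by
    intro y hy
    rw [Subgroup.mem_comap]
    simpa using hconj y hy
  have hXne : M.comap (MulAut.conj g⁻¹).toMonoidHom ≠ ⊤ := by
    intro h
    apply hM.1
    rw [eq_top_iff]
    intro m _
    have h1 : g * m * g⁻¹ ∈ M.comap (MulAut.conj g⁻¹).toMonoidHom := by rw [h]; exact Subgroup.mem_top _
    rw [Subgroup.mem_comap] at h1
    have h2 : (MulAut.conj g⁻¹).toMonoidHom (g * m * g⁻¹) = m := by simp [mul_assoc]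
    rw [h2] at h1
    exact h1
  have hXL₀ := le_of_ne_top L₀ hL₀ Y hYL₀ hmin _ hYX hXne
  have hMle : M ≤ L₀.comap (MulAut.conj g).toMonoidHom := by
    intro m hm
    rw [Subgroup.mem_comap]
    apply hXL₀
    rw [Subgroup.mem_comap]
    have h2 : (MulAut.conj g⁻¹).toMonoidHom ((MulAut.conj g).toMonoidHom m) = m := by simp [mul_assoc]
    rw [h2]
    exact hm
  have hne2 : L₀.comap (MulAut.conj g).toMonoidHom ≠ ⊤ := by
    intro h
    apply hL₀.1
    rw [eq_top_iff]
    intro x _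
    have h1 : g⁻¹ * x * g ∈ L₀.comap (MulAut.conj g).toMonoidHom := by rw [h]; exact Subgroup.mem_top _
    rw [Subgroup.mem_comap] at h1
    have h2 : (MulAut.conj g).toMonoidHom (g⁻¹ * x * g) = x := by simp [mul_assoc]
    rw [h2] at h1
    exact h1
  have heq : L₀.comap (MulAut.conj g).toMonoidHom = M := by
    rcases hM.le_iff.mp hMle with h | h
    · exact absurd h hne2
    · exact h
  apply hDM
  rw [← heq]
  intro d hd
  rw [Subgroup.mem_comap]
  apply Subgroup.normalCore_le L₀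
  have := (Subgroup.normalCore_normal L₀).conj_mem d hd g
  simpa using this

theorem map_normalCore_eq_frattini :
    (L₀.normalCore).map (QuotientGroup.mk' (pCore p L)) = frattini (L ⧸ pCore p L) := by
  have hπ : Function.Surjective (QuotientGroup.mk' (pCore p L)) := QuotientGroup.mk'_surjective _
  have hOL₀ : pCore p L ≤ L₀ := pCore_le L₀ hL₀ T Y hYT hmin
  apply le_antisymm
  · unfold frattini Order.radical
    refine le_iInf₂ ?_
    intro Mb hMb
    have hMc : IsCoatom (Mb.comap (QuotientGroup.mk' (pCore p L))) :=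
      Subgroup.isCoatom_comap_of_surjective hπ hMb
    have hO : pCore p L ≤ Mb.comap (QuotientGroup.mk' (pCore p L)) := by
      intro x hx
      rw [Subgroup.mem_comap]
      have : (QuotientGroup.mk' (pCore p L)) x = 1 := (QuotientGroup.eq_one_iff x).mpr hx
      rw [this]; exact one_mem _
    have h1 := normalCore_le_coatom L₀ hL₀ T Y hYT hmin _ hMc hO
    calc (L₀.normalCore).map (QuotientGroup.mk' (pCore p L))
        ≤ (Mb.comap (QuotientGroup.mk' (pCore p L))).map (QuotientGroup.mk' (pCore p L)) :=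
          Subgroup.map_mono h1
      _ = Mb := Subgroup.map_comap_eq_self_of_surjective hπ Mb
  · have h1 : (frattini (L ⧸ pCore p L)).comap (QuotientGroup.mk' (pCore p L)) ≤ L₀ := by
      by_contra hne
      have hsup : L₀ ⊔ (frattini (L ⧸ pCore p L)).comap (QuotientGroup.mk' (pCore p L)) = ⊤ := by
        rcases hL₀.le_iff.mp (le_sup_left : L₀ ≤ L₀ ⊔ (frattini (L ⧸ pCore p L)).comap (QuotientGroup.mk' (pCore p L))) with h | h
        · exact h
        · exact absurd (h ▸ (le_sup_right : (frattini (L ⧸ pCore p L)).comap (QuotientGroup.mk' (pCore p L)) ≤ L₀ ⊔ (frattini (L ⧸ pCore p L)).comap (QuotientGroup.mk' (pCore p L)))) hne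
      have h2 : L₀.map (QuotientGroup.mk' (pCore p L)) ⊔ frattini (L ⧸ pCore p L) = ⊤ := by
        have := congrArg (Subgroup.map (QuotientGroup.mk' (pCore p L))) hsup
        rw [Subgroup.map_sup, Subgroup.map_comap_eq_self_of_surjective hπ,
          Subgroup.map_top_of_surjective _ hπ] at this
        exact this
      have h3 : L₀.map (QuotientGroup.mk' (pCore p L)) = ⊤ := frattini_nongenerating h2
      have h4 : (L₀.map (QuotientGroup.mk' (pCore p L))).comap (QuotientGroup.mk' (pCore p L)) = L₀ := by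
        rw [Subgroup.comap_map_eq, QuotientGroup.ker_mk']; exact sup_eq_left.mpr hOL₀
      rw [h3, Subgroup.comap_top] at h4
      exact hL₀.1 h4.symm
    have h5 : (frattini (L ⧸ pCore p L)).comap (QuotientGroup.mk' (pCore p L)) ≤ L₀.normalCore :=
      Subgroup.normal_le_normalCore.mpr h1
    calc frattini (L ⧸ pCore p L)
        = ((frattini (L ⧸ pCore p L)).comap (QuotientGroup.mk' (pCore p L))).map
            (QuotientGroup.mk' (pCore p L)) :=
          (Subgroup.map_comap_eq_self_of_surjective hπ _).symm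
      _ ≤ (L₀.normalCore).map (QuotientGroup.mk' (pCore p L)) := Subgroup.map_mono h5

theorem part4 (N : Subgroup L) [hNn : N.Normal] (hN : N ≤ L₀) :
    IsPClosed p ↥N ∧ Group.IsNilpotent (↥N ⧸ pCore p ↥N) ∧
      (Nat.card (↥N ⧸ pCore p ↥N)).Coprime p := by
  have hOD : pCore p L ≤ L₀.normalCore :=
    Subgroup.normal_le_normalCore.mpr (pCore_le L₀ hL₀ T Y hYT hmin)
  have hND : N ≤ L₀.normalCore := Subgroup.normal_le_normalCore.mpr hN
  have hPNn : ((pCore p L).subgroupOf N).Normal := (Cfsg.pCore_normal p L).subgroupOf N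
  have hPNp : IsPGroup p ↥((pCore p L).subgroupOf N) :=
    (Cfsg.Agent.Lib.Helper4_PCore.pCore_isPGroup (G := L) (p := p)).comap_subtype
  have hidx : ¬ p ∣ ((pCore p L).subgroupOf N).index := by
    have h1 : (pCore p L).relIndex N = (pCore p L).relIndex (N ⊔ pCore p L) :=
      (Subgroup.relIndex_sup_right N (pCore p L)).symm
    have h2 : (pCore p L).relIndex (N ⊔ pCore p L) * (N ⊔ pCore p L).relIndex L₀.normalCore =
        (pCore p L).relIndex L₀.normalCore :=
      Subgroup.relIndex_mul_relIndex _ _ _ le_sup_right (sup_le hND hOD)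
    intro h
    apply (core_sylow L₀ hL₀ T Y hYT hmin).2
    rw [← h2, ← h1]
    exact Dvd.dvd.mul_right h _
  have hS : ((hPNp.toSylow hidx : Sylow p ↥N) : Subgroup ↥N) = (pCore p L).subgroupOf N :=
    IsPGroup.toSylow_coe hPNp hidx
  have hSn : ((hPNp.toSylow hidx : Sylow p ↥N) : Subgroup ↥N).Normal := by rw [hS]; exact hPNn
  have hclosed : IsPClosed p ↥N := pclosed_of_normal_sylow _ hSn
  have hcore : pCore p ↥N = (pCore p L).subgroupOf N := by
    apply le_antisymm
    · rw [← hS]; exact Cfsg.Agent.Lib.Helper4_PCore.pCore_le_sylow _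
    · exact Cfsg.Agent.Lib.Helper4_PCore.le_pCore _ hPNn hPNp
  refine ⟨hclosed, ?_, ?_⟩
  · have hker : ((QuotientGroup.mk' (pCore p L)).comp N.subtype).ker = (pCore p L).subgroupOf N := by
      ext x
      rw [MonoidHom.mem_ker, Subgroup.mem_subgroupOf, MonoidHom.comp_apply]
      exact QuotientGroup.eq_one_iff _
    have hrange : ((QuotientGroup.mk' (pCore p L)).comp N.subtype).range ≤ frattini (L ⧸ pCore p L) := by
      rw [← map_normalCore_eq_frattini L₀ hL₀ T Y hYT hmin]
      rintro _ ⟨x, rfl⟩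
      exact ⟨x, hND x.2, rfl⟩
    haveI : Group.IsNilpotent ↥(frattini (L ⧸ pCore p L)) := frattini_nilpotent
    have hr : Group.IsNilpotent ↥((QuotientGroup.mk' (pCore p L)).comp N.subtype).range := by
      have h1 : Group.IsNilpotent
          ↥((((QuotientGroup.mk' (pCore p L)).comp N.subtype).range).subgroupOf (frattini (L ⧸ pCore p L))) :=
        inferInstance
      exact (Group.isNilpotent_congr (Subgroup.subgroupOfEquivOfLe hrange)).mp h1
    have e1 := QuotientGroup.quotientKerEquivRange ((QuotientGroup.mk' (pCore p L)).comp N.subtype)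
    have e2 : ↥N ⧸ pCore p ↥N ≃* ↥N ⧸ ((QuotientGroup.mk' (pCore p L)).comp N.subtype).ker :=
      QuotientGroup.quotientMulEquivOfEq (by rw [hcore, hker])
    exact (Group.isNilpotent_congr (e2.trans e1)).mpr hr
  · have h1 : Nat.card (↥N ⧸ pCore p ↥N) = ((pCore p L).subgroupOf N).index := by
      rw [Subgroup.index_eq_card]
      exact Nat.card_congr (QuotientGroup.quotientMulEquivOfEq hcore).toEquiv
    rw [h1]
    exact ((Nat.Prime.coprime_iff_not_dvd hp.out).mpr hidx).symm

theorem main :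
    (pCore p L ≤ L₀.normalCore ∧
      (L₀.normalCore).map (QuotientGroup.mk' (pCore p L)) = frattini (L ⧸ pCore p L) ∧
      IsPClosed p ↥(L₀.normalCore)) ∧
    ∀ (N : Subgroup L) [N.Normal], N ≤ L₀ →
      IsPClosed p ↥N ∧ Group.IsNilpotent (↥N ⧸ pCore p ↥N) ∧
        (Nat.card (↥N ⧸ pCore p ↥N)).Coprime p := by
  refine ⟨⟨Subgroup.normal_le_normalCore.mpr (pCore_le L₀ hL₀ T Y hYT hmin),
    map_normalCore_eq_frattini L₀ hL₀ T Y hYT hmin, ?_⟩, ?_⟩
  · obtain ⟨Q, hQ⟩ := (core_sylow L₀ hL₀ T Y hYT hmin).1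
    exact pclosed_of_normal_sylow Q hQ
  · intro N _ hN
    exact part4 L₀ hL₀ T Y hYT hmin N hN

end Cfsg.Agent.Lib.Helper3_YMin
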