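import Mathlib
import Cfsg.Prelude.Def_LocalStructure
import Cfsg.Prelude.Def_CaseTheorems
import Cfsg.Agent.Lib.Helper3_YMin
import Cfsg.Agent.Lib.Helper3_Conj
import Cfsg.Agent.Lib.Helper3_Alperin
import Cfsg.Agent.Lib.Helper3_Tight
import Cfsg.Agent.Lib.Helper3_RegN
import Cfsg.Agent.Lib.Helper4_Frattini
import Cfsg.Agent.Lib.Lead_Coprime

set_option autoImplicit false

namespace Cfsg.Agent.Lib.Helper3_YMin2

open Cfsg
open scoped commutatorElement

variable {L : Type*} [Group L]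

/-- `U` normalizes `(Q ⊓ U) ⊔ (Q ⊓ V)` when `U` is abelian, `Q` is normal and normalizes `U`. -/
theorem le_normalizer_sup [Finite L] (Q U V : Subgroup L) [hQ : Q.Normal]
    (hU : ∀ a ∈ U, ∀ b ∈ U, a * b = b * a)
    (hQU : Q ≤ Subgroup.normalizer (U : Set L)) :
    U ≤ Subgroup.normalizer (((Q ⊓ U) ⊔ (Q ⊓ V) : Subgroup L) : Set L) := by
  intro u hu
  have hu' : u⁻¹ ∈ U := U.inv_mem hu
  have hle : (Q ⊓ U) ⊔ (Q ⊓ V) ≤
      ((Q ⊓ U) ⊔ (Q ⊓ V)).comap (MulAut.conj u).toMonoidHom := by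
    apply sup_le
    · intro x hx
      rw [Subgroup.mem_comap]
      have h1 : (MulAut.conj u).toMonoidHom x = x := by
        show u * x * u⁻¹ = x
        rw [hU u hu x hx.2, mul_assoc, mul_inv_cancel, mul_one]
      rw [h1]
      exact (le_sup_left : Q ⊓ U ≤ (Q ⊓ U) ⊔ (Q ⊓ V)) hx
    · intro x hx
      rw [Subgroup.mem_comap]
      have h1 : (MulAut.conj u).toMonoidHom x = (u * x * u⁻¹ * x⁻¹) * x := by
        show u * x * u⁻¹ = (u * x * u⁻¹ * x⁻¹) * x
        group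
      rw [h1]
      apply Subgroup.mul_mem
      · apply (le_sup_left : Q ⊓ U ≤ (Q ⊓ U) ⊔ (Q ⊓ V))
        refine ⟨?_, ?_⟩
        · exact Q.mul_mem (hQ.conj_mem x hx.1 u) (Q.inv_mem hx.1)
        · have h2 : x * u⁻¹ * x⁻¹ ∈ U := by
            have := (Subgroup.mem_normalizer_iff.mp (hQU hx.1)) u⁻¹
            exact this.mp hu'
          have h3 : u * x * u⁻¹ * x⁻¹ = u * (x * u⁻¹ * x⁻¹) := by group
          rw [h3]
          exact U.mul_mem hu h2
      · exact (le_sup_right : Q ⊓ V ≤ (Q ⊓ U) ⊔ (Q ⊓ V)) hx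
  have key : u⁻¹ ∈ Subgroup.normalizer (((Q ⊓ U) ⊔ (Q ⊓ V) : Subgroup L) : Set L) := by
    apply Cfsg.Agent.Lib.Helper3_Alperin.mem_normalizer_of_conj_le
    intro a ha
    have := hle ha
    rw [Subgroup.mem_comap] at this
    simpa using this
  exact inv_mem_iff.mp key

theorem comm_sup {G : Type*} [Group G] (U V : Subgroup G)
    (hU : ∀ a ∈ U, ∀ b ∈ U, a * b = b * a) (hV : ∀ a ∈ V, ∀ b ∈ V, a * b = b * a)
    (hUV : ∀ a ∈ U, ∀ b ∈ V, a * b = b * a) :
    U ⊔ V ≤ Subgroup.centralizer ((U ⊔ V : Subgroup G) : Set G) := by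
  have h1 : U ≤ Subgroup.centralizer (U : Set G) := by
    intro a ha; rw [Subgroup.mem_centralizer_iff]; intro b hb; exact hU b hb a ha
  have h2 : V ≤ Subgroup.centralizer (U : Set G) := by
    intro a ha; rw [Subgroup.mem_centralizer_iff]; intro b hb; exact hUV b hb a ha
  have h3 : U ≤ Subgroup.centralizer (V : Set G) := by
    intro a ha; rw [Subgroup.mem_centralizer_iff]; intro b hb; exact (hUV a ha b hb).symm
  have h4 : V ≤ Subgroup.centralizer (V : Set G) := by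
    intro a ha; rw [Subgroup.mem_centralizer_iff]; intro b hb; exact hV b hb a ha
  apply sup_le
  · exact Subgroup.le_centralizer_iff.mp (sup_le h1 h2)
  · exact Subgroup.le_centralizer_iff.mp (sup_le h3 h4)

theorem main2 [Finite L] {p : ℕ} [Fact p.Prime]
    (hchar : Subgroup.centralizer (pCore p L : Set L) ≤ pCore p L)
    (L₀ : Subgroup L) (hL₀ : IsCoatom L₀) (Y : Subgroup L) (hYL₀ : Y ≤ L₀)
    (hYel : IsElementaryAbelian p Y) (hmin : IsMinimalOver Y)
    (hOY : pCore p L ≤ Subgroup.normalizer (Y : Set L))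
    (A : Subgroup L) (hA : A = Subgroup.normalClosure (((pCore p L ⊓ Y : Subgroup L)) : Set L))
    (g : L) (hg : g ∉ L₀) :
    (frattini ↥A).map A.subtype = ⁅A, A⁆ ∧ ⁅A, A⁆ = ⁅A ⊓ Y, A⁆ ∧
      ⁅A ⊓ Y, A⁆ = ⁅A ⊓ Y, A ⊓ Y.map (MulAut.conj g).toMonoidHom⁆ ∧
      ⁅A ⊓ Y, A⁆ ≤ Y ⊓ Subgroup.center L ∧
      Y ⊓ Y.map (MulAut.conj g).toMonoidHom = Y ⊓ Subgroup.center L ∧
      (A ⊓ Y) ⊓ (A ⊓ Y.map (MulAut.conj g).toMonoidHom) = Y ⊓ Subgroup.center L ∧
      A ⊓ Subgroup.center L = Y ⊓ Subgroup.center L := by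
  have hQn : (pCore p L).Normal := Cfsg.pCore_normal p L
  have hQp : IsPGroup p ↥(pCore p L) := Cfsg.Agent.Lib.Helper4_PCore.pCore_isPGroup
  have hYc : ∀ a ∈ Y, ∀ b ∈ Y, a * b = b * a := by
    intro a ha b hb
    have := hYel.1.is_comm.comm (⟨a, ha⟩ : ↥Y) ⟨b, hb⟩
    exact congrArg Subtype.val this
  have hmemYg : ∀ x, x ∈ Y.map (MulAut.conj g).toMonoidHom ↔ g⁻¹ * x * g ∈ Y :=
    fun x => Cfsg.Agent.Lib.Helper3_Conj.mem_map_conj Y g x
  have hYgc : ∀ a ∈ Y.map (MulAut.conj g).toMonoidHom, ∀ b ∈ Y.map (MulAut.conj g).toMonoidHom,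
      a * b = b * a := by
    intro a ha b hb
    rw [hmemYg] at ha hb
    have := hYc _ ha _ hb
    have h1 : a * b = g * ((g⁻¹ * a * g) * (g⁻¹ * b * g)) * g⁻¹ := by group
    have h2 : b * a = g * ((g⁻¹ * b * g) * (g⁻¹ * a * g)) * g⁻¹ := by group
    rw [h1, h2, this]
  have hQYg : pCore p L ≤ Subgroup.normalizer ((Y.map (MulAut.conj g).toMonoidHom : Subgroup L) : Set L) := by
    intro q hq
    rw [Subgroup.mem_normalizer_iff]
    intro x
    rw [hmemYg, hmemYg]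
    have hq' : g⁻¹ * q * g ∈ pCore p L := by simpa using hQn.conj_mem q hq g⁻¹
    have := (Subgroup.mem_normalizer_iff.mp (hOY hq')) (g⁻¹ * x * g)
    rw [this]
    have e : g⁻¹ * q * g * (g⁻¹ * x * g) * (g⁻¹ * q * g)⁻¹ = g⁻¹ * (q * x * q⁻¹) * g := by group
    rw [e]
  have hLK := Cfsg.Agent.Lib.Helper3_YMin.le_of_ne_top L₀ hL₀ Y hYL₀ hmin
  have hL₀nn : ¬ L₀.Normal := by
    intro hn
    have := Subgroup.normalClosure_le_normal (N := L₀) (s := (Y : Set L)) hYL₀
    rw [hmin.1] at this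
    exact hL₀.1 (top_le_iff.mp this)
  have hNL₀ : Subgroup.normalizer (L₀ : Set L) = L₀ := by
    rcases hL₀.le_iff.mp (Subgroup.le_normalizer : L₀ ≤ Subgroup.normalizer (L₀ : Set L)) with h | h
    · exact absurd (Subgroup.normalizer_eq_top_iff.mp h) hL₀nn
    · exact h
  have hgen : Y ⊔ Y.map (MulAut.conj g).toMonoidHom = ⊤ := by
    by_contra hne
    have h1 : Y ⊔ Y.map (MulAut.conj g).toMonoidHom ≤ L₀ := hLK _ le_sup_left hne
    have h2 : Y.map (MulAut.conj g).toMonoidHom ≤ L₀ := le_trans le_sup_right h1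
    have h3 : Y ≤ L₀.comap (MulAut.conj g).toMonoidHom := by
      intro y hy
      rw [Subgroup.mem_comap]
      apply h2
      exact ⟨y, hy, rfl⟩
    have h4 : L₀.comap (MulAut.conj g).toMonoidHom ≠ ⊤ := by
      intro h
      apply hL₀.1
      rw [eq_top_iff]
      intro x _
      have h5 : g⁻¹ * x * g ∈ L₀.comap (MulAut.conj g).toMonoidHom := by
        rw [h]; exact Subgroup.mem_top _
      rw [Subgroup.mem_comap] at h5
      have h6 : (MulAut.conj g).toMonoidHom (g⁻¹ * x * g) = x := by simp [mul_assoc]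
      rw [h6] at h5; exact h5
    have h5 := hLK _ h3 h4
    have h6 : g ∈ Subgroup.normalizer (L₀ : Set L) := by
      apply Cfsg.Agent.Lib.Helper3_Alperin.mem_normalizer_of_conj_le
      intro a ha
      apply h5
      rw [Subgroup.mem_comap]
      have e : (MulAut.conj g).toMonoidHom (g⁻¹ * a * g) = a := by simp [mul_assoc]
      rw [e]; exact ha
    rw [hNL₀] at h6
    exact hg h6
  have hcen1 : Y ⊓ Y.map (MulAut.conj g).toMonoidHom ≤ Subgroup.center L := by
    intro x hx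
    have h1 : (⊤ : Subgroup L) ≤ Subgroup.centralizer ({x} : Set L) := by
      rw [← hgen]
      apply sup_le
      · intro y hy; rw [Subgroup.mem_centralizer_singleton_iff]; exact hYc y hy x hx.1
      · intro y hy; rw [Subgroup.mem_centralizer_singleton_iff]; exact hYgc y hy x hx.2
    rw [Subgroup.mem_center_iff]
    intro h
    have := h1 (Subgroup.mem_top h)
    rw [Subgroup.mem_centralizer_singleton_iff] at this
    exact this
  have hcen2 : ∀ x ∈ Subgroup.center L, (x ∈ Y ↔ x ∈ Y.map (MulAut.conj g).toMonoidHom) := by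
    intro x hx
    rw [hmemYg]
    have h1 : g⁻¹ * x * g = x := by
      have := Subgroup.mem_center_iff.mp hx g
      rw [mul_assoc, ← this, ← mul_assoc, inv_mul_cancel, one_mul]
    rw [h1]
  have h5 : Y ⊓ Y.map (MulAut.conj g).toMonoidHom = Y ⊓ Subgroup.center L := by
    apply le_antisymm
    · intro x hx; exact ⟨hx.1, hcen1 hx⟩
    · intro x hx; exact ⟨hx.1, (hcen2 x hx.2).mp hx.1⟩
  have hcenQ : Subgroup.center L ≤ pCore p L :=
    le_trans (Subgroup.center_le_centralizer _) hchar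
  have hY₀A : pCore p L ⊓ Y ≤ A := by rw [hA]; exact Subgroup.le_normalClosure
  have hAn : A.Normal := by rw [hA]; exact Subgroup.normalClosure_normal
  have hAQ : A ≤ pCore p L := by
    rw [hA]; exact Subgroup.normalClosure_le_normal (N := pCore p L) (fun x hx => hx.1)
  have hAY : A ⊓ Y = pCore p L ⊓ Y :=
    le_antisymm (inf_le_inf_right _ hAQ) (le_inf hY₀A inf_le_right)
  have hY₀gA : pCore p L ⊓ Y.map (MulAut.conj g).toMonoidHom ≤ A := by
    intro x hx
    have h1 : g⁻¹ * x * g ∈ pCore p L ⊓ Y :=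
      ⟨by simpa using hQn.conj_mem x hx.1 g⁻¹, (hmemYg x).mp hx.2⟩
    have h2 := hAn.conj_mem _ (hY₀A h1) g
    have e : g * (g⁻¹ * x * g) * g⁻¹ = x := by group
    rw [e] at h2; exact h2
  have hAYg : A ⊓ Y.map (MulAut.conj g).toMonoidHom =
      pCore p L ⊓ Y.map (MulAut.conj g).toMonoidHom :=
    le_antisymm (inf_le_inf_right _ hAQ) (le_inf hY₀gA inf_le_right)
  have hB : A = (pCore p L ⊓ Y) ⊔ (pCore p L ⊓ Y.map (MulAut.conj g).toMonoidHom) := by
    apply le_antisymm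
    · have hBn : ((pCore p L ⊓ Y) ⊔ (pCore p L ⊓ Y.map (MulAut.conj g).toMonoidHom)).Normal := by
        rw [← Subgroup.normalizer_eq_top_iff, eq_top_iff, ← hgen]
        apply sup_le
        · exact le_normalizer_sup (pCore p L) Y _ hYc hOY
        · have := le_normalizer_sup (pCore p L) (Y.map (MulAut.conj g).toMonoidHom) Y hYgc hQYg
          rwa [sup_comm] at this
      rw [hA]
      exact Subgroup.normalClosure_le_normal
        (N := (pCore p L ⊓ Y) ⊔ (pCore p L ⊓ Y.map (MulAut.conj g).toMonoidHom))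
        (le_sup_left : pCore p L ⊓ Y ≤ _)
    · exact sup_le hY₀A hY₀gA
  have hQN₀ : pCore p L ≤ Subgroup.normalizer ((pCore p L ⊓ Y : Subgroup L) : Set L) := by
    intro t ht
    rw [inf_comm]
    exact Cfsg.Agent.Lib.Helper3_Bender.mem_normalizer_inf Y (pCore p L) (hOY ht) ht
  have hQN₀g : pCore p L ≤ Subgroup.normalizer
      ((pCore p L ⊓ Y.map (MulAut.conj g).toMonoidHom : Subgroup L) : Set L) := by
    intro t ht
    rw [inf_comm]
    exact Cfsg.Agent.Lib.Helper3_Bender.mem_normalizer_inf _ (pCore p L) (hQYg ht) ht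
  have hC1 : ⁅pCore p L ⊓ Y, pCore p L ⊓ Y.map (MulAut.conj g).toMonoidHom⁆ ≤ pCore p L ⊓ Y :=
    Cfsg.Agent.Lib.Lead_Coprime.commutator_le_of_le_normalizer _ _ (le_trans inf_le_left hQN₀)
  have hC2 : ⁅pCore p L ⊓ Y, pCore p L ⊓ Y.map (MulAut.conj g).toMonoidHom⁆ ≤
      pCore p L ⊓ Y.map (MulAut.conj g).toMonoidHom := by
    rw [Subgroup.commutator_comm]
    exact Cfsg.Agent.Lib.Lead_Coprime.commutator_le_of_le_normalizer _ _ (le_trans inf_le_left hQN₀g)
  have hCcen : ⁅pCore p L ⊓ Y, pCore p L ⊓ Y.map (MulAut.conj g).toMonoidHom⁆ ≤ Subgroup.center L :=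
    fun x hx => hcen1 ⟨(hC1 hx).2, (hC2 hx).2⟩
  have hCn : (⁅pCore p L ⊓ Y, pCore p L ⊓ Y.map (MulAut.conj g).toMonoidHom⁆).Normal := by
    constructor
    intro n hn g'
    have := Subgroup.mem_center_iff.mp (hCcen hn) g'
    rw [this, mul_assoc, mul_inv_cancel, mul_one]
    exact hn
  have hAAC : ⁅A, A⁆ ≤ ⁅pCore p L ⊓ Y, pCore p L ⊓ Y.map (MulAut.conj g).toMonoidHom⁆ := by
    haveI := hCn
    have hker : (QuotientGroup.mk' ⁅pCore p L ⊓ Y, pCore p L ⊓ Y.map (MulAut.conj g).toMonoidHom⁆).ker =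
        ⁅pCore p L ⊓ Y, pCore p L ⊓ Y.map (MulAut.conj g).toMonoidHom⁆ := QuotientGroup.ker_mk' _
    have hcomm : ∀ u ∈ pCore p L ⊓ Y, ∀ v ∈ pCore p L ⊓ Y.map (MulAut.conj g).toMonoidHom,
        (QuotientGroup.mk' ⁅pCore p L ⊓ Y, pCore p L ⊓ Y.map (MulAut.conj g).toMonoidHom⁆) u *
          (QuotientGroup.mk' ⁅pCore p L ⊓ Y, pCore p L ⊓ Y.map (MulAut.conj g).toMonoidHom⁆) v =
        (QuotientGroup.mk' ⁅pCore p L ⊓ Y, pCore p L ⊓ Y.map (MulAut.conj g).toMonoidHom⁆) v *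
          (QuotientGroup.mk' ⁅pCore p L ⊓ Y, pCore p L ⊓ Y.map (MulAut.conj g).toMonoidHom⁆) u := by
      intro u hu v hv
      rw [← map_mul, ← map_mul]
      apply QuotientGroup.eq.mpr
      have e : (u * v)⁻¹ * (v * u) = ⁅v⁻¹, u⁻¹⁆ := by rw [commutatorElement_def]; group
      rw [e, Subgroup.commutator_comm]
      exact Subgroup.commutator_mem_commutator (Subgroup.inv_mem _ hv) (Subgroup.inv_mem _ hu)
    rw [← hker, ← Subgroup.map_eq_bot_iff, Subgroup.map_commutator,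
      Subgroup.commutator_eq_bot_iff_le_centralizer, hB, Subgroup.map_sup]
    apply comm_sup
    · rintro _ ⟨a, ha, rfl⟩ _ ⟨b, hb, rfl⟩
      rw [← map_mul, ← map_mul, hYc a ha.2 b hb.2]
    · rintro _ ⟨a, ha, rfl⟩ _ ⟨b, hb, rfl⟩
      rw [← map_mul, ← map_mul, hYgc a ha.2 b hb.2]
    · rintro _ ⟨a, ha, rfl⟩ _ ⟨b, hb, rfl⟩
      exact hcomm a ha b hb
  have hCA : ⁅pCore p L ⊓ Y, pCore p L ⊓ Y.map (MulAut.conj g).toMonoidHom⁆ ≤ ⁅pCore p L ⊓ Y, A⁆ :=
    Subgroup.commutator_mono le_rfl hY₀gA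
  have hYAAA : ⁅pCore p L ⊓ Y, A⁆ ≤ ⁅A, A⁆ := Subgroup.commutator_mono hY₀A le_rfl
  have e1 : ⁅A, A⁆ = ⁅pCore p L ⊓ Y, A⁆ := le_antisymm (le_trans hAAC hCA) hYAAA
  have e2 : ⁅pCore p L ⊓ Y, A⁆ = ⁅pCore p L ⊓ Y, pCore p L ⊓ Y.map (MulAut.conj g).toMonoidHom⁆ :=
    le_antisymm (le_trans hYAAA hAAC) hCA
  -- Frattini
  have hAp : IsPGroup p ↥A := hQp.to_le hAQ
  have hfr : frattini ↥A = commutator ↥A := by
    apply le_antisymm
    · apply Cfsg.Agent.Lib.Helper4_Frattini.frattini_le_of_elementary_quotient (p := p) (commutator ↥A)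
      · intro a b
        rw [commutator_def]
        exact Subgroup.commutator_mem_commutator (Subgroup.mem_top a) (Subgroup.mem_top b)
      · intro a
        have ha : (a : L) ∈ (pCore p L ⊓ Y) ⊔ (pCore p L ⊓ Y.map (MulAut.conj g).toMonoidHom) := by
          rw [← hB]; exact a.2
        obtain ⟨u, hu, v, hv, huv⟩ := Cfsg.Agent.Lib.Helper3_Tight.mem_sup_of_le_normalizer _ _
          (le_trans inf_le_left hQN₀) (a : L) ha
        have hup : u ^ p = 1 := hYel.2 u hu.2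
        have hvp : v ^ p = 1 := by
          obtain ⟨y, hy, hyv⟩ := Subgroup.mem_map.mp hv.2
          rw [← hyv, ← map_pow, hYel.2 y hy, map_one]
        have hauv : a = (⟨u, hY₀A hu⟩ : ↥A) * ⟨v, hY₀gA hv⟩ := Subtype.ext huv
        rw [← Abelianization.ker_of, MonoidHom.mem_ker, map_pow, hauv, map_mul, mul_pow,
          ← map_pow, ← map_pow]
        have h1 : (⟨u, hY₀A hu⟩ : ↥A) ^ p = 1 := Subtype.ext (by simpa using hup)
        have h2 : (⟨v, hY₀gA hv⟩ : ↥A) ^ p = 1 := Subtype.ext (by simpa using hvp)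
        rw [h1, h2, map_one, one_mul]
    · exact Cfsg.Agent.Lib.Helper3_RegN.commutator_le_frattini hAp
  have h1 : (frattini ↥A).map A.subtype = ⁅A, A⁆ := by
    rw [hfr, commutator_def, Subgroup.map_commutator, ← MonoidHom.range_eq_map, Subgroup.range_subtype]
  refine ⟨h1, ?_, ?_, ?_, h5, ?_, ?_⟩
  · rw [hAY]; exact e1
  · rw [hAY, hAYg]; exact e2
  · rw [hAY, e2]
    intro x hx
    have := hcen1 ⟨(hC1 hx).2, (hC2 hx).2⟩
    exact ⟨(hC1 hx).2, this⟩
  · apply le_antisymm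
    · intro x hx
      exact h5 ▸ (⟨hx.1.2, hx.2.2⟩ : x ∈ Y ⊓ Y.map (MulAut.conj g).toMonoidHom)
    · intro x hx
      have hxQ : x ∈ pCore p L := hcenQ hx.2
      exact ⟨⟨hY₀A ⟨hxQ, hx.1⟩, hx.1⟩, ⟨hY₀gA ⟨hxQ, (hcen2 x hx.2).mp hx.1⟩, (hcen2 x hx.2).mp hx.1⟩⟩
  · apply le_antisymm
    · intro z hz
      have hzA : z ∈ (pCore p L ⊓ Y) ⊔ (pCore p L ⊓ Y.map (MulAut.conj g).toMonoidHom) := by
        rw [← hB]; exact hz.1
      obtain ⟨a, ha, b, hb, hzab⟩ := Cfsg.Agent.Lib.Helper3_Tight.mem_sup_of_le_normalizer _ _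
        (le_trans inf_le_left hQN₀) z hzA
      have hzc := Subgroup.mem_center_iff.mp hz.2
      -- a is central
      have hacen : a ∈ Subgroup.center L := by
        have h1 : (⊤ : Subgroup L) ≤ Subgroup.centralizer ({a} : Set L) := by
          rw [← hgen]
          apply sup_le
          · intro y hy; rw [Subgroup.mem_centralizer_singleton_iff]; exact hYc y hy a ha.2
          · intro w hw
            rw [Subgroup.mem_centralizer_singleton_iff]
            have hbw : w * b = b * w := hYgc w hw b hb.2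
            have hza : a = z * b⁻¹ := by rw [hzab]; group
            have hbw' : w * b⁻¹ = b⁻¹ * w := by
              have : b⁻¹ * (w * b) * b⁻¹ = b⁻¹ * (b * w) * b⁻¹ := by rw [hbw]
              have e1 : b⁻¹ * (w * b) * b⁻¹ = b⁻¹ * w := by group
              have e2 : b⁻¹ * (b * w) * b⁻¹ = w * b⁻¹ := by group
              rw [e1, e2] at this
              exact this.symm
            rw [hza, ← mul_assoc, hzc w, mul_assoc, hbw', mul_assoc]
        rw [Subgroup.mem_center_iff]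
        intro h
        have := h1 (Subgroup.mem_top h)
        rw [Subgroup.mem_centralizer_singleton_iff] at this
        exact this
      have hbcen : b ∈ Subgroup.center L := by
        have : b = a⁻¹ * z := by rw [hzab]; group
        rw [this]
        exact Subgroup.mul_mem _ (Subgroup.inv_mem _ hacen) hz.2
      have hbY : b ∈ Y := (hcen2 b hbcen).mpr hb.2
      refine ⟨?_, hz.2⟩
      rw [hzab]
      exact Y.mul_mem ha.2 hbY
    · intro x hx
      exact ⟨hY₀A ⟨hcenQ hx.2, hx.1⟩, hx.2⟩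

end Cfsg.Agent.Lib.Helper3_YMin2
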