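import Mathlib
import Cfsg.Prelude.Def_IsolatedElements
import Cfsg.Agent.Lib.Helper5_Sylow

set_option autoImplicit false

namespace Cfsg.Agent.Lib.Helper5_Isolated

open Subgroup Cfsg Cfsg.Agent.Lib.Helper5_Sylow

/-- An isolated element is central in every finite `p`-subgroup containing it. -/
theorem commute_of_mem_pgroup {G : Type*} [Group G] [Finite G] {p : ℕ} [Fact p.Prime]
    {x : G} (hiso : IsIsolated x) {R : Subgroup G} (hR : IsPGroup p R) (hx : x ∈ R) :
    ∀ s ∈ R, Commute s x := by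
  -- work in the nilpotent group R
  have hnil : Group.IsNilpotent R := hR.isNilpotent
  have hNC := Group.normalizerCondition_of_isNilpotent (G := R)
  set x' : R := ⟨x, hx⟩ with hx'
  set Q : Subgroup R := Subgroup.centralizer ({x'} : Set R) with hQ
  by_cases htop : Q = ⊤
  · intro s hs
    have : (⟨s, hs⟩ : R) ∈ Q := by rw [htop]; trivial
    rw [hQ, Subgroup.mem_centralizer_singleton_iff] at this
    have h2 := congrArg (Subtype.val) this
    simp only [Subgroup.coe_mul, hx'] at h2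
    exact h2
  · exfalso
    have hlt : Q < ⊤ := lt_top_iff_ne_top.mpr htop
    have hlt2 := hNC Q hlt
    obtain ⟨s, hsN, hsQ⟩ := SetLike.exists_of_lt hlt2
    apply hsQ
    have hxQ : x' ∈ Q := by
      rw [hQ, Subgroup.mem_centralizer_singleton_iff]
    have h1 : s * x' * s⁻¹ ∈ Q := (Subgroup.mem_normalizer_iff.mp hsN x').mp hxQ
    rw [hQ, Subgroup.mem_centralizer_singleton_iff] at h1
    -- h1 : x' * (s x' s⁻¹) = (s x' s⁻¹) * x'
    have h2 : Commute x ((s : G) * x * (s : G)⁻¹) := by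
      have := congrArg (Subtype.val) h1
      simp only [Subgroup.coe_mul, Subgroup.coe_inv, hx'] at this
      exact this.symm
    have h3 := hiso _ h2
    rw [hQ, Subgroup.mem_centralizer_singleton_iff]
    apply Subtype.ext
    simp only [Subgroup.coe_mul, hx']
    have : (s : G) * x = ((s : G) * x * (s : G)⁻¹) * s := by group
    rw [this, h3]

/-- Conjugates of isolated elements are isolated. -/
theorem isIsolated_conj {G : Type*} [Group G] {x : G} (hiso : IsIsolated x) (g : G) :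
    IsIsolated (g * x * g⁻¹) := by
  intro h hc
  have h1 : Commute x ((g⁻¹ * h * g) * x * (g⁻¹ * h * g)⁻¹) := by
    have : (g⁻¹ * h * g) * x * (g⁻¹ * h * g)⁻¹ = g⁻¹ * (h * (g * x * g⁻¹) * h⁻¹) * g := by group
    rw [this]
    have hx : x = g⁻¹ * (g * x * g⁻¹) * g := by group
    show x * _ = _ * x
    calc x * (g⁻¹ * (h * (g * x * g⁻¹) * h⁻¹) * g)
        = g⁻¹ * ((g * x * g⁻¹) * (h * (g * x * g⁻¹) * h⁻¹)) * g := by group
      _ = g⁻¹ * ((h * (g * x * g⁻¹) * h⁻¹) * (g * x * g⁻¹)) * g := by rw [hc.eq]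
      _ = (g⁻¹ * (h * (g * x * g⁻¹) * h⁻¹) * g) * x := by group
  have h2 := hiso _ h1
  calc h * (g * x * g⁻¹) * h⁻¹ = g * ((g⁻¹ * h * g) * x * (g⁻¹ * h * g)⁻¹) * g⁻¹ := by group
    _ = g * x * g⁻¹ := by rw [h2]

/-- Fusion of an isolated `p`-element is controlled inside any subgroup containing both conjugates. -/
theorem exists_conj_eq {G : Type*} [Group G] [Finite G] {p : ℕ} [Fact p.Prime]
    {x : G} (hx : ∃ k : ℕ, orderOf x = p ^ k) (hiso : IsIsolated x) (K : Subgroup G) (hxK : x ∈ K)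
    (g : G) (hgK : g * x * g⁻¹ ∈ K) : ∃ c ∈ K, (c * g) * x * (c * g)⁻¹ = x := by
  have hA : Subgroup.zpowers x ≤ K := by rwa [Subgroup.zpowers_le]
  have hB : Subgroup.zpowers (g * x * g⁻¹) ≤ K := by rwa [Subgroup.zpowers_le]
  have hAp : IsPGroup p (Subgroup.zpowers x) := by
    obtain ⟨k, hk⟩ := hx
    apply IsPGroup.of_card (n := k)
    rw [Nat.card_zpowers, hk]
  have hBp : IsPGroup p (Subgroup.zpowers (g * x * g⁻¹)) := by
    obtain ⟨k, hk⟩ := hx
    apply IsPGroup.of_card (n := k)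
    rw [Nat.card_zpowers]
    have : g * x * g⁻¹ = MulAut.conj g x := by simp
    rw [this, MulEquiv.orderOf_eq, hk]
  obtain ⟨c, hcK, R, hRp, -, hAR, hBR⟩ := exists_conj_le_common_pgroup hA hB hAp hBp
  refine ⟨c, hcK, ?_⟩
  have hxR : x ∈ R := hAR (Subgroup.mem_zpowers x)
  have hyR : c * (g * x * g⁻¹) * c⁻¹ ∈ R :=
    hBR ⟨g * x * g⁻¹, Subgroup.mem_zpowers _, by simp⟩
  have hcomm := commute_of_mem_pgroup hiso hRp hxR _ hyR
  have e : (c * g) * x * (c * g)⁻¹ = c * (g * x * g⁻¹) * c⁻¹ := by group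
  apply hiso
  rw [e]
  exact hcomm.symm

end Cfsg.Agent.Lib.Helper5_Isolated
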