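import Mathlib
import Cfsg.Prelude.Def_IsolatedElements
import Cfsg.Agent.Lib.Helper5_Isolated
import Cfsg.Agent.Lib.Helper5_PPrime
import Cfsg.Agent.Lib.Helper3_Components
import Cfsg.Agent.Lib.Helper3_PComp
import Cfsg.Agent.Lib.Helper3_CoreComp2
import Cfsg.Agent.Lib.Helper3_SupNormalizer
import Cfsg.Agent.S1958

set_option autoImplicit false

namespace Cfsg.Agent.Lib.Helper3_ZStarMin
open Cfsg

universe u

variable {G : Type u} [Group G] [Finite G] {p : ℕ} [Fact p.Prime]

/-- in a minimal counterexample, `O_{p'}(G) = 1` -/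
theorem core_eq_bot (x : G) (hnz : ¬ InZStar p x)
    (hquot : ∀ (N : Subgroup G) [N.Normal], N ≠ ⊥ → InZStar p (QuotientGroup.mk x : G ⧸ N)) :
    pPrimeCore p G = ⊥ := by
  by_contra hne
  apply hnz
  intro g
  have h1 := hquot (pPrimeCore p G) hne (QuotientGroup.mk g)
  rw [Cfsg.Agent.S1958.pPrimeCore_quotient p G, Subgroup.mem_bot] at h1
  rw [← QuotientGroup.mk_mul, ← QuotientGroup.mk_inv, ← QuotientGroup.mk_mul,
    ← QuotientGroup.mk_inv, ← QuotientGroup.mk_mul, QuotientGroup.eq_one_iff] at h1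
  exact h1

/-- `G` is the normal closure of `x` -/
theorem normalClosure_eq_top (x : G) (hO : pPrimeCore p G = ⊥) (hiso : IsIsolated x)
    (hnz : ¬ InZStar p x)
    (hmin : ∀ (H : Subgroup G) (hxH : x ∈ H), H ≠ ⊤ → InZStar p (⟨x, hxH⟩ : ↥H)) :
    Subgroup.normalClosure ({x} : Set G) = ⊤ := by
  by_contra hne
  obtain ⟨K, hKdef⟩ : ∃ K : Subgroup G, K = Subgroup.normalClosure ({x} : Set G) := ⟨_, rfl⟩
  rw [← hKdef] at hne
  haveI hKn : K.Normal := by rw [hKdef]; infer_instance
  have hxK : x ∈ K := by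
    rw [hKdef]; exact Subgroup.subset_normalClosure (Set.mem_singleton x)
  have h1 := hmin K hxK hne
  have h2 : pPrimeCore p ↥K = ⊥ := by
    haveI : (pPrimeCore p ↥K).Characteristic :=
      Cfsg.Agent.Lib.Helper3_CoreComp2.pPrimeCore_characteristic p ↥K
    haveI hn : ((pPrimeCore p ↥K).map K.subtype).Normal := inferInstance
    have h3 : (pPrimeCore p ↥K).map K.subtype ≤ pPrimeCore p G := by
      apply Cfsg.Agent.Lib.Helper5_PPrime.le_pPrimeCore
      rw [Subgroup.card_map_of_injective K.subtype_injective]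
      exact Cfsg.Agent.Lib.Helper5_PPrime.pPrimeCore_coprime p ↥K
    rw [hO] at h3
    exact (Subgroup.map_eq_bot_iff_of_injective _ K.subtype_injective).mp (le_bot_iff.mp h3)
  have h4 : ∀ k ∈ K, k * x = x * k := by
    intro k hk
    have h5 := h1 ⟨k, hk⟩
    rw [h2, Subgroup.mem_bot] at h5
    have h6 := congrArg Subtype.val h5
    simp only [Subgroup.coe_mul, Subgroup.coe_inv, Subgroup.coe_one] at h6
    calc k * x = (k * x * k⁻¹ * x⁻¹) * x * k := by group
      _ = x * k := by rw [h6, one_mul]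
  apply hnz
  intro g
  have hg : g * x * g⁻¹ ∈ K := hKn.conj_mem x hxK g
  have h6 := hiso g (h4 _ hg).symm
  rw [h6, mul_inv_cancel]
  exact Subgroup.one_mem _

/-- if all commutators `[g, x]` lie in the normal subgroup `C` then `G' ≤ C` and `G = C⟨x⟩` -/
theorem commutator_le_of_comm_mem (x : G) (hcl : Subgroup.normalClosure ({x} : Set G) = ⊤)
    (C : Subgroup G) [hCn : C.Normal] (h : ∀ g : G, g * x * g⁻¹ * x⁻¹ ∈ C) :
    commutator G ≤ C ∧ C ⊔ Subgroup.zpowers x = ⊤ := by
  have hD : C ⊔ Subgroup.zpowers x = ⊤ := by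
    rw [eq_top_iff, ← hcl]
    unfold Subgroup.normalClosure
    rw [Subgroup.closure_le]
    intro y hy
    rw [Group.mem_conjugatesOfSet_iff] at hy
    obtain ⟨a, ha, hc⟩ := hy
    rw [Set.mem_singleton_iff] at ha
    subst ha
    obtain ⟨c, rfl⟩ := isConj_iff.mp hc
    have e : c * a * c⁻¹ = (c * a * c⁻¹ * a⁻¹) * a := by group
    rw [SetLike.mem_coe, e]
    exact Subgroup.mul_mem _ (Subgroup.mem_sup_left (h c))
      (Subgroup.mem_sup_right (Subgroup.mem_zpowers a))
  refine ⟨?_, hD⟩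
  have hdec : ∀ a : G, ∃ i : ℤ, (QuotientGroup.mk a : G ⧸ C) = QuotientGroup.mk (x ^ i) := by
    intro a
    have ha : a ∈ C ⊔ Subgroup.zpowers x := by rw [hD]; exact Subgroup.mem_top a
    obtain ⟨c, hc, z, hz, rfl⟩ := Cfsg.Agent.Lib.Helper3_SupNormalizer.exists_mul_of_mem_sup
      C (Subgroup.zpowers x) (by rw [Subgroup.normalizer_eq_top]; exact le_top) ha
    obtain ⟨i, rfl⟩ := Subgroup.mem_zpowers_iff.mp hz
    refine ⟨i, ?_⟩
    rw [QuotientGroup.mk_mul, (QuotientGroup.eq_one_iff c).mpr hc, one_mul]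
  rw [commutator_def, Subgroup.commutator_le]
  intro a _ b _
  obtain ⟨i, hi⟩ := hdec a
  obtain ⟨j, hj⟩ := hdec b
  rw [← QuotientGroup.eq_one_iff, commutatorElement_def, QuotientGroup.mk_mul, QuotientGroup.mk_mul,
    QuotientGroup.mk_mul, QuotientGroup.mk_inv, QuotientGroup.mk_inv, hi, hj,
    ← QuotientGroup.mk_inv, ← QuotientGroup.mk_inv, ← QuotientGroup.mk_mul, ← QuotientGroup.mk_mul,
    ← QuotientGroup.mk_mul, QuotientGroup.eq_one_iff]
  have e : x ^ i * x ^ j * (x ^ i)⁻¹ * (x ^ j)⁻¹ = 1 := by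
    rw [← zpow_add, add_comm, zpow_add]
    group
  rw [e]
  exact Subgroup.one_mem _

/-- a nontrivial perfect subgroup cannot have all `[g, x]` in its centralizer -/
theorem perfect_contra (x : G) (hcl : Subgroup.normalClosure ({x} : Set G) = ⊤)
    (Y : Subgroup G) (hYperf : ⁅Y, Y⁆ = Y) (hYne : Y ≠ ⊥)
    [hCn : (Subgroup.centralizer (Y : Set G)).Normal]
    (h : ∀ g : G, g * x * g⁻¹ * x⁻¹ ∈ Subgroup.centralizer (Y : Set G)) : False := by
  obtain ⟨h1, -⟩ := commutator_le_of_comm_mem x hcl _ h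
  have h2 : Y ≤ Subgroup.centralizer (Y : Set G) := by
    rw [commutator_def] at h1
    calc Y = ⁅Y, Y⁆ := hYperf.symm
      _ ≤ ⁅(⊤ : Subgroup G), ⊤⁆ := Subgroup.commutator_mono le_top le_top
      _ ≤ _ := h1
  apply hYne
  rw [← hYperf, Subgroup.commutator_eq_bot_iff_le_centralizer]
  exact h2

/-- the subgroup `M_N` attached to a nontrivial normal subgroup `N` -/
theorem exists_M (x : G) (hO : pPrimeCore p G = ⊥)
    (hquot : ∀ (N : Subgroup G) [N.Normal], N ≠ ⊥ → InZStar p (QuotientGroup.mk x : G ⧸ N))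
    (N : Subgroup G) [hNn : N.Normal] (hN : N ≠ ⊥) :
    ∃ M : Subgroup G, M.Normal ∧ (∀ g : G, g * x * g⁻¹ * x⁻¹ ∈ M) ∧
      ∀ L : Subgroup G, IsComponent L → N ≤ Subgroup.centralizer (L : Set G) → ⁅L, M⁆ = ⊥ := by
  haveI hcn : (pPrimeCore p (G ⧸ N)).Normal := Cfsg.Agent.Lib.Helper5_PPrime.pPrimeCore_normal p _
  refine ⟨(pPrimeCore p (G ⧸ N)).comap (QuotientGroup.mk' N), inferInstance, ?_, ?_⟩
  · intro g
    have h1 := hquot N hN (QuotientGroup.mk g)
    rw [Subgroup.mem_comap]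
    simpa using h1
  · intro L hL hNL
    haveI hMn : ((pPrimeCore p (G ⧸ N)).comap (QuotientGroup.mk' N)).Normal := inferInstance
    rcases Cfsg.Agent.Lib.Helper3_Components.component_le_or_commute L _ hL hMn.isSubnormal with h | h
    · exfalso
      have hle : N.subgroupOf L ≤ Subgroup.center ↥L := by
        intro l hl
        rw [Subgroup.mem_subgroupOf] at hl
        rw [Subgroup.mem_center_iff]
        intro l'
        apply Subtype.ext
        rw [Subgroup.coe_mul, Subgroup.coe_mul]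
        exact Subgroup.mem_centralizer_iff.mp (hNL hl) l' l'.2
      apply Cfsg.Agent.Lib.Helper3_PComp.component_central_index p hO L hL _ hle
      have hker : ((QuotientGroup.mk' N).comp L.subtype).ker = N.subgroupOf L := by
        ext l
        rw [MonoidHom.mem_ker, Subgroup.mem_subgroupOf, MonoidHom.comp_apply,
          QuotientGroup.mk'_apply, QuotientGroup.eq_one_iff]
        rfl
      rw [← hker, Subgroup.index_ker]
      have hrange : ((QuotientGroup.mk' N).comp L.subtype).range ≤ pPrimeCore p (G ⧸ N) := by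
        rintro _ ⟨l, rfl⟩
        exact h l.2
      exact Nat.Coprime.coprime_dvd_left (Subgroup.card_dvd_of_le hrange)
        (Cfsg.Agent.Lib.Helper5_PPrime.pPrimeCore_coprime p _)
    · exact h

end Cfsg.Agent.Lib.Helper3_ZStarMin
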