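import Mathlib
import Cfsg.Prelude.Def_IsolatedElements
import Cfsg.Agent.S3745
import Cfsg.Agent.Lib.Helper5_PPrime
import Cfsg.Agent.Lib.Helper3_SylowRel
import Cfsg.Agent.Lib.Helper3_SupNormalizer
import Cfsg.Agent.Lib.Helper4_PIrred

set_option autoImplicit false

namespace Cfsg.Agent.Lib.Helper3_ZStarSylow
open Cfsg Cfsg.Agent.Lib.Lead_SZ
open scoped Pointwise

universe u

variable {G : Type u} [Group G] [Finite G]

/-- If `x` of order `p` is central modulo `O_{p'}(N)` then `x` normalizes a conjugate (under `N`) of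
any given Sylow `q`-subgroup of `N`, `q ≠ p`. -/
theorem exists_invariant_sylow {p q : ℕ} [Fact p.Prime] [Fact q.Prime]
    (x : G) (hx : orderOf x = p) (N : Subgroup G) (hxN : x ∈ N)
    (hZ : InZStar p (⟨x, hxN⟩ : ↥N)) (R : Sylow q ↥N) :
    ∃ d ∈ N, x ∈ Subgroup.normalizer
      ((MulAut.conj d • ((R : Subgroup ↥N).map N.subtype) : Subgroup G) : Set G) := by
  classical
  have hp : p.Prime := Fact.out
  have hq : q.Prime := Fact.out
  obtain ⟨K, hKdef⟩ : ∃ K : Subgroup ↥N, K = pPrimeCore p ↥N := ⟨_, rfl⟩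
  haveI hKn : K.Normal := by
    rw [hKdef]; exact Cfsg.Agent.Lib.Helper5_PPrime.pPrimeCore_normal p _
  have hKc : (Nat.card K).Coprime p := by
    rw [hKdef]; exact Cfsg.Agent.Lib.Helper5_PPrime.pPrimeCore_coprime p _
  obtain ⟨K₀, hK₀def⟩ : ∃ K₀ : Subgroup G, K₀ = K.map N.subtype := ⟨_, rfl⟩
  obtain ⟨R₀, hR₀def⟩ : ∃ R₀ : Subgroup G, R₀ = (R : Subgroup ↥N).map N.subtype := ⟨_, rfl⟩
  rw [← hR₀def]
  have hK₀N : K₀ ≤ N := by
    rw [hK₀def]; rintro _ ⟨k, _, rfl⟩; exact k.2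
  have hR₀N : R₀ ≤ N := by
    rw [hR₀def]; rintro _ ⟨k, _, rfl⟩; exact k.2
  have hNK₀ : N ≤ Subgroup.normalizer (K₀ : Set G) := by
    apply Cfsg.Agent.Lib.Helper4_PIrred.le_normalizer_of_conj_mem'
    intro n hn k hk
    rw [hK₀def] at hk ⊢
    obtain ⟨k', hk', rfl⟩ := hk
    exact ⟨⟨n, hn⟩ * k' * ⟨n, hn⟩⁻¹, hKn.conj_mem k' hk' _, by simp⟩
  have hK₀c : (Nat.card K₀).Coprime p := by
    rw [hK₀def, Subgroup.card_map_of_injective N.subtype_injective]; exact hKc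
  have hR₀q : IsPGroup q ↥R₀ := by rw [hR₀def]; exact R.isPGroup'.map _
  -- `x` is central modulo `K`
  have hcenter : (QuotientGroup.mk (⟨x, hxN⟩ : ↥N) : ↥N ⧸ K) ∈ Subgroup.center (↥N ⧸ K) := by
    rw [Subgroup.mem_center_iff]
    intro g
    induction g using QuotientGroup.induction_on with
    | H m =>
      have h2 := hZ m⁻¹
      rw [← hKdef, inv_inv] at h2
      have h3 := hKn.conj_mem _ h2 (⟨x, hxN⟩ : ↥N)⁻¹
      rw [← QuotientGroup.mk_mul, ← QuotientGroup.mk_mul]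
      apply QuotientGroup.eq.mpr
      have e : (m * ⟨x, hxN⟩)⁻¹ * (⟨x, hxN⟩ * m) =
          (⟨x, hxN⟩ : ↥N)⁻¹ * (m⁻¹ * ⟨x, hxN⟩ * m * (⟨x, hxN⟩ : ↥N)⁻¹) * (⟨x, hxN⟩ : ↥N)⁻¹⁻¹ := by
        group
      rw [e]
      exact h3
  have hcent : ∀ a ∈ Subgroup.zpowers x, ∀ n ∈ N, n * a * n⁻¹ * a⁻¹ ∈ K₀ := by
    intro a ha n hn
    obtain ⟨i, rfl⟩ := Subgroup.mem_zpowers_iff.mp ha
    have h1 := Subgroup.zpow_mem _ hcenter i
    have h2 := Subgroup.mem_center_iff.mp h1 (QuotientGroup.mk (⟨n, hn⟩ : ↥N))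
    have h3 : (⟨n, hn⟩ : ↥N) * (⟨x, hxN⟩ : ↥N) ^ i * (⟨n, hn⟩ : ↥N)⁻¹ * ((⟨x, hxN⟩ : ↥N) ^ i)⁻¹ ∈ K := by
      rw [← QuotientGroup.eq_one_iff, QuotientGroup.mk_mul, QuotientGroup.mk_mul,
        QuotientGroup.mk_mul, QuotientGroup.mk_inv, QuotientGroup.mk_inv, QuotientGroup.mk_zpow,
        h2, mul_inv_cancel_right, mul_inv_cancel]
    rw [hK₀def]
    exact ⟨_, h3, by simp⟩
  obtain ⟨Y, hYdef⟩ : ∃ Y : Subgroup G, Y = R₀ ⊔ K₀ := ⟨_, rfl⟩
  have hYN : Y ≤ N := by rw [hYdef]; exact sup_le hR₀N hK₀N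
  have hR₀Y : R₀ ≤ Y := by rw [hYdef]; exact le_sup_left
  have hK₀Y : K₀ ≤ Y := by rw [hYdef]; exact le_sup_right
  have hRidx : ¬ q ∣ R₀.relIndex Y := by
    intro hd
    have h1 := Subgroup.relIndex_mul_relIndex R₀ Y N hR₀Y hYN
    have h2 : R₀.relIndex N = (R : Subgroup ↥N).index := by
      unfold Subgroup.relIndex
      rw [hR₀def]
      congr 1
      unfold Subgroup.subgroupOf
      exact Subgroup.comap_map_eq_self_of_injective N.subtype_injective _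
    have h3 : q ∣ (R : Subgroup ↥N).index := by
      rw [← h2, ← h1]; exact Dvd.dvd.mul_right hd _
    exact R.not_dvd_index h3
  have hidx : ∀ Q' : Subgroup G, Q' ≤ Y → Nat.card ↥Q' = Nat.card ↥R₀ → ¬ q ∣ Q'.relIndex Y := by
    intro Q' hQ'Y hcard
    have h1 := Cfsg.Agent.S3745.relIndex_mul_card' hQ'Y
    have h2 := Cfsg.Agent.S3745.relIndex_mul_card' hR₀Y
    rw [hcard, ← h2] at h1
    have hpos : 0 < Nat.card ↥R₀ := Nat.card_pos
    rw [Nat.eq_of_mul_eq_mul_right hpos h1]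
    exact hRidx
  have hcs : ∀ (k : G) (Q : Subgroup G), Nat.card ↥(MulAut.conj k • Q : Subgroup G) = Nat.card ↥Q :=
    fun k Q => by
      have h : (MulAut.conj k • Q : Subgroup G) = Q.map (MulAut.conj k).toMonoidHom := rfl
      rw [h]
      exact Subgroup.card_map_of_injective (MulAut.conj k).injective
  -- every Sylow `q`-subgroup of `Y` is a `K₀`-conjugate of `R₀`
  have hT : ∀ Q' : Subgroup G, Q' ≤ Y → IsPGroup q ↥Q' → Nat.card ↥Q' = Nat.card ↥R₀ →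
      ∃ k ∈ K₀, MulAut.conj k • R₀ = Q' := by
    intro Q' hQ'Y hQ'q hcard
    obtain ⟨y, hy, hyR⟩ := Cfsg.Agent.Lib.Helper3_SylowRel.exists_conj_le_of_relIndex Y Q' R₀ hQ'Y
      hQ'q (hidx Q' hQ'Y hcard) hR₀Y hR₀q
    have hyY : y ∈ K₀ ⊔ R₀ := by rw [sup_comm, ← hYdef]; exact hy
    obtain ⟨k, hk, r, hr, rfl⟩ := Cfsg.Agent.Lib.Helper3_SupNormalizer.exists_mul_of_mem_sup K₀ R₀
      (hR₀N.trans hNK₀) hyY
    refine ⟨k, hk, ?_⟩
    have hle : MulAut.conj k • R₀ ≤ Q' := by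
      intro z hz
      rw [mem_conj_smul] at hz
      have h1 := hyR (r⁻¹ * (k⁻¹ * z * k) * r) (by
        exact R₀.mul_mem (R₀.mul_mem (R₀.inv_mem hr) hz) hr)
      have e : k * r * (r⁻¹ * (k⁻¹ * z * k) * r) * (k * r)⁻¹ = z := by group
      rwa [e] at h1
    apply Subgroup.eq_of_le_of_card_ge hle
    rw [hcard]
    rw [hcs k R₀]
  -- the zpowers of `x` preserve `Y`
  have hAY : ∀ a ∈ Subgroup.zpowers x, ∀ y ∈ Y, a * y * a⁻¹ ∈ Y := by
    intro a ha y hy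
    have h1 := hcent a ha y (hYN hy)
    have e : a * y * a⁻¹ = (y * a * y⁻¹ * a⁻¹)⁻¹ * y := by group
    rw [e]
    exact Y.mul_mem (Y.inv_mem (hK₀Y h1)) hy
  have hxA : Subgroup.zpowers x ≤ N := by rw [Subgroup.zpowers_le]; exact hxN
  have hsolv : Group.IsSolvable ↥(Subgroup.zpowers x) := by
    letI : CommGroup ↥(Subgroup.zpowers x) := IsCyclic.commGroup
    infer_instance
  have hcop : (Nat.card ↥(Subgroup.zpowers x)).Coprime (Nat.card ↥K₀) := by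
    rw [Nat.card_zpowers, hx]; exact hK₀c.symm
  obtain ⟨d, hd, hdA⟩ := Cfsg.Agent.S3745.glauberman_exists (Subgroup.zpowers x) K₀
    (hxA.trans hNK₀) hcop (Or.inl hsolv)
    (fun Q' => Q' ≤ Y ∧ IsPGroup q ↥Q' ∧ Nat.card ↥Q' = Nat.card ↥R₀) R₀ ⟨hR₀Y, hR₀q, rfl⟩
    (by
      intro a ha Q' hQ'
      refine ⟨?_, ?_, ?_⟩
      · intro z hz
        rw [mem_conj_smul] at hz
        have h1 := hAY a ha _ (hQ'.1 hz)
        have e : a * (a⁻¹ * z * a) * a⁻¹ = z := by group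
        rwa [e] at h1
      · exact hQ'.2.1.map (MulAut.conj a).toMonoidHom
      · rw [← hQ'.2.2]; exact hcs a Q')
    (by
      intro Q₁ Q₂ h1 h2
      obtain ⟨k₁, hk₁, hk₁e⟩ := hT Q₁ h1.1 h1.2.1 h1.2.2
      obtain ⟨k₂, hk₂, hk₂e⟩ := hT Q₂ h2.1 h2.2.1 h2.2.2
      refine ⟨k₂ * k₁⁻¹, K₀.mul_mem hk₂ (K₀.inv_mem hk₁), ?_⟩
      rw [← hk₁e, conj_smul_smul, inv_mul_cancel_right, hk₂e])
  exact ⟨d, hK₀N hd, hdA (Subgroup.mem_zpowers x)⟩

end Cfsg.Agent.Lib.Helper3_ZStarSylow
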