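import Mathlib

set_option autoImplicit false

namespace Cfsg.Agent.Lib.Helper5_RegNormal

open MulAction SubMulAction
open scoped Pointwise

variable {G X : Type*} [Group G] [MulAction G X]

/-- the block `{n•a, n⁻¹•a}` inside the complement of `a` -/
def blk (a : X) (n : G) : Set (ofStabilizer G a) := {y | (y : X) = n • a ∨ (y : X) = n⁻¹ • a}

theorem smul_blk (a : X) (g : stabilizer G a) (n : G) :
    g • blk a n = blk a ((g : G) * n * (g : G)⁻¹) := by
  ext y
  rw [Set.mem_smul_set_iff_inv_smul_mem]
  simp only [blk, Set.mem_setOf_eq]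
  have h1 : ((g⁻¹ • y : ofStabilizer G a) : X) = (g : G)⁻¹ • (y : X) := rfl
  rw [h1]
  have hga : (g : G) • a = a := g.2
  have hga' : (g : G)⁻¹ • a = a := by rw [inv_smul_eq_iff, hga]
  have hinv : ((g : G) * n * (g : G)⁻¹)⁻¹ = (g : G) * n⁻¹ * (g : G)⁻¹ := by group
  rw [hinv, inv_smul_eq_iff, inv_smul_eq_iff, mul_smul, mul_smul, mul_smul, mul_smul, hga']

theorem card_eq_of_regular [Finite X] (N : Subgroup G) (htrans : IsPretransitive N X)
    (hreg : ∀ x : X, stabilizer N x = ⊥) (a : X) : Nat.card N = Nat.card X := by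
  apply Nat.card_congr
  refine Equiv.ofBijective (fun n : N => n • a) ⟨?_, ?_⟩
  · intro m m' h
    have h' : m • a = m' • a := h
    have h1 : (m⁻¹ * m') • a = a := by rw [mul_smul, ← h', inv_smul_smul]
    have h2 : m⁻¹ * m' ∈ stabilizer N a := h1
    rw [hreg a, Subgroup.mem_bot] at h2
    exact inv_mul_eq_one.1 h2
  · intro y
    exact htrans.exists_smul_eq a y

theorem regular_normal_two_prim [Fintype X] (hX : 2 ≤ Fintype.card X)
    (h2 : IsMultiplyPreprimitive G X 2) (N : Subgroup G) [N.Normal]
    (htrans : IsPretransitive N X) (hreg : ∀ x : X, stabilizer N x = ⊥) :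
    Fintype.card X = 3 ∨ ∀ n ∈ N, n ^ 2 = 1 := by
  classical
  obtain ⟨a⟩ : Nonempty X := by
    rw [← Fintype.card_pos_iff]; omega
  haveI : IsPretransitive G X := by
    constructor
    intro x y
    obtain ⟨n, hn⟩ := htrans.exists_smul_eq x y
    exact ⟨(n : G), hn⟩
  have hprim : IsPreprimitive (stabilizer G a) (ofStabilizer G a) := by
    haveI : IsMultiplyPreprimitive G X (Nat.succ 1) := h2
    have := isMultiplyPreprimitive_ofStabilizer (M := G) (α := X) (n := 1) (a := a)
    exact (is_one_preprimitive_iff _ _).1 this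
  have hfree : ∀ m ∈ N, ∀ m' ∈ N, m • a = m' • a → m = m' := by
    intro m hm m' hm' h
    have h1 : (m⁻¹ * m') • a = a := by rw [mul_smul, ← h, inv_smul_smul]
    have h2 : (⟨m⁻¹ * m', N.mul_mem (N.inv_mem hm) hm'⟩ : N) ∈ stabilizer N a := h1
    rw [hreg a, Subgroup.mem_bot] at h2
    have h3 : m⁻¹ * m' = 1 := congrArg Subtype.val h2
    exact inv_mul_eq_one.1 h3
  by_cases h3 : Fintype.card X = 3
  · exact Or.inl h3
  right
  intro n hn
  by_cases hn1 : n = 1
  · rw [hn1, one_pow]
  have hna : n • a ≠ a := by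
    intro h
    apply hn1
    exact hfree n hn 1 N.one_mem (by rw [h, one_smul])
  have hnia : n⁻¹ • a ≠ a := by
    intro h
    apply hna
    rw [inv_smul_eq_iff] at h
    exact h.symm
  have hblock : IsBlock (stabilizer G a) (blk a n) := by
    rw [isBlock_iff_smul_eq_or_disjoint]
    intro g
    rw [smul_blk]
    have hn' : (g : G) * n * (g : G)⁻¹ ∈ N := Subgroup.Normal.conj_mem inferInstance n hn g
    generalize (g : G) * n * (g : G)⁻¹ = n' at hn'
    by_cases hd : Disjoint (blk a n') (blk a n)
    · exact Or.inr hd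
    · left
      rw [Set.not_disjoint_iff] at hd
      obtain ⟨y, hy1, hy2⟩ := hd
      simp only [blk, Set.mem_setOf_eq] at hy1 hy2
      have hcases : n' = n ∨ n' = n⁻¹ := by
        rcases hy1 with h1 | h1 <;> rcases hy2 with h2 | h2
        · left; exact hfree n' hn' n hn (h1.symm.trans h2)
        · right; exact hfree n' hn' n⁻¹ (N.inv_mem hn) (h1.symm.trans h2)
        · right
          have := hfree n'⁻¹ (N.inv_mem hn') n hn (h1.symm.trans h2)
          rw [← this, inv_inv]
        · left
          have := hfree n'⁻¹ (N.inv_mem hn') n⁻¹ (N.inv_mem hn) (h1.symm.trans h2)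
          exact inv_injective this
      rcases hcases with h | h
      · rw [h]
      · rw [h]
        ext y
        simp only [blk, Set.mem_setOf_eq, inv_inv]
        exact or_comm
  have hkey : n • a = n⁻¹ • a := by
    rcases hblock.subsingleton_or_eq_univ with hsub | huniv
    · have hm1 : (⟨n • a, hna⟩ : ofStabilizer G a) ∈ blk a n := Or.inl rfl
      have hm2 : (⟨n⁻¹ • a, hnia⟩ : ofStabilizer G a) ∈ blk a n := Or.inr rfl
      have := hsub hm1 hm2
      exact congrArg Subtype.val this
    · by_contra hne
      apply h3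
      have huniv' : (Finset.univ : Finset X) = {a, n • a, n⁻¹ • a} := by
        ext x
        simp only [Finset.mem_univ, Finset.mem_insert, Finset.mem_singleton, true_iff]
        by_cases hxa : x = a
        · exact Or.inl hxa
        · right
          have : (⟨x, hxa⟩ : ofStabilizer G a) ∈ blk a n := by rw [huniv]; exact Set.mem_univ _
          exact this
      rw [← Finset.card_univ, huniv', Finset.card_insert_of_notMem, Finset.card_insert_of_notMem,
        Finset.card_singleton]
      · rw [Finset.mem_singleton]; exact hne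
      · rw [Finset.mem_insert, Finset.mem_singleton]
        rintro (h | h)
        · exact hna h.symm
        · exact hnia h.symm
  have := hfree n hn n⁻¹ (N.inv_mem hn) hkey
  rw [pow_two]
  calc n * n = n * n⁻¹ := by rw [← this]
    _ = 1 := mul_inv_cancel n

theorem elem_two_of_sq (N : Subgroup G) [Finite N] (hsq : ∀ n ∈ N, n ^ 2 = 1) :
    IsMulCommutative N ∧ ∃ m : ℕ, Nat.card N = 2 ^ m := by
  haveI : Fact (Nat.Prime 2) := ⟨Nat.prime_two⟩
  constructor
  · refine ⟨⟨fun x y => ?_⟩⟩
    apply Subtype.ext
    have h1 : (x : G) * x = 1 := by rw [← pow_two]; exact hsq x x.2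
    have h2 : (y : G) * y = 1 := by rw [← pow_two]; exact hsq y y.2
    have h3 : ((x : G) * y) * (x * y) = 1 := by
      rw [← pow_two]; exact hsq _ (N.mul_mem x.2 y.2)
    show (x : G) * y = y * x
    calc (x : G) * y = x * (x * y * (x * y)) * y := by rw [h3, mul_one]
      _ = (x * x) * (y * x) * (y * y) := by group
      _ = y * x := by rw [h1, h2, one_mul, mul_one]
  · have hPG : IsPGroup 2 N := by
      intro y
      refine ⟨1, ?_⟩
      rw [pow_one]
      exact Subtype.ext (hsq y y.2)
    exact IsPGroup.iff_card.1 hPG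

theorem regular_normal_two_prim' [Fintype X] (hX : 2 ≤ Fintype.card X)
    (h2 : IsMultiplyPreprimitive G X 2) (N : Subgroup G) [N.Normal]
    (htrans : IsPretransitive N X) (hreg : ∀ x : X, stabilizer N x = ⊥) :
    Fintype.card X = 3 ∨ (IsMulCommutative N ∧ (∀ n ∈ N, n ^ 2 = 1) ∧
      ∃ m : ℕ, Fintype.card X = 2 ^ m) := by
  rcases regular_normal_two_prim hX h2 N htrans hreg with h | h
  · exact Or.inl h
  · right
    obtain ⟨a⟩ : Nonempty X := by
      rw [← Fintype.card_pos_iff]; omega
    have hc := card_eq_of_regular N htrans hreg a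
    haveI : Finite N := Nat.finite_of_card_ne_zero (by
      rw [hc, Nat.card_eq_fintype_card]; omega)
    obtain ⟨h1, m, hm⟩ := elem_two_of_sq N h
    refine ⟨h1, h, m, ?_⟩
    rw [← Nat.card_eq_fintype_card, ← hc, hm]

/-- the block `{m•a, (n*m)•a}` inside the complement of `{a, b}` -/
def blk2 (s : Set X) (a : X) (n m : G) : Set (ofFixingSubgroup G s) :=
  {y | (y : X) = m • a ∨ (y : X) = (n * m) • a}

theorem regular_normal_three_prim [Fintype X] (hX : 3 ≤ Fintype.card X)
    (h3 : IsMultiplyPreprimitive G X 3) (N : Subgroup G) [N.Normal]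
    (htrans : IsPretransitive N X) (hreg : ∀ x : X, stabilizer N x = ⊥) :
    Fintype.card X = 3 ∨ Fintype.card X = 4 := by
  classical
  have h2 : IsMultiplyPreprimitive G X 2 := by
    apply isMultiplyPreprimitive_of_le (M := G) (α := X) h3 (by norm_num)
    rw [ENat.card_eq_coe_fintype_card]
    exact_mod_cast hX
  rcases regular_normal_two_prim (by omega) h2 N htrans hreg with h | hsq
  · exact Or.inl h
  right
  obtain ⟨a⟩ : Nonempty X := by
    rw [← Fintype.card_pos_iff]; omega
  have hfree : ∀ m ∈ N, ∀ m' ∈ N, m • a = m' • a → m = m' := by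
    intro m hm m' hm' h
    have h1 : (m⁻¹ * m') • a = a := by rw [mul_smul, ← h, inv_smul_smul]
    have h2 : (⟨m⁻¹ * m', N.mul_mem (N.inv_mem hm) hm'⟩ : N) ∈ stabilizer N a := h1
    rw [hreg a, Subgroup.mem_bot] at h2
    have h3 : m⁻¹ * m' = 1 := congrArg Subtype.val h2
    exact inv_mul_eq_one.1 h3
  -- pick b ≠ a and c ∉ {a, b}
  obtain ⟨b, hba⟩ : ∃ b : X, b ≠ a := by
    by_contra hcon
    push Not at hcon
    have : Fintype.card X ≤ 1 := Fintype.card_le_one_iff.2 (fun x y => by rw [hcon x, hcon y])
    omega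
  obtain ⟨c, hca, hcb⟩ : ∃ c : X, c ≠ a ∧ c ≠ b := by
    by_contra hcon
    push Not at hcon
    have hsub : (Finset.univ : Finset X) ⊆ {a, b} := by
      intro x _
      rw [Finset.mem_insert, Finset.mem_singleton]
      by_cases hxa : x = a
      · exact Or.inl hxa
      · exact Or.inr (hcon x hxa)
    have := Finset.card_le_card hsub
    rw [Finset.card_univ] at this
    have h2 : ({a, b} : Finset X).card ≤ 2 := Finset.card_le_two
    omega
  obtain ⟨n', hn'⟩ := htrans.exists_smul_eq a b
  obtain ⟨m', hm'⟩ := htrans.exists_smul_eq a c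
  have hn : (n' : G) ∈ N := n'.2
  have hm : (m' : G) ∈ N := m'.2
  have hnb : (n' : G) • a = b := hn'
  have hmc : (m' : G) • a = c := hm'
  generalize (n' : G) = n at hn hnb
  generalize (m' : G) = m at hm hmc
  have hnn : n * n = 1 := by rw [← pow_two]; exact hsq n hn
  have hn1 : n ≠ 1 := by
    intro h; rw [h, one_smul] at hnb; exact hba hnb.symm
  have hprim : IsPreprimitive (fixingSubgroup G ({a, b} : Set X))
      (ofFixingSubgroup G ({a, b} : Set X)) := by
    apply h3.isPreprimitive_ofFixingSubgroup
    rw [Set.encard_pair (Ne.symm hba)]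
    rfl
  have hsmul_blk : ∀ (g : fixingSubgroup G ({a, b} : Set X)) (k : G), k ∈ N →
      g • blk2 ({a, b} : Set X) a n k = blk2 ({a, b} : Set X) a n ((g : G) * k * (g : G)⁻¹) := by
    intro g k hk
    have hga : (g : G) • a = a := (mem_fixingSubgroup_iff G).1 g.2 a (by simp)
    have hgb : (g : G) • b = b := (mem_fixingSubgroup_iff G).1 g.2 b (by simp)
    have hga' : (g : G)⁻¹ • a = a := by rw [inv_smul_eq_iff, hga]
    have hgn : (g : G) * n * (g : G)⁻¹ = n := by
      apply hfree _ (Subgroup.Normal.conj_mem inferInstance n hn g) n hn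
      rw [mul_smul, mul_smul, hga', hnb, hgb]
    ext y
    rw [Set.mem_smul_set_iff_inv_smul_mem]
    simp only [blk2, Set.mem_setOf_eq]
    have h1 : ((g⁻¹ • y : ofFixingSubgroup G ({a, b} : Set X)) : X) = (g : G)⁻¹ • (y : X) := rfl
    rw [h1]
    have e2 : n * ((g : G) * k * (g : G)⁻¹) = (g : G) * (n * k) * (g : G)⁻¹ := by
      calc n * ((g : G) * k * (g : G)⁻¹) = ((g : G) * n * (g : G)⁻¹) * ((g : G) * k * (g : G)⁻¹) := by
            rw [hgn]
        _ = _ := by group
    have hk1 : ∀ k' : G, ((g : G) * k' * (g : G)⁻¹) • a = (g : G) • k' • a := by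
      intro k'
      rw [mul_smul, mul_smul, hga']
    rw [e2, inv_smul_eq_iff, inv_smul_eq_iff, hk1, hk1]
  have hblock : IsBlock (fixingSubgroup G ({a, b} : Set X)) (blk2 ({a, b} : Set X) a n m) := by
    rw [isBlock_iff_smul_eq_or_disjoint]
    intro g
    rw [hsmul_blk g m hm]
    have hk' : (g : G) * m * (g : G)⁻¹ ∈ N := Subgroup.Normal.conj_mem inferInstance m hm g
    generalize (g : G) * m * (g : G)⁻¹ = k at hk'
    by_cases hd : Disjoint (blk2 ({a, b} : Set X) a n k) (blk2 ({a, b} : Set X) a n m)
    · exact Or.inr hd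
    · left
      rw [Set.not_disjoint_iff] at hd
      obtain ⟨y, hy1, hy2⟩ := hd
      simp only [blk2, Set.mem_setOf_eq] at hy1 hy2
      have hcases : k = m ∨ k = n * m := by
        rcases hy1 with h1 | h1 <;> rcases hy2 with h2 | h2
        · left; exact hfree k hk' m hm (h1.symm.trans h2)
        · right; exact hfree k hk' (n * m) (N.mul_mem hn hm) (h1.symm.trans h2)
        · right
          have := hfree (n * k) (N.mul_mem hn hk') m hm (h1.symm.trans h2)
          rw [← this, ← mul_assoc, hnn, one_mul]
        · left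
          have := hfree (n * k) (N.mul_mem hn hk') (n * m) (N.mul_mem hn hm) (h1.symm.trans h2)
          exact mul_left_cancel this
      rcases hcases with h | h
      · rw [h]
      · rw [h]
        ext y
        simp only [blk2, Set.mem_setOf_eq]
        rw [← mul_assoc, hnn, one_mul]
        exact or_comm
  have hm1 : m ≠ 1 := by
    intro h; rw [h, one_smul] at hmc; exact hca hmc.symm
  have hmn : m ≠ n := by
    intro h; rw [h, hnb] at hmc; exact hcb hmc.symm
  have hnm_a : (n * m) • a ≠ a := by
    intro h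
    have := hfree (n * m) (N.mul_mem hn hm) 1 N.one_mem (by rw [h, one_smul])
    apply hmn
    calc m = n * (n * m) := by rw [← mul_assoc, hnn, one_mul]
      _ = n := by rw [this, mul_one]
  have hnm_b : (n * m) • a ≠ b := by
    intro h
    have := hfree (n * m) (N.mul_mem hn hm) n hn (by rw [h, hnb])
    apply hm1
    have h2 : n * m = n * 1 := by rw [this, mul_one]
    exact mul_left_cancel h2
  have hnm_c : (n * m) • a ≠ c := by
    intro h
    have := hfree (n * m) (N.mul_mem hn hm) m hm (by rw [h, hmc])
    apply hn1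
    have h2 : n * m = 1 * m := by rw [this, one_mul]
    exact mul_right_cancel h2
  have hcs : c ∉ ({a, b} : Set X) := by
    simp only [Set.mem_insert_iff, Set.mem_singleton_iff, not_or]
    exact ⟨hca, hcb⟩
  have hds : (n * m) • a ∉ ({a, b} : Set X) := by
    simp only [Set.mem_insert_iff, Set.mem_singleton_iff, not_or]
    exact ⟨hnm_a, hnm_b⟩
  rcases hblock.subsingleton_or_eq_univ with hsub | huniv
  · exfalso
    have hm1' : (⟨c, hcs⟩ : ofFixingSubgroup G ({a, b} : Set X)) ∈ blk2 ({a, b} : Set X) a n m :=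
      Or.inl hmc.symm
    have hm2' : (⟨(n * m) • a, hds⟩ : ofFixingSubgroup G ({a, b} : Set X)) ∈
        blk2 ({a, b} : Set X) a n m := Or.inr rfl
    have := hsub hm1' hm2'
    exact hnm_c (congrArg Subtype.val this).symm
  · have huniv' : (Finset.univ : Finset X) = {a, b, c, (n * m) • a} := by
      ext x
      simp only [Finset.mem_univ, Finset.mem_insert, Finset.mem_singleton, true_iff]
      by_cases hxa : x = a
      · exact Or.inl hxa
      by_cases hxb : x = b
      · exact Or.inr (Or.inl hxb)
      right; right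
      have hxs : x ∉ ({a, b} : Set X) := by
        simp only [Set.mem_insert_iff, Set.mem_singleton_iff, not_or]
        exact ⟨hxa, hxb⟩
      have : (⟨x, hxs⟩ : ofFixingSubgroup G ({a, b} : Set X)) ∈ blk2 ({a, b} : Set X) a n m := by
        rw [huniv]; exact Set.mem_univ _
      rcases this with h | h
      · left; exact h.trans hmc
      · right; exact h
    rw [← Finset.card_univ, huniv', Finset.card_insert_of_notMem, Finset.card_insert_of_notMem,
      Finset.card_insert_of_notMem, Finset.card_singleton]
    · rw [Finset.mem_singleton]; exact fun h => hnm_c h.symm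
    · rw [Finset.mem_insert, Finset.mem_singleton]
      rintro (h | h)
      · exact hcb h.symm
      · exact hnm_b h.symm
    · rw [Finset.mem_insert, Finset.mem_insert, Finset.mem_singleton]
      rintro (h | h | h)
      · exact hba h.symm
      · exact hca h.symm
      · exact hnm_a h.symm

end Cfsg.Agent.Lib.Helper5_RegNormal
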