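import Mathlib

set_option autoImplicit false

namespace Cfsg.Agent.Lib.Helper5_Sharp2

open MulAction

/-- Sharply doubly transitive action. -/
structure Sharp2 (G α : Type*) [Group G] [MulAction G α] : Prop where
  trans : ∀ {a b c d : α}, a ≠ b → c ≠ d → ∃ g : G, g • a = c ∧ g • b = d
  sharp : ∀ (g : G) (a b : α), a ≠ b → g • a = a → g • b = b → g = 1

variable {G α : Type*} [Group G] [Finite G] [Fintype α] [DecidableEq α] [MulAction G α]

namespace Sharp2

theorem card_stab (h : Sharp2 G α) (hn : 2 ≤ Fintype.card α) (a : α) :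
    Nat.card (stabilizer G a) = Fintype.card α - 1 := by
  classical
  obtain ⟨b₀, hb₀⟩ : ∃ b₀ : α, b₀ ≠ a := by
    by_contra hcon
    push_neg at hcon
    have : Fintype.card α ≤ 1 := Fintype.card_le_one_iff.2 (fun x y => by rw [hcon x, hcon y])
    omega
  have hcard : Fintype.card {b : α // b ≠ a} = Fintype.card α - 1 := by
    rw [Fintype.card_subtype_compl, Fintype.card_subtype_eq]
  rw [← hcard, ← Nat.card_eq_fintype_card]
  refine Nat.card_congr (Equiv.ofBijective
    (fun g : stabilizer G a => (⟨(g : G) • b₀, fun hEq => hb₀ ?_⟩ : {b : α // b ≠ a})) ⟨?_, ?_⟩)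
  · have hg : (g : G) • a = a := g.2
    have : (g : G) • b₀ = (g : G) • a := by rw [hEq, hg]
    exact smul_left_cancel _ this
  · intro g g' hgg
    have h1 : (g : G) • b₀ = (g' : G) • b₀ := congrArg Subtype.val hgg
    have hg : (g : G) • a = a := g.2
    have hg' : (g' : G) • a = a := g'.2
    have h2 : ((g : G)⁻¹ * (g' : G)) = 1 := by
      apply h.sharp _ a b₀ hb₀.symm
      · rw [mul_smul, hg', inv_smul_eq_iff, hg]
      · rw [mul_smul, ← h1, inv_smul_smul]
    apply Subtype.ext
    exact (inv_mul_eq_one.1 h2)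
  · rintro ⟨b, hb⟩
    obtain ⟨g, hga, hgb⟩ := h.trans hb₀.symm hb.symm
    exact ⟨⟨g, hga⟩, Subtype.ext hgb⟩

theorem pretransitive (h : Sharp2 G α) (hn : 2 ≤ Fintype.card α) : IsPretransitive G α := by
  constructor
  intro a b
  by_cases hab : a = b
  · exact ⟨1, by rw [one_smul, hab]⟩
  · obtain ⟨g, hg1, hg2⟩ := h.trans hab (Ne.symm hab)
    obtain ⟨g', hg1', hg2'⟩ := h.trans hab (fun h' : b = a => hab h'.symm)
    exact ⟨g, hg1⟩

theorem card_G (h : Sharp2 G α) (hn : 2 ≤ Fintype.card α) :
    Nat.card G = Fintype.card α * (Fintype.card α - 1) := by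
  classical
  haveI := h.pretransitive hn
  obtain ⟨a⟩ : Nonempty α := by
    rw [← Fintype.card_pos_iff]; omega
  have h2 : Nat.card (orbit G a) = Fintype.card α := by
    rw [MulAction.orbit_eq_univ, Nat.card_congr (Equiv.Set.univ α), Nat.card_eq_fintype_card]
  rw [← h.card_stab hn a, ← h2, Nat.card_congr (orbitEquivQuotientStabilizer G a)]
  exact Subgroup.card_eq_card_quotient_mul_card_subgroup _

theorem card_F (h : Sharp2 G α) (hn : 2 ≤ Fintype.card α) [Fintype G] [DecidableEq G] :
    (Finset.univ.filter (fun g : G => g = 1 ∨ ∀ a : α, g • a ≠ a)).card = Fintype.card α := by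
  classical
  have hGc := h.card_G hn
  rw [Nat.card_eq_fintype_card] at hGc
  have hsum := Finset.card_filter_add_card_filter_not (s := (Finset.univ : Finset G))
    (fun g : G => g = 1 ∨ ∀ a : α, g • a ≠ a)
  rw [Finset.card_univ, hGc] at hsum
  have hA : (Finset.univ.filter (fun g : G => ¬ (g = 1 ∨ ∀ a : α, g • a ≠ a))) =
      Finset.univ.biUnion (fun a : α => Finset.univ.filter (fun g : G => g ≠ 1 ∧ g • a = a)) := by
    ext g
    simp only [Finset.mem_filter, Finset.mem_univ, true_and, Finset.mem_biUnion, not_or, not_forall,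
      not_not]
    constructor
    · rintro ⟨h1, a, ha⟩
      exact ⟨a, h1, ha⟩
    · rintro ⟨a, h1, ha⟩
      exact ⟨h1, a, ha⟩
  have hcardA : (Finset.univ.biUnion
      (fun a : α => Finset.univ.filter (fun g : G => g ≠ 1 ∧ g • a = a))).card =
      Fintype.card α * (Fintype.card α - 2) := by
    rw [Finset.card_biUnion]
    · have hS : ∀ a ∈ (Finset.univ : Finset α),
          (Finset.univ.filter (fun g : G => g ≠ 1 ∧ g • a = a)).card = Fintype.card α - 2 := by
        intro a _
        have h1 : (Finset.univ.filter (fun g : G => g ≠ 1 ∧ g • a = a)) =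
            (Finset.univ.filter (fun g : G => g • a = a)).erase 1 := by
          ext g
          simp only [Finset.mem_filter, Finset.mem_univ, true_and, Finset.mem_erase]
        rw [h1, Finset.card_erase_of_mem (by simp)]
        have h2 : (Finset.univ.filter (fun g : G => g • a = a)).card = Fintype.card α - 1 := by
          rw [← h.card_stab hn a, Nat.card_eq_fintype_card, Fintype.card_subtype]
          rfl
        rw [h2]
        omega
      rw [Finset.sum_congr rfl hS, Finset.sum_const, Finset.card_univ, smul_eq_mul]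
    · intro a _ b _ hab
      rw [Function.onFun, Finset.disjoint_left]
      intro g hga hgb
      simp only [Finset.mem_filter, Finset.mem_univ, true_and] at hga hgb
      exact hga.1 (h.sharp g a b hab hga.2 hgb.2)
  rw [hA, hcardA] at hsum
  obtain ⟨m, hm⟩ : ∃ m, Fintype.card α = m + 2 := ⟨Fintype.card α - 2, by omega⟩
  rw [hm] at hsum ⊢
  simp only [Nat.add_sub_cancel] at hsum
  have : (m + 2) * (m + 2 - 1) = (m + 2) * m + (m + 2) := by
    have : m + 2 - 1 = m + 1 := by omega
    rw [this]; ring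
  omega

/-- fixed-point-freeness is conjugation invariant -/
theorem fpf_conj {g x : G} (hx : ∀ a : α, x • a ≠ a) : ∀ a : α, (g * x * g⁻¹) • a ≠ a := by
  intro a ha
  apply hx (g⁻¹ • a)
  rw [mul_smul, mul_smul] at ha
  have h2 : g⁻¹ • (g • x • g⁻¹ • a) = g⁻¹ • a := by rw [ha]
  rw [inv_smul_smul] at h2
  exact h2

theorem semiregular_centralizer (h : Sharp2 G α) {x : G} (hx : ∀ a : α, x • a ≠ a) {y : G}
    (hy : y ∈ Subgroup.centralizer ({x} : Set G)) {a : α} (hya : y • a = a) : y = 1 := by
  rw [Subgroup.mem_centralizer_singleton_iff] at hy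
  apply h.sharp y a (x • a) (hx a).symm hya
  rw [← mul_smul, hy, mul_smul, hya]

theorem card_centralizer_le (h : Sharp2 G α) (hn : 2 ≤ Fintype.card α) {x : G}
    (hx : ∀ a : α, x • a ≠ a) :
    Nat.card (Subgroup.centralizer ({x} : Set G)) ≤ Fintype.card α := by
  obtain ⟨a⟩ : Nonempty α := by
    rw [← Fintype.card_pos_iff]; omega
  rw [← Nat.card_eq_fintype_card]
  apply Nat.card_le_card_of_injective (fun y : Subgroup.centralizer ({x} : Set G) => (y : G) • a)
  intro y z hyz
  have hyz' : (y : G) • a = (z : G) • a := hyz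
  have h1 : ((y : G)⁻¹ * (z : G)) • a = a := by
    rw [mul_smul, ← hyz', inv_smul_smul]
  have h2 := h.semiregular_centralizer hx
    ((Subgroup.centralizer ({x} : Set G)).mul_mem ((Subgroup.centralizer _).inv_mem y.2) z.2) h1
  exact Subtype.ext (inv_mul_eq_one.1 h2)

theorem conj_inj (h : Sharp2 G α) [Fintype G] [DecidableEq G] {x : G} (hx1 : x ≠ 1)
    (hx : ∀ a : α, x • a ≠ a) :
    ∃ f : G ⧸ Subgroup.centralizer ({x} : Set G) →
      {y // y ∈ (Finset.univ.filter (fun g : G => g = 1 ∨ ∀ a : α, g • a ≠ a)).erase 1},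
      Function.Injective f ∧ ∀ g : G, (f (QuotientGroup.mk g)).1 = g * x * g⁻¹ := by
  let f : G ⧸ Subgroup.centralizer ({x} : Set G) → G := fun q =>
    Quotient.liftOn' q (fun g => g * x * g⁻¹) (by
      intro a b hab
      rw [QuotientGroup.leftRel_apply, Subgroup.mem_centralizer_singleton_iff] at hab
      show a * x * a⁻¹ = b * x * b⁻¹
      have : x = a⁻¹ * b * x * (a⁻¹ * b)⁻¹ := by rw [hab]; group
      calc a * x * a⁻¹ = a * (a⁻¹ * b * x * (a⁻¹ * b)⁻¹) * a⁻¹ := by rw [← this]
        _ = b * x * b⁻¹ := by group)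
  have hfmk : ∀ g : G, f (QuotientGroup.mk g) = g * x * g⁻¹ := fun g => rfl
  have hfmem : ∀ q, f q ∈ (Finset.univ.filter (fun g : G => g = 1 ∨ ∀ a : α, g • a ≠ a)).erase 1 := by
    intro q
    induction q using QuotientGroup.induction_on with
    | H g =>
      rw [hfmk, Finset.mem_erase, Finset.mem_filter]
      refine ⟨?_, Finset.mem_univ _, Or.inr (fpf_conj hx)⟩
      intro h1
      apply hx1
      have : x = g⁻¹ * (g * x * g⁻¹) * g := by group
      rw [this, h1]; group
  refine ⟨fun q => ⟨f q, hfmem q⟩, ?_, fun g => rfl⟩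
  intro q r hqr
  have hqr' : f q = f r := congrArg Subtype.val hqr
  induction q using QuotientGroup.induction_on with
  | H a =>
    induction r using QuotientGroup.induction_on with
    | H b =>
      rw [hfmk, hfmk] at hqr'
      rw [QuotientGroup.eq, Subgroup.mem_centralizer_singleton_iff]
      calc a⁻¹ * b * x = a⁻¹ * (b * x * b⁻¹) * b := by group
        _ = a⁻¹ * (a * x * a⁻¹) * b := by rw [hqr']
        _ = x * (a⁻¹ * b) := by group

/-- Key: for a fixed-point-free `x ≠ 1`, `C_G(x)` has order `n`, is exactly the set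
`{1} ∪ fpf`, and all fpf elements are conjugate to `x`. -/
theorem centralizer_fpf (h : Sharp2 G α) (hn : 2 ≤ Fintype.card α) {x : G} (hx1 : x ≠ 1)
    (hx : ∀ a : α, x • a ≠ a) :
    Nat.card (Subgroup.centralizer ({x} : Set G)) = Fintype.card α ∧
    (∀ g : G, g ∈ Subgroup.centralizer ({x} : Set G) ↔ g = 1 ∨ ∀ a : α, g • a ≠ a) ∧
    (∀ y : G, y ≠ 1 → (∀ a : α, y • a ≠ a) → ∃ g : G, g * x * g⁻¹ = y) := by
  classical
  haveI : Fintype G := Fintype.ofFinite G
  obtain ⟨f, hfinj, hf⟩ := h.conj_inj hx1 hx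
  have hF := h.card_F hn
  have hF1 : ((Finset.univ.filter (fun g : G => g = 1 ∨ ∀ a : α, g • a ≠ a)).erase 1).card =
      (Fintype.card α) - 1 := by
    rw [Finset.card_erase_of_mem (by simp), hF]
  have hQle : Nat.card (G ⧸ (Subgroup.centralizer ({x} : Set G))) ≤ (Fintype.card α) - 1 := by
    rw [← hF1, ← Fintype.card_coe, ← Nat.card_eq_fintype_card]
    exact Nat.card_le_card_of_injective f hfinj
  have hCle := h.card_centralizer_le hn hx
  have hG := h.card_G hn
  have hlag : Nat.card G = Nat.card (G ⧸ (Subgroup.centralizer ({x} : Set G))) * Nat.card (Subgroup.centralizer ({x} : Set G)) :=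
    Subgroup.card_eq_card_quotient_mul_card_subgroup (Subgroup.centralizer ({x} : Set G))
  rw [hG] at hlag
  have hCn : Nat.card (Subgroup.centralizer ({x} : Set G)) = (Fintype.card α) := by
    by_contra hne
    have hlt : Nat.card (Subgroup.centralizer ({x} : Set G)) < (Fintype.card α) := lt_of_le_of_ne hCle hne
    have : Nat.card (G ⧸ (Subgroup.centralizer ({x} : Set G))) * Nat.card (Subgroup.centralizer ({x} : Set G)) < (Fintype.card α) * ((Fintype.card α) - 1) := by
      calc _ ≤ ((Fintype.card α) - 1) * Nat.card (Subgroup.centralizer ({x} : Set G)) := Nat.mul_le_mul_right _ hQle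
        _ < ((Fintype.card α) - 1) * (Fintype.card α) := Nat.mul_lt_mul_of_pos_left hlt (by omega)
        _ = (Fintype.card α) * ((Fintype.card α) - 1) := mul_comm _ _
    omega
  have hQn : Nat.card (G ⧸ (Subgroup.centralizer ({x} : Set G))) = (Fintype.card α) - 1 := by
    rw [hCn] at hlag
    exact Nat.eq_of_mul_eq_mul_right (show 0 < Fintype.card α by omega)
      (hlag.symm.trans (mul_comm _ _))
  refine ⟨hCn, ?_, ?_⟩
  · have hsub : (Finset.univ.filter (fun g : G => g ∈ (Subgroup.centralizer ({x} : Set G)))) ⊆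
        (Finset.univ.filter (fun g : G => g = 1 ∨ ∀ a : α, g • a ≠ a)) := by
      intro g hg
      rw [Finset.mem_filter] at hg ⊢
      refine ⟨hg.1, ?_⟩
      by_cases h1 : g = 1
      · exact Or.inl h1
      · right; intro a ha; exact h1 (h.semiregular_centralizer hx hg.2 ha)
    have hcard : (Finset.univ.filter (fun g : G => g ∈ (Subgroup.centralizer ({x} : Set G)))).card = (Fintype.card α) := by
      rw [← hCn, Nat.card_eq_fintype_card, Fintype.card_subtype]
    have heq := Finset.eq_of_subset_of_card_le hsub (by rw [hcard, hF])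
    intro g
    have := Finset.ext_iff.1 heq g
    simpa using this
  · intro y hy1 hy
    have hbij : Function.Bijective f := by
      rw [Fintype.bijective_iff_injective_and_card]
      refine ⟨hfinj, ?_⟩
      rw [← Nat.card_eq_fintype_card, hQn, Fintype.card_coe, hF1]
    obtain ⟨q, hq⟩ := hbij.2 ⟨y, by
      rw [Finset.mem_erase, Finset.mem_filter]
      exact ⟨hy1, Finset.mem_univ _, Or.inr hy⟩⟩
    induction q using QuotientGroup.induction_on with
    | H g =>
      refine ⟨g, ?_⟩
      rw [← hf g, hq]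

theorem main (h : Sharp2 G α) (hn : 2 ≤ Fintype.card α) :
    ∃ (p j : ℕ) (N : Subgroup G), p.Prime ∧ 1 ≤ j ∧ Fintype.card α = p ^ j ∧ N.Normal ∧
      Nat.card N = p ^ j ∧ (∀ x ∈ N, ∀ y ∈ N, x * y = y * x) ∧ (∀ x ∈ N, x ^ p = 1) ∧
      (∀ g : G, g ∈ N ↔ g = 1 ∨ ∀ a : α, g • a ≠ a) := by
  classical
  obtain ⟨p, hp, hpn⟩ := Nat.exists_prime_and_dvd (show Fintype.card α ≠ 1 by omega)
  haveI : Fact p.Prime := ⟨hp⟩
  have hG := h.card_G hn
  have hpG : p ∣ Nat.card G := by rw [hG]; exact Dvd.dvd.mul_right hpn _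
  obtain ⟨x, hx⟩ := exists_prime_orderOf_dvd_card' p hpG
  have hx1 : x ≠ 1 := by
    intro h1; rw [h1, orderOf_one] at hx; exact hp.one_lt.ne hx
  have hxf : ∀ a : α, x • a ≠ a := by
    intro a ha
    have hmem : x ∈ stabilizer G a := ha
    have hdvd : orderOf x ∣ Nat.card (stabilizer G a) := Subgroup.orderOf_dvd_natCard _ hmem
    rw [hx, h.card_stab hn a] at hdvd
    have h3 : p ∣ Fintype.card α - (Fintype.card α - 1) := Nat.dvd_sub hpn hdvd
    have h1 : Fintype.card α - (Fintype.card α - 1) = 1 := by omega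
    rw [h1] at h3
    exact hp.one_lt.ne' (Nat.dvd_one.1 h3)
  obtain ⟨hCn, hCF, hconj⟩ := h.centralizer_fpf hn hx1 hxf
  have hpow : ∀ y ∈ Subgroup.centralizer ({x} : Set G), y ^ p = 1 := by
    intro y hy
    by_cases hy1 : y = 1
    · rw [hy1, one_pow]
    · rcases (hCF y).1 hy with h1 | hyf
      · exact absurd h1 hy1
      · obtain ⟨g, rfl⟩ := hconj y hy1 hyf
        rw [conj_pow, ← hx, pow_orderOf_eq_one]; group
  have hcomm : ∀ y ∈ Subgroup.centralizer ({x} : Set G),
      ∀ z ∈ Subgroup.centralizer ({x} : Set G), y * z = z * y := by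
    intro y hy z hz
    by_cases hy1 : y = 1
    · rw [hy1, one_mul, mul_one]
    · have hyf : ∀ a : α, y • a ≠ a := by
        rcases (hCF y).1 hy with h1 | h1
        · exact absurd h1 hy1
        · exact h1
      obtain ⟨-, hCF', -⟩ := h.centralizer_fpf hn hy1 hyf
      have hz' : z ∈ Subgroup.centralizer ({y} : Set G) := (hCF' z).2 ((hCF z).1 hz)
      rw [Subgroup.mem_centralizer_singleton_iff] at hz'
      exact hz'.symm
  have hnorm : (Subgroup.centralizer ({x} : Set G)).Normal := by
    constructor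
    intro g hg k
    rw [hCF] at hg ⊢
    rcases hg with rfl | hg
    · left; group
    · right; exact fpf_conj hg
  have hPG : IsPGroup p (Subgroup.centralizer ({x} : Set G)) := by
    intro y
    refine ⟨1, ?_⟩
    rw [pow_one]
    exact Subtype.ext (hpow y y.2)
  obtain ⟨j, hj⟩ := IsPGroup.iff_card.1 hPG
  refine ⟨p, j, Subgroup.centralizer ({x} : Set G), hp, ?_, ?_, hnorm, hj, hcomm, hpow, hCF⟩
  · by_contra hj0
    have hj0' : j = 0 := by omega
    rw [hj0', pow_zero] at hj
    omega
  · rw [← hCn, hj]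

theorem main' (h : Sharp2 G α) (hn : 2 ≤ Fintype.card α) :
    ∃ p j : ℕ, p.Prime ∧ 1 ≤ j ∧ Fintype.card α = p ^ j ∧ ∀ (hp : Fact p.Prime) (P : Sylow p G),
      (P : Subgroup G).Normal ∧ IsMulCommutative (P : Subgroup G) ∧
      (∀ x ∈ (P : Subgroup G), x ^ p = 1) ∧ MulAction.IsPretransitive (P : Subgroup G) α ∧
      (∀ a : α, MulAction.stabilizer (P : Subgroup G) a = ⊥) ∧
      ∀ g : G, g ∈ (P : Subgroup G) ↔ g = 1 ∨ ∀ a : α, g • a ≠ a := by
  classical
  obtain ⟨p, j, N, hp, hj, hcard, hnorm, hNcard, hcomm, hpow, hNF⟩ := h.main hn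
  refine ⟨p, j, hp, hj, hcard, ?_⟩
  intro hpF P
  have hNp : IsPGroup p N := IsPGroup.of_card hNcard
  have hPN : (P : Subgroup G) = N := by
    have hle : (P : Subgroup G) ≤ N := by
      intro g hg
      rw [hNF]
      by_cases hg1 : g = 1
      · exact Or.inl hg1
      · right
        intro a ha
        apply hg1
        obtain ⟨k, hk⟩ := (IsPGroup.iff_orderOf.1 P.isPGroup') ⟨g, hg⟩
        rw [Subgroup.orderOf_mk] at hk
        have hmem : g ∈ stabilizer G a := ha
        have hdvd : orderOf g ∣ Nat.card (stabilizer G a) := Subgroup.orderOf_dvd_natCard _ hmem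
        rw [hk, h.card_stab hn a, hcard] at hdvd
        by_cases hk0 : k = 0
        · rw [hk0, pow_zero] at hk
          exact orderOf_eq_one_iff.1 hk
        · exfalso
          have h1 : p ∣ p ^ j - 1 := dvd_trans (dvd_pow_self p hk0) hdvd
          have h2 : p ∣ p ^ j := dvd_pow_self p (by omega)
          have h3 : p ∣ p ^ j - (p ^ j - 1) := Nat.dvd_sub h2 h1
          have h4 : p ^ j - (p ^ j - 1) = 1 := by
            have : 0 < p ^ j := pow_pos hp.pos _
            omega
          rw [h4] at h3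
          exact hp.one_lt.ne' (Nat.dvd_one.1 h3)
    exact (P.is_maximal' hNp hle).symm
  have hsemi : ∀ g ∈ N, ∀ a : α, g • a = a → g = 1 := by
    intro g hg a ha
    rcases (hNF g).1 hg with h1 | h1
    · exact h1
    · exact absurd ha (h1 a)
  rw [hPN]
  refine ⟨hnorm, ⟨⟨fun a b => Subtype.ext (hcomm a a.2 b b.2)⟩⟩, hpow, ?_, ?_, hNF⟩
  · constructor
    intro a b
    have hinj : Function.Injective (fun g : N => (g : G) • a) := by
      intro g g' hgg
      have hgg' : (g : G) • a = (g' : G) • a := hgg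
      have h1 : ((g : G)⁻¹ * (g' : G)) • a = a := by
        rw [mul_smul, ← hgg', inv_smul_smul]
      have h2 := hsemi _ (N.mul_mem (N.inv_mem g.2) g'.2) a h1
      exact Subtype.ext (inv_mul_eq_one.1 h2)
    have hbij : Function.Bijective (fun g : N => (g : G) • a) := by
      haveI : Fintype N := Fintype.ofFinite N
      rw [Fintype.bijective_iff_injective_and_card]
      refine ⟨hinj, ?_⟩
      rw [← Nat.card_eq_fintype_card, hNcard, hcard]
    obtain ⟨g, hg⟩ := hbij.2 b
    exact ⟨g, hg⟩
  · intro a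
    rw [eq_bot_iff]
    intro g hg
    rw [Subgroup.mem_bot]
    have hg' : (g : G) • a = a := hg
    exact Subtype.ext (hsemi g g.2 a hg')

end Sharp2

end Cfsg.Agent.Lib.Helper5_Sharp2
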