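import Mathlib
import Cfsg.Agent.Lib.Helper5_RegNormal
import Cfsg.Agent.Lib.Helper5_Sharp2

set_option autoImplicit false

namespace Cfsg.Agent.Lib.Helper5_Jordan

open MulAction SubMulAction Cfsg.Agent.Lib.Helper5_RegNormal Cfsg.Agent.Lib.Helper5_Sharp2
open scoped Pointwise

universe u v

variable {G : Type u} {X : Type v} [Group G] [MulAction G X]

/-- multiple transitivity of the point stabiliser of a subgroup, computed in the ambient
stabiliser, lifts. -/
theorem transfer (N : Subgroup G) (a : X) (k : ℕ) [IsPretransitive N X]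
    (h : IsMultiplyPretransitive (N.subgroupOf (stabilizer G a)) (ofStabilizer G a) k) :
    IsMultiplyPretransitive N X (k + 1) := by
  rw [ofStabilizer.isMultiplyPretransitive (G := N) (a := a), isMultiplyPretransitive_iff]
  intro x y
  let ι : ofStabilizer N a → ofStabilizer G a := fun z => ⟨z.1, z.2⟩
  have hι : Function.Injective ι := by
    intro z w hzw
    apply Subtype.ext
    exact congrArg (fun t : ofStabilizer G a => (t : X)) hzw
  obtain ⟨g', hg'⟩ := h.exists_smul_eq (x.trans ⟨ι, hι⟩) (y.trans ⟨ι, hι⟩)
  have hgN : ((g' : stabilizer G a) : G) ∈ N := Subgroup.mem_subgroupOf.1 g'.2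
  have hga : (⟨((g' : stabilizer G a) : G), hgN⟩ : N) • a = a := (g' : stabilizer G a).2
  refine ⟨⟨⟨((g' : stabilizer G a) : G), hgN⟩, hga⟩, ?_⟩
  ext i
  have h1 := congrArg (fun e : Fin k ↪ ofStabilizer G a => ((e i : ofStabilizer G a) : X)) hg'
  exact h1

theorem faithful_ofStabilizer [FaithfulSMul G X] (a : X) :
    FaithfulSMul (stabilizer G a) (ofStabilizer G a) := by
  constructor
  intro g g' h
  apply Subtype.ext
  apply FaithfulSMul.eq_of_smul_eq_smul (α := X)
  intro x
  by_cases hx : x = a
  · rw [hx]
    have h1 : (g : G) • a = a := g.2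
    have h2 : (g' : G) • a = a := g'.2
    rw [h1, h2]
  · have := h ⟨x, hx⟩
    exact congrArg (fun t : ofStabilizer G a => (t : X)) this

theorem normal_transitive [FaithfulSMul G X] (h2 : IsMultiplyPretransitive G X 2)
    (N : Subgroup G) [N.Normal] (hN : N ≠ ⊥) : IsPretransitive N X := by
  haveI : IsPreprimitive G X := isPreprimitive_of_is_two_pretransitive h2
  apply IsQuasiPreprimitive.isPretransitive_of_normal (G := G) (X := X)
  intro hfix
  apply hN
  rw [eq_bot_iff]
  intro n hn
  rw [Subgroup.mem_bot]
  apply FaithfulSMul.eq_of_smul_eq_smul (α := X)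
  intro x
  have hx : x ∈ fixedPoints N X := by rw [hfix]; exact Set.mem_univ _
  rw [one_smul]
  exact hx ⟨n, hn⟩

theorem regular_of_stab_bot (N : Subgroup G) [IsPretransitive N X] (a : X)
    (ha : stabilizer N a = ⊥) : ∀ x : X, stabilizer N x = ⊥ := by
  intro x
  obtain ⟨n, hn⟩ := exists_smul_eq N a x
  rw [eq_bot_iff]
  intro m hm
  rw [Subgroup.mem_bot]
  have h1 : (n⁻¹ * m * n) • a = a := by
    rw [mul_smul, mul_smul, hn, (show m • x = x from hm), ← hn, inv_smul_smul]
  have h2 : n⁻¹ * m * n ∈ stabilizer N a := h1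
  rw [ha, Subgroup.mem_bot] at h2
  have : m = n * (n⁻¹ * m * n) * n⁻¹ := by group
  rw [this, h2]; group

/-- a 4-transitive group of degree > 4 has no regular normal subgroup -/
theorem no_regular_normal_of_four [Finite X] (hcard : 4 < Nat.card X)
    (h4 : IsMultiplyPretransitive G X 4) (K : Subgroup G) [K.Normal]
    (htrans : IsPretransitive K X) (hreg : ∀ x : X, stabilizer K x = ⊥) : False := by
  haveI := Fintype.ofFinite X
  rw [Nat.card_eq_fintype_card] at hcard
  have h3prim : IsMultiplyPreprimitive G X 3 := by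
    haveI : IsMultiplyPretransitive G X (Nat.succ 3) := h4
    apply isMultiplyPreprimitive_of_isMultiplyPretransitive_succ (M := G) (α := X) (n := 3)
    rw [ENat.card_eq_coe_fintype_card]
    exact_mod_cast (by omega : 4 ≤ Fintype.card X)
  rcases regular_normal_three_prim (by omega) h3prim K htrans hreg with h | h <;> omega

theorem stab_bot_of_subgroupOf_bot (N : Subgroup G) (a : X)
    (h : N.subgroupOf (stabilizer G a) = ⊥) : stabilizer N a = ⊥ := by
  rw [eq_bot_iff]
  intro m hm
  rw [Subgroup.mem_bot]
  have hma : (m : G) • a = a := hm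
  have h1 : (⟨(m : G), hma⟩ : stabilizer G a) ∈ N.subgroupOf (stabilizer G a) :=
    Subgroup.mem_subgroupOf.2 m.2
  rw [h, Subgroup.mem_bot] at h1
  apply Subtype.ext
  exact congrArg (fun t : stabilizer G a => (t : G)) h1

/-- A normal subgroup `N` which is sharply 2-transitive cannot live in a 4-transitive group of
degree > 4. -/
theorem no_sharp_normal [Finite X] [FaithfulSMul G X] (hcard : 4 < Nat.card X)
    (h4 : IsMultiplyPretransitive G X 4) (N : Subgroup G) [N.Normal] [IsPretransitive N X] (a : X)
    (htransY : IsPretransitive (N.subgroupOf (stabilizer G a)) (ofStabilizer G a))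
    (hregY : ∀ y : ofStabilizer G a, stabilizer (N.subgroupOf (stabilizer G a)) y = ⊥) :
    False := by
  classical
  haveI := Fintype.ofFinite X
  haveI : Finite G := Finite.of_injective (MulAction.toPermHom G X) MulAction.toPerm_injective
  have hcard' : 4 < Fintype.card X := by rwa [Nat.card_eq_fintype_card] at hcard
  have h2N : IsMultiplyPretransitive N X 2 :=
    transfer N a 1 (is_one_pretransitive_iff.2 htransY)
  have hS : Sharp2 N X := by
    refine ⟨fun hab hcd => (is_two_pretransitive_iff.1 h2N) hab hcd, ?_⟩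
    intro n x y hxy hx hy
    obtain ⟨m, hm⟩ := exists_smul_eq N a x
    have hfa : (m⁻¹ * n * m) • a = a := by
      rw [mul_smul, mul_smul, hm, hx, ← hm, inv_smul_smul]
    have hya : m⁻¹ • y ≠ a := by
      intro h
      apply hxy
      rw [← hm, ← h, smul_inv_smul]
    have hfy : (m⁻¹ * n * m) • (m⁻¹ • y) = m⁻¹ • y := by
      rw [mul_smul, mul_smul, smul_inv_smul, hy]
    have hfa' : ((m⁻¹ * n * m : N) : G) • a = a := hfa
    have hmem : (⟨((m⁻¹ * n * m : N) : G), hfa'⟩ : stabilizer G a) ∈
        N.subgroupOf (stabilizer G a) := Subgroup.mem_subgroupOf.2 (m⁻¹ * n * m).2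
    have hst : (⟨⟨((m⁻¹ * n * m : N) : G), hfa'⟩, hmem⟩ : N.subgroupOf (stabilizer G a)) ∈
        stabilizer (N.subgroupOf (stabilizer G a)) (⟨m⁻¹ • y, hya⟩ : ofStabilizer G a) := by
      rw [mem_stabilizer_iff]
      apply Subtype.ext
      exact hfy
    rw [hregY, Subgroup.mem_bot] at hst
    have h1 : ((m⁻¹ * n * m : N) : G) = 1 :=
      congrArg (fun t : N.subgroupOf (stabilizer G a) => ((t : stabilizer G a) : G)) hst
    have h2 : m⁻¹ * n * m = 1 := Subtype.ext h1
    have : n = m * (m⁻¹ * n * m) * m⁻¹ := by group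
    rw [this, h2]; group
  obtain ⟨p, j, hp, hj, hcardpj, hP⟩ := hS.main' (by omega)
  haveI : Fact p.Prime := ⟨hp⟩
  obtain ⟨P⟩ : Nonempty (Sylow p N) := inferInstance
  obtain ⟨hPn, -, -, hPt, hPs, hPmem⟩ := hP ⟨hp⟩ P
  haveI hKn : ((P : Subgroup N).map N.subtype).Normal := by
    constructor
    intro k hk g
    obtain ⟨n, hnP, rfl⟩ := Subgroup.mem_map.1 hk
    have hgn : g * (n : G) * g⁻¹ ∈ N := Subgroup.Normal.conj_mem inferInstance (n : G) n.2 g
    refine Subgroup.mem_map.2 ⟨⟨g * (n : G) * g⁻¹, hgn⟩, ?_, rfl⟩
    rw [hPmem] at hnP ⊢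
    rcases hnP with h1 | h1
    · left
      apply Subtype.ext
      show g * (n : G) * g⁻¹ = 1
      rw [h1]; simp
    · right
      intro x hx
      apply h1 (g⁻¹ • x)
      have hx' : (g * (n : G) * g⁻¹) • x = x := hx
      show (n : G) • (g⁻¹ • x) = g⁻¹ • x
      rw [mul_smul, mul_smul] at hx'
      have h2 : g⁻¹ • (g • (n : G) • g⁻¹ • x) = g⁻¹ • x := by rw [hx']
      rw [inv_smul_smul] at h2
      exact h2
  have hKt : IsPretransitive ((P : Subgroup N).map N.subtype) X := by
    constructor
    intro x y
    obtain ⟨n, hn⟩ := hPt.exists_smul_eq x y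
    exact ⟨⟨((n : N) : G), Subgroup.mem_map.2 ⟨(n : N), n.2, rfl⟩⟩, hn⟩
  have hKs : ∀ x : X, stabilizer ((P : Subgroup N).map N.subtype) x = ⊥ := by
    intro x
    rw [eq_bot_iff]
    intro k hk
    rw [Subgroup.mem_bot]
    obtain ⟨n, hnP, hnk⟩ := Subgroup.mem_map.1 k.2
    have hkx : (k : G) • x = x := hk
    have h1 : (⟨n, hnP⟩ : (P : Subgroup N)) ∈ stabilizer (P : Subgroup N) x := by
      rw [mem_stabilizer_iff]
      show (n : G) • x = x
      have : (n : G) = (k : G) := hnk
      rw [this]; exact hkx
    rw [hPs x, Subgroup.mem_bot] at h1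
    have h2 : n = 1 := congrArg Subtype.val h1
    apply Subtype.ext
    rw [← hnk, h2]
    rfl
  exact no_regular_normal_of_four hcard h4 _ hKt hKs

theorem jordan_aux (k : ℕ) : ∀ (G : Type u) (X : Type v) [Group G] [MulAction G X] [Finite X]
    [FaithfulSMul G X], 2 ≤ k → k < Nat.card X → IsMultiplyPretransitive G X k →
    ∀ (N : Subgroup G) [N.Normal], N ≠ ⊥ →
    IsMultiplyPretransitive N X (k - 1) ∨
      (k = 3 ∧ (∀ n ∈ N, n ^ 2 = 1) ∧ ∀ x : X, stabilizer N x = ⊥) := by
  induction k with
  | zero => intro G X _ _ _ _ h; omega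
  | succ k ih =>
    intro G X _ _ _ _ hk hcard hG N _ hN
    have h2 : IsMultiplyPretransitive G X 2 :=
      isMultiplyPretransitive_of_le (G := G) (α := X) (n := k + 1) (by omega) (by omega)
    haveI hNt : IsPretransitive N X := normal_transitive h2 N hN
    rcases Nat.lt_or_ge k 2 with hk1 | hk2
    · -- k + 1 = 2
      have hk' : k = 1 := by omega
      left
      subst hk'
      exact is_one_pretransitive_iff.2 hNt
    · haveI : IsPretransitive G X := isPretransitive_of_is_two_pretransitive (h2 := h2)
      obtain ⟨a⟩ : Nonempty X := by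
        rw [← not_isEmpty_iff]
        intro hE
        rw [Nat.card_of_isEmpty] at hcard
        omega
      haveI := faithful_ofStabilizer (G := G) a
      have hA : IsMultiplyPretransitive (stabilizer G a) (ofStabilizer G a) k :=
        ofStabilizer.isMultiplyPretransitive.1 hG
      have hcardY : Nat.card (ofStabilizer G a) = Nat.card X - 1 := nat_card_ofStabilizer_eq G a
      by_cases hN' : N.subgroupOf (stabilizer G a) = ⊥
      · have hreg : ∀ x, stabilizer N x = ⊥ :=
          regular_of_stab_bot N a (stab_bot_of_subgroupOf_bot N a hN')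
        rcases Nat.lt_or_ge k 3 with hk3 | hk3
        · have hk' : k = 2 := by omega
          subst hk'
          haveI := Fintype.ofFinite X
          have hcard' : 3 < Fintype.card X := by rwa [Nat.card_eq_fintype_card] at hcard
          have h2prim : IsMultiplyPreprimitive G X 2 := by
            haveI : IsMultiplyPretransitive G X (Nat.succ 2) := hG
            apply isMultiplyPreprimitive_of_isMultiplyPretransitive_succ (M := G) (α := X) (n := 2)
            rw [ENat.card_eq_coe_fintype_card]
            exact_mod_cast (by omega : 3 ≤ Fintype.card X)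
          rcases regular_normal_two_prim (by omega) h2prim N hNt hreg with h3 | hsq
          · omega
          · exact Or.inr ⟨rfl, hsq, hreg⟩
        · exfalso
          have h4 : IsMultiplyPretransitive G X 4 :=
            isMultiplyPretransitive_of_le (G := G) (α := X) (n := k + 1) (by omega) (by omega)
          exact no_regular_normal_of_four (by omega) h4 N hNt hreg
      · rcases ih (stabilizer G a) (ofStabilizer G a) hk2 (by omega) hA
          (N.subgroupOf (stabilizer G a)) hN' with h | ⟨hk3, -, hreg'⟩
        · left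
          have := transfer N a (k - 1) h
          have e : k - 1 + 1 = k + 1 - 1 := by omega
          rwa [e] at this
        · exfalso
          subst hk3
          have h2A : IsMultiplyPretransitive (stabilizer G a) (ofStabilizer G a) 2 :=
            isMultiplyPretransitive_of_le (G := stabilizer G a) (α := ofStabilizer G a) (n := 3)
              (by omega) (by omega)
          have htY := normal_transitive h2A (N.subgroupOf (stabilizer G a)) hN'
          exact no_sharp_normal (by omega) hG N a htY hreg'

end Cfsg.Agent.Lib.Helper5_Jordan
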