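import Mathlib
import Cfsg.Prelude.Def_Solvable
import Cfsg.Agent.Lib.Lead_SZ

/-! Frobenius complements: counting lemmas. -/

namespace Cfsg.Agent.Lib.Lead_Frob

open Cfsg Cfsg.Agent.Lib.Lead_SZ
open scoped Pointwise

/-- A free action of a finite group on a finite set: `|H|` divides `|Ω|`. -/
theorem card_dvd_of_stabilizer_eq_bot {H Ω : Type*} [Group H] [MulAction H Ω] [Finite H] [Finite Ω]
    (h : ∀ x : Ω, MulAction.stabilizer H x = ⊥) : Nat.card H ∣ Nat.card Ω := by
  classical
  have horb : ∀ x : Ω, Nat.card (MulAction.orbit H x) = Nat.card H := by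
    intro x
    rw [Nat.card_coe_set_eq, ← MulAction.index_stabilizer, h x, Subgroup.index_bot]
  letI : Fintype (MulAction.orbitRel.Quotient H Ω) := Fintype.ofFinite _
  rw [Nat.card_congr (MulAction.selfEquivSigmaOrbits H Ω), Nat.card_sigma]
  simp only [horb]
  rw [Finset.sum_const, smul_eq_mul]
  exact Dvd.intro_left _ rfl

variable {G : Type*} [Group G]

theorem conj_inf_conj_eq_bot {H : Subgroup G} (hH : IsFrobeniusComplement H) (g₁ g₂ : G)
    (h : g₁⁻¹ * g₂ ∉ H) : MulAut.conj g₁ • H ⊓ MulAut.conj g₂ • H = ⊥ := by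
  rw [eq_bot_iff]
  intro x hx
  obtain ⟨h1, h2⟩ := Subgroup.mem_inf.mp hx
  rw [mem_conj_smul] at h1 h2
  have h3 : g₁⁻¹ * x * g₁ ∈ H ⊓ MulAut.conj (g₁⁻¹ * g₂) • H := by
    refine Subgroup.mem_inf.mpr ⟨h1, ?_⟩
    rw [mem_conj_smul]
    have e : (g₁⁻¹ * g₂)⁻¹ * (g₁⁻¹ * x * g₁) * (g₁⁻¹ * g₂) = g₂⁻¹ * x * g₂ := by group
    rw [e]; exact h2
  rw [hH.2.2 _ h, Subgroup.mem_bot] at h3
  rw [Subgroup.mem_bot]
  have := congrArg (fun z => g₁ * z * g₁⁻¹) h3
  simpa [mul_assoc] using this

/-- The map `(gH, y) ↦ g y g⁻¹` on coset representatives. -/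
noncomputable def conjMap (H : Subgroup G) : (G ⧸ H) × {y : H // y ≠ 1} → G :=
  fun q => q.1.out * (q.2 : H) * (q.1.out)⁻¹

theorem conjMap_injective {H : Subgroup G} (hH : IsFrobeniusComplement H) :
    Function.Injective (conjMap H) := by
  rintro ⟨q₁, y₁⟩ ⟨q₂, y₂⟩ hq
  simp only [conjMap] at hq
  have hne : q₁.out * (y₁ : H) * (q₁.out)⁻¹ ≠ 1 := by
    intro h
    apply y₁.2
    have h' := congrArg (fun z => (q₁.out)⁻¹ * z * q₁.out) h
    simp only [mul_one, inv_mul_cancel] at h'
    apply Subtype.ext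
    rw [Subgroup.coe_one, ← h']; group
  have hmem : q₁.out⁻¹ * q₂.out ∈ H := by
    by_contra hnot
    have h1 := conj_inf_conj_eq_bot hH q₁.out q₂.out hnot
    have h2 : q₁.out * (y₁ : H) * (q₁.out)⁻¹ ∈ MulAut.conj q₁.out • H ⊓ MulAut.conj q₂.out • H := by
      refine Subgroup.mem_inf.mpr ⟨?_, ?_⟩
      · rw [mem_conj_smul]
        have e : (q₁.out)⁻¹ * (q₁.out * (y₁ : H) * (q₁.out)⁻¹) * q₁.out = ((y₁ : H) : G) := by group
        rw [e]; exact (y₁ : H).2
      · rw [hq, mem_conj_smul]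
        have e : (q₂.out)⁻¹ * (q₂.out * (y₂ : H) * (q₂.out)⁻¹) * q₂.out = ((y₂ : H) : G) := by group
        rw [e]; exact (y₂ : H).2
    rw [h1, Subgroup.mem_bot] at h2
    exact hne h2
  have hqq : q₁ = q₂ := by
    rw [← QuotientGroup.out_eq' q₁, ← QuotientGroup.out_eq' q₂]
    exact QuotientGroup.eq.mpr hmem
  subst hqq
  have : ((y₁ : H) : G) = ((y₂ : H) : G) := by
    have h' := congrArg (fun z => (q₁.out)⁻¹ * z * q₁.out) hq
    simpa [mul_assoc] using h'
  rw [Prod.mk.injEq]
  exact ⟨rfl, Subtype.ext (Subtype.ext this)⟩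

theorem range_conjMap (H : Subgroup G) : Set.range (conjMap H) = (frobeniusKernel H)ᶜ := by
  ext x
  simp only [Set.mem_range, Set.mem_compl_iff, frobeniusKernel, Set.mem_setOf_eq, not_or,
    not_forall, not_not]
  constructor
  · rintro ⟨⟨q, y⟩, rfl⟩
    simp only [conjMap]
    constructor
    · intro h
      apply y.2
      have h' := congrArg (fun z => (q.out)⁻¹ * z * q.out) h
      simp only [mul_one, inv_mul_cancel] at h'
      apply Subtype.ext
      rw [Subgroup.coe_one, ← h']; group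
    · refine ⟨q.out, ?_⟩
      rw [mem_conj_smul]
      have e : (q.out)⁻¹ * (q.out * (y : H) * (q.out)⁻¹) * q.out = ((y : H) : G) := by group
      rw [e]; exact (y : H).2
  · rintro ⟨hx1, g, hg⟩
    rw [mem_conj_smul] at hg
    -- coset representative
    set q : G ⧸ H := QuotientGroup.mk g with hq
    have hrep : g⁻¹ * q.out ∈ H := by
      have : (QuotientGroup.mk q.out : G ⧸ H) = QuotientGroup.mk g := QuotientGroup.out_eq' q
      exact QuotientGroup.eq.mp this.symm
    have hy : (q.out)⁻¹ * x * q.out ∈ H := by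
      have := H.mul_mem (H.mul_mem (H.inv_mem hrep) hg) hrep
      have e : (g⁻¹ * q.out)⁻¹ * (g⁻¹ * x * g) * (g⁻¹ * q.out) = (q.out)⁻¹ * x * q.out := by group
      rw [e] at this; exact this
    refine ⟨⟨q, ⟨⟨(q.out)⁻¹ * x * q.out, hy⟩, ?_⟩⟩, ?_⟩
    · intro h
      apply hx1
      have h' := congrArg Subtype.val h
      simp only [Subgroup.coe_one] at h'
      have h'' := congrArg (fun z => q.out * z * (q.out)⁻¹) h'
      simpa [mul_assoc] using h''
    · simp only [conjMap]
      group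

theorem card_kernel [Finite G] {H : Subgroup G} (hH : IsFrobeniusComplement H) :
    Nat.card (frobeniusKernel H) = H.index := by
  classical
  have h1 : Nat.card (frobeniusKernel H) + Nat.card ((frobeniusKernel H)ᶜ : Set G) = Nat.card G := by
    rw [← Nat.card_sum]
    exact Nat.card_congr (Equiv.Set.sumCompl _)
  have h2 : Nat.card ((frobeniusKernel H)ᶜ : Set G) = H.index * (Nat.card H - 1) := by
    rw [← range_conjMap, ← Nat.card_congr (Equiv.ofInjective _ (conjMap_injective hH)), Nat.card_prod]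
    congr 1
    letI : Fintype H := Fintype.ofFinite H
    rw [Nat.card_eq_fintype_card, Nat.card_eq_fintype_card]
    exact Set.card_ne_eq (1 : H)
  have h3 := Subgroup.index_mul_card H
  have hpos : 0 < Nat.card H := Nat.card_pos
  rw [h2] at h1
  have h4 : H.index * (Nat.card H - 1) + H.index = Nat.card G := by
    rw [← h3]
    have : Nat.card H = (Nat.card H - 1) + 1 := by omega
    conv_rhs => rw [this, mul_add, mul_one]
  omega

theorem conj_mem_kernel (H : Subgroup G) {x : G} (hx : x ∈ frobeniusKernel H) (g : G) :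
    g * x * g⁻¹ ∈ frobeniusKernel H := by
  rcases hx with rfl | hx
  · left; group
  · right
    intro g' hg'
    apply hx (g⁻¹ * g')
    rw [mem_conj_smul] at hg' ⊢
    have e : (g⁻¹ * g')⁻¹ * x * (g⁻¹ * g') = g'⁻¹ * (g * x * g⁻¹) * g' := by group
    rw [e]; exact hg'

/-- The conjugation action of `H` on the nonidentity elements of the Frobenius kernel. -/
def kernelAct (H : Subgroup G) : MulAction H {x : G // x ∈ frobeniusKernel H ∧ x ≠ 1} where
  smul h x := ⟨h * x * (h : G)⁻¹, conj_mem_kernel H x.2.1 h, by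
    intro hh
    apply x.2.2
    have := congrArg (fun z => (h : G)⁻¹ * z * h) hh
    simpa [mul_assoc] using this⟩
  one_smul x := by
    apply Subtype.ext
    show ((1 : H) : G) * x * ((1 : H) : G)⁻¹ = x
    simp
  mul_smul m n x := by
    apply Subtype.ext
    show ((m * n : H) : G) * x * ((m * n : H) : G)⁻¹ = (m : G) * ((n : G) * x * (n : G)⁻¹) * (m : G)⁻¹
    simp [mul_assoc]

theorem index_mod_card [Finite G] {H : Subgroup G} (hH : IsFrobeniusComplement H) :
    H.index % Nat.card H = 1 % Nat.card H := by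
  classical
  letI := kernelAct H
  have hsmul : ∀ (h : H) (x : {x : G // x ∈ frobeniusKernel H ∧ x ≠ 1}),
      ((h • x : {x : G // x ∈ frobeniusKernel H ∧ x ≠ 1}) : G) = h * x * (h : G)⁻¹ :=
    fun h x => rfl
  have hstab : ∀ x : {x : G // x ∈ frobeniusKernel H ∧ x ≠ 1}, MulAction.stabilizer H x = ⊥ := by
    intro x
    rw [eq_bot_iff]
    intro h hh
    rw [MulAction.mem_stabilizer_iff] at hh
    have h1 : (h : G) * x * (h : G)⁻¹ = x := by rw [← hsmul]; exact congrArg Subtype.val hh
    rw [Subgroup.mem_bot]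
    by_contra hne
    have hxH : (x : G) ∉ H := by
      intro hxH
      rcases x.2.1 with h0 | h0
      · exact x.2.2 h0
      · apply h0 1
        rw [map_one, one_smul]; exact hxH
    have h2 : (h : G) ∈ H ⊓ MulAut.conj (x : G) • H := by
      refine Subgroup.mem_inf.mpr ⟨h.2, ?_⟩
      rw [mem_conj_smul]
      have e : (x : G)⁻¹ * h * x = h := by
        calc (x : G)⁻¹ * h * x = (x : G)⁻¹ * ((h : G) * x * (h : G)⁻¹) * h := by group
          _ = (x : G)⁻¹ * x * h := by rw [h1]
          _ = h := by group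
      rw [e]; exact h.2
    rw [hH.2.2 _ hxH, Subgroup.mem_bot] at h2
    exact hne (Subtype.ext h2)
  have hdvd := card_dvd_of_stabilizer_eq_bot hstab
  have hcard : Nat.card {x : G // x ∈ frobeniusKernel H ∧ x ≠ 1} = H.index - 1 := by
    have e : {x : G // x ∈ frobeniusKernel H ∧ x ≠ 1}
        ≃ {a : frobeniusKernel H // a ≠ ⟨1, Or.inl rfl⟩} :=
      { toFun := fun x => ⟨⟨x.1, x.2.1⟩, fun h => x.2.2 (congrArg Subtype.val h)⟩
        invFun := fun a => ⟨a.1.1, a.1.2, fun h => a.2 (Subtype.ext h)⟩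
        left_inv := fun x => rfl
        right_inv := fun a => rfl }
    rw [Nat.card_congr e, ← card_kernel hH]
    letI : Fintype (frobeniusKernel H) := Fintype.ofFinite _
    rw [Nat.card_eq_fintype_card, Nat.card_eq_fintype_card]
    exact Set.card_ne_eq _
  rw [hcard] at hdvd
  obtain ⟨c, hc⟩ := hdvd
  have hpos : 0 < H.index := Nat.pos_of_ne_zero Subgroup.index_ne_zero_of_finite
  have : H.index = 1 + Nat.card H * c := by omega
  rw [this, Nat.add_mul_mod_self_left]

end Cfsg.Agent.Lib.Lead_Frob
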