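import Mathlib
import Cfsg.Prelude.Def_Characters
import Cfsg.Prelude.Def_Solvable
import Cfsg.Agent.Lib.Helper2_ClassFn
import Cfsg.Agent.Lib.Helper2_CharBasic
import Cfsg.Agent.Lib.Helper2_CharOrtho
import Cfsg.Agent.Lib.Helper2_CharValues
import Cfsg.Agent.Lib.Helper2_CharComplete
import Cfsg.Agent.Lib.Helper2_CharInd
import Cfsg.Agent.Lib.Helper2_CharCentral
import Cfsg.Agent.S0034

set_option autoImplicit false

/-!
# Frobenius' theorem (existence of the Frobenius kernel), via character theory
-/

namespace Cfsg.Agent.Lib.Helper7_FrobThm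

open Cfsg
open Cfsg.Agent.Lib.Helper2_ClassFn
open Cfsg.Agent.Lib.Helper2_CharBasic
open Cfsg.Agent.Lib.Helper2_CharOrtho
open Cfsg.Agent.Lib.Helper2_CharValues
open Cfsg.Agent.Lib.Helper2_CharComplete
open Cfsg.Agent.Lib.Helper2_CharInd
open Cfsg.Agent.Lib.Helper2_CharCentral
open scoped ComplexConjugate

universe u

section Ker

variable {G : Type u} [Group G] [Finite G]

/-- The kernel of a character is a normal subgroup. -/
theorem exists_ker_of_isCharacter {χ : G → ℂ} (hχ : IsCharacter G χ) :
    ∃ N : Subgroup G, N.Normal ∧ ∀ g, g ∈ N ↔ χ g = χ 1 := by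
  obtain ⟨n, ρ, rfl⟩ := hχ
  refine ⟨MonoidHom.ker ρ, MonoidHom.normal_ker _, fun g => ?_⟩
  rw [MonoidHom.mem_ker]
  constructor
  · intro h
    simp [Representation.character, h]
  · intro h
    exact rep_eq_one_of_char_eq ρ g h

/-- The common kernel of a family of characters is a normal subgroup. -/
theorem exists_ker_of_family (S : Set (G → ℂ)) (hS : ∀ χ ∈ S, IsCharacter G χ) :
    ∃ N : Subgroup G, N.Normal ∧ ∀ g, g ∈ N ↔ ∀ χ ∈ S, χ g = χ 1 := by
  choose N hN hmem using fun χ : S => exists_ker_of_isCharacter (hS χ.1 χ.2)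
  refine ⟨⨅ χ : S, N χ, Subgroup.normal_iInf_normal hN, fun g => ?_⟩
  rw [Subgroup.mem_iInf]
  constructor
  · intro h χ hχ
    exact (hmem ⟨χ, hχ⟩ g).mp (h ⟨χ, hχ⟩)
  · intro h χ
    exact (hmem χ g).mpr (h χ.1 χ.2)

end Ker

section TI

variable {G : Type u} [Group G] [Fintype G]

/-- TI-induction: values on `H`. -/
theorem indFun_apply_of_TI (H : Subgroup G)
    (hTI : ∀ x : G, x ∉ H → ∀ h ∈ H, x⁻¹ * h * x ∈ H → h = 1)
    (θ : H → ℂ) (hθ : IsClassFunction H θ) (h : H) (h1 : h ≠ 1) :
    indFun H θ h = θ h := by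
  classical
  rw [indFun_apply]
  have key : ∀ x : G, extendByZero H θ (x⁻¹ * (h : G) * x)
      = extendByZero H (fun _ => θ h) x := by
    intro x
    by_cases hx : x ∈ H
    · rw [extendByZero_of_mem H _ hx]
      have hm : x⁻¹ * (h : G) * x ∈ H := H.mul_mem (H.mul_mem (H.inv_mem hx) h.2) hx
      rw [extendByZero_of_mem H _ hm]
      have := IsClassFunction.inv_conj hθ h ⟨x, hx⟩
      rw [← this]
      rfl
    · rw [extendByZero_of_not_mem H _ hx]
      apply extendByZero_of_not_mem
      intro hm
      apply h1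
      ext
      exact hTI x hx h h.2 hm
  simp only [key]
  rw [sum_extendByZero]
  simp only [Finset.sum_const, Finset.card_univ, nsmul_eq_mul]
  rw [← Nat.card_eq_fintype_card]
  have := card_subgroup_ne_zero H
  field_simp

/-- Induced functions vanish off the conjugates of `H`. -/
theorem indFun_apply_of_not_conj (H : Subgroup G) (θ : H → ℂ) (g : G)
    (hg : ∀ x : G, x⁻¹ * g * x ∉ H) : indFun H θ g = 0 := by
  rw [indFun_apply]
  simp only [extendByZero_of_not_mem H θ (hg _), Finset.sum_const_zero, mul_zero]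

/-- TI-induction is an isometry on functions vanishing at `1`. -/
theorem classInner_indFun_of_TI (H : Subgroup G) [Fintype H]
    (hTI : ∀ x : G, x ∉ H → ∀ h ∈ H, x⁻¹ * h * x ∈ H → h = 1)
    (α β : H → ℂ) (hβ : IsClassFunction H β) (hα1 : α 1 = 0) :
    classInner (indFun H α) (indFun H β) = classInner α β := by
  rw [frobenius_reciprocity H α _ (indFun_isClassFunction H β)]
  unfold classInner
  congr 1
  refine Finset.sum_congr rfl fun h _ => ?_
  by_cases h1 : h = 1
  · subst h1
    rw [hα1, zero_mul, zero_mul]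
  · show α h * conj (indFun H β (h : G)) = α h * conj (β h)
    rw [indFun_apply_of_TI H hTI β hβ h h1]

/-- the constant function `1` -/
def one (G : Type u) : G → ℂ := fun _ => 1

/-- The Frobenius lift of a function on `H`. -/
noncomputable def star (H : Subgroup G) (θ : H → ℂ) : G → ℂ :=
  indFun H (θ - θ 1 • one H) + θ 1 • one G

theorem star_apply_one (H : Subgroup G) (θ : H → ℂ) : star H θ 1 = θ 1 := by
  unfold star
  rw [Pi.add_apply, indFun_one]
  simp [one]

theorem star_apply_of_TI (H : Subgroup G)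
    (hTI : ∀ x : G, x ∉ H → ∀ h ∈ H, x⁻¹ * h * x ∈ H → h = 1)
    (θ : H → ℂ) (hθ : IsClassFunction H θ) (h : H) : star H θ h = θ h := by
  by_cases h1 : h = 1
  · subst h1
    exact star_apply_one H θ
  · unfold star
    rw [Pi.add_apply, indFun_apply_of_TI H hTI _ _ h h1]
    · simp [one]
    · exact IsClassFunction.sub hθ (IsClassFunction.smul _ (IsClassFunction.const 1))

theorem star_apply_of_not_conj (H : Subgroup G) (θ : H → ℂ) (g : G)
    (hg : ∀ x : G, x⁻¹ * g * x ∉ H) : star H θ g = θ 1 := by
  unfold star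
  rw [Pi.add_apply, indFun_apply_of_not_conj H _ g hg]
  simp [one]

theorem classInner_one_one (K : Type u) [Group K] [Fintype K] :
    classInner (one K) (one K) = 1 := by
  unfold classInner one
  simp only [map_one, mul_one, Finset.sum_const, Finset.card_univ, nsmul_eq_mul]
  rw [← Nat.card_eq_fintype_card]
  exact inv_mul_cancel₀ card_ne_zero_complex

theorem star_isometry (H : Subgroup G) [Fintype H]
    (hTI : ∀ x : G, x ∉ H → ∀ h ∈ H, x⁻¹ * h * x ∈ H → h = 1)
    (θ φ : H → ℂ) (hφ : IsClassFunction H φ) :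
    classInner (star H θ) (star H φ) = classInner θ φ := by
  have hα1 : (θ - θ 1 • one H) 1 = 0 := by simp [one]
  have hβ : IsClassFunction H (φ - φ 1 • one H) :=
    IsClassFunction.sub hφ (IsClassFunction.smul _ (IsClassFunction.const 1))
  have e1 := classInner_indFun_of_TI H hTI _ _ hβ hα1
  have e2 : classInner (indFun H (θ - θ 1 • one H)) (one G)
      = classInner (θ - θ 1 • one H) (one H) :=
    frobenius_reciprocity H _ (one G) (IsClassFunction.const 1)
  have e3 : classInner (one G) (indFun H (φ - φ 1 • one H))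
      = classInner (one H) (φ - φ 1 • one H) :=
    frobenius_reciprocity' H _ (one G) (IsClassFunction.const 1)
  have hθ : θ = (θ - θ 1 • one H) + θ 1 • one H := by simp
  have hφ' : φ = (φ - φ 1 • one H) + φ 1 • one H := by simp
  conv_rhs => rw [hθ, hφ']
  unfold star
  simp only [classInner_add_left, classInner_add_right, classInner_smul_left,
    classInner_smul_right, e1, e2, e3, classInner_one_one]

theorem star_isGeneralizedCharacter (H : Subgroup G) (θ : H → ℂ) (hθ : IsCharacter H θ) :
    IsGeneralizedCharacter G (star H θ) := by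
  obtain ⟨n, hn⟩ := IsCharacter.apply_one hθ
  unfold star
  rw [hn]
  apply IsGeneralizedCharacter.add
  · apply IsGeneralizedCharacter.indFun
    apply IsGeneralizedCharacter.sub (IsCharacter.isGeneralizedCharacter hθ)
    have : (n : ℂ) • one H = n • one H := by
      ext; simp
    rw [this]
    exact IsGeneralizedCharacter.nsmul n (IsCharacter.isGeneralizedCharacter isCharacter_one)
  · have : (n : ℂ) • one G = n • one G := by
      ext; simp
    rw [this]
    exact IsGeneralizedCharacter.nsmul n (IsCharacter.isGeneralizedCharacter isCharacter_one)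

theorem star_isIrrCharacter (H : Subgroup G) [Fintype H]
    (hTI : ∀ x : G, x ∉ H → ∀ h ∈ H, x⁻¹ * h * x ∈ H → h = 1)
    (θ : H → ℂ) (hθ : IsIrrCharacter H θ) : IsIrrCharacter G (star H θ) := by
  have hc := IsIrrCharacter.isCharacter hθ
  apply IsGeneralizedCharacter.isIrr_of_norm_one (star_isGeneralizedCharacter H θ hc)
  · rw [star_isometry H hTI θ θ (IsCharacter.isClassFunction hc)]
    exact classInner_irr_self hθ
  · rw [star_apply_one]
    obtain ⟨n, hn, hn1⟩ := IsIrrCharacter.apply_one hθ
    rw [hn1]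
    simpa using hn

end TI

end Cfsg.Agent.Lib.Helper7_FrobThm
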