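import Mathlib
import Cfsg.Prelude.Def_Solvable
import Cfsg.Agent.S0034
import Cfsg.Agent.S0035

set_option autoImplicit false

/-!
# Structure of Frobenius groups (given Frobenius' theorem S0035)
-/

namespace Cfsg.Agent.Lib.Helper7_FrobGroup

open Cfsg
open scoped Pointwise

section Basic

variable {F : Type*} [Group F]

theorem mem_conj_smul_iff (H : Subgroup F) (g x : F) :
    x ∈ MulAut.conj g • H ↔ g⁻¹ * x * g ∈ H := by
  rw [Subgroup.mem_pointwise_smul_iff_inv_smul_mem]
  simp [MulAut.smul_def, mul_assoc]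

theorem TI {H : Subgroup F} (hH : IsFrobeniusComplement H) :
    ∀ x : F, x ∉ H → ∀ h ∈ H, x⁻¹ * h * x ∈ H → h = 1 := by
  intro x hx h hh hm
  have h1 : h ∈ MulAut.conj x • H := (mem_conj_smul_iff H x h).mpr hm
  have h2 : h ∈ H ⊓ (MulAut.conj x • H) := Subgroup.mem_inf.mpr ⟨hh, h1⟩
  rw [hH.2.2 x hx] at h2
  exact Subgroup.mem_bot.mp h2

theorem TI' {H : Subgroup F} (hH : IsFrobeniusComplement H) :
    ∀ x : F, x ∉ H → ∀ h ∈ H, x * h * x⁻¹ ∈ H → h = 1 := by
  intro x hx h hh hm
  have hx' : x⁻¹ ∉ H := fun hc => hx (by simpa using H.inv_mem hc)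
  apply TI hH x⁻¹ hx' h hh
  simpa using hm

/-- The centralizer of a non-identity element of a Frobenius complement lies in the complement. -/
theorem mem_of_commute {H : Subgroup F} (hH : IsFrobeniusComplement H) {h x : F} (hh : h ∈ H)
    (h1 : h ≠ 1) (hc : x * h = h * x) : x ∈ H := by
  by_contra hx
  apply h1
  apply TI' hH x hx h hh
  rw [hc]
  simpa using hh

/-- Normalizers of non-trivial subgroups of the complement lie in the complement. -/
theorem mem_of_conj_mem {H : Subgroup F} (hH : IsFrobeniusComplement H) {h x : F} (hh : h ∈ H)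
    (h1 : h ≠ 1) (hc : x * h * x⁻¹ ∈ H) : x ∈ H := by
  by_contra hx
  exact h1 (TI' hH x hx h hh hc)

end Basic

section Kernel

variable {F : Type*} [Group F] [Finite F]

/-- The Frobenius kernel as a subgroup. -/
noncomputable def kernel (H : Subgroup F) (hH : IsFrobeniusComplement H) : Subgroup F :=
  (Cfsg.Agent.S0035.result H hH).choose

theorem kernel_coe (H : Subgroup F) (hH : IsFrobeniusComplement H) :
    (kernel H hH : Set F) = frobeniusKernel H :=
  (Cfsg.Agent.S0035.result H hH).choose_spec.1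

instance kernel_normal (H : Subgroup F) (hH : IsFrobeniusComplement H) : (kernel H hH).Normal :=
  (Cfsg.Agent.S0035.result H hH).choose_spec.2.1

theorem kernel_isComplement' (H : Subgroup F) (hH : IsFrobeniusComplement H) :
    Subgroup.IsComplement' (kernel H hH) H :=
  (Cfsg.Agent.S0035.result H hH).choose_spec.2.2

theorem mem_kernel_iff (H : Subgroup F) (hH : IsFrobeniusComplement H) {x : F} :
    x ∈ kernel H hH ↔ x = 1 ∨ ∀ g : F, x ∉ MulAut.conj g • H := by
  rw [← SetLike.mem_coe, kernel_coe]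
  rfl

theorem kernel_inf (H : Subgroup F) (hH : IsFrobeniusComplement H) {x : F}
    (hx : x ∈ kernel H hH) (hxH : x ∈ H) : x = 1 := by
  have := (kernel_isComplement' H hH).disjoint
  rw [Subgroup.disjoint_def] at this
  exact this hx hxH

theorem card_kernel_mul_card (H : Subgroup F) (hH : IsFrobeniusComplement H) :
    Nat.card (kernel H hH) * Nat.card H = Nat.card F :=
  (kernel_isComplement' H hH).card_mul_card

theorem card_kernel (H : Subgroup F) (hH : IsFrobeniusComplement H) :
    Nat.card (kernel H hH) = H.index := by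
  have h1 := card_kernel_mul_card H hH
  have h2 := H.card_mul_index
  have h3 : 0 < Nat.card H := Nat.card_pos
  rw [← h2, mul_comm] at h1
  exact Nat.eq_of_mul_eq_mul_left h3 h1

theorem card_kernel_mod (H : Subgroup F) (hH : IsFrobeniusComplement H) :
    Nat.card (kernel H hH) % Nat.card H = 1 % Nat.card H := by
  rw [card_kernel]
  exact (Cfsg.Agent.S0034.result H hH).2

theorem coprime_card_kernel (H : Subgroup F) (hH : IsFrobeniusComplement H) :
    (Nat.card (kernel H hH)).Coprime (Nat.card H) := by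
  have h := card_kernel_mod H hH
  have h2 : (Nat.card (kernel H hH)).gcd (Nat.card H) = (1 : ℕ).gcd (Nat.card H) := by
    rw [Nat.gcd_comm, Nat.gcd_rec, Nat.gcd_comm 1, Nat.gcd_rec (Nat.card H) 1, h]
  rw [Nat.Coprime, h2]
  exact Nat.gcd_one_left _

/-- every element is `k * h` -/
theorem exists_mul (H : Subgroup F) (hH : IsFrobeniusComplement H) (g : F) :
    ∃ k ∈ kernel H hH, ∃ h ∈ H, g = k * h := by
  obtain ⟨⟨k, h⟩, hkh⟩ := (kernel_isComplement' H hH).2 g
  exact ⟨k.1, k.2, h.1, h.2, hkh.symm⟩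

/-- every element outside the kernel is `k * h * k⁻¹` with `k` in the kernel, `1 ≠ h ∈ H`. -/
theorem exists_conj_of_not_mem_kernel (H : Subgroup F) (hH : IsFrobeniusComplement H) {f : F}
    (hf : f ∉ kernel H hH) :
    ∃ k ∈ kernel H hH, ∃ h ∈ H, h ≠ 1 ∧ f = k * h * k⁻¹ := by
  rw [mem_kernel_iff] at hf
  push Not at hf
  obtain ⟨hf1, g, hg⟩ := hf
  rw [mem_conj_smul_iff] at hg
  obtain ⟨k, hk, h', hh', rfl⟩ := exists_mul H hH g
  refine ⟨k, hk, h' * ((k * h')⁻¹ * f * (k * h')) * h'⁻¹,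
    H.mul_mem (H.mul_mem hh' hg) (H.inv_mem hh'), ?_, by group⟩
  intro hc
  apply hf1
  have : f = k * (h' * ((k * h')⁻¹ * f * (k * h')) * h'⁻¹) * k⁻¹ := by group
  rw [this, hc]; group

theorem conj_inj (H : Subgroup F) (hH : IsFrobeniusComplement H) {k₁ k₂ h₁ h₂ : F}
    (hk₁ : k₁ ∈ kernel H hH) (hk₂ : k₂ ∈ kernel H hH) (hh₁ : h₁ ∈ H) (hh₂ : h₂ ∈ H)
    (hne : h₁ ≠ 1) (heq : k₁ * h₁ * k₁⁻¹ = k₂ * h₂ * k₂⁻¹) : k₁ = k₂ ∧ h₁ = h₂ := by
  have hx : (k₂⁻¹ * k₁) * h₁ * (k₂⁻¹ * k₁)⁻¹ = h₂ := by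
    have : (k₂⁻¹ * k₁) * h₁ * (k₂⁻¹ * k₁)⁻¹ = k₂⁻¹ * (k₁ * h₁ * k₁⁻¹) * k₂ := by group
    rw [this, heq]; group
  have hxH : k₂⁻¹ * k₁ ∈ H := mem_of_conj_mem hH hh₁ hne (hx ▸ hh₂)
  have hxK : k₂⁻¹ * k₁ ∈ kernel H hH := (kernel H hH).mul_mem ((kernel H hH).inv_mem hk₂) hk₁
  have h1 := kernel_inf H hH hxK hxH
  have hk : k₁ = k₂ := by
    have : k₁ = k₂ * (k₂⁻¹ * k₁) := by group
    rw [this, h1, mul_one]
  subst hk
  refine ⟨rfl, ?_⟩
  have : h₁ = k₁⁻¹ * (k₁ * h₁ * k₁⁻¹) * k₁ := by group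
  rw [this, heq]; group

theorem conj_not_mem_kernel (H : Subgroup F) (hH : IsFrobeniusComplement H) {k h : F}
    (hh : h ∈ H) (hne : h ≠ 1) : k * h * k⁻¹ ∉ kernel H hH := by
  intro hc
  apply hne
  apply kernel_inf H hH _ hh
  have := (kernel_normal H hH).conj_mem _ hc k⁻¹
  simpa [mul_assoc] using this

/-- The complement acts fixed-point-freely on the kernel. -/
theorem fpf (H : Subgroup F) (hH : IsFrobeniusComplement H) {h k : F} (hh : h ∈ H) (h1 : h ≠ 1)
    (hk : k ∈ kernel H hH) (hc : h * k * h⁻¹ = k) : k = 1 := by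
  apply kernel_inf H hH hk
  apply mem_of_commute hH hh h1
  have : h * k = k * h := by
    calc h * k = (h * k * h⁻¹) * h := by group
      _ = k * h := by rw [hc]
  exact this.symm

/-- A normal subgroup of a Frobenius group lies in the kernel or contains it. -/
theorem normal_le_or_ge (H : Subgroup F) (hH : IsFrobeniusComplement H) (M : Subgroup F)
    [hM : M.Normal] : M ≤ kernel H hH ∨ kernel H hH ≤ M := by
  classical
  by_cases hle : M ≤ kernel H hH
  · exact Or.inl hle
  right
  obtain ⟨m, hmM, hmK⟩ := SetLike.not_le_iff_exists.mp hle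
  obtain ⟨k, hk, h, hh, hne, rfl⟩ := exists_conj_of_not_mem_kernel H hH hmK
  have hhM : h ∈ M := by
    have := hM.conj_mem _ hmM k⁻¹
    simpa [mul_assoc] using this
  -- the map x ↦ x⁻¹ h x h⁻¹ ... is injective on the kernel, with values in M ⊓ kernel
  let φ : kernel H hH → ↥(M ⊓ kernel H hH) := fun x =>
    ⟨(x : F) * h * (x : F)⁻¹ * h⁻¹, by
      refine Subgroup.mem_inf.mpr ⟨?_, ?_⟩
      · exact M.mul_mem (hM.conj_mem _ hhM _) (M.inv_mem hhM)
      · have : (x : F) * h * (x : F)⁻¹ * h⁻¹ = (x : F) * (h * (x : F)⁻¹ * h⁻¹) := by group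
        rw [this]
        exact (kernel H hH).mul_mem x.2
          ((kernel_normal H hH).conj_mem _ ((kernel H hH).inv_mem x.2) h)⟩
  have hφ : Function.Injective φ := by
    intro x y hxy
    have h1 : (x : F) * h * (x : F)⁻¹ * h⁻¹ = (y : F) * h * (y : F)⁻¹ * h⁻¹ :=
      congrArg (fun z : ↥(M ⊓ kernel H hH) => (z : F)) hxy
    have h2 : (x : F) * h * (x : F)⁻¹ = (y : F) * h * (y : F)⁻¹ := mul_right_cancel h1
    exact Subtype.ext (conj_inj H hH x.2 y.2 hh hh hne h2).1
  have hcard : Nat.card (kernel H hH) ≤ Nat.card ↥(M ⊓ kernel H hH) :=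
    Nat.card_le_card_of_injective φ hφ
  have hle2 : M ⊓ kernel H hH ≤ kernel H hH := inf_le_right
  have heq : M ⊓ kernel H hH = kernel H hH :=
    Subgroup.eq_of_le_of_card_ge hle2 hcard
  rw [← heq]
  exact inf_le_left

end Kernel

section Action

variable {F : Type*} [Group F] [Finite F]

/-- A Frobenius group acting on a commutative group `W` of order prime to the kernel, such that
neither the kernel nor the complement has non-trivial fixed points: then `W` is trivial. -/
theorem eq_one_of_frobenius_action {W : Type*} [CommGroup W] [Finite W] [MulDistribMulAction F W]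
    (H : Subgroup F) (hH : IsFrobeniusComplement H)
    (hcop : (Nat.card W).Coprime (Nat.card (kernel H hH)))
    (hK : ∀ w : W, (∀ k ∈ kernel H hH, k • w = w) → w = 1)
    (hHfix : ∀ w : W, (∀ h ∈ H, h • w = w) → w = 1) (w : W) : w = 1 := by
  classical
  haveI : Fintype F := Fintype.ofFinite F
  set K := kernel H hH with hKdef
  -- products over a subgroup are fixed
  have hQ : ∀ v : W, ∏ k : K, (k : F) • v = 1 := by
    intro v
    apply hK
    intro k hk
    have := Finset.smul_prod_perm (G := K) v ⟨k, hk⟩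
    exact this
  have hR : ∀ v : W, ∏ h : H, (h : F) • v = 1 := by
    intro v
    apply hHfix
    intro h hh
    have := Finset.smul_prod_perm (G := H) v ⟨h, hh⟩
    exact this
  -- Step 1
  have hX : ∏ f : F, f • w = 1 := by
    have hc : Subgroup.IsComplement' H K := (kernel_isComplement' H hH).symm
    let e : H × K ≃ F := Equiv.ofBijective _ hc
    rw [← Equiv.prod_comp e (fun f => f • w)]
    rw [Fintype.prod_prod_type]
    have : ∀ h : H, ∏ k : K, (e (h, k)) • w = (h : F) • ∏ k : K, (k : F) • w := by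
      intro h
      rw [Finset.smul_prod']
      refine Finset.prod_congr rfl fun k _ => ?_
      rw [smul_smul]
      rfl
    simp only [this, hQ, smul_one, Finset.prod_const_one]
  -- Step 2
  have hZ : ∏ p : K × H, ((p.1 : F) * (p.2 : F) * (p.1 : F)⁻¹) • w = 1 := by
    rw [Fintype.prod_prod_type]
    have : ∀ k : K, ∏ h : H, ((k : F) * (h : F) * (k : F)⁻¹) • w
        = (k : F) • ∏ h : H, (h : F) • ((k : F)⁻¹ • w) := by
      intro k
      rw [Finset.smul_prod']
      refine Finset.prod_congr rfl fun h _ => ?_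
      rw [smul_smul, smul_smul]
    simp only [this, hR, smul_one, Finset.prod_const_one]
  -- Step 3
  have hY : ∏ f ∈ Finset.univ.filter (fun f : F => f ∉ K), f • w = 1 := by
    have h1 := Finset.prod_filter_mul_prod_filter_not Finset.univ (fun f : F => f ∈ K)
      (fun f => f • w)
    rw [hX] at h1
    have h2 : ∏ f ∈ Finset.univ.filter (fun f : F => f ∈ K), f • w = ∏ k : K, (k : F) • w := by
      rw [Finset.prod_subtype (Finset.univ.filter (fun f : F => f ∈ K)) (p := fun f => f ∈ K)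
        (by simp) (fun f => f • w)]
    rw [h2, hQ, one_mul] at h1
    exact h1
  -- Step 4
  have h4 := Finset.prod_filter_mul_prod_filter_not Finset.univ (fun p : K × H => p.2 = 1)
      (fun p => ((p.1 : F) * (p.2 : F) * (p.1 : F)⁻¹) • w)
  rw [hZ] at h4
  have h5 : ∏ p ∈ Finset.univ.filter (fun p : K × H => ¬ p.2 = 1),
      ((p.1 : F) * (p.2 : F) * (p.1 : F)⁻¹) • w
      = ∏ f ∈ Finset.univ.filter (fun f : F => f ∉ K), f • w := by
    refine Finset.prod_bij (fun p _ => (p.1 : F) * (p.2 : F) * (p.1 : F)⁻¹) ?_ ?_ ?_ ?_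
    · intro p hp
      have hp2 : ¬ p.2 = 1 := (Finset.mem_filter.mp hp).2
      refine Finset.mem_filter.mpr ⟨Finset.mem_univ _, ?_⟩
      apply conj_not_mem_kernel H hH p.2.2
      intro hc
      exact hp2 (Subtype.ext hc)
    · intro p hp q hq hpq
      have hp2 : ¬ p.2 = 1 := (Finset.mem_filter.mp hp).2
      have := conj_inj H hH p.1.2 q.1.2 p.2.2 q.2.2 (fun hc => hp2 (Subtype.ext hc)) hpq
      exact Prod.ext (Subtype.ext this.1) (Subtype.ext this.2)
    · intro f hf
      have hf' : f ∉ K := (Finset.mem_filter.mp hf).2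
      obtain ⟨k, hk, h, hh, hne, rfl⟩ := exists_conj_of_not_mem_kernel H hH hf'
      refine ⟨(⟨k, hk⟩, ⟨h, hh⟩), ?_, rfl⟩
      refine Finset.mem_filter.mpr ⟨Finset.mem_univ _, ?_⟩
      intro hc
      exact hne (congrArg Subtype.val hc)
    · intro p _
      rfl
  have h6 : ∏ p ∈ Finset.univ.filter (fun p : K × H => p.2 = 1),
      ((p.1 : F) * (p.2 : F) * (p.1 : F)⁻¹) • w = w ^ Nat.card K := by
    have : ∀ p ∈ Finset.univ.filter (fun p : K × H => p.2 = 1),
        ((p.1 : F) * (p.2 : F) * (p.1 : F)⁻¹) • w = w := by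
      intro p hp
      have hp2 : p.2 = 1 := (Finset.mem_filter.mp hp).2
      rw [hp2]
      simp
    rw [Finset.prod_congr rfl this, Finset.prod_const]
    congr 1
    rw [Nat.card_eq_fintype_card]
    have : (Finset.univ.filter (fun p : K × H => p.2 = 1)) = Finset.univ.map
        ⟨fun k : K => (k, (1 : H)), fun a b hab => (Prod.ext_iff.mp hab).1⟩ := by
      ext p
      simp only [Finset.mem_filter, Finset.mem_univ, true_and, Finset.mem_map]
      constructor
      · intro hp
        exact ⟨p.1, Prod.ext rfl hp.symm⟩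
      · rintro ⟨k, rfl⟩
        rfl
    rw [this, Finset.card_map, Finset.card_univ]
  rw [h5, hY, mul_one, h6] at h4
  have h7 : orderOf w ∣ Nat.card K := orderOf_dvd_of_pow_eq_one h4
  have h8 : orderOf w ∣ Nat.card W := orderOf_dvd_natCard w
  have h9 : orderOf w ∣ 1 := by
    have := Nat.dvd_gcd h8 h7
    rwa [hcop] at this
  exact orderOf_eq_one_iff.mp (Nat.dvd_one.mp h9)

end Action

end Cfsg.Agent.Lib.Helper7_FrobGroup
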