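import Mathlib
import Cfsg.Prelude.Def_LieExceptional
import Cfsg.Agent.Lib.Helper7_FrobGroup
import Cfsg.Agent.Lib.Helper5_Jordan

set_option autoImplicit false

/-!
# Zassenhaus groups: structure of point stabilisers and normal subgroups
-/

namespace Cfsg.Agent.Lib.Helper3_Zass

open Cfsg MulAction
open scoped Pointwise
open Cfsg.Agent.Lib.Helper7_FrobGroup

/-- Elementwise Zassenhaus data (without the hypothesis on regular normal subgroups). -/
structure ZData (G Ω : Type*) [Group G] [MulAction G Ω] : Prop where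
  faithful : ∀ g : G, (∀ x : Ω, g • x = x) → g = 1
  two : ∀ a b c d : Ω, a ≠ b → c ≠ d → ∃ g : G, g • a = c ∧ g • b = d
  three : ∀ g : G, ∀ a b c : Ω, a ≠ b → b ≠ c → a ≠ c → g • a = a → g • b = b → g • c = c → g = 1
  exD : ∃ g : G, g ≠ 1 ∧ ∃ a b : Ω, a ≠ b ∧ g • a = a ∧ g • b = b

variable {G Ω : Type*} [Group G] [MulAction G Ω]

theorem zdata_of_zass (hZ : IsZassenhausGroup G Ω) : ZData G Ω := by
  obtain ⟨hF, h2, h3, h4, -⟩ := hZ
  refine ⟨?_, ?_, h3, h4⟩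
  · intro g hg
    apply hF.eq_of_smul_eq_smul
    intro x
    rw [hg x, one_smul]
  · intro a b c d hab hcd
    exact (is_two_pretransitive_iff.mp h2) hab hcd

theorem finite_of_faithful [Finite Ω] (hF : FaithfulSMul G Ω) : Finite G :=
  Finite.of_injective (MulAction.toPermHom G Ω) MulAction.toPerm_injective

namespace ZData

theorem exists_ne (hZ : ZData G Ω) (a : Ω) : ∃ b : Ω, b ≠ a := by
  obtain ⟨g, -, a0, b0, hab, -, -⟩ := hZ.exD
  by_cases h : a0 = a
  · exact ⟨b0, fun hb => hab (h.trans hb.symm)⟩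
  · exact ⟨a0, h⟩

theorem exists_third (hZ : ZData G Ω) (a b : Ω) : ∃ c : Ω, c ≠ a ∧ c ≠ b := by
  obtain ⟨g, hg, a0, b0, hab, ha0, hb0⟩ := hZ.exD
  have : ∃ c0 : Ω, g • c0 ≠ c0 := by
    by_contra hcon
    push Not at hcon
    exact hg (hZ.faithful g hcon)
  obtain ⟨c0, hc0⟩ := this
  have hc0a : c0 ≠ a0 := fun h => hc0 (by rw [h, ha0])
  have hc0b : c0 ≠ b0 := fun h => hc0 (by rw [h, hb0])
  by_cases h1 : a0 = a
  · by_cases h2 : b0 = b
    · exact ⟨c0, h1 ▸ hc0a, h2 ▸ hc0b⟩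
    · by_cases h3 : c0 = b
      · exact ⟨b0, fun h => hab (h1.trans h.symm), h2⟩
      · exact ⟨c0, h1 ▸ hc0a, h3⟩
  · by_cases h2 : a0 = b
    · by_cases h3 : b0 = a
      · exact ⟨c0, h3 ▸ hc0b, h2 ▸ hc0a⟩
      · by_cases h4 : c0 = a
        · exact ⟨b0, h3, fun h => hab (h2.trans h.symm)⟩
        · exact ⟨c0, h4, h2 ▸ hc0a⟩
    · exact ⟨a0, h1, h2⟩

theorem exD' (hZ : ZData G Ω) {a b : Ω} (hab : a ≠ b) :
    ∃ d : G, d ≠ 1 ∧ d • a = a ∧ d • b = b := by
  obtain ⟨g0, hg0, a0, b0, hab0, ha0, hb0⟩ := hZ.exD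
  obtain ⟨g, hga, hgb⟩ := hZ.two a0 b0 a b hab0 hab
  refine ⟨g * g0 * g⁻¹, ?_, ?_, ?_⟩
  · intro h
    apply hg0
    have : g0 = g⁻¹ * (g * g0 * g⁻¹) * g := by group
    rw [this, h]; group
  · rw [mul_smul, mul_smul, ← hga, inv_smul_smul, ha0]
  · rw [mul_smul, mul_smul, ← hgb, inv_smul_smul, hb0]

/-- the two-point stabiliser as a subgroup of the point stabiliser -/
abbrev D (G : Type*) {Ω : Type*} [Group G] [MulAction G Ω] (a b : Ω) :
    Subgroup (stabilizer G a) :=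
  (stabilizer G b).subgroupOf (stabilizer G a)

theorem mem_D {a b : Ω} (h : stabilizer G a) : h ∈ D G a b ↔ (h : G) • b = b := by
  rw [Subgroup.mem_subgroupOf, mem_stabilizer_iff]

theorem frobD (hZ : ZData G Ω) {a b : Ω} (hab : a ≠ b) : IsFrobeniusComplement (D G a b) := by
  refine ⟨?_, ?_, ?_⟩
  · obtain ⟨d, hd1, hda, hdb⟩ := hZ.exD' hab
    intro hbot
    have hmem : (⟨d, hda⟩ : stabilizer G a) ∈ D G a b := (mem_D _).mpr hdb
    rw [hbot, Subgroup.mem_bot] at hmem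
    exact hd1 (congrArg Subtype.val hmem)
  · obtain ⟨c, hca, hcb⟩ := hZ.exists_third a b
    obtain ⟨h, hha, hhb⟩ := hZ.two a b a c hab (Ne.symm hca)
    intro htop
    have hmem : (⟨h, hha⟩ : stabilizer G a) ∈ D G a b := by rw [htop]; exact Subgroup.mem_top _
    rw [mem_D] at hmem
    exact hcb (hhb.symm.trans hmem)
  · intro g hg
    rw [eq_bot_iff]
    intro x hx
    rw [Subgroup.mem_bot]
    obtain ⟨hx1, hx2⟩ := Subgroup.mem_inf.mp hx
    rw [mem_conj_smul_iff, mem_D] at hx2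
    rw [mem_D] at hx1 hg
    have hga : (g : G) • a = a := g.2
    have hxa : (x : G) • a = a := x.2
    have h3 : (x : G) • ((g : G) • b) = (g : G) • b := by
      have : ((g⁻¹ * x * g : stabilizer G a) : G) = (g : G)⁻¹ * (x : G) * (g : G) := by
        simp
      rw [this, mul_smul, mul_smul, inv_smul_eq_iff] at hx2
      exact hx2
    have hgba : (g : G) • b ≠ a := by
      intro h
      apply hab
      have : (g : G) • b = (g : G) • a := h.trans hga.symm
      exact (smul_left_cancel _ this).symm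
    apply Subtype.ext
    exact hZ.three (x : G) a b ((g : G) • b) hab (Ne.symm hg) (Ne.symm hgba) hxa hx1 h3

variable [Finite G]

/-- The Frobenius kernel of the point stabiliser. -/
noncomputable def KH (hZ : ZData G Ω) {a b : Ω} (hab : a ≠ b) : Subgroup (stabilizer G a) :=
  kernel (D G a b) (hZ.frobD hab)

theorem K_fix (hZ : ZData G Ω) {a b : Ω} (hab : a ≠ b) {k : stabilizer G a}
    (hk : k ∈ hZ.KH hab) (hk1 : k ≠ 1) {c : Ω} (hc : (k : G) • c = c) : c = a := by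
  by_contra hca
  obtain ⟨h, hha, hhb⟩ := hZ.two a b a c hab (Ne.symm hca)
  rw [KH, mem_kernel_iff] at hk
  rcases hk with hk | hk
  · exact hk1 hk
  · apply hk ⟨h, hha⟩
    rw [mem_conj_smul_iff, mem_D]
    have : (((⟨h, hha⟩ : stabilizer G a)⁻¹ * k * ⟨h, hha⟩ : stabilizer G a) : G) =
        h⁻¹ * (k : G) * h := by simp
    rw [this, mul_smul, mul_smul, hhb, hc, ← hhb, inv_smul_smul]

theorem K_trans (hZ : ZData G Ω) {a b : Ω} (hab : a ≠ b) {c : Ω} (hc : c ≠ a) :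
    ∃ k ∈ hZ.KH hab, (k : G) • b = c := by
  obtain ⟨h, hha, hhb⟩ := hZ.two a b a c hab (Ne.symm hc)
  obtain ⟨k, hk, d, hd, hkd⟩ := exists_mul (D G a b) (hZ.frobD hab) ⟨h, hha⟩
  refine ⟨k, hk, ?_⟩
  rw [mem_D] at hd
  have : h = (k : G) * (d : G) := by
    have := congrArg Subtype.val hkd
    simpa using this
  rw [← hhb, this, mul_smul, hd]

theorem K_trans' (hZ : ZData G Ω) {a b : Ω} (hab : a ≠ b) {c e : Ω} (hc : c ≠ a) (he : e ≠ a) :
    ∃ k ∈ hZ.KH hab, (k : G) • c = e := by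
  obtain ⟨k1, hk1, h1⟩ := hZ.K_trans hab hc
  obtain ⟨k2, hk2, h2⟩ := hZ.K_trans hab he
  refine ⟨k2 * k1⁻¹, (hZ.KH hab).mul_mem hk2 ((hZ.KH hab).inv_mem hk1), ?_⟩
  have : ((k2 * k1⁻¹ : stabilizer G a) : G) = (k2 : G) * (k1 : G)⁻¹ := by simp
  rw [this, mul_smul, ← h1, inv_smul_smul, h2]

theorem notK_fix (hZ : ZData G Ω) {a b : Ω} (hab : a ≠ b) {x : stabilizer G a}
    (hx : x ∉ hZ.KH hab) : x ≠ 1 ∧ ∃ c : Ω, c ≠ a ∧ (x : G) • c = c := by
  rw [KH, mem_kernel_iff] at hx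
  push Not at hx
  obtain ⟨hx1, g, hg⟩ := hx
  refine ⟨hx1, (g : G) • b, ?_, ?_⟩
  · intro h
    apply hab
    have hga : (g : G) • a = a := g.2
    have : (g : G) • b = (g : G) • a := h.trans hga.symm
    exact (smul_left_cancel _ this).symm
  · rw [mem_conj_smul_iff, mem_D] at hg
    have : ((g⁻¹ * x * g : stabilizer G a) : G) = (g : G)⁻¹ * (x : G) * (g : G) := by simp
    rw [this, mul_smul, mul_smul, inv_smul_eq_iff] at hg
    exact hg

end ZData

section FrobN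

variable [Finite G] (N : Subgroup G) (a : Ω)

omit [Finite G] in
/-- If `N` is transitive, `N_a ≠ 1`, and non-identity elements of `N_a` fix only `a`,
then `N_a` is a Frobenius complement in `N`. -/
theorem frobN (hb : ∃ b : Ω, b ≠ a) (htr : ∀ x y : Ω, ∃ n ∈ N, n • x = y)
    (hne : ∃ n ∈ N, n ≠ 1 ∧ n • a = a)
    (hfix : ∀ n ∈ N, n ≠ 1 → n • a = a → ∀ c : Ω, n • c = c → c = a) :
    IsFrobeniusComplement (stabilizer N a) := by
  refine ⟨?_, ?_, ?_⟩
  · obtain ⟨n, hnN, hn1, hna⟩ := hne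
    intro hbot
    have hmem : (⟨n, hnN⟩ : N) ∈ stabilizer N a := hna
    rw [hbot, Subgroup.mem_bot] at hmem
    exact hn1 (congrArg Subtype.val hmem)
  · obtain ⟨b, hba⟩ := hb
    obtain ⟨n, hnN, hnb⟩ := htr a b
    intro htop
    have hmem : (⟨n, hnN⟩ : N) ∈ stabilizer N a := by rw [htop]; exact Subgroup.mem_top _
    have : n • a = a := hmem
    exact hba (hnb.symm.trans this)
  · intro g hg
    rw [eq_bot_iff]
    intro x hx
    rw [Subgroup.mem_bot]
    obtain ⟨hx1, hx2⟩ := Subgroup.mem_inf.mp hx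
    rw [mem_conj_smul_iff] at hx2
    have hxa : (x : G) • a = a := hx1
    have hga : (g : G) • a ≠ a := hg
    have h3 : (x : G) • ((g : G) • a) = (g : G) • a := by
      have h4 : ((g⁻¹ * x * g : N) : G) • a = a := hx2
      have : ((g⁻¹ * x * g : N) : G) = (g : G)⁻¹ * (x : G) * (g : G) := by simp
      rw [this, mul_smul, mul_smul, inv_smul_eq_iff] at h4
      exact h4
    by_contra hx1'
    have hxne : (x : G) ≠ 1 := fun h => hx1' (Subtype.ext h)
    exact hga (hfix (x : G) x.2 hxne hxa _ h3)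

variable (hb : ∃ b : Ω, b ≠ a) (htr : ∀ x y : Ω, ∃ n ∈ N, n • x = y)
    (hne : ∃ n ∈ N, n ≠ 1 ∧ n • a = a)
    (hfix : ∀ n ∈ N, n ≠ 1 → n • a = a → ∀ c : Ω, n • c = c → c = a)

/-- The Frobenius kernel of `N`. -/
noncomputable def MN : Subgroup N :=
  kernel (stabilizer N a) (frobN N a hb htr hne hfix)

theorem MN_fpf {m : N} (hm : m ∈ MN N a hb htr hne hfix) (hm1 : m ≠ 1) (c : Ω) :
    (m : G) • c ≠ c := by
  intro hc
  rw [MN, mem_kernel_iff] at hm
  rcases hm with hm | hm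
  · exact hm1 hm
  · obtain ⟨n, hnN, hna⟩ := htr a c
    apply hm ⟨n, hnN⟩
    rw [mem_conj_smul_iff]
    show ((⟨n, hnN⟩ : N)⁻¹ * m * ⟨n, hnN⟩ : N) • a = a
    have : (((⟨n, hnN⟩ : N)⁻¹ * m * ⟨n, hnN⟩ : N) : G) = n⁻¹ * (m : G) * n := by simp
    rw [Subgroup.smul_def, this, mul_smul, mul_smul, hna, hc, ← hna, inv_smul_smul]

theorem fpf_mem_MN {n : G} (hnN : n ∈ N) (hn : ∀ c : Ω, n • c ≠ c) :
    (⟨n, hnN⟩ : N) ∈ MN N a hb htr hne hfix := by
  rw [MN, mem_kernel_iff]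
  right
  intro g hg
  rw [mem_conj_smul_iff] at hg
  have h4 : ((g⁻¹ * ⟨n, hnN⟩ * g : N) : G) • a = a := hg
  have : ((g⁻¹ * ⟨n, hnN⟩ * g : N) : G) = (g : G)⁻¹ * n * (g : G) := by simp
  rw [this, mul_smul, mul_smul, inv_smul_eq_iff] at h4
  exact hn _ h4

theorem MN_trans (c : Ω) : ∃ m ∈ MN N a hb htr hne hfix, (m : G) • a = c := by
  obtain ⟨n, hnN, hna⟩ := htr a c
  obtain ⟨m, hm, d, hd, hmd⟩ := exists_mul (stabilizer N a) (frobN N a hb htr hne hfix) ⟨n, hnN⟩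
  refine ⟨m, hm, ?_⟩
  have hda : (d : G) • a = a := hd
  have : n = (m : G) * (d : G) := by
    have := congrArg Subtype.val hmd
    simpa using this
  rw [← hna, this, mul_smul, hda]

include hb htr hne hfix in
/-- A normal subgroup of `G` cannot be a Frobenius group on `Ω` if `G` has no regular normal
subgroup. -/
theorem no_frob [hN : N.Normal]
    (hreg : ∀ M : Subgroup G, M.Normal → IsPretransitive M Ω → ∃ a : Ω, stabilizer M a ≠ ⊥) :
    False := by
  set M : Subgroup G := (MN N a hb htr hne hfix).map N.subtype with hM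
  have hmemM : ∀ x : G, x ∈ M ↔ ∃ hx : x ∈ N, (⟨x, hx⟩ : N) ∈ MN N a hb htr hne hfix := by
    intro x
    rw [hM, Subgroup.mem_map]
    constructor
    · rintro ⟨y, hy, rfl⟩
      exact ⟨y.2, hy⟩
    · rintro ⟨hx, hy⟩
      exact ⟨⟨x, hx⟩, hy, rfl⟩
  have hMfpf : ∀ m ∈ M, m ≠ 1 → ∀ c : Ω, m • c ≠ c := by
    intro m hm hm1 c
    obtain ⟨hmN, hm'⟩ := (hmemM m).mp hm
    exact MN_fpf N a hb htr hne hfix hm' (fun h => hm1 (congrArg Subtype.val h)) c
  have hMn : M.Normal := by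
    constructor
    intro m hm g
    by_cases hm1 : m = 1
    · rw [hm1]; simp
    · obtain ⟨hmN, hm'⟩ := (hmemM m).mp hm
      rw [hmemM]
      refine ⟨hN.conj_mem m hmN g, ?_⟩
      apply fpf_mem_MN
      intro c hc
      apply hMfpf m hm hm1 (g⁻¹ • c)
      rw [mul_smul, mul_smul, smul_eq_iff_eq_inv_smul] at hc
      exact hc
  have hMt : IsPretransitive M Ω := by
    constructor
    intro x y
    obtain ⟨m1, hm1, h1⟩ := MN_trans N a hb htr hne hfix x
    obtain ⟨m2, hm2, h2⟩ := MN_trans N a hb htr hne hfix y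
    have hmem : (m2 : G) * (m1 : G)⁻¹ ∈ M := by
      rw [hmemM]
      refine ⟨N.mul_mem m2.2 (N.inv_mem m1.2), ?_⟩
      have : (⟨(m2 : G) * (m1 : G)⁻¹, N.mul_mem m2.2 (N.inv_mem m1.2)⟩ : N) = m2 * m1⁻¹ := by
        apply Subtype.ext; simp
      rw [this]
      exact (MN N a hb htr hne hfix).mul_mem hm2 ((MN N a hb htr hne hfix).inv_mem hm1)
    refine ⟨⟨(m2 : G) * (m1 : G)⁻¹, hmem⟩, ?_⟩
    show ((m2 : G) * (m1 : G)⁻¹) • x = y
    rw [mul_smul, ← h1, inv_smul_smul, h2]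
  obtain ⟨a', ha'⟩ := hreg M hMn hMt
  apply ha'
  rw [eq_bot_iff]
  intro m hm
  rw [Subgroup.mem_bot]
  by_contra hm1
  have hma : (m : G) • a' = a' := hm
  exact hMfpf (m : G) m.2 (fun h => hm1 (Subtype.ext h)) a' hma

end FrobN

section Main

variable [Finite G]

/-- Structure of a transitive normal subgroup `N` of a Zassenhaus group: `N_a` is not contained in
the Frobenius kernel of `G_a` and contains it. -/
theorem normal_structure (hZ : ZData G Ω)
    (hreg : ∀ M : Subgroup G, M.Normal → IsPretransitive M Ω → ∃ a : Ω, stabilizer M a ≠ ⊥)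
    (N : Subgroup G) [hN : N.Normal] (htr : ∀ x y : Ω, ∃ n ∈ N, n • x = y)
    {a b : Ω} (hab : a ≠ b) :
    (∃ n ∈ N, n ≠ 1 ∧ n • a = a ∧ ∃ c : Ω, c ≠ a ∧ n • c = c) ∧
      (∀ k ∈ hZ.KH hab, (k : G) ∈ N) := by
  have hNt : IsPretransitive N Ω := by
    constructor
    intro x y
    obtain ⟨n, hn, h⟩ := htr x y
    exact ⟨⟨n, hn⟩, h⟩
  -- `N_a ≠ 1`
  have hne : ∃ n ∈ N, n ≠ 1 ∧ n • a = a := by
    obtain ⟨a', ha'⟩ := hreg N hN hNt
    have : ∃ n : N, n ∈ stabilizer N a' ∧ n ≠ 1 := by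
      by_contra hcon
      push Not at hcon
      apply ha'
      rw [eq_bot_iff]
      intro n hn
      rw [Subgroup.mem_bot]
      exact hcon n hn
    obtain ⟨n, hn, hn1⟩ := this
    have hna : (n : G) • a' = a' := hn
    obtain ⟨g, hg, hga⟩ := htr a' a
    refine ⟨g * (n : G) * g⁻¹, hN.conj_mem _ n.2 g, ?_, ?_⟩
    · intro h
      apply hn1
      apply Subtype.ext
      have : (n : G) = g⁻¹ * (g * (n : G) * g⁻¹) * g := by group
      rw [this, h]; simp
    · rw [mul_smul, mul_smul, ← hga, inv_smul_smul, hna]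
  -- step 1
  have hstep1 : ∃ n : G, n ∈ N ∧ ∃ hna : n • a = a, (⟨n, hna⟩ : stabilizer G a) ∉ hZ.KH hab := by
    by_contra hcon
    push Not at hcon
    have hfix : ∀ n ∈ N, n ≠ 1 → n • a = a → ∀ c : Ω, n • c = c → c = a := by
      intro n hnN hn1 hna c hc
      have hk := hcon n hnN hna
      exact hZ.K_fix hab hk (fun h => hn1 (congrArg Subtype.val h)) hc
    exact no_frob N a ⟨b, Ne.symm hab⟩ htr hne hfix hreg
  obtain ⟨n, hnN, hna, hnK⟩ := hstep1
  refine ⟨?_, ?_⟩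
  · obtain ⟨hn1, c, hca, hc⟩ := hZ.notK_fix hab hnK
    exact ⟨n, hnN, fun h => hn1 (Subtype.ext h), hna, c, hca, hc⟩
  · rcases normal_le_or_ge (ZData.D G a b) (hZ.frobD hab) (N.subgroupOf (stabilizer G a)) with h | h
    · exfalso
      apply hnK
      apply h
      rw [Subgroup.mem_subgroupOf]
      exact hnN
    · intro k hk
      have := h hk
      rw [Subgroup.mem_subgroupOf] at this
      exact this

/-- A transitive normal subgroup of a Zassenhaus group is 2-transitive. -/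
theorem normal_two_trans (hZ : ZData G Ω)
    (hreg : ∀ M : Subgroup G, M.Normal → IsPretransitive M Ω → ∃ a : Ω, stabilizer M a ≠ ⊥)
    (N : Subgroup G) [hN : N.Normal] (htr : ∀ x y : Ω, ∃ n ∈ N, n • x = y)
    (x y z w : Ω) (hxy : x ≠ y) (hzw : z ≠ w) : ∃ n ∈ N, n • x = z ∧ n • y = w := by
  obtain ⟨n, hnN, hnx⟩ := htr x z
  have hny : n • y ≠ z := by
    intro h
    exact hxy (smul_left_cancel n (hnx.trans h.symm))
  obtain ⟨k, hk, hkw⟩ := hZ.K_trans' hzw hny (Ne.symm hzw)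
  have hkN := (normal_structure hZ hreg N htr hzw).2 k hk
  have hkz : (k : G) • z = z := k.2
  refine ⟨(k : G) * n, N.mul_mem hkN hnN, ?_, ?_⟩
  · rw [mul_smul, hnx, hkz]
  · rw [mul_smul, hkw]

end Main

section RegNormal

/-- a regular subgroup -/
structure IsReg (M : Subgroup G) (Ω : Type*) [MulAction G Ω] : Prop where
  trans : ∀ x y : Ω, ∃ m ∈ M, m • x = y
  free : ∀ m ∈ M, ∀ x : Ω, m • x = x → m = 1

variable (N : Subgroup G)
  (h2N : ∀ x y z w : Ω, x ≠ y → z ≠ w → ∃ n ∈ N, n • x = z ∧ n • y = w)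

include h2N in
theorem reg_conj {M : Subgroup G} (hMn : ∀ n ∈ N, ∀ m ∈ M, n * m * n⁻¹ ∈ M)
    (hM : IsReg M Ω) (a : Ω) {m1 m2 : G} (hm1 : m1 ∈ M) (hm2 : m2 ∈ M) (h1 : m1 ≠ 1) (h2 : m2 ≠ 1) :
    ∃ h ∈ N, h • a = a ∧ h * m1 * h⁻¹ = m2 := by
  have h1a : a ≠ m1 • a := fun h => h1 (hM.free m1 hm1 a h.symm)
  have h2a : a ≠ m2 • a := fun h => h2 (hM.free m2 hm2 a h.symm)
  obtain ⟨h, hhN, hha, hhm⟩ := h2N a (m1 • a) a (m2 • a) h1a h2a
  refine ⟨h, hhN, hha, ?_⟩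
  have hfix : (m2⁻¹ * (h * m1 * h⁻¹)) • a = a := by
    rw [mul_smul, mul_smul, mul_smul, inv_smul_eq_iff]
    have : h⁻¹ • a = a := by rw [inv_smul_eq_iff, hha]
    rw [this, hhm]
  have := hM.free _ (M.mul_mem (M.inv_mem hm2) (hMn h hhN m1 hm1)) a hfix
  calc h * m1 * h⁻¹ = m2 * (m2⁻¹ * (h * m1 * h⁻¹)) := by group
    _ = m2 := by rw [this, mul_one]

include h2N in
theorem reg_comm [Finite G] [Nonempty Ω] {M : Subgroup G} (hMn : ∀ n ∈ N, ∀ m ∈ M, n * m * n⁻¹ ∈ M)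
    (hM : IsReg M Ω) : ∀ x ∈ M, ∀ y ∈ M, x * y = y * x := by
  classical
  obtain ⟨a⟩ := ‹Nonempty Ω›
  by_cases hbot : M = ⊥
  · intro x hx y hy
    rw [hbot, Subgroup.mem_bot] at hx hy
    rw [hx, hy]
  -- a prime `p` and an element of order `p`
  have hcard : Nat.card M ≠ 1 := by
    intro h
    exact hbot (Subgroup.card_eq_one.mp h)
  obtain ⟨p, hp, hpd⟩ := Nat.exists_prime_and_dvd hcard
  haveI : Fact p.Prime := ⟨hp⟩
  obtain ⟨x0, hx0⟩ := exists_prime_orderOf_dvd_card' p hpd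
  have hx01 : (x0 : G) ≠ 1 := by
    intro h
    have : x0 = 1 := Subtype.ext h
    rw [this, orderOf_one] at hx0
    exact hp.one_lt.ne hx0
  have hpow : ∀ m ∈ M, m ^ p = 1 := by
    intro m hm
    by_cases hm1 : m = 1
    · rw [hm1, one_pow]
    · obtain ⟨h, -, -, hc⟩ := reg_conj N h2N hMn hM a x0.2 hm hx01 hm1
      rw [← hc, conj_pow]
      have : (x0 : G) ^ p = 1 := by
        have := pow_orderOf_eq_one x0
        rw [hx0] at this
        have h2 := congrArg Subtype.val this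
        simpa using h2
      rw [this]; group
  have hPG : IsPGroup p M := by
    intro m
    refine ⟨1, ?_⟩
    rw [pow_one]
    apply Subtype.ext
    have := hpow (m : G) m.2
    simpa using this
  haveI : Nontrivial M := by
    rw [Subgroup.nontrivial_iff_ne_bot]
    exact hbot
  haveI : Nontrivial (Subgroup.center M) := hPG.center_nontrivial
  obtain ⟨z, hz1⟩ := exists_ne (1 : Subgroup.center M)
  have hzc : ∀ y ∈ M, (z : M) * y = y * (z : M) := by
    intro y hy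
    have := (Subgroup.mem_center_iff.mp z.2) ⟨y, hy⟩
    have h2 := congrArg Subtype.val this
    simpa using h2.symm
  have hz1' : ((z : M) : G) ≠ 1 := by
    intro h
    apply hz1
    apply Subtype.ext
    apply Subtype.ext
    exact h
  intro x hx y hy
  by_cases hx1 : x = 1
  · rw [hx1, one_mul, mul_one]
  obtain ⟨h, hhN, -, hc⟩ := reg_conj N h2N hMn hM a (z : M).2 hx hz1' hx1
  have hyc : h⁻¹ * y * h ∈ M := by
    have := hMn h⁻¹ (N.inv_mem hhN) y hy
    simpa using this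
  have := hzc _ hyc
  rw [← hc]
  calc h * ((z : M) : G) * h⁻¹ * y = h * (((z : M) : G) * (h⁻¹ * y * h)) * h⁻¹ := by group
    _ = h * ((h⁻¹ * y * h) * ((z : M) : G)) * h⁻¹ := by rw [this]
    _ = y * (h * ((z : M) : G) * h⁻¹) := by group

theorem reg_selfcent (hF : ∀ g : G, (∀ x : Ω, g • x = x) → g = 1) [Nonempty Ω]
    {M : Subgroup G} (hM : IsReg M Ω) (hcomm : ∀ x ∈ M, ∀ y ∈ M, x * y = y * x)
    {c : G} (hc : ∀ m ∈ M, c * m = m * c) : c ∈ M := by
  obtain ⟨a⟩ := ‹Nonempty Ω›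
  obtain ⟨m, hm, hma⟩ := hM.trans a (c • a)
  have h1 : m⁻¹ * c = 1 := by
    apply hF
    intro x
    obtain ⟨m', hm', rfl⟩ := hM.trans a x
    have hcomm2 : (m⁻¹ * c) * m' = m' * (m⁻¹ * c) := by
      have e1 : m⁻¹ * m' = m' * m⁻¹ := hcomm _ (M.inv_mem hm) _ hm'
      calc (m⁻¹ * c) * m' = m⁻¹ * (c * m') := by group
        _ = m⁻¹ * (m' * c) := by rw [hc m' hm']
        _ = (m⁻¹ * m') * c := by group
        _ = (m' * m⁻¹) * c := by rw [e1]
        _ = m' * (m⁻¹ * c) := by group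
    rw [← mul_smul, hcomm2, mul_smul]
    congr 1
    rw [mul_smul, ← hma, inv_smul_smul]
  have : c = m * (m⁻¹ * c) := by group
  rw [this, h1, mul_one]
  exact hm

include h2N in
theorem reg_unique_le [Finite G] (hF : ∀ g : G, (∀ x : Ω, g • x = x) → g = 1)
    {a b : Ω} (hab : a ≠ b)
    {M1 M2 : Subgroup G} (hM1N : M1 ≤ N) (hM2N : M2 ≤ N)
    (hM1n : ∀ n ∈ N, ∀ m ∈ M1, n * m * n⁻¹ ∈ M1)
    (hM2n : ∀ n ∈ N, ∀ m ∈ M2, n * m * n⁻¹ ∈ M2)
    (hM1 : IsReg M1 Ω) (hM2 : IsReg M2 Ω) : M1 ≤ M2 := by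
  haveI : Nonempty Ω := ⟨a⟩
  by_cases hex : ∃ x ∈ M1, x ∈ M2 ∧ x ≠ 1
  · obtain ⟨x, hx1, hx2, hxne⟩ := hex
    intro m hm
    by_cases hm1 : m = 1
    · rw [hm1]; exact M2.one_mem
    · obtain ⟨h, hhN, -, hc⟩ := reg_conj N h2N hM1n hM1 a hx1 hm hxne hm1
      rw [← hc]
      exact hM2n h hhN x hx2
  · exfalso
    push Not at hex
    have hcomm1 := reg_comm N h2N hM1n hM1
    -- `M2` centralises `M1`
    have hcent : ∀ y ∈ M2, ∀ x ∈ M1, y * x = x * y := by
      intro y hy x hx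
      have h1 : x * y * x⁻¹ * y⁻¹ ∈ M1 := by
        have := hM1n y (hM2N hy) x⁻¹ (M1.inv_mem hx)
        have h2 := M1.mul_mem hx this
        have e : x * (y * x⁻¹ * y⁻¹) = x * y * x⁻¹ * y⁻¹ := by group
        rw [e] at h2
        exact h2
      have h2 : x * y * x⁻¹ * y⁻¹ ∈ M2 := by
        have := hM2n x (hM1N hx) y hy
        exact M2.mul_mem this (M2.inv_mem hy)
      have h3 := hex _ h1 h2
      calc y * x = (x * y * x⁻¹ * y⁻¹)⁻¹ * (x * y) := by group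
        _ = x * y := by rw [h3]; group
    obtain ⟨y, hy, hya⟩ := hM2.trans a b
    have hyM1 : y ∈ M1 := reg_selfcent hF hM1 hcomm1 (hcent y hy)
    have hy1 := hex y hyM1 hy
    apply hab
    rw [← hya, hy1, one_smul]

end RegNormal

section Final

variable [Finite G]

theorem no_regular_normal (hF : ∀ g : G, (∀ x : Ω, g • x = x) → g = 1) {a b : Ω} (hab : a ≠ b)
    (hreg : ∀ M : Subgroup G, M.Normal → IsPretransitive M Ω → ∃ a : Ω, stabilizer M a ≠ ⊥)
    (N : Subgroup G) [hN : N.Normal]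
    (h2N : ∀ x y z w : Ω, x ≠ y → z ≠ w → ∃ n ∈ N, n • x = z ∧ n • y = w)
    (Mn : Subgroup N) (hMn : Mn.Normal) (hMt : IsPretransitive Mn Ω) :
    ∃ a : Ω, stabilizer Mn a ≠ ⊥ := by
  by_contra hcon
  push Not at hcon
  set M : Subgroup G := Mn.map N.subtype with hM
  have hmemM : ∀ x : G, x ∈ M ↔ ∃ hx : x ∈ N, (⟨x, hx⟩ : N) ∈ Mn := by
    intro x
    rw [hM, Subgroup.mem_map]
    constructor
    · rintro ⟨y, hy, rfl⟩
      exact ⟨y.2, hy⟩
    · rintro ⟨hx, hy⟩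
      exact ⟨⟨x, hx⟩, hy, rfl⟩
  have hMN : M ≤ N := fun x hx => ((hmemM x).mp hx).1
  have hMreg : IsReg M Ω := by
    refine ⟨?_, ?_⟩
    · intro x y
      obtain ⟨m, hm⟩ := MulAction.exists_smul_eq Mn x y
      refine ⟨((m : N) : G), (hmemM _).mpr ⟨(m : N).2, m.2⟩, hm⟩
    · intro m hm x hx
      obtain ⟨hmN, hmMn⟩ := (hmemM m).mp hm
      have : (⟨⟨m, hmN⟩, hmMn⟩ : Mn) ∈ stabilizer Mn x := hx
      rw [hcon x, Subgroup.mem_bot] at this
      have h2 := congrArg (fun t : Mn => ((t : N) : G)) this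
      simpa using h2
  have hMnorm : ∀ n ∈ N, ∀ m ∈ M, n * m * n⁻¹ ∈ M := by
    intro n hn m hm
    obtain ⟨hmN, hmMn⟩ := (hmemM m).mp hm
    rw [hmemM]
    refine ⟨N.mul_mem (N.mul_mem hn hmN) (N.inv_mem hn), ?_⟩
    have := hMn.conj_mem _ hmMn ⟨n, hn⟩
    exact this
  have hMnormal : M.Normal := by
    constructor
    intro m hm g
    -- the conjugate subgroup
    set Mg : Subgroup G := MulAut.conj g • M with hMg
    have hmemMg : ∀ x : G, x ∈ Mg ↔ g⁻¹ * x * g ∈ M := fun x => mem_conj_smul_iff M g x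
    have hMgN : Mg ≤ N := by
      intro x hx
      have h1 := hMN ((hmemMg x).mp hx)
      have h2 := hN.conj_mem _ h1 g
      have e : g * (g⁻¹ * x * g) * g⁻¹ = x := by group
      rw [e] at h2
      exact h2
    have hMgreg : IsReg Mg Ω := by
      refine ⟨?_, ?_⟩
      · intro x y
        obtain ⟨m', hm', h⟩ := hMreg.trans (g⁻¹ • x) (g⁻¹ • y)
        refine ⟨g * m' * g⁻¹, ?_, ?_⟩
        · rw [hmemMg]
          have e : g⁻¹ * (g * m' * g⁻¹) * g = m' := by group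
          rw [e]; exact hm'
        · rw [mul_smul, mul_smul, h, smul_inv_smul]
      · intro x' hx' x hx
        have h1 := (hmemMg x').mp hx'
        have h2 : (g⁻¹ * x' * g) • (g⁻¹ • x) = g⁻¹ • x := by
          rw [mul_smul, mul_smul, smul_inv_smul, hx]
        have h3 := hMreg.free _ h1 _ h2
        have e : x' = g * (g⁻¹ * x' * g) * g⁻¹ := by group
        rw [e, h3]; group
    have hMgnorm : ∀ n ∈ N, ∀ m ∈ Mg, n * m * n⁻¹ ∈ Mg := by
      intro n hn x hx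
      rw [hmemMg] at hx ⊢
      have hn' : g⁻¹ * n * g ∈ N := by
        have := hN.conj_mem n hn g⁻¹
        simpa using this
      have := hMnorm _ hn' _ hx
      have e : g⁻¹ * n * g * (g⁻¹ * x * g) * (g⁻¹ * n * g)⁻¹ = g⁻¹ * (n * x * n⁻¹) * g := by group
      rw [e] at this
      exact this
    have hle : Mg ≤ M := reg_unique_le N h2N hF hab hMgN hMN hMgnorm hMnorm hMgreg hMreg
    apply hle
    rw [hmemMg]
    have e : g⁻¹ * (g * m * g⁻¹) * g = m := by group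
    rw [e]; exact hm
  have hMt' : IsPretransitive M Ω := by
    constructor
    intro x y
    obtain ⟨m, hm, h⟩ := hMreg.trans x y
    exact ⟨⟨m, hm⟩, h⟩
  obtain ⟨a', ha'⟩ := hreg M hMnormal hMt'
  apply ha'
  rw [eq_bot_iff]
  intro m hm
  rw [Subgroup.mem_bot]
  have hma : (m : G) • a' = a' := hm
  apply Subtype.ext
  exact hMreg.free (m : G) m.2 a' hma

end Final

/-- A non-trivial normal subgroup of a Zassenhaus group is a Zassenhaus group. -/
theorem zass_normal [Finite Ω]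
    (hZ : Cfsg.IsZassenhausGroup G Ω) (N : Subgroup G) [hNn : N.Normal] (hN : N ≠ ⊥) :
    Cfsg.IsZassenhausGroup N Ω ∧
      (∀ x y z w : Ω, x ≠ y → z ≠ w → ∃ n ∈ N, n • x = z ∧ n • y = w) := by
  have hZ' := hZ
  obtain ⟨hF, h2, h3, h4, hreg⟩ := hZ'
  haveI : Finite G := finite_of_faithful hF
  have hD := zdata_of_zass hZ
  haveI : IsPretransitive N Ω := Cfsg.Agent.Lib.Helper5_Jordan.normal_transitive h2 N hN
  have htr : ∀ x y : Ω, ∃ n ∈ N, n • x = y := by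
    intro x y
    obtain ⟨n, hn⟩ := MulAction.exists_smul_eq N x y
    exact ⟨n, n.2, hn⟩
  have h2N := normal_two_trans hD hreg N htr
  obtain ⟨g0, -, a, b, hab, -, -⟩ := h4
  refine ⟨⟨?_, ?_, ?_, ?_, ?_⟩, h2N⟩
  · constructor
    intro n1 n2 h
    apply Subtype.ext
    apply hF.eq_of_smul_eq_smul
    intro x
    exact h x
  · rw [is_two_pretransitive_iff]
    intro a b c d hab hcd
    obtain ⟨n, hn, h1, h2⟩ := h2N a b c d hab hcd
    exact ⟨⟨n, hn⟩, h1, h2⟩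
  · intro g a b c hab hbc hac ha hb hc
    apply Subtype.ext
    exact h3 (g : G) a b c hab hbc hac ha hb hc
  · obtain ⟨⟨n, hnN, hn1, hna, c, hca, hc⟩, -⟩ := normal_structure hD hreg N htr hab
    exact ⟨⟨n, hnN⟩, fun h => hn1 (congrArg Subtype.val h), a, c, Ne.symm hca, hna, hc⟩
  · intro Mn hMn hMt
    exact no_regular_normal hD.faithful hab hreg N h2N Mn hMn hMt

end Cfsg.Agent.Lib.Helper3_Zass
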