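import Mathlib

set_option linter.all false
set_option autoImplicit false

namespace Cfsg.Agent.Lib.Helper4_AbelPerm



/-- the maximal product of a partition of `n` -/
def f : ℕ → ℕ
  | 0 => 1
  | 1 => 1
  | 2 => 2
  | 3 => 3
  | 4 => 4
  | (n + 5) => 3 * f (n + 2)

theorem f_add_five (n : ℕ) : f (n + 5) = 3 * f (n + 2) := rfl

theorem f_facts (n : ℕ) : f n ≤ f (n + 1) ∧ 2 * f n ≤ f (n + 2) ∧ 3 * f n ≤ f (n + 3) ∧ 0 < f n := by
  induction n using Nat.strong_induction_on with
  | _ n ih =>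
    match n, ih with
    | 0, _ => decide
    | 1, _ => decide
    | 2, _ => decide
    | 3, _ => decide
    | 4, _ => decide
    | (n + 5), ih =>
      obtain ⟨h1, h2, h3, h4⟩ := ih (n + 2) (by omega)
      have h1 : f (n + 2) ≤ f (n + 3) := h1
      have h2 : 2 * f (n + 2) ≤ f (n + 4) := h2
      have h3 : 3 * f (n + 2) ≤ f (n + 5) := h3
      have e1 : f (n + 5 + 1) = 3 * f (n + 3) := f_add_five (n + 1)
      have e2 : f (n + 5 + 2) = 3 * f (n + 4) := f_add_five (n + 2)
      have e3 : f (n + 5 + 3) = 3 * f (n + 5) := f_add_five (n + 3)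
      rw [e1, e2, e3, f_add_five]
      refine ⟨by omega, by omega, le_refl _, by omega⟩

theorem mul_f_le (m n : ℕ) : m * f n ≤ f (n + m) := by
  induction m using Nat.strong_induction_on generalizing n with
  | _ m ih =>
    match m, ih with
    | 0, _ => simp
    | 1, _ => simpa using (f_facts n).1
    | 2, _ => exact (f_facts n).2.1
    | 3, _ => exact (f_facts n).2.2.1
    | 4, _ =>
      have h1 := (f_facts n).2.1
      have h2 := (f_facts (n + 2)).2.1
      have : n + 2 + 2 = n + 4 := by ring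
      rw [this] at h2
      omega
    | (m + 5), ih =>
      have h1 := ih (m + 2) (by omega) n
      have h2 := (f_facts (n + (m + 2))).2.2.1
      have : n + (m + 2) + 3 = n + (m + 5) := by ring
      rw [this] at h2
      have h3 : (m + 5) * f n ≤ 3 * ((m + 2) * f n) := by
        have : m + 5 ≤ 3 * (m + 2) := by omega
        calc (m + 5) * f n ≤ (3 * (m + 2)) * f n := Nat.mul_le_mul_right _ this
          _ = 3 * ((m + 2) * f n) := by ring
      omega

theorem prod_le_f {ι : Type*} (s : Finset ι) (m : ι → ℕ) : ∏ i ∈ s, m i ≤ f (∑ i ∈ s, m i) := by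
  classical
  induction s using Finset.induction_on with
  | empty => simp [f]
  | insert a s ha ih =>
    rw [Finset.prod_insert ha, Finset.sum_insert ha]
    calc m a * ∏ i ∈ s, m i ≤ m a * f (∑ i ∈ s, m i) := Nat.mul_le_mul_left _ ih
      _ ≤ f (∑ i ∈ s, m i + m a) := mul_f_le _ _
      _ = f (m a + ∑ i ∈ s, m i) := by rw [add_comm]

theorem f_three_mul (k : ℕ) : f (3 * k) = 3 ^ k ∧ f (3 * k + 2) = 2 * 3 ^ k ∧
    f (3 * k + 4) = 4 * 3 ^ k := by
  induction k with
  | zero => decide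
  | succ k ih =>
    obtain ⟨h1, h2, h3⟩ := ih
    have e1 : 3 * (k + 1) = 3 * k + 3 := by ring
    have e2 : 3 * (k + 1) + 2 = 3 * k + 5 := by ring
    have e3 : 3 * (k + 1) + 4 = (3 * k + 2) + 5 := by ring
    rw [e2, e3, f_add_five, f_add_five, h2]
    have e4 : 3 * k + 2 + 2 = 3 * k + 4 := by ring
    rw [e4, h3]
    refine ⟨?_, by ring, by ring⟩
    rw [e1]
    rcases Nat.eq_zero_or_pos k with hk | hk
    · subst hk; decide
    · obtain ⟨j, rfl⟩ : ∃ j, k = j + 1 := ⟨k - 1, by omega⟩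
      have e5 : 3 * (j + 1) + 3 = (3 * j + 1) + 5 := by ring
      rw [e5, f_add_five]
      have e6 : 3 * j + 1 + 2 = 3 * (j + 1) := by ring
      rw [e6, h1]; ring


/-- an abelian permutation group has order at most the product of its orbit lengths -/
theorem card_le_f {α : Type*} [Fintype α] [DecidableEq α] (A : Subgroup (Equiv.Perm α))
    (hA : ∀ a ∈ A, ∀ b ∈ A, a * b = b * a) : Nat.card A ≤ f (Fintype.card α) := by
  classical
  let Ω := MulAction.orbitRel.Quotient A α
  haveI : Fintype Ω := Fintype.ofFinite _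
  let Φ : A → ∀ ω : Ω, MulAction.orbit A ω.out := fun a ω => ⟨a • ω.out, MulAction.mem_orbit _ _⟩
  have hinj : Function.Injective Φ := by
    intro a b hab
    apply Subtype.ext
    apply Equiv.ext
    intro x
    -- x lies in the orbit of its representative
    have hx : (Quotient.mk'' x : Ω).out ∈ MulAction.orbit A x := by
      have h1 : (Quotient.mk'' (Quotient.mk'' x : Ω).out : Ω) = Quotient.mk'' x := Quotient.out_eq' _
      have h2 := Quotient.exact' h1
      exact h2
    obtain ⟨g, hg⟩ := hx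
    have hx' : x = g⁻¹ • (Quotient.mk'' x : Ω).out := by
      rw [← hg, inv_smul_smul]
    have h3 := congrArg (fun φ => ((φ (Quotient.mk'' x : Ω)) : α)) hab
    simp only [Φ] at h3
    have hc : ∀ c : A, (c : Equiv.Perm α) x = g⁻¹ • (c • (Quotient.mk'' x : Ω).out) := by
      intro c
      have : (c : Equiv.Perm α) x = c • x := rfl
      rw [this]
      conv_lhs => rw [hx']
      rw [smul_smul, smul_smul]
      congr 1
      apply Subtype.ext
      exact hA _ c.2 _ (g⁻¹).2
    rw [hc a, hc b, h3]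
  have h1 := Nat.card_le_card_of_injective Φ hinj
  rw [Nat.card_pi] at h1
  have h2 : Nat.card α = ∑ ω : Ω, Nat.card (MulAction.orbit A ω.out) := by
    rw [Nat.card_congr (MulAction.selfEquivSigmaOrbits A α), Nat.card_sigma]
  rw [← Nat.card_eq_fintype_card, h2]
  exact h1.trans (prod_le_f _ _)




def P (n c : ℕ) : Prop :=
  ∃ A : Subgroup (Equiv.Perm (Fin n)), IsMulCommutative A ∧ Nat.card A = c

theorem P_add {n m c d : ℕ} (h1 : P n c) (h2 : P m d) : P (n + m) (c * d) := by
  obtain ⟨A, hA, hAc⟩ := h1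
  obtain ⟨B, hB, hBc⟩ := h2
  let φ := Equiv.Perm.sumCongrHom (Fin n) (Fin m)
  let ψ : Equiv.Perm (Fin n ⊕ Fin m) ≃* Equiv.Perm (Fin (n + m)) := finSumFinEquiv.permCongrHom
  let θ : Equiv.Perm (Fin n) × Equiv.Perm (Fin m) →* Equiv.Perm (Fin (n + m)) :=
    ψ.toMonoidHom.comp φ
  have hθ : Function.Injective θ := ψ.injective.comp Equiv.Perm.sumCongrHom_injective
  haveI : IsMulCommutative (A.prod B) := IsMulCommutative.of_setLike_mul_comm (by
    rintro ⟨a1, b1⟩ ⟨ha1, hb1⟩ ⟨a2, b2⟩ ⟨ha2, hb2⟩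
    have e1 : a1 * a2 = a2 * a1 := congrArg Subtype.val (mul_comm' (⟨a1, ha1⟩ : A) ⟨a2, ha2⟩)
    have e2 : b1 * b2 = b2 * b1 := congrArg Subtype.val (mul_comm' (⟨b1, hb1⟩ : B) ⟨b2, hb2⟩)
    exact Prod.ext e1 e2)
  refine ⟨(A.prod B).map θ, inferInstance, ?_⟩
  rw [Subgroup.card_map_of_injective hθ, Nat.card_congr (Subgroup.prodEquiv A B).toEquiv,
    Nat.card_prod, hAc, hBc]

theorem P_cast {n n' c c' : ℕ} (hn : n = n') (hc : c = c') (h : P n c) : P n' c' := by
  subst hn; subst hc; exact h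

theorem P_zero : P 0 1 := by
  refine ⟨⊥, IsMulCommutative.of_setLike_mul_comm ?_, Subgroup.card_bot⟩
  intro a ha b hb
  rw [Subgroup.mem_bot] at ha hb
  rw [ha, hb]

theorem P_two : P 2 2 := by
  refine ⟨Subgroup.zpowers (finRotate 2), inferInstance, ?_⟩
  rw [Nat.card_zpowers]
  exact orderOf_eq_prime (by decide) (by decide)

theorem P_three : P 3 3 := by
  refine ⟨Subgroup.zpowers (finRotate 3), inferInstance, ?_⟩
  rw [Nat.card_zpowers]
  haveI : Fact (Nat.Prime 3) := ⟨Nat.prime_three⟩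
  exact orderOf_eq_prime (by decide) (by decide)

theorem P_four : P 4 4 := by
  refine ⟨Subgroup.zpowers (finRotate 4), inferInstance, ?_⟩
  rw [Nat.card_zpowers]
  have := orderOf_eq_prime_pow (x := finRotate 4) (p := 2) (n := 1) (by decide) (by decide)
  simpa using this

theorem P_three_mul (k : ℕ) : P (3 * k) (3 ^ k) := by
  induction k with
  | zero => exact P_zero
  | succ k ih => exact P_cast (by ring) (by ring) (P_add ih P_three)


theorem S2505_main (k : ℕ) (hk : 1 ≤ k) :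
    IsGreatest {c : ℕ | ∃ A : Subgroup (Equiv.Perm (Fin (3 * k))), IsMulCommutative A ∧ Nat.card A = c} (3 ^ k) ∧
    IsGreatest {c : ℕ | ∃ A : Subgroup (Equiv.Perm (Fin (3 * k + 1))), IsMulCommutative A ∧ Nat.card A = c}
      (4 * 3 ^ (k - 1)) ∧
    IsGreatest {c : ℕ | ∃ A : Subgroup (Equiv.Perm (Fin (3 * k + 2))), IsMulCommutative A ∧ Nat.card A = c}
      (2 * 3 ^ k) := by
  obtain ⟨j, rfl⟩ : ∃ j, k = j + 1 := ⟨k - 1, by omega⟩
  have ub : ∀ n (A : Subgroup (Equiv.Perm (Fin n))), IsMulCommutative A → Nat.card A ≤ f n := by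
    intro n A hA
    have := card_le_f A (fun a ha b hb => congrArg Subtype.val (mul_comm' (⟨a, ha⟩ : A) ⟨b, hb⟩))
    simpa using this
  have e1 : f (3 * (j + 1) + 1) = 4 * 3 ^ j := by
    rw [show 3 * (j + 1) + 1 = 3 * j + 4 by ring]; exact (f_three_mul j).2.2
  rw [Nat.add_sub_cancel]
  refine ⟨⟨P_three_mul _, ?_⟩, ⟨?_, ?_⟩, ⟨?_, ?_⟩⟩
  · rintro c ⟨A, hA, rfl⟩
    rw [← (f_three_mul (j + 1)).1]; exact ub _ A hA
  · exact P_cast (by ring) (by ring) (P_add (P_three_mul j) P_four)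
  · rintro c ⟨A, hA, rfl⟩
    rw [← e1]; exact ub _ A hA
  · exact P_cast (by ring) (by ring) (P_add (P_three_mul (j + 1)) P_two)
  · rintro c ⟨A, hA, rfl⟩
    rw [← (f_three_mul (j + 1)).2.1]; exact ub _ A hA



end Cfsg.Agent.Lib.Helper4_AbelPerm
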