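import Mathlib
import Cfsg.Agent.Lib.Helper4_AbelPerm

set_option linter.all false
set_option autoImplicit false

namespace Cfsg.Agent.Lib.Helper4_AbelAlt
open Cfsg.Agent.Lib.Helper4_AbelPerm



/-- the maximal product of a partition of `n` with no part congruent to 2 mod 4 -/
def f₂ : ℕ → ℕ
  | 0 => 1
  | 1 => 1
  | 2 => 1
  | 3 => 3
  | 4 => 4
  | 5 => 5
  | 6 => 9
  | 7 => 12
  | 8 => 16
  | (n + 9) => 3 * f₂ (n + 6)

theorem f₂_add_nine (n : ℕ) : f₂ (n + 9) = 3 * f₂ (n + 6) := rfl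

theorem f₂_facts (n : ℕ) : f₂ n ≤ f₂ (n + 1) ∧ 3 * f₂ n ≤ f₂ (n + 3) ∧ 4 * f₂ n ≤ f₂ (n + 4) ∧
    5 * f₂ n ≤ f₂ (n + 5) ∧ 0 < f₂ n := by
  induction n using Nat.strong_induction_on with
  | _ n ih =>
    match n, ih with
    | 0, _ => decide
    | 1, _ => decide
    | 2, _ => decide
    | 3, _ => decide
    | 4, _ => decide
    | 5, _ => decide
    | 6, _ => decide
    | 7, _ => decide
    | 8, _ => decide
    | (n + 9), ih =>
      obtain ⟨h1, h3, h4, h5, h0⟩ := ih (n + 6) (by omega)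
      have h1 : f₂ (n + 6) ≤ f₂ (n + 7) := h1
      have h3 : 3 * f₂ (n + 6) ≤ f₂ (n + 9) := h3
      have h4 : 4 * f₂ (n + 6) ≤ f₂ (n + 10) := h4
      have h5 : 5 * f₂ (n + 6) ≤ f₂ (n + 11) := h5
      have e1 : f₂ (n + 9 + 1) = 3 * f₂ (n + 7) := f₂_add_nine (n + 1)
      have e3 : f₂ (n + 9 + 3) = 3 * f₂ (n + 9) := f₂_add_nine (n + 3)
      have e4 : f₂ (n + 9 + 4) = 3 * f₂ (n + 10) := f₂_add_nine (n + 4)
      have e5 : f₂ (n + 9 + 5) = 3 * f₂ (n + 11) := f₂_add_nine (n + 5)
      rw [e1, e3, e4, e5, f₂_add_nine]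
      refine ⟨by omega, by omega, by omega, by omega, by omega⟩

theorem mul_f₂_le_big (m n : ℕ) (hm : 6 ≤ m) : m * f₂ n ≤ f₂ (n + m) := by
  induction m using Nat.strong_induction_on generalizing n with
  | _ m ih =>
    have h3 : ∀ s, 3 * f₂ s ≤ f₂ (s + 3) := fun s => (f₂_facts s).2.1
    have h4 : ∀ s, 4 * f₂ s ≤ f₂ (s + 4) := fun s => (f₂_facts s).2.2.1
    match m, ih, hm with
    | 6, _, _ =>
      have a1 := h3 n
      have a2 := h3 (n + 3)
      have : n + 3 + 3 = n + 6 := by ring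
      rw [this] at a2
      omega
    | 7, _, _ =>
      have a1 := h4 n
      have a2 := h3 (n + 4)
      have : n + 4 + 3 = n + 7 := by ring
      rw [this] at a2
      omega
    | 8, _, _ =>
      have a1 := h4 n
      have a2 := h4 (n + 4)
      have : n + 4 + 4 = n + 8 := by ring
      rw [this] at a2
      omega
    | (m + 9), ih, _ =>
      have a1 := ih (m + 6) (by omega) n (by omega)
      have a2 := h3 (n + (m + 6))
      have : n + (m + 6) + 3 = n + (m + 9) := by ring
      rw [this] at a2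
      have a3 : (m + 9) * f₂ n ≤ 3 * ((m + 6) * f₂ n) := by
        have : m + 9 ≤ 3 * (m + 6) := by omega
        calc (m + 9) * f₂ n ≤ (3 * (m + 6)) * f₂ n := Nat.mul_le_mul_right _ this
          _ = 3 * ((m + 6) * f₂ n) := by ring
      omega

theorem mul_f₂_le (m n : ℕ) (hm : m % 4 ≠ 2) : m * f₂ n ≤ f₂ (n + m) := by
  by_cases h6 : 6 ≤ m
  · exact mul_f₂_le_big m n h6
  · have hf := f₂_facts n
    interval_cases m
    · simp
    · simpa using hf.1
    · exact absurd rfl hm
    · exact hf.2.1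
    · exact hf.2.2.1
    · exact hf.2.2.2.1

theorem prod_le_f₂ {ι : Type*} (s : Finset ι) (m : ι → ℕ) (hm : ∀ i ∈ s, m i % 4 ≠ 2) :
    ∏ i ∈ s, m i ≤ f₂ (∑ i ∈ s, m i) := by
  classical
  induction s using Finset.induction_on with
  | empty => simp [f₂]
  | insert a s ha ih =>
    rw [Finset.prod_insert ha, Finset.sum_insert ha]
    have ih' := ih (fun i hi => hm i (Finset.mem_insert_of_mem hi))
    calc m a * ∏ i ∈ s, m i ≤ m a * f₂ (∑ i ∈ s, m i) := Nat.mul_le_mul_left _ ih'
      _ ≤ f₂ (∑ i ∈ s, m i + m a) := mul_f₂_le _ _ (hm a (Finset.mem_insert_self _ _))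
      _ = f₂ (m a + ∑ i ∈ s, m i) := by rw [add_comm]

theorem f₂_closed (j : ℕ) : f₂ (3 * j + 8) = 16 * 3 ^ j := by
  induction j with
  | zero => decide
  | succ j ih =>
    have e : 3 * (j + 1) + 8 = (3 * j + 2) + 9 := by ring
    rw [e, f₂_add_nine]
    have e2 : 3 * j + 2 + 6 = 3 * j + 8 := by ring
    rw [e2, ih]; ring




/-- an odd involution commuting with an abelian permutation group having an orbit of
size 2 mod 4 -/
theorem exists_odd_commuting {α : Type*} [Fintype α] [DecidableEq α] (A : Subgroup (Equiv.Perm α))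
    (hA : ∀ a ∈ A, ∀ b ∈ A, a * b = b * a) (x₀ : α)
    (h : Nat.card (MulAction.orbit A x₀) % 4 = 2) :
    ∃ t : Equiv.Perm α, (∀ b ∈ A, t * b = b * t) ∧ Equiv.Perm.sign t = -1 := by
  classical
  haveI : Fact (Nat.Prime 2) := ⟨Nat.prime_two⟩
  letI : CommGroup A := { (inferInstance : Group A) with
    mul_comm := fun a b => Subtype.ext (hA _ a.2 _ b.2) }
  set O : Set α := MulAction.orbit A x₀ with hO
  let S : Subgroup A := MulAction.stabilizer A x₀
  have hidx : S.index = Nat.card O := by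
    rw [MulAction.index_stabilizer, Nat.card_coe_set_eq]
  have h2 : 2 ∣ Nat.card (A ⧸ S) := by
    rw [← Subgroup.index_eq_card, hidx]
    omega
  obtain ⟨q, hq⟩ := exists_prime_orderOf_dvd_card' 2 h2
  obtain ⟨a, rfl⟩ := QuotientGroup.mk_surjective q
  have ha1 : a • x₀ ≠ x₀ := by
    intro hfix
    have : a ∈ S := MulAction.mem_stabilizer_iff.mpr hfix
    have h1 : (QuotientGroup.mk a : A ⧸ S) = 1 := (QuotientGroup.eq_one_iff a).mpr this
    rw [h1, orderOf_one] at hq
    omega
  have ha2 : a • a • x₀ = x₀ := by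
    have h1 : (QuotientGroup.mk a : A ⧸ S) ^ 2 = 1 := by rw [← hq]; exact pow_orderOf_eq_one _
    rw [← QuotientGroup.mk_pow, QuotientGroup.eq_one_iff] at h1
    have := MulAction.mem_stabilizer_iff.mp h1
    rw [pow_two, mul_smul] at this
    exact this
  -- facts about points of the orbit
  have hmemO : ∀ y, y ∈ O ↔ ∃ g : A, g • x₀ = y := fun y => MulAction.mem_orbit_iff
  have hinv : ∀ (b : A) (y : α), y ∈ O → b • y ∈ O := by
    intro b y hy
    obtain ⟨g, rfl⟩ := (hmemO y).mp hy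
    exact (hmemO _).mpr ⟨b * g, mul_smul _ _ _⟩
  have hinv' : ∀ (b : A) (y : α), b • y ∈ O → y ∈ O := by
    intro b y hy
    have := hinv b⁻¹ _ hy
    rwa [inv_smul_smul] at this
  have hne : ∀ y ∈ O, a • y ≠ y := by
    intro y hy
    obtain ⟨g, rfl⟩ := (hmemO y).mp hy
    rw [smul_smul, mul_comm, mul_smul]
    intro hcon
    exact ha1 (smul_left_cancel g hcon)
  have hsq : ∀ y ∈ O, a • a • y = y := by
    intro y hy
    obtain ⟨g, rfl⟩ := (hmemO y).mp hy
    rw [smul_smul, smul_smul, mul_comm (a * a) g, mul_smul, mul_smul, ha2]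
  -- the involution
  let τ : α → α := fun y => if y ∈ O then a • y else y
  have hτO : ∀ y ∈ O, τ y = a • y := fun y hy => if_pos hy
  have hτN : ∀ y, y ∉ O → τ y = y := fun y hy => if_neg hy
  have hτ : Function.Involutive τ := by
    intro y
    by_cases hy : y ∈ O
    · rw [hτO y hy, hτO _ (hinv a y hy), hsq y hy]
    · rw [hτN y hy, hτN y hy]
  let t : Equiv.Perm α := hτ.toPerm τ
  have ht : ∀ y, t y = τ y := fun y => rfl
  refine ⟨t, ?_, ?_⟩
  · intro b hb
    ext y
    rw [Equiv.Perm.mul_apply, Equiv.Perm.mul_apply, ht, ht]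
    have hby : b y = (⟨b, hb⟩ : A) • y := rfl
    by_cases hy : y ∈ O
    · have hby' : b y ∈ O := by rw [hby]; exact hinv _ y hy
      rw [hτO y hy, hτO _ hby', hby]
      show a • (⟨b, hb⟩ : A) • y = b (a • y)
      rw [smul_smul, mul_comm, mul_smul]
      rfl
    · have hby' : b y ∉ O := by
        rw [hby]
        intro hcon
        exact hy (hinv' _ y hcon)
      rw [hτN y hy, hτN _ hby']
  · have hx₀ : x₀ ∈ O := MulAction.mem_orbit_self x₀
    have ht1 : t ≠ 1 := by
      intro h1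
      have := congrArg (fun σ : Equiv.Perm α => σ x₀) h1
      simp only [Equiv.Perm.one_apply] at this
      rw [ht, hτO x₀ hx₀] at this
      exact ha1 this
    have ht2 : t ^ 2 = 1 := by
      ext y
      rw [pow_two, Equiv.Perm.mul_apply, ht, ht, hτ y]
      rfl
    have hord : orderOf t = 2 := orderOf_eq_prime ht2 ht1
    obtain ⟨n, hn⟩ := Equiv.Perm.cycleType_prime_order (σ := t) (by rw [hord]; exact Nat.prime_two)
    rw [hord] at hn
    have hsupp : t.support.card = Nat.card O := by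
      have : t.support = O.toFinset := by
        ext y
        rw [Equiv.Perm.mem_support, Set.mem_toFinset, ht]
        constructor
        · intro hne'
          by_contra hy
          exact hne' (hτN y hy)
        · intro hy
          rw [hτO y hy]
          exact hne y hy
      rw [this, Set.toFinset_card, Nat.card_eq_fintype_card]
    have hsum := Equiv.Perm.sum_cycleType t
    rw [hn, hsupp, Multiset.sum_replicate, smul_eq_mul] at hsum
    rw [Equiv.Perm.sign_of_cycleType, hn, Multiset.sum_replicate, Multiset.card_replicate,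
      smul_eq_mul]
    apply Odd.neg_one_pow
    have : (n + 1) % 2 = 1 := by omega
    rw [Nat.odd_iff]
    omega


/-- an abelian permutation group has order at most the product of its orbit lengths -/
theorem card_le_prod_orbits {α : Type*} [Fintype α] [DecidableEq α] (A : Subgroup (Equiv.Perm α))
    (hA : ∀ a ∈ A, ∀ b ∈ A, a * b = b * a) [Fintype (MulAction.orbitRel.Quotient A α)] :
    Nat.card A ≤ ∏ ω : MulAction.orbitRel.Quotient A α, Nat.card (MulAction.orbit A ω.out) ∧
    Fintype.card α = ∑ ω : MulAction.orbitRel.Quotient A α, Nat.card (MulAction.orbit A ω.out) := by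
  classical
  let Ω := MulAction.orbitRel.Quotient A α
  let Φ : A → ∀ ω : Ω, MulAction.orbit A ω.out := fun a ω => ⟨a • ω.out, MulAction.mem_orbit _ _⟩
  have hinj : Function.Injective Φ := by
    intro a b hab
    apply Subtype.ext
    apply Equiv.ext
    intro x
    have hx : (Quotient.mk'' x : Ω).out ∈ MulAction.orbit A x := by
      have h1 : (Quotient.mk'' (Quotient.mk'' x : Ω).out : Ω) = Quotient.mk'' x := Quotient.out_eq' _
      have h2 := Quotient.exact' h1
      exact h2
    obtain ⟨g, hg⟩ := hx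
    have hx' : x = g⁻¹ • (Quotient.mk'' x : Ω).out := by
      rw [← hg, inv_smul_smul]
    have h3 := congrArg (fun φ => ((φ (Quotient.mk'' x : Ω)) : α)) hab
    simp only [Φ] at h3
    have hc : ∀ c : A, (c : Equiv.Perm α) x = g⁻¹ • (c • (Quotient.mk'' x : Ω).out) := by
      intro c
      have : (c : Equiv.Perm α) x = c • x := rfl
      rw [this]
      conv_lhs => rw [hx']
      rw [smul_smul, smul_smul]
      congr 1
      apply Subtype.ext
      exact hA _ c.2 _ (g⁻¹).2
    rw [hc a, hc b, h3]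
  have h1 := Nat.card_le_card_of_injective Φ hinj
  rw [Nat.card_pi] at h1
  have h2 : Nat.card α = ∑ ω : Ω, Nat.card (MulAction.orbit A ω.out) := by
    rw [Nat.card_congr (MulAction.selfEquivSigmaOrbits A α), Nat.card_sigma]
  rw [← Nat.card_eq_fintype_card]
  exact ⟨h1, h2⟩

theorem card_le_alt {α : Type*} [Fintype α] [DecidableEq α] (A : Subgroup (Equiv.Perm α))
    (hA : ∀ a ∈ A, ∀ b ∈ A, a * b = b * a) (hev : A ≤ alternatingGroup α) :
    Nat.card A ≤ f₂ (Fintype.card α) ∨ 2 * Nat.card A ≤ f (Fintype.card α) := by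
  classical
  haveI : Fintype (MulAction.orbitRel.Quotient A α) := Fintype.ofFinite _
  obtain ⟨h1, h2⟩ := card_le_prod_orbits A hA
  by_cases hall : ∀ ω : MulAction.orbitRel.Quotient A α, Nat.card (MulAction.orbit A ω.out) % 4 ≠ 2
  · left
    rw [h2]
    exact h1.trans (prod_le_f₂ _ _ (fun i _ => hall i))
  · right
    push Not at hall
    obtain ⟨ω, hω⟩ := hall
    obtain ⟨t, htc, hts⟩ := exists_odd_commuting A hA ω.out hω
    have htA : t ∉ A := by
      intro hcon
      have := hev hcon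
      rw [Equiv.Perm.mem_alternatingGroup, hts] at this
      exact absurd this (by decide)
    let A' : Subgroup (Equiv.Perm α) := Subgroup.closure ((A : Set (Equiv.Perm α)) ∪ {t})
    have hcomm : ∀ x ∈ ((A : Set (Equiv.Perm α)) ∪ {t}), ∀ y ∈ ((A : Set (Equiv.Perm α)) ∪ {t}),
        x * y = y * x := by
      rintro x (hx | hx) y (hy | hy)
      · exact hA x hx y hy
      · rw [Set.mem_singleton_iff] at hy
        rw [hy]; exact (htc x hx).symm
      · rw [Set.mem_singleton_iff] at hx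
        rw [hx]; exact htc y hy
      · rw [Set.mem_singleton_iff] at hx hy
        rw [hx, hy]
    haveI hA'c : IsMulCommutative A' := Subgroup.isMulCommutative_closure hcomm
    have hA' := card_le_f A' (fun a ha b hb => congrArg Subtype.val (mul_comm' (⟨a, ha⟩ : A') ⟨b, hb⟩))
    have hle : A ≤ A' := fun x hx => Subgroup.subset_closure (Or.inl hx)
    have htA' : t ∈ A' := Subgroup.subset_closure (Or.inr rfl)
    have hdvd : Nat.card A ∣ Nat.card A' := Subgroup.card_dvd_of_le hle
    have hne : Nat.card A ≠ Nat.card A' := by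
      intro heq
      have := Subgroup.eq_of_le_of_card_ge hle (le_of_eq heq.symm)
      rw [this] at htA
      exact htA htA'
    obtain ⟨m, hm⟩ := hdvd
    have hpos : 0 < Nat.card A := Nat.card_pos
    have hm2 : 2 ≤ m := by
      rcases m with _ | _ | m
      · rw [hm] at hA'
        have : 0 < Nat.card A' := Nat.card_pos
        omega
      · omega
      · omega
    calc 2 * Nat.card A ≤ m * Nat.card A := Nat.mul_le_mul_right _ hm2
      _ = Nat.card A' := by rw [hm, mul_comm]
      _ ≤ _ := hA'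




def PA (n c : ℕ) : Prop :=
  ∃ A : Subgroup (Equiv.Perm (Fin n)), IsMulCommutative A ∧ A ≤ alternatingGroup (Fin n) ∧
    Nat.card A = c

theorem PA_add {n m c d : ℕ} (h1 : PA n c) (h2 : PA m d) : PA (n + m) (c * d) := by
  obtain ⟨A, hA, hAe, hAc⟩ := h1
  obtain ⟨B, hB, hBe, hBc⟩ := h2
  let φ := Equiv.Perm.sumCongrHom (Fin n) (Fin m)
  let ψ : Equiv.Perm (Fin n ⊕ Fin m) ≃* Equiv.Perm (Fin (n + m)) := finSumFinEquiv.permCongrHom
  let θ : Equiv.Perm (Fin n) × Equiv.Perm (Fin m) →* Equiv.Perm (Fin (n + m)) :=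
    ψ.toMonoidHom.comp φ
  have hθ : Function.Injective θ := ψ.injective.comp Equiv.Perm.sumCongrHom_injective
  haveI : IsMulCommutative (A.prod B) := IsMulCommutative.of_setLike_mul_comm (by
    rintro ⟨a1, b1⟩ ⟨ha1, hb1⟩ ⟨a2, b2⟩ ⟨ha2, hb2⟩
    have e1 : a1 * a2 = a2 * a1 := congrArg Subtype.val (mul_comm' (⟨a1, ha1⟩ : A) ⟨a2, ha2⟩)
    have e2 : b1 * b2 = b2 * b1 := congrArg Subtype.val (mul_comm' (⟨b1, hb1⟩ : B) ⟨b2, hb2⟩)
    exact Prod.ext e1 e2)
  refine ⟨(A.prod B).map θ, inferInstance, ?_, ?_⟩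
  · rintro x ⟨⟨a, b⟩, ⟨ha, hb⟩, rfl⟩
    rw [Equiv.Perm.mem_alternatingGroup]
    have ha' := Equiv.Perm.mem_alternatingGroup.mp (hAe ha)
    have hb' := Equiv.Perm.mem_alternatingGroup.mp (hBe hb)
    show Equiv.Perm.sign (finSumFinEquiv.permCongr (Equiv.sumCongr a b)) = 1
    rw [Equiv.Perm.sign_permCongr, Equiv.Perm.sign_sumCongr, ha', hb', one_mul]
  · rw [Subgroup.card_map_of_injective hθ, Nat.card_congr (Subgroup.prodEquiv A B).toEquiv,
      Nat.card_prod, hAc, hBc]

theorem PA_cast {n n' c c' : ℕ} (hn : n = n') (hc : c = c') (h : PA n c) : PA n' c' := by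
  subst hn; subst hc; exact h

theorem PA_zero : PA 0 1 := by
  refine ⟨⊥, IsMulCommutative.of_setLike_mul_comm ?_, bot_le, Subgroup.card_bot⟩
  intro a ha b hb
  rw [Subgroup.mem_bot] at ha hb
  rw [ha, hb]

theorem PA_three : PA 3 3 := by
  refine ⟨Subgroup.zpowers (finRotate 3), inferInstance, ?_, ?_⟩
  · rw [Subgroup.zpowers_le, Equiv.Perm.mem_alternatingGroup]
    decide
  · rw [Nat.card_zpowers]
    haveI : Fact (Nat.Prime 3) := ⟨Nat.prime_three⟩
    exact orderOf_eq_prime (by decide) (by decide)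

/-- the Klein four group -/
def V4 : Subgroup (Equiv.Perm (Fin 4)) where
  carrier := {σ | σ ∈ ({1, Equiv.swap 0 1 * Equiv.swap 2 3, Equiv.swap 0 2 * Equiv.swap 1 3,
    Equiv.swap 0 3 * Equiv.swap 1 2} : Finset (Equiv.Perm (Fin 4)))}
  mul_mem' := by
    intro x y hx hy
    simp only [Set.mem_setOf_eq, Finset.mem_insert, Finset.mem_singleton] at hx hy ⊢
    rcases hx with rfl | rfl | rfl | rfl <;> rcases hy with rfl | rfl | rfl | rfl <;> decide
  one_mem' := by simp
  inv_mem' := by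
    intro x hx
    simp only [Set.mem_setOf_eq, Finset.mem_insert, Finset.mem_singleton] at hx ⊢
    rcases hx with rfl | rfl | rfl | rfl <;> decide

theorem PA_four : PA 4 4 := by
  refine ⟨V4, IsMulCommutative.of_setLike_mul_comm ?_, ?_, ?_⟩
  · intro x hx y hy
    change x ∈ ({1, Equiv.swap 0 1 * Equiv.swap 2 3, Equiv.swap 0 2 * Equiv.swap 1 3,
      Equiv.swap 0 3 * Equiv.swap 1 2} : Finset (Equiv.Perm (Fin 4))) at hx
    change y ∈ ({1, Equiv.swap 0 1 * Equiv.swap 2 3, Equiv.swap 0 2 * Equiv.swap 1 3,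
      Equiv.swap 0 3 * Equiv.swap 1 2} : Finset (Equiv.Perm (Fin 4))) at hy
    simp only [Finset.mem_insert, Finset.mem_singleton] at hx hy
    rcases hx with rfl | rfl | rfl | rfl <;> rcases hy with rfl | rfl | rfl | rfl <;> decide
  · intro x hx
    change x ∈ ({1, Equiv.swap 0 1 * Equiv.swap 2 3, Equiv.swap 0 2 * Equiv.swap 1 3,
      Equiv.swap 0 3 * Equiv.swap 1 2} : Finset (Equiv.Perm (Fin 4))) at hx
    simp only [Finset.mem_insert, Finset.mem_singleton] at hx
    rw [Equiv.Perm.mem_alternatingGroup]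
    rcases hx with rfl | rfl | rfl | rfl <;> decide
  · have : Nat.card V4 = Nat.card ({1, Equiv.swap 0 1 * Equiv.swap 2 3,
        Equiv.swap 0 2 * Equiv.swap 1 3, Equiv.swap 0 3 * Equiv.swap 1 2} :
        Finset (Equiv.Perm (Fin 4))) := rfl
    rw [this, Nat.card_eq_fintype_card, Fintype.card_coe]
    decide

theorem PA_three_mul (k : ℕ) : PA (3 * k) (3 ^ k) := by
  induction k with
  | zero => exact PA_zero
  | succ k ih => exact PA_cast (by ring) (by ring) (PA_add ih PA_three)


/-- from a subgroup of the alternating group to a subgroup of the symmetric group -/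
theorem alt_to_perm {n : ℕ} (A : Subgroup (alternatingGroup (Fin n))) (hA : IsMulCommutative A) :
    ∃ B : Subgroup (Equiv.Perm (Fin n)), (∀ a ∈ B, ∀ b ∈ B, a * b = b * a) ∧
      B ≤ alternatingGroup (Fin n) ∧ Nat.card B = Nat.card A := by
  refine ⟨A.map (alternatingGroup (Fin n)).subtype, ?_, Subgroup.map_subtype_le A, ?_⟩
  · intro a ha b hb
    haveI : IsMulCommutative (A.map (alternatingGroup (Fin n)).subtype) := inferInstance
    exact congrArg Subtype.val
      (mul_comm' (⟨a, ha⟩ : A.map (alternatingGroup (Fin n)).subtype) ⟨b, hb⟩)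
  · exact Subgroup.card_map_of_injective (Subgroup.subtype_injective _)

theorem perm_to_alt {n c : ℕ} (h : PA n c) :
    ∃ A : Subgroup (alternatingGroup (Fin n)), IsMulCommutative A ∧ Nat.card A = c := by
  obtain ⟨B, hB, hBe, hBc⟩ := h
  refine ⟨B.subgroupOf (alternatingGroup (Fin n)), inferInstance, ?_⟩
  rw [Nat.card_congr (Subgroup.subgroupOfEquivOfLe hBe).toEquiv, hBc]

theorem S2504_main (k : ℕ) (hk : 2 ≤ k) :
    IsGreatest {c : ℕ | ∃ A : Subgroup (alternatingGroup (Fin (3 * k))), IsMulCommutative A ∧ Nat.card A = c} (3 ^ k) ∧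
    IsGreatest {c : ℕ | ∃ A : Subgroup (alternatingGroup (Fin (3 * k + 1))), IsMulCommutative A ∧ Nat.card A = c}
      (4 * 3 ^ (k - 1)) ∧
    IsGreatest {c : ℕ | ∃ A : Subgroup (alternatingGroup (Fin (3 * k + 2))), IsMulCommutative A ∧ Nat.card A = c}
      (16 * 3 ^ (k - 2)) := by
  obtain ⟨j, rfl⟩ : ∃ j, k = j + 2 := ⟨k - 2, by omega⟩
  have e1 : f (3 * (j + 2) + 1) = 4 * 3 ^ (j + 1) := by
    rw [show 3 * (j + 2) + 1 = 3 * (j + 1) + 4 by ring]; exact (f_three_mul (j + 1)).2.2
  have e2 : f₂ (3 * (j + 2) + 2) = 16 * 3 ^ j := by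
    rw [show 3 * (j + 2) + 2 = 3 * j + 8 by ring]; exact f₂_closed j
  have e3 : f (3 * (j + 2) + 2) = 2 * 3 ^ (j + 2) := (f_three_mul (j + 2)).2.1
  have s1 : j + 2 - 1 = j + 1 := by omega
  have s2 : j + 2 - 2 = j := by omega
  rw [s1, s2]
  refine ⟨⟨perm_to_alt (PA_three_mul _), ?_⟩, ⟨perm_to_alt ?_, ?_⟩, ⟨perm_to_alt ?_, ?_⟩⟩
  · rintro c ⟨A, hA, rfl⟩
    obtain ⟨B, hB, hBe, hBc⟩ := alt_to_perm A hA
    rw [← hBc, ← (f_three_mul (j + 2)).1]
    simpa using card_le_f B hB
  · exact PA_cast (by ring) (by ring) (PA_add (PA_three_mul (j + 1)) PA_four)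
  · rintro c ⟨A, hA, rfl⟩
    obtain ⟨B, hB, hBe, hBc⟩ := alt_to_perm A hA
    rw [← hBc, ← e1]
    simpa using card_le_f B hB
  · exact PA_cast (by ring) (by ring) (PA_add (PA_add (PA_three_mul j) PA_four) PA_four)
  · rintro c ⟨A, hA, rfl⟩
    obtain ⟨B, hB, hBe, hBc⟩ := alt_to_perm A hA
    rw [← hBc]
    have := card_le_alt B hB hBe
    rw [Fintype.card_fin, e2, e3] at this
    rcases this with h | h
    · exact h
    · have : 3 ^ (j + 2) = 9 * 3 ^ j := by ring
      have hpos : 0 < 3 ^ j := Nat.pos_of_ne_zero (by positivity)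
      omega



end Cfsg.Agent.Lib.Helper4_AbelAlt
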