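import Mathlib

namespace Cfsg.Agent.Lib.Helper4_AltCent

open MulAction

theorem card_subgroup_le (H : Type*) [Group H] [Fintype H] [Fintype (Subgroup H)] :
    Fintype.card (Subgroup H) ≤ 2 ^ Fintype.card H := by
  classical
  rw [← Fintype.card_set]
  exact Fintype.card_le_of_injective (fun S : Subgroup H => (S : Set H)) SetLike.coe_injective

theorem exists_points {H X : Type*} [Group H] [Fintype H] [Fintype X] [DecidableEq X] [MulAction H X]
    (r : ℕ) (hX : 2 ^ Fintype.card H * Fintype.card H * r < Fintype.card X) :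
    ∃ (S : Subgroup H) (x : Fin r → X), (∀ i, MulAction.stabilizer H (x i) = S) ∧
      (∀ i j, (∃ h : H, h • x i = x j) → i = j) := by
  classical
  haveI : Fintype (Subgroup H) := Fintype.ofFinite _
  have hsub := card_subgroup_le H
  have hn : Fintype.card (Subgroup H) * (Fintype.card H * r) < Fintype.card X := by
    calc Fintype.card (Subgroup H) * (Fintype.card H * r) ≤ 2 ^ Fintype.card H * (Fintype.card H * r) :=
          Nat.mul_le_mul_right _ hsub
      _ = 2 ^ Fintype.card H * Fintype.card H * r := by ring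
      _ < Fintype.card X := hX
  obtain ⟨S, hS⟩ := Fintype.exists_lt_card_fiber_of_mul_lt_card
    (f := fun x : X => MulAction.stabilizer H x) hn
  set XS : Finset X := Finset.univ.filter (fun x => MulAction.stabilizer H x = S) with hXS
  let o : X → Quotient (MulAction.orbitRel H X) := fun x => Quotient.mk'' x
  set T := XS.image o with hT
  have hfib : ∀ b ∈ T, (XS.filter (fun x => o x = b)).card ≤ Fintype.card H := by
    intro b hb
    obtain ⟨x₀, -, rfl⟩ := Finset.mem_image.mp hb
    have hsubset : XS.filter (fun x => o x = o x₀) ⊆ Finset.univ.image (fun h : H => h • x₀) := by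
      intro x hx
      rw [Finset.mem_filter] at hx
      have h1 : (MulAction.orbitRel H X) x x₀ := Quotient.exact' hx.2
      rw [MulAction.orbitRel_apply] at h1
      obtain ⟨h, hh⟩ := h1
      exact Finset.mem_image.mpr ⟨h, Finset.mem_univ _, hh⟩
    calc (XS.filter (fun x => o x = o x₀)).card ≤ (Finset.univ.image (fun h : H => h • x₀)).card :=
          Finset.card_le_card hsubset
      _ ≤ Finset.univ.card := Finset.card_image_le
      _ = Fintype.card H := Finset.card_univ
  have h1 := Finset.card_le_mul_card_image XS (Fintype.card H) hfib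
  have hr : r < T.card := by
    have : Fintype.card H * r < Fintype.card H * T.card := lt_of_lt_of_le hS h1
    exact Nat.lt_of_mul_lt_mul_left this
  have hc : Fintype.card (Fin r) ≤ Fintype.card T := by
    rw [Fintype.card_fin, Fintype.card_coe]; omega
  obtain ⟨e⟩ := Function.Embedding.nonempty_of_card_le hc
  have hpt : ∀ t : T, ∃ x ∈ XS, o x = t.1 := fun t => Finset.mem_image.mp t.2
  choose pt hptS hpto using hpt
  refine ⟨S, fun i => pt (e i), ?_, ?_⟩
  · intro i
    have := hptS (e i)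
    rw [hXS, Finset.mem_filter] at this
    exact this.2
  · rintro i j ⟨h, hh⟩
    apply e.injective
    apply Subtype.ext
    rw [← hpto (e i), ← hpto (e j)]
    apply Quotient.sound'
    rw [MulAction.orbitRel_apply]
    have hh' : h • pt (e i) = pt (e j) := hh
    exact ⟨h⁻¹, by show h⁻¹ • pt (e j) = pt (e i); rw [← hh', inv_smul_smul]⟩

theorem exists_theta {H X : Type*} [Group H] [Fintype H] [Fintype X] [DecidableEq X] [MulAction H X]
    (r : ℕ) (S : Subgroup H) (x : Fin r → X) (hS : ∀ i, MulAction.stabilizer H (x i) = S)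
    (hdist : ∀ i j, (∃ h : H, h • x i = x j) → i = j) :
    ∃ Θ : Equiv.Perm (Fin r) →* Equiv.Perm X, Function.Injective Θ ∧
      (∀ σ (h : H) (y : X), Θ σ (h • y) = h • Θ σ y) ∧
      (∀ σ, Equiv.Perm.sign σ = 1 → Equiv.Perm.sign (Θ σ) = 1) := by
  classical
  haveI : Fintype (H ⧸ S) := Fintype.ofFinite _
  let φ : (H ⧸ S) × Fin r → X := fun p => (Quotient.out p.1 : H) • x p.2
  have key1 : ∀ (h : H) (i : Fin r),
      (Quotient.out (QuotientGroup.mk h : H ⧸ S) : H) • x i = h • x i := by
    intro h i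
    obtain ⟨s, hs⟩ := QuotientGroup.mk_out_eq_mul S h
    rw [hs, mul_smul]
    congr 1
    have : (s : H) ∈ MulAction.stabilizer H (x i) := by rw [hS i]; exact s.2
    exact this
  have hφ : Function.Injective φ := by
    rintro ⟨q, i⟩ ⟨q', j⟩ h
    have h' : (Quotient.out q : H) • x i = (Quotient.out q' : H) • x j := h
    have h1 : ((Quotient.out q' : H)⁻¹ * (Quotient.out q : H)) • x i = x j := by
      rw [mul_smul, h', inv_smul_smul]
    have hij : i = j := hdist i j ⟨_, h1⟩
    subst hij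
    have h2 : (Quotient.out q' : H)⁻¹ * (Quotient.out q : H) ∈ S := by
      have h2' : (Quotient.out q' : H)⁻¹ * (Quotient.out q : H) ∈ MulAction.stabilizer H (x i) := h1
      rw [hS i] at h2'
      exact h2'
    have h3 : q' = q := by
      rw [← QuotientGroup.out_eq' q', ← QuotientGroup.out_eq' q, QuotientGroup.eq]
      exact h2
    rw [h3]
  let f : (H ⧸ S) × Fin r ≃ {y : X // y ∈ Set.range φ} := Equiv.ofInjective φ hφ
  have hf : ∀ p, ((f p : {y : X // y ∈ Set.range φ}) : X) = φ p := fun p => rfl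
  let hom1 : Equiv.Perm (Fin r) →* Equiv.Perm ((H ⧸ S) × Fin r) :=
    { toFun := fun σ => Equiv.prodCongrRight (fun _ : H ⧸ S => σ)
      map_one' := by ext ⟨q, i⟩ <;> rfl
      map_mul' := by intro σ τ; ext ⟨q, i⟩ <;> rfl }
  have hom1_apply : ∀ σ q i, hom1 σ (q, i) = (q, σ i) := fun σ q i => rfl
  let Θ : Equiv.Perm (Fin r) →* Equiv.Perm X := (Equiv.Perm.extendDomainHom f).comp hom1
  have hΘ : ∀ σ, Θ σ = (hom1 σ).extendDomain f := fun σ => rfl
  have hact : ∀ (h : H) (q : H ⧸ S) (i : Fin r),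
      h • φ (q, i) = φ (QuotientGroup.mk (h * (Quotient.out q : H)), i) := by
    intro h q i
    show h • ((Quotient.out q : H) • x i) = (Quotient.out (QuotientGroup.mk (h * (Quotient.out q : H)) : H ⧸ S) : H) • x i
    rw [key1, mul_smul]
  have himg : ∀ σ (p : (H ⧸ S) × Fin r), Θ σ (φ p) = φ (hom1 σ p) := by
    intro σ p
    rw [hΘ, ← hf p, Equiv.Perm.extendDomain_apply_image, hf]
  refine ⟨Θ, ?_, ?_, ?_⟩
  · intro σ τ h
    have h1 : hom1 σ = hom1 τ := Equiv.Perm.extendDomainHom_injective f h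
    ext i
    have h2 := congrArg (fun e : Equiv.Perm ((H ⧸ S) × Fin r) => (e (QuotientGroup.mk 1, i)).2) h1
    simp only [hom1_apply] at h2
    rw [h2]
  · intro σ h y
    by_cases hy : y ∈ Set.range φ
    · obtain ⟨⟨q, i⟩, rfl⟩ := hy
      rw [hact, himg, himg, hom1_apply, hom1_apply, hact]
    · have hy' : h • y ∉ Set.range φ := by
        rintro ⟨⟨q, i⟩, hq⟩
        apply hy
        have : y = h⁻¹ • φ (q, i) := by rw [hq, inv_smul_smul]
        rw [this, hact]
        exact ⟨_, rfl⟩
      rw [hΘ, Equiv.Perm.extendDomain_apply_not_subtype _ _ hy,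
        Equiv.Perm.extendDomain_apply_not_subtype _ _ hy']
  · intro σ hσ
    rw [hΘ, Equiv.Perm.sign_extendDomain]
    show Equiv.Perm.sign (Equiv.prodCongrRight (fun _ : H ⧸ S => σ)) = 1
    rw [Equiv.Perm.sign_prodCongrRight]
    simp [hσ]

theorem S2532_main :
    ∃ f : ℕ → ℕ → ℕ, ∀ (m r : ℕ) (H : Subgroup ↥(alternatingGroup (Fin m))), f (Nat.card H) r ≤ m →
      ∃ K : Subgroup ↥(alternatingGroup (Fin m)), Nonempty (↥K ≃* ↥(alternatingGroup (Fin r))) ∧
        K ≤ Subgroup.centralizer (H : Set ↥(alternatingGroup (Fin m))) := by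
  classical
  refine ⟨fun n r => 2 ^ n * n * r + 1, ?_⟩
  intro m r H hm
  haveI : Fintype H := Fintype.ofFinite _
  rw [Nat.card_eq_fintype_card] at hm
  have hX : 2 ^ Fintype.card H * Fintype.card H * r < Fintype.card (Fin m) := by
    rw [Fintype.card_fin]
    have : 2 ^ Fintype.card H * Fintype.card H * r + 1 ≤ m := hm
    omega
  obtain ⟨S, x, hS, hdist⟩ := exists_points (H := H) (X := Fin m) r hX
  obtain ⟨Θ, hinj, hequiv, hsign⟩ := exists_theta r S x hS hdist
  let Θ' : alternatingGroup (Fin r) →* alternatingGroup (Fin m) :=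
    (Θ.comp (alternatingGroup (Fin r)).subtype).codRestrict _ (fun σ =>
      Equiv.Perm.mem_alternatingGroup.mpr (hsign σ.1 (Equiv.Perm.mem_alternatingGroup.mp σ.2)))
  have hΘ' : ∀ σ, ((Θ' σ : alternatingGroup (Fin m)) : Equiv.Perm (Fin m)) = Θ σ.1 := fun σ => rfl
  have hinj' : Function.Injective Θ' := by
    intro σ τ h
    apply Subtype.ext
    apply hinj
    rw [← hΘ', ← hΘ', h]
  refine ⟨Θ'.range, ⟨(MonoidHom.ofInjective hinj').symm⟩, ?_⟩
  rintro k ⟨σ, rfl⟩
  rw [Subgroup.mem_centralizer_iff]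
  intro h hh
  apply Subtype.ext
  apply Equiv.ext
  intro y
  show (h : Equiv.Perm (Fin m)) ((Θ' σ : Equiv.Perm (Fin m)) y) =
    (Θ' σ : Equiv.Perm (Fin m)) ((h : Equiv.Perm (Fin m)) y)
  rw [hΘ']
  have := hequiv σ.1 ⟨h, hh⟩ y
  exact this.symm

end Cfsg.Agent.Lib.Helper4_AltCent
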