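import Mathlib

namespace Cfsg.Agent.Lib.Helper4_AltLaws

open FreeGroup

/-- the finite set of suffix products of the reduced word -/
def sufSet (w : FreeGroup ℕ) : Finset (FreeGroup ℕ) :=
  (w.toWord.tails.map FreeGroup.mk).toFinset

theorem mem_sufSet (w : FreeGroup ℕ) (t : List (ℕ × Bool)) (ht : t <:+ w.toWord) :
    FreeGroup.mk t ∈ sufSet w := by
  unfold sufSet
  rw [List.mem_toFinset, List.mem_map]
  exact ⟨t, (List.mem_tails _ _).mpr ht, rfl⟩

/-- the partial left multiplication, as an equivalence of subtypes -/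
def eqv (B : Finset (FreeGroup ℕ)) (x : ℕ) :
    {u : B // FreeGroup.of x * u.1 ∈ B} ≃ {v : B // (FreeGroup.of x)⁻¹ * v.1 ∈ B} where
  toFun u := ⟨⟨FreeGroup.of x * u.1.1, u.2⟩, by
    show (FreeGroup.of x)⁻¹ * (FreeGroup.of x * u.1.1) ∈ B
    rw [inv_mul_cancel_left]; exact u.1.2⟩
  invFun v := ⟨⟨(FreeGroup.of x)⁻¹ * v.1.1, v.2⟩, by
    show FreeGroup.of x * ((FreeGroup.of x)⁻¹ * v.1.1) ∈ B
    rw [mul_inv_cancel_left]; exact v.1.2⟩
  left_inv u := by
    apply Subtype.ext; apply Subtype.ext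
    show (FreeGroup.of x)⁻¹ * (FreeGroup.of x * u.1.1) = u.1.1
    rw [inv_mul_cancel_left]
  right_inv v := by
    apply Subtype.ext; apply Subtype.ext
    show FreeGroup.of x * ((FreeGroup.of x)⁻¹ * v.1.1) = v.1.1
    rw [mul_inv_cancel_left]

/-- the permutation attached to a generator -/
noncomputable def gen (B : Finset (FreeGroup ℕ)) (x : ℕ) : Equiv.Perm B :=
  (eqv B x).extendSubtype

theorem gen_apply (B : Finset (FreeGroup ℕ)) (x : ℕ) (u : B) (h : FreeGroup.of x * u.1 ∈ B) :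
    gen B x u = ⟨FreeGroup.of x * u.1, h⟩ := by
  unfold gen
  rw [Equiv.extendSubtype_apply_of_mem _ u h]
  rfl

theorem gen_inv_apply (B : Finset (FreeGroup ℕ)) (x : ℕ) (u : B) (h : (FreeGroup.of x)⁻¹ * u.1 ∈ B) :
    (gen B x)⁻¹ u = ⟨(FreeGroup.of x)⁻¹ * u.1, h⟩ := by
  rw [Equiv.Perm.inv_eq_iff_eq]
  have h' : FreeGroup.of x * (⟨(FreeGroup.of x)⁻¹ * u.1, h⟩ : B).1 ∈ B := by
    show FreeGroup.of x * ((FreeGroup.of x)⁻¹ * u.1) ∈ B
    rw [mul_inv_cancel_left]; exact u.2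
  rw [gen_apply B x _ h']
  apply Subtype.ext
  show u.1 = FreeGroup.of x * ((FreeGroup.of x)⁻¹ * u.1)
  rw [mul_inv_cancel_left]

theorem mk_cons (a : ℕ × Bool) (t : List (ℕ × Bool)) :
    FreeGroup.mk (a :: t) = FreeGroup.mk [a] * FreeGroup.mk t := by
  rw [FreeGroup.mul_mk]; rfl

theorem mk_single_true (x : ℕ) : FreeGroup.mk [(x, true)] = FreeGroup.of x := rfl

theorem mk_single_false (x : ℕ) : FreeGroup.mk [(x, false)] = (FreeGroup.of x)⁻¹ := by
  rw [← mk_single_true, FreeGroup.inv_mk]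
  rfl

theorem eval_suffix (w : FreeGroup ℕ) (h1 : (1 : FreeGroup ℕ) ∈ sufSet w) (t : List (ℕ × Bool))
    (ht : t <:+ w.toWord) :
    ((FreeGroup.lift (gen (sufSet w)) (FreeGroup.mk t)) ⟨1, h1⟩).1 = FreeGroup.mk t := by
  induction t with
  | nil =>
    rw [← FreeGroup.one_eq_mk, _root_.map_one]
    rfl
  | cons a t ih =>
    have ht' : t <:+ w.toWord := (List.suffix_cons a t).trans ht
    have ih' : (FreeGroup.lift (gen (sufSet w)) (FreeGroup.mk t)) ⟨1, h1⟩ =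
        ⟨FreeGroup.mk t, mem_sufSet w t ht'⟩ := Subtype.ext (ih ht')
    have hmem := mem_sufSet w (a :: t) ht
    rw [mk_cons] at hmem ⊢
    rw [_root_.map_mul, Equiv.Perm.mul_apply, ih']
    obtain ⟨x, b⟩ := a
    cases b
    · rw [mk_single_false] at hmem ⊢
      rw [_root_.map_inv, FreeGroup.lift_apply_of, gen_inv_apply _ x _ hmem]
    · rw [mk_single_true] at hmem ⊢
      rw [FreeGroup.lift_apply_of, gen_apply _ x _ hmem]

theorem exists_perm_rep (w : FreeGroup ℕ) (hw : w ≠ 1) :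
    ∃ (B : Finset (FreeGroup ℕ)) (g : ℕ → Equiv.Perm B), FreeGroup.lift g w ≠ 1 := by
  refine ⟨sufSet w, gen (sufSet w), ?_⟩
  intro h
  have h1 : (1 : FreeGroup ℕ) ∈ sufSet w := by
    rw [FreeGroup.one_eq_mk]; exact mem_sufSet w [] List.nil_suffix
  have h2 := eval_suffix w h1 w.toWord (List.suffix_refl _)
  rw [FreeGroup.mk_toWord, h] at h2
  exact hw h2.symm

theorem exists_hom_alt (B : Type*) [Fintype B] [DecidableEq B] (n : ℕ)
    (hn : 2 * Fintype.card B ≤ n) :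
    ∃ Φ : Equiv.Perm B →* alternatingGroup (Fin n), Function.Injective Φ := by
  classical
  have hc : Fintype.card (B ⊕ B) ≤ Fintype.card (Fin n) := by
    rw [Fintype.card_sum, Fintype.card_fin]; omega
  obtain ⟨ι⟩ := Function.Embedding.nonempty_of_card_le hc
  let f : (B ⊕ B) ≃ {x : Fin n // x ∈ Set.range ι} := Equiv.ofInjective ι ι.injective
  let Ψ : Equiv.Perm B →* Equiv.Perm (Fin n) :=
    (Equiv.Perm.extendDomainHom f).comp
      ((Equiv.Perm.sumCongrHom B B).comp (MonoidHom.prod (MonoidHom.id _) (MonoidHom.id _)))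
  have hΨ : ∀ σ, Ψ σ = Equiv.Perm.extendDomain (Equiv.Perm.sumCongr σ σ) f := fun σ => rfl
  have hsign : ∀ σ, Ψ σ ∈ alternatingGroup (Fin n) := by
    intro σ
    rw [Equiv.Perm.mem_alternatingGroup, hΨ, Equiv.Perm.sign_extendDomain, Equiv.Perm.sign_sumCongr,
      Int.units_mul_self]
  refine ⟨Ψ.codRestrict _ hsign, ?_⟩
  intro σ τ h
  have h' : Ψ σ = Ψ τ := congrArg Subtype.val h
  have h1 := Equiv.Perm.extendDomainHom_injective f h'
  have h2 := Equiv.Perm.sumCongrHom_injective h1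
  exact congrArg Prod.fst h2

theorem S2352_main (w : FreeGroup ℕ) (hw : w ≠ 1) :
    ∃ N : ℕ, ∀ n : ℕ, N ≤ n → ∃ f : ℕ → alternatingGroup (Fin n), FreeGroup.lift f w ≠ 1 := by
  obtain ⟨B, g, hg⟩ := exists_perm_rep w hw
  refine ⟨2 * Fintype.card B, ?_⟩
  intro n hn
  obtain ⟨Φ, hΦ⟩ := exists_hom_alt B n hn
  refine ⟨fun x => Φ (g x), ?_⟩
  have hcomp : Φ.comp (FreeGroup.lift g) = FreeGroup.lift (fun x => Φ (g x)) := by
    apply FreeGroup.ext_hom
    intro x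
    simp
  rw [← hcomp, MonoidHom.comp_apply]
  intro h
  apply hg
  apply hΦ
  rw [h, _root_.map_one]

end Cfsg.Agent.Lib.Helper4_AltLaws
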