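import Mathlib

namespace Cfsg.Agent.Lib.Helper4_PermOrder

theorem pow_dvd_lcm_cases {p k a b : ℕ} (hp : p.Prime) (h : p ^ k ∣ Nat.lcm a b) :
    p ^ k ∣ a ∨ p ^ k ∣ b := by
  rcases Nat.eq_zero_or_pos a with ha | ha
  · left; rw [ha]; exact dvd_zero _
  rcases Nat.eq_zero_or_pos b with hb | hb
  · right; rw [hb]; exact dvd_zero _
  have hl : Nat.lcm a b ≠ 0 := Nat.lcm_ne_zero ha.ne' hb.ne'
  rw [hp.pow_dvd_iff_le_factorization hl, Nat.factorization_lcm ha.ne' hb.ne'] at h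
  rw [Finsupp.sup_apply] at h
  rcases le_max_iff.mp h with h1 | h1
  · left; exact (hp.pow_dvd_iff_le_factorization ha.ne').mpr h1
  · right; exact (hp.pow_dvd_iff_le_factorization hb.ne').mpr h1

theorem exists_dvd_of_prime_pow_dvd_lcm {p k : ℕ} (hp : p.Prime) (hk : 0 < k) (m : Multiset ℕ)
    (h : p ^ k ∣ m.lcm) : ∃ a ∈ m, p ^ k ∣ a := by
  induction m using Multiset.induction_on with
  | empty =>
    exfalso
    rw [Multiset.lcm_zero, Nat.dvd_one] at h
    have : 1 < p ^ k := Nat.one_lt_pow hk.ne' hp.one_lt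
    omega
  | cons a s ih =>
    rw [Multiset.lcm_cons] at h
    rcases pow_dvd_lcm_cases hp h with h1 | h1
    · exact ⟨a, Multiset.mem_cons_self a s, h1⟩
    · obtain ⟨b, hb, hb'⟩ := ih h1
      exact ⟨b, Multiset.mem_cons_of_mem hb, hb'⟩

theorem perm_prime_pow_dvd_order {α : Type*} [Fintype α] [DecidableEq α] {p k : ℕ} (hp : p.Prime)
    (hk : 0 < k) (σ : Equiv.Perm α) (h : p ^ k ∣ orderOf σ) : ∃ a ∈ σ.cycleType, p ^ k ∣ a := by
  rw [← Equiv.Perm.lcm_cycleType] at h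
  exact exists_dvd_of_prime_pow_dvd_lcm hp hk _ h

theorem no_order_eight (σ : Equiv.Perm (Fin 6)) : orderOf σ ≠ 8 := by
  intro h
  have h8 : 2 ^ 3 ∣ orderOf σ := by rw [h]; norm_num
  obtain ⟨a, ha, hdvd⟩ := perm_prime_pow_dvd_order Nat.prime_two (by norm_num) σ h8
  have h1 : a ≤ σ.cycleType.sum := Multiset.single_le_sum (fun _ _ => Nat.zero_le _) a ha
  have h2 := σ.sum_cycleType_le
  rw [Fintype.card_fin] at h2
  have h3 : 0 < a := by
    have := Equiv.Perm.two_le_of_mem_cycleType ha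
    omega
  have := Nat.le_of_dvd h3 hdvd
  omega


end Cfsg.Agent.Lib.Helper4_PermOrder
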