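import Mathlib
import Cfsg.Agent.Lib.Helper4_PermOrder

namespace Cfsg.Agent.Lib.Helper4_AltOrders

open Equiv

theorem mem_range_orderOf_alt_iff (n k : ℕ) :
    k ∈ Set.range (orderOf : alternatingGroup (Fin n) → ℕ) ↔
      ∃ m : Multiset ℕ, m.sum ≤ n ∧ (∀ a ∈ m, 2 ≤ a) ∧ m.lcm = k ∧ Even (m.sum + Multiset.card m) := by
  constructor
  · rintro ⟨⟨σ, hσ⟩, rfl⟩
    refine ⟨σ.cycleType, ?_, fun a ha => Equiv.Perm.two_le_of_mem_cycleType ha, ?_, ?_⟩
    · have := σ.sum_cycleType_le
      rwa [Fintype.card_fin] at this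
    · rw [Equiv.Perm.lcm_cycleType]
      exact (Subgroup.orderOf_mk σ hσ).symm
    · rw [Equiv.Perm.mem_alternatingGroup, Equiv.Perm.sign_of_cycleType] at hσ
      by_contra hodd
      rw [Nat.not_even_iff_odd] at hodd
      rw [hodd.neg_one_pow] at hσ
      exact absurd hσ (by decide)
  · rintro ⟨m, hsum, h2, hlcm, heven⟩
    obtain ⟨σ, hσ⟩ := (Equiv.Perm.exists_with_cycleType_iff (Fin n)).mpr
      ⟨by rw [Fintype.card_fin]; exact hsum, h2⟩
    have hmem : σ ∈ alternatingGroup (Fin n) := by
      rw [Equiv.Perm.mem_alternatingGroup, Equiv.Perm.sign_of_cycleType, hσ, heven.neg_one_pow]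
    refine ⟨⟨σ, hmem⟩, ?_⟩
    rw [Subgroup.orderOf_mk, ← Equiv.Perm.lcm_cycleType, hσ, hlcm]

theorem sum_ge_of_two_mem (m : Multiset ℕ) (a b : ℕ) (ha : a ∈ m) (hb : b ∈ m) (hab : a ≠ b) :
    a + b ≤ m.sum := by
  obtain ⟨m', rfl⟩ := Multiset.exists_cons_of_mem ha
  rw [Multiset.sum_cons]
  have hb' : b ∈ m' := by
    rcases Multiset.mem_cons.mp hb with h | h
    · exact absurd h.symm hab
    · exact h
  have := Multiset.single_le_sum (fun _ _ => Nat.zero_le _) b hb'
  omega

theorem alt_order_rs (n r s : ℕ) (hr : r.Prime) (hs : s.Prime) (hr2 : r ≠ 2) (hs2 : s ≠ 2)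
    (hrs : r ≠ s) :
    (r * s ∈ Set.range (orderOf : alternatingGroup (Fin n) → ℕ)) ↔ r + s ≤ n := by
  rw [mem_range_orderOf_alt_iff]
  have hcop : Nat.Coprime r s := (Nat.coprime_primes hr hs).mpr hrs
  have hrodd : Odd r := hr.odd_of_ne_two hr2
  have hsodd : Odd s := hs.odd_of_ne_two hs2
  constructor
  · rintro ⟨m, hsum, h2, hlcm, -⟩
    have h1 : r ^ 1 ∣ m.lcm := by rw [hlcm, pow_one]; exact dvd_mul_right r s
    have h1' : s ^ 1 ∣ m.lcm := by rw [hlcm, pow_one]; exact dvd_mul_left s r
    obtain ⟨a, ha, hra⟩ := Cfsg.Agent.Lib.Helper4_PermOrder.exists_dvd_of_prime_pow_dvd_lcm hr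
      Nat.one_pos m h1
    obtain ⟨b, hb, hsb⟩ := Cfsg.Agent.Lib.Helper4_PermOrder.exists_dvd_of_prime_pow_dvd_lcm hs
      Nat.one_pos m h1'
    rw [pow_one] at hra hsb
    refine le_trans ?_ hsum
    have hapos : 0 < a := by have := h2 a ha; omega
    have hbpos : 0 < b := by have := h2 b hb; omega
    by_cases hab : a = b
    · subst hab
      have hrs_dvd : r * s ∣ a := hcop.mul_dvd_of_dvd_of_dvd hra hsb
      have h3 : r * s ≤ a := Nat.le_of_dvd hapos hrs_dvd
      have h4 : a ≤ m.sum := Multiset.single_le_sum (fun _ _ => Nat.zero_le _) a ha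
      have hr2' : 2 ≤ r := hr.two_le
      have hs2' : 2 ≤ s := hs.two_le
      have h5 : r + s ≤ r * s := by nlinarith
      omega
    · have h3 := sum_ge_of_two_mem m a b ha hb hab
      have h4 : r ≤ a := Nat.le_of_dvd hapos hra
      have h5 : s ≤ b := Nat.le_of_dvd hbpos hsb
      omega
  · intro h
    refine ⟨{r, s}, ?_, ?_, ?_, ?_⟩
    · simpa using h
    · intro a ha
      simp only [Multiset.insert_eq_cons, Multiset.mem_cons, Multiset.mem_singleton] at ha
      rcases ha with rfl | rfl
      · exact hr.two_le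
      · exact hs.two_le
    · simp only [Multiset.insert_eq_cons, Multiset.lcm_cons, Multiset.lcm_singleton, normalize_eq]
      exact hcop.lcm_eq_mul
    · simp only [Multiset.insert_eq_cons, Multiset.sum_cons, Multiset.sum_singleton,
        Multiset.card_cons, Multiset.card_singleton]
      obtain ⟨x, hx⟩ := hrodd
      obtain ⟨y, hy⟩ := hsodd
      exact ⟨x + y + 2, by omega⟩

theorem parity_sum_card (m : Multiset ℕ) :
    Even (m.sum + Multiset.card m) ↔ Even (Multiset.countP (fun x => Even x) m) := by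
  induction m using Multiset.induction_on with
  | empty => simp
  | cons a s ih =>
    rw [Multiset.sum_cons, Multiset.card_cons, Multiset.countP_cons]
    have e : a + s.sum + (Multiset.card s + 1) = (s.sum + Multiset.card s) + (a + 1) := by ring
    by_cases ha : Even a
    · rw [if_pos ha, e, Nat.even_add, ih, Nat.even_add_one, Nat.even_add_one]
      tauto
    · rw [if_neg ha, add_zero, e, Nat.even_add, ih, Nat.even_add_one]
      tauto

theorem exists_even_of_odd_countP (m : Multiset ℕ)
    (h : Odd (Multiset.countP (fun x => Even x) m)) : ∃ b ∈ m, Even b := by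
  have hpos : 0 < Multiset.countP (fun x => Even x) m := h.pos
  obtain ⟨b, hb, hb'⟩ := Multiset.countP_pos.mp hpos
  exact ⟨b, hb, hb'⟩

theorem alt_order_2r (n r : ℕ) (hr : r.Prime) (hr2 : r ≠ 2) :
    (2 * r ∈ Set.range (orderOf : alternatingGroup (Fin n) → ℕ)) ↔ r + 4 ≤ n := by
  rw [mem_range_orderOf_alt_iff]
  have hrodd : Odd r := hr.odd_of_ne_two hr2
  have hr3 : 3 ≤ r := by
    have := hr.two_le
    omega
  constructor
  · rintro ⟨m, hsum, h2, hlcm, heven⟩
    have h1 : r ^ 1 ∣ m.lcm := by rw [hlcm, pow_one]; exact dvd_mul_left r 2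
    have h1' : 2 ^ 1 ∣ m.lcm := by rw [hlcm, pow_one]; exact dvd_mul_right 2 r
    obtain ⟨a, ha, hra⟩ := Cfsg.Agent.Lib.Helper4_PermOrder.exists_dvd_of_prime_pow_dvd_lcm hr
      Nat.one_pos m h1
    obtain ⟨b, hb, h2b⟩ := Cfsg.Agent.Lib.Helper4_PermOrder.exists_dvd_of_prime_pow_dvd_lcm
      Nat.prime_two Nat.one_pos m h1'
    rw [pow_one] at hra h2b
    refine le_trans ?_ hsum
    rw [parity_sum_card] at heven
    obtain ⟨m', rfl⟩ := Multiset.exists_cons_of_mem ha
    rw [Multiset.countP_cons] at heven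
    rw [Multiset.sum_cons]
    have hapos : 0 < a := by have := h2 a (Multiset.mem_cons_self a m'); omega
    by_cases hae : Even a
    · rw [if_pos hae] at heven
      have hodd' : Odd (Multiset.countP (fun x => Even x) m') := by
        rcases Nat.even_or_odd (Multiset.countP (fun x => Even x) m') with h | h
        · exfalso
          have : Odd (Multiset.countP (fun x => Even x) m' + 1) := h.add_one
          exact (Nat.not_even_iff_odd.mpr this) heven
        · exact h
      obtain ⟨b', hb', hb'e⟩ := exists_even_of_odd_countP m' hodd'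
      have hb'2 : 2 ≤ b' := h2 b' (Multiset.mem_cons_of_mem hb')
      have h3 : b' ≤ m'.sum := Multiset.single_le_sum (fun _ _ => Nat.zero_le _) b' hb'
      have h4 : 2 * r ∣ a := by
        have hcop : Nat.Coprime 2 r := (Nat.coprime_primes Nat.prime_two hr).mpr (Ne.symm hr2)
        exact hcop.mul_dvd_of_dvd_of_dvd hae.two_dvd hra
      have h5 : 2 * r ≤ a := Nat.le_of_dvd hapos h4
      omega
    · rw [if_neg hae, add_zero] at heven
      have hbm' : b ∈ m' := by
        rcases Multiset.mem_cons.mp hb with h | h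
        · exfalso; rw [h] at h2b; exact hae (even_iff_two_dvd.mpr h2b)
        · exact h
      obtain ⟨m'', rfl⟩ := Multiset.exists_cons_of_mem hbm'
      rw [Multiset.countP_cons, if_pos (even_iff_two_dvd.mpr h2b)] at heven
      have hodd' : Odd (Multiset.countP (fun x => Even x) m'') := by
        rcases Nat.even_or_odd (Multiset.countP (fun x => Even x) m'') with h | h
        · exfalso
          have : Odd (Multiset.countP (fun x => Even x) m'' + 1) := h.add_one
          exact (Nat.not_even_iff_odd.mpr this) heven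
        · exact h
      obtain ⟨b', hb', hb'e⟩ := exists_even_of_odd_countP m'' hodd'
      have hb'2 : 2 ≤ b' := h2 b' (Multiset.mem_cons_of_mem (Multiset.mem_cons_of_mem hb'))
      have hb2 : 2 ≤ b := h2 b hb
      have h3 : b' ≤ m''.sum := Multiset.single_le_sum (fun _ _ => Nat.zero_le _) b' hb'
      have h5 : r ≤ a := Nat.le_of_dvd hapos hra
      rw [Multiset.sum_cons]
      omega
  · intro h
    refine ⟨{r, 2, 2}, ?_, ?_, ?_, ?_⟩
    · simp only [Multiset.insert_eq_cons, Multiset.sum_cons, Multiset.sum_singleton]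
      omega
    · intro a ha
      simp only [Multiset.insert_eq_cons, Multiset.mem_cons, Multiset.mem_singleton] at ha
      rcases ha with rfl | rfl | rfl
      · exact hr.two_le
      · exact le_rfl
      · exact le_rfl
    · simp only [Multiset.insert_eq_cons, Multiset.lcm_cons, Multiset.lcm_singleton, normalize_eq]
      have hcop : Nat.Coprime r 2 := (Nat.coprime_primes hr Nat.prime_two).mpr hr2
      show Nat.lcm r (Nat.lcm 2 2) = 2 * r
      rw [Nat.lcm_self, hcop.lcm_eq_mul, mul_comm]
    · simp only [Multiset.insert_eq_cons, Multiset.sum_cons, Multiset.sum_singleton,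
        Multiset.card_cons, Multiset.card_singleton]
      obtain ⟨x, hx⟩ := hrodd
      exact ⟨x + 4, by omega⟩

end Cfsg.Agent.Lib.Helper4_AltOrders
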