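import Mathlib

set_option autoImplicit false

namespace Cfsg.Agent.Lib.Helper4_AltPSL

open Matrix

variable {F : Type*} [Field F] {m : ℕ}

/-- permutation representation on functions -/
noncomputable def permRep (F : Type*) [Field F] (m : ℕ) : Equiv.Perm (Fin m) →* ((Fin m → F) →ₗ[F] (Fin m → F)) where
  toFun σ := LinearMap.funLeft F F ((σ⁻¹ : Equiv.Perm (Fin m)) : Fin m → Fin m)
  map_one' := by
    apply LinearMap.ext
    intro v
    funext i
    simp [LinearMap.funLeft]
  map_mul' σ τ := by
    apply LinearMap.ext
    intro v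
    funext i
    simp [LinearMap.funLeft, _root_.mul_inv_rev]

lemma permRep_apply (σ : Equiv.Perm (Fin m)) (v : Fin m → F) (i : Fin m) :
    permRep F m σ v i = v (σ⁻¹ i) := rfl

/-- the sum-zero submodule -/
def sumZero (F : Type*) [Field F] (m : ℕ) : Submodule F (Fin m → F) :=
  LinearMap.ker (∑ i : Fin m, LinearMap.proj i : (Fin m → F) →ₗ[F] F)

lemma mem_sumZero (v : Fin m → F) : v ∈ sumZero F m ↔ ∑ i, v i = 0 := by
  unfold sumZero
  rw [LinearMap.mem_ker]
  simp [LinearMap.sum_apply]

lemma permRep_mem (σ : Equiv.Perm (Fin m)) (v : Fin m → F) (hv : v ∈ sumZero F m) :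
    permRep F m σ v ∈ sumZero F m := by
  rw [mem_sumZero] at hv ⊢
  simp only [permRep_apply]
  rw [← hv]
  exact Equiv.sum_comp σ⁻¹ v

/-- restricted representation as endomorphisms of the sum-zero module -/
noncomputable def permRepW (F : Type*) [Field F] (m : ℕ) :
    Equiv.Perm (Fin m) →* Module.End F (sumZero F m) where
  toFun σ := (permRep F m σ).restrict (fun v hv => permRep_mem σ v hv)
  map_one' := by
    apply LinearMap.ext
    intro v
    apply Subtype.ext
    simp [LinearMap.restrict_apply]
  map_mul' σ τ := by
    apply LinearMap.ext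
    intro v
    apply Subtype.ext
    simp [LinearMap.restrict_apply]

lemma permRepW_apply (σ : Equiv.Perm (Fin m)) (v : sumZero F m) (i : Fin m) :
    ((permRepW F m σ v : sumZero F m) : Fin m → F) i = (v : Fin m → F) (σ⁻¹ i) := rfl

lemma permRepW_injective (hm : 3 ≤ m) : Function.Injective (permRepW F m) := by
  rw [injective_iff_map_eq_one]
  intro σ hσ
  by_contra hne
  obtain ⟨i, hi⟩ : ∃ i, σ i ≠ i := by
    by_contra h
    push Not at h
    exact hne (Equiv.ext h)
  -- choose k different from i and σ i
  obtain ⟨k, hki, hkj⟩ : ∃ k : Fin m, k ≠ i ∧ k ≠ σ i := by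
    by_contra hcon
    push Not at hcon
    have : (Finset.univ : Finset (Fin m)) ⊆ {i, σ i} := by
      intro k _
      by_cases hk : k = i
      · simp [hk]
      · simp [hcon k hk]
    have h1 := Finset.card_le_card this
    have h2 : ({i, σ i} : Finset (Fin m)).card ≤ 2 := Finset.card_le_two
    rw [Finset.card_univ, Fintype.card_fin] at h1
    omega
  let v : Fin m → F := Pi.single i 1 - Pi.single k 1
  have hv : v ∈ sumZero F m := by
    rw [mem_sumZero]
    simp [v, Finset.sum_sub_distrib]
  have h1 := congrArg (fun f => ((f ⟨v, hv⟩ : sumZero F m) : Fin m → F) (σ i)) hσ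
  simp only [permRepW_apply] at h1
  simp [v, Pi.single_apply, hi, hkj.symm, hki.symm] at h1


lemma finrank_sumZero (n : ℕ) : Module.finrank F (sumZero F (n + 1)) = n := by
  have h1 := LinearMap.finrank_range_add_finrank_ker
    (∑ i : Fin (n + 1), LinearMap.proj i : (Fin (n + 1) → F) →ₗ[F] F)
  have h2 : LinearMap.range (∑ i : Fin (n + 1), LinearMap.proj i : (Fin (n + 1) → F) →ₗ[F] F) = ⊤ := by
    rw [LinearMap.range_eq_top]
    intro c
    refine ⟨Pi.single 0 c, ?_⟩
    simp [LinearMap.sum_apply]
  rw [h2, finrank_top, Module.finrank_self, Module.finrank_fin_fun] at h1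
  have h3 : Module.finrank F (sumZero F (n + 1)) = Module.finrank F
      (LinearMap.ker (∑ i : Fin (n + 1), LinearMap.proj i : (Fin (n + 1) → F) →ₗ[F] F)) := rfl
  omega

/-- the matrix representation -/
noncomputable def matRep (F : Type*) [Field F] (n : ℕ) :
    Equiv.Perm (Fin (n + 1)) →* Matrix (Fin n) (Fin n) F :=
  ((LinearMap.toMatrixAlgEquiv (Module.finBasisOfFinrankEq F (sumZero F (n + 1))
    (finrank_sumZero n))).toRingEquiv.toMulEquiv.toMonoidHom).comp (permRepW F (n + 1))

lemma matRep_injective (n : ℕ) (hn : 2 ≤ n) : Function.Injective (matRep F n) := by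
  unfold matRep
  rw [MonoidHom.coe_comp]
  exact (MulEquiv.injective _).comp (permRepW_injective (by omega))

/-- hom into GL -/
noncomputable def glRep (F : Type*) [Field F] (n : ℕ) :
    Equiv.Perm (Fin (n + 1)) →* GL (Fin n) F := (matRep F n).toHomUnits

lemma glRep_injective (n : ℕ) (hn : 2 ≤ n) : Function.Injective (glRep F n) := by
  intro a b hab
  apply matRep_injective (F := F) n hn
  have := congrArg Units.val hab
  simpa [glRep] using this

theorem S4156_main (n : ℕ) (hn : 5 ≤ n) (F : Type*) [Field F] :
    ∃ f : alternatingGroup (Fin (n + 1)) →* Matrix.ProjectiveSpecialLinearGroup (Fin n) F,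
      Function.Injective f := by
  have h5 : 5 ≤ Nat.card (Fin (n + 1)) := by simp; omega
  have hperf := _root_.commutator_alternatingGroup_eq_top (α := Fin (n + 1)) h5
  have hsimple : IsSimpleGroup (alternatingGroup (Fin (n + 1))) := alternatingGroup.isSimpleGroup h5
  let f2 : alternatingGroup (Fin (n + 1)) →* GL (Fin n) F :=
    (glRep F n).comp (alternatingGroup (Fin (n + 1))).subtype
  have hf2 : Function.Injective f2 :=
    (glRep_injective n (by omega)).comp Subtype.val_injective
  -- det is trivial
  have hdet : ∀ σ, Matrix.GeneralLinearGroup.det (f2 σ) = 1 := by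
    intro σ
    have h1 : commutator (alternatingGroup (Fin (n + 1)))
        ≤ (Matrix.GeneralLinearGroup.det.comp f2).ker :=
      Abelianization.commutator_subset_ker _
    rw [hperf] at h1
    exact h1 (Subgroup.mem_top σ)
  let f3 : alternatingGroup (Fin (n + 1)) →* Matrix.SpecialLinearGroup (Fin n) F :=
    { toFun := fun σ => ⟨(f2 σ : Matrix (Fin n) (Fin n) F), by
        have := congrArg Units.val (hdet σ)
        simpa using this⟩
      map_one' := by
        apply Subtype.ext
        simp
      map_mul' := by
        intro a b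
        apply Subtype.ext
        show ((f2 (a * b) : GL (Fin n) F) : Matrix (Fin n) (Fin n) F) = _
        rw [map_mul]
        rfl }
  have hf3 : Function.Injective f3 := by
    intro a b hab
    apply hf2
    apply Units.ext
    exact congrArg Subtype.val hab
  let f4 := (QuotientGroup.mk' (Subgroup.center (Matrix.SpecialLinearGroup (Fin n) F))).comp f3
  refine ⟨f4, ?_⟩
  rw [← MonoidHom.ker_eq_bot_iff]
  rcases (MonoidHom.normal_ker f4).eq_bot_or_eq_top with h | h
  · exact h
  · exfalso
    -- image of f3 central, hence A commutative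
    have hc : ∀ a b : alternatingGroup (Fin (n + 1)), a * b = b * a := by
      intro a b
      apply hf3
      rw [map_mul, map_mul]
      have ha : a ∈ f4.ker := by rw [h]; trivial
      rw [MonoidHom.mem_ker] at ha
      have ha' : f3 a ∈ Subgroup.center (Matrix.SpecialLinearGroup (Fin n) F) :=
        (QuotientGroup.eq_one_iff _).1 ha
      exact (Subgroup.mem_center_iff.1 ha' (f3 b)).symm
    have : commutator (alternatingGroup (Fin (n + 1))) = ⊥ := by
      rw [eq_bot_iff, commutator_def, Subgroup.commutator_le]
      intro a _ b _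
      rw [Subgroup.mem_bot, commutatorElement_eq_one_iff_commute]
      exact hc a b
    rw [hperf] at this
    have hnt : Nontrivial (alternatingGroup (Fin (n + 1))) := hsimple.toNontrivial
    exact top_ne_bot this

end Cfsg.Agent.Lib.Helper4_AltPSL
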