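import Mathlib

namespace Cfsg.Agent.Lib.Helper4_GL2Classes0
open Matrix

variable {F : Type*} [Field F]

theorem conj_comp_mat (a b c d : F) (hNS : b ≠ 0 ∨ c ≠ 0 ∨ a ≠ d) :
    ∃ P : Matrix (Fin 2) (Fin 2) F, P.det ≠ 0 ∧
      !![a, b; c, d] * P = P * !![0, -(a * d - b * c); 1, a + d] := by
  by_cases hc : c ≠ 0
  · refine ⟨!![1, a; 0, c], by simp [det_fin_two, hc], ?_⟩
    rw [Matrix.mul_fin_two, Matrix.mul_fin_two]
    ext i j; fin_cases i <;> fin_cases j <;> simp <;> ring
  push Not at hc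
  by_cases hb : b ≠ 0
  · refine ⟨!![0, b; 1, d], by simp [det_fin_two, hb], ?_⟩
    rw [Matrix.mul_fin_two, Matrix.mul_fin_two, hc]
    ext i j; fin_cases i <;> fin_cases j <;> simp <;> ring
  push Not at hb
  have had : a ≠ d := by
    rcases hNS with h | h | h
    · exact absurd hb h
    · exact absurd hc h
    · exact h
  refine ⟨!![1, a; 1, d], by simp [det_fin_two, sub_ne_zero, had.symm], ?_⟩
  rw [Matrix.mul_fin_two, Matrix.mul_fin_two, hc, hb]
  ext i j; fin_cases i <;> fin_cases j <;> simp <;> ring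

/-- non-scalar. -/
def NS (M : Matrix (Fin 2) (Fin 2) F) : Prop := M 0 1 ≠ 0 ∨ M 1 0 ≠ 0 ∨ M 0 0 ≠ M 1 1

theorem not_NS_iff (M : Matrix (Fin 2) (Fin 2) F) : ¬ NS M ↔ M = (M 0 0) • (1 : Matrix (Fin 2) (Fin 2) F) := by
  unfold NS
  constructor
  · intro h
    push Not at h
    obtain ⟨h1, h2, h3⟩ := h
    ext i j; fin_cases i <;> fin_cases j <;> simp [h1, h2, h3.symm]
  · intro h hns
    have e01 := congrFun (congrFun h 0) 1
    have e10 := congrFun (congrFun h 1) 0
    have e11 := congrFun (congrFun h 1) 1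
    simp at e01 e10 e11
    rcases hns with h1 | h1 | h1
    · exact h1 e01
    · exact h1 e10
    · exact h1 e11.symm

/-- the companion matrix. -/
def compMat (t δ : F) : Matrix (Fin 2) (Fin 2) F := !![0, -δ; 1, t]

theorem compMat_det (t δ : F) : (compMat t δ).det = δ := by
  simp [compMat, det_fin_two]

theorem compMat_trace (t δ : F) : (compMat t δ).trace = t := by
  simp [compMat, Matrix.trace_fin_two]

theorem compMat_NS (t δ : F) : NS (compMat t δ) := by
  right; left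
  simp [compMat]

theorem conj_comp (M : Matrix (Fin 2) (Fin 2) F) (hNS : NS M) :
    ∃ P : Matrix (Fin 2) (Fin 2) F, P.det ≠ 0 ∧ M * P = P * compMat M.trace M.det := by
  have hM : M = !![M 0 0, M 0 1; M 1 0, M 1 1] := Matrix.eta_fin_two M
  obtain ⟨P, hP, h⟩ := conj_comp_mat (M 0 0) (M 0 1) (M 1 0) (M 1 1) hNS
  refine ⟨P, hP, ?_⟩
  rw [Matrix.trace_fin_two, Matrix.det_fin_two]
  unfold compMat
  rw [← h, ← hM]

end Cfsg.Agent.Lib.Helper4_GL2Classes0
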