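import Mathlib
import Cfsg.Agent.Lib.Helper4_GL2Classes0

namespace Cfsg.Agent.Lib.Helper4_SL2Classes
open Matrix Cfsg.Agent.Lib.Helper4_GL2Classes0

variable {F : Type*} [Field F]

/-- companion element of SL₂. -/
def C' (t : F) : Matrix.SpecialLinearGroup (Fin 2) F :=
  ⟨compMat t 1, compMat_det t 1⟩

theorem conj_C' [Finite F] [CharP F 2] (g : Matrix.SpecialLinearGroup (Fin 2) F)
    (hg : NS (g : Matrix (Fin 2) (Fin 2) F)) :
    IsConj g (C' (g : Matrix (Fin 2) (Fin 2) F).trace) := by
  obtain ⟨P, hP, h⟩ := conj_comp (g : Matrix (Fin 2) (Fin 2) F) hg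
  rw [g.det_coe] at h
  obtain ⟨ε, hε⟩ := FiniteField.isSquare_of_char_two (ringChar.eq F 2) P.det
  have hε0 : ε ≠ 0 := by
    rintro rfl
    rw [mul_zero] at hε
    exact hP hε
  have hdet : (ε⁻¹ • P).det = 1 := by
    rw [Matrix.det_smul, Fintype.card_fin, hε]
    field_simp
  set P' : Matrix.SpecialLinearGroup (Fin 2) F := ⟨ε⁻¹ • P, hdet⟩ with hP'
  rw [isConj_iff]
  refine ⟨P'⁻¹, ?_⟩
  rw [inv_inv, mul_assoc, inv_mul_eq_iff_eq_mul]
  apply Subtype.ext
  rw [Matrix.SpecialLinearGroup.coe_mul, Matrix.SpecialLinearGroup.coe_mul]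
  show (g : Matrix (Fin 2) (Fin 2) F) * (ε⁻¹ • P) = (ε⁻¹ • P) * compMat _ 1
  rw [Matrix.mul_smul, Matrix.smul_mul, h]

theorem sl2_classes [Fintype F] [CharP F 2] :
    Nat.card (ConjClasses (Matrix.SpecialLinearGroup (Fin 2) F)) = Fintype.card F + 1 := by
  classical
  let ψ : Unit ⊕ F → ConjClasses (Matrix.SpecialLinearGroup (Fin 2) F) :=
    Sum.elim (fun _ => ConjClasses.mk 1) (fun t => ConjClasses.mk (C' t))
  have hinj : Function.Injective ψ := by
    rintro (a | t) (b | t') h
    · rfl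
    · exfalso
      have h1 : IsConj (1 : Matrix.SpecialLinearGroup (Fin 2) F) (C' t') :=
        ConjClasses.mk_eq_mk_iff_isConj.mp h
      rw [isConj_one_right] at h1
      have h2 := congrArg (fun g : Matrix.SpecialLinearGroup (Fin 2) F =>
        (g : Matrix (Fin 2) (Fin 2) F) 1 0) h1
      simp [C', compMat] at h2
    · exfalso
      have h1 : IsConj (C' t) (1 : Matrix.SpecialLinearGroup (Fin 2) F) :=
        ConjClasses.mk_eq_mk_iff_isConj.mp h
      rw [isConj_one_left] at h1
      have h2 := congrArg (fun g : Matrix.SpecialLinearGroup (Fin 2) F =>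
        (g : Matrix (Fin 2) (Fin 2) F) 1 0) h1
      simp [C', compMat] at h2
    · have h1 : IsConj (C' t) (C' t') := ConjClasses.mk_eq_mk_iff_isConj.mp h
      obtain ⟨c, hc⟩ := isConj_iff.mp h1
      have h2 : c * C' t = C' t' * c := by rw [← hc]; group
      have h3 : (c : Matrix (Fin 2) (Fin 2) F) * compMat t 1 = compMat t' 1 * (c : Matrix (Fin 2) (Fin 2) F) := by
        have := congrArg (fun g : Matrix.SpecialLinearGroup (Fin 2) F =>
          (g : Matrix (Fin 2) (Fin 2) F)) h2
        simp only [Matrix.SpecialLinearGroup.coe_mul] at this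
        exact this
      have hcu : IsUnit (c : Matrix (Fin 2) (Fin 2) F) := by
        rw [Matrix.isUnit_iff_isUnit_det, c.det_coe]; exact isUnit_one
      obtain ⟨u, hu⟩ := hcu
      have h4 : compMat t' 1 = (u : Matrix (Fin 2) (Fin 2) F) * compMat t 1 * (u⁻¹ : (Matrix (Fin 2) (Fin 2) F)ˣ) := by
        rw [hu, h3, mul_assoc, ← hu, Units.mul_inv, mul_one]
      have := congrArg Matrix.trace h4
      rw [Matrix.trace_units_conj, compMat_trace, compMat_trace] at this
      rw [this]
  have hsurj : Function.Surjective ψ := by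
    intro cl
    obtain ⟨g, rfl⟩ := ConjClasses.mk_surjective cl
    by_cases hg : NS (g : Matrix (Fin 2) (Fin 2) F)
    · refine ⟨Sum.inr (g : Matrix (Fin 2) (Fin 2) F).trace, ?_⟩
      exact (ConjClasses.mk_eq_mk_iff_isConj.mpr (conj_C' g hg)).symm
    · have h1 := (not_NS_iff _).mp hg
      refine ⟨Sum.inl (), ?_⟩
      show ConjClasses.mk (1 : Matrix.SpecialLinearGroup (Fin 2) F) = ConjClasses.mk g
      congr 1
      apply Subtype.ext
      set a := (g : Matrix (Fin 2) (Fin 2) F) 0 0 with ha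
      have hdet := g.det_coe
      rw [h1, Matrix.det_smul, Fintype.card_fin, Matrix.det_one, mul_one] at hdet
      have ha1 : a = 1 := by
        have h5 : (a - 1) ^ 2 = 0 := by
          have h6 : (a - 1) ^ 2 = a ^ 2 - (a + a) + 1 := by ring
          rw [h6, CharTwo.add_self_eq_zero, hdet, sub_zero]
          exact CharTwo.add_self_eq_zero 1
        exact sub_eq_zero.mp (pow_eq_zero_iff (two_ne_zero) |>.mp h5)
      rw [h1, ha1, one_smul]
      rfl
  rw [← Nat.card_congr (Equiv.ofBijective ψ ⟨hinj, hsurj⟩), Nat.card_sum,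
    Nat.card_eq_fintype_card, Nat.card_eq_fintype_card, Fintype.card_unit, add_comm]

end Cfsg.Agent.Lib.Helper4_SL2Classes
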