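import Mathlib
import Cfsg.Agent.Lib.Helper4_GL2Classes0
import Cfsg.Agent.Lib.Helper4_SL2Classes

namespace Cfsg.Agent.Lib.Helper4_SL2Odd
open Matrix Cfsg.Agent.Lib.Helper4_GL2Classes0 Cfsg.Agent.Lib.Helper4_SL2Classes

variable {F : Type*} [Field F]

/-- triangular with equal diagonal entries -/
def V (s b : F) (hs : s * s = 1) : Matrix.SpecialLinearGroup (Fin 2) F :=
  ⟨!![s, b; 0, s], by simp [det_fin_two, hs]⟩

/-- the scalar element -/
def Zs (s : F) (hs : s * s = 1) : Matrix.SpecialLinearGroup (Fin 2) F :=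
  ⟨!![s, 0; 0, s], by simp [det_fin_two, hs]⟩

theorem ringChar_ne_two [Fintype F] (hodd : Odd (Fintype.card F)) : ringChar F ≠ 2 := by
  intro h
  have := FiniteField.even_card_of_char_two h
  rw [Nat.odd_iff] at hodd
  omega

theorem two_ne_zero' [Fintype F] (hodd : Odd (Fintype.card F)) : (2 : F) ≠ 0 :=
  Ring.two_ne_zero (ringChar_ne_two hodd)

theorem conj_of (g h : Matrix.SpecialLinearGroup (Fin 2) F) (Q : Matrix (Fin 2) (Fin 2) F)
    (hQ : Q.det = 1)
    (hc : (g : Matrix (Fin 2) (Fin 2) F) * Q = Q * (h : Matrix (Fin 2) (Fin 2) F)) :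
    IsConj g h := by
  apply IsConj.symm
  rw [isConj_iff]
  set c : Matrix.SpecialLinearGroup (Fin 2) F := ⟨Q, hQ⟩ with hcdef
  refine ⟨c, ?_⟩
  rw [mul_inv_eq_iff_eq_mul]
  apply Subtype.ext
  rw [Matrix.SpecialLinearGroup.coe_mul, Matrix.SpecialLinearGroup.coe_mul]
  exact hc.symm

theorem of_conj (g h : Matrix.SpecialLinearGroup (Fin 2) F) (hc : IsConj g h) :
    ∃ Q : Matrix.SpecialLinearGroup (Fin 2) F,
      (Q : Matrix (Fin 2) (Fin 2) F) * (g : Matrix (Fin 2) (Fin 2) F) =
        (h : Matrix (Fin 2) (Fin 2) F) * (Q : Matrix (Fin 2) (Fin 2) F) := by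
  obtain ⟨c, hc⟩ := isConj_iff.mp hc
  refine ⟨c, ?_⟩
  have h2 : c * g = h * c := by rw [← hc]; group
  have := congrArg (fun g : Matrix.SpecialLinearGroup (Fin 2) F =>
    (g : Matrix (Fin 2) (Fin 2) F)) h2
  simpa only [Matrix.SpecialLinearGroup.coe_mul] using this

theorem trace_eq_of_conj (g h : Matrix.SpecialLinearGroup (Fin 2) F) (hc : IsConj g h) :
    (g : Matrix (Fin 2) (Fin 2) F).trace = (h : Matrix (Fin 2) (Fin 2) F).trace := by
  obtain ⟨c, h3⟩ := of_conj g h hc
  have hcu : IsUnit (c : Matrix (Fin 2) (Fin 2) F) := by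
    rw [Matrix.isUnit_iff_isUnit_det, c.det_coe]; exact isUnit_one
  obtain ⟨u, hu⟩ := hcu
  have h4 : (h : Matrix (Fin 2) (Fin 2) F) =
      (u : Matrix (Fin 2) (Fin 2) F) * (g : Matrix (Fin 2) (Fin 2) F) * (u⁻¹ : (Matrix (Fin 2) (Fin 2) F)ˣ) := by
    rw [hu, h3, mul_assoc, ← hu, Units.mul_inv, mul_one]
  have := congrArg Matrix.trace h4
  rw [Matrix.trace_units_conj] at this
  exact this.symm

/-- norm form is universal when the discriminant is non-zero -/
theorem exists_norm [Fintype F] (hodd : Odd (Fintype.card F)) (t : F) (ht : t ^ 2 ≠ 4) (d : F) :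
    ∃ a b : F, a ^ 2 + a * b * t + b ^ 2 = d := by
  classical
  have h2 : (2 : F) ≠ 0 := two_ne_zero' hodd
  have h4 : (4 : F) ≠ 0 := by
    have : (4 : F) = 2 * 2 := by norm_num
    rw [this]; exact mul_ne_zero h2 h2
  set c : F := 1 - t ^ 2 / 4 with hc
  have hc0 : c ≠ 0 := by
    rw [hc]
    intro h
    apply ht
    field_simp at h
    linear_combination -h
  have hf : (Polynomial.X ^ 2 - Polynomial.C d : Polynomial F).degree = 2 := by
    rw [Polynomial.degree_X_pow_sub_C (by norm_num)]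
    rfl
  have hg : (Polynomial.C c * Polynomial.X ^ 2 : Polynomial F).degree = 2 := by
    rw [Polynomial.degree_C_mul_X_pow 2 hc0]
    rfl
  obtain ⟨u, b, hub⟩ := FiniteField.exists_root_sum_quadratic hf hg
    (Nat.odd_iff.mp hodd)
  simp only [Polynomial.eval_sub, Polynomial.eval_pow, Polynomial.eval_X, Polynomial.eval_C,
    Polynomial.eval_mul] at hub
  refine ⟨u - b * t / 2, b, ?_⟩
  rw [hc] at hub
  field_simp
  field_simp at hub
  linear_combination hub


theorem exists_intertwiner (g h : Matrix.SpecialLinearGroup (Fin 2) F)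
    (hg : NS (g : Matrix (Fin 2) (Fin 2) F)) (hh : NS (h : Matrix (Fin 2) (Fin 2) F))
    (ht : (g : Matrix (Fin 2) (Fin 2) F).trace = (h : Matrix (Fin 2) (Fin 2) F).trace) :
    ∃ R : Matrix (Fin 2) (Fin 2) F, R.det ≠ 0 ∧
      (g : Matrix (Fin 2) (Fin 2) F) * R = R * (h : Matrix (Fin 2) (Fin 2) F) := by
  obtain ⟨P, hP, h1⟩ := conj_comp (g : Matrix (Fin 2) (Fin 2) F) hg
  obtain ⟨P₁, hP₁, h2⟩ := conj_comp (h : Matrix (Fin 2) (Fin 2) F) hh
  rw [g.det_coe] at h1
  rw [h.det_coe, ← ht] at h2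
  set C := compMat (g : Matrix (Fin 2) (Fin 2) F).trace 1 with hC
  have h3 : P₁.adjugate * (h : Matrix (Fin 2) (Fin 2) F) = C * P₁.adjugate := by
    have e1 : P₁.adjugate * ((h : Matrix (Fin 2) (Fin 2) F) * P₁) * P₁.adjugate =
        P₁.det • (P₁.adjugate * (h : Matrix (Fin 2) (Fin 2) F)) := by
      rw [mul_assoc, mul_assoc, Matrix.mul_adjugate, Matrix.mul_smul, Matrix.mul_one,
        Matrix.mul_smul]
    have e2 : P₁.adjugate * (P₁ * C) * P₁.adjugate = P₁.det • (C * P₁.adjugate) := by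
      rw [← mul_assoc, Matrix.adjugate_mul, Matrix.smul_mul, Matrix.one_mul, Matrix.smul_mul]
    rw [h2, e2] at e1
    exact (smul_right_injective _ hP₁ e1).symm
  refine ⟨P * P₁.adjugate, ?_, ?_⟩
  · rw [Matrix.det_mul, Matrix.det_adjugate, Fintype.card_fin]
    simpa using mul_ne_zero hP hP₁
  · rw [← mul_assoc, h1, mul_assoc, ← h3, mul_assoc]

theorem conj_C'_odd [Fintype F] (hodd : Odd (Fintype.card F))
    (g : Matrix.SpecialLinearGroup (Fin 2) F)
    (hg : NS (g : Matrix (Fin 2) (Fin 2) F))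
    (ht : (g : Matrix (Fin 2) (Fin 2) F).trace ^ 2 ≠ 4) :
    IsConj g (C' (g : Matrix (Fin 2) (Fin 2) F).trace) := by
  obtain ⟨P, hP, h⟩ := conj_comp (g : Matrix (Fin 2) (Fin 2) F) hg
  rw [g.det_coe] at h
  set t := (g : Matrix (Fin 2) (Fin 2) F).trace with htdef
  obtain ⟨a, b, hab⟩ := exists_norm hodd t ht (P.det)⁻¹
  set Z : Matrix (Fin 2) (Fin 2) F := !![a, -b; b, a + b * t] with hZ
  have hZC : compMat t 1 * Z = Z * compMat t 1 := by
    rw [hZ]; unfold compMat
    rw [Matrix.mul_fin_two, Matrix.mul_fin_two]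
    ext i j; fin_cases i <;> fin_cases j <;> simp <;> ring
  have hZdet : Z.det = (P.det)⁻¹ := by
    rw [hZ, Matrix.det_fin_two_of, ← hab]; ring
  apply conj_of g (C' t) (P * Z)
  · rw [Matrix.det_mul, hZdet, mul_inv_cancel₀ hP]
  · show (g : Matrix (Fin 2) (Fin 2) F) * (P * Z) = P * Z * compMat t 1
    rw [← mul_assoc, h, mul_assoc, hZC, mul_assoc]

theorem V_NS (s b : F) (hs : s * s = 1) (hb : b ≠ 0) :
    NS ((V s b hs : Matrix.SpecialLinearGroup (Fin 2) F) : Matrix (Fin 2) (Fin 2) F) := by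
  left
  simpa [V] using hb

theorem V_trace (s b : F) (hs : s * s = 1) :
    ((V s b hs : Matrix.SpecialLinearGroup (Fin 2) F) : Matrix (Fin 2) (Fin 2) F).trace = 2 * s := by
  simp [V, Matrix.trace_fin_two]; ring

theorem conj_V (g : Matrix.SpecialLinearGroup (Fin 2) F)
    (hg : NS (g : Matrix (Fin 2) (Fin 2) F)) (s : F) (hs : s * s = 1)
    (ht : (g : Matrix (Fin 2) (Fin 2) F).trace = 2 * s) :
    ∃ b : F, b ≠ 0 ∧ IsConj g (V s b hs) := by
  obtain ⟨R, hR, h⟩ := exists_intertwiner g (V s 1 hs) hg (V_NS s 1 hs one_ne_zero)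
    (by rw [ht, V_trace])
  refine ⟨R.det, hR, ?_⟩
  apply conj_of g _ (R * !![(R.det)⁻¹, 0; 0, 1])
  · rw [Matrix.det_mul, Matrix.det_fin_two_of]
    simp [hR]
  · rw [← mul_assoc, h, mul_assoc, mul_assoc]
    congr 1
    show !![s, 1; 0, s] * !![(R.det)⁻¹, 0; 0, 1] = !![(R.det)⁻¹, 0; 0, 1] * !![s, R.det; 0, s]
    rw [Matrix.mul_fin_two, Matrix.mul_fin_two]
    ext i j; fin_cases i <;> fin_cases j <;> simp <;> field_simp

theorem V_conj_iff (s : F) (hs : s * s = 1) (b b' : F) (hb : b ≠ 0) (hb' : b' ≠ 0) :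
    IsConj (V s b hs) (V s b' hs) ↔ IsSquare (b * b') := by
  constructor
  · intro hc
    obtain ⟨Q, hQ⟩ := of_conj _ _ hc
    have hdet := Q.det_coe
    rw [Matrix.det_fin_two] at hdet
    have e00 := congrFun (congrFun hQ 0) 0
    have e01 := congrFun (congrFun hQ 0) 1
    simp [V, Matrix.mul_apply, Fin.sum_univ_two] at e00 e01
    set x := (Q : Matrix (Fin 2) (Fin 2) F) 0 0
    set y := (Q : Matrix (Fin 2) (Fin 2) F) 0 1
    set z := (Q : Matrix (Fin 2) (Fin 2) F) 1 0
    set w := (Q : Matrix (Fin 2) (Fin 2) F) 1 1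
    have hz : z = 0 := by
      have : b' * z = 0 := by linear_combination -e00
      rcases mul_eq_zero.mp this with h | h
      · exact absurd h hb'
      · exact h
    rw [hz] at hdet
    refine ⟨x * b, ?_⟩
    have : x * b = b' * w := by linear_combination e01
    linear_combination (-(b * b')) * hdet - (x * b) * this
  · rintro ⟨c, hc⟩
    have hc0 : c ≠ 0 := by
      rintro rfl
      rw [mul_zero] at hc
      exact mul_ne_zero hb hb' hc
    apply IsConj.symm
    apply conj_of _ _ !![c / b, 0; 0, b / c]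
    · rw [Matrix.det_fin_two_of]; field_simp; ring
    · show !![s, b'; 0, s] * !![c / b, 0; 0, b / c] = !![c / b, 0; 0, b / c] * !![s, b; 0, s]
      rw [Matrix.mul_fin_two, Matrix.mul_fin_two]
      ext i j; fin_cases i <;> fin_cases j <;> simp <;> field_simp
      linear_combination hc


theorem scalar_conj' (g h : Matrix.SpecialLinearGroup (Fin 2) F)
    (hg : ¬ NS (g : Matrix (Fin 2) (Fin 2) F)) (hc : IsConj g h) : h = g := by
  obtain ⟨c, hc⟩ := isConj_iff.mp hc
  rw [← hc]
  apply Subtype.ext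
  rw [Matrix.SpecialLinearGroup.coe_mul, Matrix.SpecialLinearGroup.coe_mul,
    (not_NS_iff _).mp hg, Matrix.mul_smul, Matrix.smul_mul,
    mul_one, ← Matrix.SpecialLinearGroup.coe_mul, mul_inv_cancel]
  rfl

theorem NS_of_conj (g h : Matrix.SpecialLinearGroup (Fin 2) F)
    (hg : NS (g : Matrix (Fin 2) (Fin 2) F)) (hc : IsConj g h) :
    NS (h : Matrix (Fin 2) (Fin 2) F) := by
  by_contra hh
  have := scalar_conj' h g hh hc.symm
  rw [this] at hg
  exact hh hg

theorem Zs_not_NS (s : F) (hs : s * s = 1) :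
    ¬ NS ((Zs s hs : Matrix.SpecialLinearGroup (Fin 2) F) : Matrix (Fin 2) (Fin 2) F) := by
  unfold NS
  simp [Zs]

/-- sign -/
def sgn (s : Bool) : F := if s then -1 else 1

theorem sgn_mul (s : Bool) : (sgn s : F) * sgn s = 1 := by
  cases s <;> simp [sgn]

theorem sgn_inj (h2 : (2 : F) ≠ 0) (s s' : Bool) (h : (sgn s : F) = sgn s') : s = s' := by
  have : (1 : F) ≠ -1 := by
    intro h1
    apply h2
    linear_combination h1
  cases s <;> cases s' <;> simp [sgn] at h ⊢
  · exact this h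
  · exact this h.symm

theorem sq_eq_one (s : F) (hs : s * s = 1) : ∃ e : Bool, s = sgn e := by
  have : (s - 1) * (s + 1) = 0 := by linear_combination hs
  rcases mul_eq_zero.mp this with h | h
  · exact ⟨false, by simp [sgn]; linear_combination h⟩
  · exact ⟨true, by simp [sgn]; linear_combination h⟩

/-- representative of the square class -/
def nsq (ν : F) (e : Bool) : F := if e then ν else 1

theorem nsq_ne (ν : F) (hν : ¬ IsSquare ν) (e : Bool) : nsq ν e ≠ 0 := by
  cases e
  · simp [nsq]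
  · simp only [nsq, if_true]
    rintro rfl
    exact hν ⟨0, by simp⟩

theorem nonsq_mul [Fintype F] (hodd : Odd (Fintype.card F)) (a b : F)
    (ha : ¬ IsSquare a) (hb : ¬ IsSquare b) : IsSquare (a * b) := by
  have hF := ringChar_ne_two hodd
  have ha0 : a ≠ 0 := by rintro rfl; exact ha ⟨0, by simp⟩
  have hb0 : b ≠ 0 := by rintro rfl; exact hb ⟨0, by simp⟩
  rw [FiniteField.isSquare_iff hF ha0] at ha
  rw [FiniteField.isSquare_iff hF hb0] at hb
  rw [FiniteField.isSquare_iff hF (mul_ne_zero ha0 hb0), mul_pow]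
  rcases FiniteField.pow_dichotomy hF ha0 with h | h
  · exact absurd h ha
  rcases FiniteField.pow_dichotomy hF hb0 with h' | h'
  · exact absurd h' hb
  rw [h, h']; ring

theorem card_t [Fintype F] [DecidableEq F] (hodd : Odd (Fintype.card F)) :
    Fintype.card {t : F // t ^ 2 ≠ 4} + 2 = Fintype.card F := by
  have h2 : (2 : F) ≠ 0 := two_ne_zero' hodd
  have h1 : Fintype.card {t : F // t ^ 2 = 4} = 2 := by
    have : ∀ t : F, t ^ 2 = 4 ↔ t ∈ ({2, -2} : Finset F) := by
      intro t
      rw [Finset.mem_insert, Finset.mem_singleton]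
      constructor
      · intro h
        have : (t - 2) * (t + 2) = 0 := by linear_combination h
        rcases mul_eq_zero.mp this with h | h
        · left; linear_combination h
        · right; linear_combination h
      · rintro (rfl | rfl) <;> ring
    rw [Fintype.card_congr (Equiv.subtypeEquivRight this), Fintype.card_coe,
      Finset.card_pair]
    intro h
    apply h2
    have : (2 : F) * 2 = 0 := by linear_combination h
    rcases mul_eq_zero.mp this with h | h <;> exact h
  have := Fintype.card_subtype_compl (fun t : F => t ^ 2 = 4)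
  rw [h1] at this
  have hle : 2 ≤ Fintype.card F := by
    rw [← h1]; exact Fintype.card_subtype_le _
  change Fintype.card {t : F // t ^ 2 ≠ 4} = _ at this
  omega

theorem sl2_classes_odd [Fintype F] (hodd : Odd (Fintype.card F)) :
    Nat.card (ConjClasses (Matrix.SpecialLinearGroup (Fin 2) F)) = Fintype.card F + 4 := by
  classical
  have hF := ringChar_ne_two hodd
  have h2 : (2 : F) ≠ 0 := two_ne_zero' hodd
  obtain ⟨ν, hν⟩ := FiniteField.exists_nonsquare hF
  let ψ : Bool ⊕ ({t : F // t ^ 2 ≠ 4} ⊕ (Bool × Bool)) →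
      ConjClasses (Matrix.SpecialLinearGroup (Fin 2) F) :=
    Sum.elim (fun s => ConjClasses.mk (Zs (sgn s) (sgn_mul s)))
      (Sum.elim (fun t => ConjClasses.mk (C' t.1))
        (fun p => ConjClasses.mk (V (sgn p.1) (nsq ν p.2) (sgn_mul p.1))))
  have hinj : Function.Injective ψ := by
    rintro (s | t | ⟨s, e⟩) (s' | t' | ⟨s', e'⟩) h
    · have h1 : IsConj (Zs (sgn s) (sgn_mul s)) (Zs (sgn s') (sgn_mul s')) :=
        ConjClasses.mk_eq_mk_iff_isConj.mp h
      have h2' := scalar_conj' _ _ (Zs_not_NS _ _) h1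
      have h3 := congrArg (fun g : Matrix.SpecialLinearGroup (Fin 2) F =>
        (g : Matrix (Fin 2) (Fin 2) F) 0 0) h2'
      simp [Zs] at h3
      rw [sgn_inj h2 _ _ h3]
    · exfalso
      have h1 : IsConj (Zs (sgn s) (sgn_mul s)) (C' t'.1) :=
        ConjClasses.mk_eq_mk_iff_isConj.mp h
      have h2' := scalar_conj' _ _ (Zs_not_NS _ _) h1
      apply Zs_not_NS (sgn s : F) (sgn_mul s)
      rw [← h2']
      exact compMat_NS _ _
    · exfalso
      have h1 : IsConj (Zs (sgn s) (sgn_mul s)) (V (sgn s') (nsq ν e') (sgn_mul s')) :=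
        ConjClasses.mk_eq_mk_iff_isConj.mp h
      have h2' := scalar_conj' _ _ (Zs_not_NS _ _) h1
      apply Zs_not_NS (sgn s : F) (sgn_mul s)
      rw [← h2']
      exact V_NS _ _ _ (nsq_ne ν hν e')
    · exfalso
      have h1 : IsConj (C' t.1) (Zs (sgn s') (sgn_mul s')) :=
        ConjClasses.mk_eq_mk_iff_isConj.mp h
      have h2' := scalar_conj' _ _ (Zs_not_NS _ _) h1.symm
      apply Zs_not_NS (sgn s' : F) (sgn_mul s')
      rw [← h2']
      exact compMat_NS _ _
    · have h1 : IsConj (C' t.1) (C' t'.1) := ConjClasses.mk_eq_mk_iff_isConj.mp h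
      have h3 := trace_eq_of_conj _ _ h1
      simp only [C'] at h3
      rw [compMat_trace, compMat_trace] at h3
      rw [Subtype.ext h3]
    · exfalso
      have h1 : IsConj (C' t.1) (V (sgn s') (nsq ν e') (sgn_mul s')) :=
        ConjClasses.mk_eq_mk_iff_isConj.mp h
      have h3 := trace_eq_of_conj _ _ h1
      rw [V_trace] at h3
      simp only [C'] at h3
      rw [compMat_trace] at h3
      apply t.2
      rw [h3]
      linear_combination (4 : F) * (sgn_mul s' : (sgn s' : F) * sgn s' = 1)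
    · exfalso
      have h1 : IsConj (V (sgn s) (nsq ν e) (sgn_mul s)) (Zs (sgn s') (sgn_mul s')) :=
        ConjClasses.mk_eq_mk_iff_isConj.mp h
      have h2' := scalar_conj' _ _ (Zs_not_NS _ _) h1.symm
      apply Zs_not_NS (sgn s' : F) (sgn_mul s')
      rw [← h2']
      exact V_NS _ _ _ (nsq_ne ν hν e)
    · exfalso
      have h1 : IsConj (V (sgn s) (nsq ν e) (sgn_mul s)) (C' t'.1) :=
        ConjClasses.mk_eq_mk_iff_isConj.mp h
      have h3 := trace_eq_of_conj _ _ h1
      rw [V_trace] at h3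
      simp only [C'] at h3
      rw [compMat_trace] at h3
      apply t'.2
      rw [← h3]
      linear_combination (4 : F) * (sgn_mul s : (sgn s : F) * sgn s = 1)
    · have h1 : IsConj (V (sgn s) (nsq ν e) (sgn_mul s)) (V (sgn s') (nsq ν e') (sgn_mul s')) :=
        ConjClasses.mk_eq_mk_iff_isConj.mp h
      have h3 := trace_eq_of_conj _ _ h1
      rw [V_trace, V_trace] at h3
      have h4 : s = s' := sgn_inj h2 _ _ (mul_left_cancel₀ h2 h3)
      subst h4
      rw [V_conj_iff _ _ _ _ (nsq_ne ν hν e) (nsq_ne ν hν e')] at h1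
      have : e = e' := by
        cases e <;> cases e' <;> simp [nsq] at h1 ⊢
        · exact hν h1
        · exact hν h1
      rw [this]
  have hsurj : Function.Surjective ψ := by
    intro cl
    obtain ⟨g, rfl⟩ := ConjClasses.mk_surjective cl
    by_cases hg : NS (g : Matrix (Fin 2) (Fin 2) F)
    · by_cases ht : (g : Matrix (Fin 2) (Fin 2) F).trace ^ 2 = 4
      · have : ((g : Matrix (Fin 2) (Fin 2) F).trace / 2) * ((g : Matrix (Fin 2) (Fin 2) F).trace / 2) = 1 := by
          field_simp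
          linear_combination ht
        obtain ⟨s, hs⟩ := sq_eq_one _ this
        have ht2 : (g : Matrix (Fin 2) (Fin 2) F).trace = 2 * sgn s := by
          rw [← hs]; field_simp
        obtain ⟨b, hb, hconj⟩ := conj_V g hg (sgn s) (sgn_mul s) ht2
        by_cases hbs : IsSquare b
        · refine ⟨Sum.inr (Sum.inr (s, false)), ?_⟩
          show ConjClasses.mk (V (sgn s) (nsq ν false) (sgn_mul s)) = ConjClasses.mk g
          rw [ConjClasses.mk_eq_mk_iff_isConj]
          refine IsConj.trans ?_ hconj.symm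
          rw [V_conj_iff _ _ _ _ (nsq_ne ν hν false) hb]
          simpa [nsq] using hbs
        · refine ⟨Sum.inr (Sum.inr (s, true)), ?_⟩
          show ConjClasses.mk (V (sgn s) (nsq ν true) (sgn_mul s)) = ConjClasses.mk g
          rw [ConjClasses.mk_eq_mk_iff_isConj]
          refine IsConj.trans ?_ hconj.symm
          rw [V_conj_iff _ _ _ _ (nsq_ne ν hν true) hb]
          simpa [nsq] using nonsq_mul hodd ν b hν hbs
      · refine ⟨Sum.inr (Sum.inl ⟨(g : Matrix (Fin 2) (Fin 2) F).trace, ht⟩), ?_⟩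
        exact (ConjClasses.mk_eq_mk_iff_isConj.mpr (conj_C'_odd hodd g hg ht)).symm
    · have h1 := (not_NS_iff _).mp hg
      set a := (g : Matrix (Fin 2) (Fin 2) F) 0 0 with ha
      have hdet := g.det_coe
      rw [h1, Matrix.det_smul, Fintype.card_fin, Matrix.det_one, mul_one] at hdet
      obtain ⟨s, hs⟩ := sq_eq_one a (by rw [← hdet]; ring)
      refine ⟨Sum.inl s, ?_⟩
      show ConjClasses.mk (Zs (sgn s) (sgn_mul s)) = ConjClasses.mk g
      congr 1
      apply Subtype.ext
      rw [h1, hs]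
      ext i j; fin_cases i <;> fin_cases j <;> simp [Zs]
  rw [← Nat.card_congr (Equiv.ofBijective ψ ⟨hinj, hsurj⟩), Nat.card_eq_fintype_card,
    Fintype.card_sum, Fintype.card_sum, Fintype.card_prod, Fintype.card_bool, ← card_t hodd]
  omega

end Cfsg.Agent.Lib.Helper4_SL2Odd
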