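import Mathlib
import Cfsg.Prelude.Def_ParabolicCharacters
import Cfsg.Agent.Lib.Helper4_SL2Odd

namespace Cfsg.Agent.Lib.Helper4_SL2Borel
open Matrix Cfsg.Agent.Lib.Helper4_SL2Odd

variable {F : Type*} [Field F]

/-- the Borel subgroup -/
abbrev Bor (F : Type*) [Field F] : Subgroup (Matrix.SpecialLinearGroup (Fin 2) F) :=
  (Cfsg.upperTriangularGL 2 F).comap Matrix.SpecialLinearGroup.toGL

theorem mem_Bor (g : Matrix.SpecialLinearGroup (Fin 2) F) :
    g ∈ Bor F ↔ (g : Matrix (Fin 2) (Fin 2) F) 1 0 = 0 := by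
  show (g : Matrix (Fin 2) (Fin 2) F).BlockTriangular id ↔ _
  constructor
  · intro h
    exact h (show (id (0 : Fin 2)) < id 1 by decide)
  · intro h i j hij
    fin_cases i <;> fin_cases j <;> simp at hij ⊢
    exact h

/-- triangular element -/
def T0 (a : Fˣ) (b : F) : Matrix.SpecialLinearGroup (Fin 2) F :=
  ⟨!![(a : F), b; 0, ((a⁻¹ : Fˣ) : F)], by simp [det_fin_two]⟩

/-- triangular element -/
def T (a : Fˣ) (b : F) : Bor F :=
  ⟨T0 a b, (mem_Bor _).mpr (by simp [T0])⟩

theorem T_val (a : Fˣ) (b : F) :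
    (((T a b : Bor F) : Matrix.SpecialLinearGroup (Fin 2) F) : Matrix (Fin 2) (Fin 2) F) =
      !![(a : F), b; 0, ((a⁻¹ : Fˣ) : F)] := rfl

theorem eq_T (g : Bor F) : ∃ (a : Fˣ) (b : F), g = T a b := by
  obtain ⟨g, hg⟩ := g
  rw [mem_Bor] at hg
  have hdet := g.det_coe
  rw [Matrix.det_fin_two, hg, mul_zero, sub_zero] at hdet
  refine ⟨Units.mkOfMulEqOne _ _ hdet, (g : Matrix (Fin 2) (Fin 2) F) 0 1, ?_⟩
  apply Subtype.ext
  apply Subtype.ext
  rw [T_val]
  ext i j
  fin_cases i <;> fin_cases j <;> simp [hg]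
  exact (inv_eq_of_mul_eq_one_right hdet).symm

theorem T_mul (a a' : Fˣ) (b b' : F) :
    T a b * T a' b' = T (a * a') ((a : F) * b' + b * ((a'⁻¹ : Fˣ) : F)) := by
  apply Subtype.ext
  apply Subtype.ext
  rw [Subgroup.coe_mul, Matrix.SpecialLinearGroup.coe_mul, T_val, T_val, T_val,
    Matrix.mul_fin_two]
  ext i j
  fin_cases i <;> fin_cases j <;> simp [mul_comm]

theorem T_inj (a a' : Fˣ) (b b' : F) (h : T a b = T a' b') : a = a' ∧ b = b' := by
  have h' := congrArg (fun g : Bor F =>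
    ((g : Matrix.SpecialLinearGroup (Fin 2) F) : Matrix (Fin 2) (Fin 2) F)) h
  simp only [T_val] at h'
  have e00 := congrFun (congrFun h' 0) 0
  have e01 := congrFun (congrFun h' 0) 1
  simp at e00 e01
  exact ⟨Units.ext e00, e01⟩

theorem conj_iff (a a' : Fˣ) (b b' : F) :
    IsConj (T a b) (T a' b') ↔ a = a' ∧ ∃ (x : Fˣ) (y : F),
      (x : F) * b + y * ((a⁻¹ : Fˣ) : F) = (a : F) * y + b' * ((x⁻¹ : Fˣ) : F) := by
  rw [isConj_iff]
  constructor
  · rintro ⟨c, hc⟩
    obtain ⟨x, y, rfl⟩ := eq_T c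
    rw [mul_inv_eq_iff_eq_mul, T_mul, T_mul] at hc
    obtain ⟨h1, h2⟩ := T_inj _ _ _ _ hc
    have haa : a = a' := by
      rw [mul_comm] at h1
      exact mul_right_cancel h1
    subst haa
    exact ⟨rfl, x, y, h2⟩
  · rintro ⟨rfl, x, y, h⟩
    refine ⟨T x y, ?_⟩
    rw [mul_inv_eq_iff_eq_mul, T_mul, T_mul, h, mul_comm]


/-- sign as a unit -/
def sgnU (s : Bool) : Fˣ := if s then -1 else 1

theorem sgnU_val (s : Bool) : ((sgnU s : Fˣ) : F) = sgn s := by
  cases s <;> simp [sgnU, sgn]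

theorem sgnU_inv (s : Bool) : (sgnU s : Fˣ)⁻¹ = sgnU s := by
  cases s <;> simp [sgnU]

theorem sgnU_sq (s : Bool) : (sgnU s : Fˣ) ^ 2 = 1 := by
  cases s <;> simp [sgnU]

theorem sgnU_inj (h2 : (2 : F) ≠ 0) (s s' : Bool) (h : (sgnU s : Fˣ) = sgnU s') : s = s' := by
  apply sgn_inj h2
  rw [← sgnU_val, ← sgnU_val, h]

theorem unit_sq_eq_one (a : Fˣ) (ha : a ^ 2 = 1) : ∃ s : Bool, a = sgnU s := by
  have : (a : F) * a = 1 := by
    rw [← Units.val_mul, ← pow_two, ha]; rfl
  obtain ⟨s, hs⟩ := sq_eq_one (a : F) this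
  exact ⟨s, Units.ext (by rw [hs, sgnU_val])⟩

theorem card_a [Fintype F] [DecidableEq F] (hodd : Odd (Fintype.card F)) :
    Fintype.card {a : Fˣ // a ^ 2 ≠ 1} + 3 = Fintype.card F := by
  have h2 : (2 : F) ≠ 0 := two_ne_zero' hodd
  have h1 : Fintype.card {a : Fˣ // a ^ 2 = 1} = 2 := by
    have : ∀ a : Fˣ, a ^ 2 = 1 ↔ a ∈ ({1, -1} : Finset Fˣ) := by
      intro a
      rw [Finset.mem_insert, Finset.mem_singleton]
      constructor
      · intro h
        obtain ⟨s, rfl⟩ := unit_sq_eq_one a h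
        cases s
        · left; rfl
        · right; rfl
      · rintro (rfl | rfl) <;> simp
    rw [Fintype.card_congr (Equiv.subtypeEquivRight this), Fintype.card_coe,
      Finset.card_pair]
    intro h
    apply h2
    have := congrArg Units.val h
    simp at this
    linear_combination this
  have := Fintype.card_subtype_compl (fun a : Fˣ => a ^ 2 = 1)
  rw [h1, Fintype.card_units] at this
  have hle : 2 ≤ Fintype.card Fˣ := by
    rw [← h1]; exact Fintype.card_subtype_le _
  rw [Fintype.card_units] at hle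
  change Fintype.card {a : Fˣ // a ^ 2 ≠ 1} = _ at this
  omega

theorem borel_classes [Fintype F] (hodd : Odd (Fintype.card F)) :
    Nat.card (ConjClasses (Bor F)) = Fintype.card F + 3 := by
  classical
  have hF := ringChar_ne_two hodd
  have h2 : (2 : F) ≠ 0 := two_ne_zero' hodd
  obtain ⟨ν, hν⟩ := FiniteField.exists_nonsquare hF
  let ψ : {a : Fˣ // a ^ 2 ≠ 1} ⊕ (Bool ⊕ (Bool × Bool)) → ConjClasses (Bor F) :=
    Sum.elim (fun a => ConjClasses.mk (T a.1 0))
      (Sum.elim (fun s => ConjClasses.mk (T (sgnU s) 0))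
        (fun p => ConjClasses.mk (T (sgnU p.1) (nsq ν p.2))))
  have hinj : Function.Injective ψ := by
    rintro (a | s | ⟨s, e⟩) (a' | s' | ⟨s', e'⟩) h
    · have h1 : IsConj (T a.1 (0 : F)) (T a'.1 0) := ConjClasses.mk_eq_mk_iff_isConj.mp h
      rw [conj_iff] at h1
      rw [Subtype.ext h1.1]
    · exfalso
      have h1 : IsConj (T a.1 (0 : F)) (T (sgnU s') 0) := ConjClasses.mk_eq_mk_iff_isConj.mp h
      rw [conj_iff] at h1
      apply a.2
      rw [h1.1, sgnU_sq]
    · exfalso
      have h1 : IsConj (T a.1 (0 : F)) (T (sgnU s') (nsq ν e')) :=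
        ConjClasses.mk_eq_mk_iff_isConj.mp h
      rw [conj_iff] at h1
      apply a.2
      rw [h1.1, sgnU_sq]
    · exfalso
      have h1 : IsConj (T (sgnU s) (0 : F)) (T a'.1 0) := ConjClasses.mk_eq_mk_iff_isConj.mp h
      rw [conj_iff] at h1
      apply a'.2
      rw [← h1.1, sgnU_sq]
    · have h1 : IsConj (T (sgnU s) (0 : F)) (T (sgnU s') 0) :=
        ConjClasses.mk_eq_mk_iff_isConj.mp h
      rw [conj_iff] at h1
      rw [sgnU_inj h2 _ _ h1.1]
    · exfalso
      have h1 : IsConj (T (sgnU s) (0 : F)) (T (sgnU s') (nsq ν e')) :=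
        ConjClasses.mk_eq_mk_iff_isConj.mp h
      rw [conj_iff] at h1
      obtain ⟨-, x, y, hxy⟩ := h1
      rw [sgnU_inv] at hxy
      have : nsq ν e' * ((x⁻¹ : Fˣ) : F) = 0 := by linear_combination -hxy
      rcases mul_eq_zero.mp this with h | h
      · exact nsq_ne ν hν e' h
      · exact (x⁻¹).ne_zero h
    · exfalso
      have h1 : IsConj (T (sgnU s) (nsq ν e)) (T a'.1 (0 : F)) :=
        ConjClasses.mk_eq_mk_iff_isConj.mp h
      rw [conj_iff] at h1
      apply a'.2
      rw [← h1.1, sgnU_sq]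
    · exfalso
      have h1 : IsConj (T (sgnU s) (nsq ν e)) (T (sgnU s') (0 : F)) :=
        ConjClasses.mk_eq_mk_iff_isConj.mp h
      rw [conj_iff] at h1
      obtain ⟨-, x, y, hxy⟩ := h1
      rw [sgnU_inv] at hxy
      have : (x : F) * nsq ν e = 0 := by linear_combination hxy
      rcases mul_eq_zero.mp this with h | h
      · exact x.ne_zero h
      · exact nsq_ne ν hν e h
    · have h1 : IsConj (T (sgnU s) (nsq ν e)) (T (sgnU s') (nsq ν e')) :=
        ConjClasses.mk_eq_mk_iff_isConj.mp h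
      rw [conj_iff] at h1
      obtain ⟨hs, x, y, hxy⟩ := h1
      have hss := sgnU_inj h2 _ _ hs
      subst hss
      rw [sgnU_inv] at hxy
      have h3 : (x : F) * nsq ν e = nsq ν e' * ((x⁻¹ : Fˣ) : F) := by linear_combination hxy
      have h4 : nsq ν e' = (x : F) * (x : F) * nsq ν e := by
        have hx : ((x⁻¹ : Fˣ) : F) * (x : F) = 1 := by
          rw [← Units.val_mul, inv_mul_cancel]; rfl
        linear_combination (-(x : F)) * h3 - (nsq ν e') * hx
      have h5 : IsSquare (nsq ν e * nsq ν e') := ⟨(x : F) * nsq ν e, by rw [h4]; ring⟩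
      have : e = e' := by
        cases e <;> cases e' <;> simp [nsq] at h5 ⊢
        · exact hν h5
        · exact hν h5
      rw [this]
  have hsurj : Function.Surjective ψ := by
    intro cl
    obtain ⟨g, rfl⟩ := ConjClasses.mk_surjective cl
    obtain ⟨a, b, rfl⟩ := eq_T g
    by_cases ha : a ^ 2 = 1
    · obtain ⟨s, rfl⟩ := unit_sq_eq_one a ha
      by_cases hb : b = 0
      · subst hb
        exact ⟨Sum.inr (Sum.inl s), rfl⟩
      · by_cases hbs : IsSquare b
        · refine ⟨Sum.inr (Sum.inr (s, false)), ?_⟩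
          show ConjClasses.mk (T (sgnU s) (nsq ν false)) = _
          rw [ConjClasses.mk_eq_mk_iff_isConj, conj_iff]
          obtain ⟨c, hc⟩ := hbs
          have hc0 : c ≠ 0 := by
            rintro rfl; apply hb; rw [hc, mul_zero]
          refine ⟨rfl, Units.mk0 c hc0, 0, ?_⟩
          simp only [nsq, Units.val_mk0, zero_mul, mul_zero, add_zero, zero_add]
          rw [hc]
          simp only [Bool.false_eq_true, if_false]
          have : ((Units.mk0 c hc0)⁻¹ : Fˣ) = Units.mk0 c⁻¹ (inv_ne_zero hc0) := by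
            apply Units.ext; simp
          rw [this, Units.val_mk0]
          field_simp
        · refine ⟨Sum.inr (Sum.inr (s, true)), ?_⟩
          show ConjClasses.mk (T (sgnU s) (nsq ν true)) = _
          rw [ConjClasses.mk_eq_mk_iff_isConj, conj_iff]
          obtain ⟨c, hc⟩ := nonsq_mul hodd ν b hν hbs
          have hν0 : ν ≠ 0 := by rintro rfl; exact hν ⟨0, by simp⟩
          have hc0 : c ≠ 0 := by
            rintro rfl
            rw [mul_zero] at hc
            exact mul_ne_zero hν0 hb hc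
          refine ⟨rfl, Units.mk0 (c / ν) (div_ne_zero hc0 hν0), 0, ?_⟩
          simp only [nsq, Units.val_mk0, zero_mul, mul_zero, add_zero, zero_add, if_true]
          have : ((Units.mk0 (c / ν) (div_ne_zero hc0 hν0))⁻¹ : Fˣ) = Units.mk0 (ν / c) (div_ne_zero hν0 hc0) := by
            apply Units.ext; simp
          rw [this, Units.val_mk0]
          field_simp
          linear_combination -hc
    · refine ⟨Sum.inl ⟨a, ha⟩, ?_⟩
      show ConjClasses.mk (T a (0 : F)) = _
      rw [ConjClasses.mk_eq_mk_iff_isConj, conj_iff]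
      have hne : (a : F) - ((a⁻¹ : Fˣ) : F) ≠ 0 := by
        intro h
        apply ha
        apply Units.ext
        have hx : ((a⁻¹ : Fˣ) : F) * (a : F) = 1 := by
          rw [← Units.val_mul, inv_mul_cancel]; rfl
        rw [Units.val_pow_eq_pow_val, Units.val_one]
        linear_combination (a : F) * h + hx
      refine ⟨rfl, 1, -b / ((a : F) - ((a⁻¹ : Fˣ) : F)), ?_⟩
      simp only [mul_zero, zero_add, inv_one, Units.val_one, mul_one]
      field_simp
      ring
  rw [← Nat.card_congr (Equiv.ofBijective ψ ⟨hinj, hsurj⟩), Nat.card_eq_fintype_card,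
    Fintype.card_sum, Fintype.card_sum, Fintype.card_prod, Fintype.card_bool, ← card_a hodd]

end Cfsg.Agent.Lib.Helper4_SL2Borel
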