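import Mathlib
import Cfsg.Agent.Lib.Helper4_SL2Classes
import Cfsg.Agent.Lib.Helper4_SL2Card

namespace Cfsg.Agent.Lib.Helper4_SL2Cent
open Matrix Cfsg.Agent.Lib.Helper4_GL2Classes0 Cfsg.Agent.Lib.Helper4_SL2Classes
  Cfsg.Agent.Lib.Helper4_SL2Card

variable {F : Type*} [Field F]

/-- the norm form attached to the trace t -/
def Nf (t : F) (p : F × F) : F := p.1 ^ 2 + t * p.1 * p.2 + p.2 ^ 2

/-- the element x + z C -/
def Zel (t : F) (p : F × F) (hp : Nf t p = 1) : Matrix.SpecialLinearGroup (Fin 2) F :=
  ⟨!![p.1, -p.2; p.2, p.1 + t * p.2], by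
    rw [Matrix.det_fin_two_of, ← hp]; unfold Nf; ring⟩

theorem mem_centralizer_C' (t : F) (Q : Matrix.SpecialLinearGroup (Fin 2) F) :
    Q ∈ Subgroup.centralizer ({C' t} : Set (Matrix.SpecialLinearGroup (Fin 2) F)) ↔
      (Q : Matrix (Fin 2) (Fin 2) F) 0 1 = - (Q : Matrix (Fin 2) (Fin 2) F) 1 0 ∧
      (Q : Matrix (Fin 2) (Fin 2) F) 1 1 = (Q : Matrix (Fin 2) (Fin 2) F) 0 0 +
        t * (Q : Matrix (Fin 2) (Fin 2) F) 1 0 := by
  rw [Subgroup.mem_centralizer_iff]
  simp only [Set.mem_singleton_iff, forall_eq]
  constructor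
  · intro h
    have h' := congrArg (fun g : Matrix.SpecialLinearGroup (Fin 2) F =>
      (g : Matrix (Fin 2) (Fin 2) F)) h
    simp only [Matrix.SpecialLinearGroup.coe_mul] at h'
    have e00 := congrFun (congrFun h' 0) 0
    have e01 := congrFun (congrFun h' 0) 1
    simp [C', compMat, Matrix.mul_apply, Fin.sum_univ_two] at e00 e01
    constructor
    · linear_combination -e00
    · linear_combination -e01 + t * e00
  · rintro ⟨h1, h2⟩
    apply Subtype.ext
    rw [Matrix.SpecialLinearGroup.coe_mul, Matrix.SpecialLinearGroup.coe_mul]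
    rw [Matrix.eta_fin_two (Q : Matrix (Fin 2) (Fin 2) F), h1, h2]
    show compMat t 1 * _ = _ * compMat t 1
    unfold compMat
    rw [Matrix.mul_fin_two, Matrix.mul_fin_two]
    ext i j; fin_cases i <;> fin_cases j <;> simp <;> ring

/-- the centralizer of the companion matrix is the norm-one group -/
def centEquiv (t : F) :
    Subgroup.centralizer ({C' t} : Set (Matrix.SpecialLinearGroup (Fin 2) F)) ≃
      {p : F × F // Nf t p = 1} where
  toFun Q := ⟨((Q.1 : Matrix (Fin 2) (Fin 2) F) 0 0, (Q.1 : Matrix (Fin 2) (Fin 2) F) 1 0), by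
    obtain ⟨h1, h2⟩ := (mem_centralizer_C' t Q.1).mp Q.2
    have hdet := Q.1.det_coe
    rw [Matrix.det_fin_two, h1, h2] at hdet
    unfold Nf
    linear_combination hdet⟩
  invFun p := ⟨Zel t p.1 p.2, by
    rw [mem_centralizer_C']
    simp [Zel]⟩
  left_inv Q := by
    obtain ⟨h1, h2⟩ := (mem_centralizer_C' t Q.1).mp Q.2
    apply Subtype.ext
    apply Subtype.ext
    ext i j
    fin_cases i <;> fin_cases j <;> simp [Zel, h1, h2]
  right_inv p := by
    apply Subtype.ext
    simp [Zel]


section counts
variable [Fintype F]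

theorem card_N_zero [CharP F 2] : Nat.card {p : F × F // Nf (0 : F) p = 1} = Fintype.card F := by
  classical
  have key : ∀ p : F × F, Nf (0 : F) p = 1 ↔ p.2 = 1 + p.1 := by
    intro p
    unfold Nf
    have e : p.1 ^ 2 + 0 * p.1 * p.2 + p.2 ^ 2 = (p.1 + p.2) ^ 2 := by
      rw [add_pow_two]
      have : (2 : F) = 0 := CharTwo.two_eq_zero
      rw [this]
    rw [e]
    constructor
    · intro h
      have h1 : (p.1 + p.2 + 1) ^ 2 = 0 := by
        rw [add_pow_two, h]
        have : (2 : F) = 0 := CharTwo.two_eq_zero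
        rw [this]
        have h11 : (1 : F) + 1 = 0 := CharTwo.add_self_eq_zero 1
        linear_combination h11
      have h2 := pow_eq_zero_iff (two_ne_zero) |>.mp h1
      have h11 : (1 : F) + 1 = 0 := CharTwo.add_self_eq_zero 1
      have h3 : p.1 + p.1 = 0 := CharTwo.add_self_eq_zero _
      linear_combination h2 - h11 - h3
    · intro h
      rw [h]
      have h3 : p.1 + p.1 = 0 := CharTwo.add_self_eq_zero _
      have : p.1 + (1 + p.1) = 1 := by linear_combination h3
      rw [this, one_pow]
  let e : {p : F × F // Nf (0 : F) p = 1} ≃ F :=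
    { toFun := fun p => p.1.1
      invFun := fun x => ⟨(x, 1 + x), (key _).mpr rfl⟩
      left_inv := by
        rintro ⟨⟨x, z⟩, hp⟩
        apply Subtype.ext
        have := (key _).mp hp
        simp only at this
        simp [this]
      right_inv := fun x => rfl }
  rw [Nat.card_congr e, Nat.card_eq_fintype_card]

theorem card_N_split (r : F) (hr0 : r ≠ 0) (hr : r ^ 2 ≠ 1) :
    Nat.card {p : F × F // Nf (r + r⁻¹) p = 1} = Fintype.card F - 1 := by
  classical
  have hfac : ∀ p : F × F, Nf (r + r⁻¹) p = (p.1 + r * p.2) * (p.1 + r⁻¹ * p.2) := by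
    intro p
    unfold Nf
    field_simp
    ring
  have hne : r - r⁻¹ ≠ 0 := by
    intro h
    apply hr
    field_simp at h
    linear_combination h
  let e : {p : F × F // Nf (r + r⁻¹) p = 1} ≃ Fˣ :=
    { toFun := fun p => Units.mkOfMulEqOne (p.1.1 + r * p.1.2) (p.1.1 + r⁻¹ * p.1.2)
        (by rw [← hfac]; exact p.2)
      invFun := fun u => ⟨((u : F) - r * (((u : F) - ((u⁻¹ : Fˣ) : F)) / (r - r⁻¹)),
          ((u : F) - ((u⁻¹ : Fˣ) : F)) / (r - r⁻¹)), by
        rw [hfac]
        have hu : (u : F) * ((u⁻¹ : Fˣ) : F) = 1 := by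
          rw [← Units.val_mul, mul_inv_cancel]; rfl
        simp only
        have e1 : (u : F) - r * (((u : F) - ((u⁻¹ : Fˣ) : F)) / (r - r⁻¹)) +
            r * (((u : F) - ((u⁻¹ : Fˣ) : F)) / (r - r⁻¹)) = u := by ring
        have e2 : (u : F) - r * (((u : F) - ((u⁻¹ : Fˣ) : F)) / (r - r⁻¹)) +
            r⁻¹ * (((u : F) - ((u⁻¹ : Fˣ) : F)) / (r - r⁻¹)) = ((u⁻¹ : Fˣ) : F) := by
          field_simp
          ring
        rw [e1, e2, hu]⟩
      left_inv := by
        rintro ⟨⟨x, z⟩, hp⟩
        apply Subtype.ext
        have h1 : (((Units.mkOfMulEqOne (x + r * z) (x + r⁻¹ * z)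
            (by rw [← hfac (x, z)]; exact hp))⁻¹ : Fˣ) : F) = x + r⁻¹ * z := rfl
        simp only [Units.val_mkOfMulEqOne, h1]
        have hz : (x + r * z - (x + r⁻¹ * z)) / (r - r⁻¹) = z := by
          field_simp
          ring
        rw [hz]
        simp
      right_inv := by
        intro u
        apply Units.ext
        simp only [Units.val_mkOfMulEqOne]
        ring }
  rw [Nat.card_congr e, Nat.card_eq_fintype_card, Fintype.card_units]


omit [Fintype F] in
theorem Nf_smul (t c : F) (p : F × F) : Nf t (c • p) = c ^ 2 * Nf t p := by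
  unfold Nf
  simp only [Prod.smul_fst, Prod.smul_snd, smul_eq_mul]
  ring

omit [Fintype F] in
theorem Nf_ne_zero (t : F) (hirr : ∀ r : F, r ^ 2 + t * r + 1 ≠ 0) (p : F × F) (hp : p ≠ 0) :
    Nf t p ≠ 0 := by
  intro h
  unfold Nf at h
  by_cases hz : p.2 = 0
  · rw [hz] at h
    have : p.1 = 0 := by
      have : p.1 ^ 2 = 0 := by linear_combination h
      exact pow_eq_zero_iff (two_ne_zero) |>.mp this
    exact hp (Prod.ext this hz)
  · apply hirr (p.1 / p.2)
    field_simp
    linear_combination h

theorem card_N_aniso [CharP F 2] (t : F) (hirr : ∀ r : F, r ^ 2 + t * r + 1 ≠ 0) :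
    Nat.card {p : F × F // Nf t p = 1} = Fintype.card F + 1 := by
  classical
  have hsq : ∀ d : F, ∃ c : F, d = c ^ 2 := by
    intro d
    obtain ⟨c, hc⟩ := FiniteField.isSquare_of_char_two (ringChar.eq F 2) d
    exact ⟨c, by rw [hc, pow_two]⟩
  choose sq hsq' using hsq
  have hsq0 : ∀ d : F, d ≠ 0 → sq d ≠ 0 := by
    intro d hd h
    apply hd
    rw [hsq' d, h]; ring
  let e : {p : F × F // p ≠ 0} ≃ {p : F × F // Nf t p = 1} × Fˣ :=
    { toFun := fun p => (⟨(sq (Nf t p.1))⁻¹ • p.1, by
          rw [Nf_smul, inv_pow, ← hsq']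
          exact inv_mul_cancel₀ (Nf_ne_zero t hirr p.1 p.2)⟩,
        Units.mk0 (Nf t p.1) (Nf_ne_zero t hirr p.1 p.2))
      invFun := fun x => ⟨sq (x.2 : F) • x.1.1, by
          intro h
          have h1 := x.1.2
          have h2 : Nf t (sq (x.2 : F) • x.1.1) = (x.2 : F) := by
            rw [Nf_smul, ← hsq', h1, mul_one]
          rw [h] at h2
          have : Nf t (0 : F × F) = 0 := by simp [Nf]
          rw [this] at h2
          exact x.2.ne_zero h2.symm⟩
      left_inv := by
        rintro ⟨p, hp⟩
        apply Subtype.ext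
        simp only [Units.val_mk0]
        rw [smul_smul, mul_inv_cancel₀ (hsq0 _ (Nf_ne_zero t hirr p hp)), one_smul]
      right_inv := by
        rintro ⟨⟨p, hp⟩, d⟩
        have h2 : Nf t (sq (d : F) • p) = (d : F) := by
          rw [Nf_smul, ← hsq', hp, mul_one]
        apply Prod.ext
        · apply Subtype.ext
          simp only [h2]
          rw [smul_smul, inv_mul_cancel₀ (hsq0 _ d.ne_zero), one_smul]
        · apply Units.ext
          simp only [Units.val_mk0, h2] }
  have h1 := Nat.card_congr e
  rw [Nat.card_prod, Nat.card_eq_fintype_card (α := Fˣ), Fintype.card_units] at h1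
  have h2 : Nat.card {p : F × F // p ≠ 0} = Fintype.card F ^ 2 - 1 := by
    rw [Nat.card_eq_fintype_card, Fintype.card_subtype_compl, Fintype.card_prod,
      Fintype.card_subtype_eq, pow_two]
  rw [h2] at h1
  have hq : 2 ≤ Fintype.card F := Fintype.one_lt_card
  set q := Fintype.card F
  set n := Nat.card {p : F × F // Nf t p = 1}
  have h3 : q ^ 2 - 1 = (q + 1) * (q - 1) := by
    have : q ^ 2 = (q + 1) * (q - 1) + 1 := by
      obtain ⟨k, hk⟩ := Nat.exists_eq_add_of_le hq
      rw [hk]
      have : 2 + k - 1 = k + 1 := by omega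
      rw [this]; ring
    omega
  rw [h3] at h1
  exact (Nat.eq_of_mul_eq_mul_right (by omega) h1).symm

end counts


theorem centralizer_map_equiv {G H : Type*} [Group G] [Group H] (e : G ≃* H) (g : G) :
    Subgroup.centralizer ({e g} : Set H) =
      (Subgroup.centralizer ({g} : Set G)).map (e : G →* H) := by
  ext h
  rw [Subgroup.mem_map, Subgroup.mem_centralizer_iff]
  simp only [Set.mem_singleton_iff, forall_eq]
  constructor
  · intro hh
    refine ⟨e.symm h, ?_, by simp⟩
    rw [Subgroup.mem_centralizer_iff]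
    simp only [Set.mem_singleton_iff, forall_eq]
    apply e.injective
    rw [map_mul, map_mul, e.apply_symm_apply]
    exact hh
  · rintro ⟨x, hx, rfl⟩
    rw [Subgroup.mem_centralizer_iff] at hx
    simp only [Set.mem_singleton_iff, forall_eq] at hx
    show e g * e x = e x * e g
    rw [← map_mul, ← map_mul, hx]

theorem index_centralizer_equiv {G H : Type*} [Group G] [Group H] (e : G ≃* H) (g : G) :
    (Subgroup.centralizer ({e g} : Set H)).index = (Subgroup.centralizer ({g} : Set G)).index := by
  rw [centralizer_map_equiv, Subgroup.index_map_equiv]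

theorem range_index_equiv {G H : Type*} [Group G] [Group H] (e : G ≃* H) :
    Set.range (fun h : H => (Subgroup.centralizer ({h} : Set H)).index) =
      Set.range (fun g : G => (Subgroup.centralizer ({g} : Set G)).index) := by
  ext n
  simp only [Set.mem_range]
  constructor
  · rintro ⟨h, rfl⟩
    refine ⟨e.symm h, ?_⟩
    rw [← index_centralizer_equiv e, e.apply_symm_apply]
  · rintro ⟨g, rfl⟩
    exact ⟨e g, index_centralizer_equiv e g⟩

theorem index_conj {G : Type*} [Group G] (g h : G) (hc : IsConj g h) :
    (Subgroup.centralizer ({g} : Set G)).index = (Subgroup.centralizer ({h} : Set G)).index := by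
  obtain ⟨c, hc⟩ := isConj_iff.mp hc
  have := index_centralizer_equiv (MulAut.conj c) g
  rw [← this]
  congr 2
  rw [← hc]; rfl

theorem index_mul_N [Fintype F] (t : F) :
    (Subgroup.centralizer ({C' t} : Set (Matrix.SpecialLinearGroup (Fin 2) F))).index *
      Nat.card {p : F × F // Nf t p = 1} = Fintype.card F * (Fintype.card F ^ 2 - 1) := by
  rw [← card_SL2, ← Nat.card_congr (centEquiv t)]
  exact Subgroup.index_mul_card _

/-- SL₂ → PSL₂ is an isomorphism in characteristic 2 -/
noncomputable def slEquivPsl [CharP F 2] :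
    Matrix.SpecialLinearGroup (Fin 2) F ≃* Matrix.ProjectiveSpecialLinearGroup (Fin 2) F :=
  MulEquiv.ofBijective (QuotientGroup.mk' _) (by
    constructor
    · rw [← MonoidHom.ker_eq_bot_iff, QuotientGroup.ker_mk', Subgroup.eq_bot_iff_forall]
      intro A hA
      rw [Matrix.SpecialLinearGroup.mem_center_iff] at hA
      obtain ⟨r, hr, hA⟩ := hA
      simp only [Fintype.card_fin] at hr
      have hr1 : r = 1 := by
        have h1 : (r + 1) ^ 2 = 0 := by
          rw [add_pow_two, hr]
          have : (2 : F) = 0 := CharTwo.two_eq_zero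
          rw [this]
          have h11 : (1 : F) + 1 = 0 := CharTwo.add_self_eq_zero 1
          linear_combination h11
        have h2 := pow_eq_zero_iff (two_ne_zero) |>.mp h1
        have h11 : (1 : F) + 1 = 0 := CharTwo.add_self_eq_zero 1
        linear_combination h2 - h11
      apply Subtype.ext
      rw [← hA, hr1, map_one]; rfl
    · exact QuotientGroup.mk'_surjective _)


theorem sq_sub_one (q : ℕ) (hq : 1 ≤ q) : q ^ 2 - 1 = (q - 1) * (q + 1) := by
  obtain ⟨k, rfl⟩ := Nat.exists_eq_add_of_le hq
  have : 1 + k - 1 = k := by omega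
  rw [this]
  have : (1 + k) ^ 2 = k * (1 + k + 1) + 1 := by ring
  omega

theorem index_C'_zero [Fintype F] [CharP F 2] :
    (Subgroup.centralizer ({C' (0 : F)} : Set (Matrix.SpecialLinearGroup (Fin 2) F))).index =
      Fintype.card F ^ 2 - 1 := by
  have h := index_mul_N (0 : F)
  rw [card_N_zero, mul_comm] at h
  exact Nat.eq_of_mul_eq_mul_left Fintype.card_pos h

theorem index_C'_split [Fintype F] (r : F) (hr0 : r ≠ 0) (hr : r ^ 2 ≠ 1) :
    (Subgroup.centralizer ({C' (r + r⁻¹)} : Set (Matrix.SpecialLinearGroup (Fin 2) F))).index =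
      Fintype.card F * (Fintype.card F + 1) := by
  have h := index_mul_N (r + r⁻¹)
  have hq : 2 ≤ Fintype.card F := Fintype.one_lt_card
  rw [card_N_split r hr0 hr, sq_sub_one _ (by omega)] at h
  have h' : (Subgroup.centralizer ({C' (r + r⁻¹)} : Set (Matrix.SpecialLinearGroup (Fin 2) F))).index
      * (Fintype.card F - 1) = (Fintype.card F * (Fintype.card F + 1)) * (Fintype.card F - 1) := by
    rw [h]; ring
  exact Nat.eq_of_mul_eq_mul_right (by omega) h'

theorem index_C'_aniso [Fintype F] [CharP F 2] (t : F) (hirr : ∀ r : F, r ^ 2 + t * r + 1 ≠ 0) :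
    (Subgroup.centralizer ({C' t} : Set (Matrix.SpecialLinearGroup (Fin 2) F))).index =
      Fintype.card F * (Fintype.card F - 1) := by
  have h := index_mul_N t
  have hq : 2 ≤ Fintype.card F := Fintype.one_lt_card
  rw [card_N_aniso t hirr, sq_sub_one _ (by omega)] at h
  have h' : (Subgroup.centralizer ({C' t} : Set (Matrix.SpecialLinearGroup (Fin 2) F))).index
      * (Fintype.card F + 1) = (Fintype.card F * (Fintype.card F - 1)) * (Fintype.card F + 1) := by
    rw [h]; ring
  exact Nat.eq_of_mul_eq_mul_right (by omega) h'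

theorem root_form [CharP F 2] (t r : F) (h : r ^ 2 + t * r + 1 = 0) :
    r ≠ 0 ∧ t = r + r⁻¹ := by
  have hr0 : r ≠ 0 := by
    rintro rfl
    simp at h
  refine ⟨hr0, ?_⟩
  have h11 : (r⁻¹ : F) + r⁻¹ = 0 := CharTwo.add_self_eq_zero _
  have h22 : (r : F) + r = 0 := CharTwo.add_self_eq_zero _
  field_simp
  field_simp at h11
  linear_combination h - h22 * r - h11

theorem sl2_range [Fintype F] [CharP F 2] (h4 : 4 ≤ Fintype.card F) :
    Set.range (fun g : Matrix.SpecialLinearGroup (Fin 2) F =>
      (Subgroup.centralizer ({g} : Set (Matrix.SpecialLinearGroup (Fin 2) F))).index) =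
      {1, Fintype.card F * (Fintype.card F - 1), Fintype.card F ^ 2 - 1,
        Fintype.card F * (Fintype.card F + 1)} := by
  classical
  ext n
  simp only [Set.mem_range, Set.mem_insert_iff, Set.mem_singleton_iff]
  constructor
  · rintro ⟨g, rfl⟩
    by_cases hg : NS (g : Matrix (Fin 2) (Fin 2) F)
    · have hc := conj_C' g hg
      rw [index_conj _ _ hc]
      set t := (g : Matrix (Fin 2) (Fin 2) F).trace
      by_cases ht : t = 0
      · right; right; left
        rw [ht]; exact index_C'_zero
      · by_cases hroot : ∃ r : F, r ^ 2 + t * r + 1 = 0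
        · obtain ⟨r, hr⟩ := hroot
          obtain ⟨hr0, htr⟩ := root_form t r hr
          right; right; right
          rw [htr]
          apply index_C'_split r hr0
          intro h1
          apply ht
          have : t * r = 0 := by
            have h11 : (1 : F) + 1 = 0 := CharTwo.add_self_eq_zero _
            rw [h1] at hr
            linear_combination hr - h11
          rcases mul_eq_zero.mp this with h | h
          · exact h
          · exact absurd h hr0
        · push Not at hroot
          right; left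
          exact index_C'_aniso t hroot
    · left
      have h1 := (not_NS_iff _).mp hg
      set a := (g : Matrix (Fin 2) (Fin 2) F) 0 0 with ha
      have hdet := g.det_coe
      rw [h1, Matrix.det_smul, Fintype.card_fin, Matrix.det_one, mul_one] at hdet
      have ha1 : a = 1 := by
        have h5 : (a - 1) ^ 2 = 0 := by
          have h6 : (a - 1) ^ 2 = a ^ 2 - (a + a) + 1 := by ring
          rw [h6, CharTwo.add_self_eq_zero, hdet, sub_zero]
          exact CharTwo.add_self_eq_zero 1
        exact sub_eq_zero.mp (pow_eq_zero_iff (two_ne_zero) |>.mp h5)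
      have hg1 : g = 1 := by
        apply Subtype.ext
        rw [h1, ha1, one_smul]; rfl
      rw [hg1]
      have : Subgroup.centralizer ({1} : Set (Matrix.SpecialLinearGroup (Fin 2) F)) = ⊤ := by
        rw [eq_top_iff]
        intro x _
        rw [Subgroup.mem_centralizer_iff]
        simp
      rw [this, Subgroup.index_top]
  · rintro (rfl | rfl | rfl | rfl)
    · refine ⟨1, ?_⟩
      have : Subgroup.centralizer ({1} : Set (Matrix.SpecialLinearGroup (Fin 2) F)) = ⊤ := by
        rw [eq_top_iff]
        intro x _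
        rw [Subgroup.mem_centralizer_iff]
        simp
      simp only [this, Subgroup.index_top]
    · -- anisotropic t exists
      have : ∃ t : F, ∀ r : F, r ^ 2 + t * r + 1 ≠ 0 := by
        by_contra hcon
        push Not at hcon
        choose f hf using hcon
        have hf0 : ∀ t, f t ≠ 0 := fun t => (root_form t (f t) (hf t)).1
        let φ : F → Fˣ := fun t => Units.mk0 (f t) (hf0 t)
        have hinj : Function.Injective φ := by
          intro t t' h
          have h1 : f t = f t' := congrArg Units.val h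
          rw [(root_form t (f t) (hf t)).2, (root_form t' (f t') (hf t')).2, h1]
        have := Fintype.card_le_of_injective φ hinj
        rw [Fintype.card_units] at this
        omega
      obtain ⟨t, ht⟩ := this
      exact ⟨C' t, index_C'_aniso t ht⟩
    · exact ⟨C' 0, index_C'_zero⟩
    · have : ∃ r : F, r ≠ 0 ∧ r ≠ 1 := by
        by_contra hcon
        push Not at hcon
        have hsub : (Finset.univ : Finset F) ⊆ {0, 1} := by
          intro r _
          rw [Finset.mem_insert, Finset.mem_singleton]
          by_cases h : r = 0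
          · left; exact h
          · right; exact hcon r h
        have := Finset.card_le_card hsub
        rw [Finset.card_univ] at this
        have h2 : ({0, 1} : Finset F).card ≤ 2 := Finset.card_le_two
        omega
      obtain ⟨r, hr0, hr1⟩ := this
      refine ⟨C' (r + r⁻¹), index_C'_split r hr0 ?_⟩
      intro h
      apply hr1
      have h1 : (r + 1) ^ 2 = 0 := by
        rw [add_pow_two, h]
        have : (2 : F) = 0 := CharTwo.two_eq_zero
        rw [this]
        have h11 : (1 : F) + 1 = 0 := CharTwo.add_self_eq_zero 1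
        linear_combination h11
      have h2 := pow_eq_zero_iff (two_ne_zero) |>.mp h1
      have h11 : (1 : F) + 1 = 0 := CharTwo.add_self_eq_zero 1
      linear_combination h2 - h11

theorem main [Fintype F] (h2 : 2 ∣ Fintype.card F) (h4 : 4 ≤ Fintype.card F) :
    Set.range (fun g : (Matrix.ProjectiveSpecialLinearGroup (Fin 2) F) => (Subgroup.centralizer ({g} : Set (Matrix.ProjectiveSpecialLinearGroup (Fin 2) F))).index) =
      {1, Fintype.card F * (Fintype.card F - 1), Fintype.card F ^ 2 - 1, Fintype.card F * (Fintype.card F + 1)} := by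
  have hch : ringChar F = 2 := by
    rw [FiniteField.even_card_iff_char_two]
    omega
  have : CharP F 2 := ringChar.of_eq hch
  rw [range_index_equiv slEquivPsl]
  exact sl2_range h4

end Cfsg.Agent.Lib.Helper4_SL2Cent
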