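import Mathlib
import Cfsg.Agent.Lib.Helper4_SL2Cent
import Cfsg.Agent.Lib.Helper4_SL2Odd
import Cfsg.Agent.Lib.Helper4_SL2Borel

namespace Cfsg.Agent.Lib.Helper4_PSL2ClassOdd
open Matrix Cfsg.Agent.Lib.Helper4_GL2Classes0 Cfsg.Agent.Lib.Helper4_SL2Classes
  Cfsg.Agent.Lib.Helper4_SL2Card Cfsg.Agent.Lib.Helper4_SL2Cent Cfsg.Agent.Lib.Helper4_SL2Odd

variable {F : Type*} [Field F]

/-- multiplication in F[C] -/
def mulP (t : F) (p p' : F × F) : F × F :=
  (p.1 * p'.1 - p.2 * p'.2, p.1 * p'.2 + p.2 * p'.1 + t * p.2 * p'.2)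

/-- conjugation in F[C] -/
def conjP (t : F) (p : F × F) : F × F := (p.1 + t * p.2, -p.2)

theorem Nf_mulP (t : F) (p p' : F × F) : Nf t (mulP t p p') = Nf t p * Nf t p' := by
  unfold Nf mulP; simp only; ring

theorem Nf_conjP (t : F) (p : F × F) : Nf t (conjP t p) = Nf t p := by
  unfold Nf conjP; simp only; ring

theorem mulP_assoc (t : F) (p p' p'' : F × F) :
    mulP t (mulP t p p') p'' = mulP t p (mulP t p' p'') := by
  unfold mulP; simp only; ext <;> simp only <;> ring

theorem mulP_conj (t : F) (p : F × F) : mulP t (conjP t p) p = (Nf t p, 0) := by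
  unfold mulP conjP Nf; ext <;> simp only <;> ring

theorem mulP_scalar (t a : F) (p : F × F) : mulP t p (a, 0) = a • p := by
  unfold mulP; ext <;> simp <;> ring

theorem smul_mulP (t a : F) (p p' : F × F) : mulP t (a • p) p' = a • mulP t p p' := by
  unfold mulP; ext <;> simp <;> ring

theorem mulP_smul (t a : F) (p p' : F × F) : mulP t p (a • p') = a • mulP t p p' := by
  unfold mulP; ext <;> simp <;> ring

theorem aniso_ne (h2 : (2 : F) ≠ 0) (t : F) (hirr : ∀ r : F, r ^ 2 + t * r + 1 ≠ 0) : t ^ 2 ≠ 4 := by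
  intro h
  apply hirr (-t / 2)
  field_simp
  linear_combination -h

theorem card_N_aniso_odd [Fintype F] (hodd : Odd (Fintype.card F)) (t : F)
    (hirr : ∀ r : F, r ^ 2 + t * r + 1 ≠ 0) :
    Nat.card {p : F × F // Nf t p = 1} = Fintype.card F + 1 := by
  classical
  have h2 : (2 : F) ≠ 0 := two_ne_zero' hodd
  have ht := aniso_ne h2 t hirr
  have hex : ∀ d : F, ∃ p : F × F, Nf t p = d := by
    intro d
    obtain ⟨a, b, hab⟩ := exists_norm hodd t ht d
    exact ⟨(a, b), by unfold Nf; simp only; linear_combination hab⟩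
  choose σ hσ using hex
  let e : {p : F × F // p ≠ 0} ≃ {p : F × F // Nf t p = 1} × Fˣ :=
    { toFun := fun p => (⟨mulP t p.1 ((Nf t p.1)⁻¹ • conjP t (σ (Nf t p.1))), by
          rw [Nf_mulP, Nf_smul, Nf_conjP, hσ]
          have := Nf_ne_zero t hirr p.1 p.2
          field_simp⟩,
        Units.mk0 (Nf t p.1) (Nf_ne_zero t hirr p.1 p.2))
      invFun := fun x => ⟨mulP t x.1.1 (σ (x.2 : F)), by
          intro h
          have h1 := x.1.2
          have h2 : Nf t (mulP t x.1.1 (σ (x.2 : F))) = (x.2 : F) := by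
            rw [Nf_mulP, h1, hσ, one_mul]
          rw [h] at h2
          have : Nf t (0 : F × F) = 0 := by simp [Nf]
          rw [this] at h2
          exact x.2.ne_zero h2.symm⟩
      left_inv := by
        rintro ⟨p, hp⟩
        apply Subtype.ext
        have hN := Nf_ne_zero t hirr p hp
        simp only [Units.val_mk0]
        rw [mulP_assoc, smul_mulP, mulP_conj, hσ]
        show mulP t p ((Nf t p)⁻¹ • (Nf t p, (0 : F))) = p
        rw [mulP_smul, mulP_scalar, smul_smul, inv_mul_cancel₀ hN, one_smul]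
      right_inv := by
        rintro ⟨⟨p, hp⟩, d⟩
        have h2 : Nf t (mulP t p (σ (d : F))) = (d : F) := by
          rw [Nf_mulP, hp, hσ, one_mul]
        apply Prod.ext
        · apply Subtype.ext
          simp only [h2]
          rw [mulP_assoc, mulP_smul]
          have : mulP t (σ (d : F)) (conjP t (σ (d : F))) = ((d : F), 0) := by
            have := mulP_conj t (σ (d : F))
            rw [hσ] at this
            rw [← this]
            unfold mulP; ext <;> simp only <;> ring
          rw [this, mulP_smul, mulP_scalar, smul_smul, inv_mul_cancel₀ d.ne_zero, one_smul]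
        · apply Units.ext
          simp only [Units.val_mk0, h2] }
  have h1 := Nat.card_congr e
  rw [Nat.card_prod, Nat.card_eq_fintype_card (α := Fˣ), Fintype.card_units] at h1
  have h2 : Nat.card {p : F × F // p ≠ 0} = Fintype.card F ^ 2 - 1 := by
    rw [Nat.card_eq_fintype_card, Fintype.card_subtype_compl, Fintype.card_prod,
      Fintype.card_subtype_eq, pow_two]
  rw [h2] at h1
  have hq : 2 ≤ Fintype.card F := Fintype.one_lt_card
  rw [sq_sub_one _ (by omega), mul_comm] at h1
  exact (Nat.eq_of_mul_eq_mul_right (by omega) h1).symm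


section sl
variable [Fintype F]

theorem sl_index_aniso (hodd : Odd (Fintype.card F)) (t : F)
    (hirr : ∀ r : F, r ^ 2 - t * r + 1 ≠ 0) :
    (Subgroup.centralizer ({C' t} : Set (Matrix.SpecialLinearGroup (Fin 2) F))).index =
      Fintype.card F * (Fintype.card F - 1) := by
  have hirr' : ∀ r : F, r ^ 2 + t * r + 1 ≠ 0 := by
    intro r h
    apply hirr (-r)
    linear_combination h
  have h := index_mul_N t
  have hq : 2 ≤ Fintype.card F := Fintype.one_lt_card
  rw [card_N_aniso_odd hodd t hirr', sq_sub_one _ (by omega)] at h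
  have h' : (Subgroup.centralizer ({C' t} : Set (Matrix.SpecialLinearGroup (Fin 2) F))).index
      * (Fintype.card F + 1) = (Fintype.card F * (Fintype.card F - 1)) * (Fintype.card F + 1) := by
    rw [h]; ring
  exact Nat.eq_of_mul_eq_mul_right (by omega) h'

theorem sl_index_split (t r : F) (hr : r ^ 2 - t * r + 1 = 0) (ht : t ^ 2 ≠ 4) :
    (Subgroup.centralizer ({C' t} : Set (Matrix.SpecialLinearGroup (Fin 2) F))).index =
      Fintype.card F * (Fintype.card F + 1) := by
  have hr0 : r ≠ 0 := by
    rintro rfl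
    simp at hr
  have htr : t = r + r⁻¹ := by
    field_simp
    linear_combination -hr
  rw [htr]
  apply index_C'_split r hr0
  intro h1
  apply ht
  rw [htr]
  have : r⁻¹ = r := by
    field_simp
    exact h1.symm
  rw [this]
  linear_combination 4 * h1

omit [Fintype F] in
theorem mem_centralizer_Vs (s : F) (hs : s * s = 1) (b : F) (hb : b ≠ 0)
    (Q : Matrix.SpecialLinearGroup (Fin 2) F) :
    Q ∈ Subgroup.centralizer ({V s b hs} : Set (Matrix.SpecialLinearGroup (Fin 2) F)) ↔
      ∃ (e : Bool) (y : F), Q = V (sgn e) y (sgn_mul e) := by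
  rw [Subgroup.mem_centralizer_iff]
  simp only [Set.mem_singleton_iff, forall_eq]
  constructor
  · intro h
    have h' := congrArg (fun g : Matrix.SpecialLinearGroup (Fin 2) F =>
      (g : Matrix (Fin 2) (Fin 2) F)) h
    simp only [Matrix.SpecialLinearGroup.coe_mul] at h'
    have hdet := Q.det_coe
    rw [Matrix.det_fin_two] at hdet
    have e00 := congrFun (congrFun h' 0) 0
    have e01 := congrFun (congrFun h' 0) 1
    simp only [V, Matrix.mul_apply, Fin.sum_univ_two, Matrix.of_apply, Matrix.cons_val',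
      Matrix.cons_val_zero, Matrix.cons_val_one, Matrix.cons_val_fin_one] at e00 e01
    have hz : (Q : Matrix (Fin 2) (Fin 2) F) 1 0 = 0 := by
      apply mul_left_cancel₀ hb
      linear_combination e00
    rw [hz] at hdet
    have hxw : (Q : Matrix (Fin 2) (Fin 2) F) 1 1 = (Q : Matrix (Fin 2) (Fin 2) F) 0 0 := by
      apply mul_left_cancel₀ hb
      linear_combination e01
    rw [hxw] at hdet
    obtain ⟨e, he⟩ := sq_eq_one ((Q : Matrix (Fin 2) (Fin 2) F) 0 0) (by linear_combination hdet)
    refine ⟨e, (Q : Matrix (Fin 2) (Fin 2) F) 0 1, ?_⟩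
    apply Subtype.ext
    ext i j
    fin_cases i <;> fin_cases j <;> simp [V, hz, hxw, he]
  · rintro ⟨e, y, rfl⟩
    apply Subtype.ext
    rw [Matrix.SpecialLinearGroup.coe_mul, Matrix.SpecialLinearGroup.coe_mul]
    show !![s, b; 0, s] * !![sgn e, y; 0, sgn e] = !![sgn e, y; 0, sgn e] * !![s, b; 0, s]
    rw [Matrix.mul_fin_two, Matrix.mul_fin_two]
    ext i j; fin_cases i <;> fin_cases j <;> simp <;> ring

theorem sl_index_V (h2 : (2 : F) ≠ 0) (s : F) (hs : s * s = 1) (b : F) (hb : b ≠ 0) :
    (Subgroup.centralizer ({V s b hs} : Set (Matrix.SpecialLinearGroup (Fin 2) F))).index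
      = (Fintype.card F ^ 2 - 1) / 2 := by
  classical
  have hcard : Nat.card (Subgroup.centralizer ({V s b hs} : Set (Matrix.SpecialLinearGroup (Fin 2) F)))
      = 2 * Fintype.card F := by
    let ψ : Bool × F → Subgroup.centralizer ({V s b hs} : Set (Matrix.SpecialLinearGroup (Fin 2) F)) :=
      fun p => ⟨V (sgn p.1) p.2 (sgn_mul p.1), (mem_centralizer_Vs s hs b hb _).mpr ⟨p.1, p.2, rfl⟩⟩
    have hinj : Function.Injective ψ := by
      rintro ⟨e, y⟩ ⟨e', y'⟩ h
      have h' := congrArg (fun g : Subgroup.centralizer ({V s b hs} : Set (Matrix.SpecialLinearGroup (Fin 2) F)) =>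
        ((g : Matrix.SpecialLinearGroup (Fin 2) F) : Matrix (Fin 2) (Fin 2) F)) h
      have e00 := congrFun (congrFun h' 0) 0
      have e01 := congrFun (congrFun h' 0) 1
      simp [ψ, V] at e00 e01
      rw [sgn_inj h2 _ _ e00, e01]
    have hsurj : Function.Surjective ψ := by
      rintro ⟨Q, hQ⟩
      obtain ⟨e, y, rfl⟩ := (mem_centralizer_Vs s hs b hb Q).mp hQ
      exact ⟨(e, y), rfl⟩
    rw [← Nat.card_congr (Equiv.ofBijective ψ ⟨hinj, hsurj⟩), Nat.card_eq_fintype_card,
      Fintype.card_prod, Fintype.card_bool]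
  have h1 := Subgroup.index_mul_card
    (Subgroup.centralizer ({V s b hs} : Set (Matrix.SpecialLinearGroup (Fin 2) F)))
  rw [hcard, card_SL2] at h1
  have hq : 0 < Fintype.card F := Fintype.card_pos
  set q := Fintype.card F
  set i := (Subgroup.centralizer ({V s b hs} : Set (Matrix.SpecialLinearGroup (Fin 2) F))).index
  have h3 : q * (i * 2) = q * (q ^ 2 - 1) := by rw [← h1]; ring
  have h4 := Nat.eq_of_mul_eq_mul_left hq h3
  omega

end sl


section psl

/-- the element −1 -/
def N1 : Matrix.SpecialLinearGroup (Fin 2) F := Zs (-1) (by ring)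

theorem N1_val : ((N1 : Matrix.SpecialLinearGroup (Fin 2) F) : Matrix (Fin 2) (Fin 2) F) = -1 := by
  ext i j; fin_cases i <;> fin_cases j <;> simp [N1, Zs]

theorem N1_mul_val (g : Matrix.SpecialLinearGroup (Fin 2) F) :
    ((N1 * g : Matrix.SpecialLinearGroup (Fin 2) F) : Matrix (Fin 2) (Fin 2) F) =
      -(g : Matrix (Fin 2) (Fin 2) F) := by
  rw [Matrix.SpecialLinearGroup.coe_mul, N1_val, neg_mul, one_mul]

theorem N1_mul_N1 : (N1 : Matrix.SpecialLinearGroup (Fin 2) F) * N1 = 1 := by
  apply Subtype.ext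
  rw [N1_mul_val, N1_val, neg_neg]; rfl

theorem N1_ne_one (h2 : (2 : F) ≠ 0) : (N1 : Matrix.SpecialLinearGroup (Fin 2) F) ≠ 1 := by
  intro h
  have := congrArg (fun g : Matrix.SpecialLinearGroup (Fin 2) F =>
      (g : Matrix (Fin 2) (Fin 2) F) 0 0) h
  simp only [N1_val] at this
  simp at this
  apply h2
  linear_combination -this

theorem N1_comm (g : Matrix.SpecialLinearGroup (Fin 2) F) : N1 * g = g * N1 := by
  apply Subtype.ext
  rw [N1_mul_val, Matrix.SpecialLinearGroup.coe_mul, N1_val, mul_neg, mul_one]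

theorem mem_center_iff' (A : Matrix.SpecialLinearGroup (Fin 2) F) :
    A ∈ Subgroup.center (Matrix.SpecialLinearGroup (Fin 2) F) ↔ A = 1 ∨ A = N1 := by
  rw [Matrix.SpecialLinearGroup.mem_center_iff]
  simp only [Fintype.card_fin]
  constructor
  · rintro ⟨r, hr, hA⟩
    obtain ⟨e, he⟩ := sq_eq_one r (by rw [← pow_two]; exact hr)
    cases e
    · left
      apply Subtype.ext
      rw [← hA, he]
      simp [sgn]
    · right
      apply Subtype.ext
      rw [← hA, he, N1_val]
      ext i j; fin_cases i <;> fin_cases j <;> simp [sgn]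
  · rintro (rfl | rfl)
    · exact ⟨1, by simp, by simp⟩
    · refine ⟨-1, by simp, ?_⟩
      rw [N1_val]
      ext i j; fin_cases i <;> fin_cases j <;> simp

theorem mem_comap_iff (g h : Matrix.SpecialLinearGroup (Fin 2) F) :
    h ∈ (Subgroup.centralizer ({(QuotientGroup.mk g : Matrix.ProjectiveSpecialLinearGroup (Fin 2) F)} :
        Set (Matrix.ProjectiveSpecialLinearGroup (Fin 2) F))).comap
      (QuotientGroup.mk' (Subgroup.center (Matrix.SpecialLinearGroup (Fin 2) F))) ↔
      h * g * h⁻¹ = g ∨ h * g * h⁻¹ = N1 * g := by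
  rw [Subgroup.mem_comap, Subgroup.mem_centralizer_iff]
  simp only [Set.mem_singleton_iff, forall_eq, QuotientGroup.mk'_apply]
  rw [← QuotientGroup.mk_mul, ← QuotientGroup.mk_mul, QuotientGroup.eq, mem_center_iff']
  constructor
  · rintro (h1 | h1)
    · left
      rw [inv_mul_eq_one] at h1
      rw [mul_inv_eq_iff_eq_mul, h1]
    · right
      rw [inv_mul_eq_iff_eq_mul] at h1
      rw [mul_inv_eq_iff_eq_mul, h1, mul_assoc, ← N1_comm h, ← mul_assoc, ← N1_comm g]
  · rintro (h1 | h1)
    · left
      rw [mul_inv_eq_iff_eq_mul] at h1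
      rw [inv_mul_eq_one, h1]
    · right
      rw [mul_inv_eq_iff_eq_mul] at h1
      rw [inv_mul_eq_iff_eq_mul, h1, mul_assoc, N1_comm]

theorem mem_centralizer_iff_conj (g h : Matrix.SpecialLinearGroup (Fin 2) F) :
    h ∈ Subgroup.centralizer ({g} : Set (Matrix.SpecialLinearGroup (Fin 2) F)) ↔
      h * g * h⁻¹ = g := by
  rw [Subgroup.mem_centralizer_iff]
  simp only [Set.mem_singleton_iff, forall_eq]
  constructor
  · intro h1; rw [← h1]; group
  · intro h1
    have := congrArg (fun x => x * h) h1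
    simpa using this.symm

theorem N1_mul_ne (h2 : (2 : F) ≠ 0) (g : Matrix.SpecialLinearGroup (Fin 2) F) : N1 * g ≠ g := by
  intro h
  apply N1_ne_one h2
  have := congrArg (fun x => x * g⁻¹) h
  simpa using this

theorem psl_index_of_trace_ne (h2 : (2 : F) ≠ 0) (g : Matrix.SpecialLinearGroup (Fin 2) F)
    (ht : (g : Matrix (Fin 2) (Fin 2) F).trace ≠ 0) :
    (Subgroup.centralizer ({(QuotientGroup.mk g : Matrix.ProjectiveSpecialLinearGroup (Fin 2) F)} :
        Set (Matrix.ProjectiveSpecialLinearGroup (Fin 2) F))).index =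
      (Subgroup.centralizer ({g} : Set (Matrix.SpecialLinearGroup (Fin 2) F))).index := by
  rw [← Subgroup.index_comap_of_surjective _ (QuotientGroup.mk'_surjective
    (Subgroup.center (Matrix.SpecialLinearGroup (Fin 2) F)))]
  congr 1
  ext h
  rw [mem_comap_iff, mem_centralizer_iff_conj]
  constructor
  · rintro (h1 | h1)
    · exact h1
    · exfalso
      have hc : IsConj g (N1 * g) := isConj_iff.mpr ⟨h, h1⟩
      have := trace_eq_of_conj _ _ hc
      rw [N1_mul_val, Matrix.trace_neg] at this
      apply ht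
      apply mul_left_cancel₀ h2
      linear_combination this
  · intro h1; left; exact h1

theorem psl_index_of_trace_zero [Fintype F] (hodd : Odd (Fintype.card F))
    (g : Matrix.SpecialLinearGroup (Fin 2) F)
    (hns : NS (g : Matrix (Fin 2) (Fin 2) F))
    (ht : (g : Matrix (Fin 2) (Fin 2) F).trace = 0) :
    2 * (Subgroup.centralizer ({(QuotientGroup.mk g : Matrix.ProjectiveSpecialLinearGroup (Fin 2) F)} :
        Set (Matrix.ProjectiveSpecialLinearGroup (Fin 2) F))).index =
      (Subgroup.centralizer ({g} : Set (Matrix.SpecialLinearGroup (Fin 2) F))).index := by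
  have h2 : (2 : F) ≠ 0 := two_ne_zero' hodd
  rw [← Subgroup.index_comap_of_surjective _ (QuotientGroup.mk'_surjective
    (Subgroup.center (Matrix.SpecialLinearGroup (Fin 2) F)))]
  set K := (Subgroup.centralizer ({(QuotientGroup.mk g : Matrix.ProjectiveSpecialLinearGroup (Fin 2) F)} :
        Set (Matrix.ProjectiveSpecialLinearGroup (Fin 2) F))).comap
      (QuotientGroup.mk' (Subgroup.center (Matrix.SpecialLinearGroup (Fin 2) F))) with hK
  set C := Subgroup.centralizer ({g} : Set (Matrix.SpecialLinearGroup (Fin 2) F)) with hC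
  have hle : C ≤ K := by
    intro h hh
    rw [hK, mem_comap_iff]
    left
    exact (mem_centralizer_iff_conj g h).mp hh
  rw [← Subgroup.relIndex_mul_index hle]
  congr 1
  symm
  rw [Subgroup.relIndex_eq_two_iff]
  -- g is conjugate to -g
  have h4 : (4 : F) ≠ 0 := by
    have : (4 : F) = 2 * 2 := by norm_num
    rw [this]; exact mul_ne_zero h2 h2
  have hns' : NS ((N1 * g : Matrix.SpecialLinearGroup (Fin 2) F) : Matrix (Fin 2) (Fin 2) F) := by
    rw [N1_mul_val]
    unfold NS at hns ⊢
    simp only [Matrix.neg_apply, ne_eq, neg_eq_zero, neg_inj]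
    exact hns
  have hc1 := conj_C'_odd hodd g hns (by rw [ht]; simpa using h4.symm)
  have hc2 := conj_C'_odd hodd (N1 * g) hns' (by
    rw [N1_mul_val, Matrix.trace_neg, ht]; simpa using h4.symm)
  rw [N1_mul_val, Matrix.trace_neg, ht, neg_zero] at hc2
  rw [ht] at hc1
  obtain ⟨h₀, hh₀⟩ := isConj_iff.mp (hc1.trans hc2.symm)
  refine ⟨h₀, (mem_comap_iff g h₀).mpr (Or.inr hh₀), ?_⟩
  intro b hb
  rw [hK, mem_comap_iff] at hb
  rw [hC, mem_centralizer_iff_conj, mem_centralizer_iff_conj]
  have e1 : b * h₀ * g * (b * h₀)⁻¹ = b * (h₀ * g * h₀⁻¹) * b⁻¹ := by group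
  rw [e1, hh₀]
  have e2 : b * (N1 * g) * b⁻¹ = N1 * (b * g * b⁻¹) := by
    rw [← mul_assoc b, ← N1_comm b]; group
  rw [e2]
  rcases hb with hb | hb
  · rw [hb]
    right
    exact ⟨rfl, N1_mul_ne h2 g⟩
  · rw [hb]
    left
    refine ⟨?_, N1_mul_ne h2 g⟩
    rw [← mul_assoc, N1_mul_N1, one_mul]

end psl


section assembly
variable [Fintype F]

open Cfsg.Agent.Lib.Helper4_SL2Borel in
theorem exists_aniso (hodd : Odd (Fintype.card F)) (h7 : 7 ≤ Fintype.card F) :
    ∃ t : F, t ≠ 0 ∧ ∀ r : F, r ^ 2 - t * r + 1 ≠ 0 := by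
  classical
  have h2 : (2 : F) ≠ 0 := two_ne_zero' hodd
  by_contra hcon
  push Not at hcon
  choose f hf using hcon
  -- properties of the root
  have hroot : ∀ t (ht : t ≠ 0), f t ht ≠ 0 ∧ t = f t ht + (f t ht)⁻¹ := by
    intro t ht
    have hr := hf t ht
    have hr0 : f t ht ≠ 0 := by
      intro h
      rw [h] at hr
      simp at hr
    refine ⟨hr0, ?_⟩
    field_simp
    linear_combination -hr
  have hsq : ∀ t (ht : t ≠ 0), t ^ 2 ≠ 4 → (f t ht) ^ 2 ≠ 1 := by
    intro t ht ht4 h1
    apply ht4
    obtain ⟨hr0, htr⟩ := hroot t ht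
    have : (f t ht)⁻¹ = f t ht := by
      field_simp
      exact h1.symm
    rw [this] at htr
    rw [htr]
    linear_combination 4 * h1
  let Φ : {t : F // t ≠ 0 ∧ t ^ 2 ≠ 4} × Bool → {a : Fˣ // a ^ 2 ≠ 1} := fun x =>
    if x.2 then ⟨Units.mk0 (f x.1.1 x.1.2.1) (hroot _ x.1.2.1).1, by
        intro h
        apply hsq x.1.1 x.1.2.1 x.1.2.2
        have := congrArg Units.val h
        simpa using this⟩
    else ⟨(Units.mk0 (f x.1.1 x.1.2.1) (hroot _ x.1.2.1).1)⁻¹, by
        intro h
        apply hsq x.1.1 x.1.2.1 x.1.2.2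
        rw [inv_pow, inv_eq_one] at h
        have := congrArg Units.val h
        simpa using this⟩
  have hΦval : ∀ x, (((Φ x).1 : Fˣ) : F) + (((Φ x).1 : Fˣ) : F)⁻¹ = x.1.1 := by
    rintro ⟨⟨t, ht0, ht4⟩, e⟩
    have := (hroot t ht0).2
    cases e
    · simp only [Φ, Bool.false_eq_true, if_false, Units.val_inv_eq_inv_val, Units.val_mk0, inv_inv]
      rw [add_comm]; exact this.symm
    · simp only [Φ, if_true, Units.val_mk0]
      exact this.symm
  have hinj : Function.Injective Φ := by
    rintro ⟨⟨t, ht0, ht4⟩, e⟩ ⟨⟨t', ht0', ht4'⟩, e'⟩ h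
    have h1 := hΦval ⟨⟨t, ht0, ht4⟩, e⟩
    have h2' := hΦval ⟨⟨t', ht0', ht4'⟩, e'⟩
    rw [h] at h1
    have htt : t = t' := h1.symm.trans h2'
    subst htt
    have hee : e = e' := by
      by_contra hne
      have hval := congrArg (fun a : {a : Fˣ // a ^ 2 ≠ 1} => ((a.1 : Fˣ) : F)) h
      have key : (f t ht0)⁻¹ = f t ht0 := by
        cases e <;> cases e'
        · exact absurd rfl hne
        · simpa [Φ] using hval
        · simpa [Φ] using hval.symm
        · exact absurd rfl hne
      apply hsq t ht0 ht4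
      have hr0 := (hroot t ht0).1
      field_simp at key
      exact key.symm
    rw [hee]
  have hcard := Fintype.card_le_of_injective Φ hinj
  rw [Fintype.card_prod, Fintype.card_bool] at hcard
  have hA := card_a hodd
  have hB : Fintype.card F ≤ Fintype.card {t : F // t ≠ 0 ∧ t ^ 2 ≠ 4} + 3 := by
    have hsub : ∀ t : F, ¬ (t ≠ 0 ∧ t ^ 2 ≠ 4) → t ∈ ({0, 2, -2} : Finset F) := by
      intro t ht
      simp only [Finset.mem_insert, Finset.mem_singleton]
      by_cases h0 : t = 0
      · left; exact h0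
      · have : t ^ 2 = 4 := by
          by_contra h4
          exact ht ⟨h0, h4⟩
        have : (t - 2) * (t + 2) = 0 := by linear_combination this
        rcases mul_eq_zero.mp this with h | h
        · right; left; linear_combination h
        · right; right; linear_combination h
    have h1 := Fintype.card_subtype_compl (fun t : F => t ≠ 0 ∧ t ^ 2 ≠ 4)
    have h3 : Fintype.card {t : F // ¬ (t ≠ 0 ∧ t ^ 2 ≠ 4)} ≤ 3 := by
      rw [Fintype.card_subtype]
      refine le_trans (Finset.card_le_card ?_) (Finset.card_le_three (a := (0 : F)) (b := 2) (c := -2))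
      intro t ht
      rw [Finset.mem_filter] at ht
      exact hsub t ht.2
    have h4 : Fintype.card {t : F // t ≠ 0 ∧ t ^ 2 ≠ 4} ≤ Fintype.card F :=
      Fintype.card_subtype_le _
    omega
  omega

theorem exists_split (h7 : 7 ≤ Fintype.card F) :
    ∃ t r : F, t ≠ 0 ∧ t ^ 2 ≠ 4 ∧ r ^ 2 - t * r + 1 = 0 := by
  classical
  obtain ⟨ζ, hζ⟩ := IsCyclic.exists_generator (α := Fˣ)
  have hord : orderOf ζ = Fintype.card F - 1 := by
    rw [orderOf_eq_card_of_forall_mem_zpowers hζ, Nat.card_eq_fintype_card, Fintype.card_units]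
  have h4 : (ζ : F) ^ 4 ≠ 1 := by
    intro h
    have : ζ ^ 4 = 1 := Units.ext (by simpa using h)
    have := orderOf_dvd_of_pow_eq_one this
    rw [hord] at this
    have := Nat.le_of_dvd (by norm_num) this
    omega
  have hr0 : (ζ : F) ≠ 0 := ζ.ne_zero
  set r : F := (ζ : F)
  refine ⟨r + r⁻¹, r, ?_, ?_, ?_⟩
  · intro h
    apply h4
    field_simp at h
    have : r ^ 2 = -1 := by linear_combination h
    calc r ^ 4 = (r ^ 2) ^ 2 := by ring
      _ = 1 := by rw [this]; ring
  · intro h
    apply h4
    field_simp at h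
    have : (r ^ 2 - 1) ^ 2 = 0 := by linear_combination h
    have h1 : r ^ 2 = 1 := by
      have := pow_eq_zero_iff (two_ne_zero) |>.mp this
      linear_combination this
    calc r ^ 4 = (r ^ 2) ^ 2 := by ring
      _ = 1 := by rw [h1]; ring
  · field_simp
    ring


/-- shorthand for the class size in PSL₂ -/
noncomputable def pidx (g : Matrix.SpecialLinearGroup (Fin 2) F) : ℕ :=
  (Subgroup.centralizer ({(QuotientGroup.mk g : Matrix.ProjectiveSpecialLinearGroup (Fin 2) F)} :
        Set (Matrix.ProjectiveSpecialLinearGroup (Fin 2) F))).index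

theorem pidx_scalar (_hodd : Odd (Fintype.card F)) (g : Matrix.SpecialLinearGroup (Fin 2) F)
    (hg : ¬ NS (g : Matrix (Fin 2) (Fin 2) F)) : pidx g = 1 := by
  have h1 := (not_NS_iff _).mp hg
  have hmem : g ∈ Subgroup.center (Matrix.SpecialLinearGroup (Fin 2) F) := by
    rw [Matrix.SpecialLinearGroup.mem_center_iff]
    refine ⟨(g : Matrix (Fin 2) (Fin 2) F) 0 0, ?_, ?_⟩
    · have hdet := g.det_coe
      rw [h1, Matrix.det_smul, Fintype.card_fin, Matrix.det_one, mul_one] at hdet
      simpa using hdet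
    · conv_rhs => rw [h1]
      ext i j; fin_cases i <;> fin_cases j <;> simp
  have : (QuotientGroup.mk g : Matrix.ProjectiveSpecialLinearGroup (Fin 2) F) = 1 :=
    (QuotientGroup.eq_one_iff g).mpr hmem
  unfold pidx
  rw [this]
  have : Subgroup.centralizer ({1} : Set (Matrix.ProjectiveSpecialLinearGroup (Fin 2) F)) = ⊤ := by
    rw [eq_top_iff]
    intro x _
    rw [Subgroup.mem_centralizer_iff]
    simp
  rw [this, Subgroup.index_top]

theorem sl_index_NS (hodd : Odd (Fintype.card F)) (g : Matrix.SpecialLinearGroup (Fin 2) F)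
    (hg : NS (g : Matrix (Fin 2) (Fin 2) F)) :
    (Subgroup.centralizer ({g} : Set (Matrix.SpecialLinearGroup (Fin 2) F))).index =
      (Fintype.card F ^ 2 - 1) / 2 ∨
    (Subgroup.centralizer ({g} : Set (Matrix.SpecialLinearGroup (Fin 2) F))).index =
      Fintype.card F * (Fintype.card F - 1) ∨
    (Subgroup.centralizer ({g} : Set (Matrix.SpecialLinearGroup (Fin 2) F))).index =
      Fintype.card F * (Fintype.card F + 1) := by
  have h2 : (2 : F) ≠ 0 := two_ne_zero' hodd
  set t := (g : Matrix (Fin 2) (Fin 2) F).trace with ht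
  by_cases ht4 : t ^ 2 = 4
  · left
    have : (t / 2) * (t / 2) = 1 := by
      field_simp
      linear_combination ht4
    obtain ⟨s, hs⟩ := sq_eq_one _ this
    have ht2 : (g : Matrix (Fin 2) (Fin 2) F).trace = 2 * sgn s := by
      rw [← hs, ← ht]; field_simp
    obtain ⟨b, hb, hconj⟩ := conj_V g hg (sgn s) (sgn_mul s) ht2
    rw [index_conj _ _ hconj, sl_index_V h2 _ _ b hb]
  · right
    rw [index_conj _ _ (conj_C'_odd hodd g hg ht4)]
    by_cases hroot : ∃ r : F, r ^ 2 - t * r + 1 = 0
    · right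
      obtain ⟨r, hr⟩ := hroot
      exact sl_index_split t r hr ht4
    · left
      push Not at hroot
      exact sl_index_aniso hodd t hroot

theorem pidx_zero (hodd : Odd (Fintype.card F)) (g : Matrix.SpecialLinearGroup (Fin 2) F)
    (hg : NS (g : Matrix (Fin 2) (Fin 2) F)) (ht : (g : Matrix (Fin 2) (Fin 2) F).trace = 0) :
    2 * pidx g =
      (Subgroup.centralizer ({C' (0 : F)} : Set (Matrix.SpecialLinearGroup (Fin 2) F))).index := by
  have h2 : (2 : F) ≠ 0 := two_ne_zero' hodd
  have h4 : (4 : F) ≠ 0 := by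
    have : (4 : F) = 2 * 2 := by norm_num
    rw [this]; exact mul_ne_zero h2 h2
  unfold pidx
  rw [psl_index_of_trace_zero hodd g hg ht]
  have := conj_C'_odd hodd g hg (by rw [ht]; simpa using h4.symm)
  rw [ht] at this
  exact index_conj _ _ this

omit [Fintype F] in
theorem C'_NS (t : F) : NS ((C' t : Matrix.SpecialLinearGroup (Fin 2) F) : Matrix (Fin 2) (Fin 2) F) :=
  compMat_NS t 1

omit [Fintype F] in
theorem C'_trace (t : F) :
    ((C' t : Matrix.SpecialLinearGroup (Fin 2) F) : Matrix (Fin 2) (Fin 2) F).trace = t :=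
  compMat_trace t 1

theorem index_C'_zero_one (hodd : Odd (Fintype.card F)) (h1 : Fintype.card F % 4 = 1) :
    (Subgroup.centralizer ({C' (0 : F)} : Set (Matrix.SpecialLinearGroup (Fin 2) F))).index =
      Fintype.card F * (Fintype.card F + 1) := by
  have h2 : (2 : F) ≠ 0 := two_ne_zero' hodd
  have h4 : (4 : F) ≠ 0 := by
    have : (4 : F) = 2 * 2 := by norm_num
    rw [this]; exact mul_ne_zero h2 h2
  have hsq : IsSquare (-1 : F) := by
    rw [FiniteField.isSquare_neg_one_iff]; omega
  obtain ⟨i, hi⟩ := hsq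
  exact sl_index_split 0 i (by linear_combination -hi) (by simpa using h4.symm)

theorem index_C'_zero_three (hodd : Odd (Fintype.card F)) (h3 : Fintype.card F % 4 = 3) :
    (Subgroup.centralizer ({C' (0 : F)} : Set (Matrix.SpecialLinearGroup (Fin 2) F))).index =
      Fintype.card F * (Fintype.card F - 1) := by
  have hsq : ¬ IsSquare (-1 : F) := by
    rw [FiniteField.isSquare_neg_one_iff]; omega
  apply sl_index_aniso hodd
  intro r hr
  apply hsq
  exact ⟨r, by linear_combination -hr⟩

omit [Fintype F] in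
theorem range_eq : Set.range (fun g : (Matrix.ProjectiveSpecialLinearGroup (Fin 2) F) =>
      (Subgroup.centralizer ({g} : Set (Matrix.ProjectiveSpecialLinearGroup (Fin 2) F))).index) =
    Set.range (pidx (F := F)) := by
  ext n
  simp only [Set.mem_range]
  constructor
  · rintro ⟨g, rfl⟩
    obtain ⟨A, rfl⟩ := QuotientGroup.mk_surjective g
    exact ⟨A, rfl⟩
  · rintro ⟨A, rfl⟩
    exact ⟨QuotientGroup.mk A, rfl⟩

theorem main (hodd : ¬ 2 ∣ Fintype.card F) (h7 : 7 ≤ Fintype.card F) :
    (Fintype.card F % 4 = 1 →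
      Set.range (fun g : (Matrix.ProjectiveSpecialLinearGroup (Fin 2) F) => (Subgroup.centralizer ({g} : Set (Matrix.ProjectiveSpecialLinearGroup (Fin 2) F))).index) =
        {1, (Fintype.card F ^ 2 - 1) / 2, Fintype.card F * (Fintype.card F + 1) / 2,
          Fintype.card F * (Fintype.card F - 1), Fintype.card F * (Fintype.card F + 1)}) ∧
    (Fintype.card F % 4 = 3 →
      Set.range (fun g : (Matrix.ProjectiveSpecialLinearGroup (Fin 2) F) => (Subgroup.centralizer ({g} : Set (Matrix.ProjectiveSpecialLinearGroup (Fin 2) F))).index) =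
        {1, (Fintype.card F ^ 2 - 1) / 2, Fintype.card F * (Fintype.card F - 1) / 2,
          Fintype.card F * (Fintype.card F + 1), Fintype.card F * (Fintype.card F - 1)}) := by
  have hodd' : Odd (Fintype.card F) := by
    rw [← Nat.not_even_iff_odd, even_iff_two_dvd]; exact hodd
  have h2 : (2 : F) ≠ 0 := two_ne_zero' hodd'
  have h4 : (4 : F) ≠ 0 := by
    have : (4 : F) = 2 * 2 := by norm_num
    rw [this]; exact mul_ne_zero h2 h2
  rw [range_eq]
  -- existence facts
  have E1 : pidx (1 : Matrix.SpecialLinearGroup (Fin 2) F) = 1 := by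
    apply pidx_scalar hodd'
    unfold NS; simp
  have E2 : pidx (V (1 : F) 1 (one_mul 1)) = (Fintype.card F ^ 2 - 1) / 2 := by
    unfold pidx
    rw [psl_index_of_trace_ne h2 _ (by rw [V_trace, mul_one]; exact h2)]
    exact sl_index_V h2 1 (one_mul 1) 1 one_ne_zero
  obtain ⟨ts, rs, hts0, hts4, hrs⟩ := exists_split (F := F) h7
  have E4 : pidx (C' ts) = Fintype.card F * (Fintype.card F + 1) := by
    unfold pidx
    rw [psl_index_of_trace_ne h2 _ (by rw [C'_trace]; exact hts0)]
    exact sl_index_split ts rs hrs hts4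
  obtain ⟨ta, hta0, hta⟩ := exists_aniso hodd' h7
  have E5 : pidx (C' ta) = Fintype.card F * (Fintype.card F - 1) := by
    unfold pidx
    rw [psl_index_of_trace_ne h2 _ (by rw [C'_trace]; exact hta0)]
    exact sl_index_aniso hodd' ta hta
  have E3 := pidx_zero hodd' (C' (0 : F)) (C'_NS 0) (C'_trace 0)
  -- general membership
  have gen : ∀ g : Matrix.SpecialLinearGroup (Fin 2) F,
      pidx g = 1 ∨ pidx g = (Fintype.card F ^ 2 - 1) / 2 ∨
      pidx g = Fintype.card F * (Fintype.card F - 1) ∨
      pidx g = Fintype.card F * (Fintype.card F + 1) ∨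
      2 * pidx g =
        (Subgroup.centralizer ({C' (0 : F)} : Set (Matrix.SpecialLinearGroup (Fin 2) F))).index := by
    intro g
    by_cases hg : NS (g : Matrix (Fin 2) (Fin 2) F)
    · by_cases ht : (g : Matrix (Fin 2) (Fin 2) F).trace = 0
      · right; right; right; right
        exact pidx_zero hodd' g hg ht
      · have : pidx g = (Subgroup.centralizer ({g} : Set (Matrix.SpecialLinearGroup (Fin 2) F))).index :=
          psl_index_of_trace_ne h2 g ht
        rw [this]
        rcases sl_index_NS hodd' g hg with h | h | h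
        · right; left; exact h
        · right; right; left; exact h
        · right; right; right; left; exact h
    · left; exact pidx_scalar hodd' g hg
  constructor
  · intro h1
    have hC := index_C'_zero_one hodd' h1
    ext n
    simp only [Set.mem_range, Set.mem_insert_iff, Set.mem_singleton_iff]
    constructor
    · rintro ⟨g, rfl⟩
      rcases gen g with h | h | h | h | h
      · left; exact h
      · right; left; exact h
      · right; right; right; left; exact h
      · right; right; right; right; exact h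
      · right; right; left
        rw [hC] at h
        omega
    · rintro (rfl | rfl | rfl | rfl | rfl)
      · exact ⟨1, E1⟩
      · exact ⟨_, E2⟩
      · refine ⟨C' 0, ?_⟩
        rw [hC] at E3
        omega
      · exact ⟨_, E5⟩
      · exact ⟨_, E4⟩
  · intro h3
    have hC := index_C'_zero_three hodd' h3
    ext n
    simp only [Set.mem_range, Set.mem_insert_iff, Set.mem_singleton_iff]
    constructor
    · rintro ⟨g, rfl⟩
      rcases gen g with h | h | h | h | h
      · left; exact h
      · right; left; exact h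
      · right; right; right; right; exact h
      · right; right; right; left; exact h
      · right; right; left
        rw [hC] at h
        omega
    · rintro (rfl | rfl | rfl | rfl | rfl)
      · exact ⟨1, E1⟩
      · exact ⟨_, E2⟩
      · refine ⟨C' 0, ?_⟩
        rw [hC] at E3
        omega
      · exact ⟨_, E4⟩
      · exact ⟨_, E5⟩

end assembly

end Cfsg.Agent.Lib.Helper4_PSL2ClassOdd
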