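import Mathlib

namespace Cfsg.Agent.Lib.Helper4_PSL2Order
open Matrix

variable {F : Type*} [Field F]

/-- Cayley–Hamilton for determinant-one 2×2 matrices -/
theorem ch (A : Matrix (Fin 2) (Fin 2) F) (hdet : A.det = 1) : A * A = A.trace • A - 1 := by
  rw [Matrix.det_fin_two] at hdet
  ext i j
  fin_cases i <;> fin_cases j <;>
    simp [Matrix.mul_apply, Fin.sum_univ_two, Matrix.trace_fin_two] <;>
    first | linear_combination (-1 : F) * hdet | ring1

theorem pow_four (B : Matrix (Fin 2) (Fin 2) F) (t : F) (h : B * B = t • B - 1) :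
    B ^ 4 = (t ^ 3 - 2 * t) • B + (1 - t ^ 2) • (1 : Matrix (Fin 2) (Fin 2) F) := by
  have e : B ^ 4 = (B * B) * (B * B) := by noncomm_ring
  rw [e, h]
  have : (t • B - 1) * (t • B - 1) = (t * t) • (B * B) - (2 * t) • B + 1 := by
    rw [sub_mul, mul_sub, mul_sub, Matrix.smul_mul, Matrix.mul_smul, smul_smul, Matrix.mul_one,
      Matrix.one_mul, Matrix.mul_one, two_mul, add_smul]
    abel
  rw [this, h]
  ext i j
  simp only [Matrix.add_apply, Matrix.sub_apply, Matrix.smul_apply, smul_eq_mul]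
  ring

theorem trace_cases (p : ℕ) [Fact p.Prime] [CharP F p]
    (B : Matrix (Fin 2) (Fin 2) F) (hdet : B.det = 1) (k : ℕ) (hk : B ^ (4 * p ^ k) = 1) :
    B.trace = 0 ∨ B.trace = 2 ∨ B.trace = -2 := by
  have h := ch B hdet
  set t := B.trace with ht
  have h4 := pow_four B t h
  have hN : (B ^ 4 - 1) ^ (p ^ k) = 0 := by
    have hc : Commute (B ^ 4) (1 : Matrix (Fin 2) (Fin 2) F) := Commute.one_right _
    have : CharP (Matrix (Fin 2) (Fin 2) F) p := Matrix.charP p
    rw [sub_pow_char_pow_of_commute p k hc, ← pow_mul, hk, one_pow, sub_self]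
  have hnil : IsNilpotent (B ^ 4 - 1) := ⟨p ^ k, hN⟩
  have htr : (B ^ 4 - 1).trace = 0 :=
    (Matrix.isNilpotent_trace_of_isNilpotent hnil).eq_zero
  rw [h4, Matrix.trace_sub, Matrix.trace_add, Matrix.trace_smul, Matrix.trace_smul,
    Matrix.trace_one, ← ht] at htr
  simp only [Fintype.card_fin, smul_eq_mul] at htr
  have h5 : t ^ 2 * ((t - 2) * (t + 2)) = 0 := by
    push_cast at htr
    linear_combination htr
  rcases mul_eq_zero.1 h5 with h6 | h6
  · left
    exact pow_eq_zero_iff (two_ne_zero) |>.1 h6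
  · rcases mul_eq_zero.1 h6 with h7 | h7
    · right; left
      linear_combination h7
    · right; right
      linear_combination h7

theorem neg_one_mem_center (A : Matrix.SpecialLinearGroup (Fin 2) F)
    (h : (A : Matrix (Fin 2) (Fin 2) F) = -1) :
    A ∈ Subgroup.center (Matrix.SpecialLinearGroup (Fin 2) F) := by
  rw [Matrix.SpecialLinearGroup.mem_center_iff]
  refine ⟨-1, by simp, ?_⟩
  rw [h]
  ext i j
  fin_cases i <;> fin_cases j <;> simp

theorem main (p : ℕ) [Fact p.Prime] [CharP F p]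
    (g : Matrix.ProjectiveSpecialLinearGroup (Fin 2) F) :
    orderOf g ≠ 2 * p := by
  have hp : p.Prime := Fact.out
  have : CharP (Matrix (Fin 2) (Fin 2) F) p := Matrix.charP p
  obtain ⟨A, rfl⟩ := QuotientGroup.mk_surjective g
  intro ho
  have h1 : (QuotientGroup.mk A : Matrix.ProjectiveSpecialLinearGroup (Fin 2) F) ^ (2 * p) = 1 := by
    rw [← ho]; exact pow_orderOf_eq_one _
  rw [← QuotientGroup.mk_pow, QuotientGroup.eq_one_iff,
    Matrix.SpecialLinearGroup.mem_center_iff] at h1
  obtain ⟨r, hr, hr2⟩ := h1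
  simp only [Fintype.card_fin] at hr
  set B : Matrix (Fin 2) (Fin 2) F := (A : Matrix (Fin 2) (Fin 2) F) with hB
  have hdet : B.det = 1 := A.2
  have h4p : B ^ (4 * p ^ 1) = 1 := by
    have e : B ^ (4 * p ^ 1) = (B ^ (2 * p)) ^ 2 := by
      rw [← pow_mul]; congr 1; ring
    rw [e, hB, ← Matrix.SpecialLinearGroup.coe_pow, ← hr2, ← map_pow, hr, map_one]
  have hch := ch B hdet
  -- divisibility helper
  have hnot : ∀ m : ℕ, (QuotientGroup.mk A : Matrix.ProjectiveSpecialLinearGroup (Fin 2) F) ^ m = 1 →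
      0 < m → m < 2 * p → False := by
    intro m hm h0 hlt
    have := orderOf_dvd_of_pow_eq_one hm
    rw [ho] at this
    exact absurd (Nat.le_of_dvd h0 this) (by omega)
  have hp2 : 2 ≤ p := hp.two_le
  rcases trace_cases p B hdet 1 h4p with ht | ht | ht
  · -- trace 0 : B*B = -1
    rw [ht, zero_smul, zero_sub] at hch
    refine hnot 2 ?_ (by norm_num) (by omega)
    rw [← QuotientGroup.mk_pow, QuotientGroup.eq_one_iff]
    apply neg_one_mem_center
    rw [Matrix.SpecialLinearGroup.coe_pow, ← hB, pow_two, hch]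
  · -- trace 2 : (B-1)^2 = 0
    have hsq : (B - 1) ^ 2 = 0 := by
      rw [pow_two, sub_mul, mul_sub, hch, ht, Matrix.mul_one, Matrix.one_mul, two_smul]
      abel
    have hpw : (B - 1) ^ p = 0 := by
      obtain ⟨c, hc⟩ := Nat.exists_eq_add_of_le hp2
      rw [hc, pow_add, hsq, zero_mul]
    rw [sub_pow_char_of_commute p (Commute.one_right _), one_pow, sub_eq_zero] at hpw
    refine hnot p ?_ (by omega) (by omega)
    rw [← QuotientGroup.mk_pow]
    have : A ^ p = 1 := by
      apply Subtype.ext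
      rw [Matrix.SpecialLinearGroup.coe_pow, ← hB, hpw]; rfl
    rw [this]; rfl
  · -- trace -2 : (B+1)^2 = 0
    have hsq : (B + 1) ^ 2 = 0 := by
      rw [pow_two, add_mul, mul_add, hch, ht, Matrix.mul_one, Matrix.one_mul, neg_smul, two_smul]
      abel
    have hpw : (B + 1) ^ p = 0 := by
      obtain ⟨c, hc⟩ := Nat.exists_eq_add_of_le hp2
      rw [hc, pow_add, hsq, zero_mul]
    rw [add_pow_char_of_commute p (Commute.one_right _), one_pow, add_eq_zero_iff_eq_neg] at hpw
    refine hnot p ?_ (by omega) (by omega)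
    rw [← QuotientGroup.mk_pow, QuotientGroup.eq_one_iff]
    apply neg_one_mem_center
    rw [Matrix.SpecialLinearGroup.coe_pow, ← hB, hpw]

end Cfsg.Agent.Lib.Helper4_PSL2Order
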