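import Mathlib
import Cfsg.Agent.Lib.Helper4_PSL2ClassOdd
import Cfsg.Agent.Lib.Helper4_PSL2Order

namespace Cfsg.Agent.Lib.Helper4_PSL2Orders
open Matrix Polynomial Cfsg.Agent.Lib.Helper4_GL2Classes0 Cfsg.Agent.Lib.Helper4_SL2Classes
  Cfsg.Agent.Lib.Helper4_SL2Card Cfsg.Agent.Lib.Helper4_SL2Cent Cfsg.Agent.Lib.Helper4_SL2Odd
  Cfsg.Agent.Lib.Helper4_PSL2ClassOdd

variable {F : Type*} [Field F]

/-- the characteristic polynomial of the companion matrix -/
noncomputable def fpol (t : F) : F[X] := X ^ 2 - C t * X + 1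

theorem fpol_natDegree (t : F) : (fpol t).natDegree = 2 := by
  unfold fpol
  compute_degree!

theorem fpol_eval (t r : F) : (fpol t).eval r = r ^ 2 - t * r + 1 := by
  simp [fpol]

theorem fpol_irreducible (t : F) (hirr : ∀ r : F, r ^ 2 - t * r + 1 ≠ 0) :
    Irreducible (fpol t) := by
  apply Polynomial.irreducible_of_degree_le_three_of_not_isRoot
  · rw [fpol_natDegree]; simp
  · intro r hr
    rw [IsRoot.def, fpol_eval] at hr
    exact hirr r hr

theorem fpol_eval₂ {K : Type*} [CommRing K] (ι : F →+* K) (α : K) (t : F) :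
    (fpol t).eval₂ ι α = α ^ 2 - ι t * α + 1 := by
  simp [fpol]

theorem root_sq (t : F) :
    (AdjoinRoot.root (fpol t)) ^ 2 =
      AdjoinRoot.of (fpol t) t * AdjoinRoot.root (fpol t) - 1 := by
  have h := AdjoinRoot.eval₂_root (fpol t)
  rw [fpol_eval₂] at h
  linear_combination h

/-- the embedding of the torus into the quadratic extension -/
noncomputable def phi (t : F) :
    Subgroup.centralizer ({C' t} : Set (Matrix.SpecialLinearGroup (Fin 2) F)) →* AdjoinRoot (fpol t) where
  toFun Q := AdjoinRoot.of (fpol t) ((Q.1 : Matrix (Fin 2) (Fin 2) F) 0 0) +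
    AdjoinRoot.of (fpol t) ((Q.1 : Matrix (Fin 2) (Fin 2) F) 1 0) * AdjoinRoot.root (fpol t)
  map_one' := by simp
  map_mul' Q Q' := by
    obtain ⟨h1, h2⟩ := (mem_centralizer_C' t Q.1).mp Q.2
    have e00 : ((Q * Q' : Subgroup.centralizer ({C' t} : Set (Matrix.SpecialLinearGroup (Fin 2) F))).1 :
        Matrix (Fin 2) (Fin 2) F) 0 0 =
        (Q.1 : Matrix (Fin 2) (Fin 2) F) 0 0 * (Q'.1 : Matrix (Fin 2) (Fin 2) F) 0 0 -
        (Q.1 : Matrix (Fin 2) (Fin 2) F) 1 0 * (Q'.1 : Matrix (Fin 2) (Fin 2) F) 1 0 := by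
      rw [Subgroup.coe_mul, Matrix.SpecialLinearGroup.coe_mul, Matrix.mul_apply, Fin.sum_univ_two, h1]
      ring
    have e10 : ((Q * Q' : Subgroup.centralizer ({C' t} : Set (Matrix.SpecialLinearGroup (Fin 2) F))).1 :
        Matrix (Fin 2) (Fin 2) F) 1 0 =
        (Q.1 : Matrix (Fin 2) (Fin 2) F) 1 0 * (Q'.1 : Matrix (Fin 2) (Fin 2) F) 0 0 +
        ((Q.1 : Matrix (Fin 2) (Fin 2) F) 0 0 + t * (Q.1 : Matrix (Fin 2) (Fin 2) F) 1 0) *
          (Q'.1 : Matrix (Fin 2) (Fin 2) F) 1 0 := by
      rw [Subgroup.coe_mul, Matrix.SpecialLinearGroup.coe_mul, Matrix.mul_apply, Fin.sum_univ_two, h2]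
    rw [e00, e10]
    simp only [map_sub, map_mul, map_add]
    have hr := root_sq t
    linear_combination (AdjoinRoot.of (fpol t) ((Q.1 : Matrix (Fin 2) (Fin 2) F) 1 0) *
      AdjoinRoot.of (fpol t) ((Q'.1 : Matrix (Fin 2) (Fin 2) F) 1 0)) * (-hr)

theorem phi_injective (t : F) (hirr : ∀ r : F, r ^ 2 - t * r + 1 ≠ 0) :
    Function.Injective (phi t) := by
  have : Fact (Irreducible (fpol t)) := ⟨fpol_irreducible t hirr⟩
  intro Q Q' h
  obtain ⟨h1, h2⟩ := (mem_centralizer_C' t Q.1).mp Q.2
  obtain ⟨h1', h2'⟩ := (mem_centralizer_C' t Q'.1).mp Q'.2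
  have hinj : Function.Injective (AdjoinRoot.of (fpol t)) := (AdjoinRoot.of (fpol t)).injective
  set x := (Q.1 : Matrix (Fin 2) (Fin 2) F) 0 0
  set z := (Q.1 : Matrix (Fin 2) (Fin 2) F) 1 0
  set x' := (Q'.1 : Matrix (Fin 2) (Fin 2) F) 0 0
  set z' := (Q'.1 : Matrix (Fin 2) (Fin 2) F) 1 0
  have h' : AdjoinRoot.of (fpol t) x + AdjoinRoot.of (fpol t) z * AdjoinRoot.root (fpol t) =
      AdjoinRoot.of (fpol t) x' + AdjoinRoot.of (fpol t) z' * AdjoinRoot.root (fpol t) := h
  have hz : z = z' := by
    by_contra hne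
    have hne' : z - z' ≠ 0 := sub_ne_zero.mpr hne
    have hroot : AdjoinRoot.root (fpol t) = AdjoinRoot.of (fpol t) ((x' - x) / (z - z')) := by
      have hne'' : AdjoinRoot.of (fpol t) (z - z') ≠ 0 := by
        rw [Ne, map_eq_zero_iff _ hinj]; exact hne'
      rw [map_div₀]
      rw [eq_div_iff hne'']
      simp only [map_sub]
      linear_combination h'
    have h3 := AdjoinRoot.eval₂_root (fpol t)
    rw [hroot, Polynomial.eval₂_at_apply, map_eq_zero_iff _ hinj, fpol_eval] at h3
    exact hirr _ h3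
  have hx : x = x' := by
    rw [hz] at h'
    have := add_right_cancel h'
    exact hinj this
  apply Subtype.ext
  apply Subtype.ext
  ext i j
  fin_cases i <;> fin_cases j
  · exact hx
  · show (Q.1 : Matrix (Fin 2) (Fin 2) F) 0 1 = (Q'.1 : Matrix (Fin 2) (Fin 2) F) 0 1
    rw [h1, h1']; exact congrArg _ hz
  · exact hz
  · show (Q.1 : Matrix (Fin 2) (Fin 2) F) 1 1 = (Q'.1 : Matrix (Fin 2) (Fin 2) F) 1 1
    rw [h2, h2']
    show x + t * z = x' + t * z'
    rw [hx, hz]

theorem torus_cyclic [Finite F] (t : F) (hirr : ∀ r : F, r ^ 2 - t * r + 1 ≠ 0) :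
    IsCyclic (Subgroup.centralizer ({C' t} : Set (Matrix.SpecialLinearGroup (Fin 2) F))) := by
  have : Fact (Irreducible (fpol t)) := ⟨fpol_irreducible t hirr⟩
  exact isCyclic_of_injective_ringHom (phi t) (phi_injective t hirr)


section orders

theorem not_NS_mem_center (g : Matrix.SpecialLinearGroup (Fin 2) F)
    (hg : ¬ NS (g : Matrix (Fin 2) (Fin 2) F)) :
    g ∈ Subgroup.center (Matrix.SpecialLinearGroup (Fin 2) F) := by
  have h1 := (not_NS_iff _).mp hg
  rw [Matrix.SpecialLinearGroup.mem_center_iff]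
  refine ⟨(g : Matrix (Fin 2) (Fin 2) F) 0 0, ?_, ?_⟩
  · have hdet := g.det_coe
    rw [h1, Matrix.det_smul, Fintype.card_fin, Matrix.det_one, mul_one] at hdet
    simpa using hdet
  · conv_rhs => rw [h1]
    ext i j; fin_cases i <;> fin_cases j <;> simp

theorem mk_pow_eq_one_iff (A : Matrix.SpecialLinearGroup (Fin 2) F) (k : ℕ) :
    (QuotientGroup.mk A : Matrix.ProjectiveSpecialLinearGroup (Fin 2) F) ^ k = 1 ↔
      A ^ k = 1 ∨ A ^ k = N1 := by
  rw [← QuotientGroup.mk_pow, QuotientGroup.eq_one_iff, mem_center_iff']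

theorem sq_eq_one_cases (h2 : (2 : F) ≠ 0) (X : Matrix.SpecialLinearGroup (Fin 2) F)
    (h : X * X = 1) : X = 1 ∨ X = N1 := by
  rw [← mem_center_iff']
  apply not_NS_mem_center
  have hch := Cfsg.Agent.Lib.Helper4_PSL2Order.ch (X : Matrix (Fin 2) (Fin 2) F) X.det_coe
  have h' : (X : Matrix (Fin 2) (Fin 2) F) * (X : Matrix (Fin 2) (Fin 2) F) = 1 := by
    rw [← Matrix.SpecialLinearGroup.coe_mul, h]; rfl
  rw [h'] at hch
  set t := (X : Matrix (Fin 2) (Fin 2) F).trace
  have e00 := congrFun (congrFun hch 0) 0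
  have e01 := congrFun (congrFun hch 0) 1
  have e10 := congrFun (congrFun hch 1) 0
  have e11 := congrFun (congrFun hch 1) 1
  simp at e00 e01 e10 e11
  have ht : t ≠ 0 := by
    intro h0
    rw [h0] at e00
    apply h2
    linear_combination e00
  unfold NS
  push Not
  refine ⟨?_, ?_, ?_⟩
  · rcases e01 with h | h
    · exact absurd h ht
    · exact h
  · rcases e10 with h | h
    · exact absurd h ht
    · exact h
  · apply mul_left_cancel₀ ht
    linear_combination e11 - e00

theorem half_pow_mem (h2 : (2 : F) ≠ 0) (X : Matrix.SpecialLinearGroup (Fin 2) F) (n : ℕ)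
    (hn : X ^ (2 * n) = 1) : X ^ n = 1 ∨ X ^ n = N1 := by
  apply sq_eq_one_cases h2
  rw [← pow_add, ← two_mul, hn]


theorem card_torus_split [Fintype F] (t r : F) (hr : r ^ 2 - t * r + 1 = 0) (ht : t ^ 2 ≠ 4) :
    Nat.card (Subgroup.centralizer ({C' t} : Set (Matrix.SpecialLinearGroup (Fin 2) F))) =
      Fintype.card F - 1 := by
  have hr0 : r ≠ 0 := by
    rintro rfl
    simp at hr
  have htr : t = r + r⁻¹ := by
    field_simp
    linear_combination -hr
  have hr1 : r ^ 2 ≠ 1 := by
    intro h1
    apply ht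
    rw [htr]
    have : r⁻¹ = r := by
      field_simp
      exact h1.symm
    rw [this]
    linear_combination 4 * h1
  rw [Nat.card_congr (centEquiv t), htr]
  exact card_N_split r hr0 hr1

theorem card_torus_aniso [Fintype F] (t : F) (hirr : ∀ r : F, r ^ 2 - t * r + 1 ≠ 0) :
    Nat.card (Subgroup.centralizer ({C' t} : Set (Matrix.SpecialLinearGroup (Fin 2) F))) =
      Fintype.card F + 1 := by
  have hirr' : ∀ r : F, r ^ 2 + t * r + 1 ≠ 0 := by
    intro r h
    apply hirr (-r)
    linear_combination h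
  rw [Nat.card_congr (centEquiv t)]
  by_cases hodd : Odd (Fintype.card F)
  · exact card_N_aniso_odd hodd t hirr'
  · have hch : ringChar F = 2 := by
      rw [FiniteField.even_card_iff_char_two]
      rw [Nat.not_odd_iff_even, Nat.even_iff] at hodd
      exact hodd
    have : CharP F 2 := ringChar.of_eq hch
    exact card_N_aniso t hirr'

theorem C'_mem (t : F) :
    C' t ∈ Subgroup.centralizer ({C' t} : Set (Matrix.SpecialLinearGroup (Fin 2) F)) := by
  rw [Subgroup.mem_centralizer_iff]
  simp

theorem C'_pow_card [Fintype F] (t : F) (ht : t ^ 2 ≠ 4) :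
    (C' t : Matrix.SpecialLinearGroup (Fin 2) F) ^ (Fintype.card F - 1) = 1 ∨
    (C' t : Matrix.SpecialLinearGroup (Fin 2) F) ^ (Fintype.card F + 1) = 1 := by
  have key : ∀ n, Nat.card (Subgroup.centralizer ({C' t} : Set (Matrix.SpecialLinearGroup (Fin 2) F))) = n →
      (C' t : Matrix.SpecialLinearGroup (Fin 2) F) ^ n = 1 := by
    intro n hn
    have h1 : (⟨C' t, C'_mem t⟩ : Subgroup.centralizer ({C' t} : Set (Matrix.SpecialLinearGroup (Fin 2) F))) ^ n = 1 := by
      rw [← hn]; exact pow_card_eq_one'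
    have := congrArg Subtype.val h1
    simpa using this
  by_cases hroot : ∃ r : F, r ^ 2 - t * r + 1 = 0
  · obtain ⟨r, hr⟩ := hroot
    left
    exact key _ (card_torus_split t r hr ht)
  · push Not at hroot
    right
    exact key _ (card_torus_aniso t hroot)


theorem gcd_odd (q : ℕ) (hq : Odd q) : Nat.gcd 2 (q - 1) = 2 := by
  apply Nat.gcd_eq_left
  obtain ⟨k, hk⟩ := hq
  exact ⟨k, by omega⟩

theorem gcd_even (q : ℕ) (hq : ¬ Odd q) (h1 : 1 ≤ q) : Nat.gcd 2 (q - 1) = 1 := by
  rw [Nat.not_odd_iff_even] at hq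
  obtain ⟨k, hk⟩ := hq
  have : Odd (q - 1) := ⟨k - 1, by omega⟩
  exact Nat.coprime_two_left.mpr this

theorem pow_of_conj {G : Type*} [Group G] (a b : G) (h : IsConj a b) (n : ℕ) (hb : b ^ n = 1) :
    a ^ n = 1 := by
  obtain ⟨c, hc⟩ := isConj_iff.mp h
  have : a = c⁻¹ * b * c := by rw [← hc]; group
  rw [this]
  have e : (c⁻¹ * b * c) ^ n = c⁻¹ * b ^ n * c := by
    have := conj_pow (a := c⁻¹) (b := b) (i := n)
    rw [inv_inv] at this
    exact this
  rw [e, hb]; group

theorem order_dvd [Fintype F] (p : ℕ) [Fact p.Prime] [CharP F p]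
    (A : Matrix.SpecialLinearGroup (Fin 2) F) :
    orderOf (QuotientGroup.mk A : Matrix.ProjectiveSpecialLinearGroup (Fin 2) F) ∣ p ∨
    orderOf (QuotientGroup.mk A : Matrix.ProjectiveSpecialLinearGroup (Fin 2) F) ∣
      (Fintype.card F - 1) / Nat.gcd 2 (Fintype.card F - 1) ∨
    orderOf (QuotientGroup.mk A : Matrix.ProjectiveSpecialLinearGroup (Fin 2) F) ∣
      (Fintype.card F + 1) / Nat.gcd 2 (Fintype.card F - 1) := by
  have hpp : p.Prime := Fact.out
  have hq1 : 1 ≤ Fintype.card F := Fintype.card_pos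
  by_cases hns : NS (A : Matrix (Fin 2) (Fin 2) F)
  · set t := (A : Matrix (Fin 2) (Fin 2) F).trace with ht
    by_cases ht4 : t ^ 2 = 4
    · left
      apply orderOf_dvd_of_pow_eq_one
      rw [← QuotientGroup.mk_pow, QuotientGroup.eq_one_iff]
      apply not_NS_mem_center
      have : CharP (Matrix (Fin 2) (Fin 2) F) p := Matrix.charP p
      have hs : ∃ s : F, s * s = 1 ∧ t = 2 * s := by
        by_cases h2 : (2 : F) = 0
        · refine ⟨1, one_mul 1, ?_⟩
          have h4 : (4 : F) = 0 := by
            have : (4 : F) = 2 * 2 := by norm_num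
            rw [this, h2, mul_zero]
          rw [h4] at ht4
          rw [h2, zero_mul]
          exact pow_eq_zero_iff (two_ne_zero) |>.mp ht4
        · refine ⟨t / 2, ?_, ?_⟩
          · field_simp
            linear_combination ht4
          · field_simp
      obtain ⟨s, hs1, hs2⟩ := hs
      have hch := Cfsg.Agent.Lib.Helper4_PSL2Order.ch (A : Matrix (Fin 2) (Fin 2) F) A.det_coe
      rw [← ht, hs2] at hch
      set B := (A : Matrix (Fin 2) (Fin 2) F) with hB
      have hsq : (B - s • (1 : Matrix (Fin 2) (Fin 2) F)) ^ 2 = 0 := by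
        rw [pow_two, sub_mul, mul_sub, mul_sub, hch]
        simp only [Matrix.mul_smul, Matrix.smul_mul, Matrix.mul_one, Matrix.one_mul, smul_smul,
          hs1]
        rw [mul_smul, two_smul]
        simp only [one_smul]
        abel
      have hpw : (B - s • (1 : Matrix (Fin 2) (Fin 2) F)) ^ p = 0 := by
        obtain ⟨c, hc⟩ := Nat.exists_eq_add_of_le hpp.two_le
        rw [hc, pow_add, hsq, zero_mul]
      have hcomm : Commute B (s • (1 : Matrix (Fin 2) (Fin 2) F)) := by
        rw [commute_iff_eq, Matrix.mul_smul, Matrix.smul_mul, mul_one, one_mul]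
      rw [sub_pow_char_of_commute p hcomm, sub_eq_zero, _root_.smul_pow, one_pow] at hpw
      rw [Matrix.SpecialLinearGroup.coe_pow, ← hB, hpw]
      unfold NS
      simp
    · right
      have hconj : IsConj A (C' t) := by
        by_cases hodd : Odd (Fintype.card F)
        · exact conj_C'_odd hodd A hns ht4
        · have hch : ringChar F = 2 := by
            rw [FiniteField.even_card_iff_char_two]
            rw [Nat.not_odd_iff_even, Nat.even_iff] at hodd
            exact hodd
          have : CharP F 2 := ringChar.of_eq hch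
          exact conj_C' A hns
      have key : ∀ n : ℕ, (C' t : Matrix.SpecialLinearGroup (Fin 2) F) ^ n = 1 →
          orderOf (QuotientGroup.mk A : Matrix.ProjectiveSpecialLinearGroup (Fin 2) F) ∣
            n / Nat.gcd 2 (Fintype.card F - 1) ∨ ¬ (2 ∣ n ∨ ¬ Odd (Fintype.card F)) := by
        intro n hn
        have hA : A ^ n = 1 := pow_of_conj A (C' t) hconj n hn
        by_cases hodd : Odd (Fintype.card F)
        · by_cases h2n : 2 ∣ n
          · left
            rw [gcd_odd _ hodd]
            obtain ⟨m, rfl⟩ := h2n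
            rw [Nat.mul_div_cancel_left _ (by norm_num)]
            apply orderOf_dvd_of_pow_eq_one
            rw [mk_pow_eq_one_iff]
            exact half_pow_mem (two_ne_zero' hodd) A m hA
          · right
            push Not
            exact ⟨h2n, hodd⟩
        · left
          rw [gcd_even _ hodd hq1, Nat.div_one]
          apply orderOf_dvd_of_pow_eq_one
          rw [← QuotientGroup.mk_pow, hA]; rfl
      rcases C'_pow_card t ht4 with h | h
      · left
        rcases key _ h with h' | h'
        · exact h'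
        · exfalso
          apply h'
          by_cases hodd : Odd (Fintype.card F)
          · left
            obtain ⟨k, hk⟩ := hodd
            exact ⟨k, by omega⟩
          · right; exact hodd
      · right
        rcases key _ h with h' | h'
        · exact h'
        · exfalso
          apply h'
          by_cases hodd : Odd (Fintype.card F)
          · left
            obtain ⟨k, hk⟩ := hodd
            exact ⟨k + 1, by omega⟩
          · right; exact hodd
  · left
    have : (QuotientGroup.mk A : Matrix.ProjectiveSpecialLinearGroup (Fin 2) F) = 1 :=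
      (QuotientGroup.eq_one_iff A).mpr (not_NS_mem_center A hns)
    rw [this, orderOf_one]
    exact one_dvd _


theorem exists_aniso_any [Fintype F] : ∃ t : F, ∀ r : F, r ^ 2 - t * r + 1 ≠ 0 := by
  classical
  by_contra hcon
  push Not at hcon
  choose f hf using hcon
  have hf0 : ∀ t, f t ≠ 0 := by
    intro t h
    have := hf t
    rw [h] at this
    simp at this
  have htr : ∀ t, t = f t + (f t)⁻¹ := by
    intro t
    have := hf t
    have h0 := hf0 t
    field_simp
    linear_combination -this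
  let φ : F → Fˣ := fun t => Units.mk0 (f t) (hf0 t)
  have hinj : Function.Injective φ := by
    intro t t' h
    have h1 : f t = f t' := congrArg Units.val h
    rw [htr t, htr t', h1]
  have := Fintype.card_le_of_injective φ hinj
  rw [Fintype.card_units] at this
  have : 0 < Fintype.card F := Fintype.card_pos
  omega

theorem V_mul (a b : F) : V (1 : F) a (one_mul 1) * V 1 b (one_mul 1) = V 1 (a + b) (one_mul 1) := by
  apply Subtype.ext
  rw [Matrix.SpecialLinearGroup.coe_mul]
  show !![(1 : F), a; 0, 1] * !![1, b; 0, 1] = !![1, a + b; 0, 1]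
  rw [Matrix.mul_fin_two]
  ext i j; fin_cases i <;> fin_cases j <;> simp [add_comm]

theorem V_pow (b : F) (n : ℕ) : (V (1 : F) b (one_mul 1)) ^ n = V 1 (n * b) (one_mul 1) := by
  induction n with
  | zero =>
    rw [pow_zero]
    apply Subtype.ext
    ext i j; fin_cases i <;> fin_cases j <;> simp [V]
  | succ k ih =>
    rw [pow_succ, ih, V_mul]
    congr 1
    push_cast; ring

theorem orderOf_mk_V (p : ℕ) [Fact p.Prime] [CharP F p] :
    orderOf (QuotientGroup.mk (V (1 : F) 1 (one_mul 1)) :
      Matrix.ProjectiveSpecialLinearGroup (Fin 2) F) = p := by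
  have hpp : p.Prime := Fact.out
  have h1 : (QuotientGroup.mk (V (1 : F) 1 (one_mul 1)) :
      Matrix.ProjectiveSpecialLinearGroup (Fin 2) F) ^ p = 1 := by
    rw [← QuotientGroup.mk_pow, V_pow, mul_one, CharP.cast_eq_zero]
    have : V (1 : F) 0 (one_mul 1) = 1 := by
      apply Subtype.ext
      ext i j; fin_cases i <;> fin_cases j <;> simp [V]
    rw [this]; rfl
  have hd := orderOf_dvd_of_pow_eq_one h1
  rcases (Nat.dvd_prime hpp).mp hd with h | h
  · exfalso
    rw [orderOf_eq_one_iff, QuotientGroup.eq_one_iff] at h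
    rw [mem_center_iff'] at h
    have hns := V_NS (1 : F) 1 (one_mul 1) one_ne_zero
    rcases h with h | h
    · rw [h] at hns
      unfold NS at hns
      simp at hns
    · rw [h, N1_val] at hns
      unfold NS at hns
      simp at hns
  · exact h

theorem orderOf_mk_eq [Fintype F] (x : Matrix.SpecialLinearGroup (Fin 2) F) (n : ℕ)
    (hn : orderOf x = n) (hev : Odd (Fintype.card F) → 2 ∣ n) :
    orderOf (QuotientGroup.mk x : Matrix.ProjectiveSpecialLinearGroup (Fin 2) F) =
      n / Nat.gcd 2 (Fintype.card F - 1) := by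
  have hq1 : 1 ≤ Fintype.card F := Fintype.card_pos
  by_cases hodd : Odd (Fintype.card F)
  · rw [gcd_odd _ hodd]
    obtain ⟨m, rfl⟩ := hev hodd
    rw [Nat.mul_div_cancel_left _ (by norm_num)]
    have h2 := two_ne_zero' hodd
    apply Nat.dvd_antisymm
    · apply orderOf_dvd_of_pow_eq_one
      rw [mk_pow_eq_one_iff]
      apply half_pow_mem h2
      rw [← hn]; exact pow_orderOf_eq_one x
    · have h1 := pow_orderOf_eq_one (QuotientGroup.mk x : Matrix.ProjectiveSpecialLinearGroup (Fin 2) F)
      rw [mk_pow_eq_one_iff] at h1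
      set k := orderOf (QuotientGroup.mk x : Matrix.ProjectiveSpecialLinearGroup (Fin 2) F)
      have h3 : x ^ (2 * k) = 1 := by
        rw [mul_comm, pow_mul]
        rcases h1 with h | h
        · rw [h, one_pow]
        · rw [h, pow_two, N1_mul_N1]
      have := orderOf_dvd_of_pow_eq_one h3
      rw [hn] at this
      exact Nat.dvd_of_mul_dvd_mul_left (by norm_num) this
  · rw [gcd_even _ hodd hq1, Nat.div_one]
    have hch : ringChar F = 2 := by
      rw [FiniteField.even_card_iff_char_two]
      rw [Nat.not_odd_iff_even, Nat.even_iff] at hodd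
      exact hodd
    have : CharP F 2 := ringChar.of_eq hch
    rw [← hn]
    exact MulEquiv.orderOf_eq slEquivPsl x

open Cfsg.Agent.Lib.Helper4_SL2Borel in
theorem exists_order_split [Fintype F] :
    ∃ x : Matrix.SpecialLinearGroup (Fin 2) F, orderOf x = Fintype.card F - 1 := by
  classical
  obtain ⟨ζ, hζ⟩ := IsCyclic.exists_generator (α := Fˣ)
  have hord : orderOf ζ = Fintype.card F - 1 := by
    rw [orderOf_eq_card_of_forall_mem_zpowers hζ, Nat.card_eq_fintype_card, Fintype.card_units]
  let D : Fˣ →* Matrix.SpecialLinearGroup (Fin 2) F :=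
    { toFun := fun a => T0 a 0
      map_one' := by
        apply Subtype.ext
        ext i j; fin_cases i <;> fin_cases j <;> simp [T0]
      map_mul' := by
        intro a b
        apply Subtype.ext
        rw [Matrix.SpecialLinearGroup.coe_mul]
        show !![((a * b : Fˣ) : F), 0; 0, (((a * b)⁻¹ : Fˣ) : F)] =
          !![(a : F), 0; 0, ((a⁻¹ : Fˣ) : F)] * !![(b : F), 0; 0, ((b⁻¹ : Fˣ) : F)]
        rw [Matrix.mul_fin_two]
        ext i j; fin_cases i <;> fin_cases j <;> simp [mul_comm] }
  have hD : Function.Injective D := by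
    intro a b h
    have := congrArg (fun g : Matrix.SpecialLinearGroup (Fin 2) F =>
      (g : Matrix (Fin 2) (Fin 2) F) 0 0) h
    simp [D, T0] at this
    exact Units.ext this
  exact ⟨D ζ, by rw [orderOf_injective D hD, hord]⟩

theorem exists_order_aniso [Fintype F] :
    ∃ x : Matrix.SpecialLinearGroup (Fin 2) F, orderOf x = Fintype.card F + 1 := by
  obtain ⟨t, ht⟩ := exists_aniso_any (F := F)
  have := torus_cyclic t ht
  obtain ⟨x, hx⟩ := IsCyclic.exists_generator
    (α := Subgroup.centralizer ({C' t} : Set (Matrix.SpecialLinearGroup (Fin 2) F)))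
  refine ⟨x.1, ?_⟩
  rw [Subgroup.orderOf_coe, orderOf_eq_card_of_forall_mem_zpowers hx, card_torus_aniso t ht]

theorem main [Fintype F] (p : ℕ) [Fact p.Prime] [CharP F p] (h4 : 4 ≤ Fintype.card F) :
    Set.range (orderOf : Matrix.ProjectiveSpecialLinearGroup (Fin 2) F → ℕ) =
      {m : ℕ | m ∣ p ∨ m ∣ (Fintype.card F - 1) / Nat.gcd 2 (Fintype.card F - 1) ∨ m ∣ (Fintype.card F + 1) / Nat.gcd 2 (Fintype.card F - 1)} := by
  have hpp : p.Prime := Fact.out
  ext m
  simp only [Set.mem_range, Set.mem_ofPred_eq]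
  constructor
  · rintro ⟨g, rfl⟩
    obtain ⟨A, rfl⟩ := QuotientGroup.mk_surjective g
    exact order_dvd p A
  · have hgcd : Nat.gcd 2 (Fintype.card F - 1) = 1 ∨ Nat.gcd 2 (Fintype.card F - 1) = 2 := by
      have := Nat.gcd_dvd_left 2 (Fintype.card F - 1)
      rcases (Nat.dvd_prime Nat.prime_two).mp this with h | h
      · left; exact h
      · right; exact h
    have key : ∀ (y : Matrix.ProjectiveSpecialLinearGroup (Fin 2) F) (N : ℕ), orderOf y = N →
        N ≠ 0 → m ∣ N → ∃ g : Matrix.ProjectiveSpecialLinearGroup (Fin 2) F, orderOf g = m := by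
      intro y N hN hN0 hm
      refine ⟨y ^ (orderOf y / m), ?_⟩
      apply orderOf_pow_orderOf_div
      · rw [hN]; exact hN0
      · rw [hN]; exact hm
    rintro (hm | hm | hm)
    · exact key _ p (orderOf_mk_V p) hpp.ne_zero hm
    · obtain ⟨x, hx⟩ := exists_order_split (F := F)
      have h1 := orderOf_mk_eq x _ hx (by
        intro hodd
        obtain ⟨k, hk⟩ := hodd
        exact ⟨k, by omega⟩)
      refine key _ _ h1 ?_ hm
      rcases hgcd with h | h
      · rw [h, Nat.div_one]; omega
      · rw [h]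
        have : 2 ≤ (Fintype.card F - 1) := by omega
        have := Nat.div_pos this (by norm_num)
        omega
    · obtain ⟨x, hx⟩ := exists_order_aniso (F := F)
      have h1 := orderOf_mk_eq x _ hx (by
        intro hodd
        obtain ⟨k, hk⟩ := hodd
        exact ⟨k + 1, by omega⟩)
      refine key _ _ h1 ?_ hm
      rcases hgcd with h | h
      · rw [h, Nat.div_one]; omega
      · rw [h]
        have : 2 ≤ (Fintype.card F + 1) := by omega
        have := Nat.div_pos this (by norm_num)
        omega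

end orders

end Cfsg.Agent.Lib.Helper4_PSL2Orders
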