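import Mathlib
import Cfsg.Agent.Lib.Helper4_SL2Odd
import Cfsg.Agent.Lib.Helper4_SL2Card
import Cfsg.Agent.Lib.Helper4_PSL2Order
import Cfsg.Agent.Lib.Helper7_Basic

namespace Cfsg.Agent.Lib.Helper4_SL2Unip
open Matrix Cfsg.Agent.Lib.Helper4_GL2Classes0 Cfsg.Agent.Lib.Helper4_SL2Classes
  Cfsg.Agent.Lib.Helper4_SL2Odd Cfsg.Agent.Lib.Helper4_SL2Card

variable {F : Type*} [Field F]

theorem order_p_iff (p : ℕ) [Fact p.Prime] [CharP F p] (hp : p ≠ 2)
    (g : Matrix.SpecialLinearGroup (Fin 2) F) :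
    orderOf g = p ↔ NS (g : Matrix (Fin 2) (Fin 2) F) ∧ (g : Matrix (Fin 2) (Fin 2) F).trace = 2 := by
  have hpp : p.Prime := Fact.out
  have : CharP (Matrix (Fin 2) (Fin 2) F) p := Matrix.charP p
  have h2 : (2 : F) ≠ 0 := by
    have := Ring.two_ne_zero (R := F) (by rw [ringChar.eq F p]; exact hp)
    exact this
  set B : Matrix (Fin 2) (Fin 2) F := (g : Matrix (Fin 2) (Fin 2) F) with hB
  constructor
  · intro ho
    have h1 : g ^ p = 1 := by rw [← ho]; exact pow_orderOf_eq_one g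
    have h1' : B ^ p = 1 := by
      rw [hB, ← Matrix.SpecialLinearGroup.coe_pow, h1]; rfl
    have hN : (B - 1) ^ p = 0 := by
      rw [sub_pow_char_of_commute p (Commute.one_right _), h1', one_pow, sub_self]
    have htr : (B - 1).trace = 0 :=
      (Matrix.isNilpotent_trace_of_isNilpotent ⟨p, hN⟩).eq_zero
    rw [Matrix.trace_sub, Matrix.trace_one, Fintype.card_fin] at htr
    have htr2 : B.trace = 2 := by
      push_cast at htr
      linear_combination htr
    refine ⟨?_, htr2⟩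
    by_contra hns
    have h3 := (not_NS_iff _).mp hns
    rw [h3, Matrix.trace_smul, Matrix.trace_one, Fintype.card_fin, smul_eq_mul] at htr2
    push_cast at htr2
    have ha : B 0 0 = 1 := by
      apply mul_right_cancel₀ h2
      linear_combination htr2
    rw [ha, one_smul] at h3
    have hg1 : g = 1 := by
      apply Subtype.ext
      rw [← hB, h3]; rfl
    rw [hg1, orderOf_one] at ho
    exact hpp.one_lt.ne ho
  · rintro ⟨hns, htr⟩
    have hch := Cfsg.Agent.Lib.Helper4_PSL2Order.ch B g.det_coe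
    rw [htr] at hch
    have hsq : (B - 1) ^ 2 = 0 := by
      rw [pow_two, sub_mul, mul_sub, hch, Matrix.mul_one, Matrix.one_mul, two_smul]
      abel
    have hpw : (B - 1) ^ p = 0 := by
      obtain ⟨c, hc⟩ := Nat.exists_eq_add_of_le hpp.two_le
      rw [hc, pow_add, hsq, zero_mul]
    rw [sub_pow_char_of_commute p (Commute.one_right _), one_pow, sub_eq_zero] at hpw
    have h1 : g ^ p = 1 := by
      apply Subtype.ext
      rw [Matrix.SpecialLinearGroup.coe_pow, ← hB, hpw]; rfl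
    have hd := orderOf_dvd_of_pow_eq_one h1
    rcases (Nat.dvd_prime hpp).mp hd with h | h
    · exfalso
      rw [orderOf_eq_one_iff] at h
      rw [hB, h] at hns
      unfold NS at hns
      simp at hns
    · exact h


theorem mem_centralizer_V (b : F) (hb : b ≠ 0) (Q : Matrix.SpecialLinearGroup (Fin 2) F) :
    Q ∈ Subgroup.centralizer ({V 1 b (one_mul 1)} : Set (Matrix.SpecialLinearGroup (Fin 2) F)) ↔
      ∃ (s : Bool) (y : F), Q = V (sgn s) y (sgn_mul s) := by
  rw [Subgroup.mem_centralizer_iff]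
  simp only [Set.mem_singleton_iff, forall_eq]
  constructor
  · intro h
    have h' := congrArg (fun g : Matrix.SpecialLinearGroup (Fin 2) F =>
      (g : Matrix (Fin 2) (Fin 2) F)) h
    simp only [Matrix.SpecialLinearGroup.coe_mul] at h'
    have hdet := Q.det_coe
    rw [Matrix.det_fin_two] at hdet
    have e00 := congrFun (congrFun h' 0) 0
    have e01 := congrFun (congrFun h' 0) 1
    simp [V, Matrix.mul_apply, Fin.sum_univ_two] at e00 e01
    have hz : (Q : Matrix (Fin 2) (Fin 2) F) 1 0 = 0 := by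
      rcases e00 with h | h
      · exact absurd h hb
      · exact h
    rw [hz] at hdet
    have hxw : (Q : Matrix (Fin 2) (Fin 2) F) 1 1 = (Q : Matrix (Fin 2) (Fin 2) F) 0 0 := by
      apply mul_left_cancel₀ hb
      linear_combination e01
    rw [hxw] at hdet
    obtain ⟨s, hs⟩ := sq_eq_one ((Q : Matrix (Fin 2) (Fin 2) F) 0 0) (by linear_combination hdet)
    refine ⟨s, (Q : Matrix (Fin 2) (Fin 2) F) 0 1, ?_⟩
    apply Subtype.ext
    ext i j
    fin_cases i <;> fin_cases j <;> simp [V, hz, hxw, hs]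
  · rintro ⟨s, y, rfl⟩
    apply Subtype.ext
    rw [Matrix.SpecialLinearGroup.coe_mul, Matrix.SpecialLinearGroup.coe_mul]
    show !![1, b; 0, 1] * !![sgn s, y; 0, sgn s] = !![sgn s, y; 0, sgn s] * !![1, b; 0, 1]
    rw [Matrix.mul_fin_two, Matrix.mul_fin_two]
    ext i j; fin_cases i <;> fin_cases j <;> simp <;> ring

theorem card_centralizer_V [Fintype F] (h2 : (2 : F) ≠ 0) (b : F) (hb : b ≠ 0) :
    Nat.card (Subgroup.centralizer ({V 1 b (one_mul 1)} : Set (Matrix.SpecialLinearGroup (Fin 2) F)))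
      = 2 * Fintype.card F := by
  classical
  let ψ : Bool × F → Subgroup.centralizer ({V 1 b (one_mul 1)} : Set (Matrix.SpecialLinearGroup (Fin 2) F)) :=
    fun p => ⟨V (sgn p.1) p.2 (sgn_mul p.1), (mem_centralizer_V b hb _).mpr ⟨p.1, p.2, rfl⟩⟩
  have hinj : Function.Injective ψ := by
    rintro ⟨s, y⟩ ⟨s', y'⟩ h
    have h' := congrArg (fun g : Subgroup.centralizer ({V 1 b (one_mul 1)} : Set (Matrix.SpecialLinearGroup (Fin 2) F)) =>
      ((g : Matrix.SpecialLinearGroup (Fin 2) F) : Matrix (Fin 2) (Fin 2) F)) h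
    have e00 := congrFun (congrFun h' 0) 0
    have e01 := congrFun (congrFun h' 0) 1
    simp [ψ, V] at e00 e01
    rw [sgn_inj h2 _ _ e00, e01]
  have hsurj : Function.Surjective ψ := by
    rintro ⟨Q, hQ⟩
    obtain ⟨s, y, rfl⟩ := (mem_centralizer_V b hb Q).mp hQ
    exact ⟨(s, y), rfl⟩
  rw [← Nat.card_congr (Equiv.ofBijective ψ ⟨hinj, hsurj⟩), Nat.card_eq_fintype_card,
    Fintype.card_prod, Fintype.card_bool]

theorem index_centralizer_V [Fintype F] (h2 : (2 : F) ≠ 0) (b : F) (hb : b ≠ 0) :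
    (Subgroup.centralizer ({V 1 b (one_mul 1)} : Set (Matrix.SpecialLinearGroup (Fin 2) F))).index
      = (Fintype.card F ^ 2 - 1) / 2 := by
  have h1 := Subgroup.index_mul_card
    (Subgroup.centralizer ({V 1 b (one_mul 1)} : Set (Matrix.SpecialLinearGroup (Fin 2) F)))
  rw [card_centralizer_V h2 b hb, card_SL2] at h1
  have hq : 0 < Fintype.card F := Fintype.card_pos
  set q := Fintype.card F
  set i := (Subgroup.centralizer ({V 1 b (one_mul 1)} : Set (Matrix.SpecialLinearGroup (Fin 2) F))).index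
  have h3 : q * (i * 2) = q * (q ^ 2 - 1) := by rw [← h1]; ring
  have h4 := Nat.eq_of_mul_eq_mul_left hq h3
  omega

theorem card_carrier {G : Type*} [Group G] (g : G) :
    Nat.card (ConjClasses.mk g).carrier = (Subgroup.centralizer ({g} : Set G)).index := by
  rw [← Cfsg.Agent.Lib.Helper7_Basic.card_conj_class]
  apply Nat.card_congr
  refine Equiv.subtypeEquivRight ?_
  intro y
  rw [ConjClasses.mem_carrier_iff_mk_eq, ConjClasses.mk_eq_mk_iff_isConj]

theorem main [Fintype F] (p : ℕ) [Fact p.Prime] [CharP F p] (hp : p ≠ 2) :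
    Nat.card {C : ConjClasses (Matrix.SpecialLinearGroup (Fin 2) F) // ∃ g : Matrix.SpecialLinearGroup (Fin 2) F, orderOf g = p ∧ ConjClasses.mk g = C} = 2 ∧
    (∀ g : Matrix.SpecialLinearGroup (Fin 2) F, orderOf g = p → Nat.card (ConjClasses.mk g).carrier = (Fintype.card F ^ 2 - 1) / 2) ∧
    ∀ g h : Matrix.SpecialLinearGroup (Fin 2) F, (g : Matrix (Fin 2) (Fin 2) F) 0 0 = 1 → (g : Matrix (Fin 2) (Fin 2) F) 1 1 = 1 → (g : Matrix (Fin 2) (Fin 2) F) 1 0 = 0 → (g : Matrix (Fin 2) (Fin 2) F) 0 1 ≠ 0 →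
      (h : Matrix (Fin 2) (Fin 2) F) 0 0 = 1 → (h : Matrix (Fin 2) (Fin 2) F) 1 1 = 1 → (h : Matrix (Fin 2) (Fin 2) F) 1 0 = 0 → (h : Matrix (Fin 2) (Fin 2) F) 0 1 ≠ 0 →
      (IsConj g h ↔ IsSquare ((g : Matrix (Fin 2) (Fin 2) F) 0 1 * (h : Matrix (Fin 2) (Fin 2) F) 0 1)) := by
  classical
  have hF : ringChar F ≠ 2 := by rw [ringChar.eq F p]; exact hp
  have h2 : (2 : F) ≠ 0 := Ring.two_ne_zero hF
  have hodd : Odd (Fintype.card F) := by
    rw [Nat.odd_iff]; exact FiniteField.odd_card_of_char_ne_two hF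
  obtain ⟨ν, hν⟩ := FiniteField.exists_nonsquare hF
  have hν0 : ν ≠ 0 := by rintro rfl; exact hν ⟨0, by simp⟩
  have h11 : (1 : F) * 1 = 1 := one_mul 1
  -- every element of order p is conjugate to V 1 b
  have key : ∀ g : Matrix.SpecialLinearGroup (Fin 2) F, orderOf g = p →
      ∃ b : F, b ≠ 0 ∧ IsConj g (V 1 b h11) := by
    intro g hg
    obtain ⟨hns, htr⟩ := (order_p_iff p hp g).mp hg
    exact conj_V g hns 1 h11 (by rw [htr, mul_one])
  have hV : ∀ b : F, b ≠ 0 → orderOf (V 1 b h11) = p := by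
    intro b hb
    rw [order_p_iff p hp]
    exact ⟨V_NS 1 b h11 hb, by rw [V_trace, mul_one]⟩
  refine ⟨?_, ?_, ?_⟩
  · have hset : {C : ConjClasses (Matrix.SpecialLinearGroup (Fin 2) F) | ∃ g : Matrix.SpecialLinearGroup (Fin 2) F, orderOf g = p ∧ ConjClasses.mk g = C}
        = {ConjClasses.mk (V 1 1 h11), ConjClasses.mk (V 1 ν h11)} := by
      ext C
      simp only [Set.mem_ofPred_eq, Set.mem_insert_iff, Set.mem_singleton_iff]
      constructor
      · rintro ⟨g, hg, rfl⟩
        obtain ⟨b, hb, hc⟩ := key g hg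
        by_cases hbs : IsSquare b
        · left
          rw [ConjClasses.mk_eq_mk_iff_isConj]
          refine hc.trans ?_
          rw [V_conj_iff _ _ _ _ hb one_ne_zero, mul_one]
          exact hbs
        · right
          rw [ConjClasses.mk_eq_mk_iff_isConj]
          refine hc.trans ?_
          rw [V_conj_iff _ _ _ _ hb hν0]
          exact nonsq_mul hodd b ν hbs hν
      · rintro (rfl | rfl)
        · exact ⟨_, hV 1 one_ne_zero, rfl⟩
        · exact ⟨_, hV ν hν0, rfl⟩
    have hne : ConjClasses.mk (V 1 1 h11) ≠ ConjClasses.mk (V 1 ν h11) := by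
      intro h
      rw [ConjClasses.mk_eq_mk_iff_isConj, V_conj_iff _ _ _ _ one_ne_zero hν0, one_mul] at h
      exact hν h
    show Nat.card ↥{C : ConjClasses (Matrix.SpecialLinearGroup (Fin 2) F) | ∃ g : Matrix.SpecialLinearGroup (Fin 2) F, orderOf g = p ∧ ConjClasses.mk g = C} = 2
    rw [hset, Nat.card_coe_set_eq, Set.ncard_pair hne]
  · intro g hg
    obtain ⟨b, hb, hc⟩ := key g hg
    rw [ConjClasses.mk_eq_mk_iff_isConj.mpr hc, card_carrier, index_centralizer_V h2 b hb]
  · intro g h g00 g11 g10 g01 h00 h11' h10 h01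
    have hg : g = V 1 ((g : Matrix (Fin 2) (Fin 2) F) 0 1) h11 := by
      apply Subtype.ext
      ext i j; fin_cases i <;> fin_cases j <;> simp [V, g00, g11, g10]
    have hh : h = V 1 ((h : Matrix (Fin 2) (Fin 2) F) 0 1) h11 := by
      apply Subtype.ext
      ext i j; fin_cases i <;> fin_cases j <;> simp [V, h00, h11', h10]
    conv_lhs => rw [hg, hh]
    exact V_conj_iff _ _ _ _ g01 h01

end Cfsg.Agent.Lib.Helper4_SL2Unip
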