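import Mathlib
import Cfsg.Agent.Lib.Helper4_PSL2Orders
import Cfsg.Agent.Lib.Helper4_SL2Unip

set_option linter.all false
set_option linter.unusedVariables false
set_option linter.unusedTactic false
set_option linter.unreachableTactic false
set_option linter.style.longLine false

namespace Cfsg.Agent.Lib.Helper4_PSL2CoverOdd
open Matrix Polynomial Cfsg.Agent.Lib.Helper4_GL2Classes0 Cfsg.Agent.Lib.Helper4_SL2Classes
  Cfsg.Agent.Lib.Helper4_SL2Odd Cfsg.Agent.Lib.Helper4_PSL2Orders Cfsg.Agent.Lib.Helper4_PSL2ClassOdd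
  Cfsg.Agent.Lib.Helper4_SL2Unip

variable {F : Type*} [Field F]

/-- a point on the conic -/
theorem exists_conic [Fintype F] (hodd : Odd (Fintype.card F)) (s t m : F) (hs : s ^ 2 ≠ 4) :
    ∃ v w : F, v ^ 2 - s * v * w + w ^ 2 - t * v + m * w + 1 = 0 := by
  have h2 : (2 : F) ≠ 0 := two_ne_zero' hodd
  have ha : (4 - s ^ 2 : F) ≠ 0 := by
    intro h
    apply hs
    linear_combination -h
  have hf : degree (X ^ 2 : F[X]) = 2 := by
    rw [degree_X_pow]; rfl
  have hg : degree (C (4 - s ^ 2) * X ^ 2 + C (4 * m - 2 * s * t) * X + C (4 - t ^ 2) : F[X]) = 2 :=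
    degree_quadratic ha
  have hcard : Fintype.card F % 2 = 1 := Nat.odd_iff.mp hodd
  obtain ⟨r, w, hrw⟩ := FiniteField.exists_root_sum_quadratic hf hg hcard
  simp only [eval_pow, eval_X, eval_add, eval_mul, eval_C] at hrw
  refine ⟨(s * w + t + r) / 2, w, ?_⟩
  field_simp
  linear_combination hrw

/-- a general matrix element of SL₂ -/
def mkSL (a b c d : F) (h : a * d - b * c = 1) : Matrix.SpecialLinearGroup (Fin 2) F :=
  ⟨!![a, b; c, d], by rw [Matrix.det_fin_two_of]; exact h⟩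

theorem mkSL_val (a b c d : F) (h : a * d - b * c = 1) :
    ((mkSL a b c d h : Matrix.SpecialLinearGroup (Fin 2) F) : Matrix (Fin 2) (Fin 2) F) =
      !![a, b; c, d] := rfl

theorem factor_C' [Fintype F] (hodd : Odd (Fintype.card F)) (s t : F) (hs : s ^ 2 ≠ 4) :
    ∃ Y Z : Matrix.SpecialLinearGroup (Fin 2) F, Y * Z = C' s ∧
      (Y : Matrix (Fin 2) (Fin 2) F).trace = t ∧ (Z : Matrix (Fin 2) (Fin 2) F).trace = t := by
  obtain ⟨v, w, hvw⟩ := exists_conic hodd s t (t * (s - 1)) hs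
  have hdet : (t - v) * v - (w + t * (s - 1) - s * v) * w = 1 := by
    linear_combination -hvw
  refine ⟨mkSL (t - v) (w + t * (s - 1) - s * v) w v hdet,
    (mkSL (t - v) (w + t * (s - 1) - s * v) w v hdet)⁻¹ * C' s, by group, ?_, ?_⟩
  · rw [mkSL_val, Matrix.trace_fin_two_of]; ring
  · rw [Matrix.SpecialLinearGroup.coe_mul, Matrix.SpecialLinearGroup.coe_inv, mkSL_val,
      Matrix.adjugate_fin_two_of]
    show (!![v, -(w + t * (s - 1) - s * v); -w, t - v] * compMat s 1).trace = t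
    unfold compMat
    rw [Matrix.mul_fin_two, Matrix.trace_fin_two_of]
    ring

theorem factor_V (h2 : (2 : F) ≠ 0) (ε b t : F) (hε : ε * ε = 1) (hb : b ≠ 0) (ht : t ≠ 0) :
    ∃ Y Z : Matrix.SpecialLinearGroup (Fin 2) F, Y * Z = V ε b hε ∧
      (Y : Matrix (Fin 2) (Fin 2) F).trace = t ∧ (Z : Matrix (Fin 2) (Fin 2) F).trace = -(ε * t) := by
  have hdet : t * 0 - (-(ε * b / (2 * t))) * (2 * ε * t / b) = 1 := by
    field_simp
    linear_combination hε
  refine ⟨mkSL t (-(ε * b / (2 * t))) (2 * ε * t / b) 0 hdet,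
    (mkSL t (-(ε * b / (2 * t))) (2 * ε * t / b) 0 hdet)⁻¹ * V ε b hε, by group, ?_, ?_⟩
  · rw [mkSL_val, Matrix.trace_fin_two_of]; ring
  · rw [Matrix.SpecialLinearGroup.coe_mul, Matrix.SpecialLinearGroup.coe_inv, mkSL_val,
      Matrix.adjugate_fin_two_of]
    show (!![0, -(-(ε * b / (2 * t))); -(2 * ε * t / b), t] * !![ε, b; 0, ε]).trace = -(ε * t)
    rw [Matrix.mul_fin_two, Matrix.trace_fin_two_of]
    field_simp
    ring

/-- the factorization for every non-scalar target -/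
theorem factor_any [Fintype F] (hodd : Odd (Fintype.card F)) (t : F) (ht : t ≠ 0)
    (G : Matrix.SpecialLinearGroup (Fin 2) F) (hG : NS (G : Matrix (Fin 2) (Fin 2) F)) :
    ∃ Y Z : Matrix.SpecialLinearGroup (Fin 2) F, Y * Z = G ∧
      (Y : Matrix (Fin 2) (Fin 2) F).trace = t ∧
      ((Z : Matrix (Fin 2) (Fin 2) F).trace = t ∨ (Z : Matrix (Fin 2) (Fin 2) F).trace = -t) := by
  have h2 : (2 : F) ≠ 0 := two_ne_zero' hodd
  set s := (G : Matrix (Fin 2) (Fin 2) F).trace with hs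
  -- conjugation invariance
  have key : ∀ G₀ : Matrix.SpecialLinearGroup (Fin 2) F, IsConj G G₀ →
      (∃ Y Z : Matrix.SpecialLinearGroup (Fin 2) F, Y * Z = G₀ ∧
        (Y : Matrix (Fin 2) (Fin 2) F).trace = t ∧
        ((Z : Matrix (Fin 2) (Fin 2) F).trace = t ∨ (Z : Matrix (Fin 2) (Fin 2) F).trace = -t)) →
      ∃ Y Z : Matrix.SpecialLinearGroup (Fin 2) F, Y * Z = G ∧
        (Y : Matrix (Fin 2) (Fin 2) F).trace = t ∧
        ((Z : Matrix (Fin 2) (Fin 2) F).trace = t ∨ (Z : Matrix (Fin 2) (Fin 2) F).trace = -t) := by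
    rintro G₀ hc ⟨Y, Z, hYZ, hY, hZ⟩
    obtain ⟨P, hP⟩ := isConj_iff.mp hc.symm
    refine ⟨P * Y * P⁻¹, P * Z * P⁻¹, ?_, ?_, ?_⟩
    · rw [← hP, ← hYZ]; group
    · rw [← trace_eq_of_conj Y (P * Y * P⁻¹) (isConj_iff.mpr ⟨P, rfl⟩)]; exact hY
    · rw [← trace_eq_of_conj Z (P * Z * P⁻¹) (isConj_iff.mpr ⟨P, rfl⟩)]; exact hZ
  by_cases hs4 : s ^ 2 = 4
  · -- unipotent up to sign
    have hεε : (s / 2) * (s / 2) = 1 := by
      field_simp
      linear_combination hs4
    have hs2 : s = 2 * (s / 2) := by field_simp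
    obtain ⟨b, hb, hc⟩ := conj_V G hG (s / 2) hεε hs2
    apply key _ hc
    obtain ⟨Y, Z, hYZ, hY, hZ⟩ := factor_V h2 (s / 2) b t hεε hb ht
    refine ⟨Y, Z, hYZ, hY, ?_⟩
    have hε : s / 2 = 1 ∨ s / 2 = -1 := by
      have : (s / 2 - 1) * (s / 2 + 1) = 0 := by linear_combination hεε
      rcases mul_eq_zero.mp this with h | h
      · left; linear_combination h
      · right; linear_combination h
    rcases hε with h | h
    · right; rw [hZ, h, one_mul]
    · left; rw [hZ, h]; ring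
  · apply key _ (conj_C'_odd hodd G hG hs4)
    obtain ⟨Y, Z, hYZ, hY, hZ⟩ := factor_C' hodd s t hs4
    exact ⟨Y, Z, hYZ, hY, Or.inl hZ⟩

theorem NS_of_trace (Z : Matrix.SpecialLinearGroup (Fin 2) F)
    (h : (Z : Matrix (Fin 2) (Fin 2) F).trace ^ 2 ≠ 4) : NS (Z : Matrix (Fin 2) (Fin 2) F) := by
  by_contra hns
  have h1 := (not_NS_iff _).mp hns
  set z := (Z : Matrix (Fin 2) (Fin 2) F) 0 0 with hz
  have hdet := Z.det_coe
  rw [h1, Matrix.det_smul, Matrix.det_one, Fintype.card_fin, mul_one] at hdet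
  apply h
  rw [h1, Matrix.trace_smul, Matrix.trace_one, Fintype.card_fin]
  simp only [smul_eq_mul, Nat.cast_ofNat]
  linear_combination 4 * hdet

theorem mk_N1 : (QuotientGroup.mk (N1 : Matrix.SpecialLinearGroup (Fin 2) F) :
    Matrix.ProjectiveSpecialLinearGroup (Fin 2) F) = 1 := by
  rw [QuotientGroup.eq_one_iff, Subgroup.mem_center_iff]
  intro g
  exact (N1_comm g).symm

theorem S2455_main [Fintype F] (p : ℕ) [Fact p.Prime] [CharP F p] (hp : p ≠ 2)
    (h5 : 5 ≤ Fintype.card F)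
    (x : Matrix.ProjectiveSpecialLinearGroup (Fin 2) F) (hx2 : 2 < orderOf x)
    (hxp : ¬ p ∣ orderOf x) :
    ∀ g : Matrix.ProjectiveSpecialLinearGroup (Fin 2) F, g ≠ 1 →
      ∃ u v : Matrix.ProjectiveSpecialLinearGroup (Fin 2) F, g = (u * x * u⁻¹) * (v * x * v⁻¹) := by
  have hpp : p.Prime := Fact.out
  have hodd : Odd (Fintype.card F) := by
    obtain ⟨n, hn1, hn2⟩ := FiniteField.card F p
    rw [hn2]
    exact Odd.pow (hpp.odd_of_ne_two hp)
  have h2 : (2 : F) ≠ 0 := two_ne_zero' hodd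
  obtain ⟨X, rfl⟩ := QuotientGroup.mk_surjective x
  set t := (X : Matrix (Fin 2) (Fin 2) F).trace with ht
  have hX : NS (X : Matrix (Fin 2) (Fin 2) F) := by
    by_contra hns
    have : (QuotientGroup.mk X : Matrix.ProjectiveSpecialLinearGroup (Fin 2) F) = 1 :=
      (QuotientGroup.eq_one_iff X).mpr (not_NS_mem_center X hns)
    rw [this, orderOf_one] at hx2
    omega
  -- order p elements
  have hp_of : ∀ W : Matrix.SpecialLinearGroup (Fin 2) F, NS (W : Matrix (Fin 2) (Fin 2) F) →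
      (W : Matrix (Fin 2) (Fin 2) F).trace = 2 →
      (QuotientGroup.mk W : Matrix.ProjectiveSpecialLinearGroup (Fin 2) F) = QuotientGroup.mk X → False := by
    intro W hW htr hWX
    have ho : orderOf W = p := (order_p_iff p hp W).mpr ⟨hW, htr⟩
    have h1 : (QuotientGroup.mk X : Matrix.ProjectiveSpecialLinearGroup (Fin 2) F) ^ p = 1 := by
      rw [← hWX, ← QuotientGroup.mk_pow, ← ho, pow_orderOf_eq_one]; rfl
    have hd := orderOf_dvd_of_pow_eq_one h1
    rcases (Nat.dvd_prime hpp).mp hd with h | h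
    · rw [h] at hx2; omega
    · exact hxp (by rw [h])
  have ht4 : t ^ 2 ≠ 4 := by
    intro h4
    have : (t - 2) * (t + 2) = 0 := by linear_combination h4
    rcases mul_eq_zero.mp this with h | h
    · exact hp_of X hX (by linear_combination h) rfl
    · apply hp_of (N1 * X)
      · unfold NS
        rw [N1_mul_val]
        simp only [Matrix.neg_apply, ne_eq, neg_eq_zero, neg_inj]
        exact hX
      · rw [N1_mul_val, Matrix.trace_neg]
        linear_combination -h
      · rw [QuotientGroup.mk_mul, mk_N1, one_mul]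
  have ht0 : t ≠ 0 := by
    intro h0
    have hch := Cfsg.Agent.Lib.Helper4_PSL2Order.ch (X : Matrix (Fin 2) (Fin 2) F) X.det_coe
    rw [← ht, h0, zero_smul, zero_sub] at hch
    have hXX : X * X = N1 := by
      apply Subtype.ext
      rw [Matrix.SpecialLinearGroup.coe_mul, hch, N1_val]
    have h1 : (QuotientGroup.mk X : Matrix.ProjectiveSpecialLinearGroup (Fin 2) F) ^ 2 = 1 := by
      rw [← QuotientGroup.mk_pow, pow_two, hXX, mk_N1]
    have := Nat.le_of_dvd (by norm_num) (orderOf_dvd_of_pow_eq_one h1)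
    omega
  -- every element of trace ±t is conjugate to x in PSL
  have hconj : ∀ Z : Matrix.SpecialLinearGroup (Fin 2) F,
      ((Z : Matrix (Fin 2) (Fin 2) F).trace = t ∨ (Z : Matrix (Fin 2) (Fin 2) F).trace = -t) →
      ∃ v : Matrix.ProjectiveSpecialLinearGroup (Fin 2) F,
        (QuotientGroup.mk Z : Matrix.ProjectiveSpecialLinearGroup (Fin 2) F) =
          v * QuotientGroup.mk X * v⁻¹ := by
    have hpos : ∀ Z : Matrix.SpecialLinearGroup (Fin 2) F,
        (Z : Matrix (Fin 2) (Fin 2) F).trace = t →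
        ∃ v : Matrix.ProjectiveSpecialLinearGroup (Fin 2) F,
          (QuotientGroup.mk Z : Matrix.ProjectiveSpecialLinearGroup (Fin 2) F) =
            v * QuotientGroup.mk X * v⁻¹ := by
      intro Z hZ
      have hZNS : NS (Z : Matrix (Fin 2) (Fin 2) F) := NS_of_trace Z (by rw [hZ]; exact ht4)
      have h1 : IsConj X (C' t) := conj_C'_odd hodd X hX ht4
      have h2' : IsConj Z (C' t) := by
        have := conj_C'_odd hodd Z hZNS (by rw [hZ]; exact ht4)
        rwa [hZ] at this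
      obtain ⟨V, hV⟩ := isConj_iff.mp (h1.trans h2'.symm)
      refine ⟨QuotientGroup.mk V, ?_⟩
      rw [← hV]
      rfl
    intro Z hZ
    rcases hZ with hZ | hZ
    · exact hpos Z hZ
    · obtain ⟨v, hv⟩ := hpos (N1 * Z) (by rw [N1_mul_val, Matrix.trace_neg, hZ, neg_neg])
      refine ⟨v, ?_⟩
      rw [← hv, QuotientGroup.mk_mul, mk_N1, one_mul]
  intro g hg
  obtain ⟨G, rfl⟩ := QuotientGroup.mk_surjective g
  have hG : NS (G : Matrix (Fin 2) (Fin 2) F) := by
    by_contra hns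
    exact hg ((QuotientGroup.eq_one_iff G).mpr (not_NS_mem_center G hns))
  obtain ⟨Y, Z, hYZ, hY, hZ⟩ := factor_any hodd t ht0 G hG
  obtain ⟨u, hu⟩ := hconj Y (Or.inl hY)
  obtain ⟨v, hv⟩ := hconj Z hZ
  refine ⟨u, v, ?_⟩
  rw [← hu, ← hv, ← hYZ]
  rfl

end Cfsg.Agent.Lib.Helper4_PSL2CoverOdd
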