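import Mathlib
import Cfsg.Agent.Lib.Helper4_PSL2CoverOdd

set_option linter.all false
set_option linter.unusedVariables false
set_option linter.unusedTactic false
set_option linter.unreachableTactic false
set_option linter.style.longLine false

namespace Cfsg.Agent.Lib.Helper4_AradHerzog
open Matrix Polynomial Cfsg.Agent.Lib.Helper4_GL2Classes0 Cfsg.Agent.Lib.Helper4_SL2Classes
  Cfsg.Agent.Lib.Helper4_SL2Odd Cfsg.Agent.Lib.Helper4_PSL2Orders Cfsg.Agent.Lib.Helper4_PSL2ClassOdd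
  Cfsg.Agent.Lib.Helper4_SL2Unip Cfsg.Agent.Lib.Helper4_PSL2CoverOdd

variable {F : Type*} [Field F]

theorem quad_ne_zero (u w : F) : (C 1 * X ^ 2 + C u * X + C w : F[X]) ≠ 0 := by
  intro h
  have := natDegree_quadratic (a := (1 : F)) (b := u) (c := w) one_ne_zero
  rw [h, natDegree_zero] at this
  omega

theorem avoid1 [Fintype F] (h3 : 3 ≤ Fintype.card F) (u w : F) : ∃ x : F, x ^ 2 + u * x + w ≠ 0 := by
  have hdeg : (C 1 * X ^ 2 + C u * X + C w : F[X]).natDegree < Cardinal.mk F := by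
    rw [natDegree_quadratic one_ne_zero, Cardinal.mk_fintype]
    exact_mod_cast h3
  obtain ⟨x, hx⟩ := exists_eval_ne_zero_of_natDegree_lt_card _ (quad_ne_zero u w) hdeg
  refine ⟨x, ?_⟩
  simpa using hx

theorem avoid2 [Fintype F] (h5 : 5 ≤ Fintype.card F) (u₁ w₁ u₂ w₂ : F) :
    ∃ x : F, x ^ 2 + u₁ * x + w₁ ≠ 0 ∧ x ^ 2 + u₂ * x + w₂ ≠ 0 := by
  have hne : ((C 1 * X ^ 2 + C u₁ * X + C w₁) * (C 1 * X ^ 2 + C u₂ * X + C w₂) : F[X]) ≠ 0 :=
    mul_ne_zero (quad_ne_zero _ _) (quad_ne_zero _ _)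
  have hdeg : ((C 1 * X ^ 2 + C u₁ * X + C w₁) * (C 1 * X ^ 2 + C u₂ * X + C w₂) : F[X]).natDegree
      < Cardinal.mk F := by
    rw [natDegree_mul (quad_ne_zero _ _) (quad_ne_zero _ _), natDegree_quadratic one_ne_zero,
      natDegree_quadratic one_ne_zero, Cardinal.mk_fintype]
    exact_mod_cast h5
  obtain ⟨x, hx⟩ := exists_eval_ne_zero_of_natDegree_lt_card _ hne hdeg
  refine ⟨x, ?_⟩
  simp only [eval_mul, eval_add, eval_C, eval_pow, eval_X, one_mul] at hx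
  exact ⟨left_ne_zero_of_mul hx, right_ne_zero_of_mul hx⟩

/-- the element `[[x, 1], [x(β - x) - 1, β - x]]` -/
def Bx (β x : F) : Matrix.SpecialLinearGroup (Fin 2) F :=
  mkSL x 1 (x * (β - x) - 1) (β - x) (by ring)

theorem Bx_trace (β x : F) : ((Bx β x : Matrix.SpecialLinearGroup (Fin 2) F) : Matrix (Fin 2) (Fin 2) F).trace = β := by
  unfold Bx
  rw [mkSL_val, Matrix.trace_fin_two_of]; ring

theorem Bx_NS (β x : F) : NS ((Bx β x : Matrix.SpecialLinearGroup (Fin 2) F) : Matrix (Fin 2) (Fin 2) F) := by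
  left
  unfold Bx
  rw [mkSL_val]
  simp

theorem tr_C'_Bx (α β x : F) :
    ((C' α * Bx β x : Matrix.SpecialLinearGroup (Fin 2) F) : Matrix (Fin 2) (Fin 2) F).trace =
      x ^ 2 - (α + β) * x + α * β + 2 := by
  rw [Matrix.SpecialLinearGroup.coe_mul]
  unfold Bx
  rw [mkSL_val]
  show (compMat α 1 * _).trace = _
  unfold compMat
  rw [Matrix.mul_fin_two, Matrix.trace_fin_two_of]
  ring

/-- the element `[[0, -1/z], [z, β]]` -/
def Bz (β z : F) (hz : z ≠ 0) : Matrix.SpecialLinearGroup (Fin 2) F :=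
  mkSL 0 (-(1 / z)) z β (by field_simp; ring)

theorem Bz_trace (β z : F) (hz : z ≠ 0) :
    ((Bz β z hz : Matrix.SpecialLinearGroup (Fin 2) F) : Matrix (Fin 2) (Fin 2) F).trace = β := by
  unfold Bz
  rw [mkSL_val, Matrix.trace_fin_two_of]; ring

theorem Bz_NS (β z : F) (hz : z ≠ 0) :
    NS ((Bz β z hz : Matrix.SpecialLinearGroup (Fin 2) F) : Matrix (Fin 2) (Fin 2) F) := by
  right; left
  unfold Bz
  rw [mkSL_val]
  simpa using hz

theorem tr_V_Bz (ε b₁ β z : F) (hε : ε * ε = 1) (hz : z ≠ 0) :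
    ((V ε b₁ hε * Bz β z hz : Matrix.SpecialLinearGroup (Fin 2) F) : Matrix (Fin 2) (Fin 2) F).trace =
      ε * β + b₁ * z := by
  rw [Matrix.SpecialLinearGroup.coe_mul]
  unfold Bz
  rw [mkSL_val]
  show (!![ε, b₁; 0, ε] * _).trace = _
  rw [Matrix.mul_fin_two, Matrix.trace_fin_two_of]
  ring

/-- lower unitriangular -/
def Lr (r : F) : Matrix.SpecialLinearGroup (Fin 2) F := mkSL 1 0 r 1 (by ring)

theorem tr_V_LVL (ε b₁ ε' b₂ r : F) (hε : ε * ε = 1) (hε' : ε' * ε' = 1) :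
    ((V ε b₁ hε * (Lr r * V ε' b₂ hε' * (Lr r)⁻¹) : Matrix.SpecialLinearGroup (Fin 2) F) :
      Matrix (Fin 2) (Fin 2) F).trace = ε * ε' * 2 - b₁ * b₂ * r ^ 2 := by
  rw [Matrix.SpecialLinearGroup.coe_mul, Matrix.SpecialLinearGroup.coe_mul,
    Matrix.SpecialLinearGroup.coe_mul, Matrix.SpecialLinearGroup.coe_inv]
  unfold Lr
  rw [mkSL_val, Matrix.adjugate_fin_two_of]
  show (!![ε, b₁; 0, ε] * (!![1, 0; r, 1] * !![ε', b₂; 0, ε'] * !![1, -0; -r, 1])).trace = _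
  rw [Matrix.mul_fin_two, Matrix.mul_fin_two, Matrix.mul_fin_two, Matrix.trace_fin_two_of]
  ring


/-- abbreviation for the trace of an element -/
def trS (g : Matrix.SpecialLinearGroup (Fin 2) F) : F := (g : Matrix (Fin 2) (Fin 2) F).trace

def TwoTraces (A B : Matrix.SpecialLinearGroup (Fin 2) F) : Prop :=
  ∃ A₁ B₁ A₂ B₂ : Matrix.SpecialLinearGroup (Fin 2) F, IsConj A A₁ ∧ IsConj B B₁ ∧
    IsConj A A₂ ∧ IsConj B B₂ ∧ trS (A₁ * B₁) ≠ trS (A₂ * B₂) ∧ trS (A₁ * B₁) ≠ -trS (A₂ * B₂)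

theorem TwoTraces.symm {A B : Matrix.SpecialLinearGroup (Fin 2) F} (h : TwoTraces A B) :
    TwoTraces B A := by
  obtain ⟨A₁, B₁, A₂, B₂, h1, h2, h3, h4, h5, h6⟩ := h
  have e : ∀ P Q : Matrix.SpecialLinearGroup (Fin 2) F, trS (P * Q) = trS (Q * P) := by
    intro P Q
    unfold trS
    rw [Matrix.SpecialLinearGroup.coe_mul, Matrix.SpecialLinearGroup.coe_mul, Matrix.trace_mul_comm]
  refine ⟨B₁, A₁, B₂, A₂, h2, h1, h4, h3, ?_, ?_⟩
  · rw [e B₁ A₁, e B₂ A₂]; exact h5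
  · rw [e B₁ A₁, e B₂ A₂]; exact h6

theorem two_even [Fintype F] [CharP F 2] (h4 : 4 ≤ Fintype.card F)
    (A B : Matrix.SpecialLinearGroup (Fin 2) F)
    (hA : NS (A : Matrix (Fin 2) (Fin 2) F)) (hB : NS (B : Matrix (Fin 2) (Fin 2) F)) :
    TwoTraces A B := by
  set α := (A : Matrix (Fin 2) (Fin 2) F).trace with hα
  set β := (B : Matrix (Fin 2) (Fin 2) F).trace with hβ
  have hAc : IsConj A (C' α) := conj_C' A hA
  have hBc : ∀ x : F, IsConj B (Bx β x) := by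
    intro x
    have h1 := conj_C' B hB
    have h2 := conj_C' (Bx β x) (Bx_NS β x)
    rw [Bx_trace] at h2
    exact h1.trans h2.symm
  obtain ⟨x, hx⟩ := avoid1 (by omega : 3 ≤ Fintype.card F) (-(α + β)) 0
  refine ⟨C' α, Bx β 0, C' α, Bx β x, hAc, hBc 0, hAc, hBc x, ?_, ?_⟩
  · unfold trS
    rw [tr_C'_Bx, tr_C'_Bx]
    intro h
    apply hx
    linear_combination -h
  · unfold trS
    rw [tr_C'_Bx, tr_C'_Bx, CharTwo.neg_eq]
    intro h
    apply hx
    linear_combination -h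

theorem two_ss_ss [Fintype F] (hodd : Odd (Fintype.card F)) (h5 : 5 ≤ Fintype.card F)
    (A B : Matrix.SpecialLinearGroup (Fin 2) F)
    (hA : NS (A : Matrix (Fin 2) (Fin 2) F)) (hB : NS (B : Matrix (Fin 2) (Fin 2) F))
    (hα4 : (A : Matrix (Fin 2) (Fin 2) F).trace ^ 2 ≠ 4)
    (hβ4 : (B : Matrix (Fin 2) (Fin 2) F).trace ^ 2 ≠ 4) :
    TwoTraces A B := by
  set α := (A : Matrix (Fin 2) (Fin 2) F).trace with hα
  set β := (B : Matrix (Fin 2) (Fin 2) F).trace with hβ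
  have hAc : IsConj A (C' α) := conj_C'_odd hodd A hA hα4
  have hBc : ∀ x : F, IsConj B (Bx β x) := by
    intro x
    have h1 := conj_C'_odd hodd B hB hβ4
    have h2 := conj_C'_odd hodd (Bx β x) (Bx_NS β x) (by rw [Bx_trace]; exact hβ4)
    rw [Bx_trace] at h2
    exact h1.trans h2.symm
  obtain ⟨x, hx1, hx2⟩ := avoid2 h5 (-(α + β)) (α * β) (-(α + β)) (α * β + 4)
  refine ⟨C' α, Bx β α, C' α, Bx β x, hAc, hBc α, hAc, hBc x, ?_, ?_⟩
  · unfold trS
    rw [tr_C'_Bx, tr_C'_Bx]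
    intro h
    apply hx1
    linear_combination -h
  · unfold trS
    rw [tr_C'_Bx, tr_C'_Bx]
    intro h
    apply hx2
    linear_combination h

theorem two_un_ss [Fintype F] (hodd : Odd (Fintype.card F)) (h5 : 5 ≤ Fintype.card F)
    (A B : Matrix.SpecialLinearGroup (Fin 2) F)
    (hA : NS (A : Matrix (Fin 2) (Fin 2) F)) (hB : NS (B : Matrix (Fin 2) (Fin 2) F))
    (hα4 : (A : Matrix (Fin 2) (Fin 2) F).trace ^ 2 = 4)
    (hβ4 : (B : Matrix (Fin 2) (Fin 2) F).trace ^ 2 ≠ 4) :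
    TwoTraces A B := by
  have h2 : (2 : F) ≠ 0 := two_ne_zero' hodd
  set α := (A : Matrix (Fin 2) (Fin 2) F).trace with hα
  set β := (B : Matrix (Fin 2) (Fin 2) F).trace with hβ
  have hεε : (α / 2) * (α / 2) = 1 := by
    field_simp
    linear_combination hα4
  have hα2 : α = 2 * (α / 2) := by field_simp
  obtain ⟨b₁, hb₁, hAc⟩ := conj_V A hA (α / 2) hεε hα2
  set ε := α / 2 with hε
  have hBc : ∀ (z : F) (hz : z ≠ 0), IsConj B (Bz β z hz) := by
    intro z hz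
    have h1 := conj_C'_odd hodd B hB hβ4
    have h2 := conj_C'_odd hodd (Bz β z hz) (Bz_NS β z hz) (by rw [Bz_trace]; exact hβ4)
    rw [Bz_trace] at h2
    exact h1.trans h2.symm
  set e : F := -1 - 2 * ε * β / b₁ with he
  obtain ⟨z, hz1, hz2⟩ := avoid2 h5 (-1) 0 (-(2 * e)) (e ^ 2)
  have hz0 : z ≠ 0 := by
    rintro rfl
    apply hz1
    ring
  have hz1' : z ≠ 1 := by
    rintro rfl
    apply hz1
    ring
  have hze : z ≠ e := by
    intro h
    apply hz2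
    rw [h]; ring
  refine ⟨V ε b₁ hεε, Bz β 1 one_ne_zero, V ε b₁ hεε, Bz β z hz0, hAc, hBc 1 one_ne_zero, hAc,
    hBc z hz0, ?_, ?_⟩
  · unfold trS
    rw [tr_V_Bz, tr_V_Bz]
    intro h
    apply hz1'
    have : b₁ * (z - 1) = 0 := by linear_combination -h
    rcases mul_eq_zero.mp this with h' | h'
    · exact absurd h' hb₁
    · linear_combination h'
  · unfold trS
    rw [tr_V_Bz, tr_V_Bz]
    intro h
    apply hze
    rw [he]
    field_simp
    linear_combination h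

theorem two_un_un [Fintype F] (hodd : Odd (Fintype.card F)) (h5 : 5 ≤ Fintype.card F)
    (A B : Matrix.SpecialLinearGroup (Fin 2) F)
    (hA : NS (A : Matrix (Fin 2) (Fin 2) F)) (hB : NS (B : Matrix (Fin 2) (Fin 2) F))
    (hα4 : (A : Matrix (Fin 2) (Fin 2) F).trace ^ 2 = 4)
    (hβ4 : (B : Matrix (Fin 2) (Fin 2) F).trace ^ 2 = 4) :
    TwoTraces A B := by
  have h2 : (2 : F) ≠ 0 := two_ne_zero' hodd
  set α := (A : Matrix (Fin 2) (Fin 2) F).trace with hα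
  set β := (B : Matrix (Fin 2) (Fin 2) F).trace with hβ
  have hεε : (α / 2) * (α / 2) = 1 := by
    field_simp
    linear_combination hα4
  have hα2 : α = 2 * (α / 2) := by field_simp
  have hεε' : (β / 2) * (β / 2) = 1 := by
    field_simp
    linear_combination hβ4
  have hβ2 : β = 2 * (β / 2) := by field_simp
  obtain ⟨b₁, hb₁, hAc⟩ := conj_V A hA (α / 2) hεε hα2
  obtain ⟨b₂, hb₂, hBc⟩ := conj_V B hB (β / 2) hεε' hβ2
  set ε := α / 2 with hε
  set ε' := β / 2 with hε'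
  have hBc' : ∀ r : F, IsConj B (Lr r * V ε' b₂ hεε' * (Lr r)⁻¹) := by
    intro r
    exact hBc.trans (isConj_iff.mpr ⟨Lr r, rfl⟩)
  have hee : ε * ε' ≠ 0 := by
    intro h
    have : (ε * ε') * (ε * ε') = 1 := by
      calc (ε * ε') * (ε * ε') = (ε * ε) * (ε' * ε') := by ring
        _ = 1 := by rw [hεε, hεε', one_mul]
    rw [h, zero_mul] at this
    exact zero_ne_one this
  obtain ⟨r, hr1, hr2⟩ := avoid2 h5 0 0 0 (-(4 * ε * ε' / (b₁ * b₂)))
  refine ⟨V ε b₁ hεε, Lr 0 * V ε' b₂ hεε' * (Lr 0)⁻¹, V ε b₁ hεε, Lr r * V ε' b₂ hεε' * (Lr r)⁻¹,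
    hAc, hBc' 0, hAc, hBc' r, ?_, ?_⟩
  · unfold trS
    rw [tr_V_LVL, tr_V_LVL]
    intro h
    apply hr1
    have : b₁ * b₂ * r ^ 2 = 0 := by linear_combination h
    rcases mul_eq_zero.mp this with h' | h'
    · exact absurd h' (mul_ne_zero hb₁ hb₂)
    · linear_combination h'
  · unfold trS
    rw [tr_V_LVL, tr_V_LVL]
    intro h
    apply hr2
    field_simp
    linear_combination -h

theorem two_traces [Fintype F] (h4 : 4 ≤ Fintype.card F)
    (A B : Matrix.SpecialLinearGroup (Fin 2) F)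
    (hA : NS (A : Matrix (Fin 2) (Fin 2) F)) (hB : NS (B : Matrix (Fin 2) (Fin 2) F)) :
    TwoTraces A B := by
  by_cases hodd : Odd (Fintype.card F)
  · have h5 : 5 ≤ Fintype.card F := by
      obtain ⟨k, hk⟩ := hodd
      omega
    by_cases hα4 : (A : Matrix (Fin 2) (Fin 2) F).trace ^ 2 = 4
    · by_cases hβ4 : (B : Matrix (Fin 2) (Fin 2) F).trace ^ 2 = 4
      · exact two_un_un hodd h5 A B hA hB hα4 hβ4
      · exact two_un_ss hodd h5 A B hA hB hα4 hβ4
    · by_cases hβ4 : (B : Matrix (Fin 2) (Fin 2) F).trace ^ 2 = 4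
      · exact (two_un_ss hodd h5 B A hB hA hβ4 hα4).symm
      · exact two_ss_ss hodd h5 A B hA hB hα4 hβ4
  · have hch : ringChar F = 2 := by
      rw [FiniteField.even_card_iff_char_two]
      rw [Nat.not_odd_iff_even, Nat.even_iff] at hodd
      exact hodd
    haveI : CharP F 2 := ringChar.of_eq hch
    exact two_even h4 A B hA hB


theorem trace_pm_of_conj (G₁ G₂ : Matrix.SpecialLinearGroup (Fin 2) F)
    (h : IsConj (QuotientGroup.mk G₁ : Matrix.ProjectiveSpecialLinearGroup (Fin 2) F)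
      (QuotientGroup.mk G₂)) :
    trS G₁ = trS G₂ ∨ trS G₁ = -trS G₂ := by
  obtain ⟨c, hc⟩ := isConj_iff.mp h
  obtain ⟨P, rfl⟩ := QuotientGroup.mk_surjective c
  have h1 : (QuotientGroup.mk (P * G₁ * P⁻¹) : Matrix.ProjectiveSpecialLinearGroup (Fin 2) F) =
      QuotientGroup.mk G₂ := by
    rw [← hc]; rfl
  rw [QuotientGroup.eq, mem_center_iff'] at h1
  have htr : trS (P * G₁ * P⁻¹) = trS G₁ :=
    (trace_eq_of_conj G₁ (P * G₁ * P⁻¹) (isConj_iff.mpr ⟨P, rfl⟩)).symm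
  rcases h1 with h1 | h1
  · left
    rw [inv_mul_eq_one] at h1
    rw [← htr, h1]
  · right
    rw [inv_mul_eq_iff_eq_mul] at h1
    rw [h1, ← N1_comm]
    unfold trS
    rw [N1_mul_val, Matrix.trace_neg, neg_neg]
    exact htr.symm

theorem S2450_main [Fintype F] (h4 : 4 ≤ Fintype.card F)
    (a b : Matrix.ProjectiveSpecialLinearGroup (Fin 2) F) (ha : a ≠ 1) (hb : b ≠ 1)
    (c : Matrix.ProjectiveSpecialLinearGroup (Fin 2) F) :
    {g : Matrix.ProjectiveSpecialLinearGroup (Fin 2) F | ∃ u v : Matrix.ProjectiveSpecialLinearGroup (Fin 2) F, g = (u * a * u⁻¹) * (v * b * v⁻¹)} ≠ {g | IsConj c g} := by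
  intro hS
  obtain ⟨A, rfl⟩ := QuotientGroup.mk_surjective a
  obtain ⟨B, rfl⟩ := QuotientGroup.mk_surjective b
  have hA : NS (A : Matrix (Fin 2) (Fin 2) F) := by
    by_contra hns
    exact ha ((QuotientGroup.eq_one_iff A).mpr (not_NS_mem_center A hns))
  have hB : NS (B : Matrix (Fin 2) (Fin 2) F) := by
    by_contra hns
    exact hb ((QuotientGroup.eq_one_iff B).mpr (not_NS_mem_center B hns))
  obtain ⟨A₁, B₁, A₂, B₂, h1, h2, h3, h4', h5, h6⟩ := two_traces h4 A B hA hB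
  have hmem : ∀ A' B' : Matrix.SpecialLinearGroup (Fin 2) F, IsConj A A' → IsConj B B' →
      IsConj c (QuotientGroup.mk (A' * B') : Matrix.ProjectiveSpecialLinearGroup (Fin 2) F) := by
    intro A' B' hA' hB'
    obtain ⟨U, hU⟩ := isConj_iff.mp hA'
    obtain ⟨W, hW⟩ := isConj_iff.mp hB'
    have : (QuotientGroup.mk (A' * B') : Matrix.ProjectiveSpecialLinearGroup (Fin 2) F) ∈
        {g : Matrix.ProjectiveSpecialLinearGroup (Fin 2) F | ∃ u v : Matrix.ProjectiveSpecialLinearGroup (Fin 2) F, g = (u * QuotientGroup.mk A * u⁻¹) * (v * QuotientGroup.mk B * v⁻¹)} := by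
      refine ⟨QuotientGroup.mk U, QuotientGroup.mk W, ?_⟩
      rw [← hU, ← hW]
      rfl
    rw [hS] at this
    exact this
  have hc1 := hmem A₁ B₁ h1 h2
  have hc2 := hmem A₂ B₂ h3 h4'
  rcases trace_pm_of_conj _ _ (hc1.symm.trans hc2) with h | h
  · exact h5 h
  · exact h6 h

end Cfsg.Agent.Lib.Helper4_AradHerzog
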