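import Mathlib
import Cfsg.Prelude.Def_Characters
import Cfsg.Prelude.Def_ParabolicCharacters
import Cfsg.Agent.Lib.Helper2_ClassFn
import Cfsg.Agent.Lib.Helper4_SL2Borel

namespace Cfsg.Agent.Lib.Helper4_BorelInd
open Matrix Cfsg Cfsg.Agent.Lib.Helper2_ClassFn Cfsg.Agent.Lib.Helper4_SL2Borel

section abstract
variable {G : Type*} [Group G]

theorem extendByZero_conj (H : Subgroup G) (θ : H → ℂ)
    (hθ : ∀ b h : H, θ (b⁻¹ * h * b) = θ h) (b : H) (y : G) :
    extendByZero H θ ((b:G)⁻¹ * y * b) = extendByZero H θ y := by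
  by_cases hy : y ∈ H
  · have : (b:G)⁻¹ * y * b ∈ H := H.mul_mem (H.mul_mem (H.inv_mem b.2) hy) b.2
    rw [extendByZero_of_mem H θ this, extendByZero_of_mem H θ hy]
    exact hθ b ⟨y, hy⟩
  · have : (b:G)⁻¹ * y * b ∉ H := by
      intro h
      apply hy
      have := H.mul_mem (H.mul_mem b.2 h) (H.inv_mem b.2)
      simpa [mul_assoc] using this
    rw [extendByZero_of_not_mem H θ this, extendByZero_of_not_mem H θ hy]

theorem indFun_transversal [Fintype G] (H : Subgroup G) (θ : H → ℂ)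
    (hθ : ∀ b h : H, θ (b⁻¹ * h * b) = θ h) {ι : Type*} [Fintype ι] (t : ι → G)
    (ht : Function.Bijective (fun p : ι × H => t p.1 * (p.2 : G))) (g : G) :
    indFun H θ g = ∑ i, extendByZero H θ ((t i)⁻¹ * g * t i) := by
  classical
  have : Fintype H := Fintype.ofFinite _
  rw [indFun_apply]
  have h1 : ∑ x : G, extendByZero H θ (x⁻¹ * g * x) =
      ∑ p : ι × H, extendByZero H θ ((t p.1 * (p.2 : G))⁻¹ * g * (t p.1 * (p.2 : G))) :=
    (Fintype.sum_bijective _ ht _ _ (fun p => rfl)).symm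
  rw [h1, Fintype.sum_prod_type]
  have h2 : ∀ i : ι, ∑ b : H, extendByZero H θ ((t i * (b : G))⁻¹ * g * (t i * (b : G))) =
      (Nat.card H : ℂ) * extendByZero H θ ((t i)⁻¹ * g * t i) := by
    intro i
    have : ∀ b : H, extendByZero H θ ((t i * (b : G))⁻¹ * g * (t i * (b : G))) =
        extendByZero H θ ((t i)⁻¹ * g * t i) := by
      intro b
      rw [← extendByZero_conj H θ hθ b ((t i)⁻¹ * g * t i)]
      congr 1
      group
    simp only [this, Finset.sum_const, Finset.card_univ, nsmul_eq_mul, Nat.card_eq_fintype_card]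
  simp only [h2]
  rw [← Finset.mul_sum, ← mul_assoc, inv_mul_cancel₀ (card_subgroup_ne_zero H), one_mul]

end abstract
variable {F : Type*} [Field F]

/-- Borel sum -/
noncomputable def bsum [Fintype F] [DecidableEq F] (θ : F → F → ℂ) (M : Matrix (Fin 2) (Fin 2) F) : ℂ :=
  (∑ c : F, if M 1 0 + (M 1 1 - M 0 0) * c - M 0 1 * c ^ 2 = 0
    then θ (M 0 0 + M 0 1 * c) (M 1 1 - M 0 1 * c) else 0)
  + (if M 0 1 = 0 then θ (M 1 1) (M 0 0) else 0)

theorem conjU_10 (M : Matrix (Fin 2) (Fin 2) F) (c : F) :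
    ((!![1, 0; -c, 1] : Matrix (Fin 2) (Fin 2) F) * M * !![1, 0; c, 1]) 1 0 =
      M 1 0 + (M 1 1 - M 0 0) * c - M 0 1 * c ^ 2 := by
  rw [Matrix.eta_fin_two M]
  simp; ring

theorem conjU_00 (M : Matrix (Fin 2) (Fin 2) F) (c : F) :
    ((!![1, 0; -c, 1] : Matrix (Fin 2) (Fin 2) F) * M * !![1, 0; c, 1]) 0 0 = M 0 0 + M 0 1 * c := by
  rw [Matrix.eta_fin_two M]
  simp

theorem conjU_11 (M : Matrix (Fin 2) (Fin 2) F) (c : F) :
    ((!![1, 0; -c, 1] : Matrix (Fin 2) (Fin 2) F) * M * !![1, 0; c, 1]) 1 1 = M 1 1 - M 0 1 * c := by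
  rw [Matrix.eta_fin_two M]
  simp; ring

theorem conjW_10 (M : Matrix (Fin 2) (Fin 2) F) :
    ((!![0, 1; -1, 0] : Matrix (Fin 2) (Fin 2) F) * M * (!![0, -1; 1, 0] : Matrix (Fin 2) (Fin 2) F)) 1 0 = - M 0 1 := by
  rw [Matrix.eta_fin_two M]
  simp

theorem conjW_00 (M : Matrix (Fin 2) (Fin 2) F) :
    ((!![0, 1; -1, 0] : Matrix (Fin 2) (Fin 2) F) * M * (!![0, -1; 1, 0] : Matrix (Fin 2) (Fin 2) F)) 0 0 = M 1 1 := by
  rw [Matrix.eta_fin_two M]
  simp

theorem conjW_11 (M : Matrix (Fin 2) (Fin 2) F) :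
    ((!![0, 1; -1, 0] : Matrix (Fin 2) (Fin 2) F) * M * (!![0, -1; 1, 0] : Matrix (Fin 2) (Fin 2) F)) 1 1 = M 0 0 := by
  rw [Matrix.eta_fin_two M]
  simp

/-- transversal of the Borel subgroup in SL₂ -/
def tS : Option F → Matrix.SpecialLinearGroup (Fin 2) F
  | none => ⟨!![0, -1; 1, 0], by simp [det_fin_two]⟩
  | some c => ⟨!![1, 0; c, 1], by simp [det_fin_two]⟩

theorem tS_none_val : ((tS (none : Option F)) : Matrix (Fin 2) (Fin 2) F) = !![0, -1; 1, 0] := rfl
theorem tS_some_val (c : F) : ((tS (some c)) : Matrix (Fin 2) (Fin 2) F) = !![1, 0; c, 1] := rfl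

theorem tS_none_inv_val :
    (((tS (none : Option F))⁻¹ : Matrix.SpecialLinearGroup (Fin 2) F) : Matrix (Fin 2) (Fin 2) F) =
      !![0, 1; -1, 0] := by
  rw [Matrix.SpecialLinearGroup.coe_inv, tS_none_val, Matrix.adjugate_fin_two]
  simp

theorem tS_some_inv_val (c : F) :
    (((tS (some c))⁻¹ : Matrix.SpecialLinearGroup (Fin 2) F) : Matrix (Fin 2) (Fin 2) F) =
      !![1, 0; -c, 1] := by
  rw [Matrix.SpecialLinearGroup.coe_inv, tS_some_val, Matrix.adjugate_fin_two]
  simp

/-- first diagonal entry as hom -/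
def d0S : Bor F →* Fˣ where
  toFun b := Units.mkOfMulEqOne (((b : Matrix.SpecialLinearGroup (Fin 2) F) : Matrix (Fin 2) (Fin 2) F) 0 0)
      (((b : Matrix.SpecialLinearGroup (Fin 2) F) : Matrix (Fin 2) (Fin 2) F) 1 1) (by
        have h := (mem_Bor _).mp b.2
        have hdet := (b : Matrix.SpecialLinearGroup (Fin 2) F).det_coe
        rw [Matrix.det_fin_two, h, mul_zero, sub_zero] at hdet
        exact hdet)
  map_one' := by
    apply Units.ext
    simp
  map_mul' b b' := by
    apply Units.ext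
    have h := (mem_Bor _).mp b'.2
    simp [Matrix.mul_apply, Fin.sum_univ_two, h]

theorem d0S_val (b : Bor F) : ((d0S b : Fˣ) : F) =
    ((b : Matrix.SpecialLinearGroup (Fin 2) F) : Matrix (Fin 2) (Fin 2) F) 0 0 := rfl

theorem tS_bijective : Function.Bijective
    (fun p : Option F × Bor F => tS p.1 * (p.2 : Matrix.SpecialLinearGroup (Fin 2) F)) := by
  have hb : ∀ b : Bor F, ((b : Matrix.SpecialLinearGroup (Fin 2) F) : Matrix (Fin 2) (Fin 2) F) 1 0 = 0 :=
    fun b => (mem_Bor _).mp b.2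
  have hb0 : ∀ b : Bor F, ((b : Matrix.SpecialLinearGroup (Fin 2) F) : Matrix (Fin 2) (Fin 2) F) 0 0 ≠ 0 := by
    intro b
    rw [← d0S_val]
    exact Units.ne_zero _
  have col0 : ∀ (i : Option F) (b : Bor F),
      ((tS i * (b : Matrix.SpecialLinearGroup (Fin 2) F) : Matrix.SpecialLinearGroup (Fin 2) F) :
        Matrix (Fin 2) (Fin 2) F) 0 0 =
        match i with
        | none => 0
        | some _ => ((b : Matrix.SpecialLinearGroup (Fin 2) F) : Matrix (Fin 2) (Fin 2) F) 0 0 := by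
    intro i b
    cases i with
    | none => simp [tS_none_val, Matrix.mul_apply, Fin.sum_univ_two, hb b]
    | some c => simp [tS_some_val, Matrix.mul_apply, Fin.sum_univ_two]
  have col1 : ∀ (i : Option F) (b : Bor F),
      ((tS i * (b : Matrix.SpecialLinearGroup (Fin 2) F) : Matrix.SpecialLinearGroup (Fin 2) F) :
        Matrix (Fin 2) (Fin 2) F) 1 0 =
        match i with
        | none => ((b : Matrix.SpecialLinearGroup (Fin 2) F) : Matrix (Fin 2) (Fin 2) F) 0 0
        | some c => c * ((b : Matrix.SpecialLinearGroup (Fin 2) F) : Matrix (Fin 2) (Fin 2) F) 0 0 := by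
    intro i b
    cases i with
    | none => simp [tS_none_val, Matrix.mul_apply, Fin.sum_univ_two]
    | some c => simp [tS_some_val, Matrix.mul_apply, Fin.sum_univ_two, hb b]
  constructor
  · rintro ⟨i, b⟩ ⟨j, b'⟩ h
    simp only at h
    have h0 := col0 i b
    have h1 := col1 i b
    rw [h] at h0 h1
    rw [col0 j b'] at h0
    rw [col1 j b'] at h1
    have hij : i = j := by
      cases i with
      | none =>
        cases j with
        | none => rfl
        | some c' => exact absurd h0 (hb0 b')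
      | some c =>
        cases j with
        | none => exact absurd h0.symm (hb0 b)
        | some c' =>
          simp only at h0 h1
          rw [h0] at h1
          rw [mul_right_cancel₀ (hb0 b) h1]
    subst hij
    have := mul_left_cancel h
    rw [Subtype.ext this]
  · intro x
    by_cases hx : (x : Matrix (Fin 2) (Fin 2) F) 0 0 = 0
    · refine ⟨(none, ⟨(tS none)⁻¹ * x, ?_⟩), ?_⟩
      · rw [mem_Bor, Matrix.SpecialLinearGroup.coe_mul, tS_none_inv_val]
        simp [Matrix.mul_apply, Fin.sum_univ_two, hx]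
      · simp
    · refine ⟨(some ((x : Matrix (Fin 2) (Fin 2) F) 1 0 / (x : Matrix (Fin 2) (Fin 2) F) 0 0),
        ⟨(tS (some ((x : Matrix (Fin 2) (Fin 2) F) 1 0 / (x : Matrix (Fin 2) (Fin 2) F) 0 0)))⁻¹ * x, ?_⟩), ?_⟩
      · rw [mem_Bor, Matrix.SpecialLinearGroup.coe_mul, tS_some_inv_val]
        simp [Matrix.mul_apply, Fin.sum_univ_two]
        field_simp
        ring
      · simp


section SLformula
variable [Fintype F] [DecidableEq F]

theorem ebzS (α : MulChar F ℂ) (y : Matrix.SpecialLinearGroup (Fin 2) F) :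
    extendByZero (Bor F) (fun b => α (((b : Matrix.SpecialLinearGroup (Fin 2) F) :
      Matrix (Fin 2) (Fin 2) F) 0 0)) y =
      if (y : Matrix (Fin 2) (Fin 2) F) 1 0 = 0 then α ((y : Matrix (Fin 2) (Fin 2) F) 0 0) else 0 := by
  by_cases h : (y : Matrix (Fin 2) (Fin 2) F) 1 0 = 0
  · rw [if_pos h, extendByZero_of_mem _ _ ((mem_Bor y).mpr h)]
  · rw [if_neg h, extendByZero_of_not_mem _ _ (fun hy => h ((mem_Bor y).mp hy))]

theorem thetaS_conj (α : MulChar F ℂ) (b h : Bor F) :
    (fun b : Bor F => α (((b : Matrix.SpecialLinearGroup (Fin 2) F) :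
      Matrix (Fin 2) (Fin 2) F) 0 0)) (b⁻¹ * h * b) =
    (fun b : Bor F => α (((b : Matrix.SpecialLinearGroup (Fin 2) F) :
      Matrix (Fin 2) (Fin 2) F) 0 0)) h := by
  simp only [← d0S_val, map_mul, map_inv]
  congr 2
  rw [mul_comm, mul_inv_cancel_left]

theorem indFun_SL (α : MulChar F ℂ) (g : Matrix.SpecialLinearGroup (Fin 2) F) :
    indFun (Bor F) (fun b => α (((b : Matrix.SpecialLinearGroup (Fin 2) F) :
      Matrix (Fin 2) (Fin 2) F) 0 0)) g = bsum (fun x _ => α x) (g : Matrix (Fin 2) (Fin 2) F) := by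
  rw [indFun_transversal (Bor F) _ (thetaS_conj α) tS tS_bijective g, Fintype.sum_option, bsum,
    add_comm]
  congr 1
  · refine Finset.sum_congr rfl fun c _ => ?_
    rw [ebzS, Matrix.SpecialLinearGroup.coe_mul, Matrix.SpecialLinearGroup.coe_mul,
      tS_some_inv_val, tS_some_val, conjU_10, conjU_00]
  · rw [ebzS, Matrix.SpecialLinearGroup.coe_mul, Matrix.SpecialLinearGroup.coe_mul,
      tS_none_inv_val, tS_none_val, conjW_10, conjW_00]
    simp only [neg_eq_zero]

end SLformula

section values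
variable [Fintype F] [DecidableEq F]

theorem bsum_tri (θ : F → F → ℂ) (M : Matrix (Fin 2) (Fin 2) F) (h10 : M 1 0 = 0)
    (hne : M 0 0 ≠ M 1 1) : bsum θ M = θ (M 0 0) (M 1 1) + θ (M 1 1) (M 0 0) := by
  unfold bsum
  by_cases hx : M 0 1 = 0
  · rw [if_pos hx]
    congr 1
    rw [Finset.sum_eq_single (0 : F)]
    · simp [h10, hx]
    · intro c _ hc
      rw [if_neg]
      rw [h10, hx]
      simp only [zero_add, zero_mul, sub_zero]
      exact mul_ne_zero (sub_ne_zero.mpr hne.symm) hc
    · intro h; exact absurd (Finset.mem_univ _) h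
  · rw [if_neg hx, add_zero]
    have hc1 : (M 1 1 - M 0 0) / M 0 1 ≠ 0 := div_ne_zero (sub_ne_zero.mpr hne.symm) hx
    rw [← Finset.sum_subset (Finset.subset_univ ({0, (M 1 1 - M 0 0) / M 0 1} : Finset F))]
    · rw [Finset.sum_pair hc1.symm]
      congr 1
      · simp [h10]
      · rw [if_pos]
        · congr 1
          · field_simp; ring
          · field_simp; ring
        · rw [h10]; field_simp; ring
    · intro c _ hc
      rw [Finset.mem_insert, Finset.mem_singleton, not_or] at hc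
      rw [if_neg]
      rw [h10, zero_add]
      intro h0
      have : c * ((M 1 1 - M 0 0) - M 0 1 * c) = 0 := by rw [← h0]; ring
      rcases mul_eq_zero.mp this with h | h
      · exact hc.1 h
      · apply hc.2
        field_simp
        linear_combination -h

theorem bsum_unip (θ : F → F → ℂ) (M : Matrix (Fin 2) (Fin 2) F) (h10 : M 1 0 = 0)
    (heq : M 0 0 = M 1 1) (h01 : M 0 1 ≠ 0) : bsum θ M = θ (M 0 0) (M 0 0) := by
  unfold bsum
  rw [if_neg h01, add_zero, Finset.sum_eq_single (0 : F)]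
  · simp [h10, heq]
  · intro c _ hc
    rw [if_neg]
    rw [h10, heq]
    simp only [zero_add, sub_self, zero_mul, zero_sub, neg_eq_zero]
    exact mul_ne_zero h01 (pow_ne_zero 2 hc)
  · intro h; exact absurd (Finset.mem_univ _) h

theorem bsum_scalar (θ : F → F → ℂ) (M : Matrix (Fin 2) (Fin 2) F) (h10 : M 1 0 = 0)
    (heq : M 0 0 = M 1 1) (h01 : M 0 1 = 0) :
    bsum θ M = ((Fintype.card F : ℂ) + 1) * θ (M 0 0) (M 0 0) := by
  unfold bsum
  rw [if_pos h01]
  simp only [h10, heq, h01, sub_self, zero_mul, add_zero, sub_zero, if_true, Finset.sum_const,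
    Finset.card_univ, nsmul_eq_mul]
  ring

theorem bsum_no_eigen (θ : F → F → ℂ) (M : Matrix (Fin 2) (Fin 2) F)
    (h : ∀ (c : F) (v : Fin 2 → F), v ≠ 0 → M.mulVec v ≠ c • v) : bsum θ M = 0 := by
  unfold bsum
  rw [if_neg, add_zero]
  · apply Finset.sum_eq_zero
    intro c _
    rw [if_neg]
    intro hc
    apply h (M 0 0 + M 0 1 * c) ![1, c]
    · intro h0
      have := congrFun h0 0
      simp at this
    · ext i
      fin_cases i
      · simp [Matrix.mulVec, dotProduct, Fin.sum_univ_two]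
      · simp [Matrix.mulVec, dotProduct, Fin.sum_univ_two]
        linear_combination hc
  · intro h01
    apply h (M 1 1) ![0, 1]
    · intro h0
      have := congrFun h0 1
      simp at this
    · ext i
      fin_cases i
      · simp [Matrix.mulVec, dotProduct, Fin.sum_univ_two, h01]
      · simp [Matrix.mulVec, dotProduct, Fin.sum_univ_two]


theorem sum_bsum (θ : F → F → ℂ) (a d : F) :
    ∑ x : F, bsum θ !![a, x; 0, d] = (Fintype.card F : ℂ) * (θ a d + θ d a) := by
  by_cases had : a = d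
  · subst had
    rw [← Finset.add_sum_erase Finset.univ _ (Finset.mem_univ (0 : F))]
    rw [bsum_scalar θ _ (by simp) (by simp) (by simp)]
    have : ∀ x ∈ Finset.univ.erase (0 : F), bsum θ !![a, x; 0, a] = θ a a := by
      intro x hx
      rw [bsum_unip θ _ (by simp) (by simp) (by simpa using Finset.ne_of_mem_erase hx)]
      simp
    rw [Finset.sum_congr rfl this, Finset.sum_const, Finset.card_erase_of_mem (Finset.mem_univ _),
      Finset.card_univ, nsmul_eq_mul, Nat.cast_sub Fintype.card_pos]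
    simp
    ring
  · have : ∀ x ∈ (Finset.univ : Finset F), bsum θ !![a, x; 0, d] = θ a d + θ d a := by
      intro x _
      rw [bsum_tri θ _ (by simp) (by simpa using had)]
      simp
    rw [Finset.sum_congr rfl this, Finset.sum_const, Finset.card_univ, nsmul_eq_mul]

end values
end Cfsg.Agent.Lib.Helper4_BorelInd
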