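import Mathlib
import Cfsg.Prelude.Def_Characters
import Cfsg.Prelude.Def_ParabolicCharacters
import Cfsg.Agent.Lib.Helper2_ClassFn
import Cfsg.Agent.Lib.Helper4_BorelInd

namespace Cfsg.Agent.Lib.Helper4_BorelIndGL
open Matrix Cfsg Cfsg.Agent.Lib.Helper2_ClassFn Cfsg.Agent.Lib.Helper4_BorelInd

variable {F : Type*} [Field F]

/-- the Borel subgroup of GL₂ -/
abbrev BG (F : Type*) [Field F] : Subgroup (Matrix.GeneralLinearGroup (Fin 2) F) :=
  Cfsg.upperTriangularGL 2 F

theorem mem_BG (g : Matrix.GeneralLinearGroup (Fin 2) F) :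
    g ∈ BG F ↔ (g : Matrix (Fin 2) (Fin 2) F) 1 0 = 0 := by
  show (g : Matrix (Fin 2) (Fin 2) F).BlockTriangular id ↔ _
  constructor
  · intro h
    exact h (show (id (0 : Fin 2)) < id 1 by decide)
  · intro h i j hij
    fin_cases i <;> fin_cases j <;> simp at hij ⊢
    exact h

theorem det_BG (b : BG F) :
    ((b : Matrix.GeneralLinearGroup (Fin 2) F) : Matrix (Fin 2) (Fin 2) F) 0 0 *
      ((b : Matrix.GeneralLinearGroup (Fin 2) F) : Matrix (Fin 2) (Fin 2) F) 1 1 ≠ 0 := by
  have h := (mem_BG _).mp b.2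
  have hdet : ((b : Matrix.GeneralLinearGroup (Fin 2) F) : Matrix (Fin 2) (Fin 2) F).det ≠ 0 := by
    have := (Matrix.isUnit_iff_isUnit_det _).mp
      (Units.isUnit (b : Matrix.GeneralLinearGroup (Fin 2) F))
    exact this.ne_zero
  rw [Matrix.det_fin_two, h, mul_zero, sub_zero] at hdet
  exact hdet

/-- first diagonal entry as hom -/
def d0G : BG F →* Fˣ where
  toFun b := Units.mk0 (((b : Matrix.GeneralLinearGroup (Fin 2) F) : Matrix (Fin 2) (Fin 2) F) 0 0)
    (left_ne_zero_of_mul (det_BG b))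
  map_one' := by
    apply Units.ext
    simp
  map_mul' b b' := by
    apply Units.ext
    have h := (mem_BG _).mp b'.2
    simp [Matrix.mul_apply, Fin.sum_univ_two, h]

/-- second diagonal entry as hom -/
def d1G : BG F →* Fˣ where
  toFun b := Units.mk0 (((b : Matrix.GeneralLinearGroup (Fin 2) F) : Matrix (Fin 2) (Fin 2) F) 1 1)
    (right_ne_zero_of_mul (det_BG b))
  map_one' := by
    apply Units.ext
    simp
  map_mul' b b' := by
    apply Units.ext
    have h := (mem_BG _).mp b.2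
    simp [Matrix.mul_apply, Fin.sum_univ_two, h]

theorem d0G_val (b : BG F) : ((d0G b : Fˣ) : F) =
    ((b : Matrix.GeneralLinearGroup (Fin 2) F) : Matrix (Fin 2) (Fin 2) F) 0 0 := rfl

theorem d1G_val (b : BG F) : ((d1G b : Fˣ) : F) =
    ((b : Matrix.GeneralLinearGroup (Fin 2) F) : Matrix (Fin 2) (Fin 2) F) 1 1 := rfl

/-- transversal of the Borel subgroup in GL₂ -/
def tG : Option F → Matrix.GeneralLinearGroup (Fin 2) F
  | none => ⟨!![0, -1; 1, 0], !![0, 1; -1, 0], by simp [Matrix.one_fin_two], by simp [Matrix.one_fin_two]⟩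
  | some c => ⟨!![1, 0; c, 1], !![1, 0; -c, 1], by simp [Matrix.one_fin_two], by simp [Matrix.one_fin_two]⟩

theorem tG_none_val : ((tG (none : Option F)) : Matrix (Fin 2) (Fin 2) F) = !![0, -1; 1, 0] := rfl
theorem tG_some_val (c : F) : ((tG (some c)) : Matrix (Fin 2) (Fin 2) F) = !![1, 0; c, 1] := rfl
theorem tG_none_inv_val :
    (((tG (none : Option F))⁻¹ : Matrix.GeneralLinearGroup (Fin 2) F) : Matrix (Fin 2) (Fin 2) F) =
      !![0, 1; -1, 0] := rfl
theorem tG_some_inv_val (c : F) :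
    (((tG (some c))⁻¹ : Matrix.GeneralLinearGroup (Fin 2) F) : Matrix (Fin 2) (Fin 2) F) =
      !![1, 0; -c, 1] := rfl

theorem tG_bijective : Function.Bijective
    (fun p : Option F × BG F => tG p.1 * (p.2 : Matrix.GeneralLinearGroup (Fin 2) F)) := by
  have hb : ∀ b : BG F, ((b : Matrix.GeneralLinearGroup (Fin 2) F) : Matrix (Fin 2) (Fin 2) F) 1 0 = 0 :=
    fun b => (mem_BG _).mp b.2
  have hb0 : ∀ b : BG F, ((b : Matrix.GeneralLinearGroup (Fin 2) F) : Matrix (Fin 2) (Fin 2) F) 0 0 ≠ 0 := by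
    intro b
    rw [← d0G_val]
    exact Units.ne_zero _
  have col0 : ∀ (i : Option F) (b : BG F),
      ((tG i * (b : Matrix.GeneralLinearGroup (Fin 2) F) : Matrix.GeneralLinearGroup (Fin 2) F) :
        Matrix (Fin 2) (Fin 2) F) 0 0 =
        match i with
        | none => 0
        | some _ => ((b : Matrix.GeneralLinearGroup (Fin 2) F) : Matrix (Fin 2) (Fin 2) F) 0 0 := by
    intro i b
    cases i with
    | none => simp [tG_none_val, Matrix.mul_apply, Fin.sum_univ_two, hb b]
    | some c => simp [tG_some_val, Matrix.mul_apply, Fin.sum_univ_two]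
  have col1 : ∀ (i : Option F) (b : BG F),
      ((tG i * (b : Matrix.GeneralLinearGroup (Fin 2) F) : Matrix.GeneralLinearGroup (Fin 2) F) :
        Matrix (Fin 2) (Fin 2) F) 1 0 =
        match i with
        | none => ((b : Matrix.GeneralLinearGroup (Fin 2) F) : Matrix (Fin 2) (Fin 2) F) 0 0
        | some c => c * ((b : Matrix.GeneralLinearGroup (Fin 2) F) : Matrix (Fin 2) (Fin 2) F) 0 0 := by
    intro i b
    cases i with
    | none => simp [tG_none_val, Matrix.mul_apply, Fin.sum_univ_two]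
    | some c => simp [tG_some_val, Matrix.mul_apply, Fin.sum_univ_two, hb b]
  constructor
  · rintro ⟨i, b⟩ ⟨j, b'⟩ h
    simp only at h
    have h0 := col0 i b
    have h1 := col1 i b
    rw [h] at h0 h1
    rw [col0 j b'] at h0
    rw [col1 j b'] at h1
    have hij : i = j := by
      cases i with
      | none =>
        cases j with
        | none => rfl
        | some c' => exact absurd h0 (hb0 b')
      | some c =>
        cases j with
        | none => exact absurd h0.symm (hb0 b)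
        | some c' =>
          simp only at h0 h1
          rw [h0] at h1
          rw [mul_right_cancel₀ (hb0 b) h1]
    subst hij
    have := mul_left_cancel h
    rw [Subtype.ext this]
  · intro x
    by_cases hx : (x : Matrix (Fin 2) (Fin 2) F) 0 0 = 0
    · refine ⟨(none, ⟨(tG none)⁻¹ * x, ?_⟩), ?_⟩
      · rw [mem_BG, Matrix.GeneralLinearGroup.coe_mul, tG_none_inv_val]
        simp [Matrix.mul_apply, Fin.sum_univ_two, hx]
      · simp
    · refine ⟨(some ((x : Matrix (Fin 2) (Fin 2) F) 1 0 / (x : Matrix (Fin 2) (Fin 2) F) 0 0),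
        ⟨(tG (some ((x : Matrix (Fin 2) (Fin 2) F) 1 0 / (x : Matrix (Fin 2) (Fin 2) F) 0 0)))⁻¹ * x, ?_⟩), ?_⟩
      · rw [mem_BG, Matrix.GeneralLinearGroup.coe_mul, tG_some_inv_val]
        simp [Matrix.mul_apply, Fin.sum_univ_two]
        field_simp
        ring
      · simp


section GLformula
variable [Fintype F] [DecidableEq F]

theorem ebzG (α β : MulChar F ℂ) (y : Matrix.GeneralLinearGroup (Fin 2) F) :
    extendByZero (BG F) (fun b => α (((b : Matrix.GeneralLinearGroup (Fin 2) F) :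
      Matrix (Fin 2) (Fin 2) F) 0 0) * β (((b : Matrix.GeneralLinearGroup (Fin 2) F) :
      Matrix (Fin 2) (Fin 2) F) 1 1)) y =
      if (y : Matrix (Fin 2) (Fin 2) F) 1 0 = 0 then α ((y : Matrix (Fin 2) (Fin 2) F) 0 0) *
        β ((y : Matrix (Fin 2) (Fin 2) F) 1 1) else 0 := by
  by_cases h : (y : Matrix (Fin 2) (Fin 2) F) 1 0 = 0
  · rw [if_pos h, extendByZero_of_mem _ _ ((mem_BG y).mpr h)]
  · rw [if_neg h, extendByZero_of_not_mem _ _ (fun hy => h ((mem_BG y).mp hy))]

theorem thetaG_conj (α β : MulChar F ℂ) (b h : BG F) :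
    (fun b : BG F => α (((b : Matrix.GeneralLinearGroup (Fin 2) F) :
      Matrix (Fin 2) (Fin 2) F) 0 0) * β (((b : Matrix.GeneralLinearGroup (Fin 2) F) :
      Matrix (Fin 2) (Fin 2) F) 1 1)) (b⁻¹ * h * b) =
    (fun b : BG F => α (((b : Matrix.GeneralLinearGroup (Fin 2) F) :
      Matrix (Fin 2) (Fin 2) F) 0 0) * β (((b : Matrix.GeneralLinearGroup (Fin 2) F) :
      Matrix (Fin 2) (Fin 2) F) 1 1)) h := by
  simp only [← d0G_val, ← d1G_val, map_mul, map_inv]
  have e0 : (d0G b)⁻¹ * d0G h * d0G b = d0G h := by rw [mul_comm, mul_inv_cancel_left]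
  have e1 : (d1G b)⁻¹ * d1G h * d1G b = d1G h := by rw [mul_comm, mul_inv_cancel_left]
  rw [e0, e1]

theorem indFun_GL (α β : MulChar F ℂ) (g : Matrix.GeneralLinearGroup (Fin 2) F) :
    indFun (BG F) (fun b => α (((b : Matrix.GeneralLinearGroup (Fin 2) F) :
      Matrix (Fin 2) (Fin 2) F) 0 0) * β (((b : Matrix.GeneralLinearGroup (Fin 2) F) :
      Matrix (Fin 2) (Fin 2) F) 1 1)) g =
      bsum (fun x y => α x * β y) (g : Matrix (Fin 2) (Fin 2) F) := by
  rw [indFun_transversal (BG F) _ (thetaG_conj α β) tG tG_bijective g, Fintype.sum_option, bsum,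
    add_comm]
  congr 1
  · refine Finset.sum_congr rfl fun c _ => ?_
    rw [ebzG, Matrix.GeneralLinearGroup.coe_mul, Matrix.GeneralLinearGroup.coe_mul,
      tG_some_inv_val, tG_some_val, conjU_10, conjU_00, conjU_11]
  · rw [ebzG, Matrix.GeneralLinearGroup.coe_mul, Matrix.GeneralLinearGroup.coe_mul,
      tG_none_inv_val, tG_none_val, conjW_10, conjW_00, conjW_11]
    simp only [neg_eq_zero]

end GLformula

/-- triangular element of GL₂ -/
def TG0 (a d : Fˣ) (x : F) : Matrix.GeneralLinearGroup (Fin 2) F :=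
  ⟨!![(a : F), x; 0, (d : F)], !![((a⁻¹ : Fˣ) : F), -((a⁻¹ : Fˣ) : F) * x * ((d⁻¹ : Fˣ) : F); 0, ((d⁻¹ : Fˣ) : F)],
    by
      rw [Matrix.mul_fin_two, Matrix.one_fin_two]
      ext i j
      fin_cases i <;> fin_cases j <;> simp
      field_simp
      ring,
    by
      rw [Matrix.mul_fin_two, Matrix.one_fin_two]
      ext i j
      fin_cases i <;> fin_cases j <;> simp⟩

theorem TG0_val (a d : Fˣ) (x : F) :
    ((TG0 a d x : Matrix.GeneralLinearGroup (Fin 2) F) : Matrix (Fin 2) (Fin 2) F) =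
      !![(a : F), x; 0, (d : F)] := rfl

/-- triangular element -/
def TG (a d : Fˣ) (x : F) : BG F := ⟨TG0 a d x, (mem_BG _).mpr (by simp [TG0_val])⟩

theorem TG_val (a d : Fˣ) (x : F) :
    (((TG a d x : BG F) : Matrix.GeneralLinearGroup (Fin 2) F) : Matrix (Fin 2) (Fin 2) F) =
      !![(a : F), x; 0, (d : F)] := rfl

theorem TG_bijective : Function.Bijective (fun p : Fˣ × Fˣ × F => (TG p.1 p.2.1 p.2.2 : BG F)) := by
  constructor
  · rintro ⟨a, d, x⟩ ⟨a', d', x'⟩ h
    have h' := congrArg (fun g : BG F =>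
      ((g : Matrix.GeneralLinearGroup (Fin 2) F) : Matrix (Fin 2) (Fin 2) F)) h
    simp only [TG_val] at h'
    have e00 := congrFun (congrFun h' 0) 0
    have e01 := congrFun (congrFun h' 0) 1
    have e11 := congrFun (congrFun h' 1) 1
    simp at e00 e01 e11
    rw [Units.ext e00, Units.ext e11, e01]
  · intro b
    refine ⟨(d0G b, d1G b, ((b : Matrix.GeneralLinearGroup (Fin 2) F) : Matrix (Fin 2) (Fin 2) F) 0 1), ?_⟩
    apply Subtype.ext
    apply Units.ext
    rw [TG_val, d0G_val, d1G_val]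
    have h := (mem_BG _).mp b.2
    ext i j
    fin_cases i <;> fin_cases j <;> simp [h]

end Cfsg.Agent.Lib.Helper4_BorelIndGL
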