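import Mathlib
import Cfsg.Prelude.Def_Characters
import Cfsg.Prelude.Def_ParabolicCharacters
import Cfsg.Agent.Lib.Helper2_ClassFn
import Cfsg.Agent.Lib.Helper4_SL2Borel
import Cfsg.Agent.Lib.Helper4_BorelInd
import Cfsg.Agent.Lib.Helper2_CharOrtho
import Cfsg.Agent.Lib.Helper2_CharInd
import Cfsg.Agent.Lib.Helper2_CharBasic

namespace Cfsg.Agent.Lib.Helper4_BorelInner
open Matrix Cfsg Cfsg.Agent.Lib.Helper2_ClassFn Cfsg.Agent.Lib.Helper4_SL2Borel
  Cfsg.Agent.Lib.Helper4_BorelInd
open scoped ComplexConjugate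

variable {F : Type*} [Field F] [Fintype F] [DecidableEq F]

theorem sum_units_eq (χ : MulChar F ℂ) : ∑ a : Fˣ, χ (a : F) = ∑ a : F, χ a := by
  rw [← Finset.sum_subset (Finset.subset_univ (Finset.univ.filter (fun a : F => a ≠ 0)))]
  · refine Finset.sum_bij (fun a _ => (a : F)) ?_ ?_ ?_ ?_
    · intro a _
      simp
    · intro a _ b _ h
      exact Units.ext h
    · intro b hb
      rw [Finset.mem_filter] at hb
      exact ⟨Units.mk0 b hb.2, Finset.mem_univ _, rfl⟩
    · intro a _
      rfl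
  · intro a _ ha
    rw [Finset.mem_filter, not_and, not_not] at ha
    rw [ha (Finset.mem_univ _)]
    exact MulChar.map_zero χ

theorem mulChar_orth (α β : MulChar F ℂ) [Decidable (α = β)] :
    ∑ a : Fˣ, α (a : F) * conj (β (a : F)) =
      if α = β then ((Fintype.card F : ℂ) - 1) else 0 := by
  have h1 : ∀ a : Fˣ, α (a : F) * conj (β (a : F)) = (α * β⁻¹) (a : F) := by
    intro a
    rw [MulChar.mul_apply, starRingEnd_apply, MulChar.star_apply']
  simp only [h1]
  rw [sum_units_eq]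
  split_ifs with h
  · subst h
    rw [mul_inv_cancel, MulChar.sum_one_eq_card_units, Fintype.card_units,
      Nat.cast_sub Fintype.card_pos]
    simp
  · apply MulChar.sum_eq_zero_of_ne_one
    intro h1
    apply h
    rw [mul_inv_eq_one] at h1
    exact h1


theorem T_bijective : Function.Bijective (fun p : Fˣ × F => (T p.1 p.2 : Bor F)) := by
  constructor
  · rintro ⟨a, x⟩ ⟨a', x'⟩ h
    obtain ⟨h1, h2⟩ := T_inj _ _ _ _ h
    exact Prod.ext h1 h2
  · intro b
    obtain ⟨a, x, rfl⟩ := eq_T b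
    exact ⟨(a, x), rfl⟩

theorem card_Bor : (Nat.card (Bor F) : ℂ) = ((Fintype.card F : ℂ) - 1) * (Fintype.card F : ℂ) := by
  rw [← Nat.card_congr (Equiv.ofBijective _ (T_bijective (F := F))), Nat.card_prod,
    Nat.card_eq_fintype_card, Nat.card_eq_fintype_card, Fintype.card_units, Nat.cast_mul,
    Nat.cast_sub Fintype.card_pos]
  simp

theorem conj_inv_unit (β : MulChar F ℂ) (a : Fˣ) : conj (β ((a⁻¹ : Fˣ) : F)) = β (a : F) := by
  rw [starRingEnd_apply, MulChar.star_apply', MulChar.inv_apply']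
  simp

theorem inner_SL (α β : MulChar F ℂ) [Decidable (α = β)] [Decidable (α = β⁻¹)] :
    classInner (indFun (Bor F) (fun b => α (((b : Matrix.SpecialLinearGroup (Fin 2) F) :
        Matrix (Fin 2) (Fin 2) F) 0 0)))
      (indFun (Bor F) (fun b => β (((b : Matrix.SpecialLinearGroup (Fin 2) F) :
        Matrix (Fin 2) (Fin 2) F) 0 0))) =
      (if α = β then 1 else 0) + (if α = β⁻¹ then 1 else 0) := by
  letI : Fintype (Bor F) := Fintype.ofFinite _
  rw [frobenius_reciprocity (Bor F) _ _ (indFun_isClassFunction _ _), classInner_def]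
  simp only [indFun_SL]
  rw [← Fintype.sum_bijective _ (T_bijective (F := F)) (fun p : Fˣ × F =>
      α (p.1 : F) * conj (bsum (fun x _ => β x) !![(p.1 : F), p.2; 0, ((p.1⁻¹ : Fˣ) : F)])) _
      (fun p => by rw [T_val]; simp), Fintype.sum_prod_type]
  have h1 : ∀ a : Fˣ, ∑ x : F, α (a : F) *
      conj (bsum (fun x _ => β x) !![(a : F), x; 0, ((a⁻¹ : Fˣ) : F)]) =
      (Fintype.card F : ℂ) * (α (a : F) * conj (β (a : F)) + α (a : F) * conj (β⁻¹ (a : F))) := by
    intro a
    rw [← Finset.mul_sum, ← map_sum, sum_bsum, map_mul, map_add, Complex.conj_natCast,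
      conj_inv_unit, MulChar.inv_apply', ← Units.val_inv_eq_inv_val, conj_inv_unit]
    ring
  simp only [h1]
  rw [← Finset.mul_sum, Finset.sum_add_distrib, mulChar_orth α β, mulChar_orth α β⁻¹, card_Bor]
  have hq : (Fintype.card F : ℂ) ≠ 0 := by
    exact_mod_cast Fintype.card_ne_zero
  have hq1 : (Fintype.card F : ℂ) - 1 ≠ 0 := by
    have : 1 < Fintype.card F := Fintype.one_lt_card
    rw [sub_ne_zero]
    exact_mod_cast this.ne'
  split_ifs <;> field_simp <;> ring


theorem isIrr_thetaS (α : MulChar F ℂ) : IsIrrCharacter (Bor F)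
    (fun b => α (((b : Matrix.SpecialLinearGroup (Fin 2) F) : Matrix (Fin 2) (Fin 2) F) 0 0)) := by
  have := Cfsg.Agent.Lib.Helper2_CharOrtho.isIrrCharacter_of_hom (α.toUnitHom.comp (d0S (F := F)))
  convert this using 2
  rw [MonoidHom.comp_apply, MulChar.coe_toUnitHom, d0S_val]

theorem isCharacter_indS (α : MulChar F ℂ) : IsCharacter (Matrix.SpecialLinearGroup (Fin 2) F)
    (indFun (Bor F)
      (fun b => α (((b : Matrix.SpecialLinearGroup (Fin 2) F) : Matrix (Fin 2) (Fin 2) F) 0 0))) :=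
  Cfsg.Agent.Lib.Helper2_CharInd.IsCharacter.indFun
    (Cfsg.Agent.Lib.Helper2_CharBasic.IsIrrCharacter.isCharacter (isIrr_thetaS α))

theorem irr_indS_iff (α : MulChar F ℂ) : IsIrrCharacter (Matrix.SpecialLinearGroup (Fin 2) F)
    (indFun (Bor F)
      (fun b => α (((b : Matrix.SpecialLinearGroup (Fin 2) F) : Matrix (Fin 2) (Fin 2) F) 0 0))) ↔
      α ^ 2 ≠ 1 := by
  classical
  have key := inner_SL α α
  rw [if_pos rfl] at key
  have hsq : α ^ 2 = 1 ↔ α = α⁻¹ := by
    rw [pow_two, mul_eq_one_iff_eq_inv]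
  constructor
  · intro h
    have h1 := Cfsg.Agent.Lib.Helper2_CharOrtho.classInner_irr_self h
    rw [h1] at key
    intro h2
    rw [if_pos (hsq.mp h2)] at key
    norm_num at key
  · intro h
    apply Cfsg.Agent.Lib.Helper2_CharOrtho.IsCharacter.isIrr_of_norm_one (isCharacter_indS α)
    rw [key, if_neg (fun h2 => h (hsq.mpr h2)), add_zero]

end Cfsg.Agent.Lib.Helper4_BorelInner
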