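import Mathlib
import Cfsg.Prelude.Def_Characters
import Cfsg.Prelude.Def_ParabolicCharacters
import Cfsg.Agent.Lib.Helper2_ClassFn
import Cfsg.Agent.Lib.Helper2_CharOrtho
import Cfsg.Agent.Lib.Helper2_CharInd
import Cfsg.Agent.Lib.Helper2_CharBasic
import Cfsg.Agent.Lib.Helper4_BorelInd
import Cfsg.Agent.Lib.Helper4_BorelInner
import Cfsg.Agent.Lib.Helper4_BorelIndGL

namespace Cfsg.Agent.Lib.Helper4_BorelInnerGL
open Matrix Cfsg Cfsg.Agent.Lib.Helper2_ClassFn
  Cfsg.Agent.Lib.Helper4_BorelInd Cfsg.Agent.Lib.Helper4_BorelInner Cfsg.Agent.Lib.Helper4_BorelIndGL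
open scoped ComplexConjugate

variable {F : Type*} [Field F] [Fintype F] [DecidableEq F]

theorem card_BG : (Nat.card (BG F) : ℂ) =
    ((Fintype.card F : ℂ) - 1) * (((Fintype.card F : ℂ) - 1) * (Fintype.card F : ℂ)) := by
  rw [← Nat.card_congr (Equiv.ofBijective _ (TG_bijective (F := F))), Nat.card_prod, Nat.card_prod,
    Nat.card_eq_fintype_card, Nat.card_eq_fintype_card, Fintype.card_units, Nat.cast_mul,
    Nat.cast_mul, Nat.cast_sub Fintype.card_pos]
  simp

theorem inner_GL (α β α' β' : MulChar F ℂ) [Decidable (α = α' ∧ β = β')]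
    [Decidable (α = β' ∧ β = α')] :
    classInner (indFun (BG F) (fun b => α (((b : Matrix.GeneralLinearGroup (Fin 2) F) :
        Matrix (Fin 2) (Fin 2) F) 0 0) * β (((b : Matrix.GeneralLinearGroup (Fin 2) F) :
        Matrix (Fin 2) (Fin 2) F) 1 1)))
      (indFun (BG F) (fun b => α' (((b : Matrix.GeneralLinearGroup (Fin 2) F) :
        Matrix (Fin 2) (Fin 2) F) 0 0) * β' (((b : Matrix.GeneralLinearGroup (Fin 2) F) :
        Matrix (Fin 2) (Fin 2) F) 1 1))) =
      (if α = α' ∧ β = β' then 1 else 0) + (if α = β' ∧ β = α' then 1 else 0) := by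
  classical
  letI : Fintype (BG F) := Fintype.ofFinite _
  rw [frobenius_reciprocity (BG F) _ _ (indFun_isClassFunction _ _), classInner_def]
  simp only [indFun_GL]
  rw [← Fintype.sum_bijective _ (TG_bijective (F := F)) (fun p : Fˣ × Fˣ × F =>
      α (p.1 : F) * β (p.2.1 : F) *
        conj (bsum (fun x y => α' x * β' y) !![(p.1 : F), p.2.2; 0, (p.2.1 : F)])) _
      (fun p => by rw [TG_val]; simp), Fintype.sum_prod_type]
  simp only [Fintype.sum_prod_type]
  have h1 : ∀ a d : Fˣ, ∑ x : F, α (a : F) * β (d : F) *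
      conj (bsum (fun x y => α' x * β' y) !![(a : F), x; 0, (d : F)]) =
      (Fintype.card F : ℂ) * ((α (a : F) * conj (α' (a : F))) * (β (d : F) * conj (β' (d : F))) +
        (α (a : F) * conj (β' (a : F))) * (β (d : F) * conj (α' (d : F)))) := by
    intro a d
    rw [← Finset.mul_sum, ← map_sum, sum_bsum, map_mul, map_add, Complex.conj_natCast, map_mul,
      map_mul]
    ring
  simp only [h1]
  simp only [← Finset.mul_sum, Finset.sum_add_distrib, ← Finset.sum_mul]
  rw [mulChar_orth α α', mulChar_orth β β', mulChar_orth α β', mulChar_orth β α', card_BG]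
  have hq : (Fintype.card F : ℂ) ≠ 0 := by
    exact_mod_cast Fintype.card_ne_zero
  have hq1 : (Fintype.card F : ℂ) - 1 ≠ 0 := by
    have : 1 < Fintype.card F := Fintype.one_lt_card
    rw [sub_ne_zero]
    exact_mod_cast this.ne'
  split_ifs <;> first | (exfalso; tauto) | (field_simp; ring) | (field_simp; done) | simp


theorem isIrr_thetaG (α β : MulChar F ℂ) : IsIrrCharacter (BG F)
    (fun b => α (((b : Matrix.GeneralLinearGroup (Fin 2) F) : Matrix (Fin 2) (Fin 2) F) 0 0) *
      β (((b : Matrix.GeneralLinearGroup (Fin 2) F) : Matrix (Fin 2) (Fin 2) F) 1 1)) := by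
  have := Cfsg.Agent.Lib.Helper2_CharOrtho.isIrrCharacter_of_hom
    ((α.toUnitHom.comp (d0G (F := F))) * (β.toUnitHom.comp (d1G (F := F))))
  convert this using 2
  rw [MonoidHom.mul_apply, Units.val_mul, MonoidHom.comp_apply, MonoidHom.comp_apply,
    MulChar.coe_toUnitHom, MulChar.coe_toUnitHom, d0G_val, d1G_val]

theorem isCharacter_indG (α β : MulChar F ℂ) : IsCharacter (Matrix.GeneralLinearGroup (Fin 2) F)
    (indFun (BG F)
      (fun b => α (((b : Matrix.GeneralLinearGroup (Fin 2) F) : Matrix (Fin 2) (Fin 2) F) 0 0) *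
      β (((b : Matrix.GeneralLinearGroup (Fin 2) F) : Matrix (Fin 2) (Fin 2) F) 1 1))) :=
  Cfsg.Agent.Lib.Helper2_CharInd.IsCharacter.indFun
    (Cfsg.Agent.Lib.Helper2_CharBasic.IsIrrCharacter.isCharacter (isIrr_thetaG α β))

theorem irr_indG (α β : MulChar F ℂ) (hαβ : α ≠ β) :
    IsIrrCharacter (Matrix.GeneralLinearGroup (Fin 2) F)
    (indFun (BG F)
      (fun b => α (((b : Matrix.GeneralLinearGroup (Fin 2) F) : Matrix (Fin 2) (Fin 2) F) 0 0) *
      β (((b : Matrix.GeneralLinearGroup (Fin 2) F) : Matrix (Fin 2) (Fin 2) F) 1 1))) := by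
  classical
  apply Cfsg.Agent.Lib.Helper2_CharOrtho.IsCharacter.isIrr_of_norm_one (isCharacter_indG α β)
  rw [inner_GL, if_pos ⟨rfl, rfl⟩, if_neg (fun h => hαβ h.1), add_zero]

theorem indG_swap (α β : MulChar F ℂ) :
    indFun (BG F)
      (fun b => α (((b : Matrix.GeneralLinearGroup (Fin 2) F) : Matrix (Fin 2) (Fin 2) F) 0 0) *
      β (((b : Matrix.GeneralLinearGroup (Fin 2) F) : Matrix (Fin 2) (Fin 2) F) 1 1)) =
    indFun (BG F)
      (fun b => β (((b : Matrix.GeneralLinearGroup (Fin 2) F) : Matrix (Fin 2) (Fin 2) F) 0 0) *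
      α (((b : Matrix.GeneralLinearGroup (Fin 2) F) : Matrix (Fin 2) (Fin 2) F) 1 1)) := by
  classical
  rw [← sub_eq_zero, ← classInner_self_eq_zero, classInner_sub_left, classInner_sub_right,
    classInner_sub_right, inner_GL, inner_GL, inner_GL, inner_GL]
  by_cases h : α = β
  · subst h
    simp
  · have h' : ¬ β = α := fun e => h e.symm
    simp [h, h']

theorem indG_eq_iff (α β α' β' : MulChar F ℂ) :
    indFun (BG F)
      (fun b => α (((b : Matrix.GeneralLinearGroup (Fin 2) F) : Matrix (Fin 2) (Fin 2) F) 0 0) *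
      β (((b : Matrix.GeneralLinearGroup (Fin 2) F) : Matrix (Fin 2) (Fin 2) F) 1 1)) =
    indFun (BG F)
      (fun b => α' (((b : Matrix.GeneralLinearGroup (Fin 2) F) : Matrix (Fin 2) (Fin 2) F) 0 0) *
      β' (((b : Matrix.GeneralLinearGroup (Fin 2) F) : Matrix (Fin 2) (Fin 2) F) 1 1)) ↔
      (α = α' ∧ β = β') ∨ (α = β' ∧ β = α') := by
  classical
  constructor
  · intro h
    have h1 := inner_GL α β α β
    have h2 := inner_GL α β α' β'
    rw [← h, h1, if_pos ⟨rfl, rfl⟩] at h2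
    by_contra hcon
    rw [not_or] at hcon
    rw [if_neg hcon.1, if_neg hcon.2] at h2
    split_ifs at h2 <;> norm_num at h2
  · rintro (⟨rfl, rfl⟩ | ⟨rfl, rfl⟩)
    · rfl
    · exact indG_swap _ _

end Cfsg.Agent.Lib.Helper4_BorelInnerGL
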