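import Mathlib
import Cfsg.Agent.S0012

namespace Cfsg.Agent.Lib.Helper4_BurnsideBasis
open scoped commutatorElement

section LA
variable {K V : Type*} [Field K] [AddCommGroup V] [Module K V]

theorem la_extract {α : Type*} (v : α → V) (S : Finset α)
    (h : Submodule.span K (v '' (S : Set α)) = ⊤) :
    ∃ T : Finset α, T ⊆ S ∧ T.card = Module.finrank K V ∧
      Submodule.span K (v '' (T : Set α)) = ⊤ := by
  classical
  obtain ⟨b, hbS, -, hsp, hli⟩ := exists_linearIndepOn_extension (K := K) (v := v) (s := ∅)
    (t := (S : Set α)) (linearIndepOn_empty _ _) (Set.empty_subset _)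
  have hbfin : b.Finite := S.finite_toSet.subset hbS
  have hspan : Submodule.span K (v '' b) = ⊤ := by
    rw [eq_top_iff, ← h]; exact Submodule.span_le.2 hsp
  refine ⟨hbfin.toFinset, ?_, ?_, ?_⟩
  · intro x hx; exact hbS (hbfin.mem_toFinset.1 hx)
  · have : Fintype b := hbfin.fintype
    have h1 := linearIndependent_iff_card_eq_finrank_span.1 hli
    have h2 : Set.range (fun x : b => v x) = v '' b := by
      ext y; constructor
      · rintro ⟨x, rfl⟩; exact ⟨x, x.2, rfl⟩
      · rintro ⟨x, hx, rfl⟩; exact ⟨⟨x, hx⟩, rfl⟩
    rw [Set.finrank, h2, hspan, finrank_top] at h1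
    rw [← h1, ← Set.toFinset_card]
    congr 1
    ext x; simp
  · rw [Set.Finite.coe_toFinset]; exact hspan

theorem la_le {α : Type*} (v : α → V) (T : Finset α)
    (h : Submodule.span K (v '' (T : Set α)) = ⊤) : Module.finrank K V ≤ T.card := by
  classical
  have h1 := finrank_span_finset_le_card (R := K) (T.image v)
  rw [Finset.coe_image, Set.finrank, h, finrank_top] at h1
  exact h1.trans Finset.card_image_le

end LA

section Grp
variable {G : Type*} [Group G]

theorem aux [Finite G] (p : ℕ) [Fact p.Prime] {A : Type*} [AddCommGroup A] [Module (ZMod p) A]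
    [Finite A] (π : G → A) (hπmul : ∀ a b, π (a * b) = π a + π b)
    (hπsurj : Function.Surjective π) (hπeq : ∀ a b, π a = π b → a⁻¹ * b ∈ frattini G)
    (n : ℕ) (hcard : Nat.card A = p ^ n) :
    (∀ S : Finset G, Subgroup.closure (S : Set G) = ⊤ → ∃ T : Finset G, T ⊆ S ∧ T.card = n ∧ Subgroup.closure (T : Set G) = ⊤) ∧
    (∀ T : Finset G, Subgroup.closure (T : Set G) = ⊤ → n ≤ T.card) := by
  have hπone : π 1 = 0 := by
    have := hπmul 1 1
    rw [mul_one] at this
    exact (add_eq_left.1 this.symm)
  have hπinv : ∀ a, π a⁻¹ = - π a := by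
    intro a
    have := hπmul a a⁻¹
    rw [mul_inv_cancel, hπone] at this
    exact (neg_eq_of_add_eq_zero_right this.symm).symm
  have key : ∀ T : Set G, Subgroup.closure T = ⊤ ↔ Submodule.span (ZMod p) (π '' T) = ⊤ := by
    intro T
    constructor
    · intro hT
      let H : Subgroup G :=
        { carrier := {g | π g ∈ Submodule.span (ZMod p) (π '' T)}
          mul_mem' := by
            intro a b ha hb
            show π (a * b) ∈ Submodule.span (ZMod p) (π '' T)
            rw [hπmul]; exact Submodule.add_mem _ ha hb
          one_mem' := by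
            show π 1 ∈ Submodule.span (ZMod p) (π '' T)
            rw [hπone]; exact Submodule.zero_mem _
          inv_mem' := by
            intro a ha
            show π a⁻¹ ∈ Submodule.span (ZMod p) (π '' T)
            rw [hπinv]; exact Submodule.neg_mem _ ha }
      have hH : H = ⊤ := by
        rw [eq_top_iff, ← hT, Subgroup.closure_le]
        intro t ht
        exact Submodule.subset_span ⟨t, ht, rfl⟩
      rw [eq_top_iff]
      intro x _
      obtain ⟨g, rfl⟩ := hπsurj x
      have : g ∈ H := by rw [hH]; exact Subgroup.mem_top g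
      exact this
    · intro hT
      apply frattini_nongenerating
      let W : AddSubgroup A :=
        { carrier := π '' (Subgroup.closure T : Set G)
          add_mem' := by
            rintro _ _ ⟨a, ha, rfl⟩ ⟨b, hb, rfl⟩
            exact ⟨a * b, Subgroup.mul_mem _ ha hb, hπmul a b⟩
          zero_mem' := ⟨1, Subgroup.one_mem _, hπone⟩
          neg_mem' := by
            rintro _ ⟨a, ha, rfl⟩
            exact ⟨a⁻¹, Subgroup.inv_mem _ ha, hπinv a⟩ }
      have hW : AddSubgroup.toZModSubmodule p W = ⊤ := by
        rw [eq_top_iff, ← hT, Submodule.span_le]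
        rintro _ ⟨t, ht, rfl⟩
        exact ⟨t, Subgroup.subset_closure ht, rfl⟩
      rw [eq_top_iff]
      intro g _
      have : π g ∈ AddSubgroup.toZModSubmodule p W := by rw [hW]; exact Submodule.mem_top
      obtain ⟨h, hh, hhg⟩ := this
      have h1 := hπeq h g hhg
      have : g = h * (h⁻¹ * g) := by group
      rw [this]
      exact Subgroup.mul_mem_sup hh h1
  have hfr : Module.finrank (ZMod p) A = n := by
    have h1 := Module.natCard_eq_pow_finrank (K := ZMod p) (V := A)
    rw [hcard, Nat.card_zmod] at h1
    exact (Nat.pow_right_injective (Fact.out : p.Prime).two_le h1).symm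
  constructor
  · intro S hS
    obtain ⟨T, hTS, hTc, hTsp⟩ := la_extract (K := ZMod p) π S ((key _).1 hS)
    exact ⟨T, hTS, hTc.trans hfr, (key _).2 hTsp⟩
  · intro T hT
    rw [← hfr]
    exact la_le (K := ZMod p) π T ((key _).1 hT)

/-- commutative structure on the Frattini quotient -/
@[reducible] def commQ (h : commutator G ≤ frattini G) : CommGroup (G ⧸ frattini G) :=
  { (inferInstance : Group (G ⧸ frattini G)) with
    mul_comm := by
      intro a b
      induction a using QuotientGroup.induction_on with | _ a => ?_
      induction b using QuotientGroup.induction_on with | _ b => ?_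
      rw [← QuotientGroup.mk_mul, ← QuotientGroup.mk_mul, QuotientGroup.eq]
      apply h
      have : (a * b)⁻¹ * (b * a) = ⁅b⁻¹, a⁻¹⁆ := by simp only [commutatorElement_def]; group
      rw [this, commutator_def]
      exact Subgroup.commutator_mem_commutator (Subgroup.mem_top _) (Subgroup.mem_top _) }

end Grp

end Cfsg.Agent.Lib.Helper4_BurnsideBasis
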