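import Mathlib
import Cfsg.Agent.Lib.Helper4_BurnsideBasis

namespace Cfsg.Agent.Lib.Helper4_BurnsideBasis2
open scoped commutatorElement
open Cfsg.Agent.Lib.Helper4_BurnsideBasis

variable {G : Type*} [Group G]

theorem main [Finite G] (p n : ℕ) [Fact p.Prime]
    (hG : IsPGroup p G) (hn : (frattini G).index = p ^ n) :
    (∀ S : Finset G, Subgroup.closure (S : Set G) = ⊤ → ∃ T : Finset G, T ⊆ S ∧ T.card = n ∧ Subgroup.closure (T : Set G) = ⊤) ∧
    (∀ T : Finset G, Subgroup.closure (T : Set G) = ⊤ → n ≤ T.card) := by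
  obtain ⟨hc, hpow⟩ := Cfsg.Agent.S0012.result p hG
  refine @aux G _ _ p _ (Additive (G ⧸ frattini G)) (@Additive.addCommGroup _ (commQ hc))
    (@AddCommGroup.zmodModule p _ (@Additive.addCommGroup _ (commQ hc)) ?_) inferInstance
    (fun g => Additive.ofMul (g : G ⧸ frattini G)) (fun a b => rfl) ?_ ?_ n ?_
  · intro x
    obtain ⟨g, hg⟩ := QuotientGroup.mk_surjective (Additive.toMul x)
    have : x = Additive.ofMul (g : G ⧸ frattini G) := by rw [hg]; rfl
    rw [this]
    show Additive.ofMul ((g : G ⧸ frattini G) ^ p) = Additive.ofMul 1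
    rw [← QuotientGroup.mk_pow, (QuotientGroup.eq_one_iff _).2 (hpow g)]
  · intro x
    obtain ⟨g, hg⟩ := QuotientGroup.mk_surjective (Additive.toMul x)
    exact ⟨g, by show Additive.ofMul (g : G ⧸ frattini G) = x; rw [hg]; rfl⟩
  · intro a b hab
    exact QuotientGroup.eq.1 (Additive.ofMul.injective hab)
  · rw [← hn, Subgroup.index_eq_card]
    rfl

end Cfsg.Agent.Lib.Helper4_BurnsideBasis2
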