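import Mathlib
import Cfsg.Prelude.Def_LocalStructure
import Cfsg.Agent.Lib.Helper4_Fusion2
import Cfsg.Agent.Lib.Helper4_Stab
import Cfsg.Agent.Lib.Helper4_Subnormal
import Cfsg.Agent.Lib.Helper4_PIrred
import Cfsg.Agent.Lib.Helper4_PReduced5
import Cfsg.Agent.Lib.Helper4_OrbitProd

namespace Cfsg.Agent.Lib.Helper4_ChainStab
open Cfsg Cfsg.Agent.Lib.Helper4_Fusion2 Cfsg.Agent.Lib.Helper4_Stab Cfsg.Agent.Lib.Helper4_Subnormal
  Cfsg.Agent.Lib.Helper4_PIrred Cfsg.Agent.Lib.Helper4_PReduced4 Cfsg.Agent.Lib.Helper4_PReduced5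
  Cfsg.Agent.Lib.Helper4_OrbitProd
open scoped commutatorElement

variable {G : Type*} [Group G]

/-- the stability group of the chain `B ≥ B' ≥ 1`. -/
def chainStab (B B' : Subgroup G) : Subgroup G where
  carrier := {g | (∀ c ∈ B', g * c = c * g) ∧ (∀ z ∈ B, ⁅z, g⁆ ∈ B')}
  mul_mem' := by
    rintro g h ⟨hg3, hg4⟩ ⟨hh3, hh4⟩
    refine ⟨?_, ?_⟩
    · intro c hc
      rw [mul_assoc, hh3 c hc, ← mul_assoc, hg3 c hc, mul_assoc]
    · intro z hz
      have e : ⁅z, g * h⁆ = ⁅z, g⁆ * (g * ⁅z, h⁆ * g⁻¹) := by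
        simp only [commutatorElement_def]; group
      rw [e]
      have h1 : g * ⁅z, h⁆ * g⁻¹ = ⁅z, h⁆ := by
        rw [hg3 _ (hh4 z hz)]; group
      rw [h1]
      exact B'.mul_mem (hg4 z hz) (hh4 z hz)
  one_mem' := by
    refine ⟨fun c _ => by simp, ?_⟩
    intro z _
    simp [commutatorElement_def]
  inv_mem' := by
    rintro g ⟨hg3, hg4⟩
    refine ⟨?_, ?_⟩
    · intro c hc
      have := hg3 c hc
      calc g⁻¹ * c = g⁻¹ * (c * g) * g⁻¹ := by group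
        _ = g⁻¹ * (g * c) * g⁻¹ := by rw [this]
        _ = c * g⁻¹ := by group
    · intro z hz
      have h1 := hg4 z hz
      have e : ⁅z, g⁻¹⁆ = g⁻¹ * (⁅z, g⁆)⁻¹ * g := by
        simp only [commutatorElement_def]; group
      rw [e]
      have h2 : g⁻¹ * (⁅z, g⁆)⁻¹ * g = (⁅z, g⁆)⁻¹ := by
        have := hg3 _ (B'.inv_mem h1)
        calc g⁻¹ * (⁅z, g⁆)⁻¹ * g = g⁻¹ * ((⁅z, g⁆)⁻¹ * g) := by group
          _ = g⁻¹ * (g * (⁅z, g⁆)⁻¹) := by rw [this]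
          _ = _ := by group
      rw [h2]
      exact B'.inv_mem h1

theorem mem_chainStab (B B' : Subgroup G) (g : G) :
    g ∈ chainStab B B' ↔ (∀ c ∈ B', g * c = c * g) ∧ (∀ z ∈ B, ⁅z, g⁆ ∈ B') := Iff.rfl

theorem chainStab_le_normalizer [Finite G] (B B' : Subgroup G) (hB : B' ≤ B) :
    chainStab B B' ≤ Subgroup.normalizer (B : Set G) := by
  intro k hk
  apply Subgroup.mem_normalizer_fintype
  intro d hd
  have h1 := hk.2 d⁻¹ (B.inv_mem hd)
  have h2 : ⁅d⁻¹, k⁆ = d⁻¹ * (k * d * k⁻¹) := by rw [commutatorElement_def]; group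
  rw [h2] at h1
  have := B.mul_mem hd (hB h1)
  rwa [mul_inv_cancel_left] at this

/-- conjugation by an element normalizing `B` and `B'` preserves the stability group. -/
theorem chainStab_conj_mem (B B' : Subgroup G) (n : G)
    (hnB : ∀ z ∈ B, n⁻¹ * z * n ∈ B) (hnB' : ∀ c ∈ B', n⁻¹ * c * n ∈ B')
    (hnB'' : ∀ c ∈ B', n * c * n⁻¹ ∈ B') :
    ∀ k ∈ chainStab B B', n * k * n⁻¹ ∈ chainStab B B' := by
  intro k hk
  rw [mem_chainStab] at hk ⊢
  obtain ⟨hk3, hk4⟩ := hk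
  refine ⟨?_, ?_⟩
  · intro c hc
    have := hk3 _ (hnB' c hc)
    calc n * k * n⁻¹ * c = n * (k * (n⁻¹ * c * n)) * n⁻¹ := by group
      _ = n * ((n⁻¹ * c * n) * k) * n⁻¹ := by rw [this]
      _ = _ := by group
  · intro z hz
    have h1 := hnB'' _ (hk4 _ (hnB z hz))
    have e : ⁅z, n * k * n⁻¹⁆ = n * ⁅n⁻¹ * z * n, k⁆ * n⁻¹ := by
      simp only [commutatorElement_def]; group
    rw [e]; exact h1

/-- `p'`-elements of the stability group centralize `B`. -/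
theorem chainStab_coprime_centralizes [Finite G] {p : ℕ} [Fact p.Prime] (B B' : Subgroup G)
    (hB'p : IsPGroup p B') (x : G) (hx : x ∈ chainStab B B') (hxc : Nat.Coprime (orderOf x) p) :
    x ∈ Subgroup.centralizer (B : Set G) := by
  have h1 := stab_step x hxc B B' hx.2 hx.1 (by
    intro z hz
    obtain ⟨k, hk⟩ := (IsPGroup.iff_orderOf.mp hB'p) ⟨z, hz⟩
    exact ⟨k, by rw [← hk]; exact (Subgroup.orderOf_mk z hz).symm⟩)
  rw [Subgroup.mem_centralizer_iff]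
  intro r hr
  exact (h1 r hr).symm

end Cfsg.Agent.Lib.Helper4_ChainStab
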