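import Mathlib
import Cfsg.Prelude.Def_LocalStructure
import Cfsg.Agent.Lib.Helper4_PReduced5
import Cfsg.Agent.Lib.Helper4_Stab
import Cfsg.Agent.Lib.Helper4_Subnormal

namespace Cfsg.Agent.Lib.Helper4_CharP

open Cfsg Cfsg.Agent.Lib.Helper4_PCore Cfsg.Agent.Lib.Helper4_Minimal Cfsg.Agent.Lib.Helper4_PIrred
  Cfsg.Agent.Lib.Helper4_PIrred2 Cfsg.Agent.Lib.Helper4_PReduced5 Cfsg.Agent.Lib.Helper4_Stab
  Cfsg.Agent.Lib.Helper4_Subnormal
open scoped commutatorElement

variable {G : Type*} [Group G]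

/-- characteristic `p` for a subgroup, in ambient terms -/
theorem charP_iff (p : ℕ) (H : Subgroup G) :
    Subgroup.centralizer (pCore p ↥H : Set ↥H) ≤ pCore p ↥H ↔
      H ⊓ Subgroup.centralizer ((pCoreOf p H : Subgroup G) : Set G) ≤ pCoreOf p H := by
  constructor
  · intro h x hx
    rw [Subgroup.mem_inf] at hx
    have h1 : (⟨x, hx.1⟩ : H) ∈ Subgroup.centralizer (pCore p ↥H : Set ↥H) := by
      rw [Subgroup.mem_centralizer_iff]
      intro q hq
      apply Subtype.ext
      exact Subgroup.mem_centralizer_iff.mp hx.2 q (Subgroup.mem_map.mpr ⟨q, hq, rfl⟩)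
    exact Subgroup.mem_map.mpr ⟨_, h h1, rfl⟩
  · intro h x hx
    have h1 : (x : G) ∈ H ⊓ Subgroup.centralizer ((pCoreOf p H : Subgroup G) : Set G) := by
      refine ⟨x.2, ?_⟩
      show (x : G) ∈ Subgroup.centralizer ((pCoreOf p H : Subgroup G) : Set G)
      rw [Subgroup.mem_centralizer_iff]
      intro q hq
      obtain ⟨q', hq', rfl⟩ := Subgroup.mem_map.mp hq
      have := Subgroup.mem_centralizer_iff.mp hx q' hq'
      exact congrArg (fun y : H => (y : G)) this
    obtain ⟨y, hy, hyx⟩ := Subgroup.mem_map.mp (h h1)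
    have : y = x := Subtype.ext hyx
    rw [← this]; exact hy

theorem pCoreOf_eq_inf_of_normal [Finite G] {p : ℕ} [Fact p.Prime] (H : Subgroup G) [H.Normal] :
    pCoreOf p H = H ⊓ pCore p G := by
  unfold pCoreOf
  rw [pCore_subgroupOf_normal, Subgroup.subgroupOf_map_subtype, inf_comm]

/-- normal subgroups of a group of characteristic `p` have characteristic `p`. -/
theorem charP_of_normal [Finite G] {p : ℕ} [Fact p.Prime]
    (hchar : Subgroup.centralizer (pCore p G : Set G) ≤ pCore p G) (H : Subgroup G) [hH : H.Normal] :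
    H ⊓ Subgroup.centralizer ((pCoreOf p H : Subgroup G) : Set G) ≤ pCoreOf p H := by
  set Q := pCore p G with hQ
  haveI hQn : Q.Normal := pCore_normal p G
  set R := pCoreOf p H with hR
  have hRe : R = H ⊓ Q := pCoreOf_eq_inf_of_normal H
  haveI hRn : R.Normal := by rw [hRe]; infer_instance
  set X := H ⊓ Subgroup.centralizer (R : Set G) with hX
  haveI hXn : X.Normal := by rw [hX]; infer_instance
  have hQp : ∀ r ∈ Q, ∃ k : ℕ, orderOf r = p ^ k := by
    intro r hr
    obtain ⟨k, hk⟩ := (IsPGroup.iff_orderOf.mp (pCore_isPGroup (G := G) (p := p))) ⟨r, hr⟩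
    exact ⟨k, by rw [← hk]; simp⟩
  have hXp : IsPGroup p X := by
    apply isPGroup_of_pPrime_trivial
    intro x hxX hx
    have hxX' : x ∈ H ∧ x ∈ Subgroup.centralizer (R : Set G) := Subgroup.mem_inf.mp hxX
    have hxR : ∀ r ∈ R, x * r = r * x := by
      intro r hr
      exact (Subgroup.mem_centralizer_iff.mp hxX'.2 r hr).symm
    have hxQ : ∀ q ∈ Q, x * q = q * x := by
      apply stab_step x hx Q R
      · intro q hq
        rw [hRe]
        have h1 : q * x * q⁻¹ ∈ X := hXn.conj_mem x hxX q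
        have h1' : q * x * q⁻¹ ∈ H := (Subgroup.mem_inf.mp h1).1
        have h2 : x * q⁻¹ * x⁻¹ ∈ Q := hQn.conj_mem _ (inv_mem hq) x
        rw [Subgroup.mem_inf]
        constructor
        · have : ⁅q, x⁆ = (q * x * q⁻¹) * x⁻¹ := by rw [commutatorElement_def]
          rw [this]
          exact mul_mem h1' (inv_mem hxX'.1)
        · have : ⁅q, x⁆ = q * (x * q⁻¹ * x⁻¹) := by rw [commutatorElement_def]; group
          rw [this]
          exact mul_mem hq h2
      · exact hxR
      · intro z hz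
        rw [hRe] at hz
        exact hQp z hz.2
    have hxc : x ∈ Subgroup.centralizer (Q : Set G) := by
      rw [Subgroup.mem_centralizer_iff]
      intro q hq
      exact (hxQ q hq).symm
    obtain ⟨k, hk⟩ := hQp x (hchar hxc)
    exact eq_one_of_coprime_of_pow x hx k hk
  have hXQ : X ≤ Q := le_pCore X hXn hXp
  rw [hRe]
  exact le_inf inf_le_left hXQ

theorem charP_of_residual_normal [Finite G] {p : ℕ} [Fact p.Prime]
    (hchar : Subgroup.centralizer (pCore p G : Set G) ≤ pCore p G) (H : Subgroup G)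
    (hK : ((pResidual p ↥H).map H.subtype).Normal) :
    H ⊓ Subgroup.centralizer ((pCoreOf p H : Subgroup G) : Set G) ≤ pCoreOf p H := by
  set K := (pResidual p ↥H).map H.subtype with hKdef
  haveI := hK
  have hKH : K ≤ H := Subgroup.map_subtype_le _
  have h1 := charP_of_normal hchar K
  obtain ⟨hQL, hLQ, hQp, hQmax⟩ := pCoreOf_facts (p := p) H
  have hKcore : pCoreOf p K ≤ pCoreOf p H := by
    apply hQmax
    · exact (Subgroup.map_subtype_le _).trans hKH
    · rw [pCoreOf_eq_inf_of_normal K]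
      haveI := pCore_normal p G
      exact Subgroup.le_normalizer_of_normal
    · exact (pCoreOf_facts (p := p) K).2.2.1
  set X := H ⊓ Subgroup.centralizer ((pCoreOf p H : Subgroup G) : Set G) with hX
  have hXp : ∀ v ∈ X, ∃ k : ℕ, v ^ (p ^ k) = 1 := by
    have hXpg : IsPGroup p X := by
      apply isPGroup_of_pPrime_trivial
      intro x hxX hx
      have hxK : x ∈ K := by
        rw [hKdef, map_pResidual_subtype]
        exact Subgroup.subset_closure ⟨hxX.1, hx⟩
      have hxc : x ∈ K ⊓ Subgroup.centralizer ((pCoreOf p K : Subgroup G) : Set G) :=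
        ⟨hxK, Subgroup.centralizer_le hKcore hxX.2⟩
      obtain ⟨k, hk⟩ := (pCoreOf_facts (p := p) K).2.2.1 x (h1 hxc)
      have hord : orderOf x ∣ p ^ k := orderOf_dvd_of_pow_eq_one hk
      have : orderOf x = 1 := Nat.Coprime.eq_one_of_dvd (Nat.Coprime.pow_right k hx) hord
      exact orderOf_eq_one_iff.mp this
    intro v hv
    obtain ⟨k, hk⟩ := hXpg ⟨v, hv⟩
    exact ⟨k, by have := congrArg Subtype.val hk; simpa using this⟩
  apply hQmax X inf_le_left _ hXp
  intro h hh
  have hhc := normalizer_le_normalizer_centralizer (pCoreOf p H) (hLQ hh)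
  rw [Subgroup.mem_normalizer_iff] at hhc ⊢
  intro y
  rw [hX, Subgroup.mem_inf, Subgroup.mem_inf]
  constructor
  · rintro ⟨h2, h3⟩
    exact ⟨mul_mem (mul_mem hh h2) (inv_mem hh), (hhc y).mp h3⟩
  · rintro ⟨h2, h3⟩
    refine ⟨?_, (hhc y).mpr h3⟩
    have := mul_mem (mul_mem (inv_mem hh) h2) hh
    have e : h⁻¹ * (h * y * h⁻¹) * h = y := by group
    rwa [e] at this

end Cfsg.Agent.Lib.Helper4_CharP
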