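import Mathlib
import Cfsg.Prelude.Def_LocalStructure
import Cfsg.Agent.Lib.Helper4_Coprime
import Cfsg.Agent.Lib.Helper4_Subnormal
import Cfsg.Agent.Lib.Helper4_SubnormalClosure
import Cfsg.Agent.Lib.Helper4_PReduced2
import Cfsg.Agent.Lib.Helper4_OrbitProd

namespace Cfsg.Agent.Lib.Helper4_CommRes
open Cfsg Cfsg.Agent.Lib.Helper4_PIrred Cfsg.Agent.Lib.Helper4_Stab Cfsg.Agent.Lib.Helper4_Coprime
  Cfsg.Agent.Lib.Helper4_Subnormal Cfsg.Agent.Lib.Helper4_SubnormalClosure
  Cfsg.Agent.Lib.Helper4_PReduced Cfsg.Agent.Lib.Helper4_PReduced2 Cfsg.Agent.Lib.Helper4_OrbitProd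
open scoped commutatorElement

variable {L : Type*} [Group L] [Finite L] {p : ℕ} [Fact p.Prime]

theorem comm_le (V : Subgroup L) (hVn : V.Normal) (hel : IsElementaryAbelian p V) :
    ∀ K : Subgroup L, K.IsSubnormal → ⁅V, (pResidual p ↥K).map K.subtype⁆ ≤ K := by
  intro K hK
  induction hK with
  | top => exact le_top
  | step H K' h_le hSubn hN ih =>
    have := hVn
    have hVc : ∀ a ∈ V, ∀ b ∈ V, a * b = b * a := by
      intro a ha b hb
      have := hel.1.is_comm.comm (⟨a, ha⟩ : V) ⟨b, hb⟩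
      exact congrArg Subtype.val this
    have hVp : ∀ v ∈ V, ∃ k : ℕ, v ^ (p ^ k) = 1 := fun v hv => ⟨1, by rw [pow_one]; exact hel.2 v hv⟩
    have h1 := commutator_le_commutator_commutator (p := p) V ((pResidual p ↥H).map H.subtype) hVc hVp
      {x : L | x ∈ H ∧ Nat.Coprime (orderOf x) p} (fun x hx => hx.2) (map_pResidual_subtype p H)
    refine h1.trans ?_
    have h2 : ⁅V, (pResidual p ↥H).map H.subtype⁆ ≤ K' :=
      (Subgroup.commutator_mono le_rfl (map_pResidual_subtype_mono p h_le)).trans ih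
    have h3 : (pResidual p ↥H).map H.subtype ≤ H := Subgroup.map_subtype_le _
    refine (Subgroup.commutator_mono h2 h3).trans ?_
    rw [Subgroup.commutator_le]
    intro k hk h hh
    have h4 := hN.conj_mem ⟨h, h_le hh⟩ (by rw [Subgroup.mem_subgroupOf]; exact hh) ⟨k, hk⟩
    rw [Subgroup.mem_subgroupOf] at h4
    have e : ⁅k, h⁆ = (k * h * k⁻¹) * h⁻¹ := by rw [commutatorElement_def]
    rw [e]
    exact mul_mem h4 (inv_mem hh)

theorem main (V : Subgroup L) (hV : Cfsg.IsPReducedNormal p V) (K : Subgroup L) (hK : K.IsSubnormal) :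
    ⁅V, (Cfsg.pResidual p ↥K).map K.subtype⁆ ≤ K ∧
      Cfsg.IsPReducedNormal p ((⁅V, (Cfsg.pResidual p ↥K).map K.subtype⁆).subgroupOf K) := by
  have hp : p.Prime := Fact.out
  obtain ⟨hVn, hel, hCn, hpc⟩ := hV
  have hWK := comm_le V hVn hel K hK
  refine ⟨hWK, ?_⟩
  rw [isPReducedNormal_subgroupOf_iff hWK]
  set R := (Cfsg.pResidual p ↥K).map K.subtype with hR
  set W := ⁅V, R⁆ with hW
  have hWV : W ≤ V := by
    rw [hW, Subgroup.commutator_le]
    intro v hv x _
    rw [commutatorElement_def]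
    have := hVn.conj_mem v⁻¹ (inv_mem hv) x
    have e : v * x * v⁻¹ * x⁻¹ = v * (x * v⁻¹ * x⁻¹) := by group
    rw [e]; exact mul_mem hv this
  have hKW : ∀ g ∈ K, ∀ w ∈ W, g * w * g⁻¹ ∈ W := fun g hg =>
    commutator_conj_mem_of_normalizes V R g (fun v hv => hVn.conj_mem v hv g)
      (pResidualOf_conj_mem p K g hg)
  have helW : IsElementaryAbelian p W := by
    refine ⟨⟨⟨fun a b => ?_⟩⟩, fun a ha => hel.2 a (hWV ha)⟩
    have := hel.1.is_comm.comm (⟨a, hWV a.2⟩ : V) ⟨b, hWV b.2⟩
    apply Subtype.ext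
    have h2 := congrArg (fun x : V => (x : L)) this
    exact h2
  refine ⟨hWK, le_normalizer_of_conj_mem' _ _ hKW, helW, ?_⟩
  intro D hDK hKD hDp
  have hDsub : D.IsSubnormal := isSubnormal_of_normal_in K D hK hDK hKD
  -- p'-elements of D centralize V
  have hpp : ∀ x ∈ D, Nat.Coprime (orderOf x) p → x ∈ Subgroup.centralizer (V : Set L) := by
    intro x hxD hx
    obtain ⟨k, hk⟩ := hDp x hxD
    have hxW : x ∈ Subgroup.centralizer (W : Set L) :=
      mem_of_pow_mem_of_coprime _ x (p ^ k) (orderOf_pos x) (Nat.Coprime.pow_left k hx.symm) hk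
    have hxR : x ∈ R := by
      rw [hR, map_pResidual_subtype]
      exact Subgroup.subset_closure ⟨hDK hxD, hx⟩
    have := stab_step x hx V W (fun r hr => Subgroup.commutator_mem_commutator hr hxR)
      (fun z hz => by
        rw [Subgroup.mem_centralizer_iff] at hxW
        exact (hxW z hz).symm)
      (fun z hz => by
        have h1 : orderOf z ∣ p := orderOf_dvd_of_pow_eq_one (helW.2 z hz)
        rcases (Nat.dvd_prime hp).mp h1 with h | h
        · exact ⟨0, by rw [h, pow_zero]⟩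
        · exact ⟨1, by rw [h, pow_one]⟩)
    rw [Subgroup.mem_centralizer_iff]
    intro r hr
    exact (this r hr).symm
  have hDV : D ≤ Subgroup.centralizer (V : Set L) := by
    have hmapP : IsPGroup p (D.map (QuotientGroup.mk' (Subgroup.centralizer (V : Set L)))) := by
      rintro ⟨y, hy⟩
      obtain ⟨d, hd, rfl⟩ := Subgroup.mem_map.mp hy
      obtain ⟨a, m, hm, hdm⟩ := Nat.exists_eq_pow_mul_and_not_dvd (orderOf_pos d).ne' p hp.ne_one
      refine ⟨a, ?_⟩
      apply Subtype.ext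
      show (QuotientGroup.mk' (Subgroup.centralizer (V : Set L)) d) ^ (p ^ a) = 1
      rw [← map_pow, QuotientGroup.mk'_apply, QuotientGroup.eq_one_iff]
      apply hpp _ (pow_mem hd _)
      have h2 : orderOf (d ^ (p ^ a)) = m := by
        rw [orderOf_pow' _ (pow_ne_zero a hp.ne_zero), hdm, Nat.gcd_eq_right (Dvd.intro _ rfl)]
        exact Nat.mul_div_cancel_left m (pow_pos hp.pos a)
      rw [h2]
      exact ((Nat.Prime.coprime_iff_not_dvd hp).mpr hm).symm
    have hmapS : (D.map (QuotientGroup.mk' (Subgroup.centralizer (V : Set L)))).IsSubnormal :=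
      hDsub.map (QuotientGroup.mk'_surjective _)
    have h1 := subnormal_pGroup_le_pCore _ hmapS hmapP
    rw [hpc, le_bot_iff] at h1
    intro d hd
    have : (QuotientGroup.mk' (Subgroup.centralizer (V : Set L)) d) ∈
        D.map (QuotientGroup.mk' (Subgroup.centralizer (V : Set L))) := Subgroup.mem_map_of_mem _ hd
    rw [h1, Subgroup.mem_bot, QuotientGroup.mk'_apply, QuotientGroup.eq_one_iff] at this
    exact this
  exact hDV.trans (Subgroup.centralizer_le hWV)

end Cfsg.Agent.Lib.Helper4_CommRes
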