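import Mathlib

set_option autoImplicit false

namespace Cfsg.Agent.Lib.Helper4_Count0

open Finset

variable {F : Type*} [Field F] [Fintype F] [DecidableEq F]

theorem card_b (t a : F) :
    Fintype.card {b : F // t + a * b = 0} =
      if a = 0 then (if t = 0 then Fintype.card F else 0) else 1 := by
  by_cases ha : a = 0
  · subst ha
    by_cases ht : t = 0
    · subst ht
      simp
    · simp only [if_true, if_neg ht]
      rw [Fintype.card_eq_zero_iff]
      exact ⟨fun ⟨b, hb⟩ => ht (by simpa using hb)⟩
  · rw [if_neg ha, Fintype.card_eq_one_iff]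
    refine ⟨⟨-t / a, by field_simp; ring⟩, ?_⟩
    rintro ⟨b, hb⟩
    apply Subtype.ext
    show b = -t / a
    field_simp
    linear_combination hb

theorem card_ab (t : F) :
    Fintype.card {ab : F × F // t + ab.1 * ab.2 = 0} =
      (if t = 0 then Fintype.card F else 0) + (Fintype.card F - 1) := by
  have e : {ab : F × F // t + ab.1 * ab.2 = 0} ≃ Σ a : F, {b : F // t + a * b = 0} :=
    Equiv.subtypeProdEquivSigmaSubtype (fun a b => t + a * b = 0)
  rw [Fintype.card_congr e, Fintype.card_sigma]
  simp_rw [card_b]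
  rw [← Finset.add_sum_erase _ _ (Finset.mem_univ (0 : F))]
  simp only [if_true]
  congr 1
  rw [Finset.sum_congr rfl (fun x hx => if_neg (Finset.ne_of_mem_erase hx))]
  simp [Finset.card_erase_of_mem]

theorem card_wab {W : Type*} [Fintype W] (φ : W → F) :
    Fintype.card {p : W × (F × F) // φ p.1 + p.2.1 * p.2.2 = 0} =
      Fintype.card F * Fintype.card {w : W // φ w = 0} +
        (Fintype.card F - 1) * Fintype.card W := by
  classical
  have e : {p : W × (F × F) // φ p.1 + p.2.1 * p.2.2 = 0} ≃
      Σ w : W, {ab : F × F // φ w + ab.1 * ab.2 = 0} :=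
    Equiv.subtypeProdEquivSigmaSubtype (fun w (ab : F × F) => φ w + ab.1 * ab.2 = 0)
  rw [Fintype.card_congr e, Fintype.card_sigma]
  simp_rw [card_ab]
  rw [Finset.sum_add_distrib, Finset.sum_ite, Finset.sum_const_zero, add_zero,
    Finset.sum_const, Finset.sum_const, smul_eq_mul, smul_eq_mul, Finset.card_univ,
    Fintype.card_subtype]
  ring

end Cfsg.Agent.Lib.Helper4_Count0
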