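import Mathlib
import Cfsg.Prelude.Def_Classical
import Cfsg.Agent.Lib.Helper4_Count0

set_option autoImplicit false

namespace Cfsg.Agent.Lib.Helper4_Count1

open Finset Cfsg.Agent.Lib.Helper4_Count0

variable {F : Type*} [Field F]

/-- splitting off the first hyperbolic pair -/
def ePlus (F : Type*) (m : ℕ) : (Fin (m + 1) ⊕ Fin (m + 1) → F) ≃ (Fin m ⊕ Fin m → F) × (F × F) where
  toFun v := (fun j => v (Sum.map Fin.succ Fin.succ j), (v (Sum.inl 0), v (Sum.inr 0)))
  invFun p := Sum.elim (Fin.cons p.2.1 (fun i => p.1 (Sum.inl i)))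
    (Fin.cons p.2.2 (fun i => p.1 (Sum.inr i)))
  left_inv v := by
    ext j
    rcases j with j | j
    · refine Fin.cases ?_ (fun i => ?_) j <;> simp
    · refine Fin.cases ?_ (fun i => ?_) j <;> simp
  right_inv p := by
    obtain ⟨w, a, b⟩ := p
    simp only [Prod.mk.injEq]
    refine ⟨?_, by simp, by simp⟩
    ext j
    rcases j with j | j <;> simp

theorem qplus_split (m : ℕ) (v : Fin (m + 1) ⊕ Fin (m + 1) → F) :
    Cfsg.quadFormPlus (m + 1) F v =
      Cfsg.quadFormPlus m F (ePlus F m v).1 + (ePlus F m v).2.1 * (ePlus F m v).2.2 := by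
  unfold Cfsg.quadFormPlus
  rw [Fin.sum_univ_succ, add_comm]
  rfl

theorem card_wab' [Fintype F] {W : Type*} [Fintype W] (φ : W → F) :
    Nat.card {p : W × (F × F) // φ p.1 + p.2.1 * p.2.2 = 0} =
      Fintype.card F * Nat.card {w : W // φ w = 0} +
        (Fintype.card F - 1) * Fintype.card W := by
  classical
  rw [Nat.card_eq_fintype_card, Nat.card_eq_fintype_card]
  convert card_wab φ

/-- number of singular vectors of the plus form -/
noncomputable def NPlus (F : Type*) [Field F] [Fintype F] (m : ℕ) : ℕ :=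
  Nat.card {v : Fin m ⊕ Fin m → F // Cfsg.quadFormPlus m F v = 0}

theorem NPlus_succ [Fintype F] (m : ℕ) :
    NPlus F (m + 1) = Fintype.card F * NPlus F m +
      (Fintype.card F - 1) * Fintype.card F ^ (2 * m) := by
  classical
  unfold NPlus
  have e : {v : Fin (m + 1) ⊕ Fin (m + 1) → F // Cfsg.quadFormPlus (m + 1) F v = 0} ≃
      {p : (Fin m ⊕ Fin m → F) × (F × F) // Cfsg.quadFormPlus m F p.1 + p.2.1 * p.2.2 = 0} :=
    (ePlus F m).subtypeEquiv (fun v => by rw [qplus_split])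
  rw [Nat.card_congr e, card_wab']
  congr 2
  rw [Fintype.card_fun, Fintype.card_sum, Fintype.card_fin]
  ring_nf

theorem NPlus_zero [Fintype F] : NPlus F 0 = 1 := by
  unfold NPlus
  rw [Nat.card_eq_one_iff_unique]
  refine ⟨⟨?_⟩, ⟨⟨fun _ => 0, by simp [Cfsg.quadFormPlus]⟩⟩⟩
  rintro ⟨v, _⟩ ⟨w, _⟩
  apply Subtype.ext
  ext j
  rcases j with j | j <;> exact j.elim0

theorem NPlus_closed [Fintype F] (m : ℕ) :
    Fintype.card F * NPlus F m + Fintype.card F ^ m =
      Fintype.card F ^ (2 * m) + Fintype.card F ^ (m + 1) := by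
  have hq : 1 ≤ Fintype.card F := Fintype.card_pos
  obtain ⟨q, hq'⟩ : ∃ q, Fintype.card F = q + 1 := ⟨Fintype.card F - 1, by omega⟩
  induction m with
  | zero => rw [NPlus_zero]; simp; omega
  | succ m ih =>
    rw [NPlus_succ, hq'] at *
    simp only [Nat.add_sub_cancel] at *
    have e1 : (q + 1) ^ (2 * (m + 1)) = (q + 1) ^ (2 * m) * (q + 1) ^ 2 := by
      rw [← pow_add]; congr 1
    have e2 : (q + 1) ^ (m + 1 + 1) = (q + 1) ^ (m + 1) * (q + 1) := pow_succ _ _
    have e3 : (q + 1) ^ (m + 1) = (q + 1) ^ m * (q + 1) := pow_succ _ _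
    rw [e1, e2]
    rw [e3] at ih ⊢
    nlinarith [ih]


/-- splitting off the first hyperbolic pair, minus form -/
def eMinus (F : Type*) (k : ℕ) :
    ((Fin (k + 1) ⊕ Fin (k + 1)) ⊕ Fin 2 → F) ≃ ((Fin k ⊕ Fin k) ⊕ Fin 2 → F) × (F × F) where
  toFun v := (fun j => v (Sum.map (Sum.map Fin.succ Fin.succ) id j),
    (v (Sum.inl (Sum.inl 0)), v (Sum.inl (Sum.inr 0))))
  invFun p := Sum.elim (Sum.elim (Fin.cons p.2.1 (fun i => p.1 (Sum.inl (Sum.inl i))))
    (Fin.cons p.2.2 (fun i => p.1 (Sum.inl (Sum.inr i))))) (fun j => p.1 (Sum.inr j))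
  left_inv v := by
    ext j
    rcases j with (j | j) | j
    · refine Fin.cases ?_ (fun i => ?_) j <;> simp
    · refine Fin.cases ?_ (fun i => ?_) j <;> simp
    · simp
  right_inv p := by
    obtain ⟨w, a, b⟩ := p
    simp only [Prod.mk.injEq]
    refine ⟨?_, by simp, by simp⟩
    ext j
    rcases j with (j | j) | j <;> simp

theorem qminus_split (k : ℕ) (a b : F) (v : (Fin (k + 1) ⊕ Fin (k + 1)) ⊕ Fin 2 → F) :
    Cfsg.quadFormMinus (k + 1) F a b v =
      Cfsg.quadFormMinus k F a b (eMinus F k v).1 + (eMinus F k v).2.1 * (eMinus F k v).2.2 := by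
  unfold Cfsg.quadFormMinus
  rw [Fin.sum_univ_succ]
  simp only [eMinus, Equiv.coe_fn_mk, Sum.map_inl, Sum.map_inr, id]
  ring

/-- number of singular vectors of the minus form -/
noncomputable def NMinus (F : Type*) [Field F] [Fintype F] (a b : F) (k : ℕ) : ℕ :=
  Nat.card {v : (Fin k ⊕ Fin k) ⊕ Fin 2 → F // Cfsg.quadFormMinus k F a b v = 0}

theorem NMinus_succ [Fintype F] (a b : F) (k : ℕ) :
    NMinus F a b (k + 1) = Fintype.card F * NMinus F a b k +
      (Fintype.card F - 1) * Fintype.card F ^ (2 * k + 2) := by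
  classical
  unfold NMinus
  have e : {v : (Fin (k + 1) ⊕ Fin (k + 1)) ⊕ Fin 2 → F //
        Cfsg.quadFormMinus (k + 1) F a b v = 0} ≃
      {p : ((Fin k ⊕ Fin k) ⊕ Fin 2 → F) × (F × F) //
        Cfsg.quadFormMinus k F a b p.1 + p.2.1 * p.2.2 = 0} :=
    (eMinus F k).subtypeEquiv (fun v => by rw [qminus_split])
  rw [Nat.card_congr e, card_wab']
  congr 2
  rw [Fintype.card_fun, Fintype.card_sum, Fintype.card_sum, Fintype.card_fin, Fintype.card_fin]
  ring_nf

theorem NMinus_zero [Fintype F] (a b : F)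
    (hab : ∀ z₁ z₂ : F, z₁ ^ 2 + a * z₁ * z₂ + b * z₂ ^ 2 = 0 → z₁ = 0 ∧ z₂ = 0) :
    NMinus F a b 0 = 1 := by
  unfold NMinus
  rw [Nat.card_eq_one_iff_unique]
  refine ⟨⟨?_⟩, ⟨⟨fun _ => 0, by simp [Cfsg.quadFormMinus]⟩⟩⟩
  have key : ∀ v : (Fin 0 ⊕ Fin 0) ⊕ Fin 2 → F, Cfsg.quadFormMinus 0 F a b v = 0 → v = 0 := by
    intro v hv
    unfold Cfsg.quadFormMinus at hv
    simp only [Finset.univ_eq_empty, Finset.sum_empty, zero_add] at hv
    have := hab _ _ hv
    ext j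
    rcases j with (j | j) | j
    · exact j.elim0
    · exact j.elim0
    · revert j
      rw [Fin.forall_fin_two]
      exact this
  rintro ⟨v, hv⟩ ⟨w, hw⟩
  apply Subtype.ext
  exact (key v hv).trans (key w hw).symm

theorem NMinus_closed [Fintype F] (a b : F)
    (hab : ∀ z₁ z₂ : F, z₁ ^ 2 + a * z₁ * z₂ + b * z₂ ^ 2 = 0 → z₁ = 0 ∧ z₂ = 0) (k : ℕ) :
    Fintype.card F * NMinus F a b k + Fintype.card F ^ (k + 2) =
      Fintype.card F ^ (2 * k + 2) + Fintype.card F ^ (k + 1) := by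
  have hq : 1 ≤ Fintype.card F := Fintype.card_pos
  obtain ⟨q, hq'⟩ : ∃ q, Fintype.card F = q + 1 := ⟨Fintype.card F - 1, by omega⟩
  induction k with
  | zero => rw [NMinus_zero a b hab]; simp; ring
  | succ k ih =>
    rw [NMinus_succ, hq'] at *
    simp only [Nat.add_sub_cancel] at *
    have e1 : (q + 1) ^ (2 * (k + 1) + 2) = (q + 1) ^ (2 * k + 2) * (q + 1) ^ 2 := by
      rw [← pow_add]; congr 1
    have e2 : (q + 1) ^ (k + 1 + 2) = (q + 1) ^ (k + 2) * (q + 1) := pow_succ _ _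
    have e3 : (q + 1) ^ (k + 1 + 1) = (q + 1) ^ (k + 1) * (q + 1) := pow_succ _ _
    have e4 : (q + 1) ^ (k + 2) = (q + 1) ^ (k + 1) * (q + 1) := pow_succ _ _
    rw [e1, e2, e3]
    try rw [e4] at ih
    nlinarith [ih]

end Cfsg.Agent.Lib.Helper4_Count1

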