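import Mathlib
import Cfsg.Prelude.Def_Classical
import Cfsg.Agent.Lib.Helper4_Count1

set_option autoImplicit false

namespace Cfsg.Agent.Lib.Helper4_Count2

open Cfsg.Agent.Lib.Helper4_Count1

variable {F : Type*} [Field F]

theorem aniso_of_irr (ζ : F) (hζ : ∀ t : F, t ^ 2 + t + ζ ≠ 0) :
    ∀ z₁ z₂ : F, z₁ ^ 2 + 1 * z₁ * z₂ + ζ * z₂ ^ 2 = 0 → z₁ = 0 ∧ z₂ = 0 := by
  intro z₁ z₂ h
  by_cases hz : z₂ = 0
  · rw [hz] at h
    have : z₁ ^ 2 = 0 := by linear_combination h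
    exact ⟨pow_eq_zero_iff (two_ne_zero) |>.mp this, hz⟩
  · exfalso
    apply hζ (z₁ / z₂)
    field_simp
    linear_combination h

theorem not_isometric [Finite F] {m : ℕ} (hm : 1 ≤ m) (ζ : F) (hζ : ∀ t : F, t ^ 2 + t + ζ ≠ 0)
    (g : (Fin m ⊕ Fin m → F) ≃ₗ[F] ((Fin (m - 1) ⊕ Fin (m - 1)) ⊕ Fin 2 → F)) :
    ¬ (∀ v : Fin m ⊕ Fin m → F,
      Cfsg.quadFormMinus (m - 1) F 1 ζ (g v) = Cfsg.quadFormPlus m F v) := by
  intro h
  have : Fintype F := Fintype.ofFinite F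
  have hab := aniso_of_irr ζ hζ
  obtain ⟨k, rfl⟩ : ∃ k, m = k + 1 := ⟨m - 1, by omega⟩
  have e : {v : Fin (k + 1) ⊕ Fin (k + 1) → F // Cfsg.quadFormPlus (k + 1) F v = 0} ≃
      {w : (Fin (k + 1 - 1) ⊕ Fin (k + 1 - 1)) ⊕ Fin 2 → F //
        Cfsg.quadFormMinus (k + 1 - 1) F 1 ζ w = 0} :=
    g.toEquiv.subtypeEquiv (fun v => by
      show Cfsg.quadFormPlus (k + 1) F v = 0 ↔ Cfsg.quadFormMinus (k + 1 - 1) F 1 ζ (g v) = 0
      rw [h v])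
  have hN : NPlus F (k + 1) = NMinus F 1 ζ k := Nat.card_congr e
  have c1 := NPlus_closed (F := F) (k + 1)
  have c2 := NMinus_closed (F := F) 1 ζ hab k
  rw [← hN] at c2
  have e1 : 2 * k + 2 = 2 * (k + 1) := by ring
  have e2 : k + 1 + 1 = k + 2 := by ring
  rw [e1] at c2
  rw [e2] at c1
  have hpow : Fintype.card F ^ (k + 1) = Fintype.card F ^ (k + 2) := by omega
  have hq : 1 < Fintype.card F := Fintype.one_lt_card
  have := Nat.pow_lt_pow_right hq (show k + 1 < k + 2 by omega)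
  omega

end Cfsg.Agent.Lib.Helper4_Count2
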