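import Mathlib

namespace Cfsg.Agent.Lib.Helper4_CoxeterA

open Equiv

/-- the Coxeter relations for adjacent transpositions -/
theorem liftable_swap (n : ℕ) :
    (CoxeterMatrix.A n).IsLiftable (fun i : Fin n => swap i.castSucc i.succ) := by
  intro i j
  show (swap i.castSucc i.succ * swap j.castSucc j.succ) ^ (CoxeterMatrix.A n).M i j = 1
  have hM : (CoxeterMatrix.A n).M i j = if i = j then 1
      else (if (j : ℕ) + 1 = i ∨ (i : ℕ) + 1 = j then 3 else 2) := rfl
  rw [hM]
  by_cases hij : i = j
  · subst hij
    rw [if_pos rfl, pow_one, swap_mul_self]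
  · rw [if_neg hij]
    by_cases hadj : (j : ℕ) + 1 = i ∨ (i : ℕ) + 1 = j
    · rw [if_pos hadj]
      rcases hadj with h | h
      · -- i = j+1: swap (j+1) (j+2) * swap j (j+1)
        have e1 : i.castSucc = j.succ := by
          apply Fin.ext; simp [← h]
        rw [e1]
        have hne1 : j.castSucc ≠ j.succ := (Fin.castSucc_lt_succ).ne
        have hne2 : j.castSucc ≠ i.succ := by
          intro h'
          have := congrArg Fin.val h'
          simp at this; omega
        have hne3 : j.succ ≠ i.succ := by
          intro h'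
          exact hij (Fin.succ_injective _ h').symm
        have key := swap_mul_swap_mul_swap hne1 hne2
        -- key : swap j.succ i.succ * swap j.castSucc j.succ * swap j.succ i.succ = swap i.succ j.castSucc
        have key2 : swap j.castSucc j.succ * swap j.succ i.succ * swap j.castSucc j.succ =
            swap i.succ j.castSucc := by
          have := swap_mul_swap_mul_swap (x := i.succ) (y := j.succ) (z := j.castSucc) hne3.symm hne2.symm
          rw [swap_comm j.succ j.castSucc, swap_comm i.succ j.succ, swap_comm j.castSucc i.succ] at this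
          exact this
        calc (swap j.succ i.succ * swap j.castSucc j.succ) ^ 3
            = (swap j.succ i.succ * swap j.castSucc j.succ * swap j.succ i.succ) *
              (swap j.castSucc j.succ * swap j.succ i.succ * swap j.castSucc j.succ) := by
              simp only [pow_succ, pow_zero, one_mul, mul_assoc]
          _ = 1 := by rw [key, key2, swap_mul_self]
      · have e1 : j.castSucc = i.succ := by
          apply Fin.ext; simp [← h]
        rw [e1]
        have hne1 : i.castSucc ≠ i.succ := (Fin.castSucc_lt_succ).ne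
        have hne2 : i.castSucc ≠ j.succ := by
          intro h'
          have := congrArg Fin.val h'
          simp at this; omega
        have hne3 : i.succ ≠ j.succ := by
          intro h'
          exact hij (Fin.succ_injective _ h')
        have key := swap_mul_swap_mul_swap hne1 hne2
        have key2 : swap i.castSucc i.succ * swap i.succ j.succ * swap i.castSucc i.succ =
            swap j.succ i.castSucc := by
          have := swap_mul_swap_mul_swap (x := j.succ) (y := i.succ) (z := i.castSucc) hne3.symm hne2.symm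
          rw [swap_comm i.succ i.castSucc, swap_comm j.succ i.succ, swap_comm i.castSucc j.succ] at this
          exact this
        calc (swap i.castSucc i.succ * swap i.succ j.succ) ^ 3
            = (swap i.castSucc i.succ * swap i.succ j.succ * swap i.castSucc i.succ) *
              (swap i.succ j.succ * swap i.castSucc i.succ * swap i.succ j.succ) := by
              simp only [pow_succ, pow_zero, one_mul, mul_assoc]
          _ = 1 := by rw [key2, key, swap_mul_self]
    · rw [if_neg hadj]
      rw [not_or] at hadj
      have hd : Equiv.Perm.Disjoint (swap i.castSucc i.succ) (swap j.castSucc j.succ) := by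
        apply Equiv.Perm.disjoint_swap_swap
        have hij' : (i : ℕ) ≠ j := fun h => hij (Fin.ext h)
        simp only [List.nodup_cons, List.mem_cons, List.not_mem_nil, or_false, not_or,
          List.nodup_nil, and_true]
        refine ⟨⟨?_, ?_, ?_⟩, ⟨?_, ?_⟩, ?_, not_false⟩
        · exact (Fin.castSucc_lt_succ).ne
        · intro h; exact hij' (by simpa using congrArg Fin.val h)
        · intro h; have := congrArg Fin.val h; simp at this; omega
        · intro h; have := congrArg Fin.val h; simp at this; omega
        · intro h; exact hij (Fin.succ_injective _ h)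
        · exact (Fin.castSucc_lt_succ).ne
      have hc := hd.commute.eq
      calc (swap i.castSucc i.succ * swap j.castSucc j.succ) ^ 2
          = swap i.castSucc i.succ * (swap j.castSucc j.succ * swap i.castSucc i.succ) *
            swap j.castSucc j.succ := by simp only [pow_succ, pow_zero, one_mul, mul_assoc]
        _ = 1 := by
            rw [← hc, ← mul_assoc, swap_mul_self, one_mul, swap_mul_self]

/-- the canonical Coxeter system of type A -/
noncomputable def csA (n : ℕ) : CoxeterSystem (CoxeterMatrix.A n) (CoxeterMatrix.A n).Group :=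
  (CoxeterMatrix.A n).toCoxeterSystem

/-- total generator function -/
noncomputable def sN (n : ℕ) (j : ℕ) : (CoxeterMatrix.A n).Group :=
  if h : j < n then (csA n).simple ⟨j, h⟩ else 1

theorem sN_of_lt (n j : ℕ) (h : j < n) : sN n j = (csA n).simple ⟨j, h⟩ := by
  unfold sN; rw [dif_pos h]

theorem sN_of_ge (n j : ℕ) (h : ¬ j < n) : sN n j = 1 := by
  unfold sN; rw [dif_neg h]

theorem M_apply (n : ℕ) (i j : Fin n) : (CoxeterMatrix.A n).M i j = if i = j then 1
    else (if (j : ℕ) + 1 = i ∨ (i : ℕ) + 1 = j then 3 else 2) := rfl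

theorem R1 (n j : ℕ) : sN n j * sN n j = 1 := by
  by_cases h : j < n
  · rw [sN_of_lt n j h]; exact (csA n).simple_mul_simple_self _
  · rw [sN_of_ge n j h, mul_one]

theorem comm_of_sq {G : Type*} [Group G] {a b : G} (h1 : a * a = 1) (h2 : b * b = 1)
    (h : (a * b) ^ 2 = 1) : a * b = b * a := by
  rw [pow_two] at h
  have e1 : b * a * b = a := by
    calc b * a * b = (a * a) * (b * a * b) := by rw [h1, one_mul]
      _ = a * (a * b * (a * b)) := by group
      _ = a := by rw [h, mul_one]
  calc a * b = (b * b) * (a * b) := by rw [h2, one_mul]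
    _ = b * (b * a * b) := by group
    _ = b * a := by rw [e1]

theorem braid_of_cube {G : Type*} [Group G] {a b : G} (h1 : a * a = 1) (h2 : b * b = 1)
    (h : (a * b) ^ 3 = 1) : a * b * a = b * a * b := by
  have e : (a * b * a) * (b * a * b) = 1 := by
    rw [← h]; simp only [pow_succ, pow_zero, one_mul, mul_assoc]
  have e2 : (b * a * b) * (b * a * b) = 1 := by
    calc (b * a * b) * (b * a * b) = b * a * (b * b) * a * b := by group
      _ = b * (a * a) * b := by rw [h2]; group
      _ = 1 := by rw [h1, mul_one, h2]
  calc a * b * a = (a * b * a) * ((b * a * b) * (b * a * b)) := by rw [e2, mul_one]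
    _ = ((a * b * a) * (b * a * b)) * (b * a * b) := by group
    _ = b * a * b := by rw [e, one_mul]

theorem R2 (n i j : ℕ) (hij : i + 2 ≤ j) : sN n i * sN n j = sN n j * sN n i := by
  by_cases hj : j < n
  · have hi : i < n := by omega
    rw [sN_of_lt n j hj, sN_of_lt n i hi]
    have h := (csA n).simple_mul_simple_pow ⟨i, hi⟩ ⟨j, hj⟩
    have hM : (CoxeterMatrix.A n).M ⟨i, hi⟩ ⟨j, hj⟩ = 2 := by
      rw [M_apply, if_neg (by intro h; have := congrArg Fin.val h; simp at this; omega),
        if_neg (by simp; omega)]
    have hM' : (CoxeterMatrix.A n) ⟨i, hi⟩ ⟨j, hj⟩ = 2 := hM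
    rw [hM'] at h
    exact comm_of_sq ((csA n).simple_mul_simple_self _) ((csA n).simple_mul_simple_self _) h
  · rw [sN_of_ge n j hj, mul_one, one_mul]

theorem R3 (n i : ℕ) (hi : i + 1 < n) :
    sN n i * sN n (i + 1) * sN n i = sN n (i + 1) * sN n i * sN n (i + 1) := by
  have hi' : i < n := by omega
  rw [sN_of_lt n i hi', sN_of_lt n (i + 1) hi]
  have h := (csA n).simple_mul_simple_pow ⟨i, hi'⟩ ⟨i + 1, hi⟩
  have hM : (CoxeterMatrix.A n).M ⟨i, hi'⟩ ⟨i + 1, hi⟩ = 3 := by
    rw [M_apply, if_neg (by intro h; have := congrArg Fin.val h; simp at this),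
      if_pos (by simp)]
  have hM' : (CoxeterMatrix.A n) ⟨i, hi'⟩ ⟨i + 1, hi⟩ = 3 := hM
  rw [hM'] at h
  exact braid_of_cube ((csA n).simple_mul_simple_self _) ((csA n).simple_mul_simple_self _) h

/-- ascending products -/
noncomputable def vv (n : ℕ) : ℕ → (CoxeterMatrix.A n).Group
  | 0 => 1
  | d + 1 => vv n d * sN n d

theorem vv_zero (n : ℕ) : vv n 0 = 1 := rfl
theorem vv_succ (n d : ℕ) : vv n (d + 1) = vv n d * sN n d := rfl

theorem comm_v (n : ℕ) (d j : ℕ) (h : d < j) : vv n d * sN n j = sN n j * vv n d := by
  induction d with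
  | zero => rw [vv_zero, one_mul, mul_one]
  | succ d ih =>
    rw [vv_succ, mul_assoc, R2 n d j (by omega), ← mul_assoc, ih (by omega), mul_assoc]

theorem braid_v (n : ℕ) (j : ℕ) (hj : j + 1 < n) (d : ℕ) (hd : j + 2 ≤ d) :
    vv n d * sN n j = sN n (j + 1) * vv n d := by
  induction d, hd using Nat.le_induction with
  | base =>
    rw [vv_succ, vv_succ]
    calc vv n j * sN n j * sN n (j + 1) * sN n j
        = vv n j * (sN n j * sN n (j + 1) * sN n j) := by group
      _ = vv n j * (sN n (j + 1) * sN n j * sN n (j + 1)) := by rw [R3 n j hj]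
      _ = (vv n j * sN n (j + 1)) * sN n j * sN n (j + 1) := by group
      _ = sN n (j + 1) * (vv n j * sN n j * sN n (j + 1)) := by
          rw [comm_v n j (j + 1) (by omega)]; group
  | succ d hd ih =>
    rw [vv_succ, mul_assoc, ← R2 n j d hd, ← mul_assoc, ih, mul_assoc]

theorem iota_liftable (n : ℕ) :
    (CoxeterMatrix.A n).IsLiftable (fun i : Fin n => (csA (n + 1)).simple i.succ) := by
  intro i j
  have h := (csA (n + 1)).simple_mul_simple_pow i.succ j.succ
  have hM : (CoxeterMatrix.A (n + 1)).M i.succ j.succ = (CoxeterMatrix.A n).M i j := by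
    rw [M_apply, M_apply]
    simp only [Fin.succ_inj, Fin.val_succ, add_left_inj]
  have hM' : (CoxeterMatrix.A (n + 1)) i.succ j.succ = (CoxeterMatrix.A n) i j := hM
  rw [hM'] at h
  exact h

/-- the parabolic embedding shifting indices by one -/
noncomputable def iota (n : ℕ) : (CoxeterMatrix.A n).Group →* (CoxeterMatrix.A (n + 1)).Group :=
  (csA n).lift ⟨_, iota_liftable n⟩

theorem iota_simple (n : ℕ) (i : Fin n) : iota n ((csA n).simple i) = (csA (n + 1)).simple i.succ :=
  CoxeterSystem.lift_apply_simple (csA n) (iota_liftable n) i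

theorem sN_succ_mem (n j : ℕ) : sN (n + 1) (j + 1) ∈ (iota n).range := by
  by_cases h : j < n
  · rw [sN_of_lt (n + 1) (j + 1) (by omega)]
    refine ⟨(csA n).simple ⟨j, h⟩, ?_⟩
    rw [iota_simple]
    rfl
  · rw [sN_of_ge (n + 1) (j + 1) (by omega)]
    exact one_mem _

theorem exists_decomp (n : ℕ) (w : (CoxeterMatrix.A (n + 1)).Group) :
    ∃ h ∈ (iota n).range, ∃ d : ℕ, d ≤ n + 1 ∧ w = h * vv (n + 1) d := by
  induction w using (csA (n + 1)).simple_induction_right with
  | one => exact ⟨1, one_mem _, 0, by omega, by rw [vv_zero, mul_one]⟩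
  | mul_simple_right w i ih =>
    obtain ⟨h, hh, d, hd, rfl⟩ := ih
    have hi : (csA (n + 1)).simple i = sN (n + 1) (i : ℕ) := by
      rw [sN_of_lt (n + 1) i i.2]
    rw [hi]
    set j := (i : ℕ) with hj
    have hjn : j < n + 1 := i.2
    rcases lt_trichotomy d j with hlt | heq | hgt
    · -- d < j
      obtain ⟨j', hj'⟩ : ∃ j', j = j' + 1 := ⟨j - 1, by omega⟩
      refine ⟨h * sN (n + 1) j, mul_mem hh (by rw [hj']; exact sN_succ_mem n j'), d, hd, ?_⟩
      rw [mul_assoc, comm_v (n + 1) d j hlt, mul_assoc]
    · -- d = j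
      refine ⟨h, hh, d + 1, by omega, ?_⟩
      rw [vv_succ, heq, mul_assoc]
    · by_cases h1 : j + 1 = d
      · refine ⟨h, hh, j, by omega, ?_⟩
        rw [← h1, vv_succ, mul_assoc, mul_assoc, R1, mul_one]
      · have h2 : j + 2 ≤ d := by omega
        refine ⟨h * sN (n + 1) (j + 1), mul_mem hh (sN_succ_mem n j), d, hd, ?_⟩
        rw [mul_assoc, braid_v (n + 1) j (by omega) d h2, mul_assoc]

theorem card_bound (n : ℕ) :
    Finite (CoxeterMatrix.A n).Group ∧ Nat.card (CoxeterMatrix.A n).Group ≤ (n + 1).factorial := by
  induction n with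
  | zero =>
    have hall : ∀ w : (CoxeterMatrix.A 0).Group, w = 1 := by
      intro w
      induction w using (csA 0).simple_induction with
      | simple i => exact i.elim0
      | one => rfl
      | mul w w' hw hw' => rw [hw, hw', mul_one]
    haveI : Subsingleton (CoxeterMatrix.A 0).Group := ⟨fun a b => by rw [hall a, hall b]⟩
    refine ⟨inferInstance, ?_⟩
    rw [Nat.card_unique]
    simp
  | succ n ih =>
    obtain ⟨hfin, hcard⟩ := ih
    haveI := hfin
    let g : (iota n).range × Fin (n + 2) → (CoxeterMatrix.A (n + 1)).Group :=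
      fun p => p.1.1 * vv (n + 1) p.2
    have hg : Function.Surjective g := by
      intro w
      obtain ⟨h, hh, d, hd, rfl⟩ := exists_decomp n w
      exact ⟨(⟨h, hh⟩, ⟨d, by omega⟩), rfl⟩
    haveI : Finite (iota n).range :=
      Finite.of_surjective (iota n).rangeRestrict (iota n).rangeRestrict_surjective
    haveI : Finite (CoxeterMatrix.A (n + 1)).Group := Finite.of_surjective g hg
    refine ⟨inferInstance, ?_⟩
    have h1 := Nat.card_le_card_of_surjective g hg
    rw [Nat.card_prod, Nat.card_eq_fintype_card (α := Fin (n + 2)), Fintype.card_fin] at h1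
    have h2 : Nat.card (iota n).range ≤ Nat.card (CoxeterMatrix.A n).Group :=
      Nat.card_le_card_of_surjective (iota n).rangeRestrict (iota n).rangeRestrict_surjective
    calc Nat.card (CoxeterMatrix.A (n + 1)).Group ≤ Nat.card (iota n).range * (n + 2) := h1
      _ ≤ (n + 1).factorial * (n + 2) := Nat.mul_le_mul_right _ (h2.trans hcard)
      _ = (n + 1 + 1).factorial := by rw [Nat.factorial_succ (n + 1)]; ring

/-- the hom to the symmetric group -/
noncomputable def psi (n : ℕ) : (CoxeterMatrix.A n).Group →* Equiv.Perm (Fin (n + 1)) :=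
  (csA n).lift ⟨_, liftable_swap n⟩

theorem psi_simple (n : ℕ) (i : Fin n) :
    psi n ((csA n).simple i) = swap i.castSucc i.succ :=
  CoxeterSystem.lift_apply_simple (csA n) (liftable_swap n) i

theorem psi_surjective (n : ℕ) : Function.Surjective (psi n) := by
  rw [← MonoidHom.mrange_eq_top]
  apply top_unique
  rw [← Equiv.Perm.mclosure_swap_castSucc_succ n, Submonoid.closure_le]
  rintro _ ⟨i, rfl⟩
  exact ⟨(csA n).simple i, psi_simple n i⟩

theorem psi_bijective (n : ℕ) : Function.Bijective (psi n) := by
  obtain ⟨hfin, hcard⟩ := card_bound n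
  haveI := hfin
  haveI := Fintype.ofFinite (CoxeterMatrix.A n).Group
  rw [Fintype.bijective_iff_surjective_and_card]
  refine ⟨psi_surjective n, ?_⟩
  apply le_antisymm
  · rw [← Nat.card_eq_fintype_card, Fintype.card_perm, Fintype.card_fin]
    exact hcard
  · exact Fintype.card_le_of_surjective _ (psi_surjective n)

theorem S2530_main (n : ℕ) :
    ∃ cs : CoxeterSystem (CoxeterMatrix.A n) (Equiv.Perm (Fin (n + 1))), ∀ i : Fin n, cs.simple i = Equiv.swap i.castSucc i.succ := by
  let e : (CoxeterMatrix.A n).Group ≃* Equiv.Perm (Fin (n + 1)) :=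
    MulEquiv.ofBijective (psi n) (psi_bijective n)
  refine ⟨⟨e.symm⟩, ?_⟩
  intro i
  show e.symm.symm (PresentedGroup.of i) = _
  rw [MulEquiv.symm_symm]
  exact psi_simple n i

end Cfsg.Agent.Lib.Helper4_CoxeterA
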