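import Mathlib

set_option autoImplicit false

namespace Cfsg.Agent.Lib.Helper4_CycCent0

open Polynomial

variable {F : Type*} [Field F]

theorem minpoly_irr [Fintype F] {p q : ℕ} [Fact p.Prime] [CharP F p]
    (hF : Fintype.card F = q) {n r : ℕ} (hr : r.Prime) (hrp : r ≠ p)
    (hi : orderOf (q : ZMod r) = n) (M : Matrix (Fin n) (Fin n) F) (hM : M ^ r = 1)
    (hM1 : M ≠ 1) : Irreducible (minpoly F M) ∧ (minpoly F M).natDegree = n := by
  have : Fact r.Prime := ⟨hr⟩
  have hint : IsIntegral F M := Matrix.isIntegral M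
  set μ := minpoly F M with hμ
  have hμ0 : μ ≠ 0 := minpoly.ne_zero hint
  have hdvd : μ ∣ cyclotomic r F * (X - 1) := by
    rw [cyclotomic_prime_mul_X_sub_one]
    apply minpoly.dvd
    simp [hM]
  have hncop : ¬ IsCoprime μ (cyclotomic r F) := by
    intro hc
    have h1 : μ ∣ X - 1 := hc.dvd_of_dvd_mul_left hdvd
    obtain ⟨c, hc'⟩ := h1
    have h2 : aeval M (X - 1 : F[X]) = 0 := by
      rw [hc', map_mul, hμ, minpoly.aeval, zero_mul]
    apply hM1
    simpa [sub_eq_zero] using h2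
  have hex : ∃ P : F[X], Irreducible P ∧ P ∣ μ ∧ P ∣ cyclotomic r F := by
    by_contra hcon
    push Not at hcon
    apply hncop
    apply isCoprime_of_irreducible_dvd
    · rintro ⟨h, _⟩; exact hμ0 h
    · intro z hz hzμ hzc
      exact hcon z hz hzμ hzc
  obtain ⟨P, hPirr, hPμ, hPc⟩ := hex
  obtain ⟨f, hp, hcard⟩ := FiniteField.card F p
  have hcop : p.Coprime r := (Nat.coprime_primes hp hr).mpr (Ne.symm hrp)
  have hdeg := natDegree_of_dvd_cyclotomic_of_irreducible (f := (f : ℕ)) hcard hcop hPc hPirr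
  have hq : q = p ^ (f : ℕ) := by rw [← hF, hcard]
  have hord : orderOf (ZMod.unitOfCoprime (p ^ (f : ℕ)) (hcop.pow_left f)) = n := by
    rw [← orderOf_units, ZMod.coe_unitOfCoprime, ← hq]
    exact hi
  rw [hord] at hdeg
  have hle : μ.natDegree ≤ n := by
    have h1 := Matrix.minpoly_dvd_charpoly M
    have h2 := natDegree_le_of_dvd h1 (Matrix.charpoly_monic M).ne_zero
    rw [Matrix.charpoly_natDegree_eq_dim, Fintype.card_fin] at h2
    exact h2
  obtain ⟨c, hc⟩ := hPμ
  have hc0 : c ≠ 0 := by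
    intro h; rw [h, mul_zero] at hc; exact hμ0 hc
  have hdegμ : μ.natDegree = P.natDegree + c.natDegree := by
    rw [hc, natDegree_mul hPirr.ne_zero hc0]
  have hcdeg : c.natDegree = 0 := by omega
  have hcunit : IsUnit c := by
    rw [natDegree_eq_zero] at hcdeg
    obtain ⟨a, rfl⟩ := hcdeg
    have ha : a ≠ 0 := by
      intro h; apply hc0; rw [h, map_zero]
    exact (isUnit_C.mpr (IsUnit.mk0 a ha))
  constructor
  · rw [hc]
    exact (irreducible_mul_isUnit hcunit).mpr hPirr
  · omega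

end Cfsg.Agent.Lib.Helper4_CycCent0
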