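import Mathlib

set_option autoImplicit false

namespace Cfsg.Agent.Lib.Helper4_CycCent1

open Polynomial Module

variable {F : Type*} [Field F] {n : ℕ}

theorem K1 (M : Matrix (Fin n) (Fin n) F) (hirr : Irreducible (minpoly F M))
    (hdeg : (minpoly F M).natDegree = n) (g : F[X]) (hg : g ≠ 0) (hgd : g.natDegree < n)
    (v : Fin n → F) (hv : (aeval M g).mulVec v = 0) : v = 0 := by
  have hnd : ¬ minpoly F M ∣ g := by
    intro h
    have := natDegree_le_of_dvd h hg
    omega
  obtain ⟨a, b, hab⟩ := (hirr.coprime_iff_not_dvd).mpr hnd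
  have h1 := congrArg (aeval M) hab
  rw [map_add, map_mul, map_mul, minpoly.aeval, mul_zero, zero_add, map_one] at h1
  have h2 : (aeval M b * aeval M g).mulVec v = v := by rw [h1, Matrix.one_mulVec]
  rw [← Matrix.mulVec_mulVec, hv, Matrix.mulVec_zero] at h2
  exact h2.symm

theorem K2 (M : Matrix (Fin n) (Fin n) F) (hirr : Irreducible (minpoly F M))
    (hdeg : (minpoly F M).natDegree = n) (v : Fin n → F) (hv : v ≠ 0) (u : Fin n → F) :
    ∃ g : F[X], (aeval M g).mulVec v = u := by
  set Φ : degreeLT F n →ₗ[F] (Fin n → F) :=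
    { toFun := fun g => (aeval M g.1).mulVec v
      map_add' := fun g h => by
        show (aeval M (g.1 + h.1)).mulVec v = _
        rw [map_add, Matrix.add_mulVec]
      map_smul' := fun c g => by
        show (aeval M (c • g.1)).mulVec v = _
        rw [map_smul, Matrix.smul_mulVec]
        rfl } with hΦ
  have hΦapp : ∀ g : degreeLT F n, Φ g = (aeval M g.1).mulVec v := fun g => rfl
  have hinj : Function.Injective Φ := by
    rw [← LinearMap.ker_eq_bot, LinearMap.ker_eq_bot']
    intro g hg
    by_contra hg0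
    have hg0' : g.1 ≠ 0 := fun h => hg0 (Subtype.ext h)
    have hd : g.1.natDegree < n := by
      rw [natDegree_lt_iff_degree_lt hg0']
      exact mem_degreeLT.mp g.2
    exact hv (K1 M hirr hdeg g.1 hg0' hd v (by rw [← hΦapp]; exact hg))
  have : FiniteDimensional F (degreeLT F n) :=
    LinearEquiv.finiteDimensional (degreeLTEquiv F n).symm
  have hfin : finrank F (degreeLT F n) = finrank F (Fin n → F) :=
    LinearEquiv.finrank_eq (degreeLTEquiv F n)
  have hsurj := (LinearMap.injective_iff_surjective_of_finrank_eq_finrank hfin).mp hinj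
  obtain ⟨g, hg⟩ := hsurj u
  exact ⟨g.1, hg⟩

theorem commute_aeval (M X : Matrix (Fin n) (Fin n) F) (hX : X * M = M * X) (g : F[X]) :
    X * aeval M g = aeval M g * X := by
  induction g using Polynomial.induction_on with
  | C a =>
    rw [aeval_C]
    exact (Algebra.commutes a X).symm
  | add p q hp hq => rw [map_add, mul_add, add_mul, hp, hq]
  | monomial k a ih =>
    rw [map_mul, aeval_C, map_pow, aeval_X] at ih ⊢
    have hc : Commute X M := hX
    have h1 : Commute X (M ^ (k + 1)) := hc.pow_right _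
    have h2 : Commute X (algebraMap F (Matrix (Fin n) (Fin n) F) a) :=
      (Algebra.commutes a X).symm
    exact (h2.mul_right h1).eq

theorem K3 (M : Matrix (Fin n) (Fin n) F) (hirr : Irreducible (minpoly F M))
    (hdeg : (minpoly F M).natDegree = n) (X : Matrix (Fin n) (Fin n) F) (hX : X * M = M * X)
    (hX0 : X ≠ 0) : IsUnit X := by
  rw [Matrix.isUnit_iff_isUnit_det, isUnit_iff_ne_zero]
  intro hdet
  obtain ⟨w, hw0, hw⟩ := Matrix.exists_mulVec_eq_zero_iff.mpr hdet
  apply hX0
  have hall : ∀ u, X.mulVec u = 0 := by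
    intro u
    obtain ⟨g, rfl⟩ := K2 M hirr hdeg w hw0 u
    rw [Matrix.mulVec_mulVec, commute_aeval M X hX g, ← Matrix.mulVec_mulVec, hw,
      Matrix.mulVec_zero]
  apply Matrix.toLin'.injective
  apply LinearMap.ext
  intro v
  rw [Matrix.toLin'_apply, hall v]
  simp

end Cfsg.Agent.Lib.Helper4_CycCent1
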