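import Mathlib
import Cfsg.Agent.Lib.Helper4_CycCent0
import Cfsg.Agent.Lib.Helper4_CycCent1

set_option autoImplicit false

namespace Cfsg.Agent.Lib.Helper4_CycCent2

open Polynomial Module Cfsg.Agent.Lib.Helper4_CycCent0 Cfsg.Agent.Lib.Helper4_CycCent1

variable {F : Type*} [Field F] {n : ℕ}

/-- every commuting matrix is a polynomial in `M` -/
theorem K4 (hn : 1 ≤ n) (M : Matrix (Fin n) (Fin n) F) (hirr : Irreducible (minpoly F M))
    (hdeg : (minpoly F M).natDegree = n) (X : Matrix (Fin n) (Fin n) F) (hX : X * M = M * X) :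
    ∃ g : F[X], X = aeval M g := by
  set v₀ : Fin n → F := Pi.single ⟨0, hn⟩ 1 with hv₀
  have hv₀0 : v₀ ≠ 0 := by
    intro h
    have := congrFun h ⟨0, hn⟩
    simp [hv₀] at this
  obtain ⟨g, hg⟩ := K2 M hirr hdeg v₀ hv₀0 (X.mulVec v₀)
  refine ⟨g, ?_⟩
  by_contra hne
  have hZ0 : X - aeval M g ≠ 0 := sub_ne_zero.mpr hne
  have hZc : (X - aeval M g) * M = M * (X - aeval M g) := by
    rw [sub_mul, mul_sub, hX]
    congr 1
    exact (commute_aeval M M rfl g).symm
  have hu := K3 M hirr hdeg _ hZc hZ0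
  have hinj := Matrix.mulVec_injective_of_isUnit hu
  apply hv₀0
  apply hinj
  rw [Matrix.sub_mulVec, hg, sub_self, Matrix.mulVec_zero]

theorem K4' (hn : 1 ≤ n) (M : Matrix (Fin n) (Fin n) F) (hirr : Irreducible (minpoly F M))
    (hdeg : (minpoly F M).natDegree = n) (X Y : Matrix (Fin n) (Fin n) F)
    (hX : X * M = M * X) (hY : Y * M = M * Y) : X * Y = Y * X := by
  obtain ⟨g, rfl⟩ := K4 hn M hirr hdeg X hX
  exact (commute_aeval M Y hY g).symm

theorem K5 [Fintype F] (hn : 1 ≤ n) (M : Matrix (Fin n) (Fin n) F)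
    (hirr : Irreducible (minpoly F M)) (hdeg : (minpoly F M).natDegree = n) :
    Nat.card {X : Matrix (Fin n) (Fin n) F // X * M = M * X} = Fintype.card F ^ n := by
  set v₀ : Fin n → F := Pi.single ⟨0, hn⟩ 1 with hv₀
  have hv₀0 : v₀ ≠ 0 := by
    intro h
    have := congrFun h ⟨0, hn⟩
    simp [hv₀] at this
  have hbij : Function.Bijective
      (fun X : {X : Matrix (Fin n) (Fin n) F // X * M = M * X} => X.1.mulVec v₀) := by
    constructor
    · rintro ⟨X, hX⟩ ⟨Y, hY⟩ h
      apply Subtype.ext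
      show X = Y
      by_contra hne
      have hZ0 : X - Y ≠ 0 := sub_ne_zero.mpr hne
      have hZc : (X - Y) * M = M * (X - Y) := by rw [sub_mul, mul_sub, hX, hY]
      have hu := K3 M hirr hdeg _ hZc hZ0
      have hinj := Matrix.mulVec_injective_of_isUnit hu
      apply hv₀0
      apply hinj
      rw [Matrix.sub_mulVec, Matrix.mulVec_zero, sub_eq_zero]
      exact h
    · intro u
      obtain ⟨g, hg⟩ := K2 M hirr hdeg v₀ hv₀0 u
      exact ⟨⟨aeval M g, (commute_aeval M M rfl g).symm⟩, hg⟩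
  rw [Nat.card_congr (Equiv.ofBijective _ hbij), Nat.card_eq_fintype_card, Fintype.card_fun,
    Fintype.card_fin]

end Cfsg.Agent.Lib.Helper4_CycCent2
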