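import Mathlib
import Cfsg.Agent.Lib.Helper4_CycCent2

set_option autoImplicit false

namespace Cfsg.Agent.Lib.Helper4_CycCent3

open Polynomial Module Cfsg.Agent.Lib.Helper4_CycCent0 Cfsg.Agent.Lib.Helper4_CycCent1
  Cfsg.Agent.Lib.Helper4_CycCent2

variable {F : Type*} [Field F] {n : ℕ}

theorem mem_cent (x g : GL (Fin n) F) :
    g ∈ Subgroup.centralizer ({x} : Set (GL (Fin n) F)) ↔
      (g : Matrix (Fin n) (Fin n) F) * (x : Matrix (Fin n) (Fin n) F) =
        (x : Matrix (Fin n) (Fin n) F) * (g : Matrix (Fin n) (Fin n) F) := by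
  rw [Subgroup.mem_centralizer_iff]
  simp only [Set.mem_singleton_iff, forall_eq]
  constructor
  · intro h
    have := congrArg (fun u : GL (Fin n) F => (u : Matrix (Fin n) (Fin n) F)) h
    simpa using this.symm
  · intro h
    apply Units.ext
    simpa using h.symm

theorem cyclic_part [Finite F] (hn : 1 ≤ n) (x : GL (Fin n) F)
    (hirr : Irreducible (minpoly F (x : Matrix (Fin n) (Fin n) F)))
    (hdeg : (minpoly F (x : Matrix (Fin n) (Fin n) F)).natDegree = n) :
    IsCyclic ↥(Subgroup.centralizer ({x} : Set (GL (Fin n) F))) := by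
  have : NeZero n := ⟨by omega⟩
  have : Fintype F := Fintype.ofFinite F
  set M : Matrix (Fin n) (Fin n) F := (x : Matrix (Fin n) (Fin n) F) with hM
  let R := Subalgebra.centralizer F ({M} : Set (Matrix (Fin n) (Fin n) F))
  have hRmem : ∀ X, X ∈ R ↔ X * M = M * X := by
    intro X
    rw [Subalgebra.mem_centralizer_iff]
    simp only [Set.mem_singleton_iff, forall_eq]
    exact eq_comm
  letI : CommRing R :=
    { (inferInstance : Ring R) with
      mul_comm := fun a b => Subtype.ext
        (K4' hn M hirr hdeg a.1 b.1 ((hRmem _).mp a.2) ((hRmem _).mp b.2)) }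
  haveI : Nontrivial R := ⟨⟨0, 1, fun h => by
    have := congrArg Subtype.val h
    exact zero_ne_one this⟩⟩
  haveI : NoZeroDivisors R := ⟨fun {a b} hab => by
    by_cases ha : a = 0
    · exact Or.inl ha
    · right
      have hu := K3 M hirr hdeg a.1 ((hRmem _).mp a.2) (fun h => ha (Subtype.ext h))
      have h1 : a.1 * b.1 = 0 := congrArg Subtype.val hab
      apply Subtype.ext
      show b.1 = 0
      exact (hu.mul_right_eq_zero).mp h1⟩
  haveI : IsDomain R := NoZeroDivisors.to_isDomain R
  let f : ↥(Subgroup.centralizer ({x} : Set (GL (Fin n) F))) →* R :=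
    { toFun := fun g => ⟨(g.1 : Matrix (Fin n) (Fin n) F), (hRmem _).mpr ((mem_cent x g.1).mp g.2)⟩
      map_one' := rfl
      map_mul' := fun a b => rfl }
  have hf : Function.Injective f := by
    intro a b hab
    apply Subtype.ext
    apply Units.ext
    exact congrArg Subtype.val hab
  exact isCyclic_of_injective_ringHom f hf


theorem card_part [Fintype F] (hn : 1 ≤ n) (x : GL (Fin n) F)
    (hirr : Irreducible (minpoly F (x : Matrix (Fin n) (Fin n) F)))
    (hdeg : (minpoly F (x : Matrix (Fin n) (Fin n) F)).natDegree = n) :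
    Nat.card ↥(Subgroup.centralizer ({x} : Set (GL (Fin n) F))) = Fintype.card F ^ n - 1 := by
  classical
  have : NeZero n := ⟨by omega⟩
  set M : Matrix (Fin n) (Fin n) F := (x : Matrix (Fin n) (Fin n) F) with hM
  have e : ↥(Subgroup.centralizer ({x} : Set (GL (Fin n) F))) ≃
      {X : {X : Matrix (Fin n) (Fin n) F // X * M = M * X} // ¬ (X.1 = 0)} :=
    { toFun := fun g => ⟨⟨(g.1 : Matrix (Fin n) (Fin n) F), (mem_cent x g.1).mp g.2⟩,
        (Units.isUnit g.1).ne_zero⟩
      invFun := fun X => ⟨(K3 M hirr hdeg X.1.1 X.1.2 X.2).unit, by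
        rw [mem_cent]
        exact X.1.2⟩
      left_inv := fun g => by
        apply Subtype.ext
        apply Units.ext
        rfl
      right_inv := fun X => by
        apply Subtype.ext
        apply Subtype.ext
        rfl }
  rw [Nat.card_congr e, Nat.card_eq_fintype_card, Fintype.card_subtype_compl,
    ← Nat.card_eq_fintype_card, K5 hn M hirr hdeg]
  congr 1
  rw [Fintype.card_eq_one_iff]
  refine ⟨⟨⟨0, by simp⟩, rfl⟩, ?_⟩
  rintro ⟨⟨X, hX⟩, h0⟩
  apply Subtype.ext
  apply Subtype.ext
  exact h0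

theorem main [Fintype F] {p q : ℕ} [Fact p.Prime] [CharP F p] (hF : Fintype.card F = q)
    {n r : ℕ} (hn : 1 ≤ n) (hr : r.Prime) (hrp : r ≠ p) (hi : orderOf (q : ZMod r) = n)
    (x : GL (Fin n) F) (hx : orderOf x = r) :
    IsCyclic ↥(Subgroup.centralizer ({x} : Set (GL (Fin n) F))) ∧
      Nat.card ↥(Subgroup.centralizer ({x} : Set (GL (Fin n) F))) = q ^ n - 1 := by
  have hM : (x : Matrix (Fin n) (Fin n) F) ^ r = 1 := by
    have := pow_orderOf_eq_one x
    rw [hx] at this
    have h2 := congrArg (fun u : GL (Fin n) F => (u : Matrix (Fin n) (Fin n) F)) this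
    simpa using h2
  have hM1 : (x : Matrix (Fin n) (Fin n) F) ≠ 1 := by
    intro h
    have hx1 : x = 1 := Units.ext h
    rw [hx1, orderOf_one] at hx
    exact hr.one_lt.ne hx
  obtain ⟨hirr, hdeg⟩ := minpoly_irr hF hr hrp hi _ hM hM1
  refine ⟨cyclic_part hn x hirr hdeg, ?_⟩
  rw [card_part hn x hirr hdeg, hF]

end Cfsg.Agent.Lib.Helper4_CycCent3
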