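import Mathlib
import Cfsg.Prelude.Def_Characters
import Cfsg.Prelude.Def_ParabolicCharacters
import Cfsg.Agent.Lib.Helper2_ClassFn
import Cfsg.Agent.Lib.Helper2_CharOrtho
import Cfsg.Agent.Lib.Helper2_CharInd
import Cfsg.Agent.Lib.Helper2_CharBasic
import Cfsg.Agent.Lib.Helper2_CharDeg
import Cfsg.Agent.Lib.Helper4_BorelInd
import Cfsg.Agent.Lib.Helper4_BorelInner
import Cfsg.Agent.Lib.Helper4_BorelIndGL
import Cfsg.Agent.Lib.Helper4_BorelInnerGL

namespace Cfsg.Agent.Lib.Helper4_GL2Fam
open Matrix Cfsg Cfsg.Agent.Lib.Helper2_ClassFn Cfsg.Agent.Lib.Helper2_CharOrtho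
  Cfsg.Agent.Lib.Helper2_CharBasic Cfsg.Agent.Lib.Helper2_CharDeg
  Cfsg.Agent.Lib.Helper4_BorelInd Cfsg.Agent.Lib.Helper4_BorelInner Cfsg.Agent.Lib.Helper4_BorelIndGL
  Cfsg.Agent.Lib.Helper4_BorelInnerGL
open scoped ComplexConjugate

variable {F : Type*} [Field F] [Fintype F] [DecidableEq F]

/-- principal series function -/
noncomputable def Rab (α β : MulChar F ℂ) : Matrix.GeneralLinearGroup (Fin 2) F → ℂ :=
  indFun (BG F) (fun b => α (((b : Matrix.GeneralLinearGroup (Fin 2) F) :
    Matrix (Fin 2) (Fin 2) F) 0 0) * β (((b : Matrix.GeneralLinearGroup (Fin 2) F) :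
    Matrix (Fin 2) (Fin 2) F) 1 1))

/-- linear character α ∘ det -/
noncomputable def lam (α : MulChar F ℂ) : Matrix.GeneralLinearGroup (Fin 2) F → ℂ :=
  fun g => α ((Matrix.GeneralLinearGroup.det g : Fˣ) : F)

omit [Fintype F] [DecidableEq F] in
theorem lam_irr (α : MulChar F ℂ) : IsIrrCharacter (Matrix.GeneralLinearGroup (Fin 2) F) (lam α) := by
  have := isIrrCharacter_of_hom (α.toUnitHom.comp
    (Matrix.GeneralLinearGroup.det : Matrix.GeneralLinearGroup (Fin 2) F →* Fˣ))
  convert this using 2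
  rw [MonoidHom.comp_apply, MulChar.coe_toUnitHom]
  rfl

omit [Fintype F] [DecidableEq F] in
theorem lam_one (α : MulChar F ℂ) : lam α 1 = 1 := by
  simp [lam]

theorem Rab_apply (α β : MulChar F ℂ) (g : Matrix.GeneralLinearGroup (Fin 2) F) :
    Rab α β g = bsum (fun x y => α x * β y) (g : Matrix (Fin 2) (Fin 2) F) := indFun_GL α β g

theorem Rab_one (α β : MulChar F ℂ) : Rab α β 1 = (Fintype.card F : ℂ) + 1 := by
  rw [Rab_apply, bsum_scalar _ _ (by simp) (by simp) (by simp)]
  simp

theorem Rab_char (α β : MulChar F ℂ) :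
    IsCharacter (Matrix.GeneralLinearGroup (Fin 2) F) (Rab α β) := isCharacter_indG α β

theorem Rab_irr (α β : MulChar F ℂ) (h : α ≠ β) :
    IsIrrCharacter (Matrix.GeneralLinearGroup (Fin 2) F) (Rab α β) := irr_indG α β h

theorem Rab_inner (α β α' β' : MulChar F ℂ) [Decidable (α = α' ∧ β = β')]
    [Decidable (α = β' ∧ β = α')] :
    classInner (Rab α β) (Rab α' β') =
      (if α = α' ∧ β = β' then 1 else 0) + (if α = β' ∧ β = α' then 1 else 0) :=
  inner_GL α β α' β'

theorem Rab_swap (α β : MulChar F ℂ) : Rab α β = Rab β α := indG_swap α β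

theorem Rab_eq_iff (α β α' β' : MulChar F ℂ) :
    Rab α β = Rab α' β' ↔ (α = α' ∧ β = β') ∨ (α = β' ∧ β = α') := indG_eq_iff α β α' β'

omit [Fintype F] [DecidableEq F] in
theorem lam_res (α : MulChar F ℂ) : (fun h : BG F => lam α h) =
    (fun b : BG F => α (((b : Matrix.GeneralLinearGroup (Fin 2) F) :
    Matrix (Fin 2) (Fin 2) F) 0 0) * α (((b : Matrix.GeneralLinearGroup (Fin 2) F) :
    Matrix (Fin 2) (Fin 2) F) 1 1)) := by
  ext b
  have h := (mem_BG _).mp b.2
  rw [lam, Matrix.GeneralLinearGroup.val_det_apply, Matrix.det_fin_two, h, mul_zero, sub_zero,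
    map_mul]

theorem inner_Rab_lam (α : MulChar F ℂ) : classInner (Rab α α) (lam α) = 1 := by
  letI : Fintype (BG F) := Fintype.ofFinite _
  rw [Rab, frobenius_reciprocity (BG F) _ _ (IsCharacter.isClassFunction
    (IsIrrCharacter.isCharacter (lam_irr α))), lam_res]
  exact classInner_irr_self (isIrr_thetaG α α)

/-- Steinberg twist -/
noncomputable def St (α : MulChar F ℂ) : Matrix.GeneralLinearGroup (Fin 2) F → ℂ :=
  Rab α α - lam α

theorem St_char (α : MulChar F ℂ) : IsCharacter (Matrix.GeneralLinearGroup (Fin 2) F) (St α) := by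
  apply IsCharacter.sub_constituent (Rab_char α α) (lam_irr α)
  rw [inner_Rab_lam]
  exact one_ne_zero

theorem St_irr (α : MulChar F ℂ) : IsIrrCharacter (Matrix.GeneralLinearGroup (Fin 2) F) (St α) := by
  classical
  apply IsCharacter.isIrr_of_norm_one (St_char α)
  have h1 := inner_Rab_lam α
  have h2 : classInner (lam α) (Rab α α) = 1 := by
    rw [← classInner_conj_symm, h1]; simp
  rw [St, classInner_sub_left, classInner_sub_right, classInner_sub_right, Rab_inner, h1, h2,
    classInner_irr_self (lam_irr α)]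
  simp

theorem St_one (α : MulChar F ℂ) : St α 1 = (Fintype.card F : ℂ) := by
  rw [St, Pi.sub_apply, Rab_one, lam_one]
  ring

theorem Rab_diag (α : MulChar F ℂ) : Rab α α = lam α + St α := by
  rw [St]; ring

/-- cuspidal: orthogonal to all principal series -/
def IsCusp (χ : Matrix.GeneralLinearGroup (Fin 2) F → ℂ) : Prop :=
  ∀ α β : MulChar F ℂ, classInner χ (Rab α β) = 0

theorem dichotomy (χ : Matrix.GeneralLinearGroup (Fin 2) F → ℂ)
    (hχ : IsIrrCharacter (Matrix.GeneralLinearGroup (Fin 2) F) χ) :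
    (∃ α, χ = lam α) ∨ (∃ α, χ = St α) ∨ (∃ α β, α ≠ β ∧ χ = Rab α β) ∨ IsCusp χ := by
  classical
  by_cases h : IsCusp χ
  · right; right; right; exact h
  · unfold IsCusp at h
    push Not at h
    obtain ⟨α, β, hne⟩ := h
    by_cases hab : α = β
    · subst hab
      rw [Rab_diag, classInner_add_right, classInner_irr hχ (lam_irr α),
        classInner_irr hχ (St_irr α)] at hne
      by_cases h1 : χ = lam α
      · left; exact ⟨α, h1⟩
      · by_cases h2 : χ = St α
        · right; left; exact ⟨α, h2⟩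
        · rw [if_neg h1, if_neg h2] at hne
          simp at hne
    · rw [classInner_irr hχ (Rab_irr α β hab)] at hne
      right; right; left
      refine ⟨α, β, hab, ?_⟩
      by_contra h1
      rw [if_neg h1] at hne
      exact hne rfl

end Cfsg.Agent.Lib.Helper4_GL2Fam
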