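import Mathlib
import Cfsg.Prelude.Def_Characters
import Cfsg.Prelude.Def_ParabolicCharacters

namespace Cfsg.Agent.Lib.Helper4_MulCharDual
open Matrix Cfsg
open scoped ComplexConjugate

variable {F : Type*} [Field F] [Fintype F] [DecidableEq F]

/-- finitely many multiplicative characters -/
noncomputable instance mulCharFintype : Fintype (MulChar F ℂ) := Fintype.ofFinite _

theorem card_mulChar : Fintype.card (MulChar F ℂ) = Fintype.card F - 1 := by
  rw [← Nat.card_eq_fintype_card, MulChar.card_eq_card_units_of_hasEnoughRootsOfUnity F ℂ,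
    Nat.card_eq_fintype_card, Fintype.card_units]

omit [DecidableEq F] in
theorem sum_mulChar_eq_zero {a : F} (ha : a ≠ 1) : ∑ χ : MulChar F ℂ, χ a = 0 := by
  obtain ⟨χ, hχ⟩ := MulChar.exists_apply_ne_one_of_hasEnoughRootsOfUnity F ℂ ha
  refine eq_zero_of_mul_eq_self_left hχ ?_
  simp only [Finset.mul_sum, ← MulChar.mul_apply]
  exact Fintype.sum_bijective _ (Group.mulLeft_bijective χ) _ _ fun χ' ↦ rfl

theorem sum_mulChar_units (a b : Fˣ) [Decidable (a = b)] :
    ∑ χ : MulChar F ℂ, χ (a : F) * conj (χ (b : F)) =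
      if a = b then ((Fintype.card F : ℂ) - 1) else 0 := by
  have h1 : ∀ χ : MulChar F ℂ, χ (a : F) * conj (χ (b : F)) = χ ((a * b⁻¹ : Fˣ) : F) := by
    intro χ
    rw [starRingEnd_apply, MulChar.star_apply', MulChar.inv_apply', Units.val_mul, map_mul,
      Units.val_inv_eq_inv_val]
  simp only [h1]
  split_ifs with h
  · subst h
    simp only [mul_inv_cancel, Units.val_one, map_one, Finset.sum_const, Finset.card_univ,
      nsmul_eq_mul, mul_one, card_mulChar]
    rw [Nat.cast_sub Fintype.card_pos]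
    simp
  · apply sum_mulChar_eq_zero
    intro h1
    apply h
    have : a * b⁻¹ = 1 := Units.ext h1
    rw [mul_inv_eq_one] at this
    exact this

/-- characters separate functions -/
theorem mulChar_sep (h : Fˣ → ℂ) (H : ∀ α : MulChar F ℂ, ∑ a : Fˣ, h a * conj (α (a : F)) = 0) :
    h = 0 := by
  ext a₀
  have h1 : ∑ α : MulChar F ℂ, α (a₀ : F) * ∑ a : Fˣ, h a * conj (α (a : F)) = 0 := by
    simp [H]
  simp only [Finset.mul_sum] at h1
  rw [Finset.sum_comm] at h1
  have h2 : ∀ a : Fˣ, ∑ α : MulChar F ℂ, α (a₀ : F) * (h a * conj (α (a : F))) =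
      h a * (if a₀ = a then ((Fintype.card F : ℂ) - 1) else 0) := by
    intro a
    rw [← sum_mulChar_units a₀ a, Finset.mul_sum]
    refine Finset.sum_congr rfl fun α _ => ?_
    ring
  simp only [h2] at h1
  rw [Finset.sum_eq_single a₀] at h1
  · rw [if_pos rfl] at h1
    have hq1 : (Fintype.card F : ℂ) - 1 ≠ 0 := by
      have : 1 < Fintype.card F := Fintype.one_lt_card
      rw [sub_ne_zero]
      exact_mod_cast this.ne'
    rcases mul_eq_zero.mp h1 with h | h
    · exact h
    · exact absurd h hq1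
  · intro b _ hb
    rw [if_neg (fun e => hb e.symm), mul_zero]
  · intro h; exact absurd (Finset.mem_univ _) h

/-- two-variable separation -/
theorem mulChar_sep2 (f : Fˣ → Fˣ → ℂ)
    (H : ∀ α β : MulChar F ℂ, ∑ a : Fˣ, ∑ d : Fˣ, f a d * conj (α (a : F)) * conj (β (d : F)) = 0) :
    ∀ a d, f a d = 0 := by
  have h1 : ∀ β : MulChar F ℂ, (fun a : Fˣ => ∑ d : Fˣ, f a d * conj (β (d : F))) = 0 := by
    intro β
    apply mulChar_sep
    intro α
    rw [← H α β]
    refine Finset.sum_congr rfl fun a _ => ?_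
    rw [Finset.sum_mul]
    refine Finset.sum_congr rfl fun d _ => ?_
    ring
  intro a d
  have h2 : (fun d : Fˣ => f a d) = 0 := by
    apply mulChar_sep
    intro β
    exact congrFun (h1 β) a
  exact congrFun h2 d

end Cfsg.Agent.Lib.Helper4_MulCharDual
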