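import Mathlib
import Cfsg.Prelude.Def_Characters
import Cfsg.Prelude.Def_ParabolicCharacters
import Cfsg.Agent.Lib.Helper2_ClassFn
import Cfsg.Agent.Lib.Helper2_CharOrtho
import Cfsg.Agent.Lib.Helper2_CharBasic
import Cfsg.Agent.Lib.Helper2_CharValues
import Cfsg.Agent.Lib.Helper4_BorelInd
import Cfsg.Agent.Lib.Helper4_BorelIndGL
import Cfsg.Agent.Lib.Helper4_GL2Fam
import Cfsg.Agent.Lib.Helper4_MulCharDual

namespace Cfsg.Agent.Lib.Helper4_GL2Cusp
open Matrix Cfsg Cfsg.Agent.Lib.Helper2_ClassFn Cfsg.Agent.Lib.Helper2_CharOrtho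
  Cfsg.Agent.Lib.Helper2_CharBasic
  Cfsg.Agent.Lib.Helper4_BorelInd Cfsg.Agent.Lib.Helper4_BorelIndGL
  Cfsg.Agent.Lib.Helper4_GL2Fam Cfsg.Agent.Lib.Helper4_MulCharDual
open scoped ComplexConjugate

variable {F : Type*} [Field F] [Fintype F] [DecidableEq F]

theorem classFn_of_comm {G : Type*} [Group G] {χ : G → ℂ} (hχ : IsClassFunction G χ)
    {h g g' : G} (e : h * g = g' * h) : χ g' = χ g := by
  have : g' = h * g * h⁻¹ := by rw [e]; group
  rw [this, hχ]

theorem cusp_sum (χ : Matrix.GeneralLinearGroup (Fin 2) F → ℂ)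
    (hχ : IsClassFunction (Matrix.GeneralLinearGroup (Fin 2) F) χ) (hc : IsCusp χ) (a d : Fˣ) :
    ∑ x : F, χ (TG0 a d x) = 0 := by
  letI : Fintype (BG F) := Fintype.ofFinite _
  apply mulChar_sep2 (fun a d => ∑ x : F, χ (TG0 a d x))
  intro α β
  have h := hc α β
  rw [Rab, frobenius_reciprocity' (BG F) _ _ hχ, classInner_def] at h
  have hB : (Nat.card (BG F) : ℂ) ≠ 0 := card_subgroup_ne_zero (BG F)
  rcases mul_eq_zero.mp h with h | h
  · exact absurd (inv_eq_zero.mp h) hB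
  · rw [← Fintype.sum_bijective _ (TG_bijective (F := F)) (fun p : Fˣ × Fˣ × F =>
      χ (TG0 p.1 p.2.1 p.2.2) * conj (α (p.1 : F) * β (p.2.1 : F))) _
      (fun p => by
        show χ (TG0 p.1 p.2.1 p.2.2) * conj (α (p.1 : F) * β (p.2.1 : F)) =
          χ ((TG p.1 p.2.1 p.2.2 : BG F) : Matrix.GeneralLinearGroup (Fin 2) F) *
          conj (α ((((TG p.1 p.2.1 p.2.2 : BG F) : Matrix.GeneralLinearGroup (Fin 2) F) :
            Matrix (Fin 2) (Fin 2) F) 0 0) *
            β ((((TG p.1 p.2.1 p.2.2 : BG F) : Matrix.GeneralLinearGroup (Fin 2) F) :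
            Matrix (Fin 2) (Fin 2) F) 1 1))
        rw [TG_val]
        simp
        left; rfl), Fintype.sum_prod_type] at h
    simp only [Fintype.sum_prod_type] at h
    rw [← h]
    refine Finset.sum_congr rfl fun a _ => ?_
    refine Finset.sum_congr rfl fun d _ => ?_
    rw [Finset.sum_mul, Finset.sum_mul]
    refine Finset.sum_congr rfl fun x _ => ?_
    rw [map_mul]
    ring


omit [Fintype F] [DecidableEq F] in
theorem TG0_mul (a d a' d' : Fˣ) (x x' : F) :
    TG0 a d x * TG0 a' d' x' = TG0 (a * a') (d * d') ((a : F) * x' + x * (d' : F)) := by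
  apply Units.ext
  rw [Units.val_mul, TG0_val, TG0_val, TG0_val, Matrix.mul_fin_two]
  ext i j
  fin_cases i <;> fin_cases j <;> simp

omit [Fintype F] [DecidableEq F] in
theorem cusp_conj_regular (χ : Matrix.GeneralLinearGroup (Fin 2) F → ℂ)
    (hχ : IsClassFunction (Matrix.GeneralLinearGroup (Fin 2) F) χ) (a d : Fˣ) (had : a ≠ d) (x : F) :
    χ (TG0 a d x) = χ (TG0 a d 0) := by
  have hne : (d : F) - (a : F) ≠ 0 := by
    rw [sub_ne_zero]
    intro h
    exact had (Units.ext h.symm)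
  apply classFn_of_comm hχ (h := TG0 1 1 (x / ((d : F) - (a : F))))
  rw [TG0_mul, TG0_mul]
  congr 1
  · rw [mul_comm]
  · rw [mul_comm]
  · simp
    field_simp
    ring

omit [Fintype F] [DecidableEq F] in
theorem cusp_conj_unip (χ : Matrix.GeneralLinearGroup (Fin 2) F → ℂ)
    (hχ : IsClassFunction (Matrix.GeneralLinearGroup (Fin 2) F) χ) (a : Fˣ) (x : F) (hx : x ≠ 0) :
    χ (TG0 a a x) = χ (TG0 a a 1) := by
  apply classFn_of_comm hχ (h := TG0 (Units.mk0 x hx) 1 0)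
  rw [TG0_mul, TG0_mul]
  congr 1
  · rw [mul_comm]
  · simp
  · simp

theorem cusp_regular (χ : Matrix.GeneralLinearGroup (Fin 2) F → ℂ)
    (hχ : IsClassFunction (Matrix.GeneralLinearGroup (Fin 2) F) χ) (hc : IsCusp χ) (a d : Fˣ)
    (had : a ≠ d) : χ (TG0 a d 0) = 0 := by
  have h := cusp_sum χ hχ hc a d
  simp only [cusp_conj_regular χ hχ a d had, Finset.sum_const, Finset.card_univ, nsmul_eq_mul] at h
  rcases mul_eq_zero.mp h with h | h
  · exfalso
    have : (Fintype.card F : ℂ) ≠ 0 := by exact_mod_cast Fintype.card_ne_zero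
    exact this h
  · exact h

theorem cusp_unip (χ : Matrix.GeneralLinearGroup (Fin 2) F → ℂ)
    (hχ : IsClassFunction (Matrix.GeneralLinearGroup (Fin 2) F) χ) (hc : IsCusp χ) (a : Fˣ) :
    χ (TG0 a a 0) + ((Fintype.card F : ℂ) - 1) * χ (TG0 a a 1) = 0 := by
  have h := cusp_sum χ hχ hc a a
  rw [← Finset.add_sum_erase Finset.univ _ (Finset.mem_univ (0 : F))] at h
  have : ∀ x ∈ Finset.univ.erase (0 : F), χ (TG0 a a x) = χ (TG0 a a 1) := by
    intro x hx
    exact cusp_conj_unip χ hχ a x (Finset.ne_of_mem_erase hx)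
  rw [Finset.sum_congr rfl this, Finset.sum_const, Finset.card_erase_of_mem (Finset.mem_univ _),
    Finset.card_univ, nsmul_eq_mul, Nat.cast_sub Fintype.card_pos] at h
  simpa using h

theorem dvd_of_integral (n m : ℕ) (hm : 0 < m) (z : ℂ) (hz : IsIntegral ℤ z)
    (h : (n : ℂ) + (m : ℂ) * z = 0) : m ∣ n := by
  have hm' : (m : ℂ) ≠ 0 := by exact_mod_cast hm.ne'
  have hz' : z = ((-(n : ℚ) / (m : ℚ) : ℚ) : ℂ) := by
    push_cast
    field_simp
    linear_combination h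
  rw [hz'] at hz
  have h1 : IsIntegral ℤ (-(n : ℚ) / (m : ℚ) : ℚ) := by
    have := (isIntegral_algebraMap_iff (algebraMap ℚ ℂ).injective (R := ℤ)
      (x := (-(n : ℚ) / (m : ℚ) : ℚ))).mp
    exact this hz
  obtain ⟨k, hk⟩ := IsIntegrallyClosed.isIntegral_iff.mp h1
  have hk' : (k : ℚ) * m = -(n : ℚ) := by
    have hmq : (m : ℚ) ≠ 0 := by exact_mod_cast hm.ne'
    have : (k : ℚ) = -(n : ℚ) / (m : ℚ) := hk
    rw [this]
    field_simp
  have hk'' : (k * m : ℤ) = -(n : ℤ) := by exact_mod_cast hk'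
  have : (m : ℤ) ∣ (n : ℤ) := ⟨-k, by linarith⟩
  exact_mod_cast this

theorem cusp_deg_dvd (χ : Matrix.GeneralLinearGroup (Fin 2) F → ℂ)
    (hχ : IsIrrCharacter (Matrix.GeneralLinearGroup (Fin 2) F) χ) (hc : IsCusp χ) (n : ℕ)
    (hn : χ 1 = n) : (Fintype.card F - 1) ∣ n := by
  have hcl := IsCharacter.isClassFunction (IsIrrCharacter.isCharacter hχ)
  have h := cusp_unip χ hcl hc 1
  have h1 : (TG0 1 1 0 : Matrix.GeneralLinearGroup (Fin 2) F) = 1 := by
    apply Units.ext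
    rw [TG0_val]
    simp [Matrix.one_fin_two]
  rw [h1, hn] at h
  have hq : 1 < Fintype.card F := Fintype.one_lt_card
  apply dvd_of_integral n (Fintype.card F - 1) (by omega) (χ (TG0 1 1 1))
    (Cfsg.Agent.Lib.Helper2_CharValues.IsCharacter.isIntegral (IsIrrCharacter.isCharacter hχ) _)
  rw [Nat.cast_sub Fintype.card_pos]
  simpa using h

end Cfsg.Agent.Lib.Helper4_GL2Cusp
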