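import Mathlib
import Cfsg.Prelude.Def_Characters
import Cfsg.Agent.Lib.Helper2_ClassFn
import Cfsg.Agent.Lib.Helper2_CharOrtho
import Cfsg.Agent.Lib.Helper2_CharBasic
import Cfsg.Agent.Lib.Helper2_CharSum

namespace Cfsg.Agent.Lib.Helper4_IrrCount
open Cfsg Cfsg.Agent.Lib.Helper2_ClassFn Cfsg.Agent.Lib.Helper2_CharOrtho
  Cfsg.Agent.Lib.Helper2_CharBasic Cfsg.Agent.Lib.Helper2_CharSum
open scoped ComplexConjugate

universe u
variable {G : Type u} [Group G] [Fintype G]

theorem sum_card_centralizer :
    ∑ g : G, Nat.card (Subgroup.centralizer ({g} : Set G)) = Nat.card (ConjClasses G) * Nat.card G := by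
  classical
  rw [← card_comm_eq_card_conjClasses_mul_card]
  have e : {p : G × G // Commute p.1 p.2} ≃ Σ g : G, Subgroup.centralizer ({g} : Set G) :=
    { toFun := fun p => ⟨p.1.1, ⟨p.1.2, by
        rw [Subgroup.mem_centralizer_iff]
        intro h hh
        rw [Set.mem_singleton_iff] at hh
        rw [hh]
        exact p.2.eq⟩⟩
      invFun := fun s => ⟨(s.1, s.2.1), by
        have := s.2.2
        rw [Subgroup.mem_centralizer_iff] at this
        exact this s.1 rfl⟩
      left_inv := fun p => rfl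
      right_inv := fun s => rfl }
  rw [Nat.card_congr e, Nat.card_sigma]

theorem card_irrFinset : (irrFinset G).card = Nat.card (ConjClasses G) := by
  classical
  have h1 : ∑ g : G, ∑ χ ∈ irrFinset G, χ g * conj (χ g) =
      ((Nat.card (ConjClasses G) * Nat.card G : ℕ) : ℂ) := by
    rw [← sum_card_centralizer, Nat.cast_sum]
    refine Finset.sum_congr rfl fun g _ => ?_
    rw [second_orthogonality', if_pos (IsConj.refl g)]
  rw [Finset.sum_comm] at h1
  have h2 : ∀ χ ∈ irrFinset G, ∑ g : G, χ g * conj (χ g) = (Nat.card G : ℂ) := by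
    intro χ hχ
    have := classInner_irr_self (mem_irrFinset.mp hχ)
    rw [classInner_def] at this
    have hG := card_ne_zero_complex (G := G)
    field_simp at this
    exact this
  rw [Finset.sum_congr rfl h2, Finset.sum_const, nsmul_eq_mul] at h1
  have hG : (Nat.card G : ℂ) ≠ 0 := card_ne_zero_complex (G := G)
  push_cast at h1
  have := mul_right_cancel₀ hG h1
  exact_mod_cast this

theorem sum_deg_sq : ∑ χ ∈ irrFinset G, χ 1 * conj (χ 1) = (Nat.card G : ℂ) := by
  classical
  rw [second_orthogonality', if_pos (IsConj.refl 1)]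
  have : Subgroup.centralizer ({1} : Set G) = ⊤ := by
    ext x
    simp [Subgroup.mem_centralizer_iff]
  rw [this, Nat.card_congr (Subgroup.topEquiv (G := G)).toEquiv]

theorem card_irr_subtype (P : (G → ℂ) → Prop) [DecidablePred P] :
    Nat.card {χ : IrrCharacter G // P (χ : G → ℂ)} = ((irrFinset G).filter P).card := by
  classical
  have e : {χ : IrrCharacter G // P (χ : G → ℂ)} ≃ ((irrFinset G).filter P : Finset (G → ℂ)) :=
    { toFun := fun χ => ⟨χ.1.1, Finset.mem_filter.mpr ⟨mem_irrFinset.mpr χ.1.2, χ.2⟩⟩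
      invFun := fun ψ => ⟨⟨ψ.1, mem_irrFinset.mp (Finset.mem_filter.mp ψ.2).1⟩,
        (Finset.mem_filter.mp ψ.2).2⟩
      left_inv := fun χ => rfl
      right_inv := fun ψ => rfl }
  rw [Nat.card_congr e, Nat.card_eq_fintype_card, Fintype.card_coe]

end Cfsg.Agent.Lib.Helper4_IrrCount
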