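import Mathlib
import Cfsg.Prelude.Def_Characters
import Cfsg.Prelude.Def_ParabolicCharacters
import Cfsg.Agent.Lib.Helper2_ClassFn
import Cfsg.Agent.Lib.Helper2_CharOrtho
import Cfsg.Agent.Lib.Helper2_CharBasic
import Cfsg.Agent.Lib.Helper4_BorelInd
import Cfsg.Agent.Lib.Helper4_BorelIndGL
import Cfsg.Agent.Lib.Helper4_GL2Fam
import Cfsg.Agent.Lib.Helper4_MulCharDual
import Cfsg.Agent.Lib.Helper4_GL2Cusp
import Cfsg.Agent.Lib.Helper4_IrrCount
import Cfsg.Agent.Lib.Helper4_GL2Classes1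

namespace Cfsg.Agent.Lib.Helper4_GL2Count
open Matrix Cfsg Cfsg.Agent.Lib.Helper2_ClassFn Cfsg.Agent.Lib.Helper2_CharOrtho
  Cfsg.Agent.Lib.Helper2_CharBasic
  Cfsg.Agent.Lib.Helper4_BorelInd Cfsg.Agent.Lib.Helper4_BorelIndGL
  Cfsg.Agent.Lib.Helper4_GL2Fam Cfsg.Agent.Lib.Helper4_MulCharDual Cfsg.Agent.Lib.Helper4_GL2Cusp
  Cfsg.Agent.Lib.Helper4_IrrCount
open scoped ComplexConjugate

variable {F : Type*} [Field F] [Fintype F] [DecidableEq F]

/-- principal series on unordered pairs -/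
noncomputable def Rsym : Sym2 (MulChar F ℂ) → (Matrix.GeneralLinearGroup (Fin 2) F → ℂ) :=
  Sym2.lift ⟨fun α β => Rab α β, Rab_swap⟩

theorem Rsym_mk (α β : MulChar F ℂ) : Rsym s(α, β) = Rab α β := rfl

theorem Rsym_inj : Function.Injective (Rsym (F := F)) := by
  intro s t h
  induction s using Sym2.inductionOn with
  | hf α β =>
    induction t using Sym2.inductionOn with
    | hf α' β' =>
      rw [Rsym_mk, Rsym_mk, Rab_eq_iff] at h
      rw [Sym2.eq_iff]
      exact h

omit [Fintype F] [DecidableEq F] in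
theorem lam_TG0 (α : MulChar F ℂ) (a : Fˣ) : lam α (TG0 a 1 0) = α (a : F) := by
  rw [lam, Matrix.GeneralLinearGroup.val_det_apply, TG0_val, Matrix.det_fin_two]
  simp

omit [Fintype F] [DecidableEq F] in
theorem lam_inj : Function.Injective (lam (F := F)) := by
  intro α β h
  apply MulChar.ext
  intro a
  rw [← lam_TG0, ← lam_TG0, h]

theorem St_inj : Function.Injective (St (F := F)) := by
  classical
  intro α β h
  by_contra hne
  have h1 := Rab_inner α α β β
  rw [if_neg (fun e => hne e.1), Rab_diag, Rab_diag,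
    classInner_add_left, classInner_add_right, classInner_add_right,
    classInner_irr (lam_irr α) (lam_irr β), classInner_irr (lam_irr α) (St_irr β),
    classInner_irr (St_irr α) (lam_irr β), classInner_irr (St_irr α) (St_irr β), if_pos h] at h1
  split_ifs at h1 <;> norm_num at h1


/-- index type of the non-cuspidal irreducible characters -/
abbrev Idx (F : Type*) [Field F] [Fintype F] : Type _ :=
  MulChar F ℂ ⊕ (MulChar F ℂ ⊕ {s : Sym2 (MulChar F ℂ) // ¬ s.IsDiag})

/-- the non-cuspidal irreducible characters -/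
noncomputable def fam : Idx F → (Matrix.GeneralLinearGroup (Fin 2) F → ℂ)
  | Sum.inl α => lam α
  | Sum.inr (Sum.inl α) => St α
  | Sum.inr (Sum.inr s) => Rsym s.1

theorem Rsym_irr (s : Sym2 (MulChar F ℂ)) (hs : ¬ s.IsDiag) :
    IsIrrCharacter (Matrix.GeneralLinearGroup (Fin 2) F) (Rsym s) := by
  induction s using Sym2.inductionOn with
  | hf α β =>
    rw [Rsym_mk]
    exact Rab_irr α β (fun h => hs (by rw [Sym2.mk_isDiag_iff]; exact h))

theorem Rsym_one (s : Sym2 (MulChar F ℂ)) : Rsym s 1 = (Fintype.card F : ℂ) + 1 := by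
  induction s using Sym2.inductionOn with
  | hf α β => rw [Rsym_mk, Rab_one]

theorem fam_irr (i : Idx F) : IsIrrCharacter (Matrix.GeneralLinearGroup (Fin 2) F) (fam i) := by
  rcases i with α | α | s
  · exact lam_irr α
  · exact St_irr α
  · exact Rsym_irr s.1 s.2

/-- degrees of the families -/
def fdeg : Idx F → ℕ
  | Sum.inl _ => 1
  | Sum.inr (Sum.inl _) => Fintype.card F
  | Sum.inr (Sum.inr _) => Fintype.card F + 1

theorem fam_one (i : Idx F) : fam i 1 = (fdeg i : ℂ) := by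
  rcases i with α | α | s
  · simp [fam, fdeg, lam_one]
  · simp [fam, fdeg, St_one]
  · simp [fam, fdeg, Rsym_one]

theorem fam_inj : Function.Injective (fam (F := F)) := by
  have hq : 1 < Fintype.card F := Fintype.one_lt_card
  intro i j h
  have hd : fdeg i = fdeg j := by
    have := congrFun h 1
    rw [fam_one, fam_one] at this
    exact_mod_cast this
  rcases i with α | α | s <;> rcases j with β | β | t <;> simp only [fdeg] at hd
  · rw [lam_inj h]
  · omega
  · omega
  · omega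
  · rw [St_inj h]
  · omega
  · omega
  · omega
  · have := Rsym_inj h
    rw [Subtype.ext this]

theorem not_cusp_fam (i : Idx F) : ¬ IsCusp (fam i) := by
  classical
  rcases i with α | α | s
  · intro hc
    have := hc α α
    simp only [fam] at this
    rw [Rab_diag, classInner_add_right, classInner_irr_self (lam_irr α),
      classInner_irr (lam_irr α) (St_irr α)] at this
    split_ifs at this <;> norm_num at this
  · intro hc
    have := hc α α
    simp only [fam] at this
    rw [Rab_diag, classInner_add_right, classInner_irr_self (St_irr α),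
      classInner_irr (St_irr α) (lam_irr α)] at this
    split_ifs at this <;> norm_num at this
  · obtain ⟨s, hs⟩ := s
    induction s using Sym2.inductionOn with
    | hf α β =>
      intro hc
      have := hc α β
      have hirr := Rsym_irr s(α, β) hs
      simp only [fam, Rsym_mk] at this hirr
      rw [classInner_irr_self hirr] at this
      exact one_ne_zero this

theorem cusp_or_fam (χ : Matrix.GeneralLinearGroup (Fin 2) F → ℂ)
    (hχ : IsIrrCharacter (Matrix.GeneralLinearGroup (Fin 2) F) χ) :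
    (∃ i, χ = fam i) ∨ IsCusp χ := by
  rcases dichotomy χ hχ with ⟨α, h⟩ | ⟨α, h⟩ | ⟨α, β, hne, h⟩ | h
  · left; exact ⟨Sum.inl α, h⟩
  · left; exact ⟨Sum.inr (Sum.inl α), h⟩
  · left
    exact ⟨Sum.inr (Sum.inr ⟨s(α, β), by rw [Sym2.mk_isDiag_iff]; exact hne⟩), h⟩
  · right; exact h


section general
universe u
variable {G : Type u} [Group G]

/-- degree as a natural number -/
noncomputable def dg (χ : G → ℂ) : ℕ := by
  classical
  exact if h : IsIrrCharacter G χ then Classical.choose (IsIrrCharacter.apply_one h) else 0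

theorem dg_spec {χ : G → ℂ} (hχ : IsIrrCharacter G χ) : 0 < dg χ ∧ χ 1 = dg χ := by
  unfold dg
  rw [dif_pos hχ]
  exact Classical.choose_spec (IsIrrCharacter.apply_one hχ)

theorem dg_eq {χ : G → ℂ} (hχ : IsIrrCharacter G χ) {n : ℕ} (h : χ 1 = n) : dg χ = n := by
  have := (dg_spec hχ).2
  rw [h] at this
  exact_mod_cast this.symm

theorem sum_dg_sq [Fintype G] : ∑ χ ∈ irrFinset G, dg χ ^ 2 = Nat.card G := by
  have h := sum_deg_sq (G := G)
  have h2 : ∑ χ ∈ irrFinset G, χ 1 * conj (χ 1) = ((∑ χ ∈ irrFinset G, dg χ ^ 2 : ℕ) : ℂ) := by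
    rw [Nat.cast_sum]
    refine Finset.sum_congr rfl fun χ hχ => ?_
    rw [(dg_spec (mem_irrFinset.mp hχ)).2]
    simp [pow_two]
  rw [h2] at h
  exact_mod_cast h

end general

theorem card_GL2 : Nat.card (Matrix.GeneralLinearGroup (Fin 2) F) =
    (Fintype.card F ^ 2 - 1) * (Fintype.card F ^ 2 - Fintype.card F) := by
  rw [Matrix.card_GL_field, Fin.prod_univ_two]
  simp

theorem card_Idx : Fintype.card (Idx F) =
    (Fintype.card F - 1) + ((Fintype.card F - 1) + (Fintype.card F - 1).choose 2) := by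
  classical
  rw [Fintype.card_sum, Fintype.card_sum, card_mulChar]
  congr 2
  rw [← card_mulChar (F := F)]
  convert Sym2.card_subtype_not_diag (α := MulChar F ℂ)

theorem sum_fdeg_sq : ∑ i : Idx F, fdeg i ^ 2 =
    (Fintype.card F - 1) + ((Fintype.card F - 1) * Fintype.card F ^ 2 +
      (Fintype.card F - 1).choose 2 * (Fintype.card F + 1) ^ 2) := by
  classical
  rw [Fintype.sum_sum_type, Fintype.sum_sum_type]
  simp only [fdeg, one_pow, Finset.sum_const, Finset.card_univ, smul_eq_mul, mul_one, card_mulChar]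
  congr 2
  rw [← card_mulChar (F := F)]
  congr 1
  convert Sym2.card_subtype_not_diag (α := MulChar F ℂ)


/-- the non-cuspidal characters as a finset -/
noncomputable def Jset (F : Type*) [Field F] [Fintype F] [DecidableEq F] :
    Finset (Matrix.GeneralLinearGroup (Fin 2) F → ℂ) := by
  classical
  exact Finset.univ.image (fam (F := F))

theorem Jset_sub : Jset F ⊆ irrFinset (Matrix.GeneralLinearGroup (Fin 2) F) := by
  classical
  intro χ hχ
  unfold Jset at hχ
  obtain ⟨i, -, rfl⟩ := Finset.mem_image.mp hχ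
  exact mem_irrFinset.mpr (fam_irr i)

theorem arith_key (N p c D : ℤ) (hp : 2 * p = N * (N - 1))
    (hc : c + (N + (N + p)) = (N + 1) ^ 2 - 1)
    (hD : D + (N + (N * (N + 1) ^ 2 + p * (N + 2) ^ 2)) = ((N + 1) ^ 2 - 1) * ((N + 1) ^ 2 - (N + 1))) :
    2 * D = 2 * (c * N ^ 2) := by
  have hc' : c = N ^ 2 - p := by linarith
  subst hc'
  have hD' : D = ((N + 1) ^ 2 - 1) * ((N + 1) ^ 2 - (N + 1)) -
      (N + (N * (N + 1) ^ 2 + p * (N + 2) ^ 2)) := by linarith
  subst hD'
  linear_combination (-(N + 2) ^ 2 + N ^ 2) * hp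

theorem cusp_core :
    (∀ χ ∈ (irrFinset (Matrix.GeneralLinearGroup (Fin 2) F)) \ Jset F,
      dg χ = Fintype.card F - 1) ∧
    2 * ((irrFinset (Matrix.GeneralLinearGroup (Fin 2) F)) \ Jset F).card =
      Fintype.card F * (Fintype.card F - 1) := by
  classical
  have hq : 1 < Fintype.card F := Fintype.one_lt_card
  obtain ⟨N, hN⟩ : ∃ N, Fintype.card F = N + 1 := ⟨Fintype.card F - 1, by omega⟩
  have hN0 : 0 < N := by omega
  set I := irrFinset (Matrix.GeneralLinearGroup (Fin 2) F) with hI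
  set C := I \ Jset F with hC
  have hJcard : (Jset F).card = N + (N + N.choose 2) := by
    unfold Jset
    rw [Finset.card_image_of_injective _ fam_inj, Finset.card_univ, card_Idx, hN]
    simp
  have hJsum : ∑ ψ ∈ Jset F, dg ψ ^ 2 = N + (N * (N + 1) ^ 2 + N.choose 2 * (N + 2) ^ 2) := by
    unfold Jset
    rw [Finset.sum_image (fun i _ j _ h => fam_inj h)]
    have : ∀ i : Idx F, dg (fam i) ^ 2 = fdeg i ^ 2 := by
      intro i
      rw [dg_eq (fam_irr i) (fam_one i)]
    simp only [this]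
    rw [sum_fdeg_sq, hN]
    simp
  have hIcard : I.card = (N + 1) ^ 2 - 1 := by
    rw [hI, card_irrFinset, Cfsg.Agent.Lib.Helper4_GL2Classes1.gl2_classes, hN]
  have hIsum : ∑ ψ ∈ I, dg ψ ^ 2 = ((N + 1) ^ 2 - 1) * ((N + 1) ^ 2 - (N + 1)) := by
    rw [hI, sum_dg_sq, card_GL2, hN]
  have hCcard : C.card + (Jset F).card = I.card := by
    rw [hC, Finset.card_sdiff_of_subset Jset_sub]
    exact Nat.sub_add_cancel (Finset.card_le_card (Jset_sub (F := F)))
  have hCsum : ∑ ψ ∈ C, dg ψ ^ 2 + ∑ ψ ∈ Jset F, dg ψ ^ 2 = ∑ ψ ∈ I, dg ψ ^ 2 := by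
    rw [hC]
    exact Finset.sum_sdiff Jset_sub
  have hcusp : ∀ ψ ∈ C, IsCusp ψ := by
    intro ψ hψ
    rw [hC, Finset.mem_sdiff] at hψ
    rcases cusp_or_fam ψ (mem_irrFinset.mp hψ.1) with ⟨i, hi⟩ | h
    · exfalso
      apply hψ.2
      unfold Jset
      rw [hi]
      exact Finset.mem_image_of_mem _ (Finset.mem_univ _)
    · exact h
  have hge : ∀ ψ ∈ C, N ^ 2 ≤ dg ψ ^ 2 := by
    intro ψ hψ
    have hirr : IsIrrCharacter _ ψ := by
      rw [hC, Finset.mem_sdiff] at hψ
      exact mem_irrFinset.mp hψ.1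
    have hd := cusp_deg_dvd ψ hirr (hcusp ψ hψ) (dg ψ) (dg_spec hirr).2
    rw [hN, Nat.add_sub_cancel] at hd
    exact Nat.pow_le_pow_left (Nat.le_of_dvd (dg_spec hirr).1 hd) 2
  have hp : 2 * (N.choose 2 : ℤ) = N * (N - 1) := by
    have h1 := Nat.choose_two_right N
    have h2 : 2 ∣ N * (N - 1) := (Nat.even_mul_pred_self N).two_dvd
    have h3 : 2 * N.choose 2 = N * (N - 1) := by
      rw [h1]
      exact Nat.mul_div_cancel' h2
    have : ((2 * N.choose 2 : ℕ) : ℤ) = ((N * (N - 1) : ℕ) : ℤ) := by rw [h3]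
    rw [Nat.cast_mul, Nat.cast_mul, Nat.cast_sub hN0] at this
    simpa using this
  have hsq1 : 1 ≤ (N + 1) ^ 2 := Nat.one_le_pow _ _ (by omega)
  have hsq2 : N + 1 ≤ (N + 1) ^ 2 := by nlinarith
  have key := arith_key (N : ℤ) (N.choose 2 : ℤ) (C.card : ℤ) ((∑ ψ ∈ C, dg ψ ^ 2 : ℕ) : ℤ) hp
    (by
      have := hCcard
      rw [hJcard, hIcard] at this
      have h' : ((C.card + (N + (N + N.choose 2)) : ℕ) : ℤ) = (((N + 1) ^ 2 - 1 : ℕ) : ℤ) := by
        rw [this]
      rw [Nat.cast_sub hsq1] at h'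
      push_cast at h'
      linarith)
    (by
      have := hCsum
      rw [hJsum, hIsum] at this
      have h' : ((∑ ψ ∈ C, dg ψ ^ 2 + (N + (N * (N + 1) ^ 2 + N.choose 2 * (N + 2) ^ 2)) : ℕ) : ℤ)
          = ((((N + 1) ^ 2 - 1) * ((N + 1) ^ 2 - (N + 1)) : ℕ) : ℤ) := by
        rw [this]
      rw [Nat.cast_mul, Nat.cast_sub hsq1, Nat.cast_sub hsq2] at h'
      push_cast at h' ⊢
      linarith)
  have key' : ∑ ψ ∈ C, dg ψ ^ 2 = ∑ ψ ∈ C, N ^ 2 := by
    rw [Finset.sum_const, smul_eq_mul]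
    have : ((∑ ψ ∈ C, dg ψ ^ 2 : ℕ) : ℤ) = ((C.card * N ^ 2 : ℕ) : ℤ) := by
      have key2 := key
      push_cast at key2 ⊢
      linarith
    exact_mod_cast this
  have hall := (Finset.sum_eq_sum_iff_of_le hge).mp key'.symm
  constructor
  · intro χ hmem
    have := hall χ hmem
    rw [hN, Nat.add_sub_cancel]
    exact (Nat.pow_left_injective (by norm_num : 2 ≠ 0) this).symm
  · have h1 : ((C.card + (N + (N + N.choose 2)) : ℕ) : ℤ) = (((N + 1) ^ 2 - 1 : ℕ) : ℤ) := by
      rw [← hJcard, hCcard, hIcard]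
    rw [Nat.cast_sub hsq1] at h1
    push_cast at h1
    rw [hN, Nat.add_sub_cancel]
    have : (2 * C.card : ℤ) = (N + 1) * N := by linarith
    exact_mod_cast this

theorem cusp_deg (χ : Matrix.GeneralLinearGroup (Fin 2) F → ℂ)
    (hχ : IsIrrCharacter (Matrix.GeneralLinearGroup (Fin 2) F) χ) (hc : IsCusp χ) :
    dg χ = Fintype.card F - 1 := by
  classical
  apply cusp_core.1
  rw [Finset.mem_sdiff]
  refine ⟨mem_irrFinset.mpr hχ, ?_⟩
  intro hJ
  unfold Jset at hJ
  obtain ⟨i, -, rfl⟩ := Finset.mem_image.mp hJ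
  exact not_cusp_fam i hc

end Cfsg.Agent.Lib.Helper4_GL2Count
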