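import Mathlib
import Cfsg.Prelude.Def_Characters
import Cfsg.Prelude.Def_ParabolicCharacters
import Cfsg.Agent.Lib.Helper2_ClassFn
import Cfsg.Agent.Lib.Helper2_CharOrtho
import Cfsg.Agent.Lib.Helper2_CharInd
import Cfsg.Agent.Lib.Helper2_CharBasic
import Cfsg.Agent.Lib.Helper2_CharDeg
import Cfsg.Agent.Lib.Helper4_SL2Borel
import Cfsg.Agent.Lib.Helper4_BorelInd
import Cfsg.Agent.Lib.Helper4_BorelInner
import Cfsg.Agent.Lib.Helper4_MulCharDual

namespace Cfsg.Agent.Lib.Helper4_SL2Fam
open Matrix Cfsg Cfsg.Agent.Lib.Helper2_ClassFn Cfsg.Agent.Lib.Helper2_CharOrtho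
  Cfsg.Agent.Lib.Helper2_CharBasic Cfsg.Agent.Lib.Helper2_CharDeg
  Cfsg.Agent.Lib.Helper4_BorelInd Cfsg.Agent.Lib.Helper4_BorelInner Cfsg.Agent.Lib.Helper4_SL2Borel
  Cfsg.Agent.Lib.Helper4_MulCharDual
open scoped ComplexConjugate

variable {F : Type*} [Field F] [Fintype F] [DecidableEq F]

/-- principal series of SL₂ -/
noncomputable def Rs (α : MulChar F ℂ) : Matrix.SpecialLinearGroup (Fin 2) F → ℂ :=
  indFun (Bor F) (fun b => α (((b : Matrix.SpecialLinearGroup (Fin 2) F) :
    Matrix (Fin 2) (Fin 2) F) 0 0))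

theorem Rs_apply (α : MulChar F ℂ) (g : Matrix.SpecialLinearGroup (Fin 2) F) :
    Rs α g = bsum (fun x _ => α x) (g : Matrix (Fin 2) (Fin 2) F) := indFun_SL α g

theorem Rs_one (α : MulChar F ℂ) : Rs α 1 = (Fintype.card F : ℂ) + 1 := by
  rw [Rs_apply, bsum_scalar _ _ (by simp) (by simp) (by simp)]
  simp

theorem Rs_char (α : MulChar F ℂ) :
    IsCharacter (Matrix.SpecialLinearGroup (Fin 2) F) (Rs α) := isCharacter_indS α

theorem Rs_inner (α β : MulChar F ℂ) [Decidable (α = β)] [Decidable (α = β⁻¹)] :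
    classInner (Rs α) (Rs β) = (if α = β then 1 else 0) + (if α = β⁻¹ then 1 else 0) :=
  inner_SL α β

theorem Rs_irr (α : MulChar F ℂ) (h : α ^ 2 ≠ 1) :
    IsIrrCharacter (Matrix.SpecialLinearGroup (Fin 2) F) (Rs α) := (irr_indS_iff α).mpr h

theorem Rs_inv (α : MulChar F ℂ) : Rs α⁻¹ = Rs α := by
  classical
  rw [← sub_eq_zero, ← classInner_self_eq_zero, classInner_sub_left, classInner_sub_right,
    classInner_sub_right, Rs_inner, Rs_inner, Rs_inner, Rs_inner]
  by_cases h : α = α⁻¹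
  · have h' : α⁻¹ = α := h.symm
    simp [h']
  · have h' : ¬ α⁻¹ = α := fun e => h e.symm
    simp [h, h']

theorem Rs_eq_iff (α β : MulChar F ℂ) : Rs α = Rs β ↔ α = β ∨ α = β⁻¹ := by
  classical
  constructor
  · intro h
    have h1 := Rs_inner α α
    have h2 := Rs_inner α β
    rw [← h, h1, if_pos rfl] at h2
    by_contra hcon
    rw [not_or] at hcon
    rw [if_neg hcon.1, if_neg hcon.2] at h2
    split_ifs at h2 <;> norm_num at h2
  · rintro (rfl | rfl)
    · rfl
    · exact Rs_inv β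

/-- trivial character -/
def trivS : Matrix.SpecialLinearGroup (Fin 2) F → ℂ := fun _ => 1

omit [Fintype F] [DecidableEq F] in
theorem trivS_irr : IsIrrCharacter (Matrix.SpecialLinearGroup (Fin 2) F) (trivS (F := F)) :=
  isIrrCharacter_one

theorem inner_Rs_triv : classInner (Rs (1 : MulChar F ℂ)) trivS = 1 := by
  letI : Fintype (Bor F) := Fintype.ofFinite _
  rw [Rs, frobenius_reciprocity (Bor F) _ _ (IsCharacter.isClassFunction
    (IsIrrCharacter.isCharacter trivS_irr))]
  have : (fun b : Bor F => (1 : MulChar F ℂ) (((b : Matrix.SpecialLinearGroup (Fin 2) F) :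
      Matrix (Fin 2) (Fin 2) F) 0 0)) = fun _ => (1 : ℂ) := by
    ext b
    rw [← d0S_val, MulChar.one_apply_coe]
  rw [this]
  exact classInner_irr_self (isIrrCharacter_one (G := Bor F))

/-- Steinberg character -/
noncomputable def StS : Matrix.SpecialLinearGroup (Fin 2) F → ℂ := Rs 1 - trivS

theorem StS_char : IsCharacter (Matrix.SpecialLinearGroup (Fin 2) F) (StS (F := F)) := by
  apply IsCharacter.sub_constituent (Rs_char 1) trivS_irr
  rw [inner_Rs_triv]
  exact one_ne_zero

theorem StS_irr : IsIrrCharacter (Matrix.SpecialLinearGroup (Fin 2) F) (StS (F := F)) := by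
  classical
  apply IsCharacter.isIrr_of_norm_one StS_char
  have h1 := inner_Rs_triv (F := F)
  have h2 : classInner (trivS (F := F)) (Rs 1) = 1 := by
    rw [← classInner_conj_symm, h1]; simp
  rw [StS, classInner_sub_left, classInner_sub_right, classInner_sub_right, Rs_inner, h1, h2,
    classInner_irr_self trivS_irr]
  simp

theorem StS_one : StS (F := F) 1 = (Fintype.card F : ℂ) := by
  rw [StS, Pi.sub_apply, Rs_one, trivS]
  ring

theorem Rs_triv : Rs (1 : MulChar F ℂ) = trivS + StS := by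
  rw [StS]; ring

/-- cuspidal: orthogonal to all principal series -/
def IsCuspS (χ : Matrix.SpecialLinearGroup (Fin 2) F → ℂ) : Prop :=
  ∀ α : MulChar F ℂ, classInner χ (Rs α) = 0


omit [Fintype F] [DecidableEq F] in
theorem classFn_of_commS {χ : Matrix.SpecialLinearGroup (Fin 2) F → ℂ}
    (hχ : IsClassFunction (Matrix.SpecialLinearGroup (Fin 2) F) χ)
    {h g g' : Matrix.SpecialLinearGroup (Fin 2) F} (e : h * g = g' * h) : χ g' = χ g := by
  have : g' = h * g * h⁻¹ := by rw [e]; group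
  rw [this, hχ]

omit [Fintype F] [DecidableEq F] in
theorem T0_mul (a a' : Fˣ) (b b' : F) :
    T0 a b * T0 a' b' = T0 (a * a') ((a : F) * b' + b * ((a'⁻¹ : Fˣ) : F)) := by
  have := congrArg (fun g : Bor F => (g : Matrix.SpecialLinearGroup (Fin 2) F)) (T_mul a a' b b')
  exact this

theorem cusp_sumS (χ : Matrix.SpecialLinearGroup (Fin 2) F → ℂ)
    (hχ : IsClassFunction (Matrix.SpecialLinearGroup (Fin 2) F) χ) (hc : IsCuspS χ) (a : Fˣ) :
    ∑ x : F, χ (T0 a x) = 0 := by
  letI : Fintype (Bor F) := Fintype.ofFinite _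
  have := mulChar_sep (fun a : Fˣ => ∑ x : F, χ (T0 a x)) ?_
  · exact congrFun this a
  intro α
  have h := hc α
  rw [Rs, frobenius_reciprocity' (Bor F) _ _ hχ, classInner_def] at h
  have hB : (Nat.card (Bor F) : ℂ) ≠ 0 := card_subgroup_ne_zero (Bor F)
  rcases mul_eq_zero.mp h with h | h
  · exact absurd (inv_eq_zero.mp h) hB
  · rw [← Fintype.sum_bijective _ (T_bijective (F := F)) (fun p : Fˣ × F =>
      χ (T0 p.1 p.2) * conj (α (p.1 : F))) _
      (fun p => by
        show χ (T0 p.1 p.2) * conj (α (p.1 : F)) =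
          χ ((T p.1 p.2 : Bor F) : Matrix.SpecialLinearGroup (Fin 2) F) *
          conj (α ((((T p.1 p.2 : Bor F) : Matrix.SpecialLinearGroup (Fin 2) F) :
            Matrix (Fin 2) (Fin 2) F) 0 0))
        rw [T_val]
        simp
        left; rfl), Fintype.sum_prod_type] at h
    rw [← h]
    refine Finset.sum_congr rfl fun a _ => ?_
    rw [Finset.sum_mul]

omit [Fintype F] [DecidableEq F] in
theorem cusp_conj_regularS (χ : Matrix.SpecialLinearGroup (Fin 2) F → ℂ)
    (hχ : IsClassFunction (Matrix.SpecialLinearGroup (Fin 2) F) χ) (a : Fˣ) (ha : a ^ 2 ≠ 1) (x : F) :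
    χ (T0 a x) = χ (T0 a 0) := by
  have hne : ((a⁻¹ : Fˣ) : F) - (a : F) ≠ 0 := by
    rw [sub_ne_zero]
    intro h
    apply ha
    apply Units.ext
    rw [Units.val_pow_eq_pow_val, pow_two, Units.val_one]
    nth_rewrite 1 [← h]
    rw [← Units.val_mul, inv_mul_cancel, Units.val_one]
  have ha0 : (a : F) ≠ 0 := Units.ne_zero a
  have h1 : (1 : F) - (a : F) ^ 2 ≠ 0 := by
    intro h
    apply hne
    rw [Units.val_inv_eq_inv_val]
    field_simp
    rw [mul_zero]
    exact h
  apply classFn_of_commS hχ (h := T0 1 (x / (((a⁻¹ : Fˣ) : F) - (a : F))))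
  rw [T0_mul, T0_mul]
  congr 1
  · rw [mul_comm]
  · simp
    field_simp
    ring

theorem cusp_regularS (χ : Matrix.SpecialLinearGroup (Fin 2) F → ℂ)
    (hχ : IsClassFunction (Matrix.SpecialLinearGroup (Fin 2) F) χ) (hc : IsCuspS χ) (a : Fˣ)
    (ha : a ^ 2 ≠ 1) : χ (T0 a 0) = 0 := by
  have h := cusp_sumS χ hχ hc a
  simp only [cusp_conj_regularS χ hχ a ha, Finset.sum_const, Finset.card_univ, nsmul_eq_mul] at h
  rcases mul_eq_zero.mp h with h | h
  · exfalso
    have : (Fintype.card F : ℂ) ≠ 0 := by exact_mod_cast Fintype.card_ne_zero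
    exact this h
  · exact h

theorem dichotomyS (χ : Matrix.SpecialLinearGroup (Fin 2) F → ℂ)
    (hχ : IsIrrCharacter (Matrix.SpecialLinearGroup (Fin 2) F) χ) :
    χ = trivS ∨ χ = StS ∨ (∃ α : MulChar F ℂ, α ^ 2 ≠ 1 ∧ χ = Rs α) ∨
    (∃ α : MulChar F ℂ, α ^ 2 = 1 ∧ α ≠ 1 ∧ classInner χ (Rs α) ≠ 0) ∨ IsCuspS χ := by
  classical
  by_cases h : IsCuspS χ
  · right; right; right; right; exact h
  · unfold IsCuspS at h
    push Not at h
    obtain ⟨α, hne⟩ := h
    by_cases ha : α ^ 2 = 1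
    · by_cases ha1 : α = 1
      · subst ha1
        rw [Rs_triv, classInner_add_right, classInner_irr hχ trivS_irr,
          classInner_irr hχ StS_irr] at hne
        by_cases h1 : χ = trivS
        · left; exact h1
        · by_cases h2 : χ = StS
          · right; left; exact h2
          · rw [if_neg h1, if_neg h2] at hne
            simp at hne
      · right; right; right; left
        exact ⟨α, ha, ha1, hne⟩
    · right; right; left
      refine ⟨α, ha, ?_⟩
      rw [classInner_irr hχ (Rs_irr α ha)] at hne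
      by_contra h1
      rw [if_neg h1] at hne
      exact hne rfl

end Cfsg.Agent.Lib.Helper4_SL2Fam
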