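import Mathlib
import Cfsg.Prelude.Def_Characters
import Cfsg.Prelude.Def_ParabolicCharacters
import Cfsg.Agent.Lib.Helper2_ClassFn
import Cfsg.Agent.Lib.Helper2_CharOrtho
import Cfsg.Agent.Lib.Helper2_CharBasic
import Cfsg.Agent.Lib.Helper4_BorelInd
import Cfsg.Agent.Lib.Helper4_BorelIndGL
import Cfsg.Agent.Lib.Helper4_GL2Fam
import Cfsg.Agent.Lib.Helper4_MulCharDual
import Cfsg.Agent.Lib.Helper4_GL2Cusp
import Cfsg.Agent.Lib.Helper4_IrrCount
import Cfsg.Agent.Lib.Helper4_GL2Count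

namespace Cfsg.Agent.Lib.Helper4_GL2Table
open Matrix Cfsg Cfsg.Agent.Lib.Helper2_ClassFn Cfsg.Agent.Lib.Helper2_CharOrtho
  Cfsg.Agent.Lib.Helper2_CharBasic
  Cfsg.Agent.Lib.Helper4_BorelInd Cfsg.Agent.Lib.Helper4_BorelIndGL
  Cfsg.Agent.Lib.Helper4_GL2Fam Cfsg.Agent.Lib.Helper4_MulCharDual Cfsg.Agent.Lib.Helper4_GL2Cusp
  Cfsg.Agent.Lib.Helper4_IrrCount Cfsg.Agent.Lib.Helper4_GL2Count
open scoped ComplexConjugate

variable {F : Type*} [Field F] [Fintype F] [DecidableEq F]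

/-- classification with degrees -/
theorem deg_cases (χ : Matrix.GeneralLinearGroup (Fin 2) F → ℂ)
    (hχ : IsIrrCharacter (Matrix.GeneralLinearGroup (Fin 2) F) χ) :
    (∃ α, χ = lam α ∧ χ 1 = ((1 : ℕ) : ℂ)) ∨ (∃ α, χ = St α ∧ χ 1 = ((Fintype.card F : ℕ) : ℂ)) ∨
    (∃ α β, α ≠ β ∧ χ = Rab α β ∧ χ 1 = ((Fintype.card F + 1 : ℕ) : ℂ)) ∨
    (IsCusp χ ∧ χ 1 = ((Fintype.card F - 1 : ℕ) : ℂ)) := by
  rcases dichotomy χ hχ with ⟨α, h⟩ | ⟨α, h⟩ | ⟨α, β, hne, h⟩ | h
  · left; exact ⟨α, h, by rw [h, lam_one]; simp⟩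
  · right; left; exact ⟨α, h, by rw [h, St_one]⟩
  · right; right; left; exact ⟨α, β, hne, h, by rw [h, Rab_one]; simp⟩
  · right; right; right
    refine ⟨h, ?_⟩
    rw [(dg_spec hχ).2, cusp_deg χ hχ h]

theorem nat_of_deg {χ : Matrix.GeneralLinearGroup (Fin 2) F → ℂ} {n m : ℕ} (h1 : χ 1 = (n : ℂ))
    (h2 : χ 1 = (m : ℂ)) : n = m := by
  rw [h1] at h2
  exact_mod_cast h2

theorem degrees (χ : Matrix.GeneralLinearGroup (Fin 2) F → ℂ)
    (hχ : IsIrrCharacter (Matrix.GeneralLinearGroup (Fin 2) F) χ) :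
    χ 1 = 1 ∨ χ 1 = (Fintype.card F : ℂ) - 1 ∨ χ 1 = (Fintype.card F : ℂ) ∨
      χ 1 = (Fintype.card F : ℂ) + 1 := by
  rcases deg_cases χ hχ with ⟨α, -, h⟩ | ⟨α, -, h⟩ | ⟨α, β, -, -, h⟩ | ⟨-, h⟩
  · left; rw [h]; simp
  · right; right; left; exact h
  · right; right; right; rw [h]; simp
  · right; left; rw [h, Nat.cast_sub Fintype.card_pos]; simp


theorem counts (hq : 3 ≤ Fintype.card F) :
    Nat.card {χ : Cfsg.IrrCharacter (Matrix.GeneralLinearGroup (Fin 2) F) // (χ : Matrix.GeneralLinearGroup (Fin 2) F → ℂ) 1 = 1} = Fintype.card F - 1 ∧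
      Nat.card {χ : Cfsg.IrrCharacter (Matrix.GeneralLinearGroup (Fin 2) F) // (χ : Matrix.GeneralLinearGroup (Fin 2) F → ℂ) 1 = (Fintype.card F : ℂ)} = Fintype.card F - 1 ∧
      Nat.card {χ : Cfsg.IrrCharacter (Matrix.GeneralLinearGroup (Fin 2) F) // (χ : Matrix.GeneralLinearGroup (Fin 2) F → ℂ) 1 = (Fintype.card F : ℂ) + 1} = (Fintype.card F - 1) * (Fintype.card F - 2) / 2 ∧
      Nat.card {χ : Cfsg.IrrCharacter (Matrix.GeneralLinearGroup (Fin 2) F) // (χ : Matrix.GeneralLinearGroup (Fin 2) F → ℂ) 1 = (Fintype.card F : ℂ) - 1} = Fintype.card F * (Fintype.card F - 1) / 2 := by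
  classical
  have e1 : ((Fintype.card F : ℂ) + 1) = ((Fintype.card F + 1 : ℕ) : ℂ) := by push_cast; ring
  have e2 : ((Fintype.card F : ℂ) - 1) = ((Fintype.card F - 1 : ℕ) : ℂ) := by
    rw [Nat.cast_sub Fintype.card_pos]; simp
  have e0 : (1 : ℂ) = ((1 : ℕ) : ℂ) := by simp
  rw [card_irr_subtype (fun χ : Matrix.GeneralLinearGroup (Fin 2) F → ℂ => χ 1 = 1),
    card_irr_subtype (fun χ : Matrix.GeneralLinearGroup (Fin 2) F → ℂ => χ 1 = (Fintype.card F : ℂ)),
    card_irr_subtype (fun χ : Matrix.GeneralLinearGroup (Fin 2) F → ℂ => χ 1 = (Fintype.card F : ℂ) + 1),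
    card_irr_subtype (fun χ : Matrix.GeneralLinearGroup (Fin 2) F → ℂ => χ 1 = (Fintype.card F : ℂ) - 1)]
  refine ⟨?_, ?_, ?_, ?_⟩
  · have : (irrFinset (Matrix.GeneralLinearGroup (Fin 2) F)).filter (fun χ => χ 1 = 1) =
        Finset.univ.image (lam (F := F)) := by
      ext χ
      rw [Finset.mem_filter, Finset.mem_image, mem_irrFinset]
      constructor
      · rintro ⟨hχ, h1⟩
        rw [e0] at h1
        rcases deg_cases χ hχ with ⟨α, h, -⟩ | ⟨α, -, h⟩ | ⟨α, β, -, -, h⟩ | ⟨-, h⟩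
        · exact ⟨α, Finset.mem_univ _, h.symm⟩
        · have := nat_of_deg h1 h; omega
        · have := nat_of_deg h1 h; omega
        · have := nat_of_deg h1 h; omega
      · rintro ⟨α, -, rfl⟩
        exact ⟨lam_irr α, lam_one α⟩
    rw [this, Finset.card_image_of_injective _ lam_inj, Finset.card_univ, card_mulChar]
  · have : (irrFinset (Matrix.GeneralLinearGroup (Fin 2) F)).filter
        (fun χ => χ 1 = (Fintype.card F : ℂ)) = Finset.univ.image (St (F := F)) := by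
      ext χ
      rw [Finset.mem_filter, Finset.mem_image, mem_irrFinset]
      constructor
      · rintro ⟨hχ, h1⟩
        rcases deg_cases χ hχ with ⟨α, -, h⟩ | ⟨α, h, -⟩ | ⟨α, β, -, -, h⟩ | ⟨-, h⟩
        · have := nat_of_deg h1 h; omega
        · exact ⟨α, Finset.mem_univ _, h.symm⟩
        · have := nat_of_deg h1 h; omega
        · have := nat_of_deg h1 h; omega
      · rintro ⟨α, -, rfl⟩
        exact ⟨St_irr α, St_one α⟩
    rw [this, Finset.card_image_of_injective _ St_inj, Finset.card_univ, card_mulChar]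
  · have : (irrFinset (Matrix.GeneralLinearGroup (Fin 2) F)).filter
        (fun χ => χ 1 = (Fintype.card F : ℂ) + 1) =
        (Finset.univ : Finset {s : Sym2 (MulChar F ℂ) // ¬ s.IsDiag}).image
          (fun s => Rsym (F := F) s.1) := by
      ext χ
      rw [Finset.mem_filter, Finset.mem_image, mem_irrFinset]
      constructor
      · rintro ⟨hχ, h1⟩
        rw [e1] at h1
        rcases deg_cases χ hχ with ⟨α, -, h⟩ | ⟨α, -, h⟩ | ⟨α, β, hne, h, -⟩ | ⟨-, h⟩
        · have := nat_of_deg h1 h; omega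
        · have := nat_of_deg h1 h; omega
        · exact ⟨⟨s(α, β), by rw [Sym2.mk_isDiag_iff]; exact hne⟩, Finset.mem_univ _, h.symm⟩
        · have := nat_of_deg h1 h; omega
      · rintro ⟨s, -, rfl⟩
        exact ⟨Rsym_irr s.1 s.2, Rsym_one s.1⟩
    rw [this, Finset.card_image_of_injective _ (fun s t h => Subtype.ext (Rsym_inj h)),
      Finset.card_univ]
    have h3 := Sym2.card_subtype_not_diag (α := MulChar F ℂ)
    rw [card_mulChar, Nat.choose_two_right] at h3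
    rw [Nat.sub_sub] at h3
    convert h3
  · have : (irrFinset (Matrix.GeneralLinearGroup (Fin 2) F)).filter
        (fun χ => χ 1 = (Fintype.card F : ℂ) - 1) =
        (irrFinset (Matrix.GeneralLinearGroup (Fin 2) F)) \ Jset F := by
      ext χ
      rw [Finset.mem_filter, Finset.mem_sdiff, mem_irrFinset]
      constructor
      · rintro ⟨hχ, h1⟩
        rw [e2] at h1
        refine ⟨hχ, ?_⟩
        intro hJ
        unfold Jset at hJ
        obtain ⟨i, -, rfl⟩ := Finset.mem_image.mp hJ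
        have h2 := fam_one i
        have := nat_of_deg h1 h2
        rcases i with α | α | s <;> simp only [fdeg] at this <;> omega
      · rintro ⟨hχ, hJ⟩
        refine ⟨hχ, ?_⟩
        rcases cusp_or_fam χ hχ with ⟨i, hi⟩ | h
        · exfalso
          apply hJ
          unfold Jset
          rw [hi]
          exact Finset.mem_image_of_mem _ (Finset.mem_univ _)
        · rw [(dg_spec hχ).2, cusp_deg χ hχ h, e2]
    rw [this]
    have := (cusp_core (F := F)).2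
    omega


omit [Fintype F] [DecidableEq F] in
theorem eq_TG0_of_diag (g : Matrix.GeneralLinearGroup (Fin 2) F)
    (h01 : (g : Matrix (Fin 2) (Fin 2) F) 0 1 = 0) (h10 : (g : Matrix (Fin 2) (Fin 2) F) 1 0 = 0) :
    ∃ a d : Fˣ, (a : F) = (g : Matrix (Fin 2) (Fin 2) F) 0 0 ∧
      (d : F) = (g : Matrix (Fin 2) (Fin 2) F) 1 1 ∧ g = TG0 a d 0 := by
  have hdet : (g : Matrix (Fin 2) (Fin 2) F).det ≠ 0 :=
    ((Matrix.isUnit_iff_isUnit_det _).mp (Units.isUnit g)).ne_zero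
  rw [Matrix.det_fin_two, h01, zero_mul, sub_zero] at hdet
  refine ⟨Units.mk0 _ (left_ne_zero_of_mul hdet), Units.mk0 _ (right_ne_zero_of_mul hdet), rfl, rfl, ?_⟩
  apply Units.ext
  rw [TG0_val]
  ext i j
  fin_cases i <;> fin_cases j <;> simp [h01, h10]

theorem S2309_main (χ : Matrix.GeneralLinearGroup (Fin 2) F → ℂ)
    (hχ : Cfsg.IsIrrCharacter (Matrix.GeneralLinearGroup (Fin 2) F) χ)
    (g : Matrix.GeneralLinearGroup (Fin 2) F) :
    (χ 1 = (Fintype.card F : ℂ) - 1 → (g : Matrix (Fin 2) (Fin 2) F) 0 1 = 0 → (g : Matrix (Fin 2) (Fin 2) F) 1 0 = 0 → (g : Matrix (Fin 2) (Fin 2) F) 0 0 ≠ (g : Matrix (Fin 2) (Fin 2) F) 1 1 → χ g = 0) ∧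
    (χ 1 = (Fintype.card F : ℂ) + 1 → (∀ (c : F) (v : Fin 2 → F), v ≠ 0 → (g : Matrix (Fin 2) (Fin 2) F).mulVec v ≠ c • v) → χ g = 0) := by
  have hq : 1 < Fintype.card F := Fintype.one_lt_card
  have e1 : ((Fintype.card F : ℂ) + 1) = ((Fintype.card F + 1 : ℕ) : ℂ) := by push_cast; ring
  have e2 : ((Fintype.card F : ℂ) - 1) = ((Fintype.card F - 1 : ℕ) : ℂ) := by
    rw [Nat.cast_sub Fintype.card_pos]; simp
  constructor
  · intro h1 h01 h10 hne
    rw [e2] at h1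
    obtain ⟨a, d, ha, hd, rfl⟩ := eq_TG0_of_diag g h01 h10
    have had : a ≠ d := by
      intro h
      apply hne
      rw [← ha, ← hd, h]
    rcases deg_cases χ hχ with ⟨α, -, h⟩ | ⟨α, -, h⟩ | ⟨α, β, -, -, h⟩ | ⟨hc, -⟩
    · exfalso
      have h2 := nat_of_deg h1 h
      have hcard : Fintype.card Fˣ = 1 := by rw [Fintype.card_units]; omega
      have : Subsingleton Fˣ := Fintype.card_le_one_iff_subsingleton.mp hcard.le
      exact had (Subsingleton.elim a d)
    · have := nat_of_deg h1 h; omega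
    · have := nat_of_deg h1 h; omega
    · exact cusp_regular χ (IsCharacter.isClassFunction (IsIrrCharacter.isCharacter hχ)) hc a d had
  · intro h1 hno
    rw [e1] at h1
    rcases deg_cases χ hχ with ⟨α, -, h⟩ | ⟨α, -, h⟩ | ⟨α, β, -, rfl, -⟩ | ⟨-, h⟩
    · have := nat_of_deg h1 h; omega
    · have := nat_of_deg h1 h; omega
    · rw [Rab_apply]
      exact bsum_no_eigen _ _ hno
    · have := nat_of_deg h1 h; omega

omit [Fintype F] [DecidableEq F] in
theorem lam_apply_det (α : MulChar F ℂ) (g : Matrix.GeneralLinearGroup (Fin 2) F) :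
    lam α g = α ((g : Matrix (Fin 2) (Fin 2) F).det) := by
  rw [lam, Matrix.GeneralLinearGroup.val_det_apply]

theorem S2310_main (hq : 3 ≤ Fintype.card F) (χ : Matrix.GeneralLinearGroup (Fin 2) F → ℂ)
    (hχ : Cfsg.IsIrrCharacter (Matrix.GeneralLinearGroup (Fin 2) F) χ)
    (u : Matrix.GeneralLinearGroup (Fin 2) F) (hu : (u : Matrix (Fin 2) (Fin 2) F) = !![1, 1; 0, 1]) :
    (χ 1 = 1 → χ u = 1) ∧ (χ 1 = (Fintype.card F : ℂ) + 1 → χ u = 1) ∧
    (χ 1 = (Fintype.card F : ℂ) - 1 → χ u = -1) ∧ (χ 1 = (Fintype.card F : ℂ) → χ u = 0) := by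
  have e1 : ((Fintype.card F : ℂ) + 1) = ((Fintype.card F + 1 : ℕ) : ℂ) := by push_cast; ring
  have e2 : ((Fintype.card F : ℂ) - 1) = ((Fintype.card F - 1 : ℕ) : ℂ) := by
    rw [Nat.cast_sub Fintype.card_pos]; simp
  have e0 : (1 : ℂ) = ((1 : ℕ) : ℂ) := by simp
  have hlam : ∀ α : MulChar F ℂ, lam α u = 1 := by
    intro α
    rw [lam_apply_det, hu, Matrix.det_fin_two]
    simp
  have hRab : ∀ α β : MulChar F ℂ, Rab α β u = 1 := by
    intro α β
    rw [Rab_apply, hu, bsum_unip _ _ (by simp) (by simp) (by simp)]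
    simp
  have huT : u = TG0 1 1 1 := by
    apply Units.ext
    rw [hu, TG0_val]
    simp
  refine ⟨?_, ?_, ?_, ?_⟩
  · intro h1
    rw [e0] at h1
    rcases deg_cases χ hχ with ⟨α, rfl, -⟩ | ⟨α, -, h⟩ | ⟨α, β, -, -, h⟩ | ⟨-, h⟩
    · exact hlam α
    · have := nat_of_deg h1 h; omega
    · have := nat_of_deg h1 h; omega
    · have := nat_of_deg h1 h; omega
  · intro h1
    rw [e1] at h1
    rcases deg_cases χ hχ with ⟨α, -, h⟩ | ⟨α, -, h⟩ | ⟨α, β, -, rfl, -⟩ | ⟨-, h⟩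
    · have := nat_of_deg h1 h; omega
    · have := nat_of_deg h1 h; omega
    · exact hRab α β
    · have := nat_of_deg h1 h; omega
  · intro h1
    rcases deg_cases χ hχ with ⟨α, -, h⟩ | ⟨α, -, h⟩ | ⟨α, β, -, -, h⟩ | ⟨hc, -⟩
    · rw [e2] at h1; have := nat_of_deg h1 h; omega
    · rw [e2] at h1; have := nat_of_deg h1 h; omega
    · rw [e2] at h1; have := nat_of_deg h1 h; omega
    · have h2 := cusp_unip χ (IsCharacter.isClassFunction (IsIrrCharacter.isCharacter hχ)) hc 1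
      have h3 : (TG0 1 1 0 : Matrix.GeneralLinearGroup (Fin 2) F) = 1 := by
        apply Units.ext
        rw [TG0_val]
        simp [Matrix.one_fin_two]
      rw [h3, ← huT, h1] at h2
      have hne : (Fintype.card F : ℂ) - 1 ≠ 0 := by
        rw [e2]
        have : Fintype.card F - 1 ≠ 0 := by omega
        exact_mod_cast this
      have : ((Fintype.card F : ℂ) - 1) * (1 + χ u) = 0 := by linear_combination h2
      rcases mul_eq_zero.mp this with h | h
      · exact absurd h hne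
      · linear_combination h
  · intro h1
    have h1' : χ 1 = ((Fintype.card F : ℕ) : ℂ) := h1
    rcases deg_cases χ hχ with ⟨α, -, h⟩ | ⟨α, rfl, -⟩ | ⟨α, β, -, -, h⟩ | ⟨-, h⟩
    · have := nat_of_deg h1' h; omega
    · rw [St, Pi.sub_apply, hRab, hlam, sub_self]
    · have := nat_of_deg h1' h; omega
    · have := nat_of_deg h1' h; omega

omit [Fintype F] [DecidableEq F] in
theorem norm_mulChar_unit [Finite F] (α : MulChar F ℂ) (a : F) (ha : a ≠ 0) : ‖α a‖ = 1 := by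
  have h1 : conj (α a) * α a = 1 := by
    rw [starRingEnd_apply, MulChar.star_apply', ← MulChar.mul_apply, inv_mul_cancel,
      MulChar.one_apply (IsUnit.mk0 a ha)]
  have h2 : Complex.normSq (α a) = 1 := by
    have := Complex.mul_conj (α a)
    rw [mul_comm, h1] at this
    exact_mod_cast this.symm
  rw [← Complex.sq_norm] at h2
  have hnn : 0 ≤ ‖α a‖ := norm_nonneg _
  nlinarith

theorem S2320_main (χ : Matrix.GeneralLinearGroup (Fin 2) F → ℂ)
    (hχ : Cfsg.IsIrrCharacter (Matrix.GeneralLinearGroup (Fin 2) F) χ)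
    (hdeg : χ 1 = (Fintype.card F : ℂ)) (g : Matrix.GeneralLinearGroup (Fin 2) F) :
    ((g : Matrix (Fin 2) (Fin 2) F) 0 1 = 0 → (g : Matrix (Fin 2) (Fin 2) F) 1 0 = 0 → (g : Matrix (Fin 2) (Fin 2) F) 0 0 ≠ (g : Matrix (Fin 2) (Fin 2) F) 1 1 → ‖χ g‖ = 1) ∧
    ((∀ (c : F) (v : Fin 2 → F), v ≠ 0 → (g : Matrix (Fin 2) (Fin 2) F).mulVec v ≠ c • v) → ‖χ g‖ = 1) := by
  have hq : 1 < Fintype.card F := Fintype.one_lt_card
  have h1' : χ 1 = ((Fintype.card F : ℕ) : ℂ) := hdeg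
  have hdet : (g : Matrix (Fin 2) (Fin 2) F).det ≠ 0 :=
    ((Matrix.isUnit_iff_isUnit_det _).mp (Units.isUnit g)).ne_zero
  obtain ⟨α, rfl⟩ : ∃ α, χ = St α := by
    rcases deg_cases χ hχ with ⟨α, -, h⟩ | ⟨α, h, -⟩ | ⟨α, β, -, -, h⟩ | ⟨-, h⟩
    · have := nat_of_deg h1' h; omega
    · exact ⟨α, h⟩
    · have := nat_of_deg h1' h; omega
    · have := nat_of_deg h1' h; omega
  constructor
  · intro h01 h10 hne
    rw [St, Pi.sub_apply, Rab_apply, bsum_tri _ _ h10 hne, lam_apply_det, Matrix.det_fin_two, h01,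
      zero_mul, sub_zero, map_mul]
    rw [Matrix.det_fin_two, h01, zero_mul, sub_zero] at hdet
    have : α ((g : Matrix (Fin 2) (Fin 2) F) 0 0) * α ((g : Matrix (Fin 2) (Fin 2) F) 1 1) +
        α ((g : Matrix (Fin 2) (Fin 2) F) 1 1) * α ((g : Matrix (Fin 2) (Fin 2) F) 0 0) -
        α ((g : Matrix (Fin 2) (Fin 2) F) 0 0) * α ((g : Matrix (Fin 2) (Fin 2) F) 1 1) =
        α ((g : Matrix (Fin 2) (Fin 2) F) 0 0 * (g : Matrix (Fin 2) (Fin 2) F) 1 1) := by
      rw [map_mul]; ring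
    rw [this]
    exact norm_mulChar_unit α _ hdet
  · intro hno
    rw [St, Pi.sub_apply, Rab_apply, bsum_no_eigen _ _ hno, lam_apply_det, zero_sub, norm_neg]
    exact norm_mulChar_unit α _ hdet

end Cfsg.Agent.Lib.Helper4_GL2Table
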