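import Mathlib
import Cfsg.Prelude.Def_Characters
import Cfsg.Prelude.Def_ParabolicCharacters
import Cfsg.Agent.Lib.Helper2_ClassFn
import Cfsg.Agent.Lib.Helper2_CharOrtho
import Cfsg.Agent.Lib.Helper2_CharInd
import Cfsg.Agent.Lib.Helper2_CharBasic
import Cfsg.Agent.Lib.Helper2_CharNorm
import Cfsg.Agent.Lib.Helper2_CharMore
import Cfsg.Agent.Lib.Helper2_CharExtra
import Cfsg.Agent.Lib.Helper4_BorelInd
import Cfsg.Agent.Lib.Helper4_BorelInner
import Cfsg.Agent.Lib.Helper4_BorelIndGL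
import Cfsg.Agent.Lib.Helper4_BorelInnerGL

namespace Cfsg.Agent.Lib.Helper4_SL2HalfChars
open Matrix Cfsg Cfsg.Agent.Lib.Helper2_ClassFn Cfsg.Agent.Lib.Helper2_CharOrtho
  Cfsg.Agent.Lib.Helper2_CharBasic Cfsg.Agent.Lib.Helper2_CharNorm
  Cfsg.Agent.Lib.Helper4_BorelInd Cfsg.Agent.Lib.Helper4_BorelInner Cfsg.Agent.Lib.Helper4_BorelIndGL
  Cfsg.Agent.Lib.Helper4_BorelInnerGL Cfsg.Agent.Lib.Helper4_SL2Borel
open scoped ComplexConjugate

universe u

theorem char_norm_two {G : Type u} [Group G] [Fintype G] {θ : G → ℂ} (h : IsCharacter G θ)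
    (h2 : classInner θ θ = 2) :
    ∃ μ ν, IsIrrCharacter G μ ∧ IsIrrCharacter G ν ∧ μ ≠ ν ∧ θ = μ + ν := by
  classical
  have hg := IsCharacter.isGeneralizedCharacter h
  obtain ⟨c, hc, hexp⟩ := IsGeneralizedCharacter.exists_int_expansion hg
  have hsum : ∑ ψ ∈ irrFinset G, c ψ ^ 2 = 2 := by
    have := IsGeneralizedCharacter.classInner_self_eq hg c hc
    rw [h2] at this
    exact_mod_cast this.symm
  obtain ⟨μ, hμ, ν, hν, hne, hcμ, hcν, hrest⟩ := exists_of_sum_sq_eq_two _ _ hsum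
  have hμ' := mem_irrFinset.mp hμ
  have hν' := mem_irrFinset.mp hν
  have hθ : θ = (c μ : ℂ) • μ + (c ν : ℂ) • ν := by
    conv_lhs => rw [hexp]
    rw [← Finset.add_sum_erase _ _ hμ, ← Finset.add_sum_erase _ _
      (Finset.mem_erase.mpr ⟨hne.symm, hν⟩)]
    rw [Finset.sum_eq_zero, add_zero]
    intro k hk
    have hk1 := Finset.mem_erase.mp hk
    have hk2 := Finset.mem_erase.mp hk1.2
    rw [hrest k hk2.2 hk2.1 hk1.1]; simp
  have hpos : ∀ ψ, IsIrrCharacter G ψ → 0 ≤ c ψ := by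
    intro ψ hψ
    obtain ⟨n, hn⟩ := IsCharacter.classInner_irr_nat h hψ
    have := hc ψ hψ
    rw [hn] at this
    have : (n : ℤ) = c ψ := by exact_mod_cast this
    omega
  have h1 : c μ = 1 := by
    rcases hcμ with h | h
    · exact h
    · have := hpos μ hμ'; omega
  have h1' : c ν = 1 := by
    rcases hcν with h | h
    · exact h
    · have := hpos ν hν'; omega
  refine ⟨μ, ν, hμ', hν', hne, ?_⟩
  rw [hθ, h1, h1']
  simp

theorem classInner_comp_mulEquiv {A B : Type*} [Group A] [Group B] [Fintype A] [Fintype B]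
    (e : A ≃* B) (φ ψ : B → ℂ) :
    classInner (fun a => φ (e a)) (fun a => ψ (e a)) = classInner φ ψ := by
  rw [classInner_def, classInner_def, Nat.card_congr e.toEquiv]
  congr 1
  exact Fintype.sum_equiv e.toEquiv _ _ (fun a => rfl)

variable {F : Type*} [Field F] [Fintype F] [DecidableEq F]

theorem bsum_one_right (α : MulChar F ℂ) (M : Matrix (Fin 2) (Fin 2) F) (hdet : M.det ≠ 0) :
    bsum (fun x y => α x * (1 : MulChar F ℂ) y) M = bsum (fun x _ => α x) M := by
  rw [Matrix.det_fin_two] at hdet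
  unfold bsum
  congr 1
  · refine Finset.sum_congr rfl fun c _ => ?_
    split_ifs with h
    · have : (M 0 0 + M 0 1 * c) * (M 1 1 - M 0 1 * c) = M 0 0 * M 1 1 - M 0 1 * M 1 0 := by
        linear_combination (M 0 1) * h
      rw [← this] at hdet
      show α _ * (1 : MulChar F ℂ) _ = α _
      rw [MulChar.one_apply (IsUnit.mk0 _ (right_ne_zero_of_mul hdet)), mul_one]
    · rfl
  · split_ifs with h
    · rw [h, zero_mul, sub_zero] at hdet
      show α _ * (1 : MulChar F ℂ) _ = α _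
      rw [MulChar.one_apply (IsUnit.mk0 _ (left_ne_zero_of_mul hdet)), mul_one]
    · rfl


omit [Fintype F] [DecidableEq F] in
theorem toGL_val (s : Matrix.SpecialLinearGroup (Fin 2) F) :
    ((Matrix.SpecialLinearGroup.toGL s : Matrix.GeneralLinearGroup (Fin 2) F) :
      Matrix (Fin 2) (Fin 2) F) = (s : Matrix (Fin 2) (Fin 2) F) := rfl

/-- conjugation of SL₂ by GL₂ -/
def conjSL (x : Matrix.GeneralLinearGroup (Fin 2) F) (s : Matrix.SpecialLinearGroup (Fin 2) F) :
    Matrix.SpecialLinearGroup (Fin 2) F :=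
  ⟨(x : Matrix (Fin 2) (Fin 2) F) * (s : Matrix (Fin 2) (Fin 2) F) *
      ((x⁻¹ : Matrix.GeneralLinearGroup (Fin 2) F) : Matrix (Fin 2) (Fin 2) F), by
    rw [Matrix.det_mul, Matrix.det_mul, s.det_coe, mul_one, ← Matrix.det_mul, ← Units.val_mul,
      mul_inv_cancel]
    simp⟩

omit [Fintype F] [DecidableEq F] in
theorem toGL_conjSL (x : Matrix.GeneralLinearGroup (Fin 2) F)
    (s : Matrix.SpecialLinearGroup (Fin 2) F) :
    Matrix.SpecialLinearGroup.toGL (conjSL x s) = x * Matrix.SpecialLinearGroup.toGL s * x⁻¹ := by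
  apply Units.ext
  rfl

/-- the image of SL₂ in GL₂ -/
abbrev NS (F : Type*) [Field F] : Subgroup (Matrix.GeneralLinearGroup (Fin 2) F) :=
  (Matrix.SpecialLinearGroup.toGL : Matrix.SpecialLinearGroup (Fin 2) F →* _).range

omit [Fintype F] [DecidableEq F] in
theorem NS_normal : (NS F).Normal := by
  constructor
  rintro n ⟨s, rfl⟩ g
  exact ⟨conjSL g s, toGL_conjSL g s⟩

/-- SL₂ ≃ its image -/
noncomputable def eS : Matrix.SpecialLinearGroup (Fin 2) F ≃* NS F :=
  MonoidHom.ofInjective Matrix.SpecialLinearGroup.toGL_injective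

omit [Fintype F] [DecidableEq F] in
theorem eS_val (s : Matrix.SpecialLinearGroup (Fin 2) F) :
    ((eS s : NS F) : Matrix.GeneralLinearGroup (Fin 2) F) = Matrix.SpecialLinearGroup.toGL s := rfl

theorem res_indG (α : MulChar F ℂ) (s : Matrix.SpecialLinearGroup (Fin 2) F) :
    indFun (BG F)
      (fun b => α (((b : Matrix.GeneralLinearGroup (Fin 2) F) : Matrix (Fin 2) (Fin 2) F) 0 0) *
      (1 : MulChar F ℂ) (((b : Matrix.GeneralLinearGroup (Fin 2) F) : Matrix (Fin 2) (Fin 2) F) 1 1))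
      (Matrix.SpecialLinearGroup.toGL s) =
    indFun (Bor F) (fun b => α (((b : Matrix.SpecialLinearGroup (Fin 2) F) :
        Matrix (Fin 2) (Fin 2) F) 0 0)) s := by
  rw [indFun_GL, indFun_SL, toGL_val, bsum_one_right]
  rw [s.det_coe]
  exact one_ne_zero

theorem main (hodd : Odd (Fintype.card F)) (α : MulChar F ℂ)
    (hα : α ^ 2 = 1) (hα1 : α ≠ 1) :
    ∃ χ₁ χ₂ : Matrix.SpecialLinearGroup (Fin 2) F → ℂ, Cfsg.IsIrrCharacter (Matrix.SpecialLinearGroup (Fin 2) F) χ₁ ∧ Cfsg.IsIrrCharacter (Matrix.SpecialLinearGroup (Fin 2) F) χ₂ ∧ χ₁ ≠ χ₂ ∧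
      Cfsg.indFun ((Cfsg.upperTriangularGL 2 F).comap Matrix.SpecialLinearGroup.toGL) (fun b => α (((b : Matrix.SpecialLinearGroup (Fin 2) F) : Matrix (Fin 2) (Fin 2) F) 0 0)) = χ₁ + χ₂ ∧
      χ₁ 1 = (((Fintype.card F + 1) / 2 : ℕ) : ℂ) ∧ χ₂ 1 = (((Fintype.card F + 1) / 2 : ℕ) : ℂ) ∧
      ∃ x : Matrix.GeneralLinearGroup (Fin 2) F, ∀ g h : Matrix.SpecialLinearGroup (Fin 2) F,
        Matrix.SpecialLinearGroup.toGL h = x * Matrix.SpecialLinearGroup.toGL g * x⁻¹ → χ₂ h = χ₁ g := by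
  classical
  have hinv : α = α⁻¹ := by
    rw [pow_two, mul_eq_one_iff_eq_inv] at hα
    exact hα
  have hnorm := inner_SL α α
  rw [if_pos rfl, if_pos hinv] at hnorm
  have hnorm2 : classInner (indFun (Bor F) (fun b => α (((b : Matrix.SpecialLinearGroup (Fin 2) F) :
        Matrix (Fin 2) (Fin 2) F) 0 0))) (indFun (Bor F) (fun b => α (((b : Matrix.SpecialLinearGroup (Fin 2) F) :
        Matrix (Fin 2) (Fin 2) F) 0 0))) = 2 := by
    rw [hnorm]; norm_num
  obtain ⟨μ, ν, hμ, hν, hne, hR⟩ := char_norm_two (isCharacter_indS α) hnorm2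
  haveI : (NS F).Normal := NS_normal
  letI : Fintype (NS F) := Fintype.ofFinite _
  have hθG := irr_indG α 1 hα1
  -- restriction
  have hres : (fun n : NS F => indFun (BG F)
      (fun b => α (((b : Matrix.GeneralLinearGroup (Fin 2) F) : Matrix (Fin 2) (Fin 2) F) 0 0) *
      (1 : MulChar F ℂ) (((b : Matrix.GeneralLinearGroup (Fin 2) F) : Matrix (Fin 2) (Fin 2) F) 1 1)) n) =
      fun n : NS F => (μ + ν) (eS.symm n) := by
    ext n
    obtain ⟨s, rfl⟩ := eS.surjective n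
    rw [MulEquiv.symm_apply_apply, eS_val, res_indG, hR]
  have hμν : classInner μ ν = 0 := classInner_irr_of_ne hμ hν hne
  have hνμ : classInner ν μ = 0 := classInner_irr_of_ne hν hμ hne.symm
  have hc1 : classInner (fun n : NS F => indFun (BG F)
      (fun b => α (((b : Matrix.GeneralLinearGroup (Fin 2) F) : Matrix (Fin 2) (Fin 2) F) 0 0) *
      (1 : MulChar F ℂ) (((b : Matrix.GeneralLinearGroup (Fin 2) F) : Matrix (Fin 2) (Fin 2) F) 1 1)) n)
      (fun n : NS F => μ (eS.symm n)) ≠ 0 := by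
    rw [hres, classInner_comp_mulEquiv eS.symm (μ + ν) μ, classInner_add_left,
      classInner_irr_self hμ, hνμ]
    norm_num
  have hc2 : classInner (fun n : NS F => indFun (BG F)
      (fun b => α (((b : Matrix.GeneralLinearGroup (Fin 2) F) : Matrix (Fin 2) (Fin 2) F) 0 0) *
      (1 : MulChar F ℂ) (((b : Matrix.GeneralLinearGroup (Fin 2) F) : Matrix (Fin 2) (Fin 2) F) 1 1)) n)
      (fun n : NS F => ν (eS.symm n)) ≠ 0 := by
    rw [hres, classInner_comp_mulEquiv eS.symm (μ + ν) ν, classInner_add_left,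
      classInner_irr_self hν, hμν]
    norm_num
  obtain ⟨y, hy⟩ := Cfsg.Agent.Lib.Helper2_CharExtra.clifford_conj_of_constituent (NS F) hθG
    (Cfsg.Agent.Lib.Helper2_CharMore.IsIrrCharacter.comp_mulEquiv hμ eS.symm)
    (Cfsg.Agent.Lib.Helper2_CharMore.IsIrrCharacter.comp_mulEquiv hν eS.symm) hc1 hc2
  have hconj : ∀ s : Matrix.SpecialLinearGroup (Fin 2) F, ν s = μ (conjSL y s) := by
    intro s
    have := congrFun hy (eS s)
    rw [Cfsg.Agent.Lib.Helper2_Clifford.conjFn_apply] at this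
    simp only [MulEquiv.symm_apply_apply] at this
    rw [this]
    congr 1
    apply eS.injective
    rw [MulEquiv.apply_symm_apply]
    apply Subtype.ext
    show y * ((eS s : NS F) : Matrix.GeneralLinearGroup (Fin 2) F) * y⁻¹ =
      ((eS (conjSL y s) : NS F) : Matrix.GeneralLinearGroup (Fin 2) F)
    rw [eS_val, eS_val, toGL_conjSL]
  have hdeg : ν 1 = μ 1 := by
    rw [hconj 1]
    congr 1
    apply Matrix.SpecialLinearGroup.toGL_injective
    rw [toGL_conjSL]
    simp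
  have hsum : μ 1 + ν 1 = (Fintype.card F : ℂ) + 1 := by
    have := congrFun hR 1
    rw [indFun_SL, bsum_scalar _ _ (by simp) (by simp) (by simp)] at this
    simp only [Matrix.SpecialLinearGroup.coe_one, Matrix.one_apply_eq, map_one, mul_one,
      Pi.add_apply] at this
    exact this.symm
  have hhalf : μ 1 = (((Fintype.card F + 1) / 2 : ℕ) : ℂ) := by
    obtain ⟨k, hk⟩ := hodd
    have h2 : (Fintype.card F + 1) / 2 = k + 1 := by omega
    rw [h2]
    rw [hdeg, hk] at hsum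
    push_cast at hsum ⊢
    linear_combination hsum / 2
  refine ⟨μ, ν, hμ, hν, hne, hR, hhalf, hdeg.trans hhalf, y⁻¹, ?_⟩
  intro g h hgh
  rw [hconj h]
  congr 1
  apply Matrix.SpecialLinearGroup.toGL_injective
  rw [toGL_conjSL, hgh]
  group

end Cfsg.Agent.Lib.Helper4_SL2HalfChars
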