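import Mathlib
import Cfsg.Prelude.Def_Characters
import Cfsg.Prelude.Def_ParabolicCharacters
import Cfsg.Agent.Lib.Helper2_ClassFn
import Cfsg.Agent.Lib.Helper2_CharOrtho
import Cfsg.Agent.Lib.Helper2_CharInd
import Cfsg.Agent.Lib.Helper2_CharBasic
import Cfsg.Agent.Lib.Helper2_CharDeg
import Cfsg.Agent.Lib.Helper2_CharCentral
import Cfsg.Agent.Lib.Helper4_SL2Borel
import Cfsg.Agent.Lib.Helper4_BorelInd
import Cfsg.Agent.Lib.Helper4_BorelInner
import Cfsg.Agent.Lib.Helper4_BorelIndGL
import Cfsg.Agent.Lib.Helper4_MulCharDual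
import Cfsg.Agent.Lib.Helper4_SL2Fam
import Cfsg.Agent.Lib.Helper4_GL2Fam
import Cfsg.Agent.Lib.Helper4_GL2Cusp
import Cfsg.Agent.Lib.Helper4_GL2Count
import Cfsg.Agent.Lib.Helper4_SL2HalfChars
import Cfsg.Agent.Lib.Helper4_GL2Table
import Cfsg.Agent.Lib.Helper4_SL2Card
import Cfsg.Agent.Lib.Helper2_CharExtra
import Cfsg.Agent.Lib.Helper2_CharMore

namespace Cfsg.Agent.Lib.Helper4_SL2Res
open Matrix Cfsg Cfsg.Agent.Lib.Helper2_ClassFn Cfsg.Agent.Lib.Helper2_CharOrtho
  Cfsg.Agent.Lib.Helper2_CharBasic Cfsg.Agent.Lib.Helper2_CharDeg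
  Cfsg.Agent.Lib.Helper4_BorelInd Cfsg.Agent.Lib.Helper4_BorelInner Cfsg.Agent.Lib.Helper4_SL2Borel
  Cfsg.Agent.Lib.Helper4_MulCharDual Cfsg.Agent.Lib.Helper4_SL2Fam Cfsg.Agent.Lib.Helper4_GL2Fam
  Cfsg.Agent.Lib.Helper4_GL2Cusp Cfsg.Agent.Lib.Helper4_GL2Count Cfsg.Agent.Lib.Helper4_SL2HalfChars
  Cfsg.Agent.Lib.Helper4_BorelIndGL Cfsg.Agent.Lib.Helper4_GL2Table
open scoped ComplexConjugate

variable {F : Type*} [Field F] [Fintype F] [DecidableEq F]

omit [Fintype F] [DecidableEq F] in
theorem res_lam (α : MulChar F ℂ) :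
    (fun s : Matrix.SpecialLinearGroup (Fin 2) F => lam α (Matrix.SpecialLinearGroup.toGL s)) =
      trivS := by
  ext s
  rw [lam_apply_det, toGL_val, s.det_coe, map_one, trivS]

theorem bsum_res (α β : MulChar F ℂ) (M : Matrix (Fin 2) (Fin 2) F) (hdet : M.det = 1) :
    bsum (fun x y => α x * β y) M = bsum (fun x _ => (α * β⁻¹) x) M := by
  rw [Matrix.det_fin_two] at hdet
  unfold bsum
  congr 1
  · refine Finset.sum_congr rfl fun c _ => ?_
    split_ifs with h
    · have : (M 0 0 + M 0 1 * c) * (M 1 1 - M 0 1 * c) = 1 := by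
        linear_combination (M 0 1) * h + hdet
      show α _ * β _ = (α * β⁻¹) _
      rw [MulChar.mul_apply, MulChar.inv_apply', eq_inv_of_mul_eq_one_right this]
    · rfl
  · split_ifs with h
    · rw [h, zero_mul, sub_zero] at hdet
      show α _ * β _ = (α * β⁻¹) _
      rw [MulChar.mul_apply, MulChar.inv_apply', eq_inv_of_mul_eq_one_left hdet]
    · rfl

theorem res_Rab (α β : MulChar F ℂ) :
    (fun s : Matrix.SpecialLinearGroup (Fin 2) F => Rab α β (Matrix.SpecialLinearGroup.toGL s)) =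
      Rs (α * β⁻¹) := by
  ext s
  rw [Rab_apply, Rs_apply, toGL_val, bsum_res α β _ s.det_coe]

theorem res_St (α : MulChar F ℂ) :
    (fun s : Matrix.SpecialLinearGroup (Fin 2) F => St α (Matrix.SpecialLinearGroup.toGL s)) =
      StS := by
  have h1 := res_Rab α α
  have h2 := res_lam α
  rw [mul_inv_cancel] at h1
  ext s
  rw [St, Pi.sub_apply, StS, Pi.sub_apply, ← h1, ← h2]


/-- number of square roots of one -/
noncomputable def rsq (F : Type*) [Field F] [Fintype F] [DecidableEq F] : ℕ :=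
  (Finset.univ.filter (fun w : Fˣ => w ^ 2 = 1)).card

/-- scalar matrix in GL₂ -/
def scal (z : Fˣ) : Matrix.GeneralLinearGroup (Fin 2) F := TG0 z z 0

omit [Fintype F] [DecidableEq F] in
theorem scal_val (z : Fˣ) : ((scal z : Matrix.GeneralLinearGroup (Fin 2) F) :
    Matrix (Fin 2) (Fin 2) F) = !![(z : F), 0; 0, (z : F)] := rfl

omit [Fintype F] [DecidableEq F] in
theorem scal_comm (z : Fˣ) (g : Matrix.GeneralLinearGroup (Fin 2) F) : scal z * g = g * scal z := by
  apply Units.ext
  rw [Units.val_mul, Units.val_mul, scal_val, Matrix.eta_fin_two (g : Matrix (Fin 2) (Fin 2) F),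
    Matrix.mul_fin_two, Matrix.mul_fin_two]
  ext i j
  fin_cases i <;> fin_cases j <;> simp [mul_comm]

omit [Fintype F] [DecidableEq F] in
theorem det_scal_mul (z : Fˣ) (s : Matrix.SpecialLinearGroup (Fin 2) F) :
    ((scal z * Matrix.SpecialLinearGroup.toGL s : Matrix.GeneralLinearGroup (Fin 2) F) :
      Matrix (Fin 2) (Fin 2) F).det = (z : F) ^ 2 := by
  rw [Units.val_mul, Matrix.det_mul, toGL_val, s.det_coe, mul_one, scal_val, Matrix.det_fin_two]
  simp [pow_two]

theorem fiber_le (g : Matrix.GeneralLinearGroup (Fin 2) F) :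
    (Finset.univ.filter (fun p : Fˣ × Matrix.SpecialLinearGroup (Fin 2) F =>
      scal p.1 * Matrix.SpecialLinearGroup.toGL p.2 = g)).card ≤ rsq F := by
  by_cases hne : (Finset.univ.filter (fun p : Fˣ × Matrix.SpecialLinearGroup (Fin 2) F =>
      scal p.1 * Matrix.SpecialLinearGroup.toGL p.2 = g)).Nonempty
  · obtain ⟨p₀, hp₀⟩ := hne
    rw [Finset.mem_filter] at hp₀
    unfold rsq
    apply Finset.card_le_card_of_injOn (fun p => p.1 / p₀.1)
    · intro p hp
      rw [Finset.mem_coe, Finset.mem_filter] at hp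
      rw [Finset.mem_coe, Finset.mem_filter]
      refine ⟨Finset.mem_univ _, ?_⟩
      have h1 := det_scal_mul p.1 p.2
      have h2 := det_scal_mul p₀.1 p₀.2
      rw [hp.2] at h1
      rw [hp₀.2] at h2
      apply Units.ext
      rw [div_pow, Units.val_div_eq_div_val, Units.val_pow_eq_pow_val, Units.val_pow_eq_pow_val,
        ← h1, ← h2, Units.val_one]
      exact div_self (by rw [h2]; exact pow_ne_zero 2 (Units.ne_zero _))
    · intro p hp p' hp' h
      rw [Finset.mem_coe, Finset.mem_filter] at hp hp'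
      simp only at h
      have hz : p.1 = p'.1 := div_left_injective h
      have hs : p.2 = p'.2 := by
        apply Matrix.SpecialLinearGroup.toGL_injective
        have := hp.2.trans hp'.2.symm
        rw [hz] at this
        exact mul_left_cancel this
      exact Prod.ext hz hs
  · rw [Finset.not_nonempty_iff_eq_empty] at hne
    rw [hne]
    simp


theorem normSq_central_mul {G : Type*} [Group G] [Finite G] {χ : G → ℂ} (hχ : IsIrrCharacter G χ)
    (z : G) (hz : ∀ g : G, z * g = g * z) (w : G) :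
    Complex.normSq (χ (z * w)) = Complex.normSq (χ w) := by
  have h1 := Cfsg.Agent.Lib.Helper2_CharCentral.apply_central_mul hχ z hz w
  have h2 := Cfsg.Agent.Lib.Helper2_CharCentral.apply_central_mul hχ z hz z⁻¹
  rw [mul_inv_cancel, IsCharacter.apply_inv (IsIrrCharacter.isCharacter hχ)] at h2
  obtain ⟨n, hn, hn1⟩ := IsIrrCharacter.apply_one hχ
  have hn0 : (n : ℂ) ≠ 0 := by exact_mod_cast hn.ne'
  rw [hn1] at h1 h2
  have h3 : Complex.normSq (χ z) = (n : ℝ) ^ 2 := by
    have : χ z * conj (χ z) = (n : ℂ) ^ 2 := by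
      field_simp at h2
      exact h2.symm
    rw [Complex.mul_conj] at this
    exact_mod_cast this
  rw [h1, map_div₀, map_mul, h3, Complex.normSq_natCast]
  have : (n : ℝ) ≠ 0 := by exact_mod_cast hn.ne'
  field_simp

theorem sum_normSq_irr {G : Type*} [Group G] [Fintype G] {χ : G → ℂ} (hχ : IsIrrCharacter G χ) :
    ∑ g : G, Complex.normSq (χ g) = (Nat.card G : ℝ) := by
  have := classInner_irr_self hχ
  rw [classInner_def] at this
  have hG := card_ne_zero_complex (G := G)
  have h2 : ∑ g : G, χ g * conj (χ g) = (Nat.card G : ℂ) := by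
    field_simp at this
    exact this
  have h3 : ∑ g : G, χ g * conj (χ g) = ((∑ g : G, Complex.normSq (χ g) : ℝ) : ℂ) := by
    push_cast
    refine Finset.sum_congr rfl fun g _ => ?_
    rw [Complex.mul_conj]
  rw [h3] at h2
  exact_mod_cast h2

theorem res_norm_le (χ : Matrix.GeneralLinearGroup (Fin 2) F → ℂ)
    (hχ : IsIrrCharacter (Matrix.GeneralLinearGroup (Fin 2) F) χ) :
    ∑ s : Matrix.SpecialLinearGroup (Fin 2) F,
      Complex.normSq (χ (Matrix.SpecialLinearGroup.toGL s)) ≤
      (rsq F : ℝ) * (Nat.card (Matrix.SpecialLinearGroup (Fin 2) F) : ℝ) := by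
  have hq : 1 < Fintype.card F := Fintype.one_lt_card
  have h1 : ∑ p : Fˣ × Matrix.SpecialLinearGroup (Fin 2) F,
      Complex.normSq (χ (scal p.1 * Matrix.SpecialLinearGroup.toGL p.2)) =
      ((Fintype.card F : ℝ) - 1) * ∑ s : Matrix.SpecialLinearGroup (Fin 2) F,
        Complex.normSq (χ (Matrix.SpecialLinearGroup.toGL s)) := by
    rw [Fintype.sum_prod_type]
    simp only [normSq_central_mul hχ (scal _) (scal_comm _)]
    rw [Finset.sum_const, Finset.card_univ, Fintype.card_units, nsmul_eq_mul,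
      Nat.cast_sub Fintype.card_pos]
    simp
  have h2 : ∑ p : Fˣ × Matrix.SpecialLinearGroup (Fin 2) F,
      Complex.normSq (χ (scal p.1 * Matrix.SpecialLinearGroup.toGL p.2)) ≤
      (rsq F : ℝ) * ∑ g : Matrix.GeneralLinearGroup (Fin 2) F, Complex.normSq (χ g) := by
    rw [← Finset.sum_fiberwise Finset.univ
      (fun p : Fˣ × Matrix.SpecialLinearGroup (Fin 2) F =>
        scal p.1 * Matrix.SpecialLinearGroup.toGL p.2), Finset.mul_sum]
    apply Finset.sum_le_sum
    intro g _
    have : ∀ p ∈ Finset.univ.filter (fun p : Fˣ × Matrix.SpecialLinearGroup (Fin 2) F =>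
        scal p.1 * Matrix.SpecialLinearGroup.toGL p.2 = g),
        Complex.normSq (χ (scal p.1 * Matrix.SpecialLinearGroup.toGL p.2)) =
          Complex.normSq (χ g) := by
      intro p hp
      rw [(Finset.mem_filter.mp hp).2]
    rw [Finset.sum_congr rfl this, Finset.sum_const, nsmul_eq_mul]
    apply mul_le_mul_of_nonneg_right _ (Complex.normSq_nonneg _)
    exact_mod_cast fiber_le g
  rw [h1, sum_normSq_irr hχ, card_GL2] at h2
  have hS := Cfsg.Agent.Lib.Helper4_SL2Card.card_SL2 (F := F)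
  rw [hS]
  have hq1 : (0 : ℝ) < (Fintype.card F : ℝ) - 1 := by
    have : (1 : ℝ) < Fintype.card F := by exact_mod_cast hq
    linarith
  have e : (((Fintype.card F ^ 2 - 1) * (Fintype.card F ^ 2 - Fintype.card F) : ℕ) : ℝ) =
      ((Fintype.card F : ℝ) - 1) * ((Fintype.card F * (Fintype.card F ^ 2 - 1) : ℕ) : ℝ) := by
    have h3 : 1 ≤ Fintype.card F ^ 2 := Nat.one_le_pow _ _ Fintype.card_pos
    have h4 : Fintype.card F ≤ Fintype.card F ^ 2 := by nlinarith
    rw [Nat.cast_mul, Nat.cast_mul, Nat.cast_sub h3, Nat.cast_sub h4]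
    push_cast
    ring
  rw [e] at h2
  have h5 : ((Fintype.card F : ℝ) - 1) * ∑ s : Matrix.SpecialLinearGroup (Fin 2) F,
      Complex.normSq (χ (Matrix.SpecialLinearGroup.toGL s)) ≤
      ((Fintype.card F : ℝ) - 1) * ((rsq F : ℝ) * ((Fintype.card F * (Fintype.card F ^ 2 - 1) : ℕ) : ℝ)) := by
    calc _ ≤ _ := h2
      _ = _ := by ring
  exact le_of_mul_le_mul_left h5 hq1


theorem exists_over (ξ : Matrix.SpecialLinearGroup (Fin 2) F → ℂ)
    (hξ : IsIrrCharacter (Matrix.SpecialLinearGroup (Fin 2) F) ξ) :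
    ∃ χ : Matrix.GeneralLinearGroup (Fin 2) F → ℂ,
      IsIrrCharacter (Matrix.GeneralLinearGroup (Fin 2) F) χ ∧
      classInner ξ (fun s => χ (Matrix.SpecialLinearGroup.toGL s)) ≠ 0 := by
  classical
  haveI : (NS F).Normal := NS_normal
  letI : Fintype (NS F) := Fintype.ofFinite _
  have hξ' : IsIrrCharacter (NS F) (fun n => ξ (eS.symm n)) :=
    Cfsg.Agent.Lib.Helper2_CharMore.IsIrrCharacter.comp_mulEquiv hξ eS.symm
  have hΦ : IsCharacter (Matrix.GeneralLinearGroup (Fin 2) F)
      (indFun (NS F) (fun n => ξ (eS.symm n))) :=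
    Cfsg.Agent.Lib.Helper2_CharInd.IsCharacter.indFun (IsIrrCharacter.isCharacter hξ')
  have hΦ0 : indFun (NS F) (fun n => ξ (eS.symm n)) ≠ 0 := by
    intro h0
    have h1 := congrFun h0 1
    rw [indFun_one, Pi.zero_apply] at h1
    rcases mul_eq_zero.mp h1 with h | h
    · have : (NS F).index ≠ 0 := Subgroup.index_ne_zero_of_finite
      exact this (by exact_mod_cast h)
    · have h2 : eS.symm (1 : NS F) = (1 : Matrix.SpecialLinearGroup (Fin 2) F) := map_one _
      rw [h2] at h
      exact IsIrrCharacter.apply_one_ne_zero hξ h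
  obtain ⟨χ, hχ, n, hn, hinner⟩ := IsCharacter.exists_constituent hΦ hΦ0
  refine ⟨χ, hχ, ?_⟩
  rw [frobenius_reciprocity (NS F) _ _ (IsCharacter.isClassFunction
    (IsIrrCharacter.isCharacter hχ))] at hinner
  have h3 := classInner_comp_mulEquiv eS (fun n : NS F => ξ (eS.symm n)) (fun h : NS F => χ h)
  simp only [MulEquiv.symm_apply_apply] at h3
  have h4 : (fun a : Matrix.SpecialLinearGroup (Fin 2) F => χ ((eS a : NS F) :
      Matrix.GeneralLinearGroup (Fin 2) F)) = fun s => χ (Matrix.SpecialLinearGroup.toGL s) := by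
    ext a
    rw [eS_val]
  rw [h4] at h3
  rw [h3, hinner]
  exact_mod_cast hn.ne'

theorem cusp_over (ξ : Matrix.SpecialLinearGroup (Fin 2) F → ℂ)
    (hξ : IsIrrCharacter (Matrix.SpecialLinearGroup (Fin 2) F) ξ) (hc : IsCuspS ξ)
    (χ : Matrix.GeneralLinearGroup (Fin 2) F → ℂ)
    (hχ : IsIrrCharacter (Matrix.GeneralLinearGroup (Fin 2) F) χ)
    (hne : classInner ξ (fun s => χ (Matrix.SpecialLinearGroup.toGL s)) ≠ 0) : IsCusp χ := by
  classical
  have h1 : classInner ξ trivS = 0 := by
    have := hc 1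
    rw [Rs_triv, classInner_add_right, classInner_irr hξ trivS_irr, classInner_irr hξ StS_irr] at this
    rw [classInner_irr hξ trivS_irr]
    split_ifs at this ⊢ <;> first | rfl | (norm_num at this)
  have h2 : classInner ξ StS = 0 := by
    have := hc 1
    rw [Rs_triv, classInner_add_right, classInner_irr hξ trivS_irr, classInner_irr hξ StS_irr] at this
    rw [classInner_irr hξ StS_irr]
    split_ifs at this ⊢ <;> first | rfl | (norm_num at this)
  rcases dichotomy χ hχ with ⟨α, rfl⟩ | ⟨α, rfl⟩ | ⟨α, β, -, rfl⟩ | h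
  · exfalso
    rw [res_lam] at hne
    exact hne h1
  · exfalso
    rw [res_St] at hne
    exact hne h2
  · exfalso
    rw [res_Rab] at hne
    exact hne (hc _)
  · exact h


theorem rsq_le_two : rsq F ≤ 2 := by
  unfold rsq
  have : Finset.univ.filter (fun w : Fˣ => w ^ 2 = 1) ⊆ ({1, -1} : Finset Fˣ) := by
    intro w hw
    rw [Finset.mem_filter] at hw
    rw [Finset.mem_insert, Finset.mem_singleton]
    have h1 : ((w : F) - 1) * ((w : F) + 1) = 0 := by
      have := congrArg (fun u : Fˣ => (u : F)) hw.2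
      simp only [Units.val_pow_eq_pow_val, Units.val_one] at this
      linear_combination this
    rcases mul_eq_zero.mp h1 with h | h
    · left; exact Units.ext (by rw [Units.val_one]; linear_combination h)
    · right; exact Units.ext (by rw [Units.val_neg, Units.val_one]; linear_combination h)
  exact (Finset.card_le_card this).trans Finset.card_le_two

theorem rsq_char_two [CharP F 2] : rsq F = 1 := by
  unfold rsq
  have : Finset.univ.filter (fun w : Fˣ => w ^ 2 = 1) = {1} := by
    ext w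
    rw [Finset.mem_filter, Finset.mem_singleton]
    constructor
    · rintro ⟨-, hw⟩
      have h1 : ((w : F) - 1) ^ 2 = 0 := by
        have := congrArg (fun u : Fˣ => (u : F)) hw
        simp only [Units.val_pow_eq_pow_val, Units.val_one] at this
        rw [sub_pow_char_of_commute 2 (Commute.all _ _), this]
        simp
      exact Units.ext (by rw [Units.val_one]; exact sub_eq_zero.mp (pow_eq_zero_iff (by norm_num) |>.mp h1))
    · rintro rfl
      exact ⟨Finset.mem_univ _, one_pow 2⟩
  rw [this, Finset.card_singleton]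

theorem rsq_odd (h2 : (2 : F) ≠ 0) : rsq F = 2 := by
  unfold rsq
  have : Finset.univ.filter (fun w : Fˣ => w ^ 2 = 1) = {1, -1} := by
    ext w
    rw [Finset.mem_filter, Finset.mem_insert, Finset.mem_singleton]
    constructor
    · rintro ⟨-, hw⟩
      have h1 : ((w : F) - 1) * ((w : F) + 1) = 0 := by
        have := congrArg (fun u : Fˣ => (u : F)) hw
        simp only [Units.val_pow_eq_pow_val, Units.val_one] at this
        linear_combination this
      rcases mul_eq_zero.mp h1 with h | h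
      · left; exact Units.ext (by rw [Units.val_one]; linear_combination h)
      · right; exact Units.ext (by rw [Units.val_neg, Units.val_one]; linear_combination h)
    · rintro (rfl | rfl)
      · exact ⟨Finset.mem_univ _, one_pow 2⟩
      · exact ⟨Finset.mem_univ _, by simp⟩
  rw [this, Finset.card_pair]
  intro h
  have := congrArg (fun u : Fˣ => (u : F)) h
  simp only [Units.val_one, Units.val_neg] at this
  apply h2
  linear_combination this

theorem res_cases (χ : Matrix.GeneralLinearGroup (Fin 2) F → ℂ)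
    (hχ : IsIrrCharacter (Matrix.GeneralLinearGroup (Fin 2) F) χ) :
    IsIrrCharacter (Matrix.SpecialLinearGroup (Fin 2) F)
      (fun s => χ (Matrix.SpecialLinearGroup.toGL s)) ∨
    (rsq F = 2 ∧ ∃ μ ν, IsIrrCharacter (Matrix.SpecialLinearGroup (Fin 2) F) μ ∧
      IsIrrCharacter (Matrix.SpecialLinearGroup (Fin 2) F) ν ∧ μ ≠ ν ∧
      (fun s => χ (Matrix.SpecialLinearGroup.toGL s)) = μ + ν ∧ ν 1 = μ 1) := by
  classical
  have hψ : IsCharacter (Matrix.SpecialLinearGroup (Fin 2) F)
      (fun s => χ (Matrix.SpecialLinearGroup.toGL s)) :=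
    IsCharacter.comp_hom (IsIrrCharacter.isCharacter hχ) Matrix.SpecialLinearGroup.toGL
  obtain ⟨n, hn⟩ := Cfsg.Agent.Lib.Helper2_CharInd.IsCharacter.classInner_nat hψ hψ
  have hn0 : n ≠ 0 := by
    intro h0
    rw [h0, Nat.cast_zero, classInner_self_eq_zero] at hn
    have := congrFun hn 1
    simp only [map_one, Pi.zero_apply] at this
    exact IsIrrCharacter.apply_one_ne_zero hχ this
  have hle : n ≤ rsq F := by
    have h1 := res_norm_le χ hχ
    have h2 : (n : ℂ) = (Nat.card (Matrix.SpecialLinearGroup (Fin 2) F) : ℂ)⁻¹ *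
        ((∑ s : Matrix.SpecialLinearGroup (Fin 2) F,
          Complex.normSq (χ (Matrix.SpecialLinearGroup.toGL s)) : ℝ) : ℂ) := by
      rw [← hn, classInner_def]
      congr 1
      push_cast
      refine Finset.sum_congr rfl fun s _ => ?_
      rw [Complex.mul_conj]
    have hS : (0 : ℝ) < (Nat.card (Matrix.SpecialLinearGroup (Fin 2) F) : ℝ) := by
      exact_mod_cast Nat.card_pos
    have h3 : (n : ℝ) = (Nat.card (Matrix.SpecialLinearGroup (Fin 2) F) : ℝ)⁻¹ *
        ∑ s : Matrix.SpecialLinearGroup (Fin 2) F,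
          Complex.normSq (χ (Matrix.SpecialLinearGroup.toGL s)) := by
      have : ((n : ℝ) : ℂ) = (((Nat.card (Matrix.SpecialLinearGroup (Fin 2) F) : ℝ)⁻¹ *
        ∑ s : Matrix.SpecialLinearGroup (Fin 2) F,
          Complex.normSq (χ (Matrix.SpecialLinearGroup.toGL s)) : ℝ) : ℂ) := by
        push_cast
        push_cast at h2
        exact h2
      exact_mod_cast this
    have h4 : (n : ℝ) ≤ (rsq F : ℝ) := by
      rw [h3, inv_mul_le_iff₀ hS]
      calc _ ≤ _ := h1
        _ = _ := by ring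
    exact_mod_cast h4
  have hr := rsq_le_two (F := F)
  have hn12 : n = 1 ∨ n = 2 := by omega
  rcases hn12 with rfl | rfl
  · left
    apply IsCharacter.isIrr_of_norm_one hψ
    rw [hn]; simp
  · right
    refine ⟨by omega, ?_⟩
    obtain ⟨μ, ν, hμ, hν, hne, hR⟩ := char_norm_two hψ (by rw [hn]; simp)
    refine ⟨μ, ν, hμ, hν, hne, hR, ?_⟩
    haveI : (NS F).Normal := NS_normal
    letI : Fintype (NS F) := Fintype.ofFinite _
    have hres : (fun n : NS F => χ n) = fun n : NS F => (μ + ν) (eS.symm n) := by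
      ext n
      obtain ⟨s, rfl⟩ := eS.surjective n
      rw [MulEquiv.symm_apply_apply, eS_val, ← hR]
    have hμν : classInner μ ν = 0 := classInner_irr_of_ne hμ hν hne
    have hνμ : classInner ν μ = 0 := classInner_irr_of_ne hν hμ hne.symm
    have hc1 : classInner (fun n : NS F => χ n) (fun n : NS F => μ (eS.symm n)) ≠ 0 := by
      rw [hres, classInner_comp_mulEquiv eS.symm (μ + ν) μ, classInner_add_left,
        classInner_irr_self hμ, hνμ]
      norm_num
    have hc2 : classInner (fun n : NS F => χ n) (fun n : NS F => ν (eS.symm n)) ≠ 0 := by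
      rw [hres, classInner_comp_mulEquiv eS.symm (μ + ν) ν, classInner_add_left,
        classInner_irr_self hν, hμν]
      norm_num
    obtain ⟨y, hy⟩ := Cfsg.Agent.Lib.Helper2_CharExtra.clifford_conj_of_constituent (NS F) hχ
      (Cfsg.Agent.Lib.Helper2_CharMore.IsIrrCharacter.comp_mulEquiv hμ eS.symm)
      (Cfsg.Agent.Lib.Helper2_CharMore.IsIrrCharacter.comp_mulEquiv hν eS.symm) hc1 hc2
    have := congrFun hy (eS 1)
    rw [Cfsg.Agent.Lib.Helper2_Clifford.conjFn_apply] at this
    simp only [MulEquiv.symm_apply_apply] at this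
    rw [this]
    congr 1
    apply eS.injective
    rw [MulEquiv.apply_symm_apply]
    apply Subtype.ext
    show y * ((eS 1 : NS F) : Matrix.GeneralLinearGroup (Fin 2) F) * y⁻¹ =
      ((eS 1 : NS F) : Matrix.GeneralLinearGroup (Fin 2) F)
    rw [map_one]
    simp


theorem cuspS_cases (ξ : Matrix.SpecialLinearGroup (Fin 2) F → ℂ)
    (hξ : IsIrrCharacter (Matrix.SpecialLinearGroup (Fin 2) F) ξ) (hc : IsCuspS ξ) :
    (∃ χ : Matrix.GeneralLinearGroup (Fin 2) F → ℂ,
      IsIrrCharacter (Matrix.GeneralLinearGroup (Fin 2) F) χ ∧ IsCusp χ ∧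
      ξ = fun s => χ (Matrix.SpecialLinearGroup.toGL s)) ∨
    (rsq F = 2 ∧ 2 * dg ξ = Fintype.card F - 1) := by
  classical
  obtain ⟨χ, hχ, hne⟩ := exists_over ξ hξ
  have hcχ := cusp_over ξ hξ hc χ hχ hne
  have hdeg := cusp_deg χ hχ hcχ
  rcases res_cases χ hχ with hirr | ⟨hr, μ, ν, hμ, hν, hμν, hR, h1⟩
  · left
    refine ⟨χ, hχ, hcχ, ?_⟩
    rw [classInner_irr hξ hirr] at hne
    by_contra h
    rw [if_neg h] at hne
    exact hne rfl
  · right
    refine ⟨hr, ?_⟩
    have hsum : μ 1 + ν 1 = ((Fintype.card F - 1 : ℕ) : ℂ) := by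
      have := congrFun hR 1
      simp only [map_one, Pi.add_apply] at this
      rw [← this, (dg_spec hχ).2, hdeg]
    rw [hR, classInner_add_right, classInner_irr hξ hμ, classInner_irr hξ hν] at hne
    have hξ1 : ξ 1 = μ 1 := by
      by_cases e1 : ξ = μ
      · rw [e1]
      · by_cases e2 : ξ = ν
        · rw [e2, h1]
        · rw [if_neg e1, if_neg e2] at hne
          simp at hne
    rw [h1, ← hξ1, (dg_spec hξ).2] at hsum
    have : ((2 * dg ξ : ℕ) : ℂ) = ((Fintype.card F - 1 : ℕ) : ℂ) := by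
      rw [← hsum]; push_cast; ring
    exact_mod_cast this

end Cfsg.Agent.Lib.Helper4_SL2Res
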