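import Mathlib
import Cfsg.Prelude.Def_Characters
import Cfsg.Prelude.Def_ParabolicCharacters
import Cfsg.Agent.Lib.Helper2_ClassFn
import Cfsg.Agent.Lib.Helper2_CharOrtho
import Cfsg.Agent.Lib.Helper2_CharBasic
import Cfsg.Agent.Lib.Helper4_MulCharDual
import Cfsg.Agent.Lib.Helper4_SL2Fam
import Cfsg.Agent.Lib.Helper4_GL2Count
import Cfsg.Agent.Lib.Helper4_SL2Res
import Cfsg.Agent.Lib.Helper4_IrrCount

namespace Cfsg.Agent.Lib.Helper4_SL2Count
open Matrix Cfsg Cfsg.Agent.Lib.Helper2_ClassFn Cfsg.Agent.Lib.Helper2_CharOrtho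
  Cfsg.Agent.Lib.Helper2_CharBasic
  Cfsg.Agent.Lib.Helper4_MulCharDual Cfsg.Agent.Lib.Helper4_SL2Fam
  Cfsg.Agent.Lib.Helper4_GL2Count Cfsg.Agent.Lib.Helper4_SL2Res Cfsg.Agent.Lib.Helper4_IrrCount
open scoped ComplexConjugate

variable {F : Type*} [Field F] [Fintype F] [DecidableEq F]

theorem card_sq_one [DecidableEq (MulChar F ℂ)] :
    (Finset.univ.filter (fun α : MulChar F ℂ => α ^ 2 = 1)).card = rsq F := by
  obtain ⟨e⟩ := MulChar.mulEquiv_units F ℂ
  unfold rsq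
  apply Finset.card_bij (fun α _ => e α)
  · intro α hα
    rw [Finset.mem_filter] at hα ⊢
    exact ⟨Finset.mem_univ _, by rw [← map_pow, hα.2, map_one]⟩
  · intro α _ β _ h
    exact e.injective h
  · intro w hw
    rw [Finset.mem_filter] at hw
    refine ⟨e.symm w, ?_, e.apply_symm_apply w⟩
    rw [Finset.mem_filter]
    exact ⟨Finset.mem_univ _, by rw [← map_pow, hw.2, map_one]⟩

/-- characters with nontrivial square -/
noncomputable def Aset (F : Type*) [Field F] [Fintype F] [DecidableEq F] : Finset (MulChar F ℂ) := by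
  classical
  exact Finset.univ.filter (fun α : MulChar F ℂ => α ^ 2 ≠ 1)

theorem mem_Aset (α : MulChar F ℂ) : α ∈ Aset F ↔ α ^ 2 ≠ 1 := by
  unfold Aset
  rw [Finset.mem_filter]
  simp

theorem card_Aset : (Aset F).card + rsq F = Fintype.card F - 1 := by
  classical
  rw [← card_sq_one, ← card_mulChar (F := F), ← Finset.card_univ]
  unfold Aset
  rw [add_comm]
  convert Finset.card_filter_add_card_filter_not (s := (Finset.univ : Finset (MulChar F ℂ)))
    (fun α : MulChar F ℂ => α ^ 2 = 1) using 2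

/-- irreducible principal series -/
noncomputable def Pset (F : Type*) [Field F] [Fintype F] [DecidableEq F] :
    Finset (Matrix.SpecialLinearGroup (Fin 2) F → ℂ) := by
  classical
  exact (Aset F).image Rs

theorem mem_Pset (χ : Matrix.SpecialLinearGroup (Fin 2) F → ℂ) :
    χ ∈ Pset F ↔ ∃ α : MulChar F ℂ, α ^ 2 ≠ 1 ∧ χ = Rs α := by
  classical
  unfold Pset
  rw [Finset.mem_image]
  constructor
  · rintro ⟨α, hα, rfl⟩
    exact ⟨α, (mem_Aset α).mp hα, rfl⟩
  · rintro ⟨α, hα, rfl⟩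
    exact ⟨α, (mem_Aset α).mpr hα, rfl⟩

theorem two_mul_card_Pset : 2 * (Pset F).card = (Aset F).card := by
  classical
  unfold Pset
  rw [Finset.card_eq_sum_card_image Rs (Aset F), mul_comm, ← smul_eq_mul, ← Finset.sum_const]
  refine Finset.sum_congr rfl fun χ hχ => ?_
  symm
  obtain ⟨α, hα, rfl⟩ := Finset.mem_image.mp hχ
  have hα' := (mem_Aset α).mp hα
  have hne : α ≠ α⁻¹ := by
    intro h
    apply hα'
    rw [pow_two, mul_eq_one_iff_eq_inv]
    exact h
  have : (Aset F).filter (fun β => Rs β = Rs α) = {α, α⁻¹} := by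
    ext β
    rw [Finset.mem_filter, Finset.mem_insert, Finset.mem_singleton, Rs_eq_iff, mem_Aset]
    constructor
    · rintro ⟨-, h⟩
      exact h
    · rintro (rfl | rfl)
      · exact ⟨hα', Or.inl rfl⟩
      · refine ⟨?_, Or.inr rfl⟩
        rw [inv_pow]
        intro h
        apply hα'
        rw [inv_eq_one] at h
        exact h
  rw [this, Finset.card_pair hne]

theorem Pset_sub : Pset F ⊆ irrFinset (Matrix.SpecialLinearGroup (Fin 2) F) := by
  intro χ hχ
  obtain ⟨α, hα, rfl⟩ := (mem_Pset χ).mp hχ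
  exact mem_irrFinset.mpr (Rs_irr α hα)

theorem dg_Pset (χ : Matrix.SpecialLinearGroup (Fin 2) F → ℂ) (hχ : χ ∈ Pset F) :
    dg χ = Fintype.card F + 1 := by
  obtain ⟨α, hα, rfl⟩ := (mem_Pset χ).mp hχ
  apply dg_eq (Rs_irr α hα)
  rw [Rs_one]
  push_cast
  ring

omit [Fintype F] [DecidableEq F] in
theorem dg_trivS : dg (trivS (F := F)) = 1 := by
  apply dg_eq trivS_irr
  simp [trivS]

theorem dg_StS : dg (StS (F := F)) = Fintype.card F := dg_eq StS_irr StS_one


theorem dg_res (χ : Matrix.GeneralLinearGroup (Fin 2) F → ℂ)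
    (hχ : IsIrrCharacter (Matrix.GeneralLinearGroup (Fin 2) F) χ)
    (hirr : IsIrrCharacter (Matrix.SpecialLinearGroup (Fin 2) F)
      (fun s => χ (Matrix.SpecialLinearGroup.toGL s))) :
    dg (fun s : Matrix.SpecialLinearGroup (Fin 2) F => χ (Matrix.SpecialLinearGroup.toGL s)) =
      dg χ := by
  apply dg_eq hirr
  simp only [map_one]
  exact (dg_spec hχ).2

/-- classification of the irreducible characters of SL₂ -/
theorem casesS (ξ : Matrix.SpecialLinearGroup (Fin 2) F → ℂ)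
    (hξ : IsIrrCharacter (Matrix.SpecialLinearGroup (Fin 2) F) ξ) :
    ξ = trivS ∨ ξ = StS ∨ (∃ α : MulChar F ℂ, α ^ 2 ≠ 1 ∧ ξ = Rs α) ∨
    (∃ α : MulChar F ℂ, α ^ 2 = 1 ∧ α ≠ 1 ∧ classInner ξ (Rs α) ≠ 0) ∨
    (IsCuspS ξ ∧ dg ξ = Fintype.card F - 1 ∧ ∃ χ : Matrix.GeneralLinearGroup (Fin 2) F → ℂ,
      IsIrrCharacter (Matrix.GeneralLinearGroup (Fin 2) F) χ ∧ Cfsg.Agent.Lib.Helper4_GL2Fam.IsCusp χ ∧
      ξ = fun s => χ (Matrix.SpecialLinearGroup.toGL s)) ∨
    (IsCuspS ξ ∧ rsq F = 2 ∧ 2 * dg ξ = Fintype.card F - 1) := by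
  rcases dichotomyS ξ hξ with h | h | h | h | h
  · left; exact h
  · right; left; exact h
  · right; right; left; exact h
  · right; right; right; left; exact h
  · rcases cuspS_cases ξ hξ h with ⟨χ, hχ, hc, rfl⟩ | ⟨h1, h2⟩
    · right; right; right; right; left
      refine ⟨h, ?_, χ, hχ, hc, rfl⟩
      rw [dg_res χ hχ hξ, cusp_deg χ hχ hc]
    · right; right; right; right; right
      exact ⟨h, h1, h2⟩

section bydeg
universe u
variable {G : Type u} [Group G] [Fintype G]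

theorem filter_deg_eq [DecidableEq (G → ℂ)] (d : ℕ) :
    (irrFinset G).filter (fun χ => χ 1 = (d : ℂ)) = (irrFinset G).filter (fun χ => dg χ = d) := by
  ext χ
  rw [Finset.mem_filter, Finset.mem_filter]
  constructor
  · rintro ⟨h, h1⟩
    exact ⟨h, dg_eq (mem_irrFinset.mp h) h1⟩
  · rintro ⟨h, h1⟩
    refine ⟨h, ?_⟩
    rw [(dg_spec (mem_irrFinset.mp h)).2, h1]

theorem card_by_deg [DecidableEq (G → ℂ)] (T : Finset ℕ) (hT : ∀ χ ∈ irrFinset G, dg χ ∈ T) :
    (irrFinset G).card = ∑ d ∈ T, ((irrFinset G).filter (fun χ => χ 1 = (d : ℂ))).card := by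
  rw [Finset.card_eq_sum_card_fiberwise hT]
  refine Finset.sum_congr rfl fun d _ => ?_
  rw [filter_deg_eq]

theorem sum_sq_by_deg [DecidableEq (G → ℂ)] (T : Finset ℕ) (hT : ∀ χ ∈ irrFinset G, dg χ ∈ T) :
    ∑ χ ∈ irrFinset G, dg χ ^ 2 =
      ∑ d ∈ T, ((irrFinset G).filter (fun χ => χ 1 = (d : ℂ))).card * d ^ 2 := by
  rw [← Finset.sum_fiberwise_of_maps_to hT]
  refine Finset.sum_congr rfl fun d _ => ?_
  rw [filter_deg_eq]
  have : ∀ χ ∈ (irrFinset G).filter (fun χ => dg χ = d), dg χ ^ 2 = d ^ 2 := by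
    intro χ hχ
    rw [(Finset.mem_filter.mp hχ).2]
  rw [Finset.sum_congr rfl this, Finset.sum_const, smul_eq_mul]

end bydeg

end Cfsg.Agent.Lib.Helper4_SL2Count
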