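import Mathlib
import Cfsg.Prelude.Def_Characters
import Cfsg.Prelude.Def_ParabolicCharacters
import Cfsg.Prelude.Def_DegreeGraph
import Cfsg.Agent.Lib.Helper2_ClassFn
import Cfsg.Agent.Lib.Helper2_CharOrtho
import Cfsg.Agent.Lib.Helper2_CharBasic
import Cfsg.Agent.Lib.Helper2_CharMore
import Cfsg.Agent.Lib.Helper4_SL2Fam
import Cfsg.Agent.Lib.Helper4_GL2Count
import Cfsg.Agent.Lib.Helper4_IrrCount
import Cfsg.Agent.Lib.Helper4_SL2Count
import Cfsg.Agent.Lib.Helper4_SL2Even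

namespace Cfsg.Agent.Lib.Helper4_DegGraphEven
open Matrix Cfsg Cfsg.Agent.Lib.Helper2_ClassFn Cfsg.Agent.Lib.Helper2_CharOrtho
  Cfsg.Agent.Lib.Helper2_CharBasic Cfsg.Agent.Lib.Helper2_CharMore
  Cfsg.Agent.Lib.Helper4_SL2Fam
  Cfsg.Agent.Lib.Helper4_GL2Count Cfsg.Agent.Lib.Helper4_IrrCount
  Cfsg.Agent.Lib.Helper4_SL2Count Cfsg.Agent.Lib.Helper4_SL2Even
open scoped ComplexConjugate

universe u v

theorem charDegrees_congr {G : Type u} [Group G] {S : Type v} [Group S] (e : S ≃* G) :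
    charDegrees S = charDegrees G := by
  ext d
  constructor
  · rintro ⟨χ, rfl⟩
    refine ⟨⟨fun g => χ.1 (e.symm g), IsIrrCharacter.comp_mulEquiv χ.2 e.symm⟩, ?_⟩
    simp [charDegree]
  · rintro ⟨χ, rfl⟩
    refine ⟨⟨fun g => χ.1 (e g), IsIrrCharacter.comp_mulEquiv χ.2 e⟩, ?_⟩
    simp [charDegree]

theorem degreePrimes_congr {G : Type u} [Group G] {S : Type v} [Group S] (e : S ≃* G) :
    degreePrimes S = degreePrimes G := by
  unfold degreePrimes
  rw [charDegrees_congr e]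

theorem degreeGraph_adj_congr {G : Type u} [Group G] {S : Type v} [Group S] (e : S ≃* G) (r s : ℕ) :
    (degreeGraph S).Adj r s ↔ (degreeGraph G).Adj r s := by
  show (r ≠ s ∧ r.Prime ∧ s.Prime ∧ ∃ d ∈ charDegrees S, r * s ∣ d) ↔
    (r ≠ s ∧ r.Prime ∧ s.Prime ∧ ∃ d ∈ charDegrees G, r * s ∣ d)
  rw [charDegrees_congr e]

theorem charDegree_of_nat {G : Type u} [Group G] {χ : G → ℂ} {n : ℕ} (h : χ 1 = (n : ℂ)) :
    charDegree χ = n := by
  unfold charDegree
  rw [h]
  simp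

variable {F : Type u} [Field F] [Fintype F]

/-- PSL₂ = SL₂ in characteristic two -/
theorem center_SL2_char_two [CharP F 2] :
    Subgroup.center (Matrix.SpecialLinearGroup (Fin 2) F) = ⊥ := by
  rw [eq_bot_iff]
  intro A hA
  rw [Matrix.SpecialLinearGroup.mem_center_iff] at hA
  obtain ⟨r, hr, hA⟩ := hA
  rw [Fintype.card_fin] at hr
  have hr1 : r = 1 := by
    have : (r - 1) ^ 2 = 0 := by
      have h2 : (2 : F) = 0 := CharTwo.two_eq_zero
      linear_combination hr + (1 - r) * h2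
    have := pow_eq_zero_iff (two_ne_zero) |>.mp this
    linear_combination this
  rw [Subgroup.mem_bot]
  apply Subtype.ext
  rw [← hA, hr1]
  simp

noncomputable def pslEquiv [CharP F 2] :
    Matrix.ProjectiveSpecialLinearGroup (Fin 2) F ≃* Matrix.SpecialLinearGroup (Fin 2) F :=
  (QuotientGroup.quotientMulEquivOfEq center_SL2_char_two).trans QuotientGroup.quotientBot

theorem charDegrees_SL2_even [DecidableEq F] [CharP F 2] (hq : 4 ≤ Fintype.card F) :
    charDegrees (Matrix.SpecialLinearGroup (Fin 2) F) =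
      {1, Fintype.card F - 1, Fintype.card F, Fintype.card F + 1} := by
  ext d
  simp only [Set.mem_insert_iff, Set.mem_singleton_iff]
  constructor
  · rintro ⟨χ, rfl⟩
    rcases casesE χ.1 χ.2 with ⟨-, h⟩ | ⟨-, h⟩ | ⟨-, h⟩ | ⟨-, h, -⟩
    · left; exact charDegree_of_nat h
    · right; right; left; exact charDegree_of_nat h
    · right; right; right; exact charDegree_of_nat h
    · right; left; exact charDegree_of_nat h
  · rintro (rfl | rfl | rfl | rfl)
    · exact ⟨⟨trivS, trivS_irr⟩, charDegree_of_nat (by simp [trivS])⟩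
    · have h := (countsE (F := F) hq).2.2.2
      have hpos : 0 < Nat.card {χ : Cfsg.IrrCharacter (Matrix.SpecialLinearGroup (Fin 2) F) //
          (χ : Matrix.SpecialLinearGroup (Fin 2) F → ℂ) 1 = (Fintype.card F : ℂ) - 1} := by
        rw [h]; omega
      obtain ⟨⟨χ, hχ⟩⟩ := (Nat.card_pos_iff.mp hpos).1
      refine ⟨χ, charDegree_of_nat ?_⟩
      rw [hχ, Nat.cast_sub Fintype.card_pos]; simp
    · exact ⟨⟨StS, StS_irr⟩, charDegree_of_nat StS_one⟩
    · have h := (countsE (F := F) hq).2.2.1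
      have hpos : 0 < Nat.card {χ : Cfsg.IrrCharacter (Matrix.SpecialLinearGroup (Fin 2) F) //
          (χ : Matrix.SpecialLinearGroup (Fin 2) F → ℂ) 1 = (Fintype.card F : ℂ) + 1} := by
        rw [h]; omega
      obtain ⟨⟨χ, hχ⟩⟩ := (Nat.card_pos_iff.mp hpos).1
      refine ⟨χ, charDegree_of_nat ?_⟩
      rw [hχ]; push_cast; ring

theorem S4812_SL [DecidableEq F] [CharP F 2] (q : ℕ) (hq : Fintype.card F = q) (h4 : 4 ≤ q) :
    Cfsg.degreePrimes (Matrix.SpecialLinearGroup (Fin 2) F) = {r : ℕ | r.Prime ∧ r ∣ q * (q ^ 2 - 1)} ∧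
    ∀ r s : ℕ, (Cfsg.degreeGraph (Matrix.SpecialLinearGroup (Fin 2) F)).Adj r s ↔
      (r ≠ s ∧ r.Prime ∧ s.Prime ∧ ((r ∣ q + 1 ∧ s ∣ q + 1) ∨ (r ∣ q - 1 ∧ s ∣ q - 1))) := by
  subst hq
  have hD := charDegrees_SL2_even (F := F) h4
  obtain ⟨k, hk⟩ : ∃ k : ℕ, Fintype.card F = 2 ^ k := by
    obtain ⟨n, hp, hn⟩ := FiniteField.card F 2
    exact ⟨n, hn⟩
  have hfac : Fintype.card F * (Fintype.card F ^ 2 - 1) =
      Fintype.card F * ((Fintype.card F - 1) * (Fintype.card F + 1)) := by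
    congr 1
    have : Fintype.card F ^ 2 = (Fintype.card F - 1) * (Fintype.card F + 1) + 1 := by
      obtain ⟨m, hm⟩ : ∃ m, Fintype.card F = m + 1 := ⟨Fintype.card F - 1, by omega⟩
      rw [hm]; simp; ring
    omega
  constructor
  · ext r
    unfold degreePrimes
    rw [hD]
    simp only [Set.mem_setOf_eq, Set.mem_insert_iff, Set.mem_singleton_iff, exists_eq_or_imp,
      exists_eq_left]
    constructor
    · rintro ⟨hr, h | h | h | h⟩
      · exact absurd (Nat.dvd_one.mp h) hr.ne_one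
      · refine ⟨hr, ?_⟩
        rw [hfac]
        exact Dvd.dvd.mul_left (Dvd.dvd.mul_right h _) _
      · exact ⟨hr, Dvd.dvd.mul_right h _⟩
      · refine ⟨hr, ?_⟩
        rw [hfac]
        exact Dvd.dvd.mul_left (Dvd.dvd.mul_left h _) _
    · rintro ⟨hr, h⟩
      refine ⟨hr, ?_⟩
      rw [hfac] at h
      rcases (Nat.Prime.dvd_mul hr).mp h with h | h
      · right; right; left; exact h
      · rcases (Nat.Prime.dvd_mul hr).mp h with h | h
        · right; left; exact h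
        · right; right; right; exact h
  · intro r s
    show (r ≠ s ∧ r.Prime ∧ s.Prime ∧ ∃ d ∈ charDegrees (Matrix.SpecialLinearGroup (Fin 2) F), r * s ∣ d) ↔ _
    rw [hD]
    simp only [Set.mem_insert_iff, Set.mem_singleton_iff, exists_eq_or_imp, exists_eq_left]
    constructor
    · rintro ⟨hne, hr, hs, h⟩
      refine ⟨hne, hr, hs, ?_⟩
      rcases h with h | h | h | h
      · exfalso
        have := Nat.dvd_one.mp h
        have h1 : r = 1 := Nat.eq_one_of_mul_eq_one_right this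
        exact hr.ne_one h1
      · right
        exact ⟨dvd_trans (dvd_mul_right r s) h, dvd_trans (dvd_mul_left s r) h⟩
      · exfalso
        rw [hk] at h
        have h1 : r ∣ 2 ^ k := dvd_trans (dvd_mul_right r s) h
        have h2 : s ∣ 2 ^ k := dvd_trans (dvd_mul_left s r) h
        have e1 := (Nat.prime_dvd_prime_iff_eq hr Nat.prime_two).mp (hr.dvd_of_dvd_pow h1)
        have e2 := (Nat.prime_dvd_prime_iff_eq hs Nat.prime_two).mp (hs.dvd_of_dvd_pow h2)
        exact hne (e1.trans e2.symm)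
      · left
        exact ⟨dvd_trans (dvd_mul_right r s) h, dvd_trans (dvd_mul_left s r) h⟩
    · rintro ⟨hne, hr, hs, h⟩
      refine ⟨hne, hr, hs, ?_⟩
      have hcop : Nat.Coprime r s := (Nat.coprime_primes hr hs).mpr hne
      rcases h with ⟨h1, h2⟩ | ⟨h1, h2⟩
      · right; right; right
        exact hcop.mul_dvd_of_dvd_of_dvd h1 h2
      · right; left
        exact hcop.mul_dvd_of_dvd_of_dvd h1 h2

theorem S4812_main [CharP F 2] (q : ℕ) (hq : Fintype.card F = q) (h4 : 4 ≤ q) {S : Type v} [Group S]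
    (hS : Nonempty (S ≃* Matrix.ProjectiveSpecialLinearGroup (Fin 2) F) ∨ Nonempty (S ≃* Matrix.SpecialLinearGroup (Fin 2) F)) :
    Cfsg.degreePrimes S = {r : ℕ | r.Prime ∧ r ∣ q * (q ^ 2 - 1)} ∧ ∀ r s : ℕ, (Cfsg.degreeGraph S).Adj r s ↔ (r ≠ s ∧ r.Prime ∧ s.Prime ∧ ((r ∣ q + 1 ∧ s ∣ q + 1) ∨ (r ∣ q - 1 ∧ s ∣ q - 1))) := by
  classical
  obtain ⟨e⟩ : Nonempty (S ≃* Matrix.SpecialLinearGroup (Fin 2) F) := by
    rcases hS with h | h
    · obtain ⟨e⟩ := h
      exact ⟨e.trans pslEquiv⟩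
    · exact h
  rw [degreePrimes_congr e]
  simp only [degreeGraph_adj_congr e]
  exact S4812_SL q hq h4

end Cfsg.Agent.Lib.Helper4_DegGraphEven
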