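import Mathlib
import Cfsg.Prelude.Def_Characters
import Cfsg.Prelude.Def_ParabolicCharacters
import Cfsg.Agent.Lib.Helper2_ClassFn
import Cfsg.Agent.Lib.Helper2_CharOrtho
import Cfsg.Agent.Lib.Helper2_CharBasic
import Cfsg.Agent.Lib.Helper4_MulCharDual
import Cfsg.Agent.Lib.Helper4_SL2Fam
import Cfsg.Agent.Lib.Helper4_GL2Count
import Cfsg.Agent.Lib.Helper4_SL2Res
import Cfsg.Agent.Lib.Helper4_IrrCount
import Cfsg.Agent.Lib.Helper4_SL2Count
import Cfsg.Agent.Lib.Helper4_SL2Classes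

namespace Cfsg.Agent.Lib.Helper4_SL2Even
open Matrix Cfsg Cfsg.Agent.Lib.Helper2_ClassFn Cfsg.Agent.Lib.Helper2_CharOrtho
  Cfsg.Agent.Lib.Helper2_CharBasic
  Cfsg.Agent.Lib.Helper4_MulCharDual Cfsg.Agent.Lib.Helper4_SL2Fam
  Cfsg.Agent.Lib.Helper4_GL2Count Cfsg.Agent.Lib.Helper4_SL2Res Cfsg.Agent.Lib.Helper4_IrrCount
  Cfsg.Agent.Lib.Helper4_SL2Count
open scoped ComplexConjugate

variable {F : Type*} [Field F] [Fintype F] [DecidableEq F] [CharP F 2]

theorem sq_eq_one_even (α : MulChar F ℂ) (h : α ^ 2 = 1) : α = 1 := by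
  classical
  have h1 := card_sq_one (F := F)
  rw [rsq_char_two] at h1
  have h2 := Finset.card_le_one.mp h1.le α (Finset.mem_filter.mpr ⟨Finset.mem_univ _, h⟩) 1
    (Finset.mem_filter.mpr ⟨Finset.mem_univ _, one_pow 2⟩)
  exact h2

/-- classification, char 2 -/
theorem casesE (ξ : Matrix.SpecialLinearGroup (Fin 2) F → ℂ)
    (hξ : IsIrrCharacter (Matrix.SpecialLinearGroup (Fin 2) F) ξ) :
    (ξ = trivS ∧ ξ 1 = ((1 : ℕ) : ℂ)) ∨ (ξ = StS ∧ ξ 1 = ((Fintype.card F : ℕ) : ℂ)) ∨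
    (ξ ∈ Pset F ∧ ξ 1 = ((Fintype.card F + 1 : ℕ) : ℂ)) ∨
    (IsCuspS ξ ∧ ξ 1 = ((Fintype.card F - 1 : ℕ) : ℂ) ∧
      ∃ χ : Matrix.GeneralLinearGroup (Fin 2) F → ℂ,
      IsIrrCharacter (Matrix.GeneralLinearGroup (Fin 2) F) χ ∧ Cfsg.Agent.Lib.Helper4_GL2Fam.IsCusp χ ∧
      ξ = fun s => χ (Matrix.SpecialLinearGroup.toGL s)) := by
  rcases casesS ξ hξ with h | h | ⟨α, hα, h⟩ | ⟨α, hα, hα1, -⟩ | ⟨hc, hd, hχ⟩ | ⟨-, hr, -⟩
  · left; exact ⟨h, by rw [h]; simp [trivS]⟩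
  · right; left; exact ⟨h, by rw [h, StS_one]⟩
  · right; right; left
    refine ⟨(mem_Pset ξ).mpr ⟨α, hα, h⟩, ?_⟩
    rw [h, Rs_one]; push_cast; ring
  · exact absurd (sq_eq_one_even α hα) hα1
  · right; right; right
    refine ⟨hc, ?_, hχ⟩
    rw [(dg_spec hξ).2, hd]
  · rw [rsq_char_two] at hr
    omega

theorem nat_of_degS {χ : Matrix.SpecialLinearGroup (Fin 2) F → ℂ} {n m : ℕ} (h1 : χ 1 = (n : ℂ))
    (h2 : χ 1 = (m : ℂ)) : n = m := by
  rw [h1] at h2
  exact_mod_cast h2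

theorem degreesE (χ : Matrix.SpecialLinearGroup (Fin 2) F → ℂ)
    (hχ : IsIrrCharacter (Matrix.SpecialLinearGroup (Fin 2) F) χ) :
    χ 1 = 1 ∨ χ 1 = (Fintype.card F : ℂ) - 1 ∨ χ 1 = (Fintype.card F : ℂ) ∨
      χ 1 = (Fintype.card F : ℂ) + 1 := by
  rcases casesE χ hχ with ⟨-, h⟩ | ⟨-, h⟩ | ⟨-, h⟩ | ⟨-, h, -⟩
  · left; rw [h]; simp
  · right; right; left; exact h
  · right; right; right; rw [h]; simp
  · right; left; rw [h, Nat.cast_sub Fintype.card_pos]; simp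


theorem countsE (hq : 4 ≤ Fintype.card F) :
      Nat.card {χ : Cfsg.IrrCharacter (Matrix.SpecialLinearGroup (Fin 2) F) // (χ : Matrix.SpecialLinearGroup (Fin 2) F → ℂ) 1 = 1} = 1 ∧
      Nat.card {χ : Cfsg.IrrCharacter (Matrix.SpecialLinearGroup (Fin 2) F) // (χ : Matrix.SpecialLinearGroup (Fin 2) F → ℂ) 1 = (Fintype.card F : ℂ)} = 1 ∧
      Nat.card {χ : Cfsg.IrrCharacter (Matrix.SpecialLinearGroup (Fin 2) F) // (χ : Matrix.SpecialLinearGroup (Fin 2) F → ℂ) 1 = (Fintype.card F : ℂ) + 1} = (Fintype.card F - 2) / 2 ∧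
      Nat.card {χ : Cfsg.IrrCharacter (Matrix.SpecialLinearGroup (Fin 2) F) // (χ : Matrix.SpecialLinearGroup (Fin 2) F → ℂ) 1 = (Fintype.card F : ℂ) - 1} = Fintype.card F / 2 := by
  classical
  have e1 : ((Fintype.card F : ℂ) + 1) = ((Fintype.card F + 1 : ℕ) : ℂ) := by push_cast; ring
  have e2 : ((Fintype.card F : ℂ) - 1) = ((Fintype.card F - 1 : ℕ) : ℂ) := by
    rw [Nat.cast_sub Fintype.card_pos]; simp
  have e0 : (1 : ℂ) = ((1 : ℕ) : ℂ) := by simp
  have hP : 2 * (Pset F).card + 1 = Fintype.card F - 1 := by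
    have := card_Aset (F := F)
    rw [rsq_char_two] at this
    rw [two_mul_card_Pset]
    exact this
  have hI : (irrFinset (Matrix.SpecialLinearGroup (Fin 2) F)).card = Fintype.card F + 1 := by
    rw [card_irrFinset, Cfsg.Agent.Lib.Helper4_SL2Classes.sl2_classes]
  have hD1 : (irrFinset (Matrix.SpecialLinearGroup (Fin 2) F)).filter (fun χ => χ 1 = 1) =
      {trivS} := by
    ext χ
    rw [Finset.mem_filter, Finset.mem_singleton, mem_irrFinset]
    constructor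
    · rintro ⟨hχ, h1⟩
      rw [e0] at h1
      rcases casesE χ hχ with ⟨h, -⟩ | ⟨-, h⟩ | ⟨-, h⟩ | ⟨-, h, -⟩
      · exact h
      · have := nat_of_degS h1 h; omega
      · have := nat_of_degS h1 h; omega
      · have := nat_of_degS h1 h; omega
    · rintro rfl
      exact ⟨trivS_irr, rfl⟩
  have hDq : (irrFinset (Matrix.SpecialLinearGroup (Fin 2) F)).filter
      (fun χ => χ 1 = (Fintype.card F : ℂ)) = {StS} := by
    ext χ
    rw [Finset.mem_filter, Finset.mem_singleton, mem_irrFinset]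
    constructor
    · rintro ⟨hχ, h1⟩
      rcases casesE χ hχ with ⟨-, h⟩ | ⟨h, -⟩ | ⟨-, h⟩ | ⟨-, h, -⟩
      · have := nat_of_degS h1 h; omega
      · exact h
      · have := nat_of_degS h1 h; omega
      · have := nat_of_degS h1 h; omega
    · rintro rfl
      exact ⟨StS_irr, StS_one⟩
  have hDq1 : (irrFinset (Matrix.SpecialLinearGroup (Fin 2) F)).filter
      (fun χ => χ 1 = (Fintype.card F : ℂ) + 1) = Pset F := by
    ext χ
    rw [Finset.mem_filter, mem_irrFinset]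
    constructor
    · rintro ⟨hχ, h1⟩
      rw [e1] at h1
      rcases casesE χ hχ with ⟨-, h⟩ | ⟨-, h⟩ | ⟨h, -⟩ | ⟨-, h, -⟩
      · have := nat_of_degS h1 h; omega
      · have := nat_of_degS h1 h; omega
      · exact h
      · have := nat_of_degS h1 h; omega
    · intro h
      have hirr := mem_irrFinset.mp (Pset_sub h)
      refine ⟨hirr, ?_⟩
      rw [(dg_spec hirr).2, dg_Pset χ h, e1]
  -- partition by degree
  have hT : ∀ χ ∈ irrFinset (Matrix.SpecialLinearGroup (Fin 2) F),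
      dg χ ∈ ({1, Fintype.card F, Fintype.card F + 1, Fintype.card F - 1} : Finset ℕ) := by
    intro χ hχ
    have hχ' := mem_irrFinset.mp hχ
    simp only [Finset.mem_insert, Finset.mem_singleton]
    rcases casesE χ hχ' with ⟨-, h⟩ | ⟨-, h⟩ | ⟨-, h⟩ | ⟨-, h, -⟩
    · left; exact dg_eq hχ' h
    · right; left; exact dg_eq hχ' h
    · right; right; left; exact dg_eq hχ' h
    · right; right; right; exact dg_eq hχ' h
  have hpart := card_by_deg _ hT
  rw [Finset.sum_insert (by simp; omega), Finset.sum_insert (by simp; omega),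
    Finset.sum_insert (by simp; omega), Finset.sum_singleton] at hpart
  rw [← e2] at hpart
  push_cast at hpart
  rw [card_irr_subtype (fun χ : Matrix.SpecialLinearGroup (Fin 2) F → ℂ => χ 1 = 1),
    card_irr_subtype (fun χ : Matrix.SpecialLinearGroup (Fin 2) F → ℂ => χ 1 = (Fintype.card F : ℂ)),
    card_irr_subtype (fun χ : Matrix.SpecialLinearGroup (Fin 2) F → ℂ => χ 1 = (Fintype.card F : ℂ) + 1),
    card_irr_subtype (fun χ : Matrix.SpecialLinearGroup (Fin 2) F → ℂ => χ 1 = (Fintype.card F : ℂ) - 1)]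
  rw [hD1, hDq, hDq1, hI, Finset.card_singleton, Finset.card_singleton] at hpart
  rw [hD1, hDq, hDq1, Finset.card_singleton, Finset.card_singleton]
  refine ⟨rfl, rfl, by omega, by omega⟩

end Cfsg.Agent.Lib.Helper4_SL2Even
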