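import Mathlib
import Cfsg.Prelude.Def_Characters
import Cfsg.Prelude.Def_ParabolicCharacters
import Cfsg.Agent.Lib.Helper2_ClassFn
import Cfsg.Agent.Lib.Helper2_CharOrtho
import Cfsg.Agent.Lib.Helper2_CharBasic
import Cfsg.Agent.Lib.Helper4_MulCharDual
import Cfsg.Agent.Lib.Helper4_SL2Fam
import Cfsg.Agent.Lib.Helper4_GL2Count
import Cfsg.Agent.Lib.Helper4_SL2Res
import Cfsg.Agent.Lib.Helper4_IrrCount
import Cfsg.Agent.Lib.Helper4_SL2Count
import Cfsg.Agent.Lib.Helper4_SL2Odd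
import Cfsg.Agent.Lib.Helper4_SL2Card
import Cfsg.Agent.Lib.Helper4_SL2HalfChars

namespace Cfsg.Agent.Lib.Helper4_SL2OddChars
open Matrix Cfsg Cfsg.Agent.Lib.Helper2_ClassFn Cfsg.Agent.Lib.Helper2_CharOrtho
  Cfsg.Agent.Lib.Helper2_CharBasic
  Cfsg.Agent.Lib.Helper4_MulCharDual Cfsg.Agent.Lib.Helper4_SL2Fam
  Cfsg.Agent.Lib.Helper4_GL2Count Cfsg.Agent.Lib.Helper4_SL2Res Cfsg.Agent.Lib.Helper4_IrrCount
  Cfsg.Agent.Lib.Helper4_SL2Count
open scoped ComplexConjugate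

variable {F : Type*} [Field F] [Fintype F] [DecidableEq F]

/-- data of the two half principal series characters -/
structure IsHalf (α₀ : MulChar F ℂ) (μ₀ ν₀ : Matrix.SpecialLinearGroup (Fin 2) F → ℂ)
    (x : Matrix.GeneralLinearGroup (Fin 2) F) : Prop where
  sq : α₀ ^ 2 = 1
  ne1 : α₀ ≠ 1
  uniq : ∀ α : MulChar F ℂ, α ^ 2 = 1 → α = 1 ∨ α = α₀
  irrμ : IsIrrCharacter (Matrix.SpecialLinearGroup (Fin 2) F) μ₀
  irrν : IsIrrCharacter (Matrix.SpecialLinearGroup (Fin 2) F) ν₀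
  ne : μ₀ ≠ ν₀
  sum : Rs α₀ = μ₀ + ν₀
  degμ : μ₀ 1 = (((Fintype.card F + 1) / 2 : ℕ) : ℂ)
  degν : ν₀ 1 = (((Fintype.card F + 1) / 2 : ℕ) : ℂ)
  cj : ∀ g h : Matrix.SpecialLinearGroup (Fin 2) F,
        Matrix.SpecialLinearGroup.toGL h = x * Matrix.SpecialLinearGroup.toGL g * x⁻¹ → ν₀ h = μ₀ g

theorem exists_half (hodd : Odd (Fintype.card F)) :
    ∃ (α₀ : MulChar F ℂ) (μ₀ ν₀ : Matrix.SpecialLinearGroup (Fin 2) F → ℂ)
      (x : Matrix.GeneralLinearGroup (Fin 2) F), IsHalf α₀ μ₀ ν₀ x := by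
  classical
  have h2 : (2 : F) ≠ 0 := Cfsg.Agent.Lib.Helper4_SL2Odd.two_ne_zero' hodd
  have hc := card_sq_one (F := F)
  rw [rsq_odd h2] at hc
  obtain ⟨a, b, hab, hS⟩ := Finset.card_eq_two.mp hc
  have h1 : (1 : MulChar F ℂ) ∈ ({a, b} : Finset (MulChar F ℂ)) := by
    rw [← hS, Finset.mem_filter]
    exact ⟨Finset.mem_univ _, one_pow 2⟩
  have hmem : ∀ α : MulChar F ℂ, α ^ 2 = 1 ↔ α = a ∨ α = b := by
    intro α
    have : α ∈ Finset.univ.filter (fun α : MulChar F ℂ => α ^ 2 = 1) ↔ α ∈ ({a, b} : Finset _) := by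
      rw [hS]
    rw [Finset.mem_filter, Finset.mem_insert, Finset.mem_singleton] at this
    simpa using this
  -- choose α₀ the other one
  obtain ⟨α₀, hα₀, hα₀1, huniq⟩ : ∃ α₀ : MulChar F ℂ, α₀ ^ 2 = 1 ∧ α₀ ≠ 1 ∧
      ∀ α : MulChar F ℂ, α ^ 2 = 1 → α = 1 ∨ α = α₀ := by
    rw [Finset.mem_insert, Finset.mem_singleton] at h1
    rcases h1 with h1 | h1
    · refine ⟨b, (hmem b).mpr (Or.inr rfl), ?_, ?_⟩
      · rw [h1]; exact fun h => hab h.symm
      · intro α hα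
        rcases (hmem α).mp hα with h | h
        · left; rw [h, h1]
        · right; exact h
    · refine ⟨a, (hmem a).mpr (Or.inl rfl), ?_, ?_⟩
      · rw [h1]; exact hab
      · intro α hα
        rcases (hmem α).mp hα with h | h
        · right; exact h
        · left; rw [h, h1]
  obtain ⟨μ₀, ν₀, hμ, hν, hne, hsum, hd1, hd2, x, hx⟩ :=
    Cfsg.Agent.Lib.Helper4_SL2HalfChars.main hodd α₀ hα₀ hα₀1
  exact ⟨α₀, μ₀, ν₀, x, ⟨hα₀, hα₀1, huniq, hμ, hν, hne, hsum, hd1, hd2, hx⟩⟩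

theorem casesO {α₀ : MulChar F ℂ} {μ₀ ν₀ : Matrix.SpecialLinearGroup (Fin 2) F → ℂ}
    {x : Matrix.GeneralLinearGroup (Fin 2) F} (D : IsHalf α₀ μ₀ ν₀ x)
    (ξ : Matrix.SpecialLinearGroup (Fin 2) F → ℂ)
    (hξ : IsIrrCharacter (Matrix.SpecialLinearGroup (Fin 2) F) ξ) :
    (ξ = trivS ∧ ξ 1 = ((1 : ℕ) : ℂ)) ∨ (ξ = StS ∧ ξ 1 = ((Fintype.card F : ℕ) : ℂ)) ∨
    (ξ ∈ Pset F ∧ ξ 1 = ((Fintype.card F + 1 : ℕ) : ℂ)) ∨
    ((ξ = μ₀ ∨ ξ = ν₀) ∧ ξ 1 = (((Fintype.card F + 1) / 2 : ℕ) : ℂ)) ∨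
    (IsCuspS ξ ∧ ξ 1 = ((Fintype.card F - 1 : ℕ) : ℂ) ∧
      ∃ χ : Matrix.GeneralLinearGroup (Fin 2) F → ℂ,
      IsIrrCharacter (Matrix.GeneralLinearGroup (Fin 2) F) χ ∧ Cfsg.Agent.Lib.Helper4_GL2Fam.IsCusp χ ∧
      ξ = fun s => χ (Matrix.SpecialLinearGroup.toGL s)) ∨
    (IsCuspS ξ ∧ ξ 1 = (((Fintype.card F - 1) / 2 : ℕ) : ℂ)) := by
  rcases casesS ξ hξ with h | h | ⟨α, hα, h⟩ | ⟨α, hα, hα1, hne⟩ | ⟨hc, hd, hχ⟩ | ⟨hc, -, hd⟩
  · left; exact ⟨h, by rw [h]; simp [trivS]⟩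
  · right; left; exact ⟨h, by rw [h, StS_one]⟩
  · right; right; left
    refine ⟨(mem_Pset ξ).mpr ⟨α, hα, h⟩, ?_⟩
    rw [h, Rs_one]; push_cast; ring
  · right; right; right; left
    have hα0 : α = α₀ := by
      rcases D.uniq α hα with h | h
      · exact absurd h hα1
      · exact h
    rw [hα0, D.sum, classInner_add_right] at hne
    have : ξ = μ₀ ∨ ξ = ν₀ := by
      by_contra hcon
      rw [not_or] at hcon
      apply hne
      rw [classInner_irr_of_ne hξ D.irrμ hcon.1, classInner_irr_of_ne hξ D.irrν hcon.2, add_zero]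
    refine ⟨this, ?_⟩
    rcases this with h | h
    · rw [h, D.degμ]
    · rw [h, D.degν]
  · right; right; right; right; left
    refine ⟨hc, ?_, hχ⟩
    rw [(dg_spec hξ).2, hd]
  · right; right; right; right; right
    refine ⟨hc, ?_⟩
    rw [(dg_spec hξ).2]
    congr 1
    omega

theorem nat_of_degO {χ : Matrix.SpecialLinearGroup (Fin 2) F → ℂ} {n m : ℕ} (h1 : χ 1 = (n : ℂ))
    (h2 : χ 1 = (m : ℂ)) : n = m := by
  rw [h1] at h2
  exact_mod_cast h2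

theorem degreesO (hodd : Odd (Fintype.card F)) (χ : Matrix.SpecialLinearGroup (Fin 2) F → ℂ)
    (hχ : IsIrrCharacter (Matrix.SpecialLinearGroup (Fin 2) F) χ) :
    χ 1 = 1 ∨ χ 1 = (Fintype.card F : ℂ) ∨ χ 1 = (Fintype.card F : ℂ) + 1 ∨ χ 1 = (Fintype.card F : ℂ) - 1 ∨
        χ 1 = (((Fintype.card F + 1) / 2 : ℕ) : ℂ) ∨ χ 1 = (((Fintype.card F - 1) / 2 : ℕ) : ℂ) := by
  obtain ⟨α₀, μ₀, ν₀, x, D⟩ := exists_half hodd
  rcases casesO D χ hχ with ⟨-, h⟩ | ⟨-, h⟩ | ⟨-, h⟩ | ⟨-, h⟩ | ⟨-, h, -⟩ | ⟨-, h⟩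
  · left; rw [h]; simp
  · right; left; exact h
  · right; right; left; rw [h]; simp
  · right; right; right; right; left; exact h
  · right; right; right; left; rw [h, Nat.cast_sub Fintype.card_pos]; simp
  · right; right; right; right; right; exact h

theorem countsO (hodd : Odd (Fintype.card F)) (hq : 5 ≤ Fintype.card F) :
      Nat.card {χ : Cfsg.IrrCharacter (Matrix.SpecialLinearGroup (Fin 2) F) // (χ : Matrix.SpecialLinearGroup (Fin 2) F → ℂ) 1 = 1} = 1 ∧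
      Nat.card {χ : Cfsg.IrrCharacter (Matrix.SpecialLinearGroup (Fin 2) F) // (χ : Matrix.SpecialLinearGroup (Fin 2) F → ℂ) 1 = (Fintype.card F : ℂ)} = 1 ∧
      Nat.card {χ : Cfsg.IrrCharacter (Matrix.SpecialLinearGroup (Fin 2) F) // (χ : Matrix.SpecialLinearGroup (Fin 2) F → ℂ) 1 = (Fintype.card F : ℂ) + 1} = (Fintype.card F - 3) / 2 ∧
      Nat.card {χ : Cfsg.IrrCharacter (Matrix.SpecialLinearGroup (Fin 2) F) // (χ : Matrix.SpecialLinearGroup (Fin 2) F → ℂ) 1 = (Fintype.card F : ℂ) - 1} = (Fintype.card F - 1) / 2 ∧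
      Nat.card {χ : Cfsg.IrrCharacter (Matrix.SpecialLinearGroup (Fin 2) F) // (χ : Matrix.SpecialLinearGroup (Fin 2) F → ℂ) 1 = (((Fintype.card F + 1) / 2 : ℕ) : ℂ)} = 2 ∧
      Nat.card {χ : Cfsg.IrrCharacter (Matrix.SpecialLinearGroup (Fin 2) F) // (χ : Matrix.SpecialLinearGroup (Fin 2) F → ℂ) 1 = (((Fintype.card F - 1) / 2 : ℕ) : ℂ)} = 2 := by
  classical
  obtain ⟨α₀, μ₀, ν₀, x, D⟩ := exists_half hodd
  obtain ⟨m, hm⟩ := hodd
  have h2 : (2 : F) ≠ 0 := Cfsg.Agent.Lib.Helper4_SL2Odd.two_ne_zero' ⟨m, hm⟩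
  have e1 : ((Fintype.card F : ℂ) + 1) = ((Fintype.card F + 1 : ℕ) : ℂ) := by push_cast; ring
  have e2 : ((Fintype.card F : ℂ) - 1) = ((Fintype.card F - 1 : ℕ) : ℂ) := by
    rw [Nat.cast_sub Fintype.card_pos]; simp
  have e0 : (1 : ℂ) = ((1 : ℕ) : ℂ) := by simp
  have hP : 2 * (Pset F).card + 2 = Fintype.card F - 1 := by
    have := card_Aset (F := F)
    rw [rsq_odd h2] at this
    rw [two_mul_card_Pset]
    exact this
  have hI : (irrFinset (Matrix.SpecialLinearGroup (Fin 2) F)).card = Fintype.card F + 4 := by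
    rw [card_irrFinset, Cfsg.Agent.Lib.Helper4_SL2Odd.sl2_classes_odd ⟨m, hm⟩]
  have hD1 : (irrFinset (Matrix.SpecialLinearGroup (Fin 2) F)).filter (fun χ => χ 1 = ((1 : ℕ) : ℂ)) =
      {trivS} := by
    ext χ
    rw [Finset.mem_filter, Finset.mem_singleton, mem_irrFinset]
    constructor
    · rintro ⟨hχ, h1⟩
      rcases casesO D χ hχ with ⟨h, -⟩ | ⟨-, h⟩ | ⟨-, h⟩ | ⟨-, h⟩ | ⟨-, h, -⟩ | ⟨-, h⟩
      · exact h
      · have := nat_of_degO h1 h; omega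
      · have := nat_of_degO h1 h; omega
      · have := nat_of_degO h1 h; omega
      · have := nat_of_degO h1 h; omega
      · have := nat_of_degO h1 h; omega
    · rintro rfl
      exact ⟨trivS_irr, by simp [trivS]⟩
  have hDq : (irrFinset (Matrix.SpecialLinearGroup (Fin 2) F)).filter
      (fun χ => χ 1 = ((Fintype.card F : ℕ) : ℂ)) = {StS} := by
    ext χ
    rw [Finset.mem_filter, Finset.mem_singleton, mem_irrFinset]
    constructor
    · rintro ⟨hχ, h1⟩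
      rcases casesO D χ hχ with ⟨-, h⟩ | ⟨h, -⟩ | ⟨-, h⟩ | ⟨-, h⟩ | ⟨-, h, -⟩ | ⟨-, h⟩
      · have := nat_of_degO h1 h; omega
      · exact h
      · have := nat_of_degO h1 h; omega
      · have := nat_of_degO h1 h; omega
      · have := nat_of_degO h1 h; omega
      · have := nat_of_degO h1 h; omega
    · rintro rfl
      exact ⟨StS_irr, StS_one⟩
  have hDq1 : (irrFinset (Matrix.SpecialLinearGroup (Fin 2) F)).filter
      (fun χ => χ 1 = ((Fintype.card F + 1 : ℕ) : ℂ)) = Pset F := by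
    ext χ
    rw [Finset.mem_filter, mem_irrFinset]
    constructor
    · rintro ⟨hχ, h1⟩
      rcases casesO D χ hχ with ⟨-, h⟩ | ⟨-, h⟩ | ⟨h, -⟩ | ⟨-, h⟩ | ⟨-, h, -⟩ | ⟨-, h⟩
      · have := nat_of_degO h1 h; omega
      · have := nat_of_degO h1 h; omega
      · exact h
      · have := nat_of_degO h1 h; omega
      · have := nat_of_degO h1 h; omega
      · have := nat_of_degO h1 h; omega
    · intro h
      have hirr := mem_irrFinset.mp (Pset_sub h)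
      refine ⟨hirr, ?_⟩
      rw [(dg_spec hirr).2, dg_Pset χ h]
  have hDh : (irrFinset (Matrix.SpecialLinearGroup (Fin 2) F)).filter
      (fun χ => χ 1 = (((Fintype.card F + 1) / 2 : ℕ) : ℂ)) = {μ₀, ν₀} := by
    ext χ
    rw [Finset.mem_filter, Finset.mem_insert, Finset.mem_singleton, mem_irrFinset]
    constructor
    · rintro ⟨hχ, h1⟩
      rcases casesO D χ hχ with ⟨-, h⟩ | ⟨-, h⟩ | ⟨-, h⟩ | ⟨h, -⟩ | ⟨-, h, -⟩ | ⟨-, h⟩
      · have := nat_of_degO h1 h; omega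
      · have := nat_of_degO h1 h; omega
      · have := nat_of_degO h1 h; omega
      · exact h
      · have := nat_of_degO h1 h; omega
      · have := nat_of_degO h1 h; omega
    · rintro (rfl | rfl)
      · exact ⟨D.irrμ, D.degμ⟩
      · exact ⟨D.irrν, D.degν⟩
  -- partition by degree
  have hT : ∀ χ ∈ irrFinset (Matrix.SpecialLinearGroup (Fin 2) F),
      dg χ ∈ ({1, Fintype.card F, Fintype.card F + 1, (Fintype.card F + 1) / 2,
        Fintype.card F - 1, (Fintype.card F - 1) / 2} : Finset ℕ) := by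
    intro χ hχ
    have hχ' := mem_irrFinset.mp hχ
    simp only [Finset.mem_insert, Finset.mem_singleton]
    rcases casesO D χ hχ' with ⟨-, h⟩ | ⟨-, h⟩ | ⟨-, h⟩ | ⟨-, h⟩ | ⟨-, h, -⟩ | ⟨-, h⟩
    · left; exact dg_eq hχ' h
    · right; left; exact dg_eq hχ' h
    · right; right; left; exact dg_eq hχ' h
    · right; right; right; left; exact dg_eq hχ' h
    · right; right; right; right; left; exact dg_eq hχ' h
    · right; right; right; right; right; exact dg_eq hχ' h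
  have hpart := card_by_deg _ hT
  have hsq := sum_sq_by_deg _ hT
  rw [sum_dg_sq, Cfsg.Agent.Lib.Helper4_SL2Card.card_SL2] at hsq
  rw [Finset.sum_insert (by simp; omega), Finset.sum_insert (by simp; omega),
    Finset.sum_insert (by simp; omega), Finset.sum_insert (by simp; omega),
    Finset.sum_insert (by simp; omega), Finset.sum_singleton] at hpart hsq
  rw [hD1, hDq, hDq1, hDh, Finset.card_singleton, Finset.card_singleton,
    Finset.card_pair D.ne] at hpart hsq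
  rw [hI] at hpart
  rw [card_irr_subtype (fun χ : Matrix.SpecialLinearGroup (Fin 2) F → ℂ => χ 1 = 1),
    card_irr_subtype (fun χ : Matrix.SpecialLinearGroup (Fin 2) F → ℂ => χ 1 = (Fintype.card F : ℂ)),
    card_irr_subtype (fun χ : Matrix.SpecialLinearGroup (Fin 2) F → ℂ => χ 1 = (Fintype.card F : ℂ) + 1),
    card_irr_subtype (fun χ : Matrix.SpecialLinearGroup (Fin 2) F → ℂ => χ 1 = (Fintype.card F : ℂ) - 1),
    card_irr_subtype (fun χ : Matrix.SpecialLinearGroup (Fin 2) F → ℂ => χ 1 = (((Fintype.card F + 1) / 2 : ℕ) : ℂ)),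
    card_irr_subtype (fun χ : Matrix.SpecialLinearGroup (Fin 2) F → ℂ => χ 1 = (((Fintype.card F - 1) / 2 : ℕ) : ℂ))]
  rw [e1, e2, e0, hD1, hDq1, hDh, Finset.card_singleton, Finset.card_pair D.ne]
  have hDq' : (irrFinset (Matrix.SpecialLinearGroup (Fin 2) F)).filter
      (fun χ => χ 1 = (Fintype.card F : ℂ)) = {StS} := hDq
  rw [hDq', Finset.card_singleton]
  generalize ((irrFinset (Matrix.SpecialLinearGroup (Fin 2) F)).filter
      (fun χ => χ 1 = ((Fintype.card F - 1 : ℕ) : ℂ))).card = a at hpart hsq ⊢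
  generalize ((irrFinset (Matrix.SpecialLinearGroup (Fin 2) F)).filter
      (fun χ => χ 1 = (((Fintype.card F - 1) / 2 : ℕ) : ℂ))).card = b at hpart hsq ⊢
  generalize (Pset F).card = p at hpart hsq hP ⊢
  generalize Fintype.card F = q at *
  subst hm
  obtain ⟨k, rfl⟩ : ∃ k, m = k + 2 := ⟨m - 2, by omega⟩
  have hp : p = k + 1 := by omega
  subst hp
  have e3 : (2 * (k + 2) + 1 + 1) / 2 = k + 3 := by omega
  have e4 : (2 * (k + 2) + 1 - 1) / 2 = k + 2 := by omega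
  have e5 : 2 * (k + 2) + 1 - 1 = 2 * (k + 2) := by omega
  have e6 : (2 * (k + 2) + 1 - 3) / 2 = k + 1 := by omega
  rw [e3, e4, e5] at hsq
  rw [e6, e4]
  have e7 : (2 * (k + 2) + 1) ^ 2 - 1 = 4 * (k + 2) * (k + 3) := by
    have : (2 * (k + 2) + 1) ^ 2 = 4 * (k + 2) * (k + 3) + 1 := by ring
    omega
  rw [e7] at hsq
  have hab : a + b = k + 4 := by omega
  have hb : b = k + 4 - a := by omega
  have key : (4 * a + b) * (k + 2) ^ 2 = (4 * (k + 2) + 2) * (k + 2) ^ 2 := by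
    nlinarith
  have key2 := Nat.eq_of_mul_eq_mul_right (by positivity) key
  refine ⟨rfl, rfl, rfl, by omega, rfl, by omega⟩

end Cfsg.Agent.Lib.Helper4_SL2OddChars
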