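import Mathlib
import Cfsg.Prelude.Def_Characters
import Cfsg.Prelude.Def_ParabolicCharacters
import Cfsg.Agent.Lib.Helper2_ClassFn
import Cfsg.Agent.Lib.Helper2_CharOrtho
import Cfsg.Agent.Lib.Helper2_CharBasic
import Cfsg.Agent.Lib.Helper4_MulCharDual
import Cfsg.Agent.Lib.Helper4_SL2Fam
import Cfsg.Agent.Lib.Helper4_GL2Count
import Cfsg.Agent.Lib.Helper4_GL2Cusp
import Cfsg.Agent.Lib.Helper4_SL2Res
import Cfsg.Agent.Lib.Helper4_IrrCount
import Cfsg.Agent.Lib.Helper4_SL2Count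
import Cfsg.Agent.Lib.Helper4_SL2Even
import Cfsg.Agent.Lib.Helper4_SL2OddChars

namespace Cfsg.Agent.Lib.Helper4_SL2Values
open Matrix Cfsg Cfsg.Agent.Lib.Helper2_ClassFn Cfsg.Agent.Lib.Helper2_CharOrtho
  Cfsg.Agent.Lib.Helper2_CharBasic
  Cfsg.Agent.Lib.Helper4_MulCharDual Cfsg.Agent.Lib.Helper4_SL2Fam
  Cfsg.Agent.Lib.Helper4_GL2Count Cfsg.Agent.Lib.Helper4_SL2Res Cfsg.Agent.Lib.Helper4_IrrCount
  Cfsg.Agent.Lib.Helper4_SL2Count Cfsg.Agent.Lib.Helper4_SL2Even Cfsg.Agent.Lib.Helper4_SL2OddChars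
  Cfsg.Agent.Lib.Helper4_BorelInd Cfsg.Agent.Lib.Helper4_BorelIndGL Cfsg.Agent.Lib.Helper4_GL2Cusp
open scoped ComplexConjugate

variable {F : Type*} [Field F] [Fintype F] [DecidableEq F]

/-- a uniform classification valid for every finite field -/
theorem casesAll (ξ : Matrix.SpecialLinearGroup (Fin 2) F → ℂ)
    (hξ : IsIrrCharacter (Matrix.SpecialLinearGroup (Fin 2) F) ξ) :
    (ξ = trivS ∧ ξ 1 = ((1 : ℕ) : ℂ)) ∨ (ξ = StS ∧ ξ 1 = ((Fintype.card F : ℕ) : ℂ)) ∨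
    (ξ ∈ Pset F ∧ ξ 1 = ((Fintype.card F + 1 : ℕ) : ℂ)) ∨
    (Odd (Fintype.card F) ∧ ξ 1 = (((Fintype.card F + 1) / 2 : ℕ) : ℂ)) ∨
    (IsCuspS ξ ∧ ξ 1 = ((Fintype.card F - 1 : ℕ) : ℂ) ∧
      ∃ χ : Matrix.GeneralLinearGroup (Fin 2) F → ℂ,
      IsIrrCharacter (Matrix.GeneralLinearGroup (Fin 2) F) χ ∧ Cfsg.Agent.Lib.Helper4_GL2Fam.IsCusp χ ∧
      ξ = fun s => χ (Matrix.SpecialLinearGroup.toGL s)) ∨
    (Odd (Fintype.card F) ∧ IsCuspS ξ ∧ ξ 1 = (((Fintype.card F - 1) / 2 : ℕ) : ℂ)) := by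
  by_cases hodd : Odd (Fintype.card F)
  · obtain ⟨α₀, μ₀, ν₀, x, D⟩ := exists_half hodd
    rcases casesO D ξ hξ with h | h | h | ⟨-, h⟩ | h | h
    · left; exact h
    · right; left; exact h
    · right; right; left; exact h
    · right; right; right; left; exact ⟨hodd, h⟩
    · right; right; right; right; left; exact h
    · right; right; right; right; right; exact ⟨hodd, h⟩
  · have hch : ringChar F = 2 := by
      rw [FiniteField.even_card_iff_char_two]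
      rw [Nat.not_odd_iff_even, Nat.even_iff] at hodd
      exact hodd
    haveI : CharP F 2 := ringChar.of_eq hch
    rcases casesE ξ hξ with h | h | h | h
    · left; exact h
    · right; left; exact h
    · right; right; left; exact h
    · right; right; right; right; left; exact h

theorem eq_StS_of_deg (ξ : Matrix.SpecialLinearGroup (Fin 2) F → ℂ)
    (hξ : IsIrrCharacter (Matrix.SpecialLinearGroup (Fin 2) F) ξ)
    (hdeg : ξ 1 = (Fintype.card F : ℂ)) : ξ = StS := by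
  have hq : 1 < Fintype.card F := Fintype.one_lt_card
  rcases casesAll ξ hξ with ⟨-, h⟩ | ⟨h, -⟩ | ⟨-, h⟩ | ⟨⟨m, hm⟩, h⟩ | ⟨-, h, -⟩ | ⟨⟨m, hm⟩, -, h⟩
  · have := nat_of_degO hdeg h; omega
  · exact h
  · have := nat_of_degO hdeg h; omega
  · have := nat_of_degO hdeg h; omega
  · have := nat_of_degO hdeg h; omega
  · have := nat_of_degO hdeg h; omega

theorem StS_apply (g : Matrix.SpecialLinearGroup (Fin 2) F) :
    StS g = bsum (fun x _ => (1 : MulChar F ℂ) x) (g : Matrix (Fin 2) (Fin 2) F) - 1 := by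
  unfold StS
  rw [Pi.sub_apply, Rs_apply]
  rfl

theorem StS_values (g : Matrix.SpecialLinearGroup (Fin 2) F) :
    ((g : Matrix (Fin 2) (Fin 2) F) 0 1 = 0 → (g : Matrix (Fin 2) (Fin 2) F) 1 0 = 0 → (g : Matrix (Fin 2) (Fin 2) F) 0 0 ^ 2 ≠ 1 → StS g = 1) ∧
    ((∀ (c : F) (v : Fin 2 → F), v ≠ 0 → (g : Matrix (Fin 2) (Fin 2) F).mulVec v ≠ c • v) → StS g = -1) ∧
    ((g : Matrix (Fin 2) (Fin 2) F) 1 0 = 0 → (g : Matrix (Fin 2) (Fin 2) F) 0 0 = (g : Matrix (Fin 2) (Fin 2) F) 1 1 → (g : Matrix (Fin 2) (Fin 2) F) 0 1 ≠ 0 → StS g = 0) := by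
  have hdet := g.det_coe
  rw [Matrix.det_fin_two] at hdet
  refine ⟨?_, ?_, ?_⟩
  · intro h01 h10 hsq
    rw [h01, zero_mul, sub_zero] at hdet
    have h0 : (g : Matrix (Fin 2) (Fin 2) F) 0 0 ≠ 0 := left_ne_zero_of_mul_eq_one hdet
    have h1 : (g : Matrix (Fin 2) (Fin 2) F) 1 1 ≠ 0 := right_ne_zero_of_mul_eq_one hdet
    have hne : (g : Matrix (Fin 2) (Fin 2) F) 0 0 ≠ (g : Matrix (Fin 2) (Fin 2) F) 1 1 := by
      intro h
      apply hsq
      rw [pow_two]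
      nth_rewrite 2 [h]
      exact hdet
    rw [StS_apply, bsum_tri _ _ h10 hne, MulChar.one_apply (isUnit_iff_ne_zero.mpr h0),
      MulChar.one_apply (isUnit_iff_ne_zero.mpr h1)]
    norm_num
  · intro h
    rw [StS_apply, bsum_no_eigen _ _ h]
    norm_num
  · intro h10 heq h01
    rw [h10, mul_zero, sub_zero] at hdet
    have h0 : (g : Matrix (Fin 2) (Fin 2) F) 0 0 ≠ 0 := left_ne_zero_of_mul_eq_one hdet
    rw [StS_apply, bsum_unip _ _ h10 heq h01, MulChar.one_apply (isUnit_iff_ne_zero.mpr h0)]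
    norm_num

theorem S2321_main (χ : Matrix.SpecialLinearGroup (Fin 2) F → ℂ) (hχ : Cfsg.IsIrrCharacter (Matrix.SpecialLinearGroup (Fin 2) F) χ) (hdeg : χ 1 = (Fintype.card F : ℂ)) (g : Matrix.SpecialLinearGroup (Fin 2) F) :
    ((g : Matrix (Fin 2) (Fin 2) F) 0 1 = 0 → (g : Matrix (Fin 2) (Fin 2) F) 1 0 = 0 → (g : Matrix (Fin 2) (Fin 2) F) 0 0 ^ 2 ≠ 1 → χ g = 1) ∧
    ((∀ (c : F) (v : Fin 2 → F), v ≠ 0 → (g : Matrix (Fin 2) (Fin 2) F).mulVec v ≠ c • v) → χ g = -1) ∧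
    ((g : Matrix (Fin 2) (Fin 2) F) 1 0 = 0 → (g : Matrix (Fin 2) (Fin 2) F) 0 0 = (g : Matrix (Fin 2) (Fin 2) F) 1 1 → (g : Matrix (Fin 2) (Fin 2) F) 0 1 ≠ 0 → χ g = 0) := by
  rw [eq_StS_of_deg χ hχ hdeg]
  exact StS_values g

theorem cusp_unip_val (χ : Matrix.GeneralLinearGroup (Fin 2) F → ℂ)
    (hχ : IsIrrCharacter (Matrix.GeneralLinearGroup (Fin 2) F) χ)
    (hc : Cfsg.Agent.Lib.Helper4_GL2Fam.IsCusp χ) (hdeg : χ 1 = (Fintype.card F : ℂ) - 1) :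
    χ (TG0 1 1 1) = -1 := by
  have hcl := IsCharacter.isClassFunction (IsIrrCharacter.isCharacter hχ)
  have h := cusp_unip χ hcl hc 1
  have h1 : (TG0 1 1 0 : Matrix.GeneralLinearGroup (Fin 2) F) = 1 := by
    apply Units.ext
    rw [TG0_val]
    simp [Matrix.one_fin_two]
  rw [h1, hdeg] at h
  have hq : 1 < Fintype.card F := Fintype.one_lt_card
  have hne : (Fintype.card F : ℂ) - 1 ≠ 0 := by
    rw [sub_ne_zero]
    intro h'
    have : Fintype.card F = 1 := by exact_mod_cast h'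
    omega
  have h2 : ((Fintype.card F : ℂ) - 1) * (1 + χ (TG0 1 1 1)) = 0 := by linear_combination h
  rcases mul_eq_zero.mp h2 with h3 | h3
  · exact absurd h3 hne
  · linear_combination h3

theorem S2323_main (hq : 4 ≤ Fintype.card F) (χ : Matrix.SpecialLinearGroup (Fin 2) F → ℂ) (hχ : Cfsg.IsIrrCharacter (Matrix.SpecialLinearGroup (Fin 2) F) χ)
    (u : Matrix.SpecialLinearGroup (Fin 2) F) (hu : (u : Matrix (Fin 2) (Fin 2) F) = !![1, 1; 0, 1]) :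
    (χ 1 = (Fintype.card F : ℂ) + 1 → χ u = 1) ∧ (χ 1 = (Fintype.card F : ℂ) - 1 → χ u = -1) := by
  have e1 : ((Fintype.card F : ℂ) + 1) = ((Fintype.card F + 1 : ℕ) : ℂ) := by push_cast; ring
  have e2 : ((Fintype.card F : ℂ) - 1) = ((Fintype.card F - 1 : ℕ) : ℂ) := by
    rw [Nat.cast_sub Fintype.card_pos]; simp
  constructor
  · intro hdeg
    rw [e1] at hdeg
    rcases casesAll χ hχ with ⟨-, h⟩ | ⟨-, h⟩ | ⟨h, -⟩ | ⟨⟨m, hm⟩, h⟩ | ⟨-, h, -⟩ | ⟨⟨m, hm⟩, -, h⟩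
    · have := nat_of_degO hdeg h; omega
    · have := nat_of_degO hdeg h; omega
    · obtain ⟨α, -, rfl⟩ := (mem_Pset χ).mp h
      rw [Rs_apply, bsum_unip _ _ (by rw [hu]; simp) (by rw [hu]; simp) (by rw [hu]; simp)]
      rw [hu]
      simp
    · have := nat_of_degO hdeg h; omega
    · have := nat_of_degO hdeg h; omega
    · have := nat_of_degO hdeg h; omega
  · intro hdeg
    have hdeg' := hdeg
    rw [e2] at hdeg
    rcases casesAll χ hχ with ⟨-, h⟩ | ⟨-, h⟩ | ⟨-, h⟩ | ⟨⟨m, hm⟩, h⟩ | ⟨-, -, χ', hχ', hc, rfl⟩ | ⟨⟨m, hm⟩, -, h⟩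
    · have := nat_of_degO hdeg h; omega
    · have := nat_of_degO hdeg h; omega
    · have := nat_of_degO hdeg h; omega
    · have := nat_of_degO hdeg h; omega
    · have hu' : Matrix.SpecialLinearGroup.toGL u = TG0 1 1 1 := by
        apply Units.ext
        rw [TG0_val]
        show (u : Matrix (Fin 2) (Fin 2) F) = _
        rw [hu]
        simp
      show χ' (Matrix.SpecialLinearGroup.toGL u) = -1
      rw [hu']
      apply cusp_unip_val χ' hχ' hc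
      have : χ' (Matrix.SpecialLinearGroup.toGL (1 : Matrix.SpecialLinearGroup (Fin 2) F)) =
          (Fintype.card F : ℂ) - 1 := hdeg'
      rw [map_one] at this
      exact this
    · have := nat_of_degO hdeg h; omega

end Cfsg.Agent.Lib.Helper4_SL2Values
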