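import Mathlib
import Cfsg.Prelude.Def_Characters
import Cfsg.Prelude.Def_ParabolicCharacters
import Cfsg.Prelude.Def_DegreeGraph
import Cfsg.Agent.Lib.Helper2_ClassFn
import Cfsg.Agent.Lib.Helper2_CharOrtho
import Cfsg.Agent.Lib.Helper2_CharBasic
import Cfsg.Agent.Lib.Helper2_CharMore
import Cfsg.Agent.Lib.Helper2_CharCenter
import Cfsg.Agent.Lib.Helper4_SL2Fam
import Cfsg.Agent.Lib.Helper4_GL2Count
import Cfsg.Agent.Lib.Helper4_IrrCount
import Cfsg.Agent.Lib.Helper4_SL2Count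
import Cfsg.Agent.Lib.Helper4_SL2Values
import Cfsg.Agent.Lib.Helper4_DegGraphEven

namespace Cfsg.Agent.Lib.Helper4_PSL2Chars
open Matrix Cfsg Cfsg.Agent.Lib.Helper2_ClassFn Cfsg.Agent.Lib.Helper2_CharOrtho
  Cfsg.Agent.Lib.Helper2_CharBasic Cfsg.Agent.Lib.Helper2_CharMore
  Cfsg.Agent.Lib.Helper4_SL2Fam Cfsg.Agent.Lib.Helper4_BorelInd
  Cfsg.Agent.Lib.Helper4_GL2Count Cfsg.Agent.Lib.Helper4_IrrCount
  Cfsg.Agent.Lib.Helper4_SL2Count Cfsg.Agent.Lib.Helper4_SL2Values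
  Cfsg.Agent.Lib.Helper4_DegGraphEven Cfsg.Agent.Lib.Helper4_SL2OddChars
open scoped ComplexConjugate

universe u

variable {F : Type u} [Field F] [Fintype F]

/-- inflation from PSL₂ to SL₂ -/
def inflP (χ : Matrix.ProjectiveSpecialLinearGroup (Fin 2) F → ℂ) :
    Matrix.SpecialLinearGroup (Fin 2) F → ℂ :=
  fun s => χ (QuotientGroup.mk s)

omit [Fintype F] in
theorem inflP_irr {χ : Matrix.ProjectiveSpecialLinearGroup (Fin 2) F → ℂ}
    (hχ : IsIrrCharacter (Matrix.ProjectiveSpecialLinearGroup (Fin 2) F) χ) :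
    IsIrrCharacter (Matrix.SpecialLinearGroup (Fin 2) F) (inflP χ) :=
  IsIrrCharacter.comp_surjective hχ
    (QuotientGroup.mk' (Subgroup.center (Matrix.SpecialLinearGroup (Fin 2) F)))
    (QuotientGroup.mk'_surjective _)

omit [Fintype F] in
theorem inflP_inj {χ χ' : Matrix.ProjectiveSpecialLinearGroup (Fin 2) F → ℂ}
    (h : inflP χ = inflP χ') : χ = χ' := by
  ext x
  obtain ⟨s, rfl⟩ := QuotientGroup.mk_surjective x
  exact congrFun h s

omit [Fintype F] in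
theorem inflP_one (χ : Matrix.ProjectiveSpecialLinearGroup (Fin 2) F → ℂ) :
    inflP χ 1 = χ 1 := rfl

omit [Fintype F] in
theorem center_scalar (z : Matrix.SpecialLinearGroup (Fin 2) F)
    (hz : z ∈ Subgroup.center (Matrix.SpecialLinearGroup (Fin 2) F)) :
    (z : Matrix (Fin 2) (Fin 2) F) 1 0 = 0 ∧ (z : Matrix (Fin 2) (Fin 2) F) 0 1 = 0 ∧
    (z : Matrix (Fin 2) (Fin 2) F) 0 0 = (z : Matrix (Fin 2) (Fin 2) F) 1 1 ∧
    (z : Matrix (Fin 2) (Fin 2) F) 0 0 ^ 2 = 1 := by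
  rw [Matrix.SpecialLinearGroup.mem_center_iff] at hz
  obtain ⟨r, hr, hz⟩ := hz
  rw [Fintype.card_fin] at hr
  rw [← hz]
  simp [hr]

variable [DecidableEq F]

theorem StS_center (z : Matrix.SpecialLinearGroup (Fin 2) F)
    (hz : z ∈ Subgroup.center (Matrix.SpecialLinearGroup (Fin 2) F)) :
    StS z = StS (1 : Matrix.SpecialLinearGroup (Fin 2) F) := by
  obtain ⟨h10, h01, heq, hsq⟩ := center_scalar z hz
  have h0 : (z : Matrix (Fin 2) (Fin 2) F) 0 0 ≠ 0 := by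
    intro h
    rw [h] at hsq
    simp at hsq
  rw [StS_one, StS_apply, bsum_scalar _ _ h10 heq h01, MulChar.one_apply (isUnit_iff_ne_zero.mpr h0)]
  ring

theorem exists_StP : ∃ ψ : Matrix.ProjectiveSpecialLinearGroup (Fin 2) F → ℂ,
    IsIrrCharacter (Matrix.ProjectiveSpecialLinearGroup (Fin 2) F) ψ ∧ inflP ψ = StS := by
  obtain ⟨ψ, hψ, h⟩ := Cfsg.Agent.Lib.Helper2_CharCenter.IsIrrCharacter.deflate (StS_irr (F := F))
    (Subgroup.center (Matrix.SpecialLinearGroup (Fin 2) F)) StS_center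
  exact ⟨ψ, hψ, funext h⟩

theorem S4765_main (p : ℕ) [Fact p.Prime] [CharP F p] (hF : 4 ≤ Fintype.card F) :
    Nat.card {χ : Cfsg.IrrCharacter (Matrix.ProjectiveSpecialLinearGroup (Fin 2) F) // p ∣ Cfsg.charDegree (χ : Matrix.ProjectiveSpecialLinearGroup (Fin 2) F → ℂ)} = 1 ∧ ∀ χ : Cfsg.IrrCharacter (Matrix.ProjectiveSpecialLinearGroup (Fin 2) F), p ∣ Cfsg.charDegree (χ : Matrix.ProjectiveSpecialLinearGroup (Fin 2) F → ℂ) → Cfsg.charDegree (χ : Matrix.ProjectiveSpecialLinearGroup (Fin 2) F → ℂ) = Fintype.card F := by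
  have hp : p.Prime := Fact.out
  obtain ⟨k, hk⟩ : ∃ k : ℕ+, Fintype.card F = p ^ (k : ℕ) := by
    obtain ⟨n, -, hn⟩ := FiniteField.card F p
    exact ⟨n, hn⟩
  have hpq : p ∣ Fintype.card F := by
    rw [hk]
    exact dvd_pow_self p k.pos.ne'
  have hnot1 : ¬ p ∣ 1 := fun h => hp.ne_one (Nat.dvd_one.mp h)
  have key : ∀ χ : Cfsg.IrrCharacter (Matrix.ProjectiveSpecialLinearGroup (Fin 2) F),
      p ∣ Cfsg.charDegree (χ : Matrix.ProjectiveSpecialLinearGroup (Fin 2) F → ℂ) →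
      Cfsg.charDegree (χ : Matrix.ProjectiveSpecialLinearGroup (Fin 2) F → ℂ) = Fintype.card F ∧
        inflP χ.1 = StS := by
    intro χ hdvd
    have hirr := inflP_irr χ.2
    rcases casesAll (inflP χ.1) hirr with ⟨-, h⟩ | ⟨h', h⟩ | ⟨-, h⟩ | ⟨⟨m, hm⟩, h⟩ | ⟨-, h, -⟩ | ⟨⟨m, hm⟩, -, h⟩
    all_goals rw [inflP_one] at h
    all_goals rw [charDegree_of_nat h] at hdvd ⊢
    · exact absurd hdvd hnot1
    · exact ⟨rfl, h'⟩
    · exfalso
      exact hnot1 ((Nat.dvd_add_right hpq).mp hdvd)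
    · exfalso
      have h1 : p ∣ Fintype.card F + 1 := by
        have : Fintype.card F + 1 = 2 * ((Fintype.card F + 1) / 2) := by omega
        rw [this]
        exact Dvd.dvd.mul_left hdvd 2
      exact hnot1 ((Nat.dvd_add_right hpq).mp h1)
    · exfalso
      have h1 : p ∣ (Fintype.card F - 1) + 1 := by
        rw [Nat.sub_add_cancel Fintype.card_pos]; exact hpq
      exact hnot1 ((Nat.dvd_add_right hdvd).mp h1)
    · exfalso
      have h0 : p ∣ Fintype.card F - 1 := by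
        have : Fintype.card F - 1 = 2 * ((Fintype.card F - 1) / 2) := by omega
        rw [this]
        exact Dvd.dvd.mul_left hdvd 2
      have h1 : p ∣ (Fintype.card F - 1) + 1 := by
        rw [Nat.sub_add_cancel Fintype.card_pos]; exact hpq
      exact hnot1 ((Nat.dvd_add_right h0).mp h1)
  refine ⟨?_, fun χ h => (key χ h).1⟩
  rw [Nat.card_eq_one_iff_unique]
  constructor
  · constructor
    rintro ⟨χ, hχ⟩ ⟨χ', hχ'⟩
    apply Subtype.ext
    apply Subtype.ext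
    apply inflP_inj
    rw [(key χ hχ).2, (key χ' hχ').2]
  · obtain ⟨ψ, hψ, hinfl⟩ := exists_StP (F := F)
    refine ⟨⟨⟨ψ, hψ⟩, ?_⟩⟩
    have : ψ 1 = ((Fintype.card F : ℕ) : ℂ) := by
      rw [← inflP_one ψ, hinfl, StS_one]
    show p ∣ charDegree ψ
    rw [charDegree_of_nat this]
    exact hpq

end Cfsg.Agent.Lib.Helper4_PSL2Chars
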