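import Mathlib
import Cfsg.Prelude.Def_Characters
import Cfsg.Prelude.Def_ParabolicCharacters
import Cfsg.Prelude.Def_DegreeGraph
import Cfsg.Agent.Lib.Helper2_ClassFn
import Cfsg.Agent.Lib.Helper2_CharOrtho
import Cfsg.Agent.Lib.Helper2_CharBasic
import Cfsg.Agent.Lib.Helper2_CharMore
import Cfsg.Agent.Lib.Helper2_CharCenter
import Cfsg.Agent.Lib.Helper4_SL2Fam
import Cfsg.Agent.Lib.Helper4_GL2Count
import Cfsg.Agent.Lib.Helper4_IrrCount
import Cfsg.Agent.Lib.Helper4_SL2Count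
import Cfsg.Agent.Lib.Helper4_SL2Values
import Cfsg.Agent.Lib.Helper4_DegGraphEven
import Cfsg.Agent.Lib.Helper4_PSL2Chars
import Cfsg.Agent.Lib.Helper4_PSL2ClassOdd

namespace Cfsg.Agent.Lib.Helper4_DegGraphOdd
open Matrix Cfsg Cfsg.Agent.Lib.Helper2_ClassFn Cfsg.Agent.Lib.Helper2_CharOrtho
  Cfsg.Agent.Lib.Helper2_CharBasic Cfsg.Agent.Lib.Helper2_CharMore
  Cfsg.Agent.Lib.Helper4_SL2Fam Cfsg.Agent.Lib.Helper4_BorelInd
  Cfsg.Agent.Lib.Helper4_GL2Count Cfsg.Agent.Lib.Helper4_IrrCount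
  Cfsg.Agent.Lib.Helper4_SL2Count Cfsg.Agent.Lib.Helper4_SL2Values
  Cfsg.Agent.Lib.Helper4_DegGraphEven Cfsg.Agent.Lib.Helper4_SL2OddChars
  Cfsg.Agent.Lib.Helper4_PSL2Chars Cfsg.Agent.Lib.Helper4_MulCharDual
open scoped ComplexConjugate

universe u v

/-- arithmetic core of the degree graph for odd q -/
theorem core_odd (q t k : ℕ) (ht : t.Prime) (ht2 : t ≠ 2) (hq : q = t ^ k) (h5 : 5 < q)
    (D : Set ℕ)
    (hsub : ∀ d ∈ D, d = 1 ∨ d = q ∨ d = q + 1 ∨ d = q - 1 ∨ d = (q + 1) / 2 ∨ d = (q - 1) / 2)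
    (h1 : q ∈ D) (h2 : q + 1 ∈ D) (h3 : q - 1 ∈ D) :
    {p : ℕ | p.Prime ∧ ∃ d ∈ D, p ∣ d} = {r : ℕ | r.Prime ∧ r ∣ q * (q ^ 2 - 1)} ∧
    ∀ r s : ℕ, (r ≠ s ∧ r.Prime ∧ s.Prime ∧ ∃ d ∈ D, r * s ∣ d) ↔
      (r ≠ s ∧ r.Prime ∧ s.Prime ∧ r ∣ q ^ 2 - 1 ∧ s ∣ q ^ 2 - 1 ∧
        (r = 2 ∨ s = 2 ∨ (r ∣ q + 1 ∧ s ∣ q + 1) ∨ (r ∣ q - 1 ∧ s ∣ q - 1))) := by
  have hqodd : Odd q := by
    rw [hq]
    exact Odd.pow (ht.odd_of_ne_two ht2)
  obtain ⟨m, hm⟩ := hqodd
  have hfac : q ^ 2 - 1 = (q - 1) * (q + 1) := by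
    have : q ^ 2 = (q - 1) * (q + 1) + 1 := by
      obtain ⟨n, hn⟩ : ∃ n, q = n + 1 := ⟨q - 1, by omega⟩
      rw [hn]; simp; ring
    omega
  have hd1 : (q + 1) / 2 ∣ q + 1 := ⟨2, by omega⟩
  have hd2 : (q - 1) / 2 ∣ q - 1 := ⟨2, by omega⟩
  have h2p : 2 ∣ q + 1 := ⟨m + 1, by omega⟩
  have h2m : 2 ∣ q - 1 := ⟨m, by omega⟩
  constructor
  · ext r
    simp only [Set.mem_setOf_eq]
    constructor
    · rintro ⟨hr, d, hd, hrd⟩
      refine ⟨hr, ?_⟩
      rw [hfac]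
      rcases hsub d hd with rfl | rfl | rfl | rfl | rfl | rfl
      · exact absurd (Nat.dvd_one.mp hrd) hr.ne_one
      · exact Dvd.dvd.mul_right hrd _
      · exact Dvd.dvd.mul_left (Dvd.dvd.mul_left hrd _) _
      · exact Dvd.dvd.mul_left (Dvd.dvd.mul_right hrd _) _
      · exact Dvd.dvd.mul_left (Dvd.dvd.mul_left (dvd_trans hrd hd1) _) _
      · exact Dvd.dvd.mul_left (Dvd.dvd.mul_right (dvd_trans hrd hd2) _) _
    · rintro ⟨hr, h⟩
      refine ⟨hr, ?_⟩
      rw [hfac] at h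
      rcases (Nat.Prime.dvd_mul hr).mp h with h | h
      · exact ⟨q, h1, h⟩
      · rcases (Nat.Prime.dvd_mul hr).mp h with h | h
        · exact ⟨q - 1, h3, h⟩
        · exact ⟨q + 1, h2, h⟩
  · intro r s
    constructor
    · rintro ⟨hne, hr, hs, d, hd, hrs⟩
      have hrd : r ∣ d := dvd_trans (dvd_mul_right r s) hrs
      have hsd : s ∣ d := dvd_trans (dvd_mul_left s r) hrs
      refine ⟨hne, hr, hs, ?_⟩
      rw [hfac]
      rcases hsub d hd with rfl | rfl | rfl | rfl | rfl | rfl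
      · exact absurd (Nat.dvd_one.mp hrd) hr.ne_one
      · exfalso
        rw [hq] at hrd hsd
        have e1 := (Nat.prime_dvd_prime_iff_eq hr ht).mp (hr.dvd_of_dvd_pow hrd)
        have e2 := (Nat.prime_dvd_prime_iff_eq hs ht).mp (hs.dvd_of_dvd_pow hsd)
        exact hne (e1.trans e2.symm)
      · exact ⟨Dvd.dvd.mul_left hrd _, Dvd.dvd.mul_left hsd _, Or.inr (Or.inr (Or.inl ⟨hrd, hsd⟩))⟩
      · exact ⟨Dvd.dvd.mul_right hrd _, Dvd.dvd.mul_right hsd _, Or.inr (Or.inr (Or.inr ⟨hrd, hsd⟩))⟩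
      · have hrd' := dvd_trans hrd hd1
        have hsd' := dvd_trans hsd hd1
        exact ⟨Dvd.dvd.mul_left hrd' _, Dvd.dvd.mul_left hsd' _, Or.inr (Or.inr (Or.inl ⟨hrd', hsd'⟩))⟩
      · have hrd' := dvd_trans hrd hd2
        have hsd' := dvd_trans hsd hd2
        exact ⟨Dvd.dvd.mul_right hrd' _, Dvd.dvd.mul_right hsd' _, Or.inr (Or.inr (Or.inr ⟨hrd', hsd'⟩))⟩
    · rintro ⟨hne, hr, hs, hrq, hsq, h⟩
      refine ⟨hne, hr, hs, ?_⟩
      have hcop : Nat.Coprime r s := (Nat.coprime_primes hr hs).mpr hne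
      rw [hfac] at hrq hsq
      have key : (r ∣ q + 1 ∧ s ∣ q + 1) ∨ (r ∣ q - 1 ∧ s ∣ q - 1) := by
        rcases h with h | h | h | h
        · subst h
          rcases (Nat.Prime.dvd_mul hs).mp hsq with h' | h'
          · right; exact ⟨h2m, h'⟩
          · left; exact ⟨h2p, h'⟩
        · subst h
          rcases (Nat.Prime.dvd_mul hr).mp hrq with h' | h'
          · right; exact ⟨h', h2m⟩
          · left; exact ⟨h', h2p⟩
        · left; exact h
        · right; exact h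
      rcases key with ⟨a, b⟩ | ⟨a, b⟩
      · exact ⟨q + 1, h2, hcop.mul_dvd_of_dvd_of_dvd a b⟩
      · exact ⟨q - 1, h3, hcop.mul_dvd_of_dvd_of_dvd a b⟩

theorem graph_of_degrees {G : Type u} [Group G] {S : Type v} [Group S] (e : S ≃* G)
    (q t k : ℕ) (ht : t.Prime) (ht2 : t ≠ 2) (hq : q = t ^ k) (h5 : 5 < q)
    (hsub : ∀ d ∈ charDegrees G, d = 1 ∨ d = q ∨ d = q + 1 ∨ d = q - 1 ∨ d = (q + 1) / 2 ∨ d = (q - 1) / 2)
    (h1 : q ∈ charDegrees G) (h2 : q + 1 ∈ charDegrees G) (h3 : q - 1 ∈ charDegrees G) :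
    Cfsg.degreePrimes S = {r : ℕ | r.Prime ∧ r ∣ q * (q ^ 2 - 1)} ∧ ∀ r s : ℕ, (Cfsg.degreeGraph S).Adj r s ↔ (r ≠ s ∧ r.Prime ∧ s.Prime ∧ r ∣ q ^ 2 - 1 ∧ s ∣ q ^ 2 - 1 ∧ (r = 2 ∨ s = 2 ∨ (r ∣ q + 1 ∧ s ∣ q + 1) ∨ (r ∣ q - 1 ∧ s ∣ q - 1))) := by
  rw [degreePrimes_congr e]
  simp only [degreeGraph_adj_congr e]
  exact core_odd q t k ht ht2 hq h5 (charDegrees G) hsub h1 h2 h3

variable {F : Type u} [Field F] [Fintype F] [DecidableEq F]

theorem SL2_degrees_sub (hodd : Odd (Fintype.card F)) :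
    ∀ d ∈ charDegrees (Matrix.SpecialLinearGroup (Fin 2) F), d = 1 ∨ d = Fintype.card F ∨
      d = Fintype.card F + 1 ∨ d = Fintype.card F - 1 ∨ d = (Fintype.card F + 1) / 2 ∨
      d = (Fintype.card F - 1) / 2 := by
  rintro d ⟨χ, rfl⟩
  obtain ⟨α₀, μ₀, ν₀, x, D⟩ := exists_half hodd
  rcases casesO D χ.1 χ.2 with ⟨-, h⟩ | ⟨-, h⟩ | ⟨-, h⟩ | ⟨-, h⟩ | ⟨-, h, -⟩ | ⟨-, h⟩
  · left; exact charDegree_of_nat h
  · right; left; exact charDegree_of_nat h
  · right; right; left; exact charDegree_of_nat h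
  · right; right; right; right; left; exact charDegree_of_nat h
  · right; right; right; left; exact charDegree_of_nat h
  · right; right; right; right; right; exact charDegree_of_nat h

theorem SL2_deg_q : Fintype.card F ∈ charDegrees (Matrix.SpecialLinearGroup (Fin 2) F) :=
  ⟨⟨StS, StS_irr⟩, charDegree_of_nat StS_one⟩

theorem SL2_deg_q1 (hodd : Odd (Fintype.card F)) (h7 : 7 ≤ Fintype.card F) :
    Fintype.card F + 1 ∈ charDegrees (Matrix.SpecialLinearGroup (Fin 2) F) := by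
  have h := (countsO hodd (by omega)).2.2.1
  have hpos : 0 < Nat.card {χ : Cfsg.IrrCharacter (Matrix.SpecialLinearGroup (Fin 2) F) //
      (χ : Matrix.SpecialLinearGroup (Fin 2) F → ℂ) 1 = (Fintype.card F : ℂ) + 1} := by
    rw [h]; omega
  obtain ⟨⟨χ, hχ⟩⟩ := (Nat.card_pos_iff.mp hpos).1
  refine ⟨χ, charDegree_of_nat ?_⟩
  rw [hχ]; push_cast; ring

theorem SL2_deg_qm1 (hodd : Odd (Fintype.card F)) (h7 : 7 ≤ Fintype.card F) :
    Fintype.card F - 1 ∈ charDegrees (Matrix.SpecialLinearGroup (Fin 2) F) := by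
  have h := (countsO hodd (by omega)).2.2.2.1
  have hpos : 0 < Nat.card {χ : Cfsg.IrrCharacter (Matrix.SpecialLinearGroup (Fin 2) F) //
      (χ : Matrix.SpecialLinearGroup (Fin 2) F → ℂ) 1 = (Fintype.card F : ℂ) - 1} := by
    rw [h]; omega
  obtain ⟨⟨χ, hχ⟩⟩ := (Nat.card_pos_iff.mp hpos).1
  refine ⟨χ, charDegree_of_nat ?_⟩
  rw [hχ, Nat.cast_sub Fintype.card_pos]; simp

/-- even multiplicative characters -/
noncomputable def Ev (F : Type u) [Field F] [Fintype F] [DecidableEq F] : Finset (MulChar F ℂ) := by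
  classical
  exact Finset.univ.filter (fun α : MulChar F ℂ => α (-1) = 1)

theorem mem_Ev (α : MulChar F ℂ) : α ∈ Ev F ↔ α (-1) = 1 := by
  unfold Ev
  rw [Finset.mem_filter]
  simp

theorem two_mul_card_Ev (h2 : (2 : F) ≠ 0) : 2 * (Ev F).card ≤ Fintype.card F - 1 := by
  classical
  have hne : (-1 : F) ≠ 1 := by
    intro h
    apply h2
    linear_combination -h
  obtain ⟨γ, hγ⟩ := MulChar.exists_apply_ne_one_of_hasEnoughRootsOfUnity F ℂ hne
  have hinj : (Ev F).card ≤ (Finset.univ \ Ev F).card := by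
    apply Finset.card_le_card_of_injOn (fun α => α * γ)
    · intro α hα
      rw [Finset.mem_coe, mem_Ev] at hα
      rw [Finset.mem_coe, Finset.mem_sdiff, mem_Ev]
      refine ⟨Finset.mem_univ _, ?_⟩
      rw [MulChar.mul_apply, hα, one_mul]
      exact hγ
    · intro α _ β _ h
      exact mul_right_cancel h
  have htot : (Finset.univ \ Ev F).card + (Ev F).card = Fintype.card F - 1 := by
    rw [Finset.card_sdiff_add_card_eq_card (Finset.subset_univ _), Finset.card_univ, card_mulChar]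
  omega

/-- the even irreducible principal series -/
noncomputable def PE (F : Type u) [Field F] [Fintype F] [DecidableEq F] :
    Finset (Matrix.SpecialLinearGroup (Fin 2) F → ℂ) := by
  classical
  exact ((Ev F) ∩ (Aset F)).image Rs

theorem two_mul_card_PE : 2 * (PE F).card + 1 ≤ (Ev F).card := by
  classical
  have h1 : 2 * (PE F).card = ((Ev F) ∩ (Aset F)).card := by
    unfold PE
    rw [Finset.card_eq_sum_card_image Rs ((Ev F) ∩ (Aset F)), mul_comm, ← smul_eq_mul,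
      ← Finset.sum_const]
    refine Finset.sum_congr rfl fun χ hχ => ?_
    symm
    obtain ⟨α, hα, rfl⟩ := Finset.mem_image.mp hχ
    rw [Finset.mem_inter] at hα
    have hα' := (mem_Aset α).mp hα.2
    have hαe := (mem_Ev α).mp hα.1
    have hne : α ≠ α⁻¹ := by
      intro h
      apply hα'
      rw [pow_two, mul_eq_one_iff_eq_inv]
      exact h
    have : ((Ev F) ∩ (Aset F)).filter (fun β => Rs β = Rs α) = {α, α⁻¹} := by
      ext β
      rw [Finset.mem_filter, Finset.mem_insert, Finset.mem_singleton, Rs_eq_iff, Finset.mem_inter,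
        mem_Aset, mem_Ev]
      constructor
      · rintro ⟨-, h⟩
        exact h
      · rintro (rfl | rfl)
        · exact ⟨⟨hαe, hα'⟩, Or.inl rfl⟩
        · refine ⟨⟨?_, ?_⟩, Or.inr rfl⟩
          · have hu : IsUnit (-1 : F) := isUnit_iff_ne_zero.mpr (by simp)
            have := MulChar.inv_apply_eq_inv' α (-1 : F)
            rw [this, hαe, inv_one]
          · rw [inv_pow]
            intro h
            apply hα'
            rw [inv_eq_one] at h
            exact h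
    rw [this, Finset.card_pair hne]
  have h2 : ((Ev F) ∩ (Aset F)) ⊆ (Ev F).erase 1 := by
    intro α hα
    rw [Finset.mem_inter] at hα
    rw [Finset.mem_erase]
    refine ⟨?_, hα.1⟩
    intro h
    have := (mem_Aset α).mp hα.2
    rw [h] at this
    exact this (one_pow 2)
  have h3 := Finset.card_le_card h2
  have h4 : (1 : MulChar F ℂ) ∈ Ev F := by
    rw [mem_Ev]
    exact MulChar.one_apply (isUnit_iff_ne_zero.mpr (by simp))
  rw [Finset.card_erase_of_mem h4] at h3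
  have h5 : 0 < (Ev F).card := Finset.card_pos.mpr ⟨1, h4⟩
  omega

omit [Fintype F] [DecidableEq F] in
theorem inflP_even (ψ : Matrix.ProjectiveSpecialLinearGroup (Fin 2) F → ℂ)
    (z : Matrix.SpecialLinearGroup (Fin 2) F)
    (hz : z ∈ Subgroup.center (Matrix.SpecialLinearGroup (Fin 2) F)) :
    inflP ψ z = inflP ψ 1 := by
  unfold inflP
  congr 1
  rw [QuotientGroup.mk_one]
  exact (QuotientGroup.eq_one_iff z).mpr hz

omit [DecidableEq F] in
theorem card_PSL2_odd (h2 : (2 : F) ≠ 0) :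
    2 * Nat.card (Matrix.ProjectiveSpecialLinearGroup (Fin 2) F) =
      Fintype.card F * (Fintype.card F ^ 2 - 1) := by
  classical
  have h := Subgroup.card_eq_card_quotient_mul_card_subgroup
    (Subgroup.center (Matrix.SpecialLinearGroup (Fin 2) F))
  rw [Cfsg.Agent.Lib.Helper4_SL2Card.card_SL2] at h
  have hZ : Nat.card (Subgroup.center (Matrix.SpecialLinearGroup (Fin 2) F)) = 2 := by
    have : ((Subgroup.center (Matrix.SpecialLinearGroup (Fin 2) F) :
        Set (Matrix.SpecialLinearGroup (Fin 2) F))) =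
        ({1, Cfsg.Agent.Lib.Helper4_PSL2ClassOdd.N1} : Finset (Matrix.SpecialLinearGroup (Fin 2) F)) := by
      ext A
      rw [SetLike.mem_coe, Cfsg.Agent.Lib.Helper4_PSL2ClassOdd.mem_center_iff']
      simp
    rw [← SetLike.coe_sort_coe, Nat.card_coe_set_eq, this, Set.ncard_coe_finset,
      Finset.card_pair (Cfsg.Agent.Lib.Helper4_PSL2ClassOdd.N1_ne_one h2).symm]
  rw [hZ] at h
  rw [h]
  show 2 * Nat.card (Matrix.SpecialLinearGroup (Fin 2) F ⧸
    Subgroup.center (Matrix.SpecialLinearGroup (Fin 2) F)) = _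
  ring

theorem PSL2_degrees_sub (hodd : Odd (Fintype.card F)) :
    ∀ d ∈ charDegrees (Matrix.ProjectiveSpecialLinearGroup (Fin 2) F), d = 1 ∨ d = Fintype.card F ∨
      d = Fintype.card F + 1 ∨ d = Fintype.card F - 1 ∨ d = (Fintype.card F + 1) / 2 ∨
      d = (Fintype.card F - 1) / 2 := by
  rintro d ⟨ψ, rfl⟩
  apply SL2_degrees_sub hodd
  exact ⟨⟨inflP ψ.1, inflP_irr ψ.2⟩, rfl⟩

theorem PSL2_deg_q : Fintype.card F ∈ charDegrees (Matrix.ProjectiveSpecialLinearGroup (Fin 2) F) := by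
  obtain ⟨ψ, hψ, hinfl⟩ := exists_StP (F := F)
  refine ⟨⟨ψ, hψ⟩, charDegree_of_nat ?_⟩
  show ψ 1 = _
  rw [← inflP_one ψ, hinfl, StS_one]

theorem exists_even_char (h7 : 7 ≤ Fintype.card F) :
    ∃ α : MulChar F ℂ, α ^ 2 ≠ 1 ∧ ∀ a : F, a ^ 2 = 1 → α a = 1 := by
  obtain ⟨e⟩ := MulChar.mulEquiv_units F ℂ
  obtain ⟨g, hg⟩ := IsCyclic.exists_generator (α := Fˣ)
  have hord : orderOf g = Fintype.card F - 1 := by
    rw [orderOf_eq_card_of_forall_mem_zpowers hg, Nat.card_eq_fintype_card, Fintype.card_units]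
  have hg4 : g ^ 4 ≠ 1 := by
    apply pow_ne_one_of_lt_orderOf (by norm_num)
    rw [hord]; omega
  refine ⟨(e.symm g) ^ 2, ?_, ?_⟩
  · rw [← pow_mul]
    intro h
    apply hg4
    have := congrArg e h
    rw [map_pow, e.apply_symm_apply, map_one] at this
    exact this
  · intro a ha
    rw [MulChar.pow_apply' _ (by norm_num), ← map_pow, ha, map_one]

theorem PSL2_deg_q1 (h7 : 7 ≤ Fintype.card F) :
    Fintype.card F + 1 ∈ charDegrees (Matrix.ProjectiveSpecialLinearGroup (Fin 2) F) := by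
  obtain ⟨α, hα, hev⟩ := exists_even_char (F := F) h7
  have hirr := Rs_irr α hα
  have heven : ∀ z ∈ Subgroup.center (Matrix.SpecialLinearGroup (Fin 2) F), Rs α z = Rs α 1 := by
    intro z hz
    obtain ⟨h10, h01, heq, hsq⟩ := center_scalar z hz
    rw [Rs_one, Rs_apply, bsum_scalar _ _ h10 heq h01, hev _ hsq, mul_one]
  obtain ⟨ψ, hψ, h⟩ := Cfsg.Agent.Lib.Helper2_CharCenter.IsIrrCharacter.deflate hirr
    (Subgroup.center (Matrix.SpecialLinearGroup (Fin 2) F)) heven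
  refine ⟨⟨ψ, hψ⟩, charDegree_of_nat ?_⟩
  show ψ 1 = _
  have := h 1
  rw [QuotientGroup.mk_one] at this
  rw [this, Rs_one]
  push_cast; ring

theorem card_filter_PSL_le (d : ℕ)
    [Fintype (Matrix.ProjectiveSpecialLinearGroup (Fin 2) F)]
    [DecidableEq (Matrix.ProjectiveSpecialLinearGroup (Fin 2) F → ℂ)]
    [DecidableEq (Matrix.SpecialLinearGroup (Fin 2) F → ℂ)] :
    ((irrFinset (Matrix.ProjectiveSpecialLinearGroup (Fin 2) F)).filter (fun ψ => ψ 1 = (d : ℂ))).card ≤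
      ((irrFinset (Matrix.SpecialLinearGroup (Fin 2) F)).filter (fun ξ => ξ 1 = (d : ℂ))).card := by
  apply Finset.card_le_card_of_injOn inflP
  · intro ψ hψ
    rw [Finset.mem_coe, Finset.mem_filter, mem_irrFinset] at hψ
    rw [Finset.mem_coe, Finset.mem_filter, mem_irrFinset]
    exact ⟨inflP_irr hψ.1, hψ.2⟩
  · intro ψ _ ψ' _ h
    exact inflP_inj h

theorem card_filter_PSL_q1_le (hodd : Odd (Fintype.card F))
    [Fintype (Matrix.ProjectiveSpecialLinearGroup (Fin 2) F)]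
    [DecidableEq (Matrix.ProjectiveSpecialLinearGroup (Fin 2) F → ℂ)] :
    ((irrFinset (Matrix.ProjectiveSpecialLinearGroup (Fin 2) F)).filter
      (fun ψ => ψ 1 = ((Fintype.card F + 1 : ℕ) : ℂ))).card ≤ (PE F).card := by
  classical
  obtain ⟨α₀, μ₀, ν₀, x, D⟩ := exists_half hodd
  obtain ⟨m, hm⟩ := hodd
  apply Finset.card_le_card_of_injOn inflP
  · intro ψ hψ
    rw [Finset.mem_coe, Finset.mem_filter, mem_irrFinset] at hψ
    obtain ⟨hirr, hdeg⟩ := hψ
    have hirr' := inflP_irr hirr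
    have hdeg' : inflP ψ 1 = ((Fintype.card F + 1 : ℕ) : ℂ) := hdeg
    have hP : inflP ψ ∈ Pset F := by
      rcases casesO D (inflP ψ) hirr' with ⟨-, h⟩ | ⟨-, h⟩ | ⟨h, -⟩ | ⟨-, h⟩ | ⟨-, h, -⟩ | ⟨-, h⟩
      · have := nat_of_degO hdeg' h; omega
      · have := nat_of_degO hdeg' h; omega
      · exact h
      · have := nat_of_degO hdeg' h; omega
      · have := nat_of_degO hdeg' h; omega
      · have := nat_of_degO hdeg' h; omega
    obtain ⟨α, hα, hRs⟩ := (mem_Pset _).mp hP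
    rw [Finset.mem_coe]
    unfold PE
    rw [Finset.mem_image]
    refine ⟨α, ?_, hRs.symm⟩
    rw [Finset.mem_inter, mem_Ev, mem_Aset]
    refine ⟨?_, hα⟩
    have hN : Cfsg.Agent.Lib.Helper4_PSL2ClassOdd.N1 ∈
        Subgroup.center (Matrix.SpecialLinearGroup (Fin 2) F) :=
      (Cfsg.Agent.Lib.Helper4_PSL2ClassOdd.mem_center_iff' _).mpr (Or.inr rfl)
    have h1 := inflP_even ψ _ hN
    rw [hRs, Rs_one, Rs_apply, Cfsg.Agent.Lib.Helper4_PSL2ClassOdd.N1_val,
      bsum_scalar _ _ (by simp) (by simp) (by simp)] at h1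
    have hq1 : (Fintype.card F : ℂ) + 1 ≠ 0 := by
      have : ((Fintype.card F : ℂ) + 1) = ((Fintype.card F + 1 : ℕ) : ℂ) := by push_cast; ring
      rw [this]
      exact_mod_cast Nat.succ_ne_zero (Fintype.card F)
    have h2 := mul_left_cancel₀ hq1 (h1.trans (mul_one _).symm)
    simpa using h2
  · intro ψ _ ψ' _ h
    exact inflP_inj h

theorem PSL2_deg_qm1 (hodd : Odd (Fintype.card F)) (h7 : 7 ≤ Fintype.card F) :
    Fintype.card F - 1 ∈ charDegrees (Matrix.ProjectiveSpecialLinearGroup (Fin 2) F) := by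
  classical
  letI : Fintype (Matrix.ProjectiveSpecialLinearGroup (Fin 2) F) := Fintype.ofFinite _
  by_contra hcon
  have h2F : (2 : F) ≠ 0 := Cfsg.Agent.Lib.Helper4_SL2Odd.two_ne_zero' hodd
  have hodd' := hodd
  obtain ⟨m, hm⟩ := hodd
  have hT : ∀ ψ ∈ irrFinset (Matrix.ProjectiveSpecialLinearGroup (Fin 2) F),
      dg ψ ∈ ({1, Fintype.card F, Fintype.card F + 1, (Fintype.card F + 1) / 2,
        (Fintype.card F - 1) / 2} : Finset ℕ) := by
    intro ψ hψ
    have hirr := mem_irrFinset.mp hψ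
    have hd := (dg_spec hirr).2
    have hmem : charDegree ψ ∈ charDegrees (Matrix.ProjectiveSpecialLinearGroup (Fin 2) F) :=
      ⟨⟨ψ, hirr⟩, rfl⟩
    have hcd : charDegree ψ = dg ψ := charDegree_of_nat hd
    simp only [Finset.mem_insert, Finset.mem_singleton]
    rcases PSL2_degrees_sub hodd' _ hmem with h | h | h | h | h | h
    · left; rw [← hcd]; exact h
    · right; left; rw [← hcd]; exact h
    · right; right; left; rw [← hcd]; exact h
    · exfalso; apply hcon; rw [← h]; exact hmem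
    · right; right; right; left; rw [← hcd]; exact h
    · right; right; right; right; rw [← hcd]; exact h
  have hsq := sum_sq_by_deg _ hT
  rw [sum_dg_sq] at hsq
  rw [Finset.sum_insert (by simp; omega), Finset.sum_insert (by simp; omega),
    Finset.sum_insert (by simp; omega), Finset.sum_insert (by simp; omega),
    Finset.sum_singleton] at hsq
  have hP := card_PSL2_odd (F := F) h2F
  -- bounds from SL₂
  have c := countsO hodd' (by omega)
  have b1 := card_filter_PSL_le (F := F) 1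
  have bq := card_filter_PSL_le (F := F) (Fintype.card F)
  have bh := card_filter_PSL_le (F := F) ((Fintype.card F + 1) / 2)
  have bhc := card_filter_PSL_le (F := F) ((Fintype.card F - 1) / 2)
  have bq1 := card_filter_PSL_q1_le (F := F) hodd'
  have c1 := c.1
  have cq := c.2.1
  have ch := c.2.2.2.2.1
  have chc := c.2.2.2.2.2
  rw [card_irr_subtype (fun χ : Matrix.SpecialLinearGroup (Fin 2) F → ℂ => χ 1 = 1)] at c1
  rw [card_irr_subtype (fun χ : Matrix.SpecialLinearGroup (Fin 2) F → ℂ => χ 1 = (Fintype.card F : ℂ))] at cq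
  rw [card_irr_subtype (fun χ : Matrix.SpecialLinearGroup (Fin 2) F → ℂ => χ 1 = (((Fintype.card F + 1) / 2 : ℕ) : ℂ))] at ch
  rw [card_irr_subtype (fun χ : Matrix.SpecialLinearGroup (Fin 2) F → ℂ => χ 1 = (((Fintype.card F - 1) / 2 : ℕ) : ℂ))] at chc
  simp only [Nat.cast_one] at b1
  rw [c1] at b1
  rw [cq] at bq
  rw [ch] at bh
  rw [chc] at bhc
  have e1 := two_mul_card_PE (F := F)
  have e2 := two_mul_card_Ev (F := F) h2F
  simp only [Nat.cast_one] at hsq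
  generalize ((irrFinset (Matrix.ProjectiveSpecialLinearGroup (Fin 2) F)).filter
    (fun ψ => ψ 1 = (1 : ℂ))).card = n1 at hsq b1
  generalize ((irrFinset (Matrix.ProjectiveSpecialLinearGroup (Fin 2) F)).filter
    (fun ψ => ψ 1 = ((Fintype.card F : ℕ) : ℂ))).card = nq at hsq bq
  generalize ((irrFinset (Matrix.ProjectiveSpecialLinearGroup (Fin 2) F)).filter
    (fun ψ => ψ 1 = ((Fintype.card F + 1 : ℕ) : ℂ))).card = nq1 at hsq bq1
  generalize ((irrFinset (Matrix.ProjectiveSpecialLinearGroup (Fin 2) F)).filter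
    (fun ψ => ψ 1 = (((Fintype.card F + 1) / 2 : ℕ) : ℂ))).card = nh at hsq bh
  generalize ((irrFinset (Matrix.ProjectiveSpecialLinearGroup (Fin 2) F)).filter
    (fun ψ => ψ 1 = (((Fintype.card F - 1) / 2 : ℕ) : ℂ))).card = nhc at hsq bhc
  generalize (PE F).card = pe at bq1 e1
  generalize (Ev F).card = ev at e1 e2
  generalize Nat.card (Matrix.ProjectiveSpecialLinearGroup (Fin 2) F) = cp at hsq hP
  generalize Fintype.card F = q at *
  subst hm
  obtain ⟨j, rfl⟩ : ∃ j, m = j + 3 := ⟨m - 3, by omega⟩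
  have e3 : (2 * (j + 3) + 1 + 1) / 2 = j + 4 := by omega
  have e4 : (2 * (j + 3) + 1 - 1) / 2 = j + 3 := by omega
  rw [e3, e4] at hsq
  have e7 : (2 * (j + 3) + 1) ^ 2 - 1 = 4 * (j + 3) * (j + 4) := by
    have : (2 * (j + 3) + 1) ^ 2 = 4 * (j + 3) * (j + 4) + 1 := by ring
    omega
  rw [e7] at hP
  have hnq1 : 2 * nq1 ≤ j + 2 := by omega
  nlinarith [Nat.zero_le j, Nat.zero_le nq1, mul_le_mul_of_nonneg_right hnq1 (Nat.zero_le ((j+4)^2))]

theorem S4774_main (t : ℕ) [Fact t.Prime] [CharP F t] (ht : t ≠ 2) (q : ℕ) (hq : Fintype.card F = q) (h5 : 5 < q) {S : Type v} [Group S] (hS : Nonempty (S ≃* Matrix.ProjectiveSpecialLinearGroup (Fin 2) F) ∨ Nonempty (S ≃* Matrix.SpecialLinearGroup (Fin 2) F)) : Cfsg.degreePrimes S = {r : ℕ | r.Prime ∧ r ∣ q * (q ^ 2 - 1)} ∧ ∀ r s : ℕ, (Cfsg.degreeGraph S).Adj r s ↔ (r ≠ s ∧ r.Prime ∧ s.Prime ∧ r ∣ q ^ 2 - 1 ∧ s ∣ q ^ 2 - 1 ∧ (r = 2 ∨ s = 2 ∨ (r ∣ q + 1 ∧ s ∣ q + 1) ∨ (r ∣ q - 1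 ∧ s ∣ q - 1))) := by
  have htp : t.Prime := Fact.out
  obtain ⟨k, -, hk⟩ := FiniteField.card F t
  subst hq
  have hodd : Odd (Fintype.card F) := by
    rw [hk]
    exact Odd.pow (htp.odd_of_ne_two ht)
  have h7 : 7 ≤ Fintype.card F := by
    obtain ⟨m, hm⟩ := hodd
    omega
  rcases hS with h | h
  · obtain ⟨e⟩ := h
    exact graph_of_degrees e _ t k htp ht hk h5 (PSL2_degrees_sub hodd) PSL2_deg_q
      (PSL2_deg_q1 h7) (PSL2_deg_qm1 hodd h7)
  · obtain ⟨e⟩ := h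
    exact graph_of_degrees e _ t k htp ht hk h5 (SL2_degrees_sub hodd) SL2_deg_q
      (SL2_deg_q1 hodd h7) (SL2_deg_qm1 hodd h7)

end Cfsg.Agent.Lib.Helper4_DegGraphOdd
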