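import Mathlib
import Cfsg.Agent.Lib.Helper4_Invol5

namespace Cfsg.Agent.Lib.Helper4_DetScalar0
open Matrix

theorem padic_two (k m : ℕ) (hm : Odd m) : padicValNat 2 (2 ^ k * m) = k := by
  have hm0 : m ≠ 0 := by rintro rfl; simp at hm
  rw [padicValNat.mul (by positivity) hm0, padicValNat.prime_pow,
    padicValNat.eq_zero_of_not_dvd (by
      intro hd
      obtain ⟨t, ht⟩ := hm
      omega), add_zero]

variable {F : Type*} [Field F] [Fintype F]

theorem card_decomp {q : ℕ} (hF : Fintype.card F = q) (hq : Odd q) :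
    ∃ a r : ℕ, Odd r ∧ 1 ≤ a ∧ q - 1 = 2 ^ a * r := by
  have hq2 : 2 ≤ q := by
    rw [← hF]; exact Fintype.one_lt_card
  have hq3 : q - 1 ≠ 0 := by omega
  obtain ⟨a, r, hr, h⟩ := Nat.exists_eq_two_pow_mul_odd hq3
  refine ⟨a, r, hr, ?_, h⟩
  by_contra ha
  have : a = 0 := by omega
  rw [this, pow_zero, one_mul] at h
  rw [← h] at hr
  obtain ⟨k, hk⟩ := hq
  obtain ⟨l, hl⟩ := hr
  omega

/-- the element of order two in terms of a generator -/
theorem exists_root_neg_one {q : ℕ} (hF : Fintype.card F = q) (hq : Odd q)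
    {a r : ℕ} (ha : 1 ≤ a) (hqa : q - 1 = 2 ^ a * r) (s : ℕ) (hs : s < a) :
    ∃ c : F, c ≠ 0 ∧ c ^ (2 ^ s) = -1 := by
  have h2 : (2 : F) ≠ 0 := Cfsg.Agent.Lib.Helper4_Invol5.two_ne_zero_of_odd (hF ▸ hq)
  have hq2 : 2 ≤ q := by rw [← hF]; exact Fintype.one_lt_card
  classical
  obtain ⟨γ, hγ⟩ := IsCyclic.exists_generator (α := Fˣ)
  have hord : orderOf γ = q - 1 := by
    rw [orderOf_eq_card_of_forall_mem_zpowers hγ, Nat.card_eq_fintype_card, Fintype.card_units, hF]
  have hr0 : r ≠ 0 := by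
    rintro rfl; rw [mul_zero] at hqa; omega
  set h : Fˣ := γ ^ (2 ^ (a - 1) * r) with hh
  have hh2 : h ^ 2 = 1 := by
    rw [hh, ← pow_mul]
    have : 2 ^ (a - 1) * r * 2 = q - 1 := by
      rw [hqa]
      have : 2 ^ a = 2 ^ (a - 1) * 2 := by rw [← pow_succ]; congr 1; omega
      rw [this]; ring
    rw [this, ← hord, pow_orderOf_eq_one]
  have hh1 : h ≠ 1 := by
    rw [hh]
    apply pow_ne_one_of_lt_orderOf
    · positivity
    · rw [hord, hqa]
      have : 2 ^ a = 2 ^ (a - 1) * 2 := by rw [← pow_succ]; congr 1; omega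
      rw [this]
      have : 0 < 2 ^ (a - 1) * r := by positivity
      nlinarith
  have hhF : (h : F) = -1 := by
    have e1 : (h : F) ^ 2 = 1 := by
      have := congrArg (fun x : Fˣ => (x : F)) hh2
      simpa using this
    have e2 : ((h : F) - 1) * ((h : F) + 1) = 0 := by ring_nf; rw [e1]; ring
    rcases mul_eq_zero.1 e2 with e | e
    · exfalso
      apply hh1
      apply Units.ext
      simpa using sub_eq_zero.1 e
    · exact eq_neg_of_add_eq_zero_left e
  refine ⟨((γ ^ (2 ^ (a - 1 - s) * r) : Fˣ) : F), Units.ne_zero _, ?_⟩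
  rw [← hhF, hh, ← Units.val_pow_eq_pow_val, ← pow_mul]
  congr 2
  have : 2 ^ (a - 1) = 2 ^ (a - 1 - s) * 2 ^ s := by
    rw [← pow_add]; congr 1; omega
  rw [this]; ring

theorem neg_one_pow_iff {q : ℕ} (hF : Fintype.card F = q) (hq : Odd q) {n : ℕ} (hn : 1 ≤ n) :
    (∃ c : F, c ≠ 0 ∧ c ^ n = -1) ↔ padicValNat 2 n < padicValNat 2 (q - 1) := by
  have h2 : (2 : F) ≠ 0 := Cfsg.Agent.Lib.Helper4_Invol5.two_ne_zero_of_odd (hF ▸ hq)
  obtain ⟨a, r, hr, ha, hqa⟩ := card_decomp hF hq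
  obtain ⟨s, n', hn', hns⟩ := Nat.exists_eq_two_pow_mul_odd (show n ≠ 0 by omega)
  rw [hqa, hns, padic_two _ _ hr, padic_two _ _ hn']
  constructor
  · rintro ⟨c, hc, hcn⟩
    by_contra hsa
    push Not at hsa
    have h1 : c ^ (q - 1) = 1 := by
      rw [← hF]; exact FiniteField.pow_card_sub_one_eq_one c hc
    have h3 : c ^ (2 ^ s * n' * r) = 1 := by
      have : 2 ^ s * n' * r = (q - 1) * (2 ^ (s - a) * n') := by
        rw [hqa]
        have : 2 ^ s = 2 ^ a * 2 ^ (s - a) := by rw [← pow_add]; congr 1; omega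
        rw [this]; ring
      rw [this, pow_mul, h1, one_pow]
    rw [pow_mul, hcn, hr.neg_one_pow] at h3
    have : (2 : F) = 0 := by
      have h4 : (1 : F) + 1 = 0 := by nth_rewrite 1 [← h3]; ring
      rw [← h4]; norm_num
    exact h2 this
  · intro hsa
    obtain ⟨c, hc, hcs⟩ := exists_root_neg_one hF hq ha hqa s hsa
    refine ⟨c, hc, ?_⟩
    rw [pow_mul, hcs, hn'.neg_one_pow]

theorem det_smul_diag (n i : ℕ) (hi : i ≤ n) (c : F) :
    (c • Matrix.diagonal (fun j : Fin n => if (j : ℕ) < i then (-1 : F) else 1)).det =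
      c ^ n * (-1) ^ i := by
  rw [Matrix.det_smul, Matrix.det_diagonal, Fintype.card_fin]
  congr 1
  rw [Fin.prod_univ_eq_prod_range (fun j => if j < i then (-1 : F) else 1) n, Finset.prod_ite]
  simp only [Finset.prod_const_one, mul_one, Finset.prod_const]
  congr 1
  have : Finset.filter (fun j => j < i) (Finset.range n) = Finset.range i := by
    ext j; simp; omega
  rw [this, Finset.card_range]

theorem main {q : ℕ} (hF : Fintype.card F = q) (hq : Odd q) {n : ℕ} (hn : 1 ≤ n) (i : ℕ)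
    (hi : i ≤ n) :
    (∃ c : F, c ≠ 0 ∧ (c • Matrix.diagonal (fun j : Fin n => if (j : ℕ) < i then (-1 : F) else 1)).det = 1) ↔
      (Even i ∨ padicValNat 2 n < padicValNat 2 (q - 1)) := by
  simp only [det_smul_diag n i hi]
  rw [← neg_one_pow_iff hF hq hn]
  constructor
  · rintro ⟨c, hc, h⟩
    rcases Nat.even_or_odd i with he | ho
    · left; exact he
    · right
      refine ⟨c, hc, ?_⟩
      rw [ho.neg_one_pow] at h
      have : c ^ n = - (c ^ n * -1) := by ring
      rw [this, h]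
  · rintro (he | ⟨c, hc, h⟩)
    · exact ⟨1, one_ne_zero, by rw [he.neg_one_pow]; simp⟩
    · rcases Nat.even_or_odd i with he | ho
      · exact ⟨1, one_ne_zero, by rw [he.neg_one_pow]; simp⟩
      · exact ⟨c, hc, by rw [ho.neg_one_pow, h]; ring⟩

end Cfsg.Agent.Lib.Helper4_DetScalar0
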