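import Mathlib
import Cfsg.Agent.Lib.Helper4_DetScalar0

namespace Cfsg.Agent.Lib.Helper4_DetScalar1
open Matrix Cfsg.Agent.Lib.Helper4_DetScalar0

variable {F : Type*} [Field F] [Fintype F]

theorem det_block (m : ℕ) (μ c : F) :
    (c • Matrix.blockDiagonal (fun _ : Fin m => !![(0 : F), 1; μ, 0])).det = c ^ (2 * m) * (-μ) ^ m := by
  rw [Matrix.det_smul, Matrix.det_blockDiagonal]
  simp [Matrix.det_fin_two]

theorem dvd_of_order {a r o : ℕ} (h1 : o ∣ 2 ^ a * r) (ha : 1 ≤ a) (h2 : ¬ o ∣ 2 ^ (a - 1) * r) :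
    2 ^ a ∣ o := by
  obtain ⟨k, hk⟩ := h1
  rcases Nat.even_or_odd k with he | ho
  · exfalso
    apply h2
    obtain ⟨l, hl⟩ := he
    refine ⟨l, ?_⟩
    have e : 2 ^ a = 2 ^ (a - 1) * 2 := by rw [← pow_succ]; congr 1; omega
    rw [e, hl] at hk
    have : 2 * (2 ^ (a - 1) * r) = 2 * (o * l) := by rw [← two_mul] at hk; linarith
    exact Nat.eq_of_mul_eq_mul_left (by norm_num) this
  · have hc : Nat.Coprime (2 ^ a) k := by
      apply Nat.Coprime.pow_left
      rw [Nat.coprime_two_left]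
      exact ho
    have : 2 ^ a ∣ o * k := ⟨r, hk.symm⟩
    exact hc.dvd_of_dvd_mul_right this

theorem main {q : ℕ} (hF : Fintype.card F = q) (hq : Odd q) {m : ℕ} (hm : 1 ≤ m) (μ : F)
    (hμ : orderOf μ = 2 ^ padicValNat 2 (q - 1)) :
    (∃ c : F, c ≠ 0 ∧ (c • Matrix.blockDiagonal (fun _ : Fin m => !![(0 : F), 1; μ, 0])).det = 1) ↔
      (q % 4 = 3 ∨ padicValNat 2 (q - 1) < padicValNat 2 (2 * m)) := by
  have h2 : (2 : F) ≠ 0 := Cfsg.Agent.Lib.Helper4_Invol5.two_ne_zero_of_odd (hF ▸ hq)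
  have h1ne : (1 : F) ≠ -1 := by
    intro h
    have : (2 : F) = 0 := by
      have h3 : (1 : F) + 1 = 0 := by nth_rewrite 2 [h]; ring
      rw [← h3]; norm_num
    exact h2 this
  obtain ⟨a, r, hr, ha, hqa⟩ := card_decomp hF hq
  obtain ⟨t, m', hm', hmt⟩ := Nat.exists_eq_two_pow_mul_odd (show m ≠ 0 by omega)
  have hpa : padicValNat 2 (q - 1) = a := by rw [hqa, padic_two _ _ hr]
  have hpm : padicValNat 2 (2 * m) = t + 1 := by
    have : 2 * m = 2 ^ (t + 1) * m' := by rw [hmt, pow_succ]; ring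
    rw [this, padic_two _ _ hm']
  rw [hpa] at hμ
  rw [hpa, hpm]
  simp only [det_block]
  have hμ0 : μ ≠ 0 := by
    rintro rfl
    rw [orderOf_zero (M₀ := F)] at hμ
    exact (pow_pos (by norm_num : 0 < 2) a).ne hμ
  have hμpow : μ ^ 2 ^ a = 1 := by rw [← hμ]; exact pow_orderOf_eq_one μ
  -- μ^(2^(a-1)) = -1
  have hμhalf : μ ^ 2 ^ (a - 1) = -1 := by
    have e : 2 ^ a = 2 ^ (a - 1) * 2 := by rw [← pow_succ]; congr 1; omega
    have e1 : (μ ^ 2 ^ (a - 1)) ^ 2 = 1 := by rw [← pow_mul, ← e, hμpow]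
    have e2 : (μ ^ 2 ^ (a - 1) - 1) * (μ ^ 2 ^ (a - 1) + 1) = 0 := by
      have : (μ ^ 2 ^ (a - 1) - 1) * (μ ^ 2 ^ (a - 1) + 1) = (μ ^ 2 ^ (a - 1)) ^ 2 - 1 := by ring
      rw [this, e1, sub_self]
    rcases mul_eq_zero.1 e2 with e3 | e3
    · exfalso
      have h5 : μ ^ 2 ^ (a - 1) = 1 := sub_eq_zero.1 e3
      have h6 := orderOf_dvd_of_pow_eq_one h5
      rw [hμ] at h6
      have h7 := Nat.le_of_dvd (by positivity) h6
      have : 2 ^ (a - 1) < 2 ^ a := Nat.pow_lt_pow_right (by norm_num) (by omega)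
      omega
    · exact eq_neg_of_add_eq_zero_left e3
  by_cases ha1 : a = 1
  · -- q % 4 = 3
    subst ha1
    have hq4 : q % 4 = 3 := by
      obtain ⟨l, hl⟩ := hr
      have hq2 : 2 ≤ q := by rw [← hF]; exact Fintype.one_lt_card
      rw [hl] at hqa
      omega
    have hμ1 : μ = -1 := by simpa using hμhalf
    constructor
    · intro _; left; exact hq4
    · intro _
      exact ⟨1, one_ne_zero, by rw [hμ1]; simp⟩
  · have ha2 : 2 ≤ a := by omega
    have hq4 : ¬ q % 4 = 3 := by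
      have e : 2 ^ a = 4 * 2 ^ (a - 2) := by
        have : a = 2 + (a - 2) := by omega
        rw [this, pow_add]; norm_num
      rw [e] at hqa
      have hq2 : 2 ≤ q := by rw [← hF]; exact Fintype.one_lt_card
      intro h
      have : q = 4 * (2 ^ (a - 2) * r) + 1 := by
        have : q - 1 = 4 * (2 ^ (a - 2) * r) := by rw [hqa]; ring
        omega
      omega
    have hdvd_iff : a < t + 1 ↔ 2 ^ a ∣ m := by
      constructor
      · intro h
        rw [hmt]
        exact Dvd.dvd.mul_right (pow_dvd_pow 2 (by omega)) _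
      · intro h
        by_contra hcon
        push Not at hcon
        rw [hmt] at h
        have e : 2 ^ a = 2 ^ t * 2 ^ (a - t) := by rw [← pow_add]; congr 1; omega
        rw [e] at h
        have h3 : 2 ^ (a - t) ∣ m' := Nat.dvd_of_mul_dvd_mul_left (by positivity) h
        have h4 : 2 ∣ m' := by
          have : 2 ∣ 2 ^ (a - t) := dvd_pow_self 2 (by omega)
          exact this.trans h3
        obtain ⟨l, hl⟩ := hm'
        omega
    have hnegμ : (-μ) ^ 2 ^ a = 1 := by
      rw [neg_pow, hμpow, mul_one]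
      exact Even.neg_one_pow (Nat.even_pow.2 ⟨even_two, by omega⟩)
    constructor
    · rintro ⟨c, hc, hdet⟩
      right
      rw [hdvd_iff]
      set w : F := c ^ 2 * (-μ) with hw
      have hw0 : w ≠ 0 := mul_ne_zero (pow_ne_zero _ hc) (neg_ne_zero.2 hμ0)
      have hwm : w ^ m = 1 := by
        rw [hw, mul_pow, ← pow_mul]; exact hdet
      have hwq : w ^ (2 ^ a * r) = 1 := by
        rw [← hqa, ← hF]; exact FiniteField.pow_card_sub_one_eq_one w hw0
      have hwhalf : w ^ (2 ^ (a - 1) * r) ≠ 1 := by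
        have e : w ^ (2 ^ (a - 1) * r) = -1 := by
          rw [hw, mul_pow, ← pow_mul]
          have e1 : c ^ (2 * (2 ^ (a - 1) * r)) = 1 := by
            have : 2 * (2 ^ (a - 1) * r) = q - 1 := by
              rw [hqa]
              have e : 2 ^ a = 2 ^ (a - 1) * 2 := by rw [← pow_succ]; congr 1; omega
              rw [e]; ring
            rw [this, ← hF]; exact FiniteField.pow_card_sub_one_eq_one c hc
          rw [e1, one_mul, pow_mul, neg_pow, hμhalf]
          have : Even (2 ^ (a - 1)) := Nat.even_pow.2 ⟨even_two, by omega⟩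
          rw [this.neg_one_pow, one_mul, hr.neg_one_pow]
        rw [e]; exact fun h => h1ne h.symm
      have ho1 : orderOf w ∣ 2 ^ a * r := orderOf_dvd_of_pow_eq_one hwq
      have ho2 : ¬ orderOf w ∣ 2 ^ (a - 1) * r := by
        intro h
        exact hwhalf (orderOf_dvd_iff_pow_eq_one.1 h)
      exact (dvd_of_order ho1 ha ho2).trans (orderOf_dvd_of_pow_eq_one hwm)
    · rintro (h | h)
      · exact absurd h hq4
      · rw [hdvd_iff] at h
        obtain ⟨l, hl⟩ := h
        refine ⟨1, one_ne_zero, ?_⟩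
        rw [one_pow, one_mul, hl, pow_mul, hnegμ, one_pow]

end Cfsg.Agent.Lib.Helper4_DetScalar1
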