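import Mathlib

set_option autoImplicit false

namespace Cfsg.Agent.Lib.Helper4_Gram0

open QuadraticMap Module Matrix

variable {F : Type*} [Field F]

/-- quadratic function of a matrix -/
def qT {κ : Type*} [Fintype κ] (T : Matrix κ κ F) (v : κ → F) : F := v ⬝ᵥ T *ᵥ v

theorem polar_qT {κ : Type*} [Fintype κ] (T : Matrix κ κ F) (u v : κ → F) :
    polar (qT T) u v = u ⬝ᵥ (T + Tᵀ) *ᵥ v := by
  unfold polar qT
  have : u ⬝ᵥ Tᵀ *ᵥ v = v ⬝ᵥ T *ᵥ u := by
    rw [Matrix.mulVec_transpose, dotProduct_comm, ← Matrix.dotProduct_mulVec]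
  simp only [Matrix.add_mulVec, dotProduct_add, Matrix.mulVec_add, add_dotProduct, this]
  ring

theorem gram_eq {κ ι : Type*} [Fintype κ] [Fintype ι] (T : Matrix κ κ F) (b : ι → κ → F) :
    Matrix.of (fun i j => polar (qT T) (b i) (b j)) =
      (Matrix.of (fun k i => b i k))ᵀ * (T + Tᵀ) * (Matrix.of (fun k i => b i k)) := by
  ext i j
  rw [Matrix.of_apply, polar_qT, Matrix.mul_apply]
  simp only [Matrix.mul_apply, Matrix.transpose_apply, Matrix.of_apply, dotProduct, mulVec,
    Finset.sum_mul, Finset.mul_sum]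
  rw [Finset.sum_comm]
  refine Finset.sum_congr rfl (fun x _ => Finset.sum_congr rfl (fun y _ => ?_))
  ring

theorem gram_det {κ ι : Type*} [Fintype κ] [Fintype ι] [DecidableEq κ] [DecidableEq ι]
    (T : Matrix κ κ F) (b : Module.Basis ι F (κ → F)) :
    ∃ s : F, s ≠ 0 ∧ (Matrix.of (fun i j => polar (qT T) (b i) (b j))).det = s ^ 2 * (T + Tᵀ).det := by
  have e : ι ≃ κ := b.indexEquiv (Pi.basisFun F κ)
  set P : Matrix κ ι F := Matrix.of (fun k i => b i k) with hP
  set P' : Matrix κ κ F := P.submatrix id e.symm with hP'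
  have h1 : (Matrix.of (fun i j => polar (qT T) (b i) (b j))).submatrix e.symm e.symm =
      P'ᵀ * (T + Tᵀ) * P' := by
    rw [gram_eq T b, ← hP, hP']
    ext i j
    simp [Matrix.mul_apply]
  have h2 : P' = (Pi.basisFun F κ).toMatrix (b.reindex e) := by
    ext k i
    simp [hP', hP, Basis.toMatrix_apply]
  have h3 : IsUnit P'.det := by
    rw [h2]
    have := Basis.isUnit_det (Pi.basisFun F κ) (b.reindex e)
    rwa [Basis.det_apply] at this
  refine ⟨P'.det, h3.ne_zero, ?_⟩
  rw [← Matrix.det_submatrix_equiv_self e.symm, h1, Matrix.det_mul, Matrix.det_mul,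
    Matrix.det_transpose]
  ring

end Cfsg.Agent.Lib.Helper4_Gram0
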