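import Mathlib
import Cfsg.Prelude.Def_Classical
import Cfsg.Agent.Lib.Helper4_Gram0

set_option autoImplicit false

namespace Cfsg.Agent.Lib.Helper4_Gram1

open QuadraticMap Module Matrix Cfsg.Agent.Lib.Helper4_Gram0

variable {F : Type*} [Field F]

/-- the hyperbolic Gram matrix -/
def Hm (F : Type*) [Field F] (m : ℕ) : Matrix (Fin m ⊕ Fin m) (Fin m ⊕ Fin m) F :=
  Matrix.fromBlocks (0 : Matrix (Fin m) (Fin m) F) (1 : Matrix (Fin m) (Fin m) F)
    (1 : Matrix (Fin m) (Fin m) F) (0 : Matrix (Fin m) (Fin m) F)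

/-- the upper triangular matrix of the hyperbolic form -/
def Tm (F : Type*) [Field F] (m : ℕ) : Matrix (Fin m ⊕ Fin m) (Fin m ⊕ Fin m) F :=
  Matrix.fromBlocks (0 : Matrix (Fin m) (Fin m) F) (1 : Matrix (Fin m) (Fin m) F)
    (0 : Matrix (Fin m) (Fin m) F) (0 : Matrix (Fin m) (Fin m) F)

theorem Tm_add (m : ℕ) : Tm F m + (Tm F m)ᵀ = Hm F m := by
  unfold Tm Hm
  rw [Matrix.fromBlocks_transpose, Matrix.fromBlocks_add]
  simp

theorem det_hyp (m : ℕ) : (Hm F m).det = (-1) ^ m := by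
  have h : Hm F m =
      Matrix.fromBlocks (1 : Matrix (Fin m) (Fin m) F) (1 : Matrix (Fin m) (Fin m) F)
        (1 : Matrix (Fin m) (Fin m) F) (0 : Matrix (Fin m) (Fin m) F) *
        Matrix.fromBlocks (1 : Matrix (Fin m) (Fin m) F) (0 : Matrix (Fin m) (Fin m) F)
          (-1 : Matrix (Fin m) (Fin m) F) (1 : Matrix (Fin m) (Fin m) F) := by
    unfold Hm
    rw [Matrix.fromBlocks_multiply]
    simp
  rw [h, Matrix.det_mul, Matrix.det_fromBlocks_one₁₁, Matrix.det_fromBlocks_zero₁₂]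
  simp [Matrix.det_neg]

theorem qplus_eq (m : ℕ) : Cfsg.quadFormPlus m F = qT (Tm F m) := by
  funext v
  unfold Cfsg.quadFormPlus qT Tm
  have e : v = Sum.elim (v ∘ Sum.inl) (v ∘ Sum.inr) := by
    ext i; cases i <;> rfl
  conv_rhs => rw [e]
  rw [Matrix.fromBlocks_mulVec]
  simp [dotProduct, Fintype.sum_sum_type]

theorem isSquare_mul_sq (s d : F) (hs : s ≠ 0) : IsSquare (s ^ 2 * d) ↔ IsSquare d := by
  constructor
  · rintro ⟨r, hr⟩
    refine ⟨r / s, ?_⟩
    field_simp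
    rw [mul_comm, hr]; ring
  · rintro ⟨r, hr⟩
    exact ⟨s * r, by rw [hr]; ring⟩

theorem isSquare_neg_one_pow [Fintype F] {q : ℕ} (hF : Fintype.card F = q) (hq : Odd q) (m : ℕ) :
    IsSquare ((-1 : F) ^ m) ↔ Even (m * (q - 1) / 2) := by
  have h4 := FiniteField.isSquare_neg_one_iff (F := F)
  rw [hF] at h4
  obtain ⟨k, hk⟩ := hq
  have e1 : m * (q - 1) / 2 = m * k := by
    rw [hk, Nat.add_sub_cancel, mul_comm 2 k, ← mul_assoc, Nat.mul_div_cancel _ (by norm_num)]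
  rw [e1]
  rcases Nat.even_or_odd m with hm | hm
  · have : IsSquare ((-1 : F) ^ m) := by
      obtain ⟨r, hr⟩ := hm
      exact ⟨(-1) ^ r, by rw [hr, pow_add]⟩
    simp only [this, true_iff]
    exact hm.mul_right k
  · have e2 : (-1 : F) ^ m = -1 := hm.neg_one_pow
    rw [e2, h4, Nat.even_mul]
    have hm' : ¬ Even m := Nat.not_even_iff_odd.mpr hm
    simp only [hm', false_or]
    rw [hk]
    rcases Nat.even_or_odd k with hk2 | hk2
    · have h1 : (2 * k + 1) % 4 ≠ 3 := by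
        obtain ⟨r, hr⟩ := hk2
        omega
      exact ⟨fun _ => hk2, fun _ => h1⟩
    · have h1 : ¬ ((2 * k + 1) % 4 ≠ 3) := by
        obtain ⟨r, hr⟩ := hk2
        omega
      have h2 : ¬ Even k := Nat.not_even_iff_odd.mpr hk2
      exact ⟨fun h => absurd h h1, fun h => absurd h h2⟩

theorem main_plus [Fintype F] {q : ℕ} (hF : Fintype.card F = q) (hq : Odd q) {m : ℕ}
    {ι : Type*} [Fintype ι] [DecidableEq ι] (b : Module.Basis ι F (Fin m ⊕ Fin m → F)) :
    IsSquare (Matrix.of (fun i j : ι =>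
      QuadraticMap.polar (Cfsg.quadFormPlus m F) (b i) (b j))).det ↔ Even (m * (q - 1) / 2) := by
  rw [qplus_eq]
  obtain ⟨s, hs, hdet⟩ := gram_det (Tm F m) b
  rw [hdet, isSquare_mul_sq _ _ hs, Tm_add, det_hyp]
  exact isSquare_neg_one_pow hF hq m

end Cfsg.Agent.Lib.Helper4_Gram1
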