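import Mathlib
import Cfsg.Prelude.Def_Classical
import Cfsg.Agent.Lib.Helper4_Gram0
import Cfsg.Agent.Lib.Helper4_Gram1

set_option autoImplicit false

namespace Cfsg.Agent.Lib.Helper4_Gram2

open QuadraticMap Module Matrix Cfsg.Agent.Lib.Helper4_Gram0 Cfsg.Agent.Lib.Helper4_Gram1

variable {F : Type*} [Field F]

theorem isSquare_mul_nonsquare [Fintype F] (x D : F) (hx : x ≠ 0) (hD : ¬ IsSquare D) :
    IsSquare (x * D) ↔ ¬ IsSquare x := by
  classical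
  have hD0 : D ≠ 0 := by
    intro h; rw [h] at hD; exact hD ⟨0, by simp⟩
  have h1 := quadraticChar_neg_one_iff_not_isSquare.mpr hD
  rw [← quadraticChar_one_iff_isSquare (mul_ne_zero hx hD0), map_mul, h1,
    ← quadraticChar_neg_one_iff_not_isSquare]
  constructor
  · intro h; linarith
  · intro h; rw [h]; norm_num

/-- upper triangular matrix of the elliptic form -/
def Te (F : Type*) [Field F] (k : ℕ) (a c : F) :
    Matrix ((Fin k ⊕ Fin k) ⊕ Fin 2) ((Fin k ⊕ Fin k) ⊕ Fin 2) F :=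
  Matrix.fromBlocks (Tm F k) (0 : Matrix (Fin k ⊕ Fin k) (Fin 2) F)
    (0 : Matrix (Fin 2) (Fin k ⊕ Fin k) F) !![1, a; 0, c]

theorem Te_add (k : ℕ) (a c : F) : Te F k a c + (Te F k a c)ᵀ =
    Matrix.fromBlocks (Hm F k) (0 : Matrix (Fin k ⊕ Fin k) (Fin 2) F)
      (0 : Matrix (Fin 2) (Fin k ⊕ Fin k) F) !![2, a; a, 2 * c] := by
  unfold Te
  rw [Matrix.fromBlocks_transpose, Matrix.fromBlocks_add, Tm_add]
  congr 1
  · simp
  · simp
  · ext i j
    fin_cases i <;> fin_cases j <;> simp <;> ring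

theorem det_ell (k : ℕ) (a c : F) :
    (Te F k a c + (Te F k a c)ᵀ).det = (-1) ^ (k + 1) * (a ^ 2 - 4 * c) := by
  rw [Te_add, Matrix.det_fromBlocks_zero₂₁, det_hyp, Matrix.det_fin_two_of]
  ring

theorem qminus_eq (k : ℕ) (a c : F) : Cfsg.quadFormMinus k F a c = qT (Te F k a c) := by
  funext v
  unfold Cfsg.quadFormMinus qT Te
  have e : v = Sum.elim (v ∘ Sum.inl) (v ∘ Sum.inr) := by
    ext i; cases i <;> rfl
  conv_rhs => rw [e]
  rw [Matrix.fromBlocks_mulVec]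
  have h1 := congrFun (qplus_eq (F := F) k) (v ∘ Sum.inl)
  unfold Cfsg.quadFormPlus qT at h1
  simp only [Function.comp] at h1
  simp only [Sum.elim_comp_inl, Sum.elim_comp_inr, Matrix.zero_mulVec, add_zero, zero_add]
  rw [dotProduct, Fintype.sum_sum_type]
  simp only [Sum.elim_inl, Sum.elim_inr]
  have h2 : ∑ x : Fin k ⊕ Fin k, (v ∘ Sum.inl) x * (Tm F k *ᵥ (v ∘ Sum.inl)) x =
      ∑ i : Fin k, v (Sum.inl (Sum.inl i)) * v (Sum.inl (Sum.inr i)) := by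
    rw [h1]; rfl
  rw [h2]
  congr 1
  simp [Fin.sum_univ_two, Matrix.mulVec, dotProduct]
  ring

theorem disc_nonsquare (h2 : (2 : F) ≠ 0) (a c : F)
    (hac : ∀ z₁ z₂ : F, z₁ ^ 2 + a * z₁ * z₂ + c * z₂ ^ 2 = 0 → z₁ = 0 ∧ z₂ = 0) :
    ¬ IsSquare (a ^ 2 - 4 * c) := by
  rintro ⟨s, hs⟩
  have := hac ((s - a) / 2) 1 (by
    field_simp
    linear_combination (-1) * hs)
  exact one_ne_zero this.2

theorem main_minus [Fintype F] {q : ℕ} (hF : Fintype.card F = q) (hq : Odd q) {m : ℕ}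
    (hm : 1 ≤ m) (a c : F)
    (hac : ∀ z₁ z₂ : F, z₁ ^ 2 + a * z₁ * z₂ + c * z₂ ^ 2 = 0 → z₁ = 0 ∧ z₂ = 0)
    {ι : Type*} [Fintype ι] [DecidableEq ι]
    (b : Module.Basis ι F ((Fin (m - 1) ⊕ Fin (m - 1)) ⊕ Fin 2 → F)) :
    IsSquare (Matrix.of (fun i j : ι =>
      QuadraticMap.polar (Cfsg.quadFormMinus (m - 1) F a c) (b i) (b j))).det ↔
      ¬ Even (m * (q - 1) / 2) := by
  have h2 : (2 : F) ≠ 0 := by
    have hc : ringChar F ≠ 2 := by
      intro h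
      rw [FiniteField.even_card_iff_char_two, hF] at h
      rcases hq with ⟨r, hr⟩
      omega
    exact Ring.two_ne_zero hc
  rw [qminus_eq]
  obtain ⟨s, hs, hdet⟩ := gram_det (Te F (m - 1) a c) b
  rw [hdet, isSquare_mul_sq _ _ hs, det_ell, Nat.sub_add_cancel hm,
    isSquare_mul_nonsquare _ _ (pow_ne_zero _ (neg_ne_zero.mpr one_ne_zero))
      (disc_nonsquare h2 a c hac), isSquare_neg_one_pow hF hq m]

end Cfsg.Agent.Lib.Helper4_Gram2
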