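import Mathlib
import Cfsg.Agent.Lib.Helper1_Symp

namespace Cfsg.Agent.Lib.Helper4_ResScal
open Matrix

/-- embedding of the subfield -/
theorem exists_ringHom {K F : Type*} [Field K] [Fintype K] [Field F] [Fintype F] {q : ℕ}
    (hK : Fintype.card K = q ^ 2) (hF : Fintype.card F = q) : Nonempty (F →+* K) := by
  obtain ⟨p, hp⟩ := CharP.exists F
  haveI : Fact p.Prime := ⟨CharP.char_is_prime F p⟩
  obtain ⟨n, -, hn⟩ := FiniteField.card F p
  -- char K = p
  have hKp : CharP K p := by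
    obtain ⟨p', hp'⟩ := CharP.exists K
    haveI : Fact p'.Prime := ⟨CharP.char_is_prime K p'⟩
    obtain ⟨n', -, hn'⟩ := FiniteField.card K p'
    have h1 : p' ∣ p ^ ((n : ℕ) * 2) := by
      rw [pow_mul, ← hn, hF, ← hK, hn']
      exact dvd_pow_self _ n'.ne_zero
    have h2 := (Nat.prime_dvd_prime_iff_eq (Fact.out : p'.Prime) (Fact.out : p.Prime)).1
      ((Fact.out : p'.Prime).dvd_of_dvd_pow h1)
    rw [← h2]
    exact hp'
  letI := ZMod.algebra F p
  letI := ZMod.algebra K p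
  have e1 := FiniteField.pow_finrank_eq_card p F
  have e2 := FiniteField.pow_finrank_eq_card p K
  have h3 : Module.finrank (ZMod p) K = Module.finrank (ZMod p) F * 2 := by
    apply Nat.pow_right_injective (Fact.out : p.Prime).two_le
    show p ^ _ = p ^ _
    rw [pow_mul, e1, e2, hK, hF]
  obtain ⟨f⟩ := FiniteField.nonempty_algHom_of_finrank_dvd (F := ZMod p) (K := F) (L := K)
    (h3 ▸ dvd_mul_right _ _)
  exact ⟨f.toRingHom⟩

theorem finrank_eq_two {K F : Type*} [Field K] [Fintype K] [Field F] [Fintype F] [Algebra F K]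
    {q : ℕ} (hK : Fintype.card K = q ^ 2) (hF : Fintype.card F = q) : Module.finrank F K = 2 := by
  have h := Module.card_eq_pow_finrank (K := F) (V := K)
  rw [hK, hF] at h
  have hq : 2 ≤ q := by
    rw [← hF]
    exact Fintype.one_lt_card
  exact (Nat.pow_right_injective hq h).symm

section transfer
variable {K F : Type*} [Field K] [Field F] [Algebra F K]
variable {ι κ : Type*} [Fintype ι] [DecidableEq ι] [Fintype κ] [DecidableEq κ]

/-- transfer of a matrix along an `F`-linear equivalence -/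
noncomputable def T (Ψ : (ι → K) ≃ₗ[F] (κ → F)) (M : Matrix ι ι K) : Matrix κ κ F :=
  LinearMap.toMatrix' ((Ψ : (ι → K) →ₗ[F] (κ → F)) ∘ₗ ((Matrix.toLin' M).restrictScalars F) ∘ₗ
    (Ψ.symm : (κ → F) →ₗ[F] (ι → K)))

theorem T_mulVec (Ψ : (ι → K) ≃ₗ[F] (κ → F)) (M : Matrix ι ι K) (u : ι → K) :
    T Ψ M *ᵥ Ψ u = Ψ (M *ᵥ u) := by
  unfold T
  rw [← Matrix.toLin'_apply, Matrix.toLin'_toMatrix']
  simp

theorem T_ext (Ψ : (ι → K) ≃ₗ[F] (κ → F)) (A B : Matrix κ κ F)
    (h : ∀ u : ι → K, A *ᵥ Ψ u = B *ᵥ Ψ u) : A = B := by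
  rw [Matrix.ext_iff_mulVec]
  intro x
  have := h (Ψ.symm x)
  rwa [LinearEquiv.apply_symm_apply] at this

theorem T_one (Ψ : (ι → K) ≃ₗ[F] (κ → F)) : T Ψ 1 = 1 := by
  apply T_ext Ψ
  intro u
  rw [T_mulVec, Matrix.one_mulVec, Matrix.one_mulVec]

theorem T_mul (Ψ : (ι → K) ≃ₗ[F] (κ → F)) (M N : Matrix ι ι K) :
    T Ψ (M * N) = T Ψ M * T Ψ N := by
  apply T_ext Ψ
  intro u
  rw [T_mulVec, ← Matrix.mulVec_mulVec _ (T Ψ M), T_mulVec, T_mulVec, Matrix.mulVec_mulVec]

theorem T_injective (Ψ : (ι → K) ≃ₗ[F] (κ → F)) : Function.Injective (T Ψ) := by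
  intro M N h
  rw [Matrix.ext_iff_mulVec]
  intro u
  apply Ψ.injective
  rw [← T_mulVec, ← T_mulVec, h]

end transfer

section sp
variable {K F : Type*} [Field K] [Field F] [Algebra F K]

/-- the second coordinate map `y ↦ (τ (y * b j))_j` with `τ = b.coord 0` -/
noncomputable def cc (b : Module.Basis (Fin 2) F K) : K →ₗ[F] (Fin 2 → F) :=
  LinearMap.pi (fun j => (b.coord 0) ∘ₗ (LinearMap.mulRight F (b j)))

theorem cc_apply (b : Module.Basis (Fin 2) F K) (y : K) (j : Fin 2) :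
    cc b y j = b.coord 0 (y * b j) := rfl

theorem tau_mul (b : Module.Basis (Fin 2) F K) (x y : K) :
    b.coord 0 (x * y) = ∑ j, b.equivFun x j * cc b y j := by
  conv_lhs => rw [← b.sum_equivFun x, mul_comm, Finset.mul_sum, map_sum]
  apply Finset.sum_congr rfl
  intro j _
  rw [cc_apply, mul_smul_comm, map_smul, smul_eq_mul]

theorem cc_injective (b : Module.Basis (Fin 2) F K) : Function.Injective (cc b) := by
  rw [injective_iff_map_eq_zero]
  intro y hy
  by_contra hne
  have h1 : b.coord 0 (y⁻¹ * b 0 * y) = 0 := by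
    rw [tau_mul, hy]
    simp
  rw [mul_comm, ← mul_assoc, mul_inv_cancel₀ hne, one_mul] at h1
  simp at h1

/-- `cc` as an equivalence -/
noncomputable def ccE (b : Module.Basis (Fin 2) F K) : K ≃ₗ[F] (Fin 2 → F) :=
  haveI : Module.Finite F K := .of_basis b
  LinearEquiv.ofBijective (cc b) ⟨cc_injective b,
    (LinearMap.injective_iff_surjective_of_finrank_eq_finrank (by
      rw [Module.finrank_eq_card_basis b, Module.finrank_fin_fun, Fintype.card_fin])).1
        (cc_injective b)⟩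

theorem ccE_apply (b : Module.Basis (Fin 2) F K) (y : K) : ccE b y = cc b y := by
  unfold ccE
  rfl

/-- the coordinate equivalence for the symplectic embedding -/
noncomputable def PsiG {α β : Type*} (e : Fin 2 × α ≃ β) (c c' : K ≃ₗ[F] (Fin 2 → F)) :
    (α ⊕ α → K) ≃ₗ[F] (β ⊕ β → F) where
  toFun u := Sum.elim
    (fun k => c (u (Sum.inl (e.symm k).2)) (e.symm k).1)
    (fun k => c' (u (Sum.inr (e.symm k).2)) (e.symm k).1)
  map_add' := by
    intro u v
    ext (k | k) <;> simp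
  map_smul' := by
    intro r u
    ext (k | k) <;> simp
  invFun x := Sum.elim
    (fun i => c.symm (fun j => x (Sum.inl (e (j, i)))))
    (fun i => c'.symm (fun j => x (Sum.inr (e (j, i)))))
  left_inv := by
    intro u
    ext (i | i) <;> simp
  right_inv := by
    intro x
    ext (k | k) <;> simp

/-- the coordinate equivalence for the symplectic embedding -/
noncomputable def PsiSp (a : ℕ) (c c' : K ≃ₗ[F] (Fin 2 → F)) :
    (Fin a ⊕ Fin a → K) ≃ₗ[F] (Fin (2 * a) ⊕ Fin (2 * a) → F) :=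
  PsiG finProdFinEquiv c c'

theorem PsiSp_inl (a : ℕ) (c c' : K ≃ₗ[F] (Fin 2 → F)) (u : Fin a ⊕ Fin a → K) (j : Fin 2) (i : Fin a) :
    PsiSp a c c' u (Sum.inl (finProdFinEquiv (j, i))) = c (u (Sum.inl i)) j := by
  show c (u (Sum.inl (finProdFinEquiv.symm (finProdFinEquiv (j, i))).2))
    (finProdFinEquiv.symm (finProdFinEquiv (j, i))).1 = _
  rw [Equiv.symm_apply_apply]

theorem PsiSp_inr (a : ℕ) (c c' : K ≃ₗ[F] (Fin 2 → F)) (u : Fin a ⊕ Fin a → K) (j : Fin 2) (i : Fin a) :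
    PsiSp a c c' u (Sum.inr (finProdFinEquiv (j, i))) = c' (u (Sum.inr i)) j := by
  show c' (u (Sum.inr (finProdFinEquiv.symm (finProdFinEquiv (j, i))).2))
    (finProdFinEquiv.symm (finProdFinEquiv (j, i))).1 = _
  rw [Equiv.symm_apply_apply]

open Cfsg Cfsg.Agent.Lib.Helper1_Symp in
theorem form_PsiSp (a : ℕ) (b : Module.Basis (Fin 2) F K) (u v : Fin a ⊕ Fin a → K) :
    sympForm (2 * a) F (PsiSp a b.equivFun (ccE b) u) (PsiSp a b.equivFun (ccE b) v) =
      b.coord 0 (sympForm a K u v) := by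
  rw [sympForm_eq, sympForm_eq, map_sum]
  rw [← finProdFinEquiv.sum_comp, Fintype.sum_prod_type, Finset.sum_comm]
  apply Finset.sum_congr rfl
  intro i _
  simp only [PsiSp_inl, PsiSp_inr]
  rw [map_sub, mul_comm (u (Sum.inr i)), tau_mul, tau_mul, ← Finset.sum_sub_distrib]
  apply Finset.sum_congr rfl
  intro j _
  rw [ccE_apply, ccE_apply]
  ring

end sp

open Cfsg Cfsg.Agent.Lib.Helper1_Symp in
theorem aux_sp {K F : Type*} [Field K] [Field F] [Algebra F K] (b : Module.Basis (Fin 2) F K) (a : ℕ) :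
    ∃ φ : ↥(Matrix.symplecticGroup (Fin a) K) →* ↥(Matrix.symplecticGroup (Fin (2 * a)) F),
      Function.Injective φ := by
  let Ψ := PsiSp a b.equivFun (ccE b)
  have hmem : ∀ g : Matrix.symplecticGroup (Fin a) K,
      T Ψ g.1 ∈ Matrix.symplecticGroup (Fin (2 * a)) F := by
    intro g
    rw [mem_symplecticGroup_iff_preserves]
    intro x y
    obtain ⟨u, rfl⟩ := Ψ.surjective x
    obtain ⟨v, rfl⟩ := Ψ.surjective y
    rw [T_mulVec, T_mulVec, form_PsiSp, form_PsiSp,
      (mem_symplecticGroup_iff_preserves g.1).1 g.2]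
  refine ⟨{ toFun := fun g => ⟨T Ψ g.1, hmem g⟩, map_one' := ?_, map_mul' := ?_ }, ?_⟩
  · apply Subtype.ext
    exact T_one Ψ
  · intro g h
    apply Subtype.ext
    exact T_mul Ψ g.1 h.1
  · intro g h hgh
    apply Subtype.ext
    apply T_injective Ψ
    exact congrArg Subtype.val hgh

theorem main_sp {K F : Type*} [Field K] [Fintype K] [Field F] [Fintype F] {q : ℕ}
    (hK : Fintype.card K = q ^ 2) (hF : Fintype.card F = q) (a : ℕ) :
    ∃ φ : ↥(Matrix.symplecticGroup (Fin a) K) →* ↥(Matrix.symplecticGroup (Fin (2 * a)) F),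
      Function.Injective φ := by
  obtain ⟨f⟩ := exists_ringHom hK hF
  letI : Algebra F K := f.toAlgebra
  have h2 := finrank_eq_two hK hF
  exact aux_sp (Module.finBasisOfFinrankEq F K h2) a

end Cfsg.Agent.Lib.Helper4_ResScal
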