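import Mathlib
import Cfsg.Prelude.Def_Classical
import Cfsg.Agent.Lib.Helper4_Gram2
import Cfsg.Agent.Lib.Helper4_ResScal

namespace Cfsg.Agent.Lib.Helper4_EllHyp
open Matrix Cfsg.Agent.Lib.Helper4_Gram0 Cfsg.Agent.Lib.Helper4_Gram1 Cfsg.Agent.Lib.Helper4_Gram2
  Cfsg.Agent.Lib.Helper4_ResScal

section alt
variable {F : Type*} [Field F] {ι : Type*} [Fintype ι] [DecidableEq ι]

/-- alternating matrices -/
def altM (C : Matrix ι ι F) : Prop := (∀ i, C i i = 0) ∧ ∀ i j, C i j + C j i = 0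

theorem qT_eq_zero_of_alt (C : Matrix ι ι F) (h : altM C) (v : ι → F) : qT C v = 0 := by
  unfold qT
  simp only [dotProduct, mulVec, Finset.mul_sum]
  rw [← Finset.sum_product']
  apply Finset.sum_involution (fun a _ => (a.2, a.1))
  · intro a _
    have := h.2 a.1 a.2
    have e : v a.1 * (C a.1 a.2 * v a.2) + v a.2 * (C a.2 a.1 * v a.1) =
      v a.1 * v a.2 * (C a.1 a.2 + C a.2 a.1) := by ring
    rw [e, this, mul_zero]
  · intro a _ hne heq
    apply hne
    have : a.2 = a.1 := congrArg Prod.fst heq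
    rw [this, h.1, zero_mul, mul_zero]
  · intro a _
    simp
  · intro a _
    rfl

theorem alt_of_qT_eq_zero (C : Matrix ι ι F) (h : ∀ v, qT C v = 0) : altM C := by
  have h1 : ∀ i j, (Pi.single i (1 : F)) ⬝ᵥ (C *ᵥ Pi.single j 1) = C i j := by
    intro i j
    rw [Matrix.mulVec_single_one, single_one_dotProduct]
    rfl
  have hd : ∀ i, C i i = 0 := by
    intro i
    have := h (Pi.single i 1)
    unfold qT at this
    rwa [h1] at this
  refine ⟨hd, ?_⟩
  intro i j
  have := h (Pi.single i 1 + Pi.single j 1)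
  unfold qT at this
  rw [Matrix.mulVec_add, add_dotProduct, dotProduct_add, dotProduct_add, h1, h1, h1, h1, hd, hd] at this
  rw [← this]
  ring

theorem qT_mulVec (T g : Matrix ι ι F) (v : ι → F) : qT T (g *ᵥ v) = qT (gᵀ * T * g) v := by
  unfold qT
  rw [← Matrix.mulVec_mulVec, ← Matrix.mulVec_mulVec, Matrix.dotProduct_mulVec v gᵀ,
    Matrix.vecMul_transpose]

theorem qT_sub (A B : Matrix ι ι F) (v : ι → F) : qT (A - B) v = qT A v - qT B v := by
  unfold qT
  rw [Matrix.sub_mulVec, dotProduct_sub]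

theorem alt_map {K : Type*} [Field K] (φ : F →+* K) (C : Matrix ι ι F) (h : altM C) :
    altM (C.map φ) := by
  refine ⟨fun i => ?_, fun i j => ?_⟩
  · rw [Matrix.map_apply, h.1, map_zero]
  · rw [Matrix.map_apply, Matrix.map_apply, ← map_add, h.2, map_zero]

theorem preserves_map {K : Type*} [Field K] (φ : F →+* K) (T g : Matrix ι ι F)
    (h : ∀ v, qT T (g *ᵥ v) = qT T v) (w : ι → K) :
    qT (T.map φ) (g.map φ *ᵥ w) = qT (T.map φ) w := by
  have h1 : altM (gᵀ * T * g - T) := by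
    apply alt_of_qT_eq_zero
    intro v
    rw [qT_sub, ← qT_mulVec, h, sub_self]
  have h2 := alt_map φ _ h1
  have h3 := qT_eq_zero_of_alt _ h2 w
  have e : (gᵀ * T * g - T).map φ = (g.map φ)ᵀ * T.map φ * g.map φ - T.map φ := by
    rw [Matrix.map_sub (hf := fun a b => map_sub φ a b), Matrix.map_mul, Matrix.map_mul, Matrix.transpose_map]
  rw [e, qT_sub, ← qT_mulVec] at h3
  exact sub_eq_zero.1 h3

end alt

section roots
open Polynomial

theorem exists_roots {K F : Type*} [Field K] [Fintype K] [Field F] [Fintype F] [Algebra F K]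
    {q : ℕ} (hF : Fintype.card F = q) (hK : Fintype.card K = q ^ 2) (a c : F)
    (hac : ∀ z₁ z₂ : F, z₁ ^ 2 + a * z₁ * z₂ + c * z₂ ^ 2 = 0 → z₁ = 0 ∧ z₂ = 0) :
    ∃ α β : K, α + β = - algebraMap F K a ∧ α * β = algebraMap F K c ∧ α ≠ β := by
  classical
  have hnoroot : ∀ x : F, x ^ 2 + a * x + c ≠ 0 := by
    intro x hx
    have := hac x 1 (by rw [← hx]; ring)
    exact one_ne_zero this.2
  let f : F[X] := X ^ 2 + (C a * X + C c)
  have hdeg : f.natDegree = 2 := by
    apply (natDegree_add_eq_left_of_degree_lt _).trans (natDegree_X_pow 2)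
    rw [degree_X_pow]
    exact lt_of_le_of_lt (degree_linear_le) (by norm_num)
  have hirr : Irreducible f := by
    apply irreducible_of_degree_le_three_of_not_isRoot
    · rw [hdeg]; decide
    · intro x hx
      apply hnoroot x
      have : eval x f = x ^ 2 + a * x + c := by simp [f]; ring
      rw [← this]
      exact hx
  have hdvd : f ∣ X ^ (Nat.card F) ^ 2 - X := by
    rw [← hirr.natDegree_dvd_iff_dvd_X_pow_card_pow_sub_X, hdeg]
  have hdvd' : f.map (algebraMap F K) ∣ (X ^ Fintype.card K - X : F[X]).map (algebraMap F K) := by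
    apply Polynomial.map_dvd
    rw [hK, ← hF, ← Nat.card_eq_fintype_card]
    exact hdvd
  have hsp := (FiniteField.isSplittingField_sub K F).splits
  have hne : (X ^ Fintype.card K - X : F[X]).map (algebraMap F K) ≠ 0 := by
    apply Polynomial.map_ne_zero
    exact FiniteField.X_pow_card_sub_X_ne_zero F Fintype.one_lt_card
  have hsp' := hsp.of_dvd hne hdvd'
  have hd0 : (f.map (algebraMap F K)).degree ≠ 0 := by
    rw [degree_map, degree_eq_natDegree hirr.ne_zero, hdeg]
    norm_num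
  obtain ⟨α, hα⟩ := hsp'.exists_eval_eq_zero hd0
  have hα' : α ^ 2 + algebraMap F K a * α + algebraMap F K c = 0 := by
    rw [← hα]
    simp [f]
    ring
  refine ⟨α, - algebraMap F K a - α, by ring, by linear_combination (-1 : K) * hα', ?_⟩
  intro heq
  by_cases h2 : (2 : F) = 0
  · have h2K : (2 : K) = 0 := by
      rw [← map_ofNat (algebraMap F K) 2, h2, map_zero]
    have ha : a = 0 := by
      apply (algebraMap F K).injective
      rw [map_zero]
      have : algebraMap F K a = -(2 * α) := by linear_combination heq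
      rw [this, h2K]
      ring
    haveI : CharP F 2 := CharTwo.of_one_ne_zero_of_two_eq_zero one_ne_zero h2
    obtain ⟨γ, hγ⟩ := FiniteField.isSquare_of_char_two (ringChar.eq F 2) c
    apply hnoroot γ
    rw [ha, hγ]
    linear_combination (γ * γ) * h2
  · have h2K : (2 : K) ≠ 0 := by
      intro h
      apply h2
      apply (algebraMap F K).injective
      rw [map_ofNat, map_zero]
      exact h
    have hα2 : α = algebraMap F K (-a / 2) := by
      rw [map_div₀, map_neg, map_ofNat]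
      field_simp
      linear_combination heq
    apply hnoroot (-a / 2)
    apply (algebraMap F K).injective
    rw [map_zero, map_add, map_add, map_pow, map_mul, ← hα2]
    exact hα'

end roots

section partC
variable {K : Type*} [Field K]

/-- the change of coordinates -/
def PsiO (k : ℕ) (α β : K) :
    ((Fin k ⊕ Fin k) ⊕ Fin 2 → K) →ₗ[K] (Fin (k + 1) ⊕ Fin (k + 1) → K) where
  toFun v := Sum.elim
    (Fin.snoc (α := fun _ => K) (fun i => v (Sum.inl (Sum.inl i))) (v (Sum.inr 0) - α * v (Sum.inr 1)))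
    (Fin.snoc (α := fun _ => K) (fun i => v (Sum.inl (Sum.inr i))) (v (Sum.inr 0) - β * v (Sum.inr 1)))
  map_add' u v := by
    ext (i | i) <;> refine Fin.lastCases ?_ (fun j => ?_) i <;> simp <;> ring
  map_smul' r v := by
    ext (i | i) <;> refine Fin.lastCases ?_ (fun j => ?_) i <;> simp <;> ring

theorem PsiO_inl_last (k : ℕ) (α β : K) (v : (Fin k ⊕ Fin k) ⊕ Fin 2 → K) :
    PsiO k α β v (Sum.inl (Fin.last k)) = v (Sum.inr 0) - α * v (Sum.inr 1) := by
  simp [PsiO]

theorem PsiO_inr_last (k : ℕ) (α β : K) (v : (Fin k ⊕ Fin k) ⊕ Fin 2 → K) :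
    PsiO k α β v (Sum.inr (Fin.last k)) = v (Sum.inr 0) - β * v (Sum.inr 1) := by
  simp [PsiO]

theorem PsiO_inl_cast (k : ℕ) (α β : K) (v : (Fin k ⊕ Fin k) ⊕ Fin 2 → K) (i : Fin k) :
    PsiO k α β v (Sum.inl (Fin.castSucc i)) = v (Sum.inl (Sum.inl i)) := by
  simp [PsiO]

theorem PsiO_inr_cast (k : ℕ) (α β : K) (v : (Fin k ⊕ Fin k) ⊕ Fin 2 → K) (i : Fin k) :
    PsiO k α β v (Sum.inr (Fin.castSucc i)) = v (Sum.inl (Sum.inr i)) := by
  simp [PsiO]

theorem form_PsiO (k : ℕ) (α β a c : K) (h1 : α + β = -a) (h2 : α * β = c)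
    (v : (Fin k ⊕ Fin k) ⊕ Fin 2 → K) :
    Cfsg.quadFormPlus (k + 1) K (PsiO k α β v) = Cfsg.quadFormMinus k K a c v := by
  unfold Cfsg.quadFormPlus Cfsg.quadFormMinus
  rw [Fin.sum_univ_castSucc]
  simp only [PsiO_inl_last, PsiO_inr_last, PsiO_inl_cast, PsiO_inr_cast]
  have ha : a = -(α + β) := by rw [h1]; ring
  rw [ha, ← h2]
  ring

theorem PsiO_injective (k : ℕ) (α β : K) (hne : α ≠ β) : Function.Injective (PsiO k α β) := by
  rw [injective_iff_map_eq_zero]
  intro v hv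
  have e1 : ∀ i : Fin k, v (Sum.inl (Sum.inl i)) = 0 := by
    intro i
    rw [← PsiO_inl_cast k α β v i, hv]
    rfl
  have e2 : ∀ i : Fin k, v (Sum.inl (Sum.inr i)) = 0 := by
    intro i
    rw [← PsiO_inr_cast k α β v i, hv]
    rfl
  have e3 : v (Sum.inr 0) - α * v (Sum.inr 1) = 0 := by
    rw [← PsiO_inl_last k α β v, hv]
    rfl
  have e4 : v (Sum.inr 0) - β * v (Sum.inr 1) = 0 := by
    rw [← PsiO_inr_last k α β v, hv]
    rfl
  have e5 : v (Sum.inr 1) = 0 := by
    have : (α - β) * v (Sum.inr 1) = 0 := by linear_combination e4 - e3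
    exact (mul_eq_zero.1 this).resolve_left (sub_ne_zero.2 hne)
  have e6 : v (Sum.inr 0) = 0 := by
    rw [e5] at e3
    simpa using e3
  ext ((i | i) | i)
  · exact e1 i
  · exact e2 i
  · fin_cases i
    · exact e6
    · exact e5

/-- the change of coordinates as an equivalence -/
noncomputable def PsiOE (k : ℕ) (α β : K) (hne : α ≠ β) :
    ((Fin k ⊕ Fin k) ⊕ Fin 2 → K) ≃ₗ[K] (Fin (k + 1) ⊕ Fin (k + 1) → K) :=
  LinearEquiv.ofBijective (PsiO k α β) ⟨PsiO_injective k α β hne,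
    (LinearMap.injective_iff_surjective_of_finrank_eq_finrank (by
      rw [Module.finrank_fintype_fun_eq_card, Module.finrank_fintype_fun_eq_card]
      simp only [Fintype.card_sum, Fintype.card_fin]
      ring)).1 (PsiO_injective k α β hne)⟩

theorem PsiOE_apply (k : ℕ) (α β : K) (hne : α ≠ β) (v : (Fin k ⊕ Fin k) ⊕ Fin 2 → K) :
    PsiOE k α β hne v = PsiO k α β v := rfl

theorem Te_map {F : Type*} [Field F] (φ : F →+* K) (k : ℕ) (a c : F) :
    (Te F k a c).map φ = Te K k (φ a) (φ c) := by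
  unfold Te Tm
  rw [Matrix.fromBlocks_map, Matrix.fromBlocks_map]
  congr 1
  · simp
  · simp
  · simp
  · ext i j
    fin_cases i <;> fin_cases j <;> simp

end partC

section final

/-- `T` as a monoid hom -/
noncomputable def THom {K : Type*} [Field K] {ι κ : Type*} [Fintype ι] [DecidableEq ι] [Fintype κ]
    [DecidableEq κ] (Ψ : (ι → K) ≃ₗ[K] (κ → K)) : Matrix ι ι K →* Matrix κ κ K where
  toFun := T Ψ
  map_one' := T_one Ψ
  map_mul' := T_mul Ψ

theorem aux_o {F K : Type*} [Field F] [Fintype F] [Field K] [Fintype K] [Algebra F K] {q : ℕ}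
    (hF : Fintype.card F = q) (hK : Fintype.card K = q ^ 2) (k : ℕ) (a c : F)
    (hac : ∀ z₁ z₂ : F, z₁ ^ 2 + a * z₁ * z₂ + c * z₂ ^ 2 = 0 → z₁ = 0 ∧ z₂ = 0) :
    ∃ φ : ↥(Cfsg.isometryGroup F (Cfsg.quadFormMinus k F a c)) →*
      ↥(Cfsg.isometryGroup K (Cfsg.quadFormPlus (k + 1) K)), Function.Injective φ := by
  obtain ⟨α, β, h1, h2, hne⟩ := exists_roots hF hK a c hac
  let Ψ := PsiOE k α β hne
  let φ₀ : Matrix.GeneralLinearGroup ((Fin k ⊕ Fin k) ⊕ Fin 2) F →*
      Matrix.GeneralLinearGroup (Fin (k + 1) ⊕ Fin (k + 1)) K :=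
    (Units.map (THom Ψ)).comp (Matrix.GeneralLinearGroup.map (algebraMap F K))
  have hval : ∀ g, ((φ₀ g : Matrix.GeneralLinearGroup (Fin (k + 1) ⊕ Fin (k + 1)) K) :
      Matrix _ _ K) = T Ψ (g.1.map (algebraMap F K)) := fun g => rfl
  have hmem : ∀ g : Cfsg.isometryGroup F (Cfsg.quadFormMinus k F a c),
      φ₀ g.1 ∈ Cfsg.isometryGroup K (Cfsg.quadFormPlus (k + 1) K) := by
    intro g w _
    show Cfsg.quadFormPlus (k + 1) K ((φ₀ g.1).1 *ᵥ w) = Cfsg.quadFormPlus (k + 1) K w
    obtain ⟨u, rfl⟩ := Ψ.surjective w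
    rw [hval, T_mulVec, PsiOE_apply, PsiOE_apply, form_PsiO k α β _ _ h1 h2,
      form_PsiO k α β _ _ h1 h2, qminus_eq, ← Te_map]
    apply preserves_map
    intro v
    have h6 : Cfsg.quadFormMinus k F a c (g.1.1 *ᵥ v) = Cfsg.quadFormMinus k F a c v := g.2 v v
    generalize (g.1.1 : Matrix _ _ F) = M at h6 ⊢
    rw [qminus_eq] at h6
    exact h6
  refine ⟨(φ₀.comp (Subgroup.subtype _)).codRestrict _ hmem, ?_⟩
  intro g h hgh
  have h3 : φ₀ g.1 = φ₀ h.1 := congrArg Subtype.val hgh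
  apply Subtype.ext
  apply Units.ext
  have h4 : T Ψ (g.1.1.map (algebraMap F K)) = T Ψ (h.1.1.map (algebraMap F K)) := by
    rw [← hval, ← hval, h3]
  have h5 := T_injective Ψ h4
  ext i j
  have := congrFun (congrFun h5 i) j
  simp only [Matrix.map_apply] at this
  exact (algebraMap F K).injective this

theorem main_o {F K : Type*} [Field F] [Fintype F] [Field K] [Fintype K] {q : ℕ}
    (hF : Fintype.card F = q) (hK : Fintype.card K = q ^ 2) {m : ℕ} (hm : 1 ≤ m) (a c : F)
    (hac : ∀ z₁ z₂ : F, z₁ ^ 2 + a * z₁ * z₂ + c * z₂ ^ 2 = 0 → z₁ = 0 ∧ z₂ = 0) :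
    ∃ φ : ↥(Cfsg.isometryGroup F (Cfsg.quadFormMinus (m - 1) F a c)) →*
      ↥(Cfsg.isometryGroup K (Cfsg.quadFormPlus m K)), Function.Injective φ := by
  obtain ⟨k, rfl⟩ : ∃ k, m = k + 1 := ⟨m - 1, by omega⟩
  obtain ⟨f⟩ := exists_ringHom hK hF
  letI : Algebra F K := f.toAlgebra
  exact aux_o hF hK k a c hac

end final

end Cfsg.Agent.Lib.Helper4_EllHyp
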