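import Mathlib
import Cfsg.Prelude.Def_Transfer

namespace Cfsg.Agent.Lib.Helper4_ExtraCent
open scoped commutatorElement
variable {G : Type*} [Group G]

theorem comm_mul_aux (g x y : G) (hc : x * ⁅g, y⁆ = ⁅g, y⁆ * x) :
    ⁅g, x * y⁆ = ⁅g, x⁆ * ⁅g, y⁆ := by
  have h2 : x⁻¹ * ⁅g, y⁆ = ⁅g, y⁆ * x⁻¹ := by
    calc x⁻¹ * ⁅g, y⁆ = x⁻¹ * (⁅g, y⁆ * x) * x⁻¹ := by group
      _ = x⁻¹ * (x * ⁅g, y⁆) * x⁻¹ := by rw [hc]
      _ = ⁅g, y⁆ * x⁻¹ := by group
  calc ⁅g, x * y⁆ = g * x * g⁻¹ * (⁅g, y⁆ * x⁻¹) := by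
        simp only [commutatorElement_def]; group
    _ = g * x * g⁻¹ * (x⁻¹ * ⁅g, y⁆) := by rw [h2]
    _ = ⁅g, x⁆ * ⁅g, y⁆ := by simp only [commutatorElement_def]; group

/-- commutator hom -/
def phi (E : Subgroup G) (h : ⁅(⊤ : Subgroup G), E⁆ ≤ E ⊓ Subgroup.centralizer (E : Set G)) (g : G) :
    E →* (Subgroup.center E) where
  toFun x := ⟨⟨⁅g, (x : G)⁆, (h (Subgroup.commutator_mem_commutator (Subgroup.mem_top g) x.2)).1⟩, by
    rw [Subgroup.mem_center_iff]
    intro y
    have := (h (Subgroup.commutator_mem_commutator (Subgroup.mem_top g) x.2)).2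
    have h2 := (Subgroup.mem_centralizer_iff.1 this) y y.2
    exact Subtype.ext h2⟩
  map_one' := by
    apply Subtype.ext; apply Subtype.ext
    simp
  map_mul' x y := by
    apply Subtype.ext; apply Subtype.ext
    simp only [Subgroup.coe_mul]
    apply comm_mul_aux
    have := (h (Subgroup.commutator_mem_commutator (Subgroup.mem_top g) y.2)).2
    exact (Subgroup.mem_centralizer_iff.1 this) x x.2

theorem phi_apply (E : Subgroup G) (h : ⁅(⊤ : Subgroup G), E⁆ ≤ E ⊓ Subgroup.centralizer (E : Set G)) (g : G)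
    (x : E) : (((phi E h g x : Subgroup.center E) : E) : G) = ⁅g, (x : G)⁆ := rfl

theorem phi_eq_iff (E : Subgroup G) (h : ⁅(⊤ : Subgroup G), E⁆ ≤ E ⊓ Subgroup.centralizer (E : Set G))
    (g g' : G) : phi E h g = phi E h g' ↔ g⁻¹ * g' ∈ Subgroup.centralizer (E : Set G) := by
  rw [Subgroup.mem_centralizer_iff]
  constructor
  · intro hh x hx
    have h1 := congrArg (fun f : E →* Subgroup.center E => (((f ⟨x, hx⟩ : Subgroup.center E) : E) : G)) hh
    simp only [phi_apply, commutatorElement_def] at h1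
    have h2 : g * x * g⁻¹ = g' * x * g'⁻¹ := mul_right_cancel h1
    calc x * (g⁻¹ * g') = g⁻¹ * (g * x * g⁻¹) * g' := by group
      _ = g⁻¹ * (g' * x * g'⁻¹) * g' := by rw [h2]
      _ = g⁻¹ * g' * x := by group
  · intro hh
    ext x
    rw [phi_apply, phi_apply, commutatorElement_def, commutatorElement_def]
    have h1 := hh x x.2
    congr 1
    calc g * x * g⁻¹ = g * (x * (g⁻¹ * g')) * g'⁻¹ := by group
      _ = g * (g⁻¹ * g' * x) * g'⁻¹ := by rw [h1]
      _ = g' * x * g'⁻¹ := by group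

theorem card_hom_le {E : Type*} [Group E] [Finite E] {p : ℕ} [Fact p.Prime]
    (hcomm : commutator E = Subgroup.center E) (hp : Nat.card (Subgroup.center E) = p) :
    Nat.card (E →* Subgroup.center E) ≤ Nat.card (E ⧸ Subgroup.center E) := by
  have : NeZero p := ⟨(Fact.out : p.Prime).ne_zero⟩
  let ι : Subgroup.center E ≃* rootsOfUnity p ℂ :=
    mulEquivOfPrimeCardEq hp (Complex.card_rootsOfUnity p)
  let ι' : Subgroup.center E →* ℂˣ := (rootsOfUnity p ℂ).subtype.comp ι.toMonoidHom
  have hι' : Function.Injective ι' := by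
    intro a b hab
    exact ι.injective (Subtype.val_injective hab)
  let f : (E →* Subgroup.center E) → (Abelianization E →* ℂˣ) := fun φ => Abelianization.lift (ι'.comp φ)
  have hf : Function.Injective f := by
    intro φ φ' hh
    have h1 := Abelianization.lift.injective hh
    exact (MonoidHom.cancel_left hι').1 h1
  have h1 := Nat.card_le_card_of_injective f hf
  have : NeZero ((Monoid.exponent (Abelianization E) : ℕ) : ℂ) := by
    have := Monoid.exponent_ne_zero_of_finite (G := Abelianization E)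
    exact ⟨by exact_mod_cast this⟩
  rw [CommGroup.card_monoidHom_of_hasEnoughRootsOfUnity (Abelianization E) ℂ] at h1
  have h2 : Nat.card (Abelianization E) = Nat.card (E ⧸ Subgroup.center E) := by
    unfold Abelianization
    rw [hcomm]
  rw [← h2]
  exact h1

theorem main [Finite G] {p : ℕ} [Fact p.Prime] (E : Subgroup G) (hE : Cfsg.IsExtraspecial p E)
    (h : ⁅(⊤ : Subgroup G), E⁆ ≤ E ⊓ Subgroup.centralizer (E : Set G)) :
    E ⊔ Subgroup.centralizer (E : Set G) = ⊤ := by
  let ψ : E ⧸ Subgroup.center E → (E →* Subgroup.center E) :=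
    Quotient.lift (fun e : E => phi E h (e : G)) (by
      intro a b hab
      have hab' : a⁻¹ * b ∈ Subgroup.center E := QuotientGroup.leftRel_apply.1 hab
      show phi E h (a : G) = phi E h (b : G)
      rw [phi_eq_iff, Subgroup.mem_centralizer_iff]
      intro x hx
      rw [Subgroup.mem_center_iff] at hab'
      have := hab' ⟨x, hx⟩
      exact congrArg Subtype.val this)
  have hψ : Function.Injective ψ := by
    intro a b
    refine Quotient.inductionOn₂ a b ?_
    intro a b hab
    change phi E h (a : G) = phi E h (b : G) at hab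
    rw [phi_eq_iff, Subgroup.mem_centralizer_iff] at hab
    apply Quotient.sound
    apply QuotientGroup.leftRel_apply.2
    rw [Subgroup.mem_center_iff]
    intro x
    exact Subtype.ext (hab x x.2)
  have : Finite (E →* Subgroup.center E) := DFunLike.finite _
  have hbij := hψ.bijective_of_nat_card_le (card_hom_le hE.1.2.2 hE.2)
  rw [eq_top_iff]
  intro g _
  obtain ⟨q, hq⟩ := hbij.2 (phi E h g)
  obtain ⟨e, rfl⟩ := Quotient.exists_rep q
  change phi E h (e : G) = phi E h g at hq
  rw [phi_eq_iff] at hq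
  have : g = (e : G) * ((e : G)⁻¹ * g) := by group
  rw [this]
  exact Subgroup.mul_mem_sup e.2 hq

end Cfsg.Agent.Lib.Helper4_ExtraCent
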