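import Mathlib

namespace Cfsg.Agent.Lib.Helper4_FieldAutCent
open Matrix

variable {F : Type*} [Field F] [Fintype F]

/-- the fixed field -/
noncomputable def fixK (σ : F ≃+* F) : Subfield F :=
  FixedPoints.subfield (Subgroup.zpowers (σ : RingAut F)) F

theorem mem_fixK (σ : F ≃+* F) (x : F) : x ∈ fixK σ ↔ σ x = x := by
  unfold fixK
  constructor
  · intro h
    exact h ⟨σ, Subgroup.mem_zpowers _⟩
  · intro h g
    obtain ⟨g, hg⟩ := g
    obtain ⟨k, rfl⟩ := Subgroup.mem_zpowers_iff.1 hg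
    show (σ ^ k : RingAut F) x = x
    have h1 : ∀ m : ℕ, (σ ^ m : RingAut F) x = x := by
      intro m
      induction m with
      | zero => simp
      | succ m ih =>
        rw [pow_succ]
        show (σ ^ m : RingAut F) (σ x) = x
        rw [h, ih]
    obtain ⟨m, rfl | rfl⟩ := Int.eq_nat_or_neg k
    · rw [zpow_natCast]
      exact h1 m
    · rw [_root_.zpow_neg, zpow_natCast]
      have := h1 m
      calc (σ ^ m : RingAut F)⁻¹ x = (σ ^ m : RingAut F)⁻¹ ((σ ^ m : RingAut F) x) := by rw [this]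
        _ = x := by
          show ((σ ^ m : RingAut F)⁻¹ * (σ ^ m : RingAut F)) x = x
          rw [inv_mul_cancel]
          rfl

theorem card_fixK (σ : F ≃+* F) {q₀ r : ℕ} (hr : r.Prime) (hF : Fintype.card F = q₀ ^ r)
    (hσ : orderOf σ = r) : Nat.card (fixK σ) = q₀ := by
  classical
  have h1 : Module.finrank (fixK σ) F = Nat.card (Subgroup.zpowers (σ : RingAut F)) := by
    unfold fixK
    haveI : Finite (RingAut F) :=
      Finite.of_injective (fun e : F ≃+* F => (e : F → F)) DFunLike.coe_injective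
    haveI : Fintype (Subgroup.zpowers (σ : RingAut F)) := Fintype.ofFinite _
    rw [FixedPoints.finrank_eq_card, Nat.card_eq_fintype_card]
  rw [Nat.card_zpowers, hσ] at h1
  haveI : Fintype (fixK σ) := Fintype.ofFinite _
  have h2 := Module.card_eq_pow_finrank (K := fixK σ) (V := F)
  rw [h1, hF] at h2
  rw [Nat.card_eq_fintype_card]
  exact (Nat.pow_left_injective hr.ne_zero h2).symm

/-- the product map -/
noncomputable def Phi (n : ℕ) (σ : F ≃+* F) : Fˣ × GL (Fin n) (fixK σ) →* GL (Fin n) F where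
  toFun x := GeneralLinearGroup.scalar (Fin n) x.1 * GeneralLinearGroup.map (fixK σ).subtype x.2
  map_one' := by simp
  map_mul' x y := by
    simp only [Prod.fst_mul, Prod.snd_mul, map_mul]
    have h : Commute (GeneralLinearGroup.scalar (Fin n) y.1)
        (GeneralLinearGroup.map (fixK σ).subtype x.2) :=
      GeneralLinearGroup.scalar_commute y.1 _
    exact h.mul_mul_mul_comm _ _

theorem Phi_val (n : ℕ) (σ : F ≃+* F) (u : Fˣ) (h : GL (Fin n) (fixK σ)) :
    ((Phi n σ (u, h) : GL (Fin n) F) : Matrix (Fin n) (Fin n) F) =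
      (u : F) • (h : Matrix (Fin n) (Fin n) (fixK σ)).map (fixK σ).subtype := by
  show ((GeneralLinearGroup.scalar (Fin n) u * GeneralLinearGroup.map (fixK σ).subtype h : GL (Fin n) F) :
    Matrix (Fin n) (Fin n) F) = _
  rw [Units.val_mul, GeneralLinearGroup.coe_scalar]
  ext a b
  simp [Matrix.scalar_apply, Matrix.diagonal_mul]

theorem mem_range_Phi (n : ℕ) (hn : 1 ≤ n) (σ : F ≃+* F) (g : GL (Fin n) F) :
    g ∈ (Phi n σ).range ↔ ∃ c : F, c ≠ 0 ∧
      (g : Matrix (Fin n) (Fin n) F).map σ = c • (g : Matrix (Fin n) (Fin n) F) := by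
  constructor
  · rintro ⟨⟨u, h⟩, rfl⟩
    refine ⟨σ u * (u : F)⁻¹, by simp, ?_⟩
    rw [Phi_val]
    ext a b
    simp only [Matrix.map_apply, Matrix.smul_apply, smul_eq_mul, map_mul]
    have : σ ((h : Matrix _ _ (fixK σ)) a b : F) = (h.1 a b : F) := (mem_fixK σ _).1 (h.1 a b).2
    rw [Subfield.coe_subtype, this]
    have hu : (u : F) ≠ 0 := u.ne_zero
    field_simp
  · rintro ⟨c, hc, hg⟩
    have hex : ∃ i j, g.1 i j ≠ 0 := by
      by_contra hcon
      push Not at hcon
      have h0 : g.1 = 0 := by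
        ext a b
        exact hcon a b
      have hdet := GeneralLinearGroup.det_ne_zero g
      rw [h0] at hdet
      haveI : Nonempty (Fin n) := ⟨⟨0, hn⟩⟩
      exact hdet Matrix.det_zero
    obtain ⟨i, j, hx⟩ := hex
    have hent : ∀ a b, σ (g.1 a b) = c * g.1 a b := by
      intro a b
      have := congrFun (congrFun hg a) b
      simpa using this
    have hσx := hent i j
    let h₀ : Matrix (Fin n) (Fin n) (fixK σ) := fun a b => ⟨(g.1 i j)⁻¹ * g.1 a b, by
      rw [mem_fixK, map_mul, map_inv₀, hσx, hent a b]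
      field_simp⟩
    have hmap : h₀.map (fixK σ).subtype = (g.1 i j)⁻¹ • g.1 := by
      ext a b
      rfl
    have hdet : h₀.det ≠ 0 := by
      intro h0
      have := congrArg (fixK σ).subtype h0
      rw [RingHom.map_det, map_zero, RingHom.mapMatrix_apply, hmap, Matrix.det_smul] at this
      have hdet := GeneralLinearGroup.det_ne_zero g
      have h2 : ((g.1 i j)⁻¹) ^ Fintype.card (Fin n) ≠ 0 := pow_ne_zero _ (inv_ne_zero hx)
      exact (mul_ne_zero h2 hdet) this
    refine ⟨(Units.mk0 (g.1 i j) hx, GeneralLinearGroup.mkOfDetNeZero h₀ hdet), ?_⟩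
    apply Units.ext
    rw [Phi_val]
    show (g.1 i j) • h₀.map (fixK σ).subtype = g.1
    rw [hmap, smul_smul, mul_inv_cancel₀ hx, one_smul]

theorem ker_mem (n : ℕ) (σ : F ≃+* F) (ν : (fixK σ)ˣ) :
    ((Units.map (fixK σ).subtype.toMonoidHom ν)⁻¹, GeneralLinearGroup.scalar (Fin n) ν) ∈
      (Phi n σ).ker := by
  rw [MonoidHom.mem_ker]
  apply Units.ext
  rw [Phi_val]
  ext a b
  have hν : ((ν : fixK σ) : F) ≠ 0 := by
    intro h
    exact ν.ne_zero (Subtype.ext h)
  by_cases hab : a = b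
  · subst hab
    simp [Matrix.scalar_apply, hν]
  · simp [Matrix.scalar_apply, hab]

theorem card_ker_Phi (n : ℕ) (hn : 1 ≤ n) (σ : F ≃+* F) :
    Nat.card (Phi n σ).ker = Nat.card (fixK σ) - 1 := by
  rw [← Nat.card_units]
  symm
  apply Nat.card_congr
  refine Equiv.ofBijective (fun ν => ⟨_, ker_mem n σ ν⟩) ⟨?_, ?_⟩
  · intro ν ν' h
    have h1 := congrArg (fun x => x.1.1) h
    simp only [_root_.inv_inj] at h1
    have hinj : Function.Injective (Units.map (fixK σ).subtype.toMonoidHom) :=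
      Units.map_injective (fixK σ).subtype_injective
    exact hinj h1
  · rintro ⟨⟨u, h⟩, hk⟩
    rw [MonoidHom.mem_ker] at hk
    have hk' := congrArg (fun g : GL (Fin n) F => (g : Matrix (Fin n) (Fin n) F)) hk
    simp only [Phi_val] at hk'
    have hent : ∀ a b, (u : F) * ((h.1 a b : fixK σ) : F) = (1 : Matrix (Fin n) (Fin n) F) a b := by
      intro a b
      have := congrFun (congrFun hk' a) b
      simpa using this
    let a₀ : Fin n := ⟨0, hn⟩
    have h00 := hent a₀ a₀
    rw [Matrix.one_apply_eq] at h00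
    have hne : h.1 a₀ a₀ ≠ 0 := by
      intro h0
      rw [h0] at h00
      simp at h00
    refine ⟨Units.mk0 (h.1 a₀ a₀) hne, ?_⟩
    apply Subtype.ext
    apply Prod.ext
    · apply Units.ext
      show ((h.1 a₀ a₀ : fixK σ) : F)⁻¹ = (u : F)
      exact (eq_inv_of_mul_eq_one_left h00).symm
    · apply Units.ext
      apply Matrix.ext
      intro a b
      show ((GeneralLinearGroup.scalar (Fin n) (Units.mk0 (h.1 a₀ a₀) hne) : GL (Fin n) (fixK σ)) :
        Matrix (Fin n) (Fin n) (fixK σ)) a b = h.1 a b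
      rw [GeneralLinearGroup.coe_scalar, Matrix.scalar_apply]
      have hu : (u : F) ≠ 0 := u.ne_zero
      by_cases hab : a = b
      · subst hab
        rw [Matrix.diagonal_apply_eq]
        have h1 := hent a a
        rw [Matrix.one_apply_eq] at h1
        apply Subtype.ext
        apply mul_left_cancel₀ hu
        rw [h1]
        exact h00
      · rw [Matrix.diagonal_apply_ne _ hab]
        have h1 := hent a b
        rw [Matrix.one_apply_ne hab] at h1
        have := (mul_eq_zero.1 h1).resolve_left hu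
        apply Subtype.ext
        exact this.symm

theorem main {q₀ r n : ℕ} (hr : r.Prime) (hn : 1 ≤ n) (hF : Fintype.card F = q₀ ^ r)
    (σ : F ≃+* F) (hσ : orderOf σ = r) :
    Nat.card {g : GL (Fin n) F // ∃ c : F, c ≠ 0 ∧ (g : Matrix (Fin n) (Fin n) F).map σ = c • (g : Matrix (Fin n) (Fin n) F)} = (q₀ ^ r - 1) / (q₀ - 1) * ∏ i : Fin n, (q₀ ^ n - q₀ ^ (i : ℕ)) := by
  classical
  have hK := card_fixK σ hr hF hσ
  have h1 : Nat.card {g : GL (Fin n) F // ∃ c : F, c ≠ 0 ∧ (g : Matrix (Fin n) (Fin n) F).map σ = c • (g : Matrix (Fin n) (Fin n) F)} = Nat.card (Phi n σ).range := by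
    apply Nat.card_congr
    exact Equiv.subtypeEquivRight (fun g => (mem_range_Phi n hn σ g).symm)
  have h2 := Subgroup.card_mul_index (Phi n σ).ker
  haveI : Fintype (fixK σ) := Fintype.ofFinite _
  rw [Subgroup.index_ker, card_ker_Phi n hn σ, hK, Nat.card_prod, Nat.card_units,
    Nat.card_eq_fintype_card (α := F), hF, Matrix.card_GL_field, ← Nat.card_eq_fintype_card, hK] at h2
  rw [h1]
  obtain ⟨m, hm⟩ : q₀ - 1 ∣ q₀ ^ r - 1 := by simpa only [one_pow] using Nat.sub_dvd_pow_sub_pow q₀ 1 r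
  have hq : 0 < q₀ - 1 := by
    have : 1 < Nat.card (fixK σ) := Finite.one_lt_card
    omega
  rw [hm, Nat.mul_div_cancel_left _ hq]
  rw [hm, mul_assoc] at h2
  exact Nat.eq_of_mul_eq_mul_left hq h2

end Cfsg.Agent.Lib.Helper4_FieldAutCent
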