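-- helper9: counting vectors of given norm for the standard Hermitian form over a field of order q^2.
import Mathlib
import Cfsg.Prelude.Def_Classical

set_option autoImplicit false

namespace Cfsg.Agent.Helper9HermCount

open Finset Polynomial

variable {F : Type*} [Field F] [Fintype F] [DecidableEq F] {q : ℕ}

lemma q_ge_two (hF : Fintype.card F = q ^ 2) : 2 ≤ q := by
  by_contra h
  push Not at h
  have h1 : 1 < Fintype.card F := Fintype.one_lt_card
  interval_cases q <;> omega

lemma exists_char_pow (hF : Fintype.card F = q ^ 2) :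
    ∃ p j : ℕ, p.Prime ∧ CharP F p ∧ q = p ^ j := by
  obtain ⟨p, hp⟩ := CharP.exists F
  have hpp : p.Prime := CharP.char_is_prime F p
  have : Fact p.Prime := ⟨hpp⟩
  obtain ⟨n, -, hn⟩ := FiniteField.card F p
  have hq : q ∣ p ^ (n : ℕ) := by
    rw [← hn, hF]; exact dvd_pow_self q two_ne_zero
  obtain ⟨j, -, hj⟩ := (Nat.dvd_prime_pow hpp).1 hq
  exact ⟨p, j, hpp, hp, hj⟩

lemma add_pow_q (hF : Fintype.card F = q ^ 2) (a b : F) : (a + b) ^ q = a ^ q + b ^ q := by
  obtain ⟨p, j, hpp, hp, rfl⟩ := exists_char_pow hF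
  have : Fact p.Prime := ⟨hpp⟩
  exact add_pow_char_pow a b p j

lemma sub_pow_q (hF : Fintype.card F = q ^ 2) (a b : F) : (a - b) ^ q = a ^ q - b ^ q := by
  obtain ⟨p, j, hpp, hp, rfl⟩ := exists_char_pow hF
  have : Fact p.Prime := ⟨hpp⟩
  exact sub_pow_char_pow a b j

lemma pow_q_sq (hF : Fintype.card F = q ^ 2) (x : F) : x ^ (q ^ 2) = x := by
  rw [← hF]; exact FiniteField.pow_card x

lemma norm_fixed (hF : Fintype.card F = q ^ 2) (x : F) : (x ^ (q + 1)) ^ q = x ^ (q + 1) := by
  rw [← pow_mul, show (q + 1) * q = q ^ 2 + q by ring, pow_add, pow_q_sq hF, pow_succ, mul_comm]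

/-- The fixed field of `x ↦ x^q`, as a finset. -/
noncomputable def S (F : Type*) [Field F] [Fintype F] (q : ℕ) : Finset F :=
  @Finset.filter F (fun y => y ^ q = y) (Classical.decPred _) univ

/-- The fibre of the norm map `x ↦ x^(q+1)`. -/
noncomputable def fiber (q : ℕ) (c : F) : Finset F :=
  @Finset.filter F (fun x => x ^ (q + 1) = c) (Classical.decPred _) univ

lemma mem_S {y : F} : y ∈ S F q ↔ y ^ q = y := by simp [S]

lemma mem_fiber {c x : F} : x ∈ fiber q c ↔ x ^ (q + 1) = c := by simp [fiber]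

lemma fiber_card_le (c : F) : (fiber q c).card ≤ q + 1 := by
  classical
  have h : fiber q c ⊆ nthRootsFinset (q + 1) c := by
    intro x hx
    rw [mem_nthRootsFinset (Nat.succ_pos q)]
    exact mem_fiber.1 hx
  calc _ ≤ (nthRootsFinset (q + 1) c).card := card_le_card h
    _ ≤ q + 1 := by
      rw [nthRootsFinset_def]
      exact (Multiset.toFinset_card_le _).trans (card_nthRoots _ _)

lemma S_erase_card_le (hq : 2 ≤ q) : ((S F q).erase 0).card ≤ q - 1 := by
  classical
  have h : (S F q).erase 0 ⊆ nthRootsFinset (q - 1) (1 : F) := by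
    intro y hy
    rw [mem_erase] at hy
    rw [mem_nthRootsFinset (by omega)]
    have h2 : y ^ q = y := mem_S.1 hy.2
    have : y * y ^ (q - 1) = y * 1 := by
      rw [← pow_succ', show q - 1 + 1 = q by omega, h2, mul_one]
    exact mul_left_cancel₀ hy.1 this
  calc _ ≤ (nthRootsFinset (q - 1) (1 : F)).card := card_le_card h
    _ ≤ q - 1 := by
      rw [nthRootsFinset_def]
      exact (Multiset.toFinset_card_le _).trans (card_nthRoots _ _)

lemma fiber_zero : fiber q (0 : F) = {0} := by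
  ext x
  rw [mem_fiber, mem_singleton]
  constructor
  · intro h; exact pow_eq_zero_iff (Nat.succ_ne_zero q) |>.1 h
  · rintro rfl; exact zero_pow (Nat.succ_ne_zero q)

lemma counts (hF : Fintype.card F = q ^ 2) :
    (∀ c ∈ (S F q).erase 0, (fiber q c).card = q + 1) ∧ ((S F q).erase 0).card = q - 1 := by
  classical
  have hq := q_ge_two hF
  set T := (S F q).erase (0 : F) with hT
  have hmaps : ∀ x ∈ (univ : Finset F).erase 0, x ^ (q + 1) ∈ T := by
    intro x hx
    rw [mem_erase] at hx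
    rw [hT, mem_erase, mem_S]
    exact ⟨pow_ne_zero _ hx.1, norm_fixed hF x⟩
  have h1 := card_eq_sum_card_fiberwise hmaps
  have h2 : ∀ d ∈ T, (((univ : Finset F).erase 0).filter (fun x => x ^ (q + 1) = d)) = fiber q d := by
    intro d hd
    rw [hT, mem_erase] at hd
    ext x
    simp only [mem_filter, mem_erase, mem_univ, and_true, mem_fiber]
    constructor
    · exact fun h => h.2
    · intro h
      refine ⟨?_, h⟩
      rintro rfl
      rw [zero_pow (Nat.succ_ne_zero q)] at h
      exact hd.1 h.symm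
  rw [sum_congr rfl (fun d hd => by rw [h2 d hd])] at h1
  rw [card_erase_of_mem (mem_univ _), card_univ, hF] at h1
  have h3 : ∑ d ∈ T, (fiber q d).card ≤ ∑ d ∈ T, (q + 1) :=
    sum_le_sum (fun d _ => fiber_card_le d)
  have h4 : ∑ d ∈ T, (q + 1) = T.card * (q + 1) := by rw [sum_const, smul_eq_mul]
  have h5 : T.card ≤ q - 1 := S_erase_card_le hq
  have h6 : (q - 1) * (q + 1) = q ^ 2 - 1 := by
    obtain ⟨k, rfl⟩ : ∃ k, q = k + 1 := ⟨q - 1, by omega⟩
    simp only [Nat.add_sub_cancel]
    have : (k + 1) ^ 2 = k * (k + 1 + 1) + 1 := by ring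
    rw [this, Nat.add_sub_cancel]
  have h7 : T.card * (q + 1) ≤ (q - 1) * (q + 1) := Nat.mul_le_mul_right _ h5
  have h8 : T.card * (q + 1) = (q - 1) * (q + 1) := by
    apply le_antisymm h7
    rw [h6, h1, ← h4]; exact h3
  have h9 : T.card = q - 1 := Nat.eq_of_mul_eq_mul_right (Nat.succ_pos q) h8
  refine ⟨?_, h9⟩
  have h10 : ∑ d ∈ T, (fiber q d).card = ∑ d ∈ T, (q + 1) := by
    rw [h4, h8, h6, h1]
  exact (sum_eq_sum_iff_of_le (fun d _ => fiber_card_le d)).1 h10

lemma zero_mem_S (hF : Fintype.card F = q ^ 2) : (0 : F) ∈ S F q := by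
  rw [mem_S]; exact zero_pow (by have := q_ge_two hF; omega)

lemma one_mem_S : (1 : F) ∈ S F q := by
  rw [mem_S]; exact one_pow q

lemma S_card (hF : Fintype.card F = q ^ 2) : (S F q).card = q := by
  classical
  have h := (counts hF).2
  have := q_ge_two hF
  rw [card_erase_of_mem (zero_mem_S hF)] at h
  have hpos : 0 < (S F q).card := card_pos.2 ⟨0, zero_mem_S hF⟩
  omega

lemma add_mem_S (hF : Fintype.card F = q ^ 2) {a b : F} (ha : a ∈ S F q) (hb : b ∈ S F q) :
    a + b ∈ S F q := by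
  rw [mem_S] at *
  rw [add_pow_q hF, ha, hb]

lemma sub_mem_S (hF : Fintype.card F = q ^ 2) {a b : F} (ha : a ∈ S F q) (hb : b ∈ S F q) :
    a - b ∈ S F q := by
  rw [mem_S] at *
  rw [sub_pow_q hF, ha, hb]

lemma herm_mem_S (hF : Fintype.card F = q ^ 2) (n : ℕ) (v : Fin n → F) :
    Cfsg.hermForm n F q v v ∈ S F q := by
  unfold Cfsg.hermForm
  apply Finset.sum_induction _ (fun y => y ∈ S F q) (fun a b => add_mem_S hF) (zero_mem_S hF)
  intro i _
  rw [← pow_succ']
  exact mem_S.2 (norm_fixed hF (v i))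

/-- Number of vectors of norm `c`. -/
noncomputable def A (F : Type*) [Field F] [Fintype F] (q n : ℕ) (c : F) : ℕ :=
  Nat.card {v : Fin n → F // Cfsg.hermForm n F q v v = c}

lemma herm_succ (n : ℕ) (w : Fin (n + 1) → F) :
    Cfsg.hermForm (n + 1) F q w w = (w 0) ^ (q + 1) + Cfsg.hermForm n F q (Fin.tail w) (Fin.tail w) := by
  unfold Cfsg.hermForm
  rw [Fin.sum_univ_succ, ← pow_succ']
  rfl

/-- Splitting off the first coordinate. -/
def splitEquiv (n : ℕ) (c : F) :
    {w : Fin (n + 1) → F // Cfsg.hermForm (n + 1) F q w w = c} ≃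
      Σ x : F, {v : Fin n → F // Cfsg.hermForm n F q v v = c - x ^ (q + 1)} where
  toFun w := ⟨w.1 0, Fin.tail w.1, by
    have := w.2
    rw [herm_succ] at this
    linear_combination this⟩
  invFun p := ⟨Fin.cons p.1 p.2.1, by
    rw [herm_succ, Fin.cons_zero, Fin.tail_cons, p.2.2]; ring⟩
  left_inv w := Subtype.ext (Fin.cons_self_tail w.1)
  right_inv := fun ⟨_, _, _⟩ => rfl

lemma A_succ (n : ℕ) (c : F) : A F q (n + 1) c = ∑ x : F, A F q n (c - x ^ (q + 1)) := by
  unfold A
  rw [Nat.card_congr (splitEquiv n c), Nat.card_sigma]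

lemma A_total (hF : Fintype.card F = q ^ 2) (n : ℕ) : ∑ e ∈ S F q, A F q n e = q ^ (2 * n) := by
  classical
  have h1 := card_eq_sum_card_fiberwise (s := (univ : Finset (Fin n → F))) (t := S F q)
    (f := fun v => Cfsg.hermForm n F q v v) (fun v _ => herm_mem_S hF n v)
  rw [card_univ, Fintype.card_fun, Fintype.card_fin, hF, ← pow_mul] at h1
  rw [h1]
  apply sum_congr rfl
  intro e _
  unfold A
  rw [Nat.card_eq_fintype_card, Fintype.card_subtype]

lemma A_rec (hF : Fintype.card F = q ^ 2) (n : ℕ) {c : F} (hc : c ∈ S F q) :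
    A F q (n + 1) c + q * A F q n c = (q + 1) * q ^ (2 * n) := by
  classical
  rw [A_succ]
  have h1 := sum_fiberwise_of_maps_to (s := (univ : Finset F)) (t := S F q)
    (g := fun x => x ^ (q + 1)) (fun x _ => mem_S.2 (norm_fixed hF x))
    (fun x => A F q n (c - x ^ (q + 1)))
  rw [← h1]
  have h2 : ∀ d ∈ S F q, ∑ x ∈ univ with x ^ (q + 1) = d, A F q n (c - x ^ (q + 1))
      = (fiber q d).card * A F q n (c - d) := by
    intro d _
    rw [← smul_eq_mul, ← sum_const]
    apply sum_congr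
    · ext x; simp only [mem_filter, mem_univ, true_and, mem_fiber]
    · intro x hx
      rw [mem_fiber.1 hx]
  rw [sum_congr rfl h2, ← add_sum_erase _ _ (zero_mem_S hF), fiber_zero, card_singleton, sub_zero,
    one_mul]
  have h3 : ∀ d ∈ (S F q).erase 0, (fiber q d).card * A F q n (c - d) = (q + 1) * A F q n (c - d) := by
    intro d hd
    rw [(counts hF).1 d hd]
  rw [sum_congr rfl h3, ← mul_sum]
  have h4 : ∑ d ∈ S F q, A F q n (c - d) = ∑ e ∈ S F q, A F q n e := by
    apply sum_nbij' (fun d => c - d) (fun e => c - e)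
    · intro d hd; exact sub_mem_S hF hc hd
    · intro e he; exact sub_mem_S hF hc he
    · intro d _; simp
    · intro e _; simp
    · intro d _; rfl
  have h5 := add_sum_erase (S F q) (fun d => A F q n (c - d)) (zero_mem_S hF)
  rw [sub_zero, h4, A_total hF] at h5
  rw [← h5]
  ring

lemma A_zero (c : F) : A F q 0 c = if c = 0 then 1 else 0 := by
  unfold A
  split_ifs with h
  · subst h
    have : Unique {v : Fin 0 → F // Cfsg.hermForm 0 F q v v = 0} :=
      { default := ⟨fun i => i.elim0, by simp [Cfsg.hermForm]⟩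
        uniq := fun v => Subtype.ext (Subsingleton.elim _ _) }
    exact Nat.card_unique
  · have : IsEmpty {v : Fin 0 → F // Cfsg.hermForm 0 F q v v = c} := by
      constructor
      rintro ⟨v, hv⟩
      apply h
      rw [← hv]; simp [Cfsg.hermForm]
    exact Nat.card_of_isEmpty

/-- `q * (number of norm-one vectors) = q^n (q^n - (-1)^n)`. -/
lemma A_one (hF : Fintype.card F = q ^ 2) (n : ℕ) :
    (q : ℤ) * A F q n 1 = (q : ℤ) ^ n * ((q : ℤ) ^ n - (-1) ^ n) := by
  induction n with
  | zero =>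
    rw [A_zero, if_neg (one_ne_zero : (1 : F) ≠ 0)]; simp
  | succ n ih =>
    have h := A_rec hF n (one_mem_S (F := F) (q := q))
    have h' : (A F q (n + 1) 1 : ℤ) + q * A F q n 1 = (q + 1) * (q : ℤ) ^ (2 * n) := by
      exact_mod_cast h
    have : (A F q (n + 1) 1 : ℤ) = (q + 1) * (q : ℤ) ^ (2 * n) - q * A F q n 1 := by linarith
    rw [this, ih]
    ring

/-- `q * (number of norm-zero vectors) = q^(2n) + (-1)^n (q-1) q^n`. -/
lemma A_null (hF : Fintype.card F = q ^ 2) (n : ℕ) :
    (q : ℤ) * A F q n 0 = (q : ℤ) ^ (2 * n) + (-1) ^ n * ((q : ℤ) - 1) * (q : ℤ) ^ n := by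
  induction n with
  | zero =>
    rw [A_zero, if_pos rfl]; simp
  | succ n ih =>
    have h := A_rec hF n (zero_mem_S hF)
    have h' : (A F q (n + 1) 0 : ℤ) + q * A F q n 0 = (q + 1) * (q : ℤ) ^ (2 * n) := by
      exact_mod_cast h
    have : (A F q (n + 1) 0 : ℤ) = (q + 1) * (q : ℤ) ^ (2 * n) - q * A F q n 0 := by linarith
    rw [this, ih]
    ring

end Cfsg.Agent.Helper9HermCount
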