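-- helper9: the order of the general unitary group, by counting orthonormal frames.
import Mathlib
import Cfsg.Prelude.Def_LieClassical
import Cfsg.Agent.Lib.Helper1_Herm
import Cfsg.Agent.Lib.Helper9_HermCount

set_option autoImplicit false

namespace Cfsg.Agent.Helper9GUOrder

open Finset Cfsg Cfsg.Agent.Helper9HermCount

variable {F : Type*} [Field F] [Fintype F] [DecidableEq F] {q : ℕ} {n : ℕ}

local notation "HF" => Cfsg.Agent.Lib.Helper1_Herm.hermForm_add_left

/-- `x ↦ h x w` as a linear map. -/
def hL (n : ℕ) (q : ℕ) (w : Fin n → F) : (Fin n → F) →ₗ[F] F where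
  toFun x := hermForm n F q x w
  map_add' x y := Cfsg.Agent.Lib.Helper1_Herm.hermForm_add_left x y w
  map_smul' a x := by
    rw [Cfsg.Agent.Lib.Helper1_Herm.hermForm_smul_left]; rfl

lemma hL_apply (w x : Fin n → F) : hL n q w x = hermForm n F q x w := rfl

lemma herm_sum_left {ι : Type*} (s : Finset ι) (c : ι → F) (v : ι → Fin n → F) (w : Fin n → F) :
    hermForm n F q (∑ i ∈ s, c i • v i) w = ∑ i ∈ s, c i * hermForm n F q (v i) w := by
  rw [← hL_apply, map_sum]
  apply sum_congr rfl
  intro i _
  rw [map_smul, hL_apply, smul_eq_mul]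

lemma herm_sum_right (hF : Fintype.card F = q ^ 2) {ι : Type*} (s : Finset ι) (c : ι → F)
    (v : ι → Fin n → F) (w : Fin n → F) :
    hermForm n F q w (∑ i ∈ s, c i • v i) = ∑ i ∈ s, c i ^ q * hermForm n F q w (v i) := by
  rw [← Cfsg.Agent.Lib.Helper1_Herm.hermForm_conj hF, herm_sum_left,
    Cfsg.Agent.Lib.Helper1_Herm.sum_pow_q hF]
  apply sum_congr rfl
  intro i _
  rw [mul_pow, Cfsg.Agent.Lib.Helper1_Herm.hermForm_conj hF]

lemma herm_sub_left (u u' v : Fin n → F) :
    hermForm n F q (u - u') v = hermForm n F q u v - hermForm n F q u' v := by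
  rw [← hL_apply, map_sub, hL_apply, hL_apply]

lemma herm_zero_left (v : Fin n → F) : hermForm n F q 0 v = 0 := by
  rw [← hL_apply, map_zero]

lemma herm_zero_right (hF : Fintype.card F = q ^ 2) (v : Fin n → F) : hermForm n F q v 0 = 0 := by
  rw [← Cfsg.Agent.Lib.Helper1_Herm.hermForm_conj hF, herm_zero_left]
  exact zero_pow (by have := q_ge_two hF; omega)

lemma herm_single (hq : q ≠ 0) (u : Fin n → F) (i : Fin n) :
    hermForm n F q u (Pi.single i 1) = u i := by
  unfold hermForm
  rw [Finset.sum_eq_single i]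
  · simp
  · intro j _ hj
    rw [Pi.single_eq_of_ne hj, zero_pow hq, mul_zero]
  · intro h; exact absurd (mem_univ i) h

lemma herm_nondeg (hq : q ≠ 0) (u : Fin n → F) (hu : ∀ z, hermForm n F q u z = 0) : u = 0 := by
  funext i
  rw [← herm_single hq u i, hu]; rfl

/-- Orthonormal families. -/
def IsON {ι : Type*} [DecidableEq ι] (n q : ℕ) (v : ι → Fin n → F) : Prop :=
  ∀ i j, hermForm n F q (v i) (v j) = if i = j then 1 else 0

lemma li_of_ON {ι : Type*} [DecidableEq ι] [Fintype ι] (v : ι → Fin n → F) (hv : IsON n q v) :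
    LinearIndependent F v := by
  rw [Fintype.linearIndependent_iff]
  intro g hg j
  have hv' : ∀ i j, hermForm n F q (v i) (v j) = if i = j then 1 else 0 := hv
  have := congrArg (fun x => hermForm n F q x (v j)) hg
  simp only [herm_sum_left, hv', herm_zero_left] at this
  simpa using this

/-- the projection-type expansion coefficient kills the family -/
lemma proj_perp {ι : Type*} [DecidableEq ι] [Fintype ι] (v : ι → Fin n → F) (hv : IsON n q v)
    (z : Fin n → F) (j : ι) :
    hermForm n F q (z - ∑ i, hermForm n F q z (v i) • v i) (v j) = 0 := by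
  have hv' : ∀ i j, hermForm n F q (v i) (v j) = if i = j then 1 else 0 := hv
  rw [herm_sub_left, herm_sum_left]
  simp only [hv', mul_ite, mul_one, mul_zero, Finset.sum_ite_eq', Finset.mem_univ, if_true, sub_self]

/-- Extending an orthonormal family by one more vector. -/
lemma ext_frame (hF : Fintype.card F = q ^ 2) {ι : Type*} [DecidableEq ι] [Fintype ι]
    (v : ι → Fin n → F) (hv : IsON n q v) (hk : Fintype.card ι < n) :
    ∃ u : Fin n → F, hermForm n F q u u = 1 ∧ ∀ j, hermForm n F q u (v j) = 0 := by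
  have hq := q_ge_two hF
  have hq0 : q ≠ 0 := by omega
  have hconj := Cfsg.Agent.Lib.Helper1_Herm.hermForm_conj hF (n := n)
  have hli := li_of_ON v hv
  let proj : (Fin n → F) → (Fin n → F) := fun z => ∑ i, hermForm n F q z (v i) • v i
  have hprojperp : ∀ z j, hermForm n F q (z - proj z) (v j) = 0 := fun z j => proj_perp v hv z j
  have hspan : Submodule.span F (Set.range v) ≠ ⊤ := by
    intro htop
    have h1 := finrank_span_eq_card hli
    rw [htop, finrank_top, Module.finrank_fin_fun] at h1
    omega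
  obtain ⟨w, hw⟩ : ∃ w, w ∉ Submodule.span F (Set.range v) := by
    by_contra hcon
    push Not at hcon
    exact hspan (eq_top_iff.2 fun x _ => hcon x)
  have hprojmem : ∀ z, proj z ∈ Submodule.span F (Set.range v) := by
    intro z
    apply Submodule.sum_mem
    intro i _
    exact Submodule.smul_mem _ _ (Submodule.subset_span ⟨i, rfl⟩)
  obtain ⟨u₀, hu₀⟩ : ∃ u₀, u₀ = w - proj w := ⟨_, rfl⟩
  have hu₀ne : u₀ ≠ 0 := by
    intro h0
    rw [hu₀, sub_eq_zero] at h0
    exact hw (h0 ▸ hprojmem w)
  have hu₀perp : ∀ j, hermForm n F q u₀ (v j) = 0 := fun j => hu₀ ▸ hprojperp w j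
  have hperp_symm : ∀ u j, hermForm n F q u (v j) = 0 → hermForm n F q (v j) u = 0 := by
    intro u j h
    rw [← hconj, h, zero_pow hq0]
  obtain ⟨u, huperp, huu⟩ : ∃ u, (∀ j, hermForm n F q u (v j) = 0) ∧ hermForm n F q u u ≠ 0 := by
    by_contra hcon
    push Not at hcon
    have hzero : ∀ u u', (∀ j, hermForm n F q u (v j) = 0) → (∀ j, hermForm n F q u' (v j) = 0) →
        hermForm n F q u u' = 0 := by
      intro u u' hu hu'
      obtain ⟨a, ha⟩ : ∃ a : F, a ^ q ≠ a := by
        by_contra h
        push Not at h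
        have h1 : (S F q).card = Fintype.card F := by
          rw [← Finset.card_univ]; congr 1
          ext y; simp [mem_S, h y]
        rw [S_card hF, hF] at h1
        nlinarith
      have hsum : ∀ t : F, hermForm n F q (u + t • u') (u + t • u') = 0 := by
        intro t
        apply hcon
        intro j
        rw [Cfsg.Agent.Lib.Helper1_Herm.hermForm_add_left,
          Cfsg.Agent.Lib.Helper1_Herm.hermForm_smul_left, hu j, hu' j, mul_zero, add_zero]
      have e1 : ∀ t : F, t ^ q * hermForm n F q u u' + t * hermForm n F q u' u = 0 := by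
        intro t
        have := hsum t
        simp only [Cfsg.Agent.Lib.Helper1_Herm.hermForm_add_left,
          Cfsg.Agent.Lib.Helper1_Herm.hermForm_add_right hF,
          Cfsg.Agent.Lib.Helper1_Herm.hermForm_smul_left,
          Cfsg.Agent.Lib.Helper1_Herm.hermForm_smul_right] at this
        rw [hcon u hu, hcon u' hu'] at this
        linear_combination this
      have e2 := e1 1
      have e3 := e1 a
      rw [one_pow, one_mul, one_mul] at e2
      have e4 : (a ^ q - a) * hermForm n F q u u' = 0 := by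
        linear_combination e3 - a * e2
      rcases mul_eq_zero.1 e4 with h | h
      · exact absurd (sub_eq_zero.1 h) ha
      · exact h
    apply hu₀ne
    apply herm_nondeg hq0
    intro z
    have hz : z = proj z + (z - proj z) := by abel
    rw [hz, Cfsg.Agent.Lib.Helper1_Herm.hermForm_add_right hF]
    have h1 : hermForm n F q u₀ (z - proj z) = 0 := hzero _ _ hu₀perp (hprojperp z)
    have h2 : hermForm n F q u₀ (proj z) = 0 := by
      simp only [proj]
      rw [herm_sum_right hF]
      apply Finset.sum_eq_zero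
      intro i _
      rw [hu₀perp i, mul_zero]
    rw [h1, h2, add_zero]
  -- normalise
  have hc : hermForm n F q u u ∈ S F q := herm_mem_S hF n u
  have hcinv : (hermForm n F q u u)⁻¹ ∈ (S F q).erase 0 := by
    rw [mem_erase, mem_S, inv_pow, mem_S.1 hc]
    exact ⟨inv_ne_zero huu, rfl⟩
  have hcard := (counts hF).1 _ hcinv
  obtain ⟨a, ha⟩ : (fiber q (hermForm n F q u u)⁻¹).Nonempty := by
    rw [← Finset.card_pos, hcard]; omega
  rw [mem_fiber] at ha
  refine ⟨a • u, ?_, ?_⟩
  · rw [Cfsg.Agent.Lib.Helper1_Herm.hermForm_smul_left,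
      Cfsg.Agent.Lib.Helper1_Herm.hermForm_smul_right, ← mul_assoc, ← pow_succ', ha,
      inv_mul_cancel₀ huu]
  · intro j
    rw [Cfsg.Agent.Lib.Helper1_Herm.hermForm_smul_left, huperp j, mul_zero]

lemma herm_perp_symm (hF : Fintype.card F = q ^ 2) (u w : Fin n → F)
    (h : hermForm n F q u w = 0) : hermForm n F q w u = 0 := by
  rw [← Cfsg.Agent.Lib.Helper1_Herm.hermForm_conj hF, h]
  exact zero_pow (by have := q_ge_two hF; omega)

lemma complete_frame (hF : Fintype.card F = q ^ 2) {k : ℕ} (v : Fin k → Fin n → F)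
    (hv : IsON n q v) :
    ∀ m, k + m ≤ n → ∃ u : Fin m → Fin n → F, IsON n q u ∧
      ∀ i j, hermForm n F q (u i) (v j) = 0 := by
  intro m
  induction m with
  | zero => intro _; exact ⟨Fin.elim0, fun i => i.elim0, fun i => i.elim0⟩
  | succ m ih =>
    intro hm
    obtain ⟨u, hu, huv⟩ := ih (by omega)
    have hcomb : IsON n q (Sum.elim v u) := by
      rintro (i | i) (j | j)
      · simpa using hv i j
      · simpa using herm_perp_symm hF _ _ (huv j i)
      · simpa using huv i j
      · simpa using hu i j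
    obtain ⟨w, hw1, hw2⟩ := ext_frame hF (Sum.elim v u) hcomb (by
      rw [Fintype.card_sum, Fintype.card_fin, Fintype.card_fin]; omega)
    refine ⟨Fin.cons w u, ?_, ?_⟩
    · intro i j
      refine Fin.cases ?_ (fun i => ?_) i <;> refine Fin.cases ?_ (fun j => ?_) j
      · simpa using hw1
      · simpa [Fin.succ_ne_zero, (Fin.succ_ne_zero j).symm] using hw2 (Sum.inr j)
      · simpa [Fin.succ_ne_zero] using herm_perp_symm hF _ _ (hw2 (Sum.inr i))
      · simpa using hu i j
    · intro i j
      refine Fin.cases ?_ (fun i => ?_) i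
      · simpa using hw2 (Sum.inl j)
      · simpa using huv i j

/-- Expansion in a full orthonormal family. -/
lemma expand_full (hF : Fintype.card F = q ^ 2) {ι : Type*} [DecidableEq ι] [Fintype ι]
    (f : ι → Fin n → F) (hf : IsON n q f) (hcard : Fintype.card ι = n) (w : Fin n → F) :
    w = ∑ i, hermForm n F q w (f i) • f i := by
  have hq := q_ge_two hF
  have hq0 : q ≠ 0 := by omega
  have hli := li_of_ON f hf
  have hspan := hli.span_eq_top_of_card_eq_finrank' (by rw [hcard, Module.finrank_fin_fun])
  rw [← sub_eq_zero]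
  apply herm_nondeg hq0
  intro z
  have hz : z ∈ Submodule.span F (Set.range f) := by rw [hspan]; trivial
  obtain ⟨c, rfl⟩ := Submodule.mem_span_range_iff_exists_fun F |>.1 hz
  rw [herm_sum_right hF]
  apply Finset.sum_eq_zero
  intro i _
  rw [proj_perp f hf w i, mul_zero]

lemma herm_comb (hF : Fintype.card F = q ^ 2) {ι : Type*} [DecidableEq ι] [Fintype ι]
    (u : ι → Fin n → F) (hu : IsON n q u) (c d : ι → F) :
    hermForm n F q (∑ i, c i • u i) (∑ i, d i • u i) = ∑ i, c i * d i ^ q := by
  have hu' : ∀ i j, hermForm n F q (u i) (u j) = if i = j then 1 else 0 := hu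
  rw [herm_sum_left]
  apply sum_congr rfl
  intro i _
  rw [herm_sum_right hF]
  simp only [hu', mul_ite, mul_one, mul_zero, Finset.sum_ite_eq, Finset.mem_univ, if_true]

lemma count_ext (hF : Fintype.card F = q ^ 2) {k : ℕ} (hk : k ≤ n) (v : Fin k → Fin n → F)
    (hv : IsON n q v) :
    Nat.card {w : Fin n → F // hermForm n F q w w = 1 ∧ ∀ j, hermForm n F q w (v j) = 0}
      = A F q (n - k) 1 := by
  obtain ⟨u, hu, huv⟩ := complete_frame hF v hv (n - k) (by omega)
  have hu' : ∀ i j, hermForm n F q (u i) (u j) = if i = j then 1 else 0 := hu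
  have hcomb : IsON n q (Sum.elim v u) := by
    rintro (i | i) (j | j)
    · simpa using hv i j
    · simpa using herm_perp_symm hF _ _ (huv j i)
    · simpa using huv i j
    · simpa using hu i j
  have hexp := expand_full hF (Sum.elim v u) hcomb (by
    rw [Fintype.card_sum, Fintype.card_fin, Fintype.card_fin]; omega)
  let φ : {c : Fin (n - k) → F // hermForm (n - k) F q c c = 1} →
      {w : Fin n → F // hermForm n F q w w = 1 ∧ ∀ j, hermForm n F q w (v j) = 0} :=
    fun c => ⟨∑ i, c.1 i • u i, by
      rw [herm_comb hF u hu]; exact c.2, by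
      intro j
      rw [herm_sum_left]
      apply Finset.sum_eq_zero
      intro i _
      rw [huv i j, mul_zero]⟩
  have hinj : Function.Injective φ := by
    intro c d hcd
    have h1 : ∑ i, c.1 i • u i = ∑ i, d.1 i • u i := congrArg Subtype.val hcd
    apply Subtype.ext
    funext j
    have := congrArg (fun x => hermForm n F q x (u j)) h1
    simp only [herm_sum_left, hu', mul_ite, mul_one, mul_zero, Finset.sum_ite_eq', Finset.mem_univ,
      if_true] at this
    exact this
  have hsurj : Function.Surjective φ := by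
    rintro ⟨w, hw1, hw2⟩
    have h1 := hexp w
    rw [Fintype.sum_sum_type] at h1
    simp only [Sum.elim_inl, Sum.elim_inr, hw2, zero_smul, Finset.sum_const_zero, zero_add] at h1
    refine ⟨⟨fun i => hermForm n F q w (u i), ?_⟩, ?_⟩
    · have h2 := herm_comb hF u hu (fun i => hermForm n F q w (u i)) (fun i => hermForm n F q w (u i))
      rw [← h1, hw1] at h2
      exact h2.symm
    · apply Subtype.ext
      exact h1.symm
  rw [← Nat.card_congr (Equiv.ofBijective φ ⟨hinj, hsurj⟩)]
  rfl

lemma ON_cons_iff (hF : Fintype.card F = q ^ 2) {k : ℕ} (w : Fin n → F) (v : Fin k → Fin n → F) :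
    IsON n q (Fin.cons w v : Fin (k + 1) → Fin n → F) ↔
      IsON n q v ∧ hermForm n F q w w = 1 ∧ ∀ j, hermForm n F q w (v j) = 0 := by
  constructor
  · intro h
    refine ⟨?_, ?_, ?_⟩
    · intro i j
      simpa using h i.succ j.succ
    · simpa using h 0 0
    · intro j
      simpa [(Fin.succ_ne_zero j).symm] using h 0 j.succ
  · rintro ⟨hv, hw1, hw2⟩ i j
    refine Fin.cases ?_ (fun i => ?_) i <;> refine Fin.cases ?_ (fun j => ?_) j
    · simpa using hw1
    · simpa [Fin.succ_ne_zero, (Fin.succ_ne_zero j).symm] using hw2 j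
    · simpa [Fin.succ_ne_zero] using herm_perp_symm hF _ _ (hw2 i)
    · simpa using hv i j

/-- Orthonormal `k`-frames in `F^n`. -/
def Fr (F : Type*) [Field F] (n q k : ℕ) : Type _ := {v : Fin k → Fin n → F // IsON n q v}

instance (k : ℕ) : Finite (Fr F n q k) := by unfold Fr; infer_instance

/-- Splitting off the first vector of a frame. -/
def frSplit (hF : Fintype.card F = q ^ 2) (k : ℕ) :
    Fr F n q (k + 1) ≃ Σ v : Fr F n q k,
      {w : Fin n → F // hermForm n F q w w = 1 ∧ ∀ j, hermForm n F q w (v.1 j) = 0} where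
  toFun f := ⟨⟨Fin.tail f.1, by
      have := f.2
      rw [← Fin.cons_self_tail f.1, ON_cons_iff hF] at this
      exact this.1⟩, ⟨f.1 0, by
      have := f.2
      rw [← Fin.cons_self_tail f.1, ON_cons_iff hF] at this
      exact this.2⟩⟩
  invFun p := ⟨Fin.cons p.2.1 p.1.1, (ON_cons_iff hF _ _).2 ⟨p.1.2, p.2.2⟩⟩
  left_inv f := Subtype.ext (Fin.cons_self_tail f.1)
  right_inv := fun ⟨⟨_, _⟩, ⟨_, _⟩⟩ => rfl

lemma fr_card_succ (hF : Fintype.card F = q ^ 2) (k : ℕ) (hk : k + 1 ≤ n) :
    Nat.card (Fr F n q (k + 1)) = Nat.card (Fr F n q k) * A F q (n - k) 1 := by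
  classical
  haveI : Fintype (Fr F n q k) := Fintype.ofFinite _
  rw [Nat.card_congr (frSplit hF k), Nat.card_sigma]
  rw [Finset.sum_congr rfl (fun v _ => count_ext hF (by omega) v.1 v.2)]
  rw [Finset.sum_const, smul_eq_mul, Finset.card_univ, Nat.card_eq_fintype_card]

lemma fr_card (hF : Fintype.card F = q ^ 2) (k : ℕ) (hk : k ≤ n) :
    Nat.card (Fr F n q k) = ∏ j ∈ Finset.range k, A F q (n - j) 1 := by
  induction k with
  | zero =>
    rw [Finset.prod_range_zero]
    haveI : Unique (Fr F n q 0) :=
      { default := ⟨Fin.elim0, fun i => i.elim0⟩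
        uniq := fun v => Subtype.ext (Subsingleton.elim _ _) }
    exact Nat.card_unique
  | succ k ih =>
    rw [fr_card_succ hF k hk, ih (by omega), Finset.prod_range_succ]

lemma mem_GU_iff (g : Matrix.GeneralLinearGroup (Fin n) F) :
    g ∈ GU n F q ↔ ∀ u v, hermForm n F q ((g : Matrix (Fin n) (Fin n) F).mulVec u)
      ((g : Matrix (Fin n) (Fin n) F).mulVec v) = hermForm n F q u v := Iff.rfl

lemma mulVec_frame (v : Fin n → Fin n → F) (x : Fin n → F) :
    (Matrix.of (fun r i => v i r) : Matrix (Fin n) (Fin n) F).mulVec x = ∑ i, x i • v i := by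
  funext r
  simp [Matrix.mulVec, dotProduct, mul_comm]

/-- The columns of a unitary matrix form an orthonormal frame. -/
noncomputable def guToFr (hq : q ≠ 0) (g : GU n F q) : Fr F n q n :=
  ⟨fun i => ((g.1 : Matrix.GeneralLinearGroup (Fin n) F) : Matrix (Fin n) (Fin n) F).mulVec
    (Pi.single i 1), by
    intro i j
    rw [(mem_GU_iff g.1).1 g.2, herm_single hq, Pi.single_apply]
    simp only [eq_comm]⟩

lemma guToFr_bij (hF : Fintype.card F = q ^ 2) (hq : q ≠ 0) :
    Function.Bijective (guToFr (F := F) (n := n) hq) := by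
  constructor
  · intro g g' h
    have h1 : ∀ i, ((g.1 : Matrix.GeneralLinearGroup (Fin n) F) : Matrix (Fin n) (Fin n) F).mulVec
        (Pi.single i 1) = ((g'.1 : Matrix.GeneralLinearGroup (Fin n) F) :
          Matrix (Fin n) (Fin n) F).mulVec (Pi.single i 1) := by
      intro i
      exact congrFun (congrArg Subtype.val h) i
    apply Subtype.ext
    apply Units.ext
    ext r i
    have := congrFun (h1 i) r
    simpa [Matrix.mulVec_single_one] using this
  · rintro ⟨v, hv⟩
    set M : Matrix (Fin n) (Fin n) F := Matrix.of (fun r i => v i r) with hM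
    have hpres : ∀ x y, hermForm n F q (M.mulVec x) (M.mulVec y) = hermForm n F q x y := by
      intro x y
      rw [hM, mulVec_frame, mulVec_frame, herm_comb hF v hv]
      rfl
    have hinj : Function.Injective M.mulVec := by
      intro x y hxy
      rw [← sub_eq_zero]
      apply herm_nondeg hq
      intro z
      rw [← hpres, Matrix.mulVec_sub, hxy, sub_self, herm_zero_left]
    have hU : IsUnit M := Matrix.mulVec_injective_iff_isUnit.1 hinj
    refine ⟨⟨hU.unit, ?_⟩, ?_⟩
    · rw [mem_GU_iff]
      intro x y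
      rw [hU.unit_spec]
      exact hpres x y
    · apply Subtype.ext
      funext i
      show ((hU.unit : Matrix.GeneralLinearGroup (Fin n) F) : Matrix (Fin n) (Fin n) F).mulVec
        (Pi.single i 1) = v i
      rw [hU.unit_spec, hM, mulVec_frame]
      simp [Pi.single_apply]

lemma card_GU_prod (hF : Fintype.card F = q ^ 2) (n : ℕ) :
    Nat.card (GU n F q) = ∏ j ∈ Finset.range n, A F q (n - j) 1 := by
  have hq := q_ge_two hF
  rw [Nat.card_congr (Equiv.ofBijective _ (guToFr_bij hF (by omega : q ≠ 0))), fr_card hF n le_rfl]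

lemma prod_formula (hF : Fintype.card F = q ^ 2) (n : ℕ) :
    ∏ j ∈ Finset.range n, A F q (j + 1) 1 = q ^ (n * (n - 1) / 2) *
      ∏ i ∈ Finset.range n, (if Even i then q ^ (i + 1) + 1 else q ^ (i + 1) - 1) := by
  have hq := q_ge_two hF
  have hA : ∀ j, A F q (j + 1) 1 = q ^ j * (if Even j then q ^ (j + 1) + 1 else q ^ (j + 1) - 1) := by
    intro j
    have h := A_one hF (j + 1)
    have h2 : 1 ≤ q ^ (j + 1) := Nat.one_le_pow _ _ (by omega)
    apply Nat.eq_of_mul_eq_mul_left (show 0 < q by omega)
    rcases Nat.even_or_odd j with he | ho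
    · rw [if_pos he]
      zify
      rw [h, (Even.add_one he).neg_one_pow]; ring
    · rw [if_neg (Nat.not_even_iff_odd.2 ho)]
      zify [h2]
      rw [h, (Odd.add_one ho).neg_one_pow]; ring
  rw [Finset.prod_congr rfl (fun j _ => hA j), Finset.prod_mul_distrib, Finset.prod_pow_eq_pow_sum,
    Finset.sum_range_id]

theorem card_GU (hF : Fintype.card F = q ^ 2) (n : ℕ) :
    Nat.card (GU n F q) = q ^ (n * (n - 1) / 2) *
      ∏ i ∈ Finset.range n, (if Even i then q ^ (i + 1) + 1 else q ^ (i + 1) - 1) := by
  rw [card_GU_prod hF, ← prod_formula hF, ← Finset.prod_range_reflect]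
  apply Finset.prod_congr rfl
  intro j hj
  rw [Finset.mem_range] at hj
  congr 1
  omega

end Cfsg.Agent.Helper9GUOrder
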