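import Mathlib
import Cfsg.Prelude.Def_LieClassical
import Cfsg.Agent.Lib.Helper4_FieldAutCent
import Cfsg.Agent.S0277
import Cfsg.Agent.Lib.Helper1_Herm

namespace Cfsg.Agent.Lib.Helper4_FieldAutGU
open Matrix Cfsg.Agent.Lib.Helper4_FieldAutCent

section guiff
variable {L : Type*} [Field L] {n : ℕ}

theorem sum_pow_of_add (s : ℕ) (hs : s ≠ 0) (hadd : ∀ x y : L, (x + y) ^ s = x ^ s + y ^ s)
    {ι : Type*} (t : Finset ι) (f : ι → L) : (∑ i ∈ t, f i) ^ s = ∑ i ∈ t, f i ^ s := by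
  classical
  induction t using Finset.induction_on with
  | empty => simp [hs]
  | insert a t ha ih => rw [Finset.sum_insert ha, Finset.sum_insert ha, hadd, ih]

theorem herm_eq (s : ℕ) (u v : Fin n → L) :
    Cfsg.hermForm n L s u v = u ⬝ᵥ (fun i => v i ^ s) := rfl

theorem mulVec_pow (s : ℕ) (hs : s ≠ 0) (hadd : ∀ x y : L, (x + y) ^ s = x ^ s + y ^ s)
    (g : Matrix (Fin n) (Fin n) L) (v : Fin n → L) :
    (fun i => (g *ᵥ v) i ^ s) = (g.map (· ^ s)) *ᵥ (fun i => v i ^ s) := by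
  funext i
  simp only [Matrix.mulVec, dotProduct, Matrix.map_apply]
  rw [sum_pow_of_add s hs hadd]
  apply Finset.sum_congr rfl
  intro k _
  rw [mul_pow]

theorem herm_mulVec (s : ℕ) (hs : s ≠ 0) (hadd : ∀ x y : L, (x + y) ^ s = x ^ s + y ^ s)
    (g : Matrix (Fin n) (Fin n) L) (u v : Fin n → L) :
    Cfsg.hermForm n L s (g *ᵥ u) (g *ᵥ v) =
      u ⬝ᵥ ((gᵀ * g.map (· ^ s)) *ᵥ (fun i => v i ^ s)) := by
  rw [herm_eq, mulVec_pow s hs hadd, ← Matrix.mulVec_mulVec, Matrix.dotProduct_mulVec u gᵀ,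
    Matrix.vecMul_transpose]

theorem gu_iff (s : ℕ) (hs : s ≠ 0) (hadd : ∀ x y : L, (x + y) ^ s = x ^ s + y ^ s)
    (g : Matrix (Fin n) (Fin n) L) :
    (∀ u v, Cfsg.hermForm n L s (g *ᵥ u) (g *ᵥ v) = Cfsg.hermForm n L s u v) ↔
      gᵀ * g.map (· ^ s) = 1 := by
  constructor
  · intro h
    ext j k
    have := h (Pi.single j 1) (Pi.single k 1)
    rw [herm_mulVec s hs hadd, herm_eq] at this
    have e : (fun i => (Pi.single k (1 : L) : Fin n → L) i ^ s) = Pi.single k 1 := by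
      funext i
      by_cases hik : i = k
      · subst hik; simp
      · simp [Pi.single_eq_of_ne hik, hs]
    rw [e, Matrix.mulVec_single_one, single_one_dotProduct, single_one_dotProduct] at this
    rw [Matrix.one_apply]
    simpa [Pi.single_apply, eq_comm] using this
  · intro h u v
    rw [herm_mulVec s hs hadd, h, Matrix.one_mulVec, herm_eq]

theorem mem_GU_iff' (s : ℕ) (hs : s ≠ 0) (hadd : ∀ x y : L, (x + y) ^ s = x ^ s + y ^ s)
    (g : GL (Fin n) L) : g ∈ Cfsg.GU n L s ↔ g.1ᵀ * g.1.map (· ^ s) = 1 :=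
  gu_iff s hs hadd g.1

end guiff

section frob
variable {L : Type*} [Field L] {n : ℕ}

theorem frob_smul (s : ℕ) (a : L) (A : Matrix (Fin n) (Fin n) L) :
    (a • A)ᵀ * (a • A).map (· ^ s) = a ^ (s + 1) • (Aᵀ * A.map (· ^ s)) := by
  ext i j
  simp only [Matrix.mul_apply, Matrix.transpose_apply, Matrix.smul_apply, Matrix.map_apply,
    smul_eq_mul, mul_pow, Finset.mul_sum]
  apply Finset.sum_congr rfl
  intro k _
  ring

theorem frob_map {L' : Type*} [Field L'] (f : L →+* L') (s s' : ℕ)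
    (hf : ∀ x : L, f x ^ s' = f (x ^ s)) (A : Matrix (Fin n) (Fin n) L) :
    (A.map f)ᵀ * (A.map f).map (· ^ s') = (Aᵀ * A.map (· ^ s)).map f := by
  rw [Matrix.map_mul, Matrix.transpose_map]
  congr 1
  ext i j
  simp only [Matrix.map_apply, hf]

end frob

section ffacts
variable {L : Type*} [Field L] [Fintype L] {s : ℕ}

theorem card_units_sq (hL : Fintype.card L = s ^ 2) : Nat.card Lˣ = (s - 1) * (s + 1) := by
  rw [Nat.card_units, Nat.card_eq_fintype_card, hL]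
  have h2 : 1 ≤ s := by
    by_contra h
    have : s = 0 := by omega
    rw [this] at hL
    have := Fintype.card_pos (α := L)
    omega
  obtain ⟨k, rfl⟩ : ∃ k, s = k + 1 := ⟨s - 1, by omega⟩
  have : (k + 1) ^ 2 = k * (k + 1 + 1) + 1 := by ring
  rw [this]
  simp

theorem card_norm_one (hL : Fintype.card L = s ^ 2) :
    Nat.card (powMonoidHom (s + 1) : Lˣ →* Lˣ).ker = s + 1 := by
  rw [IsCyclic.card_powMonoidHom_ker, card_units_sq hL]
  exact Nat.gcd_eq_right (dvd_mul_left _ _)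

theorem norm_surj (hL : Fintype.card L = s ^ 2) (y : Lˣ) (hy : y ^ (s - 1) = 1) :
    ∃ ν : Lˣ, ν ^ (s + 1) = y := by
  have h2 : 2 ≤ s := by
    by_contra h
    have hs : s ≤ 1 := by omega
    have : s ^ 2 ≤ 1 := by
      calc s ^ 2 ≤ 1 ^ 2 := Nat.pow_le_pow_left hs 2
        _ = 1 := by norm_num
    have h1 := Fintype.one_lt_card (α := L)
    omega
  have hle : (powMonoidHom (s + 1) : Lˣ →* Lˣ).range ≤ (powMonoidHom (s - 1) : Lˣ →* Lˣ).ker := by
    rintro _ ⟨x, rfl⟩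
    rw [MonoidHom.mem_ker, powMonoidHom_apply, powMonoidHom_apply, ← pow_mul, mul_comm,
      ← card_units_sq hL]
    exact pow_card_eq_one'
  have hcard : Nat.card (powMonoidHom (s - 1) : Lˣ →* Lˣ).ker ≤
      Nat.card (powMonoidHom (s + 1) : Lˣ →* Lˣ).range := by
    rw [IsCyclic.card_powMonoidHom_ker, IsCyclic.card_powMonoidHom_range, card_units_sq hL,
      Nat.gcd_eq_right (dvd_mul_right _ _), Nat.gcd_eq_right (dvd_mul_left _ _),
      Nat.mul_div_cancel _ (by omega)]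
  have heq := Subgroup.eq_of_le_of_card_ge hle hcard
  have : y ∈ (powMonoidHom (s + 1) : Lˣ →* Lˣ).range := by
    rw [heq, MonoidHom.mem_ker, powMonoidHom_apply, hy]
  obtain ⟨ν, hν⟩ := this
  exact ⟨ν, hν⟩

end ffacts

section main
variable {K : Type*} [Field K] [Fintype K] {q₀ q r n : ℕ}

theorem card_K0 (hr : r.Prime) (hq : q = q₀ ^ r) (hK : Fintype.card K = q ^ 2) (σ : K ≃+* K)
    (hσ : orderOf σ = r) : Nat.card (fixK σ) = q₀ ^ 2 :=
  card_fixK σ hr (by rw [hK, hq, ← pow_mul, ← pow_mul, mul_comm]) hσ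

theorem pow_q_eq (hr : r.Prime) (hr2 : r ≠ 2) (hq : q = q₀ ^ r) (hK : Fintype.card K = q ^ 2)
    (σ : K ≃+* K) (hσ : orderOf σ = r) (y : K) (hy : y ∈ fixK σ) : y ^ q = y ^ q₀ := by
  haveI : Fintype (fixK σ) := Fintype.ofFinite _
  have hc : Fintype.card (fixK σ) = q₀ ^ 2 := by
    rw [← Nat.card_eq_fintype_card]
    exact card_K0 hr hq hK σ hσ
  have h1 : y ^ (q₀ ^ 2) = y := by
    have := FiniteField.pow_card (⟨y, hy⟩ : fixK σ)
    rw [hc] at this
    exact congrArg Subtype.val this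
  have h2 : ∀ j : ℕ, y ^ ((q₀ ^ 2) ^ j) = y := by
    intro j
    induction j with
    | zero => simp
    | succ j ih => rw [pow_succ, pow_mul, ih, h1]
  obtain ⟨j, hj⟩ : Odd r := hr.odd_of_ne_two hr2
  rw [hq, hj, pow_succ, pow_mul, pow_mul, h2]

end main

section claims
variable {K : Type*} [Field K] [Fintype K] {q₀ q r n : ℕ}
open Cfsg.Agent.Lib.Helper1_Herm

/-- bundle of hypotheses -/
structure Hyp (K : Type*) [Field K] [Fintype K] (q₀ q r : ℕ) (σ : K ≃+* K) : Prop where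
  hr : r.Prime
  hr2 : r ≠ 2
  hq : q = q₀ ^ r
  hK : Fintype.card K = q ^ 2
  hσ : orderOf σ = r

theorem Hyp.q0_ge {σ : K ≃+* K} (H : Hyp K q₀ q r σ) : 2 ≤ q₀ := by
  haveI : Fintype (fixK σ) := Fintype.ofFinite _
  have hc : Fintype.card (fixK σ) = q₀ ^ 2 := by
    rw [← Nat.card_eq_fintype_card]
    exact card_K0 H.hr H.hq H.hK σ H.hσ
  exact two_le_q hc

theorem Hyp.q_ne {σ : K ≃+* K} (H : Hyp K q₀ q r σ) : q ≠ 0 := by
  have := two_le_q H.hK
  omega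

theorem Hyp.add0 {σ : K ≃+* K} (H : Hyp K q₀ q r σ) (x y : fixK σ) :
    (x + y) ^ q₀ = x ^ q₀ + y ^ q₀ := by
  haveI : Fintype (fixK σ) := Fintype.ofFinite _
  have hc : Fintype.card (fixK σ) = q₀ ^ 2 := by
    rw [← Nat.card_eq_fintype_card]
    exact card_K0 H.hr H.hq H.hK σ H.hσ
  exact add_pow_q hc x y

theorem Hyp.coe_pow {σ : K ≃+* K} (H : Hyp K q₀ q r σ) (x : fixK σ) :
    ((fixK σ).subtype x) ^ q = (fixK σ).subtype (x ^ q₀) := by
  rw [map_pow]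
  exact pow_q_eq H.hr H.hr2 H.hq H.hK σ H.hσ x.1 x.2

theorem in_GU_of {σ : K ≃+* K} (H : Hyp K q₀ q r σ) (μ : Kˣ) (hμ : μ ^ (q + 1) = 1)
    (h : GL (Fin n) (fixK σ)) (hh : h ∈ Cfsg.GU n (fixK σ) q₀) :
    Phi n σ (μ, h) ∈ Cfsg.GU n K q := by
  rw [mem_GU_iff' q H.q_ne (add_pow_q H.hK), Phi_val, frob_smul,
    frob_map (fixK σ).subtype q₀ q H.coe_pow,
    (mem_GU_iff' q₀ (by have := H.q0_ge; omega) H.add0 h).1 hh]
  have : ((μ : K)) ^ (q + 1) = 1 := by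
    rw [← Units.val_pow_eq_pow_val, hμ]
    rfl
  rw [this, one_smul, Matrix.map_one _ (map_zero _) (map_one _)]

end claims

section claims2
variable {K : Type*} [Field K] [Fintype K] {q₀ q r n : ℕ}
open Cfsg.Agent.Lib.Helper1_Herm

theorem exists_decomp {σ : K ≃+* K} (H : Hyp K q₀ q r σ) (hn : 1 ≤ n) (g : GL (Fin n) K)
    (hgU : g ∈ Cfsg.GU n K q) (c : K) (hc : c ≠ 0) (hg : g.1.map σ = c • g.1) :
    ∃ (μ : Kˣ) (h : GL (Fin n) (fixK σ)), μ ^ (q + 1) = 1 ∧ h ∈ Cfsg.GU n (fixK σ) q₀ ∧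
      Phi n σ (μ, h) = g := by
  classical
  haveI : Fintype (fixK σ) := Fintype.ofFinite _
  have hc0 : Fintype.card (fixK σ) = q₀ ^ 2 := by
    rw [← Nat.card_eq_fintype_card]
    exact card_K0 H.hr H.hq H.hK σ H.hσ
  have hM := (mem_GU_iff' q H.q_ne (add_pow_q H.hK) g).1 hgU
  -- c^(q+1) = 1
  have hcN : c ^ (q + 1) = 1 := by
    have h1 : (g.1ᵀ * g.1.map (· ^ q)).map (σ : K →+* K) =
        (1 : Matrix (Fin n) (Fin n) K).map (σ : K →+* K) := by rw [hM]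
    rw [← frob_map (σ : K →+* K) q q (fun x => (map_pow σ x q).symm)] at h1
    have h2 : (g.1.map (σ : K →+* K)) = c • g.1 := hg
    rw [h2, frob_smul, hM, Matrix.map_one _ (map_zero _) (map_one _)] at h1
    have h3 := congrFun (congrFun h1 ⟨0, hn⟩) ⟨0, hn⟩
    simpa using h3
  -- nonzero entry
  have hex : ∃ i j, g.1 i j ≠ 0 := by
    by_contra hcon
    push Not at hcon
    have h0 : g.1 = 0 := by
      ext a b
      exact hcon a b
    have hdet := Matrix.GeneralLinearGroup.det_ne_zero g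
    rw [h0] at hdet
    haveI : Nonempty (Fin n) := ⟨⟨0, hn⟩⟩
    exact hdet Matrix.det_zero
  obtain ⟨i, j, hx⟩ := hex
  have hent : ∀ a b, σ (g.1 a b) = c * g.1 a b := by
    intro a b
    have := congrFun (congrFun hg a) b
    simpa using this
  set x := g.1 i j with hxdef
  have hσx : σ x = c * x := hent i j
  -- the norm of x lies in the fixed field
  have hNfix : x ^ (q + 1) ∈ fixK σ := by
    rw [mem_fixK, map_pow, hσx, mul_pow, hcN, one_mul]
  have hxq2 : x ^ (q ^ 2) = x := by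
    rw [← H.hK]
    exact FiniteField.pow_card x
  have hNq : (x ^ (q + 1)) ^ q = x ^ (q + 1) := by
    rw [← pow_mul]
    have : (q + 1) * q = q ^ 2 + q := by ring
    rw [this, pow_add, hxq2, pow_succ]
    ring
  have hN0 : x ^ (q + 1) ≠ 0 := pow_ne_zero _ hx
  let y₀ : (fixK σ)ˣ := Units.mk0 ⟨x ^ (q + 1), hNfix⟩ (by
    intro h
    exact hN0 (congrArg Subtype.val h))
  have hy₀ : (y₀⁻¹) ^ (q₀ - 1) = 1 := by
    rw [inv_pow, inv_eq_one]
    apply Units.ext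
    apply Subtype.ext
    show (x ^ (q + 1)) ^ (q₀ - 1) = 1
    have h1 : (x ^ (q + 1)) ^ q₀ = x ^ (q + 1) := by
      rw [← pow_q_eq H.hr H.hr2 H.hq H.hK σ H.hσ _ hNfix, hNq]
    have h2 : (x ^ (q + 1)) ^ (q₀ - 1) * x ^ (q + 1) = 1 * x ^ (q + 1) := by
      rw [← pow_succ, Nat.sub_add_cancel (by have := H.q0_ge; omega), h1, one_mul]
    exact mul_right_cancel₀ hN0 h2
  obtain ⟨ν, hν⟩ := norm_surj hc0 y₀⁻¹ hy₀
  -- ι ν ^ (q+1)
  have hνK : ((ν : fixK σ) : K) ^ (q + 1) * x ^ (q + 1) = 1 := by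
    have h1 : ((ν : fixK σ) : K) ^ (q + 1) = (((ν ^ (q₀ + 1) : (fixK σ)ˣ) : fixK σ) : K) := by
      rw [pow_succ, pow_q_eq H.hr H.hr2 H.hq H.hK σ H.hσ _ (ν : fixK σ).2, ← pow_succ]
      rfl
    rw [h1, hν]
    have h2 : ((y₀⁻¹ : (fixK σ)ˣ) : fixK σ) * (y₀ : fixK σ) = 1 := by
      rw [← Units.val_mul, inv_mul_cancel]
      rfl
    exact congrArg Subtype.val h2
  have hν0 : ((ν : fixK σ) : K) ≠ 0 := by
    intro h
    exact ν.ne_zero (Subtype.ext h)
  have hσν : σ ((ν : fixK σ) : K) = ((ν : fixK σ) : K) := (mem_fixK σ _).1 (ν : fixK σ).2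
  let μ : Kˣ := Units.mk0 (x * ((ν : fixK σ) : K)) (mul_ne_zero hx hν0)
  have hμ : μ ^ (q + 1) = 1 := by
    apply Units.ext
    show (x * ((ν : fixK σ) : K)) ^ (q + 1) = 1
    rw [mul_pow, mul_comm]
    exact hνK
  have hμK : ((μ : K)) ^ (q + 1) = 1 := by
    rw [← Units.val_pow_eq_pow_val, hμ]
    rfl
  have hσμ : σ (μ : K) = c * (μ : K) := by
    show σ (x * ((ν : fixK σ) : K)) = c * (x * ((ν : fixK σ) : K))
    rw [map_mul, hσx, hσν]
    ring
  let h₀ : Matrix (Fin n) (Fin n) (fixK σ) := fun a b => ⟨(μ : K)⁻¹ * g.1 a b, by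
    rw [mem_fixK, map_mul, map_inv₀, hσμ, hent a b]
    have : (μ : K) ≠ 0 := μ.ne_zero
    field_simp⟩
  have hmap : h₀.map (fixK σ).subtype = (μ : K)⁻¹ • g.1 := by
    ext a b
    rfl
  have hdet : h₀.det ≠ 0 := by
    intro h0
    have := congrArg (fixK σ).subtype h0
    rw [RingHom.map_det, map_zero, RingHom.mapMatrix_apply, hmap, Matrix.det_smul] at this
    have hdet := Matrix.GeneralLinearGroup.det_ne_zero g
    have h2 : (((μ : K))⁻¹) ^ Fintype.card (Fin n) ≠ 0 := pow_ne_zero _ (inv_ne_zero μ.ne_zero)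
    exact (mul_ne_zero h2 hdet) this
  refine ⟨μ, Matrix.GeneralLinearGroup.mkOfDetNeZero h₀ hdet, hμ, ?_, ?_⟩
  · rw [mem_GU_iff' q₀ (by have := H.q0_ge; omega) H.add0]
    show h₀ᵀ * h₀.map (· ^ q₀) = 1
    have hinj : Function.Injective (fun A : Matrix (Fin n) (Fin n) (fixK σ) =>
        A.map (fixK σ).subtype) := by
      intro A B hAB
      ext a b
      have := congrFun (congrFun hAB a) b
      exact this
    apply hinj
    show (h₀ᵀ * h₀.map (· ^ q₀)).map (fixK σ).subtype = (1 : Matrix _ _ (fixK σ)).map (fixK σ).subtype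
    rw [← frob_map (fixK σ).subtype q₀ q H.coe_pow, hmap, frob_smul, hM,
      Matrix.map_one _ (map_zero _) (map_one _), inv_pow, hμK, inv_one, one_smul]
  · apply Units.ext
    rw [Phi_val]
    show (μ : K) • h₀.map (fixK σ).subtype = g.1
    rw [hmap, smul_smul, mul_inv_cancel₀ μ.ne_zero, one_smul]

end claims2

section counting
variable {K : Type*} [Field K] [Fintype K] {q₀ q r n : ℕ}
open Cfsg.Agent.Lib.Helper1_Herm

theorem ker_Phi_form (hn : 1 ≤ n) (σ : K ≃+* K) (μ : Kˣ) (h : GL (Fin n) (fixK σ))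
    (hk : Phi n σ (μ, h) = 1) :
    ∃ ν : (fixK σ)ˣ, μ = (Units.map (fixK σ).subtype.toMonoidHom ν)⁻¹ ∧
      h = Matrix.GeneralLinearGroup.scalar (Fin n) ν := by
  have hk' := congrArg (fun g : GL (Fin n) K => (g : Matrix (Fin n) (Fin n) K)) hk
  simp only [Phi_val] at hk'
  have hent : ∀ a b, (μ : K) * ((h.1 a b : fixK σ) : K) = (1 : Matrix (Fin n) (Fin n) K) a b := by
    intro a b
    have := congrFun (congrFun hk' a) b
    simpa using this
  let a₀ : Fin n := ⟨0, hn⟩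
  have h00 := hent a₀ a₀
  rw [Matrix.one_apply_eq] at h00
  have hne : h.1 a₀ a₀ ≠ 0 := by
    intro h0
    rw [h0] at h00
    simp at h00
  refine ⟨Units.mk0 (h.1 a₀ a₀) hne, ?_, ?_⟩
  · apply Units.ext
    show (μ : K) = ((h.1 a₀ a₀ : fixK σ) : K)⁻¹
    exact eq_inv_of_mul_eq_one_left h00
  · apply Units.ext
    apply Matrix.ext
    intro a b
    show h.1 a b = ((Matrix.GeneralLinearGroup.scalar (Fin n) (Units.mk0 (h.1 a₀ a₀) hne) :
      GL (Fin n) (fixK σ)) : Matrix (Fin n) (Fin n) (fixK σ)) a b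
    rw [Matrix.GeneralLinearGroup.coe_scalar, Matrix.scalar_apply]
    have hu : (μ : K) ≠ 0 := μ.ne_zero
    by_cases hab : a = b
    · subst hab
      rw [Matrix.diagonal_apply_eq]
      have h1 := hent a a
      rw [Matrix.one_apply_eq] at h1
      apply Subtype.ext
      apply mul_left_cancel₀ hu
      rw [h1]
      exact h00.symm
    · rw [Matrix.diagonal_apply_ne _ hab]
      have h1 := hent a b
      rw [Matrix.one_apply_ne hab] at h1
      have := (mul_eq_zero.1 h1).resolve_left hu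
      apply Subtype.ext
      exact this

theorem scalar_mem_GU {σ : K ≃+* K} (H : Hyp K q₀ q r σ) (ν : (fixK σ)ˣ)
    (hν : ν ^ (q₀ + 1) = 1) :
    Matrix.GeneralLinearGroup.scalar (Fin n) ν ∈ Cfsg.GU n (fixK σ) q₀ := by
  have hq0 : q₀ ≠ 0 := by have := H.q0_ge; omega
  rw [mem_GU_iff' q₀ hq0 H.add0, Matrix.GeneralLinearGroup.coe_scalar]
  have e : Matrix.scalar (Fin n) (ν : fixK σ) = (ν : fixK σ) • (1 : Matrix (Fin n) (Fin n) (fixK σ)) := by
    ext a b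
    simp [Matrix.scalar_apply, Matrix.diagonal_apply, Matrix.one_apply]
  have e1 : (1 : Matrix (Fin n) (Fin n) (fixK σ)).map (· ^ q₀) = 1 := by
    ext a b
    by_cases hab : a = b
    · subst hab; simp
    · simp [Matrix.one_apply_ne hab, hq0]
  rw [e, frob_smul, Matrix.transpose_one, Matrix.one_mul, e1]
  have : ((ν : fixK σ)) ^ (q₀ + 1) = 1 := by
    rw [← Units.val_pow_eq_pow_val, hν]
    rfl
  rw [this, one_smul]

end counting

section final
variable {K : Type*} [Field K] [Fintype K] {q₀ q r n : ℕ}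
open Cfsg.Agent.Lib.Helper1_Herm

/-- the restricted product map -/
noncomputable def PhiE (σ : K ≃+* K) (q₀ q n : ℕ) :
    ↥(((powMonoidHom (q + 1) : Kˣ →* Kˣ).ker).prod (Cfsg.GU n (fixK σ) q₀)) →* GL (Fin n) K :=
  (Phi n σ).comp (Subgroup.subtype _)

theorem range_PhiE {σ : K ≃+* K} (H : Hyp K q₀ q r σ) (hn : 1 ≤ n) (g : GL (Fin n) K) :
    (g ∈ Cfsg.GU n K q ∧ ∃ c : K, c ≠ 0 ∧ g.1.map σ = c • g.1) ↔ g ∈ (PhiE σ q₀ q n).range := by
  constructor
  · rintro ⟨hgU, c, hc, hg⟩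
    obtain ⟨μ, h, hμ, hh, he⟩ := exists_decomp H hn g hgU c hc hg
    exact ⟨⟨(μ, h), ⟨hμ, hh⟩⟩, he⟩
  · rintro ⟨⟨⟨μ, h⟩, ⟨hμ, hh⟩⟩, rfl⟩
    refine ⟨in_GU_of H μ hμ h hh, ?_⟩
    exact (mem_range_Phi n hn σ _).1 ⟨(μ, h), rfl⟩

theorem card_ker_PhiE {σ : K ≃+* K} (H : Hyp K q₀ q r σ) (hn : 1 ≤ n) :
    Nat.card (PhiE σ q₀ q n).ker = q₀ + 1 := by
  haveI : Fintype (fixK σ) := Fintype.ofFinite _
  have hc0 : Fintype.card (fixK σ) = q₀ ^ 2 := by
    rw [← Nat.card_eq_fintype_card]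
    exact card_K0 H.hr H.hq H.hK σ H.hσ
  rw [← card_norm_one hc0]
  symm
  apply Nat.card_congr
  have hU : ∀ ν : (fixK σ)ˣ, ν ^ (q₀ + 1) = 1 →
      (Units.map (fixK σ).subtype.toMonoidHom ν)⁻¹ ∈ (powMonoidHom (q + 1) : Kˣ →* Kˣ).ker := by
    intro ν hν
    rw [MonoidHom.mem_ker, powMonoidHom_apply, inv_pow, inv_eq_one]
    apply Units.ext
    show ((ν : fixK σ) : K) ^ (q + 1) = 1
    rw [pow_succ, pow_q_eq H.hr H.hr2 H.hq H.hK σ H.hσ _ (ν : fixK σ).2, ← pow_succ]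
    have : ((ν : fixK σ)) ^ (q₀ + 1) = 1 := by
      rw [← Units.val_pow_eq_pow_val, hν]
      rfl
    exact congrArg Subtype.val this
  refine Equiv.ofBijective (fun ν => ⟨⟨((Units.map (fixK σ).subtype.toMonoidHom ν.1)⁻¹,
    Matrix.GeneralLinearGroup.scalar (Fin n) ν.1), ⟨hU ν.1 ν.2, scalar_mem_GU H ν.1 ν.2⟩⟩,
    ker_mem n σ ν.1⟩) ⟨?_, ?_⟩
  · intro ν ν' h
    have h1 := congrArg (fun x => x.1.1.1) h
    simp only [_root_.inv_inj] at h1
    have hinj : Function.Injective (Units.map (fixK σ).subtype.toMonoidHom) :=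
      Units.map_injective (fixK σ).subtype_injective
    exact Subtype.ext (hinj h1)
  · rintro ⟨⟨⟨μ, h⟩, ⟨hμ, hh⟩⟩, hk⟩
    have hk' : Phi n σ (μ, h) = 1 := hk
    obtain ⟨ν, rfl, rfl⟩ := ker_Phi_form hn σ μ h hk'
    have hν : ν ^ (q₀ + 1) = 1 := by
      have hμ' : (powMonoidHom (q + 1) : Kˣ →* Kˣ)
          ((Units.map (fixK σ).subtype.toMonoidHom ν)⁻¹) = 1 := hμ
      rw [powMonoidHom_apply, inv_pow, inv_eq_one] at hμ'
      have h1 := congrArg Units.val hμ'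
      have h2 : ((ν : fixK σ) : K) ^ (q + 1) = 1 := h1
      rw [pow_succ, pow_q_eq H.hr H.hr2 H.hq H.hK σ H.hσ _ (ν : fixK σ).2, ← pow_succ] at h2
      apply Units.ext
      apply Subtype.ext
      exact h2
    exact ⟨⟨ν, hν⟩, rfl⟩

theorem main (hr : r.Prime) (hr2 : r ≠ 2) (hn : 1 ≤ n) (hq : q = q₀ ^ r)
    (hK : Fintype.card K = q ^ 2) (σ : K ≃+* K) (hσ : orderOf σ = r) :
    (Nat.card {g : ↥(Cfsg.GU n K q) // ∃ c : K, c ≠ 0 ∧ ((g : GL (Fin n) K) : Matrix (Fin n) (Fin n) K).map σ = c • ((g : GL (Fin n) K) : Matrix (Fin n) (Fin n) K)} : ℤ) = ((q + 1) / (q₀ + 1) : ℕ) * ((q₀ : ℤ) ^ (n * (n - 1) / 2) * ∏ i : Fin n, ((q₀ : ℤ) ^ ((i : ℕ) + 1) - (-1) ^ ((i : ℕ) + 1))) := by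
  have H : Hyp K q₀ q r σ := ⟨hr, hr2, hq, hK, hσ⟩
  haveI : Fintype (fixK σ) := Fintype.ofFinite _
  have hc0 : Fintype.card (fixK σ) = q₀ ^ 2 := by
    rw [← Nat.card_eq_fintype_card]
    exact card_K0 hr hq hK σ hσ
  have h1 : Nat.card {g : ↥(Cfsg.GU n K q) // ∃ c : K, c ≠ 0 ∧ ((g : GL (Fin n) K) : Matrix (Fin n) (Fin n) K).map σ = c • ((g : GL (Fin n) K) : Matrix (Fin n) (Fin n) K)} = Nat.card (PhiE σ q₀ q n).range := by
    apply Nat.card_congr
    exact (Equiv.subtypeSubtypeEquivSubtypeInter (fun g : GL (Fin n) K => g ∈ Cfsg.GU n K q)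
      (fun g => ∃ c : K, c ≠ 0 ∧ g.1.map σ = c • g.1)).trans
      (Equiv.subtypeEquivRight (fun g => range_PhiE H hn g))
  have h2 := Subgroup.card_mul_index (PhiE σ q₀ q n).ker
  rw [Subgroup.index_ker, card_ker_PhiE H hn,
    Nat.card_congr (Subgroup.prodEquiv _ _).toEquiv, Nat.card_prod, card_norm_one hK,
    Cfsg.Agent.S0277.result hc0 n] at h2
  obtain ⟨d, hd⟩ : q₀ + 1 ∣ q + 1 := by
    rw [hq]
    simpa only [one_pow] using (hr.odd_of_ne_two hr2).nat_add_dvd_pow_add_pow q₀ 1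
  rw [h1]
  generalize Nat.card ↥(PhiE σ q₀ q n).range = N at h2 ⊢
  rw [hd, Nat.mul_div_cancel_left _ (by omega)]
  rw [hd, mul_assoc] at h2
  have h3 := Nat.eq_of_mul_eq_mul_left (by omega) h2
  rw [h3]
  push_cast
  congr 1
  congr 1
  rw [Fin.prod_univ_eq_prod_range (fun i => ((q₀ : ℤ) ^ (i + 1) - (-1) ^ (i + 1))) n]
  apply Finset.prod_congr rfl
  intro i _
  have hq0 : 1 ≤ q₀ ^ (i + 1) := Nat.one_le_pow _ _ (by have := H.q0_ge; omega)
  by_cases hi : Even i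
  · rw [if_pos hi, Odd.neg_one_pow hi.add_one]
    push_cast
    ring
  · rw [if_neg hi]
    rw [Nat.not_even_iff_odd] at hi
    rw [Even.neg_one_pow hi.add_one, Nat.cast_sub hq0]
    push_cast
    ring

end final

end Cfsg.Agent.Lib.Helper4_FieldAutGU
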