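import Mathlib

namespace Cfsg.Agent.Lib.Helper4_FixedPoint

variable {G : Type*} [Group G]

/-- a subgroup `D` normalizing a nontrivial `p`-subgroup `W` and acting on it as a `p`-group has a
nontrivial fixed point. -/
theorem exists_fixed_of_pAction [Finite G] {p : ℕ} [Fact p.Prime] (W D : Subgroup G)
    (hWp : IsPGroup p W) (hW : W ≠ ⊥)
    (hDW : ∀ d ∈ D, ∀ w ∈ W, d * w * d⁻¹ ∈ W)
    (hDp : ∀ d ∈ D, ∃ k : ℕ, d ^ (p ^ k) ∈ Subgroup.centralizer (W : Set G)) :
    ∃ w ∈ W, w ≠ 1 ∧ ∀ d ∈ D, d * w = w * d := by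
  classical
  let f : ↥D →* MulAut ↥W :=
    { toFun := fun d =>
        { toFun := fun w => ⟨(d : G) * w * (d : G)⁻¹, hDW d d.2 w w.2⟩
          invFun := fun w => ⟨(d : G)⁻¹ * w * (d : G), by
            have := hDW (d : G)⁻¹ (D.inv_mem d.2) w w.2
            simpa using this⟩
          left_inv := by intro w; apply Subtype.ext; simp only; group
          right_inv := by intro w; apply Subtype.ext; simp only; group
          map_mul' := by intro a b; apply Subtype.ext; simp }
      map_one' := by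
        apply MulEquiv.ext; intro w; apply Subtype.ext; simp
      map_mul' := by
        intro a b
        apply MulEquiv.ext; intro w; apply Subtype.ext
        simp only [MulAut.mul_apply, MulEquiv.coe_mk, Equiv.coe_fn_mk, Subgroup.coe_mul]
        group }
  have hf : ∀ (d : ↥D) (w : ↥W), ((f d w : ↥W) : G) = (d : G) * w * (d : G)⁻¹ := fun d w => rfl
  have hΓ : IsPGroup p f.range := by
    rintro ⟨γ, hγ⟩
    obtain ⟨d, rfl⟩ := hγ
    obtain ⟨k, hk⟩ := hDp d d.2
    refine ⟨k, ?_⟩
    apply Subtype.ext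
    show (f d) ^ (p ^ k) = 1
    rw [← map_pow]
    apply MulEquiv.ext
    intro w
    apply Subtype.ext
    rw [hf]
    simp only [Subgroup.coe_pow, MulAut.one_apply]
    rw [Subgroup.mem_centralizer_iff] at hk
    have := hk w w.2
    rw [← this]; group
  have hcard : p ∣ Nat.card ↥W := by
    rcases hWp.card_eq_or_dvd with h | h
    · exfalso
      apply hW
      exact Subgroup.card_eq_one.mp h
    · exact h
  have hfix : (1 : ↥W) ∈ MulAction.fixedPoints f.range ↥W := by
    intro γ
    show (γ : MulAut ↥W) 1 = 1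
    exact map_one _
  obtain ⟨b, hb, hb1⟩ := hΓ.exists_fixed_point_of_prime_dvd_card_of_fixed_point ↥W hcard hfix
  refine ⟨b, b.2, ?_, ?_⟩
  · intro h
    apply hb1
    apply Subtype.ext
    exact h.symm
  · intro d hd
    have := hb ⟨f ⟨d, hd⟩, ⟨⟨d, hd⟩, rfl⟩⟩
    have h2 : f ⟨d, hd⟩ b = b := this
    have h3 := congrArg Subtype.val h2
    rw [hf] at h3
    simp only at h3
    calc d * (b : G) = (d * b * d⁻¹) * d := by group
      _ = b * d := by rw [h3]

end Cfsg.Agent.Lib.Helper4_FixedPoint
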