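import Mathlib
import Cfsg.Prelude.Def_LocalStructure
import Cfsg.Agent.Lib.Helper4_Frattini
import Cfsg.Agent.Lib.Helper4_Stab
import Cfsg.Agent.Lib.Helper4_Subnormal
import Cfsg.Agent.Lib.Helper4_PIrred

namespace Cfsg.Agent.Lib.Helper4_FrattiniCent
open Cfsg Cfsg.Agent.Lib.Helper4_Frattini Cfsg.Agent.Lib.Helper4_Stab Cfsg.Agent.Lib.Helper4_Subnormal
  Cfsg.Agent.Lib.Helper4_PIrred
open scoped commutatorElement

variable {G : Type*} [Group G]

/-- `(a w)^n ≡ a^n w^n` modulo the derived subgroup. -/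
theorem mul_pow_mod_commutator (P : Subgroup G) (a w : G) (ha : a ∈ P) (hw : w ∈ P) (n : ℕ) :
    (a * w) ^ n * (a ^ n * w ^ n)⁻¹ ∈ ⁅P, P⁆ := by
  have h1 : ((⟨a, ha⟩ * ⟨w, hw⟩ : ↥P) ^ n * ((⟨a, ha⟩ : ↥P) ^ n * (⟨w, hw⟩ : ↥P) ^ n)⁻¹) ∈
      commutator ↥P := by
    rw [← Abelianization.ker_of, MonoidHom.mem_ker]
    simp only [map_mul, map_pow, map_inv]
    rw [mul_pow, mul_inv_cancel]
  rw [← Subgroup.map_subtype_commutator]
  exact Subgroup.mem_map.mpr ⟨_, h1, by simp⟩

theorem main [Finite G] {p : ℕ} [Fact p.Prime] (P : Subgroup G) (hP : IsPGroup p ↥P)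
    (H : Subgroup G) (hH : H ≤ Subgroup.normalizer (P : Set G)) (Y : Subgroup G) (hYH : Y ≤ H)
    (hYc : Y ≤ Subgroup.centralizer ((⁅P, P⁆ : Subgroup G) : Set G))
    (hel : Cfsg.IsElementaryAbelian p ⁅P, Y⁆) (NY : Subgroup G)
    (hNY : NY = (Subgroup.normalClosure ((Y.subgroupOf H : Subgroup ↥H) : Set ↥H)).map H.subtype) :
    (Cfsg.pResidual p ↥NY).map NY.subtype ≤
      Subgroup.centralizer (((frattini ↥P).map P.subtype : Subgroup G) : Set G) := by
  have hp : p.Prime := Fact.out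
  set P' := ⁅P, P⁆ with hP'
  have hP'P : P' ≤ P := by
    rw [hP', Subgroup.commutator_le]
    intro a ha b hb
    rw [commutatorElement_def]
    exact P.mul_mem (P.mul_mem (P.mul_mem ha hb) (P.inv_mem ha)) (P.inv_mem hb)
  have hHconjP : ∀ h ∈ H, ∀ x ∈ P, h * x * h⁻¹ ∈ P := fun h hh x hx =>
    (Subgroup.mem_normalizer_iff.mp (hH hh) x).mp hx
  have hconjP' : ∀ h : G, (∀ x ∈ P, h * x * h⁻¹ ∈ P) → ∀ x ∈ P', h * x * h⁻¹ ∈ P' := fun h hh =>
    commutator_conj_mem_of_normalizes P P h hh hh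
  set C₀ := Subgroup.closure ((P' : Set G) ∪ {z | ∃ a ∈ P, z = a ^ p}) with hC₀
  have hC₀P : C₀ ≤ P := by
    rw [hC₀, Subgroup.closure_le]
    rintro z (hz | ⟨a, ha, rfl⟩)
    · exact hP'P hz
    · exact P.pow_mem ha p
  have hP'C₀ : P' ≤ C₀ := fun z hz => Subgroup.subset_closure (Or.inl hz)
  have hpowC₀ : ∀ a ∈ P, a ^ p ∈ C₀ := fun a ha => Subgroup.subset_closure (Or.inr ⟨a, ha, rfl⟩)
  have hconjC₀ : ∀ h : G, (∀ x ∈ P, h * x * h⁻¹ ∈ P) → ∀ z ∈ C₀, h * z * h⁻¹ ∈ C₀ := by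
    intro h hh
    have : C₀ ≤ C₀.comap (MulAut.conj h).toMonoidHom := by
      conv_lhs => rw [hC₀]
      rw [Subgroup.closure_le]
      rintro z (hz | ⟨a, ha, rfl⟩)
      · rw [SetLike.mem_coe, Subgroup.mem_comap]
        simp only [MulEquiv.coe_toMonoidHom, MulAut.conj_apply]
        exact hP'C₀ (hconjP' h hh z hz)
      · rw [SetLike.mem_coe, Subgroup.mem_comap]
        simp only [MulEquiv.coe_toMonoidHom, MulAut.conj_apply]
        rw [← conj_pow]
        exact hpowC₀ _ (hh a ha)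
    intro z hz
    exact this hz
  have hPconjP : ∀ a ∈ P, ∀ x ∈ P, a * x * a⁻¹ ∈ P := fun a ha x hx =>
    P.mul_mem (P.mul_mem ha hx) (P.inv_mem ha)
  -- Frattini ≤ C₀
  have hΦ : (frattini ↥P).map P.subtype ≤ C₀ := by
    have hn : (C₀.subgroupOf P).Normal := by
      rw [Subgroup.normal_subgroupOf_iff_le_normalizer hC₀P]
      exact le_normalizer_of_conj_mem' P C₀ (fun a ha => hconjC₀ a (hPconjP a ha))
    have h1 := frattini_le_of_elementary_quotient (P := ↥P) (p := p) (C₀.subgroupOf P)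
      (by
        intro a b
        rw [Subgroup.mem_subgroupOf]
        apply hP'C₀
        have : ((⁅a, b⁆ : ↥P) : G) = ⁅(a : G), (b : G)⁆ := by
          simp [commutatorElement_def]
        rw [this]
        exact Subgroup.commutator_mem_commutator a.2 b.2)
      (by
        intro a
        rw [Subgroup.mem_subgroupOf]
        simpa using hpowC₀ a a.2)
    intro x hx
    obtain ⟨x', hx', rfl⟩ := Subgroup.mem_map.mp hx
    exact Subgroup.mem_subgroupOf.mp (h1 hx')
  -- the stabilizer subgroup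
  let Stab : Subgroup G :=
    { carrier := {g | (∀ x ∈ P, g * x * g⁻¹ ∈ P) ∧ (∀ x ∈ P, g⁻¹ * x * g ∈ P) ∧
        (∀ c ∈ P', g * c = c * g) ∧ (∀ z ∈ C₀, ⁅z, g⁆ ∈ P')}
      mul_mem' := by
        rintro g h ⟨hg1, hg2, hg3, hg4⟩ ⟨hh1, hh2, hh3, hh4⟩
        refine ⟨?_, ?_, ?_, ?_⟩
        · intro x hx
          have := hg1 _ (hh1 x hx)
          have e : g * h * x * (g * h)⁻¹ = g * (h * x * h⁻¹) * g⁻¹ := by group
          rw [e]; exact this
        · intro x hx
          have := hh2 _ (hg2 x hx)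
          have e : (g * h)⁻¹ * x * (g * h) = h⁻¹ * (g⁻¹ * x * g) * h := by group
          rw [e]; exact this
        · intro c hc
          rw [mul_assoc, hh3 c hc, ← mul_assoc, hg3 c hc, mul_assoc]
        · intro z hz
          have e : ⁅z, g * h⁆ = ⁅z, g⁆ * (g * ⁅z, h⁆ * g⁻¹) := by
            simp only [commutatorElement_def]; group
          rw [e]
          have h1 : g * ⁅z, h⁆ * g⁻¹ = ⁅z, h⁆ := by
            rw [hg3 _ (hh4 z hz)]; group
          rw [h1]
          exact P'.mul_mem (hg4 z hz) (hh4 z hz)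
      one_mem' := by
        refine ⟨fun x hx => by simpa using hx, fun x hx => by simpa using hx, fun c _ => by simp, ?_⟩
        intro z _
        simp [commutatorElement_def]
      inv_mem' := by
        rintro g ⟨hg1, hg2, hg3, hg4⟩
        refine ⟨?_, ?_, ?_, ?_⟩
        · intro x hx
          simpa using hg2 x hx
        · intro x hx
          simpa using hg1 x hx
        · intro c hc
          have := hg3 c hc
          calc g⁻¹ * c = g⁻¹ * (c * g) * g⁻¹ := by group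
            _ = g⁻¹ * (g * c) * g⁻¹ := by rw [this]
            _ = c * g⁻¹ := by group
        · intro z hz
          have h1 := hg4 z hz
          have e : ⁅z, g⁻¹⁆ = g⁻¹ * (⁅z, g⁆)⁻¹ * g := by
            simp only [commutatorElement_def]; group
          rw [e]
          have h2 : g⁻¹ * (⁅z, g⁆)⁻¹ * g = (⁅z, g⁆)⁻¹ := by
            have := hg3 _ (P'.inv_mem h1)
            calc g⁻¹ * (⁅z, g⁆)⁻¹ * g = g⁻¹ * ((⁅z, g⁆)⁻¹ * g) := by group
              _ = g⁻¹ * (g * (⁅z, g⁆)⁻¹) := by rw [this]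
              _ = _ := by group
          rw [h2]
          exact P'.inv_mem h1 }
  have hStab_mem : ∀ g, g ∈ Stab ↔ (∀ x ∈ P, g * x * g⁻¹ ∈ P) ∧ (∀ x ∈ P, g⁻¹ * x * g ∈ P) ∧
        (∀ c ∈ P', g * c = c * g) ∧ (∀ z ∈ C₀, ⁅z, g⁆ ∈ P') := fun g => Iff.rfl
  -- H normalizes Stab
  have hHStab : ∀ h ∈ H, ∀ g ∈ Stab, h * g * h⁻¹ ∈ Stab := by
    intro h hh g hg
    rw [hStab_mem] at hg ⊢
    obtain ⟨hg1, hg2, hg3, hg4⟩ := hg
    have hh1 := hHconjP h hh
    have hh2 : ∀ x ∈ P, h⁻¹ * x * h ∈ P := by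
      intro x hx
      simpa using hHconjP h⁻¹ (H.inv_mem hh) x hx
    refine ⟨?_, ?_, ?_, ?_⟩
    · intro x hx
      have := hh1 _ (hg1 _ (hh2 x hx))
      have e : h * g * h⁻¹ * x * (h * g * h⁻¹)⁻¹ = h * (g * (h⁻¹ * x * h) * g⁻¹) * h⁻¹ := by group
      rw [e]; exact this
    · intro x hx
      have := hh1 _ (hg2 _ (hh2 x hx))
      have e : (h * g * h⁻¹)⁻¹ * x * (h * g * h⁻¹) = h * (g⁻¹ * (h⁻¹ * x * h) * g) * h⁻¹ := by group
      rw [e]; exact this
    · intro c hc
      have hc' : h⁻¹ * c * h ∈ P' := by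
        have := hconjP' h⁻¹ (fun x hx => by simpa using hh2 x hx) c hc
        simpa using this
      have := hg3 _ hc'
      calc h * g * h⁻¹ * c = h * (g * (h⁻¹ * c * h)) * h⁻¹ := by group
        _ = h * ((h⁻¹ * c * h) * g) * h⁻¹ := by rw [this]
        _ = _ := by group
    · intro z hz
      have hz' : h⁻¹ * z * h ∈ C₀ := by
        have := hconjC₀ h⁻¹ (fun x hx => by simpa using hh2 x hx) z hz
        simpa using this
      have h1 := hconjP' h hh1 _ (hg4 _ hz')
      have e : ⁅z, h * g * h⁻¹⁆ = h * ⁅h⁻¹ * z * h, g⁆ * h⁻¹ := by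
        simp only [commutatorElement_def]; group
      rw [e]; exact h1
  -- Y ≤ Stab
  have hYStab : Y ≤ Stab := by
    intro y hy
    rw [hStab_mem]
    have hyH := hYH hy
    have hy3 : ∀ c ∈ P', y * c = c * y := by
      intro c hc
      exact (Subgroup.mem_centralizer_iff.mp (hYc hy) c hc).symm
    refine ⟨hHconjP y hyH, ?_, hy3, ?_⟩
    · intro x hx
      simpa using hHconjP y⁻¹ (H.inv_mem hyH) x hx
    · intro z hz
      have : z ∈ P ∧ ⁅z, y⁆ ∈ P' := by
        induction hz using Subgroup.closure_induction with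
        | mem z hz =>
          rcases hz with hz | ⟨a, ha, rfl⟩
          · refine ⟨hP'P hz, ?_⟩
            have h1 := hy3 z⁻¹ (P'.inv_mem hz)
            have e : ⁅z, y⁆ = z * (y * z⁻¹) * y⁻¹ := by rw [commutatorElement_def]; group
            rw [e, h1]
            have : z * (z⁻¹ * y) * y⁻¹ = 1 := by group
            rw [this]; exact P'.one_mem
          · refine ⟨P.pow_mem ha p, ?_⟩
            set w := a⁻¹ * (y * a * y⁻¹) with hw
            have hwP : w ∈ P := P.mul_mem (P.inv_mem ha) (hHconjP y hyH a ha)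
            have hwW : w ∈ ⁅P, Y⁆ := by
              have : w = ⁅a⁻¹, y⁆ := by rw [hw, commutatorElement_def]; group
              rw [this]
              exact Subgroup.commutator_mem_commutator (P.inv_mem ha) hy
            have hwp : w ^ p = 1 := hel.2 w hwW
            have h1 := mul_pow_mod_commutator P a w ha hwP p
            rw [hwp, mul_one] at h1
            have h2 : y * a * y⁻¹ = a * w := by rw [hw]; group
            have h3 : y * a ^ p * y⁻¹ = (a * w) ^ p := by rw [← h2, conj_pow]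
            have e : ⁅a ^ p, y⁆ = ((a * w) ^ p * (a ^ p)⁻¹)⁻¹ := by
              rw [commutatorElement_def, ← h3]; group
            rw [e]
            exact P'.inv_mem h1
        | one =>
          refine ⟨P.one_mem, ?_⟩
          simp [commutatorElement_def]
        | mul z₁ z₂ _ _ ih₁ ih₂ =>
          refine ⟨P.mul_mem ih₁.1 ih₂.1, ?_⟩
          have e : ⁅z₁ * z₂, y⁆ = z₁ * ⁅z₂, y⁆ * z₁⁻¹ * ⁅z₁, y⁆ := by
            simp only [commutatorElement_def]; group
          rw [e]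
          exact P'.mul_mem (hconjP' z₁ (hPconjP z₁ ih₁.1) _ ih₂.2) ih₁.2
        | inv z _ ih =>
          refine ⟨P.inv_mem ih.1, ?_⟩
          have e : ⁅z⁻¹, y⁆ = z⁻¹ * (⁅z, y⁆)⁻¹ * z⁻¹⁻¹ := by
            simp only [commutatorElement_def]; group
          rw [e]
          exact hconjP' z⁻¹ (hPconjP z⁻¹ (P.inv_mem ih.1)) _ (P'.inv_mem ih.2)
      exact this.2
  -- NY ≤ Stab
  have hNYStab : NY ≤ Stab := by
    have hn : (Stab.subgroupOf H).Normal := by
      refine ⟨fun n hn g => ?_⟩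
      rw [Subgroup.mem_subgroupOf] at hn ⊢
      simpa using hHStab g g.2 n hn
    have h1 : Subgroup.normalClosure ((Y.subgroupOf H : Subgroup ↥H) : Set ↥H) ≤ Stab.subgroupOf H := by
      apply Subgroup.normalClosure_le_normal
      intro x hx
      rw [SetLike.mem_coe, Subgroup.mem_subgroupOf] at hx ⊢
      exact hYStab hx
    rw [hNY]
    intro x hx
    obtain ⟨x', hx', rfl⟩ := Subgroup.mem_map.mp hx
    exact Subgroup.mem_subgroupOf.mp (h1 hx')
  rw [map_pResidual_subtype, Subgroup.closure_le]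
  intro x hx
  obtain ⟨hxN, hxc⟩ := hx
  have hxS := (hStab_mem x).mp (hNYStab hxN)
  obtain ⟨-, -, hx3, hx4⟩ := hxS
  have h1 := stab_step x hxc C₀ P' hx4 hx3 (by
    intro z hz
    obtain ⟨k, hk⟩ := (IsPGroup.iff_orderOf.mp hP) ⟨z, hP'P hz⟩
    exact ⟨k, by rw [← hk]; exact (Subgroup.orderOf_mk z (hP'P hz)).symm⟩)
  rw [SetLike.mem_coe, Subgroup.mem_centralizer_iff]
  intro φ hφ
  exact (h1 φ (hΦ hφ)).symm

end Cfsg.Agent.Lib.Helper4_FrattiniCent
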