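import Mathlib
import Cfsg.Agent.Lib.Helper4_PReduced5

namespace Cfsg.Agent.Lib.Helper4_Fusion

open Cfsg

theorem even_index_of_inverted {G : Type*} [Group G] [Finite G] {p : ℕ} [Fact p.Prime]
    (P : Sylow p G) (hP : IsMulCommutative (P : Subgroup G)) (x : G) (hx : x ∈ (P : Subgroup G))
    (hx2 : x ≠ x⁻¹) (hconj : IsConj x x⁻¹) :
    2 ∣ ((Subgroup.centralizer ((P : Subgroup G) : Set G)).subgroupOf
      (Subgroup.normalizer ((P : Subgroup G) : Set G))).index := by
  obtain ⟨c, hc⟩ := isConj_iff.mp hconj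
  have hcent : ∀ y ∈ (P : Subgroup G), y ∈ Subgroup.centralizer ((P : Subgroup G) : Set G) := by
    intro y hy
    rw [Subgroup.mem_centralizer_iff]
    intro q hq
    exact congrArg Subtype.val (hP.is_comm.comm (⟨q, hq⟩ : (P : Subgroup G)) ⟨y, hy⟩)
  have hy : (c⁻¹)⁻¹ * x * c⁻¹ ∈ Subgroup.centralizer ((P : Subgroup G) : Set G) := by
    rw [inv_inv, hc]
    exact hcent _ (inv_mem hx)
  obtain ⟨g, hgN, hg⟩ := P.conj_eq_normalizer_conj_of_mem_centralizer x c⁻¹ (hcent x hx) hy
  rw [inv_inv, hc] at hg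
  -- hg : x⁻¹ = g⁻¹ * x * g
  set N := Subgroup.normalizer ((P : Subgroup G) : Set G) with hN
  set C := Subgroup.centralizer ((P : Subgroup G) : Set G) with hC
  have hCn : (C.subgroupOf N).Normal := by
    rw [Subgroup.normal_subgroupOf_iff_le_normalizer (Subgroup.centralizer_le_normalizer _)]
    exact Cfsg.Agent.Lib.Helper4_PReduced5.normalizer_le_normalizer_centralizer _
  set gb : ↥N ⧸ C.subgroupOf N := QuotientGroup.mk ⟨g, hgN⟩ with hgb
  have h1 : orderOf gb ∣ (C.subgroupOf N).index := by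
    rw [Subgroup.index_eq_card]
    exact orderOf_dvd_natCard gb
  refine dvd_trans ?_ h1
  by_contra hodd
  have hodd' : orderOf gb % 2 = 1 := by omega
  have hgm : g ^ orderOf gb ∈ C := by
    have : gb ^ orderOf gb = 1 := pow_orderOf_eq_one gb
    rw [hgb, ← QuotientGroup.mk_pow, QuotientGroup.eq_one_iff, Subgroup.mem_subgroupOf] at this
    simpa using this
  have hg2 : Commute (g ^ 2) x := by
    have h2 : g⁻¹ * x⁻¹ * g = x := by
      have : g⁻¹ * x⁻¹ * g = (g⁻¹ * x * g)⁻¹ := by group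
      rw [this, ← hg, inv_inv]
    show g ^ 2 * x = x * g ^ 2
    have hA : g * x⁻¹ = x * g := by rw [hg]; group
    have hB : g * x = x⁻¹ * g := by
      calc g * x = g * (g⁻¹ * x⁻¹ * g) := by rw [h2]
        _ = x⁻¹ * g := by group
    rw [pow_two]
    calc g * g * x = g * (g * x) := by rw [mul_assoc]
      _ = g * (x⁻¹ * g) := by rw [hB]
      _ = (g * x⁻¹) * g := by rw [mul_assoc]
      _ = (x * g) * g := by rw [hA]
      _ = x * (g * g) := by rw [mul_assoc]
  have hm : g ^ orderOf gb = (g ^ 2) ^ (orderOf gb / 2) * g := by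
    rw [← pow_mul, ← pow_succ]
    congr 1
    omega
  have hcm : Commute (g ^ orderOf gb) x := by
    have := Subgroup.mem_centralizer_iff.mp hgm x hx
    exact this.symm
  have hgx : Commute g x := by
    have h3 : Commute ((g ^ 2) ^ (orderOf gb / 2)) x := hg2.pow_left _
    rw [hm] at hcm
    have : Commute (((g ^ 2) ^ (orderOf gb / 2))⁻¹ * ((g ^ 2) ^ (orderOf gb / 2) * g)) x :=
      (h3.inv_left).mul_left hcm
    simpa using this
  apply hx2
  have : g⁻¹ * x * g = x := by
    rw [mul_assoc, ← hgx.eq, ← mul_assoc, inv_mul_cancel, one_mul]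
  rw [hg, this]

end Cfsg.Agent.Lib.Helper4_Fusion
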