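import Mathlib
import Cfsg.Prelude.Def_LocalStructure
import Cfsg.Agent.Lib.Helper4_ChainStab

namespace Cfsg.Agent.Lib.Helper4_Fusion3
open Cfsg Cfsg.Agent.Lib.Helper4_Fusion2 Cfsg.Agent.Lib.Helper4_Stab Cfsg.Agent.Lib.Helper4_Subnormal
  Cfsg.Agent.Lib.Helper4_PIrred Cfsg.Agent.Lib.Helper4_PReduced4 Cfsg.Agent.Lib.Helper4_PReduced5
  Cfsg.Agent.Lib.Helper4_OrbitProd Cfsg.Agent.Lib.Helper4_ChainStab
open scoped commutatorElement

variable {G : Type*} [Group G]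

theorem step_fn [Finite G] {p : ℕ} [Fact p.Prime] (S : Sylow p G) (A : Subgroup G)
    (hAcomm : ∀ a ∈ A, ∀ b ∈ A, a * b = b * a) (hAS : A ≤ (S : Subgroup G))
    (hsc : ∀ x ∈ A, ∀ g : G, g * x * g⁻¹ ∈ (S : Subgroup G) → g * x * g⁻¹ ∈ A)
    (D₁ : Subgroup G) (hD₁S : D₁ ≤ (S : Subgroup G)) (hAD : ¬ A ≤ D₁) (g₁ : G)
    (Ds : Subgroup G) (hDs : Ds = D₁.map (MulAut.conj g₁).toMonoidHom)
    (hDsS : Ds ≤ (S : Subgroup G))
    (hfn : ¬ p ∣ ((S : Subgroup G) ⊓ Subgroup.normalizer (Ds : Set G)).relIndex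
      (Subgroup.normalizer (Ds : Set G)))
    (IH : ∀ D₂ : Subgroup G, D₂ ≤ (S : Subgroup G) → Nat.card D₁ < Nat.card D₂ → ∀ g : G,
      (∀ e ∈ D₂, g * e * g⁻¹ ∈ (S : Subgroup G)) →
        ∃ x ∈ Subgroup.normalizer (A : Set G), ∀ e ∈ D₂, x * e * x⁻¹ = g * e * g⁻¹) :
    ∃ x ∈ Subgroup.normalizer (A : Set G), ∀ d ∈ D₁, x * d * x⁻¹ = g₁ * d * g₁⁻¹ := by
  have hp : p.Prime := Fact.out
  have hSp : IsPGroup p (S : Subgroup G) := S.isPGroup'
  -- A normal in S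
  have hSA : ∀ s ∈ (S : Subgroup G), ∀ a ∈ A, s * a * s⁻¹ ∈ A := by
    intro s hs a ha
    apply hsc a ha s
    exact Subgroup.mul_mem _ (Subgroup.mul_mem _ hs (hAS ha)) (Subgroup.inv_mem _ hs)
  have hSNA : (S : Subgroup G) ≤ Subgroup.normalizer (A : Set G) :=
    le_normalizer_of_conj_mem' _ _ hSA
  have hDsmem : ∀ x, x ∈ Ds ↔ g₁⁻¹ * x * g₁ ∈ D₁ := by
    intro x; rw [hDs, mem_conj_iff]
  have hDsconj : ∀ d ∈ D₁, g₁ * d * g₁⁻¹ ∈ Ds := by
    intro d hd; rw [hDs]; exact conj_mem_conj D₁ g₁ d hd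
  -- A₀ and D₂
  set A₀ := A ⊓ Subgroup.normalizer (D₁ : Set G) with hA₀
  set D₂ := D₁ ⊔ A₀ with hD₂
  have hA₀S : A₀ ≤ (S : Subgroup G) := inf_le_left.trans hAS
  have hD₂S : D₂ ≤ (S : Subgroup G) := sup_le hD₁S hA₀S
  have hcard : Nat.card D₁ < Nat.card D₂ := by
    by_contra hge
    push Not at hge
    have heq : D₁ = D₂ := Subgroup.eq_of_le_of_card_ge le_sup_left hge
    obtain ⟨a, haA, haN, haD⟩ := exists_normalizer_mem_not_mem (S : Subgroup G) A D₁ hSp hAS hD₁S hSNA hAD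
    apply haD
    rw [heq]
    exact (le_sup_right : A₀ ≤ D₂) (Subgroup.mem_inf.mpr ⟨haA, haN⟩)
  have hD₂mem : ∀ e ∈ D₂, ∃ d ∈ D₁, ∃ a ∈ A₀, e = d * a :=
    mem_sup_of_normalizes D₁ A₀ inf_le_right
  -- the local subgroups
  set N := Subgroup.normalizer (Ds : Set G) with hN
  set Z := Ds ⊓ A with hZ
  set N₁ := N ⊓ Subgroup.normalizer (Z : Set G) with hN₁
  set Q := (S : Subgroup G) ⊓ N with hQ
  set C := Subgroup.centralizer (Ds : Set G) with hC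
  have hQp : IsPGroup p Q := hSp.to_inf_left
  have hQN₁ : Q ≤ N₁ := by
    intro q hq
    rw [hQ, Subgroup.mem_inf] at hq
    rw [hN₁, Subgroup.mem_inf]
    refine ⟨hq.2, ?_⟩
    rw [Subgroup.mem_normalizer_iff]
    intro z
    rw [hZ, Subgroup.mem_inf, Subgroup.mem_inf]
    have h1 := Subgroup.mem_normalizer_iff.mp hq.2 z
    have h2 := Subgroup.mem_normalizer_iff.mp (hSNA hq.1) z
    rw [h1, h2]
  have hN₁N : N₁ ≤ N := inf_le_left
  have hidx₁ : ¬ p ∣ Q.relIndex N₁ := by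
    intro h
    apply hfn
    rw [← Subgroup.relIndex_mul_relIndex Q N₁ N hQN₁ hN₁N]
    exact Dvd.dvd.mul_right h _
  have hCN₁ : C ≤ N₁ := by
    intro c hc
    rw [hC, Subgroup.mem_centralizer_iff] at hc
    have hcconj : ∀ z ∈ Ds, c * z * c⁻¹ = z := by
      intro z hz
      rw [← hc z hz]; group
    rw [hN₁, Subgroup.mem_inf]
    constructor
    · apply Subgroup.mem_normalizer_fintype
      intro z hz
      rw [hcconj z hz]; exact hz
    · apply Subgroup.mem_normalizer_fintype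
      intro z hz
      rw [hcconj z (Subgroup.mem_inf.mp hz).1]; exact hz
  -- the stability group
  set K := chainStab Ds Z with hK
  have hZDs : Z ≤ Ds := inf_le_left
  have hZp : IsPGroup p Z := hSp.to_le (hZDs.trans hDsS)
  have hKN : K ≤ N := chainStab_le_normalizer Ds Z hZDs
  have hKN₁ : K ≤ N₁ := by
    intro k hk
    rw [hN₁, Subgroup.mem_inf]
    refine ⟨hKN hk, ?_⟩
    apply Subgroup.mem_normalizer_fintype
    intro z hz
    rw [hk.1 z hz]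
    simpa using hz
  have hN₁K : N₁ ≤ Subgroup.normalizer (K : Set G) := by
    apply le_normalizer_of_conj_mem'
    intro n hn k hk
    rw [hN₁, Subgroup.mem_inf] at hn
    have hn1 := Subgroup.mem_normalizer_iff.mp hn.1
    have hn2 := Subgroup.mem_normalizer_iff.mp hn.2
    have hn1' := Subgroup.mem_normalizer_iff.mp (Subgroup.inv_mem _ hn.1)
    have hn2' := Subgroup.mem_normalizer_iff.mp (Subgroup.inv_mem _ hn.2)
    apply chainStab_conj_mem Ds Z n _ _ _ k hk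
    · intro z hz
      have := (hn1' z).mp hz
      simpa using this
    · intro c hc
      have := (hn2' c).mp hc
      simpa using this
    · intro c hc
      exact (hn2 c).mp hc
  -- Sylow subgroup of K
  let SN₁ : Sylow p ↥N₁ := (hQp.comap_subtype (K := N₁)).toSylow hidx₁
  have hSN₁ : (SN₁ : Subgroup ↥N₁).map N₁.subtype = Q := by
    have : (SN₁ : Subgroup ↥N₁) = Q.subgroupOf N₁ := IsPGroup.toSylow_coe _ hidx₁
    rw [this, Subgroup.subgroupOf_map_subtype, inf_of_le_left hQN₁]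
  obtain ⟨PK, hPK⟩ := exists_sylow_eq_subgroupOf_rel N₁ K hKN₁ hN₁K SN₁
  rw [hSN₁] at hPK
  have hKQC : ∀ k ∈ K, ∃ s ∈ Q, ∃ r ∈ C, k = s * r := by
    intro k hk
    obtain ⟨s, hs, r, hr, hksr⟩ := exists_mul_of_sylow_pResidual K PK k hk
    refine ⟨s, ?_, r, ?_, hksr⟩
    · obtain ⟨s', hs', rfl⟩ := Subgroup.mem_map.mp hs
      rw [hPK, Subgroup.mem_subgroupOf] at hs'
      exact hs'
    · rw [map_pResidual_subtype] at hr
      have hle : Subgroup.closure {x : G | x ∈ K ∧ Nat.Coprime (orderOf x) p} ≤ C := by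
        rw [Subgroup.closure_le]
        intro x hx
        exact chainStab_coprime_centralizes Ds Z hZp x hx.1 hx.2
      exact hle hr
  -- U = image of D₂
  set U := D₂.map (MulAut.conj g₁).toMonoidHom with hU
  have hUp : IsPGroup p U := (hSp.to_le hD₂S).map _
  have hQX : Q ≤ C ⊔ Q := le_sup_right
  have hXN₁ : C ⊔ Q ≤ N₁ := sup_le hCN₁ hQN₁
  have hidxX : ¬ p ∣ Q.relIndex (C ⊔ Q) := by
    intro h
    apply hidx₁
    rw [← Subgroup.relIndex_mul_relIndex Q (C ⊔ Q) N₁ hQX hXN₁]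
    exact Dvd.dvd.mul_right h _
  have hDsQ : Ds ≤ Q := le_inf hDsS Subgroup.le_normalizer
  have hUX : U ≤ C ⊔ Q := by
    intro u hu
    obtain ⟨e, he, rfl⟩ := Subgroup.mem_map.mp hu
    simp only [MulEquiv.coe_toMonoidHom, MulAut.conj_apply]
    obtain ⟨d, hd, a, ha, rfl⟩ := hD₂mem e he
    have e1 : g₁ * (d * a) * g₁⁻¹ = (g₁ * d * g₁⁻¹) * (g₁ * a * g₁⁻¹) := by group
    rw [e1]
    apply Subgroup.mul_mem
    · exact hQX (hDsQ (hDsconj d hd))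
    · -- k := g₁ a g₁⁻¹ ∈ K
      rw [hA₀, Subgroup.mem_inf] at ha
      have hk : g₁ * a * g₁⁻¹ ∈ K := by
        rw [hK, mem_chainStab]
        constructor
        · intro z hz
          rw [hZ, Subgroup.mem_inf] at hz
          have hz₀D : g₁⁻¹ * z * g₁ ∈ D₁ := (hDsmem z).mp hz.1
          have hz₀A : g₁⁻¹ * z * g₁ ∈ A := by
            have := hsc z hz.2 g₁⁻¹ (by simpa using hD₁S hz₀D)
            simpa using this
          have := hAcomm a ha.1 _ hz₀A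
          calc g₁ * a * g₁⁻¹ * z = g₁ * (a * (g₁⁻¹ * z * g₁)) * g₁⁻¹ := by group
            _ = g₁ * ((g₁⁻¹ * z * g₁) * a) * g₁⁻¹ := by rw [this]
            _ = _ := by group
        · intro d' hd'
          have hd₀ : g₁⁻¹ * d' * g₁ ∈ D₁ := (hDsmem d').mp hd'
          set d₀ := g₁⁻¹ * d' * g₁ with hd₀def
          have hcomm_A : ⁅d₀, a⁆ ∈ A := by
            rw [commutatorElement_def]
            exact A.mul_mem (hSA d₀ (hD₁S hd₀) a ha.1) (A.inv_mem ha.1)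
          have hcomm_D : ⁅d₀, a⁆ ∈ D₁ := by
            have h1 : a * d₀⁻¹ * a⁻¹ ∈ D₁ :=
              (Subgroup.mem_normalizer_iff.mp ha.2 d₀⁻¹).mp (D₁.inv_mem hd₀)
            have e2 : ⁅d₀, a⁆ = d₀ * (a * d₀⁻¹ * a⁻¹) := by rw [commutatorElement_def]; group
            rw [e2]; exact D₁.mul_mem hd₀ h1
          have e3 : ⁅d', g₁ * a * g₁⁻¹⁆ = g₁ * ⁅d₀, a⁆ * g₁⁻¹ := by
            rw [hd₀def]; simp only [commutatorElement_def]; group
          rw [e3, hZ, Subgroup.mem_inf]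
          have h4 : g₁ * ⁅d₀, a⁆ * g₁⁻¹ ∈ Ds := hDsconj _ hcomm_D
          exact ⟨h4, hsc _ hcomm_A g₁ (hDsS h4)⟩
      obtain ⟨s, hs, r, hr, hksr⟩ := hKQC _ hk
      rw [hksr]
      exact Subgroup.mul_mem _ (hQX hs) ((le_sup_left : C ≤ C ⊔ Q) hr)
  obtain ⟨y, hyX, hyU⟩ := sylow_conj_rel (C ⊔ Q) Q U hQX hQp hidxX hUX hUp
  -- decompose y = q' c'
  have hQNC : Q ≤ Subgroup.normalizer (C : Set G) :=
    (inf_le_right : Q ≤ N).trans (normalizer_le_normalizer_centralizer Ds)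
  obtain ⟨c, hc, q, hq, hycq⟩ := mem_sup_of_normalizes C Q hQNC y⁻¹ (Subgroup.inv_mem _ hyX)
  have hy_eq : y = q⁻¹ * c⁻¹ := by
    have : y = (y⁻¹)⁻¹ := by simp
    rw [this, hycq]; group
  have hc'U : ∀ u ∈ U, c⁻¹ * u * c⁻¹⁻¹ ∈ Q := by
    intro u hu
    have h1 := hyU u hu
    rw [hy_eq] at h1
    have h2 : q * (q⁻¹ * c⁻¹ * u * (q⁻¹ * c⁻¹)⁻¹) * q⁻¹ ∈ Q :=
      Q.mul_mem (Q.mul_mem hq h1) (Q.inv_mem hq)
    have e : q * (q⁻¹ * c⁻¹ * u * (q⁻¹ * c⁻¹)⁻¹) * q⁻¹ = c⁻¹ * u * c⁻¹⁻¹ := by group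
    rwa [e] at h2
  -- apply IH
  obtain ⟨x, hxN, hx⟩ := IH D₂ hD₂S hcard (c⁻¹ * g₁) (by
    intro e he
    have h1 := hc'U _ (conj_mem_conj D₂ g₁ e he)
    have e1 : c⁻¹ * g₁ * e * (c⁻¹ * g₁)⁻¹ = c⁻¹ * (g₁ * e * g₁⁻¹) * c⁻¹⁻¹ := by group
    rw [e1]
    exact (inf_le_left : Q ≤ (S : Subgroup G)) h1)
  refine ⟨x, hxN, ?_⟩
  intro d hd
  rw [hx d ((le_sup_left : D₁ ≤ D₂) hd)]
  have hcC : c⁻¹ ∈ C := C.inv_mem hc
  rw [hC, Subgroup.mem_centralizer_iff] at hcC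
  have := hcC _ (hDsconj d hd)
  calc c⁻¹ * g₁ * d * (c⁻¹ * g₁)⁻¹ = c⁻¹ * (g₁ * d * g₁⁻¹) * c := by group
    _ = (g₁ * d * g₁⁻¹) * c⁻¹ * c := by rw [← this]
    _ = _ := by group

end Cfsg.Agent.Lib.Helper4_Fusion3
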