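import Mathlib
import Cfsg.Prelude.Def_LocalStructure
import Cfsg.Agent.Lib.Helper4_Fusion3

namespace Cfsg.Agent.Lib.Helper4_Fusion4
open Cfsg Cfsg.Agent.Lib.Helper4_Fusion2 Cfsg.Agent.Lib.Helper4_Stab Cfsg.Agent.Lib.Helper4_Subnormal
  Cfsg.Agent.Lib.Helper4_PIrred Cfsg.Agent.Lib.Helper4_PReduced4 Cfsg.Agent.Lib.Helper4_PReduced5
  Cfsg.Agent.Lib.Helper4_OrbitProd Cfsg.Agent.Lib.Helper4_ChainStab Cfsg.Agent.Lib.Helper4_Fusion3
open scoped commutatorElement

variable {G : Type*} [Group G]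

theorem fusion_claim [Finite G] {p : ℕ} [Fact p.Prime] (S : Sylow p G) (A : Subgroup G)
    (hAcomm : ∀ a ∈ A, ∀ b ∈ A, a * b = b * a) (hAS : A ≤ (S : Subgroup G))
    (hsc : ∀ x ∈ A, ∀ g : G, g * x * g⁻¹ ∈ (S : Subgroup G) → g * x * g⁻¹ ∈ A) :
    ∀ n : ℕ, ∀ D : Subgroup G, D ≤ (S : Subgroup G) → Nat.card (S : Subgroup G) - Nat.card D = n →
      ∀ g : G, (∀ d ∈ D, g * d * g⁻¹ ∈ (S : Subgroup G)) →
        ∃ x ∈ Subgroup.normalizer (A : Set G), ∀ d ∈ D, x * d * x⁻¹ = g * d * g⁻¹ := by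
  intro n
  induction n using Nat.strong_induction_on with
  | _ n ih =>
    intro D hDS hn g hg
    -- IH in convenient form
    have IH : ∀ D₂ : Subgroup G, D₂ ≤ (S : Subgroup G) → Nat.card D < Nat.card D₂ → ∀ g : G,
        (∀ e ∈ D₂, g * e * g⁻¹ ∈ (S : Subgroup G)) →
          ∃ x ∈ Subgroup.normalizer (A : Set G), ∀ e ∈ D₂, x * e * x⁻¹ = g * e * g⁻¹ := by
      intro D₂ hD₂S hlt g₂ hg₂
      have hle : Nat.card D₂ ≤ Nat.card (S : Subgroup G) := Subgroup.card_le_of_le hD₂S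
      exact ih (Nat.card (S : Subgroup G) - Nat.card D₂) (by omega) D₂ hD₂S rfl g₂ hg₂
    by_cases hAD : A ≤ D
    · refine ⟨g, ?_, fun d _ => rfl⟩
      apply Subgroup.mem_normalizer_fintype
      intro a ha
      exact hsc a ha g (hg a (hAD ha))
    · -- fully normalized conjugate
      obtain ⟨h, hhS, hfn⟩ := exists_fully_normalized S D hDS
      set Ds := D.map (MulAut.conj h).toMonoidHom with hDs
      obtain ⟨x₁, hx₁N, hx₁⟩ := step_fn S A hAcomm hAS hsc D hDS hAD h Ds hDs hhS hfn IH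
      -- D' = g D g⁻¹
      set D' := D.map (MulAut.conj g).toMonoidHom with hD'
      have hD'S : D' ≤ (S : Subgroup G) := by
        intro x hx
        obtain ⟨d, hd, rfl⟩ := Subgroup.mem_map.mp hx
        simpa using hg d hd
      have hcardD' : Nat.card D' = Nat.card D :=
        Subgroup.card_map_of_injective (f := (MulAut.conj g).toMonoidHom) (MulAut.conj g).injective
      have hAD' : ¬ A ≤ D' := by
        intro hle
        apply hAD
        -- g⁻¹ A g ≤ D ≤ S so g⁻¹ normalizes A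
        have h1 : ∀ a ∈ A, g⁻¹ * a * g⁻¹⁻¹ ∈ D := by
          intro a ha
          have := (mem_conj_iff D g a).mp (hle ha)
          simpa using this
        have h2 : g⁻¹ ∈ Subgroup.normalizer (A : Set G) := by
          apply Subgroup.mem_normalizer_fintype
          intro a ha
          exact hsc a ha g⁻¹ (hDS (h1 a ha))
        intro a ha
        have h3 : g * a * g⁻¹ ∈ A := (Subgroup.mem_normalizer_iff.mp (inv_mem_iff.mp h2) a).mp ha
        have := h1 _ h3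
        have e : g⁻¹ * (g * a * g⁻¹) * g⁻¹⁻¹ = a := by group
        rwa [e] at this
      have hDs' : Ds = D'.map (MulAut.conj (h * g⁻¹)).toMonoidHom := by
        ext x
        rw [hDs, mem_conj_iff, mem_conj_iff, hD', mem_conj_iff]
        have e : g⁻¹ * ((h * g⁻¹)⁻¹ * x * (h * g⁻¹)) * g = h⁻¹ * x * h := by group
        rw [e]
      have IH' : ∀ D₂ : Subgroup G, D₂ ≤ (S : Subgroup G) → Nat.card D' < Nat.card D₂ → ∀ g : G,
          (∀ e ∈ D₂, g * e * g⁻¹ ∈ (S : Subgroup G)) →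
            ∃ x ∈ Subgroup.normalizer (A : Set G), ∀ e ∈ D₂, x * e * x⁻¹ = g * e * g⁻¹ := by
        intro D₂ hD₂S hlt
        rw [hcardD'] at hlt
        exact IH D₂ hD₂S hlt
      obtain ⟨x₂, hx₂N, hx₂⟩ := step_fn S A hAcomm hAS hsc D' hD'S hAD' (h * g⁻¹) Ds hDs' hhS hfn IH'
      refine ⟨x₂⁻¹ * x₁, Subgroup.mul_mem _ (Subgroup.inv_mem _ hx₂N) hx₁N, ?_⟩
      intro d hd
      have h1 := hx₁ d hd
      have h2 := hx₂ (g * d * g⁻¹) (conj_mem_conj D g d hd)
      have e2 : h * g⁻¹ * (g * d * g⁻¹) * (h * g⁻¹)⁻¹ = h * d * h⁻¹ := by group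
      rw [e2] at h2
      calc x₂⁻¹ * x₁ * d * (x₂⁻¹ * x₁)⁻¹ = x₂⁻¹ * (x₁ * d * x₁⁻¹) * x₂ := by group
        _ = x₂⁻¹ * (h * d * h⁻¹) * x₂ := by rw [h1]
        _ = x₂⁻¹ * (x₂ * (g * d * g⁻¹) * x₂⁻¹) * x₂ := by rw [h2]
        _ = _ := by group

theorem controls [Finite G] {p : ℕ} [Fact p.Prime] (S : Sylow p G) (A : Subgroup G)
    (hA : IsMulCommutative ↥A) (hsc : Cfsg.IsStronglyClosed A (S : Subgroup G)) :
    Cfsg.ControlsStrongFusion p A := by
  obtain ⟨hAS, hsc'⟩ := hsc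
  have hAcomm : ∀ a ∈ A, ∀ b ∈ A, a * b = b * a := by
    intro a ha b hb
    have := hA.is_comm.comm (⟨a, ha⟩ : A) ⟨b, hb⟩
    exact congrArg (fun x : A => (x : G)) this
  refine ⟨S, hAS, ?_⟩
  intro B hB
  refine ⟨hB, ?_⟩
  intro g hg
  set D := Subgroup.closure B with hD
  have hDS : D ≤ (S : Subgroup G) := by rw [hD, Subgroup.closure_le]; exact hB
  have hgD : ∀ d ∈ D, g * d * g⁻¹ ∈ (S : Subgroup G) := by
    have : D ≤ (S : Subgroup G).comap (MulAut.conj g).toMonoidHom := by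
      rw [hD, Subgroup.closure_le]
      intro b hb
      rw [SetLike.mem_coe, Subgroup.mem_comap]
      simp only [MulEquiv.coe_toMonoidHom, MulAut.conj_apply]
      exact hg ⟨b, hb, rfl⟩
    intro d hd
    have := this hd
    rw [Subgroup.mem_comap] at this
    simpa using this
  obtain ⟨x, hxN, hx⟩ := fusion_claim S A hAcomm hAS hsc' _ D hDS rfl g hgD
  exact ⟨x, hxN, fun a ha => (hx a (Subgroup.subset_closure ha)).symm⟩

end Cfsg.Agent.Lib.Helper4_Fusion4
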