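import Mathlib

namespace Cfsg.Agent.Lib.Helper4_GL2

open Matrix

variable {F : Type*} [Field F]

/-- a nonzero square-zero `N`: `1 + N` is conjugate to the standard transvection -/
theorem conj_J (g : GL (Fin 2) F) (hN : (g.val - 1) ≠ 0) (hN2 : (g.val - 1) * (g.val - 1) = 0) :
    IsConj g (GeneralLinearGroup.mkOfDetNeZero !![(1:F),1;0,1] (by simp [det_fin_two])) := by
  set J : GL (Fin 2) F := GeneralLinearGroup.mkOfDetNeZero !![(1:F),1;0,1] (by simp [det_fin_two])
    with hJ
  set N := g.val - 1 with hNdef
  have hg : g.val = N + 1 := by rw [hNdef]; abel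
  set x := N 0 0 with hx
  set y := N 0 1 with hy
  set z := N 1 0 with hz
  set w := N 1 1 with hw
  have hNeta : N = !![x, y; z, w] := Matrix.eta_fin_two N
  have h00 : x * x + y * z = 0 := by
    have := congrFun (congrFun hN2 0) 0
    rw [hNeta] at this
    simpa [Matrix.mul_apply, Fin.sum_univ_two] using this
  have h01 : x * y + y * w = 0 := by
    have := congrFun (congrFun hN2 0) 1
    rw [hNeta] at this
    simpa [Matrix.mul_apply, Fin.sum_univ_two] using this
  have h10 : z * x + w * z = 0 := by
    have := congrFun (congrFun hN2 1) 0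
    rw [hNeta] at this
    simpa [Matrix.mul_apply, Fin.sum_univ_two] using this
  have h11 : z * y + w * w = 0 := by
    have := congrFun (congrFun hN2 1) 1
    rw [hNeta] at this
    simpa [Matrix.mul_apply, Fin.sum_univ_two] using this
  have hone : (1 : Matrix (Fin 2) (Fin 2) F) = !![1, 0; 0, 1] := by
    ext i j; fin_cases i <;> fin_cases j <;> simp
  have hgeta : g.val = !![x + 1, y; z, w + 1] := by
    rw [hg, hNeta, hone]
    ext i j; fin_cases i <;> fin_cases j <;> simp
  rw [isConj_iff]
  by_cases hz0 : z = 0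
  · -- case B
    have hx0 : x = 0 := by
      rw [hz0, mul_zero, add_zero] at h00
      exact mul_self_eq_zero.mp h00
    have hw0 : w = 0 := by
      rw [hz0, zero_mul, zero_add] at h11
      exact mul_self_eq_zero.mp h11
    have hy0 : y ≠ 0 := by
      intro hy0
      apply hN
      rw [hNeta, hx0, hy0, hz0, hw0]
      ext i j; fin_cases i <;> fin_cases j <;> simp
    set P : GL (Fin 2) F := GeneralLinearGroup.mkOfDetNeZero !![y, 0; 0, 1]
      (by simp [det_fin_two, hy0]) with hP
    refine ⟨P⁻¹, ?_⟩
    rw [inv_inv, mul_assoc, inv_mul_eq_iff_eq_mul]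
    apply Units.ext
    show g.val * P.val = P.val * J.val
    rw [hgeta, hx0, hz0, hw0]
    simp only [hP, hJ, GeneralLinearGroup.mkOfDetNeZero]
    show !![(0:F) + 1, y; 0, 0 + 1] * !![y, 0; 0, 1] = !![y, 0; 0, 1] * !![(1:F), 1; 0, 1]
    rw [Matrix.mul_fin_two, Matrix.mul_fin_two]
    ext i j; fin_cases i <;> fin_cases j <;> simp
  · -- case A
    have hxw : x + w = 0 := by
      have : z * (x + w) = 0 := by rw [mul_add, mul_comm z w]; exact h10
      rcases mul_eq_zero.mp this with h | h
      · exact absurd h hz0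
      · exact h
    set P : GL (Fin 2) F := GeneralLinearGroup.mkOfDetNeZero !![x, 1; z, 0]
      (by simp [det_fin_two, hz0]) with hP
    refine ⟨P⁻¹, ?_⟩
    rw [inv_inv, mul_assoc, inv_mul_eq_iff_eq_mul]
    apply Units.ext
    show g.val * P.val = P.val * J.val
    rw [hgeta]
    simp only [hP, hJ, GeneralLinearGroup.mkOfDetNeZero]
    show !![x + 1, y; z, w + 1] * !![x, 1; z, 0] = !![x, 1; z, 0] * !![(1:F), 1; 0, 1]
    rw [Matrix.mul_fin_two, Matrix.mul_fin_two]
    have e1 : (x + 1) * x + y * z = x := by linear_combination h00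
    have e2 : z * x + (w + 1) * z = z := by linear_combination h10
    ext i j; fin_cases i <;> fin_cases j <;> simp [e1, e2]

theorem sq_zero_of_pow (N : Matrix (Fin 2) (Fin 2) F) (k : ℕ) (hk : N ^ k = 0) : N * N = 0 := by
  have hk0 : k ≠ 0 := by
    intro h
    rw [h, pow_zero] at hk
    have := congrFun (congrFun hk 0) 0
    simp at this
  set x := N 0 0 with hx
  set y := N 0 1 with hy
  set z := N 1 0 with hz
  set w := N 1 1 with hw
  have hNeta : N = !![x, y; z, w] := Matrix.eta_fin_two N
  have hdet : N.det = 0 := by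
    have : (N ^ k).det = 0 := by rw [hk]; simp
    rw [Matrix.det_pow] at this
    exact (pow_eq_zero_iff hk0).mp this
  have hdet' : x * w - y * z = 0 := by
    rw [hNeta, Matrix.det_fin_two_of] at hdet
    exact hdet
  have hsq : N * N = (x + w) • N := by
    rw [hNeta, Matrix.mul_fin_two, Matrix.smul_of, Matrix.smul_cons, Matrix.smul_cons,
      Matrix.smul_cons, Matrix.smul_cons, Matrix.smul_cons, Matrix.smul_cons]
    simp only [smul_eq_mul, Matrix.smul_empty]
    congr 1
    have e1 : x * x + y * z = (x + w) * x := by linear_combination (-1 : F) * hdet'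
    have e2 : x * y + y * w = (x + w) * y := by ring
    have e3 : z * x + w * z = (x + w) * z := by ring
    have e4 : z * y + w * w = (x + w) * w := by linear_combination (-1 : F) * hdet'
    rw [e1, e2, e3, e4]
  have hpow : ∀ m : ℕ, N ^ (m + 1) = (x + w) ^ m • N := by
    intro m
    induction m with
    | zero => simp
    | succ m ih =>
      rw [pow_succ, ih, Matrix.smul_mul, hsq, smul_smul, pow_succ]
  obtain ⟨m, rfl⟩ := Nat.exists_eq_succ_of_ne_zero hk0
  rw [Nat.succ_eq_add_one, hpow m] at hk
  by_cases ht : x + w = 0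
  · rw [hsq, ht, zero_smul]
  · have : N = 0 := by
      have h2 := congrArg (fun M => ((x + w) ^ m)⁻¹ • M) hk
      simp only [smul_smul, smul_zero] at h2
      rw [inv_mul_cancel₀ (pow_ne_zero m ht), one_smul] at h2
      exact h2
    rw [this, mul_zero]

theorem unipotent_of_order {p : ℕ} [Fact p.Prime] [CharP F p] (g : GL (Fin 2) F)
    (hg : orderOf g = p) : (g.val - 1) ≠ 0 ∧ (g.val - 1) * (g.val - 1) = 0 := by
  have hp : p.Prime := Fact.out
  constructor
  · intro h
    have : g = 1 := by
      apply Units.ext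
      rw [sub_eq_zero] at h
      exact h
    rw [this, orderOf_one] at hg
    exact hp.one_lt.ne' hg.symm
  · apply sq_zero_of_pow _ p
    have : CharP (Matrix (Fin 2) (Fin 2) F) p := inferInstance
    rw [sub_pow_char_of_commute p (Commute.one_right _), one_pow, sub_eq_zero]
    have : g ^ p = 1 := by rw [← hg]; exact pow_orderOf_eq_one g
    have h2 := congrArg Units.val this
    rwa [Units.val_pow_eq_pow_val] at h2


theorem isConj_of_order_p {p : ℕ} [Fact p.Prime] [CharP F p] (g h : GL (Fin 2) F)
    (hg : orderOf g = p) (hh : orderOf h = p) : IsConj g h := by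
  obtain ⟨h1, h2⟩ := unipotent_of_order g hg
  obtain ⟨h3, h4⟩ := unipotent_of_order h hh
  exact (conj_J g h1 h2).trans (conj_J h h3 h4).symm

end Cfsg.Agent.Lib.Helper4_GL2
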