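import Mathlib
import Cfsg.Agent.Lib.Helper4_CycCent3

set_option autoImplicit false

namespace Cfsg.Agent.Lib.Helper4_GL2Cent

open Polynomial Module Cfsg.Agent.Lib.Helper4_CycCent3

variable {F : Type*} [Field F]

theorem irr_of_no_eigen (M : Matrix (Fin 2) (Fin 2) F)
    (h : ∀ (c : F) (v : Fin 2 → F), v ≠ 0 → M.mulVec v ≠ c • v) :
    Irreducible (minpoly F M) ∧ (minpoly F M).natDegree = 2 := by
  have hint : IsIntegral F M := Matrix.isIntegral M
  have hmonic := minpoly.monic hint
  have hnoroot : ∀ c : F, ¬ (minpoly F M).IsRoot c := by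
    intro c hc
    rw [← Matrix.minpoly_toLin'] at hc
    have he := Module.End.hasEigenvalue_of_isRoot hc
    obtain ⟨v, hv⟩ := he.exists_hasEigenvector
    have h1 := hv.apply_eq_smul
    rw [Matrix.toLin'_apply] at h1
    exact h c v hv.2 h1
  have hle : (minpoly F M).natDegree ≤ 2 := by
    have h1 := Matrix.minpoly_dvd_charpoly M
    have h2 := natDegree_le_of_dvd h1 (Matrix.charpoly_monic M).ne_zero
    rw [Matrix.charpoly_natDegree_eq_dim, Fintype.card_fin] at h2
    exact h2
  have hge : 2 ≤ (minpoly F M).natDegree := by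
    by_contra hlt
    push Not at hlt
    have hpos : 0 < (minpoly F M).natDegree := minpoly.natDegree_pos hint
    have h1 : (minpoly F M).natDegree = 1 := by omega
    have h2 : (minpoly F M).degree = 1 := by
      rw [degree_eq_natDegree hmonic.ne_zero, h1]; rfl
    obtain ⟨c, hc⟩ := exists_root_of_degree_eq_one h2
    exact hnoroot c hc
  refine ⟨?_, le_antisymm hle hge⟩
  rw [hmonic.irreducible_iff_roots_eq_zero_of_degree_le_three hge (by omega)]
  rw [Multiset.eq_zero_iff_forall_notMem]
  intro c hc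
  exact hnoroot c (isRoot_of_mem_roots hc)

theorem part2 [Fintype F] (g : GL (Fin 2) F)
    (h : ∀ (c : F) (v : Fin 2 → F), v ≠ 0 → (g : Matrix (Fin 2) (Fin 2) F).mulVec v ≠ c • v) :
    Nat.card (Subgroup.centralizer ({g} : Set (GL (Fin 2) F))) = Fintype.card F ^ 2 - 1 := by
  obtain ⟨hirr, hdeg⟩ := irr_of_no_eigen _ h
  exact card_part (by norm_num) g hirr hdeg

theorem part1 [Fintype F] (g : GL (Fin 2) F)
    (h01 : (g : Matrix (Fin 2) (Fin 2) F) 0 1 = 0) (h10 : (g : Matrix (Fin 2) (Fin 2) F) 1 0 = 0)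
    (hne : (g : Matrix (Fin 2) (Fin 2) F) 0 0 ≠ (g : Matrix (Fin 2) (Fin 2) F) 1 1) :
    Nat.card (Subgroup.centralizer ({g} : Set (GL (Fin 2) F))) = (Fintype.card F - 1) ^ 2 := by
  classical
  set M : Matrix (Fin 2) (Fin 2) F := (g : Matrix (Fin 2) (Fin 2) F) with hM
  have hMeq : M = !![M 0 0, 0; 0, M 1 1] := by
    ext i j
    fin_cases i <;> fin_cases j <;> simp [h01, h10]
  have hcomm : ∀ X : Matrix (Fin 2) (Fin 2) F, X * M = M * X ↔ (X 0 1 = 0 ∧ X 1 0 = 0) := by
    intro X
    constructor
    · intro hX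
      have e1 := congrFun (congrFun hX 0) 1
      have e2 := congrFun (congrFun hX 1) 0
      rw [hMeq] at e1 e2
      simp [Matrix.mul_apply, Fin.sum_univ_two] at e1 e2
      constructor
      · have : X 0 1 * (M 1 1 - M 0 0) = 0 := by linear_combination e1
        rcases mul_eq_zero.mp this with h | h
        · exact h
        · exact absurd (sub_eq_zero.mp h).symm hne
      · have : X 1 0 * (M 0 0 - M 1 1) = 0 := by linear_combination e2
        rcases mul_eq_zero.mp this with h | h
        · exact h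
        · exact absurd (sub_eq_zero.mp h) hne
    · rintro ⟨h1, h2⟩
      rw [hMeq]
      ext i j
      fin_cases i <;> fin_cases j <;> simp [Matrix.mul_apply, Fin.sum_univ_two, h1, h2] <;> ring
  have e : ↥(Subgroup.centralizer ({g} : Set (GL (Fin 2) F))) ≃ Fˣ × Fˣ :=
    { toFun := fun x =>
        have hx := (hcomm _).mp ((mem_cent g x.1).mp x.2)
        have hdet : (x.1 : Matrix (Fin 2) (Fin 2) F) 0 0 * (x.1 : Matrix (Fin 2) (Fin 2) F) 1 1 ≠ 0 := by
          have := (Matrix.isUnit_iff_isUnit_det _).mp (Units.isUnit x.1)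
          rw [Matrix.det_fin_two, hx.1, hx.2] at this
          simpa using this.ne_zero
        (Units.mk0 _ (left_ne_zero_of_mul hdet), Units.mk0 _ (right_ne_zero_of_mul hdet))
      invFun := fun uv => ⟨Matrix.GeneralLinearGroup.mkOfDetNeZero !![(uv.1 : F), 0; 0, (uv.2 : F)]
          (by rw [Matrix.det_fin_two_of]; simp), by
        rw [mem_cent, hcomm]
        simp [Matrix.GeneralLinearGroup.mkOfDetNeZero]⟩
      left_inv := fun x => by
        have hx := (hcomm _).mp ((mem_cent g x.1).mp x.2)
        apply Subtype.ext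
        apply Units.ext
        ext i j
        fin_cases i <;> fin_cases j <;> simp [Matrix.GeneralLinearGroup.mkOfDetNeZero, hx.1, hx.2]
      right_inv := fun uv => by
        apply Prod.ext <;> apply Units.ext <;> simp [Matrix.GeneralLinearGroup.mkOfDetNeZero] }
  rw [Nat.card_congr e, Nat.card_eq_fintype_card, Fintype.card_prod, Fintype.card_units, sq]

end Cfsg.Agent.Lib.Helper4_GL2Cent
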