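import Mathlib
import Cfsg.Agent.Lib.Helper4_GL2Classes0

namespace Cfsg.Agent.Lib.Helper4_GL2Classes1
open Matrix Cfsg.Agent.Lib.Helper4_GL2Classes0

variable {F : Type*} [Field F]

/-- scalar element of GL₂. -/
noncomputable def S (a : Fˣ) : GL (Fin 2) F :=
  GeneralLinearGroup.mkOfDetNeZero ((a : F) • (1 : Matrix (Fin 2) (Fin 2) F))
    (by simp)

/-- companion element of GL₂. -/
noncomputable def C (t : F) (d : Fˣ) : GL (Fin 2) F :=
  GeneralLinearGroup.mkOfDetNeZero (compMat t (d : F)) (by rw [compMat_det]; exact d.ne_zero)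

theorem S_val (a : Fˣ) : (S a).val = (a : F) • (1 : Matrix (Fin 2) (Fin 2) F) := rfl
theorem C_val (t : F) (d : Fˣ) : (C t d).val = compMat t (d : F) := rfl

theorem S_not_NS (a : Fˣ) : ¬ NS (S a).val := by
  rw [not_NS_iff, S_val]
  simp

theorem scalar_conj (g h : GL (Fin 2) F) (hg : ¬ NS g.val) (hc : IsConj g h) : h = g := by
  obtain ⟨c, hc⟩ := isConj_iff.mp hc
  rw [← hc]
  apply Units.ext
  rw [Units.val_mul, Units.val_mul, (not_NS_iff _).mp hg, Matrix.mul_smul, Matrix.smul_mul,
    mul_one, ← Units.val_mul, mul_inv_cancel]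
  rfl

theorem conj_C (g : GL (Fin 2) F) (hg : NS g.val) :
    IsConj g (C g.val.trace (Units.mk0 g.val.det (by
      have := g.isUnit; rw [Matrix.isUnit_iff_isUnit_det] at this; exact this.ne_zero))) := by
  obtain ⟨P, hP, h⟩ := conj_comp g.val hg
  rw [isConj_iff]
  refine ⟨(GeneralLinearGroup.mkOfDetNeZero P hP)⁻¹, ?_⟩
  rw [inv_inv, mul_assoc, inv_mul_eq_iff_eq_mul]
  apply Units.ext
  rw [Units.val_mul, Units.val_mul, C_val]
  exact h

theorem gl2_classes [Fintype F] :
    Nat.card (ConjClasses (GL (Fin 2) F)) = Fintype.card F ^ 2 - 1 := by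
  classical
  let ψ : Fˣ ⊕ (F × Fˣ) → ConjClasses (GL (Fin 2) F) :=
    Sum.elim (fun a => ConjClasses.mk (S a)) (fun p => ConjClasses.mk (C p.1 p.2))
  have hinj : Function.Injective ψ := by
    rintro (a | ⟨t, d⟩) (b | ⟨t', d'⟩) h
    · have h1 : IsConj (S a) (S b) := ConjClasses.mk_eq_mk_iff_isConj.mp h
      have h2 := scalar_conj _ _ (S_not_NS a) h1
      have h3 := congrArg (fun g : GL (Fin 2) F => g.val 0 0) h2
      simp [S_val] at h3
      rw [Units.ext h3]
    · exfalso
      have h1 : IsConj (S a) (C t' d') := ConjClasses.mk_eq_mk_iff_isConj.mp h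
      have h2 := scalar_conj _ _ (S_not_NS a) h1
      apply S_not_NS a
      rw [← h2, C_val]
      exact compMat_NS _ _
    · exfalso
      have h1 : IsConj (C t d) (S b) := ConjClasses.mk_eq_mk_iff_isConj.mp h
      have h2 := scalar_conj _ _ (S_not_NS b) h1.symm
      apply S_not_NS b
      rw [← h2, C_val]
      exact compMat_NS _ _
    · have h1 : IsConj (C t d) (C t' d') := ConjClasses.mk_eq_mk_iff_isConj.mp h
      obtain ⟨c, hc⟩ := isConj_iff.mp h1
      have h2 : (C t' d').val = c.val * (C t d).val * c⁻¹.val := by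
        rw [← hc]; simp [Units.val_mul]
      have ht : t' = t := by
        have := congrArg Matrix.trace h2
        rw [Matrix.trace_units_conj, C_val, C_val, compMat_trace, compMat_trace] at this
        exact this
      have hd : (d' : F) = d := by
        have := congrArg Matrix.det h2
        rw [Matrix.det_units_conj, C_val, C_val, compMat_det, compMat_det] at this
        exact this
      rw [ht, Units.ext hd]
  have hsurj : Function.Surjective ψ := by
    intro cl
    obtain ⟨g, rfl⟩ := ConjClasses.mk_surjective cl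
    by_cases hg : NS g.val
    · refine ⟨Sum.inr (g.val.trace, Units.mk0 g.val.det (by
        have := g.isUnit; rw [Matrix.isUnit_iff_isUnit_det] at this; exact this.ne_zero)), ?_⟩
      exact (ConjClasses.mk_eq_mk_iff_isConj.mpr (conj_C g hg)).symm
    · have h1 := (not_NS_iff _).mp hg
      have ha : g.val 0 0 ≠ 0 := by
        intro h0
        rw [h0, zero_smul] at h1
        exact g.ne_zero h1
      refine ⟨Sum.inl (Units.mk0 _ ha), ?_⟩
      show ConjClasses.mk (S (Units.mk0 _ ha)) = ConjClasses.mk g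
      congr 1
      apply Units.ext
      rw [S_val]
      exact h1.symm
  rw [← Nat.card_congr (Equiv.ofBijective ψ ⟨hinj, hsurj⟩), Nat.card_sum, Nat.card_prod,
    Nat.card_eq_fintype_card, Nat.card_eq_fintype_card, Fintype.card_units]
  have hq : 1 ≤ Fintype.card F := Fintype.card_pos
  obtain ⟨k, hk⟩ : ∃ k, Fintype.card F = k + 1 := ⟨Fintype.card F - 1, by omega⟩
  rw [hk]
  have : (k + 1) ^ 2 = k + (k + 1) * k + 1 := by ring
  rw [this]
  simp

end Cfsg.Agent.Lib.Helper4_GL2Classes1
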