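import Mathlib
import Cfsg.Prelude.Def_Characters
import Cfsg.Prelude.Def_ParabolicCharacters
import Cfsg.Agent.Lib.Helper2_ClassFn

set_option autoImplicit false

/-!
# Permutation characters as induced characters (light copy of part of Helper2_PermInd,
to avoid its heavy import closure)
-/

namespace Cfsg.Agent.Lib.Helper4_PermIndLite

open Cfsg
open Cfsg.Agent.Lib.Helper2_ClassFn

universe u v

section Fiber

variable {G : Type u} [Group G] [Fintype G] {X : Type v} [MulAction G X]

/-- The fibres of `y ↦ y • x₀` over the orbit are cosets of the stabilizer. -/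
theorem card_filter_smul_eq [DecidableEq X] (x₀ x : X) (hx : x ∈ MulAction.orbit G x₀) :
    (Finset.univ.filter (fun y : G => y • x₀ = x)).card
      = Nat.card (MulAction.stabilizer G x₀) := by
  classical
  obtain ⟨y₀, rfl⟩ := hx
  rw [← Fintype.card_subtype, ← Nat.card_eq_fintype_card]
  apply Nat.card_congr
  exact
    { toFun := fun y => ⟨y₀⁻¹ * y.1, by
        rw [MulAction.mem_stabilizer_iff, mul_smul, y.2, inv_smul_smul]⟩
      invFun := fun s => ⟨y₀ * s.1, by
        rw [mul_smul, MulAction.mem_stabilizer_iff.mp s.2]⟩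
      left_inv := fun y => by simp
      right_inv := fun s => by simp }

theorem card_filter_smul_eq_zero [DecidableEq X] (x₀ x : X) (hx : x ∉ MulAction.orbit G x₀) :
    (Finset.univ.filter (fun y : G => y • x₀ = x)).card = 0 := by
  rw [Finset.card_eq_zero, Finset.filter_eq_empty_iff]
  intro y _ hy
  exact hx ⟨y, hy⟩

/-- Summation along an orbit map. -/
theorem sum_smul_eq [Fintype X] [DecidableEq X] (x₀ : X)
    [DecidablePred fun x : X => x ∈ MulAction.orbit G x₀] (F : X → ℂ) :
    ∑ y : G, F (y • x₀)
      = (Nat.card (MulAction.stabilizer G x₀) : ℂ) *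
        ∑ x ∈ Finset.univ.filter (fun x : X => x ∈ MulAction.orbit G x₀), F x := by
  rw [← Finset.sum_fiberwise Finset.univ (fun y : G => y • x₀) (fun y => F (y • x₀))]
  have h1 : ∀ x : X, ∑ y ∈ Finset.univ.filter (fun y : G => y • x₀ = x), F (y • x₀)
      = ((Finset.univ.filter (fun y : G => y • x₀ = x)).card : ℂ) * F x := by
    intro x
    rw [Finset.sum_congr rfl (g := fun _ => F x)]
    · rw [Finset.sum_const, nsmul_eq_mul]
    · intro y hy
      rw [(Finset.mem_filter.mp hy).2]
  simp only [h1]
  rw [Finset.mul_sum, Finset.sum_filter]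
  refine Finset.sum_congr rfl fun x _ => ?_
  by_cases hx : x ∈ MulAction.orbit G x₀
  · rw [if_pos hx, card_filter_smul_eq x₀ x hx]
  · rw [if_neg hx, card_filter_smul_eq_zero x₀ x hx]
    simp

/-- The character induced from the trivial character of a point stabilizer counts the fixed
points in the orbit. -/
theorem indFun_stabilizer_one [Fintype X] [DecidableEq X] (x₀ : X) (g : G)
    [DecidablePred fun x : X => x ∈ MulAction.orbit G x₀ ∧ g • x = x] :
    indFun (MulAction.stabilizer G x₀) (fun _ => 1) g
      = ((Finset.univ.filter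
          (fun x : X => x ∈ MulAction.orbit G x₀ ∧ g • x = x)).card : ℂ) := by
  haveI : DecidablePred fun x : X => x ∈ MulAction.orbit G x₀ := Classical.decPred _
  rw [indFun_apply]
  have h1 : ∀ y : G, extendByZero (MulAction.stabilizer G x₀) (fun _ => (1 : ℂ)) (y⁻¹ * g * y)
      = (fun x : X => if g • x = x then (1 : ℂ) else 0) (y • x₀) := by
    intro y
    simp only
    by_cases h : g • (y • x₀) = y • x₀
    · rw [if_pos h, extendByZero_of_mem]
      rw [MulAction.mem_stabilizer_iff, mul_smul, mul_smul, h, inv_smul_smul]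
    · rw [if_neg h, extendByZero_of_not_mem]
      intro hmem
      apply h
      rw [MulAction.mem_stabilizer_iff, mul_smul, mul_smul] at hmem
      have := congrArg (fun z => y • z) hmem
      simpa using this
  simp only [h1]
  rw [sum_smul_eq x₀ (fun x : X => if g • x = x then (1 : ℂ) else 0)]
  have hne : (Nat.card (MulAction.stabilizer G x₀) : ℂ) ≠ 0 := by
    exact_mod_cast Nat.card_pos.ne'
  rw [← mul_assoc, inv_mul_cancel₀ hne, one_mul, Finset.sum_ite, Finset.sum_const_zero,
    add_zero, Finset.sum_const, nsmul_eq_mul, mul_one, Finset.filter_filter]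
  congr 2
  ext x
  simp only [Finset.mem_filter, Finset.mem_univ, true_and]

/-- The permutation character on cosets is the induced trivial character. -/
theorem indFun_one_eq_fixedPointCharacter (H : Subgroup G) :
    indFun H (fun _ => 1) = fixedPointCharacter H := by
  classical
  haveI : Fintype (G ⧸ H) := Fintype.ofFinite _
  ext g
  have h0 : MulAction.stabilizer G ((1 : G) : G ⧸ H) = H := MulAction.stabilizer_quotient H
  have h1 := indFun_stabilizer_one (X := G ⧸ H) ((1 : G) : G ⧸ H) g
  have h2 : ∀ (K : Subgroup G) (hK : K = H),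
      indFun K (fun _ => 1) g = indFun H (fun _ => 1) g := by
    intro K hK; subst hK; rfl
  rw [h2 _ h0] at h1
  rw [h1]
  show _ = (Nat.card (MulAction.fixedBy (G ⧸ H) g) : ℂ)
  rw [Nat.card_eq_fintype_card, Fintype.card_subtype]
  congr 2
  ext x
  simp only [Finset.mem_filter, Finset.mem_univ, true_and, MulAction.mem_fixedBy]
  constructor
  · exact fun h => h.2
  · intro h
    refine ⟨?_, h⟩
    exact MulAction.mem_orbit_iff.mpr (MulAction.exists_smul_eq G _ x)

end Fiber

end Cfsg.Agent.Lib.Helper4_PermIndLite
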