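import Mathlib
import Cfsg.Prelude.Def_Characters
import Cfsg.Prelude.Def_ParabolicCharacters
import Cfsg.Agent.Lib.Helper2_ClassFn
import Cfsg.Agent.Lib.Helper4_BorelInd
import Cfsg.Agent.Lib.Helper4_BorelIndGL
import Cfsg.Agent.Lib.Helper4_PermIndLite

namespace Cfsg.Agent.Lib.Helper4_GL2Perm
open Matrix Cfsg Cfsg.Agent.Lib.Helper2_ClassFn
  Cfsg.Agent.Lib.Helper4_BorelInd Cfsg.Agent.Lib.Helper4_BorelIndGL Cfsg.Agent.Lib.Helper4_PermIndLite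

theorem fpc_eq {F : Type*} [Field F] [Fintype F] [DecidableEq F]
    (g : Matrix.GeneralLinearGroup (Fin 2) F) :
    Cfsg.fixedPointCharacter (Cfsg.upperTriangularGL 2 F) g =
      bsum (fun x y => (1 : MulChar F ℂ) x * (1 : MulChar F ℂ) y) (g : Matrix (Fin 2) (Fin 2) F) := by
  rw [← indFun_one_eq_fixedPointCharacter, ← indFun_GL 1 1 g]
  congr 2
  ext b
  rw [← d0G_val, ← d1G_val, MulChar.one_apply_coe, MulChar.one_apply_coe, one_mul]

theorem main {F : Type*} [Field F] [Fintype F] (g : Matrix.GeneralLinearGroup (Fin 2) F) :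
    ((∃ a : F, (g : Matrix (Fin 2) (Fin 2) F) = a • (1 : Matrix (Fin 2) (Fin 2) F)) → Cfsg.fixedPointCharacter (Cfsg.upperTriangularGL 2 F) g = Fintype.card F + 1) ∧
    ((g : Matrix (Fin 2) (Fin 2) F) 0 1 = 0 → (g : Matrix (Fin 2) (Fin 2) F) 1 0 = 0 → (g : Matrix (Fin 2) (Fin 2) F) 0 0 ≠ (g : Matrix (Fin 2) (Fin 2) F) 1 1 →
      Cfsg.fixedPointCharacter (Cfsg.upperTriangularGL 2 F) g = 2) ∧
    ((∀ (c : F) (v : Fin 2 → F), v ≠ 0 → (g : Matrix (Fin 2) (Fin 2) F).mulVec v ≠ c • v) → Cfsg.fixedPointCharacter (Cfsg.upperTriangularGL 2 F) g = 0) ∧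
    ((g : Matrix (Fin 2) (Fin 2) F) 1 0 = 0 → (g : Matrix (Fin 2) (Fin 2) F) 0 0 = (g : Matrix (Fin 2) (Fin 2) F) 1 1 → (g : Matrix (Fin 2) (Fin 2) F) 0 1 ≠ 0 →
      Cfsg.fixedPointCharacter (Cfsg.upperTriangularGL 2 F) g = 1) := by
  classical
  rw [fpc_eq]
  have hdet : (g : Matrix (Fin 2) (Fin 2) F).det ≠ 0 :=
    ((Matrix.isUnit_iff_isUnit_det _).mp (Units.isUnit g)).ne_zero
  rw [Matrix.det_fin_two] at hdet
  have hunit : (g : Matrix (Fin 2) (Fin 2) F) 1 0 = 0 →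
      (1 : MulChar F ℂ) ((g : Matrix (Fin 2) (Fin 2) F) 0 0) = 1 ∧
      (1 : MulChar F ℂ) ((g : Matrix (Fin 2) (Fin 2) F) 1 1) = 1 := by
    intro h10
    rw [h10, mul_zero, sub_zero] at hdet
    exact ⟨MulChar.one_apply (IsUnit.mk0 _ (left_ne_zero_of_mul hdet)),
      MulChar.one_apply (IsUnit.mk0 _ (right_ne_zero_of_mul hdet))⟩
  refine ⟨?_, ?_, ?_, ?_⟩
  · rintro ⟨a, ha⟩
    have h10 : (g : Matrix (Fin 2) (Fin 2) F) 1 0 = 0 := by rw [ha]; simp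
    have h01 : (g : Matrix (Fin 2) (Fin 2) F) 0 1 = 0 := by rw [ha]; simp
    have heq : (g : Matrix (Fin 2) (Fin 2) F) 0 0 = (g : Matrix (Fin 2) (Fin 2) F) 1 1 := by
      rw [ha]; simp
    rw [bsum_scalar _ _ h10 heq h01, (hunit h10).1]
    simp
  · intro h01 h10 hne
    rw [bsum_tri _ _ h10 hne, (hunit h10).1, (hunit h10).2]
    norm_num
  · intro h
    exact bsum_no_eigen _ _ h
  · intro h10 heq h01
    rw [bsum_unip _ _ h10 heq h01, (hunit h10).1]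
    simp

end Cfsg.Agent.Lib.Helper4_GL2Perm
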