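import Mathlib
import Cfsg.Prelude.Def_CaseTheorems

set_option autoImplicit false

namespace Cfsg.Agent.Lib.Helper4_GL2Sylow


open scoped Pointwise

variable {G : Type*} [Group G]

lemma isPGroup_zpowers (x : G) (a : ℕ) (hx : orderOf x = 2 ^ a) : IsPGroup 2 (Subgroup.zpowers x) := by
  apply IsPGroup.of_card (n := a)
  rw [Nat.card_zpowers, hx]

lemma mem_normalizer_of_invol (H : Subgroup G) (y : G) (hy : y * y = 1)
    (h : ∀ g ∈ H, y * g * y⁻¹ ∈ H) : y ∈ Subgroup.normalizer (H : Set G) := by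
  have hyinv : y⁻¹ = y := inv_eq_of_mul_eq_one_left hy
  rw [Subgroup.mem_normalizer_iff]
  intro g
  constructor
  · exact h g
  · intro hg
    have := h _ hg
    have e : y * (y * g * y⁻¹) * y⁻¹ = g := by
      rw [hyinv]
      calc y * (y * g * y) * y = (y * y) * g * (y * y) := by group
        _ = g := by rw [hy]; group
    rwa [e] at this

lemma isPGroup_zpowers_invol (y : G) (hy : y * y = 1) : IsPGroup 2 (Subgroup.zpowers y) := by
  by_cases h1 : y = 1
  · apply isPGroup_zpowers y 0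
    rw [h1, orderOf_one, pow_zero]
  · apply isPGroup_zpowers y 1
    rw [pow_one]
    exact orderOf_eq_prime (by rw [pow_two, hy]) h1

/-- quasi-dihedral-type 2-group -/
lemma two_group_of_rel (x y : G) (a : ℕ) (hx : orderOf x = 2 ^ a) (hy : y * y = 1)
    (hyx : y * x * y⁻¹ ∈ Subgroup.zpowers x) :
    IsPGroup 2 (Subgroup.zpowers x ⊔ Subgroup.zpowers y : Subgroup G) := by
  apply IsPGroup.to_sup_of_normal_left' (isPGroup_zpowers x a hx)
  · exact isPGroup_zpowers_invol y hy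
  · rw [Subgroup.zpowers_le]
    apply mem_normalizer_of_invol _ y hy
    intro g hg
    obtain ⟨k, rfl⟩ := Subgroup.mem_zpowers_iff.1 hg
    have : y * x ^ k * y⁻¹ = (y * x * y⁻¹) ^ k := by
      rw [conj_zpow]
    rw [this]
    exact Subgroup.zpow_mem _ hyx k


/-- wreathed-type 2-group -/
lemma two_group_wreath (x y z : G) (a : ℕ) (hx : orderOf x = 2 ^ a) (hxy : x * y = y * x)
    (hz : z * z = 1) (hzx : z * x * z⁻¹ = y) :
    IsPGroup 2 ((Subgroup.zpowers x ⊔ Subgroup.zpowers y) ⊔ Subgroup.zpowers z : Subgroup G) := by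
  have hzinv : z⁻¹ = z := inv_eq_of_mul_eq_one_left hz
  have hzy : z * y * z⁻¹ = x := by
    rw [← hzx, hzinv]
    calc z * (z * x * z) * z = (z * z) * x * (z * z) := by group
      _ = x := by rw [hz]; group
  have hy : orderOf y = 2 ^ a := by
    rw [← hzx, ← hx]
    exact (MulAut.conj z).orderOf_eq x
  have h1 : IsPGroup 2 (Subgroup.zpowers x ⊔ Subgroup.zpowers y : Subgroup G) := by
    apply IsPGroup.to_sup_of_normal_left' (isPGroup_zpowers x a hx) (isPGroup_zpowers y a hy)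
    rw [Subgroup.zpowers_le, Subgroup.mem_normalizer_iff]
    intro g
    have hc : ∀ g ∈ Subgroup.zpowers x, y * g * y⁻¹ = g := by
      intro g hg
      obtain ⟨k, rfl⟩ := Subgroup.mem_zpowers_iff.1 hg
      rw [← conj_zpow]
      congr 1
      rw [mul_inv_eq_iff_eq_mul, hxy]
    constructor
    · intro hg; rw [hc g hg]; exact hg
    · intro hg
      have := hc _ hg
      have e : g = y⁻¹ * (y * g * y⁻¹) * y := by group
      rw [e]
      have h2 : y⁻¹ * (y * g * y⁻¹) * y = y⁻¹ * (y * (y * g * y⁻¹) * y⁻¹) * y := by rw [this]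
      rw [h2]
      have : y⁻¹ * (y * (y * g * y⁻¹) * y⁻¹) * y = y * g * y⁻¹ := by group
      rw [this]; exact hg
  apply IsPGroup.to_sup_of_normal_left' h1 (isPGroup_zpowers_invol z hz)
  rw [Subgroup.zpowers_le]
  apply mem_normalizer_of_invol _ z hz
  intro g hg
  have hmap : (Subgroup.zpowers x ⊔ Subgroup.zpowers y).map (MulAut.conj z).toMonoidHom
      = Subgroup.zpowers x ⊔ Subgroup.zpowers y := by
    rw [Subgroup.map_sup, MonoidHom.map_zpowers, MonoidHom.map_zpowers]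
    show Subgroup.zpowers (z * x * z⁻¹) ⊔ Subgroup.zpowers (z * y * z⁻¹) = _
    rw [hzx, hzy, sup_comm]
  rw [← hmap]
  exact ⟨g, hg, rfl⟩


lemma exists_conj_into_sylow [Finite G] (P : Sylow 2 G) (S : Subgroup G) (hS : IsPGroup 2 S) :
    ∃ g : G, ∀ s ∈ S, g * s * g⁻¹ ∈ (P : Subgroup G) := by
  obtain ⟨Q, hQ⟩ := hS.exists_le_sylow
  obtain ⟨g, hg⟩ := MulAction.exists_smul_eq G Q P
  refine ⟨g, fun s hs => ?_⟩
  have h1 : s ∈ (Q : Subgroup G) := hQ hs
  rw [← hg, Sylow.coe_subgroup_smul]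
  rw [Subgroup.mem_pointwise_smul_iff_inv_smul_mem, MulAut.smul_def, MulAut.conj_inv_apply]
  have : g⁻¹ * (g * s * g⁻¹) * g = s := by group
  rw [this]
  exact h1

/-- transfer to a Sylow: wreathed -/
theorem wreathed_of [Finite G] (P : Sylow 2 G) (n : ℕ) (hn : 2 ≤ n)
    (hcard : Nat.card (P : Subgroup G) = 2 ^ (2 * n + 1))
    (x y z : G) (hx : orderOf x = 2 ^ n) (hxy : x * y = y * x)
    (hint : Subgroup.zpowers x ⊓ Subgroup.zpowers y = ⊥)
    (hz : orderOf z = 2) (hzx : z * x * z⁻¹ = y) :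
    ∃ x' y' z' : (P : Subgroup G), orderOf x' = 2 ^ n ∧ x' * y' = y' * x' ∧
      Subgroup.zpowers x' ⊓ Subgroup.zpowers y' = ⊥ ∧ orderOf z' = 2 ∧ z' * x' * z'⁻¹ = y' := by
  have hzz : z * z = 1 := by
    rw [← pow_two, ← hz]; exact pow_orderOf_eq_one z
  have h2 := two_group_wreath x y z n hx hxy hzz hzx
  obtain ⟨g, hg⟩ := exists_conj_into_sylow P _ h2
  have hxm : x ∈ (Subgroup.zpowers x ⊔ Subgroup.zpowers y) ⊔ Subgroup.zpowers z :=
    Subgroup.mem_sup_left (Subgroup.mem_sup_left (Subgroup.mem_zpowers x))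
  have hym : y ∈ (Subgroup.zpowers x ⊔ Subgroup.zpowers y) ⊔ Subgroup.zpowers z :=
    Subgroup.mem_sup_left (Subgroup.mem_sup_right (Subgroup.mem_zpowers y))
  have hzm : z ∈ (Subgroup.zpowers x ⊔ Subgroup.zpowers y) ⊔ Subgroup.zpowers z :=
    Subgroup.mem_sup_right (Subgroup.mem_zpowers z)
  refine ⟨⟨g * x * g⁻¹, hg x hxm⟩, ⟨g * y * g⁻¹, hg y hym⟩, ⟨g * z * g⁻¹, hg z hzm⟩, ?_, ?_, ?_, ?_, ?_⟩
  · rw [← Subgroup.orderOf_coe]
    exact ((MulAut.conj g).orderOf_eq x).trans hx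
  · apply Subtype.ext
    show g * x * g⁻¹ * (g * y * g⁻¹) = g * y * g⁻¹ * (g * x * g⁻¹)
    calc g * x * g⁻¹ * (g * y * g⁻¹) = g * (x * y) * g⁻¹ := by group
      _ = g * (y * x) * g⁻¹ := by rw [hxy]
      _ = _ := by group
  · rw [Subgroup.eq_bot_iff_forall]
    rintro ⟨w, hw⟩ hmem
    rw [Subgroup.mem_inf] at hmem
    obtain ⟨h1, h2'⟩ := hmem
    obtain ⟨i, hi⟩ := Subgroup.mem_zpowers_iff.1 h1
    obtain ⟨j, hj⟩ := Subgroup.mem_zpowers_iff.1 h2'
    have hi' : (g * x * g⁻¹) ^ i = w := by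
      have := congrArg Subtype.val hi
      simpa using this
    have hj' : (g * y * g⁻¹) ^ j = w := by
      have := congrArg Subtype.val hj
      simpa using this
    rw [conj_zpow] at hi' hj'
    have hxy' : x ^ i = y ^ j := by
      have : g * x ^ i * g⁻¹ = g * y ^ j * g⁻¹ := by rw [hi', hj']
      have h3 := mul_right_cancel this
      exact mul_left_cancel h3
    have hmem : x ^ i ∈ Subgroup.zpowers x ⊓ Subgroup.zpowers y := by
      rw [Subgroup.mem_inf]
      refine ⟨Subgroup.zpow_mem_zpowers x i, ?_⟩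
      rw [hxy']
      exact Subgroup.zpow_mem_zpowers y j
    rw [hint, Subgroup.mem_bot] at hmem
    apply Subtype.ext
    show w = 1
    rw [← hi', hmem]
    group
  · rw [← Subgroup.orderOf_coe]
    exact ((MulAut.conj g).orderOf_eq z).trans hz
  · apply Subtype.ext
    show g * z * g⁻¹ * (g * x * g⁻¹) * (g * z * g⁻¹)⁻¹ = g * y * g⁻¹
    rw [← hzx]
    group

/-- transfer to a Sylow: quasi-dihedral -/
theorem quasidihedral_of [Finite G] (P : Sylow 2 G) (n : ℕ) (e : ℕ)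
    (x y : G) (hx : orderOf x = 2 ^ n)
    (hy : orderOf y = 2) (hyx : y * x * y⁻¹ = x ^ e) :
    ∃ x' y' : (P : Subgroup G), orderOf x' = 2 ^ n ∧ orderOf y' = 2 ∧ y' * x' * y'⁻¹ = x' ^ e := by
  have hyy : y * y = 1 := by
    rw [← pow_two, ← hy]; exact pow_orderOf_eq_one y
  have h2 := two_group_of_rel x y n hx hyy (by rw [hyx]; exact Subgroup.npow_mem_zpowers x e)
  obtain ⟨g, hg⟩ := exists_conj_into_sylow P _ h2
  have hxm : x ∈ Subgroup.zpowers x ⊔ Subgroup.zpowers y :=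
    Subgroup.mem_sup_left (Subgroup.mem_zpowers x)
  have hym : y ∈ Subgroup.zpowers x ⊔ Subgroup.zpowers y :=
    Subgroup.mem_sup_right (Subgroup.mem_zpowers y)
  refine ⟨⟨g * x * g⁻¹, hg x hxm⟩, ⟨g * y * g⁻¹, hg y hym⟩, ?_, ?_, ?_⟩
  · rw [← Subgroup.orderOf_coe]
    exact ((MulAut.conj g).orderOf_eq x).trans hx
  · rw [← Subgroup.orderOf_coe]
    exact ((MulAut.conj g).orderOf_eq y).trans hy
  · apply Subtype.ext
    show g * y * g⁻¹ * (g * x * g⁻¹) * (g * y * g⁻¹)⁻¹ = (g * x * g⁻¹) ^ e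
    rw [conj_pow, ← hyx]
    group


/-- an element of prescribed order in a finite cyclic group -/
lemma exists_orderOf_eq {G : Type*} [Group G] [Finite G] [IsCyclic G] (d : ℕ) (hd : d ∣ Nat.card G) :
    ∃ x : G, orderOf x = d := by
  obtain ⟨g, hg⟩ := IsCyclic.exists_generator (α := G)
  have hord : orderOf g = Nat.card G := orderOf_eq_card_of_forall_mem_zpowers hg
  have hpos : 0 < Nat.card G := Nat.card_pos
  obtain ⟨k, hk⟩ := hd
  have hk0 : k ≠ 0 := by
    rintro rfl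
    rw [mul_zero] at hk
    omega
  have hd0 : d ≠ 0 := by
    rintro rfl
    rw [zero_mul] at hk
    omega
  refine ⟨g ^ k, ?_⟩
  rw [orderOf_pow_of_dvd hk0 (by rw [hord, hk]; exact dvd_mul_left k d), hord, hk]
  exact Nat.mul_div_cancel d (Nat.pos_of_ne_zero hk0)

lemma fact2 (k m : ℕ) (hm : Odd m) : (2 ^ k * m).factorization 2 = k := by
  have hm0 : m ≠ 0 := by
    rintro rfl
    simp at hm
  rw [Nat.factorization_mul (by positivity) hm0, Nat.Prime.factorization_pow Nat.prime_two]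
  have : m.factorization 2 = 0 := by
    apply Nat.factorization_eq_zero_of_not_dvd
    intro h
    exact (Nat.not_odd_iff_even.2 (even_iff_two_dvd.2 h)) hm
  simp [this]

/-- arithmetic for q ≡ 1 mod 4 -/
lemma arith1 (q : ℕ) (hq : q % 4 = 1) (hq1 : 1 < q) :
    ∃ n : ℕ, 2 ≤ n ∧ 2 ^ n ∣ q - 1 ∧ ((q ^ 2 - 1) * (q ^ 2 - q)).factorization 2 = 2 * n + 1 := by
  obtain ⟨n, a, ha, hqa⟩ := Nat.exists_eq_two_pow_mul_odd (n := q - 1) (by omega)
  have hn : 2 ≤ n := by
    by_contra hlt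
    push Not at hlt
    interval_cases n
    · rw [pow_zero, one_mul] at hqa
      obtain ⟨c, hc⟩ := ha
      omega
    · rw [pow_one] at hqa
      obtain ⟨c, hc⟩ := ha
      omega
  refine ⟨n, hn, ⟨a, hqa⟩, ?_⟩
  set t := 2 ^ n * a with ht
  have hqt : q = t + 1 := by omega
  have ht4 : t % 4 = 0 := by omega
  obtain ⟨b, hb⟩ : ∃ b, t + 2 = 2 * b := ⟨(t + 2) / 2, by omega⟩
  have hbodd : Odd b := by
    rw [Nat.odd_iff]; omega
  have e1 : q ^ 2 - 1 = t * (t + 2) := by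
    rw [hqt]
    apply Nat.sub_eq_of_eq_add
    ring
  have e2 : q ^ 2 - q = (t + 1) * t := by
    rw [hqt]
    apply Nat.sub_eq_of_eq_add
    ring
  have hqodd : Odd (t + 1) := by rw [Nat.odd_iff]; omega
  have e3 : (q ^ 2 - 1) * (q ^ 2 - q) = 2 ^ (2 * n + 1) * (a * b * (t + 1) * a) := by
    rw [e1, e2, hb, ht]
    ring
  rw [e3]
  apply fact2
  exact ((ha.mul hbodd).mul (ht ▸ hqodd)).mul ha

/-- arithmetic for q ≡ 3 mod 4 -/
lemma arith3 (q : ℕ) (hq : q % 4 = 3) :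
    ∃ m : ℕ, 2 ≤ m ∧ 2 ^ (m + 1) ∣ q ^ 2 - 1 ∧ (q % 2 ^ (m + 1) = 2 ^ m - 1) ∧
      ((q ^ 2 - 1) * (q ^ 2 - q)).factorization 2 = m + 2 := by
  obtain ⟨m, b, hb, hqb⟩ := Nat.exists_eq_two_pow_mul_odd (n := q + 1) (by omega)
  have hm : 2 ≤ m := by
    by_contra hlt
    push Not at hlt
    interval_cases m
    · rw [pow_zero, one_mul] at hqb
      obtain ⟨c, hc⟩ := hb
      omega
    · rw [pow_one] at hqb
      obtain ⟨c, hc⟩ := hb
      omega
  set t := 2 ^ m * b with ht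
  have hqt : q = t - 1 := by omega
  have ht1 : 1 ≤ t := by omega
  have ht4 : t % 4 = 0 := by omega
  obtain ⟨a, ha⟩ : ∃ a, t = 2 * a + 2 := ⟨(t - 2) / 2, by omega⟩
  have haodd : Odd a := by
    rw [Nat.odd_iff]; omega
  have hq2 : q = 2 * a + 1 := by omega
  have e1 : q ^ 2 - 1 = (2 * a) * t := by
    rw [hq2, ha]
    apply Nat.sub_eq_of_eq_add
    ring
  have e2 : q ^ 2 - q = q * (2 * a) := by
    rw [hq2]
    apply Nat.sub_eq_of_eq_add
    ring
  have hqodd : Odd q := by rw [Nat.odd_iff]; omega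
  refine ⟨m, hm, ?_, ?_, ?_⟩
  · rw [e1, ht]
    exact ⟨a * b, by ring⟩
  · obtain ⟨c, hc⟩ := hb
    have h2m : 1 ≤ 2 ^ m := Nat.one_le_two_pow
    have : q = 2 ^ (m + 1) * c + (2 ^ m - 1) := by
      have : t = 2 ^ (m + 1) * c + 2 ^ m := by
        rw [ht, hc]; ring
      omega
    rw [this, Nat.mul_add_mod]
    apply Nat.mod_eq_of_lt
    have : 2 ^ (m + 1) = 2 * 2 ^ m := by ring
    omega
  · have e3 : (q ^ 2 - 1) * (q ^ 2 - q) = 2 ^ (m + 2) * (a * b * q * a) := by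
      rw [e1, e2, ht]
      ring
    rw [e3]
    apply fact2
    exact ((haodd.mul hb).mul hqodd).mul haodd


open Matrix

variable {F : Type*} [Field F]

/-- diagonal element -/
def dg (a b : Fˣ) : GL (Fin 2) F :=
  ⟨!![(a : F), 0; 0, (b : F)], !![((a⁻¹ : Fˣ) : F), 0; 0, ((b⁻¹ : Fˣ) : F)],
    by ext i j; fin_cases i <;> fin_cases j <;> simp,
    by ext i j; fin_cases i <;> fin_cases j <;> simp⟩

lemma dg_mul (a b c d : Fˣ) : dg a b * dg c d = dg (a * c) (b * d) := by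
  apply Units.ext
  ext i j
  fin_cases i <;> fin_cases j <;> simp [dg]

lemma dg_one : dg (1 : Fˣ) 1 = (1 : GL (Fin 2) F) := by
  apply Units.ext
  ext i j
  fin_cases i <;> fin_cases j <;> simp [dg]

lemma dg_inj (a b c d : Fˣ) (h : dg a b = dg c d) : a = c ∧ b = d := by
  have h1 := congrArg (fun g : GL (Fin 2) F => (g : Matrix (Fin 2) (Fin 2) F) 0 0) h
  have h2 := congrArg (fun g : GL (Fin 2) F => (g : Matrix (Fin 2) (Fin 2) F) 1 1) h
  simp [dg] at h1 h2
  exact ⟨Units.ext h1, Units.ext h2⟩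

/-- first diagonal embedding -/
def dg1 : Fˣ →* GL (Fin 2) F where
  toFun a := dg a 1
  map_one' := dg_one
  map_mul' a b := by rw [dg_mul, one_mul]

/-- second diagonal embedding -/
def dg2 : Fˣ →* GL (Fin 2) F where
  toFun a := dg 1 a
  map_one' := dg_one
  map_mul' a b := by rw [dg_mul, one_mul]

lemma dg1_inj : Function.Injective (dg1 : Fˣ →* GL (Fin 2) F) := by
  intro a b h
  exact (dg_inj _ _ _ _ h).1

lemma dg2_inj : Function.Injective (dg2 : Fˣ →* GL (Fin 2) F) := by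
  intro a b h
  exact (dg_inj _ _ _ _ h).2

/-- the swap -/
def sw : GL (Fin 2) F :=
  ⟨!![0, 1; 1, 0], !![0, 1; 1, 0],
    by ext i j; fin_cases i <;> fin_cases j <;> simp,
    by ext i j; fin_cases i <;> fin_cases j <;> simp⟩

lemma sw_mul_sw : (sw : GL (Fin 2) F) * sw = 1 := by
  apply Units.ext
  ext i j
  fin_cases i <;> fin_cases j <;> simp [sw]

lemma sw_ne_one : (sw : GL (Fin 2) F) ≠ 1 := by
  intro h
  have h1 := congrArg (fun g : GL (Fin 2) F => (g : Matrix (Fin 2) (Fin 2) F) 0 0) h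
  simp [sw] at h1

lemma sw_conj (a b : Fˣ) : (sw : GL (Fin 2) F) * dg a b * sw⁻¹ = dg b a := by
  have hinv : (sw : GL (Fin 2) F)⁻¹ = sw := inv_eq_of_mul_eq_one_left sw_mul_sw
  rw [hinv]
  apply Units.ext
  ext i j
  fin_cases i <;> fin_cases j <;> simp [sw, dg]

theorem wreath_data [Fintype F] (n : ℕ) (hn : 2 ^ n ∣ Fintype.card F - 1) :
    ∃ x y z : GL (Fin 2) F, orderOf x = 2 ^ n ∧ x * y = y * x ∧
      Subgroup.zpowers x ⊓ Subgroup.zpowers y = ⊥ ∧ orderOf z = 2 ∧ z * x * z⁻¹ = y := by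
  classical
  have hcard : Nat.card Fˣ = Fintype.card F - 1 := by
    rw [Nat.card_eq_fintype_card, Fintype.card_units]
  obtain ⟨ζ, hζ⟩ : ∃ ζ : Fˣ, orderOf ζ = 2 ^ n := by
    obtain ⟨g, hg⟩ := IsCyclic.exists_generator (α := Fˣ)
    have hord : orderOf g = Nat.card Fˣ := orderOf_eq_card_of_forall_mem_zpowers hg
    have hpos : 0 < Nat.card Fˣ := Nat.card_pos
    rw [← hcard] at hn
    obtain ⟨k, hk⟩ := hn
    have hk0 : k ≠ 0 := by
      rintro rfl
      rw [mul_zero] at hk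
      omega
    refine ⟨g ^ k, ?_⟩
    rw [orderOf_pow_of_dvd hk0 (by rw [hord, hk]; exact dvd_mul_left k _), hord, hk]
    exact Nat.mul_div_cancel _ (Nat.pos_of_ne_zero hk0)
  refine ⟨dg1 ζ, dg2 ζ, sw, ?_, ?_, ?_, ?_, ?_⟩
  · rw [orderOf_injective dg1 dg1_inj, hζ]
  · show dg ζ 1 * dg 1 ζ = dg 1 ζ * dg ζ 1
    rw [dg_mul, dg_mul, mul_one, one_mul]
  · rw [Subgroup.eq_bot_iff_forall]
    intro w hw
    rw [Subgroup.mem_inf] at hw
    obtain ⟨h1, h2⟩ := hw
    obtain ⟨i, hi⟩ := Subgroup.mem_zpowers_iff.1 h1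
    obtain ⟨j, hj⟩ := Subgroup.mem_zpowers_iff.1 h2
    rw [← map_zpow] at hi hj
    have : dg (ζ ^ i) 1 = dg 1 (ζ ^ j) := by
      show dg1 (ζ ^ i) = dg2 (ζ ^ j)
      rw [hi, hj]
    have h3 := (dg_inj _ _ _ _ this).1
    rw [← hi, h3, map_one]
  · exact orderOf_eq_prime (by rw [pow_two, sw_mul_sw]) sw_ne_one
  · exact sw_conj ζ 1


open Matrix

variable {F : Type*} [Field F] [Fintype F] {K : Type*} [Field K] [Fintype K] [Algebra F K]

/-- abstract quasi-dihedral data in End_F(K) -/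
theorem qd_data_end (h2 : Module.finrank F K = 2) (m : ℕ) (hm2 : 2 ≤ m)
    (hm : 2 ^ (m + 1) ∣ Fintype.card F ^ 2 - 1)
    (hmod : Fintype.card F % 2 ^ (m + 1) = 2 ^ m - 1) :
    ∃ X Y : (Module.End F K)ˣ, orderOf X = 2 ^ (m + 1) ∧ orderOf Y = 2 ∧
      Y * X * Y⁻¹ = X ^ (2 ^ m - 1) := by
  classical
  set q := Fintype.card F with hq
  have hcardK : Fintype.card K = q ^ 2 := by
    rw [Module.card_eq_pow_finrank (K := F) (V := K), h2]
  have hcardU : Nat.card Kˣ = q ^ 2 - 1 := by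
    rw [Nat.card_eq_fintype_card, Fintype.card_units, hcardK]
  -- ξ of order 2^(m+1)
  obtain ⟨ξ, hξ⟩ : ∃ ξ : Kˣ, orderOf ξ = 2 ^ (m + 1) := by
    obtain ⟨g, hg⟩ := IsCyclic.exists_generator (α := Kˣ)
    have hord : orderOf g = Nat.card Kˣ := orderOf_eq_card_of_forall_mem_zpowers hg
    have hpos : 0 < Nat.card Kˣ := Nat.card_pos
    rw [← hcardU] at hm
    obtain ⟨k, hk⟩ := hm
    have hk0 : k ≠ 0 := by
      rintro rfl
      rw [mul_zero] at hk
      omega
    refine ⟨g ^ k, ?_⟩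
    rw [orderOf_pow_of_dvd hk0 (by rw [hord, hk]; exact dvd_mul_left k _), hord, hk]
    exact Nat.mul_div_cancel _ (Nat.pos_of_ne_zero hk0)
  -- the multiplication hom
  let μ : Kˣ →* (Module.End F K)ˣ := Units.map ((Algebra.lmul F K : K →ₐ[F] Module.End F K) : K →* Module.End F K)
  have hμinj : Function.Injective μ := by
    intro a b hab
    have h1 := congrArg (fun u : (Module.End F K)ˣ => (u : Module.End F K) 1) hab
    simp only [μ, Units.coe_map, MonoidHom.coe_coe, Algebra.lmul_algebraMap] at h1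
    apply Units.ext
    simpa using h1
  set X := μ ξ with hX
  have hXord : orderOf X = 2 ^ (m + 1) := by
    rw [hX, orderOf_injective μ hμinj, hξ]
  -- Frobenius
  let σ : Module.End F K := (FiniteField.frobeniusAlgHom F K).toLinearMap
  have hσ : ∀ a : K, σ a = a ^ q := fun a => rfl
  have hσσ : σ * σ = 1 := by
    apply LinearMap.ext
    intro a
    show σ (σ a) = a
    rw [hσ, hσ, ← pow_mul, ← pow_two, ← hcardK, FiniteField.pow_card]
  let Y : (Module.End F K)ˣ := ⟨σ, σ, hσσ, hσσ⟩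
  have hYX : Y * X = X ^ q * Y := by
    apply Units.ext
    apply LinearMap.ext
    intro a
    show σ ((ξ : K) * a) = ((X ^ q : (Module.End F K)ˣ) : Module.End F K) (σ a)
    rw [← map_pow μ ξ q]
    show σ ((ξ : K) * a) = ((ξ ^ q : Kˣ) : K) * σ a
    rw [hσ, hσ, mul_pow, Units.val_pow_eq_pow_val]
  have hpow : X ^ q = X ^ (2 ^ m - 1) := by
    rw [pow_eq_pow_iff_modEq, hXord]
    show q % 2 ^ (m + 1) = (2 ^ m - 1) % 2 ^ (m + 1)
    rw [hmod, Nat.mod_eq_of_lt]
    have : 2 ^ (m + 1) = 2 * 2 ^ m := by ring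
    have : 1 ≤ 2 ^ m := Nat.one_le_two_pow
    omega
  have hYY : Y * Y = 1 := Units.ext hσσ
  have hrel : Y * X * Y⁻¹ = X ^ (2 ^ m - 1) := by
    rw [hYX, hpow]; group
  have hYne : Y ≠ 1 := by
    intro h1
    rw [h1] at hrel
    have h3 : X ^ (2 ^ m - 1) = X ^ 1 := by
      rw [← hrel]; group
    rw [pow_eq_pow_iff_modEq, hXord] at h3
    have h4 : 2 ^ (m + 1) = 2 * 2 ^ m := by ring
    have h5 : 4 ≤ 2 ^ m := by
      calc 4 = 2 ^ 2 := by norm_num
        _ ≤ 2 ^ m := Nat.pow_le_pow_right (by norm_num) hm2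
    have h6 := h3
    unfold Nat.ModEq at h6
    rw [Nat.mod_eq_of_lt (by omega), Nat.mod_eq_of_lt (by omega)] at h6
    omega
  refine ⟨X, Y, hXord, ?_, hrel⟩
  exact orderOf_eq_prime (by rw [pow_two, hYY]) hYne

/-- transfer to GL₂ -/
theorem qd_data (h2 : Module.finrank F K = 2) (m : ℕ) (hm2 : 2 ≤ m)
    (hm : 2 ^ (m + 1) ∣ Fintype.card F ^ 2 - 1)
    (hmod : Fintype.card F % 2 ^ (m + 1) = 2 ^ m - 1) :
    ∃ x y : GL (Fin 2) F, orderOf x = 2 ^ (m + 1) ∧ orderOf y = 2 ∧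
      y * x * y⁻¹ = x ^ (2 ^ m - 1) := by
  obtain ⟨X, Y, hX, hY, hrel⟩ := qd_data_end h2 m hm2 hm hmod
  let b : Module.Basis (Fin 2) F K := Module.finBasisOfFinrankEq F K h2
  let e : (Module.End F K)ˣ ≃* GL (Fin 2) F :=
    Units.mapEquiv (LinearMap.toMatrixAlgEquiv b).toRingEquiv.toMulEquiv
  refine ⟨e X, e Y, ?_, ?_, ?_⟩
  · rw [e.orderOf_eq, hX]
  · rw [e.orderOf_eq, hY]
  · rw [← map_inv, ← map_mul, ← map_mul, hrel, map_pow]


/-- field embedding from the cardinality relation -/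
theorem exists_embedding {F K : Type*} [Field F] [Field K] [Fintype F] [Fintype K] (m : ℕ) (hm : 1 ≤ m)
    (hK : Fintype.card K ^ m = Fintype.card F) : Nonempty (K →+* F) := by
  obtain ⟨a, hpK, ha⟩ := FiniteField.card K (ringChar K)
  obtain ⟨b, hpF, hb⟩ := FiniteField.card F (ringChar F)
  have heq : ringChar K = ringChar F := by
    have h1 : ringChar K ∣ ringChar F ^ (b : ℕ) := by
      rw [← hb, ← hK, ha, ← pow_mul]
      exact dvd_pow_self _ (by have := a.pos; positivity)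
    exact (Nat.prime_dvd_prime_iff_eq hpK hpF).mp (hpK.dvd_of_dvd_pow h1)
  set p := ringChar F with hp
  have : Fact p.Prime := ⟨hpF⟩
  have : CharP K p := ringChar.of_eq heq
  let _ : Algebra (ZMod p) K := ZMod.algebra K p
  let _ : Algebra (ZMod p) F := ZMod.algebra F p
  have hcK := FiniteField.pow_finrank_eq_card p K
  have hcF := FiniteField.pow_finrank_eq_card p F
  have hdvd : Module.finrank (ZMod p) K ∣ Module.finrank (ZMod p) F := by
    rw [← hcK, ← hcF, ← pow_mul] at hK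
    have := Nat.pow_right_injective hpF.two_le hK
    exact ⟨m, this.symm⟩
  obtain ⟨g⟩ := FiniteField.nonempty_algHom_of_finrank_dvd hdvd
  exact ⟨g.toRingHom⟩

theorem exists_quadratic_ext (F : Type*) [Field F] [Fintype F] :
    ∃ (K : Type) (_ : Field K) (_ : Fintype K) (_ : Algebra F K), Module.finrank F K = 2 := by
  obtain ⟨k, hp, hq⟩ := FiniteField.card F (ringChar F)
  set p := ringChar F with hpdef
  have : Fact p.Prime := ⟨hp⟩
  have : Fintype (GaloisField p (2 * k)) := Fintype.ofFinite _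
  have hK : Fintype.card (GaloisField p (2 * k)) = Fintype.card F ^ 2 := by
    rw [← Nat.card_eq_fintype_card, GaloisField.card p (2 * k) (by have := k.pos; omega), hq,
      ← pow_mul, mul_comm]
  obtain ⟨ι⟩ := exists_embedding (F := GaloisField p (2 * k)) (K := F) 2 (by norm_num) hK.symm
  let alg : Algebra F (GaloisField p (2 * k)) := ι.toAlgebra
  refine ⟨GaloisField p (2 * k), inferInstance, inferInstance, alg, ?_⟩
  have h1 := Module.card_eq_pow_finrank (K := F) (V := GaloisField p (2 * k))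
  rw [hK] at h1
  have hq1 : 1 < Fintype.card F := Fintype.one_lt_card
  exact (Nat.pow_right_injective hq1 h1).symm


theorem S1217_main {F : Type*} [Field F] [Fintype F] (P : Sylow 2 (GL (Fin 2) F)) :
    (Fintype.card F % 4 = 3 → Cfsg.IsQuasiDihedral (P : Subgroup (GL (Fin 2) F))) ∧
    (Fintype.card F % 4 = 1 → Cfsg.IsWreathed (P : Subgroup (GL (Fin 2) F))) := by
  classical
  have hcardP : Nat.card (P : Subgroup (GL (Fin 2) F))
      = 2 ^ ((Fintype.card F ^ 2 - 1) * (Fintype.card F ^ 2 - Fintype.card F)).factorization 2 := by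
    rw [Sylow.card_eq_multiplicity, Matrix.card_GL_field, Fin.prod_univ_two]
    simp
  constructor
  · intro h
    obtain ⟨m, hm2, hdvd, hmod, hfac⟩ := arith3 _ h
    obtain ⟨K, _, _, _, h2⟩ := exists_quadratic_ext F
    obtain ⟨x, y, hx, hy, hrel⟩ := qd_data (K := K) h2 m hm2 hdvd hmod
    obtain ⟨x', y', hx', hy', hrel'⟩ := quasidihedral_of P (m + 1) (2 ^ m - 1) x y hx hy hrel
    refine ⟨m + 1, by omega, ?_, x', y', hx', hy', ?_⟩
    · rw [hcardP, hfac]
    · rw [Nat.add_sub_cancel]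
      exact hrel'
  · intro h
    have hq1 : 1 < Fintype.card F := Fintype.one_lt_card
    obtain ⟨n, hn, hdvd, hfac⟩ := arith1 _ h hq1
    obtain ⟨x, y, z, hx, hxy, hint, hz, hzx⟩ := wreath_data (F := F) n hdvd
    have hc : Nat.card (P : Subgroup (GL (Fin 2) F)) = 2 ^ (2 * n + 1) := by
      rw [hcardP, hfac]
    obtain ⟨x', y', z', h1, h2, h3, h4, h5⟩ := wreathed_of P n hn hc x y z hx hxy hint hz hzx
    exact ⟨n, hn, hc, x', y', z', h1, h2, h3, h4, h5⟩

end Cfsg.Agent.Lib.Helper4_GL2Sylow
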