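import Mathlib

/-! Transvections in `Matrix.SpecialLinearGroup`: action on vectors, commutator formula,
`diag2n` as a product of transvections. -/

set_option autoImplicit false

namespace Cfsg.Agent.Helper9SLn

open Matrix Matrix.SpecialLinearGroup
open scoped commutatorElement

variable {ι F : Type*} [Fintype ι] [DecidableEq ι] [Field F]

lemma transvection_mulVec {i j : ι} (hij : i ≠ j) (b : F) (v : ι → F) :
    (SpecialLinearGroup.transvection hij b).1 *ᵥ v = Function.update v i (v i + b * v j) := by
  rw [transvection_coe, Matrix.add_mulVec, Matrix.one_mulVec]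
  ext k
  by_cases hk : k = i
  · subst hk
    simp [Matrix.mulVec, dotProduct, Matrix.single_apply]
  · simp [Matrix.mulVec, dotProduct, hk, Ne.symm hk]

lemma sl_ext (A B : SpecialLinearGroup ι F) (h : ∀ v : ι → F, A.1 *ᵥ v = B.1 *ᵥ v) : A = B := by
  apply Subtype.ext
  exact Matrix.ext_iff_mulVec.2 h

lemma mul_mulVec (A B : SpecialLinearGroup ι F) (v : ι → F) :
    (A * B).1 *ᵥ v = A.1 *ᵥ (B.1 *ᵥ v) := by
  exact (Matrix.mulVec_mulVec v A.1 B.1).symm

/-- transvection as a commutator -/
lemma transvection_eq_comm {i j k : ι} (hij : i ≠ j) (hik : i ≠ k) (hkj : k ≠ j) (a : F) :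
    SpecialLinearGroup.transvection hij a
      = ⁅SpecialLinearGroup.transvection hik a, SpecialLinearGroup.transvection hkj (1 : F)⁆ := by
  rw [commutatorElement_def, transvection_inv, transvection_inv]
  apply sl_ext
  intro v
  simp only [mul_mulVec, transvection_mulVec]
  ext l
  by_cases hl : l = i
  · subst hl
    simp [Function.update_apply, hik, hik.symm, hkj, hkj.symm, hij, hij.symm]
    ring
  · by_cases hl2 : l = k
    · subst hl2
      simp [Function.update_apply, hik, hik.symm, hkj, hkj.symm, hij, hij.symm, hl]
    · simp [Function.update_apply, hl, hl2]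

lemma diag2n_eq {i j : ι} (hij : i ≠ j) (a : F) (ha : a ≠ 0) :
    diag2n hij a ha = SpecialLinearGroup.transvection hij a *
      SpecialLinearGroup.transvection hij.symm (- a⁻¹) *
      SpecialLinearGroup.transvection hij a *
      SpecialLinearGroup.transvection hij (-1) *
      SpecialLinearGroup.transvection hij.symm 1 *
      SpecialLinearGroup.transvection hij (-1) := by
  apply sl_ext
  intro v
  simp only [mul_mulVec, transvection_mulVec, diag2n_coe]
  ext l
  rw [Matrix.mulVec_diagonal]
  by_cases hl : l = i
  · subst hl
    simp [Function.update_apply, hij, hij.symm]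
    field_simp
    ring
  · by_cases hl2 : l = j
    · subst hl2
      simp [Function.update_apply, hij, hij.symm, hl]
      field_simp
      ring
    · simp [Function.update_apply, hl, hl2]


lemma exists_third {n : ℕ} (hn : 3 ≤ n) (i j : Fin n) : ∃ k : Fin n, k ≠ i ∧ k ≠ j := by
  by_contra hcon
  push Not at hcon
  have : (Finset.univ : Finset (Fin n)) ⊆ {i, j} := by
    intro k _
    by_cases hk : k = i
    · simp [hk]
    · simp [hcon k hk]
  have h1 := Finset.card_le_card this
  have h2 : ({i, j} : Finset (Fin n)).card ≤ 2 := Finset.card_le_two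
  rw [Finset.card_univ, Fintype.card_fin] at h1
  omega

/-- every element of `SL ι F` is a product of transvections -/
theorem transvection_induction [Nontrivial ι] (P : SpecialLinearGroup ι F → Prop)
    (M : SpecialLinearGroup ι F)
    (htransvec : ∀ (i j : ι) (hij : i ≠ j) (a : F), P (SpecialLinearGroup.transvection hij a))
    (hmul : ∀ A B, P A → P B → P (A * B)) : P M := by
  refine diagonal_transvection_induction' P M ?_ htransvec hmul
  intro i j hij c hc
  rw [diag2n_eq]
  refine hmul _ _ (hmul _ _ (hmul _ _ (hmul _ _ (hmul _ _ ?_ ?_) ?_) ?_) ?_) ?_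
  all_goals exact htransvec _ _ _ _

end Cfsg.Agent.Helper9SLn
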