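import Mathlib
import Cfsg.Agent.S0248
import Cfsg.Agent.S0249

set_option autoImplicit false

namespace Cfsg.Agent.Lib.Helper4_GLNorm

open Matrix
open scoped commutatorElement

variable {n : Type*} [Fintype n] [DecidableEq n] {F : Type*} [Field F]

lemma toGL_center_mem (z : Matrix.SpecialLinearGroup n F)
    (hz : z ∈ Subgroup.center (Matrix.SpecialLinearGroup n F)) :
    Matrix.SpecialLinearGroup.toGL z ∈ Subgroup.center (GL n F) := by
  rw [Matrix.GeneralLinearGroup.mem_center_iff_val_mem_range_scalar]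
  rw [Matrix.SpecialLinearGroup.mem_center_iff] at hz
  obtain ⟨r, _, hr⟩ := hz
  exact ⟨r, hr⟩

lemma exists_toGL_eq (u : GL n F) (h : Matrix.GeneralLinearGroup.det u = 1) :
    ∃ x : Matrix.SpecialLinearGroup n F, Matrix.SpecialLinearGroup.toGL x = u := by
  refine ⟨⟨(u : Matrix n n F), ?_⟩, Units.ext rfl⟩
  have := congrArg Units.val h
  simpa using this

theorem main
    (hperf : commutator (Matrix.SpecialLinearGroup n F) = ⊤)
    (hsimple : IsSimpleGroup (Matrix.ProjectiveSpecialLinearGroup n F))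
    (G : Subgroup (GL n F))
    (hG : ∀ s : Matrix.SpecialLinearGroup n F, ∀ g ∈ G,
      (Matrix.SpecialLinearGroup.toGL s) * g * (Matrix.SpecialLinearGroup.toGL s)⁻¹ ∈ G) :
    (∀ g ∈ G, ∃ c : F, (g : Matrix n n F) = c • (1 : Matrix n n F)) ∨
      (Matrix.SpecialLinearGroup.toGL : Matrix.SpecialLinearGroup n F →* _).range ≤ G := by
  classical
  set ι : Matrix.SpecialLinearGroup n F →* GL n F := Matrix.SpecialLinearGroup.toGL with hι
  set N : Subgroup (Matrix.SpecialLinearGroup n F) := G.comap ι with hN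
  have hNn : N.Normal := by
    constructor
    intro x hx s
    rw [hN, Subgroup.mem_comap] at hx ⊢
    rw [map_mul, map_mul, map_inv]
    exact hG s _ hx
  set π := QuotientGroup.mk' (Subgroup.center (Matrix.SpecialLinearGroup n F)) with hπ
  have hπs : Function.Surjective π := QuotientGroup.mk'_surjective _
  have hmapn : (N.map π).Normal := Subgroup.Normal.map hNn π hπs
  rcases hmapn.eq_bot_or_eq_top with hbot | htop
  · -- N ≤ center
    left
    have hNc : N ≤ Subgroup.center (Matrix.SpecialLinearGroup n F) := by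
      intro x hx
      have : π x ∈ N.map π := Subgroup.mem_map_of_mem _ hx
      rw [hbot, Subgroup.mem_bot] at this
      exact (QuotientGroup.eq_one_iff x).1 this
    intro g hg
    -- hom to center
    have hdet : ∀ s : Matrix.SpecialLinearGroup n F,
        ι s * g * (ι s)⁻¹ * g⁻¹ ∈ Subgroup.center (GL n F) := by
      intro s
      have h1 : ι s * g * (ι s)⁻¹ * g⁻¹ ∈ G := G.mul_mem (hG s g hg) (G.inv_mem hg)
      have h2 : Matrix.GeneralLinearGroup.det (ι s * g * (ι s)⁻¹ * g⁻¹) = 1 := by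
        simp [hι, mul_comm]
      obtain ⟨x, hx⟩ := exists_toGL_eq _ h2
      have hxN : x ∈ N := by rw [hN, Subgroup.mem_comap, hx]; exact h1
      rw [← hx]
      exact toGL_center_mem x (hNc hxN)
    let φ : Matrix.SpecialLinearGroup n F →* Subgroup.center (GL n F) :=
      MonoidHom.mk' (fun s => ⟨ι s * g * (ι s)⁻¹ * g⁻¹, hdet s⟩) (by
        intro s t
        apply Subtype.ext
        simp only [map_mul, Subgroup.coe_mul]
        have ht := Subgroup.mem_center_iff.1 (hdet t)
        have : ι s * ι t * g * (ι s * ι t)⁻¹ * g⁻¹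
            = ι s * (ι t * g * (ι t)⁻¹ * g⁻¹) * (g * (ι s)⁻¹ * g⁻¹) := by group
        rw [this, ht (ι s), ht (ι s * g * (ι s)⁻¹ * g⁻¹)]
        group)
    have hφ : ∀ s, ((φ s : Subgroup.center (GL n F)) : GL n F) = ι s * g * (ι s)⁻¹ * g⁻¹ := fun s => rfl
    have hker1 : ∀ s t : Matrix.SpecialLinearGroup n F, φ ⁅s, t⁆ = 1 := by
      intro s t
      rw [map_commutatorElement, commutatorElement_eq_one_iff_commute]
      exact Subtype.ext (Subgroup.mem_center_iff.1 (φ t).2 (φ s))
    have hker : φ.ker = ⊤ := by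
      rw [eq_top_iff, ← hperf, commutator_def, Subgroup.commutator_le]
      intro s _ t _
      exact hker1 s t
    have hcomm : ∀ s : Matrix.SpecialLinearGroup n F, ι s * g = g * ι s := by
      intro s
      have hs : s ∈ φ.ker := by rw [hker]; trivial
      rw [MonoidHom.mem_ker] at hs
      have h1 : ι s * g * (ι s)⁻¹ * g⁻¹ = 1 := by rw [← hφ, hs]; rfl
      have : ι s * g = (ι s * g * (ι s)⁻¹ * g⁻¹) * (g * ι s) := by group
      rw [this, h1, one_mul]
    have hsc : (g : Matrix n n F) ∈ Set.range (Matrix.scalar n) := by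
      refine Matrix.mem_range_scalar_of_commute_transvectionStruct fun t => ?_
      have := hcomm t.toSpecialLinearGroup
      have h2 := congrArg (fun x : GL n F => (x : Matrix n n F)) this
      exact h2
    obtain ⟨c, hc⟩ := hsc
    refine ⟨c, ?_⟩
    rw [← hc, Matrix.smul_one_eq_diagonal]
    rfl
  · right
    have hdecomp : ∀ s : Matrix.SpecialLinearGroup n F,
        ∃ x ∈ N, ∃ z ∈ Subgroup.center (Matrix.SpecialLinearGroup n F), s = x * z := by
      intro s
      have : π s ∈ N.map π := by rw [htop]; trivial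
      obtain ⟨x, hx, hxs⟩ := this
      refine ⟨x, hx, x⁻¹ * s, ?_, by group⟩
      have : π (x⁻¹ * s) = 1 := by rw [map_mul, map_inv, hxs]; group
      exact (QuotientGroup.eq_one_iff _).1 this
    have hcomm : commutator (Matrix.SpecialLinearGroup n F) ≤ N := by
      rw [commutator_def, Subgroup.commutator_le]
      intro s _ t _
      obtain ⟨x, hx, z, hz, rfl⟩ := hdecomp s
      obtain ⟨y, hy, z', hz', rfl⟩ := hdecomp t
      have hzc := Subgroup.mem_center_iff.1 hz
      have hzc' := Subgroup.mem_center_iff.1 hz'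
      have : ⁅x * z, y * z'⁆ = ⁅x, y⁆ := by
        have e1 : ⁅x * z, y * z'⁆ = x * (z * y) * (z' * (z⁻¹ * x⁻¹)) * (z'⁻¹ * y⁻¹) := by
          rw [commutatorElement_def]; group
        rw [e1, ← hzc y, ← hzc' (z⁻¹ * x⁻¹), commutatorElement_def]; group
      rw [this]
      exact N.mul_mem (N.mul_mem (N.mul_mem hx hy) (N.inv_mem hx)) (N.inv_mem hy)
    rw [hperf] at hcomm
    rintro _ ⟨s, rfl⟩
    have : s ∈ N := hcomm trivial
    exact this


lemma field_cond {F : Type*} [Field F] (hF : 4 ≤ Nat.card F) :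
    ∃ a : F, a ≠ 0 ∧ a ^ 2 ≠ 1 := by
  have : Finite F := (Nat.card_pos_iff.1 (by omega)).2
  obtain ⟨x, hx⟩ : IsCyclic Fˣ := by infer_instance
  refine ⟨x, Units.ne_zero x, fun h ↦ ?_⟩
  grw [Nat.card_eq_card_units_add_one F, ← orderOf_eq_card_of_forall_mem_zpowers hx,
    orderOf_le_of_pow_eq_one zero_lt_two (Units.ext <| by simpa using h)] at hF
  omega

theorem S2540_main {F : Type*} [Field F] [Fintype F] (n : ℕ) (hn : 1 ≤ n)
    (hex : ¬ (n = 2 ∧ Fintype.card F ≤ 3))
    (G : Subgroup (Matrix.GeneralLinearGroup (Fin n) F))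
    (hG : ∀ s : Matrix.SpecialLinearGroup (Fin n) F, ∀ g ∈ G,
      (Matrix.SpecialLinearGroup.toGL s) * g * (Matrix.SpecialLinearGroup.toGL s)⁻¹ ∈ G) :
    (∀ g ∈ G, ∃ c : F, (g : Matrix (Fin n) (Fin n) F) = c • (1 : Matrix (Fin n) (Fin n) F)) ∨
      (Matrix.SpecialLinearGroup.toGL : Matrix.SpecialLinearGroup (Fin n) F →* _).range ≤ G := by
  rcases Nat.lt_or_ge n 3 with h | h
  · interval_cases n
    · left
      intro g hg
      refine ⟨(g : Matrix (Fin 1) (Fin 1) F) 0 0, ?_⟩
      ext i j
      fin_cases i; fin_cases j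
      simp
    · have h4 : 4 ≤ Nat.card F := by
        rw [Nat.card_eq_fintype_card]
        omega
      obtain ⟨a, ha, hasq⟩ := field_cond h4
      exact main (Matrix.SL2.commutator_eq_top ha hasq)
        (Matrix.ProjectiveSpecialLinearGroup.rank_two_simple h4) G hG
  · exact main (Cfsg.Agent.S0248.result n h) (Cfsg.Agent.S0249.result n h) G hG

end Cfsg.Agent.Lib.Helper4_GLNorm

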