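import Mathlib
import Cfsg.Prelude.Def_CaseTheorems
import Cfsg.Agent.Lib.Helper5_PPrime
import Cfsg.Agent.Lib.Helper4_GLNorm

set_option linter.all false
set_option autoImplicit false

namespace Cfsg.Agent.Lib.Helper4_GLComp
open Matrix

/-- criterion for quasisimplicity of a homomorphic image -/
theorem quasisimple_of_surj {S K : Type*} [Group S] [Group K] (φ : S →* K)
    (hφ : Function.Surjective φ) (hperf : Group.IsPerfect S)
    (hnorm : ∀ N : Subgroup S, N.Normal → N = ⊤ ∨ N ≤ Subgroup.center S)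
    (hnt : ∃ s : S, φ s ≠ 1) : Cfsg.IsQuasisimple K := by
  haveI := hperf
  have hK : Group.IsPerfect K := Group.IsPerfect.ofSurjective hφ
  refine ⟨hK, ?_⟩
  have hcenter : Subgroup.center K ≠ ⊤ := by
    intro h
    have hcomm : commutator K = ⊥ := by
      rw [commutator_def, Subgroup.commutator_eq_bot_iff_le_centralizer]
      intro x _
      rw [Subgroup.coe_top, Subgroup.centralizer_univ, h]
      exact Subgroup.mem_top x
    rw [hK.commutator_eq_top] at hcomm
    obtain ⟨s, hs⟩ := hnt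
    apply hs
    have : φ s ∈ (⊤ : Subgroup K) := Subgroup.mem_top _
    rw [hcomm] at this
    exact Subgroup.mem_bot.mp this
  haveI : Nontrivial (K ⧸ Subgroup.center K) := by
    rw [QuotientGroup.nontrivial_iff]
    exact hcenter
  refine ⟨fun H hH => ?_⟩
  haveI := hH
  set M := H.comap (QuotientGroup.mk' (Subgroup.center K)) with hM
  haveI hMn : M.Normal := hH.comap _
  set N := M.comap φ with hN
  haveI hNn : N.Normal := hMn.comap _
  rcases hnorm N hNn with h | h
  · right
    rw [eq_top_iff]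
    intro x _
    obtain ⟨k, rfl⟩ := QuotientGroup.mk'_surjective (Subgroup.center K) x
    obtain ⟨s, rfl⟩ := hφ k
    have hs : s ∈ N := by rw [h]; exact Subgroup.mem_top _
    exact hs
  · left
    rw [eq_bot_iff]
    intro x hx
    obtain ⟨k, rfl⟩ := QuotientGroup.mk'_surjective (Subgroup.center K) x
    obtain ⟨s, rfl⟩ := hφ k
    have hs : s ∈ N := hx
    have hsc : s ∈ Subgroup.center S := h hs
    have hkc : φ s ∈ Subgroup.center K := by
      rw [Subgroup.mem_center_iff]
      intro y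
      obtain ⟨s', rfl⟩ := hφ y
      rw [← map_mul, ← map_mul, (Subgroup.mem_center_iff.mp hsc) s']
    rw [Subgroup.mem_bot]
    exact (QuotientGroup.eq_one_iff _).mpr hkc

/-- normal subgroups of `SL_k` -/
theorem SL_normal {F : Type*} [Field F] (k : ℕ)
    (hperf : commutator (Matrix.SpecialLinearGroup (Fin k) F) = ⊤)
    (hsimple : IsSimpleGroup (Matrix.ProjectiveSpecialLinearGroup (Fin k) F))
    (N : Subgroup (Matrix.SpecialLinearGroup (Fin k) F)) (hN : N.Normal) :
    N = ⊤ ∨ N ≤ Subgroup.center (Matrix.SpecialLinearGroup (Fin k) F) := by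
  haveI := hN
  haveI := hsimple
  set Z := Subgroup.center (Matrix.SpecialLinearGroup (Fin k) F) with hZ
  have hmapn : (N.map (QuotientGroup.mk' Z)).Normal :=
    hN.map _ (QuotientGroup.mk'_surjective Z)
  rcases hmapn.eq_bot_or_eq_top with h | h
  · right
    intro n hn
    have : (QuotientGroup.mk' Z) n ∈ N.map (QuotientGroup.mk' Z) := Subgroup.mem_map_of_mem _ hn
    rw [h, Subgroup.mem_bot] at this
    exact (QuotientGroup.eq_one_iff _).mp this
  · left
    have hsup : N ⊔ Z = ⊤ := by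
      rw [eq_top_iff]
      intro s _
      have : (QuotientGroup.mk' Z) s ∈ N.map (QuotientGroup.mk' Z) := by
        rw [h]; exact Subgroup.mem_top _
      obtain ⟨n, hn, hns⟩ := Subgroup.mem_map.mp this
      have hz : n⁻¹ * s ∈ Z := (QuotientGroup.eq (s := Z)).mp hns
      have : s = n * (n⁻¹ * s) := by group
      rw [this]
      exact Subgroup.mul_mem_sup hn hz
    have := Subgroup.Normal.commutator_le_of_self_sup_commutative_eq_top hsup
      (inferInstance : IsMulCommutative Z)
    rw [hperf] at this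
    exact eq_top_iff.mpr this

section blk
variable {F : Type*} [Field F] {k : ℕ}

/-- block matrix `c ⊕ M`. -/
def B (c : F) (M : Matrix (Fin k) (Fin k) F) : Matrix (Fin (k+1)) (Fin (k+1)) F :=
  Matrix.of fun i j => Fin.cases (Fin.cases c (fun _ => 0) j)
    (fun i' => Fin.cases 0 (fun j' => M i' j') j) i

@[simp] lemma B_00 (c : F) (M : Matrix (Fin k) (Fin k) F) : B c M 0 0 = c := rfl
@[simp] lemma B_0s (c : F) (M : Matrix (Fin k) (Fin k) F) (j : Fin k) : B c M 0 j.succ = 0 := rfl
@[simp] lemma B_s0 (c : F) (M : Matrix (Fin k) (Fin k) F) (i : Fin k) : B c M i.succ 0 = 0 := rfl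
@[simp] lemma B_ss (c : F) (M : Matrix (Fin k) (Fin k) F) (i j : Fin k) :
    B c M i.succ j.succ = M i j := rfl

lemma B_mul (c d : F) (M N : Matrix (Fin k) (Fin k) F) :
    B c M * B d N = B (c * d) (M * N) := by
  ext i j
  refine Fin.cases ?_ (fun i' => ?_) i <;> refine Fin.cases ?_ (fun j' => ?_) j <;>
    simp [Matrix.mul_apply, Fin.sum_univ_succ]

lemma B_one : B (1 : F) (1 : Matrix (Fin k) (Fin k) F) = 1 := by
  ext i j
  refine Fin.cases ?_ (fun i' => ?_) i <;> refine Fin.cases ?_ (fun j' => ?_) j <;>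
    simp [Matrix.one_apply, Fin.succ_ne_zero, Ne.symm (Fin.succ_ne_zero _)]

lemma B_inj {c d : F} {M N : Matrix (Fin k) (Fin k) F} (h : B c M = B d N) : c = d ∧ M = N := by
  refine ⟨?_, ?_⟩
  · have := congrFun (congrFun h 0) 0
    simpa using this
  · ext i j
    have := congrFun (congrFun h i.succ) j.succ
    simpa using this

/-- the diagonal vector -/
def dv (k : ℕ) : Fin (k+1) → F := Fin.cons (-1) (fun _ => 1)

@[simp] lemma dv_zero : (dv k : Fin (k+1) → F) 0 = -1 := rfl
@[simp] lemma dv_succ (i : Fin k) : (dv k : Fin (k+1) → F) i.succ = 1 := rfl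

def T (F : Type*) [Field F] (k : ℕ) : Matrix (Fin (k+1)) (Fin (k+1)) F := Matrix.diagonal (dv k)

lemma T_mul_T : T F k * T F k = 1 := by
  rw [T, Matrix.diagonal_mul_diagonal, ← Matrix.diagonal_one]
  congr 1
  funext i
  refine Fin.cases ?_ (fun i' => ?_) i <;> simp

lemma T_comm_B (c : F) (M : Matrix (Fin k) (Fin k) F) : B c M * T F k = T F k * B c M := by
  ext i j
  rw [T, Matrix.mul_diagonal, Matrix.diagonal_mul]
  refine Fin.cases ?_ (fun i' => ?_) i <;> refine Fin.cases ?_ (fun j' => ?_) j <;> simp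

lemma blk_of_comm (h2 : (2 : F) ≠ 0) (g : Matrix (Fin (k+1)) (Fin (k+1)) F)
    (h : g * T F k = T F k * g) : g = B (g 0 0) (g.submatrix Fin.succ Fin.succ) := by
  have key : ∀ i j, g i j * dv k j = dv k i * g i j := by
    intro i j
    have := congrFun (congrFun h i) j
    rw [T, Matrix.mul_diagonal, Matrix.diagonal_mul] at this
    exact this
  ext i j
  refine Fin.cases ?_ (fun i' => ?_) i <;> refine Fin.cases ?_ (fun j' => ?_) j
  · simp
  · have := key 0 j'.succ
    simp only [dv_zero, dv_succ, mul_one, neg_mul, one_mul] at this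
    have h3 : (2 : F) * g 0 j'.succ = 0 := by linear_combination this
    rcases mul_eq_zero.mp h3 with h4 | h4
    · exact absurd h4 h2
    · simpa using h4
  · have := key i'.succ 0
    simp only [dv_zero, dv_succ, mul_one, mul_neg, one_mul] at this
    have h3 : (2 : F) * g i'.succ 0 = 0 := by linear_combination -this
    rcases mul_eq_zero.mp h3 with h4 | h4
    · exact absurd h4 h2
    · simpa using h4
  · simp

end blk


section grp
variable {F : Type*} [Field F] {k : ℕ}

/-- the monoid hom `SL_k → Mat_{k+1}` -/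
def βhom (F : Type*) [Field F] (k : ℕ) :
    Matrix.SpecialLinearGroup (Fin k) F →* Matrix (Fin (k+1)) (Fin (k+1)) F where
  toFun s := B 1 s.val
  map_one' := by
    show B 1 ((1 : Matrix.SpecialLinearGroup (Fin k) F) : Matrix (Fin k) (Fin k) F) = 1
    rw [Matrix.SpecialLinearGroup.coe_one, B_one]
  map_mul' s s' := by
    show B 1 ((s * s' : Matrix.SpecialLinearGroup (Fin k) F) : Matrix (Fin k) (Fin k) F) = _
    rw [Matrix.SpecialLinearGroup.coe_mul, B_mul, one_mul]

/-- the involution -/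
def tinv (F : Type*) [Field F] (k : ℕ) : Matrix.GeneralLinearGroup (Fin (k+1)) F :=
  ⟨T F k, T F k, T_mul_T, T_mul_T⟩

lemma mem_cent_iff (g : Matrix.GeneralLinearGroup (Fin (k+1)) F) :
    g ∈ Subgroup.centralizer ({tinv F k} : Set (Matrix.GeneralLinearGroup (Fin (k+1)) F)) ↔
      (g : Matrix (Fin (k+1)) (Fin (k+1)) F) * T F k = T F k * g := by
  rw [Subgroup.mem_centralizer_singleton_iff]
  constructor
  · intro h
    exact congrArg Units.val h
  · intro h
    exact Units.ext h

/-- the hom `SL_k → C(t)` -/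
def ψhom (F : Type*) [Field F] (k : ℕ) :
    Matrix.SpecialLinearGroup (Fin k) F →*
      Subgroup.centralizer ({tinv F k} : Set (Matrix.GeneralLinearGroup (Fin (k+1)) F)) :=
  MonoidHom.codRestrict (βhom F k).toHomUnits _ (fun s => by
    rw [mem_cent_iff]
    exact T_comm_B 1 s.val)

lemma ψhom_val (s : Matrix.SpecialLinearGroup (Fin k) F) :
    (((ψhom F k s : Subgroup.centralizer ({tinv F k} : Set (Matrix.GeneralLinearGroup (Fin (k+1)) F))) :
      Matrix.GeneralLinearGroup (Fin (k+1)) F) : Matrix (Fin (k+1)) (Fin (k+1)) F) = B 1 s.val := rfl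

lemma range_normal (h2 : (2 : F) ≠ 0) : (ψhom F k).range.Normal := by
  constructor
  rintro _ ⟨s, rfl⟩ g
  have hg := (mem_cent_iff g.1).mp g.2
  have hgi := (mem_cent_iff (g⁻¹).1).mp (g⁻¹).2
  have e1 := blk_of_comm h2 _ hg
  have e2 := blk_of_comm h2 _ hgi
  set a := (g.1 : Matrix (Fin (k+1)) (Fin (k+1)) F) 0 0 with ha
  set A := (g.1 : Matrix (Fin (k+1)) (Fin (k+1)) F).submatrix Fin.succ Fin.succ with hA
  set a' := ((g⁻¹).1 : Matrix (Fin (k+1)) (Fin (k+1)) F) 0 0 with ha'
  set A' := ((g⁻¹).1 : Matrix (Fin (k+1)) (Fin (k+1)) F).submatrix Fin.succ Fin.succ with hA'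
  have hmul : (g.1 : Matrix (Fin (k+1)) (Fin (k+1)) F) * ((g⁻¹).1 : Matrix (Fin (k+1)) (Fin (k+1)) F) = 1 := by
    have : g * g⁻¹ = 1 := mul_inv_cancel g
    have := congrArg (fun x : Subgroup.centralizer ({tinv F k} : Set (Matrix.GeneralLinearGroup (Fin (k+1)) F)) =>
      ((x : Matrix.GeneralLinearGroup (Fin (k+1)) F) : Matrix (Fin (k+1)) (Fin (k+1)) F)) this
    exact this
  rw [e1, e2, B_mul, ← B_one] at hmul
  obtain ⟨haa, hAA⟩ := B_inj hmul
  have hdet : (A * s.val * A').det = 1 := by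
    rw [Matrix.det_mul, Matrix.det_mul, mul_right_comm, ← Matrix.det_mul, hAA, Matrix.det_one,
      one_mul, s.2]
  refine ⟨⟨A * s.val * A', hdet⟩, ?_⟩
  apply Subtype.ext
  apply Units.ext
  show B 1 (A * s.val * A') = (g.1 : Matrix (Fin (k+1)) (Fin (k+1)) F) * B 1 s.val *
    ((g⁻¹).1 : Matrix (Fin (k+1)) (Fin (k+1)) F)
  rw [e1, e2, B_mul, B_mul, mul_one, haa]

end grp


section fin
variable {F : Type*} [Field F]

theorem two_ne_zero_of_odd' [Fintype F] (hF : Odd (Fintype.card F)) : (2 : F) ≠ 0 := by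
  intro h
  have hc : ringChar F = 2 := by
    have h3 : ((2 : ℕ) : F) = 0 := by exact_mod_cast h
    have hd := (ringChar.spec F 2).1 h3
    have hne : ringChar F ≠ 1 := by
      intro h1
      have := CharP.ringChar_ne_one (R := F)
      exact this h1
    rcases (Nat.dvd_prime Nat.prime_two).1 hd with h | h
    · exact absurd h hne
    · exact h
  have := FiniteField.even_card_of_char_two hc
  have := Nat.odd_iff.1 hF
  omega

lemma tinv_order (h2 : (2 : F) ≠ 0) (k : ℕ) : orderOf (tinv F k) = 2 := by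
  haveI : Fact (Nat.Prime 2) := ⟨Nat.prime_two⟩
  apply orderOf_eq_prime
  · apply Units.ext
    rw [pow_two]
    exact T_mul_T
  · intro h
    have h1 := congrArg (fun x : Matrix.GeneralLinearGroup (Fin (k+1)) F =>
      (x : Matrix (Fin (k+1)) (Fin (k+1)) F) 0 0) h
    simp only [tinv, T, Units.val_one, Matrix.one_apply_eq, Matrix.diagonal_apply_eq, dv_zero] at h1
    apply h2
    linear_combination -h1

lemma tinv_not_center (h2 : (2 : F) ≠ 0) (k : ℕ) :
    tinv F (k+1) ∉ Subgroup.center (Matrix.GeneralLinearGroup (Fin (k+1+1)) F) := by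
  intro h
  rw [Matrix.GeneralLinearGroup.mem_center_iff_val_mem_range_scalar] at h
  obtain ⟨r, hr⟩ := h
  have h0 := congrFun (congrFun hr 0) 0
  have h1 := congrFun (congrFun hr (Fin.succ 0)) (Fin.succ 0)
  simp only [tinv, T, Matrix.scalar_apply, Matrix.diagonal_apply_eq, dv_zero, dv_succ] at h0 h1
  apply h2
  linear_combination h0 - h1

/-- an involution in `SL_{k+2}` -/
def sinv (F : Type*) [Field F] (k : ℕ) : Matrix.SpecialLinearGroup (Fin (k+1+1)) F :=
  ⟨Matrix.diagonal (Fin.cons (-1) (Fin.cons (-1) (fun _ => 1))), by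
    rw [Matrix.det_diagonal, Fin.prod_univ_succ, Fin.prod_univ_succ]
    simp⟩

lemma sinv_sq (k : ℕ) : sinv F k * sinv F k = 1 := by
  apply Subtype.ext
  rw [Matrix.SpecialLinearGroup.coe_mul, Matrix.SpecialLinearGroup.coe_one]
  show Matrix.diagonal _ * Matrix.diagonal _ = 1
  rw [Matrix.diagonal_mul_diagonal, ← Matrix.diagonal_one]
  congr 1
  funext i
  refine Fin.cases ?_ (fun i' => ?_) i
  · simp
  · refine Fin.cases ?_ (fun i'' => ?_) i' <;> simp

lemma sinv_00 (k : ℕ) : (sinv F k).val 0 0 = -1 := by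
  show Matrix.diagonal _ 0 0 = -1
  rw [Matrix.diagonal_apply_eq]
  rfl

theorem S1340_main [Fintype F] [DecidableEq F]
    (hF : Odd (Fintype.card F)) (n : ℕ) (hn : 3 ≤ n) (h33 : ¬ (n = 3 ∧ Fintype.card F = 3)) :
    ∃ t : Matrix.GeneralLinearGroup (Fin n) F, orderOf t = 2 ∧
      t ∉ Subgroup.center (Matrix.GeneralLinearGroup (Fin n) F) ∧
      Cfsg.HasComponent (↥(Subgroup.centralizer ({t} : Set (Matrix.GeneralLinearGroup (Fin n) F))) ⧸
        Cfsg.oddCore ↥(Subgroup.centralizer ({t} : Set (Matrix.GeneralLinearGroup (Fin n) F)))) := by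
  obtain ⟨m, rfl⟩ : ∃ m, n = m + 1 + 1 + 1 := ⟨n - 3, by omega⟩
  have h2 : (2 : F) ≠ 0 := two_ne_zero_of_odd' hF
  -- perfectness and simplicity
  have hps : commutator (Matrix.SpecialLinearGroup (Fin (m+1+1)) F) = ⊤ ∧
      IsSimpleGroup (Matrix.ProjectiveSpecialLinearGroup (Fin (m+1+1)) F) := by
    rcases Nat.eq_zero_or_pos m with hm | hm
    · subst hm
      have hc3 : Fintype.card F ≠ 3 := fun h => h33 ⟨rfl, h⟩
      have hc1 : 1 < Fintype.card F := Fintype.one_lt_card
      have hodd := Nat.odd_iff.1 hF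
      have h4 : 4 ≤ Nat.card F := by
        rw [Nat.card_eq_fintype_card]
        omega
      obtain ⟨a, ha, hasq⟩ := Cfsg.Agent.Lib.Helper4_GLNorm.field_cond h4
      exact ⟨Matrix.SL2.commutator_eq_top ha hasq,
        Matrix.ProjectiveSpecialLinearGroup.rank_two_simple h4⟩
    · exact ⟨Cfsg.Agent.S0248.result _ (by omega), Cfsg.Agent.S0249.result _ (by omega)⟩
  obtain ⟨hperf, hsimple⟩ := hps
  refine ⟨tinv F (m+1+1), tinv_order h2 _, tinv_not_center h2 _, ?_⟩
  set C := Subgroup.centralizer ({tinv F (m+1+1)} : Set (Matrix.GeneralLinearGroup (Fin (m+1+1+1)) F))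
    with hC
  set O := Cfsg.oddCore C with hO
  have hOodd : (Nat.card O).Coprime 2 := Cfsg.Agent.Lib.Helper5_PPrime.pPrimeCore_coprime 2 C
  have hnormal : (ψhom F (m+1+1)).range.Normal := range_normal h2
  refine ⟨(ψhom F (m+1+1)).range.map (QuotientGroup.mk' O), ?_, ?_⟩
  · exact (hnormal.map _ (QuotientGroup.mk'_surjective O)).isSubnormal
  · set φ : Matrix.SpecialLinearGroup (Fin (m+1+1)) F →*
        ((ψhom F (m+1+1)).range.map (QuotientGroup.mk' O)) :=
      MonoidHom.codRestrict ((QuotientGroup.mk' O).comp (ψhom F (m+1+1))) _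
        (fun s => ⟨ψhom F (m+1+1) s, ⟨s, rfl⟩, rfl⟩) with hφ
    have hsurj : Function.Surjective φ := by
      rintro ⟨x, hx⟩
      obtain ⟨c, ⟨s, rfl⟩, rfl⟩ := hx
      exact ⟨s, Subtype.ext rfl⟩
    refine quasisimple_of_surj φ hsurj ⟨hperf⟩ (SL_normal _ hperf hsimple) ⟨sinv F m, ?_⟩
    intro h1
    have h3 : (QuotientGroup.mk' O) (ψhom F (m+1+1) (sinv F m)) = 1 := by
      have := congrArg Subtype.val h1
      exact this
    have hmem : ψhom F (m+1+1) (sinv F m) ∈ O := (QuotientGroup.eq_one_iff _).mp h3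
    have hd1 : orderOf (ψhom F (m+1+1) (sinv F m)) ∣ Nat.card O := Subgroup.orderOf_dvd_natCard O hmem
    have hd2 : orderOf (ψhom F (m+1+1) (sinv F m)) ∣ 2 := by
      apply orderOf_dvd_of_pow_eq_one
      rw [pow_two, ← map_mul, sinv_sq, map_one]
    have hd3 : orderOf (ψhom F (m+1+1) (sinv F m)) ∣ 1 := by
      have := Nat.dvd_gcd hd1 hd2
      rwa [Nat.Coprime.gcd_eq_one hOodd] at this
    have h4 : ψhom F (m+1+1) (sinv F m) = 1 := orderOf_eq_one_iff.mp (Nat.dvd_one.mp hd3)
    have h5 := congrArg (fun x : C => ((x : Matrix.GeneralLinearGroup (Fin (m+1+1+1)) F) :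
      Matrix (Fin (m+1+1+1)) (Fin (m+1+1+1)) F) (Fin.succ 0) (Fin.succ 0)) h4
    simp only [ψhom_val, B_ss, sinv_00] at h5
    have h6 : (-1 : F) = 1 := by
      rw [h5]
      simp
    apply h2
    linear_combination -h6

end fin

end Cfsg.Agent.Lib.Helper4_GLComp
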