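import Mathlib

set_option linter.all false
set_option autoImplicit false

namespace Cfsg.Agent.Lib.Helper4_GLSylow

section numtheory
variable (q r : ℕ) [hr : Fact r.Prime]

/-- `r ∣ q^j - 1` iff the order of `q` mod `r` divides `j` -/
theorem dvd_pow_sub_one_iff (hq : 1 ≤ q) (j : ℕ) :
    r ∣ q ^ j - 1 ↔ orderOf (q : ZMod r) ∣ j := by
  rw [orderOf_dvd_iff_pow_eq_one, ← ZMod.natCast_eq_zero_iff, Nat.cast_sub (Nat.one_le_pow _ _ hq)]
  push_cast
  exact sub_eq_zero

/-- the `r`-adic valuation of `q^j - 1` -/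
theorem val_pow_sub_one (hq : 2 ≤ q) (hrq : ¬ r ∣ q) (n : ℕ) (hn : n < r) (j : ℕ) (hj1 : 1 ≤ j)
    (hjn : j ≤ n) :
    padicValNat r (q ^ j - 1) =
      if orderOf (q : ZMod r) ∣ j then padicValNat r (q ^ orderOf (q : ZMod r) - 1) else 0 := by
  have hq1 : 1 ≤ q := by omega
  split_ifs with hd
  · obtain ⟨k, rfl⟩ := hd
    set d := orderOf (q : ZMod r) with hd
    have hk1 : 1 ≤ k := by
      by_contra h
      push Not at h
      have : k = 0 := by omega
      rw [this, mul_zero] at hj1
      omega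
    have hd1 : 1 ≤ d := by
      by_contra h
      push Not at h
      have : d = 0 := by omega
      rw [this, zero_mul] at hj1
      omega
    by_cases hk : k = 1
    · rw [hk, mul_one]
    · have hk2 : 2 ≤ k := by omega
      have hr3 : 3 ≤ r := by
        have : 2 ≤ d * k := by nlinarith
        omega
      have hodd : Odd r := hr.out.odd_of_ne_two (by omega)
      have hx : 1 < q ^ d := Nat.one_lt_pow (by omega) (by omega)
      have hxy : r ∣ q ^ d - 1 := (dvd_pow_sub_one_iff q r hq1 d).mpr (dvd_refl _)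
      have hxr : ¬ r ∣ q ^ d := fun h => hrq (hr.out.dvd_of_dvd_pow h)
      have := padicValNat.pow_sub_pow hodd hx hxy hxr (n := k) (by omega)
      rw [one_pow, ← pow_mul] at this
      rw [this]
      have hkr : ¬ r ∣ k := by
        intro h
        have := Nat.le_of_dvd (by omega) h
        have : k ≤ d * k := Nat.le_mul_of_pos_left k (by omega)
        omega
      rw [padicValNat.eq_zero_of_not_dvd hkr, add_zero]
  · apply padicValNat.eq_zero_of_not_dvd
    rw [dvd_pow_sub_one_iff q r hq1]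
    exact hd

/-- `r`-adic valuation of `∏_{i<n} (q^n - q^i)` -/
theorem val_GL_card (hq : 2 ≤ q) (hrq : ¬ r ∣ q) (n : ℕ) (hn : n < r) :
    padicValNat r (∏ i : Fin n, (q ^ n - q ^ (i : ℕ))) =
      (n / orderOf (q : ZMod r)) * padicValNat r (q ^ orderOf (q : ZMod r) - 1) := by
  have hq1 : 1 ≤ q := by omega
  set d := orderOf (q : ZMod r) with hd
  set v := padicValNat r (q ^ d - 1) with hv
  have hfac : ∀ i : Fin n, q ^ n - q ^ (i : ℕ) = q ^ (i : ℕ) * (q ^ (n - i) - 1) := by
    intro i
    have hi : (i : ℕ) ≤ n := i.2.le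
    rw [Nat.mul_sub, mul_one, ← pow_add, Nat.add_sub_cancel' hi]
  have hne : ∀ i : Fin n, q ^ n - q ^ (i : ℕ) ≠ 0 := by
    intro i
    have : q ^ (i : ℕ) < q ^ n := Nat.pow_lt_pow_right (by omega) i.2
    omega
  have hval : ∀ i : Fin n, padicValNat r (q ^ n - q ^ (i : ℕ)) =
      if d ∣ (n - (i : ℕ)) then v else 0 := by
    intro i
    rw [hfac i]
    have h1 : q ^ (i : ℕ) ≠ 0 := by positivity
    have h2 : q ^ (n - (i : ℕ)) - 1 ≠ 0 := by
      have : 1 < q ^ (n - (i : ℕ)) := Nat.one_lt_pow (by have := i.2; omega) (by omega)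
      omega
    rw [padicValNat.mul h1 h2, padicValNat.eq_zero_of_not_dvd
      (fun h => hrq (hr.out.dvd_of_dvd_pow h)), zero_add]
    exact val_pow_sub_one q r hq hrq n hn (n - i) (by have := i.2; omega) (Nat.sub_le _ _)
  have hprod : padicValNat r (∏ i : Fin n, (q ^ n - q ^ (i : ℕ))) =
      ∑ i : Fin n, padicValNat r (q ^ n - q ^ (i : ℕ)) := by
    have h0 : (∏ i : Fin n, (q ^ n - q ^ (i : ℕ))) ≠ 0 :=
      Finset.prod_ne_zero_iff.mpr (fun i _ => hne i)
    rw [← Nat.factorization_def _ hr.out, Nat.factorization_prod (fun i _ => hne i)]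
    rw [Finset.sum_apply']
    apply Finset.sum_congr rfl
    intro i _
    rw [Nat.factorization_def _ hr.out]
  rw [hprod]
  simp only [hval]
  rw [Fin.sum_univ_eq_sum_range (fun i => if d ∣ (n - i) then v else 0) n]
  rw [← Finset.sum_range_reflect]
  have : ∀ j ∈ Finset.range n, (if d ∣ n - (n - 1 - j) then v else 0) =
      (if d ∣ (j + 1) then v else 0) := by
    intro j hj
    have hj' := Finset.mem_range.mp hj
    have : n - (n - 1 - j) = j + 1 := by omega
    rw [this]
  rw [Finset.sum_congr rfl this]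
  rw [← Finset.sum_filter, Finset.sum_const, smul_eq_mul]
  congr 1
  rw [← Nat.Ioc_filter_dvd_card_eq_div n d]
  apply Finset.card_bij (fun j _ => j + 1)
  · intro j hj
    rw [Finset.mem_filter, Finset.mem_range] at hj
    rw [Finset.mem_filter, Finset.mem_Ioc]
    exact ⟨⟨by omega, by omega⟩, hj.2⟩
  · intro a _ b _ h
    omega
  · intro b hb
    rw [Finset.mem_filter, Finset.mem_Ioc] at hb
    refine ⟨b - 1, ?_, by omega⟩
    rw [Finset.mem_filter, Finset.mem_range]
    refine ⟨by omega, ?_⟩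
    have : b - 1 + 1 = b := by omega
    rw [this]
    exact hb.2

/-- the `r`-part of `q^d - 1` is the `r`-part of `Φ_d(q)` -/
theorem val_cyclotomic (hq : 2 ≤ q) :
    padicValNat r (q ^ orderOf (q : ZMod r) - 1) =
      padicValNat r ((Polynomial.cyclotomic (orderOf (q : ZMod r)) ℤ).eval (q : ℤ)).natAbs := by
  have hq1 : 1 ≤ q := by omega
  set d := orderOf (q : ZMod r) with hd
  by_cases hd0 : d = 0
  · rw [hd0, pow_zero, Nat.sub_self, Polynomial.cyclotomic_zero, Polynomial.eval_one]
    simp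
  have hdpos : 0 < d := Nat.pos_of_ne_zero hd0
  have hprod := Polynomial.prod_cyclotomic_eq_X_pow_sub_one hdpos ℤ
  have heval := congrArg (Polynomial.eval (q : ℤ)) hprod
  rw [Polynomial.eval_prod, Polynomial.eval_sub, Polynomial.eval_pow, Polynomial.eval_X,
    Polynomial.eval_one] at heval
  rw [← Nat.cons_self_properDivisors hd0, Finset.prod_cons] at heval
  set M := ∏ e ∈ d.properDivisors, (Polynomial.cyclotomic e ℤ).eval (q : ℤ) with hM
  -- r does not divide M
  have hrM : ¬ (r : ℤ) ∣ M := by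
    intro h
    obtain ⟨e, he, hre⟩ := (Prime.dvd_finset_prod_iff (Nat.prime_iff_prime_int.mp hr.out) _).mp h
    rw [Nat.mem_properDivisors] at he
    have hepos : 0 < e := Nat.pos_of_dvd_of_pos he.1 hdpos
    have h1 : (Polynomial.cyclotomic e ℤ).eval (q : ℤ) ∣ (q : ℤ) ^ e - 1 := by
      have := Polynomial.cyclotomic.dvd_X_pow_sub_one e ℤ
      obtain ⟨c, hc⟩ := this
      refine ⟨c.eval (q : ℤ), ?_⟩
      have := congrArg (Polynomial.eval (q : ℤ)) hc
      simpa using this
    have h2 : (r : ℤ) ∣ (q : ℤ) ^ e - 1 := dvd_trans hre h1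
    have h3 : r ∣ q ^ e - 1 := by
      have : ((q ^ e - 1 : ℕ) : ℤ) = (q : ℤ) ^ e - 1 := by
        rw [Nat.cast_sub (Nat.one_le_pow _ _ hq1)]; push_cast; ring
      rw [← this] at h2
      exact Int.natCast_dvd_natCast.mp h2
    have h4 := (dvd_pow_sub_one_iff q r hq1 e).mp h3
    have := Nat.le_of_dvd hepos h4
    omega
  have hnat : q ^ d - 1 = ((Polynomial.cyclotomic d ℤ).eval (q : ℤ)).natAbs * M.natAbs := by
    rw [← Int.natAbs_mul, heval]
    have : ((q : ℤ) ^ d - 1) = ((q ^ d - 1 : ℕ) : ℤ) := by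
      rw [Nat.cast_sub (Nat.one_le_pow _ _ hq1)]; push_cast; ring
    rw [this, Int.natAbs_natCast]
  have hpos : q ^ d - 1 ≠ 0 := by
    have : 1 < q ^ d := Nat.one_lt_pow (by omega) (by omega)
    omega
  rw [hnat] at hpos ⊢
  have h1 : ((Polynomial.cyclotomic d ℤ).eval (q : ℤ)).natAbs ≠ 0 := fun h => hpos (by rw [h, zero_mul])
  have h2 : M.natAbs ≠ 0 := fun h => hpos (by rw [h, mul_zero])
  rw [padicValNat.mul h1 h2]
  have : padicValNat r M.natAbs = 0 := by
    apply padicValNat.eq_zero_of_not_dvd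
    intro h
    exact hrM (Int.natCast_dvd.mpr h)
  rw [this, add_zero]

end numtheory
section construct
variable {F : Type*} [Field F] [Fintype F]

theorem exists_ext_field (d : ℕ) (hd : 1 ≤ d) :
    ∃ (L : Type) (_ : Field L) (_ : Algebra F L), Module.finrank F L = d := by
  obtain ⟨p, hp⟩ := CharP.exists F
  haveI := hp
  haveI : Fact p.Prime := ⟨CharP.char_is_prime F p⟩
  letI : Algebra (ZMod p) F := ZMod.algebra F p
  have hcardF := FiniteField.pow_finrank_eq_card p F
  set f := Module.finrank (ZMod p) F with hf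
  have hfpos : 0 < f := Module.finrank_pos
  have hN0 : d * f ≠ 0 := by positivity
  have hdvd : Module.finrank (ZMod p) F ∣ Module.finrank (ZMod p) (GaloisField p (d * f)) := by
    rw [GaloisField.finrank p hN0]; exact ⟨d, by rw [mul_comm]⟩
  obtain ⟨φ⟩ := FiniteField.nonempty_algHom_of_finrank_dvd hdvd
  letI : Algebra F (GaloisField p (d * f)) := φ.toRingHom.toAlgebra
  have hcardL : Nat.card (GaloisField p (d * f)) = p ^ (d * f) := GaloisField.card p _ hN0
  have h4 : Module.finrank F (GaloisField p (d * f)) = d := by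
    have key := Module.natCard_eq_pow_finrank (K := F) (V := GaloisField p (d * f))
    rw [hcardL, Nat.card_eq_fintype_card, ← hcardF, ← pow_mul] at key
    have hp1 : 1 < p := (Fact.out : p.Prime).one_lt
    have := Nat.pow_right_injective hp1 key
    have h5 : f * Module.finrank F (GaloisField p (d * f)) = f * d := by rw [← this, mul_comm]
    exact (Nat.eq_of_mul_eq_mul_left hfpos h5)
  exact ⟨GaloisField p (d * f), inferInstance, inferInstance, h4⟩

theorem exists_torus_embedding (n d : ℕ) (hd : 1 ≤ d) :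
    ∃ (L : Type) (_ : Field L) (_ : Algebra F L), Module.finrank F L = d ∧
      ∃ ι : (Fin (n / d) → Lˣ) →* GL (Fin n) F, Function.Injective ι := by
  obtain ⟨L, instL, instA, hL⟩ := exists_ext_field (F := F) d hd
  refine ⟨L, instL, instA, hL, ?_⟩
  haveI : Module.Finite F L := Module.finite_of_finrank_pos (by rw [hL]; omega)
  set a := n / d with ha
  have had : a * d ≤ n := Nat.div_mul_le_self n d
  have hfr : Module.finrank F ((Fin a → L) × (Fin (n - a * d) → F)) = n := by
    rw [Module.finrank_prod, Module.finrank_pi_fintype, Module.finrank_fintype_fun_eq_card]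
    simp only [hL, Finset.sum_const, Finset.card_univ, Fintype.card_fin, smul_eq_mul]
    omega
  let b := Module.finBasisOfFinrankEq F ((Fin a → L) × (Fin (n - a * d) → F)) hfr
  let ρ₀ : (Fin a → L) →* (((Fin a → L) × (Fin (n - a * d) → F)) →ₗ[F]
      ((Fin a → L) × (Fin (n - a * d) → F))) :=
    { toFun := fun c => (LinearMap.mulLeft F c).prodMap LinearMap.id
      map_one' := by
        apply LinearMap.ext
        rintro ⟨v, w⟩
        simp
      map_mul' := by
        intro c c'
        apply LinearMap.ext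
        rintro ⟨v, w⟩
        simp [mul_assoc] }
  have hρ₀ : Function.Injective ρ₀ := by
    intro c c' h
    have := congrArg (fun φ => (φ (1, 0)).1) h
    simpa [ρ₀] using this
  let e1 : (Fin a → Lˣ) ≃* (Fin a → L)ˣ := (MulEquiv.piUnits).symm
  let e2 : (((Fin a → L) × (Fin (n - a * d) → F)) →ₗ[F]
      ((Fin a → L) × (Fin (n - a * d) → F)))ˣ ≃* GL (Fin n) F :=
    Units.mapEquiv (LinearMap.toMatrixAlgEquiv b).toMulEquiv
  refine ⟨(e2.toMonoidHom.comp (Units.map ρ₀)).comp e1.toMonoidHom, ?_⟩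
  intro x y hxy
  apply e1.injective
  apply Units.map_injective hρ₀
  apply e2.injective
  exact hxy

end construct
section main
variable {F : Type*} [Field F] [Fintype F]

theorem S2380_main {q : ℕ} (hq : Fintype.card F = q) (n : ℕ)
    (r : ℕ) [Fact r.Prime] (hrn : n < r) (hrq : ¬ r ∣ q) (P : Sylow r (GL (Fin n) F)) :
    Nonempty (↥(P : Subgroup (GL (Fin n) F)) ≃*
      (Fin (n / orderOf (q : ZMod r)) →
        Multiplicative (ZMod (r ^ padicValNat r
          ((Polynomial.cyclotomic (orderOf (q : ZMod r)) ℤ).eval (q : ℤ)).natAbs)))) := by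
  classical
  have hrp : r.Prime := Fact.out
  have hq2 : 2 ≤ q := by rw [← hq]; exact Fintype.one_lt_card
  have hqr : (q : ZMod r) ≠ 0 := by
    rw [Ne, ZMod.natCast_eq_zero_iff]; exact hrq
  have hd1 : 1 ≤ orderOf (q : ZMod r) := by
    rw [Nat.succ_le_iff, orderOf_pos_iff]
    exact (IsUnit.mk0 _ hqr).isOfFinOrder
  set d := orderOf (q : ZMod r) with hd
  set v := padicValNat r ((Polynomial.cyclotomic d ℤ).eval (q : ℤ)).natAbs with hv
  obtain ⟨L, instL, instA, hL, ι, hι⟩ := exists_torus_embedding (F := F) n d hd1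
  haveI : Module.Finite F L := Module.finite_of_finrank_pos (by rw [hL]; omega)
  haveI : Finite L := Module.finite_of_finite F
  have hcardL : Nat.card L = q ^ d := by
    rw [Module.natCard_eq_pow_finrank (K := F) (V := L), hL, Nat.card_eq_fintype_card, hq]
  have hcardLu : Nat.card Lˣ = q ^ d - 1 := by rw [Nat.card_units, hcardL]
  -- Sylow r-subgroup of Lˣ
  obtain ⟨C⟩ : Nonempty (Sylow r Lˣ) := inferInstance
  have hCcard : Nat.card (C : Subgroup Lˣ) = r ^ v := by
    rw [C.card_eq_multiplicity, hcardLu, Nat.factorization_def _ hrp, hv, hd,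
      ← val_cyclotomic q r hq2]
  haveI : IsCyclic (C : Subgroup Lˣ) := inferInstance
  obtain ⟨g, hg⟩ := IsCyclic.exists_generator (α := (C : Subgroup Lˣ))
  let eC : Multiplicative (ZMod (r ^ v)) ≃* (C : Subgroup Lˣ) := zmodMulEquivOfGenerator hg hCcard
  -- the embedding
  let κ₀ : (Fin (n / d) → (C : Subgroup Lˣ)) →* (Fin (n / d) → Lˣ) :=
    { toFun := fun c i => (c i : Lˣ)
      map_one' := rfl
      map_mul' := fun _ _ => rfl }
  have hκ₀ : Function.Injective κ₀ := by
    intro c c' h
    funext i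
    exact Subtype.ext (congrFun h i)
  let κ := ι.comp κ₀
  have hκ : Function.Injective κ := hι.comp hκ₀
  have hcardR : Nat.card κ.range = (r ^ v) ^ (n / d) := by
    rw [← Nat.card_congr (MonoidHom.ofInjective hκ).toEquiv, Nat.card_fun, hCcard, Nat.card_fin]
  have hGL : Nat.card (GL (Fin n) F) = ∏ i : Fin n, (q ^ n - q ^ (i : ℕ)) := by
    rw [Matrix.card_GL_field, hq]
  have hsyl : Nat.card κ.range = r ^ (Nat.card (GL (Fin n) F)).factorization r := by
    rw [hcardR, hGL, Nat.factorization_def _ hrp, val_GL_card q r hq2 hrq n hrn,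
      ← hd, val_cyclotomic q r hq2, ← hd, ← hv, ← pow_mul, mul_comm]
  let Q : Sylow r (GL (Fin n) F) := Sylow.ofCard κ.range hsyl
  have e1 : ↥(P : Subgroup (GL (Fin n) F)) ≃* ↥κ.range := Sylow.equiv P Q
  have e2 : ↥κ.range ≃* (Fin (n / d) → (C : Subgroup Lˣ)) := (MonoidHom.ofInjective hκ).symm
  have e3 : (Fin (n / d) → (C : Subgroup Lˣ)) ≃* (Fin (n / d) → Multiplicative (ZMod (r ^ v))) :=
    MulEquiv.piCongrRight (fun _ => eC.symm)
  exact ⟨(e1.trans e2).trans e3⟩

end main
end Cfsg.Agent.Lib.Helper4_GLSylow
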