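-- helper4: Sylow 2-subgroups of GU_2(q), q odd (quasi-dihedral / wreathed)
import Mathlib
import Cfsg.Prelude.Def_LieClassical
import Cfsg.Prelude.Def_CaseTheorems
import Cfsg.Agent.Lib.Helper9_GUOrder
import Cfsg.Agent.Lib.Helper4_GL2Sylow

set_option autoImplicit false
set_option linter.unusedSectionVars false
open scoped MatrixGroups
open Cfsg Matrix

namespace Cfsg.Agent.Lib.Helper4_GU2Sylow

open Cfsg.Agent.Lib.Helper4_GL2Sylow


/-- arithmetic for q ≡ 3 mod 4, unitary case -/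
lemma arithU3 (q : ℕ) (hq : q % 4 = 3) :
    ∃ n : ℕ, 2 ≤ n ∧ 2 ^ n ∣ q + 1 ∧ (q * ((q + 1) * (q ^ 2 - 1))).factorization 2 = 2 * n + 1 := by
  obtain ⟨m, b, hb, hqb⟩ := Nat.exists_eq_two_pow_mul_odd (n := q + 1) (by omega)
  have hm : 2 ≤ m := by
    by_contra hlt
    push Not at hlt
    interval_cases m
    · rw [pow_zero, one_mul] at hqb
      obtain ⟨c, hc⟩ := hb
      omega
    · rw [pow_one] at hqb
      obtain ⟨c, hc⟩ := hb
      omega
  set t := 2 ^ m * b with ht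
  have hqt : q = t - 1 := by omega
  have ht1 : 1 ≤ t := by omega
  have ht4 : t % 4 = 0 := by omega
  obtain ⟨a, ha⟩ : ∃ a, t = 2 * a + 2 := ⟨(t - 2) / 2, by omega⟩
  have haodd : Odd a := by
    rw [Nat.odd_iff]; omega
  have hq2 : q = 2 * a + 1 := by omega
  have e1 : q ^ 2 - 1 = (2 * a) * t := by
    rw [hq2, ha]
    apply Nat.sub_eq_of_eq_add
    ring
  have hqodd : Odd q := by rw [Nat.odd_iff]; omega
  refine ⟨m, hm, ⟨b, hqb⟩, ?_⟩
  have e3 : q * ((q + 1) * (q ^ 2 - 1)) = 2 ^ (2 * m + 1) * (q * b * a * b) := by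
    rw [e1, hqb, ht]
    ring
  rw [e3]
  apply fact2
  exact ((hqodd.mul hb).mul haodd).mul hb

/-- arithmetic for q ≡ 1 mod 4, unitary case -/
lemma arithU1 (q : ℕ) (hq : q % 4 = 1) (hq1 : 1 < q) :
    ∃ b : ℕ, 2 ≤ b ∧ 2 ^ (b + 1) ∣ q ^ 2 - 1 ∧ 2 ^ (b + 1) ∣ q + (2 ^ b - 1) ∧
      (q * ((q + 1) * (q ^ 2 - 1))).factorization 2 = b + 2 := by
  obtain ⟨n, a, ha, hqa⟩ := Nat.exists_eq_two_pow_mul_odd (n := q - 1) (by omega)
  have hn : 2 ≤ n := by
    by_contra hlt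
    push Not at hlt
    interval_cases n
    · rw [pow_zero, one_mul] at hqa
      obtain ⟨c, hc⟩ := ha
      omega
    · rw [pow_one] at hqa
      obtain ⟨c, hc⟩ := ha
      omega
  set t := 2 ^ n * a with ht
  have hqt : q = t + 1 := by omega
  have ht4 : t % 4 = 0 := by omega
  obtain ⟨b, hb⟩ : ∃ b, t + 2 = 2 * b := ⟨(t + 2) / 2, by omega⟩
  have hbodd : Odd b := by
    rw [Nat.odd_iff]; omega
  have e1 : q ^ 2 - 1 = t * (t + 2) := by
    rw [hqt]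
    apply Nat.sub_eq_of_eq_add
    ring
  have hqodd : Odd (t + 1) := by rw [Nat.odd_iff]; omega
  refine ⟨n, hn, ?_, ?_, ?_⟩
  · rw [e1, hb, ht]
    exact ⟨a * b, by ring⟩
  · obtain ⟨c, hc⟩ := ha
    have h2n : 1 ≤ 2 ^ n := Nat.one_le_two_pow
    refine ⟨c + 1, ?_⟩
    have : t = 2 ^ (n + 1) * c + 2 ^ n := by rw [ht, hc]; ring
    have h3 : 2 ^ (n + 1) = 2 * 2 ^ n := by ring
    rw [mul_add, mul_one, hqt, this, h3]
    omega
  · have e3 : q * ((q + 1) * (q ^ 2 - 1)) = 2 ^ (n + 2) * ((t + 1) * b * a * b) := by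
      rw [e1, hqt, show t + 1 + 1 = t + 2 by ring, hb, ht]
      ring
    rw [e3]
    apply fact2
    exact ((hqodd.mul hbodd).mul ha).mul hbodd



open Cfsg.Agent.Lib.Helper4_GL2Sylow

variable {F : Type*} [Field F] [Fintype F] {q : ℕ}

lemma mem_GU2 (hF : Fintype.card F = q ^ 2) (g : GL (Fin 2) F)
    (h1 : g.1 0 0 * g.1 0 0 ^ q + g.1 1 0 * g.1 1 0 ^ q = 1)
    (h2 : g.1 0 0 * g.1 0 1 ^ q + g.1 1 0 * g.1 1 1 ^ q = 0)
    (h3 : g.1 0 1 * g.1 0 0 ^ q + g.1 1 1 * g.1 1 0 ^ q = 0)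
    (h4 : g.1 0 1 * g.1 0 1 ^ q + g.1 1 1 * g.1 1 1 ^ q = 1) : g ∈ GU 2 F q := by
  intro u v
  show hermForm 2 F q (g.1 *ᵥ u) (g.1 *ᵥ v) = hermForm 2 F q u v
  simp only [hermForm, Fin.sum_univ_two, Matrix.mulVec, dotProduct]
  rw [Cfsg.Agent.Lib.Helper1_Herm.add_pow_q hF, Cfsg.Agent.Lib.Helper1_Herm.add_pow_q hF]
  simp only [mul_pow]
  linear_combination (u 0 * v 0 ^ q) * h1 + (u 0 * v 1 ^ q) * h2 + (u 1 * v 0 ^ q) * h3
    + (u 1 * v 1 ^ q) * h4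

/-- the torus matrix: `l E₊ + m E₋` -/
def Xmat (κ K h l m : F) : Matrix (Fin 2) (Fin 2) F :=
  !![(l + m) * h, -((l - m) * h) * K; κ * ((l - m) * h), (l + m) * h]

lemma Xmat_mul (κ K h : F) (hh : 2 * h = 1) (hκ : κ * K = -1) (l m l' m' : F) :
    Xmat κ K h l m * Xmat κ K h l' m' = Xmat κ K h (l * l') (m * m') := by
  ext i j
  fin_cases i <;> fin_cases j <;> simp [Xmat, Matrix.mul_apply, Fin.sum_univ_two]
  · linear_combination (h * (l * l' + m * m')) * hh - ((l - m) * h * ((l' - m') * h)) * hκ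
  · linear_combination (-K * h * (l * l' - m * m')) * hh
  · linear_combination (κ * h * (l * l' - m * m')) * hh
  · linear_combination (h * (l * l' + m * m')) * hh - ((l - m) * h * ((l' - m') * h)) * hκ

lemma Xmat_one (κ K h : F) (hh : 2 * h = 1) : Xmat κ K h 1 1 = 1 := by
  ext i j
  fin_cases i <;> fin_cases j <;> simp [Xmat]
  · linear_combination hh
  · linear_combination hh

/-- as an element of GL -/
def XG (κ K h : F) (hh : 2 * h = 1) (hκ : κ * K = -1) (l m : Fˣ) : GL (Fin 2) F :=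
  ⟨Xmat κ K h l m, Xmat κ K h (l⁻¹ : Fˣ) (m⁻¹ : Fˣ),
    by rw [Xmat_mul κ K h hh hκ]; simp [Xmat_one κ K h hh],
    by rw [Xmat_mul κ K h hh hκ]; simp [Xmat_one κ K h hh]⟩

lemma XG_mul (κ K h : F) (hh : 2 * h = 1) (hκ : κ * K = -1) (l m l' m' : Fˣ) :
    XG κ K h hh hκ l m * XG κ K h hh hκ l' m' = XG κ K h hh hκ (l * l') (m * m') := by
  apply Units.ext
  show Xmat κ K h l m * Xmat κ K h l' m' = Xmat κ K h ((l * l' : Fˣ) : F) ((m * m' : Fˣ) : F)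
  rw [Xmat_mul κ K h hh hκ]
  simp

lemma XG_one (κ K h : F) (hh : 2 * h = 1) (hκ : κ * K = -1) :
    XG κ K h hh hκ 1 1 = 1 := by
  apply Units.ext
  show Xmat κ K h ((1 : Fˣ) : F) ((1 : Fˣ) : F) = 1
  simp [Xmat_one κ K h hh]

lemma XG_inj (κ K h : F) (hh : 2 * h = 1) (hκ : κ * K = -1) (l m l' m' : Fˣ)
    (heq : XG κ K h hh hκ l m = XG κ K h hh hκ l' m') : l = l' := by
  have h0 := congrArg (fun g : GL (Fin 2) F => (g : Matrix (Fin 2) (Fin 2) F) 0 0) heq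
  have h1 := congrArg (fun g : GL (Fin 2) F => (g : Matrix (Fin 2) (Fin 2) F) 1 0) heq
  simp only [XG, Xmat] at h0 h1
  simp at h0 h1
  apply Units.ext
  have hκ0 : κ ≠ 0 := by
    rintro rfl
    simp at hκ
  have hh0 : h ≠ 0 := by
    rintro rfl
    simp at hh
  rcases h0 with h0 | h0
  · rcases h1 with h1 | h1
    · rcases h1 with h1 | h1
      · linear_combination h * h0 + h * h1 + ((l' : F) - l) * hh
      · exact absurd h1 hh0
    · exact absurd h1 hκ0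
  · exact absurd h0 hh0



lemma sub_pow_q (hF : Fintype.card F = q ^ 2) (hq : Odd q) (a b : F) : (a - b) ^ q = a ^ q - b ^ q := by
  rw [sub_eq_add_neg, Cfsg.Agent.Lib.Helper1_Herm.add_pow_q hF, hq.neg_pow, ← sub_eq_add_neg]

lemma half_pow_q (hF : Fintype.card F = q ^ 2) (h : F) (hh : 2 * h = 1) : h ^ q = h := by
  have h2 : (2 : F) ^ q = 2 := by
    have : (2 : F) = 1 + 1 := by norm_num
    rw [this, Cfsg.Agent.Lib.Helper1_Herm.add_pow_q hF, one_pow]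
  have h3 : (2 : F) * h ^ q = 1 := by
    rw [← h2, ← mul_pow, hh, one_pow]
  have h20 : (2 : F) ≠ 0 := by
    rintro h0
    rw [h0, zero_mul] at hh
    exact zero_ne_one hh
  apply mul_left_cancel₀ h20
  rw [h3, hh]

lemma XG_mem (hF : Fintype.card F = q ^ 2) (hq : Odd q) (κ h : F) (hh : 2 * h = 1)
    (hκ : κ * κ ^ q = -1) (l m : Fˣ)
    (h1 : (l : F) ^ q * m = 1) (h2 : (m : F) ^ q * l = 1) :
    XG κ (κ ^ q) h hh hκ l m ∈ GU 2 F q := by
  have hhq : h ^ q = h := half_pow_q hF h hh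
  have hKq : (κ ^ q) ^ q = κ := Cfsg.Agent.Lib.Helper1_Herm.pow_q_q hF κ
  apply mem_GU2 hF
  all_goals
    simp only [XG, Xmat, Matrix.of_apply, Matrix.cons_val', Matrix.cons_val_zero,
      Matrix.cons_val_one, Matrix.cons_val_fin_one, mul_pow, hq.neg_pow, neg_mul,
      Cfsg.Agent.Lib.Helper1_Herm.add_pow_q hF, sub_pow_q hF hq, hhq, hKq]
  · linear_combination (h^2*((l:F)-m)*((l:F)^q-(m:F)^q)) * hκ + (2*h^2) * h2 + (2*h^2) * h1 + (2*h+1) * hh
  · linear_combination (2*κ*h^2) * h2 - (2*κ*h^2) * h1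
  · linear_combination (-2*κ^q*h^2) * h2 + (2*κ^q*h^2) * h1
  · linear_combination (h^2*((l:F)-m)*((l:F)^q-(m:F)^q)) * hκ + (2*h^2) * h2 + (2*h^2) * h1 + (2*h+1) * hh



lemma card_GU2 (hF : Fintype.card F = q ^ 2) :
    Nat.card (GU 2 F q) = q * ((q + 1) * (q ^ 2 - 1)) := by
  classical
  rw [Cfsg.Agent.Helper9GUOrder.card_GU hF 2]
  simp [Finset.prod_range_succ]

lemma dg_mem (hF : Fintype.card F = q ^ 2) (hq : q ≠ 0) (a b : Fˣ) (ha : a ^ (q + 1) = 1) (hb : b ^ (q + 1) = 1) :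
    dg a b ∈ GU 2 F q := by
  have ha' : (a : F) * (a : F) ^ q = 1 := by
    rw [← pow_succ', ← Units.val_pow_eq_pow_val, ha, Units.val_one]
  have hb' : (b : F) * (b : F) ^ q = 1 := by
    rw [← pow_succ', ← Units.val_pow_eq_pow_val, hb, Units.val_one]
  apply mem_GU2 hF <;> simp [dg, ha', hb', hq]

lemma card_units_eq (hF : Fintype.card F = q ^ 2) : Nat.card Fˣ = q ^ 2 - 1 := by
  classical
  rw [Nat.card_eq_fintype_card, Fintype.card_units, hF]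

lemma y_conj (κ K h : F) (hh : 2 * h = 1) (hκ : κ * K = -1) (l m : Fˣ) :
    dg 1 (-1) * XG κ K h hh hκ l m * (dg (1 : Fˣ) (-1))⁻¹ = XG κ K h hh hκ m l := by
  have hinv : (dg (1 : Fˣ) (-1) : GL (Fin 2) F)⁻¹ = dg 1 (-1) := by
    apply inv_eq_of_mul_eq_one_left
    rw [dg_mul]
    simp [dg_one]
  rw [hinv]
  apply Units.ext
  ext i j
  fin_cases i <;> fin_cases j <;> simp [dg, XG, Xmat, Matrix.mul_apply, Fin.sum_univ_two] <;>
    first | ring1 | (left; ring1)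

/-- the torus embedding -/
def psi (_hF : Fintype.card F = q ^ 2) (κ h : F) (hh : 2 * h = 1) (hκ : κ * κ ^ q = -1) :
    Fˣ →* GL (Fin 2) F where
  toFun a := XG κ (κ ^ q) h hh hκ a (a ^ q)⁻¹
  map_one' := by simp [XG_one]
  map_mul' a b := by rw [XG_mul, mul_pow, mul_inv]

lemma psi_inj (hF : Fintype.card F = q ^ 2) (κ h : F) (hh : 2 * h = 1) (hκ : κ * κ ^ q = -1) :
    Function.Injective (psi hF κ h hh hκ) := by
  intro a b hab
  exact XG_inj κ (κ ^ q) h hh hκ _ _ _ _ hab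



lemma two_ne_zero_of_odd (hF : Fintype.card F = q ^ 2) (hq : Odd q) : (2 : F) ≠ 0 := by
  apply Ring.two_ne_zero
  intro h2
  have := (FiniteField.even_card_iff_char_two (F := F)).1 h2
  rw [hF] at this
  have h3 : Odd (q ^ 2) := hq.pow
  rw [Nat.odd_iff] at h3
  omega

lemma exists_kappa (hF : Fintype.card F = q ^ 2) (hq : Odd q) : ∃ κ : F, κ * κ ^ q = -1 := by
  classical
  have h20 := two_ne_zero_of_odd hF hq
  have hq1 : 1 ≤ q := hq.pos
  have hdvd : 2 * (q + 1) ∣ Nat.card Fˣ := by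
    rw [card_units_eq hF]
    obtain ⟨k, hk⟩ := hq
    refine ⟨k, ?_⟩
    apply Nat.sub_eq_of_eq_add
    rw [hk]; ring
  obtain ⟨ζ, hζ⟩ := exists_orderOf_eq (G := Fˣ) (2 * (q + 1)) hdvd
  have h1 : orderOf (ζ ^ (q + 1)) = 2 := by
    rw [orderOf_pow_of_dvd (by omega) (by rw [hζ]; exact dvd_mul_left _ _), hζ]
    exact Nat.mul_div_cancel _ (by omega)
  have h2 : (ζ ^ (q + 1)) ^ 2 = 1 := by rw [← h1]; exact pow_orderOf_eq_one _
  have h3 : ζ ^ (q + 1) ≠ 1 := by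
    intro h
    rw [h, orderOf_one] at h1
    omega
  have h4 : ((ζ ^ (q + 1) : Fˣ) : F) = -1 := by
    have h5 : ((ζ ^ (q + 1) : Fˣ) : F) ^ 2 = 1 := by
      rw [← Units.val_pow_eq_pow_val, h2, Units.val_one]
    rcases sq_eq_one_iff.1 h5 with h | h
    · exfalso
      apply h3
      apply Units.ext
      rw [h, Units.val_one]
    · exact h
  refine ⟨(ζ : F), ?_⟩
  rw [← pow_succ', ← Units.val_pow_eq_pow_val, h4]



theorem qd_case (hF : Fintype.card F = q ^ 2) (hqodd : Odd q) (b : ℕ) (hb : 2 ≤ b)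
    (hdvd : 2 ^ (b + 1) ∣ q ^ 2 - 1) (hdvd2 : 2 ^ (b + 1) ∣ q + (2 ^ b - 1))
    (hfac : (q * ((q + 1) * (q ^ 2 - 1))).factorization 2 = b + 2)
    (P : Sylow 2 (GU 2 F q)) : Cfsg.IsQuasiDihedral (P : Subgroup (GU 2 F q)) := by
  classical
  have hq1 : 1 ≤ q := hqodd.pos
  have hq0 : q ≠ 0 := by omega
  have h20 := two_ne_zero_of_odd hF hqodd
  have hc : Nat.card (P : Subgroup (GU 2 F q)) = 2 ^ (b + 1 + 1) := by
    rw [Sylow.card_eq_multiplicity, card_GU2 hF, hfac]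
  obtain ⟨κ, hκ⟩ := exists_kappa hF hqodd
  set h : F := 2⁻¹ with hdef
  have hh : 2 * h = 1 := mul_inv_cancel₀ h20
  obtain ⟨lam, hlam⟩ := exists_orderOf_eq (G := Fˣ) (2 ^ (b + 1)) (by rw [card_units_eq hF]; exact hdvd)
  set mu : Fˣ := (lam ^ q)⁻¹ with hmu
  have hqq : ∀ a : Fˣ, (a ^ q) ^ q = a := by
    intro a
    apply Units.ext
    rw [Units.val_pow_eq_pow_val, Units.val_pow_eq_pow_val]
    exact Cfsg.Agent.Lib.Helper1_Herm.pow_q_q hF _
  have hmuq : (mu ^ q)⁻¹ = lam := by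
    rw [hmu, inv_pow, inv_inv, hqq]
  have h1 : (lam : F) ^ q * mu = 1 := by
    rw [← Units.val_pow_eq_pow_val, ← Units.val_mul, hmu, mul_inv_cancel, Units.val_one]
  have h2 : (mu : F) ^ q * lam = 1 := by
    rw [← Units.val_pow_eq_pow_val, ← Units.val_mul]
    have : mu ^ q * lam = 1 := by
      rw [← hmuq]
      simp
    rw [this, Units.val_one]
  let X : GL (Fin 2) F := psi hF κ h hh hκ lam
  have hXmem : X ∈ GU 2 F q := XG_mem hF hqodd κ h hh hκ lam mu h1 h2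
  have hYmem : (dg (1 : Fˣ) (-1) : GL (Fin 2) F) ∈ GU 2 F q := by
    apply dg_mem hF hq0 _ _ (one_pow _)
    exact (Odd.add_one hqodd).neg_one_pow
  have hXord : orderOf X = 2 ^ (b + 1) := by
    rw [orderOf_injective _ (psi_inj hF κ h hh hκ), hlam]
  have hYY : (dg (1 : Fˣ) (-1) : GL (Fin 2) F) * dg 1 (-1) = 1 := by
    rw [dg_mul]; simp [dg_one]
  have hYne : (dg (1 : Fˣ) (-1) : GL (Fin 2) F) ≠ 1 := by
    intro hY
    rw [← dg_one] at hY
    have := (dg_inj _ _ _ _ hY).2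
    have h3 := congrArg Units.val this
    simp only [Units.val_neg, Units.val_one] at h3
    apply h20
    linear_combination -h3
  have hrel : dg 1 (-1) * X * (dg (1 : Fˣ) (-1))⁻¹ = X ^ (2 ^ b - 1) := by
    have e1 : dg 1 (-1) * X * (dg (1 : Fˣ) (-1))⁻¹ = psi hF κ h hh hκ mu := by
      show dg 1 (-1) * XG κ (κ ^ q) h hh hκ lam (lam ^ q)⁻¹ * (dg (1 : Fˣ) (-1))⁻¹
        = XG κ (κ ^ q) h hh hκ mu (mu ^ q)⁻¹
      rw [y_conj, hmuq]
    rw [e1]
    have e2 : psi hF κ h hh hκ mu = (X ^ q)⁻¹ := by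
      rw [hmu, map_inv, map_pow]
    rw [e2]
    symm
    apply eq_inv_of_mul_eq_one_left
    rw [← pow_add, ← orderOf_dvd_iff_pow_eq_one, hXord, Nat.add_comm (2 ^ b - 1) q]
    exact hdvd2
  let x : GU 2 F q := ⟨X, hXmem⟩
  let y : GU 2 F q := ⟨dg 1 (-1), hYmem⟩
  have hx : orderOf x = 2 ^ (b + 1) := by
    rw [Subgroup.orderOf_mk]; exact hXord
  have hy : orderOf y = 2 := by
    rw [Subgroup.orderOf_mk]
    exact orderOf_eq_prime (by rw [pow_two, hYY]) hYne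
  have hyx : y * x * y⁻¹ = x ^ (2 ^ b - 1) := by
    apply Subtype.ext
    exact hrel
  obtain ⟨x', y', hx', hy', hrel'⟩ := quasidihedral_of P (b + 1) (2 ^ b - 1) x y hx hy hyx
  refine ⟨b + 1, by omega, hc, x', y', hx', hy', ?_⟩
  rw [Nat.add_sub_cancel]
  exact hrel'


lemma sw_mem (hF : Fintype.card F = q ^ 2) (hq : q ≠ 0) : (sw : GL (Fin 2) F) ∈ GU 2 F q := by
  apply mem_GU2 hF <;> simp [sw, hq]


theorem wreath_case (hF : Fintype.card F = q ^ 2) (n : ℕ) (hn : 2 ≤ n) (hdvd : 2 ^ n ∣ q + 1)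
    (hq1 : 1 ≤ q)
    (hfac : (q * ((q + 1) * (q ^ 2 - 1))).factorization 2 = 2 * n + 1)
    (P : Sylow 2 (GU 2 F q)) : Cfsg.IsWreathed (P : Subgroup (GU 2 F q)) := by
  classical
  have hq0 : q ≠ 0 := by omega
  have hc : Nat.card (P : Subgroup (GU 2 F q)) = 2 ^ (2 * n + 1) := by
    rw [Sylow.card_eq_multiplicity, card_GU2 hF, hfac]
  have hdvd2 : 2 ^ n ∣ Nat.card Fˣ := by
    rw [card_units_eq hF]
    refine hdvd.trans ⟨q - 1, ?_⟩
    obtain ⟨k, rfl⟩ : ∃ k, q = k + 1 := ⟨q - 1, by omega⟩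
    apply Nat.sub_eq_of_eq_add
    simp
    ring
  obtain ⟨ζ, hζ⟩ := exists_orderOf_eq (G := Fˣ) (2 ^ n) hdvd2
  have hζq : ζ ^ (q + 1) = 1 := by
    rw [← orderOf_dvd_iff_pow_eq_one, hζ]; exact hdvd
  let x : GU 2 F q := ⟨dg ζ 1, dg_mem hF hq0 ζ 1 hζq (one_pow _)⟩
  let y : GU 2 F q := ⟨dg 1 ζ, dg_mem hF hq0 1 ζ (one_pow _) hζq⟩
  let z : GU 2 F q := ⟨sw, sw_mem hF hq0⟩
  have hx : orderOf x = 2 ^ n := by
    rw [Subgroup.orderOf_mk]
    show orderOf (dg1 ζ) = 2 ^ n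
    rw [orderOf_injective dg1 dg1_inj, hζ]
  have hxy : x * y = y * x := by
    apply Subtype.ext
    show dg ζ 1 * dg 1 ζ = dg 1 ζ * dg ζ 1
    rw [dg_mul, dg_mul, mul_one, one_mul]
  have hint : Subgroup.zpowers x ⊓ Subgroup.zpowers y = ⊥ := by
    rw [Subgroup.eq_bot_iff_forall]
    intro w hw
    rw [Subgroup.mem_inf] at hw
    obtain ⟨h1, h2⟩ := hw
    obtain ⟨i, hi⟩ := Subgroup.mem_zpowers_iff.1 h1
    obtain ⟨j, hj⟩ := Subgroup.mem_zpowers_iff.1 h2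
    have hi' : (dg1 ζ) ^ i = w.1 := by
      have := congrArg Subtype.val hi
      rw [Subgroup.coe_zpow] at this
      exact this
    have hj' : (dg2 ζ) ^ j = w.1 := by
      have := congrArg Subtype.val hj
      rw [Subgroup.coe_zpow] at this
      exact this
    rw [← map_zpow] at hi' hj'
    have : dg (ζ ^ i) 1 = dg 1 (ζ ^ j) := by
      show dg1 (ζ ^ i) = dg2 (ζ ^ j)
      rw [hi', hj']
    have h3 := (dg_inj _ _ _ _ this).1
    apply Subtype.ext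
    rw [← hi', h3, map_one]
    rfl
  have hz : orderOf z = 2 := by
    rw [Subgroup.orderOf_mk]
    exact orderOf_eq_prime (by rw [pow_two, sw_mul_sw]) sw_ne_one
  have hzx : z * x * z⁻¹ = y := by
    apply Subtype.ext
    exact sw_conj ζ 1
  obtain ⟨x', y', z', h1, h2, h3, h4, h5⟩ := wreathed_of P n hn hc x y z hx hxy hint hz hzx
  exact ⟨n, hn, hc, x', y', z', h1, h2, h3, h4, h5⟩


theorem S1218_main {F : Type*} [Field F] [Fintype F] (q : ℕ) (hF : Fintype.card F = q ^ 2) (hq : Odd q)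
    (P : Sylow 2 (GU 2 F q)) :
    (q % 4 = 1 → Cfsg.IsQuasiDihedral (P : Subgroup (GU 2 F q))) ∧
    (q % 4 = 3 → Cfsg.IsWreathed (P : Subgroup (GU 2 F q))) := by
  have hq2 := Cfsg.Agent.Lib.Helper1_Herm.two_le_q hF
  constructor
  · intro h
    obtain ⟨b, hb, h1, h2, h3⟩ := arithU1 q h (by omega)
    exact qd_case hF hq b hb h1 h2 h3 P
  · intro h
    obtain ⟨n, hn, h1, h2⟩ := arithU3 q h
    exact wreath_case hF n hn h1 (by omega) h2 P

end Cfsg.Agent.Lib.Helper4_GU2Sylow
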