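import Mathlib

namespace Cfsg.Agent.Lib.Helper4_Trace2

variable {G : Type*} [Group G]

/-- a trace map `C_M(S) → C_M(A)` for an abelian subgroup `M` normalized by `A ≥ S`. -/
theorem trace_exists2 [Finite G] (A S M : Subgroup G) (_hSA : S ≤ A)
    (hAM : ∀ a ∈ A, ∀ m ∈ M, a * m * a⁻¹ ∈ M) (hcomm : ∀ x ∈ M, ∀ y ∈ M, x * y = y * x) :
    ∃ Tr : G → G,
      (∀ w ∈ M, Tr w ∈ M) ∧
      (∀ w ∈ M, ∀ w' ∈ M, Tr (w * w') = Tr w * Tr w') ∧
      (∀ w ∈ M, ∀ k : ℕ, Tr (w ^ k) = Tr w ^ k) ∧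
      (∀ w ∈ M, Tr w⁻¹ = (Tr w)⁻¹) ∧
      (∀ w ∈ M, (∀ a ∈ A, a * w = w * a) → Tr w = w ^ (S.relIndex A)) ∧
      (∀ w ∈ M, (∀ s ∈ S, s * w = w * s) → ∀ a ∈ A, a * Tr w = Tr w * a) ∧
      (∀ t : G, (∀ a ∈ A, t * a * t⁻¹ ∈ A) → (∀ s ∈ S, t * s * t⁻¹ ∈ S) →
        (∀ s ∈ S, t⁻¹ * s * t ∈ S) → (∀ m ∈ M, t * m * t⁻¹ ∈ M) →
        ∀ w ∈ M, (∀ s ∈ S, s * w = w * s) → Tr (t * w * t⁻¹) = t * Tr w * t⁻¹) ∧
      (∀ w ∈ M, Tr w * (w ^ (S.relIndex A))⁻¹ ∈ ⁅M, A⁆) := by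
  classical
  let _ : CommGroup ↥M :=
    { (inferInstance : Group ↥M) with mul_comm := fun a b => Subtype.ext (hcomm a a.2 b b.2) }
  set S' : Subgroup ↥A := S.subgroupOf A with hS'
  have : Fintype (↥A ⧸ S') := Fintype.ofFinite _
  -- representatives
  let r : ↥A ⧸ S' → ↥A := fun q => Quotient.out q
  have hr : ∀ q, (QuotientGroup.mk (r q) : ↥A ⧸ S') = q := fun q => Quotient.out_eq q
  -- conjugation homs
  let cj : ↥A → (↥M →* ↥M) := fun a =>
    { toFun := fun x => ⟨(a : G) * x * (a : G)⁻¹, hAM a a.2 x x.2⟩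
      map_one' := by apply Subtype.ext; simp
      map_mul' := by intro x y; apply Subtype.ext; simp }
  have hcj : ∀ (a : ↥A) (x : ↥M), ((cj a x : ↥M) : G) = (a : G) * x * (a : G)⁻¹ := fun a x => rfl
  let TrM : ↥M →* ↥M := ∏ q : ↥A ⧸ S', cj (r q)
  have hTrM : ∀ x : ↥M, TrM x = ∏ q : ↥A ⧸ S', cj (r q) x := fun x =>
    MonoidHom.finsetProd_apply _ _ _
  -- independence of representatives
  have hindep : ∀ (r' : ↥A ⧸ S' → ↥A), Function.Injective (fun q => (QuotientGroup.mk (r' q) : ↥A ⧸ S')) →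
      ∀ x : ↥M, (∀ s ∈ S, s * (x : G) = x * s) → ∏ q : ↥A ⧸ S', cj (r' q) x = TrM x := by
    intro r' hinj x hx
    have hbij : Function.Bijective (fun q => (QuotientGroup.mk (r' q) : ↥A ⧸ S')) :=
      Finite.injective_iff_bijective.mp hinj
    rw [hTrM]
    have h1 : ∀ q, cj (r' q) x = cj (r (QuotientGroup.mk (r' q))) x := by
      intro q
      have h2 : (QuotientGroup.mk (r (QuotientGroup.mk (r' q))) : ↥A ⧸ S') = QuotientGroup.mk (r' q) := hr _
      rw [QuotientGroup.eq] at h2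
      -- (r ..)⁻¹ * r' q ∈ S'
      replace h2 : (((r (QuotientGroup.mk (r' q)))⁻¹ * r' q : ↥A) : G) ∈ S :=
        Subgroup.mem_subgroupOf.mp h2
      set s : G := (((r (QuotientGroup.mk (r' q)))⁻¹ * r' q : ↥A) : G) with hs
      have hs' : (r' q : G) = (r (QuotientGroup.mk (r' q)) : G) * s := by
        rw [hs]; simp
      apply Subtype.ext
      rw [hcj, hcj, hs']
      have h3 := hx s h2
      calc (↑(r (QuotientGroup.mk (r' q))) * s) * (x : G) * (↑(r (QuotientGroup.mk (r' q))) * s)⁻¹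
          = ↑(r (QuotientGroup.mk (r' q))) * (s * (x : G)) * s⁻¹ * (↑(r (QuotientGroup.mk (r' q))) : G)⁻¹ := by group
        _ = ↑(r (QuotientGroup.mk (r' q))) * ((x : G) * s) * s⁻¹ * (↑(r (QuotientGroup.mk (r' q))) : G)⁻¹ := by rw [h3]
        _ = _ := by group
    simp_rw [h1]
    exact Function.Bijective.prod_comp hbij (fun q => cj (r q) x)
  refine ⟨fun w => if hw : w ∈ M then ((TrM ⟨w, hw⟩ : ↥M) : G) else 1, ?_, ?_, ?_, ?_, ?_, ?_, ?_, ?_⟩
  · intro w hw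
    simp only [hw, dif_pos]
    exact (TrM ⟨w, hw⟩).2
  · intro w hw w' hw'
    simp only [hw, hw', M.mul_mem hw hw', dif_pos]
    have : (⟨w * w', M.mul_mem hw hw'⟩ : ↥M) = ⟨w, hw⟩ * ⟨w', hw'⟩ := rfl
    rw [this, map_mul]
    rfl
  · intro w hw k
    simp only [hw, M.pow_mem hw k, dif_pos]
    have : (⟨w ^ k, M.pow_mem hw k⟩ : ↥M) = ⟨w, hw⟩ ^ k := rfl
    rw [this, map_pow]
    rfl
  · intro w hw
    simp only [hw, M.inv_mem hw, dif_pos]
    have : (⟨w⁻¹, M.inv_mem hw⟩ : ↥M) = ⟨w, hw⟩⁻¹ := rfl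
    rw [this, map_inv]
    rfl
  · intro w hw hwA
    simp only [hw, dif_pos]
    rw [hTrM]
    have h1 : ∀ q, cj (r q) ⟨w, hw⟩ = ⟨w, hw⟩ := by
      intro q
      apply Subtype.ext
      rw [hcj]
      show ((r q : ↥A) : G) * w * ((r q : ↥A) : G)⁻¹ = w
      rw [hwA _ (r q).2]; group
    simp_rw [h1]
    rw [Finset.prod_const, Finset.card_univ]
    have : S.relIndex A = Fintype.card (↥A ⧸ S') := by
      rw [← Nat.card_eq_fintype_card]; rfl
    rw [this]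
    rfl
  · intro w hw hwS a ha
    simp only [hw, dif_pos]
    have h1 := hindep (fun q => (⟨a, ha⟩ : ↥A) * r q) (by
      intro q q' h
      simp only at h
      rw [QuotientGroup.eq] at h
      have h2 : (QuotientGroup.mk (r q) : ↥A ⧸ S') = QuotientGroup.mk (r q') := by
        rw [QuotientGroup.eq]
        convert h using 1
        group
      rwa [hr, hr] at h2) ⟨w, hw⟩ hwS
    -- conj by a of TrM
    have h2 : cj ⟨a, ha⟩ (TrM ⟨w, hw⟩) = ∏ q : ↥A ⧸ S', cj ((⟨a, ha⟩ : ↥A) * r q) ⟨w, hw⟩ := by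
      rw [hTrM, map_prod]
      apply Finset.prod_congr rfl
      intro q _
      apply Subtype.ext
      rw [hcj, hcj, hcj]
      simp only [Subgroup.coe_mul]
      group
    rw [h1] at h2
    have h3 := congrArg Subtype.val h2
    rw [hcj] at h3
    simp only at h3
    calc a * ↑(TrM ⟨w, hw⟩) = (a * ↑(TrM ⟨w, hw⟩) * a⁻¹) * a := by group
      _ = _ := by rw [h3]
  · intro t htA htS htS' htM w hw hwS
    have hw' : t * w * t⁻¹ ∈ M := htM w hw
    simp only [hw, hw', dif_pos]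
    have hwS' : ∀ s ∈ S, s * (t * w * t⁻¹) = (t * w * t⁻¹) * s := by
      intro s hs
      have := hwS _ (htS' s hs)
      calc s * (t * w * t⁻¹) = t * ((t⁻¹ * s * t) * w) * t⁻¹ := by group
        _ = t * (w * (t⁻¹ * s * t)) * t⁻¹ := by rw [this]
        _ = _ := by group
    have h1 := hindep (fun q => (⟨t * (r q : G) * t⁻¹, htA _ (r q).2⟩ : ↥A)) (by
      intro q q' h
      simp only at h
      rw [QuotientGroup.eq] at h
      replace h := Subgroup.mem_subgroupOf.mp h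
      have h2 : (QuotientGroup.mk (r q) : ↥A ⧸ S') = QuotientGroup.mk (r q') := by
        rw [QuotientGroup.eq]
        apply Subgroup.mem_subgroupOf.mpr
        have := htS' _ h
        convert this using 1
        simp only [Subgroup.coe_mul, Subgroup.coe_inv]
        group
      rwa [hr, hr] at h2) ⟨t * w * t⁻¹, hw'⟩ hwS'
    rw [← h1]
    rw [hTrM]
    -- conj by t of product
    let ct : ↥M →* ↥M :=
      { toFun := fun x => ⟨t * x * t⁻¹, htM x x.2⟩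
        map_one' := by apply Subtype.ext; simp
        map_mul' := by intro x y; apply Subtype.ext; simp }
    have h2 : ct (∏ q : ↥A ⧸ S', cj (r q) ⟨w, hw⟩) =
        ∏ q : ↥A ⧸ S', cj (⟨t * (r q : G) * t⁻¹, htA _ (r q).2⟩ : ↥A) ⟨t * w * t⁻¹, hw'⟩ := by
      rw [map_prod]
      apply Finset.prod_congr rfl
      intro q _
      apply Subtype.ext
      show t * ((cj (r q) ⟨w, hw⟩ : ↥M) : G) * t⁻¹ = _
      rw [hcj, hcj]
      group
    rw [← h2]
    rfl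
  · intro w hw
    simp only [hw, dif_pos]
    have hn : S.relIndex A = Fintype.card (↥A ⧸ S') := by
      rw [← Nat.card_eq_fintype_card]; rfl
    have h1 : TrM ⟨w, hw⟩ * ((⟨w, hw⟩ : ↥M) ^ (S.relIndex A))⁻¹ =
        ∏ q : ↥A ⧸ S', (cj (r q) ⟨w, hw⟩ * (⟨w, hw⟩ : ↥M)⁻¹) := by
      rw [Finset.prod_mul_distrib, Finset.prod_const, Finset.card_univ, ← hTrM, hn, inv_pow]
    have h2 : ∏ q : ↥A ⧸ S', (cj (r q) ⟨w, hw⟩ * (⟨w, hw⟩ : ↥M)⁻¹) ∈ (⁅M, A⁆).subgroupOf M := by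
      apply Subgroup.prod_mem
      intro q _
      rw [Subgroup.mem_subgroupOf]
      show ((r q : ↥A) : G) * w * ((r q : ↥A) : G)⁻¹ * w⁻¹ ∈ ⁅M, A⁆
      rw [Subgroup.commutator_comm]
      exact Subgroup.commutator_mem_commutator (r q).2 hw
    rw [← h1, Subgroup.mem_subgroupOf] at h2
    exact h2

end Cfsg.Agent.Lib.Helper4_Trace2
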