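import Mathlib
import Cfsg.Prelude.Def_LocalStructure
import Cfsg.Prelude.Def_LocalEven
import Cfsg.Prelude.Def_Transfer
import Cfsg.Agent.Lib.Helper4_Trace2
import Cfsg.Agent.Lib.Helper4_Coprime
import Cfsg.Agent.Lib.Helper4_PIrred

namespace Cfsg.Agent.Lib.Helper4_GenSplit
open Cfsg

variable {G : Type*} [Group G]

theorem conj_commutator_mem (V R : Subgroup G) (h : G)
    (hV : ∀ v ∈ V, h * v * h⁻¹ ∈ V) (hR : ∀ r ∈ R, h * r * h⁻¹ ∈ R) :
    ∀ x ∈ ⁅V, R⁆, h * x * h⁻¹ ∈ ⁅V, R⁆ := by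
  have hle : ⁅V, R⁆ ≤ (⁅V, R⁆).comap (MulAut.conj h).toMonoidHom := by
    rw [Subgroup.commutator_le]
    intro v hv r hr
    rw [Subgroup.mem_comap, map_commutatorElement]
    exact Subgroup.commutator_mem_commutator (by simpa using hV v hv) (by simpa using hR r hr)
  intro x hx
  have := hle hx
  rw [Subgroup.mem_comap] at this
  simpa using this

theorem main [Finite G] {p : ℕ} [Fact p.Prime] (V H : Subgroup G)
    (hV : Cfsg.IsElementaryAbelian p V) (hHV : H ≤ Subgroup.normalizer (V : Set G))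
    (R : Subgroup G) (hR : R = (Cfsg.pResidual p ↥H).map H.subtype) (S : Sylow p ↥R)
    (T : Subgroup G) (hT : T = ((S : Subgroup ↥R).map R.subtype))
    (hgen : ∀ W : Subgroup G, H ≤ Subgroup.normalizer (W : Set G) →
      (V ⊓ Subgroup.centralizer ((T : Subgroup G) : Set G)) ≤ W → V ≤ W) :
    ⁅V, R⁆ ⊔ (V ⊓ Subgroup.centralizer ((R : Subgroup G) : Set G)) = V := by
  have hp : p.Prime := Fact.out
  obtain ⟨hVc, hVp⟩ := hV
  have hRH : R ≤ H := by rw [hR]; exact Subgroup.map_subtype_le _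
  have hTR : T ≤ R := by rw [hT]; exact Subgroup.map_subtype_le _
  have hRV : ∀ r ∈ R, ∀ v ∈ V, r * v * r⁻¹ ∈ V := fun r hr v hv =>
    (Subgroup.mem_normalizer_iff.mp (hHV (hRH hr)) v).mp hv
  have hRn : ∀ h ∈ H, ∀ r ∈ R, h * r * h⁻¹ ∈ R := by
    intro h hh r hr
    rw [hR] at hr ⊢
    obtain ⟨r', hr', rfl⟩ := Subgroup.mem_map.mp hr
    have := (Cfsg.Agent.Lib.Helper4_PIrred.pResidual_normal (H := ↥H) p).conj_mem r' hr' ⟨h, hh⟩
    exact Subgroup.mem_map.mpr ⟨_, this, by simp⟩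
  have hcomm : ∀ x ∈ V, ∀ y ∈ V, x * y = y * x := by
    intro x hx y hy
    have := hVc.is_comm.comm (⟨x, hx⟩ : ↥V) ⟨y, hy⟩
    exact congrArg Subtype.val this
  have hle1 : ⁅V, R⁆ ≤ V := by
    rw [Subgroup.commutator_le]
    intro v hv r hr
    rw [commutatorElement_def]
    have h1 := hRV r hr v⁻¹ (V.inv_mem hv)
    have e : v * r * v⁻¹ * r⁻¹ = v * (r * v⁻¹ * r⁻¹) := by group
    rw [e]
    exact V.mul_mem hv h1
  apply le_antisymm (sup_le hle1 inf_le_left)
  apply hgen
  · -- H normalizes W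
    intro h hh
    apply Subgroup.mem_normalizer_fintype
    intro x hx
    rw [SetLike.mem_coe] at hx ⊢
    have hconj : ∀ y ∈ V ⊓ Subgroup.centralizer ((R : Subgroup G) : Set G),
        h * y * h⁻¹ ∈ V ⊓ Subgroup.centralizer ((R : Subgroup G) : Set G) := by
      intro y hy
      obtain ⟨hyV, hyC⟩ := Subgroup.mem_inf.mp hy
      refine Subgroup.mem_inf.mpr ⟨(Subgroup.mem_normalizer_iff.mp (hHV hh) y).mp hyV, ?_⟩
      rw [Subgroup.mem_centralizer_iff] at hyC ⊢
      intro r hr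
      have h1 : h⁻¹ * r * h ∈ R := by
        have := hRn h⁻¹ (H.inv_mem hh) r hr
        simpa using this
      have h2 := hyC _ h1
      calc r * (h * y * h⁻¹) = h * ((h⁻¹ * r * h) * y) * h⁻¹ := by group
        _ = h * (y * (h⁻¹ * r * h)) * h⁻¹ := by rw [h2]
        _ = _ := by group
    have hle : ⁅V, R⁆ ⊔ (V ⊓ Subgroup.centralizer ((R : Subgroup G) : Set G)) ≤
        (⁅V, R⁆ ⊔ (V ⊓ Subgroup.centralizer ((R : Subgroup G) : Set G))).comap
          (MulAut.conj h).toMonoidHom := by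
      apply sup_le
      · intro y hy
        rw [Subgroup.mem_comap]
        apply (le_sup_left : ⁅V, R⁆ ≤ _)
        have := conj_commutator_mem V R h
          (fun v hv => (Subgroup.mem_normalizer_iff.mp (hHV hh) v).mp hv) (hRn h hh) y hy
        simpa using this
      · intro y hy
        rw [Subgroup.mem_comap]
        apply (le_sup_right : (V ⊓ Subgroup.centralizer ((R : Subgroup G) : Set G)) ≤ _)
        simpa using hconj y hy
    have := hle hx
    rw [Subgroup.mem_comap] at this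
    simpa using this
  · intro w hw
    obtain ⟨hwV, hwT⟩ := Subgroup.mem_inf.mp hw
    obtain ⟨Tr, hTrM, -, -, -, -, hTrC, -, hTr8⟩ :=
      Cfsg.Agent.Lib.Helper4_Trace2.trace_exists2 R T V hTR hRV hcomm
    have hwT' : ∀ s ∈ T, s * w = w * s := by
      intro s hs
      exact (Subgroup.mem_centralizer_iff.mp hwT s hs)
    have h1 : Tr w ∈ V ⊓ Subgroup.centralizer ((R : Subgroup G) : Set G) := by
      refine Subgroup.mem_inf.mpr ⟨hTrM w hwV, ?_⟩
      rw [Subgroup.mem_centralizer_iff]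
      intro a ha
      exact hTrC w hwV hwT' a ha
    have h2 := hTr8 w hwV
    have h3 : w ^ (T.relIndex R) ∈ ⁅V, R⁆ ⊔ (V ⊓ Subgroup.centralizer ((R : Subgroup G) : Set G)) := by
      have e : w ^ (T.relIndex R) = (Tr w * (w ^ (T.relIndex R))⁻¹)⁻¹ * Tr w := by group
      rw [e]
      exact Subgroup.mul_mem _ (Subgroup.inv_mem _ ((le_sup_left : ⁅V, R⁆ ≤ _) h2))
        ((le_sup_right : (V ⊓ Subgroup.centralizer ((R : Subgroup G) : Set G)) ≤ _) h1)
    have hidx : ¬ p ∣ T.relIndex R := by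
      have h4 : T.subgroupOf R = (S : Subgroup ↥R) := by
        rw [hT]
        exact Subgroup.comap_map_eq_self_of_injective (Subgroup.subtype_injective R) _
      unfold Subgroup.relIndex
      rw [h4]
      exact S.not_dvd_index
    by_cases hw1 : w = 1
    · rw [hw1]; exact Subgroup.one_mem _
    have hord : orderOf w = p := orderOf_eq_prime (hVp w hwV) hw1
    apply Cfsg.Agent.Lib.Helper4_Coprime.mem_of_pow_mem_of_coprime _ w (T.relIndex R)
      (by rw [hord]; exact hp.pos) ?_ h3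
    rw [hord]
    exact ((Nat.Prime.coprime_iff_not_dvd hp).mpr hidx).symm

end Cfsg.Agent.Lib.Helper4_GenSplit
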