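import Mathlib
import Cfsg.Prelude.Def_Classical

set_option autoImplicit false
open Cfsg

namespace Cfsg.Agent.Lib.Helper4_OmegaSum

variable {F : Type*} [Field F]

theorem mem_iso {ι : Type} [Fintype ι] [DecidableEq ι] (Q : (ι → F) → F)
    (g : Matrix.GeneralLinearGroup ι F) :
    g ∈ Cfsg.isometryGroup F Q ↔ ∀ u, Q ((g : Matrix ι ι F).mulVec u) = Q u := by
  constructor
  · intro h u
    exact h u u
  · intro h u v
    exact h u

variable {k l : ℕ}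

/-- block diagonal -/
def blk : Matrix.GeneralLinearGroup (Fin k) F × Matrix.GeneralLinearGroup (Fin l) F →*
    Matrix.GeneralLinearGroup (Fin k ⊕ Fin l) F where
  toFun p := ⟨Matrix.fromBlocks (p.1 : Matrix (Fin k) (Fin k) F) 0 0 (p.2 : Matrix (Fin l) (Fin l) F),
    Matrix.fromBlocks ((p.1⁻¹ : Matrix.GeneralLinearGroup (Fin k) F) : Matrix (Fin k) (Fin k) F) 0 0
      ((p.2⁻¹ : Matrix.GeneralLinearGroup (Fin l) F) : Matrix (Fin l) (Fin l) F),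
    by
      rw [Matrix.fromBlocks_multiply]
      simp [Matrix.fromBlocks_one],
    by
      rw [Matrix.fromBlocks_multiply]
      simp [Matrix.fromBlocks_one]⟩
  map_one' := by
    apply Units.ext
    simp [Matrix.fromBlocks_one]
  map_mul' p q := by
    apply Units.ext
    simp [Matrix.fromBlocks_multiply]

theorem blk_coe (p : Matrix.GeneralLinearGroup (Fin k) F × Matrix.GeneralLinearGroup (Fin l) F) :
    ((blk p : Matrix.GeneralLinearGroup (Fin k ⊕ Fin l) F) : Matrix _ _ F) =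
      Matrix.fromBlocks (p.1 : Matrix (Fin k) (Fin k) F) 0 0 (p.2 : Matrix (Fin l) (Fin l) F) := rfl

theorem blk_mem (Q₁ : (Fin k → F) → F) (Q₂ : (Fin l → F) → F)
    (g₁ : Matrix.GeneralLinearGroup (Fin k) F) (g₂ : Matrix.GeneralLinearGroup (Fin l) F)
    (h₁ : g₁ ∈ Cfsg.isometryGroup F Q₁) (h₂ : g₂ ∈ Cfsg.isometryGroup F Q₂) :
    blk (g₁, g₂) ∈ Cfsg.isometryGroup F
      (fun v : Fin k ⊕ Fin l → F => Q₁ (v ∘ Sum.inl) + Q₂ (v ∘ Sum.inr)) := by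
  rw [mem_iso] at h₁ h₂ ⊢
  intro u
  rw [blk_coe]
  have e : u = Sum.elim (u ∘ Sum.inl) (u ∘ Sum.inr) := by
    ext i; cases i <;> rfl
  rw [e, Matrix.fromBlocks_mulVec]
  simp only [Matrix.zero_mulVec, add_zero, zero_add, Sum.elim_comp_inl, Sum.elim_comp_inr]
  rw [h₁, h₂]

/-- the hom on isometry groups -/
def blkO (Q₁ : (Fin k → F) → F) (Q₂ : (Fin l → F) → F) :
    (Cfsg.isometryGroup F Q₁) × (Cfsg.isometryGroup F Q₂) →*
    Cfsg.isometryGroup F (fun v : Fin k ⊕ Fin l → F => Q₁ (v ∘ Sum.inl) + Q₂ (v ∘ Sum.inr)) where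
  toFun p := ⟨blk (p.1.1, p.2.1), blk_mem Q₁ Q₂ p.1.1 p.2.1 p.1.2 p.2.2⟩
  map_one' := by
    apply Subtype.ext
    show blk ((1 : Matrix.GeneralLinearGroup (Fin k) F), (1 : Matrix.GeneralLinearGroup (Fin l) F)) = 1
    exact map_one blk
  map_mul' p q := by
    apply Subtype.ext
    show blk ((p.1.1 * q.1.1), (p.2.1 * q.2.1)) = blk (p.1.1, p.2.1) * blk (q.1.1, q.2.1)
    rw [← map_mul]; rfl

theorem main (Q₁ : (Fin k → F) → F) (Q₂ : (Fin l → F) → F)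
    (g₁ : ↥(Cfsg.isometryGroup F Q₁)) (g₂ : ↥(Cfsg.isometryGroup F Q₂))
    (hg₁ : g₁ ∈ Cfsg.Omega F Q₁) (hg₂ : g₂ ∈ Cfsg.Omega F Q₂) :
    ∃ g : ↥(Cfsg.isometryGroup F (fun v : Fin k ⊕ Fin l → F => Q₁ (v ∘ Sum.inl) + Q₂ (v ∘ Sum.inr))),
      g ∈ Cfsg.Omega F (fun v : Fin k ⊕ Fin l → F => Q₁ (v ∘ Sum.inl) + Q₂ (v ∘ Sum.inr)) ∧
      ((g : Matrix.GeneralLinearGroup (Fin k ⊕ Fin l) F) : Matrix (Fin k ⊕ Fin l) (Fin k ⊕ Fin l) F) =
        Matrix.fromBlocks ((g₁ : Matrix.GeneralLinearGroup (Fin k) F) : Matrix (Fin k) (Fin k) F) 0 0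
          ((g₂ : Matrix.GeneralLinearGroup (Fin l) F) : Matrix (Fin l) (Fin l) F) := by
  refine ⟨blkO Q₁ Q₂ (g₁, g₂), ?_, rfl⟩
  have h1 : (g₁, g₂) ∈ commutator (↥(Cfsg.isometryGroup F Q₁) × ↥(Cfsg.isometryGroup F Q₂)) := by
    rw [commutator_def, ← Subgroup.top_prod_top, Subgroup.commutator_prod_prod]
    exact ⟨hg₁, hg₂⟩
  have h2 := Subgroup.mem_map_of_mem (blkO Q₁ Q₂) h1
  rw [commutator_def, Subgroup.map_commutator] at h2
  exact Subgroup.commutator_mono le_top le_top h2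

end Cfsg.Agent.Lib.Helper4_OmegaSum
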