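import Mathlib
import Cfsg.Prelude.Def_Classical
import Cfsg.Agent.Lib.Helper4_OmegaSum

set_option autoImplicit false

namespace Cfsg.Agent.Lib.Helper4_IrrSub

open QuadraticMap Module Matrix

variable {F : Type*} [Field F]

theorem main [Fintype F] {p : ℕ} [Fact p.Prime] [CharP F p] {n : ℕ}
    (Q : QuadraticForm F (Fin n → F))
    (X : Matrix (Fin n) (Fin n) F) (hXu : IsUnit X) (hX : ∀ v, Q (X.mulVec v) = Q v)
    (U : Submodule F (Fin n → F)) (hU0 : U ≠ ⊥) (hUx : ∀ u ∈ U, X.mulVec u ∈ U)
    (hirr : ∀ W : Submodule F (Fin n → F), W ≤ U → (∀ w ∈ W, X.mulVec w ∈ W) → W = ⊥ ∨ W = U) :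
    U ⊓ LinearMap.BilinForm.orthogonal (polarBilin Q) U = ⊥ ∨ (∀ u ∈ U, Q u = 0) ∨
      (p = 2 ∧ Module.finrank F U = 1 ∧ (∃ u ∈ U, Q u ≠ 0) ∧ ∀ u ∈ U, X.mulVec u = u) := by
  have hpol : ∀ u v, polar Q (X.mulVec u) (X.mulVec v) = polar Q u v := by
    intro u v
    unfold polar
    rw [← Matrix.mulVec_add, hX, hX, hX]
  -- surjectivity on U
  have hinj : Function.Injective X.mulVec := Matrix.mulVec_injective_of_isUnit hXu
  have hsurj : ∀ u ∈ U, ∃ u' ∈ U, X.mulVec u' = u := by
    have hUx' : ∀ x ∈ U, X.mulVecLin x ∈ U := hUx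
    set T : U →ₗ[F] U := (Matrix.mulVecLin X).restrict (p := U) (q := U) hUx' with hT
    have key : ∀ a : U, ((T a : U) : Fin n → F) = X.mulVec a := fun a => rfl
    have hTinj : Function.Injective T := by
      intro a b hab
      apply Subtype.ext
      apply hinj
      have := congrArg Subtype.val hab
      rw [key, key] at this
      exact this
    have hTsurj : Function.Surjective T := LinearMap.surjective_of_injective hTinj
    intro u hu
    obtain ⟨u', hu'⟩ := hTsurj ⟨u, hu⟩
    refine ⟨u'.1, u'.2, ?_⟩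
    have := congrArg Subtype.val hu'
    rw [key] at this
    exact this
  -- Step 1
  have h1 := hirr (U ⊓ LinearMap.BilinForm.orthogonal (polarBilin Q) U) inf_le_left (by
    intro w hw
    refine ⟨hUx w hw.1, ?_⟩
    show X.mulVec w ∈ LinearMap.BilinForm.orthogonal (polarBilin Q) U
    rw [LinearMap.BilinForm.mem_orthogonal_iff]
    intro u hu
    obtain ⟨u', hu', rfl⟩ := hsurj u hu
    have h2 : w ∈ LinearMap.BilinForm.orthogonal (polarBilin Q) U := hw.2
    rw [LinearMap.BilinForm.mem_orthogonal_iff] at h2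
    have h3 := h2 u' hu'
    show polarBilin Q (X.mulVec u') (X.mulVec w) = 0
    rw [polarBilin_apply_apply, hpol]
    exact h3)
  rcases h1 with h1 | h1
  · exact Or.inl h1
  right
  have hortho : ∀ u ∈ U, ∀ v ∈ U, polar Q u v = 0 := by
    intro u hu v hv
    have : v ∈ U ⊓ LinearMap.BilinForm.orthogonal (polarBilin Q) U := by rw [h1]; exact hv
    have h2 : v ∈ LinearMap.BilinForm.orthogonal (polarBilin Q) U := this.2
    rw [LinearMap.BilinForm.mem_orthogonal_iff] at h2
    exact h2 u hu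
  -- Step 2
  set W₂ : Submodule F (Fin n → F) :=
    { carrier := {u | u ∈ U ∧ Q u = 0}
      add_mem' := by
        rintro a b ⟨ha, hqa⟩ ⟨hb, hqb⟩
        refine ⟨U.add_mem ha hb, ?_⟩
        rw [QuadraticMap.map_add Q, hqa, hqb, hortho a ha b hb]; simp
      zero_mem' := ⟨U.zero_mem, by simp⟩
      smul_mem' := by
        rintro c a ⟨ha, hqa⟩
        refine ⟨U.smul_mem c ha, ?_⟩
        rw [QuadraticMap.map_smul, hqa]; simp } with hW₂
  have h2 := hirr W₂ (fun u hu => hu.1) (by
    rintro w ⟨hw, hqw⟩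
    exact ⟨hUx w hw, by rw [hX, hqw]⟩)
  rcases h2 with h2 | h2
  swap
  · left
    intro u hu
    have : u ∈ W₂ := by rw [h2]; exact hu
    exact this.2
  right
  have haniso : ∀ u ∈ U, Q u = 0 → u = 0 := by
    intro u hu hq
    have : u ∈ W₂ := ⟨hu, hq⟩
    rw [h2] at this
    exact (Submodule.mem_bot F).mp this
  obtain ⟨u₀, hu₀, hu₀0⟩ := (Submodule.ne_bot_iff U).mp hU0
  have hQu₀ : Q u₀ ≠ 0 := fun h => hu₀0 (haniso u₀ hu₀ h)
  have h2F : (2 : F) = 0 := by
    have := hortho u₀ hu₀ u₀ hu₀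
    rw [polar_self] at this
    simp only [nsmul_eq_mul, Nat.cast_ofNat] at this
    rcases mul_eq_zero.mp this with h | h
    · exact h
    · exact absurd h hQu₀
  have hp2 : p = 2 := by
    have h3 : ((2 : ℕ) : F) = 0 := by simpa using h2F
    have := (CharP.cast_eq_zero_iff F p 2).mp h3
    exact (Nat.prime_dvd_prime_iff_eq (Fact.out : p.Prime) Nat.prime_two).mp this
  have hchar : ringChar F = 2 := by
    have := ringChar.eq F p
    rw [this, hp2]
  have hneg : ∀ a : F, -a = a := by
    intro a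
    have : a + a = 0 := by rw [← two_mul, h2F, zero_mul]
    exact neg_eq_of_add_eq_zero_left this
  have hspan : ∀ v ∈ U, ∃ c : F, v = c • u₀ := by
    intro v hv
    obtain ⟨c, hc⟩ := FiniteField.isSquare_of_char_two hchar (Q v / Q u₀)
    refine ⟨c, ?_⟩
    have h3 : Q (v + c • u₀) = 0 := by
      rw [QuadraticMap.map_add Q, QuadraticMap.map_smul, hortho v hv _ (U.smul_mem c hu₀)]
      have : c * c * Q u₀ = Q v := by rw [← hc]; field_simp
      rw [smul_eq_mul, this, add_zero, ← two_mul, h2F, zero_mul]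
    have h4 := haniso _ (U.add_mem hv (U.smul_mem c hu₀)) h3
    have h5 : v = -(c • u₀) := eq_neg_of_add_eq_zero_left h4
    rw [h5, ← neg_smul, hneg]
  refine ⟨hp2, ?_, ⟨u₀, hu₀, hQu₀⟩, ?_⟩
  · have : U = Submodule.span F {u₀} := by
      apply le_antisymm
      · intro v hv
        obtain ⟨c, rfl⟩ := hspan v hv
        exact Submodule.smul_mem _ _ (Submodule.mem_span_singleton_self u₀)
      · rw [Submodule.span_singleton_le_iff_mem]
        exact hu₀
    rw [this]
    exact finrank_span_singleton hu₀0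
  · obtain ⟨a, ha⟩ := hspan _ (hUx u₀ hu₀)
    have ha1 : a = 1 := by
      have h3 := hX u₀
      rw [ha, QuadraticMap.map_smul, smul_eq_mul] at h3
      have h4 : a * a = 1 := by
        have : (a * a - 1) * Q u₀ = 0 := by linear_combination h3
        rcases mul_eq_zero.mp this with h | h
        · linear_combination h
        · exact absurd h hQu₀
      have h5 : (a - 1) * (a - 1) = 0 := by
        have : (a - 1) * (a - 1) = a * a - 2 * a + 1 := by ring
        rw [this, h4, h2F]; ring_nf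
        rw [h2F]
      have := mul_self_eq_zero.mp h5
      linear_combination this
    rw [ha1, one_smul] at ha
    intro u hu
    obtain ⟨c, rfl⟩ := hspan u hu
    rw [Matrix.mulVec_smul, ha]

end Cfsg.Agent.Lib.Helper4_IrrSub
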