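import Mathlib

namespace Cfsg.Agent.Lib.Helper4_Unipotent

open Matrix Polynomial

theorem pow_card_eq_zero_of_isNilpotent {F : Type*} [Field F] {d : ℕ}
    (N : Matrix (Fin d) (Fin d) F) (hN : IsNilpotent N) : N ^ d = 0 := by
  have h1 := Matrix.isNilpotent_charpoly_sub_pow_of_isNilpotent hN
  rw [Fintype.card_fin] at h1
  have h2 : N.charpoly = X ^ d := by
    rw [← sub_eq_zero]; exact h1.eq_zero
  have h3 := Matrix.aeval_self_charpoly N
  rw [h2] at h3
  simpa using h3

theorem unipotent_order {F : Type*} [Field F] (p : ℕ) [Fact p.Prime] [CharP F p] (d : ℕ)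
    (u : GL (Fin d) F) (hu : IsNilpotent ((u : Matrix (Fin d) (Fin d) F) - 1)) :
    orderOf u ≤ p ^ Nat.clog p d ∧
    (((u : Matrix (Fin d) (Fin d) F) - 1) ^ (d - 1) ≠ 0 → orderOf u = p ^ Nat.clog p d) := by
  rcases Nat.eq_zero_or_pos d with hd0 | hdpos
  · subst hd0
    have hu1 : u = 1 := Subsingleton.elim _ _
    rw [hu1, orderOf_one]
    simp
  have : NeZero d := ⟨hdpos.ne'⟩
  have hp : p.Prime := Fact.out
  set N := (u : Matrix (Fin d) (Fin d) F) - 1 with hN
  have hNd : N ^ d = 0 := pow_card_eq_zero_of_isNilpotent N hu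
  have huN : (u : Matrix (Fin d) (Fin d) F) = N + 1 := by rw [hN]; abel
  have hchar : CharP (Matrix (Fin d) (Fin d) F) p := inferInstance
  have hpow : ∀ j : ℕ, ((u ^ (p ^ j) : GL (Fin d) F) : Matrix (Fin d) (Fin d) F) = N ^ (p ^ j) + 1 := by
    intro j
    rw [Units.val_pow_eq_pow_val, huN, add_pow_char_pow_of_commute p j (Commute.one_right N), one_pow]
  have hk : d ≤ p ^ Nat.clog p d := Nat.le_pow_clog hp.one_lt d
  have h1 : u ^ (p ^ Nat.clog p d) = 1 := by
    apply Units.ext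
    rw [hpow, Units.val_one]
    have : N ^ (p ^ Nat.clog p d) = 0 := by
      obtain ⟨e, he⟩ := Nat.exists_eq_add_of_le hk
      rw [he, pow_add, hNd, zero_mul]
    rw [this, zero_add]
  have hdvd : orderOf u ∣ p ^ Nat.clog p d := orderOf_dvd_of_pow_eq_one h1
  refine ⟨Nat.le_of_dvd (pow_pos hp.pos _) hdvd, ?_⟩
  intro hne
  obtain ⟨j, hj, hoj⟩ := (Nat.dvd_prime_pow hp).mp hdvd
  rw [hoj]
  congr 1
  by_contra hjk
  have hlt : j < Nat.clog p d := lt_of_le_of_ne hj hjk
  have hpj : p ^ j < d := by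
    by_contra hcon
    push Not at hcon
    have := (Nat.clog_le_iff_le_pow hp.one_lt).mpr hcon
    omega
  have h2 : u ^ (p ^ j) = 1 := by rw [← hoj]; exact pow_orderOf_eq_one u
  have h3 := congrArg Units.val h2
  rw [hpow, Units.val_one] at h3
  have h4 : N ^ (p ^ j) = 0 := by
    have := congrArg (fun M => M - 1) h3
    simpa using this
  apply hne
  obtain ⟨e, he⟩ := Nat.exists_eq_add_of_le (show p ^ j ≤ d - 1 by omega)
  rw [he, pow_add, h4, zero_mul]


end Cfsg.Agent.Lib.Helper4_Unipotent
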