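import Mathlib
import Cfsg.Agent.Lib.Helper4_Unipotent

namespace Cfsg.Agent.Lib.Helper4_Jordan

open Matrix

variable {F : Type*} [Field F]

/-- the nilpotent Jordan block -/
def jordanN (F : Type*) [Field F] (m : ℕ) : Matrix (Fin m) (Fin m) F :=
  Matrix.of (fun i j : Fin m => if (i : ℕ) + 1 = (j : ℕ) then (1 : F) else 0)

theorem jordanN_pow (m k : ℕ) :
    (jordanN F m) ^ k = Matrix.of (fun i j : Fin m => if (i : ℕ) + k = (j : ℕ) then (1 : F) else 0) := by
  induction k with
  | zero =>
    ext i j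
    rw [pow_zero, Matrix.one_apply, Matrix.of_apply]
    simp only [add_zero, Fin.ext_iff]
  | succ k ih =>
    rw [pow_succ, ih]
    ext i j
    rw [Matrix.mul_apply, Matrix.of_apply]
    by_cases h : (i : ℕ) + (k + 1) = (j : ℕ)
    · rw [if_pos h]
      have hlt : (i : ℕ) + k < m := by have := j.2; omega
      rw [Finset.sum_eq_single (⟨(i : ℕ) + k, hlt⟩ : Fin m)]
      · simp only [Matrix.of_apply, jordanN]
        rw [if_pos trivial, if_pos (by omega), mul_one]
      · intro l _ hl
        simp only [Matrix.of_apply]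
        rw [if_neg, zero_mul]
        intro h2
        apply hl
        exact Fin.ext h2.symm
      · intro h2; exact absurd (Finset.mem_univ _) h2
    · rw [if_neg h]
      apply Finset.sum_eq_zero
      intro l _
      simp only [Matrix.of_apply, jordanN]
      by_cases h1 : (i : ℕ) + k = (l : ℕ)
      · rw [if_pos h1, if_neg (by omega), mul_zero]
      · rw [if_neg h1, zero_mul]

theorem jordanN_nilpotent (m : ℕ) : IsNilpotent (jordanN F m) := by
  refine ⟨m, ?_⟩
  rw [jordanN_pow]
  ext i j
  rw [Matrix.of_apply, if_neg, Matrix.zero_apply]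
  have := j.2
  omega

theorem jordanN_pow_pred_ne_zero (m : ℕ) (hm : 1 ≤ m) : (jordanN F m) ^ (m - 1) ≠ 0 := by
  intro h
  rw [jordanN_pow] at h
  have := congrFun (congrFun h ⟨0, by omega⟩) ⟨m - 1, by omega⟩
  rw [Matrix.of_apply, if_pos (by simp), Matrix.zero_apply] at this
  exact one_ne_zero this

theorem p_elements_GL [Fintype F] (p : ℕ) [Fact p.Prime] [CharP F p] (m : ℕ) (hm : 1 ≤ m) :
    (∀ g : Matrix.GeneralLinearGroup (Fin m) F, (∃ j : ℕ, orderOf g = p ^ j) → orderOf g < p * m) ∧
      ∃ g : Matrix.GeneralLinearGroup (Fin m) F, (∃ j : ℕ, orderOf g = p ^ j) ∧ m ≤ orderOf g := by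
  have hp : p.Prime := Fact.out
  have : NeZero m := ⟨by omega⟩
  constructor
  · rintro g ⟨j, hj⟩
    have hnil : IsNilpotent ((g : Matrix (Fin m) (Fin m) F) - 1) := by
      refine ⟨p ^ j, ?_⟩
      rw [sub_pow_char_pow_of_commute p j (Commute.one_right _), one_pow, sub_eq_zero,
        ← Units.val_pow_eq_pow_val, ← hj, pow_orderOf_eq_one]
      rfl
    have h1 := (Cfsg.Agent.Lib.Helper4_Unipotent.unipotent_order p m g hnil).1
    refine lt_of_le_of_lt h1 ?_
    rcases Nat.lt_or_ge 1 m with hm1 | hm1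
    · have h2 := Nat.pow_pred_clog_lt_self hp.one_lt hm1
      have h3 := Nat.clog_pos hp.one_lt hm1
      obtain ⟨c, hc⟩ := Nat.exists_eq_succ_of_ne_zero h3.ne'
      rw [hc, Nat.pred_succ] at h2
      rw [hc, pow_succ, mul_comm]
      exact Nat.mul_lt_mul_of_pos_left h2 hp.pos
    · have hm' : m = 1 := by omega
      rw [hm']
      simp only [Nat.clog_one_right, pow_zero, mul_one]
      exact hp.one_lt
  · have hunit : IsUnit (1 + jordanN F m) := (jordanN_nilpotent m).isUnit_one_add
    set u : GL (Fin m) F := hunit.unit with hu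
    have huval : (u : Matrix (Fin m) (Fin m) F) = 1 + jordanN F m := hunit.unit_spec
    have hsub : (u : Matrix (Fin m) (Fin m) F) - 1 = jordanN F m := by rw [huval]; abel
    have hnil : IsNilpotent ((u : Matrix (Fin m) (Fin m) F) - 1) := by
      rw [hsub]; exact jordanN_nilpotent m
    have h1 := (Cfsg.Agent.Lib.Helper4_Unipotent.unipotent_order p m u hnil).2
      (by rw [hsub]; exact jordanN_pow_pred_ne_zero m hm)
    refine ⟨u, ⟨_, h1⟩, ?_⟩
    rw [h1]
    exact Nat.le_pow_clog hp.one_lt m


end Cfsg.Agent.Lib.Helper4_Jordan
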