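import Mathlib
import Cfsg.Prelude.Def_LocalStructure
import Cfsg.Agent.Lib.Helper4_Kieler0

namespace Cfsg.Agent.Lib.Helper4_Kieler1
open Cfsg Cfsg.Agent.Lib.Helper4_PReduced4 Cfsg.Agent.Lib.Helper4_PReduced7
  Cfsg.Agent.Lib.Helper4_OrbitProd Cfsg.Agent.Lib.Helper4_Coprime Cfsg.Agent.Lib.Helper4_Trace
  Cfsg.Agent.Lib.Helper4_Amalgam4 Cfsg.Agent.Lib.Helper4_PIrred Cfsg.Agent.Lib.Helper4_Stab
  Cfsg.Agent.Lib.Helper4_Subnormal Cfsg.Agent.Lib.Helper4_SubnormalClosure
  Cfsg.Agent.Lib.Helper4_Kieler0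
open scoped commutatorElement

variable {G : Type*} [Group G]

theorem kieler_part1 [Finite G] {p : ℕ} [Fact p.Prime] (K L T' Q : Subgroup G)
    (hLK : L ≤ K) (hKL : K ≤ Subgroup.normalizer (L : Set G))
    (hTK : T' ≤ K) (hTp : IsPGroup p T') (hidx : ¬ p ∣ T'.relIndex K)
    (hQT : Q ≤ T') (hKQ : K ≤ Subgroup.normalizer (Q : Set G))
    (hcharK : K ⊓ Subgroup.centralizer (Q : Set G) ≤ Q) :
    ∀ g ∈ L, (∀ z ∈ omegaOne p ((T' ⊓ L) ⊓ Subgroup.centralizer ((T' ⊓ L : Subgroup G) : Set G)),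
      g * z = z * g) →
      ∀ a ∈ omegaOne p (T' ⊓ Subgroup.centralizer (T' : Set G)), g * a = a * g := by
  have hp : p.Prime := Fact.out
  intro g hgL hg a ha
  set S := T' ⊓ L with hS
  set ZS := omegaOne p (S ⊓ Subgroup.centralizer (S : Set G)) with hZS
  set ZT := omegaOne p (T' ⊓ Subgroup.centralizer (T' : Set G)) with hZT
  set N := omegaOne p (Q ⊓ Subgroup.centralizer (Q : Set G)) with hN
  set B := L ⊓ Subgroup.centralizer (ZS : Set G) with hB
  have hgB : g ∈ B := by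
    rw [hB, Subgroup.mem_inf, Subgroup.mem_centralizer_iff]
    exact ⟨hgL, fun z hz => (hg z hz).symm⟩
  obtain ⟨haZ, hap⟩ := mem_omegaOne_center p T' a ha
  rw [Subgroup.mem_inf] at haZ
  have haT : a ∈ T' := haZ.1
  have haC := Subgroup.mem_centralizer_iff.mp haZ.2
  -- a ∈ N
  have haN : a ∈ N := by
    apply mem_omegaOneCenter p Q a
    · apply hcharK
      rw [Subgroup.mem_inf, Subgroup.mem_centralizer_iff]
      exact ⟨hTK haT, fun q hq => haC q (hQT hq)⟩
    · intro q hq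
      exact haC q (hQT hq)
    · exact hap
  -- normalizing facts
  have hKconjL : ∀ k ∈ K, ∀ l ∈ L, k * l * k⁻¹ ∈ L := fun k hk l hl =>
    (Subgroup.mem_normalizer_iff.mp (hKL hk) l).mp hl
  have hTS : T' ≤ Subgroup.normalizer (S : Set G) := by
    apply le_normalizer_of_conj_mem'
    intro t ht s hs
    rw [hS, Subgroup.mem_inf] at hs ⊢
    exact ⟨T'.mul_mem (T'.mul_mem ht hs.1) (T'.inv_mem ht), hKconjL t (hTK ht) s hs.2⟩
  have hTZS : ∀ t ∈ T', ∀ z ∈ ZS, t * z * t⁻¹ ∈ ZS := fun t ht =>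
    omegaOneCenter_conj_mem p S t (hTS ht)
  have hTB : T' ≤ Subgroup.normalizer (B : Set G) := by
    apply le_normalizer_of_conj_mem'
    intro t ht b hb
    rw [hB, Subgroup.mem_inf] at hb ⊢
    refine ⟨hKconjL t (hTK ht) b hb.1, ?_⟩
    apply conj_mem_centralizer ZS t b _ hb.2
    intro z hz
    have := hTZS t⁻¹ (T'.inv_mem ht) z hz
    simpa using this
  have hSB : S ≤ B := by
    intro s hs
    rw [hB, Subgroup.mem_inf, Subgroup.mem_centralizer_iff]
    refine ⟨(Subgroup.mem_inf.mp hs).2, ?_⟩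
    intro z hz
    obtain ⟨hz1, -⟩ := mem_omegaOne_center p S z hz
    rw [Subgroup.mem_inf] at hz1
    exact (Subgroup.mem_centralizer_iff.mp hz1.2 s hs).symm
  have hBL : B ≤ L := inf_le_left
  have hBK : B ≤ K := hBL.trans hLK
  have hTBS : T' ⊓ B = S := by
    apply le_antisymm
    · intro x hx
      rw [Subgroup.mem_inf] at hx
      exact Subgroup.mem_inf.mpr ⟨hx.1, hBL hx.2⟩
    · intro x hx
      exact Subgroup.mem_inf.mpr ⟨(Subgroup.mem_inf.mp hx).1, hSB hx⟩
  have hn : ¬ p ∣ S.relIndex B := by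
    have := coprime_relIndex T' B K hTK hBK hTp hidx hTB
    rwa [hTBS] at this
  -- N normalized by K
  have hKN : ∀ k ∈ K, ∀ x ∈ N, k * x * k⁻¹ ∈ N := fun k hk =>
    omegaOneCenter_conj_mem p Q k (hKQ hk)
  have hNcomm : ∀ x ∈ N, ∀ y ∈ N, x * y = y * x := by
    intro x hx y hy
    have hx1 := (mem_omegaOne_center p Q x hx).1
    have hy1 := (mem_omegaOne_center p Q y hy).1
    rw [Subgroup.mem_inf] at hx1 hy1
    exact (Subgroup.mem_centralizer_iff.mp hy1.2 x hx1.1)
  have hNQ : N ≤ Q := fun x hx => (Subgroup.mem_inf.mp (mem_omegaOne_center p Q x hx).1).1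
  obtain ⟨u, huN, huB, w, hw, huw⟩ := orbit_product B N (fun b hb => hKN b (hBK hb)) hNcomm a haN
  set m := ((Subgroup.centralizer ({a} : Set G)).subgroupOf B).index with hm
  have hm' : ¬ p ∣ m := by
    intro h
    apply hn
    have h1 : (Subgroup.centralizer ({a} : Set G)).relIndex B ∣ S.relIndex B := by
      apply Subgroup.relIndex_dvd_of_le_left
      intro s hs
      rw [Subgroup.mem_centralizer_iff]
      intro x hx
      rw [Set.mem_singleton_iff.mp hx]
      exact (haC s (Subgroup.mem_inf.mp hs).1).symm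
    exact dvd_trans h h1
  -- w ∈ N ⊓ L
  have hwNL : w ∈ N ⊓ L := by
    have : ⁅B, N⁆ ≤ N ⊓ L := by
      rw [Subgroup.commutator_le]
      intro b hb x hx
      rw [commutatorElement_def, Subgroup.mem_inf]
      constructor
      · exact N.mul_mem (hKN b (hBK hb) x hx) (N.inv_mem hx)
      · have hxK : x ∈ K := hTK (hQT (hNQ hx))
        have := hKconjL x hxK b⁻¹ (L.inv_mem (hBL hb))
        have e : b * x * b⁻¹ * x⁻¹ = b * (x * b⁻¹ * x⁻¹) := by group
        rw [e]
        exact L.mul_mem (hBL hb) this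
    exact this hw
  rw [Subgroup.mem_inf] at hwNL
  -- w centralizes S
  have hw_eq : w = u * (a ^ m)⁻¹ := by rw [huw]; group
  have hwS : ∀ s ∈ S, s * w = w * s := by
    intro s hs
    have h1 : s * u = u * s := by
      have := huB s (hSB hs)
      calc s * u = (s * u * s⁻¹) * s := by group
        _ = u * s := by rw [this]
    have h2 : s * a = a * s := haC s (Subgroup.mem_inf.mp hs).1
    have h3 : Commute s (a ^ m)⁻¹ := ((show Commute s a from h2).pow_right m).inv_right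
    rw [hw_eq]
    exact ((show Commute s u from h1).mul_right h3).eq
  have hwZS : w ∈ ZS := by
    apply mem_omegaOneCenter p S w
    · rw [hS, Subgroup.mem_inf]
      exact ⟨hQT (hNQ hwNL.1), hwNL.2⟩
    · exact hwS
    · exact (mem_omegaOne_center p Q w hwNL.1).2
  have hgw : g * w = w * g := hg w hwZS
  have hgu : g * u = u * g := by
    have := huB g hgB
    calc g * u = (g * u * g⁻¹) * g := by group
      _ = u * g := by rw [this]
  have hgam : g * a ^ m = a ^ m * g := by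
    have e : a ^ m = w⁻¹ * u := by rw [huw]; group
    rw [e]
    exact ((show Commute g w from hgw).inv_right.mul_right (show Commute g u from hgu)).eq
  exact commute_of_pow g a m hap hm' hgam

theorem kieler_part2 [Finite G] {p : ℕ} [Fact p.Prime] (K L T' Q : Subgroup G)
    (hLK : L ≤ K) (hKL : K ≤ Subgroup.normalizer (L : Set G))
    (hTK : T' ≤ K) (hTp : IsPGroup p T') (hidx : ¬ p ∣ T'.relIndex K)
    (hQT : Q ≤ T') (hKQ : K ≤ Subgroup.normalizer (Q : Set G))
    (hcharL : L ⊓ Subgroup.centralizer ((Q ⊓ L : Subgroup G) : Set G) ≤ Q) :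
    ∀ g ∈ L, (∀ a ∈ omegaOne p (T' ⊓ Subgroup.centralizer (T' : Set G)), g * a = a * g) →
      ∀ z ∈ omegaOne p ((T' ⊓ L) ⊓ Subgroup.centralizer ((T' ⊓ L : Subgroup G) : Set G)),
        g * z = z * g := by
  have hp : p.Prime := Fact.out
  intro g hgL hg z hz
  set S := T' ⊓ L with hS
  set ZS := omegaOne p (S ⊓ Subgroup.centralizer (S : Set G)) with hZS
  set ZT := omegaOne p (T' ⊓ Subgroup.centralizer (T' : Set G)) with hZT
  set P := Q ⊓ L with hP
  set M := omegaOne p (P ⊓ Subgroup.centralizer (P : Set G)) with hM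
  set A := L ⊓ Subgroup.centralizer (ZT : Set G) with hA
  have hgA : g ∈ A := by
    rw [hA, Subgroup.mem_inf, Subgroup.mem_centralizer_iff]
    exact ⟨hgL, fun a ha => (hg a ha).symm⟩
  have hKconjL : ∀ k ∈ K, ∀ l ∈ L, k * l * k⁻¹ ∈ L := fun k hk l hl =>
    (Subgroup.mem_normalizer_iff.mp (hKL hk) l).mp hl
  have hKconjQ : ∀ k ∈ K, ∀ q ∈ Q, k * q * k⁻¹ ∈ Q := fun k hk q hq =>
    (Subgroup.mem_normalizer_iff.mp (hKQ hk) q).mp hq
  have hTS : T' ≤ Subgroup.normalizer (S : Set G) := by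
    apply le_normalizer_of_conj_mem'
    intro t ht s hs
    rw [hS, Subgroup.mem_inf] at hs ⊢
    exact ⟨T'.mul_mem (T'.mul_mem ht hs.1) (T'.inv_mem ht), hKconjL t (hTK ht) s hs.2⟩
  have hTconjS : ∀ t ∈ T', ∀ s ∈ S, t * s * t⁻¹ ∈ S := fun t ht s hs =>
    (Subgroup.mem_normalizer_iff.mp (hTS ht) s).mp hs
  have hKP : K ≤ Subgroup.normalizer (P : Set G) := by
    apply le_normalizer_of_conj_mem'
    intro k hk x hx
    rw [hP, Subgroup.mem_inf] at hx ⊢
    exact ⟨hKconjQ k hk x hx.1, hKconjL k hk x hx.2⟩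
  have hKM : ∀ k ∈ K, ∀ x ∈ M, k * x * k⁻¹ ∈ M := fun k hk =>
    omegaOneCenter_conj_mem p P k (hKP hk)
  have hTZT : ∀ t ∈ T', ∀ a ∈ ZT, t * a * t⁻¹ ∈ ZT := fun t ht =>
    omegaOneCenter_conj_mem p T' t (Subgroup.le_normalizer ht)
  have hTconjA : ∀ t ∈ T', ∀ a ∈ A, t * a * t⁻¹ ∈ A := by
    intro t ht b hb
    rw [hA, Subgroup.mem_inf] at hb ⊢
    refine ⟨hKconjL t (hTK ht) b hb.1, ?_⟩
    apply conj_mem_centralizer ZT t b _ hb.2
    intro z hz
    have := hTZT t⁻¹ (T'.inv_mem ht) z hz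
    simpa using this
  have hTA : T' ≤ Subgroup.normalizer (A : Set G) := le_normalizer_of_conj_mem' _ _ hTconjA
  have hSA : S ≤ A := by
    intro s hs
    rw [hA, Subgroup.mem_inf, Subgroup.mem_centralizer_iff]
    refine ⟨(Subgroup.mem_inf.mp hs).2, ?_⟩
    intro a ha
    obtain ⟨ha1, -⟩ := mem_omegaOne_center p T' a ha
    rw [Subgroup.mem_inf] at ha1
    exact (Subgroup.mem_centralizer_iff.mp ha1.2 s (Subgroup.mem_inf.mp hs).1).symm
  have hAL : A ≤ L := inf_le_left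
  have hAK : A ≤ K := hAL.trans hLK
  have hTAS : T' ⊓ A = S := by
    apply le_antisymm
    · intro x hx
      rw [Subgroup.mem_inf] at hx
      exact Subgroup.mem_inf.mpr ⟨hx.1, hAL hx.2⟩
    · intro x hx
      exact Subgroup.mem_inf.mpr ⟨(Subgroup.mem_inf.mp hx).1, hSA hx⟩
  have hn : ¬ p ∣ S.relIndex A := by
    have := coprime_relIndex T' A K hTK hAK hTp hidx hTA
    rwa [hTAS] at this
  set n := S.relIndex A with hn_def
  have hMcomm : ∀ x ∈ M, ∀ y ∈ M, x * y = y * x := by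
    intro x hx y hy
    have hx1 := (mem_omegaOne_center p P x hx).1
    have hy1 := (mem_omegaOne_center p P y hy).1
    rw [Subgroup.mem_inf] at hx1 hy1
    exact (Subgroup.mem_centralizer_iff.mp hy1.2 x hx1.1)
  have hMP : M ≤ P := fun x hx => (Subgroup.mem_inf.mp (mem_omegaOne_center p P x hx).1).1
  have hPS : P ≤ S := by
    intro x hx
    rw [hP, Subgroup.mem_inf] at hx
    exact Subgroup.mem_inf.mpr ⟨hQT hx.1, hx.2⟩
  have hMp : ∀ x ∈ M, x ^ p = 1 := fun x hx => (mem_omegaOne_center p P x hx).2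
  -- ZS ≤ M
  have hZSM : ZS ≤ M := by
    intro y hy
    obtain ⟨hy1, hyp⟩ := mem_omegaOne_center p S y hy
    rw [Subgroup.mem_inf] at hy1
    have hyC := Subgroup.mem_centralizer_iff.mp hy1.2
    have hyL : y ∈ L := (Subgroup.mem_inf.mp hy1.1).2
    have hyQ : y ∈ Q := by
      apply hcharL
      rw [Subgroup.mem_inf, Subgroup.mem_centralizer_iff]
      exact ⟨hyL, fun x hx => hyC x (hPS hx)⟩
    apply mem_omegaOneCenter p P y (Subgroup.mem_inf.mpr ⟨hyQ, hyL⟩) _ hyp
    intro x hx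
    exact hyC x (hPS hx)
  obtain ⟨Tr, hTrM, hTrmul, hTrpow, hTrinv, hTrfix, hTrA, hTreq⟩ :=
    trace_exists A S M hSA (fun a ha => hKM a (hAK ha)) hMcomm
  have hTr1 : Tr 1 = 1 := by
    have := hTrpow 1 M.one_mem 0
    simpa using this
  -- the kernel
  let Kk : Subgroup G :=
    { carrier := {w | w ∈ M ∧ (∀ s ∈ S, s * w = w * s) ∧ Tr w = 1}
      mul_mem' := by
        rintro x y ⟨hx1, hx2, hx3⟩ ⟨hy1, hy2, hy3⟩
        refine ⟨M.mul_mem hx1 hy1, ?_, ?_⟩
        · intro s hs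
          exact ((show Commute s x from hx2 s hs).mul_right (show Commute s y from hy2 s hs)).eq
        · rw [hTrmul x hx1 y hy1, hx3, hy3, one_mul]
      one_mem' := ⟨M.one_mem, fun s _ => by simp, hTr1⟩
      inv_mem' := by
        rintro x ⟨hx1, hx2, hx3⟩
        refine ⟨M.inv_mem hx1, ?_, ?_⟩
        · intro s hs
          exact ((show Commute s x from hx2 s hs).inv_right).eq
        · rw [hTrinv x hx1, hx3, inv_one] }
  have hKk_mem : ∀ w, w ∈ Kk ↔ w ∈ M ∧ (∀ s ∈ S, s * w = w * s) ∧ Tr w = 1 := fun w => Iff.rfl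
  have hKkT : Kk ≤ T' := fun w hw => (Subgroup.mem_inf.mp (hPS (hMP ((hKk_mem w).mp hw).1))).1
  -- T' normalizes Kk
  have hTKk : ∀ t ∈ T', ∀ w ∈ Kk, t * w * t⁻¹ ∈ Kk := by
    intro t ht w hw
    rw [hKk_mem] at hw ⊢
    obtain ⟨hw1, hw2, hw3⟩ := hw
    have hS' : ∀ s ∈ S, t⁻¹ * s * t ∈ S := by
      intro s hs
      have := hTconjS t⁻¹ (T'.inv_mem ht) s hs
      simpa using this
    refine ⟨hKM t (hTK ht) w hw1, ?_, ?_⟩
    · intro s hs
      have := hw2 _ (hS' s hs)
      calc s * (t * w * t⁻¹) = t * ((t⁻¹ * s * t) * w) * t⁻¹ := by group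
        _ = t * (w * (t⁻¹ * s * t)) * t⁻¹ := by rw [this]
        _ = _ := by group
    · rw [hTreq t (hTconjA t ht) (hTconjS t ht) hS' (hKM t (hTK ht)) w hw1 hw2, hw3]
      group
  -- Kk ⊓ C(A) is trivial
  have hKkA : ∀ w ∈ Kk, (∀ a ∈ A, a * w = w * a) → w = 1 := by
    intro w hw hwA
    rw [hKk_mem] at hw
    have h1 := hTrfix w hw.1 hwA
    rw [hw.2.2] at h1
    have h2 : orderOf w ∣ n := orderOf_dvd_of_pow_eq_one h1.symm
    have h3 : orderOf w ∣ p := orderOf_dvd_of_pow_eq_one (hMp w hw.1)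
    rcases (Nat.dvd_prime hp).mp h3 with h | h
    · exact orderOf_eq_one_iff.mp h
    · rw [h] at h2; exact absurd h2 hn
  -- Kk = ⊥
  have hKkbot : Kk = ⊥ := by
    by_contra hne
    have : Finite ↥T' := inferInstance
    have : Group.IsNilpotent ↥T' := hTp.isNilpotent
    have hnormal : (Kk.subgroupOf T').Normal := by
      rw [Subgroup.normal_subgroupOf_iff_le_normalizer hKkT]
      exact le_normalizer_of_conj_mem' _ _ hTKk
    have hne' : Kk.subgroupOf T' ≠ ⊥ := by
      intro h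
      apply hne
      rw [eq_bot_iff]
      intro w hw
      have : (⟨w, hKkT hw⟩ : T') ∈ Kk.subgroupOf T' := Subgroup.mem_subgroupOf.mpr hw
      rw [h, Subgroup.mem_bot] at this
      rw [Subgroup.mem_bot]
      exact congrArg Subtype.val this
    obtain ⟨k, hk1, hk2, hk3⟩ := normal_inf_center_ne_bot' (Kk.subgroupOf T') hne'
    rw [Subgroup.mem_subgroupOf] at hk1
    apply hk3
    apply Subtype.ext
    show (k : G) = 1
    apply hKkA _ hk1
    -- k ∈ ZT
    have hkZT : (k : G) ∈ ZT := by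
      apply mem_omegaOneCenter p T' _ k.2
      · intro x hx
        have := Subgroup.mem_center_iff.mp hk2 ⟨x, hx⟩
        exact congrArg Subtype.val this
      · exact hMp _ ((hKk_mem _).mp hk1).1
    intro a ha
    rw [hA, Subgroup.mem_inf] at ha
    exact (Subgroup.mem_centralizer_iff.mp ha.2 _ hkZT).symm
  -- now z
  have hzM : z ∈ M := hZSM hz
  have hzS : ∀ s ∈ S, s * z = z * s := by
    intro s hs
    obtain ⟨hz1, -⟩ := mem_omegaOne_center p S z hz
    rw [Subgroup.mem_inf] at hz1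
    exact Subgroup.mem_centralizer_iff.mp hz1.2 s hs
  have hTrzA := hTrA z hzM hzS
  have hTrzM := hTrM z hzM
  have hw' : z ^ n * (Tr z)⁻¹ ∈ Kk := by
    rw [hKk_mem]
    refine ⟨M.mul_mem (M.pow_mem hzM n) (M.inv_mem hTrzM), ?_, ?_⟩
    · intro s hs
      have h1 : Commute s (z ^ n) := (show Commute s z from hzS s hs).pow_right n
      have h2 : Commute s (Tr z)⁻¹ := (show Commute s (Tr z) from hTrzA s (hSA hs)).inv_right
      exact (h1.mul_right h2).eq
    · rw [hTrmul _ (M.pow_mem hzM n) _ (M.inv_mem hTrzM), hTrpow z hzM n, hTrinv _ hTrzM,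
        hTrfix (Tr z) hTrzM hTrzA, mul_inv_cancel]
  rw [hKkbot, Subgroup.mem_bot] at hw'
  have hzn : z ^ n = Tr z := by
    have := congrArg (fun x => x * Tr z) hw'
    simpa using this
  have hgzn : g * z ^ n = z ^ n * g := by
    rw [hzn]; exact hTrzA g hgA
  exact commute_of_pow g z n (hMp z hzM) hn hgzn

end Cfsg.Agent.Lib.Helper4_Kieler1
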