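import Mathlib
import Cfsg.Prelude.Def_LocalStructure
import Cfsg.Agent.Lib.Helper4_Kieler1

namespace Cfsg.Agent.Lib.Helper4_Kieler2
open Cfsg Cfsg.Agent.Lib.Helper4_PReduced4 Cfsg.Agent.Lib.Helper4_PReduced7
  Cfsg.Agent.Lib.Helper4_OrbitProd Cfsg.Agent.Lib.Helper4_Coprime Cfsg.Agent.Lib.Helper4_Trace
  Cfsg.Agent.Lib.Helper4_Amalgam4 Cfsg.Agent.Lib.Helper4_PIrred Cfsg.Agent.Lib.Helper4_Stab
  Cfsg.Agent.Lib.Helper4_Subnormal Cfsg.Agent.Lib.Helper4_SubnormalClosure
  Cfsg.Agent.Lib.Helper4_Kieler0 Cfsg.Agent.Lib.Helper4_Kieler1 Cfsg.Agent.Lib.Helper4_PCore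
open scoped commutatorElement

variable {G : Type*} [Group G]

theorem kieler_normal [Finite G] {p : ℕ} [Fact p.Prime] (K L T' Q : Subgroup G)
    (hLK : L ≤ K) (hKL : K ≤ Subgroup.normalizer (L : Set G))
    (hTK : T' ≤ K) (hTp : IsPGroup p T') (hidx : ¬ p ∣ T'.relIndex K)
    (hQT : Q ≤ T') (hKQ : K ≤ Subgroup.normalizer (Q : Set G))
    (hcharK : K ⊓ Subgroup.centralizer (Q : Set G) ≤ Q)
    (hcharL : L ⊓ Subgroup.centralizer ((Q ⊓ L : Subgroup G) : Set G) ≤ Q) :
    L ⊓ Subgroup.centralizer (omegaOne p (T' ⊓ Subgroup.centralizer (T' : Set G)) : Set G) =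
    L ⊓ Subgroup.centralizer (omegaOne p ((T' ⊓ L) ⊓
      Subgroup.centralizer ((T' ⊓ L : Subgroup G) : Set G)) : Set G) := by
  apply le_antisymm
  · intro g hg
    rw [Subgroup.mem_inf, Subgroup.mem_centralizer_iff] at hg ⊢
    refine ⟨hg.1, ?_⟩
    intro z hz
    exact (kieler_part2 K L T' Q hLK hKL hTK hTp hidx hQT hKQ hcharL g hg.1
      (fun a ha => (hg.2 a ha).symm) z hz).symm
  · intro g hg
    rw [Subgroup.mem_inf, Subgroup.mem_centralizer_iff] at hg ⊢
    refine ⟨hg.1, ?_⟩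
    intro z hz
    exact (kieler_part1 K L T' Q hLK hKL hTK hTp hidx hQT hKQ hcharK g hg.1
      (fun a ha => (hg.2 a ha).symm) z hz).symm

/-- characteristic `p` passes to normal subgroups (relative form). -/
theorem charp_normal [Finite G] {p : ℕ} [Fact p.Prime] (K L : Subgroup G)
    (hLK : L ≤ K) (hKL : K ≤ Subgroup.normalizer (L : Set G)) (hK : K.IsSubnormal)
    (hcharK : K ⊓ Subgroup.centralizer ((pCore p G ⊓ K : Subgroup G) : Set G) ≤ pCore p G) :
    L ⊓ Subgroup.centralizer ((pCore p G ⊓ L : Subgroup G) : Set G) ≤ pCore p G := by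
  have hp : p.Prime := Fact.out
  set Q := pCore p G with hQ
  have hQn : Q.Normal := Cfsg.pCore_normal p G
  have hQp : IsPGroup p Q := pCore_isPGroup
  set D := L ⊓ Subgroup.centralizer ((Q ⊓ L : Subgroup G) : Set G) with hD
  have hKconjL : ∀ k ∈ K, ∀ l ∈ L, k * l * k⁻¹ ∈ L := fun k hk l hl =>
    (Subgroup.mem_normalizer_iff.mp (hKL hk) l).mp hl
  have hQorder : ∀ z ∈ Q, ∃ k : ℕ, orderOf z = p ^ k := by
    intro z hz
    obtain ⟨k, hk⟩ := (IsPGroup.iff_orderOf.mp hQp) ⟨z, hz⟩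
    exact ⟨k, by rw [← hk]; exact (Subgroup.orderOf_mk z hz).symm⟩
  have hDp : IsPGroup p D := by
    apply isPGroup_of_pPrime_trivial
    intro x hxD hx
    rw [hD, Subgroup.mem_inf] at hxD
    have hxC := Subgroup.mem_centralizer_iff.mp hxD.2
    have h1 := stab_step x hx (Q ⊓ K) (Q ⊓ L) (by
      intro r hr
      rw [Subgroup.mem_inf] at hr ⊢
      rw [commutatorElement_def]
      constructor
      · have := hQn.conj_mem r⁻¹ (Q.inv_mem hr.1) x
        have e : r * x * r⁻¹ * x⁻¹ = r * (x * r⁻¹ * x⁻¹) := by group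
        rw [e]; exact Q.mul_mem hr.1 this
      · exact L.mul_mem (hKconjL r hr.2 x hxD.1) (L.inv_mem hxD.1))
      (fun z hz => (hxC z hz).symm)
      (fun z hz => hQorder z (Subgroup.mem_inf.mp hz).1)
    have hxQ : x ∈ Q := by
      apply hcharK
      rw [Subgroup.mem_inf, Subgroup.mem_centralizer_iff]
      exact ⟨hLK hxD.1, fun r hr => (h1 r hr).symm⟩
    obtain ⟨k, hk⟩ := hQorder x hxQ
    exact eq_one_of_coprime_of_pow x hx k hk
  have hDK : D ≤ K := inf_le_left.trans hLK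
  have hKD : K ≤ Subgroup.normalizer (D : Set G) := by
    apply le_normalizer_of_conj_mem'
    intro k hk d hd
    rw [hD, Subgroup.mem_inf] at hd ⊢
    refine ⟨hKconjL k hk d hd.1, ?_⟩
    apply conj_mem_centralizer _ k d _ hd.2
    intro z hz
    rw [Subgroup.mem_inf] at hz ⊢
    constructor
    · have := hQn.conj_mem z hz.1 k⁻¹
      simpa using this
    · have := hKconjL k⁻¹ (K.inv_mem hk) z hz.2
      simpa using this
  have hDsub : D.IsSubnormal := isSubnormal_of_normal_in K D hK hDK hKD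
  exact subnormal_pGroup_le_pCore D hDsub hDp

theorem kieler_main [Finite G] {p : ℕ} [Fact p.Prime]
    (hH : Subgroup.centralizer (Cfsg.pCore p G : Set G) ≤ Cfsg.pCore p G) (T : Sylow p G)
    (L : Subgroup G) (hL : L.IsSubnormal) :
    L ⊓ Subgroup.centralizer ((pCore p G ⊓ L : Subgroup G) : Set G) ≤ pCore p G ∧
    ¬ p ∣ ((T : Subgroup G) ⊓ L).relIndex L ∧
    L ⊓ Subgroup.centralizer ((Cfsg.omegaOne p ((T : Subgroup G) ⊓
      Subgroup.centralizer ((T : Subgroup G) : Set G))) : Set G) =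
    L ⊓ Subgroup.centralizer ((Cfsg.omegaOne p (((T : Subgroup G) ⊓ L) ⊓
      Subgroup.centralizer ((((T : Subgroup G) ⊓ L) : Subgroup G) : Set G))) : Set G) := by
  have hp : p.Prime := Fact.out
  have hQn : (pCore p G).Normal := Cfsg.pCore_normal p G
  have hQT : pCore p G ≤ (T : Subgroup G) := pCore_le_sylow T
  induction hL with
  | top =>
    refine ⟨?_, ?_, ?_⟩
    · rw [inf_top_eq, top_inf_eq]; exact hH
    · rw [inf_top_eq, Subgroup.relIndex_top_right]
      exact T.not_dvd_index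
    · rw [inf_top_eq]
  | step L K' h_le hSubn hN ih =>
    obtain ⟨ih1, ih2, ih3⟩ := ih
    have hKL : K' ≤ Subgroup.normalizer (L : Set G) :=
      (Subgroup.normal_subgroupOf_iff_le_normalizer h_le).mp hN
    have hKconjL : ∀ k ∈ K', ∀ l ∈ L, k * l * k⁻¹ ∈ L := fun k hk l hl =>
      (Subgroup.mem_normalizer_iff.mp (hKL hk) l).mp hl
    have c1 := charp_normal K' L h_le hKL hSubn ih1
    have hTK'L : ((T : Subgroup G) ⊓ K') ⊓ L = (T : Subgroup G) ⊓ L := by
      rw [inf_assoc, inf_of_le_right h_le]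
    have hT'norm : (T : Subgroup G) ⊓ K' ≤ Subgroup.normalizer (L : Set G) :=
      inf_le_right.trans hKL
    have c2 : ¬ p ∣ ((T : Subgroup G) ⊓ L).relIndex L := by
      have := coprime_relIndex ((T : Subgroup G) ⊓ K') L K' inf_le_right h_le
        (T.isPGroup'.to_inf_left) ih2 hT'norm
      rwa [hTK'L] at this
    refine ⟨c1, c2, ?_⟩
    have hQK'L : (pCore p G ⊓ K') ⊓ L = pCore p G ⊓ L := by
      rw [inf_assoc, inf_of_le_right h_le]
    have key := kieler_normal (p := p) K' L ((T : Subgroup G) ⊓ K') (pCore p G ⊓ K') h_le hKL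
      inf_le_right (T.isPGroup'.to_inf_left) ih2 (inf_le_inf_right K' hQT)
      (by
        apply le_normalizer_of_conj_mem'
        intro k hk x hx
        rw [Subgroup.mem_inf] at hx ⊢
        exact ⟨hQn.conj_mem x hx.1 k, K'.mul_mem (K'.mul_mem hk hx.2) (K'.inv_mem hk)⟩)
      (by
        intro x hx
        exact Subgroup.mem_inf.mpr ⟨ih1 hx, (Subgroup.mem_inf.mp hx).1⟩)
      (by
        rw [hQK'L]
        intro x hx
        exact Subgroup.mem_inf.mpr ⟨c1 hx, h_le (Subgroup.mem_inf.mp hx).1⟩)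
    rw [hTK'L] at key
    rw [← key]
    -- L ⊓ C(Z_T) = L ⊓ C(Z_{T ⊓ K'})
    have e1 : ∀ X : Subgroup G, L ⊓ X = L ⊓ (K' ⊓ X) := by
      intro X
      rw [← inf_assoc, inf_of_le_left h_le]
    rw [e1, ih3, ← e1]

end Cfsg.Agent.Lib.Helper4_Kieler2
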