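import Mathlib
import Cfsg.Agent.Lib.Helper5_KleinSub
import Cfsg.Agent.Lib.Helper5_NormalFour

set_option autoImplicit false

/-! The action of `N(U)` on a four-group `U` (helper5). -/

namespace Cfsg.Agent.Lib.Helper5_FourFix

open Subgroup Cfsg.Agent.Lib.Helper5_KleinSub

variable {G : Type*} [Group G] [Finite G]

/-- Elements of a four-group. -/
theorem four_mem (U : Subgroup G) (hU4 : Nat.card U = 4) (hU2 : ∀ x ∈ U, x ^ 2 = 1)
    (z : G) (hz : z ∈ U) (hz1 : z ≠ 1) :
    ∃ t ∈ U, t ≠ 1 ∧ t ≠ z ∧ z * t = t * z ∧ t * t = 1 ∧ z * z = 1 ∧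
      ∀ x ∈ U, x = 1 ∨ x = z ∨ x = t ∨ x = z * t := by
  have hsq : ∀ x ∈ U, x * x = 1 := fun x hx => by rw [← pow_two]; exact hU2 x hx
  have hcomm := Cfsg.Agent.Lib.Helper5_NormalFour.comm_of_sq U hsq
  obtain ⟨t, htU, htz⟩ : ∃ t ∈ U, t ∉ zpowers z := by
    by_contra hno
    push_neg at hno
    have h1 := Subgroup.card_le_of_le (show U ≤ zpowers z from hno)
    rw [hU4, Nat.card_zpowers] at h1
    have h2 : orderOf z ∣ 2 := orderOf_dvd_of_pow_eq_one (hU2 z hz)
    have := Nat.le_of_dvd (by norm_num) h2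
    omega
  have ht1 : t ≠ 1 := fun h => htz (h ▸ one_mem _)
  have htz' : t ≠ z := fun h => htz (h ▸ mem_zpowers _)
  have hzt : z * t = t * z := hcomm z hz t htU
  refine ⟨t, htU, ht1, htz', hzt, hsq t htU, hsq z hz, ?_⟩
  have hUeq : U = kleinSub z t (hsq z hz) (hsq t htU) hzt := by
    symm
    apply Subgroup.eq_of_le_of_card_ge
    · intro x hx
      rcases mem_kleinSub.mp hx with rfl | rfl | rfl | rfl
      · exact one_mem _
      · exact hz
      · exact htU
      · exact mul_mem hz htU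
    · rw [hU4, card_kleinSub z t _ _ _ hz1 ht1 (Ne.symm htz')]
  intro x hx
  rw [hUeq] at hx
  exact mem_kleinSub.mp hx

/-- If every element of `N(U)` fixes `z ∈ U \\ 1`, then `|N(U) : C(U)| ≤ 2`. -/
theorem relIndex_le_two (U : Subgroup G) (hU4 : Nat.card U = 4) (hU2 : ∀ x ∈ U, x ^ 2 = 1)
    (z : G) (hz : z ∈ U) (hz1 : z ≠ 1)
    (hfix : ∀ n ∈ normalizer (U : Set G), n * z * n⁻¹ = z) :
    (centralizer (U : Set G)).relIndex (normalizer (U : Set G)) ≤ 2 := by
  obtain ⟨t, htU, ht1, htz, hzt, htt, hzz, hUmem⟩ := four_mem U hU4 hU2 z hz hz1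
  have hcinj : ∀ (n y y' : G), n * y * n⁻¹ = n * y' * n⁻¹ → y = y' := by
    intro n y y' h
    exact mul_left_cancel (mul_right_cancel h)
  have hNt : ∀ n ∈ normalizer (U : Set G), n * t * n⁻¹ = t ∨ n * t * n⁻¹ = z * t := by
    intro n hn
    have h1 : n * t * n⁻¹ ∈ U := (mem_normalizer_iff.mp hn t).mp htU
    rcases hUmem _ h1 with h | h | h | h
    · exfalso
      apply ht1
      apply hcinj n
      rw [h]; group
    · exfalso
      apply htz
      apply hcinj n
      rw [h, hfix n hn]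
    · left; exact h
    · right; exact h
  have hC : ∀ n ∈ normalizer (U : Set G), n * t * n⁻¹ = t → n ∈ centralizer (U : Set G) := by
    intro n hn hnt
    have hnz := hfix n hn
    have c1 : z * n = n * z := by
      calc z * n = (n * z * n⁻¹) * n := by rw [hnz]
        _ = n * z := by group
    have c2 : t * n = n * t := by
      calc t * n = (n * t * n⁻¹) * n := by rw [hnt]
        _ = n * t := by group
    rw [mem_centralizer_iff]
    intro x hx
    rcases hUmem x hx with rfl | rfl | rfl | rfl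
    · simp
    · exact c1
    · exact c2
    · rw [mul_assoc, c2, ← mul_assoc, c1, mul_assoc]
  have hC' : ∀ n ∈ centralizer (U : Set G), n * t * n⁻¹ = t := by
    intro n hn
    have := (mem_centralizer_iff.mp hn) t htU
    rw [← this]; group
  by_cases hall : ∀ n ∈ normalizer (U : Set G), n ∈ centralizer (U : Set G)
  · have : (centralizer (U : Set G)).relIndex (normalizer (U : Set G)) = 1 := by
      rw [Subgroup.relIndex_eq_one]
      exact hall
    omega
  · push_neg at hall
    obtain ⟨n₀, hn₀N, hn₀C⟩ := hall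
    have hn₀t : n₀ * t * n₀⁻¹ = z * t := by
      rcases hNt n₀ hn₀N with h | h
      · exact absurd (hC n₀ hn₀N h) hn₀C
      · exact h
    have hn₀t' : n₀⁻¹ * t * n₀ = z * t := by
      have hn₀z : n₀⁻¹ * z * n₀ = z := by
        have := hfix n₀ hn₀N
        calc n₀⁻¹ * z * n₀ = n₀⁻¹ * (n₀ * z * n₀⁻¹) * n₀ := by rw [this]
          _ = z := by group
      have h1 : t = n₀⁻¹ * (z * t) * n₀ := by rw [← hn₀t]; group
      have h2 : n₀⁻¹ * (z * t) * n₀ = (n₀⁻¹ * z * n₀) * (n₀⁻¹ * t * n₀) := by group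
      rw [h2, hn₀z] at h1
      calc n₀⁻¹ * t * n₀ = (z * z) * (n₀⁻¹ * t * n₀) := by rw [hzz, one_mul]
        _ = z * (z * (n₀⁻¹ * t * n₀)) := by group
        _ = z * t := by rw [← h1]
    have : (centralizer (U : Set G)).relIndex (normalizer (U : Set G)) = 2 := by
      show ((centralizer (U : Set G)).subgroupOf (normalizer (U : Set G))).index = 2
      rw [Subgroup.index_eq_two_iff]
      refine ⟨⟨n₀⁻¹, inv_mem hn₀N⟩, ?_⟩
      rintro ⟨b, hb⟩
      simp only [Subgroup.mem_subgroupOf, Subgroup.coe_mul]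
      by_cases hbC : b ∈ centralizer (U : Set G)
      · right
        refine ⟨hbC, fun h => hn₀C ?_⟩
        have : n₀ = (b * n₀⁻¹)⁻¹ * b := by group
        rw [this]
        exact mul_mem (inv_mem h) hbC
      · left
        refine ⟨?_, hbC⟩
        have hbt : b * t * b⁻¹ = z * t := by
          rcases hNt b hb with h | h
          · exact absurd (hC b hb h) hbC
          · exact h
        apply hC _ (mul_mem hb (inv_mem hn₀N))
        calc b * n₀⁻¹ * t * (b * n₀⁻¹)⁻¹ = b * (n₀⁻¹ * t * n₀) * b⁻¹ := by group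
          _ = b * (z * t) * b⁻¹ := by rw [hn₀t']
          _ = (b * z * b⁻¹) * (b * t * b⁻¹) := by group
          _ = z * (z * t) := by rw [hfix b hb, hbt]
          _ = t := by rw [← mul_assoc, hzz, one_mul]
    omega

/-- If `|N(U) : C(U)| > 2`, every non-identity element of `U` is moved by `N(U)`. -/
theorem exists_move (U : Subgroup G) (hU4 : Nat.card U = 4) (hU2 : ∀ x ∈ U, x ^ 2 = 1)
    (hidx : 2 < (centralizer (U : Set G)).relIndex (normalizer (U : Set G)))
    (z : G) (hz : z ∈ U) (hz1 : z ≠ 1) :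
    ∃ n ∈ normalizer (U : Set G), n * z * n⁻¹ ≠ z := by
  by_contra hno
  push_neg at hno
  have := relIndex_le_two U hU4 hU2 z hz hz1 hno
  omega

theorem isKleinFour_of (U : Subgroup G) (hU4 : Nat.card U = 4) (hU2 : ∀ x ∈ U, x ^ 2 = 1) :
    IsKleinFour U := by
  refine ⟨hU4, ?_⟩
  have h1 : Monoid.exponent U ∣ 2 := by
    apply Monoid.exponent_dvd_of_forall_pow_eq_one
    intro g
    apply Subtype.ext
    rw [Subgroup.coe_pow, Subgroup.coe_one]
    exact hU2 g g.2
  have h2 : Monoid.exponent U ≠ 1 := by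
    intro h
    rw [Monoid.exp_eq_one_iff] at h
    have := Nat.card_eq_one_iff_unique.mpr ⟨h, ⟨1⟩⟩
    omega
  have h3 := Nat.le_of_dvd (by norm_num) h1
  have h4 : Monoid.exponent U ≠ 0 := by
    intro h
    rw [h] at h1
    omega
  omega

theorem sq_of_isKleinFour (U : Subgroup G) (hU : IsKleinFour U) : ∀ x ∈ U, x ^ 2 = 1 := by
  intro x hx
  have := IsKleinFour.mul_self (⟨x, hx⟩ : U)
  rw [pow_two]
  exact congrArg Subtype.val this

/-- If every non-identity element of `U` is moved by `N(U)`, they are all conjugate. -/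
theorem all_conj_of_move (U : Subgroup G) (hU4 : Nat.card U = 4) (hU2 : ∀ x ∈ U, x ^ 2 = 1)
    (hmove : ∀ z ∈ U, z ≠ 1 → ∃ n ∈ normalizer (U : Set G), n * z * n⁻¹ ≠ z)
    (a b : G) (ha : a ∈ U) (hb : b ∈ U) (ha1 : a ≠ 1) (hb1 : b ≠ 1) : IsConj a b := by
  obtain ⟨t, htU, ht1, hta, hat, htt, haa, hUmem⟩ := four_mem U hU4 hU2 a ha ha1
  have hat1 : a * t ≠ 1 := by
    intro h
    apply hta
    exact (mul_left_cancel (h.trans haa.symm))
  have hcinj : ∀ (n y y' : G), n * y * n⁻¹ = n * y' * n⁻¹ → y = y' := by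
    intro n y y' h
    exact mul_left_cancel (mul_right_cancel h)
  have himg : ∀ n ∈ normalizer (U : Set G), ∀ y ∈ U, y ≠ 1 → n * y * n⁻¹ ≠ y →
      ∃ y' ∈ U, y' ≠ 1 ∧ y' ≠ y ∧ IsConj y y' := by
    intro n hn y hy hy1 hne
    refine ⟨n * y * n⁻¹, (mem_normalizer_iff.mp hn y).mp hy, ?_, hne, ?_⟩
    · intro h
      apply hy1
      apply hcinj n
      rw [h]; group
    · rw [isConj_iff]; exact ⟨n, rfl⟩
  have key : IsConj a t ∧ IsConj a (a * t) := by
    obtain ⟨n, hn, hne⟩ := hmove a ha ha1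
    obtain ⟨y', hy'U, hy'1, hy'a, hc⟩ := himg n hn a ha ha1 hne
    rcases hUmem y' hy'U with h | h | h | h
    · exact absurd h hy'1
    · exact absurd h hy'a
    · rw [h] at hc
      refine ⟨hc, ?_⟩
      obtain ⟨n', hn', hne'⟩ := hmove (a * t) (mul_mem ha htU) hat1
      obtain ⟨y'', hy''U, hy''1, hy''a, hc'⟩ := himg n' hn' _ (mul_mem ha htU) hat1 hne'
      rcases hUmem y'' hy''U with h' | h' | h' | h'
      · exact absurd h' hy''1
      · rw [h'] at hc'; exact hc'.symm
      · rw [h'] at hc'; exact hc.trans hc'.symm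
      · exact absurd h' hy''a
    · rw [h] at hc
      refine ⟨?_, hc⟩
      obtain ⟨n', hn', hne'⟩ := hmove t htU ht1
      obtain ⟨y'', hy''U, hy''1, hy''a, hc'⟩ := himg n' hn' _ htU ht1 hne'
      rcases hUmem y'' hy''U with h' | h' | h' | h'
      · exact absurd h' hy''1
      · rw [h'] at hc'; exact hc'.symm
      · exact absurd h' hy''a
      · rw [h'] at hc'; exact hc.trans hc'.symm
  rcases hUmem b hb with h | h | h | h
  · exact absurd h hb1
  · rw [h]
  · rw [h]; exact key.1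
  · rw [h]; exact key.2

end Cfsg.Agent.Lib.Helper5_FourFix
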