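import Mathlib
import Cfsg.Agent.Lib.Helper5_KleinSub
import Cfsg.Agent.Lib.Helper5_FourFix

namespace Cfsg.Agent.Lib.Helper4_KleinCount
open Cfsg.Agent.Lib.Helper5_KleinSub

/-- off-diagonal pairs avoiding a point in a 4-element type -/
theorem card_pairs_four {α : Type*} (h4 : Nat.card α = 4) (a₀ : α) :
    Nat.card {xy : α × α // xy.1 ≠ a₀ ∧ xy.2 ≠ a₀ ∧ xy.1 ≠ xy.2} = 6 := by
  classical
  haveI : Finite α := Nat.finite_of_card_ne_zero (by rw [h4]; norm_num)
  haveI := Fintype.ofFinite α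
  have e : α ≃ Fin 4 := Fintype.equivFinOfCardEq (by rw [← Nat.card_eq_fintype_card, h4])
  let e' : α ≃ Fin 4 := e.trans (Equiv.swap (e a₀) 0)
  have he' : e' a₀ = 0 := by simp [e']
  have : Nat.card {xy : α × α // xy.1 ≠ a₀ ∧ xy.2 ≠ a₀ ∧ xy.1 ≠ xy.2} =
      Nat.card {xy : Fin 4 × Fin 4 // xy.1 ≠ 0 ∧ xy.2 ≠ 0 ∧ xy.1 ≠ xy.2} := by
    apply Nat.card_congr
    refine Equiv.subtypeEquiv (e'.prodCongr e') ?_
    rintro ⟨x, y⟩
    simp only [Equiv.prodCongr_apply, Prod.map_apply, ne_eq]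
    rw [← he', e'.apply_eq_iff_eq, e'.apply_eq_iff_eq, e'.apply_eq_iff_eq]
  rw [this, Nat.card_eq_fintype_card, Fintype.card_subtype]
  decide

variable {G : Type*} [Group G]

/-- predicate for ordered pairs of distinct commuting involutions -/
def IsKPair (p : G × G) : Prop :=
  p.1 * p.1 = 1 ∧ p.2 * p.2 = 1 ∧ p.1 ≠ 1 ∧ p.2 ≠ 1 ∧ p.1 ≠ p.2 ∧ p.1 * p.2 = p.2 * p.1

theorem klein_sq {V : Subgroup G} (hV : IsKleinFour V) {x : G} (hx : x ∈ V) : x * x = 1 := by
  have := IsKleinFour.mul_self (⟨x, hx⟩ : V)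
  exact congrArg Subtype.val this

theorem klein_comm {V : Subgroup G} (hV : IsKleinFour V) {x y : G} (hx : x ∈ V) (hy : y ∈ V) :
    x * y = y * x := by
  have := (IsKleinFour.isMulCommutative (G := V)).is_comm.comm ⟨x, hx⟩ ⟨y, hy⟩
  exact congrArg Subtype.val this

/-- the four-group of a pair -/
noncomputable def pairSub [Finite G] (p : {p : G × G // IsKPair p}) : {V : Subgroup G // IsKleinFour V} :=
  ⟨kleinSub p.1.1 p.1.2 p.2.1 p.2.2.1 p.2.2.2.2.2.2,
    Cfsg.Agent.Lib.Helper5_FourFix.isKleinFour_of _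
      (card_kleinSub _ _ _ _ _ p.2.2.2.1 p.2.2.2.2.1 p.2.2.2.2.2.1)
      (fun g hg => by rw [pow_two]; exact sq_eq_one_of_mem_kleinSub hg)⟩

theorem mem_pairSub [Finite G] (p : {p : G × G // IsKPair p}) (g : G) :
    g ∈ (pairSub p).1 ↔ g = 1 ∨ g = p.1.1 ∨ g = p.1.2 ∨ g = p.1.1 * p.1.2 :=
  mem_kleinSub (hz := p.2.1) (ht := p.2.2.1) (hzt := p.2.2.2.2.2.2)

theorem card_fiber [Finite G] (V : {V : Subgroup G // IsKleinFour V}) :
    Nat.card {p : {p : G × G // IsKPair p} // pairSub p = V} = 6 := by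
  have hV := V.2
  have h4 : Nat.card V.1 = 4 := hV.card_four
  rw [← card_pairs_four h4 (1 : V.1)]
  apply Nat.card_congr
  refine
    { toFun := fun p => ⟨(⟨p.1.1.1, ?_⟩, ⟨p.1.1.2, ?_⟩), ?_⟩
      invFun := fun xy => ⟨⟨(xy.1.1.1, xy.1.2.1), ?_⟩, ?_⟩
      left_inv := ?_
      right_inv := ?_ }
  · have h1 : p.1.1.1 ∈ (pairSub p.1).1 :=
      left_mem_kleinSub _ _ p.1.2.1 p.1.2.2.1 p.1.2.2.2.2.2.2
    have h2 : (pairSub p.1).1 = V.1 := congrArg Subtype.val p.2
    rw [h2] at h1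
    exact h1
  · have h1 : p.1.1.2 ∈ (pairSub p.1).1 :=
      right_mem_kleinSub _ _ p.1.2.1 p.1.2.2.1 p.1.2.2.2.2.2.2
    have h2 : (pairSub p.1).1 = V.1 := congrArg Subtype.val p.2
    rw [h2] at h1
    exact h1
  · refine ⟨?_, ?_, ?_⟩
    · intro h
      exact p.1.2.2.2.1 (congrArg Subtype.val h)
    · intro h
      exact p.1.2.2.2.2.1 (congrArg Subtype.val h)
    · intro h
      exact p.1.2.2.2.2.2.1 (congrArg Subtype.val h)
  · refine ⟨klein_sq hV xy.1.1.2, klein_sq hV xy.1.2.2, ?_, ?_, ?_, klein_comm hV xy.1.1.2 xy.1.2.2⟩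
    · intro h
      exact xy.2.1 (Subtype.ext h)
    · intro h
      exact xy.2.2.1 (Subtype.ext h)
    · intro h
      exact xy.2.2.2 (Subtype.ext h)
  · apply Subtype.ext
    apply Subgroup.eq_of_le_of_card_ge
    · intro g hg
      rcases (mem_pairSub _ g).mp hg with rfl | rfl | rfl | rfl
      · exact one_mem _
      · exact xy.1.1.2
      · exact xy.1.2.2
      · exact mul_mem xy.1.1.2 xy.1.2.2
    · rw [h4, (pairSub _).2.card_four]
  · intro p
    rfl
  · intro xy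
    rfl

theorem klein_pairs [Finite G] :
    Nat.card {p : G × G // IsKPair p} = 6 * Nat.card {V : Subgroup G // IsKleinFour V} := by
  classical
  haveI := Fintype.ofFinite {V : Subgroup G // IsKleinFour V}
  rw [← Nat.card_congr (Equiv.sigmaFiberEquiv (pairSub (G := G))), Nat.card_sigma]
  simp only [card_fiber, Finset.sum_const, Finset.card_univ, smul_eq_mul]
  rw [Nat.card_eq_fintype_card, mul_comm]

/-- preimage of a set under a surjective hom -/
theorem card_preimage {A B : Type*} [Group A] [Group B] (f : A →* B) (hf : Function.Surjective f)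
    (T : B → Prop) : Nat.card {a : A // T (f a)} = Nat.card {b : B // T b} * Nat.card f.ker := by
  rw [← Nat.card_prod]
  apply Nat.card_congr
  choose s hs using hf
  refine
    { toFun := fun a => (⟨f a.1, a.2⟩, ⟨(s (f a.1))⁻¹ * a.1, ?_⟩)
      invFun := fun bk => ⟨s bk.1.1 * bk.2.1, ?_⟩
      left_inv := ?_
      right_inv := ?_ }
  · rw [MonoidHom.mem_ker, map_mul, map_inv, hs, inv_mul_cancel]
  · rw [map_mul, hs, (MonoidHom.mem_ker).mp bk.2.2, mul_one]
    exact bk.1.2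
  · intro a
    apply Subtype.ext
    show s (f a.1) * ((s (f a.1))⁻¹ * a.1) = a.1
    rw [mul_inv_cancel_left]
  · rintro ⟨⟨b, hb⟩, ⟨k, hk⟩⟩
    have hk' := (MonoidHom.mem_ker).mp hk
    have e : f (s b * k) = b := by rw [map_mul, hs, hk', mul_one]
    apply Prod.ext
    · apply Subtype.ext
      exact e
    · apply Subtype.ext
      show (s (f (s b * k)))⁻¹ * (s b * k) = k
      rw [e, inv_mul_cancel_left]

end Cfsg.Agent.Lib.Helper4_KleinCount
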