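import Mathlib
import Cfsg.Agent.Lib.Helper4_KleinCount

namespace Cfsg.Agent.Lib.Helper4_KleinConj
open Cfsg.Agent.Lib.Helper5_KleinSub Cfsg.Agent.Lib.Helper4_KleinCount

variable {G : Type*} [Group G]

/-- simultaneous conjugacy of ordered pairs -/
def R (p p' : G × G) : Prop := ∃ h : G, h * p.1 * h⁻¹ = p'.1 ∧ h * p.2 * h⁻¹ = p'.2

theorem R.refl (p : G × G) : R p p := ⟨1, by simp, by simp⟩

theorem R.symm {p p' : G × G} (h : R p p') : R p' p := by
  obtain ⟨g, h1, h2⟩ := h
  refine ⟨g⁻¹, ?_, ?_⟩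
  · rw [← h1]; group
  · rw [← h2]; group

theorem R.trans {p p' p'' : G × G} (h : R p p') (h' : R p' p'') : R p p'' := by
  obtain ⟨g, h1, h2⟩ := h
  obtain ⟨g', h1', h2'⟩ := h'
  refine ⟨g' * g, ?_, ?_⟩
  · rw [← h1', ← h1]; group
  · rw [← h2', ← h2]; group

theorem kp_swap {x y : G} (h : IsKPair (x, y)) : IsKPair (y, x) := by
  obtain ⟨h1, h2, h3, h4, h5, h6⟩ := h
  exact ⟨h2, h1, h4, h3, fun e => h5 e.symm, h6.symm⟩

theorem kp_mul {x y : G} (h : IsKPair (x, y)) : IsKPair (x, x * y) := by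
  obtain ⟨h1, h2, h3, h4, h5, h6⟩ := h
  simp only at h1 h2 h3 h4 h5 h6
  refine ⟨h1, ?_, h3, ?_, ?_, ?_⟩
  · show x * y * (x * y) = 1
    calc x * y * (x * y) = x * (y * x) * y := by group
      _ = 1 := by rw [← h6, mul_assoc, mul_assoc, h2, mul_one, h1]
  · show x * y ≠ 1
    intro e
    apply h5
    have : x * y = x * x := by rw [e, h1]
    exact (mul_left_cancel this).symm
  · show x ≠ x * y
    intro e
    apply h4
    have : x * 1 = x * y := by rw [mul_one]; exact e
    exact (mul_left_cancel this).symm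
  · show x * (x * y) = x * y * x
    rw [mul_assoc x y x, ← h6]

theorem kp_of_conj {x y g : G} (h : IsKPair (g * x * g⁻¹, g * y * g⁻¹)) : IsKPair (x, y) := by
  obtain ⟨h1, h2, h3, h4, h5, h6⟩ := h
  simp only at h1 h2 h3 h4 h5 h6
  have inj : ∀ z w : G, g * z * g⁻¹ = g * w * g⁻¹ → z = w := by
    intro z w e
    exact mul_left_cancel (mul_right_cancel e)
  refine ⟨?_, ?_, ?_, ?_, ?_, ?_⟩
  · show x * x = 1
    apply inj
    rw [show g * (x * x) * g⁻¹ = g * x * g⁻¹ * (g * x * g⁻¹) by group, h1]; group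
  · show y * y = 1
    apply inj
    rw [show g * (y * y) * g⁻¹ = g * y * g⁻¹ * (g * y * g⁻¹) by group, h2]; group
  · show x ≠ 1
    rintro rfl
    apply h3; group
  · show y ≠ 1
    rintro rfl
    apply h4; group
  · show x ≠ y
    rintro rfl
    exact h5 rfl
  · show x * y = y * x
    apply inj
    rw [show g * (x * y) * g⁻¹ = g * x * g⁻¹ * (g * y * g⁻¹) by group, h6]; group

/-- every element of a four-group is a word in a pair -/
theorem klein_elems [Finite G] {V : Subgroup G} (hV : IsKleinFour V) {u v : G} (hu : u ∈ V) (hv : v ∈ V)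
    (hp : IsKPair (u, v)) (w : G) (hw : w ∈ V) : w = 1 ∨ w = u ∨ w = v ∨ w = u * v := by
  have hle : (pairSub ⟨(u, v), hp⟩).1 ≤ V := by
    intro g hg
    rcases (mem_pairSub _ g).mp hg with rfl | rfl | rfl | rfl
    · exact one_mem _
    · exact hu
    · exact hv
    · exact mul_mem hu hv
  have heq : (pairSub ⟨(u, v), hp⟩).1 = V := by
    apply Subgroup.eq_of_le_of_card_ge hle
    rw [hV.card_four, (pairSub _).2.card_four]
  rw [← heq] at hw
  exact (mem_pairSub _ w).mp hw

/-- conjugating a four-group -/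
theorem klein_conj [Finite G] {V W : Subgroup G} (hV : IsKleinFour V) (hW : IsKleinFour W) {u v : G}
    (hu : u ∈ V) (hv : v ∈ V) (hp : IsKPair (u, v)) (g : G) (hgu : g * u * g⁻¹ ∈ W)
    (hgv : g * v * g⁻¹ ∈ W) : W = V.map (MulAut.conj g).toMonoidHom := by
  symm
  apply Subgroup.eq_of_le_of_card_ge
  · rintro x ⟨w, hw, rfl⟩
    show g * w * g⁻¹ ∈ W
    rcases klein_elems hV hu hv hp w hw with rfl | rfl | rfl | rfl
    · simp
    · exact hgu
    · exact hgv
    · have : g * (u * v) * g⁻¹ = (g * u * g⁻¹) * (g * v * g⁻¹) := by group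
      rw [this]
      exact mul_mem hgu hgv
  · rw [hW.card_four]
    have : Nat.card (V.map (MulAut.conj g).toMonoidHom) = Nat.card V := by
      apply Nat.card_congr
      exact (V.equivMapOfInjective _ (MulAut.conj g).injective).symm.toEquiv
    rw [this, hV.card_four]

/-- if all K-pairs can be swapped, any two K-pairs of a four-group are conjugate -/
theorem all_pairs_conj [Finite G] (hswap : ∀ x y : G, IsKPair (x, y) → R (x, y) (y, x))
    {V : Subgroup G} (hV : IsKleinFour V) {u v u' v' : G} (hu : u ∈ V) (hv : v ∈ V)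
    (hp : IsKPair (u, v)) (hu' : u' ∈ V) (hv' : v' ∈ V) (hp' : IsKPair (u', v')) :
    R (u, v) (u', v') := by
  have rule2 : ∀ x y : G, IsKPair (x, y) → R (x, y) (x, x * y) := by
    intro x y hxy
    have h1 : IsKPair (y, x * y) := by
      have := kp_mul (kp_swap hxy)
      rwa [← hxy.2.2.2.2.2] at this
    obtain ⟨h, e1, e2⟩ := hswap _ _ h1
    simp only at e1 e2
    refine ⟨h, ?_, e1⟩
    show h * x * h⁻¹ = x
    have hx : x = (x * y) * y := by rw [mul_assoc, hxy.2.1, mul_one]
    calc h * x * h⁻¹ = h * ((x * y) * y) * h⁻¹ := by rw [← hx]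
      _ = (h * (x * y) * h⁻¹) * (h * y * h⁻¹) := by group
      _ = y * (x * y) := by rw [e1, e2]
      _ = x := by
          have := hxy.2.2.2.2.2
          simp only at this
          rw [← mul_assoc, ← this, mul_assoc, hxy.2.1, mul_one]
  have hcomm : u * v = v * u := hp.2.2.2.2.2
  have c1 : R (u, v) (v, u) := hswap u v hp
  have c2 : R (u, v) (u, u * v) := rule2 u v hp
  have c3 : R (u, v) (u * v, u) := c2.trans (hswap _ _ (kp_mul hp))
  have c4 : R (u, v) (v, u * v) := by
    have := rule2 v u (kp_swap hp)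
    rw [← hcomm] at this
    exact c1.trans this
  have c5 : R (u, v) (u * v, v) := by
    have h1 : IsKPair (v, u * v) := by
      have := kp_mul (kp_swap hp)
      rwa [← hcomm] at this
    exact c4.trans (hswap _ _ h1)
  have hu'1 : u' ≠ 1 := hp'.2.2.1
  have hv'1 : v' ≠ 1 := hp'.2.2.2.1
  have hne : u' ≠ v' := hp'.2.2.2.2.1
  rcases klein_elems hV hu hv hp u' hu' with rfl | rfl | rfl | rfl
  · exact absurd rfl hu'1
  · rcases klein_elems hV hu hv hp v' hv' with rfl | rfl | rfl | rfl
    · exact absurd rfl hv'1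
    · exact absurd rfl hne
    · exact R.refl _
    · exact c2
  · rcases klein_elems hV hu hv hp v' hv' with rfl | rfl | rfl | rfl
    · exact absurd rfl hv'1
    · exact c1
    · exact absurd rfl hne
    · exact c4
  · rcases klein_elems hV hu hv hp v' hv' with rfl | rfl | rfl | rfl
    · exact absurd rfl hv'1
    · exact c3
    · exact c5
    · exact absurd rfl hne

/-- a four-group comes from a pair -/
theorem exists_pair [Finite G] {V : Subgroup G} (hV : IsKleinFour V) :
    ∃ u v : G, u ∈ V ∧ v ∈ V ∧ IsKPair (u, v) := by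
  have h := card_fiber (G := G) ⟨V, hV⟩
  have hne : Nonempty {p : {p : G × G // IsKPair p} // pairSub p = ⟨V, hV⟩} := by
    have : 0 < Nat.card {p : {p : G × G // IsKPair p} // pairSub p = ⟨V, hV⟩} := by
      rw [h]; norm_num
    exact (Nat.card_pos_iff.mp this).1
  obtain ⟨⟨p, hp⟩⟩ := hne
  have hp' : (pairSub p).1 = V := congrArg Subtype.val hp
  refine ⟨p.1.1, p.1.2, ?_, ?_, p.2⟩
  · rw [← hp']
    exact (mem_pairSub p _).mpr (Or.inr (Or.inl rfl))
  · rw [← hp']
    exact (mem_pairSub p _).mpr (Or.inr (Or.inr (Or.inl rfl)))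

end Cfsg.Agent.Lib.Helper4_KleinConj
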