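import Mathlib

namespace Cfsg.Agent.Lib.Helper4_Lift

theorem lift_prime_order {G : Type*} [Group G] (e r : ℕ) (hr : r.Prime) (hcop : Nat.Coprime r e)
    (hZ : ∀ z ∈ Subgroup.center G, z ^ e = 1) (x : G ⧸ Subgroup.center G) (hx : orderOf x = r) :
    ∃! g : G, (QuotientGroup.mk g : G ⧸ Subgroup.center G) = x ∧ orderOf g = r := by
  obtain ⟨g₀, rfl⟩ := QuotientGroup.mk_surjective x
  have hc : g₀ ^ r ∈ Subgroup.center G := by
    have : (QuotientGroup.mk g₀ : G ⧸ Subgroup.center G) ^ r = 1 := by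
      rw [← hx]; exact pow_orderOf_eq_one _
    rw [← QuotientGroup.mk_pow, QuotientGroup.eq_one_iff] at this
    exact this
  set c := g₀ ^ r with hcdef
  have hbez : (1 : ℤ) = r * Nat.gcdA r e + e * Nat.gcdB r e := by
    have := Nat.gcd_eq_gcd_ab r e
    rw [hcop.gcd_eq_one] at this
    simpa using this
  set a := Nat.gcdA r e
  set b := Nat.gcdB r e
  set z := c ^ (-a) with hz
  have hzc : z ∈ Subgroup.center G := Subgroup.zpow_mem _ hc _
  have hce : c ^ (e : ℤ) = 1 := by rw [zpow_natCast]; exact hZ c hc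
  have hzr : z ^ r = c⁻¹ := by
    rw [hz, ← zpow_natCast, ← zpow_mul]
    have : -a * (r : ℤ) = -1 + e * b := by linarith
    rw [this, zpow_add, zpow_neg_one, zpow_mul, hce, one_zpow, mul_one]
  have hcomm : Commute g₀ z := (Subgroup.mem_center_iff.mp hzc g₀)
  have hgr : (g₀ * z) ^ r = 1 := by
    rw [hcomm.mul_pow, hzr, ← hcdef, mul_inv_cancel]
  have hmk : (QuotientGroup.mk (g₀ * z) : G ⧸ Subgroup.center G) = QuotientGroup.mk g₀ := by
    rw [QuotientGroup.mk_mul, (QuotientGroup.eq_one_iff z).mpr hzc, mul_one]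
  have hord : orderOf (g₀ * z) = r := by
    have hdvd : orderOf (g₀ * z) ∣ r := orderOf_dvd_of_pow_eq_one hgr
    rcases (Nat.dvd_prime hr).mp hdvd with h1 | h1
    · exfalso
      rw [orderOf_eq_one_iff] at h1
      rw [h1, QuotientGroup.mk_one] at hmk
      rw [← hmk, orderOf_one] at hx
      exact hr.one_lt.ne' hx.symm
    · exact h1
  refine ⟨g₀ * z, ⟨hmk, hord⟩, ?_⟩
  rintro g' ⟨hg'mk, hg'ord⟩
  have hz' : (g₀ * z)⁻¹ * g' ∈ Subgroup.center G := by
    rw [← QuotientGroup.eq, hmk, hg'mk]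
  set z' := (g₀ * z)⁻¹ * g' with hz'def
  have hg' : g' = (g₀ * z) * z' := by rw [hz'def]; group
  have hcomm' : Commute (g₀ * z) z' := (Subgroup.mem_center_iff.mp hz' (g₀ * z))
  have h1 : z' ^ r = 1 := by
    have : g' ^ r = 1 := by rw [← hg'ord]; exact pow_orderOf_eq_one _
    rw [hg', hcomm'.mul_pow, hgr, one_mul] at this
    exact this
  have h2 : z' ^ e = 1 := hZ z' hz'
  have h3 : orderOf z' ∣ Nat.gcd r e :=
    Nat.dvd_gcd (orderOf_dvd_of_pow_eq_one h1) (orderOf_dvd_of_pow_eq_one h2)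
  rw [hcop.gcd_eq_one, Nat.dvd_one, orderOf_eq_one_iff] at h3
  rw [hg', h3, mul_one]

end Cfsg.Agent.Lib.Helper4_Lift
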