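import Mathlib
import Cfsg.Agent.Lib.Helper4_MaxNormAb0

namespace Cfsg.Agent.Lib.Helper4_MaxNormAb1
open scoped commutatorElement
open Cfsg.Agent.Lib.Helper4_MaxNormAb0

variable {G : Type*} [Group G]

theorem step [Finite G] {p : ℕ} [Fact p.Prime] (hG : IsPGroup p G) (N A : Subgroup G)
    [hN : N.Normal] [hA : A.Normal] (hNA : N ≤ A) (hne : N ≠ A) :
    ∃ N' : Subgroup G, N'.Normal ∧ N ≤ N' ∧ N' ≤ A ∧ Nat.card N' = p * Nat.card N ∧
      ∀ g : G, ∀ x ∈ N', ⁅g, x⁆ ∈ N := by
  let π := QuotientGroup.mk' N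
  have hπs : Function.Surjective π := QuotientGroup.mk'_surjective N
  have hAbar : (A.map π).Normal := Subgroup.Normal.map hA π hπs
  have hAne : A.map π ≠ ⊥ := by
    intro h
    apply hne
    apply le_antisymm hNA
    intro x hx
    have : π x ∈ A.map π := ⟨x, hx, rfl⟩
    rw [h, Subgroup.mem_bot] at this
    exact (QuotientGroup.eq_one_iff x).1 this
  obtain ⟨b, hbA, hbZ, hbo⟩ := exists_central_order_p (hG.to_quotient N) (A.map π) hAne
  have hZn : (Subgroup.zpowers b).Normal := by
    constructor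
    intro z hz g
    have : g * z * g⁻¹ = z := by
      have hzc : z ∈ Subgroup.center (G ⧸ N) :=
        (Subgroup.zpowers_le.2 hbZ) hz
      rw [Subgroup.mem_center_iff] at hzc
      rw [hzc g]; group
    rw [this]; exact hz
  refine ⟨(Subgroup.zpowers b).comap π, hZn.comap π, ?_, ?_, ?_, ?_⟩
  · intro x hx
    rw [Subgroup.mem_comap]
    have : π x = 1 := (QuotientGroup.eq_one_iff x).2 hx
    rw [this]; exact Subgroup.one_mem _
  · intro x hx
    rw [Subgroup.mem_comap] at hx
    have h1 : π x ∈ A.map π := (Subgroup.zpowers_le.2 hbA) hx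
    obtain ⟨y, hy, hyx⟩ := h1
    have h2 : y⁻¹ * x ∈ N := by
      rw [← QuotientGroup.eq]; exact hyx
    have : x = y * (y⁻¹ * x) := by group
    rw [this]; exact A.mul_mem hy (hNA h2)
  · have h1 := Subgroup.index_comap_of_surjective (Subgroup.zpowers b) hπs
    have h2 := Subgroup.card_mul_index ((Subgroup.zpowers b).comap π)
    have h3 := Subgroup.card_mul_index (Subgroup.zpowers b)
    have h4 := Subgroup.card_mul_index N
    have h5 : Nat.card (Subgroup.zpowers b) = p := by rw [Nat.card_zpowers, hbo]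
    have h6 : N.index = Nat.card (G ⧸ N) := Subgroup.index_eq_card N
    rw [h1] at h2
    rw [h5] at h3
    have hidx : 0 < (Subgroup.zpowers b).index := Nat.pos_of_ne_zero Subgroup.index_ne_zero_of_finite
    have : Nat.card ((Subgroup.zpowers b).comap π) * (Subgroup.zpowers b).index =
        (p * Nat.card N) * (Subgroup.zpowers b).index := by
      rw [h2, ← h4, h6, ← h3]; ring
    exact Nat.eq_of_mul_eq_mul_right hidx this
  · intro g x hx
    rw [Subgroup.mem_comap] at hx
    have hzc : π x ∈ Subgroup.center (G ⧸ N) := (Subgroup.zpowers_le.2 hbZ) hx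
    rw [Subgroup.mem_center_iff] at hzc
    rw [← QuotientGroup.eq_one_iff]
    show π ⁅g, x⁆ = 1
    rw [commutatorElement_def, map_mul, map_mul, map_mul, map_inv, map_inv, hzc (π g)]
    group

end Cfsg.Agent.Lib.Helper4_MaxNormAb1
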