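import Mathlib
import Cfsg.Agent.Lib.Helper4_MaxNormAb1

namespace Cfsg.Agent.Lib.Helper4_MaxNormAb2
open scoped commutatorElement
open Cfsg.Agent.Lib.Helper4_MaxNormAb0 Cfsg.Agent.Lib.Helper4_MaxNormAb1

variable {G : Type*} [Group G]

theorem cent_step [Finite G] {p : ℕ} [Fact p.Prime] (N N' : Subgroup G)
    (hNN' : N ≤ N') (hcard : Nat.card N' = p * Nat.card N)
    (hcomm : ∀ g : G, ∀ x ∈ N', ⁅g, x⁆ ∈ N) :
    Nat.card (Subgroup.centralizer (N : Set G)) ≤
      Nat.card N * Nat.card (Subgroup.centralizer (N' : Set G)) := by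
  -- pick x ∈ N' \ N
  have hex : ∃ x, x ∈ N' ∧ x ∉ N := by
    by_contra hcon
    push Not at hcon
    have : N' ≤ N := hcon
    have h1 := Subgroup.card_le_of_le this
    have hN0 : 0 < Nat.card N := Nat.card_pos
    have := (Fact.out : p.Prime).two_le
    rw [hcard] at h1
    nlinarith
  obtain ⟨x, hxN', hxN⟩ := hex
  have hN' := eq_sup_zpowers N N' hNN' hcard x hxN' hxN
  set C := Subgroup.centralizer (N : Set G) with hC
  set C' := Subgroup.centralizer (N' : Set G) with hC'
  have hC'C : C' ≤ C := Subgroup.centralizer_le hNN'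
  set K := C'.subgroupOf C with hK
  have h1 : Nat.card C = Nat.card (C ⧸ K) * Nat.card K := Subgroup.card_eq_card_quotient_mul_card_subgroup K
  have h2 : Nat.card K = Nat.card C' := Nat.card_congr (Subgroup.subgroupOfEquivOfLe hC'C).toEquiv
  -- injection C ⧸ K → N
  let φ : C ⧸ K → N := Quotient.lift (fun g : C => (⟨⁅(g : G), x⁆, hcomm _ x hxN'⟩ : N)) (by
    intro g h hgh
    have hgh' : g⁻¹ * h ∈ K := QuotientGroup.leftRel_apply.1 hgh
    have h3 : ((g⁻¹ * h : C) : G) ∈ C' := hgh'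
    have h4 := (Subgroup.mem_centralizer_iff.1 h3) x hxN'
    apply Subtype.ext
    show ⁅(g : G), x⁆ = ⁅(h : G), x⁆
    simp only [commutatorElement_def]
    congr 1
    have h5 : x * ((g : G)⁻¹ * (h : G)) = (g : G)⁻¹ * (h : G) * x := h4
    calc (g : G) * x * (g : G)⁻¹ = (g : G) * (x * ((g : G)⁻¹ * (h : G))) * (h : G)⁻¹ := by group
      _ = (g : G) * ((g : G)⁻¹ * (h : G) * x) * (h : G)⁻¹ := by rw [h5]
      _ = (h : G) * x * (h : G)⁻¹ := by group)
  have hφ : Function.Injective φ := by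
    intro a b
    refine Quotient.inductionOn₂ a b ?_
    intro g h hgh
    apply Quotient.sound
    apply QuotientGroup.leftRel_apply.2
    show ((g⁻¹ * h : C) : G) ∈ C'
    have h3 : ⁅(g : G), x⁆ = ⁅(h : G), x⁆ := congrArg Subtype.val hgh
    simp only [commutatorElement_def] at h3
    have h4 : (g : G) * x * (g : G)⁻¹ = (h : G) * x * (h : G)⁻¹ := mul_right_cancel h3
    have h5 : x * ((g : G)⁻¹ * (h : G)) = (g : G)⁻¹ * (h : G) * x := by
      calc x * ((g : G)⁻¹ * (h : G)) = (g : G)⁻¹ * ((g : G) * x * (g : G)⁻¹) * (h : G) := by group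
        _ = (g : G)⁻¹ * ((h : G) * x * (h : G)⁻¹) * (h : G) := by rw [h4]
        _ = (g : G)⁻¹ * (h : G) * x := by group
    rw [hC', hN', Subgroup.mem_centralizer_iff]
    intro y hy
    have hgh_mem : ((g⁻¹ * h : C) : G) ∈ C := (g⁻¹ * h).2
    have hy' : y ∈ Subgroup.closure ((N : Set G) ∪ {x}) := by
      rw [Subgroup.closure_union, Subgroup.closure_eq, ← Subgroup.zpowers_eq_closure]
      exact hy
    show y * ((g : G)⁻¹ * (h : G)) = (g : G)⁻¹ * (h : G) * y
    have hcl : Subgroup.closure ((N : Set G) ∪ {x}) ≤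
        Subgroup.centralizer {((g : G)⁻¹ * (h : G))} := by
      rw [Subgroup.closure_le]
      rintro z (hz | hz)
      · rw [SetLike.mem_coe, Subgroup.mem_centralizer_singleton_iff]
        exact (Subgroup.mem_centralizer_iff.1 hgh_mem) z hz
      · rw [Set.mem_singleton_iff] at hz
        rw [hz, SetLike.mem_coe, Subgroup.mem_centralizer_singleton_iff]
        exact h5
    exact Subgroup.mem_centralizer_singleton_iff.1 (hcl hy')
  have h3 := Nat.card_le_card_of_injective φ hφ
  rw [h1, h2]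
  exact Nat.mul_le_mul_right _ h3

end Cfsg.Agent.Lib.Helper4_MaxNormAb2
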