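import Mathlib
import Cfsg.Agent.Lib.Helper4_MaxNormAb2

namespace Cfsg.Agent.Lib.Helper4_MaxNormAb3
open scoped commutatorElement
open Cfsg.Agent.Lib.Helper4_MaxNormAb0 Cfsg.Agent.Lib.Helper4_MaxNormAb1
  Cfsg.Agent.Lib.Helper4_MaxNormAb2

variable {G : Type*} [Group G]

theorem self_cent [Finite G] {p : ℕ} [Fact p.Prime] (hG : IsPGroup p G) (A : Subgroup G)
    [A.Normal] (hA : IsMulCommutative A)
    (hmax : ∀ B : Subgroup G, B.Normal → IsMulCommutative B → A ≤ B → B = A) :
    Subgroup.centralizer (A : Set G) = A := by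
  have hAC : A ≤ Subgroup.centralizer (A : Set G) := by
    intro x hx
    rw [Subgroup.mem_centralizer_iff]
    intro y hy
    have := hA.is_comm.comm ⟨y, hy⟩ ⟨x, hx⟩
    exact congrArg Subtype.val this
  by_contra hne
  obtain ⟨N', hN'n, hAN', hN'C, hcard, -⟩ := step hG A (Subgroup.centralizer (A : Set G)) hAC
    (fun h => hne h.symm)
  have hex : ∃ x, x ∈ N' ∧ x ∉ A := by
    by_contra hcon
    push Not at hcon
    have : N' ≤ A := hcon
    have h1 := Subgroup.card_le_of_le this
    have hN0 : 0 < Nat.card A := Nat.card_pos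
    have := (Fact.out : p.Prime).two_le
    rw [hcard] at h1
    nlinarith
  obtain ⟨x, hxN', hxA⟩ := hex
  have hN'eq := eq_sup_zpowers A N' hAN' hcard x hxN' hxA
  have hcomm : IsMulCommutative N' := by
    have : N' = Subgroup.closure ((A : Set G) ∪ {x}) := by
      rw [Subgroup.closure_union, Subgroup.closure_eq, ← Subgroup.zpowers_eq_closure]
      exact hN'eq
    rw [this]
    apply Subgroup.isMulCommutative_closure
    have hxc := Subgroup.mem_centralizer_iff.1 (hN'C hxN')
    rintro a (ha | ha) b (hb | hb)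
    · exact congrArg Subtype.val (hA.is_comm.comm ⟨a, ha⟩ ⟨b, hb⟩)
    · rw [Set.mem_singleton_iff] at hb; rw [hb]; exact hxc a ha
    · rw [Set.mem_singleton_iff] at ha; rw [ha]; exact (hxc b hb).symm
    · rw [Set.mem_singleton_iff] at ha hb; rw [ha, hb]
  have := hmax N' hN'n hcomm hAN'
  rw [this] at hxN'
  exact hxA hxN'

theorem main [Finite G] {p : ℕ} [Fact p.Prime] (hG : IsPGroup p G) (A : Subgroup G) [A.Normal]
    (hA : IsMulCommutative A)
    (hmax : ∀ B : Subgroup G, B.Normal → IsMulCommutative B → A ≤ B → B = A) (a : ℕ)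
    (ha : Nat.card A = p ^ a) : Nat.card G ≤ p ^ (a * (a + 1) / 2) := by
  have hp : p.Prime := Fact.out
  have key : ∀ j, j ≤ a → ∃ N : Subgroup G, N.Normal ∧ N ≤ A ∧ Nat.card N = p ^ j ∧
      Nat.card G ≤ p ^ (j * (j - 1) / 2) * Nat.card (Subgroup.centralizer (N : Set G)) := by
    intro j
    induction j with
    | zero =>
      intro _
      refine ⟨⊥, inferInstance, bot_le, by simp, ?_⟩
      have : Subgroup.centralizer (((⊥ : Subgroup G) : Subgroup G) : Set G) = ⊤ := by
        rw [eq_top_iff]
        intro g _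
        rw [Subgroup.mem_centralizer_iff]
        intro y hy
        rw [SetLike.mem_coe, Subgroup.mem_bot] at hy
        rw [hy]; simp
      rw [this]
      simp
    | succ j ih =>
      intro hj
      obtain ⟨N, hNn, hNA, hNc, hbound⟩ := ih (by omega)
      have hne : N ≠ A := by
        intro h
        rw [h, ha] at hNc
        have := Nat.pow_right_injective hp.two_le hNc
        omega
      obtain ⟨N', hN'n, hNN', hN'A, hcard, hcomm⟩ := step hG N A hNA hne
      refine ⟨N', hN'n, hN'A, by rw [hcard, hNc, pow_succ]; ring, ?_⟩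
      have h1 := cent_step N N' hNN' hcard hcomm
      rw [Nat.triangle_succ, pow_add]
      calc Nat.card G ≤ p ^ (j * (j - 1) / 2) * Nat.card (Subgroup.centralizer (N : Set G)) := hbound
        _ ≤ p ^ (j * (j - 1) / 2) * (Nat.card N * Nat.card (Subgroup.centralizer (N' : Set G))) :=
          Nat.mul_le_mul_left _ h1
        _ = p ^ (j * (j - 1) / 2) * p ^ j * Nat.card (Subgroup.centralizer (N' : Set G)) := by
          rw [hNc]; ring
  obtain ⟨N, hNn, hNA, hNc, hbound⟩ := key a le_rfl
  have hNeq : N = A := Subgroup.eq_of_le_of_card_ge hNA (by rw [hNc, ha])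
  rw [hNeq, self_cent hG A hA hmax, ha] at hbound
  have e : a * (a + 1) / 2 = a * (a - 1) / 2 + a := by
    have := Nat.triangle_succ a
    rw [Nat.add_sub_cancel] at this
    rw [mul_comm a (a + 1)]; exact this
  rw [e, pow_add]
  exact hbound

end Cfsg.Agent.Lib.Helper4_MaxNormAb3
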