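import Mathlib
import Cfsg.Prelude.Def_OddOrderLocal
import Cfsg.Agent.Lib.Helper4_GL2Classes0
import Cfsg.Agent.Lib.Helper4_SL2Cent

namespace Cfsg.Agent.Lib.Helper4_PSL2TI
open Matrix Cfsg Cfsg.Agent.Lib.Helper4_GL2Classes0

universe u

theorem TI_of_CA {G : Type u} [Group G]
    (hCA : ∀ y : G, y ≠ 1 → ∀ a b : G, a ∈ Subgroup.centralizer ({y} : Set G) →
      b ∈ Subgroup.centralizer ({y} : Set G) → a * b = b * a) (x₀ : G) :
    IsTISubset (Subgroup.centralizer ({x₀} : Set G) : Set G) := by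
  intro g hg x hx hgx
  by_contra hx1
  apply hg
  have mem_iff : ∀ y h : G, h ∈ Subgroup.centralizer ({y} : Set G) ↔ y * h = h * y := by
    intro y h
    rw [Subgroup.mem_centralizer_iff]
    simp
  by_cases hx0 : x₀ = 1
  · rw [Subgroup.mem_normalizer_iff]
    intro h
    simp [hx0, mem_iff]
  have sub : ∀ y : G, y ∈ Subgroup.centralizer ({x₀} : Set G) → y ≠ 1 →
      ∀ h : G, h ∈ Subgroup.centralizer ({x₀} : Set G) ↔ h ∈ Subgroup.centralizer ({y} : Set G) := by
    intro y hy hy1 h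
    constructor
    · intro hh
      rw [mem_iff]
      exact hCA x₀ hx0 y h hy hh
    · intro hh
      rw [mem_iff]
      have hx0y : x₀ ∈ Subgroup.centralizer ({y} : Set G) := by
        rw [mem_iff]
        exact ((mem_iff x₀ y).mp hy).symm
      exact hCA y hy1 x₀ h hx0y hh
  have hgx1 : g * x * g⁻¹ ≠ 1 := by
    intro h
    apply hx1
    have : x = g⁻¹ * (g * x * g⁻¹) * g := by group
    rw [this, h]; group
  rw [Subgroup.mem_normalizer_iff]
  intro h
  have h1 := sub x hx hx1 h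
  have h2 := sub (g * x * g⁻¹) hgx hgx1 (g * h * g⁻¹)
  show h ∈ Subgroup.centralizer ({x₀} : Set G) ↔ g * h * g⁻¹ ∈ Subgroup.centralizer ({x₀} : Set G)
  rw [h1, h2, mem_iff, mem_iff]
  constructor
  · intro e
    calc g * x * g⁻¹ * (g * h * g⁻¹) = g * (x * h) * g⁻¹ := by group
      _ = g * (h * x) * g⁻¹ := by rw [e]
      _ = g * h * g⁻¹ * (g * x * g⁻¹) := by group
  · intro e
    have : g⁻¹ * (g * x * g⁻¹ * (g * h * g⁻¹)) * g = g⁻¹ * (g * h * g⁻¹ * (g * x * g⁻¹)) * g := by
      rw [e]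
    calc x * h = g⁻¹ * (g * x * g⁻¹ * (g * h * g⁻¹)) * g := by group
      _ = g⁻¹ * (g * h * g⁻¹ * (g * x * g⁻¹)) * g := this
      _ = h * x := by group

variable {F : Type u} [Field F]

theorem exists_poly (M A : Matrix (Fin 2) (Fin 2) F) (hM : NS M) (hA : A * M = M * A) :
    ∃ α β : F, A = α • (1 : Matrix (Fin 2) (Fin 2) F) + β • M := by
  have e00 := congrFun (congrFun hA 0) 0
  have e01 := congrFun (congrFun hA 0) 1
  have e10 := congrFun (congrFun hA 1) 0
  have e11 := congrFun (congrFun hA 1) 1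
  simp only [Matrix.mul_apply, Fin.sum_univ_two] at e00 e01 e10 e11
  rcases hM with h | h | h
  · refine ⟨A 1 1 - A 0 1 / M 0 1 * M 1 1, A 0 1 / M 0 1, ?_⟩
    ext i j
    fin_cases i <;> fin_cases j <;> simp <;> field_simp
    · linear_combination e01
    · linear_combination -e00
  · refine ⟨A 0 0 - A 1 0 / M 1 0 * M 0 0, A 1 0 / M 1 0, ?_⟩
    ext i j
    fin_cases i <;> fin_cases j <;> simp <;> field_simp
    · linear_combination e00
    · linear_combination e10
  · have h' : M 0 0 - M 1 1 ≠ 0 := sub_ne_zero.mpr h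
    refine ⟨A 0 0 - (A 0 0 - A 1 1) / (M 0 0 - M 1 1) * M 0 0, (A 0 0 - A 1 1) / (M 0 0 - M 1 1), ?_⟩
    ext i j
    fin_cases i <;> fin_cases j <;> simp <;> field_simp
    · linear_combination -e01
    · linear_combination e10
    · ring

theorem comm_of_comm_nonscalar (M A B : Matrix (Fin 2) (Fin 2) F) (hM : NS M)
    (hA : A * M = M * A) (hB : B * M = M * B) : A * B = B * A := by
  obtain ⟨α, β, rfl⟩ := exists_poly M A hM hA
  obtain ⟨α', β', rfl⟩ := exists_poly M B hM hB
  simp only [Matrix.add_mul, Matrix.mul_add, Matrix.smul_mul, Matrix.mul_smul, Matrix.one_mul,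
    Matrix.mul_one, smul_smul, smul_add]
  rw [mul_comm α α', mul_comm β β', mul_comm α β', mul_comm β α']
  abel

theorem SL2_CA [CharP F 2] (y : Matrix.SpecialLinearGroup (Fin 2) F) (hy : y ≠ 1)
    (a b : Matrix.SpecialLinearGroup (Fin 2) F)
    (ha : a ∈ Subgroup.centralizer ({y} : Set (Matrix.SpecialLinearGroup (Fin 2) F)))
    (hb : b ∈ Subgroup.centralizer ({y} : Set (Matrix.SpecialLinearGroup (Fin 2) F))) :
    a * b = b * a := by
  have hns : NS (y : Matrix (Fin 2) (Fin 2) F) := by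
    by_contra hcon
    have h1 := (not_NS_iff _).mp hcon
    apply hy
    have hdet := y.det_coe
    rw [h1, Matrix.det_smul, Fintype.card_fin, Matrix.det_one, mul_one] at hdet
    have hc : (y : Matrix (Fin 2) (Fin 2) F) 0 0 = 1 := by
      have h2 : (2 : F) = 0 := CharTwo.two_eq_zero
      have : ((y : Matrix (Fin 2) (Fin 2) F) 0 0 - 1) ^ 2 = 0 := by
        linear_combination hdet + (1 - (y : Matrix (Fin 2) (Fin 2) F) 0 0) * h2
      have := pow_eq_zero_iff (two_ne_zero) |>.mp this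
      linear_combination this
    apply Subtype.ext
    rw [h1, hc]
    simp
  rw [Subgroup.mem_centralizer_iff] at ha hb
  have ha' := ha y rfl
  have hb' := hb y rfl
  have ha2 : (a : Matrix (Fin 2) (Fin 2) F) * (y : Matrix (Fin 2) (Fin 2) F) =
      (y : Matrix (Fin 2) (Fin 2) F) * (a : Matrix (Fin 2) (Fin 2) F) := by
    rw [← Matrix.SpecialLinearGroup.coe_mul, ← Matrix.SpecialLinearGroup.coe_mul, ha']
  have hb2 : (b : Matrix (Fin 2) (Fin 2) F) * (y : Matrix (Fin 2) (Fin 2) F) =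
      (y : Matrix (Fin 2) (Fin 2) F) * (b : Matrix (Fin 2) (Fin 2) F) := by
    rw [← Matrix.SpecialLinearGroup.coe_mul, ← Matrix.SpecialLinearGroup.coe_mul, hb']
  apply Subtype.ext
  rw [Matrix.SpecialLinearGroup.coe_mul, Matrix.SpecialLinearGroup.coe_mul]
  exact comm_of_comm_nonscalar _ _ _ hns ha2 hb2

theorem CA_of_equiv {G H : Type*} [Group G] [Group H] (e : G ≃* H)
    (hCA : ∀ y : H, y ≠ 1 → ∀ a b : H, a ∈ Subgroup.centralizer ({y} : Set H) →
      b ∈ Subgroup.centralizer ({y} : Set H) → a * b = b * a) :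
    ∀ y : G, y ≠ 1 → ∀ a b : G, a ∈ Subgroup.centralizer ({y} : Set G) →
      b ∈ Subgroup.centralizer ({y} : Set G) → a * b = b * a := by
  intro y hy a b ha hb
  rw [Subgroup.mem_centralizer_iff] at ha hb
  apply e.injective
  rw [map_mul, map_mul]
  apply hCA (e y)
  · intro h
    apply hy
    apply e.injective
    rw [h, map_one]
  · rw [Subgroup.mem_centralizer_iff]
    intro h hh
    rw [Set.mem_singleton_iff] at hh
    rw [hh, ← map_mul, ← map_mul, ha y rfl]
  · rw [Subgroup.mem_centralizer_iff]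
    intro h hh
    rw [Set.mem_singleton_iff] at hh
    rw [hh, ← map_mul, ← map_mul, hb y rfl]

theorem PSL2_TI [CharP F 2] (x : Matrix.ProjectiveSpecialLinearGroup (Fin 2) F) :
    Cfsg.IsTISubset (Subgroup.centralizer ({x} : Set (Matrix.ProjectiveSpecialLinearGroup (Fin 2) F)) :
      Set (Matrix.ProjectiveSpecialLinearGroup (Fin 2) F)) := by
  apply TI_of_CA
  exact CA_of_equiv (Cfsg.Agent.Lib.Helper4_SL2Cent.slEquivPsl (F := F)).symm SL2_CA

end Cfsg.Agent.Lib.Helper4_PSL2TI
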