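-- helper4: the normalizer of a quaternion subgroup of GL_2(p) and elements of prime order of SL_2(p)
import Mathlib
import Cfsg.Prelude.Def_GeometricClasses
import Cfsg.Agent.Lib.Helper4_PSL2TI
import Cfsg.Agent.Lib.Helper4_SL2Odd

set_option autoImplicit false
set_option linter.unusedSectionVars false
set_option linter.unusedVariables false
open scoped MatrixGroups

namespace Cfsg.Agent.Lib.Helper4_Q8Norm
open QuaternionGroup Matrix Cfsg.Agent.Lib.Helper4_GL2Classes0 Cfsg.Agent.Lib.Helper4_PSL2TI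


lemma q8_enum : ∀ t : QuaternionGroup 2, ∃ b : Fin 2, ∃ k : Fin 4,
    t = (xa 0) ^ (b : ℕ) * (a 1) ^ (k : ℕ) := by decide
lemma q8_rel1 : (a 1 : QuaternionGroup 2) ^ 4 = 1 := by decide
lemma q8_rel2 : (xa 0 : QuaternionGroup 2) ^ 2 = (a 1) ^ 2 := by decide
lemma q8_rel3 : (xa 0 : QuaternionGroup 2) * a 1 = (a 1) ^ 3 * xa 0 := by decide
lemma q8_ne : (a 1 : QuaternionGroup 2) ^ 2 ≠ 1 := by decide
lemma q8_nc : (a 1 : QuaternionGroup 2) * xa 0 ≠ xa 0 * a 1 := by decide

variable {F : Type*} [Field F]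

/-- structure of a quaternion subgroup of GL₂ -/
theorem q8_structure (h2 : (2 : F) ≠ 0) (R : Subgroup (GL (Fin 2) F)) (e : ↥R ≃* QuaternionGroup 2) :
    ∃ i j : GL (Fin 2) F, i ∈ R ∧ j ∈ R ∧
      (i : Matrix (Fin 2) (Fin 2) F) * i = -1 ∧ (j : Matrix (Fin 2) (Fin 2) F) * j = -1 ∧
      (j : Matrix (Fin 2) (Fin 2) F) * i = -((i : Matrix (Fin 2) (Fin 2) F) * j) ∧
      ∀ h ∈ R, (h : Matrix (Fin 2) (Fin 2) F) = 1 ∨ (h : Matrix (Fin 2) (Fin 2) F) = -1 ∨
        (h : Matrix (Fin 2) (Fin 2) F) = i ∨ (h : Matrix (Fin 2) (Fin 2) F) = -(i : Matrix (Fin 2) (Fin 2) F) ∨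
        (h : Matrix (Fin 2) (Fin 2) F) = j ∨ (h : Matrix (Fin 2) (Fin 2) F) = -(j : Matrix (Fin 2) (Fin 2) F) ∨
        (h : Matrix (Fin 2) (Fin 2) F) = (i : Matrix (Fin 2) (Fin 2) F) * j ∨
        (h : Matrix (Fin 2) (Fin 2) F) = -((i : Matrix (Fin 2) (Fin 2) F) * j) := by
  set i₀ : R := e.symm (a 1) with hi₀
  set j₀ : R := e.symm (xa 0) with hj₀
  have r1 : i₀ ^ 4 = 1 := by rw [hi₀, ← map_pow, q8_rel1, map_one]
  have r2 : j₀ ^ 2 = i₀ ^ 2 := by rw [hi₀, hj₀, ← map_pow, ← map_pow, q8_rel2]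
  have r3 : j₀ * i₀ = i₀ ^ 3 * j₀ := by rw [hi₀, hj₀, ← map_pow, ← map_mul, ← map_mul, q8_rel3]
  have r4 : i₀ ^ 2 ≠ 1 := by
    rw [hi₀, ← map_pow]
    intro h
    apply q8_ne
    have := congrArg e h
    simpa using this
  have r5 : i₀ * j₀ ≠ j₀ * i₀ := by
    rw [hi₀, hj₀, ← map_mul, ← map_mul]
    intro h
    exact q8_nc (e.symm.injective h)
  have r6 : ∀ h : R, ∃ b : Fin 2, ∃ k : Fin 4, h = j₀ ^ (b : ℕ) * i₀ ^ (k : ℕ) := by
    intro h
    obtain ⟨b, k, hbk⟩ := q8_enum (e h)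
    refine ⟨b, k, ?_⟩
    rw [hi₀, hj₀, ← map_pow, ← map_pow, ← map_mul, ← hbk]
    simp
  set I : Matrix (Fin 2) (Fin 2) F := ((i₀ : GL (Fin 2) F) : Matrix (Fin 2) (Fin 2) F) with hI
  set J : Matrix (Fin 2) (Fin 2) F := ((j₀ : GL (Fin 2) F) : Matrix (Fin 2) (Fin 2) F) with hJ
  have cv : ∀ h : R, ∀ n : ℕ, (((h ^ n : R) : GL (Fin 2) F) : Matrix (Fin 2) (Fin 2) F)
      = ((h : GL (Fin 2) F) : Matrix (Fin 2) (Fin 2) F) ^ n := by
    intro h n
    rw [Subgroup.coe_pow, Units.val_pow_eq_pow_val]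
  have cm : ∀ h k : R, (((h * k : R) : GL (Fin 2) F) : Matrix (Fin 2) (Fin 2) F)
      = ((h : GL (Fin 2) F) : Matrix (Fin 2) (Fin 2) F) * ((k : GL (Fin 2) F) : Matrix (Fin 2) (Fin 2) F) := by
    intro h k
    rw [Subgroup.coe_mul, Units.val_mul]
  have inj : ∀ h k : R, ((h : GL (Fin 2) F) : Matrix (Fin 2) (Fin 2) F) = ((k : GL (Fin 2) F) : Matrix (Fin 2) (Fin 2) F) → h = k := by
    intro h k hhk
    exact Subtype.ext (Units.ext hhk)
  have m1 : I ^ 4 = 1 := by
    rw [hI, ← cv, r1]; rfl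
  have m2 : J ^ 2 = I ^ 2 := by
    rw [hI, hJ, ← cv, ← cv, r2]
  have m3 : J * I = I ^ 3 * J := by
    rw [hI, hJ, ← cv, ← cm, ← cm, r3]
  have m4 : I ^ 2 ≠ 1 := by
    rw [hI, ← cv]
    intro h
    apply r4
    apply inj
    rw [h]; rfl
  have m5 : I * J ≠ J * I := by
    rw [hI, hJ, ← cm, ← cm]
    intro h
    exact r5 (inj _ _ h)
  -- I^2 = -1
  have hII : I * I = -1 := by
    set c := I * I with hc
    have hcc : c * c = 1 := by
      rw [hc, ← m1]; noncomm_ring
    have hcI : I * c = c * I := by rw [hc]; noncomm_ring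
    have hcJ : J * c = c * J := by
      have : J * (I * I) = I ^ 3 * (I ^ 3 * J) := by
        rw [← Matrix.mul_assoc, m3, Matrix.mul_assoc, m3]
      rw [hc, this, ← Matrix.mul_assoc, ← pow_add]
      have : I ^ (3 + 3) = I ^ 4 * (I * I) := by noncomm_ring
      rw [this, m1, Matrix.one_mul]
    have hns : ¬ NS c := by
      intro hns
      exact m5 (comm_of_comm_nonscalar c I J hns hcI hcJ)
    have hsc := (not_NS_iff c).1 hns
    set γ := c 0 0 with hγ
    have hγ2 : γ * γ = 1 := by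
      have := congrFun (congrFun hcc 0) 0
      rw [hsc] at this
      simpa [Matrix.mul_apply, Fin.sum_univ_two] using this
    have hγ1 : γ ≠ 1 := by
      intro h
      apply m4
      rw [pow_two, ← hc, hsc, h, one_smul]
    have : γ = -1 := by
      have h3 : (γ - 1) * (γ + 1) = 0 := by linear_combination hγ2
      rcases mul_eq_zero.1 h3 with h4 | h4
      · exact absurd (by linear_combination h4) hγ1
      · linear_combination h4
    rw [hsc, this]
    simp
  have hJJ : J * J = -1 := by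
    rw [← pow_two, m2, pow_two, hII]
  have hJI : J * I = -(I * J) := by
    rw [m3]
    have : I ^ 3 = I * I * I := by noncomm_ring
    rw [this, hII]
    simp
  refine ⟨i₀, j₀, i₀.2, j₀.2, hII, hJJ, hJI, ?_⟩
  intro h hh
  obtain ⟨b, k, hbk⟩ := r6 ⟨h, hh⟩
  have hval : (h : Matrix (Fin 2) (Fin 2) F) = J ^ (b : ℕ) * I ^ (k : ℕ) := by
    have := congrArg (fun t : R => ((t : GL (Fin 2) F) : Matrix (Fin 2) (Fin 2) F)) hbk
    simp only [cm, cv] at this
    exact this
  have hI2 : I ^ 2 = -1 := by rw [pow_two, hII]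
  have hI3 : I ^ 3 = -I := by
    have : I ^ 3 = I * I * I := by noncomm_ring
    rw [this, hII]; simp
  have hb : (b : ℕ) = 0 ∨ (b : ℕ) = 1 := by omega
  have hk : (k : ℕ) = 0 ∨ (k : ℕ) = 1 ∨ (k : ℕ) = 2 ∨ (k : ℕ) = 3 := by omega
  show (h : Matrix (Fin 2) (Fin 2) F) = 1 ∨ (h : Matrix (Fin 2) (Fin 2) F) = -1 ∨
        (h : Matrix (Fin 2) (Fin 2) F) = I ∨ (h : Matrix (Fin 2) (Fin 2) F) = -I ∨
        (h : Matrix (Fin 2) (Fin 2) F) = J ∨ (h : Matrix (Fin 2) (Fin 2) F) = -J ∨
        (h : Matrix (Fin 2) (Fin 2) F) = I * J ∨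
        (h : Matrix (Fin 2) (Fin 2) F) = -(I * J)
  rw [hval]
  rcases hb with hb | hb <;> rcases hk with hk | hk | hk | hk <;> rw [hb, hk]
  · left; simp
  · right; right; left; simp
  · right; left; rw [hI2]; simp
  · right; right; right; left; rw [hI3]; simp
  · right; right; right; right; left; simp
  · right; right; right; right; right; right; right; rw [pow_one, pow_one, hJI]
  · right; right; right; right; right; left; rw [hI2]; simp
  · right; right; right; right; right; right; left; rw [hI3, pow_one, Matrix.mul_neg, hJI, neg_neg]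



def psi (u v : QuaternionGroup 2) : QuaternionGroup 2 → QuaternionGroup 2
  | a k => u ^ k.val
  | xa k => v * u ^ k.val

set_option maxRecDepth 100000 in
lemma psi_pow12 : ∀ u v : QuaternionGroup 2,
    (∀ s t, psi u v (s * t) = psi u v s * psi u v t) → Function.Injective (psi u v) →
    ∀ t, (psi u v)^[12] t = t := by decide +kernel

lemma hom_eq_psi (f : QuaternionGroup 2 →* QuaternionGroup 2) (t : QuaternionGroup 2) :
    f t = psi (f (a 1)) (f (xa 0)) t := by
  cases t with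
  | a k =>
    show f (a k) = f (a 1) ^ k.val
    rw [← map_pow, a_one_pow, ZMod.natCast_zmod_val]
  | xa k =>
    show f (xa k) = f (xa 0) * f (a 1) ^ k.val
    rw [← map_pow, ← map_mul, a_one_pow, ZMod.natCast_zmod_val, xa_mul_a, zero_add]

lemma aut_pow12 (f : QuaternionGroup 2 →* QuaternionGroup 2) (hf : Function.Injective f) :
    ∀ t, f^[12] t = t := by
  have h1 : (f : QuaternionGroup 2 → QuaternionGroup 2) = psi (f (a 1)) (f (xa 0)) := by
    funext t; exact hom_eq_psi f t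
  rw [h1]
  apply psi_pow12
  · intro s t
    rw [← h1]; exact map_mul f s t
  · rw [← h1]; exact hf

/-- an element of order prime to 12 normalizing a quaternion group centralizes it -/
theorem centralizes_of_coprime {G : Type*} [Group G] (R : Subgroup G) (e : ↥R ≃* QuaternionGroup 2)
    (y : G) (hy : y ∈ Subgroup.normalizer (R : Set G)) (hfin : IsOfFinOrder y)
    (hcop : Nat.Coprime (orderOf y) 12) : ∀ h ∈ R, y * h * y⁻¹ = h := by
  -- conjugation as an endomorphism of R
  let c : ↥R →* ↥R :=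
    { toFun := fun h => ⟨y * h * y⁻¹, (Subgroup.mem_normalizer_iff.1 hy h).1 h.2⟩
      map_one' := by
        apply Subtype.ext
        simp
      map_mul' := by
        intro h k
        apply Subtype.ext
        show y * (h * k : G) * y⁻¹ = (y * h * y⁻¹) * (y * k * y⁻¹)
        group }
  have hcinj : Function.Injective c := by
    intro h k hhk
    have := congrArg Subtype.val hhk
    have h2 : y * (h : G) * y⁻¹ = y * (k : G) * y⁻¹ := this
    apply Subtype.ext
    exact mul_left_cancel (mul_right_cancel h2)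
  let f : QuaternionGroup 2 →* QuaternionGroup 2 :=
    e.toMonoidHom.comp (c.comp e.symm.toMonoidHom)
  have hfinj : Function.Injective f := by
    intro s t hst
    have h1 : e (c (e.symm s)) = e (c (e.symm t)) := hst
    exact e.symm.injective (hcinj (e.injective h1))
  have h12 := aut_pow12 f hfinj
  have hit : ∀ n : ℕ, ∀ t, f^[n] t = e (c^[n] (e.symm t)) := by
    intro n
    induction n with
    | zero => intro t; simp
    | succ n ih =>
      intro t
      rw [Function.iterate_succ_apply', ih, Function.iterate_succ_apply']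
      show e (c (e.symm (e (c^[n] (e.symm t))))) = _
      rw [e.symm_apply_apply]
  have hcit : ∀ n : ℕ, ∀ h : R, ((c^[n] h : R) : G) = y ^ n * h * (y ^ n)⁻¹ := by
    intro n
    induction n with
    | zero => intro h; simp
    | succ n ih =>
      intro h
      rw [Function.iterate_succ_apply']
      show y * ((c^[n] h : R) : G) * y⁻¹ = _
      rw [ih, pow_succ']
      group
  have hc12 : ∀ h ∈ R, y ^ 12 * h * (y ^ 12)⁻¹ = h := by
    intro h hh
    have h1 := h12 (e ⟨h, hh⟩)
    rw [hit, e.symm_apply_apply] at h1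
    have h2 := e.injective h1
    have h3 := congrArg Subtype.val h2
    rw [hcit] at h3
    exact h3
  -- y is a power of y^12
  by_cases hy1 : orderOf y = 1
  · intro h hh
    rw [orderOf_eq_one_iff] at hy1
    rw [hy1]; simp
  have hr1 : 1 < orderOf y := by
    have := hfin.orderOf_pos
    omega
  obtain ⟨m, -, hm⟩ := Nat.exists_mul_mod_eq_one_of_coprime hcop.symm hr1
  have hym : (y ^ 12) ^ m = y := by
    rw [← pow_mul, ← pow_mod_orderOf, hm, pow_one]
  have hcm : ∀ n : ℕ, ∀ h ∈ R, (y ^ 12) ^ n * h * ((y ^ 12) ^ n)⁻¹ = h := by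
    intro n
    induction n with
    | zero => intro h _; simp
    | succ n ih =>
      intro h hh
      have := ih h hh
      rw [pow_succ']
      calc y ^ 12 * (y ^ 12) ^ n * h * (y ^ 12 * (y ^ 12) ^ n)⁻¹
          = y ^ 12 * ((y ^ 12) ^ n * h * ((y ^ 12) ^ n)⁻¹) * (y ^ 12)⁻¹ := by group
        _ = h := by rw [this, hc12 h hh]
  intro h hh
  have := hcm m h hh
  rw [hym] at this
  exact this




lemma cayley2 (M : Matrix (Fin 2) (Fin 2) F) : M * M = M.trace • M - M.det • (1 : Matrix (Fin 2) (Fin 2) F) := by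
  ext i j
  fin_cases i <;> fin_cases j <;>
    simp [Matrix.mul_apply, Fin.sum_univ_two, Matrix.trace_fin_two, Matrix.det_fin_two] <;> ring

lemma ns_lin (M : Matrix (Fin 2) (Fin 2) F) (hM : NS M) (a b : F)
    (h : a • M = b • (1 : Matrix (Fin 2) (Fin 2) F)) : a = 0 ∧ b = 0 := by
  have e00 := congrFun (congrFun h 0) 0
  have e01 := congrFun (congrFun h 0) 1
  have e10 := congrFun (congrFun h 1) 0
  have e11 := congrFun (congrFun h 1) 1
  simp at e00 e01 e10 e11
  have ha : a = 0 := by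
    rcases hM with h1 | h1 | h1
    · exact e01.resolve_right h1
    · exact e10.resolve_right h1
    · have : a * (M 0 0 - M 1 1) = 0 := by linear_combination e00 - e11
      exact (mul_eq_zero.1 this).resolve_right (sub_ne_zero.2 h1)
  refine ⟨ha, ?_⟩
  rw [ha] at e00
  linear_combination -e00

lemma tr_det_of_sq (M : Matrix (Fin 2) (Fin 2) F) (hM : M * M = -1) (hNS : NS M) :
    M.trace = 0 ∧ M.det = 1 := by
  have h1 := cayley2 M
  rw [hM] at h1
  have h2 : M.trace • M = (M.det - 1) • (1 : Matrix (Fin 2) (Fin 2) F) := by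
    rw [sub_smul, one_smul]
    have : M.trace • M = -1 + M.det • (1 : Matrix (Fin 2) (Fin 2) F) := by
      rw [h1]; abel
    rw [this]; abel
  obtain ⟨h3, h4⟩ := ns_lin M hNS _ _ h2
  exact ⟨h3, by linear_combination h4⟩

/-- the quaternion units are non-scalar and a matrix commuting with both is scalar -/
lemma scalar_of_comm (h2 : (2 : F) ≠ 0) (I J Y : Matrix (Fin 2) (Fin 2) F)
    (hII : I * I = -1) (hJJ : J * J = -1) (hJI : J * I = -(I * J))
    (hYI : Y * I = I * Y) (hYJ : Y * J = J * Y) : ∃ z : F, Y = z • (1 : Matrix (Fin 2) (Fin 2) F) := by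
  have hJ0 : J ≠ 0 := by
    rintro rfl
    simp at hJJ
  have hK0 : I * J ≠ 0 := by
    intro h
    have : I * (I * J) = 0 := by rw [h, Matrix.mul_zero]
    rw [← Matrix.mul_assoc, hII] at this
    simp at this
    exact hJ0 this
  have hNS : NS I := by
    by_contra hcon
    have h1 := (not_NS_iff I).1 hcon
    have : J * I = I * J := by
      rw [h1]; simp
    rw [hJI] at this
    have h3 : (2 : F) • (I * J) = 0 := by
      rw [two_smul]
      nth_rw 1 [← this]
      simp
    rcases smul_eq_zero.1 h3 with h4 | h4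
    · exact h2 h4
    · exact hK0 h4
  obtain ⟨α, β, hY⟩ := exists_poly I Y hNS hYI
  refine ⟨α, ?_⟩
  have h3 : β • (I * J) = β • (J * I) := by
    have := hYJ
    rw [hY] at this
    simp only [Matrix.add_mul, Matrix.mul_add, Matrix.smul_mul, Matrix.mul_smul, Matrix.one_mul,
      Matrix.mul_one] at this
    exact add_left_cancel this
  rw [hJI, smul_neg] at h3
  have h4 : (2 * β) • (I * J) = 0 := by
    rw [mul_smul, two_smul]
    nth_rw 2 [h3]
    simp
  rcases smul_eq_zero.1 h4 with h5 | h5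
  · have : β = 0 := (mul_eq_zero.1 h5).resolve_left h2
    rw [hY, this]; simp
  · exact absurd h5 hK0




section table
variable (I J K : Matrix (Fin 2) (Fin 2) F)
  (hII : I * I = -1) (hJJ : J * J = -1) (hIJ : I * J = K) (hJI : J * I = -K)
include hII hJJ hIJ hJI

lemma tKK : K * K = -1 := by
  rw [← hIJ]
  calc I * J * (I * J) = I * (J * I) * J := by simp only [Matrix.mul_assoc]
    _ = -(I * (I * J) * J) := by rw [hJI, ← hIJ]; simp
    _ = -((I * I) * (J * J)) := by simp only [Matrix.mul_assoc]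
    _ = -1 := by rw [hII, hJJ]; simp

lemma tIK : I * K = -J := by
  rw [← hIJ, ← Matrix.mul_assoc, hII]; simp

lemma tKI : K * I = J := by
  rw [← hIJ, Matrix.mul_assoc, hJI, ← hIJ, Matrix.mul_neg, ← Matrix.mul_assoc, hII]; simp

lemma tJK : J * K = I := by
  rw [← hIJ, ← Matrix.mul_assoc, hJI, ← hIJ, Matrix.neg_mul, Matrix.mul_assoc, hJJ]; simp

lemma tKJ : K * J = -I := by
  rw [← hIJ, Matrix.mul_assoc, hJJ]; simp

end table

/-- the order-three normalizing element, cleared of denominators -/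
lemma omega_table (I J K : Matrix (Fin 2) (Fin 2) F)
    (hII : I * I = -1) (hJJ : J * J = -1) (hIJ : I * J = K) (hJI : J * I = -K) :
    (-1 + I + J + K) * (-1 - I - J - K) = (4 : F) • (1 : Matrix (Fin 2) (Fin 2) F) ∧
    (-1 - I - J - K) * (-1 + I + J + K) = (4 : F) • (1 : Matrix (Fin 2) (Fin 2) F) ∧
    (-1 + I + J + K) * I * (-1 - I - J - K) = (4 : F) • K ∧
    (-1 + I + J + K) * J * (-1 - I - J - K) = (4 : F) • I ∧
    (-1 + I + J + K) * K * (-1 - I - J - K) = (4 : F) • J := by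
  have hKK := tKK I J K hII hJJ hIJ hJI
  have hIK := tIK I J K hII hJJ hIJ hJI
  have hKI := tKI I J K hII hJJ hIJ hJI
  have hJK := tJK I J K hII hJJ hIJ hJI
  have hKJ := tKJ I J K hII hJJ hIJ hJI
  refine ⟨?_, ?_, ?_, ?_, ?_⟩ <;>
  · simp only [mul_add, add_mul, mul_sub, sub_mul, mul_neg, neg_mul, mul_one, one_mul,
      hII, hJJ, hIJ, hJI, hKK, hIK, hKI, hJK, hKJ, neg_neg]
    module




lemma omega_sq (I J K : Matrix (Fin 2) (Fin 2) F)
    (hII : I * I = -1) (hJJ : J * J = -1) (hIJ : I * J = K) (hJI : J * I = -K) :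
    (-1 + I + J + K) * (-1 + I + J + K) = (2 : F) • (-1 - I - J - K) := by
  have hKK := tKK I J K hII hJJ hIJ hJI
  have hIK := tIK I J K hII hJJ hIJ hJI
  have hKI := tKI I J K hII hJJ hIJ hJI
  have hJK := tJK I J K hII hJJ hIJ hJI
  have hKJ := tKJ I J K hII hJJ hIJ hJI
  simp only [mul_add, add_mul, mul_sub, sub_mul, mul_neg, neg_mul, mul_one, one_mul,
      hII, hJJ, hIJ, hJI, hKK, hIK, hKI, hJK, hKJ, neg_neg]
  module

lemma mem_S_iff (x : GL (Fin 2) F) :
    x ∈ Cfsg.Geo.specialLinear (Fin 2) F ↔ (x : Matrix (Fin 2) (Fin 2) F).det = 1 := by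
  unfold Cfsg.Geo.specialLinear
  rw [MonoidHom.mem_ker]
  constructor
  · intro h
    have := congrArg Units.val h
    simpa using this
  · intro h
    apply Units.ext
    simpa using h

lemma scalar_sq (x : GL (Fin 2) F) (hdet : (x : Matrix (Fin 2) (Fin 2) F).det = 1) (z : F)
    (hx : (x : Matrix (Fin 2) (Fin 2) F) = z • (1 : Matrix (Fin 2) (Fin 2) F)) : x ^ 2 = 1 := by
  rw [hx, Matrix.det_smul, Matrix.det_one, mul_one, Fintype.card_fin] at hdet
  apply Units.ext
  rw [Units.val_pow_eq_pow_val, hx, pow_two, Matrix.smul_mul, Matrix.one_mul, smul_smul, ← pow_two, hdet,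
    one_smul]
  rfl

lemma ns_of_anticomm (h2 : (2 : F) ≠ 0) (I J : Matrix (Fin 2) (Fin 2) F)
    (hII : I * I = -1) (hJJ : J * J = -1) (hJI : J * I = -(I * J)) : NS I := by
  have hJ0 : J ≠ 0 := by
    rintro rfl
    simp at hJJ
  have hK0 : I * J ≠ 0 := by
    intro h
    have : I * (I * J) = 0 := by rw [h, Matrix.mul_zero]
    rw [← Matrix.mul_assoc, hII] at this
    simp at this
    exact hJ0 this
  by_contra hcon
  have h1 := (not_NS_iff I).1 hcon
  have : J * I = I * J := by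
    rw [h1]; simp
  rw [hJI] at this
  have h3 : (2 : F) • (I * J) = 0 := by
    rw [two_smul]
    nth_rw 1 [← this]
    simp
  rcases smul_eq_zero.1 h3 with h4 | h4
  · exact h2 h4
  · exact hK0 h4

lemma ns_of_tr (M : Matrix (Fin 2) (Fin 2) F) (h : M.trace ^ 2 ≠ 4 * M.det) : NS M := by
  by_contra hcon
  have h1 := (not_NS_iff M).1 hcon
  apply h
  rw [h1, Matrix.trace_smul, Matrix.det_smul, Matrix.trace_one, Matrix.det_one, Fintype.card_fin]
  simp
  ring

lemma sl_conj [Fintype F] (hodd : Odd (Fintype.card F)) (x w : Matrix.SpecialLinearGroup (Fin 2) F)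
    (hx : NS (x : Matrix (Fin 2) (Fin 2) F)) (hw : NS (w : Matrix (Fin 2) (Fin 2) F))
    (htr : (x : Matrix (Fin 2) (Fin 2) F).trace = (w : Matrix (Fin 2) (Fin 2) F).trace)
    (ht4 : (x : Matrix (Fin 2) (Fin 2) F).trace ^ 2 ≠ 4) :
    ∃ c : Matrix.SpecialLinearGroup (Fin 2) F, c⁻¹ * x * c = w := by
  have h1 := Cfsg.Agent.Lib.Helper4_SL2Odd.conj_C'_odd hodd x hx ht4
  have h2 := Cfsg.Agent.Lib.Helper4_SL2Odd.conj_C'_odd hodd w hw (by rw [← htr]; exact ht4)
  rw [← htr] at h2
  obtain ⟨c, hc⟩ := isConj_iff.1 (h1.trans h2.symm)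
  refine ⟨c⁻¹, ?_⟩
  rw [inv_inv]
  exact hc



theorem exists_omega (h2 : (2 : F) ≠ 0) (R : Subgroup (GL (Fin 2) F)) [Finite R]
    (i j : GL (Fin 2) F) (hi : i ∈ R) (hj : j ∈ R)
    (hII : (i : Matrix (Fin 2) (Fin 2) F) * i = -1) (hJJ : (j : Matrix (Fin 2) (Fin 2) F) * j = -1)
    (hJI : (j : Matrix (Fin 2) (Fin 2) F) * i = -((i : Matrix (Fin 2) (Fin 2) F) * j))
    (henum : ∀ h ∈ R, (h : Matrix (Fin 2) (Fin 2) F) = 1 ∨ (h : Matrix (Fin 2) (Fin 2) F) = -1 ∨
        (h : Matrix (Fin 2) (Fin 2) F) = i ∨ (h : Matrix (Fin 2) (Fin 2) F) = -(i : Matrix (Fin 2) (Fin 2) F) ∨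
        (h : Matrix (Fin 2) (Fin 2) F) = j ∨ (h : Matrix (Fin 2) (Fin 2) F) = -(j : Matrix (Fin 2) (Fin 2) F) ∨
        (h : Matrix (Fin 2) (Fin 2) F) = (i : Matrix (Fin 2) (Fin 2) F) * j ∨
        (h : Matrix (Fin 2) (Fin 2) F) = -((i : Matrix (Fin 2) (Fin 2) F) * j)) :
    ∃ w : GL (Fin 2) F, w ∈ Subgroup.normalizer (R : Set (GL (Fin 2) F)) ∧
      (w : Matrix (Fin 2) (Fin 2) F).det = 1 ∧ (w : Matrix (Fin 2) (Fin 2) F).trace = -1 := by
  set I : Matrix (Fin 2) (Fin 2) F := (i : Matrix (Fin 2) (Fin 2) F) with hI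
  set J : Matrix (Fin 2) (Fin 2) F := (j : Matrix (Fin 2) (Fin 2) F) with hJ
  set K : Matrix (Fin 2) (Fin 2) F := I * J with hK
  have hJI' : J * I = -K := hJI
  obtain ⟨t1, t2, t3, t4, t5⟩ := omega_table I J K hII hJJ rfl hJI'
  have t6 := omega_sq I J K hII hJJ rfl hJI'
  set A : Matrix (Fin 2) (Fin 2) F := -1 + I + J + K with hA
  set A' : Matrix (Fin 2) (Fin 2) F := -1 - I - J - K with hA'
  set h : F := 2⁻¹ with hh
  have hh2 : 2 * h = 1 := mul_inv_cancel₀ h2
  clear_value h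
  have hh4 : h * h * 4 = 1 := by linear_combination (2 * h + 1) * hh2
  have w1 : (h • A) * (h • A') = 1 := by
    rw [Matrix.smul_mul, Matrix.mul_smul, t1, smul_smul, smul_smul, hh4, one_smul]
  have w2 : (h • A') * (h • A) = 1 := by
    rw [Matrix.smul_mul, Matrix.mul_smul, t2, smul_smul, smul_smul, hh4, one_smul]
  let w : GL (Fin 2) F := ⟨h • A, h • A', w1, w2⟩
  have hwv : (w : Matrix (Fin 2) (Fin 2) F) = h • A := rfl
  have hwi : ((w⁻¹ : GL (Fin 2) F) : Matrix (Fin 2) (Fin 2) F) = h • A' := rfl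
  have conj_val : ∀ M : Matrix (Fin 2) (Fin 2) F, (h • A) * M * (h • A') = (h * h) • (A * M * A') := by
    intro M
    rw [Matrix.smul_mul, Matrix.smul_mul, Matrix.mul_smul, smul_smul]
  have c1 : (h • A) * I * (h • A') = K := by
    rw [conj_val, t3, smul_smul, hh4, one_smul]
  have c2 : (h • A) * J * (h • A') = I := by
    rw [conj_val, t4, smul_smul, hh4, one_smul]
  have c3 : (h • A) * K * (h • A') = J := by
    rw [conj_val, t5, smul_smul, hh4, one_smul]
  have cneg : ∀ M : Matrix (Fin 2) (Fin 2) F, (h • A) * (-M) * (h • A') = -((h • A) * M * (h • A')) := by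
    intro M; simp
  have hmem : ∀ (n : GL (Fin 2) F) (m : GL (Fin 2) F), m ∈ R →
      (h • A) * (n : Matrix (Fin 2) (Fin 2) F) * (h • A') = (m : Matrix (Fin 2) (Fin 2) F) →
      w * n * w⁻¹ ∈ R := by
    intro n m hm hnm
    have : w * n * w⁻¹ = m := by
      apply Units.ext
      rw [Units.val_mul, Units.val_mul, hwv, hwi, hnm]
    rw [this]; exact hm
  have hm1 : ((i * i : GL (Fin 2) F) : Matrix (Fin 2) (Fin 2) F) = -1 := by
    rw [Units.val_mul]; exact hII
  have hJI2 : I * J = -(J * I) := by rw [hJI']; simp [hK]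
  have hNSI : NS I := ns_of_anticomm h2 I J hII hJJ hJI
  have hNSJ : NS J := ns_of_anticomm h2 J I hJJ hII hJI2
  have htI := (tr_det_of_sq I hII hNSI).1
  have htJ := (tr_det_of_sq J hJJ hNSJ).1
  have htK : K.trace = 0 := by
    have h1 : (I * J).trace = (J * I).trace := Matrix.trace_mul_comm I J
    rw [hJI', Matrix.trace_neg] at h1
    have h3 : (2 : F) * K.trace = 0 := by linear_combination h1
    exact (mul_eq_zero.1 h3).resolve_left h2
  have htrace : (h • A).trace = -1 := by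
    rw [Matrix.trace_smul, hA, Matrix.trace_add, Matrix.trace_add, Matrix.trace_add, Matrix.trace_neg,
      Matrix.trace_one, htI, htJ, htK, Fintype.card_fin]
    push_cast
    linear_combination -hh2
  refine ⟨w, ?_, ?_, ?_⟩
  · apply Subgroup.mem_normalizer_fintype
    intro n hn
    rcases henum n hn with e | e | e | e | e | e | e | e
    · apply hmem n 1 R.one_mem
      rw [e, Matrix.mul_one, w1]; rfl
    · apply hmem n (i * i) (R.mul_mem hi hi)
      rw [e, hm1, cneg, Matrix.mul_one, w1]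
    · apply hmem n (i * j) (R.mul_mem hi hj)
      rw [e, c1, Units.val_mul]
    · apply hmem n (i * i * (i * j)) (R.mul_mem (R.mul_mem hi hi) (R.mul_mem hi hj))
      rw [e, cneg, c1, Units.val_mul, hm1, Units.val_mul]; simp [hK] <;> rfl
    · apply hmem n i hi
      rw [e, c2]
    · apply hmem n (i * i * i) (R.mul_mem (R.mul_mem hi hi) hi)
      rw [e, cneg, c2, Units.val_mul, hm1]; simp <;> rfl
    · apply hmem n j hj
      rw [e, c3]
    · apply hmem n (i * i * j) (R.mul_mem (R.mul_mem hi hi) hj)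
      rw [e, cneg, c3, Units.val_mul, hm1]; simp <;> rfl
  · -- determinant
    have htr : (h • A).trace = -1 := htrace
    have hc := cayley2 (h • A)
    rw [htr, Matrix.smul_mul, Matrix.mul_smul, t6, smul_smul, smul_smul] at hc
    have h5 : h * h * 2 = h := by linear_combination h * hh2
    rw [h5] at hc
    have h6 : h • A + h • A' = -1 := by
      rw [hA, hA']
      have : h • (-1 + I + J + K) + h • (-1 - I - J - K) = (2 * h) • (-1 : Matrix (Fin 2) (Fin 2) F) := by
        module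
      rw [this, hh2, one_smul]
    have h7 : (h • A).det • (1 : Matrix (Fin 2) (Fin 2) F) = 1 := by
      have : (h • A).det • (1 : Matrix (Fin 2) (Fin 2) F) = (-1 : F) • (h • A) - h • A' := by
        rw [hc]; abel
      rw [this]
      have h9 : (-1 : F) • (h • A) - h • A' = -(h • A + h • A') := by module
      rw [h9, h6, neg_neg]
    have h8 := congrFun (congrFun h7 0) 0
    simp only [Matrix.smul_apply, Matrix.one_apply_eq, smul_eq_mul, mul_one] at h8
    exact h8
  · exact htrace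



lemma toGL_conj (x' w' c : Matrix.SpecialLinearGroup (Fin 2) F) (hc : c⁻¹ * x' * c = w') :
    (Matrix.SpecialLinearGroup.toGL c)⁻¹ * Matrix.SpecialLinearGroup.toGL x' * Matrix.SpecialLinearGroup.toGL c
      = Matrix.SpecialLinearGroup.toGL w' := by
  rw [← map_inv, ← map_mul, ← map_mul, hc]

lemma toGL_mem (c : Matrix.SpecialLinearGroup (Fin 2) F) :
    Matrix.SpecialLinearGroup.toGL c ∈ Cfsg.Geo.specialLinear (Fin 2) F := by
  rw [mem_S_iff]
  exact c.2



lemma conj_into_N [Fintype F] (hodd : Odd (Fintype.card F)) (N : Subgroup (GL (Fin 2) F))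
    (x w : GL (Fin 2) F) (hxdet : (x : Matrix (Fin 2) (Fin 2) F).det = 1)
    (hwdet : (w : Matrix (Fin 2) (Fin 2) F).det = 1) (hxNS : NS (x : Matrix (Fin 2) (Fin 2) F))
    (htr : (x : Matrix (Fin 2) (Fin 2) F).trace = (w : Matrix (Fin 2) (Fin 2) F).trace)
    (ht4 : (x : Matrix (Fin 2) (Fin 2) F).trace ^ 2 ≠ 4) (hwN : w ∈ N) :
    ∃ g ∈ Cfsg.Geo.specialLinear (Fin 2) F, g⁻¹ * x * g ∈ N := by
  let x' : Matrix.SpecialLinearGroup (Fin 2) F := ⟨(x : Matrix (Fin 2) (Fin 2) F), hxdet⟩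
  let w' : Matrix.SpecialLinearGroup (Fin 2) F := ⟨(w : Matrix (Fin 2) (Fin 2) F), hwdet⟩
  have hwNS : NS (w : Matrix (Fin 2) (Fin 2) F) := by
    apply ns_of_tr
    rw [← htr, hwdet, mul_one]
    exact ht4
  obtain ⟨c, hc⟩ := sl_conj hodd x' w' hxNS hwNS htr ht4
  refine ⟨Matrix.SpecialLinearGroup.toGL c, toGL_mem c, ?_⟩
  have hx : x = Matrix.SpecialLinearGroup.toGL x' := by
    apply Units.ext; rfl
  have hw : w = Matrix.SpecialLinearGroup.toGL w' := by
    apply Units.ext; rfl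
  rw [hx, toGL_conj x' w' c hc, ← hw]
  exact hwN

theorem S5997_main {F : Type*} [Field F] [Fintype F] {p : ℕ} [Fact p.Prime] [CharP F p]
    (hF : Fintype.card F = p) (hp : 5 ≤ p)
    (R : Subgroup (GL (Fin 2) F)) (hR : Nonempty (↥R ≃* QuaternionGroup 2))
    (r : ℕ) [Fact r.Prime]
    (hΩ : r ∣ (Cfsg.Geo.subgroupNormalizer R).relIndex (Cfsg.Geo.specialLinear (Fin 2) F)) :
    (∀ x ∈ Cfsg.Geo.specialLinear (Fin 2) F,
      (∃ z : F, ((x ^ r : GL (Fin 2) F) : Matrix (Fin 2) (Fin 2) F) = z • (1 : Matrix (Fin 2) (Fin 2) F)) →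
      (∀ z : F, (x : Matrix (Fin 2) (Fin 2) F) ≠ z • (1 : Matrix (Fin 2) (Fin 2) F)) →
      ∃ g ∈ Cfsg.Geo.specialLinear (Fin 2) F, g⁻¹ * x * g ∈ Cfsg.Geo.subgroupNormalizer R) ↔ (r = 2 ∨ r = 3) := by
  classical
  obtain ⟨e⟩ := hR
  have hpp : p.Prime := Fact.out
  have hrp : r.Prime := Fact.out
  have hcast : ∀ n : ℕ, 0 < n → n < 5 → ((n : ℕ) : F) ≠ 0 := by
    intro n hn0 hn5 h
    rw [CharP.cast_eq_zero_iff F p] at h
    have := Nat.le_of_dvd hn0 h
    omega
  have h2 : (2 : F) ≠ 0 := by exact_mod_cast hcast 2 (by norm_num) (by norm_num)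
  have h3 : (3 : F) ≠ 0 := by exact_mod_cast hcast 3 (by norm_num) (by norm_num)
  have h4 : (4 : F) ≠ 0 := by exact_mod_cast hcast 4 (by norm_num) (by norm_num)
  have hodd : Odd (Fintype.card F) := by
    rw [hF]
    exact hpp.odd_of_ne_two (by omega)
  haveI : Finite ↥R := Finite.of_equiv _ e.symm.toEquiv
  obtain ⟨i, j, hi, hj, hII, hJJ, hJI, henum⟩ := q8_structure h2 R e
  have hJI2 : (i : Matrix (Fin 2) (Fin 2) F) * j = -((j : Matrix (Fin 2) (Fin 2) F) * i) := by
    rw [hJI, neg_neg]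
  have hNSI : NS (i : Matrix (Fin 2) (Fin 2) F) := ns_of_anticomm h2 _ _ hII hJJ hJI
  obtain ⟨htI, hdI⟩ := tr_det_of_sq _ hII hNSI
  have hRN : R ≤ Cfsg.Geo.subgroupNormalizer R := Subgroup.le_normalizer
  constructor
  · intro H
    by_contra hcon
    push Not at hcon
    have hcop : Nat.Coprime r 12 := by
      rw [Nat.Prime.coprime_iff_not_dvd hrp]
      intro hd
      have hle := Nat.le_of_dvd (by norm_num) hd
      have h12 : (12 : ℕ) = 2 * 2 * 3 := by norm_num
      rw [h12] at hd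
      rcases (Nat.Prime.dvd_mul hrp).1 hd with h5 | h5
      · rcases (Nat.Prime.dvd_mul hrp).1 h5 with h6 | h6
        · exact hcon.1 ((Nat.prime_dvd_prime_iff_eq hrp Nat.prime_two).1 h6)
        · exact hcon.1 ((Nat.prime_dvd_prime_iff_eq hrp Nat.prime_two).1 h6)
      · exact hcon.2 ((Nat.prime_dvd_prime_iff_eq hrp Nat.prime_three).1 h5)
    have hdvd : r ∣ Nat.card (Cfsg.Geo.specialLinear (Fin 2) F) :=
      hΩ.trans (Subgroup.relIndex_dvd_card _ _)
    obtain ⟨x₀, hx₀⟩ := exists_prime_orderOf_dvd_card' r hdvd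
    have hxord : orderOf (x₀ : GL (Fin 2) F) = r := by
      rw [Subgroup.orderOf_coe]; exact hx₀
    have hsc : ∀ y : GL (Fin 2) F, (y : Matrix (Fin 2) (Fin 2) F).det = 1 → orderOf y = r →
        ∀ z : F, (y : Matrix (Fin 2) (Fin 2) F) ≠ z • (1 : Matrix (Fin 2) (Fin 2) F) := by
      intro y hdet hy z hz
      have h5 := scalar_sq y hdet z hz
      have h6 : orderOf y ∣ 2 := orderOf_dvd_of_pow_eq_one h5
      rw [hy] at h6
      exact hcon.1 ((Nat.prime_dvd_prime_iff_eq hrp Nat.prime_two).1 h6)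
    obtain ⟨g, hgS, hgN⟩ := H (x₀ : GL (Fin 2) F) x₀.2
      ⟨1, by rw [← hxord, pow_orderOf_eq_one]; simp⟩
      (hsc _ ((mem_S_iff _).1 x₀.2) hxord)
    set y : GL (Fin 2) F := g⁻¹ * (x₀ : GL (Fin 2) F) * g with hy
    have hyord : orderOf y = r := by
      have := (MulAut.conj g⁻¹).orderOf_eq (x₀ : GL (Fin 2) F)
      rw [MulAut.conj_apply, inv_inv] at this
      rw [hy, this, hxord]
    have hyS : y ∈ Cfsg.Geo.specialLinear (Fin 2) F :=
      Subgroup.mul_mem _ (Subgroup.mul_mem _ (Subgroup.inv_mem _ hgS) x₀.2) hgS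
    have hydet := (mem_S_iff y).1 hyS
    have hcent := centralizes_of_coprime R e y hgN (isOfFinOrder_of_finite y)
      (by rw [hyord]; exact hcop)
    have hYI : (y : Matrix (Fin 2) (Fin 2) F) * i = (i : Matrix (Fin 2) (Fin 2) F) * y := by
      have h5 := hcent i hi
      have h6 : y * i = i * y := mul_inv_eq_iff_eq_mul.1 h5
      have h7 := congrArg Units.val h6
      rw [Units.val_mul, Units.val_mul] at h7
      exact h7
    have hYJ : (y : Matrix (Fin 2) (Fin 2) F) * j = (j : Matrix (Fin 2) (Fin 2) F) * y := by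
      have h5 := hcent j hj
      have h6 : y * j = j * y := mul_inv_eq_iff_eq_mul.1 h5
      have h7 := congrArg Units.val h6
      rw [Units.val_mul, Units.val_mul] at h7
      exact h7
    obtain ⟨z, hz⟩ := scalar_of_comm h2 _ _ _ hII hJJ hJI hYI hYJ
    exact hsc y hydet hyord z hz
  · rintro (rfl | rfl)
    · intro x hxS ⟨z, hz⟩ hns
      have hdet := (mem_S_iff x).1 hxS
      have hNSx : NS (x : Matrix (Fin 2) (Fin 2) F) := by
        by_contra hc
        exact hns _ ((not_NS_iff _).1 hc)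
      have hsq : (x : Matrix (Fin 2) (Fin 2) F) * x = z • (1 : Matrix (Fin 2) (Fin 2) F) := by
        rw [← pow_two, ← Units.val_pow_eq_pow_val]; exact hz
      have hc := cayley2 (x : Matrix (Fin 2) (Fin 2) F)
      rw [hsq, hdet, one_smul] at hc
      have h5 : (x : Matrix (Fin 2) (Fin 2) F).trace • (x : Matrix (Fin 2) (Fin 2) F)
          = (z + 1) • (1 : Matrix (Fin 2) (Fin 2) F) := by
        rw [add_smul, one_smul, hc]; abel
      obtain ⟨ht, -⟩ := ns_lin _ hNSx _ _ h5
      refine conj_into_N hodd _ x i hdet hdI hNSx (by rw [ht, htI]) ?_ (hRN hi)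
      rw [ht]
      intro h6
      apply h4
      rw [← h6]; ring
    · intro x hxS ⟨z, hz⟩ hns
      have hdet := (mem_S_iff x).1 hxS
      have hNSx : NS (x : Matrix (Fin 2) (Fin 2) F) := by
        by_contra hc
        exact hns _ ((not_NS_iff _).1 hc)
      set X : Matrix (Fin 2) (Fin 2) F := (x : Matrix (Fin 2) (Fin 2) F) with hX
      have hcube : X * X * X = z • (1 : Matrix (Fin 2) (Fin 2) F) := by
        rw [← hz, Units.val_pow_eq_pow_val]
        noncomm_ring
      have hc := cayley2 X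
      rw [hdet, one_smul] at hc
      set τ := X.trace with hτ
      have h5 : (τ * τ - 1) • X = (z + τ) • (1 : Matrix (Fin 2) (Fin 2) F) := by
        have e1 : X * X * X = (τ * τ - 1) • X - τ • (1 : Matrix (Fin 2) (Fin 2) F) := by
          calc X * X * X = (τ • X - 1) * X := by rw [hc]
            _ = τ • (X * X) - X := by rw [Matrix.sub_mul, Matrix.smul_mul, Matrix.one_mul]
            _ = τ • (τ • X - 1) - X := by rw [hc]
            _ = (τ * τ - 1) • X - τ • (1 : Matrix (Fin 2) (Fin 2) F) := by module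
        rw [hcube] at e1
        rw [add_smul, e1]; abel
      obtain ⟨ht, -⟩ := ns_lin _ hNSx _ _ h5
      have ht1 : τ = 1 ∨ τ = -1 := by
        have : (τ - 1) * (τ + 1) = 0 := by linear_combination ht
        rcases mul_eq_zero.1 this with h6 | h6
        · left; linear_combination h6
        · right; linear_combination h6
      have ht4 : τ ^ 2 ≠ 4 := by
        intro h6
        apply h3
        have : τ ^ 2 = 1 := by linear_combination ht
        rw [this] at h6
        linear_combination -h6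
      obtain ⟨w, hwN, hwdet, hwtr⟩ := exists_omega h2 R i j hi hj hII hJJ hJI henum
      rcases ht1 with ht1 | ht1
      · -- use -w
        have hm1 : ((i * i : GL (Fin 2) F) : Matrix (Fin 2) (Fin 2) F) = -1 := by
          rw [Units.val_mul]; exact hII
        have hv : ((i * i * w : GL (Fin 2) F) : Matrix (Fin 2) (Fin 2) F) = -(w : Matrix (Fin 2) (Fin 2) F) := by
          rw [Units.val_mul, hm1]; simp
        refine conj_into_N hodd _ x (i * i * w) hdet ?_ hNSx ?_ ht4 ?_
        · rw [hv, Matrix.det_neg, hwdet, Fintype.card_fin]; norm_num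
        · rw [hv, Matrix.trace_neg, hwtr, neg_neg]; exact ht1
        · exact Subgroup.mul_mem _ (hRN (R.mul_mem hi hi)) hwN
      · exact conj_into_N hodd _ x w hdet hwdet hNSx (by rw [hwtr]; exact ht1) ht4 hwN


end Cfsg.Agent.Lib.Helper4_Q8Norm
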