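import Mathlib
import Cfsg.Agent.Lib.Helper4_PSL2Orders

namespace Cfsg.Agent.Lib.Helper4_SL2Torus
open Matrix Cfsg.Agent.Lib.Helper4_GL2Classes0 Cfsg.Agent.Lib.Helper4_SL2Classes
  Cfsg.Agent.Lib.Helper4_SL2Card Cfsg.Agent.Lib.Helper4_SL2Cent Cfsg.Agent.Lib.Helper4_SL2Odd
  Cfsg.Agent.Lib.Helper4_PSL2ClassOdd Cfsg.Agent.Lib.Helper4_PSL2Orders

variable {F : Type*} [Field F]

/-- the torus: centralizer of the companion matrix -/
abbrev Tor (t : F) : Subgroup (Matrix.SpecialLinearGroup (Fin 2) F) :=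
  Subgroup.centralizer ({C' t} : Set (Matrix.SpecialLinearGroup (Fin 2) F))

theorem val_eq (t : F) (Q : Matrix.SpecialLinearGroup (Fin 2) F) (hQ : Q ∈ Tor t) :
    (Q : Matrix (Fin 2) (Fin 2) F) =
      (Q : Matrix (Fin 2) (Fin 2) F) 0 0 • (1 : Matrix (Fin 2) (Fin 2) F) +
      (Q : Matrix (Fin 2) (Fin 2) F) 1 0 • compMat t 1 := by
  obtain ⟨h1, h2⟩ := (mem_centralizer_C' t Q).mp hQ
  ext i j
  fin_cases i <;> fin_cases j <;> simp [compMat, h1, h2]
  ring

theorem mem_Tor_iff (t : F) (Q : Matrix.SpecialLinearGroup (Fin 2) F) :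
    Q ∈ Tor t ↔ (Q : Matrix (Fin 2) (Fin 2) F) * compMat t 1 =
      compMat t 1 * (Q : Matrix (Fin 2) (Fin 2) F) := by
  rw [Subgroup.mem_centralizer_iff]
  simp only [Set.mem_singleton_iff, forall_eq]
  constructor
  · intro h
    have h' := congrArg (fun g : Matrix.SpecialLinearGroup (Fin 2) F =>
      (g : Matrix (Fin 2) (Fin 2) F)) h
    simp only [Matrix.SpecialLinearGroup.coe_mul] at h'
    exact h'.symm
  · intro h
    apply Subtype.ext
    rw [Matrix.SpecialLinearGroup.coe_mul, Matrix.SpecialLinearGroup.coe_mul]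
    exact h.symm

theorem Tor_comm (t : F) (Q Q' : Matrix.SpecialLinearGroup (Fin 2) F) (hQ : Q ∈ Tor t)
    (hQ' : Q' ∈ Tor t) : Q * Q' = Q' * Q := by
  obtain ⟨h1, h2⟩ := (mem_centralizer_C' t Q).mp hQ
  obtain ⟨h1', h2'⟩ := (mem_centralizer_C' t Q').mp hQ'
  apply Subtype.ext
  rw [Matrix.SpecialLinearGroup.coe_mul, Matrix.SpecialLinearGroup.coe_mul]
  rw [Matrix.eta_fin_two (Q : Matrix (Fin 2) (Fin 2) F),
    Matrix.eta_fin_two (Q' : Matrix (Fin 2) (Fin 2) F), h1, h2, h1', h2',
    Matrix.mul_fin_two, Matrix.mul_fin_two]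
  ext i j; fin_cases i <;> fin_cases j <;> simp <;> ring

theorem NS_iff_of_mem (t : F) (Q : Matrix.SpecialLinearGroup (Fin 2) F) (hQ : Q ∈ Tor t) :
    NS (Q : Matrix (Fin 2) (Fin 2) F) ↔ (Q : Matrix (Fin 2) (Fin 2) F) 1 0 ≠ 0 := by
  obtain ⟨h1, h2⟩ := (mem_centralizer_C' t Q).mp hQ
  unfold NS
  constructor
  · rintro (h | h | h)
    · rw [h1] at h
      intro h0; apply h; rw [h0, neg_zero]
    · exact h
    · intro h0
      apply h
      rw [h2, h0, mul_zero, add_zero]
  · intro h; right; left; exact h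

theorem centralizer_eq_Tor (t : F) (y : Matrix.SpecialLinearGroup (Fin 2) F) (hy : y ∈ Tor t)
    (hns : NS (y : Matrix (Fin 2) (Fin 2) F)) :
    Subgroup.centralizer ({y} : Set (Matrix.SpecialLinearGroup (Fin 2) F)) = Tor t := by
  have hz := (NS_iff_of_mem t y hy).mp hns
  ext Q
  constructor
  · intro hQ
    rw [Subgroup.mem_centralizer_iff] at hQ
    simp only [Set.mem_singleton_iff, forall_eq] at hQ
    rw [mem_Tor_iff]
    have h' := congrArg (fun g : Matrix.SpecialLinearGroup (Fin 2) F =>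
      (g : Matrix (Fin 2) (Fin 2) F)) hQ
    simp only [Matrix.SpecialLinearGroup.coe_mul] at h'
    rw [val_eq t y hy] at h'
    simp only [add_mul, mul_add, Matrix.smul_mul, Matrix.mul_smul, Matrix.one_mul,
      Matrix.mul_one] at h'
    have h'' := add_left_cancel h'
    exact (smul_right_injective _ hz h'').symm
  · intro hQ
    rw [Subgroup.mem_centralizer_iff]
    simp only [Set.mem_singleton_iff, forall_eq]
    exact Tor_comm t y Q hy hQ

theorem centralizer_Tor (t : F) :
    Subgroup.centralizer ((Tor t : Subgroup (Matrix.SpecialLinearGroup (Fin 2) F)) :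
      Set (Matrix.SpecialLinearGroup (Fin 2) F)) = Tor t := by
  ext Q
  constructor
  · intro hQ
    rw [Subgroup.mem_centralizer_iff] at hQ
    rw [Subgroup.mem_centralizer_iff]
    simp only [Set.mem_singleton_iff, forall_eq]
    exact hQ _ (C'_mem t)
  · intro hQ
    rw [Subgroup.mem_centralizer_iff]
    intro y hy
    exact Tor_comm t y Q hy hQ


theorem C'_inv_val (t : F) :
    (((C' t)⁻¹ : Matrix.SpecialLinearGroup (Fin 2) F) : Matrix (Fin 2) (Fin 2) F) =
      !![t, 1; -1, 0] := by
  rw [Matrix.SpecialLinearGroup.coe_inv]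
  show (compMat t 1).adjugate = _
  unfold compMat
  rw [Matrix.adjugate_fin_two_of]
  simp

theorem eq_of_trace (h2 : (2 : F) ≠ 0) (t : F) (ht : t ^ 2 ≠ 4)
    (y : Matrix.SpecialLinearGroup (Fin 2) F) (hy : y ∈ Tor t)
    (htr : (y : Matrix (Fin 2) (Fin 2) F).trace = t) : y = C' t ∨ y = (C' t)⁻¹ := by
  obtain ⟨h1, h2'⟩ := (mem_centralizer_C' t y).mp hy
  have hdet := y.det_coe
  rw [Matrix.det_fin_two, h1, h2'] at hdet
  rw [Matrix.trace_fin_two, h2'] at htr
  set x := (y : Matrix (Fin 2) (Fin 2) F) 0 0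
  set z := (y : Matrix (Fin 2) (Fin 2) F) 1 0
  have hz : (z - 1) * (z + 1) = 0 := by
    have h4 : (t ^ 2 - 4) * ((z - 1) * (z + 1)) = 0 := by
      have hx : 2 * x = t * (1 - z) := by linear_combination htr
      linear_combination (-4 : F) * hdet + (2 * x + t * (1 - z) + 2 * t * z) * hx
    rcases mul_eq_zero.mp h4 with h | h
    · exfalso; apply ht; linear_combination h
    · exact h
  rcases mul_eq_zero.mp hz with h | h
  · left
    have hz1 : z = 1 := by linear_combination h
    have hx0 : x = 0 := by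
      apply mul_left_cancel₀ h2
      rw [hz1] at htr
      linear_combination htr
    apply Subtype.ext
    show (y : Matrix (Fin 2) (Fin 2) F) = compMat t 1
    unfold compMat
    ext i j
    fin_cases i <;> fin_cases j
    · exact hx0
    · show (y : Matrix (Fin 2) (Fin 2) F) 0 1 = -1
      rw [h1]; show -z = -1; rw [hz1]
    · exact hz1
    · show (y : Matrix (Fin 2) (Fin 2) F) 1 1 = t
      rw [h2']; show x + t * z = t; rw [hx0, hz1]; ring
  · right
    have hz1 : z = -1 := by linear_combination h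
    have hx0 : x = t := by
      apply mul_left_cancel₀ h2
      rw [hz1] at htr
      linear_combination htr
    apply Subtype.ext
    rw [C'_inv_val]
    ext i j
    fin_cases i <;> fin_cases j
    · exact hx0
    · show (y : Matrix (Fin 2) (Fin 2) F) 0 1 = 1
      rw [h1]; show -z = 1; rw [hz1]; ring
    · exact hz1
    · show (y : Matrix (Fin 2) (Fin 2) F) 1 1 = 0
      rw [h2']; show x + t * z = 0; rw [hx0, hz1]; ring

theorem mem_Tor_iff_conj (t : F) (h : Matrix.SpecialLinearGroup (Fin 2) F) :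
    h ∈ Tor t ↔ h * C' t * h⁻¹ = C' t := mem_centralizer_iff_conj (C' t) h

theorem mem_Tor_iff_conj_inv (t : F) (h : Matrix.SpecialLinearGroup (Fin 2) F) :
    h ∈ Tor t ↔ h * (C' t)⁻¹ * h⁻¹ = (C' t)⁻¹ := by
  rw [mem_Tor_iff_conj]
  constructor
  · intro h1
    have : h * (C' t)⁻¹ * h⁻¹ = (h * C' t * h⁻¹)⁻¹ := by group
    rw [this, h1]
  · intro h1
    have : h * C' t * h⁻¹ = (h * (C' t)⁻¹ * h⁻¹)⁻¹ := by group
    rw [this, h1, inv_inv]

theorem mem_normalizer_Tor (h2 : (2 : F) ≠ 0) (t : F) (ht : t ^ 2 ≠ 4)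
    (g : Matrix.SpecialLinearGroup (Fin 2) F) :
    g ∈ Subgroup.normalizer ((Tor t : Subgroup (Matrix.SpecialLinearGroup (Fin 2) F)) :
      Set (Matrix.SpecialLinearGroup (Fin 2) F)) ↔
      g * C' t * g⁻¹ = C' t ∨ g * C' t * g⁻¹ = (C' t)⁻¹ := by
  rw [Subgroup.mem_set_normalizer_iff]
  constructor
  · intro h
    have hmem := (h (C' t)).mp (C'_mem t)
    apply eq_of_trace h2 t ht _ hmem
    have hc : IsConj (C' t) (g * C' t * g⁻¹) := isConj_iff.mpr ⟨g, rfl⟩
    rw [← trace_eq_of_conj _ _ hc]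
    exact C'_trace t
  · intro hg n
    simp only [SetLike.mem_coe]
    rcases hg with hg | hg
    · have hgT : g ∈ Tor t := (mem_Tor_iff_conj t g).mpr hg
      constructor
      · intro hn
        exact (Tor t).mul_mem ((Tor t).mul_mem hgT hn) ((Tor t).inv_mem hgT)
      · intro hn
        have := (Tor t).mul_mem ((Tor t).mul_mem ((Tor t).inv_mem hgT) hn) hgT
        have e : g⁻¹ * (g * n * g⁻¹) * g = n := by group
        rw [e] at this
        exact this
    · -- g inverts C
      have hg' : g⁻¹ * C' t * g = (C' t)⁻¹ := by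
        have e1 : g⁻¹ * C' t * g = (g⁻¹ * (C' t)⁻¹ * g)⁻¹ := by group
        have e2 : g⁻¹ * (g * C' t * g⁻¹) * g = C' t := by group
        rw [e1, ← hg, e2]
        exact hg.symm
      rw [mem_Tor_iff_conj t n, mem_Tor_iff_conj t (g * n * g⁻¹)]
      have e : g * n * g⁻¹ * C' t * (g * n * g⁻¹)⁻¹ = g * (n * (g⁻¹ * C' t * g) * n⁻¹) * g⁻¹ := by
        group
      rw [e, hg']
      constructor
      · intro hn
        rw [(mem_Tor_iff_conj_inv t n).mp ((mem_Tor_iff_conj t n).mpr hn)]
        have : g * (C' t)⁻¹ * g⁻¹ = (g * C' t * g⁻¹)⁻¹ := by group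
        rw [this, hg, inv_inv]
      · intro hn
        have h3 : g⁻¹ * (g * (n * (C' t)⁻¹ * n⁻¹) * g⁻¹) * g = n * (C' t)⁻¹ * n⁻¹ := by group
        rw [hn, hg'] at h3
        have h3 := h3.symm
        exact (mem_Tor_iff_conj t n).mp ((mem_Tor_iff_conj_inv t n).mpr h3)


/-- the normalizer of the torus -/
abbrev NTor (t : F) : Subgroup (Matrix.SpecialLinearGroup (Fin 2) F) :=
  Subgroup.normalizer ((Tor t : Subgroup (Matrix.SpecialLinearGroup (Fin 2) F)) :
      Set (Matrix.SpecialLinearGroup (Fin 2) F))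

theorem Tor_le_NTor (t : F) : Tor t ≤ NTor t := Subgroup.le_normalizer

theorem C'_ne_inv (h2 : (2 : F) ≠ 0) (t : F) : (C' t : Matrix.SpecialLinearGroup (Fin 2) F) ≠ (C' t)⁻¹ := by
  intro h
  have h1 : C' t * C' t = 1 := by
    nth_rw 2 [h]
    exact mul_inv_cancel _
  have hns := C'_NS t
  rcases sq_eq_one_cases h2 (C' t) h1 with h | h
  · rw [h] at hns
    unfold NS at hns
    simp at hns
  · rw [h, N1_val] at hns
    unfold NS at hns
    simp at hns

theorem exists_w [Fintype F] (hodd : Odd (Fintype.card F)) (t : F) (ht : t ^ 2 ≠ 4) :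
    ∃ w : Matrix.SpecialLinearGroup (Fin 2) F, w * C' t * w⁻¹ = (C' t)⁻¹ := by
  have hns : NS (((C' t)⁻¹ : Matrix.SpecialLinearGroup (Fin 2) F) : Matrix (Fin 2) (Fin 2) F) := by
    rw [C'_inv_val]
    unfold NS
    left
    simp
  have htr : (((C' t)⁻¹ : Matrix.SpecialLinearGroup (Fin 2) F) : Matrix (Fin 2) (Fin 2) F).trace = t := by
    rw [C'_inv_val, Matrix.trace_fin_two]
    simp
  have hc := conj_C'_odd hodd ((C' t)⁻¹) hns (by rw [htr]; exact ht)
  rw [htr] at hc
  obtain ⟨c, hc⟩ := isConj_iff.mp hc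
  refine ⟨c⁻¹, ?_⟩
  rw [inv_inv]
  have : c⁻¹ * (c * (C' t)⁻¹ * c⁻¹) * c = (C' t)⁻¹ := by group
  rw [hc] at this
  exact this

theorem relIndex_Tor [Fintype F] (hodd : Odd (Fintype.card F)) (t : F) (ht : t ^ 2 ≠ 4) :
    (Tor t).relIndex (NTor t) = 2 := by
  have h2 := two_ne_zero' hodd
  obtain ⟨w, hw⟩ := exists_w hodd t ht
  rw [Subgroup.relIndex_eq_two_iff]
  refine ⟨w, (mem_normalizer_Tor h2 t ht w).mpr (Or.inr hw), ?_⟩
  intro b hb
  rw [mem_normalizer_Tor h2 t ht] at hb
  rw [mem_Tor_iff_conj, mem_Tor_iff_conj]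
  have e : b * w * C' t * (b * w)⁻¹ = b * (w * C' t * w⁻¹) * b⁻¹ := by group
  have e2 : b * (C' t)⁻¹ * b⁻¹ = (b * C' t * b⁻¹)⁻¹ := by group
  rw [e, hw, e2]
  rcases hb with hb | hb
  · rw [hb]
    right
    exact ⟨rfl, fun h => C'_ne_inv h2 t h.symm⟩
  · rw [hb, inv_inv]
    left
    exact ⟨rfl, fun h => C'_ne_inv h2 t h.symm⟩

theorem card_NTor [Fintype F] (hodd : Odd (Fintype.card F)) (t : F) (ht : t ^ 2 ≠ 4) :
    Nat.card (NTor t) = 2 * Nat.card (Tor t) := by
  have h1 := Subgroup.relIndex_mul_index (Tor_le_NTor t)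
  rw [relIndex_Tor hodd t ht] at h1
  have h3 := Subgroup.card_mul_index (Tor t)
  have h4 := Subgroup.card_mul_index (NTor t)
  have hpos : 0 < (NTor t).index := Nat.pos_of_ne_zero (Subgroup.index_ne_zero_of_finite)
  have : Nat.card (NTor t) * (NTor t).index = 2 * Nat.card (Tor t) * (NTor t).index := by
    rw [h4, ← h3, ← h1]; ring
  exact Nat.eq_of_mul_eq_mul_right hpos this

theorem sq_of_mem_NTor [Fintype F] (hodd : Odd (Fintype.card F)) (t : F) (ht : t ^ 2 ≠ 4)
    (g : Matrix.SpecialLinearGroup (Fin 2) F) (hg : g ∈ NTor t) (hgT : g ∉ Tor t) :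
    g * g = N1 := by
  have h2 := two_ne_zero' hodd
  have hinv : g * C' t * g⁻¹ = (C' t)⁻¹ := by
    rcases (mem_normalizer_Tor h2 t ht g).mp hg with h | h
    · exact absurd ((mem_Tor_iff_conj t g).mpr h) hgT
    · exact h
  have hsq : g * g ∈ Tor t := by
    rw [mem_Tor_iff_conj]
    have e : g * g * C' t * (g * g)⁻¹ = g * (g * C' t * g⁻¹) * g⁻¹ := by group
    have e2 : g * (C' t)⁻¹ * g⁻¹ = (g * C' t * g⁻¹)⁻¹ := by group
    rw [e, hinv, e2, hinv, inv_inv]
  by_cases hns : NS ((g * g : Matrix.SpecialLinearGroup (Fin 2) F) : Matrix (Fin 2) (Fin 2) F)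
  · exfalso
    apply hgT
    rw [← centralizer_eq_Tor t (g * g) hsq hns, Subgroup.mem_centralizer_iff]
    simp only [Set.mem_singleton_iff, forall_eq]
    group
  · have := not_NS_mem_center _ hns
    rw [mem_center_iff'] at this
    rcases this with h | h
    · exfalso
      apply hgT
      rcases sq_eq_one_cases h2 g h with h' | h'
      · rw [h']; exact (Tor t).one_mem
      · rw [h', mem_Tor_iff_conj, N1_comm, mul_assoc, mul_inv_cancel, mul_one]
    · exact h

theorem sum_indicator {G : Type*} [Fintype G] (P : G → Prop) [DecidablePred P] (a : ℕ) :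
    ∑ g : G, (if P g then a else 0) = Fintype.card {g : G // P g} * a := by
  rw [Finset.sum_ite, Finset.sum_const, Finset.sum_const_zero, add_zero, smul_eq_mul,
    Fintype.card_subtype]

theorem sum_three {G : Type*} [Fintype G] (c : G → ℕ) (P Q : G → Prop) [DecidablePred P]
    [DecidablePred Q] (hPQ : ∀ g, P g → Q g) (A B C : ℕ) (hA : ∀ g, P g → c g = A)
    (hB : ∀ g, Q g → ¬ P g → c g = B) (hC : ∀ g, ¬ Q g → c g = C) :
    ∑ g : G, c g + Fintype.card {g : G // Q g} * C + Fintype.card {g : G // P g} * B =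
      Fintype.card G * C + Fintype.card {g : G // Q g} * B + Fintype.card {g : G // P g} * A := by
  have h1 : ∀ g : G, c g + (if Q g then C else 0) + (if P g then B else 0) =
      C + (if Q g then B else 0) + (if P g then A else 0) := by
    intro g
    by_cases hP : P g
    · have hQ := hPQ g hP
      simp only [hP, hQ, if_true, hA g hP]
      ring
    · by_cases hQ : Q g
      · simp only [hP, hQ, if_true, if_false, hB g hQ hP]
        ring
      · simp only [hP, hQ, if_false, hC g hQ]
  have h2 := Finset.sum_congr (s₁ := (Finset.univ : Finset G)) rfl (fun g _ => h1 g)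
  rw [Finset.sum_add_distrib, Finset.sum_add_distrib, Finset.sum_add_distrib,
    Finset.sum_add_distrib, sum_indicator, sum_indicator, sum_indicator, sum_indicator,
    Finset.sum_const, Finset.card_univ, smul_eq_mul] at h2
  exact h2


section classes
variable [Fintype F]

omit [Fintype F] in
theorem comm_val (t : F) (g h : NTor t) : Commute g h ↔ g.1 * h.1 = h.1 * g.1 := by
  rw [commute_iff_eq]
  constructor
  · intro e
    have := congrArg Subtype.val e
    simpa using this
  · intro e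
    apply Subtype.ext
    simpa using e

omit [Fintype F] in
theorem cent_central (t : F) (g : NTor t) (hg : g.1 = 1 ∨ g.1 = N1) :
    Nat.card {h : NTor t // Commute g h} = Nat.card (NTor t) := by
  apply Nat.card_congr
  refine Equiv.subtypeUnivEquiv ?_
  intro h
  rw [comm_val]
  rcases hg with hg | hg
  · rw [hg]; simp
  · rw [hg]; exact N1_comm _

omit [Fintype F] in
theorem cent_torus (t : F) (g : NTor t) (hg : g.1 ∈ Tor t) (hg' : ¬ (g.1 = 1 ∨ g.1 = N1)) :
    Nat.card {h : NTor t // Commute g h} = Nat.card (Tor t) := by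
  have hns : NS ((g.1 : Matrix.SpecialLinearGroup (Fin 2) F) : Matrix (Fin 2) (Fin 2) F) := by
    by_contra hns
    apply hg'
    rw [← mem_center_iff']
    exact not_NS_mem_center _ hns
  have hcent := centralizer_eq_Tor t g.1 hg hns
  let e : {h : NTor t // Commute g h} ≃ Tor t :=
    { toFun := fun h => ⟨h.1.1, by
        rw [← hcent, Subgroup.mem_centralizer_iff]
        simp only [Set.mem_singleton_iff, forall_eq]
        exact (comm_val t g h.1).mp h.2⟩
      invFun := fun y => ⟨⟨y.1, Tor_le_NTor t y.2⟩, by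
        rw [comm_val]
        exact Tor_comm t g.1 y.1 hg y.2⟩
      left_inv := fun h => rfl
      right_inv := fun y => rfl }
  exact Nat.card_congr e

theorem cent_outer (hodd : Odd (Fintype.card F)) (t : F) (ht : t ^ 2 ≠ 4) (g : NTor t)
    (hg : g.1 ∉ Tor t) :
    Nat.card {h : NTor t // Commute g h} = 4 := by
  classical
  have h2 := two_ne_zero' hodd
  have hN1mem : (N1 : Matrix.SpecialLinearGroup (Fin 2) F) ∈ NTor t := by
    apply Tor_le_NTor
    rw [mem_Tor_iff_conj, N1_comm, mul_assoc, mul_inv_cancel, mul_one]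
  have hN1T : (N1 : Matrix.SpecialLinearGroup (Fin 2) F) ∈ Tor t := by
    rw [mem_Tor_iff_conj, N1_comm, mul_assoc, mul_inv_cancel, mul_one]
  have hginv : g.1 * C' t * g.1⁻¹ = (C' t)⁻¹ := by
    rcases (mem_normalizer_Tor h2 t ht g.1).mp g.2 with h | h
    · exact absurd ((mem_Tor_iff_conj t g.1).mpr h) hg
    · exact h
  -- commuting elements of the torus are central
  have key : ∀ y : Matrix.SpecialLinearGroup (Fin 2) F, y ∈ Tor t → g.1 * y = y * g.1 →
      y = 1 ∨ y = N1 := by
    intro y hy hc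
    rw [← mem_center_iff']
    apply not_NS_mem_center
    intro hns
    apply hg
    rw [← centralizer_eq_Tor t y hy hns, Subgroup.mem_centralizer_iff]
    simp only [Set.mem_singleton_iff, forall_eq]
    exact hc.symm
  let a : Bool → Matrix.SpecialLinearGroup (Fin 2) F := fun b => if b then N1 else 1
  have ha : ∀ b, a b ∈ Tor t := by
    intro b; cases b
    · exact (Tor t).one_mem
    · exact hN1T
  have hac : ∀ b x, a b * x = x * a b := by
    intro b x; cases b
    · simp [a]
    · exact N1_comm x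
  let ψ : Bool × Bool → {h : NTor t // Commute g h} := fun p =>
    ⟨⟨a p.1 * (if p.2 then g.1 else 1), by
      apply (NTor t).mul_mem (Tor_le_NTor t (ha p.1))
      cases p.2
      · exact (NTor t).one_mem
      · exact g.2⟩, by
      rw [comm_val]
      show g.1 * (a p.1 * (if p.2 then g.1 else 1)) = a p.1 * (if p.2 then g.1 else 1) * g.1
      rw [← mul_assoc, ← hac p.1 g.1, mul_assoc, mul_assoc]
      congr 1
      cases p.2 <;> simp⟩
  have hinj : Function.Injective ψ := by
    rintro ⟨b1, b2⟩ ⟨c1, c2⟩ h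
    have h' : a b1 * (if b2 then g.1 else 1) = a c1 * (if c2 then g.1 else 1) :=
      congrArg (fun x : {h : NTor t // Commute g h} => x.1.1) h
    have hb2 : b2 = c2 := by
      by_contra hne
      apply hg
      cases b2 <;> cases c2
      · exact absurd rfl hne
      · simp only [Bool.false_eq_true, if_false, if_true, mul_one] at h'
        have : g.1 = (a c1)⁻¹ * a b1 := by rw [h']; group
        rw [this]
        exact (Tor t).mul_mem ((Tor t).inv_mem (ha c1)) (ha b1)
      · simp only [Bool.false_eq_true, if_false, if_true, mul_one] at h'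
        have : g.1 = (a b1)⁻¹ * a c1 := by rw [← h']; group
        rw [this]
        exact (Tor t).mul_mem ((Tor t).inv_mem (ha b1)) (ha c1)
      · exact absurd rfl hne
    subst hb2
    have hb1 : a b1 = a c1 := mul_right_cancel h'
    have : b1 = c1 := by
      cases b1 <;> cases c1
      · rfl
      · exact absurd hb1.symm (N1_ne_one h2)
      · exact absurd hb1 (N1_ne_one h2)
      · rfl
    rw [this]
  have hsurj : Function.Surjective ψ := by
    rintro ⟨⟨h, hh⟩, hc⟩
    rw [comm_val] at hc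
    simp only at hc
    by_cases hhT : h ∈ Tor t
    · rcases key h hhT hc with h1 | h1
      · refine ⟨(false, false), ?_⟩
        apply Subtype.ext; apply Subtype.ext
        simp [ψ, a, h1]
      · refine ⟨(true, false), ?_⟩
        apply Subtype.ext; apply Subtype.ext
        simp [ψ, a, h1]
    · have hhinv : h * C' t * h⁻¹ = (C' t)⁻¹ := by
        rcases (mem_normalizer_Tor h2 t ht h).mp hh with h' | h'
        · exact absurd ((mem_Tor_iff_conj t h).mpr h') hhT
        · exact h'
      have hy : h * g.1⁻¹ ∈ Tor t := by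
        rw [mem_Tor_iff_conj]
        have e : h * g.1⁻¹ * C' t * (h * g.1⁻¹)⁻¹ = h * (g.1⁻¹ * C' t * g.1) * h⁻¹ := by group
        have e2 : g.1⁻¹ * C' t * g.1 = (C' t)⁻¹ := by
          have e1 : g.1⁻¹ * C' t * g.1 = (g.1⁻¹ * (C' t)⁻¹ * g.1)⁻¹ := by group
          have e3 : g.1⁻¹ * (g.1 * C' t * g.1⁻¹) * g.1 = C' t := by group
          rw [e1, ← hginv, e3]
          exact hginv.symm
        have e4 : h * (C' t)⁻¹ * h⁻¹ = (h * C' t * h⁻¹)⁻¹ := by group
        rw [e, e2, e4, hhinv, inv_inv]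
      have hyc : g.1 * (h * g.1⁻¹) = (h * g.1⁻¹) * g.1 := by
        rw [← mul_assoc, hc]; group
      rcases key _ hy hyc with h1 | h1
      · refine ⟨(false, true), ?_⟩
        apply Subtype.ext; apply Subtype.ext
        have : h = g.1 := by
          have := congrArg (fun x => x * g.1) h1
          simpa using this
        simp [ψ, a, this]
      · refine ⟨(true, true), ?_⟩
        apply Subtype.ext; apply Subtype.ext
        have : h = N1 * g.1 := by
          have := congrArg (fun x => x * g.1) h1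
          simpa using this
        simp [ψ, a, this]
  rw [← Nat.card_congr (Equiv.ofBijective ψ ⟨hinj, hsurj⟩), Nat.card_eq_fintype_card,
    Fintype.card_prod, Fintype.card_bool]


theorem card_classes (hodd : Odd (Fintype.card F)) (t : F) (ht : t ^ 2 ≠ 4) :
    2 * Nat.card (ConjClasses (NTor t)) = Nat.card (Tor t) + 6 := by
  classical
  have h2 := two_ne_zero' hodd
  set n := Nat.card (Tor t) with hn
  have hN : Nat.card (NTor t) = 2 * n := card_NTor hodd t ht
  have hnpos : 0 < n := Nat.card_pos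
  have : Fintype (NTor t) := Fintype.ofFinite _
  have hcomm := card_comm_eq_card_conjClasses_mul_card (NTor t)
  rw [Nat.card_congr (Equiv.subtypeProdEquivSigmaSubtype (fun g h : NTor t => Commute g h)),
    Nat.card_sigma, hN] at hcomm
  have hN1T : (N1 : Matrix.SpecialLinearGroup (Fin 2) F) ∈ Tor t := by
    rw [mem_Tor_iff_conj, N1_comm, mul_assoc, mul_inv_cancel, mul_one]
  have hsum := sum_three (G := NTor t) (fun g => Nat.card {h : NTor t // Commute g h})
    (fun g => g.1 = 1 ∨ g.1 = N1) (fun g => g.1 ∈ Tor t)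
    (by
      rintro g (h | h)
      · rw [h]; exact (Tor t).one_mem
      · rw [h]; exact hN1T)
    (2 * n) n 4
    (fun g hg => by rw [cent_central t g hg, hN])
    (fun g hg hg' => cent_torus t g hg hg')
    (fun g hg => cent_outer hodd t ht g hg)
  have hP : Fintype.card {g : NTor t // g.1 = 1 ∨ g.1 = N1} = 2 := by
    let e : Bool ≃ {g : NTor t // g.1 = 1 ∨ g.1 = N1} :=
      { toFun := fun b => if b then ⟨⟨N1, Tor_le_NTor t hN1T⟩, Or.inr rfl⟩
          else ⟨⟨1, (NTor t).one_mem⟩, Or.inl rfl⟩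
        invFun := fun g => if g.1.1 = N1 then true else false
        left_inv := by
          intro b
          cases b
          · simp only [Bool.false_eq_true, if_false]
            rw [if_neg]
            exact fun h => N1_ne_one h2 h.symm
          · simp
        right_inv := by
          rintro ⟨⟨g, hg⟩, hg' | hg'⟩
          · simp only at hg'
            subst hg'
            have : ¬ ((1 : Matrix.SpecialLinearGroup (Fin 2) F) = N1) := fun h => N1_ne_one h2 h.symm
            simp [this]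
          · simp only at hg'
            subst hg'
            simp }
    rw [← Fintype.card_congr e, Fintype.card_bool]
  have hQ : Fintype.card {g : NTor t // g.1 ∈ Tor t} = n := by
    rw [hn, ← Nat.card_eq_fintype_card]
    apply Nat.card_congr
    exact
      { toFun := fun g => ⟨g.1.1, g.2⟩
        invFun := fun y => ⟨⟨y.1, Tor_le_NTor t y.2⟩, y.2⟩
        left_inv := fun g => rfl
        right_inv := fun y => rfl }
  have hG : Fintype.card (NTor t) = 2 * n := by
    rw [← Nat.card_eq_fintype_card, hN]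
  rw [hP, hQ, hG] at hsum
  have h5 : Nat.card (ConjClasses (NTor t)) * (2 * n) = n * (n + 6) := by
    rw [← hcomm]
    have e : (∑ a : NTor t, Nat.card {b : NTor t // Commute a b}) + n * 4 + 2 * n =
        2 * n * 4 + n * n + 2 * (2 * n) := hsum
    have : n * (n + 6) = n * n + 6 * n := by ring
    rw [this]
    omega
  have h6 : n * (2 * Nat.card (ConjClasses (NTor t))) = n * (n + 6) := by
    rw [← h5]; ring
  exact Nat.eq_of_mul_eq_mul_left hnpos h6

end classes


section final
variable [Fintype F]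

omit [Fintype F] in
theorem aniso_of_no_eigen (g : Matrix.SpecialLinearGroup (Fin 2) F)
    (hg : ∀ (c : F) (v : Fin 2 → F), v ≠ 0 → (g : Matrix (Fin 2) (Fin 2) F).mulVec v ≠ c • v) :
    NS (g : Matrix (Fin 2) (Fin 2) F) ∧
      ∀ r : F, r ^ 2 - (g : Matrix (Fin 2) (Fin 2) F).trace * r + 1 ≠ 0 := by
  constructor
  · by_contra hns
    have h1 := (not_NS_iff _).mp hns
    apply hg ((g : Matrix (Fin 2) (Fin 2) F) 0 0) ![1, 0]
    · intro h
      have := congrFun h 0
      simp at this
    · rw [h1]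
      simp [Matrix.smul_mulVec]
  · intro r hr
    have hdet : ((g : Matrix (Fin 2) (Fin 2) F) - r • (1 : Matrix (Fin 2) (Fin 2) F)).det = 0 := by
      have hd := g.det_coe
      rw [Matrix.det_fin_two] at hd
      rw [Matrix.det_fin_two]
      rw [Matrix.trace_fin_two] at hr
      simp only [Matrix.sub_apply, Matrix.smul_apply, Matrix.one_apply_eq, smul_eq_mul, mul_one,
        ne_eq, zero_ne_one, one_ne_zero, not_false_eq_true, Matrix.one_apply_ne, mul_zero, sub_zero]
      linear_combination hr + hd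
    obtain ⟨v, hv, hv0⟩ := Matrix.exists_mulVec_eq_zero_iff.mpr hdet
    apply hg r v hv
    rw [Matrix.sub_mulVec, Matrix.smul_mulVec, Matrix.one_mulVec, sub_eq_zero] at hv0
    exact hv0

omit [Fintype F] in
theorem disc_nonsq (h2 : (2 : F) ≠ 0) (t : F) (hirr : ∀ r : F, r ^ 2 - t * r + 1 ≠ 0) :
    ¬ IsSquare (t ^ 2 - 4) := by
  rintro ⟨s, hs⟩
  apply hirr ((t + s) / 2)
  field_simp
  linear_combination -hs

omit [Fintype F] in
theorem aniso_ne' (h2 : (2 : F) ≠ 0) (t : F) (hirr : ∀ r : F, r ^ 2 - t * r + 1 ≠ 0) : t ^ 2 ≠ 4 := by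
  intro h
  apply disc_nonsq h2 t hirr
  rw [h, sub_self]
  exact ⟨0, by simp⟩

theorem exists_in_torus (hodd : Odd (Fintype.card F)) (t t' : F)
    (hirr : ∀ r : F, r ^ 2 - t * r + 1 ≠ 0) (hirr' : ∀ r : F, r ^ 2 - t' * r + 1 ≠ 0) :
    ∃ y : Matrix.SpecialLinearGroup (Fin 2) F, y ∈ Tor t ∧
      (y : Matrix (Fin 2) (Fin 2) F).trace = t' ∧ NS (y : Matrix (Fin 2) (Fin 2) F) := by
  have h2 := two_ne_zero' hodd
  have hd := disc_nonsq h2 t hirr
  have hd' := disc_nonsq h2 t' hirr'
  have ht4 := aniso_ne' h2 t hirr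
  have ht4' := aniso_ne' h2 t' hirr'
  obtain ⟨c, hc⟩ := nonsq_mul hodd _ _ hd' hd
  have hne : t ^ 2 - 4 ≠ 0 := sub_ne_zero.mpr ht4
  have hne' : t' ^ 2 - 4 ≠ 0 := sub_ne_zero.mpr ht4'
  set z : F := c / (t ^ 2 - 4) with hz
  set x : F := (t' - t * z) / 2 with hx
  have hz2 : z ^ 2 * (t ^ 2 - 4) = t' ^ 2 - 4 := by
    rw [hz]
    field_simp
    linear_combination -hc
  have hN : Nf t (x, z) = 1 := by
    unfold Nf
    simp only
    rw [hx]
    field_simp
    linear_combination (-1 : F) * hz2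
  have hz0 : z ≠ 0 := by
    intro h0
    rw [h0] at hz2
    apply hne'
    rw [← hz2]; ring
  refine ⟨Zel t (x, z) hN, ?_, ?_, ?_⟩
  · rw [mem_centralizer_C']
    simp [Zel]
  · rw [Matrix.trace_fin_two]
    simp only [Zel]
    show x + (x + t * z) = t'
    rw [hx]; field_simp; ring
  · right; left
    simpa [Zel] using hz0

theorem main (hodd : Odd (Fintype.card F)) :
    ∃ T' : Subgroup (Matrix.SpecialLinearGroup (Fin 2) F), IsCyclic T' ∧ Nat.card T' = Fintype.card F + 1 ∧
      Subgroup.centralizer ((T' : Set (Matrix.SpecialLinearGroup (Fin 2) F))) = T' ∧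
      (∀ g : Matrix.SpecialLinearGroup (Fin 2) F, g ∈ T' → (g : Matrix (Fin 2) (Fin 2) F) ≠ 1 → (g : Matrix (Fin 2) (Fin 2) F) ≠ -1 → Subgroup.centralizer ({g} : Set (Matrix.SpecialLinearGroup (Fin 2) F)) = T') ∧
      (∀ g : Matrix.SpecialLinearGroup (Fin 2) F, (∀ (c : F) (v : Fin 2 → F), v ≠ 0 → (g : Matrix (Fin 2) (Fin 2) F).mulVec v ≠ c • v) → ∃ h : Matrix.SpecialLinearGroup (Fin 2) F, h * g * h⁻¹ ∈ T') ∧
      Nat.card (Subgroup.normalizer (T' : Set (Matrix.SpecialLinearGroup (Fin 2) F))) = 2 * (Fintype.card F + 1) ∧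
      Nat.card (ConjClasses (Subgroup.normalizer (T' : Set (Matrix.SpecialLinearGroup (Fin 2) F)))) = (Fintype.card F + 7) / 2 ∧
      ∀ g : Matrix.SpecialLinearGroup (Fin 2) F, g ∈ Subgroup.normalizer (T' : Set (Matrix.SpecialLinearGroup (Fin 2) F)) → g ∉ T' → ((g * g) : Matrix (Fin 2) (Fin 2) F) = -1 := by
  have h2 := two_ne_zero' hodd
  obtain ⟨t, ht⟩ := exists_aniso_any (F := F)
  have ht4 := aniso_ne' h2 t ht
  have hcard := card_torus_aniso t ht
  refine ⟨Tor t, torus_cyclic t ht, hcard, centralizer_Tor t, ?_, ?_, ?_, ?_, ?_⟩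
  · intro g hg h1 hm1
    apply centralizer_eq_Tor t g hg
    by_contra hns
    have := not_NS_mem_center _ hns
    rw [mem_center_iff'] at this
    rcases this with h | h
    · apply h1; rw [h]; rfl
    · apply hm1; rw [h, N1_val]
  · intro g hg
    obtain ⟨hns, hirr'⟩ := aniso_of_no_eigen g hg
    set t' := (g : Matrix (Fin 2) (Fin 2) F).trace with ht'
    obtain ⟨y, hyT, hytr, hyns⟩ := exists_in_torus hodd t t' ht hirr'
    have hc1 := conj_C'_odd hodd g hns (aniso_ne' h2 t' hirr')
    have hc2 := conj_C'_odd hodd y hyns (by rw [hytr]; exact aniso_ne' h2 t' hirr')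
    rw [hytr] at hc2
    obtain ⟨h, hh⟩ := isConj_iff.mp (hc1.trans hc2.symm)
    exact ⟨h, by rw [hh]; exact hyT⟩
  · rw [card_NTor hodd t ht4, hcard]
  · have : 2 * Nat.card (ConjClasses (Subgroup.normalizer ((Tor t : Subgroup (Matrix.SpecialLinearGroup (Fin 2) F)) : Set (Matrix.SpecialLinearGroup (Fin 2) F)))) = Nat.card (Tor t) + 6 := card_classes hodd t ht4
    rw [hcard] at this
    omega
  · intro g hg hgT
    rw [← Matrix.SpecialLinearGroup.coe_mul, sq_of_mem_NTor hodd t ht4 g hg hgT, N1_val]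

end final

end Cfsg.Agent.Lib.Helper4_SL2Torus
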