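import Mathlib

namespace Cfsg.Agent.Lib.Helper4_SylowTorus

variable {G : Type*} [Group G]

theorem centralizer_map_equiv_set (e : G ≃* G) (S : Set G) :
    Subgroup.centralizer (e '' S) = (Subgroup.centralizer S).map (e : G →* G) := by
  ext h
  rw [Subgroup.mem_map, Subgroup.mem_centralizer_iff]
  constructor
  · intro hh
    refine ⟨e.symm h, ?_, by simp⟩
    rw [Subgroup.mem_centralizer_iff]
    intro s hs
    apply e.injective
    rw [map_mul, map_mul, e.apply_symm_apply]
    exact hh (e s) ⟨s, hs, rfl⟩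
  · rintro ⟨x, hx, rfl⟩
    rw [Subgroup.mem_centralizer_iff] at hx
    rintro _ ⟨s, hs, rfl⟩
    show e s * e x = e x * e s
    rw [← map_mul, ← map_mul, hx s hs]

theorem normalizer_map_equiv' (e : G ≃* G) (H : Subgroup G) :
    Subgroup.normalizer ((H.map (e : G →* G) : Subgroup G) : Set G) =
      (Subgroup.normalizer (H : Set G)).map (e : G →* G) := by
  apply le_antisymm
  · intro x hx
    have h1 : e.symm x ∈ (Subgroup.normalizer ((H.map (e : G →* G) : Subgroup G) : Set G)).map
        (e.symm : G →* G) := Subgroup.mem_map_of_mem _ hx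
    have h2 := Subgroup.le_normalizer_map (H := H.map (e : G →* G)) (e.symm : G →* G) h1
    have h3 : (H.map (e : G →* G)).map (e.symm : G →* G) = H := by
      ext y
      simp only [Subgroup.mem_map, MonoidHom.coe_coe]
      constructor
      · rintro ⟨_, ⟨z, hz, rfl⟩, rfl⟩
        simpa using hz
      · intro hy
        exact ⟨e y, ⟨y, hy, rfl⟩, by simp⟩
    rw [h3] at h2
    exact ⟨e.symm x, h2, by simp⟩
  · exact Subgroup.le_normalizer_map _

/-- Sylow subgroups of a group whose `ℓ`-part lives in an abelian self-centralizing subgroup -/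
theorem sylow_in_torus [Finite G] (ℓ : ℕ) [Fact ℓ.Prime] (T : Subgroup G)
    (hTcomm : ∀ a ∈ T, ∀ b ∈ T, a * b = b * a)
    (hcard : (Nat.card G).factorization ℓ = (Nat.card T).factorization ℓ)
    (hℓ : ℓ ∣ Nat.card T)
    (hcent : ∀ y ∈ T, y ≠ 1 → (∃ k : ℕ, y ^ (ℓ ^ k) = 1) →
      Subgroup.centralizer ({y} : Set G) = T)
    (P : Sylow ℓ G) :
    ∃ g : G, Subgroup.centralizer ((P : Subgroup G) : Set G) = T.map ((MulAut.conj g : G ≃* G) : G →* G) ∧
      Subgroup.normalizer ((P : Subgroup G) : Set G) =
        (Subgroup.normalizer (T : Set G)).map ((MulAut.conj g : G ≃* G) : G →* G) := by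
  have hℓp : ℓ.Prime := Fact.out
  let Q : Sylow ℓ T := default
  have hQn : (Q : Subgroup T).Normal := by
    constructor
    intro n hn g
    have : g * n * g⁻¹ = n := by
      apply Subtype.ext
      have := hTcomm g.1 g.2 n.1 n.2
      show g.1 * n.1 * g.1⁻¹ = n.1
      rw [this]; group
    rw [this]; exact hn
  set P₀ : Subgroup G := (Q : Subgroup T).map T.subtype with hP₀
  have hP₀T : P₀ ≤ T := by
    rintro _ ⟨x, _, rfl⟩
    exact x.2
  have hcardP₀ : Nat.card P₀ = ℓ ^ (Nat.card G).factorization ℓ := by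
    rw [hcard, ← Sylow.card_eq_multiplicity Q]
    exact Nat.card_congr (Subgroup.equivMapOfInjective _ _ T.subtype_injective).symm.toEquiv
  -- membership
  have mem_P₀ : ∀ h : G, h ∈ P₀ ↔ h ∈ T ∧ ∃ k : ℕ, h ^ (ℓ ^ k) = 1 := by
    intro h
    constructor
    · rintro ⟨x, hx, rfl⟩
      refine ⟨x.2, ?_⟩
      obtain ⟨k, hk⟩ := Q.isPGroup' ⟨x, hx⟩
      refine ⟨k, ?_⟩
      have := congrArg (fun y : (Q : Subgroup T) => ((y : T) : G)) hk
      simpa using this
    · rintro ⟨hT, k, hk⟩
      have hzp : IsPGroup ℓ (Subgroup.zpowers (⟨h, hT⟩ : T)) := by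
        rintro ⟨y, hy⟩
        obtain ⟨m, rfl⟩ := Subgroup.mem_zpowers_iff.mp hy
        refine ⟨k, ?_⟩
        apply Subtype.ext
        show ((⟨h, hT⟩ : T) ^ m) ^ ℓ ^ k = 1
        rw [← zpow_natCast, ← zpow_mul, mul_comm, zpow_mul, zpow_natCast]
        have : (⟨h, hT⟩ : T) ^ ℓ ^ k = 1 := Subtype.ext (by simpa using hk)
        rw [this, one_zpow]
      have hzn : (Subgroup.zpowers (⟨h, hT⟩ : T)).Normal := by
        constructor
        intro n hn g
        have : g * n * g⁻¹ = n := by
          apply Subtype.ext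
          have := hTcomm g.1 g.2 n.1 n.2
          show g.1 * n.1 * g.1⁻¹ = n.1
          rw [this]; group
        rw [this]; exact hn
      have hle := IsPGroup.le_sylow_of_normal hzp Q
      exact ⟨⟨h, hT⟩, hle (Subgroup.mem_zpowers _), rfl⟩
  -- centralizer
  have hCent : Subgroup.centralizer ((P₀ : Subgroup G) : Set G) = T := by
    apply le_antisymm
    · -- find a nontrivial element
      have hnt : ∃ y ∈ P₀, y ≠ 1 := by
        by_contra hcon
        push Not at hcon
        have hbot : P₀ = ⊥ := by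
          rw [Subgroup.eq_bot_iff_forall]; exact hcon
        rw [hbot, Subgroup.card_bot] at hcardP₀
        have hpos : 0 < (Nat.card G).factorization ℓ := by
          rw [hcard]
          exact hℓp.factorization_pos_of_dvd Nat.card_pos.ne' hℓ
        have : 1 < ℓ ^ (Nat.card G).factorization ℓ :=
          Nat.one_lt_pow hpos.ne' hℓp.one_lt
        omega
      obtain ⟨y, hy, hy1⟩ := hnt
      obtain ⟨hyT, hyk⟩ := (mem_P₀ y).mp hy
      rw [← hcent y hyT hy1 hyk]
      apply Subgroup.centralizer_le
      intro z hz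
      rw [Set.mem_singleton_iff] at hz
      rw [hz]; exact hy
    · intro x hx
      rw [Subgroup.mem_centralizer_iff]
      intro y hy
      exact hTcomm y (hP₀T hy) x hx
  have hNorm : Subgroup.normalizer ((P₀ : Subgroup G) : Set G) = Subgroup.normalizer (T : Set G) := by
    apply le_antisymm
    · intro g hg
      rw [Subgroup.mem_set_normalizer_iff] at hg ⊢
      intro h
      simp only [SetLike.mem_coe]
      rw [← hCent, Subgroup.mem_centralizer_iff, Subgroup.mem_centralizer_iff]
      constructor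
      · intro hh y hy
        have hy' : g⁻¹ * y * g ∈ P₀ := by
          have := (hg (g⁻¹ * y * g))
          simp only [SetLike.mem_coe] at this
          rw [this]
          have e : g * (g⁻¹ * y * g) * g⁻¹ = y := by group
          rw [e]; exact hy
        have := hh _ hy'
        have e1 : y * (g * h * g⁻¹) = g * ((g⁻¹ * y * g) * h) * g⁻¹ := by group
        have e2 : g * h * g⁻¹ * y = g * (h * (g⁻¹ * y * g)) * g⁻¹ := by group
        rw [e1, e2, this]
      · intro hh y hy
        have hy' : g * y * g⁻¹ ∈ P₀ := by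
          have := (hg y)
          simp only [SetLike.mem_coe] at this
          rw [← this]; exact hy
        have := hh _ hy'
        have e1 : y * h = g⁻¹ * ((g * y * g⁻¹) * (g * h * g⁻¹)) * g := by group
        have e2 : h * y = g⁻¹ * ((g * h * g⁻¹) * (g * y * g⁻¹)) * g := by group
        rw [e1, e2, this]
    · intro g hg
      rw [Subgroup.mem_set_normalizer_iff] at hg ⊢
      intro h
      simp only [SetLike.mem_coe] at hg ⊢
      rw [mem_P₀, mem_P₀, ← hg h]
      constructor
      · rintro ⟨hT, k, hk⟩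
        refine ⟨hT, k, ?_⟩
        rw [conj_pow, hk]; group
      · rintro ⟨hT, k, hk⟩
        refine ⟨hT, k, ?_⟩
        rw [conj_pow] at hk
        have : h ^ ℓ ^ k = g⁻¹ * (g * h ^ ℓ ^ k * g⁻¹) * g := by group
        rw [this, hk]; group
  -- conjugacy of Sylow subgroups
  let P₀' : Sylow ℓ G := Sylow.ofCard P₀ hcardP₀
  obtain ⟨g, hg⟩ := MulAction.exists_smul_eq G P₀' P
  refine ⟨g, ?_, ?_⟩
  · have hPeq : (P : Subgroup G) = P₀.map ((MulAut.conj g : G ≃* G) : G →* G) := by
      rw [← hg, Sylow.coe_subgroup_smul, Subgroup.pointwise_smul_def]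
      rfl
    rw [hPeq, Subgroup.coe_map, ← hCent]
    exact centralizer_map_equiv_set (MulAut.conj g) _
  · have hPeq : (P : Subgroup G) = P₀.map ((MulAut.conj g : G ≃* G) : G →* G) := by
      rw [← hg, Sylow.coe_subgroup_smul, Subgroup.pointwise_smul_def]
      rfl
    rw [hPeq, normalizer_map_equiv', hNorm]

end Cfsg.Agent.Lib.Helper4_SylowTorus
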