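import Mathlib
import Cfsg.Agent.Lib.Helper4_SL2Torus
import Cfsg.Agent.Lib.Helper4_SylowTorus

namespace Cfsg.Agent.Lib.Helper4_SL2Sylow
open Matrix Cfsg.Agent.Lib.Helper4_GL2Classes0 Cfsg.Agent.Lib.Helper4_SL2Classes
  Cfsg.Agent.Lib.Helper4_SL2Card Cfsg.Agent.Lib.Helper4_SL2Cent Cfsg.Agent.Lib.Helper4_SL2Odd
  Cfsg.Agent.Lib.Helper4_PSL2ClassOdd Cfsg.Agent.Lib.Helper4_PSL2Orders
  Cfsg.Agent.Lib.Helper4_SL2Torus Cfsg.Agent.Lib.Helper4_SylowTorus

variable {F : Type*} [Field F]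

/-- the embedding of the split torus into the field -/
def phiS (t r : F) (hr : r ^ 2 - t * r + 1 = 0) : Tor t →* F where
  toFun Q := (Q.1 : Matrix (Fin 2) (Fin 2) F) 0 0 + (Q.1 : Matrix (Fin 2) (Fin 2) F) 1 0 * r
  map_one' := by simp
  map_mul' Q Q' := by
    obtain ⟨h1, h2⟩ := (mem_centralizer_C' t Q.1).mp Q.2
    have e00 : ((Q * Q' : Tor t).1 : Matrix (Fin 2) (Fin 2) F) 0 0 =
        (Q.1 : Matrix (Fin 2) (Fin 2) F) 0 0 * (Q'.1 : Matrix (Fin 2) (Fin 2) F) 0 0 -
        (Q.1 : Matrix (Fin 2) (Fin 2) F) 1 0 * (Q'.1 : Matrix (Fin 2) (Fin 2) F) 1 0 := by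
      rw [Subgroup.coe_mul, Matrix.SpecialLinearGroup.coe_mul, Matrix.mul_apply, Fin.sum_univ_two, h1]
      ring
    have e10 : ((Q * Q' : Tor t).1 : Matrix (Fin 2) (Fin 2) F) 1 0 =
        (Q.1 : Matrix (Fin 2) (Fin 2) F) 1 0 * (Q'.1 : Matrix (Fin 2) (Fin 2) F) 0 0 +
        ((Q.1 : Matrix (Fin 2) (Fin 2) F) 0 0 + t * (Q.1 : Matrix (Fin 2) (Fin 2) F) 1 0) *
          (Q'.1 : Matrix (Fin 2) (Fin 2) F) 1 0 := by
      rw [Subgroup.coe_mul, Matrix.SpecialLinearGroup.coe_mul, Matrix.mul_apply, Fin.sum_univ_two, h2]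
    rw [e00, e10]
    linear_combination (-((Q.1 : Matrix (Fin 2) (Fin 2) F) 1 0) *
      ((Q'.1 : Matrix (Fin 2) (Fin 2) F) 1 0)) * hr

theorem phiS_injective (t r : F) (hr : r ^ 2 - t * r + 1 = 0) (ht : t ^ 2 ≠ 4) :
    Function.Injective (phiS t r hr) := by
  rw [injective_iff_map_eq_one]
  intro Q hQ
  obtain ⟨h1, h2⟩ := (mem_centralizer_C' t Q.1).mp Q.2
  have hdet := Q.1.det_coe
  rw [Matrix.det_fin_two, h1, h2] at hdet
  have hQ' : (Q.1 : Matrix (Fin 2) (Fin 2) F) 0 0 + (Q.1 : Matrix (Fin 2) (Fin 2) F) 1 0 * r = 1 := hQ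
  set x := (Q.1 : Matrix (Fin 2) (Fin 2) F) 0 0
  set z := (Q.1 : Matrix (Fin 2) (Fin 2) F) 1 0
  have hr0 : r ≠ 0 := by
    rintro rfl
    simp at hr
  -- (x + z r)(x + z (t - r)) = 1
  have hfac : (x + z * r) * (x + z * (t - r)) = 1 := by
    linear_combination hdet - z ^ 2 * hr
  rw [hQ', one_mul] at hfac
  have hz : z * (t - 2 * r) = 0 := by linear_combination hfac - hQ'
  have hne : t - 2 * r ≠ 0 := by
    intro h
    apply ht
    have : t = 2 * r := by linear_combination h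
    rw [this] at hr
    have : r ^ 2 = 1 := by linear_combination -hr
    rw [‹t = 2 * r›]
    linear_combination 4 * this
  have hz0 : z = 0 := by
    rcases mul_eq_zero.mp hz with h | h
    · exact h
    · exact absurd h hne
  have hx1 : x = 1 := by
    rw [hz0] at hQ'
    linear_combination hQ'
  apply Subtype.ext
  apply Subtype.ext
  ext i j
  fin_cases i <;> fin_cases j
  · exact hx1
  · show (Q.1 : Matrix (Fin 2) (Fin 2) F) 0 1 = 0
    rw [h1]; show -z = 0; rw [hz0, neg_zero]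
  · exact hz0
  · show (Q.1 : Matrix (Fin 2) (Fin 2) F) 1 1 = 1
    rw [h2]; show x + t * z = 1; rw [hx1, hz0]; ring

theorem torus_cyclic_split [Finite F] (t r : F) (hr : r ^ 2 - t * r + 1 = 0) (ht : t ^ 2 ≠ 4) :
    IsCyclic (Tor t) :=
  isCyclic_of_injective_ringHom (phiS t r hr) (phiS_injective t r hr ht)

theorem N1_pow_odd (n : ℕ) (hn : Odd n) : (N1 : Matrix.SpecialLinearGroup (Fin 2) F) ^ n = N1 := by
  obtain ⟨m, rfl⟩ := hn
  rw [pow_succ, pow_mul, pow_two, N1_mul_N1, one_pow, one_mul]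

/-- the general statement for a torus -/
theorem sylow_torus [Fintype F] (hodd : Odd (Fintype.card F)) (ℓ : ℕ) [Fact ℓ.Prime] (hℓ : ℓ ≠ 2)
    (t : F) (ht : t ^ 2 ≠ 4) (hcyc : IsCyclic (Tor t)) (n : ℕ) (hn : Nat.card (Tor t) = n)
    (hℓn : ℓ ∣ n) (m : ℕ) (hm : Fintype.card F * (Fintype.card F ^ 2 - 1) = n * m) (hℓm : ¬ ℓ ∣ m)
    (P : Sylow ℓ (Matrix.SpecialLinearGroup (Fin 2) F)) :
    Nat.card (Subgroup.centralizer ((P : Subgroup (Matrix.SpecialLinearGroup (Fin 2) F)) : Set (Matrix.SpecialLinearGroup (Fin 2) F))) = n ∧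
      IsCyclic (Subgroup.centralizer ((P : Subgroup (Matrix.SpecialLinearGroup (Fin 2) F)) : Set (Matrix.SpecialLinearGroup (Fin 2) F))) ∧
      Nat.card (Subgroup.normalizer ((P : Subgroup (Matrix.SpecialLinearGroup (Fin 2) F)) : Set (Matrix.SpecialLinearGroup (Fin 2) F))) = 2 * n := by
  have hℓp : ℓ.Prime := Fact.out
  have h2 := two_ne_zero' hodd
  have hnpos : 0 < n := by rw [← hn]; exact Nat.card_pos
  have hmpos : 0 < m := by
    rcases Nat.eq_zero_or_pos m with h | h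
    · exfalso; apply hℓm; rw [h]; exact dvd_zero _
    · exact h
  have hcard : (Nat.card (Matrix.SpecialLinearGroup (Fin 2) F)).factorization ℓ =
      (Nat.card (Tor t)).factorization ℓ := by
    rw [card_SL2, hm, hn, Nat.factorization_mul hnpos.ne' hmpos.ne', Finsupp.add_apply,
      Nat.factorization_eq_zero_of_not_dvd hℓm, add_zero]
  have hℓodd : Odd ℓ := hℓp.odd_of_ne_two hℓ
  obtain ⟨g, hC, hN⟩ := sylow_in_torus ℓ (Tor t)
    (fun a ha b hb => Tor_comm t a b ha hb) hcard (by rw [hn]; exact hℓn)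
    (by
      intro y hy hy1 ⟨k, hk⟩
      apply centralizer_eq_Tor t y hy
      by_contra hns
      have := not_NS_mem_center _ hns
      rw [mem_center_iff'] at this
      rcases this with h | h
      · exact hy1 h
      · rw [h, N1_pow_odd _ (hℓodd.pow)] at hk
        exact N1_ne_one h2 hk)
    P
  refine ⟨?_, ?_, ?_⟩
  · rw [hC, Subgroup.card_map_of_injective (MulAut.conj g).injective, hn]
  · rw [hC]
    exact (Subgroup.equivMapOfInjective (Tor t) _ (MulAut.conj g).injective).isCyclic.mp hcyc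
  · rw [hN, Subgroup.card_map_of_injective (MulAut.conj g).injective]
    have := card_NTor hodd t ht
    rw [hn] at this
    exact this

theorem main [Fintype F] (hodd : Odd (Fintype.card F)) (ℓ : ℕ) [Fact ℓ.Prime] (hℓ : ℓ ≠ 2)
    (P : Sylow ℓ (Matrix.SpecialLinearGroup (Fin 2) F)) :
    (ℓ ∣ Fintype.card F - 1 →
      Nat.card (Subgroup.centralizer ((P : Subgroup (Matrix.SpecialLinearGroup (Fin 2) F)) : Set (Matrix.SpecialLinearGroup (Fin 2) F))) = Fintype.card F - 1 ∧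
      IsCyclic (Subgroup.centralizer ((P : Subgroup (Matrix.SpecialLinearGroup (Fin 2) F)) : Set (Matrix.SpecialLinearGroup (Fin 2) F))) ∧
      Nat.card (Subgroup.normalizer ((P : Subgroup (Matrix.SpecialLinearGroup (Fin 2) F)) : Set (Matrix.SpecialLinearGroup (Fin 2) F))) = 2 * (Fintype.card F - 1)) ∧
    (ℓ ∣ Fintype.card F + 1 →
      Nat.card (Subgroup.centralizer ((P : Subgroup (Matrix.SpecialLinearGroup (Fin 2) F)) : Set (Matrix.SpecialLinearGroup (Fin 2) F))) = Fintype.card F + 1 ∧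
      IsCyclic (Subgroup.centralizer ((P : Subgroup (Matrix.SpecialLinearGroup (Fin 2) F)) : Set (Matrix.SpecialLinearGroup (Fin 2) F))) ∧
      Nat.card (Subgroup.normalizer ((P : Subgroup (Matrix.SpecialLinearGroup (Fin 2) F)) : Set (Matrix.SpecialLinearGroup (Fin 2) F))) = 2 * (Fintype.card F + 1)) := by
  have hℓp : ℓ.Prime := Fact.out
  have h2 := two_ne_zero' hodd
  have hℓ3 : 3 ≤ ℓ := by
    have := hℓp.two_le
    omega
  have hq1 : 1 ≤ Fintype.card F := Fintype.card_pos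
  set q := Fintype.card F with hq
  have hsq : q ^ 2 - 1 = (q - 1) * (q + 1) := sq_sub_one q hq1
  -- coprimality facts
  have hnq_of : ∀ n, (n = q - 1 ∨ n = q + 1) → ℓ ∣ n → ¬ ℓ ∣ q := by
    intro n hn hd hdq
    have : ℓ ∣ 1 := by
      rcases hn with rfl | rfl
      · have : ℓ ∣ q - (q - 1) := Nat.dvd_sub hdq hd
        have e : q - (q - 1) = 1 := by omega
        rwa [e] at this
      · have : ℓ ∣ (q + 1) - q := Nat.dvd_sub hd hdq
        have e : q + 1 - q = 1 := by omega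
        rwa [e] at this
    have := Nat.le_of_dvd (by norm_num) this
    omega
  have hnot_both : ℓ ∣ q - 1 → ℓ ∣ q + 1 → False := by
    intro h1 h2'
    have : ℓ ∣ (q + 1) - (q - 1) := Nat.dvd_sub h2' h1
    have e : q + 1 - (q - 1) = 2 := by omega
    rw [e] at this
    have := Nat.le_of_dvd (by norm_num) this
    omega
  constructor
  · intro hd
    -- q ≥ 7
    have h7 : 7 ≤ q := by
      obtain ⟨k, hk⟩ := hodd
      have h2d : 2 ∣ q - 1 := ⟨k, by omega⟩
      have hcop : Nat.Coprime 2 ℓ := (Nat.coprime_primes Nat.prime_two hℓp).mpr hℓ.symm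
      have := Nat.Coprime.mul_dvd_of_dvd_of_dvd hcop h2d hd
      have hpos : 0 < q - 1 := by
        rcases Nat.eq_zero_or_pos (q - 1) with h | h
        · exfalso
          have hq1' : q = 1 := by omega
          have : 1 < q := Fintype.one_lt_card
          omega
        · exact h
      have := Nat.le_of_dvd hpos this
      omega
    obtain ⟨t, r, _, ht4, hr⟩ := exists_split (F := F) h7
    have hmul : q * (q ^ 2 - 1) = (q - 1) * (q * (q + 1)) := by rw [hsq]; ring
    refine sylow_torus hodd ℓ hℓ t ht4 (torus_cyclic_split t r hr ht4) (q - 1)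
      (card_torus_split t r hr ht4) hd (q * (q + 1)) hmul ?_ P
    intro hdm
    rcases (Nat.Prime.dvd_mul hℓp).mp hdm with h | h
    · exact hnq_of (q - 1) (Or.inl rfl) hd h
    · exact hnot_both hd h
  · intro hd
    obtain ⟨t, ht⟩ := exists_aniso_any (F := F)
    have ht4 := aniso_ne' h2 t ht
    have hmul : q * (q ^ 2 - 1) = (q + 1) * (q * (q - 1)) := by rw [hsq]; ring
    refine sylow_torus hodd ℓ hℓ t ht4 (torus_cyclic t ht) (q + 1)
      (card_torus_aniso t ht) hd (q * (q - 1)) hmul ?_ P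
    intro hdm
    rcases (Nat.Prime.dvd_mul hℓp).mp hdm with h | h
    · exact hnq_of (q + 1) (Or.inr rfl) hd h
    · exact hnot_both h hd

end Cfsg.Agent.Lib.Helper4_SL2Sylow
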