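-- helper4: centralizer and normalizer of a Sylow 2-subgroup of SL_2(q), q odd
import Mathlib
import Cfsg.Agent.Lib.Helper4_SL2Torus
import Cfsg.Agent.Lib.Helper4_SL2Sylow
import Cfsg.Agent.Lib.Helper4_SylowTorus
import Cfsg.Agent.Lib.Helper4_Q8Norm

set_option autoImplicit false
set_option linter.unusedSectionVars false
set_option linter.unusedVariables false

namespace Cfsg.Agent.Lib.Helper4_SL2Syl2
open Matrix Cfsg.Agent.Lib.Helper4_GL2Classes0 Cfsg.Agent.Lib.Helper4_SL2Classes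
  Cfsg.Agent.Lib.Helper4_SL2Card Cfsg.Agent.Lib.Helper4_SL2Cent Cfsg.Agent.Lib.Helper4_SL2Odd
  Cfsg.Agent.Lib.Helper4_PSL2ClassOdd Cfsg.Agent.Lib.Helper4_PSL2Orders
  Cfsg.Agent.Lib.Helper4_SL2Torus Cfsg.Agent.Lib.Helper4_SL2Sylow
  Cfsg.Agent.Lib.Helper4_SylowTorus Cfsg.Agent.Lib.Helper4_Q8Norm
open scoped Pointwise

section generic
variable {G : Type*} [Group G]

/-- a `p`-element normalizing a Sylow `p`-subgroup lies in it -/
theorem mem_sylow_of_normalizes (p : ℕ) [Fact p.Prime] (S : Sylow p G) (g : G)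
    (hg : g ∈ Subgroup.normalizer ((S : Subgroup G) : Set G)) (k : ℕ) (hk : g ^ (p ^ k) = 1) :
    g ∈ (S : Subgroup G) := by
  have hz : IsPGroup p (Subgroup.zpowers g) := by
    rintro ⟨y, hy⟩
    obtain ⟨m, rfl⟩ := Subgroup.mem_zpowers_iff.mp hy
    refine ⟨k, ?_⟩
    apply Subtype.ext
    show (g ^ m) ^ p ^ k = 1
    rw [← zpow_natCast, ← _root_.zpow_mul, mul_comm, _root_.zpow_mul, zpow_natCast, hk, _root_.one_zpow]
  have hsup : IsPGroup p (Subgroup.zpowers g ⊔ (S : Subgroup G) : Subgroup G) := by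
    apply IsPGroup.to_sup_of_normal_right' hz S.isPGroup'
    rw [Subgroup.zpowers_le]
    exact hg
  have := S.is_maximal' hsup le_sup_right
  rw [← this]
  exact Subgroup.mem_sup_left (Subgroup.mem_zpowers g)

theorem sylow_transfer [Finite G] (p : ℕ) [Fact p.Prime] (P₀ P : Sylow p G) :
    ∃ g : G, (P : Subgroup G) = (P₀ : Subgroup G).map ((MulAut.conj g : G ≃* G) : G →* G) ∧
      Subgroup.centralizer ((P : Subgroup G) : Set G) =
        (Subgroup.centralizer ((P₀ : Subgroup G) : Set G)).map ((MulAut.conj g : G ≃* G) : G →* G) ∧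
      Subgroup.normalizer ((P : Subgroup G) : Set G) =
        (Subgroup.normalizer ((P₀ : Subgroup G) : Set G)).map ((MulAut.conj g : G ≃* G) : G →* G) := by
  obtain ⟨g, hg⟩ := MulAction.exists_smul_eq G P₀ P
  have hPeq : (P : Subgroup G) = (P₀ : Subgroup G).map ((MulAut.conj g : G ≃* G) : G →* G) := by
    rw [← hg, Sylow.coe_subgroup_smul, Subgroup.pointwise_smul_def]
    rfl
  refine ⟨g, hPeq, ?_, ?_⟩
  · rw [hPeq, Subgroup.coe_map]
    exact centralizer_map_equiv_set (MulAut.conj g) _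
  · rw [hPeq, normalizer_map_equiv']

theorem center_map_conj (g : G) :
    (Subgroup.center G).map ((MulAut.conj g : G ≃* G) : G →* G) = Subgroup.center G := by
  ext x
  constructor
  · rintro ⟨y, hy, rfl⟩
    have hy' : y ∈ Subgroup.center G := hy
    have : ((MulAut.conj g : G ≃* G) : G →* G) y = y := by
      show g * y * g⁻¹ = y
      rw [Subgroup.mem_center_iff] at hy'
      rw [hy' g]; group
    rw [this]; exact hy
  · intro hx
    refine ⟨x, hx, ?_⟩
    show g * x * g⁻¹ = x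
    rw [Subgroup.mem_center_iff] at hx
    rw [hx g]; group

end generic

variable {F : Type*} [Field F] [Fintype F]

/-- an element outside the torus inverts it -/
theorem inv_of_outer (hodd : Odd (Fintype.card F)) (t : F) (ht : t ^ 2 ≠ 4)
    (g h : Matrix.SpecialLinearGroup (Fin 2) F) (hg : g ∈ NTor t) (hgT : g ∉ Tor t)
    (hh : h ∈ Tor t) : g * h * g⁻¹ = h⁻¹ := by
  have h1 := sq_of_mem_NTor hodd t ht g hg hgT
  have hghN : g * h ∈ NTor t := (NTor t).mul_mem hg (Tor_le_NTor t hh)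
  have hghT : g * h ∉ Tor t := by
    intro hc
    apply hgT
    have := (Tor t).mul_mem hc ((Tor t).inv_mem hh)
    rwa [mul_inv_cancel_right] at this
  have h2 := sq_of_mem_NTor hodd t ht (g * h) hghN hghT
  have h3 : h * g * h = g := by
    have : g * (h * g * h) = g * g := by
      rw [h1, ← h2]; group
    exact mul_left_cancel this
  calc g * h * g⁻¹ = h⁻¹ * (h * g * h) * g⁻¹ := by group
    _ = h⁻¹ := by rw [h3]; group

theorem outer_mul_outer (hodd : Odd (Fintype.card F)) (t : F) (ht : t ^ 2 ≠ 4)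
    (g g' : Matrix.SpecialLinearGroup (Fin 2) F) (hg : g ∈ NTor t) (hgT : g ∉ Tor t)
    (hg' : g' ∈ NTor t) (hgT' : g' ∉ Tor t) : g * g' ∈ Tor t := by
  have h2 := two_ne_zero' hodd
  have e1 : g * C' t * g⁻¹ = (C' t)⁻¹ := by
    rcases (mem_normalizer_Tor h2 t ht g).mp hg with h | h
    · exact absurd ((mem_Tor_iff_conj t g).mpr h) hgT
    · exact h
  have e2 : g' * C' t * g'⁻¹ = (C' t)⁻¹ := by
    rcases (mem_normalizer_Tor h2 t ht g').mp hg' with h | h
    · exact absurd ((mem_Tor_iff_conj t g').mpr h) hgT'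
    · exact h
  rw [mem_Tor_iff_conj]
  have e : g * g' * C' t * (g * g')⁻¹ = g * (g' * C' t * g'⁻¹) * g⁻¹ := by group
  have e3 : g * (C' t)⁻¹ * g⁻¹ = (g * C' t * g⁻¹)⁻¹ := by group
  rw [e, e2, e3, e1, inv_inv]

theorem pow_four_outer (hodd : Odd (Fintype.card F)) (t : F) (ht : t ^ 2 ≠ 4)
    (g : Matrix.SpecialLinearGroup (Fin 2) F) (hg : g ∈ NTor t) (hgT : g ∉ Tor t) :
    g ^ 4 = 1 := by
  have h1 := sq_of_mem_NTor hodd t ht g hg hgT
  calc g ^ 4 = (g * g) * (g * g) := by rw [show (4 : ℕ) = 2 + 2 from rfl, pow_add, pow_two]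
    _ = 1 := by rw [h1, N1_mul_N1]

omit [Fintype F] in
theorem NS_of_ne (x : Matrix.SpecialLinearGroup (Fin 2) F) (h1 : x ≠ 1) (h2 : x ≠ N1) :
    NS (x : Matrix (Fin 2) (Fin 2) F) := by
  by_contra hns
  have := not_NS_mem_center _ hns
  rw [mem_center_iff'] at this
  rcases this with h | h
  · exact h1 h
  · exact h2 h

omit [Fintype F] in
theorem NS_of_order (x : Matrix.SpecialLinearGroup (Fin 2) F) (k : ℕ) (hk : 2 ≤ k)
    (hx : orderOf x = 2 ^ k) : NS (x : Matrix (Fin 2) (Fin 2) F) := by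
  have h4 : 4 ∣ orderOf x := by
    rw [hx]
    exact pow_dvd_pow 2 hk
  apply NS_of_ne
  · rintro rfl
    rw [orderOf_one] at h4
    omega
  · rintro rfl
    have : orderOf (N1 : Matrix.SpecialLinearGroup (Fin 2) F) ∣ 2 := by
      apply orderOf_dvd_of_pow_eq_one
      rw [pow_two, N1_mul_N1]
    have := Nat.dvd_trans h4 this
    omega

theorem structure_S (hodd : Odd (Fintype.card F)) (t : F) (ht : t ^ 2 ≠ 4)
    (hcyc : IsCyclic (Tor t)) (k m : ℕ) (hm : Odd m) (hcardT : Nat.card (Tor t) = 2 ^ k * m)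
    (S : Sylow 2 (Matrix.SpecialLinearGroup (Fin 2) F))
    (hS : Nat.card (S : Subgroup (Matrix.SpecialLinearGroup (Fin 2) F)) = 2 ^ (k + 1))
    (hSN : (S : Subgroup (Matrix.SpecialLinearGroup (Fin 2) F)) ≤ NTor t) :
    ∃ x y : Matrix.SpecialLinearGroup (Fin 2) F,
      x ∈ (S : Subgroup (Matrix.SpecialLinearGroup (Fin 2) F)) ∧ x ∈ Tor t ∧ orderOf x = 2 ^ k ∧
      y ∈ (S : Subgroup (Matrix.SpecialLinearGroup (Fin 2) F)) ∧ y ∉ Tor t ∧
      ∀ s ∈ (S : Subgroup (Matrix.SpecialLinearGroup (Fin 2) F)), s ∈ Tor t →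
        s ∈ Subgroup.zpowers x := by
  -- an outer element
  have hy : ∃ y ∈ (S : Subgroup (Matrix.SpecialLinearGroup (Fin 2) F)), y ∉ Tor t := by
    by_contra hcon
    push Not at hcon
    have hle : (S : Subgroup (Matrix.SpecialLinearGroup (Fin 2) F)) ≤ Tor t := hcon
    have hd := Subgroup.card_dvd_of_le hle
    rw [hS, hcardT, pow_succ] at hd
    have h2m : 2 ∣ m := Nat.dvd_of_mul_dvd_mul_left (by positivity) hd
    obtain ⟨j, rfl⟩ := hm
    omega
  obtain ⟨y, hyS, hyT⟩ := hy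
  have hrel : (Tor t).relIndex (S : Subgroup (Matrix.SpecialLinearGroup (Fin 2) F)) = 2 := by
    rw [Subgroup.relIndex_eq_two_iff]
    refine ⟨y, hyS, ?_⟩
    intro b hb
    by_cases hbT : b ∈ Tor t
    · right
      refine ⟨hbT, ?_⟩
      intro hc
      apply hyT
      have := (Tor t).mul_mem ((Tor t).inv_mem hbT) hc
      rwa [inv_mul_cancel_left] at this
    · left
      exact ⟨outer_mul_outer hodd t ht b y (hSN hb) hbT (hSN hyS) hyT, hbT⟩
  set D : Subgroup (S : Subgroup (Matrix.SpecialLinearGroup (Fin 2) F)) :=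
    (Tor t).subgroupOf (S : Subgroup (Matrix.SpecialLinearGroup (Fin 2) F)) with hD
  have hDidx : D.index = 2 := hrel
  have hDcard : Nat.card D = 2 ^ k := by
    have := Subgroup.card_mul_index D
    rw [hDidx, hS, pow_succ] at this
    exact Nat.eq_of_mul_eq_mul_right (by norm_num) this
  let f : D →* Tor t :=
    (((S : Subgroup (Matrix.SpecialLinearGroup (Fin 2) F)).subtype).comp D.subtype).codRestrict (Tor t)
      (fun d => Subgroup.mem_subgroupOf.mp d.2)
  have hf : Function.Injective f := by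
    intro a b hab
    have := congrArg (fun z : Tor t => (z : Matrix.SpecialLinearGroup (Fin 2) F)) hab
    exact Subtype.ext (Subtype.ext this)
  have hDcyc : IsCyclic D := isCyclic_of_injective f hf
  obtain ⟨d, hd⟩ := hDcyc.exists_generator
  have hdo : orderOf d = 2 ^ k := by
    rw [orderOf_eq_card_of_forall_mem_zpowers hd, hDcard]
  refine ⟨d.1.1, y, d.1.2, Subgroup.mem_subgroupOf.mp d.2, ?_, hyS, hyT, ?_⟩
  · rw [← hdo, Subgroup.orderOf_coe, Subgroup.orderOf_coe]
  · intro s hs hsT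
    have hmem := hd ⟨⟨s, hs⟩, Subgroup.mem_subgroupOf.mpr hsT⟩
    obtain ⟨j, hj⟩ := Subgroup.mem_zpowers_iff.mp hmem
    rw [Subgroup.mem_zpowers_iff]
    refine ⟨j, ?_⟩
    have := congrArg (fun z : D => ((z : (S : Subgroup (Matrix.SpecialLinearGroup (Fin 2) F))) : Matrix.SpecialLinearGroup (Fin 2) F)) hj
    simpa using this

theorem mem_S_of_mem_NTor (hodd : Odd (Fintype.card F)) (t : F) (ht : t ^ 2 ≠ 4)
  (S : Sylow 2 (Matrix.SpecialLinearGroup (Fin 2) F))
  (hSN : (S : Subgroup (Matrix.SpecialLinearGroup (Fin 2) F)) ≤ NTor t)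
  (x y : Matrix.SpecialLinearGroup (Fin 2) F) (k : ℕ)
  (hxo : orderOf x = 2 ^ k)
  (hyS : y ∈ (S : Subgroup (Matrix.SpecialLinearGroup (Fin 2) F))) (hyT : y ∉ Tor t)
  (hgen : ∀ s ∈ (S : Subgroup (Matrix.SpecialLinearGroup (Fin 2) F)), s ∈ Tor t →
        s ∈ Subgroup.zpowers x) (g : Matrix.SpecialLinearGroup (Fin 2) F) (hgN : g ∈ NTor t)
    (hgS : g ∈ Subgroup.normalizer ((S : Subgroup (Matrix.SpecialLinearGroup (Fin 2) F)) :
      Set (Matrix.SpecialLinearGroup (Fin 2) F))) :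
    g ∈ (S : Subgroup (Matrix.SpecialLinearGroup (Fin 2) F)) := by
  by_cases hgT : g ∈ Tor t
  · -- g * g ∈ S
    have hs : g * y * g⁻¹ ∈ (S : Subgroup (Matrix.SpecialLinearGroup (Fin 2) F)) :=
      ((Subgroup.mem_normalizer_iff (H := (S : Subgroup (Matrix.SpecialLinearGroup (Fin 2) F)))).mp hgS y).mp hyS
    have hinv := inv_of_outer hodd t ht y g⁻¹ (hSN hyS) hyT ((Tor t).inv_mem hgT)
    rw [inv_inv] at hinv
    have e : g * y * g⁻¹ = g * g * y := by
      calc g * y * g⁻¹ = g * (y * g⁻¹ * y⁻¹) * y := by group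
        _ = g * g * y := by rw [hinv]
    rw [e] at hs
    have hgg : g * g ∈ (S : Subgroup (Matrix.SpecialLinearGroup (Fin 2) F)) := by
      have := (S : Subgroup (Matrix.SpecialLinearGroup (Fin 2) F)).mul_mem hs
        ((S : Subgroup (Matrix.SpecialLinearGroup (Fin 2) F)).inv_mem hyS)
      rwa [mul_inv_cancel_right] at this
    have hz := hgen _ hgg ((Tor t).mul_mem hgT hgT)
    obtain ⟨j, hj⟩ := Subgroup.mem_zpowers_iff.mp hz
    apply mem_sylow_of_normalizes 2 S g hgS (k + 1)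
    rw [pow_succ, mul_comm, pow_mul, pow_two, ← hj, ← zpow_natCast, ← _root_.zpow_mul, mul_comm,
      _root_.zpow_mul, zpow_natCast, ← hxo, pow_orderOf_eq_one, _root_.one_zpow]
  · apply mem_sylow_of_normalizes 2 S g hgS 2
    exact pow_four_outer hodd t ht g hgN hgT

theorem centralizer_S (hodd : Odd (Fintype.card F)) (t : F) (ht : t ^ 2 ≠ 4)
  (S : Sylow 2 (Matrix.SpecialLinearGroup (Fin 2) F))
  (hSN : (S : Subgroup (Matrix.SpecialLinearGroup (Fin 2) F)) ≤ NTor t)
  (x y : Matrix.SpecialLinearGroup (Fin 2) F) (k : ℕ) (hk : 2 ≤ k)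
  (hxS : x ∈ (S : Subgroup (Matrix.SpecialLinearGroup (Fin 2) F))) (hxT : x ∈ Tor t)
  (hxo : orderOf x = 2 ^ k)
  (hyS : y ∈ (S : Subgroup (Matrix.SpecialLinearGroup (Fin 2) F))) (hyT : y ∉ Tor t) :
    Subgroup.centralizer ((S : Subgroup (Matrix.SpecialLinearGroup (Fin 2) F)) :
      Set (Matrix.SpecialLinearGroup (Fin 2) F)) =
      Subgroup.center (Matrix.SpecialLinearGroup (Fin 2) F) := by
  have h2 := two_ne_zero' hodd
  apply le_antisymm
  · intro g hg
    rw [Subgroup.mem_centralizer_iff] at hg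
    have hxNS := NS_of_order x k hk hxo
    have hgT : g ∈ Tor t := by
      rw [← centralizer_eq_Tor t x hxT hxNS, Subgroup.mem_centralizer_iff]
      intro h hh
      rw [Set.mem_singleton_iff] at hh
      rw [hh]
      exact hg x hxS
    have hinv := inv_of_outer hodd t ht y g (hSN hyS) hyT hgT
    have hc := hg y hyS
    have hgg : g * g = 1 := by
      have : g⁻¹ = g := by
        rw [← hinv, hc]; group
      calc g * g = g * g⁻¹ := by nth_rw 2 [← this]
        _ = 1 := mul_inv_cancel g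
    rw [mem_center_iff']
    exact sq_eq_one_cases h2 g hgg
  · exact Subgroup.center_le_centralizer _

theorem normalizer_S (hodd : Odd (Fintype.card F)) (t : F) (ht : t ^ 2 ≠ 4)
  (S : Sylow 2 (Matrix.SpecialLinearGroup (Fin 2) F))
  (hSN : (S : Subgroup (Matrix.SpecialLinearGroup (Fin 2) F)) ≤ NTor t)
  (x y : Matrix.SpecialLinearGroup (Fin 2) F) (k : ℕ) (hk : 2 ≤ k)
  (hxS : x ∈ (S : Subgroup (Matrix.SpecialLinearGroup (Fin 2) F))) (hxT : x ∈ Tor t)
  (hxo : orderOf x = 2 ^ k)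
  (hyS : y ∈ (S : Subgroup (Matrix.SpecialLinearGroup (Fin 2) F))) (hyT : y ∉ Tor t)
  (hgen : ∀ s ∈ (S : Subgroup (Matrix.SpecialLinearGroup (Fin 2) F)), s ∈ Tor t →
        s ∈ Subgroup.zpowers x) (hk3 : 3 ≤ k) :
    Subgroup.normalizer ((S : Subgroup (Matrix.SpecialLinearGroup (Fin 2) F)) :
      Set (Matrix.SpecialLinearGroup (Fin 2) F)) =
      (S : Subgroup (Matrix.SpecialLinearGroup (Fin 2) F)) := by
  have h2 := two_ne_zero' hodd
  apply le_antisymm
  · intro g hg
    apply mem_S_of_mem_NTor hodd t ht S hSN x y k hxo hyS hyT hgen g _ hg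
    -- g ∈ NTor t
    set s := g * x * g⁻¹ with hs
    have hsS : s ∈ (S : Subgroup (Matrix.SpecialLinearGroup (Fin 2) F)) :=
      ((Subgroup.mem_normalizer_iff (H := (S : Subgroup (Matrix.SpecialLinearGroup (Fin 2) F)))).mp hg x).mp hxS
    have hso : orderOf s = 2 ^ k := by
      rw [← hxo]
      exact (MulAut.conj g).orderOf_eq x
    have hsT : s ∈ Tor t := by
      by_contra hc
      have h4 := pow_four_outer hodd t ht s (hSN hsS) hc
      have hd := orderOf_dvd_of_pow_eq_one h4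
      rw [hso] at hd
      have h8 : (2 : ℕ) ^ 3 ∣ 2 ^ k := pow_dvd_pow 2 hk3
      have := Nat.dvd_trans h8 hd
      omega
    have hsNS := NS_of_order s k hk hso
    have hcT : g * C' t * g⁻¹ ∈ Tor t := by
      rw [← centralizer_eq_Tor t s hsT hsNS, Subgroup.mem_centralizer_iff]
      intro h hh
      rw [Set.mem_singleton_iff] at hh
      rw [hh, hs]
      have hcomm : x * C' t = C' t * x := Tor_comm t x (C' t) hxT (C'_mem t)
      calc g * x * g⁻¹ * (g * C' t * g⁻¹) = g * (x * C' t) * g⁻¹ := by group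
        _ = g * (C' t * x) * g⁻¹ := by rw [hcomm]
        _ = g * C' t * g⁻¹ * (g * x * g⁻¹) := by group
    rw [NTor, mem_normalizer_Tor h2 t ht]
    apply eq_of_trace h2 t ht _ hcT
    have hc : IsConj (C' t) (g * C' t * g⁻¹) := isConj_iff.mpr ⟨g, rfl⟩
    rw [← trace_eq_of_conj _ _ hc]
    exact C'_trace t
  · exact Subgroup.le_normalizer

omit [Fintype F] in
theorem exists_omega_SL (h2 : (2 : F) ≠ 0) (x y : Matrix.SpecialLinearGroup (Fin 2) F)
    (hxx : x * x = N1) (hyy : y * y = N1) (hyx : y * x = N1 * (x * y)) :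
    ∃ w : Matrix.SpecialLinearGroup (Fin 2) F, w * x * w⁻¹ = x * y ∧ w * y * w⁻¹ = x ∧ w ^ 3 = 1 := by
  set I : Matrix (Fin 2) (Fin 2) F := (x : Matrix (Fin 2) (Fin 2) F) with hI
  set J : Matrix (Fin 2) (Fin 2) F := (y : Matrix (Fin 2) (Fin 2) F) with hJ
  set K : Matrix (Fin 2) (Fin 2) F := I * J with hK
  have hII : I * I = -1 := by
    have := congrArg (fun g : Matrix.SpecialLinearGroup (Fin 2) F => (g : Matrix (Fin 2) (Fin 2) F)) hxx
    simpa [N1_val] using this
  have hJJ : J * J = -1 := by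
    have := congrArg (fun g : Matrix.SpecialLinearGroup (Fin 2) F => (g : Matrix (Fin 2) (Fin 2) F)) hyy
    simpa [N1_val] using this
  have hJI' : J * I = -K := by
    have := congrArg (fun g : Matrix.SpecialLinearGroup (Fin 2) F => (g : Matrix (Fin 2) (Fin 2) F)) hyx
    simpa [N1_val] using this
  have hJI : J * I = -(I * J) := hJI'
  obtain ⟨t1, t2, t3, t4, t5⟩ := omega_table I J K hII hJJ rfl hJI'
  have t6 := omega_sq I J K hII hJJ rfl hJI'
  set A : Matrix (Fin 2) (Fin 2) F := -1 + I + J + K with hA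
  set A' : Matrix (Fin 2) (Fin 2) F := -1 - I - J - K with hA'
  set h : F := 2⁻¹ with hh
  have hh2 : 2 * h = 1 := mul_inv_cancel₀ h2
  clear_value h
  have hh4 : h * h * 4 = 1 := by linear_combination (2 * h + 1) * hh2
  have w1 : (h • A) * (h • A') = 1 := by
    rw [Matrix.smul_mul, Matrix.mul_smul, t1, smul_smul, smul_smul, hh4, one_smul]
  have w2 : (h • A') * (h • A) = 1 := by
    rw [Matrix.smul_mul, Matrix.mul_smul, t2, smul_smul, smul_smul, hh4, one_smul]
  have conj_val : ∀ M : Matrix (Fin 2) (Fin 2) F, (h • A) * M * (h • A') = (h * h) • (A * M * A') := by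
    intro M
    rw [Matrix.smul_mul, Matrix.smul_mul, Matrix.mul_smul, smul_smul]
  have c1 : (h • A) * I * (h • A') = K := by
    rw [conj_val, t3, smul_smul, hh4, one_smul]
  have c2 : (h • A) * J * (h • A') = I := by
    rw [conj_val, t4, smul_smul, hh4, one_smul]
  have hJI2 : I * J = -(J * I) := by rw [hJI']; simp [hK]
  have hNSI : NS I := ns_of_anticomm h2 I J hII hJJ hJI
  have hNSJ : NS J := ns_of_anticomm h2 J I hJJ hII hJI2
  have htI := (tr_det_of_sq I hII hNSI).1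
  have htJ := (tr_det_of_sq J hJJ hNSJ).1
  have htK : K.trace = 0 := by
    have h1 : (I * J).trace = (J * I).trace := Matrix.trace_mul_comm I J
    rw [hJI', Matrix.trace_neg] at h1
    have h3 : (2 : F) * K.trace = 0 := by linear_combination h1
    exact (mul_eq_zero.1 h3).resolve_left h2
  have htrace : (h • A).trace = -1 := by
    rw [Matrix.trace_smul, hA, Matrix.trace_add, Matrix.trace_add, Matrix.trace_add, Matrix.trace_neg,
      Matrix.trace_one, htI, htJ, htK, Fintype.card_fin]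
    push_cast
    linear_combination -hh2
  have h5 : h * h * 2 = h := by linear_combination h * hh2
  have hsq : (h • A) * (h • A) = h • A' := by
    rw [Matrix.smul_mul, Matrix.mul_smul, t6, smul_smul, smul_smul, h5]
  have hdet : (h • A).det = 1 := by
    have hc := cayley2 (h • A)
    rw [htrace, hsq] at hc
    have h6 : h • A + h • A' = -1 := by
      rw [hA, hA']
      have : h • (-1 + I + J + K) + h • (-1 - I - J - K) = (2 * h) • (-1 : Matrix (Fin 2) (Fin 2) F) := by
        module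
      rw [this, hh2, one_smul]
    have h7 : (h • A).det • (1 : Matrix (Fin 2) (Fin 2) F) = 1 := by
      have : (h • A).det • (1 : Matrix (Fin 2) (Fin 2) F) = (-1 : F) • (h • A) - h • A' := by
        rw [hc]; abel
      rw [this]
      have h9 : (-1 : F) • (h • A) - h • A' = -(h • A + h • A') := by module
      rw [h9, h6, neg_neg]
    have h8 := congrFun (congrFun h7 0) 0
    simp only [Matrix.smul_apply, Matrix.one_apply_eq, smul_eq_mul, mul_one] at h8
    exact h8
  have hdet' : (h • A').det = 1 := by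
    have := congrArg Matrix.det w1
    rw [Matrix.det_mul, hdet, one_mul, Matrix.det_one] at this
    exact this
  let w : Matrix.SpecialLinearGroup (Fin 2) F := ⟨h • A, hdet⟩
  let w' : Matrix.SpecialLinearGroup (Fin 2) F := ⟨h • A', hdet'⟩
  have hww' : w * w' = 1 := by
    apply Subtype.ext
    rw [Matrix.SpecialLinearGroup.coe_mul]
    exact w1
  have hinv : w⁻¹ = w' := inv_eq_of_mul_eq_one_right hww'
  refine ⟨w, ?_, ?_, ?_⟩
  · rw [hinv]
    apply Subtype.ext
    simp only [Matrix.SpecialLinearGroup.coe_mul]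
    exact c1
  · rw [hinv]
    apply Subtype.ext
    simp only [Matrix.SpecialLinearGroup.coe_mul]
    exact c2
  · apply Subtype.ext
    rw [pow_succ, pow_two]
    simp only [Matrix.SpecialLinearGroup.coe_mul, Matrix.SpecialLinearGroup.coe_one]
    show (h • A) * (h • A) * (h • A) = 1
    rw [hsq, w2]

/-- the order three element normalizes S -/
theorem omega_mem (hodd : Odd (Fintype.card F)) (t : F) (ht : t ^ 2 ≠ 4)
    (S : Sylow 2 (Matrix.SpecialLinearGroup (Fin 2) F))
    (hSN : (S : Subgroup (Matrix.SpecialLinearGroup (Fin 2) F)) ≤ NTor t)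
    (x y : Matrix.SpecialLinearGroup (Fin 2) F)
    (hxS : x ∈ (S : Subgroup (Matrix.SpecialLinearGroup (Fin 2) F))) (hxT : x ∈ Tor t)
    (hxo : orderOf x = 2 ^ 2)
    (hyS : y ∈ (S : Subgroup (Matrix.SpecialLinearGroup (Fin 2) F))) (hyT : y ∉ Tor t)
    (hgen : ∀ s ∈ (S : Subgroup (Matrix.SpecialLinearGroup (Fin 2) F)), s ∈ Tor t →
        s ∈ Subgroup.zpowers x) :
    ∃ w : Matrix.SpecialLinearGroup (Fin 2) F,
      w ∈ Subgroup.normalizer ((S : Subgroup (Matrix.SpecialLinearGroup (Fin 2) F)) :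
      Set (Matrix.SpecialLinearGroup (Fin 2) F)) ∧ orderOf w = 3 := by
  have h2 := two_ne_zero' hodd
  have hxx : x * x = N1 := by
    have h4 : (x * x) * (x * x) = 1 := by
      have := pow_orderOf_eq_one x
      rw [hxo] at this
      rw [← this]
      rw [show (2 : ℕ) ^ 2 = 2 + 2 from rfl, pow_add, pow_two]
    rcases sq_eq_one_cases h2 (x * x) h4 with h | h
    · exfalso
      have hd : orderOf x ∣ 2 := orderOf_dvd_of_pow_eq_one (by rw [pow_two, h])
      rw [hxo] at hd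
      omega
    · exact h
  have hyy : y * y = N1 := sq_of_mem_NTor hodd t ht y (hSN hyS) hyT
  have hxinv : x⁻¹ = N1 * x := by
    apply inv_eq_of_mul_eq_one_right
    rw [← mul_assoc, ← N1_comm, mul_assoc, hxx, N1_mul_N1]
  have hyx : y * x = N1 * (x * y) := by
    have := inv_of_outer hodd t ht y x (hSN hyS) hyT hxT
    rw [hxinv] at this
    rw [← mul_assoc, ← this]; group
  obtain ⟨w, hw1, hw2, hw3⟩ := exists_omega_SL h2 x y hxx hyy hyx
  refine ⟨w, ?_, ?_⟩
  · apply Subgroup.mem_normalizer_fintype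
    intro s hs
    have hs' : s ∈ (S : Subgroup (Matrix.SpecialLinearGroup (Fin 2) F)) := hs
    show w * s * w⁻¹ ∈ (S : Subgroup (Matrix.SpecialLinearGroup (Fin 2) F))
    have hpow : ∀ j : ℤ, w * x ^ j * w⁻¹ ∈ (S : Subgroup (Matrix.SpecialLinearGroup (Fin 2) F)) := by
      intro j
      have : w * x ^ j * w⁻¹ = (w * x * w⁻¹) ^ j := by rw [conj_zpow]
      rw [this, hw1]
      exact Subgroup.zpow_mem _ (Subgroup.mul_mem _ hxS hyS) j
    by_cases hsT : s ∈ Tor t
    · obtain ⟨j, hj⟩ := Subgroup.mem_zpowers_iff.mp (hgen s hs' hsT)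
      rw [← hj]
      exact hpow j
    · have hsy := outer_mul_outer hodd t ht s y (hSN hs') hsT (hSN hyS) hyT
      obtain ⟨j, hj⟩ := Subgroup.mem_zpowers_iff.mp (hgen (s * y) (Subgroup.mul_mem _ hs' hyS) hsy)
      have hseq : s = x ^ j * y⁻¹ := by rw [hj]; group
      have e : w * s * w⁻¹ = (w * x ^ j * w⁻¹) * (w * y * w⁻¹)⁻¹ := by rw [hseq]; group
      rw [e, hw2]
      exact Subgroup.mul_mem _ (hpow j) (Subgroup.inv_mem _ hxS)
  · apply orderOf_eq_prime hw3
    rintro rfl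
    apply hyT
    have : y = x := by rw [← hw2]; group
    rw [this]; exact hxT

theorem card_normalizer_S (hodd : Odd (Fintype.card F)) (t : F) (ht : t ^ 2 ≠ 4)
    (S : Sylow 2 (Matrix.SpecialLinearGroup (Fin 2) F))
    (hS : Nat.card (S : Subgroup (Matrix.SpecialLinearGroup (Fin 2) F)) = 2 ^ (2 + 1))
    (hSN : (S : Subgroup (Matrix.SpecialLinearGroup (Fin 2) F)) ≤ NTor t)
    (x y : Matrix.SpecialLinearGroup (Fin 2) F)
    (hxS : x ∈ (S : Subgroup (Matrix.SpecialLinearGroup (Fin 2) F))) (hxT : x ∈ Tor t)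
    (hxo : orderOf x = 2 ^ 2)
    (hyS : y ∈ (S : Subgroup (Matrix.SpecialLinearGroup (Fin 2) F))) (hyT : y ∉ Tor t)
    (hgen : ∀ s ∈ (S : Subgroup (Matrix.SpecialLinearGroup (Fin 2) F)), s ∈ Tor t →
        s ∈ Subgroup.zpowers x) :
    Nat.card (Subgroup.normalizer ((S : Subgroup (Matrix.SpecialLinearGroup (Fin 2) F)) :
      Set (Matrix.SpecialLinearGroup (Fin 2) F))) = 3 * Nat.card (S : Subgroup (Matrix.SpecialLinearGroup (Fin 2) F)) := by
  classical
  set M := Subgroup.normalizer ((S : Subgroup (Matrix.SpecialLinearGroup (Fin 2) F)) :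
      Set (Matrix.SpecialLinearGroup (Fin 2) F)) with hM
  have hSM : (S : Subgroup (Matrix.SpecialLinearGroup (Fin 2) F)) ≤ M := Subgroup.le_normalizer
  have h8 : 8 ∣ Nat.card M := by
    have := Subgroup.card_dvd_of_le hSM
    rw [hS] at this
    exact this
  have h3 : 3 ∣ Nat.card M := by
    obtain ⟨w, hwM, hwo⟩ := omega_mem hodd t ht S hSN x y hxS hxT hxo hyS hyT hgen
    have := orderOf_dvd_natCard (⟨w, hwM⟩ : M)
    rw [Subgroup.orderOf_mk, hwo] at this
    exact this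
  have h24 : 24 ∣ Nat.card M :=
    Nat.Coprime.mul_dvd_of_dvd_of_dvd (by norm_num : Nat.Coprime 8 3) h8 h3
  -- upper bound
  have hxNS := NS_of_order x 2 le_rfl hxo
  have hcentx := centralizer_eq_Tor t x hxT hxNS
  have hconj : ∀ g : M, (g : Matrix.SpecialLinearGroup (Fin 2) F) * x * (g : Matrix.SpecialLinearGroup (Fin 2) F)⁻¹ ∈
      (S : Subgroup (Matrix.SpecialLinearGroup (Fin 2) F)) := by
    intro g
    exact ((Subgroup.mem_normalizer_iff (H := (S : Subgroup (Matrix.SpecialLinearGroup (Fin 2) F)))).mp g.2 x).mp hxS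
  let c : ↥(S : Subgroup (Matrix.SpecialLinearGroup (Fin 2) F)) → M := fun s =>
    if h : ∃ g : M, (g : Matrix.SpecialLinearGroup (Fin 2) F) * x * (g : Matrix.SpecialLinearGroup (Fin 2) F)⁻¹ = s
    then Classical.choose h else 1
  have hc : ∀ g : M, ((c ⟨_, hconj g⟩ : M) : Matrix.SpecialLinearGroup (Fin 2) F) * x *
      ((c ⟨_, hconj g⟩ : M) : Matrix.SpecialLinearGroup (Fin 2) F)⁻¹ =
      (g : Matrix.SpecialLinearGroup (Fin 2) F) * x * (g : Matrix.SpecialLinearGroup (Fin 2) F)⁻¹ := by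
    intro g
    have hex : ∃ g' : M, (g' : Matrix.SpecialLinearGroup (Fin 2) F) * x * (g' : Matrix.SpecialLinearGroup (Fin 2) F)⁻¹ =
        ((⟨_, hconj g⟩ : ↥(S : Subgroup (Matrix.SpecialLinearGroup (Fin 2) F))) : Matrix.SpecialLinearGroup (Fin 2) F) := ⟨g, rfl⟩
    have : c ⟨_, hconj g⟩ = Classical.choose hex := dif_pos hex
    rw [this]
    exact Classical.choose_spec hex
  have hmem : ∀ g : M, ((c ⟨_, hconj g⟩ : M) : Matrix.SpecialLinearGroup (Fin 2) F)⁻¹ * (g : Matrix.SpecialLinearGroup (Fin 2) F) ∈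
      Subgroup.zpowers x := by
    intro g
    set g0 := ((c ⟨_, hconj g⟩ : M) : Matrix.SpecialLinearGroup (Fin 2) F) with hg0
    have hT : g0⁻¹ * (g : Matrix.SpecialLinearGroup (Fin 2) F) ∈ Tor t := by
      rw [← hcentx, Subgroup.mem_centralizer_iff]
      intro h hh
      rw [Set.mem_singleton_iff] at hh
      rw [hh]
      have := hc g
      rw [← hg0] at this
      calc x * (g0⁻¹ * ↑g) = g0⁻¹ * (g0 * x * g0⁻¹) * ↑g := by group
        _ = g0⁻¹ * (↑g * x * (↑g)⁻¹) * ↑g := by rw [this]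
        _ = g0⁻¹ * ↑g * x := by group
    have hMm : g0⁻¹ * (g : Matrix.SpecialLinearGroup (Fin 2) F) ∈ M :=
      M.mul_mem (M.inv_mem (c ⟨_, hconj g⟩).2) g.2
    have hSm := mem_S_of_mem_NTor hodd t ht S hSN x y 2 hxo hyS hyT hgen _ (Tor_le_NTor t hT) hMm
    exact hgen _ hSm hT
  let φ : M → ↥(S : Subgroup (Matrix.SpecialLinearGroup (Fin 2) F)) × ↥(Subgroup.zpowers x) :=
    fun g => (⟨_, hconj g⟩, ⟨_, hmem g⟩)
  have hφ : Function.Injective φ := by
    intro g g' hgg
    have e1 : (⟨_, hconj g⟩ : ↥(S : Subgroup (Matrix.SpecialLinearGroup (Fin 2) F))) = ⟨_, hconj g'⟩ :=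
      congrArg Prod.fst hgg
    have e2 := congrArg (fun p => ((Prod.snd p : Subgroup.zpowers x) : Matrix.SpecialLinearGroup (Fin 2) F)) hgg
    simp only [φ] at e2
    rw [e1] at e2
    exact Subtype.ext (mul_left_cancel e2)
  have hle := Nat.card_le_card_of_injective φ hφ
  rw [Nat.card_prod, hS, Nat.card_zpowers, hxo] at hle
  have hpos : 0 < Nat.card M := Nat.card_pos
  rw [hS]
  obtain ⟨j, hj⟩ := h24
  omega

theorem fact2 (k c : ℕ) (hc : Odd c) : (2 ^ k * c).factorization 2 = k := by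
  have hc0 : c ≠ 0 := by
    rintro rfl
    simp at hc
  rw [Nat.factorization_mul (by positivity) hc0, Finsupp.add_apply,
    Nat.Prime.factorization_pow Nat.prime_two]
  have : c.factorization 2 = 0 := by
    apply Nat.factorization_eq_zero_of_not_dvd
    intro h
    obtain ⟨j, rfl⟩ := hc
    omega
  rw [this]
  simp

theorem main_of_torus (hodd : Odd (Fintype.card F)) (t : F) (ht : t ^ 2 ≠ 4)
    (hcyc : IsCyclic (Tor t)) (k m r : ℕ) (hk : 2 ≤ k) (hm : Odd m) (hr : Odd r)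
    (hcardT : Nat.card (Tor t) = 2 ^ k * m)
    (hcardG : Fintype.card F * (Fintype.card F ^ 2 - 1) = 2 ^ (k + 1) * (m * r))
    (S : Sylow 2 (Matrix.SpecialLinearGroup (Fin 2) F)) :
    Subgroup.centralizer ((S : Subgroup (Matrix.SpecialLinearGroup (Fin 2) F)) : Set (Matrix.SpecialLinearGroup (Fin 2) F)) = Subgroup.center (Matrix.SpecialLinearGroup (Fin 2) F) ∧
    (3 ≤ k →
      Subgroup.normalizer ((S : Subgroup (Matrix.SpecialLinearGroup (Fin 2) F)) : Set (Matrix.SpecialLinearGroup (Fin 2) F)) = (S : Subgroup (Matrix.SpecialLinearGroup (Fin 2) F))) ∧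
    (k = 2 →
      Nat.card (Subgroup.normalizer ((S : Subgroup (Matrix.SpecialLinearGroup (Fin 2) F)) : Set (Matrix.SpecialLinearGroup (Fin 2) F))) = 3 * Nat.card S) := by
  have hG : (Nat.card (Matrix.SpecialLinearGroup (Fin 2) F)).factorization 2 = k + 1 := by
    rw [card_SL2, hcardG]
    exact fact2 (k + 1) (m * r) (hm.mul hr)
  have hN : Nat.card (NTor t) = 2 ^ (k + 1) * m := by
    rw [card_NTor hodd t ht, hcardT]; ring
  let Q : Sylow 2 (NTor t) := default
  have hQ : Nat.card (Q : Subgroup (NTor t)) = 2 ^ (k + 1) := by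
    rw [Sylow.card_eq_multiplicity, hN, fact2 (k + 1) m hm]
  set P₀ : Subgroup (Matrix.SpecialLinearGroup (Fin 2) F) :=
    (Q : Subgroup (NTor t)).map (NTor t).subtype with hP₀
  have hP₀N : P₀ ≤ NTor t := by
    rintro _ ⟨x, _, rfl⟩
    exact x.2
  have hP₀card : Nat.card P₀ = 2 ^ (k + 1) := by
    rw [← hQ]
    exact Nat.card_congr (Subgroup.equivMapOfInjective _ _ (NTor t).subtype_injective).symm.toEquiv
  let P₀' : Sylow 2 (Matrix.SpecialLinearGroup (Fin 2) F) :=
    Sylow.ofCard P₀ (by rw [hP₀card, hG])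
  have hP₀'N : (P₀' : Subgroup (Matrix.SpecialLinearGroup (Fin 2) F)) ≤ NTor t := hP₀N
  have hP₀'card : Nat.card (P₀' : Subgroup (Matrix.SpecialLinearGroup (Fin 2) F)) = 2 ^ (k + 1) :=
    hP₀card
  obtain ⟨x, y, hxS, hxT, hxo, hyS, hyT, hgen⟩ :=
    structure_S hodd t ht hcyc k m hm hcardT P₀' hP₀'card hP₀'N
  obtain ⟨g, hSeq, hCeq, hNeq⟩ := sylow_transfer 2 P₀' S
  refine ⟨?_, ?_, ?_⟩
  · rw [hCeq, centralizer_S hodd t ht P₀' hP₀'N x y k hk hxS hxT hxo hyS hyT, center_map_conj]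
  · intro hk3
    rw [hNeq, normalizer_S hodd t ht P₀' hP₀'N x y k hk hxS hxT hxo hyS hyT hgen hk3, ← hSeq]
  · intro hk2
    subst hk2
    have h1 := card_normalizer_S hodd t ht P₀' hP₀'card hP₀'N x y hxS hxT hxo hyS hyT hgen
    rw [hNeq, Subgroup.card_map_of_injective (MulAut.conj g).injective, h1]
    congr 1
    show Nat.card (P₀' : Subgroup (Matrix.SpecialLinearGroup (Fin 2) F)) = Nat.card (S : Subgroup (Matrix.SpecialLinearGroup (Fin 2) F))
    rw [hSeq, Subgroup.card_map_of_injective (MulAut.conj g).injective]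

theorem exists_split5 (h5 : 5 ≤ Fintype.card F) :
    ∃ t r : F, t ^ 2 ≠ 4 ∧ r ^ 2 - t * r + 1 = 0 := by
  classical
  obtain ⟨ζ, hζ⟩ := IsCyclic.exists_generator (α := Fˣ)
  have hord : orderOf ζ = Fintype.card F - 1 := by
    rw [orderOf_eq_card_of_forall_mem_zpowers hζ, Nat.card_eq_fintype_card, Fintype.card_units]
  have h4 : (ζ : F) ^ 2 ≠ 1 := by
    intro h
    have : ζ ^ 2 = 1 := Units.ext (by simpa using h)
    have := orderOf_dvd_of_pow_eq_one this
    rw [hord] at this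
    have := Nat.le_of_dvd (by norm_num) this
    omega
  have hr0 : (ζ : F) ≠ 0 := ζ.ne_zero
  set r : F := (ζ : F)
  refine ⟨r + r⁻¹, r, ?_, ?_⟩
  · intro h
    apply h4
    field_simp at h
    have : (r ^ 2 - 1) ^ 2 = 0 := by linear_combination h
    have := pow_eq_zero_iff (two_ne_zero) |>.mp this
    linear_combination this
  · field_simp
    ring

theorem arith (n : ℕ) (h4 : 4 ∣ n) (hn : 0 < n) :
    ∃ k m, 2 ≤ k ∧ Odd m ∧ n = 2 ^ k * m ∧ (8 ∣ n → 3 ≤ k) ∧ (n % 8 = 4 → k = 2) := by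
  obtain ⟨k, m, hm, hnk⟩ := Nat.exists_eq_two_pow_mul_odd hn.ne'
  obtain ⟨j, rfl⟩ := hm
  have hk2 : 2 ≤ k := by
    by_contra hc
    have : k = 0 ∨ k = 1 := by omega
    rcases this with rfl | rfl
    · rw [pow_zero] at hnk; omega
    · rw [pow_one] at hnk; omega
  refine ⟨k, 2 * j + 1, hk2, ⟨j, rfl⟩, hnk, ?_, ?_⟩
  · intro h8
    by_contra hc
    have : k = 2 := by omega
    subst this
    norm_num at hnk
    omega
  · intro h8
    by_contra hc
    have h3 : 3 ≤ k := by omega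
    have : (2 : ℕ) ^ 3 ∣ 2 ^ k := pow_dvd_pow 2 h3
    have : 8 ∣ n := by
      rw [hnk]
      exact Dvd.dvd.mul_right this _
    omega

theorem S2431_main (hodd : Odd (Fintype.card F)) (S : Sylow 2 (Matrix.SpecialLinearGroup (Fin 2) F)) :
    Subgroup.centralizer ((S : Subgroup (Matrix.SpecialLinearGroup (Fin 2) F)) : Set (Matrix.SpecialLinearGroup (Fin 2) F)) = Subgroup.center (Matrix.SpecialLinearGroup (Fin 2) F) ∧
    ((Fintype.card F % 8 = 1 ∨ Fintype.card F % 8 = 7) →
      Subgroup.normalizer ((S : Subgroup (Matrix.SpecialLinearGroup (Fin 2) F)) : Set (Matrix.SpecialLinearGroup (Fin 2) F)) = (S : Subgroup (Matrix.SpecialLinearGroup (Fin 2) F))) ∧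
    ((Fintype.card F % 8 = 3 ∨ Fintype.card F % 8 = 5) →
      Nat.card (Subgroup.normalizer ((S : Subgroup (Matrix.SpecialLinearGroup (Fin 2) F)) : Set (Matrix.SpecialLinearGroup (Fin 2) F))) = 3 * Nat.card S) := by
  have h2 := two_ne_zero' hodd
  have hq1 : 1 < Fintype.card F := Fintype.one_lt_card
  obtain ⟨b, hb⟩ := hodd
  have hcases : Fintype.card F % 4 = 1 ∨ Fintype.card F % 4 = 3 := by omega
  rcases hcases with h41 | h43
  · -- split torus
    obtain ⟨a, ha⟩ : ∃ a, Fintype.card F = 4 * a + 1 := ⟨Fintype.card F / 4, by omega⟩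
    have ha1 : 1 ≤ a := by omega
    obtain ⟨t, r, ht4, hr⟩ := exists_split5 (F := F) (by omega)
    have hcardT := card_torus_split t r hr ht4
    obtain ⟨k, m, hk, hm, hn, h8, h4⟩ := arith (4 * a) ⟨a, rfl⟩ (by omega)
    have hcardT' : Nat.card (Tor t) = 2 ^ k * m := by
      rw [hcardT, ha, ← hn]; omega
    have hsq : (4 * a + 1) ^ 2 - 1 = 4 * a * (4 * a + 2) := by
      have : (4 * a + 1) ^ 2 = 4 * a * (4 * a + 2) + 1 := by ring
      rw [this]; omega
    have hcardG : Fintype.card F * (Fintype.card F ^ 2 - 1) =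
        2 ^ (k + 1) * (m * ((2 * a + 1) * (4 * a + 1))) := by
      have e : 2 ^ k * 2 * (m * ((2 * a + 1) * (4 * a + 1))) =
          (2 ^ k * m) * (2 * ((2 * a + 1) * (4 * a + 1))) := by ring
      rw [ha, hsq, pow_succ, e, ← hn]; ring
    have hr' : Odd ((2 * a + 1) * (4 * a + 1)) := Odd.mul ⟨a, rfl⟩ ⟨2 * a, by ring⟩
    obtain ⟨c1, c2, c3⟩ := main_of_torus ⟨b, hb⟩ t ht4 (torus_cyclic_split t r hr ht4) k m _ hk hm hr'
      hcardT' hcardG S
    refine ⟨c1, ?_, ?_⟩
    · intro hq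
      apply c2
      apply h8
      omega
    · intro hq
      apply c3
      apply h4
      omega
  · -- anisotropic torus
    obtain ⟨a, ha⟩ : ∃ a, Fintype.card F = 4 * a + 3 := ⟨Fintype.card F / 4, by omega⟩
    obtain ⟨t, hirr⟩ := exists_aniso_any (F := F)
    have ht4 := aniso_ne' h2 t hirr
    have hcardT := card_torus_aniso t hirr
    obtain ⟨k, m, hk, hm, hn, h8, h4⟩ := arith (4 * a + 4) ⟨a + 1, by ring⟩ (by omega)
    have hcardT' : Nat.card (Tor t) = 2 ^ k * m := by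
      rw [hcardT, ha, ← hn]
    have hsq : (4 * a + 3) ^ 2 - 1 = (4 * a + 4) * (4 * a + 2) := by
      have : (4 * a + 3) ^ 2 = (4 * a + 4) * (4 * a + 2) + 1 := by ring
      rw [this]; omega
    have hcardG : Fintype.card F * (Fintype.card F ^ 2 - 1) =
        2 ^ (k + 1) * (m * ((2 * a + 1) * (4 * a + 3))) := by
      have e : 2 ^ k * 2 * (m * ((2 * a + 1) * (4 * a + 3))) =
          (2 ^ k * m) * (2 * ((2 * a + 1) * (4 * a + 3))) := by ring
      rw [ha, hsq, pow_succ, e, ← hn]; ring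
    have hr' : Odd ((2 * a + 1) * (4 * a + 3)) := Odd.mul ⟨a, rfl⟩ ⟨2 * a + 1, by ring⟩
    obtain ⟨c1, c2, c3⟩ := main_of_torus ⟨b, hb⟩ t ht4 (torus_cyclic t hirr) k m _ hk hm hr'
      hcardT' hcardG S
    refine ⟨c1, ?_, ?_⟩
    · intro hq
      apply c2
      apply h8
      omega
    · intro hq
      apply c3
      apply h4
      omega

end Cfsg.Agent.Lib.Helper4_SL2Syl2
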