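import Mathlib

set_option autoImplicit false

/-!
# Homomorphisms out of the (generalized) quaternion groups
-/

namespace Cfsg.Agent.Lib.Helper7_QuatLift

open QuaternionGroup

section Lift

variable {n : ℕ} [NeZero n] {M : Type*} [Group M] (A X : M)

/-- the image of `a i` -/
def pw (i : ZMod (2 * n)) : M := A ^ i.val

variable (hA : A ^ (2 * n) = 1)

include hA in
theorem pw_add (i j : ZMod (2 * n)) : pw A (i + j) = pw A i * pw A j := by
  unfold pw
  rw [ZMod.val_add, ← pow_eq_pow_mod _ hA, pow_add]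

theorem pw_zero : pw A (0 : ZMod (2 * n)) = 1 := by
  unfold pw
  rw [ZMod.val_zero, pow_zero]

include hA in
theorem pw_neg (i : ZMod (2 * n)) : pw A (-i) = (pw A i)⁻¹ := by
  rw [eq_inv_iff_mul_eq_one, ← pw_add A hA, neg_add_cancel, pw_zero]

include hA in
theorem pw_sub (i j : ZMod (2 * n)) : pw A (j - i) = pw A j * (pw A i)⁻¹ := by
  rw [sub_eq_add_neg, pw_add A hA, pw_neg A hA]

theorem pw_comm (i j : ZMod (2 * n)) : pw A i * pw A j = pw A j * pw A i := by
  unfold pw
  rw [← pow_add, ← pow_add, add_comm]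

include hA in
theorem pw_natCast (k : ℕ) : pw A ((k : ℕ) : ZMod (2 * n)) = A ^ k := by
  unfold pw
  rw [ZMod.val_natCast, ← pow_eq_pow_mod _ hA]

variable (hX : X * X = A ^ n) (hXA : X * A = A⁻¹ * X)

include hXA in
theorem X_pw (i : ZMod (2 * n)) : pw A i * X = X * (pw A i)⁻¹ := by
  unfold pw
  induction i.val with
  | zero => simp
  | succ k ih =>
    have h1 : A * X = X * A⁻¹ := by
      have : A * (X * A) * A⁻¹ = A * (A⁻¹ * X) * A⁻¹ := by rw [hXA]
      have h2 : A * (X * A) * A⁻¹ = A * X := by group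
      have h3 : A * (A⁻¹ * X) * A⁻¹ = X * A⁻¹ := by group
      rw [h2, h3] at this
      exact this
    calc A ^ (k + 1) * X = A * (A ^ k * X) := by rw [pow_succ']; group
      _ = A * (X * (A ^ k)⁻¹) := by rw [ih]
      _ = (A * X) * (A ^ k)⁻¹ := by group
      _ = X * A⁻¹ * (A ^ k)⁻¹ := by rw [h1]
      _ = X * (A ^ (k + 1))⁻¹ := by rw [pow_succ]; group

/-- the underlying function -/
def liftFun : QuaternionGroup n → M
  | a i => pw A i
  | xa i => X * pw A i

include hA hX hXA in
/-- A homomorphism from the quaternion group `⟨a, x | a^(2n) = 1, x² = a^n, x a x⁻¹ = a⁻¹⟩`. -/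
theorem liftFun_mul (g h : QuaternionGroup n) :
    liftFun A X (g * h) = liftFun A X g * liftFun A X h := by
  rcases g with i | i <;> rcases h with j | j
  · rw [a_mul_a]
    simp only [liftFun]
    exact pw_add A hA i j
  · rw [a_mul_xa]
    simp only [liftFun]
    rw [pw_sub A hA]
    have h1 := X_pw A X hXA i
    have := pw_comm A i j
    calc X * (pw A j * (pw A i)⁻¹) = X * ((pw A i)⁻¹ * (pw A i * pw A j) * (pw A i)⁻¹) := by group
      _ = X * ((pw A i)⁻¹ * (pw A j * pw A i) * (pw A i)⁻¹) := by rw [this]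
      _ = (X * (pw A i)⁻¹) * pw A j := by group
      _ = (pw A i * X) * pw A j := by rw [h1]
      _ = pw A i * (X * pw A j) := by group
  · rw [xa_mul_a]
    simp only [liftFun]
    rw [pw_add A hA, mul_assoc]
  · rw [xa_mul_xa]
    simp only [liftFun]
    rw [pw_sub A hA, pw_add A hA, pw_natCast A hA, ← hX]
    have h1 := X_pw A X hXA i
    calc X * X * pw A j * (pw A i)⁻¹ = X * X * ((pw A i)⁻¹ * (pw A i * pw A j) * (pw A i)⁻¹) := by
          group
      _ = X * X * ((pw A i)⁻¹ * (pw A j * pw A i) * (pw A i)⁻¹) := by rw [pw_comm A i j]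
      _ = X * (X * (pw A i)⁻¹) * pw A j := by group
      _ = X * (pw A i * X) * pw A j := by rw [h1]
      _ = X * pw A i * (X * pw A j) := by group

/-- The homomorphism. -/
def lift : QuaternionGroup n →* M where
  toFun := liftFun A X
  map_one' := by
    rw [one_def]
    exact pw_zero A
  map_mul' := liftFun_mul A X hA hX hXA

@[simp] theorem lift_a (i : ZMod (2 * n)) : lift A X hA hX hXA (a i) = A ^ i.val := rfl

@[simp] theorem lift_xa (i : ZMod (2 * n)) : lift A X hA hX hXA (xa i) = X * A ^ i.val := rfl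

end Lift

end Cfsg.Agent.Lib.Helper7_QuatLift
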