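import Mathlib
import Cfsg.Agent.Lib.Helper6_MaxClass
import Cfsg.Agent.Lib.Helper6_MaxClass2
import Cfsg.Agent.Lib.Helper6_DihedralLift
import Cfsg.Agent.Lib.Helper7_QuatLift

set_option autoImplicit false

/-! Classification of the 2-groups of maximal class: dihedral, semidihedral, generalized
quaternion. -/

namespace Cfsg.Agent.Lib.Helper5_MaxClassTwo

open Subgroup

universe u

/-- Recognition of the generalized quaternion group. -/
theorem quaternion_equiv {Y : Type*} [Group Y] (m : ℕ) [NeZero m] (hY : Nat.card Y = 4 * m)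
    (a x : Y) (ha : orderOf a = 2 * m) (hx : x ∉ zpowers a) (hidx : (zpowers a).index = 2)
    (hxx : x * x = a ^ m) (hxa : x * a * x⁻¹ = a⁻¹) : Nonempty (Y ≃* QuaternionGroup m) := by
  have hm0 : m ≠ 0 := NeZero.ne m
  have hfin : Finite Y := Nat.finite_of_card_ne_zero (by rw [hY]; omega)
  have hA : a ^ (2 * m) = 1 := by rw [← ha]; exact pow_orderOf_eq_one a
  have hXA : x * a = a⁻¹ * x := by rw [← hxa]; group
  let f : QuaternionGroup m →* Y := Cfsg.Agent.Lib.Helper7_QuatLift.lift a x hA hxx hXA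
  have hN1 : 1 < 2 * m := by omega
  have hfa : a ∈ f.range := by
    refine ⟨QuaternionGroup.a 1, ?_⟩
    show a ^ (1 : ZMod (2 * m)).val = a
    have : Fact (1 < 2 * m) := ⟨hN1⟩
    rw [ZMod.val_one, pow_one]
  have hfx : x ∈ f.range := by
    refine ⟨QuaternionGroup.xa 0, ?_⟩
    show x * a ^ (0 : ZMod (2 * m)).val = x
    rw [ZMod.val_zero, pow_zero, mul_one]
  have hAf : zpowers a ≤ f.range := (zpowers_le).mpr hfa
  have hsurj : Function.Surjective f := by
    rw [← MonoidHom.range_eq_top, Subgroup.eq_top_iff']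
    intro g
    by_cases hg : g ∈ zpowers a
    · exact hAf hg
    · have : g = x * (x⁻¹ * g) := by group
      rw [this]
      exact f.range.mul_mem hfx
        (hAf (Cfsg.Agent.Lib.Helper6_MaxClass2.decomp_of_index_two _ hidx x g hx hg))
  have hcardQ : Nat.card (QuaternionGroup m) = 4 * m := by
    rw [Nat.card_eq_fintype_card, QuaternionGroup.card]
  have hbij : Function.Bijective f := by
    apply hsurj.bijective_of_nat_card_le
    rw [hcardQ, hY]
  exact ⟨(MulEquiv.ofBijective f hbij).symm⟩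

/-- The 2-groups of maximal class. -/
theorem maxclass_classify {X : Type u} [Group X] [Finite X] (n : ℕ) (hn : 3 ≤ n)
    (hX : Nat.card X = 2 ^ n) (hc : Group.nilpotencyClass X = n - 1) :
    Nonempty (X ≃* DihedralGroup (2 ^ (n - 1))) ∨
    (4 ≤ n ∧ ∃ a b : X, orderOf a = 2 ^ (n - 1) ∧ orderOf b = 2 ∧
      b * a * b⁻¹ = a ^ (2 ^ (n - 2) - 1)) ∨
    Nonempty (X ≃* QuaternionGroup (2 ^ (n - 2))) := by
  haveI : Fact (Nat.Prime 2) := ⟨Nat.prime_two⟩
  obtain ⟨c, x, hord, hx, hCidx, hZC, hxx, hd, -⟩ :=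
    Cfsg.Agent.Lib.Helper6_MaxClass2.maxclass_structure n hn hX hc
  obtain ⟨hZcard, -, -⟩ := Cfsg.Agent.Lib.Helper6_MaxClass.center_of_maxclass 2 n hn hX hc
  obtain ⟨k, rfl⟩ : ∃ k, n = k + 3 := ⟨n - 3, by omega⟩
  set N := 2 ^ (k + 1) with hN
  have hNpos : 0 < N := by positivity
  have hN2 : 2 ^ (k + 3 - 1) = 2 * N := by
    rw [hN, show k + 3 - 1 = k + 2 by omega]; ring
  have hN3 : 2 ^ (k + 3 - 2) = N := by
    rw [hN, show k + 3 - 2 = k + 1 by omega]
  rw [hN2] at hord
  have hc2N : c ^ (2 * N) = 1 := by rw [← hord]; exact pow_orderOf_eq_one c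
  set z := c ^ N with hz
  have hz2 : z * z = 1 := by rw [hz, ← pow_add, ← two_mul]; exact hc2N
  have hz1 : z ≠ 1 := by
    intro h
    have := orderOf_dvd_of_pow_eq_one h
    rw [hord] at this
    have := Nat.le_of_dvd hNpos this
    omega
  -- the centre is {1, z}
  have hZ : ∀ ζ ∈ center X, ζ = 1 ∨ ζ = z := by
    intro ζ hζ
    have h2 : ζ ^ 2 = 1 := by
      have h3 : (⟨ζ, hζ⟩ : center X) ^ 2 = 1 := by
        rw [← hZcard]; exact pow_card_eq_one'
      have := congrArg Subtype.val h3
      simpa using this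
    obtain ⟨i, rfl⟩ := hZC hζ
    simp only at h2 ⊢
    rw [← zpow_natCast, ← zpow_mul] at h2
    have h4 := orderOf_dvd_iff_zpow_eq_one.mpr h2
    rw [hord] at h4
    obtain ⟨j, hj⟩ := h4
    have h5 : i = N * j := by push_cast at hj; linarith
    have h6 : c ^ ((N : ℕ) : ℤ) = z := by rw [zpow_natCast]
    rw [h5, zpow_mul, h6]
    rcases Int.even_or_odd' j with ⟨d, hd | hd⟩
    · left
      rw [hd, zpow_mul, zpow_ofNat, pow_two, hz2, one_zpow]
    · right
      rw [hd, zpow_add, zpow_mul, zpow_ofNat, pow_two, hz2, one_zpow, one_mul, zpow_one]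
  have hzZ : z ∈ center X := by
    have : Nontrivial (center X) := by
      rw [← Finite.one_lt_card_iff_nontrivial, hZcard]; norm_num
    obtain ⟨ζ, hζ⟩ := exists_ne (1 : center X)
    rcases hZ ζ ζ.2 with h | h
    · exfalso; apply hζ; exact Subtype.ext h
    · rw [← h]; exact ζ.2
  have hx1 : x ≠ 1 := fun h => hx (h ▸ one_mem _)
  have hxinv : x⁻¹ ∉ zpowers c := fun h => hx (by simpa using inv_mem h)
  rcases hZ _ hd with h1 | h1
  · -- x inverts c
    have hxc : x * c * x⁻¹ = c⁻¹ := by
      have := eq_inv_of_mul_eq_one_right h1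
      exact this
    rcases hZ _ hxx with h2 | h2
    · left
      rw [hN2]
      haveI : NeZero (2 * N) := ⟨by omega⟩
      apply Cfsg.Agent.Lib.Helper6_DihedralLift.dihedral_equiv (2 * N) _ c x hord hx h2 hxc
      rw [hX, hN]; ring
    · right; right
      rw [hN3]
      haveI : NeZero N := ⟨by omega⟩
      apply quaternion_equiv N _ c x hord hx hCidx h2 hxc
      rw [hX, hN]; ring
  · -- x c x⁻¹ = c⁻¹ z
    right; left
    have hxc : x * c * x⁻¹ = c ^ (N - 1) := by
      have h3 : x * c * x⁻¹ = c⁻¹ * z := by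
        have : c * (x * c * x⁻¹) = c * (c⁻¹ * z) := by rw [h1]; group
        exact mul_left_cancel this
      rw [h3, hz]
      have h4 : c * (c⁻¹ * c ^ N) = c * c ^ (N - 1) := by
        rw [← pow_succ', show N - 1 + 1 = N by omega]; group
      exact mul_left_cancel h4
    have hk1 : 1 ≤ k := by
      by_contra hk0
      have hk0' : k = 0 := by omega
      have hN' : N = 2 := by rw [hN, hk0']; norm_num
      rw [hN', show 2 - 1 = 1 by norm_num, pow_one] at hxc
      have hcomm : x * c = c * x := by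
        calc x * c = x * c * x⁻¹ * x := by group
          _ = c * x := by rw [hxc]
      have hab : ∀ a ∈ zpowers c, ∀ b ∈ zpowers c, a * b = b * a := by
        rintro _ ⟨i, rfl⟩ _ ⟨j, rfl⟩
        exact ((Commute.refl c).zpow_zpow i j).eq
      have hcZ := Cfsg.Agent.Lib.Helper6_MaxClass2.mem_center_of_abelian_index_two _ hCidx hab x hx
        c (mem_zpowers c) hcomm
      have hc2 : c ^ 2 = 1 := by
        rcases hZ c hcZ with h | h
        · rw [h, one_pow]
        · rw [h, pow_two, hz2]
      have := orderOf_dvd_of_pow_eq_one hc2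
      rw [hord, hN'] at this
      have := Nat.le_of_dvd (by norm_num) this
      omega
    refine ⟨by omega, ?_⟩
    rw [hN2, hN3]
    have hcz : c * z = z * c := by
      rw [hz, ← pow_succ', ← pow_succ]
    rcases hZ _ hxx with h2 | h2
    · refine ⟨c, x, hord, ?_, hxc⟩
      apply orderOf_eq_prime
      · rw [pow_two]; exact h2
      · exact hx1
    · refine ⟨c, x * c, hord, ?_, ?_⟩
      · apply orderOf_eq_prime
        · have h5 : (x * c) ^ 2 = (x * c * x⁻¹) * (x * x) * c := by rw [pow_two]; group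
          rw [h5, hxc, h2, hz, ← pow_add, ← pow_succ,
            show N - 1 + N + 1 = 2 * N by omega]
          exact hc2N
        · intro h
          apply hxinv
          have : x⁻¹ = c := by
            rw [inv_eq_iff_mul_eq_one]; exact h
          rw [this]; exact mem_zpowers c
      · calc x * c * c * (x * c)⁻¹ = x * c * x⁻¹ := by group
          _ = c ^ (N - 1) := hxc

end Cfsg.Agent.Lib.Helper5_MaxClassTwo
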