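import Mathlib
import Cfsg.Agent.Lib.Helper7_QuatLift
import Cfsg.Agent.S0242

set_option autoImplicit false

/-!
# Recognising `SL(2,3)` as `Q₈ ⋊ C₃`
-/

namespace Cfsg.Agent.Lib.Helper6_SL23

open QuaternionGroup

/-- The homomorphism `Multiplicative (ZMod n) →* M` sending the generator to `x`, when `x ^ n = 1`. -/
def powHom {M : Type*} [Group M] (n : ℕ) [NeZero n] (x : M) (hx : x ^ n = 1) :
    Multiplicative (ZMod n) →* M where
  toFun c := x ^ (Multiplicative.toAdd c).val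
  map_one' := by
    show x ^ (0 : ZMod n).val = 1
    rw [ZMod.val_zero, pow_zero]
  map_mul' := by
    intro c d
    show x ^ (Multiplicative.toAdd c + Multiplicative.toAdd d).val = _
    rw [ZMod.val_add, ← pow_eq_pow_mod _ hx, pow_add]

theorem powHom_apply {M : Type*} [Group M] (n : ℕ) [NeZero n] (x : M) (hx : x ^ n = 1)
    (c : Multiplicative (ZMod n)) : powHom n x hx c = x ^ (Multiplicative.toAdd c).val := rfl

/-- The underlying endomorphism of the automorphism of order 3 of `Q₈`. -/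
def s : QuaternionGroup 2 →* QuaternionGroup 2 :=
  Cfsg.Agent.Lib.Helper7_QuatLift.lift (n := 2) (xa 0) (xa 3) (by decide) (by decide) (by decide)

theorem s_cube : ∀ x : QuaternionGroup 2, s (s (s x)) = x := by decide

/-- The automorphism of order 3 of `Q₈`. -/
def σ : MulAut (QuaternionGroup 2) :=
  MulEquiv.mk' ⟨s, fun x => s (s x), s_cube, s_cube⟩ s.map_mul

theorem σ_apply (x : QuaternionGroup 2) : σ x = s x := rfl

theorem σ_cube : σ ^ 3 = 1 := by
  ext x
  show σ (σ (σ x)) = x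
  exact s_cube x

/-- The action of `C₃` on `Q₈`. -/
def φ : Multiplicative (ZMod 3) →* MulAut (QuaternionGroup 2) := powHom 3 σ σ_cube

/-- The model `Q₈ ⋊ C₃` of `SL(2,3)`. -/
abbrev Model := QuaternionGroup 2 ⋊[φ] Multiplicative (ZMod 3)

theorem card_model : Nat.card Model = 24 := by
  rw [SemidirectProduct.card, Nat.card_eq_fintype_card, Nat.card_eq_fintype_card,
    QuaternionGroup.card]
  simp [ZMod.card]

section Recognise

variable {Y : Type*} [Group Y] (i j w : Y)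
  (hi4 : i ^ 4 = 1) (hj2 : j * j = i ^ 2) (hji : j * i = i⁻¹ * j)
  (hw3 : w ^ 3 = 1) (hwi : w * i * w⁻¹ = j) (hwj : w * j * w⁻¹ = i * j)

/-- The map `Q₈ → Y`. -/
def f₁ : QuaternionGroup 2 →* Y :=
  Cfsg.Agent.Lib.Helper7_QuatLift.lift (n := 2) i j hi4 hj2 hji

theorem f₁_a (k : ZMod 4) : f₁ i j hi4 hj2 hji (a k) = i ^ k.val := rfl

theorem f₁_xa (k : ZMod 4) : f₁ i j hi4 hj2 hji (xa k) = j * i ^ k.val := rfl

include hi4 hji in
theorem rel_aux : j * i ^ 3 = i * j := by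
  have h1 : i ^ 3 = i⁻¹ := by
    rw [eq_inv_iff_mul_eq_one, ← pow_succ]; exact hi4
  rw [h1]
  calc j * i⁻¹ = i * (i⁻¹ * j) * i⁻¹ := by group
    _ = i * (j * i) * i⁻¹ := by rw [hji]
    _ = i * j := by group

include hwi hwj in
theorem base_rel (x : QuaternionGroup 2) :
    f₁ i j hi4 hj2 hji (σ x) = w * f₁ i j hi4 hj2 hji x * w⁻¹ := by
  have hconjpow : ∀ (y : Y) (k : ℕ), w * y ^ k * w⁻¹ = (w * y * w⁻¹) ^ k := by
    intro y k
    rw [← MulAut.conj_apply, map_pow, MulAut.conj_apply]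
  rcases x with k | k
  · rw [σ_apply, f₁_a, hconjpow, hwi]
    show f₁ i j hi4 hj2 hji ((xa 0) ^ k.val) = j ^ k.val
    rw [map_pow, f₁_xa]
    congr 1
    rw [ZMod.val_zero, pow_zero, mul_one]
  · rw [σ_apply, f₁_xa]
    show f₁ i j hi4 hj2 hji (xa 3 * (xa 0) ^ k.val) = _
    rw [map_mul, map_pow, f₁_xa, f₁_xa, ZMod.val_zero, pow_zero, mul_one]
    have h3 : (3 : ZMod 4).val = 3 := rfl
    rw [h3, rel_aux i j hi4 hji]
    calc i * j * j ^ k.val = (w * j * w⁻¹) * (w * i * w⁻¹) ^ k.val := by rw [hwj, hwi]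
      _ = (w * j * w⁻¹) * (w * i ^ k.val * w⁻¹) := by rw [hconjpow]
      _ = w * (j * i ^ k.val) * w⁻¹ := by group

include hwi hwj in
theorem pow_rel (k : ℕ) (x : QuaternionGroup 2) :
    f₁ i j hi4 hj2 hji ((σ ^ k) x) = w ^ k * f₁ i j hi4 hj2 hji x * (w ^ k)⁻¹ := by
  induction k with
  | zero => simp
  | succ k ih =>
    rw [pow_succ', MulAut.mul_apply, base_rel i j w hi4 hj2 hji hwi hwj, ih, pow_succ']
    group

/-- The homomorphism from the model. -/
def F : Model →* Y :=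
  SemidirectProduct.lift (f₁ i j hi4 hj2 hji) (powHom 3 w hw3) (by
    intro c
    ext x
    show f₁ i j hi4 hj2 hji ((φ c) x) = powHom 3 w hw3 c * f₁ i j hi4 hj2 hji x * (powHom 3 w hw3 c)⁻¹
    rw [powHom_apply]
    show f₁ i j hi4 hj2 hji ((σ ^ (Multiplicative.toAdd c).val) x) = _
    exact pow_rel i j w hi4 hj2 hji hwi hwj _ x)

theorem F_apply (q : QuaternionGroup 2) (c : Multiplicative (ZMod 3)) :
    F i j w hi4 hj2 hji hw3 hwi hwj ⟨q, c⟩ = f₁ i j hi4 hj2 hji q * w ^ (Multiplicative.toAdd c).val :=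
  rfl

theorem F_i : F i j w hi4 hj2 hji hw3 hwi hwj (SemidirectProduct.inl (a 1)) = i := by
  unfold F
  rw [SemidirectProduct.lift_inl, f₁_a]
  have : (1 : ZMod 4).val = 1 := rfl
  rw [this, pow_one]

theorem F_j : F i j w hi4 hj2 hji hw3 hwi hwj (SemidirectProduct.inl (xa 0)) = j := by
  unfold F
  rw [SemidirectProduct.lift_inl, f₁_xa, ZMod.val_zero, pow_zero, mul_one]

theorem F_w : F i j w hi4 hj2 hji hw3 hwi hwj
    (SemidirectProduct.inr (Multiplicative.ofAdd (1 : ZMod 3))) = w := by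
  unfold F
  rw [SemidirectProduct.lift_inr, powHom_apply]
  have : (Multiplicative.toAdd (Multiplicative.ofAdd (1 : ZMod 3))).val = 1 := rfl
  rw [this, pow_one]

theorem F_injective (hi2 : i ^ 2 ≠ 1) (hw1 : w ≠ 1) :
    Function.Injective (F i j w hi4 hj2 hji hw3 hwi hwj) := by
  rw [injective_iff_map_eq_one]
  rintro ⟨q, c⟩ hx
  rw [F_apply] at hx
  have hq4 : ∀ x : QuaternionGroup 2, x ^ 4 = 1 := by decide
  have hqz : ∀ x : QuaternionGroup 2, x ≠ 1 → x = a 2 ∨ x ^ 2 = a 2 := by decide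
  set u := w ^ (Multiplicative.toAdd c).val with hu
  have h1 : f₁ i j hi4 hj2 hji q = u⁻¹ := eq_inv_of_mul_eq_one_left hx
  have h2 : u ^ 4 = 1 := by
    have : (u⁻¹) ^ 4 = 1 := by rw [← h1, ← map_pow, hq4, map_one]
    rwa [inv_pow, inv_eq_one] at this
  have h3 : u ^ 3 = 1 := by rw [hu, ← pow_mul, mul_comm, pow_mul, hw3, one_pow]
  have h4 : u = 1 := by
    calc u = u ^ 4 * (u ^ 3)⁻¹ := by group
      _ = 1 := by rw [h2, h3]; group
  have hc : c = 1 := by
    have hlt : (Multiplicative.toAdd c).val < 3 := ZMod.val_lt _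
    have hval : (Multiplicative.toAdd c).val = 0 := by
      by_contra hne
      have h12 : (Multiplicative.toAdd c).val = 1 ∨ (Multiplicative.toAdd c).val = 2 := by omega
      rcases h12 with h | h
      · rw [hu, h, pow_one] at h4; exact hw1 h4
      · rw [hu, h] at h4
        apply hw1
        calc w = w ^ 3 * (w ^ 2)⁻¹ := by group
          _ = 1 := by rw [hw3, h4]; group
    have : Multiplicative.toAdd c = 0 := (ZMod.val_eq_zero _).mp hval
    exact this
  have hq : q = 1 := by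
    by_contra hne
    rw [h4, inv_one] at h1
    apply hi2
    have h5 : f₁ i j hi4 hj2 hji (a 2) = 1 := by
      rcases hqz q hne with h | h
      · rw [← h]; exact h1
      · rw [← h, map_pow, h1, one_pow]
    rw [f₁_a] at h5
    have : (2 : ZMod 4).val = 2 := rfl
    rw [this] at h5
    exact h5
  rw [hq, hc]; rfl

include hi4 hj2 hji hw3 hwi hwj in
/-- Recognition: if `Y` has at most 24 elements. -/
theorem equiv_of_card_le (hi2 : i ^ 2 ≠ 1) (hw1 : w ≠ 1) [Finite Y] (hY : Nat.card Y ≤ 24) :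
    Nonempty (Model ≃* Y) := by
  have hinj := F_injective i j w hi4 hj2 hji hw3 hwi hwj hi2 hw1
  have hbij : Function.Bijective (F i j w hi4 hj2 hji hw3 hwi hwj) :=
    hinj.bijective_of_nat_card_le (by rw [card_model]; exact hY)
  exact ⟨MulEquiv.ofBijective _ hbij⟩

include hi4 hj2 hji hw3 hwi hwj in
/-- Recognition: if `Y` is generated by `i, j, w`. -/
theorem equiv_of_closure (hi2 : i ^ 2 ≠ 1) (hw1 : w ≠ 1)
    (hY : Subgroup.closure {i, j, w} = ⊤) : Nonempty (Model ≃* Y) := by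
  have hinj := F_injective i j w hi4 hj2 hji hw3 hwi hwj hi2 hw1
  have hsurj : Function.Surjective (F i j w hi4 hj2 hji hw3 hwi hwj) := by
    rw [← MonoidHom.range_eq_top, eq_top_iff, ← hY, Subgroup.closure_le]
    intro y hy
    rcases hy with rfl | rfl | rfl
    · exact ⟨_, F_i y j w hi4 hj2 hji hw3 hwi hwj⟩
    · exact ⟨_, F_j i y w hi4 hj2 hji hw3 hwi hwj⟩
    · exact ⟨_, F_w i j y hi4 hj2 hji hw3 hwi hwj⟩
  exact ⟨MulEquiv.ofBijective _ ⟨hinj, hsurj⟩⟩

end Recognise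

section SL

open Matrix

/-- `SL(2,3)`. -/
abbrev SL23 := Matrix.SpecialLinearGroup (Fin 2) (ZMod 3)

theorem card_SL23 : Nat.card SL23 = 24 := by
  have h := Cfsg.Agent.S0242.result (F := ZMod 3) (q := 3) (by simp [ZMod.card]) 2 (by norm_num)
  rw [Fin.prod_univ_two] at h
  show Nat.card (Matrix.SpecialLinearGroup (Fin 2) (ZMod 3)) = 24
  generalize Nat.card (Matrix.SpecialLinearGroup (Fin 2) (ZMod 3)) = c at h ⊢
  norm_num at h
  omega

def mI : SL23 := ⟨!![0, -1; 1, 0], by decide⟩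
def mJ : SL23 := ⟨!![1, 1; 1, -1], by decide⟩
def mW : SL23 := ⟨!![1, 1; 0, 1], by decide⟩

/-- `SL(2,3)` is the model `Q₈ ⋊ C₃`. -/
theorem model_equiv_SL23 : Nonempty (Model ≃* SL23) := by
  have hi4 : mI ^ 4 = 1 := by decide
  have hj2 : mJ * mJ = mI ^ 2 := by decide
  have hw3 : mW ^ 3 = 1 := by decide
  have hinvI : mI⁻¹ = mI ^ 3 := by
    rw [inv_eq_iff_mul_eq_one, ← pow_succ']; exact hi4
  have hinvW : mW⁻¹ = mW ^ 2 := by
    rw [inv_eq_iff_mul_eq_one, ← pow_succ']; exact hw3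
  have hji : mJ * mI = mI⁻¹ * mJ := by rw [hinvI]; decide
  have hwi : mW * mI * mW⁻¹ = mJ := by rw [hinvW]; decide
  have hwj : mW * mJ * mW⁻¹ = mI * mJ := by rw [hinvW]; decide
  exact equiv_of_card_le mI mJ mW hi4 hj2 hji hw3 hwi hwj (by decide) (by decide)
    (le_of_eq card_SL23)

end SL

/-- Recognition of `SL(2,3)` by generators and relations. -/
theorem SL23_equiv_of_closure {Y : Type*} [Group Y] (i j w : Y)
    (hi4 : i ^ 4 = 1) (hj2 : j * j = i ^ 2) (hji : j * i = i⁻¹ * j)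
    (hw3 : w ^ 3 = 1) (hwi : w * i * w⁻¹ = j) (hwj : w * j * w⁻¹ = i * j)
    (hi2 : i ^ 2 ≠ 1) (hw1 : w ≠ 1) (hY : Subgroup.closure {i, j, w} = ⊤) :
    Nonempty (Y ≃* Matrix.SpecialLinearGroup (Fin 2) (ZMod 3)) := by
  obtain ⟨e₁⟩ := equiv_of_closure i j w hi4 hj2 hji hw3 hwi hwj hi2 hw1 hY
  obtain ⟨e₂⟩ := model_equiv_SL23
  exact ⟨e₁.symm.trans e₂⟩

end Cfsg.Agent.Lib.Helper6_SL23
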