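import Mathlib
import Cfsg.Agent.Lib.Helper4_Q8Norm
import Cfsg.Agent.Lib.Helper4_SL2Unip
import Cfsg.Agent.Lib.Helper4_PSL2Orders
import Cfsg.Agent.Lib.Helper4_SL2Syl2
import Cfsg.Agent.Lib.Helper5_MaxClassTwo
import Cfsg.Agent.Lib.Helper6_SL23

set_option linter.all false
set_option linter.unusedVariables false
set_option linter.unusedTactic false
set_option linter.unreachableTactic false
set_option linter.style.longLine false

namespace Cfsg.Agent.Lib.Helper4_SL2PNorm
open Matrix Cfsg.Agent.Lib.Helper4_GL2Classes0 Cfsg.Agent.Lib.Helper4_SL2Classes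
  Cfsg.Agent.Lib.Helper4_SL2Odd Cfsg.Agent.Lib.Helper4_PSL2Orders Cfsg.Agent.Lib.Helper4_Q8Norm
  Cfsg.Agent.Lib.Helper4_PSL2ClassOdd Cfsg.Agent.Lib.Helper4_SL2Unip Cfsg.Agent.Lib.Helper4_PSL2TI
  Cfsg.Agent.Lib.Helper4_SL2Syl2

section GenericGroup
variable {G : Type*} [Group G]

/-- group-level quaternion enumeration -/
theorem quat_enum (z : G) (hzc : ∀ g : G, z * g = g * z) (hzz : z * z = 1) (hz1 : z ≠ 1)
    (R : Subgroup G) (hR : ∀ x ∈ R, x = 1 ∨ x = z ∨ x * x = z)
    (i j : G) (hi : i ∈ R) (hj : j ∈ R) (hii : i * i = z) (hjj : j * j = z)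
    (hji1 : j ≠ i) (hji2 : j ≠ z * i) :
    z ∈ R ∧ j * i = z * (i * j) ∧ (i * j) * (i * j) = z ∧
      ∀ x ∈ R, x = 1 ∨ x = z ∨ x = i ∨ x = z * i ∨ x = j ∨ x = z * j ∨ x = i * j ∨ x = z * (i * j) := by
  have hzR : z ∈ R := by rw [← hii]; exact R.mul_mem hi hi
  have zl : ∀ g h : G, g * (z * h) = z * (g * h) := by
    intro g h
    rw [← mul_assoc, ← hzc, mul_assoc]
  have inv_of : ∀ x : G, x * x = z → x⁻¹ = z * x := by
    intro x hx
    apply inv_eq_of_mul_eq_one_right
    rw [zl, hx, hzz]
  -- anticommutation from squares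
  have anti : ∀ x y : G, x * x = z → y * y = z → (x * y) * (x * y) = z → y * x = z * (x * y) := by
    intro x y hx hy hxy
    have h1 : y * x = x⁻¹ * ((x * y) * (x * y)) * y⁻¹ := by group
    rw [h1, hxy, inv_of x hx, inv_of y hy]
    calc z * x * z * (z * y) = z * (x * (z * (z * y))) := by simp only [mul_assoc]
      _ = z * (x * y) := by rw [← mul_assoc z z y, hzz, one_mul]
  -- elements of R other than 1, z square to z
  have sq_of : ∀ x ∈ R, x ≠ 1 → x ≠ z → x * x = z := by
    intro x hx h1 h2
    rcases hR x hx with h | h | h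
    · exact absurd h h1
    · exact absurd h h2
    · exact h
  -- i * j
  have hijR : i * j ∈ R := R.mul_mem hi hj
  have hij1 : i * j ≠ 1 := by
    intro h
    apply hji2
    rw [← inv_of i hii]
    exact (inv_eq_of_mul_eq_one_right h).symm
  have hijz : i * j ≠ z := by
    intro h
    apply hji1
    have : j = i⁻¹ * z := by rw [← h]; group
    rw [this, inv_of i hii, mul_assoc, ← hzc i, ← mul_assoc, hzz, one_mul]
  have hkk := sq_of _ hijR hij1 hijz
  have hanti := anti i j hii hjj hkk
  refine ⟨hzR, hanti, hkk, ?_⟩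
  intro x hx
  by_cases h1 : x = 1
  · left; exact h1
  by_cases h2 : x = z
  · right; left; exact h2
  by_cases h3 : x = i
  · right; right; left; exact h3
  by_cases h4 : x = z * i
  · right; right; right; left; exact h4
  by_cases h5 : x = j
  · right; right; right; right; left; exact h5
  by_cases h6 : x = z * j
  · right; right; right; right; right; left; exact h6
  right; right; right; right; right; right
  have hxx := sq_of x hx h1 h2
  -- x anticommutes with i and j
  have key : ∀ u ∈ R, u * u = z → x ≠ u → x ≠ z * u → u * x = z * (x * u) := by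
    intro u hu huu hxu hxzu
    apply anti x u hxx huu
    apply sq_of _ (R.mul_mem hx hu)
    · intro h
      apply hxzu
      rw [← inv_of u huu]
      exact eq_inv_of_mul_eq_one_left h
    · intro h
      apply hxu
      have : x = z * u⁻¹ := by rw [← h]; group
      rw [this, inv_of u huu, ← mul_assoc, hzz, one_mul]
  have hix := key i hi hii h3 h4
  have hjx := key j hj hjj h5 h6
  have hyR : x * (i * j) ∈ R := R.mul_mem hx hijR
  rcases hR _ hyR with h | h | h
  · right
    rw [← inv_of (i * j) hkk]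
    exact eq_inv_of_mul_eq_one_left h
  · left
    have : x = z * (i * j)⁻¹ := by rw [← h]; group
    rw [this, inv_of (i * j) hkk, ← mul_assoc, hzz, one_mul]
  · exfalso
    apply hz1
    have e : x * (i * j) * (x * (i * j)) = 1 := by
      calc x * (i * j) * (x * (i * j)) = x * (i * ((j * x) * (i * j))) := by simp only [mul_assoc]
        _ = x * (i * (z * (x * j) * (i * j))) := by rw [hjx]
        _ = z * (x * ((i * x) * (j * (i * j)))) := by
            rw [mul_assoc z, zl i, zl x]
            simp only [mul_assoc]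
        _ = z * (x * (z * (x * i) * (j * (i * j)))) := by rw [hix]
        _ = z * (z * ((x * x) * ((i * j) * (i * j)))) := by
            rw [mul_assoc z (x * i), zl x]
            simp only [mul_assoc]
        _ = 1 := by rw [hxx, hkk, hzz, mul_one, hzz]
    rw [← h, e]


theorem quat_final (z : G) (hzc : ∀ g : G, z * g = g * z) (hzz : z * z = 1) (hz1 : z ≠ 1)
    (R : Subgroup G) (hR : ∀ x ∈ R, x = 1 ∨ x = z ∨ x * x = z)
    (i j a : G) (hi : i ∈ R) (hj : j ∈ R) (hii : i * i = z) (hjj : j * j = z)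
    (hji1 : j ≠ i) (hji2 : j ≠ z * i) (ha3 : a ^ 3 = 1) (ha1 : a ≠ 1)
    (hai : a * i * a⁻¹ = j) (haj : a * j * a⁻¹ = i * j) :
    Nonempty (↥R ≃* QuaternionGroup 2) ∧
      Nonempty (↥(R ⊔ Subgroup.zpowers a) ≃* Matrix.SpecialLinearGroup (Fin 2) (ZMod 3)) := by
  obtain ⟨hzR, hanti, hkk, henum⟩ := quat_enum z hzc hzz hz1 R hR i j hi hj hii hjj hji1 hji2
  have zl : ∀ g h : G, g * (z * h) = z * (g * h) := by
    intro g h
    rw [← mul_assoc, ← hzc, mul_assoc]
  have hi2 : i ^ 2 = z := by rw [pow_two, hii]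
  have hi4 : i ^ 4 = 1 := by
    rw [show (4 : ℕ) = 2 * 2 from rfl, pow_mul, hi2, pow_two, hzz]
  have hiinv : i⁻¹ = z * i := by
    apply inv_eq_of_mul_eq_one_right
    rw [zl, hii, hzz]
  have hio : orderOf i = 4 := by
    have := orderOf_eq_prime_pow (p := 2) (n := 1) (x := i) (by rw [pow_one, hi2]; exact hz1)
      (by rw [show (2 : ℕ) ^ (1 + 1) = 4 from rfl, hi4])
    simpa using this
  have hj1 : j ≠ 1 := by
    rintro rfl
    apply hz1
    rw [← hjj, one_mul]
  have hjz : j ≠ z := by
    rintro rfl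
    apply hz1
    rw [hzz] at hjj
    exact hjj.symm
  -- membership in zpowers i
  have hmemH : ∀ x : G, x ∈ Subgroup.zpowers i ↔ x = 1 ∨ x = i ∨ x = z ∨ x = z * i := by
    intro x
    constructor
    · intro hx
      obtain ⟨k, rfl⟩ := Subgroup.mem_zpowers_iff.mp hx
      rw [← zpow_mod_orderOf, hio]
      have h44 : ((4 : ℕ) : ℤ) = 4 := rfl
      rw [h44]
      have h0 : 0 ≤ k % 4 := Int.emod_nonneg k (by norm_num)
      have h4 : k % 4 < 4 := Int.emod_lt_of_pos k (by norm_num)
      obtain ⟨m, hm⟩ := Int.eq_ofNat_of_zero_le h0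
      rw [hm] at h4 ⊢
      rw [zpow_natCast]
      have hm4 : m < 4 := by exact_mod_cast h4
      interval_cases m
      · left; simp
      · right; left; simp
      · right; right; left; exact hi2
      · right; right; right
        rw [show (3 : ℕ) = 2 + 1 from rfl, pow_add, hi2, pow_one]
    · rintro (h | h | h | h) <;> rw [h]
      · exact Subgroup.one_mem _
      · exact Subgroup.mem_zpowers i
      · rw [← hi2]; exact Subgroup.pow_mem _ (Subgroup.mem_zpowers i) 2
      · rw [← hi2, ← pow_succ]; exact Subgroup.pow_mem _ (Subgroup.mem_zpowers i) 3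
  have hjH : j ∉ Subgroup.zpowers i := by
    rw [hmemH]
    rintro (h | h | h | h)
    · exact hj1 h
    · exact hji1 h
    · exact hjz h
    · exact hji2 h
  constructor
  · -- quaternion group
    set I : R := ⟨i, hi⟩ with hI
    set J : R := ⟨j, hj⟩ with hJ
    have hIo : orderOf I = 2 * 2 := by
      rw [hI, Subgroup.orderOf_mk, hio]
    have hmem' : ∀ b : R, b ∈ Subgroup.zpowers I ↔ (b : G) ∈ Subgroup.zpowers i := by
      intro b
      rw [Subgroup.mem_zpowers_iff, Subgroup.mem_zpowers_iff]
      constructor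
      · rintro ⟨k, hk⟩
        refine ⟨k, ?_⟩
        have := congrArg (fun y : R => (y : G)) hk
        simpa using this
      · rintro ⟨k, hk⟩
        refine ⟨k, ?_⟩
        apply Subtype.ext
        simpa using hk
    have hJH : J ∉ Subgroup.zpowers I := by
      rw [hmem']; exact hjH
    have hidx : (Subgroup.zpowers I).index = 2 := by
      rw [Subgroup.index_eq_two_iff]
      refine ⟨J, ?_⟩
      intro b
      by_cases hb : b ∈ Subgroup.zpowers I
      · right
        refine ⟨hb, ?_⟩
        intro hc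
        apply hJH
        have := (Subgroup.zpowers I).mul_mem ((Subgroup.zpowers I).inv_mem hb) hc
        rwa [inv_mul_cancel_left] at this
      · left
        refine ⟨?_, hb⟩
        rw [hmem'] at hb ⊢
        rw [hmemH] at hb ⊢
        push Not at hb
        obtain ⟨b1, b2, b3, b4⟩ := hb
        show (b : G) * j = 1 ∨ (b : G) * j = i ∨ (b : G) * j = z ∨ (b : G) * j = z * i
        rcases henum b b.2 with h | h | h | h | h | h | h | h
        · exact absurd h b1
        · exact absurd h b3
        · exact absurd h b2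
        · exact absurd h b4
        · right; right; left; rw [h, hjj]
        · left; rw [h, mul_assoc, hjj, hzz]
        · right; right; right; rw [h, mul_assoc, hjj, ← hzc]
        · right; left; rw [h, mul_assoc, mul_assoc, hjj, ← hzc i, ← mul_assoc, hzz, one_mul]
    have hcard : Nat.card R = 4 * 2 := by
      have := Subgroup.card_mul_index (Subgroup.zpowers I)
      rw [hidx, Nat.card_zpowers, hIo] at this
      omega
    have hxx : J * J = I ^ 2 := by
      apply Subtype.ext
      show j * j = i ^ 2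
      rw [hjj, hi2]
    have hxa : J * I * J⁻¹ = I⁻¹ := by
      apply Subtype.ext
      show j * i * j⁻¹ = i⁻¹
      rw [hanti, hiinv]
      have : z * (i * j) * j⁻¹ = z * i := by group
      exact this
    exact Cfsg.Agent.Lib.Helper5_MaxClassTwo.quaternion_equiv 2 hcard I J hIo hJH hidx hxx hxa
  · -- SL(2,3)
    set s : Set G := {i, j, a} with hs
    have hK : R ⊔ Subgroup.zpowers a = Subgroup.closure s := by
      apply le_antisymm
      · apply sup_le
        · intro x hx
          have hiK : i ∈ Subgroup.closure s := Subgroup.subset_closure (by simp [hs])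
          have hjK : j ∈ Subgroup.closure s := Subgroup.subset_closure (by simp [hs])
          have hzK : z ∈ Subgroup.closure s := by rw [← hii]; exact Subgroup.mul_mem _ hiK hiK
          rcases henum x hx with h | h | h | h | h | h | h | h <;> rw [h]
          · exact Subgroup.one_mem _
          · exact hzK
          · exact hiK
          · exact Subgroup.mul_mem _ hzK hiK
          · exact hjK
          · exact Subgroup.mul_mem _ hzK hjK
          · exact Subgroup.mul_mem _ hiK hjK
          · exact Subgroup.mul_mem _ hzK (Subgroup.mul_mem _ hiK hjK)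
        · rw [Subgroup.zpowers_le]
          exact Subgroup.subset_closure (by simp [hs])
      · rw [Subgroup.closure_le]
        intro x hx
        rcases hx with rfl | rfl | rfl
        · exact Subgroup.mem_sup_left hi
        · exact Subgroup.mem_sup_left hj
        · exact Subgroup.mem_sup_right (Subgroup.mem_zpowers _)
    have htop := Subgroup.closure_closure_coe_preimage (k := s)
    set I : Subgroup.closure s := ⟨i, Subgroup.subset_closure (by simp [hs])⟩ with hI
    set J : Subgroup.closure s := ⟨j, Subgroup.subset_closure (by simp [hs])⟩ with hJ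
    set W : Subgroup.closure s := ⟨a, Subgroup.subset_closure (by simp [hs])⟩ with hW
    have hset : ((↑) : Subgroup.closure s → G) ⁻¹' s = {I, J, W} := by
      ext y
      simp only [Set.mem_preimage, hs, Set.mem_insert_iff, Set.mem_singleton_iff]
      constructor
      · rintro (h | h | h)
        · left; exact Subtype.ext h
        · right; left; exact Subtype.ext h
        · right; right; exact Subtype.ext h
      · rintro (h | h | h) <;> rw [h]
        · left; rfl
        · right; left; rfl
        · right; right; rfl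
    rw [hset] at htop
    have e := Cfsg.Agent.Lib.Helper6_SL23.SL23_equiv_of_closure I J W
      (by apply Subtype.ext; exact hi4)
      (by apply Subtype.ext; show j * j = i ^ 2; rw [hjj, hi2])
      (by apply Subtype.ext; show j * i = i⁻¹ * j; rw [hanti, hiinv, mul_assoc])
      (by apply Subtype.ext; exact ha3)
      (by apply Subtype.ext; exact hai)
      (by apply Subtype.ext; exact haj)
      (by intro h; apply hz1; rw [← hi2]; exact congrArg Subtype.val h)
      (by intro h; apply ha1; exact congrArg Subtype.val h)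
      htop
    obtain ⟨e⟩ := e
    exact ⟨(MulEquiv.subgroupCongr hK).trans e⟩


end GenericGroup

section SL2
variable {F : Type*} [Field F]

theorem card_odd [Fintype F] (p : ℕ) [Fact p.Prime] [CharP F p] (hp : p ≠ 2) :
    Odd (Fintype.card F) := by
  obtain ⟨n, _, hn⟩ := FiniteField.card F p
  rw [hn]
  exact ((Fact.out : p.Prime).odd_of_ne_two hp).pow

theorem p_dvd_card [Fintype F] (p : ℕ) [Fact p.Prime] [CharP F p] : p ∣ Fintype.card F := by
  obtain ⟨n, _, hn⟩ := FiniteField.card F p
  rw [hn]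
  exact dvd_pow_self p n.ne_zero

/-- an element whose order is divisible by `p` has trace `±2` -/
theorem trace_sq_of_p_dvd [Fintype F] (p : ℕ) [Fact p.Prime] [CharP F p] (hp : p ≠ 2)
    (g : Matrix.SpecialLinearGroup (Fin 2) F) (hg : p ∣ orderOf g) :
    (g : Matrix (Fin 2) (Fin 2) F).trace ^ 2 = 4 := by
  have hpp : p.Prime := Fact.out
  have hodd := card_odd (F := F) p hp
  by_contra ht
  have hns : NS (g : Matrix (Fin 2) (Fin 2) F) := by
    apply ns_of_tr
    rw [g.det_coe, mul_one]
    exact ht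
  have hc := conj_C'_odd hodd g hns ht
  have hq := p_dvd_card (F := F) p
  have hq1 : 1 < Fintype.card F := Fintype.one_lt_card
  rcases C'_pow_card ((g : Matrix (Fin 2) (Fin 2) F).trace) ht with h | h
  · have h1 := pow_of_conj g _ hc _ h
    have h2 := Nat.dvd_trans hg (orderOf_dvd_of_pow_eq_one h1)
    have h3 : p ∣ Fintype.card F - (Fintype.card F - 1) := Nat.dvd_sub hq h2
    have e : Fintype.card F - (Fintype.card F - 1) = 1 := by omega
    rw [e] at h3
    exact hpp.one_lt.ne' (Nat.dvd_one.mp h3)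
  · have h1 := pow_of_conj g _ hc _ h
    have h2 := Nat.dvd_trans hg (orderOf_dvd_of_pow_eq_one h1)
    have h3 : p ∣ (Fintype.card F + 1) - Fintype.card F := Nat.dvd_sub h2 hq
    have e : Fintype.card F + 1 - Fintype.card F = 1 := by omega
    rw [e] at h3
    exact hpp.one_lt.ne' (Nat.dvd_one.mp h3)

/-- traceless anticommutation -/
theorem anticomm_of_trace_zero (A B : Matrix (Fin 2) (Fin 2) F) (hA : A.trace = 0)
    (hB : B.trace = 0) : A * B + B * A = (A * B).trace • (1 : Matrix (Fin 2) (Fin 2) F) := by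
  rw [Matrix.trace_fin_two] at hA hB
  have hA' : A 1 1 = -A 0 0 := by linear_combination hA
  have hB' : B 1 1 = -B 0 0 := by linear_combination hB
  ext i j
  fin_cases i <;> fin_cases j <;>
    simp [Matrix.mul_apply, Fin.sum_univ_two, Matrix.trace_fin_two, hA', hB'] <;> ring

theorem nil_sandwich (N X : Matrix (Fin 2) (Fin 2) F) (htr : N.trace = 0) (hdet : N.det = 0) :
    N * X * N = (N * X).trace • N := by
  rw [Matrix.trace_fin_two] at htr
  rw [Matrix.det_fin_two] at hdet
  have hN' : N 1 1 = -N 0 0 := by linear_combination htr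
  rw [hN'] at hdet
  ext i j
  fin_cases i <;> fin_cases j <;>
    simp [Matrix.mul_apply, Fin.sum_univ_two, Matrix.trace_fin_two, hN']
  · linear_combination (-X 1 1) * hdet
  · linear_combination (X 0 1) * hdet
  · linear_combination (X 1 0) * hdet
  · linear_combination (-X 0 0) * hdet

theorem one_add_pow (N : Matrix (Fin 2) (Fin 2) F) (hN : N * N = 0) (n : ℕ) :
    (1 + N) ^ n = 1 + (n : F) • N := by
  induction n with
  | zero => simp
  | succ k ih =>
    rw [pow_succ, ih, Matrix.add_mul, Matrix.mul_add, Matrix.mul_add]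
    simp only [Matrix.smul_mul, hN, Matrix.one_mul, Matrix.mul_one, smul_zero, add_zero]
    push_cast
    rw [add_smul, one_smul]
    abel


theorem unip_facts (p : ℕ) [Fact p.Prime] [CharP F p] (hp : p ≠ 2)
    (a : Matrix.SpecialLinearGroup (Fin 2) F) (k : ℕ) (hak : orderOf a = p ^ k) (ha1 : a ≠ 1) :
    (a : Matrix (Fin 2) (Fin 2) F).trace = 2 ∧ orderOf a = p ∧
      ((a : Matrix (Fin 2) (Fin 2) F) - 1) * ((a : Matrix (Fin 2) (Fin 2) F) - 1) = 0 ∧
      NS (a : Matrix (Fin 2) (Fin 2) F) := by
  have hpp : p.Prime := Fact.out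
  have : CharP (Matrix (Fin 2) (Fin 2) F) p := Matrix.charP p
  have h2 : (2 : F) ≠ 0 := by
    have := Ring.two_ne_zero (R := F) (by rw [ringChar.eq F p]; exact hp)
    exact this
  set B : Matrix (Fin 2) (Fin 2) F := (a : Matrix (Fin 2) (Fin 2) F) with hB
  have h1 : a ^ (p ^ k) = 1 := by rw [← hak]; exact pow_orderOf_eq_one a
  have h1' : B ^ (p ^ k) = 1 := by
    rw [hB, ← Matrix.SpecialLinearGroup.coe_pow, h1]; rfl
  have hN : (B - 1) ^ (p ^ k) = 0 := by
    rw [sub_pow_char_pow_of_commute p k (Commute.one_right _), h1', one_pow, sub_self]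
  have htr : (B - 1).trace = 0 :=
    (Matrix.isNilpotent_trace_of_isNilpotent ⟨p ^ k, hN⟩).eq_zero
  rw [Matrix.trace_sub, Matrix.trace_one, Fintype.card_fin] at htr
  have htr2 : B.trace = 2 := by
    push_cast at htr
    linear_combination htr
  have hns : NS B := by
    by_contra hns
    have h3 := (not_NS_iff _).mp hns
    rw [h3, Matrix.trace_smul, Matrix.trace_one, Fintype.card_fin, smul_eq_mul] at htr2
    push_cast at htr2
    have ha : B 0 0 = 1 := by
      apply mul_right_cancel₀ h2
      linear_combination htr2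
    rw [ha, one_smul] at h3
    apply ha1
    apply Subtype.ext
    rw [← hB, h3]; rfl
  refine ⟨htr2, (order_p_iff p hp a).mpr ⟨hns, htr2⟩, ?_, hns⟩
  have hch := Cfsg.Agent.Lib.Helper4_PSL2Order.ch B a.det_coe
  rw [htr2] at hch
  rw [sub_mul, mul_sub, hch, Matrix.mul_one, Matrix.one_mul, two_smul]
  abel

theorem pow_mul_pow_form {G : Type*} [Group G] (R : Subgroup G) (a : G)
    (ha : a ∈ Subgroup.normalizer (R : Set G)) (x : G) (hx : x ∈ R) (n o : ℕ) :
    ∃ x' ∈ R, (a ^ n * x) ^ o = a ^ (n * o) * x' := by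
  induction o with
  | zero => exact ⟨1, R.one_mem, by simp⟩
  | succ o ih =>
    obtain ⟨x', hx', h⟩ := ih
    have hn : (a ^ n)⁻¹ ∈ Subgroup.normalizer (R : Set G) :=
      Subgroup.inv_mem _ (Subgroup.pow_mem _ ha n)
    have hc : (a ^ n)⁻¹ * x' * ((a ^ n)⁻¹)⁻¹ ∈ R :=
      ((Subgroup.mem_normalizer_iff (H := R)).mp hn x').mp hx'
    refine ⟨(a ^ n)⁻¹ * x' * ((a ^ n)⁻¹)⁻¹ * x, R.mul_mem hc hx, ?_⟩
    rw [pow_succ, h, mul_add, pow_add, mul_one]
    group

theorem p_dvd_order {G : Type*} [Group G] [Finite G] (p : ℕ) [Fact p.Prime] (R : Subgroup G) (a : G)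
    (ha : a ∈ Subgroup.normalizer (R : Set G)) (hcop : (Nat.card R).Coprime p)
    (hap : orderOf a = p) (x : G) (hx : x ∈ R) (n : ℕ) (hn : ¬ p ∣ n) :
    p ∣ orderOf (a ^ n * x) := by
  have hpp : p.Prime := Fact.out
  obtain ⟨x', hx', h⟩ := pow_mul_pow_form R a ha x hx n (orderOf (a ^ n * x))
  rw [pow_orderOf_eq_one] at h
  set y := a ^ (n * orderOf (a ^ n * x)) with hy
  have hyR : y ∈ R := by
    have : y = x'⁻¹ := by
      rw [eq_inv_iff_mul_eq_one]; exact h.symm
    rw [this]; exact R.inv_mem hx'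
  have h1 : orderOf y ∣ Nat.card R := by
    have := orderOf_dvd_natCard (⟨y, hyR⟩ : R)
    rwa [Subgroup.orderOf_mk] at this
  have h2 : orderOf y ∣ p := by
    rw [← hap]; exact orderOf_pow_dvd _
  have h3 : orderOf y = 1 := Nat.eq_one_of_dvd_coprimes hcop h1 h2
  rw [orderOf_eq_one_iff] at h3
  have h4 : orderOf a ∣ n * orderOf (a ^ n * x) := orderOf_dvd_of_pow_eq_one h3
  rw [hap] at h4
  rcases (Nat.Prime.dvd_mul hpp).mp h4 with h5 | h5
  · exact absurd h5 hn
  · exact h5


theorem two_ne_zero_of_char (p : ℕ) [Fact p.Prime] [CharP F p] (hp : p ≠ 2) : (2 : F) ≠ 0 := by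
  have := Ring.two_ne_zero (R := F) (by rw [ringChar.eq F p]; exact hp)
  exact this

/-- trace of `a ^ n * x` -/
theorem trace_pow_mul (a x : Matrix.SpecialLinearGroup (Fin 2) F)
    (hNN : ((a : Matrix (Fin 2) (Fin 2) F) - 1) * ((a : Matrix (Fin 2) (Fin 2) F) - 1) = 0) (n : ℕ) :
    ((a ^ n * x : Matrix.SpecialLinearGroup (Fin 2) F) : Matrix (Fin 2) (Fin 2) F).trace =
      (x : Matrix (Fin 2) (Fin 2) F).trace +
        (n : F) * (((a : Matrix (Fin 2) (Fin 2) F) - 1) * (x : Matrix (Fin 2) (Fin 2) F)).trace := by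
  set N := (a : Matrix (Fin 2) (Fin 2) F) - 1 with hN
  have ha : (a : Matrix (Fin 2) (Fin 2) F) = 1 + N := by rw [hN]; abel
  rw [Matrix.SpecialLinearGroup.coe_mul, Matrix.SpecialLinearGroup.coe_pow, ha, one_add_pow N hNN,
    Matrix.add_mul, Matrix.one_mul, Matrix.smul_mul, Matrix.trace_add, Matrix.trace_smul, smul_eq_mul]

/-- an element of order prime to `p` with trace `±2` is `±1` -/
theorem pm_one_of_trace (p : ℕ) [Fact p.Prime] [CharP F p] (hp : p ≠ 2)
    (x : Matrix.SpecialLinearGroup (Fin 2) F)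
    (htr : (x : Matrix (Fin 2) (Fin 2) F).trace ^ 2 = 4) (m : ℕ) (hm : x ^ m = 1)
    (hcop : m.Coprime p) : x = 1 ∨ x = N1 := by
  have hpp : p.Prime := Fact.out
  have h2 := two_ne_zero_of_char (F := F) p hp
  by_contra hcon
  push Not at hcon
  obtain ⟨h1, hN1⟩ := hcon
  have hns := NS_of_ne x h1 hN1
  have hpm : p ∣ m → False := by
    intro h
    have := Nat.Coprime.eq_one_of_dvd hcop.symm h
    exact hpp.one_lt.ne' this
  have ht : ((x : Matrix (Fin 2) (Fin 2) F).trace - 2) * ((x : Matrix (Fin 2) (Fin 2) F).trace + 2) = 0 := by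
    linear_combination htr
  rcases mul_eq_zero.mp ht with ht | ht
  · have ho := (order_p_iff p hp x).mpr ⟨hns, by linear_combination ht⟩
    apply hpm
    rw [← ho]
    exact orderOf_dvd_of_pow_eq_one hm
  · have hns' : NS ((N1 * x : Matrix.SpecialLinearGroup (Fin 2) F) : Matrix (Fin 2) (Fin 2) F) := by
      rw [N1_mul_val]
      unfold NS at hns ⊢
      simp only [Matrix.neg_apply, ne_eq, neg_eq_zero, neg_inj]
      exact hns
    have htr' : ((N1 * x : Matrix.SpecialLinearGroup (Fin 2) F) : Matrix (Fin 2) (Fin 2) F).trace = 2 := by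
      rw [N1_mul_val, Matrix.trace_neg]
      linear_combination -ht
    have ho := (order_p_iff p hp (N1 * x)).mpr ⟨hns', htr'⟩
    have hpow : (N1 * x) ^ (2 * m) = 1 := by
      have hc : Commute (N1 : Matrix.SpecialLinearGroup (Fin 2) F) x := N1_comm x
      rw [hc.mul_pow, pow_mul, pow_two, N1_mul_N1, one_pow, one_mul, mul_comm, pow_mul, hm, one_pow]
    have hd : p ∣ 2 * m := by
      rw [← ho]; exact orderOf_dvd_of_pow_eq_one hpow
    rcases (Nat.Prime.dvd_mul hpp).mp hd with h | h
    · have := Nat.le_of_dvd (by norm_num) h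
      have := hpp.two_le
      omega
    · exact hpm h

/-- a trace-zero element squares to `-1` -/
theorem sq_of_trace_zero (x : Matrix.SpecialLinearGroup (Fin 2) F)
    (h : (x : Matrix (Fin 2) (Fin 2) F).trace = 0) : x * x = N1 := by
  apply Subtype.ext
  rw [Matrix.SpecialLinearGroup.coe_mul, N1_val,
    Cfsg.Agent.Lib.Helper4_PSL2Order.ch _ x.det_coe, h, zero_smul, zero_sub]

theorem trace_zero_of_sq (h2 : (2 : F) ≠ 0) (x : Matrix.SpecialLinearGroup (Fin 2) F)
    (h : x * x = N1) : (x : Matrix (Fin 2) (Fin 2) F).trace = 0 := by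
  have h1 := congrArg (fun g : Matrix.SpecialLinearGroup (Fin 2) F => (g : Matrix (Fin 2) (Fin 2) F)) h
  simp only [Matrix.SpecialLinearGroup.coe_mul] at h1
  rw [N1_val, Cfsg.Agent.Lib.Helper4_PSL2Order.ch _ x.det_coe] at h1
  have h3 : (x : Matrix (Fin 2) (Fin 2) F).trace • (x : Matrix (Fin 2) (Fin 2) F) = 0 := by
    have : (x : Matrix (Fin 2) (Fin 2) F).trace • (x : Matrix (Fin 2) (Fin 2) F) - 1 + 1 = -1 + 1 := by
      rw [h1]
    simpa using this
  rcases smul_eq_zero.mp h3 with h4 | h4
  · exact h4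
  · exfalso
    have := x.det_coe
    rw [h4, Matrix.det_zero] at this
    exact zero_ne_one this

/-- a trace-zero element does not commute with a nontrivial unipotent -/
theorem not_comm (h2 : (2 : F) ≠ 0) (a x : Matrix.SpecialLinearGroup (Fin 2) F)
    (htr : (a : Matrix (Fin 2) (Fin 2) F).trace = 2)
    (hnsa : NS (a : Matrix (Fin 2) (Fin 2) F))
    (hx : (x : Matrix (Fin 2) (Fin 2) F).trace = 0) (hc : x * a = a * x) : False := by
  have hc' : (x : Matrix (Fin 2) (Fin 2) F) * a = (a : Matrix (Fin 2) (Fin 2) F) * x := by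
    have := congrArg (fun g : Matrix.SpecialLinearGroup (Fin 2) F => (g : Matrix (Fin 2) (Fin 2) F)) hc
    simpa using this
  obtain ⟨α, β, hX⟩ := exists_poly (a : Matrix (Fin 2) (Fin 2) F) (x : Matrix (Fin 2) (Fin 2) F) hnsa hc'
  -- trace: 2α + 2β = 0, det: (α + β)^2 ... use x = α + β a
  have h1 : (x : Matrix (Fin 2) (Fin 2) F).trace = 2 * α + 2 * β := by
    rw [hX, Matrix.trace_add, Matrix.trace_smul, Matrix.trace_smul, htr, Matrix.trace_one,
      Fintype.card_fin]
    simp; ring
  rw [hx] at h1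
  have hαβ : α = -β := by
    have : 2 * (α + β) = 0 := by linear_combination -h1
    have := (mul_eq_zero.mp this).resolve_left h2
    linear_combination this
  have hdet := x.det_coe
  rw [hX, hαβ] at hdet
  have hd2 : ((-β) • (1 : Matrix (Fin 2) (Fin 2) F) + β • (a : Matrix (Fin 2) (Fin 2) F)).det =
      β ^ 2 * ((a : Matrix (Fin 2) (Fin 2) F) - 1).det := by
    have : (-β) • (1 : Matrix (Fin 2) (Fin 2) F) + β • (a : Matrix (Fin 2) (Fin 2) F) =
        β • ((a : Matrix (Fin 2) (Fin 2) F) - 1) := by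
      rw [smul_sub, neg_smul]; abel
    rw [this, Matrix.det_smul, Fintype.card_fin]
  have hd3 : ((a : Matrix (Fin 2) (Fin 2) F) - 1).det = 0 := by
    have hda := a.det_coe
    rw [Matrix.det_fin_two] at hda ⊢
    rw [Matrix.trace_fin_two] at htr
    simp only [Matrix.sub_apply, Matrix.one_apply_eq, Matrix.one_apply_ne, ne_eq, zero_ne_one,
      not_false_eq_true, one_ne_zero, sub_zero]
    linear_combination hda - htr
  rw [hd2, hd3, mul_zero] at hdet
  exact zero_ne_one hdet


theorem S3740_main [Fintype F] {p : ℕ} [Fact p.Prime] [CharP F p] (hp : p ≠ 2)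
    (a : Matrix.SpecialLinearGroup (Fin 2) F) (ha : IsPGroup p ↥(Subgroup.zpowers a))
    (R : Subgroup (Matrix.SpecialLinearGroup (Fin 2) F)) (hR : (Nat.card R).Coprime p)
    (haR : a ∈ Subgroup.normalizer (R : Set (Matrix.SpecialLinearGroup (Fin 2) F)))
    (hnt : ⁅R, Subgroup.zpowers a⁆ ≠ ⊥) :
    p = 3 ∧ Nonempty (↥R ≃* QuaternionGroup 2) ∧
      Nonempty (↥(R ⊔ Subgroup.zpowers a) ≃* Matrix.SpecialLinearGroup (Fin 2) (ZMod 3)) := by
  have hpp : p.Prime := Fact.out
  have h2 := two_ne_zero_of_char (F := F) p hp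
  have hz1 : (N1 : Matrix.SpecialLinearGroup (Fin 2) F) ≠ 1 := N1_ne_one h2
  have ha1 : a ≠ 1 := by
    rintro rfl
    apply hnt
    rw [Subgroup.zpowers_one_eq_bot, Subgroup.commutator_bot_right]
  obtain ⟨k, hk⟩ := IsPGroup.iff_orderOf.mp ha ⟨a, Subgroup.mem_zpowers a⟩
  rw [Subgroup.orderOf_mk] at hk
  obtain ⟨htr, hap, hNN, hnsa⟩ := unip_facts p hp a k hk ha1
  set N := (a : Matrix (Fin 2) (Fin 2) F) - 1 with hN
  have hNtr : N.trace = 0 := by
    rw [hN, Matrix.trace_sub, htr, Matrix.trace_one, Fintype.card_fin]; norm_num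
  -- the functional γ
  set γ : Matrix.SpecialLinearGroup (Fin 2) F → F :=
    fun x => (N * (x : Matrix (Fin 2) (Fin 2) F)).trace with hγ
  have T2 : ∀ x ∈ R, ∀ n : ℕ, ¬ p ∣ n →
      ((x : Matrix (Fin 2) (Fin 2) F).trace + (n : F) * γ x) ^ 2 = 4 := by
    intro x hx n hn
    have h1 := p_dvd_order p R a haR hR hap x hx n hn
    have h3 := trace_sq_of_p_dvd p hp _ h1
    rw [trace_pow_mul a x hNN n] at h3
    exact h3
  have hp1 : ¬ p ∣ 1 := by
    intro h
    exact hpp.one_lt.ne' (Nat.dvd_one.mp h)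
  have T3 : ∀ x ∈ R, γ x = 0 → x = 1 ∨ x = N1 := by
    intro x hx h0
    have h1 := T2 x hx 1 hp1
    rw [h0, mul_zero, add_zero] at h1
    apply pm_one_of_trace p hp x h1 (Nat.card R) _ hR
    have h3 : ((⟨x, hx⟩ : R) ^ Nat.card R : R) = 1 := pow_card_eq_one'
    have h4 := congrArg Subtype.val h3
    rw [SubgroupClass.coe_pow] at h4
    exact h4
  have T4 : ∃ x ∈ R, γ x ≠ 0 := by
    by_contra hcon
    push Not at hcon
    apply hnt
    rw [Subgroup.commutator_eq_bot_iff_le_centralizer]
    intro x hx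
    rw [Subgroup.mem_centralizer_iff]
    intro h _
    rcases T3 x hx (hcon x hx) with rfl | rfl
    · simp
    · exact (N1_comm h).symm
  obtain ⟨i, hiR, hγi⟩ := T4
  -- p = 3
  have hp3 : p = 3 := by
    by_contra hne
    have h5 : 5 ≤ p := by
      have := hpp.two_le
      by_contra hlt
      have : p = 4 := by omega
      rw [this] at hpp
      exact absurd hpp (by decide)
    have hnd : ∀ n : ℕ, 0 < n → n < 5 → ¬ p ∣ n := by
      intro n h0 h5' hd
      have := Nat.le_of_dvd h0 hd
      omega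
    have e1 := T2 i hiR 1 (hnd 1 (by norm_num) (by norm_num))
    have e2 := T2 i hiR 2 (hnd 2 (by norm_num) (by norm_num))
    have e3 := T2 i hiR 3 (hnd 3 (by norm_num) (by norm_num))
    push_cast at e1 e2 e3
    set τ := (i : Matrix (Fin 2) (Fin 2) F).trace
    set g := γ i
    have h12 : g * (2 * τ + 3 * g) = 0 := by linear_combination e2 - e1
    have h23 : g * (2 * τ + 5 * g) = 0 := by linear_combination e3 - e2
    have h12' := (mul_eq_zero.mp h12).resolve_left hγi
    have h23' := (mul_eq_zero.mp h23).resolve_left hγi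
    have : (2 : F) * g = 0 := by linear_combination h23' - h12'
    exact hγi ((mul_eq_zero.mp this).resolve_left h2)
  subst hp3
  refine ⟨rfl, ?_⟩
  have h3F : (3 : F) = 0 := by
    have := CharP.cast_eq_zero F 3
    exact_mod_cast this
  have hp2 : ¬ 3 ∣ 2 := by norm_num
  -- elements with γ ≠ 0 have trace zero
  have T6 : ∀ x ∈ R, γ x ≠ 0 → (x : Matrix (Fin 2) (Fin 2) F).trace = 0 := by
    intro x hx hg
    have e1 := T2 x hx 1 hp1
    have e2 := T2 x hx 2 hp2
    push_cast at e1 e2
    set τ := (x : Matrix (Fin 2) (Fin 2) F).trace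
    set g := γ x
    have h12 : g * (2 * τ + 3 * g) = 0 := by linear_combination e2 - e1
    have h12' := (mul_eq_zero.mp h12).resolve_left hg
    rw [h3F, zero_mul, add_zero] at h12'
    exact (mul_eq_zero.mp h12').resolve_left h2
  have hRsq : ∀ x ∈ R, x = 1 ∨ x = N1 ∨ x * x = N1 := by
    intro x hx
    by_cases hg : γ x = 0
    · rcases T3 x hx hg with h | h
      · left; exact h
      · right; left; exact h
    · right; right
      exact sq_of_trace_zero x (T6 x hx hg)
  have hzc : ∀ g : Matrix.SpecialLinearGroup (Fin 2) F, N1 * g = g * N1 := N1_comm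
  have hzz : (N1 : Matrix.SpecialLinearGroup (Fin 2) F) * N1 = 1 := N1_mul_N1
  have ha3 : a ^ 3 = 1 := by rw [← hap]; exact pow_orderOf_eq_one a
  have ha4 : a ^ 4 = a := by rw [pow_succ, ha3, one_mul]
  have hii : i * i = N1 := sq_of_trace_zero i (T6 i hiR hγi)
  -- conjugation by a preserves R
  have hconj : ∀ x ∈ R, a * x * a⁻¹ ∈ R := fun x hx =>
    ((Subgroup.mem_normalizer_iff (H := R)).mp haR x).mp hx
  -- an element squaring to N1 does not commute with a
  have hnc : ∀ x : Matrix.SpecialLinearGroup (Fin 2) F, x * x = N1 → x * a = a * x → False := by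
    intro x hx hc
    exact not_comm h2 a x htr hnsa (trace_zero_of_sq h2 x hx) hc
  have comm_of_conj : ∀ b x : Matrix.SpecialLinearGroup (Fin 2) F, b * x * b⁻¹ = x → x * b = b * x := by
    intro b x h
    have : b * x = (b * x * b⁻¹) * b := by group
    rw [h] at this
    exact this.symm
  have haaa : a * a * a = 1 := by
    rw [← ha3, pow_succ, pow_two]
  have c3 : ∀ x : Matrix.SpecialLinearGroup (Fin 2) F, a * (a * (a * x * a⁻¹) * a⁻¹) * a⁻¹ = x := by
    intro x
    calc a * (a * (a * x * a⁻¹) * a⁻¹) * a⁻¹ = (a * a * a) * x * (a * a * a)⁻¹ := by group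
      _ = x := by rw [haaa]; group
  have cN : ∀ y : Matrix.SpecialLinearGroup (Fin 2) F, a * (N1 * y) * a⁻¹ = N1 * (a * y * a⁻¹) := by
    intro y
    rw [← mul_assoc a N1 y, ← hzc a]; group
  -- conjugation by a central sign
  have key : ∀ x : Matrix.SpecialLinearGroup (Fin 2) F, x * x = N1 →
      (a * x * a⁻¹ = x ∨ a * x * a⁻¹ = N1 * x) → False := by
    intro x hx h
    rcases h with h | h
    · exact hnc x hx (comm_of_conj a x h)
    · have h3 := c3 x
      rw [h, cN, h, cN, cN, h, ← mul_assoc, hzz, one_mul] at h3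
      apply hz1
      have : N1 * x = 1 * x := by rw [h3, one_mul]
      exact mul_right_cancel this
  set j := a * i * a⁻¹ with hj
  have hjR : j ∈ R := hconj i hiR
  have hjj : j * j = N1 := by
    calc j * j = a * (i * i) * a⁻¹ := by rw [hj]; group
      _ = N1 := by rw [hii, ← hzc a]; group
  have hji1 : j ≠ i := fun h => key i hii (Or.inl h)
  have hji2 : j ≠ N1 * i := fun h => key i hii (Or.inr h)
  obtain ⟨hzR, hanti, hkk, henum⟩ := quat_enum N1 hzc hzz hz1 R hRsq i j hiR hjR hii hjj hji1 hji2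
  set j' := a * j * a⁻¹ with hj'
  have hj'R : j' ∈ R := hconj j hjR
  have conj_one : ∀ x : Matrix.SpecialLinearGroup (Fin 2) F, a * x * a⁻¹ = 1 → x = 1 := by
    intro x h
    have : x = a⁻¹ * (a * x * a⁻¹) * a := by group
    rw [this, h]; group
  have conj_N1 : ∀ x : Matrix.SpecialLinearGroup (Fin 2) F, a * x * a⁻¹ = N1 → x = N1 := by
    intro x h
    have : x = a⁻¹ * (a * x * a⁻¹) * a := by group
    rw [this, h, ← hzc a⁻¹]; group
  have hcase : j' = i * j ∨ j' = N1 * (i * j) := by
    rcases henum j' hj'R with h | h | h | h | h | h | h | h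
    · exfalso
      have := conj_one j h
      rw [this, one_mul] at hjj
      exact hz1 hjj.symm
    · exfalso
      have := conj_N1 j h
      rw [this, hzz] at hjj
      exact hz1 hjj.symm
    · exfalso
      have h3 := c3 i
      rw [← hj, ← hj', h, ← hj] at h3
      exact hji1 h3
    · exfalso
      have h3 := c3 i
      rw [← hj, ← hj', h, cN, ← hj] at h3
      apply hji2
      rw [← h3, ← mul_assoc, hzz, one_mul]
    · exfalso; exact key j hjj (Or.inl h)
    · exfalso; exact key j hjj (Or.inr h)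
    · left; exact h
    · right; exact h
  rcases hcase with hc | hc
  · exact quat_final N1 hzc hzz hz1 R hRsq i j a hiR hjR hii hjj hji1 hji2 ha3 ha1 rfl hc
  · -- replace i, j by their negatives
    have hI : N1 * i ∈ R := R.mul_mem hzR hiR
    have hJ : N1 * j ∈ R := R.mul_mem hzR hjR
    have zl : ∀ g h : Matrix.SpecialLinearGroup (Fin 2) F, g * (N1 * h) = N1 * (g * h) := by
      intro g h
      rw [← mul_assoc, ← hzc, mul_assoc]
    have hII : N1 * i * (N1 * i) = N1 := by
      rw [mul_assoc, zl, hii, ← mul_assoc, hzz, one_mul]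
    have hJJ : N1 * j * (N1 * j) = N1 := by
      rw [mul_assoc, zl, hjj, ← mul_assoc, hzz, one_mul]
    have hJI1 : N1 * j ≠ N1 * i := fun h => hji1 (mul_left_cancel h)
    have hJI2 : N1 * j ≠ N1 * (N1 * i) := fun h => hji2 (mul_left_cancel h)
    have hai : a * (N1 * i) * a⁻¹ = N1 * j := cN i
    have haj : a * (N1 * j) * a⁻¹ = N1 * i * (N1 * j) := by
      rw [cN, ← hj', hc, mul_assoc N1 i, zl i j]
    exact quat_final N1 hzc hzz hz1 R hRsq (N1 * i) (N1 * j) a hI hJ hII hJJ hJI1 hJI2 ha3 ha1 hai haj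


end SL2

end Cfsg.Agent.Lib.Helper4_SL2PNorm
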