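import Mathlib
import Cfsg.Agent.Lib.Helper4_SL2PNorm
import Cfsg.Agent.Lib.Helper4_PSL2CoverOdd

set_option linter.all false
set_option autoImplicit false

namespace Cfsg.Agent.Lib.Helper4_OddIrr
open Matrix Cfsg.Agent.Lib.Helper4_GL2Classes0 Cfsg.Agent.Lib.Helper4_SL2Classes
  Cfsg.Agent.Lib.Helper4_SL2Odd Cfsg.Agent.Lib.Helper4_PSL2Orders Cfsg.Agent.Lib.Helper4_PSL2ClassOdd
  Cfsg.Agent.Lib.Helper4_SL2Unip Cfsg.Agent.Lib.Helper4_PSL2TI Cfsg.Agent.Lib.Helper4_SL2PNorm
  Cfsg.Agent.Lib.Helper4_PSL2CoverOdd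



/-- conjugates of the non-identity elements of `M` -/
def TT {K : Type*} [Group K] (M : Subgroup K) : Set K :=
  {z | ∃ g : K, ∃ y ∈ M, y ≠ 1 ∧ z = g * y * g⁻¹}

theorem one_not_mem_TT {K : Type*} [Group K] (M : Subgroup K) : (1 : K) ∉ TT M := by
  rintro ⟨g, y, hy, hy1, h⟩
  apply hy1
  have : y = g⁻¹ * (g * y * g⁻¹) * g := by group
  rw [this, ← h]; group

theorem ti_count {K : Type*} [Group K] [Finite K] (M : Subgroup K)
    (hTI : ∀ g : K, ∀ y ∈ M, y ≠ 1 → g * y * g⁻¹ ∈ M → g ∈ M) :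
    Nat.card K * (Nat.card M - 1) ≤ Nat.card M * Nat.card (TT M) := by
  classical
  -- a chosen conjugator for each element of TT M
  have hch : ∀ z : TT M, ∃ g : K, ∃ y ∈ M, y ≠ 1 ∧ (z : K) = g * y * g⁻¹ := fun z => z.2
  choose σ τ hτM hτ1 hστ using hch
  let Φ : K × {y : M // y ≠ 1} → M × TT M := fun q =>
    let z : TT M := ⟨q.1 * (q.2.1 : K) * q.1⁻¹, ⟨q.1, q.2.1, q.2.1.2,
      fun h => q.2.2 (Subtype.ext h), rfl⟩⟩
    (⟨(σ z)⁻¹ * q.1, by
      apply hTI ((σ z)⁻¹ * q.1) (q.2.1 : K) q.2.1.2 (fun h => q.2.2 (Subtype.ext h))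
      have h1 : (z : K) = σ z * τ z * (σ z)⁻¹ := hστ z
      have h2 : (z : K) = q.1 * (q.2.1 : K) * q.1⁻¹ := rfl
      have h3 : (σ z)⁻¹ * q.1 * (q.2.1 : K) * ((σ z)⁻¹ * q.1)⁻¹ = τ z := by
        have : (σ z)⁻¹ * q.1 * (q.2.1 : K) * ((σ z)⁻¹ * q.1)⁻¹ =
            (σ z)⁻¹ * (q.1 * (q.2.1 : K) * q.1⁻¹) * σ z := by group
        rw [this, ← h2, h1]; group
      rw [h3]
      exact hτM z⟩, z)
  have hinj : Function.Injective Φ := by
    rintro ⟨g, y⟩ ⟨g', y'⟩ h
    have h2 : (⟨g * (y.1 : K) * g⁻¹, _⟩ : TT M) = ⟨g' * (y'.1 : K) * g'⁻¹, _⟩ := congrArg Prod.snd h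
    have h1 := congrArg (fun q => ((q.1 : M) : K)) h
    simp only [Φ] at h1
    rw [h2] at h1
    have hg : g = g' := mul_left_cancel h1
    subst hg
    have h3 : g * (y.1 : K) * g⁻¹ = g * (y'.1 : K) * g⁻¹ := congrArg Subtype.val h2
    have h4 : (y.1 : K) = (y'.1 : K) := by
      have := mul_right_cancel h3
      exact mul_left_cancel this
    have : y = y' := Subtype.ext (Subtype.ext h4)
    rw [this]
  have hcard := Nat.card_le_card_of_injective Φ hinj
  rw [Nat.card_prod, Nat.card_prod] at hcard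
  have hsub : Nat.card {y : M // y ≠ 1} = Nat.card M - 1 := by
    haveI : Fintype M := Fintype.ofFinite M
    rw [Nat.card_eq_fintype_card, Nat.card_eq_fintype_card, Fintype.card_subtype_compl,
      Fintype.card_subtype_eq]
  rw [hsub] at hcard
  exact hcard

theorem two_thirds {K : Type*} [Group K] [Finite K] (M : Subgroup K)
    (hTI : ∀ g : K, ∀ y ∈ M, y ≠ 1 → g * y * g⁻¹ ∈ M → g ∈ M) (h3 : 3 ≤ Nat.card M) :
    2 * Nat.card K ≤ 3 * Nat.card (TT M) := by
  have h := ti_count M hTI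
  obtain ⟨m', hm'⟩ : ∃ m', Nat.card M = m' + 3 := ⟨Nat.card M - 3, by omega⟩
  rw [hm'] at h
  have h' : Nat.card K * (m' + 2) ≤ (m' + 3) * Nat.card (TT M) := by
    have : m' + 3 - 1 = m' + 2 := by omega
    rw [this] at h
    exact h
  by_contra hcon
  push Not at hcon
  have : 3 * Nat.card (TT M) + 1 ≤ 2 * Nat.card K := hcon
  nlinarith

theorem odd_pow_mem {K : Type*} [Group K] [Finite K] (hodd : Odd (Nat.card K)) (S : Subgroup K)
    (z : K) (hz : z * z ∈ S) : z ∈ S := by
  have hn : Odd (orderOf z) := Odd.of_dvd_nat hodd (orderOf_dvd_natCard z)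
  obtain ⟨m, hm⟩ := hn
  have : z = (z * z) ^ (m + 1) := by
    rw [← pow_two, ← pow_mul]
    have : 2 * (m + 1) = orderOf z + 1 := by omega
    rw [this, pow_succ, pow_orderOf_eq_one, one_mul]
  rw [this]
  exact S.pow_mem hz _

theorem two_disjoint {K : Type*} [Group K] [Finite K] (T₁ T₂ : Set K)
    (h1 : (1 : K) ∉ T₁) (h2 : (1 : K) ∉ T₂) (hd : Disjoint T₁ T₂)
    (c1 : 2 * Nat.card K ≤ 3 * Nat.card T₁) (c2 : 2 * Nat.card K ≤ 3 * Nat.card T₂) : False := by
  classical
  have hfin : Fintype K := Fintype.ofFinite K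
  have e1 : Nat.card T₁ = T₁.toFinset.card := by
    rw [Nat.card_eq_fintype_card, Set.toFinset_card]
  have e2 : Nat.card T₂ = T₂.toFinset.card := by
    rw [Nat.card_eq_fintype_card, Set.toFinset_card]
  have hdisj : Disjoint T₁.toFinset T₂.toFinset := by
    rw [Set.disjoint_toFinset]; exact hd
  have hsub : T₁.toFinset ∪ T₂.toFinset ⊆ Finset.univ.erase (1 : K) := by
    intro x hx
    rw [Finset.mem_erase]
    refine ⟨?_, Finset.mem_univ _⟩
    rintro rfl
    rw [Finset.mem_union, Set.mem_toFinset, Set.mem_toFinset] at hx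
    rcases hx with hx | hx
    · exact h1 hx
    · exact h2 hx
  have hle := Finset.card_le_card hsub
  rw [Finset.card_union_of_disjoint hdisj, Finset.card_erase_of_mem (Finset.mem_univ _),
    Finset.card_univ, ← Nat.card_eq_fintype_card] at hle
  have hpos : 0 < Nat.card K := Nat.card_pos
  omega




theorem exists_derangement {K : Type*} [Group K] [Finite K] (B : Subgroup K) (hB : B ≠ ⊤) :
    ∃ x : K, ∀ g : K, g⁻¹ * x * g ∉ B := by
  classical
  by_contra hcon
  push Not at hcon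
  haveI : Fintype K := Fintype.ofFinite K
  haveI : Fintype (K ⧸ B) := Fintype.ofFinite _
  haveI : Fintype (MulAction.orbitRel.Quotient K (K ⧸ B)) := Fintype.ofFinite _
  have hburn := MulAction.sum_card_fixedBy_eq_card_orbits_mul_card_group K (K ⧸ B)
  have horb : Fintype.card (MulAction.orbitRel.Quotient K (K ⧸ B)) = 1 := by
    rw [Fintype.card_eq_one_iff]
    refine ⟨Quotient.mk'' ((1 : K) : K ⧸ B), ?_⟩
    intro q
    induction q using Quotient.inductionOn' with
    | h a =>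
      apply Quotient.sound'
      exact MulAction.exists_smul_eq K _ _
  rw [horb, one_mul] at hburn
  -- every element fixes at least one coset; the identity fixes at least two
  have hfix : ∀ x : K, 1 ≤ Fintype.card (MulAction.fixedBy (K ⧸ B) x) := by
    intro x
    obtain ⟨g, hg⟩ := hcon x
    rw [Nat.succ_le_iff, Fintype.card_pos_iff]
    refine ⟨⟨(g : K ⧸ B), ?_⟩⟩
    rw [MulAction.mem_fixedBy]
    show ((x * g : K) : K ⧸ B) = (g : K ⧸ B)
    rw [QuotientGroup.eq]
    have : (x * g)⁻¹ * g = (g⁻¹ * x * g)⁻¹ := by group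
    rw [this]
    exact B.inv_mem hg
  have hone : 2 ≤ Fintype.card (MulAction.fixedBy (K ⧸ B) (1 : K)) := by
    obtain ⟨b, hb⟩ : ∃ b : K, b ∉ B := by
      by_contra h
      push Not at h
      exact hB (eq_top_iff.mpr fun x _ => h x)
    have hne : ((1 : K) : K ⧸ B) ≠ (b : K ⧸ B) := by
      intro h
      rw [QuotientGroup.eq] at h
      apply hb
      simpa using h
    have : Fintype.card (MulAction.fixedBy (K ⧸ B) (1 : K)) = Fintype.card (K ⧸ B) := by
      apply Fintype.card_congr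
      exact ⟨fun a => a.1, fun a => ⟨a, by rw [MulAction.mem_fixedBy, one_smul]⟩, fun a => rfl, fun a => rfl⟩
    rw [this]
    exact Fintype.one_lt_card_iff.mpr ⟨_, _, hne⟩
  have hsum : Fintype.card K + 1 ≤ ∑ x : K, Fintype.card (MulAction.fixedBy (K ⧸ B) x) := by
    have h1 : ∑ x : K, Fintype.card (MulAction.fixedBy (K ⧸ B) x) =
        Fintype.card (MulAction.fixedBy (K ⧸ B) (1 : K)) +
          ∑ x ∈ Finset.univ.erase (1 : K), Fintype.card (MulAction.fixedBy (K ⧸ B) x) := by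
      rw [← Finset.add_sum_erase _ _ (Finset.mem_univ (1 : K))]
    have h2 : (Finset.univ.erase (1 : K)).card ≤
        ∑ x ∈ Finset.univ.erase (1 : K), Fintype.card (MulAction.fixedBy (K ⧸ B) x) := by
      rw [Finset.card_eq_sum_ones]
      exact Finset.sum_le_sum fun x _ => hfix x
    rw [Finset.card_erase_of_mem (Finset.mem_univ _), Finset.card_univ] at h2
    have hpos : 0 < Fintype.card K := Fintype.card_pos
    omega
  omega



variable {F : Type*} [Field F]




/-- abbreviations -/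
abbrev SLF (F : Type*) [Field F] := Matrix.SpecialLinearGroup (Fin 2) F

def trS (g : SLF F) : F := (g : Matrix (Fin 2) (Fin 2) F).trace

/-- upper triangular subgroup -/
def Bs (F : Type*) [Field F] : Subgroup (SLF F) where
  carrier := {z | (z : Matrix (Fin 2) (Fin 2) F) 1 0 = 0}
  mul_mem' := by
    intro a b ha hb
    simp only [Set.mem_setOf_eq] at ha hb ⊢
    rw [Matrix.SpecialLinearGroup.coe_mul, Matrix.mul_apply, Fin.sum_univ_two, ha, hb]
    ring
  one_mem' := by simp
  inv_mem' := by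
    intro a ha
    simp only [Set.mem_setOf_eq] at ha ⊢
    rw [Matrix.SpecialLinearGroup.coe_inv, Matrix.adjugate_fin_two]
    simp [ha]

/-- upper unitriangular subgroup -/
def Qs (F : Type*) [Field F] : Subgroup (SLF F) where
  carrier := {z | (z : Matrix (Fin 2) (Fin 2) F) 1 0 = 0 ∧ (z : Matrix (Fin 2) (Fin 2) F) 0 0 = 1}
  mul_mem' := by
    intro a b ha hb
    simp only [Set.mem_setOf_eq] at ha hb ⊢
    rw [Matrix.SpecialLinearGroup.coe_mul, Matrix.mul_apply, Matrix.mul_apply, Fin.sum_univ_two,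
      Fin.sum_univ_two, ha.1, hb.1, ha.2, hb.2]
    constructor <;> ring
  one_mem' := by simp
  inv_mem' := by
    intro a ha
    simp only [Set.mem_setOf_eq] at ha ⊢
    have hdet := a.det_coe
    rw [Matrix.det_fin_two, ha.1, ha.2] at hdet
    rw [Matrix.SpecialLinearGroup.coe_inv, Matrix.adjugate_fin_two]
    simp only [Matrix.of_apply, Matrix.cons_val', Matrix.cons_val_zero, Matrix.cons_val_one,
      Matrix.empty_val', Matrix.cons_val_fin_one]
    refine ⟨by rw [ha.1, neg_zero], ?_⟩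
    linear_combination hdet

theorem mem_Bs (z : SLF F) : z ∈ Bs F ↔ (z : Matrix (Fin 2) (Fin 2) F) 1 0 = 0 := Iff.rfl

theorem mem_Qs (z : SLF F) : z ∈ Qs F ↔
    (z : Matrix (Fin 2) (Fin 2) F) 1 0 = 0 ∧ (z : Matrix (Fin 2) (Fin 2) F) 0 0 = 1 := Iff.rfl

theorem Qs_le_Bs : Qs F ≤ Bs F := fun z hz => hz.1

/-- an element of `Qs` has second diagonal entry one -/
theorem Qs_one_one (z : SLF F) (hz : z ∈ Qs F) : (z : Matrix (Fin 2) (Fin 2) F) 1 1 = 1 := by
  have hdet := z.det_coe
  rw [Matrix.det_fin_two, hz.1, hz.2] at hdet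
  linear_combination hdet

theorem Qs_trace (z : SLF F) (hz : z ∈ Qs F) : trS z = 2 := by
  unfold trS
  rw [Matrix.trace_fin_two, hz.2, Qs_one_one z hz]; norm_num

/-- upper triangular with trace two is unitriangular -/
theorem mem_Qs_of_trace (z : SLF F) (hz : z ∈ Bs F) (ht : trS z = 2) : z ∈ Qs F := by
  refine ⟨hz, ?_⟩
  have hdet := z.det_coe
  rw [mem_Bs] at hz
  rw [Matrix.det_fin_two, hz] at hdet
  unfold trS at ht
  rw [Matrix.trace_fin_two] at ht
  have : ((z : Matrix (Fin 2) (Fin 2) F) 0 0 - 1) ^ 2 = 0 := by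
    linear_combination (z : Matrix (Fin 2) (Fin 2) F) 0 0 * ht - hdet
  have := pow_eq_zero_iff (two_ne_zero) |>.mp this
  linear_combination this

theorem tr_V_mul (a : F) (z : SLF F) :
    trS (V 1 a (one_mul 1) * z) = trS z + a * (z : Matrix (Fin 2) (Fin 2) F) 1 0 := by
  unfold trS
  rw [Matrix.SpecialLinearGroup.coe_mul]
  show (!![(1 : F), a; 0, 1] * (z : Matrix (Fin 2) (Fin 2) F)).trace = _
  rw [Matrix.trace_fin_two, Matrix.trace_fin_two, Matrix.mul_apply, Matrix.mul_apply,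
    Fin.sum_univ_two, Fin.sum_univ_two]
  simp
  ring

/-- conjugating a nontrivial unitriangular element into `Qs` forces the conjugator into `Bs` -/
theorem conj_Qs (y g : SLF F) (hy : y ∈ Qs F) (hy1 : y ≠ 1) (h : g * y * g⁻¹ ∈ Qs F) : g ∈ Bs F := by
  have hb : (y : Matrix (Fin 2) (Fin 2) F) 0 1 ≠ 0 := by
    intro h0
    apply hy1
    apply Subtype.ext
    ext i j
    fin_cases i <;> fin_cases j
    · simpa using hy.2
    · simpa using h0
    · simpa using hy.1
    · simpa using Qs_one_one y hy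
  have h10 := h.1
  rw [Matrix.SpecialLinearGroup.coe_mul, Matrix.SpecialLinearGroup.coe_mul,
    Matrix.SpecialLinearGroup.coe_inv, Matrix.adjugate_fin_two] at h10
  simp only [Matrix.mul_apply, Fin.sum_univ_two, Matrix.of_apply, Matrix.cons_val',
    Matrix.cons_val_zero, Matrix.cons_val_one, Matrix.empty_val', Matrix.cons_val_fin_one,
    hy.1, hy.2, Qs_one_one y hy] at h10
  rw [mem_Bs]
  have : (y : Matrix (Fin 2) (Fin 2) F) 0 1 * ((g : Matrix (Fin 2) (Fin 2) F) 1 0) ^ 2 = 0 := by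
    linear_combination -h10
  rcases mul_eq_zero.mp this with h' | h'
  · exact absurd h' hb
  · exact pow_eq_zero_iff (two_ne_zero) |>.mp h'

/-- the centralizer of a triangular element with distinct diagonal entries is triangular -/
theorem comm_Bs (c z : SLF F) (hc : c ∈ Bs F)
    (hd : (c : Matrix (Fin 2) (Fin 2) F) 0 0 ≠ (c : Matrix (Fin 2) (Fin 2) F) 1 1)
    (hcomm : z * c = c * z) : z ∈ Bs F := by
  have h := congrArg (fun g : SLF F => (g : Matrix (Fin 2) (Fin 2) F) 1 0) hcomm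
  simp only [Matrix.SpecialLinearGroup.coe_mul, Matrix.mul_apply, Fin.sum_univ_two] at h
  rw [mem_Bs] at hc ⊢
  rw [hc] at h
  have : (z : Matrix (Fin 2) (Fin 2) F) 1 0 *
      ((c : Matrix (Fin 2) (Fin 2) F) 0 0 - (c : Matrix (Fin 2) (Fin 2) F) 1 1) = 0 := by
    linear_combination h
  rcases mul_eq_zero.mp this with h' | h'
  · exact h'
  · exact absurd (sub_eq_zero.mp h') hd











/-- in an odd-order group the only square root of one is one -/
theorem eq_one_of_sq {K : Type*} [Group K] [Finite K] (hodd : Odd (Nat.card K)) (z : K)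
    (hz : z * z = 1) : z = 1 := by
  have := odd_pow_mem hodd ⊥ z (by rw [hz]; exact Subgroup.one_mem _)
  exact Subgroup.mem_bot.mp this

section
variable (K : Subgroup (SLF F)) [Finite K] (hodd : Odd (Nat.card K))
include hodd

theorem eq_one_of_sq' (z : SLF F) (hz : z ∈ K) (h : z * z = 1) : z = 1 := by
  have := eq_one_of_sq hodd (⟨z, hz⟩ : K) (Subtype.ext h)
  exact congrArg Subtype.val this

theorem odd_pow_mem' (S : Subgroup (SLF F)) (z : SLF F) (hz : z ∈ K) (h : z * z ∈ S) : z ∈ S := by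
  have := odd_pow_mem hodd (S.subgroupOf K) (⟨z, hz⟩ : K) (by
    rw [Subgroup.mem_subgroupOf]; exact h)
  rw [Subgroup.mem_subgroupOf] at this
  exact this

theorem NS_of_ne_one (z : SLF F) (hz : z ∈ K) (hz1 : z ≠ 1) :
    NS (z : Matrix (Fin 2) (Fin 2) F) := by
  by_contra hns
  have hc := not_NS_mem_center z hns
  rw [mem_center_iff'] at hc
  rcases hc with h | h
  · exact hz1 h
  · apply hz1
    apply eq_one_of_sq' K hodd z hz
    rw [h, N1_mul_N1]

end

/-- Cayley–Hamilton consequence: trace two means unipotent -/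
theorem sub_one_sq (w : SLF F) (hw : trS w = 2) :
    ((w : Matrix (Fin 2) (Fin 2) F) - 1) * ((w : Matrix (Fin 2) (Fin 2) F) - 1) = 0 := by
  have hch := Cfsg.Agent.Lib.Helper4_PSL2Order.ch (w : Matrix (Fin 2) (Fin 2) F) w.det_coe
  unfold trS at hw
  rw [hw] at hch
  rw [sub_mul, mul_sub, mul_sub, hch]
  simp only [mul_one, one_mul]
  rw [two_smul]
  abel

theorem tr_pow_two (w : SLF F) (hw : trS w = 2) (m : ℕ) : trS (w ^ m) = 2 := by
  have hN := sub_one_sq w hw
  set N := (w : Matrix (Fin 2) (Fin 2) F) - 1 with hNdef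
  have hw' : (w : Matrix (Fin 2) (Fin 2) F) = 1 + N := by rw [hNdef]; abel
  have hNtr : N.trace = 0 := by
    rw [hNdef, Matrix.trace_sub, Matrix.trace_one, Fintype.card_fin]
    unfold trS at hw
    rw [hw]; norm_num
  unfold trS
  rw [Matrix.SpecialLinearGroup.coe_pow, hw', one_add_pow N hN, Matrix.trace_add, Matrix.trace_one,
    Matrix.trace_smul, hNtr, Fintype.card_fin]
  simp

theorem pow_p_of_tr_two (p : ℕ) [Fact p.Prime] [CharP F p] (w : SLF F) (hw : trS w = 2) :
    w ^ p = 1 := by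
  have hN := sub_one_sq w hw
  set N := (w : Matrix (Fin 2) (Fin 2) F) - 1 with hNdef
  have hw' : (w : Matrix (Fin 2) (Fin 2) F) = 1 + N := by rw [hNdef]; abel
  apply Subtype.ext
  rw [Matrix.SpecialLinearGroup.coe_pow, hw', one_add_pow N hN, CharP.cast_eq_zero, zero_smul,
    add_zero]
  rfl

theorem tr_two_of_pow (p : ℕ) [Fact p.Prime] [CharP F p] (hp : p ≠ 2) (w : SLF F) (k : ℕ)
    (hw : w ^ (p ^ k) = 1) : trS w = 2 := by
  have hpp : p.Prime := Fact.out
  by_cases hw1 : w = 1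
  · rw [hw1]; unfold trS; simp
  · obtain ⟨j, hj, hjo⟩ := (Nat.dvd_prime_pow hpp).mp (orderOf_dvd_of_pow_eq_one hw)
    exact (unip_facts p hp w j hjo hw1).1

section
variable (K : Subgroup (SLF F)) [Finite K] (hodd : Odd (Nat.card K))
include hodd

theorem tr_ne_neg_two (h2 : (2 : F) ≠ 0) (z : SLF F) (hz : z ∈ K) : trS z ≠ -2 := by
  intro ht
  -- z * z has trace two
  have hch := Cfsg.Agent.Lib.Helper4_PSL2Order.ch (z : Matrix (Fin 2) (Fin 2) F) z.det_coe
  have htz : (z : Matrix (Fin 2) (Fin 2) F).trace = -2 := ht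
  have hww : trS (z * z) = 2 := by
    unfold trS
    rw [Matrix.SpecialLinearGroup.coe_mul, hch, Matrix.trace_sub, Matrix.trace_smul, htz,
      Matrix.trace_one, Fintype.card_fin]
    simp
    norm_num
  -- z is a power of z * z
  have hmem : z ∈ Subgroup.zpowers (z * z) :=
    odd_pow_mem' K hodd (Subgroup.zpowers (z * z)) z hz (Subgroup.mem_zpowers _)
  obtain ⟨n, hn⟩ := Subgroup.mem_zpowers_iff.mp hmem
  have htn : trS ((z * z) ^ n) = 2 := by
    cases n with
    | ofNat m =>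
      rw [Int.ofNat_eq_natCast, zpow_natCast]
      exact tr_pow_two _ hww m
    | negSucc m =>
      rw [zpow_negSucc]
      have h1 := tr_pow_two _ hww (m + 1)
      unfold trS at h1 ⊢
      rw [Matrix.SpecialLinearGroup.coe_inv, Matrix.adjugate_fin_two, Matrix.trace_fin_two_of]
      rw [Matrix.trace_fin_two] at h1
      linear_combination h1
  rw [hn, ht] at htn
  apply h2
  have h4 : (4 : F) = 0 := by linear_combination -htn
  have : (2 : F) * 2 = 0 := by linear_combination h4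
  exact (mul_self_eq_zero.mp this)

end

/-- commuting with a non-scalar element is a transitive relation -/
theorem comm_trans (x a b : SLF F) (hx : NS (x : Matrix (Fin 2) (Fin 2) F))
    (ha : a * x = x * a) (hb : b * x = x * b) : a * b = b * a := by
  apply Subtype.ext
  rw [Matrix.SpecialLinearGroup.coe_mul, Matrix.SpecialLinearGroup.coe_mul]
  apply comm_of_comm_nonscalar (x : Matrix (Fin 2) (Fin 2) F) _ _ hx
  · have := congrArg (fun g : SLF F => (g : Matrix (Fin 2) (Fin 2) F)) ha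
    simpa only [Matrix.SpecialLinearGroup.coe_mul] using this
  · have := congrArg (fun g : SLF F => (g : Matrix (Fin 2) (Fin 2) F)) hb
    simpa only [Matrix.SpecialLinearGroup.coe_mul] using this















theorem trS_conj (g y : SLF F) : trS (g * y * g⁻¹) = trS y := by
  unfold trS
  rw [Matrix.SpecialLinearGroup.coe_mul, Matrix.trace_mul_comm, ← Matrix.SpecialLinearGroup.coe_mul,
    inv_mul_cancel_left]

theorem trS_one : trS (1 : SLF F) = 2 := by
  unfold trS; simp

theorem det_poly (Y : Matrix (Fin 2) (Fin 2) F) (α β : F) :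
    (α • (1 : Matrix (Fin 2) (Fin 2) F) + β • Y).det = α ^ 2 + α * β * Y.trace + β ^ 2 * Y.det := by
  rw [Matrix.det_fin_two, Matrix.det_fin_two, Matrix.trace_fin_two]
  simp
  ring

theorem trace_poly (Y : Matrix (Fin 2) (Fin 2) F) (α β : F) :
    (α • (1 : Matrix (Fin 2) (Fin 2) F) + β • Y).trace = 2 * α + β * Y.trace := by
  rw [Matrix.trace_fin_two, Matrix.trace_fin_two]
  simp
  ring

/-- if `y` is unipotent non-scalar and commutes with `s` then `s` has trace `±2` -/
theorem unip_comm (y s : SLF F) (hy : NS (y : Matrix (Fin 2) (Fin 2) F)) (hty : trS y = 2)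
    (hc : s * y = y * s) : (trS s) ^ 2 = 4 := by
  have hc' : (s : Matrix (Fin 2) (Fin 2) F) * (y : Matrix (Fin 2) (Fin 2) F) =
      (y : Matrix (Fin 2) (Fin 2) F) * (s : Matrix (Fin 2) (Fin 2) F) := by
    have := congrArg (fun g : SLF F => (g : Matrix (Fin 2) (Fin 2) F)) hc
    simpa only [Matrix.SpecialLinearGroup.coe_mul] using this
  obtain ⟨α, β, hαβ⟩ := exists_poly _ _ hy hc'
  have hdet := s.det_coe
  have htr : trS s = 2 * α + β * 2 := by
    unfold trS at hty ⊢
    rw [hαβ, trace_poly, hty]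
  rw [hαβ, det_poly, y.det_coe] at hdet
  unfold trS at hty
  rw [hty] at hdet
  rw [htr]
  linear_combination 4 * hdet


theorem coe_comm (a b : SLF F) (h : a * b = b * a) :
    (a : Matrix (Fin 2) (Fin 2) F) * (b : Matrix (Fin 2) (Fin 2) F) =
      (b : Matrix (Fin 2) (Fin 2) F) * (a : Matrix (Fin 2) (Fin 2) F) := by
  have := congrArg (fun g : SLF F => (g : Matrix (Fin 2) (Fin 2) F)) h
  simpa only [Matrix.SpecialLinearGroup.coe_mul] using this

/-- the TI property of the centralizer of a semisimple element in an odd order group -/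
theorem ss_conj (K : Subgroup (SLF F)) [Finite K] (hodd : Odd (Nat.card K)) (h2 : (2 : F) ≠ 0)
    (x y g : SLF F) (hx : x ∈ K) (hy : y ∈ K) (hg : g ∈ K)
    (hτ : (trS x) ^ 2 ≠ 4) (hy1 : y ≠ 1) (hyx : y * x = x * y)
    (hgy : (g * y * g⁻¹) * x = x * (g * y * g⁻¹)) : g * x = x * g := by
  have hx1 : x ≠ 1 := by
    rintro rfl
    apply hτ
    rw [trS_one]; norm_num
  have hxNS := NS_of_ne_one K hodd x hx hx1
  -- the conjugate y' of y
  have hy'K : g * y * g⁻¹ ∈ K := K.mul_mem (K.mul_mem hg hy) (K.inv_mem hg)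
  have hy'1 : g * y * g⁻¹ ≠ 1 := by
    intro h
    apply hy1
    have : y = g⁻¹ * (g * y * g⁻¹) * g := by group
    rw [this, h]; group
  have hy'NS := NS_of_ne_one K hodd _ hy'K hy'1
  -- x' = g x g⁻¹ commutes with y'
  have h1 : (g * x * g⁻¹) * (g * y * g⁻¹) = (g * y * g⁻¹) * (g * x * g⁻¹) := by
    have : (g * x * g⁻¹) * (g * y * g⁻¹) = g * (x * y) * g⁻¹ := by group
    rw [this, ← hyx]; group
  -- so x' commutes with x
  have h3 : (g * x * g⁻¹) * x = x * (g * x * g⁻¹) :=
    comm_trans (g * y * g⁻¹) _ _ hy'NS h1 hgy.symm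
  obtain ⟨α, β, hαβ⟩ := exists_poly _ _ hxNS (coe_comm _ _ h3)
  have htr : trS (g * x * g⁻¹) = trS x := trS_conj g x
  have hdet := (g * x * g⁻¹).det_coe
  have htr' : 2 * α + β * trS x = trS x := by
    have e : trS (g * x * g⁻¹) = 2 * α + β * trS x := by
      unfold trS
      rw [hαβ, trace_poly]
    rw [← e, htr]
  rw [hαβ, det_poly, x.det_coe] at hdet
  have hx'' : (x : Matrix (Fin 2) (Fin 2) F).trace = trS x := rfl
  rw [hx''] at hdet
  have hkey : (1 - β ^ 2) * ((trS x) ^ 2 - 4) = 0 := by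
    have e1 : 2 * α = trS x * (1 - β) := by linear_combination htr'
    have e2 : (2 * α) ^ 2 + 2 * (2 * α) * β * trS x + 4 * β ^ 2 = 4 := by
      linear_combination 4 * hdet
    rw [e1] at e2
    linear_combination e2
  have hβ : (1 - β) * (1 + β) = 0 := by
    rcases mul_eq_zero.mp hkey with h | h
    · linear_combination h
    · exact absurd (sub_eq_zero.mp h) hτ
  rcases mul_eq_zero.mp hβ with h | h
  · -- β = 1
    have hβ1 : β = 1 := by linear_combination -h
    have hα0 : α = 0 := by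
      have : 2 * α = 0 := by rw [hβ1] at htr'; linear_combination htr'
      rcases mul_eq_zero.mp this with h' | h'
      · exact absurd h' h2
      · exact h'
    have : g * x * g⁻¹ = x := by
      apply Subtype.ext
      rw [hαβ, hα0, hβ1]; simp
    calc g * x = (g * x * g⁻¹) * g := by group
      _ = x * g := by rw [this]
  · -- β = -1 : then g*g commutes with x
    have hβ1 : β = -1 := by linear_combination h
    have hατ : α = trS x := by
      have : 2 * α = 2 * trS x := by rw [hβ1] at htr'; linear_combination htr'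
      exact mul_left_cancel₀ h2 this
    have hinv : g * x * g⁻¹ = x⁻¹ := by
      apply Subtype.ext
      rw [hαβ, hατ, hβ1, Matrix.SpecialLinearGroup.coe_inv, Matrix.adjugate_fin_two]
      unfold trS
      rw [Matrix.trace_fin_two]
      ext i j
      fin_cases i <;> fin_cases j <;> simp
    have hgg : g * g ∈ Subgroup.centralizer ({x} : Set (SLF F)) := by
      rw [Subgroup.mem_centralizer_singleton_iff]
      have e1 : g * x = x⁻¹ * g := by
        calc g * x = (g * x * g⁻¹) * g := by group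
          _ = x⁻¹ * g := by rw [hinv]
      have e2 : g * x⁻¹ = x * g := by
        have : g * x⁻¹ * g⁻¹ = x := by
          have : g * x⁻¹ * g⁻¹ = (g * x * g⁻¹)⁻¹ := by group
          rw [this, hinv, inv_inv]
        calc g * x⁻¹ = (g * x⁻¹ * g⁻¹) * g := by group
          _ = x * g := by rw [this]
      calc g * g * x = g * (g * x) := by group
        _ = g * (x⁻¹ * g) := by rw [e1]
        _ = (g * x⁻¹) * g := by group
        _ = x * g * g := by rw [e2]
        _ = x * (g * g) := by group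
    have := odd_pow_mem' K hodd _ g hg hgg
    rw [Subgroup.mem_centralizer_singleton_iff] at this
    exact this


open scoped Pointwise in
/-- every trace-two element of `K` is `K`-conjugate into `Qs` -/
theorem conj_into_Qs (p : ℕ) [Fact p.Prime] [CharP F p] (hp : p ≠ 2)
    (K : Subgroup (SLF F)) [Finite K] (a : F) (ha : a ≠ 0)
    (hu : V 1 a (one_mul 1) ∈ K) (x : SLF F) (hx : x ∈ K) (htx : trS x = 2) :
    ∃ g ∈ K, g⁻¹ * x * g ∈ Qs F := by
  have hpgen : ∀ z : K, trS (z : SLF F) = 2 → IsPGroup p (Subgroup.zpowers z) := by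
    intro z hz
    have hzp : z ^ p = 1 := Subtype.ext (by
      rw [Subgroup.coe_pow]; exact pow_p_of_tr_two p _ hz)
    rintro ⟨g, hg⟩
    obtain ⟨n, rfl⟩ := Subgroup.mem_zpowers_iff.mp hg
    refine ⟨1, ?_⟩
    apply Subtype.ext
    simp only [pow_one, Subgroup.coe_pow, Subgroup.coe_one]
    rw [← zpow_natCast, ← _root_.zpow_mul, mul_comm, _root_.zpow_mul, zpow_natCast, hzp, _root_.one_zpow]
  obtain ⟨P, hP⟩ := (hpgen ⟨x, hx⟩ htx).exists_le_sylow
  have hutr : trS (V (1 : F) a (one_mul 1)) = 2 := by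
    unfold trS; rw [V_trace]; ring
  obtain ⟨Q, hQ⟩ := (hpgen ⟨V 1 a (one_mul 1), hu⟩ hutr).exists_le_sylow
  have hQs : ∀ y : K, y ∈ Q → (y : SLF F) ∈ Qs F := by
    intro y hy
    have hyu : (⟨V 1 a (one_mul 1), hu⟩ : K) * y ∈ Q :=
      Q.mul_mem (hQ (Subgroup.mem_zpowers _)) hy
    have htr : ∀ z : K, z ∈ Q → trS (z : SLF F) = 2 := by
      intro z hz
      obtain ⟨k, hk⟩ := Q.isPGroup' ⟨z, hz⟩
      have hk' : (z : SLF F) ^ (p ^ k) = 1 := by
        have := congrArg (fun q : Q => ((q : K) : SLF F)) hk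
        simpa using this
      exact tr_two_of_pow p hp _ k hk'
    have h1 := htr y hy
    have h2 := htr _ hyu
    rw [Subgroup.coe_mul, tr_V_mul, h1] at h2
    have h3 : a * ((y : SLF F) : Matrix (Fin 2) (Fin 2) F) 1 0 = 0 := by linear_combination h2
    have h4 : ((y : SLF F) : Matrix (Fin 2) (Fin 2) F) 1 0 = 0 := by
      rcases mul_eq_zero.mp h3 with h | h
      · exact absurd h ha
      · exact h
    exact mem_Qs_of_trace _ ((mem_Bs _).mpr h4) h1
  obtain ⟨g, hg⟩ := MulAction.exists_smul_eq K Q P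
  have hxP : (⟨x, hx⟩ : K) ∈ P := hP (Subgroup.mem_zpowers _)
  rw [← hg] at hxP
  have hxP' : (⟨x, hx⟩ : K) ∈ MulAut.conj g • (Q : Subgroup K) := hxP
  rw [Subgroup.mem_pointwise_smul_iff_inv_smul_mem] at hxP'
  refine ⟨g, g.2, ?_⟩
  have := hQs _ hxP'
  simpa [MulAut.smul_def] using this

theorem three_le_card {G : Type*} [Group G] [Finite G] (hodd : Odd (Nat.card G)) (M : Subgroup G)
    (x : G) (hx : x ∈ M) (hx1 : x ≠ 1) : 3 ≤ Nat.card M := by
  have hd : Nat.card M ∣ Nat.card G := Subgroup.card_subgroup_dvd_card M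
  have ho : Odd (Nat.card M) := Odd.of_dvd_nat hodd hd
  have h1 : 1 < Nat.card M := by
    rw [Subgroup.one_lt_card_iff_ne_bot]
    intro h
    rw [h, Subgroup.mem_bot] at hx
    exact hx1 hx
  obtain ⟨m, hm⟩ := ho
  omega


/-- the centralizer in `K` -/
def CK (K : Subgroup (SLF F)) (x : SLF F) : Subgroup K :=
  (Subgroup.centralizer ({x} : Set (SLF F))).subgroupOf K

theorem mem_CK (K : Subgroup (SLF F)) (x : SLF F) (y : K) :
    y ∈ CK K x ↔ (y : SLF F) * x = x * (y : SLF F) := by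
  unfold CK
  rw [Subgroup.mem_subgroupOf, Subgroup.mem_centralizer_singleton_iff]

theorem ss_TI (K : Subgroup (SLF F)) [Finite K] (hodd : Odd (Nat.card K)) (h2 : (2 : F) ≠ 0)
    (x : SLF F) (hx : x ∈ K) (hτ : (trS x) ^ 2 ≠ 4) :
    ∀ g : K, ∀ y ∈ CK K x, y ≠ 1 → g * y * g⁻¹ ∈ CK K x → g ∈ CK K x := by
  intro g y hy hy1 hgy
  rw [mem_CK] at hy hgy ⊢
  refine ss_conj K hodd h2 x y g hx y.2 g.2 hτ ?_ hy ?_
  · intro h
    exact hy1 (Subtype.ext h)
  · simpa using hgy

theorem sq_ne_four (t : F) (h1 : t ≠ 2) (h2 : t ≠ -2) : t ^ 2 ≠ 4 := by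
  intro h
  have : (t - 2) * (t + 2) = 0 := by linear_combination h
  rcases mul_eq_zero.mp this with h' | h'
  · exact h1 (by linear_combination h')
  · exact h2 (by linear_combination h')

theorem disj_B (c x y y' h : SLF F) (hyc : y * c = c * y) (hy'x : y' * x = x * y')
    (hy' : y' = h * y * h⁻¹) (hNS : NS (y' : Matrix (Fin 2) (Fin 2) F)) (hc : c ∈ Bs F)
    (hd : (c : Matrix (Fin 2) (Fin 2) F) 0 0 ≠ (c : Matrix (Fin 2) (Fin 2) F) 1 1) :
    h⁻¹ * x * h ∈ Bs F := by
  have h1 : (h * c * h⁻¹) * y' = y' * (h * c * h⁻¹) := by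
    rw [hy']
    have e1 : (h * c * h⁻¹) * (h * y * h⁻¹) = h * (c * y) * h⁻¹ := by group
    have e2 : (h * y * h⁻¹) * (h * c * h⁻¹) = h * (y * c) * h⁻¹ := by group
    rw [e1, e2, hyc]
  have h2 : x * (h * c * h⁻¹) = (h * c * h⁻¹) * x :=
    comm_trans y' x (h * c * h⁻¹) hNS hy'x.symm h1
  apply comm_Bs c _ hc hd
  calc h⁻¹ * x * h * c = h⁻¹ * (x * (h * c * h⁻¹)) * h := by group
    _ = h⁻¹ * ((h * c * h⁻¹) * x) * h := by rw [h2]
    _ = c * (h⁻¹ * x * h) := by group

theorem V_ne_one (a : F) (ha : a ≠ 0) : V (1 : F) a (one_mul 1) ≠ 1 := by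
  intro h
  apply ha
  have := congrArg (fun g : SLF F => (g : Matrix (Fin 2) (Fin 2) F) 0 1) h
  simpa [V] using this

theorem core' (p : ℕ) [Fact p.Prime] [CharP F p] (hp : p ≠ 2)
    (K : Subgroup (SLF F)) [Finite K] (hodd : Odd (Nat.card K)) (a : F) (ha : a ≠ 0)
    (hu : V 1 a (one_mul 1) ∈ K) (w : SLF F) (hw : w ∈ K) (htw : trS w = 2)
    (hw10 : (w : Matrix (Fin 2) (Fin 2) F) 1 0 ≠ 0) : False := by
  have h2 : (2 : F) ≠ 0 := by
    have := Ring.two_ne_zero (R := F) (by rw [ringChar.eq F p]; exact hp)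
    exact this
  by_cases hA : ∀ z ∈ K, z ∈ Bs F → z ∈ Qs F
  · -- Case A
    set s : SLF F := V 1 a (one_mul 1) * w with hs
    have hsK : s ∈ K := K.mul_mem hu hw
    have hts : trS s = 2 + a * (w : Matrix (Fin 2) (Fin 2) F) 1 0 := by
      rw [hs, tr_V_mul, htw]
    have hts2 : trS s ≠ 2 := by
      rw [hts]
      intro h
      have : a * (w : Matrix (Fin 2) (Fin 2) F) 1 0 = 0 := by linear_combination h
      rcases mul_eq_zero.mp this with h' | h'
      · exact ha h'
      · exact hw10 h'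
    have hτ : (trS s) ^ 2 ≠ 4 := sq_ne_four _ hts2 (tr_ne_neg_two K hodd h2 s hsK)
    have hs1 : s ≠ 1 := by
      intro h
      apply hts2
      rw [h, trS_one]
    have hTI₁ : ∀ g : K, ∀ y ∈ (Qs F).subgroupOf K, y ≠ 1 →
        g * y * g⁻¹ ∈ (Qs F).subgroupOf K → g ∈ (Qs F).subgroupOf K := by
      intro g y hy hy1 hgy
      rw [Subgroup.mem_subgroupOf] at hy hgy ⊢
      apply hA _ g.2
      apply conj_Qs (y : SLF F) (g : SLF F) hy
      · intro h
        exact hy1 (Subtype.ext h)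
      · simpa using hgy
    have c1 := two_thirds ((Qs F).subgroupOf K) hTI₁
      (three_le_card hodd _ ⟨_, hu⟩ (by
        rw [Subgroup.mem_subgroupOf, mem_Qs]
        simp [V]) (by
        intro h
        exact V_ne_one a ha (congrArg Subtype.val h)))
    have c2 := two_thirds (CK K s) (ss_TI K hodd h2 s hsK hτ)
      (three_le_card hodd _ ⟨s, hsK⟩ (by rw [mem_CK]) (by
        intro h
        exact hs1 (congrArg Subtype.val h)))
    refine two_disjoint _ _ (one_not_mem_TT _) (one_not_mem_TT _) ?_ c1 c2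
    rw [Set.disjoint_left]
    rintro z ⟨g, y, hy, hy1, rfl⟩ ⟨g', y', hy', hy'1, h⟩
    rw [Subgroup.mem_subgroupOf] at hy
    rw [mem_CK] at hy'
    have hty : trS (y : SLF F) = 2 := Qs_trace _ hy
    have hty' : trS (y' : SLF F) = 2 := by
      have e := congrArg (fun q : K => trS (q : SLF F)) h
      simp only [Subgroup.coe_mul, Subgroup.coe_inv, trS_conj] at e
      rw [← e, hty]
    have hNS := NS_of_ne_one K hodd (y' : SLF F) y'.2 (fun h => hy'1 (Subtype.ext h))
    exact hτ (unip_comm (y' : SLF F) s hNS hty' hy'.symm)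
  · -- Case B
    push Not at hA
    obtain ⟨c, hcK, hcB, hcQ⟩ := hA
    have hc10 : (c : Matrix (Fin 2) (Fin 2) F) 1 0 = 0 := (mem_Bs c).mp hcB
    have hdet := c.det_coe
    rw [Matrix.det_fin_two, hc10, mul_zero, sub_zero] at hdet
    have hd : (c : Matrix (Fin 2) (Fin 2) F) 0 0 ≠ (c : Matrix (Fin 2) (Fin 2) F) 1 1 := by
      intro heq
      rw [← heq] at hdet
      have : ((c : Matrix (Fin 2) (Fin 2) F) 0 0 - 1) * ((c : Matrix (Fin 2) (Fin 2) F) 0 0 + 1) = 0 := by
        linear_combination hdet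
      rcases mul_eq_zero.mp this with h' | h'
      · apply hcQ
        rw [mem_Qs]
        exact ⟨hc10, by linear_combination h'⟩
      · apply tr_ne_neg_two K hodd h2 c hcK
        unfold trS
        rw [Matrix.trace_fin_two, ← heq]
        linear_combination 2 * h'
    have hτc : (trS c) ^ 2 ≠ 4 := by
      intro h
      unfold trS at h
      rw [Matrix.trace_fin_two] at h
      have : ((c : Matrix (Fin 2) (Fin 2) F) 0 0 - (c : Matrix (Fin 2) (Fin 2) F) 1 1) ^ 2 = 0 := by
        linear_combination h - 4 * hdet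
      exact hd (sub_eq_zero.mp (pow_eq_zero_iff two_ne_zero |>.mp this))
    have hc1 : c ≠ 1 := by
      intro h
      apply hcQ
      rw [h]
      exact Subgroup.one_mem _
    have hBtop : (Bs F).subgroupOf K ≠ ⊤ := by
      intro h
      have : (⟨w, hw⟩ : K) ∈ (Bs F).subgroupOf K := by rw [h]; exact Subgroup.mem_top _
      rw [Subgroup.mem_subgroupOf, mem_Bs] at this
      exact hw10 this
    obtain ⟨x, hx⟩ := exists_derangement _ hBtop
    have htx2 : trS (x : SLF F) ≠ 2 := by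
      intro h
      obtain ⟨g, hgK, hg⟩ := conj_into_Qs p hp K a ha hu (x : SLF F) x.2 h
      apply hx ⟨g, hgK⟩
      rw [Subgroup.mem_subgroupOf]
      simpa using Qs_le_Bs hg
    have hτx : (trS (x : SLF F)) ^ 2 ≠ 4 :=
      sq_ne_four _ htx2 (tr_ne_neg_two K hodd h2 _ x.2)
    have hx1 : (x : SLF F) ≠ 1 := by
      intro h
      apply htx2
      rw [h, trS_one]
    have c1 := two_thirds (CK K c) (ss_TI K hodd h2 c hcK hτc)
      (three_le_card hodd _ ⟨c, hcK⟩ (by rw [mem_CK]) (by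
        intro h
        exact hc1 (congrArg Subtype.val h)))
    have c2 := two_thirds (CK K (x : SLF F)) (ss_TI K hodd h2 _ x.2 hτx)
      (three_le_card hodd _ x (by rw [mem_CK]) (by
        intro h
        exact hx1 (congrArg Subtype.val h)))
    refine two_disjoint _ _ (one_not_mem_TT _) (one_not_mem_TT _) ?_ c1 c2
    rw [Set.disjoint_left]
    rintro z ⟨g, y, hy, hy1, rfl⟩ ⟨g', y', hy', hy'1, h⟩
    rw [mem_CK] at hy hy'
    have hNS := NS_of_ne_one K hodd (y' : SLF F) y'.2 (fun h => hy'1 (Subtype.ext h))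
    have hyy : y' = (g'⁻¹ * g) * y * (g'⁻¹ * g)⁻¹ := by
      have : y' = g'⁻¹ * (g' * y' * g'⁻¹) * g' := by group
      rw [this, ← h]; group
    have hyy' : (y' : SLF F) = ((g'⁻¹ * g : K) : SLF F) * (y : SLF F) * ((g'⁻¹ * g : K) : SLF F)⁻¹ := by
      have := congrArg (fun q : K => (q : SLF F)) hyy
      simpa using this
    have := disj_B c (x : SLF F) (y : SLF F) (y' : SLF F) ((g'⁻¹ * g : K) : SLF F) hy hy' hyy' hNS hcB hd
    apply hx (g'⁻¹ * g)
    rw [Subgroup.mem_subgroupOf]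
    simpa using this


theorem det_eq_one_of_pow (p : ℕ) [Fact p.Prime] [CharP F p] (d : F) (h : d ^ p = 1) : d = 1 := by
  have : (d - 1) ^ p = 0 := by rw [sub_pow_char, h, one_pow, sub_self]
  exact sub_eq_zero.mp (pow_eq_zero_iff (Fact.out : p.Prime).ne_zero |>.mp this)

theorem exists_SL_of_pow (p : ℕ) [Fact p.Prime] [CharP F p] (g : GL (Fin 2) F) (hg : g ^ p = 1) :
    ∃ u : SLF F, Matrix.SpecialLinearGroup.toGL u = g ∧ u ^ p = 1 := by
  have hd : (g : Matrix (Fin 2) (Fin 2) F).det = 1 := by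
    apply det_eq_one_of_pow p
    rw [← Matrix.det_pow]
    have := congrArg (fun q : GL (Fin 2) F => (q : Matrix (Fin 2) (Fin 2) F)) hg
    simp only [Units.val_pow_eq_pow_val, Units.val_one] at this
    rw [this, Matrix.det_one]
  obtain ⟨u, e⟩ : ∃ u : SLF F, Matrix.SpecialLinearGroup.toGL u = g :=
    ⟨⟨(g : Matrix (Fin 2) (Fin 2) F), hd⟩, Units.ext rfl⟩
  refine ⟨u, e, ?_⟩
  apply Matrix.SpecialLinearGroup.toGL_injective
  rw [map_pow, map_one, e, hg]

theorem entry_lemma (A A' : Matrix (Fin 2) (Fin 2) F) (b : F) (hAA : A * A' = 1) (hb : b ≠ 0)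
    (hA : A 1 0 ≠ 0) : (A * !![1, b; 0, 1] * A') 1 0 ≠ 0 := by
  have e10 := congrFun (congrFun hAA 1) 0
  have e00 := congrFun (congrFun hAA 0) 0
  simp only [Matrix.mul_apply, Fin.sum_univ_two, Matrix.one_apply_eq] at e10 e00
  have e10' : A 1 0 * A' 0 0 + A 1 1 * A' 1 0 = 0 := by simpa using e10
  intro h
  simp only [Matrix.mul_apply, Fin.sum_univ_two, Matrix.of_apply, Matrix.cons_val',
    Matrix.cons_val_zero, Matrix.cons_val_one, Matrix.empty_val', Matrix.cons_val_fin_one] at h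
  have h1 : b * A 1 0 * A' 1 0 = 0 := by linear_combination h - e10'
  have h2 : A' 1 0 = 0 := by
    rcases mul_eq_zero.mp h1 with h' | h'
    · rcases mul_eq_zero.mp h' with h'' | h''
      · exact absurd h'' hb
      · exact absurd h'' hA
    · exact h'
  rw [h2, mul_zero, add_zero] at e10'
  have h3 : A' 0 0 = 0 := by
    rcases mul_eq_zero.mp e10' with h' | h'
    · exact absurd h' hA
    · exact h'
  rw [h2, h3] at e00
  simp at e00

theorem A10_ne (C Ci Hm : Matrix (Fin 2) (Fin 2) F) (hCi : Ci * C = 1)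
    (hhv : Hm.mulVec (Ci.mulVec ![1, 0]) ∉ Submodule.span F {Ci.mulVec ![1, 0]}) :
    (C * Hm * Ci) 1 0 ≠ 0 := by
  intro h0
  apply hhv
  rw [Submodule.mem_span_singleton]
  refine ⟨(C * Hm * Ci) 0 0, ?_⟩
  have h1 : (C * Hm * Ci).mulVec ![1, 0] = (C * Hm * Ci) 0 0 • ![1, 0] := by
    funext i
    fin_cases i
    · simp [Matrix.mulVec, dotProduct, Fin.sum_univ_two]
    · simp only [Matrix.mulVec, dotProduct, Fin.sum_univ_two]
      simp
      exact h0
  have h2 := congrArg (fun v => Ci.mulVec v) h1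
  simp only [Matrix.mulVec_mulVec, Matrix.mulVec_smul] at h2
  rw [← Matrix.mul_assoc, ← Matrix.mul_assoc, hCi, Matrix.one_mul] at h2
  rw [← h2, Matrix.mulVec_mulVec]


theorem S1463_main {F : Type*} [Field F] (p : ℕ) [Fact p.Prime] [CharP F p] (hp : p ≠ 2)
    (H : Subgroup (GL (Fin 2) F)) [Finite H] (hodd : Odd (Nat.card H))
    (hirr : ∀ v : Fin 2 → F, v ≠ 0 → ∃ g ∈ H,
      (g : Matrix (Fin 2) (Fin 2) F).mulVec v ∉ Submodule.span F {v}) :
    ¬ p ∣ Nat.card H := by
  intro hdvd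
  have hpp : p.Prime := Fact.out
  obtain ⟨h₀, hh₀⟩ := exists_prime_orderOf_dvd_card' p hdvd
  have hU : (h₀ : GL (Fin 2) F) ^ p = 1 := by
    have h1 : h₀ ^ p = 1 := by rw [← hh₀]; exact pow_orderOf_eq_one _
    have h2 := congrArg Subtype.val h1
    simpa using h2
  obtain ⟨u, hu, hup⟩ := exists_SL_of_pow p _ hU
  have hu1 : u ≠ 1 := by
    rintro rfl
    rw [map_one] at hu
    have : h₀ = 1 := Subtype.ext hu.symm
    rw [this, orderOf_one] at hh₀
    exact hpp.ne_one hh₀.symm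
  have huo : orderOf u = p ^ 1 := by rw [pow_one]; exact orderOf_eq_prime hup hu1
  obtain ⟨htr, -, -, hNS⟩ := unip_facts p hp u 1 huo hu1
  obtain ⟨b, hb, hconj⟩ := conj_V u hNS 1 (one_mul 1) (by rw [htr]; ring)
  obtain ⟨c, hc⟩ := isConj_iff.mp hconj
  -- the group K
  let ψ : SLF F →* GL (Fin 2) F :=
    Matrix.SpecialLinearGroup.toGL.comp (MulAut.conj c⁻¹).toMonoidHom
  have hψ : Function.Injective ψ :=
    Matrix.SpecialLinearGroup.toGL_injective.comp (MulAut.conj c⁻¹).injective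
  have hψz : ∀ z, ψ z = Matrix.SpecialLinearGroup.toGL (c⁻¹ * z * c) := by
    intro z
    simp [ψ, MulAut.conj_apply]
  let K : Subgroup (SLF F) := H.comap ψ
  have hmemK : ∀ z, z ∈ K ↔ Matrix.SpecialLinearGroup.toGL (c⁻¹ * z * c) ∈ H := by
    intro z
    rw [← hψz]
    exact Subgroup.mem_comap
  let f : K →* H := ψ.subgroupComap H
  have hf : Function.Injective f := by
    intro z z' h
    apply Subtype.ext
    apply hψ
    exact congrArg Subtype.val h
  haveI : Finite K := Finite.of_injective f hf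
  have hKodd : Odd (Nat.card K) := Odd.of_dvd_nat hodd (Subgroup.card_dvd_of_injective f hf)
  have hVK : V 1 b (one_mul 1) ∈ K := by
    rw [hmemK, ← hc]
    have : c⁻¹ * (c * u * c⁻¹) * c = u := by group
    rw [this, hu]
    exact h₀.2
  -- matrices
  set C : Matrix (Fin 2) (Fin 2) F := (c : Matrix (Fin 2) (Fin 2) F) with hC
  set Ci : Matrix (Fin 2) (Fin 2) F := ((c⁻¹ : SLF F) : Matrix (Fin 2) (Fin 2) F) with hCidef
  have hCiC : Ci * C = 1 := by
    rw [hC, hCidef, ← Matrix.SpecialLinearGroup.coe_mul, inv_mul_cancel]; rfl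
  have hCCi : C * Ci = 1 := by
    rw [hC, hCidef, ← Matrix.SpecialLinearGroup.coe_mul, mul_inv_cancel]; rfl
  have hv : Ci.mulVec ![1, 0] ≠ 0 := by
    intro h
    have h1 := congrArg (fun v => C.mulVec v) h
    simp only [Matrix.mulVec_mulVec, hCCi, Matrix.one_mulVec, Matrix.mulVec_zero] at h1
    have h2 := congrFun h1 0
    simp at h2
  obtain ⟨h, hhH, hhv⟩ := hirr _ hv
  -- the conjugate p-element
  have hconjp : (h * (h₀ : GL (Fin 2) F) * h⁻¹) ^ p = 1 := by
    rw [conj_pow, hU, mul_one, mul_inv_cancel]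
  obtain ⟨u', hu', hu'p⟩ := exists_SL_of_pow p _ hconjp
  have hwK : c * u' * c⁻¹ ∈ K := by
    rw [hmemK]
    have : c⁻¹ * (c * u' * c⁻¹) * c = u' := by group
    rw [this, hu']
    exact H.mul_mem (H.mul_mem hhH h₀.2) (H.inv_mem hhH)
  have hwp : (c * u' * c⁻¹) ^ (p ^ 1) = 1 := by
    rw [pow_one, conj_pow, hu'p, mul_one, mul_inv_cancel]
  have htw : trS (c * u' * c⁻¹) = 2 := tr_two_of_pow p hp _ 1 hwp
  -- the entry
  set Hm : Matrix (Fin 2) (Fin 2) F := (h : Matrix (Fin 2) (Fin 2) F) with hHm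
  set Hi : Matrix (Fin 2) (Fin 2) F := ((h⁻¹ : GL (Fin 2) F) : Matrix (Fin 2) (Fin 2) F) with hHi
  have hHH : Hm * Hi = 1 := by
    rw [hHm, hHi, ← Units.val_mul, mul_inv_cancel]; rfl
  have hu'm : (u' : Matrix (Fin 2) (Fin 2) F) = Hm * (u : Matrix (Fin 2) (Fin 2) F) * Hi := by
    have e1 := congrArg (fun q : GL (Fin 2) F => (q : Matrix (Fin 2) (Fin 2) F)) hu'
    have e2 := congrArg (fun q : GL (Fin 2) F => (q : Matrix (Fin 2) (Fin 2) F)) hu
    simp only [Units.val_mul] at e1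
    rw [← e2] at e1
    exact e1
  have hum : (u : Matrix (Fin 2) (Fin 2) F) = Ci * !![1, b; 0, 1] * C := by
    have e1 : u = c⁻¹ * V 1 b (one_mul 1) * c := by rw [← hc]; group
    rw [e1, Matrix.SpecialLinearGroup.coe_mul, Matrix.SpecialLinearGroup.coe_mul]
    rfl
  have hwm : ((c * u' * c⁻¹ : SLF F) : Matrix (Fin 2) (Fin 2) F) =
      (C * Hm * Ci) * !![1, b; 0, 1] * (C * Hi * Ci) := by
    rw [Matrix.SpecialLinearGroup.coe_mul, Matrix.SpecialLinearGroup.coe_mul, hu'm, hum]
    simp only [Matrix.mul_assoc]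
    rfl
  have hAA : (C * Hm * Ci) * (C * Hi * Ci) = 1 := by
    calc (C * Hm * Ci) * (C * Hi * Ci) = C * Hm * (Ci * C) * Hi * Ci := by
          simp only [Matrix.mul_assoc]
      _ = 1 := by
          rw [hCiC, Matrix.mul_one, Matrix.mul_assoc C Hm Hi, hHH, Matrix.mul_one, hCCi]
  have hA10 := A10_ne C Ci Hm hCiC hhv
  have hw10 : ((c * u' * c⁻¹ : SLF F) : Matrix (Fin 2) (Fin 2) F) 1 0 ≠ 0 := by
    rw [hwm]
    exact entry_lemma _ _ b hAA hb hA10
  exact core' p hp K hKodd b hb hVK _ hwK htw hw10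



end Cfsg.Agent.Lib.Helper4_OddIrr
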