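import Mathlib
import Cfsg.Prelude.Def_LocalStructure
import Cfsg.Agent.Lib.Helper4_OrbitProd

namespace Cfsg.Agent.Lib.Helper4_OrbitProd2

open Cfsg Cfsg.Agent.Lib.Helper4_PCore Cfsg.Agent.Lib.Helper4_Minimal Cfsg.Agent.Lib.Helper4_PIrred
  Cfsg.Agent.Lib.Helper4_PIrred2 Cfsg.Agent.Lib.Helper4_PReduced Cfsg.Agent.Lib.Helper4_PReduced2
  Cfsg.Agent.Lib.Helper4_PReduced3 Cfsg.Agent.Lib.Helper4_PReduced4 Cfsg.Agent.Lib.Helper4_PReduced5
  Cfsg.Agent.Lib.Helper4_OrbitProd
open scoped commutatorElement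

variable {H : Type*} [Group H]

/-- orbit product, with the commutator part in `⁅R, Z⁆` when `L = R · C_L(z)`. -/
theorem orbit_product_gen [Finite H] (L R Z : Subgroup H)
    (hLZ : ∀ g ∈ L, ∀ x ∈ Z, g * x * g⁻¹ ∈ Z) (hcomm : ∀ a ∈ Z, ∀ b ∈ Z, a * b = b * a)
    (z : H) (hz : z ∈ Z)
    (hfac : ∀ g ∈ L, ∃ r ∈ R, ∃ t : H, t * z = z * t ∧ g = r * t) :
    ∃ u ∈ Z, (∀ h ∈ L, h * u * h⁻¹ = u) ∧
      ∃ w ∈ ⁅R, Z⁆, u = w * z ^ ((Subgroup.centralizer ({z} : Set H)).subgroupOf L).index := by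
  classical
  let _ : CommGroup ↥Z :=
    { (inferInstance : Group ↥Z) with mul_comm := fun a b => Subtype.ext (hcomm a a.2 b b.2) }
  set C : Subgroup ↥L := (Subgroup.centralizer ({z} : Set H)).subgroupOf L with hC
  have : Fintype (↥L ⧸ C) := Fintype.ofFinite _
  let φ₀ : ↥L → ↥Z := fun g => ⟨(g:H) * z * (g:H)⁻¹, hLZ g g.2 z hz⟩
  have hφ₀ : ∀ a b : ↥L, a⁻¹ * b ∈ C → φ₀ a = φ₀ b := by
    intro a b hab
    rw [hC, Subgroup.mem_subgroupOf, Subgroup.mem_centralizer_iff] at hab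
    have := hab z (Set.mem_singleton z)
    apply Subtype.ext
    show (a:H) * z * (a:H)⁻¹ = (b:H) * z * (b:H)⁻¹
    simp only [Subgroup.coe_mul, Subgroup.coe_inv] at this
    calc (a:H) * z * (a:H)⁻¹ = (a:H) * (z * ((a:H)⁻¹ * b)) * (b:H)⁻¹ := by group
      _ = (a:H) * (((a:H)⁻¹ * b) * z) * (b:H)⁻¹ := by rw [this]
      _ = _ := by group
  let φ : ↥L ⧸ C → ↥Z :=
    Quotient.lift φ₀ (fun a b hab => hφ₀ a b (QuotientGroup.leftRel_apply.mp hab))
  have hφmk : ∀ g : ↥L, φ (QuotientGroup.mk g) = φ₀ g := fun g => rfl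
  set u : ↥Z := ∏ q : ↥L ⧸ C, φ q with hu
  refine ⟨u, u.2, ?_, ?_⟩
  · intro h hh
    let σ : ↥Z →* ↥Z :=
      { toFun := fun x => ⟨h * x * h⁻¹, hLZ h hh x x.2⟩
        map_one' := by apply Subtype.ext; simp
        map_mul' := by intro x y; apply Subtype.ext; simp }
    have h1 : σ u = ∏ q : ↥L ⧸ C, σ (φ q) := map_prod σ φ Finset.univ
    have h2 : ∀ q : ↥L ⧸ C, σ (φ q) = φ ((⟨h, hh⟩ : L) • q) := by
      intro q
      induction q using QuotientGroup.induction_on with
      | H g =>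
        rw [MulAction.Quotient.smul_mk, hφmk, hφmk]
        apply Subtype.ext
        show h * ((g:H) * z * (g:H)⁻¹) * h⁻¹ =
          (((⟨h,hh⟩ : L) • g : L) : H) * z * (((⟨h,hh⟩ : L) • g : L) : H)⁻¹
        simp only [smul_eq_mul, Subgroup.coe_mul]
        group
    have h3 : ∏ q : ↥L ⧸ C, φ ((⟨h, hh⟩ : L) • q) = ∏ q : ↥L ⧸ C, φ q :=
      Equiv.prod_comp (MulAction.toPerm (⟨h, hh⟩ : L)) φ
    have h4 : σ u = u := by rw [h1]; simp_rw [h2]; exact h3
    exact congrArg Subtype.val h4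
  · set zz : ↥Z := ⟨z, hz⟩ with hzz
    have h1 : u = (∏ q : ↥L ⧸ C, φ q * zz⁻¹) * zz ^ C.index := by
      rw [Finset.prod_mul_distrib, Finset.prod_const, Finset.card_univ, inv_pow]
      have : C.index = Fintype.card (↥L ⧸ C) := by
        rw [← Nat.card_eq_fintype_card]; rfl
      rw [this, inv_mul_cancel_right]
    have h2 : (∏ q : ↥L ⧸ C, φ q * zz⁻¹) ∈ (⁅R, Z⁆).subgroupOf Z := by
      apply Subgroup.prod_mem
      intro q _
      induction q using QuotientGroup.induction_on with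
      | H g =>
        rw [hφmk, Subgroup.mem_subgroupOf]
        show (g:H) * z * (g:H)⁻¹ * z⁻¹ ∈ ⁅R, Z⁆
        obtain ⟨r, hr, t, htz, hg⟩ := hfac g g.2
        have e : (g:H) * z * (g:H)⁻¹ * z⁻¹ = ⁅r, z⁆ := by
          rw [hg, commutatorElement_def]
          calc r * t * z * (r * t)⁻¹ * z⁻¹ = r * (t * z) * t⁻¹ * r⁻¹ * z⁻¹ := by group
            _ = r * (z * t) * t⁻¹ * r⁻¹ * z⁻¹ := by rw [htz]
            _ = _ := by group
        rw [e]
        exact Subgroup.commutator_mem_commutator hr hz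
    refine ⟨_, Subgroup.mem_subgroupOf.mp h2, ?_⟩
    have := congrArg Subtype.val h1
    simpa using this

/-- a central element of order dividing `p` lies in every Sylow `p`-subgroup. -/
theorem central_mem_sylow [Finite H] {p : ℕ} [Fact p.Prime] (T : Sylow p H) (u : H)
    (hu : ∀ h : H, h * u * h⁻¹ = u) (hup : u ^ p = 1) : u ∈ (T : Subgroup H) := by
  have hn : (Subgroup.zpowers u).Normal := by
    constructor
    intro y hy g
    obtain ⟨k, rfl⟩ := Subgroup.mem_zpowers_iff.mp hy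
    have : g * u ^ k * g⁻¹ = (g * u * g⁻¹) ^ k := by
      rw [conj_zpow]
    rw [this, hu g]
    exact Subgroup.zpow_mem_zpowers u k
  have hpg : IsPGroup p (Subgroup.zpowers u) := by
    rintro ⟨v, hv⟩
    obtain ⟨k, rfl⟩ := Subgroup.mem_zpowers_iff.mp hv
    refine ⟨1, ?_⟩
    apply Subtype.ext
    show (u ^ k) ^ (p ^ 1) = 1
    rw [pow_one, ← zpow_natCast, ← zpow_mul, mul_comm, zpow_mul, zpow_natCast, hup, one_zpow]
  exact pCore_le_sylow T (le_pCore _ hn hpg (Subgroup.mem_zpowers u))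

theorem centralizer_omegaZ_eq [Finite H] {p : ℕ} [Fact p.Prime] (T : Sylow p H) (V : Subgroup H)
    [hVn : V.Normal] (hV : IsElementaryAbelian p V)
    (hZV : omegaOne p ((T : Subgroup H) ⊓ Subgroup.centralizer ((T : Subgroup H) : Set H)) ≤ V) :
    Subgroup.centralizer
        ((omegaOne p ((T : Subgroup H) ⊓ Subgroup.centralizer ((T : Subgroup H) : Set H))) : Set H) =
      Subgroup.centralizer (((⁅V, pResidual p H⁆ ⊓
        (omegaOne p ((T : Subgroup H) ⊓ Subgroup.centralizer ((T : Subgroup H) : Set H)))) :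
          Subgroup H) : Set H) := by
  have hp : p.Prime := Fact.out
  set Z₀ := omegaOne p ((T : Subgroup H) ⊓ Subgroup.centralizer ((T : Subgroup H) : Set H)) with hZ₀
  set R := pResidual p H with hR
  haveI hRn : R.Normal := pResidual_normal p
  apply le_antisymm (Subgroup.centralizer_le inf_le_right)
  intro c hc
  have hcomm : ∀ a ∈ V, ∀ b ∈ V, a * b = b * a := by
    intro a ha b hb
    exact congrArg Subtype.val (hV.1.is_comm.comm (⟨a, ha⟩ : V) ⟨b, hb⟩)
  have hZc : Z₀ ≤ Subgroup.centralizer ({c} : Set H) := by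
    conv_lhs => rw [hZ₀]
    conv_lhs => unfold omegaOne
    rw [Subgroup.closure_le]
    intro z hzgen
    have hzZ₀ : z ∈ Z₀ := by rw [hZ₀]; unfold omegaOne; exact Subgroup.subset_closure hzgen
    obtain ⟨⟨hzT, hzC⟩, hzp⟩ := hzgen
    have hzC' : z ∈ Subgroup.centralizer ((T : Subgroup H) : Set H) := hzC
    have hzV : z ∈ V := hZV hzZ₀
    have hfac : ∀ g ∈ (⊤ : Subgroup H), ∃ r ∈ R, ∃ t : H, t * z = z * t ∧ g = r * t := by
      intro g _
      have hg : g ∈ R ⊔ (T : Subgroup H) := by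
        rw [sup_comm, sylow_sup_pResidual T]; trivial
      obtain ⟨r, hr, t, ht, hrt⟩ := Subgroup.mem_sup_of_normal_left.mp hg
      exact ⟨r, hr, t, Subgroup.mem_centralizer_iff.mp hzC' t ht, hrt.symm⟩
    obtain ⟨u, huV, huinv, w, hw, huw⟩ := orbit_product_gen ⊤ R V
      (fun g _ x hx => hVn.conj_mem x hx g) hcomm z hzV hfac
    set n := ((Subgroup.centralizer ({z} : Set H)).subgroupOf ⊤).index with hn
    have hn' : n = (Subgroup.centralizer ({z} : Set H)).index := Subgroup.relIndex_top_right _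
    have hTle : (T : Subgroup H) ≤ Subgroup.centralizer ({z} : Set H) := by
      intro s hs
      rw [Subgroup.mem_centralizer_iff]
      intro y hy
      rw [Set.mem_singleton_iff] at hy
      rw [hy]
      exact (Subgroup.mem_centralizer_iff.mp hzC' _ hs).symm
    have hnp : ¬ p ∣ n := by
      rw [hn']
      exact fun h => T.not_dvd_index (h.trans (Subgroup.index_dvd_of_le hTle))
    have hcop : Nat.Coprime n p := (Nat.Coprime.symm ((Nat.Prime.coprime_iff_not_dvd hp).mpr hnp))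
    obtain ⟨m, -, hm⟩ := Nat.exists_mul_mod_eq_one_of_coprime hcop hp.one_lt
    have hz_eq : z = (z ^ n) ^ m := by
      rw [← pow_mul, pow_eq_pow_mod (n * m) hzp, hm, pow_one]
    have hzn : z ^ n = w⁻¹ * u := by rw [huw]; group
    have huinv' : ∀ h : H, h * u * h⁻¹ = u := fun h => huinv h (Subgroup.mem_top h)
    have hup : u ^ p = 1 := hV.2 u huV
    have huT : u ∈ (T : Subgroup H) := central_mem_sylow T u huinv' hup
    have hucomm : ∀ h : H, h * u = u * h := by
      intro h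
      calc h * u = (h * u * h⁻¹) * h := by group
        _ = u * h := by rw [huinv' h]
    have huZ₀ : u ∈ Z₀ := by
      rw [hZ₀]; unfold omegaOne
      apply Subgroup.subset_closure
      refine ⟨⟨huT, ?_⟩, hup⟩
      show u ∈ Subgroup.centralizer ((T : Subgroup H) : Set H)
      rw [Subgroup.mem_centralizer_iff]
      intro t _
      exact hucomm t
    have hwZ₀ : w ∈ Z₀ := by
      have : w = u * (z ^ n)⁻¹ := by rw [huw]; group
      rw [this]
      exact mul_mem huZ₀ (inv_mem (pow_mem hzZ₀ n))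
    have hwVR : w ∈ ⁅V, R⁆ := by rw [Subgroup.commutator_comm]; exact hw
    have hcw : w * c = c * w := Subgroup.mem_centralizer_iff.mp hc w ⟨hwVR, hwZ₀⟩
    rw [SetLike.mem_coe, Subgroup.mem_centralizer_iff]
    intro y hy
    rw [Set.mem_singleton_iff] at hy
    rw [hy]
    have hczn : Commute c (z ^ n) := by
      rw [hzn]
      apply Commute.mul_right
      · exact (Commute.inv_right (show Commute c w from hcw.symm))
      · exact hucomm c
    have : Commute c z := by
      rw [hz_eq]; exact hczn.pow_right m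
    exact this.eq
  rw [Subgroup.mem_centralizer_iff]
  intro z hz
  have := Subgroup.mem_centralizer_iff.mp (hZc hz) c (Set.mem_singleton c)
  exact this.symm

end Cfsg.Agent.Lib.Helper4_OrbitProd2
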