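import Mathlib

namespace Cfsg.Agent.Lib.Helper4_OrthoChar2
open Module

variable {F : Type*} [Field F] [Finite F] [CharP F 2]

theorem key_step {V : Type*} [AddCommGroup V] [Module F V] [FiniteDimensional F V] {n : ℕ}
    (hV : finrank F V = n + 1) (B : LinearMap.BilinForm F V) (hS : B.IsSymm) (hB : B.Nondegenerate)
    (hna : ∃ v : V, B v v ≠ 0) :
    ∃ v : V, B v v = 1 ∧ (n = 0 ∨ ∃ w ∈ B.orthogonal (F ∙ v), B w w ≠ 0) := by
  obtain ⟨v₀, hv₀⟩ := hna
  obtain ⟨s, hs⟩ := FiniteField.isSquare_of_char_two (ringChar.eq F 2) (B v₀ v₀)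
  have hs0 : s ≠ 0 := by
    rintro rfl
    rw [mul_zero] at hs
    exact hv₀ hs
  set v := s⁻¹ • v₀ with hv
  have hvv : B v v = 1 := by
    simp only [hv, map_smul, LinearMap.smul_apply, smul_eq_mul, hs]
    field_simp
  have hvv0 : B v v ≠ 0 := by rw [hvv]; exact one_ne_zero
  by_cases hn : n = 0
  · exact ⟨v, hvv, Or.inl hn⟩
  by_cases hex : ∃ w ∈ B.orthogonal (F ∙ v), B w w ≠ 0
  · exact ⟨v, hvv, Or.inr hex⟩
  push Not at hex
  set W := B.orthogonal (F ∙ v) with hW
  have hdimW : finrank F W = n := by
    have h1 : finrank F ↥(F ∙ v) + finrank F W = finrank F V :=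
      Submodule.finrank_add_eq_of_isCompl
        (LinearMap.BilinForm.isCompl_span_singleton_orthogonal hvv0)
    rw [finrank_span_singleton (fun h => hvv0 (by rw [h]; simp)), hV] at h1
    omega
  have hWnd := LinearMap.BilinForm.restrict_nondegenerate_orthogonal_spanSingleton B hB hS.isRefl hvv0
  have hWne : ∃ e : W, e ≠ 0 := by
    by_contra h
    push Not at h
    have : Subsingleton W := ⟨fun a b => by rw [h a, h b]⟩
    have := finrank_zero_of_subsingleton (R := F) (M := W)
    omega
  obtain ⟨e, he⟩ := hWne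
  obtain ⟨f₀, hf₀⟩ : ∃ f₀ : W, (B.restrict W) e f₀ ≠ 0 := by
    by_contra h
    push Not at h
    exact he (hWnd.1 e h)
  rw [LinearMap.BilinForm.restrict_apply] at hf₀
  set c := (B e f₀)⁻¹ with hc
  set f : V := c • (f₀ : V) with hf
  have hfW : f ∈ W := W.smul_mem _ f₀.2
  have hef : B e f = 1 := by
    rw [hf, map_smul, smul_eq_mul, hc]
    exact inv_mul_cancel₀ hf₀
  have hve : B v e = 0 := by
    have h3 : (e : V) ∈ B.orthogonal (F ∙ v) := e.2
    rw [LinearMap.BilinForm.mem_orthogonal_iff] at h3
    exact h3 v (Submodule.mem_span_singleton_self v)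
  have hvf : B v f = 0 := by
    rw [hW, LinearMap.BilinForm.mem_orthogonal_iff] at hfW
    exact hfW v (Submodule.mem_span_singleton_self v)
  have hev : B e v = 0 := by rw [← hS.eq]; exact hve
  have hfv : B f v = 0 := by rw [← hS.eq]; exact hvf
  have hee : B e e = 0 := hex e e.2
  have hff : B f f = 0 := hex f hfW
  have h11 : (1 : F) + 1 = 0 := CharTwo.add_self_eq_zero 1
  refine ⟨v + e, ?_, Or.inr ⟨v + f, ?_, ?_⟩⟩
  · simp only [map_add, LinearMap.add_apply, hvv, hve, hev, hee]
    ring
  · rw [LinearMap.BilinForm.mem_orthogonal_iff]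
    intro x hx
    obtain ⟨a, rfl⟩ := Submodule.mem_span_singleton.mp hx
    simp only [map_add, LinearMap.add_apply, map_smul, LinearMap.smul_apply, smul_eq_mul, hvv, hvf,
      hev, hef]
    simp only [add_zero, zero_add, mul_one]
    exact CharTwo.add_self_eq_zero a
  · simp only [map_add, LinearMap.add_apply, hvv, hvf, hfv, hff]
    rw [add_zero, zero_add, add_zero]
    exact one_ne_zero


theorem main : ∀ (n : ℕ) {V : Type*} [AddCommGroup V] [Module F V] [FiniteDimensional F V]
    (_hV : finrank F V = n) (B : LinearMap.BilinForm F V) (_hS : B.IsSymm) (_hB : B.Nondegenerate)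
    (_hna : ∃ v : V, B v v ≠ 0),
    ∃ b : Basis (Fin n) F V, ∀ i j, B (b i) (b j) = if i = j then 1 else 0 := by
  intro n
  induction n with
  | zero =>
    intro V _ _ _ hV B hS hB hna
    exfalso
    obtain ⟨v, hv⟩ := hna
    have : Subsingleton V := finrank_zero_iff.mp hV
    have : v = 0 := Subsingleton.elim v 0
    rw [this] at hv
    simp at hv
  | succ n ih =>
    intro V _ _ _ hV B hS hB hna
    obtain ⟨v, hvv, hcase⟩ := key_step hV B hS hB hna
    have hvv0 : B v v ≠ 0 := by rw [hvv]; exact one_ne_zero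
    set W := B.orthogonal (F ∙ v) with hW
    have hdimW : finrank F W = n := by
      have h1 : finrank F ↥(F ∙ v) + finrank F W = finrank F V :=
        Submodule.finrank_add_eq_of_isCompl
          (LinearMap.BilinForm.isCompl_span_singleton_orthogonal hvv0)
      rw [finrank_span_singleton (fun h => hvv0 (by rw [h]; simp)), hV] at h1
      omega
    have hWnd : (B.restrict W).Nondegenerate :=
      LinearMap.BilinForm.restrict_nondegenerate_orthogonal_spanSingleton B hB hS.isRefl hvv0
    have hWS : (B.restrict W).IsSymm := hS.restrict W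
    obtain ⟨v', hv'⟩ : ∃ b : Basis (Fin n) F W,
        ∀ i j, (B.restrict W) (b i) (b j) = if i = j then 1 else 0 := by
      rcases hcase with hn | ⟨w, hwW, hww⟩
      · subst hn
        exact ⟨basisOfFinrankZero hdimW, fun i => i.elim0⟩
      · exact ih hdimW (B.restrict W) hWS hWnd ⟨⟨w, hwW⟩, hww⟩
    let b :=
      Basis.mkFinCons v v'
        (by
          rintro c y hy hc
          rw [add_eq_zero_iff_neg_eq] at hc
          rw [← hc, Submodule.neg_mem_iff] at hy
          have := (LinearMap.BilinForm.isCompl_span_singleton_orthogonal hvv0).disjoint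
          rw [Submodule.disjoint_def] at this
          have := this (c • v) (Submodule.smul_mem _ _ <| Submodule.mem_span_singleton_self _) hy
          exact (smul_eq_zero.1 this).resolve_right fun h => hvv0 <| h.symm ▸ by simp)
        (by
          intro y
          refine ⟨-B v y / B v v, fun z hz => ?_⟩
          obtain ⟨c, rfl⟩ := Submodule.mem_span_singleton.1 hz
          rw [map_smul, LinearMap.smul_apply, map_add, map_smul, smul_eq_mul, smul_eq_mul,
            div_mul_cancel₀ _ hvv0, add_neg_cancel, mul_zero])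
    refine ⟨b, ?_⟩
    have hb : ⇑b = Fin.cons v (W.subtype ∘ v') := Basis.coe_mkFinCons _ _ _ _
    rw [hb]
    intro i j
    refine Fin.cases ?_ (fun i => ?_) i <;> refine Fin.cases ?_ (fun j => ?_) j <;>
      simp only [Fin.cons_zero, Fin.cons_succ, Function.comp_apply]
    · simp [hvv]
    · have h1 : ((v' j : W) : V) ∈ B.orthogonal (F ∙ v) := (v' j).2
      rw [LinearMap.BilinForm.mem_orthogonal_iff] at h1
      have h2 := h1 v (Submodule.mem_span_singleton_self v)
      simp only [Submodule.subtype_apply]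
      rw [h2, if_neg]
      exact (Fin.succ_ne_zero j).symm
    · have h1 : ((v' i : W) : V) ∈ B.orthogonal (F ∙ v) := (v' i).2
      rw [LinearMap.BilinForm.mem_orthogonal_iff] at h1
      have h2 := h1 v (Submodule.mem_span_singleton_self v)
      simp only [Submodule.subtype_apply]
      rw [← hS.eq, h2, if_neg]
      exact Fin.succ_ne_zero i
    · have h3 : B (v' i : V) (v' j : V) = if i = j then 1 else 0 := hv' i j
      simp only [Submodule.subtype_apply]
      rw [h3]
      simp [Fin.succ_inj]

end Cfsg.Agent.Lib.Helper4_OrthoChar2
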