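import Mathlib

namespace Cfsg.Agent.Lib.Helper4_PGL

open Matrix

theorem pgl_order {F : Type*} [Field F] [Fintype F] :
    ∃ x : Matrix.ProjGenLinGroup (Fin 2) F, orderOf x = Fintype.card F - 1 := by
  classical
  obtain ⟨ζ, hζ⟩ := IsCyclic.exists_ofOrder_eq_natCard (α := Fˣ)
  rw [Nat.card_eq_fintype_card, Fintype.card_units] at hζ
  let d : Fin 2 → Fˣ := ![ζ, 1]
  let g : GL (Fin 2) F :=
    ⟨Matrix.diagonal (fun i => ((d i : Fˣ) : F)), Matrix.diagonal (fun i => (((d i)⁻¹ : Fˣ) : F)), by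
      rw [Matrix.diagonal_mul_diagonal, ← Matrix.diagonal_one]
      congr 1; ext i; simp, by
      rw [Matrix.diagonal_mul_diagonal, ← Matrix.diagonal_one]
      congr 1; ext i; simp⟩
  have hgpow : ∀ k : ℕ, ((g ^ k : GL (Fin 2) F) : Matrix (Fin 2) (Fin 2) F) =
      Matrix.diagonal (fun i => (((d i) ^ k : Fˣ) : F)) := by
    intro k
    rw [Units.val_pow_eq_pow_val]
    show (Matrix.diagonal (fun i => ((d i : Fˣ) : F))) ^ k = _
    rw [Matrix.diagonal_pow]
    congr 1
  have hcen : ∀ k : ℕ, g ^ k ∈ Subgroup.center (GL (Fin 2) F) ↔ ζ ^ k = 1 := by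
    intro k
    rw [Matrix.GeneralLinearGroup.mem_center_iff_val_mem_range_scalar, hgpow]
    constructor
    · rintro ⟨a, ha⟩
      have h0 := congrFun (congrFun ha 0) 0
      have h1 := congrFun (congrFun ha 1) 1
      simp [d, Matrix.scalar_apply] at h0 h1
      apply Units.ext
      rw [Units.val_pow_eq_pow_val, ← h0, h1]
      rfl
    · intro h
      refine ⟨1, ?_⟩
      rw [map_one, ← Matrix.diagonal_one]
      congr 1
      ext i
      fin_cases i <;> simp [d, h]
  refine ⟨Matrix.ProjGenLinGroup.mk g, ?_⟩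
  rw [← hζ]
  apply orderOf_eq_of_pow_and_pow_div_prime (orderOf_pos ζ)
  · rw [← map_pow, Matrix.ProjGenLinGroup.mk_eq_one, hcen]
    exact pow_orderOf_eq_one ζ
  · intro p hp hpd
    rw [← map_pow, Ne, Matrix.ProjGenLinGroup.mk_eq_one, hcen]
    intro h
    have h1 := orderOf_dvd_of_pow_eq_one h
    have h2 : orderOf ζ / p < orderOf ζ := Nat.div_lt_self (orderOf_pos ζ) hp.one_lt
    have h3 : 0 < orderOf ζ / p := Nat.div_pos (Nat.le_of_dvd (orderOf_pos ζ) hpd) hp.pos
    have := Nat.le_of_dvd h3 h1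
    omega

end Cfsg.Agent.Lib.Helper4_PGL
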