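import Mathlib
import Cfsg.Prelude.Def_LocalStructure
import Cfsg.Agent.Lib.Helper4_PIrred2

namespace Cfsg.Agent.Lib.Helper4_PIrred3

open Cfsg Cfsg.Agent.Lib.Helper4_PCore Cfsg.Agent.Lib.Helper4_Minimal Cfsg.Agent.Lib.Helper4_PIrred
  Cfsg.Agent.Lib.Helper4_PIrred2
open scoped commutatorElement

/-- `p`-closedness is invariant under isomorphism. -/
theorem isPClosed_of_equiv {A B : Type*} [Group A] [Group B] [Finite A] [Finite B] {p : ℕ}
    [Fact p.Prime] (e : A ≃* B) (h : IsPClosed p A) : IsPClosed p B := by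
  rw [isPClosed_iff] at h ⊢
  intro x ⟨k, hk⟩
  have h1 := h (e.symm x) ⟨k, by rw [← map_pow, hk, map_one]⟩
  rw [← Cfsg.Agent.Lib.Helper4_Amalgam4.pCore_map_equiv p e]
  exact Subgroup.mem_map.mpr ⟨e.symm x, h1, by simp⟩

variable {G : Type*} [Group G]

theorem module_centralizers [Finite G] {p : ℕ} [Fact p.Prime] (V H : Subgroup G)
    (hH : IsPIrreducible p ↥H)
    (hnc : ¬ (pResidual p ↥H).map H.subtype ≤ Subgroup.centralizer (V : Set G))
    [hn : ((Subgroup.centralizer (V : Set G)).subgroupOf H).Normal] :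
    IsPClosed p ↥(H ⊓ Subgroup.centralizer (V : Set G)) ∧
      (∀ T : Subgroup G, T ≤ H → IsPGroup p ↥T →
        T ⊓ Subgroup.centralizer (V : Set G) ≤ pCoreOf p H) ∧
      (pCoreOf p H ≤ Subgroup.centralizer (V : Set G) →
        (∀ T : Subgroup G, T ≤ H → IsPGroup p ↥T →
          T ⊓ Subgroup.centralizer (V : Set G) = T ⊓ pCoreOf p H) ∧
        pCore p (↥H ⧸ (Subgroup.centralizer (V : Set G)).subgroupOf H) = ⊥) := by
  obtain ⟨hncl, hirr⟩ := hH
  set C : Subgroup ↥H := (Subgroup.centralizer (V : Set G)).subgroupOf H with hC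
  have hnc' : ¬ pResidual p ↥H ≤ C := by
    intro h
    apply hnc
    intro x hx
    obtain ⟨y, hy, rfl⟩ := Subgroup.mem_map.mp hx
    exact h hy
  have hCcl : IsPClosed p ↥C := by
    by_contra hcon
    exact hnc' (hirr C hn hcon)
  have hCcrit := (isPClosed_normal_iff C).mp hCcl
  -- (2)
  have h2 : ∀ T : Subgroup G, T ≤ H → IsPGroup p ↥T →
      T ⊓ Subgroup.centralizer (V : Set G) ≤ pCoreOf p H := by
    intro T hTH hT x hx
    rw [Subgroup.mem_inf] at hx
    obtain ⟨k, hk⟩ := hT ⟨x, hx.1⟩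
    have hk' : x ^ (p ^ k) = 1 := by
      have := congrArg Subtype.val hk
      simpa using this
    have := hCcrit ⟨x, hTH hx.1⟩ (by rw [hC, Subgroup.mem_subgroupOf]; exact hx.2)
      ⟨k, by apply Subtype.ext; simpa using hk'⟩
    exact Subgroup.mem_map.mpr ⟨_, this, rfl⟩
  refine ⟨?_, h2, ?_⟩
  · -- (1)
    have e1 : (H ⊓ Subgroup.centralizer (V : Set G)).subgroupOf H = C := by
      rw [hC, Subgroup.inf_subgroupOf_left]
    have e : ↥C ≃* ↥(H ⊓ Subgroup.centralizer (V : Set G)) := by
      rw [← e1]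
      exact Subgroup.subgroupOfEquivOfLe inf_le_left
    exact isPClosed_of_equiv e hCcl
  · intro hQC
    refine ⟨?_, ?_⟩
    · intro T hTH hT
      apply le_antisymm
      · exact le_inf inf_le_left (h2 T hTH hT)
      · exact le_inf inf_le_left (inf_le_right.trans hQC)
    · -- (3b)
      rw [eq_bot_iff]
      intro y hy
      rw [Subgroup.mem_bot]
      set Q : Subgroup ↥H := (pCore p (↥H ⧸ C)).comap (QuotientGroup.mk' C) with hQ
      haveI hQn : Q.Normal := by
        haveI := pCore_normal p (↥H ⧸ C)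
        rw [hQ]; infer_instance
      have hQbar : IsPGroup p (pCore p (↥H ⧸ C)) := pCore_isPGroup
      have hQbar' : ∀ z ∈ pCore p (↥H ⧸ C), ∃ k : ℕ, z ^ (p ^ k) = 1 := by
        intro z hz
        obtain ⟨k, hk⟩ := hQbar ⟨z, hz⟩
        exact ⟨k, by have := congrArg Subtype.val hk; simpa using this⟩
      -- Q is p-closed
      have hQcl : IsPClosed p ↥Q := by
        by_contra hcon
        have h1 := hirr Q hQn hcon
        apply hnc'
        conv_lhs => unfold pResidual
        rw [Subgroup.closure_le]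
        intro x hx
        have hx' : Nat.Coprime (orderOf x) p := hx
        have hxQ : x ∈ Q := h1 (by unfold pResidual; exact Subgroup.subset_closure hx)
        have hxbar : QuotientGroup.mk' C x ∈ pCore p (↥H ⧸ C) := hxQ
        obtain ⟨k, hk⟩ := hQbar' _ hxbar
        have hcop : Nat.Coprime (orderOf (QuotientGroup.mk' C x)) p :=
          Nat.Coprime.coprime_dvd_left (orderOf_map_dvd _ x) hx'
        have hord : orderOf (QuotientGroup.mk' C x) ∣ p ^ k := orderOf_dvd_of_pow_eq_one hk
        have h1' : orderOf (QuotientGroup.mk' C x) = 1 :=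
          Nat.Coprime.eq_one_of_dvd (Nat.Coprime.pow_right k hcop) hord
        rw [orderOf_eq_one_iff, QuotientGroup.mk'_apply, QuotientGroup.eq_one_iff] at h1'
        exact h1'
      have hQcrit := (isPClosed_normal_iff Q).mp hQcl
      induction y using QuotientGroup.induction_on with
      | H q =>
        have hqQ : q ∈ Q := hy
        have hp : p.Prime := Fact.out
        have hpos : 0 < orderOf q := orderOf_pos _
        obtain ⟨a, m, hm, hqm⟩ := Nat.exists_eq_pow_mul_and_not_dvd hpos.ne' p hp.ne_one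
        -- q^m is a p-element of Q
        have h3 : (q ^ m) ^ (p ^ a) = 1 := by
          rw [← pow_mul, mul_comm, ← hqm, pow_orderOf_eq_one]
        have h4 : q ^ m ∈ pCore p ↥H := hQcrit _ (pow_mem hqQ m) ⟨a, h3⟩
        have h5 : q ^ m ∈ C := by
          rw [hC, Subgroup.mem_subgroupOf]
          exact hQC (Subgroup.mem_map.mpr ⟨_, h4, rfl⟩)
        have h6 : (QuotientGroup.mk q : ↥H ⧸ C) ^ m = 1 := by
          rw [← QuotientGroup.mk_pow, QuotientGroup.eq_one_iff]; exact h5
        obtain ⟨k, hk⟩ := hQbar' _ hy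
        have hord1 : orderOf (QuotientGroup.mk q : ↥H ⧸ C) ∣ m := orderOf_dvd_of_pow_eq_one h6
        have hord2 : orderOf (QuotientGroup.mk q : ↥H ⧸ C) ∣ p ^ k := orderOf_dvd_of_pow_eq_one hk
        have hcop : Nat.Coprime m (p ^ k) :=
          Nat.Coprime.pow_right k (Nat.Coprime.symm ((Nat.Prime.coprime_iff_not_dvd hp).mpr hm))
        have : orderOf (QuotientGroup.mk q : ↥H ⧸ C) = 1 :=
          Nat.eq_one_of_dvd_coprimes hcop hord1 hord2
        exact orderOf_eq_one_iff.mp this

end Cfsg.Agent.Lib.Helper4_PIrred3
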