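import Mathlib
import Cfsg.Agent.Lib.Helper4_FixedPoint
import Cfsg.Agent.Lib.Helper4_Trace
import Cfsg.Agent.Lib.Helper4_Stab

namespace Cfsg.Agent.Lib.Helper4_PQ
open Cfsg.Agent.Lib.Helper4_FixedPoint Cfsg.Agent.Lib.Helper4_Trace Cfsg.Agent.Lib.Helper4_Stab

variable {G : Type*} [Group G]

/-- Thompson's `P × Q` lemma for an abelian `p`-group `V`, in a relative form. -/
theorem pq_lemma [Finite G] {p : ℕ} [Fact p.Prime] (V D : Subgroup G) (y : G)
    (hVcomm : ∀ a ∈ V, ∀ b ∈ V, a * b = b * a) (hVp : IsPGroup p V)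
    (hy : Nat.Coprime (orderOf y) p) (hyV : ∀ v ∈ V, y * v * y⁻¹ ∈ V)
    (hDV : ∀ d ∈ D, ∀ v ∈ V, d * v * d⁻¹ ∈ V)
    (hDp : ∀ d ∈ D, ∃ k : ℕ, d ^ (p ^ k) ∈ Subgroup.centralizer (V : Set G))
    (hDy : ∀ d ∈ D, d * y * d⁻¹ * y⁻¹ ∈ Subgroup.centralizer (V : Set G))
    (hfix : ∀ v ∈ V, (∀ d ∈ D, d * v = v * d) → y * v = v * y) :
    ∀ v ∈ V, y * v = v * y := by
  have hp : p.Prime := Fact.out
  set A := Subgroup.zpowers y with hA
  have hpowV : ∀ k : ℕ, ∀ v ∈ V, y ^ k * v * (y ^ k)⁻¹ ∈ V := by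
    intro k
    induction k with
    | zero => intro v hv; simpa using hv
    | succ k ih =>
      intro v hv
      have := hyV _ (ih v hv)
      have e : y ^ (k + 1) * v * (y ^ (k + 1))⁻¹ = y * (y ^ k * v * (y ^ k)⁻¹) * y⁻¹ := by
        rw [pow_succ']; group
      rw [e]; exact this
  have hAmem : ∀ a ∈ A, ∃ k : ℕ, a = y ^ k := by
    intro a ha
    have hfin : IsOfFinOrder y := isOfFinOrder_of_finite y
    have := (hfin.mem_powers_iff_mem_zpowers).mpr ha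
    obtain ⟨k, hk⟩ := Submonoid.mem_powers_iff _ _ |>.mp this
    exact ⟨k, hk.symm⟩
  have hAV : ∀ a ∈ A, ∀ v ∈ V, a * v * a⁻¹ ∈ V := by
    intro a ha v hv
    obtain ⟨k, rfl⟩ := hAmem a ha
    exact hpowV k v hv
  obtain ⟨Tr, hTrM, hTrmul, hTrpow, hTrinv, hTrfix, hTrA, hTreq⟩ :=
    trace_exists A ⊥ V bot_le hAV hVcomm
  have hm : (⊥ : Subgroup G).relIndex A = orderOf y := by
    rw [Subgroup.relIndex_bot_left, hA, Nat.card_zpowers]
  have hTr1 : Tr 1 = 1 := by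
    have := hTrpow 1 V.one_mem 0
    simpa using this
  have hbot : ∀ (w : G), ∀ s ∈ (⊥ : Subgroup G), s * w = w * s := by
    intro w s hs
    rw [Subgroup.mem_bot.mp hs]; simp
  have hyA : y ∈ A := Subgroup.mem_zpowers y
  -- Tr kills commutators
  have hTrgen : ∀ v ∈ V, Tr (y * v * y⁻¹ * v⁻¹) = 1 := by
    intro v hv
    have h1 : Tr (y * v * y⁻¹) = y * Tr v * y⁻¹ := by
      apply hTreq y _ _ _ hyV v hv (hbot v)
      · intro a ha
        exact A.mul_mem (A.mul_mem hyA ha) (A.inv_mem hyA)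
      · intro s hs
        rw [Subgroup.mem_bot.mp hs]; simp
      · intro s hs
        rw [Subgroup.mem_bot.mp hs]; simp
    have h2 : y * Tr v = Tr v * y := hTrA v hv (hbot v) y hyA
    have h3 : y * Tr v * y⁻¹ = Tr v := by rw [h2]; group
    rw [hTrmul _ (hyV v hv) _ (V.inv_mem hv), h1, h3, hTrinv v hv, mul_inv_cancel]
  set W := Subgroup.closure {g : G | ∃ v ∈ V, g = y * v * y⁻¹ * v⁻¹} with hW
  have hWV : W ≤ V := by
    rw [hW, Subgroup.closure_le]
    rintro g ⟨v, hv, rfl⟩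
    exact V.mul_mem (hyV v hv) (V.inv_mem hv)
  have hTrW : ∀ w ∈ W, Tr w = 1 := by
    intro w hw
    have : w ∈ V ∧ Tr w = 1 := by
      induction hw using Subgroup.closure_induction with
      | mem x hx =>
        obtain ⟨v, hv, rfl⟩ := hx
        exact ⟨V.mul_mem (hyV v hv) (V.inv_mem hv), hTrgen v hv⟩
      | one => exact ⟨V.one_mem, hTr1⟩
      | mul a b _ _ iha ihb =>
        exact ⟨V.mul_mem iha.1 ihb.1, by rw [hTrmul a iha.1 b ihb.1, iha.2, ihb.2, one_mul]⟩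
      | inv a _ iha =>
        exact ⟨V.inv_mem iha.1, by rw [hTrinv a iha.1, iha.2, inv_one]⟩
    exact this.2
  -- D normalizes W
  have hDW : ∀ d ∈ D, ∀ w ∈ W, d * w * d⁻¹ ∈ W := by
    intro d hd
    have : W ≤ W.comap (MulAut.conj d).toMonoidHom := by
      conv_lhs => rw [hW]
      rw [Subgroup.closure_le]
      rintro g ⟨v, hv, rfl⟩
      rw [SetLike.mem_coe, Subgroup.mem_comap]
      simp only [MulEquiv.coe_toMonoidHom, MulAut.conj_apply]
      apply Subgroup.subset_closure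
      refine ⟨d * v * d⁻¹, hDV d hd v hv, ?_⟩
      set c := d * y * d⁻¹ * y⁻¹ with hc
      have hcC := Subgroup.mem_centralizer_iff.mp (hDy d hd)
      set v' := d * v * d⁻¹ with hv'
      have hv'V : v' ∈ V := hDV d hd v hv
      have h1 : (y * v' * y⁻¹) * c = c * (y * v' * y⁻¹) := hcC _ (hyV v' hv'V)
      have e1 : d * (y * v * y⁻¹ * v⁻¹) * d⁻¹ = c * (y * v' * y⁻¹) * c⁻¹ * v'⁻¹ := by
        rw [hc, hv']; group
      rw [e1, ← h1]
      rw [mul_assoc (y * v' * y⁻¹) c c⁻¹, mul_inv_cancel, mul_one]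
    intro w hw
    exact this hw
  by_contra hcon
  push Not at hcon
  obtain ⟨v₀, hv₀, hne⟩ := hcon
  have hWne : W ≠ ⊥ := by
    intro h
    apply hne
    have : y * v₀ * y⁻¹ * v₀⁻¹ ∈ W := Subgroup.subset_closure ⟨v₀, hv₀, rfl⟩
    rw [h, Subgroup.mem_bot] at this
    calc y * v₀ = (y * v₀ * y⁻¹ * v₀⁻¹) * v₀ * y := by group
      _ = v₀ * y := by rw [this, one_mul]
  obtain ⟨w, hwW, hw1, hwD⟩ := exists_fixed_of_pAction (p := p) W D (hVp.to_le hWV) hWne hDW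
    (fun d hd => by
      obtain ⟨k, hk⟩ := hDp d hd
      exact ⟨k, Subgroup.centralizer_le hWV hk⟩)
  have hwV : w ∈ V := hWV hwW
  have hyw : y * w = w * y := hfix w hwV hwD
  have hwA : ∀ a ∈ A, a * w = w * a := by
    intro a ha
    obtain ⟨k, rfl⟩ := hAmem a ha
    exact ((show Commute y w from hyw).pow_left k).eq
  have h1 := hTrfix w hwV hwA
  rw [hTrW w hwW, hm] at h1
  apply hw1
  have h2 : orderOf w ∣ orderOf y := orderOf_dvd_of_pow_eq_one h1.symm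
  obtain ⟨k, hk⟩ := (IsPGroup.iff_orderOf.mp hVp) ⟨w, hwV⟩
  have hk' : orderOf w = p ^ k := by rw [← hk]; exact (Subgroup.orderOf_mk w hwV).symm
  have hcop : Nat.Coprime (orderOf w) p := Nat.Coprime.coprime_dvd_left h2 hy
  exact eq_one_of_coprime_of_pow w hcop k hk'

end Cfsg.Agent.Lib.Helper4_PQ
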