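import Mathlib
import Cfsg.Prelude.Def_LocalStructure
import Cfsg.Agent.Lib.Helper4_PReduced7
import Cfsg.Agent.Lib.Helper4_CharP

namespace Cfsg.Agent.Lib.Helper4_PReduced8

open Cfsg Cfsg.Agent.Lib.Helper4_PCore Cfsg.Agent.Lib.Helper4_Minimal Cfsg.Agent.Lib.Helper4_PIrred
  Cfsg.Agent.Lib.Helper4_PIrred2 Cfsg.Agent.Lib.Helper4_PReduced Cfsg.Agent.Lib.Helper4_PReduced2
  Cfsg.Agent.Lib.Helper4_PReduced3 Cfsg.Agent.Lib.Helper4_PReduced4 Cfsg.Agent.Lib.Helper4_PReduced5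
  Cfsg.Agent.Lib.Helper4_PReduced6 Cfsg.Agent.Lib.Helper4_PReduced7 Cfsg.Agent.Lib.Helper4_CharP
open scoped commutatorElement Pointwise

variable {H : Type*} [Group H]

/-- relative Frattini argument. -/
theorem frattini_rel [Finite H] {p : ℕ} [Fact p.Prime] (M K P₀ : Subgroup H) (hKM : K ≤ M)
    (hMK : M ≤ Subgroup.normalizer (K : Set H)) (hP₀K : P₀ ≤ K)
    (hP : ∃ P : Sylow p ↥K, (P : Subgroup ↥K) = P₀.subgroupOf K) :
    ∀ g ∈ M, ∃ a ∈ M, a ∈ Subgroup.normalizer (P₀ : Set H) ∧ ∃ k ∈ K, g = a * k := by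
  obtain ⟨P, hP⟩ := hP
  intro g hg
  set P₁ : Subgroup H := P₀.map (MulAut.conj g⁻¹).toMonoidHom with hP₁
  have hP₁K : P₁ ≤ K := by
    intro y hy
    obtain ⟨x, hx, rfl⟩ := Subgroup.mem_map.mp hy
    have := (Subgroup.mem_normalizer_iff.mp (hMK (inv_mem hg)) x).mp (hP₀K hx)
    simpa using this
  have hP₀p : IsPGroup p P₀ := by
    have h1 : IsPGroup p ((P : Subgroup ↥K).map K.subtype) := P.isPGroup'.map _
    rw [hP, Subgroup.subgroupOf_map_subtype, inf_of_le_left hP₀K] at h1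
    exact h1
  have hp1 : IsPGroup p (P₁.subgroupOf K) := (hP₀p.map _).comap_subtype
  obtain ⟨Q, hQ⟩ := hp1.exists_le_sylow
  obtain ⟨k', hk'⟩ := MulAction.exists_smul_eq ↥K P Q
  have hb : (k' : H)⁻¹ * g⁻¹ ∈ Subgroup.normalizer (P₀ : Set H) := by
    haveI : Finite ((P₀ : Subgroup H) : Set H) := Subtype.finite
    apply Subgroup.mem_normalizer_fintype
    intro x hx
    have hy : g⁻¹ * x * g ∈ P₁ := by
      refine Subgroup.mem_map.mpr ⟨x, hx, ?_⟩
      simp
    have hyK := hP₁K hy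
    have h1 : (⟨g⁻¹ * x * g, hyK⟩ : K) ∈ (Q : Subgroup ↥K) :=
      hQ (by rw [Subgroup.mem_subgroupOf]; exact hy)
    rw [← hk', Sylow.coe_subgroup_smul, Subgroup.mem_pointwise_smul_iff_inv_smul_mem] at h1
    have h2 : k'⁻¹ * (⟨g⁻¹ * x * g, hyK⟩ : K) * k' ∈ (P : Subgroup ↥K) := by
      simpa [MulAut.smul_def] using h1
    rw [hP, Subgroup.mem_subgroupOf] at h2
    have e : (k' : H)⁻¹ * g⁻¹ * x * ((k' : H)⁻¹ * g⁻¹)⁻¹ =
        ((k'⁻¹ * (⟨g⁻¹ * x * g, hyK⟩ : K) * k' : K) : H) := by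
      simp only [Subgroup.coe_mul, Subgroup.coe_inv]
      group
    rw [SetLike.mem_coe, e]
    exact h2
  refine ⟨g * k', mul_mem hg (hKM k'.2), ?_, (k' : H)⁻¹, inv_mem k'.2, by group⟩
  have := inv_mem hb
  have e : ((k' : H)⁻¹ * g⁻¹)⁻¹ = g * k' := by group
  rwa [e] at this

/-- `N(Y) ≤ N(C(Y))`, and joins. -/
theorem sup_centralizer_le_normalizer (L Y : Subgroup H) (hLY : L ≤ Subgroup.normalizer (Y : Set H)) :
    L ⊔ Subgroup.centralizer (Y : Set H) ≤ Subgroup.normalizer (Y : Set H) :=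
  sup_le hLY (Subgroup.centralizer_le_normalizer _)

/-- transfer of `p`-reducedness along `L C(Y) = L' C(Y)`. -/
theorem relPReduced_transfer {p : ℕ} [Fact p.Prime] (L L' Y : Subgroup H)
    (hY : RelPReduced p L Y) (hYL' : Y ≤ L')
    (hsup : L ⊔ Subgroup.centralizer (Y : Set H) = L' ⊔ Subgroup.centralizer (Y : Set H)) :
    RelPReduced p L' Y := by
  obtain ⟨hYL, hLY, hel, hno⟩ := hY
  set C := Subgroup.centralizer (Y : Set H) with hC
  have hNC : Subgroup.normalizer (Y : Set H) ≤ Subgroup.normalizer (C : Set H) :=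
    normalizer_le_normalizer_centralizer Y
  have hLCN : L ⊔ C ≤ Subgroup.normalizer (Y : Set H) := sup_centralizer_le_normalizer L Y hLY
  have hL'Y : L' ≤ Subgroup.normalizer (Y : Set H) := by
    refine le_trans ?_ hLCN
    rw [hsup]; exact le_sup_left
  refine ⟨hYL', hL'Y, hel, ?_⟩
  intro D hDL' hL'D hDp
  have hDNC : D ≤ Subgroup.normalizer (C : Set H) := (hDL'.trans hL'Y).trans hNC
  have hDC : ((D ⊔ C : Subgroup H) : Set H) = (D : Set H) * (C : Set H) := by
    rw [sup_comm]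
    rw [Subgroup.coe_mul_of_right_le_normalizer_left C D hDNC]
    ext x
    constructor
    · rintro ⟨c, hc, d, hd, rfl⟩
      refine ⟨d, hd, d⁻¹ * c * d, ?_, by group⟩
      have := (Subgroup.mem_normalizer_iff.mp (inv_mem (hDNC hd)) c).mp hc
      simpa using this
    · rintro ⟨d, hd, c, hc, rfl⟩
      refine ⟨d * c * d⁻¹, ?_, d, hd, by group⟩
      exact (Subgroup.mem_normalizer_iff.mp (hDNC hd) c).mp hc
  set E := (D ⊔ C) ⊓ L with hE
  -- normalizer of D ⊔ C
  have hnorm : L ≤ Subgroup.normalizer ((D ⊔ C : Subgroup H) : Set H) := by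
    have h1 : L' ⊔ C ≤ Subgroup.normalizer ((D ⊔ C : Subgroup H) : Set H) := by
      apply sup_le
      · apply le_normalizer_of_conj_mem'
        intro g hg w hw
        have hw' : w ∈ ((D ⊔ C : Subgroup H) : Set H) := hw
        rw [hDC] at hw'
        obtain ⟨d, hd, c, hc, rfl⟩ := hw'
        have h2 : g * d * g⁻¹ ∈ D := (Subgroup.mem_normalizer_iff.mp (hL'D hg) d).mp hd
        have h3 : g * c * g⁻¹ ∈ C :=
          (Subgroup.mem_normalizer_iff.mp (hNC (hL'Y hg)) c).mp hc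
        have e : g * (d * c) * g⁻¹ = (g * d * g⁻¹) * (g * c * g⁻¹) := by group
        rw [e]
        exact Subgroup.mul_mem_sup h2 h3
      · exact le_sup_right.trans Subgroup.le_normalizer
    refine le_trans ?_ h1
    rw [← hsup]; exact le_sup_left
  have hEC : E ≤ C := by
    apply hno E inf_le_right
    · apply le_normalizer_of_conj_mem'
      intro g hg w hw
      rw [hE, Subgroup.mem_inf] at hw ⊢
      exact ⟨(Subgroup.mem_normalizer_iff.mp (hnorm hg) w).mp hw.1,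
        mul_mem (mul_mem hg hw.2) (inv_mem hg)⟩
    · intro e he
      have he' : e ∈ ((D ⊔ C : Subgroup H) : Set H) := he.1
      rw [hDC] at he'
      obtain ⟨d, hd, c, hc, rfl⟩ := he'
      obtain ⟨k, hk⟩ := hDp d hd
      refine ⟨k, ?_⟩
      obtain ⟨c', hc', h⟩ := mul_pow_mem_of_normalizes C (hDNC hd) hc (p ^ k)
      rw [h]
      exact mul_mem hk hc'
  intro d hd
  have hd1 : d ∈ L ⊔ C := by
    rw [hsup]; exact Subgroup.mem_sup_left (hDL' hd)
  have hLNC : L ≤ Subgroup.normalizer (C : Set H) := hLY.trans hNC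
  have hLC : ((L ⊔ C : Subgroup H) : Set H) = (C : Set H) * (L : Set H) := by
    rw [sup_comm]
    exact Subgroup.coe_mul_of_right_le_normalizer_left C L hLNC
  have hd2 : d ∈ ((L ⊔ C : Subgroup H) : Set H) := hd1
  rw [hLC] at hd2
  obtain ⟨c, hc, l, hl, rfl⟩ := hd2
  have hlE : l ∈ E := by
    refine ⟨?_, hl⟩
    have : l = c⁻¹ * (c * l) := by group
    rw [this]
    exact mul_mem (Subgroup.mem_sup_right (inv_mem hc)) (Subgroup.mem_sup_left hd)
  exact mul_mem hc (hEC hlE)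

/-- relative form of `Ω₁(Z(C_T(Y_L))) ≤ Y_L`. -/
theorem omegaZ_le_largestPReducedOf [Finite H] {p : ℕ} [Fact p.Prime] (T : Sylow p H) (L : Subgroup H)
    (hTL : (T : Subgroup H) ≤ L)
    (hL : Subgroup.centralizer (pCore p ↥L : Set ↥L) ≤ pCore p ↥L) :
    omegaOne p (((T : Subgroup H) ⊓ Subgroup.centralizer ((largestPReducedOf p L : Subgroup H) : Set H)) ⊓
      Subgroup.centralizer ((((T : Subgroup H) ⊓
        Subgroup.centralizer ((largestPReducedOf p L : Subgroup H) : Set H)) : Subgroup H) : Set H)) ≤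
      largestPReducedOf p L := by
  set Y := largestPReducedOf p L with hY
  set YL := largestPReduced p ↥L with hYL
  have hYmap : Y = YL.map L.subtype := rfl
  obtain ⟨-, -, h3⟩ := largest_pReduced_structure hL (T.subtype hTL) YL
    ⟨largestPReduced_isPReducedNormal, fun V hV => le_largestPReduced V hV⟩
  conv_lhs => unfold omegaOne
  rw [Subgroup.closure_le]
  rintro x ⟨⟨⟨hxT, hxC⟩, hxCT⟩, hxp⟩
  have hxC' : x ∈ Subgroup.centralizer (Y : Set H) := hxC
  have hxCT' : x ∈ Subgroup.centralizer ((((T : Subgroup H) ⊓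
      Subgroup.centralizer (Y : Set H)) : Subgroup H) : Set H) := hxCT
  have hxL : x ∈ L := hTL hxT
  have hmemY : ∀ y' : ↥L, y' ∈ YL → (y' : H) ∈ Y := fun y' hy' =>
    Subgroup.mem_map.mpr ⟨y', hy', rfl⟩
  have hx' : (⟨x, hxL⟩ : L) ∈ YL := by
    rw [h3]
    apply Subgroup.subset_closure
    refine ⟨⟨⟨?_, ?_⟩, ?_⟩, ?_⟩
    · show (⟨x, hxL⟩ : L) ∈ ((T.subtype hTL : Sylow p ↥L) : Subgroup ↥L)
      rw [Sylow.coe_subtype, Subgroup.mem_subgroupOf]
      exact hxT
    · show (⟨x, hxL⟩ : L) ∈ Subgroup.centralizer (YL : Set ↥L)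
      rw [Subgroup.mem_centralizer_iff]
      intro y' hy'
      apply Subtype.ext
      exact Subgroup.mem_centralizer_iff.mp hxC' _ (hmemY y' hy')
    · show (⟨x, hxL⟩ : L) ∈ Subgroup.centralizer _
      rw [Subgroup.mem_centralizer_iff]
      intro t' ht'
      rw [SetLike.mem_coe, Subgroup.mem_inf] at ht'
      obtain ⟨ht1, ht2⟩ := ht'
      rw [Sylow.coe_subtype, Subgroup.mem_subgroupOf] at ht1
      have ht2' : (t' : H) ∈ Subgroup.centralizer (Y : Set H) := by
        rw [Subgroup.mem_centralizer_iff]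
        intro y hy
        obtain ⟨y', hy', rfl⟩ := Subgroup.mem_map.mp hy
        have := Subgroup.mem_centralizer_iff.mp ht2 y' hy'
        exact congrArg (fun z : L => (z : H)) this
      apply Subtype.ext
      exact Subgroup.mem_centralizer_iff.mp hxCT' _ ⟨ht1, ht2'⟩
    · apply Subtype.ext
      simpa using hxp
  exact hmemY _ hx'

theorem largestPReduced_transfer [Finite H] {p : ℕ} [Fact p.Prime] (T : Sylow p H) (L M : Subgroup H)
    (hTL : (T : Subgroup H) ≤ L) (hTM : (T : Subgroup H) ≤ M)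
    (hL : Subgroup.centralizer (pCore p ↥L : Set ↥L) ≤ pCore p ↥L)
    (hM : Subgroup.centralizer (pCore p ↥M : Set ↥M) ≤ pCore p ↥M)
    (hfac : M ⊔ Subgroup.centralizer ((largestPReducedOf p L : Subgroup H) : Set H) =
      L ⊔ Subgroup.centralizer ((largestPReducedOf p L : Subgroup H) : Set H)) :
    largestPReducedOf p (M ⊓ Subgroup.normalizer ((((T : Subgroup H) ⊓
        Subgroup.centralizer ((largestPReducedOf p L : Subgroup H) : Set H)) : Subgroup H) : Set H)) =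
      largestPReducedOf p L ∧
    L ⊔ Subgroup.centralizer ((largestPReducedOf p L : Subgroup H) : Set H) =
      (M ⊓ Subgroup.normalizer ((((T : Subgroup H) ⊓
        Subgroup.centralizer ((largestPReducedOf p L : Subgroup H) : Set H)) : Subgroup H) : Set H)) ⊔
        Subgroup.centralizer ((largestPReducedOf p L : Subgroup H) : Set H) := by
  set Y := largestPReducedOf p L with hYdef
  set C := Subgroup.centralizer (Y : Set H) with hC
  set T₀ := (T : Subgroup H) ⊓ C with hT₀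
  set Ls := M ⊓ Subgroup.normalizer (T₀ : Set H) with hLs
  have hYrel := relPReduced_largest (p := p) L
  rw [← hYdef] at hYrel
  obtain ⟨hYL, hLY, hel, hno⟩ := hYrel
  obtain ⟨-, hQT, -, -, hYΩ⟩ := largestPReduced_sylow_facts T L hTL hL
  rw [← hYdef, ← hC, ← hT₀] at hQT
  have hNC : Subgroup.normalizer (Y : Set H) ≤ Subgroup.normalizer (C : Set H) :=
    normalizer_le_normalizer_centralizer Y
  have hLCN : L ⊔ C ≤ Subgroup.normalizer (Y : Set H) := sup_centralizer_le_normalizer L Y hLY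
  have hMY : M ≤ Subgroup.normalizer (Y : Set H) := by
    refine le_trans ?_ hLCN
    rw [← hfac]; exact le_sup_left
  -- Y ≤ T₀
  have hYT₀ : Y ≤ T₀ := by
    intro y hy
    have h1 : y ∈ pCoreOf p L ⊓ Subgroup.centralizer ((pCoreOf p L : Subgroup H) : Set H) :=
      Cfsg.Agent.Lib.Helper4_Amalgam3.omegaOne_le p _ (hYΩ hy)
    refine ⟨(hQT h1.1).1, ?_⟩
    show y ∈ Subgroup.centralizer (Y : Set H)
    rw [Subgroup.mem_centralizer_iff]
    intro z hz
    exact congrArg Subtype.val (hel.1.is_comm.comm (⟨z, hz⟩ : Y) ⟨y, hy⟩)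
  have hT₀T : T₀ ≤ T := inf_le_left
  have hT₀M : T₀ ≤ M := hT₀T.trans hTM
  -- T normalizes T₀
  have hTNT₀ : (T : Subgroup H) ≤ Subgroup.normalizer (T₀ : Set H) := by
    apply le_normalizer_of_conj_mem'
    intro t ht w hw
    rw [hT₀, Subgroup.mem_inf] at hw ⊢
    exact ⟨mul_mem (mul_mem ht hw.1) (inv_mem ht),
      (Subgroup.mem_normalizer_iff.mp (hNC (hLY (hTL ht))) w).mp hw.2⟩
  have hTLs : (T : Subgroup H) ≤ Ls := le_inf hTM hTNT₀
  have hT₀Ls : T₀ ≤ Ls := hT₀T.trans hTLs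
  -- Frattini : M ≤ Ls ⊔ C
  have hMLsC : M ≤ Ls ⊔ C := by
    set K := M ⊓ C with hK
    have hMK : M ≤ Subgroup.normalizer (K : Set H) := by
      apply le_normalizer_of_conj_mem'
      intro g hg w hw
      rw [hK, Subgroup.mem_inf] at hw ⊢
      exact ⟨mul_mem (mul_mem hg hw.1) (inv_mem hg),
        (Subgroup.mem_normalizer_iff.mp (hNC (hMY hg)) w).mp hw.2⟩
    obtain ⟨P, hP⟩ := exists_sylow_eq_subgroupOf_rel M K inf_le_left hMK (T.subtype hTM)
    have hP' : (P : Subgroup ↥K) = T₀.subgroupOf K := by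
      rw [hP, Sylow.coe_subtype, Subgroup.subgroupOf_map_subtype, inf_of_le_left hTM]
      ext x
      rw [Subgroup.mem_subgroupOf, Subgroup.mem_subgroupOf, hT₀, Subgroup.mem_inf]
      constructor
      · intro h; exact ⟨h, x.2.2⟩
      · intro h; exact h.1
    intro g hg
    obtain ⟨a, haM, haN, k, hk, rfl⟩ := frattini_rel M K T₀ inf_le_left hMK
      (le_inf hT₀M inf_le_right) ⟨P, hP'⟩ g hg
    exact Subgroup.mul_mem_sup ⟨haM, haN⟩ hk.2
  have hsup : L ⊔ C = Ls ⊔ C := by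
    rw [← hfac]
    apply le_antisymm
    · exact sup_le hMLsC le_sup_right
    · exact sup_le_sup_right inf_le_left C
  refine ⟨?_, hsup⟩
  -- Y is p-reduced in Ls and in M
  have hrelLs : RelPReduced p Ls Y := relPReduced_transfer L Ls Y ⟨hYL, hLY, hel, hno⟩
    (hYT₀.trans hT₀Ls) hsup
  have hrelM : RelPReduced p M Y := relPReduced_transfer L M Y ⟨hYL, hLY, hel, hno⟩
    (hYT₀.trans hT₀M) hfac.symm
  -- O_p(M) ≤ T₀
  obtain ⟨hQML, hMQ, hQMp, hQMmax⟩ := pCoreOf_facts (p := p) M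
  obtain ⟨hQsL, hLsQ, hQsp, hQsmax⟩ := pCoreOf_facts (p := p) Ls
  have hpc : ∀ (X : Subgroup H), (T : Subgroup H) ≤ X → pCoreOf p X ≤ T := by
    intro X hTX x hx
    obtain ⟨q, hq, rfl⟩ := Subgroup.mem_map.mp hx
    have := pCore_le_sylow (T.subtype hTX) hq
    rw [Sylow.coe_subtype] at this
    exact Subgroup.mem_subgroupOf.mp this
  have hQMT₀ : pCoreOf p M ≤ T₀ := by
    refine le_inf (hpc M hTM) ?_
    apply hrelM.2.2.2 _ hQML hMQ
    intro d hd
    obtain ⟨k, hk⟩ := hQMp d hd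
    exact ⟨k, by rw [hk]; exact Subgroup.one_mem _⟩
  have hQsT₀ : pCoreOf p Ls ≤ T₀ := by
    refine le_inf (hpc Ls hTLs) ?_
    apply hrelLs.2.2.2 _ hQsL hLsQ
    intro d hd
    obtain ⟨k, hk⟩ := hQsp d hd
    exact ⟨k, by rw [hk]; exact Subgroup.one_mem _⟩
  have hT₀Qs : T₀ ≤ pCoreOf p Ls := by
    apply hQsmax T₀ hT₀Ls inf_le_right
    intro v hv
    obtain ⟨k, hk⟩ := T.isPGroup' ⟨v, hv.1⟩
    refine ⟨k, ?_⟩
    have := congrArg Subtype.val hk
    simpa using this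
  have hQs : pCoreOf p Ls = T₀ := le_antisymm hQsT₀ hT₀Qs
  -- Ls has characteristic p
  have hLschar : Subgroup.centralizer (pCore p ↥Ls : Set ↥Ls) ≤ pCore p ↥Ls := by
    rw [Cfsg.Agent.Lib.Helper4_CharP.charP_iff]
    have hMc := (Cfsg.Agent.Lib.Helper4_CharP.charP_iff p M).mp hM
    intro x hx
    rw [Subgroup.mem_inf] at hx
    have h1 : x ∈ M ⊓ Subgroup.centralizer ((pCoreOf p M : Subgroup H) : Set H) := by
      refine ⟨hx.1.1, ?_⟩
      refine Subgroup.centralizer_le ?_ hx.2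
      exact hQMT₀.trans hT₀Qs
    exact (hQMT₀.trans hT₀Qs) (hMc h1)
  apply le_antisymm
  · obtain ⟨-, -, -, -, hY'Ω⟩ := largestPReduced_sylow_facts T Ls hTLs hLschar
    refine hY'Ω.trans ?_
    rw [hQs]
    exact omegaZ_le_largestPReducedOf T L hTL hL
  · exact le_largestPReducedOf Ls Y hrelLs

end Cfsg.Agent.Lib.Helper4_PReduced8
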