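import Mathlib
import Cfsg.Agent.Lib.Helper4_SL2Cent
import Cfsg.Agent.Lib.Helper4_SL2Odd
import Cfsg.Agent.Lib.Helper4_PSL2ClassOdd

namespace Cfsg.Agent.Lib.Helper4_SL2Order4
open Matrix Cfsg.Agent.Lib.Helper4_GL2Classes0 Cfsg.Agent.Lib.Helper4_SL2Classes
  Cfsg.Agent.Lib.Helper4_SL2Card Cfsg.Agent.Lib.Helper4_SL2Cent Cfsg.Agent.Lib.Helper4_SL2Odd
  Cfsg.Agent.Lib.Helper4_PSL2ClassOdd

variable {F : Type*} [Field F]

theorem sq_eq_one_SL (h2 : (2 : F) ≠ 0) (g : Matrix.SpecialLinearGroup (Fin 2) F)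
    (hg : g * g = 1) : g = 1 ∨ g = N1 := by
  have hdet := g.det_coe
  rw [Matrix.det_fin_two] at hdet
  have hm : (g : Matrix (Fin 2) (Fin 2) F) * (g : Matrix (Fin 2) (Fin 2) F) = 1 := by
    rw [← Matrix.SpecialLinearGroup.coe_mul, hg]; rfl
  have e00 := congrFun (congrFun hm 0) 0
  have e01 := congrFun (congrFun hm 0) 1
  have e10 := congrFun (congrFun hm 1) 0
  have e11 := congrFun (congrFun hm 1) 1
  simp only [Matrix.mul_apply, Fin.sum_univ_two, Matrix.one_apply_eq, Matrix.one_apply_ne, ne_eq,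
    zero_ne_one, one_ne_zero, not_false_eq_true] at e00 e01 e10 e11
  set a := (g : Matrix (Fin 2) (Fin 2) F) 0 0
  set b := (g : Matrix (Fin 2) (Fin 2) F) 0 1
  set c := (g : Matrix (Fin 2) (Fin 2) F) 1 0
  set d := (g : Matrix (Fin 2) (Fin 2) F) 1 1
  have hs : a * (a + d) = 2 := by linear_combination e00 + hdet
  have hs0 : a + d ≠ 0 := by
    intro h
    rw [h, mul_zero] at hs
    exact h2 hs.symm
  have hb : b = 0 := by
    have : b * (a + d) = 0 := by linear_combination e01
    rcases mul_eq_zero.mp this with h | h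
    · exact h
    · exact absurd h hs0
  have hc : c = 0 := by
    have : c * (a + d) = 0 := by linear_combination e10
    rcases mul_eq_zero.mp this with h | h
    · exact h
    · exact absurd h hs0
  have had : a = d := by
    have h1 : a * a = 1 := by rw [hb] at e00; linear_combination e00
    have h3 : a * d = 1 := by rw [hb] at hdet; linear_combination hdet
    have ha0 : a ≠ 0 := left_ne_zero_of_mul_eq_one h1
    exact mul_left_cancel₀ ha0 (h1.trans h3.symm)
  have ha : a * a = 1 := by rw [hb] at e00; linear_combination e00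
  rcases mul_self_eq_one_iff.mp ha with h | h
  · left
    apply Subtype.ext
    rw [Matrix.eta_fin_two (g : Matrix (Fin 2) (Fin 2) F)]
    show !![a, b; c, d] = _
    rw [hb, hc, ← had, h]
    simp [Matrix.one_fin_two]
  · right
    apply Subtype.ext
    rw [N1_val, Matrix.eta_fin_two (g : Matrix (Fin 2) (Fin 2) F)]
    show !![a, b; c, d] = _
    rw [hb, hc, ← had, h]
    ext i j; fin_cases i <;> fin_cases j <;> simp

theorem trace_zero_of_sq (h2 : (2 : F) ≠ 0) (g : Matrix.SpecialLinearGroup (Fin 2) F)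
    (hg : g * g = N1) :
    (g : Matrix (Fin 2) (Fin 2) F).trace = 0 ∧ NS (g : Matrix (Fin 2) (Fin 2) F) := by
  have hdet := g.det_coe
  rw [Matrix.det_fin_two] at hdet
  have hm : (g : Matrix (Fin 2) (Fin 2) F) * (g : Matrix (Fin 2) (Fin 2) F) = -1 := by
    rw [← Matrix.SpecialLinearGroup.coe_mul, hg, N1_val]
  have e00 := congrFun (congrFun hm 0) 0
  have e11 := congrFun (congrFun hm 1) 1
  simp only [Matrix.mul_apply, Fin.sum_univ_two, Matrix.neg_apply, Matrix.one_apply_eq] at e00 e11
  set a := (g : Matrix (Fin 2) (Fin 2) F) 0 0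
  set b := (g : Matrix (Fin 2) (Fin 2) F) 0 1
  set c := (g : Matrix (Fin 2) (Fin 2) F) 1 0
  set d := (g : Matrix (Fin 2) (Fin 2) F) 1 1
  have h1 : a * (a + d) = 0 := by linear_combination e00 + hdet
  have h3 : d * (a + d) = 0 := by linear_combination e11 + hdet
  have hs : a + d = 0 := by
    have : (a + d) * (a + d) = 0 := by linear_combination h1 + h3
    exact mul_self_eq_zero.mp this
  refine ⟨by rw [Matrix.trace_fin_two]; exact hs, ?_⟩
  by_contra hns
  unfold NS at hns
  push Not at hns
  obtain ⟨hb, hc, had⟩ := hns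
  have ha0 : a = 0 := by
    have : 2 * a = 0 := by
      have had' : a = d := had
      linear_combination hs + had'
    rcases mul_eq_zero.mp this with h | h
    · exact absurd h h2
    · exact h
  have hb' : b = 0 := hb
  rw [ha0, hb'] at hdet
  simp at hdet

variable [Fintype F]

theorem conj_C0_of_sq (hodd : Odd (Fintype.card F)) (g : Matrix.SpecialLinearGroup (Fin 2) F)
    (hg : g * g = N1) : IsConj g (C' (0 : F)) := by
  have h2 := two_ne_zero' hodd
  obtain ⟨ht, hns⟩ := trace_zero_of_sq h2 g hg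
  have h4 : (4 : F) ≠ 0 := by
    have : (4 : F) = 2 * 2 := by norm_num
    rw [this]; exact mul_ne_zero h2 h2
  have := conj_C'_odd hodd g hns (by rw [ht]; simpa using h4.symm)
  rw [ht] at this
  exact this

/-- a subgroup of order 4 is generated by a square root of −1 -/
theorem order_four_gen (hodd : Odd (Fintype.card F))
    (A : Subgroup (Matrix.SpecialLinearGroup (Fin 2) F)) (hA : Nat.card A = 4) :
    ∃ g : Matrix.SpecialLinearGroup (Fin 2) F, g * g = N1 ∧ A = Subgroup.zpowers g := by
  classical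
  have h2 := two_ne_zero' hodd
  -- an element outside {1, N1}
  obtain ⟨a, haA, ha1, haN⟩ : ∃ a ∈ A, a ≠ 1 ∧ a ≠ N1 := by
    by_contra hcon
    push Not at hcon
    have hsub : (A : Set (Matrix.SpecialLinearGroup (Fin 2) F)) ⊆
        (({1, N1} : Finset (Matrix.SpecialLinearGroup (Fin 2) F)) : Set _) := by
      intro a ha
      by_cases h1 : a = 1
      · simp [h1]
      · have := hcon a ha h1
        simp [this]
    have hle : Nat.card A ≤ 2 := by
      rw [← SetLike.coe_sort_coe, Nat.card_coe_set_eq]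
      calc (A : Set (Matrix.SpecialLinearGroup (Fin 2) F)).ncard
          ≤ (({1, N1} : Finset (Matrix.SpecialLinearGroup (Fin 2) F)) : Set _).ncard :=
            Set.ncard_le_ncard hsub (Finset.finite_toSet _)
        _ = ({1, N1} : Finset (Matrix.SpecialLinearGroup (Fin 2) F)).card := Set.ncard_coe_finset _
        _ ≤ 2 := Finset.card_le_two
    omega
  have ha4 : a ^ 4 = 1 := by
    have h := pow_card_eq_one' (G := A) (x := ⟨a, haA⟩)
    rw [hA] at h
    have := congrArg (fun x : A => (x : Matrix.SpecialLinearGroup (Fin 2) F)) h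
    simpa using this
  have hsq : a * a = N1 := by
    have h : (a * a) * (a * a) = 1 := by
      rw [← ha4]; simp only [pow_succ, pow_zero, one_mul, mul_assoc]
    rcases sq_eq_one_SL h2 (a * a) h with h' | h'
    · exfalso
      rcases sq_eq_one_SL h2 a h' with h'' | h''
      · exact ha1 h''
      · exact haN h''
    · exact h'
  refine ⟨a, hsq, ?_⟩
  have hord : orderOf a = 4 := by
    have hdvd : orderOf a ∣ 4 := orderOf_dvd_of_pow_eq_one ha4
    have h22 : (4 : ℕ) = 2 ^ 2 := by norm_num
    rw [h22, Nat.dvd_prime_pow Nat.prime_two] at hdvd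
    obtain ⟨k, hk, hk2⟩ := hdvd
    interval_cases k
    · exfalso
      rw [pow_zero, orderOf_eq_one_iff] at hk2
      exact ha1 hk2
    · exfalso
      have : a ^ 2 = 1 := by
        have := pow_orderOf_eq_one a
        rw [hk2] at this
        simpa using this
      rw [pow_two, hsq] at this
      exact N1_ne_one h2 this
    · rw [hk2]; norm_num
  symm
  apply Subgroup.eq_of_le_of_card_ge
  · rw [Subgroup.zpowers_le]; exact haA
  · rw [Nat.card_zpowers, hord, hA]

omit [Fintype F] in
theorem N1_mul_cancel (g : Matrix.SpecialLinearGroup (Fin 2) F) : N1 * (N1 * g) = g := by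
  rw [← mul_assoc, N1_mul_N1, one_mul]

omit [Fintype F] in
theorem mem_zp (h2 : (2 : F) ≠ 0) (a : Matrix.SpecialLinearGroup (Fin 2) F) (ha : a * a = N1)
    (h : Matrix.SpecialLinearGroup (Fin 2) F) :
    h ∈ Subgroup.zpowers a ↔ h = 1 ∨ h = a ∨ h = N1 ∨ h = N1 * a := by
  constructor
  · rintro ⟨k, rfl⟩
    have ha4 : a ^ (4 : ℤ) = 1 := by
      have : a ^ (4 : ℤ) = (a * a) * (a * a) := by
        rw [show (4 : ℤ) = 2 + 2 by norm_num, _root_.zpow_add, zpow_two]
      rw [this, ha, N1_mul_N1]
    have hk : a ^ k = a ^ (k % 4) := by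
      conv_lhs => rw [← Int.emod_add_mul_ediv k 4, _root_.zpow_add, _root_.zpow_mul, ha4, _root_.one_zpow, mul_one]
    have h0 := Int.emod_nonneg k (by norm_num : (4 : ℤ) ≠ 0)
    have h4 := Int.emod_lt_of_pos k (by norm_num : (0 : ℤ) < 4)
    show a ^ k = 1 ∨ a ^ k = a ∨ a ^ k = N1 ∨ a ^ k = N1 * a
    rw [hk]
    generalize k % 4 = r at h0 h4
    interval_cases r
    · left; exact zpow_zero a
    · right; left; exact zpow_one a
    · right; right; left; rw [zpow_two, ha]
    · right; right; right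
      rw [show (3 : ℤ) = 2 + 1 by norm_num, _root_.zpow_add, zpow_two, zpow_one, ha]
  · intro hh
    rcases hh with hh | hh | hh | hh
    · rw [hh]; exact Subgroup.one_mem _
    · rw [hh]; exact Subgroup.mem_zpowers a
    · rw [hh, ← ha]; exact Subgroup.mul_mem _ (Subgroup.mem_zpowers a) (Subgroup.mem_zpowers a)
    · rw [hh, ← ha]
      exact Subgroup.mul_mem _ (Subgroup.mul_mem _ (Subgroup.mem_zpowers a) (Subgroup.mem_zpowers a))
        (Subgroup.mem_zpowers a)

omit [Fintype F] in
theorem mem_normalizer_zp (h2 : (2 : F) ≠ 0) (a : Matrix.SpecialLinearGroup (Fin 2) F)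
    (ha : a * a = N1) (n : Matrix.SpecialLinearGroup (Fin 2) F) :
    n ∈ Subgroup.normalizer ((Subgroup.zpowers a : Subgroup (Matrix.SpecialLinearGroup (Fin 2) F)) :
      Set (Matrix.SpecialLinearGroup (Fin 2) F)) ↔ n * a * n⁻¹ = a ∨ n * a * n⁻¹ = N1 * a := by
  have ha1 : a ≠ 1 := by
    rintro rfl
    rw [mul_one] at ha
    exact N1_ne_one h2 ha.symm
  have haN : a ≠ N1 := by
    rintro rfl
    rw [N1_mul_N1] at ha
    exact N1_ne_one h2 ha.symm
  have hcN : ∀ n : Matrix.SpecialLinearGroup (Fin 2) F, n * N1 * n⁻¹ = N1 := by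
    intro n
    rw [← N1_comm, mul_assoc, mul_inv_cancel, mul_one]
  rw [Subgroup.mem_normalizer_iff]
  constructor
  · intro h
    have h1 := (h a).mp (Subgroup.mem_zpowers a)
    rw [mem_zp h2 a ha] at h1
    rcases h1 with h1 | h1 | h1 | h1
    · exfalso
      apply ha1
      have : a = n⁻¹ * (n * a * n⁻¹) * n := by group
      rw [this, h1]; group
    · left; exact h1
    · exfalso
      apply haN
      have : a = n⁻¹ * (n * a * n⁻¹) * n := by group
      rw [this, h1]
      have := hcN n⁻¹
      rw [inv_inv] at this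
      exact this
    · right; exact h1
  · intro hx h
    have key : ∀ (m x : Matrix.SpecialLinearGroup (Fin 2) F), (m * a * m⁻¹ = x) → (x = a ∨ x = N1 * a) →
        ∀ h : Matrix.SpecialLinearGroup (Fin 2) F, h ∈ Subgroup.zpowers a → m * h * m⁻¹ ∈ Subgroup.zpowers a := by
      intro m x hmx hx h hh
      rw [mem_zp h2 a ha] at hh ⊢
      have hNa : m * (N1 * a) * m⁻¹ = N1 * x := by
        rw [← hmx, ← mul_assoc, ← N1_comm m, mul_assoc, mul_assoc, mul_assoc]
      rcases hh with rfl | rfl | rfl | rfl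
      · left; group
      · rw [hmx]
        rcases hx with rfl | rfl
        · right; left; rfl
        · right; right; right; rfl
      · right; right; left; exact hcN m
      · rw [hNa]
        rcases hx with rfl | rfl
        · right; right; right; rfl
        · right; left; exact N1_mul_cancel a
    have hx' : n * a * n⁻¹ = a ∨ n * a * n⁻¹ = N1 * a := hx
    have hinv : n⁻¹ * a * n⁻¹⁻¹ = a ∨ n⁻¹ * a * n⁻¹⁻¹ = N1 * a := by
      rw [inv_inv]
      rcases hx with hx | hx
      · left
        calc n⁻¹ * a * n = n⁻¹ * (n * a * n⁻¹) * n := by rw [hx]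
          _ = a := by group
      · right
        have : a = N1 * (n * a * n⁻¹) := by rw [hx, N1_mul_cancel]
        calc n⁻¹ * a * n = n⁻¹ * (N1 * (n * a * n⁻¹)) * n := by rw [← this]
          _ = N1 * a := by
            rw [← mul_assoc, ← N1_comm n⁻¹]
            group
    constructor
    · intro hh
      exact key n _ rfl hx' h hh
    · intro hh
      have := key n⁻¹ _ rfl hinv _ hh
      have e : n⁻¹ * (n * h * n⁻¹) * n⁻¹⁻¹ = h := by group
      rw [e] at this
      exact this

theorem card_normalizer_zp (hodd : Odd (Fintype.card F)) (a : Matrix.SpecialLinearGroup (Fin 2) F)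
    (ha : a * a = N1) :
    Nat.card (Subgroup.normalizer ((Subgroup.zpowers a : Subgroup (Matrix.SpecialLinearGroup (Fin 2) F)) :
      Set (Matrix.SpecialLinearGroup (Fin 2) F))) =
      2 * Nat.card (Subgroup.centralizer ({a} : Set (Matrix.SpecialLinearGroup (Fin 2) F))) := by
  have h2 := two_ne_zero' hodd
  set N := Subgroup.normalizer ((Subgroup.zpowers a : Subgroup (Matrix.SpecialLinearGroup (Fin 2) F)) :
      Set (Matrix.SpecialLinearGroup (Fin 2) F)) with hN
  set C := Subgroup.centralizer ({a} : Set (Matrix.SpecialLinearGroup (Fin 2) F)) with hC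
  have hne : N1 * a ≠ a := N1_mul_ne h2 a
  have hCN : C ≤ N := by
    intro c hc
    rw [hC, mem_centralizer_iff_conj] at hc
    rw [hN, mem_normalizer_zp h2 a ha]
    left; exact hc
  have ha' : (N1 * a) * (N1 * a) = N1 := by
    rw [mul_assoc, ← mul_assoc a, ← N1_comm a, mul_assoc, ← mul_assoc, N1_mul_N1, one_mul, ha]
  have hconj : IsConj a (N1 * a) :=
    (conj_C0_of_sq hodd a ha).trans (conj_C0_of_sq hodd _ ha').symm
  obtain ⟨w, hw⟩ := isConj_iff.mp hconj
  have hwN : w ∈ N := by
    rw [hN, mem_normalizer_zp h2 a ha]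
    right; exact hw
  have hidx : (C.subgroupOf N).index = 2 := by
    rw [Subgroup.index_eq_two_iff]
    refine ⟨⟨w, hwN⟩, ?_⟩
    rintro ⟨b, hb⟩
    have hb' := hb
    rw [hN, mem_normalizer_zp h2 a ha] at hb'
    have hbw : (b * w) * a * (b * w)⁻¹ = N1 * (b * a * b⁻¹) := by
      calc (b * w) * a * (b * w)⁻¹ = b * (w * a * w⁻¹) * b⁻¹ := by group
        _ = b * (N1 * a) * b⁻¹ := by rw [hw]
        _ = N1 * (b * a * b⁻¹) := by
          rw [← mul_assoc, ← N1_comm b]
          group
    simp only [Subgroup.mem_subgroupOf, Subgroup.coe_mul, hC, mem_centralizer_iff_conj]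
    rcases hb' with h | h
    · right
      refine ⟨h, ?_⟩
      rw [hbw, h]
      exact hne
    · left
      refine ⟨?_, ?_⟩
      · rw [hbw, h, N1_mul_cancel]
      · rw [h]; exact hne
  have h1 := Subgroup.card_mul_index (C.subgroupOf N)
  rw [hidx, Nat.card_congr (Subgroup.subgroupOfEquivOfLe hCN).toEquiv] at h1
  rw [← h1]; ring

theorem card_centralizer_sq (hodd : Odd (Fintype.card F)) (a : Matrix.SpecialLinearGroup (Fin 2) F)
    (ha : a * a = N1) :
    (Fintype.card F % 4 = 1 →
      Nat.card (Subgroup.centralizer ({a} : Set (Matrix.SpecialLinearGroup (Fin 2) F))) =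
        Fintype.card F - 1) ∧
    (Fintype.card F % 4 = 3 →
      Nat.card (Subgroup.centralizer ({a} : Set (Matrix.SpecialLinearGroup (Fin 2) F))) =
        Fintype.card F + 1) := by
  have hc := conj_C0_of_sq hodd a ha
  have hidx := index_conj a (C' (0 : F)) hc
  have hcard := Subgroup.card_mul_index
    (Subgroup.centralizer ({a} : Set (Matrix.SpecialLinearGroup (Fin 2) F)))
  rw [card_SL2] at hcard
  have hq : 2 ≤ Fintype.card F := Fintype.one_lt_card
  rw [sq_sub_one _ (by omega)] at hcard
  constructor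
  · intro h1
    rw [hidx, index_C'_zero_one hodd h1] at hcard
    have : Nat.card (Subgroup.centralizer ({a} : Set (Matrix.SpecialLinearGroup (Fin 2) F))) *
        (Fintype.card F * (Fintype.card F + 1)) =
        (Fintype.card F - 1) * (Fintype.card F * (Fintype.card F + 1)) := by
      rw [hcard]; ring
    exact Nat.eq_of_mul_eq_mul_right (by positivity) this
  · intro h3
    rw [hidx, index_C'_zero_three hodd h3] at hcard
    have : Nat.card (Subgroup.centralizer ({a} : Set (Matrix.SpecialLinearGroup (Fin 2) F))) *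
        (Fintype.card F * (Fintype.card F - 1)) =
        (Fintype.card F + 1) * (Fintype.card F * (Fintype.card F - 1)) := by
      rw [hcard]; ring
    exact Nat.eq_of_mul_eq_mul_right (Nat.mul_pos (by omega) (by omega)) this

theorem psl_invol_lift (hodd : Odd (Fintype.card F))
    (x : Matrix.ProjectiveSpecialLinearGroup (Fin 2) F) (hx : orderOf x = 2) :
    ∃ g : Matrix.SpecialLinearGroup (Fin 2) F, x = QuotientGroup.mk g ∧ g * g = N1 := by
  have h2 := two_ne_zero' hodd
  obtain ⟨g, rfl⟩ := QuotientGroup.mk_surjective x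
  refine ⟨g, rfl, ?_⟩
  have hp : Fact (Nat.Prime 2) := ⟨Nat.prime_two⟩
  rw [orderOf_eq_prime_iff] at hx
  obtain ⟨hx2, hx1⟩ := hx
  rw [pow_two, ← QuotientGroup.mk_mul, QuotientGroup.eq_one_iff, mem_center_iff'] at hx2
  rcases hx2 with h | h
  · exfalso
    apply hx1
    rw [QuotientGroup.eq_one_iff, mem_center_iff']
    exact sq_eq_one_SL h2 g h
  · exact h

theorem S0809_main {q : ℕ} (hF : Fintype.card F = q) (hodd : Odd q) (A : Subgroup (Matrix.SpecialLinearGroup (Fin 2) F)) (hA : Nat.card A = 4) : (∀ B : Subgroup (Matrix.SpecialLinearGroup (Fin 2) F), Nat.card B = 4 → ∃ g : Matrix.SpecialLinearGroup (Fin 2) F, B = A.map (MulAut.conj g).toMonoidHom) ∧ (q % 4 = 1 → Nat.card ↥(Subgroup.normalizer (A : Set (Matrix.SpecialLinearGroup (Fin 2) F))) = 2 * (q - 1)) ∧ (q % 4 = 3 → Nat.card ↥(Subgroup.normalizer (A : Set (Matrix.SpecialLinearGroup (Fin 2) F))) = 2 * (q + 1)) ∧ (∀ x y : Matrix.ProjectiveSpecialLinearGroup (Fin 2) F, orderOf x = 2 → orderOf y = 2 → IsConj x y) := by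
  subst hF
  obtain ⟨a, ha, rfl⟩ := order_four_gen hodd A hA
  refine ⟨?_, ?_, ?_, ?_⟩
  · intro B hB
    obtain ⟨b, hb, rfl⟩ := order_four_gen hodd B hB
    have hc : IsConj a b := (conj_C0_of_sq hodd a ha).trans (conj_C0_of_sq hodd b hb).symm
    obtain ⟨c, hc⟩ := isConj_iff.mp hc
    refine ⟨c, ?_⟩
    rw [MonoidHom.map_zpowers]
    congr 1
    rw [← hc]
    rfl
  · intro h1
    rw [card_normalizer_zp hodd a ha, (card_centralizer_sq hodd a ha).1 h1]
  · intro h3
    rw [card_normalizer_zp hodd a ha, (card_centralizer_sq hodd a ha).2 h3]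
  · intro x y hx hy
    obtain ⟨g, rfl, hg⟩ := psl_invol_lift hodd x hx
    obtain ⟨h, rfl, hh⟩ := psl_invol_lift hodd y hy
    have hc : IsConj g h := (conj_C0_of_sq hodd g hg).trans (conj_C0_of_sq hodd h hh).symm
    exact MonoidHom.map_isConj (QuotientGroup.mk' _) hc

end Cfsg.Agent.Lib.Helper4_SL2Order4
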