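import Mathlib

namespace Cfsg.Agent.Lib.Helper4_RegUnip

variable {F : Type*} [Field F]

theorem mulVecLin_pow' {n : ℕ} (N : Matrix (Fin n) (Fin n) F) (k : ℕ) :
    (N ^ k).mulVecLin = (N.mulVecLin) ^ k := by
  induction k with
  | zero => simp [Module.End.one_eq_id]
  | succ k ih => rw [pow_succ, pow_succ, Matrix.mulVecLin_mul, ih]; rfl

theorem finrank_ker_pow_le {V : Type*} [AddCommGroup V] [Module F V] [FiniteDimensional F V]
    (f : Module.End F V) (hf : Module.finrank F (LinearMap.ker f) ≤ 1) (k : ℕ) :
    Module.finrank F (LinearMap.ker (f ^ k)) ≤ k := by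
  induction k with
  | zero =>
    rw [pow_zero, Module.End.one_eq_id, LinearMap.ker_id]
    simp
  | succ k ih =>
    have hmem : ∀ x ∈ LinearMap.ker (f ^ (k + 1)), f x ∈ LinearMap.ker (f ^ k) := by
      intro x hx
      rw [LinearMap.mem_ker] at hx ⊢
      rw [pow_succ] at hx
      exact hx
    set φ : ↥(LinearMap.ker (f ^ (k + 1))) →ₗ[F] ↥(LinearMap.ker (f ^ k)) := f.restrict hmem with hφ
    have h1 := LinearMap.finrank_range_add_finrank_ker φ
    have h2 : Module.finrank F (LinearMap.range φ) ≤ Module.finrank F (LinearMap.ker (f ^ k)) :=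
      Submodule.finrank_le _
    have h3 : Module.finrank F (LinearMap.ker φ) ≤ Module.finrank F (LinearMap.ker f) := by
      rw [← Submodule.finrank_map_subtype_eq]
      apply Submodule.finrank_mono
      rintro _ ⟨x, hx, rfl⟩
      rw [SetLike.mem_coe, LinearMap.mem_ker] at hx
      rw [LinearMap.mem_ker]
      have := congrArg Subtype.val hx
      simpa [hφ] using this
    omega

theorem main {n : ℕ} (N : Matrix (Fin n) (Fin n) F) (hnil : N ^ n = 0) (hreg : N.rank = n - 1)
    (W : Submodule F (Fin n → F)) (hW : ∀ v ∈ W, N.mulVec v ∈ W) :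
    W = LinearMap.ker (Matrix.mulVecLin (N ^ Module.finrank F W)) := by
  set f : Module.End F (Fin n → F) := N.mulVecLin with hf
  have hker1 : Module.finrank F (LinearMap.ker f) ≤ 1 := by
    have h1 := LinearMap.finrank_range_add_finrank_ker f
    have h2 : Module.finrank F (LinearMap.range f) = n - 1 := hreg
    rw [Module.finrank_fin_fun] at h1
    omega
  rw [mulVecLin_pow']
  set d := Module.finrank F W with hd
  have hdn : d ≤ n := by
    have := Submodule.finrank_le W
    rwa [Module.finrank_fin_fun] at this
  have hW' : ∀ v ∈ W, f v ∈ W := hW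
  apply Submodule.eq_of_le_of_finrank_le
  · intro x hx
    set g : Module.End F W := f.restrict hW' with hg
    have h1 : LinearMap.ker (g ^ n) = LinearMap.ker (g ^ d) :=
      Module.End.ker_pow_eq_ker_pow_finrank_of_le hdn
    have h2 : (⟨x, hx⟩ : W) ∈ LinearMap.ker (g ^ n) := by
      rw [LinearMap.mem_ker, hg, Module.End.pow_restrict]
      apply Subtype.ext
      rw [LinearMap.restrict_apply]
      show (f ^ n) x = 0
      rw [hf, ← mulVecLin_pow', hnil]
      simp
    rw [h1, LinearMap.mem_ker, hg, Module.End.pow_restrict] at h2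
    have := congrArg Subtype.val h2
    rw [LinearMap.restrict_apply] at this
    exact this
  · rw [← hd]
    exact finrank_ker_pow_le f hker1 d

end Cfsg.Agent.Lib.Helper4_RegUnip
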