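import Mathlib
import Cfsg.Agent.Lib.Helper4_RegUnip

namespace Cfsg.Agent.Lib.Helper4_RegCent0
open Cfsg.Agent.Lib.Helper4_RegUnip

variable {F : Type*} [Field F]

theorem exists_cyclic {k : ℕ} (N : Matrix (Fin (k+1)) (Fin (k+1)) F) (hreg : N.rank = k) :
    ∃ e : Fin (k+1) → F, (N ^ k).mulVec e ≠ 0 := by
  by_contra h
  push Not at h
  set f : Module.End F (Fin (k+1) → F) := N.mulVecLin with hf
  have hker1 : Module.finrank F (LinearMap.ker f) ≤ 1 := by
    have h1 := LinearMap.finrank_range_add_finrank_ker f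
    have h2 : Module.finrank F (LinearMap.range f) = k := hreg
    rw [Module.finrank_fin_fun] at h1
    omega
  have h3 := finrank_ker_pow_le f hker1 k
  have h4 : LinearMap.ker (f ^ k) = ⊤ := by
    rw [eq_top_iff]
    intro v _
    rw [LinearMap.mem_ker, hf, ← mulVecLin_pow', Matrix.mulVecLin_apply]
    exact h v
  rw [h4, finrank_top, Module.finrank_fin_fun] at h3
  omega

/-- the polynomial map. -/
def P {k : ℕ} (N : Matrix (Fin (k+1)) (Fin (k+1)) F) (a : Fin (k+1) → F) :
    Matrix (Fin (k+1)) (Fin (k+1)) F := ∑ i : Fin (k+1), a i • N ^ (i : ℕ)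

theorem P_commute {k : ℕ} (N : Matrix (Fin (k+1)) (Fin (k+1)) F) (a : Fin (k+1) → F)
    (X : Matrix (Fin (k+1)) (Fin (k+1)) F) (hX : Commute X N) : Commute X (P N a) := by
  unfold P
  apply Commute.sum_right
  intro i _
  exact (hX.pow_right _).smul_right _

theorem P_sub {k : ℕ} (N : Matrix (Fin (k+1)) (Fin (k+1)) F) (a b : Fin (k+1) → F) :
    P N (a - b) = P N a - P N b := by
  unfold P
  rw [← Finset.sum_sub_distrib]
  apply Finset.sum_congr rfl
  intro i _
  rw [Pi.sub_apply, sub_smul]

theorem indep {k : ℕ} (N : Matrix (Fin (k+1)) (Fin (k+1)) F) (hnil : N ^ (k+1) = 0)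
    (e : Fin (k+1) → F) (he : (N ^ k).mulVec e ≠ 0) (a : Fin (k+1) → F)
    (ha : (P N a).mulVec e = 0) : a = 0 := by
  by_contra hne
  have hex : ∃ i : Fin (k+1), a i ≠ 0 := by
    by_contra h
    push Not at h
    exact hne (funext h)
  classical
  -- minimal index
  let S : Finset (Fin (k+1)) := Finset.univ.filter (fun i => a i ≠ 0)
  have hS : S.Nonempty := by
    obtain ⟨i, hi⟩ := hex
    exact ⟨i, by simp [S, hi]⟩
  set j := S.min' hS with hj
  have hjS : j ∈ S := Finset.min'_mem S hS
  have haj : a j ≠ 0 := by simpa [S] using hjS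
  have hmin : ∀ i : Fin (k+1), i < j → a i = 0 := by
    intro i hi
    by_contra h
    have : i ∈ S := by simp [S, h]
    have := Finset.min'_le S i this
    exact absurd (lt_of_lt_of_le hi this) (lt_irrefl _)
  have h1 : (N ^ (k - (j : ℕ)) * P N a).mulVec e = 0 := by
    rw [← Matrix.mulVec_mulVec, ha, Matrix.mulVec_zero]
  have h2 : N ^ (k - (j : ℕ)) * P N a = a j • N ^ k := by
    unfold P
    rw [Finset.mul_sum, Finset.sum_eq_single j]
    · rw [Matrix.mul_smul, ← pow_add]
      congr 2
      have := j.2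
      omega
    · intro i _ hij
      rcases lt_or_gt_of_ne hij with h | h
      · rw [hmin i h, zero_smul, mul_zero]
      · rw [Matrix.mul_smul, ← pow_add]
        have h3 : k + 1 ≤ k - (j : ℕ) + (i : ℕ) := by
          have : (j : ℕ) < (i : ℕ) := h
          have := j.2
          omega
        obtain ⟨t, ht⟩ := Nat.exists_eq_add_of_le h3
        rw [ht, pow_add, hnil, zero_mul, smul_zero]
    · intro h; exact absurd (Finset.mem_univ j) h
  rw [h2, Matrix.smul_mulVec] at h1
  rcases smul_eq_zero.mp h1 with h | h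
  · exact haj h
  · exact he h

end Cfsg.Agent.Lib.Helper4_RegCent0
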