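import Mathlib
import Cfsg.Agent.Lib.Helper4_RegCent0

namespace Cfsg.Agent.Lib.Helper4_RegCent1
open Cfsg.Agent.Lib.Helper4_RegUnip Cfsg.Agent.Lib.Helper4_RegCent0

variable {F : Type*} [Field F]

theorem P_add {k : ℕ} (N : Matrix (Fin (k+1)) (Fin (k+1)) F) (a b : Fin (k+1) → F) :
    P N (a + b) = P N a + P N b := by
  unfold P
  rw [← Finset.sum_add_distrib]
  apply Finset.sum_congr rfl
  intro i _
  rw [Pi.add_apply, add_smul]

theorem P_smul {k : ℕ} (N : Matrix (Fin (k+1)) (Fin (k+1)) F) (c : F) (a : Fin (k+1) → F) :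
    P N (c • a) = c • P N a := by
  unfold P
  rw [Finset.smul_sum]
  apply Finset.sum_congr rfl
  intro i _
  rw [Pi.smul_apply, smul_eq_mul, mul_smul]

/-- evaluation at the cyclic vector. -/
def T {k : ℕ} (N : Matrix (Fin (k+1)) (Fin (k+1)) F) (e : Fin (k+1) → F) :
    (Fin (k+1) → F) →ₗ[F] (Fin (k+1) → F) where
  toFun a := (P N a).mulVec e
  map_add' a b := by rw [P_add, Matrix.add_mulVec]
  map_smul' c a := by rw [P_smul, Matrix.smul_mulVec]; rfl

theorem T_bijective {k : ℕ} (N : Matrix (Fin (k+1)) (Fin (k+1)) F) (hnil : N ^ (k+1) = 0)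
    (e : Fin (k+1) → F) (he : (N ^ k).mulVec e ≠ 0) : Function.Bijective (T N e) := by
  have hinj : Function.Injective (T N e) := by
    rw [injective_iff_map_eq_zero]
    intro a ha
    exact indep N hnil e he a ha
  exact ⟨hinj, LinearMap.injective_iff_surjective.mp hinj⟩

theorem commutant_eq {k : ℕ} (N : Matrix (Fin (k+1)) (Fin (k+1)) F) (hnil : N ^ (k+1) = 0)
    (e : Fin (k+1) → F) (he : (N ^ k).mulVec e ≠ 0)
    (X : Matrix (Fin (k+1)) (Fin (k+1)) F) (hX : Commute X N) : ∃ a, X = P N a := by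
  obtain ⟨hinj, hsurj⟩ := T_bijective N hnil e he
  obtain ⟨a, ha⟩ := hsurj (X.mulVec e)
  refine ⟨a, ?_⟩
  have hY : Commute (X - P N a) N :=
    Commute.sub_left hX ((P_commute N a N (Commute.refl N)).symm)
  have hYe : (X - P N a).mulVec e = 0 := by
    rw [Matrix.sub_mulVec, sub_eq_zero]
    exact ha.symm
  have hall : ∀ v, (X - P N a).mulVec v = 0 := by
    intro v
    obtain ⟨b, rfl⟩ := hsurj v
    show (X - P N a).mulVec ((P N b).mulVec e) = 0
    rw [Matrix.mulVec_mulVec, (P_commute N b _ hY).eq, ← Matrix.mulVec_mulVec, hYe,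
      Matrix.mulVec_zero]
  have : X - P N a = 0 := by
    apply Matrix.toLin'.injective
    apply LinearMap.ext
    intro v
    rw [Matrix.toLin'_apply, hall v]
    simp
  exact sub_eq_zero.mp this

theorem P_injective {k : ℕ} (N : Matrix (Fin (k+1)) (Fin (k+1)) F) (hnil : N ^ (k+1) = 0)
    (e : Fin (k+1) → F) (he : (N ^ k).mulVec e ≠ 0) : Function.Injective (P N) := by
  intro a b hab
  apply (T_bijective N hnil e he).1
  show (P N a).mulVec e = (P N b).mulVec e
  rw [hab]

theorem P_isUnit_iff {k : ℕ} (N : Matrix (Fin (k+1)) (Fin (k+1)) F) (hnil : N ^ (k+1) = 0)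
    (a : Fin (k+1) → F) : IsUnit (P N a) ↔ a 0 ≠ 0 := by
  classical
  have hsplit : P N a = a 0 • 1 + ∑ i ∈ Finset.univ.erase (0 : Fin (k+1)), a i • N ^ (i : ℕ) := by
    unfold P
    rw [← Finset.add_sum_erase _ _ (Finset.mem_univ (0 : Fin (k+1)))]
    simp
  have hRnil : IsNilpotent (∑ i ∈ Finset.univ.erase (0 : Fin (k+1)), a i • N ^ (i : ℕ)) := by
    have hfac : ∑ i ∈ Finset.univ.erase (0 : Fin (k+1)), a i • N ^ (i : ℕ) =
        N * ∑ i ∈ Finset.univ.erase (0 : Fin (k+1)), a i • N ^ ((i : ℕ) - 1) := by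
      rw [Finset.mul_sum]
      apply Finset.sum_congr rfl
      intro i hi
      have hi0 : i ≠ 0 := (Finset.mem_erase.mp hi).1
      have hi1 : (i : ℕ) ≠ 0 := fun h => hi0 (Fin.ext h)
      rw [Matrix.mul_smul, ← pow_succ']
      congr 2
      omega
    rw [hfac]
    have hc : Commute N (∑ i ∈ Finset.univ.erase (0 : Fin (k+1)), a i • N ^ ((i : ℕ) - 1)) := by
      apply Commute.sum_right
      intro i _
      exact ((Commute.refl N).pow_right _).smul_right _
    refine ⟨k + 1, ?_⟩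
    rw [hc.mul_pow, hnil, zero_mul]
  constructor
  · intro hu h0
    rw [hsplit, h0, zero_smul, zero_add] at hu
    exact hRnil.not_isUnit hu
  · intro h0
    rw [hsplit]
    apply hRnil.isUnit_add_left_of_commute
    · rw [← Algebra.algebraMap_eq_smul_one]
      exact (IsUnit.mk0 _ h0).map _
    · exact (Commute.one_right _).smul_right _

end Cfsg.Agent.Lib.Helper4_RegCent1
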