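import Mathlib
import Cfsg.Agent.Lib.Helper4_RegCent1

namespace Cfsg.Agent.Lib.Helper4_RegClass0
open Matrix Cfsg.Agent.Lib.Helper4_RegUnip Cfsg.Agent.Lib.Helper4_RegCent0 Cfsg.Agent.Lib.Helper4_RegCent1

variable {F : Type*} [Field F]

/-- the superdiagonal nilpotent matrix. -/
def N0 (n : ℕ) (F : Type*) [Field F] : Matrix (Fin n) (Fin n) F :=
  Matrix.of (fun i j : Fin n => if (j : ℕ) = (i : ℕ) + 1 then 1 else 0)

theorem N0_mulVec {n : ℕ} (v : Fin n → F) (i : Fin n) :
    ((N0 n F).mulVec v) i = if h : (i : ℕ) + 1 < n then v ⟨(i : ℕ) + 1, h⟩ else 0 := by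
  classical
  unfold N0 Matrix.mulVec dotProduct
  simp only [Matrix.of_apply, ite_mul, one_mul, zero_mul]
  split_ifs with h
  · rw [Finset.sum_eq_single ⟨(i : ℕ) + 1, h⟩]
    · simp
    · intro j _ hj
      rw [if_neg]
      intro hj'
      exact hj (Fin.ext hj')
    · intro h'; exact absurd (Finset.mem_univ _) h'
  · apply Finset.sum_eq_zero
    intro j _
    rw [if_neg]
    intro hj
    have := j.2
    omega

theorem N0_pow_mulVec {n : ℕ} (k : ℕ) (v : Fin n → F) (i : Fin n) :
    (((N0 n F) ^ k).mulVec v) i = if h : (i : ℕ) + k < n then v ⟨(i : ℕ) + k, h⟩ else 0 := by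
  induction k generalizing v i with
  | zero => simp
  | succ k ih =>
    rw [pow_succ, ← Matrix.mulVec_mulVec, ih]
    split_ifs with h1 h2 h2
    · rw [N0_mulVec, dif_pos (by simpa using (by omega : (i : ℕ) + k + 1 < n))]
      congr 1
    · rw [N0_mulVec, dif_neg (by simpa using (by omega : ¬ (i : ℕ) + k + 1 < n))]
    · omega
    · rfl

theorem N0_pow_n (n : ℕ) : (N0 n F) ^ n = 0 := by
  apply Matrix.toLin'.injective
  apply LinearMap.ext
  intro v
  ext i
  rw [Matrix.toLin'_apply, N0_pow_mulVec, dif_neg (by omega)]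
  simp

theorem N0_rank (n : ℕ) (hn : 1 ≤ n) : (N0 n F).rank = n - 1 := by
  set f : Module.End F (Fin n → F) := (N0 n F).mulVecLin with hf
  have h1 := LinearMap.finrank_range_add_finrank_ker f
  rw [Module.finrank_fin_fun] at h1
  have h2 : (N0 n F).rank = Module.finrank F (LinearMap.range f) := rfl
  have hker : Module.finrank F (LinearMap.ker f) = 1 := by
    apply le_antisymm
    · -- injective map ker → F
      let φ : LinearMap.ker f →ₗ[F] F :=
        { toFun := fun v => (v : Fin n → F) ⟨0, hn⟩
          map_add' := fun a b => rfl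
          map_smul' := fun c a => rfl }
      have hφ : Function.Injective φ := by
        rw [injective_iff_map_eq_zero]
        rintro ⟨v, hv⟩ h0
        apply Subtype.ext
        rw [LinearMap.mem_ker] at hv
        ext j
        by_cases hj : (j : ℕ) = 0
        · have : j = ⟨0, hn⟩ := Fin.ext hj
          rw [this]; exact h0
        · have hj1 : (j : ℕ) - 1 + 1 < n := by have := j.2; omega
          have h3 := congrFun hv ⟨(j : ℕ) - 1, by omega⟩
          rw [hf, Matrix.mulVecLin_apply, N0_mulVec, dif_pos hj1] at h3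
          have h4 : (⟨(j : ℕ) - 1 + 1, hj1⟩ : Fin n) = j := Fin.ext (by simp; omega)
          rw [h4] at h3
          exact h3
      have := LinearMap.finrank_le_finrank_of_injective hφ
      simpa using this
    · -- e₀ in kernel
      have hmem : (Pi.single (⟨0, hn⟩ : Fin n) (1 : F)) ∈ LinearMap.ker f := by
        rw [LinearMap.mem_ker, hf, Matrix.mulVecLin_apply]
        ext i
        rw [N0_mulVec]
        split_ifs with h
        · rw [Pi.single_apply, if_neg]
          · rfl
          · intro h'
            have := congrArg Fin.val h'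
            simp at this
        · rfl
      have hne : (⟨_, hmem⟩ : LinearMap.ker f) ≠ 0 := by
        intro h
        have := congrArg Subtype.val h
        have h5 := congrFun this ⟨0, hn⟩
        simp at h5
      exact Module.finrank_pos_iff_exists_ne_zero.mpr ⟨_, hne⟩
  omega

end Cfsg.Agent.Lib.Helper4_RegClass0
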