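import Mathlib
import Cfsg.Agent.Lib.Helper4_RegClass0

namespace Cfsg.Agent.Lib.Helper4_RegClass1
open Matrix Cfsg.Agent.Lib.Helper4_RegUnip Cfsg.Agent.Lib.Helper4_RegCent0 Cfsg.Agent.Lib.Helper4_RegCent1 Cfsg.Agent.Lib.Helper4_RegClass0

variable {F : Type*} [Field F]

/-- the matrix of the cyclic basis. -/
def cycP {k : ℕ} (N : Matrix (Fin (k+1)) (Fin (k+1)) F) (e : Fin (k+1) → F) :
    Matrix (Fin (k+1)) (Fin (k+1)) F :=
  Matrix.of (fun i j => ((N ^ (k - (j : ℕ))).mulVec e) i)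

theorem cycP_mulVec {k : ℕ} (N : Matrix (Fin (k+1)) (Fin (k+1)) F) (e : Fin (k+1) → F)
    (v : Fin (k+1) → F) :
    (cycP N e).mulVec v = (P N (fun i => v (Fin.rev i))).mulVec e := by
  ext i
  unfold cycP P
  rw [Matrix.mulVec, dotProduct]
  simp only [Matrix.of_apply]
  rw [Matrix.sum_mulVec]
  simp only [Finset.sum_apply, Matrix.smul_mulVec, Pi.smul_apply, smul_eq_mul]
  rw [← Equiv.sum_comp Fin.revPerm]
  apply Finset.sum_congr rfl
  intro j _
  simp only [Fin.revPerm_apply]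
  rw [mul_comm]
  congr 3
  simp [Fin.rev]
  have := j.2
  omega

theorem cycP_det {k : ℕ} (N : Matrix (Fin (k+1)) (Fin (k+1)) F) (hnil : N ^ (k+1) = 0)
    (e : Fin (k+1) → F) (he : (N ^ k).mulVec e ≠ 0) : (cycP N e).det ≠ 0 := by
  intro hdet
  obtain ⟨v, hv0, hv⟩ := Matrix.exists_mulVec_eq_zero_iff.mpr hdet
  rw [cycP_mulVec] at hv
  have := indep N hnil e he _ hv
  apply hv0
  ext i
  have h1 := congrFun this (Fin.rev i)
  simpa using h1

theorem cycP_conj {k : ℕ} (N : Matrix (Fin (k+1)) (Fin (k+1)) F) (hnil : N ^ (k+1) = 0)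
    (e : Fin (k+1) → F) : N * cycP N e = cycP N e * N0 (k+1) F := by
  classical
  ext i j
  rw [Matrix.mul_apply, Matrix.mul_apply]
  have hL : ∑ l, N i l * cycP N e l j = ((N ^ (k - (j : ℕ) + 1)).mulVec e) i := by
    unfold cycP
    simp only [Matrix.of_apply]
    rw [pow_succ', ← Matrix.mulVec_mulVec]
    rfl
  rw [hL]
  unfold N0
  simp only [Matrix.of_apply, mul_ite, mul_one, mul_zero]
  by_cases hj : (j : ℕ) = 0
  · rw [Finset.sum_eq_zero]
    · have : k - (j : ℕ) + 1 = k + 1 := by omega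
      rw [this, hnil]
      simp
    · intro l _
      rw [if_neg]
      omega
  · have hj1 : (j : ℕ) - 1 < k + 1 := by have := j.2; omega
    rw [Finset.sum_eq_single ⟨(j : ℕ) - 1, hj1⟩]
    · rw [if_pos (by simp; omega)]
      unfold cycP
      simp only [Matrix.of_apply]
      congr 3
      have := j.2
      omega
    · intro l _ hl
      rw [if_neg]
      intro h
      apply hl
      apply Fin.ext
      simp
      omega
    · intro h; exact absurd (Finset.mem_univ _) h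

theorem conj_standard {k : ℕ} (N : Matrix (Fin (k+1)) (Fin (k+1)) F) (hnil : N ^ (k+1) = 0)
    (hreg : N.rank = k) :
    ∃ Q : Matrix (Fin (k+1)) (Fin (k+1)) F, Q.det ≠ 0 ∧ N * Q = Q * N0 (k+1) F := by
  obtain ⟨e, he⟩ := exists_cyclic N hreg
  exact ⟨cycP N e, cycP_det N hnil e he, cycP_conj N hnil e⟩

end Cfsg.Agent.Lib.Helper4_RegClass1
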