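import Mathlib
import Cfsg.Agent.Lib.Helper4_RegClass1

namespace Cfsg.Agent.Lib.Helper4_RegClass2
open Matrix Polynomial Cfsg.Agent.Lib.Helper4_RegUnip Cfsg.Agent.Lib.Helper4_RegCent0 Cfsg.Agent.Lib.Helper4_RegCent1 Cfsg.Agent.Lib.Helper4_RegClass0

variable {F : Type*} [Field F]

theorem nil_det {n : ℕ} (R : Matrix (Fin n) (Fin n) F) (hR : IsNilpotent R) (a : F) :
    (a • (1 : Matrix (Fin n) (Fin n) F) + R).det = a ^ n := by
  have h1 : IsNilpotent (-R) := hR.neg
  have h2 : (-R).charpoly = X ^ n := by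
    have := Matrix.isNilpotent_charpoly_sub_pow_of_isNilpotent h1
    rw [Fintype.card_fin] at this
    exact sub_eq_zero.mp this.eq_zero
  have h3 := Matrix.eval_charpoly (-R) a
  rw [h2, eval_pow, eval_X] at h3
  rw [h3]
  congr 1
  rw [sub_neg_eq_add]
  congr 1
  ext i j
  simp [Matrix.scalar_apply, Matrix.one_apply, Matrix.diagonal_apply]

theorem P_det {k : ℕ} (N : Matrix (Fin (k+1)) (Fin (k+1)) F) (hnil : N ^ (k+1) = 0)
    (a : Fin (k+1) → F) : (P N a).det = (a 0) ^ (k+1) := by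
  classical
  have hsplit : P N a = a 0 • 1 + ∑ i ∈ Finset.univ.erase (0 : Fin (k+1)), a i • N ^ (i : ℕ) := by
    unfold P
    rw [← Finset.add_sum_erase _ _ (Finset.mem_univ (0 : Fin (k+1)))]
    simp
  have hRnil : IsNilpotent (∑ i ∈ Finset.univ.erase (0 : Fin (k+1)), a i • N ^ (i : ℕ)) := by
    have hfac : ∑ i ∈ Finset.univ.erase (0 : Fin (k+1)), a i • N ^ (i : ℕ) =
        N * ∑ i ∈ Finset.univ.erase (0 : Fin (k+1)), a i • N ^ ((i : ℕ) - 1) := by
      rw [Finset.mul_sum]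
      apply Finset.sum_congr rfl
      intro i hi
      have hi0 : i ≠ 0 := (Finset.mem_erase.mp hi).1
      have hi1 : (i : ℕ) ≠ 0 := fun h => hi0 (Fin.ext h)
      rw [Matrix.mul_smul, ← pow_succ']
      congr 2
      omega
    rw [hfac]
    have hc : Commute N (∑ i ∈ Finset.univ.erase (0 : Fin (k+1)), a i • N ^ ((i : ℕ) - 1)) := by
      apply Commute.sum_right
      intro i _
      exact ((Commute.refl N).pow_right _).smul_right _
    refine ⟨k + 1, ?_⟩
    rw [hc.mul_pow, hnil, zero_mul]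
  rw [hsplit, nil_det _ hRnil]

end Cfsg.Agent.Lib.Helper4_RegClass2
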