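import Mathlib
import Cfsg.Agent.Lib.Helper4_RegClass2

namespace Cfsg.Agent.Lib.Helper4_RegClass3
open Matrix Polynomial Cfsg.Agent.Lib.Helper4_RegUnip Cfsg.Agent.Lib.Helper4_RegCent0 Cfsg.Agent.Lib.Helper4_RegCent1 Cfsg.Agent.Lib.Helper4_RegClass0 Cfsg.Agent.Lib.Helper4_RegClass1 Cfsg.Agent.Lib.Helper4_RegClass2

variable {F : Type*} [Field F]

/-- the standard regular unipotent matrix. -/
def U0 (n : ℕ) (F : Type*) [Field F] : Matrix (Fin n) (Fin n) F := 1 + N0 n F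

theorem U0_det (n : ℕ) : (U0 n F).det = 1 := by
  have h := nil_det (N0 n F) ⟨n, N0_pow_n n⟩ (1 : F)
  rw [one_smul, one_pow] at h
  exact h

theorem commute_U0_iff {n : ℕ} (X : Matrix (Fin n) (Fin n) F) :
    Commute X (U0 n F) ↔ Commute X (N0 n F) := by
  unfold U0
  constructor
  · intro h
    have : N0 n F = (1 + N0 n F) - 1 := by abel
    rw [this]
    exact h.sub_right (Commute.one_right X)
  · intro h
    exact (Commute.one_right X).add_right h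

theorem inv_conj {n : ℕ} (Q U V : Matrix (Fin n) (Fin n) F) (hQ : IsUnit Q.det)
    (h : U * Q = Q * V) : Q⁻¹ * U = V * Q⁻¹ := by
  calc Q⁻¹ * U = Q⁻¹ * U * (Q * Q⁻¹) := by rw [Matrix.mul_nonsing_inv Q hQ, Matrix.mul_one]
    _ = Q⁻¹ * (U * Q) * Q⁻¹ := by simp only [Matrix.mul_assoc]
    _ = Q⁻¹ * (Q * V) * Q⁻¹ := by rw [h]
    _ = (Q⁻¹ * Q) * V * Q⁻¹ := by simp only [Matrix.mul_assoc]
    _ = V * Q⁻¹ := by rw [Matrix.nonsing_inv_mul Q hQ, Matrix.one_mul]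

theorem K1_forward {k : ℕ} (h U₁ U₂ Q₁ Q₂ : Matrix (Fin (k+1)) (Fin (k+1)) F)
    (hh : h.det = 1) (hconj : h * U₁ = U₂ * h)
    (hQ₁ : Q₁.det ≠ 0) (hQ₂ : Q₂.det ≠ 0)
    (h1 : U₁ * Q₁ = Q₁ * U0 (k+1) F) (h2 : U₂ * Q₂ = Q₂ * U0 (k+1) F) :
    ∃ a : F, a ≠ 0 ∧ Q₁.det = Q₂.det * a ^ (k+1) := by
  have hu2 : IsUnit Q₂.det := IsUnit.mk0 _ hQ₂
  set X := Q₂⁻¹ * h * Q₁ with hX
  have h2' : Q₂⁻¹ * U₂ = U0 (k+1) F * Q₂⁻¹ := inv_conj Q₂ U₂ _ hu2 h2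
  have hXc : Commute X (U0 (k+1) F) := by
    show X * U0 (k+1) F = U0 (k+1) F * X
    rw [hX]
    calc Q₂⁻¹ * h * Q₁ * U0 (k+1) F = Q₂⁻¹ * h * (Q₁ * U0 (k+1) F) := by
          simp only [Matrix.mul_assoc]
      _ = Q₂⁻¹ * h * (U₁ * Q₁) := by rw [h1]
      _ = Q₂⁻¹ * (h * U₁) * Q₁ := by simp only [Matrix.mul_assoc]
      _ = Q₂⁻¹ * (U₂ * h) * Q₁ := by rw [hconj]
      _ = (Q₂⁻¹ * U₂) * h * Q₁ := by simp only [Matrix.mul_assoc]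
      _ = (U0 (k+1) F * Q₂⁻¹) * h * Q₁ := by rw [h2']
      _ = U0 (k+1) F * (Q₂⁻¹ * h * Q₁) := by simp only [Matrix.mul_assoc]
  rw [commute_U0_iff] at hXc
  obtain ⟨e, he⟩ := exists_cyclic (N0 (k+1) F) (by rw [N0_rank (k+1) (by omega)]; rfl)
  obtain ⟨a, ha⟩ := commutant_eq (N0 (k+1) F) (N0_pow_n (k+1)) e he X hXc
  have hdetX : X.det = Q₁.det / Q₂.det := by
    rw [hX, Matrix.det_mul, Matrix.det_mul, hh, Matrix.det_nonsing_inv, Ring.inverse_eq_inv']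
    field_simp
  have hdetX2 : X.det = (a 0) ^ (k+1) := by rw [ha, P_det _ (N0_pow_n (k+1))]
  refine ⟨a 0, ?_, ?_⟩
  · intro h0
    rw [h0, zero_pow (by omega)] at hdetX2
    rw [hdetX2] at hdetX
    have := div_eq_zero_iff.mp hdetX.symm
    rcases this with h | h
    · exact hQ₁ h
    · exact hQ₂ h
  · rw [← hdetX2, hdetX]
    field_simp

theorem K1_backward {k : ℕ} (U₁ U₂ Q₁ Q₂ : Matrix (Fin (k+1)) (Fin (k+1)) F)
    (hQ₁ : Q₁.det ≠ 0) (hQ₂ : Q₂.det ≠ 0)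
    (h1 : U₁ * Q₁ = Q₁ * U0 (k+1) F) (h2 : U₂ * Q₂ = Q₂ * U0 (k+1) F)
    (d : F) (hd : Q₁.det = Q₂.det * d ^ (k+1)) :
    ∃ h : Matrix (Fin (k+1)) (Fin (k+1)) F, h.det = 1 ∧ h * U₁ = U₂ * h := by
  have hu1 : IsUnit Q₁.det := IsUnit.mk0 _ hQ₁
  have h1' : Q₁⁻¹ * U₁ = U0 (k+1) F * Q₁⁻¹ := inv_conj Q₁ U₁ _ hu1 h1
  refine ⟨Q₂ * (d • 1) * Q₁⁻¹, ?_, ?_⟩
  · rw [Matrix.det_mul, Matrix.det_mul, Matrix.det_smul, Matrix.det_one, Fintype.card_fin,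
      Matrix.det_nonsing_inv, Ring.inverse_eq_inv', hd, mul_one]
    have : Q₂.det * d ^ (k+1) ≠ 0 := by rw [← hd]; exact hQ₁
    have hd0 : d ^ (k+1) ≠ 0 := (mul_ne_zero_iff.mp this).2
    field_simp
  · calc Q₂ * (d • 1) * Q₁⁻¹ * U₁ = Q₂ * (d • 1) * (Q₁⁻¹ * U₁) := by simp only [Matrix.mul_assoc]
      _ = Q₂ * (d • 1) * (U0 (k+1) F * Q₁⁻¹) := by rw [h1']
      _ = Q₂ * ((d • 1) * U0 (k+1) F) * Q₁⁻¹ := by simp only [Matrix.mul_assoc]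
      _ = Q₂ * (U0 (k+1) F * (d • 1)) * Q₁⁻¹ := by
          have hc : (d • (1 : Matrix (Fin (k+1)) (Fin (k+1)) F)) * U0 (k+1) F =
              U0 (k+1) F * (d • 1) := by
            rw [Matrix.smul_mul, Matrix.mul_smul, Matrix.one_mul, Matrix.mul_one]
          rw [hc]
      _ = (Q₂ * U0 (k+1) F) * (d • 1) * Q₁⁻¹ := by simp only [Matrix.mul_assoc]
      _ = (U₂ * Q₂) * (d • 1) * Q₁⁻¹ := by rw [h2]
      _ = U₂ * (Q₂ * (d • 1) * Q₁⁻¹) := by simp only [Matrix.mul_assoc]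

end Cfsg.Agent.Lib.Helper4_RegClass3
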