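import Mathlib
import Cfsg.Agent.Lib.Helper4_RegClass3

namespace Cfsg.Agent.Lib.Helper4_RegClass4
open Matrix Polynomial Cfsg.Agent.Lib.Helper4_RegUnip Cfsg.Agent.Lib.Helper4_RegCent0 Cfsg.Agent.Lib.Helper4_RegCent1 Cfsg.Agent.Lib.Helper4_RegClass0 Cfsg.Agent.Lib.Helper4_RegClass1 Cfsg.Agent.Lib.Helper4_RegClass2 Cfsg.Agent.Lib.Helper4_RegClass3

variable {F : Type*} [Field F]

theorem exists_Q {k : ℕ} (U : Matrix (Fin (k+1)) (Fin (k+1)) F)
    (hnil : (U - 1) ^ (k+1) = 0) (hreg : (U - 1).rank = k) :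
    ∃ Q : Matrix (Fin (k+1)) (Fin (k+1)) F, Q.det ≠ 0 ∧ U * Q = Q * U0 (k+1) F := by
  obtain ⟨Q, hQ, h⟩ := conj_standard (U - 1) hnil hreg
  refine ⟨Q, hQ, ?_⟩
  unfold U0
  rw [Matrix.mul_add, Matrix.mul_one, ← h, Matrix.sub_mul, Matrix.one_mul]
  abel

theorem isConj_iff_mat {n : ℕ} (u₁ u₂ : Matrix.SpecialLinearGroup (Fin n) F) :
    IsConj u₁ u₂ ↔ ∃ h : Matrix (Fin n) (Fin n) F, h.det = 1 ∧
      h * (u₁ : Matrix (Fin n) (Fin n) F) = (u₂ : Matrix (Fin n) (Fin n) F) * h := by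
  rw [isConj_iff]
  constructor
  · rintro ⟨c, hc⟩
    refine ⟨c, c.det_coe, ?_⟩
    have h2 : c * u₁ = u₂ * c := by rw [← hc]; group
    have := congrArg (fun g : Matrix.SpecialLinearGroup (Fin n) F =>
      (g : Matrix (Fin n) (Fin n) F)) h2
    simp only [Matrix.SpecialLinearGroup.coe_mul] at this
    exact this
  · rintro ⟨h, hh, hc⟩
    let c : Matrix.SpecialLinearGroup (Fin n) F := ⟨h, hh⟩
    have hcc : c * u₁ = u₂ * c := by
      apply Subtype.ext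
      rw [Matrix.SpecialLinearGroup.coe_mul, Matrix.SpecialLinearGroup.coe_mul]
      exact hc
    exact ⟨c, by rw [hcc]; group⟩

/-- the diagonal matrix diag(δ,1,…,1). -/
def gδ (k : ℕ) (δ : F) : Matrix (Fin (k+1)) (Fin (k+1)) F :=
  Matrix.diagonal (Function.update (fun _ => (1 : F)) 0 δ)

theorem gδ_det (k : ℕ) (δ : F) : (gδ k δ).det = δ := by
  classical
  unfold gδ
  rw [Matrix.det_diagonal, Finset.prod_update_of_mem (Finset.mem_univ _)]
  simp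

theorem exists_rep {k : ℕ} (δ : F) (hδ : δ ≠ 0) :
    ∃ u : Matrix.SpecialLinearGroup (Fin (k+1)) F,
      ((u : Matrix (Fin (k+1)) (Fin (k+1)) F) - 1) ^ (k+1) = 0 ∧
      ((u : Matrix (Fin (k+1)) (Fin (k+1)) F) - 1).rank = k ∧
      (u : Matrix (Fin (k+1)) (Fin (k+1)) F) * gδ k δ = gδ k δ * U0 (k+1) F := by
  set g := gδ k δ with hg
  have hgdet : g.det = δ := gδ_det k δ
  have hgu : IsUnit g.det := by rw [hgdet]; exact IsUnit.mk0 _ hδ
  set U := g * U0 (k+1) F * g⁻¹ with hU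
  have hUdet : U.det = 1 := by
    rw [hU, Matrix.det_mul, Matrix.det_mul, U0_det, Matrix.det_nonsing_inv, Ring.inverse_eq_inv',
      hgdet, mul_one, mul_inv_cancel₀ hδ]
  have hUm1 : U - 1 = g * N0 (k+1) F * g⁻¹ := by
    rw [hU]
    unfold U0
    rw [Matrix.mul_add, Matrix.add_mul, Matrix.mul_one, Matrix.mul_nonsing_inv g hgu]
    abel
  have hpow : ∀ m : ℕ, (g * N0 (k+1) F * g⁻¹) ^ m = g * (N0 (k+1) F) ^ m * g⁻¹ := by
    intro m
    induction m with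
    | zero => rw [pow_zero, pow_zero, Matrix.mul_one, Matrix.mul_nonsing_inv g hgu]
    | succ m ih =>
      rw [pow_succ, ih, pow_succ]
      calc g * N0 (k+1) F ^ m * g⁻¹ * (g * N0 (k+1) F * g⁻¹)
          = g * N0 (k+1) F ^ m * (g⁻¹ * g) * N0 (k+1) F * g⁻¹ := by simp only [Matrix.mul_assoc]
        _ = g * (N0 (k+1) F ^ m * N0 (k+1) F) * g⁻¹ := by
            rw [Matrix.nonsing_inv_mul g hgu, Matrix.mul_one]; simp only [Matrix.mul_assoc]
  refine ⟨⟨U, hUdet⟩, ?_, ?_, ?_⟩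
  · show (U - 1) ^ (k+1) = 0
    rw [hUm1, hpow, N0_pow_n, Matrix.mul_zero, Matrix.zero_mul]
  · show (U - 1).rank = k
    rw [hUm1]
    have hgiu : IsUnit (g⁻¹).det := by
      rw [Matrix.det_nonsing_inv, Ring.inverse_eq_inv']
      exact hgu.inv
    rw [Matrix.rank_mul_eq_left_of_isUnit_det _ _ hgiu, Matrix.rank_mul_eq_right_of_isUnit_det _ _ hgu,
      N0_rank (k+1) (by omega)]
    rfl
  · show U * g = g * U0 (k+1) F
    rw [hU, Matrix.mul_assoc, Matrix.nonsing_inv_mul g hgu, Matrix.mul_one]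

end Cfsg.Agent.Lib.Helper4_RegClass4
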