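import Mathlib
import Cfsg.Prelude.Def_ClassicalGeometry

namespace Cfsg.Agent.Lib.Helper4_Transv0
open Module Matrix

variable {F : Type*} [Field F]

theorem exists_basis_zero {W : Type*} [AddCommGroup W] [Module F W] [FiniteDimensional F W] {d : ℕ}
    (hd : finrank F W = d + 1) (w : W) (hw : w ≠ 0) : ∃ b : Basis (Fin (d+1)) F W, b 0 = w := by
  obtain ⟨C, hC⟩ := Submodule.exists_isCompl (F ∙ w)
  have hdC : finrank F C = d := by
    have h1 := Submodule.finrank_add_eq_of_isCompl hC
    rw [finrank_span_singleton hw, hd] at h1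
    omega
  let bC : Basis (Fin d) F C := Module.finBasisOfFinrankEq F C hdC
  let b := Basis.mkFinCons w bC
    (by
      intro c x hx hc
      have h1 : c • w ∈ C := by
        have : c • w = -x := eq_neg_of_add_eq_zero_left hc
        rw [this]; exact C.neg_mem hx
      have h2 : c • w ∈ (F ∙ w) := Submodule.smul_mem _ _ (Submodule.mem_span_singleton_self w)
      have h3 := Submodule.disjoint_def.mp hC.disjoint _ h2 h1
      exact (smul_eq_zero.mp h3).resolve_right hw)
    (by
      intro z
      have hz : z ∈ (F ∙ w) ⊔ C := by rw [hC.sup_eq_top]; exact Submodule.mem_top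
      obtain ⟨y, hy, y', hy', rfl⟩ := Submodule.mem_sup.mp hz
      obtain ⟨a, rfl⟩ := Submodule.mem_span_singleton.mp hy
      refine ⟨-a, ?_⟩
      have : a • w + y' + -a • w = y' := by rw [neg_smul]; abel
      rw [this]; exact hy')
  refine ⟨b, ?_⟩
  have hb : ⇑b = Fin.cons w (C.subtype ∘ bC) := Basis.coe_mkFinCons _ _ _ _
  rw [hb]
  rfl

theorem exists_transvection_basis {k : ℕ} (N : Matrix (Fin (k+2)) (Fin (k+2)) F)
    (hrank : N.rank = 1) (hsq : N * N = 0) :
    ∃ b : Basis (Fin (k+2)) F (Fin (k+2) → F), N.mulVec (b 0) = b 1 ∧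
      ∀ j : Fin (k+2), j ≠ 0 → N.mulVec (b j) = 0 := by
  set f : Module.End F (Fin (k+2) → F) := N.mulVecLin with hf
  have hr : finrank F (LinearMap.range f) = 1 := hrank
  have hK : finrank F (LinearMap.ker f) = k + 1 := by
    have h1 := LinearMap.finrank_range_add_finrank_ker f
    rw [Module.finrank_fin_fun, hr] at h1
    omega
  have hff : ∀ y, f (f y) = 0 := by
    intro y
    rw [hf, Matrix.mulVecLin_apply, Matrix.mulVecLin_apply, Matrix.mulVec_mulVec, hsq,
      Matrix.zero_mulVec]
  obtain ⟨x, hx⟩ : ∃ x, f x ≠ 0 := by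
    by_contra h
    push Not at h
    have : LinearMap.range f = ⊥ := by
      rw [eq_bot_iff]
      rintro _ ⟨y, rfl⟩
      rw [h y]; exact Submodule.zero_mem _
    rw [this, finrank_bot] at hr
    omega
  have hvK : f x ∈ LinearMap.ker f := by rw [LinearMap.mem_ker]; exact hff x
  obtain ⟨bK, hbK⟩ := exists_basis_zero hK (⟨f x, hvK⟩ : LinearMap.ker f)
    (fun h => hx (congrArg Subtype.val h))
  have hspan : ∀ z, ∃ a : F, a • f x = f z := by
    intro z
    have h1 := (finrank_eq_one_iff_of_nonzero' (⟨f x, LinearMap.mem_range_self f x⟩ : LinearMap.range f)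
      (fun h => hx (congrArg Subtype.val h))).mp hr ⟨f z, LinearMap.mem_range_self f z⟩
    obtain ⟨a, ha⟩ := h1
    exact ⟨a, congrArg Subtype.val ha⟩
  let b := Basis.mkFinCons x bK
    (by
      intro c y hy hc
      have h1 := congrArg f hc
      rw [map_add, map_smul, LinearMap.mem_ker.mp hy, add_zero, map_zero] at h1
      exact (smul_eq_zero.mp h1).resolve_right hx)
    (by
      intro z
      obtain ⟨a, ha⟩ := hspan z
      refine ⟨-a, ?_⟩
      rw [LinearMap.mem_ker, map_add, map_smul, ← ha, neg_smul, add_neg_cancel])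
  have hb : ⇑b = Fin.cons x ((LinearMap.ker f).subtype ∘ bK) := Basis.coe_mkFinCons _ _ _ _
  refine ⟨b, ?_, ?_⟩
  · rw [hb]
    have h1 : (1 : Fin (k+2)) = Fin.succ 0 := rfl
    rw [h1, Fin.cons_succ, Function.comp_apply, hbK, Fin.cons_zero]
    rfl
  · intro j hj
    obtain ⟨j', rfl⟩ := Fin.exists_succ_eq.mpr hj
    rw [hb, Fin.cons_succ, Function.comp_apply]
    exact LinearMap.mem_ker.mp (bK j').2

end Cfsg.Agent.Lib.Helper4_Transv0
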