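import Mathlib
import Cfsg.Prelude.Def_ClassicalGeometry
import Cfsg.Agent.Lib.Helper4_Transv0
import Cfsg.Agent.Lib.Helper4_RegClass4

namespace Cfsg.Agent.Lib.Helper4_Transv1
open Module Matrix Cfsg.Agent.Lib.Helper4_Transv0 Cfsg.Agent.Lib.Helper4_RegClass3 Cfsg.Agent.Lib.Helper4_RegClass4

variable {F : Type*} [Field F]

/-- the standard elementary nilpotent `E₁₀`. -/
def E10 (k : ℕ) (F : Type*) [Field F] : Matrix (Fin (k+2)) (Fin (k+2)) F :=
  Matrix.of (fun i j => if i = 1 ∧ j = 0 then 1 else 0)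

theorem conj_E10 {k : ℕ} (N : Matrix (Fin (k+2)) (Fin (k+2)) F)
    (hrank : N.rank = 1) (hsq : N * N = 0) :
    ∃ Q : Matrix (Fin (k+2)) (Fin (k+2)) F, Q.det ≠ 0 ∧ N * Q = Q * E10 k F := by
  classical
  obtain ⟨b, hb0, hbj⟩ := exists_transvection_basis N hrank hsq
  set Q : Matrix (Fin (k+2)) (Fin (k+2)) F := (Pi.basisFun F (Fin (k+2))).toMatrix b with hQ
  have hQapp : ∀ i j, Q i j = b j i := by
    intro i j
    rw [hQ, Basis.toMatrix_apply]
    simp
  refine ⟨Q, ?_, ?_⟩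
  · have := (Pi.basisFun F (Fin (k+2))).isUnit_det b
    rw [Basis.det_apply] at this
    exact this.ne_zero
  · ext i j
    rw [Matrix.mul_apply, Matrix.mul_apply]
    have hL : ∑ l, N i l * Q l j = (N.mulVec (b j)) i := by
      rw [Matrix.mulVec, dotProduct]
      apply Finset.sum_congr rfl
      intro l _
      rw [hQapp]
    rw [hL]
    unfold E10
    simp only [Matrix.of_apply, mul_ite, mul_one, mul_zero]
    by_cases hj : j = 0
    · subst hj
      rw [hb0, Finset.sum_eq_single (1 : Fin (k+2))]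
      · simp [hQapp]
      · intro l _ hl
        rw [if_neg]
        intro h; exact hl h.1
      · intro h; exact absurd (Finset.mem_univ _) h
    · rw [hbj j hj, Finset.sum_eq_zero]
      · rfl
      · intro l _
        rw [if_neg]
        intro h; exact hj h.2

/-- the diagonal matrix with `λ` at position 2. -/
def cLam (k : ℕ) (lam : F) : Matrix (Fin (k+3)) (Fin (k+3)) F :=
  Matrix.diagonal (Function.update (fun _ => (1 : F)) 2 lam)

theorem cLam_det (k : ℕ) (lam : F) : (cLam k lam).det = lam := by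
  classical
  unfold cLam
  rw [Matrix.det_diagonal, Finset.prod_update_of_mem (Finset.mem_univ _)]
  simp

theorem cLam_comm (k : ℕ) (lam : F) : cLam k lam * (1 + E10 (k+1) F) = (1 + E10 (k+1) F) * cLam k lam := by
  classical
  rw [Matrix.mul_add, Matrix.add_mul, Matrix.mul_one, Matrix.one_mul]
  congr 1
  unfold cLam E10
  ext i j
  rw [Matrix.diagonal_mul, Matrix.mul_diagonal]
  simp only [Matrix.of_apply]
  by_cases h : i = 1 ∧ j = 0
  · obtain ⟨rfl, rfl⟩ := h
    have h12 : (1 : Fin (k+3)) ≠ 2 := by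
      intro h; have := congrArg Fin.val h; rw [Fin.val_one, Fin.val_two] at this; omega
    have h02 : (0 : Fin (k+3)) ≠ 2 := by
      intro h; have := congrArg Fin.val h; rw [Fin.val_zero, Fin.val_two] at this; omega
    simp [Function.update_of_ne h12, Function.update_of_ne h02]
  · rw [if_neg h]; simp

theorem transvections_conj {k : ℕ} (s t : Matrix.SpecialLinearGroup (Fin (k+3)) F)
    (hs : Cfsg.IsTransvection (s : Matrix (Fin (k+3)) (Fin (k+3)) F))
    (ht : Cfsg.IsTransvection (t : Matrix (Fin (k+3)) (Fin (k+3)) F)) : IsConj s t := by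
  obtain ⟨Qs, hQs, hs'⟩ := conj_E10 _ hs.1 hs.2
  obtain ⟨Qt, hQt, ht'⟩ := conj_E10 _ ht.1 ht.2
  set T := 1 + E10 (k+1) F with hT
  have hsT : (s : Matrix (Fin (k+3)) (Fin (k+3)) F) * Qs = Qs * T := by
    rw [hT, Matrix.mul_add, Matrix.mul_one, ← hs', Matrix.sub_mul, Matrix.one_mul]; abel
  have htT : (t : Matrix (Fin (k+3)) (Fin (k+3)) F) * Qt = Qt * T := by
    rw [hT, Matrix.mul_add, Matrix.mul_one, ← ht', Matrix.sub_mul, Matrix.one_mul]; abel
  have hus : IsUnit Qs.det := IsUnit.mk0 _ hQs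
  have hsT' : Qs⁻¹ * (s : Matrix (Fin (k+3)) (Fin (k+3)) F) = T * Qs⁻¹ := inv_conj Qs _ _ hus hsT
  rw [isConj_iff_mat]
  set lam := Qs.det / Qt.det with hlam
  refine ⟨Qt * cLam k lam * Qs⁻¹, ?_, ?_⟩
  · rw [Matrix.det_mul, Matrix.det_mul, cLam_det, Matrix.det_nonsing_inv, Ring.inverse_eq_inv', hlam]
    field_simp
  · calc Qt * cLam k lam * Qs⁻¹ * (s : Matrix (Fin (k+3)) (Fin (k+3)) F)
        = Qt * cLam k lam * (Qs⁻¹ * (s : Matrix (Fin (k+3)) (Fin (k+3)) F)) := by
          simp only [Matrix.mul_assoc]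
      _ = Qt * cLam k lam * (T * Qs⁻¹) := by rw [hsT']
      _ = Qt * (cLam k lam * T) * Qs⁻¹ := by simp only [Matrix.mul_assoc]
      _ = Qt * (T * cLam k lam) * Qs⁻¹ := by rw [hT, cLam_comm]
      _ = (Qt * T) * cLam k lam * Qs⁻¹ := by simp only [Matrix.mul_assoc]
      _ = ((t : Matrix (Fin (k+3)) (Fin (k+3)) F) * Qt) * cLam k lam * Qs⁻¹ := by rw [htT]
      _ = (t : Matrix (Fin (k+3)) (Fin (k+3)) F) * (Qt * cLam k lam * Qs⁻¹) := by
          simp only [Matrix.mul_assoc]

end Cfsg.Agent.Lib.Helper4_Transv1
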