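import Mathlib
import Cfsg.Prelude.Def_ClassicalGeometry
import Cfsg.Agent.Lib.Helper4_Transv1

namespace Cfsg.Agent.Lib.Helper4_TransvCent0
open Module Matrix Cfsg.Agent.Lib.Helper4_Transv1

variable {F : Type*} [Field F]

/-- build the generic commuting matrix. -/
def build {k : ℕ} (a c : F) (r s : Fin k → F) (D : Matrix (Fin k) (Fin k) F) :
    Matrix (Fin (k+2)) (Fin (k+2)) F :=
  Matrix.of (Fin.cons (Fin.cons a (Fin.cons 0 0))
    (Fin.cons (Fin.cons c (Fin.cons a r)) (fun i => Fin.cons (s i) (Fin.cons 0 (D i)))))

theorem det_build {k : ℕ} (a c : F) (r s : Fin k → F) (D : Matrix (Fin k) (Fin k) F) :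
    (build a c r s D).det = a * a * D.det := by
  rw [Matrix.det_succ_row_zero, Fin.sum_univ_succ]
  have h0 : ∀ j : Fin (k+1), build a c r s D 0 j.succ = 0 := by
    intro j
    unfold build
    refine Fin.cases ?_ (fun j => ?_) j
    · rfl
    · rfl
  rw [Finset.sum_eq_zero (fun j _ => by rw [h0]; ring), add_zero]
  have h00 : build a c r s D 0 0 = a := rfl
  rw [h00, Matrix.det_succ_column_zero, Fin.sum_univ_succ]
  have h1 : ∀ i : Fin k, ((build a c r s D).submatrix Fin.succ (Fin.succAbove 0)) i.succ 0 = 0 := by
    intro i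
    rfl
  rw [Finset.sum_eq_zero (fun j _ => by rw [h1]; ring), add_zero]
  have h11 : ((build a c r s D).submatrix Fin.succ (Fin.succAbove 0)) 0 0 = a := rfl
  rw [h11]
  have hD : (((build a c r s D).submatrix Fin.succ (Fin.succAbove 0)).submatrix (Fin.succAbove 0) Fin.succ) = D := by
    ext i j
    rfl
  rw [hD]
  simp
  ring

theorem E10_mul {k : ℕ} (X : Matrix (Fin (k+2)) (Fin (k+2)) F) (i j : Fin (k+2)) :
    (E10 k F * X) i j = if i = 1 then X 0 j else 0 := by
  classical
  rw [Matrix.mul_apply]
  unfold E10
  simp only [Matrix.of_apply]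
  by_cases hi : i = 1
  · rw [if_pos hi, Finset.sum_eq_single 0]
    · simp [hi]
    · intro l _ hl
      rw [if_neg (fun h => hl h.2), zero_mul]
    · intro h; exact absurd (Finset.mem_univ _) h
  · rw [if_neg hi]
    apply Finset.sum_eq_zero
    intro l _
    rw [if_neg (fun h => hi h.1), zero_mul]

theorem mul_E10 {k : ℕ} (X : Matrix (Fin (k+2)) (Fin (k+2)) F) (i j : Fin (k+2)) :
    (X * E10 k F) i j = if j = 0 then X i 1 else 0 := by
  classical
  rw [Matrix.mul_apply]
  unfold E10
  simp only [Matrix.of_apply]
  by_cases hj : j = 0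
  · rw [if_pos hj, Finset.sum_eq_single 1]
    · simp [hj]
    · intro l _ hl
      rw [if_neg (fun h => hl h.1), mul_zero]
    · intro h; exact absurd (Finset.mem_univ _) h
  · rw [if_neg hj]
    apply Finset.sum_eq_zero
    intro l _
    rw [if_neg (fun h => hj h.2), mul_zero]

theorem build_comm {k : ℕ} (a c : F) (r s : Fin k → F) (D : Matrix (Fin k) (Fin k) F) :
    build a c r s D * E10 k F = E10 k F * build a c r s D := by
  ext i j
  rw [E10_mul, mul_E10]
  refine Fin.cases ?_ (fun i => ?_) i
  · refine Fin.cases ?_ (fun j => ?_) j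
    · rfl
    · rfl
  · refine Fin.cases ?_ (fun i => ?_) i
    · refine Fin.cases ?_ (fun j => ?_) j
      · rfl
      · refine Fin.cases ?_ (fun j => ?_) j
        · rfl
        · rfl
    · refine Fin.cases ?_ (fun j => ?_) j
      · rw [if_pos rfl, if_neg]
        · rfl
        · intro h
          have := congrArg Fin.val h
          simp at this
      · rw [if_neg (Fin.succ_ne_zero _), if_neg]
        intro h
        have := congrArg Fin.val h
        simp at this

theorem eq_build {k : ℕ} (X : Matrix (Fin (k+2)) (Fin (k+2)) F)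
    (hX : X * E10 k F = E10 k F * X) :
    X = build (X 0 0) (X 1 0) (fun j => X 1 j.succ.succ) (fun i => X i.succ.succ 0)
      (X.submatrix (fun i => i.succ.succ) (fun j => j.succ.succ)) := by
  have h := fun i j => congrFun (congrFun hX i) j
  simp only [E10_mul, mul_E10] at h
  ext i j
  refine Fin.cases ?_ (fun i => ?_) i
  · refine Fin.cases ?_ (fun j => ?_) j
    · rfl
    · have := h 1 j.succ
      rw [if_neg (Fin.succ_ne_zero _), if_pos rfl] at this
      rw [← this]
      refine Fin.cases ?_ (fun j => ?_) j
      · rfl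
      · rfl
  · refine Fin.cases ?_ (fun i => ?_) i
    · refine Fin.cases ?_ (fun j => ?_) j
      · rfl
      · refine Fin.cases ?_ (fun j => ?_) j
        · have := h 1 0
          rw [if_pos rfl, if_pos rfl] at this
          exact this
        · rfl
    · refine Fin.cases ?_ (fun j => ?_) j
      · rfl
      · refine Fin.cases ?_ (fun j => ?_) j
        · have := h i.succ.succ 0
          rw [if_pos rfl, if_neg] at this
          · exact this
          · intro h
            have := congrArg Fin.val h
            simp at this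
        · rfl

end Cfsg.Agent.Lib.Helper4_TransvCent0
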