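import Mathlib
import Cfsg.Prelude.Def_ClassicalGeometry
import Cfsg.Agent.Lib.Helper4_TransvCent0

namespace Cfsg.Agent.Lib.Helper4_TransvCent1
open Module Matrix Cfsg.Agent.Lib.Helper4_Transv1 Cfsg.Agent.Lib.Helper4_TransvCent0

variable {F : Type*} [Field F]

theorem T_det (k : ℕ) : (1 + E10 k F).det ≠ 0 := by
  have : (1 + E10 k F) * (1 - E10 k F) = 1 := by
    have hsq : E10 k F * E10 k F = 0 := by
      ext i j
      rw [E10_mul]
      by_cases hi : i = 1
      · rw [if_pos hi]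
        unfold E10
        simp
      · rw [if_neg hi]; rfl
    rw [Matrix.add_mul, Matrix.mul_sub, Matrix.mul_sub, hsq]
    simp
  intro h
  have h2 := congrArg Matrix.det this
  rw [Matrix.det_mul, h, zero_mul, Matrix.det_one] at h2
  exact zero_ne_one h2

/-- the standard transvection -/
noncomputable def Tst (k : ℕ) (F : Type*) [Field F] : GL (Fin (k+2)) F :=
  Matrix.GeneralLinearGroup.mkOfDetNeZero (1 + E10 k F) (T_det k)

theorem mem_cent_iff {k : ℕ} (X : GL (Fin (k+2)) F) :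
    X ∈ Subgroup.centralizer {Tst k F} ↔
      (X : Matrix (Fin (k+2)) (Fin (k+2)) F) * E10 k F = E10 k F * X := by
  rw [Subgroup.mem_centralizer_singleton_iff]
  constructor
  · intro h
    have h2 := congrArg (fun Y : GL (Fin (k+2)) F => (Y : Matrix (Fin (k+2)) (Fin (k+2)) F)) h
    simp only [Units.val_mul] at h2
    change (X : Matrix (Fin (k+2)) (Fin (k+2)) F) * (1 + E10 k F) = (1 + E10 k F) * X at h2
    rw [Matrix.mul_add, Matrix.add_mul, Matrix.mul_one, Matrix.one_mul] at h2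
    exact add_left_cancel h2
  · intro h
    apply Units.ext
    simp only [Units.val_mul]
    change (X : Matrix (Fin (k+2)) (Fin (k+2)) F) * (1 + E10 k F) = (1 + E10 k F) * X
    rw [Matrix.mul_add, Matrix.add_mul, Matrix.mul_one, Matrix.one_mul, h]

/-- parameter type -/
abbrev Par (k : ℕ) (F : Type*) [Field F] := Fˣ × F × (Fin k → F) × (Fin k → F) × GL (Fin k) F

theorem bld_det {k : ℕ} (p : Par k F) :
    (build (p.1 : F) p.2.1 p.2.2.1 p.2.2.2.1 (p.2.2.2.2 : Matrix (Fin k) (Fin k) F)).det ≠ 0 := by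
  rw [det_build]
  have h1 : (p.1 : F) ≠ 0 := p.1.ne_zero
  have h2 : (p.2.2.2.2 : Matrix (Fin k) (Fin k) F).det ≠ 0 :=
    Matrix.GeneralLinearGroup.det_ne_zero _
  exact mul_ne_zero (mul_ne_zero h1 h1) h2

noncomputable def bld {k : ℕ} (p : Par k F) : GL (Fin (k+2)) F :=
  Matrix.GeneralLinearGroup.mkOfDetNeZero
    (build (p.1 : F) p.2.1 p.2.2.1 p.2.2.2.1 (p.2.2.2.2 : Matrix (Fin k) (Fin k) F)) (bld_det p)

theorem bld_val {k : ℕ} (p : Par k F) :
    ((bld p : GL (Fin (k+2)) F) : Matrix (Fin (k+2)) (Fin (k+2)) F) =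
      build (p.1 : F) p.2.1 p.2.2.1 p.2.2.2.1 (p.2.2.2.2 : Matrix (Fin k) (Fin k) F) := rfl

theorem bld_mem {k : ℕ} (p : Par k F) : bld p ∈ Subgroup.centralizer {Tst k F} := by
  rw [mem_cent_iff, bld_val]
  exact build_comm _ _ _ _ _

theorem bld_inj {k : ℕ} : Function.Injective (bld : Par k F → GL (Fin (k+2)) F) := by
  intro p p' h
  have h2 := congrArg (fun Y : GL (Fin (k+2)) F => (Y : Matrix (Fin (k+2)) (Fin (k+2)) F)) h
  simp only [bld_val] at h2
  have e := fun i j => congrFun (congrFun h2 i) j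
  obtain ⟨a, c, r, s, D⟩ := p
  obtain ⟨a', c', r', s', D'⟩ := p'
  have h1 : a = a' := Units.ext (e 0 0)
  have h2 : c = c' := e 1 0
  have h3 : r = r' := funext (fun j => e 1 j.succ.succ)
  have h4 : s = s' := funext (fun i => e i.succ.succ 0)
  have h5 : D = D' := by
    apply Units.ext
    ext i j
    exact e i.succ.succ j.succ.succ
  rw [h1, h2, h3, h4, h5]

theorem bld_surj {k : ℕ} (X : GL (Fin (k+2)) F) (hX : X ∈ Subgroup.centralizer {Tst k F}) :
    ∃ p : Par k F, bld p = X := by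
  rw [mem_cent_iff] at hX
  have hb := eq_build _ hX
  have hdet : (X : Matrix (Fin (k+2)) (Fin (k+2)) F).det ≠ 0 := Matrix.GeneralLinearGroup.det_ne_zero _
  rw [hb, det_build] at hdet
  have ha : (X : Matrix (Fin (k+2)) (Fin (k+2)) F) 0 0 ≠ 0 := by
    intro h; rw [h] at hdet; simp at hdet
  have hD : ((X : Matrix (Fin (k+2)) (Fin (k+2)) F).submatrix (fun i : Fin k => i.succ.succ) (fun j : Fin k => j.succ.succ)).det ≠ 0 := by
    intro h; rw [h] at hdet; simp at hdet
  refine ⟨(Units.mk0 _ ha, (X : Matrix (Fin (k+2)) (Fin (k+2)) F) 1 0, (fun j => (X : Matrix (Fin (k+2)) (Fin (k+2)) F) 1 j.succ.succ), (fun i => (X : Matrix (Fin (k+2)) (Fin (k+2)) F) i.succ.succ 0), Matrix.GeneralLinearGroup.mkOfDetNeZero _ hD), ?_⟩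
  apply Units.ext
  rw [bld_val]
  exact hb.symm

theorem card_cent_std {k : ℕ} [Fintype F] :
    Nat.card (Subgroup.centralizer {Tst k F}) = Nat.card (Par k F) := by
  symm
  apply Nat.card_congr
  refine Equiv.ofBijective (fun p => ⟨bld p, bld_mem p⟩) ⟨?_, ?_⟩
  · intro p p' h
    exact bld_inj (congrArg Subtype.val h)
  · rintro ⟨X, hX⟩
    obtain ⟨p, hp⟩ := bld_surj X hX
    exact ⟨p, Subtype.ext hp⟩

theorem card_par {k : ℕ} [Fintype F] :
    Nat.card (Par k F) = (Fintype.card F - 1) * (Fintype.card F * (Fintype.card F ^ k * (Fintype.card F ^ k *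
      ∏ i : Fin k, (Fintype.card F ^ k - Fintype.card F ^ (i : ℕ))))) := by
  classical
  unfold Par
  rw [Nat.card_prod, Nat.card_prod, Nat.card_prod, Nat.card_prod, Matrix.card_GL_field]
  rw [Nat.card_eq_fintype_card, Nat.card_eq_fintype_card, Nat.card_eq_fintype_card, Fintype.card_units]
  simp

end Cfsg.Agent.Lib.Helper4_TransvCent1
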