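import Mathlib
import Cfsg.Prelude.Def_ClassicalGeometry
import Cfsg.Agent.Lib.Helper4_TransvCent1

namespace Cfsg.Agent.Lib.Helper4_TransvCent2
open Module Matrix Cfsg.Agent.Lib.Helper4_Transv1 Cfsg.Agent.Lib.Helper4_TransvCent0 Cfsg.Agent.Lib.Helper4_TransvCent1

variable {F : Type*} [Field F]

theorem card_centralizer_conj {G : Type*} [Group G] (g x : G) :
    Nat.card (Subgroup.centralizer {g * x * g⁻¹}) = Nat.card (Subgroup.centralizer {x}) := by
  symm
  apply Nat.card_congr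
  refine Equiv.subtypeEquiv (MulAut.conj g).toEquiv ?_
  intro y
  simp only [Subgroup.mem_centralizer_singleton_iff, MulEquiv.toEquiv_eq_coe, EquivLike.coe_coe, MulAut.conj_apply]
  constructor
  · intro h
    calc g * y * g⁻¹ * (g * x * g⁻¹) = g * (y * x) * g⁻¹ := by group
      _ = g * (x * y) * g⁻¹ := by rw [h]
      _ = g * x * g⁻¹ * (g * y * g⁻¹) := by group
  · intro h
    have : g * (y * x) * g⁻¹ = g * (x * y) * g⁻¹ := by
      calc g * (y * x) * g⁻¹ = g * y * g⁻¹ * (g * x * g⁻¹) := by group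
        _ = g * x * g⁻¹ * (g * y * g⁻¹) := h
        _ = g * (x * y) * g⁻¹ := by group
    exact mul_left_cancel (mul_right_cancel this)

theorem main {k : ℕ} [Fintype F] (t : GL (Fin (k+2)) F)
    (ht : Cfsg.IsTransvection (t : Matrix (Fin (k+2)) (Fin (k+2)) F)) :
    Nat.card (Subgroup.centralizer ({t} : Set (GL (Fin (k+2)) F))) =
      (Fintype.card F - 1) * (Fintype.card F * (Fintype.card F ^ k * (Fintype.card F ^ k *
      ∏ i : Fin k, (Fintype.card F ^ k - Fintype.card F ^ (i : ℕ))))) := by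
  obtain ⟨Q, hQ, hN⟩ := conj_E10 _ ht.1 ht.2
  set Qg : GL (Fin (k+2)) F := Matrix.GeneralLinearGroup.mkOfDetNeZero Q hQ with hQg
  have ht2 : t = Qg * Tst k F * Qg⁻¹ := by
    rw [eq_mul_inv_iff_mul_eq]
    apply Units.ext
    simp only [Units.val_mul]
    change (t : Matrix (Fin (k+2)) (Fin (k+2)) F) * Q = Q * (1 + E10 k F)
    rw [Matrix.mul_add, Matrix.mul_one, ← hN, Matrix.sub_mul, Matrix.one_mul]
    abel
  rw [ht2, card_centralizer_conj, card_cent_std, card_par]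

theorem main' {q n : ℕ} [Fintype F] (hF : Fintype.card F = q) (hn : 2 ≤ n) (t : GL (Fin n) F)
    (ht : Cfsg.IsTransvection (t : Matrix (Fin n) (Fin n) F)) :
    Nat.card ↥(Subgroup.centralizer ({t} : Set (GL (Fin n) F))) =
      q ^ (2 * n - 3) * (q - 1) * ∏ i : Fin (n - 2), (q ^ (n - 2) - q ^ (i : ℕ)) := by
  obtain ⟨k, rfl⟩ := Nat.exists_eq_add_of_le' hn
  rw [main t ht, hF]
  have h1 : 2 * (k + 2) - 3 = 2 * k + 1 := by omega
  rw [h1]
  show _ = q ^ (2 * k + 1) * (q - 1) * ∏ i : Fin k, (q ^ k - q ^ (i : ℕ))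
  ring

end Cfsg.Agent.Lib.Helper4_TransvCent2
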