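import Mathlib
import Cfsg.Agent.Lib.Helper4_SL2Order4
import Cfsg.Agent.Lib.Helper4_KleinCount
import Cfsg.Agent.Lib.Helper7_Basic
import Cfsg.Agent.Lib.Helper4_TransvCent2

namespace Cfsg.Agent.Lib.Helper4_PSL2Klein
open Matrix Cfsg.Agent.Lib.Helper4_GL2Classes0 Cfsg.Agent.Lib.Helper4_SL2Classes
  Cfsg.Agent.Lib.Helper4_SL2Card Cfsg.Agent.Lib.Helper4_SL2Cent Cfsg.Agent.Lib.Helper4_SL2Odd
  Cfsg.Agent.Lib.Helper4_PSL2ClassOdd Cfsg.Agent.Lib.Helper4_SL2Order4
  Cfsg.Agent.Lib.Helper4_KleinCount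

variable {F : Type*} [Field F]

theorem sq_of_trace_zero (b : Matrix.SpecialLinearGroup (Fin 2) F)
    (ht : (b : Matrix (Fin 2) (Fin 2) F).trace = 0) : b * b = N1 := by
  apply Subtype.ext
  rw [Matrix.SpecialLinearGroup.coe_mul, N1_val]
  have hdet := b.det_coe
  rw [Matrix.det_fin_two] at hdet
  rw [Matrix.trace_fin_two] at ht
  ext i j
  fin_cases i <;> fin_cases j <;> simp [Matrix.mul_apply, Fin.sum_univ_two]
  · linear_combination (b : Matrix (Fin 2) (Fin 2) F) 0 0 * ht - hdet
  · linear_combination (b : Matrix (Fin 2) (Fin 2) F) 0 1 * ht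
  · linear_combination (b : Matrix (Fin 2) (Fin 2) F) 1 0 * ht
  · linear_combination (b : Matrix (Fin 2) (Fin 2) F) 1 1 * ht - hdet

theorem sq_of_anti (h2 : (2 : F) ≠ 0) (a b : Matrix.SpecialLinearGroup (Fin 2) F)
    (hab : b * a * b⁻¹ = N1 * a) : b * b = N1 := by
  apply sq_of_trace_zero
  have h1 : a * b * a⁻¹ = N1 * b := by
    have e1 : b * a = N1 * a * b := by rw [← hab]; group
    have e2 : a * b = N1 * (b * a) := by
      rw [e1, ← mul_assoc, ← mul_assoc, N1_mul_N1, one_mul]
    rw [e2, mul_assoc, mul_assoc, mul_inv_cancel, mul_one]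
  have h3 : ((a * b * a⁻¹ : Matrix.SpecialLinearGroup (Fin 2) F) : Matrix (Fin 2) (Fin 2) F).trace =
      (b : Matrix (Fin 2) (Fin 2) F).trace := by
    rw [Matrix.SpecialLinearGroup.coe_mul, Matrix.trace_mul_comm, ← Matrix.SpecialLinearGroup.coe_mul,
      ← mul_assoc, inv_mul_cancel, one_mul]
  rw [h1, N1_mul_val, Matrix.trace_neg] at h3
  have : (2 : F) * (b : Matrix (Fin 2) (Fin 2) F).trace = 0 := by linear_combination -h3
  rcases mul_eq_zero.mp this with h | h
  · exact absurd h h2
  · exact h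

theorem mk_eq_one_iff (g : Matrix.SpecialLinearGroup (Fin 2) F) :
    (QuotientGroup.mk g : Matrix.ProjectiveSpecialLinearGroup (Fin 2) F) = 1 ↔ g = 1 ∨ g = N1 := by
  rw [QuotientGroup.eq_one_iff, mem_center_iff']

theorem kpair_iff (h2 : (2 : F) ≠ 0) (a b : Matrix.SpecialLinearGroup (Fin 2) F) :
    IsKPair ((QuotientGroup.mk a : Matrix.ProjectiveSpecialLinearGroup (Fin 2) F),
      (QuotientGroup.mk b : Matrix.ProjectiveSpecialLinearGroup (Fin 2) F)) ↔
    a * a = N1 ∧ b * a * b⁻¹ = N1 * a := by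
  have hN1 := N1_ne_one h2
  constructor
  · rintro ⟨h1, h2', h3, h4, h5, h6⟩
    simp only at h1 h2' h3 h4 h5 h6
    rw [← QuotientGroup.mk_mul, mk_eq_one_iff] at h1 h2'
    rw [Ne, mk_eq_one_iff] at h3 h4
    have ha : a * a = N1 := by
      rcases h1 with h | h
      · exact absurd (sq_eq_one_SL h2 a h) h3
      · exact h
    have hb : b * b = N1 := by
      rcases h2' with h | h
      · exact absurd (sq_eq_one_SL h2 b h) h4
      · exact h
    refine ⟨ha, ?_⟩
    rw [← QuotientGroup.mk_mul, ← QuotientGroup.mk_mul, QuotientGroup.eq, mem_center_iff'] at h6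
    rcases h6 with h | h
    · exfalso
      have hc : a * b = b * a := by
        have := congrArg (fun x => a * b * x) h
        simp only [mul_inv_cancel_left, mul_one] at this
        exact this.symm
      apply h5
      rw [QuotientGroup.eq, mem_center_iff']
      -- (a⁻¹ b)^2 = 1
      have hsq : (a⁻¹ * b) * (a⁻¹ * b) = 1 := by
        have hc' : b * a⁻¹ = a⁻¹ * b := by
          have : a * (b * a⁻¹) = a * (a⁻¹ * b) := by
            rw [← mul_assoc, hc, mul_assoc, mul_inv_cancel, mul_one, mul_inv_cancel_left]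
          exact mul_left_cancel this
        have hai : a⁻¹ * a⁻¹ = N1 := by
          rw [← _root_.mul_inv_rev, ha]
          exact inv_eq_of_mul_eq_one_left N1_mul_N1
        calc a⁻¹ * b * (a⁻¹ * b) = a⁻¹ * (b * a⁻¹) * b := by group
          _ = a⁻¹ * (a⁻¹ * b) * b := by rw [hc']
          _ = (a⁻¹ * a⁻¹) * (b * b) := by group
          _ = 1 := by rw [hai, hb, N1_mul_N1]
      exact sq_eq_one_SL h2 _ hsq
    · -- (a b)⁻¹ (b a) = N1
      have e : b * a = a * b * N1 := by
        rw [← h]; group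
      rw [e, ← N1_comm, mul_assoc, mul_assoc, mul_inv_cancel, mul_one]
  · rintro ⟨ha, hab⟩
    have hb := sq_of_anti h2 a b hab
    refine ⟨?_, ?_, ?_, ?_, ?_, ?_⟩
    · show (QuotientGroup.mk a : Matrix.ProjectiveSpecialLinearGroup (Fin 2) F) * QuotientGroup.mk a = 1
      rw [← QuotientGroup.mk_mul, mk_eq_one_iff]
      right; exact ha
    · show (QuotientGroup.mk b : Matrix.ProjectiveSpecialLinearGroup (Fin 2) F) * QuotientGroup.mk b = 1
      rw [← QuotientGroup.mk_mul, mk_eq_one_iff]
      right; exact hb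
    · show (QuotientGroup.mk a : Matrix.ProjectiveSpecialLinearGroup (Fin 2) F) ≠ 1
      rw [Ne, mk_eq_one_iff]
      rintro (rfl | rfl)
      · rw [mul_one] at ha; exact hN1 ha.symm
      · rw [N1_mul_N1] at ha; exact hN1 ha.symm
    · show (QuotientGroup.mk b : Matrix.ProjectiveSpecialLinearGroup (Fin 2) F) ≠ 1
      rw [Ne, mk_eq_one_iff]
      rintro (rfl | rfl)
      · rw [mul_one] at hb; exact hN1 hb.symm
      · rw [N1_mul_N1] at hb; exact hN1 hb.symm
    · show (QuotientGroup.mk a : Matrix.ProjectiveSpecialLinearGroup (Fin 2) F) ≠ QuotientGroup.mk b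
      rw [Ne, QuotientGroup.eq, mem_center_iff']
      rintro (h | h)
      · have : b = a := by
          have := congrArg (fun x => a * x) h
          simp only [mul_inv_cancel_left, mul_one] at this
          exact this
        rw [this, mul_inv_cancel_right] at hab
        exact N1_mul_ne h2 a hab.symm
      · have : b = a * N1 := by
          have := congrArg (fun x => a * x) h
          simp only [mul_inv_cancel_left] at this
          exact this
        rw [this] at hab
        have e : a * N1 * a * (a * N1)⁻¹ = a := by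
          rw [mul_inv_eq_iff_eq_mul, mul_assoc a N1 a, N1_comm a]
        rw [e] at hab
        exact N1_mul_ne h2 a hab.symm
    · show (QuotientGroup.mk a : Matrix.ProjectiveSpecialLinearGroup (Fin 2) F) * QuotientGroup.mk b =
        QuotientGroup.mk b * QuotientGroup.mk a
      rw [← QuotientGroup.mk_mul, ← QuotientGroup.mk_mul, QuotientGroup.eq, mem_center_iff']
      right
      have e : b * a = N1 * a * b := by rw [← hab]; group
      rw [e, mul_assoc N1, N1_comm, ← mul_assoc, inv_mul_cancel, one_mul]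

variable [Fintype F]

theorem card_anti_fiber (hodd : Odd (Fintype.card F)) (a : Matrix.SpecialLinearGroup (Fin 2) F)
    (ha : a * a = N1) :
    Nat.card {b : Matrix.SpecialLinearGroup (Fin 2) F // b * a * b⁻¹ = N1 * a} =
      Nat.card (Subgroup.centralizer ({a} : Set (Matrix.SpecialLinearGroup (Fin 2) F))) := by
  have ha' : (N1 * a) * (N1 * a) = N1 := by
    rw [mul_assoc, ← mul_assoc a, ← N1_comm a, mul_assoc, ← mul_assoc, N1_mul_N1, one_mul, ha]
  have hconj : IsConj a (N1 * a) :=
    (conj_C0_of_sq hodd a ha).trans (conj_C0_of_sq hodd _ ha').symm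
  obtain ⟨w, hw⟩ := isConj_iff.mp hconj
  apply Nat.card_congr
  refine
    { toFun := fun b => ⟨w⁻¹ * b.1, ?_⟩
      invFun := fun c => ⟨w * c.1, ?_⟩
      left_inv := ?_
      right_inv := ?_ }
  · rw [mem_centralizer_iff_conj]
    have hb := b.2
    calc w⁻¹ * b.1 * a * (w⁻¹ * b.1)⁻¹ = w⁻¹ * (b.1 * a * b.1⁻¹) * w := by group
      _ = w⁻¹ * (w * a * w⁻¹) * w := by rw [hb, hw]
      _ = a := by group
  · have hc := (mem_centralizer_iff_conj a c.1).mp c.2
    calc w * c.1 * a * (w * c.1)⁻¹ = w * (c.1 * a * c.1⁻¹) * w⁻¹ := by group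
      _ = N1 * a := by rw [hc, hw]
  · intro b
    apply Subtype.ext
    show w * (w⁻¹ * b.1) = b.1
    rw [mul_inv_cancel_left]
  · intro c
    apply Subtype.ext
    show w⁻¹ * (w * c.1) = c.1
    rw [inv_mul_cancel_left]

theorem card_anti (hodd : Odd (Fintype.card F)) :
    Nat.card {p : Matrix.SpecialLinearGroup (Fin 2) F × Matrix.SpecialLinearGroup (Fin 2) F //
      p.1 * p.1 = N1 ∧ p.2 * p.1 * p.2⁻¹ = N1 * p.1} =
    Nat.card (Matrix.SpecialLinearGroup (Fin 2) F) := by
  classical
  have e : {p : Matrix.SpecialLinearGroup (Fin 2) F × Matrix.SpecialLinearGroup (Fin 2) F //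
      p.1 * p.1 = N1 ∧ p.2 * p.1 * p.2⁻¹ = N1 * p.1} ≃
      Σ a : {a : Matrix.SpecialLinearGroup (Fin 2) F // a * a = N1},
        {b : Matrix.SpecialLinearGroup (Fin 2) F // b * a.1 * b⁻¹ = N1 * a.1} :=
    { toFun := fun p => ⟨⟨p.1.1, p.2.1⟩, ⟨p.1.2, p.2.2⟩⟩
      invFun := fun s => ⟨(s.1.1, s.2.1), s.1.2, s.2.2⟩
      left_inv := fun p => rfl
      right_inv := fun s => rfl }
  rw [Nat.card_congr e, Nat.card_sigma]
  have h0 : (C' (0 : F)) * (C' (0 : F)) = N1 := by
    apply sq_of_trace_zero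
    show (compMat (0 : F) 1).trace = 0
    rw [compMat_trace]
  have hfib : ∀ a : {a : Matrix.SpecialLinearGroup (Fin 2) F // a * a = N1},
      Nat.card {b : Matrix.SpecialLinearGroup (Fin 2) F // b * a.1 * b⁻¹ = N1 * a.1} =
      Nat.card (Subgroup.centralizer ({C' (0 : F)} : Set (Matrix.SpecialLinearGroup (Fin 2) F))) := by
    intro a
    rw [card_anti_fiber hodd a.1 a.2]
    obtain ⟨c, hc⟩ := isConj_iff.mp (conj_C0_of_sq hodd a.1 a.2)
    rw [← hc, Cfsg.Agent.Lib.Helper4_TransvCent2.card_centralizer_conj]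
  simp only [hfib, Finset.sum_const, Finset.card_univ, smul_eq_mul]
  have hcls : Fintype.card {a : Matrix.SpecialLinearGroup (Fin 2) F // a * a = N1} =
      (Subgroup.centralizer ({C' (0 : F)} : Set (Matrix.SpecialLinearGroup (Fin 2) F))).index := by
    rw [← Cfsg.Agent.Lib.Helper7_Basic.card_conj_class, ← Nat.card_eq_fintype_card]
    apply Nat.card_congr
    refine Equiv.subtypeEquivRight ?_
    intro y
    constructor
    · intro hy
      exact conj_C0_of_sq hodd y hy
    · intro hy
      obtain ⟨c, hc⟩ := isConj_iff.mp hy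
      have hy' : y = c⁻¹ * C' (0 : F) * c := by rw [← hc]; group
      rw [hy']
      calc c⁻¹ * C' (0 : F) * c * (c⁻¹ * C' (0 : F) * c) = c⁻¹ * (C' (0 : F) * C' (0 : F)) * c := by
            group
        _ = N1 := by rw [h0, ← N1_comm c⁻¹, mul_assoc, inv_mul_cancel, mul_one]
  rw [hcls, Subgroup.index_mul_card]

omit [Fintype F] in
theorem card_center_SL2 (h2 : (2 : F) ≠ 0) :
    Nat.card (Subgroup.center (Matrix.SpecialLinearGroup (Fin 2) F)) = 2 := by
  classical
  have : ((Subgroup.center (Matrix.SpecialLinearGroup (Fin 2) F) :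
      Set (Matrix.SpecialLinearGroup (Fin 2) F))) =
      ({1, N1} : Finset (Matrix.SpecialLinearGroup (Fin 2) F)) := by
    ext A
    rw [SetLike.mem_coe, mem_center_iff']
    simp
  rw [← SetLike.coe_sort_coe, Nat.card_coe_set_eq, this, Set.ncard_coe_finset,
    Finset.card_pair (N1_ne_one h2).symm]

theorem S0807_main {q : ℕ} (hF : Fintype.card F = q) (hodd : Odd q) :
    12 * Nat.card {V : Subgroup (Matrix.ProjectiveSpecialLinearGroup (Fin 2) F) // IsKleinFour V} =
      Nat.card (Matrix.ProjectiveSpecialLinearGroup (Fin 2) F) := by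
  classical
  subst hF
  have h2 := two_ne_zero' hodd
  set π : Matrix.SpecialLinearGroup (Fin 2) F →* Matrix.ProjectiveSpecialLinearGroup (Fin 2) F :=
    QuotientGroup.mk' (Subgroup.center (Matrix.SpecialLinearGroup (Fin 2) F)) with hπ
  have hπs : Function.Surjective π := QuotientGroup.mk'_surjective _
  have hker : π.ker = Subgroup.center (Matrix.SpecialLinearGroup (Fin 2) F) := QuotientGroup.ker_mk' _
  have hPs : Function.Surjective (π.prodMap π) := Prod.map_surjective.mpr ⟨hπs, hπs⟩
  have h1 := card_preimage (π.prodMap π) hPs IsKPair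
  have hk : Nat.card (π.prodMap π).ker = 4 := by
    rw [MonoidHom.ker_prodMap, Nat.card_congr (Subgroup.prodEquiv _ _).toEquiv, Nat.card_prod, hker,
      card_center_SL2 h2]
  rw [hk] at h1
  have h3 : Nat.card {a : Matrix.SpecialLinearGroup (Fin 2) F × Matrix.SpecialLinearGroup (Fin 2) F //
      IsKPair ((π.prodMap π) a)} = Nat.card (Matrix.SpecialLinearGroup (Fin 2) F) := by
    rw [← card_anti hodd]
    apply Nat.card_congr
    refine Equiv.subtypeEquivRight ?_
    rintro ⟨a, b⟩
    exact kpair_iff h2 a b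
  rw [h3, klein_pairs] at h1
  have h4 := Subgroup.card_eq_card_quotient_mul_card_subgroup
    (Subgroup.center (Matrix.SpecialLinearGroup (Fin 2) F))
  rw [card_center_SL2 h2] at h4
  have h5 : Nat.card (Matrix.SpecialLinearGroup (Fin 2) F ⧸
      Subgroup.center (Matrix.SpecialLinearGroup (Fin 2) F)) =
      Nat.card (Matrix.ProjectiveSpecialLinearGroup (Fin 2) F) := rfl
  rw [h5] at h4
  omega

end Cfsg.Agent.Lib.Helper4_PSL2Klein
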