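import Mathlib

/-! A group that embeds in `Perm X` with index two is the alternating group. -/

set_option autoImplicit false

namespace Cfsg.Agent.Helper9AltEmbed

/-- an injective hom into `Perm X` whose image has index two gives an isomorphism with the
alternating group -/
theorem alt_of_embed {G : Type*} [Group G] [Finite G] {X : Type*} [Fintype X] [DecidableEq X]
    (φ : G →* Equiv.Perm X) (hφ : Function.Injective φ) (n : ℕ) (hX : Fintype.card X = n)
    (hcard : Nat.card G * 2 = n.factorial) :
    Nonempty (G ≃* alternatingGroup (Fin n)) := by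
  have h1 : Nat.card φ.range = Nat.card G :=
    (Nat.card_congr (MonoidHom.ofInjective hφ).toEquiv).symm
  have h2 : φ.range.index = 2 := by
    have h3 := Subgroup.card_mul_index φ.range
    rw [h1, Nat.card_eq_fintype_card (α := Equiv.Perm X), Fintype.card_perm, hX, ← hcard] at h3
    have hpos : 0 < Nat.card G := Nat.card_pos
    exact Nat.eq_of_mul_eq_mul_left hpos h3
  have h4 : φ.range = alternatingGroup X := Equiv.Perm.eq_alternatingGroup_of_index_eq_two h2
  let e1 : G ≃* φ.range := MonoidHom.ofInjective hφ
  let e2 : φ.range ≃* alternatingGroup X := MulEquiv.subgroupCongr h4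
  let e3 : alternatingGroup X ≃* alternatingGroup (Fin n) :=
    Equiv.altCongrHom (Fintype.equivFinOfCardEq hX)
  exact ⟨(e1.trans e2).trans e3⟩

end Cfsg.Agent.Helper9AltEmbed
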