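import Mathlib
import Cfsg.Agent.Lib.Helper4_PSL2Klein
import Cfsg.Agent.Lib.Helper4_SL2Card
import Cfsg.Agent.Lib.Helper4_SL2Cent
import Cfsg.Agent.S0252

namespace Cfsg.Agent.Lib.Helper4_PSL2A5
open Matrix Cfsg.Agent.Lib.Helper4_PSL2ClassOdd Cfsg.Agent.Lib.Helper4_PSL2Klein

structure Code where
  a1 : ℤ
  a2 : ℤ
  b1 : ℤ
  b2 : ℤ
  c1 : ℤ
  c2 : ℤ
  d1 : ℤ
  d2 : ℤ
deriving DecidableEq

def z1 (m n m' n' : ℤ) : ℤ := m * m' + n * n'
def z2 (m n m' n' : ℤ) : ℤ := m * n' + n * m' + n * n'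

def imul (u v : Code) : Code :=
  ⟨z1 u.a1 u.a2 v.a1 v.a2 - z1 u.b1 u.b2 v.b1 v.b2 - z1 u.c1 u.c2 v.c1 v.c2 - z1 u.d1 u.d2 v.d1 v.d2,
   z2 u.a1 u.a2 v.a1 v.a2 - z2 u.b1 u.b2 v.b1 v.b2 - z2 u.c1 u.c2 v.c1 v.c2 - z2 u.d1 u.d2 v.d1 v.d2,
   z1 u.a1 u.a2 v.b1 v.b2 + z1 u.b1 u.b2 v.a1 v.a2 + z1 u.c1 u.c2 v.d1 v.d2 - z1 u.d1 u.d2 v.c1 v.c2,
   z2 u.a1 u.a2 v.b1 v.b2 + z2 u.b1 u.b2 v.a1 v.a2 + z2 u.c1 u.c2 v.d1 v.d2 - z2 u.d1 u.d2 v.c1 v.c2,
   z1 u.a1 u.a2 v.c1 v.c2 - z1 u.b1 u.b2 v.d1 v.d2 + z1 u.c1 u.c2 v.a1 v.a2 + z1 u.d1 u.d2 v.b1 v.b2,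
   z2 u.a1 u.a2 v.c1 v.c2 - z2 u.b1 u.b2 v.d1 v.d2 + z2 u.c1 u.c2 v.a1 v.a2 + z2 u.d1 u.d2 v.b1 v.b2,
   z1 u.a1 u.a2 v.d1 v.d2 + z1 u.b1 u.b2 v.c1 v.c2 - z1 u.c1 u.c2 v.b1 v.b2 + z1 u.d1 u.d2 v.a1 v.a2,
   z2 u.a1 u.a2 v.d1 v.d2 + z2 u.b1 u.b2 v.c1 v.c2 - z2 u.c1 u.c2 v.b1 v.b2 + z2 u.d1 u.d2 v.a1 v.a2⟩

def dbl (w : Code) : Code :=
  ⟨2 * w.a1, 2 * w.a2, 2 * w.b1, 2 * w.b2, 2 * w.c1, 2 * w.c2, 2 * w.d1, 2 * w.d2⟩
def ndbl (w : Code) : Code :=
  ⟨-2 * w.a1, -2 * w.a2, -2 * w.b1, -2 * w.b2, -2 * w.c1, -2 * w.c2, -2 * w.d1, -2 * w.d2⟩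

def inorm1 (u : Code) : ℤ :=
  z1 u.a1 u.a2 u.a1 u.a2 + z1 u.b1 u.b2 u.b1 u.b2 + z1 u.c1 u.c2 u.c1 u.c2 + z1 u.d1 u.d2 u.d1 u.d2
def inorm2 (u : Code) : ℤ :=
  z2 u.a1 u.a2 u.a1 u.a2 + z2 u.b1 u.b2 u.b1 u.b2 + z2 u.c1 u.c2 u.c1 u.c2 + z2 u.d1 u.d2 u.d1 u.d2

def IsProd (u v w : Code) : Prop := imul u v = dbl w ∨ imul u v = ndbl w

instance decIsProd (u v w : Code) : Decidable (IsProd u v w) := by unfold IsProd; infer_instance

variable {F : Type*} [Field F]

def Q (s r a b c d : F) : Matrix (Fin 2) (Fin 2) F :=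
  !![a + c * s - d * r, -b + c * r + d * s; b + c * r + d * s, a - c * s + d * r]

theorem Q_mul (s r : F) (hsr : s ^ 2 + r ^ 2 = -1) (a b c d a' b' c' d' : F) :
    Q s r a b c d * Q s r a' b' c' d' =
      Q s r (a * a' - b * b' - c * c' - d * d') (a * b' + b * a' + c * d' - d * c')
        (a * c' - b * d' + c * a' + d * b') (a * d' + b * c' - c * b' + d * a') := by
  ext i j
  fin_cases i <;> fin_cases j <;> simp [Q, Matrix.mul_apply, Fin.sum_univ_two] <;>
    first
    | ring1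
    | linear_combination (c * c' + d * d') * hsr
    | linear_combination (-(c * c' + d * d')) * hsr
    | linear_combination (c * d' - d * c') * hsr
    | linear_combination (-(c * d' - d * c')) * hsr

theorem Q_det (s r : F) (hsr : s ^ 2 + r ^ 2 = -1) (a b c d : F) :
    (Q s r a b c d).det = a ^ 2 + b ^ 2 + c ^ 2 + d ^ 2 := by
  rw [Matrix.det_fin_two]
  simp [Q]
  linear_combination (-(c ^ 2 + d ^ 2)) * hsr

theorem Q_smul (s r k a b c d : F) : Q s r (k * a) (k * b) (k * c) (k * d) = k • Q s r a b c d := by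
  ext i j
  fin_cases i <;> fin_cases j <;> simp [Q] <;> ring

def ev (φ : F) (m n : ℤ) : F := (m : F) + (n : F) * φ

theorem ev_mul (φ : F) (hφ : φ ^ 2 = φ + 1) (m n m' n' : ℤ) :
    ev φ m n * ev φ m' n' = ev φ (z1 m n m' n') (z2 m n m' n') := by
  unfold ev z1 z2
  push_cast
  linear_combination ((n : F) * n') * hφ

theorem ev_add (φ : F) (m n m' n' : ℤ) : ev φ m n + ev φ m' n' = ev φ (m + m') (n + n') := by
  unfold ev; push_cast; ring

theorem ev_sub (φ : F) (m n m' n' : ℤ) : ev φ m n - ev φ m' n' = ev φ (m - m') (n - n') := by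
  unfold ev; push_cast; ring

theorem ev_two (φ : F) (m n : ℤ) : ev φ (2 * m) (2 * n) = 2 * ev φ m n := by
  unfold ev; push_cast; ring

theorem ev_ntwo (φ : F) (m n : ℤ) : ev φ (-2 * m) (-2 * n) = (-2) * ev φ m n := by
  unfold ev; push_cast; ring

def qm (s r φ : F) (u : Code) : Matrix (Fin 2) (Fin 2) F :=
  Q s r (ev φ u.a1 u.a2) (ev φ u.b1 u.b2) (ev φ u.c1 u.c2) (ev φ u.d1 u.d2)

theorem qm_mul (s r φ : F) (hsr : s ^ 2 + r ^ 2 = -1) (hφ : φ ^ 2 = φ + 1) (u v : Code) :
    qm s r φ u * qm s r φ v = qm s r φ (imul u v) := by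
  unfold qm
  rw [Q_mul s r hsr]
  simp only [ev_mul φ hφ, ev_add, ev_sub, imul]

theorem qm_dbl (s r φ : F) (w : Code) : qm s r φ (dbl w) = (2 : F) • qm s r φ w := by
  unfold qm dbl
  simp only [ev_two]
  rw [Q_smul]

theorem qm_ndbl (s r φ : F) (w : Code) : qm s r φ (ndbl w) = (-2 : F) • qm s r φ w := by
  unfold qm ndbl
  simp only [ev_ntwo]
  rw [Q_smul]

theorem qm_det (s r φ : F) (hsr : s ^ 2 + r ^ 2 = -1) (hφ : φ ^ 2 = φ + 1) (u : Code) :
    (qm s r φ u).det = ev φ (inorm1 u) (inorm2 u) := by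
  unfold qm
  rw [Q_det s r hsr]
  simp only [pow_two, ev_mul φ hφ, ev_add, inorm1, inorm2]


section tables

def lookupC : List (ℕ × Code) → ℕ → Code
  | [], _ => ⟨2, 0, 0, 0, 0, 0, 0, 0⟩
  | (k, w) :: t, key => if k = key then w else lookupC t key

def lookupW : List (ℕ × List Bool) → ℕ → List Bool
  | [], _ => []
  | (k, w) :: t, key => if k = key then w else lookupW t key

def codeTable : List (ℕ × Code) :=
  [(430, ⟨2, 0, 0, 0, 0, 0, 0, 0⟩),
   (580, ⟨1, 0, 0, 1, 1, (-1), 0, 0⟩),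
   (355, ⟨1, 0, 0, (-1), (-1), 1, 0, 0⟩),
   (535, ⟨0, 0, 1, 0, 1, (-1), 0, 1⟩),
   (210, ⟨1, 0, 0, 0, 0, (-1), (-1), 1⟩),
   (485, ⟨1, 0, (-1), 0, (-1), 0, (-1), 0⟩),
   (290, ⟨1, 0, 0, 0, 0, 1, 1, (-1)⟩),
   (565, ⟨1, 0, (-1), 1, 0, 0, 0, (-1)⟩),
   (240, ⟨0, 0, 1, (-1), 0, 1, 1, 0⟩),
   (420, ⟨1, 0, 1, 0, 1, 0, 1, 0⟩),
   (195, ⟨1, 0, 1, (-1), 0, 0, 0, 1⟩),
   (345, ⟨0, 0, 0, 1, 1, 0, 1, (-1)⟩),
   (551, ⟨0, 0, 1, (-1), 0, (-1), 1, 0⟩),
   (326, ⟨0, 0, 1, (-1), 0, (-1), (-1), 0⟩),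
   (476, ⟨0, 0, 0, 0, 0, 0, 2, 0⟩),
   (386, ⟨1, 0, 1, 0, (-1), 0, (-1), 0⟩),
   (586, ⟨1, (-1), 1, 0, 0, (-1), 0, 0⟩),
   (111, ⟨0, 1, 0, 0, (-1), 1, (-1), 0⟩),
   (516, ⟨1, (-1), 0, 1, 0, 0, (-1), 0⟩),
   (66, ⟨1, 0, 0, 1, (-1), 1, 0, 0⟩),
   (366, ⟨0, 1, 0, 0, (-1), 1, 1, 0⟩),
   (271, ⟨0, 1, 1, (-1), (-1), 0, 0, 0⟩),
   (446, ⟨1, 0, 1, 0, (-1), 0, 1, 0⟩),
   (96, ⟨1, (-1), 0, 1, 0, 0, 1, 0⟩),
   (402, ⟨1, 0, (-1), 0, 1, 0, 1, 0⟩),
   (577, ⟨0, 1, (-1), 1, 1, 0, 0, 0⟩),
   (227, ⟨1, (-1), 0, (-1), 0, 0, 1, 0⟩),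
   (507, ⟨0, 0, 0, 1, 1, 0, (-1), 1⟩),
   (82, ⟨1, 0, (-1), 1, 0, 0, 0, 1⟩),
   (482, ⟨1, 0, (-1), 0, (-1), 0, 1, 0⟩),
   (142, ⟨0, 0, 0, 1, (-1), 0, (-1), 1⟩),
   (542, ⟨0, 1, (-1), 0, 0, 0, 1, (-1)⟩),
   (117, ⟨0, 1, (-1), 1, (-1), 0, 0, 0⟩),
   (397, ⟨0, 0, 0, 0, 2, 0, 0, 0⟩),
   (47, ⟨1, (-1), 0, 0, 1, 0, 0, 1⟩),
   (222, ⟨1, (-1), 0, 0, (-1), 0, 0, 1⟩),
   (528, ⟨0, 1, 0, 0, 1, (-1), 1, 0⟩),
   (178, ⟨1, 0, 0, (-1), 1, (-1), 0, 0⟩),
   (353, ⟨1, (-1), 0, (-1), 0, 0, (-1), 0⟩),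
   (258, ⟨1, 0, 1, (-1), 0, 0, 0, (-1)⟩),
   (558, ⟨1, 0, 0, 0, 0, (-1), 1, (-1)⟩),
   (108, ⟨0, 0, 1, (-1), 0, 1, (-1), 0⟩),
   (513, ⟨1, (-1), 0, 0, (-1), 0, 0, (-1)⟩),
   (38, ⟨0, 0, 1, 0, (-1), 1, 0, (-1)⟩),
   (238, ⟨1, (-1), (-1), 0, 0, (-1), 0, 0⟩),
   (148, ⟨0, 1, 1, (-1), 1, 0, 0, 0⟩),
   (298, ⟨0, 1, 1, 0, 0, 0, 1, (-1)⟩),
   (73, ⟨0, 0, 0, 1, (-1), 0, 1, (-1)⟩),
   (279, ⟨1, (-1), (-1), 0, 0, 1, 0, 0⟩),
   (429, ⟨1, 0, (-1), 0, 1, 0, (-1), 0⟩),
   (204, ⟨0, 1, 0, 0, 1, (-1), (-1), 0⟩),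
   (384, ⟨1, 0, 1, 0, 1, 0, (-1), 0⟩),
   (59, ⟨1, 0, 0, 0, 0, 1, (-1), 1⟩),
   (334, ⟨0, 0, 1, 0, 1, (-1), 0, (-1)⟩),
   (139, ⟨0, 1, 1, 0, 0, 0, (-1), 1⟩),
   (414, ⟨0, 0, 2, 0, 0, 0, 0, 0⟩),
   (89, ⟨0, 1, (-1), 0, 0, 0, (-1), 1⟩),
   (269, ⟨1, (-1), 0, 0, 1, 0, 0, (-1)⟩),
   (44, ⟨1, (-1), 1, 0, 0, 1, 0, 0⟩),
   (194, ⟨0, 0, 1, 0, (-1), 1, 0, 1⟩)]

def wordTable : List (ℕ × List Bool) :=
  [(430, []),
   (580, [true, false, true, false, false, true, false, true, false, true]),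
   (355, [false, true, false, false, true, false, true, false]),
   (535, [false, true, false, false, true, false, true, false, false]),
   (210, [false, false, true, false, false, true, false, true]),
   (485, [false]),
   (290, [true, false, false, true, false, true, false]),
   (565, [true, false, false, true, false, true, false, false]),
   (240, [true, false, false, true, false, true]),
   (420, [false, false]),
   (195, [false, true, false, false, true, false, true]),
   (345, [false, false, true, false, false, true, false, true, false]),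
   (551, [true, false, true, false, false, true, false, true, false]),
   (326, [true]),
   (476, [false, true, false, false, true, false, true, false, true]),
   (386, [true, false, false, true, false, true, false, true]),
   (586, [true, false, false, true, false, true, false, false, true]),
   (111, [true, false, false, true, false]),
   (516, [false, true, false, false, true, false, true, false, false, true]),
   (66, [false, false, true, false, false, true, false]),
   (366, [false, true]),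
   (271, [false, false, true]),
   (446, [false, false, true, false, false, true, false, true, false, true]),
   (96, [false, true, false, false, true, false]),
   (402, [false, true, false, true, false, false, true]),
   (577, [true, false]),
   (227, [true, false, true, false, false, true, false, true, false, false]),
   (507, [false, false, true, false]),
   (82, [false, false, true, false, true, false, true]),
   (482, [false, false, true, false, true, false, false, true]),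
   (142, [false, true, false, false, true, false, true, false, false, true, false]),
   (542, [false, true, false]),
   (117, [true, false, true, false, true]),
   (397, [true, false, true, false, false, true]),
   (47, [false, true, false, true, false, true]),
   (222, [true, false, false, true, false, true, false, false, true, false]),
   (528, [false, false, true, false, true]),
   (178, [false, false, true, false, true, false]),
   (353, [false, false, true, false, true, false, false]),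
   (258, [false, true, false, true, false, false]),
   (558, [true, false, true]),
   (108, [true, false, true, false, false, true, false, true, false, false, true]),
   (513, [false, true, false, true]),
   (38, [false, true, false, false, true, false, true, false, false, true, false, true]),
   (238, [true, false, true, false]),
   (148, [false, true, false, true, false]),
   (298, [true, false, true, false, false]),
   (73, [true, false, false, true, false, true, false, false, true, false, true]),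
   (279, [true, false, true, false, false, true, false, true]),
   (429, [false, true, false, true, false, false, true, false]),
   (204, [true, false, false]),
   (384, [true, false, true, false, false, true, false]),
   (59, [true, false, false, true]),
   (334, [false, true, false, true, false, false, true, false, true]),
   (139, [false, false, true, false, false]),
   (414, [false, false, true, false, true, false, false, true, false]),
   (89, [false, true, false, false, true]),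
   (269, [false, false, true, false, true, false, false, true, false, true]),
   (44, [false, false, true, false, false, true]),
   (194, [false, true, false, false])]

def pkey (σ : Equiv.Perm (Fin 5)) : ℕ :=
  (σ 0).val + 5 * (σ 1).val + 25 * (σ 2).val + 125 * (σ 3).val

def code (σ : Equiv.Perm (Fin 5)) : Code := lookupC codeTable (pkey σ)
def word (σ : Equiv.Perm (Fin 5)) : List Bool := lookupW wordTable (pkey σ)

def px : Equiv.Perm (Fin 5) := Equiv.swap 0 1 * Equiv.swap 2 3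
def py : Equiv.Perm (Fin 5) := Equiv.swap 1 2 * Equiv.swap 2 4

def pgen (b : Bool) : Equiv.Perm (Fin 5) := if b then px else py

def evalP : List Bool → Equiv.Perm (Fin 5)
  | [] => 1
  | b :: l => evalP l * pgen b

set_option maxRecDepth 1000000 in
theorem key_check : ∀ σ : Equiv.Perm (Fin 5), Equiv.Perm.sign σ = 1 →
    IsProd (code σ) (code px) (code (σ * px)) ∧ IsProd (code σ) (code py) (code (σ * py)) := by
  decide

set_option maxRecDepth 1000000 in
theorem norm_check : ∀ σ : Equiv.Perm (Fin 5), inorm1 (code σ) = 4 ∧ inorm2 (code σ) = 0 := by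
  decide

set_option maxRecDepth 1000000 in
theorem word_check : ∀ σ : Equiv.Perm (Fin 5), Equiv.Perm.sign σ = 1 → evalP (word σ) = σ := by
  decide

theorem code_one : code 1 = ⟨2, 0, 0, 0, 0, 0, 0, 0⟩ := by decide

theorem code_px : code px = ⟨0, 0, 1, (-1), 0, (-1), (-1), 0⟩ := by decide

end tables


section hom
variable (s r φ : F) (hsr : s ^ 2 + r ^ 2 = -1) (hφ : φ ^ 2 = φ + 1) (h2 : (2 : F) ≠ 0)

/-- the matrix of a code -/
def mat (u : Code) : Matrix (Fin 2) (Fin 2) F := (2⁻¹ : F) • qm s r φ u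

include hsr hφ h2 in
theorem mat_det (u : Code) (h1 : inorm1 u = 4) (hn2 : inorm2 u = 0) : (mat s r φ u).det = 1 := by
  unfold mat
  rw [Matrix.det_smul, qm_det s r φ hsr hφ, h1, hn2]
  simp only [Fintype.card_fin, ev]
  push_cast
  field_simp
  ring

include hsr hφ h2 in
theorem mat_mul_of_isProd (u v w : Code) (h : IsProd u v w) :
    mat s r φ u * mat s r φ v = mat s r φ w ∨ mat s r φ u * mat s r φ v = -mat s r φ w := by
  unfold mat
  rw [Matrix.smul_mul, Matrix.mul_smul, qm_mul s r φ hsr hφ]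
  rcases h with h | h
  · left
    rw [h, qm_dbl, smul_smul, smul_smul]
    congr 1
    field_simp
  · right
    rw [h, qm_ndbl, smul_smul, smul_smul, ← neg_smul]
    congr 1
    field_simp

/-- SL₂ element of a permutation -/
def fmat (σ : Equiv.Perm (Fin 5)) : Matrix.SpecialLinearGroup (Fin 2) F :=
  ⟨mat s r φ (code σ), mat_det s r φ hsr hφ h2 _ (norm_check σ).1 (norm_check σ).2⟩

/-- PSL₂ element of a permutation -/
def fpsl (σ : Equiv.Perm (Fin 5)) : Matrix.ProjectiveSpecialLinearGroup (Fin 2) F :=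
  QuotientGroup.mk (fmat s r φ hsr hφ h2 σ)

theorem mk_of_pm (a b c : Matrix.SpecialLinearGroup (Fin 2) F)
    (h : (a : Matrix (Fin 2) (Fin 2) F) * b = c ∨ (a : Matrix (Fin 2) (Fin 2) F) * b = -c) :
    (QuotientGroup.mk a : Matrix.ProjectiveSpecialLinearGroup (Fin 2) F) * QuotientGroup.mk b =
      QuotientGroup.mk c := by
  rw [← QuotientGroup.mk_mul]
  rcases h with h | h
  · congr 1
    apply Subtype.ext
    rw [Matrix.SpecialLinearGroup.coe_mul, h]
  · have : a * b = N1 * c := by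
      apply Subtype.ext
      rw [Matrix.SpecialLinearGroup.coe_mul, h, N1_mul_val]
    rw [this, QuotientGroup.mk_mul, (mk_eq_one_iff N1).mpr (Or.inr rfl), one_mul]

theorem fpsl_step (σ : Equiv.Perm (Fin 5)) (hσ : Equiv.Perm.sign σ = 1) (b : Bool) :
    fpsl s r φ hsr hφ h2 (σ * pgen b) = fpsl s r φ hsr hφ h2 σ * fpsl s r φ hsr hφ h2 (pgen b) := by
  unfold fpsl
  symm
  apply mk_of_pm
  show mat s r φ (code σ) * mat s r φ (code (pgen b)) = mat s r φ (code (σ * pgen b)) ∨
    mat s r φ (code σ) * mat s r φ (code (pgen b)) = -mat s r φ (code (σ * pgen b))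
  obtain ⟨hx, hy⟩ := key_check σ hσ
  cases b
  · exact mat_mul_of_isProd s r φ hsr hφ h2 _ _ _ hy
  · exact mat_mul_of_isProd s r φ hsr hφ h2 _ _ _ hx

theorem sign_pgen (b : Bool) : Equiv.Perm.sign (pgen b) = 1 := by
  cases b <;> decide

theorem sign_evalP (l : List Bool) : Equiv.Perm.sign (evalP l) = 1 := by
  induction l with
  | nil => simp [evalP]
  | cons b l ih => rw [evalP, Equiv.Perm.sign_mul, ih, sign_pgen, one_mul]

theorem fpsl_one : fpsl s r φ hsr hφ h2 1 = 1 := by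
  unfold fpsl
  rw [mk_eq_one_iff]
  left
  apply Subtype.ext
  show mat s r φ (code 1) = 1
  rw [code_one]
  unfold mat qm Q ev
  ext i j
  fin_cases i <;> fin_cases j <;> simp <;> field_simp

theorem fpsl_mul_evalP (l : List Bool) : ∀ σ : Equiv.Perm (Fin 5), Equiv.Perm.sign σ = 1 →
    fpsl s r φ hsr hφ h2 (σ * evalP l) =
      fpsl s r φ hsr hφ h2 σ * fpsl s r φ hsr hφ h2 (evalP l) := by
  induction l with
  | nil =>
    intro σ _
    rw [evalP, mul_one, fpsl_one, mul_one]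
  | cons b l ih =>
    intro σ hσ
    rw [evalP, ← mul_assoc, fpsl_step _ _ _ _ _ _ (σ * evalP l)
      (by rw [Equiv.Perm.sign_mul, hσ, sign_evalP, one_mul]) b, ih σ hσ,
      fpsl_step _ _ _ _ _ _ (evalP l) (sign_evalP l) b, mul_assoc]

theorem fpsl_mul (σ τ : Equiv.Perm (Fin 5)) (hσ : Equiv.Perm.sign σ = 1)
    (hτ : Equiv.Perm.sign τ = 1) :
    fpsl s r φ hsr hφ h2 (σ * τ) = fpsl s r φ hsr hφ h2 σ * fpsl s r φ hsr hφ h2 τ := by
  have := fpsl_mul_evalP s r φ hsr hφ h2 (word τ) σ hσ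
  rwa [word_check τ hτ] at this

/-- the homomorphism from `A₅` -/
noncomputable def icoHom : alternatingGroup (Fin 5) →* Matrix.ProjectiveSpecialLinearGroup (Fin 2) F where
  toFun σ := fpsl s r φ hsr hφ h2 σ.1
  map_one' := fpsl_one s r φ hsr hφ h2
  map_mul' σ τ := fpsl_mul s r φ hsr hφ h2 σ.1 τ.1 (Equiv.Perm.mem_alternatingGroup.mp σ.2)
    (Equiv.Perm.mem_alternatingGroup.mp τ.2)

theorem icoHom_injective : Function.Injective (icoHom s r φ hsr hφ h2) := by
  rw [← MonoidHom.ker_eq_bot_iff]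
  have hsimple : IsSimpleGroup (alternatingGroup (Fin 5)) := alternatingGroup.isSimpleGroup (by simp)
  rcases (icoHom s r φ hsr hφ h2).normal_ker.eq_bot_or_eq_top with h | h
  · exact h
  · exfalso
    have hx : (⟨px, Equiv.Perm.mem_alternatingGroup.mpr (by decide)⟩ : alternatingGroup (Fin 5)) ∈
        (icoHom s r φ hsr hφ h2).ker := by rw [h]; trivial
    rw [MonoidHom.mem_ker] at hx
    change fpsl s r φ hsr hφ h2 px = 1 at hx
    unfold fpsl at hx
    rw [mk_eq_one_iff] at hx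
    have htr : (mat s r φ (code px)) 0 0 + (mat s r φ (code px)) 1 1 = 0 := by
      rw [code_px]
      unfold mat qm Q ev
      simp
      ring
    rcases hx with hx | hx
    · have e00 := congrFun (congrFun (congrArg Subtype.val hx) 0) 0
      have e11 := congrFun (congrFun (congrArg Subtype.val hx) 1) 1
      change mat s r φ (code px) 0 0 = (1 : Matrix (Fin 2) (Fin 2) F) 0 0 at e00
      change mat s r φ (code px) 1 1 = (1 : Matrix (Fin 2) (Fin 2) F) 1 1 at e11
      rw [e00, e11] at htr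
      simp at htr
      apply h2
      linear_combination htr
    · have e00 := congrFun (congrFun (congrArg Subtype.val hx) 0) 0
      have e11 := congrFun (congrFun (congrArg Subtype.val hx) 1) 1
      rw [N1_val] at e00 e11
      change mat s r φ (code px) 0 0 = (-1 : Matrix (Fin 2) (Fin 2) F) 0 0 at e00
      change mat s r φ (code px) 1 1 = (-1 : Matrix (Fin 2) (Fin 2) F) 1 1 at e11
      rw [e00, e11] at htr
      simp at htr
      apply h2
      linear_combination (-1 : F) * htr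

end hom


section main
open Cfsg.Agent.Lib.Helper4_SL2Cent Cfsg.Agent.Lib.Helper4_SL2Card

instance fact5 : Fact (Nat.Prime 5) := ⟨by norm_num⟩

theorem qc5 : ∀ z : ZMod 5, (z = 0 ∨ z = 1 ∨ z = 4) → quadraticChar (ZMod 5) z ≠ -1 := by decide

theorem odd_case [Fintype F] (hc : ringChar F ≠ 2)
    (h5 : Fintype.card F % 5 = 0 ∨ Fintype.card F % 5 = 1 ∨ Fintype.card F % 5 = 4) :
    ∃ H : Subgroup (Matrix.ProjectiveSpecialLinearGroup (Fin 2) F),
      Nonempty (H ≃* alternatingGroup (Fin 5)) := by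
  classical
  have h2 : (2 : F) ≠ 0 := Ring.two_ne_zero hc
  have hp := CharP.char_is_prime F (ringChar F)
  have : NeZero (ringChar F) := ⟨hp.ne_zero⟩
  obtain ⟨a, b, hab⟩ := CharP.sq_add_sq F (ringChar F) (-1)
  have hsr : (a : F) ^ 2 + (b : F) ^ 2 = -1 := by simpa using hab
  have hsq : IsSquare ((5 : ℕ) : F) := by
    rw [FiniteField.isSquare_odd_prime_iff hc (by norm_num : (5 : ℕ) ≠ 2)]
    have hodd := FiniteField.odd_card_of_char_ne_two hc
    have hχ : ZMod.χ₄ (Fintype.card F : ZMod 4) = 1 ∨ ZMod.χ₄ (Fintype.card F : ZMod 4) = -1 := by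
      rw [ZMod.χ₄_nat_eq_if_mod_four]
      have : Fintype.card F % 4 = 1 ∨ Fintype.card F % 4 = 3 := by omega
      rcases this with h | h <;> simp [h, hodd]
    have hq : ((Fintype.card F : ℕ) : ZMod 5) = 0 ∨ ((Fintype.card F : ℕ) : ZMod 5) = 1 ∨
        ((Fintype.card F : ℕ) : ZMod 5) = 4 := by
      rw [← ZMod.natCast_mod (Fintype.card F) 5]
      rcases h5 with h | h | h <;> rw [h]
      · left; rfl
      · right; left; rfl
      · right; right; rfl
    rcases hχ with h | h <;> rcases hq with h' | h' | h' <;> rw [h, h'] <;> apply qc5 <;> decide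
  obtain ⟨t, ht⟩ := hsq
  have ht5 : t * t = 5 := by rw [← ht]; norm_num
  set φ : F := (1 + t) / 2 with hφdef
  have hφ : φ ^ 2 = φ + 1 := by
    rw [hφdef]
    field_simp
    linear_combination ht5
  exact ⟨(icoHom (a : F) b φ hsr hφ h2).range,
    ⟨(MonoidHom.ofInjective (icoHom_injective (a : F) b φ hsr hφ h2)).symm⟩⟩

theorem map_injective {K : Type*} [Field K] (g : K →+* F) :
    Function.Injective (Matrix.SpecialLinearGroup.map (n := Fin 2) g) := by
  intro A B h
  apply Subtype.ext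
  ext i j
  have := congrFun (congrFun (congrArg Subtype.val h) i) j
  simp only [Matrix.SpecialLinearGroup.map_apply_coe, RingHom.mapMatrix_apply, Matrix.map_apply] at this
  exact g.injective this

theorem even_case [Fintype F] [CharP F 2]
    (h5 : 5 ∣ Fintype.card F * (Fintype.card F ^ 2 - 1)) :
    ∃ H : Subgroup (Matrix.ProjectiveSpecialLinearGroup (Fin 2) F),
      Nonempty (H ≃* alternatingGroup (Fin 5)) := by
  classical
  have : Fact (Nat.Prime 2) := ⟨Nat.prime_two⟩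
  let _ : Algebra (ZMod 2) F := ZMod.algebra F 2
  have hcard := FiniteField.pow_finrank_eq_card 2 F
  rw [← hcard] at h5
  set m := Module.finrank (ZMod 2) F with hm
  have hm2 : 2 ∣ m := by
    have hcop : Nat.Coprime 5 (2 ^ m) := by
      apply Nat.Coprime.pow_right; norm_num
    have h1 : 5 ∣ (2 ^ m) ^ 2 - 1 := hcop.dvd_of_dvd_mul_left h5
    have h4 : (2 ^ m) ^ 2 = 4 ^ m := by
      rw [← pow_mul, mul_comm, pow_mul]; norm_num
    rw [h4] at h1
    rcases Nat.even_or_odd m with ⟨k, hk⟩ | ⟨k, hk⟩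
    · exact ⟨k, by omega⟩
    · exfalso
      have h16 : 16 ^ k % 5 = 1 := by rw [Nat.pow_mod]; simp
      have : 4 ^ m = 4 * 16 ^ k := by
        rw [hk, pow_succ, pow_mul]; norm_num; ring
      rw [this] at h1
      omega
  have hdvd : Module.finrank (ZMod 2) (GaloisField 2 2) ∣ Module.finrank (ZMod 2) F := by
    rw [GaloisField.finrank 2 (by norm_num)]; exact hm2
  obtain ⟨g⟩ := FiniteField.nonempty_algHom_of_finrank_dvd hdvd
  have : Fintype (GaloisField 2 2) := Fintype.ofFinite _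
  have hK : Fintype.card (GaloisField 2 2) = 4 := by
    rw [← Nat.card_eq_fintype_card, GaloisField.card 2 2 (by norm_num)]; norm_num
  obtain ⟨e⟩ := Cfsg.Agent.S0252.result hK
  let Φ : alternatingGroup (Fin 5) →* Matrix.ProjectiveSpecialLinearGroup (Fin 2) F :=
    (slEquivPsl (F := F)).toMonoidHom.comp
      ((Matrix.SpecialLinearGroup.map (n := Fin 2) g.toRingHom).comp
        ((slEquivPsl (F := GaloisField 2 2)).symm.toMonoidHom.comp e.symm.toMonoidHom))
  have hΦ : Function.Injective Φ := by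
    intro x y hxy
    have h1 := (slEquivPsl (F := F)).injective hxy
    have h2 := map_injective g.toRingHom h1
    have h3 := (slEquivPsl (F := GaloisField 2 2)).symm.injective h2
    exact e.symm.injective h3
  exact ⟨Φ.range, ⟨(MonoidHom.ofInjective hΦ).symm⟩⟩

theorem S0804_main [Fintype F] {q : ℕ} (hF : Fintype.card F = q) :
    (∃ H : Subgroup (Matrix.ProjectiveSpecialLinearGroup (Fin 2) F),
      Nonempty (H ≃* alternatingGroup (Fin 5))) ↔ 5 ∣ q * (q ^ 2 - 1) := by
  classical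
  constructor
  · rintro ⟨H, ⟨e⟩⟩
    have h60 : Nat.card H = 60 := by
      rw [Nat.card_congr e.toEquiv, Nat.card_eq_fintype_card]
      have := two_mul_card_alternatingGroup (α := Fin 5)
      rw [Fintype.card_perm, Fintype.card_fin] at this
      have h120 : (5 : ℕ).factorial = 120 := by decide
      omega
    have h1 : 60 ∣ Nat.card (Matrix.ProjectiveSpecialLinearGroup (Fin 2) F) := by
      rw [← h60]; exact Subgroup.card_subgroup_dvd_card H
    have h2 := Subgroup.card_eq_card_quotient_mul_card_subgroup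
      (Subgroup.center (Matrix.SpecialLinearGroup (Fin 2) F))
    rw [card_SL2, hF] at h2
    rw [h2]
    exact Dvd.dvd.mul_right (dvd_trans (by norm_num) h1) _
  · intro h5
    by_cases hc : ringChar F = 2
    · have : CharP F 2 := ringChar.of_eq hc
      rw [← hF] at h5
      exact even_case h5
    · apply odd_case hc
      rw [hF]
      have hq1 : 1 ≤ q ^ 2 := by
        have : 0 < q := by rw [← hF]; exact Fintype.card_pos
        exact Nat.one_le_pow _ _ this
      by_contra hcon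
      push Not at hcon
      obtain ⟨c0, c1, c4⟩ := hcon
      have hq5 : q % 5 = 2 ∨ q % 5 = 3 := by omega
      have : q * (q ^ 2 - 1) + q = q ^ 3 := by
        have : q ^ 2 = (q ^ 2 - 1) + 1 := by omega
        calc q * (q ^ 2 - 1) + q = q * ((q ^ 2 - 1) + 1) := by ring
          _ = q * q ^ 2 := by rw [← this]
          _ = q ^ 3 := by ring
      have h3 : q ^ 3 % 5 = q % 5 := by
        rw [← this]; omega
      rw [Nat.pow_mod] at h3
      rcases hq5 with h | h <;> rw [h] at h3 <;> norm_num at h3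

end main

end Cfsg.Agent.Lib.Helper4_PSL2A5
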