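import Mathlib
import Cfsg.Agent.Lib.Helper4_PSL2A5

namespace Cfsg.Agent.Lib.Helper4_PSL211

variable {G : Type*} [Group G]

/-- a proper subgroup of a finite simple group has index `n` with `|G| ∣ n!` -/
theorem card_dvd_factorial_index [Finite G] [IsSimpleGroup G] (K : Subgroup G) (hK : K ≠ ⊤) :
    Nat.card G ∣ (K.index).factorial := by
  classical
  have : Fintype (G ⧸ K) := Fintype.ofFinite _
  let φ : G →* Equiv.Perm (G ⧸ K) := MulAction.toPermHom G (G ⧸ K)
  have hinj : Function.Injective φ := by
    rw [← MonoidHom.ker_eq_bot_iff]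
    rcases φ.normal_ker.eq_bot_or_eq_top with h | h
    · exact h
    · exfalso
      apply hK
      rw [eq_top_iff]
      intro g _
      have hg : g ∈ φ.ker := by rw [h]; trivial
      rw [MonoidHom.mem_ker] at hg
      have h1 : φ g ((1 : G) : G ⧸ K) = ((1 : G) : G ⧸ K) := by rw [hg]; rfl
      change ((g * 1 : G) : G ⧸ K) = _ at h1
      rw [mul_one, QuotientGroup.eq] at h1
      simpa using h1
  have h1 := Subgroup.card_dvd_of_injective φ hinj
  rwa [Nat.card_eq_fintype_card (α := Equiv.Perm (G ⧸ K)), Fintype.card_perm,
    ← Nat.card_eq_fintype_card, ← Subgroup.index_eq_card] at h1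

/-- if an involution `t ∉ K` normalizes `K` then `2 |K|` divides `|G|` -/
theorem two_mul_card_dvd [Finite G] (K : Subgroup G) (t : G) (ht : t * t = 1) (htK : t ∉ K)
    (hn : ∀ k ∈ K, t * k * t⁻¹ ∈ K) : 2 * Nat.card K ∣ Nat.card G := by
  classical
  have htinv : t⁻¹ = t := inv_eq_of_mul_eq_one_left ht
  let L : Subgroup G :=
    { carrier := {g | g ∈ K ∨ g * t ∈ K}
      one_mem' := Or.inl (one_mem K)
      mul_mem' := by
        rintro a b (ha | ha) (hb | hb)
        · exact Or.inl (mul_mem ha hb)
        · right; rw [mul_assoc]; exact mul_mem ha hb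
        · right
          have : a * b * t = (a * t) * (t * b * t⁻¹) := by
            rw [htinv]; simp only [mul_assoc]; rw [← mul_assoc t t, ht, one_mul]
          rw [this]; exact mul_mem ha (hn b hb)
        · left
          have : a * b = (a * t) * (t * (b * t) * t⁻¹) := by
            rw [htinv]
            simp only [mul_assoc]
            rw [ht, mul_one, ← mul_assoc t t, ht, one_mul]
          rw [this]; exact mul_mem ha (hn _ hb)
      inv_mem' := by
        rintro a (ha | ha)
        · exact Or.inl (inv_mem ha)
        · right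
          have : a⁻¹ * t = t * (a * t)⁻¹ * t⁻¹ := by
            rw [htinv, mul_inv_rev, htinv]
            simp only [mul_assoc]
            rw [← mul_assoc t t, ht, one_mul]
          rw [this]; exact hn _ (inv_mem ha) }
  have hKL : K ≤ L := fun g hg => Or.inl hg
  have hcard : Nat.card L = 2 * Nat.card K := by
    have e : L ≃ K ⊕ K :=
      { toFun := fun g => if h : g.1 ∈ K then Sum.inl ⟨g.1, h⟩ else
          Sum.inr ⟨g.1 * t, g.2.resolve_left h⟩
        invFun := fun s => match s with
          | Sum.inl k => ⟨k.1, Or.inl k.2⟩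
          | Sum.inr k => ⟨k.1 * t, Or.inr (by rw [mul_assoc, ht, mul_one]; exact k.2)⟩
        left_inv := by
          intro g
          by_cases h : g.1 ∈ K
          · simp [h]
          · simp only [h, dite_false]
            apply Subtype.ext
            simp only [mul_assoc, ht, mul_one]
        right_inv := by
          rintro (k | k)
          · simp [k.2]
          · have hk : k.1 * t ∉ K := by
              intro h
              apply htK
              have : t = k.1⁻¹ * (k.1 * t) := by rw [inv_mul_cancel_left]
              rw [this]; exact mul_mem (inv_mem k.2) h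
            simp only [hk, dite_false]
            congr 1
            apply Subtype.ext
            simp only [mul_assoc, ht, mul_one] }
    rw [Nat.card_congr e, Nat.card_sum]; ring
  rw [← hcard]
  exact Subgroup.card_subgroup_dvd_card L


theorem two_trans_660 [Finite G] [IsSimpleGroup G] (H : Subgroup G) (hG : Nat.card G = 660)
    (hH : Nat.card H = 60) (hno : ∀ K : Subgroup H, K.index = 1 ∨ 5 ≤ K.index) :
    MulAction.IsMultiplyPretransitive G (G ⧸ H) 2 := by
  classical
  have hidx : H.index = 11 := by
    have := Subgroup.card_mul_index H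
    rw [hH, hG] at this
    omega
  have : Finite (G ⧸ H) := Subgroup.finite_quotient_of_finiteIndex
  have hXcard : Nat.card (G ⧸ H) = 11 := by rw [← Subgroup.index_eq_card, hidx]
  set x₀ : G ⧸ H := ((1 : G) : G ⧸ H) with hx₀
  have hfix0 : ∀ h : H, h • x₀ = x₀ := by
    intro h
    show ((h.1 * 1 : G) : G ⧸ H) = ((1 : G) : G ⧸ H)
    rw [mul_one, QuotientGroup.eq]
    simpa using h.2
  have hHtop : H ≠ ⊤ := by
    intro h; rw [h, Subgroup.index_top] at hidx; omega
  have hHbot : H ≠ ⊥ := by
    intro h; rw [h, Subgroup.card_bot] at hH; omega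
  -- Step 1: only fixed point is x₀
  have hfix : ∀ z : G ⧸ H, (∀ h : H, h • z = z) → z = x₀ := by
    intro z hz
    induction z using QuotientGroup.induction_on with
    | H g =>
      have hconj : ∀ h ∈ H, g⁻¹ * h * g ∈ H := by
        intro h hh
        have := hz ⟨h, hh⟩
        change ((h * g : G) : G ⧸ H) = (g : G ⧸ H) at this
        rw [QuotientGroup.eq] at this
        have h2 := inv_mem this
        rw [mul_inv_rev, inv_inv] at h2
        rwa [mul_assoc]
      have hginv : g⁻¹ ∈ Subgroup.normalizer (H : Set G) := by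
        rw [Subgroup.mem_normalizer_iff]
        intro h
        constructor
        · intro hh; have := hconj h hh; rwa [inv_inv]
        · intro hh
          rw [inv_inv] at hh
          -- injective conjugation on finite H is surjective
          let c : H → H := fun k => ⟨g⁻¹ * k.1 * g, hconj k.1 k.2⟩
          have hcinj : Function.Injective c := by
            intro a b hab
            have := congrArg Subtype.val hab
            simp only [c] at this
            apply Subtype.ext
            have h3 := mul_right_cancel this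
            exact mul_left_cancel h3
          have hcsurj := Finite.surjective_of_injective hcinj
          obtain ⟨k, hk⟩ := hcsurj ⟨g⁻¹ * h * g, hh⟩
          have := congrArg Subtype.val hk
          simp only [c] at this
          have h3 := mul_right_cancel this
          have h4 := mul_left_cancel h3
          rw [← h4]; exact k.2
      have hgN : g ∈ Subgroup.normalizer (H : Set G) := by
        have := inv_mem hginv; rwa [inv_inv] at this
      have hle : H ≤ Subgroup.normalizer (H : Set G) := Subgroup.le_normalizer
      have hNidx : (Subgroup.normalizer (H : Set G)).index ∣ 11 := by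
        rw [← hidx]; exact Subgroup.index_dvd_of_le hle
      rcases (Nat.dvd_prime (by norm_num : Nat.Prime 11)).mp hNidx with h1 | h11
      · exfalso
        rw [Subgroup.index_eq_one] at h1
        have hnorm : H.Normal := Subgroup.normalizer_eq_top_iff.mp h1
        rcases hnorm.eq_bot_or_eq_top with h | h
        · exact hHbot h
        · exact hHtop h
      · have hrel : H.relIndex (Subgroup.normalizer (H : Set G)) = 1 := by
          have := Subgroup.relIndex_mul_index hle
          rw [h11, hidx] at this
          omega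
        rw [Subgroup.relIndex_eq_one] at hrel
        have hgH : g ∈ H := hrel hgN
        show (g : G ⧸ H) = ((1 : G) : G ⧸ H)
        rw [QuotientGroup.eq]
        simpa using inv_mem hgH
  -- Step 2: an involution outside H
  obtain ⟨t, ht2, htH⟩ : ∃ t : G, t * t = 1 ∧ t ∉ H := by
    have : Fact (Nat.Prime 2) := ⟨Nat.prime_two⟩
    obtain ⟨t₀, ht₀⟩ := exists_prime_orderOf_dvd_card' (G := G) 2 (by rw [hG]; norm_num)
    by_contra hcon
    push Not at hcon
    have hall : ∀ g : G, g * t₀ * g⁻¹ ∈ H := by
      intro g
      apply hcon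
      have : t₀ * t₀ = 1 := by rw [← pow_two, ← ht₀, pow_orderOf_eq_one]
      calc g * t₀ * g⁻¹ * (g * t₀ * g⁻¹) = g * (t₀ * t₀) * g⁻¹ := by group
        _ = 1 := by rw [this]; group
    have hncl : Subgroup.normalClosure ({t₀} : Set G) ≤ H := by
      unfold Subgroup.normalClosure
      rw [Subgroup.closure_le]
      intro a ha
      rw [Group.mem_conjugatesOfSet_iff] at ha
      obtain ⟨b, hb, hba⟩ := ha
      rw [Set.mem_singleton_iff] at hb
      subst hb
      obtain ⟨c, hc⟩ := isConj_iff.mp hba
      rw [← hc]
      exact hall c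
    have hN : Subgroup.normalClosure ({t₀} : Set G) = ⊤ := by
      rcases (Subgroup.normalClosure_normal (s := ({t₀} : Set G))).eq_bot_or_eq_top with h | h
      · exfalso
        have : t₀ ∈ Subgroup.normalClosure ({t₀} : Set G) :=
          Subgroup.subset_normalClosure (Set.mem_singleton t₀)
        rw [h, Subgroup.mem_bot] at this
        rw [this, orderOf_one] at ht₀
        omega
      · exact h
    apply hHtop
    rw [eq_top_iff, ← hN]
    exact hncl
  have htinv : t⁻¹ = t := inv_eq_of_mul_eq_one_left ht2
  set y : G ⧸ H := (t : G ⧸ H) with hy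
  have hyx : y ≠ x₀ := by
    intro h
    rw [hy, hx₀, QuotientGroup.eq] at h
    apply htH
    have := inv_mem h
    simpa using this
  -- stabilizer of y in H, as a subgroup of G
  let K : Subgroup G := (MulAction.stabilizer H y).map H.subtype
  have hKmem : ∀ g : G, g ∈ K ↔ g ∈ H ∧ t⁻¹ * g * t ∈ H := by
    intro g
    constructor
    · rintro ⟨k, hk, rfl⟩
      refine ⟨k.2, ?_⟩
      rw [SetLike.mem_coe, MulAction.mem_stabilizer_iff] at hk
      change ((k.1 * t : G) : G ⧸ H) = (t : G ⧸ H) at hk
      rw [QuotientGroup.eq] at hk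
      have h2 := inv_mem hk
      rw [mul_inv_rev, inv_inv] at h2
      rwa [mul_assoc]
    · rintro ⟨hg, hg2⟩
      refine ⟨⟨g, hg⟩, ?_, rfl⟩
      rw [SetLike.mem_coe, MulAction.mem_stabilizer_iff]
      change ((g * t : G) : G ⧸ H) = (t : G ⧸ H)
      rw [QuotientGroup.eq, mul_inv_rev]
      have h2 := inv_mem hg2
      rw [mul_inv_rev, mul_inv_rev, inv_inv] at h2
      rwa [← mul_assoc] at h2
  have hKcard : Nat.card K = Nat.card (MulAction.stabilizer H y) := by
    exact Nat.card_congr ((MulAction.stabilizer H y).equivMapOfInjective H.subtype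
      H.subtype_injective).symm.toEquiv
  have h2K : 2 * Nat.card K ∣ Nat.card G := by
    apply two_mul_card_dvd K t ht2
    · intro h; exact htH ((hKmem t).mp h).1
    · intro k hk
      obtain ⟨h1, h2⟩ := (hKmem k).mp hk
      rw [hKmem]
      refine ⟨by rw [htinv]; rw [htinv] at h2; exact h2, ?_⟩
      have : t⁻¹ * (t * k * t⁻¹) * t = k := by group
      rw [this]; exact h1
  -- orbit size
  set s := (MulAction.stabilizer H y).index with hs
  have hsK : s * Nat.card K = 60 := by
    rw [hKcard, hs, mul_comm, Subgroup.card_mul_index, hH]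
  have hs_orbit : s = (MulAction.orbit H y).ncard := MulAction.index_stabilizer H y
  have horb_sub : MulAction.orbit H y ⊆ {x₀}ᶜ := by
    rintro z ⟨h, rfl⟩
    simp only [Set.mem_compl_iff, Set.mem_singleton_iff]
    intro hz
    apply hyx
    have : h⁻¹ • (h • y) = h⁻¹ • x₀ := by rw [hz]
    rwa [inv_smul_smul, hfix0] at this
  have hcompl : ({x₀}ᶜ : Set (G ⧸ H)).ncard = 10 := by
    rw [Set.ncard_compl, Set.ncard_singleton, hXcard]
  have hs10 : s ≤ 10 := by
    rw [hs_orbit, ← hcompl]
    exact Set.ncard_le_ncard horb_sub (Set.toFinite _)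
  have hs_cases : s = 6 ∨ s = 10 := by
    rw [hG] at h2K
    have hno' := hno (MulAction.stabilizer H y)
    rw [← hs] at hno'
    obtain ⟨c, hc⟩ := h2K
    have hKpos : 0 < Nat.card K := Nat.card_pos
    have hs_even : s % 2 = 0 := by
      -- 660 = 2 * |K| * c, 60 = s * |K| => 11 * s * |K| = 2 * |K| * c => 11 s = 2 c
      have : 11 * s * Nat.card K = 2 * c * Nat.card K := by
        calc 11 * s * Nat.card K = 11 * (s * Nat.card K) := by ring
          _ = 660 := by rw [hsK]
          _ = 2 * Nat.card K * c := hc
          _ = 2 * c * Nat.card K := by ring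
      have := Nat.eq_of_mul_eq_mul_right hKpos this
      omega
    have hsdvd : s ∣ 60 := ⟨Nat.card K, hsK.symm⟩
    have h60 : 60 % s = 0 := Nat.mod_eq_zero_of_dvd hsdvd
    rcases hno' with h | h
    · omega
    · have h3 : s = 6 ∨ s = 8 ∨ s = 10 := by omega
      rcases h3 with h3 | h3 | h3
      · left; exact h3
      · rw [h3] at h60; norm_num at h60
      · right; exact h3
  have horb : MulAction.orbit H y = {x₀}ᶜ := by
    rcases hs_cases with h6 | h10
    · exfalso
      have hU : (({x₀} : Set (G ⧸ H)) ∪ MulAction.orbit H y).ncard ≤ 7 := by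
        calc (({x₀} : Set (G ⧸ H)) ∪ MulAction.orbit H y).ncard
            ≤ ({x₀} : Set (G ⧸ H)).ncard + (MulAction.orbit H y).ncard := Set.ncard_union_le _ _
          _ = 7 := by rw [Set.ncard_singleton, ← hs_orbit, h6]
      obtain ⟨z, hz⟩ : ∃ z, z ∉ (({x₀} : Set (G ⧸ H)) ∪ MulAction.orbit H y) := by
        by_contra hcon
        push Not at hcon
        have : (({x₀} : Set (G ⧸ H)) ∪ MulAction.orbit H y) = Set.univ :=
          Set.eq_univ_of_forall hcon
        rw [this, Set.ncard_univ, hXcard] at hU
        omega
      have hzx : z ≠ x₀ := fun h => hz (Or.inl h)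
      have hzO : z ∉ MulAction.orbit H y := fun h => hz (Or.inr h)
      have hsub : MulAction.orbit H z ⊆ (({x₀} : Set (G ⧸ H)) ∪ MulAction.orbit H y)ᶜ := by
        rintro w ⟨h, rfl⟩
        simp only [Set.mem_compl_iff, Set.mem_union, Set.mem_singleton_iff, not_or]
        constructor
        · intro hw
          apply hzx
          have : h⁻¹ • (h • z) = h⁻¹ • x₀ := by rw [hw]
          rwa [inv_smul_smul, hfix0] at this
        · rintro ⟨h', hh'⟩
          apply hzO
          refine ⟨h⁻¹ * h', ?_⟩
          show (h⁻¹ * h') • y = z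
          rw [mul_smul]
          have : h' • y = h • z := hh'
          rw [this, inv_smul_smul]
      have hcomplU : ((({x₀} : Set (G ⧸ H)) ∪ MulAction.orbit H y)ᶜ).ncard ≤ 4 := by
        rw [Set.ncard_compl, hXcard]
        have hdisj : Disjoint ({x₀} : Set (G ⧸ H)) (MulAction.orbit H y) := by
          rw [Set.disjoint_singleton_left]
          intro h
          have := horb_sub h
          simp at this
        rw [Set.ncard_union_eq hdisj, Set.ncard_singleton, ← hs_orbit, h6]
      have hz_idx : (MulAction.stabilizer H z).index ≤ 4 := by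
        rw [MulAction.index_stabilizer H z]
        exact le_trans (Set.ncard_le_ncard hsub (Set.toFinite _)) hcomplU
      rcases hno (MulAction.stabilizer H z) with h1 | h5
      · rw [Subgroup.index_eq_one] at h1
        apply hzx
        apply hfix
        intro h
        have : h ∈ MulAction.stabilizer H z := by rw [h1]; trivial
        exact MulAction.mem_stabilizer_iff.mp this
      · omega
    · exact Set.eq_of_subset_of_ncard_le horb_sub (by rw [hcompl, ← hs_orbit, h10]) (Set.toFinite _)
  have htrans : ∀ b d : G ⧸ H, b ≠ x₀ → d ≠ x₀ → ∃ h : H, h • b = d := by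
    intro b d hb hd
    have hb' : b ∈ MulAction.orbit H y := by rw [horb]; exact hb
    have hd' : d ∈ MulAction.orbit H y := by rw [horb]; exact hd
    obtain ⟨h1, rfl⟩ := hb'
    obtain ⟨h2, rfl⟩ := hd'
    refine ⟨h2 * h1⁻¹, ?_⟩
    show (h2 * h1⁻¹) • (h1 • y) = h2 • y
    rw [mul_smul, inv_smul_smul]
  rw [MulAction.is_two_pretransitive_iff]
  intro a b c d hab hcd
  obtain ⟨g₁, hg₁⟩ := MulAction.exists_smul_eq G a x₀
  obtain ⟨g₂, hg₂⟩ := MulAction.exists_smul_eq G c x₀
  have hb : g₁ • b ≠ x₀ := by
    intro h; apply hab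
    have : g₁ • a = g₁ • b := by rw [hg₁, h]
    exact smul_left_cancel g₁ this
  have hd : g₂ • d ≠ x₀ := by
    intro h; apply hcd
    have : g₂ • c = g₂ • d := by rw [hg₂, h]
    exact smul_left_cancel g₂ this
  obtain ⟨h, hh⟩ := htrans _ _ hb hd
  refine ⟨g₂⁻¹ * h.1 * g₁, ?_, ?_⟩
  · rw [mul_smul, mul_smul, hg₁]
    have : (h.1 : G) • x₀ = x₀ := hfix0 h
    rw [this, ← hg₂, inv_smul_smul]
  · rw [mul_smul, mul_smul]
    have : (h.1 : G) • (g₁ • b) = g₂ • d := hh
    rw [this, inv_smul_smul]


open Cfsg.Agent.Lib.Helper4_PSL2Klein Cfsg.Agent.Lib.Helper4_SL2Card in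
theorem S2542_main {F : Type*} [Field F] [Fintype F] (hF : Fintype.card F = 11) :
    ∃ H : Subgroup (Matrix.ProjectiveSpecialLinearGroup (Fin 2) F), H.index = 11 ∧
      Nonempty (H ≃* alternatingGroup (Fin 5)) ∧
      MulAction.IsMultiplyPretransitive (Matrix.ProjectiveSpecialLinearGroup (Fin 2) F)
        ((Matrix.ProjectiveSpecialLinearGroup (Fin 2) F) ⧸ H) 2 := by
  classical
  have hsimple : IsSimpleGroup (Matrix.ProjectiveSpecialLinearGroup (Fin 2) F) :=
    Matrix.ProjectiveSpecialLinearGroup.rank_two_simple
      (by rw [Nat.card_eq_fintype_card, hF]; norm_num)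
  have hc : ringChar F ≠ 2 := by
    intro h
    have := FiniteField.even_card_of_char_two h
    rw [hF] at this
    omega
  have h2 : (2 : F) ≠ 0 := Ring.two_ne_zero hc
  have hcard : Nat.card (Matrix.ProjectiveSpecialLinearGroup (Fin 2) F) = 660 := by
    have h1 := Subgroup.card_eq_card_quotient_mul_card_subgroup
      (Subgroup.center (Matrix.SpecialLinearGroup (Fin 2) F))
    rw [card_center_SL2 h2, card_SL2, hF] at h1
    have h3 : Nat.card (Matrix.ProjectiveSpecialLinearGroup (Fin 2) F) * 2 = 11 * (11 ^ 2 - 1) := h1.symm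
    omega
  obtain ⟨H, ⟨e⟩⟩ := (Cfsg.Agent.Lib.Helper4_PSL2A5.S0804_main hF).mpr (by norm_num)
  have h60 : Nat.card H = 60 := by
    rw [Nat.card_congr e.toEquiv, Nat.card_eq_fintype_card]
    have := two_mul_card_alternatingGroup (α := Fin 5)
    rw [Fintype.card_perm, Fintype.card_fin] at this
    have h120 : (5 : ℕ).factorial = 120 := by decide
    omega
  have hidx : H.index = 11 := by
    have := Subgroup.card_mul_index H
    rw [h60, hcard] at this
    omega
  refine ⟨H, hidx, ⟨e⟩, ?_⟩
  have hA5 : IsSimpleGroup (alternatingGroup (Fin 5)) := alternatingGroup.isSimpleGroup (by simp)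
  have hHnt : Nontrivial H := by
    rw [← Finite.one_lt_card_iff_nontrivial, h60]; norm_num
  have hHsimple : IsSimpleGroup H :=
    IsSimpleGroup.isSimpleGroup_of_surjective e.symm.toMonoidHom e.symm.surjective
  apply two_trans_660 H hcard h60
  intro K
  by_cases hK : K = ⊤
  · left; rw [hK, Subgroup.index_top]
  · right
    by_contra hlt
    push Not at hlt
    have hdvd := card_dvd_factorial_index K hK
    rw [h60] at hdvd
    have hle : (K.index).factorial ≤ (4 : ℕ).factorial := Nat.factorial_le (by omega)
    have h24 : (4 : ℕ).factorial = 24 := by decide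
    have hpos : 0 < (K.index).factorial := Nat.factorial_pos _
    have := Nat.le_of_dvd hpos hdvd
    omega

end Cfsg.Agent.Lib.Helper4_PSL211
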