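import Mathlib
import Cfsg.Agent.Lib.Helper4_PSL2Klein
import Cfsg.Agent.Lib.Helper4_SL2Card
import Cfsg.Agent.Lib.Helper4_PSL2A5
import Cfsg.Agent.S0265

namespace Cfsg.Agent.Lib.Helper4_PSL2Subfield
open Matrix Cfsg.Agent.Lib.Helper4_PSL2ClassOdd Cfsg.Agent.Lib.Helper4_PSL2Klein
  Cfsg.Agent.Lib.Helper4_SL2Card

variable {F K : Type*} [Field F] [Field K]

/-- field embedding from the cardinality relation -/
theorem exists_embedding [Fintype F] [Fintype K] (m : ℕ) (hm : 1 ≤ m)
    (hK : Fintype.card K ^ m = Fintype.card F) : Nonempty (K →+* F) := by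
  obtain ⟨a, hpK, ha⟩ := FiniteField.card K (ringChar K)
  obtain ⟨b, hpF, hb⟩ := FiniteField.card F (ringChar F)
  have heq : ringChar K = ringChar F := by
    have h1 : ringChar K ∣ ringChar F ^ (b : ℕ) := by
      rw [← hb, ← hK, ha, ← pow_mul]
      exact dvd_pow_self _ (by have := a.pos; positivity)
    exact (Nat.prime_dvd_prime_iff_eq hpK hpF).mp (hpK.dvd_of_dvd_pow h1)
  set p := ringChar F with hp
  have : Fact p.Prime := ⟨hpF⟩
  have : CharP K p := ringChar.of_eq heq
  let _ : Algebra (ZMod p) K := ZMod.algebra K p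
  let _ : Algebra (ZMod p) F := ZMod.algebra F p
  have hcK := FiniteField.pow_finrank_eq_card p K
  have hcF := FiniteField.pow_finrank_eq_card p F
  have hdvd : Module.finrank (ZMod p) K ∣ Module.finrank (ZMod p) F := by
    rw [← hcK, ← hcF, ← pow_mul] at hK
    have := Nat.pow_right_injective hpF.two_le hK
    exact ⟨m, this.symm⟩
  obtain ⟨g⟩ := FiniteField.nonempty_algHom_of_finrank_dvd hdvd
  exact ⟨g.toRingHom⟩

theorem map_N1 (ι : K →+* F) :
    Matrix.SpecialLinearGroup.map (n := Fin 2) ι N1 = N1 := by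
  apply Subtype.ext
  ext i j
  simp only [Matrix.SpecialLinearGroup.map_apply_coe, RingHom.mapMatrix_apply, Matrix.map_apply,
    N1_val]
  fin_cases i <;> fin_cases j <;> simp

theorem psl_embed (ι : K →+* F) :
    ∃ H : Subgroup (Matrix.ProjectiveSpecialLinearGroup (Fin 2) F),
      Nonempty (H ≃* Matrix.ProjectiveSpecialLinearGroup (Fin 2) K) := by
  let φ₁ : Matrix.SpecialLinearGroup (Fin 2) K →* Matrix.ProjectiveSpecialLinearGroup (Fin 2) F :=
    (QuotientGroup.mk' (Subgroup.center (Matrix.SpecialLinearGroup (Fin 2) F))).comp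
      (Matrix.SpecialLinearGroup.map (n := Fin 2) ι)
  have hinj := Cfsg.Agent.Lib.Helper4_PSL2A5.map_injective (F := F) ι
  have hker : φ₁.ker = Subgroup.center (Matrix.SpecialLinearGroup (Fin 2) K) := by
    ext A
    rw [MonoidHom.mem_ker, mem_center_iff']
    show (QuotientGroup.mk (Matrix.SpecialLinearGroup.map (n := Fin 2) ι A) :
      Matrix.ProjectiveSpecialLinearGroup (Fin 2) F) = 1 ↔ _
    rw [mk_eq_one_iff]
    constructor
    · rintro (h | h)
      · left; apply hinj; rw [h, map_one]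
      · right; apply hinj; rw [h, map_N1]
    · rintro (h | h)
      · left; rw [h, map_one]
      · right; rw [h, map_N1]
  refine ⟨φ₁.range, ⟨?_⟩⟩
  exact ((QuotientGroup.quotientMulEquivOfEq hker.symm).trans
    (QuotientGroup.quotientKerEquivRange φ₁)).symm


open Matrix.ProjGenLinGroup in
theorem pgl_embed (ι : K →+* F) (hsq : ∀ d : K, d ≠ 0 → IsSquare (ι d)) :
    ∃ H : Subgroup (Matrix.ProjectiveSpecialLinearGroup (Fin 2) F),
      Nonempty (H ≃* Matrix.ProjGenLinGroup (Fin 2) K) := by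
  let ψ : GL (Fin 2) K →* Matrix.ProjGenLinGroup (Fin 2) F :=
    (Matrix.ProjGenLinGroup.mk).comp (Matrix.GeneralLinearGroup.map ι)
  have hker : ψ.ker = Subgroup.center (GL (Fin 2) K) := by
    ext g
    rw [MonoidHom.mem_ker]
    show Matrix.ProjGenLinGroup.mk (Matrix.GeneralLinearGroup.map ι g) = 1 ↔ _
    rw [Matrix.ProjGenLinGroup.mk_eq_one,
      Matrix.GeneralLinearGroup.mem_center_iff_val_mem_range_scalar,
      Matrix.GeneralLinearGroup.mem_center_iff_val_mem_range_scalar]
    constructor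
    · rintro ⟨c, hc⟩
      refine ⟨g.val 0 0, ?_⟩
      have e := fun i j => congrFun (congrFun hc i) j
      have e01 := e 0 1
      have e10 := e 1 0
      have e00 := e 0 0
      have e11 := e 1 1
      simp only [Matrix.scalar_apply, Matrix.diagonal_apply] at e00 e01 e10 e11
      simp at e00 e01 e10 e11
      have h01 : g.val 0 1 = 0 := by
        apply ι.injective; rw [map_zero]
        have := Matrix.GeneralLinearGroup.map_apply ι 0 1 g
        rw [← this]; exact e01.symm
      have h10 : g.val 1 0 = 0 := by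
        apply ι.injective; rw [map_zero]
        have := Matrix.GeneralLinearGroup.map_apply ι 1 0 g
        rw [← this]; exact e10.symm
      have h11 : g.val 1 1 = g.val 0 0 := by
        apply ι.injective
        have h1 := Matrix.GeneralLinearGroup.map_apply ι 1 1 g
        have h0 := Matrix.GeneralLinearGroup.map_apply ι 0 0 g
        rw [← h1, ← h0]
        exact e11.symm.trans e00
      ext i j
      fin_cases i <;> fin_cases j <;> simp [h01, h10, h11]
    · rintro ⟨c, hc⟩
      refine ⟨ι c, ?_⟩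
      ext i j
      have h1 := Matrix.GeneralLinearGroup.map_apply ι i j g
      show _ = (Matrix.GeneralLinearGroup.map ι g) i j
      rw [h1]
      have : g.val i j = (Matrix.scalar (Fin 2) c) i j := by rw [hc]
      show _ = ι (g.val i j)
      rw [this]
      fin_cases i <;> fin_cases j <;> simp
  have hrange : ψ.range ≤ (Matrix.ProjectiveSpecialLinearGroup.toPGL (n := Fin 2) (R := F)).range := by
    rintro _ ⟨g, rfl⟩
    have hdet0 : g.val.det ≠ 0 := by
      have := (Matrix.isUnit_iff_isUnit_det g.val).mp g.isUnit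
      exact this.ne_zero
    obtain ⟨c, hc⟩ := hsq _ hdet0
    have hc0 : c ≠ 0 := by
      rintro rfl
      rw [mul_zero] at hc
      exact hdet0 (ι.injective (by rw [hc, map_zero]))
    have hmapdet : ((Matrix.GeneralLinearGroup.map ι g : GL (Fin 2) F) :
        Matrix (Fin 2) (Fin 2) F).det = ι g.val.det := by
      have : ((Matrix.GeneralLinearGroup.map ι g : GL (Fin 2) F) :
          Matrix (Fin 2) (Fin 2) F) = ι.mapMatrix g.val := by
        ext i j
        exact Matrix.GeneralLinearGroup.map_apply ι i j g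
      rw [this, ← RingHom.map_det]
    let A : Matrix.SpecialLinearGroup (Fin 2) F :=
      ⟨c⁻¹ • ((Matrix.GeneralLinearGroup.map ι g : GL (Fin 2) F) : Matrix (Fin 2) (Fin 2) F), by
        rw [Matrix.det_smul, hmapdet, hc]
        simp only [Fintype.card_fin]
        field_simp⟩
    refine ⟨QuotientGroup.mk A, ?_⟩
    show Matrix.ProjGenLinGroup.mk (Matrix.SpecialLinearGroup.toGL A) =
      Matrix.ProjGenLinGroup.mk (Matrix.GeneralLinearGroup.map ι g)
    symm
    rw [Matrix.ProjGenLinGroup.mk_eq_mk_iff]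
    refine ⟨Units.mk0 c⁻¹ (inv_ne_zero hc0), ?_⟩
    ext i j
    simp only [Matrix.GeneralLinearGroup.coe_mul, Matrix.GeneralLinearGroup.coe_scalar]
    show _ = (c⁻¹ • ((Matrix.GeneralLinearGroup.map ι g : GL (Fin 2) F) :
      Matrix (Fin 2) (Fin 2) F)) i j
    rw [Matrix.smul_apply, Matrix.mul_apply]
    simp [Matrix.scalar_apply, Matrix.diagonal_apply, Fin.sum_univ_two]
    fin_cases j <;> simp <;> ring
  let H := ψ.range.comap (Matrix.ProjectiveSpecialLinearGroup.toPGL (n := Fin 2) (R := F))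
  refine ⟨H, ⟨?_⟩⟩
  have e1 := H.equivMapOfInjective _ (Matrix.ProjectiveSpecialLinearGroup.toPGL_injective (n := Fin 2) (R := F))
  have e2 : H.map (Matrix.ProjectiveSpecialLinearGroup.toPGL (n := Fin 2) (R := F)) = ψ.range :=
    Subgroup.map_comap_eq_self hrange
  have e3 := (QuotientGroup.quotientMulEquivOfEq hker.symm).trans
    (QuotientGroup.quotientKerEquivRange ψ)
  exact (e1.trans (MulEquiv.subgroupCongr e2)).trans e3.symm


theorem geom_odd (x : ℕ) (hx : x % 2 = 1) (n : ℕ) :
    (∑ i ∈ Finset.range n, x ^ i) % 2 = n % 2 := by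
  induction n with
  | zero => simp
  | succ n ih =>
    rw [Finset.sum_range_succ, Nat.add_mod, ih, Nat.pow_mod, hx, one_pow]
    omega

theorem S0805_main [Fintype F] [Fintype K] {q : ℕ} (hF : Fintype.card F = q) (hodd : Odd q)
    (m : ℕ) (hm : 1 ≤ m) (hK : Fintype.card K ^ m = q) :
    (∃ H : Subgroup (Matrix.ProjectiveSpecialLinearGroup (Fin 2) F),
      Nonempty (H ≃* Matrix.ProjectiveSpecialLinearGroup (Fin 2) K)) ∧
    ((∃ H : Subgroup (Matrix.ProjectiveSpecialLinearGroup (Fin 2) F),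
      Nonempty (H ≃* Matrix.ProjGenLinGroup (Fin 2) K)) ↔ Even m) := by
  classical
  obtain ⟨ι⟩ := exists_embedding (F := F) (K := K) m hm (hK.trans hF.symm)
  set k := Fintype.card K with hk
  have hkodd : k % 2 = 1 := by
    have : q % 2 = 1 := Nat.odd_iff.mp hodd
    rw [← hK, Nat.pow_mod] at this
    rcases Nat.mod_two_eq_zero_or_one k with h | h
    · rw [h, zero_pow (by omega)] at this; omega
    · exact h
  have hk1 : 1 < k := Fintype.one_lt_card
  have hcF : ringChar F ≠ 2 := by
    intro h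
    have := FiniteField.even_card_of_char_two h
    rw [hF] at this
    have := Nat.odd_iff.mp hodd
    omega
  have h2 : (2 : F) ≠ 0 := Ring.two_ne_zero hcF
  refine ⟨psl_embed ι, ?_⟩
  constructor
  · rintro ⟨H, ⟨e⟩⟩
    by_contra hm2
    rw [Nat.not_even_iff_odd] at hm2
    have hcardH : Nat.card H = k * (k ^ 2 - 1) := by
      rw [Nat.card_congr e.toEquiv, Cfsg.Agent.S0265.result, card_SL2]
    have hdvd : k * (k ^ 2 - 1) ∣ Nat.card (Matrix.ProjectiveSpecialLinearGroup (Fin 2) F) := by
      rw [← hcardH]; exact Subgroup.card_subgroup_dvd_card H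
    have hPSL : Nat.card (Matrix.ProjectiveSpecialLinearGroup (Fin 2) F) * 2 = q * (q ^ 2 - 1) := by
      have h1 := Subgroup.card_eq_card_quotient_mul_card_subgroup
        (Subgroup.center (Matrix.SpecialLinearGroup (Fin 2) F))
      rw [card_center_SL2 h2, card_SL2, hF] at h1
      exact h1.symm
    obtain ⟨c, hc⟩ := hdvd
    rw [hc] at hPSL
    -- q^2 - 1 = S * (k^2 - 1)
    set S := ∑ i ∈ Finset.range m, (k ^ 2) ^ i with hS
    have hk2 : k ^ 2 - 1 + 1 = k ^ 2 := by
      have : 1 ≤ k ^ 2 := Nat.one_le_pow _ _ (by omega)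
      omega
    have hgeom : S * (k ^ 2 - 1) + 1 = (k ^ 2) ^ m := by
      have := geom_sum_mul_add (k ^ 2 - 1) m
      rw [hk2] at this
      exact this
    have hq2 : q ^ 2 - 1 = S * (k ^ 2 - 1) := by
      rw [← hK, ← pow_mul, mul_comm, pow_mul, ← hgeom]
      omega
    rw [hq2] at hPSL
    have hpos : 0 < k ^ 2 - 1 := by
      have : 2 ^ 2 ≤ k ^ 2 := Nat.pow_le_pow_left (by omega) 2
      omega
    have h3 : k * c * 2 = q * S := by
      have : (k ^ 2 - 1) * (k * c * 2) = (k ^ 2 - 1) * (q * S) := by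
        calc (k ^ 2 - 1) * (k * c * 2) = k * (k ^ 2 - 1) * c * 2 := by ring
          _ = q * (S * (k ^ 2 - 1)) := hPSL
          _ = (k ^ 2 - 1) * (q * S) := by ring
      exact Nat.eq_of_mul_eq_mul_left hpos this
    have hSodd : S % 2 = 1 := by
      rw [hS, geom_odd (k ^ 2) (by rw [Nat.pow_mod, hkodd]) m]
      exact Nat.odd_iff.mp hm2
    have hqodd : q % 2 = 1 := Nat.odd_iff.mp hodd
    have : (q * S) % 2 = 1 := by rw [Nat.mul_mod, hqodd, hSodd]
    omega
  · rintro ⟨j, hj⟩
    apply pgl_embed ι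
    intro d hd
    have hιd : ι d ≠ 0 := by
      intro h; exact hd (ι.injective (by rw [h, map_zero]))
    rw [FiniteField.isSquare_iff hcF hιd, ← map_pow]
    have hd1 : d ^ (k - 1) = 1 := FiniteField.pow_card_sub_one_eq_one d hd
    -- (k - 1) ∣ q / 2
    have hdiv : (k - 1) ∣ Fintype.card F / 2 := by
      rw [hF, ← hK, hj, ← two_mul, pow_mul]
      have h1 : k ^ 2 - 1 ∣ (k ^ 2) ^ j - 1 := Nat.sub_one_dvd_pow_sub_one (k ^ 2) j
      obtain ⟨t, ht⟩ : ∃ t, k = 2 * t + 1 := ⟨k / 2, by omega⟩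
      have h2' : k ^ 2 - 1 = (k - 1) * (2 * (t + 1)) := by
        rw [ht]
        have : (2 * t + 1) ^ 2 = 4 * t * (t + 1) + 1 := by ring
        rw [this]
        have : 2 * t + 1 - 1 = 2 * t := by omega
        rw [this, Nat.add_sub_cancel]; ring
      obtain ⟨c, hc⟩ := h1
      rw [h2'] at hc
      have hpos : 1 ≤ (k ^ 2) ^ j := Nat.one_le_pow _ _ (by positivity)
      refine ⟨(t + 1) * c, ?_⟩
      have : (k ^ 2) ^ j = 2 * ((k - 1) * ((t + 1) * c)) + 1 := by
        have : (k ^ 2) ^ j = ((k ^ 2) ^ j - 1) + 1 := by omega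
        rw [this, hc]; ring
      rw [this]
      omega
    obtain ⟨c, hc⟩ := hdiv
    rw [hc, pow_mul, hd1, one_pow, map_one]

end Cfsg.Agent.Lib.Helper4_PSL2Subfield
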