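import Mathlib
import Cfsg.Agent.Lib.Helper4_PSL2Subfield
import Cfsg.Agent.S0243

namespace Cfsg.Agent.Lib.Helper4_PSL27

abbrev M3 := Matrix (Fin 3) (Fin 3) (ZMod 2)
abbrev M2 := Matrix (Fin 2) (Fin 2) (ZMod 7)

def mkey (M : M3) : ℕ :=
  (M 0 0).val + 2 * (M 0 1).val + 4 * (M 0 2).val + 8 * (M 1 0).val + 16 * (M 1 1).val +
    32 * (M 1 2).val + 64 * (M 2 0).val + 128 * (M 2 1).val + 256 * (M 2 2).val

def lookupT : List (ℕ × (ℕ × ℕ × ℕ × ℕ)) → ℕ → (ℕ × ℕ × ℕ × ℕ)
  | [], _ => (1, 0, 0, 1)
  | (k, w) :: t, key => if k = key then w else lookupT t key

def lookupW : List (ℕ × List Bool) → ℕ → List Bool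
  | [], _ => []
  | (k, w) :: t, key => if k = key then w else lookupW t key

def tblT : List (ℕ × (ℕ × ℕ × ℕ × ℕ)) :=
  [(84, (0, 1, 6, 0)),
   (340, (3, 1, 1, 3)),
   (212, (1, 1, 1, 2)),
   (468, (2, 5, 5, 6)),
   (116, (2, 1, 1, 1)),
   (372, (1, 2, 2, 5)),
   (244, (1, 3, 0, 1)),
   (500, (1, 0, 3, 1)),
   (140, (2, 0, 0, 4)),
   (396, (2, 2, 6, 3)),
   (204, (2, 3, 4, 3)),
   (460, (3, 6, 5, 1)),
   (172, (2, 6, 2, 3)),
   (428, (3, 4, 4, 1)),
   (236, (1, 4, 5, 0)),
   (492, (0, 3, 2, 2)),
   (156, (2, 4, 3, 3)),
   (412, (0, 2, 3, 2)),
   (92, (1, 6, 6, 2)),
   (348, (3, 0, 3, 5)),
   (188, (3, 5, 6, 1)),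
   (444, (1, 5, 4, 0)),
   (124, (3, 2, 2, 4)),
   (380, (3, 3, 0, 5)),
   (98, (3, 0, 0, 5)),
   (354, (3, 2, 6, 2)),
   (226, (3, 6, 2, 2)),
   (482, (1, 4, 4, 3)),
   (114, (3, 4, 3, 2)),
   (370, (2, 2, 3, 0)),
   (242, (1, 5, 6, 3)),
   (498, (0, 2, 3, 6)),
   (266, (0, 3, 2, 0)),
   (394, (1, 3, 5, 2)),
   (330, (2, 4, 2, 1)),
   (458, (3, 1, 4, 4)),
   (298, (2, 3, 5, 1)),
   (426, (1, 0, 1, 1)),
   (106, (3, 5, 1, 2)),
   (234, (0, 1, 6, 1)),
   (282, (3, 3, 5, 3)),
   (410, (2, 1, 4, 6)),
   (346, (2, 5, 0, 4)),
   (474, (2, 0, 6, 4)),
   (314, (1, 6, 3, 5)),
   (442, (1, 2, 0, 1)),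
   (122, (1, 1, 2, 3)),
   (250, (2, 6, 1, 0)),
   (102, (3, 3, 4, 2)),
   (358, (1, 6, 5, 3)),
   (230, (0, 3, 2, 6)),
   (486, (2, 3, 2, 0)),
   (86, (2, 6, 6, 1)),
   (342, (2, 0, 4, 4)),
   (214, (3, 5, 5, 4)),
   (470, (2, 4, 0, 4)),
   (270, (1, 4, 2, 2)),
   (142, (2, 5, 1, 3)),
   (334, (1, 5, 0, 1)),
   (206, (1, 2, 3, 0)),
   (302, (3, 6, 3, 4)),
   (174, (1, 1, 6, 0)),
   (110, (0, 2, 3, 1)),
   (494, (2, 1, 3, 2)),
   (286, (3, 2, 0, 5)),
   (158, (3, 1, 2, 1)),
   (94, (1, 0, 4, 1)),
   (478, (3, 4, 6, 6)),
   (318, (3, 0, 1, 5)),
   (190, (0, 1, 6, 5)),
   (382, (1, 3, 1, 4)),
   (254, (2, 2, 5, 2)),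
   (161, (0, 2, 3, 0)),
   (417, (3, 5, 3, 3)),
   (225, (2, 5, 3, 1)),
   (481, (1, 3, 6, 5)),
   (273, (1, 0, 0, 1)),
   (401, (1, 6, 2, 6)),
   (337, (1, 4, 3, 6)),
   (465, (2, 2, 1, 5)),
   (305, (1, 1, 5, 6)),
   (177, (3, 2, 4, 3)),
   (369, (0, 3, 2, 3)),
   (241, (2, 0, 2, 4)),
   (169, (1, 2, 4, 2)),
   (425, (3, 1, 0, 5)),
   (233, (3, 3, 6, 4)),
   (489, (3, 0, 2, 5)),
   (281, (1, 5, 1, 6)),
   (409, (3, 6, 1, 0)),
   (345, (2, 6, 5, 5)),
   (473, (0, 1, 6, 3)),
   (313, (2, 4, 4, 5)),
   (185, (2, 3, 6, 6)),
   (377, (3, 4, 5, 0)),
   (249, (2, 1, 0, 4)),
   (165, (1, 5, 3, 2)),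
   (421, (2, 4, 1, 6)),
   (229, (1, 0, 2, 1)),
   (485, (1, 1, 0, 1)),
   (277, (1, 3, 4, 6)),
   (405, (3, 3, 2, 0)),
   (85, (3, 6, 6, 3)),
   (213, (3, 4, 0, 5)),
   (309, (2, 5, 6, 5)),
   (181, (3, 0, 5, 5)),
   (117, (2, 3, 0, 4)),
   (501, (2, 6, 4, 2)),
   (141, (2, 1, 5, 3)),
   (397, (0, 1, 6, 2)),
   (205, (3, 2, 1, 1)),
   (461, (1, 6, 1, 0)),
   (285, (3, 5, 4, 0)),
   (157, (0, 3, 2, 5)),
   (93, (2, 2, 2, 6)),
   (477, (1, 2, 5, 4)),
   (317, (0, 2, 3, 3)),
   (445, (1, 4, 6, 4)),
   (125, (2, 0, 3, 4)),
   (253, (3, 1, 3, 6)),
   (163, (2, 2, 4, 1)),
   (419, (2, 6, 0, 4)),
   (99, (3, 1, 5, 2)),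
   (355, (2, 1, 6, 0)),
   (275, (1, 2, 6, 6)),
   (403, (2, 3, 3, 5)),
   (339, (0, 2, 3, 4)),
   (467, (3, 2, 3, 0)),
   (307, (0, 1, 6, 4)),
   (179, (1, 4, 1, 5)),
   (115, (2, 4, 5, 0)),
   (499, (3, 3, 1, 6)),
   (267, (3, 4, 2, 3)),
   (395, (3, 0, 6, 5)),
   (331, (1, 1, 4, 5)),
   (459, (3, 5, 0, 5)),
   (299, (2, 0, 1, 4)),
   (171, (1, 6, 0, 1)),
   (107, (1, 3, 3, 3)),
   (491, (1, 5, 2, 4)),
   (187, (1, 0, 5, 1)),
   (443, (2, 5, 2, 2)),
   (123, (0, 3, 2, 1)),
   (379, (3, 6, 4, 6)),
   (167, (3, 4, 1, 4)),
   (423, (2, 0, 5, 4)),
   (103, (1, 2, 1, 3)),
   (359, (0, 1, 6, 6)),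
   (279, (2, 1, 2, 5)),
   (407, (0, 3, 2, 4)),
   (87, (1, 5, 5, 5)),
   (215, (3, 0, 4, 5)),
   (311, (3, 1, 6, 0)),
   (183, (3, 6, 0, 5)),
   (375, (3, 5, 2, 6)),
   (247, (1, 6, 4, 4)),
   (271, (2, 6, 3, 6)),
   (143, (3, 3, 3, 1)),
   (335, (1, 0, 6, 1)),
   (207, (0, 2, 3, 5)),
   (303, (2, 2, 0, 4)),
   (431, (3, 2, 5, 6)),
   (111, (2, 5, 4, 0)),
   (239, (2, 4, 6, 2)),
   (159, (1, 3, 2, 0)),
   (415, (1, 1, 3, 4)),
   (95, (1, 4, 0, 1)),
   (351, (2, 3, 1, 2))]

def tblW : List (ℕ × List Bool) :=
  [(84, [true]),
   (340, [true, false, true, false, true, false, false, true, false, true, false]),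
   (212, [true, false, false, true, false]),
   (468, [true, false, true, false, true, false, false, true, false, false]),
   (116, [true, false, true, false, false]),
   (372, [true, false, false, true, false, false, true, false, true, false]),
   (244, [false, true, false, true, false, true, false, true]),
   (500, [true, false, true, false, true, false]),
   (140, [true, false, true, false, false, true, false, true, false, true, false, false, true, false, true]),
   (396, [false, true, false, true, false, false, true, false, true]),
   (204, [true, false, false, true, false, true, false, true, false, false, true]),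
   (460, [false, false, true, false, false, true, false, true]),
   (172, [false, false, true, false, true, false, false, true, false, false, true]),
   (428, [false, true, false, true, false, false, true, false, true, false, true, false, false]),
   (236, [false, true, false, true, false, true, false, false, true, false, false, true]),
   (492, [false, false, true, false, false, true, false, true, false, true, false, false]),
   (156, [false, true, false, false, true, false, false, true, false]),
   (412, [true, false, true, false, false, true, false, false, true, false, true, false, true]),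
   (92, [false, true, false, false, true]),
   (348, [false, false, true, false, true, false, false, true, false, true, false, true, false, true]),
   (188, [false, false, true, false, true, false, true]),
   (444, [false, true, false, false, true, false, true, false, true, false]),
   (124, [false, true, false, false, true, false, true, false, false]),
   (380, [false, false, true, false, true, false, true, false, false, true, false]),
   (98, [false, true, false, false, true, false, true, false, true, false, false, true, false]),
   (354, [false, true, false, false, true, false, true, false, true]),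
   (226, [false, false, true, false, false, true, false, true, false, false, true]),
   (482, [false, true, false, true, false, false, true, false, true, false, true, false]),
   (114, [true, false, true, false, false, true, false, false, true, false, true]),
   (370, [false, true, false, true, false, false, true, false, false, true, false]),
   (242, [false, true, false, true, false, false, true]),
   (498, [true, false, true, false, true, false, true, false, false, true, false, true]),
   (266, [true, false, true, false, false, true, false, true, false, true, false, false, true, false]),
   (394, [true, false, false, true, false, false, true, false, true, false, false, true]),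
   (330, [true, false, true, false, false, true, false, true, false, true]),
   (458, [true, false, true, false, true, false, false, true, false, true, false, true, false]),
   (298, [false, false, true, false, true, false, false, true, false, false]),
   (426, [true, false]),
   (106, [false, false, true, false, true, false, false, true, false, true, false]),
   (234, [false]),
   (282, [false, true, false, false, true, false, false, true, false, true]),
   (410, [true, false, true, false, true, false, false, true]),
   (346, [true, false, true, false, true, false, false, true, false, false, true, false]),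
   (474, [false, true, false, true, false, true, false, false, true, false, true]),
   (314, [false, false, true, false, true, false]),
   (442, [true, false, false, true, false, false]),
   (122, [true, false, false, true, false, true, false]),
   (250, [false, false, true, false, false]),
   (102, [false, false, true, false, true, false, true, false, false]),
   (358, [false, true, false, false, true, false, false, true]),
   (230, [false, false, true, false, false, true, false, true, false, true, false, true]),
   (486, [true, false, false, true, false, true, false, true, false, false, true, false, false, true]),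
   (86, [false, false, true, false, true]),
   (342, [false, true, false, false, true, false, false, true, false, true, false, false]),
   (214, [false, false, true, false, true, false, false, true, false]),
   (470, [true, false, true, false, false, true, false, true, false, true, false, false, true]),
   (270, [false, true, false, true, false, false, true, false]),
   (142, [true, false, false, true, false, false, true, false, true, false, false]),
   (334, [false, true, false, true]),
   (206, [true, false, false, true, false, false, true, false, true, false, true, false]),
   (302, [true, false, true, false, true, false, true, false, false, true, false, true, false]),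
   (174, [true, false, true]),
   (110, [true, false, true, false, true, false, true, false, false, true, false, false]),
   (494, [true, false, true, false, false, true, false]),
   (286, [true, false, true, false, false, true, false, false, true, false, true, false]),
   (158, [true, false, true, false, true, false, false]),
   (94, [true, false, true, false, true, false, true, false]),
   (478, [true, false, false, true, false, true, false, true, false, true]),
   (318, [false, true, false, false, true, false, true, false, true, false, true]),
   (190, [true, false, false, true, false, false, true]),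
   (382, [false, true, false, true, false, true, false, false]),
   (254, [false, true, false, true, false, false, true, false, false, true, false, true, false]),
   (161, [false, true, false, false, true, false, true, false, true, false, false, true, false, true]),
   (417, [false, false, true, false, true, false, true, false, false, true]),
   (225, [true, false, true, false, true, false, false, true, false, true]),
   (481, [true, false, false, true, false, false, true, false, true]),
   (273, []),
   (401, [false, false, true, false]),
   (337, [false, true, false, true, false, false, true, false, true, false]),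
   (465, [false, true, false, true, false, false, true, false, false]),
   (305, [true, false, true, false, false, true]),
   (177, [true, false, true, false, false, true, false, false, true, false]),
   (369, [false, false, true, false, true, false, false, true, false, false, true, false, true]),
   (241, [false, true, false, false, true, false, false, true, false, true, false, true]),
   (169, [false, false, true, false, true, false, false, true, false, true, false, true]),
   (425, [true, false, true, false, true, false, true, false, false, true, false, false, true]),
   (233, [false, true, false, true, false, true, false, false, true, false, true, false, true]),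
   (489, [true, false, false, true, false, false, true, false, true, false, true, false, false]),
   (281, [false, true, false, false]),
   (409, [false, false, true, false, false, true, false, false]),
   (345, [false, false, true, false, false, true, false, true, false]),
   (473, [false, true, false, true, false]),
   (313, [false, true, false, false, true, false, true, false, false, true]),
   (185, [true, false, false, true, false, true, false, true]),
   (377, [true, false, false, true, false, true, false, true, false, false, true, false]),
   (249, [true, false, true, false, false, true, false, true, false, true, false]),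
   (165, [false, true, false, false, true, false, true, false]),
   (421, [false, true, false, false, true, false, false]),
   (229, [true, false, true, false]),
   (485, [true, false, false]),
   (277, [true, false, true, false, true, false, false, true, false, true, false, true]),
   (405, [false, true, false, false, true, false, false, true, false, true, false, false, true]),
   (85, [false, true, false, true, false, false, true, false, true, false, true]),
   (213, [true, false, true, false, false, true, false, false, true, false, true, false, false, true]),
   (309, [true, false, false, true, false, false, true, false, true, false, true]),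
   (181, [false, true, false, true, false, false, true, false, false, true, false, true]),
   (117, [false, false, true, false, true, false, false, true, false, false, true, false]),
   (501, [false, false, true, false, true, false, false, true]),
   (141, [true, false, true, false, false, true, false, true, false]),
   (397, [false, true, false]),
   (205, [true, false, true, false, false, true, false, false]),
   (461, [false, false]),
   (285, [false, false, true, false, true, false, false, true, false, true, false, true, false]),
   (157, [true, false, true, false, true, false, false, true, false, false, true, false, true]),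
   (93, [false, false, true, false, false, true, false, true, false, true]),
   (477, [true, false, false, true, false, true, false, false, true]),
   (317, [false, false, true, false, true, false, true, false, false, true, false, true]),
   (445, [false, true, false, true, false, true, false, false, true]),
   (125, [true, false, false, true, false, true, false, true, false, false, true, false, true]),
   (253, [true, false, true, false, true, false, true, false, false, true]),
   (163, [false, false, true, false, false, true, false, true, false, false]),
   (419, [false, false, true, false, false, true, false, true, false, true, false]),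
   (99, [true, false, true, false, true, false, false, true, false]),
   (355, [true, false, true, false, true]),
   (275, [true, false, false, true, false, true]),
   (403, [false, false, true, false, true, false, false, true, false, true]),
   (339, [true, false, true, false, false, true, false, false, true, false, true, false, false]),
   (467, [false, true, false, false, true, false, true, false, true, false, false, true]),
   (307, [false, true, false, true, false, true, false]),
   (179, [false, true, false, true, false, false]),
   (115, [false, true, false, false, true, false, false, true, false, true, false]),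
   (499, [false, false, true, false, true, false, true, false, true]),
   (267, [true, false, false, true, false, true, false, true, false, false]),
   (395, [true, false, false, true, false, false, true, false, true, false, true, false, true]),
   (331, [true, false, true, false, false, true, false, false, true]),
   (459, [false, false, true, false, true, false, true, false, false, true, false, false, true]),
   (299, [false, true, false, true, false, true, false, false, true, false, false]),
   (171, [false, true]),
   (107, [false, true, false, true, false, true, false, false, true, false, true, false]),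
   (491, [false, true, false, false, true, false]),
   (187, [false, false, true, false, false, true]),
   (443, [false, true, false, true, false, false, true, false, false, true, false, true, false, true]),
   (123, [true, false, true, false, false, true, false, true, false, true, false, true]),
   (379, [true, false, true, false, true, false, true, false, false]),
   (167, [false, true, false, true, false, false, true, false, true, false, true, false, true]),
   (423, [true, false, false, true, false, true, false, true, false, false, true, false, false]),
   (103, [true, false, false, true, false, false, true, false]),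
   (359, [true, false, false, true]),
   (279, [true, false, true, false, true, false, false, true, false, false, true]),
   (407, [true, false, true, false, false, true, false, true, false, true, false, false]),
   (87, [false, true, false, true, false, false, true, false, false, true]),
   (215, [false, true, false, false, true, false, true, false, true, false, false]),
   (311, [true, false, true, false, true, false, true]),
   (183, [true, false, true, false, true, false, true, false, false, true, false]),
   (375, [false, false, true, false, true, false, false]),
   (247, [false, false, true, false, true, false, true, false]),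
   (271, [false, false, true, false, false, true, false]),
   (143, [false, false, true, false, true, false, true, false, false, true, false, true, false]),
   (335, [false, false, true]),
   (207, [false, false, true, false, true, false, true, false, false, true, false, false]),
   (303, [false, false, true, false, false, true, false, true, false, true, false, false, true]),
   (431, [true, false, true, false, false, true, false, true]),
   (111, [true, false, false, true, false, false, true, false, true, false, true, false, false, true]),
   (239, [false, true, false, false, true, false, true]),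
   (159, [false, true, false, true, false, true, false, false, true, false]),
   (415, [true, false, false, true, false, true, false, true, false]),
   (95, [false, true, false, true, false, true]),
   (351, [true, false, false, true, false, true, false, false])]

def T (M : M3) : M2 :=
  let c := lookupT tblT (mkey M)
  !![(c.1 : ZMod 7), (c.2.1 : ZMod 7); (c.2.2.1 : ZMod 7), (c.2.2.2 : ZMod 7)]

def word (M : M3) : List Bool := lookupW tblW (mkey M)

def ga : M3 := !![0, 0, 1; 0, 1, 0; 1, 0, 0]
def gb : M3 := !![0, 1, 0; 1, 0, 1; 1, 1, 0]
def gen (b : Bool) : M3 := if b then ga else gb

def evalW : List Bool → M3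
  | [] => 1
  | b :: l => evalW l * gen b

set_option maxRecDepth 1000000 in
theorem det_check : ∀ M : M3, M.det = 1 → (T M).det = 1 := by
  decide +kernel

set_option maxRecDepth 1000000 in
theorem mul_check : ∀ M : M3, M.det = 1 →
    (T (M * ga) = T M * T ga ∨ T (M * ga) = -(T M * T ga)) ∧
    (T (M * gb) = T M * T gb ∨ T (M * gb) = -(T M * T gb)) := by
  decide +kernel

set_option maxRecDepth 1000000 in
theorem ker_check : ∀ M : M3, M.det = 1 → (T M = 1 ∨ T M = -1) → M = 1 := by
  decide +kernel

set_option maxRecDepth 1000000 in
theorem word_check : ∀ M : M3, M.det = 1 → evalW (word M) = M := by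
  decide +kernel

theorem T_one : T 1 = 1 := by decide +kernel

theorem det_gen (b : Bool) : (gen b).det = 1 := by cases b <;> decide +kernel


open Cfsg.Agent.Lib.Helper4_PSL2ClassOdd Cfsg.Agent.Lib.Helper4_PSL2Klein

/-- the table map on SL₃(2) -/
def Tsl (M : Matrix.SpecialLinearGroup (Fin 3) (ZMod 2)) : Matrix.SpecialLinearGroup (Fin 2) (ZMod 7) :=
  ⟨T M.1, det_check M.1 M.2⟩

theorem map_inj' {R S : Type*} [CommRing R] [CommRing S] {n : Type*} [Fintype n] [DecidableEq n]
    (g : R →+* S) (hg : Function.Injective g) :
    Function.Injective (Matrix.SpecialLinearGroup.map (n := n) g) := by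
  intro A B h
  apply Subtype.ext
  ext i j
  have := congrFun (congrFun (congrArg Subtype.val h) i) j
  simp only [Matrix.SpecialLinearGroup.map_apply_coe, RingHom.mapMatrix_apply, Matrix.map_apply] at this
  exact hg this

theorem zmod2_cases : ∀ z : ZMod 2, z ≠ 0 → z = 1 := by decide

theorem card_psl27 {F : Type*} [Field F] [Fintype F] (hF : Fintype.card F = 7) :
    Nat.card (Matrix.ProjectiveSpecialLinearGroup (Fin 2) F) = 168 := by
  have := Cfsg.Agent.S0243.result hF 2 (le_refl 2)
  simp [Fin.prod_univ_two] at this
  omega

theorem card_psl32 {K : Type*} [Field K] [Fintype K] (hK : Fintype.card K = 2) :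
    Nat.card (Matrix.ProjectiveSpecialLinearGroup (Fin 3) K) = 168 := by
  have := Cfsg.Agent.S0243.result hK 3 (by norm_num)
  simp [Fin.prod_univ_three] at this
  omega

section hom
variable {F : Type*} [Field F] (ι : ZMod 7 →+* F)

theorem mapMatrix_inj (hι : Function.Injective ι) {n : Type*} [Fintype n] [DecidableEq n]
    (A B : Matrix n n (ZMod 7)) (h : ι.mapMatrix A = ι.mapMatrix B) : A = B := by
  ext i j
  have := congrFun (congrFun h i) j
  simp only [RingHom.mapMatrix_apply, Matrix.map_apply] at this
  exact hι this

def f1 (M : Matrix.SpecialLinearGroup (Fin 3) (ZMod 2)) :
    Matrix.ProjectiveSpecialLinearGroup (Fin 2) F :=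
  QuotientGroup.mk (Matrix.SpecialLinearGroup.map (n := Fin 2) ι (Tsl M))

def sgen (b : Bool) : Matrix.SpecialLinearGroup (Fin 3) (ZMod 2) := ⟨gen b, det_gen b⟩

theorem mk_map_of_pm (A B C : Matrix.SpecialLinearGroup (Fin 2) (ZMod 7))
    (h : C.1 = A.1 * B.1 ∨ C.1 = -(A.1 * B.1)) :
    (QuotientGroup.mk (Matrix.SpecialLinearGroup.map (n := Fin 2) ι C) :
      Matrix.ProjectiveSpecialLinearGroup (Fin 2) F) =
    QuotientGroup.mk (Matrix.SpecialLinearGroup.map (n := Fin 2) ι A) *
      QuotientGroup.mk (Matrix.SpecialLinearGroup.map (n := Fin 2) ι B) := by
  have hAB : Matrix.SpecialLinearGroup.map (n := Fin 2) ι A * Matrix.SpecialLinearGroup.map (n := Fin 2) ι B =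
      Matrix.SpecialLinearGroup.map (n := Fin 2) ι (A * B) :=
    ((Matrix.SpecialLinearGroup.map (n := Fin 2) ι).map_mul A B).symm
  rw [← QuotientGroup.mk_mul, hAB]
  rcases h with h | h
  · have : C = A * B := Subtype.ext (by rw [h, Matrix.SpecialLinearGroup.coe_mul])
    rw [this]
  · have : Matrix.SpecialLinearGroup.map (n := Fin 2) ι C =
        N1 * Matrix.SpecialLinearGroup.map (n := Fin 2) ι (A * B) := by
      apply Subtype.ext
      rw [N1_mul_val, Matrix.SpecialLinearGroup.map_apply_coe, Matrix.SpecialLinearGroup.map_apply_coe,
        h, Matrix.SpecialLinearGroup.coe_mul, map_neg]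
    rw [this, QuotientGroup.mk_mul, (mk_eq_one_iff N1).mpr (Or.inr rfl), one_mul]

theorem f1_step (M : Matrix.SpecialLinearGroup (Fin 3) (ZMod 2)) (b : Bool) :
    f1 ι (M * sgen b) = f1 ι M * f1 ι (sgen b) := by
  unfold f1
  apply mk_map_of_pm
  obtain ⟨ha, hb⟩ := mul_check M.1 M.2
  cases b
  · exact hb
  · exact ha

theorem f1_one : f1 ι 1 = 1 := by
  unfold f1
  have : Tsl 1 = 1 := Subtype.ext T_one
  rw [this, map_one]
  rfl

def sevalW : List Bool → Matrix.SpecialLinearGroup (Fin 3) (ZMod 2)
  | [] => 1
  | b :: l => sevalW l * sgen b

theorem sevalW_val (l : List Bool) : (sevalW l).1 = evalW l := by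
  induction l with
  | nil => rfl
  | cons b l ih =>
    rw [sevalW, Matrix.SpecialLinearGroup.coe_mul, ih, evalW]
    rfl

theorem f1_mul_sevalW (l : List Bool) : ∀ M : Matrix.SpecialLinearGroup (Fin 3) (ZMod 2),
    f1 ι (M * sevalW l) = f1 ι M * f1 ι (sevalW l) := by
  induction l with
  | nil => intro M; rw [sevalW, mul_one, f1_one, mul_one]
  | cons b l ih =>
    intro M
    rw [sevalW, ← mul_assoc, f1_step, ih M, f1_step, mul_assoc]

theorem f1_mul (M N : Matrix.SpecialLinearGroup (Fin 3) (ZMod 2)) :
    f1 ι (M * N) = f1 ι M * f1 ι N := by
  have hN : sevalW (word N.1) = N := Subtype.ext (by rw [sevalW_val, word_check N.1 N.2])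
  have := f1_mul_sevalW ι (word N.1) M
  rwa [hN] at this

/-- the hom from SL₃(2) -/
def f1Hom : Matrix.SpecialLinearGroup (Fin 3) (ZMod 2) →*
    Matrix.ProjectiveSpecialLinearGroup (Fin 2) F where
  toFun := f1 ι
  map_one' := f1_one ι
  map_mul' := f1_mul ι

theorem f1Hom_ker (hι : Function.Injective ι) (M : Matrix.SpecialLinearGroup (Fin 3) (ZMod 2))
    (h : f1Hom ι M = 1) : M = 1 := by
  change f1 ι M = 1 at h
  unfold f1 at h
  rw [mk_eq_one_iff] at h
  apply Subtype.ext
  apply ker_check M.1 M.2
  rcases h with h | h
  · left
    have h2 := congrArg Subtype.val h
    rw [Matrix.SpecialLinearGroup.map_apply_coe] at h2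
    apply mapMatrix_inj ι hι
    rw [map_one]
    exact h2
  · right
    have h2 := congrArg Subtype.val h
    rw [Matrix.SpecialLinearGroup.map_apply_coe, N1_val] at h2
    apply mapMatrix_inj ι hι
    rw [map_neg, map_one]
    exact h2

end hom

theorem S0255_main {F K : Type*} [Field F] [Fintype F] [Field K] [Fintype K]
    (hF : Fintype.card F = 7) (hK : Fintype.card K = 2) :
    Nonempty (Matrix.ProjectiveSpecialLinearGroup (Fin 2) F ≃*
      Matrix.ProjectiveSpecialLinearGroup (Fin 3) K) := by
  classical
  have : Fact (Nat.Prime 7) := ⟨by norm_num⟩
  have : Fact (Nat.Prime 2) := ⟨Nat.prime_two⟩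
  let eF : ZMod 7 ≃+* F := ZMod.ringEquivOfPrime F (by norm_num) hF
  let eK : ZMod 2 ≃+* K := ZMod.ringEquivOfPrime K Nat.prime_two hK
  let ι : ZMod 7 →+* F := eF.toRingHom
  let κ : K →+* ZMod 2 := eK.symm.toRingHom
  let f₀ : Matrix.SpecialLinearGroup (Fin 3) K →* Matrix.ProjectiveSpecialLinearGroup (Fin 2) F :=
    (f1Hom ι).comp (Matrix.SpecialLinearGroup.map (n := Fin 3) κ)
  have hκinj : Function.Injective (Matrix.SpecialLinearGroup.map (n := Fin 3) κ) :=
    map_inj' (n := Fin 3) κ κ.injective
  have hker : f₀.ker = Subgroup.center (Matrix.SpecialLinearGroup (Fin 3) K) := by
    ext A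
    rw [MonoidHom.mem_ker]
    constructor
    · intro h
      have h1 : Matrix.SpecialLinearGroup.map (n := Fin 3) κ A = 1 := f1Hom_ker ι eF.injective _ h
      have : A = 1 := hκinj (by rw [h1, map_one])
      rw [this]; exact one_mem _
    · intro h
      rw [Matrix.SpecialLinearGroup.mem_center_iff] at h
      obtain ⟨r, hr, hA⟩ := h
      have hr1 : r = 1 := by
        have hr0 : r ≠ 0 := by
          rintro rfl
          simp at hr
        have := zmod2_cases (κ r) (by intro h0; exact hr0 (κ.injective (by rw [h0, map_zero])))
        exact κ.injective (by rw [this, map_one])
      have hA1 : A = 1 := by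
        apply Subtype.ext
        rw [← hA, hr1, map_one]
        rfl
      rw [hA1, map_one]
  let f : Matrix.ProjectiveSpecialLinearGroup (Fin 3) K →*
      Matrix.ProjectiveSpecialLinearGroup (Fin 2) F :=
    QuotientGroup.lift _ f₀ (le_of_eq hker.symm)
  have hfinj : Function.Injective f := (QuotientGroup.injective_lift_iff _ _ _).2 hker.symm
  have hcF := card_psl27 hF
  have hcK := card_psl32 hK
  have hbij : Function.Bijective f :=
    Function.Injective.bijective_of_nat_card_le hfinj (by rw [hcF, hcK])
  exact ⟨(MulEquiv.ofBijective f hbij).symm⟩

end Cfsg.Agent.Lib.Helper4_PSL27
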