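import Mathlib
import Cfsg.Agent.Lib.Helper4_PSL2A5
import Cfsg.Agent.Lib.Helper9_AltEmbed

namespace Cfsg.Agent.Lib.Helper4_PSL29
open Cfsg.Agent.Lib.Helper4_PSL2Klein Cfsg.Agent.Lib.Helper4_SL2Card

theorem S0254_main {F : Type*} [Field F] [Fintype F] (hF : Fintype.card F = 9) :
    Nonempty (Matrix.ProjectiveSpecialLinearGroup (Fin 2) F ≃* alternatingGroup (Fin 6)) := by
  classical
  have hsimple : IsSimpleGroup (Matrix.ProjectiveSpecialLinearGroup (Fin 2) F) :=
    Matrix.ProjectiveSpecialLinearGroup.rank_two_simple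
      (by rw [Nat.card_eq_fintype_card, hF]; norm_num)
  have hc : ringChar F ≠ 2 := by
    intro h
    have := FiniteField.even_card_of_char_two h
    rw [hF] at this
    omega
  have h2 : (2 : F) ≠ 0 := Ring.two_ne_zero hc
  have hcard : Nat.card (Matrix.ProjectiveSpecialLinearGroup (Fin 2) F) = 360 := by
    have h1 := Subgroup.card_eq_card_quotient_mul_card_subgroup
      (Subgroup.center (Matrix.SpecialLinearGroup (Fin 2) F))
    rw [card_center_SL2 h2, card_SL2, hF] at h1
    have h3 : Nat.card (Matrix.ProjectiveSpecialLinearGroup (Fin 2) F) * 2 = 9 * (9 ^ 2 - 1) := h1.symm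
    omega
  obtain ⟨H, ⟨e⟩⟩ := (Cfsg.Agent.Lib.Helper4_PSL2A5.S0804_main hF).mpr (by norm_num)
  have h60 : Nat.card H = 60 := by
    rw [Nat.card_congr e.toEquiv, Nat.card_eq_fintype_card]
    have := two_mul_card_alternatingGroup (α := Fin 5)
    rw [Fintype.card_perm, Fintype.card_fin] at this
    have h120 : (5 : ℕ).factorial = 120 := by decide
    omega
  have hidx : H.index = 6 := by
    have := Subgroup.card_mul_index H
    rw [h60, hcard] at this
    omega
  have : Finite (Matrix.ProjectiveSpecialLinearGroup (Fin 2) F ⧸ H) :=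
    Subgroup.finite_quotient_of_finiteIndex
  have : Fintype (Matrix.ProjectiveSpecialLinearGroup (Fin 2) F ⧸ H) := Fintype.ofFinite _
  have hX : Fintype.card (Matrix.ProjectiveSpecialLinearGroup (Fin 2) F ⧸ H) = 6 := by
    rw [← Nat.card_eq_fintype_card, ← Subgroup.index_eq_card, hidx]
  let φ : Matrix.ProjectiveSpecialLinearGroup (Fin 2) F →*
      Equiv.Perm (Matrix.ProjectiveSpecialLinearGroup (Fin 2) F ⧸ H) :=
    MulAction.toPermHom _ _
  have hinj : Function.Injective φ := by
    rw [← MonoidHom.ker_eq_bot_iff]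
    rcases φ.normal_ker.eq_bot_or_eq_top with h | h
    · exact h
    · exfalso
      have htop : H = ⊤ := by
        rw [eq_top_iff]
        intro g _
        have hg : g ∈ φ.ker := by rw [h]; trivial
        rw [MonoidHom.mem_ker] at hg
        have h1 : φ g ((1 : Matrix.ProjectiveSpecialLinearGroup (Fin 2) F) : _ ⧸ H) =
            ((1 : Matrix.ProjectiveSpecialLinearGroup (Fin 2) F) : _ ⧸ H) := by rw [hg]; rfl
        change ((g * 1 : Matrix.ProjectiveSpecialLinearGroup (Fin 2) F) : _ ⧸ H) = _ at h1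
        rw [mul_one, QuotientGroup.eq] at h1
        simpa using h1
      rw [htop, Subgroup.index_top] at hidx
      omega
  exact Cfsg.Agent.Helper9AltEmbed.alt_of_embed φ hinj 6 hX (by rw [hcard]; rfl)

end Cfsg.Agent.Lib.Helper4_PSL29
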