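import Mathlib
import Cfsg.Agent.S0228
import Cfsg.Agent.Lib.Helper4_KleinCount
import Cfsg.Agent.Lib.Helper4_PSL2Klein
import Cfsg.Agent.Lib.Helper4_PSL2TI

namespace Cfsg.Agent.Lib.Helper4_PSL2A4

open Cfsg.Agent.Lib.Helper4_KleinCount

variable {G : Type*} [Group G]

theorem exists_A4 [Finite G] (a b y : G) (hK : IsKPair (a, b)) (hy : y ^ 3 = 1)
    (hya : y * a * y⁻¹ = b) (hyb : y * b * y⁻¹ = a * b) :
    ∃ H : Subgroup G, Nonempty (H ≃* alternatingGroup (Fin 4)) := by
  obtain ⟨haa, hbb, ha1, hb1, hab, hcomm⟩ := hK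
  simp only at haa hbb ha1 hb1 hab hcomm
  have hK' : IsKPair (a, b) := ⟨haa, hbb, ha1, hb1, hab, hcomm⟩
  set V := (pairSub ⟨(a,b), hK'⟩).1 with hV
  have hVK : IsKleinFour V := (pairSub ⟨(a,b), hK'⟩).2
  have hmem : ∀ g, g ∈ V ↔ g = 1 ∨ g = a ∨ g = b ∨ g = a * b := mem_pairSub ⟨(a,b), hK'⟩
  have hbab : b * (a * b) = a := by
    rw [← mul_assoc, ← hcomm, mul_assoc, hbb, mul_one]
  have hyab : y * (a * b) * y⁻¹ = a := by
    have : y * (a*b) * y⁻¹ = (y * a * y⁻¹) * (y * b * y⁻¹) := by group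
    rw [this, hya, hyb, hbab]
  have hab1 : a * b ≠ 1 := by
    intro h
    apply hab
    have : a * b * b = b := by rw [h, one_mul]
    rwa [mul_assoc, hbb, mul_one] at this
  have hnorm : ∀ v ∈ V, y * v * y⁻¹ ∈ V := by
    intro v hv
    rcases (hmem v).mp hv with h | h | h | h
    · rw [h]; simp [one_mem]
    · rw [h, hya]; exact (hmem _).mpr (Or.inr (Or.inr (Or.inl rfl)))
    · rw [h, hyb]; exact (hmem _).mpr (Or.inr (Or.inr (Or.inr rfl)))
    · rw [h, hyab]; exact (hmem _).mpr (Or.inr (Or.inl rfl))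
  have hfpf : ∀ v ∈ V, y * v * y⁻¹ = v → v = 1 := by
    intro v hv h
    rcases (hmem v).mp hv with h0 | h0 | h0 | h0
    · exact h0
    · rw [h0, hya] at h; exact absurd h.symm hab
    · rw [h0, hyb] at h
      exfalso; apply ha1
      have : a * b * b = b * b := by rw [h]
      rwa [mul_assoc, hbb, mul_one] at this
    · rw [h0, hyab] at h
      exfalso; apply hb1
      have : a⁻¹ * a = a⁻¹ * (a * b) := by rw [← h]
      rw [inv_mul_cancel, inv_mul_cancel_left] at this
      exact this.symm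
  have hy1 : y ≠ 1 := by
    intro h
    rw [h] at hya
    simp at hya
    exact hab hya
  have hord : orderOf y = 3 := orderOf_eq_prime hy hy1
  have hcardY : Nat.card (Subgroup.zpowers y) = 3 := by rw [Nat.card_zpowers, hord]
  have hcardV : Nat.card V = 4 := hVK.card_four
  have hnormN : ∀ n : ℕ, ∀ v ∈ V, y ^ n * v * (y ^ n)⁻¹ ∈ V := by
    intro n
    induction n with
    | zero => intro v hv; simpa using hv
    | succ n ih =>
      intro v hv
      have : y ^ (n + 1) * v * (y ^ (n + 1))⁻¹ = y * (y ^ n * v * (y ^ n)⁻¹) * y⁻¹ := by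
        rw [pow_succ']; group
      rw [this]
      exact hnorm _ (ih v hv)
  have hnormZ : ∀ z ∈ Subgroup.zpowers y, ∀ v ∈ V, z * v * z⁻¹ ∈ V := by
    intro z hz v hv
    rw [← (isOfFinOrder_of_finite y).mem_powers_iff_mem_zpowers, Submonoid.mem_powers_iff] at hz
    obtain ⟨n, rfl⟩ := hz
    exact hnormN n v hv
  have hdisj : ∀ g, g ∈ V → g ∈ Subgroup.zpowers y → g = 1 := by
    intro g h1 h2
    have hbot : V ⊓ Subgroup.zpowers y = ⊥ := by
      apply disjoint_iff.mp
      apply Subgroup.disjoint_of_coprime_natCard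
      rw [hcardY, hcardV]; decide
    have : g ∈ V ⊓ Subgroup.zpowers y := ⟨h1, h2⟩
    rw [hbot] at this
    exact Subgroup.mem_bot.mp this
  let H : Subgroup G :=
    { carrier := {g | ∃ v ∈ V, ∃ z ∈ Subgroup.zpowers y, g = v * z}
      mul_mem' := by
        rintro _ _ ⟨v, hv, z, hz, rfl⟩ ⟨v', hv', z', hz', rfl⟩
        refine ⟨v * (z * v' * z⁻¹), mul_mem hv (hnormZ z hz v' hv'), z * z', mul_mem hz hz', ?_⟩
        group
      one_mem' := ⟨1, one_mem _, 1, one_mem _, by simp⟩
      inv_mem' := by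
        rintro _ ⟨v, hv, z, hz, rfl⟩
        refine ⟨z⁻¹ * v⁻¹ * z⁻¹⁻¹, hnormZ _ (inv_mem hz) _ (inv_mem hv), z⁻¹, inv_mem hz, ?_⟩
        group }
  have hHmem : ∀ g, g ∈ H ↔ ∃ v ∈ V, ∃ z ∈ Subgroup.zpowers y, g = v * z := fun g => Iff.rfl
  have hcardH : Nat.card H = 12 := by
    have e : V × Subgroup.zpowers y ≃ H := by
      refine Equiv.ofBijective (fun p => ⟨p.1.1 * p.2.1, ⟨p.1.1, p.1.2, p.2.1, p.2.2, rfl⟩⟩) ⟨?_, ?_⟩
      · rintro ⟨⟨v, hv⟩, ⟨z, hz⟩⟩ ⟨⟨v', hv'⟩, ⟨z', hz'⟩⟩ h
        have h' : v * z = v' * z' := congrArg Subtype.val h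
        have h1 : v'⁻¹ * v = z' * z⁻¹ := by
          rw [eq_mul_inv_iff_mul_eq, mul_assoc, h', inv_mul_cancel_left]
        have h2 : v'⁻¹ * v = 1 := hdisj _ (mul_mem (inv_mem hv') hv) (h1 ▸ mul_mem hz' (inv_mem hz))
        have hvv : v = v' := by
          rw [inv_mul_eq_one] at h2; exact h2.symm
        subst hvv
        have hzz : z = z' := mul_left_cancel h'
        subst hzz
        rfl
      · rintro ⟨g, v, hv, z, hz, rfl⟩
        exact ⟨(⟨v, hv⟩, ⟨z, hz⟩), rfl⟩
    rw [← Nat.card_congr e, Nat.card_prod, hcardY, hcardV]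
  refine ⟨H, ?_⟩
  have : Finite H := inferInstance
  apply Cfsg.Agent.S0228.result hcardH
  rintro ⟨g, hg⟩ hg2 hgc
  obtain ⟨v, hv, w, hw, rfl⟩ := hg
  have hw3 : w ^ 3 = 1 := by
    obtain ⟨k, rfl⟩ := hw
    rw [← zpow_natCast, ← zpow_mul, mul_comm, zpow_mul, zpow_natCast, hy, one_zpow]
  have hsq : (v * w) * (v * w) = 1 := by
    have h1 : (⟨v * w, ⟨v, hv, w, hw, rfl⟩⟩ : H) ^ 2 = 1 := by
      rw [← hg2]; exact pow_orderOf_eq_one _
    have := congrArg Subtype.val h1
    simpa [pow_two] using this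
  have hw2 : w * w = 1 := by
    apply hdisj
    · have : w * w = (v * (w * v * w⁻¹))⁻¹ := by
        rw [eq_inv_iff_mul_eq_one]
        have h2 : (w * v) * (w * v) = 1 := by
          calc (w * v) * (w * v) = v⁻¹ * ((v * w) * (v * w)) * v := by group
            _ = 1 := by rw [hsq]; group
        calc w * w * (v * (w * v * w⁻¹)) = w * ((w * v) * (w * v)) * w⁻¹ := by group
          _ = 1 := by rw [h2]; group
      rw [this]
      exact inv_mem (mul_mem hv (hnormZ w hw v hv))
    · exact mul_mem hw hw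
  have hw1 : w = 1 := by
    have : w ^ 3 = w * w * w := by rw [pow_succ, pow_two]
    rw [this, hw2, one_mul] at hw3
    exact hw3
  subst hw1
  rw [mul_one] at hsq
  have hv1 : v ≠ 1 := by
    rintro rfl
    simp at hg2
  apply hv1
  apply hfpf v hv
  have hyH : y ∈ H := ⟨1, one_mem _, y, Subgroup.mem_zpowers y, by simp⟩
  have := Subgroup.mem_center_iff.mp hgc ⟨y, hyH⟩
  have h' : y * (v * 1) = v * 1 * y := congrArg Subtype.val this
  rw [mul_one] at h'
  rw [h', mul_inv_cancel_right]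



open Matrix Cfsg.Agent.Lib.Helper4_PSL2ClassOdd Cfsg.Agent.Lib.Helper4_PSL2Klein
  Cfsg.Agent.Lib.Helper4_KleinCount

variable {F : Type*} [Field F]

/-- the three quaternion-like generators -/
def mA : Matrix.SpecialLinearGroup (Fin 2) F := ⟨!![0, -1; 1, 0], by simp [Matrix.det_fin_two]⟩

def mB (s r : F) (h : s ^ 2 + r ^ 2 = -1) : Matrix.SpecialLinearGroup (Fin 2) F :=
  ⟨!![s, r; r, -s], by rw [Matrix.det_fin_two]; simp; linear_combination (-1 : F) * h⟩

def mY (s r : F) (h : s ^ 2 + r ^ 2 = -1) (h2 : (2 : F) ≠ 0) : Matrix.SpecialLinearGroup (Fin 2) F :=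
  ⟨!![(1 + s - r) / 2, (-1 + r + s) / 2; (1 + r + s) / 2, (1 - s + r) / 2], by
    rw [Matrix.det_fin_two]; simp; field_simp; linear_combination (-2 : F) * h⟩

theorem mA_sq : (mA : Matrix.SpecialLinearGroup (Fin 2) F) * mA = N1 := by
  apply Subtype.ext
  rw [Matrix.SpecialLinearGroup.coe_mul, N1_val]
  ext i j
  fin_cases i <;> fin_cases j <;> simp [mA, Matrix.mul_apply, Fin.sum_univ_two]

theorem mB_mA (s r : F) (h : s ^ 2 + r ^ 2 = -1) : mB s r h * mA * (mB s r h)⁻¹ = N1 * mA := by
  rw [mul_inv_eq_iff_eq_mul]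
  apply Subtype.ext
  rw [Matrix.SpecialLinearGroup.coe_mul, Matrix.SpecialLinearGroup.coe_mul, N1_mul_val]
  ext i j
  fin_cases i <;> fin_cases j <;> simp [mA, mB, Matrix.mul_apply, Fin.sum_univ_two]

theorem mY_mA (s r : F) (h : s ^ 2 + r ^ 2 = -1) (h2 : (2 : F) ≠ 0) :
    mY s r h h2 * mA * (mY s r h h2)⁻¹ = mB s r h := by
  rw [mul_inv_eq_iff_eq_mul]
  apply Subtype.ext
  rw [Matrix.SpecialLinearGroup.coe_mul, Matrix.SpecialLinearGroup.coe_mul]
  ext i j
  fin_cases i <;> fin_cases j <;> simp [mA, mB, mY, Matrix.mul_apply, Fin.sum_univ_two] <;>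
    field_simp <;>
    first
    | ring1
    | linear_combination (1 : F) * h
    | linear_combination (-1 : F) * h
    | linear_combination (2 : F) * h
    | linear_combination (-2 : F) * h
    | linear_combination (1/2 : F) * h
    | linear_combination (-1/2 : F) * h

theorem mY_mB (s r : F) (h : s ^ 2 + r ^ 2 = -1) (h2 : (2 : F) ≠ 0) :
    mY s r h h2 * mB s r h * (mY s r h h2)⁻¹ = mA * mB s r h := by
  rw [mul_inv_eq_iff_eq_mul]
  apply Subtype.ext
  rw [Matrix.SpecialLinearGroup.coe_mul, Matrix.SpecialLinearGroup.coe_mul,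
    Matrix.SpecialLinearGroup.coe_mul]
  ext i j
  fin_cases i <;> fin_cases j <;> simp [mA, mB, mY, Matrix.mul_apply, Fin.sum_univ_two] <;>
    field_simp <;>
    first
    | ring1
    | linear_combination (1 : F) * h
    | linear_combination (-1 : F) * h
    | linear_combination (2 : F) * h
    | linear_combination (-2 : F) * h
    | linear_combination (1/2 : F) * h
    | linear_combination (-1/2 : F) * h

theorem mY_sq (s r : F) (h : s ^ 2 + r ^ 2 = -1) (h2 : (2 : F) ≠ 0) :
    ((mY s r h h2 * mY s r h h2 : Matrix.SpecialLinearGroup (Fin 2) F) : Matrix (Fin 2) (Fin 2) F) =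
      (mY s r h h2 : Matrix (Fin 2) (Fin 2) F) - 1 := by
  rw [Matrix.SpecialLinearGroup.coe_mul]
  ext i j
  fin_cases i <;> fin_cases j <;> simp [mY, Matrix.mul_apply, Fin.sum_univ_two] <;>
    field_simp <;>
    first
    | ring1
    | linear_combination (1 : F) * h
    | linear_combination (-1 : F) * h
    | linear_combination (2 : F) * h
    | linear_combination (-2 : F) * h
    | linear_combination (1/2 : F) * h
    | linear_combination (-1/2 : F) * h

theorem mY_cube (s r : F) (h : s ^ 2 + r ^ 2 = -1) (h2 : (2 : F) ≠ 0) :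
    (mY s r h h2) ^ 3 = N1 := by
  apply Subtype.ext
  rw [pow_succ, pow_two, Matrix.SpecialLinearGroup.coe_mul, mY_sq, N1_val, Matrix.sub_mul, one_mul,
    ← Matrix.SpecialLinearGroup.coe_mul, mY_sq]
  abel



open Matrix Cfsg.Agent.Lib.Helper4_GL2Classes0 Cfsg.Agent.Lib.Helper4_PSL2TI

variable {F : Type*} [Field F]

theorem nilp_NS (N : Matrix (Fin 2) (Fin 2) F) (hN0 : N ≠ 0) (hNN : N * N = 0) : NS N := by
  by_contra hcon
  have h1 := (not_NS_iff _).mp hcon
  apply hN0
  have h2 : N * N = (N 0 0 * N 0 0) • (1 : Matrix (Fin 2) (Fin 2) F) := by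
    conv_lhs => rw [h1]
    rw [Matrix.smul_mul, Matrix.mul_smul, Matrix.one_mul, smul_smul]
  rw [hNN] at h2
  have h3 := congrFun (congrFun h2 0) 0
  simp at h3
  rw [h1, h3, zero_smul]

theorem root_of_rel [CharP F 2] (A B Y : Matrix (Fin 2) (Fin 2) F) (hY : IsUnit Y.det)
    (hA1 : A ≠ 1) (hAA : A * A = 1) (hBB : B * B = 1) (hcomm : A * B = B * A)
    (hYA : Y * A = B * Y) (hYB : Y * B = A * B * Y) :
    ∃ β : F, β ^ 2 + β + 1 = 0 := by
  have h20 : (2 : F) = 0 := CharTwo.two_eq_zero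
  have h2M : ∀ X : Matrix (Fin 2) (Fin 2) F, X + X = 0 := by
    intro X
    ext i j
    simp only [Matrix.add_apply, Matrix.zero_apply]
    exact CharTwo.add_self_eq_zero _
  set N := A - 1 with hN
  set M := B - 1 with hM
  have hN0 : N ≠ 0 := by
    intro h; apply hA1; rwa [hN, sub_eq_zero] at h
  have hNN : N * N = 0 := by
    have : N * N = A * A - (A + A) + 1 := by rw [hN]; noncomm_ring
    rw [this, hAA, h2M A, sub_zero, h2M]
  have hMM : M * M = 0 := by
    have : M * M = B * B - (B + B) + 1 := by rw [hM]; noncomm_ring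
    rw [this, hBB, h2M B, sub_zero, h2M]
  have hMN : M * N = N * M := by
    rw [hM, hN]
    have h1 : (B - 1) * (A - 1) = B * A - B - A + 1 := by noncomm_ring
    have h2 : (A - 1) * (B - 1) = A * B - A - B + 1 := by noncomm_ring
    rw [h1, h2, hcomm]; abel
  have hNS := nilp_NS N hN0 hNN
  obtain ⟨α, β, hαβ⟩ := exists_poly N M hNS hMN
  have hα : α = 0 := by
    have h1 : M * M = (α * α) • (1 : Matrix (Fin 2) (Fin 2) F) + (α * β + α * β) • N +
        (β * β) • (N * N) := by
      rw [hαβ]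
      simp only [Matrix.add_mul, Matrix.mul_add, Matrix.smul_mul, Matrix.mul_smul, Matrix.one_mul,
        Matrix.mul_one, smul_smul, smul_add, add_smul]
      rw [mul_comm β α]
      abel
    rw [hMM, hNN, smul_zero, add_zero, CharTwo.add_self_eq_zero, zero_smul, add_zero] at h1
    have h3 := congrFun (congrFun h1 0) 0
    simp at h3
    exact h3
  rw [hα, zero_smul, zero_add] at hαβ
  refine ⟨β, ?_⟩
  have hYN : Y * N = M * Y := by
    rw [hN, hM, Matrix.mul_sub, Matrix.sub_mul, hYA, mul_one, one_mul]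
  have hAB1 : A * B - 1 = (1 + β) • N := by
    have : A * B - 1 = N + M + N * M := by rw [hN, hM]; noncomm_ring
    rw [this, hαβ, Matrix.mul_smul, hNN, smul_zero, add_zero, add_smul, one_smul]
  have hYM : Y * M = (A * B - 1) * Y := by
    rw [hM, Matrix.mul_sub, Matrix.sub_mul, hYB, mul_one, one_mul]
  have h1 : Y * M = (β * β) • (N * Y) := by
    rw [hαβ, Matrix.mul_smul, hYN, hαβ, Matrix.smul_mul, smul_smul]
  rw [hYM, hAB1, Matrix.smul_mul] at h1
  have h2 : ((1 + β) - β * β) • (N * Y) = 0 := by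
    rw [sub_smul, h1, sub_self]
  have hNY : N * Y ≠ 0 := by
    intro h
    apply hN0
    have hYu : IsUnit Y := (Matrix.isUnit_iff_isUnit_det Y).mpr hY
    exact (hYu.mul_left_eq_zero).mp h
  rcases smul_eq_zero.mp h2 with h3 | h3
  · linear_combination (-1 : F) * h3 + (β + 1) * h20
  · exact absurd h3 hNY




def a0 : alternatingGroup (Fin 4) := ⟨Equiv.swap 0 1 * Equiv.swap 2 3, Equiv.Perm.mem_alternatingGroup.mpr (by decide)⟩
def b0 : alternatingGroup (Fin 4) := ⟨Equiv.swap 0 2 * Equiv.swap 1 3, Equiv.Perm.mem_alternatingGroup.mpr (by decide)⟩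
def y0 : alternatingGroup (Fin 4) := ⟨Equiv.swap 1 2 * Equiv.swap 2 3, Equiv.Perm.mem_alternatingGroup.mpr (by decide)⟩

theorem a0_ne : a0 ≠ 1 := by decide
theorem a0_sq : a0 * a0 = 1 := by decide
theorem b0_sq : b0 * b0 = 1 := by decide
theorem ab_comm : a0 * b0 = b0 * a0 := by decide
theorem y0_a0 : y0 * a0 = b0 * y0 := by decide
theorem y0_b0 : y0 * b0 = a0 * b0 * y0 := by decide


section main
open Cfsg.Agent.Lib.Helper4_SL2Cent

/-- char 2 generators -/
def uA : Matrix.SpecialLinearGroup (Fin 2) F := ⟨!![1, 1; 0, 1], by simp [Matrix.det_fin_two]⟩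
def uB (w : F) : Matrix.SpecialLinearGroup (Fin 2) F := ⟨!![1, w; 0, 1], by simp [Matrix.det_fin_two]⟩
def dY (w : F) (hw : w ^ 3 = 1) : Matrix.SpecialLinearGroup (Fin 2) F :=
  ⟨!![w ^ 2, 0; 0, w], by rw [Matrix.det_fin_two]; simp; linear_combination hw⟩

theorem char2_case [Fintype F] [CharP F 2] (w : F) (hw : w ^ 2 + w + 1 = 0) :
    ∃ H : Subgroup (Matrix.SpecialLinearGroup (Fin 2) F), Nonempty (H ≃* alternatingGroup (Fin 4)) := by
  classical
  have h20 : (2 : F) = 0 := CharTwo.two_eq_zero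
  have hw3 : w ^ 3 = 1 := by linear_combination (w - 1) * hw
  have hw0 : w ≠ 0 := by
    rintro rfl
    simp at hw
  have hw1 : w ≠ 1 := by
    rintro rfl
    have : (1 : F) = 0 := by linear_combination hw - h20
    exact one_ne_zero this
  apply exists_A4 uA (uB w) (dY w hw3)
  · refine ⟨?_, ?_, ?_, ?_, ?_, ?_⟩
    · apply Subtype.ext
      rw [Matrix.SpecialLinearGroup.coe_mul]
      ext i j
      fin_cases i <;> fin_cases j <;> simp [uA, Matrix.mul_apply, Fin.sum_univ_two]
      linear_combination h20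
    · apply Subtype.ext
      rw [Matrix.SpecialLinearGroup.coe_mul]
      ext i j
      fin_cases i <;> fin_cases j <;> simp [uB, Matrix.mul_apply, Fin.sum_univ_two]
      linear_combination w * h20
    · intro h
      have := congrFun (congrFun (congrArg Subtype.val h) 0) 1
      simp [uA] at this
    · intro h
      have := congrFun (congrFun (congrArg Subtype.val h) 0) 1
      simp [uB] at this
      exact hw0 this
    · intro h
      have := congrFun (congrFun (congrArg Subtype.val h) 0) 1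
      simp [uA, uB] at this
      exact hw1 this.symm
    · apply Subtype.ext
      rw [Matrix.SpecialLinearGroup.coe_mul, Matrix.SpecialLinearGroup.coe_mul]
      ext i j
      fin_cases i <;> fin_cases j <;> simp [uA, uB, Matrix.mul_apply, Fin.sum_univ_two]
      ring
  · apply Subtype.ext
    rw [pow_succ, pow_two, Matrix.SpecialLinearGroup.coe_mul, Matrix.SpecialLinearGroup.coe_mul]
    ext i j
    fin_cases i <;> fin_cases j <;> simp [dY, Matrix.mul_apply, Fin.sum_univ_two]
    · linear_combination (w ^ 3 + 1) * hw3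
    · linear_combination hw3
  · rw [mul_inv_eq_iff_eq_mul]
    apply Subtype.ext
    rw [Matrix.SpecialLinearGroup.coe_mul, Matrix.SpecialLinearGroup.coe_mul]
    ext i j
    fin_cases i <;> fin_cases j <;> simp [uA, uB, dY, Matrix.mul_apply, Fin.sum_univ_two]
    ring
  · rw [mul_inv_eq_iff_eq_mul]
    apply Subtype.ext
    rw [Matrix.SpecialLinearGroup.coe_mul, Matrix.SpecialLinearGroup.coe_mul,
      Matrix.SpecialLinearGroup.coe_mul]
    ext i j
    fin_cases i <;> fin_cases j <;> simp [uA, uB, dY, Matrix.mul_apply, Fin.sum_univ_two]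
    left
    linear_combination hw - (w + 1) * h20

theorem odd_case [Fintype F] (p : ℕ) [Fact p.Prime] [CharP F p] (hp : p ≠ 2) :
    ∃ H : Subgroup (Matrix.ProjectiveSpecialLinearGroup (Fin 2) F),
      Nonempty (H ≃* alternatingGroup (Fin 4)) := by
  classical
  have h2 : (2 : F) ≠ 0 := by
    intro h
    have h' : ((2 : ℕ) : F) = 0 := by exact_mod_cast h
    rw [CharP.cast_eq_zero_iff F p] at h'
    exact hp ((Nat.prime_dvd_prime_iff_eq (Fact.out : p.Prime) Nat.prime_two).mp h')
  have : NeZero p := ⟨(Fact.out : p.Prime).ne_zero⟩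
  obtain ⟨a, b, hab⟩ := CharP.sq_add_sq F p (-1)
  have h : (a : F) ^ 2 + (b : F) ^ 2 = -1 := by simpa using hab
  apply exists_A4 (QuotientGroup.mk mA) (QuotientGroup.mk (mB (a : F) (b : F) h))
    (QuotientGroup.mk (mY (a : F) (b : F) h h2))
  · exact (kpair_iff h2 _ _).mpr ⟨mA_sq, mB_mA _ _ h⟩
  · rw [← QuotientGroup.mk_pow, mY_cube]
    exact (mk_eq_one_iff _).mpr (Or.inr rfl)
  · rw [← QuotientGroup.mk_inv, ← QuotientGroup.mk_mul, ← QuotientGroup.mk_mul, mY_mA]
  · rw [← QuotientGroup.mk_inv, ← QuotientGroup.mk_mul, ← QuotientGroup.mk_mul, mY_mB,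
      QuotientGroup.mk_mul]

theorem no_A4 [CharP F 2] (f : alternatingGroup (Fin 4) →* Matrix.SpecialLinearGroup (Fin 2) F)
    (hf : Function.Injective f) : ∃ β : F, β ^ 2 + β + 1 = 0 := by
  apply root_of_rel (f a0).1 (f b0).1 (f y0).1
  · rw [(f y0).2]; exact isUnit_one
  · intro h
    have : f a0 = 1 := Subtype.ext h
    rw [← map_one f] at this
    exact a0_ne (hf this)
  · rw [← Matrix.SpecialLinearGroup.coe_mul, ← _root_.map_mul, a0_sq, _root_.map_one]; rfl
  · rw [← Matrix.SpecialLinearGroup.coe_mul, ← _root_.map_mul, b0_sq, _root_.map_one]; rfl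
  · rw [← Matrix.SpecialLinearGroup.coe_mul, ← Matrix.SpecialLinearGroup.coe_mul,
      ← _root_.map_mul, ← _root_.map_mul, ab_comm]
  · rw [← Matrix.SpecialLinearGroup.coe_mul, ← Matrix.SpecialLinearGroup.coe_mul,
      ← _root_.map_mul, ← _root_.map_mul, y0_a0]
  · rw [← Matrix.SpecialLinearGroup.coe_mul, ← Matrix.SpecialLinearGroup.coe_mul,
      ← Matrix.SpecialLinearGroup.coe_mul,
      ← _root_.map_mul, ← _root_.map_mul, ← _root_.map_mul, y0_b0]

theorem S0802_main [Fintype F] (p n : ℕ) [Fact p.Prime] [CharP F p] (hF : Fintype.card F = p ^ n) :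
    (∃ H : Subgroup (Matrix.ProjectiveSpecialLinearGroup (Fin 2) F),
      Nonempty (H ≃* alternatingGroup (Fin 4))) ↔ ¬ (p = 2 ∧ Odd n) := by
  classical
  constructor
  · rintro ⟨H, ⟨e⟩⟩ ⟨rfl, hn⟩
    let f : alternatingGroup (Fin 4) →* Matrix.SpecialLinearGroup (Fin 2) F :=
      (slEquivPsl (F := F)).symm.toMonoidHom.comp (H.subtype.comp e.symm.toMonoidHom)
    have hf : Function.Injective f := by
      intro x y hxy
      have h1 : (slEquivPsl (F := F)).symm ((e.symm x : H) : Matrix.ProjectiveSpecialLinearGroup (Fin 2) F)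
          = (slEquivPsl (F := F)).symm ((e.symm y : H) : Matrix.ProjectiveSpecialLinearGroup (Fin 2) F) := hxy
      have h2 := (slEquivPsl (F := F)).symm.injective h1
      exact e.symm.injective (Subtype.ext h2)
    obtain ⟨β, hβ⟩ := no_A4 f hf
    have h20 : (2 : F) = 0 := CharTwo.two_eq_zero
    have hβ0 : β ≠ 0 := by
      rintro rfl
      simp at hβ
    have hβ1 : β ≠ 1 := by
      rintro rfl
      have : (1 : F) = 0 := by linear_combination hβ - h20
      exact one_ne_zero this
    have hβ3 : β ^ 3 = 1 := by linear_combination (β - 1) * hβ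
    have hord : orderOf (Units.mk0 β hβ0) = 3 := by
      apply orderOf_eq_prime
      · apply Units.ext
        rw [Units.val_pow_eq_pow_val, Units.val_mk0, hβ3, Units.val_one]
      · intro h
        apply hβ1
        have := congrArg Units.val h
        simpa using this
    have hdvd : 3 ∣ Fintype.card Fˣ := by
      rw [← hord]; exact orderOf_dvd_card
    rw [Fintype.card_units, hF] at hdvd
    obtain ⟨k, rfl⟩ := hn
    have h4 : 4 ^ k % 3 = 1 := by
      rw [Nat.pow_mod]; simp
    have : 2 ^ (2 * k + 1) = 2 * 4 ^ k := by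
      rw [pow_succ, pow_mul]; norm_num; ring
    rw [this] at hdvd
    omega
  · intro hn
    by_cases hp : p = 2
    · subst hp
      have hev : Even n := by
        rw [← Nat.not_odd_iff_even]
        intro h; exact hn ⟨rfl, h⟩
      obtain ⟨k, rfl⟩ := hev
      have h4 : 4 ^ k % 3 = 1 := by
        rw [Nat.pow_mod]; simp
      have hpow : 2 ^ (k + k) = 4 ^ k := by
        rw [← two_mul, pow_mul]; norm_num
      have hdvd : 3 ∣ Fintype.card Fˣ := by
        rw [Fintype.card_units, hF, hpow]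
        omega
      have : Fact (Nat.Prime 3) := ⟨Nat.prime_three⟩
      obtain ⟨u, hu⟩ := exists_prime_orderOf_dvd_card 3 hdvd
      have hu3 : (u : F) ^ 3 = 1 := by
        have : u ^ 3 = 1 := by rw [← hu]; exact pow_orderOf_eq_one u
        have := congrArg Units.val this
        simpa using this
      have hu1 : (u : F) ≠ 1 := by
        intro h
        have : u = 1 := Units.ext h
        rw [this, orderOf_one] at hu
        omega
      have hw : (u : F) ^ 2 + (u : F) + 1 = 0 := by
        have h1 : ((u : F) - 1) * ((u : F) ^ 2 + (u : F) + 1) = 0 := by linear_combination hu3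
        rcases mul_eq_zero.mp h1 with h | h
        · exact absurd (sub_eq_zero.mp h) hu1
        · exact h
      obtain ⟨H, ⟨e⟩⟩ := char2_case (u : F) hw
      refine ⟨H.map (slEquivPsl (F := F)).toMonoidHom, ⟨?_⟩⟩
      exact (H.equivMapOfInjective _ (slEquivPsl (F := F)).injective).symm.trans e
    · exact odd_case p hp

end main

end Cfsg.Agent.Lib.Helper4_PSL2A4
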