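import Mathlib
import Cfsg.Agent.Lib.Helper4_SL2Torus

namespace Cfsg.Agent.Lib.Helper4_PSL2ABA
open Matrix Cfsg.Agent.Lib.Helper4_GL2Classes0 Cfsg.Agent.Lib.Helper4_SL2Classes
  Cfsg.Agent.Lib.Helper4_SL2Card Cfsg.Agent.Lib.Helper4_SL2Cent Cfsg.Agent.Lib.Helper4_SL2Odd
  Cfsg.Agent.Lib.Helper4_PSL2ClassOdd Cfsg.Agent.Lib.Helper4_PSL2Orders
  Cfsg.Agent.Lib.Helper4_SL2Torus

variable {F : Type*} [Field F]

/-- the unipotent subgroup as a homomorphism -/
def Uhom : Multiplicative F →* Matrix.SpecialLinearGroup (Fin 2) F where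
  toFun b := V 1 (Multiplicative.toAdd b) (one_mul 1)
  map_one' := by
    apply Subtype.ext
    ext i j; fin_cases i <;> fin_cases j <;> simp [V]
  map_mul' a b := by
    rw [V_mul]; rfl

theorem Uhom_val (b : Multiplicative F) :
    ((Uhom b : Matrix.SpecialLinearGroup (Fin 2) F) : Matrix (Fin 2) (Fin 2) F) =
      !![1, Multiplicative.toAdd b; 0, 1] := rfl

theorem Uhom_injective : Function.Injective (Uhom (F := F)) := by
  intro a b h
  have := congrArg (fun g : Matrix.SpecialLinearGroup (Fin 2) F =>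
    (g : Matrix (Fin 2) (Fin 2) F) 0 1) h
  simp only [Uhom_val] at this
  simpa using this

theorem mem_range_Uhom (g : Matrix.SpecialLinearGroup (Fin 2) F) :
    g ∈ (Uhom (F := F)).range ↔ (g : Matrix (Fin 2) (Fin 2) F) 0 0 = 1 ∧
      (g : Matrix (Fin 2) (Fin 2) F) 1 0 = 0 := by
  constructor
  · rintro ⟨b, rfl⟩
    rw [Uhom_val]
    simp
  · rintro ⟨h1, h2⟩
    refine ⟨Multiplicative.ofAdd ((g : Matrix (Fin 2) (Fin 2) F) 0 1), ?_⟩
    have hdet := g.det_coe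
    rw [Matrix.det_fin_two, h1, h2, mul_zero, sub_zero, one_mul] at hdet
    apply Subtype.ext
    rw [Uhom_val]
    ext i j; fin_cases i <;> fin_cases j <;> simp [h1, h2, hdet]

theorem Zel_mulVec (t : F) (p : F × F) (hp : Nf t p = 1) :
    ((Zel t p hp : Matrix.SpecialLinearGroup (Fin 2) F) : Matrix (Fin 2) (Fin 2) F).mulVec ![1, 0] =
      ![p.1, p.2] := by
  ext i; fin_cases i <;> simp [Zel, Matrix.mulVec, dotProduct, Fin.sum_univ_two]

theorem Zel_mem (t : F) (p : F × F) (hp : Nf t p = 1) : Zel t p hp ∈ Tor t := by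
  rw [mem_centralizer_C']
  simp [Zel]

theorem exists_common [Finite F] [CharP F 2] (t : F) (hirr : ∀ r : F, r ^ 2 + t * r + 1 ≠ 0)
    (g : Matrix.SpecialLinearGroup (Fin 2) F) :
    ∃ p : F × F, Nf t p = 1 ∧
      Nf t ((g : Matrix (Fin 2) (Fin 2) F) 0 0 * p.1 + (g : Matrix (Fin 2) (Fin 2) F) 0 1 * p.2,
        (g : Matrix (Fin 2) (Fin 2) F) 1 0 * p.1 + (g : Matrix (Fin 2) (Fin 2) F) 1 1 * p.2) = 1 := by
  have hsq : ∀ d : F, ∃ c : F, c ^ 2 = d := by
    intro d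
    obtain ⟨c, hc⟩ := FiniteField.isSquare_of_char_two (ringChar.eq F 2) d
    exact ⟨c, by rw [hc, pow_two]⟩
  have h2 : (2 : F) = 0 := CharTwo.two_eq_zero
  set a := (g : Matrix (Fin 2) (Fin 2) F) 0 0
  set b := (g : Matrix (Fin 2) (Fin 2) F) 0 1
  set c := (g : Matrix (Fin 2) (Fin 2) F) 1 0
  set d := (g : Matrix (Fin 2) (Fin 2) F) 1 1
  have hdet : a * d - b * c = 1 := by
    have := g.det_coe
    rw [Matrix.det_fin_two] at this
    exact this
  set α := 1 + a ^ 2 + t * a * c + c ^ 2 with hα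
  set γ := 1 + b ^ 2 + t * b * d + d ^ 2 with hγ
  have hD : ∀ v₀ v₁ : F, Nf t (v₀, v₁) + Nf t (a * v₀ + b * v₁, c * v₀ + d * v₁) =
      α * v₀ ^ 2 + γ * v₁ ^ 2 := by
    intro v₀ v₁
    unfold Nf
    simp only
    linear_combination (t * v₀ * v₁) * hdet + (t * v₀ * v₁ + a * b * v₀ * v₁ + c * d * v₀ * v₁ + t * b * c * v₀ * v₁) * h2
  -- find a nonzero vector with D v = 0
  have hv : ∃ v₀ v₁ : F, (v₀, v₁) ≠ (0 : F × F) ∧
      Nf t (v₀, v₁) = Nf t (a * v₀ + b * v₁, c * v₀ + d * v₁) := by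
    obtain ⟨sa, hsa⟩ := hsq α
    obtain ⟨sc, hsc⟩ := hsq γ
    have key : ∀ v₀ v₁ : F, α * v₀ ^ 2 + γ * v₁ ^ 2 = 0 →
        Nf t (v₀, v₁) = Nf t (a * v₀ + b * v₁, c * v₀ + d * v₁) := by
      intro v₀ v₁ h0
      have := hD v₀ v₁
      rw [h0] at this
      have h3 : Nf t (a * v₀ + b * v₁, c * v₀ + d * v₁) + Nf t (a * v₀ + b * v₁, c * v₀ + d * v₁) = 0 :=
        CharTwo.add_self_eq_zero _
      linear_combination this - h3
    by_cases h0 : sa = 0 ∧ sc = 0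
    · refine ⟨1, 0, by simp, key 1 0 ?_⟩
      rw [← hsa, ← hsc, h0.1, h0.2]; ring
    · refine ⟨sc, sa, ?_, key sc sa ?_⟩
      · intro h
        apply h0
        have h1 := congrArg Prod.fst h
        have h2' := congrArg Prod.snd h
        exact ⟨h2', h1⟩
      · rw [← hsa, ← hsc]
        have : sa ^ 2 * sc ^ 2 + sa ^ 2 * sc ^ 2 = 0 := CharTwo.add_self_eq_zero _
        linear_combination this
  obtain ⟨v₀, v₁, hv0, hveq⟩ := hv
  have hN := Nf_ne_zero t hirr (v₀, v₁) hv0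
  obtain ⟨l, hl⟩ := hsq (Nf t (v₀, v₁))⁻¹
  refine ⟨l • (v₀, v₁), ?_, ?_⟩
  · rw [Nf_smul, hl, inv_mul_cancel₀ hN]
  · have e : (a * (l • (v₀, v₁)).1 + b * (l • (v₀, v₁)).2, c * (l • (v₀, v₁)).1 + d * (l • (v₀, v₁)).2) =
        l • (a * v₀ + b * v₁, c * v₀ + d * v₁) := by
      ext <;> simp <;> ring
    rw [e, Nf_smul, hl, ← hveq, inv_mul_cancel₀ hN]

theorem aba [Finite F] [CharP F 2] (t : F) (hirr : ∀ r : F, r ^ 2 + t * r + 1 ≠ 0)
    (g : Matrix.SpecialLinearGroup (Fin 2) F) :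
    ∃ a ∈ Tor t, ∃ b ∈ (Uhom (F := F)).range, ∃ c ∈ Tor t, g = a * b * c := by
  obtain ⟨p, hp, hp'⟩ := exists_common t hirr g
  set a := Zel t p hp with ha
  set a' := Zel t _ hp' with ha'
  refine ⟨a', Zel_mem t _ hp', a'⁻¹ * g * a, ?_, a⁻¹, (Tor t).inv_mem (Zel_mem t p hp), by group⟩
  -- the middle element fixes e₁
  have hfix : ((a'⁻¹ * g * a : Matrix.SpecialLinearGroup (Fin 2) F) : Matrix (Fin 2) (Fin 2) F).mulVec ![1, 0] = ![1, 0] := by
    rw [Matrix.SpecialLinearGroup.coe_mul, Matrix.SpecialLinearGroup.coe_mul, ← Matrix.mulVec_mulVec,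
      ← Matrix.mulVec_mulVec, ha, Zel_mulVec]
    have h1 : (g : Matrix (Fin 2) (Fin 2) F).mulVec ![p.1, p.2] =
        (a' : Matrix (Fin 2) (Fin 2) F).mulVec ![1, 0] := by
      rw [ha', Zel_mulVec]
      ext i; fin_cases i <;> simp [Matrix.mulVec, dotProduct, Fin.sum_univ_two]
    rw [h1, Matrix.mulVec_mulVec, ← Matrix.SpecialLinearGroup.coe_mul, inv_mul_cancel]
    simp
  rw [mem_range_Uhom]
  have e0 := congrFun hfix 0
  have e1 := congrFun hfix 1
  simp [Matrix.mulVec, dotProduct, Fin.sum_univ_two] at e0 e1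
  exact ⟨e0, e1⟩


theorem main [Fintype F] (h2 : 2 ∣ Fintype.card F) (_h4 : 4 ≤ Fintype.card F) :
    ∃ A B : Subgroup (Matrix.ProjectiveSpecialLinearGroup (Fin 2) F),
      IsCyclic A ∧ Nat.card A = Fintype.card F + 1 ∧ IsMulCommutative B ∧ (∀ b ∈ B, b * b = 1) ∧
        Nat.card B = Fintype.card F ∧
        ∀ g : Matrix.ProjectiveSpecialLinearGroup (Fin 2) F, ∃ a ∈ A, ∃ b ∈ B, ∃ c ∈ A, g = a * b * c := by
  have hch : ringChar F = 2 := by
    rw [FiniteField.even_card_iff_char_two]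
    omega
  have : CharP F 2 := ringChar.of_eq hch
  obtain ⟨t, ht⟩ := exists_aniso_any (F := F)
  have ht' : ∀ r : F, r ^ 2 + t * r + 1 ≠ 0 := by
    intro r h
    apply ht (-r)
    linear_combination h
  obtain ⟨e, -⟩ : ∃ e : Matrix.SpecialLinearGroup (Fin 2) F ≃* Matrix.ProjectiveSpecialLinearGroup (Fin 2) F,
    True := ⟨slEquivPsl, trivial⟩
  have hcyc := torus_cyclic t ht
  refine ⟨(Tor t).map (e : Matrix.SpecialLinearGroup (Fin 2) F →* Matrix.ProjectiveSpecialLinearGroup (Fin 2) F),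
    (Uhom (F := F)).range.map (e : Matrix.SpecialLinearGroup (Fin 2) F →* Matrix.ProjectiveSpecialLinearGroup (Fin 2) F),
    ?_, ?_, ?_, ?_, ?_, ?_⟩
  · exact (Subgroup.equivMapOfInjective (Tor t) _ e.injective).isCyclic.mp hcyc
  · rw [Subgroup.card_map_of_injective e.injective]
    exact card_torus_aniso t ht
  · rw [isMulCommutative_iff]
    rintro ⟨_, ⟨x, ⟨a, rfl⟩, rfl⟩⟩ ⟨_, ⟨y, ⟨b, rfl⟩, rfl⟩⟩
    apply Subtype.ext
    show e (Uhom a) * e (Uhom b) = e (Uhom b) * e (Uhom a)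
    rw [← map_mul, ← map_mul, ← map_mul, ← map_mul, mul_comm]
  · rintro _ ⟨x, ⟨a, rfl⟩, rfl⟩
    show e (Uhom a) * e (Uhom a) = 1
    rw [← map_mul, ← map_mul]
    have : a * a = 1 := by
      have h : Multiplicative.toAdd a + Multiplicative.toAdd a = 0 := CharTwo.add_self_eq_zero _
      exact h
    rw [this, map_one, map_one]
  · rw [Subgroup.card_map_of_injective e.injective]
    rw [Nat.card_congr (MonoidHom.ofInjective Uhom_injective).symm.toEquiv, Nat.card_eq_fintype_card]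
    exact Fintype.card_multiplicative F
  · intro g
    obtain ⟨a, ha, b, hb, c, hc, habc⟩ := aba t ht' (e.symm g)
    refine ⟨e a, Subgroup.mem_map_of_mem _ ha, e b, Subgroup.mem_map_of_mem _ hb, e c,
      Subgroup.mem_map_of_mem _ hc, ?_⟩
    rw [← map_mul, ← map_mul, ← habc, e.apply_symm_apply]

end Cfsg.Agent.Lib.Helper4_PSL2ABA
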