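import Mathlib
import Cfsg.Agent.Lib.Helper4_PSL2Orders

set_option linter.all false
set_option linter.unusedVariables false
set_option linter.unusedTactic false
set_option linter.unreachableTactic false
set_option linter.style.longLine false

namespace Cfsg.Agent.Lib.Helper4_PSL2Cover
open Matrix Cfsg.Agent.Lib.Helper4_GL2Classes0 Cfsg.Agent.Lib.Helper4_SL2Classes
  Cfsg.Agent.Lib.Helper4_SL2Odd Cfsg.Agent.Lib.Helper4_PSL2Orders

variable {F : Type*} [Field F]

/-- the element `[[0, a], [a⁻¹, t]]` in characteristic two -/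
def yel [CharP F 2] (a t : F) (ha : a ≠ 0) : Matrix.SpecialLinearGroup (Fin 2) F :=
  ⟨!![0, a; a⁻¹, t], by
    rw [Matrix.det_fin_two_of]
    have h2 : (2 : F) = 0 := CharTwo.two_eq_zero
    field_simp
    linear_combination -h2⟩

theorem cover_SL [Fintype F] [CharP F 2] (X : Matrix.SpecialLinearGroup (Fin 2) F)
    (a : F) (ha : a ≠ 0) (hta : (X : Matrix (Fin 2) (Fin 2) F).trace = a + a⁻¹)
    (ht0 : (X : Matrix (Fin 2) (Fin 2) F).trace ≠ 0)
    (hX : NS (X : Matrix (Fin 2) (Fin 2) F))
    (G : Matrix.SpecialLinearGroup (Fin 2) F) (hG : NS (G : Matrix (Fin 2) (Fin 2) F)) :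
    ∃ U V : Matrix.SpecialLinearGroup (Fin 2) F, G = (U * X * U⁻¹) * (V * X * V⁻¹) := by
  have h2 : (2 : F) = 0 := CharTwo.two_eq_zero
  set t := (X : Matrix (Fin 2) (Fin 2) F).trace with ht
  set s := (G : Matrix (Fin 2) (Fin 2) F).trace with hs
  have hXc : IsConj X (C' t) := conj_C' X hX
  have hGc : IsConj G (C' s) := conj_C' G hG
  set y := yel a t ha with hy
  set z := y⁻¹ * C' s with hz
  have hyz : y * z = C' s := by rw [hz]; group
  have hymat : (y : Matrix (Fin 2) (Fin 2) F) = !![0, a; a⁻¹, t] := rfl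
  have hzmat : (z : Matrix (Fin 2) (Fin 2) F) = !![a, t + a * s; 0, a⁻¹] := by
    rw [hz, Matrix.SpecialLinearGroup.coe_mul, Matrix.SpecialLinearGroup.coe_inv, hymat,
      Matrix.adjugate_fin_two_of]
    show !![t, -a; -a⁻¹, 0] * compMat s 1 = _
    unfold compMat
    rw [Matrix.mul_fin_two]
    ext i j
    fin_cases i <;> fin_cases j <;> simp
    · linear_combination (-a) * h2
    · linear_combination (-(t + a * s)) * h2
  have hytr : (y : Matrix (Fin 2) (Fin 2) F).trace = t := by
    rw [hymat, Matrix.trace_fin_two_of, zero_add]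
  have hztr : (z : Matrix (Fin 2) (Fin 2) F).trace = t := by
    rw [hzmat, Matrix.trace_fin_two_of, hta]
  have hyNS : NS (y : Matrix (Fin 2) (Fin 2) F) := by
    left
    rw [hymat]
    simpa using ha
  have hzNS : NS (z : Matrix (Fin 2) (Fin 2) F) := by
    right; right
    rw [hzmat]
    simp only [Matrix.of_apply, Matrix.cons_val', Matrix.cons_val_zero, Matrix.cons_val_one,
      Matrix.empty_val', Matrix.cons_val_fin_one]
    intro h
    apply ht0
    rw [hta, ← h]
    linear_combination a * h2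
  have hyc : IsConj y (C' t) := by
    have := conj_C' y hyNS
    rwa [hytr] at this
  have hzc : IsConj z (C' t) := by
    have := conj_C' z hzNS
    rwa [hztr] at this
  obtain ⟨U₁, hU₁⟩ := isConj_iff.mp (hXc.trans hyc.symm)
  obtain ⟨V₁, hV₁⟩ := isConj_iff.mp (hXc.trans hzc.symm)
  obtain ⟨P, hP⟩ := isConj_iff.mp hGc.symm
  refine ⟨P * U₁, P * V₁, ?_⟩
  rw [← hP, ← hyz, ← hU₁, ← hV₁]
  group

theorem S2456_main [Fintype F] [CharP F 2] (h4 : 4 ≤ Fintype.card F)
    (x : Matrix.ProjectiveSpecialLinearGroup (Fin 2) F) (hx2 : 2 < orderOf x)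
    (hxq : ¬ orderOf x ∣ Fintype.card F + 1) :
    ∀ g : Matrix.ProjectiveSpecialLinearGroup (Fin 2) F, g ≠ 1 →
      ∃ u v : Matrix.ProjectiveSpecialLinearGroup (Fin 2) F, g = (u * x * u⁻¹) * (v * x * v⁻¹) := by
  have h2 : (2 : F) = 0 := CharTwo.two_eq_zero
  obtain ⟨X, rfl⟩ := QuotientGroup.mk_surjective x
  set t := (X : Matrix (Fin 2) (Fin 2) F).trace with ht
  have hX : NS (X : Matrix (Fin 2) (Fin 2) F) := by
    by_contra hns
    have : (QuotientGroup.mk X : Matrix.ProjectiveSpecialLinearGroup (Fin 2) F) = 1 :=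
      (QuotientGroup.eq_one_iff X).mpr (not_NS_mem_center X hns)
    rw [this, orderOf_one] at hx2
    omega
  have hXc : IsConj X (C' t) := conj_C' X hX
  have hpow : ∀ n : ℕ, (C' t : Matrix.SpecialLinearGroup (Fin 2) F) ^ n = 1 →
      orderOf (QuotientGroup.mk X : Matrix.ProjectiveSpecialLinearGroup (Fin 2) F) ∣ n := by
    intro n hn
    apply orderOf_dvd_of_pow_eq_one
    rw [← QuotientGroup.mk_pow, pow_of_conj X (C' t) hXc n hn]
    rfl
  have ht0 : t ≠ 0 := by
    intro h0
    have h1 : (C' t : Matrix.SpecialLinearGroup (Fin 2) F) ^ 2 = 1 := by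
      rw [h0, pow_two]
      apply Subtype.ext
      rw [Matrix.SpecialLinearGroup.coe_mul]
      show compMat 0 1 * compMat 0 1 = 1
      unfold compMat
      rw [Matrix.mul_fin_two]
      ext i j
      fin_cases i <;> fin_cases j <;> simp
      · linear_combination -h2
      · linear_combination -h2
    have := Nat.le_of_dvd (by norm_num) (hpow 2 h1)
    omega
  have hroot : ∃ r : F, r ^ 2 - t * r + 1 = 0 := by
    by_contra hcon
    push Not at hcon
    apply hxq
    apply hpow
    have h1 : (⟨C' t, C'_mem t⟩ : Subgroup.centralizer ({C' t} : Set (Matrix.SpecialLinearGroup (Fin 2) F))) ^ (Fintype.card F + 1) = 1 := by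
      rw [← card_torus_aniso t hcon]; exact pow_card_eq_one'
    have := congrArg Subtype.val h1
    simpa using this
  obtain ⟨a, har⟩ := hroot
  have ha0 : a ≠ 0 := by
    rintro rfl
    simp at har
  have hta : t = a + a⁻¹ := by
    field_simp
    linear_combination -har
  intro g hg
  obtain ⟨G, rfl⟩ := QuotientGroup.mk_surjective g
  have hG : NS (G : Matrix (Fin 2) (Fin 2) F) := by
    by_contra hns
    exact hg ((QuotientGroup.eq_one_iff G).mpr (not_NS_mem_center G hns))
  obtain ⟨U, V, hUV⟩ := cover_SL X a ha0 hta ht0 hX G hG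
  refine ⟨QuotientGroup.mk U, QuotientGroup.mk V, ?_⟩
  rw [hUV]
  rfl

end Cfsg.Agent.Lib.Helper4_PSL2Cover
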