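import Mathlib
import Cfsg.Agent.Lib.Helper4_PSL2Klein
import Cfsg.Agent.Lib.Helper4_PSL2TI
import Cfsg.Agent.Lib.Helper4_KleinConj

namespace Cfsg.Agent.Lib.Helper4_PSL2KleinClasses
open Matrix Cfsg.Agent.Lib.Helper4_GL2Classes0 Cfsg.Agent.Lib.Helper4_SL2Classes
  Cfsg.Agent.Lib.Helper4_SL2Card Cfsg.Agent.Lib.Helper4_SL2Cent Cfsg.Agent.Lib.Helper4_SL2Odd
  Cfsg.Agent.Lib.Helper4_PSL2ClassOdd Cfsg.Agent.Lib.Helper4_SL2Order4
  Cfsg.Agent.Lib.Helper4_KleinCount Cfsg.Agent.Lib.Helper4_PSL2Klein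

variable {F : Type*} [Field F]

/-- anticommuting pair predicate -/
def AP (p : Matrix.SpecialLinearGroup (Fin 2) F × Matrix.SpecialLinearGroup (Fin 2) F) : Prop :=
  p.1 * p.1 = N1 ∧ p.2 * p.1 * p.2⁻¹ = N1 * p.1

/-- simultaneous conjugation -/
def cj (g : Matrix.SpecialLinearGroup (Fin 2) F)
    (p : Matrix.SpecialLinearGroup (Fin 2) F × Matrix.SpecialLinearGroup (Fin 2) F) :
    Matrix.SpecialLinearGroup (Fin 2) F × Matrix.SpecialLinearGroup (Fin 2) F :=
  (g * p.1 * g⁻¹, g * p.2 * g⁻¹)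

/-- simultaneous conjugacy -/
def Conj2 (p p' : Matrix.SpecialLinearGroup (Fin 2) F × Matrix.SpecialLinearGroup (Fin 2) F) : Prop :=
  ∃ g, cj g p = p'

theorem cj_mul (g h : Matrix.SpecialLinearGroup (Fin 2) F)
    (p : Matrix.SpecialLinearGroup (Fin 2) F × Matrix.SpecialLinearGroup (Fin 2) F) :
    cj (g * h) p = cj g (cj h p) := by
  unfold cj
  apply Prod.ext <;> simp only [_root_.mul_inv_rev] <;> group

theorem cj_one (p : Matrix.SpecialLinearGroup (Fin 2) F × Matrix.SpecialLinearGroup (Fin 2) F) :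
    cj 1 p = p := by
  unfold cj
  simp

theorem cj_N1 (p : Matrix.SpecialLinearGroup (Fin 2) F × Matrix.SpecialLinearGroup (Fin 2) F) :
    cj N1 p = p := by
  unfold cj
  apply Prod.ext
  · show N1 * p.1 * N1⁻¹ = p.1
    rw [N1_comm, mul_assoc, mul_inv_cancel, mul_one]
  · show N1 * p.2 * N1⁻¹ = p.2
    rw [N1_comm, mul_assoc, mul_inv_cancel, mul_one]

theorem Conj2.refl (p : Matrix.SpecialLinearGroup (Fin 2) F × Matrix.SpecialLinearGroup (Fin 2) F) :
    Conj2 p p := ⟨1, cj_one p⟩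

theorem Conj2.symm {p p' : Matrix.SpecialLinearGroup (Fin 2) F × Matrix.SpecialLinearGroup (Fin 2) F}
    (h : Conj2 p p') : Conj2 p' p := by
  obtain ⟨g, rfl⟩ := h
  exact ⟨g⁻¹, by rw [← cj_mul, inv_mul_cancel, cj_one]⟩

theorem Conj2.trans {p p' p'' : Matrix.SpecialLinearGroup (Fin 2) F × Matrix.SpecialLinearGroup (Fin 2) F}
    (h : Conj2 p p') (h' : Conj2 p' p'') : Conj2 p p'' := by
  obtain ⟨g, rfl⟩ := h
  obtain ⟨g', rfl⟩ := h'
  exact ⟨g' * g, cj_mul g' g p⟩

theorem AP_cj (g : Matrix.SpecialLinearGroup (Fin 2) F)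
    {p : Matrix.SpecialLinearGroup (Fin 2) F × Matrix.SpecialLinearGroup (Fin 2) F} (hp : AP p) :
    AP (cj g p) := by
  obtain ⟨h1, h2⟩ := hp
  constructor
  · show g * p.1 * g⁻¹ * (g * p.1 * g⁻¹) = N1
    calc g * p.1 * g⁻¹ * (g * p.1 * g⁻¹) = g * (p.1 * p.1) * g⁻¹ := by group
      _ = N1 := by rw [h1, ← N1_comm g, mul_assoc, mul_inv_cancel, mul_one]
  · show g * p.2 * g⁻¹ * (g * p.1 * g⁻¹) * (g * p.2 * g⁻¹)⁻¹ = N1 * (g * p.1 * g⁻¹)
    calc g * p.2 * g⁻¹ * (g * p.1 * g⁻¹) * (g * p.2 * g⁻¹)⁻¹ = g * (p.2 * p.1 * p.2⁻¹) * g⁻¹ := by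
          group
      _ = N1 * (g * p.1 * g⁻¹) := by
          rw [h2, ← mul_assoc, ← N1_comm g]
          group

/-- the other anticommutation relation -/
theorem AP_swap_rel {a b : Matrix.SpecialLinearGroup (Fin 2) F} (hp : AP (a, b)) :
    a * b * a⁻¹ = N1 * b := by
  obtain ⟨h1, h2⟩ := hp
  simp only at h1 h2
  have e1 : b * a = N1 * a * b := by rw [← h2]; group
  have e2 : a * b = N1 * (b * a) := by
    rw [e1, ← mul_assoc, ← mul_assoc, N1_mul_N1, one_mul]
  rw [e2, mul_assoc, mul_assoc, mul_inv_cancel, mul_one]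

theorem AP_swap (h2 : (2 : F) ≠ 0) {a b : Matrix.SpecialLinearGroup (Fin 2) F} (hp : AP (a, b)) :
    AP (b, a) :=
  ⟨sq_of_anti h2 a b hp.2, AP_swap_rel hp⟩

/-- matrices version -/
theorem AP_mat {a b : Matrix.SpecialLinearGroup (Fin 2) F} (hp : AP (a, b)) :
    (a : Matrix (Fin 2) (Fin 2) F) * (a : Matrix (Fin 2) (Fin 2) F) = -1 ∧
    (b : Matrix (Fin 2) (Fin 2) F) * (a : Matrix (Fin 2) (Fin 2) F) =
      -((a : Matrix (Fin 2) (Fin 2) F) * (b : Matrix (Fin 2) (Fin 2) F)) := by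
  obtain ⟨h1, h2⟩ := hp
  simp only at h1 h2
  constructor
  · rw [← Matrix.SpecialLinearGroup.coe_mul, h1, N1_val]
  · have e1 : b * a = N1 * (a * b) := by rw [← mul_assoc, ← h2]; group
    rw [← Matrix.SpecialLinearGroup.coe_mul, e1, N1_mul_val, Matrix.SpecialLinearGroup.coe_mul]

/-- a matrix commuting with an anticommuting pair is scalar -/
theorem scalar_of_comm (h2 : (2 : F) ≠ 0) {a b : Matrix.SpecialLinearGroup (Fin 2) F} (hp : AP (a, b))
    (M : Matrix (Fin 2) (Fin 2) F)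
    (hMa : (a : Matrix (Fin 2) (Fin 2) F) * M = M * (a : Matrix (Fin 2) (Fin 2) F))
    (hMb : (b : Matrix (Fin 2) (Fin 2) F) * M = M * (b : Matrix (Fin 2) (Fin 2) F)) :
    M = (M 0 0) • (1 : Matrix (Fin 2) (Fin 2) F) := by
  rw [← not_NS_iff]
  intro hns
  have hc := Cfsg.Agent.Lib.Helper4_PSL2TI.comm_of_comm_nonscalar M _ _ hns hMa hMb
  obtain ⟨-, hanti⟩ := AP_mat hp
  rw [← hc] at hanti
  have h3 : (2 : F) • ((a : Matrix (Fin 2) (Fin 2) F) * (b : Matrix (Fin 2) (Fin 2) F)) = 0 := by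
    rw [two_smul]
    nth_rewrite 1 [hanti]
    rw [neg_add_cancel]
  have h4 : ((a * b : Matrix.SpecialLinearGroup (Fin 2) F) : Matrix (Fin 2) (Fin 2) F) = 0 := by
    rw [Matrix.SpecialLinearGroup.coe_mul]
    rcases smul_eq_zero.mp h3 with h | h
    · exact absurd h h2
    · exact h
  have h5 := (a * b).det_coe
  rw [h4, Matrix.det_zero] at h5
  exact zero_ne_one h5

/-- stabilizer of an anticommuting pair -/
theorem stab_AP (h2 : (2 : F) ≠ 0) {p : Matrix.SpecialLinearGroup (Fin 2) F × Matrix.SpecialLinearGroup (Fin 2) F}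
    (hp : AP p) (g : Matrix.SpecialLinearGroup (Fin 2) F) (hg : cj g p = p) : g = 1 ∨ g = N1 := by
  obtain ⟨a, b⟩ := p
  unfold cj at hg
  simp only [Prod.mk.injEq] at hg
  obtain ⟨ha, hb⟩ := hg
  have ha' : a * g = g * a := by
    have := congrArg (fun x => x * g) ha
    simp only [inv_mul_cancel_right] at this
    exact this.symm
  have hb' : b * g = g * b := by
    have := congrArg (fun x => x * g) hb
    simp only [inv_mul_cancel_right] at this
    exact this.symm
  have hs := scalar_of_comm h2 hp (g : Matrix (Fin 2) (Fin 2) F)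
    (by rw [← Matrix.SpecialLinearGroup.coe_mul, ha', Matrix.SpecialLinearGroup.coe_mul])
    (by rw [← Matrix.SpecialLinearGroup.coe_mul, hb', Matrix.SpecialLinearGroup.coe_mul])
  rw [← mem_center_iff', Matrix.SpecialLinearGroup.mem_center_iff]
  refine ⟨(g : Matrix (Fin 2) (Fin 2) F) 0 0, ?_, ?_⟩
  · have hdet := g.det_coe
    rw [hs, Matrix.det_smul, Matrix.det_one, mul_one] at hdet
    exact hdet
  · rw [Matrix.scalar_apply, ← Matrix.smul_one_eq_diagonal]
    exact hs.symm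

/-- a chosen lift -/
noncomputable def lft (x : Matrix.ProjectiveSpecialLinearGroup (Fin 2) F) :
    Matrix.SpecialLinearGroup (Fin 2) F := Quotient.out x

theorem mk_lft (x : Matrix.ProjectiveSpecialLinearGroup (Fin 2) F) :
    (QuotientGroup.mk (lft x) : Matrix.ProjectiveSpecialLinearGroup (Fin 2) F) = x :=
  QuotientGroup.out_eq' x

theorem cj_lft_mk (g : Matrix.SpecialLinearGroup (Fin 2) F)
    (p : Matrix.SpecialLinearGroup (Fin 2) F × Matrix.SpecialLinearGroup (Fin 2) F) :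
    cj (lft (QuotientGroup.mk g : Matrix.ProjectiveSpecialLinearGroup (Fin 2) F)) p = cj g p := by
  have h := mk_lft (QuotientGroup.mk g : Matrix.ProjectiveSpecialLinearGroup (Fin 2) F)
  rw [QuotientGroup.eq, mem_center_iff'] at h
  rcases h with h | h
  · have : g = lft (QuotientGroup.mk g : Matrix.ProjectiveSpecialLinearGroup (Fin 2) F) := by
      have := congrArg (fun x => lft (QuotientGroup.mk g : Matrix.ProjectiveSpecialLinearGroup (Fin 2) F) * x) h
      simp only [mul_inv_cancel_left, mul_one] at this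
      exact this
    rw [← this]
  · have : g = lft (QuotientGroup.mk g : Matrix.ProjectiveSpecialLinearGroup (Fin 2) F) * N1 := by
      have := congrArg (fun x => lft (QuotientGroup.mk g : Matrix.ProjectiveSpecialLinearGroup (Fin 2) F) * x) h
      simp only [mul_inv_cancel_left] at this
      exact this
    conv_rhs => rw [this, cj_mul, cj_N1]

variable [Fintype F]

/-- at most two classes of anticommuting pairs -/
theorem three_pairs (hodd : Odd (Fintype.card F))
    (f : Fin 3 → Matrix.SpecialLinearGroup (Fin 2) F × Matrix.SpecialLinearGroup (Fin 2) F)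
    (hf : ∀ i, AP (f i)) (hne : ∀ i j, i ≠ j → ¬ Conj2 (f i) (f j)) : False := by
  classical
  have h2 := two_ne_zero' hodd
  let ψ : Fin 3 × Matrix.ProjectiveSpecialLinearGroup (Fin 2) F →
      {p : Matrix.SpecialLinearGroup (Fin 2) F × Matrix.SpecialLinearGroup (Fin 2) F //
        p.1 * p.1 = N1 ∧ p.2 * p.1 * p.2⁻¹ = N1 * p.1} :=
    fun ix => ⟨cj (lft ix.2) (f ix.1), AP_cj _ (hf ix.1)⟩
  have hinj : Function.Injective ψ := by
    rintro ⟨i, x⟩ ⟨j, y⟩ h
    have h' : cj (lft x) (f i) = cj (lft y) (f j) := congrArg Subtype.val h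
    have h'' : cj ((lft y)⁻¹ * lft x) (f i) = f j := by
      rw [cj_mul, h', ← cj_mul, inv_mul_cancel, cj_one]
    by_cases hij : i = j
    · subst hij
      have := stab_AP h2 (hf i) _ h''
      have hxy : x = y := by
        rw [← mk_lft x, ← mk_lft y, eq_comm, QuotientGroup.eq, mem_center_iff']
        exact this
      rw [hxy]
    · exact absurd ⟨_, h''⟩ (hne i j hij)
  have hle := Nat.card_le_card_of_injective ψ hinj
  rw [card_anti hodd, Nat.card_prod, Nat.card_eq_fintype_card (α := Fin 3), Fintype.card_fin] at hle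
  have h4 := Subgroup.card_eq_card_quotient_mul_card_subgroup
    (Subgroup.center (Matrix.SpecialLinearGroup (Fin 2) F))
  rw [card_center_SL2 h2] at h4
  have h5 : Nat.card (Matrix.SpecialLinearGroup (Fin 2) F ⧸
      Subgroup.center (Matrix.SpecialLinearGroup (Fin 2) F)) =
      Nat.card (Matrix.ProjectiveSpecialLinearGroup (Fin 2) F) := rfl
  rw [h5] at h4
  have hpos : 0 < Nat.card (Matrix.ProjectiveSpecialLinearGroup (Fin 2) F) := Nat.card_pos
  omega

theorem three_pairs' (hodd : Odd (Fintype.card F))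
    (p₁ p₂ p₃ : Matrix.SpecialLinearGroup (Fin 2) F × Matrix.SpecialLinearGroup (Fin 2) F)
    (h1 : AP p₁) (h2 : AP p₂) (h3 : AP p₃) :
    Conj2 p₁ p₂ ∨ Conj2 p₁ p₃ ∨ Conj2 p₂ p₃ := by
  by_contra hcon
  rw [not_or, not_or] at hcon
  obtain ⟨c12, c13, c23⟩ := hcon
  apply three_pairs hodd ![p₁, p₂, p₃]
  · intro i
    fin_cases i
    · exact h1
    · exact h2
    · exact h3
  · intro i j hij
    fin_cases i <;> fin_cases j
    · exact absurd rfl hij
    · exact c12
    · exact c13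
    · exact fun h => c12 h.symm
    · exact absurd rfl hij
    · exact c23
    · exact fun h => c13 h.symm
    · exact fun h => c23 h.symm
    · exact absurd rfl hij

/-- at least two classes -/
theorem exists_nonconj (hodd : Odd (Fintype.card F))
    (p₁ : Matrix.SpecialLinearGroup (Fin 2) F × Matrix.SpecialLinearGroup (Fin 2) F) (h1 : AP p₁) :
    ∃ p₂, AP p₂ ∧ ¬ Conj2 p₁ p₂ := by
  classical
  have h2 := two_ne_zero' hodd
  by_contra hcon
  push Not at hcon
  let ψ : Matrix.ProjectiveSpecialLinearGroup (Fin 2) F →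
      {p : Matrix.SpecialLinearGroup (Fin 2) F × Matrix.SpecialLinearGroup (Fin 2) F //
        p.1 * p.1 = N1 ∧ p.2 * p.1 * p.2⁻¹ = N1 * p.1} :=
    fun x => ⟨cj (lft x) p₁, AP_cj _ h1⟩
  have hsurj : Function.Surjective ψ := by
    rintro ⟨p, hp⟩
    obtain ⟨g, hg⟩ := hcon p hp
    refine ⟨QuotientGroup.mk g, ?_⟩
    apply Subtype.ext
    show cj (lft (QuotientGroup.mk g : Matrix.ProjectiveSpecialLinearGroup (Fin 2) F)) p₁ = p
    rw [cj_lft_mk, hg]
  have hle := Nat.card_le_card_of_surjective ψ hsurj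
  rw [card_anti hodd] at hle
  have h4 := Subgroup.card_eq_card_quotient_mul_card_subgroup
    (Subgroup.center (Matrix.SpecialLinearGroup (Fin 2) F))
  rw [card_center_SL2 h2] at h4
  have h5 : Nat.card (Matrix.SpecialLinearGroup (Fin 2) F ⧸
      Subgroup.center (Matrix.SpecialLinearGroup (Fin 2) F)) =
      Nat.card (Matrix.ProjectiveSpecialLinearGroup (Fin 2) F) := rfl
  rw [h5] at h4
  have hpos : 0 < Nat.card (Matrix.ProjectiveSpecialLinearGroup (Fin 2) F) := Nat.card_pos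
  omega

omit [Fintype F] in
theorem det_add_two (A B : Matrix (Fin 2) (Fin 2) F) :
    (A + B).det = A.det + B.det + A.trace * B.trace - (A * B).trace := by
  rw [Matrix.det_fin_two, Matrix.det_fin_two, Matrix.det_fin_two, Matrix.trace_fin_two,
    Matrix.trace_fin_two, Matrix.trace_fin_two]
  simp only [Matrix.add_apply, Matrix.mul_apply, Fin.sum_univ_two]
  ring

omit [Fintype F] in
theorem AP_sum (h2 : (2 : F) ≠ 0) {a b : Matrix.SpecialLinearGroup (Fin 2) F} (hp : AP (a, b)) :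
    ((a : Matrix (Fin 2) (Fin 2) F) + (b : Matrix (Fin 2) (Fin 2) F)).det = 2 ∧
    ((a : Matrix (Fin 2) (Fin 2) F) + (b : Matrix (Fin 2) (Fin 2) F)) * (a : Matrix (Fin 2) (Fin 2) F) =
      (b : Matrix (Fin 2) (Fin 2) F) * ((a : Matrix (Fin 2) (Fin 2) F) + (b : Matrix (Fin 2) (Fin 2) F)) ∧
    ((a : Matrix (Fin 2) (Fin 2) F) + (b : Matrix (Fin 2) (Fin 2) F)) * (b : Matrix (Fin 2) (Fin 2) F) =
      (a : Matrix (Fin 2) (Fin 2) F) * ((a : Matrix (Fin 2) (Fin 2) F) + (b : Matrix (Fin 2) (Fin 2) F)) := by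
  have hb := sq_of_anti h2 a b hp.2
  obtain ⟨hA, hanti⟩ := AP_mat hp
  have hB : (b : Matrix (Fin 2) (Fin 2) F) * (b : Matrix (Fin 2) (Fin 2) F) = -1 := by
    rw [← Matrix.SpecialLinearGroup.coe_mul, hb, N1_val]
  have ta := (trace_zero_of_sq h2 a hp.1).1
  have tb := (trace_zero_of_sq h2 b hb).1
  have tab : ((a : Matrix (Fin 2) (Fin 2) F) * (b : Matrix (Fin 2) (Fin 2) F)).trace = 0 := by
    have h := congrArg Matrix.trace hanti
    rw [Matrix.trace_neg, Matrix.trace_mul_comm] at h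
    have : (2 : F) * ((a : Matrix (Fin 2) (Fin 2) F) * (b : Matrix (Fin 2) (Fin 2) F)).trace = 0 := by
      linear_combination h
    rcases mul_eq_zero.mp this with h' | h'
    · exact absurd h' h2
    · exact h'
  refine ⟨?_, ?_, ?_⟩
  · rw [det_add_two, a.det_coe, b.det_coe, ta, tb, tab]
    ring
  · rw [Matrix.add_mul, Matrix.mul_add, hA, hB, add_comm]
  · rw [Matrix.add_mul, Matrix.mul_add, hA, hB, add_comm]

omit [Fintype F] in
/-- when 2 is a square the two orderings are conjugate -/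
theorem swap_conj (h2 : (2 : F) ≠ 0) (s : F) (hs : s * s = 2)
    {a b : Matrix.SpecialLinearGroup (Fin 2) F} (hp : AP (a, b)) : Conj2 (a, b) (b, a) := by
  obtain ⟨hdet, h1, h3⟩ := AP_sum h2 hp
  have hs0 : s ≠ 0 := by
    rintro rfl
    rw [mul_zero] at hs
    exact h2 hs.symm
  let x : Matrix.SpecialLinearGroup (Fin 2) F :=
    ⟨s⁻¹ • ((a : Matrix (Fin 2) (Fin 2) F) + (b : Matrix (Fin 2) (Fin 2) F)), by
      rw [Matrix.det_smul, hdet, Fintype.card_fin]
      field_simp
      rw [← hs]; ring⟩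
  have hx : (x : Matrix (Fin 2) (Fin 2) F) =
      s⁻¹ • ((a : Matrix (Fin 2) (Fin 2) F) + (b : Matrix (Fin 2) (Fin 2) F)) := rfl
  refine ⟨x, ?_⟩
  unfold cj
  apply Prod.ext
  · show x * a * x⁻¹ = b
    rw [mul_inv_eq_iff_eq_mul]
    apply Subtype.ext
    rw [Matrix.SpecialLinearGroup.coe_mul, Matrix.SpecialLinearGroup.coe_mul, hx, Matrix.smul_mul,
      Matrix.mul_smul, h1]
  · show x * b * x⁻¹ = a
    rw [mul_inv_eq_iff_eq_mul]
    apply Subtype.ext
    rw [Matrix.SpecialLinearGroup.coe_mul, Matrix.SpecialLinearGroup.coe_mul, hx, Matrix.smul_mul,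
      Matrix.mul_smul, h3]

omit [Fintype F] in
/-- when 2 is a non-square the two orderings are not conjugate -/
theorem swap_nonconj (h2 : (2 : F) ≠ 0) (hns : ¬ IsSquare (2 : F))
    {a b : Matrix.SpecialLinearGroup (Fin 2) F} (hp : AP (a, b)) : ¬ Conj2 (a, b) (b, a) := by
  rintro ⟨g, hg⟩
  unfold cj at hg
  simp only [Prod.mk.injEq] at hg
  obtain ⟨hga, hgb⟩ := hg
  obtain ⟨hdet, h1, h3⟩ := AP_sum h2 hp
  set A := (a : Matrix (Fin 2) (Fin 2) F) with hA
  set B := (b : Matrix (Fin 2) (Fin 2) F) with hB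
  set G := (g : Matrix (Fin 2) (Fin 2) F) with hG
  set Gi := ((g⁻¹ : Matrix.SpecialLinearGroup (Fin 2) F) : Matrix (Fin 2) (Fin 2) F) with hGi
  have hGGi : G * Gi = 1 := by
    rw [hG, hGi, ← Matrix.SpecialLinearGroup.coe_mul, mul_inv_cancel]; rfl
  -- a g⁻¹ = g⁻¹ b and b g⁻¹ = g⁻¹ a
  have e1 : a * g⁻¹ = g⁻¹ * b := by rw [← hga]; group
  have e2 : b * g⁻¹ = g⁻¹ * a := by rw [← hgb]; group
  have e1' : A * Gi = Gi * B := by
    rw [hA, hGi, hB, ← Matrix.SpecialLinearGroup.coe_mul, e1, Matrix.SpecialLinearGroup.coe_mul]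
  have e2' : B * Gi = Gi * A := by
    rw [hA, hGi, hB, ← Matrix.SpecialLinearGroup.coe_mul, e2, Matrix.SpecialLinearGroup.coe_mul]
  set M := Gi * (A + B) with hM
  have hMa : A * M = M * A := by
    rw [hM, ← Matrix.mul_assoc, e1', Matrix.mul_assoc, ← h1, Matrix.mul_assoc]
  have hMb : B * M = M * B := by
    rw [hM, ← Matrix.mul_assoc, e2', Matrix.mul_assoc, ← h3, Matrix.mul_assoc]
  have hsc := scalar_of_comm h2 hp M hMa hMb
  have hX : A + B = (M 0 0) • G := by
    have : A + B = G * M := by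
      rw [hM, ← Matrix.mul_assoc, hGGi, Matrix.one_mul]
    rw [this, hsc, Matrix.mul_smul, Matrix.mul_one]
    simp
  have hd := hdet
  rw [hX, Matrix.det_smul, Fintype.card_fin, hG, g.det_coe, mul_one] at hd
  apply hns
  exact ⟨M 0 0, by rw [← hd, pow_two]⟩

omit [Fintype F] in
/-- lifting conjugacy from PSL₂ with sign fixing -/
theorem lift_conj {a b c d : Matrix.SpecialLinearGroup (Fin 2) F} (hcd : AP (c, d))
    (g : Matrix.SpecialLinearGroup (Fin 2) F)
    (h1 : (QuotientGroup.mk (g * a * g⁻¹) : Matrix.ProjectiveSpecialLinearGroup (Fin 2) F) =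
      QuotientGroup.mk c)
    (h3 : (QuotientGroup.mk (g * b * g⁻¹) : Matrix.ProjectiveSpecialLinearGroup (Fin 2) F) =
      QuotientGroup.mk d) : Conj2 (a, b) (c, d) := by
  have r1 : d * c * d⁻¹ = N1 * c := hcd.2
  have r2 : c * d * c⁻¹ = N1 * d := AP_swap_rel hcd
  have key : ∀ x y : Matrix.SpecialLinearGroup (Fin 2) F,
      (QuotientGroup.mk x : Matrix.ProjectiveSpecialLinearGroup (Fin 2) F) = QuotientGroup.mk y →
      x = y ∨ x = N1 * y := by
    intro x y h
    rw [eq_comm, QuotientGroup.eq, mem_center_iff'] at h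
    rcases h with h | h
    · left
      have := congrArg (fun z => y * z) h
      simp only [mul_inv_cancel_left, mul_one] at this
      exact this
    · right
      have := congrArg (fun z => y * z) h
      simp only [mul_inv_cancel_left] at this
      rw [this, N1_comm]
  have hcc : c * c * c⁻¹ = c := by group
  have hdd : d * d * d⁻¹ = d := by group
  rcases key _ _ h1 with e1 | e1 <;> rcases key _ _ h3 with e2 | e2
  · exact ⟨g, by unfold cj; simp only [e1, e2]⟩
  · refine ⟨c * g, ?_⟩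
    unfold cj
    apply Prod.ext
    · show c * g * a * (c * g)⁻¹ = c
      calc c * g * a * (c * g)⁻¹ = c * (g * a * g⁻¹) * c⁻¹ := by group
        _ = c := by rw [e1, hcc]
    · show c * g * b * (c * g)⁻¹ = d
      calc c * g * b * (c * g)⁻¹ = c * (g * b * g⁻¹) * c⁻¹ := by group
        _ = N1 * (c * d * c⁻¹) := by rw [e2, ← mul_assoc, ← N1_comm c]; group
        _ = d := by rw [r2, N1_mul_cancel]
  · refine ⟨d * g, ?_⟩
    unfold cj
    apply Prod.ext
    · show d * g * a * (d * g)⁻¹ = c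
      calc d * g * a * (d * g)⁻¹ = d * (g * a * g⁻¹) * d⁻¹ := by group
        _ = N1 * (d * c * d⁻¹) := by rw [e1, ← mul_assoc, ← N1_comm d]; group
        _ = c := by rw [r1, N1_mul_cancel]
    · show d * g * b * (d * g)⁻¹ = d
      calc d * g * b * (d * g)⁻¹ = d * (g * b * g⁻¹) * d⁻¹ := by group
        _ = d := by rw [e2, hdd]
  · refine ⟨c * d * g, ?_⟩
    unfold cj
    apply Prod.ext
    · show c * d * g * a * (c * d * g)⁻¹ = c
      calc c * d * g * a * (c * d * g)⁻¹ = c * (d * (g * a * g⁻¹) * d⁻¹) * c⁻¹ := by group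
        _ = c * (N1 * (d * c * d⁻¹)) * c⁻¹ := by
            rw [e1]
            congr 2
            rw [← mul_assoc, ← N1_comm d]; group
        _ = c := by rw [r1, N1_mul_cancel, hcc]
    · show c * d * g * b * (c * d * g)⁻¹ = d
      calc c * d * g * b * (c * d * g)⁻¹ = c * (d * (g * b * g⁻¹) * d⁻¹) * c⁻¹ := by group
        _ = c * (N1 * d) * c⁻¹ := by
            rw [e2]
            congr 2
            rw [← mul_assoc, ← N1_comm d]; group
        _ = N1 * (c * d * c⁻¹) := by rw [← mul_assoc, ← N1_comm c]; group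
        _ = d := by rw [r2, N1_mul_cancel]

open Cfsg.Agent.Lib.Helper4_KleinConj

omit [Fintype F] in
theorem lift_kpair (h2 : (2 : F) ≠ 0) {u v : Matrix.ProjectiveSpecialLinearGroup (Fin 2) F}
    (hp : IsKPair (u, v)) :
    ∃ a b : Matrix.SpecialLinearGroup (Fin 2) F, u = QuotientGroup.mk a ∧ v = QuotientGroup.mk b ∧
      AP (a, b) := by
  obtain ⟨a, rfl⟩ := QuotientGroup.mk_surjective u
  obtain ⟨b, rfl⟩ := QuotientGroup.mk_surjective v
  exact ⟨a, b, rfl, rfl, (kpair_iff h2 a b).mp hp⟩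

theorem S0808_main {q : ℕ} (hF : Fintype.card F = q) (hodd : Odd q) : ((q % 8 = 3 ∨ q % 8 = 5) → ∀ V W : Subgroup (Matrix.ProjectiveSpecialLinearGroup (Fin 2) F), IsKleinFour V → IsKleinFour W → ∃ g : Matrix.ProjectiveSpecialLinearGroup (Fin 2) F, W = V.map (MulAut.conj g).toMonoidHom) ∧ ((q % 8 = 1 ∨ q % 8 = 7) → ∃ V₁ V₂ : Subgroup (Matrix.ProjectiveSpecialLinearGroup (Fin 2) F), IsKleinFour V₁ ∧ IsKleinFour V₂ ∧ (¬ ∃ g : Matrix.ProjectiveSpecialLinearGroup (Fin 2) F, V₂ = V₁.map (MulAut.conj g).toMonoidHom) ∧ ∀ W : Subgroup (Matrix.ProjectiveSpecialLinearGroup (Fin 2) F), IsKleinFour W → (∃ g : Matrix.ProjectiveSpecialLinearGroup (Fin 2) F, W = V₁.map (MulAut.conj g).toMonoidHom) ∨ (∃ g : Matrix.ProjectiveSpecialLinearGroup (Fin 2) F, W = V₂.map (MulAut.conj g).toMonoidHom)) := by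
  classical
  subst hF
  have h2 := two_ne_zero' hodd
  have hmk : ∀ g x : Matrix.SpecialLinearGroup (Fin 2) F,
      (QuotientGroup.mk g : Matrix.ProjectiveSpecialLinearGroup (Fin 2) F) * QuotientGroup.mk x *
        (QuotientGroup.mk g)⁻¹ = QuotientGroup.mk (g * x * g⁻¹) := by
    intro g x; rfl
  constructor
  · intro hq V W hV hW
    have hns : ¬ IsSquare (2 : F) := by
      rw [FiniteField.isSquare_two_iff]
      omega
    obtain ⟨u, v, hu, hv, hp⟩ := exists_pair hV
    obtain ⟨u', v', hu', hv', hp'⟩ := exists_pair hW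
    obtain ⟨a, b, rfl, rfl, hab⟩ := lift_kpair h2 hp
    obtain ⟨c, d, rfl, rfl, hcd⟩ := lift_kpair h2 hp'
    rcases three_pairs' hodd (a, b) (b, a) (c, d) hab (AP_swap h2 hab) hcd with h | h | h
    · exact absurd h (swap_nonconj h2 hns hab)
    · obtain ⟨g, hg⟩ := h
      unfold cj at hg
      simp only [Prod.mk.injEq] at hg
      refine ⟨QuotientGroup.mk g, klein_conj hV hW hu hv hp _ ?_ ?_⟩
      · rw [hmk, hg.1]; exact hu'
      · rw [hmk, hg.2]; exact hv'
    · obtain ⟨g, hg⟩ := h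
      unfold cj at hg
      simp only [Prod.mk.injEq] at hg
      refine ⟨QuotientGroup.mk g, klein_conj hV hW hu hv hp _ ?_ ?_⟩
      · rw [hmk, hg.2]; exact hv'
      · rw [hmk, hg.1]; exact hu'
  · intro hq
    have hsq : IsSquare (2 : F) := by
      rw [FiniteField.isSquare_two_iff]
      omega
    obtain ⟨s, hs⟩ := hsq
    have hswapD : ∀ x y : Matrix.ProjectiveSpecialLinearGroup (Fin 2) F, IsKPair (x, y) →
        R (x, y) (y, x) := by
      intro x y hxy
      obtain ⟨a, b, rfl, rfl, hab⟩ := lift_kpair h2 hxy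
      obtain ⟨g, hg⟩ := swap_conj h2 s hs.symm hab
      unfold cj at hg
      simp only [Prod.mk.injEq] at hg
      refine ⟨QuotientGroup.mk g, ?_, ?_⟩
      · show (QuotientGroup.mk g : Matrix.ProjectiveSpecialLinearGroup (Fin 2) F) * QuotientGroup.mk a *
          (QuotientGroup.mk g)⁻¹ = QuotientGroup.mk b
        rw [hmk, hg.1]
      · show (QuotientGroup.mk g : Matrix.ProjectiveSpecialLinearGroup (Fin 2) F) * QuotientGroup.mk b *
          (QuotientGroup.mk g)⁻¹ = QuotientGroup.mk a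
        rw [hmk, hg.2]
    -- existence of a four-group
    have hex : Nonempty {V : Subgroup (Matrix.ProjectiveSpecialLinearGroup (Fin 2) F) // IsKleinFour V} := by
      have h := S0807_main (F := F) rfl hodd
      have hpos : 0 < Nat.card (Matrix.ProjectiveSpecialLinearGroup (Fin 2) F) := Nat.card_pos
      have : 0 < Nat.card {V : Subgroup (Matrix.ProjectiveSpecialLinearGroup (Fin 2) F) // IsKleinFour V} := by
        omega
      exact (Nat.card_pos_iff.mp this).1
    obtain ⟨⟨V₁, hV₁⟩⟩ := hex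
    obtain ⟨u, v, hu, hv, hp⟩ := exists_pair hV₁
    obtain ⟨a, b, rfl, rfl, hab⟩ := lift_kpair h2 hp
    obtain ⟨⟨c, d⟩, hcd, hnc⟩ := exists_nonconj hodd (a, b) hab
    have hpcd : IsKPair ((QuotientGroup.mk c : Matrix.ProjectiveSpecialLinearGroup (Fin 2) F),
        (QuotientGroup.mk d : Matrix.ProjectiveSpecialLinearGroup (Fin 2) F)) := (kpair_iff h2 c d).mpr hcd
    set V₂ := pairSub ⟨_, hpcd⟩ with hV₂
    have hcV : (QuotientGroup.mk c : Matrix.ProjectiveSpecialLinearGroup (Fin 2) F) ∈ V₂.1 :=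
      (mem_pairSub _ _).mpr (Or.inr (Or.inl rfl))
    have hdV : (QuotientGroup.mk d : Matrix.ProjectiveSpecialLinearGroup (Fin 2) F) ∈ V₂.1 :=
      (mem_pairSub _ _).mpr (Or.inr (Or.inr (Or.inl rfl)))
    refine ⟨V₁, V₂.1, hV₁, V₂.2, ?_, ?_⟩
    · rintro ⟨g, hg⟩
      obtain ⟨g, rfl⟩ := QuotientGroup.mk_surjective g
      -- pull back c, d into V₁
      have hc' : (QuotientGroup.mk c : Matrix.ProjectiveSpecialLinearGroup (Fin 2) F) ∈
          V₁.map (MulAut.conj (QuotientGroup.mk g : Matrix.ProjectiveSpecialLinearGroup (Fin 2) F)).toMonoidHom := by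
        rw [← hg]; exact hcV
      have hd' : (QuotientGroup.mk d : Matrix.ProjectiveSpecialLinearGroup (Fin 2) F) ∈
          V₁.map (MulAut.conj (QuotientGroup.mk g : Matrix.ProjectiveSpecialLinearGroup (Fin 2) F)).toMonoidHom := by
        rw [← hg]; exact hdV
      obtain ⟨u', hu', hcu⟩ := hc'
      obtain ⟨v', hv', hdv⟩ := hd'
      have hcu' : (QuotientGroup.mk g : Matrix.ProjectiveSpecialLinearGroup (Fin 2) F) * u' *
          (QuotientGroup.mk g)⁻¹ = QuotientGroup.mk c := hcu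
      have hdv' : (QuotientGroup.mk g : Matrix.ProjectiveSpecialLinearGroup (Fin 2) F) * v' *
          (QuotientGroup.mk g)⁻¹ = QuotientGroup.mk d := hdv
      -- (u', v') is a K-pair
      have hp' : IsKPair (u', v') := by
        apply kp_of_conj (g := (QuotientGroup.mk g : Matrix.ProjectiveSpecialLinearGroup (Fin 2) F))
        rw [hcu', hdv']
        exact hpcd
      obtain ⟨h, e1, e2⟩ := all_pairs_conj hswapD hV₁ hu hv hp hu' hv' hp'
      simp only at e1 e2
      obtain ⟨h, rfl⟩ := QuotientGroup.mk_surjective h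
      apply hnc
      apply lift_conj hcd (g * h)
      · rw [← hcu', ← e1]
        simp only [QuotientGroup.mk_mul, QuotientGroup.mk_inv]
        group
      · rw [← hdv', ← e2]
        simp only [QuotientGroup.mk_mul, QuotientGroup.mk_inv]
        group
    · intro W hW
      obtain ⟨u'', v'', hu'', hv'', hp''⟩ := exists_pair hW
      obtain ⟨e, f, rfl, rfl, hef⟩ := lift_kpair h2 hp''
      rcases three_pairs' hodd (a, b) (c, d) (e, f) hab hcd hef with h | h | h
      · exact absurd h hnc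
      · left
        obtain ⟨g, hg⟩ := h
        unfold cj at hg
        simp only [Prod.mk.injEq] at hg
        refine ⟨QuotientGroup.mk g, klein_conj hV₁ hW hu hv hp _ ?_ ?_⟩
        · rw [hmk, hg.1]; exact hu''
        · rw [hmk, hg.2]; exact hv''
      · right
        obtain ⟨g, hg⟩ := h
        unfold cj at hg
        simp only [Prod.mk.injEq] at hg
        refine ⟨QuotientGroup.mk g, klein_conj V₂.2 hW hcV hdV hpcd _ ?_ ?_⟩
        · rw [hmk, hg.1]; exact hu''
        · rw [hmk, hg.2]; exact hv''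

end Cfsg.Agent.Lib.Helper4_PSL2KleinClasses
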