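import Mathlib

set_option autoImplicit false

namespace Cfsg.Agent.Helper8S4Pres

/-- The three Coxeter generators of `S₄`. -/
inductive Gen
  | A | B | C
  deriving DecidableEq

open Gen

/-- One rewriting step of the complete rewriting system of `S₄`. -/
def step : List Gen → List Gen
  | A :: A :: l => l
  | B :: B :: l => l
  | C :: C :: l => l
  | C :: A :: l => A :: C :: l
  | B :: A :: B :: l => A :: B :: A :: l
  | C :: B :: C :: l => B :: C :: B :: l
  | C :: B :: A :: C :: l => B :: C :: B :: A :: l
  | x :: l => x :: step l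
  | [] => []

/-- The generators as permutations. -/
def perm : Gen → Equiv.Perm (Fin 4)
  | A => Equiv.swap 0 1
  | B => Equiv.swap 1 2
  | C => Equiv.swap 2 3

/-- Evaluate a word in a group. -/
def eval {H : Type*} [Group H] (g : Gen → H) (l : List Gen) : H := (l.map g).prod

theorem eval_cons {H : Type*} [Group H] (g : Gen → H) (x : Gen) (l : List Gen) :
    eval g (x :: l) = g x * eval g l := by
  simp [eval]

theorem eval_nil {H : Type*} [Group H] (g : Gen → H) : eval g [] = 1 := by
  simp [eval]

theorem eval_append {H : Type*} [Group H] (g : Gen → H) (l l' : List Gen) :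
    eval g (l ++ l') = eval g l * eval g l' := by
  simp [eval]

/-- The Coxeter relations of type `A₃`. -/
structure Rel {H : Type*} [Group H] (g : Gen → H) : Prop where
  aa : g A * g A = 1
  bb : g B * g B = 1
  cc : g C * g C = 1
  ca : g C * g A = g A * g C
  bab : g B * g A * g B = g A * g B * g A
  cbc : g C * g B * g C = g B * g C * g B

theorem eval_step {H : Type*} [Group H] (g : Gen → H) (hg : Rel g) (l : List Gen) :
    eval g (step l) = eval g l := by
  have haa : ∀ z, g A * (g A * z) = z := fun z => by rw [← mul_assoc, hg.aa, one_mul]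
  have hbb : ∀ z, g B * (g B * z) = z := fun z => by rw [← mul_assoc, hg.bb, one_mul]
  have hcc : ∀ z, g C * (g C * z) = z := fun z => by rw [← mul_assoc, hg.cc, one_mul]
  have hca : ∀ z, g C * (g A * z) = g A * (g C * z) := fun z => by
    rw [← mul_assoc, hg.ca, mul_assoc]
  have hbab : ∀ z, g B * (g A * (g B * z)) = g A * (g B * (g A * z)) := fun z => by
    rw [← mul_assoc, ← mul_assoc, hg.bab, mul_assoc, mul_assoc]
  have hcbc : ∀ z, g C * (g B * (g C * z)) = g B * (g C * (g B * z)) := fun z => by
    rw [← mul_assoc, ← mul_assoc, hg.cbc, mul_assoc, mul_assoc]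
  have hcbac : ∀ z, g C * (g B * (g A * (g C * z))) = g B * (g C * (g B * (g A * z))) := by
    intro z
    rw [← hca, hcbc]
  fun_induction step l <;> simp only [eval_cons, eval_nil, *]

/-- Lookup in an association list keyed by natural numbers. -/
def lookup : List (ℕ × List Gen) → ℕ → List Gen
  | [], _ => []
  | (k, w) :: t, key => if k = key then w else lookup t key

/-- The table of normal forms. -/
def table : List (ℕ × List Gen) :=
  [(6, []),
   (7, [.C]),
   (9, [.B]),
   (11, [.B, .C]),
   (13, [.C, .B]),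
   (14, [.B, .C, .B]),
   (18, [.A]),
   (19, [.A, .C]),
   (24, [.A, .B]),
   (27, [.A, .B, .C]),
   (28, [.A, .C, .B]),
   (30, [.A, .B, .C, .B]),
   (33, [.B, .A]),
   (35, [.B, .A, .C]),
   (36, [.A, .B, .A]),
   (39, [.A, .B, .A, .C]),
   (44, [.B, .A, .C, .B]),
   (45, [.A, .B, .A, .C, .B]),
   (49, [.C, .B, .A]),
   (50, [.B, .C, .B, .A]),
   (52, [.A, .C, .B, .A]),
   (54, [.A, .B, .C, .B, .A]),
   (56, [.B, .A, .C, .B, .A]),
   (57, [.A, .B, .A, .C, .B, .A])]

/-- The normal-form word of a permutation. -/
def word (σ : Equiv.Perm (Fin 4)) : List Gen :=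
  lookup table ((σ 0).val * 16 + (σ 1).val * 4 + (σ 2).val)

set_option maxRecDepth 100000 in
theorem key_check : ∀ σ : Equiv.Perm (Fin 4),
    step^[6] (A :: word σ) = word (perm A * σ) ∧
    step^[6] (B :: word σ) = word (perm B * σ) ∧
    step^[6] (C :: word σ) = word (perm C * σ) := by
  decide

theorem eval_iter {H : Type*} [Group H] (g : Gen → H) (hg : Rel g) (n : ℕ) (l : List Gen) :
    eval g (step^[n] l) = eval g l := by
  induction n generalizing l with
  | zero => rfl
  | succ n ih => rw [Function.iterate_succ_apply, ih, eval_step g hg]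

theorem rel_perm : Rel perm := by
  constructor <;> decide

set_option maxRecDepth 100000 in
theorem eval_word : ∀ σ : Equiv.Perm (Fin 4), eval perm (word σ) = σ := by
  decide

theorem word_one : word 1 = [] := by decide

theorem word_A : word (Equiv.swap 0 1) = [A] := by decide

theorem word_B : word (Equiv.swap 1 2) = [B] := by decide

theorem word_C : word (Equiv.swap 2 3) = [C] := by decide

theorem eval_word_eval {H : Type*} [Group H] (g : Gen → H) (hg : Rel g) (l : List Gen) :
    eval g (word (eval perm l)) = eval g l := by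
  induction l with
  | nil => rw [eval_nil, word_one]
  | cons x l ih =>
    rw [eval_cons, eval_cons, ← ih]
    obtain ⟨h1, h2, h3⟩ := key_check (eval perm l)
    cases x
    · rw [← h1, eval_iter g hg, eval_cons]
    · rw [← h2, eval_iter g hg, eval_cons]
    · rw [← h3, eval_iter g hg, eval_cons]

/-- The homomorphism from `S₄` defined by elements satisfying the Coxeter relations. -/
noncomputable def lift {H : Type*} [Group H] (g : Gen → H) (hg : Rel g) :
    Equiv.Perm (Fin 4) →* H where
  toFun σ := eval g (word σ)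
  map_one' := by rw [word_one, eval_nil]
  map_mul' σ τ := by
    have h := eval_word_eval g hg (word σ ++ word τ)
    rw [eval_append, eval_append, eval_word, eval_word] at h
    exact h

theorem lift_A {H : Type*} [Group H] (g : Gen → H) (hg : Rel g) :
    lift g hg (Equiv.swap 0 1) = g A := by
  show eval g (word _) = _
  rw [word_A, eval_cons, eval_nil, mul_one]

theorem lift_B {H : Type*} [Group H] (g : Gen → H) (hg : Rel g) :
    lift g hg (Equiv.swap 1 2) = g B := by
  show eval g (word _) = _
  rw [word_B, eval_cons, eval_nil, mul_one]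

theorem lift_C {H : Type*} [Group H] (g : Gen → H) (hg : Rel g) :
    lift g hg (Equiv.swap 2 3) = g C := by
  show eval g (word _) = _
  rw [word_C, eval_cons, eval_nil, mul_one]

set_option maxRecDepth 100000 in
theorem exists_conj_prod : ∀ σ : Equiv.Perm (Fin 4), σ ≠ 1 →
    ∃ g h : Equiv.Perm (Fin 4),
      g * σ * g⁻¹ * (h * σ * h⁻¹) = Equiv.swap 0 1 * Equiv.swap 2 3 := by
  decide

/-- Every nontrivial normal subgroup of `S₄` contains `(0 1)(2 3)`. -/
theorem mem_of_normal (N : Subgroup (Equiv.Perm (Fin 4))) [hN : N.Normal] (hne : N ≠ ⊥) :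
    Equiv.swap 0 1 * Equiv.swap 2 3 ∈ N := by
  obtain ⟨σ, hσ, hσ1⟩ := (Subgroup.ne_bot_iff_exists_ne_one (H := N)).mp hne |>.imp
    (fun x hx => hx) |> fun ⟨x, hx⟩ => (⟨x.1, x.2, fun h => hx (Subtype.ext h)⟩ :
      ∃ σ : Equiv.Perm (Fin 4), σ ∈ N ∧ σ ≠ 1)
  obtain ⟨g, h, hgh⟩ := exists_conj_prod σ hσ1
  rw [← hgh]
  exact N.mul_mem (hN.conj_mem σ hσ g) (hN.conj_mem σ hσ h)

/-- Coxeter presentation of `S₄`, with injectivity criterion. -/
theorem exists_hom {H : Type*} [Group H] (a b c : H) (ha : a * a = 1) (hb : b * b = 1)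
    (hc : c * c = 1) (hca : c * a = a * c) (hbab : b * a * b = a * b * a)
    (hcbc : c * b * c = b * c * b) :
    ∃ φ : Equiv.Perm (Fin 4) →* H, φ (Equiv.swap 0 1) = a ∧ φ (Equiv.swap 1 2) = b ∧
      φ (Equiv.swap 2 3) = c ∧ (a ≠ c → Function.Injective φ) := by
  obtain ⟨g, hgdef⟩ : ∃ g : Gen → H, g = fun x => match x with
    | A => a
    | B => b
    | C => c := ⟨_, rfl⟩
  have hA : g A = a := by rw [hgdef]
  have hB : g B = b := by rw [hgdef]
  have hC : g C = c := by rw [hgdef]
  have hg : Rel g := by
    constructor <;> simp only [hA, hB, hC] <;> assumption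
  refine ⟨lift g hg, (lift_A g hg).trans hA, (lift_B g hg).trans hB, (lift_C g hg).trans hC, ?_⟩
  intro hac
  rw [← MonoidHom.ker_eq_bot_iff]
  by_contra hne
  have h1 := mem_of_normal (lift g hg).ker hne
  rw [MonoidHom.mem_ker, map_mul, lift_A, lift_C, hA, hC] at h1
  apply hac
  calc a = a * (c * c) := by rw [hc, mul_one]
    _ = (a * c) * c := by rw [mul_assoc]
    _ = c := by rw [h1, one_mul]

end Cfsg.Agent.Helper8S4Pres
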