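import Mathlib
import Cfsg.Agent.Lib.Helper4_PSL2Klein
import Cfsg.Agent.Lib.Helper8_S4Pres
import Cfsg.Agent.Lib.Helper4_SL2Card
import Cfsg.Agent.Lib.Helper4_SL2Cent

namespace Cfsg.Agent.Lib.Helper4_PSL2S4
open Matrix Cfsg.Agent.Lib.Helper4_PSL2ClassOdd Cfsg.Agent.Lib.Helper4_PSL2Klein

variable {F : Type*} [Field F]

def Ma (s r u : F) : Matrix (Fin 2) (Fin 2) F := !![s * u, (r - 1) * u; (r + 1) * u, -s * u]
def Mb (s r u : F) : Matrix (Fin 2) (Fin 2) F := !![(s - r) * u, (r + s) * u; (r + s) * u, (r - s) * u]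
def Mc (s r u : F) : Matrix (Fin 2) (Fin 2) F := !![-s * u, (-1 - r) * u; (1 - r) * u, s * u]

section rels
variable (s r u : F) (h : s ^ 2 + r ^ 2 = -1) (hu : 2 * u ^ 2 = 1)
include h hu

theorem det_Ma : (Ma s r u).det = 1 := by
  rw [Matrix.det_fin_two]
  simp [Ma] <;>
    first
    | linear_combination ((0 : F) * u ^ 2) * h + (0 : F) * hu
    | linear_combination ((0 : F) * u ^ 2) * h + (1 : F) * hu
    | linear_combination ((0 : F) * u ^ 2) * h + (-1 : F) * hu
    | linear_combination ((1 : F) * u ^ 2) * h + (0 : F) * hu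
    | linear_combination ((1 : F) * u ^ 2) * h + (1 : F) * hu
    | linear_combination ((1 : F) * u ^ 2) * h + (-1 : F) * hu
    | linear_combination ((-1 : F) * u ^ 2) * h + (0 : F) * hu
    | linear_combination ((-1 : F) * u ^ 2) * h + (1 : F) * hu
    | linear_combination ((-1 : F) * u ^ 2) * h + (-1 : F) * hu
    | linear_combination ((2 : F) * u ^ 2) * h + (0 : F) * hu
    | linear_combination ((2 : F) * u ^ 2) * h + (1 : F) * hu
    | linear_combination ((2 : F) * u ^ 2) * h + (-1 : F) * hu
    | linear_combination ((-2 : F) * u ^ 2) * h + (0 : F) * hu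
    | linear_combination ((-2 : F) * u ^ 2) * h + (1 : F) * hu
    | linear_combination ((-2 : F) * u ^ 2) * h + (-1 : F) * hu

theorem det_Mb : (Mb s r u).det = 1 := by
  rw [Matrix.det_fin_two]
  simp [Mb] <;>
    first
    | linear_combination ((0 : F) * u ^ 2) * h + (0 : F) * hu
    | linear_combination ((0 : F) * u ^ 2) * h + (1 : F) * hu
    | linear_combination ((0 : F) * u ^ 2) * h + (-1 : F) * hu
    | linear_combination ((1 : F) * u ^ 2) * h + (0 : F) * hu
    | linear_combination ((1 : F) * u ^ 2) * h + (1 : F) * hu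
    | linear_combination ((1 : F) * u ^ 2) * h + (-1 : F) * hu
    | linear_combination ((-1 : F) * u ^ 2) * h + (0 : F) * hu
    | linear_combination ((-1 : F) * u ^ 2) * h + (1 : F) * hu
    | linear_combination ((-1 : F) * u ^ 2) * h + (-1 : F) * hu
    | linear_combination ((2 : F) * u ^ 2) * h + (0 : F) * hu
    | linear_combination ((2 : F) * u ^ 2) * h + (1 : F) * hu
    | linear_combination ((2 : F) * u ^ 2) * h + (-1 : F) * hu
    | linear_combination ((-2 : F) * u ^ 2) * h + (0 : F) * hu
    | linear_combination ((-2 : F) * u ^ 2) * h + (1 : F) * hu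
    | linear_combination ((-2 : F) * u ^ 2) * h + (-1 : F) * hu

theorem det_Mc : (Mc s r u).det = 1 := by
  rw [Matrix.det_fin_two]
  simp [Mc] <;>
    first
    | linear_combination ((0 : F) * u ^ 2) * h + (0 : F) * hu
    | linear_combination ((0 : F) * u ^ 2) * h + (1 : F) * hu
    | linear_combination ((0 : F) * u ^ 2) * h + (-1 : F) * hu
    | linear_combination ((1 : F) * u ^ 2) * h + (0 : F) * hu
    | linear_combination ((1 : F) * u ^ 2) * h + (1 : F) * hu
    | linear_combination ((1 : F) * u ^ 2) * h + (-1 : F) * hu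
    | linear_combination ((-1 : F) * u ^ 2) * h + (0 : F) * hu
    | linear_combination ((-1 : F) * u ^ 2) * h + (1 : F) * hu
    | linear_combination ((-1 : F) * u ^ 2) * h + (-1 : F) * hu
    | linear_combination ((2 : F) * u ^ 2) * h + (0 : F) * hu
    | linear_combination ((2 : F) * u ^ 2) * h + (1 : F) * hu
    | linear_combination ((2 : F) * u ^ 2) * h + (-1 : F) * hu
    | linear_combination ((-2 : F) * u ^ 2) * h + (0 : F) * hu
    | linear_combination ((-2 : F) * u ^ 2) * h + (1 : F) * hu
    | linear_combination ((-2 : F) * u ^ 2) * h + (-1 : F) * hu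

theorem Ma_sq : Ma s r u * Ma s r u = -1 := by
  ext i j
  fin_cases i <;> fin_cases j <;> simp [Ma, Matrix.mul_apply, Fin.sum_univ_two] <;>
    first
    | linear_combination ((0 : F) * u ^ 2) * h + (0 : F) * hu
    | linear_combination ((0 : F) * u ^ 2) * h + (1 : F) * hu
    | linear_combination ((0 : F) * u ^ 2) * h + (-1 : F) * hu
    | linear_combination ((1 : F) * u ^ 2) * h + (0 : F) * hu
    | linear_combination ((1 : F) * u ^ 2) * h + (1 : F) * hu
    | linear_combination ((1 : F) * u ^ 2) * h + (-1 : F) * hu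
    | linear_combination ((-1 : F) * u ^ 2) * h + (0 : F) * hu
    | linear_combination ((-1 : F) * u ^ 2) * h + (1 : F) * hu
    | linear_combination ((-1 : F) * u ^ 2) * h + (-1 : F) * hu
    | linear_combination ((2 : F) * u ^ 2) * h + (0 : F) * hu
    | linear_combination ((2 : F) * u ^ 2) * h + (1 : F) * hu
    | linear_combination ((2 : F) * u ^ 2) * h + (-1 : F) * hu
    | linear_combination ((-2 : F) * u ^ 2) * h + (0 : F) * hu
    | linear_combination ((-2 : F) * u ^ 2) * h + (1 : F) * hu
    | linear_combination ((-2 : F) * u ^ 2) * h + (-1 : F) * hu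

theorem Mb_sq : Mb s r u * Mb s r u = -1 := by
  ext i j
  fin_cases i <;> fin_cases j <;> simp [Mb, Matrix.mul_apply, Fin.sum_univ_two] <;>
    first
    | linear_combination ((0 : F) * u ^ 2) * h + (0 : F) * hu
    | linear_combination ((0 : F) * u ^ 2) * h + (1 : F) * hu
    | linear_combination ((0 : F) * u ^ 2) * h + (-1 : F) * hu
    | linear_combination ((1 : F) * u ^ 2) * h + (0 : F) * hu
    | linear_combination ((1 : F) * u ^ 2) * h + (1 : F) * hu
    | linear_combination ((1 : F) * u ^ 2) * h + (-1 : F) * hu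
    | linear_combination ((-1 : F) * u ^ 2) * h + (0 : F) * hu
    | linear_combination ((-1 : F) * u ^ 2) * h + (1 : F) * hu
    | linear_combination ((-1 : F) * u ^ 2) * h + (-1 : F) * hu
    | linear_combination ((2 : F) * u ^ 2) * h + (0 : F) * hu
    | linear_combination ((2 : F) * u ^ 2) * h + (1 : F) * hu
    | linear_combination ((2 : F) * u ^ 2) * h + (-1 : F) * hu
    | linear_combination ((-2 : F) * u ^ 2) * h + (0 : F) * hu
    | linear_combination ((-2 : F) * u ^ 2) * h + (1 : F) * hu
    | linear_combination ((-2 : F) * u ^ 2) * h + (-1 : F) * hu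

theorem Mc_sq : Mc s r u * Mc s r u = -1 := by
  ext i j
  fin_cases i <;> fin_cases j <;> simp [Mc, Matrix.mul_apply, Fin.sum_univ_two] <;>
    first
    | linear_combination ((0 : F) * u ^ 2) * h + (0 : F) * hu
    | linear_combination ((0 : F) * u ^ 2) * h + (1 : F) * hu
    | linear_combination ((0 : F) * u ^ 2) * h + (-1 : F) * hu
    | linear_combination ((1 : F) * u ^ 2) * h + (0 : F) * hu
    | linear_combination ((1 : F) * u ^ 2) * h + (1 : F) * hu
    | linear_combination ((1 : F) * u ^ 2) * h + (-1 : F) * hu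
    | linear_combination ((-1 : F) * u ^ 2) * h + (0 : F) * hu
    | linear_combination ((-1 : F) * u ^ 2) * h + (1 : F) * hu
    | linear_combination ((-1 : F) * u ^ 2) * h + (-1 : F) * hu
    | linear_combination ((2 : F) * u ^ 2) * h + (0 : F) * hu
    | linear_combination ((2 : F) * u ^ 2) * h + (1 : F) * hu
    | linear_combination ((2 : F) * u ^ 2) * h + (-1 : F) * hu
    | linear_combination ((-2 : F) * u ^ 2) * h + (0 : F) * hu
    | linear_combination ((-2 : F) * u ^ 2) * h + (1 : F) * hu
    | linear_combination ((-2 : F) * u ^ 2) * h + (-1 : F) * hu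

theorem Mab : Ma s r u * Mb s r u + Mb s r u * Ma s r u = -1 := by
  ext i j
  fin_cases i <;> fin_cases j <;> simp [Ma, Mb, Matrix.mul_apply, Fin.sum_univ_two] <;>
    first
    | linear_combination ((0 : F) * u ^ 2) * h + (0 : F) * hu
    | linear_combination ((0 : F) * u ^ 2) * h + (1 : F) * hu
    | linear_combination ((0 : F) * u ^ 2) * h + (-1 : F) * hu
    | linear_combination ((1 : F) * u ^ 2) * h + (0 : F) * hu
    | linear_combination ((1 : F) * u ^ 2) * h + (1 : F) * hu
    | linear_combination ((1 : F) * u ^ 2) * h + (-1 : F) * hu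
    | linear_combination ((-1 : F) * u ^ 2) * h + (0 : F) * hu
    | linear_combination ((-1 : F) * u ^ 2) * h + (1 : F) * hu
    | linear_combination ((-1 : F) * u ^ 2) * h + (-1 : F) * hu
    | linear_combination ((2 : F) * u ^ 2) * h + (0 : F) * hu
    | linear_combination ((2 : F) * u ^ 2) * h + (1 : F) * hu
    | linear_combination ((2 : F) * u ^ 2) * h + (-1 : F) * hu
    | linear_combination ((-2 : F) * u ^ 2) * h + (0 : F) * hu
    | linear_combination ((-2 : F) * u ^ 2) * h + (1 : F) * hu
    | linear_combination ((-2 : F) * u ^ 2) * h + (-1 : F) * hu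

theorem Mcb : Mc s r u * Mb s r u + Mb s r u * Mc s r u = 1 := by
  ext i j
  fin_cases i <;> fin_cases j <;> simp [Mc, Mb, Matrix.mul_apply, Fin.sum_univ_two] <;>
    first
    | linear_combination ((0 : F) * u ^ 2) * h + (0 : F) * hu
    | linear_combination ((0 : F) * u ^ 2) * h + (1 : F) * hu
    | linear_combination ((0 : F) * u ^ 2) * h + (-1 : F) * hu
    | linear_combination ((1 : F) * u ^ 2) * h + (0 : F) * hu
    | linear_combination ((1 : F) * u ^ 2) * h + (1 : F) * hu
    | linear_combination ((1 : F) * u ^ 2) * h + (-1 : F) * hu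
    | linear_combination ((-1 : F) * u ^ 2) * h + (0 : F) * hu
    | linear_combination ((-1 : F) * u ^ 2) * h + (1 : F) * hu
    | linear_combination ((-1 : F) * u ^ 2) * h + (-1 : F) * hu
    | linear_combination ((2 : F) * u ^ 2) * h + (0 : F) * hu
    | linear_combination ((2 : F) * u ^ 2) * h + (1 : F) * hu
    | linear_combination ((2 : F) * u ^ 2) * h + (-1 : F) * hu
    | linear_combination ((-2 : F) * u ^ 2) * h + (0 : F) * hu
    | linear_combination ((-2 : F) * u ^ 2) * h + (1 : F) * hu
    | linear_combination ((-2 : F) * u ^ 2) * h + (-1 : F) * hu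

theorem Mca : Mc s r u * Ma s r u + Ma s r u * Mc s r u = 0 := by
  ext i j
  fin_cases i <;> fin_cases j <;> simp [Mc, Ma, Matrix.mul_apply, Fin.sum_univ_two] <;>
    first
    | linear_combination ((0 : F) * u ^ 2) * h + (0 : F) * hu
    | linear_combination ((0 : F) * u ^ 2) * h + (1 : F) * hu
    | linear_combination ((0 : F) * u ^ 2) * h + (-1 : F) * hu
    | linear_combination ((1 : F) * u ^ 2) * h + (0 : F) * hu
    | linear_combination ((1 : F) * u ^ 2) * h + (1 : F) * hu
    | linear_combination ((1 : F) * u ^ 2) * h + (-1 : F) * hu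
    | linear_combination ((-1 : F) * u ^ 2) * h + (0 : F) * hu
    | linear_combination ((-1 : F) * u ^ 2) * h + (1 : F) * hu
    | linear_combination ((-1 : F) * u ^ 2) * h + (-1 : F) * hu
    | linear_combination ((2 : F) * u ^ 2) * h + (0 : F) * hu
    | linear_combination ((2 : F) * u ^ 2) * h + (1 : F) * hu
    | linear_combination ((2 : F) * u ^ 2) * h + (-1 : F) * hu
    | linear_combination ((-2 : F) * u ^ 2) * h + (0 : F) * hu
    | linear_combination ((-2 : F) * u ^ 2) * h + (1 : F) * hu
    | linear_combination ((-2 : F) * u ^ 2) * h + (-1 : F) * hu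

end rels


section grp
variable (s r u : F) (h : s ^ 2 + r ^ 2 = -1) (hu : 2 * u ^ 2 = 1)

def sa : Matrix.SpecialLinearGroup (Fin 2) F := ⟨Ma s r u, det_Ma s r u h hu⟩
def sb : Matrix.SpecialLinearGroup (Fin 2) F := ⟨Mb s r u, det_Mb s r u h hu⟩
def sc : Matrix.SpecialLinearGroup (Fin 2) F := ⟨Mc s r u, det_Mc s r u h hu⟩

theorem sa_sq : sa s r u h hu * sa s r u h hu = N1 := by
  apply Subtype.ext
  rw [Matrix.SpecialLinearGroup.coe_mul, N1_val]
  exact Ma_sq s r u h hu

theorem sb_sq : sb s r u h hu * sb s r u h hu = N1 := by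
  apply Subtype.ext
  rw [Matrix.SpecialLinearGroup.coe_mul, N1_val]
  exact Mb_sq s r u h hu

theorem sc_sq : sc s r u h hu * sc s r u h hu = N1 := by
  apply Subtype.ext
  rw [Matrix.SpecialLinearGroup.coe_mul, N1_val]
  exact Mc_sq s r u h hu

theorem sc_sa : sc s r u h hu * sa s r u h hu = N1 * (sa s r u h hu * sc s r u h hu) := by
  apply Subtype.ext
  rw [N1_mul_val, Matrix.SpecialLinearGroup.coe_mul, Matrix.SpecialLinearGroup.coe_mul]
  exact eq_neg_of_add_eq_zero_left (Mca s r u h hu)

theorem sbab : sb s r u h hu * sa s r u h hu * sb s r u h hu =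
    N1 * (sa s r u h hu * sb s r u h hu * sa s r u h hu) := by
  apply Subtype.ext
  rw [N1_mul_val, Matrix.SpecialLinearGroup.coe_mul, Matrix.SpecialLinearGroup.coe_mul,
    Matrix.SpecialLinearGroup.coe_mul, Matrix.SpecialLinearGroup.coe_mul]
  show Mb s r u * Ma s r u * Mb s r u = -(Ma s r u * Mb s r u * Ma s r u)
  have h1 : Mb s r u * Ma s r u = -1 - Ma s r u * Mb s r u := by
    rw [← Mab s r u h hu]; abel
  rw [h1, Matrix.mul_assoc (Ma s r u), h1, Matrix.sub_mul, Matrix.mul_sub, Matrix.mul_assoc,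
    Mb_sq s r u h hu, ← Matrix.mul_assoc, Ma_sq s r u h hu]
  simp only [neg_mul, one_mul, mul_neg, mul_one, neg_neg]
  abel

theorem scbc : sc s r u h hu * sb s r u h hu * sc s r u h hu =
    sb s r u h hu * sc s r u h hu * sb s r u h hu := by
  apply Subtype.ext
  rw [Matrix.SpecialLinearGroup.coe_mul, Matrix.SpecialLinearGroup.coe_mul,
    Matrix.SpecialLinearGroup.coe_mul, Matrix.SpecialLinearGroup.coe_mul]
  show Mc s r u * Mb s r u * Mc s r u = Mb s r u * Mc s r u * Mb s r u
  have h1 : Mc s r u * Mb s r u = 1 - Mb s r u * Mc s r u := by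
    rw [← Mcb s r u h hu]; abel
  rw [h1, Matrix.mul_assoc (Mb s r u), h1, Matrix.sub_mul, Matrix.mul_sub, Matrix.mul_assoc,
    Mc_sq s r u h hu, ← Matrix.mul_assoc, Mb_sq s r u h hu]
  simp only [neg_mul, one_mul, mul_neg, mul_one, neg_neg]
  abel

theorem mk_N1 : (QuotientGroup.mk (N1 : Matrix.SpecialLinearGroup (Fin 2) F) :
    Matrix.ProjectiveSpecialLinearGroup (Fin 2) F) = 1 :=
  (mk_eq_one_iff _).mpr (Or.inr rfl)

theorem mk_sa_ne_sc (h2 : (2 : F) ≠ 0) :
    (QuotientGroup.mk (sa s r u h hu) : Matrix.ProjectiveSpecialLinearGroup (Fin 2) F) ≠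
      QuotientGroup.mk (sc s r u h hu) := by
  intro heq
  have hu0 : u ≠ 0 := by
    rintro rfl
    simp at hu
  rw [QuotientGroup.eq, mem_center_iff'] at heq
  rcases heq with h1 | h1
  · have h3 : sc s r u h hu = sa s r u h hu := by
      rw [inv_mul_eq_one] at h1; exact h1.symm
    have e00 := congrFun (congrFun (congrArg Subtype.val h3) 0) 0
    have e01 := congrFun (congrFun (congrArg Subtype.val h3) 0) 1
    simp [sa, sc, Ma, Mc] at e00 e01
    have hs : s = 0 := by
      have : 2 * s * u = 0 := by linear_combination -e00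
      rcases mul_eq_zero.mp this with h4 | h4
      · rcases mul_eq_zero.mp h4 with h5 | h5
        · exact absurd h5 h2
        · exact h5
      · exact absurd h4 hu0
    have hr : r = 0 := by
      rcases e01 with e01 | e01
      · have : 2 * r = 0 := by linear_combination -e01
        rcases mul_eq_zero.mp this with h5 | h5
        · exact absurd h5 h2
        · exact h5
      · exact absurd e01 hu0
    rw [hs, hr] at h
    simp at h
  · have h3 : sc s r u h hu = sa s r u h hu * N1 := by
      rw [inv_mul_eq_iff_eq_mul] at h1; exact h1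
    rw [← N1_comm] at h3
    have e01 := congrFun (congrFun (congrArg Subtype.val h3) 0) 1
    rw [N1_mul_val] at e01
    simp [sa, sc, Ma, Mc] at e01
    have : (2 : F) * u = 0 := by linear_combination -e01
    rcases mul_eq_zero.mp this with h5 | h5
    · exact absurd h5 h2
    · exact absurd h5 hu0

end grp


section main
open Cfsg.Agent.Lib.Helper4_SL2Cent Cfsg.Agent.Lib.Helper4_SL2Card

theorem exists_S4 [Fintype F] (h2 : (2 : F) ≠ 0) (t : F) (ht : t * t = 2) :
    ∃ H : Subgroup (Matrix.ProjectiveSpecialLinearGroup (Fin 2) F),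
      Nonempty (H ≃* Equiv.Perm (Fin 4)) := by
  have hp := CharP.char_is_prime F (ringChar F)
  have : NeZero (ringChar F) := ⟨hp.ne_zero⟩
  obtain ⟨a, b, hab⟩ := CharP.sq_add_sq F (ringChar F) (-1)
  have h : (a : F) ^ 2 + (b : F) ^ 2 = -1 := by simpa using hab
  have ht0 : t ≠ 0 := by
    rintro rfl
    simp at ht
    exact h2 ht.symm
  have hu : 2 * (t⁻¹) ^ 2 = 1 := by
    rw [← ht]; field_simp
  set A : Matrix.ProjectiveSpecialLinearGroup (Fin 2) F := QuotientGroup.mk (sa (a : F) b t⁻¹ h hu) with hA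
  set B : Matrix.ProjectiveSpecialLinearGroup (Fin 2) F := QuotientGroup.mk (sb (a : F) b t⁻¹ h hu) with hB
  set C : Matrix.ProjectiveSpecialLinearGroup (Fin 2) F := QuotientGroup.mk (sc (a : F) b t⁻¹ h hu) with hC
  obtain ⟨φ, -, -, -, hinj⟩ := Cfsg.Agent.Helper8S4Pres.exists_hom A B C
    (by rw [hA, ← QuotientGroup.mk_mul, sa_sq, mk_N1])
    (by rw [hB, ← QuotientGroup.mk_mul, sb_sq, mk_N1])
    (by rw [hC, ← QuotientGroup.mk_mul, sc_sq, mk_N1])
    (by rw [hA, hC, ← QuotientGroup.mk_mul, sc_sa, QuotientGroup.mk_mul, mk_N1, one_mul,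
      QuotientGroup.mk_mul])
    (by rw [hA, hB, ← QuotientGroup.mk_mul, ← QuotientGroup.mk_mul, sbab, QuotientGroup.mk_mul,
      mk_N1, one_mul, QuotientGroup.mk_mul, QuotientGroup.mk_mul])
    (by rw [hB, hC, ← QuotientGroup.mk_mul, ← QuotientGroup.mk_mul, scbc, QuotientGroup.mk_mul,
      QuotientGroup.mk_mul])
  have hφ := hinj (mk_sa_ne_sc (a : F) b t⁻¹ h hu h2)
  exact ⟨φ.range, ⟨(MonoidHom.ofInjective hφ).symm⟩⟩

theorem no_order4 [CharP F 2] (X : Matrix.SpecialLinearGroup (Fin 2) F) (h4 : X ^ 4 = 1) :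
    X ^ 2 = 1 := by
  have h20 : (2 : F) = 0 := CharTwo.two_eq_zero
  set M := (X : Matrix (Fin 2) (Fin 2) F) with hM
  have hdet : M 0 0 * M 1 1 - M 0 1 * M 1 0 = 1 := by
    have := X.det_coe
    rwa [Matrix.det_fin_two] at this
  set τ := M 0 0 + M 1 1 with hτ
  have hCH : M * M = τ • M + 1 := by
    ext i j
    fin_cases i <;> fin_cases j <;> simp [Matrix.mul_apply, Fin.sum_univ_two, hτ]
    · linear_combination (-1 : F) * hdet - h20
    · ring
    · ring
    · linear_combination (-1 : F) * hdet - h20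
  have hM4 : M * M * (M * M) = 1 := by
    have := congrArg Subtype.val h4
    rw [Matrix.SpecialLinearGroup.coe_pow] at this
    rw [← hM, Matrix.SpecialLinearGroup.coe_one] at this
    rw [← this]
    simp only [pow_succ, pow_zero, one_mul, Matrix.mul_assoc]
  have h1 : M * M * (M * M) = (τ * τ) • (M * M) + 1 := by
    conv_lhs => rw [hCH]
    have h2M : ∀ Y : Matrix (Fin 2) (Fin 2) F, Y + Y = 0 := by
      intro Y
      ext i j
      simp only [Matrix.add_apply, Matrix.zero_apply]
      exact CharTwo.add_self_eq_zero _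
    simp only [Matrix.add_mul, Matrix.mul_add, Matrix.smul_mul, Matrix.mul_smul, Matrix.one_mul,
      Matrix.mul_one, smul_smul, smul_add]
    have : (τ * τ) • (M * M) + τ • M + (τ • M + 1) = (τ * τ) • (M * M) + (τ • M + τ • M) + 1 := by abel
    rw [this, h2M, add_zero]
  rw [hM4] at h1
  have h3 : (τ * τ) • (M * M) = 0 := by
    have := h1.symm
    rw [add_eq_right] at this
    exact this
  have hτ0 : τ = 0 := by
    rcases smul_eq_zero.mp h3 with h5 | h5
    · exact mul_self_eq_zero.mp h5
    · exfalso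
      rw [h5] at hM4
      simp at hM4
  apply Subtype.ext
  rw [Matrix.SpecialLinearGroup.coe_pow, pow_two, ← hM, hCH, hτ0, zero_smul, zero_add]
  rfl

theorem S0803_main [Fintype F] {q : ℕ} (hF : Fintype.card F = q) :
    (∃ H : Subgroup (Matrix.ProjectiveSpecialLinearGroup (Fin 2) F),
      Nonempty (H ≃* Equiv.Perm (Fin 4))) ↔ q ^ 2 % 16 = 1 := by
  classical
  constructor
  · rintro ⟨H, ⟨e⟩⟩
    by_cases hc : ringChar F = 2
    · exfalso
      have : CharP F 2 := ringChar.of_eq hc
      set σ : Equiv.Perm (Fin 4) := Equiv.swap 0 1 * Equiv.swap 1 2 * Equiv.swap 2 3 with hσ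
      have hσ4 : σ ^ 4 = 1 := by decide
      have hσ2 : σ ^ 2 ≠ 1 := by decide
      set X := (slEquivPsl (F := F)).symm ((e.symm σ : H) : Matrix.ProjectiveSpecialLinearGroup (Fin 2) F) with hX
      have hX4 : X ^ 4 = 1 := by
        rw [hX, ← map_pow, ← Subgroup.coe_pow, ← map_pow, hσ4, map_one, Subgroup.coe_one, map_one]
      have hX2 := no_order4 X hX4
      apply hσ2
      rw [hX, ← map_pow, ← Subgroup.coe_pow, ← map_pow] at hX2
      have h1 := (slEquivPsl (F := F)).symm.injective (hX2.trans (map_one _).symm)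
      have h2 : e.symm (σ ^ 2) = 1 := Subtype.ext h1
      exact e.symm.injective (h2.trans (map_one _).symm)
    · have h2 : (2 : F) ≠ 0 := Ring.two_ne_zero hc
      have hodd := FiniteField.odd_card_of_char_ne_two hc
      rw [hF] at hodd
      have hcard : Nat.card (Matrix.ProjectiveSpecialLinearGroup (Fin 2) F) * 2 = q * (q ^ 2 - 1) := by
        have h1 := Subgroup.card_eq_card_quotient_mul_card_subgroup
          (Subgroup.center (Matrix.SpecialLinearGroup (Fin 2) F))
        rw [card_center_SL2 h2, card_SL2, hF] at h1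
        exact h1.symm
      have h24 : 24 ∣ Nat.card (Matrix.ProjectiveSpecialLinearGroup (Fin 2) F) := by
        have : Nat.card H = 24 := by
          rw [Nat.card_congr e.toEquiv, Nat.card_eq_fintype_card, Fintype.card_perm]
          rfl
        rw [← this]
        exact Subgroup.card_subgroup_dvd_card H
      obtain ⟨k, hk⟩ := h24
      rw [hk] at hcard
      have hq1 : 1 ≤ q ^ 2 := Nat.one_le_pow _ _ (by omega)
      have h3 : q ^ 3 = 16 * (3 * k) + q := by
        have : q ^ 3 = q * (q ^ 2 - 1) + q := by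
          have : q ^ 2 = (q ^ 2 - 1) + 1 := by omega
          calc q ^ 3 = q * q ^ 2 := by ring
            _ = q * ((q ^ 2 - 1) + 1) := by rw [← this]
            _ = q * (q ^ 2 - 1) + q := by ring
        rw [this, ← hcard]; ring
      have h4 : q ^ 3 % 16 = q % 16 := by
        rw [h3]; omega
      rw [Nat.pow_mod] at h4 ⊢
      have hm : q % 16 < 16 := Nat.mod_lt _ (by norm_num)
      have hm2 : q % 16 % 2 = 1 := by omega
      generalize q % 16 = m at h4 hm hm2
      interval_cases m <;> simp_all
  · intro hq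
    have hq8 : q % 8 = 1 ∨ q % 8 = 7 := by
      rw [Nat.pow_mod] at hq
      have hm : q % 16 < 16 := Nat.mod_lt _ (by norm_num)
      have : q % 8 = q % 16 % 8 := by omega
      rw [this]
      generalize q % 16 = m at hq hm
      interval_cases m <;> simp_all
    have hc : ringChar F ≠ 2 := by
      intro hc
      have := FiniteField.even_card_of_char_two hc
      rw [hF] at this
      omega
    have h2 : (2 : F) ≠ 0 := Ring.two_ne_zero hc
    obtain ⟨t, ht⟩ := (FiniteField.isSquare_two_iff (F := F)).mpr (by rw [hF]; omega)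
    exact exists_S4 h2 t ht.symm

end main

end Cfsg.Agent.Lib.Helper4_PSL2S4
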