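-- helper4: the centralizer of an involution in PSL_3(q), q odd
import Mathlib
import Cfsg.Agent.Lib.Helper4_SL2Odd

set_option autoImplicit false
set_option linter.unusedSectionVars false
set_option linter.unusedVariables false
set_option linter.unusedSimpArgs false
set_option linter.unreachableTactic false
set_option linter.unusedTactic false

namespace Cfsg.Agent.Lib.Helper4_PSL3Inv
open Matrix

variable {F : Type*} [Field F]

/-- the diagonal involution -/
def D3 : Matrix (Fin 3) (Fin 3) F := !![-1, 0, 0; 0, -1, 0; 0, 0, 1]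

theorem adj_add_one (B : Matrix (Fin 3) (Fin 3) F) :
    (B + 1).adjugate = B.adjugate - B + (1 + B.trace) • (1 : Matrix (Fin 3) (Fin 3) F) := by
  rw [Matrix.adjugate_fin_three, Matrix.adjugate_fin_three, Matrix.trace_fin_three]
  ext i j
  fin_cases i <;> fin_cases j <;> simp <;> ring

/-- case where the last diagonal entry of `B + 1` is nonzero -/
theorem diag_case2 (B : Matrix (Fin 3) (Fin 3) F) (hBB : B * B = 1)
    (hadj : (B + 1).adjugate = 0) (h22 : (B + 1) 2 2 ≠ 0) (h2 : (2 : F) ≠ 0) :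
    ∃ P : Matrix (Fin 3) (Fin 3) F, P.det ≠ 0 ∧ B * P = P * D3 := by
  have hadj' := hadj
  rw [Matrix.adjugate_fin_three] at hadj'
  have a00 := congrFun (congrFun hadj' 0) 0
  have a01 := congrFun (congrFun hadj' 0) 1
  have a10 := congrFun (congrFun hadj' 1) 0
  have a11 := congrFun (congrFun hadj' 1) 1
  simp at a00 a01 a10 a11
  have b02 := congrFun (congrFun hBB 0) 2
  have b12 := congrFun (congrFun hBB 1) 2
  have b22 := congrFun (congrFun hBB 2) 2
  simp [Matrix.mul_apply, Fin.sum_univ_three] at b02 b12 b22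
  simp at h22
  refine ⟨!![B 2 2 + 1, 0, B 0 2; 0, B 2 2 + 1, B 1 2; -(B 2 0), -(B 2 1), B 2 2 + 1], ?_, ?_⟩
  · rw [Matrix.det_fin_three]
    simp
    have : (B 2 2 + 1) * (B 2 2 + 1) * (B 2 2 + 1) + B 0 2 * (B 2 2 + 1) * B 2 0
        + (B 2 2 + 1) * B 1 2 * B 2 1 = 2 * (B 2 2 + 1) ^ 2 := by
      linear_combination (B 2 2 + 1) * b22
    intro hc
    have h3 : 2 * (B 2 2 + 1) ^ 2 = 0 := by
      rw [← this]; linear_combination hc
    have := mul_eq_zero.mp h3
    rcases this with h | h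
    · exact h2 h
    · exact h22 (pow_eq_zero_iff (two_ne_zero) |>.mp h)
  · ext i j
    fin_cases i <;> fin_cases j <;> simp [D3, Matrix.mul_apply, Fin.sum_univ_three]
    · linear_combination a11
    · linear_combination -a01
    · linear_combination b02
    · linear_combination -a10
    · linear_combination a00
    · linear_combination b12
    · ring
    · ring
    · linear_combination b22

theorem invol_facts (B : Matrix (Fin 3) (Fin 3) F) (hBB : B * B = 1) (hdet : B.det = 1)
    (hB1 : B ≠ 1) (h2 : (2 : F) ≠ 0) : (B + 1).adjugate = 0 ∧ B.trace = -1 := by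
  have hadjB : B.adjugate = B := by
    have h1 := Matrix.mul_adjugate B
    rw [hdet, one_smul] at h1
    calc B.adjugate = (B * B) * B.adjugate := by rw [hBB, Matrix.one_mul]
      _ = B * (B * B.adjugate) := by rw [Matrix.mul_assoc]
      _ = B := by rw [h1, Matrix.mul_one]
  have hM : (B + 1) * (B - 1) = 0 := by
    rw [Matrix.add_mul, Matrix.mul_sub, Matrix.mul_sub, hBB]
    simp
  have hdetM : (B + 1).det = 0 := by
    by_contra hne
    apply hB1
    have h1 : (B + 1).adjugate * ((B + 1) * (B - 1)) = 0 := by rw [hM, Matrix.mul_zero]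
    rw [← Matrix.mul_assoc, Matrix.adjugate_mul, Matrix.smul_mul, Matrix.one_mul] at h1
    have := (smul_eq_zero.mp h1).resolve_left hne
    exact sub_eq_zero.mp this
  have hadj := adj_add_one B
  rw [hadjB, sub_self, zero_add] at hadj
  have h3 : (1 + B.trace) • (B + 1) = 0 := by
    have h1 := Matrix.mul_adjugate (B + 1)
    rw [hadj, hdetM, zero_smul, Matrix.mul_smul, Matrix.mul_one] at h1
    exact h1
  have hMne : B + 1 ≠ 0 := by
    intro h
    have hB : B = -1 := eq_neg_of_add_eq_zero_left h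
    rw [hB] at hdet
    have : ((-1 : Matrix (Fin 3) (Fin 3) F)).det = -1 := by
      rw [Matrix.det_neg, Matrix.det_one, Fintype.card_fin]; norm_num
    rw [this] at hdet
    apply h2
    linear_combination -hdet
  have htr : 1 + B.trace = 0 := (smul_eq_zero.mp h3).resolve_right hMne
  refine ⟨?_, by linear_combination htr⟩
  rw [hadj, htr, zero_smul]

theorem exists_diag (B : Matrix (Fin 3) (Fin 3) F) (hBB : B * B = 1) (hdet : B.det = 1)
    (hB1 : B ≠ 1) (h2 : (2 : F) ≠ 0) :
    ∃ P : Matrix (Fin 3) (Fin 3) F, P.det ≠ 0 ∧ B * P = P * D3 := by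
  obtain ⟨hadj, htr⟩ := invol_facts B hBB hdet hB1 h2
  have hj : ∃ j : Fin 3, (B + 1) j j ≠ 0 := by
    by_contra hcon
    push Not at hcon
    have h0 := hcon 0
    have h1 := hcon 1
    have h2' := hcon 2
    rw [Matrix.trace_fin_three] at htr
    simp at h0 h1 h2'
    apply h2
    linear_combination h0 + h1 + h2' - htr
  obtain ⟨j, hj⟩ := hj
  set σ : Equiv.Perm (Fin 3) := Equiv.swap 2 j with hσ
  set B' := B.submatrix σ σ with hB'
  have hBB' : B' * B' = 1 := by
    rw [hB', Matrix.submatrix_mul_equiv, hBB, Matrix.submatrix_one_equiv]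
  have hB'1 : B' + 1 = (B + 1).submatrix σ σ := by
    ext a b
    simp only [hB', Matrix.add_apply, Matrix.submatrix_apply, Matrix.one_apply,
      EmbeddingLike.apply_eq_iff_eq]
  have hadj' : (B' + 1).adjugate = 0 := by
    rw [hB'1, Matrix.adjugate_submatrix_equiv_self, hadj]
    rfl
  have h22 : (B' + 1) 2 2 ≠ 0 := by
    rw [hB'1, Matrix.submatrix_apply]
    have : σ 2 = j := Equiv.swap_apply_left 2 j
    rw [this]
    exact hj
  obtain ⟨P', hdetP', hP'⟩ := diag_case2 B' hBB' hadj' h22 h2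
  refine ⟨P'.submatrix σ.symm id, ?_, ?_⟩
  · have : (P'.submatrix σ.symm id).det = ((Equiv.Perm.sign σ.symm : ℤ) : F) * P'.det := by
      have h1 := Matrix.det_permute' σ.symm P'.transpose
      have h3 : (P'.transpose.submatrix id σ.symm) = (P'.submatrix σ.symm id).transpose := by
        ext a b; rfl
      rw [h3, Matrix.det_transpose, Matrix.det_transpose] at h1
      rw [h1]
    rw [this]
    apply mul_ne_zero _ hdetP'
    have hs := Int.units_eq_one_or (Equiv.Perm.sign σ.symm)
    rcases hs with h | h <;> simp [h]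
  · have hBa : ∀ a k, B a k = B' (σ.symm a) (σ.symm k) := by
      intro a k; simp [hB']
    ext a b
    have := congrFun (congrFun hP' (σ.symm a)) b
    simp only [Matrix.mul_apply, Matrix.submatrix_apply, id] at this ⊢
    rw [← this]
    simp only [hBa]
    exact Equiv.sum_comp σ.symm (fun k => B' (σ.symm a) k * P' k b)

theorem D3_det : (D3 : Matrix (Fin 3) (Fin 3) F).det = 1 := by
  rw [Matrix.det_fin_three]; simp [D3]

def Dsl : Matrix.SpecialLinearGroup (Fin 3) F := ⟨D3, D3_det⟩

theorem exists_conj (B : Matrix.SpecialLinearGroup (Fin 3) F) (hBB : B * B = 1) (hB1 : B ≠ 1)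
    (h2 : (2 : F) ≠ 0) : ∃ P : Matrix.SpecialLinearGroup (Fin 3) F, B = P * Dsl * P⁻¹ := by
  have hBB' : (B : Matrix (Fin 3) (Fin 3) F) * B = 1 := by
    have := congrArg (fun g : Matrix.SpecialLinearGroup (Fin 3) F => (g : Matrix (Fin 3) (Fin 3) F)) hBB
    simpa using this
  have hB1' : (B : Matrix (Fin 3) (Fin 3) F) ≠ 1 := by
    intro h
    apply hB1
    apply Subtype.ext
    simpa using h
  obtain ⟨P₀, hdet, hP₀⟩ := exists_diag (B : Matrix (Fin 3) (Fin 3) F) hBB' B.det_coe hB1' h2
  set δ : F := (P₀.det)⁻¹ with hδ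
  set S : Matrix (Fin 3) (Fin 3) F := !![1, 0, 0; 0, 1, 0; 0, 0, δ] with hS
  have hSdet : S.det = δ := by
    rw [Matrix.det_fin_three]; simp [hS]
  have hSD : S * D3 = D3 * S := by
    ext i j
    fin_cases i <;> fin_cases j <;> simp [hS, D3, Matrix.mul_apply, Fin.sum_univ_three]
  have hP₁det : (P₀ * S).det = 1 := by
    rw [Matrix.det_mul, hSdet, hδ, mul_inv_cancel₀ hdet]
  let P : Matrix.SpecialLinearGroup (Fin 3) F := ⟨P₀ * S, hP₁det⟩
  refine ⟨P, ?_⟩
  have : B * P = P * Dsl := by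
    apply Subtype.ext
    simp only [Matrix.SpecialLinearGroup.coe_mul]
    show (B : Matrix (Fin 3) (Fin 3) F) * (P₀ * S) = P₀ * S * D3
    rw [← Matrix.mul_assoc, hP₀, Matrix.mul_assoc, Matrix.mul_assoc, hSD]
  rw [← this]; group

theorem GL_det_ne_zero (M : GL (Fin 2) F) : (M : Matrix (Fin 2) (Fin 2) F).det ≠ 0 :=
  (Matrix.GeneralLinearGroup.det M).ne_zero

/-- block matrix -/
def blk (M : Matrix (Fin 2) (Fin 2) F) : Matrix (Fin 3) (Fin 3) F :=
  !![M 0 0, M 0 1, 0; M 1 0, M 1 1, 0; 0, 0, M.det⁻¹]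

theorem blk_det (M : Matrix (Fin 2) (Fin 2) F) (hM : M.det ≠ 0) : (blk M).det = 1 := by
  rw [Matrix.det_fin_three]
  have h3 : M.det * M.det⁻¹ = 1 := mul_inv_cancel₀ hM
  simp [blk]
  rw [Matrix.det_fin_two] at h3 ⊢
  linear_combination h3

theorem blk_one : blk (1 : Matrix (Fin 2) (Fin 2) F) = 1 := by
  ext i j
  fin_cases i <;> fin_cases j <;> simp [blk]

theorem blk_mul (M N : Matrix (Fin 2) (Fin 2) F) : blk (M * N) = blk M * blk N := by
  ext i j
  fin_cases i <;> fin_cases j <;>
    simp [blk, Matrix.mul_apply, Fin.sum_univ_three, Fin.sum_univ_two, mul_comm]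

/-- the block embedding of `GL₂` into `SL₃` -/
def phi0fun (M : GL (Fin 2) F) : Matrix.SpecialLinearGroup (Fin 3) F :=
  ⟨blk (M : Matrix (Fin 2) (Fin 2) F), blk_det _ (GL_det_ne_zero M)⟩

def phi0 : GL (Fin 2) F →* Matrix.SpecialLinearGroup (Fin 3) F where
  toFun := phi0fun
  map_one' := by
    apply Subtype.ext
    show blk ((1 : GL (Fin 2) F) : Matrix (Fin 2) (Fin 2) F) = 1
    rw [Units.val_one, blk_one]
  map_mul' M N := by
    apply Subtype.ext
    rw [Matrix.SpecialLinearGroup.coe_mul]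
    show blk ((M * N : GL (Fin 2) F) : Matrix (Fin 2) (Fin 2) F) = blk _ * blk _
    rw [Units.val_mul, blk_mul]

theorem phi0_val (M : GL (Fin 2) F) : ((phi0 M : Matrix.SpecialLinearGroup (Fin 3) F) : Matrix (Fin 3) (Fin 3) F) =
    blk (M : Matrix (Fin 2) (Fin 2) F) := rfl

theorem phi0_comm (M : GL (Fin 2) F) : phi0 M * Dsl = Dsl * phi0 M := by
  apply Subtype.ext
  simp only [Matrix.SpecialLinearGroup.coe_mul]
  rw [phi0_val]
  show _ * D3 = D3 * _
  ext i j
  fin_cases i <;> fin_cases j <;> simp [blk, D3, Matrix.mul_apply, Fin.sum_univ_three]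

theorem exists_of_comm (h2 : (2 : F) ≠ 0) (X : Matrix.SpecialLinearGroup (Fin 3) F)
    (hX : X * Dsl = Dsl * X) : ∃ M : GL (Fin 2) F, phi0 M = X := by
  have hX' : (X : Matrix (Fin 3) (Fin 3) F) * D3 = D3 * (X : Matrix (Fin 3) (Fin 3) F) := by
    have := congrArg (fun g : Matrix.SpecialLinearGroup (Fin 3) F => (g : Matrix (Fin 3) (Fin 3) F)) hX
    simp only [Matrix.SpecialLinearGroup.coe_mul] at this
    exact this
  have e02 := congrFun (congrFun hX' 0) 2
  have e12 := congrFun (congrFun hX' 1) 2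
  have e20 := congrFun (congrFun hX' 2) 0
  have e21 := congrFun (congrFun hX' 2) 1
  simp [D3, Matrix.mul_apply, Fin.sum_univ_three] at e02 e12 e20 e21
  have z02 : (X : Matrix (Fin 3) (Fin 3) F) 0 2 = 0 := by
    have : (2 : F) * (X : Matrix (Fin 3) (Fin 3) F) 0 2 = 0 := by linear_combination e02
    exact (mul_eq_zero.mp this).resolve_left h2
  have z12 : (X : Matrix (Fin 3) (Fin 3) F) 1 2 = 0 := by
    have : (2 : F) * (X : Matrix (Fin 3) (Fin 3) F) 1 2 = 0 := by linear_combination e12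
    exact (mul_eq_zero.mp this).resolve_left h2
  have z20 : (X : Matrix (Fin 3) (Fin 3) F) 2 0 = 0 := by
    have : (2 : F) * (X : Matrix (Fin 3) (Fin 3) F) 2 0 = 0 := by linear_combination -e20
    exact (mul_eq_zero.mp this).resolve_left h2
  have z21 : (X : Matrix (Fin 3) (Fin 3) F) 2 1 = 0 := by
    have : (2 : F) * (X : Matrix (Fin 3) (Fin 3) F) 2 1 = 0 := by linear_combination -e21
    exact (mul_eq_zero.mp this).resolve_left h2
  have hdet := X.det_coe
  rw [Matrix.det_fin_three, z02, z12, z20, z21] at hdet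
  set M₀ : Matrix (Fin 2) (Fin 2) F := !![(X : Matrix (Fin 3) (Fin 3) F) 0 0, (X : Matrix (Fin 3) (Fin 3) F) 0 1;
    (X : Matrix (Fin 3) (Fin 3) F) 1 0, (X : Matrix (Fin 3) (Fin 3) F) 1 1] with hM₀
  have hdetM : M₀.det * (X : Matrix (Fin 3) (Fin 3) F) 2 2 = 1 := by
    rw [Matrix.det_fin_two]
    simp [hM₀]
    linear_combination hdet
  have hdetM0 : M₀.det ≠ 0 := by
    intro h
    rw [h, zero_mul] at hdetM
    exact zero_ne_one hdetM
  refine ⟨Matrix.GeneralLinearGroup.mkOfDetNeZero M₀ hdetM0, ?_⟩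
  apply Subtype.ext
  rw [phi0_val]
  have hv : ((Matrix.GeneralLinearGroup.mkOfDetNeZero M₀ hdetM0 : GL (Fin 2) F) : Matrix (Fin 2) (Fin 2) F) = M₀ := rfl
  rw [hv]
  have hinv : M₀.det⁻¹ = (X : Matrix (Fin 3) (Fin 3) F) 2 2 :=
    inv_eq_of_mul_eq_one_right hdetM
  ext i j
  fin_cases i <;> fin_cases j <;> simp [blk, hinv, z02, z12, z20, z21] <;> simp [hM₀]

theorem center_pow_three (c : Matrix.SpecialLinearGroup (Fin 3) F)
    (hc : c ∈ Subgroup.center (Matrix.SpecialLinearGroup (Fin 3) F)) : c * c * c = 1 := by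
  rw [Matrix.SpecialLinearGroup.mem_center_iff] at hc
  obtain ⟨r, hr, hrc⟩ := hc
  rw [Fintype.card_fin] at hr
  apply Subtype.ext
  simp only [Matrix.SpecialLinearGroup.coe_mul, Matrix.SpecialLinearGroup.coe_one]
  rw [← hrc, ← map_mul, ← map_mul, ← pow_two, ← pow_succ, hr, map_one]

/-- scalar matrices in GL₂ -/
def sc : Fˣ →* GL (Fin 2) F := Units.map (Matrix.scalar (Fin 2)).toMonoidHom

theorem sc_val (r : Fˣ) : ((sc r : GL (Fin 2) F) : Matrix (Fin 2) (Fin 2) F) = Matrix.scalar (Fin 2) (r : F) := rfl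

theorem sc_injective : Function.Injective (sc : Fˣ →* GL (Fin 2) F) := by
  intro a b hab
  have := congrArg (fun g : GL (Fin 2) F => (g : Matrix (Fin 2) (Fin 2) F) 0 0) hab
  simp [sc_val] at this
  exact Units.ext this

theorem sc_mem_center (r : Fˣ) : sc r ∈ Subgroup.center (GL (Fin 2) F) := by
  rw [Subgroup.mem_center_iff]
  intro g
  apply Units.ext
  rw [Units.val_mul, Units.val_mul, sc_val]
  exact ((Matrix.scalar_commute (r : F) (fun r' => Commute.all _ _)) (g : Matrix (Fin 2) (Fin 2) F)).symm.eq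

theorem phi0_mem_center_iff (M : GL (Fin 2) F) :
    phi0 M ∈ Subgroup.center (Matrix.SpecialLinearGroup (Fin 3) F) ↔
      ∃ r : Fˣ, r ^ 3 = 1 ∧ sc r = M := by
  rw [Matrix.SpecialLinearGroup.mem_center_iff]
  constructor
  · rintro ⟨r, hr, hrM⟩
    rw [Fintype.card_fin] at hr
    rw [phi0_val] at hrM
    have hr0 : r ≠ 0 := by
      rintro rfl
      simp at hr
    have e00 := congrFun (congrFun hrM 0) 0
    have e01 := congrFun (congrFun hrM 0) 1
    have e10 := congrFun (congrFun hrM 1) 0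
    have e11 := congrFun (congrFun hrM 1) 1
    simp [blk] at e00 e01 e10 e11
    refine ⟨Units.mk0 r hr0, Units.ext (by simpa using hr), ?_⟩
    apply Units.ext
    rw [sc_val]
    ext i j
    fin_cases i <;> fin_cases j <;> simp <;>
      first
        | exact e00
        | exact e01
        | exact e10
        | exact e11
        | exact e00.symm
        | exact e01.symm
        | exact e10.symm
        | exact e11.symm
  · rintro ⟨r, hr, rfl⟩
    have hr' : (r : F) ^ 3 = 1 := by
      have := congrArg Units.val hr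
      simpa using this
    refine ⟨(r : F), by rw [Fintype.card_fin]; exact hr', ?_⟩
    rw [phi0_val, sc_val]
    have hr0 : (r : F) ≠ 0 := r.ne_zero
    have hdet : (r : F) = ((r : F) ^ 2)⁻¹ := by
      apply eq_inv_of_mul_eq_one_left
      rw [← hr']; ring
    ext i j
    fin_cases i <;> fin_cases j <;> simp [blk]
    exact hdet

/-- the map to PSL₃ -/
noncomputable def psi (P : Matrix.SpecialLinearGroup (Fin 3) F) :
    GL (Fin 2) F →* Matrix.ProjectiveSpecialLinearGroup (Fin 3) F :=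
  (QuotientGroup.mk' (Subgroup.center (Matrix.SpecialLinearGroup (Fin 3) F))).comp
    (((MulAut.conj P : Matrix.SpecialLinearGroup (Fin 3) F ≃* Matrix.SpecialLinearGroup (Fin 3) F) :
      Matrix.SpecialLinearGroup (Fin 3) F →* Matrix.SpecialLinearGroup (Fin 3) F).comp phi0)

theorem psi_apply (P : Matrix.SpecialLinearGroup (Fin 3) F) (M : GL (Fin 2) F) :
    psi P M = (QuotientGroup.mk (P * phi0 M * P⁻¹) : Matrix.ProjectiveSpecialLinearGroup (Fin 3) F) := rfl

theorem psi_ker (P : Matrix.SpecialLinearGroup (Fin 3) F) :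
    (psi P).ker = (powMonoidHom 3 : Fˣ →* Fˣ).ker.map sc := by
  ext M
  rw [MonoidHom.mem_ker, psi_apply, QuotientGroup.eq_one_iff, Subgroup.mem_map]
  have hconj : P * phi0 M * P⁻¹ ∈ Subgroup.center (Matrix.SpecialLinearGroup (Fin 3) F) ↔
      phi0 M ∈ Subgroup.center (Matrix.SpecialLinearGroup (Fin 3) F) := by
    constructor
    · intro h
      have h1 := Subgroup.mem_center_iff.mp h
      have : phi0 M = P * phi0 M * P⁻¹ := by
        have := h1 P
        calc phi0 M = P⁻¹ * ((P * phi0 M * P⁻¹) * P) := by group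
          _ = P⁻¹ * (P * (P * phi0 M * P⁻¹)) := by rw [this]
          _ = P * phi0 M * P⁻¹ := by group
      rw [this]; exact h
    · intro h
      have h1 := Subgroup.mem_center_iff.mp h
      have : P * phi0 M * P⁻¹ = phi0 M := by
        rw [h1 P]; group
      rw [this]; exact h
  rw [hconj, phi0_mem_center_iff]
  constructor
  · rintro ⟨r, hr, hrM⟩
    exact ⟨r, MonoidHom.mem_ker.mpr hr, hrM⟩
  · rintro ⟨r, hr, hrM⟩
    exact ⟨r, MonoidHom.mem_ker.mp hr, hrM⟩

theorem psi_range (h2 : (2 : F) ≠ 0) (P B : Matrix.SpecialLinearGroup (Fin 3) F)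
    (hBB : B * B = 1) (hB : B = P * Dsl * P⁻¹) :
    (psi P).range = Subgroup.centralizer
      ({(QuotientGroup.mk B : Matrix.ProjectiveSpecialLinearGroup (Fin 3) F)} :
        Set (Matrix.ProjectiveSpecialLinearGroup (Fin 3) F)) := by
  ext y
  rw [MonoidHom.mem_range, Subgroup.mem_centralizer_iff]
  constructor
  · rintro ⟨M, rfl⟩ h hh
    rw [Set.mem_singleton_iff] at hh
    rw [hh, psi_apply, ← QuotientGroup.mk_mul, ← QuotientGroup.mk_mul]
    congr 1
    rw [hB]
    have := phi0_comm M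
    calc P * Dsl * P⁻¹ * (P * phi0 M * P⁻¹) = P * (Dsl * phi0 M) * P⁻¹ := by group
      _ = P * (phi0 M * Dsl) * P⁻¹ := by rw [this]
      _ = P * phi0 M * P⁻¹ * (P * Dsl * P⁻¹) := by group
  · intro hy
    obtain ⟨X, rfl⟩ := QuotientGroup.mk_surjective y
    have h1 := hy _ (Set.mem_singleton _)
    rw [← QuotientGroup.mk_mul, ← QuotientGroup.mk_mul, QuotientGroup.eq] at h1
    set c := (B * X)⁻¹ * (X * B) with hc
    have hcc := Subgroup.mem_center_iff.mp h1
    have hXB : X * B = B * X * c := by rw [hc]; group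
    -- c * c = 1
    have hc2 : c * c = 1 := by
      have e1 : X * B * X⁻¹ = B * c := by
        rw [hXB, mul_assoc, mul_assoc, ← hcc X⁻¹]; group
      have e2 : (X * B * X⁻¹) * (X * B * X⁻¹) = 1 := by
        calc (X * B * X⁻¹) * (X * B * X⁻¹) = X * (B * B) * X⁻¹ := by group
          _ = 1 := by rw [hBB]; group
      rw [e1] at e2
      have e3 : B * c * (B * c) = (B * B) * (c * c) := by
        rw [mul_assoc, ← mul_assoc c B c, ← hcc B]; group
      rw [e3, hBB, one_mul] at e2
      exact e2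
    have hc3 := center_pow_three c h1
    rw [hc2, one_mul] at hc3
    rw [hc3, mul_one] at hXB
    -- X commutes with B
    have hcomm : (P⁻¹ * X * P) * Dsl = Dsl * (P⁻¹ * X * P) := by
      have e : Dsl = P⁻¹ * B * P := by rw [hB]; group
      rw [e]
      calc P⁻¹ * X * P * (P⁻¹ * B * P) = P⁻¹ * (X * B) * P := by group
        _ = P⁻¹ * (B * X) * P := by rw [hXB]
        _ = P⁻¹ * B * P * (P⁻¹ * X * P) := by group
    obtain ⟨M, hM⟩ := exists_of_comm h2 _ hcomm
    refine ⟨M, ?_⟩
    rw [psi_apply, hM]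
    congr 1
    group

theorem S1219_main [Fintype F] (hF : Odd (Fintype.card F))
    (t : Matrix.ProjectiveSpecialLinearGroup (Fin 3) F) (ht : orderOf t = 2) :
    ∃ (Z : Subgroup (GL (Fin 2) F)) (_ : Z.Normal), Z ≤ Subgroup.center (GL (Fin 2) F) ∧
      Nat.card Z = Nat.gcd (Fintype.card F - 1) 3 ∧
      Nonempty (↥(Subgroup.centralizer ({t} : Set (Matrix.ProjectiveSpecialLinearGroup (Fin 3) F))) ≃*
        GL (Fin 2) F ⧸ Z) := by
  have h2 : (2 : F) ≠ 0 := Cfsg.Agent.Lib.Helper4_SL2Odd.two_ne_zero' hF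
  obtain ⟨A, rfl⟩ := QuotientGroup.mk_surjective t
  have ht2 : (QuotientGroup.mk A : Matrix.ProjectiveSpecialLinearGroup (Fin 3) F) ^ 2 = 1 := by
    rw [← ht]; exact pow_orderOf_eq_one _
  have ht1 : (QuotientGroup.mk A : Matrix.ProjectiveSpecialLinearGroup (Fin 3) F) ≠ 1 := by
    intro h
    rw [h, orderOf_one] at ht
    omega
  have hAA : A * A ∈ Subgroup.center (Matrix.SpecialLinearGroup (Fin 3) F) := by
    rw [← QuotientGroup.eq_one_iff, QuotientGroup.mk_mul, ← pow_two]
    exact ht2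
  set c := A * A with hc
  have hcc := Subgroup.mem_center_iff.mp hAA
  set B := c * A with hB
  have hmkB : (QuotientGroup.mk B : Matrix.ProjectiveSpecialLinearGroup (Fin 3) F) = QuotientGroup.mk A := by
    rw [hB, QuotientGroup.mk_mul, (QuotientGroup.eq_one_iff c).mpr hAA, one_mul]
  have hBB : B * B = 1 := by
    have := center_pow_three c hAA
    calc B * B = c * (A * c) * A := by rw [hB]; group
      _ = c * (c * A) * A := by rw [hcc A]
      _ = c * c * (A * A) := by group
      _ = 1 := this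
  have hB1 : B ≠ 1 := by
    intro h
    apply ht1
    rw [← hmkB, h]
    rfl
  obtain ⟨P, hP⟩ := exists_conj B hBB hB1 h2
  refine ⟨(psi P).ker, MonoidHom.normal_ker _, ?_, ?_, ?_⟩
  · rw [psi_ker]
    rintro _ ⟨r, _, rfl⟩
    exact sc_mem_center r
  · rw [psi_ker, Subgroup.card_map_of_injective sc_injective, IsCyclic.card_powMonoidHom_ker,
      Nat.card_units, Nat.card_eq_fintype_card]
  · have hr := psi_range h2 P B hBB hP
    rw [hmkB] at hr
    exact ⟨(MulEquiv.subgroupCongr hr.symm).trans (QuotientGroup.quotientKerEquivRange (psi P)).symm⟩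

end Cfsg.Agent.Lib.Helper4_PSL3Inv
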