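import Mathlib
import Cfsg.Agent.Lib.Helper4_AltOrders

namespace Cfsg.Agent.Lib.Helper4_Partitions

/-- non-increasing lists with entries in `[2, k]` and sum at most `n` (fuel-bounded). -/
def partsList : ℕ → ℕ → ℕ → List (List ℕ)
  | 0, _, _ => [[]]
  | fuel + 1, n, k =>
    [] :: ((List.range (k + 1)).filter (fun a => 2 ≤ a ∧ a ≤ n)).flatMap
      (fun a => (partsList fuel (n - a) a).map (fun l => a :: l))

theorem nil_mem_partsList (fuel n k : ℕ) : [] ∈ partsList fuel n k := by
  cases fuel with
  | zero => simp [partsList]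
  | succ f => simp [partsList]

theorem mem_partsList (fuel : ℕ) : ∀ (n k : ℕ) (l : List ℕ), n ≤ fuel → l.Pairwise (· ≥ ·) →
    (∀ a ∈ l, 2 ≤ a ∧ a ≤ k) → l.sum ≤ n → l ∈ partsList fuel n k := by
  induction fuel with
  | zero =>
    intro n k l hn hs hl hsum
    cases l with
    | nil => exact nil_mem_partsList _ _ _
    | cons a l' =>
      exfalso
      have := (hl a (List.mem_cons_self)).1
      rw [List.sum_cons] at hsum
      omega
  | succ f ih =>
    intro n k l hn hs hl hsum
    cases l with
    | nil => exact nil_mem_partsList _ _ _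
    | cons a l' =>
      have ha := hl a (List.mem_cons_self)
      rw [List.sum_cons] at hsum
      rw [List.pairwise_cons] at hs
      have hl' : l' ∈ partsList f (n - a) a := by
        apply ih (n - a) a l' (by omega) hs.2
        · intro b hb
          exact ⟨(hl b (List.mem_cons_of_mem a hb)).1, hs.1 b hb⟩
        · omega
      unfold partsList
      apply List.mem_cons_of_mem
      rw [List.mem_flatMap]
      refine ⟨a, ?_, List.mem_map.mpr ⟨l', hl', rfl⟩⟩
      rw [List.mem_filter, List.mem_range]
      refine ⟨by omega, ?_⟩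
      simp only [decide_eq_true_eq]
      exact ⟨ha.1, by omega⟩

theorem exists_list_of_multiset (n : ℕ) (m : Multiset ℕ) (h2 : ∀ a ∈ m, 2 ≤ a) (hsum : m.sum ≤ n) :
    ∃ l ∈ partsList n n n, (l : Multiset ℕ) = m := by
  refine ⟨m.sort (· ≥ ·), ?_, Multiset.sort_eq _ _⟩
  apply mem_partsList n n n _ le_rfl
  · exact Multiset.pairwise_sort _ _
  · intro a ha
    rw [Multiset.mem_sort] at ha
    refine ⟨h2 a ha, ?_⟩
    exact (Multiset.single_le_sum (fun _ _ => Nat.zero_le _) a ha).trans hsum
  · have : ((m.sort (· ≥ ·) : List ℕ) : Multiset ℕ).sum = m.sum := by rw [Multiset.sort_eq]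
    rw [Multiset.sum_coe] at this
    rw [this]; exact hsum

theorem a10_check : ∀ l ∈ partsList 10 10 10, (l.sum + l.length) % 2 = 0 →
    l.foldr Nat.lcm 1 ∈ [1, 2, 3, 4, 5, 6, 7, 8, 9, 10, 12, 15, 21] := by
  decide

theorem lcm_coe (l : List ℕ) : (l : Multiset ℕ).lcm = l.foldr Nat.lcm 1 := by
  unfold Multiset.lcm
  rw [Multiset.coe_fold_r]
  rfl

theorem a10_orders : Set.range (orderOf : alternatingGroup (Fin 10) → ℕ) =
    {1, 2, 3, 4, 5, 6, 7, 8, 9, 10, 12, 15, 21} := by
  ext k
  rw [Cfsg.Agent.Lib.Helper4_AltOrders.mem_range_orderOf_alt_iff]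
  constructor
  · rintro ⟨m, hsum, h2, hlcm, heven⟩
    obtain ⟨l, hl, rfl⟩ := exists_list_of_multiset 10 m h2 hsum
    rw [lcm_coe] at hlcm
    have hpar : (l.sum + l.length) % 2 = 0 := by
      rw [Multiset.sum_coe, Multiset.coe_card] at heven
      exact Nat.even_iff.mp heven
    have := a10_check l hl hpar
    rw [hlcm] at this
    simp only [List.mem_cons, List.mem_nil_iff, or_false] at this
    simpa using this
  · intro hk
    simp only [Set.mem_insert_iff, Set.mem_singleton_iff] at hk
    rcases hk with rfl | rfl | rfl | rfl | rfl | rfl | rfl | rfl | rfl | rfl | rfl | rfl | rfl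
    · exact ⟨(([] : List ℕ) : Multiset ℕ), by decide, by decide, by decide, by decide⟩
    · exact ⟨(([2, 2] : List ℕ) : Multiset ℕ), by decide, by decide, by decide, by decide⟩
    · exact ⟨(([3] : List ℕ) : Multiset ℕ), by decide, by decide, by decide, by decide⟩
    · exact ⟨(([4, 2] : List ℕ) : Multiset ℕ), by decide, by decide, by decide, by decide⟩
    · exact ⟨(([5] : List ℕ) : Multiset ℕ), by decide, by decide, by decide, by decide⟩
    · exact ⟨(([3, 2, 2] : List ℕ) : Multiset ℕ), by decide, by decide, by decide, by decide⟩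
    · exact ⟨(([7] : List ℕ) : Multiset ℕ), by decide, by decide, by decide, by decide⟩
    · exact ⟨(([8, 2] : List ℕ) : Multiset ℕ), by decide, by decide, by decide, by decide⟩
    · exact ⟨(([9] : List ℕ) : Multiset ℕ), by decide, by decide, by decide, by decide⟩
    · exact ⟨(([5, 2, 2] : List ℕ) : Multiset ℕ), by decide, by decide, by decide, by decide⟩
    · exact ⟨(([4, 3, 2] : List ℕ) : Multiset ℕ), by decide, by decide, by decide, by decide⟩
    · exact ⟨(([5, 3] : List ℕ) : Multiset ℕ), by decide, by decide, by decide, by decide⟩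
    · exact ⟨(([7, 3] : List ℕ) : Multiset ℕ), by decide, by decide, by decide, by decide⟩


end Cfsg.Agent.Lib.Helper4_Partitions
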