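import Mathlib

namespace Cfsg.Agent.Lib.Helper4_PowMul
open scoped commutatorElement

variable {R : Type*} [Group R]

/-- sum of squares -/
def gS (n : ℕ) : ℕ := ∑ k ∈ Finset.range n, k ^ 2

theorem gS_succ (n : ℕ) : gS (n+1) = gS n + n * n := by
  unfold gS
  rw [Finset.sum_range_succ, sq]

theorem gS_formula (n : ℕ) : 6 * gS (n+1) = n * (n+1) * (2*n+1) := by
  induction n with
  | zero => simp [gS]
  | succ n ih =>
    rw [gS_succ, mul_add, ih]
    ring

theorem dvd_gS {p : ℕ} (hp : p.Prime) (h3 : 3 < p) : p ∣ gS p := by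
  obtain ⟨n, rfl⟩ : ∃ n, p = n + 1 := ⟨p - 1, by omega⟩
  have h1 : (n+1) ∣ 6 * gS (n+1) := by
    rw [gS_formula]
    exact ⟨n * (2*n+1), by ring⟩
  have hc : Nat.Coprime (n+1) 6 := by
    rw [Nat.Prime.coprime_iff_not_dvd hp]
    intro h
    have := Nat.le_of_dvd (by norm_num) h
    have h6 : (6 : ℕ) = 2 * 3 := by norm_num
    rw [h6, Nat.Prime.dvd_mul hp] at h
    rcases h with h | h
    · have := Nat.le_of_dvd (by norm_num) h; omega
    · have := Nat.le_of_dvd (by norm_num) h; omega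
  exact hc.dvd_of_dvd_mul_left h1

variable (x y : R)

/-- the commutator `d` -/
def dd : R := y⁻¹ * x⁻¹ * y * x
/-- `e` -/
def ee : R := (dd x y)⁻¹ * x⁻¹ * dd x y * x
/-- `f` -/
def ff : R := (dd x y)⁻¹ * y⁻¹ * dd x y * y

theorem conj3 (x u v w : R) :
    x⁻¹ * (u * v * w) * x = (x⁻¹ * u * x) * (x⁻¹ * v * x) * (x⁻¹ * w * x) := by group

theorem conj_pow2 (x u : R) (k : ℕ) : x⁻¹ * u ^ k * x = (x⁻¹ * u * x) ^ k := by
  have := conj_pow (a := x⁻¹) (b := u) (i := k)
  rw [inv_inv] at this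
  exact this.symm

theorem conj_central (x z : R) (hz : Commute z x) : x⁻¹ * z * x = z := by
  rw [mul_assoc, hz.eq, ← mul_assoc, inv_mul_cancel, one_mul]

variable {x y}

theorem F1 (he : ∀ r, Commute (ee x y) r) (k : ℕ) :
    x⁻¹ ^ k * y * x ^ k = y * dd x y ^ k * ee x y ^ (k.choose 2) := by
  induction k with
  | zero => simp
  | succ k ih =>
    have h1 : x⁻¹ ^ (k+1) * y * x ^ (k+1) = x⁻¹ * (x⁻¹ ^ k * y * x ^ k) * x := by
      rw [pow_succ', pow_succ]; simp only [mul_assoc]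
    rw [h1, ih, conj3, conj_pow2, conj_pow2]
    have h2 : x⁻¹ * y * x = y * dd x y := by unfold dd; group
    have h3 : x⁻¹ * dd x y * x = dd x y * ee x y := by unfold ee; group
    have h4 : x⁻¹ * ee x y * x = ee x y := conj_central x _ (he x)
    rw [h2, h3, h4, ((he (dd x y)).symm.mul_pow k)]
    have h5 : (k+1).choose 2 = k + k.choose 2 := by
      rw [Nat.choose_succ_succ, Nat.choose_one_right]
    rw [h5]
    calc y * dd x y * (dd x y ^ k * ee x y ^ k) * ee x y ^ k.choose 2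
        = y * (dd x y * dd x y ^ k) * (ee x y ^ k * ee x y ^ k.choose 2) := by
          simp only [mul_assoc]
      _ = y * dd x y ^ (k + 1) * ee x y ^ (k + k.choose 2) := by rw [← pow_succ', ← pow_add]

theorem E2 (he : ∀ r, Commute (ee x y) r) (k : ℕ) :
    x⁻¹ ^ k * dd x y * x ^ k = dd x y * ee x y ^ k := by
  induction k with
  | zero => simp
  | succ k ih =>
    have h1 : x⁻¹ ^ (k+1) * dd x y * x ^ (k+1) = x⁻¹ * (x⁻¹ ^ k * dd x y * x ^ k) * x := by
      rw [pow_succ', pow_succ]; simp only [mul_assoc]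
    rw [h1, ih]
    have h3 : x⁻¹ * dd x y * x = dd x y * ee x y := by unfold ee; group
    have h4 : x⁻¹ * ee x y ^ k * x = ee x y ^ k := conj_central x _ ((he x).pow_left k)
    calc x⁻¹ * (dd x y * ee x y ^ k) * x = (x⁻¹ * dd x y * x) * (x⁻¹ * ee x y ^ k * x) := by group
      _ = dd x y * ee x y * ee x y ^ k := by rw [h3, h4]
      _ = dd x y * ee x y ^ (k+1) := by rw [pow_succ', mul_assoc]

theorem F4a (hf : ∀ r, Commute (ff x y) r) (a : ℕ) :
    dd x y ^ a * y = y * dd x y ^ a * ff x y ^ a := by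
  induction a with
  | zero => simp
  | succ a ih =>
    have h0 : dd x y * y = y * dd x y * ff x y := by unfold ff; group
    calc dd x y ^ (a+1) * y = dd x y * (dd x y ^ a * y) := by rw [pow_succ', mul_assoc]
      _ = dd x y * (y * dd x y ^ a * ff x y ^ a) := by rw [ih]
      _ = (dd x y * y) * dd x y ^ a * ff x y ^ a := by simp only [mul_assoc]
      _ = y * dd x y * (ff x y * dd x y ^ a) * ff x y ^ a := by rw [h0]; simp only [mul_assoc]
      _ = y * dd x y * (dd x y ^ a * ff x y) * ff x y ^ a := by rw [(hf _).eq]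
      _ = y * (dd x y * dd x y ^ a) * (ff x y * ff x y ^ a) := by simp only [mul_assoc]
      _ = y * dd x y ^ (a+1) * ff x y ^ (a+1) := by rw [← pow_succ', ← pow_succ']

theorem F4 (hf : ∀ r, Commute (ff x y) r) (a b : ℕ) :
    dd x y ^ a * y ^ b = y ^ b * dd x y ^ a * ff x y ^ (a * b) := by
  induction b with
  | zero => simp
  | succ b ih =>
    calc dd x y ^ a * y ^ (b+1) = (dd x y ^ a * y ^ b) * y := by rw [pow_succ, mul_assoc]
      _ = y ^ b * dd x y ^ a * (ff x y ^ (a*b) * y) := by rw [ih]; simp only [mul_assoc]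
      _ = y ^ b * dd x y ^ a * (y * ff x y ^ (a*b)) := by rw [((hf y).pow_left _).eq]
      _ = y ^ b * (dd x y ^ a * y) * ff x y ^ (a*b) := by simp only [mul_assoc]
      _ = y ^ b * (y * dd x y ^ a * ff x y ^ a) * ff x y ^ (a*b) := by rw [F4a hf]
      _ = (y ^ b * y) * dd x y ^ a * (ff x y ^ a * ff x y ^ (a*b)) := by simp only [mul_assoc]
      _ = y ^ (b+1) * dd x y ^ a * ff x y ^ (a * (b+1)) := by
        rw [← pow_succ, ← pow_add]; congr 2; ring

theorem rearr (y d e f : R) (he : ∀ r, Commute e r) (hf : ∀ r, Commute f r) (n a b c t : ℕ)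
    (hdy : d ^ n * y ^ n = y ^ n * d ^ n * f ^ (n*n)) :
    (y * d ^ n * e ^ a) * (y ^ n * d ^ b * f ^ c * e ^ t) =
      y ^ (n+1) * d ^ (n+b) * f ^ (n*n+c) * e ^ (a+t) := by
  have h1 : e ^ a * (y ^ n * d ^ b * f ^ c * e ^ t) = (y ^ n * d ^ b * f ^ c * e ^ t) * e ^ a :=
    ((he _).pow_left a).eq
  have h2 : f ^ (n*n) * d ^ b = d ^ b * f ^ (n*n) := ((hf _).pow_left _).eq
  calc (y * d ^ n * e ^ a) * (y ^ n * d ^ b * f ^ c * e ^ t)
      = y * d ^ n * (e ^ a * (y ^ n * d ^ b * f ^ c * e ^ t)) := by simp only [mul_assoc]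
    _ = y * d ^ n * ((y ^ n * d ^ b * f ^ c * e ^ t) * e ^ a) := by rw [h1]
    _ = y * (d ^ n * y ^ n) * d ^ b * f ^ c * (e ^ t * e ^ a) := by simp only [mul_assoc]
    _ = y * (y ^ n * d ^ n * f ^ (n*n)) * d ^ b * f ^ c * (e ^ t * e ^ a) := by rw [hdy]
    _ = y * y ^ n * d ^ n * (f ^ (n*n) * d ^ b) * f ^ c * (e ^ t * e ^ a) := by
      simp only [mul_assoc]
    _ = y * y ^ n * d ^ n * (d ^ b * f ^ (n*n)) * f ^ c * (e ^ t * e ^ a) := by rw [h2]
    _ = (y * y ^ n) * (d ^ n * d ^ b) * (f ^ (n*n) * f ^ c) * (e ^ t * e ^ a) := by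
      simp only [mul_assoc]
    _ = y ^ (n+1) * d ^ (n+b) * f ^ (n*n+c) * e ^ (a+t) := by
      rw [← pow_succ', ← pow_add, ← pow_add, ← pow_add, add_comm t a]

theorem collect (he : ∀ r, Commute (ee x y) r) (hf : ∀ r, Commute (ff x y) r) (n : ℕ) :
    (x * y) ^ n = x ^ n * (y ^ n * dd x y ^ (n.choose 2) * ff x y ^ (gS n) * ee x y ^ (n.choose 3)) := by
  induction n with
  | zero => simp [gS]
  | succ n ih =>
    have h1 : (x * y) ^ (n+1) = x ^ (n+1) * ((x⁻¹ ^ n * y * x ^ n) *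
        (y ^ n * dd x y ^ (n.choose 2) * ff x y ^ (gS n) * ee x y ^ (n.choose 3))) := by
      rw [pow_succ', ih]
      generalize (y ^ n * dd x y ^ (n.choose 2) * ff x y ^ (gS n) * ee x y ^ (n.choose 3)) = Q
      rw [pow_succ', inv_pow]
      generalize x ^ n = X
      group
    rw [h1, F1 he, rearr y _ _ _ he hf n _ _ _ _ (F4 hf n n), gS_succ]
    have e1 : (n+1).choose 2 = n + n.choose 2 := by
      rw [Nat.choose_succ_succ, Nat.choose_one_right]
    have e2 : (n+1).choose 3 = n.choose 2 + n.choose 3 := Nat.choose_succ_succ n 2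
    rw [e1, e2, add_comm (gS n)]


theorem exps {p : ℕ} (hp2 : p ∣ p.choose 2) (he : ∀ r, Commute (ee x y) r)
    (hf : ∀ r, Commute (ff x y) r) (hx : x ^ p = 1) :
    dd x y ^ p = 1 ∧ ee x y ^ p = 1 ∧ ff x y ^ p = 1 := by
  have hxi : x⁻¹ ^ p = 1 := by rw [inv_pow, hx, inv_one]
  have h1 := E2 he p
  rw [hxi, hx, one_mul, mul_one] at h1
  have he1 : ee x y ^ p = 1 := left_eq_mul.1 h1
  have h2 := F1 he p
  rw [hxi, hx, one_mul, mul_one] at h2
  obtain ⟨m, hm⟩ := hp2
  have he2 : ee x y ^ (p.choose 2) = 1 := by rw [hm, pow_mul, he1, one_pow]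
  rw [he2, mul_one] at h2
  have hd : dd x y ^ p = 1 := left_eq_mul.1 h2
  have h3 := F4a hf p
  rw [hd, one_mul, mul_one] at h3
  exact ⟨hd, he1, left_eq_mul.1 h3⟩

theorem main {p : ℕ} [Fact p.Prime]
    (hcl : (p ≠ 2 ∧ ⁅commutator R, (⊤ : Subgroup R)⁆ = ⊥) ∨
      (3 < p ∧ ⁅⁅commutator R, (⊤ : Subgroup R)⁆, (⊤ : Subgroup R)⁆ = ⊥))
    (hder : commutator R ≤ Subgroup.closure {x : R | x ^ p = 1}) (x y : R) :
    (x * y) ^ p = x ^ p * y ^ p := by
  have hp : p.Prime := Fact.out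
  have h2p : 2 < p := by
    rcases hcl with ⟨h, _⟩ | ⟨h, _⟩
    · have := hp.two_le; omega
    · omega
  have hZ3 : ⁅⁅commutator R, (⊤ : Subgroup R)⁆, (⊤ : Subgroup R)⁆ = ⊥ := by
    rcases hcl with ⟨_, h⟩ | ⟨_, h⟩
    · rw [h]; exact Subgroup.commutator_bot_left _
    · exact h
  have hcen : ∀ z ∈ ⁅commutator R, (⊤ : Subgroup R)⁆, ∀ r, Commute z r := by
    intro z hz r
    rw [← commutatorElement_eq_one_iff_commute]
    have := Subgroup.commutator_mem_commutator hz (Subgroup.mem_top r)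
    rw [hZ3] at this
    exact this
  have hd_mem : ∀ x y : R, dd x y ∈ commutator R := by
    intro x y
    have : dd x y = ⁅y⁻¹, x⁻¹⁆ := by unfold dd; simp [commutatorElement_def]
    rw [this, commutator_def]
    exact Subgroup.commutator_mem_commutator (Subgroup.mem_top _) (Subgroup.mem_top _)
  have he_mem : ∀ x y : R, ee x y ∈ ⁅commutator R, (⊤ : Subgroup R)⁆ := by
    intro x y
    have : ee x y = ⁅(dd x y)⁻¹, x⁻¹⁆ := by unfold ee; simp [commutatorElement_def]
    rw [this]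
    exact Subgroup.commutator_mem_commutator (inv_mem (hd_mem x y)) (Subgroup.mem_top _)
  have hf_mem : ∀ x y : R, ff x y ∈ ⁅commutator R, (⊤ : Subgroup R)⁆ := by
    intro x y
    have : ff x y = ⁅(dd x y)⁻¹, y⁻¹⁆ := by unfold ff; simp [commutatorElement_def]
    rw [this]
    exact Subgroup.commutator_mem_commutator (inv_mem (hd_mem x y)) (Subgroup.mem_top _)
  have hp2 : p ∣ p.choose 2 := hp.dvd_choose_self (by norm_num) h2p
  have fin : ∀ x y : R, dd x y ^ p = 1 → ee x y ^ p = 1 → ff x y ^ p = 1 →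
      (x * y) ^ p = x ^ p * y ^ p := by
    intro x y hd he hf
    rw [collect (fun r => hcen _ (he_mem x y) r) (fun r => hcen _ (hf_mem x y) r) p]
    obtain ⟨m, hm⟩ := hp2
    have h1 : dd x y ^ (p.choose 2) = 1 := by rw [hm, pow_mul, hd, one_pow]
    have h2 : ff x y ^ (gS p) = 1 ∧ ee x y ^ (p.choose 3) = 1 := by
      rcases hcl with ⟨_, h⟩ | ⟨h3, _⟩
      · have hf1 : ff x y = 1 := by
          have := hf_mem x y; rw [h] at this; exact this
        have he1 : ee x y = 1 := by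
          have := he_mem x y; rw [h] at this; exact this
        rw [hf1, he1]; simp
      · obtain ⟨a, ha⟩ := dvd_gS hp h3
        obtain ⟨b, hb⟩ : p ∣ p.choose 3 := hp.dvd_choose_self (by norm_num) h3
        rw [ha, hb, pow_mul, pow_mul, hf, he]; simp
    rw [h1, h2.1, h2.2]; simp
  have key : ∀ a b : R, a ^ p = 1 → b ^ p = 1 → (a * b) ^ p = 1 := by
    intro a b ha hb
    obtain ⟨h1, h2, h3⟩ := exps hp2 (fun r => hcen _ (he_mem a b) r)
      (fun r => hcen _ (hf_mem a b) r) ha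
    rw [fin a b h1 h2 h3, ha, hb, one_mul]
  have hΩ : ∀ z ∈ Subgroup.closure {x : R | x ^ p = 1}, z ^ p = 1 := by
    intro z hz
    induction hz using Subgroup.closure_induction with
    | mem z hz => exact hz
    | one => exact one_pow p
    | mul a b _ _ ha hb => exact key a b ha hb
    | inv a _ ha => rw [inv_pow, ha, inv_one]
  have hR' : ∀ z ∈ commutator R, z ^ p = 1 := fun z hz => hΩ z (hder hz)
  have hZ3le : ⁅commutator R, (⊤ : Subgroup R)⁆ ≤ commutator R := Subgroup.commutator_le_left _ _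
  exact fin x y (hR' _ (hd_mem x y)) (hR' _ (hZ3le (he_mem x y))) (hR' _ (hZ3le (hf_mem x y)))

end Cfsg.Agent.Lib.Helper4_PowMul
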