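import Mathlib
import Cfsg.Agent.Lib.Helper4_PowMul

namespace Cfsg.Agent.Lib.Helper4_PowMul2
open scoped commutatorElement
open Cfsg.Agent.Lib.Helper4_PowMul

variable {R : Type*} [Group R]

theorem omega_exp {p : ℕ} [Fact p.Prime] (h3 : 3 < p)
    (hZ3 : ⁅⁅commutator R, (⊤ : Subgroup R)⁆, (⊤ : Subgroup R)⁆ = ⊥)
    (g : R) (hg : g ∈ Subgroup.closure {x : R | x ^ p = 1}) : g ^ p = 1 := by
  have hp : p.Prime := Fact.out
  have hcen : ∀ z ∈ ⁅commutator R, (⊤ : Subgroup R)⁆, ∀ r, Commute z r := by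
    intro z hz r
    rw [← commutatorElement_eq_one_iff_commute]
    have := Subgroup.commutator_mem_commutator hz (Subgroup.mem_top r)
    rw [hZ3] at this
    exact this
  have hd_mem : ∀ x y : R, dd x y ∈ commutator R := by
    intro x y
    have : dd x y = ⁅y⁻¹, x⁻¹⁆ := by unfold dd; simp [commutatorElement_def]
    rw [this, commutator_def]
    exact Subgroup.commutator_mem_commutator (Subgroup.mem_top _) (Subgroup.mem_top _)
  have he_mem : ∀ x y : R, ee x y ∈ ⁅commutator R, (⊤ : Subgroup R)⁆ := by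
    intro x y
    have : ee x y = ⁅(dd x y)⁻¹, x⁻¹⁆ := by unfold ee; simp [commutatorElement_def]
    rw [this]
    exact Subgroup.commutator_mem_commutator (inv_mem (hd_mem x y)) (Subgroup.mem_top _)
  have hf_mem : ∀ x y : R, ff x y ∈ ⁅commutator R, (⊤ : Subgroup R)⁆ := by
    intro x y
    have : ff x y = ⁅(dd x y)⁻¹, y⁻¹⁆ := by unfold ff; simp [commutatorElement_def]
    rw [this]
    exact Subgroup.commutator_mem_commutator (inv_mem (hd_mem x y)) (Subgroup.mem_top _)
  have hp2 : p ∣ p.choose 2 := hp.dvd_choose_self (by norm_num) (by omega)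
  have key : ∀ a b : R, a ^ p = 1 → b ^ p = 1 → (a * b) ^ p = 1 := by
    intro a b ha hb
    obtain ⟨hd, he, hf⟩ := exps hp2 (fun r => hcen _ (he_mem a b) r)
      (fun r => hcen _ (hf_mem a b) r) ha
    rw [collect (fun r => hcen _ (he_mem a b) r) (fun r => hcen _ (hf_mem a b) r) p]
    obtain ⟨m, hm⟩ := hp2
    obtain ⟨a', ha'⟩ := dvd_gS hp h3
    obtain ⟨b', hb'⟩ : p ∣ p.choose 3 := hp.dvd_choose_self (by norm_num) h3
    rw [hm, ha', hb', pow_mul, pow_mul, pow_mul, hd, he, hf, ha, hb]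
    simp
  induction hg using Subgroup.closure_induction with
  | mem z hz => exact hz
  | one => exact one_pow p
  | mul a b _ _ ha hb => exact key a b ha hb
  | inv a _ ha => rw [inv_pow, ha, inv_one]

end Cfsg.Agent.Lib.Helper4_PowMul2
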