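import Mathlib
import Cfsg.Agent.Lib.Helper4_PSL2Orders

set_option linter.all false
set_option linter.unusedVariables false
set_option linter.unusedTactic false
set_option linter.unreachableTactic false
set_option linter.style.longLine false

namespace Cfsg.Agent.Lib.Helper4_PrimeGraphSL2
open Matrix Cfsg.Agent.Lib.Helper4_SL2Odd Cfsg.Agent.Lib.Helper4_PSL2Orders

abbrev W (K : Type) (k : ℕ) := Fin k → Fin 2 → K

variable {K : Type} [Field K] {k : ℕ}

/-- the action of a matrix on tuples of vectors -/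
def act (k : ℕ) (g : Matrix.SpecialLinearGroup (Fin 2) K) : MulAut (Multiplicative (W K k)) where
  toFun w := Multiplicative.ofAdd (fun i => (g : Matrix (Fin 2) (Fin 2) K) *ᵥ (Multiplicative.toAdd w i))
  invFun w := Multiplicative.ofAdd (fun i => ((g⁻¹ : Matrix.SpecialLinearGroup (Fin 2) K) : Matrix (Fin 2) (Fin 2) K) *ᵥ (Multiplicative.toAdd w i))
  left_inv w := by
    apply Multiplicative.toAdd.injective
    funext i
    simp only [toAdd_ofAdd]
    rw [Matrix.mulVec_mulVec, ← Matrix.SpecialLinearGroup.coe_mul, inv_mul_cancel,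
      Matrix.SpecialLinearGroup.coe_one, Matrix.one_mulVec]
  right_inv w := by
    apply Multiplicative.toAdd.injective
    funext i
    simp only [toAdd_ofAdd]
    rw [Matrix.mulVec_mulVec, ← Matrix.SpecialLinearGroup.coe_mul, mul_inv_cancel,
      Matrix.SpecialLinearGroup.coe_one, Matrix.one_mulVec]
  map_mul' w₁ w₂ := by
    apply Multiplicative.toAdd.injective
    funext i
    simp only [toAdd_ofAdd, toAdd_mul, Pi.add_apply]
    rw [Matrix.mulVec_add]

theorem act_apply (g : Matrix.SpecialLinearGroup (Fin 2) K) (w : Multiplicative (W K k)) (i : Fin k) :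
    Multiplicative.toAdd (act k g w) i = (g : Matrix (Fin 2) (Fin 2) K) *ᵥ (Multiplicative.toAdd w i) := rfl

def phi (K : Type) [Field K] (k : ℕ) :
    Matrix.SpecialLinearGroup (Fin 2) K →* MulAut (Multiplicative (W K k)) where
  toFun := act k
  map_one' := by
    apply MulEquiv.ext
    intro w
    apply Multiplicative.toAdd.injective
    funext i
    rw [act_apply, Matrix.SpecialLinearGroup.coe_one, Matrix.one_mulVec]
    rfl
  map_mul' g h := by
    apply MulEquiv.ext
    intro w
    apply Multiplicative.toAdd.injective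
    funext i
    rw [MulAut.mul_apply, act_apply, act_apply, act_apply, Matrix.SpecialLinearGroup.coe_mul,
      Matrix.mulVec_mulVec]

theorem phi_apply (g : Matrix.SpecialLinearGroup (Fin 2) K) (w : Multiplicative (W K k)) (i : Fin k) :
    Multiplicative.toAdd (phi K k g w) i = (g : Matrix (Fin 2) (Fin 2) K) *ᵥ (Multiplicative.toAdd w i) := rfl

abbrev HH (K : Type) [Field K] (k : ℕ) := Multiplicative (W K k) ⋊[phi K k] Matrix.SpecialLinearGroup (Fin 2) K

theorem sq_of_right_one [CharP K 2] (x : HH K k) (hx : x.right = 1) : x * x = 1 := by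
  apply SemidirectProduct.ext
  · rw [SemidirectProduct.mul_left, hx, map_one, SemidirectProduct.one_left, MulAut.one_apply]
    apply Multiplicative.toAdd.injective
    funext i j
    simp only [toAdd_mul, toAdd_one, Pi.add_apply, Pi.zero_apply]
    exact CharTwo.add_self_eq_zero _
  · rw [SemidirectProduct.mul_right, hx, SemidirectProduct.one_right, mul_one]

theorem fix_of_comm (x : HH K k) (u : Multiplicative (W K k))
    (h : x * SemidirectProduct.inl u = SemidirectProduct.inl u * x) : phi K k x.right u = u := by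
  have h1 := congrArg SemidirectProduct.left h
  rw [SemidirectProduct.mul_left, SemidirectProduct.mul_left, SemidirectProduct.left_inl,
    SemidirectProduct.right_inl, map_one, MulAut.one_apply, mul_comm u] at h1
  exact mul_left_cancel h1

theorem sq_of_fix [CharP K 2] (g : Matrix.SpecialLinearGroup (Fin 2) K) (u : Multiplicative (W K k))
    (hu : u ≠ 1) (h : phi K k g u = u) : g * g = 1 := by
  have h2 : (2 : K) = 0 := CharTwo.two_eq_zero
  -- find a nonzero fixed vector
  have : ∃ i, Multiplicative.toAdd u i ≠ 0 := by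
    by_contra hcon
    push Not at hcon
    apply hu
    apply Multiplicative.toAdd.injective
    funext i
    rw [hcon i]; rfl
  obtain ⟨i, hi⟩ := this
  have hfix : (g : Matrix (Fin 2) (Fin 2) K) *ᵥ (Multiplicative.toAdd u i) = Multiplicative.toAdd u i := by
    rw [← phi_apply, h]
  have hdet : ((g : Matrix (Fin 2) (Fin 2) K) - 1).det = 0 := by
    rw [← Matrix.exists_mulVec_eq_zero_iff]
    refine ⟨_, hi, ?_⟩
    rw [Matrix.sub_mulVec, hfix, Matrix.one_mulVec, sub_self]
  have hg := g.2
  rw [Matrix.det_fin_two] at hg hdet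
  simp only [Matrix.sub_apply, Matrix.one_apply_eq, Matrix.one_apply_ne, ne_eq, Fin.isValue,
    zero_ne_one, one_ne_zero, not_false_eq_true, sub_zero] at hdet
  have htr : (g : Matrix (Fin 2) (Fin 2) K) 0 0 + (g : Matrix (Fin 2) (Fin 2) K) 1 1 = 0 := by
    linear_combination -hdet + hg + h2
  apply Subtype.ext
  rw [Matrix.SpecialLinearGroup.coe_mul, Matrix.SpecialLinearGroup.coe_one]
  ext a b
  fin_cases a <;> fin_cases b <;>
    simp only [Matrix.mul_apply, Fin.sum_univ_two, Fin.zero_eta, Fin.mk_one, Fin.isValue,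
      Matrix.one_apply_eq, Matrix.one_apply_ne, ne_eq, zero_ne_one, one_ne_zero, not_false_eq_true]
  · linear_combination (g : Matrix (Fin 2) (Fin 2) K) 0 0 * htr - hg - h2
  · linear_combination (g : Matrix (Fin 2) (Fin 2) K) 0 1 * htr
  · linear_combination (g : Matrix (Fin 2) (Fin 2) K) 1 0 * htr
  · linear_combination (g : Matrix (Fin 2) (Fin 2) K) 1 1 * htr - hg - h2

theorem card_HH [Fintype K] : Nat.card (HH K k) =
    (Fintype.card K ^ 2) ^ k * Nat.card (Matrix.SpecialLinearGroup (Fin 2) K) := by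
  rw [SemidirectProduct.card, Nat.card_congr (Multiplicative.toAdd (α := W K k)), Nat.card_fun,
    Nat.card_fun, Nat.card_eq_fintype_card, Nat.card_eq_fintype_card, Nat.card_eq_fintype_card,
    Fintype.card_fin, Fintype.card_fin]

theorem exists_order_two [CharP K 2] : ∃ g : Matrix.SpecialLinearGroup (Fin 2) K, orderOf g = 2 := by
  refine ⟨V (1 : K) 1 (one_mul 1), ?_⟩
  haveI : Fact (Nat.Prime 2) := ⟨Nat.prime_two⟩
  apply orderOf_eq_prime
  · rw [V_pow]
    apply Subtype.ext
    ext i j; fin_cases i <;> fin_cases j <;> simp [V, CharTwo.two_eq_zero]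
  · intro h
    have := congrArg (fun x : Matrix.SpecialLinearGroup (Fin 2) K => (x : Matrix (Fin 2) (Fin 2) K) 0 1) h
    simp [V] at this

theorem right_pow (x : HH K k) (n : ℕ) : (x ^ n).right = x.right ^ n := by
  have := map_pow (SemidirectProduct.rightHom (φ := phi K k)) x n
  simpa using this

theorem core (K : Type) [Field K] [Fintype K] [CharP K 2] (N : ℕ) :
    ∃ (H : Type) (_ : Group H) (_ : Finite H), N < Nat.card H ∧
      (∀ p : ℕ, p.Prime → (p ∣ Nat.card H ↔
        p ∈ Set.range (orderOf : Matrix.SpecialLinearGroup (Fin 2) K → ℕ))) ∧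
      (∀ p q : ℕ, p.Prime → q.Prime → p ≠ q → ((∃ g : H, orderOf g = p * q) ↔
        p * q ∈ Set.range (orderOf : Matrix.SpecialLinearGroup (Fin 2) K → ℕ))) := by
  haveI hfin : Finite (HH K N) := Finite.of_equiv _ SemidirectProduct.equivProd.symm
  have hinj : Function.Injective (SemidirectProduct.inr : Matrix.SpecialLinearGroup (Fin 2) K →* HH K N) :=
    SemidirectProduct.inr_injective
  refine ⟨HH K N, inferInstance, hfin, ?_, ?_, ?_⟩
  · rw [card_HH]
    have h1 : 2 ≤ Fintype.card K := Fintype.one_lt_card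
    have h2 : 0 < Nat.card (Matrix.SpecialLinearGroup (Fin 2) K) := Nat.card_pos
    have h3 : N < 2 ^ N := Nat.lt_two_pow_self
    have h4 : 2 ^ N ≤ (Fintype.card K ^ 2) ^ N := by
      apply Nat.pow_le_pow_left
      nlinarith
    nlinarith
  · intro p hp
    constructor
    · intro h
      rw [card_HH] at h
      rcases (Nat.Prime.dvd_mul hp).mp h with h | h
      · have h1 : p ∣ Fintype.card K := hp.dvd_of_dvd_pow (hp.dvd_of_dvd_pow h)
        obtain ⟨n, hn⟩ := FiniteField.card K 2
        rw [hn.2] at h1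
        have h2 : p ∣ 2 := hp.dvd_of_dvd_pow h1
        have h3 : p = 2 := (Nat.prime_dvd_prime_iff_eq hp Nat.prime_two).mp h2
        rw [h3]
        exact exists_order_two
      · haveI : Fact p.Prime := ⟨hp⟩
        obtain ⟨g, hg⟩ := exists_prime_orderOf_dvd_card' p h
        exact ⟨g, hg⟩
    · rintro ⟨g, hg⟩
      rw [← hg, ← orderOf_injective _ hinj g]
      exact orderOf_dvd_natCard _
  · intro p q hp hq hpq
    constructor
    · rintro ⟨x, hx⟩
      set m := p * q with hm
      have hmpos : 0 < m := Nat.mul_pos hp.pos hq.pos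
      set g := x.right with hg
      set d := orderOf g with hd
      have hdpos : 0 < d := orderOf_pos g
      have hdm : d ∣ m := by
        rw [hd, orderOf_dvd_iff_pow_eq_one, hg, ← right_pow, ← hx, pow_orderOf_eq_one]
        rfl
      have hm2d : m ∣ 2 * d := by
        rw [← hx, orderOf_dvd_iff_pow_eq_one, mul_comm, pow_mul, pow_two]
        apply sq_of_right_one
        rw [right_pow, ← hg, hd, pow_orderOf_eq_one]
      obtain ⟨c, hc⟩ := hdm
      have hc2 : c ∣ 2 := by
        rw [hc, mul_comm d c] at hm2d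
        exact Nat.dvd_of_mul_dvd_mul_right hdpos hm2d
      rcases (Nat.dvd_prime Nat.prime_two).mp hc2 with h1 | h2
      · rw [h1, mul_one] at hc
        exact ⟨g, hc.symm ▸ hd.symm⟩
      · exfalso
        rw [h2] at hc
        -- x^d is a nontrivial element of the kernel
        have hxd1 : x ^ d ≠ 1 := by
          intro h
          have := orderOf_dvd_of_pow_eq_one h
          rw [hx] at this
          have := Nat.le_of_dvd hdpos this
          omega
        have hr : (x ^ d).right = 1 := by
          rw [right_pow, ← hg, hd, pow_orderOf_eq_one]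
        obtain ⟨u, hu⟩ : ∃ u, x ^ d = SemidirectProduct.inl u := by
          refine ⟨(x ^ d).left, ?_⟩
          apply SemidirectProduct.ext
          · rw [SemidirectProduct.left_inl]
          · rw [SemidirectProduct.right_inl, hr]
        have hu1 : u ≠ 1 := by
          intro h
          apply hxd1
          rw [hu, h, map_one]
        have hcomm : x * SemidirectProduct.inl u = SemidirectProduct.inl u * x := by
          rw [← hu, ← pow_succ', ← pow_succ]
        have hfix := fix_of_comm x u hcomm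
        have hgg := sq_of_fix x.right u hu1 hfix
        have hd2 : d ∣ 2 := by
          rw [hd, orderOf_dvd_iff_pow_eq_one, pow_two, hg]
          exact hgg
        have hm4 : m ∣ 4 := by
          rw [hc]
          obtain ⟨e, he⟩ := hd2
          exact ⟨e, by rw [mul_right_comm, ← he]; norm_num⟩
        have hp4 : p ∣ 2 ^ 2 := Dvd.dvd.trans (Dvd.intro _ rfl) hm4
        have hq4 : q ∣ 2 ^ 2 := Dvd.dvd.trans (Dvd.intro_left _ rfl) hm4
        have hp2 := (Nat.prime_dvd_prime_iff_eq hp Nat.prime_two).mp (hp.dvd_of_dvd_pow hp4)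
        have hq2 := (Nat.prime_dvd_prime_iff_eq hq Nat.prime_two).mp (hq.dvd_of_dvd_pow hq4)
        exact hpq (hp2.trans hq2.symm)
    · rintro ⟨g, hg⟩
      refine ⟨SemidirectProduct.inr g, ?_⟩
      rw [orderOf_injective _ hinj g, hg]

theorem center_SL2_two {K : Type*} [Field K] [CharP K 2] :
    Subgroup.center (Matrix.SpecialLinearGroup (Fin 2) K) = ⊥ := by
  rw [eq_bot_iff]
  intro A hA
  rw [Matrix.SpecialLinearGroup.mem_center_iff] at hA
  obtain ⟨r, hr, hA⟩ := hA
  rw [Fintype.card_fin] at hr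
  have hr1 : r = 1 := by
    have : (r - 1) ^ 2 = 0 := by
      have h2 : (2 : K) = 0 := CharTwo.two_eq_zero
      linear_combination hr + (1 - r) * h2
    have := pow_eq_zero_iff (two_ne_zero) |>.mp this
    linear_combination this
  rw [Subgroup.mem_bot]
  apply Subtype.ext
  rw [← hA, hr1]
  simp

noncomputable def pslEquiv2 {K : Type*} [Field K] [CharP K 2] :
    Matrix.ProjectiveSpecialLinearGroup (Fin 2) K ≃* Matrix.SpecialLinearGroup (Fin 2) K :=
  (QuotientGroup.quotientMulEquivOfEq center_SL2_two).trans QuotientGroup.quotientBot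

theorem range_SL_eq {K : Type*} [Field K] [CharP K 2] :
    Set.range (orderOf : Matrix.SpecialLinearGroup (Fin 2) K → ℕ) =
      Set.range (orderOf : Matrix.ProjectiveSpecialLinearGroup (Fin 2) K → ℕ) := by
  ext m
  constructor
  · rintro ⟨g, rfl⟩
    exact ⟨pslEquiv2.symm g, MulEquiv.orderOf_eq _ _⟩
  · rintro ⟨g, rfl⟩
    exact ⟨pslEquiv2 g, MulEquiv.orderOf_eq _ _⟩

theorem prime_dvd_card_iff {G : Type*} [Group G] [Finite G] (p : ℕ) (hp : p.Prime) :
    p ∣ Nat.card G ↔ p ∈ Set.range (orderOf : G → ℕ) := by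
  constructor
  · intro h
    haveI : Fact p.Prime := ⟨hp⟩
    obtain ⟨g, hg⟩ := exists_prime_orderOf_dvd_card' p h
    exact ⟨g, hg⟩
  · rintro ⟨g, rfl⟩
    exact orderOf_dvd_natCard g

/-- generic final step -/
theorem final {F : Type*} [Field F] [Fintype F] (K : Type) [Field K] [Fintype K] [CharP K 2]
    (hrange : ∀ p q : ℕ, p.Prime → q.Prime →
      ((p ∈ Set.range (orderOf : Matrix.ProjectiveSpecialLinearGroup (Fin 2) F → ℕ) ↔
        p ∈ Set.range (orderOf : Matrix.SpecialLinearGroup (Fin 2) K → ℕ)) ∧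
      (p ≠ q → (p * q ∈ Set.range (orderOf : Matrix.ProjectiveSpecialLinearGroup (Fin 2) F → ℕ) ↔
        p * q ∈ Set.range (orderOf : Matrix.SpecialLinearGroup (Fin 2) K → ℕ)))))
    (N : ℕ) :
    ∃ (H : Type) (_ : Group H) (_ : Finite H), N < Nat.card H ∧
      ((∀ p : ℕ, p.Prime → (p ∣ Nat.card (Matrix.ProjectiveSpecialLinearGroup (Fin 2) F) ↔ p ∣ Nat.card H)) ∧
      (∀ p q : ℕ, p.Prime → q.Prime → p ≠ q → ((∃ g : (Matrix.ProjectiveSpecialLinearGroup (Fin 2) F), orderOf g = p * q) ↔ (∃ g : H, orderOf g = p * q)))) := by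
  obtain ⟨H, iG, iF, h1, h2, h3⟩ := core K N
  refine ⟨H, iG, iF, h1, ?_, ?_⟩
  · intro p hp
    rw [h2 p hp, prime_dvd_card_iff p hp]
    exact (hrange p p hp hp).1
  · intro p q hp hq hpq
    rw [h3 p q hp hq hpq]
    exact (hrange p q hp hq).2 hpq

theorem S3660_main {F : Type*} [Field F] [Fintype F] [CharP F 2] (hF : 4 ≤ Fintype.card F) (N : ℕ) :
    ∃ (H : Type) (_ : Group H) (_ : Finite H), N < Nat.card H ∧
      ((∀ p : ℕ, p.Prime → (p ∣ Nat.card (Matrix.ProjectiveSpecialLinearGroup (Fin 2) F) ↔ p ∣ Nat.card H)) ∧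
      (∀ p q : ℕ, p.Prime → q.Prime → p ≠ q → ((∃ g : (Matrix.ProjectiveSpecialLinearGroup (Fin 2) F), orderOf g = p * q) ↔ (∃ g : H, orderOf g = p * q)))) := by
  letI : Fintype (Shrink.{0} F) := Fintype.ofEquiv F (equivShrink.{0} F)
  haveI : CharP (Shrink.{0} F) 2 :=
    charP_of_injective_ringHom (f := (Shrink.ringEquiv.{0} F).symm.toRingHom)
      (Shrink.ringEquiv.{0} F).symm.injective 2
  haveI : Fact (Nat.Prime 2) := ⟨Nat.prime_two⟩
  have hcard : Fintype.card (Shrink.{0} F) = Fintype.card F :=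
    Fintype.card_congr (equivShrink.{0} F).symm
  have hrange : Set.range (orderOf : Matrix.ProjectiveSpecialLinearGroup (Fin 2) F → ℕ) =
      Set.range (orderOf : Matrix.SpecialLinearGroup (Fin 2) (Shrink.{0} F) → ℕ) := by
    rw [range_SL_eq, main 2 hF, main 2 (hcard.symm ▸ hF), hcard]
  apply final (Shrink.{0} F)
  intro p q hp hq
  rw [hrange]
  exact ⟨Iff.rfl, fun _ => Iff.rfl⟩

theorem not_mul_dvd_prime_pow (p q r k : ℕ) (hp : p.Prime) (hq : q.Prime) (hr : r.Prime) (hpq : p ≠ q) :
    ¬ p * q ∣ r ^ k := by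
  intro h
  have h1 : p ∣ r ^ k := Dvd.dvd.trans (Dvd.intro _ rfl) h
  have h2 : q ∣ r ^ k := Dvd.dvd.trans (Dvd.intro_left _ rfl) h
  have hp2 := (Nat.prime_dvd_prime_iff_eq hp hr).mp (hp.dvd_of_dvd_pow h1)
  have hq2 := (Nat.prime_dvd_prime_iff_eq hq hr).mp (hq.dvd_of_dvd_pow h2)
  exact hpq (hp2.trans hq2.symm)

theorem charP_seven {F : Type*} [Field F] [Fintype F] (hF : Fintype.card F = 7) : CharP F 7 := by
  obtain ⟨p', hp'⟩ := CharP.exists F
  obtain ⟨n, hn1, hn2⟩ := FiniteField.card F p'
  rw [hF] at hn2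
  have h1 : p' ∣ 7 := by
    rw [hn2]
    exact dvd_pow_self _ n.ne_zero
  have h2 : p' = 7 := (Nat.prime_dvd_prime_iff_eq hn1 (by norm_num)).mp h1
  rw [← h2]
  exact hp'

theorem S3678_main {F : Type*} [Field F] [Fintype F] (hF : Fintype.card F = 7) (N : ℕ) :
    ∃ (H : Type) (_ : Group H) (_ : Finite H), N < Nat.card H ∧
      ((∀ p : ℕ, p.Prime → (p ∣ Nat.card (Matrix.ProjectiveSpecialLinearGroup (Fin 2) F) ↔ p ∣ Nat.card H)) ∧
      (∀ p q : ℕ, p.Prime → q.Prime → p ≠ q → ((∃ g : (Matrix.ProjectiveSpecialLinearGroup (Fin 2) F), orderOf g = p * q) ↔ (∃ g : H, orderOf g = p * q)))) := by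
  haveI : Fact (Nat.Prime 2) := ⟨Nat.prime_two⟩
  haveI : Fact (Nat.Prime 7) := ⟨by norm_num⟩
  haveI : CharP F 7 := charP_seven hF
  letI : Fintype (GaloisField 2 3) := Fintype.ofFinite _
  have hK : Fintype.card (GaloisField 2 3) = 8 := by
    rw [← Nat.card_eq_fintype_card, GaloisField.card 2 3 (by norm_num)]
    norm_num
  have hrF : Set.range (orderOf : Matrix.ProjectiveSpecialLinearGroup (Fin 2) F → ℕ) =
      {m : ℕ | m ∣ 7 ∨ m ∣ 3 ^ 1 ∨ m ∣ 2 ^ 2} := by
    rw [main 7 (by rw [hF]; norm_num), hF]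
    norm_num
  have hrK : Set.range (orderOf : Matrix.SpecialLinearGroup (Fin 2) (GaloisField 2 3) → ℕ) =
      {m : ℕ | m ∣ 2 ∨ m ∣ 7 ∨ m ∣ 3 ^ 2} := by
    rw [range_SL_eq, main 2 (by rw [hK]; norm_num), hK]
    norm_num
  apply final (GaloisField 2 3)
  intro p q hp hq
  rw [hrF, hrK]
  simp only [Set.mem_setOf_eq]
  constructor
  · constructor
    · rintro (h | h | h)
      · right; left; exact h
      · right; right; exact Dvd.dvd.trans h (by norm_num)
      · left; exact hp.dvd_of_dvd_pow h
    · rintro (h | h | h)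
      · right; right; exact Dvd.dvd.trans h (by norm_num)
      · left; exact h
      · right; left; exact Dvd.dvd.trans (hp.dvd_of_dvd_pow h) (by norm_num)
  · intro hpq
    have h7 : ¬ p * q ∣ 7 := by
      have := not_mul_dvd_prime_pow p q 7 1 hp hq (by norm_num) hpq
      simpa using this
    have h2 : ¬ p * q ∣ 2 := by
      have := not_mul_dvd_prime_pow p q 2 1 hp hq (by norm_num) hpq
      simpa using this
    have h31 := not_mul_dvd_prime_pow p q 3 1 hp hq (by norm_num) hpq
    have h32 := not_mul_dvd_prime_pow p q 3 2 hp hq (by norm_num) hpq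
    have h22 := not_mul_dvd_prime_pow p q 2 2 hp hq (by norm_num) hpq
    constructor
    · rintro (h | h | h)
      · exact absurd h h7
      · exact absurd h h31
      · exact absurd h h22
    · rintro (h | h | h)
      · exact absurd h h2
      · exact absurd h h7
      · exact absurd h h32

end Cfsg.Agent.Lib.Helper4_PrimeGraphSL2
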