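import Mathlib

set_option autoImplicit false

namespace Cfsg.Agent.Lib.Helper4_QF0

open MvPolynomial in
/-- Ternary quadratic forms over finite fields are isotropic (Chevalley–Warning). -/
theorem ternary {F : Type*} [Field F] [Finite F] (a b c d e f : F) :
    ∃ x y z : F, ¬ (x = 0 ∧ y = 0 ∧ z = 0) ∧
      a * x ^ 2 + b * y ^ 2 + c * z ^ 2 + d * x * y + e * x * z + f * y * z = 0 := by
  classical
  have : Fintype F := Fintype.ofFinite F
  obtain ⟨p, hp⟩ := CharP.exists F
  have := hp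
  have : Fact p.Prime := ⟨CharP.char_is_prime F p⟩
  let P : MvPolynomial (Fin 3) F :=
    C a * X 0 ^ 2 + C b * X 1 ^ 2 + C c * X 2 ^ 2 + C d * X 0 * X 1 + C e * X 0 * X 2
      + C f * X 1 * X 2
  have hdeg : P.totalDegree < Fintype.card (Fin 3) := by
    have h1 : ∀ (k : F) (i j : Fin 3), (C k * X i * X j : MvPolynomial (Fin 3) F).totalDegree ≤ 2 := by
      intro k i j
      refine (totalDegree_mul _ _).trans ?_
      have := (totalDegree_mul (C k) (X i : MvPolynomial (Fin 3) F))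
      rw [totalDegree_C, zero_add] at this
      have h2 := totalDegree_X (R := F) i
      have h3 := totalDegree_X (R := F) j
      omega
    have h2 : ∀ (k : F) (i : Fin 3), (C k * X i ^ 2 : MvPolynomial (Fin 3) F).totalDegree ≤ 2 := by
      intro k i
      have := h1 k i i
      rwa [mul_assoc, ← sq] at this
    rw [Fintype.card_fin]
    have := totalDegree_add (C a * X 0 ^ 2 + C b * X 1 ^ 2 + C c * X 2 ^ 2 + C d * X 0 * X 1 + C e * X 0 * X 2) (C f * X 1 * X 2 : MvPolynomial (Fin 3) F)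
    have := totalDegree_add (C a * X 0 ^ 2 + C b * X 1 ^ 2 + C c * X 2 ^ 2 + C d * X 0 * X 1) (C e * X 0 * X 2 : MvPolynomial (Fin 3) F)
    have := totalDegree_add (C a * X 0 ^ 2 + C b * X 1 ^ 2 + C c * X 2 ^ 2) (C d * X 0 * X 1 : MvPolynomial (Fin 3) F)
    have := totalDegree_add (C a * X 0 ^ 2 + C b * X 1 ^ 2) (C c * X 2 ^ 2 : MvPolynomial (Fin 3) F)
    have := totalDegree_add (C a * X 0 ^ 2) (C b * X 1 ^ 2 : MvPolynomial (Fin 3) F)
    have := h2 a 0
    have := h2 b 1
    have := h2 c 2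
    have := h1 d 0 1
    have := h1 e 0 2
    have := h1 f 1 2
    show P.totalDegree < 3
    simp only [P]
    omega
  have hdvd := char_dvd_card_solutions p hdeg
  have hpos : 0 < Fintype.card { x : Fin 3 → F // eval x P = 0 } :=
    Fintype.card_pos_iff.mpr ⟨⟨0, by simp [P]⟩⟩
  have h2 : 1 < Fintype.card { x : Fin 3 → F // eval x P = 0 } := by
    have := Nat.le_of_dvd hpos hdvd
    have := (Fact.out : p.Prime).two_le
    omega
  obtain ⟨⟨x, hx⟩, ⟨y, hy⟩, hxy⟩ := Fintype.one_lt_card_iff.mp h2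
  have key : ∃ w : Fin 3 → F, w ≠ 0 ∧ eval w P = 0 := by
    by_cases hx0 : x = 0
    · refine ⟨y, ?_, hy⟩
      intro hy0
      apply hxy
      apply Subtype.ext
      simp [hx0, hy0]
    · exact ⟨x, hx0, hx⟩
  obtain ⟨w, hw0, hw⟩ := key
  refine ⟨w 0, w 1, w 2, ?_, ?_⟩
  · rintro ⟨h0, h1, h2⟩
    apply hw0
    ext i
    fin_cases i <;> simp [h0, h1, h2]
  · simpa [P] using hw

end Cfsg.Agent.Lib.Helper4_QF0
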