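import Mathlib

set_option autoImplicit false

namespace Cfsg.Agent.Lib.Helper4_QF1

open QuadraticMap Module

variable {F V : Type*} [Field F] [AddCommGroup V] [Module F V]

structure HypSys (Q : QuadraticForm F V) (k : ℕ) where
  e : Fin k → V
  f : Fin k → V
  Qe : ∀ i, Q (e i) = 0
  Qf : ∀ i, Q (f i) = 0
  ef : ∀ i j, polar Q (e i) (f j) = if i = j then 1 else 0
  ee : ∀ i j, polar Q (e i) (e j) = 0
  ff : ∀ i j, polar Q (f i) (f j) = 0

variable {Q : QuadraticForm F V} {k : ℕ}

theorem HypSys.fe (S : HypSys Q k) (i j : Fin k) :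
    polar Q (S.f i) (S.e j) = if i = j then 1 else 0 := by
  rw [polar_comm, S.ef j i]
  simp only [eq_comm]

/-- the linear map whose kernel is the perp -/
def HypSys.phi (S : HypSys Q k) : V →ₗ[F] (Fin k ⊕ Fin k → F) :=
  LinearMap.pi (Sum.elim (fun i => polarBilin Q (S.e i)) (fun i => polarBilin Q (S.f i)))

def HypSys.perp (S : HypSys Q k) : Submodule F V := LinearMap.ker S.phi

theorem HypSys.mem_perp (S : HypSys Q k) (v : V) :
    v ∈ S.perp ↔ ∀ i, polar Q (S.e i) v = 0 ∧ polar Q (S.f i) v = 0 := by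
  unfold HypSys.perp HypSys.phi
  rw [LinearMap.mem_ker]
  constructor
  · intro h i
    have h1 := congrFun h (Sum.inl i)
    have h2 := congrFun h (Sum.inr i)
    simp only [LinearMap.pi_apply, Sum.elim_inl, Sum.elim_inr, Pi.zero_apply,
      polarBilin_apply_apply] at h1 h2
    exact ⟨h1, h2⟩
  · intro h
    ext i
    cases i with
    | inl i => simpa using (h i).1
    | inr i => simpa using (h i).2

theorem HypSys.finrank_perp [FiniteDimensional F V] (S : HypSys Q k) :
    finrank F V ≤ finrank F S.perp + 2 * k := by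
  have h := LinearMap.finrank_range_add_finrank_ker S.phi
  have h2 : finrank F (LinearMap.range S.phi) ≤ 2 * k := by
    refine (Submodule.finrank_le _).trans ?_
    rw [Module.finrank_pi, Fintype.card_sum, Fintype.card_fin]
    omega
  unfold HypSys.perp
  omega

noncomputable def HypSys.proj (S : HypSys Q k) (v : V) : V :=
  v - ∑ i, polar Q (S.f i) v • S.e i - ∑ i, polar Q (S.e i) v • S.f i

theorem HypSys.polar_proj (S : HypSys Q k) (x v : V) :
    polar Q x (S.proj v) = polar Q x v - ∑ i, polar Q (S.f i) v * polar Q x (S.e i)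
      - ∑ i, polar Q (S.e i) v * polar Q x (S.f i) := by
  unfold HypSys.proj
  have : ∀ a b : V, polar Q a b = polarBilin Q a b := fun a b => rfl
  simp only [this, map_sub, map_sum, map_smul, smul_eq_mul]

theorem HypSys.proj_mem (S : HypSys Q k) (v : V) : S.proj v ∈ S.perp := by
  classical
  rw [S.mem_perp]
  intro j
  constructor
  · rw [S.polar_proj]
    simp only [S.ee, S.ef, mul_zero, Finset.sum_const_zero, sub_zero, mul_ite, mul_one,
      Finset.sum_ite_eq, Finset.mem_univ, if_true, sub_self]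
  · rw [S.polar_proj]
    simp only [S.ff, S.fe, mul_zero, Finset.sum_const_zero, sub_zero, mul_ite, mul_one,
      Finset.sum_ite_eq, Finset.mem_univ, if_true, sub_self]

theorem HypSys.polar_proj_of_mem (S : HypSys Q k) (x v : V) (hx : x ∈ S.perp) :
    polar Q x (S.proj v) = polar Q x v := by
  rw [S.polar_proj]
  rw [S.mem_perp] at hx
  have h1 : ∀ i, polar Q x (S.e i) = 0 := fun i => by rw [polar_comm]; exact (hx i).1
  have h2 : ∀ i, polar Q x (S.f i) = 0 := fun i => by rw [polar_comm]; exact (hx i).2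
  simp [h1, h2]

theorem HypSys.exists_partner (S : HypSys Q k) (hQ : (polarBilin Q).Nondegenerate)
    (x : V) (hx : x ∈ S.perp) (hx0 : x ≠ 0) (hQx : Q x = 0) :
    ∃ y ∈ S.perp, Q y = 0 ∧ polar Q x y = 1 := by
  have h1 : ∃ v, polar Q x v ≠ 0 := by
    by_contra hcon
    push Not at hcon
    exact hx0 (hQ.1 x hcon)
  obtain ⟨v, hv⟩ := h1
  have h2 : ∃ w' ∈ S.perp, polar Q x w' = 1 := by
    have hwp : S.proj v ∈ S.perp := S.proj_mem v
    have hxw : polar Q x (S.proj v) ≠ 0 := by rw [S.polar_proj_of_mem x v hx]; exact hv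
    refine ⟨(polar Q x (S.proj v))⁻¹ • S.proj v, S.perp.smul_mem _ hwp, ?_⟩
    rw [polar_smul_right, smul_eq_mul, inv_mul_cancel₀ hxw]
  obtain ⟨w', hw'p, hxw'⟩ := h2
  refine ⟨w' - Q w' • x, S.perp.sub_mem hw'p (S.perp.smul_mem _ hx), ?_, ?_⟩
  · have : w' - Q w' • x = w' + (- Q w') • x := by rw [neg_smul, sub_eq_add_neg]
    rw [this, QuadraticMap.map_add Q, QuadraticMap.map_smul, hQx, polar_smul_right,
      polar_comm, hxw']
    simp
  · have : ∀ a b : V, polar Q a b = polarBilin Q a b := fun a b => rfl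
    rw [this, map_sub, map_smul, ← this, ← this, hxw', polar_self, hQx]
    simp

/-- extend a hyperbolic system by a pair in the perp -/
def HypSys.extend (S : HypSys Q k) (x y : V) (hx : x ∈ S.perp) (hy : y ∈ S.perp)
    (hQx : Q x = 0) (hQy : Q y = 0) (hxy : polar Q x y = 1) : HypSys Q (k + 1) where
  e := Fin.cons x S.e
  f := Fin.cons y S.f
  Qe := by
    intro i
    refine Fin.cases ?_ (fun i => ?_) i
    · simpa using hQx
    · simpa using S.Qe i
  Qf := by
    intro i
    refine Fin.cases ?_ (fun i => ?_) i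
    · simpa using hQy
    · simpa using S.Qf i
  ef := by
    rw [S.mem_perp] at hx hy
    intro i j
    refine Fin.cases ?_ (fun i => ?_) i <;> refine Fin.cases ?_ (fun j => ?_) j
    · simpa using hxy
    · simp only [Fin.cons_zero, Fin.cons_succ]
      rw [polar_comm, (hx j).2, if_neg (Fin.succ_ne_zero j).symm]
    · simp only [Fin.cons_zero, Fin.cons_succ]
      rw [(hy i).1, if_neg (Fin.succ_ne_zero i)]
    · simp only [Fin.cons_succ, S.ef, Fin.succ_inj]
  ee := by
    rw [S.mem_perp] at hx
    intro i j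
    refine Fin.cases ?_ (fun i => ?_) i <;> refine Fin.cases ?_ (fun j => ?_) j
    · simp only [Fin.cons_zero]
      rw [polar_self, hQx]; simp
    · simp only [Fin.cons_zero, Fin.cons_succ]
      rw [polar_comm, (hx j).1]
    · simp only [Fin.cons_zero, Fin.cons_succ]
      rw [(hx i).1]
    · simp only [Fin.cons_succ, S.ee]
  ff := by
    rw [S.mem_perp] at hy
    intro i j
    refine Fin.cases ?_ (fun i => ?_) i <;> refine Fin.cases ?_ (fun j => ?_) j
    · simp only [Fin.cons_zero]
      rw [polar_self, hQy]; simp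
    · simp only [Fin.cons_zero, Fin.cons_succ]
      rw [polar_comm, (hy j).2]
    · simp only [Fin.cons_zero, Fin.cons_succ]
      rw [(hy i).2]
    · simp only [Fin.cons_succ, S.ff]

end Cfsg.Agent.Lib.Helper4_QF1
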