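import Mathlib
import Cfsg.Agent.Lib.Helper4_QF0
import Cfsg.Agent.Lib.Helper4_QF1

set_option autoImplicit false

namespace Cfsg.Agent.Lib.Helper4_QF2

open QuadraticMap Module Cfsg.Agent.Lib.Helper4_QF1

variable {F V : Type*} [Field F] [AddCommGroup V] [Module F V]
variable {Q : QuadraticForm F V} {k : ℕ}

theorem Q_comb2 (u₀ u₁ : V) (x y : F) :
    Q (x • u₀ + y • u₁) = Q u₀ * x ^ 2 + Q u₁ * y ^ 2 + polar Q u₀ u₁ * x * y := by
  rw [QuadraticMap.map_add Q, QuadraticMap.map_smul, QuadraticMap.map_smul, polar_smul_left,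
    polar_smul_right]
  simp only [smul_eq_mul]
  ring

theorem Q_comb3 (u₀ u₁ u₂ : V) (x y z : F) :
    Q (x • u₀ + y • u₁ + z • u₂) = Q u₀ * x ^ 2 + Q u₁ * y ^ 2 + Q u₂ * z ^ 2
      + polar Q u₀ u₁ * x * y + polar Q u₀ u₂ * x * z + polar Q u₁ u₂ * y * z := by
  rw [QuadraticMap.map_add Q, Q_comb2, QuadraticMap.map_smul, polar_add_left, polar_smul_left,
    polar_smul_right, polar_smul_left, polar_smul_right]
  simp only [smul_eq_mul]
  ring

theorem exists_singular_of_three [Finite F] [FiniteDimensional F V] (S : HypSys Q k)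
    (h : 3 ≤ finrank F S.perp) : ∃ x ∈ S.perp, x ≠ 0 ∧ Q x = 0 := by
  obtain ⟨u, hu⟩ := exists_linearIndependent_of_le_finrank h
  obtain ⟨x, y, z, hne, heq⟩ := Cfsg.Agent.Lib.Helper4_QF0.ternary (Q (u 0 : V)) (Q (u 1 : V))
    (Q (u 2 : V)) (polar Q (u 0 : V) (u 1 : V)) (polar Q (u 0 : V) (u 2 : V))
    (polar Q (u 1 : V) (u 2 : V))
  refine ⟨x • (u 0 : V) + y • (u 1 : V) + z • (u 2 : V), ?_, ?_, ?_⟩
  · exact S.perp.add_mem (S.perp.add_mem (S.perp.smul_mem _ (u 0).2) (S.perp.smul_mem _ (u 1).2))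
      (S.perp.smul_mem _ (u 2).2)
  · intro h0
    rw [Fintype.linearIndependent_iff] at hu
    have h1 : ∑ i, (![x, y, z] : Fin 3 → F) i • u i = 0 := by
      apply Subtype.ext
      rw [Fin.sum_univ_three]
      simpa using h0
    have h2 := hu _ h1
    exact hne ⟨by simpa using h2 0, by simpa using h2 1, by simpa using h2 2⟩
  · rw [Q_comb3]
    linear_combination heq

theorem exists_hypSys [Finite F] [FiniteDimensional F V] (hQ : (polarBilin Q).Nondegenerate) :
    ∀ k : ℕ, 2 * k + 1 ≤ finrank F V → Nonempty (HypSys Q k) := by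
  intro k
  induction k with
  | zero =>
    intro _
    exact ⟨⟨Fin.elim0, Fin.elim0, fun i => i.elim0, fun i => i.elim0, fun i => i.elim0,
      fun i => i.elim0, fun i => i.elim0⟩⟩
  | succ k ih =>
    intro h
    obtain ⟨S⟩ := ih (by omega)
    have h3 : 3 ≤ finrank F S.perp := by
      have := S.finrank_perp
      omega
    obtain ⟨x, hx, hx0, hQx⟩ := exists_singular_of_three S h3
    obtain ⟨y, hy, hQy, hxy⟩ := S.exists_partner hQ x hx hx0 hQx
    exact ⟨S.extend x y hx hy hQx hQy hxy⟩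

theorem li_of_perp (S : HypSys Q k) {ι : Type*} [Fintype ι] (T : ι → V) (hT : ∀ j, T j ∈ S.perp)
    (hTli : LinearIndependent F T) :
    LinearIndependent F (Sum.elim (Sum.elim S.e S.f) T) := by
  classical
  rw [Fintype.linearIndependent_iff]
  intro g hg
  rw [Fintype.sum_sum_type, Fintype.sum_sum_type] at hg
  simp only [Sum.elim_inl, Sum.elim_inr] at hg
  have hTe : ∀ i j, polar Q (S.e i) (T j) = 0 := fun i j => ((S.mem_perp _).mp (hT j) i).1
  have hTf : ∀ i j, polar Q (S.f i) (T j) = 0 := fun i j => ((S.mem_perp _).mp (hT j) i).2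
  have pb : ∀ a b : V, polar Q a b = polarBilin Q a b := fun a b => rfl
  have ha : ∀ j, g (Sum.inl (Sum.inl j)) = 0 := by
    intro j
    have := congrArg (fun v => polarBilin Q (S.f j) v) hg
    simp only [map_add, map_sum, map_smul, map_zero, smul_eq_mul] at this
    simp only [← pb, S.fe, S.ff, hTf,
      mul_zero, Finset.sum_const_zero, add_zero, mul_ite, mul_one, Finset.sum_ite_eq,
      Finset.mem_univ, if_true] at this
    exact this
  have hb : ∀ j, g (Sum.inl (Sum.inr j)) = 0 := by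
    intro j
    have := congrArg (fun v => polarBilin Q (S.e j) v) hg
    simp only [map_add, map_sum, map_smul, map_zero, smul_eq_mul] at this
    simp only [← pb, S.ef, S.ee, hTe,
      mul_zero, Finset.sum_const_zero, add_zero, zero_add, mul_ite, mul_one, Finset.sum_ite_eq,
      Finset.mem_univ, if_true] at this
    exact this
  have hc : ∑ j, g (Sum.inr j) • T j = 0 := by
    simpa [ha, hb] using hg
  rw [Fintype.linearIndependent_iff] at hTli
  have hc' := hTli _ hc
  intro i
  rcases i with (i | i) | i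
  · exact ha i
  · exact hb i
  · exact hc' i

end Cfsg.Agent.Lib.Helper4_QF2
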