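import Mathlib
import Cfsg.Agent.Lib.Helper4_QF0
import Cfsg.Agent.Lib.Helper4_QF1
import Cfsg.Agent.Lib.Helper4_QF2

set_option autoImplicit false

namespace Cfsg.Agent.Lib.Helper4_QF3

open QuadraticMap Module Cfsg.Agent.Lib.Helper4_QF1 Cfsg.Agent.Lib.Helper4_QF2

variable {F V : Type*} [Field F] [AddCommGroup V] [Module F V]
variable {Q : QuadraticForm F V} {k : ℕ}

theorem exists_dual (S : HypSys Q k) (hQ : (polarBilin Q).Nondegenerate)
    (x : V) (hx : x ∈ S.perp) (hx0 : x ≠ 0) : ∃ w ∈ S.perp, polar Q x w = 1 := by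
  have h1 : ∃ v, polar Q x v ≠ 0 := by
    by_contra hcon
    push Not at hcon
    exact hx0 (hQ.1 x hcon)
  obtain ⟨v, hv⟩ := h1
  have hwp : S.proj v ∈ S.perp := S.proj_mem v
  have hxw : polar Q x (S.proj v) ≠ 0 := by rw [S.polar_proj_of_mem x v hx]; exact hv
  refine ⟨(polar Q x (S.proj v))⁻¹ • S.proj v, S.perp.smul_mem _ hwp, ?_⟩
  rw [polar_smul_right, smul_eq_mul, inv_mul_cancel₀ hxw]

theorem exists_elliptic [Finite F] [FiniteDimensional F V] (S : HypSys Q k)
    (hQ : (polarBilin Q).Nondegenerate)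
    (h2 : 2 ≤ finrank F S.perp) (haniso : ∀ x ∈ S.perp, Q x = 0 → x = 0) :
    ∃ x ∈ S.perp, ∃ y ∈ S.perp, Q x = 1 ∧ polar Q x y = 1 ∧ (∀ t : F, t ^ 2 + t + Q y ≠ 0) ∧
      LinearIndependent F ![x, y] := by
  obtain ⟨u, hu⟩ := exists_linearIndependent_of_le_finrank h2
  obtain ⟨α, β, z, hne, heq⟩ := Cfsg.Agent.Lib.Helper4_QF0.ternary (Q (u 0 : V)) (Q (u 1 : V)) (-1)
    (polar Q (u 0 : V) (u 1 : V)) 0 0
  have hz : z ≠ 0 := by
    intro hz
    have h0 : Q (α • (u 0 : V) + β • (u 1 : V)) = 0 := by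
      rw [Q_comb2]; rw [hz] at heq; linear_combination heq
    have h1 := haniso _ (S.perp.add_mem (S.perp.smul_mem _ (u 0).2) (S.perp.smul_mem _ (u 1).2)) h0
    rw [Fintype.linearIndependent_iff] at hu
    have h2 : ∑ i, (![α, β] : Fin 2 → F) i • u i = 0 := by
      apply Subtype.ext
      rw [Fin.sum_univ_two]
      simpa using h1
    have h3 := hu _ h2
    exact hne ⟨by simpa using h3 0, by simpa using h3 1, hz⟩
  have hex : ∃ x ∈ S.perp, Q x = 1 := by
    refine ⟨z⁻¹ • (α • (u 0 : V) + β • (u 1 : V)),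
      S.perp.smul_mem _ (S.perp.add_mem (S.perp.smul_mem _ (u 0).2) (S.perp.smul_mem _ (u 1).2)), ?_⟩
    rw [QuadraticMap.map_smul, Q_comb2, smul_eq_mul]
    field_simp
    linear_combination heq
  obtain ⟨x, hxp, hQx⟩ := hex
  have hx0 : x ≠ 0 := by
    intro h
    rw [h, QuadraticMap.map_zero] at hQx
    exact zero_ne_one hQx
  obtain ⟨y₀, hy₀p, hy₀⟩ := exists_dual S hQ x hxp hx0
  have hu' : ∃ u' ∈ S.perp, u' ∉ Submodule.span F {x} := by
    by_contra hcon
    push Not at hcon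
    have hle : S.perp ≤ Submodule.span F {x} := hcon
    have := Submodule.finrank_mono hle
    rw [finrank_span_singleton hx0] at this
    omega
  obtain ⟨u', hu'p, hu'x⟩ := hu'
  have hy : ∃ y ∈ S.perp, polar Q x y = 1 ∧ y ∉ Submodule.span F {x} := by
    by_cases hy₀x : y₀ ∈ Submodule.span F {x}
    · refine ⟨u' + (1 - polar Q x u') • y₀, S.perp.add_mem hu'p (S.perp.smul_mem _ hy₀p), ?_, ?_⟩
      · rw [polar_add_right, polar_smul_right, hy₀, smul_eq_mul]; ring
      · intro hmem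
        apply hu'x
        have : u' = (u' + (1 - polar Q x u') • y₀) - (1 - polar Q x u') • y₀ := by abel
        rw [this]
        exact Submodule.sub_mem _ hmem (Submodule.smul_mem _ _ hy₀x)
    · exact ⟨y₀, hy₀p, hy₀, hy₀x⟩
  obtain ⟨y, hyp, hxy, hyx⟩ := hy
  refine ⟨x, hxp, y, hyp, hQx, hxy, ?_, ?_⟩
  · intro t ht
    have h0 : Q (t • x + y) = 0 := by
      have := Q_comb2 (Q := Q) x y t 1
      rw [one_smul] at this
      rw [this, hQx, hxy]
      linear_combination ht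
    have h1 := haniso _ (S.perp.add_mem (S.perp.smul_mem _ hxp) hyp) h0
    apply hyx
    have : y = (-t) • x := by
      rw [neg_smul]
      exact eq_neg_of_add_eq_zero_right h1
    rw [this]
    exact Submodule.smul_mem _ _ (Submodule.mem_span_singleton_self x)
  · rw [LinearIndependent.pair_iff' hx0]
    intro a ha
    apply hyx
    rw [← ha]
    exact Submodule.smul_mem _ _ (Submodule.mem_span_singleton_self x)

end Cfsg.Agent.Lib.Helper4_QF3
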