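import Mathlib
import Cfsg.Agent.Lib.Helper4_QF0
import Cfsg.Agent.Lib.Helper4_QF1
import Cfsg.Agent.Lib.Helper4_QF2
import Cfsg.Agent.Lib.Helper4_QF3

set_option autoImplicit false

namespace Cfsg.Agent.Lib.Helper4_QF4

open QuadraticMap Module Cfsg.Agent.Lib.Helper4_QF1 Cfsg.Agent.Lib.Helper4_QF2
  Cfsg.Agent.Lib.Helper4_QF3

variable {F V : Type*} [Field F] [AddCommGroup V] [Module F V]

theorem li_hyp {Q : QuadraticForm F V} {k : ℕ} (S : HypSys Q k) :
    LinearIndependent F (Sum.elim S.e S.f) := by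
  have li := li_of_perp S (Fin.elim0 : Fin 0 → V) (fun j => j.elim0)
    (linearIndependent_empty_type)
  exact li.comp Sum.inl Sum.inl_injective

theorem even_main [Finite F] [FiniteDimensional F V] (m' : ℕ)
    (hV : finrank F V = 2 * (m' + 1)) (Q : QuadraticForm F V)
    (hQ : (polarBilin Q).Nondegenerate) :
    (∃ b : Module.Basis (Fin (m' + 1) ⊕ Fin (m' + 1)) F V,
      (∀ i, Q (b (Sum.inl i)) = 0 ∧ Q (b (Sum.inr i)) = 0) ∧
      (∀ i j, polar Q (b (Sum.inl i)) (b (Sum.inr j)) = if i = j then 1 else 0) ∧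
      (∀ i j, polar Q (b (Sum.inl i)) (b (Sum.inl j)) = 0 ∧
        polar Q (b (Sum.inr i)) (b (Sum.inr j)) = 0)) ∨
    (∃ (b : Module.Basis ((Fin m' ⊕ Fin m') ⊕ Fin 2) F V) (ζ : F),
      (∀ t : F, t ^ 2 + t + ζ ≠ 0) ∧
      (∀ i, Q (b (Sum.inl (Sum.inl i))) = 0 ∧ Q (b (Sum.inl (Sum.inr i))) = 0) ∧
      (∀ i j, polar Q (b (Sum.inl (Sum.inl i))) (b (Sum.inl (Sum.inr j))) =
        if i = j then 1 else 0) ∧
      (∀ i j, polar Q (b (Sum.inl (Sum.inl i))) (b (Sum.inl (Sum.inl j))) = 0 ∧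
        polar Q (b (Sum.inl (Sum.inr i))) (b (Sum.inl (Sum.inr j))) = 0) ∧
      (∀ i (k : Fin 2), polar Q (b (Sum.inl (Sum.inl i))) (b (Sum.inr k)) = 0 ∧
        polar Q (b (Sum.inl (Sum.inr i))) (b (Sum.inr k)) = 0) ∧
      Q (b (Sum.inr 0)) = 1 ∧ polar Q (b (Sum.inr 0)) (b (Sum.inr 1)) = 1 ∧
      Q (b (Sum.inr 1)) = ζ) := by
  obtain ⟨S⟩ := exists_hypSys hQ m' (by omega)
  have h2 : 2 ≤ finrank F S.perp := by
    have := S.finrank_perp
    omega
  by_cases h : ∃ x ∈ S.perp, x ≠ 0 ∧ Q x = 0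
  · left
    obtain ⟨x, hx, hx0, hQx⟩ := h
    obtain ⟨y, hy, hQy, hxy⟩ := S.exists_partner hQ x hx hx0 hQx
    set S' := S.extend x y hx hy hQx hQy hxy with hS'
    have li := li_hyp S'
    have hcard : Fintype.card (Fin (m' + 1) ⊕ Fin (m' + 1)) = finrank F V := by
      rw [Fintype.card_sum, Fintype.card_fin, hV]; ring
    refine ⟨basisOfLinearIndependentOfCardEqFinrank li hcard, ?_, ?_, ?_⟩
    · intro i
      rw [coe_basisOfLinearIndependentOfCardEqFinrank]
      exact ⟨S'.Qe i, S'.Qf i⟩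
    · intro i j
      rw [coe_basisOfLinearIndependentOfCardEqFinrank]
      exact S'.ef i j
    · intro i j
      rw [coe_basisOfLinearIndependentOfCardEqFinrank]
      exact ⟨S'.ee i j, S'.ff i j⟩
  · right
    push Not at h
    have haniso : ∀ x ∈ S.perp, Q x = 0 → x = 0 := by
      intro x hx hQx
      by_contra hx0
      exact h x hx hx0 hQx
    obtain ⟨x, hxp, y, hyp, hQx, hxy, hirr, hli⟩ := exists_elliptic S hQ h2 haniso
    have hT : ∀ j, (![x, y] : Fin 2 → V) j ∈ S.perp := by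
      intro j
      fin_cases j
      · exact hxp
      · exact hyp
    have li := li_of_perp S ![x, y] hT hli
    have hcard : Fintype.card ((Fin m' ⊕ Fin m') ⊕ Fin 2) = finrank F V := by
      rw [Fintype.card_sum, Fintype.card_sum, Fintype.card_fin, Fintype.card_fin, hV]; ring
    have hmem := S.mem_perp
    refine ⟨basisOfLinearIndependentOfCardEqFinrank li hcard, Q y, hirr, ?_, ?_, ?_, ?_, ?_, ?_, ?_⟩
    · intro i
      rw [coe_basisOfLinearIndependentOfCardEqFinrank]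
      exact ⟨S.Qe i, S.Qf i⟩
    · intro i j
      rw [coe_basisOfLinearIndependentOfCardEqFinrank]
      exact S.ef i j
    · intro i j
      rw [coe_basisOfLinearIndependentOfCardEqFinrank]
      exact ⟨S.ee i j, S.ff i j⟩
    · intro i k
      rw [coe_basisOfLinearIndependentOfCardEqFinrank]
      exact (hmem _).mp (hT k) i
    · rw [coe_basisOfLinearIndependentOfCardEqFinrank]
      exact hQx
    · rw [coe_basisOfLinearIndependentOfCardEqFinrank]
      exact hxy
    · rw [coe_basisOfLinearIndependentOfCardEqFinrank]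
      rfl

theorem odd_main [Finite F] [FiniteDimensional F V] (m : ℕ)
    (hV : finrank F V = 2 * m + 1) (Q : QuadraticForm F V)
    (hQ : (polarBilin Q).Nondegenerate) :
    ∃ b : Module.Basis (Unit ⊕ (Fin m ⊕ Fin m)) F V, Q (b (Sum.inl ())) ≠ 0 ∧
      (∀ i, polar Q (b (Sum.inl ())) (b (Sum.inr (Sum.inl i))) = 0 ∧
        polar Q (b (Sum.inl ())) (b (Sum.inr (Sum.inr i))) = 0) ∧
      (∀ i, Q (b (Sum.inr (Sum.inl i))) = 0 ∧ Q (b (Sum.inr (Sum.inr i))) = 0) ∧
      (∀ i j, polar Q (b (Sum.inr (Sum.inl i))) (b (Sum.inr (Sum.inr j))) =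
        if i = j then 1 else 0) ∧
      (∀ i j, polar Q (b (Sum.inr (Sum.inl i))) (b (Sum.inr (Sum.inl j))) = 0 ∧
        polar Q (b (Sum.inr (Sum.inr i))) (b (Sum.inr (Sum.inr j))) = 0) := by
  obtain ⟨S⟩ := exists_hypSys hQ m (by omega)
  have h1 : 1 ≤ finrank F S.perp := by
    have := S.finrank_perp
    omega
  obtain ⟨u, hu⟩ := exists_linearIndependent_of_le_finrank h1
  have hx0 : (u 0 : V) ≠ 0 := by
    intro h
    exact hu.ne_zero 0 (Subtype.ext h)
  have hxp : (u 0 : V) ∈ S.perp := (u 0).2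
  have hQx : Q (u 0 : V) ≠ 0 := by
    intro hQx
    obtain ⟨y, hy, hQy, hxy⟩ := S.exists_partner hQ _ hxp hx0 hQx
    have li := li_hyp (S.extend _ y hxp hy hQx hQy hxy)
    have := li.fintype_card_le_finrank
    rw [Fintype.card_sum, Fintype.card_fin, hV] at this
    omega
  have hli : LinearIndependent F (fun _ : Unit => (u 0 : V)) :=
    LinearIndependent.of_subsingleton () hx0
  have li := li_of_perp S (fun _ : Unit => (u 0 : V)) (fun _ => hxp) hli
  have li' := li.comp (Equiv.sumComm Unit (Fin m ⊕ Fin m)) (Equiv.injective _)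
  have hcard : Fintype.card (Unit ⊕ (Fin m ⊕ Fin m)) = finrank F V := by
    rw [Fintype.card_sum, Fintype.card_sum, Fintype.card_fin, hV]; simp; ring
  have hmem := (S.mem_perp _).mp hxp
  refine ⟨basisOfLinearIndependentOfCardEqFinrank li' hcard, ?_, ?_, ?_, ?_, ?_⟩
  · rw [coe_basisOfLinearIndependentOfCardEqFinrank]
    exact hQx
  · intro i
    rw [coe_basisOfLinearIndependentOfCardEqFinrank]
    constructor
    · show polar Q (u 0 : V) (S.e i) = 0
      rw [polar_comm]; exact (hmem i).1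
    · show polar Q (u 0 : V) (S.f i) = 0
      rw [polar_comm]; exact (hmem i).2
  · intro i
    rw [coe_basisOfLinearIndependentOfCardEqFinrank]
    exact ⟨S.Qe i, S.Qf i⟩
  · intro i j
    rw [coe_basisOfLinearIndependentOfCardEqFinrank]
    exact S.ef i j
  · intro i j
    rw [coe_basisOfLinearIndependentOfCardEqFinrank]
    exact ⟨S.ee i j, S.ff i j⟩

end Cfsg.Agent.Lib.Helper4_QF4
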