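import Mathlib

set_option autoImplicit false

namespace Cfsg.Agent.Lib.Helper4_QF5

open QuadraticMap Module

variable {F V : Type*} [Field F] [AddCommGroup V] [Module F V]

theorem qf_ext {ι : Type*} (Q₁ Q₂ : QuadraticForm F V) (b : Module.Basis ι F V)
    (h1 : ∀ i, Q₁ (b i) = Q₂ (b i))
    (h2 : ∀ i j, i ≠ j → polar Q₁ (b i) (b j) = polar Q₂ (b i) (b j)) : Q₁ = Q₂ := by
  classical
  let _ : LinearOrder ι := linearOrderOfSTO WellOrderingRel
  rw [← toQuadraticMap_toBilin Q₁ b, ← toQuadraticMap_toBilin Q₂ b]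
  congr 1
  apply b.ext
  intro i
  apply b.ext
  intro j
  rw [toBilin_apply, toBilin_apply]
  by_cases hij : i = j
  · rw [if_pos hij, if_pos hij, h1]
  · rw [if_neg hij, if_neg hij, h2 i j hij]

theorem sim_of_linear [FiniteDimensional F V] (Q : QuadraticForm F V)
    (hQ : (polarBilin Q).Nondegenerate) (c : F) (hc : c ≠ 0)
    (g : V →ₗ[F] V) (hg : ∀ v, Q (g v) = c * Q v) :
    ∃ g' : V ≃ₗ[F] V, ∀ v, Q (g' v) = c * Q v := by
  have hpol : ∀ v w, polar Q (g v) (g w) = c * polar Q v w := by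
    intro v w
    unfold polar
    rw [← map_add, hg, hg, hg]
    ring
  have hinj : Function.Injective g := by
    rw [← LinearMap.ker_eq_bot, LinearMap.ker_eq_bot']
    intro v hv
    apply hQ.1 v
    intro w
    have := hpol v w
    rw [hv, polar_zero_left] at this
    rcases mul_eq_zero.mp this.symm with h | h
    · exact absurd h hc
    · exact h
  refine ⟨LinearEquiv.ofInjectiveEndo g hinj, ?_⟩
  intro v
  rw [LinearEquiv.coe_ofInjectiveEndo]
  exact hg v

end Cfsg.Agent.Lib.Helper4_QF5
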