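import Mathlib
import Cfsg.Agent.Lib.Helper4_QF5

set_option autoImplicit false

namespace Cfsg.Agent.Lib.Helper4_QF7

open QuadraticMap Module Matrix Cfsg.Agent.Lib.Helper4_QF5

variable {F V : Type*} [Field F] [AddCommGroup V] [Module F V]

theorem gram_det' {ι ι' : Type*} [Fintype ι] [Fintype ι'] [DecidableEq ι] [DecidableEq ι']
    (Q : QuadraticForm F V) (b : Module.Basis ι F V) (c : Module.Basis ι' F V) :
    ∃ s : F, s ≠ 0 ∧ (Matrix.of (fun i j => polar Q (c i) (c j))).det =
      s ^ 2 * (Matrix.of (fun i j => polar Q (b i) (b j))).det := by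
  have e : ι' ≃ ι := c.indexEquiv b
  set c' := c.reindex e with hc'
  have h1 : (Matrix.of (fun i j => polar Q (c i) (c j))).submatrix e.symm e.symm =
      LinearMap.BilinForm.toMatrix c' (polarBilin Q) := by
    ext i j
    simp [LinearMap.BilinForm.toMatrix_apply, hc']
  have h2 : Matrix.of (fun i j => polar Q (b i) (b j)) =
      LinearMap.BilinForm.toMatrix b (polarBilin Q) := by
    ext i j
    simp [LinearMap.BilinForm.toMatrix_apply]
  have h3 := LinearMap.BilinForm.toMatrix_mul_basis_toMatrix (b := b) c' (polarBilin Q)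
  have h4 : IsUnit (b.toMatrix c').det := by
    have := Basis.isUnit_det b c'
    rwa [Basis.det_apply] at this
  refine ⟨(b.toMatrix c').det, h4.ne_zero, ?_⟩
  rw [← Matrix.det_submatrix_equiv_self e.symm, h1, ← h3, Matrix.det_mul, Matrix.det_mul,
    Matrix.det_transpose, h2]
  ring

/-- the family `w` has the Gram data of the matrix `T` -/
def Realizes {ι : Type*} (Q : QuadraticForm F V) (w : ι → V) (T : Matrix ι ι F) : Prop :=
  (∀ i, Q (w i) = T i i) ∧ (∀ i j, polar Q (w i) (w j) = (T + Tᵀ) i j)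

theorem iso_of_linear [FiniteDimensional F V] (Q₁ Q₂ : QuadraticForm F V)
    (hQ : (polarBilin Q₁).Nondegenerate)
    (g : V →ₗ[F] V) (hg : ∀ v, Q₂ (g v) = Q₁ v) :
    ∃ g' : V ≃ₗ[F] V, ∀ v, Q₂ (g' v) = Q₁ v := by
  have hpol : ∀ v w, polar Q₂ (g v) (g w) = polar Q₁ v w := by
    intro v w
    unfold polar
    rw [← map_add, hg, hg, hg]
  have hinj : Function.Injective g := by
    rw [← LinearMap.ker_eq_bot, LinearMap.ker_eq_bot']
    intro v hv
    apply hQ.1 v
    intro w
    have := hpol v w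
    rw [hv, polar_zero_left] at this
    exact this.symm
  refine ⟨LinearEquiv.ofInjectiveEndo g hinj, ?_⟩
  intro v
  rw [LinearEquiv.coe_ofInjectiveEndo]
  exact hg v

theorem iso_of_realizes [FiniteDimensional F V] {ι : Type*} (Q₁ Q₂ : QuadraticForm F V)
    (hQ : (polarBilin Q₁).Nondegenerate) (b₁ : Module.Basis ι F V) (w : ι → V)
    (T : Matrix ι ι F) (h₁ : Realizes Q₁ b₁ T) (h₂ : Realizes Q₂ w T) :
    ∃ g : V ≃ₗ[F] V, ∀ v, Q₂ (g v) = Q₁ v := by
  set g : V →ₗ[F] V := b₁.constr F w with hg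
  have key : Q₂.comp g = Q₁ := by
    apply qf_ext _ _ b₁
    · intro i
      rw [QuadraticMap.comp_apply, hg, Basis.constr_basis, h₁.1, h₂.1]
    · intro i j _
      have : polar (Q₂.comp g) (b₁ i) (b₁ j) = polar Q₂ (g (b₁ i)) (g (b₁ j)) := by
        simp [polar, map_add]
      rw [this, hg, Basis.constr_basis, Basis.constr_basis, h₁.2, h₂.2]
  apply iso_of_linear Q₁ Q₂ hQ g
  intro v
  have := congrArg (fun q : QuadraticForm F V => q v) key
  simpa using this

theorem disc_of_realizes {ι ι' : Type*} [Fintype ι] [Fintype ι'] [DecidableEq ι]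
    [DecidableEq ι'] (Q : QuadraticForm F V) (b : Module.Basis ι F V) (T : Matrix ι ι F)
    (h : Realizes Q b T) (c : Module.Basis ι' F V) :
    ∃ s : F, s ≠ 0 ∧ (Matrix.of (fun i j => polar Q (c i) (c j))).det =
      s ^ 2 * (T + Tᵀ).det := by
  obtain ⟨s, hs, hdet⟩ := gram_det' Q b c
  refine ⟨s, hs, ?_⟩
  rw [hdet]
  congr 2
  ext i j
  rw [Matrix.of_apply, h.2]

end Cfsg.Agent.Lib.Helper4_QF7
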