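import Mathlib
import Cfsg.Agent.Lib.Helper4_QF7
import Cfsg.Agent.Lib.Helper4_Gram2

set_option autoImplicit false

namespace Cfsg.Agent.Lib.Helper4_QF8

open QuadraticMap Module Matrix Cfsg.Agent.Lib.Helper4_QF7 Cfsg.Agent.Lib.Helper4_Gram1
  Cfsg.Agent.Lib.Helper4_Gram2

variable {F V : Type*} [Field F] [AddCommGroup V] [Module F V]

theorem realizes_hyp (Q : QuadraticForm F V) {m : ℕ} (w : Fin m ⊕ Fin m → V)
    (hQb : ∀ i, Q (w (Sum.inl i)) = 0 ∧ Q (w (Sum.inr i)) = 0)
    (hef : ∀ i j, polar Q (w (Sum.inl i)) (w (Sum.inr j)) = if i = j then 1 else 0)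
    (hee : ∀ i j, polar Q (w (Sum.inl i)) (w (Sum.inl j)) = 0 ∧
        polar Q (w (Sum.inr i)) (w (Sum.inr j)) = 0) :
    Realizes Q w (Tm F m) := by
  constructor
  · intro i
    rcases i with i | i
    · rw [(hQb i).1]; simp [Tm]
    · rw [(hQb i).2]; simp [Tm]
  · intro i j
    rw [Tm_add]
    rcases i with i | i <;> rcases j with j | j
    · rw [(hee i j).1]; simp [Hm]
    · rw [hef]; simp [Hm, Matrix.one_apply]
    · rw [polar_comm, hef]; simp [Hm, Matrix.one_apply, eq_comm]
    · rw [(hee i j).2]; simp [Hm]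

theorem realizes_ell (Q : QuadraticForm F V) {k : ℕ} (w : (Fin k ⊕ Fin k) ⊕ Fin 2 → V) (ζ : F)
    (hQb : ∀ i, Q (w (Sum.inl (Sum.inl i))) = 0 ∧ Q (w (Sum.inl (Sum.inr i))) = 0)
    (hef : ∀ i j, polar Q (w (Sum.inl (Sum.inl i))) (w (Sum.inl (Sum.inr j))) =
        if i = j then 1 else 0)
    (hee : ∀ i j, polar Q (w (Sum.inl (Sum.inl i))) (w (Sum.inl (Sum.inl j))) = 0 ∧
        polar Q (w (Sum.inl (Sum.inr i))) (w (Sum.inl (Sum.inr j))) = 0)
    (hP : ∀ i (k : Fin 2), polar Q (w (Sum.inl (Sum.inl i))) (w (Sum.inr k)) = 0 ∧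
        polar Q (w (Sum.inl (Sum.inr i))) (w (Sum.inr k)) = 0)
    (hX : Q (w (Sum.inr 0)) = 1) (hXY : polar Q (w (Sum.inr 0)) (w (Sum.inr 1)) = 1)
    (hY : Q (w (Sum.inr 1)) = ζ) :
    Realizes Q w (Te F k 1 ζ) := by
  have hH : Realizes Q (w ∘ Sum.inl) (Tm F k) := realizes_hyp Q (w ∘ Sum.inl) hQb hef hee
  constructor
  · intro i
    rcases i with i | i
    · have := hH.1 i
      simp only [Function.comp] at this
      rw [this]; simp [Te]
    · revert i
      rw [Fin.forall_fin_two]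
      exact ⟨by rw [hX]; simp [Te], by rw [hY]; simp [Te]⟩
  · intro i j
    rw [Te_add]
    rcases i with i | i <;> rcases j with j | j
    · have := hH.2 i j
      simp only [Function.comp] at this
      rw [this, Tm_add]; simp
    · rcases i with i | i
      · rw [(hP i j).1]; simp
      · rw [(hP i j).2]; simp
    · rcases j with j | j
      · rw [polar_comm, (hP j i).1]; simp
      · rw [polar_comm, (hP j i).2]; simp
    · revert i j
      rw [Fin.forall_fin_two]
      constructor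
      · rw [Fin.forall_fin_two]
        constructor
        · rw [polar_self, hX]; simp
        · rw [hXY]; simp
      · rw [Fin.forall_fin_two]
        constructor
        · rw [polar_comm, hXY]; simp
        · rw [polar_self, hY]; simp

/-- upper triangular matrix of the odd-dimensional normal form -/
def To (F : Type*) [Field F] (m : ℕ) (a : F) :
    Matrix (Unit ⊕ (Fin m ⊕ Fin m)) (Unit ⊕ (Fin m ⊕ Fin m)) F :=
  Matrix.fromBlocks (Matrix.of (fun _ _ => a) : Matrix Unit Unit F)
    (0 : Matrix Unit (Fin m ⊕ Fin m) F) (0 : Matrix (Fin m ⊕ Fin m) Unit F) (Tm F m)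

theorem To_add (m : ℕ) (a : F) : To F m a + (To F m a)ᵀ =
    Matrix.fromBlocks (Matrix.of (fun _ _ => 2 * a) : Matrix Unit Unit F)
    (0 : Matrix Unit (Fin m ⊕ Fin m) F) (0 : Matrix (Fin m ⊕ Fin m) Unit F) (Hm F m) := by
  unfold To
  rw [Matrix.fromBlocks_transpose, Matrix.fromBlocks_add, Tm_add]
  congr 1
  · ext i j; simp; ring
  · simp
  · simp

theorem det_odd (m : ℕ) (a : F) :
    (To F m a + (To F m a)ᵀ).det = 2 * a * (-1) ^ m := by
  rw [To_add, Matrix.det_fromBlocks_zero₂₁, det_hyp, Matrix.det_unique]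
  simp

theorem realizes_odd (Q : QuadraticForm F V) {m : ℕ} (w : Unit ⊕ (Fin m ⊕ Fin m) → V)
    (hX : ∀ i, polar Q (w (Sum.inl ())) (w (Sum.inr (Sum.inl i))) = 0 ∧
        polar Q (w (Sum.inl ())) (w (Sum.inr (Sum.inr i))) = 0)
    (hQb : ∀ i, Q (w (Sum.inr (Sum.inl i))) = 0 ∧ Q (w (Sum.inr (Sum.inr i))) = 0)
    (hef : ∀ i j, polar Q (w (Sum.inr (Sum.inl i))) (w (Sum.inr (Sum.inr j))) =
        if i = j then 1 else 0)
    (hee : ∀ i j, polar Q (w (Sum.inr (Sum.inl i))) (w (Sum.inr (Sum.inl j))) = 0 ∧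
        polar Q (w (Sum.inr (Sum.inr i))) (w (Sum.inr (Sum.inr j))) = 0) :
    Realizes Q w (To F m (Q (w (Sum.inl ())))) := by
  have hH : Realizes Q (w ∘ Sum.inr) (Tm F m) := realizes_hyp Q (w ∘ Sum.inr) hQb hef hee
  constructor
  · intro i
    rcases i with i | i
    · simp [To]
    · have := hH.1 i
      simp only [Function.comp] at this
      rw [this]; simp [To]
  · intro i j
    rw [To_add]
    rcases i with i | i <;> rcases j with j | j
    · rw [polar_self]; simp
    · rcases j with j | j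
      · rw [(hX j).1]; simp
      · rw [(hX j).2]; simp
    · rcases i with i | i
      · rw [polar_comm, (hX i).1]; simp
      · rw [polar_comm, (hX i).2]; simp
    · have := hH.2 i j
      simp only [Function.comp] at this
      rw [this, Tm_add]; simp

end Cfsg.Agent.Lib.Helper4_QF8
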