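import Mathlib
import Cfsg.Agent.Lib.Helper4_QF2
import Cfsg.Agent.Lib.Helper4_QF7
import Cfsg.Agent.Lib.Helper4_QF8
import Cfsg.Agent.Lib.Helper4_Gram2

set_option autoImplicit false

namespace Cfsg.Agent.Lib.Helper4_QF9

open QuadraticMap Module Matrix Cfsg.Agent.Lib.Helper4_QF7 Cfsg.Agent.Lib.Helper4_Gram1
  Cfsg.Agent.Lib.Helper4_Gram2 Cfsg.Agent.Lib.Helper4_QF8 Cfsg.Agent.Lib.Helper4_QF2

variable {F V : Type*} [Field F] [AddCommGroup V] [Module F V]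

theorem ell_adjust (Q : QuadraticForm F V) {k : ℕ} (w : (Fin k ⊕ Fin k) ⊕ Fin 2 → V)
    (ζ₂ ζ₁ α β : F) (hαβ : 2 * α + β = 1) (hζ : α ^ 2 + α * β + ζ₂ * β ^ 2 = ζ₁)
    (hQb : ∀ i, Q (w (Sum.inl (Sum.inl i))) = 0 ∧ Q (w (Sum.inl (Sum.inr i))) = 0)
    (hef : ∀ i j, polar Q (w (Sum.inl (Sum.inl i))) (w (Sum.inl (Sum.inr j))) =
        if i = j then 1 else 0)
    (hee : ∀ i j, polar Q (w (Sum.inl (Sum.inl i))) (w (Sum.inl (Sum.inl j))) = 0 ∧
        polar Q (w (Sum.inl (Sum.inr i))) (w (Sum.inl (Sum.inr j))) = 0)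
    (hP : ∀ i (k : Fin 2), polar Q (w (Sum.inl (Sum.inl i))) (w (Sum.inr k)) = 0 ∧
        polar Q (w (Sum.inl (Sum.inr i))) (w (Sum.inr k)) = 0)
    (hX : Q (w (Sum.inr 0)) = 1) (hXY : polar Q (w (Sum.inr 0)) (w (Sum.inr 1)) = 1)
    (hY : Q (w (Sum.inr 1)) = ζ₂) :
    ∃ w' : (Fin k ⊕ Fin k) ⊕ Fin 2 → V, Realizes Q w' (Te F k 1 ζ₁) := by
  classical
  refine ⟨Function.update w (Sum.inr 1) (α • w (Sum.inr 0) + β • w (Sum.inr 1)), ?_⟩
  set w' := Function.update w (Sum.inr 1) (α • w (Sum.inr 0) + β • w (Sum.inr 1)) with hw'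
  have e1 : ∀ i, w' (Sum.inl i) = w (Sum.inl i) := fun i => by
    rw [hw', Function.update_of_ne]; simp
  have e2 : w' (Sum.inr 0) = w (Sum.inr 0) := by
    rw [hw', Function.update_of_ne]; simp
  have e3 : w' (Sum.inr 1) = α • w (Sum.inr 0) + β • w (Sum.inr 1) := by
    rw [hw', Function.update_self]
  apply realizes_ell Q w' ζ₁
  · intro i; rw [e1, e1]; exact hQb i
  · intro i j; rw [e1, e1]; exact hef i j
  · intro i j; rw [e1, e1, e1, e1]; exact hee i j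
  · intro i k
    revert k
    rw [Fin.forall_fin_two]
    constructor
    · rw [e1, e1, e2]; exact hP i 0
    · rw [e1, e1, e3]
      simp only [polar_add_right, polar_smul_right, (hP i 0).1, (hP i 0).2, (hP i 1).1,
        (hP i 1).2, smul_zero, add_zero, and_self]
  · rw [e2]; exact hX
  · rw [e2, e3, polar_add_right, polar_smul_right, polar_smul_right, polar_self, hX, hXY]
    simp only [smul_eq_mul, nsmul_eq_mul, Nat.cast_ofNat, mul_one]
    linear_combination hαβ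
  · rw [e3, Q_comb2, hX, hY, hXY]
    linear_combination hζ

theorem odd_adjust (Q : QuadraticForm F V) {m : ℕ} (w : Unit ⊕ (Fin m ⊕ Fin m) → V) (t : F)
    (hX : ∀ i, polar Q (w (Sum.inl ())) (w (Sum.inr (Sum.inl i))) = 0 ∧
        polar Q (w (Sum.inl ())) (w (Sum.inr (Sum.inr i))) = 0)
    (hQb : ∀ i, Q (w (Sum.inr (Sum.inl i))) = 0 ∧ Q (w (Sum.inr (Sum.inr i))) = 0)
    (hef : ∀ i j, polar Q (w (Sum.inr (Sum.inl i))) (w (Sum.inr (Sum.inr j))) =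
        if i = j then 1 else 0)
    (hee : ∀ i j, polar Q (w (Sum.inr (Sum.inl i))) (w (Sum.inr (Sum.inl j))) = 0 ∧
        polar Q (w (Sum.inr (Sum.inr i))) (w (Sum.inr (Sum.inr j))) = 0) :
    ∃ w' : Unit ⊕ (Fin m ⊕ Fin m) → V,
      Realizes Q w' (To F m (t ^ 2 * Q (w (Sum.inl ())))) := by
  classical
  set w' := Function.update w (Sum.inl ()) (t • w (Sum.inl ())) with hw'
  have e1 : ∀ i, w' (Sum.inr i) = w (Sum.inr i) := fun i => by
    rw [hw', Function.update_of_ne]; simp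
  have e2 : w' (Sum.inl ()) = t • w (Sum.inl ()) := by
    rw [hw', Function.update_self]
  have e3 : Q (w' (Sum.inl ())) = t ^ 2 * Q (w (Sum.inl ())) := by
    rw [e2, QuadraticMap.map_smul, smul_eq_mul]; ring
  refine ⟨w', ?_⟩
  rw [← e3]
  apply realizes_odd Q w'
  · intro i
    rw [e1, e1, e2, polar_smul_left, polar_smul_left, (hX i).1, (hX i).2]
    simp
  · intro i; rw [e1, e1]; exact hQb i
  · intro i j; rw [e1, e1]; exact hef i j
  · intro i j; rw [e1, e1, e1, e1]; exact hee i j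

theorem irr_nonsquare (h2 : (2 : F) ≠ 0) (ζ : F) (hirr : ∀ t : F, t ^ 2 + t + ζ ≠ 0) :
    ¬ IsSquare (1 - 4 * ζ) := by
  have := disc_nonsquare h2 1 ζ (by
    intro z₁ z₂ h
    by_cases hz : z₂ = 0
    · rw [hz] at h
      have : z₁ ^ 2 = 0 := by linear_combination h
      exact ⟨pow_eq_zero_iff (two_ne_zero) |>.mp this, hz⟩
    · exfalso
      apply hirr (z₁ / z₂)
      field_simp
      linear_combination h)
  simpa using this

theorem exists_alpha_beta [Fintype F] (h2 : (2 : F) ≠ 0) (ζ₁ ζ₂ : F)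
    (h₁ : ∀ t : F, t ^ 2 + t + ζ₁ ≠ 0) (h₂ : ∀ t : F, t ^ 2 + t + ζ₂ ≠ 0) :
    ∃ α β : F, 2 * α + β = 1 ∧ α ^ 2 + α * β + ζ₂ * β ^ 2 = ζ₁ := by
  have n1 := irr_nonsquare h2 ζ₁ h₁
  have n2 := irr_nonsquare h2 ζ₂ h₂
  have hx : (1 - 4 * ζ₁) ≠ 0 := by
    intro h; rw [h] at n1; exact n1 ⟨0, by simp⟩
  have hy : (1 - 4 * ζ₂) ≠ 0 := by
    intro h; rw [h] at n2; exact n2 ⟨0, by simp⟩
  obtain ⟨r, hr⟩ := (isSquare_mul_nonsquare (1 - 4 * ζ₁) (1 - 4 * ζ₂) hx n2).mpr n1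
  refine ⟨(1 - r / (1 - 4 * ζ₂)) / 2, r / (1 - 4 * ζ₂), ?_, ?_⟩
  · field_simp
    ring
  · field_simp
    linear_combination (1 - 4 * ζ₂) * hr

end Cfsg.Agent.Lib.Helper4_QF9
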