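import Mathlib
import Cfsg.Agent.Lib.Helper4_QF4
import Cfsg.Agent.Lib.Helper4_QF7
import Cfsg.Agent.Lib.Helper4_QF8
import Cfsg.Agent.Lib.Helper4_QF9
import Cfsg.Agent.Lib.Helper4_Gram2

set_option autoImplicit false

namespace Cfsg.Agent.Lib.Helper4_QF10

open QuadraticMap Module Matrix Cfsg.Agent.Lib.Helper4_QF7 Cfsg.Agent.Lib.Helper4_Gram1
  Cfsg.Agent.Lib.Helper4_Gram2 Cfsg.Agent.Lib.Helper4_QF8 Cfsg.Agent.Lib.Helper4_QF9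

variable {F : Type*} [Field F]

/-- the discriminant in the standard basis -/
noncomputable def disc {n : ℕ} (Q : QuadraticForm F (Fin n → F)) : F :=
  (Matrix.of (fun i j : Fin n => QuadraticMap.polar ⇑Q (Pi.single i 1) (Pi.single j 1))).det

theorem disc_eq {n : ℕ} (Q : QuadraticForm F (Fin n → F)) :
    disc Q = (Matrix.of (fun i j : Fin n =>
      polar Q (Pi.basisFun F (Fin n) i) (Pi.basisFun F (Fin n) j))).det := by
  unfold disc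
  simp only [Pi.basisFun_apply]

theorem forward {n : ℕ} (Q₁ Q₂ : QuadraticForm F (Fin n → F))
    (g : (Fin n → F) ≃ₗ[F] (Fin n → F)) (hg : ∀ v, Q₂ (g v) = Q₁ v) :
    IsSquare (disc Q₁ * disc Q₂) := by
  have hpol : ∀ v w, polar Q₂ (g v) (g w) = polar Q₁ v w := by
    intro v w
    unfold polar
    rw [← map_add, hg, hg, hg]
  set c := (Pi.basisFun F (Fin n)).map g with hc
  obtain ⟨s, _, hdet⟩ := gram_det' Q₂ (Pi.basisFun F (Fin n)) c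
  have h1 : disc Q₁ = (Matrix.of (fun i j => polar Q₂ (c i) (c j))).det := by
    rw [disc_eq]
    congr 1
    ext i j
    simp only [Matrix.of_apply, hc, Basis.map_apply, hpol]
  rw [h1, hdet, ← disc_eq]
  exact ⟨s * disc Q₂, by ring⟩

theorem backward [Fintype F] (h2 : (2 : F) ≠ 0) {n : ℕ} (Q₁ Q₂ : QuadraticForm F (Fin n → F))
    (h₁ : (polarBilin Q₁).Nondegenerate) (h₂ : (polarBilin Q₂).Nondegenerate)
    (hsq : IsSquare (disc Q₁ * disc Q₂)) :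
    ∃ g : (Fin n → F) ≃ₗ[F] (Fin n → F), ∀ v, Q₂ (g v) = Q₁ v := by
  rcases Nat.even_or_odd' n with ⟨m, hm | hm⟩
  · -- even
    rcases Nat.eq_zero_or_pos m with hm0 | hmpos
    · have hn0 : n = 0 := by omega
      subst hn0
      refine ⟨LinearEquiv.refl _ _, fun v => ?_⟩
      have : v = 0 := Subsingleton.elim _ _
      rw [this, LinearEquiv.refl_apply, QuadraticMap.map_zero, QuadraticMap.map_zero]
    · obtain ⟨m', rfl⟩ : ∃ m', m = m' + 1 := ⟨m - 1, by omega⟩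
      have hV : finrank F (Fin n → F) = 2 * (m' + 1) := by
        rw [Module.finrank_fin_fun, hm]
      rcases Cfsg.Agent.Lib.Helper4_QF4.even_main m' hV Q₁ h₁ with
        ⟨b₁, a1, a2, a3⟩ | ⟨b₁, ζ₁, irr₁, a1, a2, a3, a4, a5, a6, a7⟩ <;>
      rcases Cfsg.Agent.Lib.Helper4_QF4.even_main m' hV Q₂ h₂ with
        ⟨b₂, c1, c2, c3⟩ | ⟨b₂, ζ₂, irr₂, c1, c2, c3, c4, c5, c6, c7⟩
      · exact iso_of_realizes Q₁ Q₂ h₁ b₁ b₂ _ (realizes_hyp Q₁ b₁ a1 a2 a3)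
          (realizes_hyp Q₂ b₂ c1 c2 c3)
      · exfalso
        have r1 := realizes_hyp Q₁ b₁ a1 a2 a3
        have r2 := realizes_ell Q₂ b₂ ζ₂ c1 c2 c3 c4 c5 c6 c7
        obtain ⟨s₁, hs₁, d1⟩ := disc_of_realizes Q₁ b₁ _ r1 (Pi.basisFun F (Fin n))
        obtain ⟨s₂, hs₂, d2⟩ := disc_of_realizes Q₂ b₂ _ r2 (Pi.basisFun F (Fin n))
        rw [disc_eq, disc_eq, d1, d2, Tm_add, det_hyp, det_ell] at hsq
        have e : s₁ ^ 2 * (-1) ^ (m' + 1) * (s₂ ^ 2 * ((-1) ^ (m' + 1) * (1 ^ 2 - 4 * ζ₂))) =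
            (s₁ * s₂ * (-1) ^ (m' + 1)) ^ 2 * (1 - 4 * ζ₂) := by ring
        rw [e, isSquare_mul_sq _ _ (mul_ne_zero (mul_ne_zero hs₁ hs₂)
          (pow_ne_zero _ (neg_ne_zero.mpr one_ne_zero)))] at hsq
        exact irr_nonsquare h2 ζ₂ irr₂ hsq
      · exfalso
        have r1 := realizes_ell Q₁ b₁ ζ₁ a1 a2 a3 a4 a5 a6 a7
        have r2 := realizes_hyp Q₂ b₂ c1 c2 c3
        obtain ⟨s₁, hs₁, d1⟩ := disc_of_realizes Q₁ b₁ _ r1 (Pi.basisFun F (Fin n))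
        obtain ⟨s₂, hs₂, d2⟩ := disc_of_realizes Q₂ b₂ _ r2 (Pi.basisFun F (Fin n))
        rw [disc_eq, disc_eq, d1, d2, Tm_add, det_hyp, det_ell] at hsq
        have e : s₁ ^ 2 * ((-1) ^ (m' + 1) * (1 ^ 2 - 4 * ζ₁)) * (s₂ ^ 2 * (-1) ^ (m' + 1)) =
            (s₁ * s₂ * (-1) ^ (m' + 1)) ^ 2 * (1 - 4 * ζ₁) := by ring
        rw [e, isSquare_mul_sq _ _ (mul_ne_zero (mul_ne_zero hs₁ hs₂)
          (pow_ne_zero _ (neg_ne_zero.mpr one_ne_zero)))] at hsq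
        exact irr_nonsquare h2 ζ₁ irr₁ hsq
      · obtain ⟨α, β, hab, hz⟩ := exists_alpha_beta h2 ζ₁ ζ₂ irr₁ irr₂
        obtain ⟨w', hw'⟩ := ell_adjust Q₂ b₂ ζ₂ ζ₁ α β hab hz c1 c2 c3 c4 c5 c6 c7
        exact iso_of_realizes Q₁ Q₂ h₁ b₁ w' _
          (realizes_ell Q₁ b₁ ζ₁ a1 a2 a3 a4 a5 a6 a7) hw'
  · -- odd
    have hV : finrank F (Fin n → F) = 2 * m + 1 := by
      rw [Module.finrank_fin_fun, hm]
    obtain ⟨b₁, a0, a1, a2, a3, a4⟩ := Cfsg.Agent.Lib.Helper4_QF4.odd_main m hV Q₁ h₁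
    obtain ⟨b₂, c0, c1, c2, c3, c4⟩ := Cfsg.Agent.Lib.Helper4_QF4.odd_main m hV Q₂ h₂
    have r1 := realizes_odd Q₁ b₁ a1 a2 a3 a4
    have r2 := realizes_odd Q₂ b₂ c1 c2 c3 c4
    obtain ⟨s₁, hs₁, d1⟩ := disc_of_realizes Q₁ b₁ _ r1 (Pi.basisFun F (Fin n))
    obtain ⟨s₂, hs₂, d2⟩ := disc_of_realizes Q₂ b₂ _ r2 (Pi.basisFun F (Fin n))
    rw [disc_eq, disc_eq, d1, d2, det_odd, det_odd] at hsq
    set A₁ := Q₁ (b₁ (Sum.inl ())) with hA₁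
    set A₂ := Q₂ (b₂ (Sum.inl ())) with hA₂
    have e : s₁ ^ 2 * (2 * A₁ * (-1) ^ m) * (s₂ ^ 2 * (2 * A₂ * (-1) ^ m)) =
        (s₁ * s₂ * 2 * (-1) ^ m) ^ 2 * (A₁ * A₂) := by ring
    rw [e, isSquare_mul_sq _ _ (mul_ne_zero (mul_ne_zero (mul_ne_zero hs₁ hs₂) h2)
      (pow_ne_zero _ (neg_ne_zero.mpr one_ne_zero)))] at hsq
    obtain ⟨r, hr⟩ := hsq
    obtain ⟨w', hw'⟩ := odd_adjust Q₂ b₂ (r / A₂) c1 c2 c3 c4
    have e2 : (r / A₂) ^ 2 * Q₂ (b₂ (Sum.inl ())) = A₁ := by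
      rw [← hA₂]
      field_simp
      rw [mul_comm, hr]; ring
    rw [e2] at hw'
    exact iso_of_realizes Q₁ Q₂ h₁ b₁ w' _ r1 hw'

theorem main [Fintype F] (h2 : (2 : F) ≠ 0) {n : ℕ} (Q₁ Q₂ : QuadraticForm F (Fin n → F))
    (h₁ : (polarBilin Q₁).Nondegenerate) (h₂ : (polarBilin Q₂).Nondegenerate) :
    (∃ g : (Fin n → F) ≃ₗ[F] (Fin n → F), ∀ v, Q₂ (g v) = Q₁ v) ↔
    IsSquare ((Matrix.of (fun i j : Fin n =>
        QuadraticMap.polar ⇑Q₁ (Pi.single i 1) (Pi.single j 1))).det *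
      (Matrix.of (fun i j : Fin n =>
        QuadraticMap.polar ⇑Q₂ (Pi.single i 1) (Pi.single j 1))).det) := by
  constructor
  · rintro ⟨g, hg⟩
    exact forward Q₁ Q₂ g hg
  · intro h
    exact backward h2 Q₁ Q₂ h₁ h₂ h

end Cfsg.Agent.Lib.Helper4_QF10
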