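import Mathlib
import Cfsg.Agent.Lib.Helper4_Gram0

set_option autoImplicit false

namespace Cfsg.Agent.Lib.Helper4_TotSing0

open QuadraticMap Module Matrix Cfsg.Agent.Lib.Helper4_Gram0

variable {F : Type*} [Field F]

theorem polar_qT_bilin {κ : Type*} [Fintype κ] [DecidableEq κ] (T : Matrix κ κ F) (u v : κ → F) :
    polar (qT T) u v = Matrix.toBilin' (T + Tᵀ) u v := by
  rw [polar_qT, Matrix.toBilin'_apply']

theorem qT_add {κ : Type*} [Fintype κ] [DecidableEq κ] (T : Matrix κ κ F) (u v : κ → F) :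
    qT T (u + v) = qT T u + qT T v + Matrix.toBilin' (T + Tᵀ) u v := by
  rw [← polar_qT_bilin]
  unfold polar
  ring

theorem le_orth {κ : Type*} [Fintype κ] [DecidableEq κ] (T : Matrix κ κ F)
    (U : Submodule F (κ → F)) (hU : ∀ u ∈ U, qT T u = 0) :
    U ≤ (Matrix.toBilin' (T + Tᵀ)).orthogonal U := by
  intro v hv
  rw [LinearMap.BilinForm.mem_orthogonal_iff]
  intro u hu
  have h1 := qT_add T u v
  rw [hU _ (U.add_mem hu hv), hU u hu, hU v hv] at h1
  simpa using h1.symm

theorem tot_sing_bound {κ : Type*} [Fintype κ] [DecidableEq κ] (T : Matrix κ κ F)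
    (hdet : (T + Tᵀ).det ≠ 0) (U : Submodule F (κ → F)) (hU : ∀ u ∈ U, qT T u = 0) :
    2 * finrank F U ≤ Fintype.card κ := by
  have hnd : (Matrix.toBilin' (T + Tᵀ)).Nondegenerate :=
    LinearMap.BilinForm.nondegenerate_toBilin'_of_det_ne_zero' _ hdet
  have h1 := LinearMap.BilinForm.finrank_orthogonal hnd U
  have h2 := Submodule.finrank_mono (le_orth T U hU)
  have h3 : finrank F (κ → F) = Fintype.card κ := Module.finrank_fintype_fun_eq_card F
  have h4 := Submodule.finrank_le U
  omega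

theorem eq_orth {κ : Type*} [Fintype κ] [DecidableEq κ] (T : Matrix κ κ F)
    (hdet : (T + Tᵀ).det ≠ 0) (U : Submodule F (κ → F)) (hU : ∀ u ∈ U, qT T u = 0)
    (hfin : 2 * finrank F U = Fintype.card κ) :
    (Matrix.toBilin' (T + Tᵀ)).orthogonal U = U := by
  have hnd : (Matrix.toBilin' (T + Tᵀ)).Nondegenerate :=
    LinearMap.BilinForm.nondegenerate_toBilin'_of_det_ne_zero' _ hdet
  have h1 := LinearMap.BilinForm.finrank_orthogonal hnd U
  have h3 : finrank F (κ → F) = Fintype.card κ := Module.finrank_fintype_fun_eq_card F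
  symm
  apply Submodule.eq_of_le_of_finrank_eq (le_orth T U hU)
  omega

end Cfsg.Agent.Lib.Helper4_TotSing0
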