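import Mathlib
import Cfsg.Agent.Lib.Helper4_QF5
import Cfsg.Agent.Lib.Helper4_QF7
import Cfsg.Agent.Lib.Helper4_Gram0
import Cfsg.Agent.Lib.Helper4_TotSing0

set_option autoImplicit false

namespace Cfsg.Agent.Lib.Helper4_QF11

open QuadraticMap Module Matrix Cfsg.Agent.Lib.Helper4_QF5 Cfsg.Agent.Lib.Helper4_QF7
  Cfsg.Agent.Lib.Helper4_Gram0 Cfsg.Agent.Lib.Helper4_TotSing0

variable {F : Type*} [Field F]

/-- the quadratic form of a matrix -/
noncomputable def QT {κ : Type*} [Fintype κ] [DecidableEq κ] (T : Matrix κ κ F) :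
    QuadraticForm F (κ → F) :=
  LinearMap.BilinMap.toQuadraticMap (Matrix.toBilin' T)

theorem QT_apply {κ : Type*} [Fintype κ] [DecidableEq κ] (T : Matrix κ κ F) (v : κ → F) :
    QT T v = qT T v := by
  simp [QT, qT, Matrix.toBilin'_apply']

theorem QT_coe {κ : Type*} [Fintype κ] [DecidableEq κ] (T : Matrix κ κ F) :
    ⇑(QT T) = qT T := funext (QT_apply T)

theorem polar_QT {κ : Type*} [Fintype κ] [DecidableEq κ] (T : Matrix κ κ F) (u v : κ → F) :
    polar (QT T) u v = Matrix.toBilin' (T + Tᵀ) u v := by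
  rw [QT_coe, polar_qT_bilin]

theorem QT_nondeg {κ : Type*} [Fintype κ] [DecidableEq κ] (T : Matrix κ κ F)
    (hdet : (T + Tᵀ).det ≠ 0) : (polarBilin (QT T)).Nondegenerate := by
  have : polarBilin (QT T) = Matrix.toBilin' (T + Tᵀ) := by
    refine LinearMap.ext₂ (fun u v => ?_)
    rw [polarBilin_apply_apply, polar_QT]
  rw [this]
  exact LinearMap.BilinForm.nondegenerate_toBilin'_of_det_ne_zero' _ hdet

theorem realizes_std {κ : Type*} [Fintype κ] [DecidableEq κ] (T : Matrix κ κ F) :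
    Realizes (QT T) (Pi.basisFun F κ) T := by
  constructor
  · intro i
    rw [QT_apply, qT, Pi.basisFun_apply]
    simp [dotProduct, Pi.single_apply]
  · intro i j
    rw [polar_QT, Matrix.toBilin'_apply', Pi.basisFun_apply, Pi.basisFun_apply]
    simp [dotProduct, Pi.single_apply]

theorem iso_of_realizes2 {V₁ V₂ : Type*} [AddCommGroup V₁] [Module F V₁] [AddCommGroup V₂]
    [Module F V₂] [FiniteDimensional F V₁] [FiniteDimensional F V₂]
    (hdim : finrank F V₁ = finrank F V₂) {ι : Type*}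
    (Q₁ : QuadraticForm F V₁) (Q₂ : QuadraticForm F V₂)
    (hQ : (polarBilin Q₁).Nondegenerate) (b₁ : Module.Basis ι F V₁) (w : ι → V₂)
    (T : Matrix ι ι F) (h₁ : Realizes Q₁ b₁ T) (h₂ : Realizes Q₂ w T) :
    ∃ g : V₁ ≃ₗ[F] V₂, ∀ v, Q₂ (g v) = Q₁ v := by
  set g : V₁ →ₗ[F] V₂ := b₁.constr F w with hg
  have key : Q₂.comp g = Q₁ := by
    apply qf_ext _ _ b₁
    · intro i
      rw [QuadraticMap.comp_apply, hg, Basis.constr_basis, h₁.1, h₂.1]
    · intro i j _
      have : polar (Q₂.comp g) (b₁ i) (b₁ j) = polar Q₂ (g (b₁ i)) (g (b₁ j)) := by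
        simp [polar, map_add]
      rw [this, hg, Basis.constr_basis, Basis.constr_basis, h₁.2, h₂.2]
  have hgv : ∀ v, Q₂ (g v) = Q₁ v := by
    intro v
    have := congrArg (fun q : QuadraticForm F V₁ => q v) key
    simpa using this
  have hpol : ∀ v w, polar Q₂ (g v) (g w) = polar Q₁ v w := by
    intro v w
    unfold polar
    rw [← map_add, hgv, hgv, hgv]
  have hinj : Function.Injective g := by
    rw [← LinearMap.ker_eq_bot, LinearMap.ker_eq_bot']
    intro v hv
    apply hQ.1 v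
    intro w
    have := hpol v w
    rw [hv, polar_zero_left] at this
    exact this.symm
  refine ⟨g.linearEquivOfInjective hinj hdim, ?_⟩
  intro v
  rw [LinearMap.linearEquivOfInjective_apply]
  exact hgv v

end Cfsg.Agent.Lib.Helper4_QF11
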