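import Mathlib
import Cfsg.Prelude.Def_Classical
import Cfsg.Agent.Lib.Helper4_QF4
import Cfsg.Agent.Lib.Helper4_QF8
import Cfsg.Agent.Lib.Helper4_QF11
import Cfsg.Agent.Lib.Helper4_Gram2
import Cfsg.Agent.Lib.Helper4_Count1

set_option autoImplicit false

namespace Cfsg.Agent.Lib.Helper4_QF12

open QuadraticMap Module Matrix Cfsg.Agent.Lib.Helper4_QF7 Cfsg.Agent.Lib.Helper4_QF8
  Cfsg.Agent.Lib.Helper4_QF11 Cfsg.Agent.Lib.Helper4_Gram0 Cfsg.Agent.Lib.Helper4_Gram1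
  Cfsg.Agent.Lib.Helper4_Gram2 Cfsg.Agent.Lib.Helper4_Count1

/-- plus type -/
def TypeP (m : ℕ) (q : (Fin m ⊕ Fin m → ZMod 2) → ZMod 2) : Prop :=
  ∃ g : (Fin m ⊕ Fin m → ZMod 2) ≃ₗ[ZMod 2] (Fin m ⊕ Fin m → ZMod 2),
    ∀ v, q v = Cfsg.quadFormPlus m (ZMod 2) (g v)

/-- minus type -/
def TypeM (m : ℕ) (q : (Fin m ⊕ Fin m → ZMod 2) → ZMod 2) : Prop :=
  ∃ g : (Fin m ⊕ Fin m → ZMod 2) ≃ₗ[ZMod 2] ((Fin (m - 1) ⊕ Fin (m - 1)) ⊕ Fin 2 → ZMod 2),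
    ∀ v, q v = Cfsg.quadFormMinus (m - 1) (ZMod 2) 1 1 (g v)

theorem zeta_eq_one (ζ : ZMod 2) (h : ∀ t : ZMod 2, t ^ 2 + t + ζ ≠ 0) : ζ = 1 := by
  revert ζ; decide

theorem typeA {m : ℕ} (hm : 1 ≤ m) (Q : QuadraticForm (ZMod 2) (Fin m ⊕ Fin m → ZMod 2))
    (hQ : (polarBilin Q).Nondegenerate) : TypeP m Q ∨ TypeM m Q := by
  obtain ⟨m', rfl⟩ : ∃ m', m = m' + 1 := ⟨m - 1, by omega⟩
  have hV : finrank (ZMod 2) (Fin (m' + 1) ⊕ Fin (m' + 1) → ZMod 2) = 2 * (m' + 1) := by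
    rw [Module.finrank_fintype_fun_eq_card, Fintype.card_sum, Fintype.card_fin]; ring
  rcases Cfsg.Agent.Lib.Helper4_QF4.even_main m' hV Q hQ with
    ⟨b, a1, a2, a3⟩ | ⟨b, ζ, irr, a1, a2, a3, a4, a5, a6, a7⟩
  · left
    obtain ⟨g, hg⟩ := iso_of_realizes2 rfl Q (QT (Tm (ZMod 2) (m' + 1))) hQ b
      (Pi.basisFun (ZMod 2) _) _ (realizes_hyp Q b a1 a2 a3) (realizes_std _)
    refine ⟨g, fun v => ?_⟩
    rw [← hg v, QT_apply, qplus_eq]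
  · right
    have hζ := zeta_eq_one ζ irr
    subst hζ
    have hdim : finrank (ZMod 2) (Fin (m' + 1) ⊕ Fin (m' + 1) → ZMod 2) =
        finrank (ZMod 2) ((Fin m' ⊕ Fin m') ⊕ Fin 2 → ZMod 2) := by
      rw [Module.finrank_fintype_fun_eq_card, Module.finrank_fintype_fun_eq_card]
      simp only [Fintype.card_sum, Fintype.card_fin]
      ring
    obtain ⟨g, hg⟩ := iso_of_realizes2 hdim Q (QT (Te (ZMod 2) m' 1 1)) hQ b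
      (Pi.basisFun (ZMod 2) _) _ (realizes_ell Q b 1 a1 a2 a3 a4 a5 a6 a7) (realizes_std _)
    refine ⟨g, fun v => ?_⟩
    rw [← hg v, QT_apply, qminus_eq]
    rfl

theorem countP {m : ℕ} (q : (Fin m ⊕ Fin m → ZMod 2) → ZMod 2) (h : TypeP m q) :
    Nat.card {v // q v = 0} = NPlus (ZMod 2) m := by
  obtain ⟨g, hg⟩ := h
  exact Nat.card_congr (g.toEquiv.subtypeEquiv (fun v => by
    show q v = 0 ↔ Cfsg.quadFormPlus m (ZMod 2) (g v) = 0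
    rw [hg v]))

theorem countM {m : ℕ} (q : (Fin m ⊕ Fin m → ZMod 2) → ZMod 2) (h : TypeM m q) :
    Nat.card {v // q v = 0} = NMinus (ZMod 2) 1 1 (m - 1) := by
  obtain ⟨g, hg⟩ := h
  exact Nat.card_congr (g.toEquiv.subtypeEquiv (fun v => by
    show q v = 0 ↔ Cfsg.quadFormMinus (m - 1) (ZMod 2) 1 1 (g v) = 0
    rw [hg v]))

theorem hab2 : ∀ z₁ z₂ : ZMod 2, z₁ ^ 2 + 1 * z₁ * z₂ + 1 * z₂ ^ 2 = 0 → z₁ = 0 ∧ z₂ = 0 := by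
  decide

theorem NPlus_two {m : ℕ} (hm : 1 ≤ m) :
    NPlus (ZMod 2) m = 2 ^ (2 * m - 1) + 2 ^ (m - 1) := by
  obtain ⟨k, rfl⟩ : ∃ k, m = k + 1 := ⟨m - 1, by omega⟩
  have c := NPlus_closed (F := ZMod 2) (k + 1)
  rw [ZMod.card] at c
  have e1 : 2 * (k + 1) - 1 = 2 * k + 1 := by omega
  have e2 : k + 1 - 1 = k := by omega
  rw [e1, e2]
  have p1 : 2 ^ (2 * (k + 1)) = 2 * 2 ^ (2 * k + 1) := by rw [← pow_succ']; congr 1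
  have p2 : 2 ^ (k + 1 + 1) = 2 * 2 ^ (k + 1) := by rw [← pow_succ']
  have p3 : 2 ^ (k + 1) = 2 * 2 ^ k := by rw [← pow_succ']
  omega

theorem NMinus_two {m : ℕ} (hm : 1 ≤ m) :
    NMinus (ZMod 2) 1 1 (m - 1) = 2 ^ (2 * m - 1) - 2 ^ (m - 1) := by
  obtain ⟨k, rfl⟩ : ∃ k, m = k + 1 := ⟨m - 1, by omega⟩
  have c := NMinus_closed (F := ZMod 2) 1 1 hab2 k
  rw [ZMod.card] at c
  have e1 : 2 * (k + 1) - 1 = 2 * k + 1 := by omega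
  have e2 : k + 1 - 1 = k := by omega
  rw [e1, e2]
  have p1 : 2 ^ (2 * k + 2) = 2 * 2 ^ (2 * k + 1) := by rw [← pow_succ']
  have p2 : 2 ^ (k + 2) = 2 * 2 ^ (k + 1) := by rw [← pow_succ']
  have p3 : 2 ^ (k + 1) = 2 * 2 ^ k := by rw [← pow_succ']
  have p4 : 2 ^ k ≤ 2 ^ (2 * k + 1) := Nat.pow_le_pow_right (by norm_num) (by omega)
  omega

theorem NPlus_ne_NMinus {m : ℕ} (hm : 1 ≤ m) :
    NPlus (ZMod 2) m ≠ NMinus (ZMod 2) 1 1 (m - 1) := by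
  rw [NPlus_two hm, NMinus_two hm]
  have h1 : 0 < 2 ^ (m - 1) := by positivity
  have h2 : 2 ^ (m - 1) ≤ 2 ^ (2 * m - 1) := Nat.pow_le_pow_right (by norm_num) (by omega)
  generalize 2 ^ (m - 1) = a at h1 h2 ⊢
  generalize 2 ^ (2 * m - 1) = b at h2 ⊢
  omega

theorem iso_of_count {m : ℕ} (hm : 1 ≤ m)
    (Q₁ Q₂ : QuadraticForm (ZMod 2) (Fin m ⊕ Fin m → ZMod 2))
    (h₁ : (polarBilin Q₁).Nondegenerate) (h₂ : (polarBilin Q₂).Nondegenerate)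
    (hc : Nat.card {v // Q₁ v = 0} = Nat.card {v // Q₂ v = 0}) :
    ∃ g : (Fin m ⊕ Fin m → ZMod 2) ≃ₗ[ZMod 2] (Fin m ⊕ Fin m → ZMod 2),
      ∀ v, Q₂ (g v) = Q₁ v := by
  rcases typeA hm Q₁ h₁ with t1 | t1 <;> rcases typeA hm Q₂ h₂ with t2 | t2
  · obtain ⟨g₁, hg₁⟩ := t1
    obtain ⟨g₂, hg₂⟩ := t2
    refine ⟨g₁.trans g₂.symm, fun v => ?_⟩
    rw [hg₂, hg₁]
    simp
  · exfalso
    rw [countP _ t1, countM _ t2] at hc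
    exact NPlus_ne_NMinus hm hc
  · exfalso
    rw [countM _ t1, countP _ t2] at hc
    exact NPlus_ne_NMinus hm hc.symm
  · obtain ⟨g₁, hg₁⟩ := t1
    obtain ⟨g₂, hg₂⟩ := t2
    refine ⟨g₁.trans g₂.symm, fun v => ?_⟩
    rw [hg₂, hg₁]
    simp

end Cfsg.Agent.Lib.Helper4_QF12
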