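import Mathlib
import Cfsg.Prelude.Def_Classical
import Cfsg.Agent.Lib.Helper4_QF12

set_option autoImplicit false

namespace Cfsg.Agent.Lib.Helper4_QF13

open QuadraticMap Module Matrix Cfsg.Agent.Lib.Helper4_QF7 Cfsg.Agent.Lib.Helper4_QF8
  Cfsg.Agent.Lib.Helper4_QF11 Cfsg.Agent.Lib.Helper4_Gram0 Cfsg.Agent.Lib.Helper4_Gram1
  Cfsg.Agent.Lib.Helper4_Gram2 Cfsg.Agent.Lib.Helper4_Count1 Cfsg.Agent.Lib.Helper4_QF12
  Cfsg.Agent.Lib.Helper4_TotSing0

/-- the polarization of the plus form as a bilinear form -/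
theorem P_eq (m : ℕ) (u v : Fin m ⊕ Fin m → ZMod 2) :
    Cfsg.quadFormPlus m (ZMod 2) (u + v) - Cfsg.quadFormPlus m (ZMod 2) u -
      Cfsg.quadFormPlus m (ZMod 2) v = Matrix.toBilin' (Hm (ZMod 2) m) u v := by
  rw [qplus_eq, ← Tm_add, ← polar_qT_bilin]
  rfl

/-- the condition "q polarizes to the standard form" -/
def Pol (m : ℕ) (q : (Fin m ⊕ Fin m → ZMod 2) → ZMod 2) : Prop :=
  ∀ u v : (Fin m ⊕ Fin m → ZMod 2), q (u + v) = q u + q v +
    (Cfsg.quadFormPlus m (ZMod 2) (u + v) - Cfsg.quadFormPlus m (ZMod 2) u -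
      Cfsg.quadFormPlus m (ZMod 2) v)

theorem Pol.zero {m : ℕ} {q : (Fin m ⊕ Fin m → ZMod 2) → ZMod 2} (hq : Pol m q) : q 0 = 0 := by
  have := hq 0 0
  rw [P_eq] at this
  simp only [add_zero, map_zero, LinearMap.zero_apply] at this
  generalize q 0 = x at this
  revert x; decide

/-- the quadratic form structure -/
noncomputable def ofFun (m : ℕ) (q : (Fin m ⊕ Fin m → ZMod 2) → ZMod 2) (hq : Pol m q) :
    QuadraticForm (ZMod 2) (Fin m ⊕ Fin m → ZMod 2) where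
  toFun := q
  toFun_smul := by
    intro a x
    have h0 := hq.zero
    have : a = 0 ∨ a = 1 := by revert a; decide
    rcases this with rfl | rfl
    · simp [h0]
    · simp
  exists_companion' := ⟨Matrix.toBilin' (Hm (ZMod 2) m), fun x y => by rw [hq, P_eq]⟩

theorem ofFun_apply (m : ℕ) (q : (Fin m ⊕ Fin m → ZMod 2) → ZMod 2) (hq : Pol m q)
    (v : Fin m ⊕ Fin m → ZMod 2) : ofFun m q hq v = q v := rfl

theorem ofFun_nondeg (m : ℕ) (q : (Fin m ⊕ Fin m → ZMod 2) → ZMod 2) (hq : Pol m q) :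
    (polarBilin (ofFun m q hq)).Nondegenerate := by
  have : polarBilin (ofFun m q hq) = Matrix.toBilin' (Hm (ZMod 2) m) := by
    refine LinearMap.ext₂ (fun u v => ?_)
    rw [polarBilin_apply_apply]
    unfold polar
    rw [ofFun_apply, ofFun_apply, ofFun_apply, hq, P_eq]
    ring
  rw [this]
  apply LinearMap.BilinForm.nondegenerate_toBilin'_of_det_ne_zero'
  rw [det_hyp]
  exact pow_ne_zero _ (neg_ne_zero.mpr one_ne_zero)

theorem count_mem {m : ℕ} (hm : 1 ≤ m) (q : (Fin m ⊕ Fin m → ZMod 2) → ZMod 2) (hq : Pol m q) :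
    (TypeP m q ∧ Nat.card {v // q v = 0} = 2 ^ (2 * m - 1) + 2 ^ (m - 1)) ∨
    (TypeM m q ∧ Nat.card {v // q v = 0} = 2 ^ (2 * m - 1) - 2 ^ (m - 1)) := by
  rcases typeA hm (ofFun m q hq) (ofFun_nondeg m q hq) with t | t
  · left
    refine ⟨t, ?_⟩
    rw [← NPlus_two hm]
    exact countP _ t
  · right
    refine ⟨t, ?_⟩
    rw [← NMinus_two hm]
    exact countM _ t

/-- the shifted form -/
def shift (m : ℕ) (q : (Fin m ⊕ Fin m → ZMod 2) → ZMod 2) (w : Fin m ⊕ Fin m → ZMod 2) :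
    (Fin m ⊕ Fin m → ZMod 2) → ZMod 2 :=
  fun v => q v + (Cfsg.quadFormPlus m (ZMod 2) (v + w) - Cfsg.quadFormPlus m (ZMod 2) v -
      Cfsg.quadFormPlus m (ZMod 2) w)

theorem shift_pol {m : ℕ} (q : (Fin m ⊕ Fin m → ZMod 2) → ZMod 2) (hq : Pol m q)
    (w : Fin m ⊕ Fin m → ZMod 2) : Pol m (shift m q w) := by
  intro u v
  unfold shift
  rw [hq u v, P_eq, P_eq, P_eq, P_eq]
  simp only [map_add, LinearMap.add_apply]
  ring

theorem shift_eq {m : ℕ} (q : (Fin m ⊕ Fin m → ZMod 2) → ZMod 2) (hq : Pol m q)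
    (w v : Fin m ⊕ Fin m → ZMod 2) : q (v + w) = shift m q w v + q w := by
  unfold shift
  rw [hq v w]
  ring

end Cfsg.Agent.Lib.Helper4_QF13
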