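import Mathlib
import Cfsg.Prelude.Def_Classical
import Cfsg.Agent.Lib.Helper4_QF13

set_option autoImplicit false

namespace Cfsg.Agent.Lib.Helper4_QF14

open QuadraticMap Module Matrix Cfsg.Agent.Lib.Helper4_QF12 Cfsg.Agent.Lib.Helper4_QF13

theorem zmod2_cases (x : ZMod 2) : x = 0 ∨ x = 1 := by revert x; decide

theorem main2564 (m : ℕ) (hm : 1 ≤ m) (q : (Fin m ⊕ Fin m → ZMod 2) → ZMod 2) (hq : Pol m q)
    (w : Fin m ⊕ Fin m → ZMod 2) :
    (∀ u v : (Fin m ⊕ Fin m → ZMod 2), shift m q w (u + v) = shift m q w u + shift m q w v +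
        (Cfsg.quadFormPlus m (ZMod 2) (u + v) - Cfsg.quadFormPlus m (ZMod 2) u -
          Cfsg.quadFormPlus m (ZMod 2) v)) ∧
    ((∃ g : (Fin m ⊕ Fin m → ZMod 2) ≃ₗ[ZMod 2] (Fin m ⊕ Fin m → ZMod 2),
      ∀ v, shift m q w v = q (g v)) ↔ q w = 0) := by
  classical
  refine ⟨shift_pol q hq w, ?_⟩
  have hs := shift_pol q hq w
  constructor
  · rintro ⟨g, hg⟩
    by_contra hw
    have hw1 : q w = 1 := (zmod2_cases (q w)).resolve_left hw
    have c1 : Nat.card {v // shift m q w v = 0} = Nat.card {v // q v = 0} :=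
      Nat.card_congr (g.toEquiv.subtypeEquiv (fun v => by
        show shift m q w v = 0 ↔ q (g v) = 0
        rw [hg v]))
    have c2 : Nat.card {v // shift m q w v = 0} = Nat.card {v // ¬ (q v = 0)} :=
      Nat.card_congr ((Equiv.addRight w).subtypeEquiv (fun v => by
        show shift m q w v = 0 ↔ ¬ (q (v + w) = 0)
        rw [shift_eq q hq w v, hw1]
        generalize shift m q w v = x
        revert x; decide))
    have c3 : Nat.card {v // ¬ (q v = 0)} =
        Nat.card (Fin m ⊕ Fin m → ZMod 2) - Nat.card {v // q v = 0} := by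
      rw [Nat.card_eq_fintype_card, Nat.card_eq_fintype_card, Nat.card_eq_fintype_card]
      exact Fintype.card_subtype_compl _
    have c4 : Nat.card (Fin m ⊕ Fin m → ZMod 2) = 2 ^ (2 * m) := by
      rw [Nat.card_eq_fintype_card, Fintype.card_fun, Fintype.card_sum, Fintype.card_fin,
        ZMod.card]
      congr 1; ring
    have hle : Nat.card {v // q v = 0} ≤ Nat.card (Fin m ⊕ Fin m → ZMod 2) := by
      rw [Nat.card_eq_fintype_card, Nat.card_eq_fintype_card]
      exact Fintype.card_subtype_le _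
    have e1 : 2 ^ (2 * m) = 2 * 2 ^ (2 * m - 1) := by
      rw [← pow_succ']; congr 1; omega
    have h1 : 0 < 2 ^ (m - 1) := by positivity
    have h2 : 2 ^ (m - 1) < 2 ^ (2 * m - 1) := Nat.pow_lt_pow_right (by norm_num) (by omega)
    rcases count_mem hm q hq with ⟨_, hc⟩ | ⟨_, hc⟩ <;> omega
  · intro hw
    have c2 : Nat.card {v // shift m q w v = 0} = Nat.card {v // q v = 0} :=
      Nat.card_congr ((Equiv.addRight w).subtypeEquiv (fun v => by
        show shift m q w v = 0 ↔ q (v + w) = 0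
        rw [shift_eq q hq w v, hw, add_zero]))
    obtain ⟨g, hg⟩ := iso_of_count hm (ofFun m _ hs) (ofFun m q hq) (ofFun_nondeg m _ hs)
      (ofFun_nondeg m q hq) c2
    exact ⟨g, fun v => (hg v).symm⟩

end Cfsg.Agent.Lib.Helper4_QF14
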