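import Mathlib
import Cfsg.Prelude.Def_Classical
import Cfsg.Agent.Lib.Helper4_QF14

set_option autoImplicit false

namespace Cfsg.Agent.Lib.Helper4_QF15

open QuadraticMap Module Matrix Cfsg.Agent.Lib.Helper4_QF12 Cfsg.Agent.Lib.Helper4_QF13
  Cfsg.Agent.Lib.Helper4_QF14 Cfsg.Agent.Lib.Helper4_Gram1 Cfsg.Agent.Lib.Helper4_Count1

theorem Pol_plus (m : ℕ) : Pol m (Cfsg.quadFormPlus m (ZMod 2)) := fun u v => by ring

theorem B_nondeg (m : ℕ) : (Matrix.toBilin' (Hm (ZMod 2) m)).Nondegenerate := by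
  apply LinearMap.BilinForm.nondegenerate_toBilin'_of_det_ne_zero'
  rw [det_hyp]
  exact pow_ne_zero _ (neg_ne_zero.mpr one_ne_zero)

theorem B_symm (m : ℕ) (u v : Fin m ⊕ Fin m → ZMod 2) :
    Matrix.toBilin' (Hm (ZMod 2) m) u v = Matrix.toBilin' (Hm (ZMod 2) m) v u := by
  have : (Matrix.toBilin' (Hm (ZMod 2) m)).IsSymm := by
    rw [Matrix.isSymm_toBilin'_iff_isSymm, ← Tm_add]
    exact Matrix.isSymm_add_transpose_self _
  exact this.eq u v

theorem shift_plus (m : ℕ) (w v : Fin m ⊕ Fin m → ZMod 2) :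
    shift m (Cfsg.quadFormPlus m (ZMod 2)) w v =
      Cfsg.quadFormPlus m (ZMod 2) v + Matrix.toBilin' (Hm (ZMod 2) m) v w := by
  unfold shift
  rw [P_eq]

/-- the parametrization of forms by vectors -/
def Phi (m : ℕ) (w : Fin m ⊕ Fin m → ZMod 2) :
    {q : (Fin m ⊕ Fin m → ZMod 2) → ZMod 2 // Pol m q} :=
  ⟨shift m (Cfsg.quadFormPlus m (ZMod 2)) w, shift_pol _ (Pol_plus m) w⟩

theorem Phi_bijective (m : ℕ) : Function.Bijective (Phi m) := by
  constructor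
  · intro w w' h
    have h1 : ∀ v, Matrix.toBilin' (Hm (ZMod 2) m) v w = Matrix.toBilin' (Hm (ZMod 2) m) v w' := by
      intro v
      have := congrFun (congrArg Subtype.val h) v
      simp only [Phi] at this
      rw [shift_plus, shift_plus] at this
      exact add_left_cancel this
    have h2 : w - w' = 0 := by
      apply (B_nondeg m).2
      intro v
      rw [map_sub, h1 v, sub_self]
    exact sub_eq_zero.mp h2
  · rintro ⟨q, hq⟩
    have hadd : ∀ u v, (q (u + v) - Cfsg.quadFormPlus m (ZMod 2) (u + v)) =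
        (q u - Cfsg.quadFormPlus m (ZMod 2) u) + (q v - Cfsg.quadFormPlus m (ZMod 2) v) := by
      intro u v
      rw [hq u v]
      ring
    set lam : (Fin m ⊕ Fin m → ZMod 2) →ₗ[ZMod 2] ZMod 2 :=
      (AddMonoidHom.mk' (fun v => q v - Cfsg.quadFormPlus m (ZMod 2) v) hadd).toZModLinearMap 2
      with hlam
    set w := ((Matrix.toBilin' (Hm (ZMod 2) m)).toDual (B_nondeg m)).symm lam with hw
    have hwv : ∀ v, Matrix.toBilin' (Hm (ZMod 2) m) w v = lam v := by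
      intro v
      rw [← LinearMap.BilinForm.toDual_def (b := B_nondeg m), hw, LinearEquiv.apply_symm_apply]
    refine ⟨w, ?_⟩
    apply Subtype.ext
    funext v
    simp only [Phi]
    rw [shift_plus, B_symm, hwv v, hlam]
    simp

theorem part1 (m : ℕ) :
    Nat.card {q : (Fin m ⊕ Fin m → ZMod 2) → ZMod 2 // Pol m q} = 2 ^ (2 * m) := by
  rw [← Nat.card_congr (Equiv.ofBijective (Phi m) (Phi_bijective m)), Nat.card_eq_fintype_card,
    Fintype.card_fun, Fintype.card_sum, Fintype.card_fin, ZMod.card]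
  congr 1; ring

theorem typeP_iff {m : ℕ} (hm : 1 ≤ m) (w : Fin m ⊕ Fin m → ZMod 2) :
    TypeP m (Phi m w).1 ↔ Cfsg.quadFormPlus m (ZMod 2) w = 0 :=
  (main2564 m hm _ (Pol_plus m) w).2

theorem typeM_iff {m : ℕ} (hm : 1 ≤ m) (w : Fin m ⊕ Fin m → ZMod 2) :
    TypeM m (Phi m w).1 ↔ ¬ (Cfsg.quadFormPlus m (ZMod 2) w = 0) := by
  rw [← typeP_iff hm w]
  have h1 : 0 < 2 ^ (m - 1) := by positivity
  have h2 : 2 ^ (m - 1) ≤ 2 ^ (2 * m - 1) := Nat.pow_le_pow_right (by norm_num) (by omega)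
  constructor
  · intro hM hP
    have c1 := countP _ hP
    have c2 := countM _ hM
    rw [c1] at c2
    exact NPlus_ne_NMinus hm c2
  · intro hP
    rcases count_mem hm _ (Phi m w).2 with ⟨t, _⟩ | ⟨t, _⟩
    · exact absurd t hP
    · exact t

theorem part3 {m : ℕ} (hm : 1 ≤ m) :
    Nat.card {q : (Fin m ⊕ Fin m → ZMod 2) → ZMod 2 // Pol m q ∧ TypeP m q} =
      2 ^ (2 * m - 1) + 2 ^ (m - 1) := by
  have e1 : {w : Fin m ⊕ Fin m → ZMod 2 // Cfsg.quadFormPlus m (ZMod 2) w = 0} ≃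
      {x : {q : (Fin m ⊕ Fin m → ZMod 2) → ZMod 2 // Pol m q} // TypeP m x.1} :=
    (Equiv.ofBijective (Phi m) (Phi_bijective m)).subtypeEquiv (fun w => (typeP_iff hm w).symm)
  have e2 : {x : {q : (Fin m ⊕ Fin m → ZMod 2) → ZMod 2 // Pol m q} // TypeP m x.1} ≃
      {q : (Fin m ⊕ Fin m → ZMod 2) → ZMod 2 // Pol m q ∧ TypeP m q} :=
    Equiv.subtypeSubtypeEquivSubtypeInter _ _
  rw [← Nat.card_congr (e1.trans e2), ← NPlus_two hm]
  rfl

theorem part4 {m : ℕ} (hm : 1 ≤ m) :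
    Nat.card {q : (Fin m ⊕ Fin m → ZMod 2) → ZMod 2 // Pol m q ∧ TypeM m q} =
      2 ^ (2 * m - 1) - 2 ^ (m - 1) := by
  classical
  have e1 : {w : Fin m ⊕ Fin m → ZMod 2 // ¬ (Cfsg.quadFormPlus m (ZMod 2) w = 0)} ≃
      {x : {q : (Fin m ⊕ Fin m → ZMod 2) → ZMod 2 // Pol m q} // TypeM m x.1} :=
    (Equiv.ofBijective (Phi m) (Phi_bijective m)).subtypeEquiv (fun w => (typeM_iff hm w).symm)
  have e2 : {x : {q : (Fin m ⊕ Fin m → ZMod 2) → ZMod 2 // Pol m q} // TypeM m x.1} ≃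
      {q : (Fin m ⊕ Fin m → ZMod 2) → ZMod 2 // Pol m q ∧ TypeM m q} :=
    Equiv.subtypeSubtypeEquivSubtypeInter _ _
  rw [← Nat.card_congr (e1.trans e2)]
  have c3 : Nat.card {w : Fin m ⊕ Fin m → ZMod 2 // ¬ (Cfsg.quadFormPlus m (ZMod 2) w = 0)} =
      Nat.card (Fin m ⊕ Fin m → ZMod 2) -
        Nat.card {w : Fin m ⊕ Fin m → ZMod 2 // Cfsg.quadFormPlus m (ZMod 2) w = 0} := by
    rw [Nat.card_eq_fintype_card, Nat.card_eq_fintype_card, Nat.card_eq_fintype_card]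
    exact Fintype.card_subtype_compl _
  have c4 : Nat.card (Fin m ⊕ Fin m → ZMod 2) = 2 ^ (2 * m) := by
    rw [Nat.card_eq_fintype_card, Fintype.card_fun, Fintype.card_sum, Fintype.card_fin,
      ZMod.card]
    congr 1; ring
  have c5 : Nat.card {w : Fin m ⊕ Fin m → ZMod 2 // Cfsg.quadFormPlus m (ZMod 2) w = 0} =
      2 ^ (2 * m - 1) + 2 ^ (m - 1) := by
    rw [← NPlus_two hm]; rfl
  rw [c3, c4, c5]
  have e1 : 2 ^ (2 * m) = 2 * 2 ^ (2 * m - 1) := by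
    rw [← pow_succ']; congr 1; omega
  omega

theorem main2561 (m : ℕ) (hm : 1 ≤ m) :
    Nat.card {q : (Fin m ⊕ Fin m → ZMod 2) → ZMod 2 // Pol m q} = 2 ^ (2 * m) ∧
    (∀ q : (Fin m ⊕ Fin m → ZMod 2) → ZMod 2, Pol m q → TypeP m q ∨ TypeM m q) ∧
    Nat.card {q : (Fin m ⊕ Fin m → ZMod 2) → ZMod 2 // Pol m q ∧ TypeP m q} =
      2 ^ (2 * m - 1) + 2 ^ (m - 1) ∧
    Nat.card {q : (Fin m ⊕ Fin m → ZMod 2) → ZMod 2 // Pol m q ∧ TypeM m q} =
      2 ^ (2 * m - 1) - 2 ^ (m - 1) := by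
  refine ⟨part1 m, ?_, part3 hm, part4 hm⟩
  intro q hq
  rcases count_mem hm q hq with ⟨t, _⟩ | ⟨t, _⟩
  · exact Or.inl t
  · exact Or.inr t

end Cfsg.Agent.Lib.Helper4_QF15
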