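import Mathlib
import Cfsg.Agent.Lib.Helper4_QF0
import Cfsg.Agent.Lib.Helper4_QF2
import Cfsg.Agent.Lib.Helper4_QF4
import Cfsg.Agent.Lib.Helper4_QF5

set_option autoImplicit false

namespace Cfsg.Agent.Lib.Helper4_QF6

open QuadraticMap Module Cfsg.Agent.Lib.Helper4_QF5 Cfsg.Agent.Lib.Helper4_QF2

variable {F V : Type*} [Field F] [AddCommGroup V] [Module F V]

theorem polar_comp' (Q : QuadraticForm F V) (g : V →ₗ[F] V) (x y : V) :
    polar (Q.comp g) x y = polar Q (g x) (g y) := by
  simp [polar, map_add]

theorem polar_smul' (Q : QuadraticForm F V) (c : F) (x y : V) :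
    polar (c • Q) x y = c * polar Q x y := by
  simp [polar]; ring

theorem exists_norm [Finite F] (ζ c : F) (hirr : ∀ t : F, t ^ 2 + t + ζ ≠ 0) :
    ∃ u v : F, u ^ 2 + u * v + ζ * v ^ 2 = c := by
  obtain ⟨u, v, z, hne, heq⟩ := Cfsg.Agent.Lib.Helper4_QF0.ternary (1 : F) ζ (-c) 1 0 0
  have hz : z ≠ 0 := by
    intro hz
    rw [hz] at heq
    have h0 : u ^ 2 + u * v + ζ * v ^ 2 = 0 := by linear_combination heq
    by_cases hv : v = 0
    · rw [hv] at h0
      have hu : u = 0 := by
        have : u ^ 2 = 0 := by linear_combination h0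
        exact pow_eq_zero_iff (two_ne_zero) |>.mp this
      exact hne ⟨hu, hv, hz⟩
    · apply hirr (u / v)
      field_simp
      linear_combination h0
  refine ⟨u / z, v / z, ?_⟩
  field_simp
  linear_combination heq

theorem sim_ell [Finite F] [FiniteDimensional F V] (Q : QuadraticForm F V)
    (hQ : (polarBilin Q).Nondegenerate) (c : F) (hc : c ≠ 0) {m : ℕ}
    (b : Module.Basis ((Fin m ⊕ Fin m) ⊕ Fin 2) F V) (ζ : F)
    (hirr : ∀ t : F, t ^ 2 + t + ζ ≠ 0)
    (hQb : ∀ i, Q (b (Sum.inl (Sum.inl i))) = 0 ∧ Q (b (Sum.inl (Sum.inr i))) = 0)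
    (hef : ∀ i j, polar Q (b (Sum.inl (Sum.inl i))) (b (Sum.inl (Sum.inr j))) =
        if i = j then 1 else 0)
    (hee : ∀ i j, polar Q (b (Sum.inl (Sum.inl i))) (b (Sum.inl (Sum.inl j))) = 0 ∧
        polar Q (b (Sum.inl (Sum.inr i))) (b (Sum.inl (Sum.inr j))) = 0)
    (hP : ∀ i (k : Fin 2), polar Q (b (Sum.inl (Sum.inl i))) (b (Sum.inr k)) = 0 ∧
        polar Q (b (Sum.inl (Sum.inr i))) (b (Sum.inr k)) = 0)
    (hX : Q (b (Sum.inr 0)) = 1) (hXY : polar Q (b (Sum.inr 0)) (b (Sum.inr 1)) = 1)
    (hY : Q (b (Sum.inr 1)) = ζ) :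
    ∃ g' : V ≃ₗ[F] V, ∀ v, Q (g' v) = c * Q v := by
  classical
  obtain ⟨u, v, huv⟩ := exists_norm ζ c hirr
  set X := b (Sum.inr 0) with hXdef
  set Y := b (Sum.inr 1) with hYdef
  set img : (Fin m ⊕ Fin m) ⊕ Fin 2 → V :=
    Sum.elim (Sum.elim (fun i => c • b (Sum.inl (Sum.inl i))) (fun i => b (Sum.inl (Sum.inr i))))
      ![u • X + v • Y, (-ζ * v) • X + (u + v) • Y] with himg
  set g : V →ₗ[F] V := b.constr F img with hg
  have hfe : ∀ i j, polar Q (b (Sum.inl (Sum.inr i))) (b (Sum.inl (Sum.inl j))) =
      if j = i then 1 else 0 := by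
    intro i j; rw [polar_comm]; exact hef j i
  have hYX : polar Q Y X = 1 := by rw [polar_comm]; exact hXY
  have hXX : polar Q X X = 2 := by rw [polar_self, hX]; simp
  have hYY : polar Q Y Y = 2 * ζ := by rw [polar_self, hY]; simp
  have hEX : ∀ i, polar Q (b (Sum.inl (Sum.inl i))) X = 0 := fun i => (hP i 0).1
  have hEY : ∀ i, polar Q (b (Sum.inl (Sum.inl i))) Y = 0 := fun i => (hP i 1).1
  have hFX : ∀ i, polar Q (b (Sum.inl (Sum.inr i))) X = 0 := fun i => (hP i 0).2
  have hFY : ∀ i, polar Q (b (Sum.inl (Sum.inr i))) Y = 0 := fun i => (hP i 1).2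
  have hXE : ∀ i, polar Q X (b (Sum.inl (Sum.inl i))) = 0 := fun i => by
    rw [polar_comm]; exact hEX i
  have hYE : ∀ i, polar Q Y (b (Sum.inl (Sum.inl i))) = 0 := fun i => by
    rw [polar_comm]; exact hEY i
  have hXF : ∀ i, polar Q X (b (Sum.inl (Sum.inr i))) = 0 := fun i => by
    rw [polar_comm]; exact hFX i
  have hYF : ∀ i, polar Q Y (b (Sum.inl (Sum.inr i))) = 0 := fun i => by
    rw [polar_comm]; exact hFY i
  have i0 : img (Sum.inr 0) = u • X + v • Y := by simp [himg]
  have i1 : img (Sum.inr 1) = (-ζ * v) • X + (u + v) • Y := by simp [himg]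
  have iE : ∀ i, img (Sum.inl (Sum.inl i)) = c • b (Sum.inl (Sum.inl i)) := fun i => by simp [himg]
  have iF : ∀ i, img (Sum.inl (Sum.inr i)) = b (Sum.inl (Sum.inr i)) := fun i => by simp [himg]
  have key : Q.comp g = c • Q := by
    apply qf_ext _ _ b
    · intro i
      rw [QuadraticMap.comp_apply, smul_apply, hg, Basis.constr_basis]
      rcases i with (i | i) | i
      · rw [iE, QuadraticMap.map_smul, (hQb i).1]; simp
      · rw [iF, (hQb i).2]; simp
      · revert i
        rw [Fin.forall_fin_two]
        constructor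
        · rw [i0, Q_comb2, hX, hY, hXY]
          simp only [smul_eq_mul]
          linear_combination huv
        · rw [i1, Q_comb2, hX, hY, hXY]
          simp only [smul_eq_mul]
          linear_combination ζ * huv
    · intro i j hij
      rw [polar_comp', polar_smul', hg, Basis.constr_basis, Basis.constr_basis]
      rcases i with (i | i) | i <;> rcases j with (j | j) | j
      · rw [iE, iE, polar_smul_left, polar_smul_right, (hee i j).1]; simp
      · rw [iE, iF, polar_smul_left, hef]; simp
      · revert j
        rw [Fin.forall_fin_two]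
        constructor
        · intro _
          rw [iE, i0, polar_smul_left, polar_add_right, polar_smul_right, polar_smul_right,
            hEX, hEY]; simp
        · intro _
          rw [iE, i1, polar_smul_left, polar_add_right, polar_smul_right, polar_smul_right,
            hEX, hEY]; simp
      · rw [iF, iE, polar_smul_right, hfe]; simp
      · rw [iF, iF, (hee i j).2]; simp
      · revert j
        rw [Fin.forall_fin_two]
        constructor
        · intro _
          rw [iF, i0, polar_add_right, polar_smul_right, polar_smul_right,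
            hFX, hFY]; simp
        · intro _
          rw [iF, i1, polar_add_right, polar_smul_right, polar_smul_right,
            hFX, hFY]; simp
      · revert i
        rw [Fin.forall_fin_two]
        constructor
        · intro _
          rw [iE, i0, polar_smul_right, polar_add_left, polar_smul_left, polar_smul_left,
            hXE, hYE]; simp
        · intro _
          rw [iE, i1, polar_smul_right, polar_add_left, polar_smul_left, polar_smul_left,
            hXE, hYE]; simp
      · revert i
        rw [Fin.forall_fin_two]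
        constructor
        · intro _
          rw [iF, i0, polar_add_left, polar_smul_left, polar_smul_left,
            hXF, hYF]; simp
        · intro _
          rw [iF, i1, polar_add_left, polar_smul_left, polar_smul_left,
            hXF, hYF]; simp
      · revert i j
        rw [Fin.forall_fin_two]
        constructor
        · rw [Fin.forall_fin_two]
          constructor
          · intro h; exact absurd rfl h
          · intro _
            rw [i0, i1, hXY]
            simp only [polar_add_left, polar_add_right, polar_smul_left, polar_smul_right,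
              hXX, hXY, hYX, hYY, smul_eq_mul]
            linear_combination huv
        · rw [Fin.forall_fin_two]
          constructor
          · intro _
            rw [i1, i0, hYX]
            simp only [polar_add_left, polar_add_right, polar_smul_left, polar_smul_right,
              hXX, hXY, hYX, hYY, smul_eq_mul]
            linear_combination huv
          · intro h; exact absurd rfl h
  apply sim_of_linear Q hQ c hc g
  intro w
  have := congrArg (fun q : QuadraticForm F V => q w) key
  simpa using this

theorem sim_hyp [FiniteDimensional F V] (Q : QuadraticForm F V)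
    (hQ : (polarBilin Q).Nondegenerate) (c : F) (hc : c ≠ 0) {m : ℕ}
    (b : Module.Basis (Fin m ⊕ Fin m) F V)
    (hQb : ∀ i, Q (b (Sum.inl i)) = 0 ∧ Q (b (Sum.inr i)) = 0)
    (hef : ∀ i j, polar Q (b (Sum.inl i)) (b (Sum.inr j)) = if i = j then 1 else 0)
    (hee : ∀ i j, polar Q (b (Sum.inl i)) (b (Sum.inl j)) = 0 ∧
        polar Q (b (Sum.inr i)) (b (Sum.inr j)) = 0) :
    ∃ g' : V ≃ₗ[F] V, ∀ v, Q (g' v) = c * Q v := by
  classical
  set img : Fin m ⊕ Fin m → V := Sum.elim (fun i => c • b (Sum.inl i)) (fun i => b (Sum.inr i))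
    with himg
  set g : V →ₗ[F] V := b.constr F img with hg
  have hfe : ∀ i j, polar Q (b (Sum.inr i)) (b (Sum.inl j)) = if j = i then 1 else 0 := by
    intro i j; rw [polar_comm]; exact hef j i
  have key : Q.comp g = c • Q := by
    apply qf_ext _ _ b
    · intro i
      rw [QuadraticMap.comp_apply, smul_apply, hg, Basis.constr_basis]
      rcases i with i | i
      · simp [himg, QuadraticMap.map_smul, (hQb i).1]
      · simp [himg, (hQb i).2]
    · intro i j _
      rw [polar_comp', polar_smul', hg, Basis.constr_basis, Basis.constr_basis]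
      rcases i with i | i <;> rcases j with j | j
      · simp [himg, polar_smul_left, polar_smul_right, (hee i j).1]
      · simp [himg, polar_smul_left, hef]
      · simp [himg, polar_smul_right, hfe]
      · simp [himg, (hee i j).2]
  apply sim_of_linear Q hQ c hc g
  intro v
  have := congrArg (fun q : QuadraticForm F V => q v) key
  simpa using this


theorem sim_main [Fintype F] {n : ℕ} (hn : 2 ≤ n) (he : Even n)
    (Q : QuadraticForm F (Fin n → F)) (hQ : (polarBilin Q).Nondegenerate) (c : F) (hc : c ≠ 0) :
    ∃ g : (Fin n → F) ≃ₗ[F] (Fin n → F), ∀ v, Q (g v) = c * Q v := by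
  obtain ⟨m, hm⟩ := he
  obtain ⟨m', rfl⟩ : ∃ m', m = m' + 1 := ⟨m - 1, by omega⟩
  have hV : finrank F (Fin n → F) = 2 * (m' + 1) := by
    rw [Module.finrank_fin_fun, hm]; ring
  rcases Cfsg.Agent.Lib.Helper4_QF4.even_main m' hV Q hQ with
    ⟨b, h1, h2, h3⟩ | ⟨b, ζ, hirr, h1, h2, h3, h4, h5, h6, h7⟩
  · exact sim_hyp Q hQ c hc b h1 h2 h3
  · exact sim_ell Q hQ c hc b ζ hirr h1 h2 h3 h4 h5 h6 h7

end Cfsg.Agent.Lib.Helper4_QF6
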