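import Mathlib
import Cfsg.Prelude.Def_PLocal

namespace Cfsg.Agent.Lib.Helper4_Qd2
open Matrix

/-- affine subgroup -/
def Aff3 (R : Type*) [CommRing R] : Subgroup (Matrix.SpecialLinearGroup (Fin 3) R) where
  carrier := {M | M.1 2 0 = 0 ∧ M.1 2 1 = 0 ∧ M.1 2 2 = 1}
  mul_mem' := by
    rintro A B ⟨a1,a2,a3⟩ ⟨b1,b2,b3⟩
    simp [Matrix.mul_apply, Fin.sum_univ_three, a1, a2, a3, b1, b2, b3]
  one_mem' := by simp
  inv_mem' := by
    rintro A ⟨a1,a2,a3⟩
    have hdet := A.2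
    rw [Matrix.det_fin_three] at hdet
    simp only [a1, a2, a3] at hdet
    simp [Matrix.SpecialLinearGroup.coe_inv, Matrix.adjugate_fin_three, a1, a2, a3]
    linear_combination hdet

instance (R : Type*) [CommRing R] [DecidableEq R] (M : Matrix.SpecialLinearGroup (Fin 3) R) :
    Decidable (M ∈ Aff3 R) := by
  unfold Aff3
  show Decidable (M.1 2 0 = 0 ∧ M.1 2 1 = 0 ∧ M.1 2 2 = 1)
  infer_instance

theorem qd_eq (p : ℕ) : Cfsg.qd p = Aff3 (ZMod p) := by
  unfold Cfsg.qd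
  exact Subgroup.closure_eq (Aff3 (ZMod p))

/-- the affine plane -/
abbrev Om (R : Type*) [CommRing R] := {w : Fin 3 → R // w 2 = 1}

instance (R : Type*) [CommRing R] : MulAction (Aff3 R) (Om R) where
  smul g w := ⟨g.1.1 *ᵥ w.1, by
    obtain ⟨a1, a2, a3⟩ := g.2
    simp [Matrix.mulVec, dotProduct, Fin.sum_univ_three, a1, a2, a3, w.2]⟩
  one_smul w := by
    apply Subtype.ext
    show (1 : Matrix (Fin 3) (Fin 3) R) *ᵥ w.1 = w.1
    simp
  mul_smul g h w := by
    apply Subtype.ext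
    show (g.1.1 * h.1.1) *ᵥ w.1 = g.1.1 *ᵥ (h.1.1 *ᵥ w.1)
    rw [Matrix.mulVec_mulVec]

theorem smul_val (R : Type*) [CommRing R] (g : Aff3 R) (w : Om R) : (g • w).1 = g.1.1 *ᵥ w.1 := rfl

set_option maxRecDepth 1000000 in
theorem card_aff : Fintype.card (Aff3 (ZMod 2)) = 24 := by decide

set_option maxRecDepth 1000000 in
theorem card_om : Fintype.card (Om (ZMod 2)) = 4 := by decide

set_option maxRecDepth 1000000 in
theorem ker_triv : ∀ g : Aff3 (ZMod 2), (∀ w : Om (ZMod 2), g • w = w) → g = 1 := by decide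

theorem main : Nonempty (↥(Cfsg.qd 2) ≃* Equiv.Perm (Fin 4)) := by
  let φ : Aff3 (ZMod 2) →* Equiv.Perm (Om (ZMod 2)) := MulAction.toPermHom _ _
  have hinj : Function.Injective φ := by
    rw [injective_iff_map_eq_one]
    intro g hg
    apply ker_triv
    intro w
    have := congrArg (fun σ : Equiv.Perm (Om (ZMod 2)) => σ w) hg
    exact this
  have hbij : Function.Bijective φ := by
    rw [Fintype.bijective_iff_injective_and_card]
    refine ⟨hinj, ?_⟩
    rw [card_aff, Fintype.card_perm, card_om]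
    rfl
  let e1 : Aff3 (ZMod 2) ≃* Equiv.Perm (Om (ZMod 2)) := MulEquiv.ofBijective φ hbij
  let e2 : Om (ZMod 2) ≃ Fin 4 := Fintype.equivFinOfCardEq card_om
  let e3 : ↥(Cfsg.qd 2) ≃* Aff3 (ZMod 2) := MulEquiv.subgroupCongr (qd_eq 2)
  exact ⟨e3.trans (e1.trans e2.permCongrHom)⟩

end Cfsg.Agent.Lib.Helper4_Qd2
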