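import Mathlib
import Cfsg.Prelude.Def_LocalEven
import Cfsg.Agent.Lib.Helper4_Qd2
import Cfsg.Agent.Lib.Helper4_PCore

namespace Cfsg.Agent.Lib.Helper4_QdOver
open Matrix Cfsg.Agent.Lib.Helper4_Qd2

variable {F : Type*} [Field F]

theorem qdOver_eq : Cfsg.qdOver F = Aff3 F := by
  unfold Cfsg.qdOver
  exact Subgroup.closure_eq (Aff3 F)

/-- block -/
def blkM (M : Matrix (Fin 3) (Fin 3) F) : Matrix (Fin 2) (Fin 2) F :=
  !![M 0 0, M 0 1; M 1 0, M 1 1]

/-- block hom -/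
def blk : Aff3 F →* Matrix.SpecialLinearGroup (Fin 2) F where
  toFun M := ⟨blkM M.1.1, by
    obtain ⟨a1, a2, a3⟩ := M.2
    have hdet := M.1.2
    rw [Matrix.det_fin_three] at hdet
    simp only [a1, a2, a3] at hdet
    rw [Matrix.det_fin_two]
    simp only [blkM, Matrix.of_apply, Matrix.cons_val', Matrix.cons_val_zero, Matrix.cons_val_one,
      Matrix.cons_val_fin_one]
    linear_combination hdet⟩
  map_one' := by
    apply Subtype.ext
    ext i j
    fin_cases i <;> fin_cases j <;> simp [blkM]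
  map_mul' A B := by
    obtain ⟨b1, b2, b3⟩ := B.2
    apply Subtype.ext
    show blkM (A.1.1 * B.1.1) = blkM A.1.1 * blkM B.1.1
    ext i j
    fin_cases i <;> fin_cases j <;>
      simp [blkM, Matrix.mul_apply, Fin.sum_univ_three, b1, b2]

theorem blk_val (M : Aff3 F) : (blk M).1 = blkM M.1.1 := rfl

/-- section matrix -/
def secM (B : Matrix (Fin 2) (Fin 2) F) : Matrix (Fin 3) (Fin 3) F :=
  !![B 0 0, B 0 1, 0; B 1 0, B 1 1, 0; 0, 0, 1]

/-- section hom -/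
def sec : Matrix.SpecialLinearGroup (Fin 2) F →* Aff3 F where
  toFun B := ⟨⟨secM B.1, by
    have := B.2
    rw [Matrix.det_fin_two] at this
    rw [Matrix.det_fin_three]
    simp [secM]
    linear_combination this⟩, by
      show _ ∧ _ ∧ _
      simp [secM]⟩
  map_one' := by
    apply Subtype.ext
    apply Subtype.ext
    show secM (1 : Matrix (Fin 2) (Fin 2) F) = 1
    ext i j
    fin_cases i <;> fin_cases j <;> simp [secM]
  map_mul' A B := by
    apply Subtype.ext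
    apply Subtype.ext
    show secM (A.1 * B.1) = secM A.1 * secM B.1
    ext i j
    fin_cases i <;> fin_cases j <;>
      simp [secM, Matrix.mul_apply, Fin.sum_univ_three, Fin.sum_univ_two]

theorem sec_val (B : Matrix.SpecialLinearGroup (Fin 2) F) : (sec B).1.1 = secM B.1 := rfl

theorem blk_sec (B : Matrix.SpecialLinearGroup (Fin 2) F) : blk (sec B) = B := by
  apply Subtype.ext
  rw [blk_val, sec_val]
  ext i j
  fin_cases i <;> fin_cases j <;> simp [blkM, secM]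

theorem mem_ker_blk (M : Aff3 F) : M ∈ (blk : Aff3 F →* _).ker ↔
    M.1.1 0 0 = 1 ∧ M.1.1 0 1 = 0 ∧ M.1.1 1 0 = 0 ∧ M.1.1 1 1 = 1 := by
  rw [MonoidHom.mem_ker]
  constructor
  · intro h
    have h' : blkM M.1.1 = 1 := by rw [← blk_val, h]; rfl
    have e00 := congrFun (congrFun h' 0) 0
    have e01 := congrFun (congrFun h' 0) 1
    have e10 := congrFun (congrFun h' 1) 0
    have e11 := congrFun (congrFun h' 1) 1
    simp [blkM] at e00 e01 e10 e11
    exact ⟨e00, e01, e10, e11⟩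
  · rintro ⟨h1, h2, h3, h4⟩
    apply Subtype.ext
    rw [blk_val]
    ext i j
    fin_cases i <;> fin_cases j <;> simp [blkM, h1, h2, h3, h4]

theorem mem_range_sec (M : Aff3 F) : M ∈ (sec : _ →* Aff3 F).range ↔
    M.1.1 0 2 = 0 ∧ M.1.1 1 2 = 0 := by
  constructor
  · rintro ⟨B, rfl⟩
    rw [sec_val]
    simp [secM]
  · rintro ⟨h1, h2⟩
    refine ⟨blk M, ?_⟩
    obtain ⟨a1, a2, a3⟩ := M.2
    apply Subtype.ext
    apply Subtype.ext
    rw [sec_val, blk_val]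
    ext i j
    fin_cases i <;> fin_cases j <;> simp [blkM, secM, h1, h2, a1, a2, a3]

/-- translation matrix -/
def trM (v : Fin 2 → F) : Matrix (Fin 3) (Fin 3) F :=
  !![1, 0, v 0; 0, 1, v 1; 0, 0, 1]

/-- translation element -/
def tr (v : Fin 2 → F) : Aff3 F := ⟨⟨trM v, by
    rw [Matrix.det_fin_three]
    simp [trM]⟩, by
      show _ ∧ _ ∧ _
      simp [trM]⟩

theorem tr_val (v : Fin 2 → F) : (tr v).1.1 = trM v := rfl

theorem tr_mem (v : Fin 2 → F) : tr v ∈ (blk : Aff3 F →* _).ker := by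
  rw [mem_ker_blk, tr_val]
  simp [trM]

/-- coordinates -/
def co (M : Aff3 F) : Fin 2 → F := ![M.1.1 0 2, M.1.1 1 2]

theorem co_mul (s t : Aff3 F) :
    co (s * t) = (blk s).1 *ᵥ co t + co s := by
  obtain ⟨b1, b2, b3⟩ := t.2
  have : (s * t).1.1 = s.1.1 * t.1.1 := rfl
  ext i
  fin_cases i <;>
    simp [co, this, blk_val, blkM, Matrix.mul_apply, Matrix.mulVec, dotProduct, Fin.sum_univ_three, b3] <;>
    ring

theorem co_mul_ker (s t : Aff3 F) (hs : s ∈ (blk : Aff3 F →* _).ker) :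
    co (s * t) = co s + co t := by
  rw [co_mul, MonoidHom.mem_ker.1 hs]
  simp [add_comm]

theorem tr_co (t : Aff3 F) (ht : t ∈ (blk : Aff3 F →* _).ker) : tr (co t) = t := by
  obtain ⟨h1, h2, h3, h4⟩ := (mem_ker_blk _).1 ht
  obtain ⟨a1, a2, a3⟩ := t.2
  apply Subtype.ext
  apply Subtype.ext
  rw [tr_val]
  ext i j
  fin_cases i <;> fin_cases j <;> simp [trM, co, h1, h2, h3, h4, a1, a2, a3]

theorem co_tr (v : Fin 2 → F) : co (tr v) = v := by
  ext i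
  fin_cases i <;> simp [co, tr_val, trM]

/-- the coordinate map on translations -/
def psi : Additive ((blk : Aff3 F →* _).ker) ≃+ (Fin 2 → F) where
  toFun t := co (Additive.toMul t).1
  invFun v := Additive.ofMul ⟨tr v, tr_mem v⟩
  left_inv t := by
    apply Additive.toMul.injective
    apply Subtype.ext
    exact tr_co _ (Additive.toMul t).2
  right_inv v := co_tr v
  map_add' s t := co_mul_ker _ _ (Additive.toMul s).2

theorem psi_apply (t : (blk : Aff3 F →* _).ker) :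
    psi (Additive.ofMul t) = co t.1 := rfl

theorem card_ker [Fintype F] : Nat.card ((blk : Aff3 F →* _).ker) = Fintype.card F ^ 2 := by
  have : Nat.card (Additive ((blk : Aff3 F →* _).ker)) = Nat.card (Fin 2 → F) :=
    Nat.card_congr psi.toEquiv
  rw [show Nat.card ((blk : Aff3 F →* _).ker) = Nat.card (Additive ((blk : Aff3 F →* _).ker)) from rfl,
    this, Nat.card_eq_fintype_card, Fintype.card_fun, Fintype.card_fin]

theorem isPGroup_ker [Fintype F] (p : ℕ) [Fact p.Prime] [CharP F p] :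
    IsPGroup p ((blk : Aff3 F →* _).ker) := by
  obtain ⟨n, -, hn⟩ := FiniteField.card F p
  apply IsPGroup.of_card (n := n * 2)
  rw [card_ker, hn, pow_mul]

/-- the action on the plane -/
instance : MulAction (Aff3 F) (Fin 2 → F) where
  smul g w := (blk g).1 *ᵥ w
  one_smul w := by
    show (blk (1 : Aff3 F)).1 *ᵥ w = w
    rw [map_one]
    simp
  mul_smul g h w := by
    show (blk (g * h)).1 *ᵥ w = (blk g).1 *ᵥ ((blk h).1 *ᵥ w)
    rw [map_mul, Matrix.mulVec_mulVec]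
    rfl

theorem smul_def (g : Aff3 F) (w : Fin 2 → F) : g • w = (blk g).1 *ᵥ w := rfl

theorem exists_sl2 (w : Fin 2 → F) (hw : w ≠ 0) :
    ∃ B : Matrix.SpecialLinearGroup (Fin 2) F, B.1 *ᵥ ![1, 0] = w := by
  by_cases h0 : w 0 = 0
  · have h1 : w 1 ≠ 0 := by
      intro h1
      apply hw
      ext i
      fin_cases i <;> simp [h0, h1]
    refine ⟨⟨!![0, -(w 1)⁻¹; w 1, 0], by rw [Matrix.det_fin_two]; simp [h1]⟩, ?_⟩
    ext i
    fin_cases i <;> simp [h0]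
  · refine ⟨⟨!![w 0, 0; w 1, (w 0)⁻¹], by rw [Matrix.det_fin_two]; simp [h0]⟩, ?_⟩
    ext i
    fin_cases i <;> simp

theorem exists_sl2' (w₀ w : Fin 2 → F) (hw₀ : w₀ ≠ 0) (hw : w ≠ 0) :
    ∃ B : Matrix.SpecialLinearGroup (Fin 2) F, B.1 *ᵥ w₀ = w := by
  obtain ⟨B₀, h₀⟩ := exists_sl2 w₀ hw₀
  obtain ⟨B₁, h₁⟩ := exists_sl2 w hw
  refine ⟨B₁ * B₀⁻¹, ?_⟩
  rw [← h₀, Matrix.mulVec_mulVec]
  have : (B₁ * B₀⁻¹).1 * B₀.1 = B₁.1 := by
    have h : (B₁ * B₀⁻¹) * B₀ = B₁ := by group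
    exact congrArg Subtype.val h
  rw [this, h₁]

theorem normal_pgroup_le_ker [Fintype F] (p : ℕ) [Fact p.Prime] [CharP F p]
    (P : Subgroup (Aff3 F)) (hN : P.Normal) (hP : IsPGroup p P) :
    P ≤ (blk : Aff3 F →* _).ker := by
  classical
  obtain ⟨n, -, hn⟩ := FiniteField.card F p
  have hdvd : p ∣ Nat.card (Fin 2 → F) := by
    rw [Nat.card_eq_fintype_card, Fintype.card_fun, hn, Fintype.card_fin]
    exact dvd_pow (dvd_pow_self p n.ne_zero) two_ne_zero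
  have h0 : (0 : Fin 2 → F) ∈ MulAction.fixedPoints P (Fin 2 → F) := by
    intro g
    show (blk g.1).1 *ᵥ 0 = 0
    simp
  obtain ⟨w₀, hw₀, hne⟩ := hP.exists_fixed_point_of_prime_dvd_card_of_fixed_point (Fin 2 → F) hdvd h0
  have hfix : ∀ (B : Matrix.SpecialLinearGroup (Fin 2) F) (M : Aff3 F), M ∈ P →
      (blk M).1 *ᵥ (B.1 *ᵥ w₀) = B.1 *ᵥ w₀ := by
    intro B M hM
    have hM' : (sec B)⁻¹ * M * (sec B) ∈ P := by
      have := hN.conj_mem M hM (sec B)⁻¹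
      simpa using this
    have h2 : (blk ((sec B)⁻¹ * M * (sec B))).1 *ᵥ w₀ = w₀ := hw₀ ⟨_, hM'⟩
    rw [map_mul, map_mul, map_inv, blk_sec] at h2
    have h3 : (B⁻¹ * blk M * B).1 = B⁻¹.1 * (blk M).1 * B.1 := rfl
    rw [h3, ← Matrix.mulVec_mulVec, ← Matrix.mulVec_mulVec] at h2
    have h4 : B.1 *ᵥ (B⁻¹.1 *ᵥ ((blk M).1 *ᵥ (B.1 *ᵥ w₀))) = B.1 *ᵥ w₀ :=
      congrArg (fun v => B.1 *ᵥ v) h2
    rw [Matrix.mulVec_mulVec] at h4
    have h5 : B.1 * B⁻¹.1 = 1 := by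
      have h : B * B⁻¹ = 1 := by group
      exact congrArg Subtype.val h
    rw [h5, Matrix.one_mulVec] at h4
    exact h4
  intro M hM
  rw [MonoidHom.mem_ker]
  apply Subtype.ext
  rw [Matrix.ext_iff_mulVec]
  intro w
  show (blk M).1 *ᵥ w = (1 : Matrix (Fin 2) (Fin 2) F) *ᵥ w
  rw [Matrix.one_mulVec]
  by_cases hw : w = 0
  · rw [hw]
    simp
  · obtain ⟨B, rfl⟩ := exists_sl2' w₀ w (Ne.symm hne) hw
    exact hfix B M hM

theorem pCore_eq [Fintype F] (p : ℕ) [Fact p.Prime] [CharP F p] :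
    Cfsg.pCore p (Aff3 F) = (blk : Aff3 F →* _).ker := by
  apply le_antisymm
  · exact normal_pgroup_le_ker p _ (Cfsg.Agent.Lib.Helper4_PCore.pCore_normal p _)
      Cfsg.Agent.Lib.Helper4_PCore.pCore_isPGroup
  · exact Cfsg.Agent.Lib.Helper4_PCore.le_pCore _ inferInstance (isPGroup_ker p)

theorem sec_injective : Function.Injective (sec : Matrix.SpecialLinearGroup (Fin 2) F →* Aff3 F) := by
  intro A B h
  rw [← blk_sec A, ← blk_sec B, h]

theorem co_sec (B : Matrix.SpecialLinearGroup (Fin 2) F) : co (sec B) = 0 := by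
  ext i
  fin_cases i <;> simp [co, sec_val, secM]

theorem co_range (l : Aff3 F) (hl : l ∈ (sec : _ →* Aff3 F).range) : co l = 0 := by
  obtain ⟨B, rfl⟩ := hl
  exact co_sec B

theorem conj_formula (l v : Aff3 F) (hl : l ∈ (sec : _ →* Aff3 F).range)
    (hv : v ∈ (blk : Aff3 F →* _).ker) :
    co (l * v * l⁻¹) = (blk l).1 *ᵥ co v := by
  have hw : l * v * l⁻¹ ∈ (blk : Aff3 F →* _).ker :=
    (inferInstance : ((blk : Aff3 F →* _).ker).Normal).conj_mem v hv l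
  have e1 : co ((l * v * l⁻¹) * l) = co (l * v * l⁻¹) + co l := co_mul_ker _ _ hw
  have e2 : co (l * v) = (blk l).1 *ᵥ co v + co l := co_mul l v
  rw [co_range l hl, add_zero] at e1 e2
  rw [← e1, ← e2]
  congr 1
  group

theorem aux [Fintype F] (p : ℕ) [Fact p.Prime] [CharP F p]
    (Q : Subgroup (Matrix.SpecialLinearGroup (Fin 3) F)) (hQ : Q = Aff3 F) :
    (∀ M : ↥Q, M ∈ Cfsg.pCore p ↥Q ↔ ((M : Matrix.SpecialLinearGroup (Fin 3) F) : Matrix (Fin 3) (Fin 3) F) 0 0 = 1 ∧ ((M : Matrix.SpecialLinearGroup (Fin 3) F) : Matrix (Fin 3) (Fin 3) F) 0 1 = 0 ∧ ((M : Matrix.SpecialLinearGroup (Fin 3) F) : Matrix (Fin 3) (Fin 3) F) 1 0 = 0 ∧ ((M : Matrix.SpecialLinearGroup (Fin 3) F) : Matrix (Fin 3) (Fin 3) F) 1 1 = 1) ∧ ∃ K : Subgroup ↥Q, (∀ M : ↥Q, M ∈ K ↔ ((M : Matrix.SpecialLinearGroup (Fin 3) F) : Matrix (Fin 3) (Fin 3) F) 0 2 = 0 ∧ ((M : Matrix.SpecialLinearGroup (Fin 3) F) : Matrix (Fin 3) (Fin 3) F) 1 2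 = 0) ∧ K ⊓ Cfsg.pCore p ↥Q = ⊥ ∧ K ⊔ Cfsg.pCore p ↥Q = ⊤ ∧ Nonempty (↥K ≃* Matrix.SpecialLinearGroup (Fin 2) F) ∧ Cfsg.IsNaturalSL2Module F (Cfsg.pCore p ↥Q) K := by
  subst hQ
  rw [pCore_eq p]
  have hinf : (sec : _ →* Aff3 F).range ⊓ (blk : Aff3 F →* _).ker = ⊥ := by
    rw [Subgroup.eq_bot_iff_forall]
    rintro x ⟨⟨B, rfl⟩, hx⟩
    have hx' : blk (sec B) = 1 := hx
    rw [blk_sec] at hx'
    rw [hx', map_one]
  refine ⟨fun M => mem_ker_blk M, (sec : _ →* Aff3 F).range, fun M => mem_range_sec M,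
    hinf, ?_, ?_, ?_⟩
  · rw [eq_top_iff]
    intro M _
    have : M = sec (blk M) * ((sec (blk M))⁻¹ * M) := by group
    rw [this]
    apply Subgroup.mul_mem_sup
    · exact ⟨_, rfl⟩
    · rw [MonoidHom.mem_ker, map_mul, map_inv, blk_sec]
      group
  · exact ⟨(MonoidHom.ofInjective sec_injective).symm⟩
  · refine ⟨?_, ?_⟩
    · rw [Subgroup.normalizer_eq_top]
      exact le_top
    refine ⟨(blk : Aff3 F →* _).comp (Subgroup.subtype _), psi, ?_, ?_, ?_⟩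
    · intro B
      exact ⟨⟨sec B, ⟨B, rfl⟩⟩, blk_sec B⟩
    · ext l
      rw [MonoidHom.mem_ker, Subgroup.mem_subgroupOf, Subgroup.mem_centralizer_iff]
      show blk l.1 = 1 ↔ _
      constructor
      · intro h
        have : l.1 ∈ (sec : _ →* Aff3 F).range ⊓ (blk : Aff3 F →* _).ker := ⟨l.2, h⟩
        rw [hinf, Subgroup.mem_bot] at this
        intro v _
        rw [this]
        simp
      · intro h
        apply Subtype.ext
        rw [Matrix.ext_iff_mulVec]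
        intro w
        show (blk l.1).1 *ᵥ w = (1 : Matrix (Fin 2) (Fin 2) F) *ᵥ w
        rw [Matrix.one_mulVec]
        have hv := h (tr w) (tr_mem w)
        have h2 : l.1 * tr w * l.1⁻¹ = tr w := by
          rw [← hv]
          group
        have h3 := conj_formula l.1 (tr w) l.2 (tr_mem w)
        rw [h2, co_tr] at h3
        exact h3.symm
    · intro l v
      refine ⟨⟨l.1 * v.1 * l.1⁻¹,
        (inferInstance : ((blk : Aff3 F →* _).ker).Normal).conj_mem v.1 v.2 l.1⟩, rfl, ?_⟩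
      rw [psi_apply, psi_apply]
      exact conj_formula l.1 v.1 l.2 v.2

theorem main {F : Type*} [Field F] [Fintype F] {p : ℕ} [Fact p.Prime] [CharP F p] : (∀ M : ↥(Cfsg.qdOver F), M ∈ Cfsg.pCore p ↥(Cfsg.qdOver F) ↔ ((M : Matrix.SpecialLinearGroup (Fin 3) F) : Matrix (Fin 3) (Fin 3) F) 0 0 = 1 ∧ ((M : Matrix.SpecialLinearGroup (Fin 3) F) : Matrix (Fin 3) (Fin 3) F) 0 1 = 0 ∧ ((M : Matrix.SpecialLinearGroup (Fin 3) F) : Matrix (Fin 3) (Fin 3) F) 1 0 = 0 ∧ ((M : Matrix.SpecialLinearGroup (Fin 3) F) : Matrix (Fin 3) (Fin 3) F) 1 1 = 1) ∧ ∃ K : Subgroup ↥(Cfsg.qdOver F), (∀ M : ↥(Cfsg.qdOver F), M ∈ K ↔ ((M : Matrix.SpecialLinearGroup (Fin 3) F) : Matrix (Fin 3) (Fin 3) F) 0 2 = 0 ∧ ((M : Matrix.SpecialLinearGroup (Fin 3) F) : Matrix (Fin 3) (Fin 3) F) 1 2 = 0) ∧ K ⊓ Cfsg.pCore p ↥(Cfsg.qdOver F) = ⊥ ∧ K ⊔ Cfsg.pCore p ↥(Cfsg.qdOver F) = ⊤ ∧ Nonempty (↥K ≃* Matrix.SpecialLinearGroup (Fin 2) F) ∧ Cfsg.IsNaturalSL2Module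 F (Cfsg.pCore p ↥(Cfsg.qdOver F)) K :=
  aux p (Cfsg.qdOver F) qdOver_eq

end Cfsg.Agent.Lib.Helper4_QdOver
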