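import Mathlib

namespace Cfsg.Agent.Lib.Helper4_QdPSL0
open Matrix

/-- upper unitriangular subgroup of SL₂ -/
def U2 (K : Type*) [Field K] : Subgroup (Matrix.SpecialLinearGroup (Fin 2) K) where
  carrier := {M | M.1 0 0 = 1 ∧ M.1 1 0 = 0 ∧ M.1 1 1 = 1}
  mul_mem' := by
    rintro A B ⟨a1,a2,a3⟩ ⟨b1,b2,b3⟩
    simp [SpecialLinearGroup.coe_mul, Matrix.mul_apply, Fin.sum_univ_two, a1, a2, a3, b1, b2, b3]
  one_mem' := by simp
  inv_mem' := by
    rintro A ⟨a1,a2,a3⟩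
    simp [Matrix.SpecialLinearGroup.coe_inv, Matrix.adjugate_fin_two, a1, a2, a3]

variable {K : Type*} [Field K]

theorem U2_comm (A B : Matrix.SpecialLinearGroup (Fin 2) K) (hA : A ∈ U2 K) (hB : B ∈ U2 K) :
    A * B = B * A := by
  obtain ⟨a1,a2,a3⟩ := hA
  obtain ⟨b1,b2,b3⟩ := hB
  apply Subtype.ext
  show A.1 * B.1 = B.1 * A.1
  ext i j
  fin_cases i <;> fin_cases j <;>
    simp [Matrix.mul_apply, Fin.sum_univ_two, a1, a2, a3, b1, b2, b3]
  ring

/-- parametrization -/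
def U2equiv (K : Type*) [Field K] : K ≃ U2 K where
  toFun b := ⟨⟨!![1, b; 0, 1], by simp [Matrix.det_fin_two]⟩, by
    refine ⟨?_, ?_, ?_⟩ <;> simp⟩
  invFun M := M.1.1 0 1
  left_inv b := by simp
  right_inv M := by
    obtain ⟨M, m1, m2, m3⟩ := M
    apply Subtype.ext; apply Subtype.ext
    ext i j
    fin_cases i <;> fin_cases j <;> simp [m1, m2, m3]

theorem card_U2 [Fintype K] : Nat.card (U2 K) = Fintype.card K := by
  rw [← Nat.card_congr (U2equiv K), Nat.card_eq_fintype_card]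

theorem index_U2 [Fintype K] {p : ℕ} [Fact p.Prime] [CharP K p] : ¬ p ∣ (U2 K).index := by
  intro hdvd
  have hp : p.Prime := Fact.out
  set q := Fintype.card K with hq
  have h1 : Nat.card (U2 K) * (U2 K).index = Nat.card (Matrix.SpecialLinearGroup (Fin 2) K) :=
    Subgroup.card_mul_index _
  have h2 : Nat.card (Matrix.SpecialLinearGroup (Fin 2) K) ∣ Nat.card (GL (Fin 2) K) :=
    Subgroup.card_dvd_of_injective _ Matrix.SpecialLinearGroup.toGL_injective
  rw [Matrix.card_GL_field, Fin.prod_univ_two, ← h1, card_U2] at h2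
  simp only [Fin.val_zero, Fin.val_one, pow_zero, pow_one] at h2
  obtain ⟨n, -, hn⟩ := FiniteField.card K p
  have hpq : p ∣ q := by rw [hq, hn]; exact dvd_pow_self p n.pos.ne'
  have hq1 : 1 ≤ q := Fintype.card_pos
  have e : (q ^ 2 - 1) * (q ^ 2 - q) = q * ((q - 1) * (q ^ 2 - 1)) := by
    obtain ⟨r, hr⟩ : ∃ r, q = r + 1 := ⟨q - 1, by omega⟩
    rw [hr]
    have h1 : (r+1)^2 - 1 = r * (r + 2) := by
      have : (r+1)^2 = r*(r+2) + 1 := by ring
      omega
    have h2 : (r+1)^2 - (r+1) = (r+1) * r := by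
      have : (r+1)^2 = (r+1) * r + (r+1) := by ring
      omega
    rw [h1, h2, Nat.add_sub_cancel]
    ring
  rw [e] at h2
  have h3 : (U2 K).index ∣ (q - 1) * (q ^ 2 - 1) :=
    Nat.dvd_of_mul_dvd_mul_left (by omega) h2
  have h4 := hdvd.trans h3
  rcases (Nat.Prime.dvd_mul hp).1 h4 with h | h
  · have := (Nat.dvd_sub hpq h)
    have e1 : q - (q - 1) = 1 := by omega
    rw [e1] at this
    exact hp.one_lt.ne' (Nat.dvd_one.1 this)
  · have hq2 : p ∣ q ^ 2 := dvd_pow hpq (by norm_num)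
    have := (Nat.dvd_sub hq2 h)
    have e1 : q ^ 2 - (q ^ 2 - 1) = 1 := by
      have : 1 ≤ q ^ 2 := Nat.one_le_pow _ _ (by omega)
      omega
    rw [e1] at this
    exact hp.one_lt.ne' (Nat.dvd_one.1 this)

theorem isPGroup_U2 [Fintype K] {p : ℕ} [Fact p.Prime] [CharP K p] : IsPGroup p (U2 K) := by
  obtain ⟨n, -, hn⟩ := FiniteField.card K p
  apply IsPGroup.of_card (n := n)
  rw [card_U2, hn]

end Cfsg.Agent.Lib.Helper4_QdPSL0
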