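import Mathlib
import Cfsg.Prelude.Def_LocalEven

set_option autoImplicit false
open Cfsg

namespace Cfsg.Agent.Lib.Helper8_Involves

universe u v w

/-- `H` is involved in `G` iff some subgroup of `G` maps onto `H`. -/
theorem involves_iff (H : Type u) [Group H] (G : Type v) [Group G] :
    Cfsg.Involves H G ↔ ∃ (K : Subgroup G) (f : K →* H), Function.Surjective f := by
  constructor
  · rintro ⟨K, R, hn, ⟨e⟩⟩
    refine ⟨K, e.toMonoidHom.comp (QuotientGroup.mk' (R.subgroupOf K)), ?_⟩
    exact e.surjective.comp (QuotientGroup.mk'_surjective _)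
  · rintro ⟨K, f, hf⟩
    have hR : (f.ker.map K.subtype).subgroupOf K = f.ker := by
      unfold Subgroup.subgroupOf
      rw [Subgroup.comap_map_eq_self_of_injective (Subgroup.subtype_injective _)]
    have hn : ((f.ker.map K.subtype).subgroupOf K).Normal := by
      rw [hR]; infer_instance
    refine ⟨K, f.ker.map K.subtype, hn, ⟨?_⟩⟩
    exact (QuotientGroup.quotientMulEquivOfEq hR).trans (QuotientGroup.quotientKerEquivOfSurjective f hf)

theorem involves_of_surjective {H : Type u} [Group H] {G : Type v} [Group G] (f : G →* H)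
    (hf : Function.Surjective f) : Cfsg.Involves H G := by
  rw [involves_iff]
  refine ⟨⊤, f.comp Subgroup.topEquiv.toMonoidHom, ?_⟩
  exact hf.comp Subgroup.topEquiv.surjective

/-- Involvement passes along injective homomorphisms. -/
theorem involves_of_injective {H : Type u} [Group H] {G₁ : Type v} [Group G₁] {G₂ : Type w} [Group G₂]
    (j : G₁ →* G₂) (hj : Function.Injective j) (h : Cfsg.Involves H G₁) : Cfsg.Involves H G₂ := by
  rw [involves_iff] at h ⊢
  obtain ⟨K, f, hf⟩ := h
  refine ⟨K.map j, f.comp (K.equivMapOfInjective j hj).symm.toMonoidHom, ?_⟩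
  exact hf.comp (K.equivMapOfInjective j hj).symm.surjective

/-- A subgroup of an involved group is involved. -/
theorem involves_subgroup {H : Type u} [Group H] {G : Type v} [Group G] (Q : Subgroup H)
    (h : Cfsg.Involves H G) : Cfsg.Involves Q G := by
  rw [involves_iff] at h ⊢
  obtain ⟨K, f, hf⟩ := h
  -- the preimage of Q, as a subgroup of G
  refine ⟨(Q.comap f).map K.subtype,
    (f.subgroupComap Q).comp ((Q.comap f).equivMapOfInjective K.subtype (Subgroup.subtype_injective _)).symm.toMonoidHom, ?_⟩
  exact (MonoidHom.subgroupComap_surjective_of_surjective f Q hf).comp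
    ((Q.comap f).equivMapOfInjective K.subtype (Subgroup.subtype_injective _)).symm.surjective

/-- A `p`-group involved in a finite group is involved in each of its Sylow `p`-subgroups. -/
theorem involves_sylow {H : Type u} [Group H] {G : Type v} [Group G] [Finite G] (p : ℕ) [Fact p.Prime]
    (hH : IsPGroup p H) (h : Cfsg.Involves H G) (T : Sylow p G) : Cfsg.Involves H (T : Subgroup G) := by
  rw [involves_iff] at h
  obtain ⟨K, f, hf⟩ := h
  -- a Sylow subgroup of K maps onto H
  obtain ⟨T₁⟩ : Nonempty (Sylow p K) := inferInstance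
  have htop : ((T₁.mapSurjective hf : Sylow p H) : Subgroup H) = ⊤ := by
    have hp : IsPGroup p (⊤ : Subgroup H) := hH.to_subgroup _
    exact ((T₁.mapSurjective hf).is_maximal' hp le_top).symm
  rw [Sylow.coe_mapSurjective] at htop
  -- T₁ in G, conjugate into T
  have hT₁p : IsPGroup p ((T₁ : Subgroup K).map K.subtype) := T₁.2.map _
  obtain ⟨T₂, hT₂⟩ := hT₁p.exists_le_sylow
  obtain ⟨g, hg⟩ := MulAction.exists_smul_eq G T₂ T
  -- the injective map T₁ → T, x ↦ g x g⁻¹
  have hmem : ∀ x : (T₁ : Subgroup K), g * ((x : K) : G) * g⁻¹ ∈ (T : Subgroup G) := by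
    intro x
    rw [← hg, Sylow.coe_subgroup_smul]
    have h1 : ((x : K) : G) ∈ (T₂ : Subgroup G) := hT₂ ⟨x, x.2, rfl⟩
    exact Subgroup.smul_mem_pointwise_smul _ (MulAut.conj g) _ h1
  let j : (T₁ : Subgroup K) →* (T : Subgroup G) :=
    { toFun := fun x => ⟨g * ((x : K) : G) * g⁻¹, hmem x⟩
      map_one' := by apply Subtype.ext; simp
      map_mul' := by
        intro x y
        apply Subtype.ext
        simp only [Subgroup.coe_mul]
        group }
  have hj : Function.Injective j := by
    intro x y hxy
    have h1 : g * ((x : K) : G) * g⁻¹ = g * ((y : K) : G) * g⁻¹ := congrArg Subtype.val hxy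
    have h2 : ((x : K) : G) = ((y : K) : G) := mul_left_cancel (mul_right_cancel h1)
    exact Subtype.ext (Subtype.ext h2)
  apply involves_of_injective j hj
  apply involves_of_surjective (f.comp (T₁ : Subgroup K).subtype)
  intro y
  have : y ∈ Subgroup.map f (T₁ : Subgroup K) := by rw [htop]; exact Subgroup.mem_top y
  obtain ⟨x, hx, rfl⟩ := this
  exact ⟨⟨x, hx⟩, rfl⟩

end Cfsg.Agent.Lib.Helper8_Involves
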