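import Mathlib
import Cfsg.Prelude.Def_PLocal
import Cfsg.Prelude.Def_LocalEven
import Cfsg.Agent.Lib.Helper8_Involves
import Cfsg.Agent.Lib.Helper4_QdPSL0

namespace Cfsg.Agent.Lib.Helper4_QdPSL1
open Matrix Cfsg.Agent.Lib.Helper4_QdPSL0 Cfsg.Agent.Lib.Helper8_Involves

/-- upper unitriangular subgroup of SL₃ -/
def U3 (R : Type*) [CommRing R] : Subgroup (Matrix.SpecialLinearGroup (Fin 3) R) where
  carrier := {M | M.1 0 0 = 1 ∧ M.1 1 1 = 1 ∧ M.1 2 2 = 1 ∧ M.1 1 0 = 0 ∧ M.1 2 0 = 0 ∧ M.1 2 1 = 0}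
  mul_mem' := by
    rintro A B ⟨a1,a2,a3,a4,a5,a6⟩ ⟨b1,b2,b3,b4,b5,b6⟩
    simp [Matrix.mul_apply, Fin.sum_univ_three, a1, a2, a3, a4, a5, a6, b1, b2, b3, b4, b5, b6]
  one_mem' := by simp
  inv_mem' := by
    rintro A ⟨a1,a2,a3,a4,a5,a6⟩
    simp [Matrix.SpecialLinearGroup.coe_inv, Matrix.adjugate_fin_three, a1, a2, a3, a4, a5, a6]

theorem U3_pow {p : ℕ} [Fact p.Prime] (hp : p ≠ 2) (M : Matrix.SpecialLinearGroup (Fin 3) (ZMod p))
    (hM : M ∈ U3 (ZMod p)) : M ^ p = 1 := by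
  obtain ⟨a1,a2,a3,a4,a5,a6⟩ := hM
  have hp3 : 3 ≤ p := by
    have := (Fact.out : p.Prime).two_le; omega
  apply Subtype.ext
  have hpow : (M ^ p).1 = M.1 ^ p := Matrix.SpecialLinearGroup.coe_pow M p
  show (M ^ p).1 = 1
  rw [hpow]
  set N : Matrix (Fin 3) (Fin 3) (ZMod p) := M.1 - 1 with hN
  have hMN : M.1 = 1 + N := by rw [hN]; abel
  have hN3 : N ^ 3 = 0 := by
    rw [pow_succ, pow_two]
    ext i j
    fin_cases i <;> fin_cases j <;>
      simp [hN, Matrix.mul_apply, Fin.sum_univ_three, a1, a2, a3, a4, a5, a6]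
  have hNp : N ^ p = 0 := by
    have h3 : N ^ p = N ^ 3 * N ^ (p - 3) := by
      rw [← pow_add]; congr 1; omega
    rw [h3, hN3, zero_mul]
  rw [hMN, add_pow_char_of_commute p (Commute.one_left N), one_pow, hNp, add_zero]

theorem U3_isPGroup {p : ℕ} [Fact p.Prime] (hp : p ≠ 2) : IsPGroup p (U3 (ZMod p)) := by
  intro g
  refine ⟨1, ?_⟩
  rw [pow_one]
  apply Subtype.ext
  rw [Subgroup.coe_pow]
  exact U3_pow hp g.1 g.2

theorem U3_le_qd (p : ℕ) : U3 (ZMod p) ≤ Cfsg.qd p := by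
  intro M hM
  apply Subgroup.subset_closure
  exact ⟨hM.2.2.2.2.1, hM.2.2.2.2.2, hM.2.2.1⟩

/-- two noncommuting elements -/
def xx (R : Type*) [CommRing R] : Matrix.SpecialLinearGroup (Fin 3) R :=
  ⟨!![1,1,0;0,1,0;0,0,1], by simp [Matrix.det_fin_three]⟩
/-- second one -/
def yy (R : Type*) [CommRing R] : Matrix.SpecialLinearGroup (Fin 3) R :=
  ⟨!![1,0,0;0,1,1;0,0,1], by simp [Matrix.det_fin_three]⟩

theorem xx_mem (R : Type*) [CommRing R] : xx R ∈ U3 R := by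
  refine ⟨?_, ?_, ?_, ?_, ?_, ?_⟩ <;> simp [xx]
theorem yy_mem (R : Type*) [CommRing R] : yy R ∈ U3 R := by
  refine ⟨?_, ?_, ?_, ?_, ?_, ?_⟩ <;> simp [yy]

theorem xy_ne (R : Type*) [CommRing R] [Nontrivial R] : xx R * yy R ≠ yy R * xx R := by
  intro h
  have h1 : (xx R * yy R).1 0 2 = (yy R * xx R).1 0 2 := by rw [h]
  have e1 : (xx R * yy R).1 = (xx R).1 * (yy R).1 := Matrix.SpecialLinearGroup.coe_mul _ _
  have e2 : (yy R * xx R).1 = (yy R).1 * (xx R).1 := Matrix.SpecialLinearGroup.coe_mul _ _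
  rw [e1, e2] at h1
  simp [xx, yy, Matrix.mul_apply, Fin.sum_univ_three] at h1

theorem main {p : ℕ} [Fact p.Prime] (hp : p ≠ 2) {K : Type*} [Field K] [Fintype K] [CharP K p] :
    ¬ Cfsg.Involves ↥(Cfsg.qd p) (Matrix.ProjectiveSpecialLinearGroup (Fin 2) K) := by
  intro hinv
  set Q' : Subgroup (Cfsg.qd p) := (U3 (ZMod p)).subgroupOf (Cfsg.qd p) with hQ'
  have h1 : Cfsg.Involves Q' (Matrix.ProjectiveSpecialLinearGroup (Fin 2) K) :=
    involves_subgroup Q' hinv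
  have hQp : IsPGroup p Q' := (U3_isPGroup hp).comap_subtype
  let S : Sylow p (Matrix.SpecialLinearGroup (Fin 2) K) := (isPGroup_U2 (K := K) (p := p)).toSylow index_U2
  let T : Sylow p (Matrix.ProjectiveSpecialLinearGroup (Fin 2) K) :=
    S.mapSurjective (QuotientGroup.mk'_surjective _)
  have h2 := involves_sylow p hQp h1 T
  rw [involves_iff] at h2
  obtain ⟨L, f, hf⟩ := h2
  have hTcomm : ∀ a b : (T : Subgroup (Matrix.ProjectiveSpecialLinearGroup (Fin 2) K)), a * b = b * a := by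
    rintro ⟨a, ha⟩ ⟨b, hb⟩
    have hT : (T : Subgroup (Matrix.ProjectiveSpecialLinearGroup (Fin 2) K)) =
        Subgroup.map (QuotientGroup.mk' _) (U2 K) := Sylow.coe_mapSurjective _ _
    rw [hT] at ha hb
    obtain ⟨u, hu, rfl⟩ := ha
    obtain ⟨v, hv, rfl⟩ := hb
    apply Subtype.ext
    show QuotientGroup.mk' _ u * QuotientGroup.mk' _ v = QuotientGroup.mk' _ v * QuotientGroup.mk' _ u
    rw [← map_mul, ← map_mul, U2_comm u v hu hv]
  have hx : (⟨xx (ZMod p), U3_le_qd p (xx_mem _)⟩ : Cfsg.qd p) ∈ Q' := xx_mem _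
  have hy : (⟨yy (ZMod p), U3_le_qd p (yy_mem _)⟩ : Cfsg.qd p) ∈ Q' := yy_mem _
  obtain ⟨a, hax⟩ := hf ⟨_, hx⟩
  obtain ⟨b, hby⟩ := hf ⟨_, hy⟩
  have h3 : f a * f b = f b * f a := by
    rw [← map_mul, ← map_mul]
    congr 1
    apply Subtype.ext
    exact hTcomm a.1 b.1
  rw [hax, hby] at h3
  have h4 := congrArg (fun z : Q' => ((z : Cfsg.qd p) : Matrix.SpecialLinearGroup (Fin 3) (ZMod p))) h3
  exact xy_ne (ZMod p) h4

end Cfsg.Agent.Lib.Helper4_QdPSL1
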