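import Mathlib

namespace Cfsg.Agent.Lib.Helper4_QuadPolar

open Matrix

theorem quad_of_polar {F V ι : Type*} [Field F] [CharP F 2] [AddCommGroup V] [Module F V]
    [Fintype ι] (b : Module.Basis ι F V) (B : LinearMap.BilinForm F V) (hB : B.IsAlt) (c : ι → F) :
    ∃! Q : QuadraticForm F V, QuadraticMap.polarBilin Q = B ∧ ∀ i, Q (b i) = c i := by
  classical
  let _ : LinearOrder ι := LinearOrder.lift' (Fintype.equivFin ι) (Fintype.equivFin ι).injective
  have hsymm : ∀ x y, B x y = B y x := by
    intro x y
    have := hB.neg_eq x y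
    rw [← this, CharTwo.neg_eq]
  set M : Matrix ι ι F := Matrix.of (fun i j => if i < j then B (b i) (b j) else if i = j then c i else 0)
    with hM
  set A : LinearMap.BilinForm F V := Matrix.toBilin b M with hA
  have hAb : ∀ i j, A (b i) (b j) = M i j := by
    intro i j
    rw [← LinearMap.BilinForm.toMatrix_apply b A i j, hA, LinearMap.BilinForm.toMatrix_toBilin]
  refine ⟨LinearMap.BilinMap.toQuadraticMap A, ⟨?_, ?_⟩, ?_⟩
  · rw [LinearMap.BilinMap.polarBilin_toQuadraticMap]
    apply LinearMap.BilinForm.ext_basis b
    intro i j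
    rw [LinearMap.add_apply, LinearMap.add_apply, LinearMap.flip_apply, hAb, hAb]
    simp only [hM, Matrix.of_apply]
    rcases lt_trichotomy i j with h | h | h
    · rw [if_pos h, if_neg (not_lt.mpr h.le), if_neg (ne_of_gt h), add_zero]
    · subst h
      rw [if_neg (lt_irrefl i), if_pos rfl, CharTwo.add_self_eq_zero, hB.self_eq_zero]
    · rw [if_neg (not_lt.mpr h.le), if_neg (ne_of_gt h), if_pos h, zero_add]
      exact hsymm _ _
  · intro i
    rw [LinearMap.BilinMap.toQuadraticMap_apply, hAb]
    simp only [hM, Matrix.of_apply]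
    rw [if_neg (lt_irrefl i), if_pos trivial]
  · rintro Q' ⟨hQ'p, hQ'b⟩
    set Q := LinearMap.BilinMap.toQuadraticMap A with hQ
    have hQp : QuadraticMap.polarBilin Q = B := by
      rw [hQ, LinearMap.BilinMap.polarBilin_toQuadraticMap]
      apply LinearMap.BilinForm.ext_basis b
      intro i j
      rw [LinearMap.add_apply, LinearMap.add_apply, LinearMap.flip_apply, hAb, hAb]
      simp only [hM, Matrix.of_apply]
      rcases lt_trichotomy i j with h | h | h
      · rw [if_pos h, if_neg (not_lt.mpr h.le), if_neg (ne_of_gt h), add_zero]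
      · subst h
        rw [if_neg (lt_irrefl i), if_pos rfl, CharTwo.add_self_eq_zero, hB.self_eq_zero]
      · rw [if_neg (not_lt.mpr h.le), if_neg (ne_of_gt h), if_pos h, zero_add]
        exact hsymm _ _
    have hQb : ∀ i, Q (b i) = c i := by
      intro i
      rw [hQ, LinearMap.BilinMap.toQuadraticMap_apply, hAb]
      simp only [hM, Matrix.of_apply]
      rw [if_neg (lt_irrefl i), if_pos trivial]
    have hpolar : ∀ x y, QuadraticMap.polar Q' x y = QuadraticMap.polar Q x y := by
      intro x y
      have h1 : QuadraticMap.polarBilin Q' x y = QuadraticMap.polarBilin Q x y := by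
        rw [hQ'p, hQp]
      simpa using h1
    have hadd : ∀ x y, Q' (x + y) - Q (x + y) = (Q' x - Q x) + (Q' y - Q y) := by
      intro x y
      have := hpolar x y
      unfold QuadraticMap.polar at this
      linear_combination this
    ext v
    have hv : v ∈ Submodule.span F (Set.range b) := by rw [b.span_eq]; trivial
    rw [← sub_eq_zero]
    induction hv using Submodule.span_induction with
    | mem x hx =>
      obtain ⟨i, rfl⟩ := hx
      rw [hQ'b, hQb, sub_self]
    | zero => rw [QuadraticMap.map_zero, QuadraticMap.map_zero, sub_self]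
    | add x y _ _ hx hy => rw [hadd, hx, hy, add_zero]
    | smul a x _ hx =>
      rw [QuadraticMap.map_smul, QuadraticMap.map_smul, ← smul_sub, hx, smul_zero]

end Cfsg.Agent.Lib.Helper4_QuadPolar
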