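import Mathlib
import Cfsg.Agent.Lib.Helper4_RegCent1

namespace Cfsg.Agent.Lib.Helper4_RegCent2
open Cfsg.Agent.Lib.Helper4_RegUnip Cfsg.Agent.Lib.Helper4_RegCent0 Cfsg.Agent.Lib.Helper4_RegCent1

variable {F : Type*} [Field F]

theorem card_ne_zero_fun [Fintype F] (k : ℕ) :
    Nat.card {a : Fin (k+1) → F // a 0 ≠ 0} = (Fintype.card F - 1) * Fintype.card F ^ k := by
  classical
  have e : {a : Fin (k+1) → F // a 0 ≠ 0} ≃ {x : F // x ≠ 0} × (Fin k → F) :=
    { toFun := fun a => (⟨a.1 0, a.2⟩, Fin.tail a.1)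
      invFun := fun x => ⟨Fin.cons x.1.1 x.2, by simpa using x.1.2⟩
      left_inv := by
        rintro ⟨a, ha⟩
        apply Subtype.ext
        simp
      right_inv := by
        rintro ⟨⟨x, hx⟩, t⟩
        simp }
  rw [Nat.card_congr e, Nat.card_prod, Nat.card_eq_fintype_card, Nat.card_eq_fintype_card,
    Fintype.card_fun, Fintype.card_fin]
  congr 1
  rw [← Fintype.card_units, Fintype.card_congr unitsEquivNeZero]

theorem main [Fintype F] {k : ℕ} (u : GL (Fin (k+1)) F)
    (hnil : ((u : Matrix (Fin (k+1)) (Fin (k+1)) F) - 1) ^ (k+1) = 0)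
    (hreg : ((u : Matrix (Fin (k+1)) (Fin (k+1)) F) - 1).rank = k) :
    Nat.card ↥(Subgroup.centralizer ({u} : Set (GL (Fin (k+1)) F))) =
      (Fintype.card F - 1) * Fintype.card F ^ k := by
  set U : Matrix (Fin (k+1)) (Fin (k+1)) F := (u : Matrix (Fin (k+1)) (Fin (k+1)) F) with hU
  set N := U - 1 with hN
  obtain ⟨e, he⟩ := exists_cyclic N hreg
  have hcomm_iff : ∀ X : Matrix (Fin (k+1)) (Fin (k+1)) F, Commute X N ↔ Commute X U := by
    intro X
    constructor
    · intro h
      have : U = N + 1 := by rw [hN]; abel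
      rw [this]
      exact h.add_right (Commute.one_right X)
    · intro h
      exact h.sub_right (Commute.one_right X)
  have hmemC : ∀ g : GL (Fin (k+1)) F, g ∈ Subgroup.centralizer ({u} : Set (GL (Fin (k+1)) F)) ↔
      Commute (g : Matrix (Fin (k+1)) (Fin (k+1)) F) U := by
    intro g
    rw [Subgroup.mem_centralizer_iff]
    constructor
    · intro h
      have h1 := h u (Set.mem_singleton u)
      have h2 := congrArg (fun x : GL (Fin (k+1)) F => (x : Matrix (Fin (k+1)) (Fin (k+1)) F)) h1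
      simp only [Units.val_mul] at h2
      exact h2.symm
    · intro h x hx
      rw [Set.mem_singleton_iff] at hx
      subst hx
      apply Units.ext
      simp only [Units.val_mul]
      exact h.eq.symm
  rw [← card_ne_zero_fun k]
  symm
  let Φ : {a : Fin (k+1) → F // a 0 ≠ 0} → ↥(Subgroup.centralizer ({u} : Set (GL (Fin (k+1)) F))) :=
    fun a => ⟨((P_isUnit_iff N hnil a.1).mpr a.2).unit, by
      rw [hmemC, ← hcomm_iff]
      exact (P_commute N a.1 N (Commute.refl N)).symm⟩
  apply Nat.card_congr (Equiv.ofBijective Φ ⟨?_, ?_⟩)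
  · intro a b hab
    apply Subtype.ext
    apply P_injective N hnil e he
    have h1 := congrArg (fun x : ↥(Subgroup.centralizer ({u} : Set (GL (Fin (k+1)) F))) =>
      ((x : GL (Fin (k+1)) F) : Matrix (Fin (k+1)) (Fin (k+1)) F)) hab
    exact h1
  · rintro ⟨g, hg⟩
    rw [hmemC, ← hcomm_iff] at hg
    obtain ⟨a, ha⟩ := commutant_eq N hnil e he _ hg
    have ha0 : a 0 ≠ 0 := by
      rw [← P_isUnit_iff N hnil a, ← ha]
      exact g.isUnit
    refine ⟨⟨a, ha0⟩, ?_⟩
    apply Subtype.ext
    apply Units.ext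
    exact ha.symm

end Cfsg.Agent.Lib.Helper4_RegCent2
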