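import Mathlib
import Cfsg.Agent.Lib.Helper4_RegClass4

namespace Cfsg.Agent.Lib.Helper4_RegClass5
open Matrix Polynomial Cfsg.Agent.Lib.Helper4_RegUnip Cfsg.Agent.Lib.Helper4_RegCent0 Cfsg.Agent.Lib.Helper4_RegCent1 Cfsg.Agent.Lib.Helper4_RegClass0 Cfsg.Agent.Lib.Helper4_RegClass1 Cfsg.Agent.Lib.Helper4_RegClass2 Cfsg.Agent.Lib.Helper4_RegClass3 Cfsg.Agent.Lib.Helper4_RegClass4

variable {F : Type*} [Field F]

theorem main [Fintype F] {k : ℕ} :
    Nat.card {C : ConjClasses (Matrix.SpecialLinearGroup (Fin (k+1)) F) //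
      ∃ u : Matrix.SpecialLinearGroup (Fin (k+1)) F, ConjClasses.mk u = C ∧
        ((u : Matrix (Fin (k+1)) (Fin (k+1)) F) - 1) ^ (k+1) = 0 ∧
        ((u : Matrix (Fin (k+1)) (Fin (k+1)) F) - 1).rank = k} =
      Nat.gcd (k+1) (Fintype.card F - 1) := by
  classical
  set D : Subgroup Fˣ := (powMonoidHom (k+1) : Fˣ →* Fˣ).range with hD
  -- chosen data
  have hdata : ∀ C : {C : ConjClasses (Matrix.SpecialLinearGroup (Fin (k+1)) F) //
      ∃ u : Matrix.SpecialLinearGroup (Fin (k+1)) F, ConjClasses.mk u = C ∧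
        ((u : Matrix (Fin (k+1)) (Fin (k+1)) F) - 1) ^ (k+1) = 0 ∧
        ((u : Matrix (Fin (k+1)) (Fin (k+1)) F) - 1).rank = k},
      ∃ (u : Matrix.SpecialLinearGroup (Fin (k+1)) F) (Q : Matrix (Fin (k+1)) (Fin (k+1)) F),
        ConjClasses.mk u = C.1 ∧ Q.det ≠ 0 ∧
        (u : Matrix (Fin (k+1)) (Fin (k+1)) F) * Q = Q * U0 (k+1) F := by
    rintro ⟨C, u, hu, hnil, hreg⟩
    obtain ⟨Q, hQ, h⟩ := exists_Q _ hnil hreg
    exact ⟨u, Q, hu, hQ, h⟩
  choose uu QQ huu hQQ hconj using hdata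
  let Ψ : {C : ConjClasses (Matrix.SpecialLinearGroup (Fin (k+1)) F) //
      ∃ u : Matrix.SpecialLinearGroup (Fin (k+1)) F, ConjClasses.mk u = C ∧
        ((u : Matrix (Fin (k+1)) (Fin (k+1)) F) - 1) ^ (k+1) = 0 ∧
        ((u : Matrix (Fin (k+1)) (Fin (k+1)) F) - 1).rank = k} → Fˣ ⧸ D :=
    fun C => QuotientGroup.mk (Units.mk0 (QQ C).det (hQQ C))
  have hinj : Function.Injective Ψ := by
    intro C₁ C₂ h
    have h1 : (Units.mk0 (QQ C₁).det (hQQ C₁))⁻¹ * Units.mk0 (QQ C₂).det (hQQ C₂) ∈ D :=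
      QuotientGroup.eq.mp h
    obtain ⟨d, hd⟩ := h1
    have hd' : (QQ C₂).det = (QQ C₁).det * (d : F) ^ (k+1) := by
      have := congrArg (fun x : Fˣ => (x : F)) hd
      simp only [powMonoidHom_apply, Units.val_pow_eq_pow_val, Units.val_mul, Units.val_inv_eq_inv_val,
        Units.val_mk0] at this
      rw [this]
      have := hQQ C₁
      field_simp
    obtain ⟨h', hh', hc'⟩ := K1_backward _ _ (QQ C₂) (QQ C₁) (hQQ C₂) (hQQ C₁) (hconj C₂) (hconj C₁)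
      (d : F) hd'
    have hic : IsConj (uu C₂) (uu C₁) := (isConj_iff_mat _ _).mpr ⟨h', hh', hc'⟩
    apply Subtype.ext
    rw [← huu C₁, ← huu C₂]
    exact (ConjClasses.mk_eq_mk_iff_isConj.mpr hic).symm
  have hsurj : Function.Surjective Ψ := by
    intro x
    obtain ⟨δ, rfl⟩ := QuotientGroup.mk_surjective x
    obtain ⟨u, hnil, hreg, hug⟩ := exists_rep (k := k) (δ : F) δ.ne_zero
    let C : {C : ConjClasses (Matrix.SpecialLinearGroup (Fin (k+1)) F) //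
      ∃ u : Matrix.SpecialLinearGroup (Fin (k+1)) F, ConjClasses.mk u = C ∧
        ((u : Matrix (Fin (k+1)) (Fin (k+1)) F) - 1) ^ (k+1) = 0 ∧
        ((u : Matrix (Fin (k+1)) (Fin (k+1)) F) - 1).rank = k} :=
      ⟨ConjClasses.mk u, u, rfl, hnil, hreg⟩
    refine ⟨C, ?_⟩
    have hic : IsConj (uu C) u := ConjClasses.mk_eq_mk_iff_isConj.mp (huu C)
    obtain ⟨h', hh', hc'⟩ := (isConj_iff_mat _ _).mp hic
    have hgdet : (gδ k (δ : F)).det ≠ 0 := by rw [gδ_det]; exact δ.ne_zero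
    obtain ⟨a, ha0, ha⟩ := K1_forward h' _ _ (QQ C) (gδ k (δ : F)) hh' hc' (hQQ C) hgdet
      (hconj C) hug
    show QuotientGroup.mk (Units.mk0 (QQ C).det (hQQ C)) = QuotientGroup.mk δ
    rw [QuotientGroup.eq]
    refine ⟨(Units.mk0 a ha0)⁻¹, ?_⟩
    apply Units.ext
    simp only [powMonoidHom_apply, Units.val_pow_eq_pow_val, Units.val_mul, Units.val_inv_eq_inv_val,
      Units.val_mk0, inv_pow]
    rw [ha, gδ_det]
    have := δ.ne_zero
    field_simp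
  rw [Nat.card_congr (Equiv.ofBijective Ψ ⟨hinj, hsurj⟩)]
  have h1 : Nat.card (Fˣ ⧸ D) = D.index := rfl
  rw [h1, hD, IsCyclic.index_powMonoidHom_range, Nat.card_units, Nat.card_eq_fintype_card,
    Nat.gcd_comm]

end Cfsg.Agent.Lib.Helper4_RegClass5
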