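import Mathlib
import Cfsg.Prelude.Def_ClassicalGeometry
import Cfsg.Agent.Lib.Helper4_RegUnip

namespace Cfsg.Agent.Lib.Helper4_RegUnip2
open Cfsg Cfsg.Agent.Lib.Helper4_RegUnip

variable {F : Type*} [Field F]

theorem mulVecLin_pow'' {ι : Type*} [Fintype ι] [DecidableEq ι] (N : Matrix ι ι F) (k : ℕ) :
    (N ^ k).mulVecLin = (N.mulVecLin) ^ k := by
  induction k with
  | zero => simp [Module.End.one_eq_id]
  | succ k ih => rw [pow_succ, pow_succ, Matrix.mulVecLin_mul, ih]; rfl

theorem main' {ι : Type*} [Fintype ι] [DecidableEq ι] {n : ℕ} (hn : Fintype.card ι = n)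
    (N : Matrix ι ι F) (hnil : N ^ n = 0) (hreg : N.rank = n - 1)
    (W : Submodule F (ι → F)) (hW : ∀ v ∈ W, N.mulVec v ∈ W) :
    W = LinearMap.ker (Matrix.mulVecLin (N ^ Module.finrank F W)) := by
  set f : Module.End F (ι → F) := N.mulVecLin with hf
  have hker1 : Module.finrank F (LinearMap.ker f) ≤ 1 := by
    have h1 := LinearMap.finrank_range_add_finrank_ker f
    have h2 : Module.finrank F (LinearMap.range f) = n - 1 := hreg
    rw [Module.finrank_fintype_fun_eq_card, hn] at h1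
    omega
  rw [mulVecLin_pow'']
  set d := Module.finrank F W with hd
  have hdn : d ≤ n := by
    have := Submodule.finrank_le W
    rwa [Module.finrank_fintype_fun_eq_card, hn] at this
  have hW' : ∀ v ∈ W, f v ∈ W := hW
  apply Submodule.eq_of_le_of_finrank_le
  · intro x hx
    set g : Module.End F W := f.restrict hW' with hg
    have h1 : LinearMap.ker (g ^ n) = LinearMap.ker (g ^ d) :=
      Module.End.ker_pow_eq_ker_pow_finrank_of_le hdn
    have h2 : (⟨x, hx⟩ : W) ∈ LinearMap.ker (g ^ n) := by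
      rw [LinearMap.mem_ker, hg, Module.End.pow_restrict]
      apply Subtype.ext
      rw [LinearMap.restrict_apply]
      show (f ^ n) x = 0
      rw [hf, ← mulVecLin_pow'', hnil]
      simp
    rw [h1, LinearMap.mem_ker, hg, Module.End.pow_restrict] at h2
    have := congrArg Subtype.val h2
    rw [LinearMap.restrict_apply] at this
    exact this
  · rw [← hd]
    exact finrank_ker_pow_le f hker1 d

theorem symp_main {m : ℕ} (u : Matrix.symplecticGroup (Fin m) F)
    (hnil : ((u : Matrix (Fin m ⊕ Fin m) (Fin m ⊕ Fin m) F) - 1) ^ (2 * m) = 0)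
    (hreg : ((u : Matrix (Fin m ⊕ Fin m) (Fin m ⊕ Fin m) F) - 1).rank = 2 * m - 1)
    (W : Submodule F (Fin m ⊕ Fin m → F))
    (hW : ∀ v ∈ W, (u : Matrix (Fin m ⊕ Fin m) (Fin m ⊕ Fin m) F).mulVec v ∈ W)
    (hdim : 2 * Module.finrank F W ≤ 2 * m) :
    ∀ v ∈ W, ∀ w ∈ W, Cfsg.sympForm m F v w = 0 := by
  set U : Matrix (Fin m ⊕ Fin m) (Fin m ⊕ Fin m) F := (u : Matrix (Fin m ⊕ Fin m) (Fin m ⊕ Fin m) F) with hU
  set Ui : Matrix (Fin m ⊕ Fin m) (Fin m ⊕ Fin m) F := ((u⁻¹ : Matrix.symplecticGroup (Fin m) F) : Matrix (Fin m ⊕ Fin m) (Fin m ⊕ Fin m) F) with hUi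
  have hUiU : Ui * U = 1 := by
    have : ((u⁻¹ * u : Matrix.symplecticGroup (Fin m) F) : Matrix (Fin m ⊕ Fin m) (Fin m ⊕ Fin m) F) = 1 := by
      rw [inv_mul_cancel]; rfl
    exact this
  have hUUi : U * Ui = 1 := by
    have : ((u * u⁻¹ : Matrix.symplecticGroup (Fin m) F) : Matrix (Fin m ⊕ Fin m) (Fin m ⊕ Fin m) F) = 1 := by
      rw [mul_inv_cancel]; rfl
    exact this
  set N := U - 1 with hN
  have hcard : Fintype.card (Fin m ⊕ Fin m) = 2 * m := by simp; ring
  have hWN : ∀ v ∈ W, N.mulVec v ∈ W := by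
    intro v hv
    rw [hN, Matrix.sub_mulVec, Matrix.one_mulVec]
    exact W.sub_mem (hW v hv) hv
  have hWeq := main' hcard N hnil hreg W hWN
  set d := Module.finrank F W with hd
  -- the form
  set B : LinearMap.BilinForm F (Fin m ⊕ Fin m → F) := Matrix.toBilin' (Matrix.J (Fin m) F) with hB
  have hBapp : ∀ v w, B v w = Cfsg.sympForm m F v w := by
    intro v w
    rw [hB, Matrix.toBilin'_apply']
    rfl
  have hBnd : B.Nondegenerate := by
    rw [hB]
    exact LinearMap.BilinForm.nondegenerate_toBilin'_of_det_ne_zero' _ (Matrix.isUnit_det_J (Fin m) F).ne_zero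
  have hsym : U.transpose * Matrix.J (Fin m) F * U = Matrix.J (Fin m) F :=
    SymplecticGroup.mem_iff'.mp u.2
  have hBinv : ∀ a b, B (U.mulVec a) (U.mulVec b) = B a b := by
    intro a b
    rw [hB, Matrix.toBilin'_apply', Matrix.toBilin'_apply']
    rw [← Matrix.vecMul_transpose, ← Matrix.dotProduct_mulVec, Matrix.mulVec_mulVec,
      Matrix.mulVec_mulVec, hsym]
  -- W' = orthogonal
  set W' := B.orthogonal W with hW'
  have hdimW' : Module.finrank F W' = 2 * m - d := by
    rw [hW', LinearMap.BilinForm.finrank_orthogonal hBnd, Module.finrank_fintype_fun_eq_card, hcard]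
  -- Ui commutes with N ^ d
  have hcomm : Commute Ui N := by
    rw [hN]
    apply Commute.sub_right
    · show Ui * U = U * Ui
      rw [hUiU, hUUi]
    · exact Commute.one_right _
  have hUiW : ∀ w ∈ W, Ui.mulVec w ∈ W := by
    intro w hw
    rw [hWeq, LinearMap.mem_ker, Matrix.mulVecLin_apply] at hw ⊢
    rw [Matrix.mulVec_mulVec, ← (hcomm.pow_right d).eq, ← Matrix.mulVec_mulVec, hw,
      Matrix.mulVec_zero]
  have hW'inv : ∀ x ∈ W', U.mulVec x ∈ W' := by
    intro x hx
    rw [hW', LinearMap.BilinForm.mem_orthogonal_iff] at hx ⊢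
    intro w hw
    have h1 : w = U.mulVec (Ui.mulVec w) := by
      rw [Matrix.mulVec_mulVec, hUUi, Matrix.one_mulVec]
    rw [h1, hBinv]
    exact hx _ (hUiW w hw)
  have hW'N : ∀ v ∈ W', N.mulVec v ∈ W' := by
    intro v hv
    rw [hN, Matrix.sub_mulVec, Matrix.one_mulVec]
    exact W'.sub_mem (hW'inv v hv) hv
  have hW'eq := main' hcard N hnil hreg W' hW'N
  rw [hdimW'] at hW'eq
  have hle : W ≤ W' := by
    intro x hx
    rw [hWeq, LinearMap.mem_ker, Matrix.mulVecLin_apply] at hx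
    rw [hW'eq, LinearMap.mem_ker, Matrix.mulVecLin_apply]
    have e : 2 * m - d = (2 * m - d - d) + d := by omega
    rw [e, pow_add, ← Matrix.mulVec_mulVec, hx, Matrix.mulVec_zero]
  intro v hv w hw
  rw [← hBapp]
  have := hle hw
  rw [hW', LinearMap.BilinForm.mem_orthogonal_iff] at this
  exact this v hv

end Cfsg.Agent.Lib.Helper4_RegUnip2
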