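import Mathlib
import Cfsg.Prelude.Def_LocalStructure
import Cfsg.Agent.Lib.Helper4_PQ
import Cfsg.Agent.Lib.Helper4_Kieler0
import Cfsg.Agent.Lib.Helper4_PReduced2
import Cfsg.Agent.Lib.Helper4_Subnormal

namespace Cfsg.Agent.Lib.Helper4_RelP1
open Cfsg Cfsg.Agent.Lib.Helper4_PReduced Cfsg.Agent.Lib.Helper4_PReduced2
  Cfsg.Agent.Lib.Helper4_Subnormal Cfsg.Agent.Lib.Helper4_PIrred Cfsg.Agent.Lib.Helper4_Stab
  Cfsg.Agent.Lib.Helper4_Coprime Cfsg.Agent.Lib.Helper4_Kieler0 Cfsg.Agent.Lib.Helper4_PQ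
open scoped commutatorElement

variable {H : Type*} [Group H]

theorem relPReduced_top_iff {p : ℕ} [Fact p.Prime] (V : Subgroup H) :
    RelPReduced p ⊤ V ↔ IsPReducedNormal p V := by
  rw [isPReducedNormal_iff]
  unfold RelPReduced NoPQuot
  constructor
  · rintro ⟨-, h1, h2, h3⟩
    refine ⟨Subgroup.normalizer_eq_top_iff.mp (top_le_iff.mp h1), h2, ?_⟩
    intro D hD hDp
    exact h3 D le_top (by rw [Subgroup.normalizer_eq_top_iff.mpr hD]) hDp
  · rintro ⟨h1, h2, h3⟩
    refine ⟨le_top, by rw [Subgroup.normalizer_eq_top_iff.mpr h1], h2, ?_⟩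
    intro D _ hD hDp
    exact h3 D (Subgroup.normalizer_eq_top_iff.mp (top_le_iff.mp hD)) hDp

/-- every element has a `p`-power power whose order is prime to `p`. -/
theorem exists_pow_coprime [Finite H] {p : ℕ} [Fact p.Prime] (d : H) :
    ∃ a : ℕ, Nat.Coprime (orderOf (d ^ (p ^ a))) p := by
  have hp : p.Prime := Fact.out
  obtain ⟨a, m, hm, hdm⟩ := Nat.exists_eq_pow_mul_and_not_dvd (orderOf_pos d).ne' p hp.ne_one
  refine ⟨a, ?_⟩
  have h2 : orderOf (d ^ (p ^ a)) = m := by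
    rw [orderOf_pow' _ (pow_ne_zero a hp.ne_zero), hdm, Nat.gcd_eq_right (Dvd.intro _ rfl)]
    exact Nat.mul_div_cancel_left m (pow_pos hp.pos a)
  rw [h2]
  exact ((Nat.Prime.coprime_iff_not_dvd hp).mpr hm).symm

/-- a subnormal subgroup acting as a `p`-group on a `p`-reduced normal subgroup centralizes it. -/
theorem subnormal_le_centralizer [Finite H] {p : ℕ} [Fact p.Prime] (Y D : Subgroup H)
    (hY : IsPReducedNormal p Y) (hD : D.IsSubnormal)
    (hDp : ∀ d ∈ D, ∃ k : ℕ, d ^ (p ^ k) ∈ Subgroup.centralizer (Y : Set H)) :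
    D ≤ Subgroup.centralizer (Y : Set H) := by
  obtain ⟨hYn, hel, hCn, hpc⟩ := hY
  have hmapP : IsPGroup p (D.map (QuotientGroup.mk' (Subgroup.centralizer (Y : Set H)))) := by
    rintro ⟨y, hy⟩
    obtain ⟨d, hd, rfl⟩ := Subgroup.mem_map.mp hy
    obtain ⟨k, hk⟩ := hDp d hd
    refine ⟨k, ?_⟩
    apply Subtype.ext
    show (QuotientGroup.mk' (Subgroup.centralizer (Y : Set H)) d) ^ (p ^ k) = 1
    rw [← map_pow, QuotientGroup.mk'_apply, QuotientGroup.eq_one_iff]
    exact hk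
  have hmapS : (D.map (QuotientGroup.mk' (Subgroup.centralizer (Y : Set H)))).IsSubnormal :=
    hD.map (QuotientGroup.mk'_surjective _)
  have h1 := subnormal_pGroup_le_pCore _ hmapS hmapP
  rw [hpc, le_bot_iff] at h1
  intro d hd
  have : (QuotientGroup.mk' (Subgroup.centralizer (Y : Set H)) d) ∈
      D.map (QuotientGroup.mk' (Subgroup.centralizer (Y : Set H))) := Subgroup.mem_map_of_mem _ hd
  rw [h1, Subgroup.mem_bot, QuotientGroup.mk'_apply, QuotientGroup.eq_one_iff] at this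
  exact this

/-- relative form. -/
theorem subnormal_le_centralizer_rel [Finite H] {p : ℕ} [Fact p.Prime] (K Y D : Subgroup H)
    (hY : RelPReduced p K Y) (hDK : D ≤ K) (hD : (D.subgroupOf K).IsSubnormal)
    (hDp : ∀ d ∈ D, ∃ k : ℕ, d ^ (p ^ k) ∈ Subgroup.centralizer (Y : Set H)) :
    D ≤ Subgroup.centralizer (Y : Set H) := by
  have hYK : Y ≤ K := hY.1
  rw [← isPReducedNormal_subgroupOf_iff hYK] at hY
  have h1 := subnormal_le_centralizer (Y.subgroupOf K) (D.subgroupOf K) hY hD (by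
    intro d hd
    rw [Subgroup.mem_subgroupOf] at hd
    obtain ⟨k, hk⟩ := hDp d hd
    refine ⟨k, ?_⟩
    rw [centralizer_subgroupOf hYK, Subgroup.mem_subgroupOf]
    simpa using hk)
  intro d hd
  have := h1 (show (⟨d, hDK hd⟩ : K) ∈ D.subgroupOf K from Subgroup.mem_subgroupOf.mpr hd)
  rw [centralizer_subgroupOf hYK, Subgroup.mem_subgroupOf] at this
  exact this

/-- `D ⊴ L ⊴ K` gives a subnormal subgroup of `K`. -/
theorem isSubnormal_subgroupOf_of_chain (K L D : Subgroup H) (hDL : D ≤ L) (hLK : L ≤ K)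
    (hLD : L ≤ Subgroup.normalizer (D : Set H)) (hKL : K ≤ Subgroup.normalizer (L : Set H)) :
    (D.subgroupOf K).IsSubnormal := by
  have hLn : (L.subgroupOf K).Normal := (Subgroup.normal_subgroupOf_iff_le_normalizer hLK).mpr hKL
  apply Subgroup.IsSubnormal.step (D.subgroupOf K) (L.subgroupOf K)
    (Subgroup.subgroupOf_mono K hDL) hLn.isSubnormal
  rw [Subgroup.normal_subgroupOf_iff_le_normalizer (Subgroup.subgroupOf_mono K hDL)]
  intro x hx
  rw [Subgroup.mem_subgroupOf] at hx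
  have := hLD hx
  rw [Subgroup.mem_normalizer_iff] at this ⊢
  intro y
  rw [Subgroup.mem_subgroupOf, Subgroup.mem_subgroupOf]
  have := this (y : H)
  simpa using this

end Cfsg.Agent.Lib.Helper4_RelP1
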