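import Mathlib
import Cfsg.Prelude.Def_LocalStructure
import Cfsg.Agent.Lib.Helper4_RelP1

namespace Cfsg.Agent.Lib.Helper4_RelP2
open Cfsg Cfsg.Agent.Lib.Helper4_PReduced Cfsg.Agent.Lib.Helper4_PReduced2
  Cfsg.Agent.Lib.Helper4_Subnormal Cfsg.Agent.Lib.Helper4_PIrred Cfsg.Agent.Lib.Helper4_Stab
  Cfsg.Agent.Lib.Helper4_Coprime Cfsg.Agent.Lib.Helper4_Kieler0 Cfsg.Agent.Lib.Helper4_PQ
  Cfsg.Agent.Lib.Helper4_RelP1
open scoped commutatorElement

variable {H : Type*} [Group H]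

theorem elemAb_order {p : ℕ} [Fact p.Prime] (V : Subgroup H) (hel : IsElementaryAbelian p V) :
    ∀ z ∈ V, ∃ k : ℕ, orderOf z = p ^ k := by
  have hp : p.Prime := Fact.out
  intro z hz
  have h1 : orderOf z ∣ p := orderOf_dvd_of_pow_eq_one (hel.2 z hz)
  rcases (Nat.dvd_prime hp).mp h1 with h | h
  · exact ⟨0, by rw [h, pow_zero]⟩
  · exact ⟨1, by rw [h, pow_one]⟩

theorem elemAb_comm {p : ℕ} (V : Subgroup H) (hel : IsElementaryAbelian p V) :
    ∀ a ∈ V, ∀ b ∈ V, a * b = b * a := by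
  intro a ha b hb
  have := hel.1.is_comm.comm (⟨a, ha⟩ : V) ⟨b, hb⟩
  exact congrArg (fun x : V => (x : H)) this

theorem elemAb_of_le {p : ℕ} (V W : Subgroup H) (hel : IsElementaryAbelian p V) (hWV : W ≤ V) :
    IsElementaryAbelian p W := by
  refine ⟨⟨⟨fun a b => ?_⟩⟩, fun a ha => hel.2 a (hWV ha)⟩
  apply Subtype.ext
  exact elemAb_comm V hel a (hWV a.2) b (hWV b.2)

theorem elemAb_isPGroup {p : ℕ} [Fact p.Prime] (V : Subgroup H) (hel : IsElementaryAbelian p V) :
    IsPGroup p V := by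
  rintro ⟨v, hv⟩
  refine ⟨1, ?_⟩
  apply Subtype.ext
  simpa using hel.2 v hv

/-- a `p'`-element of `L ⊴ K` centralizing `Y ∩ L` centralizes `Y` (`Y` normalized by `K`). -/
theorem centralizes_of_centralizes_inf [Finite H] {p : ℕ} [Fact p.Prime] (K L Y : Subgroup H)
    (hel : IsElementaryAbelian p Y) (hYK : Y ≤ K) (hKY : K ≤ Subgroup.normalizer (Y : Set H))
    (hLK : L ≤ K) (hKL : K ≤ Subgroup.normalizer (L : Set H))
    (x : H) (hxL : x ∈ L) (hx : Nat.Coprime (orderOf x) p)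
    (hxC : x ∈ Subgroup.centralizer ((Y ⊓ L : Subgroup H) : Set H)) :
    x ∈ Subgroup.centralizer (Y : Set H) := by
  have hxC' := Subgroup.mem_centralizer_iff.mp hxC
  have h1 := stab_step x hx Y (Y ⊓ L) (by
      intro r hr
      rw [Subgroup.mem_inf, commutatorElement_def]
      constructor
      · have h2 : x * r⁻¹ * x⁻¹ ∈ Y :=
          (Subgroup.mem_normalizer_iff.mp (hKY (hLK hxL)) r⁻¹).mp (Y.inv_mem hr)
        have e : r * x * r⁻¹ * x⁻¹ = r * (x * r⁻¹ * x⁻¹) := by group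
        rw [e]; exact Y.mul_mem hr h2
      · have h2 : r * x * r⁻¹ ∈ L :=
          (Subgroup.mem_normalizer_iff.mp (hKL (hYK hr)) x).mp hxL
        exact L.mul_mem h2 (L.inv_mem hxL))
    (fun z hz => (hxC' z hz).symm)
    (fun z hz => elemAb_order Y hel z (Subgroup.mem_inf.mp hz).1)
  rw [Subgroup.mem_centralizer_iff]
  intro r hr
  exact (h1 r hr).symm

/-- if all `p'`-elements of `D` lie in `C`, every element of `D` has a `p`-power power in `C`. -/
theorem pow_mem_of_pprime_mem [Finite H] {p : ℕ} [Fact p.Prime] (D C : Subgroup H)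
    (h : ∀ x ∈ D, Nat.Coprime (orderOf x) p → x ∈ C) : ∀ d ∈ D, ∃ k : ℕ, d ^ (p ^ k) ∈ C := by
  intro d hd
  obtain ⟨a, ha⟩ := exists_pow_coprime (p := p) d
  exact ⟨a, h _ (D.pow_mem hd _) ha⟩

/-- conversely, `p'`-elements with a `p`-power power in `C` lie in `C`. -/
theorem pprime_mem_of_pow_mem [Finite H] {p : ℕ} [Fact p.Prime] (C : Subgroup H) (x : H)
    (hx : Nat.Coprime (orderOf x) p) (k : ℕ) (hk : x ^ (p ^ k) ∈ C) : x ∈ C :=
  mem_of_pow_mem_of_coprime C x (p ^ k) (orderOf_pos x) (Nat.Coprime.pow_left k hx.symm) hk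

theorem relPReduced_inf [Finite H] {p : ℕ} [Fact p.Prime] (K L Y : Subgroup H)
    (hY : RelPReduced p K Y) (hLK : L ≤ K) (hKL : K ≤ Subgroup.normalizer (L : Set H)) :
    RelPReduced p L (Y ⊓ L) := by
  obtain ⟨hYK, hKY, hel, hno⟩ := hY
  refine ⟨inf_le_right, ?_, elemAb_of_le Y _ hel inf_le_left, ?_⟩
  · apply le_normalizer_of_conj_mem'
    intro g hg w hw
    rw [Subgroup.mem_inf] at hw ⊢
    exact ⟨(Subgroup.mem_normalizer_iff.mp (hKY (hLK hg)) w).mp hw.1,
      L.mul_mem (L.mul_mem hg hw.2) (L.inv_mem hg)⟩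
  · intro D hDL hLD hDp
    have hpp : ∀ x ∈ D, Nat.Coprime (orderOf x) p → x ∈ Subgroup.centralizer (Y : Set H) := by
      intro x hxD hx
      obtain ⟨k, hk⟩ := hDp x hxD
      have := pprime_mem_of_pow_mem _ x hx k hk
      exact centralizes_of_centralizes_inf K L Y hel hYK hKY hLK hKL x (hDL hxD) hx this
    have hDp' := pow_mem_of_pprime_mem D _ hpp
    have hDsub := isSubnormal_subgroupOf_of_chain K L D hDL hLK hLD hKL
    have := subnormal_le_centralizer_rel K Y D ⟨hYK, hKY, hel, hno⟩ (hDL.trans hLK) hDsub hDp'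
    exact this.trans (Subgroup.centralizer_le inf_le_left)

theorem centralizer_inf_eq [Finite H] {p : ℕ} [Fact p.Prime] (K L Y : Subgroup H)
    (hY : RelPReduced p K Y) (hLK : L ≤ K) (hKL : K ≤ Subgroup.normalizer (L : Set H)) :
    L ⊓ Subgroup.centralizer (Y : Set H) =
      L ⊓ Subgroup.centralizer ((Y ⊓ L : Subgroup H) : Set H) := by
  obtain ⟨hYK, hKY, hel, hno⟩ := hY
  apply le_antisymm
  · exact inf_le_inf_left L (Subgroup.centralizer_le inf_le_left)
  · set D := L ⊓ Subgroup.centralizer ((Y ⊓ L : Subgroup H) : Set H) with hD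
    have hDL : D ≤ L := inf_le_left
    have hKD : K ≤ Subgroup.normalizer (D : Set H) := by
      apply le_normalizer_of_conj_mem'
      intro k hk d hd
      rw [hD, Subgroup.mem_inf] at hd ⊢
      refine ⟨(Subgroup.mem_normalizer_iff.mp (hKL hk) d).mp hd.1, ?_⟩
      apply conj_mem_centralizer _ k d _ hd.2
      intro z hz
      rw [Subgroup.mem_inf] at hz ⊢
      constructor
      · have := (Subgroup.mem_normalizer_iff.mp (hKY (K.inv_mem hk)) z).mp hz.1
        simpa using this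
      · have := (Subgroup.mem_normalizer_iff.mp (hKL (K.inv_mem hk)) z).mp hz.2
        simpa using this
    have hpp : ∀ x ∈ D, Nat.Coprime (orderOf x) p → x ∈ Subgroup.centralizer (Y : Set H) := by
      intro x hxD hx
      rw [hD, Subgroup.mem_inf] at hxD
      exact centralizes_of_centralizes_inf K L Y hel hYK hKY hLK hKL x hxD.1 hx hxD.2
    have hDp' := pow_mem_of_pprime_mem D _ hpp
    have := hno D (hDL.trans hLK) hKD hDp'
    exact le_inf hDL this

end Cfsg.Agent.Lib.Helper4_RelP2
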