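import Mathlib
import Cfsg.Prelude.Def_LocalStructure
import Cfsg.Agent.Lib.Helper4_RelP2

namespace Cfsg.Agent.Lib.Helper4_RelP3
open Cfsg Cfsg.Agent.Lib.Helper4_PReduced Cfsg.Agent.Lib.Helper4_PReduced2
  Cfsg.Agent.Lib.Helper4_Subnormal Cfsg.Agent.Lib.Helper4_PIrred Cfsg.Agent.Lib.Helper4_Stab
  Cfsg.Agent.Lib.Helper4_Coprime Cfsg.Agent.Lib.Helper4_Kieler0 Cfsg.Agent.Lib.Helper4_PQ
  Cfsg.Agent.Lib.Helper4_RelP1 Cfsg.Agent.Lib.Helper4_RelP2
open scoped commutatorElement

variable {H : Type*} [Group H]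

theorem mem_conj_iff (V : Subgroup H) (k x : H) :
    x ∈ V.map (MulAut.conj k).toMonoidHom ↔ k⁻¹ * x * k ∈ V := by
  constructor
  · rintro ⟨v, hv, rfl⟩
    simp only [MulEquiv.coe_toMonoidHom, MulAut.conj_apply]
    have : k⁻¹ * (k * v * k⁻¹) * k = v := by group
    rw [this]; exact hv
  · intro h
    refine ⟨k⁻¹ * x * k, h, ?_⟩
    simp only [MulEquiv.coe_toMonoidHom, MulAut.conj_apply]
    group

theorem relPReduced_conj {p : ℕ} [Fact p.Prime] (L V : Subgroup H) (hV : RelPReduced p L V)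
    (k : H) (hk : k ∈ Subgroup.normalizer (L : Set H)) :
    RelPReduced p L (V.map (MulAut.conj k).toMonoidHom) := by
  obtain ⟨hVL, hLV, hel, hno⟩ := hV
  have hkL : ∀ l, l ∈ L ↔ k * l * k⁻¹ ∈ L := Subgroup.mem_normalizer_iff.mp hk
  have hkL' : ∀ l, l ∈ L ↔ k⁻¹ * l * k ∈ L := by
    intro l
    have := Subgroup.mem_normalizer_iff.mp (inv_mem hk) l
    simpa using this
  have hcent : ∀ x : H, x ∈ Subgroup.centralizer ((V.map (MulAut.conj k).toMonoidHom : Subgroup H) : Set H) ↔
      k⁻¹ * x * k ∈ Subgroup.centralizer (V : Set H) := by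
    intro x
    rw [Subgroup.mem_centralizer_iff, Subgroup.mem_centralizer_iff]
    constructor
    · intro h v hv
      have h1 : k * v * k⁻¹ ∈ V.map (MulAut.conj k).toMonoidHom := by
        rw [mem_conj_iff]
        have : k⁻¹ * (k * v * k⁻¹) * k = v := by group
        rw [this]; exact hv
      have := h _ h1
      calc v * (k⁻¹ * x * k) = k⁻¹ * ((k * v * k⁻¹) * x) * k := by group
        _ = k⁻¹ * (x * (k * v * k⁻¹)) * k := by rw [this]
        _ = _ := by group
    · intro h w hw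
      rw [SetLike.mem_coe, mem_conj_iff] at hw
      have := h _ hw
      calc w * x = k * ((k⁻¹ * w * k) * (k⁻¹ * x * k)) * k⁻¹ := by group
        _ = k * ((k⁻¹ * x * k) * (k⁻¹ * w * k)) * k⁻¹ := by rw [this]
        _ = _ := by group
  refine ⟨?_, ?_, ?_, ?_⟩
  · intro x hx
    rw [mem_conj_iff] at hx
    exact (hkL' x).mpr (hVL hx)
  · apply le_normalizer_of_conj_mem'
    intro g hg w hw
    rw [mem_conj_iff] at hw ⊢
    have hg' : k⁻¹ * g * k ∈ L := (hkL' g).mp hg
    have := (Subgroup.mem_normalizer_iff.mp (hLV hg') _).mp hw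
    have e : k⁻¹ * (g * w * g⁻¹) * k = (k⁻¹ * g * k) * (k⁻¹ * w * k) * (k⁻¹ * g * k)⁻¹ := by group
    rw [e]; exact this
  · refine ⟨⟨⟨fun a b => ?_⟩⟩, ?_⟩
    · apply Subtype.ext
      have ha := (mem_conj_iff V k a).mp a.2
      have hb := (mem_conj_iff V k b).mp b.2
      have := elemAb_comm V hel _ ha _ hb
      show (a : H) * b = b * a
      calc (a : H) * b = k * ((k⁻¹ * a * k) * (k⁻¹ * b * k)) * k⁻¹ := by group
        _ = k * ((k⁻¹ * b * k) * (k⁻¹ * a * k)) * k⁻¹ := by rw [this]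
        _ = _ := by group
    · intro a ha
      rw [mem_conj_iff] at ha
      have := hel.2 _ ha
      have e : (k⁻¹ * a * k) ^ p = k⁻¹ * a ^ p * k := by
        have := conj_pow (a := k⁻¹) (b := a) (i := p)
        simpa using this
      rw [e] at this
      have h2 : a ^ p = k * (k⁻¹ * a ^ p * k) * k⁻¹ := by group
      rw [h2, this]; group
  · intro D hDL hLD hDp
    set D' := D.map (MulAut.conj k⁻¹).toMonoidHom with hD'
    have hD'mem : ∀ x, x ∈ D' ↔ k * x * k⁻¹ ∈ D := by
      intro x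
      rw [hD', mem_conj_iff]; simp
    have h1 : D' ≤ Subgroup.centralizer (V : Set H) := by
      apply hno D'
      · intro x hx
        rw [hD'mem] at hx
        have := hDL hx
        exact (hkL x).mpr this
      · apply le_normalizer_of_conj_mem'
        intro g hg w hw
        rw [hD'mem] at hw ⊢
        have hg' : k * g * k⁻¹ ∈ L := (hkL g).mp hg
        have := (Subgroup.mem_normalizer_iff.mp (hLD hg') _).mp hw
        have e : k * (g * w * g⁻¹) * k⁻¹ = (k * g * k⁻¹) * (k * w * k⁻¹) * (k * g * k⁻¹)⁻¹ := by group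
        rw [e]; exact this
      · intro d hd
        rw [hD'mem] at hd
        obtain ⟨j, hj⟩ := hDp _ hd
        refine ⟨j, ?_⟩
        rw [hcent] at hj
        have e : k⁻¹ * (k * d * k⁻¹) ^ p ^ j * k = d ^ p ^ j := by
          rw [conj_pow]; group
        rwa [e] at hj
    intro d hd
    rw [hcent]
    apply h1
    rw [hD'mem]
    have e : k * (k⁻¹ * d * k) * k⁻¹ = d := by group
    rw [e]; exact hd

end Cfsg.Agent.Lib.Helper4_RelP3
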