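import Mathlib
import Cfsg.Prelude.Def_LocalStructure
import Cfsg.Agent.Lib.Helper4_RelP3

namespace Cfsg.Agent.Lib.Helper4_RelP4
open Cfsg Cfsg.Agent.Lib.Helper4_PReduced Cfsg.Agent.Lib.Helper4_PReduced2
  Cfsg.Agent.Lib.Helper4_Subnormal Cfsg.Agent.Lib.Helper4_PIrred Cfsg.Agent.Lib.Helper4_Stab
  Cfsg.Agent.Lib.Helper4_Coprime Cfsg.Agent.Lib.Helper4_Kieler0 Cfsg.Agent.Lib.Helper4_PQ
  Cfsg.Agent.Lib.Helper4_RelP1 Cfsg.Agent.Lib.Helper4_RelP2 Cfsg.Agent.Lib.Helper4_RelP3
open scoped commutatorElement

variable {H : Type*} [Group H]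

theorem lemmaX [Finite H] {p : ℕ} [Fact p.Prime] (K L V YK : Subgroup H)
    (hLK : L ≤ K) (hKL : K ≤ Subgroup.normalizer (L : Set H))
    (hV : RelPReduced p L V) (hKV : K ≤ Subgroup.normalizer (V : Set H))
    (hYK : ∀ V' : Subgroup H, RelPReduced p K V' → V' ≤ YK)
    (x : H) (hxL : x ∈ L) (hx : Nat.Coprime (orderOf x) p)
    (hxY : x ∈ Subgroup.centralizer (YK : Set H)) :
    x ∈ Subgroup.centralizer (V : Set H) := by
  obtain ⟨hVL, hLV, hel, hno⟩ := hV
  have key : ∀ n : ℕ, ∀ V' : Subgroup H, V' ≤ V → K ≤ Subgroup.normalizer (V' : Set H) →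
      Nat.card V' = n →
      (∀ y ∈ L, Nat.Coprime (orderOf y) p → y ∈ Subgroup.centralizer (V' : Set H) →
        y ∈ Subgroup.centralizer (V : Set H)) → x ∈ Subgroup.centralizer (V : Set H) := by
    intro n
    induction n using Nat.strong_induction_on with
    | _ n ih =>
      intro V' hV'V hKV' hcard hT
      have helV' : IsElementaryAbelian p V' := elemAb_of_le V V' hel hV'V
      have hV'K : V' ≤ K := hV'V.trans (hVL.trans hLK)
      by_cases hred : RelPReduced p K V'
      · have h1 : V' ≤ YK := hYK V' hred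
        exact hT x hxL hx (Subgroup.centralizer_le h1 hxY)
      · unfold RelPReduced at hred
        push Not at hred
        obtain ⟨D, hDK, hKD, hDp, hDnot⟩ := hred hV'K hKV' helV'
        set V'' := V' ⊓ Subgroup.centralizer (D : Set H) with hV''
        have hV''V' : V'' ≤ V' := inf_le_left
        have hKconjD : ∀ k ∈ K, ∀ d ∈ D, k * d * k⁻¹ ∈ D := fun k hk d hd =>
          (Subgroup.mem_normalizer_iff.mp (hKD hk) d).mp hd
        have hKconjL : ∀ k ∈ K, ∀ l ∈ L, k * l * k⁻¹ ∈ L := fun k hk l hl =>
          (Subgroup.mem_normalizer_iff.mp (hKL hk) l).mp hl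
        have hKconjV' : ∀ k ∈ K, ∀ v ∈ V', k * v * k⁻¹ ∈ V' := fun k hk v hv =>
          (Subgroup.mem_normalizer_iff.mp (hKV' hk) v).mp hv
        have hKV'' : K ≤ Subgroup.normalizer (V'' : Set H) := by
          apply le_normalizer_of_conj_mem'
          intro k hk v hv
          rw [hV'', Subgroup.mem_inf] at hv ⊢
          refine ⟨hKconjV' k hk v hv.1, ?_⟩
          apply conj_mem_centralizer D k v _ hv.2
          intro d hd
          have := hKconjD k⁻¹ (K.inv_mem hk) d hd
          simpa using this
        have hlt : Nat.card V'' < n := by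
          rw [← hcard]
          by_contra hge
          push Not at hge
          have heq : V'' = V' := Subgroup.eq_of_le_of_card_ge hV''V' hge
          apply hDnot
          intro d hd
          rw [Subgroup.mem_centralizer_iff]
          intro v hv
          have hv' : v ∈ V'' := by rw [heq]; exact hv
          rw [hV'', Subgroup.mem_inf] at hv'
          exact (Subgroup.mem_centralizer_iff.mp hv'.2 d hd).symm
        apply ih (Nat.card V'') hlt V'' (hV''V'.trans hV'V) hKV'' rfl
        -- T(V'')
        intro y hyL hy hyC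
        apply hT y hyL hy
        -- A := D ⊓ L ≤ C(V)
        have hA : D ⊓ L ≤ Subgroup.centralizer (V : Set H) := by
          apply hno (D ⊓ L) inf_le_right
          · apply le_normalizer_of_conj_mem'
            intro g hg a ha
            rw [Subgroup.mem_inf] at ha ⊢
            exact ⟨hKconjD g (hLK hg) a ha.1, L.mul_mem (L.mul_mem hg ha.2) (L.inv_mem hg)⟩
          · apply pow_mem_of_pprime_mem
            intro y' hy'A hy'
            rw [Subgroup.mem_inf] at hy'A
            obtain ⟨k, hk⟩ := hDp y' hy'A.1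
            exact hT y' hy'A.2 hy' (pprime_mem_of_pow_mem _ y' hy' k hk)
        have hyK : y ∈ K := hLK hyL
        have hpq := pq_lemma (p := p) V' D y (elemAb_comm V' helV') (elemAb_isPGroup V' helV') hy
          (hKconjV' y hyK) (fun d hd => hKconjV' d (hDK hd)) hDp
          (by
            intro d hd
            apply Subgroup.centralizer_le hV'V
            apply hA
            rw [Subgroup.mem_inf]
            constructor
            · have := hKconjD y hyK d⁻¹ (D.inv_mem hd)
              have e : d * y * d⁻¹ * y⁻¹ = d * (y * d⁻¹ * y⁻¹) := by group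
              rw [e]; exact D.mul_mem hd this
            · exact L.mul_mem (hKconjL d (hDK hd) y hyL) (L.inv_mem hyL))
          (by
            intro v hv hvD
            have hv'' : v ∈ V'' := by
              rw [hV'', Subgroup.mem_inf, Subgroup.mem_centralizer_iff]
              exact ⟨hv, fun d hd => hvD d hd⟩
            exact (Subgroup.mem_centralizer_iff.mp hyC v hv'').symm)
        rw [Subgroup.mem_centralizer_iff]
        intro v hv
        exact (hpq v hv).symm
  exact key (Nat.card V) V le_rfl hKV rfl (fun y _ _ hy => hy)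

/-- `K` normalizes the largest `p`-reduced normal subgroup of a subgroup `L` that it normalizes. -/
theorem normalizer_le_normalizer_largest {p : ℕ} [Fact p.Prime] (L YL : Subgroup H)
    (hYL : RelPReduced p L YL) (hYLmax : ∀ V' : Subgroup H, RelPReduced p L V' → V' ≤ YL) :
    Subgroup.normalizer (L : Set H) ≤ Subgroup.normalizer (YL : Set H) := by
  apply le_normalizer_of_conj_mem'
  intro k hk v hv
  have h1 := hYLmax _ (relPReduced_conj L YL hYL k hk)
  apply h1
  rw [mem_conj_iff]
  have : k⁻¹ * (k * v * k⁻¹) * k = v := by group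
  rw [this]; exact hv

theorem centralizer_largest_eq [Finite H] {p : ℕ} [Fact p.Prime] (K L YK YL : Subgroup H)
    (hLK : L ≤ K) (hKL : K ≤ Subgroup.normalizer (L : Set H))
    (hYK : RelPReduced p K YK) (hYKmax : ∀ V' : Subgroup H, RelPReduced p K V' → V' ≤ YK)
    (hYL : RelPReduced p L YL) (hYLmax : ∀ V' : Subgroup H, RelPReduced p L V' → V' ≤ YL) :
    L ⊓ Subgroup.centralizer (YL : Set H) = L ⊓ Subgroup.centralizer (YK : Set H) := by
  apply le_antisymm
  · rw [centralizer_inf_eq K L YK hYK hLK hKL]
    apply inf_le_inf_left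
    apply Subgroup.centralizer_le
    exact hYLmax _ (relPReduced_inf K L YK hYK hLK hKL)
  · set D := L ⊓ Subgroup.centralizer (YK : Set H) with hD
    have hDL : D ≤ L := inf_le_left
    have hKYL : K ≤ Subgroup.normalizer (YL : Set H) :=
      hKL.trans (normalizer_le_normalizer_largest L YL hYL hYLmax)
    have hLD : L ≤ Subgroup.normalizer (D : Set H) := by
      apply le_normalizer_of_conj_mem'
      intro g hg d hd
      rw [hD, Subgroup.mem_inf] at hd ⊢
      refine ⟨L.mul_mem (L.mul_mem hg hd.1) (L.inv_mem hg), ?_⟩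
      apply conj_mem_centralizer YK g d _ hd.2
      intro z hz
      have := (Subgroup.mem_normalizer_iff.mp (hYK.2.1 (K.inv_mem (hLK hg))) z).mp hz
      simpa using this
    have hpp : ∀ x ∈ D, Nat.Coprime (orderOf x) p → x ∈ Subgroup.centralizer (YL : Set H) := by
      intro x hxD hx
      rw [hD, Subgroup.mem_inf] at hxD
      exact lemmaX K L YL YK hLK hKL hYL hKYL hYKmax x hxD.1 hx hxD.2
    have hDp := pow_mem_of_pprime_mem D _ hpp
    exact le_inf hDL (hYL.2.2.2 D hDL hLD hDp)

end Cfsg.Agent.Lib.Helper4_RelP4
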