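import Mathlib
import Cfsg.Prelude.Def_LocalStructure
import Cfsg.Agent.Lib.Helper4_RelP4

namespace Cfsg.Agent.Lib.Helper4_RelP5
open Cfsg Cfsg.Agent.Lib.Helper4_PReduced Cfsg.Agent.Lib.Helper4_PReduced2
  Cfsg.Agent.Lib.Helper4_Subnormal Cfsg.Agent.Lib.Helper4_PIrred Cfsg.Agent.Lib.Helper4_Stab
  Cfsg.Agent.Lib.Helper4_Coprime Cfsg.Agent.Lib.Helper4_Kieler0 Cfsg.Agent.Lib.Helper4_PQ
  Cfsg.Agent.Lib.Helper4_RelP1 Cfsg.Agent.Lib.Helper4_RelP2 Cfsg.Agent.Lib.Helper4_RelP3
  Cfsg.Agent.Lib.Helper4_RelP4
open scoped commutatorElement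

variable {H : Type*} [Group H]

theorem largestPReducedOf_top [Finite H] {p : ℕ} [Fact p.Prime] :
    largestPReducedOf p (⊤ : Subgroup H) = largestPReduced p H := by
  apply le_antisymm
  · apply le_largestPReduced
    rw [← relPReduced_top_iff]
    exact relPReduced_largest ⊤
  · apply le_largestPReducedOf
    rw [relPReduced_top_iff]
    exact largestPReduced_isPReducedNormal

theorem chain_main [Finite H] {p : ℕ} [Fact p.Prime] (L : Subgroup H) (hL : L.IsSubnormal) :
    RelPReduced p L (largestPReduced p H ⊓ L) ∧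
    L ⊓ Subgroup.centralizer (largestPReduced p H : Set H) =
      L ⊓ Subgroup.centralizer ((largestPReduced p H ⊓ L : Subgroup H) : Set H) ∧
    L ⊓ Subgroup.centralizer ((largestPReducedOf p L : Subgroup H) : Set H) =
      L ⊓ Subgroup.centralizer (largestPReduced p H : Set H) := by
  set Y := largestPReduced p H with hY
  induction hL with
  | top =>
    refine ⟨?_, ?_, ?_⟩
    · rw [inf_top_eq, relPReduced_top_iff]
      exact largestPReduced_isPReducedNormal
    · rw [inf_top_eq]
    · rw [largestPReducedOf_top]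
  | step L K' h_le hSubn hN ih =>
    obtain ⟨ih2, ih4, ih3⟩ := ih
    have hKL : K' ≤ Subgroup.normalizer (L : Set H) :=
      (Subgroup.normal_subgroupOf_iff_le_normalizer h_le).mp hN
    have hYK'L : (Y ⊓ K') ⊓ L = Y ⊓ L := by
      rw [inf_assoc, inf_of_le_right h_le]
    have e1 : ∀ X : Subgroup H, L ⊓ X = L ⊓ (K' ⊓ X) := by
      intro X
      rw [← inf_assoc, inf_of_le_left h_le]
    refine ⟨?_, ?_, ?_⟩
    · have := relPReduced_inf K' L (Y ⊓ K') ih2 h_le hKL
      rwa [hYK'L] at this
    · have := centralizer_inf_eq K' L (Y ⊓ K') ih2 h_le hKL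
      rw [hYK'L] at this
      rw [e1, ih4, ← e1, this]
    · have := centralizer_largest_eq K' L (largestPReducedOf p K') (largestPReducedOf p L) h_le hKL
        (relPReduced_largest K') (fun V' hV' => le_largestPReducedOf K' V' hV')
        (relPReduced_largest L) (fun V' hV' => le_largestPReducedOf L V' hV')
      rw [this, e1, ih3, ← e1]

theorem final [Finite H] {p : ℕ} [Fact p.Prime] (L : Subgroup H) (hL : L.IsSubnormal) :
    Cfsg.largestPReduced p H ⊓ L = Cfsg.largestPReduced p H ⊓ (Cfsg.largestPReducedOf p L) ∧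
    Cfsg.IsPReducedNormal p ((Cfsg.largestPReduced p H ⊓ L).subgroupOf L) ∧
    L ⊓ Subgroup.centralizer ((Cfsg.largestPReducedOf p L : Subgroup H) : Set H) =
      L ⊓ Subgroup.centralizer (Cfsg.largestPReduced p H : Set H) ∧
    L ⊓ Subgroup.centralizer (Cfsg.largestPReduced p H : Set H) =
      L ⊓ Subgroup.centralizer ((Cfsg.largestPReduced p H ⊓ L : Subgroup H) : Set H) ∧
    (Cfsg.pResidual p H ≤ L → (⁅(Cfsg.largestPReducedOf p L), L⁆ = ⊥ ↔
      ⁅Cfsg.largestPReduced p H, (⊤ : Subgroup H)⁆ = ⊥)) := by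
  obtain ⟨h2, h4, h3⟩ := chain_main (p := p) L hL
  set Y := largestPReduced p H with hY
  set YL := largestPReducedOf p L with hYL
  have hYLL : YL ≤ L := Subgroup.map_subtype_le _
  refine ⟨?_, ?_, h3, h4, ?_⟩
  · apply le_antisymm
    · apply le_inf inf_le_left
      exact le_largestPReducedOf L _ h2
    · exact inf_le_inf_left Y hYLL
  · rw [isPReducedNormal_subgroupOf_iff inf_le_right]
    exact h2
  · intro hres
    rw [Subgroup.commutator_eq_bot_iff_le_centralizer, Subgroup.commutator_eq_bot_iff_le_centralizer,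
      Subgroup.le_centralizer_iff, Subgroup.le_centralizer_iff (H := Y)]
    constructor
    · intro h
      have hLY : L ≤ Subgroup.centralizer (Y : Set H) := by
        have : L ≤ L ⊓ Subgroup.centralizer (YL : Set H) := le_inf le_rfl h
        rw [h3] at this
        exact this.trans inf_le_right
      have hYred : IsPReducedNormal p Y := largestPReduced_isPReducedNormal
      rw [isPReducedNormal_iff] at hYred
      obtain ⟨hYn, -, hno⟩ := hYred
      apply hno ⊤ inferInstance
      intro d _
      obtain ⟨a, ha⟩ := exists_pow_coprime (p := p) d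
      refine ⟨a, hLY (hres ?_)⟩
      unfold pResidual
      exact Subgroup.subset_closure ha
    · intro h
      have : L ≤ L ⊓ Subgroup.centralizer (Y : Set H) := le_inf le_rfl (le_top.trans h)
      rw [← h3] at this
      exact this.trans inf_le_right

end Cfsg.Agent.Lib.Helper4_RelP5
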