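import Mathlib
import Cfsg.Prelude.Def_LieClassical
import Cfsg.Agent.Lib.Helper4_ResScal

namespace Cfsg.Agent.Lib.Helper4_ResScal2
open Matrix Cfsg.Agent.Lib.Helper4_ResScal

section gu
variable {K F : Type*} [Field K] [Field F] [Algebra F K]

/-- determinant-like pairing of coordinates -/
noncomputable def DD (b : Module.Basis (Fin 2) F K) (x y : K) : F :=
  b.equivFun x 0 * b.equivFun y 1 - b.equivFun x 1 * b.equivFun y 0

theorem alt2 (b : Module.Basis (Fin 2) F K) {N : Type*} [AddCommGroup N] [Module F N]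
    (A : K →ₗ[F] K →ₗ[F] N) (halt : ∀ x, A x x = 0) (x y : K) :
    A x y = DD b x y • A (b 0) (b 1) := by
  have hx := b.sum_equivFun x
  have hy := b.sum_equivFun y
  rw [Fin.sum_univ_two] at hx hy
  have h10 : A (b 1) (b 0) = - A (b 0) (b 1) := by
    have := halt (b 0 + b 1)
    simp only [map_add, LinearMap.add_apply, halt, zero_add, add_zero] at this
    exact eq_neg_of_add_eq_zero_left this
  conv_lhs => rw [← hx, ← hy]
  simp only [map_add, map_smul, LinearMap.add_apply, LinearMap.smul_apply, halt, h10, smul_zero,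
    zero_add, add_zero, smul_neg]
  unfold DD
  rw [sub_smul, mul_smul, mul_smul, smul_comm (b.equivFun y 1) (b.equivFun x 0), smul_comm (b.equivFun y 0) (b.equivFun x 1)]
  abel

/-- the `q`-power map as an `F`-linear map -/
noncomputable def sig (q : ℕ) (hadd : ∀ x y : K, (x + y) ^ q = x ^ q + y ^ q)
    (hfix : ∀ f : F, (algebraMap F K f) ^ q = algebraMap F K f) : K →ₗ[F] K where
  toFun x := x ^ q
  map_add' := hadd
  map_smul' f x := by
    simp only [Algebra.smul_def, mul_pow, hfix, RingHom.id_apply]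

/-- the alternating pairing `x σ(y) - y σ(x)` -/
noncomputable def A0 (q : ℕ) (hadd : ∀ x y : K, (x + y) ^ q = x ^ q + y ^ q)
    (hfix : ∀ f : F, (algebraMap F K f) ^ q = algebraMap F K f) : K →ₗ[F] K →ₗ[F] K :=
  LinearMap.mk₂ F (fun x y => x * y ^ q - y * x ^ q)
    (by intro x x' y; rw [hadd]; ring)
    (by
      intro f x y
      simp only [Algebra.smul_def, mul_pow, hfix]
      ring)
    (by intro x y y'; rw [hadd]; ring)
    (by
      intro f x y
      simp only [Algebra.smul_def, mul_pow, hfix]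
      ring)

theorem A0_apply (q : ℕ) (hadd : ∀ x y : K, (x + y) ^ q = x ^ q + y ^ q)
    (hfix : ∀ f : F, (algebraMap F K f) ^ q = algebraMap F K f) (x y : K) :
    A0 q hadd hfix x y = x * y ^ q - y * x ^ q := rfl

theorem exists_lam (b : Module.Basis (Fin 2) F K) (q : ℕ)
    (hadd : ∀ x y : K, (x + y) ^ q = x ^ q + y ^ q)
    (hfix : ∀ f : F, (algebraMap F K f) ^ q = algebraMap F K f)
    (θ : K) (hθ : θ ^ q ≠ θ) :
    ∃ lam : K →ₗ[F] F, ∀ x y : K, lam (x * y ^ q - y * x ^ q) = DD b x y := by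
  have halt : ∀ x, A0 q hadd hfix x x = 0 := by
    intro x
    rw [A0_apply]
    ring
  have hw : A0 q hadd hfix (b 0) (b 1) ≠ 0 := by
    intro h0
    have h1 := alt2 b (A0 q hadd hfix) halt 1 θ
    rw [h0, smul_zero, A0_apply] at h1
    apply hθ
    have : θ ^ q - θ = 0 := by
      rw [← h1]
      ring
    exact sub_eq_zero.1 this
  refine ⟨(b.coord 0) ∘ₗ (LinearMap.mulRight F ((A0 q hadd hfix (b 0) (b 1))⁻¹ * b 0)), ?_⟩
  intro x y
  rw [← A0_apply q hadd hfix, alt2 b (A0 q hadd hfix) halt x y]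
  simp only [LinearMap.comp_apply, LinearMap.mulRight_apply, map_smul, smul_eq_mul]
  rw [← mul_assoc, mul_inv_cancel₀ hw, one_mul]
  simp

/-- the coordinate equivalence for the unitary embedding -/
noncomputable def PsiU (m : ℕ) (c : K ≃ₗ[F] (Fin 2 → F)) :
    (Fin m → K) ≃ₗ[F] (Fin m ⊕ Fin m → F) where
  toFun u := Sum.elim (fun i => c (u i) 1) (fun i => c (u i) 0)
  map_add' := by
    intro u v
    ext (k | k) <;> simp
  map_smul' := by
    intro r u
    ext (k | k) <;> simp
  invFun x := fun i => c.symm ![x (Sum.inr i), x (Sum.inl i)]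
  left_inv := by
    intro u
    ext i
    have : ![c (u i) 0, c (u i) 1] = c (u i) := by
      ext j
      fin_cases j <;> rfl
    simp [this]
  right_inv := by
    intro x
    ext (k | k) <;> simp

open Cfsg Cfsg.Agent.Lib.Helper1_Symp in
theorem form_PsiU (m : ℕ) (b : Module.Basis (Fin 2) F K) (q : ℕ) (lam : K →ₗ[F] F)
    (hlam : ∀ x y : K, lam (x * y ^ q - y * x ^ q) = DD b x y) (u v : Fin m → K) :
    sympForm m F (PsiU m b.equivFun u) (PsiU m b.equivFun v) =
      lam (hermForm m K q u v - hermForm m K q v u) := by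
  rw [sympForm_eq]
  unfold hermForm
  rw [← Finset.sum_sub_distrib, map_sum]
  apply Finset.sum_congr rfl
  intro i _
  rw [hlam]
  rfl

end gu

open Cfsg Cfsg.Agent.Lib.Helper1_Symp in
theorem aux_gu {K F : Type*} [Field K] [Field F] [Algebra F K]
    (b : Module.Basis (Fin 2) F K) (q : ℕ)
    (hadd : ∀ x y : K, (x + y) ^ q = x ^ q + y ^ q)
    (hfix : ∀ f : F, (algebraMap F K f) ^ q = algebraMap F K f)
    (θ : K) (hθ : θ ^ q ≠ θ) (m : ℕ) :
    ∃ φ : ↥(Cfsg.GU m K q) →* ↥(Matrix.symplecticGroup (Fin m) F), Function.Injective φ := by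
  obtain ⟨lam, hlam⟩ := exists_lam b q hadd hfix θ hθ
  let Ψ := PsiU (F := F) m b.equivFun
  have hmem : ∀ g : Cfsg.GU m K q, T Ψ g.1.1 ∈ Matrix.symplecticGroup (Fin m) F := by
    intro g
    rw [mem_symplecticGroup_iff_preserves]
    intro x y
    obtain ⟨u, rfl⟩ := Ψ.surjective x
    obtain ⟨v, rfl⟩ := Ψ.surjective y
    have hg : ∀ u v, hermForm m K q (g.1.1 *ᵥ u) (g.1.1 *ᵥ v) = hermForm m K q u v := g.2
    rw [T_mulVec, T_mulVec, form_PsiU m b q lam hlam, form_PsiU m b q lam hlam, hg, hg]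
  refine ⟨{ toFun := fun g => ⟨T Ψ g.1.1, hmem g⟩, map_one' := ?_, map_mul' := ?_ }, ?_⟩
  · apply Subtype.ext
    exact T_one Ψ
  · intro g h
    apply Subtype.ext
    exact T_mul Ψ g.1.1 h.1.1
  · intro g h hgh
    apply Subtype.ext
    apply Units.ext
    apply T_injective Ψ
    exact congrArg Subtype.val hgh

theorem main_gu {K F : Type*} [Field K] [Fintype K] [Field F] [Fintype F] {q : ℕ}
    (hK : Fintype.card K = q ^ 2) (hF : Fintype.card F = q) (m : ℕ) :
    ∃ φ : ↥(Cfsg.GU m K q) →* ↥(Matrix.symplecticGroup (Fin m) F), Function.Injective φ := by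
  obtain ⟨f⟩ := exists_ringHom hK hF
  letI : Algebra F K := f.toAlgebra
  have h2 := finrank_eq_two hK hF
  obtain ⟨p, hp⟩ := CharP.exists F
  haveI : Fact p.Prime := ⟨CharP.char_is_prime F p⟩
  obtain ⟨n, -, hn⟩ := FiniteField.card F p
  haveI : CharP K p := charP_of_injective_algebraMap (algebraMap F K).injective p
  have hq : q = p ^ (n : ℕ) := by rw [← hF, hn]
  have hq2 : 1 < q := by
    rw [← hF]
    exact Fintype.one_lt_card
  have hadd : ∀ x y : K, (x + y) ^ q = x ^ q + y ^ q := by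
    intro x y
    rw [hq]
    exact add_pow_char_pow x y p n
  have hfix : ∀ f : F, (algebraMap F K f) ^ q = algebraMap F K f := by
    intro f
    rw [← map_pow, ← hF, FiniteField.pow_card]
  have hθ : ∃ θ : K, θ ^ q ≠ θ := by
    by_contra hcon
    push Not at hcon
    have h0 : (Polynomial.X ^ q - Polynomial.X : Polynomial K) = 0 := by
      apply Polynomial.eq_zero_of_natDegree_lt_card_of_eval_eq_zero' _ (Finset.univ : Finset K)
      · intro x _
        simp [hcon x]
      · rw [FiniteField.X_pow_card_sub_X_natDegree_eq K hq2, Finset.card_univ, hK]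
        nlinarith
    exact FiniteField.X_pow_card_sub_X_ne_zero K hq2 h0
  obtain ⟨θ, hθ⟩ := hθ
  exact aux_gu (Module.finBasisOfFinrankEq F K h2) q hadd hfix θ hθ m

end Cfsg.Agent.Lib.Helper4_ResScal2
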