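import Mathlib
import Cfsg.Prelude.Def_LieClassical
import Cfsg.Agent.Lib.Helper4_ResScal2

namespace Cfsg.Agent.Lib.Helper4_ResScal3
open Matrix Cfsg.Agent.Lib.Helper4_ResScal Cfsg.Agent.Lib.Helper4_ResScal2

section facts
variable {K F : Type*} [Field K] [Fintype K] [Field F] [Fintype F] [Algebra F K] {q : ℕ}

theorem hadd_of (hF : Fintype.card F = q) : ∀ x y : K, (x + y) ^ q = x ^ q + y ^ q := by
  obtain ⟨p, hp⟩ := CharP.exists F
  haveI : Fact p.Prime := ⟨CharP.char_is_prime F p⟩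
  obtain ⟨n, -, hn⟩ := FiniteField.card F p
  haveI : CharP K p := charP_of_injective_algebraMap (algebraMap F K).injective p
  have hq : q = p ^ (n : ℕ) := by rw [← hF, hn]
  intro x y
  rw [hq]
  exact add_pow_char_pow x y p n

theorem hfix_of (hF : Fintype.card F = q) : ∀ f : F, (algebraMap F K f) ^ q = algebraMap F K f := by
  intro f
  rw [← map_pow, ← hF, FiniteField.pow_card]

theorem hinv_of (hK : Fintype.card K = q ^ 2) : ∀ x : K, (x ^ q) ^ q = x := by
  intro x
  rw [← pow_mul, ← sq, ← hK, FiniteField.pow_card]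

theorem hfixed_of (hF : Fintype.card F = q) (x : K) (hx : x ^ q = x) :
    ∃ f : F, algebraMap F K f = x := by
  classical
  by_contra hcon
  push Not at hcon
  have hq2 : 1 < q := by
    rw [← hF]
    exact Fintype.one_lt_card
  let S : Finset K := insert x (Finset.univ.image (algebraMap F K))
  have hS : S.card = q + 1 := by
    rw [Finset.card_insert_of_notMem, Finset.card_image_of_injective _ (algebraMap F K).injective,
      Finset.card_univ, hF]
    intro hmem
    obtain ⟨f, -, hf⟩ := Finset.mem_image.1 hmem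
    exact hcon f hf
  have h0 : (Polynomial.X ^ q - Polynomial.X : Polynomial K) = 0 := by
    apply Polynomial.eq_zero_of_natDegree_lt_card_of_eval_eq_zero' _ S
    · intro y hy
      rcases Finset.mem_insert.1 hy with rfl | hy
      · simp [hx]
      · obtain ⟨f, -, rfl⟩ := Finset.mem_image.1 hy
        simp [hfix_of hF f]
    · rw [FiniteField.X_pow_card_sub_X_natDegree_eq K hq2, hS]
      omega
  exact FiniteField.X_pow_card_sub_X_ne_zero K hq2 h0

theorem exists_not_fixed (hF : Fintype.card F = q) (hK : Fintype.card K = q ^ 2) :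
    ∃ θ : K, θ ^ q ≠ θ := by
  have hq2 : 1 < q := by
    rw [← hF]
    exact Fintype.one_lt_card
  by_contra hcon
  push Not at hcon
  have h0 : (Polynomial.X ^ q - Polynomial.X : Polynomial K) = 0 := by
    apply Polynomial.eq_zero_of_natDegree_lt_card_of_eval_eq_zero' _ (Finset.univ : Finset K)
    · intro x _
      simp [hcon x]
    · rw [FiniteField.X_pow_card_sub_X_natDegree_eq K hq2, Finset.card_univ, hK]
      nlinarith
  exact FiniteField.X_pow_card_sub_X_ne_zero K hq2 h0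

theorem exists_eps (hF : Fintype.card F = q) (hK : Fintype.card K = q ^ 2) :
    ∃ ε ε' : K, ε ^ (q + 1) = -1 ∧ ε' ^ (q + 1) = -1 ∧ ε ≠ ε' := by
  have hq2 : 1 < q := by
    rw [← hF]
    exact Fintype.one_lt_card
  obtain ⟨g, hg⟩ := IsCyclic.exists_generator (α := Kˣ)
  have hord : orderOf g = q ^ 2 - 1 := by
    rw [orderOf_eq_card_of_forall_mem_zpowers hg, Nat.card_units, Nat.card_eq_fintype_card, hK]
  -- ζ = g^(q-1)
  have hζ1 : ((g ^ (q - 1) : Kˣ) : K) ^ (q + 1) = 1 := by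
    rw [← Units.val_pow_eq_pow_val, ← pow_mul]
    have : (q - 1) * (q + 1) = q ^ 2 - 1 := by
      have : q ^ 2 = (q - 1) * (q + 1) + 1 := by
        obtain ⟨k, rfl⟩ : ∃ k, q = k + 1 := ⟨q - 1, by omega⟩
        simp
        ring
      omega
    rw [this, ← hord, pow_orderOf_eq_one]
    rfl
  have hζne : ((g ^ (q - 1) : Kˣ) : K) ≠ 1 := by
    intro h
    have h1 : g ^ (q - 1) = 1 := Units.ext h
    have h2 := orderOf_dvd_of_pow_eq_one h1
    rw [hord] at h2
    have h3 := Nat.le_of_dvd (by omega) h2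
    have h4 : q ^ 2 ≥ 2 * q := by nlinarith
    omega
  -- ε
  obtain ⟨ε, hε⟩ : ∃ ε : K, ε ^ (q + 1) = -1 := by
    by_cases h2 : (2 : K) = 0
    · refine ⟨1, ?_⟩
      rw [one_pow]
      linear_combination h2
    · -- q odd
      have hqodd : Odd q := by
        by_contra hev
        rw [Nat.not_odd_iff_even] at hev
        obtain ⟨k, hk⟩ := hev
        -- char divides q
        obtain ⟨p, hp⟩ := CharP.exists F
        haveI : Fact p.Prime := ⟨CharP.char_is_prime F p⟩
        obtain ⟨n, -, hn⟩ := FiniteField.card F p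
        have h2p : 2 ∣ p ^ (n : ℕ) := by
          rw [← hn, hF, hk]
          exact ⟨k, by ring⟩
        have hp2 : p = 2 := by
          have := (Nat.Prime.dvd_of_dvd_pow Nat.prime_two h2p)
          exact ((Nat.prime_dvd_prime_iff_eq Nat.prime_two (Fact.out : p.Prime)).1 this).symm
        haveI : CharP K p := charP_of_injective_algebraMap (algebraMap F K).injective p
        apply h2
        have := CharP.cast_eq_zero K p
        rw [hp2] at this
        exact_mod_cast this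
      obtain ⟨k, hk⟩ := hqodd
      refine ⟨((g ^ k : Kˣ) : K), ?_⟩
      have hsq : (((g ^ k : Kˣ) : K) ^ (q + 1)) ^ 2 = 1 := by
        rw [← Units.val_pow_eq_pow_val, ← Units.val_pow_eq_pow_val, ← pow_mul, ← pow_mul]
        have : k * ((q + 1) * 2) = q ^ 2 - 1 := by
          have : q ^ 2 = k * ((q + 1) * 2) + 1 := by
            rw [hk]
            ring
          omega
        rw [this, ← hord, pow_orderOf_eq_one]
        rfl
      have hne1 : ((g ^ k : Kˣ) : K) ^ (q + 1) ≠ 1 := by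
        intro h
        rw [← Units.val_pow_eq_pow_val, ← pow_mul] at h
        have h1 : g ^ (k * (q + 1)) = 1 := Units.ext h
        have h2' := orderOf_dvd_of_pow_eq_one h1
        rw [hord] at h2'
        have hpos : 0 < k * (q + 1) := by
          apply Nat.mul_pos _ (by omega)
          omega
        have h3 := Nat.le_of_dvd hpos h2'
        have : q ^ 2 = k * (q + 1) * 2 + 1 := by
          rw [hk]
          ring
        omega
      have : (((g ^ k : Kˣ) : K) ^ (q + 1) - 1) * (((g ^ k : Kˣ) : K) ^ (q + 1) + 1) = 0 := by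
        linear_combination hsq
      rcases mul_eq_zero.1 this with h | h
      · exact absurd (sub_eq_zero.1 h) hne1
      · exact eq_neg_of_add_eq_zero_left h
  refine ⟨ε, ε * ((g ^ (q - 1) : Kˣ) : K), hε, by rw [mul_pow, hε, hζ1, mul_one], ?_⟩
  intro h
  have hε0 : ε ≠ 0 := by
    intro h0
    rw [h0, zero_pow (by omega)] at hε
    have : (1 : K) = 0 := by linear_combination hε
    exact one_ne_zero this
  apply hζne
  have : ε * ((g ^ (q - 1) : Kˣ) : K) = ε * 1 := by rw [mul_one]; exact h.symm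
  exact mul_left_cancel₀ hε0 this

end facts

section pair
variable {K F : Type*} [Field K] [Field F] [Algebra F K]

/-- change of variables `(u₁,u₂) ↦ (x,y)` with `u₁ = x + y`, `u₂ = ε x + ε' y` -/
noncomputable def AAK (ε ε' : K) (hne : ε ≠ ε') : (K × K) ≃ₗ[K] (K × K) where
  toFun u := (u.1 - (u.2 - ε * u.1) / (ε' - ε), (u.2 - ε * u.1) / (ε' - ε))
  map_add' u v := by
    have h : ε' - ε ≠ 0 := sub_ne_zero.2 (Ne.symm hne)
    ext
    · simp only [Prod.fst_add, Prod.snd_add]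
      field_simp
      ring
    · simp only [Prod.fst_add, Prod.snd_add]
      field_simp
      ring
  map_smul' r u := by
    have h : ε' - ε ≠ 0 := sub_ne_zero.2 (Ne.symm hne)
    ext
    · simp only [Prod.smul_fst, Prod.smul_snd, RingHom.id_apply, smul_eq_mul]
      field_simp
    · simp only [Prod.smul_fst, Prod.smul_snd, RingHom.id_apply, smul_eq_mul]
      field_simp
  invFun w := (w.1 + w.2, ε * w.1 + ε' * w.2)
  left_inv u := by
    have h : ε' - ε ≠ 0 := sub_ne_zero.2 (Ne.symm hne)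
    ext
    · simp only
      ring
    · simp only
      field_simp
      ring
  right_inv w := by
    have h : ε' - ε ≠ 0 := sub_ne_zero.2 (Ne.symm hne)
    ext
    · simp only
      field_simp
      ring
    · simp only
      field_simp
      ring

/-- restricted to `F` -/
noncomputable def AA (ε ε' : K) (hne : ε ≠ ε') : (K × K) ≃ₗ[F] (K × K) :=
  (AAK ε ε' hne).restrictScalars F

theorem AA_spec (ε ε' : K) (hne : ε ≠ ε') (u : K × K) :
    u.1 = (AA (F := F) ε ε' hne u).1 + (AA (F := F) ε ε' hne u).2 ∧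
    u.2 = ε * (AA (F := F) ε ε' hne u).1 + ε' * (AA (F := F) ε ε' hne u).2 := by
  have := (AAK ε ε' hne).left_inv u
  constructor
  · exact (congrArg Prod.fst this).symm
  · exact (congrArg Prod.snd this).symm

end pair

section pair2
variable {K F : Type*} [Field K] [Field F] [Algebra F K]
variable (q : ℕ) (hadd : ∀ x y : K, (x + y) ^ q = x ^ q + y ^ q)
  (hfix : ∀ f : F, (algebraMap F K f) ^ q = algebraMap F K f)

/-- the trace-like functional -/
noncomputable def tau (lam : K →ₗ[F] F) : K →ₗ[F] F :=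
  lam ∘ₗ (LinearMap.id + sig q hadd hfix)

theorem tau_apply (lam : K →ₗ[F] F) (z : K) : tau q hadd hfix lam z = lam (z + z ^ q) := rfl

/-- second coordinate map -/
noncomputable def CC (b : Module.Basis (Fin 2) F K) (lam : K →ₗ[F] F) (κ : K) :
    K →ₗ[F] (Fin 2 → F) :=
  LinearMap.pi (fun t => (tau q hadd hfix lam) ∘ₗ (LinearMap.mulLeft F (κ * b t)) ∘ₗ
    (sig q hadd hfix))

theorem CC_apply (b : Module.Basis (Fin 2) F K) (lam : K →ₗ[F] F) (κ : K) (y : K) (t : Fin 2) :
    CC q hadd hfix b lam κ y t = tau q hadd hfix lam (κ * b t * y ^ q) := rfl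

theorem CC_sum (b : Module.Basis (Fin 2) F K) (lam : K →ₗ[F] F) (κ : K) (x y : K) :
    ∑ t, b.equivFun x t * CC q hadd hfix b lam κ y t = tau q hadd hfix lam (κ * x * y ^ q) := by
  conv_rhs => rw [← b.sum_equivFun x, Finset.mul_sum, Finset.sum_mul, map_sum]
  apply Finset.sum_congr rfl
  intro t _
  rw [CC_apply, mul_smul_comm, smul_mul_assoc, map_smul, smul_eq_mul]

theorem CC_injective (b : Module.Basis (Fin 2) F K) (lam : K →ₗ[F] F) (κ : K) (hκ : κ ≠ 0)
    (z₀ : K) (hz₀ : tau q hadd hfix lam z₀ ≠ 0) :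
    Function.Injective (CC q hadd hfix b lam κ) := by
  rw [injective_iff_map_eq_zero]
  intro y hy
  by_contra hne
  apply hz₀
  have hyq : y ^ q ≠ 0 := pow_ne_zero _ hne
  have h1 := CC_sum q hadd hfix b lam κ (z₀ / (κ * y ^ q)) y
  rw [hy] at h1
  have h2 : κ * (z₀ / (κ * y ^ q)) * y ^ q = z₀ := by
    field_simp
  rw [h2] at h1
  rw [← h1]
  simp

/-- second coordinate map as an equivalence -/
noncomputable def CCE (b : Module.Basis (Fin 2) F K) (lam : K →ₗ[F] F) (κ : K) (hκ : κ ≠ 0)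
    (z₀ : K) (hz₀ : tau q hadd hfix lam z₀ ≠ 0) : K ≃ₗ[F] (Fin 2 → F) :=
  haveI : Module.Finite F K := .of_basis b
  LinearEquiv.ofBijective (CC q hadd hfix b lam κ) ⟨CC_injective q hadd hfix b lam κ hκ z₀ hz₀,
    (LinearMap.injective_iff_surjective_of_finrank_eq_finrank (by
      rw [Module.finrank_eq_card_basis b, Module.finrank_fin_fun, Fintype.card_fin])).1
        (CC_injective q hadd hfix b lam κ hκ z₀ hz₀)⟩

theorem CCE_apply (b : Module.Basis (Fin 2) F K) (lam : K →ₗ[F] F) (κ : K) (hκ : κ ≠ 0)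
    (z₀ : K) (hz₀ : tau q hadd hfix lam z₀ ≠ 0) (y : K) :
    CCE q hadd hfix b lam κ hκ z₀ hz₀ y = CC q hadd hfix b lam κ y := by
  unfold CCE
  rfl

include hadd in
theorem pair_identity (hinv : ∀ x : K, (x ^ q) ^ q = x) (ε ε' x y : K)
    (hε : ε ^ (q + 1) = -1) (hε' : ε' ^ (q + 1) = -1) :
    (x + y) * (x + y) ^ q + (ε * x + ε' * y) * (ε * x + ε' * y) ^ q =
      (1 + ε * ε' ^ q) * x * y ^ q + ((1 + ε * ε' ^ q) * x * y ^ q) ^ q := by
  have e1 : ε * ε ^ q = -1 := by rw [← hε, pow_succ]; ring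
  have e2 : ε' * ε' ^ q = -1 := by rw [← hε', pow_succ]; ring
  rw [hadd, hadd, mul_pow, mul_pow, mul_pow, mul_pow, hadd, one_pow, mul_pow, hinv, hinv]
  linear_combination (x * x ^ q) * e1 + (y * y ^ q) * e2

end pair2

section pair3
variable {K F : Type*} [Field K] [Field F] [Algebra F K]
variable (q : ℕ) (hadd : ∀ x y : K, (x + y) ^ q = x ^ q + y ^ q)
  (hfix : ∀ f : F, (algebraMap F K f) ^ q = algebraMap F K f)

theorem kappa_ne (hinv : ∀ x : K, (x ^ q) ^ q = x) (ε ε' : K)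
    (hε : ε ^ (q + 1) = -1) (hne : ε ≠ ε') : 1 + ε * ε' ^ q ≠ 0 := by
  intro h
  apply hne
  have e1 : ε * ε ^ q = -1 := by rw [← hε, pow_succ]; ring
  have hε0 : ε ≠ 0 := by
    intro h0
    rw [h0, zero_mul] at e1
    have : (1 : K) = 0 := by linear_combination e1
    exact one_ne_zero this
  have h2 : ε' ^ q = ε ^ q := by
    apply mul_left_cancel₀ hε0
    linear_combination h - e1
  rw [← hinv ε, ← hinv ε', h2]

/-- the pair equivalence -/
noncomputable def PP (b : Module.Basis (Fin 2) F K) (lam : K →ₗ[F] F) (ε ε' : K) (hne : ε ≠ ε')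
    (hκ : 1 + ε * ε' ^ q ≠ 0) (z₀ : K) (hz₀ : tau q hadd hfix lam z₀ ≠ 0) :
    (K × K) ≃ₗ[F] ((Fin 2 → F) × (Fin 2 → F)) :=
  (AA ε ε' hne) ≪≫ₗ (LinearEquiv.prodCongr b.equivFun (CCE q hadd hfix b lam _ hκ z₀ hz₀))

theorem PP_form (b : Module.Basis (Fin 2) F K) (lam : K →ₗ[F] F) (ε ε' : K) (hne : ε ≠ ε')
    (hκ : 1 + ε * ε' ^ q ≠ 0) (z₀ : K) (hz₀ : tau q hadd hfix lam z₀ ≠ 0)
    (hinv : ∀ x : K, (x ^ q) ^ q = x) (hε : ε ^ (q + 1) = -1) (hε' : ε' ^ (q + 1) = -1)
    (u : K × K) :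
    ∑ t, (PP q hadd hfix b lam ε ε' hne hκ z₀ hz₀ u).1 t *
      (PP q hadd hfix b lam ε ε' hne hκ z₀ hz₀ u).2 t = lam (u.1 * u.1 ^ q + u.2 * u.2 ^ q) := by
  obtain ⟨h1, h2⟩ := AA_spec (F := F) ε ε' hne u
  have e1 : (PP q hadd hfix b lam ε ε' hne hκ z₀ hz₀ u).1 = b.equivFun (AA (F := F) ε ε' hne u).1 := rfl
  have e2 : (PP q hadd hfix b lam ε ε' hne hκ z₀ hz₀ u).2 =
      CC q hadd hfix b lam (1 + ε * ε' ^ q) (AA (F := F) ε ε' hne u).2 := rfl
  rw [e1, e2, CC_sum, tau_apply]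
  conv_rhs => rw [h1, h2]
  rw [pair_identity q hadd hinv ε ε' _ _ hε hε']

end pair3

section psiH
variable {K F : Type*} [Field K] [Field F] [Algebra F K]
variable {α β : Type*} [Fintype α] [Fintype β] [DecidableEq β]

/-- pair projection -/
def prL (e : α ⊕ α ≃ β) (j : α) : (β → K) →ₗ[F] (K × K) :=
  LinearMap.prod (LinearMap.proj (e (Sum.inl j))) (LinearMap.proj (e (Sum.inr j)))

theorem prL_apply (e : α ⊕ α ≃ β) (j : α) (u : β → K) :
    prL (F := F) e j u = (u (e (Sum.inl j)), u (e (Sum.inr j))) := rfl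

/-- the hyperbolic coordinate map -/
noncomputable def PsiHL (e : α ⊕ α ≃ β) (P : (K × K) ≃ₗ[F] ((Fin 2 → F) × (Fin 2 → F))) :
    (β → K) →ₗ[F] (β ⊕ β → F) :=
  LinearMap.pi (fun s => Sum.elim
    (fun i => Sum.elim
      (fun j => (LinearMap.proj 0) ∘ₗ (LinearMap.fst F _ _) ∘ₗ P.toLinearMap ∘ₗ prL e j)
      (fun j => (LinearMap.proj 1) ∘ₗ (LinearMap.fst F _ _) ∘ₗ P.toLinearMap ∘ₗ prL e j)
      (e.symm i))
    (fun i => Sum.elim
      (fun j => (LinearMap.proj 0) ∘ₗ (LinearMap.snd F _ _) ∘ₗ P.toLinearMap ∘ₗ prL e j)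
      (fun j => (LinearMap.proj 1) ∘ₗ (LinearMap.snd F _ _) ∘ₗ P.toLinearMap ∘ₗ prL e j)
      (e.symm i)) s)

theorem PsiHL_ll (e : α ⊕ α ≃ β) (P : (K × K) ≃ₗ[F] ((Fin 2 → F) × (Fin 2 → F))) (u : β → K)
    (j : α) : PsiHL e P u (Sum.inl (e (Sum.inl j))) = (P (prL (F := F) e j u)).1 0 := by
  simp [PsiHL]

theorem PsiHL_lr (e : α ⊕ α ≃ β) (P : (K × K) ≃ₗ[F] ((Fin 2 → F) × (Fin 2 → F))) (u : β → K)
    (j : α) : PsiHL e P u (Sum.inl (e (Sum.inr j))) = (P (prL (F := F) e j u)).1 1 := by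
  simp [PsiHL]

theorem PsiHL_rl (e : α ⊕ α ≃ β) (P : (K × K) ≃ₗ[F] ((Fin 2 → F) × (Fin 2 → F))) (u : β → K)
    (j : α) : PsiHL e P u (Sum.inr (e (Sum.inl j))) = (P (prL (F := F) e j u)).2 0 := by
  simp [PsiHL]

theorem PsiHL_rr (e : α ⊕ α ≃ β) (P : (K × K) ≃ₗ[F] ((Fin 2 → F) × (Fin 2 → F))) (u : β → K)
    (j : α) : PsiHL e P u (Sum.inr (e (Sum.inr j))) = (P (prL (F := F) e j u)).2 1 := by
  simp [PsiHL]

theorem PsiHL_injective (e : α ⊕ α ≃ β) (P : (K × K) ≃ₗ[F] ((Fin 2 → F) × (Fin 2 → F))) :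
    Function.Injective (PsiHL e P) := by
  rw [injective_iff_map_eq_zero]
  intro u hu
  have h1 : ∀ j, prL (F := F) e j u = 0 := by
    intro j
    apply P.injective
    rw [map_zero]
    apply Prod.ext
    · ext t
      fin_cases t
      · have := PsiHL_ll e P u j
        rw [hu] at this
        exact this.symm
      · have := PsiHL_lr e P u j
        rw [hu] at this
        exact this.symm
    · ext t
      fin_cases t
      · have := PsiHL_rl e P u j
        rw [hu] at this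
        exact this.symm
      · have := PsiHL_rr e P u j
        rw [hu] at this
        exact this.symm
  ext i
  obtain ⟨s, rfl⟩ := e.surjective i
  rcases s with j | j
  · exact congrArg Prod.fst (h1 j)
  · exact congrArg Prod.snd (h1 j)

theorem PsiHL_form (e : α ⊕ α ≃ β) (P : (K × K) ≃ₗ[F] ((Fin 2 → F) × (Fin 2 → F)))
    (lam : K →ₗ[F] F) (N : K → K)
    (hP : ∀ w : K × K, ∑ t, (P w).1 t * (P w).2 t = lam (N w.1 + N w.2)) (u : β → K) :
    ∑ i : β, PsiHL e P u (Sum.inl i) * PsiHL e P u (Sum.inr i) = lam (∑ i : β, N (u i)) := by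
  rw [← e.sum_comp, ← e.sum_comp, Fintype.sum_sum_type, Fintype.sum_sum_type, map_add, map_sum,
    map_sum, ← Finset.sum_add_distrib, ← Finset.sum_add_distrib]
  apply Finset.sum_congr rfl
  intro j _
  rw [PsiHL_ll, PsiHL_lr, PsiHL_rl, PsiHL_rr, ← map_add, ← Fin.sum_univ_two (f := fun t =>
    (P (prL (F := F) e j u)).1 t * (P (prL (F := F) e j u)).2 t), hP]
  rfl

end psiH

section mainH
variable {K F : Type*} [Field K] [Field F] [Algebra F K]

/-- the hyperbolic coordinate equivalence -/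
noncomputable def PsiH {α β : Type*} [Fintype α] [Fintype β] [DecidableEq β]
    (b : Module.Basis (Fin 2) F K) (e : α ⊕ α ≃ β)
    (P : (K × K) ≃ₗ[F] ((Fin 2 → F) × (Fin 2 → F))) : (β → K) ≃ₗ[F] (β ⊕ β → F) :=
  haveI : Module.Finite F K := .of_basis b
  LinearEquiv.ofBijective (PsiHL e P) ⟨PsiHL_injective e P,
    (LinearMap.injective_iff_surjective_of_finrank_eq_finrank (by
      rw [Module.finrank_pi_fintype, Module.finrank_fintype_fun_eq_card]
      simp only [Module.finrank_eq_card_basis b, Fintype.card_fin, Finset.sum_const,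
        Finset.card_univ, Fintype.card_sum, smul_eq_mul]
      ring)).1 (PsiHL_injective e P)⟩

theorem PsiH_apply {α β : Type*} [Fintype α] [Fintype β] [DecidableEq β]
    (b : Module.Basis (Fin 2) F K) (e : α ⊕ α ≃ β)
    (P : (K × K) ≃ₗ[F] ((Fin 2 → F) × (Fin 2 → F))) (u : β → K) :
    PsiH b e P u = PsiHL e P u := by
  unfold PsiH
  rfl

/-- `T` as a monoid hom -/
noncomputable def THomG {ι κ : Type*} [Fintype ι] [DecidableEq ι] [Fintype κ]
    [DecidableEq κ] (Ψ : (ι → K) ≃ₗ[F] (κ → F)) : Matrix ι ι K →* Matrix κ κ F where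
  toFun := T Ψ
  map_one' := T_one Ψ
  map_mul' := T_mul Ψ

/-- generic embedding of `GU` into an isometry group -/
theorem embed_of_Psi {κ : Type} [Fintype κ] [DecidableEq κ] (m q : ℕ)
    (Ψ : (Fin m → K) ≃ₗ[F] (κ → F)) (Q : (κ → F) → F) (lam : K → F)
    (hQ : ∀ u, Q (Ψ u) = lam (Cfsg.hermForm m K q u u)) :
    ∃ φ : ↥(Cfsg.GU m K q) →* ↥(Cfsg.isometryGroup F Q), Function.Injective φ := by
  let φ₀ : Matrix.GeneralLinearGroup (Fin m) K →* Matrix.GeneralLinearGroup κ F :=
    Units.map (THomG Ψ)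
  have hval : ∀ g, ((φ₀ g : Matrix.GeneralLinearGroup κ F) : Matrix κ κ F) = T Ψ g.1 :=
    fun g => rfl
  have hmem : ∀ g : Cfsg.GU m K q, φ₀ g.1 ∈ Cfsg.isometryGroup F Q := by
    intro g w _
    show Q ((φ₀ g.1).1 *ᵥ w) = Q w
    obtain ⟨u, rfl⟩ := Ψ.surjective w
    have hg : ∀ u v, Cfsg.hermForm m K q (g.1.1 *ᵥ u) (g.1.1 *ᵥ v) = Cfsg.hermForm m K q u v := g.2
    rw [hval, T_mulVec, hQ, hQ, hg]
  refine ⟨(φ₀.comp (Subgroup.subtype _)).codRestrict _ hmem, ?_⟩
  intro g h hgh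
  have h3 : φ₀ g.1 = φ₀ h.1 := congrArg Subtype.val hgh
  apply Subtype.ext
  apply Units.ext
  apply T_injective Ψ
  rw [← hval, ← hval, h3]

end mainH

section mains

theorem exists_lam_tau {K F : Type*} [Field K] [Fintype K] [Field F] [Fintype F] [Algebra F K]
    {q : ℕ} (hK : Fintype.card K = q ^ 2) (hF : Fintype.card F = q)
    (b : Module.Basis (Fin 2) F K) :
    ∃ (lam : K →ₗ[F] F), (∀ f : F, lam (algebraMap F K f) = f) ∧
      ∃ z₀ : K, tau q (hadd_of hF) (hfix_of hF) lam z₀ ≠ 0 := by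
  have hinv := hinv_of hK
  have hadd := hadd_of (K := K) hF
  -- functional with lam 1 = 1
  obtain ⟨j, hj⟩ : ∃ j, b.coord j (1 : K) ≠ 0 := by
    by_contra hcon
    push Not at hcon
    have : (1 : K) = 0 := by
      apply b.ext_elem
      intro i
      rw [map_zero]
      exact hcon i
    exact one_ne_zero this
  let lam : K →ₗ[F] F := (b.coord j (1 : K))⁻¹ • b.coord j
  have hlam : ∀ f : F, lam (algebraMap F K f) = f := by
    intro f
    show (b.coord j (1 : K))⁻¹ * b.coord j (algebraMap F K f) = f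
    rw [Algebra.algebraMap_eq_smul_one, map_smul, smul_eq_mul]
    field_simp
  refine ⟨lam, hlam, ?_⟩
  -- z with z + z^q ≠ 0
  obtain ⟨z, hz⟩ : ∃ z : K, z + z ^ q ≠ 0 := by
    by_cases h2 : (2 : K) = 0
    · obtain ⟨θ, hθ⟩ := exists_not_fixed hF hK
      refine ⟨θ, ?_⟩
      intro h
      apply hθ
      linear_combination h - θ * h2
    · refine ⟨1, ?_⟩
      rw [one_pow]
      intro h
      apply h2
      linear_combination h
  refine ⟨z, ?_⟩
  rw [tau_apply]
  have hw : (z + z ^ q) ^ q = z + z ^ q := by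
    rw [hadd, hinv]
    ring
  obtain ⟨f₀, hf₀⟩ := hfixed_of hF _ hw
  rw [← hf₀, hlam]
  intro h0
  apply hz
  rw [← hf₀, h0, map_zero]

theorem main_plus {K F : Type*} [Field K] [Fintype K] [Field F] [Fintype F] {q : ℕ}
    (hK : Fintype.card K = q ^ 2) (hF : Fintype.card F = q) (m : ℕ) (hm : Even m) :
    ∃ φ : ↥(Cfsg.GU m K q) →* ↥(Cfsg.isometryGroup F (Cfsg.quadFormPlus m F)),
      Function.Injective φ := by
  obtain ⟨n, rfl⟩ := hm
  obtain ⟨f⟩ := exists_ringHom hK hF
  letI : Algebra F K := f.toAlgebra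
  have h2 := finrank_eq_two hK hF
  let b := Module.finBasisOfFinrankEq F K h2
  have hinv := hinv_of hK
  obtain ⟨ε, ε', hε, hε', hne⟩ := exists_eps (F := F) hF hK
  obtain ⟨lam, -, z₀, hz₀⟩ := exists_lam_tau hK hF b
  let P := PP q (hadd_of hF) (hfix_of hF) b lam ε ε' hne (kappa_ne q hinv ε ε' hε hne) z₀ hz₀
  apply embed_of_Psi (n + n) q (PsiH b finSumFinEquiv P) _ lam
  intro u
  rw [PsiH_apply]
  unfold Cfsg.quadFormPlus Cfsg.hermForm
  exact PsiHL_form finSumFinEquiv P lam (fun x => x * x ^ q)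
    (PP_form q (hadd_of hF) (hfix_of hF) b lam ε ε' hne _ z₀ hz₀ hinv hε hε') u

end mains

end Cfsg.Agent.Lib.Helper4_ResScal3
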