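import Mathlib
import Cfsg.Prelude.Def_LieClassical
import Cfsg.Agent.Lib.Helper4_ResScal3
import Cfsg.Agent.Lib.Helper4_EllHyp

namespace Cfsg.Agent.Lib.Helper4_ResScal4
open Matrix Cfsg.Agent.Lib.Helper4_ResScal Cfsg.Agent.Lib.Helper4_ResScal2
  Cfsg.Agent.Lib.Helper4_ResScal3

section c3
variable {K F : Type*} [Field K] [Field F] [Algebra F K]

/-- `(z₁, z₂) ↦ z₁ - α₀ z₂` -/
noncomputable def DD3 (α₀ : K) : (Fin 2 → F) →ₗ[F] K :=
  (LinearMap.toSpanSingleton F K 1) ∘ₗ (LinearMap.proj 0) -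
    (LinearMap.toSpanSingleton F K α₀) ∘ₗ (LinearMap.proj 1)

theorem DD3_apply (α₀ : K) (z : Fin 2 → F) :
    DD3 α₀ z = algebraMap F K (z 0) - algebraMap F K (z 1) * α₀ := by
  simp [DD3, Algebra.smul_def]

theorem DD3_injective (α₀ : K) (hα : ∀ f : F, algebraMap F K f ≠ α₀) :
    Function.Injective (DD3 (F := F) α₀) := by
  rw [injective_iff_map_eq_zero]
  intro z hz
  rw [DD3_apply] at hz
  have h1 : z 1 = 0 := by
    by_contra hne
    apply hα (z 0 / z 1)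
    have hne' : algebraMap F K (z 1) ≠ 0 := by
      rw [Ne, map_eq_zero_iff _ (algebraMap F K).injective]
      exact hne
    rw [map_div₀]
    field_simp
    linear_combination hz
  have h0 : z 0 = 0 := by
    rw [h1, map_zero, zero_mul, sub_zero, map_eq_zero_iff _ (algebraMap F K).injective] at hz
    exact hz
  ext t
  fin_cases t
  · exact h0
  · exact h1

/-- coordinates w.r.t. `(1, -α₀)` -/
noncomputable def c3 (b : Module.Basis (Fin 2) F K) (α₀ : K) (hα : ∀ f : F, algebraMap F K f ≠ α₀) :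
    K ≃ₗ[F] (Fin 2 → F) :=
  haveI : Module.Finite F K := .of_basis b
  (LinearEquiv.ofBijective (DD3 α₀) ⟨DD3_injective α₀ hα,
    (LinearMap.injective_iff_surjective_of_finrank_eq_finrank (by
      rw [Module.finrank_eq_card_basis b, Module.finrank_fin_fun, Fintype.card_fin])).1
        (DD3_injective α₀ hα)⟩).symm

theorem c3_spec (b : Module.Basis (Fin 2) F K) (α₀ : K) (hα : ∀ f : F, algebraMap F K f ≠ α₀)
    (x : K) : x = algebraMap F K (c3 b α₀ hα x 0) - algebraMap F K (c3 b α₀ hα x 1) * α₀ := by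
  rw [← DD3_apply]
  unfold c3
  exact ((LinearEquiv.ofBijective (DD3 α₀) _).apply_symm_apply x).symm

theorem c3_form (b : Module.Basis (Fin 2) F K) (α₀ β₀ : K)
    (hα : ∀ f : F, algebraMap F K f ≠ α₀) (q : ℕ)
    (hadd : ∀ x y : K, (x + y) ^ q = x ^ q + y ^ q)
    (hfix : ∀ f : F, (algebraMap F K f) ^ q = algebraMap F K f)
    (a c : F) (h1 : α₀ + β₀ = -algebraMap F K a) (h2 : α₀ * β₀ = algebraMap F K c)
    (hconj : α₀ ^ q = β₀) (lam : K →ₗ[F] F) (hlam : ∀ f : F, lam (algebraMap F K f) = f)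
    (x : K) :
    (c3 b α₀ hα x 0) ^ 2 + a * c3 b α₀ hα x 0 * c3 b α₀ hα x 1 + c * (c3 b α₀ hα x 1) ^ 2 =
      lam (x * x ^ q) := by
  have hx := c3_spec b α₀ hα x
  set z0 := c3 b α₀ hα x 0
  set z1 := c3 b α₀ hα x 1
  have hneg : ∀ y : K, (-y) ^ q = -(y ^ q) := by
    intro y
    have := hadd y (-y)
    rw [add_neg_cancel, zero_pow] at this
    · linear_combination -this
    · rintro rfl
      have h11 := hadd 1 1
      simp only [pow_zero] at h11
      exact one_ne_zero (α := K) (by linear_combination (-1 : K) * h11)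
  have e : x * x ^ q = algebraMap F K (z0 ^ 2 + a * z0 * z1 + c * z1 ^ 2) := by
    have e1 : x ^ q = algebraMap F K z0 - algebraMap F K z1 * β₀ := by
      conv_lhs => rw [hx, sub_eq_add_neg, hadd, hneg, mul_pow, hfix, hfix, hconj]
      ring
    rw [e1]
    conv_lhs => rw [hx]
    simp only [map_add, map_mul, map_pow]
    linear_combination (-(algebraMap F K z0) * (algebraMap F K z1)) * h1 +
      ((algebraMap F K z1) ^ 2) * h2
  rw [e, hlam]

end c3

section psiE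
variable {K F : Type*} [Field K] [Field F] [Algebra F K]
variable {α β γ : Type*} [Fintype α] [Fintype β] [DecidableEq β] [Fintype γ] [DecidableEq γ]

/-- the elliptic coordinate map -/
noncomputable def PsiEL (e : α ⊕ α ≃ β) (e' : β ⊕ Unit ≃ γ)
    (P : (K × K) ≃ₗ[F] ((Fin 2 → F) × (Fin 2 → F))) (c₃ : K ≃ₗ[F] (Fin 2 → F)) :
    (γ → K) →ₗ[F] ((β ⊕ β) ⊕ Fin 2 → F) :=
  LinearMap.pi (fun s => Sum.elim
    (fun s' => (LinearMap.proj s') ∘ₗ PsiHL e P ∘ₗ (LinearMap.funLeft F K (fun i => e' (Sum.inl i))))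
    (fun t => (LinearMap.proj t) ∘ₗ c₃.toLinearMap ∘ₗ (LinearMap.proj (e' (Sum.inr ()))))
    s)

theorem PsiEL_inl (e : α ⊕ α ≃ β) (e' : β ⊕ Unit ≃ γ)
    (P : (K × K) ≃ₗ[F] ((Fin 2 → F) × (Fin 2 → F))) (c₃ : K ≃ₗ[F] (Fin 2 → F))
    (u : γ → K) (s' : β ⊕ β) :
    PsiEL e e' P c₃ u (Sum.inl s') = PsiHL e P (fun i => u (e' (Sum.inl i))) s' := rfl

theorem PsiEL_inr (e : α ⊕ α ≃ β) (e' : β ⊕ Unit ≃ γ)
    (P : (K × K) ≃ₗ[F] ((Fin 2 → F) × (Fin 2 → F))) (c₃ : K ≃ₗ[F] (Fin 2 → F))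
    (u : γ → K) (t : Fin 2) :
    PsiEL e e' P c₃ u (Sum.inr t) = c₃ (u (e' (Sum.inr ()))) t := rfl

theorem PsiEL_injective (e : α ⊕ α ≃ β) (e' : β ⊕ Unit ≃ γ)
    (P : (K × K) ≃ₗ[F] ((Fin 2 → F) × (Fin 2 → F))) (c₃ : K ≃ₗ[F] (Fin 2 → F)) :
    Function.Injective (PsiEL e e' P c₃) := by
  rw [injective_iff_map_eq_zero]
  intro u hu
  have h1 : (fun i => u (e' (Sum.inl i))) = 0 := by
    apply PsiHL_injective e P
    rw [map_zero]
    ext s'
    rw [← PsiEL_inl e e' P c₃ u s', hu]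
    rfl
  have h2 : u (e' (Sum.inr ())) = 0 := by
    apply c₃.injective
    rw [map_zero]
    ext t
    rw [← PsiEL_inr e e' P c₃ u t, hu]
    rfl
  ext i
  obtain ⟨s, rfl⟩ := e'.surjective i
  rcases s with j | j
  · exact congrFun h1 j
  · exact h2

/-- the elliptic coordinate equivalence -/
noncomputable def PsiE (b : Module.Basis (Fin 2) F K) (e : α ⊕ α ≃ β) (e' : β ⊕ Unit ≃ γ)
    (P : (K × K) ≃ₗ[F] ((Fin 2 → F) × (Fin 2 → F))) (c₃ : K ≃ₗ[F] (Fin 2 → F)) :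
    (γ → K) ≃ₗ[F] ((β ⊕ β) ⊕ Fin 2 → F) :=
  haveI : Module.Finite F K := .of_basis b
  LinearEquiv.ofBijective (PsiEL e e' P c₃) ⟨PsiEL_injective e e' P c₃,
    (LinearMap.injective_iff_surjective_of_finrank_eq_finrank (by
      rw [Module.finrank_pi_fintype, Module.finrank_fintype_fun_eq_card]
      simp only [Module.finrank_eq_card_basis b, Fintype.card_fin, Finset.sum_const,
        Finset.card_univ, Fintype.card_sum, smul_eq_mul, ← Fintype.card_congr e',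
        Fintype.card_unit]
      ring)).1 (PsiEL_injective e e' P c₃)⟩

theorem PsiE_apply (b : Module.Basis (Fin 2) F K) (e : α ⊕ α ≃ β) (e' : β ⊕ Unit ≃ γ)
    (P : (K × K) ≃ₗ[F] ((Fin 2 → F) × (Fin 2 → F))) (c₃ : K ≃ₗ[F] (Fin 2 → F)) (u : γ → K) :
    PsiE b e e' P c₃ u = PsiEL e e' P c₃ u := by
  unfold PsiE
  rfl

theorem PsiEL_form (e : α ⊕ α ≃ β) (e' : β ⊕ Unit ≃ γ)
    (P : (K × K) ≃ₗ[F] ((Fin 2 → F) × (Fin 2 → F))) (c₃ : K ≃ₗ[F] (Fin 2 → F))
    (lam : K →ₗ[F] F) (N : K → K) (a c : F)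
    (hP : ∀ w : K × K, ∑ t, (P w).1 t * (P w).2 t = lam (N w.1 + N w.2))
    (hc : ∀ x : K, (c₃ x 0) ^ 2 + a * c₃ x 0 * c₃ x 1 + c * (c₃ x 1) ^ 2 = lam (N x))
    (u : γ → K) :
    (∑ i : β, PsiEL e e' P c₃ u (Sum.inl (Sum.inl i)) * PsiEL e e' P c₃ u (Sum.inl (Sum.inr i))) +
      ((PsiEL e e' P c₃ u (Sum.inr 0)) ^ 2 +
        a * PsiEL e e' P c₃ u (Sum.inr 0) * PsiEL e e' P c₃ u (Sum.inr 1) +
        c * (PsiEL e e' P c₃ u (Sum.inr 1)) ^ 2) = lam (∑ i : γ, N (u i)) := by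
  simp only [PsiEL_inl, PsiEL_inr]
  rw [PsiHL_form e P lam N hP, hc, ← map_add, ← e'.sum_comp, Fintype.sum_sum_type]
  simp

end psiE

section mainE

theorem main_minus {K F : Type*} [Field K] [Fintype K] [Field F] [Fintype F] {q : ℕ}
    (hK : Fintype.card K = q ^ 2) (hF : Fintype.card F = q) (m : ℕ) (hm : Odd m) (a c : F)
    (hab : ∀ z₁ z₂ : F, z₁ ^ 2 + a * z₁ * z₂ + c * z₂ ^ 2 = 0 → z₁ = 0 ∧ z₂ = 0) :
    ∃ φ : ↥(Cfsg.GU m K q) →* ↥(Cfsg.isometryGroup F (Cfsg.quadFormMinus (m - 1) F a c)),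
      Function.Injective φ := by
  obtain ⟨k, rfl⟩ := hm
  show ∃ φ : ↥(Cfsg.GU (2 * k + 1) K q) →*
    ↥(Cfsg.isometryGroup F (Cfsg.quadFormMinus (2 * k) F a c)), Function.Injective φ
  obtain ⟨f⟩ := exists_ringHom hK hF
  letI : Algebra F K := f.toAlgebra
  have h2' := finrank_eq_two hK hF
  let b := Module.finBasisOfFinrankEq F K h2'
  have hinv := hinv_of hK
  have hadd := hadd_of (K := K) hF
  have hfix := hfix_of (K := K) hF
  obtain ⟨ε, ε', hε, hε', hne⟩ := exists_eps (F := F) hF hK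
  obtain ⟨lam, hlam, z₀, hz₀⟩ := exists_lam_tau hK hF b
  let P := PP q (hadd_of hF) (hfix_of hF) b lam ε ε' hne (kappa_ne q hinv ε ε' hε hne) z₀ hz₀
  obtain ⟨α₀, β₀, h1, h2, hne0⟩ := Cfsg.Agent.Lib.Helper4_EllHyp.exists_roots hF hK a c hab
  have hroot : α₀ ^ 2 + algebraMap F K a * α₀ + algebraMap F K c = 0 := by
    linear_combination α₀ * h1 - h2
  have hα : ∀ f : F, algebraMap F K f ≠ α₀ := by
    intro f hf
    rw [← hf, ← map_pow, ← map_mul, ← map_add, ← map_add,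
      map_eq_zero_iff _ (algebraMap F K).injective] at hroot
    have := hab f 1 (by rw [← hroot]; ring)
    exact one_ne_zero this.2
  have hconj : α₀ ^ q = β₀ := by
    have hr : (α₀ ^ q) ^ 2 + algebraMap F K a * α₀ ^ q + algebraMap F K c = 0 := by
      have := congrArg (fun x => x ^ q) hroot
      rw [hadd, hadd, mul_pow, hfix, hfix, ← pow_mul, mul_comm 2 q, pow_mul, zero_pow] at this
      · exact this
      · rintro rfl
        have h11 := hadd 1 1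
        simp only [pow_zero] at h11
        exact one_ne_zero (α := K) (by linear_combination (-1 : K) * h11)
    have hprod : (α₀ ^ q - α₀) * (α₀ ^ q - β₀) = 0 := by
      linear_combination hr - (α₀ ^ q) * h1 + h2
    rcases mul_eq_zero.1 hprod with h | h
    · exfalso
      obtain ⟨f₀, hf₀⟩ := hfixed_of hF α₀ (sub_eq_zero.1 h)
      exact hα f₀ hf₀
    · exact sub_eq_zero.1 h
  let c₃ := c3 b α₀ hα
  let e : Fin k ⊕ Fin k ≃ Fin (2 * k) := finSumFinEquiv.trans (finCongr (two_mul k).symm)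
  let e' : Fin (2 * k) ⊕ Unit ≃ Fin (2 * k + 1) :=
    (Equiv.sumCongr (Equiv.refl _) (Equiv.ofUnique Unit (Fin 1))).trans finSumFinEquiv
  apply embed_of_Psi (2 * k + 1) q (PsiE b e e' P c₃) _ lam
  intro u
  rw [PsiE_apply]
  unfold Cfsg.quadFormMinus Cfsg.hermForm
  exact PsiEL_form e e' P c₃ lam (fun x => x * x ^ q) a c
    (PP_form q (hadd_of hF) (hfix_of hF) b lam ε ε' hne _ z₀ hz₀ hinv hε hε')
    (c3_form b α₀ β₀ hα q hadd hfix a c h1 h2 hconj lam hlam) u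

end mainE

end Cfsg.Agent.Lib.Helper4_ResScal4
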