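-- helper4: SL_2(5) inside Sp_4(3): elements of order 3 have a totally isotropic 2-dim fixed space
import Mathlib

set_option autoImplicit false
set_option linter.unusedSectionVars false
open Matrix

namespace Cfsg.Agent.Lib.Helper4_SL25Sp43


set_option maxRecDepth 100000 in
lemma zmod5_conj : ∀ a b c d : ZMod 5, a * d - b * c = 1 →
    !![a, b; c, d] ^ 3 = (1 : Matrix (Fin 2) (Fin 2) (ZMod 5)) → !![a, b; c, d] ≠ 1 →
    ∃ p q r s : ZMod 5, p * s - q * r = 1 ∧
      !![a, b; c, d] * !![p, q; r, s] * !![a, b; c, d] = !![p, q; r, s] := by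
  decide +kernel

theorem exists_conj_inv {K : Type*} [Field K] [Fintype K] (hK : Fintype.card K = 5)
    (x : Matrix.SpecialLinearGroup (Fin 2) K) (hx : orderOf x = 3) :
    ∃ g : Matrix.SpecialLinearGroup (Fin 2) K, x * g * x = g := by
  have : Fact (Nat.Prime 5) := ⟨by norm_num⟩
  let e : ZMod 5 ≃+* K := ZMod.ringEquivOfPrime K (by norm_num) hK
  let f : K →+* ZMod 5 := e.symm.toRingHom
  have hfinj : Function.Injective (f.mapMatrix (m := Fin 2)) := by
    intro A B hAB
    ext i j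
    have := congrFun (congrFun hAB i) j
    simp only [RingHom.mapMatrix_apply, Matrix.map_apply] at this
    exact e.symm.injective this
  set X : Matrix (Fin 2) (Fin 2) K := x.1 with hX
  have hX3 : X ^ 3 = 1 := by
    have : x ^ 3 = 1 := by rw [← hx]; exact pow_orderOf_eq_one x
    have h2 := congrArg Subtype.val this
    simpa using h2
  have hX1 : X ≠ 1 := by
    intro h
    have : x = 1 := Subtype.ext h
    rw [this, orderOf_one] at hx
    omega
  have hM : f.mapMatrix X = !![f (X 0 0), f (X 0 1); f (X 1 0), f (X 1 1)] := by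
    ext i j
    fin_cases i <;> fin_cases j <;> simp
  have hdet : f (X 0 0) * f (X 1 1) - f (X 0 1) * f (X 1 0) = 1 := by
    have h1 : X.det = 1 := x.2
    rw [Matrix.det_fin_two] at h1
    rw [← map_mul, ← map_mul, ← map_sub, h1, map_one]
  have h3 : !![f (X 0 0), f (X 0 1); f (X 1 0), f (X 1 1)] ^ 3 = (1 : Matrix (Fin 2) (Fin 2) (ZMod 5)) := by
    rw [← hM, ← map_pow, hX3, map_one]
  have h1 : !![f (X 0 0), f (X 0 1); f (X 1 0), f (X 1 1)] ≠ (1 : Matrix (Fin 2) (Fin 2) (ZMod 5)) := by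
    rw [← hM]
    intro h
    apply hX1
    apply hfinj
    rw [h, map_one]
  obtain ⟨p, q, r, s, hdet', hrel⟩ := zmod5_conj _ _ _ _ hdet h3 h1
  have hGdet : (!![e p, e q; e r, e s] : Matrix (Fin 2) (Fin 2) K).det = 1 := by
    rw [Matrix.det_fin_two_of, ← map_mul, ← map_mul, ← map_sub, hdet', map_one]
  refine ⟨⟨!![e p, e q; e r, e s], hGdet⟩, ?_⟩
  apply Subtype.ext
  show X * !![e p, e q; e r, e s] * X = !![e p, e q; e r, e s]
  apply hfinj
  have hG : f.mapMatrix !![e p, e q; e r, e s] = !![p, q; r, s] := by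
    ext i j
    fin_cases i <;> fin_cases j <;> simp [f]
  rw [map_mul, map_mul, hG, hM]
  exact hrel



/-- kernel of a composition -/
lemma finrank_ker_comp_le {F V : Type*} [Field F] [AddCommGroup V] [Module F V] [FiniteDimensional F V]
    (f g : V →ₗ[F] V) :
    Module.finrank F (LinearMap.ker (f ∘ₗ g)) ≤ Module.finrank F (LinearMap.ker f) + Module.finrank F (LinearMap.ker g) := by
  set K := LinearMap.ker (f ∘ₗ g) with hK
  let h : K →ₗ[F] LinearMap.ker f :=
    (g.domRestrict K).codRestrict (LinearMap.ker f) (by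
      rintro ⟨z, hz⟩
      rw [LinearMap.mem_ker] at hz ⊢
      exact hz)
  have h1 := LinearMap.finrank_range_add_finrank_ker h
  have h2 : Module.finrank F (LinearMap.range h) ≤ Module.finrank F (LinearMap.ker f) :=
    Submodule.finrank_le _
  have h3 : Module.finrank F (LinearMap.ker h) ≤ Module.finrank F (LinearMap.ker g) := by
    let j : LinearMap.ker h →ₗ[F] LinearMap.ker g :=
      ((K.subtype).comp (LinearMap.ker h).subtype).codRestrict (LinearMap.ker g) (by
        rintro ⟨⟨z, hz⟩, hz2⟩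
        rw [LinearMap.mem_ker] at hz2 ⊢
        have := congrArg Subtype.val hz2
        exact this)
    apply LinearMap.finrank_le_finrank_of_injective (f := j)
    rintro ⟨⟨z, hz⟩, hz2⟩ ⟨⟨z', hz'⟩, hz2'⟩ heq
    have := congrArg Subtype.val heq
    apply Subtype.ext
    apply Subtype.ext
    exact this
  omega



section form
variable {F : Type*} [Field F]

/-- the alternating form -/
def B (v w : Fin 2 ⊕ Fin 2 → F) : F := v ⬝ᵥ (J (Fin 2) F *ᵥ w)

lemma B_apply (v w : Fin 2 ⊕ Fin 2 → F) :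
    B v w = ∑ i : Fin 2, (v (Sum.inr i) * w (Sum.inl i) - v (Sum.inl i) * w (Sum.inr i)) := by
  simp only [B, J, dotProduct, mulVec, Fintype.sum_sum_type, fromBlocks_apply₁₁, fromBlocks_apply₁₂,
    fromBlocks_apply₂₁, fromBlocks_apply₂₂, Matrix.zero_apply, Matrix.neg_apply, Matrix.one_apply,
    Fin.sum_univ_two]
  simp
  ring

lemma B_add_left (v v' w : Fin 2 ⊕ Fin 2 → F) : B (v + v') w = B v w + B v' w := by
  simp only [B, add_dotProduct]

lemma B_sub_left (v v' w : Fin 2 ⊕ Fin 2 → F) : B (v - v') w = B v w - B v' w := by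
  simp only [B, sub_dotProduct]

lemma B_smul_left (c : F) (v w : Fin 2 ⊕ Fin 2 → F) : B (c • v) w = c * B v w := by
  simp only [B, smul_dotProduct, smul_eq_mul]

lemma B_add_right (v w w' : Fin 2 ⊕ Fin 2 → F) : B v (w + w') = B v w + B v w' := by
  simp only [B, mulVec_add, dotProduct_add]

lemma B_smul_right (c : F) (v w : Fin 2 ⊕ Fin 2 → F) : B v (c • w) = c * B v w := by
  simp only [B, mulVec_smul, dotProduct_smul, smul_eq_mul]

lemma B_self (v : Fin 2 ⊕ Fin 2 → F) : B v v = 0 := by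
  rw [B_apply]
  apply Finset.sum_eq_zero
  intro i _
  ring

lemma B_swap (v w : Fin 2 ⊕ Fin 2 → F) : B v w = -B w v := by
  rw [B_apply, B_apply, ← Finset.sum_neg_distrib]
  apply Finset.sum_congr rfl
  intro i _
  ring

lemma B_nondeg (v : Fin 2 ⊕ Fin 2 → F) (h : ∀ w, B v w = 0) : v = 0 := by
  funext k
  rcases k with i | i
  · have := h (Pi.single (Sum.inr i) 1)
    rw [B_apply] at this
    simp [Pi.single_apply, Finset.sum_ite_eq'] at this
    simpa using this
  · have := h (Pi.single (Sum.inl i) 1)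
    rw [B_apply] at this
    simp [Pi.single_apply, Finset.sum_ite_eq'] at this
    simpa using this

lemma B_inv (u : Matrix (Fin 2 ⊕ Fin 2) (Fin 2 ⊕ Fin 2) F) (hu : u ∈ symplecticGroup (Fin 2) F)
    (v w : Fin 2 ⊕ Fin 2 → F) : B (u *ᵥ v) (u *ᵥ w) = B v w := by
  have h1 : uᵀ * J (Fin 2) F * u = J (Fin 2) F := SymplecticGroup.mem_iff'.1 hu
  unfold B
  rw [← vecMul_transpose, ← dotProduct_mulVec, mulVec_mulVec, mulVec_mulVec, h1]

end form



section main
variable {F : Type*} [Field F] [Fintype F]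

lemma three_eq_zero (hF : Fintype.card F = 3) : (3 : F) = 0 := by
  have := FiniteField.cast_card_eq_zero F
  rw [hF] at this
  exact_mod_cast this

lemma sq_cases (hF : Fintype.card F = 3) (c : F) : c = 0 ∨ c ^ 2 = 1 := by
  have h := FiniteField.pow_card c
  rw [hF] at h
  by_cases hc : c = 0
  · left; exact hc
  · right
    have : c * (c ^ 2 - 1) = 0 := by linear_combination h
    rcases mul_eq_zero.1 this with h1 | h1
    · exact absurd h1 hc
    · linear_combination h1

/-- the fixed space data -/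
theorem sp_main (hF : Fintype.card F = 3)
    (u G : Matrix (Fin 2 ⊕ Fin 2) (Fin 2 ⊕ Fin 2) F)
    (hu : u ∈ symplecticGroup (Fin 2) F) (hG : G ∈ symplecticGroup (Fin 2) F)
    (hu3 : u ^ 3 = 1) (hu1 : u ≠ 1) (hrel : u * G * u = G) :
    Module.finrank F ↥(LinearMap.ker (Matrix.toLin' u - LinearMap.id)) = 2 ∧
      ∀ v w : Fin 2 ⊕ Fin 2 → F, u *ᵥ v = v → u *ᵥ w = w →
        v ⬝ᵥ (J (Fin 2) F *ᵥ w) = 0 := by
  classical
  have h3 := three_eq_zero hF
  set N : (Fin 2 ⊕ Fin 2 → F) →ₗ[F] (Fin 2 ⊕ Fin 2 → F) := Matrix.toLin' u - LinearMap.id with hN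
  set W := LinearMap.ker N with hW
  have hNz : ∀ z, N z = u *ᵥ z - z := by
    intro z
    simp [hN]
  have hmemW : ∀ z, z ∈ W ↔ u *ᵥ z = z := by
    intro z
    rw [hW, LinearMap.mem_ker, hNz, sub_eq_zero]
  -- N^3 = 0
  have hN3 : N ∘ₗ (N ∘ₗ N) = 0 := by
    have : Fact (Nat.Prime 3) := ⟨by norm_num⟩
    have : CharP F 3 := charP_of_card_eq_prime hF
    have hc : (u - 1) ^ 3 = 0 := by
      rw [sub_pow_char_of_commute 3 (Commute.one_right u), hu3, one_pow, sub_self]
    have hNl : N = Matrix.toLin' (u - 1) := by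
      rw [hN, map_sub, Matrix.toLin'_one]
    rw [hNl, ← Matrix.toLin'_mul, ← Matrix.toLin'_mul, ← pow_two, ← pow_succ', hc, map_zero]
  have hV : Module.finrank F (Fin 2 ⊕ Fin 2 → F) = 4 := by
    rw [Module.finrank_fintype_fun_eq_card]
    rfl
  -- dim W ≥ 2
  have hge : 2 ≤ Module.finrank F W := by
    have h1 : Module.finrank F (LinearMap.ker (N ∘ₗ (N ∘ₗ N))) ≤
        Module.finrank F W + Module.finrank F (LinearMap.ker (N ∘ₗ N)) := finrank_ker_comp_le N (N ∘ₗ N)
    have h2 : Module.finrank F (LinearMap.ker (N ∘ₗ N)) ≤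
        Module.finrank F W + Module.finrank F W := finrank_ker_comp_le N N
    rw [hN3, LinearMap.ker_zero, finrank_top, hV] at h1
    omega
  -- exists non-fixed vector
  obtain ⟨z₀, hz₀⟩ : ∃ z₀, u *ᵥ z₀ ≠ z₀ := by
    by_contra hcon
    push Not at hcon
    apply hu1
    apply Matrix.toLin'.injective
    apply LinearMap.ext
    intro z
    rw [Matrix.toLin'_apply, hcon, Matrix.toLin'_one, LinearMap.id_apply]
  have hz₀W : z₀ ∉ W := by rw [hmemW]; exact hz₀
  -- range ⊥ kernel
  have hperp : ∀ z, ∀ w ∈ W, B (N z) w = 0 := by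
    intro z w hw
    rw [hmemW] at hw
    rw [hNz, B_sub_left]
    have := B_inv u hu z w
    rw [hw] at this
    rw [this, sub_self]
  have hle : Module.finrank F W ≤ 3 := by
    by_contra hcon
    push Not at hcon
    have h4 : Module.finrank F W = Module.finrank F (Fin 2 ⊕ Fin 2 → F) := by
      have := Submodule.finrank_le W
      omega
    have := Submodule.eq_top_of_finrank_eq h4
    apply hz₀W
    rw [this]
    exact Submodule.mem_top
  -- the quadratic-like invariant
  have hQG : ∀ z, B (u *ᵥ (G *ᵥ z)) (G *ᵥ z) = -B (u *ᵥ z) z := by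
    intro z
    have e1 : G *ᵥ z = u *ᵥ (G *ᵥ (u *ᵥ z)) := by
      rw [mulVec_mulVec, mulVec_mulVec, hrel]
    calc B (u *ᵥ (G *ᵥ z)) (G *ᵥ z) = B (u *ᵥ (G *ᵥ z)) (u *ᵥ (G *ᵥ (u *ᵥ z))) := by rw [← e1]
      _ = B (G *ᵥ z) (G *ᵥ (u *ᵥ z)) := B_inv u hu _ _
      _ = B z (u *ᵥ z) := B_inv G hG _ _
      _ = -B (u *ᵥ z) z := B_swap _ _
  have hne3 : Module.finrank F W ≠ 3 := by
    intro hW3
    -- decomposition
    have hdec : ∀ z, ∃ w ∈ W, ∃ c : F, z = w + c • z₀ := by
      have hlt : W < W ⊔ Submodule.span F {z₀} := Submodule.lt_sup_iff_notMem.2 hz₀W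
      have h4 := Submodule.finrank_lt_finrank_of_lt hlt
      have htop : W ⊔ Submodule.span F {z₀} = ⊤ := by
        apply Submodule.eq_top_of_finrank_eq
        have := Submodule.finrank_le (W ⊔ Submodule.span F {z₀})
        omega
      intro z
      have hz : z ∈ W ⊔ Submodule.span F {z₀} := by rw [htop]; exact Submodule.mem_top
      obtain ⟨w, hw, y, hy, hwy⟩ := Submodule.mem_sup.1 hz
      obtain ⟨c, hc⟩ := Submodule.mem_span_singleton.1 hy
      exact ⟨w, hw, c, by rw [hc, hwy]⟩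
    have hQ : ∀ w ∈ W, ∀ c : F, B (u *ᵥ (w + c • z₀)) (w + c • z₀) = c ^ 2 * B (u *ᵥ z₀) z₀ := by
      intro w hw c
      have hw' := (hmemW w).1 hw
      have e1 : B (u *ᵥ z₀) w = B z₀ w := by
        have := B_inv u hu z₀ w
        rw [hw'] at this
        exact this
      rw [mulVec_add, mulVec_smul, hw', B_add_left, B_add_right, B_add_right, B_smul_left, B_smul_left,
        B_smul_right, B_smul_right, B_self, e1, B_swap z₀ w]
      ring
    have hβ : B (u *ᵥ z₀) z₀ ≠ 0 := by
      intro h0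
      apply hz₀
      rw [← sub_eq_zero]
      apply B_nondeg
      intro z
      obtain ⟨w, hw, c, rfl⟩ := hdec z
      have := hperp z₀ w hw
      rw [hNz] at this
      rw [B_add_right, this, B_smul_right, B_sub_left, h0, B_self]
      ring
    obtain ⟨w, hw, c, hc⟩ := hdec (G *ᵥ z₀)
    have h1 := hQG z₀
    rw [hc, hQ w hw c] at h1
    have h2 : (c ^ 2 + 1) * B (u *ᵥ z₀) z₀ = 0 := by linear_combination h1
    rcases mul_eq_zero.1 h2 with h5 | h5
    · rcases sq_cases hF c with h6 | h6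
      · rw [h6] at h5
        norm_num at h5
      · rw [h6] at h5
        have : (1 : F) = 0 := by linear_combination h3 - h5
        exact one_ne_zero this
    · exact hβ h5
  have hW2 : Module.finrank F W = 2 := by omega
  refine ⟨hW2, ?_⟩
  intro v w hv hw
  show B v w = 0
  by_contra hne
  have hvW : v ∈ W := (hmemW v).2 hv
  have hwW : w ∈ W := (hmemW w).2 hw
  have hB0 : ∀ y : Fin 2 ⊕ Fin 2 → F, B 0 y = 0 := by
    intro y
    simp [B]
  obtain ⟨a, ha0, haW, haR⟩ : ∃ a, a ≠ 0 ∧ a ∈ W ∧ ∀ y ∈ W, B a y = 0 := by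
    have hNz0 : N z₀ ≠ 0 := by rw [hNz, sub_ne_zero]; exact hz₀
    by_cases h1 : N (N z₀) = 0
    · exact ⟨N z₀, hNz0, by rw [hW, LinearMap.mem_ker]; exact h1, fun y hy => hperp z₀ y hy⟩
    · refine ⟨N (N z₀), h1, ?_, fun y hy => hperp (N z₀) y hy⟩
      rw [hW, LinearMap.mem_ker]
      have := LinearMap.congr_fun hN3 z₀
      simpa using this
  have hli : LinearIndependent F ![v, w] := by
    rw [LinearIndependent.pair_iff]
    intro s t hst
    have e1 : s * B v w = 0 := by
      have := congrArg (fun y => B y w) hst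
      simp only [B_add_left, B_smul_left, B_self, mul_zero, add_zero, hB0] at this
      exact this
    have e2 : t * B v w = 0 := by
      have := congrArg (fun y => B y v) hst
      simp only [B_add_left, B_smul_left, B_self, mul_zero, zero_add, hB0] at this
      rw [B_swap w v] at this
      linear_combination -this
    exact ⟨(mul_eq_zero.1 e1).resolve_right hne, (mul_eq_zero.1 e2).resolve_right hne⟩
  have hspan : Submodule.span F (Set.range ![v, w]) = W := by
    apply Submodule.eq_of_le_of_finrank_eq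
    · rw [Submodule.span_le]
      rintro _ ⟨i, rfl⟩
      fin_cases i
      · exact hvW
      · exact hwW
    · rw [finrank_span_eq_card hli, hW2]
      rfl
  have ha : a ∈ Submodule.span F (Set.range ![v, w]) := by rw [hspan]; exact haW
  obtain ⟨c, hc⟩ := (Submodule.mem_span_range_iff_exists_fun F).1 ha
  rw [Fin.sum_univ_two] at hc
  simp only [Matrix.cons_val_zero, Matrix.cons_val_one] at hc
  have e1 : c 0 * B v w = 0 := by
    have := haR w hwW
    rw [← hc, B_add_left, B_smul_left, B_smul_left, B_self, mul_zero, add_zero] at this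
    exact this
  have e2 : c 1 * B v w = 0 := by
    have := haR v hvW
    rw [← hc, B_add_left, B_smul_left, B_smul_left, B_self, mul_zero, zero_add, B_swap w v] at this
    linear_combination -this
  apply ha0
  rw [← hc, (mul_eq_zero.1 e1).resolve_right hne, (mul_eq_zero.1 e2).resolve_right hne]
  simp

end main


theorem S3213_main {F : Type*} [Field F] [Fintype F] (hF : Fintype.card F = 3)
    {K : Type*} [Field K] [Fintype K] (hK : Fintype.card K = 5)
    (φ : Matrix.SpecialLinearGroup (Fin 2) K →* ↥(Matrix.symplecticGroup (Fin 2) F)) (hφ : Function.Injective φ)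
    (x : Matrix.SpecialLinearGroup (Fin 2) K) (hx : orderOf x = 3) :
    Module.finrank F ↥(LinearMap.ker (Matrix.toLin' ((φ x : Matrix (Fin 2 ⊕ Fin 2) (Fin 2 ⊕ Fin 2) F)) - LinearMap.id)) = 2 ∧
      ∀ v w : Fin 2 ⊕ Fin 2 → F, (φ x : Matrix (Fin 2 ⊕ Fin 2) (Fin 2 ⊕ Fin 2) F).mulVec v = v →
        (φ x : Matrix (Fin 2 ⊕ Fin 2) (Fin 2 ⊕ Fin 2) F).mulVec w = w →
          dotProduct v ((Matrix.J (Fin 2) F).mulVec w) = 0 := by
  obtain ⟨g, hg⟩ := exists_conj_inv hK x hx
  have hu3 : ((φ x : Matrix (Fin 2 ⊕ Fin 2) (Fin 2 ⊕ Fin 2) F)) ^ 3 = 1 := by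
    have h1 : (φ x) ^ 3 = 1 := by rw [← map_pow, ← hx, pow_orderOf_eq_one, map_one]
    have h2 := congrArg Subtype.val h1
    simpa using h2
  have hu1 : (φ x : Matrix (Fin 2 ⊕ Fin 2) (Fin 2 ⊕ Fin 2) F) ≠ 1 := by
    intro h
    have h1 : φ x = 1 := Subtype.ext h
    rw [← map_one φ] at h1
    have h2 := hφ h1
    rw [h2, orderOf_one] at hx
    omega
  have hrel : (φ x : Matrix (Fin 2 ⊕ Fin 2) (Fin 2 ⊕ Fin 2) F) * (φ g : Matrix (Fin 2 ⊕ Fin 2) (Fin 2 ⊕ Fin 2) F)
      * (φ x : Matrix (Fin 2 ⊕ Fin 2) (Fin 2 ⊕ Fin 2) F) = (φ g : Matrix (Fin 2 ⊕ Fin 2) (Fin 2 ⊕ Fin 2) F) := by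
    have h1 : φ x * φ g * φ x = φ g := by rw [← map_mul, ← map_mul, hg]
    exact congrArg Subtype.val h1
  exact sp_main hF _ _ (φ x).2 (φ g).2 hu3 hu1 hrel

end Cfsg.Agent.Lib.Helper4_SL25Sp43
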