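import Mathlib

namespace Cfsg.Agent.Lib.Helper4_SL2Char2

open Matrix

variable {F : Type*} [Field F] [Fintype F] [CharP F 2]

theorem entries (A : Matrix.SpecialLinearGroup (Fin 2) F) :
    A.val = !![A.val 0 0, A.val 0 1; A.val 1 0, A.val 1 1] ∧
      A.val 0 0 * A.val 1 1 - A.val 0 1 * A.val 1 0 = 1 := by
  refine ⟨Matrix.eta_fin_two A.val, ?_⟩
  have := A.det_coe
  rw [Matrix.det_fin_two] at this
  exact this

theorem sq_eq_zero' (x : F) (h : x * x = 0) : x = 0 := mul_self_eq_zero.mp h

theorem order_two_iff (A : Matrix.SpecialLinearGroup (Fin 2) F) :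
    orderOf A = 2 ↔ (A.val 0 0 = A.val 1 1 ∧ A ≠ 1) := by
  haveI : Fact (Nat.Prime 2) := ⟨Nat.prime_two⟩
  rw [orderOf_eq_prime_iff]
  obtain ⟨heta, hdet⟩ := entries A
  set a := A.val 0 0 with ha
  set b := A.val 0 1 with hb
  set c := A.val 1 0 with hc
  set d := A.val 1 1 with hd
  have h2 : (2 : F) = 0 := CharTwo.two_eq_zero
  have hsq : (A ^ 2).val = !![a * a + b * c, a * b + b * d; c * a + d * c, c * b + d * d] := by
    rw [pow_two, Matrix.SpecialLinearGroup.coe_mul, heta, Matrix.mul_fin_two]
  have hone : (1 : Matrix (Fin 2) (Fin 2) F) = !![1, 0; 0, 1] := by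
    ext i j; fin_cases i <;> fin_cases j <;> simp
  constructor
  · rintro ⟨h1, hne⟩
    refine ⟨?_, hne⟩
    have h1' := congrArg Subtype.val h1
    rw [hsq, Matrix.SpecialLinearGroup.coe_one, hone] at h1'
    have e00 : a * a + b * c = 1 := by
      have := congrFun (congrFun h1' 0) 0; simpa using this
    have e01 : a * b + b * d = 0 := by
      have := congrFun (congrFun h1' 0) 1; simpa using this
    have e10 : c * a + d * c = 0 := by
      have := congrFun (congrFun h1' 1) 0; simpa using this
    have e11 : c * b + d * d = 1 := by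
      have := congrFun (congrFun h1' 1) 1; simpa using this
    by_contra hne'
    have hsum : a + d ≠ 0 := by
      intro h
      apply hne'
      have : a = -d := eq_neg_of_add_eq_zero_left h
      rw [this, CharTwo.neg_eq]
    have hb0 : b = 0 := by
      have : b * (a + d) = 0 := by linear_combination e01
      rcases mul_eq_zero.mp this with h | h
      · exact h
      · exact absurd h hsum
    have hc0 : c = 0 := by
      have : c * (a + d) = 0 := by linear_combination e10
      rcases mul_eq_zero.mp this with h | h
      · exact h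
      · exact absurd h hsum
    have ha1 : a = 1 := by
      have : (a - 1) * (a - 1) = 0 := by
        rw [hb0, zero_mul, add_zero] at e00
        linear_combination e00 - a * h2 + h2
      have := sq_eq_zero' _ this
      linear_combination this
    have hd1 : d = 1 := by
      have : (d - 1) * (d - 1) = 0 := by
        rw [hb0, mul_zero, zero_add] at e11
        linear_combination e11 - d * h2 + h2
      have := sq_eq_zero' _ this
      linear_combination this
    exact hne' (by rw [ha1, hd1])
  · rintro ⟨had, hne⟩
    refine ⟨?_, hne⟩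
    apply Subtype.ext
    rw [hsq, Matrix.SpecialLinearGroup.coe_one, hone, ← had]
    have e1 : a * a + b * c = 1 := by
      rw [← had] at hdet
      linear_combination hdet + b * c * h2
    have e2 : a * b + b * a = 0 := by linear_combination a * b * h2
    have e3 : c * a + a * c = 0 := by linear_combination a * c * h2
    have e4 : c * b + a * a = 1 := by linear_combination e1
    rw [e1, e2, e3, e4]

theorem conj_J (A : Matrix.SpecialLinearGroup (Fin 2) F) (hA : orderOf A = 2) :
    IsConj A (⟨!![(1:F),1;0,1], by simp [det_fin_two]⟩ : Matrix.SpecialLinearGroup (Fin 2) F) := by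
  set J : Matrix.SpecialLinearGroup (Fin 2) F := ⟨!![(1:F),1;0,1], by simp [det_fin_two]⟩ with hJ
  obtain ⟨had, hne⟩ := (order_two_iff A).mp hA
  obtain ⟨heta, hdet⟩ := entries A
  set a := A.val 0 0 with ha
  set b := A.val 0 1 with hb
  set c := A.val 1 0 with hc
  set d := A.val 1 1 with hd
  have h2 : (2 : F) = 0 := CharTwo.two_eq_zero
  rw [← had] at hdet heta
  rw [isConj_iff]
  by_cases hc0 : c = 0
  · have ha1 : a = 1 := by
      have : (a - 1) * (a - 1) = 0 := by
        rw [hc0, mul_zero, sub_zero] at hdet
        linear_combination hdet - a * h2 + h2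
      have := sq_eq_zero' _ this
      linear_combination this
    have hb0 : b ≠ 0 := by
      intro hb0
      apply hne
      apply Subtype.ext
      rw [heta, ha1, hb0, hc0, Matrix.SpecialLinearGroup.coe_one]
      ext i j; fin_cases i <;> fin_cases j <;> simp
    obtain ⟨l, hl⟩ := isSquare_of_charTwo' (b⁻¹)
    have hl' : l * l * b = 1 := by rw [← hl]; exact inv_mul_cancel₀ hb0
    set P : Matrix.SpecialLinearGroup (Fin 2) F := ⟨!![l * b, 0; 0, l], by
      rw [det_fin_two_of]; linear_combination hl'⟩ with hP
    refine ⟨P⁻¹, ?_⟩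
    rw [inv_inv, mul_assoc, inv_mul_eq_iff_eq_mul]
    apply Subtype.ext
    rw [Matrix.SpecialLinearGroup.coe_mul, Matrix.SpecialLinearGroup.coe_mul, heta, ha1, hc0]
    show !![(1:F), b; 0, 1] * !![l * b, 0; 0, l] = !![l * b, 0; 0, l] * !![(1:F), 1; 0, 1]
    rw [Matrix.mul_fin_two, Matrix.mul_fin_two]
    ext i j; fin_cases i <;> fin_cases j <;> simp [mul_comm]
  · obtain ⟨l, hl⟩ := isSquare_of_charTwo' (c⁻¹)
    have hl' : l * l * c = 1 := by rw [← hl]; exact inv_mul_cancel₀ hc0
    set x := a - 1 with hx
    have hxa : a = x + 1 := by rw [hx]; ring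
    have hxx : x * x + b * c = 0 := by
      rw [hx]
      linear_combination hdet + (1 + b * c - a) * h2
    set P : Matrix.SpecialLinearGroup (Fin 2) F := ⟨!![l * x, l; l * c, 0], by
      rw [det_fin_two_of]
      linear_combination hl' - l * l * c * h2⟩ with hP
    refine ⟨P⁻¹, ?_⟩
    rw [inv_inv, mul_assoc, inv_mul_eq_iff_eq_mul]
    apply Subtype.ext
    rw [Matrix.SpecialLinearGroup.coe_mul, Matrix.SpecialLinearGroup.coe_mul, heta]
    show !![a, b; c, a] * !![l * x, l; l * c, 0] = !![l * x, l; l * c, 0] * !![(1:F), 1; 0, 1]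
    rw [Matrix.mul_fin_two, Matrix.mul_fin_two]
    have e1 : a * (l * x) + b * (l * c) = l * x := by
      rw [hxa]; linear_combination l * hxx
    have e2 : c * (l * x) + a * (l * c) = l * c := by
      rw [hxa]; linear_combination l * c * x * h2
    have e3 : a * l = l * x + l := by rw [hxa]; ring
    ext i j; fin_cases i <;> fin_cases j <;> simp <;>
      first | linear_combination e1 | linear_combination e2 | linear_combination e3 | ring

theorem card_order_two :
    Nat.card {A : Matrix.SpecialLinearGroup (Fin 2) F // orderOf A = 2} = Fintype.card F ^ 2 - 1 := by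
  classical
  have h2 : (2 : F) = 0 := CharTwo.two_eq_zero
  let f : {A : Matrix.SpecialLinearGroup (Fin 2) F // orderOf A = 2} →
      {v : F × F | v ≠ 0} := fun A => ⟨(A.1.val 0 1, A.1.val 1 0), by
    obtain ⟨had, hne⟩ := (order_two_iff A.1).mp A.2
    obtain ⟨heta, hdet⟩ := entries A.1
    intro h0
    have hb : A.1.val 0 1 = 0 := congrArg Prod.fst h0
    have hc : A.1.val 1 0 = 0 := congrArg Prod.snd h0
    apply hne
    apply Subtype.ext
    rw [← had, hb, hc] at heta
    rw [← had, hb, zero_mul, sub_zero] at hdet
    have ha1 : A.1.val 0 0 = 1 := by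
      have : (A.1.val 0 0 - 1) * (A.1.val 0 0 - 1) = 0 := by
        linear_combination hdet - A.1.val 0 0 * h2 + h2
      have := sq_eq_zero' _ this
      linear_combination this
    rw [heta, ha1, Matrix.SpecialLinearGroup.coe_one]
    ext i j; fin_cases i <;> fin_cases j <;> simp⟩
  have hf : Function.Bijective f := by
    constructor
    · rintro ⟨A, hA⟩ ⟨B, hB⟩ hAB
      have hAB' := congrArg Subtype.val hAB
      have hb : A.val 0 1 = B.val 0 1 := congrArg Prod.fst hAB'
      have hc : A.val 1 0 = B.val 1 0 := congrArg Prod.snd hAB'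
      obtain ⟨hadA, -⟩ := (order_two_iff A).mp hA
      obtain ⟨hadB, -⟩ := (order_two_iff B).mp hB
      obtain ⟨hetaA, hdetA⟩ := entries A
      obtain ⟨hetaB, hdetB⟩ := entries B
      rw [← hadA] at hdetA hetaA
      rw [← hadB] at hdetB hetaB
      have haa : A.val 0 0 = B.val 0 0 := by
        have : (A.val 0 0 - B.val 0 0) * (A.val 0 0 - B.val 0 0) = 0 := by
          rw [hb, hc] at hdetA
          linear_combination hdetA - hdetB - A.val 0 0 * B.val 0 0 * h2 + B.val 0 0 * B.val 0 0 * h2
        have := sq_eq_zero' _ this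
        linear_combination this
      apply Subtype.ext
      apply Subtype.ext
      rw [hetaA, hetaB, haa, hb, hc]
    · rintro ⟨⟨b, c⟩, hv⟩
      obtain ⟨r, hr⟩ := isSquare_of_charTwo' (b * c)
      set A : Matrix.SpecialLinearGroup (Fin 2) F := ⟨!![1 + r, b; c, 1 + r], by
        rw [det_fin_two_of]
        linear_combination r * h2 - hr⟩ with hA
      have hAo : orderOf A = 2 := by
        rw [order_two_iff]
        refine ⟨rfl, ?_⟩
        intro h1
        apply hv
        have h1' := congrArg Subtype.val h1
        rw [Matrix.SpecialLinearGroup.coe_one] at h1'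
        have e1 : b = 0 := by
          have := congrFun (congrFun h1' 0) 1
          simpa [hA] using this
        have e2 : c = 0 := by
          have := congrFun (congrFun h1' 1) 0
          simpa [hA] using this
        rw [e1, e2]; rfl
      refine ⟨⟨A, hAo⟩, ?_⟩
      apply Subtype.ext
      rfl
  rw [Nat.card_eq_of_bijective f hf, Nat.card_eq_fintype_card, Set.card_ne_eq, Fintype.card_prod,
    pow_two]

theorem involutions (g h : Matrix.SpecialLinearGroup (Fin 2) F) (hg : orderOf g = 2)
    (hh : orderOf h = 2) :
    IsConj g h ∧ Nat.card (ConjClasses.mk g).carrier = Fintype.card F ^ 2 - 1 := by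
  have hgh : IsConj g h := (conj_J g hg).trans (conj_J h hh).symm
  refine ⟨hgh, ?_⟩
  rw [← card_order_two (F := F)]
  apply Nat.card_congr
  apply Equiv.subtypeEquivRight
  intro a
  rw [ConjClasses.mem_carrier_iff_mk_eq, ConjClasses.mk_eq_mk_iff_isConj]
  constructor
  · intro h1
    obtain ⟨c, hc⟩ := isConj_iff.mp h1
    have := MulEquiv.orderOf_eq (MulAut.conj c) a
    rw [MulAut.conj_apply, hc] at this
    rw [← this]; exact hg
  · intro h1
    exact (conj_J a h1).trans (conj_J g hg).symm

end Cfsg.Agent.Lib.Helper4_SL2Char2
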