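import Mathlib
import Cfsg.Prelude.Def_Characters
import Cfsg.Prelude.Def_ParabolicCharacters
import Cfsg.Agent.Lib.Helper2_ClassFn
import Cfsg.Agent.Lib.Helper2_CharOrtho
import Cfsg.Agent.Lib.Helper2_CharBasic
import Cfsg.Agent.Lib.Helper2_CharInd
import Cfsg.Agent.Lib.Helper4_MulCharDual
import Cfsg.Agent.Lib.Helper4_SL2Fam
import Cfsg.Agent.Lib.Helper4_GL2Count
import Cfsg.Agent.Lib.Helper4_GL2Cusp
import Cfsg.Agent.Lib.Helper4_SL2Res
import Cfsg.Agent.Lib.Helper4_IrrCount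
import Cfsg.Agent.Lib.Helper4_SL2Count
import Cfsg.Agent.Lib.Helper4_SL2Even
import Cfsg.Agent.Lib.Helper4_SL2OddChars
import Cfsg.Agent.Lib.Helper4_SL2Values

namespace Cfsg.Agent.Lib.Helper4_SL2SumU
open Matrix Cfsg Cfsg.Agent.Lib.Helper2_ClassFn Cfsg.Agent.Lib.Helper2_CharOrtho
  Cfsg.Agent.Lib.Helper2_CharBasic
  Cfsg.Agent.Lib.Helper4_MulCharDual Cfsg.Agent.Lib.Helper4_SL2Fam
  Cfsg.Agent.Lib.Helper4_GL2Count Cfsg.Agent.Lib.Helper4_SL2Res Cfsg.Agent.Lib.Helper4_IrrCount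
  Cfsg.Agent.Lib.Helper4_SL2Count Cfsg.Agent.Lib.Helper4_SL2Even Cfsg.Agent.Lib.Helper4_SL2OddChars
  Cfsg.Agent.Lib.Helper4_BorelInd Cfsg.Agent.Lib.Helper4_BorelIndGL Cfsg.Agent.Lib.Helper4_GL2Cusp
  Cfsg.Agent.Lib.Helper4_SL2Borel Cfsg.Agent.Lib.Helper4_BorelInner Cfsg.Agent.Lib.Helper4_SL2Values
open scoped ComplexConjugate

variable {F : Type*} [Field F] [Fintype F] [DecidableEq F]

/-- Frobenius reciprocity for the principal series, written out -/
theorem inner_Rs_sum (χ : Matrix.SpecialLinearGroup (Fin 2) F → ℂ)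
    (hχ : IsClassFunction (Matrix.SpecialLinearGroup (Fin 2) F) χ) (α : MulChar F ℂ) :
    (Nat.card (Bor F) : ℂ) * classInner χ (Rs α) =
      ∑ a : Fˣ, (∑ x : F, χ (T0 a x)) * conj (α (a : F)) := by
  letI : Fintype (Bor F) := Fintype.ofFinite _
  have hB : (Nat.card (Bor F) : ℂ) ≠ 0 := card_subgroup_ne_zero (Bor F)
  rw [Rs, frobenius_reciprocity' (Bor F) _ _ hχ, classInner_def, ← mul_assoc,
    mul_inv_cancel₀ hB, one_mul]
  rw [← Fintype.sum_bijective _ (T_bijective (F := F)) (fun p : Fˣ × F =>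
      χ (T0 p.1 p.2) * conj (α (p.1 : F))) _
      (fun p => by
        show χ (T0 p.1 p.2) * conj (α (p.1 : F)) =
          χ ((T p.1 p.2 : Bor F) : Matrix.SpecialLinearGroup (Fin 2) F) *
          conj (α ((((T p.1 p.2 : Bor F) : Matrix.SpecialLinearGroup (Fin 2) F) :
            Matrix (Fin 2) (Fin 2) F) 0 0))
        rw [T_val]
        simp
        left; rfl), Fintype.sum_prod_type]
  refine Finset.sum_congr rfl fun a _ => ?_
  rw [Finset.sum_mul]

theorem sum_conj_mulChar (a : Fˣ) [Decidable (a = 1)] :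
    ∑ α : MulChar F ℂ, conj (α (a : F)) = if a = 1 then ((Fintype.card F : ℂ) - 1) else 0 := by
  have h := sum_mulChar_units (F := F) 1 a
  simp only [Units.val_one, map_one, one_mul] at h
  rw [h]
  by_cases ha : a = 1
  · rw [if_pos ha, if_pos ha.symm]
  · rw [if_neg ha, if_neg (fun h => ha h.symm)]

theorem sumU_formula (χ : Matrix.SpecialLinearGroup (Fin 2) F → ℂ)
    (hχ : IsClassFunction (Matrix.SpecialLinearGroup (Fin 2) F) χ) :
    ∑ x : F, χ (T0 1 x) = (Fintype.card F : ℂ) * ∑ α : MulChar F ℂ, classInner χ (Rs α) := by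
  classical
  have h1 : ∑ α : MulChar F ℂ, (Nat.card (Bor F) : ℂ) * classInner χ (Rs α) =
      ((Fintype.card F : ℂ) - 1) * ∑ x : F, χ (T0 1 x) := by
    simp only [inner_Rs_sum χ hχ]
    rw [Finset.sum_comm]
    simp only [← Finset.mul_sum, sum_conj_mulChar]
    rw [Finset.sum_eq_single (1 : Fˣ)]
    · rw [if_pos rfl, mul_comm]
    · intro a _ ha
      rw [if_neg ha, mul_zero]
    · intro h; exact absurd (Finset.mem_univ _) h
  rw [← Finset.mul_sum, card_Bor] at h1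
  have hq : 1 < Fintype.card F := Fintype.one_lt_card
  have hne : (Fintype.card F : ℂ) - 1 ≠ 0 := by
    rw [sub_ne_zero]
    intro h'
    have : Fintype.card F = 1 := by exact_mod_cast h'
    omega
  apply mul_left_cancel₀ hne
  rw [← h1]
  ring

omit [Fintype F] [DecidableEq F] in
theorem T0_one_zero : (T0 1 0 : Matrix.SpecialLinearGroup (Fin 2) F) = 1 := by
  apply Subtype.ext
  simp [T0, Matrix.one_fin_two]

theorem sumU_Rs (β : MulChar F ℂ) : ∑ x : F, Rs β (T0 1 x) = 2 * (Fintype.card F : ℂ) := by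
  rw [← Finset.add_sum_erase Finset.univ _ (Finset.mem_univ (0 : F))]
  have : ∀ x ∈ Finset.univ.erase (0 : F), Rs β (T0 1 x) = 1 := by
    intro x hx
    have hx0 := Finset.ne_of_mem_erase hx
    rw [Rs_apply, bsum_unip _ _ (by simp [T0]) (by simp [T0]) (by simpa [T0] using hx0)]
    simp [T0]
  rw [Finset.sum_congr rfl this, Finset.sum_const, Finset.card_erase_of_mem (Finset.mem_univ _),
    Finset.card_univ, nsmul_eq_mul, Nat.cast_sub Fintype.card_pos, T0_one_zero, Rs_one]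
  push_cast
  ring

theorem sumU_StS : ∑ x : F, StS (T0 1 x) = (Fintype.card F : ℂ) := by
  unfold StS
  simp only [Pi.sub_apply, Finset.sum_sub_distrib, sumU_Rs, trivS, Finset.sum_const,
    Finset.card_univ, nsmul_eq_mul, mul_one]
  ring

theorem sumU_half {α₀ : MulChar F ℂ} {μ₀ ν₀ : Matrix.SpecialLinearGroup (Fin 2) F → ℂ}
    {x : Matrix.GeneralLinearGroup (Fin 2) F} (D : IsHalf α₀ μ₀ ν₀ x) :
    ∑ y : F, μ₀ (T0 1 y) = (Fintype.card F : ℂ) ∧ ∑ y : F, ν₀ (T0 1 y) = (Fintype.card F : ℂ) := by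
  classical
  have hinv : α₀⁻¹ = α₀ := by
    have := D.sq
    rw [pow_two, mul_eq_one_iff_eq_inv] at this
    exact this.symm
  have key : ∀ α : MulChar F ℂ, classInner μ₀ (Rs α) = (if α = α₀ then 1 else 0) ∧
      classInner ν₀ (Rs α) = (if α = α₀ then 1 else 0) := by
    intro α
    by_cases hα : α = α₀
    · rw [if_pos hα, hα, D.sum, classInner_add_right, classInner_add_right,
        classInner_irr_self D.irrμ, classInner_irr_self D.irrν,
        classInner_irr_of_ne D.irrμ D.irrν D.ne, classInner_irr_of_ne D.irrν D.irrμ D.ne.symm]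
      simp
    · rw [if_neg hα]
      obtain ⟨n₁, hn₁⟩ := IsCharacter.classInner_irr_nat (Rs_char α) D.irrμ
      obtain ⟨n₂, hn₂⟩ := IsCharacter.classInner_irr_nat (Rs_char α) D.irrν
      have h0 := Rs_inner α α₀
      rw [hinv, if_neg hα, D.sum, classInner_add_right, hn₁, hn₂] at h0
      have h0' : n₁ + n₂ = 0 := by
        have : ((n₁ + n₂ : ℕ) : ℂ) = 0 := by push_cast; rw [h0]; simp
        exact_mod_cast this
      have e1 : n₁ = 0 := by omega
      have e2 : n₂ = 0 := by omega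
      rw [e1] at hn₁
      rw [e2] at hn₂
      constructor
      · rw [← classInner_conj_symm, hn₁]; simp
      · rw [← classInner_conj_symm, hn₂]; simp
  constructor
  · rw [sumU_formula μ₀ (IsCharacter.isClassFunction (IsIrrCharacter.isCharacter D.irrμ))]
    simp only [(key _).1]
    simp
  · rw [sumU_formula ν₀ (IsCharacter.isClassFunction (IsIrrCharacter.isCharacter D.irrν))]
    simp only [(key _).2]
    simp

omit [Fintype F] [DecidableEq F] in
theorem T0_one_inj : Function.Injective (fun x : F => (T0 1 x : Matrix.SpecialLinearGroup (Fin 2) F)) := by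
  intro x y h
  have h' := congrArg (fun g : Matrix.SpecialLinearGroup (Fin 2) F =>
    (g : Matrix (Fin 2) (Fin 2) F) 0 1) h
  simpa [T0] using h'

theorem sum_unitri (χ : Matrix.SpecialLinearGroup (Fin 2) F → ℂ) :
    (∑ g : Matrix.SpecialLinearGroup (Fin 2) F, if (g : Matrix (Fin 2) (Fin 2) F) 1 0 = 0 ∧ (g : Matrix (Fin 2) (Fin 2) F) 0 0 = 1 ∧ (g : Matrix (Fin 2) (Fin 2) F) 1 1 = 1 then χ g else 0) =
      ∑ x : F, χ (T0 1 x) := by
  classical
  rw [← Finset.sum_filter]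
  have : (Finset.univ.filter (fun g : Matrix.SpecialLinearGroup (Fin 2) F =>
      (g : Matrix (Fin 2) (Fin 2) F) 1 0 = 0 ∧ (g : Matrix (Fin 2) (Fin 2) F) 0 0 = 1 ∧
      (g : Matrix (Fin 2) (Fin 2) F) 1 1 = 1)) =
      Finset.univ.image (fun x : F => (T0 1 x : Matrix.SpecialLinearGroup (Fin 2) F)) := by
    ext g
    rw [Finset.mem_filter, Finset.mem_image]
    constructor
    · rintro ⟨-, h10, h00, h11⟩
      refine ⟨(g : Matrix (Fin 2) (Fin 2) F) 0 1, Finset.mem_univ _, ?_⟩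
      apply Subtype.ext
      ext i j
      fin_cases i <;> fin_cases j <;> simp [T0, h10, h00, h11]
    · rintro ⟨x, -, rfl⟩
      refine ⟨Finset.mem_univ _, ?_, ?_, ?_⟩ <;> simp [T0]
  rw [this, Finset.sum_image (fun x _ y _ h => T0_one_inj h)]

theorem S2438_main (hodd : Odd (Fintype.card F)) (hq : 5 ≤ Fintype.card F)
    (χ : Matrix.SpecialLinearGroup (Fin 2) F → ℂ) (hχ : Cfsg.IsIrrCharacter (Matrix.SpecialLinearGroup (Fin 2) F) χ) :
    (χ 1 = (Fintype.card F : ℂ) + 1 →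
      (∑ g : Matrix.SpecialLinearGroup (Fin 2) F, if (g : Matrix (Fin 2) (Fin 2) F) 1 0 = 0 ∧ (g : Matrix (Fin 2) (Fin 2) F) 0 0 = 1 ∧ (g : Matrix (Fin 2) (Fin 2) F) 1 1 = 1 then χ g else 0) = 2 * (Fintype.card F : ℂ)) ∧
    (χ 1 = (Fintype.card F : ℂ) →
      (∑ g : Matrix.SpecialLinearGroup (Fin 2) F, if (g : Matrix (Fin 2) (Fin 2) F) 1 0 = 0 ∧ (g : Matrix (Fin 2) (Fin 2) F) 0 0 = 1 ∧ (g : Matrix (Fin 2) (Fin 2) F) 1 1 = 1 then χ g else 0) = (Fintype.card F : ℂ)) ∧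
    (χ 1 = (Fintype.card F : ℂ) - 1 →
      (∑ g : Matrix.SpecialLinearGroup (Fin 2) F, if (g : Matrix (Fin 2) (Fin 2) F) 1 0 = 0 ∧ (g : Matrix (Fin 2) (Fin 2) F) 0 0 = 1 ∧ (g : Matrix (Fin 2) (Fin 2) F) 1 1 = 1 then χ g else 0) = 0) ∧
    (χ 1 = (((Fintype.card F + 1) / 2 : ℕ) : ℂ) →
      (∑ g : Matrix.SpecialLinearGroup (Fin 2) F, if (g : Matrix (Fin 2) (Fin 2) F) 1 0 = 0 ∧ (g : Matrix (Fin 2) (Fin 2) F) 0 0 = 1 ∧ (g : Matrix (Fin 2) (Fin 2) F) 1 1 = 1 then χ g else 0) = (Fintype.card F : ℂ)) ∧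
    (χ 1 = (((Fintype.card F - 1) / 2 : ℕ) : ℂ) →
      (∑ g : Matrix.SpecialLinearGroup (Fin 2) F, if (g : Matrix (Fin 2) (Fin 2) F) 1 0 = 0 ∧ (g : Matrix (Fin 2) (Fin 2) F) 0 0 = 1 ∧ (g : Matrix (Fin 2) (Fin 2) F) 1 1 = 1 then χ g else 0) = 0) := by
  have e1 : ((Fintype.card F : ℂ) + 1) = ((Fintype.card F + 1 : ℕ) : ℂ) := by push_cast; ring
  have e2 : ((Fintype.card F : ℂ) - 1) = ((Fintype.card F - 1 : ℕ) : ℂ) := by
    rw [Nat.cast_sub Fintype.card_pos]; simp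
  obtain ⟨α₀, μ₀, ν₀, x, D⟩ := exists_half hodd
  obtain ⟨m, hm⟩ := hodd
  have hcl := IsCharacter.isClassFunction (IsIrrCharacter.isCharacter hχ)
  rw [sum_unitri, e1, e2]
  refine ⟨?_, ?_, ?_, ?_, ?_⟩
  · intro hdeg
    rcases casesO D χ hχ with ⟨-, h⟩ | ⟨-, h⟩ | ⟨h, -⟩ | ⟨-, h⟩ | ⟨-, h, -⟩ | ⟨-, h⟩
    · have := nat_of_degO hdeg h; omega
    · have := nat_of_degO hdeg h; omega
    · obtain ⟨α, -, rfl⟩ := (mem_Pset χ).mp h
      exact sumU_Rs α
    · have := nat_of_degO hdeg h; omega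
    · have := nat_of_degO hdeg h; omega
    · have := nat_of_degO hdeg h; omega
  · intro hdeg
    rcases casesO D χ hχ with ⟨-, h⟩ | ⟨h, -⟩ | ⟨-, h⟩ | ⟨-, h⟩ | ⟨-, h, -⟩ | ⟨-, h⟩
    · have := nat_of_degO hdeg h; omega
    · rw [h]; exact sumU_StS
    · have := nat_of_degO hdeg h; omega
    · have := nat_of_degO hdeg h; omega
    · have := nat_of_degO hdeg h; omega
    · have := nat_of_degO hdeg h; omega
  · intro hdeg
    rcases casesO D χ hχ with ⟨-, h⟩ | ⟨-, h⟩ | ⟨-, h⟩ | ⟨-, h⟩ | ⟨hc, -, -⟩ | ⟨-, h⟩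
    · have := nat_of_degO hdeg h; omega
    · have := nat_of_degO hdeg h; omega
    · have := nat_of_degO hdeg h; omega
    · have := nat_of_degO hdeg h; omega
    · exact cusp_sumS χ hcl hc 1
    · have := nat_of_degO hdeg h; omega
  · intro hdeg
    rcases casesO D χ hχ with ⟨-, h⟩ | ⟨-, h⟩ | ⟨-, h⟩ | ⟨h, -⟩ | ⟨-, h, -⟩ | ⟨-, h⟩
    · have := nat_of_degO hdeg h; omega
    · have := nat_of_degO hdeg h; omega
    · have := nat_of_degO hdeg h; omega
    · rcases h with rfl | rfl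
      · exact (sumU_half D).1
      · exact (sumU_half D).2
    · have := nat_of_degO hdeg h; omega
    · have := nat_of_degO hdeg h; omega
  · intro hdeg
    rcases casesO D χ hχ with ⟨-, h⟩ | ⟨-, h⟩ | ⟨-, h⟩ | ⟨-, h⟩ | ⟨-, h, -⟩ | ⟨hc, -⟩
    · have := nat_of_degO hdeg h; omega
    · have := nat_of_degO hdeg h; omega
    · have := nat_of_degO hdeg h; omega
    · have := nat_of_degO hdeg h; omega
    · have := nat_of_degO hdeg h; omega
    · exact cusp_sumS χ hcl hc 1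

end Cfsg.Agent.Lib.Helper4_SL2SumU
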