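import Mathlib
import Cfsg.Prelude.Def_Characters
import Cfsg.Prelude.Def_ParabolicCharacters
import Cfsg.Agent.Lib.Helper2_ClassFn
import Cfsg.Agent.Lib.Helper2_CharOrtho
import Cfsg.Agent.Lib.Helper2_CharBasic
import Cfsg.Agent.Lib.Helper2_CharInd
import Cfsg.Agent.Lib.Helper4_MulCharDual
import Cfsg.Agent.Lib.Helper4_SL2Fam
import Cfsg.Agent.Lib.Helper4_GL2Count
import Cfsg.Agent.Lib.Helper4_GL2Cusp
import Cfsg.Agent.Lib.Helper4_SL2Res
import Cfsg.Agent.Lib.Helper4_IrrCount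
import Cfsg.Agent.Lib.Helper4_SL2Count
import Cfsg.Agent.Lib.Helper4_SL2Even
import Cfsg.Agent.Lib.Helper4_SL2OddChars
import Cfsg.Agent.Lib.Helper4_SL2Values
import Cfsg.Agent.Lib.Helper4_SL2SumU
import Cfsg.Agent.Lib.Helper4_SL2Torus
import Cfsg.Agent.Lib.Helper4_SL2Card

namespace Cfsg.Agent.Lib.Helper4_SL2EllNorm
open Matrix Cfsg Cfsg.Agent.Lib.Helper2_ClassFn Cfsg.Agent.Lib.Helper2_CharOrtho
  Cfsg.Agent.Lib.Helper2_CharBasic
  Cfsg.Agent.Lib.Helper4_MulCharDual Cfsg.Agent.Lib.Helper4_SL2Fam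
  Cfsg.Agent.Lib.Helper4_GL2Count Cfsg.Agent.Lib.Helper4_SL2Res Cfsg.Agent.Lib.Helper4_IrrCount
  Cfsg.Agent.Lib.Helper4_SL2Count Cfsg.Agent.Lib.Helper4_SL2Even Cfsg.Agent.Lib.Helper4_SL2OddChars
  Cfsg.Agent.Lib.Helper4_BorelInd Cfsg.Agent.Lib.Helper4_BorelIndGL Cfsg.Agent.Lib.Helper4_GL2Cusp
  Cfsg.Agent.Lib.Helper4_SL2Borel Cfsg.Agent.Lib.Helper4_BorelInner Cfsg.Agent.Lib.Helper4_SL2Values
  Cfsg.Agent.Lib.Helper4_SL2SumU
open scoped ComplexConjugate

variable {F : Type*} [Field F]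

/-- no eigenvector -/
def Ell (g : Matrix.SpecialLinearGroup (Fin 2) F) : Prop :=
  ∀ (c : F) (v : Fin 2 → F), v ≠ 0 → (g : Matrix (Fin 2) (Fin 2) F).mulVec v ≠ c • v

/-- scalar -/
def Scal (g : Matrix.SpecialLinearGroup (Fin 2) F) : Prop :=
  (g : Matrix (Fin 2) (Fin 2) F) 0 1 = 0 ∧ (g : Matrix (Fin 2) (Fin 2) F) 1 0 = 0 ∧
    (g : Matrix (Fin 2) (Fin 2) F) 0 0 = (g : Matrix (Fin 2) (Fin 2) F) 1 1

theorem exists_conj_T0 (g : Matrix.SpecialLinearGroup (Fin 2) F) (h : ¬ Ell g) :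
    ∃ (y : Matrix.SpecialLinearGroup (Fin 2) F) (a : Fˣ) (x : F), y * g * y⁻¹ = T0 a x := by
  unfold Ell at h
  push Not at h
  obtain ⟨c, v, hv, hgv⟩ := h
  obtain ⟨p, s, hps⟩ : ∃ p s : F, v 0 * s - p * v 1 = 1 := by
    by_cases h0 : v 0 = 0
    · have h1 : v 1 ≠ 0 := by
        intro h1
        apply hv
        ext i; fin_cases i <;> simp [h0, h1]
      exact ⟨-(v 1)⁻¹, 0, by rw [h0]; field_simp; ring⟩
    · exact ⟨0, (v 0)⁻¹, by field_simp; ring⟩
  let P : Matrix.SpecialLinearGroup (Fin 2) F := ⟨!![v 0, p; v 1, s], by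
    rw [Matrix.det_fin_two]; simpa using hps⟩
  have e0 := congrFun hgv 0
  have e1 := congrFun hgv 1
  simp only [Matrix.mulVec, dotProduct, Fin.sum_univ_two, Pi.smul_apply, smul_eq_mul] at e0 e1
  have hM : ((P⁻¹ * g * P : Matrix.SpecialLinearGroup (Fin 2) F) : Matrix (Fin 2) (Fin 2) F) 1 0 = 0 := by
    rw [Matrix.SpecialLinearGroup.coe_mul, Matrix.SpecialLinearGroup.coe_mul,
      Matrix.SpecialLinearGroup.coe_inv, Matrix.adjugate_fin_two]
    rw [Matrix.eta_fin_two (g : Matrix (Fin 2) (Fin 2) F)] at *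
    simp [P, Matrix.mul_apply, Fin.sum_univ_two] at *
    linear_combination (v 0) * e1 - (v 1) * e0
  obtain ⟨a, x, hax⟩ := eq_T (⟨P⁻¹ * g * P, (mem_Bor _).mpr hM⟩ : Bor F)
  refine ⟨P⁻¹, a, x, ?_⟩
  rw [inv_inv]
  exact congrArg (fun b : Bor F => (b : Matrix.SpecialLinearGroup (Fin 2) F)) hax

theorem T0_scal_iff (a : Fˣ) (x : F) : Scal (T0 a x) ↔ x = 0 ∧ a ^ 2 = 1 := by
  unfold Scal
  simp only [T0]
  constructor
  · rintro ⟨h1, -, h3⟩
    refine ⟨by simpa using h1, ?_⟩
    apply Units.ext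
    rw [Units.val_pow_eq_pow_val, pow_two, Units.val_one]
    have h3' : (a : F) = ((a⁻¹ : Fˣ) : F) := by simpa using h3
    nth_rewrite 2 [h3']
    rw [← Units.val_mul, mul_inv_cancel, Units.val_one]
  · rintro ⟨rfl, h⟩
    refine ⟨by simp, by simp, ?_⟩
    have : a = a⁻¹ := by
      rw [pow_two, mul_eq_one_iff_eq_inv] at h
      exact h
    simp only [Matrix.of_apply, Matrix.cons_val', Matrix.cons_val_zero, Matrix.cons_val_one,
      Matrix.cons_val_fin_one]
    rw [← this]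

theorem Scal_central (g : Matrix.SpecialLinearGroup (Fin 2) F) (h : Scal g)
    (y : Matrix.SpecialLinearGroup (Fin 2) F) : y * g = g * y := by
  obtain ⟨h1, h2, h3⟩ := h
  apply Subtype.ext
  rw [Matrix.SpecialLinearGroup.coe_mul, Matrix.SpecialLinearGroup.coe_mul]
  rw [Matrix.eta_fin_two (g : Matrix (Fin 2) (Fin 2) F), Matrix.eta_fin_two (y : Matrix (Fin 2) (Fin 2) F),
    h1, h2, h3]
  simp [Matrix.mul_fin_two, mul_comm]

variable [Fintype F] [DecidableEq F]

theorem Rs_one_real (g : Matrix.SpecialLinearGroup (Fin 2) F) :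
    conj (Rs (1 : MulChar F ℂ) g) = Rs (1 : MulChar F ℂ) g := by
  have key : ∀ x : F, conj ((1 : MulChar F ℂ) x) = (1 : MulChar F ℂ) x := by
    intro x
    by_cases hx : IsUnit x
    · rw [MulChar.one_apply hx]; simp
    · rw [MulChar.map_nonunit _ hx]; simp
  rw [Rs_apply]
  unfold bsum
  simp only [map_add, map_sum, apply_ite conj, map_zero, key]

open Classical in
theorem pointwise (ξ : Matrix.SpecialLinearGroup (Fin 2) F → ℂ)
    (hcl : IsClassFunction (Matrix.SpecialLinearGroup (Fin 2) F) ξ)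
    (hreg : ∀ a : Fˣ, a ^ 2 ≠ 1 → ∀ x : F, ξ (T0 a x) = 0)
    (g : Matrix.SpecialLinearGroup (Fin 2) F) :
    ((Complex.normSq (ξ g) : ℝ) : ℂ) * Rs (1 : MulChar F ℂ) g =
      ((Complex.normSq (ξ g) : ℝ) : ℂ) *
        (1 - (if Ell g then 1 else 0) + (if Scal g then (Fintype.card F : ℂ) else 0)) := by
  by_cases hell : Ell g
  · have hns : ¬ Scal g := by
      intro hs
      have := (Cfsg.Agent.Lib.Helper4_SL2Torus.aniso_of_no_eigen g hell).1
      obtain ⟨h1, h2, h3⟩ := hs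
      rcases this with h | h | h
      · exact h h1
      · exact h h2
      · exact h h3
    rw [if_pos hell, if_neg hns, Rs_apply, bsum_no_eigen _ _ hell]
    ring
  · rw [if_neg hell]
    obtain ⟨y, a, x, hy⟩ := exists_conj_T0 g hell
    have hξ : ξ g = ξ (T0 a x) := by rw [← hy, hcl]
    have hR : Rs (1 : MulChar F ℂ) g = Rs (1 : MulChar F ℂ) (T0 a x) := by
      rw [← hy]
      exact (indFun_isClassFunction (Bor F) _ g y).symm
    have hS : Scal g ↔ Scal (T0 a x) := by
      constructor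
      · intro h
        have : T0 a x = g := by
          rw [← hy, Scal_central g h y, mul_assoc, mul_inv_cancel, mul_one]
        rw [this]; exact h
      · intro h
        have : g = T0 a x := by
          have h' : g = y⁻¹ * T0 a x * y := by rw [← hy]; group
          rw [h', Scal_central (T0 a x) h y⁻¹, mul_assoc, inv_mul_cancel, mul_one]
        rw [this]; exact h
    by_cases hs : Scal g
    · rw [if_pos hs, hR]
      have hs' := (T0_scal_iff a x).mp (hS.mp hs)
      rw [Rs_apply, bsum_scalar _ _ (by simp [T0]) (by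
        have := (hS.mp hs).2.2
        exact this) (by simp [T0, hs'.1])]
      simp [T0]
      left; ring
    · rw [if_neg hs]
      have hs' : ¬ (x = 0 ∧ a ^ 2 = 1) := fun h => hs (hS.mpr ((T0_scal_iff a x).mpr h))
      by_cases ha : a ^ 2 = 1
      · have hx : x ≠ 0 := fun h => hs' ⟨h, ha⟩
        have haa : ((a⁻¹ : Fˣ) : F) = (a : F) := by
          rw [pow_two, mul_eq_one_iff_eq_inv] at ha
          rw [← ha]
        rw [hR, Rs_apply, bsum_unip _ _ (by simp [T0]) (by simp [T0, haa]) (by simpa [T0] using hx)]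
        simp [T0]
      · rw [hξ, hreg a ha x]
        simp

theorem card_SL2_complex : (Nat.card (Matrix.SpecialLinearGroup (Fin 2) F) : ℂ) =
    (Fintype.card F : ℂ) * ((Fintype.card F : ℂ) ^ 2 - 1) := by
  rw [Cfsg.Agent.Lib.Helper4_SL2Card.card_SL2, Nat.cast_mul,
    Nat.cast_sub (Nat.one_le_pow _ _ Fintype.card_pos)]
  push_cast
  ring

/-- Frobenius reciprocity for the permutation character and a class function -/
theorem frob_sum (φ : Matrix.SpecialLinearGroup (Fin 2) F → ℂ)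
    (hφ : IsClassFunction (Matrix.SpecialLinearGroup (Fin 2) F) φ) :
    ∑ g : Matrix.SpecialLinearGroup (Fin 2) F, φ g * Rs (1 : MulChar F ℂ) g =
      ((Fintype.card F : ℂ) + 1) * ∑ a : Fˣ, ∑ x : F, φ (T0 a x) := by
  have h := inner_Rs_sum φ hφ 1
  rw [classInner_def, card_Bor, card_SL2_complex] at h
  simp only [Rs_one_real] at h
  have h1 : ∀ a : Fˣ, (∑ x : F, φ (T0 a x)) * conj ((1 : MulChar F ℂ) (a : F)) =
      ∑ x : F, φ (T0 a x) := by
    intro a
    rw [MulChar.one_apply (Units.isUnit a)]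
    simp
  simp only [h1] at h
  rw [← h]
  have hq : 1 < Fintype.card F := Fintype.one_lt_card
  have hne : (Fintype.card F : ℂ) - 1 ≠ 0 := by
    rw [sub_ne_zero]
    intro h'
    have : Fintype.card F = 1 := by exact_mod_cast h'
    omega
  have hq0 : (Fintype.card F : ℂ) ≠ 0 := by exact_mod_cast Fintype.card_ne_zero
  have hne2 : (Fintype.card F : ℂ) ^ 2 - 1 ≠ 0 := by
    have : (Fintype.card F : ℂ) ^ 2 - 1 = ((Fintype.card F : ℂ) - 1) * ((Fintype.card F : ℂ) + 1) := by
      ring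
    rw [this]
    apply mul_ne_zero hne
    have : ((Fintype.card F : ℂ) + 1) = ((Fintype.card F + 1 : ℕ) : ℂ) := by push_cast; ring
    rw [this]
    exact_mod_cast Nat.succ_ne_zero (Fintype.card F)
  field_simp
  ring

omit [DecidableEq F] in
theorem units_sq_q3 (hq : Fintype.card F = 3) (a : Fˣ) : a ^ 2 = 1 := by
  classical
  have := pow_card_eq_one (x := a)
  rw [Fintype.card_units, hq] at this
  exact this

omit [DecidableEq F] in
theorem T0_zero_inj : Function.Injective (fun a : Fˣ => (T0 a 0 : Matrix.SpecialLinearGroup (Fin 2) F)) := by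
  intro a b h
  have h' := congrArg (fun g : Matrix.SpecialLinearGroup (Fin 2) F =>
    (g : Matrix (Fin 2) (Fin 2) F) 0 0) h
  apply Units.ext
  simpa [T0] using h'

open Classical in
theorem sum_scal_q3 (hR : ∀ a : Fˣ, a ^ 2 = 1) (φ : Matrix.SpecialLinearGroup (Fin 2) F → ℂ) :
    ∑ g : Matrix.SpecialLinearGroup (Fin 2) F, (if Scal g then φ g else 0) =
      ∑ a : Fˣ, φ (T0 a 0) := by
  rw [← Finset.sum_filter]
  have : (Finset.univ.filter (fun g : Matrix.SpecialLinearGroup (Fin 2) F => Scal g)) =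
      Finset.univ.image (fun a : Fˣ => (T0 a 0 : Matrix.SpecialLinearGroup (Fin 2) F)) := by
    ext g
    rw [Finset.mem_filter, Finset.mem_image]
    constructor
    · rintro ⟨-, h01, h10, h00⟩
      have hdet := g.det_coe
      rw [Matrix.det_fin_two, h01, zero_mul, sub_zero] at hdet
      refine ⟨Units.mkOfMulEqOne _ _ hdet, Finset.mem_univ _, ?_⟩
      apply Subtype.ext
      ext i j
      fin_cases i <;> fin_cases j <;> simp [T0, h01, h10]
      exact inv_eq_of_mul_eq_one_right hdet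
    · rintro ⟨a, -, rfl⟩
      exact ⟨Finset.mem_univ _, (T0_scal_iff a 0).mpr ⟨rfl, hR a⟩⟩
  rw [this, Finset.sum_image (fun x _ y _ h => T0_zero_inj h)]

theorem ell_zero_q3 (hq : Fintype.card F = 3)
    (χ' : Matrix.GeneralLinearGroup (Fin 2) F → ℂ)
    (hχ' : IsIrrCharacter (Matrix.GeneralLinearGroup (Fin 2) F) χ')
    (hc : Cfsg.Agent.Lib.Helper4_GL2Fam.IsCusp χ') (hdeg : χ' 1 = 2)
    (hξ : IsIrrCharacter (Matrix.SpecialLinearGroup (Fin 2) F)
      (fun s => χ' (Matrix.SpecialLinearGroup.toGL s)))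
    (g : Matrix.SpecialLinearGroup (Fin 2) F) (hell : Ell g) :
    χ' (Matrix.SpecialLinearGroup.toGL g) = 0 := by
  classical
  have hR := units_sq_q3 (F := F) hq
  have hcl' := IsCharacter.isClassFunction (IsIrrCharacter.isCharacter hχ')
  have hcl := IsCharacter.isClassFunction (IsIrrCharacter.isCharacter hξ)
  set ξ : Matrix.SpecialLinearGroup (Fin 2) F → ℂ := fun s => χ' (Matrix.SpecialLinearGroup.toGL s)
    with hξdef
  set φ : Matrix.SpecialLinearGroup (Fin 2) F → ℂ := fun s => ((Complex.normSq (ξ s) : ℝ) : ℂ)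
    with hφdef
  have hφcl : IsClassFunction (Matrix.SpecialLinearGroup (Fin 2) F) φ := by
    intro s h
    show ((Complex.normSq (ξ (h * s * h⁻¹)) : ℝ) : ℂ) = ((Complex.normSq (ξ s) : ℝ) : ℂ)
    rw [hcl]
  -- values on the Borel subgroup
  have hGL : ∀ (a : Fˣ) (x : F), Matrix.SpecialLinearGroup.toGL (T0 a x) = TG0 a a x := by
    intro a x
    have haa : ((a⁻¹ : Fˣ) : F) = (a : F) := by
      have ha := hR a
      rw [pow_two, mul_eq_one_iff_eq_inv] at ha
      rw [← ha]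
    apply Units.ext
    rw [TG0_val]
    show ((T0 a x : Matrix.SpecialLinearGroup (Fin 2) F) : Matrix (Fin 2) (Fin 2) F) = _
    simp only [T0, haa]
  have hv0 : ∀ a : Fˣ, Complex.normSq (χ' (TG0 a a 0)) = 4 := by
    intro a
    have := normSq_central_mul hχ' (scal a) (scal_comm a) 1
    rw [mul_one, hdeg] at this
    have e : (TG0 a a 0 : Matrix.GeneralLinearGroup (Fin 2) F) = scal a := rfl
    rw [e, this]
    norm_num
  have hv1 : ∀ (a : Fˣ) (x : F), x ≠ 0 → Complex.normSq (χ' (TG0 a a x)) = 1 := by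
    intro a x hx
    rw [cusp_conj_unip χ' hcl' a x hx]
    have h := cusp_unip χ' hcl' hc a
    rw [hq] at h
    have h2 : χ' (TG0 a a 0) = -2 * χ' (TG0 a a 1) := by
      push_cast at h
      linear_combination h
    have h3 := hv0 a
    rw [h2, map_mul] at h3
    norm_num at h3
    linarith
  have hφ0 : ∀ a : Fˣ, φ (T0 a 0) = 4 := by
    intro a
    show ((Complex.normSq (χ' (Matrix.SpecialLinearGroup.toGL (T0 a 0))) : ℝ) : ℂ) = 4
    rw [hGL, hv0]
    norm_num
  have hφ1 : ∀ (a : Fˣ) (x : F), x ≠ 0 → φ (T0 a x) = 1 := by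
    intro a x hx
    show ((Complex.normSq (χ' (Matrix.SpecialLinearGroup.toGL (T0 a x))) : ℝ) : ℂ) = 1
    rw [hGL, hv1 a x hx]
    norm_num
  have hcardU : Fintype.card Fˣ = 2 := by rw [Fintype.card_units, hq]
  have hB : ∑ a : Fˣ, ∑ x : F, φ (T0 a x) = 12 := by
    have : ∀ a : Fˣ, ∑ x : F, φ (T0 a x) = 6 := by
      intro a
      rw [← Finset.add_sum_erase Finset.univ _ (Finset.mem_univ (0 : F)), hφ0]
      have h1 : ∀ x ∈ Finset.univ.erase (0 : F), φ (T0 a x) = 1 := by
        intro x hx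
        exact hφ1 a x (Finset.ne_of_mem_erase hx)
      rw [Finset.sum_congr rfl h1, Finset.sum_const, Finset.card_erase_of_mem (Finset.mem_univ _),
        Finset.card_univ, hq]
      norm_num
    simp only [this, Finset.sum_const, Finset.card_univ, hcardU]
    norm_num
  have hS : ∑ s : Matrix.SpecialLinearGroup (Fin 2) F, (if Scal s then φ s else 0) = 8 := by
    rw [sum_scal_q3 hR]
    simp only [hφ0, Finset.sum_const, Finset.card_univ, hcardU]
    norm_num
  have hN : ∑ s : Matrix.SpecialLinearGroup (Fin 2) F, φ s = 24 := by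
    have h := sum_normSq_irr hξ
    have h2 : ∑ s : Matrix.SpecialLinearGroup (Fin 2) F, φ s =
        ((∑ s : Matrix.SpecialLinearGroup (Fin 2) F, Complex.normSq (ξ s) : ℝ) : ℂ) := by
      push_cast
      rfl
    rw [h2, h, Cfsg.Agent.Lib.Helper4_SL2Card.card_SL2, hq]
    norm_num
  have hF := frob_sum φ hφcl
  have hpw : ∀ s : Matrix.SpecialLinearGroup (Fin 2) F, φ s * Rs (1 : MulChar F ℂ) s =
      φ s - (if Ell s then φ s else 0) + (Fintype.card F : ℂ) * (if Scal s then φ s else 0) := by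
    intro s
    have := pointwise ξ hcl (fun a ha => absurd (hR a) ha) s
    show ((Complex.normSq (ξ s) : ℝ) : ℂ) * _ = _
    rw [this]
    show _ = φ s - (if Ell s then φ s else 0) + (Fintype.card F : ℂ) * (if Scal s then φ s else 0)
    split_ifs <;> simp [hφdef] <;> ring
  simp only [hpw, Finset.sum_add_distrib, Finset.sum_sub_distrib, ← Finset.mul_sum] at hF
  rw [hN, hS, hB, hq] at hF
  have hE : ∑ s : Matrix.SpecialLinearGroup (Fin 2) F, (if Ell s then φ s else 0) = 0 := by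
    push_cast at hF
    linear_combination -hF
  have hE' : ∑ s : Matrix.SpecialLinearGroup (Fin 2) F,
      (if Ell s then Complex.normSq (ξ s) else 0) = 0 := by
    have : ∑ s : Matrix.SpecialLinearGroup (Fin 2) F, (if Ell s then φ s else 0) =
        ((∑ s : Matrix.SpecialLinearGroup (Fin 2) F,
          (if Ell s then Complex.normSq (ξ s) else 0) : ℝ) : ℂ) := by
      push_cast
      refine Finset.sum_congr rfl fun s _ => ?_
      split_ifs <;> simp [hφdef]
    rw [this] at hE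
    exact_mod_cast hE
  have hnn : ∀ s ∈ (Finset.univ : Finset (Matrix.SpecialLinearGroup (Fin 2) F)),
      0 ≤ (if Ell s then Complex.normSq (ξ s) else 0) := by
    intro s _
    split_ifs
    · exact Complex.normSq_nonneg _
    · exact le_refl _
  have := (Finset.sum_eq_zero_iff_of_nonneg hnn).mp hE' g (Finset.mem_univ _)
  rw [if_pos hell] at this
  exact Complex.normSq_eq_zero.mp this

omit [DecidableEq F] in
theorem conj_ell (hodd : Odd (Fintype.card F)) (x : Matrix.GeneralLinearGroup (Fin 2) F)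
    (g : Matrix.SpecialLinearGroup (Fin 2) F) (hell : Ell g) :
    IsConj g (Cfsg.Agent.Lib.Helper4_SL2HalfChars.conjSL x g) := by
  have h2 := Cfsg.Agent.Lib.Helper4_SL2Odd.two_ne_zero' hodd
  obtain ⟨hns, hirr⟩ := Cfsg.Agent.Lib.Helper4_SL2Torus.aniso_of_no_eigen g hell
  have ht := Cfsg.Agent.Lib.Helper4_SL2Torus.aniso_ne' h2 _ hirr
  set h := Cfsg.Agent.Lib.Helper4_SL2HalfChars.conjSL x g with hh
  have hval : (h : Matrix (Fin 2) (Fin 2) F) = (x : Matrix (Fin 2) (Fin 2) F) *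
      (g : Matrix (Fin 2) (Fin 2) F) *
      ((x⁻¹ : Matrix.GeneralLinearGroup (Fin 2) F) : Matrix (Fin 2) (Fin 2) F) := rfl
  have hxx : ((x⁻¹ : Matrix.GeneralLinearGroup (Fin 2) F) : Matrix (Fin 2) (Fin 2) F) *
      (x : Matrix (Fin 2) (Fin 2) F) = 1 := by
    rw [← Units.val_mul, inv_mul_cancel, Units.val_one]
  have htr : (h : Matrix (Fin 2) (Fin 2) F).trace = (g : Matrix (Fin 2) (Fin 2) F).trace := by
    rw [hval, Matrix.trace_mul_comm, ← Matrix.mul_assoc, hxx, Matrix.one_mul]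
  have hnsh : Cfsg.Agent.Lib.Helper4_GL2Classes0.NS (h : Matrix (Fin 2) (Fin 2) F) := by
    by_contra hcon
    have h1 := (Cfsg.Agent.Lib.Helper4_GL2Classes0.not_NS_iff _).mp hcon
    have hg : (g : Matrix (Fin 2) (Fin 2) F) =
        ((x⁻¹ : Matrix.GeneralLinearGroup (Fin 2) F) : Matrix (Fin 2) (Fin 2) F) *
        (h : Matrix (Fin 2) (Fin 2) F) * (x : Matrix (Fin 2) (Fin 2) F) := by
      rw [hval]
      simp only [Matrix.mul_assoc]
      rw [hxx, Matrix.mul_one, ← Matrix.mul_assoc, hxx, Matrix.one_mul]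
    have hg2 : (g : Matrix (Fin 2) (Fin 2) F) =
        ((h : Matrix (Fin 2) (Fin 2) F) 0 0) • (1 : Matrix (Fin 2) (Fin 2) F) := by
      rw [hg, h1]
      simp only [Matrix.mul_smul, Matrix.smul_mul, Matrix.mul_one, hxx]
      simp
    have : ¬ Cfsg.Agent.Lib.Helper4_GL2Classes0.NS (g : Matrix (Fin 2) (Fin 2) F) := by
      rw [Cfsg.Agent.Lib.Helper4_GL2Classes0.not_NS_iff]
      have e00 := congrFun (congrFun hg2 0) 0
      simp at e00
      rw [e00]
      exact hg2
    exact this hns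
  have c1 := Cfsg.Agent.Lib.Helper4_SL2Odd.conj_C'_odd hodd g hns ht
  have c2 := Cfsg.Agent.Lib.Helper4_SL2Odd.conj_C'_odd hodd h hnsh (by rw [htr]; exact ht)
  rw [htr] at c2
  exact c1.trans c2.symm

omit [Fintype F] [DecidableEq F] in
theorem classFn_isConj {χ : Matrix.SpecialLinearGroup (Fin 2) F → ℂ}
    (hχ : IsClassFunction (Matrix.SpecialLinearGroup (Fin 2) F) χ)
    {g h : Matrix.SpecialLinearGroup (Fin 2) F} (hc : IsConj g h) : χ h = χ g := by
  obtain ⟨c, hc⟩ := hc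
  have : h = (c : Matrix.SpecialLinearGroup (Fin 2) F) * g *
      (c : Matrix.SpecialLinearGroup (Fin 2) F)⁻¹ := by
    have := hc.eq
    rw [this]; group
  rw [this, hχ]

theorem half_ell_zero (hodd : Odd (Fintype.card F)) {α₀ : MulChar F ℂ}
    {μ₀ ν₀ : Matrix.SpecialLinearGroup (Fin 2) F → ℂ}
    {x : Matrix.GeneralLinearGroup (Fin 2) F} (D : IsHalf α₀ μ₀ ν₀ x)
    (g : Matrix.SpecialLinearGroup (Fin 2) F) (hell : Ell g) : μ₀ g = 0 ∧ ν₀ g = 0 := by
  have hc := conj_ell hodd x g hell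
  have h1 := D.cj g _ (Cfsg.Agent.Lib.Helper4_SL2HalfChars.toGL_conjSL x g)
  have h2 := classFn_isConj (IsCharacter.isClassFunction (IsIrrCharacter.isCharacter D.irrν)) hc
  have h3 : Rs α₀ g = 0 := by
    rw [Rs_apply, bsum_no_eigen _ _ hell]
  rw [D.sum, Pi.add_apply] at h3
  rw [h1] at h2
  have h4 : μ₀ g = 0 := by
    have : (2 : ℂ) * μ₀ g = 0 := by rw [← h3, ← h2]; ring
    rcases mul_eq_zero.mp this with h | h
    · norm_num at h
    · exact h
  refine ⟨h4, ?_⟩
  rw [← h2, h4]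

theorem S2322_main (hodd : Odd (Fintype.card F)) (χ : Matrix.SpecialLinearGroup (Fin 2) F → ℂ) (hχ : Cfsg.IsIrrCharacter (Matrix.SpecialLinearGroup (Fin 2) F) χ) (g : Matrix.SpecialLinearGroup (Fin 2) F) :
    ((χ 1 = (Fintype.card F : ℂ) - 1 ∨ χ 1 = (((Fintype.card F - 1) / 2 : ℕ) : ℂ)) →
      (g : Matrix (Fin 2) (Fin 2) F) 0 1 = 0 → (g : Matrix (Fin 2) (Fin 2) F) 1 0 = 0 → (g : Matrix (Fin 2) (Fin 2) F) 0 0 ^ 2 ≠ 1 → χ g = 0) ∧
    ((χ 1 = (Fintype.card F : ℂ) + 1 ∨ χ 1 = (((Fintype.card F + 1) / 2 : ℕ) : ℂ)) →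
      (∀ (c : F) (v : Fin 2 → F), v ≠ 0 → (g : Matrix (Fin 2) (Fin 2) F).mulVec v ≠ c • v) → χ g = 0) := by
  have e1 : ((Fintype.card F : ℂ) + 1) = ((Fintype.card F + 1 : ℕ) : ℂ) := by push_cast; ring
  have e2 : ((Fintype.card F : ℂ) - 1) = ((Fintype.card F - 1 : ℕ) : ℂ) := by
    rw [Nat.cast_sub Fintype.card_pos]; simp
  have hcl := IsCharacter.isClassFunction (IsIrrCharacter.isCharacter hχ)
  obtain ⟨α₀, μ₀, ν₀, x, D⟩ := exists_half hodd
  have hodd' := hodd
  obtain ⟨m, hm⟩ := hodd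
  have hq2 : 1 < Fintype.card F := Fintype.one_lt_card
  rw [e1, e2]
  constructor
  · intro hdeg h01 h10 hsq
    have hdet := g.det_coe
    rw [Matrix.det_fin_two, h01, zero_mul, sub_zero] at hdet
    have h0 : (g : Matrix (Fin 2) (Fin 2) F) 0 0 ≠ 0 := left_ne_zero_of_mul_eq_one hdet
    have hq3 : Fintype.card F ≠ 3 := by
      intro hq3
      apply hsq
      have := FiniteField.pow_card_sub_one_eq_one _ h0
      rw [hq3] at this
      exact this
    have hcusp : IsCuspS χ := by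
      rcases hdeg with hdeg | hdeg
      · rcases casesO D χ hχ with ⟨-, h⟩ | ⟨-, h⟩ | ⟨-, h⟩ | ⟨-, h⟩ | ⟨hc, -, -⟩ | ⟨hc, -⟩
        · have := nat_of_degO hdeg h; omega
        · have := nat_of_degO hdeg h; omega
        · have := nat_of_degO hdeg h; omega
        · have := nat_of_degO hdeg h; omega
        · exact hc
        · exact hc
      · rcases casesO D χ hχ with ⟨-, h⟩ | ⟨-, h⟩ | ⟨-, h⟩ | ⟨-, h⟩ | ⟨hc, -, -⟩ | ⟨hc, -⟩
        · have := nat_of_degO hdeg h; omega
        · have := nat_of_degO hdeg h; omega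
        · have := nat_of_degO hdeg h; omega
        · have := nat_of_degO hdeg h; omega
        · exact hc
        · exact hc
    have hg : g = T0 (Units.mkOfMulEqOne _ _ hdet) 0 := by
      apply Subtype.ext
      ext i j
      fin_cases i <;> fin_cases j <;> simp [T0, h01, h10]
      exact (inv_eq_of_mul_eq_one_right hdet).symm
    rw [hg]
    apply cusp_regularS χ hcl hcusp
    intro h
    apply hsq
    have := congrArg Units.val h
    rw [Units.val_pow_eq_pow_val, Units.val_one] at this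
    exact this
  · intro hdeg hell
    rcases hdeg with hdeg | hdeg
    · rcases casesO D χ hχ with ⟨-, h⟩ | ⟨-, h⟩ | ⟨h, -⟩ | ⟨-, h⟩ | ⟨-, h, -⟩ | ⟨-, h⟩
      · have := nat_of_degO hdeg h; omega
      · have := nat_of_degO hdeg h; omega
      · obtain ⟨α, -, rfl⟩ := (mem_Pset χ).mp h
        rw [Rs_apply, bsum_no_eigen _ _ hell]
      · have := nat_of_degO hdeg h; omega
      · have := nat_of_degO hdeg h; omega
      · have := nat_of_degO hdeg h; omega
    · rcases casesO D χ hχ with ⟨-, h⟩ | ⟨-, h⟩ | ⟨-, h⟩ | ⟨h, -⟩ | ⟨-, h, χ', hχ', hc, hχeq⟩ | ⟨-, h⟩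
      · have := nat_of_degO hdeg h; omega
      · have := nat_of_degO hdeg h; omega
      · have := nat_of_degO hdeg h; omega
      · rcases h with rfl | rfl
        · exact (half_ell_zero hodd' D g hell).1
        · exact (half_ell_zero hodd' D g hell).2
      · have hq3 : Fintype.card F = 3 := by
          have := nat_of_degO hdeg h; omega
        subst hχeq
        apply ell_zero_q3 hq3 χ' hχ' hc ?_ hχ g hell
        have : χ' (Matrix.SpecialLinearGroup.toGL (1 : Matrix.SpecialLinearGroup (Fin 2) F)) =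
            ((Fintype.card F - 1 : ℕ) : ℂ) := h
        rw [map_one, hq3] at this
        rw [this]
        norm_num
      · have := nat_of_degO hdeg h; omega

end Cfsg.Agent.Lib.Helper4_SL2EllNorm
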