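import Mathlib
import Cfsg.Prelude.Def_Characters
import Cfsg.Prelude.Def_ParabolicCharacters
import Cfsg.Agent.Lib.Helper2_ClassFn
import Cfsg.Agent.Lib.Helper2_CharOrtho
import Cfsg.Agent.Lib.Helper2_CharBasic
import Cfsg.Agent.Lib.Helper2_CharInd
import Cfsg.Agent.Lib.Helper2_CharMore
import Cfsg.Agent.Lib.Helper2_CharExtra
import Cfsg.Agent.Lib.Helper2_Clifford
import Cfsg.Agent.Lib.Helper2_CharCentral
import Cfsg.Agent.Lib.Helper4_MulCharDual
import Cfsg.Agent.Lib.Helper4_SL2Fam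
import Cfsg.Agent.Lib.Helper4_GL2Count
import Cfsg.Agent.Lib.Helper4_GL2Cusp
import Cfsg.Agent.Lib.Helper4_SL2Res
import Cfsg.Agent.Lib.Helper4_IrrCount
import Cfsg.Agent.Lib.Helper4_SL2Count
import Cfsg.Agent.Lib.Helper4_SL2OddChars
import Cfsg.Agent.Lib.Helper4_SL2Values
import Cfsg.Agent.Lib.Helper4_SL2SumU
import Cfsg.Agent.Lib.Helper4_SL2EllNorm
import Cfsg.Agent.Lib.Helper4_SL2HalfChars
import Cfsg.Agent.Lib.Helper4_SL2Odd
import Cfsg.Agent.Lib.Helper4_PSL2ClassOdd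

namespace Cfsg.Agent.Lib.Helper4_SL2Pair
open Matrix Cfsg Cfsg.Agent.Lib.Helper2_ClassFn Cfsg.Agent.Lib.Helper2_CharOrtho
  Cfsg.Agent.Lib.Helper2_CharBasic
  Cfsg.Agent.Lib.Helper4_MulCharDual Cfsg.Agent.Lib.Helper4_SL2Fam
  Cfsg.Agent.Lib.Helper4_GL2Count Cfsg.Agent.Lib.Helper4_SL2Res Cfsg.Agent.Lib.Helper4_IrrCount
  Cfsg.Agent.Lib.Helper4_SL2Count Cfsg.Agent.Lib.Helper4_SL2OddChars
  Cfsg.Agent.Lib.Helper4_BorelInd Cfsg.Agent.Lib.Helper4_BorelIndGL Cfsg.Agent.Lib.Helper4_GL2Cusp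
  Cfsg.Agent.Lib.Helper4_SL2Borel Cfsg.Agent.Lib.Helper4_BorelInner Cfsg.Agent.Lib.Helper4_SL2Values
  Cfsg.Agent.Lib.Helper4_SL2SumU Cfsg.Agent.Lib.Helper4_SL2EllNorm Cfsg.Agent.Lib.Helper4_SL2HalfChars
open scoped ComplexConjugate

variable {F : Type*} [Field F] [Fintype F] [DecidableEq F]

/-- the two constituents of a reducible restriction are GL₂-conjugate -/
theorem conj_of_res (χ : Matrix.GeneralLinearGroup (Fin 2) F → ℂ)
    (hχ : IsIrrCharacter (Matrix.GeneralLinearGroup (Fin 2) F) χ)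
    (μ ν : Matrix.SpecialLinearGroup (Fin 2) F → ℂ)
    (hμ : IsIrrCharacter (Matrix.SpecialLinearGroup (Fin 2) F) μ)
    (hν : IsIrrCharacter (Matrix.SpecialLinearGroup (Fin 2) F) ν) (hne : μ ≠ ν)
    (hR : (fun s => χ (Matrix.SpecialLinearGroup.toGL s)) = μ + ν) :
    ∃ x : Matrix.GeneralLinearGroup (Fin 2) F, ∀ g h : Matrix.SpecialLinearGroup (Fin 2) F,
      Matrix.SpecialLinearGroup.toGL h = x * Matrix.SpecialLinearGroup.toGL g * x⁻¹ → ν h = μ g := by
  classical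
  haveI : (NS F).Normal := NS_normal
  letI : Fintype (NS F) := Fintype.ofFinite _
  have hres : (fun n : NS F => χ n) = fun n : NS F => (μ + ν) (eS.symm n) := by
    ext n
    obtain ⟨s, rfl⟩ := eS.surjective n
    rw [MulEquiv.symm_apply_apply, eS_val, ← hR]
  have hμν : classInner μ ν = 0 := classInner_irr_of_ne hμ hν hne
  have hνμ : classInner ν μ = 0 := classInner_irr_of_ne hν hμ hne.symm
  have hc1 : classInner (fun n : NS F => χ n) (fun n : NS F => μ (eS.symm n)) ≠ 0 := by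
    rw [hres, classInner_comp_mulEquiv eS.symm (μ + ν) μ, classInner_add_left,
      classInner_irr_self hμ, hνμ]
    norm_num
  have hc2 : classInner (fun n : NS F => χ n) (fun n : NS F => ν (eS.symm n)) ≠ 0 := by
    rw [hres, classInner_comp_mulEquiv eS.symm (μ + ν) ν, classInner_add_left,
      classInner_irr_self hν, hμν]
    norm_num
  obtain ⟨y, hy⟩ := Cfsg.Agent.Lib.Helper2_CharExtra.clifford_conj_of_constituent (NS F) hχ
    (Cfsg.Agent.Lib.Helper2_CharMore.IsIrrCharacter.comp_mulEquiv hμ eS.symm)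
    (Cfsg.Agent.Lib.Helper2_CharMore.IsIrrCharacter.comp_mulEquiv hν eS.symm) hc1 hc2
  have hconj : ∀ s : Matrix.SpecialLinearGroup (Fin 2) F, ν s = μ (conjSL y s) := by
    intro s
    have := congrFun hy (eS s)
    rw [Cfsg.Agent.Lib.Helper2_Clifford.conjFn_apply] at this
    simp only [MulEquiv.symm_apply_apply] at this
    rw [this]
    congr 1
    apply eS.injective
    rw [MulEquiv.apply_symm_apply]
    apply Subtype.ext
    show y * ((eS s : NS F) : Matrix.GeneralLinearGroup (Fin 2) F) * y⁻¹ =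
      ((eS (conjSL y s) : NS F) : Matrix.GeneralLinearGroup (Fin 2) F)
    rw [eS_val, eS_val, toGL_conjSL]
  refine ⟨y⁻¹, ?_⟩
  intro g h hgh
  rw [hconj h]
  congr 1
  apply Matrix.SpecialLinearGroup.toGL_injective
  rw [toGL_conjSL, hgh]
  group

/-- pair of GL₂-conjugate irreducible characters of SL₂ -/
structure IsPair (μ ν : Matrix.SpecialLinearGroup (Fin 2) F → ℂ)
    (x : Matrix.GeneralLinearGroup (Fin 2) F) : Prop where
  irrμ : IsIrrCharacter (Matrix.SpecialLinearGroup (Fin 2) F) μ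
  irrν : IsIrrCharacter (Matrix.SpecialLinearGroup (Fin 2) F) ν
  ne : μ ≠ ν
  cj : ∀ g h : Matrix.SpecialLinearGroup (Fin 2) F,
        Matrix.SpecialLinearGroup.toGL h = x * Matrix.SpecialLinearGroup.toGL g * x⁻¹ → ν h = μ g

omit [Fintype F] [DecidableEq F] in
theorem det_TG0 (a d : Fˣ) (y : F) :
    Matrix.GeneralLinearGroup.det (TG0 a d y) = a * d := by
  apply Units.ext
  rw [Matrix.GeneralLinearGroup.val_det_apply, TG0_val, Matrix.det_fin_two]
  simp

omit [DecidableEq F] in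
theorem pair_diag {μ ν : Matrix.SpecialLinearGroup (Fin 2) F → ℂ}
    {x : Matrix.GeneralLinearGroup (Fin 2) F} (P : IsPair μ ν x) :
    ∃ δ : Fˣ, IsPair μ ν (TG0 δ 1 0) := by
  set δ : Fˣ := Matrix.GeneralLinearGroup.det x with hδ
  refine ⟨δ, P.irrμ, P.irrν, P.ne, ?_⟩
  have hdet : ((x * (TG0 δ 1 0)⁻¹ : Matrix.GeneralLinearGroup (Fin 2) F) :
      Matrix (Fin 2) (Fin 2) F).det = 1 := by
    rw [← Matrix.GeneralLinearGroup.val_det_apply, map_mul, map_inv, det_TG0, mul_one, ← hδ,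
      mul_inv_cancel, Units.val_one]
  set s' : Matrix.SpecialLinearGroup (Fin 2) F :=
    ⟨((x * (TG0 δ 1 0)⁻¹ : Matrix.GeneralLinearGroup (Fin 2) F) : Matrix (Fin 2) (Fin 2) F), hdet⟩
    with hs'
  have hs : Matrix.SpecialLinearGroup.toGL s' = x * (TG0 δ 1 0)⁻¹ := by
    apply Units.ext
    rfl
  intro g h hgh
  have hcl := IsCharacter.isClassFunction (IsIrrCharacter.isCharacter P.irrν)
  rw [← hcl h s']
  apply P.cj g
  rw [map_mul, map_mul, map_inv, hs, hgh]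
  group

theorem pair_nonsq {μ ν : Matrix.SpecialLinearGroup (Fin 2) F → ℂ} {δ : Fˣ}
    (P : IsPair μ ν (TG0 δ 1 0)) : ¬ IsSquare (δ : F) := by
  rintro ⟨c, hc⟩
  have hc0 : c ≠ 0 := by
    rintro rfl
    rw [mul_zero] at hc
    exact Units.ne_zero δ hc
  set cu : Fˣ := Units.mk0 c hc0 with hcu
  have hδ : δ = cu * cu := by
    apply Units.ext
    rw [Units.val_mul, hcu, Units.val_mk0, hc]
  apply P.ne
  ext g
  have hcl := IsCharacter.isClassFunction (IsIrrCharacter.isCharacter P.irrν)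
  rw [← hcl g (T0 cu 0)]
  symm
  apply P.cj g
  have ht : Matrix.SpecialLinearGroup.toGL (T0 cu 0) = TG0 cu cu⁻¹ 0 := by
    apply Units.ext
    rw [TG0_val]
    rfl
  have hd : (TG0 δ 1 0 : Matrix.GeneralLinearGroup (Fin 2) F) = scal cu * TG0 cu cu⁻¹ 0 := by
    unfold scal
    rw [TG0_mul, hδ]
    congr 1
    · rw [mul_inv_cancel]
    · simp
  rw [map_mul, map_mul, map_inv, ht, hd]
  have h1 := scal_comm cu (TG0 cu cu⁻¹ 0 * Matrix.SpecialLinearGroup.toGL g * (TG0 cu cu⁻¹ 0)⁻¹)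
  calc TG0 cu cu⁻¹ 0 * Matrix.SpecialLinearGroup.toGL g * (TG0 cu cu⁻¹ 0)⁻¹
      = scal cu * (TG0 cu cu⁻¹ 0 * Matrix.SpecialLinearGroup.toGL g * (TG0 cu cu⁻¹ 0)⁻¹) *
          (scal cu)⁻¹ := by rw [h1]; group
    _ = scal cu * TG0 cu cu⁻¹ 0 * Matrix.SpecialLinearGroup.toGL g *
          (scal cu * TG0 cu cu⁻¹ 0)⁻¹ := by group

theorem pair_T0 {μ ν : Matrix.SpecialLinearGroup (Fin 2) F → ℂ} {δ : Fˣ}
    (P : IsPair μ ν (TG0 δ 1 0)) (a : Fˣ) (y : F) :
    ν (T0 a ((δ : F) * y)) = μ (T0 a y) := by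
  apply P.cj
  have ht : ∀ z : F, Matrix.SpecialLinearGroup.toGL (T0 a z) = TG0 a a⁻¹ z := by
    intro z
    apply Units.ext
    rw [TG0_val]
    rfl
  rw [ht, ht, eq_mul_inv_iff_mul_eq, TG0_mul, TG0_mul]
  congr 1
  · rw [mul_comm]
  · rw [mul_comm]
  · simp

omit [DecidableEq F] in
theorem pair_ell (hodd : Odd (Fintype.card F)) {μ ν : Matrix.SpecialLinearGroup (Fin 2) F → ℂ}
    {x : Matrix.GeneralLinearGroup (Fin 2) F} (P : IsPair μ ν x)
    (g : Matrix.SpecialLinearGroup (Fin 2) F) (hell : Ell g) : ν g = μ g := by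
  have hc := conj_ell hodd x g hell
  have h1 := P.cj g _ (toGL_conjSL x g)
  have h2 := classFn_isConj (IsCharacter.isClassFunction (IsIrrCharacter.isCharacter P.irrν)) hc
  rw [← h2, h1]

theorem pair_T0_zero {μ ν : Matrix.SpecialLinearGroup (Fin 2) F → ℂ} {δ : Fˣ}
    (P : IsPair μ ν (TG0 δ 1 0)) (a : Fˣ) : ν (T0 a 0) = μ (T0 a 0) := by
  have := pair_T0 P a 0
  rwa [mul_zero] at this

theorem pair_reg {μ ν : Matrix.SpecialLinearGroup (Fin 2) F → ℂ} {δ : Fˣ}
    (P : IsPair μ ν (TG0 δ 1 0)) (a : Fˣ) (ha : a ^ 2 ≠ 1) (y : F) :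
    ν (T0 a y) = μ (T0 a y) := by
  rw [cusp_conj_regularS ν (IsCharacter.isClassFunction (IsIrrCharacter.isCharacter P.irrν)) a ha,
    cusp_conj_regularS μ (IsCharacter.isClassFunction (IsIrrCharacter.isCharacter P.irrμ)) a ha,
    pair_T0_zero P]

theorem pair_scal {μ ν : Matrix.SpecialLinearGroup (Fin 2) F → ℂ} {δ : Fˣ}
    (P : IsPair μ ν (TG0 δ 1 0)) (g : Matrix.SpecialLinearGroup (Fin 2) F) (hs : Scal g) :
    ν g = μ g := by
  obtain ⟨h01, h10, heq⟩ := hs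
  have hdet := g.det_coe
  rw [Matrix.det_fin_two, h01, zero_mul, sub_zero] at hdet
  have hg : g = T0 (Units.mkOfMulEqOne _ _ hdet) 0 := by
    apply Subtype.ext
    ext i j
    fin_cases i <;> fin_cases j <;> simp [T0, h01, h10]
    exact (inv_eq_of_mul_eq_one_right hdet).symm
  rw [hg]
  exact pair_T0_zero P _

omit [Fintype F] [DecidableEq F] in
theorem classFn_T0_sq {χ : Matrix.SpecialLinearGroup (Fin 2) F → ℂ}
    (hχ : IsClassFunction (Matrix.SpecialLinearGroup (Fin 2) F) χ) (a c : Fˣ) (y : F) :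
    χ (T0 a ((c : F) * (c : F) * y)) = χ (T0 a y) := by
  apply classFn_of_commS hχ (h := T0 c 0)
  rw [T0_mul, T0_mul]
  congr 1
  · rw [mul_comm]
  · have hc0 : (c : F) ≠ 0 := Units.ne_zero c
    simp
    field_simp

omit [Fintype F] [DecidableEq F] in
theorem pair_sq
    (a : Fˣ) (y : F) (hy : y ≠ 0) (hsq : IsSquare y)
    {χ : Matrix.SpecialLinearGroup (Fin 2) F → ℂ}
    (hχ : IsClassFunction (Matrix.SpecialLinearGroup (Fin 2) F) χ) :
    χ (T0 a y) = χ (T0 a 1) := by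
  obtain ⟨c, hc⟩ := hsq
  have hc0 : c ≠ 0 := by
    rintro rfl
    rw [mul_zero] at hc
    exact hy hc
  have := classFn_T0_sq hχ a (Units.mk0 c hc0) 1
  rw [Units.val_mk0, mul_one, ← hc] at this
  exact this

theorem pair_nsq (hodd : Odd (Fintype.card F)) {μ ν : Matrix.SpecialLinearGroup (Fin 2) F → ℂ}
    {δ : Fˣ} (P : IsPair μ ν (TG0 δ 1 0)) (a : Fˣ) (y : F) (hsq : ¬ IsSquare y) :
    μ (T0 a y) = ν (T0 a 1) ∧ ν (T0 a y) = μ (T0 a 1) := by
  have hy : y ≠ 0 := by rintro rfl; exact hsq ⟨0, by simp⟩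
  have hδ := pair_nonsq P
  have hδ0 : (δ : F) ≠ 0 := Units.ne_zero δ
  have h1 := Cfsg.Agent.Lib.Helper4_SL2Odd.nonsq_mul hodd (δ : F) y hδ hsq
  have hclμ := IsCharacter.isClassFunction (IsIrrCharacter.isCharacter P.irrμ)
  have hclν := IsCharacter.isClassFunction (IsIrrCharacter.isCharacter P.irrν)
  constructor
  · rw [← pair_T0 P a y]
    exact pair_sq a _ (mul_ne_zero hδ0 hy) h1 hclν
  · have h2 : IsSquare (y / (δ : F)) := by
      obtain ⟨c, hc⟩ := h1
      refine ⟨c / (δ : F), ?_⟩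
      field_simp
      linear_combination hc
    have e : y = (δ : F) * (y / (δ : F)) := by field_simp
    have e2 : ν (T0 a y) = ν (T0 a ((δ : F) * (y / (δ : F)))) := by rw [← e]
    rw [e2, pair_T0 P a (y / (δ : F))]
    exact pair_sq a _ (div_ne_zero hy hδ0) h2 hclμ

open Cfsg.Agent.Lib.Helper4_PSL2ClassOdd in
theorem pair_N1 {μ ν : Matrix.SpecialLinearGroup (Fin 2) F → ℂ}
    {x : Matrix.GeneralLinearGroup (Fin 2) F} (P : IsPair μ ν x)
    (g : Matrix.SpecialLinearGroup (Fin 2) F) :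
    Complex.normSq (μ (N1 * g) - ν (N1 * g)) = Complex.normSq (μ g - ν g) := by
  have h1 := Cfsg.Agent.Lib.Helper2_CharCentral.apply_central_mul P.irrμ N1 N1_comm g
  have h2 := Cfsg.Agent.Lib.Helper2_CharCentral.apply_central_mul P.irrν N1 N1_comm g
  have hN : ν N1 = μ N1 := by
    apply P.cj
    have : Matrix.SpecialLinearGroup.toGL (N1 : Matrix.SpecialLinearGroup (Fin 2) F) = scal (-1) := by
      apply Units.ext
      rw [scal_val]
      show ((N1 : Matrix.SpecialLinearGroup (Fin 2) F) : Matrix (Fin 2) (Fin 2) F) = _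
      rw [N1_val]
      ext i j
      fin_cases i <;> fin_cases j <;> simp
    rw [this, ← scal_comm, mul_assoc, mul_inv_cancel, mul_one]
  have h11 : ν 1 = μ 1 := by
    apply P.cj
    rw [map_one, mul_one, mul_inv_cancel]
  have h3 := normSq_central_mul P.irrμ N1 N1_comm 1
  rw [mul_one] at h3
  have hμ1 : μ 1 ≠ 0 := IsIrrCharacter.apply_one_ne_zero P.irrμ
  have hn1 : Complex.normSq (μ 1) ≠ 0 := by
    rw [Ne, Complex.normSq_eq_zero]; exact hμ1
  rw [h1, h2, hN, h11]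
  have : μ N1 * μ g / μ 1 - μ N1 * ν g / μ 1 = (μ N1 / μ 1) * (μ g - ν g) := by
    field_simp
  rw [this, map_mul, map_div₀, h3, div_self hn1, one_mul]

open Cfsg.Agent.Lib.Helper4_PSL2ClassOdd in
omit [Fintype F] [DecidableEq F] in
theorem T0_neg_one (x : F) :
    (T0 (-1) x : Matrix.SpecialLinearGroup (Fin 2) F) = N1 * T0 1 (-x) := by
  apply Subtype.ext
  rw [N1_mul_val]
  ext i j
  fin_cases i <;> fin_cases j <;> simp [T0]

theorem pair_norm (hodd : Odd (Fintype.card F)) {μ ν : Matrix.SpecialLinearGroup (Fin 2) F → ℂ}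
    {δ : Fˣ} (P : IsPair μ ν (TG0 δ 1 0)) :
    Complex.normSq (μ (T0 1 1) - ν (T0 1 1)) = (Fintype.card F : ℝ) := by
  classical
  have h2 := Cfsg.Agent.Lib.Helper4_SL2Odd.two_ne_zero' hodd
  have hclμ := IsCharacter.isClassFunction (IsIrrCharacter.isCharacter P.irrμ)
  have hclν := IsCharacter.isClassFunction (IsIrrCharacter.isCharacter P.irrν)
  set Δ : Matrix.SpecialLinearGroup (Fin 2) F → ℂ := μ - ν with hΔ
  have hΔa : ∀ g, Δ g = μ g - ν g := fun g => rfl
  have hcl : IsClassFunction (Matrix.SpecialLinearGroup (Fin 2) F) Δ := by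
    intro g h
    rw [hΔa, hΔa, hclμ, hclν]
  set φ : Matrix.SpecialLinearGroup (Fin 2) F → ℂ := fun g => ((Complex.normSq (Δ g) : ℝ) : ℂ) with hφ
  have hφcl : IsClassFunction (Matrix.SpecialLinearGroup (Fin 2) F) φ := by
    intro g h
    show ((Complex.normSq (Δ (h * g * h⁻¹)) : ℝ) : ℂ) = ((Complex.normSq (Δ g) : ℝ) : ℂ)
    rw [hcl]
  -- total sum
  have hE : ∑ g, φ g = 2 * (Nat.card (Matrix.SpecialLinearGroup (Fin 2) F) : ℂ) := by
    have h := classInner_def Δ Δ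
    have h' : classInner Δ Δ = 2 := by
      rw [hΔ, classInner_sub_left, classInner_sub_right, classInner_sub_right,
        classInner_irr_self P.irrμ, classInner_irr_self P.irrν,
        classInner_irr_of_ne P.irrμ P.irrν P.ne, classInner_irr_of_ne P.irrν P.irrμ P.ne.symm]
      norm_num
    rw [h'] at h
    have hG := card_ne_zero_complex (G := Matrix.SpecialLinearGroup (Fin 2) F)
    have : ∑ g, φ g = ∑ g, Δ g * conj (Δ g) := by
      refine Finset.sum_congr rfl fun g _ => ?_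
      rw [Complex.mul_conj]
    rw [this]
    field_simp at h
    rw [← h]
  -- pointwise
  have hreg : ∀ a : Fˣ, a ^ 2 ≠ 1 → ∀ x : F, Δ (T0 a x) = 0 := by
    intro a ha x
    rw [hΔa, pair_reg P a ha x, sub_self]
  have hpt : ∀ g, φ g * Rs (1 : MulChar F ℂ) g = φ g := by
    intro g
    have hp := pointwise Δ hcl hreg g
    show ((Complex.normSq (Δ g) : ℝ) : ℂ) * _ = ((Complex.normSq (Δ g) : ℝ) : ℂ)
    rw [hp]
    by_cases hell : Ell g
    · have : Δ g = 0 := by rw [hΔa, pair_ell hodd P g hell, sub_self]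
      rw [this]; simp
    · by_cases hs : Scal g
      · have : Δ g = 0 := by rw [hΔa, pair_scal P g hs, sub_self]
        rw [this]; simp
      · rw [if_neg hell, if_neg hs]; ring
  have hF := frob_sum φ hφcl
  simp only [hpt] at hF
  rw [hE] at hF
  -- Borel sum
  set N : ℂ := ((Complex.normSq (μ (T0 1 1) - ν (T0 1 1)) : ℝ) : ℂ) with hN
  have hval : ∀ y : F, y ≠ 0 → φ (T0 1 y) = N := by
    intro y hy
    show ((Complex.normSq (Δ (T0 1 y)) : ℝ) : ℂ) = N
    rw [hΔa]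
    by_cases hsq : IsSquare y
    · rw [pair_sq 1 y hy hsq hclμ, pair_sq 1 y hy hsq hclν]
    · obtain ⟨e1, e2⟩ := pair_nsq hodd P 1 y hsq
      rw [e1, e2, hN, ← Complex.normSq_neg, neg_sub]
  have hzero : φ (T0 1 0) = 0 := by
    show ((Complex.normSq (Δ (T0 1 0)) : ℝ) : ℂ) = 0
    rw [hΔa, pair_T0_zero P, sub_self]; simp
  have hq1 : ((Fintype.card F - 1 : ℕ) : ℂ) = (Fintype.card F : ℂ) - 1 := by
    rw [Nat.cast_sub Fintype.card_pos]; simp
  have hsum1 : ∑ x : F, φ (T0 1 x) = ((Fintype.card F : ℂ) - 1) * N := by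
    have : ∀ x : F, φ (T0 1 x) = if x = 0 then 0 else N := by
      intro x
      by_cases hx : x = 0
      · rw [if_pos hx, hx, hzero]
      · rw [if_neg hx, hval x hx]
    simp only [this]
    rw [Finset.sum_ite, Finset.sum_const_zero, zero_add, Finset.sum_const, Finset.filter_ne',
      Finset.card_erase_of_mem (Finset.mem_univ _), Finset.card_univ, nsmul_eq_mul, hq1]
  have hsumN : ∑ x : F, φ (T0 (-1) x) = ((Fintype.card F : ℂ) - 1) * N := by
    rw [← hsum1]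
    refine Fintype.sum_equiv (Equiv.neg F) _ _ fun x => ?_
    show ((Complex.normSq (Δ (T0 (-1) x)) : ℝ) : ℂ) = ((Complex.normSq (Δ (T0 1 (-x))) : ℝ) : ℂ)
    rw [T0_neg_one, hΔa, hΔa, pair_N1 P]
  have hne : (1 : Fˣ) ≠ -1 := by
    intro h
    have := congrArg Units.val h
    rw [Units.val_neg, Units.val_one] at this
    apply h2
    linear_combination this
  have hsumA : ∑ a : Fˣ, ∑ x : F, φ (T0 a x) = 2 * (((Fintype.card F : ℂ) - 1) * N) := by
    rw [Finset.sum_eq_add (1 : Fˣ) (-1) hne, hsum1, hsumN]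
    · ring
    · intro a _ ha
      have ha2 : a ^ 2 ≠ 1 := by
        intro h
        have h' : ((a : F) - 1) * ((a : F) + 1) = 0 := by
          have := congrArg Units.val h
          rw [Units.val_pow_eq_pow_val, Units.val_one] at this
          linear_combination this
        rcases mul_eq_zero.mp h' with h' | h'
        · apply ha.1
          apply Units.ext
          rw [Units.val_one]
          linear_combination h'
        · apply ha.2
          apply Units.ext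
          rw [Units.val_neg, Units.val_one]
          linear_combination h'
      apply Finset.sum_eq_zero
      intro x _
      show ((Complex.normSq (Δ (T0 a x)) : ℝ) : ℂ) = 0
      rw [hreg a ha2 x]; simp
    · intro h; exact absurd (Finset.mem_univ _) h
    · intro h; exact absurd (Finset.mem_univ _) h
  rw [hsumA, card_SL2_complex] at hF
  have hq : 1 < Fintype.card F := Fintype.one_lt_card
  have hq0 : (Fintype.card F : ℂ) ≠ 0 := by exact_mod_cast Fintype.card_ne_zero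
  have hqm : (Fintype.card F : ℂ) - 1 ≠ 0 := by
    rw [sub_ne_zero]
    intro h'
    have : Fintype.card F = 1 := by exact_mod_cast h'
    omega
  have hqp : (Fintype.card F : ℂ) + 1 ≠ 0 := by
    have : ((Fintype.card F : ℂ) + 1) = ((Fintype.card F + 1 : ℕ) : ℂ) := by push_cast; ring
    rw [this]
    exact_mod_cast Nat.succ_ne_zero (Fintype.card F)
  have hNq : N = (Fintype.card F : ℂ) := by
    have e : ((Fintype.card F : ℂ) - 1) * ((Fintype.card F : ℂ) + 1) * 2 * (N - (Fintype.card F : ℂ)) = 0 := by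
      linear_combination -hF
    rcases mul_eq_zero.mp e with e | e
    · exfalso
      rcases mul_eq_zero.mp e with e | e
      · rcases mul_eq_zero.mp e with e | e
        · exact hqm e
        · exact hqp e
      · norm_num at e
    · linear_combination e
  rw [hN] at hNq
  exact_mod_cast hNq

theorem pair_sq_val (hodd : Odd (Fintype.card F)) {μ ν : Matrix.SpecialLinearGroup (Fin 2) F → ℂ}
    {δ : Fˣ} (P : IsPair μ ν (TG0 δ 1 0)) :
    (μ (T0 1 1) - ν (T0 1 1)) ^ 2 =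
      (-1 : ℂ) ^ ((Fintype.card F - 1) / 2) * (Fintype.card F : ℂ) := by
  have hclμ := IsCharacter.isClassFunction (IsIrrCharacter.isCharacter P.irrμ)
  have hclν := IsCharacter.isClassFunction (IsIrrCharacter.isCharacter P.irrν)
  have hn := pair_norm hodd P
  have hinv : (T0 1 1 : Matrix.SpecialLinearGroup (Fin 2) F)⁻¹ = T0 1 (-1) := by
    apply inv_eq_of_mul_eq_one_right
    rw [T0_mul, ← T0_one_zero]
    congr 1
    · rw [mul_one]
    · simp
  have hcs : conj (μ (T0 1 1)) = μ (T0 1 (-1)) := by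
    rw [← hinv, IsCharacter.apply_inv (IsIrrCharacter.isCharacter P.irrμ)]
  have hct : conj (ν (T0 1 1)) = ν (T0 1 (-1)) := by
    rw [← hinv, IsCharacter.apply_inv (IsIrrCharacter.isCharacter P.irrν)]
  have hm1 : (-1 : F) ≠ 0 := by simp
  have hmc := Complex.mul_conj (μ (T0 1 1) - ν (T0 1 1))
  rw [hn, map_sub, hcs, hct] at hmc
  obtain ⟨m, hm⟩ := hodd
  by_cases hsq : IsSquare (-1 : F)
  · have h4 := (FiniteField.isSquare_neg_one_iff (F := F)).mp hsq
    have hev : Even ((Fintype.card F - 1) / 2) := by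
      rw [Nat.even_iff]; omega
    rw [hev.neg_one_pow, one_mul]
    rw [pair_sq 1 (-1) hm1 hsq hclμ, pair_sq 1 (-1) hm1 hsq hclν] at hmc
    rw [pow_two, hmc]
    simp
  · have h4 : Fintype.card F % 4 = 3 := by
      by_contra h
      exact hsq ((FiniteField.isSquare_neg_one_iff (F := F)).mpr h)
    have hod : Odd ((Fintype.card F - 1) / 2) := by
      rw [Nat.odd_iff]; omega
    rw [hod.neg_one_pow]
    obtain ⟨e1, e2⟩ := pair_nsq ⟨m, hm⟩ P 1 (-1) hsq
    rw [e1, e2] at hmc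
    have : (μ (T0 1 1) - ν (T0 1 1)) ^ 2 =
        -((μ (T0 1 1) - ν (T0 1 1)) * (ν (T0 1 1) - μ (T0 1 1))) := by ring
    rw [this, hmc]
    simp

omit [DecidableEq F] in
theorem pair_final (hodd : Odd (Fintype.card F)) {μ ν : Matrix.SpecialLinearGroup (Fin 2) F → ℂ}
    {x : Matrix.GeneralLinearGroup (Fin 2) F} (P : IsPair μ ν x) (c : ℂ)
    (hc : μ (T0 1 1) + ν (T0 1 1) = c) :
    (2 * μ (T0 1 1) - c) ^ 2 = (-1 : ℂ) ^ ((Fintype.card F - 1) / 2) * (Fintype.card F : ℂ) ∧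
    (2 * ν (T0 1 1) - c) ^ 2 = (-1 : ℂ) ^ ((Fintype.card F - 1) / 2) * (Fintype.card F : ℂ) := by
  classical
  obtain ⟨δ, P'⟩ := pair_diag P
  have h := pair_sq_val hodd P'
  rw [← hc, ← h]
  constructor <;> ring

theorem cusp_half_pair (hodd : Odd (Fintype.card F)) (hq : 5 ≤ Fintype.card F)
    (χ : Matrix.SpecialLinearGroup (Fin 2) F → ℂ)
    (hχ : IsIrrCharacter (Matrix.SpecialLinearGroup (Fin 2) F) χ) (hc : IsCuspS χ)
    (hdeg : χ 1 = (((Fintype.card F - 1) / 2 : ℕ) : ℂ)) :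
    ∃ (μ ν : Matrix.SpecialLinearGroup (Fin 2) F → ℂ) (x : Matrix.GeneralLinearGroup (Fin 2) F),
      IsPair μ ν x ∧ (χ = μ ∨ χ = ν) ∧ μ (T0 1 1) + ν (T0 1 1) = -1 ∧
      μ 1 = (((Fintype.card F - 1) / 2 : ℕ) : ℂ) ∧ ν 1 = (((Fintype.card F - 1) / 2 : ℕ) : ℂ) := by
  obtain ⟨Χ, hΧ, hne⟩ := exists_over χ hχ
  have hcΧ := cusp_over χ hχ hc Χ hΧ hne
  have hdΧ := cusp_deg Χ hΧ hcΧ
  have hΧ1 : Χ 1 = (Fintype.card F : ℂ) - 1 := by
    rw [(dg_spec hΧ).2, hdΧ, Nat.cast_sub Fintype.card_pos]; simp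
  have hodd' := hodd
  obtain ⟨m, hm⟩ := hodd
  rcases res_cases Χ hΧ with hirr | ⟨-, μ, ν, hμ, hν, hμν, hR, h1⟩
  · exfalso
    rw [classInner_irr hχ hirr] at hne
    have : χ = fun s => Χ (Matrix.SpecialLinearGroup.toGL s) := by
      by_contra h
      rw [if_neg h] at hne
      exact hne rfl
    have h2 := congrFun this 1
    rw [map_one, hΧ1, hdeg] at h2
    have e2 : ((Fintype.card F : ℂ) - 1) = ((Fintype.card F - 1 : ℕ) : ℂ) := by
      rw [Nat.cast_sub Fintype.card_pos]; simp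
    rw [e2] at h2
    have : (Fintype.card F - 1) / 2 = Fintype.card F - 1 := by exact_mod_cast h2
    omega
  · obtain ⟨x, hx⟩ := conj_of_res Χ hΧ μ ν hμ hν hμν hR
    have hsum : μ 1 + ν 1 = (Fintype.card F : ℂ) - 1 := by
      have := congrFun hR 1
      simp only [map_one, Pi.add_apply] at this
      rw [← this, hΧ1]
    have hχμν : χ = μ ∨ χ = ν := by
      rw [hR, classInner_add_right, classInner_irr hχ hμ, classInner_irr hχ hν] at hne
      by_contra hcon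
      rw [not_or] at hcon
      rw [if_neg hcon.1, if_neg hcon.2] at hne
      simp at hne
    have hμ1 : μ 1 = (((Fintype.card F - 1) / 2 : ℕ) : ℂ) := by
      rcases hχμν with h | h
      · rw [← h, hdeg]
      · rw [← h1, ← h, hdeg]
    have hν1 : ν 1 = (((Fintype.card F - 1) / 2 : ℕ) : ℂ) := by rw [h1, hμ1]
    refine ⟨μ, ν, x, ⟨hμ, hν, hμν, hx⟩, hχμν, ?_, hμ1, hν1⟩
    have := congrFun hR (T0 1 1)
    simp only [Pi.add_apply] at this
    rw [← this]
    have ht : Matrix.SpecialLinearGroup.toGL (T0 (1 : Fˣ) (1 : F)) = TG0 1 1 1 := by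
      apply Units.ext
      rw [TG0_val]
      show ((T0 (1 : Fˣ) (1 : F) : Matrix.SpecialLinearGroup (Fin 2) F) : Matrix (Fin 2) (Fin 2) F) = _
      simp [T0]
    rw [ht]
    exact cusp_unip_val Χ hΧ hcΧ hΧ1

theorem S2324_main (hodd : Odd (Fintype.card F)) (hq : 5 ≤ Fintype.card F)
    (u : Matrix.SpecialLinearGroup (Fin 2) F) (hu : (u : Matrix (Fin 2) (Fin 2) F) = !![1, 1; 0, 1]) :
    (∀ χ : Matrix.SpecialLinearGroup (Fin 2) F → ℂ, Cfsg.IsIrrCharacter (Matrix.SpecialLinearGroup (Fin 2) F) χ → χ 1 = (((Fintype.card F + 1) / 2 : ℕ) : ℂ) → (2 * χ u - 1) ^ 2 = (-1 : ℂ) ^ ((Fintype.card F - 1) / 2) * (Fintype.card F : ℂ)) ∧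
    (∀ χ : Matrix.SpecialLinearGroup (Fin 2) F → ℂ, Cfsg.IsIrrCharacter (Matrix.SpecialLinearGroup (Fin 2) F) χ → χ 1 = (((Fintype.card F - 1) / 2 : ℕ) : ℂ) → (2 * χ u + 1) ^ 2 = (-1 : ℂ) ^ ((Fintype.card F - 1) / 2) * (Fintype.card F : ℂ)) ∧
    (∀ χ₁ χ₂ : Matrix.SpecialLinearGroup (Fin 2) F → ℂ, Cfsg.IsIrrCharacter (Matrix.SpecialLinearGroup (Fin 2) F) χ₁ → Cfsg.IsIrrCharacter (Matrix.SpecialLinearGroup (Fin 2) F) χ₂ → χ₁ ≠ χ₂ →
      χ₁ 1 = (((Fintype.card F + 1) / 2 : ℕ) : ℂ) → χ₂ 1 = (((Fintype.card F + 1) / 2 : ℕ) : ℂ) → χ₁ u + χ₂ u = 1) ∧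
    (∀ χ₁ χ₂ : Matrix.SpecialLinearGroup (Fin 2) F → ℂ, Cfsg.IsIrrCharacter (Matrix.SpecialLinearGroup (Fin 2) F) χ₁ → Cfsg.IsIrrCharacter (Matrix.SpecialLinearGroup (Fin 2) F) χ₂ → χ₁ ≠ χ₂ →
      χ₁ 1 = (((Fintype.card F - 1) / 2 : ℕ) : ℂ) → χ₂ 1 = (((Fintype.card F - 1) / 2 : ℕ) : ℂ) → χ₁ u + χ₂ u = -1) := by
  have hu' : u = T0 1 1 := by
    apply Subtype.ext
    rw [hu]
    simp [T0]
  subst hu'
  obtain ⟨α₀, μ₀, ν₀, x, D⟩ := exists_half hodd
  have hodd' := hodd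
  obtain ⟨m, hm⟩ := hodd
  have PD : IsPair μ₀ ν₀ x := ⟨D.irrμ, D.irrν, D.ne, D.cj⟩
  have hsumD : μ₀ (T0 1 1) + ν₀ (T0 1 1) = 1 := by
    have := congrFun D.sum (T0 1 1)
    rw [Pi.add_apply] at this
    rw [← this, Rs_apply, bsum_unip _ _ (by simp [T0]) (by simp [T0]) (by simp [T0])]
    simp [T0]
  have hplus : ∀ χ : Matrix.SpecialLinearGroup (Fin 2) F → ℂ,
      IsIrrCharacter (Matrix.SpecialLinearGroup (Fin 2) F) χ →
      χ 1 = (((Fintype.card F + 1) / 2 : ℕ) : ℂ) → χ = μ₀ ∨ χ = ν₀ := by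
    intro χ hχ hdeg
    rcases casesO D χ hχ with ⟨-, h⟩ | ⟨-, h⟩ | ⟨-, h⟩ | ⟨h, -⟩ | ⟨-, h, -⟩ | ⟨-, h⟩
    · have := nat_of_degO hdeg h; omega
    · have := nat_of_degO hdeg h; omega
    · have := nat_of_degO hdeg h; omega
    · exact h
    · have := nat_of_degO hdeg h; omega
    · have := nat_of_degO hdeg h; omega
  have hminus : ∀ χ : Matrix.SpecialLinearGroup (Fin 2) F → ℂ,
      IsIrrCharacter (Matrix.SpecialLinearGroup (Fin 2) F) χ →
      χ 1 = (((Fintype.card F - 1) / 2 : ℕ) : ℂ) → IsCuspS χ := by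
    intro χ hχ hdeg
    rcases casesO D χ hχ with ⟨-, h⟩ | ⟨-, h⟩ | ⟨-, h⟩ | ⟨-, h⟩ | ⟨-, h, -⟩ | ⟨h, -⟩
    · have := nat_of_degO hdeg h; omega
    · have := nat_of_degO hdeg h; omega
    · have := nat_of_degO hdeg h; omega
    · have := nat_of_degO hdeg h; omega
    · have := nat_of_degO hdeg h; omega
    · exact h
  refine ⟨?_, ?_, ?_, ?_⟩
  · intro χ hχ hdeg
    obtain ⟨f1, f2⟩ := pair_final hodd' PD 1 hsumD
    rcases hplus χ hχ hdeg with rfl | rfl
    · exact f1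
    · exact f2
  · intro χ hχ hdeg
    obtain ⟨μ, ν, y, P, hμν, hs, -, -⟩ := cusp_half_pair hodd' hq χ hχ (hminus χ hχ hdeg) hdeg
    obtain ⟨f1, f2⟩ := pair_final hodd' P (-1) hs
    rw [sub_neg_eq_add] at f1 f2
    rcases hμν with rfl | rfl
    · exact f1
    · exact f2
  · intro χ₁ χ₂ h1 h2 hne hd1 hd2
    rcases hplus χ₁ h1 hd1 with rfl | rfl <;> rcases hplus χ₂ h2 hd2 with rfl | rfl
    · exact absurd rfl hne
    · exact hsumD
    · rw [add_comm]; exact hsumD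
    · exact absurd rfl hne
  · intro χ₁ χ₂ h1 h2 hne hd1 hd2
    obtain ⟨μ, ν, y, P, hμν, hs, hμ1, hν1⟩ := cusp_half_pair hodd' hq χ₁ h1 (hminus χ₁ h1 hd1) hd1
    have hcnt := (countsO hodd' hq).2.2.2.2.2
    have h2' : χ₂ = μ ∨ χ₂ = ν := by
      by_contra hcon
      rw [not_or] at hcon
      let S := {χ : Cfsg.IrrCharacter (Matrix.SpecialLinearGroup (Fin 2) F) // (χ : Matrix.SpecialLinearGroup (Fin 2) F → ℂ) 1 = (((Fintype.card F - 1) / 2 : ℕ) : ℂ)}
      haveI : Finite S := Nat.finite_of_card_ne_zero (by rw [hcnt]; norm_num)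
      let a : S := ⟨⟨μ, P.irrμ⟩, hμ1⟩
      let b : S := ⟨⟨ν, P.irrν⟩, hν1⟩
      let c : S := ⟨⟨χ₂, h2⟩, hd2⟩
      have hab : a ≠ b := by
        intro h
        exact P.ne (congrArg (fun s : S => (s.1.1)) h)
      have hac : c ≠ a := by
        intro h
        exact hcon.1 (congrArg (fun s : S => (s.1.1)) h)
      have hbc : c ≠ b := by
        intro h
        exact hcon.2 (congrArg (fun s : S => (s.1.1)) h)
      have h3 : 2 < Nat.card S := by
        haveI := Fintype.ofFinite S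
        rw [Nat.card_eq_fintype_card (α := S), Fintype.two_lt_card_iff]
        exact ⟨a, b, c, hab, hac.symm, hbc.symm⟩
      rw [hcnt] at h3
      exact absurd h3 (lt_irrefl _)
    rcases hμν with rfl | rfl <;> rcases h2' with rfl | rfl
    · exact absurd rfl hne
    · exact hs
    · rw [add_comm]; exact hs
    · exact absurd rfl hne

end Cfsg.Agent.Lib.Helper4_SL2Pair
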