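import Mathlib
import Cfsg.Agent.Lib.Helper4_SL2Torus

namespace Cfsg.Agent.Lib.Helper4_SL2SplitTorus
open Matrix Cfsg.Agent.Lib.Helper4_GL2Classes0 Cfsg.Agent.Lib.Helper4_SL2Classes
  Cfsg.Agent.Lib.Helper4_SL2Card Cfsg.Agent.Lib.Helper4_SL2Cent Cfsg.Agent.Lib.Helper4_SL2Odd
  Cfsg.Agent.Lib.Helper4_PSL2ClassOdd Cfsg.Agent.Lib.Helper4_PSL2Orders
  Cfsg.Agent.Lib.Helper4_SL2Torus

variable {F : Type*} [Field F]

theorem normalizer_map_equiv {G : Type*} [Group G] (e : G ≃* G) (H : Subgroup G) :
    Subgroup.normalizer ((H.map (e : G →* G) : Subgroup G) : Set G) =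
      (Subgroup.normalizer (H : Set G)).map (e : G →* G) := by
  apply le_antisymm
  · intro x hx
    have h1 : e.symm x ∈ (Subgroup.normalizer ((H.map (e : G →* G) : Subgroup G) : Set G)).map
        (e.symm : G →* G) := Subgroup.mem_map_of_mem _ hx
    have h2 := Subgroup.le_normalizer_map (H := H.map (e : G →* G)) (e.symm : G →* G) h1
    have h3 : (H.map (e : G →* G)).map (e.symm : G →* G) = H := by
      ext y
      simp only [Subgroup.mem_map, MonoidHom.coe_coe]
      constructor
      · rintro ⟨_, ⟨z, hz, rfl⟩, rfl⟩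
        simpa using hz
      · intro hy
        exact ⟨e y, ⟨y, hy, rfl⟩, by simp⟩
    rw [h3] at h2
    exact ⟨e.symm x, h2, by simp⟩
  · exact Subgroup.le_normalizer_map _

/-- conjugacy classes are invariant under isomorphism -/
theorem card_conjClasses_congr {G H : Type*} [Group G] [Group H] (e : G ≃* H) :
    Nat.card (ConjClasses G) = Nat.card (ConjClasses H) := by
  apply Nat.card_congr
  refine
    { toFun := ConjClasses.map (e : G →* H)
      invFun := ConjClasses.map (e.symm : H →* G)
      left_inv := ?_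
      right_inv := ?_ }
  · intro x
    obtain ⟨g, rfl⟩ := ConjClasses.mk_surjective x
    show ConjClasses.mk (e.symm (e g)) = ConjClasses.mk g
    simp
  · intro x
    obtain ⟨g, rfl⟩ := ConjClasses.mk_surjective x
    show ConjClasses.mk (e (e.symm g)) = ConjClasses.mk g
    simp

theorem main [Fintype F] (hodd : Odd (Fintype.card F))
    (d : Matrix.SpecialLinearGroup (Fin 2) F) (hd01 : (d : Matrix (Fin 2) (Fin 2) F) 0 1 = 0) (hd10 : (d : Matrix (Fin 2) (Fin 2) F) 1 0 = 0) (hda : (d : Matrix (Fin 2) (Fin 2) F) 0 0 ^ 2 ≠ 1) :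
    (∀ g : Matrix.SpecialLinearGroup (Fin 2) F, g ∈ Subgroup.centralizer ({d} : Set (Matrix.SpecialLinearGroup (Fin 2) F)) ↔ ((g : Matrix (Fin 2) (Fin 2) F) 0 1 = 0 ∧ (g : Matrix (Fin 2) (Fin 2) F) 1 0 = 0)) ∧
    Nat.card (Subgroup.normalizer ((Subgroup.centralizer ({d} : Set (Matrix.SpecialLinearGroup (Fin 2) F))) : Set (Matrix.SpecialLinearGroup (Fin 2) F))) = 2 * (Fintype.card F - 1) ∧
    Nat.card (ConjClasses (Subgroup.normalizer ((Subgroup.centralizer ({d} : Set (Matrix.SpecialLinearGroup (Fin 2) F))) : Set (Matrix.SpecialLinearGroup (Fin 2) F)))) = (Fintype.card F + 5) / 2 ∧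
    ∀ g : Matrix.SpecialLinearGroup (Fin 2) F, g ∈ Subgroup.normalizer ((Subgroup.centralizer ({d} : Set (Matrix.SpecialLinearGroup (Fin 2) F))) : Set (Matrix.SpecialLinearGroup (Fin 2) F)) →
      g ∉ Subgroup.centralizer ({d} : Set (Matrix.SpecialLinearGroup (Fin 2) F)) → ((g * g) : Matrix (Fin 2) (Fin 2) F) = -1 := by
  have h2 := two_ne_zero' hodd
  set a := (d : Matrix (Fin 2) (Fin 2) F) 0 0 with ha
  set b := (d : Matrix (Fin 2) (Fin 2) F) 1 1 with hb
  have hdet := d.det_coe
  rw [Matrix.det_fin_two, hd01, zero_mul, sub_zero] at hdet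
  have hdet : a * b = 1 := hdet
  have ha0 : a ≠ 0 := by
    intro h; rw [h, zero_mul] at hdet; exact zero_ne_one hdet
  have hab : a ≠ b := by
    intro h
    apply hda
    rw [pow_two]
    nth_rw 2 [h]
    exact hdet
  have hdval : (d : Matrix (Fin 2) (Fin 2) F) = !![a, 0; 0, b] := by
    ext i j; fin_cases i <;> fin_cases j <;> simp [hd01, hd10, ha, hb]
  refine ⟨?_, ?_⟩
  · intro g
    rw [Subgroup.mem_centralizer_iff]
    simp only [Set.mem_singleton_iff, forall_eq]
    constructor
    · intro h
      have h' := congrArg (fun g : Matrix.SpecialLinearGroup (Fin 2) F =>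
        (g : Matrix (Fin 2) (Fin 2) F)) h
      simp only [Matrix.SpecialLinearGroup.coe_mul] at h'
      rw [hdval] at h'
      have e01 := congrFun (congrFun h' 0) 1
      have e10 := congrFun (congrFun h' 1) 0
      simp [Matrix.mul_apply, Fin.sum_univ_two] at e01 e10
      constructor
      · have : (a - b) * (g : Matrix (Fin 2) (Fin 2) F) 0 1 = 0 := by linear_combination e01
        rcases mul_eq_zero.mp this with h | h
        · exact absurd (sub_eq_zero.mp h) hab
        · exact h
      · have : (a - b) * (g : Matrix (Fin 2) (Fin 2) F) 1 0 = 0 := by linear_combination -e10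
        rcases mul_eq_zero.mp this with h | h
        · exact absurd (sub_eq_zero.mp h) hab
        · exact h
    · rintro ⟨h1, h2'⟩
      apply Subtype.ext
      rw [Matrix.SpecialLinearGroup.coe_mul, Matrix.SpecialLinearGroup.coe_mul, hdval,
        Matrix.eta_fin_two (g : Matrix (Fin 2) (Fin 2) F), h1, h2', Matrix.mul_fin_two,
        Matrix.mul_fin_two]
      ext i j; fin_cases i <;> fin_cases j <;> simp [mul_comm]
  · -- transfer
    have hns : NS (d : Matrix (Fin 2) (Fin 2) F) := by
      right; right; exact hab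
    set t := (d : Matrix (Fin 2) (Fin 2) F).trace with ht
    have htab : t = a + b := by rw [ht, Matrix.trace_fin_two]
    have hroot : a ^ 2 - t * a + 1 = 0 := by
      rw [htab]; linear_combination -hdet
    have ht4 : t ^ 2 ≠ 4 := by
      intro h
      apply hab
      have : (a - b) ^ 2 = 0 := by
        rw [htab] at h
        linear_combination h - 4 * hdet
      exact sub_eq_zero.mp (pow_eq_zero_iff (two_ne_zero) |>.mp this)
    obtain ⟨c, hc⟩ := isConj_iff.mp (conj_C'_odd hodd d hns ht4)
    set e : Matrix.SpecialLinearGroup (Fin 2) F ≃* Matrix.SpecialLinearGroup (Fin 2) F :=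
      MulAut.conj c with he
    have hed : e d = C' t := by rw [he, MulAut.conj_apply]; exact hc
    set Cd := Subgroup.centralizer ({d} : Set (Matrix.SpecialLinearGroup (Fin 2) F)) with hCd
    have hT : Tor t = Cd.map (e : Matrix.SpecialLinearGroup (Fin 2) F →* Matrix.SpecialLinearGroup (Fin 2) F) := by
      show Subgroup.centralizer ({C' t} : Set (Matrix.SpecialLinearGroup (Fin 2) F)) = _
      rw [← hed, centralizer_map_equiv]
    have hN : NTor t = (Subgroup.normalizer (Cd : Set (Matrix.SpecialLinearGroup (Fin 2) F))).map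
        (e : Matrix.SpecialLinearGroup (Fin 2) F →* Matrix.SpecialLinearGroup (Fin 2) F) := by
      show Subgroup.normalizer ((Tor t : Subgroup (Matrix.SpecialLinearGroup (Fin 2) F)) :
        Set (Matrix.SpecialLinearGroup (Fin 2) F)) = _
      rw [hT, normalizer_map_equiv]
    have hcardT : Nat.card (Tor t) = Fintype.card F - 1 := card_torus_split t a hroot ht4
    set Nd := Subgroup.normalizer (Cd : Set (Matrix.SpecialLinearGroup (Fin 2) F)) with hNd
    have eN : Nd ≃* NTor t := by
      rw [hN]
      exact Subgroup.equivMapOfInjective Nd _ e.injective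
    refine ⟨?_, ?_, ?_⟩
    · rw [Nat.card_congr eN.toEquiv, card_NTor hodd t ht4, hcardT]
    · rw [card_conjClasses_congr eN]
      have := card_classes hodd t ht4
      rw [hcardT] at this
      have hq : 3 ≤ Fintype.card F := by
        by_contra hlt
        push Not at hlt
        have h1 : 1 < Fintype.card F := Fintype.one_lt_card
        have : Fintype.card F = 2 := by omega
        rw [this] at hodd
        exact absurd hodd (by decide)
      have : 2 * Nat.card (ConjClasses (Subgroup.normalizer ((Tor t : Subgroup (Matrix.SpecialLinearGroup (Fin 2) F)) : Set (Matrix.SpecialLinearGroup (Fin 2) F)))) = Fintype.card F - 1 + 6 := this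
      omega
    · intro g hg hgC
      have h1 : e g ∈ NTor t := by
        rw [hN]; exact Subgroup.mem_map_of_mem _ hg
      have h2' : e g ∉ Tor t := by
        rw [hT]
        intro h
        obtain ⟨x, hx, hxe⟩ := Subgroup.mem_map.mp h
        have : x = g := e.injective hxe
        rw [this] at hx
        exact hgC hx
      have h3 := sq_of_mem_NTor hodd t ht4 (e g) h1 h2'
      rw [← map_mul, he, MulAut.conj_apply] at h3
      have h4 : g * g = N1 := by
        have : g * g = c⁻¹ * (c * (g * g) * c⁻¹) * c := by group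
        rw [this, h3, mul_assoc, N1_comm, ← mul_assoc, inv_mul_cancel, one_mul]
      rw [← Matrix.SpecialLinearGroup.coe_mul, h4, N1_val]

end Cfsg.Agent.Lib.Helper4_SL2SplitTorus
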