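import Mathlib

namespace Cfsg.Agent.Lib.Helper4_SL34
open Matrix

variable {F : Type*} [Field F]

theorem card_center [Fintype F] (hF : Fintype.card F = 4) :
    Nat.card ↥(Subgroup.center (Matrix.SpecialLinearGroup (Fin 3) F)) = 3 := by
  classical
  have e := Matrix.SpecialLinearGroup.center_equiv_rootsOfUnity' (R := F) (0 : Fin 3)
  rw [Nat.card_congr e.toEquiv]
  have hU : Fintype.card Fˣ = 3 := by rw [Fintype.card_units, hF]
  have htop : rootsOfUnity (Fintype.card (Fin 3)) F = ⊤ := by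
    rw [eq_top_iff]
    intro u _
    rw [mem_rootsOfUnity, Fintype.card_fin, ← hU]
    exact pow_card_eq_one
  rw [htop, Nat.card_congr (Subgroup.topEquiv (G := Fˣ)).toEquiv, Nat.card_eq_fintype_card, hU]

/-- the diagonal element diag(1, λ, λ²). -/
def xdiag (lam : F) (h : lam ^ 3 = 1) : Matrix.SpecialLinearGroup (Fin 3) F :=
  ⟨Matrix.diagonal ![1, lam, lam ^ 2], by
    rw [Matrix.det_diagonal, Fin.prod_univ_three]
    simp
    rw [← h]; ring⟩

/-- the cyclic permutation matrix. -/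
def Pcyc : Matrix.SpecialLinearGroup (Fin 3) F :=
  ⟨!![0, 1, 0; 0, 0, 1; 1, 0, 0], by
    rw [Matrix.det_fin_three]
    simp⟩

theorem comm_rel (lam : F) (h : lam ^ 3 = 1) :
    ((Pcyc : Matrix.SpecialLinearGroup (Fin 3) F) : Matrix (Fin 3) (Fin 3) F) *
      (xdiag lam h : Matrix (Fin 3) (Fin 3) F) =
    (lam • (1 : Matrix (Fin 3) (Fin 3) F)) * (xdiag lam h : Matrix (Fin 3) (Fin 3) F) *
      ((Pcyc : Matrix.SpecialLinearGroup (Fin 3) F) : Matrix (Fin 3) (Fin 3) F) := by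
  have h3 : lam * (lam * lam) = 1 := by rw [← h]; ring
  unfold xdiag Pcyc
  ext i j
  fin_cases i <;> fin_cases j <;>
    simp [Matrix.mul_apply, Matrix.diagonal_apply, h3, pow_two]


open scoped commutatorElement in
theorem no_complement [Fintype F] (hF : Fintype.card F = 4) :
    ¬ ∃ K : Subgroup (Matrix.SpecialLinearGroup (Fin 3) F),
      Subgroup.IsComplement' (Subgroup.center (Matrix.SpecialLinearGroup (Fin 3) F)) K := by
  classical
  rintro ⟨K, hK⟩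
  have hU : Fintype.card Fˣ = 3 := by rw [Fintype.card_units, hF]
  obtain ⟨lam, hlam1, hlam3⟩ : ∃ lam : F, lam ≠ 1 ∧ lam ^ 3 = 1 := by
    obtain ⟨u, hu⟩ := Fintype.exists_ne_of_one_lt_card (by rw [hU]; norm_num) (1 : Fˣ)
    refine ⟨u, fun h => hu (Units.ext h), ?_⟩
    rw [← Units.val_pow_eq_pow_val, ← hU, pow_card_eq_one]
    rfl
  set x := xdiag lam hlam3 with hx
  set P : Matrix.SpecialLinearGroup (Fin 3) F := Pcyc with hP
  let s : Matrix.SpecialLinearGroup (Fin 3) F := ⟨lam • (1 : Matrix (Fin 3) (Fin 3) F), by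
    rw [Matrix.det_smul, Matrix.det_one, Fintype.card_fin, hlam3, mul_one]⟩
  have hrel : P * x = s * x * P := by
    apply Subtype.ext
    rw [Matrix.SpecialLinearGroup.coe_mul, Matrix.SpecialLinearGroup.coe_mul,
      Matrix.SpecialLinearGroup.coe_mul]
    exact comm_rel lam hlam3
  have hs : s = ⁅P, x⁆ := by
    rw [commutatorElement_def, hrel]; group
  have hsZ : s ∈ Subgroup.center (Matrix.SpecialLinearGroup (Fin 3) F) := by
    rw [Matrix.SpecialLinearGroup.mem_center_iff]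
    refine ⟨lam, by rw [Fintype.card_fin]; exact hlam3, ?_⟩
    show Matrix.scalar (Fin 3) lam = lam • (1 : Matrix (Fin 3) (Fin 3) F)
    ext i j
    simp [Matrix.scalar_apply, Matrix.diagonal_apply, Matrix.one_apply]
  have hs1 : s ≠ 1 := by
    intro h
    have := congrArg (fun g : Matrix.SpecialLinearGroup (Fin 3) F =>
      (g : Matrix (Fin 3) (Fin 3) F) 0 0) h
    simp [s] at this
    exact hlam1 this
  have hcomp := (Subgroup.isComplement'_def.mp hK)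
  obtain ⟨⟨⟨z₁, hz₁⟩, ⟨k₁, hk₁⟩⟩, h1, -⟩ := hcomp.existsUnique P
  obtain ⟨⟨⟨z₂, hz₂⟩, ⟨k₂, hk₂⟩⟩, h2, -⟩ := hcomp.existsUnique x
  simp only at h1 h2
  have hz₁c := Subgroup.mem_center_iff.mp hz₁
  have hz₂c := Subgroup.mem_center_iff.mp hz₂
  have hsK : s ∈ K := by
    rw [hs, ← h1, ← h2, commutatorElement_def]
    have e : z₁ * k₁ * (z₂ * k₂) * (z₁ * k₁)⁻¹ * (z₂ * k₂)⁻¹ = k₁ * k₂ * k₁⁻¹ * k₂⁻¹ := by
      have c1 : ∀ g, g * z₁ = z₁ * g := hz₁c
      have c2 : ∀ g, g * z₂ = z₂ * g := hz₂c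
      have a1 : ∀ g, z₁ * g * z₁⁻¹ = g := fun g => by
        rw [← c1 g, mul_assoc, mul_inv_cancel, mul_one]
      have a2 : ∀ g, z₂ * g * z₂⁻¹ = g := fun g => by
        rw [← c2 g, mul_assoc, mul_inv_cancel, mul_one]
      calc z₁ * k₁ * (z₂ * k₂) * (z₁ * k₁)⁻¹ * (z₂ * k₂)⁻¹
          = z₁ * (k₁ * (z₂ * k₂) * k₁⁻¹) * z₁⁻¹ * (z₂ * k₂)⁻¹ := by group
        _ = k₁ * (z₂ * k₂) * k₁⁻¹ * (z₂ * k₂)⁻¹ := by rw [a1]
        _ = (k₁ * z₂) * k₂ * k₁⁻¹ * k₂⁻¹ * z₂⁻¹ := by group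
        _ = (z₂ * k₁) * k₂ * k₁⁻¹ * k₂⁻¹ * z₂⁻¹ := by rw [c2 k₁]
        _ = z₂ * (k₁ * k₂ * k₁⁻¹ * k₂⁻¹) * z₂⁻¹ := by group
        _ = _ := by rw [a2]
    rw [e]
    exact K.mul_mem (K.mul_mem (K.mul_mem hk₁ hk₂) (K.inv_mem hk₁)) (K.inv_mem hk₂)
  have := Subgroup.disjoint_def.mp hK.disjoint hsZ hsK
  exact hs1 this

end Cfsg.Agent.Lib.Helper4_SL34
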