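import Mathlib
import Cfsg.Agent.Lib.Helper9_SLn

set_option autoImplicit false

namespace Cfsg.Agent.Lib.Helper4_SLGen

open Matrix Matrix.SpecialLinearGroup
open scoped commutatorElement
open Cfsg.Agent.Helper9SLn

variable {K : Type*} [Field K]

/-- sign function -/
def eps (n : ℕ) (k : Fin (n + 1)) : K := if k.val = n then (-1) ^ n else 1

lemma eps_mul_self (n : ℕ) (k : Fin (n + 1)) : (eps n k : K) * eps n k = 1 := by
  unfold eps
  split_ifs
  · rw [← mul_pow]; simp
  · simp

lemma fin_succ_iff (n : ℕ) (k j : Fin (n + 1)) :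
    j = k + 1 ↔ (j.val = k.val + 1 ∨ (k.val = n ∧ j.val = 0)) := by
  rw [Fin.ext_iff, Fin.val_add_one]
  have hk := k.isLt
  have hj := j.isLt
  by_cases h : k = Fin.last n
  · rw [if_pos h]
    have : k.val = n := by rw [h]; rfl
    omega
  · rw [if_neg h]
    have : k.val ≠ n := fun h' => h (Fin.ext (by rw [h']; rfl))
    omega

lemma w_apply (n : ℕ) (w : Matrix (Fin (n + 1)) (Fin (n + 1)) K)
    (hw : w = Matrix.of (fun i j : Fin (n + 1) => if j.val = i.val + 1 then (1 : K) else
      if i.val = n ∧ j.val = 0 then (-1) ^ n else 0)) (k j : Fin (n + 1)) :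
    w k j = if j = k + 1 then eps n k else 0 := by
  rw [hw, Matrix.of_apply]
  have hk := k.isLt
  have hj := j.isLt
  by_cases h1 : j.val = k.val + 1
  · rw [if_pos h1, if_pos ((fin_succ_iff n k j).2 (Or.inl h1))]
    unfold eps
    rw [if_neg (by omega)]
  · rw [if_neg h1]
    by_cases h2 : k.val = n ∧ j.val = 0
    · rw [if_pos h2, if_pos ((fin_succ_iff n k j).2 (Or.inr h2))]
      unfold eps
      rw [if_pos h2.1]
    · rw [if_neg h2, if_neg]
      rw [fin_succ_iff]
      tauto

lemma w_mulVec (n : ℕ) (w : Matrix (Fin (n + 1)) (Fin (n + 1)) K)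
    (hw : w = Matrix.of (fun i j : Fin (n + 1) => if j.val = i.val + 1 then (1 : K) else
      if i.val = n ∧ j.val = 0 then (-1) ^ n else 0)) (v : Fin (n + 1) → K) (k : Fin (n + 1)) :
    (w *ᵥ v) k = eps n k * v (k + 1) := by
  unfold Matrix.mulVec dotProduct
  simp_rw [w_apply n w hw]
  simp


lemma shift (n : ℕ) (w : SpecialLinearGroup (Fin (n + 1)) K)
    (hw : (w : Matrix (Fin (n + 1)) (Fin (n + 1)) K) = Matrix.of (fun i j : Fin (n + 1) => if j.val = i.val + 1 then (1 : K) else
      if i.val = n ∧ j.val = 0 then (-1) ^ n else 0)) {i j : Fin (n + 1)} (hij : i ≠ j) (a : K) :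
    SpecialLinearGroup.transvection hij a * w =
      w * SpecialLinearGroup.transvection (show i + 1 ≠ j + 1 from fun h => hij (add_right_cancel h))
        (eps n i * eps n j * a) := by
  apply sl_ext
  intro v
  rw [mul_mulVec, mul_mulVec, transvection_mulVec, transvection_mulVec]
  ext k
  simp only [w_mulVec n w.1 hw]
  by_cases hk : k = i
  · subst hk
    rw [Function.update_self, Function.update_self]
    have := eps_mul_self (K := K) n k
    linear_combination (-(a * eps n j * v (j + 1))) * this
  · rw [Function.update_of_ne hk, Function.update_of_ne (fun h => hk (add_right_cancel h))]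
    exact w_mulVec n w.1 hw v k


lemma natCast_surj [Fintype K] (hK : Fintype.card K ≤ 3) (a : K) : ∃ m : ℕ, a = (m : K) := by
  classical
  by_cases h2 : (2 : K) = 0
  · by_cases h0 : a = 0
    · exact ⟨0, by simp [h0]⟩
    by_cases h1 : a = 1
    · exact ⟨1, by simp [h1]⟩
    exfalso
    have hcard : ({0, 1, a, a + 1} : Finset K).card = 4 := by
      rw [Finset.card_insert_of_notMem, Finset.card_insert_of_notMem,
        Finset.card_insert_of_notMem, Finset.card_singleton]
      · simp
      · simp only [Finset.mem_insert, Finset.mem_singleton, not_or]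
        refine ⟨Ne.symm h1, ?_⟩
        intro h
        apply h0
        linear_combination (-1 : K) * h
      · simp only [Finset.mem_insert, Finset.mem_singleton, not_or]
        refine ⟨zero_ne_one, Ne.symm h0, ?_⟩
        intro h
        apply h1
        linear_combination (-1 : K) * h - h2
    have := Finset.card_le_univ ({0, 1, a, a + 1} : Finset K)
    omega
  · have hcard : ({0, 1, 2} : Finset K).card = 3 := by
      rw [Finset.card_insert_of_notMem, Finset.card_insert_of_notMem, Finset.card_singleton]
      · simp only [Finset.mem_singleton]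
        intro h
        have : (1 : K) = 0 := by linear_combination -h
        exact one_ne_zero this
      · simp only [Finset.mem_insert, Finset.mem_singleton, not_or]
        exact ⟨zero_ne_one, Ne.symm h2⟩
    have huniv : ({0, 1, 2} : Finset K) = Finset.univ := by
      apply Finset.eq_univ_of_card
      have := Finset.card_le_univ ({0, 1, 2} : Finset K)
      omega
    have ha : a ∈ ({0, 1, 2} : Finset K) := by rw [huniv]; exact Finset.mem_univ _
    simp only [Finset.mem_insert, Finset.mem_singleton] at ha
    rcases ha with h | h | h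
    · exact ⟨0, by simp [h]⟩
    · exact ⟨1, by simp [h]⟩
    · exact ⟨2, by simp [h]⟩

lemma transvection_natCast {ι : Type*} [Fintype ι] [DecidableEq ι] {i j : ι} (hij : i ≠ j) (m : ℕ) :
    SpecialLinearGroup.transvection hij (m : K) = (SpecialLinearGroup.transvection hij (1 : K)) ^ m := by
  induction m with
  | zero => simp
  | succ m ih => rw [Nat.cast_succ, transvection_add, ih, pow_succ]


section main
variable (n : ℕ) (hn : 1 ≤ n) (H : Subgroup (SpecialLinearGroup (Fin (n + 1)) K))
  (w : SpecialLinearGroup (Fin (n + 1)) K)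
  (hw : (w : Matrix (Fin (n + 1)) (Fin (n + 1)) K) = Matrix.of (fun i j : Fin (n + 1) => if j.val = i.val + 1 then (1 : K) else
      if i.val = n ∧ j.val = 0 then (-1) ^ n else 0))
  (hwH : w ∈ H)

/-- the predicate: all transvections at position (i,j) are in H -/
def Q (H : Subgroup (SpecialLinearGroup (Fin (n + 1)) K)) (i j : Fin (n + 1)) : Prop :=
  ∀ (hij : i ≠ j) (a : K), SpecialLinearGroup.transvection hij a ∈ H

include hw hwH in
lemma Q_shift (i j : Fin (n + 1)) (h : Q n H i j) : Q n H (i + 1) (j + 1) := by
  intro hij' b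
  have hij : i ≠ j := fun h' => hij' (by rw [h'])
  have h1 := shift n w hw hij (eps n i * eps n j * b)
  have h2 : (eps n i * eps n j * (eps n i * eps n j * b) : K) = b := by
    have e1 := eps_mul_self (K := K) n i
    have e2 := eps_mul_self (K := K) n j
    linear_combination (eps n j * eps n j * b) * e1 + b * e2
  have h3 : SpecialLinearGroup.transvection hij' b
      = w⁻¹ * (SpecialLinearGroup.transvection hij (eps n i * eps n j * b) * w) := by
    rw [h1]
    simp only [h2]
    group
  rw [h3]
  exact H.mul_mem (H.inv_mem hwH) (H.mul_mem (h hij _) hwH)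

include hw hwH in
lemma Q_succ (h01 : Q n H 0 1) (i : Fin (n + 1)) : Q n H i (i + 1) := by
  induction i using Fin.induction with
  | zero => simpa using h01
  | succ i ih =>
    have := Q_shift n H w hw hwH _ _ ih
    rwa [Fin.coeSucc_eq_succ] at this

include hn hw hwH in
lemma Q_all (h01 : Q n H 0 1) : ∀ d : ℕ, ∀ i j : Fin (n + 1), (j - i).val = d + 1 → Q n H i j := by
  have hone : (1 : Fin (n + 1)).val = 1 := by
    rw [Fin.val_one']
    exact Nat.mod_eq_of_lt (by omega)
  intro d
  induction d with
  | zero =>
    intro i j hd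
    have : j - i = 1 := Fin.ext (by rw [hd, hone])
    have hj : j = i + 1 := by rw [← this]; abel
    rw [hj]
    exact Q_succ n H w hw hwH h01 i
  | succ d ih =>
    intro i j hd
    have hne : j - i ≠ 0 := by
      intro h
      rw [h] at hd
      simp at hd
    have hk : ((j - 1) - i).val = d + 1 := by
      have : (j - 1) - i = (j - i) - 1 := by abel
      rw [this, Fin.val_sub_one_of_ne_zero hne, hd]
      rfl
    have hik := ih i (j - 1) hk
    have hkj : Q n H (j - 1) j := by
      have := Q_succ n H w hw hwH h01 (j - 1)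
      rwa [sub_add_cancel] at this
    intro hij a
    have hik' : i ≠ j - 1 := by
      intro h
      rw [← h] at hk
      simp at hk
    have hkj' : j - 1 ≠ j := by
      intro h
      have : (1 : Fin (n + 1)) = 0 := by
        have h' : j - 1 = j - 0 := by rw [h]; simp
        exact (sub_right_injective h')
      rw [this] at hone
      simp at hone
    rw [transvection_eq_comm hij hik' hkj' a, commutatorElement_def]
    exact H.mul_mem (H.mul_mem (H.mul_mem (hik hik' a) (hkj hkj' 1)) (H.inv_mem (hik hik' a)))
      (H.inv_mem (hkj hkj' 1))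

include hn hw hwH in
lemma eq_top_of (h01 : Q n H 0 1) : H = ⊤ := by
  have : Nontrivial (Fin (n + 1)) := Fin.nontrivial_iff_two_le.2 (by omega)
  rw [eq_top_iff]
  intro M _
  apply transvection_induction (fun M => M ∈ H) M
  · intro i j hij a
    have hne : j - i ≠ 0 := fun h => hij (sub_eq_zero.1 h).symm
    have hpos : 0 < (j - i).val := by
      rcases Nat.eq_zero_or_pos (j - i).val with h | h
      · exact absurd (Fin.ext h) hne
      · exact h
    have := Q_all n hn H w hw hwH h01 ((j - i).val - 1) i j (by omega)
    exact this hij a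
  · intro A B hA hB
    exact H.mul_mem hA hB

end main

theorem S2403_main [Fintype K] (hK : Fintype.card K ≤ 3) (n : ℕ) (hn : 1 ≤ n)
    (x w : Matrix.SpecialLinearGroup (Fin (n + 1)) K)
    (hx : (x : Matrix (Fin (n + 1)) (Fin (n + 1)) K) = Matrix.transvection (0 : Fin (n + 1)) (1 : Fin (n + 1)) 1)
    (hw : (w : Matrix (Fin (n + 1)) (Fin (n + 1)) K) =
      Matrix.of (fun i j => if j.val = i.val + 1 then 1 else if i.val = n ∧ j.val = 0 then (-1) ^ n else 0)) :
    Subgroup.closure ({x, w} : Set (Matrix.SpecialLinearGroup (Fin (n + 1)) K)) ⊔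
      Subgroup.center (Matrix.SpecialLinearGroup (Fin (n + 1)) K) = ⊤ := by
  have hxH : x ∈ Subgroup.closure ({x, w} : Set (Matrix.SpecialLinearGroup (Fin (n + 1)) K)) :=
    Subgroup.subset_closure (by simp)
  have hwH : w ∈ Subgroup.closure ({x, w} : Set (Matrix.SpecialLinearGroup (Fin (n + 1)) K)) :=
    Subgroup.subset_closure (by simp)
  have h01 : Q n (Subgroup.closure ({x, w} : Set (Matrix.SpecialLinearGroup (Fin (n + 1)) K))) 0 1 := by
    intro hij a
    obtain ⟨m, rfl⟩ := natCast_surj hK a
    rw [transvection_natCast]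
    apply Subgroup.pow_mem
    have : SpecialLinearGroup.transvection hij (1 : K) = x := by
      apply Subtype.ext
      rw [hx]
      rfl
    rw [this]
    exact hxH
  rw [eq_top_of n hn _ w hw hwH h01]
  simp

end Cfsg.Agent.Lib.Helper4_SLGen
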