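import Mathlib
import Cfsg.Agent.Lib.Helper4_SLGen

set_option autoImplicit false

namespace Cfsg.Agent.Lib.Helper4_SLGen2

open Matrix Matrix.SpecialLinearGroup
open scoped commutatorElement
open Cfsg.Agent.Helper9SLn Cfsg.Agent.Lib.Helper4_SLGen

variable {K : Type*} [Field K]

lemma diag_mul_transvection {ι : Type*} [Fintype ι] [DecidableEq ι]
    (E : SpecialLinearGroup ι K) (e : ι → K) (hE : (E : Matrix ι ι K) = Matrix.diagonal e)
    {i j : ι} (hij : i ≠ j) (hj : e j ≠ 0) (a : K) :
    E * SpecialLinearGroup.transvection hij a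
      = SpecialLinearGroup.transvection hij (e i * (e j)⁻¹ * a) * E := by
  apply sl_ext
  intro v
  rw [mul_mulVec, mul_mulVec, transvection_mulVec, transvection_mulVec, hE]
  ext l
  rw [Matrix.mulVec_diagonal]
  by_cases hl : l = i
  · subst hl
    rw [Function.update_self, Function.update_self, Matrix.mulVec_diagonal, Matrix.mulVec_diagonal]
    field_simp
  · rw [Function.update_of_ne hl, Function.update_of_ne hl, Matrix.mulVec_diagonal]

/-- abstract group computation -/
lemma comm_calc {G : Type*} [Group G] (T : K → G) (hT : ∀ a b, T (a + b) = T a * T b)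
    (h D w : G) (α δ : K)
    (ch : ∀ a, h * T a = T (α * a) * h) (cD : ∀ a, D * T a = T (δ * a) * D)
    (hDw : D * w = w * h) (hhD : h * D = D * h) :
    ⁅h, (T 1 * w) * h * (T 1 * w)⁻¹⁆ = T ((α - 1) * (1 - δ)) := by
  have hT0 : T 0 = 1 := by
    have := hT 0 0
    rw [add_zero] at this
    exact (mul_eq_left.1 this.symm)
  have hTneg : ∀ a, (T a)⁻¹ = T (-a) := by
    intro a
    rw [inv_eq_iff_mul_eq_one, ← hT, add_neg_cancel, hT0]
  have e1 : (T 1 * w) * h * (T 1 * w)⁻¹ = T (1 - δ) * D := by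
    rw [mul_inv_eq_iff_eq_mul]
    have : T (1 - δ) * D * (T 1 * w) = T (1 - δ) * (D * T 1) * w := by group
    rw [this, cD 1]
    have : T (1 - δ) * (T (δ * 1) * D) * w = (T (1 - δ) * T (δ * 1)) * (D * w) := by group
    rw [this, ← hT, hDw]
    have : (1 - δ + δ * 1 : K) = 1 := by ring
    rw [this]
    group
  rw [e1, commutatorElement_def]
  have : h * (T (1 - δ) * D) * h⁻¹ * (T (1 - δ) * D)⁻¹
      = (h * T (1 - δ)) * (D * h⁻¹ * D⁻¹) * (T (1 - δ))⁻¹ := by group
  rw [this, ch]
  have h2 : D * h⁻¹ * D⁻¹ = h⁻¹ := by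
    have hc : Commute h D := hhD
    have := hc.inv_left.eq
    rw [← this]
    group
  rw [h2, hTneg]
  have : T (α * (1 - δ)) * h * h⁻¹ * T (-(1 - δ)) = T (α * (1 - δ)) * T (-(1 - δ)) := by group
  rw [this, ← hT]
  congr 1
  ring


lemma span_squares [Fintype K] (S : AddSubgroup K) (hS : ∀ u : K, u * u ∈ S) (a : K) : a ∈ S := by
  by_cases h2 : (2 : K) = 0
  · have hchar : ringChar K = 2 := by
      have : CharP K 2 := by
        have := (CharP.ringChar_of_prime_eq_zero (R := K) Nat.prime_two (by exact_mod_cast h2))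
        rw [← this]
        infer_instance
      exact ringChar.eq K 2
    obtain ⟨u, rfl⟩ := FiniteField.isSquare_of_char_two hchar a
    exact hS u
  · have : a = ((a + 1) / 2) * ((a + 1) / 2) - ((a - 1) / 2) * ((a - 1) / 2) := by
      field_simp
      ring
    rw [this]
    exact S.sub_mem (hS _) (hS _)

lemma gen_facts [Fintype K] (hK : 3 < Fintype.card K) (k : Kˣ) (hk : ∀ u : Kˣ, u ∈ Subgroup.zpowers k) :
    ((k : K) * k ≠ 1) ∧ ((k : K) ≠ 1) := by
  have h1 : orderOf k = Nat.card Kˣ := orderOf_eq_card_of_forall_mem_zpowers hk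
  have h2 : Nat.card Kˣ = Fintype.card K - 1 := by
    classical
    rw [Nat.card_eq_fintype_card, Fintype.card_units]
  have h3 : 3 ≤ orderOf k := by omega
  constructor
  · intro h
    have : k ^ 2 = 1 := by
      apply Units.ext
      rw [Units.val_pow_eq_pow_val, pow_two, h]
      rfl
    have := orderOf_le_of_pow_eq_one (by norm_num) this
    omega
  · intro h
    have : k ^ 1 = 1 := by
      apply Units.ext
      rw [pow_one, h]
      rfl
    have := orderOf_le_of_pow_eq_one (by norm_num) this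
    omega

lemma units_pow [Fintype K] (k : Kˣ) (hk : ∀ u : Kˣ, u ∈ Subgroup.zpowers k) (u : K) (hu : u ≠ 0) :
    ∃ m : ℕ, u = (k : K) ^ m := by
  have h1 := hk (Units.mk0 u hu)
  rw [← (isOfFinOrder_of_finite k).mem_powers_iff_mem_zpowers, Submonoid.mem_powers_iff] at h1
  obtain ⟨m, hm⟩ := h1
  refine ⟨m, ?_⟩
  have := congrArg Units.val hm
  rw [Units.val_pow_eq_pow_val] at this
  exact this.symm

/-- all T a are in H once one nonzero is and h acts by multiplying by k² -/
lemma all_T [Fintype K] {G : Type*} [Group G] (H : Subgroup G) (T : K → G)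
    (hT : ∀ a b, T (a + b) = T a * T b) (h : G) (hh : h ∈ H) (k : Kˣ)
    (hk : ∀ u : Kˣ, u ∈ Subgroup.zpowers k)
    (ch : ∀ a, h * T a = T ((k : K) * k * a) * h) (c : K) (hc : c ≠ 0) (hTc : T c ∈ H) (a : K) :
    T a ∈ H := by
  have hT0 : T 0 = 1 := by
    have := hT 0 0
    rw [add_zero] at this
    exact (mul_eq_left.1 this.symm)
  have hTneg : ∀ a, (T a)⁻¹ = T (-a) := by
    intro a
    rw [inv_eq_iff_mul_eq_one, ← hT, add_neg_cancel, hT0]
  let S : AddSubgroup K :=
    { carrier := {a | T (a * c) ∈ H}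
      zero_mem' := by
        show T (0 * c) ∈ H
        rw [zero_mul, hT0]; exact H.one_mem
      add_mem' := by
        intro a b ha hb
        show T ((a + b) * c) ∈ H
        rw [add_mul, hT]; exact H.mul_mem ha hb
      neg_mem' := by
        intro a ha
        show T (-a * c) ∈ H
        rw [neg_mul, ← hTneg]; exact H.inv_mem ha }
  have hpow : ∀ m : ℕ, h ^ m * T c = T (((k : K) * k) ^ m * c) * h ^ m := by
    intro m
    induction m with
    | zero => simp
    | succ m ih =>
      rw [pow_succ', mul_assoc, ih, ← mul_assoc, ch, mul_assoc, pow_succ']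
      congr 2
      ring
  have hsq : ∀ u : K, u * u ∈ S := by
    intro u
    by_cases hu : u = 0
    · rw [hu, zero_mul]; exact S.zero_mem
    · obtain ⟨m, rfl⟩ := units_pow k hk u hu
      show T ((k : K) ^ m * (k : K) ^ m * c) ∈ H
      have e : (k : K) ^ m * (k : K) ^ m = ((k : K) * k) ^ m := by rw [mul_pow]
      rw [e]
      have := hpow m
      have e2 : T (((k : K) * k) ^ m * c) = h ^ m * T c * (h ^ m)⁻¹ := by
        rw [this]; group
      rw [e2]
      exact H.mul_mem (H.mul_mem (H.pow_mem hh m) hTc) (H.inv_mem (H.pow_mem hh m))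
  have := span_squares S hsq (a / c)
  have h3 : T (a / c * c) ∈ H := this
  rwa [div_mul_cancel₀ a hc] at h3


theorem S2402_main [Fintype K] (hK : 3 < Fintype.card K) (n : ℕ) (hn : 1 ≤ n)
    (k : Kˣ) (hk : ∀ u : Kˣ, u ∈ Subgroup.zpowers k)
    (h x w : Matrix.SpecialLinearGroup (Fin (n + 1)) K)
    (hh : (h : Matrix (Fin (n + 1)) (Fin (n + 1)) K) =
      Matrix.diagonal (fun i => if i.val = 0 then (k : K) else if i.val = 1 then ((k⁻¹ : Kˣ) : K) else 1))
    (hx : (x : Matrix (Fin (n + 1)) (Fin (n + 1)) K) = Matrix.transvection (0 : Fin (n + 1)) (1 : Fin (n + 1)) 1)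
    (hw : (w : Matrix (Fin (n + 1)) (Fin (n + 1)) K) =
      Matrix.of (fun i j => if j.val = i.val + 1 then 1 else if i.val = n ∧ j.val = 0 then (-1) ^ n else 0)) :
    Subgroup.closure ({h, x * w} : Set (Matrix.SpecialLinearGroup (Fin (n + 1)) K)) ⊔
      Subgroup.center (Matrix.SpecialLinearGroup (Fin (n + 1)) K) = ⊤ := by
  obtain ⟨hkk, hk1⟩ := gen_facts hK k hk
  have hk0 : (k : K) ≠ 0 := Units.ne_zero k
  set H := Subgroup.closure ({h, x * w} : Set (Matrix.SpecialLinearGroup (Fin (n + 1)) K)) with hH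
  have hhH : h ∈ H := Subgroup.subset_closure (by simp)
  have hgH : x * w ∈ H := Subgroup.subset_closure (by simp)
  have hone : (1 : Fin (n + 1)).val = 1 := by
    rw [Fin.val_one']
    exact Nat.mod_eq_of_lt (by omega)
  have h01 : (0 : Fin (n + 1)) ≠ 1 := by
    intro h'
    have := congrArg Fin.val h'
    rw [hone] at this
    simp at this
  set hd : Fin (n + 1) → K :=
    fun i => if i.val = 0 then (k : K) else if i.val = 1 then ((k⁻¹ : Kˣ) : K) else 1 with hhd
  have hd0 : hd 0 = k := by simp [hhd]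
  have hd1 : hd 1 = (k : K)⁻¹ := by
    simp only [hhd, hone]
    simp
  have hd2 : hd (1 + 1) = k ∨ hd (1 + 1) = 1 := by
    simp only [hhd]
    split_ifs
    · left; rfl
    · exfalso
      rename_i h1 h2
      have : ((1 : Fin (n + 1)) + 1).val = (1 + 1) % (n + 1) := by
        rw [Fin.val_add, hone]
      rw [this] at h1 h2
      rcases Nat.lt_or_ge 2 (n + 1) with h3 | h3
      · rw [Nat.mod_eq_of_lt h3] at h2; omega
      · have : n = 1 := by omega
        subst this
        simp at h1
    · right; rfl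
  have hdne : ∀ i, hd i ≠ 0 := by
    intro i
    simp only [hhd]
    split_ifs
    · exact hk0
    · exact Units.ne_zero _
    · exact one_ne_zero
  -- D
  have hdetD : (Matrix.diagonal (fun i : Fin (n + 1) => hd (i + 1))).det = 1 := by
    rw [Matrix.det_diagonal]
    have := h.2
    rw [hh, Matrix.det_diagonal] at this
    rw [← this]
    exact Equiv.prod_comp (Equiv.addRight (1 : Fin (n + 1))) hd
  set D : Matrix.SpecialLinearGroup (Fin (n + 1)) K := ⟨_, hdetD⟩ with hD
  have hDc : (D : Matrix (Fin (n + 1)) (Fin (n + 1)) K) = Matrix.diagonal (fun i => hd (i + 1)) := rfl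
  have hDw : D * w = w * h := by
    apply sl_ext
    intro v
    rw [mul_mulVec, mul_mulVec, hDc, hh]
    ext l
    rw [Matrix.mulVec_diagonal, w_mulVec n w.1 hw, w_mulVec n w.1 hw, Matrix.mulVec_diagonal]
    ring
  have hhD : h * D = D * h := by
    apply Subtype.ext
    show (h : Matrix (Fin (n + 1)) (Fin (n + 1)) K) * D.1 = D.1 * h.1
    rw [hDc, hh, Matrix.diagonal_mul_diagonal, Matrix.diagonal_mul_diagonal]
    congr 1
    funext i
    exact mul_comm _ _
  set T : K → Matrix.SpecialLinearGroup (Fin (n + 1)) K :=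
    fun a => SpecialLinearGroup.transvection h01 a with hTdef
  have hT : ∀ a b, T (a + b) = T a * T b := fun a b => transvection_add h01 a b
  have hxT : x = T 1 := by
    apply Subtype.ext
    rw [hx]
    rfl
  have ch : ∀ a, h * T a = T (hd 0 * (hd 1)⁻¹ * a) * h :=
    fun a => diag_mul_transvection h hd hh h01 (hdne 1) a
  have cD : ∀ a, D * T a = T (hd (0 + 1) * (hd (1 + 1))⁻¹ * a) * D :=
    fun a => diag_mul_transvection D _ hDc h01 (hdne _) a
  have hα : hd 0 * (hd 1)⁻¹ = (k : K) * k := by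
    rw [hd0, hd1, inv_inv]
  have hy := comm_calc T hT h D w (hd 0 * (hd 1)⁻¹) (hd (0 + 1) * (hd (1 + 1))⁻¹) ch cD hDw hhD
  have hyH : T ((hd 0 * (hd 1)⁻¹ - 1) * (1 - hd (0 + 1) * (hd (1 + 1))⁻¹)) ∈ H := by
    rw [← hy, ← hxT, commutatorElement_def]
    have h1 : x * w * h * (x * w)⁻¹ ∈ H := H.mul_mem (H.mul_mem hgH hhH) (H.inv_mem hgH)
    exact H.mul_mem (H.mul_mem (H.mul_mem hhH h1) (H.inv_mem hhH)) (H.inv_mem h1)
  have hcne : (hd 0 * (hd 1)⁻¹ - 1) * (1 - hd (0 + 1) * (hd (1 + 1))⁻¹) ≠ 0 := by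
    apply mul_ne_zero
    · rw [hα]
      exact sub_ne_zero.2 hkk
    · rw [zero_add, hd1]
      rcases hd2 with h2 | h2
      · rw [h2]
        intro h'
        apply hkk
        have e : (k : K) * (k : K)⁻¹ = 1 := mul_inv_cancel₀ hk0
        linear_combination ((k : K) * k) * h' + ((k : K) * (k : K)⁻¹ + 1) * e
      · rw [h2]
        intro h'
        apply hk1
        rw [inv_one, mul_one] at h'
        have e : (k : K) * (k : K)⁻¹ = 1 := mul_inv_cancel₀ hk0
        linear_combination (k : K) * h' + e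
  have ch' : ∀ a, h * T a = T ((k : K) * k * a) * h := by
    intro a
    rw [← hα]
    exact ch a
  have hall : ∀ a, T a ∈ H := all_T H T hT h hhH k hk ch' _ hcne hyH
  have hQ : Q n H 0 1 := by
    intro hij a
    exact hall a
  have hwH : w ∈ H := by
    have : w = (T 1)⁻¹ * (x * w) := by rw [← hxT]; group
    rw [this]
    exact H.mul_mem (H.inv_mem (hall 1)) hgH
  rw [eq_top_of n hn H w hw hwH hQ]
  simp

end Cfsg.Agent.Lib.Helper4_SLGen2
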