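import Mathlib
import Cfsg.Agent.Lib.Helper4_GLSylow

set_option linter.all false
set_option autoImplicit false

namespace Cfsg.Agent.Lib.Helper4_SLSylow
open Matrix Cfsg.Agent.Lib.Helper4_GLSylow

variable {F : Type*} [Field F] [Fintype F]

noncomputable def slEquivKer (n : ℕ) :
    Matrix.SpecialLinearGroup (Fin n) F ≃
      (Matrix.GeneralLinearGroup.det : GL (Fin n) F →* Fˣ).ker where
  toFun A := ⟨Matrix.SpecialLinearGroup.toGL A, by
    rw [MonoidHom.mem_ker]
    apply Units.ext
    simp [Matrix.SpecialLinearGroup.toGL]⟩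
  invFun g := ⟨g.1.val, by
    have := g.2
    rw [MonoidHom.mem_ker] at this
    have h2 := congrArg Units.val this
    simpa using h2⟩
  left_inv A := by
    apply Subtype.ext
    rfl
  right_inv g := by
    apply Subtype.ext
    apply Units.ext
    rfl

theorem card_SL_mul (n : ℕ) (hn : 1 ≤ n) :
    Nat.card (Matrix.SpecialLinearGroup (Fin n) F) * (Fintype.card F - 1) =
      Nat.card (GL (Fin n) F) := by
  classical
  haveI : Nonempty (Fin n) := ⟨⟨0, hn⟩⟩
  have h1 := Subgroup.card_eq_card_quotient_mul_card_subgroup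
    (Matrix.GeneralLinearGroup.det : GL (Fin n) F →* Fˣ).ker
  have h2 : Nat.card (GL (Fin n) F ⧸ (Matrix.GeneralLinearGroup.det : GL (Fin n) F →* Fˣ).ker)
      = Fintype.card F - 1 := by
    rw [Nat.card_congr (QuotientGroup.quotientKerEquivOfSurjective _
      Matrix.GeneralLinearGroup.det_surjective).toEquiv,
      Nat.card_eq_fintype_card, Fintype.card_units]
  rw [h1, h2, ← Nat.card_congr (slEquivKer n), mul_comm]

/-- extend by the inverse of the product -/
noncomputable def ext1 (m : ℕ) : (Fin m → Fˣ) →* (Fin (m+1) → Fˣ) where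
  toFun c := fun i => if h : (i : ℕ) < m then c ⟨i, h⟩ else (∏ j, c j)⁻¹
  map_one' := by funext i; simp
  map_mul' c c' := by
    funext i
    simp only [Pi.mul_apply]
    split_ifs with h
    · rfl
    · rw [Finset.prod_mul_distrib, mul_inv]

theorem ext1_castSucc (m : ℕ) (c : Fin m → Fˣ) (i : Fin m) :
    ext1 (F := F) m c (Fin.castSucc i) = c i := by
  show (if h : ((Fin.castSucc i : Fin (m+1)) : ℕ) < m then c ⟨_, h⟩ else (∏ j, c j)⁻¹) = c i
  rw [dif_pos (by simp)]
  rfl

theorem ext1_last (m : ℕ) (c : Fin m → Fˣ) :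
    ext1 (F := F) m c (Fin.last m) = (∏ j, c j)⁻¹ := by
  show (if h : ((Fin.last m : Fin (m+1)) : ℕ) < m then c ⟨_, h⟩ else (∏ j, c j)⁻¹) = _
  rw [dif_neg (by simp)]

theorem ext1_prod (m : ℕ) (c : Fin m → Fˣ) : ∏ i, ext1 (F := F) m c i = 1 := by
  rw [Fin.prod_univ_castSucc]
  simp only [ext1_castSucc, ext1_last]
  exact mul_inv_cancel _

noncomputable def diagSL (m : ℕ) :
    (Fin m → Fˣ) →* Matrix.SpecialLinearGroup (Fin (m+1)) F where
  toFun c := ⟨Matrix.diagonal (fun i => ((ext1 m c i : Fˣ) : F)), by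
    rw [Matrix.det_diagonal, ← Units.coe_prod, ext1_prod]; rfl⟩
  map_one' := by
    apply Subtype.ext
    simp
  map_mul' c c' := by
    apply Subtype.ext
    show Matrix.diagonal _ = Matrix.diagonal _ * Matrix.diagonal _
    rw [Matrix.diagonal_mul_diagonal, map_mul]
    rfl

theorem diagSL_injective (m : ℕ) : Function.Injective (diagSL (F := F) m) := by
  intro c c' h
  have h1 : Matrix.diagonal (fun i => ((ext1 m c i : Fˣ) : F)) =
      Matrix.diagonal (fun i => ((ext1 m c' i : Fˣ) : F)) := congrArg Subtype.val h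
  have h2 := Matrix.diagonal_injective h1
  funext i
  have h3 := congrFun h2 (Fin.castSucc i)
  simp only [ext1_castSucc] at h3
  exact Units.ext h3

section main

theorem r_elt_det_one {q : ℕ} (hq : Fintype.card F = q) (n r : ℕ) [Fact r.Prime]
    (hr : ¬ r ∣ q - 1) (Q : Subgroup (GL (Fin n) F)) (hQ : IsPGroup r Q) :
    Q ≤ (Matrix.SpecialLinearGroup.toGL :
      Matrix.SpecialLinearGroup (Fin n) F →* GL (Fin n) F).range := by
  classical
  intro g hg
  obtain ⟨k, hk⟩ := hQ ⟨g, hg⟩
  have hk' : g ^ r ^ k = 1 := by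
    have := congrArg Subtype.val hk
    simpa using this
  have hdet : (Matrix.GeneralLinearGroup.det g) ^ r ^ k = 1 := by
    rw [← map_pow, hk', map_one]
  have hdet2 : (Matrix.GeneralLinearGroup.det g) ^ (q - 1) = 1 := by
    have : Fintype.card Fˣ = q - 1 := by rw [Fintype.card_units, hq]
    rw [← this]; exact pow_card_eq_one
  have hcop : Nat.Coprime (r ^ k) (q - 1) :=
    Nat.Coprime.pow_left _ ((Nat.Prime.coprime_iff_not_dvd Fact.out).mpr hr)
  have h1 : Matrix.GeneralLinearGroup.det g = 1 := by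
    have h := orderOf_dvd_of_pow_eq_one hdet
    have h' := orderOf_dvd_of_pow_eq_one hdet2
    have h3 : orderOf (Matrix.GeneralLinearGroup.det g) ∣ 1 := by
      have := Nat.dvd_gcd h h'
      rwa [hcop] at this
    exact orderOf_eq_one_iff.mp (Nat.dvd_one.mp h3)
  refine ⟨⟨g.val, ?_⟩, ?_⟩
  · have := congrArg Units.val h1; simpa using this
  · apply Units.ext; rfl

theorem S2379_main {q : ℕ} (hq : Fintype.card F = q) (n : ℕ)
    (r : ℕ) [Fact r.Prime] (hrn : n < r) (hrq : ¬ r ∣ q)
    (P : Sylow r (Matrix.SpecialLinearGroup (Fin n) F)) :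
    Nonempty (↥(P : Subgroup (Matrix.SpecialLinearGroup (Fin n) F)) ≃*
      (Fin ((Finset.Icc 2 n).filter (fun i => orderOf (q : ZMod r) ∣ i)).card →
        Multiplicative (ZMod (r ^ padicValNat r
          ((Polynomial.cyclotomic (orderOf (q : ZMod r)) ℤ).eval (q : ℤ)).natAbs)))) := by
  classical
  have hrp : r.Prime := Fact.out
  have hq2 : 2 ≤ q := by rw [← hq]; exact Fintype.one_lt_card
  have hqr : (q : ZMod r) ≠ 0 := by
    rw [Ne, ZMod.natCast_eq_zero_iff]; exact hrq
  have hd1 : 1 ≤ orderOf (q : ZMod r) := by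
    rw [Nat.succ_le_iff, orderOf_pos_iff]
    exact (IsUnit.mk0 _ hqr).isOfFinOrder
  set d := orderOf (q : ZMod r) with hd
  set v := padicValNat r ((Polynomial.cyclotomic d ℤ).eval (q : ℤ)).natAbs with hv
  by_cases hd2 : 2 ≤ d
  · have ha : ((Finset.Icc 2 n).filter (fun i => d ∣ i)).card = n / d := by
      rw [← Nat.Ioc_filter_dvd_card_eq_div n d]
      congr 1
      ext i
      simp only [Finset.mem_filter, Finset.mem_Icc, Finset.mem_Ioc]
      constructor
      · rintro ⟨⟨h1, h2⟩, h3⟩; exact ⟨⟨by omega, h2⟩, h3⟩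
      · rintro ⟨⟨h1, h2⟩, h3⟩
        have := Nat.le_of_dvd h1 h3
        exact ⟨⟨by omega, h2⟩, h3⟩
    rw [ha]
    have hr1 : ¬ r ∣ q - 1 := by
      intro h
      have h' : r ∣ q ^ 1 - 1 := by rwa [pow_one]
      have h2 := (dvd_pow_sub_one_iff q r (by omega) 1).mp h'
      have := Nat.le_of_dvd one_pos h2
      omega
    let T := (Matrix.SpecialLinearGroup.toGL :
      Matrix.SpecialLinearGroup (Fin n) F →* GL (Fin n) F)
    have hT : Function.Injective T := Matrix.SpecialLinearGroup.toGL_injective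
    have hP' : IsPGroup r ((P : Subgroup _).map T) := P.isPGroup'.map T
    obtain ⟨Q, hQ⟩ := hP'.exists_le_sylow
    have hQr : (Q : Subgroup _) ≤ T.range := r_elt_det_one hq n r hr1 Q Q.isPGroup'
    have hcomap : (Q : Subgroup _).comap T = P := by
      apply P.is_maximal' (Q.isPGroup'.comap_of_injective T hT)
      rw [← Subgroup.map_le_iff_le_comap]; exact hQ
    have hmap : (P : Subgroup _).map T = Q := by
      rw [← hcomap]; exact Subgroup.map_comap_eq_self hQr
    have e1 : ↥(P : Subgroup (Matrix.SpecialLinearGroup (Fin n) F)) ≃*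
        ↥((P : Subgroup (Matrix.SpecialLinearGroup (Fin n) F)).map T) :=
      Subgroup.equivMapOfInjective (P : Subgroup (Matrix.SpecialLinearGroup (Fin n) F)) T hT
    have e2 : ↥((P : Subgroup (Matrix.SpecialLinearGroup (Fin n) F)).map T) ≃*
        ↥(Q : Subgroup (GL (Fin n) F)) := MulEquiv.subgroupCongr hmap
    obtain ⟨e3⟩ := S2380_main hq n r hrn hrq Q
    exact ⟨(e1.trans e2).trans e3⟩
  · have hd_one : d = 1 := by omega
    rcases Nat.eq_zero_or_pos n with hn0 | hnpos
    · subst hn0
      have ha : ((Finset.Icc 2 0).filter (fun i => d ∣ i)).card = 0 := by simp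
      rw [ha]
      haveI : Subsingleton (Matrix.SpecialLinearGroup (Fin 0) F) :=
        ⟨fun a b => Subtype.ext (Subsingleton.elim _ _)⟩
      exact ⟨{ toFun := fun _ => 1, invFun := fun _ => 1,
               left_inv := fun x => Subsingleton.elim _ _,
               right_inv := fun x => Subsingleton.elim _ _,
               map_mul' := fun _ _ => by simp }⟩
    · obtain ⟨m, rfl⟩ : ∃ m, n = m + 1 := ⟨n - 1, by omega⟩
      have ha : ((Finset.Icc 2 (m+1)).filter (fun i => d ∣ i)).card = m := by
        rw [hd_one]; simp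
      rw [ha]
      obtain ⟨C⟩ : Nonempty (Sylow r Fˣ) := inferInstance
      have hcardFu : Nat.card Fˣ = q ^ d - 1 := by
        rw [Nat.card_units, Nat.card_eq_fintype_card, hq, hd_one, pow_one]
      have hCcard : Nat.card (C : Subgroup Fˣ) = r ^ v := by
        rw [C.card_eq_multiplicity, hcardFu, Nat.factorization_def _ hrp, hv, hd,
          ← val_cyclotomic q r hq2]
      haveI : IsCyclic (C : Subgroup Fˣ) := inferInstance
      obtain ⟨g, hg⟩ := IsCyclic.exists_generator (α := (C : Subgroup Fˣ))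
      let eC : Multiplicative (ZMod (r ^ v)) ≃* (C : Subgroup Fˣ) :=
        zmodMulEquivOfGenerator hg hCcard
      let κ₀ : (Fin m → (C : Subgroup Fˣ)) →* (Fin m → Fˣ) :=
        { toFun := fun c i => (c i : Fˣ)
          map_one' := rfl
          map_mul' := fun _ _ => rfl }
      have hκ₀ : Function.Injective κ₀ := by
        intro c c' h
        funext i
        exact Subtype.ext (congrFun h i)
      let κ := (diagSL (F := F) m).comp κ₀
      have hκ : Function.Injective κ := (diagSL_injective m).comp hκ₀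
      have hcardR : Nat.card κ.range = (r ^ v) ^ m := by
        rw [← Nat.card_congr (MonoidHom.ofInjective hκ).toEquiv, Nat.card_fun, hCcard,
          Nat.card_fin]
      have hGL : Nat.card (GL (Fin (m+1)) F) = ∏ i : Fin (m+1), (q ^ (m+1) - q ^ (i : ℕ)) := by
        rw [Matrix.card_GL_field, hq]
      have hvw : padicValNat r (q ^ d - 1) = v := by
        rw [hv, hd]; exact val_cyclotomic q r hq2
      have hw1 : q ^ d - 1 = q - 1 := by rw [hd_one, pow_one]
      have hdiv : (m + 1) / d = m + 1 := by rw [hd_one, Nat.div_one]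
      have hmul := card_SL_mul (F := F) (m + 1) (by omega)
      rw [hq] at hmul
      have hSLpos : Nat.card (Matrix.SpecialLinearGroup (Fin (m+1)) F) ≠ 0 := Nat.card_pos.ne'
      have hq1pos : q - 1 ≠ 0 := by omega
      have hval : padicValNat r (Nat.card (Matrix.SpecialLinearGroup (Fin (m+1)) F)) + v =
          (m + 1) * v := by
        have h1 := padicValNat.mul (p := r) hSLpos hq1pos
        rw [hmul, hGL, val_GL_card q r hq2 hrq (m+1) hrn, ← hd, hdiv, hvw, ← hw1, hvw] at h1
        exact h1.symm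
      have hval' : padicValNat r (Nat.card (Matrix.SpecialLinearGroup (Fin (m+1)) F)) = m * v := by
        have : (m + 1) * v = m * v + v := by ring
        omega
      have hsyl : Nat.card κ.range =
          r ^ (Nat.card (Matrix.SpecialLinearGroup (Fin (m+1)) F)).factorization r := by
        rw [hcardR, Nat.factorization_def _ hrp, hval', ← pow_mul, mul_comm]
      let Q : Sylow r (Matrix.SpecialLinearGroup (Fin (m+1)) F) := Sylow.ofCard κ.range hsyl
      have e1 : ↥(P : Subgroup (Matrix.SpecialLinearGroup (Fin (m+1)) F)) ≃* ↥κ.range :=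
        Sylow.equiv P Q
      have e2 : ↥κ.range ≃* (Fin m → (C : Subgroup Fˣ)) := (MonoidHom.ofInjective hκ).symm
      have e3 : (Fin m → (C : Subgroup Fˣ)) ≃* (Fin m → Multiplicative (ZMod (r ^ v))) :=
        MulEquiv.piCongrRight (fun _ => eC.symm)
      exact ⟨(e1.trans e2).trans e3⟩

end main

end Cfsg.Agent.Lib.Helper4_SLSylow
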