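import Mathlib

namespace Cfsg.Agent.Lib.Helper4_SLTrans
open Module Matrix

variable {F : Type*} [Field F]

/-- existence of a linear automorphism carrying `U₁` to `U₂` -/
theorem exists_equiv_map {V : Type*} [AddCommGroup V] [Module F V] [FiniteDimensional F V]
    (U₁ U₂ : Submodule F V) (h : finrank F U₁ = finrank F U₂) :
    ∃ φ : V ≃ₗ[F] V, U₁.map (φ : V →ₗ[F] V) = U₂ := by
  obtain ⟨C₁, hC₁⟩ := Submodule.exists_isCompl U₁
  obtain ⟨C₂, hC₂⟩ := Submodule.exists_isCompl U₂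
  have h1 := Submodule.finrank_add_eq_of_isCompl hC₁
  have h2 := Submodule.finrank_add_eq_of_isCompl hC₂
  have hC : finrank F C₁ = finrank F C₂ := by omega
  let e₁ : U₁ ≃ₗ[F] U₂ := LinearEquiv.ofFinrankEq _ _ h
  let e₂ : C₁ ≃ₗ[F] C₂ := LinearEquiv.ofFinrankEq _ _ hC
  let φ : V ≃ₗ[F] V := (Submodule.prodEquivOfIsCompl U₁ C₁ hC₁).symm ≪≫ₗ
    (e₁.prodCongr e₂) ≪≫ₗ (Submodule.prodEquivOfIsCompl U₂ C₂ hC₂)
  refine ⟨φ, ?_⟩
  have hle : U₁.map (φ : V →ₗ[F] V) ≤ U₂ := by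
    rintro _ ⟨u, hu, rfl⟩
    have : φ u = ((e₁ (⟨u, hu⟩ : U₁) : U₂) : V) := by
      show (Submodule.prodEquivOfIsCompl U₂ C₂ hC₂) ((e₁.prodCongr e₂)
        ((Submodule.prodEquivOfIsCompl U₁ C₁ hC₁).symm u)) = _
      have := Submodule.prodEquivOfIsCompl_symm_apply_left U₁ C₁ hC₁ (⟨u, hu⟩ : U₁)
      simp only at this
      rw [this]
      simp
    show φ u ∈ U₂
    rw [this]
    exact (e₁ (⟨u, hu⟩ : U₁)).2
  apply Submodule.eq_of_le_of_finrank_le hle
  rw [LinearEquiv.finrank_map_eq, h]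

/-- the dilation matrix -/
def Dil {n : ℕ} (c : F) (u lam : Fin n → F) : Matrix (Fin n) (Fin n) F :=
  1 + replicateCol (Fin 1) ((c - 1) • u) * replicateRow (Fin 1) lam

theorem Dil_det {n : ℕ} (c : F) (u lam : Fin n → F) (h : lam ⬝ᵥ u = 1) : (Dil c u lam).det = c := by
  unfold Dil
  have := det_one_add_replicateCol_mul_replicateRow (ι := Fin 1) ((c - 1) • u) lam
  refine this.trans ?_
  rw [dotProduct_smul, h]
  simp

theorem Dil_mulVec {n : ℕ} (c : F) (u lam v : Fin n → F) :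
    Dil c u lam *ᵥ v = v + ((c - 1) * (lam ⬝ᵥ v)) • u := by
  unfold Dil
  rw [Matrix.add_mulVec, Matrix.one_mulVec]
  congr 1
  ext i
  simp [Matrix.mulVec, dotProduct, Matrix.mul_apply, Finset.mul_sum]
  rw [Finset.sum_mul]
  apply Finset.sum_congr rfl
  intro j _
  ring

theorem main [Fintype F] (n : ℕ) (U₁ U₂ : Submodule F (Fin n → F))
    (h : Module.finrank F U₁ = Module.finrank F U₂) :
    ∃ g : Matrix.SpecialLinearGroup (Fin n) F,
      U₁.map ((Matrix.SpecialLinearGroup.toLin' g : (Fin n → F) ≃ₗ[F] (Fin n → F)) :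
        (Fin n → F) →ₗ[F] (Fin n → F)) = U₂ := by
  by_cases hk : finrank F U₂ = 0
  · refine ⟨1, ?_⟩
    have h1 : U₁ = ⊥ := Submodule.finrank_eq_zero.1 (h.trans hk)
    have h2 : U₂ = ⊥ := Submodule.finrank_eq_zero.1 hk
    rw [h1, h2, Submodule.map_bot]
  · obtain ⟨φ, hφ⟩ := exists_equiv_map U₁ U₂ h
    have hU₂ : U₂ ≠ ⊥ := fun hb => hk (by rw [hb]; simp)
    obtain ⟨u, huU, hu0⟩ := Submodule.exists_mem_ne_zero_of_ne_bot hU₂
    obtain ⟨j, hj⟩ : ∃ j, u j ≠ 0 := by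
      by_contra hcon
      push Not at hcon
      exact hu0 (funext hcon)
    set lam : Fin n → F := (u j)⁻¹ • Pi.single j 1 with hlam
    have hlu : lam ⬝ᵥ u = 1 := by
      rw [hlam, smul_dotProduct, single_dotProduct]
      simp [hj]
    set P : Matrix (Fin n) (Fin n) F := LinearMap.toMatrix' (φ : (Fin n → F) →ₗ[F] (Fin n → F)) with hP
    have hdet : P.det ≠ 0 := by
      rw [hP, LinearMap.det_toMatrix']
      exact (LinearEquiv.isUnit_det' φ).ne_zero
    set D := Dil (P.det)⁻¹ u lam with hD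
    have hg : (D * P).det = 1 := by
      rw [Matrix.det_mul, hD, Dil_det _ _ _ hlu, inv_mul_cancel₀ hdet]
    refine ⟨⟨D * P, hg⟩, ?_⟩
    show U₁.map (Matrix.toLin' (D * P)) = U₂
    rw [Matrix.toLin'_mul, Submodule.map_comp, hP, Matrix.toLin'_toMatrix', hφ]
    have hle : U₂.map (Matrix.toLin' D) ≤ U₂ := by
      rintro _ ⟨v, hv, rfl⟩
      rw [Matrix.toLin'_apply, hD, Dil_mulVec]
      exact U₂.add_mem hv (U₂.smul_mem _ huU)
    apply Submodule.eq_of_le_of_finrank_le hle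
    have hDdet : D.det ≠ 0 := by
      rw [hD, Dil_det _ _ _ hlu]; exact inv_ne_zero hdet
    have hinj : Function.Injective (Matrix.toLin' D) := by
      rw [← LinearMap.ker_eq_bot]
      exact LinearMap.ker_eq_bot.2 (Matrix.mulVec_injective_iff_isUnit.2 ((Matrix.isUnit_iff_isUnit_det D).2 (IsUnit.mk0 _ hDdet)))
    let eD : (Fin n → F) ≃ₗ[F] (Fin n → F) := LinearEquiv.ofInjectiveEndo (Matrix.toLin' D) hinj
    have : U₂.map (Matrix.toLin' D) = U₂.map (eD : (Fin n → F) →ₗ[F] (Fin n → F)) := by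
      congr 1
    rw [this, LinearEquiv.finrank_map_eq]

end Cfsg.Agent.Lib.Helper4_SLTrans
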