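import Mathlib

namespace Cfsg.Agent.Lib.Helper4_SemiOrder

variable {F : Type*} [Field F] {V : Type*} [AddCommGroup V] [Module F V]
  {G : Type*} [Group G]

/-- the action hom -/
noncomputable abbrev phi (ρ : Representation F G V) : G →* MulAut (Multiplicative V) :=
  (MulAutMultiplicative V).symm.toMonoidHom.comp
    ((DistribMulAction.toAddAut ((V →ₗ[F] V)ˣ) V).comp ρ.asGroupHom)

theorem phi_apply (ρ : Representation F G V) (g : G) (v : V) :
    phi ρ g (Multiplicative.ofAdd v) = Multiplicative.ofAdd (ρ g v) := rfl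

theorem pow_formula (ρ : Representation F G V) (x : Multiplicative V ⋊[phi ρ] G) (m : ℕ) :
    x ^ m = ⟨Multiplicative.ofAdd (∑ i ∈ Finset.range m, ((ρ x.right) ^ i) (Multiplicative.toAdd x.left)),
      x.right ^ m⟩ := by
  induction m with
  | zero =>
    rw [pow_zero, pow_zero, Finset.range_zero, Finset.sum_empty]
    rfl
  | succ m ih =>
    rw [pow_succ, ih]
    apply SemidirectProduct.ext
    · rw [SemidirectProduct.mul_left]
      show Multiplicative.ofAdd _ * (phi ρ (x.right ^ m)) x.left = _
      have hx : x.left = Multiplicative.ofAdd (Multiplicative.toAdd x.left) := rfl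
      rw [hx, phi_apply, ← ofAdd_add, Finset.sum_range_succ, map_pow]
      rfl
    · rw [SemidirectProduct.mul_right, pow_succ]

variable (p : ℕ) [Fact p.Prime] [CharP F p]

theorem orderOf_inl (ρ : Representation F G V) (w : V) (hw : w ≠ 0) :
    orderOf (SemidirectProduct.inl (Multiplicative.ofAdd w) : Multiplicative V ⋊[phi ρ] G) = p := by
  rw [orderOf_injective _ SemidirectProduct.inl_injective]
  show orderOf (Multiplicative.ofAdd w) = p
  rw [orderOf_ofAdd_eq_addOrderOf]
  apply addOrderOf_eq_prime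
  · have : (p : F) = 0 := CharP.cast_eq_zero F p
    rw [← Nat.cast_smul_eq_nsmul F, this, zero_smul]
  · exact hw

theorem S2516_main [FiniteDimensional F V] [Nontrivial V] [Finite G] (ρ : Representation F G V) (g : G) :
    (∃ x : Multiplicative V ⋊[(MulAutMultiplicative V).symm.toMonoidHom.comp
        ((DistribMulAction.toAddAut ((V →ₗ[F] V)ˣ) V).comp ρ.asGroupHom)] G,
        x.right = g ∧ orderOf x = p * orderOf g) ↔
      ¬ (minpoly F (ρ g) ∣ ∑ i ∈ Finset.range (orderOf g), (Polynomial.X : Polynomial F) ^ i) := by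
  have hp := (Fact.out : p.Prime)
  have hk : 0 < orderOf g := orderOf_pos g
  have haeval : Polynomial.aeval (ρ g) (∑ i ∈ Finset.range (orderOf g), (Polynomial.X : Polynomial F) ^ i) =
      ∑ i ∈ Finset.range (orderOf g), (ρ g) ^ i := by
    rw [map_sum]
    refine Finset.sum_congr rfl fun i _ => ?_
    rw [map_pow, Polynomial.aeval_X]
  have hpowk : ∀ x : Multiplicative V ⋊[phi ρ] G, x.right = g →
      x ^ orderOf g = SemidirectProduct.inl (Multiplicative.ofAdd
        ((∑ i ∈ Finset.range (orderOf g), (ρ g) ^ i) (Multiplicative.toAdd x.left))) := by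
    intro x hx
    rw [pow_formula, hx, pow_orderOf_eq_one, LinearMap.sum_apply]
    rfl
  constructor
  · rintro ⟨x, hx, hord⟩ hdvd
    have h0 : Polynomial.aeval (ρ g) (∑ i ∈ Finset.range (orderOf g), (Polynomial.X : Polynomial F) ^ i) = 0 :=
      Polynomial.aeval_eq_zero_of_dvd_aeval_eq_zero hdvd (minpoly.aeval F (ρ g))
    rw [haeval] at h0
    have h1 := hpowk x hx
    rw [h0, LinearMap.zero_apply, ofAdd_zero, map_one] at h1
    have h2 := orderOf_dvd_of_pow_eq_one h1
    change orderOf x = p * orderOf g at hord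
    rw [hord] at h2
    have h3 := Nat.le_of_dvd hk h2
    have : 2 * orderOf g ≤ p * orderOf g := Nat.mul_le_mul_right _ hp.two_le
    omega
  · intro hnd
    have hS : (∑ i ∈ Finset.range (orderOf g), (ρ g) ^ i) ≠ 0 := by
      intro h0
      apply hnd
      apply minpoly.dvd
      rw [haeval, h0]
    obtain ⟨v, hv⟩ : ∃ v : V, (∑ i ∈ Finset.range (orderOf g), (ρ g) ^ i) v ≠ 0 := by
      by_contra hcon
      push Not at hcon
      apply hS
      ext v
      rw [hcon v, LinearMap.zero_apply]
    let x : Multiplicative V ⋊[phi ρ] G := ⟨Multiplicative.ofAdd v, g⟩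
    refine ⟨x, rfl, ?_⟩
    change orderOf x = p * orderOf g
    have h1 := hpowk x rfl
    have h2 : orderOf (x ^ orderOf g) = p := by
      rw [h1]
      exact orderOf_inl p ρ _ hv
    have hfin : x ^ (orderOf g * p) = 1 := by
      rw [pow_mul, ← h2, pow_orderOf_eq_one]
    have hpos : 0 < orderOf x := by
      apply orderOf_pos_iff.mpr
      exact isOfFinOrder_iff_pow_eq_one.mpr ⟨orderOf g * p, Nat.mul_pos hk hp.pos, hfin⟩
    have hdvd : orderOf g ∣ orderOf x := by
      apply orderOf_dvd_of_pow_eq_one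
      have : (x ^ orderOf x).right = g ^ orderOf x := by
        rw [pow_formula]
      rw [← this, pow_orderOf_eq_one]
      rfl
    have h3 := orderOf_pow' x hk.ne'
    rw [h2, Nat.gcd_eq_right hdvd] at h3
    obtain ⟨c, hc⟩ := hdvd
    rw [hc, Nat.mul_div_cancel_left _ hk] at h3
    rw [hc, h3, mul_comm]

end Cfsg.Agent.Lib.Helper4_SemiOrder
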