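import Mathlib

namespace Cfsg.Agent.Lib.Helper4_Shintani

variable {X : Type*} [Group X]

theorem mem_fix_iff (σ : MulAut X) (x : X) :
    x ∈ (MulEquiv.toMonoidHom σ).eqLocus (MonoidHom.id X) ↔ σ x = x := Iff.rfl

theorem pow_fix (σ : MulAut X) {x : X} (h : σ x = x) (n : ℕ) : (σ ^ n) x = x := by
  induction n with
  | zero => simp
  | succ n ih => rw [pow_succ, MulAut.mul_apply, h, ih]

theorem pow_comm_apply (σ : MulAut X) (m n : ℕ) (x : X) :
    (σ ^ m) ((σ ^ n) x) = (σ ^ n) ((σ ^ m) x) := by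
  rw [← MulAut.mul_apply, ← MulAut.mul_apply, ← pow_add, ← pow_add, add_comm]

theorem sigma_a (σ : MulAut X) {g a : X} (ha : g = a * (σ a)⁻¹) : σ a = g⁻¹ * a := by
  rw [ha]; group

theorem prod_range (σ : MulAut X) (g a : X) (ha : g = a * (σ a)⁻¹) (d : ℕ) :
    ((List.range d).map (fun i => (σ ^ i) g)).prod = a * ((σ ^ d) a)⁻¹ := by
  induction d with
  | zero => simp
  | succ d ih =>
    rw [List.range_succ, List.map_append, List.prod_append, ih]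
    have h1 : (σ ^ d) g = (σ ^ d) a * ((σ ^ (d + 1)) a)⁻¹ := by
      conv_lhs => rw [ha]
      rw [map_mul, map_inv, pow_succ, MulAut.mul_apply]
    simp only [List.map_cons, List.map_nil, List.prod_cons, List.prod_nil, mul_one]
    rw [h1]; group

/-- the element `x = τ(a)⁻¹ a` is fixed by `σ`, where `τ` commutes with `σ` and fixes `g`. -/
theorem x_fixed (σ τ : MulAut X) (hc : ∀ y, σ (τ y) = τ (σ y)) {g a : X} (hg : τ g = g)
    (ha : g = a * (σ a)⁻¹) : σ ((τ a)⁻¹ * a) = (τ a)⁻¹ * a := by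
  have h1 : σ a = g⁻¹ * a := sigma_a σ ha
  have h2 : σ (τ a) = g⁻¹ * τ a := by
    rw [hc, h1, map_mul, map_inv, hg]
  rw [map_mul, map_inv, h2, h1]; group

theorem comm_pow (σ : MulAut X) (e : ℕ) (y : X) : σ ((σ ^ e) y) = (σ ^ e) (σ y) := by
  have := pow_comm_apply σ 1 e y
  simpa using this

theorem x_fixed' (σ : MulAut X) (e : ℕ) {g a : X} (hg : (σ ^ e) g = g)
    (ha : g = a * (σ a)⁻¹) : σ (((σ ^ e) a)⁻¹ * a) = ((σ ^ e) a)⁻¹ * a :=
  x_fixed σ (σ ^ e) (comm_pow σ e) hg ha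

/-- `τ^n(a)⁻¹ a = x^n` when `x = τ(a)⁻¹ a` is `τ`-fixed. -/
theorem pow_x (τ : MulAut X) (a : X) (hx : τ ((τ a)⁻¹ * a) = (τ a)⁻¹ * a) (n : ℕ) :
    ((τ ^ n) a)⁻¹ * a = ((τ a)⁻¹ * a) ^ n := by
  induction n with
  | zero => simp
  | succ n ih =>
    have h1 : ((τ ^ (n + 1)) a)⁻¹ * a = τ (((τ ^ n) a)⁻¹ * a) * ((τ a)⁻¹ * a) := by
      rw [pow_succ', MulAut.mul_apply, map_mul, map_inv]; group
    rw [h1, ih, map_pow, hx, ← pow_succ]

end Cfsg.Agent.Lib.Helper4_Shintani
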