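import Mathlib

namespace Cfsg.Agent.Lib.Helper4_Shintani0

variable {X : Type*} [Group X]

theorem mem_fix (f : MulAut X) (x : X) :
    x ∈ (MulEquiv.toMonoidHom f).eqLocus (MonoidHom.id X) ↔ f x = x := Iff.rfl

theorem stable_pow (σ : MulAut X) (Y : Subgroup X) (hY : ∀ y : X, y ∈ Y ↔ σ y ∈ Y) (n : ℕ) :
    ∀ y : X, y ∈ Y → (σ ^ n) y ∈ Y := by
  induction n with
  | zero => intro y hy; simpa using hy
  | succ n ih =>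
    intro y hy
    rw [pow_succ', MulAut.mul_apply]
    exact (hY _).1 (ih y hy)

theorem fix_pow (σ : MulAut X) (n : ℕ) (h : X) (hh : σ h = h) : (σ ^ n) h = h := by
  induction n with
  | zero => simp
  | succ n ih => rw [pow_succ', MulAut.mul_apply, ih, hh]

section
variable (σ τ : MulAut X) (Y : Subgroup X) (hY : ∀ y : X, y ∈ Y → σ y ∈ Y)
  (hYτ : ∀ y : X, y ∈ Y → τ y ∈ Y)
  (hHG : ∀ h : X, σ h = h → τ h = h)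
  (hYL : ∀ y ∈ Y, ∃ a ∈ Y, y = a * (σ a)⁻¹) (hYLe : ∀ y ∈ Y, ∃ a ∈ Y, y = a * (τ a)⁻¹)
  (g a : X) (ha : g = a * (σ a)⁻¹)

include hYL ha in
theorem L1 (k : X) (hkA : k⁻¹ * g * σ k ∈ Y) : ∃ h : X, σ h = h ∧ k⁻¹ * a * h ∈ Y := by
  obtain ⟨b, hb, hyb⟩ := hYL _ hkA
  have hu : k⁻¹ * g * σ k = (k⁻¹ * a) * (σ (k⁻¹ * a))⁻¹ := by
    rw [ha, map_mul, map_inv]; group
  rw [hu] at hyb
  refine ⟨(k⁻¹ * a)⁻¹ * b, ?_, ?_⟩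
  · rw [map_mul, map_inv]
    have : (σ (k⁻¹ * a))⁻¹ = (k⁻¹ * a)⁻¹ * (b * (σ b)⁻¹) := by rw [← hyb]; group
    rw [this]; group
  · have : k⁻¹ * a * ((k⁻¹ * a)⁻¹ * b) = b := by group
    rw [this]; exact hb

include hY ha in
theorem L2 (k h : X) (hh : σ h = h) (hρ : k⁻¹ * a * h ∈ Y) : k⁻¹ * g * σ k ∈ Y := by
  have : k⁻¹ * g * σ k = (k⁻¹ * a * h) * (σ (k⁻¹ * a * h))⁻¹ := by
    rw [ha]; simp only [map_mul, map_inv, hh]; group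
  rw [this]
  exact Y.mul_mem hρ (Y.inv_mem (hY _ hρ))

include hYτ in
theorem L3 (k h : X) (hk : τ k = k) (hh : τ h = h) (hρ : k⁻¹ * a * h ∈ Y) :
    h⁻¹ * ((τ a)⁻¹ * a) * h ∈ Y := by
  have : h⁻¹ * ((τ a)⁻¹ * a) * h = (τ (k⁻¹ * a * h))⁻¹ * (k⁻¹ * a * h) := by
    simp only [map_mul, map_inv, hk, hh]; group
  rw [this]
  exact Y.mul_mem (Y.inv_mem (hYτ _ hρ)) hρ

include hYLe in
theorem L4 (h : X) (hh : τ h = h) (hB : h⁻¹ * ((τ a)⁻¹ * a) * h ∈ Y) :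
    ∃ k : X, τ k = k ∧ k⁻¹ * a * h ∈ Y := by
  obtain ⟨c, hc, hyc⟩ := hYLe _ (Y.inv_mem hB)
  refine ⟨a * h * c, ?_, ?_⟩
  · simp only [map_mul, hh]
    have h1 : τ c = (h⁻¹ * ((τ a)⁻¹ * a) * h) * c := by
      have : (h⁻¹ * ((τ a)⁻¹ * a) * h) = ((h⁻¹ * ((τ a)⁻¹ * a) * h)⁻¹)⁻¹ := by rw [inv_inv]
      rw [this, hyc]; group
    rw [h1]; group
  · have : (a * h * c)⁻¹ * a * h = c⁻¹ := by group
    rw [this]; exact Y.inv_mem hc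

end

end Cfsg.Agent.Lib.Helper4_Shintani0
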