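import Mathlib
import Cfsg.Agent.Lib.Helper4_Shintani0

namespace Cfsg.Agent.Lib.Helper4_Shintani1
open Cfsg.Agent.Lib.Helper4_Shintani0

variable {X : Type*} [Group X]

theorem main (σ : MulAut X) (e : ℕ)
    (Y : Subgroup X) (hY : ∀ y : X, y ∈ Y ↔ σ y ∈ Y)
    (hYL : ∀ y ∈ Y, ∃ a ∈ Y, y = a * (σ a)⁻¹) (hYLe : ∀ y ∈ Y, ∃ a ∈ Y, y = a * ((σ ^ e) a)⁻¹)
    (g : X) (a : X) (ha : g = a * (σ a)⁻¹) :
    Nat.card {k : ↥((MulEquiv.toMonoidHom (σ ^ e)).eqLocus (MonoidHom.id X)) // (k : X)⁻¹ * g * σ k ∈ Y} *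
        Nat.card ↥(Y ⊓ (MulEquiv.toMonoidHom σ).eqLocus (MonoidHom.id X)) =
      Nat.card {h : ↥((MulEquiv.toMonoidHom σ).eqLocus (MonoidHom.id X)) // (h : X)⁻¹ * (((σ ^ e) a)⁻¹ * a) * h ∈ Y} *
        Nat.card ↥(Y ⊓ (MulEquiv.toMonoidHom (σ ^ e)).eqLocus (MonoidHom.id X)) := by
  set τ : MulAut X := σ ^ e with hτ
  have hY1 : ∀ y : X, y ∈ Y → σ y ∈ Y := fun y hy => (hY y).1 hy
  have hYτ : ∀ y : X, y ∈ Y → τ y ∈ Y := stable_pow σ Y hY e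
  have hHG : ∀ h : X, σ h = h → τ h = h := fun h hh => fix_pow σ e h hh
  -- the pair set
  let P := {p : X × X // τ p.1 = p.1 ∧ σ p.2 = p.2 ∧ p.1⁻¹ * a * p.2 ∈ Y}
  -- first bijection
  have ex1 : ∀ k : {k : ↥((MulEquiv.toMonoidHom τ).eqLocus (MonoidHom.id X)) // (k : X)⁻¹ * g * σ k ∈ Y},
      ∃ h : X, σ h = h ∧ (k.1 : X)⁻¹ * a * h ∈ Y := fun k => L1 σ Y hYL g a ha _ k.2
  choose h1 h1H h1ρ using ex1
  have ex2 : ∀ h : {h : ↥((MulEquiv.toMonoidHom σ).eqLocus (MonoidHom.id X)) // (h : X)⁻¹ * ((τ a)⁻¹ * a) * h ∈ Y},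
      ∃ k : X, τ k = k ∧ k⁻¹ * a * (h.1 : X) ∈ Y := fun h => L4 τ Y hYLe a _ (hHG _ h.1.2) h.2
  choose k2 k2G k2ρ using ex2
  have c1 : Nat.card ({k : ↥((MulEquiv.toMonoidHom τ).eqLocus (MonoidHom.id X)) // (k : X)⁻¹ * g * σ k ∈ Y} ×
      ↥(Y ⊓ (MulEquiv.toMonoidHom σ).eqLocus (MonoidHom.id X))) = Nat.card P := by
    apply Nat.card_congr
    refine Equiv.ofBijective (fun ky => ⟨((ky.1.1 : X), h1 ky.1 * (ky.2 : X)), ky.1.1.2, ?_, ?_⟩) ⟨?_, ?_⟩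
    · show σ (h1 ky.1 * (ky.2 : X)) = h1 ky.1 * (ky.2 : X)
      rw [map_mul, h1H]
      congr 1
      exact ky.2.2.2
    · show (ky.1.1 : X)⁻¹ * a * (h1 ky.1 * (ky.2 : X)) ∈ Y
      have : (ky.1.1 : X)⁻¹ * a * (h1 ky.1 * (ky.2 : X)) = ((ky.1.1 : X)⁻¹ * a * h1 ky.1) * (ky.2 : X) := by
        group
      rw [this]
      exact Y.mul_mem (h1ρ _) ky.2.2.1
    · rintro ⟨k, y⟩ ⟨k', y'⟩ hh
      have h2 := congrArg Subtype.val hh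
      simp only [Prod.mk.injEq] at h2
      obtain ⟨e1, e2⟩ := h2
      have ek : k = k' := Subtype.ext (Subtype.ext e1)
      subst ek
      have ey : (y : X) = y' := mul_left_cancel e2
      rw [Subtype.ext ey]
    · rintro ⟨⟨k, h⟩, hk, hh, hρ⟩
      have hkA : k⁻¹ * g * σ k ∈ Y := L2 σ Y hY1 g a ha k h hh hρ
      let kA : {k : ↥((MulEquiv.toMonoidHom τ).eqLocus (MonoidHom.id X)) // (k : X)⁻¹ * g * σ k ∈ Y} :=
        ⟨⟨k, hk⟩, hkA⟩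
      have hy : (h1 kA)⁻¹ * h ∈ Y ⊓ (MulEquiv.toMonoidHom σ).eqLocus (MonoidHom.id X) := by
        constructor
        · have : (h1 kA)⁻¹ * h = (k⁻¹ * a * h1 kA)⁻¹ * (k⁻¹ * a * h) := by group
          rw [this]
          exact Y.mul_mem (Y.inv_mem (h1ρ kA)) hρ
        · show σ ((h1 kA)⁻¹ * h) = (h1 kA)⁻¹ * h
          rw [map_mul, map_inv, h1H, hh]
      refine ⟨(kA, ⟨_, hy⟩), ?_⟩
      apply Subtype.ext
      show ((k : X), h1 kA * ((h1 kA)⁻¹ * h)) = (k, h)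
      rw [mul_inv_cancel_left]
  have c2 : Nat.card ({h : ↥((MulEquiv.toMonoidHom σ).eqLocus (MonoidHom.id X)) // (h : X)⁻¹ * ((τ a)⁻¹ * a) * h ∈ Y} ×
      ↥(Y ⊓ (MulEquiv.toMonoidHom τ).eqLocus (MonoidHom.id X))) = Nat.card P := by
    apply Nat.card_congr
    refine Equiv.ofBijective (fun hy => ⟨(k2 hy.1 * (hy.2 : X), (hy.1.1 : X)), ?_, hy.1.1.2, ?_⟩) ⟨?_, ?_⟩
    · show τ (k2 hy.1 * (hy.2 : X)) = k2 hy.1 * (hy.2 : X)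
      rw [map_mul, k2G]
      congr 1
      exact hy.2.2.2
    · show (k2 hy.1 * (hy.2 : X))⁻¹ * a * (hy.1.1 : X) ∈ Y
      have : (k2 hy.1 * (hy.2 : X))⁻¹ * a * (hy.1.1 : X) = (hy.2 : X)⁻¹ * ((k2 hy.1)⁻¹ * a * (hy.1.1 : X)) := by
        group
      rw [this]
      exact Y.mul_mem (Y.inv_mem hy.2.2.1) (k2ρ _)
    · rintro ⟨h, y⟩ ⟨h', y'⟩ hh
      have h2 := congrArg Subtype.val hh
      simp only [Prod.mk.injEq] at h2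
      obtain ⟨e1, e2⟩ := h2
      have eh : h = h' := Subtype.ext (Subtype.ext e2)
      subst eh
      have ey : (y : X) = y' := mul_left_cancel e1
      rw [Subtype.ext ey]
    · rintro ⟨⟨k, h⟩, hk, hh, hρ⟩
      have hhB : h⁻¹ * ((τ a)⁻¹ * a) * h ∈ Y := L3 τ Y hYτ a k h hk (hHG h hh) hρ
      let hB : {h : ↥((MulEquiv.toMonoidHom σ).eqLocus (MonoidHom.id X)) // (h : X)⁻¹ * ((τ a)⁻¹ * a) * h ∈ Y} :=
        ⟨⟨h, hh⟩, hhB⟩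
      have hy : (k2 hB)⁻¹ * k ∈ Y ⊓ (MulEquiv.toMonoidHom τ).eqLocus (MonoidHom.id X) := by
        constructor
        · have : (k2 hB)⁻¹ * k = ((k2 hB)⁻¹ * a * h) * (k⁻¹ * a * h)⁻¹ := by group
          rw [this]
          exact Y.mul_mem (k2ρ hB) (Y.inv_mem hρ)
        · show τ ((k2 hB)⁻¹ * k) = (k2 hB)⁻¹ * k
          rw [map_mul, map_inv, k2G, hk]
      refine ⟨(hB, ⟨_, hy⟩), ?_⟩
      apply Subtype.ext
      show (k2 hB * ((k2 hB)⁻¹ * k), (h : X)) = (k, h)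
      rw [mul_inv_cancel_left]
  rw [← Nat.card_prod, ← Nat.card_prod, c1, c2]

end Cfsg.Agent.Lib.Helper4_Shintani1
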