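import Mathlib

namespace Cfsg.Agent.Lib.Helper4_Similarity

open Matrix

theorem sim_mult_sq {F : Type*} [Field F] {n : ℕ} (hn : Odd n)
    (Q : QuadraticForm F (Fin n → F)) (hQ : (QuadraticMap.polarBilin Q).Nondegenerate)
    (g : (Fin n → F) ≃ₗ[F] (Fin n → F)) (c : F) (hg : ∀ v, Q (g v) = c * Q v) : IsSquare c := by
  obtain ⟨m, rfl⟩ := hn
  set B : LinearMap.BilinForm F (Fin (2 * m + 1) → F) := QuadraticMap.polarBilin Q with hB
  set A := LinearMap.BilinForm.toMatrix' B with hA
  have hdetA : A.det ≠ 0 := by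
    rw [← Matrix.nondegenerate_iff_det_ne_zero]
    exact (LinearMap.BilinForm.nondegenerate_toMatrix'_iff).mpr hQ
  set gl : (Fin (2 * m + 1) → F) →ₗ[F] (Fin (2 * m + 1) → F) := g.toLinearMap with hgl
  set G := LinearMap.toMatrix' gl with hG
  have hcomp : LinearMap.BilinForm.comp B gl gl = c • B := by
    refine LinearMap.ext fun u => LinearMap.ext fun v => ?_
    simp only [LinearMap.BilinForm.comp_apply, LinearMap.smul_apply, smul_eq_mul, hB,
      QuadraticMap.polarBilin_apply_apply, QuadraticMap.polar, hgl, LinearEquiv.coe_coe]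
    rw [← map_add, hg, hg, hg]
    ring
  have hmat : Gᵀ * A * G = c • A := by
    have := congrArg LinearMap.BilinForm.toMatrix' hcomp
    rw [LinearMap.BilinForm.toMatrix'_comp, map_smul] at this
    exact this
  have hdet : G.det ^ 2 * A.det = c ^ (2 * m + 1) * A.det := by
    have := congrArg Matrix.det hmat
    rw [Matrix.det_mul, Matrix.det_mul, Matrix.det_transpose, Matrix.det_smul, Fintype.card_fin] at this
    rw [← this]; ring
  have hdet' : G.det ^ 2 = c ^ (2 * m + 1) := mul_right_cancel₀ hdetA hdet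
  have hGdet : G.det ≠ 0 := by
    have h1 : IsUnit (LinearMap.det gl) := g.isUnit_det'
    rw [← LinearMap.det_toMatrix'] at h1
    exact h1.ne_zero
  have hc : c ≠ 0 := by
    intro h0
    rw [h0, zero_pow (by omega)] at hdet'
    exact hGdet ((pow_eq_zero_iff (two_ne_zero)).mp hdet')
  refine ⟨G.det / c ^ m, ?_⟩
  have hcm : c ^ m ≠ 0 := pow_ne_zero m hc
  field_simp
  rw [hdet']
  ring

end Cfsg.Agent.Lib.Helper4_Similarity
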