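import Mathlib
import Cfsg.Prelude.Def_ClassicalGeometry
import Cfsg.Agent.Lib.Helper4_QF11

set_option autoImplicit false

namespace Cfsg.Agent.Lib.Helper4_SpQ0

open QuadraticMap Module Matrix Cfsg.Agent.Lib.Helper4_QF11 Cfsg.Agent.Lib.Helper4_Gram0

variable {F : Type*} [Field F]

/-- a matrix with `T₀ + T₀ᵀ = J` in characteristic two -/
def T₀ (F : Type*) [Field F] (m : ℕ) : Matrix (Fin m ⊕ Fin m) (Fin m ⊕ Fin m) F :=
  Matrix.fromBlocks (0 : Matrix (Fin m) (Fin m) F) (0 : Matrix (Fin m) (Fin m) F)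
    (1 : Matrix (Fin m) (Fin m) F) (0 : Matrix (Fin m) (Fin m) F)

theorem T₀_add [CharP F 2] (m : ℕ) : T₀ F m + (T₀ F m)ᵀ = Matrix.J (Fin m) F := by
  have hneg : (-1 : Matrix (Fin m) (Fin m) F) = 1 := by
    ext i j
    simp only [Matrix.neg_apply]
    exact CharTwo.neg_eq _
  unfold T₀ Matrix.J
  rw [Matrix.fromBlocks_transpose, Matrix.fromBlocks_add, hneg]
  simp

theorem B_symm [CharP F 2] (m : ℕ) (u v : Fin m ⊕ Fin m → F) :
    Matrix.toBilin' (Matrix.J (Fin m) F) u v = Matrix.toBilin' (Matrix.J (Fin m) F) v u := by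
  have : (Matrix.toBilin' (Matrix.J (Fin m) F)).IsSymm := by
    rw [Matrix.isSymm_toBilin'_iff_isSymm, ← T₀_add]
    exact Matrix.isSymm_add_transpose_self _
  exact this.eq u v

theorem B_nondeg (m : ℕ) : (Matrix.toBilin' (Matrix.J (Fin m) F)).Nondegenerate := by
  apply LinearMap.BilinForm.nondegenerate_toBilin'_of_det_ne_zero'
  exact (Matrix.isUnit_det_J (Fin m) F).ne_zero

theorem B_inv (m : ℕ) (A : Matrix (Fin m ⊕ Fin m) (Fin m ⊕ Fin m) F)
    (hA : Aᵀ * Matrix.J (Fin m) F * A = Matrix.J (Fin m) F) (u v : Fin m ⊕ Fin m → F) :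
    Matrix.toBilin' (Matrix.J (Fin m) F) (A *ᵥ u) (A *ᵥ v) =
      Matrix.toBilin' (Matrix.J (Fin m) F) u v := by
  rw [Matrix.toBilin'_apply', Matrix.toBilin'_apply']
  conv_rhs => rw [← hA, ← Matrix.mulVec_mulVec, ← Matrix.mulVec_mulVec, Matrix.dotProduct_mulVec,
    Matrix.vecMul_transpose]


theorem exists_rep [Finite F] [CharP F 2] (m : ℕ) (μ : (Fin m ⊕ Fin m → F) → F)
    (hadd : ∀ u v, μ (u + v) = μ u + μ v) (hsm : ∀ (c : F) v, μ (c • v) = c ^ 2 * μ v) :
    ∃ w, ∀ v, μ v = (Matrix.toBilin' (Matrix.J (Fin m) F) v w) ^ 2 := by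
  have : Fact (Nat.Prime 2) := ⟨Nat.prime_two⟩
  set φ := frobeniusEquiv F 2 with hφ
  set lam : (Fin m ⊕ Fin m → F) →ₗ[F] F :=
    { toFun := fun v => φ.symm (μ v)
      map_add' := fun u v => by rw [hadd, map_add]
      map_smul' := fun c v => by
        rw [hsm, map_mul, hφ, frobeniusEquiv_symm_pow]
        rfl } with hlam
  set w := ((Matrix.toBilin' (Matrix.J (Fin m) F)).toDual (B_nondeg m)).symm lam with hw
  have hwv : ∀ v, Matrix.toBilin' (Matrix.J (Fin m) F) w v = lam v := by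
    intro v
    rw [← LinearMap.BilinForm.toDual_def (b := B_nondeg m), hw, LinearEquiv.apply_symm_apply]
  refine ⟨w, fun v => ?_⟩
  rw [B_symm, hwv v]
  show μ v = (φ.symm (μ v)) ^ 2
  rw [hφ, frobeniusEquiv_symm_pow_p]

theorem exists_solution [CharP F 2] (m : ℕ)
    (A : Matrix (Fin m ⊕ Fin m) (Fin m ⊕ Fin m) F)
    (hA : Aᵀ * Matrix.J (Fin m) F * A = Matrix.J (Fin m) F) (z : Fin m ⊕ Fin m → F)
    (hz : ∀ k, A *ᵥ k = k → Matrix.toBilin' (Matrix.J (Fin m) F) k z = 0) :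
    ∃ w, A *ᵥ w + w = z := by
  set B := Matrix.toBilin' (Matrix.J (Fin m) F) with hB
  set D : (Fin m ⊕ Fin m → F) →ₗ[F] (Fin m ⊕ Fin m → F) := Matrix.mulVecLin A + LinearMap.id
    with hD
  have hDv : ∀ v, D v = A *ᵥ v + v := fun v => rfl
  have hvneg : ∀ v : Fin m ⊕ Fin m → F, -v = v := fun v => by
    funext i; exact CharTwo.neg_eq _
  have hvadd : ∀ v : Fin m ⊕ Fin m → F, v + v = 0 := fun v => by
    funext i; exact CharTwo.add_self_eq_zero _
  have hker : ∀ k, k ∈ LinearMap.ker D ↔ A *ᵥ k = k := by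
    intro k
    rw [LinearMap.mem_ker, hDv]
    constructor
    · intro h
      have := eq_neg_of_add_eq_zero_left h
      rw [this, hvneg]
    · intro h
      rw [h]
      exact hvadd k
  have hle : LinearMap.range D ≤ B.orthogonal (LinearMap.ker D) := by
    rintro _ ⟨x, rfl⟩
    rw [LinearMap.BilinForm.mem_orthogonal_iff]
    intro k hk
    have hk' := (hker k).mp hk
    show B k (D x) = 0
    rw [hDv, map_add]
    have : B k (A *ᵥ x) = B k x := by
      conv_lhs => rw [← hk']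
      exact B_inv m A hA k x
    rw [this]
    exact CharTwo.add_self_eq_zero _
  have hfin : finrank F (LinearMap.range D) = finrank F (B.orthogonal (LinearMap.ker D)) := by
    have h1 := LinearMap.finrank_range_add_finrank_ker D
    have h2 := LinearMap.BilinForm.finrank_orthogonal (B_nondeg m) (LinearMap.ker D)
    have h3 := Submodule.finrank_le (LinearMap.ker D)
    rw [← hB] at h2
    omega
  have heq := Submodule.eq_of_le_of_finrank_eq hle hfin
  have hzmem : z ∈ LinearMap.range D := by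
    rw [heq, LinearMap.BilinForm.mem_orthogonal_iff]
    intro k hk
    exact hz k ((hker k).mp hk)
  obtain ⟨w, hw⟩ := hzmem
  exact ⟨w, hw⟩

end Cfsg.Agent.Lib.Helper4_SpQ0
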