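import Mathlib
import Cfsg.Prelude.Def_ClassicalGeometry
import Cfsg.Agent.Lib.Helper4_SpQ0

set_option autoImplicit false

namespace Cfsg.Agent.Lib.Helper4_SpQ1

open QuadraticMap Module Matrix Cfsg.Agent.Lib.Helper4_QF11 Cfsg.Agent.Lib.Helper4_Gram0
  Cfsg.Agent.Lib.Helper4_SpQ0

variable {F : Type*} [Field F]

theorem main [Finite F] [CharP F 2] {m : ℕ} (A : Matrix (Fin m ⊕ Fin m) (Fin m ⊕ Fin m) F)
    (hA : Aᵀ * Matrix.J (Fin m) F * A = Matrix.J (Fin m) F) :
    ∃ Q : QuadraticForm F (Fin m ⊕ Fin m → F),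
      (∀ u v : Fin m ⊕ Fin m → F, QuadraticMap.polar ⇑Q u v = Cfsg.sympForm m F u v) ∧
      ∀ v : Fin m ⊕ Fin m → F, Q (A.mulVec v) = Q v := by
  set B := Matrix.toBilin' (Matrix.J (Fin m) F) with hB
  set Q₀ := QT (T₀ F m) with hQ₀
  have hpol₀ : ∀ u v, polar Q₀ u v = B u v := by
    intro u v
    rw [hQ₀, polar_QT, T₀_add]
  have hsymp : ∀ u v, B u v = Cfsg.sympForm m F u v := by
    intro u v
    rw [hB, Matrix.toBilin'_apply']
    rfl
  have h2 : ∀ a : F, a + a = 0 := fun a => CharTwo.add_self_eq_zero a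
  have hsq : ∀ a b : F, (a + b) ^ 2 = a ^ 2 + b ^ 2 := fun a b => CharTwo.add_sq a b
  have hQadd : ∀ u v, Q₀ (u + v) = Q₀ u + Q₀ v + B u v := by
    intro u v
    rw [QuadraticMap.map_add Q₀, hpol₀]
  set μ : (Fin m ⊕ Fin m → F) → F := fun v => Q₀ (A *ᵥ v) + Q₀ v with hμ
  have hadd : ∀ u v, μ (u + v) = μ u + μ v := by
    intro u v
    simp only [hμ]
    rw [Matrix.mulVec_add, hQadd, hQadd, B_inv m A hA]
    linear_combination h2 (B u v)
  have hsm : ∀ (c : F) v, μ (c • v) = c ^ 2 * μ v := by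
    intro c v
    simp only [hμ]
    rw [Matrix.mulVec_smul, QuadraticMap.map_smul, QuadraticMap.map_smul]
    simp only [smul_eq_mul]
    ring
  obtain ⟨wA, hwA⟩ := exists_rep m μ hadd hsm
  obtain ⟨w, hw⟩ := exists_solution m A hA (A *ᵥ wA) (by
    intro k hk
    have h1 : B k (A *ᵥ wA) = B k wA := by
      conv_lhs => rw [← hk]
      exact B_inv m A hA k wA
    rw [← hB, h1]
    have h3 : μ k = 0 := by
      simp only [hμ]
      rw [hk]
      exact h2 _
    rw [hwA k] at h3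
    exact pow_eq_zero_iff (two_ne_zero) |>.mp h3)
  set ℓ : (Fin m ⊕ Fin m → F) →ₗ[F] F := B.flip w with hℓ
  have hℓv : ∀ v, ℓ v = B v w := fun v => rfl
  refine ⟨Q₀ + QuadraticMap.linMulLin ℓ ℓ, ?_, ?_⟩
  · intro u v
    rw [← hsymp, ← hpol₀]
    unfold polar
    simp only [_root_.add_apply, QuadraticMap.linMulLin_apply, map_add]
    linear_combination (ℓ u * ℓ v) * h2 1
  · intro v
    simp only [_root_.add_apply, QuadraticMap.linMulLin_apply, hℓv]
    have e1 : Q₀ (A *ᵥ v) = B v wA ^ 2 + Q₀ v := by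
      have := hwA v
      simp only [hμ] at this
      linear_combination this - h2 (Q₀ v)
    have e2 : w = A *ᵥ (wA + w) := by
      rw [Matrix.mulVec_add]
      have hvadd : ∀ x : Fin m ⊕ Fin m → F, x + x = 0 := fun x => by
        funext i; exact CharTwo.add_self_eq_zero _
      calc w = (A *ᵥ w + w) + A *ᵥ w := by
            rw [add_comm (A *ᵥ w) w, add_assoc, hvadd, add_zero]
        _ = A *ᵥ wA + A *ᵥ w := by rw [hw]
    have e3 : B (A *ᵥ v) w = B v wA + B v w := by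
      conv_lhs => rw [e2]
      rw [hB, B_inv m A hA, map_add]
    rw [e1, e3]
    linear_combination (B v wA * B v w + B v wA ^ 2) * h2 1

end Cfsg.Agent.Lib.Helper4_SpQ1
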