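import Cfsg.Agent.Lib.Helper9_Sp
import Mathlib

/-! Symplectic frames (partial symplectic bases) in `F^(2m)` and their count. -/

set_option autoImplicit false
open Cfsg

namespace Cfsg.Agent.Helper9Frames

open Matrix Cfsg.Agent.Lib.Helper1_Symp Cfsg.Agent.Helper9Sp

variable {F : Type*} [Field F] {m : ℕ}

theorem form_sum_smul_right {ι : Type*} (s : Finset ι) (x : Fin m ⊕ Fin m → F) (a : ι → F)
    (f : ι → (Fin m ⊕ Fin m → F)) :
    sympForm m F x (∑ i ∈ s, a i • f i) = ∑ i ∈ s, a i * sympForm m F x (f i) := by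
  have h := map_sum (symB m F x) (fun i => a i • f i) s
  simp only [symB_apply] at h
  rw [h]
  apply Finset.sum_congr rfl
  intro i _
  exact sympForm_smul_right _ _ _

theorem form_sum_smul_left {ι : Type*} (s : Finset ι) (x : Fin m ⊕ Fin m → F) (a : ι → F)
    (f : ι → (Fin m ⊕ Fin m → F)) :
    sympForm m F (∑ i ∈ s, a i • f i) x = ∑ i ∈ s, a i * sympForm m F (f i) x := by
  rw [sympForm_swap, form_sum_smul_right, ← Finset.sum_neg_distrib]
  apply Finset.sum_congr rfl
  intro i _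
  rw [sympForm_swap x (f i)]
  ring

/-- a symplectic frame of length `j`: pairs `(u_i, v_i)` with `f(u_a, v_b) = δ_ab`,
`f(u_a,u_b) = 0 = f(v_a,v_b)` -/
def IsFrame {j : ℕ} (c : Fin j → (Fin m ⊕ Fin m → F) × (Fin m ⊕ Fin m → F)) : Prop :=
  ∀ a b, sympForm m F (c a).1 (c b).2 = (if a = b then 1 else 0) ∧
    sympForm m F (c a).1 (c b).1 = 0 ∧ sympForm m F (c a).2 (c b).2 = 0

/-- orthogonal to all members of the frame -/
def InOrth {j : ℕ} (c : Fin j → (Fin m ⊕ Fin m → F) × (Fin m ⊕ Fin m → F))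
    (x : Fin m ⊕ Fin m → F) : Prop :=
  ∀ a, sympForm m F (c a).1 x = 0 ∧ sympForm m F (c a).2 x = 0

/-- a hyperbolic pair orthogonal to the frame -/
def IsExt {j : ℕ} (c : Fin j → (Fin m ⊕ Fin m → F) × (Fin m ⊕ Fin m → F))
    (p : (Fin m ⊕ Fin m → F) × (Fin m ⊕ Fin m → F)) : Prop :=
  InOrth c p.1 ∧ InOrth c p.2 ∧ sympForm m F p.1 p.2 = 1

theorem isFrame_snoc {j : ℕ} (c : Fin j → (Fin m ⊕ Fin m → F) × (Fin m ⊕ Fin m → F))
    (p : (Fin m ⊕ Fin m → F) × (Fin m ⊕ Fin m → F)) :
    IsFrame (Fin.snoc c p : Fin (j + 1) → (Fin m ⊕ Fin m → F) × (Fin m ⊕ Fin m → F)) ↔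
      IsFrame c ∧ IsExt c p := by
  constructor
  · intro h
    refine ⟨?_, ?_, ?_, ?_⟩
    · intro a b
      have := h a.castSucc b.castSucc
      simpa [Fin.snoc_castSucc, Fin.castSucc_inj] using this
    · intro a
      have h1 := h a.castSucc (Fin.last j)
      have h2 := h (Fin.last j) a.castSucc
      simp only [Fin.snoc_castSucc, Fin.snoc_last] at h1 h2
      refine ⟨h1.2.1, ?_⟩
      rw [sympForm_swap, h2.1, if_neg (Fin.castSucc_lt_last a).ne', neg_zero]
    · intro a
      have h1 := h a.castSucc (Fin.last j)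
      simp only [Fin.snoc_castSucc, Fin.snoc_last] at h1
      refine ⟨?_, h1.2.2⟩
      rw [h1.1, if_neg (Fin.castSucc_lt_last a).ne]
    · have h1 := h (Fin.last j) (Fin.last j)
      simp only [Fin.snoc_last] at h1
      simpa using h1.1
  · rintro ⟨hc, hp1, hp2, hp3⟩ a b
    refine Fin.lastCases ?_ (fun a' => ?_) a <;> refine Fin.lastCases ?_ (fun b' => ?_) b
    · simp only [Fin.snoc_last, if_true]
      exact ⟨hp3, sympForm_self _, sympForm_self _⟩
    · simp only [Fin.snoc_last, Fin.snoc_castSucc]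
      rw [if_neg (Fin.castSucc_lt_last b').ne']
      refine ⟨?_, ?_, ?_⟩
      · rw [sympForm_swap, (hp1 b').2, neg_zero]
      · rw [sympForm_swap, (hp1 b').1, neg_zero]
      · rw [sympForm_swap, (hp2 b').2, neg_zero]
    · simp only [Fin.snoc_last, Fin.snoc_castSucc]
      rw [if_neg (Fin.castSucc_lt_last a').ne]
      exact ⟨(hp2 a').1, (hp1 a').1, (hp2 a').2⟩
    · simp only [Fin.snoc_castSucc, Fin.castSucc_inj]
      exact hc a' b'

theorem inOrth_add {j : ℕ} {c : Fin j → (Fin m ⊕ Fin m → F) × (Fin m ⊕ Fin m → F)}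
    {x y : Fin m ⊕ Fin m → F} (hx : InOrth c x) (hy : InOrth c y) : InOrth c (x + y) := by
  intro a
  rw [sympForm_add_right, sympForm_add_right, (hx a).1, (hx a).2, (hy a).1, (hy a).2, add_zero]
  exact ⟨rfl, rfl⟩

theorem inOrth_smul {j : ℕ} {c : Fin j → (Fin m ⊕ Fin m → F) × (Fin m ⊕ Fin m → F)}
    {x : Fin m ⊕ Fin m → F} (t : F) (hx : InOrth c x) : InOrth c (t • x) := by
  intro a
  rw [sympForm_smul_right, sympForm_smul_right, (hx a).1, (hx a).2, mul_zero]
  exact ⟨rfl, rfl⟩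

/-- projection to the orthogonal of a frame -/
def proj {j : ℕ} (c : Fin j → (Fin m ⊕ Fin m → F) × (Fin m ⊕ Fin m → F))
    (w : Fin m ⊕ Fin m → F) : Fin m ⊕ Fin m → F :=
  w - ∑ i, sympForm m F w (c i).2 • (c i).1 + ∑ i, sympForm m F w (c i).1 • (c i).2

theorem form_proj_right {j : ℕ} {c : Fin j → (Fin m ⊕ Fin m → F) × (Fin m ⊕ Fin m → F)}
    {x : Fin m ⊕ Fin m → F} (hx : InOrth c x) (w : Fin m ⊕ Fin m → F) :
    sympForm m F x (proj c w) = sympForm m F x w := by
  unfold proj
  rw [sympForm_add_right, sympForm_sub_right, form_sum_smul_right, form_sum_smul_right]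
  have h1 : ∀ i, sympForm m F x (c i).1 = 0 := fun i => by
    rw [sympForm_swap, (hx i).1, neg_zero]
  have h2 : ∀ i, sympForm m F x (c i).2 = 0 := fun i => by
    rw [sympForm_swap, (hx i).2, neg_zero]
  simp [h1, h2]

theorem inOrth_proj {j : ℕ} {c : Fin j → (Fin m ⊕ Fin m → F) × (Fin m ⊕ Fin m → F)}
    (hc : IsFrame c) (w : Fin m ⊕ Fin m → F) : InOrth c (proj c w) := by
  classical
  intro a
  unfold proj
  constructor
  · rw [sympForm_add_right, sympForm_sub_right, form_sum_smul_right, form_sum_smul_right]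
    have h1 : ∀ i, sympForm m F (c a).1 (c i).1 = 0 := fun i => (hc a i).2.1
    have h2 : ∀ i, sympForm m F (c a).1 (c i).2 = if a = i then 1 else 0 := fun i => (hc a i).1
    simp only [h1, h2, mul_zero, Finset.sum_const_zero, sub_zero, mul_ite, mul_one,
      Finset.sum_ite_eq, Finset.mem_univ, if_true]
    rw [sympForm_swap w (c a).1]
    ring
  · rw [sympForm_add_right, sympForm_sub_right, form_sum_smul_right, form_sum_smul_right]
    have h1 : ∀ i, sympForm m F (c a).2 (c i).2 = 0 := fun i => (hc a i).2.2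
    have h2 : ∀ i, sympForm m F (c a).2 (c i).1 = if a = i then -1 else 0 := fun i => by
      rw [sympForm_swap, (hc i a).1]
      by_cases h : a = i
      · rw [if_pos h, if_pos h.symm]
      · rw [if_neg h, if_neg (Ne.symm h), neg_zero]
    simp only [h1, h2, mul_zero, Finset.sum_const_zero, add_zero, mul_ite, mul_neg, mul_one,
      Finset.sum_ite_eq, Finset.mem_univ, if_true]
    rw [sympForm_swap w (c a).2]
    ring


/-- coordinates with respect to a frame, plus the orthogonal component -/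
noncomputable def decomp {j : ℕ} (c : Fin j → (Fin m ⊕ Fin m → F) × (Fin m ⊕ Fin m → F))
    (hc : IsFrame c) :
    (Fin m ⊕ Fin m → F) ≃ (Fin j → F) × (Fin j → F) × {x : Fin m ⊕ Fin m → F // InOrth c x} where
  toFun w := (fun i => sympForm m F w (c i).2, fun i => sympForm m F w (c i).1,
    ⟨proj c w, inOrth_proj hc w⟩)
  invFun t := t.2.2.1 + ∑ i, t.1 i • (c i).1 - ∑ i, t.2.1 i • (c i).2
  left_inv w := by
    simp only [proj]
    abel
  right_inv t := by
    classical
    obtain ⟨a, b, ⟨z, hz⟩⟩ := t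
    have hz1 : ∀ i, sympForm m F z (c i).1 = 0 := fun i => by
      rw [sympForm_swap, (hz i).1, neg_zero]
    have hz2 : ∀ i, sympForm m F z (c i).2 = 0 := fun i => by
      rw [sympForm_swap, (hz i).2, neg_zero]
    have e1 : ∀ k, sympForm m F (z + ∑ i, a i • (c i).1 - ∑ i, b i • (c i).2) (c k).2 = a k := by
      intro k
      rw [sympForm_sub_left, sympForm_add_left, form_sum_smul_left, form_sum_smul_left, hz2]
      have h1 : ∀ i, sympForm m F (c i).1 (c k).2 = if i = k then 1 else 0 := fun i => (hc i k).1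
      have h2 : ∀ i, sympForm m F (c i).2 (c k).2 = 0 := fun i => (hc i k).2.2
      simp [h1, h2]
    have e2 : ∀ k, sympForm m F (z + ∑ i, a i • (c i).1 - ∑ i, b i • (c i).2) (c k).1 = b k := by
      intro k
      rw [sympForm_sub_left, sympForm_add_left, form_sum_smul_left, form_sum_smul_left, hz1]
      have h1 : ∀ i, sympForm m F (c i).1 (c k).1 = 0 := fun i => (hc i k).2.1
      have h2 : ∀ i, sympForm m F (c i).2 (c k).1 = if i = k then -1 else 0 := fun i => by
        rw [sympForm_swap, (hc k i).1]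
        by_cases h : i = k
        · rw [if_pos h, if_pos h.symm]
        · rw [if_neg h, if_neg (Ne.symm h), neg_zero]
      simp [h1, h2]
    refine Prod.ext (funext e1) (Prod.ext (funext e2) (Subtype.ext ?_))
    simp only [proj]
    simp only [e1, e2]
    abel

theorem card_orth {j : ℕ} [Fintype F] (c : Fin j → (Fin m ⊕ Fin m → F) × (Fin m ⊕ Fin m → F))
    (hc : IsFrame c) :
    Fintype.card F ^ (2 * j) * Nat.card {x : Fin m ⊕ Fin m → F // InOrth c x} =
      Fintype.card F ^ (2 * m) := by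
  classical
  have h := Nat.card_congr (decomp c hc)
  rw [Nat.card_prod, Nat.card_prod, Nat.card_fun, Nat.card_fun, Nat.card_eq_fintype_card (α := F),
    Nat.card_eq_fintype_card (α := Fin j), Nat.card_eq_fintype_card (α := Fin m ⊕ Fin m),
    Fintype.card_fin, Fintype.card_sum, Fintype.card_fin] at h
  rw [two_mul, two_mul, pow_add, h, mul_assoc]


theorem inOrth_zero {j : ℕ} (c : Fin j → (Fin m ⊕ Fin m → F) × (Fin m ⊕ Fin m → F)) :
    InOrth c (0 : Fin m ⊕ Fin m → F) := by
  intro a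
  rw [sympForm_zero_right, sympForm_zero_right]
  exact ⟨rfl, rfl⟩

theorem exists_partner {j : ℕ} {c : Fin j → (Fin m ⊕ Fin m → F) × (Fin m ⊕ Fin m → F)}
    (hc : IsFrame c) {x : Fin m ⊕ Fin m → F} (hx : InOrth c x) (hx0 : x ≠ 0) :
    ∃ y, InOrth c y ∧ sympForm m F x y = 1 := by
  obtain ⟨w, hw⟩ := exists_form_ne_zero x hx0
  refine ⟨(sympForm m F x w)⁻¹ • proj c w, inOrth_smul _ (inOrth_proj hc w), ?_⟩
  rw [sympForm_smul_right, form_proj_right hx, inv_mul_cancel₀ hw]

/-- all fibres of `y ↦ f(x,y)` on the orthogonal of a frame have the same size -/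
theorem card_fibre [Fintype F] {j : ℕ} {c : Fin j → (Fin m ⊕ Fin m → F) × (Fin m ⊕ Fin m → F)}
    (hc : IsFrame c) {x : Fin m ⊕ Fin m → F} (hx : InOrth c x) (hx0 : x ≠ 0) :
    Fintype.card F * Nat.card {y : Fin m ⊕ Fin m → F // InOrth c y ∧ sympForm m F x y = 1} =
      Nat.card {y : Fin m ⊕ Fin m → F // InOrth c y} := by
  obtain ⟨y₀, hy₀, hxy₀⟩ := exists_partner hc hx hx0
  rw [← Nat.card_eq_fintype_card, ← Nat.card_prod]
  apply Nat.card_congr
  refine ⟨fun t => ⟨t.2.1 + (t.1 - 1) • y₀, inOrth_add t.2.2.1 (inOrth_smul _ hy₀)⟩,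
    fun y => (sympForm m F x y.1, ⟨y.1 + (1 - sympForm m F x y.1) • y₀,
      inOrth_add y.2 (inOrth_smul _ hy₀), ?_⟩), ?_, ?_⟩
  · rw [sympForm_add_right, sympForm_smul_right, hxy₀]
    ring
  · rintro ⟨t, ⟨y, hy1, hy2⟩⟩
    have e : sympForm m F x (y + (t - 1) • y₀) = t := by
      rw [sympForm_add_right, sympForm_smul_right, hxy₀, hy2]
      ring
    refine Prod.ext e (Subtype.ext ?_)
    simp only [e]
    rw [add_assoc, ← add_smul]
    have : t - 1 + (1 - t) = 0 := by ring
    rw [this, zero_smul, add_zero]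
  · rintro ⟨y, hy⟩
    apply Subtype.ext
    simp only
    rw [add_assoc, ← add_smul]
    have : 1 - sympForm m F x y + (sympForm m F x y - 1) = 0 := by ring
    rw [this, zero_smul, add_zero]

/-- the number of hyperbolic pairs orthogonal to a frame -/
theorem card_ext [Fintype F] {j : ℕ} {c : Fin j → (Fin m ⊕ Fin m → F) × (Fin m ⊕ Fin m → F)}
    (hc : IsFrame c) :
    Fintype.card F * Nat.card {p : (Fin m ⊕ Fin m → F) × (Fin m ⊕ Fin m → F) // IsExt c p} =
      (Nat.card {y : Fin m ⊕ Fin m → F // InOrth c y} - 1) *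
        Nat.card {y : Fin m ⊕ Fin m → F // InOrth c y} := by
  classical
  set U := {y : Fin m ⊕ Fin m → F // InOrth c y} with hU
  let zU : U := ⟨0, inOrth_zero c⟩
  have e : {p : (Fin m ⊕ Fin m → F) × (Fin m ⊕ Fin m → F) // IsExt c p} ≃
      Σ x : {x : U // x ≠ zU}, {y : Fin m ⊕ Fin m → F // InOrth c y ∧ sympForm m F x.1.1 y = 1} :=
    { toFun := fun p => ⟨⟨⟨p.1.1, p.2.1⟩, by
          intro h
          have h0 : p.1.1 = 0 := congrArg Subtype.val h
          have := p.2.2.2
          rw [h0, sympForm_zero_left] at this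
          exact zero_ne_one this⟩, ⟨p.1.2, p.2.2.1, p.2.2.2⟩⟩
      invFun := fun s => ⟨(s.1.1.1, s.2.1), s.1.1.2, s.2.2.1, s.2.2.2⟩
      left_inv := by rintro ⟨⟨x, y⟩, h1, h2, h3⟩; rfl
      right_inv := by rintro ⟨⟨⟨x, hx⟩, hx0⟩, ⟨y, hy⟩⟩; rfl }
  rw [Nat.card_congr e, Nat.card_sigma, Finset.mul_sum]
  have hfib : ∀ x : {x : U // x ≠ zU}, Fintype.card F *
      Nat.card {y : Fin m ⊕ Fin m → F // InOrth c y ∧ sympForm m F x.1.1 y = 1} = Nat.card U := by
    intro x
    apply card_fibre hc x.1.2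
    intro h0
    exact x.2 (Subtype.ext h0)
  rw [Finset.sum_congr rfl (fun x _ => hfib x), Finset.sum_const, smul_eq_mul, Finset.card_univ]
  congr 1
  rw [Nat.card_eq_fintype_card (α := U)]
  exact Set.card_ne_eq zU


/-- the type of frames of length `j` -/
abbrev Fr (m : ℕ) (F : Type*) [Field F] (j : ℕ) : Type _ :=
  {c : Fin j → (Fin m ⊕ Fin m → F) × (Fin m ⊕ Fin m → F) // IsFrame c}

theorem card_fr_zero : Nat.card (Fr m F 0) = 1 := by
  rw [Nat.card_eq_one_iff_unique]
  refine ⟨⟨fun a b => Subtype.ext (funext fun i => i.elim0)⟩, ⟨⟨fun i => i.elim0, fun a => a.elim0⟩⟩⟩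

/-- restriction of a frame -/
def restr {j : ℕ} (x : Fr m F (j + 1)) : Fr m F j :=
  ⟨Fin.init x.1, by
    have h := x.2
    rw [← Fin.snoc_init_self x.1] at h
    exact ((isFrame_snoc _ _).1 h).1⟩

/-- the fibre of the restriction map over a frame is the set of its extensions -/
def fibreEquiv {j : ℕ} (y : Fr m F j) :
    {x : Fr m F (j + 1) // restr x = y} ≃
      {p : (Fin m ⊕ Fin m → F) × (Fin m ⊕ Fin m → F) // IsExt y.1 p} where
  toFun x := ⟨x.1.1 (Fin.last j), by
    have h := x.1.2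
    rw [← Fin.snoc_init_self x.1.1] at h
    have h2 : Fin.init x.1.1 = y.1 := congrArg Subtype.val x.2
    rw [h2] at h
    exact ((isFrame_snoc _ _).1 h).2⟩
  invFun p := ⟨⟨(Fin.snoc y.1 p.1 : Fin (j + 1) → (Fin m ⊕ Fin m → F) × (Fin m ⊕ Fin m → F)),
    (isFrame_snoc _ _).2 ⟨y.2, p.2⟩⟩, by
      apply Subtype.ext
      show Fin.init (Fin.snoc y.1 p.1 : Fin (j + 1) → _) = y.1
      exact Fin.init_snoc _ _⟩
  left_inv x := by
    apply Subtype.ext
    apply Subtype.ext
    have h2 : Fin.init x.1.1 = y.1 := congrArg Subtype.val x.2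
    show (Fin.snoc y.1 (x.1.1 (Fin.last j)) : Fin (j + 1) → _) = x.1.1
    rw [← h2]
    exact Fin.snoc_init_self x.1.1
  right_inv p := by
    apply Subtype.ext
    show (Fin.snoc y.1 p.1 : Fin (j + 1) → _) (Fin.last j) = p.1
    exact Fin.snoc_last _ _

theorem card_fr_succ [Fintype F] (j : ℕ) (hj : j < m) :
    Nat.card (Fr m F (j + 1)) = Nat.card (Fr m F j) *
      ((Fintype.card F ^ (2 * (m - j)) - 1) * Fintype.card F ^ (2 * (m - j) - 1)) := by
  classical
  set q := Fintype.card F with hq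
  have hqpos : 0 < q := Fintype.card_pos
  have hE : ∀ y : Fr m F j,
      Nat.card {p : (Fin m ⊕ Fin m → F) × (Fin m ⊕ Fin m → F) // IsExt y.1 p} =
        (q ^ (2 * (m - j)) - 1) * q ^ (2 * (m - j) - 1) := by
    intro y
    have h1 := card_ext y.2
    have h2 := card_orth y.1 y.2
    rw [← hq] at h1 h2
    set u := Nat.card {x : Fin m ⊕ Fin m → F // InOrth y.1 x} with hu
    have hu' : u = q ^ (2 * (m - j)) := by
      have : q ^ (2 * j) * u = q ^ (2 * j) * q ^ (2 * (m - j)) := by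
        rw [h2, ← pow_add]
        congr 1
        omega
      exact Nat.eq_of_mul_eq_mul_left (pow_pos hqpos _) this
    rw [hu'] at h1
    have h3 : q ^ (2 * (m - j)) = q * q ^ (2 * (m - j) - 1) := by
      rw [← pow_succ']
      congr 1
      omega
    have h4 : q * Nat.card {p : (Fin m ⊕ Fin m → F) × (Fin m ⊕ Fin m → F) // IsExt y.1 p} =
        q * ((q ^ (2 * (m - j)) - 1) * q ^ (2 * (m - j) - 1)) := by
      rw [h1]
      generalize (q ^ (2 * (m - j)) - 1) = A
      rw [h3]
      ring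
    exact Nat.eq_of_mul_eq_mul_left hqpos h4
  rw [← Nat.card_congr (Equiv.sigmaFiberEquiv (restr (m := m) (F := F) (j := j))),
    Nat.card_sigma]
  rw [Finset.sum_congr rfl (fun y _ => (Nat.card_congr (fibreEquiv y)).trans (hE y)),
    Finset.sum_const, smul_eq_mul, Finset.card_univ, Nat.card_eq_fintype_card]

theorem card_fr [Fintype F] (j : ℕ) (hj : j ≤ m) :
    Nat.card (Fr m F j) = ∏ i ∈ Finset.range j,
      ((Fintype.card F ^ (2 * (m - i)) - 1) * Fintype.card F ^ (2 * (m - i) - 1)) := by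
  induction j with
  | zero => rw [card_fr_zero, Finset.range_zero, Finset.prod_empty]
  | succ j ih =>
    rw [card_fr_succ j (by omega), ih (by omega), Finset.prod_range_succ]

end Cfsg.Agent.Helper9Frames
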