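import Mathlib
import Cfsg.Agent.Lib.Helper4_GLSylow
import Cfsg.Agent.S0245

set_option linter.all false
set_option autoImplicit false

namespace Cfsg.Agent.Lib.Helper4_SpSylow
open Matrix Cfsg.Agent.Lib.Helper4_GLSylow

section numtheory
variable (q r : ℕ) [hr : Fact r.Prime]

theorem val_pow_sub_one_gen (hq : 2 ≤ q) (hrq : ¬ r ∣ q) (hr2 : r ≠ 2) (k : ℕ) (hk1 : 1 ≤ k)
    (hkr : ¬ r ∣ k) :
    padicValNat r (q ^ (orderOf (q : ZMod r) * k) - 1) =
      padicValNat r (q ^ orderOf (q : ZMod r) - 1) := by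
  have hq1 : 1 ≤ q := by omega
  set d := orderOf (q : ZMod r) with hd
  by_cases hd0 : d = 0
  · rw [hd0, zero_mul]
  have hd1 : 1 ≤ d := by omega
  have hodd : Odd r := hr.out.odd_of_ne_two hr2
  have hx : 1 < q ^ d := Nat.one_lt_pow (by omega) (by omega)
  have hxy : r ∣ q ^ d - 1 := (dvd_pow_sub_one_iff q r hq1 d).mpr (dvd_refl _)
  have hxr : ¬ r ∣ q ^ d := fun h => hrq (hr.out.dvd_of_dvd_pow h)
  have := padicValNat.pow_sub_pow hodd hx hxy hxr (n := k) (by omega)
  rw [one_pow, ← pow_mul] at this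
  rw [this, padicValNat.eq_zero_of_not_dvd hkr, add_zero]

theorem val_pow_sub_one_gen' (hq : 2 ≤ q) (hrq : ¬ r ∣ q) (hr2 : r ≠ 2) (j : ℕ) (hj1 : 1 ≤ j)
    (hjr : ∀ k, j = orderOf (q : ZMod r) * k → ¬ r ∣ k) :
    padicValNat r (q ^ j - 1) =
      if orderOf (q : ZMod r) ∣ j then padicValNat r (q ^ orderOf (q : ZMod r) - 1) else 0 := by
  split_ifs with hd
  · obtain ⟨k, rfl⟩ := hd
    have hk1 : 1 ≤ k := by
      by_contra h
      push Not at h
      have : k = 0 := by omega
      rw [this, mul_zero] at hj1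
      omega
    exact val_pow_sub_one_gen q r hq hrq hr2 k hk1 (hjr k rfl)
  · apply padicValNat.eq_zero_of_not_dvd
    rw [dvd_pow_sub_one_iff q r (by omega)]
    exact hd

/-- `r`-adic valuation of `∏_{i<N} (q^N - q^i)`, general hypothesis -/
theorem val_GL_card_gen (hq : 2 ≤ q) (hrq : ¬ r ∣ q) (hr2 : r ≠ 2) (n : ℕ)
    (hN : ∀ k, orderOf (q : ZMod r) * k ≤ n → 1 ≤ k → ¬ r ∣ k) :
    padicValNat r (∏ i : Fin n, (q ^ n - q ^ (i : ℕ))) =
      (n / orderOf (q : ZMod r)) * padicValNat r (q ^ orderOf (q : ZMod r) - 1) := by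
  have hq1 : 1 ≤ q := by omega
  set d := orderOf (q : ZMod r) with hd
  set v := padicValNat r (q ^ d - 1) with hv
  have hfac : ∀ i : Fin n, q ^ n - q ^ (i : ℕ) = q ^ (i : ℕ) * (q ^ (n - i) - 1) := by
    intro i
    have hi : (i : ℕ) ≤ n := i.2.le
    rw [Nat.mul_sub, mul_one, ← pow_add, Nat.add_sub_cancel' hi]
  have hne : ∀ i : Fin n, q ^ n - q ^ (i : ℕ) ≠ 0 := by
    intro i
    have : q ^ (i : ℕ) < q ^ n := Nat.pow_lt_pow_right (by omega) i.2
    omega
  have hval : ∀ i : Fin n, padicValNat r (q ^ n - q ^ (i : ℕ)) =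
      if d ∣ (n - (i : ℕ)) then v else 0 := by
    intro i
    rw [hfac i]
    have h1 : q ^ (i : ℕ) ≠ 0 := by positivity
    have h2 : q ^ (n - (i : ℕ)) - 1 ≠ 0 := by
      have : 1 < q ^ (n - (i : ℕ)) := Nat.one_lt_pow (by have := i.2; omega) (by omega)
      omega
    rw [padicValNat.mul h1 h2, padicValNat.eq_zero_of_not_dvd
      (fun h => hrq (hr.out.dvd_of_dvd_pow h)), zero_add]
    apply val_pow_sub_one_gen' q r hq hrq hr2 (n - i) (by have := i.2; omega)
    intro k hk
    apply hN k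
    · rw [hd, ← hk]; exact Nat.sub_le _ _
    · by_contra h
      push Not at h
      have hk0 : k = 0 := by omega
      rw [hk0, mul_zero] at hk
      have := i.2
      omega
  have hprod : padicValNat r (∏ i : Fin n, (q ^ n - q ^ (i : ℕ))) =
      ∑ i : Fin n, padicValNat r (q ^ n - q ^ (i : ℕ)) := by
    have h0 : (∏ i : Fin n, (q ^ n - q ^ (i : ℕ))) ≠ 0 :=
      Finset.prod_ne_zero_iff.mpr (fun i _ => hne i)
    rw [← Nat.factorization_def _ hr.out, Nat.factorization_prod (fun i _ => hne i)]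
    rw [Finset.sum_apply']
    apply Finset.sum_congr rfl
    intro i _
    rw [Nat.factorization_def _ hr.out]
  rw [hprod]
  simp only [hval]
  rw [Fin.sum_univ_eq_sum_range (fun i => if d ∣ (n - i) then v else 0) n]
  rw [← Finset.sum_range_reflect]
  have : ∀ j ∈ Finset.range n, (if d ∣ n - (n - 1 - j) then v else 0) =
      (if d ∣ (j + 1) then v else 0) := by
    intro j hj
    have hj' := Finset.mem_range.mp hj
    have : n - (n - 1 - j) = j + 1 := by omega
    rw [this]
  rw [Finset.sum_congr rfl this]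
  rw [← Finset.sum_filter, Finset.sum_const, smul_eq_mul]
  congr 1
  rw [← Nat.Ioc_filter_dvd_card_eq_div n d]
  apply Finset.card_bij (fun j _ => j + 1)
  · intro j hj
    rw [Finset.mem_filter, Finset.mem_range] at hj
    rw [Finset.mem_filter, Finset.mem_Ioc]
    exact ⟨⟨by omega, by omega⟩, hj.2⟩
  · intro a _ b _ h
    omega
  · intro b hb
    rw [Finset.mem_filter, Finset.mem_Ioc] at hb
    refine ⟨b - 1, ?_, by omega⟩
    rw [Finset.mem_filter, Finset.mem_range]
    refine ⟨by omega, ?_⟩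
    have : b - 1 + 1 = b := by omega
    rw [this]
    exact hb.2

/-- `r`-adic valuation of the order of `Sp_{2n}(q)` -/
theorem val_Sp_card (hq : 2 ≤ q) (hrq : ¬ r ∣ q) (hr2 : r ≠ 2) (n : ℕ) (hn : n < r) :
    padicValNat r (q ^ (n ^ 2) * ∏ i ∈ Finset.range n, (q ^ (2 * (i + 1)) - 1)) =
      ((Finset.Icc 1 n).filter (fun i => orderOf (q : ZMod r) ∣ 2 * i)).card *
        padicValNat r (q ^ orderOf (q : ZMod r) - 1) := by
  have hq1 : 1 ≤ q := by omega
  set d := orderOf (q : ZMod r) with hd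
  set v := padicValNat r (q ^ d - 1) with hv
  have hne : ∀ i ∈ Finset.range n, q ^ (2 * (i + 1)) - 1 ≠ 0 := by
    intro i _
    have : 1 < q ^ (2 * (i + 1)) := Nat.one_lt_pow (by omega) (by omega)
    omega
  have hval : ∀ i ∈ Finset.range n, padicValNat r (q ^ (2 * (i + 1)) - 1) =
      if d ∣ 2 * (i + 1) then v else 0 := by
    intro i hi
    have hi' := Finset.mem_range.mp hi
    apply val_pow_sub_one_gen' q r hq hrq hr2 (2 * (i + 1)) (by omega)
    intro k hk hrk
    obtain ⟨c, rfl⟩ := hrk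
    rw [← hd] at hk
    -- d * (r * c) = 2 (i+1) ≤ 2 n < 2 r
    have hc1 : 1 ≤ c := by
      by_contra h
      push Not at h
      have : c = 0 := by omega
      rw [this, mul_zero, mul_zero] at hk
      omega
    have hd1 : 1 ≤ d := by
      by_contra h
      push Not at h
      have : d = 0 := by omega
      rw [this, zero_mul] at hk
      omega
    have hdc : d * c < 2 := by
      by_contra h
      push Not at h
      have h1 : 2 * r ≤ (d * c) * r := Nat.mul_le_mul_right r h
      have h2 : (d * c) * r = d * (r * c) := by ring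
      omega
    have hdc1 : d * c = 1 := by
      have : 1 ≤ d * c := Nat.mul_pos hd1 hc1
      omega
    have hd_one : d = 1 := Nat.eq_one_of_mul_eq_one_right hdc1
    have hc_one : c = 1 := Nat.eq_one_of_mul_eq_one_left hdc1
    rw [hd_one, hc_one, one_mul, mul_one] at hk
    have h2r : 2 ∣ r := ⟨i + 1, hk.symm⟩
    rcases (Nat.Prime.eq_one_or_self_of_dvd hr.out 2 h2r) with h | h
    · omega
    · exact hr2 h.symm
  have hprod0 : (∏ i ∈ Finset.range n, (q ^ (2 * (i + 1)) - 1)) ≠ 0 :=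
    Finset.prod_ne_zero_iff.mpr hne
  have hqn : q ^ (n ^ 2) ≠ 0 := by positivity
  rw [padicValNat.mul hqn hprod0, padicValNat.eq_zero_of_not_dvd
    (fun h => hrq (hr.out.dvd_of_dvd_pow h)), zero_add]
  have hprod : padicValNat r (∏ i ∈ Finset.range n, (q ^ (2 * (i + 1)) - 1)) =
      ∑ i ∈ Finset.range n, padicValNat r (q ^ (2 * (i + 1)) - 1) := by
    rw [← Nat.factorization_def _ hr.out, Nat.factorization_prod hne]
    rw [Finset.sum_apply']
    apply Finset.sum_congr rfl
    intro i _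
    rw [Nat.factorization_def _ hr.out]
  rw [hprod, Finset.sum_congr rfl hval]
  rw [← Finset.sum_filter, Finset.sum_const, smul_eq_mul]
  congr 1
  apply Finset.card_bij (fun j _ => j + 1)
  · intro j hj
    rw [Finset.mem_filter, Finset.mem_range] at hj
    rw [Finset.mem_filter, Finset.mem_Icc]
    exact ⟨⟨by omega, by omega⟩, hj.2⟩
  · intro a _ b _ h
    omega
  · intro b hb
    rw [Finset.mem_filter, Finset.mem_Icc] at hb
    refine ⟨b - 1, ?_, by omega⟩
    rw [Finset.mem_filter, Finset.mem_range]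
    refine ⟨by omega, ?_⟩
    have : b - 1 + 1 = b := by omega
    rw [this]
    exact hb.2

end numtheory

section main
variable {F : Type*} [Field F] [Fintype F]

theorem GL_sylow_gen {q : ℕ} (hq : Fintype.card F = q) (n : ℕ)
    (r : ℕ) [Fact r.Prime] (hr2 : r ≠ 2) (hrq : ¬ r ∣ q)
    (hN : ∀ k, orderOf (q : ZMod r) * k ≤ n → 1 ≤ k → ¬ r ∣ k)
    (P : Sylow r (GL (Fin n) F)) :
    Nonempty (↥(P : Subgroup (GL (Fin n) F)) ≃*
      (Fin (n / orderOf (q : ZMod r)) →
        Multiplicative (ZMod (r ^ padicValNat r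
          ((Polynomial.cyclotomic (orderOf (q : ZMod r)) ℤ).eval (q : ℤ)).natAbs)))) := by
  classical
  have hrp : r.Prime := Fact.out
  have hq2 : 2 ≤ q := by rw [← hq]; exact Fintype.one_lt_card
  have hqr : (q : ZMod r) ≠ 0 := by
    rw [Ne, ZMod.natCast_eq_zero_iff]; exact hrq
  have hd1 : 1 ≤ orderOf (q : ZMod r) := by
    rw [Nat.succ_le_iff, orderOf_pos_iff]
    exact (IsUnit.mk0 _ hqr).isOfFinOrder
  set d := orderOf (q : ZMod r) with hd
  set v := padicValNat r ((Polynomial.cyclotomic d ℤ).eval (q : ℤ)).natAbs with hv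
  obtain ⟨L, instL, instA, hL, ι, hι⟩ := exists_torus_embedding (F := F) n d hd1
  haveI : Module.Finite F L := Module.finite_of_finrank_pos (by rw [hL]; omega)
  haveI : Finite L := Module.finite_of_finite F
  have hcardL : Nat.card L = q ^ d := by
    rw [Module.natCard_eq_pow_finrank (K := F) (V := L), hL, Nat.card_eq_fintype_card, hq]
  have hcardLu : Nat.card Lˣ = q ^ d - 1 := by rw [Nat.card_units, hcardL]
  obtain ⟨C⟩ : Nonempty (Sylow r Lˣ) := inferInstance
  have hCcard : Nat.card (C : Subgroup Lˣ) = r ^ v := by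
    rw [C.card_eq_multiplicity, hcardLu, Nat.factorization_def _ hrp, hv, hd,
      ← val_cyclotomic q r hq2]
  haveI : IsCyclic (C : Subgroup Lˣ) := inferInstance
  obtain ⟨g, hg⟩ := IsCyclic.exists_generator (α := (C : Subgroup Lˣ))
  let eC : Multiplicative (ZMod (r ^ v)) ≃* (C : Subgroup Lˣ) := zmodMulEquivOfGenerator hg hCcard
  let κ₀ : (Fin (n / d) → (C : Subgroup Lˣ)) →* (Fin (n / d) → Lˣ) :=
    { toFun := fun c i => (c i : Lˣ)
      map_one' := rfl
      map_mul' := fun _ _ => rfl }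
  have hκ₀ : Function.Injective κ₀ := by
    intro c c' h
    funext i
    exact Subtype.ext (congrFun h i)
  let κ := ι.comp κ₀
  have hκ : Function.Injective κ := hι.comp hκ₀
  have hcardR : Nat.card κ.range = (r ^ v) ^ (n / d) := by
    rw [← Nat.card_congr (MonoidHom.ofInjective hκ).toEquiv, Nat.card_fun, hCcard, Nat.card_fin]
  have hGL : Nat.card (GL (Fin n) F) = ∏ i : Fin n, (q ^ n - q ^ (i : ℕ)) := by
    rw [Matrix.card_GL_field, hq]
  have hsyl : Nat.card κ.range = r ^ (Nat.card (GL (Fin n) F)).factorization r := by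
    rw [hcardR, hGL, Nat.factorization_def _ hrp, val_GL_card_gen q r hq2 hrq hr2 n hN,
      ← hd, val_cyclotomic q r hq2, ← hd, ← hv, ← pow_mul, mul_comm]
  let Q : Sylow r (GL (Fin n) F) := Sylow.ofCard κ.range hsyl
  have e1 : ↥(P : Subgroup (GL (Fin n) F)) ≃* ↥κ.range := Sylow.equiv P Q
  have e2 : ↥κ.range ≃* (Fin (n / d) → (C : Subgroup Lˣ)) := (MonoidHom.ofInjective hκ).symm
  have e3 : (Fin (n / d) → (C : Subgroup Lˣ)) ≃* (Fin (n / d) → Multiplicative (ZMod (r ^ v))) :=
    MulEquiv.piCongrRight (fun _ => eC.symm)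
  exact ⟨(e1.trans e2).trans e3⟩

/-- the symplectic group into `GL_{2n}` -/
noncomputable def spToGL (n : ℕ) :
    Matrix.symplecticGroup (Fin n) F →* GL (Fin (n + n)) F :=
  ((Units.mapEquiv (Matrix.reindexAlgEquiv F F (finSumFinEquiv (m := n) (n := n))).toMulEquiv).toMonoidHom.comp
    (Units.map (Matrix.symplecticGroup (Fin n) F).subtype)).comp
      (toUnits (G := Matrix.symplecticGroup (Fin n) F)).toMonoidHom

theorem spToGL_injective (n : ℕ) : Function.Injective (spToGL (F := F) n) := by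
  intro x y hxy
  apply (toUnits (G := Matrix.symplecticGroup (Fin n) F)).injective
  apply Units.map_injective (f := (Matrix.symplecticGroup (Fin n) F).subtype) Subtype.val_injective
  apply (Units.mapEquiv (Matrix.reindexAlgEquiv F F
    (finSumFinEquiv (m := n) (n := n))).toMulEquiv).injective
  exact hxy

/-- `GL_n` into the symplectic group -/
noncomputable def glToSp (n : ℕ) : GL (Fin n) F →* Matrix.symplecticGroup (Fin n) F where
  toFun g := ⟨Matrix.fromBlocks (g : Matrix (Fin n) (Fin n) F) 0 0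
      ((g⁻¹ : GL (Fin n) F) : Matrix (Fin n) (Fin n) F)ᵀ, by
    rw [SymplecticGroup.fromBlocks_mem_iff]
    have h1 : (g : Matrix (Fin n) (Fin n) F) * ((g⁻¹ : GL (Fin n) F) : Matrix (Fin n) (Fin n) F)
        = 1 := by
      rw [← Units.val_mul, mul_inv_cancel]; rfl
    have h2 : (g : Matrix (Fin n) (Fin n) F)ᵀ *
        ((g⁻¹ : GL (Fin n) F) : Matrix (Fin n) (Fin n) F)ᵀ = 1 := by
      have h1' : ((g⁻¹ : GL (Fin n) F) : Matrix (Fin n) (Fin n) F) *
          (g : Matrix (Fin n) (Fin n) F) = 1 := by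
        rw [← Units.val_mul, inv_mul_cancel]; rfl
      rw [← Matrix.transpose_mul, h1', Matrix.transpose_one]
    refine ⟨by simp, by simp, ?_⟩
    rw [h2]; simp⟩
  map_one' := by
    apply Subtype.ext
    simp [Matrix.fromBlocks_one]
  map_mul' g h := by
    apply Subtype.ext
    show Matrix.fromBlocks _ _ _ _ = Matrix.fromBlocks _ _ _ _ * Matrix.fromBlocks _ _ _ _
    rw [Matrix.fromBlocks_multiply]
    simp only [Matrix.mul_zero, Matrix.zero_mul, add_zero, zero_add]
    congr 1
    rw [_root_.mul_inv_rev, Units.val_mul, Matrix.transpose_mul]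

theorem glToSp_injective (n : ℕ) : Function.Injective (glToSp (F := F) n) := by
  intro g h hgh
  have h1 : Matrix.fromBlocks (g : Matrix (Fin n) (Fin n) F) 0 0
      ((g⁻¹ : GL (Fin n) F) : Matrix (Fin n) (Fin n) F)ᵀ =
      Matrix.fromBlocks (h : Matrix (Fin n) (Fin n) F) 0 0
      ((h⁻¹ : GL (Fin n) F) : Matrix (Fin n) (Fin n) F)ᵀ := congrArg Subtype.val hgh
  have h2 := (Matrix.fromBlocks_inj.mp h1).1
  exact Units.ext h2


theorem S2381_main {q : ℕ} (hq : Fintype.card F = q) (n : ℕ)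
    (r : ℕ) [Fact r.Prime] (hr2 : r ≠ 2) (hrn : n < r) (hrq : ¬ r ∣ q)
    (P : Sylow r ↥(Matrix.symplecticGroup (Fin n) F)) :
    Nonempty (↥(P : Subgroup ↥(Matrix.symplecticGroup (Fin n) F)) ≃*
      (Fin ((Finset.Icc 1 n).filter (fun i => orderOf (q : ZMod r) ∣ 2 * i)).card →
        Multiplicative (ZMod (r ^ padicValNat r
          ((Polynomial.cyclotomic (orderOf (q : ZMod r)) ℤ).eval (q : ℤ)).natAbs)))) := by
  classical
  have hrp : r.Prime := Fact.out
  have hq2 : 2 ≤ q := by rw [← hq]; exact Fintype.one_lt_card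
  have hqr : (q : ZMod r) ≠ 0 := by
    rw [Ne, ZMod.natCast_eq_zero_iff]; exact hrq
  have hd1 : 1 ≤ orderOf (q : ZMod r) := by
    rw [Nat.succ_le_iff, orderOf_pos_iff]
    exact (IsUnit.mk0 _ hqr).isOfFinOrder
  set d := orderOf (q : ZMod r) with hd
  set v := padicValNat r ((Polynomial.cyclotomic d ℤ).eval (q : ℤ)).natAbs with hv
  set a := ((Finset.Icc 1 n).filter (fun i => d ∣ 2 * i)).card with ha
  have hvw : padicValNat r (q ^ d - 1) = v := by
    rw [hv, hd]; exact val_cyclotomic q r hq2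
  have hSp : Nat.card (Matrix.symplecticGroup (Fin n) F) =
      q ^ (n ^ 2) * ∏ i ∈ Finset.range n, (q ^ (2 * (i + 1)) - 1) :=
    Cfsg.Agent.S0245.result hq n
  have hvalSp : (Nat.card (Matrix.symplecticGroup (Fin n) F)).factorization r = a * v := by
    rw [hSp, Nat.factorization_def _ hrp, val_Sp_card q r hq2 hrq hr2 n hrn, ← hd, hvw]
  have hPcard : Nat.card (P : Subgroup (Matrix.symplecticGroup (Fin n) F)) = r ^ (a * v) := by
    rw [P.card_eq_multiplicity, hvalSp]
  rcases Nat.even_or_odd d with hev | hodd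
  · obtain ⟨e, he⟩ := hev
    have he1 : 1 ≤ e := by omega
    have ha' : a = (n + n) / d := by
      have h1 : (n + n) / d = n / e := by
        rw [he, ← two_mul, ← two_mul, Nat.mul_div_mul_left _ _ (by norm_num)]
      rw [h1, ha, ← Nat.Ioc_filter_dvd_card_eq_div n e]
      congr 1
      ext i
      simp only [Finset.mem_filter, Finset.mem_Icc, Finset.mem_Ioc]
      constructor
      · rintro ⟨⟨h1, h2⟩, h3⟩
        refine ⟨⟨by omega, h2⟩, ?_⟩
        rw [he, ← two_mul] at h3
        exact Nat.dvd_of_mul_dvd_mul_left (by norm_num) h3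
      · rintro ⟨⟨h1, h2⟩, h3⟩
        refine ⟨⟨by omega, h2⟩, ?_⟩
        rw [he, ← two_mul]
        exact Nat.mul_dvd_mul_left 2 h3
    let T := spToGL (F := F) n
    have hT : Function.Injective T := spToGL_injective (F := F) n
    have hN : ∀ k, d * k ≤ n + n → 1 ≤ k → ¬ r ∣ k := by
      intro k hk hk1 hrk
      have h1 := Nat.le_of_dvd (by omega) hrk
      have hd2 : 2 ≤ d := by omega
      have h2 : 2 * k ≤ d * k := Nat.mul_le_mul_right k hd2
      omega
    have hcardmap : Nat.card ((P : Subgroup (Matrix.symplecticGroup (Fin n) F)).map T) =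
        r ^ (a * v) := by
      rw [← Nat.card_congr (Subgroup.equivMapOfInjective
        (P : Subgroup (Matrix.symplecticGroup (Fin n) F)) T hT).toEquiv, hPcard]
    have hGL : Nat.card (GL (Fin (n+n)) F) =
        ∏ i : Fin (n+n), (q ^ (n+n) - q ^ (i : ℕ)) := by
      rw [Matrix.card_GL_field, hq]
    have hsyl : Nat.card ((P : Subgroup (Matrix.symplecticGroup (Fin n) F)).map T) =
        r ^ (Nat.card (GL (Fin (n+n)) F)).factorization r := by
      rw [hcardmap, hGL, Nat.factorization_def _ hrp,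
        val_GL_card_gen q r hq2 hrq hr2 (n+n) hN, ← hd, hvw, ha']
    let Q : Sylow r (GL (Fin (n+n)) F) := Sylow.ofCard _ hsyl
    obtain ⟨e3⟩ := GL_sylow_gen hq (n+n) r hr2 hrq hN Q
    have e1 : ↥(P : Subgroup (Matrix.symplecticGroup (Fin n) F)) ≃*
        ↥((P : Subgroup (Matrix.symplecticGroup (Fin n) F)).map T) :=
      Subgroup.equivMapOfInjective (P : Subgroup (Matrix.symplecticGroup (Fin n) F)) T hT
    rw [ha']
    exact ⟨e1.trans e3⟩
  · have ha' : a = n / d := by
      rw [ha, ← Nat.Ioc_filter_dvd_card_eq_div n d]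
      congr 1
      ext i
      simp only [Finset.mem_filter, Finset.mem_Icc, Finset.mem_Ioc]
      have hcop : Nat.Coprime d 2 := (Nat.coprime_two_left.mpr hodd).symm
      constructor
      · rintro ⟨⟨h1, h2⟩, h3⟩
        exact ⟨⟨by omega, h2⟩, hcop.dvd_of_dvd_mul_left h3⟩
      · rintro ⟨⟨h1, h2⟩, h3⟩
        exact ⟨⟨by omega, h2⟩, Dvd.dvd.mul_left h3 2⟩
    obtain ⟨R⟩ : Nonempty (Sylow r (GL (Fin n) F)) := inferInstance
    obtain ⟨e3⟩ := S2380_main hq n r hrn hrq R
    have hGL : Nat.card (GL (Fin n) F) = ∏ i : Fin n, (q ^ n - q ^ (i : ℕ)) := by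
      rw [Matrix.card_GL_field, hq]
    have hRcard : Nat.card (R : Subgroup (GL (Fin n) F)) = r ^ (a * v) := by
      rw [R.card_eq_multiplicity, hGL, Nat.factorization_def _ hrp,
        val_GL_card q r hq2 hrq n hrn, ← hd, hvw, ha']
    let T := glToSp (F := F) n
    have hT : Function.Injective T := glToSp_injective (F := F) n
    have hcardmap : Nat.card ((R : Subgroup (GL (Fin n) F)).map T) = r ^ (a * v) := by
      rw [← Nat.card_congr (Subgroup.equivMapOfInjective
        (R : Subgroup (GL (Fin n) F)) T hT).toEquiv, hRcard]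
    have hsyl : Nat.card ((R : Subgroup (GL (Fin n) F)).map T) =
        r ^ (Nat.card (Matrix.symplecticGroup (Fin n) F)).factorization r := by
      rw [hcardmap, hvalSp]
    let Q : Sylow r (Matrix.symplecticGroup (Fin n) F) := Sylow.ofCard _ hsyl
    have e1 : ↥(P : Subgroup (Matrix.symplecticGroup (Fin n) F)) ≃*
        ↥((R : Subgroup (GL (Fin n) F)).map T) := Sylow.equiv P Q
    have e2 : ↥(R : Subgroup (GL (Fin n) F)) ≃* ↥((R : Subgroup (GL (Fin n) F)).map T) :=
      Subgroup.equivMapOfInjective (R : Subgroup (GL (Fin n) F)) T hT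
    rw [ha']
    exact ⟨(e1.trans e2.symm).trans e3⟩

end main

end Cfsg.Agent.Lib.Helper4_SpSylow
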