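import Mathlib
import Cfsg.Prelude.Def_ClassicalGeometry

set_option linter.all false
set_option autoImplicit false

namespace Cfsg.Agent.Lib.Helper4_SpTorus
open Matrix

variable {F : Type*} [Field F] {m : ℕ}

/-- partner involution -/
def τ (m : ℕ) : Equiv.Perm (Fin m ⊕ Fin m) := Equiv.sumComm (Fin m) (Fin m)

@[simp] theorem τ_inl (a : Fin m) : τ m (Sum.inl a) = Sum.inr a := rfl
@[simp] theorem τ_inr (a : Fin m) : τ m (Sum.inr a) = Sum.inl a := rfl
theorem τ_τ (i : Fin m ⊕ Fin m) : τ m (τ m i) = i := by cases i <;> rfl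
theorem τ_ne (i : Fin m ⊕ Fin m) : τ m i ≠ i := by cases i <;> simp

/-- sign -/
def ε (F : Type*) [Field F] {m : ℕ} : Fin m ⊕ Fin m → F
  | Sum.inl _ => -1
  | Sum.inr _ => 1

@[simp] theorem ε_inl (a : Fin m) : ε F (Sum.inl a : Fin m ⊕ Fin m) = -1 := rfl
@[simp] theorem ε_inr (a : Fin m) : ε F (Sum.inr a : Fin m ⊕ Fin m) = 1 := rfl
theorem ε_sq (i : Fin m ⊕ Fin m) : ε F i * ε F i = 1 := by cases i <;> simp
theorem ε_τ (i : Fin m ⊕ Fin m) : ε F (τ m i) = - ε F i := by cases i <;> simp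
theorem ε_ne_zero (i : Fin m ⊕ Fin m) : ε F i ≠ 0 := by cases i <;> simp

theorem J_apply (i j : Fin m ⊕ Fin m) :
    Matrix.J (Fin m) F i j = if j = τ m i then ε F i else 0 := by
  rcases i with a | a <;> rcases j with b | b <;>
    simp [Matrix.J, Matrix.fromBlocks, Matrix.one_apply, eq_comm] <;> split_ifs <;> simp

theorem mulVec_single (M : Matrix (Fin m ⊕ Fin m) (Fin m ⊕ Fin m) F) (j : Fin m ⊕ Fin m) :
    M *ᵥ (Pi.single j (1 : F)) = fun i => M i j := by
  ext i
  simp [Matrix.mulVec, dotProduct, Pi.single_apply]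

theorem mem_L (i : Fin m ⊕ Fin m) (v : Fin m ⊕ Fin m → F) :
    v ∈ (Submodule.span F {(Pi.single i (1 : F) : Fin m ⊕ Fin m → F)}) ↔
      ∀ k, k ≠ i → v k = 0 := by
  rw [Submodule.mem_span_singleton]
  constructor
  · rintro ⟨a, rfl⟩ k hk
    simp [Pi.single_apply, hk]
  · intro h
    refine ⟨v i, ?_⟩
    ext k
    by_cases hk : k = i
    · subst hk; simp
    · simp [Pi.single_apply, hk, h k hk]

/-- weights -/
def wt (σ : Equiv.Perm (Fin m ⊕ Fin m)) (c : Fin m → Fˣ) : Fin m ⊕ Fin m → F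
  | Sum.inl a => ((c a : Fˣ) : F)
  | Sum.inr a => - ε F (σ (Sum.inl a)) * (((c a)⁻¹ : Fˣ) : F)

theorem wt_ne_zero (σ : Equiv.Perm (Fin m ⊕ Fin m)) (c : Fin m → Fˣ) (j : Fin m ⊕ Fin m) :
    wt σ c j ≠ 0 := by
  cases j with
  | inl a => simp [wt]
  | inr a => simp [wt, ε_ne_zero]

def mon (σ : Equiv.Perm (Fin m ⊕ Fin m)) (c : Fin m → Fˣ) :
    Matrix (Fin m ⊕ Fin m) (Fin m ⊕ Fin m) F :=
  Matrix.of fun i j => if i = σ j then wt σ c j else 0

theorem mon_apply (σ : Equiv.Perm (Fin m ⊕ Fin m)) (c : Fin m → Fˣ) (i j : Fin m ⊕ Fin m) :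
    mon σ c i j = if i = σ j then wt σ c j else 0 := rfl

theorem wt_rel (σ : Equiv.Perm (Fin m ⊕ Fin m)) (hσ : ∀ i, σ (τ m i) = τ m (σ i))
    (c : Fin m → Fˣ) (i : Fin m ⊕ Fin m) :
    wt σ c i * ε F (σ i) * wt σ c (τ m i) = ε F i := by
  cases i with
  | inl a =>
    simp only [wt, τ_inl, ε_inl]
    have h1 := ε_sq (F := F) (σ (Sum.inl a))
    have h2 : ((c a : Fˣ) : F) * (((c a)⁻¹ : Fˣ) : F) = 1 := by
      rw [← Units.val_mul, mul_inv_cancel, Units.val_one]
    calc ((c a : Fˣ) : F) * ε F (σ (Sum.inl a)) * (-ε F (σ (Sum.inl a)) * (((c a)⁻¹ : Fˣ) : F))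
        = - ((ε F (σ (Sum.inl a)) * ε F (σ (Sum.inl a))) *
            (((c a : Fˣ) : F) * (((c a)⁻¹ : Fˣ) : F))) := by ring
      _ = -1 := by rw [h1, h2, mul_one]
  | inr a =>
    simp only [wt, τ_inr, ε_inr]
    have h0 : σ (Sum.inr a) = τ m (σ (Sum.inl a)) := by rw [← hσ]; rfl
    rw [h0, ε_τ]
    have h1 := ε_sq (F := F) (σ (Sum.inl a))
    have h2 : ((c a : Fˣ) : F) * (((c a)⁻¹ : Fˣ) : F) = 1 := by
      rw [← Units.val_mul, mul_inv_cancel, Units.val_one]
    calc -ε F (σ (Sum.inl a)) * (((c a)⁻¹ : Fˣ) : F) * -ε F (σ (Sum.inl a)) * ((c a : Fˣ) : F)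
        = (ε F (σ (Sum.inl a)) * ε F (σ (Sum.inl a))) *
            (((c a : Fˣ) : F) * (((c a)⁻¹ : Fˣ) : F)) := by ring
      _ = 1 := by rw [h1, h2, mul_one]

theorem mon_mem (σ : Equiv.Perm (Fin m ⊕ Fin m)) (hσ : ∀ i, σ (τ m i) = τ m (σ i))
    (c : Fin m → Fˣ) : mon σ c ∈ Matrix.symplecticGroup (Fin m) F := by
  rw [SymplecticGroup.mem_iff']
  ext i j
  rw [Matrix.mul_apply]
  rw [Finset.sum_eq_single (σ j)]
  · rw [Matrix.mul_apply, Finset.sum_eq_single (σ i)]
    · simp only [Matrix.transpose_apply, mon_apply, if_true, J_apply]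
      by_cases hj : j = τ m i
      · subst hj
        rw [if_pos (hσ i), if_pos rfl]
        exact wt_rel σ hσ c i
      · rw [if_neg hj, if_neg, mul_zero, zero_mul]
        intro h
        apply hj
        apply σ.injective
        rw [h, hσ]
    · intro k _ hk
      simp [Matrix.transpose_apply, mon_apply, hk]
    · intro h; exact absurd (Finset.mem_univ _) h
  · intro l _ hl
    simp [mon_apply, hl]
  · intro h; exact absurd (Finset.mem_univ _) h

theorem mon_mulVec (σ : Equiv.Perm (Fin m ⊕ Fin m)) (c : Fin m → Fˣ)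
    (v : Fin m ⊕ Fin m → F) (i : Fin m ⊕ Fin m) :
    (mon σ c *ᵥ v) i = wt σ c (σ.symm i) * v (σ.symm i) := by
  simp only [Matrix.mulVec, dotProduct, mon_apply]
  rw [Finset.sum_eq_single (σ.symm i)]
  · simp
  · intro j _ hj
    rw [if_neg, zero_mul]
    intro h
    apply hj
    rw [h]; simp
  · intro h; exact absurd (Finset.mem_univ _) h

theorem mon_mem_L (σ : Equiv.Perm (Fin m ⊕ Fin m)) (c : Fin m → Fˣ)
    (u : Fin m ⊕ Fin m → F) (k : Fin m ⊕ Fin m) :
    u ∈ (Submodule.span F {(Pi.single k (1 : F) : Fin m ⊕ Fin m → F)}) ↔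
      mon σ c *ᵥ u ∈ (Submodule.span F {(Pi.single (σ k) (1 : F) : Fin m ⊕ Fin m → F)}) := by
  rw [mem_L, mem_L]
  constructor
  · intro h i hi
    rw [mon_mulVec, h _ (fun h' => hi (by rw [← h']; simp)), mul_zero]
  · intro h j hj
    have := h (σ j) (fun h' => hj (σ.injective h'))
    rw [mon_mulVec] at this
    simp only [Equiv.symm_apply_apply] at this
    exact (mul_eq_zero.mp this).resolve_left (wt_ne_zero σ c j)

/-- the torus -/
def T (m : ℕ) (F : Type*) [Field F] : Subgroup (Matrix.symplecticGroup (Fin m) F) :=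
  ⨅ i : Fin m ⊕ Fin m, Cfsg.stabilizing (Cfsg.spToMat m F)
    ((Submodule.span F {(Pi.single i (1 : F) : Fin m ⊕ Fin m → F)} :
      Submodule F (Fin m ⊕ Fin m → F)) : Set (Fin m ⊕ Fin m → F))

theorem mem_T (h : Matrix.symplecticGroup (Fin m) F) :
    h ∈ T m F ↔ ∀ (i : Fin m ⊕ Fin m) (v : Fin m ⊕ Fin m → F),
      v ∈ (Submodule.span F {(Pi.single i (1 : F) : Fin m ⊕ Fin m → F)}) ↔
        h.1 *ᵥ v ∈ (Submodule.span F {(Pi.single i (1 : F) : Fin m ⊕ Fin m → F)}) := by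
  unfold T
  rw [Subgroup.mem_iInf]
  exact Iff.rfl

theorem inv_mulVec (g : Matrix.symplecticGroup (Fin m) F) (v : Fin m ⊕ Fin m → F) :
    (g⁻¹).1 *ᵥ (g.1 *ᵥ v) = v := by
  rw [Matrix.mulVec_mulVec]
  have h : (g⁻¹).1 * g.1 = 1 := congrArg Subtype.val (inv_mul_cancel g)
  rw [h, Matrix.one_mulVec]

theorem mulVec_inv (g : Matrix.symplecticGroup (Fin m) F) (v : Fin m ⊕ Fin m → F) :
    g.1 *ᵥ ((g⁻¹).1 *ᵥ v) = v := by
  rw [Matrix.mulVec_mulVec]
  have h : g.1 * (g⁻¹).1 = 1 := congrArg Subtype.val (mul_inv_cancel g)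
  rw [h, Matrix.one_mulVec]

theorem mulVec_injective (g : Matrix.symplecticGroup (Fin m) F) :
    Function.Injective (fun v : Fin m ⊕ Fin m → F => g.1 *ᵥ v) := by
  intro x y hxy
  have := congrArg (fun v => (g⁻¹).1 *ᵥ v) hxy
  simp only [] at this
  rwa [inv_mulVec, inv_mulVec] at this

theorem conj_mem_T (g : Matrix.symplecticGroup (Fin m) F) (σ : Equiv.Perm (Fin m ⊕ Fin m))
    (hg : ∀ (u : Fin m ⊕ Fin m → F) (k : Fin m ⊕ Fin m),
      u ∈ (Submodule.span F {(Pi.single k (1 : F) : Fin m ⊕ Fin m → F)}) ↔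
        g.1 *ᵥ u ∈ (Submodule.span F {(Pi.single (σ k) (1 : F) : Fin m ⊕ Fin m → F)}))
    (h : Matrix.symplecticGroup (Fin m) F) : h ∈ T m F ↔ g * h * g⁻¹ ∈ T m F := by
  have hx : ∀ u : Fin m ⊕ Fin m → F,
      (g * h * g⁻¹).1 *ᵥ (g.1 *ᵥ u) = g.1 *ᵥ (h.1 *ᵥ u) := by
    intro u
    have h1 : (g * h * g⁻¹).1 = g.1 * h.1 * (g⁻¹).1 := rfl
    rw [h1, ← Matrix.mulVec_mulVec, ← Matrix.mulVec_mulVec, inv_mulVec]
  rw [mem_T, mem_T]
  constructor
  · intro hh k' v
    obtain ⟨k, rfl⟩ : ∃ k, σ k = k' := ⟨σ.symm k', by simp⟩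
    have hv : v = g.1 *ᵥ ((g⁻¹).1 *ᵥ v) := (mulVec_inv g v).symm
    rw [hv, hx, ← hg, ← hg]
    exact hh k _
  · intro hh k u
    have := hh (σ k) (g.1 *ᵥ u)
    rw [hx, ← hg, ← hg] at this
    exact this

theorem mon_mem_T (c : Fin m → Fˣ) :
    (⟨mon 1 c, mon_mem 1 (fun i => rfl) c⟩ : Matrix.symplecticGroup (Fin m) F) ∈ T m F := by
  rw [mem_T]
  intro i v
  have := mon_mem_L (1 : Equiv.Perm (Fin m ⊕ Fin m)) c v i
  simpa using this

theorem mon_mem_normalizer (σ : Equiv.Perm (Fin m ⊕ Fin m)) (hσ : ∀ i, σ (τ m i) = τ m (σ i))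
    (c : Fin m → Fˣ) :
    (⟨mon σ c, mon_mem σ hσ c⟩ : Matrix.symplecticGroup (Fin m) F) ∈
      Subgroup.normalizer ((T m F : Subgroup (Matrix.symplecticGroup (Fin m) F)) :
        Set (Matrix.symplecticGroup (Fin m) F)) := by
  rw [Subgroup.mem_normalizer_iff]
  intro h
  exact conj_mem_T _ σ (fun u k => mon_mem_L σ c u k) h

theorem mon_injective (σ σ' : Equiv.Perm (Fin m ⊕ Fin m)) (c c' : Fin m → Fˣ)
    (h : (mon σ c : Matrix (Fin m ⊕ Fin m) (Fin m ⊕ Fin m) F) = mon σ' c') : σ = σ' ∧ c = c' := by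
  have hσ : σ = σ' := by
    ext j
    have h1 := congrFun (congrFun h (σ j)) j
    rw [mon_apply, mon_apply, if_pos rfl] at h1
    by_contra hne
    rw [if_neg hne] at h1
    exact wt_ne_zero σ c j h1
  subst hσ
  refine ⟨rfl, ?_⟩
  funext a
  have h1 := congrFun (congrFun h (σ (Sum.inl a))) (Sum.inl a)
  rw [mon_apply, mon_apply, if_pos rfl, if_pos rfl] at h1
  exact Units.ext h1

theorem wt_one_inl (c : Fin m → Fˣ) (a : Fin m) :
    wt (F := F) (1 : Equiv.Perm (Fin m ⊕ Fin m)) c (Sum.inl a) = ((c a : Fˣ) : F) := rfl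

theorem wt_one_inr (c : Fin m → Fˣ) (a : Fin m) :
    wt (F := F) (1 : Equiv.Perm (Fin m ⊕ Fin m)) c (Sum.inr a) = (((c a)⁻¹ : Fˣ) : F) := by
  simp [wt]

theorem gmon_form (A : Matrix (Fin m ⊕ Fin m) (Fin m ⊕ Fin m) F)
    (σ : Equiv.Perm (Fin m ⊕ Fin m)) (w : Fin m ⊕ Fin m → F)
    (hA : ∀ i j, A i j = if i = σ j then w j else 0) (i j : Fin m ⊕ Fin m) :
    (Aᵀ * Matrix.J (Fin m) F * A) i j = w i * Matrix.J (Fin m) F (σ i) (σ j) * w j := by
  rw [Matrix.mul_apply]
  rw [Finset.sum_eq_single (σ j)]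
  · rw [Matrix.mul_apply, Finset.sum_eq_single (σ i)]
    · simp only [Matrix.transpose_apply, hA, if_true]
    · intro k _ hk
      simp [Matrix.transpose_apply, hA, hk]
    · intro h; exact absurd (Finset.mem_univ _) h
  · intro l _ hl
    simp [hA, hl]
  · intro h; exact absurd (Finset.mem_univ _) h

section hard
variable [Fintype F]

theorem exists_lam (hq : 4 ≤ Fintype.card F) : ∃ l : Fˣ, ((l : F)) ^ 2 ≠ 1 := by
  classical
  by_contra h
  push Not at h
  have h1 : ∀ x : F, x ∈ ({0, 1, -1} : Finset F) := by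
    intro x
    by_cases hx : x = 0
    · simp [hx]
    · have := h (Units.mk0 x hx)
      simp only [Units.val_mk0] at this
      have h2 : (x - 1) * (x + 1) = 0 := by
        have : (x - 1) * (x + 1) = x ^ 2 - 1 := by ring
        rw [this]; rw [‹x ^ 2 = 1›]; ring
      rcases mul_eq_zero.mp h2 with h3 | h3
      · have : x = 1 := by linear_combination h3
        simp [this]
      · have : x = -1 := by linear_combination h3
        simp [this]
  have h2 : Fintype.card F ≤ 3 := by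
    calc Fintype.card F = (Finset.univ : Finset F).card := Finset.card_univ.symm
      _ ≤ ({0, 1, -1} : Finset F).card := Finset.card_le_card (fun x _ => h1 x)
      _ ≤ 3 := Finset.card_le_three
  omega

theorem exists_sep (l : Fˣ) (hl : (l : F) ^ 2 ≠ 1) (i i' : Fin m ⊕ Fin m) (hne : i ≠ i') :
    ∃ c : Fin m → Fˣ, wt (F := F) (1 : Equiv.Perm (Fin m ⊕ Fin m)) c i ≠ wt 1 c i' := by
  classical
  have hl1 : (l : F) ≠ 1 := by
    intro h; apply hl; rw [h]; ring
  have hlinv : ((l⁻¹ : Fˣ) : F) ≠ 1 := by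
    intro h
    apply hl1
    have h2 : l⁻¹ = 1 := Units.ext h
    have h3 : l = 1 := inv_eq_one.mp h2
    rw [h3]; rfl
  have hll : (l : F) ≠ ((l⁻¹ : Fˣ) : F) := by
    intro h
    apply hl
    have h2 : (l : F) * ((l⁻¹ : Fˣ) : F) = 1 := by
      rw [← Units.val_mul, mul_inv_cancel]; rfl
    rw [pow_two]
    nth_rewrite 2 [h]
    exact h2
  rcases i with a | a
  · refine ⟨Function.update 1 a l, ?_⟩
    rcases i' with b | b
    · have hb : b ≠ a := fun h => hne (by rw [h])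
      rw [wt_one_inl, wt_one_inl, Function.update_self, Function.update_of_ne hb]
      exact hl1
    · rw [wt_one_inl, wt_one_inr, Function.update_self]
      by_cases hb : b = a
      · rw [hb, Function.update_self]; exact hll
      · rw [Function.update_of_ne hb]
        simpa using hl1
  · refine ⟨Function.update 1 a l, ?_⟩
    rcases i' with b | b
    · rw [wt_one_inr, wt_one_inl, Function.update_self]
      by_cases hb : b = a
      · rw [hb, Function.update_self]; exact hll.symm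
      · rw [Function.update_of_ne hb]
        simpa using hlinv
    · have hb : b ≠ a := fun h => hne (by rw [h])
      rw [wt_one_inr, wt_one_inr, Function.update_self, Function.update_of_ne hb]
      simpa using hlinv

theorem exists_axis (hq : 4 ≤ Fintype.card F) (g : Matrix.symplecticGroup (Fin m) F)
    (hg : g ∈ Subgroup.normalizer ((T m F : Subgroup (Matrix.symplecticGroup (Fin m) F)) :
        Set (Matrix.symplecticGroup (Fin m) F))) (j : Fin m ⊕ Fin m) :
    ∃ k, g.1 *ᵥ (Pi.single j (1 : F)) ∈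
      (Submodule.span F {(Pi.single k (1 : F) : Fin m ⊕ Fin m → F)}) := by
  classical
  obtain ⟨l, hl⟩ := exists_lam hq
  set v := g.1 *ᵥ (Pi.single j (1 : F)) with hv
  have hv0 : v ≠ 0 := by
    intro h0
    have h1 : g.1 *ᵥ (Pi.single j (1 : F)) = g.1 *ᵥ 0 := by
      rw [← hv, h0, Matrix.mulVec_zero]
    have h2 := mulVec_injective g h1
    have h3 := congrFun h2 j
    simp at h3
  obtain ⟨k, hk⟩ : ∃ k, v k ≠ 0 := by
    by_contra h
    push Not at h
    exact hv0 (funext h)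
  refine ⟨k, ?_⟩
  rw [mem_L]
  intro k' hk'
  by_contra hvk'
  obtain ⟨c, hc⟩ := exists_sep l hl k k' (Ne.symm hk')
  set t : Matrix.symplecticGroup (Fin m) F := ⟨mon 1 c, mon_mem 1 (fun i => rfl) c⟩ with ht
  have htT : t ∈ T m F := mon_mem_T c
  have ht' : g⁻¹ * t * g ∈ T m F := by
    rw [Subgroup.mem_normalizer_iff''] at hg
    exact (hg t).mp htT
  rw [mem_T] at ht'
  have h1 := (ht' j (Pi.single j 1)).mp (Submodule.mem_span_singleton_self _)
  rw [Submodule.mem_span_singleton] at h1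
  obtain ⟨μ, hμ⟩ := h1
  have h2 : t.1 *ᵥ v = μ • v := by
    have h3 : (g⁻¹ * t * g).1 = (g⁻¹).1 * t.1 * g.1 := rfl
    rw [h3, ← Matrix.mulVec_mulVec, ← Matrix.mulVec_mulVec] at hμ
    have h4 : g.1 *ᵥ (μ • (Pi.single j (1 : F) : Fin m ⊕ Fin m → F)) =
        g.1 *ᵥ ((g⁻¹).1 *ᵥ (t.1 *ᵥ (g.1 *ᵥ (Pi.single j (1 : F))))) := congrArg (fun x => g.1 *ᵥ x) hμ
    rw [mulVec_inv, Matrix.mulVec_smul] at h4
    exact h4.symm
  have h5 := congrFun h2 k
  have h6 := congrFun h2 k'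
  rw [show t.1 = mon 1 c from rfl, mon_mulVec] at h5 h6
  simp only [Equiv.Perm.one_symm, Equiv.Perm.one_apply, Pi.smul_apply, smul_eq_mul] at h5 h6
  have e1 : wt 1 c k = μ := mul_right_cancel₀ hk h5
  have e2 : wt 1 c k' = μ := mul_right_cancel₀ hvk' h6
  exact hc (e1.trans e2.symm)

theorem exists_mon (hq : 4 ≤ Fintype.card F) (g : Matrix.symplecticGroup (Fin m) F)
    (hg : g ∈ Subgroup.normalizer ((T m F : Subgroup (Matrix.symplecticGroup (Fin m) F)) :
        Set (Matrix.symplecticGroup (Fin m) F))) :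
    ∃ σ : Equiv.Perm (Fin m ⊕ Fin m), (∀ i, σ (τ m i) = τ m (σ i)) ∧
      ∃ c : Fin m → Fˣ, g.1 = mon σ c := by
  classical
  choose s hs using exists_axis hq g hg
  have hcol : ∀ i j, i ≠ s j → g.1 i j = 0 := by
    intro i j hij
    have := (mem_L (s j) _).mp (hs j) i hij
    rw [mulVec_single] at this
    exact this
  have hw : ∀ j, g.1 (s j) j ≠ 0 := by
    intro j h0
    have h1 : g.1 *ᵥ (Pi.single j (1 : F)) = g.1 *ᵥ 0 := by
      rw [Matrix.mulVec_zero, mulVec_single]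
      funext i
      by_cases hi : i = s j
      · rw [hi]; exact h0
      · exact hcol i j hi
    have h2 := congrFun (mulVec_injective g h1) j
    simp at h2
  have hsurj : Function.Surjective s := by
    intro k
    by_contra h
    push Not at h
    have hrow : ∀ j, g.1 k j = 0 := fun j => hcol k j (Ne.symm (h j))
    have h1 := congrFun (mulVec_inv g (Pi.single k (1 : F))) k
    simp only [Matrix.mulVec, dotProduct, hrow, zero_mul, Finset.sum_const_zero] at h1
    simp at h1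
  have hbij : Function.Bijective s := Finite.surjective_iff_bijective.mp hsurj
  set σ : Equiv.Perm (Fin m ⊕ Fin m) := Equiv.ofBijective s hbij with hσdef
  have hσs : ∀ j, σ j = s j := fun j => rfl
  set w : Fin m ⊕ Fin m → F := fun j => g.1 (s j) j with hwdef
  have hA : ∀ i j, g.1 i j = if i = σ j then w j else 0 := by
    intro i j
    by_cases hi : i = σ j
    · rw [if_pos hi, hi]; rfl
    · rw [if_neg hi]; exact hcol i j hi
  have hform := gmon_form g.1 σ w hA
  have hsymp : g.1ᵀ * Matrix.J (Fin m) F * g.1 = Matrix.J (Fin m) F :=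
    SymplecticGroup.mem_iff'.mp g.2
  have hrel : ∀ i, w i * Matrix.J (Fin m) F (σ i) (σ (τ m i)) * w (τ m i) = ε F i := by
    intro i
    rw [← hform, hsymp, J_apply, if_pos rfl]
  have hστ : ∀ i, σ (τ m i) = τ m (σ i) := by
    intro i
    have h1 := hrel i
    rw [J_apply] at h1
    by_contra hne
    rw [if_neg hne, mul_zero, zero_mul] at h1
    exact ε_ne_zero i h1.symm
  have hrel' : ∀ i, w i * ε F (σ i) * w (τ m i) = ε F i := by
    intro i
    have h1 := hrel i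
    rw [J_apply, if_pos (hστ i)] at h1
    exact h1
  refine ⟨σ, hστ, fun a => Units.mk0 (w (Sum.inl a)) (hw _), ?_⟩
  ext i j
  rw [hA, mon_apply]
  congr 1
  rcases j with a | a
  · rfl
  · have h1 := hrel' (Sum.inl a)
    rw [τ_inl, ε_inl] at h1
    have hx : w (Sum.inl a) ≠ 0 := hw _
    have he := ε_sq (F := F) (σ (Sum.inl a))
    show w (Sum.inr a) = - ε F (σ (Sum.inl a)) *
      (((Units.mk0 (w (Sum.inl a)) (hw _))⁻¹ : Fˣ) : F)
    rw [Units.val_inv_eq_inv_val, Units.val_mk0]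
    calc w (Sum.inr a)
        = (ε F (σ (Sum.inl a)) * ε F (σ (Sum.inl a))) *
            ((w (Sum.inl a))⁻¹ * w (Sum.inl a)) * w (Sum.inr a) := by
          rw [he, inv_mul_cancel₀ hx]; ring
      _ = ε F (σ (Sum.inl a)) * (w (Sum.inl a))⁻¹ *
            (w (Sum.inl a) * ε F (σ (Sum.inl a)) * w (Sum.inr a)) := by ring
      _ = ε F (σ (Sum.inl a)) * (w (Sum.inl a))⁻¹ * (-1) := by rw [h1]
      _ = - ε F (σ (Sum.inl a)) * (w (Sum.inl a))⁻¹ := by ring

end hard

section count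
variable [Fintype F]

theorem τ_cycleType (m : ℕ) : (τ m).cycleType = Multiset.replicate m 2 := by
  classical
  have hsq : (τ m) ^ 2 = 1 := by
    ext i
    simp [pow_two, τ_τ]
  have hall : ∀ n ∈ (τ m).cycleType, n = 2 := by
    intro n hn
    have h1 : n ∣ 2 :=
      (Equiv.Perm.dvd_of_mem_cycleType hn).trans (orderOf_dvd_of_pow_eq_one hsq)
    have h2 := Equiv.Perm.two_le_of_mem_cycleType hn
    have := Nat.le_of_dvd (by norm_num) h1
    omega
  have h3 : (τ m).cycleType = Multiset.replicate (Multiset.card (τ m).cycleType) 2 :=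
    Multiset.eq_replicate_card.mpr hall
  have hsupp : (τ m).support = Finset.univ := by
    ext i
    simp [Equiv.Perm.mem_support, τ_ne]
  have hsum : (τ m).cycleType.sum = 2 * m := by
    rw [Equiv.Perm.sum_cycleType, hsupp, Finset.card_univ, Fintype.card_sum, Fintype.card_fin]
    ring
  rw [h3, Multiset.sum_replicate, smul_eq_mul] at hsum
  have : Multiset.card (τ m).cycleType = m := by omega
  rw [h3, this]

theorem card_centralizer_τ (m : ℕ) :
    Nat.card (Subgroup.centralizer {τ m}) = 2 ^ m * m.factorial := by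
  classical
  rw [Equiv.Perm.nat_card_centralizer, τ_cycleType]
  rw [Multiset.sum_replicate, Multiset.prod_replicate, Fintype.card_sum, Fintype.card_fin,
    smul_eq_mul]
  have h0 : m + m - m * 2 = 0 := by omega
  rw [h0, Nat.factorial_zero, one_mul]
  congr 1
  by_cases hm : m = 0
  · subst hm; simp
  · rw [Multiset.toFinset_replicate, if_neg hm, Finset.prod_singleton,
      Multiset.count_replicate_self]

theorem S0777_main {q : ℕ} (hF : Fintype.card F = q) (hq : 4 ≤ q) (m : ℕ) :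
    Nat.card ↥(Subgroup.normalizer ((T m F : Subgroup (Matrix.symplecticGroup (Fin m) F)) :
        Set (Matrix.symplecticGroup (Fin m) F))) = 2 ^ m * Nat.factorial m * (q - 1) ^ m := by
  classical
  have hq' : 4 ≤ Fintype.card F := by rw [hF]; exact hq
  have hcomm : ∀ σ : Equiv.Perm (Fin m ⊕ Fin m), σ ∈ Subgroup.centralizer {τ m} →
      ∀ i, σ (τ m i) = τ m (σ i) := by
    intro σ hσ i
    rw [Subgroup.mem_centralizer_singleton_iff] at hσ
    exact DFunLike.congr_fun hσ i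
  let Ψ : {σ : Equiv.Perm (Fin m ⊕ Fin m) // σ ∈ Subgroup.centralizer {τ m}} × (Fin m → Fˣ) →
      ↥(Subgroup.normalizer ((T m F : Subgroup (Matrix.symplecticGroup (Fin m) F)) :
        Set (Matrix.symplecticGroup (Fin m) F))) :=
    fun p => ⟨⟨mon p.1.1 p.2, mon_mem p.1.1 (hcomm p.1.1 p.1.2) p.2⟩,
      mon_mem_normalizer _ (hcomm p.1.1 p.1.2) _⟩
  have hΨinj : Function.Injective Ψ := by
    rintro ⟨⟨σ, hσ⟩, c⟩ ⟨⟨σ', hσ'⟩, c'⟩ h
    have h1 : (mon σ c : Matrix (Fin m ⊕ Fin m) (Fin m ⊕ Fin m) F) = mon σ' c' :=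
      congrArg (fun x => x.1.1) h
    obtain ⟨rfl, rfl⟩ := mon_injective σ σ' c c' h1
    rfl
  have hΨsurj : Function.Surjective Ψ := by
    rintro ⟨g, hg⟩
    obtain ⟨σ, hσ, c, hc⟩ := exists_mon hq' g hg
    refine ⟨⟨⟨σ, ?_⟩, c⟩, ?_⟩
    · rw [Subgroup.mem_centralizer_singleton_iff]
      ext i
      exact hσ i
    · apply Subtype.ext
      apply Subtype.ext
      exact hc.symm
  rw [← Nat.card_congr (Equiv.ofBijective Ψ ⟨hΨinj, hΨsurj⟩), Nat.card_prod]
  have h1 : Nat.card {σ : Equiv.Perm (Fin m ⊕ Fin m) // σ ∈ Subgroup.centralizer {τ m}} =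
      2 ^ m * m.factorial := card_centralizer_τ m
  rw [h1, Nat.card_fun, Nat.card_fin, Nat.card_units, Nat.card_eq_fintype_card, hF]


theorem S0777_main' {q : ℕ} (hF : Fintype.card F = q) (hq : 4 ≤ q) (m : ℕ) :
    Nat.card ↥(Subgroup.normalizer (⨅ i : Fin m ⊕ Fin m, Cfsg.stabilizing (Cfsg.spToMat m F) ((Submodule.span F {(Pi.single i (1 : F) : Fin m ⊕ Fin m → F)} : Submodule F (Fin m ⊕ Fin m → F)) : Set (Fin m ⊕ Fin m → F)) : Set (Matrix.symplecticGroup (Fin m) F))) = 2 ^ m * Nat.factorial m * (q - 1) ^ m := by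
  have hset : (⨅ i : Fin m ⊕ Fin m, Cfsg.stabilizing (Cfsg.spToMat m F) ((Submodule.span F {(Pi.single i (1 : F) : Fin m ⊕ Fin m → F)} : Submodule F (Fin m ⊕ Fin m → F)) : Set (Fin m ⊕ Fin m → F)) : Set (Matrix.symplecticGroup (Fin m) F)) =
      ((T m F : Subgroup (Matrix.symplecticGroup (Fin m) F)) :
        Set (Matrix.symplecticGroup (Fin m) F)) := by
    unfold T
    rw [Subgroup.coe_iInf, Set.iInf_eq_iInter]
  rw [hset]
  exact S0777_main hF hq m

end count

end Cfsg.Agent.Lib.Helper4_SpTorus
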