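import Mathlib

namespace Cfsg.Agent.Lib.Helper4_Spectrum

/-- set of element orders -/
def om (X : Type*) [Group X] : Set ℕ := Set.range (orderOf : X → ℕ)

def mu (X : Type*) [Group X] : Set ℕ := {n | n ∈ om X ∧ ∀ m ∈ om X, n ∣ m → m = n}

theorem om_pos {X : Type*} [Group X] [Finite X] {n : ℕ} (h : n ∈ om X) : 0 < n := by
  obtain ⟨x, rfl⟩ := h
  exact orderOf_pos x

theorem om_dvd {X : Type*} [Group X] [Finite X] {n d : ℕ} (h : n ∈ om X) (hd : d ∣ n) : d ∈ om X := by
  have hn := om_pos h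
  obtain ⟨x, rfl⟩ := h
  obtain ⟨e, he⟩ := hd
  have he0 : e ≠ 0 := by
    intro h0; rw [h0, mul_zero] at he; omega
  have hd0 : d ≠ 0 := by
    intro h0; rw [h0, zero_mul] at he; omega
  refine ⟨x ^ e, ?_⟩
  rw [orderOf_pow_of_dvd he0 ⟨d, by rw [he, mul_comm]⟩, he]
  exact Nat.mul_div_cancel _ (Nat.pos_of_ne_zero he0)

theorem one_mem_om (X : Type*) [Group X] : 1 ∈ om X := ⟨1, orderOf_one⟩

theorem exists_mu {X : Type*} [Group X] [Finite X] {n : ℕ} (h : n ∈ om X) :
    ∃ M ∈ mu X, n ∣ M := by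
  classical
  have hfin : (om X).Finite := Set.finite_range _
  set T : Finset ℕ := hfin.toFinset.filter (fun m => n ∣ m) with hT
  have hne : T.Nonempty := ⟨n, by
    rw [hT, Finset.mem_filter, Set.Finite.mem_toFinset]; exact ⟨h, dvd_rfl⟩⟩
  set M := T.max' hne with hM
  have hMT : M ∈ T := Finset.max'_mem T hne
  rw [hT, Finset.mem_filter, Set.Finite.mem_toFinset] at hMT
  refine ⟨M, ⟨hMT.1, ?_⟩, hMT.2⟩
  intro m hm hMm
  have hmT : m ∈ T := by
    rw [hT, Finset.mem_filter, Set.Finite.mem_toFinset]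
    exact ⟨hm, hMT.2.trans hMm⟩
  have h1 : m ≤ M := Finset.le_max' T m hmT
  have h2 : M ≤ m := Nat.le_of_dvd (om_pos hm) hMm
  omega

theorem om_pi {X : Type*} [Group X] (k n : ℕ) :
    n ∈ om (Fin k → X) ↔
      ∃ s : Finset ℕ, s.card ≤ k ∧ (∀ a ∈ s, a ∈ om X) ∧ n = s.lcm id := by
  classical
  constructor
  · rintro ⟨g, rfl⟩
    refine ⟨Finset.univ.image (fun i => orderOf (g i)), ?_, ?_, ?_⟩
    · refine (Finset.card_image_le).trans ?_
      rw [Finset.card_univ, Fintype.card_fin]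
    · intro a ha
      obtain ⟨i, -, rfl⟩ := Finset.mem_image.mp ha
      exact ⟨g i, rfl⟩
    · rw [Pi.orderOf, Finset.lcm_image]
      rfl
  · rintro ⟨s, hcard, hs, rfl⟩
    choose! x hx using hs
    have hc : Fintype.card ↥s ≤ Fintype.card (Fin k) := by
      rw [Fintype.card_coe, Fintype.card_fin]; exact hcard
    obtain ⟨e⟩ := Function.Embedding.nonempty_of_card_le hc
    refine ⟨Function.extend e (fun a : ↥s => x a) (fun _ => 1), ?_⟩
    rw [Pi.orderOf]
    apply Nat.dvd_antisymm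
    · apply Finset.lcm_dvd
      intro i _
      by_cases hi : ∃ a, e a = i
      · obtain ⟨a, rfl⟩ := hi
        rw [e.injective.extend_apply, hx a a.2]
        exact Finset.dvd_lcm (f := id) a.2
      · rw [Function.extend_apply' _ _ _ hi]
        simp
    · apply Finset.lcm_dvd
      intro a ha
      have h1 : orderOf (Function.extend e (fun a : ↥s => x a) (fun _ => (1 : X)) (e ⟨a, ha⟩)) = a := by
        rw [e.injective.extend_apply]; exact hx a ha
      have h2 := Finset.dvd_lcm (f := fun i => orderOf (Function.extend e (fun a : ↥s => x a)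
        (fun _ => (1 : X)) i)) (Finset.mem_univ (e ⟨a, ha⟩))
      rw [h1] at h2
      exact h2

theorem om_prod {A B : Type*} [Group A] [Group B] (n : ℕ) :
    n ∈ om (A × B) ↔ ∃ a ∈ om A, ∃ b ∈ om B, n = Nat.lcm a b := by
  constructor
  · rintro ⟨⟨x, y⟩, rfl⟩
    exact ⟨orderOf x, ⟨x, rfl⟩, orderOf y, ⟨y, rfl⟩, Prod.orderOf_mk⟩
  · rintro ⟨_, ⟨x, rfl⟩, _, ⟨y, rfl⟩, rfl⟩
    exact ⟨(x, y), Prod.orderOf_mk⟩

theorem main {G H : Type*} [Group G] [Finite G] [Group H] [Finite H] (k : ℕ) (hk : 1 ≤ k)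
    (hsub : mu H ⊆ mu G) (hfew : (mu G \ mu H).ncard < k) :
    om (Fin k → G) = om ((Fin (k - 1) → G) × H) := by
  classical
  have hHG : om H ⊆ om G := by
    intro b hb
    obtain ⟨M, hM, hbM⟩ := exists_mu hb
    exact om_dvd (hsub hM).1 hbM
  ext n
  constructor
  · intro hn
    obtain ⟨s, hcard, hs, rfl⟩ := (om_pi k n).mp hn
    have hex : ∀ a ∈ s, ∃ M ∈ mu G, a ∣ M := fun a ha => exists_mu (hs a ha)
    choose! M hM using hex
    set S := s.image M with hS
    set d : ℕ → ℕ := fun M₀ => (s.filter (fun a => M a = M₀)).lcm id with hd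
    have hd_dvd : ∀ M₀, d M₀ ∣ M₀ := by
      intro M₀
      apply Finset.lcm_dvd
      intro a ha
      rw [Finset.mem_filter] at ha
      rw [← ha.2]
      exact (hM a ha.1).2
    have hn : s.lcm id = S.lcm d := by
      apply Nat.dvd_antisymm
      · apply Finset.lcm_dvd
        intro a ha
        have h1 : a ∣ d (M a) :=
          Finset.dvd_lcm (f := id) (Finset.mem_filter.mpr ⟨ha, rfl⟩)
        have h2 : d (M a) ∣ S.lcm d := Finset.dvd_lcm (Finset.mem_image_of_mem M ha)
        exact h1.trans h2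
      · apply Finset.lcm_dvd
        intro M₀ _
        apply Finset.lcm_dvd
        intro a ha
        exact Finset.dvd_lcm (f := id) (Finset.mem_filter.mp ha).1
    have hSmu : ∀ M₀ ∈ S, M₀ ∈ mu G := by
      intro M₀ hM₀
      obtain ⟨a, ha, rfl⟩ := Finset.mem_image.mp hM₀
      exact (hM a ha).1
    have hdG : ∀ M₀ ∈ S, d M₀ ∈ om G := fun M₀ hM₀ => om_dvd (hSmu M₀ hM₀).1 (hd_dvd M₀)
    have hScard : S.card ≤ k := Finset.card_image_le.trans hcard
    rw [om_prod]
    by_cases hSk : S.card ≤ k - 1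
    · refine ⟨(S.image d).lcm id, ?_, 1, one_mem_om H, ?_⟩
      · rw [om_pi]
        refine ⟨S.image d, Finset.card_image_le.trans hSk, ?_, rfl⟩
        intro a ha
        obtain ⟨M₀, hM₀, rfl⟩ := Finset.mem_image.mp ha
        exact hdG M₀ hM₀
      · rw [Nat.lcm_one_right, Finset.lcm_image, hn]
        rfl
    · have hSk' : S.card = k := by omega
      have hex : ∃ M₁ ∈ S, M₁ ∈ mu H := by
        by_contra hcon
        push Not at hcon
        have hsub' : (S : Set ℕ) ⊆ mu G \ mu H := by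
          intro x hx
          exact ⟨hSmu x hx, hcon x hx⟩
        have hfin : (mu G \ mu H).Finite :=
          ((Set.finite_range (orderOf : G → ℕ)).subset (fun x hx => hx.1)).subset
            Set.sdiff_subset
        have := Set.ncard_le_ncard hsub' hfin
        rw [Set.ncard_coe_finset] at this
        omega
      obtain ⟨M₁, hM₁S, hM₁H⟩ := hex
      refine ⟨((S.erase M₁).image d).lcm id, ?_, d M₁, om_dvd hM₁H.1 (hd_dvd M₁), ?_⟩
      · rw [om_pi]
        refine ⟨(S.erase M₁).image d, ?_, ?_, rfl⟩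
        · refine Finset.card_image_le.trans ?_
          rw [Finset.card_erase_of_mem hM₁S, hSk']
        · intro a ha
          obtain ⟨M₀, hM₀, rfl⟩ := Finset.mem_image.mp ha
          exact hdG M₀ (Finset.mem_of_mem_erase hM₀)
      · have h3 : S.lcm d = Nat.lcm ((S.erase M₁).lcm d) (d M₁) := by
          conv_lhs => rw [← Finset.insert_erase hM₁S]
          rw [Finset.lcm_insert, Nat.lcm_comm]
          rfl
        have h4 : ((S.erase M₁).image d).lcm id = (S.erase M₁).lcm d := by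
          rw [Finset.lcm_image]; rfl
        rw [hn, h3, h4]
  · intro hn
    obtain ⟨a, ha, b, hb, rfl⟩ := (om_prod n).mp hn
    obtain ⟨s, hcard, hs, rfl⟩ := (om_pi (k - 1) a).mp ha
    rw [om_pi]
    refine ⟨insert b s, ?_, ?_, ?_⟩
    · refine (Finset.card_insert_le b s).trans ?_
      omega
    · intro x hx
      rcases Finset.mem_insert.mp hx with rfl | hx
      · exact hHG hb
      · exact hs x hx
    · rw [Finset.lcm_insert, Nat.lcm_comm]
      rfl


end Cfsg.Agent.Lib.Helper4_Spectrum
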