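import Mathlib

set_option autoImplicit false

namespace Cfsg.Agent.Lib.Helper4_SqZero

variable {F : Type*} [Field F] {V : Type*} [AddCommGroup V] [Module F V]

/-- the structure of a square-zero endomorphism -/
theorem structure_sq_zero (f : V →ₗ[F] V) (hf : ∀ v, f (f v) = 0) :
    ∃ (Z : Submodule F V) (θ : V ≃ₗ[F] (LinearMap.range f × LinearMap.range f × Z)),
      ∀ v, θ (f v) = (0, (θ v).1, 0) := by
  classical
  set I := LinearMap.range f with hI
  -- right inverse s of rangeRestrict
  obtain ⟨s, hs⟩ := LinearMap.exists_rightInverse_of_surjective f.rangeRestrict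
    (LinearMap.range_rangeRestrict f)
  -- left inverse P of the inclusion
  obtain ⟨P, hP⟩ := LinearMap.exists_leftInverse_of_injective I.subtype (Submodule.ker_subtype I)
  have hs' : ∀ x : I, f (s x) = x := by
    intro x
    have := congrArg (fun g => ((g x : I) : V)) hs
    simpa using this
  have hP' : ∀ x : I, P (x : V) = x := by
    intro x
    have := congrArg (fun g => g x) hP
    simpa using this
  have hfI : ∀ x : I, f (x : V) = 0 := by
    rintro ⟨_, v, rfl⟩
    exact hf v
  set Z : Submodule F V := LinearMap.ker f ⊓ LinearMap.ker P with hZ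
  set c1 : V →ₗ[F] I := f.rangeRestrict with hc1
  set w : V →ₗ[F] V := LinearMap.id - s ∘ₗ c1 with hw
  set c2 : V →ₗ[F] I := P ∘ₗ w with hc2
  set c3' : V →ₗ[F] V := w - I.subtype ∘ₗ c2 with hc3'
  have hc1v : ∀ v, ((c1 v : I) : V) = f v := fun v => rfl
  have hfw : ∀ v, f (w v) = 0 := by
    intro v
    simp only [hw, LinearMap.sub_apply, LinearMap.id_apply, LinearMap.comp_apply, map_sub]
    rw [hs', hc1v, sub_self]
  have hc3mem : ∀ v, c3' v ∈ Z := by
    intro v
    rw [hZ, Submodule.mem_inf, LinearMap.mem_ker, LinearMap.mem_ker]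
    constructor
    · simp only [hc3', LinearMap.sub_apply, LinearMap.comp_apply, map_sub, Submodule.subtype_apply]
      rw [hfw, hfI, sub_zero]
    · simp only [hc3', LinearMap.sub_apply, LinearMap.comp_apply, map_sub, Submodule.subtype_apply]
      rw [hP']
      simp [hc2]
  set c3 : V →ₗ[F] Z := LinearMap.codRestrict Z c3' hc3mem with hc3
  set toF : V →ₗ[F] (I × I × Z) := c1.prod (c2.prod c3) with htoF
  set invF : (I × I × Z) →ₗ[F] V :=
    s ∘ₗ LinearMap.fst F I (I × Z) + I.subtype ∘ₗ LinearMap.fst F I Z ∘ₗ LinearMap.snd F I (I × Z)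
      + Z.subtype ∘ₗ LinearMap.snd F I Z ∘ₗ LinearMap.snd F I (I × Z) with hinvF
  have hZf : ∀ z : Z, f (z : V) = 0 := fun z => (LinearMap.mem_ker.1 (Submodule.mem_inf.1 z.2).1)
  have hZP : ∀ z : Z, P (z : V) = 0 := fun z => (LinearMap.mem_ker.1 (Submodule.mem_inf.1 z.2).2)
  have h1 : toF ∘ₗ invF = LinearMap.id := by
    apply LinearMap.ext
    rintro ⟨x, y, z⟩
    have hv : invF (x, y, z) = s x + (y : V) + (z : V) := by
      simp [hinvF]
    have e1 : c1 (invF (x, y, z)) = x := by
      apply Subtype.ext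
      rw [hc1v, hv, map_add, map_add, hs', hfI, hZf, add_zero, add_zero]
    have ew : w (invF (x, y, z)) = (y : V) + (z : V) := by
      simp only [hw, LinearMap.sub_apply, LinearMap.id_apply, LinearMap.comp_apply]
      rw [e1, hv]
      abel
    have e2 : c2 (invF (x, y, z)) = y := by
      simp only [hc2, LinearMap.comp_apply]
      rw [ew, map_add, hP', hZP, add_zero]
    have e3 : c3 (invF (x, y, z)) = z := by
      apply Subtype.ext
      simp only [hc3, LinearMap.codRestrict_apply, hc3', LinearMap.sub_apply, LinearMap.comp_apply,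
        Submodule.subtype_apply]
      rw [ew, e2]
      abel
    show (c1 (invF (x, y, z)), c2 (invF (x, y, z)), c3 (invF (x, y, z))) = (x, y, z)
    rw [e1, e2, e3]
  have h2 : invF ∘ₗ toF = LinearMap.id := by
    apply LinearMap.ext
    intro v
    show invF (c1 v, c2 v, c3 v) = v
    have : invF (c1 v, c2 v, c3 v) = s (c1 v) + (c2 v : V) + (c3 v : V) := by
      simp [hinvF]
    rw [this]
    simp only [hc3, LinearMap.codRestrict_apply, hc3', LinearMap.sub_apply, LinearMap.comp_apply,
      Submodule.subtype_apply, hw, LinearMap.id_apply]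
    abel
  refine ⟨Z, LinearEquiv.ofLinearMap toF invF h1 h2, ?_⟩
  intro v
  show toF (f v) = (0, (toF v).1, 0)
  have e1 : c1 (f v) = 0 := by
    apply Subtype.ext
    rw [hc1v, hf]
    rfl
  have ew : w (f v) = f v := by
    simp only [hw, LinearMap.sub_apply, LinearMap.id_apply, LinearMap.comp_apply]
    rw [e1, map_zero, sub_zero]
  have e2 : c2 (f v) = c1 v := by
    simp only [hc2, LinearMap.comp_apply]
    rw [ew]
    exact hP' (c1 v)
  have e3 : c3 (f v) = 0 := by
    apply Subtype.ext
    simp only [hc3, LinearMap.codRestrict_apply, hc3', LinearMap.sub_apply, LinearMap.comp_apply,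
      Submodule.subtype_apply]
    rw [ew, e2, hc1v, sub_self]
    rfl
  show (c1 (f v), c2 (f v), c3 (f v)) = (0, c1 v, 0)
  rw [e1, e2, e3]


theorem conj_sq_zero [FiniteDimensional F V] (f f' : V →ₗ[F] V) (hf : ∀ v, f (f v) = 0)
    (hf' : ∀ v, f' (f' v) = 0)
    (hr : Module.finrank F (LinearMap.range f) = Module.finrank F (LinearMap.range f')) :
    ∃ g : V ≃ₗ[F] V, ∀ v, g (f v) = f' (g v) := by
  obtain ⟨Z, θ, hθ⟩ := structure_sq_zero f hf
  obtain ⟨Z', θ', hθ'⟩ := structure_sq_zero f' hf'
  have h1 := θ.finrank_eq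
  have h2 := θ'.finrank_eq
  rw [Module.finrank_prod, Module.finrank_prod] at h1 h2
  have hZ : Module.finrank F Z = Module.finrank F Z' := by omega
  let α : LinearMap.range f ≃ₗ[F] LinearMap.range f' := LinearEquiv.ofFinrankEq _ _ hr
  let γ : Z ≃ₗ[F] Z' := LinearEquiv.ofFinrankEq _ _ hZ
  let μ := α.prodCongr (α.prodCongr γ)
  refine ⟨θ ≪≫ₗ μ ≪≫ₗ θ'.symm, ?_⟩
  intro v
  apply θ'.injective
  rw [hθ']
  simp only [LinearEquiv.trans_apply, LinearEquiv.apply_symm_apply]
  rw [hθ]
  simp [μ]

theorem exists_det_one_basis {I : Type*} [AddCommGroup I] [Module F I] [FiniteDimensional F I]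
    (hI : 0 < Module.finrank F I) (ε : F) : ∃ β : I →ₗ[F] I, LinearMap.det β = ε := by
  classical
  obtain ⟨r, hr⟩ : ∃ r, Module.finrank F I = r + 1 := ⟨Module.finrank F I - 1, by omega⟩
  let b : Module.Basis (Fin (r + 1)) F I := Module.finBasisOfFinrankEq F I hr
  refine ⟨Matrix.toLin b b (Matrix.diagonal (fun i => if i = 0 then ε else 1)), ?_⟩
  rw [LinearMap.det_toLin, Matrix.det_diagonal]
  rw [Finset.prod_ite_eq' Finset.univ (0 : Fin (r + 1)) (fun _ => ε)]
  simp

theorem comm_sq_zero [FiniteDimensional F V] (f : V →ₗ[F] V) (hf : ∀ v, f (f v) = 0)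
    (hne : f ≠ 0) (ε : F) :
    ∃ c : V →ₗ[F] V, (∀ v, c (f v) = f (c v)) ∧ LinearMap.det c = ε * ε := by
  obtain ⟨Z, θ, hθ⟩ := structure_sq_zero f hf
  have hI : 0 < Module.finrank F (LinearMap.range f) := by
    rw [Module.finrank_pos_iff_exists_ne_zero]
    by_contra hcon
    push Not at hcon
    apply hne
    apply LinearMap.ext
    intro v
    have := hcon ⟨f v, v, rfl⟩
    exact congrArg Subtype.val this
  obtain ⟨β, hβ⟩ := exists_det_one_basis hI ε
  let m : (LinearMap.range f × LinearMap.range f × Z) →ₗ[F] (LinearMap.range f × LinearMap.range f × Z) :=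
    β.prodMap (β.prodMap LinearMap.id)
  refine ⟨(θ.symm : _ →ₗ[F] V) ∘ₗ m ∘ₗ (θ : V →ₗ[F] _), ?_, ?_⟩
  · intro v
    apply θ.injective
    rw [hθ]
    simp only [LinearMap.comp_apply, LinearEquiv.coe_coe, LinearEquiv.apply_symm_apply]
    rw [hθ]
    simp [m]
  · have := LinearMap.det_conj m θ.symm
    rw [LinearEquiv.symm_symm] at this
    rw [this]
    simp only [m]
    rw [LinearMap.det_prodMap, LinearMap.det_prodMap, hβ, LinearMap.det_id, mul_one]


open Matrix in
theorem S2162_main {F : Type*} [Field F] [Fintype F] [CharP F 2] {n : ℕ}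
    (a b : Matrix.SpecialLinearGroup (Fin n) F) (ha : orderOf a = 2) (hb : orderOf b = 2) :
    IsConj a b ↔ ((a : Matrix (Fin n) (Fin n) F) - 1).rank = ((b : Matrix (Fin n) (Fin n) F) - 1).rank := by
  constructor
  · intro h
    rw [isConj_iff] at h
    obtain ⟨c, hc⟩ := h
    have hcinv : (c : Matrix (Fin n) (Fin n) F) * (c⁻¹ : Matrix.SpecialLinearGroup (Fin n) F) = 1 := by
      show ((c * c⁻¹ : Matrix.SpecialLinearGroup (Fin n) F) : Matrix (Fin n) (Fin n) F) = 1
      rw [mul_inv_cancel]
      rfl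
    have h1 : (b : Matrix (Fin n) (Fin n) F) - 1
        = (c : Matrix (Fin n) (Fin n) F) * ((a : Matrix (Fin n) (Fin n) F) - 1)
          * (c⁻¹ : Matrix.SpecialLinearGroup (Fin n) F) := by
      rw [← hc]
      simp only [Matrix.SpecialLinearGroup.coe_mul, Matrix.mul_sub, Matrix.sub_mul, Matrix.mul_one]
      rw [hcinv]
    rw [h1]
    rw [Matrix.rank_mul_eq_left_of_isUnit_det, Matrix.rank_mul_eq_right_of_isUnit_det]
    · rw [c.2]; exact isUnit_one
    · rw [(c⁻¹).2]; exact isUnit_one
  · intro hr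
    have h2 : (2 : F) = 0 := by
      have := CharP.cast_eq_zero F 2
      exact_mod_cast this
    have hsq : ∀ x : Matrix.SpecialLinearGroup (Fin n) F, orderOf x = 2 →
        ((x : Matrix (Fin n) (Fin n) F) - 1) * ((x : Matrix (Fin n) (Fin n) F) - 1) = 0 := by
      intro x hx
      have hxx : x * x = 1 := by
        rw [← pow_two, ← hx]; exact pow_orderOf_eq_one x
      have hxx' : (x : Matrix (Fin n) (Fin n) F) * (x : Matrix (Fin n) (Fin n) F) = 1 := by
        have := congrArg Subtype.val hxx
        simpa using this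
      have : ((x : Matrix (Fin n) (Fin n) F) - 1) * ((x : Matrix (Fin n) (Fin n) F) - 1)
          = (2 : F) • (1 - (x : Matrix (Fin n) (Fin n) F)) := by
        rw [Matrix.mul_sub, Matrix.sub_mul, Matrix.sub_mul, hxx', two_smul]
        simp only [Matrix.mul_one, Matrix.one_mul]
        abel
      rw [this, h2, zero_smul]
    have hT : ∀ M : Matrix (Fin n) (Fin n) F, LinearMap.toMatrix' M.mulVecLin = M :=
      fun M => LinearMap.toMatrix'_toLin' M
    set fA := ((a : Matrix (Fin n) (Fin n) F) - 1).mulVecLin with hfA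
    set fB := ((b : Matrix (Fin n) (Fin n) F) - 1).mulVecLin with hfB
    have hfA2 : ∀ v, fA (fA v) = 0 := by
      intro v
      simp only [hfA, Matrix.mulVecLin_apply, Matrix.mulVec_mulVec, hsq a ha, Matrix.zero_mulVec]
    have hfB2 : ∀ v, fB (fB v) = 0 := by
      intro v
      simp only [hfB, Matrix.mulVecLin_apply, Matrix.mulVec_mulVec, hsq b hb, Matrix.zero_mulVec]
    have hrank : Module.finrank F (LinearMap.range fA) = Module.finrank F (LinearMap.range fB) := hr
    obtain ⟨g, hg⟩ := conj_sq_zero fA fB hfA2 hfB2 hrank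
    have hane : fA ≠ 0 := by
      intro h0
      have hA1 : (a : Matrix (Fin n) (Fin n) F) - 1 = 0 := by
        have := congrArg LinearMap.toMatrix' h0
        rw [hfA, hT] at this
        simpa using this
      have : a = 1 := by
        apply Subtype.ext
        rw [sub_eq_zero] at hA1
        rw [hA1]; rfl
      rw [this, orderOf_one] at ha
      omega
    set G := LinearMap.toMatrix' (g : (Fin n → F) →ₗ[F] (Fin n → F)) with hG
    set G' := LinearMap.toMatrix' (g.symm : (Fin n → F) →ₗ[F] (Fin n → F)) with hG'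
    have hGG' : G * G' = 1 := by
      rw [hG, hG', ← LinearMap.toMatrix'_comp]
      have : (g : (Fin n → F) →ₗ[F] (Fin n → F)) ∘ₗ (g.symm : (Fin n → F) →ₗ[F] (Fin n → F))
          = LinearMap.id := by
        apply LinearMap.ext; intro v; simp
      rw [this, LinearMap.toMatrix'_id]
    have hdetG : G.det ≠ 0 := by
      intro h0
      have := congrArg Matrix.det hGG'
      rw [Matrix.det_mul, h0, zero_mul, Matrix.det_one] at this
      exact zero_ne_one this
    have hGA : G * ((a : Matrix (Fin n) (Fin n) F) - 1) = ((b : Matrix (Fin n) (Fin n) F) - 1) * G := by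
      have : (g : (Fin n → F) →ₗ[F] (Fin n → F)) ∘ₗ fA = fB ∘ₗ (g : (Fin n → F) →ₗ[F] (Fin n → F)) := by
        apply LinearMap.ext; intro v; exact hg v
      have := congrArg LinearMap.toMatrix' this
      rw [LinearMap.toMatrix'_comp, LinearMap.toMatrix'_comp, hfA, hfB, hT, hT] at this
      exact this
    have hchar : ringChar F = 2 := ringChar.eq F 2
    obtain ⟨ε, hε⟩ := FiniteField.isSquare_of_char_two hchar (G.det)⁻¹
    obtain ⟨c, hc1, hc2⟩ := comm_sq_zero fA hfA2 hane ε
    set C := LinearMap.toMatrix' c with hC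
    have hCA : C * ((a : Matrix (Fin n) (Fin n) F) - 1) = ((a : Matrix (Fin n) (Fin n) F) - 1) * C := by
      have : c ∘ₗ fA = fA ∘ₗ c := by
        apply LinearMap.ext; intro v; exact hc1 v
      have := congrArg LinearMap.toMatrix' this
      rw [LinearMap.toMatrix'_comp, LinearMap.toMatrix'_comp, hfA, hT] at this
      exact this
    have hdetC : C.det = ε * ε := by
      rw [hC, LinearMap.det_toMatrix']; exact hc2
    have hdetH : (G * C).det = 1 := by
      rw [Matrix.det_mul, hdetC, ← hε, mul_inv_cancel₀ hdetG]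
    have hGA' : G * (a : Matrix (Fin n) (Fin n) F) = (b : Matrix (Fin n) (Fin n) F) * G := by
      have := hGA
      rw [Matrix.mul_sub, Matrix.sub_mul, Matrix.mul_one, Matrix.one_mul] at this
      exact sub_left_injective this
    have hCA' : C * (a : Matrix (Fin n) (Fin n) F) = (a : Matrix (Fin n) (Fin n) F) * C := by
      have := hCA
      rw [Matrix.mul_sub, Matrix.sub_mul, Matrix.mul_one, Matrix.one_mul] at this
      exact sub_left_injective this
    rw [isConj_iff]
    refine ⟨⟨G * C, hdetH⟩, ?_⟩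
    apply mul_inv_eq_of_eq_mul
    apply Subtype.ext
    show (G * C) * (a : Matrix (Fin n) (Fin n) F) = (b : Matrix (Fin n) (Fin n) F) * (G * C)
    rw [Matrix.mul_assoc, hCA', ← Matrix.mul_assoc, hGA', Matrix.mul_assoc]

end Cfsg.Agent.Lib.Helper4_SqZero
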