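import Mathlib
import Cfsg.Prelude.Def_LieExceptional

set_option linter.all false
set_option autoImplicit false

namespace Cfsg.Agent.Lib.Helper4_SzOvoid



variable {F : Type*} [Field F]

/-- the defining form of the Suzuki–Tits ovoid -/
def fz (σ : ℕ) (x y : F) : F := x * y + x ^ (σ + 2) + y ^ σ

section
variable (σ : ℕ) (hσ0 : σ ≠ 0) (h2 : (2 : F) = 0) (hadd : ∀ a b : F, (a + b) ^ σ = a ^ σ + b ^ σ)
  (hsq : ∀ t : F, (t ^ σ) ^ σ = t ^ 2)
include hσ0 h2 hadd hsq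

theorem fz_pow (x y : F) :
    (fz σ x y) ^ σ = x ^ σ * y ^ σ + x ^ 2 * (x ^ σ) ^ 2 + y ^ 2 := by
  unfold fz
  rw [hadd, hadd, mul_pow, hsq y]
  have : (x ^ (σ + 2)) ^ σ = x ^ 2 * (x ^ σ) ^ 2 := by
    rw [pow_add, mul_pow, hsq x, ← pow_mul, ← pow_mul, mul_comm 2 σ]
  rw [this]

theorem fz_expand (x y : F) : fz σ x y = x * y + x ^ 2 * x ^ σ + y ^ σ := by
  unfold fz
  rw [pow_add]; ring

/-- the form vanishes only at the origin -/
theorem fz_eq_zero (x y : F) (h : fz σ x y = 0) : x = 0 ∧ y = 0 := by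
  have h1 := fz_expand σ hσ0 h2 hadd hsq x y
  have h3 := fz_pow σ hσ0 h2 hadd hsq x y
  rw [h, zero_pow hσ0] at h3
  rw [h] at h1
  have hXX := hsq x
  have hYdef : y ^ σ = y ^ σ := rfl
  generalize hX : x ^ σ = X at h1 h3 hXX
  generalize hY : y ^ σ = Y at h1 h3 hYdef
  -- Y = x*y + x^2*X (char 2)
  have hYe : Y = x * y + x ^ 2 * X := by linear_combination -h1 - (x * y + x ^ 2 * X) * h2
  have h4 : y * (x * X + y) = 0 := by
    rw [hYe] at h3
    linear_combination -h3 - (x ^ 2 * X ^ 2) * h2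
  have hxfin : x ^ 2 * X = 0 → x = 0 := by
    intro this
    rcases mul_eq_zero.mp this with h' | h'
    · exact pow_eq_zero_iff (two_ne_zero) |>.mp h'
    · rw [← hX] at h'
      exact pow_eq_zero_iff hσ0 |>.mp h'
  rcases mul_eq_zero.mp h4 with hy | hy
  · -- y = 0
    have hY0 : Y = 0 := by rw [← hY, hy, zero_pow hσ0]
    have : x ^ 2 * X = 0 := by rw [hy, hY0] at h1; linear_combination -h1
    exact ⟨hxfin this, hy⟩
  · -- y = x * X
    have hye : y = x * X := by linear_combination hy - (x * X) * h2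
    have hYe2 : Y = X * x ^ 2 := by
      rw [← hY, hye, mul_pow, hXX, ← hX]
    have : x ^ 2 * X = 0 := by
      rw [hye, hYe2] at h1
      linear_combination -h1 - (x ^ 2 * X) * h2
    have hx := hxfin this
    refine ⟨hx, ?_⟩
    rw [hye, hx, zero_mul]

/-- the key identity behind the inversion -/
theorem fz_inv_poly (x y : F) :
    x * y * (fz σ x y) ^ σ + y ^ (σ + 2) + x ^ σ * (fz σ x y) ^ 2 = (fz σ x y) ^ (σ + 1) := by
  rw [pow_succ (fz σ x y) σ, fz_pow σ hσ0 h2 hadd hsq x y, fz_expand σ hσ0 h2 hadd hsq x y, pow_add]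
  generalize x ^ σ = X
  generalize y ^ σ = Y
  linear_combination (x ^ 3 * y * X ^ 2 + x * y * X * Y) * h2

theorem fz_inv (x y : F) (hf : fz σ x y ≠ 0) :
    fz σ (y / fz σ x y) (x / fz σ x y) = 1 / fz σ x y := by
  set f := fz σ x y with hfdef
  set g := f⁻¹ with hg
  have hgf : g * f = 1 := inv_mul_cancel₀ hf
  have e1 : g ^ (σ + 2) * f ^ σ = g ^ 2 := by
    calc g ^ (σ + 2) * f ^ σ = (g * f) ^ σ * g ^ 2 := by rw [mul_pow, pow_add]; ring
      _ = g ^ 2 := by rw [hgf, one_pow, one_mul]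
  have e2 : g ^ (σ + 2) * f ^ 2 = g ^ σ := by
    calc g ^ (σ + 2) * f ^ 2 = (g * f) ^ 2 * g ^ σ := by rw [mul_pow, pow_add]; ring
      _ = g ^ σ := by rw [hgf, one_pow, one_mul]
  have e3 : g ^ (σ + 2) * f ^ (σ + 1) = g := by
    calc g ^ (σ + 2) * f ^ (σ + 1) = (g * f) ^ (σ + 1) * g := by
          rw [mul_pow, pow_succ g (σ + 1)]; ring
      _ = g := by rw [hgf, one_pow, one_mul]
  have key := fz_inv_poly σ hσ0 h2 hadd hsq x y
  rw [← hfdef] at key
  rw [div_eq_mul_inv, div_eq_mul_inv, one_div, ← hg]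
  unfold fz
  rw [mul_pow, mul_pow]
  calc y * g * (x * g) + y ^ (σ + 2) * g ^ (σ + 2) + x ^ σ * g ^ σ
      = x * y * g ^ 2 + y ^ (σ + 2) * g ^ (σ + 2) + x ^ σ * g ^ σ := by ring
    _ = g ^ (σ + 2) * (x * y * f ^ σ + y ^ (σ + 2) + x ^ σ * f ^ 2) := by
        rw [← e1, ← e2]; ring
    _ = g := by rw [key, e3]

/-- the translation identity -/
theorem fz_translate (x y a b : F) :
    fz σ (x + a) (y + b + a ^ σ * x) =
      fz σ x y + (b + a ^ (σ + 1)) * x + a * y + (a * b + a ^ (σ + 2) + b ^ σ) := by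
  unfold fz
  rw [hadd (y + b), hadd y b, mul_pow, hsq a, pow_add (x + a), hadd x a, pow_add x, pow_add a σ 1,
    pow_add a σ 2]
  generalize x ^ σ = X
  generalize y ^ σ = Y
  generalize a ^ σ = A
  generalize b ^ σ = B
  linear_combination (A * x ^ 2 + a * X * x + a ^ 2 * X + a * A * x) * h2


/-- Lemma A in coordinates -/
theorem lemA (a b c x y x' y' : F) (hne : ¬ (x = x' ∧ y = y'))
    (c3 : b + c = 0) (c2 : b * x + c * x' = 0) (c1 : b * y + c * y' = 0)
    (c0 : a + b * fz σ x y + c * fz σ x' y' = 0) : a = 0 ∧ b = 0 ∧ c = 0 := by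
  have hc : c = -b := by linear_combination c3
  have hb : b = 0 := by
    by_contra hb
    apply hne
    constructor
    · have : b * (x - x') = 0 := by rw [hc] at c2; linear_combination c2
      rcases mul_eq_zero.mp this with h | h
      · exact absurd h hb
      · exact sub_eq_zero.mp h
    · have : b * (y - y') = 0 := by rw [hc] at c1; linear_combination c1
      rcases mul_eq_zero.mp this with h | h
      · exact absurd h hb
      · exact sub_eq_zero.mp h
  have hc0 : c = 0 := by rw [hc, hb, neg_zero]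
  refine ⟨?_, hb, hc0⟩
  rw [hb, hc0] at c0
  linear_combination c0

/-- Lemma B₀ in coordinates: the first point is the origin -/
theorem lemB0 (a b c x₂ y₂ x₃ y₃ : F) (h2ne : ¬ (x₂ = 0 ∧ y₂ = 0)) (h3ne : ¬ (x₃ = 0 ∧ y₃ = 0))
    (hne : ¬ (x₂ = x₃ ∧ y₂ = y₃))
    (c3 : a + b + c = 0) (c2 : b * x₂ + c * x₃ = 0) (c1 : b * y₂ + c * y₃ = 0)
    (c0 : b * fz σ x₂ y₂ + c * fz σ x₃ y₃ = 0) : a = 0 ∧ b = 0 ∧ c = 0 := by
  have hf2 : fz σ x₂ y₂ ≠ 0 := fun h => h2ne (fz_eq_zero σ hσ0 h2 hadd hsq _ _ h)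
  have hf3 : fz σ x₃ y₃ ≠ 0 := fun h => h3ne (fz_eq_zero σ hσ0 h2 hadd hsq _ _ h)
  have k2 := fz_inv σ hσ0 h2 hadd hsq x₂ y₂ hf2
  have k3 := fz_inv σ hσ0 h2 hadd hsq x₃ y₃ hf3
  set f₂ := fz σ x₂ y₂ with hf₂
  set f₃ := fz σ x₃ y₃ with hf₃
  have hb : b = 0 := by
    by_contra hb
    have hB : b * f₂ ≠ 0 := mul_ne_zero hb hf2
    have hcf : c * f₃ = -(b * f₂) := by linear_combination c0
    have ex : x₂ / f₂ = x₃ / f₃ := by
      have : b * f₂ * (x₂ / f₂ - x₃ / f₃) = 0 := by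
        have e1 : b * f₂ * (x₂ / f₂) = b * x₂ := by field_simp
        have e2 : b * f₂ * (x₃ / f₃) = -(c * x₃) := by
          rw [show b * f₂ = -(c * f₃) by rw [hcf, neg_neg]]
          field_simp
        rw [mul_sub, e1, e2]
        linear_combination c2
      rcases mul_eq_zero.mp this with h | h
      · exact absurd h hB
      · exact sub_eq_zero.mp h
    have ey : y₂ / f₂ = y₃ / f₃ := by
      have : b * f₂ * (y₂ / f₂ - y₃ / f₃) = 0 := by
        have e1 : b * f₂ * (y₂ / f₂) = b * y₂ := by field_simp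
        have e2 : b * f₂ * (y₃ / f₃) = -(c * y₃) := by
          rw [show b * f₂ = -(c * f₃) by rw [hcf, neg_neg]]
          field_simp
        rw [mul_sub, e1, e2]
        linear_combination c1
      rcases mul_eq_zero.mp this with h | h
      · exact absurd h hB
      · exact sub_eq_zero.mp h
    have ef : f₂ = f₃ := by
      rw [ex, ey, k3] at k2
      have := congrArg (fun t => t⁻¹) k2
      simpa using this.symm
    apply hne
    rw [ef] at ex ey
    constructor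
    · field_simp at ex; exact ex
    · field_simp at ey; exact ey
  have hc : c = 0 := by
    rw [hb, zero_mul, zero_add] at c0
    rcases mul_eq_zero.mp c0 with h | h
    · exact h
    · exact absurd h hf3
  refine ⟨?_, hb, hc⟩
  rw [hb, hc] at c3
  linear_combination c3

/-- Lemma B in coordinates -/
theorem lemB (a b c x₁ y₁ x₂ y₂ x₃ y₃ : F) (h12 : ¬ (x₁ = x₂ ∧ y₁ = y₂))
    (h13 : ¬ (x₁ = x₃ ∧ y₁ = y₃)) (h23 : ¬ (x₂ = x₃ ∧ y₂ = y₃))
    (c3 : a + b + c = 0) (c2 : a * x₁ + b * x₂ + c * x₃ = 0) (c1 : a * y₁ + b * y₂ + c * y₃ = 0)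
    (c0 : a * fz σ x₁ y₁ + b * fz σ x₂ y₂ + c * fz σ x₃ y₃ = 0) : a = 0 ∧ b = 0 ∧ c = 0 := by
  -- translation parameters
  obtain ⟨β, hβ⟩ : ∃ β : F, β = y₁ + x₁ ^ (σ + 1) := ⟨_, rfl⟩
  have t1 := (fz_translate σ hσ0 h2 hadd hsq x₁ y₁ x₁ β).symm
  have t2 := fz_translate σ hσ0 h2 hadd hsq x₂ y₂ x₁ β
  have t3 := fz_translate σ hσ0 h2 hadd hsq x₃ y₃ x₁ β
  have hx1 : x₁ + x₁ = 0 := by linear_combination x₁ * h2
  have hy1 : y₁ + β + x₁ ^ σ * x₁ = 0 := by
    rw [hβ, pow_succ]; linear_combination (y₁ + x₁ ^ σ * x₁) * h2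
  rw [hx1, hy1] at t1
  have hf00 : fz σ (0 : F) 0 = 0 := by
    unfold fz; rw [zero_pow hσ0, zero_pow (by omega)]; ring
  rw [hf00] at t1
  apply lemB0 σ hσ0 h2 hadd hsq a b c (x₂ + x₁) (y₂ + β + x₁ ^ σ * x₂) (x₃ + x₁)
    (y₃ + β + x₁ ^ σ * x₃)
  · rintro ⟨e1, e2⟩
    apply h12
    have hx : x₁ = x₂ := by linear_combination -e1 + x₁ * h2
    refine ⟨hx, ?_⟩
    rw [← hx] at e2
    linear_combination hy1 - e2
  · rintro ⟨e1, e2⟩
    apply h13
    have hx : x₁ = x₃ := by linear_combination -e1 + x₁ * h2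
    refine ⟨hx, ?_⟩
    rw [← hx] at e2
    linear_combination hy1 - e2
  · rintro ⟨e1, e2⟩
    apply h23
    have hx : x₂ = x₃ := by linear_combination e1
    refine ⟨hx, ?_⟩
    rw [hx] at e2
    linear_combination e2
  · exact c3
  · linear_combination c2 + x₁ * c3 - a * hx1
  · linear_combination c1 + β * c3 + x₁ ^ σ * c2 - a * hy1
  · rw [t2, t3]
    linear_combination c0 + (β + x₁ ^ (σ + 1)) * c2 + x₁ * c1 +
      (x₁ * β + x₁ ^ (σ + 2) + β ^ σ) * c3 - a * t1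

end


theorem coords (g0 g1 g2 : F) (u0 u1 u2 : Fin 4 → F) (h : g0 • u0 + g1 • u1 + g2 • u2 = 0)
    (i : Fin 4) : g0 * u0 i + g1 * u1 i + g2 * u2 i = 0 := congrFun h i

theorem S0335_main {F : Type*} [Field F] [Fintype F] {m : ℕ} (hm : 1 ≤ m)
    (hF : Fintype.card F = 2 ^ (2 * m + 1)) (p : Fin 3 ↪ Cfsg.suzukiOvoid F m) :
    Projectivization.Independent (fun i => (p i : Projectivization F (Fin 4 → F))) := by
  have h2 : (2 : F) = 0 := by
    have h := FiniteField.cast_card_eq_zero F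
    rw [hF, Nat.cast_pow, Nat.cast_ofNat] at h
    exact pow_eq_zero_iff (by omega) |>.mp h
  haveI : CharP F 2 := CharTwo.of_one_ne_zero_of_two_eq_zero one_ne_zero h2
  haveI : Fact (Nat.Prime 2) := ⟨Nat.prime_two⟩
  have hσ0 : 2 ^ (m + 1) ≠ 0 := by positivity
  have hadd : ∀ a b : F, (a + b) ^ (2 ^ (m + 1)) = a ^ (2 ^ (m + 1)) + b ^ (2 ^ (m + 1)) :=
    fun a b => add_pow_char_pow a b 2 (m + 1)
  have hsq : ∀ t : F, (t ^ (2 ^ (m + 1))) ^ (2 ^ (m + 1)) = t ^ 2 := by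
    intro t
    rw [← pow_mul, ← pow_add]
    have : m + 1 + (m + 1) = (2 * m + 1) + 1 := by ring
    rw [this, pow_succ, pow_mul, ← hF, FiniteField.pow_card]
  have hmem : ∀ i, ∃ (v : Fin 4 → F) (hv : v ≠ 0),
      (p i : Projectivization F (Fin 4 → F)) = Projectivization.mk F v hv ∧
      (v = ![1, 0, 0, 0] ∨ ∃ x y : F,
        v = ![x * y + x ^ (2 ^ (m + 1) + 2) + y ^ (2 ^ (m + 1)), y, x, 1]) := fun i => (p i).2
  choose v hv hpv hform using hmem
  have hfun : (fun i => (p i : Projectivization F (Fin 4 → F))) =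
      fun i => Projectivization.mk F (v i) (hv i) := funext hpv
  rw [hfun]
  refine Projectivization.Independent.mk v hv ?_
  have hne : ∀ i j, i ≠ j → v i ≠ v j := by
    intro i j hij h
    apply hij
    apply p.injective
    apply Subtype.ext
    rw [hpv i, hpv j, Projectivization.mk_eq_mk_iff]
    exact ⟨1, by rw [one_smul, h]⟩
  rw [Fintype.linearIndependent_iff]
  intro g hg
  rw [Fin.sum_univ_three] at hg
  have c0 := coords _ _ _ _ _ _ hg 0
  have c1 := coords _ _ _ _ _ _ hg 1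
  have c2 := coords _ _ _ _ _ _ hg 2
  have c3 := coords _ _ _ _ _ _ hg 3
  have key : g 0 = 0 ∧ g 1 = 0 ∧ g 2 = 0 := by
    rcases hform 0 with h0 | ⟨x0, y0, h0⟩ <;> rcases hform 1 with h1 | ⟨x1, y1, h1⟩ <;>
      rcases hform 2 with h2' | ⟨x2, y2, h2'⟩
    · exact absurd (h0.trans h1.symm) (hne 0 1 (by decide))
    · exact absurd (h0.trans h1.symm) (hne 0 1 (by decide))
    · exact absurd (h0.trans h2'.symm) (hne 0 2 (by decide))
    · -- ∞, P, P
      rw [h0, h1, h2'] at c0 c1 c2 c3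
      have c0' : g 0 * 1 + g 1 * fz (2 ^ (m + 1)) x1 y1 + g 2 * fz (2 ^ (m + 1)) x2 y2 = 0 := c0
      have c1' : g 0 * 0 + g 1 * y1 + g 2 * y2 = 0 := c1
      have c2' : g 0 * 0 + g 1 * x1 + g 2 * x2 = 0 := c2
      have c3' : g 0 * 0 + g 1 * 1 + g 2 * 1 = 0 := c3
      have hd : ¬ (x1 = x2 ∧ y1 = y2) := by
        rintro ⟨e1, e2⟩
        apply hne 1 2 (by decide)
        rw [h1, h2', e1, e2]
      exact lemA _ hσ0 h2 hadd hsq (g 0) (g 1) (g 2) x1 y1 x2 y2 hd
        (by linear_combination c3') (by linear_combination c2') (by linear_combination c1')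
        (by linear_combination c0')
    · exact absurd (h1.trans h2'.symm) (hne 1 2 (by decide))
    · -- P, ∞, P
      rw [h0, h1, h2'] at c0 c1 c2 c3
      have c0' : g 0 * fz (2 ^ (m + 1)) x0 y0 + g 1 * 1 + g 2 * fz (2 ^ (m + 1)) x2 y2 = 0 := c0
      have c1' : g 0 * y0 + g 1 * 0 + g 2 * y2 = 0 := c1
      have c2' : g 0 * x0 + g 1 * 0 + g 2 * x2 = 0 := c2
      have c3' : g 0 * 1 + g 1 * 0 + g 2 * 1 = 0 := c3
      have hd : ¬ (x0 = x2 ∧ y0 = y2) := by
        rintro ⟨e1, e2⟩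
        apply hne 0 2 (by decide)
        rw [h0, h2', e1, e2]
      obtain ⟨r1, r0, r2⟩ := lemA _ hσ0 h2 hadd hsq (g 1) (g 0) (g 2) x0 y0 x2 y2 hd
        (by linear_combination c3') (by linear_combination c2') (by linear_combination c1')
        (by linear_combination c0')
      exact ⟨r0, r1, r2⟩
    · -- P, P, ∞
      rw [h0, h1, h2'] at c0 c1 c2 c3
      have c0' : g 0 * fz (2 ^ (m + 1)) x0 y0 + g 1 * fz (2 ^ (m + 1)) x1 y1 + g 2 * 1 = 0 := c0
      have c1' : g 0 * y0 + g 1 * y1 + g 2 * 0 = 0 := c1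
      have c2' : g 0 * x0 + g 1 * x1 + g 2 * 0 = 0 := c2
      have c3' : g 0 * 1 + g 1 * 1 + g 2 * 0 = 0 := c3
      have hd : ¬ (x0 = x1 ∧ y0 = y1) := by
        rintro ⟨e1, e2⟩
        apply hne 0 1 (by decide)
        rw [h0, h1, e1, e2]
      obtain ⟨r2, r0, r1⟩ := lemA _ hσ0 h2 hadd hsq (g 2) (g 0) (g 1) x0 y0 x1 y1 hd
        (by linear_combination c3') (by linear_combination c2') (by linear_combination c1')
        (by linear_combination c0')
      exact ⟨r0, r1, r2⟩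
    · -- P, P, P
      rw [h0, h1, h2'] at c0 c1 c2 c3
      have c0' : g 0 * fz (2 ^ (m + 1)) x0 y0 + g 1 * fz (2 ^ (m + 1)) x1 y1 +
          g 2 * fz (2 ^ (m + 1)) x2 y2 = 0 := c0
      have c1' : g 0 * y0 + g 1 * y1 + g 2 * y2 = 0 := c1
      have c2' : g 0 * x0 + g 1 * x1 + g 2 * x2 = 0 := c2
      have c3' : g 0 * 1 + g 1 * 1 + g 2 * 1 = 0 := c3
      have hd01 : ¬ (x0 = x1 ∧ y0 = y1) := by
        rintro ⟨e1, e2⟩
        apply hne 0 1 (by decide)
        rw [h0, h1, e1, e2]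
      have hd02 : ¬ (x0 = x2 ∧ y0 = y2) := by
        rintro ⟨e1, e2⟩
        apply hne 0 2 (by decide)
        rw [h0, h2', e1, e2]
      have hd12 : ¬ (x1 = x2 ∧ y1 = y2) := by
        rintro ⟨e1, e2⟩
        apply hne 1 2 (by decide)
        rw [h1, h2', e1, e2]
      exact lemB _ hσ0 h2 hadd hsq (g 0) (g 1) (g 2) x0 y0 x1 y1 x2 y2 hd01 hd02 hd12
        (by linear_combination c3') c2' c1' c0'
  intro i
  fin_cases i
  · exact key.1
  · exact key.2.1
  · exact key.2.2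



end Cfsg.Agent.Lib.Helper4_SzOvoid
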