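import Mathlib
import Cfsg.Prelude.Def_LieExceptional
import Cfsg.Agent.Lib.Helper4_SzOvoid

set_option linter.all false
set_option autoImplicit false

namespace Cfsg.Agent.Lib.Helper4_SzGroup
open Cfsg.Agent.Lib.Helper4_SzOvoid Polynomial
open scoped Pointwise

variable {F : Type*} [Field F]

/-- coefficient comparison for a sparse polynomial vanishing on a finite field -/
theorem poly4_zero [Fintype F] (σ : ℕ) (hσ : 4 ≤ σ) (hcard : σ + 2 < Fintype.card F)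
    (c1 c2 cs cs2 : F) (h : ∀ y : F, c1 * y + c2 * y ^ 2 + cs * y ^ σ + cs2 * y ^ (σ + 2) = 0) :
    c1 = 0 ∧ c2 = 0 ∧ cs = 0 ∧ cs2 = 0 := by
  classical
  let p : F[X] := C c1 * X + C c2 * X ^ 2 + C cs * X ^ σ + C cs2 * X ^ (σ + 2)
  have hdeg : p.natDegree ≤ σ + 2 := by
    simp only [p]
    compute_degree
  have hp : p = 0 := by
    apply eq_zero_of_natDegree_lt_card_of_eval_eq_zero p (f := id) Function.injective_id
    · intro y
      simp only [p, eval_add, eval_mul, eval_C, eval_X, eval_pow, id]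
      exact h y
    · exact lt_of_le_of_lt hdeg hcard
  have k1 : p.coeff 1 = c1 := by
    simp only [p, coeff_add, coeff_C_mul, coeff_X_pow, coeff_X]
    have e1 : (1 : ℕ) ≠ 2 := by omega
    have e2 : (1 : ℕ) ≠ σ := by omega
    have e3 : (1 : ℕ) ≠ σ + 2 := by omega
    simp [e1, e2, e3]
  have k2 : p.coeff 2 = c2 := by
    simp only [p, coeff_add, coeff_C_mul, coeff_X_pow, coeff_X]
    have e1 : (1 : ℕ) ≠ 2 := by omega
    have e2 : (2 : ℕ) ≠ σ := by omega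
    have e3 : (2 : ℕ) ≠ σ + 2 := by omega
    have e4 : σ ≠ 0 := by omega
    simp [e1, e2, e3, e4]
  have k3 : p.coeff σ = cs := by
    simp only [p, coeff_add, coeff_C_mul, coeff_X_pow, coeff_X]
    have e1 : (1 : ℕ) ≠ σ := by omega
    have e2 : σ ≠ 2 := by omega
    have e3 : σ ≠ σ + 2 := by omega
    simp [e1, e2, e3]
  have k4 : p.coeff (σ + 2) = cs2 := by
    simp only [p, coeff_add, coeff_C_mul, coeff_X_pow, coeff_X]
    have e1 : (1 : ℕ) ≠ σ + 2 := by omega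
    have e2 : σ + 2 ≠ 2 := by omega
    have e3 : σ + 2 ≠ σ := by omega
    have e4 : σ ≠ 0 := by omega
    simp [e1, e2, e3, e4]
  rw [hp] at k1 k2 k3 k4
  simp only [coeff_zero] at k1 k2 k3 k4
  exact ⟨k1.symm, k2.symm, k3.symm, k4.symm⟩

/-- the algebra of the two-point stabiliser -/
theorem diag_of_preserve [Fintype F] (σ : ℕ) (hσ : 4 ≤ σ) (hcard : σ + 2 < Fintype.card F)
    (l a01 a02 a11 a12 a21 a22 a31 a32 mu : F)
    (h : ∀ x y : F, a31 * y + a32 * x + mu ≠ 0 ∧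
      (l * fz σ x y + a01 * y + a02 * x) * (a31 * y + a32 * x + mu) ^ (σ + 1) =
        (a21 * y + a22 * x) * (a11 * y + a12 * x) * (a31 * y + a32 * x + mu) ^ σ +
          (a21 * y + a22 * x) ^ (σ + 2) + (a11 * y + a12 * x) ^ σ * (a31 * y + a32 * x + mu) ^ 2) :
    a31 = 0 ∧ a32 = 0 ∧ a01 = 0 ∧ a02 = 0 ∧ a12 = 0 ∧ a21 = 0 ∧ mu ≠ 0 ∧
      l * mu ^ (σ + 1) = a22 ^ (σ + 2) ∧ l * mu ^ (σ + 1) = a11 ^ σ * mu ^ 2 ∧
      l * mu = a11 * a22 := by
  have hσ0 : σ ≠ 0 := by omega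
  have h31 : a31 = 0 := by
    by_contra hne
    have := (h 0 (-mu / a31)).1
    apply this
    field_simp
    ring
  have h32 : a32 = 0 := by
    by_contra hne
    have := (h (-mu / a32) 0).1
    apply this
    field_simp
    ring
  subst h31 h32
  have hmu : mu ≠ 0 := by
    have := (h 0 0).1
    simpa using this
  have hmus : mu ^ σ ≠ 0 := pow_ne_zero _ hmu
  have hmus1 : mu ^ (σ + 1) ≠ 0 := pow_ne_zero _ hmu
  -- slice x = 0
  have s1 := poly4_zero σ hσ hcard (a01 * mu ^ (σ + 1)) (-(a21 * a11 * mu ^ σ))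
    (l * mu ^ (σ + 1) - a11 ^ σ * mu ^ 2) (-(a21 ^ (σ + 2))) (by
      intro y
      have e := (h 0 y).2
      have f0 : fz σ (0 : F) y = y ^ σ := by
        unfold fz; rw [zero_pow (by omega)]; ring
      rw [f0] at e
      simp only [mul_zero, zero_mul, add_zero] at e
      rw [mul_pow, mul_pow] at e
      linear_combination e)
  -- slice y = 0
  have s2 := poly4_zero σ hσ hcard (a02 * mu ^ (σ + 1)) (-(a22 * a12 * mu ^ σ))
    (-(a12 ^ σ * mu ^ 2)) (l * mu ^ (σ + 1) - a22 ^ (σ + 2)) (by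
      intro x
      have e := (h x 0).2
      have f0 : fz σ x (0 : F) = x ^ (σ + 2) := by
        unfold fz; rw [zero_pow hσ0]; ring
      rw [f0] at e
      simp only [mul_zero, zero_mul, add_zero, zero_add] at e
      rw [mul_pow, mul_pow] at e
      linear_combination e)
  obtain ⟨p1, p2, p3, p4⟩ := s1
  obtain ⟨q1, q2, q3, q4⟩ := s2
  have h01 : a01 = 0 := by
    rcases mul_eq_zero.mp p1 with h' | h'
    · exact h'
    · exact absurd h' hmus1
  have h02 : a02 = 0 := by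
    rcases mul_eq_zero.mp q1 with h' | h'
    · exact h'
    · exact absurd h' hmus1
  have h21 : a21 = 0 := by
    have : a21 ^ (σ + 2) = 0 := by linear_combination -p4
    exact pow_eq_zero_iff (by omega) |>.mp this
  have h12 : a12 = 0 := by
    have : a12 ^ σ * mu ^ 2 = 0 := by linear_combination -q3
    rcases mul_eq_zero.mp this with h' | h'
    · exact pow_eq_zero_iff hσ0 |>.mp h'
    · exact absurd h' (pow_ne_zero _ hmu)
  have r1 : l * mu ^ (σ + 1) = a22 ^ (σ + 2) := by linear_combination q4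
  have r2 : l * mu ^ (σ + 1) = a11 ^ σ * mu ^ 2 := by linear_combination p3
  refine ⟨rfl, rfl, h01, h02, h12, h21, hmu, r1, r2, ?_⟩
  have e := (h 1 1).2
  subst h01 h02 h12 h21
  have f11 : fz σ (1 : F) 1 = 3 := by
    unfold fz; rw [one_pow, one_pow]; norm_num
  rw [f11] at e
  simp only [mul_one, zero_mul, add_zero, zero_add, mul_zero] at e
  have e2 : mu ^ σ * (l * mu) = mu ^ σ * (a11 * a22) := by
    rw [pow_succ] at r1 r2 e
    linear_combination e - r1 - r2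
  exact mul_left_cancel₀ hmus e2

/-- the affine points of the ovoid, as vectors -/
def Pv (m : ℕ) (x y : F) : Fin 4 → F :=
  ![x * y + x ^ (2 ^ (m + 1) + 2) + y ^ (2 ^ (m + 1)), y, x, 1]

theorem Pv_ne_zero (m : ℕ) (x y : F) : Pv m x y ≠ 0 := by
  intro h
  have := congrFun h 3
  simp [Pv] at this

theorem Pv_eq (m : ℕ) (x y : F) : Pv m x y = ![fz (2 ^ (m + 1)) x y, y, x, 1] := rfl

def e0v : Fin 4 → F := ![1, 0, 0, 0]

theorem e0v_ne_zero : (e0v : Fin 4 → F) ≠ 0 := by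
  intro h
  have := congrFun h 0
  simp [e0v] at this

/-- translations -/
def Tm (m : ℕ) (a b : F) : Matrix (Fin 4) (Fin 4) F :=
  !![1, a, b + a ^ (2 ^ (m + 1) + 1), a * b + a ^ (2 ^ (m + 1) + 2) + b ^ (2 ^ (m + 1));
     0, 1, a ^ (2 ^ (m + 1)), b;
     0, 0, 1, a;
     0, 0, 0, 1]

theorem Tm_det (m : ℕ) (a b : F) : (Tm m a b).det = 1 := by
  rw [Matrix.det_of_upperTriangular]
  · simp [Fin.prod_univ_four, Tm]
  · intro i j hij
    fin_cases i <;> fin_cases j <;> simp [Tm] at hij ⊢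

def Tg (m : ℕ) (a b : F) : Matrix.SpecialLinearGroup (Fin 4) F := ⟨Tm m a b, Tm_det m a b⟩

/-- the inversion -/
def Wm : Matrix (Fin 4) (Fin 4) F :=
  !![0, 0, 0, 1; 0, 0, 1, 0; 0, 1, 0, 0; 1, 0, 0, 0]

theorem Wm_det : (Wm : Matrix (Fin 4) (Fin 4) F).det = 1 := by
  rw [Matrix.det_succ_row_zero]
  simp [Wm, Fin.sum_univ_succ, Matrix.det_fin_three, Fin.succAbove, Matrix.submatrix]
  norm_num [Fin.ext_iff]

def Wg : Matrix.SpecialLinearGroup (Fin 4) F := ⟨Wm, Wm_det⟩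

/-- the torus -/
def Dm (m : ℕ) (α : Fˣ) : Matrix (Fin 4) (Fin 4) F :=
  Matrix.diagonal ![(α : F) ^ (2 ^ m + 1), (α : F) ^ (2 ^ m), ((α⁻¹ : Fˣ) : F) ^ (2 ^ m),
    ((α⁻¹ : Fˣ) : F) ^ (2 ^ m + 1)]

theorem Dm_det (m : ℕ) (α : Fˣ) : (Dm m α).det = 1 := by
  rw [Dm, Matrix.det_diagonal, Fin.prod_univ_four]
  simp only [Matrix.cons_val_zero, Matrix.cons_val_one, Matrix.head_cons]
  have : (α : F) * ((α⁻¹ : Fˣ) : F) = 1 := by rw [← Units.val_mul, mul_inv_cancel]; rfl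
  show (α : F) ^ (2 ^ m + 1) * (α : F) ^ (2 ^ m) * ((α⁻¹ : Fˣ) : F) ^ (2 ^ m) *
    ((α⁻¹ : Fˣ) : F) ^ (2 ^ m + 1) = 1
  calc (α : F) ^ (2 ^ m + 1) * (α : F) ^ (2 ^ m) * ((α⁻¹ : Fˣ) : F) ^ (2 ^ m) *
      ((α⁻¹ : Fˣ) : F) ^ (2 ^ m + 1)
      = ((α : F) * ((α⁻¹ : Fˣ) : F)) ^ (2 ^ m + 1) * ((α : F) * ((α⁻¹ : Fˣ) : F)) ^ (2 ^ m) := by
        rw [mul_pow, mul_pow]; ring
    _ = 1 := by rw [this, one_pow, one_pow, one_mul]

def Dg (m : ℕ) (α : Fˣ) : Matrix.SpecialLinearGroup (Fin 4) F := ⟨Dm m α, Dm_det m α⟩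


theorem field_facts [Fintype F] {m : ℕ} (hF : Fintype.card F = 2 ^ (2 * m + 1)) :
    (2 : F) = 0 ∧ (∀ a b : F, (a + b) ^ (2 ^ (m + 1)) = a ^ (2 ^ (m + 1)) + b ^ (2 ^ (m + 1))) ∧
      (∀ t : F, (t ^ (2 ^ (m + 1))) ^ (2 ^ (m + 1)) = t ^ 2) := by
  have h2 : (2 : F) = 0 := by
    have h := FiniteField.cast_card_eq_zero F
    rw [hF, Nat.cast_pow, Nat.cast_ofNat] at h
    exact pow_eq_zero_iff (by omega) |>.mp h
  haveI : CharP F 2 := CharTwo.of_one_ne_zero_of_two_eq_zero one_ne_zero h2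
  haveI : Fact (Nat.Prime 2) := ⟨Nat.prime_two⟩
  refine ⟨h2, fun a b => add_pow_char_pow a b 2 (m + 1), ?_⟩
  intro t
  rw [← pow_mul, ← pow_add]
  have : m + 1 + (m + 1) = (2 * m + 1) + 1 := by ring
  rw [this, pow_succ, pow_mul, ← hF, FiniteField.pow_card]

section
variable [Fintype F] {m : ℕ} (hF : Fintype.card F = 2 ^ (2 * m + 1))
include hF

theorem Tm_mulVec_Pv (a b x y : F) :
    (Tm m a b).mulVec (Pv m x y) = Pv m (x + a) (y + b + a ^ (2 ^ (m + 1)) * x) := by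
  obtain ⟨h2, hadd, hsq⟩ := field_facts hF
  have key := fz_translate (2 ^ (m + 1)) (by positivity) h2 hadd hsq x y a b
  rw [Pv_eq, Pv_eq, key]
  funext i
  fin_cases i <;> simp [Tm, Matrix.mulVec, dotProduct, Fin.sum_univ_four] <;> ring

theorem Tm_mulVec_e0 (a b : F) : (Tm m a b).mulVec e0v = e0v := by
  funext i
  fin_cases i <;> simp [Tm, e0v, Matrix.mulVec, dotProduct, Fin.sum_univ_four]

theorem Wm_mulVec_Pv (x y : F) :
    (Wm : Matrix (Fin 4) (Fin 4) F).mulVec (Pv m x y) = ![1, x, y, fz (2 ^ (m + 1)) x y] := by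
  rw [Pv_eq]
  funext i
  fin_cases i <;> simp [Wm, Matrix.mulVec, dotProduct, Fin.sum_univ_four]

theorem Wm_mulVec_e0 : (Wm : Matrix (Fin 4) (Fin 4) F).mulVec e0v = Pv m 0 0 := by
  rw [Pv_eq]
  have : fz (2 ^ (m + 1)) (0 : F) 0 = 0 := by
    unfold fz; rw [zero_pow (by positivity), zero_pow (by positivity)]; ring
  rw [this]
  funext i
  fin_cases i <;> simp [Wm, e0v, Matrix.mulVec, dotProduct, Fin.sum_univ_four]

theorem Dm_mulVec_Pv (α : Fˣ) (x y : F) :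
    (Dm m α).mulVec (Pv m x y) = (((α⁻¹ : Fˣ) : F) ^ (2 ^ m + 1)) •
      Pv m ((α : F) * x) ((α : F) ^ (2 ^ (m + 1) + 1) * y) := by
  obtain ⟨h2, hadd, hsq⟩ := field_facts hF
  have hαi : (α : F) * ((α⁻¹ : Fˣ) : F) = 1 := by rw [← Units.val_mul, mul_inv_cancel]; rfl
  set β : F := ((α⁻¹ : Fˣ) : F) with hβ
  set a : F := (α : F) with ha
  -- fz scales
  have hsc : fz (2 ^ (m + 1)) (a * x) (a ^ (2 ^ (m + 1) + 1) * y) =
      a ^ (2 ^ (m + 1) + 2) * fz (2 ^ (m + 1)) x y := by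
    unfold fz
    have e1 : (a ^ (2 ^ (m + 1) + 1) * y) ^ (2 ^ (m + 1)) =
        a ^ (2 ^ (m + 1) + 2) * y ^ (2 ^ (m + 1)) := by
      rw [mul_pow, ← pow_mul, add_mul, one_mul, pow_add, pow_mul, hsq a, pow_add]
      ring
    rw [e1, mul_pow]
    ring
  have hpow : (2 : ℕ) ^ (m + 1) = 2 ^ m + 2 ^ m := by rw [pow_succ]; ring
  rw [Pv_eq, Pv_eq, hsc]
  funext i
  fin_cases i
  · simp [Dm, Matrix.mulVec, dotProduct, Fin.sum_univ_four, Matrix.diagonal]
    -- a^(r+1) * f = β^(r+1) * (a^(σ+2) * f)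
    have : β ^ (2 ^ m + 1) * a ^ (2 ^ (m + 1) + 2) = a ^ (2 ^ m + 1) := by
      rw [hpow]
      calc β ^ (2 ^ m + 1) * a ^ (2 ^ m + 2 ^ m + 2) = (a * β) ^ (2 ^ m + 1) * a ^ (2 ^ m + 1) := by
            rw [mul_pow]; ring
        _ = a ^ (2 ^ m + 1) := by rw [hαi, one_pow, one_mul]
    rw [← mul_assoc, this]
  · simp [Dm, Matrix.mulVec, dotProduct, Fin.sum_univ_four, Matrix.diagonal]
    have : β ^ (2 ^ m + 1) * a ^ (2 ^ (m + 1) + 1) = a ^ (2 ^ m) := by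
      rw [hpow]
      calc β ^ (2 ^ m + 1) * a ^ (2 ^ m + 2 ^ m + 1) = (a * β) ^ (2 ^ m + 1) * a ^ (2 ^ m) := by
            rw [mul_pow]; ring
        _ = a ^ (2 ^ m) := by rw [hαi, one_pow, one_mul]
    rw [← mul_assoc, this]
  · simp [Dm, Matrix.mulVec, dotProduct, Fin.sum_univ_four, Matrix.diagonal]
    have : β ^ (2 ^ m + 1) * a = β ^ (2 ^ m) := by
      rw [pow_succ, mul_assoc, mul_comm β a, hαi, mul_one]
    rw [← mul_assoc, this, hβ, Units.val_inv_eq_inv_val, inv_pow]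
  · simp [Dm, Matrix.mulVec, dotProduct, Fin.sum_univ_four, Matrix.diagonal]
    rw [hβ, Units.val_inv_eq_inv_val, inv_pow]

theorem Dm_mulVec_e0 (α : Fˣ) :
    (Dm m α).mulVec e0v = ((α : F) ^ (2 ^ m + 1)) • e0v := by
  funext i
  fin_cases i <;> simp [Dm, e0v, Matrix.mulVec, dotProduct, Fin.sum_univ_four, Matrix.diagonal]

end

/-- affine points of the ovoid -/
def pt (m : ℕ) (x y : F) : Projectivization F (Fin 4 → F) :=
  Projectivization.mk F (Pv m x y) (Pv_ne_zero m x y)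

theorem ptInf_eq : Cfsg.suzukiPointInfinity F = Projectivization.mk F e0v e0v_ne_zero := rfl

theorem mk_congr (v w : Fin 4 → F) (hv : v ≠ 0) (hw : w ≠ 0) (h : v = w) :
    Projectivization.mk F v hv = Projectivization.mk F w hw := by
  subst h; rfl

theorem mk_smul_eq (c : F) (v w : Fin 4 → F) (hv : v ≠ 0) (hw : w ≠ 0) (h : v = c • w) :
    Projectivization.mk F v hv = Projectivization.mk F w hw := by
  rw [Projectivization.mk_eq_mk_iff']
  exact ⟨c, h.symm⟩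

theorem ptZero_eq (m : ℕ) (hm : 0 < 2 ^ (m + 1)) : Cfsg.suzukiPointZero F = pt m 0 0 := by
  unfold Cfsg.suzukiPointZero pt
  apply mk_congr
  rw [Pv]
  rw [zero_pow (by positivity), zero_pow (by positivity)]
  simp

theorem mem_ovoid_iff (m : ℕ) (p : Projectivization F (Fin 4 → F)) :
    p ∈ Cfsg.suzukiOvoid F m ↔ p = Cfsg.suzukiPointInfinity F ∨ ∃ x y : F, p = pt m x y := by
  constructor
  · rintro ⟨v, hv, rfl, (rfl | ⟨x, y, rfl⟩)⟩
    · left; rfl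
    · right; exact ⟨x, y, rfl⟩
  · rintro (rfl | ⟨x, y, rfl⟩)
    · exact ⟨_, _, rfl, Or.inl rfl⟩
    · exact ⟨_, _, rfl, Or.inr ⟨x, y, rfl⟩⟩

theorem ptInf_mem (m : ℕ) : Cfsg.suzukiPointInfinity F ∈ Cfsg.suzukiOvoid F m :=
  (mem_ovoid_iff m _).mpr (Or.inl rfl)

theorem pt_mem (m : ℕ) (x y : F) : pt m x y ∈ Cfsg.suzukiOvoid F m :=
  (mem_ovoid_iff m _).mpr (Or.inr ⟨x, y, rfl⟩)

theorem pt_ne_inf (m : ℕ) (x y : F) : pt m x y ≠ Cfsg.suzukiPointInfinity F := by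
  intro h
  rw [ptInf_eq, pt, Projectivization.mk_eq_mk_iff'] at h
  obtain ⟨c, hc⟩ := h
  have := congrFun hc 3
  simp [Pv, e0v] at this

theorem pt_inj (m : ℕ) (x y x' y' : F) (h : pt m x y = pt m x' y') : x = x' ∧ y = y' := by
  rw [pt, pt, Projectivization.mk_eq_mk_iff'] at h
  obtain ⟨c, hc⟩ := h
  have h3 := congrFun hc 3
  have h2 := congrFun hc 2
  have h1 := congrFun hc 1
  simp [Pv] at h3 h2 h1
  subst h3
  simp at h2 h1
  exact ⟨h2.symm, h1.symm⟩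

theorem smul_mk' (g : Matrix.SpecialLinearGroup (Fin 4) F) (v : Fin 4 → F) (hv : v ≠ 0) :
    ∃ hw : (g : Matrix (Fin 4) (Fin 4) F).mulVec v ≠ 0,
      g • Projectivization.mk F v hv =
        Projectivization.mk F ((g : Matrix (Fin 4) (Fin 4) F).mulVec v) hw :=
  ⟨(smul_ne_zero_iff_ne g).mpr hv, rfl⟩

section
variable [Fintype F] {m : ℕ} (hF : Fintype.card F = 2 ^ (2 * m + 1))
include hF

theorem Tg_inf (a b : F) : Tg m a b • Cfsg.suzukiPointInfinity F = Cfsg.suzukiPointInfinity F := by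
  rw [ptInf_eq]
  obtain ⟨hw, e⟩ := smul_mk' (Tg m a b) e0v e0v_ne_zero
  rw [e]
  exact mk_congr _ _ _ _ (Tm_mulVec_e0 hF a b)

theorem Tg_pt (a b x y : F) :
    Tg m a b • pt m x y = pt m (x + a) (y + b + a ^ (2 ^ (m + 1)) * x) := by
  obtain ⟨hw, e⟩ := smul_mk' (Tg m a b) (Pv m x y) (Pv_ne_zero m x y)
  rw [pt, e]
  exact mk_congr _ _ _ _ (Tm_mulVec_Pv hF a b x y)

theorem Wg_inf : (Wg : Matrix.SpecialLinearGroup (Fin 4) F) • Cfsg.suzukiPointInfinity F = pt m 0 0 := by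
  rw [ptInf_eq]
  obtain ⟨hw, e⟩ := smul_mk' (Wg : Matrix.SpecialLinearGroup (Fin 4) F) e0v e0v_ne_zero
  rw [e]
  exact mk_congr _ _ _ _ (Wm_mulVec_e0 hF)

theorem Wg_zero : (Wg : Matrix.SpecialLinearGroup (Fin 4) F) • pt m 0 0 = Cfsg.suzukiPointInfinity F := by
  obtain ⟨hw, e⟩ := smul_mk' (Wg : Matrix.SpecialLinearGroup (Fin 4) F) (Pv m 0 0) (Pv_ne_zero m 0 0)
  rw [pt, e, ptInf_eq]
  apply mk_congr
  show (Wm : Matrix (Fin 4) (Fin 4) F).mulVec (Pv m 0 0) = e0v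
  rw [Wm_mulVec_Pv hF]
  have : fz (2 ^ (m + 1)) (0 : F) 0 = 0 := by
    unfold fz; rw [zero_pow (by positivity), zero_pow (by positivity)]; ring
  rw [this]; rfl

theorem Wg_pt (x y : F) (hf : fz (2 ^ (m + 1)) x y ≠ 0) :
    (Wg : Matrix.SpecialLinearGroup (Fin 4) F) • pt m x y =
      pt m (y / fz (2 ^ (m + 1)) x y) (x / fz (2 ^ (m + 1)) x y) := by
  obtain ⟨h2, hadd, hsq⟩ := field_facts hF
  obtain ⟨hw, e⟩ := smul_mk' (Wg : Matrix.SpecialLinearGroup (Fin 4) F) (Pv m x y) (Pv_ne_zero m x y)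
  rw [pt, e, pt]
  apply mk_smul_eq (fz (2 ^ (m + 1)) x y)
  show (Wm : Matrix (Fin 4) (Fin 4) F).mulVec (Pv m x y) = _
  rw [Wm_mulVec_Pv hF, Pv_eq, fz_inv (2 ^ (m + 1)) (by positivity) h2 hadd hsq x y hf]
  funext i
  fin_cases i <;> simp <;> field_simp

theorem Dg_inf (α : Fˣ) : Dg m α • Cfsg.suzukiPointInfinity F = Cfsg.suzukiPointInfinity F := by
  rw [ptInf_eq]
  obtain ⟨hw, e⟩ := smul_mk' (Dg m α) e0v e0v_ne_zero
  rw [e]
  exact mk_smul_eq _ _ _ _ _ (Dm_mulVec_e0 hF α)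

theorem Dg_pt (α : Fˣ) (x y : F) :
    Dg m α • pt m x y = pt m ((α : F) * x) ((α : F) ^ (2 ^ (m + 1) + 1) * y) := by
  obtain ⟨hw, e⟩ := smul_mk' (Dg m α) (Pv m x y) (Pv_ne_zero m x y)
  rw [pt, e]
  exact mk_smul_eq _ _ _ _ _ (Dm_mulVec_Pv hF α x y)

/-- an element mapping the ovoid into itself lies in the Suzuki group -/
theorem mem_Sz_of_maps (g : Matrix.SpecialLinearGroup (Fin 4) F)
    (h : ∀ p ∈ Cfsg.suzukiOvoid F m, g • p ∈ Cfsg.suzukiOvoid F m) : g ∈ Cfsg.Sz F m := by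
  rw [MulAction.mem_stabilizer_iff]
  haveI : Finite (Projectivization F (Fin 4 → F)) := Quotient.finite _
  have hfin : (Cfsg.suzukiOvoid F m).Finite := Set.toFinite _
  apply Set.eq_of_subset_of_ncard_le
  · rintro _ ⟨p, hp, rfl⟩
    exact h p hp
  · rw [← Set.image_smul, Set.ncard_image_of_injective _ (MulAction.injective g)]
  · exact hfin

theorem Tg_mem (a b : F) : Tg m a b ∈ Cfsg.Sz F m := by
  apply mem_Sz_of_maps hF
  intro p hp
  rcases (mem_ovoid_iff m p).mp hp with rfl | ⟨x, y, rfl⟩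
  · rw [Tg_inf hF]; exact ptInf_mem m
  · rw [Tg_pt hF]; exact pt_mem m _ _

theorem Dg_mem (α : Fˣ) : Dg m α ∈ Cfsg.Sz F m := by
  apply mem_Sz_of_maps hF
  intro p hp
  rcases (mem_ovoid_iff m p).mp hp with rfl | ⟨x, y, rfl⟩
  · rw [Dg_inf hF]; exact ptInf_mem m
  · rw [Dg_pt hF]; exact pt_mem m _ _

theorem Wg_mem : (Wg : Matrix.SpecialLinearGroup (Fin 4) F) ∈ Cfsg.Sz F m := by
  obtain ⟨h2, hadd, hsq⟩ := field_facts hF
  apply mem_Sz_of_maps hF
  intro p hp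
  rcases (mem_ovoid_iff m p).mp hp with rfl | ⟨x, y, rfl⟩
  · rw [Wg_inf hF]; exact pt_mem m _ _
  · by_cases hf : fz (2 ^ (m + 1)) x y = 0
    · obtain ⟨rfl, rfl⟩ := fz_eq_zero (2 ^ (m + 1)) (by positivity) h2 hadd hsq x y hf
      rw [Wg_zero hF]; exact ptInf_mem m
    · rw [Wg_pt hF x y hf]; exact pt_mem m _ _

end


section
variable [Fintype F] {m : ℕ} (hF : Fintype.card F = 2 ^ (2 * m + 1))
include hF

theorem Sz_maps_aff (g : Matrix.SpecialLinearGroup (Fin 4) F) (hg : g ∈ Cfsg.Sz F m)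
    (hinf : g • Cfsg.suzukiPointInfinity F = Cfsg.suzukiPointInfinity F) (x y : F) :
    ∃ x' y' : F, g • pt m x y = pt m x' y' := by
  have hmem : g • pt m x y ∈ Cfsg.suzukiOvoid F m := by
    have hg' : g • Cfsg.suzukiOvoid F m = Cfsg.suzukiOvoid F m := MulAction.mem_stabilizer_iff.mp hg
    rw [← hg']
    exact Set.smul_mem_smul_set (pt_mem m x y)
  rcases (mem_ovoid_iff m _).mp hmem with h | h
  · exfalso
    rw [← hinf] at h
    exact pt_ne_inf m x y (MulAction.injective g h)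
  · exact h

omit hF in
theorem Pv_0 (x y : F) : Pv m x y 0 = fz (2 ^ (m + 1)) x y := rfl
omit hF in
theorem Pv_1 (x y : F) : Pv m x y 1 = y := rfl
omit hF in
theorem Pv_2 (x y : F) : Pv m x y 2 = x := rfl
omit hF in
theorem Pv_3 (x y : F) : Pv m x y 3 = 1 := rfl

omit hF in
theorem mulVec_four (M : Matrix (Fin 4) (Fin 4) F) (v : Fin 4 → F) (i : Fin 4) :
    M.mulVec v i = M i 0 * v 0 + M i 1 * v 1 + M i 2 * v 2 + M i 3 * v 3 := by
  simp [Matrix.mulVec, dotProduct, Fin.sum_univ_four]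

theorem two_pt_entries (hm : 1 ≤ m) (g : Matrix.SpecialLinearGroup (Fin 4) F) (hg : g ∈ Cfsg.Sz F m)
    (hinf : g • Cfsg.suzukiPointInfinity F = Cfsg.suzukiPointInfinity F)
    (hzero : g • pt m (0 : F) 0 = pt m (0 : F) 0) :
    ∃ α : Fˣ, g = Dg m α := by
  obtain ⟨M, hM⟩ : ∃ M : Matrix (Fin 4) (Fin 4) F, M = g.1 := ⟨_, rfl⟩
  have hdet : M.det = 1 := by rw [hM]; exact g.2
  obtain ⟨h2, hadd, hsq⟩ := field_facts hF
  have hσpos : 0 < 2 ^ (m + 1) := by positivity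
  -- column 0
  have hc0 : M 1 0 = 0 ∧ M 2 0 = 0 ∧ M 3 0 = 0 := by
    rw [ptInf_eq] at hinf
    obtain ⟨hw, e⟩ := smul_mk' g e0v e0v_ne_zero
    rw [e, Projectivization.mk_eq_mk_iff'] at hinf
    obtain ⟨c, hc⟩ := hinf
    have h1 := congrFun hc 1
    have h2' := congrFun hc 2
    have h3 := congrFun hc 3
    rw [← hM, mulVec_four] at h1 h2' h3
    simp [e0v] at h1 h2' h3
    exact ⟨h1.symm, h2'.symm, h3.symm⟩
  -- column 3
  have hP0 : Pv m (0 : F) 0 = ![0, 0, 0, 1] := by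
    rw [Pv, zero_pow hσpos.ne', zero_pow (by positivity)]; simp
  have hc3 : M 0 3 = 0 ∧ M 1 3 = 0 ∧ M 2 3 = 0 := by
    obtain ⟨hw, e⟩ := smul_mk' g (Pv m 0 0) (Pv_ne_zero m 0 0)
    rw [pt, e, Projectivization.mk_eq_mk_iff'] at hzero
    obtain ⟨c, hc⟩ := hzero
    have h0 := congrFun hc 0
    have h1 := congrFun hc 1
    have h2' := congrFun hc 2
    rw [← hM, mulVec_four, hP0] at h0 h1 h2'
    simp at h0 h1 h2'
    exact ⟨h0.symm, h1.symm, h2'.symm⟩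
  obtain ⟨h10, h20, h30⟩ := hc0
  obtain ⟨h03, h13, h23⟩ := hc3
  -- the key identity
  have key : ∀ x y : F, M 3 1 * y + M 3 2 * x + M 3 3 ≠ 0 ∧
      (M 0 0 * fz (2 ^ (m + 1)) x y + M 0 1 * y + M 0 2 * x) *
        (M 3 1 * y + M 3 2 * x + M 3 3) ^ (2 ^ (m + 1) + 1) =
        (M 2 1 * y + M 2 2 * x) * (M 1 1 * y + M 1 2 * x) *
          (M 3 1 * y + M 3 2 * x + M 3 3) ^ (2 ^ (m + 1)) +
          (M 2 1 * y + M 2 2 * x) ^ (2 ^ (m + 1) + 2) +
          (M 1 1 * y + M 1 2 * x) ^ (2 ^ (m + 1)) * (M 3 1 * y + M 3 2 * x + M 3 3) ^ 2 := by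
    intro x y
    obtain ⟨x', y', hxy⟩ := Sz_maps_aff hF g hg hinf x y
    obtain ⟨hw, e⟩ := smul_mk' g (Pv m x y) (Pv_ne_zero m x y)
    rw [pt, e, pt, Projectivization.mk_eq_mk_iff'] at hxy
    obtain ⟨c, hc⟩ := hxy
    have hc0 : c ≠ 0 := by
      rintro rfl
      rw [zero_smul] at hc
      exact hw hc.symm
    have e0 := congrFun hc 0
    have e1 := congrFun hc 1
    have e2 := congrFun hc 2
    have e3 := congrFun hc 3
    rw [← hM, mulVec_four] at e0 e1 e2 e3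
    simp [h10, h20, h30, h03, h13, h23, Pv_0, Pv_1, Pv_2, Pv_3] at e0 e1 e2 e3
    have u3 : M 3 1 * y + M 3 2 * x + M 3 3 = c := by rw [e3]
    have u2 : M 2 1 * y + M 2 2 * x = c * x' := by rw [e2]
    have u1 : M 1 1 * y + M 1 2 * x = c * y' := by rw [e1]
    have u0 : M 0 0 * fz (2 ^ (m + 1)) x y + M 0 1 * y + M 0 2 * x = c * fz (2 ^ (m + 1)) x' y' := by
      rw [e0]
    rw [u3, u2, u1, u0]
    refine ⟨hc0, ?_⟩
    unfold fz
    ring
  have h4 : 4 ≤ 2 ^ (m + 1) := by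
    calc 4 = 2 ^ 2 := by norm_num
      _ ≤ 2 ^ (m + 1) := Nat.pow_le_pow_right (by norm_num) (by omega)
  have hcard : 2 ^ (m + 1) + 2 < Fintype.card F := by
    rw [hF]
    have : 2 ^ (m + 2) ≤ 2 ^ (2 * m + 1) := Nat.pow_le_pow_right (by norm_num) (by omega)
    have h' : 2 ^ (m + 2) = 2 * 2 ^ (m + 1) := by ring
    omega
  obtain ⟨z31, z32, z01, z02, z12, z21, hmu, r1, r2, r3⟩ :=
    diag_of_preserve (2 ^ (m + 1)) h4 hcard (M 0 0) (M 0 1) (M 0 2) (M 1 1) (M 1 2) (M 2 1) (M 2 2)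
      (M 3 1) (M 3 2) (M 3 3) key
  -- determinant
  have hMdiag : M = Matrix.diagonal ![M 0 0, M 1 1, M 2 2, M 3 3] := by
    ext i j
    fin_cases i <;> fin_cases j <;>
      simp [h10, h20, h30, h03, h13, h23, z31, z32, z01, z02, z12, z21]
  have hdet' : M 0 0 * M 1 1 * M 2 2 * M 3 3 = 1 := by
    rw [hMdiag, Matrix.det_diagonal] at hdet
    simpa [Fin.prod_univ_four] using hdet
  obtain ⟨l, hl⟩ : ∃ l, l = M 0 0 := ⟨_, rfl⟩
  obtain ⟨a, ha⟩ : ∃ a, a = M 1 1 := ⟨_, rfl⟩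
  obtain ⟨b, hb⟩ : ∃ b, b = M 2 2 := ⟨_, rfl⟩
  obtain ⟨u, hu⟩ : ∃ u, u = M 3 3 := ⟨_, rfl⟩
  replace hdet' : l * a * b * u = 1 := by rw [hl, ha, hb, hu]; exact hdet'
  replace r1 : l * u ^ (2 ^ (m + 1) + 1) = b ^ (2 ^ (m + 1) + 2) := by rw [hl, hb, hu]; exact r1
  replace r3 : l * u = a * b := by rw [hl, ha, hb, hu]; exact r3
  replace hMdiag : M = Matrix.diagonal ![l, a, b, u] := by rw [hl, ha, hb, hu]; exact hMdiag
  have hlu : l * u = 1 := by
    have h1 : (l * u - 1) ^ 2 = 0 := by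
      have : (l * u) ^ 2 = 1 := by
        calc (l * u) ^ 2 = (l * u) * (a * b) := by rw [r3]; ring
          _ = l * a * b * u := by ring
          _ = 1 := hdet'
      calc (l * u - 1) ^ 2 = (l * u) ^ 2 - 2 * (l * u) + 1 := by ring
        _ = 0 := by rw [this, h2]; linear_combination h2
    have := pow_eq_zero_iff (two_ne_zero) |>.mp h1
    linear_combination this
  have hab : a * b = 1 := by rw [← r3, hlu]
  have hus : u ^ (2 ^ m) = b ^ (2 ^ m + 1) := by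
    have e1 : u ^ (2 ^ (m + 1)) = b ^ (2 ^ (m + 1) + 2) := by
      rw [← r1, pow_succ]
      calc u ^ 2 ^ (m + 1) = (l * u) * u ^ 2 ^ (m + 1) := by rw [hlu, one_mul]
        _ = _ := by ring
    have e2 : (u ^ (2 ^ m) - b ^ (2 ^ m + 1)) ^ 2 = 0 := by
      have p1 : (u ^ (2 ^ m)) ^ 2 = u ^ (2 ^ (m + 1)) := by rw [← pow_mul, pow_succ]
      have p2 : (b ^ (2 ^ m + 1)) ^ 2 = b ^ (2 ^ (m + 1) + 2) := by
        rw [← pow_mul]; congr 1; ring
      calc (u ^ (2 ^ m) - b ^ (2 ^ m + 1)) ^ 2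
          = (u ^ (2 ^ m)) ^ 2 - 2 * (u ^ (2 ^ m) * b ^ (2 ^ m + 1)) + (b ^ (2 ^ m + 1)) ^ 2 := by ring
        _ = 0 := by rw [p1, p2, e1, h2]; linear_combination (b ^ (2 ^ (m + 1) + 2)) * h2
    have := pow_eq_zero_iff (two_ne_zero) |>.mp e2
    linear_combination this
  have q3 : (a * u) ^ (2 ^ m) = b := by
    calc (a * u) ^ (2 ^ m) = a ^ (2 ^ m) * u ^ (2 ^ m) := mul_pow _ _ _
      _ = (a * b) ^ (2 ^ m) * b := by rw [hus]; ring
      _ = b := by rw [hab, one_pow, one_mul]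
  have q4 : (a * u) ^ (2 ^ m + 1) = u := by
    calc (a * u) ^ (2 ^ m + 1) = (a * u) ^ (2 ^ m) * (a * u) := pow_succ _ _
      _ = (a * b) * u := by rw [q3]; ring
      _ = u := by rw [hab, one_mul]
  have hαinv : (b * l) * (a * u) = 1 := by
    calc (b * l) * (a * u) = (a * b) * (l * u) := by ring
      _ = 1 := by rw [hab, hlu, one_mul]
  have q2 : (b * l) ^ (2 ^ m) = a := by
    have : (b * l) ^ (2 ^ m) * b = 1 := by
      calc (b * l) ^ (2 ^ m) * b = (b * l) ^ (2 ^ m) * (a * u) ^ (2 ^ m) := by rw [q3]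
        _ = ((b * l) * (a * u)) ^ (2 ^ m) := (mul_pow _ _ _).symm
        _ = 1 := by rw [hαinv, one_pow]
    calc (b * l) ^ (2 ^ m) = ((b * l) ^ (2 ^ m) * b) * a := by
          rw [mul_assoc, mul_comm b a, hab, mul_one]
      _ = a := by rw [this, one_mul]
  have q1 : (b * l) ^ (2 ^ m + 1) = l := by
    calc (b * l) ^ (2 ^ m + 1) = (b * l) ^ (2 ^ m) * (b * l) := pow_succ _ _
      _ = (a * b) * l := by rw [q2]; ring
      _ = l := by rw [hab, one_mul]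
  refine ⟨⟨b * l, a * u, hαinv, by rw [mul_comm]; exact hαinv⟩, ?_⟩
  apply Subtype.ext
  show g.1 = Dm m _
  rw [← hM, hMdiag, Dm]
  congr 1
  have vec4 : ∀ (p q r t p' q' r' t' : F), p = p' → q = q' → r = r' → t = t' →
      ![p, q, r, t] = ![p', q', r', t'] := by
    rintro p q r t p' q' r' t' rfl rfl rfl rfl; rfl
  exact vec4 _ _ _ _ _ _ _ _ q1.symm q2.symm q3.symm q4.symm

end


theorem Dm_mul (m : ℕ) (α β : Fˣ) : Dm m (α * β) = Dm m α * Dm m β := by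
  unfold Dm
  rw [Matrix.diagonal_mul_diagonal]
  congr 1
  funext i
  fin_cases i <;> simp [mul_pow, mul_comm]

theorem Dm_one (m : ℕ) : Dm m (1 : Fˣ) = 1 := by
  unfold Dm
  rw [← Matrix.diagonal_one]
  congr 1
  funext i
  fin_cases i <;> simp

theorem Dg_mul (m : ℕ) (α β : Fˣ) : Dg m (α * β) = Dg m α * Dg m β := by
  apply Subtype.ext
  exact Dm_mul m α β

theorem Dg_one (m : ℕ) : Dg m (1 : Fˣ) = 1 := by
  apply Subtype.ext
  exact Dm_one m

theorem Dg_injective (m : ℕ) : Function.Injective (Dg (F := F) m) := by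
  intro α β h
  have h' : Dm m α = Dm m β := congrArg Subtype.val h
  have h0 : (α : F) ^ (2 ^ m + 1) = (β : F) ^ (2 ^ m + 1) := by
    have := congrFun (congrFun h' 0) 0
    simpa [Dm] using this
  have h1 : (α : F) ^ (2 ^ m) = (β : F) ^ (2 ^ m) := by
    have := congrFun (congrFun h' 1) 1
    simpa [Dm] using this
  rw [pow_succ, pow_succ, h1] at h0
  have hβ : (β : F) ^ (2 ^ m) ≠ 0 := pow_ne_zero _ β.ne_zero
  exact Units.ext (mul_left_cancel₀ hβ h0)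

/-- the diagonal torus as a homomorphism -/
def Dhom (m : ℕ) : Fˣ →* Matrix.SpecialLinearGroup (Fin 4) F where
  toFun := Dg m
  map_one' := Dg_one m
  map_mul' := Dg_mul m

section
variable [Fintype F] {m : ℕ} (hF : Fintype.card F = 2 ^ (2 * m + 1))
include hF

theorem Dg_zero_pt (α : Fˣ) : Dg m α • pt m (0 : F) 0 = pt m 0 0 := by
  rw [Dg_pt hF]; simp

theorem S0328_main (hm : 1 ≤ m) :
    Nonempty (↥(MulAction.stabilizer (Cfsg.Sz F m) (Cfsg.suzukiPointInfinity F) ⊓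
        MulAction.stabilizer (Cfsg.Sz F m) (Cfsg.suzukiPointZero F)) ≃* Fˣ) := by
  have hz : Cfsg.suzukiPointZero F = pt m 0 0 := ptZero_eq m (by positivity)
  let f1 : Fˣ →* ↥(Cfsg.Sz F m) := (Dhom m).codRestrict (Cfsg.Sz F m) (fun α => Dg_mem hF α)
  have hmem : ∀ α : Fˣ, f1 α ∈ MulAction.stabilizer (Cfsg.Sz F m) (Cfsg.suzukiPointInfinity F) ⊓
        MulAction.stabilizer (Cfsg.Sz F m) (Cfsg.suzukiPointZero F) := by
    intro α
    refine ⟨?_, ?_⟩
    · show Dg m α • Cfsg.suzukiPointInfinity F = Cfsg.suzukiPointInfinity F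
      exact Dg_inf hF α
    · show Dg m α • Cfsg.suzukiPointZero F = Cfsg.suzukiPointZero F
      rw [hz]
      exact Dg_zero_pt hF α
  let f2 : Fˣ →* ↥(MulAction.stabilizer (Cfsg.Sz F m) (Cfsg.suzukiPointInfinity F) ⊓
        MulAction.stabilizer (Cfsg.Sz F m) (Cfsg.suzukiPointZero F)) :=
    f1.codRestrict _ hmem
  have hinj : Function.Injective f2 := by
    intro α β h
    apply Dg_injective m
    have := congrArg (fun t => t.1.1) h
    exact this
  have hsurj : Function.Surjective f2 := by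
    rintro ⟨⟨g, hg⟩, hg1, hg2⟩
    replace hg1 : g • Cfsg.suzukiPointInfinity F = Cfsg.suzukiPointInfinity F := hg1
    replace hg2 : g • Cfsg.suzukiPointZero F = Cfsg.suzukiPointZero F := hg2
    rw [hz] at hg2
    obtain ⟨α, hα⟩ := two_pt_entries hF hm g hg hg1 hg2
    refine ⟨α, ?_⟩
    apply Subtype.ext
    apply Subtype.ext
    exact hα.symm
  exact ⟨(MulEquiv.ofBijective f2 ⟨hinj, hsurj⟩).symm⟩

end


/-- the set of affine points of the ovoid -/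
def affSet (F : Type*) [Field F] (m : ℕ) : Set (Projectivization F (Fin 4 → F)) :=
  Set.range (fun p : F × F => pt m p.1 p.2)

theorem affSet_ncard [Finite F] (m : ℕ) : (affSet F m).ncard = Nat.card F * Nat.card F := by
  unfold affSet
  rw [← Set.image_univ, Set.ncard_image_of_injective, Set.ncard_univ, Nat.card_prod]
  rintro ⟨x, y⟩ ⟨x', y'⟩ h
  obtain ⟨h1, h2⟩ := pt_inj m x y x' y' h
  simp [h1, h2]

theorem ovoid_eq (m : ℕ) :
    Cfsg.suzukiOvoid F m = insert (Cfsg.suzukiPointInfinity F) (affSet F m) := by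
  ext p
  rw [mem_ovoid_iff, Set.mem_insert_iff, affSet, Set.mem_range]
  constructor
  · rintro (h | ⟨x, y, h⟩)
    · left; exact h
    · right; exact ⟨(x, y), h.symm⟩
  · rintro (h | ⟨⟨x, y⟩, h⟩)
    · left; exact h
    · right; exact ⟨x, y, h.symm⟩

theorem ovoid_ncard [Finite F] (m : ℕ) :
    (Cfsg.suzukiOvoid F m).ncard = Nat.card F * Nat.card F + 1 := by
  haveI : Finite (Projectivization F (Fin 4 → F)) := Quotient.finite _
  rw [ovoid_eq, Set.ncard_insert_of_notMem _ (Set.toFinite _), affSet_ncard]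
  rintro ⟨⟨x, y⟩, h⟩
  exact pt_ne_inf m x y h

section
variable [Fintype F] {m : ℕ} (hF : Fintype.card F = 2 ^ (2 * m + 1))
include hF

theorem orbit_B :
    MulAction.orbit (↥(MulAction.stabilizer (↥(Cfsg.Sz F m)) (Cfsg.suzukiPointInfinity F)))
      (pt m (0 : F) 0) = affSet F m := by
  apply Set.eq_of_subset_of_subset
  · rintro _ ⟨⟨⟨g, hg⟩, hginf⟩, rfl⟩
    show g • pt m (0 : F) 0 ∈ affSet F m
    obtain ⟨x', y', h⟩ := Sz_maps_aff hF g hg hginf 0 0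
    exact ⟨(x', y'), h.symm⟩
  · rintro _ ⟨⟨a, b⟩, rfl⟩
    refine ⟨⟨⟨Tg m a b, Tg_mem hF a b⟩, Tg_inf hF a b⟩, ?_⟩
    show Tg m a b • pt m (0 : F) 0 = pt m a b
    rw [Tg_pt hF]; simp

theorem card_stab_B (hm : 1 ≤ m) :
    Nat.card (MulAction.stabilizer
      (↥(MulAction.stabilizer (↥(Cfsg.Sz F m)) (Cfsg.suzukiPointInfinity F))) (pt m (0 : F) 0)) =
      Nat.card Fˣ := by
  symm
  apply Nat.card_eq_of_bijective
    (fun α => (⟨⟨⟨Dg m α, Dg_mem hF α⟩, Dg_inf hF α⟩, Dg_zero_pt hF α⟩ :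
      MulAction.stabilizer
      (↥(MulAction.stabilizer (↥(Cfsg.Sz F m)) (Cfsg.suzukiPointInfinity F))) (pt m (0 : F) 0)))
  constructor
  · intro α β h
    apply Dg_injective m
    exact congrArg (fun t => t.1.1.1) h
  · rintro ⟨⟨⟨g, hg⟩, hg1⟩, hg2⟩
    obtain ⟨α, hα⟩ := two_pt_entries hF hm g hg hg1 hg2
    refine ⟨α, ?_⟩
    apply Subtype.ext; apply Subtype.ext; apply Subtype.ext
    exact hα.symm

theorem card_units : Nat.card Fˣ = 2 ^ (2 * m + 1) - 1 := by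
  rw [Nat.card_units, Nat.card_eq_fintype_card, hF]

theorem S0329_main (hm : 1 ≤ m) :
    Nat.card (MulAction.stabilizer (Cfsg.Sz F m) (Cfsg.suzukiPointInfinity F)) =
      (2 ^ (2 * m + 1)) ^ 2 * (2 ^ (2 * m + 1) - 1) := by
  rw [← Subgroup.index_mul_card (MulAction.stabilizer
      (↥(MulAction.stabilizer (↥(Cfsg.Sz F m)) (Cfsg.suzukiPointInfinity F))) (pt m (0 : F) 0)),
    MulAction.index_stabilizer, orbit_B hF, card_stab_B hF hm, affSet_ncard, card_units hF,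
    Nat.card_eq_fintype_card, hF, sq]

theorem orbit_S :
    MulAction.orbit (↥(Cfsg.Sz F m)) (Cfsg.suzukiPointInfinity F) = Cfsg.suzukiOvoid F m := by
  apply Set.eq_of_subset_of_subset
  · rintro _ ⟨⟨g, hg⟩, rfl⟩
    show g • Cfsg.suzukiPointInfinity F ∈ Cfsg.suzukiOvoid F m
    have hg' : g • Cfsg.suzukiOvoid F m = Cfsg.suzukiOvoid F m := MulAction.mem_stabilizer_iff.mp hg
    rw [← hg']
    exact Set.smul_mem_smul_set (ptInf_mem m)
  · intro p hp
    rcases (mem_ovoid_iff m p).mp hp with rfl | ⟨x, y, rfl⟩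
    · exact MulAction.mem_orbit_self _
    · refine ⟨⟨Tg m x y * Wg, (Cfsg.Sz F m).mul_mem (Tg_mem hF x y) (Wg_mem hF)⟩, ?_⟩
      show (Tg m x y * Wg) • Cfsg.suzukiPointInfinity F = pt m x y
      rw [mul_smul, Wg_inf hF, Tg_pt hF]; simp

theorem S0324_main (hm : 1 ≤ m) :
    Nat.card (Cfsg.Sz F m) =
      (2 ^ (2 * m + 1)) ^ 2 * ((2 ^ (2 * m + 1)) ^ 2 + 1) * (2 ^ (2 * m + 1) - 1) := by
  rw [← Subgroup.index_mul_card (MulAction.stabilizer (↥(Cfsg.Sz F m)) (Cfsg.suzukiPointInfinity F)),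
    MulAction.index_stabilizer, orbit_S hF, S0329_main hF hm, ovoid_ncard,
    Nat.card_eq_fintype_card, hF]
  ring

end


/-- elements of SL₄ preserving the antidiagonal form -/
def SpJ (F : Type*) [Field F] : Subgroup (Matrix.SpecialLinearGroup (Fin 4) F) where
  carrier := {g | (g : Matrix (Fin 4) (Fin 4) F).transpose * Cfsg.suzukiForm F *
    (g : Matrix (Fin 4) (Fin 4) F) = Cfsg.suzukiForm F}
  one_mem' := by simp
  mul_mem' := by
    intro g h hg hh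
    simp only [Set.mem_setOf_eq] at hg hh ⊢
    rw [Matrix.SpecialLinearGroup.coe_mul, Matrix.transpose_mul]
    calc (h : Matrix (Fin 4) (Fin 4) F).transpose * (g : Matrix (Fin 4) (Fin 4) F).transpose *
          Cfsg.suzukiForm F * ((g : Matrix (Fin 4) (Fin 4) F) * (h : Matrix (Fin 4) (Fin 4) F))
        = (h : Matrix (Fin 4) (Fin 4) F).transpose * ((g : Matrix (Fin 4) (Fin 4) F).transpose *
          Cfsg.suzukiForm F * (g : Matrix (Fin 4) (Fin 4) F)) * (h : Matrix (Fin 4) (Fin 4) F) := by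
          simp only [Matrix.mul_assoc]
      _ = Cfsg.suzukiForm F := by rw [hg, hh]
  inv_mem' := by
    intro g hg
    simp only [Set.mem_setOf_eq] at hg ⊢
    have h1 : (g : Matrix (Fin 4) (Fin 4) F) * ((g⁻¹ : Matrix.SpecialLinearGroup (Fin 4) F) :
        Matrix (Fin 4) (Fin 4) F) = 1 := by
      rw [← Matrix.SpecialLinearGroup.coe_mul, mul_inv_cancel, Matrix.SpecialLinearGroup.coe_one]
    have h2 : ((g⁻¹ : Matrix.SpecialLinearGroup (Fin 4) F) : Matrix (Fin 4) (Fin 4) F).transpose *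
        (g : Matrix (Fin 4) (Fin 4) F).transpose = 1 := by
      rw [← Matrix.transpose_mul, h1, Matrix.transpose_one]
    calc ((g⁻¹ : Matrix.SpecialLinearGroup (Fin 4) F) : Matrix (Fin 4) (Fin 4) F).transpose *
          Cfsg.suzukiForm F * ((g⁻¹ : Matrix.SpecialLinearGroup (Fin 4) F) : Matrix (Fin 4) (Fin 4) F)
        = ((g⁻¹ : Matrix.SpecialLinearGroup (Fin 4) F) : Matrix (Fin 4) (Fin 4) F).transpose *
          ((g : Matrix (Fin 4) (Fin 4) F).transpose * Cfsg.suzukiForm F *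
            (g : Matrix (Fin 4) (Fin 4) F)) *
          ((g⁻¹ : Matrix.SpecialLinearGroup (Fin 4) F) : Matrix (Fin 4) (Fin 4) F) := by rw [hg]
      _ = (((g⁻¹ : Matrix.SpecialLinearGroup (Fin 4) F) : Matrix (Fin 4) (Fin 4) F).transpose *
          (g : Matrix (Fin 4) (Fin 4) F).transpose) * Cfsg.suzukiForm F *
            ((g : Matrix (Fin 4) (Fin 4) F) *
          ((g⁻¹ : Matrix.SpecialLinearGroup (Fin 4) F) : Matrix (Fin 4) (Fin 4) F)) := by
          simp only [Matrix.mul_assoc]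
      _ = Cfsg.suzukiForm F := by rw [h1, h2, Matrix.one_mul, Matrix.mul_one]

theorem mem_SpJ (g : Matrix.SpecialLinearGroup (Fin 4) F) :
    g ∈ SpJ F ↔ (g : Matrix (Fin 4) (Fin 4) F).transpose * Cfsg.suzukiForm F *
    (g : Matrix (Fin 4) (Fin 4) F) = Cfsg.suzukiForm F := Iff.rfl

theorem Wg_mem_SpJ : (Wg : Matrix.SpecialLinearGroup (Fin 4) F) ∈ SpJ F := by
  rw [mem_SpJ]
  show (Wm : Matrix (Fin 4) (Fin 4) F).transpose * Cfsg.suzukiForm F * Wm = Cfsg.suzukiForm F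
  ext i j
  fin_cases i <;> fin_cases j <;>
    simp [Wm, Cfsg.suzukiForm, Matrix.mul_apply, Fin.sum_univ_four]

theorem Dg_mem_SpJ (m : ℕ) (α : Fˣ) : Dg m α ∈ SpJ F := by
  rw [mem_SpJ]
  show (Dm m α).transpose * Cfsg.suzukiForm F * Dm m α = Cfsg.suzukiForm F
  ext i j
  fin_cases i <;> fin_cases j <;>
    simp [Dm, Cfsg.suzukiForm, Matrix.mul_apply, Fin.sum_univ_four, Matrix.diagonal, ← mul_pow]

theorem Tg_mem_SpJ (h2 : (2 : F) = 0) (m : ℕ) (a b : F) : Tg m a b ∈ SpJ F := by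
  rw [mem_SpJ]
  show (Tm m a b).transpose * Cfsg.suzukiForm F * Tm m a b = Cfsg.suzukiForm F
  ext i j
  fin_cases i <;> fin_cases j <;>
    simp [Tm, Cfsg.suzukiForm, Matrix.mul_apply, Fin.sum_univ_four]
  all_goals first
    | linear_combination a * h2
    | linear_combination a ^ 2 ^ (m + 1) * h2
    | linear_combination (b + a ^ (2 ^ (m + 1) + 1)) * h2
    | linear_combination (2 * a * b + a ^ (2 ^ (m + 1) + 2) + b ^ (2 ^ (m + 1))) * h2


section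
variable [Fintype F] {m : ℕ} (hF : Fintype.card F = 2 ^ (2 * m + 1))
include hF

/-- an element of Sz fixing ∞ is a product of a translation and a torus element -/
theorem stab_inf_decomp (hm : 1 ≤ m) (g : Matrix.SpecialLinearGroup (Fin 4) F)
    (hg : g ∈ Cfsg.Sz F m)
    (hinf : g • Cfsg.suzukiPointInfinity F = Cfsg.suzukiPointInfinity F) :
    ∃ (a b : F) (α : Fˣ), g = Tg m a b * Dg m α := by
  obtain ⟨a, b, hab⟩ := Sz_maps_aff hF g hg hinf 0 0
  have hT : Tg m a b • pt m (0 : F) 0 = pt m a b := by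
    rw [Tg_pt hF]; simp
  have h1 : ((Tg m a b)⁻¹ * g) ∈ Cfsg.Sz F m :=
    (Cfsg.Sz F m).mul_mem ((Cfsg.Sz F m).inv_mem (Tg_mem hF a b)) hg
  have h2 : ((Tg m a b)⁻¹ * g) • Cfsg.suzukiPointInfinity F = Cfsg.suzukiPointInfinity F := by
    rw [mul_smul, hinf, inv_smul_eq_iff, Tg_inf hF]
  have h3 : ((Tg m a b)⁻¹ * g) • pt m (0 : F) 0 = pt m 0 0 := by
    rw [mul_smul, hab, inv_smul_eq_iff, hT]
  obtain ⟨α, hα⟩ := two_pt_entries hF hm _ h1 h2 h3
  refine ⟨a, b, α, ?_⟩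
  rw [← hα, mul_inv_cancel_left]

theorem Sz_le_SpJ (hm : 1 ≤ m) : Cfsg.Sz F m ≤ SpJ F := by
  obtain ⟨h2, hadd, hsq⟩ := field_facts hF
  have key : ∀ g : Matrix.SpecialLinearGroup (Fin 4) F, g ∈ Cfsg.Sz F m →
      g • Cfsg.suzukiPointInfinity F = Cfsg.suzukiPointInfinity F → g ∈ SpJ F := by
    intro g hg hinf
    obtain ⟨a, b, α, rfl⟩ := stab_inf_decomp hF hm g hg hinf
    exact (SpJ F).mul_mem (Tg_mem_SpJ h2 m a b) (Dg_mem_SpJ m α)
  intro g hg
  have hmem : g • Cfsg.suzukiPointInfinity F ∈ Cfsg.suzukiOvoid F m := by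
    have hg' : g • Cfsg.suzukiOvoid F m = Cfsg.suzukiOvoid F m := MulAction.mem_stabilizer_iff.mp hg
    rw [← hg']
    exact Set.smul_mem_smul_set (ptInf_mem m)
  rcases (mem_ovoid_iff m _).mp hmem with h | ⟨x, y, h⟩
  · exact key g hg h
  · -- g • ∞ = pt x y
    have hT : Tg m x y • pt m (0 : F) 0 = pt m x y := by
      rw [Tg_pt hF]; simp
    have h1 : (Wg * (Tg m x y)⁻¹ * g) ∈ Cfsg.Sz F m :=
      (Cfsg.Sz F m).mul_mem ((Cfsg.Sz F m).mul_mem (Wg_mem hF)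
        ((Cfsg.Sz F m).inv_mem (Tg_mem hF x y))) hg
    have h3 : (Wg * (Tg m x y)⁻¹ * g) • Cfsg.suzukiPointInfinity F =
        Cfsg.suzukiPointInfinity F := by
      rw [mul_smul, mul_smul, h, ← hT, inv_smul_smul, Wg_zero hF]
    have h4 := key _ h1 h3
    have h5 : g = Tg m x y * (Wg⁻¹ * (Wg * (Tg m x y)⁻¹ * g)) := by group
    rw [h5]
    exact (SpJ F).mul_mem (Tg_mem_SpJ h2 m x y)
      ((SpJ F).mul_mem ((SpJ F).inv_mem Wg_mem_SpJ) h4)

theorem S0334_main (hm : 1 ≤ m) {g : Matrix.SpecialLinearGroup (Fin 4) F}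
    (hg : g ∈ Cfsg.Sz F m) :
    (g : Matrix (Fin 4) (Fin 4) F).transpose * Cfsg.suzukiForm F * (g : Matrix (Fin 4) (Fin 4) F) =
      Cfsg.suzukiForm F :=
  (mem_SpJ g).mp (Sz_le_SpJ hF hm hg)

end

end Cfsg.Agent.Lib.Helper4_SzGroup
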