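import Mathlib
import Cfsg.Prelude.Def_LieExceptional
import Cfsg.Agent.Lib.Helper4_SzOvoid
import Cfsg.Agent.Lib.Helper4_SzGroup

set_option linter.all false
set_option autoImplicit false

namespace Cfsg.Agent.Lib.Helper4_SzSylow
open Cfsg.Agent.Lib.Helper4_SzOvoid Cfsg.Agent.Lib.Helper4_SzGroup Polynomial
open scoped Pointwise

variable {F : Type*} [Field F]

section
variable [Fintype F] {m : ℕ} (hF : Fintype.card F = 2 ^ (2 * m + 1))
include hF

theorem Tm_mul (a b c d : F) :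
    Tm m a b * Tm m c d = Tm m (a + c) (b + d + a ^ (2 ^ (m + 1)) * c) := by
  obtain ⟨h2, hadd, hsq⟩ := field_facts hF
  have e1 : (a + c) ^ (2 ^ (m + 1)) = a ^ (2 ^ (m + 1)) + c ^ (2 ^ (m + 1)) := hadd a c
  have e2 : (a + c) ^ (2 ^ (m + 1) + 1) = (a ^ (2 ^ (m + 1)) + c ^ (2 ^ (m + 1))) * (a + c) := by
    rw [pow_succ, e1]
  have e3 : (a + c) ^ (2 ^ (m + 1) + 2) = (a ^ (2 ^ (m + 1)) + c ^ (2 ^ (m + 1))) * (a + c) ^ 2 := by
    rw [pow_add, e1]
  have e4 : (b + d + a ^ (2 ^ (m + 1)) * c) ^ (2 ^ (m + 1)) =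
      b ^ (2 ^ (m + 1)) + d ^ (2 ^ (m + 1)) + a ^ 2 * c ^ (2 ^ (m + 1)) := by
    rw [hadd, hadd, mul_pow, hsq]
  ext i j
  fin_cases i <;> fin_cases j <;>
    simp [Tm, Matrix.mul_apply, Fin.sum_univ_four]
  all_goals first
    | ring1
    | (rw [e1]; ring1)
    | (rw [e2]; linear_combination (-(a ^ (2 ^ (m + 1)) * c)) * h2)
    | (rw [e3, e4]; linear_combination (-(a ^ (2 ^ (m + 1)) * c ^ 2 + a ^ 2 * c ^ (2 ^ (m + 1)) +
        a ^ (2 ^ (m + 1) + 1) * c + a * c ^ (2 ^ (m + 1) + 1))) * h2)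

end

open scoped commutatorElement


section
variable (σ : ℕ) (hσ0 : σ ≠ 0) (h2 : (2 : F) = 0)
  (hadd : ∀ a b : F, (a + b) ^ σ = a ^ σ + b ^ σ)
  (hsq : ∀ t : F, (t ^ σ) ^ σ = t ^ 2)
include hσ0 h2 hadd hsq

theorem fix_sigma (s : F) (h : s ^ σ = s) : s = 0 ∨ s = 1 := by
  have h1 : s ^ 2 = s := by rw [← hsq s, h, h]
  have : s * (s - 1) = 0 := by linear_combination h1
  rcases mul_eq_zero.mp this with h | h
  · left; exact h
  · right; linear_combination h

theorem char2_add_self (t : F) : t + t = 0 := by linear_combination t * h2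

theorem pow_succ_sigma_injective : Function.Injective (fun x : F => x ^ (σ + 1)) := by
  intro x y hxy
  simp only at hxy
  have hx : x * x ^ (σ + 1) = (x ^ (σ + 1)) ^ σ := by
    rw [pow_succ, mul_pow, hsq]; ring
  have hy : y * y ^ (σ + 1) = (y ^ (σ + 1)) ^ σ := by
    rw [pow_succ, mul_pow, hsq]; ring
  by_cases hu : x ^ (σ + 1) = 0
  · have hx0 : x = 0 := pow_eq_zero_iff (by omega) |>.mp hu
    rw [hxy] at hu
    have hy0 : y = 0 := pow_eq_zero_iff (by omega) |>.mp hu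
    rw [hx0, hy0]
  · have : x * x ^ (σ + 1) = y * x ^ (σ + 1) := by
      rw [hx, hxy, ← hy]
    exact mul_right_cancel₀ hu this

theorem exists_comm_eq [Finite F] (s : F) (hs0 : s ≠ 0) (hs1 : s ≠ 1) (t : F) :
    ∃ a c : F, a ^ σ * c + c ^ σ * a = t := by
  have hk : s + s ^ σ ≠ 0 := by
    intro h
    have : s ^ σ = s := by
      have := char2_add_self σ hσ0 h2 hadd hsq s
      linear_combination h - this
    rcases fix_sigma σ hσ0 h2 hadd hsq s this with h | h
    · exact hs0 h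
    · exact hs1 h
  have hsurj : Function.Surjective (fun x : F => x ^ (σ + 1)) :=
    Finite.injective_iff_surjective.mp (pow_succ_sigma_injective σ hσ0 h2 hadd hsq)
  obtain ⟨a, ha⟩ := hsurj (t / (s + s ^ σ))
  simp only at ha
  refine ⟨a, a * s, ?_⟩
  rw [mul_pow]
  calc a ^ σ * (a * s) + a ^ σ * s ^ σ * a = a ^ (σ + 1) * (s + s ^ σ) := by ring
    _ = t := by rw [ha]; field_simp

end

/-- abstract Suzuki 2-group -/
theorem suz2_structure {G : Type*} [Group G] [Finite F] (σ : ℕ) (hσ0 : σ ≠ 0) (h2 : (2 : F) = 0)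
    (hadd : ∀ a b : F, (a + b) ^ σ = a ^ σ + b ^ σ)
    (hsq : ∀ t : F, (t ^ σ) ^ σ = t ^ 2)
    (s : F) (hs0 : s ≠ 0) (hs1 : s ≠ 1)
    (ψ : F → F → G)
    (hinj : ∀ a b c d, ψ a b = ψ c d → a = c ∧ b = d)
    (hsurj : ∀ g : G, ∃ a b, ψ a b = g)
    (hmul : ∀ a b c d, ψ a b * ψ c d = ψ (a + c) (b + d + a ^ σ * c)) :
    Nat.card G = Nat.card F ^ 2 ∧ Monoid.exponent G = 4 ∧
      Subgroup.center G = commutator G ∧ Nat.card (Subgroup.center G) = Nat.card F := by
  have hc2 : ∀ t : F, t + t = 0 := char2_add_self σ hσ0 h2 hadd hsq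
  have h0σ : (0 : F) ^ σ = 0 := zero_pow hσ0
  have hone : ψ 0 0 = 1 := by
    have := hmul 0 0 0 0
    rw [h0σ] at this
    simp only [add_zero, mul_zero] at this
    exact mul_eq_left.mp this
  -- central elements
  have hcen : ∀ a b, ψ a b ∈ Subgroup.center G ↔ a = 0 := by
    intro a b
    constructor
    · intro h
      rw [Subgroup.mem_center_iff] at h
      have e1 := h (ψ 1 0)
      rw [hmul, hmul] at e1
      obtain ⟨-, e1'⟩ := hinj _ _ _ _ e1
      rw [one_pow] at e1'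
      have ha : a ^ σ = a := by linear_combination -e1'
      rcases fix_sigma σ hσ0 h2 hadd hsq a ha with h0 | h1
      · exact h0
      · exfalso
        have e2 := h (ψ s 0)
        rw [hmul, hmul, h1] at e2
        obtain ⟨-, e2'⟩ := hinj _ _ _ _ e2
        rw [one_pow] at e2'
        have hs : s ^ σ = s := by linear_combination e2'
        rcases fix_sigma σ hσ0 h2 hadd hsq s hs with h | h
        · exact hs0 h
        · exact hs1 h
    · rintro rfl
      rw [Subgroup.mem_center_iff]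
      intro g
      obtain ⟨c, d, rfl⟩ := hsurj g
      rw [hmul, hmul, h0σ]
      congr 1 <;> ring
  -- commutators
  have hcomm : ∀ a b c d, ⁅ψ a b, ψ c d⁆ = ψ 0 (a ^ σ * c + c ^ σ * a) := by
    intro a b c d
    have e1 : ⁅ψ a b, ψ c d⁆ * (ψ c d * ψ a b) = ψ a b * ψ c d := by
      rw [commutatorElement_def]; group
    have e2 : ψ 0 (a ^ σ * c + c ^ σ * a) * (ψ c d * ψ a b) = ψ a b * ψ c d := by
      rw [hmul, hmul, hmul, h0σ]
      congr 1
      · ring
      · linear_combination (c ^ σ * a) * h2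
    exact mul_right_cancel (e1.trans e2.symm)
  refine ⟨?_, ?_, ?_, ?_⟩
  · rw [sq, ← Nat.card_prod]
    symm
    apply Nat.card_eq_of_bijective (fun p : F × F => ψ p.1 p.2)
    constructor
    · rintro ⟨a, b⟩ ⟨c, d⟩ h
      obtain ⟨h1, h2⟩ := hinj _ _ _ _ h
      exact Prod.ext h1 h2
    · intro g
      obtain ⟨a, b, h⟩ := hsurj g
      exact ⟨(a, b), h⟩
  · have hsq' : ∀ a b, ψ a b ^ 2 = ψ 0 (a ^ (σ + 1)) := by
      intro a b
      rw [sq, hmul, hc2 a, hc2 b, pow_succ, zero_add]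
    have h4 : ∀ g : G, g ^ 4 = 1 := by
      intro g
      obtain ⟨a, b, rfl⟩ := hsurj g
      have : ψ a b ^ 4 = (ψ a b ^ 2) ^ 2 := by rw [← pow_mul]
      have h0σ1 : (0 : F) ^ (σ + 1) = 0 := by rw [pow_succ, mul_zero]
      rw [this, hsq', hsq', h0σ1]
      exact hone
    have hd : Monoid.exponent G ∣ 4 := Monoid.exponent_dvd_of_forall_pow_eq_one h4
    have hnd : ¬ Monoid.exponent G ∣ 2 := by
      intro h
      have h1 : ψ 1 0 ^ 2 = 1 := by
        obtain ⟨k, hk⟩ := h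
        rw [hk, pow_mul, Monoid.pow_exponent_eq_one, one_pow]
      rw [hsq', one_pow, ← hone] at h1
      obtain ⟨-, h'⟩ := hinj _ _ _ _ h1
      exact one_ne_zero h'
    have : (4 : ℕ) = 2 ^ 2 := by norm_num
    rw [this] at hd
    obtain ⟨k, hk, hk'⟩ := (Nat.dvd_prime_pow Nat.prime_two).mp hd
    interval_cases k
    · exfalso; apply hnd; rw [hk']; norm_num
    · exfalso; apply hnd; rw [hk']; norm_num
    · rw [hk']; norm_num
  · apply le_antisymm
    · intro z hz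
      obtain ⟨a, b, rfl⟩ := hsurj z
      have ha := (hcen a b).mp hz
      subst ha
      obtain ⟨a, c, hac⟩ := exists_comm_eq σ hσ0 h2 hadd hsq s hs0 hs1 b
      rw [← hac, ← hcomm a 0 c 0, commutator_def]
      exact Subgroup.commutator_mem_commutator (Subgroup.mem_top _) (Subgroup.mem_top _)
    · rw [commutator_def, Subgroup.commutator_le]
      intro g₁ _ g₂ _
      obtain ⟨a, b, rfl⟩ := hsurj g₁
      obtain ⟨c, d, rfl⟩ := hsurj g₂
      rw [hcomm]
      exact (hcen _ _).mpr rfl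
  · symm
    apply Nat.card_eq_of_bijective (fun t : F => (⟨ψ 0 t, (hcen 0 t).mpr rfl⟩ : Subgroup.center G))
    constructor
    · intro t t' h
      have := congrArg Subtype.val h
      exact (hinj _ _ _ _ this).2
    · rintro ⟨z, hz⟩
      obtain ⟨a, b, rfl⟩ := hsurj z
      have ha := (hcen a b).mp hz
      subst ha
      exact ⟨b, rfl⟩


theorem Tg_zero (m : ℕ) : Tg m (0 : F) 0 = 1 := by
  apply Subtype.ext
  show Tm m (0 : F) 0 = 1
  have h1 : (0 : F) ^ (2 ^ (m + 1)) = 0 := zero_pow (by positivity)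
  ext i j
  fin_cases i <;> fin_cases j <;> simp [Tm, h1]

theorem Tg_inj (m : ℕ) (a b c d : F) (h : Tg m a b = Tg m c d) : a = c ∧ b = d := by
  have h' : Tm m a b = Tm m c d := congrArg Subtype.val h
  have h1 := congrFun (congrFun h' 2) 3
  have h2 := congrFun (congrFun h' 1) 3
  simp [Tm] at h1 h2
  exact ⟨h1, h2⟩

section
variable [Fintype F] {m : ℕ} (hF : Fintype.card F = 2 ^ (2 * m + 1))
include hF

theorem Tg_mul (a b c d : F) :
    Tg m a b * Tg m c d = Tg m (a + c) (b + d + a ^ (2 ^ (m + 1)) * c) := by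
  apply Subtype.ext
  exact Tm_mul hF a b c d

theorem Tg_inv (a b : F) : (Tg m a b)⁻¹ = Tg m a (b + a ^ (2 ^ (m + 1) + 1)) := by
  obtain ⟨h2, hadd, hsq⟩ := field_facts hF
  rw [inv_eq_iff_mul_eq_one, Tg_mul hF, ← Tg_zero m]
  congr 1
  · linear_combination a * h2
  · linear_combination (b + a ^ (2 ^ (m + 1) + 1)) * h2

/-- the unipotent subgroup of the Suzuki group -/
def TSub : Subgroup ↥(Cfsg.Sz F m) where
  carrier := {g | ∃ a b : F, (g : Matrix.SpecialLinearGroup (Fin 4) F) = Tg m a b}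
  one_mem' := ⟨0, 0, (Tg_zero m).symm⟩
  mul_mem' := by
    rintro g h ⟨a, b, hg⟩ ⟨c, d, hh⟩
    exact ⟨_, _, by rw [Subgroup.coe_mul, hg, hh, Tg_mul hF]⟩
  inv_mem' := by
    rintro g ⟨a, b, hg⟩
    exact ⟨_, _, by rw [Subgroup.coe_inv, hg, Tg_inv hF]⟩

/-- parametrisation of the unipotent subgroup -/
def Tφ (a b : F) : ↥(TSub hF) := ⟨⟨Tg m a b, Tg_mem hF a b⟩, a, b, rfl⟩

theorem Tφ_inj (a b c d : F) (h : Tφ hF a b = Tφ hF c d) : a = c ∧ b = d := by
  apply Tg_inj m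
  exact congrArg (fun t => t.1.1) h

theorem Tφ_surj (g : ↥(TSub hF)) : ∃ a b, Tφ hF a b = g := by
  obtain ⟨⟨g, hg⟩, a, b, hab⟩ := g
  refine ⟨a, b, ?_⟩
  apply Subtype.ext; apply Subtype.ext
  exact hab.symm

theorem Tφ_mul (a b c d : F) :
    Tφ hF a b * Tφ hF c d = Tφ hF (a + c) (b + d + a ^ (2 ^ (m + 1)) * c) := by
  apply Subtype.ext; apply Subtype.ext
  exact Tg_mul hF a b c d

theorem TSub_card : Nat.card ↥(TSub hF) = (2 ^ (2 * m + 1)) ^ 2 := by
  rw [← hF, ← Nat.card_eq_fintype_card, sq, ← Nat.card_prod]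
  symm
  apply Nat.card_eq_of_bijective (fun p : F × F => Tφ hF p.1 p.2)
  constructor
  · rintro ⟨a, b⟩ ⟨c, d⟩ h
    obtain ⟨h1, h2⟩ := Tφ_inj hF _ _ _ _ h
    exact Prod.ext h1 h2
  · intro g
    obtain ⟨a, b, h⟩ := Tφ_surj hF g
    exact ⟨(a, b), h⟩

theorem Sz_card_factorization (hm : 1 ≤ m) :
    (Nat.card ↥(Cfsg.Sz F m)).factorization 2 = 2 * (2 * m + 1) := by
  rw [S0324_main hF hm]
  have hq : 1 ≤ 2 ^ (2 * m + 1) := Nat.one_le_two_pow
  have hodd1 : ¬ 2 ∣ ((2 ^ (2 * m + 1)) ^ 2 + 1) := by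
    rw [← pow_mul]
    have : 2 ∣ 2 ^ ((2 * m + 1) * 2) := dvd_pow_self 2 (by omega)
    omega
  have hodd2 : ¬ 2 ∣ (2 ^ (2 * m + 1) - 1) := by
    have : 2 ∣ 2 ^ (2 * m + 1) := dvd_pow_self 2 (by omega)
    omega
  have hne1 : (2 ^ (2 * m + 1)) ^ 2 ≠ 0 := by positivity
  have hne2 : (2 ^ (2 * m + 1)) ^ 2 + 1 ≠ 0 := by positivity
  have hne3 : 2 ^ (2 * m + 1) - 1 ≠ 0 := by
    have : 2 ^ 1 < 2 ^ (2 * m + 1) := Nat.pow_lt_pow_right (by norm_num) (by omega)
    omega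
  rw [Nat.factorization_mul (mul_ne_zero hne1 hne2) hne3, Nat.factorization_mul hne1 hne2]
  simp only [Finsupp.coe_add, Pi.add_apply]
  rw [Nat.factorization_eq_zero_of_not_dvd hodd1, Nat.factorization_eq_zero_of_not_dvd hodd2,
    ← pow_mul, Nat.Prime.factorization_pow Nat.prime_two]
  simp
  ring

theorem S0330_main (hm : 1 ≤ m) (P : Sylow 2 (Cfsg.Sz F m)) :
    Nat.card P = (2 ^ (2 * m + 1)) ^ 2 ∧ Monoid.exponent P = 4 ∧
      Subgroup.center P = commutator P ∧ Nat.card (Subgroup.center P) = 2 ^ (2 * m + 1) := by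
  obtain ⟨h2, hadd, hsq⟩ := field_facts hF
  haveI : Fact (Nat.Prime 2) := ⟨Nat.prime_two⟩
  haveI : Finite ↥(Cfsg.Sz F m) := inferInstance
  have hcard : Nat.card ↥(TSub hF) = 2 ^ (Nat.card ↥(Cfsg.Sz F m)).factorization 2 := by
    rw [Sz_card_factorization hF hm, TSub_card hF, ← pow_mul]
    congr 1; ring
  let Q : Sylow 2 (Cfsg.Sz F m) := Sylow.ofCard (TSub hF) hcard
  let e : ↥(TSub hF) ≃* ↥P := Sylow.equiv Q P
  -- an element outside {0,1}
  obtain ⟨s, hs0, hs1⟩ : ∃ s : F, s ≠ 0 ∧ s ≠ 1 := by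
    by_contra hcon
    push Not at hcon
    have : Fintype.card F ≤ 2 := by
      classical
      calc Fintype.card F = (Finset.univ : Finset F).card := rfl
        _ ≤ ({0, 1} : Finset F).card := by
          apply Finset.card_le_card
          intro x _
          by_cases hx : x = 0
          · simp [hx]
          · simp [hcon x hx]
        _ ≤ 2 := Finset.card_le_two
    rw [hF] at this
    have : 2 ^ 3 ≤ 2 ^ (2 * m + 1) := Nat.pow_le_pow_right (by norm_num) (by omega)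
    omega
  have key := suz2_structure (G := ↥P) (2 ^ (m + 1)) (by positivity) h2 hadd hsq s hs0 hs1
    (fun a b => e (Tφ hF a b))
    (fun a b c d h => Tφ_inj hF a b c d (e.injective h))
    (fun g => by
      obtain ⟨a, b, h⟩ := Tφ_surj hF (e.symm g)
      exact ⟨a, b, by rw [h, MulEquiv.apply_symm_apply]⟩)
    (fun a b c d => by rw [← map_mul, Tφ_mul])
  rw [Nat.card_eq_fintype_card (α := F), hF] at key
  exact key

end

end Cfsg.Agent.Lib.Helper4_SzSylow
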