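import Mathlib
import Cfsg.Prelude.Def_LieExceptional
import Cfsg.Agent.Lib.Helper4_SzOvoid
import Cfsg.Agent.Lib.Helper4_SzGroup
import Cfsg.Agent.Lib.Helper4_SzSylow

set_option linter.all false
set_option autoImplicit false

namespace Cfsg.Agent.Lib.Helper4_SzReal
open Cfsg.Agent.Lib.Helper4_SzOvoid Cfsg.Agent.Lib.Helper4_SzGroup Cfsg.Agent.Lib.Helper4_SzSylow
open scoped Pointwise

variable {F : Type*} [Field F]

section
variable [Fintype F] {m : ℕ} (hF : Fintype.card F = 2 ^ (2 * m + 1))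
include hF

theorem Tg_zero_pt (a b : F) : Tg m a b • pt m (0 : F) 0 = pt m a b := by
  rw [Tg_pt hF]; simp

/-- an element of order 4 of the unipotent subgroup is not real -/
theorem Tg_real (hm : 1 ≤ m) (a b : F) (x : Matrix.SpecialLinearGroup (Fin 4) F)
    (hx : x ∈ Cfsg.Sz F m) (h : x * Tg m a b = (Tg m a b)⁻¹ * x) : a = 0 := by
  obtain ⟨h2, hadd, hsq⟩ := field_facts hF
  by_contra ha
  -- x fixes ∞
  have hfix : x • Cfsg.suzukiPointInfinity F = Cfsg.suzukiPointInfinity F := by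
    have hmem : x • Cfsg.suzukiPointInfinity F ∈ Cfsg.suzukiOvoid F m := by
      have hg' : x • Cfsg.suzukiOvoid F m = Cfsg.suzukiOvoid F m :=
        MulAction.mem_stabilizer_iff.mp hx
      rw [← hg']
      exact Set.smul_mem_smul_set (ptInf_mem m)
    rcases (mem_ovoid_iff m _).mp hmem with h' | ⟨u, v, h'⟩
    · exact h'
    · exfalso
      have e1 : (x * Tg m a b) • Cfsg.suzukiPointInfinity F = pt m u v := by
        rw [mul_smul, Tg_inf hF, h']
      rw [h, mul_smul, h', inv_smul_eq_iff, Tg_pt hF] at e1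
      have := (pt_inj m _ _ _ _ e1).1
      apply ha
      linear_combination -this
  obtain ⟨c, d, α, rfl⟩ := stab_inf_decomp hF hm x hx hfix
  have e : (Tg m c d * Dg m α * Tg m a b) • pt m (0 : F) 0 =
      ((Tg m a b)⁻¹ * (Tg m c d * Dg m α)) • pt m (0 : F) 0 := by rw [h]
  rw [Tg_inv hF, mul_smul, mul_smul, mul_smul, mul_smul, Tg_zero_pt hF, Dg_pt hF, Tg_pt hF,
    Dg_zero_pt hF, Tg_zero_pt hF, Tg_pt hF] at e
  obtain ⟨e1, e2⟩ := pt_inj m _ _ _ _ e
  have hα : (α : F) = 1 := by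
    have : ((α : F) - 1) * a = 0 := by linear_combination e1
    rcases mul_eq_zero.mp this with h' | h'
    · linear_combination h'
    · exact absurd h' ha
  rw [hα] at e2
  simp only [one_pow, one_mul, mul_one] at e2
  -- c^σ a + a^σ c = a^(σ+1)
  obtain ⟨s, hs⟩ : ∃ s, c = a * s := ⟨c / a, by field_simp⟩
  subst hs
  have e3 : a ^ (2 ^ (m + 1) + 1) * (s ^ (2 ^ (m + 1)) + s - 1) = 0 := by
    rw [mul_pow] at e2
    linear_combination e2 + (a ^ (2 ^ (m + 1) + 1) * s) * h2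
  have ha' : a ^ (2 ^ (m + 1) + 1) ≠ 0 := pow_ne_zero _ ha
  have e4 : s ^ (2 ^ (m + 1)) + s = 1 := by
    rcases mul_eq_zero.mp e3 with h' | h'
    · exact absurd h' ha'
    · linear_combination h'
  have e5 : s ^ 2 + s ^ (2 ^ (m + 1)) = 1 := by
    have := congrArg (fun t => t ^ (2 ^ (m + 1))) e4
    simp only [one_pow] at this
    rw [hadd, hsq] at this
    exact this
  have e6 : s * (s - 1) = 0 := by linear_combination e5 - e4
  have hσpos : 2 ^ (m + 1) ≠ 0 := by positivity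
  rcases mul_eq_zero.mp e6 with h' | h'
  · rw [h', zero_pow hσpos, add_zero] at e4
    exact zero_ne_one e4
  · have hs1 : s = 1 := by linear_combination h'
    rw [hs1, one_pow] at e4
    have : (2 : F) = 1 := by linear_combination e4
    rw [h2] at this
    exact zero_ne_one this

end

section
variable [Fintype F] {m : ℕ} (hF : Fintype.card F = 2 ^ (2 * m + 1))
include hF

theorem TSub_sylow_card (hm : 1 ≤ m) :
    Nat.card ↥(TSub hF) = 2 ^ (Nat.card ↥(Cfsg.Sz F m)).factorization 2 := by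
  rw [Sz_card_factorization hF hm, TSub_card hF, ← pow_mul]
  congr 1; ring

theorem S2241_main (hm : 1 ≤ m) (P : Sylow 2 ↥(Cfsg.Sz F m)) (g : ↥(Cfsg.Sz F m))
    (hg : g ∈ (P : Subgroup ↥(Cfsg.Sz F m))) (h1 : g ≠ 1) : IsConj g g⁻¹ ↔ orderOf g = 2 := by
  obtain ⟨h2, hadd, hsq⟩ := field_facts hF
  haveI : Fact (Nat.Prime 2) := ⟨Nat.prime_two⟩
  constructor
  · intro hc
    let Q : Sylow 2 ↥(Cfsg.Sz F m) := Sylow.ofCard (TSub hF) (TSub_sylow_card hF hm)
    obtain ⟨k, hk⟩ := MulAction.exists_smul_eq ↥(Cfsg.Sz F m) Q P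
    have ht : k⁻¹ * g * k ∈ TSub hF := by
      show k⁻¹ * g * k ∈ (Q : Subgroup ↥(Cfsg.Sz F m))
      rw [← hk] at hg
      have hg' : g ∈ MulAut.conj k • (Q : Subgroup ↥(Cfsg.Sz F m)) := hg
      rw [Subgroup.mem_pointwise_smul_iff_inv_smul_mem] at hg'
      simpa [MulAut.smul_def, mul_assoc] using hg'
    obtain ⟨a, b, hab⟩ := ht
    obtain ⟨x, hx⟩ := isConj_iff.mp hc
    have hx' : x * g = g⁻¹ * x := by rw [← hx]; group
    have hy : (k⁻¹ * x * k) * (k⁻¹ * g * k) = (k⁻¹ * g * k)⁻¹ * (k⁻¹ * x * k) := by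
      calc (k⁻¹ * x * k) * (k⁻¹ * g * k) = k⁻¹ * (x * g) * k := by group
        _ = k⁻¹ * (g⁻¹ * x) * k := by rw [hx']
        _ = (k⁻¹ * g * k)⁻¹ * (k⁻¹ * x * k) := by group
    have hy' := congrArg (fun t : ↥(Cfsg.Sz F m) => (t : Matrix.SpecialLinearGroup (Fin 4) F)) hy
    simp only [Subgroup.coe_mul, Subgroup.coe_inv] at hy' hab
    rw [hab] at hy'
    have ha : a = 0 := Tg_real hF hm a b _ (k⁻¹ * x * k).2 (by simpa using hy')
    have ht2 : (k⁻¹ * g * k) ^ 2 = 1 := by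
      apply Subtype.ext
      rw [sq, Subgroup.coe_mul, Subgroup.coe_one]
      simp only [Subgroup.coe_mul, Subgroup.coe_inv]
      rw [hab, ha, Tg_mul hF, ← Tg_zero m]
      congr 1
      · ring
      · rw [zero_pow (by positivity)]
        linear_combination b * h2
    have hg2 : g ^ 2 = 1 := by
      have : g = k * (k⁻¹ * g * k) * k⁻¹ := by group
      rw [this, conj_pow, ht2]; group
    exact orderOf_eq_prime hg2 h1
  · intro ho
    have hg2 : g ^ 2 = 1 := by rw [← ho]; exact pow_orderOf_eq_one g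
    have : g⁻¹ = g := by
      rw [inv_eq_iff_mul_eq_one, ← sq]; exact hg2
    rw [this]

end

end Cfsg.Agent.Lib.Helper4_SzReal
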