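import Mathlib
import Cfsg.Prelude.Def_LieExceptional
import Cfsg.Agent.Lib.Helper4_SzOvoid
import Cfsg.Agent.Lib.Helper4_SzGroup
import Cfsg.Agent.Lib.Helper4_SzSylow
import Cfsg.Agent.Lib.Helper4_SzReal

set_option linter.all false
set_option autoImplicit false

namespace Cfsg.Agent.Lib.Helper4_SzZass
open Cfsg.Agent.Lib.Helper4_SzOvoid Cfsg.Agent.Lib.Helper4_SzGroup Cfsg.Agent.Lib.Helper4_SzSylow
  Cfsg.Agent.Lib.Helper4_SzReal
open scoped Pointwise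

variable {F : Type*} [Field F]

/-- the point at infinity, as a point of the ovoid -/
def infΩ (F : Type*) [Field F] (m : ℕ) : ↥(Cfsg.suzukiOvoid F m) :=
  ⟨Cfsg.suzukiPointInfinity F, ptInf_mem m⟩

/-- affine points of the ovoid -/
def ptΩ (m : ℕ) (x y : F) : ↥(Cfsg.suzukiOvoid F m) := ⟨pt m x y, pt_mem m x y⟩

theorem Ω_cases (m : ℕ) (ω : ↥(Cfsg.suzukiOvoid F m)) : ω = infΩ F m ∨ ∃ x y, ω = ptΩ m x y := by
  obtain ⟨p, hp⟩ := ω
  rcases (mem_ovoid_iff m p).mp hp with h | ⟨x, y, h⟩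
  · left; exact Subtype.ext h
  · right; exact ⟨x, y, Subtype.ext h⟩

theorem ptΩ_ne_inf (m : ℕ) (x y : F) : ptΩ m x y ≠ infΩ F m := by
  intro h
  exact pt_ne_inf m x y (congrArg Subtype.val h)

theorem ptΩ_inj (m : ℕ) (x y x' y' : F) (h : ptΩ m x y = ptΩ m x' y') : x = x' ∧ y = y' :=
  pt_inj m x y x' y' (congrArg Subtype.val h)

section
variable [Fintype F] {m : ℕ} (hF : Fintype.card F = 2 ^ (2 * m + 1))
include hF

/-- generators as elements of the Suzuki group -/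
def TgG (a b : F) : ↥(Cfsg.Sz F m) := ⟨Tg m a b, Tg_mem hF a b⟩
def WgG : ↥(Cfsg.Sz F m) := ⟨Wg, Wg_mem hF⟩
def DgG (α : Fˣ) : ↥(Cfsg.Sz F m) := ⟨Dg m α, Dg_mem hF α⟩

theorem TgG_inf (a b : F) : TgG hF a b • infΩ F m = infΩ F m :=
  Subtype.ext (Tg_inf hF a b)

theorem TgG_pt (a b x y : F) :
    TgG hF a b • ptΩ m x y = ptΩ m (x + a) (y + b + a ^ (2 ^ (m + 1)) * x) :=
  Subtype.ext (Tg_pt hF a b x y)

theorem TgG_zero_pt (a b : F) : TgG hF a b • ptΩ m (0 : F) 0 = ptΩ m a b :=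
  Subtype.ext (Tg_zero_pt hF a b)

theorem WgG_inf : WgG hF • infΩ F m = ptΩ m 0 0 := Subtype.ext (Wg_inf hF)

theorem WgG_zero : WgG hF • ptΩ m (0 : F) 0 = infΩ F m := Subtype.ext (Wg_zero hF)

theorem DgG_inf (α : Fˣ) : DgG hF α • infΩ F m = infΩ F m := Subtype.ext (Dg_inf hF α)

theorem DgG_pt (α : Fˣ) (x y : F) :
    DgG hF α • ptΩ m x y = ptΩ m ((α : F) * x) ((α : F) ^ (2 ^ (m + 1) + 1) * y) :=
  Subtype.ext (Dg_pt hF α x y)

theorem DgG_zero_pt (α : Fˣ) : DgG hF α • ptΩ m (0 : F) 0 = ptΩ m 0 0 :=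
  Subtype.ext (Dg_zero_pt hF α)

/-- any two distinct points can be moved to the standard pair -/
theorem move_to_std (a b : ↥(Cfsg.suzukiOvoid F m)) (hab : a ≠ b) :
    ∃ g : ↥(Cfsg.Sz F m), g • a = infΩ F m ∧ g • b = ptΩ m 0 0 := by
  obtain ⟨g₀, hg₀⟩ : ∃ g₀ : ↥(Cfsg.Sz F m), g₀ • a = infΩ F m := by
    rcases Ω_cases m a with rfl | ⟨x, y, rfl⟩
    · exact ⟨1, one_smul _ _⟩
    · refine ⟨WgG hF * (TgG hF x y)⁻¹, ?_⟩
      rw [mul_smul, ← TgG_zero_pt hF x y, inv_smul_smul, WgG_zero hF]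
  have hb : g₀ • b ≠ infΩ F m := by
    intro h
    rw [← hg₀] at h
    exact hab (MulAction.injective g₀ h).symm
  rcases Ω_cases m (g₀ • b) with h | ⟨u, v, h⟩
  · exact absurd h hb
  · refine ⟨(TgG hF u v)⁻¹ * g₀, ?_, ?_⟩
    · rw [mul_smul, hg₀, inv_smul_eq_iff, TgG_inf hF]
    · rw [mul_smul, h, inv_smul_eq_iff, TgG_zero_pt hF]

theorem Sz_two_trans : MulAction.IsMultiplyPretransitive ↥(Cfsg.Sz F m) ↥(Cfsg.suzukiOvoid F m) 2 := by
  rw [MulAction.is_two_pretransitive_iff]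
  intro a b c d hab hcd
  obtain ⟨g₁, h1, h2⟩ := move_to_std hF a b hab
  obtain ⟨g₂, h3, h4⟩ := move_to_std hF c d hcd
  refine ⟨g₂⁻¹ * g₁, ?_, ?_⟩
  · rw [mul_smul, h1, inv_smul_eq_iff, h3]
  · rw [mul_smul, h2, inv_smul_eq_iff, h4]

/-- elements fixing the two standard points are torus elements -/
theorem two_pt_G (hm : 1 ≤ m) (g : ↥(Cfsg.Sz F m)) (h1 : g • infΩ F m = infΩ F m)
    (h2 : g • ptΩ m (0 : F) 0 = ptΩ m 0 0) : ∃ α : Fˣ, g = DgG hF α := by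
  obtain ⟨g, hg⟩ := g
  have h1' : g • Cfsg.suzukiPointInfinity F = Cfsg.suzukiPointInfinity F := congrArg Subtype.val h1
  have h2' : g • pt m (0 : F) 0 = pt m 0 0 := congrArg Subtype.val h2
  obtain ⟨α, hα⟩ := two_pt_entries hF hm g hg h1' h2'
  exact ⟨α, Subtype.ext hα⟩

/-- a torus element fixing a further affine point is trivial -/
theorem Dg_fix_pt (α : Fˣ) (x y : F) (hxy : ¬ (x = 0 ∧ y = 0))
    (h : DgG hF α • ptΩ m x y = ptΩ m x y) : α = 1 := by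
  obtain ⟨h2, hadd, hsq⟩ := field_facts hF
  rw [DgG_pt hF] at h
  obtain ⟨e1, e2⟩ := ptΩ_inj m _ _ _ _ h
  by_cases hx : x = 0
  · have hy : y ≠ 0 := fun hy => hxy ⟨hx, hy⟩
    have : (α : F) ^ (2 ^ (m + 1) + 1) = 1 := by
      have : ((α : F) ^ (2 ^ (m + 1) + 1) - 1) * y = 0 := by linear_combination e2
      rcases mul_eq_zero.mp this with h' | h'
      · linear_combination h'
      · exact absurd h' hy
    have h1 : (α : F) = 1 := by
      apply pow_succ_sigma_injective (2 ^ (m + 1)) (by positivity) h2 hadd hsq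
      simp only [one_pow]
      exact this
    exact Units.ext h1
  · have : ((α : F) - 1) * x = 0 := by linear_combination e1
    rcases mul_eq_zero.mp this with h' | h'
    · exact Units.ext (by rw [Units.val_one]; linear_combination h')
    · exact absurd h' hx

theorem DgG_one : DgG hF (1 : Fˣ) = 1 := Subtype.ext (Dg_one m)

theorem Sz_three_pt (hm : 1 ≤ m) (g : ↥(Cfsg.Sz F m)) (a b c : ↥(Cfsg.suzukiOvoid F m))
    (hab : a ≠ b) (hbc : b ≠ c) (hac : a ≠ c) (ha : g • a = a) (hb : g • b = b) (hc : g • c = c) :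
    g = 1 := by
  obtain ⟨h, h1, h2⟩ := move_to_std hF a b hab
  have f1 : (h * g * h⁻¹) • infΩ F m = infΩ F m := by
    rw [← h1, mul_smul, inv_smul_smul, mul_smul, ha]
  have f2 : (h * g * h⁻¹) • ptΩ m (0 : F) 0 = ptΩ m 0 0 := by
    rw [← h2, mul_smul, inv_smul_smul, mul_smul, hb]
  have f3 : (h * g * h⁻¹) • (h • c) = h • c := by
    rw [mul_smul, inv_smul_smul, mul_smul, hc]
  obtain ⟨α, hα⟩ := two_pt_G hF hm _ f1 f2
  have hc1 : h • c ≠ infΩ F m := by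
    rw [← h1]; intro e; exact hac (MulAction.injective h e).symm
  have hc2 : h • c ≠ ptΩ m 0 0 := by
    rw [← h2]; intro e; exact hbc (MulAction.injective h e).symm
  rcases Ω_cases m (h • c) with e | ⟨x, y, e⟩
  · exact absurd e hc1
  · rw [e, hα] at f3
    have hxy : ¬ (x = 0 ∧ y = 0) := by
      rintro ⟨rfl, rfl⟩
      exact hc2 e
    have := Dg_fix_pt hF α x y hxy f3
    rw [this, DgG_one hF] at hα
    have : g = h⁻¹ * (h * g * h⁻¹) * h := by group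
    rw [this, hα]; group

end

section
variable [Fintype F] {m : ℕ} (hF : Fintype.card F = 2 ^ (2 * m + 1))
include hF

theorem exists_unit_ne_one (hm : 1 ≤ m) : ∃ α : Fˣ, α ≠ 1 := by
  by_contra hcon
  push Not at hcon
  have h1 : Nat.card Fˣ ≤ 1 := by
    haveI : Subsingleton Fˣ := ⟨fun a b => by rw [hcon a, hcon b]⟩
    exact Finite.card_le_one_iff_subsingleton.mpr inferInstance
  rw [card_units hF] at h1
  have : 2 ^ 3 ≤ 2 ^ (2 * m + 1) := Nat.pow_le_pow_right (by norm_num) (by omega)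
  omega

theorem Sz_faithful (hm : 1 ≤ m) : FaithfulSMul ↥(Cfsg.Sz F m) ↥(Cfsg.suzukiOvoid F m) := by
  constructor
  intro g₁ g₂ h
  have hfix : ∀ ω : ↥(Cfsg.suzukiOvoid F m), (g₂⁻¹ * g₁) • ω = ω := by
    intro ω
    rw [mul_smul, h ω, inv_smul_smul]
  have h01 : ptΩ m (0 : F) 0 ≠ ptΩ m 1 0 := by
    intro e
    exact zero_ne_one (ptΩ_inj m _ _ _ _ e).1
  have := Sz_three_pt hF hm (g₂⁻¹ * g₁) (infΩ F m) (ptΩ m 0 0) (ptΩ m 1 0)
    (ptΩ_ne_inf m 0 0).symm h01 (ptΩ_ne_inf m 1 0).symm (hfix _) (hfix _) (hfix _)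
  have e : g₁ = g₂ * (g₂⁻¹ * g₁) := by group
  rw [e, this, mul_one]

theorem Sz_two_fixed (hm : 1 ≤ m) :
    ∃ g : ↥(Cfsg.Sz F m), g ≠ 1 ∧ ∃ a b : ↥(Cfsg.suzukiOvoid F m), a ≠ b ∧ g • a = a ∧ g • b = b := by
  obtain ⟨α, hα⟩ := exists_unit_ne_one hF hm
  refine ⟨DgG hF α, ?_, infΩ F m, ptΩ m 0 0, (ptΩ_ne_inf m 0 0).symm, DgG_inf hF α,
    DgG_zero_pt hF α⟩
  intro h
  apply hα
  apply Dg_injective m
  rw [Dg_one]
  exact congrArg Subtype.val h

theorem Sz_no_regular (hm : 1 ≤ m) (N : Subgroup ↥(Cfsg.Sz F m)) (hN : N.Normal)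
    (htr : MulAction.IsPretransitive N ↥(Cfsg.suzukiOvoid F m)) :
    ∃ a : ↥(Cfsg.suzukiOvoid F m), MulAction.stabilizer N a ≠ ⊥ := by
  by_contra hcon
  push Not at hcon
  have hstab : ∀ (k : ↥(Cfsg.Sz F m)) (hk : k ∈ N), k • infΩ F m = infΩ F m → k = 1 := by
    intro k hk hfix
    have : (⟨k, hk⟩ : N) ∈ MulAction.stabilizer N (infΩ F m) := hfix
    rw [hcon] at this
    exact congrArg Subtype.val (Subgroup.mem_bot.mp this)
  obtain ⟨⟨n, hn⟩, hn1⟩ := htr.exists_smul_eq (infΩ F m) (ptΩ m 0 0)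
  have hn1' : n • infΩ F m = ptΩ m 0 0 := hn1
  obtain ⟨α, hα⟩ := exists_unit_ne_one hF hm
  obtain ⟨h, hh⟩ : ∃ h, h = DgG hF α := ⟨_, rfl⟩
  have hinf : h • infΩ F m = infΩ F m := by rw [hh]; exact DgG_inf hF α
  have hzero : h • ptΩ m (0 : F) 0 = ptΩ m 0 0 := by rw [hh]; exact DgG_zero_pt hF α
  have hcomm : h * n = n * h := by
    have hmem : n⁻¹ * (h * n * h⁻¹) ∈ N := N.mul_mem (N.inv_mem hn) (hN.conj_mem n hn h)
    have hfix : (n⁻¹ * (h * n * h⁻¹)) • infΩ F m = infΩ F m := by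
      rw [mul_smul, inv_smul_eq_iff, hn1', mul_smul, mul_smul, inv_smul_eq_iff.mpr hinf.symm,
        hn1', hzero]
    have := hstab _ hmem hfix
    calc h * n = n * (n⁻¹ * (h * n * h⁻¹)) * h := by group
      _ = n * h := by rw [this, mul_one]
  have hω : h • (n • ptΩ m (0 : F) 0) = n • ptΩ m (0 : F) 0 := by
    rw [← mul_smul, hcomm, mul_smul, hzero]
  have hω' : n • ptΩ m (0 : F) 0 = infΩ F m := by
    rcases Ω_cases m (n • ptΩ m (0 : F) 0) with e | ⟨x, y, e⟩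
    · exact e
    · exfalso
      rw [e, hh] at hω
      by_cases hxy : x = 0 ∧ y = 0
      · obtain ⟨rfl, rfl⟩ := hxy
        exact ptΩ_ne_inf m 0 0 (MulAction.injective n (e.trans hn1'.symm))
      · exact hα (Dg_fix_pt hF α x y hxy hω)
  have hn2 : n * n = 1 := by
    apply hstab _ (N.mul_mem hn hn)
    rw [mul_smul, hn1', hω']
  have hn_ne : n ≠ 1 := by
    rintro rfl
    rw [one_smul] at hn1'
    exact ptΩ_ne_inf m 0 0 hn1'.symm
  haveI : Fact (Nat.Prime 2) := ⟨Nat.prime_two⟩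
  have h2 : 2 ∣ Nat.card N := by
    have : orderOf (⟨n, hn⟩ : N) = 2 := by
      apply orderOf_eq_prime
      · apply Subtype.ext
        rw [sq]
        exact hn2
      · intro h'
        exact hn_ne (congrArg Subtype.val h')
    rw [← this]
    exact orderOf_dvd_natCard _
  have hcard : Nat.card N = Nat.card ↥(Cfsg.suzukiOvoid F m) := by
    rw [← MulAction.index_stabilizer_of_transitive N (infΩ F m), hcon, Subgroup.index_bot]
  rw [hcard, Nat.card_coe_set_eq, ovoid_ncard, Nat.card_eq_fintype_card, hF] at h2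
  have : 2 ∣ 2 ^ (2 * m + 1) * 2 ^ (2 * m + 1) :=
    Dvd.dvd.mul_right (dvd_pow_self 2 (by omega)) _
  omega

theorem S0327_main (hm : 1 ≤ m) :
    Cfsg.IsZassenhausGroup (Cfsg.Sz F m) (Cfsg.suzukiOvoid F m) :=
  ⟨Sz_faithful hF hm, Sz_two_trans hF,
    fun g a b c hab hbc hac ha hb hc => Sz_three_pt hF hm g a b c hab hbc hac ha hb hc,
    Sz_two_fixed hF hm, fun N hN htr => Sz_no_regular hF hm N hN htr⟩

end

end Cfsg.Agent.Lib.Helper4_SzZass
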