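import Mathlib
import Cfsg.Prelude.Def_LieExceptional
import Cfsg.Agent.Lib.Helper4_SzOvoid
import Cfsg.Agent.Lib.Helper4_SzGroup
import Cfsg.Agent.Lib.Helper4_SzSylow
import Cfsg.Agent.Lib.Helper4_SzReal
import Cfsg.Agent.Lib.Helper4_SzZass

set_option linter.all false
set_option autoImplicit false

namespace Cfsg.Agent.Lib.Helper4_SzSimple
open Cfsg.Agent.Lib.Helper4_SzOvoid Cfsg.Agent.Lib.Helper4_SzGroup Cfsg.Agent.Lib.Helper4_SzSylow
  Cfsg.Agent.Lib.Helper4_SzReal Cfsg.Agent.Lib.Helper4_SzZass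
open scoped Pointwise

variable {F : Type*} [Field F]

theorem Wm_mul_self : (Wm : Matrix (Fin 4) (Fin 4) F) * Wm = 1 := by
  ext i j
  fin_cases i <;> fin_cases j <;> simp [Wm, Matrix.mul_apply, Fin.sum_univ_four]

theorem Wg_mul_self : (Wg : Matrix.SpecialLinearGroup (Fin 4) F) * Wg = 1 := by
  apply Subtype.ext
  exact Wm_mul_self

section
variable [Fintype F] {m : ℕ} (hF : Fintype.card F = 2 ^ (2 * m + 1))
include hF

theorem WgG_mul_self : WgG hF * WgG hF = 1 := Subtype.ext Wg_mul_self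

theorem WgG_inv : (WgG hF)⁻¹ = WgG hF := inv_eq_of_mul_eq_one_left (WgG_mul_self hF)

theorem TgG_mul (a b c d : F) :
    TgG hF a b * TgG hF c d = TgG hF (a + c) (b + d + a ^ (2 ^ (m + 1)) * c) :=
  Subtype.ext (Tg_mul hF a b c d)

theorem TgG_inv (a b : F) : (TgG hF a b)⁻¹ = TgG hF a (b + a ^ (2 ^ (m + 1) + 1)) :=
  Subtype.ext (Tg_inv hF a b)

theorem TgG_zero : TgG hF (0 : F) 0 = 1 := Subtype.ext (Tg_zero m)

theorem DgG_mul (α β : Fˣ) : DgG hF (α * β) = DgG hF α * DgG hF β := Subtype.ext (Dg_mul m α β)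

/-- equality of group elements can be checked on the ovoid -/
theorem G_ext (hm : 1 ≤ m) (g₁ g₂ : ↥(Cfsg.Sz F m))
    (hinf : g₁ • infΩ F m = g₂ • infΩ F m)
    (hpt : ∀ x y : F, g₁ • ptΩ m x y = g₂ • ptΩ m x y) : g₁ = g₂ := by
  haveI := Sz_faithful hF hm
  apply FaithfulSMul.eq_of_smul_eq_smul (α := ↥(Cfsg.suzukiOvoid F m))
  intro ω
  rcases Ω_cases m ω with rfl | ⟨x, y, rfl⟩
  · exact hinf
  · exact hpt x y

theorem DT_comm (hm : 1 ≤ m) (α : Fˣ) (c d : F) :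
    DgG hF α * TgG hF c d =
      TgG hF ((α : F) * c) ((α : F) ^ (2 ^ (m + 1) + 1) * d) * DgG hF α := by
  apply G_ext hF hm
  · rw [mul_smul, mul_smul, TgG_inf hF, DgG_inf hF, TgG_inf hF]
  · intro x y
    rw [mul_smul, mul_smul, TgG_pt hF, DgG_pt hF, DgG_pt hF, TgG_pt hF]
    congr 1
    · ring
    · rw [mul_pow]; ring

/-- `(r+1)`-th powers are injective -/
theorem pow_r_succ_injective (x y : F) (h : x ^ (2 ^ m + 1) = y ^ (2 ^ m + 1)) : x = y := by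
  obtain ⟨h2, hadd, hsq⟩ := field_facts hF
  have key : ∀ t : F, (t ^ (2 ^ m + 1)) ^ (2 ^ (m + 1)) = t ^ (2 ^ (m + 1) + 1) := by
    intro t
    have e : (2 ^ m + 1) * 2 ^ (m + 1) = Fintype.card F + 2 ^ (m + 1) := by
      rw [hF]; ring
    rw [← pow_mul, e, pow_add, FiniteField.pow_card, pow_succ]; ring
  apply pow_succ_sigma_injective (2 ^ (m + 1)) (by positivity) h2 hadd hsq
  show x ^ (2 ^ (m + 1) + 1) = y ^ (2 ^ (m + 1) + 1)
  rw [← key x, ← key y, h]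

theorem exists_unit_sq (β : Fˣ) : ∃ u : Fˣ, u ^ 2 = β := by
  refine ⟨β ^ (2 ^ (2 * m)), ?_⟩
  apply Units.ext
  rw [Units.val_pow_eq_pow_val, Units.val_pow_eq_pow_val, ← pow_mul]
  have : 2 ^ (2 * m) * 2 = Fintype.card F := by rw [hF]; ring
  rw [this, FiniteField.pow_card]

end

section
variable [Fintype F] {m : ℕ} (hF : Fintype.card F = 2 ^ (2 * m + 1))
include hF

theorem fz_zero_left (b : F) : fz (2 ^ (m + 1)) 0 b = b ^ (2 ^ (m + 1)) := by
  unfold fz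
  rw [zero_pow (by positivity)]; ring

theorem fz_zero_right (u : F) : fz (2 ^ (m + 1)) u 0 = u ^ (2 ^ (m + 1) + 2) := by
  unfold fz
  rw [zero_pow (by positivity)]; ring

/-- the key relation producing torus elements from unipotent elements and `W` -/
theorem nW_eq (hm : 1 ≤ m) (u : Fˣ) :
    (TgG hF (u : F) 0)⁻¹ * WgG hF * TgG hF 0 (((u : F) ^ (2 ^ (m + 1) + 1))⁻¹) * WgG hF *
      TgG hF (u : F) 0 * WgG hF = DgG hF (u ^ 2) := by
  obtain ⟨h2, hadd, hsq⟩ := field_facts hF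
  have hu : (u : F) ≠ 0 := u.ne_zero
  have hσ0 : (0 : F) ^ (2 ^ (m + 1)) = 0 := zero_pow (by positivity)
  obtain ⟨b, hb⟩ : ∃ b : F, b = ((u : F) ^ (2 ^ (m + 1) + 1))⁻¹ := ⟨_, rfl⟩
  rw [← hb]
  have hb0 : b ≠ 0 := by rw [hb]; exact inv_ne_zero (pow_ne_zero _ hu)
  have hbu : b * (u : F) ^ (2 ^ (m + 1) + 1) = 1 := by
    rw [hb]; exact inv_mul_cancel₀ (pow_ne_zero _ hu)
  have hbσ : b ^ (2 ^ (m + 1)) * ((u : F) ^ 2 * (u : F) ^ (2 ^ (m + 1))) = 1 := by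
    have e : (b * (u : F) ^ (2 ^ (m + 1) + 1)) ^ (2 ^ (m + 1)) = 1 := by rw [hbu, one_pow]
    rw [mul_pow, pow_succ (u : F) (2 ^ (m + 1)), mul_pow, hsq] at e
    linear_combination e
  obtain ⟨g, hg⟩ : ∃ g, g = (TgG hF (u : F) 0)⁻¹ * WgG hF * TgG hF 0 b * WgG hF *
      TgG hF (u : F) 0 * WgG hF := ⟨_, rfl⟩
  rw [← hg]
  -- g fixes ∞
  have g_inf : g • infΩ F m = infΩ F m := by
    have hf : fz (2 ^ (m + 1)) (u : F) 0 ≠ 0 := by
      rw [fz_zero_right hF]; exact pow_ne_zero _ hu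
    have e1' : (Wg : Matrix.SpecialLinearGroup (Fin 4) F) • pt m (u : F) 0 = pt m 0 b := by
      rw [Wg_pt hF _ _ hf, fz_zero_right hF]
      congr 1
      · simp
      · rw [hb]; field_simp; ring
    have e1 : WgG hF • ptΩ m (u : F) 0 = ptΩ m 0 b := Subtype.ext e1'
    rw [hg, mul_smul, mul_smul, mul_smul, mul_smul, mul_smul, WgG_inf hF, TgG_zero_pt hF, e1,
      TgG_pt hF, inv_smul_eq_iff, TgG_inf hF]
    have : ptΩ m ((0 : F) + 0) (b + b + (0 : F) ^ 2 ^ (m + 1) * 0) = ptΩ m 0 0 := by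
      congr 1
      · ring
      · rw [hσ0]; linear_combination b * h2
    rw [this, WgG_zero hF]
  -- g fixes pt 0 0
  have g_zero : g • ptΩ m (0 : F) 0 = ptΩ m 0 0 := by
    have hf : fz (2 ^ (m + 1)) (0 : F) b ≠ 0 := by
      rw [fz_zero_left hF]; exact pow_ne_zero _ hb0
    have e1 : WgG hF • ptΩ m (0 : F) b = ptΩ m (u : F) 0 := by
      apply Subtype.ext
      show (Wg : Matrix.SpecialLinearGroup (Fin 4) F) • pt m (0 : F) b = pt m (u : F) 0
      rw [Wg_pt hF _ _ hf, fz_zero_left hF]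
      congr 1
      · have hbσ0 : b ^ (2 ^ (m + 1)) ≠ 0 := pow_ne_zero _ hb0
        rw [div_eq_iff hbσ0]
        calc b = b * (b ^ (2 ^ (m + 1)) * ((u : F) ^ 2 * (u : F) ^ (2 ^ (m + 1)))) := by
              rw [hbσ, mul_one]
          _ = (u : F) * b ^ (2 ^ (m + 1)) * (b * (u : F) ^ (2 ^ (m + 1) + 1)) := by ring
          _ = (u : F) * b ^ (2 ^ (m + 1)) := by rw [hbu, mul_one]
      · simp
    rw [hg, mul_smul, mul_smul, mul_smul, mul_smul, mul_smul, WgG_zero hF, TgG_inf hF, WgG_inf hF,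
      TgG_zero_pt hF, e1, inv_smul_eq_iff, TgG_zero_pt hF]
  obtain ⟨α, hα⟩ := two_pt_G hF hm g g_inf g_zero
  -- compute the (3,3) entry
  have hmat : ((g : Matrix.SpecialLinearGroup (Fin 4) F) : Matrix (Fin 4) (Fin 4) F) =
      Tm m (u : F) (0 + (u : F) ^ (2 ^ (m + 1) + 1)) * Wm * Tm m 0 b * Wm * Tm m (u : F) 0 * Wm := by
    rw [hg, TgG_inv hF]; rfl
  have hP0 : Pv m (0 : F) 0 = ![0, 0, 0, 1] := by
    rw [Pv, hσ0, zero_pow (by positivity)]; simp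
  have W_P0 : (Wm : Matrix (Fin 4) (Fin 4) F).mulVec (Pv m 0 0) = e0v := by
    rw [Wm_mulVec_Pv hF, fz_zero_left hF, hσ0]; rfl
  have T_P0 : (Tm m 0 b).mulVec (Pv m 0 0) = Pv m 0 b := by
    rw [Tm_mulVec_Pv hF, hσ0]
    congr 1 <;> ring
  have hvec : (((g : Matrix.SpecialLinearGroup (Fin 4) F) : Matrix (Fin 4) (Fin 4) F).mulVec
      (Pv m 0 0)) 3 = b ^ (2 ^ (m + 1)) := by
    rw [hmat]
    simp only [← Matrix.mulVec_mulVec]
    rw [W_P0, Tm_mulVec_e0 hF, Wm_mulVec_e0 hF, T_P0, Wm_mulVec_Pv hF, fz_zero_left hF, mulVec_four]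
    simp [Tm]
  have hvec2 : (((g : Matrix.SpecialLinearGroup (Fin 4) F) : Matrix (Fin 4) (Fin 4) F).mulVec
      (Pv m 0 0)) 3 = ((α⁻¹ : Fˣ) : F) ^ (2 ^ m + 1) := by
    rw [hα]
    show ((Dm m α).mulVec (Pv m 0 0)) 3 = _
    rw [Dm_mulVec_Pv hF, Pi.smul_apply, Pv_3, smul_eq_mul, mul_one]
  have h3 : (((α⁻¹ : Fˣ) : F) * (u : F) ^ 2) ^ (2 ^ m + 1) = (1 : F) ^ (2 ^ m + 1) := by
    rw [mul_pow, ← hvec2, hvec, one_pow, ← hbσ]
    have : 2 ^ (m + 1) = 2 ^ m * 2 := pow_succ 2 m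
    rw [this]
    ring
  have h4 := pow_r_succ_injective hF _ _ h3
  rw [hα]
  congr 1
  apply Units.ext
  rw [Units.val_pow_eq_pow_val]
  have h5 : (α : F) * ((α⁻¹ : Fˣ) : F) = 1 := by rw [← Units.val_mul, mul_inv_cancel]; rfl
  calc (α : F) = (α : F) * (((α⁻¹ : Fˣ) : F) * (u : F) ^ 2) := by rw [h4, mul_one]
    _ = ((α : F) * ((α⁻¹ : Fˣ) : F)) * (u : F) ^ 2 := by ring
    _ = (u : F) ^ 2 := by rw [h5, one_mul]

end

section
variable [Fintype F] {m : ℕ} (hF : Fintype.card F = 2 ^ (2 * m + 1))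
include hF

theorem stab_inf_G (hm : 1 ≤ m) (g : ↥(Cfsg.Sz F m)) (h : g • infΩ F m = infΩ F m) :
    ∃ (a b : F) (α : Fˣ), g = TgG hF a b * DgG hF α := by
  obtain ⟨g, hg⟩ := g
  obtain ⟨a, b, α, e⟩ := stab_inf_decomp hF hm g hg (congrArg Subtype.val h)
  exact ⟨a, b, α, Subtype.ext e⟩

/-- the Suzuki group is generated by `T`, `W` and `D` -/
theorem Sz_gen (hm : 1 ≤ m) (M : Subgroup ↥(Cfsg.Sz F m)) (hT : ∀ a b, TgG hF a b ∈ M)
    (hW : WgG hF ∈ M) (hD : ∀ α, DgG hF α ∈ M) : M = ⊤ := by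
  have key : ∀ g : ↥(Cfsg.Sz F m), g • infΩ F m = infΩ F m → g ∈ M := by
    intro g h
    obtain ⟨a, b, α, rfl⟩ := stab_inf_G hF hm g h
    exact M.mul_mem (hT a b) (hD α)
  rw [eq_top_iff]
  intro g _
  rcases Ω_cases m (g • infΩ F m) with h | ⟨x, y, h⟩
  · exact key g h
  · have h3 : (WgG hF * (TgG hF x y)⁻¹ * g) • infΩ F m = infΩ F m := by
      rw [mul_smul, mul_smul, h, ← TgG_zero_pt hF x y, inv_smul_smul, WgG_zero hF]
    have h4 := key _ h3
    have h5 : g = TgG hF x y * ((WgG hF)⁻¹ * (WgG hF * (TgG hF x y)⁻¹ * g)) := by group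
    rw [h5]
    exact M.mul_mem (hT x y) (M.mul_mem (M.inv_mem hW) h4)

theorem pow_sigma_succ_surj (t : F) : ∃ a : F, a ^ (2 ^ (m + 1) + 1) = t := by
  obtain ⟨h2, hadd, hsq⟩ := field_facts hF
  exact Finite.injective_iff_surjective.mp
    (pow_succ_sigma_injective (2 ^ (m + 1)) (by positivity) h2 hadd hsq) t

/-- Claim A' -/
theorem claimA (hm : 1 ≤ m) (N : Subgroup ↥(Cfsg.Sz F m)) (hN : N.Normal) (c d : F) (α : Fˣ)
    (hα : α ≠ 1) (hx : TgG hF c d * DgG hF α ∈ N) : ∀ a b, TgG hF a b ∈ N := by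
  obtain ⟨h2, hadd, hsq⟩ := field_facts hF
  have hσ0 : (0 : F) ^ (2 ^ (m + 1)) = 0 := zero_pow (by positivity)
  have hα1 : (α : F) + 1 ≠ 0 := by
    intro h
    apply hα
    apply Units.ext
    rw [Units.val_one]
    linear_combination h - h2
  -- step 1: elements with arbitrary first coordinate
  have step1 : ∀ e : F, ∃ s : F, TgG hF e s ∈ N := by
    intro e
    obtain ⟨a, ha⟩ : ∃ a : F, ((α : F) + 1) * a = e := ⟨e / ((α : F) + 1), by field_simp⟩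
    obtain ⟨x, hxdef⟩ : ∃ x, x = TgG hF c d * DgG hF α := ⟨_, rfl⟩
    rw [← hxdef] at hx
    have hy : x * (TgG hF a 0 * x⁻¹ * (TgG hF a 0)⁻¹) ∈ N :=
      N.mul_mem hx (hN.conj_mem _ (N.inv_mem hx) _)
    have e1 : x * TgG hF a 0 = TgG hF c d * TgG hF ((α : F) * a) ((α : F) ^ (2 ^ (m + 1) + 1) * 0) *
        DgG hF α := by
      rw [hxdef, mul_assoc, DT_comm hF hm, mul_assoc]
    have e2 : x * (TgG hF a 0 * x⁻¹ * (TgG hF a 0)⁻¹) =
        TgG hF c d * TgG hF ((α : F) * a) ((α : F) ^ (2 ^ (m + 1) + 1) * 0) * (TgG hF c d)⁻¹ *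
          (TgG hF a 0)⁻¹ := by
      calc x * (TgG hF a 0 * x⁻¹ * (TgG hF a 0)⁻¹) = (x * TgG hF a 0) * x⁻¹ * (TgG hF a 0)⁻¹ := by
            group
        _ = _ := by rw [e1, hxdef]; group
    rw [e2, TgG_inv hF, TgG_inv hF, TgG_mul hF, TgG_mul hF, TgG_mul hF] at hy
    have hfirst : c + (α : F) * a + c + a = e := by
      rw [← ha]; linear_combination c * h2
    rw [hfirst] at hy
    exact ⟨_, hy⟩
  -- step 2: the centre
  have step2 : ∀ t : F, TgG hF 0 t ∈ N := by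
    intro t
    obtain ⟨e, he⟩ := pow_sigma_succ_surj hF t
    obtain ⟨s, hs⟩ := step1 e
    have := N.mul_mem hs hs
    rw [TgG_mul hF] at this
    have e1 : e + e = 0 := by linear_combination e * h2
    have e2 : s + s + e ^ 2 ^ (m + 1) * e = t := by
      rw [← he, pow_succ]; linear_combination s * h2
    rw [e1, e2] at this
    exact this
  intro a b
  obtain ⟨s, hs⟩ := step1 a
  have := N.mul_mem hs (step2 (b + s))
  rw [TgG_mul hF] at this
  have e1 : a + 0 = a := add_zero a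
  have e2 : s + (b + s) + a ^ 2 ^ (m + 1) * 0 = b := by linear_combination s * h2
  rw [e1, e2] at this
  exact this

/-- Claim C -/
theorem claimC (hm : 1 ≤ m) (N : Subgroup ↥(Cfsg.Sz F m)) (hN : N.Normal)
    (hZ : ∀ t : F, TgG hF 0 t ∈ N) : (∀ β : Fˣ, DgG hF β ∈ N) ∧ WgG hF ∈ N := by
  have hn : ∀ u : Fˣ, (TgG hF (u : F) 0)⁻¹ * WgG hF *
      TgG hF 0 (((u : F) ^ (2 ^ (m + 1) + 1))⁻¹) * WgG hF * TgG hF (u : F) 0 ∈ N := by
    intro u
    have h1 : WgG hF * TgG hF 0 (((u : F) ^ (2 ^ (m + 1) + 1))⁻¹) * (WgG hF)⁻¹ ∈ N :=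
      hN.conj_mem _ (hZ _) _
    rw [WgG_inv hF] at h1
    have h2 := hN.conj_mem _ h1 (TgG hF (u : F) 0)⁻¹
    rw [inv_inv] at h2
    have e : (TgG hF (u : F) 0)⁻¹ * (WgG hF * TgG hF 0 (((u : F) ^ (2 ^ (m + 1) + 1))⁻¹) * WgG hF) *
        TgG hF (u : F) 0 = (TgG hF (u : F) 0)⁻¹ * WgG hF *
      TgG hF 0 (((u : F) ^ (2 ^ (m + 1) + 1))⁻¹) * WgG hF * TgG hF (u : F) 0 := by group
    rw [← e]
    exact h2
  have hW : WgG hF ∈ N := by
    have h1 := nW_eq hF hm 1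
    rw [one_pow, DgG_one hF] at h1
    have := N.inv_mem (hn 1)
    rw [← eq_inv_of_mul_eq_one_right h1] at this
    exact this
  refine ⟨?_, hW⟩
  intro β
  obtain ⟨u, hu⟩ := exists_unit_sq hF β
  rw [← hu, ← nW_eq hF hm u]
  exact N.mul_mem (hn u) hW

theorem Sz_simple (hm : 1 ≤ m) : IsSimpleGroup ↥(Cfsg.Sz F m) := by
  obtain ⟨h2, hadd, hsq⟩ := field_facts hF
  haveI hfaith := Sz_faithful hF hm
  haveI h2t := Sz_two_trans hF
  haveI htG : MulAction.IsPretransitive ↥(Cfsg.Sz F m) ↥(Cfsg.suzukiOvoid F m) :=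
    MulAction.isPretransitive_of_is_two_pretransitive
  have hσ0 : (0 : F) ^ (2 ^ (m + 1)) = 0 := zero_pow (by positivity)
  obtain ⟨g₀, hg₀, -⟩ := Sz_two_fixed hF hm
  haveI : Nontrivial ↥(Cfsg.Sz F m) := ⟨⟨g₀, 1, hg₀⟩⟩
  refine ⟨fun N hN => ?_⟩
  by_cases hbot : N = ⊥
  · left; exact hbot
  right
  -- N is transitive
  have htr : MulAction.IsPretransitive N ↥(Cfsg.suzukiOvoid F m) := by
    obtain ⟨⟨n, hn⟩, hn1⟩ := (Subgroup.ne_bot_iff_exists_ne_one).mp hbot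
    have hn1' : n ≠ 1 := fun h => hn1 (Subtype.ext h)
    obtain ⟨a, ha⟩ : ∃ a : ↥(Cfsg.suzukiOvoid F m), n • a ≠ a := by
      by_contra hcon
      push Not at hcon
      apply hn1'
      apply FaithfulSMul.eq_of_smul_eq_smul (α := ↥(Cfsg.suzukiOvoid F m))
      intro ω
      rw [hcon ω, one_smul]
    constructor
    intro c d
    by_cases hcd : c = d
    · exact ⟨1, by rw [one_smul, hcd]⟩
    · obtain ⟨g, hg1, hg2⟩ := (MulAction.is_two_pretransitive_iff.mp h2t) (Ne.symm ha) hcd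
      refine ⟨⟨g * n * g⁻¹, hN.conj_mem n hn g⟩, ?_⟩
      show (g * n * g⁻¹) • c = d
      rw [← hg1, mul_smul, inv_smul_smul, mul_smul, hg2]
  -- a nontrivial element of N fixing ∞
  obtain ⟨a, ha⟩ := Sz_no_regular hF hm N hN htr
  obtain ⟨⟨⟨x', hx'N⟩, hx'fix⟩, hx'1⟩ := (Subgroup.ne_bot_iff_exists_ne_one).mp ha
  have hx'fix' : x' • a = a := hx'fix
  have hx'ne : x' ≠ 1 := fun h => hx'1 (Subtype.ext (Subtype.ext h))
  obtain ⟨g, hg⟩ := MulAction.exists_smul_eq ↥(Cfsg.Sz F m) a (infΩ F m)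
  obtain ⟨x, hxdef⟩ : ∃ x, x = g * x' * g⁻¹ := ⟨_, rfl⟩
  have hxN : x ∈ N := by rw [hxdef]; exact hN.conj_mem x' hx'N g
  have hxfix : x • infΩ F m = infΩ F m := by
    rw [hxdef, ← hg, mul_smul, inv_smul_smul, mul_smul, hx'fix']
  have hxne : x ≠ 1 := by
    intro h
    apply hx'ne
    have : x' = g⁻¹ * x * g := by rw [hxdef]; group
    rw [this, h]; group
  obtain ⟨c, d, α, hcd⟩ := stab_inf_G hF hm x hxfix
  -- finish
  have finish : (∀ a b, TgG hF a b ∈ N) → N = ⊤ := by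
    intro hT
    obtain ⟨hD, hW⟩ := claimC hF hm N hN (fun t => hT 0 t)
    exact Sz_gen hF hm N hT hW hD
  by_cases hα : α = 1
  · -- x is unipotent
    rw [hα, DgG_one hF, mul_one] at hcd
    have hZ0 : ∃ e₀ : F, e₀ ≠ 0 ∧ TgG hF 0 e₀ ∈ N := by
      by_cases hc : c = 0
      · refine ⟨d, ?_, ?_⟩
        · rintro rfl
          apply hxne
          rw [hcd, hc, TgG_zero hF]
        · rw [← hc, ← hcd]; exact hxN
      · refine ⟨c ^ (2 ^ (m + 1) + 1), pow_ne_zero _ hc, ?_⟩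
        have := N.mul_mem hxN hxN
        rw [hcd, TgG_mul hF] at this
        have e1 : c + c = 0 := by linear_combination c * h2
        have e2 : d + d + c ^ 2 ^ (m + 1) * c = c ^ (2 ^ (m + 1) + 1) := by
          rw [pow_succ]; linear_combination d * h2
        rw [e1, e2] at this
        exact this
    obtain ⟨e₀, he₀, he₀N⟩ := hZ0
    have hZ : ∀ t : F, TgG hF 0 t ∈ N := by
      intro t
      by_cases ht : t = 0
      · rw [ht, TgG_zero hF]; exact N.one_mem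
      · obtain ⟨a, ha⟩ := pow_sigma_succ_surj hF (t / e₀)
        have ha0 : a ≠ 0 := by
          rintro rfl
          rw [zero_pow (by positivity)] at ha
          exact (div_ne_zero ht he₀) ha.symm
        have h1 := hN.conj_mem _ he₀N (DgG hF (Units.mk0 a ha0))
        rw [DT_comm hF hm, mul_inv_cancel_right] at h1
        have e1 : ((Units.mk0 a ha0 : Fˣ) : F) * 0 = 0 := mul_zero _
        have e2 : ((Units.mk0 a ha0 : Fˣ) : F) ^ (2 ^ (m + 1) + 1) * e₀ = t := by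
          rw [Units.val_mk0, ha]; field_simp
        rw [e1, e2] at h1
        exact h1
    obtain ⟨hD, hW⟩ := claimC hF hm N hN hZ
    obtain ⟨β, hβ⟩ := exists_unit_ne_one hF hm
    apply finish
    apply claimA hF hm N hN 0 0 β hβ
    rw [TgG_zero hF, one_mul]
    exact hD β
  · apply finish
    apply claimA hF hm N hN c d α hα
    rw [← hcd]; exact hxN

end

end Cfsg.Agent.Lib.Helper4_SzSimple
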