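import Mathlib
import Cfsg.Prelude.Def_LieExceptional
import Cfsg.Agent.Lib.Helper4_SzSimple

set_option linter.all false
set_option autoImplicit false

namespace Cfsg.Agent.Lib.Helper4_SzMax
open Cfsg.Agent.Lib.Helper4_SzOvoid Cfsg.Agent.Lib.Helper4_SzGroup Cfsg.Agent.Lib.Helper4_SzSylow
  Cfsg.Agent.Lib.Helper4_SzReal Cfsg.Agent.Lib.Helper4_SzZass Cfsg.Agent.Lib.Helper4_SzSimple
open scoped Pointwise

variable {F : Type*} [Field F]

section
variable [Fintype F] {m : ℕ} (hF : Fintype.card F = 2 ^ (2 * m + 1))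
include hF

theorem TgG_mem_TSub (a b : F) : TgG hF a b ∈ TSub hF := ⟨a, b, rfl⟩

theorem mem_TSub_iff (g : ↥(Cfsg.Sz F m)) : g ∈ TSub hF ↔ ∃ a b, g = TgG hF a b := by
  constructor
  · rintro ⟨a, b, h⟩
    exact ⟨a, b, Subtype.ext h⟩
  · rintro ⟨a, b, rfl⟩
    exact TgG_mem_TSub hF a b

/-- nontrivial unipotent elements fix only the point at infinity -/
theorem T_fix_only_inf (t : ↥(Cfsg.Sz F m)) (ht : t ∈ TSub hF) (ht1 : t ≠ 1)
    (ω : ↥(Cfsg.suzukiOvoid F m)) (hω : t • ω = ω) : ω = infΩ F m := by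
  obtain ⟨a, b, rfl⟩ := (mem_TSub_iff hF t).mp ht
  rcases Ω_cases m ω with h | ⟨x, y, rfl⟩
  · exact h
  · exfalso
    rw [TgG_pt hF] at hω
    obtain ⟨e1, e2⟩ := ptΩ_inj m _ _ _ _ hω
    have ha : a = 0 := by linear_combination e1
    have hb : b = 0 := by
      rw [ha, zero_pow (by positivity)] at e2
      linear_combination e2
    apply ht1
    rw [ha, hb, TgG_zero hF]

/-- the stabiliser of infinity normalises the unipotent subgroup -/
theorem B_normalizes_T (hm : 1 ≤ m) (g : ↥(Cfsg.Sz F m)) (hg : g • infΩ F m = infΩ F m)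
    (t : ↥(Cfsg.Sz F m)) : t ∈ TSub hF ↔ g * t * g⁻¹ ∈ TSub hF := by
  have key : ∀ g : ↥(Cfsg.Sz F m), g • infΩ F m = infΩ F m → ∀ t, t ∈ TSub hF →
      g * t * g⁻¹ ∈ TSub hF := by
    intro g hg t ht
    obtain ⟨c, d, α, rfl⟩ := stab_inf_G hF hm g hg
    obtain ⟨a, b, rfl⟩ := (mem_TSub_iff hF t).mp ht
    have e : TgG hF c d * DgG hF α * TgG hF a b * (TgG hF c d * DgG hF α)⁻¹ =
        TgG hF c d * TgG hF ((α : F) * a) ((α : F) ^ (2 ^ (m + 1) + 1) * b) * (TgG hF c d)⁻¹ := by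
      rw [mul_assoc (TgG hF c d), DT_comm hF hm]; group
    rw [e]
    exact (TSub hF).mul_mem ((TSub hF).mul_mem (TgG_mem_TSub hF _ _) (TgG_mem_TSub hF _ _))
      ((TSub hF).inv_mem (TgG_mem_TSub hF _ _))
  constructor
  · exact key g hg t
  · intro h
    have hg' : g⁻¹ • infΩ F m = infΩ F m := by rw [inv_smul_eq_iff, hg]
    have := key g⁻¹ hg' _ h
    have e : g⁻¹ * (g * t * g⁻¹) * g⁻¹⁻¹ = t := by group
    rw [e] at this
    exact this

theorem normalizer_TSub (hm : 1 ≤ m) (g : ↥(Cfsg.Sz F m)) :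
    g ∈ Subgroup.normalizer ((TSub hF : Subgroup ↥(Cfsg.Sz F m)) : Set ↥(Cfsg.Sz F m)) ↔
      g • infΩ F m = infΩ F m := by
  rw [Subgroup.mem_normalizer_iff]
  constructor
  · intro h
    have ht : TgG hF 1 0 ∈ TSub hF := TgG_mem_TSub hF 1 0
    have ht1 : TgG hF (1 : F) 0 ≠ 1 := by
      intro e
      rw [← TgG_zero hF] at e
      have := (Tg_inj m _ _ _ _ (congrArg Subtype.val e)).1
      exact one_ne_zero this
    have h1 : g * TgG hF 1 0 * g⁻¹ ∈ TSub hF := (h _).mp ht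
    have h2 : g * TgG hF (1 : F) 0 * g⁻¹ ≠ 1 := by
      intro e
      apply ht1
      have : TgG hF (1 : F) 0 = g⁻¹ * (g * TgG hF (1 : F) 0 * g⁻¹) * g := by group
      rw [this, e]; group
    apply T_fix_only_inf hF _ h1 h2
    rw [mul_smul, mul_smul, inv_smul_smul, TgG_inf hF]
  · intro hg t
    exact B_normalizes_T hF hm g hg t

/-- a subgroup containing `T` and all `W`-conjugates of central elements is everything -/
theorem claimC' (hm : 1 ≤ m) (M : Subgroup ↥(Cfsg.Sz F m)) (hT : ∀ a b, TgG hF a b ∈ M)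
    (hWT : ∀ t : F, WgG hF * TgG hF 0 t * WgG hF ∈ M) : M = ⊤ := by
  have hn : ∀ u : Fˣ, (TgG hF (u : F) 0)⁻¹ * WgG hF *
      TgG hF 0 (((u : F) ^ (2 ^ (m + 1) + 1))⁻¹) * WgG hF * TgG hF (u : F) 0 ∈ M := by
    intro u
    have h2 := M.mul_mem (M.mul_mem (M.inv_mem (hT (u : F) 0)) (hWT (((u : F) ^ (2 ^ (m + 1) + 1))⁻¹)))
      (hT (u : F) 0)
    have e : (TgG hF (u : F) 0)⁻¹ * (WgG hF * TgG hF 0 (((u : F) ^ (2 ^ (m + 1) + 1))⁻¹) * WgG hF) *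
        TgG hF (u : F) 0 = (TgG hF (u : F) 0)⁻¹ * WgG hF *
      TgG hF 0 (((u : F) ^ (2 ^ (m + 1) + 1))⁻¹) * WgG hF * TgG hF (u : F) 0 := by group
    rw [← e]
    exact h2
  have hW : WgG hF ∈ M := by
    have h1 := nW_eq hF hm 1
    rw [one_pow, DgG_one hF] at h1
    have := M.inv_mem (hn 1)
    rw [← eq_inv_of_mul_eq_one_right h1] at this
    exact this
  apply Sz_gen hF hm M hT hW
  intro β
  obtain ⟨u, hu⟩ := exists_unit_sq hF β
  rw [← hu, ← nW_eq hF hm u]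
  exact M.mul_mem (hn u) hW

/-- overgroups of the unipotent subgroup -/
theorem over_TSub (hm : 1 ≤ m) (M : Subgroup ↥(Cfsg.Sz F m)) (hTM : TSub hF ≤ M) :
    (∀ g ∈ M, g • infΩ F m = infΩ F m) ∨ M = ⊤ := by
  by_cases hall : ∀ g ∈ M, g • infΩ F m = infΩ F m
  · left; exact hall
  right
  push Not at hall
  obtain ⟨g, hgM, hg⟩ := hall
  have hT : ∀ a b, TgG hF a b ∈ M := fun a b => hTM (TgG_mem_TSub hF a b)
  rcases Ω_cases m (g • infΩ F m) with h | ⟨x, y, h⟩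
  · exact absurd h hg
  obtain ⟨g₁, hg₁⟩ : ∃ g₁, g₁ = (TgG hF x y)⁻¹ * g := ⟨_, rfl⟩
  have hg₁M : g₁ ∈ M := by rw [hg₁]; exact M.mul_mem (M.inv_mem (hT x y)) hgM
  have hg₁inf : g₁ • infΩ F m = ptΩ m 0 0 := by
    rw [hg₁, mul_smul, h, inv_smul_eq_iff, TgG_zero_pt hF]
  obtain ⟨b, hb⟩ : ∃ b, b = (WgG hF)⁻¹ * g₁ := ⟨_, rfl⟩
  have hbinf : b • infΩ F m = infΩ F m := by
    rw [hb, mul_smul, hg₁inf, inv_smul_eq_iff, WgG_inf hF]
  have hg₁b : g₁ = WgG hF * b := by rw [hb]; group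
  apply claimC' hF hm M hT
  intro t
  -- W t W = g₁ (b⁻¹ t b) g₁⁻¹
  have hb' : b⁻¹ • infΩ F m = infΩ F m := by rw [inv_smul_eq_iff, hbinf]
  have h1 : b⁻¹ * TgG hF 0 t * b⁻¹⁻¹ ∈ TSub hF :=
    (B_normalizes_T hF hm b⁻¹ hb' _).mp (TgG_mem_TSub hF 0 t)
  have h2 : g₁ * (b⁻¹ * TgG hF 0 t * b⁻¹⁻¹) * g₁⁻¹ ∈ M :=
    M.mul_mem (M.mul_mem hg₁M (hTM h1)) (M.inv_mem hg₁M)
  have e : g₁ * (b⁻¹ * TgG hF 0 t * b⁻¹⁻¹) * g₁⁻¹ = WgG hF * TgG hF 0 t * (WgG hF)⁻¹ := by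
    rw [hg₁b]; group
  rw [e, WgG_inv hF] at h2
  exact h2

end

section
variable [Fintype F] {m : ℕ} (hF : Fintype.card F = 2 ^ (2 * m + 1))
include hF

theorem S2247_main (hm : 1 ≤ m) (P : Sylow 2 ↥(Cfsg.Sz F m)) :
    IsCoatom (Subgroup.normalizer ((P : Subgroup ↥(Cfsg.Sz F m)) : Set ↥(Cfsg.Sz F m))) ∧
    ∀ M : Subgroup ↥(Cfsg.Sz F m), IsCoatom M → (P : Subgroup ↥(Cfsg.Sz F m)) ≤ M →
      M = Subgroup.normalizer ((P : Subgroup ↥(Cfsg.Sz F m)) : Set ↥(Cfsg.Sz F m)) := by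
  haveI : Fact (Nat.Prime 2) := ⟨Nat.prime_two⟩
  haveI h2t := Sz_two_trans hF
  haveI hprim : MulAction.IsPreprimitive ↥(Cfsg.Sz F m) ↥(Cfsg.suzukiOvoid F m) :=
    MulAction.isPreprimitive_of_is_two_pretransitive h2t
  haveI : Nontrivial ↥(Cfsg.suzukiOvoid F m) := ⟨⟨infΩ F m, ptΩ m 0 0, (ptΩ_ne_inf m 0 0).symm⟩⟩
  let Q : Sylow 2 ↥(Cfsg.Sz F m) := Sylow.ofCard (TSub hF) (TSub_sylow_card hF hm)
  obtain ⟨k, hk⟩ := MulAction.exists_smul_eq ↥(Cfsg.Sz F m) Q P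
  have hP : ∀ x : ↥(Cfsg.Sz F m), x ∈ (P : Subgroup ↥(Cfsg.Sz F m)) ↔ k⁻¹ * x * k ∈ TSub hF := by
    intro x
    rw [← hk]
    show x ∈ MulAut.conj k • (Q : Subgroup ↥(Cfsg.Sz F m)) ↔ _
    rw [Subgroup.mem_pointwise_smul_iff_inv_smul_mem]
    show _ ∈ TSub hF ↔ _
    simp [MulAut.smul_def, mul_assoc]
  obtain ⟨ω, hω⟩ : ∃ ω, ω = k • infΩ F m := ⟨_, rfl⟩
  -- normalizer of P is the stabiliser of ω
  have hnorm : Subgroup.normalizer ((P : Subgroup ↥(Cfsg.Sz F m)) : Set ↥(Cfsg.Sz F m)) =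
      MulAction.stabilizer ↥(Cfsg.Sz F m) ω := by
    ext x
    rw [MulAction.mem_stabilizer_iff, Subgroup.mem_normalizer_iff]
    have hx' : x • ω = ω ↔ (k⁻¹ * x * k) • infΩ F m = infΩ F m := by
      rw [hω, mul_smul, mul_smul, inv_smul_eq_iff]
    rw [hx', ← normalizer_TSub hF hm, Subgroup.mem_normalizer_iff]
    constructor
    · intro h t
      have := h (k * t * k⁻¹)
      rw [hP, hP] at this
      have e1 : k⁻¹ * (k * t * k⁻¹) * k = t := by group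
      have e2 : k⁻¹ * (x * (k * t * k⁻¹) * x⁻¹) * k = k⁻¹ * x * k * t * (k⁻¹ * x * k)⁻¹ := by group
      rw [e1, e2] at this
      exact this
    · intro h t
      have := h (k⁻¹ * t * k)
      rw [hP, hP]
      have e2 : k⁻¹ * (x * t * x⁻¹) * k = k⁻¹ * x * k * (k⁻¹ * t * k) * (k⁻¹ * x * k)⁻¹ := by group
      rw [e2]
      exact this
  have hco : IsCoatom (MulAction.stabilizer ↥(Cfsg.Sz F m) ω) :=
    MulAction.IsPreprimitive.isCoatom_stabilizer_of_isPreprimitive _ ω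
  rw [hnorm]
  refine ⟨hco, ?_⟩
  intro M hM hPM
  obtain ⟨M', hM'⟩ : ∃ M' : Subgroup ↥(Cfsg.Sz F m), M' = M.comap (MulAut.conj k).toMonoidHom :=
    ⟨_, rfl⟩
  have hmem : ∀ x, x ∈ M' ↔ k * x * k⁻¹ ∈ M := by
    intro x
    rw [hM', Subgroup.mem_comap]
    rfl
  have hTM' : TSub hF ≤ M' := by
    intro t ht
    rw [hmem]
    apply hPM
    rw [hP]
    have e1 : k⁻¹ * (k * t * k⁻¹) * k = t := by group
    rw [e1]; exact ht
  rcases over_TSub hF hm M' hTM' with hfix | htop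
  · have hle : M ≤ MulAction.stabilizer ↥(Cfsg.Sz F m) ω := by
      intro x hx
      rw [MulAction.mem_stabilizer_iff, hω]
      have hx' : k⁻¹ * x * k ∈ M' := by
        rw [hmem]
        have e : k * (k⁻¹ * x * k) * k⁻¹ = x := by group
        rw [e]; exact hx
      have := hfix _ hx'
      rw [mul_smul, mul_smul, inv_smul_eq_iff] at this
      exact this
    rcases hM.le_iff.mp hle with h | h
    · exact absurd h hco.1
    · exact h.symm
  · exfalso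
    apply hM.1
    rw [eq_top_iff]
    intro x _
    have hx' : k⁻¹ * x * k ∈ M' := by rw [htop]; exact Subgroup.mem_top _
    rw [hmem] at hx'
    have e : k * (k⁻¹ * x * k) * k⁻¹ = x := by group
    rw [e] at hx'
    exact hx'

end

end Cfsg.Agent.Lib.Helper4_SzMax
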