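import Mathlib
import Cfsg.Prelude.Def_LieExceptional
import Cfsg.Agent.Lib.Helper4_SzMax

set_option linter.all false
set_option autoImplicit false

namespace Cfsg.Agent.Lib.Helper4_SzGen
open Cfsg.Agent.Lib.Helper4_SzOvoid Cfsg.Agent.Lib.Helper4_SzGroup Cfsg.Agent.Lib.Helper4_SzSylow
  Cfsg.Agent.Lib.Helper4_SzReal Cfsg.Agent.Lib.Helper4_SzZass Cfsg.Agent.Lib.Helper4_SzSimple
  Cfsg.Agent.Lib.Helper4_SzMax
open scoped Pointwise

variable {F : Type*} [Field F]

theorem Dm_mul_Wm (m : ℕ) (α : Fˣ) : Dm m α * Wm = Wm * Dm m α⁻¹ := by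
  ext i j
  fin_cases i <;> fin_cases j <;>
    simp [Dm, Wm, Matrix.mul_apply, Fin.sum_univ_four, Matrix.diagonal]

theorem Dg_mul_Wg (m : ℕ) (α : Fˣ) : Dg m α * Wg = Wg * Dg m α⁻¹ :=
  Subtype.ext (Dm_mul_Wm m α)

section
variable [Fintype F] {m : ℕ} (hF : Fintype.card F = 2 ^ (2 * m + 1))
include hF

theorem DgG_mul_WgG (α : Fˣ) : DgG hF α * WgG hF = WgG hF * DgG hF α⁻¹ :=
  Subtype.ext (Dg_mul_Wg m α)

theorem DgG_inv (α : Fˣ) : (DgG hF α)⁻¹ = DgG hF α⁻¹ := by
  rw [inv_eq_iff_mul_eq_one, ← DgG_mul hF, mul_inv_cancel, DgG_one hF]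

theorem DgG_zpow (α : Fˣ) (k : ℤ) : DgG hF (α ^ k) = (DgG hF α) ^ k := by
  let φ : Fˣ →* ↥(Cfsg.Sz F m) :=
    { toFun := DgG hF, map_one' := DgG_one hF, map_mul' := DgG_mul hF }
  exact map_zpow φ α k

/-- a subgroup containing unipotent elements with every first coordinate contains `T` -/
theorem T_of_first_coords (M : Subgroup ↥(Cfsg.Sz F m)) (h : ∀ e : F, ∃ s : F, TgG hF e s ∈ M) :
    ∀ a b, TgG hF a b ∈ M := by
  obtain ⟨h2, hadd, hsq⟩ := field_facts hF
  have step2 : ∀ t : F, TgG hF 0 t ∈ M := by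
    intro t
    obtain ⟨e, he⟩ := pow_sigma_succ_surj hF t
    obtain ⟨s, hs⟩ := h e
    have := M.mul_mem hs hs
    rw [TgG_mul hF] at this
    have e1 : e + e = 0 := by linear_combination e * h2
    have e2 : s + s + e ^ 2 ^ (m + 1) * e = t := by
      rw [← he, pow_succ]; linear_combination s * h2
    rw [e1, e2] at this
    exact this
  intro a b
  obtain ⟨s, hs⟩ := h a
  have := M.mul_mem hs (step2 (b + s))
  rw [TgG_mul hF] at this
  have e1 : a + 0 = a := add_zero a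
  have e2 : s + (b + s) + a ^ 2 ^ (m + 1) * 0 = b := by linear_combination s * h2
  rw [e1, e2] at this
  exact this

theorem S2410_main (hm : 1 ≤ m) :
    ∃ a b : ↥(Cfsg.Sz F m), Subgroup.closure ({a, b} : Set ↥(Cfsg.Sz F m)) = ⊤ := by
  obtain ⟨h2, hadd, hsq⟩ := field_facts hF
  obtain ⟨α, hα⟩ := IsCyclic.exists_generator (α := Fˣ)
  refine ⟨DgG hF α, TgG hF 1 0 * WgG hF, ?_⟩
  obtain ⟨M, hM⟩ : ∃ M, M = Subgroup.closure
      ({DgG hF α, TgG hF 1 0 * WgG hF} : Set ↥(Cfsg.Sz F m)) := ⟨_, rfl⟩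
  rw [← hM]
  have ha : DgG hF α ∈ M := by
    rw [hM]; exact Subgroup.subset_closure (Set.mem_insert _ _)
  have hb : TgG hF 1 0 * WgG hF ∈ M := by
    rw [hM]; exact Subgroup.subset_closure (Set.mem_insert_of_mem _ (Set.mem_singleton _))
  have hD : ∀ β : Fˣ, DgG hF β ∈ M := by
    intro β
    obtain ⟨k, hk⟩ := Subgroup.mem_zpowers_iff.mp (hα β)
    rw [← hk, DgG_zpow hF]
    exact M.zpow_mem ha k
  -- the elements `T(β,0) W`
  have hTW : ∀ β : Fˣ, TgG hF (β : F) 0 * WgG hF ∈ M := by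
    intro β
    have h1 := M.mul_mem (M.mul_mem (hD β) hb) (hD β)
    have e : DgG hF β * (TgG hF 1 0 * WgG hF) * DgG hF β = TgG hF (β : F) 0 * WgG hF := by
      calc DgG hF β * (TgG hF 1 0 * WgG hF) * DgG hF β
          = (DgG hF β * TgG hF 1 0) * (WgG hF * DgG hF β) := by group
        _ = (TgG hF ((β : F) * 1) ((β : F) ^ (2 ^ (m + 1) + 1) * 0) * DgG hF β) *
            (WgG hF * DgG hF β) := by rw [DT_comm hF hm]
        _ = TgG hF ((β : F) * 1) ((β : F) ^ (2 ^ (m + 1) + 1) * 0) * (DgG hF β * WgG hF) *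
            DgG hF β := by group
        _ = TgG hF ((β : F) * 1) ((β : F) ^ (2 ^ (m + 1) + 1) * 0) * (WgG hF * DgG hF β⁻¹) *
            DgG hF β := by rw [DgG_mul_WgG hF]
        _ = TgG hF ((β : F) * 1) ((β : F) ^ (2 ^ (m + 1) + 1) * 0) * WgG hF *
            (DgG hF β⁻¹ * DgG hF β) := by group
        _ = TgG hF (β : F) 0 * WgG hF := by
            rw [← DgG_mul hF, inv_mul_cancel, DgG_one hF, mul_one, mul_one, mul_zero]
    rw [e] at h1
    exact h1
  -- differences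
  have hTT : ∀ β γ : Fˣ, TgG hF (β : F) 0 * (TgG hF (γ : F) 0)⁻¹ ∈ M := by
    intro β γ
    have := M.mul_mem (hTW β) (M.inv_mem (hTW γ))
    have e : TgG hF (β : F) 0 * WgG hF * (TgG hF (γ : F) 0 * WgG hF)⁻¹ =
        TgG hF (β : F) 0 * (TgG hF (γ : F) 0)⁻¹ := by group
    rw [e] at this
    exact this
  have hfirst : ∀ e : F, ∃ s : F, TgG hF e s ∈ M := by
    intro e
    -- write e = β + γ with β, γ nonzero
    obtain ⟨β, γ, hβγ⟩ : ∃ β γ : Fˣ, (β : F) + (γ : F) = e := by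
      by_cases he1 : e = 1
      · obtain ⟨δ, hδ⟩ := exists_unit_ne_one hF hm
        have hδ1 : (δ : F) + 1 ≠ 0 := by
          intro h
          apply hδ
          apply Units.ext
          rw [Units.val_one]
          linear_combination h - h2
        refine ⟨δ, Units.mk0 _ hδ1, ?_⟩
        rw [Units.val_mk0, he1]
        linear_combination (δ : F) * h2
      · have he : e + 1 ≠ 0 := by
          intro h
          apply he1
          linear_combination h - h2
        refine ⟨Units.mk0 _ he, 1, ?_⟩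
        rw [Units.val_mk0, Units.val_one]
        linear_combination h2
    have := hTT β γ
    rw [TgG_inv hF, TgG_mul hF, hβγ] at this
    exact ⟨_, this⟩
  have hT := T_of_first_coords hF M hfirst
  have hTM : TSub hF ≤ M := by
    intro t ht
    obtain ⟨a, b, rfl⟩ := (mem_TSub_iff hF t).mp ht
    exact hT a b
  rcases over_TSub hF hm M hTM with hfix | htop
  · exfalso
    have := hfix _ hb
    rw [mul_smul, WgG_inf hF, TgG_zero_pt hF] at this
    exact ptΩ_ne_inf m 1 0 this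
  · exact htop

end

end Cfsg.Agent.Lib.Helper4_SzGen
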