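import Mathlib
import Cfsg.Prelude.Def_LieExceptional
import Cfsg.Agent.Lib.Helper4_SzMax

set_option linter.all false
set_option autoImplicit false

namespace Cfsg.Agent.Lib.Helper4_SzOdd
open Cfsg.Agent.Lib.Helper4_SzOvoid Cfsg.Agent.Lib.Helper4_SzGroup Cfsg.Agent.Lib.Helper4_SzSylow
  Cfsg.Agent.Lib.Helper4_SzReal Cfsg.Agent.Lib.Helper4_SzZass Cfsg.Agent.Lib.Helper4_SzSimple
  Cfsg.Agent.Lib.Helper4_SzMax
open scoped Pointwise

variable {F : Type*} [Field F]

/-- if a finite group has a cyclic subgroup of index prime to `p`, its Sylow `p`-subgroups are cyclic -/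
theorem sylow_cyclic_of_cyclic_subgroup {G : Type*} [Group G] [Finite G] (p : ℕ) [Fact p.Prime]
    (C : Subgroup G) [hC : IsCyclic C] (hindex : ¬ p ∣ C.index) (P : Sylow p G) : IsCyclic P := by
  obtain ⟨R₀⟩ : Nonempty (Sylow p C) := inferInstance
  have hR₀ : ¬ p ∣ (R₀ : Subgroup C).index := R₀.not_dvd_index
  let R : Subgroup G := (R₀ : Subgroup C).map C.subtype
  have hRp : IsPGroup p R := R₀.isPGroup'.map C.subtype
  have hRidx : ¬ p ∣ R.index := by
    show ¬ p ∣ ((R₀ : Subgroup C).map C.subtype).index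
    rw [Subgroup.index_map_subtype]
    exact (Nat.Prime.not_dvd_mul Fact.out hR₀ hindex)
  let RS : Sylow p G := hRp.toSylow hRidx
  have hRcyc : IsCyclic (RS : Subgroup G) := by
    show IsCyclic R
    have : IsCyclic (R₀ : Subgroup C) := inferInstance
    exact isCyclic_of_surjective ((C.subtype).subgroupMap (R₀ : Subgroup C))
      ((C.subtype).subgroupMap_surjective _)
  exact isCyclic_of_surjective (Sylow.equiv RS P) (Sylow.equiv RS P).surjective

theorem exists_singer [Fintype F] {m : ℕ} (hF : Fintype.card F = 2 ^ (2 * m + 1)) :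
    ∃ C : Subgroup (GL (Fin 4) F), IsCyclic C ∧ Nat.card C = (2 ^ (2 * m + 1)) ^ 4 - 1 := by
  have h2 : (2 : F) = 0 := by
    have h := FiniteField.cast_card_eq_zero F
    rw [hF, Nat.cast_pow, Nat.cast_ofNat] at h
    exact pow_eq_zero_iff (by omega) |>.mp h
  haveI : CharP F 2 := CharTwo.of_one_ne_zero_of_two_eq_zero one_ne_zero h2
  haveI : Fact (Nat.Prime 2) := ⟨Nat.prime_two⟩
  letI : Algebra (ZMod 2) F := ZMod.algebra F 2
  have hfr : Module.finrank (ZMod 2) F = 2 * m + 1 := by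
    have := FiniteField.pow_finrank_eq_card 2 F
    rw [hF] at this
    exact Nat.pow_right_injective (le_refl 2) this
  have hN0 : 4 * (2 * m + 1) ≠ 0 := by omega
  have hdvd : Module.finrank (ZMod 2) F ∣ Module.finrank (ZMod 2) (GaloisField 2 (4 * (2 * m + 1))) := by
    rw [GaloisField.finrank 2 hN0, hfr]; exact ⟨4, by ring⟩
  obtain ⟨φ⟩ := FiniteField.nonempty_algHom_of_finrank_dvd hdvd
  letI : Algebra F (GaloisField 2 (4 * (2 * m + 1))) := φ.toRingHom.toAlgebra
  obtain ⟨L, hL⟩ : ∃ L : Type, L = GaloisField 2 (4 * (2 * m + 1)) := ⟨_, rfl⟩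
  have hcardL : Nat.card (GaloisField 2 (4 * (2 * m + 1))) = 2 ^ (4 * (2 * m + 1)) :=
    GaloisField.card 2 _ hN0
  have h4 : Module.finrank F (GaloisField 2 (4 * (2 * m + 1))) = 4 := by
    have key := Module.natCard_eq_pow_finrank (K := F) (V := GaloisField 2 (4 * (2 * m + 1)))
    rw [hcardL, Nat.card_eq_fintype_card, hF, ← pow_mul] at key
    have := Nat.pow_right_injective (le_refl 2) key
    have h5 : 0 < 2 * m + 1 := by omega
    nlinarith
  let b := Module.finBasisOfFinrankEq F (GaloisField 2 (4 * (2 * m + 1))) h4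
  let ψ := Algebra.leftMulMatrix b
  have hψ : Function.Injective ψ := Algebra.leftMulMatrix_injective b
  let χ : (GaloisField 2 (4 * (2 * m + 1)))ˣ →* GL (Fin 4) F := Units.map ψ.toMonoidHom
  have hχ : Function.Injective χ := Units.map_injective hψ
  refine ⟨χ.range, ?_, ?_⟩
  · exact isCyclic_of_surjective χ.rangeRestrict χ.rangeRestrict_surjective
  · rw [← Nat.card_congr (MonoidHom.ofInjective hχ).toEquiv, Nat.card_units, hcardL, ← pow_mul]
    congr 2; ring


theorem GL4_sylow_cyclic [Fintype F] {m : ℕ} (hF : Fintype.card F = 2 ^ (2 * m + 1)) (p : ℕ)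
    [Fact p.Prime] (hp : p ≠ 2) (hdvd : p ∣ (2 ^ (2 * m + 1)) ^ 2 + 1)
    (P : Sylow p (GL (Fin 4) F)) : IsCyclic P := by
  obtain ⟨C, hC, hcard⟩ := exists_singer hF
  haveI := hC
  haveI : Finite (GL (Fin 4) F) := inferInstance
  apply sylow_cyclic_of_cyclic_subgroup p C _ P
  have hGL : Nat.card (GL (Fin 4) F) = ∏ i : Fin 4, ((Fintype.card F) ^ 4 - (Fintype.card F) ^ (i : ℕ)) :=
    Matrix.card_GL_field 4
  rw [hF, Fin.prod_univ_four] at hGL
  simp only [Fin.val_zero, Fin.val_one, Fin.val_two, pow_zero, pow_one] at hGL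
  have h33 : ((3 : Fin 4) : ℕ) = 3 := rfl
  rw [h33] at hGL
  have hidx := Subgroup.index_mul_card C
  rw [hcard, hGL] at hidx
  generalize hQ : 2 ^ (2 * m + 1) = Q at *
  have hQ2 : 2 ≤ Q := by
    rw [← hQ]
    calc 2 = 2 ^ 1 := by norm_num
      _ ≤ 2 ^ (2 * m + 1) := Nat.pow_le_pow_right (by norm_num) (by omega)
  have hQ4 : 1 < Q ^ 4 := by
    calc 1 < 2 := by norm_num
      _ ≤ Q := hQ2
      _ ≤ Q ^ 4 := Nat.le_self_pow (by norm_num) Q
  have hidx' : C.index = (Q ^ 4 - Q) * (Q ^ 4 - Q ^ 2) * (Q ^ 4 - Q ^ (3 : ℕ)) := by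
    have hpos : 0 < Q ^ 4 - 1 := by omega
    apply Nat.eq_of_mul_eq_mul_right hpos
    rw [hidx]
    ring
  rw [hidx']
  intro hdiv
  have hz : (((Q ^ 4 - Q) * (Q ^ 4 - Q ^ 2) * (Q ^ 4 - Q ^ (3 : ℕ)) : ℕ) : ZMod p) = 0 :=
    (ZMod.natCast_eq_zero_iff _ _).mpr hdiv
  have hx : ((Q : ZMod p)) ^ 2 = -1 := by
    have : (((Q ^ 2 + 1 : ℕ)) : ZMod p) = 0 := (ZMod.natCast_eq_zero_iff _ _).mpr hdvd
    push_cast at this
    linear_combination this
  have h1 : Q ≤ Q ^ 4 := Nat.le_self_pow (by norm_num) Q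
  have h2 : Q ^ 2 ≤ Q ^ 4 := Nat.pow_le_pow_right (by omega) (by norm_num)
  have h3 : Q ^ 3 ≤ Q ^ 4 := Nat.pow_le_pow_right (by omega) (by norm_num)
  rw [Nat.cast_mul, Nat.cast_mul, Nat.cast_sub h1, Nat.cast_sub h2, Nat.cast_sub h3] at hz
  push_cast at hz
  have h4 : (4 : ZMod p) = 0 := by
    have hx4 : (Q : ZMod p) ^ 4 = 1 := by
      calc (Q : ZMod p) ^ 4 = ((Q : ZMod p) ^ 2) ^ 2 := by ring
        _ = 1 := by rw [hx]; ring
    have hx3 : (Q : ZMod p) ^ 3 = - (Q : ZMod p) := by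
      calc (Q : ZMod p) ^ 3 = ((Q : ZMod p) ^ 2) * Q := by ring
        _ = - (Q : ZMod p) := by rw [hx]; ring
    rw [hx4, hx3, hx] at hz
    have : (1 - (Q : ZMod p)) * (1 - -1) * (1 - -(Q : ZMod p)) = 2 * (1 - (Q : ZMod p) ^ 2) := by ring
    rw [this, hx] at hz
    linear_combination hz
  have h4' : p ∣ 4 := by
    have : ((4 : ℕ) : ZMod p) = 0 := by exact_mod_cast h4
    exact (ZMod.natCast_eq_zero_iff _ _).mp this
  have hp2 : p ∣ 2 := by
    have : p ∣ 2 ^ 2 := by norm_num; exact h4'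
    exact (Fact.out : p.Prime).dvd_of_dvd_pow this
  exact hp ((Nat.prime_dvd_prime_iff_eq Fact.out Nat.prime_two).mp hp2)

section
variable [Fintype F] {m : ℕ} (hF : Fintype.card F = 2 ^ (2 * m + 1))
include hF

theorem S0331_main (hm : 1 ≤ m) {p : ℕ} [Fact p.Prime] (hp : p ≠ 2)
    (P : Sylow p (Cfsg.Sz F m)) : IsCyclic P := by
  have hcard := S0324_main hF hm
  haveI : Finite (Cfsg.Sz F m) := inferInstance
  have hpp : p.Prime := Fact.out
  have hp2 : ¬ p ∣ 2 := fun h => hp ((Nat.prime_dvd_prime_iff_eq hpp Nat.prime_two).mp h)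
  have hQ1 : 1 ≤ 2 ^ (2 * m + 1) := Nat.one_le_two_pow
  by_cases h1 : p ∣ 2 ^ (2 * m + 1) - 1
  · let δ : Fˣ →* ↥(Cfsg.Sz F m) :=
      { toFun := DgG hF, map_one' := DgG_one hF, map_mul' := DgG_mul hF }
    have hδ : Function.Injective δ := by
      intro a b hab
      have : (DgG hF a).1 = (DgG hF b).1 := congrArg Subtype.val hab
      exact Dg_injective m this
    haveI : IsCyclic δ.range := isCyclic_of_surjective δ.rangeRestrict δ.rangeRestrict_surjective
    apply sylow_cyclic_of_cyclic_subgroup p δ.range _ P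
    have hcardC : Nat.card δ.range = 2 ^ (2 * m + 1) - 1 := by
      rw [← Nat.card_congr (MonoidHom.ofInjective hδ).toEquiv, Nat.card_units,
        Nat.card_eq_fintype_card, hF]
    have hidx := Subgroup.index_mul_card δ.range
    rw [hcardC, hcard] at hidx
    have hpos : 0 < 2 ^ (2 * m + 1) - 1 := by
      have : 2 ^ 1 < 2 ^ (2 * m + 1) := Nat.pow_lt_pow_right (by norm_num) (by omega)
      omega
    have hidx' : δ.range.index = (2 ^ (2 * m + 1)) ^ 2 * ((2 ^ (2 * m + 1)) ^ 2 + 1) :=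
      Nat.eq_of_mul_eq_mul_right hpos hidx
    rw [hidx']
    intro hdiv
    rcases (Nat.Prime.dvd_mul hpp).mp hdiv with h | h
    · exact hp2 (hpp.dvd_of_dvd_pow (hpp.dvd_of_dvd_pow h))
    · -- q ≡ 1, so q^2+1 ≡ 2
      have hz1 : (((2 ^ (2 * m + 1) - 1 : ℕ)) : ZMod p) = 0 := (ZMod.natCast_eq_zero_iff _ _).mpr h1
      have hz2 : ((((2 ^ (2 * m + 1)) ^ 2 + 1 : ℕ)) : ZMod p) = 0 := (ZMod.natCast_eq_zero_iff _ _).mpr h
      rw [Nat.cast_sub hQ1] at hz1
      push_cast at hz1 hz2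
      have hx : ((2 : ZMod p) ^ (2 * m + 1)) = 1 := by linear_combination hz1
      rw [hx] at hz2
      have h20 : ((2 : ℕ) : ZMod p) = 0 := by
        push_cast
        linear_combination hz2
      exact hp2 ((ZMod.natCast_eq_zero_iff _ _).mp h20)
  · by_cases h2 : p ∣ (2 ^ (2 * m + 1)) ^ 2 + 1
    · let ι : ↥(Cfsg.Sz F m) →* GL (Fin 4) F :=
        Matrix.SpecialLinearGroup.toGL.comp (Cfsg.Sz F m).subtype
      have hι : Function.Injective ι :=
        Matrix.SpecialLinearGroup.toGL_injective.comp (Cfsg.Sz F m).subtype_injective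
      have hP' : IsPGroup p ((P : Subgroup ↥(Cfsg.Sz F m)).map ι) := P.isPGroup'.map ι
      obtain ⟨S, hS⟩ := hP'.exists_le_sylow
      haveI : IsCyclic S := GL4_sylow_cyclic hF p hp h2 S
      haveI : IsCyclic ((P : Subgroup ↥(Cfsg.Sz F m)).map ι) := Subgroup.isCyclic_of_le hS
      exact isCyclic_of_injective (ι.subgroupMap (P : Subgroup ↥(Cfsg.Sz F m)))
        (by
          intro a b hab
          have : ι a = ι b := congrArg Subtype.val hab
          exact Subtype.ext (hι this))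
    · have hnd : ¬ p ∣ Nat.card ↥(Cfsg.Sz F m) := by
        rw [hcard]
        intro hdiv
        rcases (Nat.Prime.dvd_mul hpp).mp hdiv with h | h
        · rcases (Nat.Prime.dvd_mul hpp).mp h with h | h
          · exact hp2 (hpp.dvd_of_dvd_pow (hpp.dvd_of_dvd_pow h))
          · exact h2 h
        · exact h1 h
      have hc := P.card_eq_multiplicity
      rw [Nat.factorization_eq_zero_of_not_dvd hnd, pow_zero] at hc
      haveI : Subsingleton P := (Nat.card_eq_one_iff_unique.mp hc).1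
      exact isCyclic_of_subsingleton

end
end Cfsg.Agent.Lib.Helper4_SzOdd
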