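import Mathlib
import Cfsg.Prelude.Def_LieExceptional
import Cfsg.Agent.Lib.Helper4_SzGen
import Cfsg.Agent.Lib.Helper4_SzOdd

set_option linter.all false
set_option autoImplicit false

namespace Cfsg.Agent.Lib.Helper4_SzCN
open Cfsg.Agent.Lib.Helper4_SzOvoid Cfsg.Agent.Lib.Helper4_SzGroup Cfsg.Agent.Lib.Helper4_SzSylow
  Cfsg.Agent.Lib.Helper4_SzReal Cfsg.Agent.Lib.Helper4_SzZass Cfsg.Agent.Lib.Helper4_SzSimple
  Cfsg.Agent.Lib.Helper4_SzMax Cfsg.Agent.Lib.Helper4_SzGen Cfsg.Agent.Lib.Helper4_SzOdd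
open scoped Pointwise

variable {F : Type*} [Field F]

section
variable [Fintype F] {m : ℕ} (hF : Fintype.card F = 2 ^ (2 * m + 1))
include hF

theorem Ω_finite : Finite ↥(Cfsg.suzukiOvoid F m) := by
  haveI : Finite (Projectivization F (Fin 4 → F)) := Quotient.finite _
  exact Subtype.finite

theorem Ω_card : Nat.card ↥(Cfsg.suzukiOvoid F m) = (2 ^ (2 * m + 1)) ^ 2 + 1 := by
  rw [Nat.card_coe_set_eq, ovoid_ncard, Nat.card_eq_fintype_card, hF]; ring

/-- the fixed point congruence for an element of prime order -/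
theorem fixed_mod (x : ↥(Cfsg.Sz F m)) (p : ℕ) [Fact p.Prime] (hx : x ^ p = 1) :
    Nat.card ↥(Cfsg.suzukiOvoid F m) ≡
      Nat.card {ω : ↥(Cfsg.suzukiOvoid F m) // x • ω = ω} [MOD p] := by
  haveI := Ω_finite hF
  have hP : IsPGroup p (Subgroup.zpowers x) := by
    intro g
    obtain ⟨g, hg⟩ := g
    obtain ⟨k, rfl⟩ := Subgroup.mem_zpowers_iff.mp hg
    refine ⟨1, Subtype.ext ?_⟩
    show (x ^ k) ^ (p ^ 1) = 1
    rw [pow_one, ← zpow_natCast, ← zpow_mul, mul_comm, zpow_mul, zpow_natCast, hx, one_zpow]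
  have h := hP.card_modEq_card_fixedPoints ↥(Cfsg.suzukiOvoid F m)
  have e : Nat.card (MulAction.fixedPoints (Subgroup.zpowers x) ↥(Cfsg.suzukiOvoid F m)) =
      Nat.card {ω : ↥(Cfsg.suzukiOvoid F m) // x • ω = ω} := by
    apply Nat.card_congr
    apply Equiv.subtypeEquivRight
    intro ω
    constructor
    · intro h
      exact h ⟨x, Subgroup.mem_zpowers x⟩
    · intro h g
      obtain ⟨g, hg⟩ := g
      obtain ⟨k, rfl⟩ := Subgroup.mem_zpowers_iff.mp hg
      exact MulAction.mem_fixedBy_zpow (a := ω) (g := x) h k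
  rw [e] at h
  exact h

/-- an element swapping two points is an involution -/
theorem swap_sq (hm : 1 ≤ m) (x : ↥(Cfsg.Sz F m)) (a b : ↥(Cfsg.suzukiOvoid F m)) (hab : a ≠ b)
    (h1 : x • a = b) (h2 : x • b = a) : x * x = 1 := by
  obtain ⟨h, ha, hb⟩ := move_to_std hF a b hab
  have e1 : h⁻¹ • infΩ F m = a := by rw [← ha, inv_smul_smul]
  have e2 : h⁻¹ • ptΩ m (0 : F) 0 = b := by rw [← hb, inv_smul_smul]
  have f1 : (WgG hF * (h * x * h⁻¹)) • infΩ F m = infΩ F m := by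
    rw [mul_smul, mul_smul, mul_smul, e1, h1, hb, WgG_zero]
  have f2 : (WgG hF * (h * x * h⁻¹)) • ptΩ m (0 : F) 0 = ptΩ m 0 0 := by
    rw [mul_smul, mul_smul, mul_smul, e2, h2, ha, WgG_inf]
  obtain ⟨α, hα⟩ := two_pt_G hF hm _ f1 f2
  have hx' : h * x * h⁻¹ = WgG hF * DgG hF α := by
    rw [← hα, ← mul_assoc, WgG_mul_self, one_mul]
  have h3 : (h * x * h⁻¹) * (h * x * h⁻¹) = 1 := by
    rw [hx']
    calc WgG hF * DgG hF α * (WgG hF * DgG hF α)
        = WgG hF * (DgG hF α * WgG hF) * DgG hF α := by group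
      _ = WgG hF * (WgG hF * DgG hF α⁻¹) * DgG hF α := by rw [DgG_mul_WgG]
      _ = (WgG hF * WgG hF) * (DgG hF α⁻¹ * DgG hF α) := by group
      _ = 1 := by rw [WgG_mul_self, ← DgG_mul, inv_mul_cancel, DgG_one, one_mul]
  have h4 : h * (x * x) * h⁻¹ = 1 := by rw [← h3]; group
  calc x * x = h⁻¹ * (h * (x * x) * h⁻¹) * h := by group
    _ = 1 := by rw [h4]; group

/-- an involution has a fixed point -/
theorem invol_fixes (x : ↥(Cfsg.Sz F m)) (hx : x * x = 1) :
    ∃ ω : ↥(Cfsg.suzukiOvoid F m), x • ω = ω := by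
  haveI : Fact (Nat.Prime 2) := ⟨Nat.prime_two⟩
  have h := fixed_mod hF x 2 (by rw [pow_two]; exact hx)
  rw [Ω_card hF] at h
  by_contra hcon
  push Not at hcon
  haveI : IsEmpty {ω : ↥(Cfsg.suzukiOvoid F m) // x • ω = ω} := ⟨fun ω => hcon ω.1 ω.2⟩
  rw [Nat.card_of_isEmpty] at h
  have h2 : 2 ∣ (2 ^ (2 * m + 1)) ^ 2 + 1 := (Nat.modEq_zero_iff_dvd).mp h
  have h3 : 2 ∣ (2 ^ (2 * m + 1)) ^ 2 := by
    rw [← pow_mul]; exact dvd_pow_self 2 (by omega)
  omega

/-- an element of odd prime order with a fixed point has a second one -/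
theorem odd_prime_fix (x : ↥(Cfsg.Sz F m)) (p : ℕ) [Fact p.Prime] (hp : p ≠ 2) (hx : x ^ p = 1)
    (ω : ↥(Cfsg.suzukiOvoid F m)) (hω : x • ω = ω) :
    ∃ ω' : ↥(Cfsg.suzukiOvoid F m), ω' ≠ ω ∧ x • ω' = ω' := by
  haveI := Ω_finite hF
  have h := fixed_mod hF x p hx
  rw [Ω_card hF] at h
  by_contra hcon
  push Not at hcon
  have hsub : Nat.card {ω : ↥(Cfsg.suzukiOvoid F m) // x • ω = ω} = 1 := by
    rw [Nat.card_eq_one_iff_unique]
    refine ⟨⟨fun a b => ?_⟩, ⟨⟨ω, hω⟩⟩⟩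
    have ha : a.1 = ω := by
      by_contra hne
      exact hcon a.1 hne a.2
    have hb : b.1 = ω := by
      by_contra hne
      exact hcon b.1 hne b.2
    exact Subtype.ext (ha.trans hb.symm)
  rw [hsub] at h
  have hpp : p.Prime := Fact.out
  have h2 : p ∣ (2 ^ (2 * m + 1)) ^ 2 := by
    have := (Nat.modEq_iff_dvd' (by omega : 1 ≤ (2 ^ (2 * m + 1)) ^ 2 + 1)).mp h.symm
    simpa using this
  have h3 : p ∣ 2 := hpp.dvd_of_dvd_pow (hpp.dvd_of_dvd_pow h2)
  exact hp ((Nat.prime_dvd_prime_iff_eq hpp Nat.prime_two).mp h3)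

/-- a non-identity element fixing two points fixes nothing else -/
theorem fix_sub_pair (hm : 1 ≤ m) (g : ↥(Cfsg.Sz F m)) (hg : g ≠ 1) (a b c : ↥(Cfsg.suzukiOvoid F m))
    (hab : a ≠ b) (ha : g • a = a) (hb : g • b = b) (hc : g • c = c) : c = a ∨ c = b := by
  by_contra hcon
  push Not at hcon
  exact hg (Sz_three_pt hF hm g a b c hab (Ne.symm hcon.2) (Ne.symm hcon.1) ha hb hc)

end
section
variable [Fintype F] {m : ℕ} (hF : Fintype.card F = 2 ^ (2 * m + 1))
include hF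

theorem DgG_injective : Function.Injective (DgG (m := m) hF) := by
  intro a b hab
  have : (DgG hF a).1 = (DgG hF b).1 := congrArg Subtype.val hab
  exact Dg_injective m this

/-- centraliser of an element with a unique fixed point is a 2-group -/
theorem cent_unique_fix (hm : 1 ≤ m) (g : ↥(Cfsg.Sz F m)) (hg : g ≠ 1)
    (ω : ↥(Cfsg.suzukiOvoid F m)) (hω : g • ω = ω)
    (huniq : ∀ ω' : ↥(Cfsg.suzukiOvoid F m), g • ω' = ω' → ω' = ω) :
    IsPGroup 2 (Subgroup.centralizer ({g} : Set ↥(Cfsg.Sz F m))) := by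
  haveI : Finite ↥(Cfsg.Sz F m) := inferInstance
  haveI : Fact (Nat.Prime 2) := ⟨Nat.prime_two⟩
  have key : ∀ {p : ℕ}, p.Prime →
      p ∣ Nat.card (Subgroup.centralizer ({g} : Set ↥(Cfsg.Sz F m))) → p = 2 := by
    intro p hp hdvd
    haveI : Fact p.Prime := ⟨hp⟩
    by_contra hp2
    obtain ⟨c, hc⟩ := exists_prime_orderOf_dvd_card' p hdvd
    have hcg : g * (c : ↥(Cfsg.Sz F m)) = (c : ↥(Cfsg.Sz F m)) * g :=
      (Subgroup.mem_centralizer_iff.mp c.2) g rfl
    have hcp : (c : ↥(Cfsg.Sz F m)) ^ p = 1 := by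
      have := pow_orderOf_eq_one c
      rw [hc] at this
      have h2 := congrArg Subtype.val this
      simpa using h2
    have hc1 : (c : ↥(Cfsg.Sz F m)) ≠ 1 := by
      intro h
      have : c = 1 := Subtype.ext h
      rw [this, orderOf_one] at hc
      exact hp.one_lt.ne hc
    have hcω : (c : ↥(Cfsg.Sz F m)) • ω = ω :=
      huniq _ (by rw [← mul_smul, hcg, mul_smul, hω])
    obtain ⟨ω', hne, hω'⟩ := odd_prime_fix hF (c : ↥(Cfsg.Sz F m)) p hp2 hcp ω hcω
    have h3 : (c : ↥(Cfsg.Sz F m)) • (g • ω') = g • ω' := by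
      rw [← mul_smul, ← hcg, mul_smul, hω']
    rcases fix_sub_pair hF hm _ hc1 ω ω' (g • ω') (Ne.symm hne) hcω hω' h3 with h | h
    · exact hne (MulAction.injective g (h.trans hω.symm))
    · exact hne (huniq ω' h)
  have hne0 : Nat.card (Subgroup.centralizer ({g} : Set ↥(Cfsg.Sz F m))) ≠ 0 :=
    Nat.card_pos.ne'
  exact IsPGroup.of_card (Nat.eq_prime_pow_of_unique_prime_dvd hne0 key)

/-- standard position: centraliser of a nontrivial `D`-element lies in `D` -/
theorem cent_D_std (hm : 1 ≤ m) (α : Fˣ) (hα : α ≠ 1) (c : ↥(Cfsg.Sz F m))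
    (hc : DgG hF α * c = c * DgG hF α) : ∃ β : Fˣ, c = DgG hF β := by
  obtain ⟨h2, -, -⟩ := field_facts hF
  have hg1 : DgG hF α ≠ 1 := by
    intro h
    rw [← DgG_one hF] at h
    exact hα (DgG_injective hF h)
  have hfix : ∀ ω : ↥(Cfsg.suzukiOvoid F m), DgG hF α • ω = ω → ω = infΩ F m ∨ ω = ptΩ m 0 0 :=
    fun ω hω => fix_sub_pair hF hm _ hg1 (infΩ F m) (ptΩ m 0 0) ω (Ne.symm (ptΩ_ne_inf m 0 0))
      (DgG_inf hF α) (DgG_zero_pt hF α) hω
  have h1 : c • infΩ F m = infΩ F m ∨ c • infΩ F m = ptΩ m 0 0 :=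
    hfix _ (by rw [← mul_smul, hc, mul_smul, DgG_inf])
  have h0 : c • ptΩ m (0 : F) 0 = infΩ F m ∨ c • ptΩ m (0 : F) 0 = ptΩ m 0 0 :=
    hfix _ (by rw [← mul_smul, hc, mul_smul, DgG_zero_pt])
  have hne : c • infΩ F m ≠ c • ptΩ m (0 : F) 0 := fun h =>
    (ptΩ_ne_inf m (0 : F) 0) (MulAction.injective c h).symm
  rcases h1 with h1 | h1
  · rcases h0 with h0 | h0
    · exact absurd (h1.trans h0.symm) hne
    · exact two_pt_G hF hm c h1 h0
  · rcases h0 with h0 | h0
    · -- c swaps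
      exfalso
      have f1 : (WgG hF * c) • infΩ F m = infΩ F m := by rw [mul_smul, h1, WgG_zero]
      have f2 : (WgG hF * c) • ptΩ m (0 : F) 0 = ptΩ m 0 0 := by rw [mul_smul, h0, WgG_inf]
      obtain ⟨β, hβ⟩ := two_pt_G hF hm _ f1 f2
      have hc' : c = WgG hF * DgG hF β := by
        rw [← hβ, ← mul_assoc, WgG_mul_self, one_mul]
      rw [hc'] at hc
      have e : WgG hF * (DgG hF α⁻¹ * DgG hF β) = WgG hF * (DgG hF β * DgG hF α) := by
        calc WgG hF * (DgG hF α⁻¹ * DgG hF β) = (WgG hF * DgG hF α⁻¹) * DgG hF β := by group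
          _ = (DgG hF α * WgG hF) * DgG hF β := by rw [DgG_mul_WgG]
          _ = DgG hF α * (WgG hF * DgG hF β) := by group
          _ = WgG hF * DgG hF β * DgG hF α := hc
          _ = WgG hF * (DgG hF β * DgG hF α) := by group
      have e2 := mul_left_cancel e
      rw [← DgG_mul, ← DgG_mul] at e2
      have e3 : α⁻¹ * β = β * α := DgG_injective hF e2
      have e4 : α * α = 1 := by
        have : α⁻¹ = α := by
          have := e3
          rw [mul_comm β α] at this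
          exact mul_right_cancel this
        calc α * α = α * α⁻¹ := by rw [this]
          _ = 1 := mul_inv_cancel α
      have e5 : ((α : F) - 1) ^ 2 = 0 := by
        have : (α : F) * α = 1 := by
          have h5 := congrArg Units.val e4
          rw [Units.val_mul, Units.val_one] at h5
          exact h5
        have h3 : ((α : F) - 1) ^ 2 = (α : F) * α - 2 * α + 1 := by ring
        rw [h3, this, h2]; ring_nf
        rw [h2]
      have e6 : (α : F) = 1 := by
        have := pow_eq_zero_iff (two_ne_zero) |>.mp e5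
        exact sub_eq_zero.mp this
      exact hα (Units.ext e6)
    · exact absurd (h1.trans h0.symm) hne

/-- the centraliser of a non-identity element with two fixed points is commutative -/
theorem cent_two_fix (hm : 1 ≤ m) (g : ↥(Cfsg.Sz F m)) (hg : g ≠ 1)
    (a b : ↥(Cfsg.suzukiOvoid F m)) (hab : a ≠ b) (ha : g • a = a) (hb : g • b = b) :
    ∀ c₁ ∈ Subgroup.centralizer ({g} : Set ↥(Cfsg.Sz F m)),
      ∀ c₂ ∈ Subgroup.centralizer ({g} : Set ↥(Cfsg.Sz F m)), c₁ * c₂ = c₂ * c₁ := by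
  obtain ⟨h, h1, h2⟩ := move_to_std hF a b hab
  have e1 : h⁻¹ • infΩ F m = a := by rw [← h1, inv_smul_smul]
  have e2 : h⁻¹ • ptΩ m (0 : F) 0 = b := by rw [← h2, inv_smul_smul]
  have f1 : (h * g * h⁻¹) • infΩ F m = infΩ F m := by
    rw [mul_smul, mul_smul, e1, ha, h1]
  have f2 : (h * g * h⁻¹) • ptΩ m (0 : F) 0 = ptΩ m 0 0 := by
    rw [mul_smul, mul_smul, e2, hb, h2]
  obtain ⟨α, hα⟩ := two_pt_G hF hm _ f1 f2
  have hα1 : α ≠ 1 := by
    intro h'
    rw [h', DgG_one] at hα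
    apply hg
    calc g = h⁻¹ * (h * g * h⁻¹) * h := by group
      _ = 1 := by rw [hα]; group
  have key : ∀ c ∈ Subgroup.centralizer ({g} : Set ↥(Cfsg.Sz F m)),
      ∃ β : Fˣ, h * c * h⁻¹ = DgG hF β := by
    intro c hc
    have hcg : g * c = c * g := (Subgroup.mem_centralizer_iff.mp hc) g rfl
    apply cent_D_std hF hm α hα1
    rw [← hα]
    calc h * g * h⁻¹ * (h * c * h⁻¹) = h * (g * c) * h⁻¹ := by group
      _ = h * (c * g) * h⁻¹ := by rw [hcg]
      _ = h * c * h⁻¹ * (h * g * h⁻¹) := by group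
  intro c₁ hc₁ c₂ hc₂
  obtain ⟨β₁, hβ₁⟩ := key c₁ hc₁
  obtain ⟨β₂, hβ₂⟩ := key c₂ hc₂
  have e : (h * c₁ * h⁻¹) * (h * c₂ * h⁻¹) = (h * c₂ * h⁻¹) * (h * c₁ * h⁻¹) := by
    rw [hβ₁, hβ₂, ← DgG_mul, ← DgG_mul, mul_comm]
  calc c₁ * c₂ = h⁻¹ * ((h * c₁ * h⁻¹) * (h * c₂ * h⁻¹)) * h := by group
    _ = h⁻¹ * ((h * c₂ * h⁻¹) * (h * c₁ * h⁻¹)) * h := by rw [e]
    _ = c₂ * c₁ := by group

end
section linalg
variable {L : Type*} [Field L] [Algebra F L]

/-- a finite subalgebra stable under multiplication by an element of prime order `p`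
has cardinality `≡ 1 mod p` -/
theorem subalg_card_mod [Finite L] (K' : Subalgebra F L) (lam : L) (hK : lam ∈ K') (h1 : lam ≠ 1)
    (p : ℕ) [Fact p.Prime] (hp : lam ^ p = 1) : Nat.card K' ≡ 1 [MOD p] := by
  classical
  haveI : Fintype K' := Fintype.ofFinite K'
  let f : Function.End K' := fun y => ⟨lam * y.1, K'.mul_mem hK y.2⟩
  have hpow : ∀ (n : ℕ) (y : K'), ((f ^ n) y).1 = lam ^ n * y.1 := by
    intro n
    induction n with
    | zero => intro y; rw [pow_zero, pow_zero, one_mul]; rfl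
    | succ n ih =>
      intro y
      rw [pow_succ, Function.End.mul_def]
      show ((f ^ n) (f y)).1 = _
      rw [ih]
      show lam ^ n * (lam * y.1) = lam ^ (n + 1) * y.1
      ring
  have hf : f ^ p ^ 1 = 1 := by
    funext y
    apply Subtype.ext
    rw [pow_one, hpow, hp, one_mul]
    rfl
  have h := Equiv.Perm.card_fixedPoints_modEq hf
  have hfix : Fintype.card (Function.fixedPoints f) = 1 := by
    rw [Fintype.card_eq_one_iff]
    refine ⟨⟨0, ?_⟩, ?_⟩
    · show f 0 = 0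
      apply Subtype.ext
      show lam * (0 : K').1 = (0 : K').1
      simp
    · rintro ⟨y, hy⟩
      apply Subtype.ext
      show y = 0
      have hy' : f y = y := hy
      have h2 : lam * y.1 = y.1 := congrArg Subtype.val hy'
      have h3 : (lam - 1) * y.1 = 0 := by rw [sub_mul, h2, one_mul, sub_self]
      rcases mul_eq_zero.mp h3 with h4 | h4
      · exact absurd (sub_eq_zero.mp h4) h1
      · exact Subtype.ext h4
  rw [hfix] at h
  rw [Nat.card_eq_fintype_card]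
  exact h

/-- an `F`-linear map commuting with multiplication by a generator is `L`-linear -/
theorem commutant_of_gen [Fintype F] (q : ℕ) (hq : Fintype.card F = q) (hq2 : 2 ≤ q)
    (h4 : Module.finrank F L = 4)
    (lam : L) (h1 : lam ≠ 1) (p : ℕ) [Fact p.Prime] (hp : lam ^ p = 1)
    (hp1 : ¬ p ∣ q - 1) (hp2 : ¬ p ∣ q ^ 2 - 1) (hp3 : ¬ p ∣ q ^ 3 - 1)
    (f : L →ₗ[F] L) (hf : ∀ v, f (lam * v) = lam * f v) :
    ∀ y v, f (y * v) = y * f v := by
  haveI : Module.Finite F L := Module.finite_of_finrank_pos (by rw [h4]; norm_num)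
  haveI : Finite L := Module.finite_of_finite F
  let K' : Subalgebra F L :=
    { carrier := {y | ∀ v, f (y * v) = y * f v}
      mul_mem' := by
        intro a b ha hb v
        rw [mul_assoc, ha, hb, mul_assoc]
      add_mem' := by
        intro a b ha hb v
        rw [add_mul, map_add, ha, hb, add_mul]
      algebraMap_mem' := by
        intro r v
        rw [Algebra.algebraMap_eq_smul_one, smul_mul_assoc, one_mul, map_smul, smul_mul_assoc,
          one_mul] }
  have hlamK : lam ∈ K' := hf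
  have hmod := subalg_card_mod K' lam hlamK h1 p hp
  have hcard : Nat.card K' = q ^ Module.finrank F K' := by
    rw [Module.natCard_eq_pow_finrank (K := F) (V := K'), Nat.card_eq_fintype_card, hq]
  have hle : Module.finrank F K' ≤ 4 := by
    rw [← h4]
    exact Submodule.finrank_le (Subalgebra.toSubmodule K')
  have hpos : 0 < Module.finrank F K' := by
    haveI : Nontrivial K' := inferInstance
    exact Module.finrank_pos
  have hd : Module.finrank F K' = 4 := by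
    rw [hcard] at hmod
    have hdvd : ∀ d : ℕ, q ^ d ≡ 1 [MOD p] → p ∣ q ^ d - 1 := by
      intro d h
      exact (Nat.modEq_iff_dvd' (Nat.one_le_pow _ _ (by omega))).mp h.symm
    have := hdvd _ hmod
    interval_cases hfr : Module.finrank F K'
    · rw [pow_one] at this; exact absurd this hp1
    · exact absurd this hp2
    · exact absurd this hp3
    · rfl
  have htop : Subalgebra.toSubmodule K' = ⊤ := by
    apply Submodule.eq_top_of_finrank_eq
    rw [h4]
    exact hd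
  intro y
  have : y ∈ Subalgebra.toSubmodule K' := by rw [htop]; exact Submodule.mem_top
  exact this

/-- a matrix commuting with the regular representation of such an element is in the image -/
theorem matrix_commutant [Fintype F] (q : ℕ) (hq : Fintype.card F = q) (hq2 : 2 ≤ q)
    (h4 : Module.finrank F L = 4) (b : Module.Basis (Fin 4) F L)
    (lam : L) (h1 : lam ≠ 1) (p : ℕ) [Fact p.Prime] (hp : lam ^ p = 1)
    (hp1 : ¬ p ∣ q - 1) (hp2 : ¬ p ∣ q ^ 2 - 1) (hp3 : ¬ p ∣ q ^ 3 - 1)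
    (M : Matrix (Fin 4) (Fin 4) F)
    (hM : M * Algebra.leftMulMatrix b lam = Algebra.leftMulMatrix b lam * M) :
    ∃ c : L, M = Algebra.leftMulMatrix b c := by
  let f : L →ₗ[F] L := Matrix.toLin b b M
  have hlm : ∀ x : L, Matrix.toLin b b (Algebra.leftMulMatrix b x) = Algebra.lmul F L x := by
    intro x
    rw [Algebra.leftMulMatrix_apply, Matrix.toLin_toMatrix]
  have hf : ∀ v, f (lam * v) = lam * f v := by
    intro v
    have e1 : f (lam * v) = (Matrix.toLin b b (M * Algebra.leftMulMatrix b lam)) v := by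
      rw [Matrix.toLin_mul b b b, hlm]
      rfl
    have e2 : lam * f v = (Matrix.toLin b b (Algebra.leftMulMatrix b lam * M)) v := by
      rw [Matrix.toLin_mul b b b, hlm]
      rfl
    rw [e1, e2, hM]
  have key := commutant_of_gen q hq hq2 h4 lam h1 p hp hp1 hp2 hp3 f hf
  obtain ⟨c, hc⟩ : ∃ c, c = f 1 := ⟨_, rfl⟩
  refine ⟨c, ?_⟩
  have hfeq : f = Algebra.lmul F L c := by
    apply LinearMap.ext
    intro y
    have := key y 1
    rw [mul_one] at this
    rw [this, ← hc]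
    show y * c = c * y
    exact mul_comm _ _
  have : M = LinearMap.toMatrix b b f := (LinearMap.toMatrix_toLin b b M).symm
  rw [this, hfeq, Algebra.leftMulMatrix_apply]

end linalg
theorem arith_pdvd (Q p : ℕ) [Fact p.Prime] (hp2 : p ≠ 2) (hQ : 1 ≤ Q) (h : p ∣ Q ^ 2 + 1) :
    ¬ p ∣ Q - 1 ∧ ¬ p ∣ Q ^ 2 - 1 ∧ ¬ p ∣ Q ^ 3 - 1 := by
  have hx : ((Q : ZMod p)) ^ 2 = -1 := by
    have : (((Q ^ 2 + 1 : ℕ)) : ZMod p) = 0 := (ZMod.natCast_eq_zero_iff _ _).mpr h
    push_cast at this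
    linear_combination this
  have h2ne : (2 : ZMod p) ≠ 0 := by
    intro h20
    have : ((2 : ℕ) : ZMod p) = 0 := by exact_mod_cast h20
    have hd := (ZMod.natCast_eq_zero_iff _ _).mp this
    exact hp2 ((Nat.prime_dvd_prime_iff_eq Fact.out Nat.prime_two).mp hd)
  have hQ2 : 1 ≤ Q ^ 2 := Nat.one_le_pow _ _ hQ
  have hQ3 : 1 ≤ Q ^ 3 := Nat.one_le_pow _ _ hQ
  refine ⟨?_, ?_, ?_⟩
  · intro hd
    have hz : (((Q - 1 : ℕ)) : ZMod p) = 0 := (ZMod.natCast_eq_zero_iff _ _).mpr hd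
    rw [Nat.cast_sub hQ] at hz
    push_cast at hz
    have hx1 : (Q : ZMod p) = 1 := by linear_combination hz
    rw [hx1] at hx
    apply h2ne
    linear_combination hx
  · intro hd
    have hz : (((Q ^ 2 - 1 : ℕ)) : ZMod p) = 0 := (ZMod.natCast_eq_zero_iff _ _).mpr hd
    rw [Nat.cast_sub hQ2] at hz
    push_cast at hz
    rw [hx] at hz
    apply h2ne
    linear_combination -hz
  · intro hd
    have hz : (((Q ^ 3 - 1 : ℕ)) : ZMod p) = 0 := (ZMod.natCast_eq_zero_iff _ _).mpr hd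
    rw [Nat.cast_sub hQ3] at hz
    push_cast at hz
    have hx3 : (Q : ZMod p) ^ 3 = - (Q : ZMod p) := by
      calc (Q : ZMod p) ^ 3 = ((Q : ZMod p) ^ 2) * Q := by ring
        _ = - (Q : ZMod p) := by rw [hx]; ring
    rw [hx3] at hz
    have hx1 : (Q : ZMod p) = -1 := by linear_combination -hz
    rw [hx1] at hx
    apply h2ne
    linear_combination hx

theorem conj_into_of_index {G' : Type*} [Group G'] [Finite G'] (p : ℕ) [Fact p.Prime]
    (C : Subgroup G') (hidx : ¬ p ∣ C.index) (z : G') (hz : z ^ p = 1) :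
    ∃ h : G', h * z * h⁻¹ ∈ C := by
  obtain ⟨R₀⟩ : Nonempty (Sylow p C) := inferInstance
  have hR₀ : ¬ p ∣ (R₀ : Subgroup C).index := R₀.not_dvd_index
  have hRp : IsPGroup p ((R₀ : Subgroup C).map C.subtype) := R₀.isPGroup'.map C.subtype
  have hRidx : ¬ p ∣ ((R₀ : Subgroup C).map C.subtype).index := by
    rw [Subgroup.index_map_subtype]
    exact (Nat.Prime.not_dvd_mul Fact.out hR₀ hidx)
  let RS : Sylow p G' := hRp.toSylow hRidx
  have hzP : IsPGroup p (Subgroup.zpowers z) := by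
    intro g
    obtain ⟨g, hg⟩ := g
    obtain ⟨k, rfl⟩ := Subgroup.mem_zpowers_iff.mp hg
    refine ⟨1, Subtype.ext ?_⟩
    show (z ^ k) ^ (p ^ 1) = 1
    rw [pow_one, ← zpow_natCast, ← zpow_mul, mul_comm, zpow_mul, zpow_natCast, hz, one_zpow]
  obtain ⟨P', hP'⟩ := hzP.exists_le_sylow
  obtain ⟨h, hh⟩ := MulAction.exists_smul_eq G' P' RS
  refine ⟨h, ?_⟩
  have hzP' : z ∈ (P' : Subgroup G') := hP' (Subgroup.mem_zpowers z)
  have h1 : h * z * h⁻¹ ∈ ((h • P' : Sylow p G') : Subgroup G') := by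
    rw [Sylow.coe_subgroup_smul]
    have := Subgroup.smul_mem_pointwise_smul z (MulAut.conj h) _ hzP'
    simpa [MulAut.smul_def] using this
  rw [hh] at h1
  have h2 : h * z * h⁻¹ ∈ (R₀ : Subgroup C).map C.subtype := h1
  obtain ⟨c, -, hc⟩ := Subgroup.mem_map.mp h2
  rw [← hc]
  exact c.2

section
variable [Fintype F] {m : ℕ} (hF : Fintype.card F = 2 ^ (2 * m + 1))
include hF

theorem exists_singer_field :
    ∃ (L : Type) (_ : Field L) (_ : Algebra F L), Module.finrank F L = 4 := by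
  have h2 : (2 : F) = 0 := (field_facts hF).1
  haveI : CharP F 2 := CharTwo.of_one_ne_zero_of_two_eq_zero one_ne_zero h2
  haveI : Fact (Nat.Prime 2) := ⟨Nat.prime_two⟩
  letI : Algebra (ZMod 2) F := ZMod.algebra F 2
  have hfr : Module.finrank (ZMod 2) F = 2 * m + 1 := by
    have := FiniteField.pow_finrank_eq_card 2 F
    rw [hF] at this
    exact Nat.pow_right_injective (le_refl 2) this
  have hN0 : 4 * (2 * m + 1) ≠ 0 := by omega
  have hdvd : Module.finrank (ZMod 2) F ∣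
      Module.finrank (ZMod 2) (GaloisField 2 (4 * (2 * m + 1))) := by
    rw [GaloisField.finrank 2 hN0, hfr]; exact ⟨4, by ring⟩
  obtain ⟨φ⟩ := FiniteField.nonempty_algHom_of_finrank_dvd hdvd
  letI : Algebra F (GaloisField 2 (4 * (2 * m + 1))) := φ.toRingHom.toAlgebra
  have hcardL : Nat.card (GaloisField 2 (4 * (2 * m + 1))) = 2 ^ (4 * (2 * m + 1)) :=
    GaloisField.card 2 _ hN0
  have h4 : Module.finrank F (GaloisField 2 (4 * (2 * m + 1))) = 4 := by
    have key := Module.natCard_eq_pow_finrank (K := F) (V := GaloisField 2 (4 * (2 * m + 1)))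
    rw [hcardL, Nat.card_eq_fintype_card, hF, ← pow_mul] at key
    have := Nat.pow_right_injective (le_refl 2) key
    have h5 : 0 < 2 * m + 1 := by omega
    nlinarith
  exact ⟨GaloisField 2 (4 * (2 * m + 1)), inferInstance, inferInstance, h4⟩

theorem singer_index (p : ℕ) [Fact p.Prime] (hp : p ≠ 2) (hdvd : p ∣ (2 ^ (2 * m + 1)) ^ 2 + 1)
    (C : Subgroup (GL (Fin 4) F)) (hcard : Nat.card C = (2 ^ (2 * m + 1)) ^ 4 - 1) :
    ¬ p ∣ C.index := by
  have hGL : Nat.card (GL (Fin 4) F) =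
      ∏ i : Fin 4, ((Fintype.card F) ^ 4 - (Fintype.card F) ^ (i : ℕ)) :=
    Matrix.card_GL_field 4
  rw [hF, Fin.prod_univ_four] at hGL
  simp only [Fin.val_zero, Fin.val_one, Fin.val_two, pow_zero, pow_one] at hGL
  have h33 : ((3 : Fin 4) : ℕ) = 3 := rfl
  rw [h33] at hGL
  have hidx := Subgroup.index_mul_card C
  rw [hcard, hGL] at hidx
  generalize hQ : 2 ^ (2 * m + 1) = Q at *
  have hQ2 : 2 ≤ Q := by
    rw [← hQ]
    calc 2 = 2 ^ 1 := by norm_num
      _ ≤ 2 ^ (2 * m + 1) := Nat.pow_le_pow_right (by norm_num) (by omega)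
  have hQ4 : 1 < Q ^ 4 := by
    calc 1 < 2 := by norm_num
      _ ≤ Q := hQ2
      _ ≤ Q ^ 4 := Nat.le_self_pow (by norm_num) Q
  have hidx' : C.index = (Q ^ 4 - Q) * (Q ^ 4 - Q ^ 2) * (Q ^ 4 - Q ^ (3 : ℕ)) := by
    have hpos : 0 < Q ^ 4 - 1 := by omega
    apply Nat.eq_of_mul_eq_mul_right hpos
    rw [hidx]
    ring
  rw [hidx']
  intro hdiv
  have hz : (((Q ^ 4 - Q) * (Q ^ 4 - Q ^ 2) * (Q ^ 4 - Q ^ (3 : ℕ)) : ℕ) : ZMod p) = 0 :=
    (ZMod.natCast_eq_zero_iff _ _).mpr hdiv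
  have hx : ((Q : ZMod p)) ^ 2 = -1 := by
    have : (((Q ^ 2 + 1 : ℕ)) : ZMod p) = 0 := (ZMod.natCast_eq_zero_iff _ _).mpr hdvd
    push_cast at this
    linear_combination this
  have h1 : Q ≤ Q ^ 4 := Nat.le_self_pow (by norm_num) Q
  have h2 : Q ^ 2 ≤ Q ^ 4 := Nat.pow_le_pow_right (by omega) (by norm_num)
  have h3 : Q ^ 3 ≤ Q ^ 4 := Nat.pow_le_pow_right (by omega) (by norm_num)
  rw [Nat.cast_mul, Nat.cast_mul, Nat.cast_sub h1, Nat.cast_sub h2, Nat.cast_sub h3] at hz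
  push_cast at hz
  have h4 : (4 : ZMod p) = 0 := by
    have hx4 : (Q : ZMod p) ^ 4 = 1 := by
      calc (Q : ZMod p) ^ 4 = ((Q : ZMod p) ^ 2) ^ 2 := by ring
        _ = 1 := by rw [hx]; ring
    have hx3 : (Q : ZMod p) ^ 3 = - (Q : ZMod p) := by
      calc (Q : ZMod p) ^ 3 = ((Q : ZMod p) ^ 2) * Q := by ring
        _ = - (Q : ZMod p) := by rw [hx]; ring
    rw [hx4, hx3, hx] at hz
    have : (1 - (Q : ZMod p)) * (1 - -1) * (1 - -(Q : ZMod p)) = 2 * (1 - (Q : ZMod p) ^ 2) := by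
      ring
    rw [this, hx] at hz
    linear_combination hz
  have h4' : p ∣ 4 := by
    have : ((4 : ℕ) : ZMod p) = 0 := by exact_mod_cast h4
    exact (ZMod.natCast_eq_zero_iff _ _).mp this
  have hp2 : p ∣ 2 := by
    have : p ∣ 2 ^ 2 := by norm_num; exact h4'
    exact (Fact.out : p.Prime).dvd_of_dvd_pow this
  exact hp ((Nat.prime_dvd_prime_iff_eq Fact.out Nat.prime_two).mp hp2)

/-- the embedding of the Suzuki group into `GL₄` -/
noncomputable def ιGL : ↥(Cfsg.Sz F m) →* GL (Fin 4) F :=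
  Matrix.SpecialLinearGroup.toGL.comp (Cfsg.Sz F m).subtype

omit hF in
theorem ιGL_injective : Function.Injective (ιGL (F := F) (m := m)) :=
  Matrix.SpecialLinearGroup.toGL_injective.comp (Cfsg.Sz F m).subtype_injective

/-- centralisers of elements of odd prime order `p ∣ q²+1` sit in a Singer cycle -/
theorem cent_in_singer (y : ↥(Cfsg.Sz F m)) (hy1 : y ≠ 1) (p : ℕ) [Fact p.Prime] (hp2 : p ≠ 2)
    (hpd : p ∣ (2 ^ (2 * m + 1)) ^ 2 + 1) (hyp : y ^ p = 1) :
    ∃ (L : Type) (_ : Field L) (_ : Algebra F L) (b : Module.Basis (Fin 4) F L)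
      (h : GL (Fin 4) F), Module.finrank F L = 4 ∧
      ∀ c ∈ Subgroup.centralizer ({y} : Set ↥(Cfsg.Sz F m)), ∃ u : L,
        ((h * ιGL c * h⁻¹ : GL (Fin 4) F) : Matrix (Fin 4) (Fin 4) F) =
          Algebra.leftMulMatrix b u := by
  obtain ⟨L, instL, instA, h4⟩ := exists_singer_field hF
  haveI : Module.Finite F L := Module.finite_of_finrank_pos (by rw [h4]; norm_num)
  haveI : Finite L := Module.finite_of_finite F
  let b := Module.finBasisOfFinrankEq F L h4
  let ψ := Algebra.leftMulMatrix b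
  have hψ : Function.Injective ψ := Algebra.leftMulMatrix_injective b
  let χ : Lˣ →* GL (Fin 4) F := Units.map ψ.toMonoidHom
  have hχ : Function.Injective χ := Units.map_injective hψ
  have hQ2 : 2 ≤ 2 ^ (2 * m + 1) := by
    calc 2 = 2 ^ 1 := by norm_num
      _ ≤ 2 ^ (2 * m + 1) := Nat.pow_le_pow_right (by norm_num) (by omega)
  have hcardL : Nat.card L = (2 ^ (2 * m + 1)) ^ 4 := by
    rw [Module.natCard_eq_pow_finrank (K := F) (V := L), h4, Nat.card_eq_fintype_card, hF]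
  have hcardS : Nat.card χ.range = (2 ^ (2 * m + 1)) ^ 4 - 1 := by
    rw [← Nat.card_congr (MonoidHom.ofInjective hχ).toEquiv, Nat.card_units, hcardL]
  have hidx := singer_index hF p hp2 hpd χ.range hcardS
  haveI : Finite (GL (Fin 4) F) := inferInstance
  have hzp : (ιGL y) ^ p = 1 := by rw [← map_pow, hyp, map_one]
  obtain ⟨h, hh⟩ := conj_into_of_index p χ.range hidx (ιGL y) hzp
  obtain ⟨u₀, hu₀⟩ := hh
  have hu1 : (u₀ : L) ≠ 1 := by
    intro h1
    have : u₀ = 1 := Units.ext h1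
    rw [this, map_one] at hu₀
    have h5 : ιGL y = 1 := by
      calc ιGL y = h⁻¹ * (h * ιGL y * h⁻¹) * h := by group
        _ = 1 := by rw [← hu₀]; group
    rw [← map_one (ιGL (F := F) (m := m))] at h5
    exact hy1 (ιGL_injective h5)
  have hup : (u₀ : L) ^ p = 1 := by
    have h5 : χ (u₀ ^ p) = 1 := by
      rw [map_pow, hu₀]
      calc (h * ιGL y * h⁻¹) ^ p = h * (ιGL y) ^ p * h⁻¹ := by
            rw [← conj_pow]
        _ = 1 := by rw [hzp]; group
    rw [← map_one χ] at h5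
    have := hχ h5
    have h6 := congrArg Units.val this
    simpa using h6
  obtain ⟨a1, a2, a3⟩ := arith_pdvd (2 ^ (2 * m + 1)) p hp2 (by omega) hpd
  refine ⟨L, instL, instA, b, h, h4, ?_⟩
  intro c hc
  have hcy : y * c = c * y := (Subgroup.mem_centralizer_iff.mp hc) y rfl
  have hcomm : (h * ιGL c * h⁻¹) * (h * ιGL y * h⁻¹) = (h * ιGL y * h⁻¹) * (h * ιGL c * h⁻¹) := by
    calc (h * ιGL c * h⁻¹) * (h * ιGL y * h⁻¹) = h * (ιGL c * ιGL y) * h⁻¹ := by group
      _ = h * (ιGL y * ιGL c) * h⁻¹ := by rw [← map_mul, ← map_mul, hcy]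
      _ = (h * ιGL y * h⁻¹) * (h * ιGL c * h⁻¹) := by group
  rw [← hu₀] at hcomm
  have hM : ((h * ιGL c * h⁻¹ : GL (Fin 4) F) : Matrix (Fin 4) (Fin 4) F) * ψ (u₀ : L) =
      ψ (u₀ : L) * ((h * ιGL c * h⁻¹ : GL (Fin 4) F) : Matrix (Fin 4) (Fin 4) F) := by
    have := congrArg Units.val hcomm
    rw [Units.val_mul, Units.val_mul] at this
    exact this
  exact matrix_commutant (2 ^ (2 * m + 1)) hF hQ2 h4 b (u₀ : L) hu1 p hup a1 a2 a3 _ hM

end
section
variable [Fintype F] {m : ℕ} (hF : Fintype.card F = 2 ^ (2 * m + 1))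
include hF

/-- an element commuting with a non-identity element that has a fixed point has a fixed point -/
theorem comm_fix (hm : 1 ≤ m) (x c : ↥(Cfsg.Sz F m)) (hc1 : c ≠ 1) (hxc : x * c = c * x)
    (ω : ↥(Cfsg.suzukiOvoid F m)) (hω : c • ω = ω) :
    ∃ ω' : ↥(Cfsg.suzukiOvoid F m), x • ω' = ω' := by
  by_cases h1 : x • ω = ω
  · exact ⟨ω, h1⟩
  have h2 : c • (x • ω) = x • ω := by rw [← mul_smul, ← hxc, mul_smul, hω]
  have h3 : c • (x • (x • ω)) = x • (x • ω) := by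
    rw [← mul_smul, ← hxc, mul_smul, h2]
  rcases fix_sub_pair hF hm c hc1 ω (x • ω) (x • (x • ω)) (Ne.symm h1) hω h2 h3 with h | h
  · -- x swaps ω and x • ω
    have hsq := swap_sq hF hm x ω (x • ω) (Ne.symm h1) rfl h
    exact invol_fixes hF x hsq
  · exact ⟨x • ω, h⟩

/-- a fixed-point-free element has a power of odd prime order `p ∣ q² + 1` -/
theorem fpf_power (hm : 1 ≤ m) (x : ↥(Cfsg.Sz F m))
    (hx : ∀ ω : ↥(Cfsg.suzukiOvoid F m), x • ω ≠ ω) :
    ∃ (p : ℕ) (k : ℕ), p.Prime ∧ p ≠ 2 ∧ p ∣ (2 ^ (2 * m + 1)) ^ 2 + 1 ∧ x ^ k ≠ 1 ∧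
      (x ^ k) ^ p = 1 ∧ ∀ ω : ↥(Cfsg.suzukiOvoid F m), (x ^ k) • ω ≠ ω := by
  haveI : Finite ↥(Cfsg.Sz F m) := inferInstance
  have hx1 : x ≠ 1 := by
    intro h
    exact hx (infΩ F m) (by rw [h, one_smul])
  have hn1 : orderOf x ≠ 1 := fun h => hx1 (orderOf_eq_one_iff.mp h)
  have hn0 : 0 < orderOf x := orderOf_pos x
  obtain ⟨p, hp, hpd⟩ := Nat.exists_prime_and_dvd hn1
  haveI : Fact p.Prime := ⟨hp⟩
  have hord : orderOf (x ^ (orderOf x / p)) = p := orderOf_pow_orderOf_div hn0.ne' hpd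
  have hy1 : x ^ (orderOf x / p) ≠ 1 := by
    intro h
    rw [h, orderOf_one] at hord
    exact hp.one_lt.ne hord
  have hyp : (x ^ (orderOf x / p)) ^ p = 1 := by
    have h5 := pow_orderOf_eq_one (x ^ (orderOf x / p))
    rw [hord] at h5
    exact h5
  have hyfpf : ∀ ω : ↥(Cfsg.suzukiOvoid F m), (x ^ (orderOf x / p)) • ω ≠ ω := by
    intro ω hω
    have hcomm : x * x ^ (orderOf x / p) = x ^ (orderOf x / p) * x := by
      rw [← pow_succ', ← pow_succ]
    obtain ⟨ω', hω'⟩ := comm_fix hF hm x _ hy1 hcomm ω hω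
    exact hx ω' hω'
  have hmod := fixed_mod hF (x ^ (orderOf x / p)) p hyp
  rw [Ω_card hF] at hmod
  haveI : IsEmpty {ω : ↥(Cfsg.suzukiOvoid F m) // (x ^ (orderOf x / p)) • ω = ω} :=
    ⟨fun ω => hyfpf ω.1 ω.2⟩
  rw [Nat.card_of_isEmpty] at hmod
  have hpdvd : p ∣ (2 ^ (2 * m + 1)) ^ 2 + 1 := (Nat.modEq_zero_iff_dvd).mp hmod
  have hp2 : p ≠ 2 := by
    intro h
    rw [h] at hpdvd
    have h3 : 2 ∣ (2 ^ (2 * m + 1)) ^ 2 := by
      rw [← pow_mul]; exact dvd_pow_self 2 (by omega)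
    omega
  exact ⟨p, orderOf x / p, hp, hp2, hpdvd, hy1, hyp, hyfpf⟩

/-- centralisers of elements of odd prime order dividing `q² + 1` are cyclic -/
theorem cent_prime_cyclic (y : ↥(Cfsg.Sz F m)) (hy1 : y ≠ 1) (p : ℕ) [Fact p.Prime] (hp2 : p ≠ 2)
    (hpd : p ∣ (2 ^ (2 * m + 1)) ^ 2 + 1) (hyp : y ^ p = 1) :
    IsCyclic (Subgroup.centralizer ({y} : Set ↥(Cfsg.Sz F m))) := by
  obtain ⟨L, instL, instA, b, h, h4, key⟩ := cent_in_singer hF y hy1 p hp2 hpd hyp
  let ψ := Algebra.leftMulMatrix b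
  have hψ : Function.Injective ψ := Algebra.leftMulMatrix_injective b
  let χ : Lˣ →* GL (Fin 4) F := Units.map ψ.toMonoidHom
  haveI : IsCyclic χ.range := by
    haveI : Module.Finite F L := Module.finite_of_finrank_pos (by rw [h4]; norm_num)
    haveI : Finite L := Module.finite_of_finite F
    exact isCyclic_of_surjective χ.rangeRestrict χ.rangeRestrict_surjective
  let Φ : ↥(Subgroup.centralizer ({y} : Set ↥(Cfsg.Sz F m))) →* GL (Fin 4) F :=
    (MulAut.conj h).toMonoidHom.comp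
      (ιGL.comp (Subgroup.centralizer ({y} : Set ↥(Cfsg.Sz F m))).subtype)
  have hΦ : ∀ c, Φ c = h * ιGL (c : ↥(Cfsg.Sz F m)) * h⁻¹ := fun c => rfl
  have hΦinj : Function.Injective Φ := by
    intro c₁ c₂ h12
    rw [hΦ, hΦ] at h12
    have : ιGL (c₁ : ↥(Cfsg.Sz F m)) = ιGL (c₂ : ↥(Cfsg.Sz F m)) := by
      have := mul_right_cancel h12
      exact mul_left_cancel this
    exact Subtype.ext (ιGL_injective this)
  have hΦmem : ∀ c, Φ c ∈ χ.range := by
    intro c
    obtain ⟨u, hu⟩ := key c.1 c.2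
    have hu0 : u ≠ 0 := by
      intro h0
      rw [h0, map_zero] at hu
      have h1 : ((h * ιGL (c : ↥(Cfsg.Sz F m)) * h⁻¹ : GL (Fin 4) F) : Matrix (Fin 4) (Fin 4) F) *
          ((h * ιGL (c : ↥(Cfsg.Sz F m)) * h⁻¹ : GL (Fin 4) F)⁻¹ : GL (Fin 4) F) = 1 := by
        rw [← Units.val_mul, mul_inv_cancel, Units.val_one]
      rw [hu, zero_mul] at h1
      exact zero_ne_one h1
    refine ⟨Units.mk0 u hu0, ?_⟩
    apply Units.ext
    rw [hΦ, hu]
    rfl
  let Φ' : ↥(Subgroup.centralizer ({y} : Set ↥(Cfsg.Sz F m))) →* ↥χ.range :=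
    Φ.codRestrict χ.range hΦmem
  have hΦ'inj : Function.Injective Φ' := by
    intro c₁ c₂ h12
    exact hΦinj (congrArg Subtype.val h12)
  exact isCyclic_of_injective Φ' hΦ'inj

/-- the centraliser of a fixed-point-free element is cyclic -/
theorem cent_fpf_cyclic (hm : 1 ≤ m) (x : ↥(Cfsg.Sz F m))
    (hx : ∀ ω : ↥(Cfsg.suzukiOvoid F m), x • ω ≠ ω) :
    IsCyclic (Subgroup.centralizer ({x} : Set ↥(Cfsg.Sz F m))) := by
  obtain ⟨p, k, hp, hp2, hpd, hy1, hyp, -⟩ := fpf_power hF hm x hx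
  haveI : Fact p.Prime := ⟨hp⟩
  haveI := cent_prime_cyclic hF (x ^ k) hy1 p hp2 hpd hyp
  have hle : Subgroup.centralizer ({x} : Set ↥(Cfsg.Sz F m)) ≤
      Subgroup.centralizer ({x ^ k} : Set ↥(Cfsg.Sz F m)) := by
    intro c hc
    have hcx : x * c = c * x := (Subgroup.mem_centralizer_iff.mp hc) x rfl
    rw [Subgroup.mem_centralizer_iff]
    intro z hz
    rw [Set.mem_singleton_iff.mp hz]
    exact ((Commute.pow_left (show Commute x c from hcx) k)).eq
  exact Subgroup.isCyclic_of_le hle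

theorem S0332_main (hm : 1 ≤ m) : Cfsg.IsCNGroup ↥(Cfsg.Sz F m) := by
  haveI : Finite ↥(Cfsg.Sz F m) := inferInstance
  intro g hg
  by_cases h1 : ∃ ω : ↥(Cfsg.suzukiOvoid F m), g • ω = ω
  · obtain ⟨ω, hω⟩ := h1
    by_cases h2 : ∃ ω' : ↥(Cfsg.suzukiOvoid F m), ω' ≠ ω ∧ g • ω' = ω'
    · obtain ⟨ω', hne, hω'⟩ := h2
      have hcomm := cent_two_fix hF hm g hg ω ω' (Ne.symm hne) hω hω'
      letI : CommGroup ↥(Subgroup.centralizer ({g} : Set ↥(Cfsg.Sz F m))) :=
        { (inferInstance : Group ↥(Subgroup.centralizer ({g} : Set ↥(Cfsg.Sz F m)))) with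
          mul_comm := fun a b => Subtype.ext (hcomm a.1 a.2 b.1 b.2) }
      exact CommGroup.isNilpotent
    · push Not at h2
      haveI : Fact (Nat.Prime 2) := ⟨Nat.prime_two⟩
      have := cent_unique_fix hF hm g hg ω hω
        (fun ω' h => by_contra fun hne => h2 ω' hne h)
      exact this.isNilpotent
  · push Not at h1
    haveI := cent_fpf_cyclic hF hm g h1
    letI : CommGroup ↥(Subgroup.centralizer ({g} : Set ↥(Cfsg.Sz F m))) := IsCyclic.commGroup
    exact CommGroup.isNilpotent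

end
end Cfsg.Agent.Lib.Helper4_SzCN
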