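import Mathlib
import Cfsg.Prelude.Def_LieExceptional
import Cfsg.Prelude.Def_Sz
import Cfsg.Agent.Lib.Helper4_SzMax

set_option linter.all false
set_option autoImplicit false

namespace Cfsg.Agent.Lib.Helper4_SzLie
open Cfsg.Agent.Lib.Helper4_SzOvoid Cfsg.Agent.Lib.Helper4_SzGroup Cfsg.Agent.Lib.Helper4_SzSylow
  Cfsg.Agent.Lib.Helper4_SzReal Cfsg.Agent.Lib.Helper4_SzZass Cfsg.Agent.Lib.Helper4_SzSimple
  Cfsg.Agent.Lib.Helper4_SzMax
open scoped Pointwise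

variable {F : Type*} [Field F]

/-- the form matrix -/
abbrev Jm (F : Type*) [Field F] : Matrix (Fin 4) (Fin 4) F := Cfsg.suzukiForm F

theorem Jm_mul_self : Jm F * Jm F = 1 := by
  ext i j
  fin_cases i <;> fin_cases j <;> simp [Jm, Cfsg.suzukiForm, Matrix.mul_apply, Fin.sum_univ_four]

theorem Jm_det : (Jm F).det = 1 := Wm_det

theorem altForm_eq (u v : Fin 4 → F) :
    Cfsg.Lie.altForm4 u v = u ⬝ᵥ ((Jm F).mulVec v) := by
  simp [Cfsg.Lie.altForm4, Jm, Cfsg.suzukiForm, dotProduct, Matrix.mulVec, Fin.sum_univ_four]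

/-- membership in `Sp4` in matrix form -/
theorem mem_Sp4_iff (g : GL (Fin 4) F) :
    g ∈ Cfsg.Lie.Sp4 F ↔ (g : Matrix (Fin 4) (Fin 4) F).transpose * Jm F *
      (g : Matrix (Fin 4) (Fin 4) F) = Jm F := by
  constructor
  · intro h
    ext i j
    have := h (Pi.single i 1) (Pi.single j 1)
    rw [altForm_eq, altForm_eq] at this
    simp only [Units.coeHom_apply] at this
    rw [Matrix.mulVec_mulVec, Matrix.dotProduct_mulVec, Matrix.vecMul_mulVec] at this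
    simpa [Matrix.mul_assoc] using this
  · intro h u v
    rw [altForm_eq, altForm_eq]
    simp only [Units.coeHom_apply]
    rw [Matrix.mulVec_mulVec, Matrix.dotProduct_mulVec, Matrix.vecMul_mulVec, ← Matrix.mul_assoc, h,
      ← Matrix.dotProduct_mulVec]

/-- symplectic matrices also satisfy the transposed relation -/
theorem sp_transpose (M : Matrix (Fin 4) (Fin 4) F) (h : M.transpose * Jm F * M = Jm F) :
    M * Jm F * M.transpose = Jm F := by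
  have h1 : (Jm F * M.transpose * Jm F) * M = 1 := by
    calc (Jm F * M.transpose * Jm F) * M = Jm F * (M.transpose * Jm F * M) := by
          simp only [Matrix.mul_assoc]
      _ = 1 := by rw [h, Jm_mul_self]
  have h2 : M * (Jm F * M.transpose * Jm F) = 1 := mul_eq_one_comm.mp h1
  calc M * Jm F * M.transpose = M * (Jm F * M.transpose * Jm F) * Jm F := by
        simp only [Matrix.mul_assoc]; rw [Jm_mul_self, Matrix.mul_one]
    _ = Jm F := by rw [h2, Matrix.one_mul]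

theorem sp_det (h2 : (2 : F) = 0) (M : Matrix (Fin 4) (Fin 4) F)
    (h : M.transpose * Jm F * M = Jm F) : M.det = 1 := by
  have := congrArg Matrix.det h
  rw [Matrix.det_mul, Matrix.det_mul, Matrix.det_transpose, Jm_det, mul_one] at this
  have h3 : (M.det - 1) ^ 2 = 0 := by linear_combination this + (1 - M.det) * h2
  have := pow_eq_zero_iff (two_ne_zero) |>.mp h3
  linear_combination this

/-- column relations in minor form -/
theorem colrel (h2 : (2 : F) = 0) (M : Matrix (Fin 4) (Fin 4) F)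
    (h : M.transpose * Jm F * M = Jm F) (i j : Fin 4) (hij : Jm F i j = 0) :
    (M 0 i * M 3 j - M 3 i * M 0 j) + (M 1 i * M 2 j - M 2 i * M 1 j) = 0 := by
  have := congrFun (congrFun h i) j
  rw [hij] at this
  simp [Jm, Cfsg.suzukiForm, Matrix.mul_apply, Fin.sum_univ_four] at this
  linear_combination this - (M 3 i * M 0 j + M 2 i * M 1 j) * h2

/-- row relations in minor form -/
theorem rowrel (h2 : (2 : F) = 0) (M : Matrix (Fin 4) (Fin 4) F)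
    (h : M * Jm F * M.transpose = Jm F) (k l : Fin 4) (hkl : Jm F k l = 0) :
    (M k 0 * M l 3 - M l 0 * M k 3) + (M k 1 * M l 2 - M l 1 * M k 2) = 0 := by
  have := congrFun (congrFun h k) l
  rw [hkl] at this
  simp [Jm, Cfsg.suzukiForm, Matrix.mul_apply, Fin.sum_univ_four] at this
  linear_combination this - (M l 0 * M k 3 + M l 1 * M k 2) * h2

theorem Jm_pairOf (p : Fin 4) : Jm F (Cfsg.Lie.pairOf p).1 (Cfsg.Lie.pairOf p).2 = 0 := by
  fin_cases p <;> simp [Jm, Cfsg.suzukiForm, Cfsg.Lie.pairOf]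

/-- Cauchy–Binet for `2 × 2` minors -/
theorem cauchy_binet (A B : Matrix (Fin 4) (Fin 4) F) (k l i j : Fin 4) :
    (A * B) k i * (A * B) l j - (A * B) l i * (A * B) k j =
      (A k 0 * A l 1 - A l 0 * A k 1) * (B 0 i * B 1 j - B 1 i * B 0 j) +
      (A k 0 * A l 2 - A l 0 * A k 2) * (B 0 i * B 2 j - B 2 i * B 0 j) +
      (A k 1 * A l 3 - A l 1 * A k 3) * (B 1 i * B 3 j - B 3 i * B 1 j) +
      (A k 2 * A l 3 - A l 2 * A k 3) * (B 2 i * B 3 j - B 3 i * B 2 j) +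
      (A k 0 * A l 3 - A l 0 * A k 3) * (B 0 i * B 3 j - B 3 i * B 0 j) +
      (A k 1 * A l 2 - A l 1 * A k 2) * (B 1 i * B 2 j - B 2 i * B 1 j) := by
  simp only [Matrix.mul_apply, Fin.sum_univ_four]
  ring

/-- `star4` is multiplicative on symplectic matrices in characteristic two -/
theorem star4_mul (h2 : (2 : F) = 0) (A B : Matrix (Fin 4) (Fin 4) F)
    (hA : A * Jm F * A.transpose = Jm F) (hB : B.transpose * Jm F * B = Jm F) :
    Cfsg.Lie.star4 (A * B) = Cfsg.Lie.star4 A * Cfsg.Lie.star4 B := by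
  ext p r
  have ra := rowrel h2 A hA _ _ (Jm_pairOf p)
  have cb := colrel h2 B hB _ _ (Jm_pairOf r)
  rw [Matrix.mul_apply, Fin.sum_univ_four]
  simp only [Cfsg.Lie.star4, Matrix.of_apply]
  rw [cauchy_binet]
  have e0 : Cfsg.Lie.pairOf 0 = (0, 1) := rfl
  have e1 : Cfsg.Lie.pairOf 1 = (0, 2) := rfl
  have e2 : Cfsg.Lie.pairOf 2 = (1, 3) := rfl
  have e3 : Cfsg.Lie.pairOf 3 = (2, 3) := rfl
  rw [e0, e1, e2, e3]
  simp only
  obtain ⟨k, hk⟩ : ∃ k, k = (Cfsg.Lie.pairOf p).1 := ⟨_, rfl⟩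
  obtain ⟨l, hl⟩ : ∃ l, l = (Cfsg.Lie.pairOf p).2 := ⟨_, rfl⟩
  obtain ⟨i, hi⟩ : ∃ i, i = (Cfsg.Lie.pairOf r).1 := ⟨_, rfl⟩
  obtain ⟨j, hj⟩ : ∃ j, j = (Cfsg.Lie.pairOf r).2 := ⟨_, rfl⟩
  rw [← hk, ← hl] at ra ⊢
  rw [← hi, ← hj] at cb ⊢
  linear_combination (B 0 i * B 3 j - B 3 i * B 0 j) * ra + (A k 1 * A l 2 - A l 1 * A k 2) * cb -
    ((A k 1 * A l 2 - A l 1 * A k 2) * (B 0 i * B 3 j - B 3 i * B 0 j)) * h2

theorem char2_close (h2 : (2 : F) = 0) (X Y : F) (h : X + Y = 0) : X = Y := by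
  linear_combination h - Y * h2

section
variable (h2 : (2 : F) = 0)
include h2
theorem t2 (x : F) : x * 2 = 0 := by rw [h2, mul_zero]
theorem t4 (x : F) : x * 4 = 0 := by linear_combination (2 * x) * h2
theorem t6 (x : F) : x * 6 = 0 := by linear_combination (3 * x) * h2
theorem t8 (x : F) : x * 8 = 0 := by linear_combination (4 * x) * h2
theorem t3 (x : F) : x * 3 = x := by linear_combination x * h2
theorem t5 (x : F) : x * 5 = x := by linear_combination (2 * x) * h2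
end

section
variable [Fintype F] {m : ℕ} (hF : Fintype.card F = 2 ^ (2 * m + 1))
include hF

theorem star4_Tm (a b : F) :
    Cfsg.Lie.star4 (Tm m a b) = (Tm m a b).map (fun x => x ^ (2 ^ (m + 1))) := by
  obtain ⟨h2, hadd, hsq⟩ := field_facts hF
  have hσ0 : (0 : F) ^ (2 ^ (m + 1)) = 0 := zero_pow (by positivity)
  obtain ⟨A, hA⟩ : ∃ A, A = a ^ (2 ^ (m + 1)) := ⟨_, rfl⟩
  obtain ⟨B, hB⟩ : ∃ B, B = b ^ (2 ^ (m + 1)) := ⟨_, rfl⟩
  have hAA : A ^ (2 ^ (m + 1)) = a ^ 2 := by rw [hA, hsq]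
  have hBB : B ^ (2 ^ (m + 1)) = b ^ 2 := by rw [hB, hsq]
  have p1 : a ^ (2 ^ (m + 1) + 1) = A * a := by rw [hA, pow_succ]
  have p2 : a ^ (2 ^ (m + 1) + 2) = A * a ^ 2 := by rw [hA, pow_add]
  have e02 : (b + A * a) ^ (2 ^ (m + 1)) = B + a ^ 2 * A := by
    rw [hadd, mul_pow, hAA, ← hA, ← hB]
  have e03 : (a * b + A * a ^ 2 + B) ^ (2 ^ (m + 1)) = A * B + a ^ 2 * A ^ 2 + b ^ 2 := by
    rw [hadd, hadd, mul_pow, mul_pow, hAA, hBB, ← pow_mul, mul_comm 2, pow_mul, ← hA, ← hB]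
  ext p r
  fin_cases p <;> fin_cases r <;>
    simp [Cfsg.Lie.star4, Cfsg.Lie.pairOf, Tm, p1, p2, ← hA, ← hB, hσ0, hAA, e02, e03]
  all_goals first
    | ring1
    | (apply char2_close h2; ring_nf; try simp only [t2 h2, t4 h2, add_zero, zero_add])

end

section
variable [Fintype F] {m : ℕ} (hF : Fintype.card F = 2 ^ (2 * m + 1))
include hF

theorem star4_Wm :
    Cfsg.Lie.star4 (Wm : Matrix (Fin 4) (Fin 4) F) =
      (Wm : Matrix (Fin 4) (Fin 4) F).map (fun x => x ^ (2 ^ (m + 1))) := by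
  have hσ0 : (0 : F) ^ (2 ^ (m + 1)) = 0 := zero_pow (by positivity)
  obtain ⟨h2, hadd, hsq⟩ := field_facts hF
  have hneg : (-1 : F) = 1 := by linear_combination -h2
  ext p r
  fin_cases p <;> fin_cases r <;>
    simp [Cfsg.Lie.star4, Cfsg.Lie.pairOf, Wm, hσ0, hneg]

theorem star4_Dm (α : Fˣ) :
    Cfsg.Lie.star4 (Dm m α) = (Dm m α).map (fun x => x ^ (2 ^ (m + 1))) := by
  obtain ⟨h2, hadd, hsq⟩ := field_facts hF
  have hσ0 : (0 : F) ^ (2 ^ (m + 1)) = 0 := zero_pow (by positivity)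
  have k1 : ∀ x : F, (x ^ (2 ^ m)) ^ (2 ^ (m + 1)) = x := by
    intro x
    have e : 2 ^ m * 2 ^ (m + 1) = Fintype.card F := by rw [hF]; ring
    rw [← pow_mul, e, FiniteField.pow_card]
  have k2 : ∀ x : F, (x ^ (2 ^ m + 1)) ^ (2 ^ (m + 1)) = x ^ (2 ^ m + 1) * x ^ (2 ^ m) := by
    intro x
    have e : (2 ^ m + 1) * 2 ^ (m + 1) = Fintype.card F + 2 ^ (m + 1) := by rw [hF]; ring
    have e' : 2 ^ (m + 1) = 2 ^ m + 2 ^ m := by rw [pow_succ]; ring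
    rw [← pow_mul, e, pow_add, FiniteField.pow_card, e']
    ring
  obtain ⟨a, ha⟩ : ∃ a : F, a = (α : F) := ⟨_, rfl⟩
  obtain ⟨b, hb⟩ : ∃ b : F, b = ((α⁻¹ : Fˣ) : F) := ⟨_, rfl⟩
  have hab : a * b = 1 := by rw [ha, hb, ← Units.val_mul, mul_inv_cancel]; rfl
  have hD : Dm m α = Matrix.diagonal ![a ^ (2 ^ m + 1), a ^ (2 ^ m), b ^ (2 ^ m), b ^ (2 ^ m + 1)] := by
    rw [Dm, ha, hb]
  rw [hD]
  ext p r
  fin_cases p <;> fin_cases r <;>
    simp [Cfsg.Lie.star4, Cfsg.Lie.pairOf, Matrix.diagonal, hσ0, k1, k2]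
  · calc a ^ (2 ^ m + 1) * b ^ 2 ^ m = (a * b) ^ 2 ^ m * a := by rw [mul_pow]; ring
      _ = a := by rw [hab, one_pow, one_mul]
  · calc a ^ 2 ^ m * b ^ (2 ^ m + 1) = (a * b) ^ 2 ^ m * b := by rw [mul_pow]; ring
      _ = b := by rw [hab, one_pow, one_mul]
  · ring

end

/-- the matrix conditions defining the Suzuki group in the Lie-type realisation -/
def IsSθ (e : ℕ) (M : Matrix (Fin 4) (Fin 4) F) : Prop :=
  M.transpose * Jm F * M = Jm F ∧ Cfsg.Lie.star4 M = M.map (fun x => x ^ e)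

section
variable [Fintype F] {m : ℕ} (hF : Fintype.card F = 2 ^ (2 * m + 1))
include hF

theorem map_pow_mul (A B : Matrix (Fin 4) (Fin 4) F) :
    (A * B).map (fun x => x ^ (2 ^ (m + 1))) =
      A.map (fun x => x ^ (2 ^ (m + 1))) * B.map (fun x => x ^ (2 ^ (m + 1))) := by
  obtain ⟨h2, hadd, hsq⟩ := field_facts hF
  ext i j
  simp only [Matrix.map_apply, Matrix.mul_apply, Fin.sum_univ_four]
  rw [hadd, hadd, hadd, mul_pow, mul_pow, mul_pow, mul_pow]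

theorem IsSθ_mul {A B : Matrix (Fin 4) (Fin 4) F} (hA : IsSθ (2 ^ (m + 1)) A)
    (hB : IsSθ (2 ^ (m + 1)) B) : IsSθ (2 ^ (m + 1)) (A * B) := by
  obtain ⟨h2, hadd, hsq⟩ := field_facts hF
  refine ⟨?_, ?_⟩
  · rw [Matrix.transpose_mul]
    calc B.transpose * A.transpose * Jm F * (A * B)
        = B.transpose * (A.transpose * Jm F * A) * B := by simp only [Matrix.mul_assoc]
      _ = Jm F := by rw [hA.1, hB.1]
  · rw [star4_mul h2 A B (sp_transpose A hA.1) hB.1, hA.2, hB.2, map_pow_mul hF]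

theorem IsSθ_Tm (a b : F) : IsSθ (2 ^ (m + 1)) (Tm m a b) := by
  obtain ⟨h2, hadd, hsq⟩ := field_facts hF
  exact ⟨(mem_SpJ (Tg m a b)).mp (Tg_mem_SpJ h2 m a b), star4_Tm hF a b⟩

theorem IsSθ_Wm : IsSθ (2 ^ (m + 1)) (Wm : Matrix (Fin 4) (Fin 4) F) :=
  ⟨(mem_SpJ (Wg : Matrix.SpecialLinearGroup (Fin 4) F)).mp Wg_mem_SpJ, star4_Wm hF⟩

theorem IsSθ_Dm (α : Fˣ) : IsSθ (2 ^ (m + 1)) (Dm m α) :=
  ⟨(mem_SpJ (Dg m α)).mp (Dg_mem_SpJ m α), star4_Dm hF α⟩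

theorem Sz_decomp (hm : 1 ≤ m) (g : Matrix.SpecialLinearGroup (Fin 4) F) (hg : g ∈ Cfsg.Sz F m) :
    (∃ (a b : F) (α : Fˣ), g = Tg m a b * Dg m α) ∨
      (∃ (x y a b : F) (α : Fˣ), g = Tg m x y * Wg * (Tg m a b * Dg m α)) := by
  have hmem : g • Cfsg.suzukiPointInfinity F ∈ Cfsg.suzukiOvoid F m := by
    have hg' : g • Cfsg.suzukiOvoid F m = Cfsg.suzukiOvoid F m := MulAction.mem_stabilizer_iff.mp hg
    rw [← hg']
    exact Set.smul_mem_smul_set (ptInf_mem m)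
  rcases (mem_ovoid_iff m _).mp hmem with h | ⟨x, y, h⟩
  · left; exact stab_inf_decomp hF hm g hg h
  · right
    have hT : Tg m x y • pt m (0 : F) 0 = pt m x y := Tg_zero_pt hF x y
    have h1 : (Wg * (Tg m x y)⁻¹ * g) ∈ Cfsg.Sz F m :=
      (Cfsg.Sz F m).mul_mem ((Cfsg.Sz F m).mul_mem (Wg_mem hF)
        ((Cfsg.Sz F m).inv_mem (Tg_mem hF x y))) hg
    have h3 : (Wg * (Tg m x y)⁻¹ * g) • Cfsg.suzukiPointInfinity F =
        Cfsg.suzukiPointInfinity F := by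
      rw [mul_smul, mul_smul, h, ← hT, inv_smul_smul, Wg_zero hF]
    obtain ⟨a, b, α, e⟩ := stab_inf_decomp hF hm _ h1 h3
    refine ⟨x, y, a, b, α, ?_⟩
    rw [← e]
    have hW : (Wg : Matrix.SpecialLinearGroup (Fin 4) F)⁻¹ = Wg :=
      inv_eq_of_mul_eq_one_left Wg_mul_self
    calc g = Tg m x y * Wg⁻¹ * (Wg * (Tg m x y)⁻¹ * g) := by group
      _ = _ := by rw [hW]

theorem IsSθ_of_mem_Sz (hm : 1 ≤ m) (g : Matrix.SpecialLinearGroup (Fin 4) F)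
    (hg : g ∈ Cfsg.Sz F m) : IsSθ (2 ^ (m + 1)) (g : Matrix (Fin 4) (Fin 4) F) := by
  rcases Sz_decomp hF hm g hg with ⟨a, b, α, rfl⟩ | ⟨x, y, a, b, α, rfl⟩
  · exact IsSθ_mul hF (IsSθ_Tm hF a b) (IsSθ_Dm hF α)
  · exact IsSθ_mul hF (IsSθ_mul hF (IsSθ_Tm hF x y) (IsSθ_Wm hF))
      (IsSθ_mul hF (IsSθ_Tm hF a b) (IsSθ_Dm hF α))

end

section
variable [Fintype F] {m : ℕ} (hF : Fintype.card F = 2 ^ (2 * m + 1))
include hF

/-- the first column of a matrix satisfying the Suzuki conditions is a point of the ovoid -/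
theorem col0_mem_ovoid (M : Matrix (Fin 4) (Fin 4) F) (hM : IsSθ (2 ^ (m + 1)) M)
    (hc : (fun i => M i 0) ≠ 0) :
    Projectivization.mk F (fun i => M i 0) hc ∈ Cfsg.suzukiOvoid F m := by
  obtain ⟨h2, hadd, hsq⟩ := field_facts hF
  have hσ0 : (0 : F) ^ (2 ^ (m + 1)) = 0 := zero_pow (by positivity)
  obtain ⟨hsp, hstar⟩ := hM
  have s0 := congrFun (congrFun hstar 0) 0
  have s1 := congrFun (congrFun hstar 1) 0
  have s2 := congrFun (congrFun hstar 2) 0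
  have s3 := congrFun (congrFun hstar 3) 0
  simp [Cfsg.Lie.star4, Cfsg.Lie.pairOf] at s0 s1 s2 s3
  have cr := colrel h2 M hsp 0 1 (by simp [Jm, Cfsg.suzukiForm])
  obtain ⟨c0, hc0⟩ : ∃ c0, c0 = M 0 0 := ⟨_, rfl⟩
  obtain ⟨c1, hc1⟩ : ∃ c1, c1 = M 1 0 := ⟨_, rfl⟩
  obtain ⟨c2, hc2⟩ : ∃ c2, c2 = M 2 0 := ⟨_, rfl⟩
  obtain ⟨c3, hc3⟩ : ∃ c3, c3 = M 3 0 := ⟨_, rfl⟩
  obtain ⟨d0, hd0⟩ : ∃ d0, d0 = M 0 1 := ⟨_, rfl⟩
  obtain ⟨d1, hd1⟩ : ∃ d1, d1 = M 1 1 := ⟨_, rfl⟩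
  obtain ⟨d2, hd2⟩ : ∃ d2, d2 = M 2 1 := ⟨_, rfl⟩
  obtain ⟨d3, hd3⟩ : ∃ d3, d3 = M 3 1 := ⟨_, rfl⟩
  rw [← hc0, ← hc1, ← hd0, ← hd1] at s0
  rw [← hc0, ← hc2, ← hd0, ← hd2, ← hc1] at s1
  rw [← hc1, ← hc3, ← hd1, ← hd3, ← hc2] at s2
  rw [← hc2, ← hc3, ← hd2, ← hd3] at s3
  rw [← hc0, ← hc1, ← hc2, ← hc3, ← hd0, ← hd1, ← hd2, ← hd3] at cr
  obtain ⟨w, hw⟩ : ∃ w, w = c0 * d3 - c3 * d0 := ⟨_, rfl⟩
  have R123 : c1 * c3 ^ (2 ^ (m + 1)) - c2 * c2 ^ (2 ^ (m + 1)) - c3 * w = 0 := by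
    rw [← s3, ← s2, hw]; linear_combination (-c3) * cr
  have R023 : c0 * c3 ^ (2 ^ (m + 1)) - c2 * w + c3 * c1 ^ (2 ^ (m + 1)) = 0 := by
    rw [← s3, ← s1, hw]; ring
  have R012 : -(c0 * w) - c1 * c1 ^ (2 ^ (m + 1)) + c2 * c0 ^ (2 ^ (m + 1)) = 0 := by
    rw [← s1, ← s0, hw]; linear_combination (-c0) * cr
  have RP : c0 ^ (2 ^ (m + 1)) * c3 ^ (2 ^ (m + 1)) - c1 ^ (2 ^ (m + 1)) * c2 ^ (2 ^ (m + 1)) -
      w * w = 0 := by
    rw [← s0, ← s1, ← s2, ← s3, hw]; linear_combination (-(c0 * d3 - c3 * d0)) * cr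
  have hcvec : (fun i => M i 0) = ![c0, c1, c2, c3] := by
    funext i; fin_cases i <;> simp [hc0, hc1, hc2, hc3]
  by_cases h3 : c3 = 0
  · -- the point at infinity
    rw [h3, hσ0] at R123
    have hc2z : c2 = 0 := by
      have : c2 ^ (2 ^ (m + 1) + 1) = 0 := by rw [pow_succ]; linear_combination -R123
      exact pow_eq_zero_iff (by omega) |>.mp this
    rw [h3, hc2z, hσ0] at RP
    have hwz : w = 0 := by
      have : w * w = 0 := by linear_combination -RP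
      exact mul_self_eq_zero.mp this
    rw [hwz, hc2z] at R012
    have hc1z : c1 = 0 := by
      have : c1 ^ (2 ^ (m + 1) + 1) = 0 := by rw [pow_succ]; linear_combination -R012
      exact pow_eq_zero_iff (by omega) |>.mp this
    have hmk : Projectivization.mk F (fun i => M i 0) hc = Cfsg.suzukiPointInfinity F := by
      rw [ptInf_eq]
      apply mk_smul_eq c0
      rw [hcvec, h3, hc2z, hc1z]
      funext i; fin_cases i <;> simp [e0v]
    rw [hmk]; exact ptInf_mem m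
  · -- an affine point
    have E : c0 * c3 ^ (2 ^ (m + 1) + 1) =
        c2 * c1 * c3 ^ (2 ^ (m + 1)) + c2 ^ (2 ^ (m + 1) + 2) + c1 ^ (2 ^ (m + 1)) * c3 ^ 2 := by
      linear_combination c3 * R023 - c2 * R123 -
        (c2 ^ (2 ^ (m + 1) + 2) + c1 ^ (2 ^ (m + 1)) * c3 ^ 2) * h2
    have hmk : Projectivization.mk F (fun i => M i 0) hc = pt m (c2 / c3) (c1 / c3) := by
      rw [pt]
      apply mk_smul_eq c3
      rw [hcvec, Pv_eq]
      have hf : c3 * fz (2 ^ (m + 1)) (c2 / c3) (c1 / c3) = c0 := by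
        unfold fz
        have h3' : c3 ^ (2 ^ (m + 1) + 1) ≠ 0 := pow_ne_zero _ h3
        apply mul_right_cancel₀ h3'
        rw [E, div_pow, div_pow]
        field_simp
        ring
      funext i
      fin_cases i
      · simp [hf]
      · simp; field_simp
      · simp; field_simp
      · simp
    rw [hmk]; exact pt_mem m _ _

end

section
variable [Fintype F] {m : ℕ} (hF : Fintype.card F = 2 ^ (2 * m + 1))
include hF

omit hF in
theorem mulVec_e0 (M : Matrix (Fin 4) (Fin 4) F) : M.mulVec e0v = fun i => M i 0 := by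
  funext i
  rw [mulVec_four]
  simp [e0v]

theorem Sθ_mem (hm : 1 ≤ m) (s : GL (Fin 4) F)
    (hs : s ∈ Cfsg.Lie.Sp4 F ∧ Cfsg.Lie.star4 (s : Matrix (Fin 4) (Fin 4) F) =
      (s : Matrix (Fin 4) (Fin 4) F).map (fun x => x ^ (2 ^ (m + 1)))) :
    s ∈ (Cfsg.Sz F m).map Matrix.SpecialLinearGroup.toGL := by
  obtain ⟨h2, hadd, hsq⟩ := field_facts hF
  have hM : IsSθ (2 ^ (m + 1)) (s : Matrix (Fin 4) (Fin 4) F) :=
    ⟨(mem_Sp4_iff s).mp hs.1, hs.2⟩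
  have hdet : (s : Matrix (Fin 4) (Fin 4) F).det = 1 := sp_det h2 _ hM.1
  obtain ⟨s', hs'⟩ : ∃ s' : Matrix.SpecialLinearGroup (Fin 4) F,
      (s' : Matrix (Fin 4) (Fin 4) F) = (s : Matrix (Fin 4) (Fin 4) F) := ⟨⟨_, hdet⟩, rfl⟩
  refine ⟨s', ?_, ?_⟩
  · apply mem_Sz_of_maps hF
    intro p hp
    rw [← orbit_S hF] at hp
    obtain ⟨⟨h, hh⟩, rfl⟩ := hp
    show s' • (h • Cfsg.suzukiPointInfinity F) ∈ Cfsg.suzukiOvoid F m
    rw [← mul_smul, ptInf_eq]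
    obtain ⟨hw, e⟩ := smul_mk' (s' * h) e0v e0v_ne_zero
    rw [e]
    have hIs : IsSθ (2 ^ (m + 1)) ((s' * h : Matrix.SpecialLinearGroup (Fin 4) F) :
        Matrix (Fin 4) (Fin 4) F) := by
      rw [Matrix.SpecialLinearGroup.coe_mul, hs']
      exact IsSθ_mul hF hM (IsSθ_of_mem_Sz hF hm h hh)
    have hne : (fun i => ((s' * h : Matrix.SpecialLinearGroup (Fin 4) F) :
        Matrix (Fin 4) (Fin 4) F) i 0) ≠ 0 := by
      rw [← mulVec_e0]; exact hw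
    have := col0_mem_ovoid hF _ hIs hne
    have hcongr : Projectivization.mk F (((s' * h : Matrix.SpecialLinearGroup (Fin 4) F) :
        Matrix (Fin 4) (Fin 4) F).mulVec e0v) hw =
        Projectivization.mk F (fun i => ((s' * h : Matrix.SpecialLinearGroup (Fin 4) F) :
        Matrix (Fin 4) (Fin 4) F) i 0) hne := mk_congr _ _ _ _ (mulVec_e0 _)
    rw [hcongr]; exact this
  · apply Units.ext
    exact hs'

theorem LieSz_eq (hm : 1 ≤ m) :
    Cfsg.Lie.Sz F (2 ^ (m + 1)) = (Cfsg.Sz F m).map Matrix.SpecialLinearGroup.toGL := by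
  apply le_antisymm
  · unfold Cfsg.Lie.Sz
    rw [Subgroup.closure_le]
    intro s hs
    exact Sθ_mem hF hm s hs
  · rintro _ ⟨g, hg, rfl⟩
    apply Subgroup.subset_closure
    have h := IsSθ_of_mem_Sz hF hm g hg
    exact ⟨(mem_Sp4_iff _).mpr h.1, h.2⟩

/-- the two realisations of the Suzuki group are isomorphic -/
noncomputable def LieSzEquiv (hm : 1 ≤ m) :
    ↥(Cfsg.Sz F m) ≃* ↥(Cfsg.Lie.Sz F (2 ^ (m + 1))) :=
  ((Cfsg.Sz F m).equivMapOfInjective Matrix.SpecialLinearGroup.toGL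
    Matrix.SpecialLinearGroup.toGL_injective).trans
    (MulEquiv.subgroupCongr (LieSz_eq hF hm).symm)

theorem S1162_main (hm : 1 ≤ m) : IsSimpleGroup ↥(Cfsg.Lie.Sz F (2 ^ (m + 1))) := by
  haveI := Sz_simple hF hm
  exact (LieSzEquiv hF hm).symm.isSimpleGroup

end

end Cfsg.Agent.Lib.Helper4_SzLie
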