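import Mathlib
import Cfsg.Prelude.Def_LieExceptional
import Cfsg.Prelude.Def_Sz
import Cfsg.Agent.Lib.Helper4_SzLie

set_option linter.all false
set_option autoImplicit false

namespace Cfsg.Agent.Lib.Helper4_SzLie2
open Cfsg.Agent.Lib.Helper4_SzOvoid Cfsg.Agent.Lib.Helper4_SzGroup Cfsg.Agent.Lib.Helper4_SzSylow
  Cfsg.Agent.Lib.Helper4_SzReal Cfsg.Agent.Lib.Helper4_SzZass Cfsg.Agent.Lib.Helper4_SzSimple
  Cfsg.Agent.Lib.Helper4_SzMax Cfsg.Agent.Lib.Helper4_SzLie
open scoped Pointwise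

variable {F : Type*} [Field F]

section
variable [Fintype F] {m : ℕ} (hF : Fintype.card F = 2 ^ (2 * m + 1))
include hF

/-- the unipotent subgroup acts regularly on the affine points -/
theorem T_regular (a b c d : F) : ∃! t : ↥(TSub hF), (t : ↥(Cfsg.Sz F m)) • ptΩ m a b = ptΩ m c d := by
  obtain ⟨h2, hadd, hsq⟩ := field_facts hF
  refine ⟨⟨TgG hF (c - a) (d - b - (c - a) ^ (2 ^ (m + 1)) * a), TgG_mem_TSub hF _ _⟩, ?_, ?_⟩
  · show TgG hF (c - a) (d - b - (c - a) ^ (2 ^ (m + 1)) * a) • ptΩ m a b = ptΩ m c d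
    rw [TgG_pt hF]
    congr 1 <;> ring
  · rintro ⟨t, ht⟩ h
    have h' : t • ptΩ m a b = ptΩ m c d := h
    obtain ⟨u, v, rfl⟩ := (mem_TSub_iff hF t).mp ht
    rw [TgG_pt hF] at h'
    obtain ⟨e1, e2⟩ := ptΩ_inj m _ _ _ _ h'
    apply Subtype.ext
    show TgG hF u v = TgG hF (c - a) (d - b - (c - a) ^ (2 ^ (m + 1)) * a)
    have hu : u = c - a := by linear_combination e1
    subst hu
    congr 1
    linear_combination e2

theorem S1163_generic (hm : 1 ≤ m) {H : Type*} [Group H] (e : H ≃* ↥(Cfsg.Sz F m)) :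
    Nat.card H = (2 ^ (2 * m + 1)) ^ 2 * (2 ^ (2 * m + 1) - 1) * ((2 ^ (2 * m + 1)) ^ 2 + 1) ∧
    ∃ S : Sylow 2 H,
      Nat.card (Subgroup.normalizer ((S : Subgroup H) : Set H)) =
        (2 ^ (2 * m + 1)) ^ 2 * (2 ^ (2 * m + 1) - 1) ∧
      (Subgroup.normalizer ((S : Subgroup H) : Set H)).index = (2 ^ (2 * m + 1)) ^ 2 + 1 ∧
      MulAction.IsMultiplyPretransitive H (H ⧸ Subgroup.normalizer ((S : Subgroup H) : Set H)) 2 ∧
      ∀ x y : H ⧸ Subgroup.normalizer ((S : Subgroup H) : Set H),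
        x ≠ (QuotientGroup.mk 1) → y ≠ (QuotientGroup.mk 1) →
          ∃! s : ↥(S : Subgroup H), (s : H) • x = y := by
  haveI : Fact (Nat.Prime 2) := ⟨Nat.prime_two⟩
  haveI : Finite H := Finite.of_equiv _ e.symm.toEquiv
  have hcardH : Nat.card H = (2 ^ (2 * m + 1)) ^ 2 * (2 ^ (2 * m + 1) - 1) *
      ((2 ^ (2 * m + 1)) ^ 2 + 1) := by
    rw [Nat.card_congr e.toEquiv, S0324_main hF hm]; ring
  refine ⟨hcardH, ?_⟩
  let Q : Sylow 2 ↥(Cfsg.Sz F m) := Sylow.ofCard (TSub hF) (TSub_sylow_card hF hm)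
  have hrange : (Q : Subgroup ↥(Cfsg.Sz F m)) ≤ e.toMonoidHom.range := by
    intro x _
    exact ⟨e.symm x, e.apply_symm_apply x⟩
  let S : Sylow 2 H := Q.comapOfInjective e.toMonoidHom e.injective hrange
  have hS : ∀ x : H, x ∈ (S : Subgroup H) ↔ e x ∈ TSub hF := by
    intro x
    exact Iff.rfl
  -- the normaliser
  have hN : ∀ x : H, x ∈ Subgroup.normalizer ((S : Subgroup H) : Set H) ↔
      e x • infΩ F m = infΩ F m := by
    intro x
    rw [← normalizer_TSub hF hm, Subgroup.mem_normalizer_iff, Subgroup.mem_normalizer_iff]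
    constructor
    · intro h t
      have := h (e.symm t)
      rw [hS, hS, map_mul, map_mul, map_inv, e.apply_symm_apply] at this
      exact this
    · intro h y
      rw [hS, hS, map_mul, map_mul, map_inv]
      exact h (e y)
  refine ⟨S, ?_, ?_, ?_, ?_⟩
  · -- order of the normaliser
    rw [← S0329_main hF hm]
    apply Nat.card_eq_of_bijective
      (fun x : ↥(Subgroup.normalizer ((S : Subgroup H) : Set H)) =>
        (⟨e x.1, congrArg Subtype.val ((hN x.1).mp x.2)⟩ :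
          ↥(MulAction.stabilizer ↥(Cfsg.Sz F m) (Cfsg.suzukiPointInfinity F))))
    constructor
    · intro x y h
      have := congrArg Subtype.val h
      exact Subtype.ext (e.injective this)
    · rintro ⟨g, hg⟩
      have hg' : g • infΩ F m = infΩ F m := Subtype.ext hg
      refine ⟨⟨e.symm g, (hN _).mpr (by rw [e.apply_symm_apply]; exact hg')⟩, ?_⟩
      apply Subtype.ext
      exact e.apply_symm_apply g
  · -- index of the normaliser
    have hNeq : Subgroup.normalizer ((S : Subgroup H) : Set H) =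
        (MulAction.stabilizer ↥(Cfsg.Sz F m) (infΩ F m)).comap e.toMonoidHom := by
      ext x
      rw [hN, Subgroup.mem_comap, MulAction.mem_stabilizer_iff]
      rfl
    haveI h2t := Sz_two_trans hF
    haveI htG : MulAction.IsPretransitive ↥(Cfsg.Sz F m) ↥(Cfsg.suzukiOvoid F m) :=
      MulAction.isPretransitive_of_is_two_pretransitive
    rw [hNeq, Subgroup.index_comap_of_surjective _ e.surjective,
      MulAction.index_stabilizer_of_transitive, Nat.card_coe_set_eq, ovoid_ncard,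
      Nat.card_eq_fintype_card, hF, sq]
  · -- double transitivity on the cosets
    have hmk : ∀ x y : H, (QuotientGroup.mk x : H ⧸ Subgroup.normalizer ((S : Subgroup H) : Set H)) =
        QuotientGroup.mk y ↔ e x • infΩ F m = e y • infΩ F m := by
      intro x y
      rw [QuotientGroup.eq, hN, map_mul, map_inv, mul_smul, inv_smul_eq_iff]
      exact eq_comm
    rw [MulAction.is_two_pretransitive_iff]
    intro a b c d hab hcd
    induction a using QuotientGroup.induction_on with | _ a => ?_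
    induction b using QuotientGroup.induction_on with | _ b => ?_
    induction c using QuotientGroup.induction_on with | _ c => ?_
    induction d using QuotientGroup.induction_on with | _ d => ?_
    have hab' : e a • infΩ F m ≠ e b • infΩ F m := fun h => hab ((hmk a b).mpr h)
    have hcd' : e c • infΩ F m ≠ e d • infΩ F m := fun h => hcd ((hmk c d).mpr h)
    obtain ⟨g, hg1, hg2⟩ := (MulAction.is_two_pretransitive_iff.mp (Sz_two_trans hF)) hab' hcd'
    refine ⟨e.symm g, ?_, ?_⟩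
    · show (QuotientGroup.mk (e.symm g * a) : H ⧸ _) = QuotientGroup.mk c
      rw [hmk, map_mul, e.apply_symm_apply, mul_smul, hg1]
    · show (QuotientGroup.mk (e.symm g * b) : H ⧸ _) = QuotientGroup.mk d
      rw [hmk, map_mul, e.apply_symm_apply, mul_smul, hg2]
  · -- regular action of the Sylow subgroup
    have hmk : ∀ x y : H, (QuotientGroup.mk x : H ⧸ Subgroup.normalizer ((S : Subgroup H) : Set H)) =
        QuotientGroup.mk y ↔ e x • infΩ F m = e y • infΩ F m := by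
      intro x y
      rw [QuotientGroup.eq, hN, map_mul, map_inv, mul_smul, inv_smul_eq_iff]
      exact eq_comm
    intro x y hx hy
    induction x using QuotientGroup.induction_on with | _ x => ?_
    induction y using QuotientGroup.induction_on with | _ y => ?_
    have hx' : e x • infΩ F m ≠ infΩ F m := by
      intro h
      apply hx
      rw [hmk, map_one, one_smul, h]
    have hy' : e y • infΩ F m ≠ infΩ F m := by
      intro h
      apply hy
      rw [hmk, map_one, one_smul, h]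
    rcases Ω_cases m (e x • infΩ F m) with h | ⟨a, b, hab⟩
    · exact absurd h hx'
    rcases Ω_cases m (e y • infΩ F m) with h | ⟨c, d, hcd⟩
    · exact absurd h hy'
    obtain ⟨⟨t, ht⟩, ht1, ht2⟩ := T_regular hF a b c d
    have ht1' : t • ptΩ m a b = ptΩ m c d := ht1
    refine ⟨⟨e.symm t, (hS _).mpr (by rw [e.apply_symm_apply]; exact ht)⟩, ?_, ?_⟩
    · show (QuotientGroup.mk (e.symm t * x) : H ⧸ _) = QuotientGroup.mk y
      rw [hmk, map_mul, e.apply_symm_apply, mul_smul, hab, hcd, ht1']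
    · rintro ⟨s, hs⟩ hs1
      have hs1' : (QuotientGroup.mk (s * x) : H ⧸ _) = QuotientGroup.mk y := hs1
      rw [hmk, map_mul, mul_smul, hab, hcd] at hs1'
      have := ht2 ⟨e s, (hS s).mp hs⟩ hs1'
      apply Subtype.ext
      show s = e.symm t
      have h3 : e s = t := congrArg Subtype.val this
      rw [← h3, e.symm_apply_apply]

theorem S1163_main (hm : 1 ≤ m) :
    Nat.card ↥(Cfsg.Lie.Sz F (2 ^ (m + 1))) = (2 ^ (2 * m + 1)) ^ 2 * (2 ^ (2 * m + 1) - 1) * ((2 ^ (2 * m + 1)) ^ 2 + 1) ∧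
    ∃ S : Sylow 2 ↥(Cfsg.Lie.Sz F (2 ^ (m + 1))),
      Nat.card (Subgroup.normalizer ((S : Subgroup ↥(Cfsg.Lie.Sz F (2 ^ (m + 1)))) : Set ↥(Cfsg.Lie.Sz F (2 ^ (m + 1))))) = (2 ^ (2 * m + 1)) ^ 2 * (2 ^ (2 * m + 1) - 1) ∧
      (Subgroup.normalizer ((S : Subgroup ↥(Cfsg.Lie.Sz F (2 ^ (m + 1)))) : Set ↥(Cfsg.Lie.Sz F (2 ^ (m + 1))))).index = (2 ^ (2 * m + 1)) ^ 2 + 1 ∧
      MulAction.IsMultiplyPretransitive ↥(Cfsg.Lie.Sz F (2 ^ (m + 1))) (↥(Cfsg.Lie.Sz F (2 ^ (m + 1))) ⧸ Subgroup.normalizer ((S : Subgroup ↥(Cfsg.Lie.Sz F (2 ^ (m + 1)))) : Set ↥(Cfsg.Lie.Sz F (2 ^ (m + 1))))) 2 ∧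
      ∀ x y : ↥(Cfsg.Lie.Sz F (2 ^ (m + 1))) ⧸ Subgroup.normalizer ((S : Subgroup ↥(Cfsg.Lie.Sz F (2 ^ (m + 1)))) : Set ↥(Cfsg.Lie.Sz F (2 ^ (m + 1)))),
        x ≠ (QuotientGroup.mk 1) → y ≠ (QuotientGroup.mk 1) → ∃! s : ↥(S : Subgroup ↥(Cfsg.Lie.Sz F (2 ^ (m + 1)))), (s : ↥(Cfsg.Lie.Sz F (2 ^ (m + 1)))) • x = y :=
  S1163_generic hF hm (LieSzEquiv hF hm).symm

end

end Cfsg.Agent.Lib.Helper4_SzLie2
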