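import Mathlib
import Cfsg.Prelude.Def_LieExceptional
import Cfsg.Prelude.Def_Transfer
import Cfsg.Agent.Lib.Helper4_SzMax

set_option linter.all false
set_option autoImplicit false

namespace Cfsg.Agent.Lib.Helper4_SzTI
open Cfsg.Agent.Lib.Helper4_SzOvoid Cfsg.Agent.Lib.Helper4_SzGroup Cfsg.Agent.Lib.Helper4_SzSylow
  Cfsg.Agent.Lib.Helper4_SzReal Cfsg.Agent.Lib.Helper4_SzZass Cfsg.Agent.Lib.Helper4_SzSimple
  Cfsg.Agent.Lib.Helper4_SzMax
open scoped Pointwise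

variable {F : Type*} [Field F]

theorem exists_subfield_set [Fintype F] {m : ℕ} (hF : Fintype.card F = 2 ^ (2 * m + 1)) (n : ℕ)
    (hn0 : n ≠ 0) (hn : n ∣ 2 * m + 1) :
    ∃ A : Set F, (0 : F) ∈ A ∧ (1 : F) ∈ A ∧ (∀ a b, a ∈ A → b ∈ A → a + b ∈ A) ∧
      (∀ a b, a ∈ A → b ∈ A → a * b ∈ A) ∧ (∀ a ∈ A, a⁻¹ ∈ A) ∧ A.ncard = 2 ^ n := by
  obtain ⟨h2, -, -⟩ := field_facts hF
  haveI : CharP F 2 := CharTwo.of_one_ne_zero_of_two_eq_zero one_ne_zero h2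
  haveI : Fact (Nat.Prime 2) := ⟨Nat.prime_two⟩
  letI : Algebra (ZMod 2) F := ZMod.algebra F 2
  have hfr : Module.finrank (ZMod 2) F = 2 * m + 1 := by
    have := FiniteField.pow_finrank_eq_card 2 F
    rw [hF] at this
    exact Nat.pow_right_injective (le_refl 2) this
  have hdvd : Module.finrank (ZMod 2) (GaloisField 2 n) ∣ Module.finrank (ZMod 2) F := by
    rw [GaloisField.finrank 2 hn0, hfr]; exact hn
  obtain ⟨f⟩ := FiniteField.nonempty_algHom_of_finrank_dvd hdvd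
  refine ⟨Set.range f, ⟨0, map_zero f⟩, ⟨1, map_one f⟩, ?_, ?_, ?_, ?_⟩
  · rintro _ _ ⟨a, rfl⟩ ⟨b, rfl⟩; exact ⟨a + b, map_add f a b⟩
  · rintro _ _ ⟨a, rfl⟩ ⟨b, rfl⟩; exact ⟨a * b, map_mul f a b⟩
  · rintro _ ⟨a, rfl⟩; exact ⟨a⁻¹, map_inv₀ f a⟩
  · have hinj : Function.Injective f := f.toRingHom.injective
    rw [← Set.image_univ, Set.ncard_image_of_injective _ hinj, Set.ncard_univ,
      GaloisField.card 2 n hn0]

theorem subfield_card_dvd [Fintype F] {m : ℕ} (hF : Fintype.card F = 2 ^ (2 * m + 1)) (A : Set F)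
    (h0 : (0 : F) ∈ A) (h1 : (1 : F) ∈ A) (hadd : ∀ a b, a ∈ A → b ∈ A → a + b ∈ A)
    (hmul : ∀ a b, a ∈ A → b ∈ A → a * b ∈ A) (n : ℕ) (hcard : A.ncard = 2 ^ n) :
    n ∣ 2 * m + 1 := by
  obtain ⟨h2, -, -⟩ := field_facts hF
  have hpow : ∀ (a : F), a ∈ A → ∀ k : ℕ, a ^ k ∈ A := by
    intro a ha k
    induction k with
    | zero => rw [pow_zero]; exact h1
    | succ k ih => rw [pow_succ]; exact hmul _ _ ih ha
  have hinv : ∀ a ∈ A, a⁻¹ ∈ A := by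
    intro a ha
    by_cases ha0 : a = 0
    · rw [ha0, inv_zero]; exact h0
    · have e : a⁻¹ = a ^ (Fintype.card F - 2) := by
        have h3 : a ^ (Fintype.card F - 1) = 1 := FiniteField.pow_card_sub_one_eq_one a ha0
        have h4 : Fintype.card F - 1 = (Fintype.card F - 2) + 1 := by
          have : 2 ^ 1 ≤ Fintype.card F := by
            rw [hF]; exact Nat.pow_le_pow_right (by norm_num) (by omega)
          omega
        rw [h4, pow_succ] at h3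
        exact inv_eq_of_mul_eq_one_left h3
      rw [e]; exact hpow a ha _
  have hneg : ∀ a ∈ A, -a ∈ A := by
    intro a ha
    have : -a = a := by linear_combination (-a) * h2
    rw [this]; exact ha
  let K : Subfield F :=
    { carrier := A
      mul_mem' := fun {a b} ha hb => hmul a b ha hb
      one_mem' := h1
      add_mem' := fun {a b} ha hb => hadd a b ha hb
      zero_mem' := h0
      neg_mem' := fun {a} ha => hneg a ha
      inv_mem' := fun a ha => hinv a ha }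
  have hK : Nat.card K = 2 ^ n := by
    rw [← hcard]
    exact Nat.card_coe_set_eq A
  have key := Module.natCard_eq_pow_finrank (K := K) (V := F)
  rw [hK, Nat.card_eq_fintype_card, hF, ← pow_mul] at key
  have := Nat.pow_right_injective (le_refl 2) key
  exact ⟨_, this⟩

section
variable [Fintype F] {m : ℕ} (hF : Fintype.card F = 2 ^ (2 * m + 1))
include hF

theorem TgG_inj (a b c d : F) (h : TgG hF a b = TgG hF c d) : a = c ∧ b = d :=
  Tg_inj m a b c d (congrArg Subtype.val h)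

theorem TgG_zero_mul (s t : F) : TgG hF 0 s * TgG hF 0 t = TgG hF 0 (s + t) := by
  rw [TgG_mul hF]
  congr 1
  · ring
  · ring

theorem TgG_central (c d s : F) : TgG hF c d * TgG hF 0 s = TgG hF 0 s * TgG hF c d := by
  rw [TgG_mul hF, TgG_mul hF, zero_pow (by positivity)]
  congr 1 <;> ring

/-- conjugation by an element of the Borel subgroup scales the centre of `T` -/
theorem conj_Z (hm : 1 ≤ m) (x : ↥(Cfsg.Sz F m)) (hx : x • infΩ F m = infΩ F m) :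
    ∃ l : F, l ≠ 0 ∧ ∀ t : F, x * TgG hF 0 t * x⁻¹ = TgG hF 0 (l * t) := by
  obtain ⟨c, d, α, rfl⟩ := stab_inf_G hF hm x hx
  refine ⟨(α : F) ^ (2 ^ (m + 1) + 1), pow_ne_zero _ α.ne_zero, ?_⟩
  intro t
  have e1 : TgG hF c d * DgG hF α * TgG hF 0 t * (TgG hF c d * DgG hF α)⁻¹ =
      TgG hF c d * TgG hF ((α : F) * 0) ((α : F) ^ (2 ^ (m + 1) + 1) * t) * (TgG hF c d)⁻¹ := by
    rw [mul_assoc (TgG hF c d), DT_comm hF hm]; group
  rw [e1, mul_zero, TgG_central hF, mul_inv_cancel_right]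

/-- the subgroup of central unipotent elements with parameter in an additive subgroup -/
def ESub (A : Set F) (h0 : (0 : F) ∈ A) (hadd : ∀ a b, a ∈ A → b ∈ A → a + b ∈ A) :
    Subgroup ↥(Cfsg.Sz F m) where
  carrier := {g | ∃ t ∈ A, g = TgG hF 0 t}
  one_mem' := ⟨0, h0, (TgG_zero hF).symm⟩
  mul_mem' := by
    rintro _ _ ⟨t, ht, rfl⟩ ⟨s, hs, rfl⟩
    exact ⟨t + s, hadd t s ht hs, TgG_zero_mul hF t s⟩
  inv_mem' := by
    rintro _ ⟨t, ht, rfl⟩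
    refine ⟨t, ht, ?_⟩
    rw [TgG_inv hF]
    congr 1
    rw [pow_succ, mul_zero, add_zero]

theorem mem_ESub (A : Set F) (h0 : (0 : F) ∈ A) (hadd : ∀ a b, a ∈ A → b ∈ A → a + b ∈ A)
    (g : ↥(Cfsg.Sz F m)) : g ∈ ESub hF A h0 hadd ↔ ∃ t ∈ A, g = TgG hF 0 t := Iff.rfl

theorem S2240_mpr (hm : 1 ≤ m) (n : ℕ) (hn : 2 ≤ n) (hdvd : n ∣ 2 * m + 1) :
    ∃ E : Subgroup ↥(Cfsg.Sz F m), Cfsg.IsElementaryAbelian 2 E ∧ Nat.card ↥E = 2 ^ n ∧
      ∀ x : ↥(Cfsg.Sz F m), E ⊓ E.map (MulAut.conj x).toMonoidHom ≠ ⊥ →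
        x ∈ Subgroup.normalizer (E : Set ↥(Cfsg.Sz F m)) := by
  obtain ⟨h2, hadd', hsq⟩ := field_facts hF
  obtain ⟨A, h0, h1, hadd, hmul, hinv, hcard⟩ := exists_subfield_set hF n (by omega) hdvd
  refine ⟨ESub hF A h0 hadd, ⟨?_, ?_⟩, ?_, ?_⟩
  · refine ⟨⟨?_⟩⟩
    rintro ⟨_, t, ht, rfl⟩ ⟨_, s, hs, rfl⟩
    apply Subtype.ext
    show TgG hF 0 t * TgG hF 0 s = TgG hF 0 s * TgG hF 0 t
    rw [TgG_zero_mul hF, TgG_zero_mul hF, add_comm]
  · rintro _ ⟨t, ht, rfl⟩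
    rw [sq, TgG_zero_mul hF, ← TgG_zero hF]
    congr 1
    linear_combination t * h2
  · rw [← hcard, ← Nat.card_coe_set_eq A]
    symm
    apply Nat.card_eq_of_bijective (fun t : ↥A => (⟨TgG hF 0 t.1, t.1, t.2, rfl⟩ : ↥(ESub hF A h0 hadd)))
    constructor
    · intro t s h
      have := congrArg Subtype.val h
      exact Subtype.ext (TgG_inj hF _ _ _ _ this).2
    · rintro ⟨_, t, ht, rfl⟩
      exact ⟨⟨t, ht⟩, rfl⟩
  · intro x hx
    obtain ⟨⟨z, hz1, hz2⟩, hz⟩ := (Subgroup.ne_bot_iff_exists_ne_one).mp hx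
    have hz' : z ≠ 1 := fun h => hz (Subtype.ext h)
    obtain ⟨t₂, ht₂, rfl⟩ := hz1
    obtain ⟨y, hy, hyz⟩ := hz2
    obtain ⟨t₁, ht₁, rfl⟩ := hy
    have hyz' : x * TgG hF 0 t₁ * x⁻¹ = TgG hF 0 t₂ := hyz
    -- x fixes ∞
    have hxinf : x • infΩ F m = infΩ F m := by
      apply T_fix_only_inf hF (TgG hF 0 t₂) (TgG_mem_TSub hF 0 t₂) hz'
      rw [← hyz', mul_smul, mul_smul, inv_smul_smul, TgG_inf hF]
    obtain ⟨l, hl0, hl⟩ := conj_Z hF hm x hxinf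
    have hxinf' : x⁻¹ • infΩ F m = infΩ F m := by rw [inv_smul_eq_iff, hxinf]
    obtain ⟨l', hl'0, hl'⟩ := conj_Z hF hm x⁻¹ hxinf'
    have ht₁0 : t₁ ≠ 0 := by
      rintro rfl
      apply hz'
      rw [← hyz', TgG_zero hF]; group
    have e1 : l * t₁ = t₂ := by
      have := hl t₁
      rw [hyz'] at this
      exact (TgG_inj hF _ _ _ _ this).2.symm
    have hlA : l ∈ A := by
      have : l = t₂ * t₁⁻¹ := by rw [← e1]; field_simp
      rw [this]; exact hmul _ _ ht₂ (hinv _ ht₁)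
    have hll' : l' * l = 1 := by
      have h3 : x⁻¹ * (x * TgG hF 0 t₁ * x⁻¹) * x⁻¹⁻¹ = TgG hF 0 t₁ := by group
      rw [hl, hl'] at h3
      have := (TgG_inj hF _ _ _ _ h3).2
      have : (l' * l - 1) * t₁ = 0 := by linear_combination this
      rcases mul_eq_zero.mp this with h | h
      · linear_combination h
      · exact absurd h ht₁0
    have hl'A : l' ∈ A := by
      have : l' = l⁻¹ := eq_inv_of_mul_eq_one_left hll'
      rw [this]; exact hinv _ hlA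
    rw [Subgroup.mem_normalizer_iff]
    intro h
    constructor
    · rintro ⟨t, ht, rfl⟩
      rw [hl]
      exact ⟨l * t, hmul _ _ hlA ht, rfl⟩
    · rintro ⟨s, hs, hhs⟩
      have : h = x⁻¹ * (x * h * x⁻¹) * x⁻¹⁻¹ := by group
      rw [this, hhs, hl']
      exact ⟨l' * s, hmul _ _ hl'A hs, rfl⟩

end

section
variable [Fintype F] {m : ℕ} (hF : Fintype.card F = 2 ^ (2 * m + 1))
include hF

theorem sylow_conj_TSub (hm : 1 ≤ m) (P : Sylow 2 ↥(Cfsg.Sz F m)) :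
    ∃ k : ↥(Cfsg.Sz F m), ∀ x : ↥(Cfsg.Sz F m),
      x ∈ (P : Subgroup ↥(Cfsg.Sz F m)) ↔ k⁻¹ * x * k ∈ TSub hF := by
  haveI : Fact (Nat.Prime 2) := ⟨Nat.prime_two⟩
  let Q : Sylow 2 ↥(Cfsg.Sz F m) := Sylow.ofCard (TSub hF) (TSub_sylow_card hF hm)
  obtain ⟨k, hk⟩ := MulAction.exists_smul_eq ↥(Cfsg.Sz F m) Q P
  refine ⟨k, ?_⟩
  intro x
  rw [← hk]
  show x ∈ MulAut.conj k • (Q : Subgroup ↥(Cfsg.Sz F m)) ↔ _
  rw [Subgroup.mem_pointwise_smul_iff_inv_smul_mem]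
  show _ ∈ TSub hF ↔ _
  simp [MulAut.smul_def, mul_assoc]

theorem DgG_conj_Z (hm : 1 ≤ m) (α : Fˣ) (t : F) :
    DgG hF α * TgG hF 0 t * (DgG hF α)⁻¹ = TgG hF 0 ((α : F) ^ (2 ^ (m + 1) + 1) * t) := by
  rw [DT_comm hF hm, mul_inv_cancel_right, mul_zero]

theorem S2240_mp (hm : 1 ≤ m) (n : ℕ) (hn : 2 ≤ n) (E : Subgroup ↥(Cfsg.Sz F m))
    (hE : Cfsg.IsElementaryAbelian 2 E) (hcard : Nat.card ↥E = 2 ^ n)
    (hTI : ∀ x : ↥(Cfsg.Sz F m), E ⊓ E.map (MulAut.conj x).toMonoidHom ≠ ⊥ →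
        x ∈ Subgroup.normalizer (E : Set ↥(Cfsg.Sz F m))) : n ∣ 2 * m + 1 := by
  obtain ⟨h2, hadd', hsq⟩ := field_facts hF
  haveI : Fact (Nat.Prime 2) := ⟨Nat.prime_two⟩
  have hpg : IsPGroup 2 ↥E := IsPGroup.of_card hcard
  obtain ⟨P, hEP⟩ := hpg.exists_le_sylow
  obtain ⟨k, hk⟩ := sylow_conj_TSub hF hm P
  -- the parameter set
  obtain ⟨A, hA⟩ : ∃ A : Set F, A = {t : F | k * TgG hF 0 t * k⁻¹ ∈ E} := ⟨_, rfl⟩
  have memA : ∀ t, t ∈ A ↔ k * TgG hF 0 t * k⁻¹ ∈ E := by intro t; rw [hA]; rfl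
  have hA0 : (0 : F) ∈ A := by
    rw [memA, TgG_zero hF, mul_one, mul_inv_cancel]; exact E.one_mem
  have hAadd : ∀ a b, a ∈ A → b ∈ A → a + b ∈ A := by
    intro a b ha hb
    rw [memA] at ha hb ⊢
    have := E.mul_mem ha hb
    have e : k * TgG hF 0 a * k⁻¹ * (k * TgG hF 0 b * k⁻¹) = k * (TgG hF 0 a * TgG hF 0 b) * k⁻¹ := by
      group
    rw [e, TgG_zero_mul hF] at this
    exact this
  -- every element of E comes from A
  have hEA : ∀ e ∈ E, ∃ t ∈ A, e = k * TgG hF 0 t * k⁻¹ := by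
    intro e he
    have h1 := (hk e).mp (hEP he)
    obtain ⟨a, b, hab⟩ := (mem_TSub_iff hF _).mp h1
    have he2 : e ^ 2 = 1 := hE.2 e he
    have h3 : (k⁻¹ * e * k) ^ 2 = 1 := by
      have : (k⁻¹ * e * k) ^ 2 = k⁻¹ * e ^ 2 * k := by rw [sq, sq]; group
      rw [this, he2]; group
    rw [hab, sq, TgG_mul hF, ← TgG_zero hF] at h3
    have h4 := (TgG_inj hF _ _ _ _ h3).2
    have ha : a = 0 := by
      have : a ^ (2 ^ (m + 1) + 1) = 0 := by
        rw [pow_succ]; linear_combination h4 - b * h2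
      exact pow_eq_zero_iff (by omega) |>.mp this
    rw [ha] at hab
    have he' : e = k * TgG hF 0 b * k⁻¹ := by rw [← hab]; group
    refine ⟨b, ?_, he'⟩
    rw [memA, ← he']; exact he
  -- cardinality of A
  have hAcard : A.ncard = 2 ^ n := by
    rw [← hcard, ← Nat.card_coe_set_eq A]
    apply Nat.card_eq_of_bijective
      (fun t : ↥A => (⟨k * TgG hF 0 t.1 * k⁻¹, (memA t.1).mp t.2⟩ : ↥E))
    constructor
    · intro t s h
      have h' : k * TgG hF 0 t.1 * k⁻¹ = k * TgG hF 0 s.1 * k⁻¹ := congrArg Subtype.val h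
      have h'' : TgG hF 0 t.1 = TgG hF 0 s.1 := by
        have e1 : ∀ z : ↥(Cfsg.Sz F m), k⁻¹ * (k * z * k⁻¹) * k = z := by intro z; group
        rw [← e1 (TgG hF 0 t.1), h', e1]
      exact Subtype.ext (TgG_inj hF _ _ _ _ h'').2
    · rintro ⟨e, he⟩
      obtain ⟨t, ht, rfl⟩ := hEA e he
      exact ⟨⟨t, ht⟩, rfl⟩
  -- the key closure property
  have star : ∀ l : F, l ≠ 0 → (∃ t₁ ∈ A, t₁ ≠ 0 ∧ l * t₁ ∈ A) → ∀ t ∈ A, l * t ∈ A := by
    intro l hl0 ⟨t₁, ht₁, ht₁0, hlt₁⟩ t ht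
    obtain ⟨a, ha⟩ := pow_sigma_succ_surj hF l
    have ha0 : a ≠ 0 := by
      rintro rfl
      rw [zero_pow (by positivity)] at ha
      exact hl0 ha.symm
    obtain ⟨α, hα⟩ : ∃ α : Fˣ, (α : F) = a := ⟨Units.mk0 a ha0, rfl⟩
    obtain ⟨x, hx⟩ : ∃ x, x = k * DgG hF α * k⁻¹ := ⟨_, rfl⟩
    have hconj : ∀ s : F, x * (k * TgG hF 0 s * k⁻¹) * x⁻¹ = k * TgG hF 0 (l * s) * k⁻¹ := by
      intro s
      have : x * (k * TgG hF 0 s * k⁻¹) * x⁻¹ =
          k * (DgG hF α * TgG hF 0 s * (DgG hF α)⁻¹) * k⁻¹ := by rw [hx]; group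
      rw [this, DgG_conj_Z hF hm, hα, ha]
    have hne : E ⊓ E.map (MulAut.conj x).toMonoidHom ≠ ⊥ := by
      intro hbot
      have hmem : k * TgG hF 0 (l * t₁) * k⁻¹ ∈ E ⊓ E.map (MulAut.conj x).toMonoidHom := by
        refine ⟨(memA _).mp hlt₁, ?_⟩
        refine ⟨k * TgG hF 0 t₁ * k⁻¹, (memA _).mp ht₁, ?_⟩
        show x * (k * TgG hF 0 t₁ * k⁻¹) * x⁻¹ = _
        exact hconj t₁
      rw [hbot, Subgroup.mem_bot] at hmem
      have h5 : TgG hF 0 (l * t₁) = 1 := by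
        have : TgG hF 0 (l * t₁) = k⁻¹ * (k * TgG hF 0 (l * t₁) * k⁻¹) * k := by group
        rw [this, hmem]; group
      rw [← TgG_zero hF] at h5
      have := (TgG_inj hF _ _ _ _ h5).2
      rcases mul_eq_zero.mp this with h | h
      · exact hl0 h
      · exact ht₁0 h
    have hxn := hTI x hne
    rw [Subgroup.mem_normalizer_iff] at hxn
    have := (hxn _).mp ((memA t).mp ht)
    rw [hconj] at this
    exact (memA _).mpr this
  -- a nonzero element of A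
  obtain ⟨a₀, ha₀, ha₀0⟩ : ∃ a₀ ∈ A, a₀ ≠ 0 := by
    by_contra hcon
    push Not at hcon
    have hsub : A ⊆ {0} := fun t ht => hcon t ht
    have := Set.ncard_le_ncard hsub (Set.finite_singleton _)
    rw [hAcard, Set.ncard_singleton] at this
    have : 2 ^ 2 ≤ 2 ^ n := Nat.pow_le_pow_right (by norm_num) hn
    omega
  obtain ⟨A', hA'⟩ : ∃ A' : Set F, A' = {t : F | a₀ * t ∈ A} := ⟨_, rfl⟩
  have memA' : ∀ t, t ∈ A' ↔ a₀ * t ∈ A := by intro t; rw [hA']; rfl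
  have hA'0 : (0 : F) ∈ A' := by rw [memA', mul_zero]; exact hA0
  have hA'1 : (1 : F) ∈ A' := by rw [memA', mul_one]; exact ha₀
  have hA'add : ∀ a b, a ∈ A' → b ∈ A' → a + b ∈ A' := by
    intro a b ha hb
    rw [memA'] at ha hb ⊢
    rw [mul_add]; exact hAadd _ _ ha hb
  have hA'mul : ∀ a b, a ∈ A' → b ∈ A' → a * b ∈ A' := by
    intro a b ha hb
    by_cases ha0 : a = 0
    · rw [ha0, zero_mul]; exact hA'0
    · rw [memA'] at ha hb ⊢
      have h6 := star a ha0 ⟨a₀, ha₀, ha₀0, by rw [mul_comm]; exact ha⟩ _ hb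
      have e : a₀ * (a * b) = a * (a₀ * b) := by ring
      rw [e]; exact h6
  have hA'card : A'.ncard = 2 ^ n := by
    rw [← hAcard, ← Nat.card_coe_set_eq A', ← Nat.card_coe_set_eq A]
    apply Nat.card_eq_of_bijective (fun t : ↥A' => (⟨a₀ * t.1, (memA' t.1).mp t.2⟩ : ↥A))
    constructor
    · intro t s h
      have h' : a₀ * t.1 = a₀ * s.1 := congrArg Subtype.val h
      exact Subtype.ext (mul_left_cancel₀ ha₀0 h')
    · rintro ⟨t, ht⟩
      refine ⟨⟨a₀⁻¹ * t, ?_⟩, ?_⟩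
      · rw [memA', mul_inv_cancel_left₀ ha₀0]; exact ht
      · apply Subtype.ext
        show a₀ * (a₀⁻¹ * t) = t
        rw [mul_inv_cancel_left₀ ha₀0]
  exact subfield_card_dvd hF A' hA'0 hA'1 hA'add hA'mul n hA'card

theorem S2240_main (hm : 1 ≤ m) (n : ℕ) (hn : 2 ≤ n) :
    (∃ E : Subgroup ↥(Cfsg.Sz F m), Cfsg.IsElementaryAbelian 2 E ∧ Nat.card ↥E = 2 ^ n ∧
      ∀ x : ↥(Cfsg.Sz F m), E ⊓ E.map (MulAut.conj x).toMonoidHom ≠ ⊥ →
        x ∈ Subgroup.normalizer (E : Set ↥(Cfsg.Sz F m))) ↔ n ∣ 2 * m + 1 := by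
  constructor
  · rintro ⟨E, hE, hcard, hTI⟩
    exact S2240_mp hF hm n hn E hE hcard hTI
  · exact S2240_mpr hF hm n hn

end

end Cfsg.Agent.Lib.Helper4_SzTI
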