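import Mathlib
import Cfsg.Prelude.Def_LieExceptional
import Cfsg.Agent.Lib.Helper4_SzCN

set_option linter.all false
set_option autoImplicit false

namespace Cfsg.Agent.Lib.Helper4_SzTori
open Cfsg.Agent.Lib.Helper4_SzOvoid Cfsg.Agent.Lib.Helper4_SzGroup Cfsg.Agent.Lib.Helper4_SzSylow
  Cfsg.Agent.Lib.Helper4_SzReal Cfsg.Agent.Lib.Helper4_SzZass Cfsg.Agent.Lib.Helper4_SzSimple
  Cfsg.Agent.Lib.Helper4_SzMax Cfsg.Agent.Lib.Helper4_SzGen Cfsg.Agent.Lib.Helper4_SzOdd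
  Cfsg.Agent.Lib.Helper4_SzCN
open scoped Pointwise

variable {F : Type*} [Field F]

/-- centralisers of conjugate elements have the same cardinality -/
theorem card_cent_conj {G' : Type*} [Group G'] (g z : G') :
    Nat.card (Subgroup.centralizer ({g * z * g⁻¹} : Set G')) =
      Nat.card (Subgroup.centralizer ({z} : Set G')) := by
  apply Nat.card_congr
  refine
    { toFun := fun c => ⟨g⁻¹ * c.1 * g, ?_⟩
      invFun := fun c => ⟨g * c.1 * g⁻¹, ?_⟩
      left_inv := fun c => Subtype.ext (by show g * (g⁻¹ * c.1 * g) * g⁻¹ = c.1; group)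
      right_inv := fun c => Subtype.ext (by show g⁻¹ * (g * c.1 * g⁻¹) * g = c.1; group) }
  · have hc := (Subgroup.mem_centralizer_iff.mp c.2) (g * z * g⁻¹) rfl
    rw [Subgroup.mem_centralizer_iff]
    intro w hw
    rw [Set.mem_singleton_iff.mp hw]
    calc z * (g⁻¹ * c.1 * g) = g⁻¹ * ((g * z * g⁻¹) * c.1) * g := by group
      _ = g⁻¹ * (c.1 * (g * z * g⁻¹)) * g := by rw [hc]
      _ = g⁻¹ * c.1 * g * z := by group
  · have hc := (Subgroup.mem_centralizer_iff.mp c.2) z rfl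
    rw [Subgroup.mem_centralizer_iff]
    intro w hw
    rw [Set.mem_singleton_iff.mp hw]
    calc g * z * g⁻¹ * (g * c.1 * g⁻¹) = g * (z * c.1) * g⁻¹ := by group
      _ = g * (c.1 * z) * g⁻¹ := by rw [hc]
      _ = g * c.1 * g⁻¹ * (g * z * g⁻¹) := by group

theorem mem_cent_conj {G' : Type*} [Group G'] (g z c : G') :
    g * c * g⁻¹ ∈ Subgroup.centralizer ({g * z * g⁻¹} : Set G') ↔
      c ∈ Subgroup.centralizer ({z} : Set G') := by
  rw [Subgroup.mem_centralizer_iff, Subgroup.mem_centralizer_iff]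
  constructor
  · intro h w hw
    rw [Set.mem_singleton_iff.mp hw]
    have := h (g * z * g⁻¹) rfl
    have h2 : g * (z * c) * g⁻¹ = g * (c * z) * g⁻¹ := by
      calc g * (z * c) * g⁻¹ = g * z * g⁻¹ * (g * c * g⁻¹) := by group
        _ = g * c * g⁻¹ * (g * z * g⁻¹) := this
        _ = g * (c * z) * g⁻¹ := by group
    exact mul_left_cancel (mul_right_cancel h2)
  · intro h w hw
    rw [Set.mem_singleton_iff.mp hw]
    have := h z rfl
    calc g * z * g⁻¹ * (g * c * g⁻¹) = g * (z * c) * g⁻¹ := by group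
      _ = g * (c * z) * g⁻¹ := by rw [this]
      _ = g * c * g⁻¹ * (g * z * g⁻¹) := by group

section
variable [Fintype F] {m : ℕ} (hF : Fintype.card F = 2 ^ (2 * m + 1))
include hF

/-- non-identity elements of the centraliser of a fixed-point-free element are fixed-point-free -/
theorem fpf_cent_fpf (hm : 1 ≤ m) (x : ↥(Cfsg.Sz F m))
    (hx : ∀ ω : ↥(Cfsg.suzukiOvoid F m), x • ω ≠ ω) (c : ↥(Cfsg.Sz F m))
    (hc : c ∈ Subgroup.centralizer ({x} : Set ↥(Cfsg.Sz F m))) (hc1 : c ≠ 1) :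
    ∀ ω : ↥(Cfsg.suzukiOvoid F m), c • ω ≠ ω := by
  intro ω hω
  have hxc : x * c = c * x := (Subgroup.mem_centralizer_iff.mp hc) x rfl
  obtain ⟨ω', hω'⟩ := comm_fix hF hm x c hc1 hxc ω hω
  exact hx ω' hω'

/-- self-centralising property -/
theorem fpf_cent_eq (hm : 1 ≤ m) (x : ↥(Cfsg.Sz F m))
    (hx : ∀ ω : ↥(Cfsg.suzukiOvoid F m), x • ω ≠ ω) (c : ↥(Cfsg.Sz F m))
    (hc : c ∈ Subgroup.centralizer ({x} : Set ↥(Cfsg.Sz F m))) (hc1 : c ≠ 1) :
    Subgroup.centralizer ({c} : Set ↥(Cfsg.Sz F m)) =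
      Subgroup.centralizer ({x} : Set ↥(Cfsg.Sz F m)) := by
  have hcf := fpf_cent_fpf hF hm x hx c hc hc1
  haveI h1 := cent_fpf_cyclic hF hm x hx
  haveI h2 := cent_fpf_cyclic hF hm c hcf
  have hxc : x * c = c * x := (Subgroup.mem_centralizer_iff.mp hc) x rfl
  have comm1 : ∀ a ∈ Subgroup.centralizer ({x} : Set ↥(Cfsg.Sz F m)),
      ∀ b ∈ Subgroup.centralizer ({x} : Set ↥(Cfsg.Sz F m)), a * b = b * a := by
    intro a ha b hb
    letI : CommGroup ↥(Subgroup.centralizer ({x} : Set ↥(Cfsg.Sz F m))) := IsCyclic.commGroup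
    have := mul_comm (⟨a, ha⟩ : ↥(Subgroup.centralizer ({x} : Set ↥(Cfsg.Sz F m)))) ⟨b, hb⟩
    exact congrArg Subtype.val this
  have comm2 : ∀ a ∈ Subgroup.centralizer ({c} : Set ↥(Cfsg.Sz F m)),
      ∀ b ∈ Subgroup.centralizer ({c} : Set ↥(Cfsg.Sz F m)), a * b = b * a := by
    intro a ha b hb
    letI : CommGroup ↥(Subgroup.centralizer ({c} : Set ↥(Cfsg.Sz F m))) := IsCyclic.commGroup
    have := mul_comm (⟨a, ha⟩ : ↥(Subgroup.centralizer ({c} : Set ↥(Cfsg.Sz F m)))) ⟨b, hb⟩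
    exact congrArg Subtype.val this
  apply le_antisymm
  · intro z hz
    rw [Subgroup.mem_centralizer_iff]
    intro w hw
    rw [Set.mem_singleton_iff.mp hw]
    have hxin : x ∈ Subgroup.centralizer ({c} : Set ↥(Cfsg.Sz F m)) := by
      rw [Subgroup.mem_centralizer_iff]
      intro w hw
      rw [Set.mem_singleton_iff.mp hw]
      exact hxc.symm
    exact comm2 x hxin z hz
  · intro z hz
    rw [Subgroup.mem_centralizer_iff]
    intro w hw
    rw [Set.mem_singleton_iff.mp hw]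
    exact comm1 c hc z hz

/-- the centraliser of a fixed-point-free element has order dividing `q² + 1` -/
theorem fpf_cent_card_dvd (hm : 1 ≤ m) (x : ↥(Cfsg.Sz F m))
    (hx : ∀ ω : ↥(Cfsg.suzukiOvoid F m), x • ω ≠ ω) :
    Nat.card (Subgroup.centralizer ({x} : Set ↥(Cfsg.Sz F m))) ∣ (2 ^ (2 * m + 1)) ^ 2 + 1 := by
  have hstab : ∀ b : ↥(Cfsg.suzukiOvoid F m),
      MulAction.stabilizer ↥(Subgroup.centralizer ({x} : Set ↥(Cfsg.Sz F m))) b = ⊥ := by
    intro b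
    rw [Subgroup.eq_bot_iff_forall]
    intro c hc
    by_contra hc1
    have hc1' : (c : ↥(Cfsg.Sz F m)) ≠ 1 := fun h => hc1 (Subtype.ext h)
    exact fpf_cent_fpf hF hm x hx c.1 c.2 hc1' b hc
  have e := MulAction.selfEquivOrbitsQuotientProd hstab
  have h1 := Nat.card_congr e
  rw [Nat.card_prod, Ω_card hF] at h1
  exact ⟨_, by rw [h1, mul_comm]⟩

end
/-- Burnside's lemma for a transitive action -/
theorem burnside_trans {G' X : Type*} [Group G'] [MulAction G' X] [Fintype G'] [Finite X]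
    [Nonempty X] [MulAction.IsPretransitive G' X] :
    ∑ g : G', Nat.card (MulAction.fixedBy X g) = Nat.card G' := by
  classical
  haveI : Fintype X := Fintype.ofFinite X
  haveI : ∀ g : G', Fintype (MulAction.fixedBy X g) := fun g => Fintype.ofFinite _
  haveI : Fintype (Quotient (MulAction.orbitRel G' X)) := Fintype.ofFinite _
  have h := MulAction.sum_card_fixedBy_eq_card_orbits_mul_card_group G' X
  have h1 : Fintype.card (Quotient (MulAction.orbitRel G' X)) = 1 := by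
    rw [Fintype.card_eq_one_iff_nonempty_unique]
    exact (MulAction.pretransitive_iff_unique_quotient_of_nonempty G' X).mp inferInstance
  rw [h1, one_mul] at h
  rw [Nat.card_eq_fintype_card, ← h]
  apply Finset.sum_congr rfl
  intro g _
  rw [Nat.card_eq_fintype_card]

/-- fixed embeddings are embeddings into the fixed points -/
def fixedEmbEquiv {G' X : Type*} [Group G'] [MulAction G' X] (g : G') :
    MulAction.fixedBy (Fin 2 ↪ X) g ≃ (Fin 2 ↪ MulAction.fixedBy X g) where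
  toFun e := ⟨fun i => ⟨e.1 i, DFunLike.congr_fun e.2 i⟩,
    fun i j h => e.1.injective (congrArg Subtype.val h)⟩
  invFun e := ⟨⟨fun i => (e i).1, fun i j h => e.injective (Subtype.ext h)⟩, by
    ext i; exact (e i).2⟩
  left_inv e := by ext; rfl
  right_inv e := by ext; rfl

theorem card_fixed_emb {G' X : Type*} [Group G'] [MulAction G' X] [Finite X] (g : G') :
    Nat.card (MulAction.fixedBy (Fin 2 ↪ X) g) =
      Nat.card (MulAction.fixedBy X g) * (Nat.card (MulAction.fixedBy X g) - 1) := by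
  classical
  haveI : Fintype (MulAction.fixedBy X g) := Fintype.ofFinite _
  rw [Nat.card_congr (fixedEmbEquiv g), Nat.card_eq_fintype_card, Fintype.card_embedding_eq,
    Fintype.card_fin, Nat.card_eq_fintype_card]
  simp [Nat.descFactorial]
  ring

section
variable [Fintype F] {m : ℕ} (hF : Fintype.card F = 2 ^ (2 * m + 1))
include hF

theorem fix_le_two (hm : 1 ≤ m) (g : ↥(Cfsg.Sz F m)) (hg : g ≠ 1) :
    Nat.card (MulAction.fixedBy ↥(Cfsg.suzukiOvoid F m) g) ≤ 2 := by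
  classical
  haveI := Ω_finite hF
  haveI : Fintype (MulAction.fixedBy ↥(Cfsg.suzukiOvoid F m) g) := Fintype.ofFinite _
  rw [Nat.card_eq_fintype_card]
  by_contra hcon
  push Not at hcon
  obtain ⟨a, b, c, hab, hac, hbc⟩ := Fintype.two_lt_card_iff.mp hcon
  apply hg
  exact Sz_three_pt hF hm g a.1 b.1 c.1 (fun h => hab (Subtype.ext h)) (fun h => hbc (Subtype.ext h))
    (fun h => hac (Subtype.ext h)) a.2 b.2 c.2

theorem fpf_count (hm : 1 ≤ m) :
    2 * Nat.card {x : ↥(Cfsg.Sz F m) // ∀ ω : ↥(Cfsg.suzukiOvoid F m), x • ω ≠ ω} +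
        (2 ^ (2 * m + 1)) ^ 4 = Nat.card ↥(Cfsg.Sz F m) + (2 ^ (2 * m + 1)) ^ 2 := by
  classical
  haveI := Ω_finite hF
  haveI : Fintype ↥(Cfsg.Sz F m) := Fintype.ofFinite _
  haveI : Nonempty ↥(Cfsg.suzukiOvoid F m) := ⟨infΩ F m⟩
  haveI h2t := Sz_two_trans hF
  haveI : MulAction.IsPretransitive ↥(Cfsg.Sz F m) ↥(Cfsg.suzukiOvoid F m) :=
    MulAction.isPretransitive_of_is_two_pretransitive
  haveI : MulAction.IsPretransitive ↥(Cfsg.Sz F m) (Fin 2 ↪ ↥(Cfsg.suzukiOvoid F m)) := h2t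
  haveI : Nonempty (Fin 2 ↪ ↥(Cfsg.suzukiOvoid F m)) := by
    haveI : Fintype ↥(Cfsg.suzukiOvoid F m) := Fintype.ofFinite _
    apply Function.Embedding.nonempty_of_card_le
    rw [Fintype.card_fin, ← Nat.card_eq_fintype_card, Ω_card hF]
    have : 1 ≤ (2 ^ (2 * m + 1)) ^ 2 := Nat.one_le_pow _ _ (by positivity)
    omega
  set k : ↥(Cfsg.Sz F m) → ℕ := fun g => Nat.card (MulAction.fixedBy ↥(Cfsg.suzukiOvoid F m) g)
    with hk
  have hB1 : ∑ g : ↥(Cfsg.Sz F m), k g = Nat.card ↥(Cfsg.Sz F m) := burnside_trans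
  have hB2 : ∑ g : ↥(Cfsg.Sz F m), k g * (k g - 1) = Nat.card ↥(Cfsg.Sz F m) := by
    rw [← burnside_trans (G' := ↥(Cfsg.Sz F m)) (X := (Fin 2 ↪ ↥(Cfsg.suzukiOvoid F m)))]
    apply Finset.sum_congr rfl
    intro g _
    rw [card_fixed_emb]
  have hk1 : k 1 = (2 ^ (2 * m + 1)) ^ 2 + 1 := by
    rw [hk]
    show Nat.card (MulAction.fixedBy ↥(Cfsg.suzukiOvoid F m) (1 : ↥(Cfsg.Sz F m))) = _
    rw [MulAction.fixedBy_one_eq_univ, Nat.card_congr (Equiv.Set.univ _), Ω_card hF]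
  have hk2 : ∀ g : ↥(Cfsg.Sz F m), g ≠ 1 → k g ≤ 2 := fun g hg => fix_le_two hF hm g hg
  have hfpf : Nat.card {x : ↥(Cfsg.Sz F m) // ∀ ω : ↥(Cfsg.suzukiOvoid F m), x • ω ≠ ω} =
      ∑ g : ↥(Cfsg.Sz F m), (if k g = 0 then 1 else 0) := by
    rw [Nat.card_eq_fintype_card, Fintype.card_subtype, Finset.card_filter]
    apply Finset.sum_congr rfl
    intro g _
    have : (∀ ω : ↥(Cfsg.suzukiOvoid F m), g • ω ≠ ω) ↔ k g = 0 := by
      rw [hk]
      show _ ↔ Nat.card (MulAction.fixedBy ↥(Cfsg.suzukiOvoid F m) g) = 0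
      rw [Nat.card_eq_zero]
      constructor
      · intro h
        left
        exact ⟨fun ω => h ω.1 ω.2⟩
      · intro h ω hω
        rcases h with h | h
        · exact h.false ⟨ω, hω⟩
        · exact absurd (Finite.of_injective (fun x : MulAction.fixedBy ↥(Cfsg.suzukiOvoid F m) g => x.1)
            Subtype.val_injective) (not_finite_iff_infinite.mpr h)
    by_cases hkg : k g = 0
    · rw [if_pos hkg, if_pos (this.mpr hkg)]
    · rw [if_neg hkg, if_neg (fun h => hkg (this.mp h))]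
  obtain ⟨c, hc⟩ : ∃ c : ℕ, c + (2 ^ (2 * m + 1)) ^ 2 = (2 ^ (2 * m + 1)) ^ 4 := by
    refine ⟨(2 ^ (2 * m + 1)) ^ 4 - (2 ^ (2 * m + 1)) ^ 2, Nat.sub_add_cancel ?_⟩
    exact Nat.pow_le_pow_right (by positivity) (by norm_num)
  have hpt : ∀ g : ↥(Cfsg.Sz F m),
      2 * (if k g = 0 then 1 else 0) + 2 * k g + (if g = 1 then c else 0) =
        k g * (k g - 1) + 2 := by
    intro g
    by_cases hg : g = 1
    · rw [if_pos hg, hg, hk1]
      have : (2 ^ (2 * m + 1)) ^ 2 + 1 ≠ 0 := by omega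
      rw [if_neg this, Nat.add_sub_cancel]
      have h4 : (2 ^ (2 * m + 1)) ^ 4 = ((2 ^ (2 * m + 1)) ^ 2) ^ 2 := by ring
      rw [h4] at hc
      nlinarith [hc]
    · rw [if_neg hg, add_zero]
      have := hk2 g hg
      interval_cases hkk : k g <;> simp
  have hsum := Finset.sum_congr (s₁ := (Finset.univ : Finset ↥(Cfsg.Sz F m))) rfl
    (fun g _ => hpt g)
  simp only [Finset.sum_add_distrib, ← Finset.mul_sum, Finset.sum_ite_eq', Finset.mem_univ,
    if_true, Finset.sum_const, Finset.card_univ, smul_eq_mul] at hsum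
  rw [← hfpf, hB1, hB2, ← Nat.card_eq_fintype_card] at hsum
  omega

end
theorem card_ne_one {A : Type*} [Group A] [Finite A] :
    Nat.card {a : A // a ≠ 1} = Nat.card A - 1 := by
  classical
  haveI : Fintype A := Fintype.ofFinite A
  rw [Nat.card_eq_fintype_card, Nat.card_eq_fintype_card]
  show Fintype.card {a : A // ¬ (a = 1)} = _
  rw [Fintype.card_subtype_compl, Fintype.card_subtype_eq]

section
variable [Fintype F] {m : ℕ} (hF : Fintype.card F = 2 ^ (2 * m + 1))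
include hF

/-- the T.I. property of the centraliser of a fixed-point-free element -/
theorem fpf_TI (hm : 1 ≤ m) (x : ↥(Cfsg.Sz F m))
    (hx : ∀ ω : ↥(Cfsg.suzukiOvoid F m), x • ω ≠ ω) (a₀ n : ↥(Cfsg.Sz F m))
    (ha₀ : a₀ ∈ Subgroup.centralizer ({x} : Set ↥(Cfsg.Sz F m))) (h1 : a₀ ≠ 1)
    (hn : n * a₀ * n⁻¹ ∈ Subgroup.centralizer ({x} : Set ↥(Cfsg.Sz F m))) :
    n ∈ Subgroup.normalizer
      ((Subgroup.centralizer ({x} : Set ↥(Cfsg.Sz F m)) : Subgroup ↥(Cfsg.Sz F m)) :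
        Set ↥(Cfsg.Sz F m)) := by
  have e1 := fpf_cent_eq hF hm x hx a₀ ha₀ h1
  have h1' : n * a₀ * n⁻¹ ≠ 1 := by
    intro h
    apply h1
    calc a₀ = n⁻¹ * (n * a₀ * n⁻¹) * n := by group
      _ = 1 := by rw [h]; group
  have e2 := fpf_cent_eq hF hm x hx _ hn h1'
  rw [Subgroup.mem_normalizer_iff]
  intro h
  constructor
  · intro hh
    rw [← e2]
    rw [← e1] at hh
    exact (mem_cent_conj n a₀ h).mpr hh
  · intro hh
    rw [← e2] at hh
    rw [← e1]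
    exact (mem_cent_conj n a₀ h).mp hh

theorem class_count (hm : 1 ≤ m) (x : ↥(Cfsg.Sz F m))
    (hx : ∀ ω : ↥(Cfsg.suzukiOvoid F m), x • ω ≠ ω) :
    Nat.card {z : ↥(Cfsg.Sz F m) // z ≠ 1 ∧
        ∃ g : ↥(Cfsg.Sz F m), g * z * g⁻¹ ∈ Subgroup.centralizer ({x} : Set ↥(Cfsg.Sz F m))} *
      Nat.card (Subgroup.normalizer
        ((Subgroup.centralizer ({x} : Set ↥(Cfsg.Sz F m)) : Subgroup ↥(Cfsg.Sz F m)) :
          Set ↥(Cfsg.Sz F m))) =
      Nat.card ↥(Cfsg.Sz F m) *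
        (Nat.card (Subgroup.centralizer ({x} : Set ↥(Cfsg.Sz F m))) - 1) := by
  haveI : Finite ↥(Cfsg.Sz F m) := inferInstance
  set A := Subgroup.centralizer ({x} : Set ↥(Cfsg.Sz F m)) with hA
  have hchoose : ∀ z : {z : ↥(Cfsg.Sz F m) // z ≠ 1 ∧ ∃ g : ↥(Cfsg.Sz F m), g * z * g⁻¹ ∈ A},
      ∃ g : ↥(Cfsg.Sz F m), g * z.1 * g⁻¹ ∈ A := fun z => z.2.2
  choose g₀ hg₀ using hchoose
  have hne : ∀ z : {z : ↥(Cfsg.Sz F m) // z ≠ 1 ∧ ∃ g : ↥(Cfsg.Sz F m), g * z * g⁻¹ ∈ A},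
      g₀ z * z.1 * (g₀ z)⁻¹ ≠ 1 := by
    intro z h
    apply z.2.1
    calc z.1 = (g₀ z)⁻¹ * (g₀ z * z.1 * (g₀ z)⁻¹) * g₀ z := by group
      _ = 1 := by rw [h]; group
  -- the set of pairs
  let e1 : {p : ↥(Cfsg.Sz F m) × ↥(Cfsg.Sz F m) // p.2 ≠ 1 ∧ p.1 * p.2 * p.1⁻¹ ∈ A} ≃
      ↥(Cfsg.Sz F m) × {a : ↥A // a ≠ 1} :=
    { toFun := fun p => (p.1.1, ⟨⟨p.1.1 * p.1.2 * p.1.1⁻¹, p.2.2⟩, by
        intro h
        apply p.2.1
        have h' : p.1.1 * p.1.2 * p.1.1⁻¹ = 1 := congrArg Subtype.val h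
        calc p.1.2 = p.1.1⁻¹ * (p.1.1 * p.1.2 * p.1.1⁻¹) * p.1.1 := by group
          _ = 1 := by rw [h']; group⟩)
      invFun := fun q => ⟨(q.1, q.1⁻¹ * q.2.1.1 * q.1), by
        constructor
        · intro h
          apply q.2.2
          apply Subtype.ext
          show q.2.1.1 = 1
          have h' : q.1⁻¹ * q.2.1.1 * q.1 = 1 := h
          calc q.2.1.1 = q.1 * (q.1⁻¹ * q.2.1.1 * q.1) * q.1⁻¹ := by group
            _ = 1 := by rw [h']; group
        · show q.1 * (q.1⁻¹ * q.2.1.1 * q.1) * q.1⁻¹ ∈ A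
          have : q.1 * (q.1⁻¹ * q.2.1.1 * q.1) * q.1⁻¹ = q.2.1.1 := by group
          rw [this]
          exact q.2.1.2⟩
      left_inv := by
        intro p
        apply Subtype.ext
        apply Prod.ext
        · rfl
        · show p.1.1⁻¹ * (p.1.1 * p.1.2 * p.1.1⁻¹) * p.1.1 = p.1.2
          group
      right_inv := by
        intro q
        apply Prod.ext
        · rfl
        · apply Subtype.ext
          apply Subtype.ext
          show q.1 * (q.1⁻¹ * q.2.1.1 * q.1) * q.1⁻¹ = q.2.1.1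
          group }
  let e2 : {p : ↥(Cfsg.Sz F m) × ↥(Cfsg.Sz F m) // p.2 ≠ 1 ∧ p.1 * p.2 * p.1⁻¹ ∈ A} ≃
      {z : ↥(Cfsg.Sz F m) // z ≠ 1 ∧ ∃ g : ↥(Cfsg.Sz F m), g * z * g⁻¹ ∈ A} ×
        ↥(Subgroup.normalizer ((A : Subgroup ↥(Cfsg.Sz F m)) : Set ↥(Cfsg.Sz F m))) :=
    { toFun := fun p => (⟨p.1.2, p.2.1, p.1.1, p.2.2⟩,
        ⟨p.1.1 * (g₀ ⟨p.1.2, p.2.1, p.1.1, p.2.2⟩)⁻¹, by
          apply fpf_TI hF hm x hx _ _ (hg₀ ⟨p.1.2, p.2.1, p.1.1, p.2.2⟩)
            (hne ⟨p.1.2, p.2.1, p.1.1, p.2.2⟩)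
          have : p.1.1 * (g₀ ⟨p.1.2, p.2.1, p.1.1, p.2.2⟩)⁻¹ *
              (g₀ ⟨p.1.2, p.2.1, p.1.1, p.2.2⟩ * p.1.2 * (g₀ ⟨p.1.2, p.2.1, p.1.1, p.2.2⟩)⁻¹) *
              (p.1.1 * (g₀ ⟨p.1.2, p.2.1, p.1.1, p.2.2⟩)⁻¹)⁻¹ = p.1.1 * p.1.2 * p.1.1⁻¹ := by
            group
          rw [this]
          exact p.2.2⟩)
      invFun := fun q => ⟨(q.2.1 * g₀ q.1, q.1.1), q.1.2.1, by
        show q.2.1 * g₀ q.1 * q.1.1 * (q.2.1 * g₀ q.1)⁻¹ ∈ A
        have : q.2.1 * g₀ q.1 * q.1.1 * (q.2.1 * g₀ q.1)⁻¹ =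
            q.2.1 * (g₀ q.1 * q.1.1 * (g₀ q.1)⁻¹) * q.2.1⁻¹ := by group
        rw [this]
        exact (Subgroup.mem_normalizer_iff.mp q.2.2 _).mp (hg₀ q.1)⟩
      left_inv := by
        intro p
        apply Subtype.ext
        apply Prod.ext
        · show p.1.1 * (g₀ ⟨p.1.2, p.2.1, p.1.1, p.2.2⟩)⁻¹ * g₀ ⟨p.1.2, p.2.1, p.1.1, p.2.2⟩ = p.1.1
          group
        · rfl
      right_inv := by
        intro q
        apply Prod.ext
        · rfl
        · apply Subtype.ext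
          show q.2.1 * g₀ q.1 * (g₀ q.1)⁻¹ = q.2.1
          group }
  have h1 := Nat.card_congr e1
  have h2 := Nat.card_congr e2
  rw [Nat.card_prod] at h1 h2
  rw [← h2, h1, card_ne_one]

end
section
variable [Fintype F] {m : ℕ} (hF : Fintype.card F = 2 ^ (2 * m + 1))
include hF

theorem normalizer_le (hm : 1 ≤ m) (x : ↥(Cfsg.Sz F m))
    (hx : ∀ ω : ↥(Cfsg.suzukiOvoid F m), x • ω ≠ ω) :
    Nat.card (Subgroup.normalizer
        ((Subgroup.centralizer ({x} : Set ↥(Cfsg.Sz F m)) : Subgroup ↥(Cfsg.Sz F m)) :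
          Set ↥(Cfsg.Sz F m))) ≤
      4 * Nat.card (Subgroup.centralizer ({x} : Set ↥(Cfsg.Sz F m))) := by
  classical
  haveI : Finite ↥(Cfsg.Sz F m) := inferInstance
  obtain ⟨p, k, hp, hp2, hpd, hy1, hyp, hyf⟩ := fpf_power hF hm x hx
  haveI : Fact p.Prime := ⟨hp⟩
  have hyin : x ^ k ∈ Subgroup.centralizer ({x} : Set ↥(Cfsg.Sz F m)) := by
    rw [Subgroup.mem_centralizer_iff]
    intro w hw
    rw [Set.mem_singleton_iff.mp hw, ← pow_succ', ← pow_succ]
  have hCy := fpf_cent_eq hF hm x hx (x ^ k) hyin hy1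
  obtain ⟨L, instL, instA, b, h, h4, key⟩ := cent_in_singer hF (x ^ k) hy1 p hp2 hpd hyp
  rw [hCy] at key
  set A := Subgroup.centralizer ({x} : Set ↥(Cfsg.Sz F m)) with hA
  have hxA : x ∈ A := by
    rw [hA, Subgroup.mem_centralizer_iff]
    intro w hw
    rw [Set.mem_singleton_iff.mp hw]
  have hmemN : ∀ n : ↥(Subgroup.normalizer ((A : Subgroup ↥(Cfsg.Sz F m)) : Set ↥(Cfsg.Sz F m))),
      n.1 * x * n.1⁻¹ ∈ A := fun n => (Subgroup.mem_normalizer_iff.mp n.2 x).mp hxA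
  have hch : ∀ n : ↥(Subgroup.normalizer ((A : Subgroup ↥(Cfsg.Sz F m)) : Set ↥(Cfsg.Sz F m))),
      ∃ u : L, ((h * ιGL (n.1 * x * n.1⁻¹) * h⁻¹ : GL (Fin 4) F) : Matrix (Fin 4) (Fin 4) F) =
        Algebra.leftMulMatrix b u := fun n => key _ (hmemN n)
  choose φ hφ using hch
  let ψ := Algebra.leftMulMatrix b
  have hψ : Function.Injective ψ := Algebra.leftMulMatrix_injective b
  set χ₀ : Polynomial F := Matrix.charpoly ((ιGL x : GL (Fin 4) F) : Matrix (Fin 4) (Fin 4) F)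
    with hχ₀
  have hχne : χ₀ ≠ 0 := (Matrix.charpoly_monic _).ne_zero
  have hdeg : χ₀.natDegree = 4 := by
    rw [hχ₀, Matrix.charpoly_natDegree_eq_dim, Fintype.card_fin]
  have hroot : ∀ n, φ n ∈ χ₀.rootSet L := by
    intro n
    rw [Polynomial.mem_rootSet]
    refine ⟨hχne, ?_⟩
    have hcp : Matrix.charpoly (ψ (φ n)) = χ₀ := by
      show Matrix.charpoly (Algebra.leftMulMatrix b (φ n)) = χ₀
      rw [← hφ n, Units.val_mul, Units.val_mul, Matrix.coe_units_inv, Matrix.charpoly_units_conj,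
        map_mul, map_mul, map_inv, Units.val_mul, Units.val_mul, Matrix.coe_units_inv,
        Matrix.charpoly_units_conj]
    have hCH := Matrix.aeval_self_charpoly (ψ (φ n))
    rw [hcp, Polynomial.aeval_algHom_apply] at hCH
    rw [← map_zero ψ] at hCH
    exact hψ hCH
  have hfiber : ∀ n n', φ n = φ n' → n.1⁻¹ * n'.1 ∈ A := by
    intro n n' hnn
    have h1 : (h * ιGL (n.1 * x * n.1⁻¹) * h⁻¹ : GL (Fin 4) F) =
        h * ιGL (n'.1 * x * n'.1⁻¹) * h⁻¹ := by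
      apply Units.ext
      rw [hφ n, hφ n', hnn]
    have h2 : ιGL (n.1 * x * n.1⁻¹) = ιGL (n'.1 * x * n'.1⁻¹) :=
      mul_left_cancel (mul_right_cancel h1)
    have h3 : n.1 * x * n.1⁻¹ = n'.1 * x * n'.1⁻¹ := ιGL_injective h2
    show n.1⁻¹ * n'.1 ∈ Subgroup.centralizer ({x} : Set ↥(Cfsg.Sz F m))
    rw [Subgroup.mem_centralizer_iff]
    intro w hw
    rw [Set.mem_singleton_iff.mp hw]
    calc x * (n.1⁻¹ * n'.1) = n.1⁻¹ * (n.1 * x * n.1⁻¹) * n'.1 := by group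
      _ = n.1⁻¹ * (n'.1 * x * n'.1⁻¹) * n'.1 := by rw [h3]
      _ = n.1⁻¹ * n'.1 * x := by group
  haveI : Fintype ↥(Subgroup.normalizer ((A : Subgroup ↥(Cfsg.Sz F m)) : Set ↥(Cfsg.Sz F m))) :=
    Fintype.ofFinite _
  haveI : Fintype ↥A := Fintype.ofFinite _
  have hbound := Finset.card_le_mul_card_image (f := φ)
    (Finset.univ : Finset ↥(Subgroup.normalizer ((A : Subgroup ↥(Cfsg.Sz F m)) :
      Set ↥(Cfsg.Sz F m)))) (Fintype.card ↥A) (by
    intro u hu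
    obtain ⟨n₀, -, hn₀⟩ := Finset.mem_image.mp hu
    have ht : (Finset.univ.image (Subtype.val : ↥A → ↥(Cfsg.Sz F m))).card = Fintype.card ↥A := by
      rw [Finset.card_image_of_injective _ Subtype.val_injective, Finset.card_univ]
    rw [← ht]
    apply Finset.card_le_card_of_injOn (fun n => n₀.1⁻¹ * n.1)
    · intro n hn
      have hn' : φ n = u := (Finset.mem_filter.mp hn).2
      exact Finset.mem_image.mpr ⟨⟨_, hfiber n₀ n (hn₀.trans hn'.symm)⟩, Finset.mem_univ _, rfl⟩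
    · intro n hn n' hn' hnn'
      exact Subtype.ext (mul_left_cancel hnn'))
  have himg : (Finset.univ.image φ).card ≤ 4 := by
    have hsub : ((Finset.univ.image φ : Finset L) : Set L) ⊆ χ₀.rootSet L := by
      intro u hu
      obtain ⟨n, -, rfl⟩ := Finset.mem_image.mp (Finset.mem_coe.mp hu)
      exact hroot n
    calc (Finset.univ.image φ).card = ((Finset.univ.image φ : Finset L) : Set L).ncard :=
          (Set.ncard_coe_finset _).symm
      _ ≤ (χ₀.rootSet L).ncard := Set.ncard_le_ncard hsub (Polynomial.rootSet_finite χ₀ L)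
      _ ≤ χ₀.natDegree := Polynomial.ncard_rootSet_le χ₀ L
      _ = 4 := hdeg
  rw [Finset.card_univ] at hbound
  rw [Nat.card_eq_fintype_card, Nat.card_eq_fintype_card]
  calc Fintype.card ↥(Subgroup.normalizer ((A : Subgroup ↥(Cfsg.Sz F m)) : Set ↥(Cfsg.Sz F m)))
      ≤ Fintype.card ↥A * (Finset.univ.image φ).card := hbound
    _ ≤ Fintype.card ↥A * 4 := Nat.mul_le_mul_left _ himg
    _ = 4 * Fintype.card ↥A := mul_comm _ _

end
end Cfsg.Agent.Lib.Helper4_SzTori
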