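import Mathlib
import Cfsg.Prelude.Def_LieExceptional
import Cfsg.Agent.Lib.Helper4_SzTori

set_option linter.all false
set_option autoImplicit false

namespace Cfsg.Agent.Lib.Helper4_SzTori2
open Cfsg.Agent.Lib.Helper4_SzOvoid Cfsg.Agent.Lib.Helper4_SzGroup Cfsg.Agent.Lib.Helper4_SzSylow
  Cfsg.Agent.Lib.Helper4_SzReal Cfsg.Agent.Lib.Helper4_SzZass Cfsg.Agent.Lib.Helper4_SzSimple
  Cfsg.Agent.Lib.Helper4_SzMax Cfsg.Agent.Lib.Helper4_SzGen Cfsg.Agent.Lib.Helper4_SzOdd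
  Cfsg.Agent.Lib.Helper4_SzCN Cfsg.Agent.Lib.Helper4_SzTori
open scoped Pointwise

variable {F : Type*} [Field F]

/-- fixed-point-free elements -/
def fpfSet (F : Type*) [Field F] (m : ℕ) : Set ↥(Cfsg.Sz F m) :=
  {z | ∀ ω : ↥(Cfsg.suzukiOvoid F m), z • ω ≠ ω}

/-- non-identity elements conjugate into the centraliser of `x` -/
def clSet {m : ℕ} (x : ↥(Cfsg.Sz F m)) : Set ↥(Cfsg.Sz F m) :=
  {z | z ≠ 1 ∧ ∃ g : ↥(Cfsg.Sz F m), g * z * g⁻¹ ∈ Subgroup.centralizer ({x} : Set ↥(Cfsg.Sz F m))}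

theorem self_mem_cent {G' : Type*} [Group G'] (x : G') :
    x ∈ Subgroup.centralizer ({x} : Set G') := by
  rw [Subgroup.mem_centralizer_iff]
  intro w hw
  rw [Set.mem_singleton_iff.mp hw]

section
variable [Fintype F] {m : ℕ} (hF : Fintype.card F = 2 ^ (2 * m + 1))
include hF

theorem Q_mod3 : (2 ^ (2 * m + 1)) % 3 = 2 := by
  rw [pow_succ, pow_mul, Nat.mul_mod, Nat.pow_mod]
  norm_num

omit hF in
theorem Q_mod3' (m : ℕ) : (2 ^ (2 * m + 1)) % 3 = 2 := by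
  rw [pow_succ, pow_mul, Nat.mul_mod, Nat.pow_mod]
  norm_num

omit hF in
theorem s_mod (m : ℕ) : ((2 ^ (2 * m + 1)) ^ 2 + 1) % 2 = 1 ∧ ((2 ^ (2 * m + 1)) ^ 2 + 1) % 3 = 2 := by
  constructor
  · have h3 : 2 ∣ (2 ^ (2 * m + 1)) ^ 2 := by
      rw [← pow_mul]; exact dvd_pow_self 2 (by omega)
    omega
  · rw [Nat.add_mod, Nat.pow_mod, Q_mod3' m]

theorem three_not_dvd_card (hm : 1 ≤ m) : ¬ 3 ∣ Nat.card ↥(Cfsg.Sz F m) := by
  rw [S0324_main hF hm]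
  obtain ⟨Q1, hQ1⟩ : ∃ Q1, 2 ^ (2 * m + 1) = Q1 + 1 :=
    ⟨2 ^ (2 * m + 1) - 1, (Nat.sub_add_cancel Nat.one_le_two_pow).symm⟩
  have h3 := Q_mod3' m
  rw [hQ1] at h3 ⊢
  rw [Nat.add_sub_cancel]
  have h1 : Q1 % 3 = 1 := by omega
  intro hdvd
  have := Nat.mod_eq_zero_of_dvd hdvd
  rw [Nat.mul_mod, Nat.mul_mod ((Q1 + 1) ^ 2), Nat.add_mod ((Q1 + 1) ^ 2), Nat.pow_mod, h3, h1] at this
  norm_num at this

/-- existence of fixed-point-free elements of each prime order dividing `q² + 1` -/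
theorem exists_fpf_of_prime (hm : 1 ≤ m) (p : ℕ) [Fact p.Prime]
    (hpd : p ∣ (2 ^ (2 * m + 1)) ^ 2 + 1) :
    ∃ y : ↥(Cfsg.Sz F m), orderOf y = p ∧ y ∈ fpfSet F m := by
  haveI : Finite ↥(Cfsg.Sz F m) := inferInstance
  haveI := Ω_finite hF
  have hpp : p.Prime := Fact.out
  have hp2 : p ≠ 2 := by
    intro h
    rw [h] at hpd
    have := (s_mod m).1
    omega
  have hdvd : p ∣ Nat.card ↥(Cfsg.Sz F m) := by
    rw [S0324_main hF hm]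
    exact Dvd.dvd.mul_right (Dvd.dvd.mul_left hpd _) _
  obtain ⟨y, hy⟩ := exists_prime_orderOf_dvd_card' p hdvd
  refine ⟨y, hy, ?_⟩
  have hyp : y ^ p = 1 := by rw [← hy]; exact pow_orderOf_eq_one y
  have hy1 : y ≠ 1 := by
    intro h
    rw [h, orderOf_one] at hy
    exact hpp.one_lt.ne hy
  intro ω hω
  obtain ⟨ω', hne, hω'⟩ := odd_prime_fix hF y p hp2 hyp ω hω
  have hmod := fixed_mod hF y p hyp
  rw [Ω_card hF] at hmod
  have hcard : Nat.card {ω : ↥(Cfsg.suzukiOvoid F m) // y • ω = ω} = 2 := by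
    rw [Nat.card_eq_two_iff]
    refine ⟨⟨ω, hω⟩, ⟨ω', hω'⟩, fun h => hne (congrArg Subtype.val h).symm, ?_⟩
    ext z
    simp only [Set.mem_insert_iff, Set.mem_singleton_iff, Set.mem_univ, iff_true]
    rcases fix_sub_pair hF hm y hy1 ω ω' z.1 (Ne.symm hne) hω hω' z.2 with h | h
    · left; exact Subtype.ext h
    · right; exact Subtype.ext h
  rw [hcard] at hmod
  have h1 : p ∣ (2 ^ (2 * m + 1)) ^ 2 + 1 - 2 :=
    (Nat.modEq_iff_dvd' (by have : 1 ≤ (2 ^ (2 * m + 1)) ^ 2 := Nat.one_le_pow _ _ (by positivity)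
                            omega)).mp hmod.symm
  have h2 : p ∣ 2 := by
    have : 1 ≤ (2 ^ (2 * m + 1)) ^ 2 := Nat.one_le_pow _ _ (by positivity)
    have h3 : (2 ^ (2 * m + 1)) ^ 2 + 1 = ((2 ^ (2 * m + 1)) ^ 2 + 1 - 2) + 2 := by omega
    rw [h3] at hpd
    exact (Nat.dvd_add_right h1).mp hpd
  exact hp2 ((Nat.prime_dvd_prime_iff_eq hpp Nat.prime_two).mp h2)

/-- a Sylow subgroup inside the centraliser -/
theorem sylow_in_cent (hm : 1 ≤ m) (x : ↥(Cfsg.Sz F m)) (hx : x ∈ fpfSet F m) (p : ℕ)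
    [Fact p.Prime] (hpd : p ∣ Nat.card (Subgroup.centralizer ({x} : Set ↥(Cfsg.Sz F m)))) :
    ∃ (P : Sylow p ↥(Cfsg.Sz F m)) (y : ↥(Cfsg.Sz F m)), y ∈ (P : Subgroup ↥(Cfsg.Sz F m)) ∧
      y ≠ 1 ∧ y ∈ Subgroup.centralizer ({x} : Set ↥(Cfsg.Sz F m)) ∧
      (P : Subgroup ↥(Cfsg.Sz F m)) ≤ Subgroup.centralizer ({x} : Set ↥(Cfsg.Sz F m)) := by
  haveI : Finite ↥(Cfsg.Sz F m) := inferInstance
  have hpp : p.Prime := Fact.out
  have hp2 : p ≠ 2 := by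
    intro h
    have h1 := fpf_cent_card_dvd hF hm x hx
    have h2 : 2 ∣ (2 ^ (2 * m + 1)) ^ 2 + 1 := by
      rw [h] at hpd
      exact dvd_trans hpd h1
    have := (s_mod m).1
    omega
  obtain ⟨y, hy⟩ := exists_prime_orderOf_dvd_card' p hpd
  have hy1 : (y : ↥(Cfsg.Sz F m)) ≠ 1 := by
    intro h
    have : y = 1 := Subtype.ext h
    rw [this, orderOf_one] at hy
    exact hpp.one_lt.ne hy
  have hyp : (y : ↥(Cfsg.Sz F m)) ^ p = 1 := by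
    have := pow_orderOf_eq_one y
    rw [hy] at this
    have h2 := congrArg Subtype.val this
    simpa using h2
  have hzP : IsPGroup p (Subgroup.zpowers (y : ↥(Cfsg.Sz F m))) := by
    intro g
    obtain ⟨g, hg⟩ := g
    obtain ⟨k, rfl⟩ := Subgroup.mem_zpowers_iff.mp hg
    refine ⟨1, Subtype.ext ?_⟩
    show ((y : ↥(Cfsg.Sz F m)) ^ k) ^ (p ^ 1) = 1
    rw [pow_one, ← zpow_natCast, ← zpow_mul, mul_comm, zpow_mul, zpow_natCast, hyp, one_zpow]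
  obtain ⟨P, hP⟩ := hzP.exists_le_sylow
  have hyP : (y : ↥(Cfsg.Sz F m)) ∈ (P : Subgroup ↥(Cfsg.Sz F m)) :=
    hP (Subgroup.mem_zpowers _)
  refine ⟨P, y, hyP, hy1, y.2, ?_⟩
  haveI := S0331_main hF hm hp2 P
  rw [← fpf_cent_eq hF hm x hx y y.2 hy1]
  intro z hz
  rw [Subgroup.mem_centralizer_iff]
  intro w hw
  rw [Set.mem_singleton_iff.mp hw]
  letI : CommGroup ↥(P : Subgroup ↥(Cfsg.Sz F m)) := IsCyclic.commGroup
  have := mul_comm (⟨y, hyP⟩ : ↥(P : Subgroup ↥(Cfsg.Sz F m))) ⟨z, hz⟩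
  exact congrArg Subtype.val this

/-- Hall property -/
theorem hall_cent (hm : 1 ≤ m) (x : ↥(Cfsg.Sz F m)) (hx : x ∈ fpfSet F m) (p : ℕ)
    [Fact p.Prime] (hpd : p ∣ Nat.card (Subgroup.centralizer ({x} : Set ↥(Cfsg.Sz F m)))) :
    p ^ ((2 ^ (2 * m + 1)) ^ 2 + 1).factorization p ∣
      Nat.card (Subgroup.centralizer ({x} : Set ↥(Cfsg.Sz F m))) := by
  haveI : Finite ↥(Cfsg.Sz F m) := inferInstance
  obtain ⟨P, y, -, -, -, hle⟩ := sylow_in_cent hF hm x hx p hpd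
  have h1 : p ^ ((2 ^ (2 * m + 1)) ^ 2 + 1).factorization p ∣ Nat.card ↥(Cfsg.Sz F m) := by
    rw [S0324_main hF hm]
    exact Dvd.dvd.mul_right (Dvd.dvd.mul_left (Nat.ordProj_dvd _ _) _) _
  exact dvd_trans (P.pow_dvd_card_of_pow_dvd_card h1) (Subgroup.card_dvd_of_le hle)

/-- conjugacy of centralisers sharing a prime -/
theorem conj_cent (hm : 1 ≤ m) (x x' : ↥(Cfsg.Sz F m)) (hx : x ∈ fpfSet F m)
    (hx' : x' ∈ fpfSet F m) (p : ℕ) [Fact p.Prime]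
    (hpd : p ∣ Nat.card (Subgroup.centralizer ({x} : Set ↥(Cfsg.Sz F m))))
    (hpd' : p ∣ Nat.card (Subgroup.centralizer ({x'} : Set ↥(Cfsg.Sz F m)))) :
    ∃ g : ↥(Cfsg.Sz F m), g * x' * g⁻¹ ∈ Subgroup.centralizer ({x} : Set ↥(Cfsg.Sz F m)) := by
  haveI : Finite ↥(Cfsg.Sz F m) := inferInstance
  obtain ⟨P, y, hyP, hy1, hyx, hle⟩ := sylow_in_cent hF hm x hx p hpd
  obtain ⟨P', y', hyP', hy1', hyx', hle'⟩ := sylow_in_cent hF hm x' hx' p hpd'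
  obtain ⟨g, hg⟩ := MulAction.exists_smul_eq ↥(Cfsg.Sz F m) P' P
  refine ⟨g, ?_⟩
  have h1 : g * y' * g⁻¹ ∈ ((g • P' : Sylow p ↥(Cfsg.Sz F m)) : Subgroup ↥(Cfsg.Sz F m)) := by
    rw [Sylow.coe_subgroup_smul]
    have := Subgroup.smul_mem_pointwise_smul y' (MulAut.conj g) _ hyP'
    simpa [MulAut.smul_def] using this
  rw [hg] at h1
  have h2 : g * y' * g⁻¹ ∈ Subgroup.centralizer ({x} : Set ↥(Cfsg.Sz F m)) := hle h1
  have h3 : g * y' * g⁻¹ ≠ 1 := by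
    intro h
    apply hy1'
    calc y' = g⁻¹ * (g * y' * g⁻¹) * g := by group
      _ = 1 := by rw [h]; group
  rw [← fpf_cent_eq hF hm x hx _ h2 h3]
  -- x' commutes with y'
  have hc : x' ∈ Subgroup.centralizer ({y'} : Set ↥(Cfsg.Sz F m)) := by
    have := (Subgroup.mem_centralizer_iff.mp hyx') x' rfl
    rw [Subgroup.mem_centralizer_iff]
    intro w hw
    rw [Set.mem_singleton_iff.mp hw]
    exact this.symm
  exact (mem_cent_conj g y' x').mpr hc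

end
theorem ar_one_class (Q q1 s gG Nf N n : ℕ) (hQ : Q = q1 + 1) (hQ8 : 8 ≤ Q) (hs : s = Q ^ 2 + 1)
    (hg : gG = Q ^ 2 * s * q1) (hNf : 2 * Nf + Q ^ 4 = gG + Q ^ 2)
    (hc : Nf * N = gG * (s - 1)) (hN : N = n * s) (hn : n = 1 ∨ n = 2 ∨ n = 4) : False := by
  have hs1 : s - 1 = Q ^ 2 := by rw [hs]; simp
  rw [hs1, hN, hg] at hc
  have hspos : 0 < s := by rw [hs]; positivity
  have ha : Nf * n = Q ^ 4 * q1 := by
    apply Nat.eq_of_mul_eq_mul_right hspos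
    rw [mul_assoc, hc]; ring
  have hb : 2 * Nf = Q ^ 3 * q1 ^ 2 := by
    have : gG + Q ^ 2 = Q ^ 3 * q1 ^ 2 + Q ^ 4 := by
      rw [hg, hs, hQ]; ring
    rw [this] at hNf
    exact Nat.add_right_cancel hNf
  have hcc : Q ^ 3 * q1 * (q1 * n) = Q ^ 3 * q1 * (2 * Q) := by
    calc Q ^ 3 * q1 * (q1 * n) = (Q ^ 3 * q1 ^ 2) * n := by ring
      _ = 2 * (Nf * n) := by rw [← hb]; ring
      _ = Q ^ 3 * q1 * (2 * Q) := by rw [ha]; ring
  have hq1 : 0 < q1 := by omega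
  have hpos : 0 < Q ^ 3 * q1 := by positivity
  have hd : q1 * n = 2 * Q := Nat.eq_of_mul_eq_mul_left hpos hcc
  rcases hn with rfl | rfl | rfl <;> omega

theorem ar_lower (k c N gG a n : ℕ) (hc : c * N = gG * (a - 1)) (hN : N = n * a) (ha : 5 ≤ a)
    (hkn : k * n ≤ 4) : k * gG ≤ 5 * c := by
  obtain ⟨a', rfl⟩ : ∃ a', a = a' + 1 := ⟨a - 1, by omega⟩
  rw [Nat.add_sub_cancel, hN] at hc
  have h5 : 0 < 5 * a' := by omega
  apply Nat.le_of_mul_le_mul_right _ h5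
  calc k * gG * (5 * a') = 5 * k * (gG * a') := by ring
    _ = 5 * k * (c * (n * (a' + 1))) := by rw [hc]
    _ = 5 * c * (k * n * (a' + 1)) := by ring
    _ ≤ 5 * c * (4 * (a' + 1)) := Nat.mul_le_mul_left _ (Nat.mul_le_mul_right _ hkn)
    _ ≤ 5 * c * (5 * a') := Nat.mul_le_mul_left _ (by omega)

theorem ar_upper (Q gG Nf : ℕ) (hQ : 2 ≤ Q) (hNf : 2 * Nf + Q ^ 4 = gG + Q ^ 2) : 2 * Nf < gG := by
  have : Q ^ 2 < Q ^ 4 := Nat.pow_lt_pow_right (by omega) (by norm_num)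
  omega

theorem ar_sum (Q q1 s gG Nf c₁ c₂ a₁ a₂ : ℕ) (hQ : Q = q1 + 1) (hQ8 : 8 ≤ Q)
    (hs : s = Q ^ 2 + 1) (hg : gG = Q ^ 2 * s * q1) (hNf : 2 * Nf + Q ^ 4 = gG + Q ^ 2)
    (h1 : c₁ * (4 * a₁) = gG * (a₁ - 1)) (h2 : c₂ * (4 * a₂) = gG * (a₂ - 1))
    (hsum : c₁ + c₂ = Nf) (hprod : a₁ * a₂ = s) (ha₁ : 5 ≤ a₁) (ha₂ : 5 ≤ a₂) :
    a₁ + a₂ = 2 * Q + 2 := by
  obtain ⟨b₁, rfl⟩ : ∃ b, a₁ = b + 1 := ⟨a₁ - 1, by omega⟩
  obtain ⟨b₂, rfl⟩ : ∃ b, a₂ = b + 1 := ⟨a₂ - 1, by omega⟩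
  rw [Nat.add_sub_cancel] at h1 h2
  have hb : 2 * Nf = Q ^ 3 * q1 ^ 2 := by
    have : gG + Q ^ 2 = Q ^ 3 * q1 ^ 2 + Q ^ 4 := by
      rw [hg, hs, hQ]; ring
    rw [this] at hNf
    exact Nat.add_right_cancel hNf
  have hspos : 0 < s := by rw [hs]; positivity
  have hq1 : 0 < q1 := by omega
  -- 4 s Nf = gG (a₂ b₁ + a₁ b₂)
  have e1 : 4 * s * Nf = gG * ((b₂ + 1) * b₁ + (b₁ + 1) * b₂) := by
    calc 4 * s * Nf = 4 * ((b₁ + 1) * (b₂ + 1)) * (c₁ + c₂) := by rw [hprod, hsum]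
      _ = (c₁ * (4 * (b₁ + 1))) * (b₂ + 1) + (c₂ * (4 * (b₂ + 1))) * (b₁ + 1) := by ring
      _ = gG * b₁ * (b₂ + 1) + gG * b₂ * (b₁ + 1) := by rw [h1, h2]
      _ = gG * ((b₂ + 1) * b₁ + (b₁ + 1) * b₂) := by ring
  have e2 : Q ^ 2 * q1 * s * ((b₂ + 1) * b₁ + (b₁ + 1) * b₂) = Q ^ 2 * q1 * s * (2 * Q * q1) := by
    calc Q ^ 2 * q1 * s * ((b₂ + 1) * b₁ + (b₁ + 1) * b₂)
        = gG * ((b₂ + 1) * b₁ + (b₁ + 1) * b₂) := by rw [hg]; ring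
      _ = 2 * s * (2 * Nf) := by rw [← e1]; ring
      _ = Q ^ 2 * q1 * s * (2 * Q * q1) := by rw [hb]; ring
  have hpos : 0 < Q ^ 2 * q1 * s := by positivity
  have e3 : (b₂ + 1) * b₁ + (b₁ + 1) * b₂ = 2 * Q * q1 := Nat.eq_of_mul_eq_mul_left hpos e2
  -- now integer arithmetic
  have e4 : (b₁ + 1) * (b₂ + 1) = Q ^ 2 + 1 := by rw [hprod, hs]
  zify at e3 e4 hQ ⊢
  have hQ' : (q1 : ℤ) = Q - 1 := by linarith
  rw [hQ'] at e3
  nlinarith [e3, e4]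

theorem ar_final (Q R a₁ a₂ : ℕ) (hR : R ^ 2 = 2 * Q) (hRQ : R ≤ Q) (hsum : a₁ + a₂ = 2 * Q + 2)
    (hprod : a₁ * a₂ = Q ^ 2 + 1) :
    (a₁ = Q + R + 1 ∧ a₂ = Q - R + 1) ∨ (a₁ = Q - R + 1 ∧ a₂ = Q + R + 1) := by
  have h1 : ((a₁ : ℤ) - a₂ - 2 * R) * ((a₁ : ℤ) - a₂ + 2 * R) = 0 := by
    zify at hR hsum hprod
    have : ((a₁ : ℤ) - a₂) ^ 2 = ((a₁ : ℤ) + a₂) ^ 2 - 4 * (a₁ * a₂) := by ring
    have h2 : ((a₁ : ℤ) - a₂ - 2 * R) * ((a₁ : ℤ) - a₂ + 2 * R) = ((a₁ : ℤ) - a₂) ^ 2 - 4 * R ^ 2 := by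
      ring
    rw [h2, this, hsum, hprod, hR]; ring
  rcases mul_eq_zero.mp h1 with h | h
  · left
    zify at hsum
    constructor <;> omega
  · right
    zify at hsum
    constructor <;> omega
section
variable [Fintype F] {m : ℕ} (hF : Fintype.card F = 2 ^ (2 * m + 1))
include hF

theorem fpf_conj (x g : ↥(Cfsg.Sz F m)) (hx : g * x * g⁻¹ ∈ fpfSet F m) : x ∈ fpfSet F m := by
  intro ω hω
  apply hx (g • ω)
  rw [mul_smul, inv_smul_smul, mul_smul, hω]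

theorem torus_facts (hm : 1 ≤ m) (x : ↥(Cfsg.Sz F m)) (hx : x ∈ fpfSet F m) :
    ∃ n : ℕ, (n = 1 ∨ n = 2 ∨ n = 4) ∧
      Nat.card (Subgroup.normalizer
        ((Subgroup.centralizer ({x} : Set ↥(Cfsg.Sz F m)) : Subgroup ↥(Cfsg.Sz F m)) :
          Set ↥(Cfsg.Sz F m))) =
        n * Nat.card (Subgroup.centralizer ({x} : Set ↥(Cfsg.Sz F m))) ∧
      5 ≤ Nat.card (Subgroup.centralizer ({x} : Set ↥(Cfsg.Sz F m))) ∧
      Nat.card (Subgroup.centralizer ({x} : Set ↥(Cfsg.Sz F m))) ∣ (2 ^ (2 * m + 1)) ^ 2 + 1 ∧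
      (clSet x).ncard * Nat.card (Subgroup.normalizer
        ((Subgroup.centralizer ({x} : Set ↥(Cfsg.Sz F m)) : Subgroup ↥(Cfsg.Sz F m)) :
          Set ↥(Cfsg.Sz F m))) =
        Nat.card ↥(Cfsg.Sz F m) *
          (Nat.card (Subgroup.centralizer ({x} : Set ↥(Cfsg.Sz F m))) - 1) ∧
      clSet x ⊆ fpfSet F m ∧
      (∀ z ∈ clSet x, Nat.card (Subgroup.centralizer ({z} : Set ↥(Cfsg.Sz F m))) =
        Nat.card (Subgroup.centralizer ({x} : Set ↥(Cfsg.Sz F m)))) := by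
  haveI : Finite ↥(Cfsg.Sz F m) := inferInstance
  have hx1 : x ≠ 1 := by
    intro h
    exact hx (infΩ F m) (by rw [h, one_smul])
  set A := Subgroup.centralizer ({x} : Set ↥(Cfsg.Sz F m)) with hA
  have hdvd := fpf_cent_card_dvd hF hm x hx
  have hgt : 1 < Nat.card A := by
    rw [Subgroup.one_lt_card_iff_ne_bot]
    intro h
    have : x ∈ (⊥ : Subgroup ↥(Cfsg.Sz F m)) := h ▸ self_mem_cent x
    exact hx1 (Subgroup.mem_bot.mp this)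
  have h5 : 5 ≤ Nat.card A := by
    obtain ⟨s2, s3⟩ := s_mod m
    by_contra hlt
    push Not at hlt
    interval_cases hcard : Nat.card A <;> omega
  have hle : Nat.card (Subgroup.normalizer ((A : Subgroup ↥(Cfsg.Sz F m)) : Set ↥(Cfsg.Sz F m))) ≤
      4 * Nat.card A := normalizer_le hF hm x hx
  have hAN : A ≤ Subgroup.normalizer ((A : Subgroup ↥(Cfsg.Sz F m)) : Set ↥(Cfsg.Sz F m)) :=
    Subgroup.le_normalizer
  obtain ⟨n, hn⟩ := Subgroup.card_dvd_of_le hAN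
  have hNG : Nat.card (Subgroup.normalizer ((A : Subgroup ↥(Cfsg.Sz F m)) : Set ↥(Cfsg.Sz F m))) ∣
      Nat.card ↥(Cfsg.Sz F m) := Subgroup.card_subgroup_dvd_card _
  have hNpos : 0 < Nat.card
      (Subgroup.normalizer ((A : Subgroup ↥(Cfsg.Sz F m)) : Set ↥(Cfsg.Sz F m))) := Nat.card_pos
  have hn4 : n ≤ 4 := by
    rw [hn] at hle
    by_contra hcon
    push Not at hcon
    have : 4 * Nat.card A < Nat.card A * n := by
      calc 4 * Nat.card A < 5 * Nat.card A := by omega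
        _ ≤ n * Nat.card A := Nat.mul_le_mul_right _ hcon
        _ = Nat.card A * n := mul_comm _ _
    omega
  have hn1 : 1 ≤ n := by
    by_contra hcon
    push Not at hcon
    have : n = 0 := by omega
    rw [this, mul_zero] at hn
    omega
  have hn3 : n ≠ 3 := by
    intro h3
    apply three_not_dvd_card hF hm
    rw [h3] at hn
    exact dvd_trans ⟨_, by rw [hn, mul_comm]⟩ hNG
  have hcases : n = 1 ∨ n = 2 ∨ n = 4 := by omega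
  refine ⟨n, hcases, by rw [hn, mul_comm], h5, hdvd, ?_, ?_, ?_⟩
  · have := class_count hF hm x hx
    rw [← Nat.card_coe_set_eq]
    exact this
  · intro z hz
    obtain ⟨hz1, g, hg⟩ := hz
    have hg1 : g * z * g⁻¹ ≠ 1 := by
      intro h
      apply hz1
      calc z = g⁻¹ * (g * z * g⁻¹) * g := by group
        _ = 1 := by rw [h]; group
    exact fpf_conj hF z g (fpf_cent_fpf hF hm x hx _ hg hg1)
  · intro z hz
    obtain ⟨hz1, g, hg⟩ := hz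
    have hg1 : g * z * g⁻¹ ≠ 1 := by
      intro h
      apply hz1
      calc z = g⁻¹ * (g * z * g⁻¹) * g := by group
        _ = 1 := by rw [h]; group
    rw [← card_cent_conj g z, fpf_cent_eq hF hm x hx _ hg hg1]

/-- covering -/
theorem mem_clSet_of_prime (hm : 1 ≤ m) (x z : ↥(Cfsg.Sz F m)) (hx : x ∈ fpfSet F m)
    (hz : z ∈ fpfSet F m) (p : ℕ) (hp : p.Prime)
    (hpd : p ∣ Nat.card (Subgroup.centralizer ({x} : Set ↥(Cfsg.Sz F m))))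
    (hpd' : p ∣ Nat.card (Subgroup.centralizer ({z} : Set ↥(Cfsg.Sz F m)))) : z ∈ clSet x := by
  haveI : Fact p.Prime := ⟨hp⟩
  have hz1 : z ≠ 1 := by
    intro h
    exact hz (infΩ F m) (by rw [h, one_smul])
  exact ⟨hz1, conj_cent hF hm x z hx hz p hpd hpd'⟩

end
theorem order_dvd_cent {G' : Type*} [Group G'] [Finite G'] (x : G') :
    orderOf x ∣ Nat.card (Subgroup.centralizer ({x} : Set G')) := by
  have : orderOf (⟨x, self_mem_cent x⟩ : Subgroup.centralizer ({x} : Set G')) = orderOf x :=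
    Subgroup.orderOf_mk x _
  rw [← this]
  exact orderOf_dvd_natCard _

section
variable [Fintype F] {m : ℕ} (hF : Fintype.card F = 2 ^ (2 * m + 1))
include hF

theorem hall_not_dvd (hm : 1 ≤ m) (x : ↥(Cfsg.Sz F m)) (hx : x ∈ fpfSet F m) (p : ℕ)
    (hp : p.Prime) (t : ℕ)
    (ht : (2 ^ (2 * m + 1)) ^ 2 + 1 =
      Nat.card (Subgroup.centralizer ({x} : Set ↥(Cfsg.Sz F m))) * t) (hpt : p ∣ t) :
    ¬ p ∣ Nat.card (Subgroup.centralizer ({x} : Set ↥(Cfsg.Sz F m))) := by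
  intro h
  haveI : Fact p.Prime := ⟨hp⟩
  have hall := hall_cent hF hm x hx p h
  have h2 : p ^ (((2 ^ (2 * m + 1)) ^ 2 + 1).factorization p + 1) ∣ (2 ^ (2 * m + 1)) ^ 2 + 1 := by
    conv_rhs => rw [ht]
    rw [pow_succ]
    exact mul_dvd_mul hall hpt
  exact Nat.pow_succ_factorization_not_dvd (by positivity) hp h2

theorem tori_exist (hm : 1 ≤ m) :
    ∃ x₁ x₂ : ↥(Cfsg.Sz F m), x₁ ∈ fpfSet F m ∧ x₂ ∈ fpfSet F m ∧
      Nat.card (Subgroup.centralizer ({x₁} : Set ↥(Cfsg.Sz F m))) =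
        2 ^ (2 * m + 1) + 2 ^ (m + 1) + 1 ∧
      Nat.card (Subgroup.centralizer ({x₂} : Set ↥(Cfsg.Sz F m))) =
        2 ^ (2 * m + 1) - 2 ^ (m + 1) + 1 ∧
      Nat.card (Subgroup.normalizer
        ((Subgroup.centralizer ({x₁} : Set ↥(Cfsg.Sz F m)) : Subgroup ↥(Cfsg.Sz F m)) :
          Set ↥(Cfsg.Sz F m))) =
        4 * Nat.card (Subgroup.centralizer ({x₁} : Set ↥(Cfsg.Sz F m))) ∧
      Nat.card (Subgroup.normalizer
        ((Subgroup.centralizer ({x₂} : Set ↥(Cfsg.Sz F m)) : Subgroup ↥(Cfsg.Sz F m)) :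
          Set ↥(Cfsg.Sz F m))) =
        4 * Nat.card (Subgroup.centralizer ({x₂} : Set ↥(Cfsg.Sz F m))) := by
  haveI : Finite ↥(Cfsg.Sz F m) := inferInstance
  have hQ8 : 8 ≤ 2 ^ (2 * m + 1) := by
    calc 8 = 2 ^ 3 := by norm_num
      _ ≤ 2 ^ (2 * m + 1) := Nat.pow_le_pow_right (by norm_num) (by omega)
  obtain ⟨q1, hq1⟩ : ∃ q1, 2 ^ (2 * m + 1) = q1 + 1 := ⟨2 ^ (2 * m + 1) - 1, by omega⟩
  have hgG : Nat.card ↥(Cfsg.Sz F m) =
      (2 ^ (2 * m + 1)) ^ 2 * ((2 ^ (2 * m + 1)) ^ 2 + 1) * q1 := by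
    rw [S0324_main hF hm]
    congr 1
    omega
  have hNf : 2 * (fpfSet F m).ncard + (2 ^ (2 * m + 1)) ^ 4 =
      Nat.card ↥(Cfsg.Sz F m) + (2 ^ (2 * m + 1)) ^ 2 := by
    have := fpf_count hF hm
    rw [← Nat.card_coe_set_eq]
    exact this
  have hup := ar_upper _ _ _ (by omega) hNf
  have hfin : ∀ S : Set ↥(Cfsg.Sz F m), S.Finite := fun S => Set.toFinite S
  have hs1 : (2 ^ (2 * m + 1)) ^ 2 + 1 ≠ 1 := by
    have : 0 < (2 ^ (2 * m + 1)) ^ 2 := by positivity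
    omega
  -- first class
  obtain ⟨p₁, hp₁, hp₁d⟩ := Nat.exists_prime_and_dvd hs1
  haveI : Fact p₁.Prime := ⟨hp₁⟩
  obtain ⟨x₁, ho₁, hx₁⟩ := exists_fpf_of_prime hF hm p₁ hp₁d
  obtain ⟨n₁, hn₁, hN₁, h5₁, hd₁, hc₁, hsub₁, hcard₁⟩ := torus_facts hF hm x₁ hx₁
  have hp₁a : p₁ ∣ Nat.card (Subgroup.centralizer ({x₁} : Set ↥(Cfsg.Sz F m))) := by
    rw [← ho₁]; exact order_dvd_cent x₁
  -- a₁ ≠ s
  have hne₁ : Nat.card (Subgroup.centralizer ({x₁} : Set ↥(Cfsg.Sz F m))) ≠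
      (2 ^ (2 * m + 1)) ^ 2 + 1 := by
    intro heq
    have hcov : fpfSet F m ⊆ clSet x₁ := by
      intro z hz
      obtain ⟨-, -, -, h5z, hdz, -, -, -⟩ := torus_facts hF hm z hz
      obtain ⟨p, hp, hpd⟩ := Nat.exists_prime_and_dvd
        (show Nat.card (Subgroup.centralizer ({z} : Set ↥(Cfsg.Sz F m))) ≠ 1 by omega)
      exact mem_clSet_of_prime hF hm x₁ z hx₁ hz p hp (by rw [heq]; exact dvd_trans hpd hdz) hpd
    have heqset : clSet x₁ = fpfSet F m := Set.Subset.antisymm hsub₁ hcov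
    rw [heqset, heq] at hc₁
    rw [heq] at hN₁
    exact ar_one_class (2 ^ (2 * m + 1)) q1 _ _ _ _ n₁ hq1 hQ8 rfl hgG hNf hc₁ hN₁ hn₁
  -- second class
  obtain ⟨t, ht⟩ := hd₁
  have ht1 : t ≠ 1 := by
    intro h
    rw [h, mul_one] at ht
    exact hne₁ ht.symm
  obtain ⟨p₂, hp₂, hp₂t⟩ := Nat.exists_prime_and_dvd ht1
  haveI : Fact p₂.Prime := ⟨hp₂⟩
  have hp₂s : p₂ ∣ (2 ^ (2 * m + 1)) ^ 2 + 1 := by rw [ht]; exact Dvd.dvd.mul_left hp₂t _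
  have hp₂a₁ := hall_not_dvd hF hm x₁ hx₁ p₂ hp₂ t ht hp₂t
  obtain ⟨x₂, ho₂, hx₂⟩ := exists_fpf_of_prime hF hm p₂ hp₂s
  obtain ⟨n₂, hn₂, hN₂, h5₂, hd₂, hc₂, hsub₂, hcard₂⟩ := torus_facts hF hm x₂ hx₂
  have hp₂a₂ : p₂ ∣ Nat.card (Subgroup.centralizer ({x₂} : Set ↥(Cfsg.Sz F m))) := by
    rw [← ho₂]; exact order_dvd_cent x₂
  have hcop : Nat.Coprime (Nat.card (Subgroup.centralizer ({x₁} : Set ↥(Cfsg.Sz F m))))
      (Nat.card (Subgroup.centralizer ({x₂} : Set ↥(Cfsg.Sz F m)))) := by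
    apply Nat.coprime_of_dvd
    intro p hp hpa₁ hpa₂
    have hmem := mem_clSet_of_prime hF hm x₁ x₂ hx₁ hx₂ p hp hpa₁ hpa₂
    have := hcard₁ x₂ hmem
    rw [this] at hp₂a₂
    exact hp₂a₁ hp₂a₂
  have hne12 : Nat.card (Subgroup.centralizer ({x₁} : Set ↥(Cfsg.Sz F m))) ≠
      Nat.card (Subgroup.centralizer ({x₂} : Set ↥(Cfsg.Sz F m))) := by
    intro h
    rw [← h] at hp₂a₂
    exact hp₂a₁ hp₂a₂
  have hdisj12 : Disjoint (clSet x₁) (clSet x₂) := by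
    rw [Set.disjoint_left]
    intro z h1 h2
    exact hne12 ((hcard₁ z h1).symm.trans (hcard₂ z h2))
  have hd₁' : Nat.card (Subgroup.centralizer ({x₁} : Set ↥(Cfsg.Sz F m))) ∣
      (2 ^ (2 * m + 1)) ^ 2 + 1 := ⟨t, ht⟩
  have hprod_dvd := Nat.Coprime.mul_dvd_of_dvd_of_dvd hcop hd₁' hd₂
  have l₁ := ar_lower 1 _ _ _ _ n₁ hc₁ hN₁ h5₁ (by rcases hn₁ with h | h | h <;> omega)
  have l₂ := ar_lower 1 _ _ _ _ n₂ hc₂ hN₂ h5₂ (by rcases hn₂ with h | h | h <;> omega)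
  -- product is s
  have hprod : Nat.card (Subgroup.centralizer ({x₁} : Set ↥(Cfsg.Sz F m))) *
      Nat.card (Subgroup.centralizer ({x₂} : Set ↥(Cfsg.Sz F m))) = (2 ^ (2 * m + 1)) ^ 2 + 1 := by
    by_contra hne
    obtain ⟨t', ht'⟩ := hprod_dvd
    have ht'1 : t' ≠ 1 := by
      intro h
      rw [h, mul_one] at ht'
      exact hne ht'.symm
    obtain ⟨p₃, hp₃, hp₃t⟩ := Nat.exists_prime_and_dvd ht'1
    haveI : Fact p₃.Prime := ⟨hp₃⟩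
    have hp₃s : p₃ ∣ (2 ^ (2 * m + 1)) ^ 2 + 1 := by rw [ht']; exact Dvd.dvd.mul_left hp₃t _
    have hp₃a₁ := hall_not_dvd hF hm x₁ hx₁ p₃ hp₃
      (Nat.card (Subgroup.centralizer ({x₂} : Set ↥(Cfsg.Sz F m))) * t')
      (by rw [ht', mul_assoc]) (Dvd.dvd.mul_left hp₃t _)
    have hp₃a₂ := hall_not_dvd hF hm x₂ hx₂ p₃ hp₃
      (Nat.card (Subgroup.centralizer ({x₁} : Set ↥(Cfsg.Sz F m))) * t')
      (by rw [ht']; ring) (Dvd.dvd.mul_left hp₃t _)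
    obtain ⟨x₃, ho₃, hx₃⟩ := exists_fpf_of_prime hF hm p₃ hp₃s
    obtain ⟨n₃, hn₃, hN₃, h5₃, hd₃, hc₃, hsub₃, hcard₃⟩ := torus_facts hF hm x₃ hx₃
    have hp₃a₃ : p₃ ∣ Nat.card (Subgroup.centralizer ({x₃} : Set ↥(Cfsg.Sz F m))) := by
      rw [← ho₃]; exact order_dvd_cent x₃
    have hne13 : Nat.card (Subgroup.centralizer ({x₁} : Set ↥(Cfsg.Sz F m))) ≠
        Nat.card (Subgroup.centralizer ({x₃} : Set ↥(Cfsg.Sz F m))) := by
      intro h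
      rw [← h] at hp₃a₃
      exact hp₃a₁ hp₃a₃
    have hne23 : Nat.card (Subgroup.centralizer ({x₂} : Set ↥(Cfsg.Sz F m))) ≠
        Nat.card (Subgroup.centralizer ({x₃} : Set ↥(Cfsg.Sz F m))) := by
      intro h
      rw [← h] at hp₃a₃
      exact hp₃a₂ hp₃a₃
    have hdisj3 : Disjoint (clSet x₁ ∪ clSet x₂) (clSet x₃) := by
      rw [Set.disjoint_union_left]
      constructor
      · rw [Set.disjoint_left]
        intro z h1 h2
        exact hne13 ((hcard₁ z h1).symm.trans (hcard₃ z h2))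
      · rw [Set.disjoint_left]
        intro z h1 h2
        exact hne23 ((hcard₂ z h1).symm.trans (hcard₃ z h2))
    have l₃ := ar_lower 1 _ _ _ _ n₃ hc₃ hN₃ h5₃ (by rcases hn₃ with h | h | h <;> omega)
    have hunion : (clSet x₁ ∪ clSet x₂ ∪ clSet x₃).ncard =
        (clSet x₁).ncard + (clSet x₂).ncard + (clSet x₃).ncard := by
      rw [Set.ncard_union_eq hdisj3 (hfin _) (hfin _), Set.ncard_union_eq hdisj12 (hfin _) (hfin _)]
    have hle : (clSet x₁ ∪ clSet x₂ ∪ clSet x₃).ncard ≤ (fpfSet F m).ncard :=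
      Set.ncard_le_ncard (Set.union_subset (Set.union_subset hsub₁ hsub₂) hsub₃) (hfin _)
    omega
  -- covering
  have hcov : fpfSet F m ⊆ clSet x₁ ∪ clSet x₂ := by
    intro z hz
    obtain ⟨-, -, -, h5z, hdz, -, -, -⟩ := torus_facts hF hm z hz
    obtain ⟨p, hp, hpd⟩ := Nat.exists_prime_and_dvd
      (show Nat.card (Subgroup.centralizer ({z} : Set ↥(Cfsg.Sz F m))) ≠ 1 by omega)
    have hps : p ∣ Nat.card (Subgroup.centralizer ({x₁} : Set ↥(Cfsg.Sz F m))) *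
        Nat.card (Subgroup.centralizer ({x₂} : Set ↥(Cfsg.Sz F m))) := by
      rw [hprod]; exact dvd_trans hpd hdz
    rcases (Nat.Prime.dvd_mul hp).mp hps with h | h
    · left; exact mem_clSet_of_prime hF hm x₁ z hx₁ hz p hp h hpd
    · right; exact mem_clSet_of_prime hF hm x₂ z hx₂ hz p hp h hpd
  have hNfeq : (fpfSet F m).ncard = (clSet x₁).ncard + (clSet x₂).ncard := by
    rw [← Set.ncard_union_eq hdisj12 (hfin _) (hfin _)]
    congr 1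
    exact Set.Subset.antisymm hcov (Set.union_subset hsub₁ hsub₂)
  have hn₁4 : n₁ = 4 := by
    rcases hn₁ with h | h | h
    · have := ar_lower 4 _ _ _ _ n₁ hc₁ hN₁ h5₁ (by omega)
      omega
    · have := ar_lower 2 _ _ _ _ n₁ hc₁ hN₁ h5₁ (by omega)
      omega
    · exact h
  have hn₂4 : n₂ = 4 := by
    rcases hn₂ with h | h | h
    · have := ar_lower 4 _ _ _ _ n₂ hc₂ hN₂ h5₂ (by omega)
      omega
    · have := ar_lower 2 _ _ _ _ n₂ hc₂ hN₂ h5₂ (by omega)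
      omega
    · exact h
  rw [hn₁4] at hN₁
  rw [hn₂4] at hN₂
  rw [hN₁] at hc₁
  rw [hN₂] at hc₂
  have hsum := ar_sum (2 ^ (2 * m + 1)) q1 _ _ _ _ _ _ _ hq1 hQ8 rfl hgG hNf hc₁ hc₂ hNfeq.symm
    hprod h5₁ h5₂
  have hR : (2 ^ (m + 1)) ^ 2 = 2 * 2 ^ (2 * m + 1) := by
    rw [← pow_mul, ← pow_succ']
    congr 1
    ring
  have hRQ : 2 ^ (m + 1) ≤ 2 ^ (2 * m + 1) := Nat.pow_le_pow_right (by norm_num) (by omega)
  rcases ar_final _ _ _ _ hR hRQ hsum hprod with ⟨e1, e2⟩ | ⟨e1, e2⟩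
  · exact ⟨x₁, x₂, hx₁, hx₂, e1, e2, hN₁, hN₂⟩
  · exact ⟨x₂, x₁, hx₂, hx₁, e2, e1, hN₂, hN₁⟩

end
section
variable [Fintype F] {m : ℕ} (hF : Fintype.card F = 2 ^ (2 * m + 1))
include hF

theorem S0333_main (hm : 1 ≤ m) :
    ∀ k ∈ ({2 ^ (2 * m + 1) + 2 ^ (m + 1) + 1, 2 ^ (2 * m + 1) - 2 ^ (m + 1) + 1} : Set ℕ),
      ∃ U : Subgroup (Cfsg.Sz F m), IsCyclic U ∧ Nat.card U = k ∧
        (∀ u ∈ U, u ≠ 1 → Subgroup.centralizer {u} = U) ∧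
        Nat.card (Subgroup.normalizer (U : Set (Cfsg.Sz F m))) = 4 * k := by
  obtain ⟨x₁, x₂, hx₁, hx₂, e1, e2, hN₁, hN₂⟩ := tori_exist hF hm
  intro k hk
  rcases hk with rfl | hk
  · refine ⟨Subgroup.centralizer ({x₁} : Set ↥(Cfsg.Sz F m)), cent_fpf_cyclic hF hm x₁ hx₁, e1,
      ?_, ?_⟩
    · intro u hu hu1
      exact fpf_cent_eq hF hm x₁ hx₁ u hu hu1
    · rw [hN₁, e1]
  · rw [Set.mem_singleton_iff] at hk
    subst hk
    refine ⟨Subgroup.centralizer ({x₂} : Set ↥(Cfsg.Sz F m)), cent_fpf_cyclic hF hm x₂ hx₂, e2,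
      ?_, ?_⟩
    · intro u hu hu1
      exact fpf_cent_eq hF hm x₂ hx₂ u hu hu1
    · rw [hN₂, e2]

end
end Cfsg.Agent.Lib.Helper4_SzTori2
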