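import Mathlib
import Cfsg.Prelude.Def_LieExceptional
import Cfsg.Agent.Lib.Helper4_SzTori2
import Cfsg.Agent.Lib.Helper4_SzTI

set_option linter.all false
set_option autoImplicit false

namespace Cfsg.Agent.Lib.Helper4_SzPart
open Cfsg.Agent.Lib.Helper4_SzOvoid Cfsg.Agent.Lib.Helper4_SzGroup Cfsg.Agent.Lib.Helper4_SzSylow
  Cfsg.Agent.Lib.Helper4_SzReal Cfsg.Agent.Lib.Helper4_SzZass Cfsg.Agent.Lib.Helper4_SzSimple
  Cfsg.Agent.Lib.Helper4_SzMax Cfsg.Agent.Lib.Helper4_SzGen Cfsg.Agent.Lib.Helper4_SzOdd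
  Cfsg.Agent.Lib.Helper4_SzCN Cfsg.Agent.Lib.Helper4_SzTori Cfsg.Agent.Lib.Helper4_SzTori2
  Cfsg.Agent.Lib.Helper4_SzTI
open scoped Pointwise

variable {F : Type*} [Field F]

theorem nf_R (m : ℕ) : (2 ^ (m + 1)) ^ 2 = 2 * 2 ^ (2 * m + 1) := by
  rw [← pow_mul, ← pow_succ']
  congr 1
  ring

theorem nf_RQ (m : ℕ) : 2 ^ (m + 1) ≤ 2 ^ (2 * m + 1) :=
  Nat.pow_le_pow_right (by norm_num) (by omega)

theorem nf_prod (m : ℕ) :
    (2 ^ (2 * m + 1) + 2 ^ (m + 1) + 1) * (2 ^ (2 * m + 1) - 2 ^ (m + 1) + 1) =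
      (2 ^ (2 * m + 1)) ^ 2 + 1 := by
  have h1 := nf_R m
  have h2 := nf_RQ m
  obtain ⟨d, hd⟩ : ∃ d, 2 ^ (2 * m + 1) = 2 ^ (m + 1) + d := ⟨_, (Nat.add_sub_cancel' h2).symm⟩
  rw [hd] at h1 ⊢
  rw [Nat.add_sub_cancel_left]
  nlinarith [h1]

theorem nf_even (m : ℕ) : 2 ∣ 2 ^ (2 * m + 1) ∧ 2 ∣ 2 ^ (m + 1) :=
  ⟨dvd_pow_self 2 (by omega), dvd_pow_self 2 (by omega)⟩

theorem nf_cop1 (m : ℕ) : Nat.Coprime (2 ^ (2 * m + 1) - 1) ((2 ^ (2 * m + 1)) ^ 2 + 1) := by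
  obtain ⟨q1, hq1⟩ : ∃ q1, 2 ^ (2 * m + 1) = q1 + 1 :=
    ⟨2 ^ (2 * m + 1) - 1, (Nat.sub_add_cancel Nat.one_le_two_pow).symm⟩
  have hev := (nf_even m).1
  rw [hq1] at hev ⊢
  rw [Nat.add_sub_cancel]
  apply Nat.coprime_of_dvd
  intro p hp h1 h2
  have h3 : (q1 + 1) ^ 2 + 1 = q1 * (q1 + 2) + 2 := by ring
  rw [h3] at h2
  have h4 : p ∣ 2 := (Nat.dvd_add_right (Dvd.dvd.mul_right h1 _)).mp h2
  have h5 : p = 2 := (Nat.prime_dvd_prime_iff_eq hp Nat.prime_two).mp h4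
  rw [h5] at h1
  omega

theorem nf_cop2 (m : ℕ) :
    Nat.Coprime (2 ^ (2 * m + 1) + 2 ^ (m + 1) + 1) (2 ^ (2 * m + 1) - 2 ^ (m + 1) + 1) := by
  have h2 := nf_RQ m
  obtain ⟨hev1, hev2⟩ := nf_even m
  apply Nat.coprime_of_dvd
  intro p hp h1 h3
  have h4 : p ∣ 2 * 2 ^ (m + 1) := by
    have : 2 ^ (2 * m + 1) + 2 ^ (m + 1) + 1 =
        (2 ^ (2 * m + 1) - 2 ^ (m + 1) + 1) + 2 * 2 ^ (m + 1) := by omega
    rw [this] at h1
    exact (Nat.dvd_add_right h3).mp h1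
  have h5 : p ∣ 2 := by
    rw [← pow_succ'] at h4
    exact hp.dvd_of_dvd_pow h4
  have h6 : p = 2 := (Nat.prime_dvd_prime_iff_eq hp Nat.prime_two).mp h5
  rw [h6] at h1
  omega

theorem coprime_mem_eq_one {G' : Type*} [Group G'] [Finite G'] (U₁ U₂ : Subgroup G') (g : G')
    (h1 : g ∈ U₁) (h2 : g ∈ U₂) (hc : Nat.Coprime (Nat.card U₁) (Nat.card U₂)) : g = 1 := by
  have d1 := Subgroup.orderOf_dvd_natCard U₁ h1
  have d2 := Subgroup.orderOf_dvd_natCard U₂ h2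
  have := Nat.dvd_gcd d1 d2
  rw [hc] at this
  exact orderOf_eq_one_iff.mp (Nat.dvd_one.mp this)

section
variable [Fintype F] {m : ℕ} (hF : Fintype.card F = 2 ^ (2 * m + 1))
include hF

/-- the cardinality of the centraliser of a fixed-point-free element -/
theorem fpf_cent_card (hm : 1 ≤ m) (z : ↥(Cfsg.Sz F m)) (hz : z ∈ fpfSet F m) :
    Nat.card (Subgroup.centralizer ({z} : Set ↥(Cfsg.Sz F m))) = 2 ^ (2 * m + 1) + 2 ^ (m + 1) + 1 ∨
    Nat.card (Subgroup.centralizer ({z} : Set ↥(Cfsg.Sz F m))) =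
      2 ^ (2 * m + 1) - 2 ^ (m + 1) + 1 := by
  obtain ⟨x₁, x₂, hx₁, hx₂, e1, e2, -, -⟩ := tori_exist hF hm
  obtain ⟨-, -, -, h5z, hdz, -, -, -⟩ := torus_facts hF hm z hz
  obtain ⟨-, -, -, -, -, -, -, hcard₁⟩ := torus_facts hF hm x₁ hx₁
  obtain ⟨-, -, -, -, -, -, -, hcard₂⟩ := torus_facts hF hm x₂ hx₂
  obtain ⟨p, hp, hpd⟩ := Nat.exists_prime_and_dvd
    (show Nat.card (Subgroup.centralizer ({z} : Set ↥(Cfsg.Sz F m))) ≠ 1 by omega)
  have hps : p ∣ (2 ^ (2 * m + 1) + 2 ^ (m + 1) + 1) * (2 ^ (2 * m + 1) - 2 ^ (m + 1) + 1) := by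
    rw [nf_prod]; exact dvd_trans hpd hdz
  rcases (Nat.Prime.dvd_mul hp).mp hps with h | h
  · left
    rw [← e1] at h ⊢
    exact hcard₁ z (mem_clSet_of_prime hF hm x₁ z hx₁ hz p hp h hpd)
  · right
    rw [← e2] at h ⊢
    exact hcard₂ z (mem_clSet_of_prime hF hm x₂ z hx₂ hz p hp h hpd)

/-- non-identity elements of a Sylow 2-subgroup have a unique fixed point, determined by the
subgroup -/
theorem sylow_unique (hm : 1 ≤ m) (g : ↥(Cfsg.Sz F m)) (hg : g ≠ 1)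
    (P P' : Sylow 2 ↥(Cfsg.Sz F m)) (hP : g ∈ (P : Subgroup ↥(Cfsg.Sz F m)))
    (hP' : g ∈ (P' : Subgroup ↥(Cfsg.Sz F m))) :
    (P : Subgroup ↥(Cfsg.Sz F m)) = (P' : Subgroup ↥(Cfsg.Sz F m)) := by
  obtain ⟨k, hk⟩ := sylow_conj_TSub hF hm P
  obtain ⟨k', hk'⟩ := sylow_conj_TSub hF hm P'
  have h1 : k⁻¹ * g * k ∈ TSub hF := (hk g).mp hP
  have h1' : k'⁻¹ * g * k' ∈ TSub hF := (hk' g).mp hP'
  have hne : k⁻¹ * g * k ≠ 1 := by
    intro h
    apply hg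
    calc g = k * (k⁻¹ * g * k) * k⁻¹ := by group
      _ = 1 := by rw [h]; group
  -- k⁻¹ g k fixes k⁻¹ k' ∞
  have hfix : (k⁻¹ * g * k) • ((k⁻¹ * k') • infΩ F m) = (k⁻¹ * k') • infΩ F m := by
    have h2 : (k'⁻¹ * g * k') • infΩ F m = infΩ F m := by
      obtain ⟨a, b, hab⟩ := (mem_TSub_iff hF _).mp h1'
      rw [hab, TgG_inf]
    have : (k⁻¹ * g * k) * (k⁻¹ * k') = (k⁻¹ * k') * (k'⁻¹ * g * k') := by group
    rw [← mul_smul, this, mul_smul, h2]
  have hinf := T_fix_only_inf hF _ h1 hne _ hfix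
  ext x
  rw [hk x, hk' x]
  have := B_normalizes_T hF hm (k⁻¹ * k') hinf (k'⁻¹ * x * k')
  rw [this]
  have e : k⁻¹ * k' * (k'⁻¹ * x * k') * (k⁻¹ * k')⁻¹ = k⁻¹ * x * k := by group
  rw [e]

end
section
variable [Fintype F] {m : ℕ} (hF : Fintype.card F = 2 ^ (2 * m + 1))
include hF

theorem two_pt_torus (hm : 1 ≤ m) (a b : ↥(Cfsg.suzukiOvoid F m)) (hab : a ≠ b) :
    ∃ U : Subgroup ↥(Cfsg.Sz F m), IsCyclic U ∧ Nat.card U = 2 ^ (2 * m + 1) - 1 ∧
      (∀ u : ↥(Cfsg.Sz F m), u • a = a → u • b = b → u ∈ U) ∧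
      (∀ g : ↥(Cfsg.Sz F m), g ≠ 1 → g • a = a → g • b = b →
        Subgroup.centralizer ({g} : Set ↥(Cfsg.Sz F m)) ≤ U) := by
  obtain ⟨h, h1, h2⟩ := move_to_std hF a b hab
  have e1 : h⁻¹ • infΩ F m = a := by rw [← h1, inv_smul_smul]
  have e2 : h⁻¹ • ptΩ m (0 : F) 0 = b := by rw [← h2, inv_smul_smul]
  let ψ : Fˣ →* ↥(Cfsg.Sz F m) :=
    { toFun := fun α => h⁻¹ * DgG hF α * h
      map_one' := by rw [DgG_one]; group
      map_mul' := by
        intro α β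
        rw [DgG_mul]; group }
  have hψ : Function.Injective ψ := by
    intro α β hαβ
    have h3 : h⁻¹ * DgG hF α * h = h⁻¹ * DgG hF β * h := hαβ
    exact DgG_injective hF (mul_left_cancel (mul_right_cancel h3))
  have hfix : ∀ u : ↥(Cfsg.Sz F m), u • a = a → u • b = b → u ∈ ψ.range := by
    intro u ha hb
    have f1 : (h * u * h⁻¹) • infΩ F m = infΩ F m := by
      rw [mul_smul, mul_smul, e1, ha, h1]
    have f2 : (h * u * h⁻¹) • ptΩ m (0 : F) 0 = ptΩ m 0 0 := by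
      rw [mul_smul, mul_smul, e2, hb, h2]
    obtain ⟨α, hα⟩ := two_pt_G hF hm _ f1 f2
    refine ⟨α, ?_⟩
    show h⁻¹ * DgG hF α * h = u
    rw [← hα]; group
  refine ⟨ψ.range, ?_, ?_, hfix, ?_⟩
  · exact isCyclic_of_surjective ψ.rangeRestrict ψ.rangeRestrict_surjective
  · rw [← Nat.card_congr (MonoidHom.ofInjective hψ).toEquiv, Nat.card_units,
      Nat.card_eq_fintype_card, hF]
  · intro g hg ha hb c hc
    have f1 : (h * g * h⁻¹) • infΩ F m = infΩ F m := by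
      rw [mul_smul, mul_smul, e1, ha, h1]
    have f2 : (h * g * h⁻¹) • ptΩ m (0 : F) 0 = ptΩ m 0 0 := by
      rw [mul_smul, mul_smul, e2, hb, h2]
    obtain ⟨α, hα⟩ := two_pt_G hF hm _ f1 f2
    have hα1 : α ≠ 1 := by
      intro h'
      rw [h', DgG_one] at hα
      apply hg
      calc g = h⁻¹ * (h * g * h⁻¹) * h := by group
        _ = 1 := by rw [hα]; group
    have hcg : g * c = c * g := (Subgroup.mem_centralizer_iff.mp hc) g rfl
    obtain ⟨β, hβ⟩ := cent_D_std hF hm α hα1 (h * c * h⁻¹) (by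
      rw [← hα]
      calc h * g * h⁻¹ * (h * c * h⁻¹) = h * (g * c) * h⁻¹ := by group
        _ = h * (c * g) * h⁻¹ := by rw [hcg]
        _ = h * c * h⁻¹ * (h * g * h⁻¹) := by group)
    refine ⟨β, ?_⟩
    show h⁻¹ * DgG hF β * h = c
    rw [← hβ]; group

theorem S2238_main (hm : 1 ≤ m) (g : ↥(Cfsg.Sz F m)) (hg : g ≠ 1) :
    ∃! U : Subgroup ↥(Cfsg.Sz F m),
      ((∃ P : Sylow 2 ↥(Cfsg.Sz F m), U = (P : Subgroup ↥(Cfsg.Sz F m))) ∨
      (IsCyclic ↥U ∧ Nat.card ↥U ∈ ({2 ^ (2 * m + 1) - 1, 2 ^ (2 * m + 1) + 2 ^ (m + 1) + 1,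
        2 ^ (2 * m + 1) - 2 ^ (m + 1) + 1} : Set ℕ))) ∧ g ∈ U := by
  haveI : Finite ↥(Cfsg.Sz F m) := inferInstance
  haveI : Fact (Nat.Prime 2) := ⟨Nat.prime_two⟩
  obtain ⟨hev1, hev2⟩ := nf_even m
  have hRQ := nf_RQ m
  have hQ1 : 1 ≤ 2 ^ (2 * m + 1) := Nat.one_le_two_pow
  have hRltQ : 2 ^ (m + 1) < 2 ^ (2 * m + 1) := Nat.pow_lt_pow_right (by norm_num) (by omega)
  have ha1 : 2 ^ (2 * m + 1) + 2 ^ (m + 1) + 1 ≠ 1 := by
    intro h
    have : 2 ^ (2 * m + 1) + 2 ^ (m + 1) = 0 := Nat.succ_injective h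
    have h3 := Nat.le_add_right (2 ^ (2 * m + 1)) (2 ^ (m + 1))
    rw [this] at h3
    exact absurd (lt_of_lt_of_le Nat.one_pos hQ1) (by rw [Nat.le_zero.mp h3]; exact lt_irrefl 0)
  have ha2 : 2 ^ (2 * m + 1) - 2 ^ (m + 1) + 1 ≠ 1 := by
    intro h
    have : 2 ^ (2 * m + 1) - 2 ^ (m + 1) = 0 := Nat.succ_injective h
    exact absurd (Nat.sub_eq_zero_iff_le.mp this) (not_le.mpr hRltQ)
  -- a Sylow 2-subgroup has cardinality coprime to odd numbers
  have hsyl_cop : ∀ (P : Sylow 2 ↥(Cfsg.Sz F m)) (n : ℕ), ¬ 2 ∣ n →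
      Nat.Coprime (Nat.card (P : Subgroup ↥(Cfsg.Sz F m))) n := by
    intro P n hn
    obtain ⟨k, hk⟩ := IsPGroup.iff_card.mp P.isPGroup'
    rw [hk]
    apply Nat.Coprime.pow_left
    rw [Nat.coprime_two_left]
    exact Nat.odd_iff.mpr (by omega)
  have hodd : ∀ n ∈ ({2 ^ (2 * m + 1) - 1, 2 ^ (2 * m + 1) + 2 ^ (m + 1) + 1,
      2 ^ (2 * m + 1) - 2 ^ (m + 1) + 1} : Set ℕ), ¬ 2 ∣ n := by
    intro n hn
    rcases hn with rfl | rfl | hn
    · omega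
    · omega
    · rw [Set.mem_singleton_iff] at hn
      subst hn
      omega
  have hcopQ : ∀ n : ℕ, n = 2 ^ (2 * m + 1) + 2 ^ (m + 1) + 1 ∨ n = 2 ^ (2 * m + 1) - 2 ^ (m + 1) + 1 →
      Nat.Coprime (2 ^ (2 * m + 1) - 1) n := by
    intro n hn
    have hdvd : n ∣ (2 ^ (2 * m + 1)) ^ 2 + 1 := by
      rw [← nf_prod m]
      rcases hn with rfl | rfl
      · exact Dvd.intro _ rfl
      · exact Dvd.intro_left _ rfl
    exact Nat.Coprime.coprime_dvd_right hdvd (nf_cop1 m)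
  by_cases h1 : ∃ ω : ↥(Cfsg.suzukiOvoid F m), g • ω = ω
  · obtain ⟨ω, hω⟩ := h1
    by_cases h2 : ∃ ω' : ↥(Cfsg.suzukiOvoid F m), ω' ≠ ω ∧ g • ω' = ω'
    · -- two fixed points
      obtain ⟨ω', hne, hω'⟩ := h2
      obtain ⟨U, hUc, hUcard, hUfix, hUcent⟩ := two_pt_torus hF hm ω ω' (Ne.symm hne)
      have hgU : g ∈ U := hUfix g hω hω'
      refine ⟨U, ⟨Or.inr ⟨hUc, by rw [hUcard]; exact Set.mem_insert _ _⟩, hgU⟩, ?_⟩
      rintro U' ⟨hU', hgU'⟩
      rcases hU' with ⟨P, rfl⟩ | ⟨hcyc, hcard⟩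
      · exfalso
        apply hg
        apply coprime_mem_eq_one _ _ g hgU' hgU
        rw [hUcard]
        exact hsyl_cop P _ (by omega)
      · rcases hcard with hc | hc | hc
        · -- same order: U' ≤ C(g) ≤ U
          have hle : U' ≤ U := by
            intro u hu
            apply hUcent g hg hω hω'
            rw [Subgroup.mem_centralizer_iff]
            intro w hw
            rw [Set.mem_singleton_iff.mp hw]
            letI : CommGroup ↥U' := IsCyclic.commGroup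
            have := mul_comm (⟨g, hgU'⟩ : ↥U') ⟨u, hu⟩
            exact congrArg Subtype.val this
          exact Subgroup.eq_of_le_of_card_ge hle (by rw [hUcard, hc])
        · exfalso
          apply hg
          apply coprime_mem_eq_one _ _ g hgU hgU'
          rw [hUcard, hc]
          exact hcopQ _ (Or.inl rfl)
        · exfalso
          rw [Set.mem_singleton_iff] at hc
          apply hg
          apply coprime_mem_eq_one _ _ g hgU hgU'
          rw [hUcard, hc]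
          exact hcopQ _ (Or.inr rfl)
    · -- unique fixed point
      push Not at h2
      have huniq : ∀ ω' : ↥(Cfsg.suzukiOvoid F m), g • ω' = ω' → ω' = ω :=
        fun ω' h => by_contra fun hne => h2 ω' hne h
      have hC2 := cent_unique_fix hF hm g hg ω hω huniq
      have hgC : g ∈ Subgroup.centralizer ({g} : Set ↥(Cfsg.Sz F m)) := self_mem_cent g
      have hzP : IsPGroup 2 (Subgroup.zpowers g) := by
        apply hC2.to_le
        rw [Subgroup.zpowers_le]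
        exact hgC
      obtain ⟨P, hP⟩ := hzP.exists_le_sylow
      have hgP : g ∈ (P : Subgroup ↥(Cfsg.Sz F m)) := hP (Subgroup.mem_zpowers g)
      refine ⟨P, ⟨Or.inl ⟨P, rfl⟩, hgP⟩, ?_⟩
      rintro U' ⟨hU', hgU'⟩
      rcases hU' with ⟨P', rfl⟩ | ⟨hcyc, hcard⟩
      · exact (sylow_unique hF hm g hg P P' hgP hgU').symm
      · exfalso
        apply hg
        apply coprime_mem_eq_one _ _ g hgP hgU'
        exact hsyl_cop P _ (hodd _ hcard)
  · -- fixed-point-free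
    push Not at h1
    have hgf : g ∈ fpfSet F m := h1
    have hgC : g ∈ Subgroup.centralizer ({g} : Set ↥(Cfsg.Sz F m)) := self_mem_cent g
    have hCcard := fpf_cent_card hF hm g hgf
    have hCcyc := cent_fpf_cyclic hF hm g h1
    refine ⟨Subgroup.centralizer ({g} : Set ↥(Cfsg.Sz F m)), ⟨Or.inr ⟨hCcyc, ?_⟩, hgC⟩, ?_⟩
    · rcases hCcard with h | h
      · rw [h]; exact Set.mem_insert_of_mem _ (Set.mem_insert _ _)
      · rw [h]; exact Set.mem_insert_of_mem _ (Set.mem_insert_of_mem _ rfl)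
    rintro U' ⟨hU', hgU'⟩
    rcases hU' with ⟨P, rfl⟩ | ⟨hcyc, hcard⟩
    · exfalso
      apply hg
      apply coprime_mem_eq_one _ _ g hgU' hgC
      apply hsyl_cop P
      rcases hCcard with h | h <;> rw [h] <;> omega
    · have hle : U' ≤ Subgroup.centralizer ({g} : Set ↥(Cfsg.Sz F m)) := by
        intro u hu
        rw [Subgroup.mem_centralizer_iff]
        intro w hw
        rw [Set.mem_singleton_iff.mp hw]
        letI : CommGroup ↥U' := IsCyclic.commGroup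
        have := mul_comm (⟨g, hgU'⟩ : ↥U') ⟨u, hu⟩
        exact congrArg Subtype.val this
      have hdvd := Subgroup.card_dvd_of_le hle
      rcases hcard with hc | hc | hc
      · exfalso
        apply hg
        apply coprime_mem_eq_one _ _ g hgU' hgC
        rw [hc]
        exact hcopQ _ hCcard
      · rcases hCcard with h | h
        · exact Subgroup.eq_of_le_of_card_ge hle (by rw [h, hc])
        · exfalso
          rw [hc, h] at hdvd
          exact ha1 (Nat.Coprime.eq_one_of_dvd (nf_cop2 m) hdvd)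
      · rw [Set.mem_singleton_iff] at hc
        rcases hCcard with h | h
        · exfalso
          rw [hc, h] at hdvd
          exact ha2 (Nat.Coprime.eq_one_of_dvd (nf_cop2 m).symm hdvd)
        · exact Subgroup.eq_of_le_of_card_ge hle (by rw [h, hc])

end
end Cfsg.Agent.Lib.Helper4_SzPart
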