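import Mathlib

set_option autoImplicit false

namespace Cfsg.Agent.Lib.Helper4_TotSing1

open Finset

theorem zmod2_add_one_eq_zero (x : ZMod 2) : x + 1 = 0 ↔ ¬ (x = 0) := by
  revert x; decide

theorem DC {V : Type*} [AddCommGroup V] [Fintype V] (U : AddSubgroup V)
    (Q : V → ZMod 2) (B : V → V → ZMod 2)
    (h1 : ∀ v, ∀ u ∈ U, Q (v + u) = Q v + B v u)
    (h2 : ∀ v ∈ U, Q v = 0)
    (h3 : ∀ v ∈ U, ∀ u ∈ U, B v u = 0)
    (h4 : ∀ v, v ∉ U → ∃ u₀ ∈ U, B v u₀ = 1)
    (h5 : ∀ v, ∀ u ∈ U, ∀ u' ∈ U, B v (u + u') = B v u + B v u') :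
    2 * Nat.card {v : V // Q v = 0} = Nat.card U + Nat.card V := by
  classical
  have : Fintype U := Fintype.ofFinite U
  rw [Nat.card_eq_fintype_card, Nat.card_eq_fintype_card, Nat.card_eq_fintype_card]
  set c : V → ℕ := fun v => Fintype.card {u : U // Q (v + u) = 0} with hc
  -- Step 1
  have s1 : ∑ v, c v = Fintype.card {v : V // Q v = 0} * Fintype.card U := by
    have e1 : {p : V × U // Q (p.1 + p.2) = 0} ≃ Σ v : V, {u : U // Q (v + u) = 0} :=
      Equiv.subtypeProdEquivSigmaSubtype (fun v (u : U) => Q (v + u) = 0)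
    have e2 : {p : V × U // Q (p.1 + p.2) = 0} ≃ {p : V × U // Q p.1 = 0} :=
      { toFun := fun p => ⟨(p.1.1 + p.1.2, p.1.2), p.2⟩
        invFun := fun p => ⟨(p.1.1 - p.1.2, p.1.2), by simpa using p.2⟩
        left_inv := fun p => by apply Subtype.ext; simp
        right_inv := fun p => by apply Subtype.ext; simp }
    have e3 : {p : V × U // Q p.1 = 0} ≃ {v : V // Q v = 0} × U :=
      { toFun := fun p => (⟨p.1.1, p.2⟩, p.1.2)
        invFun := fun p => ⟨(p.1.1, p.2), p.1.2⟩
        left_inv := fun p => rfl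
        right_inv := fun p => rfl }
    rw [← Fintype.card_prod, ← Fintype.card_congr e3, ← Fintype.card_congr e2,
      Fintype.card_congr e1, Fintype.card_sigma]
  -- Step 2
  have s2 : ∀ v, v ∈ U → c v = Fintype.card U := by
    intro v hv
    simp only [hc]
    apply Fintype.card_congr
    apply Equiv.subtypeUnivEquiv
    intro u
    rw [h1 v u u.2, h2 v hv, h3 v hv u u.2, add_zero]
  have s3 : ∀ v, v ∉ U → 2 * c v = Fintype.card U := by
    intro v hv
    obtain ⟨u₀, hu₀, hB⟩ := h4 v hv
    have e : {u : U // Q (v + u) = 0} ≃ {u : U // ¬ (Q (v + u) = 0)} :=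
      { toFun := fun u => ⟨u.1 + ⟨u₀, hu₀⟩, by
          have := u.2
          show ¬ (Q (v + ((u.1 : V) + u₀)) = 0)
          rw [h1 v _ (U.add_mem u.1.2 hu₀), h5 v _ u.1.2 _ hu₀, hB, ← add_assoc,
            ← h1 v _ u.1.2, this]
          decide⟩
        invFun := fun u => ⟨u.1 - ⟨u₀, hu₀⟩, by
          have := u.2
          show Q (v + ((u.1 : V) - u₀)) = 0
          have e0 : Q (v + (u.1 : V)) = Q (v + ((u.1 : V) - u₀)) + 1 := by
            have : (u.1 : V) = ((u.1 : V) - u₀) + u₀ := by abel
            conv_lhs => rw [this]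
            rw [h1 v _ (U.add_mem (U.sub_mem u.1.2 hu₀) hu₀),
              h5 v _ (U.sub_mem u.1.2 hu₀) _ hu₀, hB, ← add_assoc,
              ← h1 v _ (U.sub_mem u.1.2 hu₀)]
          rw [e0, zmod2_add_one_eq_zero, not_not] at this
          exact this⟩
        left_inv := fun u => by apply Subtype.ext; simp
        right_inv := fun u => by apply Subtype.ext; simp }
    have := Fintype.card_subtype_compl (fun u : U => Q (v + u) = 0)
    rw [← Fintype.card_congr e] at this
    have hle : Fintype.card {u : U // Q (v + u) = 0} ≤ Fintype.card U := Fintype.card_subtype_le _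
    simp only [hc]
    omega
  -- Step 3
  have s4 : 2 * ∑ v, c v = Fintype.card U * (Fintype.card U + Fintype.card V) := by
    rw [Finset.mul_sum, ← Finset.sum_filter_add_sum_filter_not Finset.univ (fun v => v ∈ U)]
    rw [Finset.sum_congr rfl (fun v hv => by
        rw [s2 v (Finset.mem_filter.mp hv).2] : ∀ v ∈ Finset.univ.filter (fun v => v ∈ U),
          2 * c v = 2 * Fintype.card U),
      Finset.sum_congr rfl (fun v hv => by
        rw [s3 v (Finset.mem_filter.mp hv).2] : ∀ v ∈ Finset.univ.filter (fun v => ¬ v ∈ U),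
          2 * c v = Fintype.card U)]
    rw [Finset.sum_const, Finset.sum_const, smul_eq_mul, smul_eq_mul]
    have k1 : (Finset.univ.filter (fun v : V => v ∈ U)).card = Fintype.card U := by
      rw [Fintype.card_subtype]
    have k2 : (Finset.univ.filter (fun v : V => ¬ v ∈ U)).card =
        Fintype.card V - Fintype.card U := by
      rw [Finset.filter_not, Finset.card_sdiff_of_subset (Finset.filter_subset _ _), k1,
        Finset.card_univ]
    have k3 : Fintype.card U ≤ Fintype.card V := Fintype.card_subtype_le _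
    rw [k1, k2]
    zify [k3]
    ring
  rw [s1] at s4
  have hU : 0 < Fintype.card U := Fintype.card_pos
  have : Fintype.card U * (2 * Fintype.card {v : V // Q v = 0}) =
      Fintype.card U * (Fintype.card U + Fintype.card V) := by
    rw [← s4]; ring
  exact Nat.eq_of_mul_eq_mul_left hU this

end Cfsg.Agent.Lib.Helper4_TotSing1
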