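import Mathlib
import Cfsg.Prelude.Def_Classical
import Cfsg.Agent.Lib.Helper4_Gram2
import Cfsg.Agent.Lib.Helper4_Count1
import Cfsg.Agent.Lib.Helper4_TotSing0
import Cfsg.Agent.Lib.Helper4_TotSing1

set_option autoImplicit false

namespace Cfsg.Agent.Lib.Helper4_TotSing2

open Module Matrix Cfsg.Agent.Lib.Helper4_Gram0 Cfsg.Agent.Lib.Helper4_Gram1
  Cfsg.Agent.Lib.Helper4_Gram2 Cfsg.Agent.Lib.Helper4_Count1 Cfsg.Agent.Lib.Helper4_TotSing0
  Cfsg.Agent.Lib.Helper4_TotSing1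

variable {F : Type*} [Field F]

/-- embedding of the first half -/
def Lp (F : Type*) [Field F] (m : ℕ) : (Fin m → F) →ₗ[F] (Fin m ⊕ Fin m → F) :=
  LinearMap.pi (Sum.elim (fun i => LinearMap.proj i) (fun _ => 0))

theorem Lp_inj (m : ℕ) : Function.Injective (Lp F m) := by
  intro x y h
  ext i
  have := congrFun h (Sum.inl i)
  simpa [Lp] using this

theorem Lp_sing (m : ℕ) (u : Fin m ⊕ Fin m → F) (hu : u ∈ LinearMap.range (Lp F m)) :
    Cfsg.quadFormPlus m F u = 0 := by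
  obtain ⟨x, rfl⟩ := hu
  simp [Cfsg.quadFormPlus, Lp]

/-- embedding of the first half, minus form -/
def Lm (F : Type*) [Field F] (k : ℕ) : (Fin k → F) →ₗ[F] ((Fin k ⊕ Fin k) ⊕ Fin 2 → F) :=
  LinearMap.pi (Sum.elim (Sum.elim (fun i => LinearMap.proj i) (fun _ => 0)) (fun _ => 0))

theorem Lm_inj (k : ℕ) : Function.Injective (Lm F k) := by
  intro x y h
  ext i
  have := congrFun h (Sum.inl (Sum.inl i))
  simpa [Lm] using this

theorem Lm_sing (k : ℕ) (a b : F) (u : (Fin k ⊕ Fin k) ⊕ Fin 2 → F)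
    (hu : u ∈ LinearMap.range (Lm F k)) :
    Cfsg.quadFormMinus k F a b u = 0 := by
  obtain ⟨x, rfl⟩ := hu
  simp [Cfsg.quadFormMinus, Lm]

theorem part1 (m : ℕ) : ∃ U : Submodule F (Fin m ⊕ Fin m → F),
    (∀ u ∈ U, Cfsg.quadFormPlus m F u = 0) ∧ Module.finrank F ↥U = m := by
  refine ⟨LinearMap.range (Lp F m), Lp_sing m, ?_⟩
  rw [LinearMap.finrank_range_of_inj (Lp_inj m), Module.finrank_fin_fun]

theorem part3 (k : ℕ) (a b : F) : ∃ U : Submodule F ((Fin k ⊕ Fin k) ⊕ Fin 2 → F),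
    (∀ u ∈ U, Cfsg.quadFormMinus k F a b u = 0) ∧ Module.finrank F ↥U = k := by
  refine ⟨LinearMap.range (Lm F k), Lm_sing k a b, ?_⟩
  rw [LinearMap.finrank_range_of_inj (Lm_inj k), Module.finrank_fin_fun]

theorem part2 (m : ℕ) (U : Submodule F (Fin m ⊕ Fin m → F))
    (hU : ∀ u ∈ U, Cfsg.quadFormPlus m F u = 0) : Module.finrank F ↥U ≤ m := by
  rw [qplus_eq] at hU
  have hdet : (Tm F m + (Tm F m)ᵀ).det ≠ 0 := by
    rw [Tm_add, det_hyp]
    exact pow_ne_zero _ (neg_ne_zero.mpr one_ne_zero)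
  have := tot_sing_bound (Tm F m) hdet U hU
  rw [Fintype.card_sum, Fintype.card_fin] at this
  omega

theorem part4 (k : ℕ) (U : Submodule (ZMod 2) ((Fin k ⊕ Fin k) ⊕ Fin 2 → ZMod 2))
    (hU : ∀ u ∈ U, Cfsg.quadFormMinus k (ZMod 2) 1 1 u = 0) :
    Module.finrank (ZMod 2) ↥U ≤ k := by
  have hab : ∀ z₁ z₂ : ZMod 2, z₁ ^ 2 + 1 * z₁ * z₂ + 1 * z₂ ^ 2 = 0 → z₁ = 0 ∧ z₂ = 0 := by
    decide
  have hcount := NMinus_closed (F := ZMod 2) 1 1 hab k
  unfold NMinus at hcount
  rw [qminus_eq] at hU hcount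
  set T := Te (ZMod 2) k 1 1 with hT
  have hdet : (T + Tᵀ).det ≠ 0 := by
    rw [hT, det_ell]
    have : ((1 : ZMod 2) ^ 2 - 4 * 1) = 1 := by decide
    rw [this, mul_one]
    exact pow_ne_zero _ (neg_ne_zero.mpr one_ne_zero)
  have hb := tot_sing_bound T hdet U hU
  rw [Fintype.card_sum, Fintype.card_sum, Fintype.card_fin, Fintype.card_fin] at hb
  by_contra hcon
  have hfin : Module.finrank (ZMod 2) ↥U = k + 1 := by omega
  have horth := eq_orth T hdet U hU (by
    rw [Fintype.card_sum, Fintype.card_sum, Fintype.card_fin, Fintype.card_fin, hfin]; ring)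
  have hsymm : ∀ u v, Matrix.toBilin' (T + Tᵀ) u v = Matrix.toBilin' (T + Tᵀ) v u := by
    intro u v
    have : (Matrix.toBilin' (T + Tᵀ)).IsSymm := by
      rw [Matrix.isSymm_toBilin'_iff_isSymm]
      exact Matrix.isSymm_add_transpose_self T
    exact this.eq u v
  have hdc := DC U.toAddSubgroup (qT T) (fun v u => Matrix.toBilin' (T + Tᵀ) v u)
    (by
      intro v u hu
      rw [qT_add, hU u hu, add_zero])
    (by intro v hv; exact hU v hv)
    (by
      intro v hv u hu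
      have := le_orth T U hU hu
      rw [LinearMap.BilinForm.mem_orthogonal_iff] at this
      exact this v hv)
    (by
      intro v hv
      have hv' : v ∉ (Matrix.toBilin' (T + Tᵀ)).orthogonal U := by rw [horth]; exact hv
      rw [LinearMap.BilinForm.mem_orthogonal_iff] at hv'
      push Not at hv'
      obtain ⟨n, hn, hne⟩ := hv'
      refine ⟨n, hn, ?_⟩
      have hne' : Matrix.toBilin' (T + Tᵀ) n v ≠ 0 := hne
      rw [hsymm] at hne'
      generalize (Matrix.toBilin' (T + Tᵀ) v) n = x at hne'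
      revert x; decide)
    (by
      intro v u _ u' _
      simp only [map_add])
  have c1 : Nat.card U.toAddSubgroup = 2 ^ (k + 1) := by
    have := Module.natCard_eq_pow_finrank (K := ZMod 2) (V := U)
    rw [hfin, Nat.card_zmod] at this
    exact this
  have c2 : Nat.card ((Fin k ⊕ Fin k) ⊕ Fin 2 → ZMod 2) = 2 ^ (2 * k + 2) := by
    rw [Nat.card_eq_fintype_card, Fintype.card_fun, Fintype.card_sum, Fintype.card_sum,
      Fintype.card_fin, Fintype.card_fin, ZMod.card]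
    congr 1; ring
  rw [c1, c2] at hdc
  rw [ZMod.card] at hcount
  have : 0 < 2 ^ (k + 2) := by positivity
  omega

end Cfsg.Agent.Lib.Helper4_TotSing2
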