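import Mathlib
import Cfsg.Agent.Lib.Helper4_PSL27

set_option autoImplicit false

namespace Cfsg.Agent.Lib.Helper4_U33T

/-- model of the field with nine elements: `re + im * i`, `i^2 = -1` over `ZMod 3` -/
structure F9m where
  re : ZMod 3
  im : ZMod 3
deriving DecidableEq, Fintype

namespace F9m

instance : Zero F9m := ⟨⟨0, 0⟩⟩
instance : One F9m := ⟨⟨1, 0⟩⟩
instance : Add F9m := ⟨fun x y => ⟨x.re + y.re, x.im + y.im⟩⟩
instance : Neg F9m := ⟨fun x => ⟨-x.re, -x.im⟩⟩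
instance : Mul F9m := ⟨fun x y => ⟨x.re * y.re - x.im * y.im, x.re * y.im + x.im * y.re⟩⟩

theorem add_assoc' : ∀ a b c : F9m, a + b + c = a + (b + c) := by decide
theorem zero_add' : ∀ a : F9m, 0 + a = a := by decide
theorem add_zero' : ∀ a : F9m, a + 0 = a := by decide
theorem add_comm' : ∀ a b : F9m, a + b = b + a := by decide
theorem neg_add_cancel' : ∀ a : F9m, -a + a = 0 := by decide
theorem mul_assoc' : ∀ a b c : F9m, a * b * c = a * (b * c) := by decide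
theorem one_mul' : ∀ a : F9m, 1 * a = a := by decide
theorem mul_one' : ∀ a : F9m, a * 1 = a := by decide
theorem mul_comm' : ∀ a b : F9m, a * b = b * a := by decide
theorem left_distrib' : ∀ a b c : F9m, a * (b + c) = a * b + a * c := by decide
theorem right_distrib' : ∀ a b c : F9m, (a + b) * c = a * c + b * c := by decide
theorem zero_mul' : ∀ a : F9m, 0 * a = 0 := by decide
theorem mul_zero' : ∀ a : F9m, a * 0 = 0 := by decide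

instance : CommRing F9m where
  add_assoc := add_assoc'
  zero_add := zero_add'
  add_zero := add_zero'
  add_comm := add_comm'
  neg_add_cancel := neg_add_cancel'
  mul_assoc := mul_assoc'
  one_mul := one_mul'
  mul_one := mul_one'
  mul_comm := mul_comm'
  left_distrib := left_distrib'
  right_distrib := right_distrib'
  zero_mul := zero_mul'
  mul_zero := mul_zero'
  nsmul := nsmulRec
  zsmul := zsmulRec

end F9m


open Cfsg.Agent.Lib.Helper4_PSL27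

def tbl9 : List (ℕ × List (ℕ × ℕ)) := [
  (84, [(0,0), (0,0), (0,2), (0,0), (2,0), (0,0), (0,1), (0,0), (0,0)]),
  (85, [(2,2), (1,2), (0,0), (0,2), (2,0), (2,1), (0,1), (1,0), (2,1)]),
  (86, [(2,0), (2,2), (0,2), (1,2), (0,0), (2,2), (0,1), (1,2), (2,0)]),
  (87, [(2,1), (0,2), (0,2), (2,2), (2,0), (2,0), (0,0), (1,1), (2,2)]),
  (92, [(1,1), (2,1), (0,0), (0,2), (2,0), (1,2), (0,1), (1,0), (1,2)]),
  (93, [(0,0), (0,0), (0,1), (0,2), (0,0), (0,0), (0,0), (1,0), (0,0)]),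
  (94, [(1,2), (0,1), (0,1), (0,0), (2,2), (1,1), (1,1), (1,0), (1,0)]),
  (95, [(1,0), (1,1), (0,1), (0,2), (2,1), (1,0), (2,1), (0,0), (1,1)]),
  (98, [(0,0), (0,0), (0,1), (0,1), (0,0), (0,0), (0,0), (2,0), (0,0)]),
  (99, [(2,2), (1,2), (0,0), (0,1), (1,0), (1,2), (0,2), (2,0), (1,2)]),
  (102, [(2,1), (0,2), (0,1), (0,0), (1,1), (1,1), (2,2), (2,0), (1,0)]),
  (103, [(2,0), (2,2), (0,1), (0,1), (1,2), (1,0), (1,2), (0,0), (1,1)]),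
  (106, [(1,1), (2,1), (0,0), (0,1), (1,0), (2,1), (0,2), (2,0), (2,1)]),
  (107, [(0,0), (0,0), (0,2), (0,0), (1,0), (0,0), (0,2), (0,0), (0,0)]),
  (110, [(1,0), (1,1), (0,2), (2,1), (0,0), (2,2), (0,2), (2,1), (2,0)]),
  (111, [(1,2), (0,1), (0,2), (1,1), (1,0), (2,0), (0,0), (2,2), (2,2)]),
  (114, [(1,0), (1,1), (0,1), (0,1), (1,2), (2,0), (1,2), (0,0), (2,2)]),
  (115, [(2,1), (0,2), (0,2), (1,1), (1,0), (1,0), (0,0), (2,2), (1,1)]),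
  (116, [(1,2), (0,1), (0,2), (2,2), (2,0), (1,0), (0,0), (1,1), (1,1)]),
  (117, [(2,0), (2,2), (0,1), (0,2), (2,1), (2,0), (2,1), (0,0), (2,2)]),
  (122, [(1,2), (0,1), (0,1), (0,0), (1,1), (2,2), (2,2), (2,0), (2,0)]),
  (123, [(2,0), (2,2), (0,2), (2,1), (0,0), (1,1), (0,2), (2,1), (1,0)]),
  (124, [(1,0), (1,1), (0,2), (1,2), (0,0), (1,1), (0,1), (1,2), (1,0)]),
  (125, [(2,1), (0,2), (0,1), (0,0), (2,2), (2,2), (1,1), (1,0), (2,0)]),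
  (140, [(0,0), (0,2), (0,0), (0,0), (0,0), (2,0), (0,2), (0,0), (0,0)]),
  (141, [(1,0), (0,2), (2,2), (2,1), (2,2), (0,0), (0,2), (2,0), (1,2)]),
  (142, [(1,1), (0,0), (1,2), (0,1), (2,1), (2,0), (0,2), (2,1), (1,0)]),
  (143, [(1,2), (0,2), (0,2), (1,1), (2,0), (2,0), (0,0), (2,2), (1,1)]),
  (156, [(2,2), (0,0), (2,1), (0,1), (1,2), (2,0), (0,2), (1,2), (1,0)]),
  (157, [(2,1), (0,1), (0,1), (0,0), (1,1), (2,2), (2,2), (1,0), (1,0)]),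
  (158, [(0,0), (0,1), (0,0), (0,1), (0,0), (0,0), (0,0), (0,0), (1,0)]),
  (159, [(2,0), (0,1), (1,1), (0,1), (1,0), (2,1), (1,2), (1,1), (0,0)]),
  (161, [(0,0), (0,1), (0,0), (0,2), (0,0), (0,0), (0,0), (0,0), (2,0)]),
  (163, [(1,1), (0,0), (1,2), (0,2), (1,2), (1,0), (0,1), (1,2), (2,0)]),
  (165, [(1,2), (0,1), (0,2), (0,0), (1,1), (1,1), (1,1), (1,0), (2,0)]),
  (167, [(1,0), (0,1), (2,2), (0,2), (1,0), (1,2), (2,1), (1,1), (0,0)]),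
  (169, [(2,0), (0,1), (1,1), (0,2), (2,0), (1,2), (2,1), (2,2), (0,0)]),
  (171, [(1,2), (0,2), (0,2), (2,2), (1,0), (1,0), (0,0), (1,1), (2,2)]),
  (172, [(2,1), (0,2), (0,1), (1,1), (1,0), (2,0), (0,0), (1,1), (1,1)]),
  (174, [(1,0), (0,1), (2,2), (0,1), (2,0), (2,1), (1,2), (2,2), (0,0)]),
  (177, [(2,2), (0,0), (2,1), (0,2), (2,1), (1,0), (0,1), (2,1), (2,0)]),
  (179, [(0,0), (0,2), (0,0), (0,0), (0,0), (1,0), (0,1), (0,0), (0,0)]),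
  (181, [(2,0), (0,2), (1,1), (1,2), (2,2), (0,0), (0,1), (2,0), (2,1)]),
  (183, [(2,1), (0,2), (0,1), (2,2), (2,0), (1,0), (0,0), (2,2), (2,2)]),
  (185, [(2,1), (0,1), (0,1), (0,0), (2,2), (1,1), (1,1), (2,0), (2,0)]),
  (187, [(1,0), (0,2), (2,2), (1,2), (1,1), (0,0), (0,1), (1,0), (2,1)]),
  (188, [(2,0), (0,2), (1,1), (2,1), (1,1), (0,0), (0,2), (1,0), (1,2)]),
  (190, [(1,2), (0,1), (0,2), (0,0), (2,2), (2,2), (2,2), (2,0), (1,0)]),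
  (204, [(1,0), (0,2), (1,1), (1,2), (1,1), (0,0), (0,2), (2,0), (2,1)]),
  (205, [(1,0), (0,0), (0,0), (0,0), (0,0), (1,0), (0,0), (2,0), (0,0)]),
  (206, [(0,0), (1,2), (2,1), (2,2), (1,0), (1,0), (2,2), (2,0), (2,0)]),
  (207, [(1,0), (2,2), (0,1), (0,2), (1,2), (1,0), (1,2), (0,0), (2,2)]),
  (212, [(2,0), (1,1), (0,2), (2,1), (0,0), (1,1), (0,1), (2,1), (2,0)]),
  (213, [(0,0), (2,1), (1,2), (1,1), (1,0), (1,0), (1,1), (2,0), (2,0)]),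
  (214, [(2,0), (0,0), (0,0), (0,0), (1,0), (0,0), (0,0), (0,0), (2,0)]),
  (215, [(2,0), (0,1), (2,2), (0,1), (1,0), (1,2), (2,1), (2,2), (0,0)]),
  (225, [(2,0), (0,1), (2,2), (0,2), (2,0), (2,1), (1,2), (1,1), (0,0)]),
  (226, [(1,0), (2,2), (0,1), (0,1), (2,1), (2,0), (2,1), (0,0), (1,1)]),
  (229, [(1,0), (1,1), (0,2), (0,1), (1,2), (1,0), (2,1), (0,0), (2,2)]),
  (230, [(2,0), (0,2), (1,1), (0,2), (1,0), (1,2), (1,2), (2,2), (0,0)]),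
  (233, [(2,0), (0,0), (0,0), (0,0), (2,0), (0,0), (0,0), (0,0), (1,0)]),
  (234, [(0,0), (1,2), (2,1), (1,1), (2,0), (2,0), (1,1), (1,0), (1,0)]),
  (236, [(2,0), (2,2), (0,1), (2,1), (0,0), (2,2), (0,1), (1,2), (1,0)]),
  (239, [(2,0), (0,2), (1,1), (0,1), (2,0), (2,1), (2,1), (1,1), (0,0)]),
  (241, [(0,0), (2,1), (1,2), (2,2), (2,0), (2,0), (2,2), (1,0), (1,0)]),
  (242, [(1,0), (0,0), (0,0), (0,0), (0,0), (2,0), (0,0), (1,0), (0,0)]),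
  (244, [(1,0), (0,1), (2,2), (1,2), (2,2), (0,0), (0,2), (1,0), (1,2)]),
  (247, [(1,0), (1,1), (0,2), (0,2), (2,1), (2,0), (1,2), (0,0), (1,1)]),
  (249, [(2,0), (1,1), (0,2), (1,2), (0,0), (2,2), (0,2), (1,2), (1,0)]),
  (250, [(1,0), (0,2), (1,1), (2,1), (2,2), (0,0), (0,1), (1,0), (1,2)]),
  (253, [(1,0), (0,1), (2,2), (2,1), (1,1), (0,0), (0,1), (2,0), (2,1)]),
  (254, [(2,0), (2,2), (0,1), (1,2), (0,0), (1,1), (0,2), (2,1), (2,0)]),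
  (266, [(2,0), (0,0), (0,0), (0,0), (0,0), (1,0), (0,0), (1,0), (0,0)]),
  (267, [(2,0), (0,1), (1,1), (2,1), (2,2), (0,0), (0,1), (1,0), (2,1)]),
  (270, [(0,0), (2,1), (2,1), (1,1), (2,0), (1,0), (1,1), (1,0), (2,0)]),
  (271, [(2,0), (1,1), (0,1), (0,1), (2,1), (1,0), (2,1), (0,0), (2,2)]),
  (273, [(1,0), (0,0), (0,0), (0,0), (1,0), (0,0), (0,0), (0,0), (1,0)]),
  (275, [(1,0), (1,1), (0,1), (1,2), (0,0), (2,2), (0,2), (2,1), (1,0)]),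
  (277, [(0,0), (2,1), (2,1), (2,2), (1,0), (2,0), (2,2), (2,0), (1,0)]),
  (279, [(1,0), (0,1), (1,1), (0,2), (1,0), (2,1), (1,2), (2,2), (0,0)]),
  (281, [(1,0), (0,2), (2,2), (0,1), (1,0), (2,1), (2,1), (2,2), (0,0)]),
  (282, [(2,0), (2,2), (0,2), (0,2), (2,1), (1,0), (1,2), (0,0), (2,2)]),
  (285, [(2,0), (1,1), (0,1), (0,2), (1,2), (2,0), (1,2), (0,0), (1,1)]),
  (286, [(1,0), (0,1), (1,1), (0,1), (2,0), (1,2), (2,1), (1,1), (0,0)]),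
  (298, [(0,0), (1,2), (1,2), (2,2), (2,0), (1,0), (2,2), (1,0), (2,0)]),
  (299, [(1,0), (2,2), (0,2), (1,2), (0,0), (1,1), (0,2), (1,2), (2,0)]),
  (302, [(1,0), (0,0), (0,0), (0,0), (2,0), (0,0), (0,0), (0,0), (2,0)]),
  (303, [(1,0), (0,2), (2,2), (0,2), (2,0), (1,2), (1,2), (1,1), (0,0)]),
  (305, [(0,0), (1,2), (1,2), (1,1), (1,0), (2,0), (1,1), (2,0), (1,0)]),
  (307, [(2,0), (0,2), (2,2), (2,1), (1,1), (0,0), (0,1), (2,0), (1,2)]),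
  (309, [(2,0), (0,0), (0,0), (0,0), (0,0), (2,0), (0,0), (2,0), (0,0)]),
  (311, [(2,0), (2,2), (0,2), (0,1), (1,2), (2,0), (2,1), (0,0), (1,1)]),
  (313, [(1,0), (2,2), (0,2), (2,1), (0,0), (2,2), (0,1), (2,1), (1,0)]),
  (314, [(2,0), (0,2), (2,2), (1,2), (2,2), (0,0), (0,2), (1,0), (2,1)]),
  (317, [(2,0), (0,1), (1,1), (1,2), (1,1), (0,0), (0,2), (2,0), (1,2)]),
  (318, [(1,0), (1,1), (0,1), (2,1), (0,0), (1,1), (0,1), (1,2), (2,0)]),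
  (330, [(2,0), (0,1), (2,2), (1,2), (1,1), (0,0), (0,1), (1,0), (1,2)]),
  (331, [(0,0), (0,1), (0,0), (0,0), (0,0), (2,0), (0,1), (0,0), (0,0)]),
  (334, [(2,2), (0,0), (1,2), (0,2), (1,2), (2,0), (0,1), (1,2), (1,0)]),
  (335, [(2,1), (0,1), (0,2), (2,2), (1,0), (2,0), (0,0), (1,1), (1,1)]),
  (337, [(1,0), (0,2), (1,1), (0,1), (1,0), (1,2), (1,2), (1,1), (0,0)]),
  (339, [(1,2), (0,1), (0,1), (2,2), (2,0), (2,0), (0,0), (2,2), (1,1)]),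
  (340, [(2,1), (0,1), (0,2), (1,1), (2,0), (1,0), (0,0), (2,2), (2,2)]),
  (342, [(2,0), (0,2), (2,2), (0,2), (1,0), (2,1), (2,1), (1,1), (0,0)]),
  (345, [(0,0), (0,2), (0,0), (0,1), (0,0), (0,0), (0,0), (0,0), (2,0)]),
  (346, [(2,1), (0,2), (0,2), (0,0), (2,2), (1,1), (2,2), (2,0), (2,0)]),
  (348, [(2,2), (0,0), (1,2), (0,1), (2,1), (1,0), (0,2), (2,1), (2,0)]),
  (351, [(2,0), (0,2), (2,2), (0,1), (2,0), (1,2), (1,2), (2,2), (0,0)]),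
  (354, [(1,2), (0,2), (0,1), (0,0), (2,2), (2,2), (1,1), (2,0), (1,0)]),
  (355, [(1,1), (0,0), (2,1), (0,2), (2,1), (2,0), (0,1), (2,1), (1,0)]),
  (358, [(0,0), (0,2), (0,0), (0,2), (0,0), (0,0), (0,0), (0,0), (1,0)]),
  (359, [(1,0), (0,2), (1,1), (0,2), (2,0), (2,1), (2,1), (2,2), (0,0)]),
  (369, [(1,1), (0,0), (2,1), (0,1), (1,2), (1,0), (0,2), (1,2), (2,0)]),
  (370, [(1,0), (0,1), (1,1), (2,1), (1,1), (0,0), (0,2), (1,0), (2,1)]),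
  (372, [(0,0), (0,1), (0,0), (0,0), (0,0), (1,0), (0,2), (0,0), (0,0)]),
  (375, [(1,2), (0,1), (0,1), (1,1), (1,0), (1,0), (0,0), (1,1), (2,2)]),
  (377, [(1,2), (0,2), (0,1), (0,0), (1,1), (1,1), (2,2), (1,0), (2,0)]),
  (379, [(1,0), (0,1), (1,1), (1,2), (2,2), (0,0), (0,1), (2,0), (1,2)]),
  (380, [(2,0), (0,1), (2,2), (2,1), (2,2), (0,0), (0,2), (2,0), (2,1)]),
  (382, [(2,1), (0,2), (0,2), (0,0), (1,1), (2,2), (1,1), (1,0), (1,0)]),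
  (394, [(2,0), (1,1), (0,2), (0,2), (1,2), (1,0), (2,1), (0,0), (1,1)]),
  (395, [(2,1), (0,1), (0,1), (1,1), (2,0), (2,0), (0,0), (1,1), (2,2)]),
  (396, [(1,2), (0,2), (0,1), (2,2), (1,0), (2,0), (0,0), (2,2), (2,2)]),
  (397, [(1,0), (2,2), (0,2), (0,1), (2,1), (1,0), (1,2), (0,0), (1,1)]),
  (401, [(1,0), (2,2), (0,1), (2,1), (0,0), (1,1), (0,2), (1,2), (1,0)]),
  (403, [(0,0), (0,0), (0,1), (0,0), (2,0), (0,0), (0,2), (0,0), (0,0)]),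
  (405, [(1,1), (1,2), (0,0), (0,1), (2,0), (1,2), (0,2), (1,0), (1,2)]),
  (407, [(1,2), (0,2), (0,1), (1,1), (2,0), (1,0), (0,0), (1,1), (1,1)]),
  (409, [(1,2), (0,2), (0,2), (0,0), (1,1), (2,2), (1,1), (2,0), (2,0)]),
  (410, [(0,0), (0,0), (0,2), (0,2), (0,0), (0,0), (0,0), (2,0), (0,0)]),
  (412, [(1,1), (1,2), (0,0), (0,2), (1,0), (2,1), (0,1), (2,0), (2,1)]),
  (415, [(1,0), (2,2), (0,2), (0,2), (1,2), (2,0), (2,1), (0,0), (2,2)]),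
  (417, [(2,1), (0,1), (0,2), (0,0), (2,2), (2,2), (2,2), (1,0), (2,0)]),
  (419, [(2,2), (2,1), (0,0), (0,1), (2,0), (2,1), (0,2), (1,0), (2,1)]),
  (421, [(0,0), (0,0), (0,2), (0,1), (0,0), (0,0), (0,0), (1,0), (0,0)]),
  (423, [(2,0), (1,1), (0,2), (0,1), (2,1), (2,0), (1,2), (0,0), (2,2)]),
  (425, [(2,0), (1,1), (0,1), (1,2), (0,0), (1,1), (0,1), (2,1), (1,0)]),
  (426, [(2,2), (2,1), (0,0), (0,2), (1,0), (1,2), (0,1), (2,0), (1,2)]),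
  (428, [(0,0), (0,0), (0,1), (0,0), (1,0), (0,0), (0,1), (0,0), (0,0)]),
  (431, [(2,1), (0,1), (0,1), (2,2), (1,0), (1,0), (0,0), (2,2), (1,1)]),
  (442, [(2,1), (0,1), (0,2), (0,0), (1,1), (1,1), (1,1), (2,0), (1,0)]),
  (443, [(2,0), (1,1), (0,1), (2,1), (0,0), (2,2), (0,2), (1,2), (2,0)]),
  (444, [(1,0), (2,2), (0,1), (1,2), (0,0), (2,2), (0,1), (2,1), (2,0)]),
  (445, [(1,2), (0,2), (0,2), (0,0), (2,2), (1,1), (2,2), (1,0), (1,0)]),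
  (458, [(0,0), (2,1), (1,2), (2,2), (1,0), (1,0), (1,1), (1,0), (1,0)]),
  (459, [(2,2), (0,0), (2,1), (0,1), (2,1), (2,0), (0,1), (1,2), (2,0)]),
  (460, [(1,1), (0,0), (2,1), (0,2), (1,2), (2,0), (0,2), (2,1), (2,0)]),
  (461, [(0,0), (1,2), (1,2), (1,1), (2,0), (1,0), (2,2), (2,0), (1,0)]),
  (465, [(0,0), (1,2), (2,1), (1,1), (1,0), (1,0), (2,2), (1,0), (1,0)]),
  (467, [(1,1), (2,1), (0,0), (0,2), (2,0), (2,1), (0,2), (2,0), (1,2)]),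
  (468, [(2,2), (2,1), (0,0), (0,1), (2,0), (1,2), (0,1), (2,0), (2,1)]),
  (470, [(0,0), (1,2), (1,2), (2,2), (1,0), (2,0), (1,1), (1,0), (2,0)]),
  (473, [(1,1), (0,0), (1,2), (0,1), (1,2), (2,0), (0,1), (2,1), (2,0)]),
  (474, [(2,2), (1,2), (0,0), (0,2), (2,0), (1,2), (0,2), (2,0), (2,1)]),
  (477, [(2,2), (2,1), (0,0), (0,2), (1,0), (2,1), (0,2), (1,0), (1,2)]),
  (478, [(1,1), (0,0), (2,1), (0,1), (2,1), (1,0), (0,1), (1,2), (1,0)]),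
  (481, [(2,2), (0,0), (1,2), (0,2), (2,1), (2,0), (0,2), (1,2), (2,0)]),
  (482, [(1,1), (1,2), (0,0), (0,1), (2,0), (2,1), (0,1), (2,0), (1,2)]),
  (485, [(1,1), (2,1), (0,0), (0,1), (1,0), (1,2), (0,1), (1,0), (2,1)]),
  (486, [(2,2), (0,0), (2,1), (0,2), (1,2), (1,0), (0,2), (2,1), (1,0)]),
  (489, [(0,0), (2,1), (2,1), (2,2), (2,0), (1,0), (1,1), (2,0), (1,0)]),
  (491, [(1,1), (1,2), (0,0), (0,2), (1,0), (1,2), (0,2), (1,0), (2,1)]),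
  (492, [(2,2), (1,2), (0,0), (0,1), (1,0), (2,1), (0,1), (1,0), (1,2)]),
  (494, [(0,0), (2,1), (1,2), (1,1), (2,0), (2,0), (2,2), (2,0), (2,0)]),
  (498, [(0,0), (2,1), (2,1), (1,1), (1,0), (2,0), (2,2), (1,0), (2,0)]),
  (499, [(2,2), (0,0), (1,2), (0,1), (1,2), (1,0), (0,1), (2,1), (1,0)]),
  (500, [(1,1), (0,0), (1,2), (0,2), (2,1), (1,0), (0,2), (1,2), (1,0)]),
  (501, [(0,0), (1,2), (2,1), (2,2), (2,0), (2,0), (1,1), (2,0), (2,0)])]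

/-- identity entries -/
def idEnts : List (ℕ × ℕ) := [(1,0), (0,0), (0,0), (0,0), (1,0), (0,0), (0,0), (0,0), (1,0)]

/-- association-list lookup -/
def lookup9 : List (ℕ × List (ℕ × ℕ)) → ℕ → List (ℕ × ℕ)
  | [], _ => idEnts
  | (k, w) :: t, key => if k = key then w else lookup9 t key

/-- decode an entry -/
def ent (l : List (ℕ × ℕ)) (i j : Fin 3) : F9m :=
  let p := l.getD (3 * i.val + j.val) (0, 0)
  ⟨(p.1 : ZMod 3), (p.2 : ZMod 3)⟩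

/-- the table map -/
def T9 (M : M3) : Matrix (Fin 3) (Fin 3) F9m :=
  Matrix.of (fun i j => ent (lookup9 tbl9 (mkey M)) i j)

theorem T9_one : T9 1 = 1 := by decide +kernel

set_option maxRecDepth 1000000 in
theorem mul_check9 : ∀ M : M3, M.det = 1 →
    T9 (M * ga) = T9 M * T9 ga ∧ T9 (M * gb) = T9 M * T9 gb := by
  decide +kernel

set_option maxRecDepth 1000000 in
theorem det_check9 : ∀ M : M3, M.det = 1 → (T9 M).det = 1 := by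
  decide +kernel

set_option maxRecDepth 1000000 in
theorem unit_check9 : ∀ M : M3, M.det = 1 →
    (T9 M).transpose * (T9 M).map (fun x => x ^ 3) = 1 := by
  decide +kernel

theorem comm_check9 : T9 ga * T9 gb ≠ T9 gb * T9 ga := by decide +kernel

end Cfsg.Agent.Lib.Helper4_U33T
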