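import Mathlib
import Cfsg.Prelude.Def_Classical
import Cfsg.Agent.Lib.Helper4_U33T
import Cfsg.Agent.S0249

set_option autoImplicit false

namespace Cfsg.Agent.Lib.Helper4_U33

open Cfsg.Agent.Lib.Helper4_PSL27 Cfsg.Agent.Lib.Helper4_U33T

/-- multiplicativity from generator steps -/
theorem mul_of_step {G : Type*} [Monoid G] (f : Matrix.SpecialLinearGroup (Fin 3) (ZMod 2) → G)
    (h1 : f 1 = 1) (hstep : ∀ M b, f (M * sgen b) = f M * f (sgen b)) :
    ∀ M N, f (M * N) = f M * f N := by
  have key : ∀ (l : List Bool) (M : Matrix.SpecialLinearGroup (Fin 3) (ZMod 2)),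
      f (M * sevalW l) = f M * f (sevalW l) := by
    intro l
    induction l with
    | nil => intro M; rw [sevalW, mul_one, h1, mul_one]
    | cons b l ih =>
      intro M
      rw [sevalW, ← mul_assoc, hstep, ih M, hstep, mul_assoc]
  intro M N
  have hN : sevalW (word N.1) = N := Subtype.ext (by rw [sevalW_val, word_check N.1 N.2])
  have := key (word N.1) M
  rwa [hN] at this

/-- the table map into `SL₃` of the model field -/
def T9sl (M : Matrix.SpecialLinearGroup (Fin 3) (ZMod 2)) : Matrix.SpecialLinearGroup (Fin 3) F9m :=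
  ⟨T9 M.1, det_check9 M.1 M.2⟩

theorem T9sl_one : T9sl 1 = 1 := Subtype.ext T9_one

theorem T9sl_step (M : Matrix.SpecialLinearGroup (Fin 3) (ZMod 2)) (b : Bool) :
    T9sl (M * sgen b) = T9sl M * T9sl (sgen b) := by
  apply Subtype.ext
  obtain ⟨ha, hb⟩ := mul_check9 M.1 M.2
  cases b
  · exact hb
  · exact ha

/-- the hom into the model -/
def T9hom : Matrix.SpecialLinearGroup (Fin 3) (ZMod 2) →* Matrix.SpecialLinearGroup (Fin 3) F9m where
  toFun := T9sl
  map_one' := T9sl_one
  map_mul' := mul_of_step T9sl T9sl_one T9sl_step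

section field
variable {F : Type*} [Field F] [CharP F 3] (i : F) (hi : i * i = -1)

/-- the ring hom from the model -/
def phi : F9m →+* F where
  toFun x := ZMod.castHom (dvd_refl 3) F x.re + ZMod.castHom (dvd_refl 3) F x.im * i
  map_one' := by
    show ZMod.castHom (dvd_refl 3) F (1 : ZMod 3) + ZMod.castHom (dvd_refl 3) F (0 : ZMod 3) * i = 1
    simp
  map_mul' x y := by
    show ZMod.castHom (dvd_refl 3) F (x.re * y.re - x.im * y.im)
        + ZMod.castHom (dvd_refl 3) F (x.re * y.im + x.im * y.re) * i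
      = (ZMod.castHom (dvd_refl 3) F x.re + ZMod.castHom (dvd_refl 3) F x.im * i)
        * (ZMod.castHom (dvd_refl 3) F y.re + ZMod.castHom (dvd_refl 3) F y.im * i)
    simp only [map_sub, map_add, map_mul]
    linear_combination (-(ZMod.castHom (dvd_refl 3) F x.im * ZMod.castHom (dvd_refl 3) F y.im)) * hi
  map_zero' := by
    show ZMod.castHom (dvd_refl 3) F (0 : ZMod 3) + ZMod.castHom (dvd_refl 3) F (0 : ZMod 3) * i = 0
    simp
  map_add' x y := by
    show ZMod.castHom (dvd_refl 3) F (x.re + y.re) + ZMod.castHom (dvd_refl 3) F (x.im + y.im) * i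
      = (ZMod.castHom (dvd_refl 3) F x.re + ZMod.castHom (dvd_refl 3) F x.im * i)
        + (ZMod.castHom (dvd_refl 3) F y.re + ZMod.castHom (dvd_refl 3) F y.im * i)
    simp only [map_add]
    ring

theorem sumsq : ∀ a b : ZMod 3, a * a + b * b = 0 → a = 0 ∧ b = 0 := by decide

include hi in
theorem phi_injective : Function.Injective (phi i hi) := by
  rw [injective_iff_map_eq_zero]
  intro x hx
  have hx' : ZMod.castHom (dvd_refl 3) F x.re + ZMod.castHom (dvd_refl 3) F x.im * i = 0 := hx
  have h1 : ZMod.castHom (dvd_refl 3) F (x.re * x.re + x.im * x.im) = 0 := by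
    simp only [map_add, map_mul]
    linear_combination (ZMod.castHom (dvd_refl 3) F x.re - ZMod.castHom (dvd_refl 3) F x.im * i) * hx'
      + (ZMod.castHom (dvd_refl 3) F x.im * ZMod.castHom (dvd_refl 3) F x.im) * hi
  have h2 : x.re * x.re + x.im * x.im = 0 := by
    have := (ZMod.castHom (dvd_refl 3) F).injective
    apply this
    rw [h1, map_zero]
  obtain ⟨ha, hb⟩ := sumsq _ _ h2
  cases x
  simp_all
  rfl

end field


section unitary
variable {F : Type*} [Field F] [CharP F 3]

theorem herm_of_unitary (A : Matrix (Fin 3) (Fin 3) F)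
    (h : A.transpose * A.map (fun x => x ^ 3) = 1) (u v : Fin 3 → F) :
    Cfsg.hermForm 3 F 3 (A.mulVec u) (A.mulVec v) = Cfsg.hermForm 3 F 3 u v := by
  have : Fact (Nat.Prime 3) := ⟨Nat.prime_three⟩
  have hfrob : (fun i => (A.mulVec v) i ^ 3) = (A.map (fun x => x ^ 3)).mulVec (fun k => v k ^ 3) := by
    funext i
    simp only [Matrix.mulVec, dotProduct, Matrix.map_apply]
    rw [sum_pow_char 3]
    apply Finset.sum_congr rfl
    intro k _
    rw [mul_pow]
  have e1 : ∀ u v : Fin 3 → F, Cfsg.hermForm 3 F 3 u v = dotProduct u (fun i => v i ^ 3) := by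
    intro u v
    rfl
  rw [e1, e1, hfrob]
  rw [← Matrix.vecMul_transpose, ← Matrix.dotProduct_mulVec, Matrix.mulVec_mulVec, h, Matrix.one_mulVec]

end unitary


theorem center_sl32 : ∀ r : ZMod 2, r ^ 3 = 1 → r = 1 := by decide

theorem S1897_main {F : Type*} [Field F] [Fintype F] (hF : Fintype.card F = 9)
    {K : Type*} [Field K] [Fintype K] (hK : Fintype.card K = 7) :
    ∃ H : Subgroup (Cfsg.PSU 3 F 3), Nonempty (H ≃* Matrix.ProjectiveSpecialLinearGroup (Fin 2) K) := by
  classical
  -- characteristic 3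
  have hchar : CharP F 3 := by
    obtain ⟨n, hp, hn⟩ := FiniteField.card F (ringChar F)
    have h3 : ringChar F = 3 := by
      have h1 : ringChar F ∣ 3 ^ 2 := by
        have : (3 : ℕ) ^ 2 = 9 := by norm_num
        rw [this, ← hF, hn]
        exact dvd_pow_self _ (by have := n.pos; omega)
      exact (Nat.prime_dvd_prime_iff_eq hp Nat.prime_three).1 (hp.dvd_of_dvd_pow h1)
    exact ringChar.of_eq h3
  -- square root of -1
  obtain ⟨i, hi⟩ : ∃ i : F, i * i = -1 := by
    have : IsSquare (-1 : F) := by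
      rw [FiniteField.isSquare_neg_one_iff, hF]
      norm_num
    obtain ⟨r, hr⟩ := this
    exact ⟨r, hr.symm⟩
  set φ := phi i hi with hφ
  have hφinj := phi_injective i hi
  -- the hom into SL₃(F)
  let g₀ : Matrix.SpecialLinearGroup (Fin 3) (ZMod 2) →* Matrix.SpecialLinearGroup (Fin 3) F :=
    (Matrix.SpecialLinearGroup.map (n := Fin 3) φ).comp T9hom
  have hg₀val : ∀ M, ((g₀ M : Matrix.SpecialLinearGroup (Fin 3) F) : Matrix (Fin 3) (Fin 3) F)
      = (T9 M.1).map φ := by
    intro M
    rfl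
  have hmem : ∀ M, g₀ M ∈ Cfsg.SU 3 F 3 := by
    intro M u v
    show Cfsg.hermForm 3 F 3 (((g₀ M : Matrix.SpecialLinearGroup (Fin 3) F) :
      Matrix (Fin 3) (Fin 3) F).mulVec u) (((g₀ M : Matrix.SpecialLinearGroup (Fin 3) F) :
      Matrix (Fin 3) (Fin 3) F).mulVec v) = _
    apply herm_of_unitary
    rw [hg₀val]
    have h1 := unit_check9 M.1 M.2
    have h2 := congrArg (fun A : Matrix (Fin 3) (Fin 3) F9m => A.map φ) h1
    simp only [Matrix.map_mul, Matrix.transpose_map, Matrix.map_map] at h2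
    rw [Matrix.map_one _ (map_zero φ) (map_one φ)] at h2
    rw [Matrix.map_map]
    convert h2 using 3
    funext x
    simp
  let g : Matrix.SpecialLinearGroup (Fin 3) (ZMod 2) →* Cfsg.SU 3 F 3 :=
    g₀.codRestrict (Cfsg.SU 3 F 3) hmem
  let ψ₀ : Matrix.SpecialLinearGroup (Fin 3) (ZMod 2) →* Cfsg.PSU 3 F 3 :=
    (QuotientGroup.mk' (Subgroup.center (Cfsg.SU 3 F 3))).comp g
  have hcenter : Subgroup.center (Matrix.SpecialLinearGroup (Fin 3) (ZMod 2)) ≤ ψ₀.ker := by
    intro x hx
    rw [Matrix.SpecialLinearGroup.mem_center_iff] at hx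
    obtain ⟨r, hr, hx⟩ := hx
    have hr1 : r = 1 := center_sl32 r (by simpa using hr)
    have : x = 1 := by
      apply Subtype.ext
      rw [← hx, hr1]
      simp
    rw [this]
    exact one_mem _
  let ψ : Matrix.ProjectiveSpecialLinearGroup (Fin 3) (ZMod 2) →* Cfsg.PSU 3 F 3 :=
    QuotientGroup.lift _ ψ₀ hcenter
  have hsimple : IsSimpleGroup (Matrix.ProjectiveSpecialLinearGroup (Fin 3) (ZMod 2)) :=
    Cfsg.Agent.S0249.result 3 (le_refl 3)
  have hψinj : Function.Injective ψ := by
    rw [← MonoidHom.ker_eq_bot_iff]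
    rcases (MonoidHom.normal_ker ψ).eq_bot_or_eq_top with h | h
    · exact h
    · exfalso
      have hc : ∀ b : Bool, g (sgen b) ∈ Subgroup.center (Cfsg.SU 3 F 3) := by
        intro b
        have h1 : (QuotientGroup.mk (sgen b) : Matrix.ProjectiveSpecialLinearGroup (Fin 3) (ZMod 2))
            ∈ ψ.ker := by rw [h]; trivial
        rw [MonoidHom.mem_ker] at h1
        have h2 : ψ₀ (sgen b) = 1 := h1
        exact (QuotientGroup.eq_one_iff _).1 h2
      have hcomm : g (sgen true) * g (sgen false) = g (sgen false) * g (sgen true) :=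
        (Subgroup.mem_center_iff.1 (hc false) (g (sgen true)))
      have h3 : g₀ (sgen true) * g₀ (sgen false) = g₀ (sgen false) * g₀ (sgen true) := by
        have := congrArg Subtype.val hcomm
        exact this
      have h4 := congrArg Subtype.val h3
      rw [Matrix.SpecialLinearGroup.coe_mul, Matrix.SpecialLinearGroup.coe_mul, hg₀val, hg₀val,
        ← Matrix.map_mul, ← Matrix.map_mul] at h4
      apply comm_check9
      ext a b
      have := congrFun (congrFun h4 a) b
      simp only [Matrix.map_apply] at this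
      exact hφinj this
  have h2 : Fintype.card (ZMod 2) = 2 := ZMod.card 2
  have : Fact (Nat.Prime 2) := ⟨Nat.prime_two⟩
  obtain ⟨e⟩ := S0255_main (F := K) (K := ZMod 2) hK h2
  exact ⟨ψ.range, ⟨((MonoidHom.ofInjective hψinj).symm).trans e.symm⟩⟩

end Cfsg.Agent.Lib.Helper4_U33
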