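import Mathlib

set_option autoImplicit false

namespace Cfsg.Agent.Lib.Helper5_AbelPerm


theorem wamgm (a b : ℕ) (x y : ℝ) (hx : 0 ≤ x) (hy : 0 ≤ y) :
    x ^ a * y ^ b * ((a + b : ℕ) : ℝ) ^ (a + b) ≤ (x + y) ^ (a + b) * (a : ℝ) ^ a * (b : ℝ) ^ b := by
  rcases Nat.eq_zero_or_pos a with ha | ha
  · subst ha
    simp only [pow_zero, one_mul, zero_add, mul_one, Nat.cast_zero]
    have : y ^ b ≤ (x + y) ^ b := pow_le_pow_left₀ hy (by linarith) b
    have hb0 : (0:ℝ) ≤ (b:ℝ) ^ b := by positivity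
    nlinarith [mul_le_mul_of_nonneg_right this hb0]
  rcases Nat.eq_zero_or_pos b with hb | hb
  · subst hb
    simp only [pow_zero, mul_one, add_zero, Nat.cast_zero]
    have : x ^ a ≤ (x + y) ^ a := pow_le_pow_left₀ hx (by linarith) a
    have ha0 : (0:ℝ) ≤ (a:ℝ) ^ a := by positivity
    nlinarith [mul_le_mul_of_nonneg_right this ha0]
  have haR : (0 : ℝ) < a := by exact_mod_cast ha
  have hbR : (0 : ℝ) < b := by exact_mod_cast hb
  set s : ℝ := (a : ℝ) + b with hs
  have hsR : 0 < s := by positivity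
  have key := Real.geom_mean_le_arith_mean2_weighted (w₁ := a / s) (w₂ := b / s) (p₁ := x / a)
    (p₂ := y / b) (by positivity) (by positivity) (by positivity) (by positivity)
    (by rw [← add_div, div_self hsR.ne'])
  have h1 : (a / s) * (x / a) + (b / s) * (y / b) = (x + y) / s := by
    field_simp
  rw [h1] at key
  have h2 := pow_le_pow_left₀ (by positivity) key (a + b)
  have h3 : ((x / a) ^ (a / s) * (y / b) ^ (b / s)) ^ (a + b) = (x / a) ^ a * (y / b) ^ b := by
    rw [mul_pow]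
    congr 1
    · rw [← Real.rpow_mul_natCast (by positivity)]
      have : (a : ℝ) / s * ((a + b : ℕ) : ℝ) = (a : ℕ) := by
        push_cast; rw [← hs]; field_simp
      rw [this, Real.rpow_natCast]
    · rw [← Real.rpow_mul_natCast (by positivity)]
      have : (b : ℝ) / s * ((a + b : ℕ) : ℝ) = (b : ℕ) := by
        push_cast; rw [← hs]; field_simp
      rw [this, Real.rpow_natCast]
  rw [h3] at h2
  have h4 : ((a + b : ℕ) : ℝ) = s := by push_cast; rfl
  rw [h4]
  rw [div_pow, div_pow, div_pow] at h2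
  have h5 : (0 : ℝ) < (a : ℝ) ^ a := by positivity
  have h6 : (0 : ℝ) < (b : ℝ) ^ b := by positivity
  have h7 : (0 : ℝ) < s ^ (a + b) := by positivity
  rw [div_mul_div_comm, div_le_div_iff₀ (by positivity) h7] at h2
  linarith [h2]

theorem wamgm_nat (a b x y : ℕ) :
    x ^ a * y ^ b * (a + b) ^ (a + b) ≤ (x + y) ^ (a + b) * a ^ a * b ^ b := by
  have := wamgm a b (x : ℝ) (y : ℝ) (by positivity) (by positivity)
  exact_mod_cast this

theorem pow_aux (j n₁ : ℕ) (hj : 1 ≤ j) (hn₁ : 2 ^ j ≤ n₁) : n₁ * j ^ j ≤ n₁ ^ j := by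
  obtain ⟨i, rfl⟩ : ∃ i, j = i + 1 := ⟨j - 1, by omega⟩
  have h1 : i + 1 ≤ 2 ^ i := Nat.lt_two_pow_self
  have h2 : (i + 1) ^ (i + 1) ≤ (2 ^ i) ^ (i + 1) := Nat.pow_le_pow_left h1 _
  have h3 : (2 ^ i) ^ (i + 1) = (2 ^ (i + 1)) ^ i := by
    rw [← pow_mul, ← pow_mul, mul_comm]
  have h4 : (2 ^ (i + 1)) ^ i ≤ n₁ ^ i := Nat.pow_le_pow_left hn₁ _
  calc n₁ * (i + 1) ^ (i + 1) ≤ n₁ * n₁ ^ i := Nat.mul_le_mul_left _ (by omega)
    _ = n₁ ^ (i + 1) := by rw [pow_succ, mul_comm]

theorem ineq (k' j n₁ m K : ℕ) (hj : 1 ≤ j) (hn₁ : 2 ^ j ≤ n₁) (hK : K * k' ^ k' ≤ m ^ k') :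
    n₁ * K * (k' + j) ^ (k' + j) ≤ (n₁ + m) ^ (k' + j) := by
  have ha := pow_aux j n₁ hj hn₁
  have hb := wamgm_nat j k' n₁ m
  have hjpos : 0 < j ^ j := by positivity
  have hkpos : 0 < k' ^ k' := by
    rcases Nat.eq_zero_or_pos k' with h | h
    · subst h; simp
    · positivity
  have hpos : 0 < j ^ j * k' ^ k' := Nat.mul_pos hjpos hkpos
  apply Nat.le_of_mul_le_mul_right _ hpos
  have e1 : j + k' = k' + j := add_comm _ _
  rw [e1] at hb
  calc n₁ * K * (k' + j) ^ (k' + j) * (j ^ j * k' ^ k')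
      = (n₁ * j ^ j) * (K * k' ^ k') * (k' + j) ^ (k' + j) := by ring
    _ ≤ n₁ ^ j * m ^ k' * (k' + j) ^ (k' + j) :=
        Nat.mul_le_mul_right _ (Nat.mul_le_mul ha hK)
    _ ≤ (n₁ + m) ^ (k' + j) * j ^ j * k' ^ k' := hb
    _ = (n₁ + m) ^ (k' + j) * (j ^ j * k' ^ k') := by ring

universe u v

open MulAction in
theorem bound (p : ℕ) [hp : Fact p.Prime] : ∀ (k : ℕ) (A : Type v) [CommGroup A] [Finite A]
    (Ω : Type u) [Fintype Ω] [MulAction A Ω] [FaithfulSMul A Ω], IsPGroup p A →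
    Nat.card {x : A // x ^ p = 1} = p ^ k → Nat.card A * k ^ k ≤ Fintype.card Ω ^ k := by
  classical
  intro k
  induction k using Nat.strong_induction_on with
  | _ k ih =>
  intro A _ _ Ω _ _ _ hA hk
  have hp1 : 1 < p := hp.out.one_lt
  rcases Nat.eq_zero_or_pos k with rfl | hkpos
  · -- trivial group
    simp only [pow_zero, mul_one]
    rcases hA.card_eq_or_dvd with h | h
    · rw [h]
    · exfalso
      obtain ⟨x, hx⟩ := exists_prime_orderOf_dvd_card' p h
      have hx1 : x ≠ 1 := by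
        intro h1
        rw [h1, orderOf_one] at hx
        omega
      have hxp : x ^ p = 1 := by rw [← hx]; exact pow_orderOf_eq_one x
      have h2 : 1 < Nat.card {x : A // x ^ p = 1} := by
        rw [Finite.one_lt_card_iff_nontrivial]
        exact ⟨⟨⟨x, hxp⟩, ⟨1, one_pow p⟩, fun h => hx1 (congrArg Subtype.val h)⟩⟩
      rw [hk] at h2
      simp at h2
  · -- inductive step
    have h2 : 1 < Nat.card {x : A // x ^ p = 1} := by
      rw [hk]; exact Nat.one_lt_pow hkpos.ne' hp1
    rw [Finite.one_lt_card_iff_nontrivial] at h2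
    obtain ⟨⟨x, hxp⟩, hxne⟩ := exists_ne (⟨1, one_pow p⟩ : {x : A // x ^ p = 1})
    have hx1 : x ≠ 1 := fun h => hxne (Subtype.ext h)
    obtain ⟨ω, hω⟩ : ∃ ω : Ω, x • ω ≠ ω := by
      by_contra hcon
      push_neg at hcon
      apply hx1
      apply FaithfulSMul.eq_of_smul_eq_smul (α := Ω)
      intro ω
      rw [hcon ω, one_smul]
    set K : Subgroup A := stabilizer A ω with hKdef
    -- K fixes the orbit pointwise
    have hfix : ∀ κ ∈ K, ∀ ω' ∈ orbit A ω, κ • ω' = ω' := by
      rintro κ hκ _ ⟨a, rfl⟩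
      show κ • a • ω = a • ω
      rw [smul_smul, mul_comm, ← smul_smul, mem_stabilizer_iff.mp hκ]
    let sub : SubMulAction ↥K Ω :=
      { carrier := (orbit A ω)ᶜ
        smul_mem' := by
          intro κ ω' h hmem
          apply h
          have h1 : (κ : A) • ω' ∈ orbit A ω := hmem
          have h2 : orbit A ((κ : A) • ω') = orbit A ω := orbit_eq_iff.mpr h1
          rw [orbit_smul] at h2
          rw [← h2]
          exact mem_orbit_self ω' }
    haveI : Fintype ↥sub := Fintype.ofFinite _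
    haveI : FaithfulSMul ↥K ↥sub := by
      refine ⟨fun {κ₁ κ₂} h => ?_⟩
      apply Subtype.ext
      apply FaithfulSMul.eq_of_smul_eq_smul (α := Ω)
      intro ω'
      by_cases hω' : ω' ∈ orbit A ω
      · rw [hfix κ₁ κ₁.2 ω' hω', hfix κ₂ κ₂.2 ω' hω']
      · have := h ⟨ω', hω'⟩
        exact congrArg Subtype.val this
    -- cardinalities
    set n₁ := Nat.card (orbit A ω) with hn₁
    have hindex : K.index = n₁ := by
      rw [hKdef, index_stabilizer, hn₁, Nat.card_coe_set_eq]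
    have hcardA : Nat.card K * n₁ = Nat.card A := by
      rw [← hindex]; exact K.card_mul_index
    have hcardΩ : Fintype.card Ω = n₁ + Fintype.card ↥sub := by
      rw [← Nat.card_eq_fintype_card, ← Nat.card_eq_fintype_card, hn₁,
        ← Nat.card_congr (Equiv.Set.sumCompl (orbit A ω)), Nat.card_sum]
      rfl
    -- the subgroup of elements of order dividing p
    set V : Subgroup A := (powMonoidHom p : A →* A).ker with hV
    have hmemV : ∀ y : A, y ∈ V ↔ y ^ p = 1 := by
      intro y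
      rw [hV, MonoidHom.mem_ker, powMonoidHom_apply]
    have hcardV : Nat.card V = p ^ k := by
      rw [← hk]
      exact Nat.card_congr (Equiv.subtypeEquivRight hmemV)
    have hVK : Nat.card {y : ↥K // y ^ p = 1} = Nat.card (V ⊓ K : Subgroup A) := by
      refine Nat.card_congr ⟨fun y => ⟨y.1.1, (hmemV _).mpr (by
          have := y.2
          have h3 := congrArg Subtype.val this
          simpa using h3), y.1.2⟩,
        fun z => ⟨⟨z.1, z.2.2⟩, by
          apply Subtype.ext
          have := (hmemV _).mp z.2.1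
          simpa using this⟩, fun y => rfl, fun z => rfl⟩
    obtain ⟨k', hk'⟩ := (IsPGroup.iff_card.mp (hA.to_subgroup (V ⊓ K)))
    have hlt : V ⊓ K < V := by
      refine lt_of_le_of_ne inf_le_left ?_
      intro h
      have hxV : x ∈ V := (hmemV x).mpr hxp
      rw [← h] at hxV
      exact hω (mem_stabilizer_iff.mp hxV.2)
    have hcardlt : Nat.card (V ⊓ K : Subgroup A) < Nat.card V := by
      refine lt_of_le_of_ne (Subgroup.card_le_of_le hlt.le) ?_
      intro heq
      exact hlt.ne (Subgroup.eq_of_le_of_card_ge hlt.le heq.ge)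
    rw [hk', hcardV] at hcardlt
    have hk'k : k' < k := (Nat.pow_lt_pow_iff_right hp1).mp hcardlt
    -- index divisibility
    have hrel : Nat.card (V ⊓ K : Subgroup A) * K.relIndex V = Nat.card V := by
      have h3 := (K.subgroupOf V).card_mul_index
      have h4 : Nat.card (K.subgroupOf V) = Nat.card (V ⊓ K : Subgroup A) := by
        rw [← Subgroup.inf_subgroupOf_right K V, inf_comm]
        exact Nat.card_congr (Subgroup.subgroupOfEquivOfLe (inf_le_left : V ⊓ K ≤ V)).toEquiv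
      rw [h4] at h3
      exact h3
    rw [hk', hcardV] at hrel
    obtain ⟨j, rfl⟩ : ∃ j, k = k' + j := ⟨k - k', by omega⟩
    have hj : 1 ≤ j := by omega
    have hrel' : K.relIndex V = p ^ j := by
      rw [pow_add] at hrel
      exact Nat.eq_of_mul_eq_mul_left (Nat.pow_pos hp.out.pos) hrel
    have hdvd : p ^ j ∣ n₁ := by
      rw [← hrel', ← hindex]
      exact Subgroup.relIndex_dvd_index_of_normal K V
    have hn₁pos : 0 < n₁ := by
      rw [← hindex]
      exact Nat.pos_of_ne_zero (Subgroup.index_ne_zero_of_finite)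
    have hn₁ge : 2 ^ j ≤ n₁ :=
      (Nat.pow_le_pow_left hp.out.two_le j).trans (Nat.le_of_dvd hn₁pos hdvd)
    -- induction hypothesis
    have hIH := ih k' hk'k ↥K ↥sub (hA.to_subgroup K) (by rw [hVK, hk'])
    have := ineq k' j n₁ (Fintype.card ↥sub) (Nat.card K) hj hn₁ge hIH
    rw [← hcardA, hcardΩ]
    calc Nat.card K * n₁ * (k' + j) ^ (k' + j) = n₁ * Nat.card K * (k' + j) ^ (k' + j) := by ring
      _ ≤ _ := this

theorem main {Ω : Type u} [Fintype Ω] [DecidableEq Ω]
    (p : ℕ) (hp : p.Prime) (A : Subgroup (Equiv.Perm Ω)) (hA : IsPGroup p A) (hab : IsMulCommutative A)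
    (k : ℕ) (hk : Nat.card {x : A // x ^ p = 1} = p ^ k) :
    Nat.card A * k ^ k ≤ Fintype.card Ω ^ k := by
  haveI : Fact p.Prime := ⟨hp⟩
  letI : CommGroup ↥A := { (inferInstance : Group ↥A) with mul_comm := hab.is_comm.comm }
  haveI : FaithfulSMul ↥A Ω := by
    refine ⟨fun {a b} h => ?_⟩
    apply Subtype.ext
    apply Equiv.ext
    intro ω
    exact h ω
  exact bound p k ↥A Ω hA hk

end Cfsg.Agent.Lib.Helper5_AbelPerm
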