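import Mathlib
set_option autoImplicit false
open Matrix
namespace Cfsg.Agent.Lib.Helper5_AbsCross

/-- the quadratic form -/
def Qf (B : Matrix (Fin 24) (Fin 24) ℤ) (x : Fin 24 → ℤ) : ℤ := x ⬝ᵥ (B *ᵥ x)

/-- the bilinear form -/
def bf (B : Matrix (Fin 24) (Fin 24) ℤ) (x y : Fin 24 → ℤ) : ℤ := x ⬝ᵥ (B *ᵥ y)

structure Hyp (B : Matrix (Fin 24) (Fin 24) ℤ) : Prop where
  symm : B.IsSymm
  pos : ∀ x : Fin 24 → ℤ, x ≠ 0 → 0 < Qf B x
  even : ∀ x : Fin 24 → ℤ, (2 : ℤ) ∣ Qf B x
  no2 : ∀ x : Fin 24 → ℤ, Qf B x ≠ 2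
  c4 : {x : Fin 24 → ℤ | Qf B x = 4}.ncard = 196560
  c6 : {x : Fin 24 → ℤ | Qf B x = 6}.ncard = 16773120
  c8 : {x : Fin 24 → ℤ | Qf B x = 8}.ncard = 398034000

variable {B : Matrix (Fin 24) (Fin 24) ℤ}

theorem bf_symm (hs : B.IsSymm) (x y : Fin 24 → ℤ) : bf B x y = bf B y x := by
  unfold bf
  rw [Matrix.dotProduct_mulVec, ← Matrix.mulVec_transpose, hs.eq, dotProduct_comm]

theorem Qf_add (x y : Fin 24 → ℤ) : Qf B (x + y) = Qf B x + Qf B y + bf B x y + bf B y x := by
  unfold Qf bf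
  rw [Matrix.mulVec_add, add_dotProduct, dotProduct_add, dotProduct_add]
  ring

theorem Qf_sub (x y : Fin 24 → ℤ) : Qf B (x - y) = Qf B x + Qf B y - bf B x y - bf B y x := by
  unfold Qf bf
  rw [Matrix.mulVec_sub, sub_dotProduct, dotProduct_sub, dotProduct_sub]
  ring

theorem Qf_two (z : Fin 24 → ℤ) : Qf B ((2 : ℤ) • z) = 4 * Qf B z := by
  unfold Qf
  rw [Matrix.mulVec_smul, smul_dotProduct, dotProduct_smul]
  simp only [smul_eq_mul]
  ring

theorem Qf_neg (x : Fin 24 → ℤ) : Qf B (-x) = Qf B x := by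
  unfold Qf
  rw [Matrix.mulVec_neg, neg_dotProduct_neg]

theorem Qf_zero : Qf B 0 = 0 := by
  unfold Qf; simp

theorem min_norm (h : Hyp B) {z : Fin 24 → ℤ} (hz : z ≠ 0) : 4 ≤ Qf B z := by
  have h1 := h.pos z hz
  have h2 := h.even z
  have h3 := h.no2 z
  omega

theorem norm_cases (h : Hyp B) {y : Fin 24 → ℤ} (h8 : Qf B y ≤ 8) :
    y = 0 ∨ Qf B y = 4 ∨ Qf B y = 6 ∨ Qf B y = 8 := by
  by_cases h0 : y = 0
  · left; exact h0
  · right
    have h1 := min_norm h h0
    have h2 := h.even y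
    omega

theorem short_congruent (h : Hyp B) {x y : Fin 24 → ℤ} (hxy : x ≠ y) (hxy' : x ≠ -y)
    (hxn : Qf B x ≤ 8) (hyn : Qf B y ≤ 8) (hc : ∀ i, (2 : ℤ) ∣ (x - y) i) :
    Qf B x = 8 ∧ Qf B y = 8 ∧ bf B x y = 0 := by
  have hz : x - y = (2 : ℤ) • (fun i => (x - y) i / 2) := by
    funext i
    simp only [Pi.smul_apply, smul_eq_mul]
    have := hc i
    omega
  have hz0 : (fun i => (x - y) i / 2) ≠ 0 := by
    intro h0
    rw [h0, smul_zero, sub_eq_zero] at hz
    exact hxy hz
  have h1 : 16 ≤ Qf B (x - y) := by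
    rw [hz, Qf_two]
    have := min_norm h hz0
    omega
  have hw : x + y = (2 : ℤ) • ((fun i => (x - y) i / 2) + y) := by
    rw [smul_add, ← hz]
    funext i
    simp only [Pi.add_apply, Pi.sub_apply, Pi.smul_apply, smul_eq_mul]
    ring
  have hw0 : (fun i => (x - y) i / 2) + y ≠ 0 := by
    intro h0
    rw [h0, smul_zero] at hw
    exact hxy' (eq_neg_of_add_eq_zero_left hw)
  have h2 : 16 ≤ Qf B (x + y) := by
    rw [hw, Qf_two]
    have := min_norm h hw0
    omega
  have h3 := Qf_add (B := B) x y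
  have h4 := Qf_sub (B := B) x y
  have h5 := bf_symm h.symm x y
  refine ⟨by omega, by omega, by omega⟩

/-! ### orthogonal families -/

theorem orth_bound24 {ι : Type} [Fintype ι] [DecidableEq ι] (rep : ι → Fin 24 → ℤ)
    (h8 : ∀ p, Qf B (rep p) = 8) (horth : ∀ p q, p ≠ q → bf B (rep p) (rep q) = 0) :
    Fintype.card ι ≤ 24 := by
  let W : Matrix ι (Fin 24) ℚ := fun p i => (rep p i : ℚ) / 8
  let V : Matrix (Fin 24) ι ℚ := fun i q => ((B *ᵥ rep q) i : ℚ)
  have hW : W * V = 1 := by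
    ext p q
    rw [Matrix.mul_apply]
    have h1 : ∑ j, W p j * V j q = ((bf B (rep p) (rep q) : ℤ) : ℚ) / 8 := by
      unfold bf dotProduct
      rw [Int.cast_sum, Finset.sum_div]
      apply Finset.sum_congr rfl
      intro i _
      show (rep p i : ℚ) / 8 * ((B *ᵥ rep q) i : ℚ) = ((rep p i * (B *ᵥ rep q) i : ℤ) : ℚ) / 8
      push_cast; ring
    rw [h1]
    by_cases hpq : p = q
    · subst hpq
      have : bf B (rep p) (rep p) = 8 := h8 p
      rw [this, Matrix.one_apply_eq]; norm_num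
    · rw [horth p q hpq, Matrix.one_apply_ne hpq]; norm_num
  have h2 : (W * V).rank ≤ W.rank := Matrix.rank_mul_le_left _ _
  have h3 : W.rank ≤ Fintype.card (Fin 24) := Matrix.rank_le_card_width W
  rw [hW, Matrix.rank_one] at h2
  rw [Fintype.card_fin] at h3
  omega

theorem orth_bound (F : Finset (Fin 24 → ℤ)) (h8 : ∀ y ∈ F, Qf B y = 8)
    (hpair : ∀ y ∈ F, ∀ y' ∈ F, y = y' ∨ y = -y' ∨ bf B y y' = 0) : F.card ≤ 48 := by
  classical
  have h1 : F.card ≤ 2 * (F.image (fun y => ({y, -y} : Finset (Fin 24 → ℤ)))).card := by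
    apply Finset.card_le_mul_card_image
    intro b hb
    obtain ⟨y0, hy0, rfl⟩ := Finset.mem_image.mp hb
    calc (F.filter fun a => ({a, -a} : Finset (Fin 24 → ℤ)) = {y0, -y0}).card
        ≤ ({y0, -y0} : Finset (Fin 24 → ℤ)).card := by
          apply Finset.card_le_card
          intro a ha
          have := (Finset.mem_filter.mp ha).2
          rw [← this]; simp
      _ ≤ 2 := Finset.card_le_two
  have hex : ∀ p : ↥(F.image (fun y => ({y, -y} : Finset (Fin 24 → ℤ)))),
      ∃ y, y ∈ F ∧ ({y, -y} : Finset (Fin 24 → ℤ)) = p.1 := fun p => by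
    obtain ⟨y, hy, e⟩ := Finset.mem_image.mp p.2
    exact ⟨y, hy, e⟩
  choose rep hrepF hrep using hex
  have h2 : Fintype.card ↥(F.image (fun y => ({y, -y} : Finset (Fin 24 → ℤ)))) ≤ 24 := by
    apply orth_bound24 (B := B) rep (fun p => h8 _ (hrepF p))
    intro p q hpq
    rcases hpair _ (hrepF p) _ (hrepF q) with h | h | h
    · exfalso; apply hpq; apply Subtype.ext; rw [← hrep p, ← hrep q, h]
    · exfalso; apply hpq; apply Subtype.ext; rw [← hrep p, ← hrep q, h, neg_neg]
      exact Finset.pair_comm _ _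
    · exact h
  rw [Fintype.card_coe] at h2
  omega

/-! ### classes modulo 2 -/

def cls (y : Fin 24 → ℤ) : Fin 24 → ZMod 2 := fun i => ((y i : ℤ) : ZMod 2)

theorem cls_eq_iff (y y' : Fin 24 → ℤ) : cls y = cls y' ↔ ∀ i, (2 : ℤ) ∣ (y - y') i := by
  constructor
  · intro h i
    have := congrFun h i
    unfold cls at this
    rw [ZMod.intCast_eq_intCast_iff_dvd_sub] at this
    push_cast at this
    rw [Pi.sub_apply]
    exact (dvd_sub_comm).mp this
  · intro h
    funext i
    unfold cls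
    rw [ZMod.intCast_eq_intCast_iff_dvd_sub]
    push_cast
    have := h i
    rw [Pi.sub_apply] at this
    exact (dvd_sub_comm).mp this

theorem card_cls : Fintype.card (Fin 24 → ZMod 2) = 2 ^ 24 := by
  rw [Fintype.card_fun, ZMod.card, Fintype.card_fin]

/-! ### the short vectors -/

def NN (B : Matrix (Fin 24) (Fin 24) ℤ) (n : ℤ) : Set (Fin 24 → ℤ) := {x | Qf B x = n}

theorem fin4 (h : Hyp B) : (NN B 4).Finite :=
  Set.finite_of_ncard_ne_zero (by rw [show (NN B 4).ncard = 196560 from h.c4]; norm_num)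
theorem fin6 (h : Hyp B) : (NN B 6).Finite :=
  Set.finite_of_ncard_ne_zero (by rw [show (NN B 6).ncard = 16773120 from h.c6]; norm_num)
theorem fin8 (h : Hyp B) : (NN B 8).Finite :=
  Set.finite_of_ncard_ne_zero (by rw [show (NN B 8).ncard = 398034000 from h.c8]; norm_num)

noncomputable def Sfin (h : Hyp B) : Finset (Fin 24 → ℤ) :=
  ({0} ∪ (fin4 h).toFinset) ∪ ((fin6 h).toFinset ∪ (fin8 h).toFinset)

theorem mem_Sfin (h : Hyp B) (y : Fin 24 → ℤ) : y ∈ Sfin h ↔ Qf B y ≤ 8 := by
  unfold Sfin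
  simp only [Finset.mem_union, Finset.mem_singleton, Set.Finite.mem_toFinset, NN, Set.mem_setOf_eq]
  constructor
  · rintro ((rfl | h2) | (h2 | h2))
    · rw [Qf_zero]; norm_num
    · omega
    · omega
    · omega
  · intro h2
    rcases norm_cases h h2 with h3 | h3 | h3 | h3
    · left; left; exact h3
    · left; right; exact h3
    · right; left; exact h3
    · right; right; exact h3

noncomputable def wt (B : Matrix (Fin 24) (Fin 24) ℤ) (y : Fin 24 → ℤ) : ℕ :=
  if y = 0 then 48 else if Qf B y = 8 then 1 else 24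

theorem wt_of_norm {y : Fin 24 → ℤ} {n : ℤ} (hn : Qf B y = n) (h0 : n ≠ 0) :
    wt B y = if n = 8 then 1 else 24 := by
  unfold wt
  have : y ≠ 0 := by rintro rfl; rw [Qf_zero] at hn; exact h0 hn.symm
  rw [if_neg this, hn]

theorem sum_wt_NN {n : ℤ} (hfin : (NN B n).Finite) (c : ℕ) (hc : ∀ y ∈ NN B n, wt B y = c) :
    ∑ y ∈ hfin.toFinset, wt B y = (NN B n).ncard * c := by
  rw [Finset.sum_congr rfl (fun y hy => hc y ((Set.Finite.mem_toFinset hfin).mp hy)),
    Finset.sum_const, smul_eq_mul, ← Set.ncard_eq_toFinset_card _ hfin]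

theorem sum_wt (h : Hyp B) : ∑ y ∈ Sfin h, wt B y = 48 * 2 ^ 24 := by
  classical
  unfold Sfin
  have d1 : Disjoint ({0} : Finset (Fin 24 → ℤ)) (fin4 h).toFinset := by
    rw [Finset.disjoint_left]
    intro y h1 h2
    rw [Finset.mem_singleton] at h1
    have : Qf B y = 4 := (Set.Finite.mem_toFinset (fin4 h)).mp h2
    rw [h1, Qf_zero] at this
    norm_num at this
  have d2 : Disjoint (fin6 h).toFinset (fin8 h).toFinset := by
    rw [Finset.disjoint_left]
    intro y h1 h2
    have a1 : Qf B y = 6 := (Set.Finite.mem_toFinset (fin6 h)).mp h1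
    have a2 : Qf B y = 8 := (Set.Finite.mem_toFinset (fin8 h)).mp h2
    omega
  have d3 : Disjoint (({0} : Finset (Fin 24 → ℤ)) ∪ (fin4 h).toFinset)
      ((fin6 h).toFinset ∪ (fin8 h).toFinset) := by
    rw [Finset.disjoint_left]
    intro y h1 h2
    have b1 : Qf B y = 0 ∨ Qf B y = 4 := by
      rcases Finset.mem_union.mp h1 with h3 | h3
      · rw [Finset.mem_singleton] at h3
        left; rw [h3, Qf_zero]
      · right; exact (Set.Finite.mem_toFinset (fin4 h)).mp h3
    have b2 : Qf B y = 6 ∨ Qf B y = 8 := by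
      rcases Finset.mem_union.mp h2 with h3 | h3
      · left; exact (Set.Finite.mem_toFinset (fin6 h)).mp h3
      · right; exact (Set.Finite.mem_toFinset (fin8 h)).mp h3
    omega
  rw [Finset.sum_union d3, Finset.sum_union d1, Finset.sum_union d2, Finset.sum_singleton,
    sum_wt_NN (fin4 h) 24 (fun y hy => by rw [wt_of_norm (show Qf B y = 4 from hy) (by norm_num)]; norm_num),
    sum_wt_NN (fin6 h) 24 (fun y hy => by rw [wt_of_norm (show Qf B y = 6 from hy) (by norm_num)]; norm_num),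
    sum_wt_NN (fin8 h) 1 (fun y hy => by rw [wt_of_norm (show Qf B y = 8 from hy) (by norm_num)]; norm_num),
    show (NN B 4).ncard = 196560 from h.c4, show (NN B 6).ncard = 16773120 from h.c6,
    show (NN B 8).ncard = 398034000 from h.c8]
  unfold wt
  rw [if_pos rfl]
  norm_num

/-! ### fibres -/

open Classical in
theorem fiber_le (h : Hyp B) (c : Fin 24 → ZMod 2) :
    ∑ y ∈ (Sfin h).filter (fun y => cls y = c), wt B y ≤ 48 := by
  classical
  have hmem : ∀ y, y ∈ (Sfin h).filter (fun y => cls y = c) ↔ Qf B y ≤ 8 ∧ cls y = c := fun y => by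
    rw [Finset.mem_filter, mem_Sfin]
  by_cases hne : ((Sfin h).filter (fun y => cls y = c)).Nonempty
  swap
  · rw [Finset.not_nonempty_iff_eq_empty.mp hne, Finset.sum_empty]; norm_num
  obtain ⟨y0, hy0⟩ := hne
  obtain ⟨hy0n, hy0c⟩ := (hmem y0).mp hy0
  have hcong : ∀ y ∈ (Sfin h).filter (fun y => cls y = c),
      ∀ y' ∈ (Sfin h).filter (fun y => cls y = c),
      y = y' ∨ y = -y' ∨ (Qf B y = 8 ∧ Qf B y' = 8 ∧ bf B y y' = 0) := by
    intro y hy y' hy'
    obtain ⟨hyn, hyc⟩ := (hmem y).mp hy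
    obtain ⟨hyn', hyc'⟩ := (hmem y').mp hy'
    by_cases h1 : y = y'
    · left; exact h1
    by_cases h2 : y = -y'
    · right; left; exact h2
    right; right
    exact short_congruent h h1 h2 hyn hyn' ((cls_eq_iff y y').mp (hyc.trans hyc'.symm))
  by_cases h64 : Qf B y0 = 8
  · have hall : ∀ y ∈ (Sfin h).filter (fun y => cls y = c), Qf B y = 8 := by
      intro y hy
      rcases hcong y hy y0 hy0 with h1 | h1 | h1
      · rw [h1]; exact h64
      · rw [h1, Qf_neg]; exact h64
      · exact h1.1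
    have hwt : ∀ y ∈ (Sfin h).filter (fun y => cls y = c), wt B y = 1 := fun y hy => by
      rw [wt_of_norm (hall y hy) (by norm_num)]; simp
    rw [Finset.sum_congr rfl hwt, Finset.sum_const, smul_eq_mul, mul_one]
    apply orth_bound (B := B) _ hall
    intro y hy y' hy'
    rcases hcong y hy y' hy' with h1 | h1 | h1
    · left; exact h1
    · right; left; exact h1
    · right; right; exact h1.2.2
  · have hsub : (Sfin h).filter (fun y => cls y = c) ⊆ {y0, -y0} := by
      intro y hy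
      rcases hcong y hy y0 hy0 with h1 | h1 | h1
      · rw [h1]; simp
      · rw [h1]; simp
      · exact absurd h1.2.1 h64
    have hcard : ((Sfin h).filter (fun y => cls y = c)).card ≤ 2 :=
      (Finset.card_le_card hsub).trans Finset.card_le_two
    by_cases h0 : y0 = 0
    · have hsub' : (Sfin h).filter (fun y => cls y = c) ⊆ {0} := by
        intro y hy
        have := hsub hy
        rw [h0] at this
        simpa using this
      calc ∑ y ∈ (Sfin h).filter (fun y => cls y = c), wt B y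
          ≤ ∑ y ∈ ({0} : Finset (Fin 24 → ℤ)), wt B y := Finset.sum_le_sum_of_subset hsub'
        _ = 48 := by rw [Finset.sum_singleton]; unfold wt; rw [if_pos rfl]
    · have hwt : ∀ y ∈ (Sfin h).filter (fun y => cls y = c), wt B y ≤ 24 := by
        intro y hy
        have hy_ne : y ≠ 0 := by
          have := hsub hy
          rw [Finset.mem_insert, Finset.mem_singleton] at this
          rcases this with h1 | h1
          · rw [h1]; exact h0
          · rw [h1]; exact neg_ne_zero.mpr h0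
        unfold wt
        rw [if_neg hy_ne]
        split_ifs <;> norm_num
      calc ∑ y ∈ (Sfin h).filter (fun y => cls y = c), wt B y
          ≤ ((Sfin h).filter (fun y => cls y = c)).card • 24 :=
            Finset.sum_le_card_nsmul _ _ _ hwt
        _ ≤ 48 := by rw [smul_eq_mul]; omega

open Classical in
theorem fiber_eq (h : Hyp B) (c : Fin 24 → ZMod 2) :
    ∑ y ∈ (Sfin h).filter (fun y => cls y = c), wt B y = 48 := by
  classical
  have h1 : ∑ c : Fin 24 → ZMod 2, ∑ y ∈ (Sfin h).filter (fun y => cls y = c), wt B y =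
      ∑ y ∈ Sfin h, wt B y := Finset.sum_fiberwise (Sfin h) cls (wt B)
  have h2 : ∑ _c : Fin 24 → ZMod 2, (48 : ℕ) = 48 * 2 ^ 24 := by
    rw [Finset.sum_const, Finset.card_univ, card_cls, smul_eq_mul, mul_comm]
  have h3 : ∑ c : Fin 24 → ZMod 2, ∑ y ∈ (Sfin h).filter (fun y => cls y = c), wt B y =
      ∑ _c : Fin 24 → ZMod 2, (48 : ℕ) := by
    rw [h1, sum_wt h, h2]
  exact (Finset.sum_eq_sum_iff_of_le (fun c _ => fiber_le h c)).mp h3 c (Finset.mem_univ c)

theorem main (h : Hyp B) (x : Fin 24 → ℤ) (hx : Qf B x = 8) :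
    {y : Fin 24 → ℤ | Qf B y = 8 ∧ ∀ i, (2 : ℤ) ∣ (x - y) i}.ncard = 48 := by
  classical
  have hf := fiber_eq h (cls x)
  have hset : {y : Fin 24 → ℤ | Qf B y = 8 ∧ ∀ i, (2 : ℤ) ∣ (x - y) i} =
      ↑((Sfin h).filter (fun y => cls y = cls x)) := by
    ext y
    rw [Finset.mem_coe, Finset.mem_filter, mem_Sfin, Set.mem_setOf_eq]
    constructor
    · rintro ⟨hn, hz⟩
      exact ⟨by omega, ((cls_eq_iff x y).mpr hz).symm⟩
    · rintro ⟨hn, hc⟩
      have hz := (cls_eq_iff x y).mp hc.symm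
      refine ⟨?_, hz⟩
      by_cases h1 : x = y
      · rw [← h1]; exact hx
      by_cases h2 : x = -y
      · have := Qf_neg (B := B) y
        rw [← h2] at this
        rw [← this]; exact hx
      exact (short_congruent h h1 h2 (by omega) hn hz).2.1
  have hwt : ∀ y ∈ (Sfin h).filter (fun y => cls y = cls x), wt B y = 1 := by
    intro y hy
    have hy' : y ∈ {y : Fin 24 → ℤ | Qf B y = 8 ∧ ∀ i, (2 : ℤ) ∣ (x - y) i} := by
      rw [hset]; exact hy
    rw [wt_of_norm hy'.1 (by norm_num)]; simp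
  rw [Finset.sum_congr rfl hwt, Finset.sum_const, smul_eq_mul, mul_one] at hf
  rw [hset, Set.ncard_coe_finset]
  exact hf

end Cfsg.Agent.Lib.Helper5_AbsCross
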