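import Mathlib

set_option autoImplicit false

namespace Cfsg.Agent.Lib.Helper5_AffClosure

open Matrix

section Lin

variable {K : Type*} [Field K] {d : ℕ}

/-- a linear map fixing a proper subspace pointwise, with prescribed nonzero determinant -/
theorem exists_fix_det (W : Submodule K (Fin d → K)) (hW : W < ⊤) (δ : K) :
    ∃ C : (Fin d → K) →ₗ[K] (Fin d → K), (∀ w ∈ W, C w = w) ∧ LinearMap.det C = δ := by
  obtain ⟨f, hf0, hWf⟩ := Submodule.exists_le_ker_of_lt_top W hW
  obtain ⟨e₀, he₀⟩ : ∃ e₀, f e₀ ≠ 0 := by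
    by_contra hcon
    push_neg at hcon
    apply hf0
    ext x
    simpa using hcon _
  set e : Fin d → K := (f e₀)⁻¹ • e₀ with he
  have hfe : f e = 1 := by
    rw [he, map_smul, smul_eq_mul, inv_mul_cancel₀ he₀]
  set w : Fin d → K := fun i => f (Pi.single i 1) with hw
  have hwdot : ∀ x : Fin d → K, w ⬝ᵥ x = f x := by
    intro x
    have hx : x = ∑ i, x i • (Pi.single i (1 : K) : Fin d → K) := by
      ext j
      simp [Finset.sum_apply, Pi.single_apply]
    conv_rhs => rw [hx]
    rw [map_sum]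
    unfold dotProduct
    refine Finset.sum_congr rfl fun i _ => ?_
    rw [map_smul, smul_eq_mul, mul_comm]
  set M : Matrix (Fin d) (Fin d) K :=
    1 + replicateCol (Fin 1) ((δ - 1) • e) * replicateRow (Fin 1) w with hM
  have hMx : ∀ x : Fin d → K, M *ᵥ x = x + (f x * (δ - 1)) • e := by
    intro x
    rw [hM, Matrix.add_mulVec, Matrix.one_mulVec]
    congr 1
    ext i
    simp only [Matrix.mulVec, dotProduct, Matrix.mul_apply, replicateCol_apply, replicateRow_apply,
      Finset.univ_unique, Finset.sum_singleton, Pi.smul_apply, smul_eq_mul]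
    rw [← hwdot x]
    unfold dotProduct
    rw [Finset.sum_mul, Finset.sum_mul]
    refine Finset.sum_congr rfl fun j _ => ?_
    ring
  refine ⟨Matrix.toLin' M, ?_, ?_⟩
  · intro x hx
    rw [Matrix.toLin'_apply, hMx]
    have : f x = 0 := LinearMap.mem_ker.mp (hWf hx)
    rw [this, zero_mul, zero_smul, add_zero]
  · have h1 := det_one_add_replicateCol_mul_replicateRow (ι := Fin 1) ((δ - 1) • e) w
    rw [LinearMap.det_toLin', hM]
    refine h1.trans ?_
    rw [hwdot, map_smul, hfe]
    simp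

end Lin

section Main

variable (p : ℕ) [Fact p.Prime] (d : ℕ)

/-- the affine permutations -/
def affSet : Set (Equiv.Perm (Fin d → ZMod p)) :=
  {τ | ∃ (A : (Fin d → ZMod p) ≃ₗ[ZMod p] (Fin d → ZMod p)) (b : Fin d → ZMod p), ∀ x, τ x = A x + b}

variable {p d}

theorem two_ne_zero_zmod (hp : p ≠ 2) : (2 : ZMod p) ≠ 0 := by
  intro h
  have h2 : ((2 : ℕ) : ZMod p) = 0 := by exact_mod_cast h
  rw [ZMod.natCast_eq_zero_iff] at h2
  have := (Nat.prime_dvd_prime_iff_eq (Fact.out : p.Prime) Nat.prime_two).mp h2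
  exact hp this

/-- a permutation preserving affine combinations of pairs is affine (odd characteristic) -/
theorem affine_of_comb (hp : p ≠ 2) (σ : Equiv.Perm (Fin d → ZMod p))
    (hcomb : ∀ (x y : Fin d → ZMod p) (c : ZMod p),
      σ (c • x + (1 - c) • y) = c • σ x + (1 - c) • σ y) : σ ∈ affSet p d := by
  have h2 := two_ne_zero_zmod hp
  set τ : (Fin d → ZMod p) → (Fin d → ZMod p) := fun v => σ v - σ 0 with hτ
  have hsmul : ∀ (c : ZMod p) (v : Fin d → ZMod p), τ (c • v) = c • τ v := by
    intro c v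
    have := hcomb v 0 c
    rw [smul_zero, add_zero] at this
    rw [hτ]
    simp only
    rw [this]
    module
  have hadd : ∀ u v : Fin d → ZMod p, τ (u + v) = τ u + τ v := by
    intro u v
    set c : ZMod p := 2⁻¹ with hc
    have hc2 : 2 * c = 1 := mul_inv_cancel₀ h2
    have hc1 : 1 - c = c := by
      have : c + c = 1 := by rw [← two_mul]; exact hc2
      rw [← this]; ring
    have hc0 : c ≠ 0 := inv_ne_zero h2
    have h3 := hcomb u v c
    rw [hc1] at h3
    have h4 : τ (c • (u + v)) = c • (τ u + τ v) := by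
      rw [hτ]
      simp only
      rw [smul_add, h3]
      have : σ 0 = (2 * c) • σ 0 := by rw [hc2, one_smul]
      conv_lhs => rw [this]
      module
    rw [hsmul] at h4
    exact smul_right_injective _ hc0 h4
  let L : (Fin d → ZMod p) →ₗ[ZMod p] (Fin d → ZMod p) :=
    { toFun := τ
      map_add' := hadd
      map_smul' := fun c v => by simpa using hsmul c v }
  have hbij : Function.Bijective L := by
    constructor
    · intro a b hab
      have : σ a - σ 0 = σ b - σ 0 := hab
      exact σ.injective (sub_left_injective this)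
    · intro y
      obtain ⟨x, hx⟩ := σ.surjective (y + σ 0)
      refine ⟨x, ?_⟩
      show σ x - σ 0 = y
      rw [hx, add_sub_cancel_right]
  refine ⟨LinearEquiv.ofBijective L hbij, σ 0, fun x => ?_⟩
  show σ x = (σ x - σ 0) + σ 0
  rw [sub_add_cancel]

theorem main (hp : p ≠ 2) (hd : 3 ≤ d) (G : Subgroup (Equiv.Perm (Fin d → ZMod p)))
    (haff : (G : Set (Equiv.Perm (Fin d → ZMod p))) ⊆ affSet p d)
    (htrans : ∀ b : Fin d → ZMod p, ∃ g ∈ G, ∀ x, g x = x + b)
    (hsl : ∀ A : (Fin d → ZMod p) ≃ₗ[ZMod p] (Fin d → ZMod p),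
      LinearMap.det (A : (Fin d → ZMod p) →ₗ[ZMod p] (Fin d → ZMod p)) = 1 → ∃ g ∈ G, ∀ x, g x = A x)
    (σ : Equiv.Perm (Fin d → ZMod p)) :
    (∀ t : Fin 3 → (Fin d → ZMod p), ∃ g ∈ G, ∀ i, σ (t i) = g (t i)) ↔ σ ∈ affSet p d := by
  constructor
  · intro h
    apply affine_of_comb hp
    intro x y c
    obtain ⟨g, hg, hgt⟩ := h ![x, y, c • x + (1 - c) • y]
    obtain ⟨A, b, hA⟩ := haff hg
    have h0 := hgt 0
    have h1 := hgt 1
    have h2 := hgt 2
    simp only [Matrix.cons_val_zero, Matrix.cons_val_one, Matrix.cons_val_two, Matrix.head_cons,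
      Matrix.tail_cons] at h0 h1 h2
    rw [h0, h1, h2, hA, hA, hA, map_add, map_smul, map_smul]
    module
  · rintro ⟨A, b, hA⟩ t
    set u := t 1 - t 0 with hu
    set v := t 2 - t 0 with hv
    set W : Submodule (ZMod p) (Fin d → ZMod p) := Submodule.span (ZMod p) (({u, v} : Finset _) : Set _)
      with hW
    have hWlt : W < ⊤ := by
      rw [lt_top_iff_ne_top]
      intro htop
      have h1 : Module.finrank (ZMod p) W ≤ 2 :=
        (finrank_span_finset_le_card (R := ZMod p) ({u, v} : Finset (Fin d → ZMod p))).trans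
          Finset.card_le_two
      rw [htop, finrank_top, Module.finrank_fin_fun] at h1
      omega
    have hdetA : LinearMap.det (A : (Fin d → ZMod p) →ₗ[ZMod p] (Fin d → ZMod p)) ≠ 0 :=
      (LinearEquiv.isUnit_det' A).ne_zero
    obtain ⟨C, hCW, hCdet⟩ := exists_fix_det W hWlt
      (LinearMap.det (A : (Fin d → ZMod p) →ₗ[ZMod p] (Fin d → ZMod p)))⁻¹
    set B : (Fin d → ZMod p) →ₗ[ZMod p] (Fin d → ZMod p) :=
      (A : (Fin d → ZMod p) →ₗ[ZMod p] (Fin d → ZMod p)) ∘ₗ C with hB
    have hBdet : LinearMap.det B = 1 := by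
      rw [hB, LinearMap.det_comp, hCdet, mul_inv_cancel₀ hdetA]
    have hBne : LinearMap.det B ≠ 0 := by rw [hBdet]; exact one_ne_zero
    set Be := LinearMap.equivOfDetNeZero B hBne with hBe
    have hBe_coe : (Be : (Fin d → ZMod p) →ₗ[ZMod p] (Fin d → ZMod p)) = B :=
      LinearEquiv.coe_ofIsUnitDet _
    obtain ⟨g₁, hg₁, hg₁x⟩ := hsl Be (by rw [hBe_coe]; exact hBdet)
    obtain ⟨g₂, hg₂, hg₂x⟩ := htrans (A (t 0) + b - B (t 0))
    refine ⟨g₂ * g₁, G.mul_mem hg₂ hg₁, ?_⟩
    have huW : u ∈ W := Submodule.subset_span (by simp)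
    have hvW : v ∈ W := Submodule.subset_span (by simp)
    have hBx : ∀ x, Be x = B x := fun x => by
      rw [← hBe_coe]; rfl
    have hBu : B u = A u := by
      rw [hB, LinearMap.comp_apply, hCW u huW]; rfl
    have hBv : B v = A v := by
      rw [hB, LinearMap.comp_apply, hCW v hvW]; rfl
    have key : ∀ x, x - t 0 ∈ W → σ x = (g₂ * g₁) x := by
      intro x hx
      rw [Equiv.Perm.mul_apply, hg₂x, hg₁x, hBx, hA]
      have h1 : B (x - t 0) = A (x - t 0) := by
        rw [hB, LinearMap.comp_apply, hCW _ hx]; rfl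
      rw [map_sub, map_sub] at h1
      have h2 : B x = A x - A (t 0) + B (t 0) := by
        rw [← h1]; abel
      rw [h2]; abel
    intro i
    fin_cases i
    · apply key
      simp
    · apply key
      exact huW
    · apply key
      exact hvW

end Main

end Cfsg.Agent.Lib.Helper5_AffClosure
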