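import Mathlib
import Cfsg.Agent.Lib.Helper5_AffClosure

set_option autoImplicit false

namespace Cfsg.Agent.Lib.Helper5_AffClosure2

open Cfsg.Agent.Lib.Helper5_AffClosure

theorem four_points : ∀ x : Fin 2 → ZMod 2, x = 0 ∨ x = ![1, 0] ∨ x = ![0, 1] ∨ x = ![1, 1] := by
  decide

/-- a permutation fixing all points but one fixes everything -/
theorem eq_one_of_fix {α : Type*} (f : Equiv.Perm α) (z : α) (h : ∀ x, x ≠ z → f x = x) :
    ∀ x, f x = x := by
  intro x
  by_cases hx : x = z
  · subst hx
    by_contra hne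
    have h1 := h (f x) hne
    exact hne (f.injective h1)
  · exact h x hx

theorem main (p : ℕ) [Fact p.Prime] (G : Subgroup (Equiv.Perm (Fin 2 → ZMod p)))
    (haff : (G : Set (Equiv.Perm (Fin 2 → ZMod p))) ⊆ affSet p 2)
    (σ : Equiv.Perm (Fin 2 → ZMod p))
    (hσ : (∀ t : Fin 3 → (Fin 2 → ZMod p), ∃ g ∈ G, ∀ i, σ (t i) = g (t i))) : σ ∈ G := by
  by_cases hp : p = 2
  · subst hp
    obtain ⟨g, hg, hgt⟩ := hσ ![0, ![1, 0], ![0, 1]]
    have h0 := hgt 0
    have h1 := hgt 1
    have h2 := hgt 2
    simp only [Matrix.cons_val_zero, Matrix.cons_val_one, Matrix.cons_val_two, Matrix.head_cons,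
      Matrix.tail_cons] at h0 h1 h2
    have key : ∀ x, (g⁻¹ * σ) x = x := by
      apply eq_one_of_fix (g⁻¹ * σ) ![1, 1]
      intro x hx
      rw [Equiv.Perm.mul_apply, Equiv.Perm.inv_eq_iff_eq]
      rcases four_points x with rfl | rfl | rfl | rfl
      · exact h0
      · exact h1
      · exact h2
      · exact absurd rfl hx
    have : σ = g := by
      ext x
      have := key x
      rw [Equiv.Perm.mul_apply, Equiv.Perm.inv_eq_iff_eq] at this
      rw [this]
    rw [this]; exact hg
  · have hσaff : σ ∈ affSet p 2 := by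
      apply affine_of_comb hp
      intro x y c
      obtain ⟨g, hg, hgt⟩ := hσ ![x, y, c • x + (1 - c) • y]
      obtain ⟨A, b, hA⟩ := haff hg
      have h0 := hgt 0
      have h1 := hgt 1
      have h2 := hgt 2
      simp only [Matrix.cons_val_zero, Matrix.cons_val_one, Matrix.cons_val_two, Matrix.head_cons,
        Matrix.tail_cons] at h0 h1 h2
      rw [h0, h1, h2, hA, hA, hA, map_add, map_smul, map_smul]
      module
    obtain ⟨L, c, hL⟩ := hσaff
    obtain ⟨g, hg, hgt⟩ := hσ ![0, Pi.single 0 1, Pi.single 1 1]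
    obtain ⟨A, b, hA⟩ := haff hg
    have h0 := hgt 0
    have h1 := hgt 1
    have h2 := hgt 2
    simp only [Matrix.cons_val_zero, Matrix.cons_val_one, Matrix.cons_val_two, Matrix.head_cons,
      Matrix.tail_cons] at h0 h1 h2
    rw [hL, hA, map_zero, map_zero, zero_add, zero_add] at h0
    rw [hL, hA, h0] at h1 h2
    have e1 : L (Pi.single 0 1) = A (Pi.single 0 1) := add_right_cancel h1
    have e2 : L (Pi.single 1 1) = A (Pi.single 1 1) := add_right_cancel h2
    have hLA : ∀ x, L x = A x := by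
      intro x
      have hx : x = x 0 • (Pi.single 0 1 : Fin 2 → ZMod p) + x 1 • (Pi.single 1 1 : Fin 2 → ZMod p) := by
        ext i
        fin_cases i <;> simp
      rw [hx, map_add, map_add, map_smul, map_smul, map_smul, map_smul, e1, e2]
    have : σ = g := by
      ext x
      rw [hL, hA, hLA, h0]
    rw [this]; exact hg

end Cfsg.Agent.Lib.Helper5_AffClosure2
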