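import Mathlib

set_option autoImplicit false

namespace Cfsg.Agent.Lib.Helper5_AffineOrder

open Polynomial

section linear

variable {p : ℕ} [Fact p.Prime] {V : Type*} [AddCommGroup V] [Module (ZMod p) V]

theorem poly_sub_pow (s : ℕ) : ((X : (ZMod p)[X]) - 1) ^ (p ^ s) = X ^ (p ^ s) - 1 := by
  rw [sub_pow_char_pow, one_pow]

theorem poly_geom (s : ℕ) :
    (∑ i ∈ Finset.range (p ^ s), (X : (ZMod p)[X]) ^ i) = (X - 1) ^ (p ^ s - 1) := by
  have h1 : (∑ i ∈ Finset.range (p ^ s), (X : (ZMod p)[X]) ^ i) * (X - 1) = X ^ (p ^ s) - 1 :=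
    geom_sum_mul _ _
  have hpos : 0 < p ^ s := pow_pos (Fact.out : p.Prime).pos s
  have h2 : ((X : (ZMod p)[X]) - 1) ^ (p ^ s - 1) * (X - 1) = X ^ (p ^ s) - 1 := by
    rw [← pow_succ, Nat.sub_add_cancel hpos, poly_sub_pow]
  have hne : ((X : (ZMod p)[X]) - 1) ≠ 0 := by
    have := X_sub_C_ne_zero (1 : ZMod p)
    simpa using this
  exact mul_right_cancel₀ hne (h1.trans h2.symm)

variable [Module.Finite (ZMod p) V]

theorem unipotent (a : Module.End (ZMod p) V) (r : ℕ) (ha : a ^ (p ^ r) = 1) :
    (a - 1) ^ (Module.finrank (ZMod p) V) = 0 := by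
  have hnil : IsNilpotent (a - 1) := by
    refine ⟨p ^ r, ?_⟩
    have := congrArg (aeval a) (poly_sub_pow (p := p) r)
    simp only [map_pow, map_sub, aeval_X, map_one] at this
    rw [this, ha, sub_self]
  have hc := hnil.charpoly_eq_X_pow_finrank
  have := LinearMap.aeval_self_charpoly (a - 1)
  rw [hc] at this
  simpa using this

theorem pow_eq_one_of_le (a : Module.End (ZMod p) V) (r : ℕ) (ha : a ^ (p ^ r) = 1) (s : ℕ)
    (hs : Module.finrank (ZMod p) V ≤ p ^ s) : a ^ (p ^ s) = 1 := by
  have h0 := pow_eq_zero_of_le hs (unipotent a r ha)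
  have := congrArg (aeval a) (poly_sub_pow (p := p) s)
  simp only [map_pow, map_sub, aeval_X, map_one] at this
  rw [h0] at this
  exact (sub_eq_zero.mp this.symm)

theorem geom_eq_zero_of_lt (a : Module.End (ZMod p) V) (r : ℕ) (ha : a ^ (p ^ r) = 1) (s : ℕ)
    (hs : Module.finrank (ZMod p) V < p ^ s) : ∑ i ∈ Finset.range (p ^ s), a ^ i = 0 := by
  have h0 := pow_eq_zero_of_le (Nat.le_sub_one_of_lt hs) (unipotent a r ha)
  have := congrArg (aeval a) (poly_geom (p := p) s)
  simp only [map_sum, map_pow, map_sub, aeval_X, map_one] at this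
  rw [this, h0]

end linear

section group

open scoped IsMulCommutative

variable {G : Type*} [Group G] (N : Subgroup G) [N.Normal] [IsMulCommutative N] (p : ℕ)
  [Module (ZMod p) (Additive N)]

/-- conjugation on the abelian normal subgroup `N`, as a linear map -/
def L (x : G) : Module.End (ZMod p) (Additive N) :=
  (MulEquiv.toAdditive (MulAut.conjNormal x : MulAut N)).toAddMonoidHom.toZModLinearMap p

theorem L_apply (x : G) (v : Additive N) :
    L N p x v = Additive.ofMul (MulAut.conjNormal x (Additive.toMul v)) := rfl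

theorem L_one : L N p (1 : G) = 1 := by
  apply LinearMap.ext
  intro v
  rw [L_apply, map_one]
  rfl

theorem L_mul (x y : G) : L N p (x * y) = L N p x * L N p y := by
  apply LinearMap.ext
  intro v
  rw [Module.End.mul_apply, L_apply, L_apply, L_apply, map_mul]
  rfl

theorem L_pow (x : G) (k : ℕ) : L N p (x ^ k) = (L N p x) ^ k := by
  induction k with
  | zero => rw [pow_zero, pow_zero, L_one]
  | succ k ih => rw [pow_succ, pow_succ, L_mul, ih]

theorem L_eq_one_of_mem (x : G) (hx : x ∈ N) :
    L N p x = 1 := by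
  apply LinearMap.ext
  intro v
  rw [L_apply, Module.End.one_apply]
  have key : MulAut.conjNormal x (Additive.toMul v) = Additive.toMul v := by
    apply Subtype.ext
    rw [MulAut.conjNormal_apply]
    have h1 : (⟨x, hx⟩ : N) * (Additive.toMul v) = (Additive.toMul v) * ⟨x, hx⟩ := mul_comm _ _
    have h2 := congrArg Subtype.val h1
    simp only [Subgroup.coe_mul] at h2
    rw [h2, mul_assoc, mul_inv_cancel, mul_one]
  rw [key]
  rfl

theorem comm_of_L_eq_one (x : G) (hx : L N p x = 1) (n : G) (hn : n ∈ N) : x * n = n * x := by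
  have := LinearMap.congr_fun hx (Additive.ofMul ⟨n, hn⟩)
  rw [L_apply] at this
  have h2 := congrArg (fun w : Additive N => ((Additive.toMul w : N) : G)) this
  simp only [toMul_ofMul, MulAut.conjNormal_apply, Module.End.one_apply] at h2
  calc x * n = x * n * x⁻¹ * x := by group
    _ = n * x := by rw [h2]

/-- product formula -/
theorem pow_mul_formula (n : N) (h : G) (k : ℕ) :
    ∃ w : N, ((n : G) * h) ^ k = (w : G) * h ^ k ∧
      Additive.ofMul w = (∑ i ∈ Finset.range k, (L N p h) ^ i) (Additive.ofMul n) := by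
  induction k with
  | zero => exact ⟨1, by simp, by simp⟩
  | succ k ih =>
    obtain ⟨w, hw1, hw2⟩ := ih
    refine ⟨w * MulAut.conjNormal (h ^ k) n, ?_, ?_⟩
    · rw [pow_succ, hw1, Subgroup.coe_mul, MulAut.conjNormal_apply, pow_succ]
      group
    · rw [Finset.sum_range_succ, LinearMap.add_apply, ← hw2, ← L_pow, L_apply]
      rfl


theorem core [Fact p.Prime] [Module.Finite (ZMod p) (Additive N)]
    {Ω : Type*} [MulAction G Ω] [FaithfulSMul G Ω] (m : ℕ)
    (hfr : Module.finrank (ZMod p) (Additive N) = m)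
    (hNtr : MulAction.IsPretransitive N Ω) (hNreg : ∀ ω : Ω, MulAction.stabilizer N ω = ⊥)
    (α : Ω) (g : G) (r : ℕ) (hr : 1 ≤ r) (hg : orderOf g = p ^ r) : p ^ (r - 1) ≤ m := by
  classical
  have hp : p.Prime := Fact.out
  haveI := hNtr
  -- self-centralizing
  have hself : ∀ c : G, (∀ n ∈ N, c * n = n * c) → c ∈ N := by
    intro c hc
    obtain ⟨n, hn⟩ := MulAction.exists_smul_eq N α (c • α)
    have hy : ∀ ω : Ω, ((n : G)⁻¹ * c) • ω = ω := by
      intro ω
      obtain ⟨n', rfl⟩ := MulAction.exists_smul_eq N α ω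
      have h1 : ((n : G)⁻¹ * c) * (n' : G) = (n' : G) * ((n : G)⁻¹ * c) := by
        have hc' := hc _ n'.2
        have hnn : (n : G)⁻¹ * (n' : G) = (n' : G) * (n : G)⁻¹ := by
          have := congrArg Subtype.val (mul_comm n⁻¹ n')
          simpa using this
        calc ((n : G)⁻¹ * c) * (n' : G) = (n : G)⁻¹ * (c * n') := by group
          _ = (n : G)⁻¹ * (n' * c) := by rw [hc']
          _ = ((n : G)⁻¹ * n') * c := by group
          _ = ((n' : G) * (n : G)⁻¹) * c := by rw [hnn]
          _ = (n' : G) * ((n : G)⁻¹ * c) := by group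
      have h2 : ((n : G)⁻¹ * c) • α = α := by
        rw [mul_smul]
        have : c • α = (n : G) • α := hn.symm
        rw [this, smul_smul, inv_mul_cancel, one_smul]
      show ((n : G)⁻¹ * c) • ((n' : G) • α) = (n' : G) • α
      rw [smul_smul, h1, mul_smul, h2]
    have h1 : (n : G)⁻¹ * c = 1 := by
      apply FaithfulSMul.eq_of_smul_eq_smul (α := Ω)
      intro ω
      rw [hy ω, one_smul]
    have : c = n := by
      have := inv_mul_eq_one.mp h1
      exact this.symm
    rw [this]; exact n.2
  set a := L N p g with ha_def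
  have ha : a ^ (p ^ r) = 1 := by
    rw [ha_def, ← L_pow, ← hg, pow_orderOf_eq_one, L_one]
  by_contra hlt
  push_neg at hlt
  set k := p ^ (r - 1) with hk
  have hk1 : a ^ k = 1 := pow_eq_one_of_le a r ha (r - 1) (by rw [hfr]; exact hlt.le)
  have hgkN : g ^ k ∈ N := by
    apply hself
    intro n hn
    exact comm_of_L_eq_one N p (g ^ k) (by rw [L_pow]; exact hk1) n hn
  obtain ⟨n₀, hn₀⟩ := MulAction.exists_smul_eq N α (g • α)
  set h : G := (n₀ : G)⁻¹ * g with hh
  have hhα : h • α = α := by
    rw [hh, mul_smul]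
    have : g • α = (n₀ : G) • α := hn₀.symm
    rw [this, smul_smul, inv_mul_cancel, one_smul]
  have hLh : L N p h = a := by
    rw [hh, L_mul, L_eq_one_of_mem N p _ (N.inv_mem n₀.2), one_mul]
  have hgnh : g = (n₀ : G) * h := by rw [hh]; group
  obtain ⟨w, hw1, hw2⟩ := pow_mul_formula N p n₀ h k
  rw [hLh, geom_eq_zero_of_lt a r ha (r - 1) (by rw [hfr]; exact hlt), LinearMap.zero_apply] at hw2
  have hw : w = 1 := by
    have := congrArg Additive.toMul hw2
    simpa using this
  rw [← hgnh, hw, Subgroup.coe_one, one_mul] at hw1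
  have hpowfix : ∀ j : ℕ, (h ^ j) • α = α := by
    intro j
    induction j with
    | zero => simp
    | succ j ih => rw [pow_succ, mul_smul, hhα, ih]
  have hfix : (g ^ k) • α = α := by
    rw [hw1]
    exact hpowfix k
  have h1 : (⟨g ^ k, hgkN⟩ : N) ∈ MulAction.stabilizer N α := by
    rw [MulAction.mem_stabilizer_iff]
    exact hfix
  rw [hNreg α, Subgroup.mem_bot] at h1
  have h2 : g ^ k = 1 := congrArg Subtype.val h1
  have h3 := orderOf_dvd_of_pow_eq_one h2
  rw [hg, hk, Nat.pow_dvd_pow_iff_le_right hp.one_lt] at h3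
  omega

end group

section main

open scoped IsMulCommutative

theorem two_pow_ge (t : ℕ) (ht : 2 ≤ t) : t + 2 ≤ 2 ^ t := by
  induction t, ht using Nat.le_induction with
  | base => norm_num
  | succ t ht ih => rw [pow_succ]; omega

theorem three_pow_ge (t : ℕ) (ht : 1 ≤ t) : t + 2 ≤ 3 ^ t := by
  induction t, ht using Nat.le_induction with
  | base => norm_num
  | succ t ht ih => rw [pow_succ]; omega

theorem main {G : Type*} [Group G] [Finite G] {Ω : Type*} [Fintype Ω] [MulAction G Ω]
    [FaithfulSMul G Ω] (p m : ℕ) (hp : p.Prime) (hcard : Fintype.card Ω = p ^ m)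
    (N : Subgroup G) [N.Normal] (hNc : IsMulCommutative N) (hNp : ∀ n ∈ N, n ^ p = 1)
    (hNtr : MulAction.IsPretransitive N Ω) (hNreg : ∀ ω : Ω, MulAction.stabilizer N ω = ⊥)
    (g : G) (r : ℕ) (hr : 1 ≤ r) (hg : orderOf g = p ^ r) :
    p ^ (r - 1) ≤ m ∧ (r = m → m ≤ 2 ∧ (2 < p → m ≤ 1)) := by
  classical
  haveI : Fact p.Prime := ⟨hp⟩
  haveI := hNc
  haveI := hNtr
  have hΩ : Nonempty Ω := by
    rw [← Fintype.card_pos_iff, hcard]; exact pow_pos hp.pos m
  obtain ⟨α⟩ := hΩ
  have hbij : Function.Bijective (fun n : N => n • α) := by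
    constructor
    · intro a b hab
      have hab' : a • α = b • α := hab
      have : a⁻¹ * b ∈ MulAction.stabilizer N α := by
        rw [MulAction.mem_stabilizer_iff, mul_smul, ← hab', smul_smul, inv_mul_cancel, one_smul]
      rw [hNreg α, Subgroup.mem_bot] at this
      exact (inv_mul_eq_one.mp this)
    · intro ω; exact MulAction.exists_smul_eq N α ω
  have hcardN : Nat.card N = p ^ m := by
    rw [Nat.card_congr (Equiv.ofBijective _ hbij), Nat.card_eq_fintype_card, hcard]
  letI instM : Module (ZMod p) (Additive N) := AddCommGroup.zmodModule (by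
    intro v
    have h1 := hNp _ (Additive.toMul v).2
    apply Additive.toMul.injective
    rw [toMul_nsmul, toMul_zero]
    apply Subtype.ext
    simpa using h1)
  haveI : Finite (Additive N) := inferInstanceAs (Finite N)
  haveI instF : Module.Finite (ZMod p) (Additive N) := Module.Finite.of_finite
  have hfr : Module.finrank (ZMod p) (Additive N) = m := by
    have h1 : Nat.card (Additive N) = Nat.card (ZMod p) ^ Module.finrank (ZMod p) (Additive N) :=
      @Module.natCard_eq_pow_finrank (ZMod p) (Additive N) _ _ instM instF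
    have h2 : Nat.card (Additive N) = Nat.card N := rfl
    rw [h2, hcardN, Nat.card_eq_fintype_card (α := ZMod p), ZMod.card] at h1
    exact (Nat.pow_right_injective hp.two_le h1).symm
  have part1 : p ^ (r - 1) ≤ m := @core G _ N _ _ p instM _ instF Ω _ _ m hfr hNtr hNreg α g r hr hg
  refine ⟨part1, ?_⟩
  intro hrm
  subst hrm
  have h2p : 2 ≤ p := hp.two_le
  constructor
  · by_contra hm
    push_neg at hm
    have h1 := two_pow_ge (r - 1) (by omega)
    have h2 : 2 ^ (r - 1) ≤ p ^ (r - 1) := Nat.pow_le_pow_left h2p _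
    omega
  · intro hp2
    by_contra hm
    push_neg at hm
    have h1 := three_pow_ge (r - 1) (by omega)
    have h2 : 3 ^ (r - 1) ≤ p ^ (r - 1) := Nat.pow_le_pow_left hp2 _
    omega

end main

end Cfsg.Agent.Lib.Helper5_AffineOrder
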