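import Mathlib

set_option autoImplicit false

namespace Cfsg.Agent.Lib.Helper5_AffinePrim

open scoped IsMulCommutative

variable {G : Type*} [Group G] {Ω : Type*} [MulAction G Ω]

/-- regularity: elements of `N` are determined by the image of `α` -/
theorem reg (N : Subgroup G) (hNreg : ∀ ω : Ω, MulAction.stabilizer N ω = ⊥) (α : Ω)
    (n n' : G) (hn : n ∈ N) (hn' : n' ∈ N) (h : n • α = n' • α) : n = n' := by
  have : (⟨n, hn⟩ : N)⁻¹ * ⟨n', hn'⟩ ∈ MulAction.stabilizer N α := by
    rw [MulAction.mem_stabilizer_iff]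
    show (n⁻¹ * n') • α = α
    rw [mul_smul, ← h, smul_smul, inv_mul_cancel, one_smul]
  rw [hNreg α, Subgroup.mem_bot] at this
  have h2 := inv_mul_eq_one.mp this
  exact congrArg Subtype.val h2

/-- a regular abelian normal subgroup of a faithful group is self-centralizing -/
theorem self_centralizing [FaithfulSMul G Ω] (N : Subgroup G) [IsMulCommutative N]
    (hNtr : MulAction.IsPretransitive N Ω) (α : Ω) (c : G) (hc : ∀ n ∈ N, c * n = n * c) :
    c ∈ N := by
  haveI := hNtr
  obtain ⟨n, hn⟩ := MulAction.exists_smul_eq N α (c • α)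
  have hy : ∀ ω : Ω, ((n : G)⁻¹ * c) • ω = ω := by
    intro ω
    obtain ⟨n', rfl⟩ := MulAction.exists_smul_eq N α ω
    have h1 : ((n : G)⁻¹ * c) * (n' : G) = (n' : G) * ((n : G)⁻¹ * c) := by
      have hc' := hc _ n'.2
      have hnn : (n : G)⁻¹ * (n' : G) = (n' : G) * (n : G)⁻¹ := by
        have := congrArg Subtype.val (mul_comm n⁻¹ n')
        simpa using this
      calc ((n : G)⁻¹ * c) * (n' : G) = (n : G)⁻¹ * (c * n') := by group
        _ = (n : G)⁻¹ * (n' * c) := by rw [hc']
        _ = ((n : G)⁻¹ * n') * c := by group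
        _ = ((n' : G) * (n : G)⁻¹) * c := by rw [hnn]
        _ = (n' : G) * ((n : G)⁻¹ * c) := by group
    have h2 : ((n : G)⁻¹ * c) • α = α := by
      rw [mul_smul]
      have : c • α = (n : G) • α := hn.symm
      rw [this, smul_smul, inv_mul_cancel, one_smul]
    show ((n : G)⁻¹ * c) • ((n' : G) • α) = (n' : G) • α
    rw [smul_smul, h1, mul_smul, h2]
  have h1 : (n : G)⁻¹ * c = 1 := by
    apply FaithfulSMul.eq_of_smul_eq_smul (α := Ω)
    intro ω
    rw [hy ω, one_smul]
  have : c = n := (inv_mul_eq_one.mp h1).symm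
  rw [this]; exact n.2

/-- irreducibility of `N` under a maximal point stabilizer -/
theorem irreducible (N : Subgroup G) (hNreg : ∀ ω : Ω, MulAction.stabilizer N ω = ⊥) (α : Ω)
    (hco : IsCoatom (MulAction.stabilizer G α)) (N₁ : Subgroup G) (h1 : N₁ ≤ N)
    (hinv : MulAction.stabilizer G α ≤ Subgroup.normalizer (N₁ : Set G)) : N₁ = ⊥ ∨ N₁ = N := by
  set H := MulAction.stabilizer G α with hH
  have hNH : ∀ x ∈ N, x ∈ H → x = 1 := by
    intro x hxN hxH
    have := reg N hNreg α x 1 hxN N.one_mem (by rw [one_smul]; exact hxH)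
    exact this
  by_cases hK : N₁ ⊔ H = H
  · left
    rw [eq_bot_iff]
    intro x hx
    have hxH : x ∈ H := by
      rw [← hK]; exact Subgroup.mem_sup_left hx
    exact Subgroup.mem_bot.mpr (hNH x (h1 hx) hxH)
  · right
    have htop : N₁ ⊔ H = ⊤ := hco.2 _ (lt_of_le_of_ne le_sup_right (Ne.symm hK))
    apply le_antisymm h1
    intro n hn
    have hmem : n ∈ ((N₁ ⊔ H : Subgroup G) : Set G) := by rw [htop]; trivial
    rw [Subgroup.coe_mul_of_right_le_normalizer_left N₁ H hinv] at hmem
    obtain ⟨n₁, hn₁, h, hh, rfl⟩ := Set.mem_mul.mp hmem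
    have hhN : h ∈ N := by
      have : h = n₁⁻¹ * (n₁ * h) := by group
      rw [this]
      exact N.mul_mem (N.inv_mem (h1 hn₁)) hn
    rw [hNH h hhN hh, mul_one]
    exact hn₁

/-- from conjugation-closure to normalizer membership -/
theorem le_normalizer_of_conj (H K : Subgroup G) (h : ∀ x ∈ H, ∀ y ∈ K, x * y * x⁻¹ ∈ K) :
    H ≤ Subgroup.normalizer (K : Set G) := by
  intro x hx
  rw [Subgroup.mem_normalizer_iff]
  intro y
  constructor
  · exact h x hx y
  · intro hy
    have := h x⁻¹ (H.inv_mem hx) _ hy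
    simpa [mul_assoc] using this

theorem main [Finite G] [Fintype Ω] [FaithfulSMul G Ω]
    (hprim : MulAction.IsPreprimitive G Ω)
    (hep : ∀ (α : Ω) (ω : Ω), MulAction.IsPreprimitive (MulAction.stabilizer G α)
      (MulAction.orbit (MulAction.stabilizer G α) ω))
    (N : Subgroup G) [N.Normal] (hNc : IsMulCommutative N)
    (hNtr : MulAction.IsPretransitive N Ω) (hNreg : ∀ ω : Ω, MulAction.stabilizer N ω = ⊥)
    (α : Ω) (M : Subgroup G) (hM : M ≠ ⊥) (hMle : M ≤ MulAction.stabilizer G α)
    (hMn : MulAction.stabilizer G α ≤ Subgroup.normalizer (M : Set G)) :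
    (∀ ω : Ω, MulAction.orbit M ω = MulAction.orbit (MulAction.stabilizer G α) ω) ∧
    (∀ L : Subgroup G, L ≤ N → M ≤ Subgroup.normalizer (L : Set G) → L = ⊥ ∨ L = N) := by
  classical
  haveI := hNc
  haveI := hNtr
  haveI := hprim
  set H := MulAction.stabilizer G α with hHdef
  by_cases hnt : Nontrivial Ω
  swap
  · rw [not_nontrivial_iff_subsingleton] at hnt
    constructor
    · intro ω
      ext x
      have : x = ω := Subsingleton.elim _ _
      subst this
      simp [MulAction.mem_orbit_self]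
    · intro L hL _
      left
      rw [eq_bot_iff]
      intro x hx
      have := reg N hNreg α x 1 (hL hx) N.one_mem (Subsingleton.elim _ _)
      exact Subgroup.mem_bot.mpr this
  haveI := hnt
  have hco : IsCoatom H := MulAction.IsPreprimitive.isCoatom_stabilizer_of_isPreprimitive G α
  have hirr := irreducible N hNreg α hco
  have hconj : ∀ h ∈ H, ∀ n : G, (h * n * h⁻¹) • α = h • n • α := by
    intro h hh n
    have h1 : h⁻¹ • α = α := H.inv_mem hh
    rw [mul_smul, mul_smul, h1]
  have hNconj : ∀ (h n : G), n ∈ N → h * n * h⁻¹ ∈ N := fun h n hn =>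
    (inferInstance : N.Normal).conj_mem n hn h
  -- conjugation by `H` preserves `M`
  have hMconj : ∀ h ∈ H, ∀ m ∈ M, h * m * h⁻¹ ∈ M := by
    intro h hh m hm
    exact (Subgroup.mem_normalizer_iff.mp (hMn hh) m).mp hm
  -- Fix(M) = {α}
  have hfixM : ∀ ω : Ω, (∀ m ∈ M, m • ω = ω) → ω = α := by
    intro ω hω
    obtain ⟨n, rfl⟩ := MulAction.exists_smul_eq N α ω
    set N₁ : Subgroup G := N ⊓ Subgroup.centralizer (M : Set G) with hN₁
    have hnN₁ : (n : G) ∈ N₁ := by
      rw [hN₁, Subgroup.mem_inf]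
      refine ⟨n.2, ?_⟩
      rw [Subgroup.mem_centralizer_iff]
      intro m hm
      have h1 : (m * n * m⁻¹) • α = (n : G) • α := by
        rw [hconj m (hMle hm)]; exact hω m hm
      have h2 := reg N hNreg α _ _ (hNconj m n n.2) n.2 h1
      calc m * n = (m * n * m⁻¹) * m := by group
        _ = n * m := by rw [h2]
    have hinv : H ≤ Subgroup.normalizer (N₁ : Set G) := by
      apply le_normalizer_of_conj
      intro h hh x hx
      rw [hN₁, Subgroup.mem_inf] at hx ⊢
      refine ⟨hNconj h x hx.1, ?_⟩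
      rw [Subgroup.mem_centralizer_iff]
      intro m hm
      have hm' : h⁻¹ * m * h ∈ M := by
        have := hMconj h⁻¹ (H.inv_mem hh) m hm
        simpa using this
      have hc := (Subgroup.mem_centralizer_iff.mp hx.2) _ hm'
      calc m * (h * x * h⁻¹) = h * ((h⁻¹ * m * h) * x) * h⁻¹ := by group
        _ = h * (x * (h⁻¹ * m * h)) * h⁻¹ := by rw [hc]
        _ = h * x * h⁻¹ * m := by group
    rcases hirr N₁ inf_le_left hinv with h0 | h1
    · have h3 : (n : G) = 1 := by rw [h0] at hnN₁; exact Subgroup.mem_bot.mp hnN₁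
      show (n : G) • α = α
      rw [h3, one_smul]
    · exfalso
      apply hM
      rw [eq_bot_iff]
      intro m hm
      have hmN : m ∈ N := self_centralizing N hNtr α m (fun x hx => by
        have hx1 : x ∈ N₁ := h1 ▸ hx
        exact (Subgroup.mem_centralizer_iff.mp (Subgroup.mem_inf.mp hx1).2) m hm)
      have := reg N hNreg α m 1 hmN N.one_mem (by rw [one_smul]; exact hMle hm)
      exact Subgroup.mem_bot.mpr this
  -- part 1
  have part1 : ∀ ω : Ω, MulAction.orbit M ω = MulAction.orbit H ω := by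
    intro ω
    apply Set.Subset.antisymm
    · rintro _ ⟨m, rfl⟩
      exact ⟨⟨m.1, hMle m.2⟩, rfl⟩
    · by_cases hω : ∀ m ∈ M, m • ω = ω
      · have hωα := hfixM ω hω
        rintro _ ⟨h, rfl⟩
        have : h • ω = ω := by
          rw [hωα]; exact h.2
        show h • ω ∈ MulAction.orbit M ω
        rw [this]
        exact MulAction.mem_orbit_self ω
      · push_neg at hω
        obtain ⟨m₀, hm₀, hm₀ω⟩ := hω
        haveI := hep α ω
        haveI : (M.subgroupOf H).Normal :=
          (Subgroup.normal_subgroupOf_iff_le_normalizer hMle).mpr hMn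
        have hfix : MulAction.fixedPoints (M.subgroupOf H) (MulAction.orbit H ω) ≠ Set.univ := by
          intro hall
          have h1 : (⟨ω, MulAction.mem_orbit_self ω⟩ : MulAction.orbit H ω) ∈
              MulAction.fixedPoints (M.subgroupOf H) (MulAction.orbit H ω) := by
            rw [hall]; trivial
          have h2 := h1 ⟨⟨m₀, hMle hm₀⟩, by rw [Subgroup.mem_subgroupOf]; exact hm₀⟩
          have h3 := congrArg Subtype.val h2
          exact hm₀ω h3
        have htr : MulAction.IsPretransitive (M.subgroupOf H) (MulAction.orbit H ω) :=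
          MulAction.IsQuasiPreprimitive.isPretransitive_of_normal hfix
        intro δ hδ
        obtain ⟨m, hm⟩ := htr.exists_smul_eq ⟨ω, MulAction.mem_orbit_self ω⟩ ⟨δ, hδ⟩
        have h3 := congrArg Subtype.val hm
        refine ⟨⟨(m : H), Subgroup.mem_subgroupOf.mp m.2⟩, ?_⟩
        exact h3
  refine ⟨part1, ?_⟩
  -- part 2
  intro L hL hML
  apply hirr L hL
  apply le_normalizer_of_conj
  intro h hh l hl
  -- the orbit Γ = L α is M-invariant, hence H-invariant
  have hΓ : h • l • α ∈ MulAction.orbit H (l • α) := ⟨⟨h, hh⟩, rfl⟩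
  rw [← part1] at hΓ
  obtain ⟨m, hm⟩ := hΓ
  have hm' : (m : G) • l • α = h • l • α := hm
  have hml : (m : G) * l * (m : G)⁻¹ ∈ L :=
    (Subgroup.mem_normalizer_iff.mp (hML m.2) l).mp hl
  have h1 : ((m : G) * l * (m : G)⁻¹) • α = (h * l * h⁻¹) • α := by
    rw [hconj _ (hMle m.2), hconj h hh, hm']
  have h2 := reg N hNreg α _ _ (hL hml) (hNconj h l (hL hl)) h1
  rw [← h2]
  exact hml

end Cfsg.Agent.Lib.Helper5_AffinePrim
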