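import Mathlib
import Cfsg.Agent.Lib.Helper8_S4Pres

set_option autoImplicit false

namespace Cfsg.Agent.Lib.Helper5_AutQ8

open QuaternionGroup

abbrev Q := QuaternionGroup 2

/-- `i ↔ j`, `k ↦ -k` (with `i = a 1`, `j = xa 0`, `k = xa 3`). -/
def tA : Q → Q
  | .a m => (![.a 0, .xa 0, .a 2, .xa 2] : Fin 4 → Q) m
  | .xa m => (![.a 1, .xa 3, .a 3, .xa 1] : Fin 4 → Q) m

/-- `j ↔ k`, `i ↦ -i`. -/
def tB : Q → Q
  | .a m => (![.a 0, .a 3, .a 2, .a 1] : Fin 4 → Q) m
  | .xa m => (![.xa 3, .xa 2, .xa 1, .xa 0] : Fin 4 → Q) m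

/-- `i ↦ -j`, `j ↦ -i`, `k ↦ -k`. -/
def tC : Q → Q
  | .a m => (![.a 0, .xa 2, .a 2, .xa 0] : Fin 4 → Q) m
  | .xa m => (![.a 3, .xa 3, .a 1, .xa 1] : Fin 4 → Q) m

def eA : MulAut Q :=
  { toFun := tA, invFun := tA, left_inv := by decide, right_inv := by decide, map_mul' := by decide }
def eB : MulAut Q :=
  { toFun := tB, invFun := tB, left_inv := by decide, right_inv := by decide, map_mul' := by decide }
def eC : MulAut Q :=
  { toFun := tC, invFun := tC, left_inv := by decide, right_inv := by decide, map_mul' := by decide }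

theorem eA_apply (x : Q) : eA x = tA x := rfl
theorem eB_apply (x : Q) : eB x = tB x := rfl
theorem eC_apply (x : Q) : eC x = tC x := rfl

theorem relAA : eA * eA = 1 := by
  ext x; simp only [MulAut.mul_apply, MulAut.one_apply, eA_apply]; revert x; decide
theorem relBB : eB * eB = 1 := by
  ext x; simp only [MulAut.mul_apply, MulAut.one_apply, eB_apply]; revert x; decide
theorem relCC : eC * eC = 1 := by
  ext x; simp only [MulAut.mul_apply, MulAut.one_apply, eC_apply]; revert x; decide
theorem relCA : eC * eA = eA * eC := by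
  ext x; simp only [MulAut.mul_apply, eA_apply, eC_apply]; revert x; decide
theorem relBAB : eB * eA * eB = eA * eB * eA := by
  ext x; simp only [MulAut.mul_apply, eA_apply, eB_apply]; revert x; decide
theorem relCBC : eC * eB * eC = eB * eC * eB := by
  ext x; simp only [MulAut.mul_apply, eC_apply, eB_apply]; revert x; decide
theorem neAC : eA ≠ eC := by
  intro h
  have := DFunLike.congr_fun h (.a 1)
  simp only [eA_apply, eC_apply] at this
  revert this; decide

/-- the constraint set for images of the generators -/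
def T : Finset (Q × Q) :=
  Finset.univ.filter (fun p => p.1 * p.1 ≠ 1 ∧ p.2 * p.2 ≠ 1 ∧ p.2 ≠ p.1 ∧ p.2 ≠ p.1⁻¹)

theorem card_T : T.card = 24 := by decide

theorem gen : ∀ x : Q, ∃ m n : Fin 4, x = (QuaternionGroup.a 1 : Q) ^ (m : ℕ) * (QuaternionGroup.xa 0 : Q) ^ (n : ℕ) := by
  decide

def ev (f : MulAut Q) : Q × Q := (f (.a 1), f (.xa 0))

theorem ev_inj : Function.Injective ev := by
  intro f g h
  have h1 : f (.a 1) = g (.a 1) := congrArg Prod.fst h
  have h2 : f (.xa 0) = g (.xa 0) := congrArg Prod.snd h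
  ext x
  obtain ⟨m, n, rfl⟩ := gen x
  rw [map_mul, map_mul, map_pow, map_pow, map_pow, map_pow, h1, h2]

theorem ev_mem (f : MulAut Q) : ev f ∈ T := by
  have hinj := f.injective
  simp only [T, Finset.mem_filter, Finset.mem_univ, true_and, ev]
  refine ⟨?_, ?_, ?_, ?_⟩
  · rw [← map_mul, ← map_one f]
    exact fun h => absurd (hinj h) (by decide)
  · rw [← map_mul, ← map_one f]
    exact fun h => absurd (hinj h) (by decide)
  · exact fun h => absurd (hinj h) (by decide)
  · rw [← map_inv]
    exact fun h => absurd (hinj h) (by decide)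

instance : Finite (MulAut Q) := Finite.of_injective ev ev_inj

theorem card_le : Nat.card (MulAut Q) ≤ 24 := by
  have : Function.Injective (fun f : MulAut Q => (⟨ev f, ev_mem f⟩ : T)) := by
    intro f g h
    exact ev_inj (congrArg Subtype.val h)
  have h1 := Nat.card_le_card_of_injective _ this
  rw [Nat.card_eq_fintype_card (α := ↥T), Fintype.card_coe, card_T] at h1
  exact h1

theorem main : Nonempty (MulAut (QuaternionGroup 2) ≃* Equiv.Perm (Fin 4)) := by
  obtain ⟨φ, -, -, -, hinj⟩ := Cfsg.Agent.Helper8S4Pres.exists_hom eA eB eC relAA relBB relCC relCA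
    relBAB relCBC
  have hφ := hinj neAC
  have hbij : Function.Bijective φ := by
    apply hφ.bijective_of_nat_card_le
    rw [Nat.card_eq_fintype_card (α := Equiv.Perm (Fin 4)), Fintype.card_perm, Fintype.card_fin]
    exact card_le
  exact ⟨(MulEquiv.ofBijective φ hbij).symm⟩

end Cfsg.Agent.Lib.Helper5_AutQ8
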