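import Mathlib
import Cfsg.Prelude.Def_BaumannBlocks

set_option autoImplicit false

/-!
helper5: product formula for subgroups and the Chermak–Delgado inequality.
-/

namespace Cfsg.Agent.Lib.Helper5_CD

open scoped Pointwise

/-- If all fibres of `f` have `c` elements then `|α| = |range f| * c`. -/
theorem card_eq_card_range_mul {α β : Type*} [Finite α] (f : α → β) (c : ℕ)
    (h : ∀ x : α, Nat.card {x' : α // f x' = f x} = c) :
    Nat.card α = Nat.card (Set.range f) * c := by
  classical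
  have e := Equiv.sigmaSubtypeFiberEquiv f (fun y => y ∈ Set.range f) (fun x => Set.mem_range_self x)
  rw [← Nat.card_congr e]
  have : Fintype {y : β // y ∈ Set.range f} := Fintype.ofFinite _
  rw [Nat.card_sigma]
  have hc : ∀ y : {y : β // y ∈ Set.range f}, Nat.card {x : α // f x = (y : β)} = c := by
    rintro ⟨_, x, rfl⟩; exact h x
  simp only [hc, Finset.sum_const, Finset.card_univ, smul_eq_mul]
  rw [Nat.card_eq_fintype_card]

variable {G : Type*} [Group G]

/-- the fibre of the multiplication map `A × B → G` over `a * b` is in bijection with `A ∩ B` -/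
def fiberEquiv (A B : Subgroup G) (x : A × B) :
    {x' : A × B // (x'.1 : G) * (x'.2 : G) = (x.1 : G) * (x.2 : G)} ≃ ↥(A ⊓ B) where
  toFun y := ⟨(x.1 : G)⁻¹ * (y.1.1 : G), by
    refine ⟨A.mul_mem (A.inv_mem x.1.2) y.1.1.2, ?_⟩
    have h : (x.1 : G)⁻¹ * (y.1.1 : G) = (x.2 : G) * (y.1.2 : G)⁻¹ := by
      have := y.2
      rw [inv_mul_eq_iff_eq_mul, ← mul_assoc, eq_mul_inv_iff_mul_eq]
      exact this
    rw [h]
    exact B.mul_mem x.2.2 (B.inv_mem y.1.2.2)⟩
  invFun d := ⟨(⟨(x.1 : G) * (d : G), A.mul_mem x.1.2 d.2.1⟩, ⟨(d : G)⁻¹ * (x.2 : G), B.mul_mem (B.inv_mem d.2.2) x.2.2⟩), by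
    simp [mul_assoc]⟩
  left_inv y := by
    apply Subtype.ext
    apply Prod.ext
    · apply Subtype.ext
      simp
    · apply Subtype.ext
      have h := y.2
      simp only [mul_inv_rev, inv_inv]
      calc (y.1.1 : G)⁻¹ * (x.1 : G) * (x.2 : G) = (y.1.1 : G)⁻¹ * ((x.1 : G) * (x.2 : G)) := by
            rw [mul_assoc]
        _ = (y.1.1 : G)⁻¹ * ((y.1.1 : G) * (y.1.2 : G)) := by rw [h]
        _ = (y.1.2 : G) := by rw [inv_mul_cancel_left]
  right_inv d := by
    apply Subtype.ext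
    simp

/-- `|AB| · |A ∩ B| = |A| · |B|` for subgroups of a finite group. -/
theorem card_mul_set [Finite G] (A B : Subgroup G) :
    Nat.card ↥((A : Set G) * (B : Set G)) * Nat.card ↥(A ⊓ B) = Nat.card A * Nat.card B := by
  have h := card_eq_card_range_mul (fun x : A × B => (x.1 : G) * (x.2 : G)) (Nat.card ↥(A ⊓ B))
    (fun x => Nat.card_congr (fiberEquiv A B x))
  rw [Nat.card_prod] at h
  rw [h]
  have hset : Set.range (fun x : A × B => (x.1 : G) * (x.2 : G)) = (A : Set G) * (B : Set G) := by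
    ext g
    constructor
    · rintro ⟨x, rfl⟩
      exact Set.mul_mem_mul x.1.2 x.2.2
    · rintro ⟨a, ha, b, hb, rfl⟩
      exact ⟨(⟨a, ha⟩, ⟨b, hb⟩), rfl⟩
  rw [hset]

theorem mul_set_subset_sup (A B : Subgroup G) : (A : Set G) * (B : Set G) ⊆ ((A ⊔ B : Subgroup G) : Set G) := by
  rintro _ ⟨a, ha, b, hb, rfl⟩
  exact Subgroup.mul_mem _ (Subgroup.mem_sup_left ha) (Subgroup.mem_sup_right hb)

/-- `|A| · |B| ≤ |⟨A,B⟩| · |A ∩ B|`. -/
theorem card_mul_card_le [Finite G] (A B : Subgroup G) :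
    Nat.card A * Nat.card B ≤ Nat.card ↥(A ⊔ B) * Nat.card ↥(A ⊓ B) := by
  rw [← card_mul_set]
  apply Nat.mul_le_mul_right
  exact Nat.card_mono (Set.toFinite _) (mul_set_subset_sup A B)

/-- equality in `card_mul_card_le` forces `⟨A,B⟩ = AB`. -/
theorem sup_eq_mul_of_card_eq [Finite G] (A B : Subgroup G)
    (h : Nat.card A * Nat.card B = Nat.card ↥(A ⊔ B) * Nat.card ↥(A ⊓ B)) :
    ((A ⊔ B : Subgroup G) : Set G) = (A : Set G) * (B : Set G) := by
  rw [← card_mul_set] at h
  have hpos : 0 < Nat.card ↥(A ⊓ B) := Nat.card_pos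
  have h2 := Nat.eq_of_mul_eq_mul_right hpos h
  symm
  apply Set.eq_of_subset_of_ncard_le (mul_set_subset_sup A B) _ (Set.toFinite _)
  rw [← Nat.card_coe_set_eq, ← Nat.card_coe_set_eq]
  exact h2.symm.le

theorem nat_eq_of_mul {x y u w : ℕ} (hxy : x ≤ y) (huw : u ≤ w) (h : y * w ≤ x * u)
    (hx : 0 < x) (hu : 0 < u) : x = y ∧ u = w := by
  have h1 : x = y := by
    rcases hxy.eq_or_lt with h1 | h1
    · exact h1
    · exfalso
      have h2 : x * u < y * u := Nat.mul_lt_mul_of_pos_right h1 hu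
      have h3 : y * u ≤ y * w := Nat.mul_le_mul_left y huw
      omega
  refine ⟨h1, le_antisymm huw ?_⟩
  rw [← h1] at h
  exact Nat.le_of_mul_le_mul_left h hx

open Subgroup

theorem centralizer_sup (A B : Subgroup G) :
    centralizer ((A ⊔ B : Subgroup G) : Set G) = centralizer (A : Set G) ⊓ centralizer (B : Set G) := by
  apply eq_of_forall_le_iff
  intro X
  rw [le_centralizer_iff, sup_le_iff, le_inf_iff]
  exact and_congr le_centralizer_iff le_centralizer_iff

theorem centralizer_sup_le (A B : Subgroup G) :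
    centralizer (A : Set G) ⊔ centralizer (B : Set G) ≤ centralizer ((A ⊓ B : Subgroup G) : Set G) :=
  sup_le (centralizer_le (fun _ hx => hx.1)) (centralizer_le (fun _ hx => hx.2))

theorem le_centralizer_centralizer (A : Subgroup G) :
    A ≤ centralizer ((centralizer (A : Set G) : Subgroup G) : Set G) :=
  le_centralizer_iff.mp le_rfl

/-- the Chermak–Delgado measure -/
noncomputable def cdm (A : Subgroup G) : ℕ := Nat.card A * Nat.card (centralizer (A : Set G))

theorem cdm_pos [Finite G] (A : Subgroup G) : 0 < cdm A := Nat.mul_pos Nat.card_pos Nat.card_pos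

/-- The Chermak–Delgado lattice property. -/
theorem cd_key [Finite G] (A B : Subgroup G) (M : ℕ) (hA : cdm A = M) (hB : cdm B = M)
    (hmax : ∀ R : Subgroup G, cdm R ≤ M) :
    cdm (A ⊔ B) = M ∧ cdm (A ⊓ B) = M ∧
      ((A ⊔ B : Subgroup G) : Set G) = (A : Set G) * (B : Set G) ∧
      ((centralizer (A : Set G) ⊔ centralizer (B : Set G) : Subgroup G) : Set G) =
        (centralizer (A : Set G) : Set G) * (centralizer (B : Set G) : Set G) ∧
      centralizer ((A ⊓ B : Subgroup G) : Set G) = centralizer (A : Set G) ⊔ centralizer (B : Set G) := by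
  have hMpos : 0 < M := hA ▸ cdm_pos A
  have I1 := card_mul_card_le A B
  have I2 := card_mul_card_le (centralizer (A : Set G)) (centralizer (B : Set G))
  have I3 : Nat.card ↥(centralizer (A : Set G) ⊔ centralizer (B : Set G)) ≤
      Nat.card ↥(centralizer ((A ⊓ B : Subgroup G) : Set G)) :=
    Subgroup.card_le_of_le (centralizer_sup_le A B)
  have hs := hmax (A ⊔ B)
  have hi := hmax (A ⊓ B)
  unfold cdm at hA hB hs hi ⊢
  rw [centralizer_sup] at hs ⊢
  set a := Nat.card A
  set b := Nat.card B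
  set ca := Nat.card (centralizer (A : Set G))
  set cb := Nat.card (centralizer (B : Set G))
  set s := Nat.card ↥(A ⊔ B)
  set i := Nat.card ↥(A ⊓ B)
  set cs := Nat.card ↥(centralizer (A : Set G) ⊔ centralizer (B : Set G))
  set ci := Nat.card ↥(centralizer (A : Set G) ⊓ centralizer (B : Set G))
  set cI := Nat.card ↥(centralizer ((A ⊓ B : Subgroup G) : Set G))
  have hapos : 0 < a := Nat.card_pos
  have hbpos : 0 < b := Nat.card_pos
  have hcapos : 0 < ca := Nat.card_pos
  have hcbpos : 0 < cb := Nat.card_pos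
  have hcipos : 0 < ci := Nat.card_pos
  have hipos : 0 < i := Nat.card_pos
  have hspos : 0 < s := Nat.card_pos
  -- X = a*b ≤ Y = s*i ; U = ca*cb ≤ W' = cI*ci
  have hU : ca * cb ≤ cI * ci := I2.trans (Nat.mul_le_mul_right _ I3)
  have hprod : (s * i) * (cI * ci) ≤ (a * b) * (ca * cb) := by
    calc (s * i) * (cI * ci) = (s * ci) * (i * cI) := by ring
      _ ≤ M * M := Nat.mul_le_mul hs hi
      _ = (a * ca) * (b * cb) := by rw [hA, hB]
      _ = (a * b) * (ca * cb) := by ring
  obtain ⟨e1, e2⟩ := nat_eq_of_mul I1 hU hprod (Nat.mul_pos hapos hbpos) (Nat.mul_pos hcapos hcbpos)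
  -- cs = cI
  have e3 : cs = cI := by
    have h1 : cs * ci ≤ cI * ci := Nat.mul_le_mul_right _ I3
    have h2 : cI * ci ≤ cs * ci := e2 ▸ I2
    exact Nat.eq_of_mul_eq_mul_right hcipos (le_antisymm h1 h2)
  -- measures
  have hMM : (s * ci) * (i * cI) = M * M := by
    calc (s * ci) * (i * cI) = (s * i) * (cI * ci) := by ring
      _ = (a * b) * (ca * cb) := by rw [← e1, ← e2]
      _ = (a * ca) * (b * cb) := by ring
      _ = M * M := by rw [hA, hB]
  obtain ⟨e4, e5⟩ := nat_eq_of_mul hs hi hMM.ge (Nat.mul_pos hspos hcipos) (Nat.mul_pos hipos Nat.card_pos)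
  refine ⟨e4, e5, sup_eq_mul_of_card_eq A B e1, ?_, ?_⟩
  · apply sup_eq_mul_of_card_eq
    have : ca * cb = cs * ci := by rw [e2, e3]
    exact this
  · symm
    exact Subgroup.eq_of_le_of_card_ge (centralizer_sup_le A B) e3.symm.le

/-- for a measure-largest `A`, `C(A)` is measure-largest and `A = C(C(A))`. -/
theorem cd_centralizer [Finite G] (A : Subgroup G) (M : ℕ) (hA : cdm A = M)
    (hmax : ∀ R : Subgroup G, cdm R ≤ M) :
    cdm (centralizer (A : Set G)) = M ∧
      A = centralizer ((centralizer (A : Set G) : Subgroup G) : Set G) := by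
  have h1 := hmax (centralizer (A : Set G))
  have h2 : Nat.card A ≤ Nat.card (centralizer ((centralizer (A : Set G) : Subgroup G) : Set G)) :=
    Subgroup.card_le_of_le (le_centralizer_centralizer A)
  unfold cdm at hA h1 ⊢
  have hcpos : 0 < Nat.card (centralizer (A : Set G)) := Nat.card_pos
  have h3 : Nat.card (centralizer (A : Set G)) * Nat.card A ≤
      Nat.card (centralizer (A : Set G)) *
        Nat.card (centralizer ((centralizer (A : Set G) : Subgroup G) : Set G)) :=
    Nat.mul_le_mul_left _ h2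
  have h4 : Nat.card (centralizer (A : Set G)) * Nat.card A = M := by rw [mul_comm]; exact hA
  have h5 : Nat.card (centralizer (A : Set G)) *
        Nat.card (centralizer ((centralizer (A : Set G) : Subgroup G) : Set G)) = M := by omega
  refine ⟨h5, ?_⟩
  have h6 : Nat.card (centralizer ((centralizer (A : Set G) : Subgroup G) : Set G)) = Nat.card A :=
    Nat.eq_of_mul_eq_mul_left hcpos (h5.trans h4.symm)
  exact Subgroup.eq_of_le_of_card_ge (le_centralizer_centralizer A) h6.le

/-! ### the bridge to `Cfsg.IsCentralizerLarge`, `Cfsg.IsCentrallyLarge` -/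

/-- `Z(R)` viewed inside the ambient group. -/
theorem map_center_subtype (R : Subgroup G) :
    (Subgroup.center ↥R).map R.subtype = R ⊓ centralizer (R : Set G) := by
  ext x
  rw [Subgroup.mem_map, Subgroup.mem_inf]
  constructor
  · rintro ⟨z, hz, rfl⟩
    refine ⟨z.2, ?_⟩
    rw [mem_centralizer_iff]
    intro r hr
    have := Subgroup.mem_center_iff.mp hz ⟨r, hr⟩
    exact congrArg Subtype.val this
  · rintro ⟨hxR, hxC⟩
    refine ⟨⟨x, hxR⟩, ?_, rfl⟩
    rw [Subgroup.mem_center_iff]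
    intro r
    apply Subtype.ext
    exact (mem_centralizer_iff.mp hxC r r.2)

theorem card_center (R : Subgroup G) :
    Nat.card (Subgroup.center ↥R) = Nat.card ↥(R ⊓ centralizer (R : Set G)) := by
  rw [← map_center_subtype, Subgroup.card_map_of_injective R.subtype_injective]

/-- the "central" measure `|R| · |Z(R)|` -/
noncomputable def czm (R : Subgroup G) : ℕ := Nat.card R * Nat.card ↥(R ⊓ centralizer (R : Set G))

theorem czm_le_cdm [Finite G] (R : Subgroup G) : czm R ≤ cdm R :=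
  Nat.mul_le_mul_left _ (Subgroup.card_le_of_le inf_le_right)

theorem isCentralizerLarge_iff (R : Subgroup G) :
    Cfsg.IsCentralizerLarge R ↔ cdm R = Cfsg.maxCentralizerProduct G := Iff.rfl

theorem isCentrallyLarge_iff (R : Subgroup G) :
    Cfsg.IsCentrallyLarge R ↔ czm R = Cfsg.maxCentralProduct G := by
  unfold Cfsg.IsCentrallyLarge czm
  rw [card_center]

theorem bddAbove_cdm [Finite G] :
    BddAbove {k : ℕ | ∃ R : Subgroup G, Nat.card ↥R * Nat.card ↥(centralizer (R : Set G)) = k} := by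
  refine ⟨Nat.card G * Nat.card G, ?_⟩
  rintro _ ⟨R, rfl⟩
  exact Nat.mul_le_mul (Subgroup.card_le_card_group R) (Subgroup.card_le_card_group _)

theorem bddAbove_czm [Finite G] :
    BddAbove {k : ℕ | ∃ R : Subgroup G, Nat.card ↥R * Nat.card ↥(Subgroup.center ↥R) = k} := by
  refine ⟨Nat.card G * Nat.card G, ?_⟩
  rintro _ ⟨R, rfl⟩
  refine Nat.mul_le_mul (Subgroup.card_le_card_group R) ?_
  rw [card_center]
  exact Subgroup.card_le_card_group _

theorem cdm_le_max [Finite G] (R : Subgroup G) : cdm R ≤ Cfsg.maxCentralizerProduct G :=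
  le_csSup bddAbove_cdm ⟨R, rfl⟩

theorem czm_le_max [Finite G] (R : Subgroup G) : czm R ≤ Cfsg.maxCentralProduct G := by
  apply le_csSup bddAbove_czm
  refine ⟨R, ?_⟩
  rw [card_center]; rfl

theorem exists_isCentralizerLarge [Finite G] : ∃ R : Subgroup G, Cfsg.IsCentralizerLarge R := by
  have hne : {k : ℕ | ∃ R : Subgroup G, Nat.card ↥R * Nat.card ↥(centralizer (R : Set G)) = k}.Nonempty :=
    ⟨_, ⊥, rfl⟩
  obtain ⟨R, hR⟩ := Nat.sSup_mem hne bddAbove_cdm
  exact ⟨R, hR⟩

theorem exists_isCentrallyLarge [Finite G] : ∃ R : Subgroup G, Cfsg.IsCentrallyLarge R := by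
  have hne : {k : ℕ | ∃ R : Subgroup G, Nat.card ↥R * Nat.card ↥(Subgroup.center ↥R) = k}.Nonempty :=
    ⟨_, ⊥, rfl⟩
  obtain ⟨R, hR⟩ := Nat.sSup_mem hne bddAbove_czm
  exact ⟨R, hR⟩

/-! ### Glauberman's centrally large subgroups -/

theorem maxCentralProduct_le [Finite G] :
    Cfsg.maxCentralProduct G ≤ Cfsg.maxCentralizerProduct G := by
  obtain ⟨R, hR⟩ := exists_isCentrallyLarge (G := G)
  rw [isCentrallyLarge_iff] at hR
  rw [← hR]
  exact (czm_le_cdm R).trans (cdm_le_max R)

theorem maxCentralizerProduct_le [Finite G] :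
    Cfsg.maxCentralizerProduct G ≤ Cfsg.maxCentralProduct G := by
  obtain ⟨R, hR⟩ := exists_isCentralizerLarge (G := G)
  rw [isCentralizerLarge_iff] at hR
  obtain ⟨h1, h2⟩ := cd_centralizer R _ hR cdm_le_max
  obtain ⟨h3, -, -, -, -⟩ := cd_key R (centralizer (R : Set G)) _ hR h1 cdm_le_max
  -- T = R ⊔ C(R)
  have hC : centralizer ((R ⊔ centralizer (R : Set G) : Subgroup G) : Set G) =
      centralizer (R : Set G) ⊓ R := by
    rw [centralizer_sup, ← h2]
  have hle : centralizer ((R ⊔ centralizer (R : Set G) : Subgroup G) : Set G) ≤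
      R ⊔ centralizer (R : Set G) := by
    rw [hC]; exact inf_le_right.trans le_sup_left
  have h4 : czm (R ⊔ centralizer (R : Set G)) = cdm (R ⊔ centralizer (R : Set G)) := by
    unfold czm cdm
    rw [inf_eq_right.mpr hle]
  rw [← h3, ← h4]
  exact czm_le_max _

theorem maxCentralProduct_eq [Finite G] :
    Cfsg.maxCentralProduct G = Cfsg.maxCentralizerProduct G :=
  le_antisymm maxCentralProduct_le maxCentralizerProduct_le

/-- A centrally large subgroup is measure-largest and contains its centralizer. -/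
theorem isCentrallyLarge_imp [Finite G] {Q : Subgroup G} (hQ : Cfsg.IsCentrallyLarge Q) :
    Cfsg.IsCentralizerLarge Q ∧ centralizer (Q : Set G) = Q ⊓ centralizer (Q : Set G) := by
  rw [isCentrallyLarge_iff, maxCentralProduct_eq] at hQ
  have h1 := czm_le_cdm Q
  have h2 := cdm_le_max Q
  have h3 : cdm Q = Cfsg.maxCentralizerProduct G := by omega
  refine ⟨h3, ?_⟩
  have h4 : czm Q = cdm Q := by omega
  unfold czm cdm at h4
  have h5 := Nat.eq_of_mul_eq_mul_left (Nat.card_pos (α := Q)) h4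
  symm
  exact Subgroup.eq_of_le_of_card_ge inf_le_right h5.symm.le

theorem isCentrallyLarge_iff_le [Finite G] {Q : Subgroup G} (hQ : Cfsg.IsCentralizerLarge Q) :
    Cfsg.IsCentrallyLarge Q ↔ centralizer (Q : Set G) ≤ Q := by
  constructor
  · intro h
    have := (isCentrallyLarge_imp h).2
    rw [this]; exact inf_le_left
  · intro h
    rw [isCentrallyLarge_iff, maxCentralProduct_eq, ← (isCentralizerLarge_iff Q).mp hQ]
    unfold czm cdm
    rw [inf_eq_right.mpr h]

theorem isCentrallyLarge_sup [Finite G] {Q R : Subgroup G} (hQ : Cfsg.IsCentrallyLarge Q)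
    (hR : Cfsg.IsCentrallyLarge R) :
    ((Q ⊔ R : Subgroup G) : Set G) = (Q : Set G) * (R : Set G) ∧ Cfsg.IsCentrallyLarge (Q ⊔ R) := by
  obtain ⟨hQ1, hQ2⟩ := isCentrallyLarge_imp hQ
  obtain ⟨hR1, -⟩ := isCentrallyLarge_imp hR
  obtain ⟨h1, -, h3, -, -⟩ := cd_key Q R _ hQ1 hR1 cdm_le_max
  refine ⟨h3, ?_⟩
  rw [isCentrallyLarge_iff_le h1, centralizer_sup]
  have : centralizer (Q : Set G) ≤ Q := by rw [hQ2]; exact inf_le_left
  exact inf_le_left.trans (this.trans le_sup_left)

theorem isCentrallyLarge_sSup [Finite G] (𝒮 : Set (Subgroup G)) (hne : 𝒮.Nonempty)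
    (h : ∀ R ∈ 𝒮, Cfsg.IsCentrallyLarge R) : Cfsg.IsCentrallyLarge (sSup 𝒮) := by
  classical
  have hfin : 𝒮.Finite := Set.toFinite 𝒮
  have hne' : hfin.toFinset.Nonempty := by
    obtain ⟨R, hR⟩ := hne
    exact ⟨R, by simpa using hR⟩
  have hS : sSup 𝒮 = hfin.toFinset.sup' hne' id := by
    rw [Finset.sup'_eq_sup, Finset.sup_id_eq_sSup]
    simp
  rw [hS]
  apply Finset.sup'_induction hne' id (p := fun R : Subgroup G => Cfsg.IsCentrallyLarge R)
  · intro a ha b hb
    exact (isCentrallyLarge_sup ha hb).2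
  · intro b hb
    exact h b (by simpa using hb)

theorem exists_isMinimalCentrallyLarge [Finite G] :
    ∃ R : Subgroup G, Cfsg.IsMinimalCentrallyLarge R := by
  have : Nonempty {R : Subgroup G // Cfsg.IsCentrallyLarge R} := by
    obtain ⟨R, hR⟩ := exists_isCentrallyLarge (G := G)
    exact ⟨⟨R, hR⟩⟩
  obtain ⟨R₀, hR₀⟩ := Finite.exists_min (fun R : {R : Subgroup G // Cfsg.IsCentrallyLarge R} => Nat.card R.1)
  refine ⟨R₀.1, R₀.2, ?_⟩
  intro R' hle hR'
  exact Subgroup.eq_of_le_of_card_ge hle (hR₀ ⟨R', hR'⟩)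

/-- every centrally large subgroup contains a minimal one -/
theorem exists_isMinimalCentrallyLarge_le [Finite G] {Q : Subgroup G} (hQ : Cfsg.IsCentrallyLarge Q) :
    ∃ R : Subgroup G, Cfsg.IsMinimalCentrallyLarge R ∧ R ≤ Q := by
  have : Nonempty {R : Subgroup G // Cfsg.IsCentrallyLarge R ∧ R ≤ Q} := ⟨⟨Q, hQ, le_rfl⟩⟩
  obtain ⟨R₀, hR₀⟩ := Finite.exists_min
    (fun R : {R : Subgroup G // Cfsg.IsCentrallyLarge R ∧ R ≤ Q} => Nat.card R.1)
  refine ⟨R₀.1, ⟨R₀.2.1, ?_⟩, R₀.2.2⟩
  intro R' hle hR'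
  exact Subgroup.eq_of_le_of_card_ge hle (hR₀ ⟨R', hR', hle.trans R₀.2.2⟩)

theorem isCentrallyLarge_centrallyLargeJoin [Finite G] :
    Cfsg.IsCentrallyLarge (Cfsg.centrallyLargeJoin G) :=
  isCentrallyLarge_sSup _ exists_isCentrallyLarge (fun _ h => h)

theorem isCentrallyLarge_minimalCentrallyLargeJoin [Finite G] :
    Cfsg.IsCentrallyLarge (Cfsg.minimalCentrallyLargeJoin G) :=
  isCentrallyLarge_sSup _ exists_isMinimalCentrallyLarge (fun _ h => h.1)

end Cfsg.Agent.Lib.Helper5_CD
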