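import Mathlib
import Cfsg.Prelude.Def_LieRecognition
import Cfsg.Agent.Lib.Helper5_Sylow

set_option autoImplicit false

/-!
helper5: the rank-one set-up (doubly transitive groups with a normal subgroup of the point
stabiliser regular on the remaining points).
-/

namespace Cfsg.Agent.Lib.Helper5_RankOne

open MulAction Subgroup Cfsg

variable {G Ω : Type*} [Group G] [MulAction G Ω] {a : Ω} {t : G} {Q : Subgroup G}

section Generic

variable {H : Type*} [Group H]

/-- an element of an odd order subgroup whose square is trivial is trivial -/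
theorem eq_one_of_sq_of_odd {D : Subgroup H} (hodd : Odd (Nat.card D)) {d : H} (hd : d ∈ D)
    (h2 : d * d = 1) : d = 1 := by
  have h1 : orderOf d ∣ 2 := orderOf_dvd_of_pow_eq_one (by rw [pow_two]; exact h2)
  have h3 : orderOf d ∣ Nat.card D := by
    have := orderOf_dvd_natCard (⟨d, hd⟩ : D)
    rwa [← Subgroup.orderOf_coe] at this
  have h4 : orderOf d ∣ Nat.gcd 2 (Nat.card D) := Nat.dvd_gcd h1 h3
  have h5 : Nat.gcd 2 (Nat.card D) = 1 := (Odd.coprime_two_left hodd)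
  rw [h5, Nat.dvd_one, orderOf_eq_one_iff] at h4
  exact h4

/-- two involutions whose product has odd order are swapped by an involution of the form
`(u v)^m u` -/
theorem exists_invol_swap {u v : H} (hu : u * u = 1) (hv : v * v = 1)
    (hodd : Odd (orderOf (u * v))) :
    ∃ m : ℕ, ((u * v) ^ m * u) * ((u * v) ^ m * u) = 1 ∧
      ((u * v) ^ m * u) * u * ((u * v) ^ m * u) = v := by
  obtain ⟨m, hm⟩ := hodd
  refine ⟨m, ?_, ?_⟩
  · have huinv : u⁻¹ = u := inv_eq_of_mul_eq_one_left hu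
    have hvinv : v⁻¹ = v := inv_eq_of_mul_eq_one_left hv
    have h1 : u * (u * v) * u⁻¹ = (u * v)⁻¹ := by
      rw [mul_inv_rev, huinv, hvinv, ← mul_assoc, hu, one_mul]
    have h2 : u * (u * v) ^ m * u⁻¹ = ((u * v) ^ m)⁻¹ := by
      rw [← conj_pow, h1, inv_pow]
    rw [huinv] at h2
    calc (u * v) ^ m * u * ((u * v) ^ m * u) = (u * v) ^ m * (u * (u * v) ^ m * u) := by group
      _ = 1 := by rw [h2, mul_inv_cancel]
  · have huinv : u⁻¹ = u := inv_eq_of_mul_eq_one_left hu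
    have hvinv : v⁻¹ = v := inv_eq_of_mul_eq_one_left hv
    have h3 : (u * v) ^ (2 * m + 1) = 1 := by rw [← hm]; exact pow_orderOf_eq_one _
    have h4 : (u * v) ^ m * (u * v) ^ m = (u * v)⁻¹ := by
      rw [← pow_add, ← two_mul]
      rw [pow_succ] at h3
      exact eq_inv_of_mul_eq_one_left h3
    calc (u * v) ^ m * u * u * ((u * v) ^ m * u) = (u * v) ^ m * (u * u) * (u * v) ^ m * u := by
          group
      _ = ((u * v) ^ m * (u * v) ^ m) * u := by rw [hu, mul_one]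
      _ = v := by rw [h4, mul_inv_rev, huinv, hvinv, mul_assoc, hu, mul_one]

/-- an element inverted by an element of odd order is an involution or trivial -/
theorem eq_inv_of_odd_inverts {k x : H} (hodd : Odd (orderOf k)) (h : k * x * k⁻¹ = x⁻¹) :
    x = x⁻¹ := by
  obtain ⟨j, hj⟩ := hodd
  have h2 : (k * k) * x = x * (k * k) := by
    have h' : k * x⁻¹ * k⁻¹ = x := by
      have := congrArg (fun y => y⁻¹) h
      simp only [mul_inv_rev, inv_inv] at this
      rw [← mul_assoc] at this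
      exact this
    have : (k * k) * x * (k * k)⁻¹ = x := by
      calc (k * k) * x * (k * k)⁻¹ = k * (k * x * k⁻¹) * k⁻¹ := by group
        _ = x := by rw [h, h']
    calc (k * k) * x = ((k * k) * x * (k * k)⁻¹) * (k * k) := by group
      _ = x * (k * k) := by rw [this]
  have h3 : Commute ((k * k) ^ j) x := (show Commute (k * k) x from h2).pow_left j
  have h4 : (k * k) ^ j * k = 1 := by
    have : (k * k) ^ j * k = k ^ (2 * j + 1) := by
      rw [← pow_two, ← pow_mul, pow_succ]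
    rw [this, ← hj]; exact pow_orderOf_eq_one k
  have h5 : ((k * k) ^ j * k) * x * ((k * k) ^ j * k)⁻¹ = x⁻¹ := by
    calc ((k * k) ^ j * k) * x * ((k * k) ^ j * k)⁻¹
        = (k * k) ^ j * (k * x * k⁻¹) * ((k * k) ^ j)⁻¹ := by group
      _ = (k * k) ^ j * x⁻¹ * ((k * k) ^ j)⁻¹ := by rw [h]
      _ = x⁻¹ := by rw [(h3.inv_right).eq]; group
  rw [h4] at h5
  simpa using h5

end Generic

namespace RO

theorem tt_smul (hS : IsRankOneSetup G Ω a t Q) (c : Ω) : t • (t • c) = c := by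
  rw [← mul_smul, hS.mul_self, one_smul]

theorem t_inv (hS : IsRankOneSetup G Ω a t Q) : t⁻¹ = t :=
  inv_eq_of_mul_eq_one_left hS.mul_self

theorem b_ne (hS : IsRankOneSetup G Ω a t Q) : t • a ≠ a := fun h => hS.not_mem (mem_stabilizer_iff.mpr h)

theorem two_trans (hS : IsRankOneSetup G Ω a t Q) {b c d e : Ω} (h1 : b ≠ c) (h2 : d ≠ e) :
    ∃ g : G, g • b = d ∧ g • c = e :=
  (MulAction.is_two_pretransitive_iff.mp hS.two_transitive) h1 h2

theorem trans (hS : IsRankOneSetup G Ω a t Q) (c d : Ω) : ∃ g : G, g • c = d := by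
  by_cases h : c = d
  · exact ⟨1, by rw [one_smul, h]⟩
  · obtain ⟨g, hg, -⟩ := two_trans hS h (Ne.symm h)
    exact ⟨g, hg⟩

/-- `G_a = Q D` elementwise -/
theorem decomp (hS : IsRankOneSetup G Ω a t Q) {g : G} (hg : g ∈ stabilizer G a) :
    ∃ q ∈ Q, ∃ d ∈ stabilizer G a ⊓ stabilizer G (t • a), g = q * d := by
  let M : Subgroup G :=
    { carrier := {g | ∃ q ∈ Q, ∃ d ∈ stabilizer G a ⊓ stabilizer G (t • a), g = q * d}
      one_mem' := ⟨1, one_mem _, 1, one_mem _, by simp⟩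
      mul_mem' := by
        rintro _ _ ⟨q, hq, d, hd, rfl⟩ ⟨q', hq', d', hd', rfl⟩
        refine ⟨q * (d * q' * d⁻¹), mul_mem hq (hS.conj_mem d (mem_inf.mp hd).1 q' hq'), d * d',
          mul_mem hd hd', by group⟩
      inv_mem' := by
        rintro _ ⟨q, hq, d, hd, rfl⟩
        refine ⟨d⁻¹ * q⁻¹ * d⁻¹⁻¹, hS.conj_mem d⁻¹ (inv_mem (mem_inf.mp hd).1) q⁻¹ (inv_mem hq),
          d⁻¹, inv_mem hd, by group⟩ }
  have h1 : Q ⊔ (stabilizer G a ⊓ stabilizer G (t • a)) ≤ M := by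
    apply sup_le
    · intro q hq; exact ⟨q, hq, 1, one_mem _, by simp⟩
    · intro d hd; exact ⟨1, one_mem _, d, hd, by simp⟩
  rw [hS.sup_eq] at h1
  exact h1 hg

/-- `Q` is transitive on the points other than `a` -/
theorem exists_q (hS : IsRankOneSetup G Ω a t Q) {c : Ω} (hc : c ≠ a) :
    ∃ q ∈ Q, q • (t • a) = c := by
  obtain ⟨g, hga, hgb⟩ := two_trans hS (b_ne hS).symm hc.symm
  obtain ⟨q, hq, d, hd, rfl⟩ := decomp hS (mem_stabilizer_iff.mpr hga)
  refine ⟨q, hq, ?_⟩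
  rw [mul_smul, mem_stabilizer_iff.mp (mem_inf.mp hd).2] at hgb
  exact hgb

/-- `Q` acts freely on the points other than `a` -/
theorem free (hS : IsRankOneSetup G Ω a t Q) {q : G} (hq : q ∈ Q) {c : Ω} (hc : c ≠ a)
    (hqc : q • c = c) : q = 1 := by
  obtain ⟨r, hr, rfl⟩ := exists_q hS hc
  have h1 : (r⁻¹ * q * r) • (t • a) = t • a := by
    rw [mul_smul, mul_smul, hqc, ← mul_smul, inv_mul_cancel, one_smul]
  have h2 : r⁻¹ * q * r ∈ Q ⊓ stabilizer G (t • a) := by
    refine mem_inf.mpr ⟨?_, mem_stabilizer_iff.mpr h1⟩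
    have := hS.conj_mem r⁻¹ (hS.le (inv_mem hr)) q hq
    simpa using this
  rw [hS.inf_eq_bot, mem_bot] at h2
  have : q = r * (r⁻¹ * q * r) * r⁻¹ := by group
  rw [this, h2]; group

theorem smul_mem (hS : IsRankOneSetup G Ω a t Q) {q : G} (hq : q ∈ Q) : q • a = a :=
  mem_stabilizer_iff.mp (hS.le hq)

/-- a non-identity element of `Q` fixes only `a` -/
theorem fix_eq (hS : IsRankOneSetup G Ω a t Q) {q : G} (hq : q ∈ Q) (hq1 : q ≠ 1) {c : Ω}
    (hqc : q • c = c) : c = a := by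
  by_contra hc
  exact hq1 (free hS hq hc hqc)

/-- regularity of `Q` on the points other than `a` -/
theorem regular (hS : IsRankOneSetup G Ω a t Q) {b c : Ω} (hb : b ≠ a) (hc : c ≠ a) :
    ∃! x : Q, (x : G) • b = c := by
  obtain ⟨q, hq, rfl⟩ := exists_q hS hb
  obtain ⟨r, hr, rfl⟩ := exists_q hS hc
  refine ⟨⟨r * q⁻¹, mul_mem hr (inv_mem hq)⟩, ?_, ?_⟩
  · show (r * q⁻¹) • (q • (t • a)) = r • (t • a)
    rw [mul_smul, ← mul_smul q⁻¹, inv_mul_cancel, one_smul]
  · rintro ⟨x, hx⟩ hxe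
    have hxe' : x • (q • (t • a)) = r • (t • a) := hxe
    apply Subtype.ext
    show x = r * q⁻¹
    have h1 : (r⁻¹ * x * q) • (t • a) = t • a := by
      rw [mul_smul, mul_smul, hxe', ← mul_smul, inv_mul_cancel, one_smul]
    have h2 := free hS (mul_mem (mul_mem (inv_mem hr) hx) hq) (b_ne hS) h1
    have : x = r * (r⁻¹ * x * q) * q⁻¹ := by group
    rw [this, h2]; group

theorem exists_ne_one (hS : IsRankOneSetup G Ω a t Q) [Finite G] : ∃ s ∈ Q, s ≠ 1 ∧ s * s = 1 := by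
  haveI : Fact (Nat.Prime 2) := ⟨Nat.prime_two⟩
  obtain ⟨s, hs⟩ := exists_prime_orderOf_dvd_card' (G := Q) 2 (even_iff_two_dvd.mp hS.even_card)
  refine ⟨s, s.2, ?_, ?_⟩
  · intro h1
    have : s = 1 := Subtype.ext h1
    rw [this, orderOf_one] at hs
    omega
  · have := pow_orderOf_eq_one s
    rw [hs, pow_two] at this
    exact congrArg Subtype.val this

theorem pretransitive (hS : IsRankOneSetup G Ω a t Q) : IsPretransitive G Ω :=
  ⟨fun c d => trans hS c d⟩

theorem finite_Omega (hS : IsRankOneSetup G Ω a t Q) [Finite G] : Finite Ω := by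
  apply Finite.of_surjective (fun g : G => g • a)
  intro c
  exact trans hS a c

/-- `|G_a| = |Q| |D|` -/
theorem card_Ga (hS : IsRankOneSetup G Ω a t Q) :
    Nat.card (stabilizer G a) =
      Nat.card Q * Nat.card ↥(stabilizer G a ⊓ stabilizer G (t • a)) := by
  rw [← Nat.card_prod]
  symm
  apply Nat.card_congr
  refine Equiv.ofBijective (fun p : Q × ↥(stabilizer G a ⊓ stabilizer G (t • a)) =>
    (⟨(p.1 : G) * (p.2 : G), mul_mem (hS.le p.1.2) (mem_inf.mp p.2.2).1⟩ : stabilizer G a)) ⟨?_, ?_⟩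
  · rintro ⟨⟨q, hq⟩, ⟨d, hd⟩⟩ ⟨⟨q', hq'⟩, ⟨d', hd'⟩⟩ he
    have he' : q * d = q' * d' := congrArg Subtype.val he
    have h1 : q'⁻¹ * q = d' * d⁻¹ := by
      have : q'⁻¹ * q = q'⁻¹ * (q * d) * d⁻¹ := by group
      rw [this, he']; group
    have h2 : q'⁻¹ * q ∈ Q ⊓ stabilizer G (t • a) := by
      refine mem_inf.mpr ⟨mul_mem (inv_mem hq') hq, ?_⟩
      rw [h1]
      exact mul_mem (mem_inf.mp hd').2 (inv_mem (mem_inf.mp hd).2)
    rw [hS.inf_eq_bot, mem_bot] at h2
    have hqq : q = q' := by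
      have : q = q' * (q'⁻¹ * q) := by group
      rw [this, h2, mul_one]
    subst hqq
    have hdd : d = d' := mul_left_cancel he'
    subst hdd
    rfl
  · rintro ⟨g, hg⟩
    obtain ⟨q, hq, d, hd, rfl⟩ := decomp hS hg
    exact ⟨⟨⟨q, hq⟩, ⟨d, hd⟩⟩, rfl⟩

/-- `|Ω| = |Q| + 1` -/
theorem card_Omega (hS : IsRankOneSetup G Ω a t Q) [Finite G] : Nat.card Ω = Nat.card Q + 1 := by
  classical
  haveI := finite_Omega hS
  rw [← Nat.card_congr (Equiv.optionSubtypeNe a), Finite.card_option]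
  congr 1
  symm
  apply Nat.card_congr
  refine Equiv.ofBijective (fun q : Q => (⟨(q : G) • (t • a), ?_⟩ : {c // c ≠ a})) ⟨?_, ?_⟩
  · intro h
    have h1 : (q : G)⁻¹ • ((q : G) • (t • a)) = (q : G)⁻¹ • a := by rw [h]
    rw [← mul_smul, inv_mul_cancel, one_smul, smul_mem hS (inv_mem q.2)] at h1
    exact b_ne hS h1
  · intro q r he
    have he' : (q : G) • (t • a) = (r : G) • (t • a) := congrArg Subtype.val he
    obtain ⟨x, -, hx⟩ := regular hS (b_ne hS) (show (r : G) • (t • a) ≠ a from by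
      intro h
      have h1 : (r : G)⁻¹ • ((r : G) • (t • a)) = (r : G)⁻¹ • a := by rw [h]
      rw [← mul_smul, inv_mul_cancel, one_smul, smul_mem hS (inv_mem r.2)] at h1
      exact b_ne hS h1)
    rw [hx q he', hx r rfl]
  · rintro ⟨c, hc⟩
    obtain ⟨q, hq, rfl⟩ := exists_q hS hc
    exact ⟨⟨q, hq⟩, rfl⟩

/-- `|G| = |Q| |D| (|Q| + 1)` -/
theorem card_G (hS : IsRankOneSetup G Ω a t Q) [Finite G] :
    Nat.card G = Nat.card Q * Nat.card ↥(stabilizer G a ⊓ stabilizer G (t • a)) *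
      (Nat.card Q + 1) := by
  haveI := pretransitive hS
  rw [← card_Omega hS, ← card_Ga hS, ← index_stabilizer_of_transitive G a,
    Subgroup.card_mul_index]

/-- some Sylow 2-subgroup of `G` lies in `Q` -/
theorem exists_sylow_le (hS : IsRankOneSetup G Ω a t Q) [Finite G] :
    ∃ P : Sylow 2 G, (P : Subgroup G) ≤ Q := by
  haveI : Fact (Nat.Prime 2) := ⟨Nat.prime_two⟩
  let P₀ : Sylow 2 Q := default
  have h1 : Nat.card ((P₀ : Subgroup Q).map Q.subtype) = 2 ^ (Nat.card G).factorization 2 := by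
    rw [Subgroup.card_map_of_injective Q.subtype_injective, P₀.card_eq_multiplicity, card_G hS]
    have hQ0 : Nat.card Q ≠ 0 := Nat.card_pos.ne'
    have hD0 : Nat.card ↥(stabilizer G a ⊓ stabilizer G (t • a)) ≠ 0 := Nat.card_pos.ne'
    rw [Nat.factorization_mul (mul_ne_zero hQ0 hD0) (by omega), Nat.factorization_mul hQ0 hD0]
    have h2 : (Nat.card ↥(stabilizer G a ⊓ stabilizer G (t • a))).factorization 2 = 0 := by
      apply Nat.factorization_eq_zero_of_not_dvd
      rw [← even_iff_two_dvd, Nat.not_even_iff_odd]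
      exact hS.odd_card
    have h3 : (Nat.card Q + 1).factorization 2 = 0 := by
      apply Nat.factorization_eq_zero_of_not_dvd
      rw [← even_iff_two_dvd, Nat.not_even_iff_odd]
      exact hS.even_card.add_one
    rw [Finsupp.add_apply, Finsupp.add_apply, h2, h3, add_zero, add_zero]
  refine ⟨Sylow.ofCard _ h1, ?_⟩
  rw [Sylow.coe_ofCard]
  exact Subgroup.map_subtype_le _

/-- the canonical form `g = x t y` of the elements outside `G_a` -/
theorem canonical (hS : IsRankOneSetup G Ω a t Q) {g : G} (hg : g ∉ stabilizer G a) :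
    ∃! p : G × G, p.1 ∈ stabilizer G a ∧ p.2 ∈ Q ∧ g = p.1 * t * p.2 := by
  have hc : g⁻¹ • a ≠ a := by
    intro h
    apply hg
    rw [mem_stabilizer_iff]
    have := congrArg (fun c => g • c) h
    simp only [← mul_smul, mul_inv_cancel, one_smul] at this
    exact this.symm
  obtain ⟨y', hy', hy'b⟩ := exists_q hS hc
  refine ⟨(g * y' * t, y'⁻¹), ⟨?_, inv_mem hy', ?_⟩, ?_⟩
  · rw [mem_stabilizer_iff, mul_smul, mul_smul, hy'b, ← mul_smul, mul_inv_cancel, one_smul]
  · show g = g * y' * t * t * y'⁻¹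
    rw [mul_assoc (g * y'), hS.mul_self, mul_one, mul_assoc, mul_inv_cancel, mul_one]
  · rintro ⟨x₁, y₁⟩ ⟨hx₁, hy₁, hg₁⟩
    simp only at hx₁ hy₁ hg₁
    have h1 : g⁻¹ • a = y₁⁻¹ • (t • a) := by
      rw [hg₁, mul_inv_rev, mul_inv_rev, mul_smul, mul_smul, mem_stabilizer_iff.mp (inv_mem hx₁),
        t_inv hS]
    have h2 : (y₁ * y') • (t • a) = t • a := by
      rw [mul_smul, hy'b, h1, ← mul_smul, mul_inv_cancel, one_smul]
    have h3 := free hS (mul_mem hy₁ hy') (b_ne hS) h2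
    have hy : y₁ = y'⁻¹ := eq_inv_of_mul_eq_one_left h3
    subst hy
    have hx : x₁ = g * y' * t := by
      have e : g * y' * t = (x₁ * t * y'⁻¹) * y' * t := by rw [← hg₁]
      rw [e]
      have : x₁ * t * y'⁻¹ * y' * t = x₁ * (t * t) := by group
      rw [this, hS.mul_self, mul_one]
    rw [hx]

/-- the involutions of `G_a` lie in `Q` -/
theorem invol_mem_Q (hS : IsRankOneSetup G Ω a t Q) {s : G} (hs : s ∈ stabilizer G a)
    (h2 : s * s = 1) : s ∈ Q := by
  obtain ⟨q, hq, d, hd, rfl⟩ := decomp hS hs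
  have hdG := (mem_inf.mp hd).1
  have h1 : d * d = (q * (d * q * d⁻¹))⁻¹ := by
    have : q * d * (q * d) = (q * (d * q * d⁻¹)) * (d * d) := by group
    rw [this] at h2
    exact eq_inv_of_mul_eq_one_right h2
  have h3 : d * d ∈ Q ⊓ stabilizer G (t • a) := by
    refine mem_inf.mpr ⟨?_, mul_mem (mem_inf.mp hd).2 (mem_inf.mp hd).2⟩
    rw [h1]
    exact inv_mem (mul_mem hq (hS.conj_mem d hdG q hq))
  rw [hS.inf_eq_bot, mem_bot] at h3
  have h4 := eq_one_of_sq_of_odd hS.odd_card hd h3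
  rw [h4, mul_one]
  exact hq

/-- a non-identity involution fixing `a` fixes nothing else -/
theorem invol_fix_eq (hS : IsRankOneSetup G Ω a t Q) {s : G} (hs : s ∈ stabilizer G a)
    (hs1 : s ≠ 1) (h2 : s * s = 1) {c : Ω} (hc : s • c = c) : c = a :=
  fix_eq hS (invol_mem_Q hS hs h2) hs1 hc

/-- every involution fixes exactly one point -/
theorem invol_fix (hS : IsRankOneSetup G Ω a t Q) [Finite G] {w : G} (hw1 : w ≠ 1)
    (hw2 : w * w = 1) : ∃ c : Ω, w • c = c ∧ ∀ c' : Ω, w • c' = c' → c' = c := by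
  haveI : Fact (Nat.Prime 2) := ⟨Nat.prime_two⟩
  obtain ⟨P, hP⟩ := exists_sylow_le hS
  have hz : IsPGroup 2 (zpowers w) := by
    apply IsPGroup.of_card (n := 1)
    rw [Nat.card_zpowers, pow_one]
    exact orderOf_eq_prime (by rw [pow_two]; exact hw2) hw1
  obtain ⟨g, hg⟩ := Cfsg.Agent.Lib.Helper5_Sylow.exists_conj_le_sylow hz P
  have h1 : g * w * g⁻¹ ∈ Q := hP (hg ⟨w, mem_zpowers w, rfl⟩)
  have h2 : g * w * g⁻¹ ≠ 1 := by
    intro h
    apply hw1
    have : w = g⁻¹ * (g * w * g⁻¹) * g := by group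
    rw [this, h]; group
  refine ⟨g⁻¹ • a, ?_, ?_⟩
  · have := smul_mem hS h1
    calc w • g⁻¹ • a = (g⁻¹ * (g * w * g⁻¹)) • a := by rw [← mul_smul]; congr 1; group
      _ = g⁻¹ • a := by rw [mul_smul, this]
  · intro c' hc'
    have h3 : (g * w * g⁻¹) • (g • c') = g • c' := by
      rw [mul_smul, mul_smul, ← mul_smul g⁻¹, inv_mul_cancel, one_smul, hc']
    have h4 := fix_eq hS h1 h2 h3
    rw [← h4, ← mul_smul, inv_mul_cancel, one_smul]

/-- the product of an involution fixing `a` and an involution moving `a` has odd order -/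
theorem odd_order_mul (hS : IsRankOneSetup G Ω a t Q) [Finite G] {s u : G}
    (hs : s ∈ stabilizer G a) (hs1 : s ≠ 1) (hs2 : s * s = 1) (hu : u ∉ stabilizer G a)
    (hu2 : u * u = 1) : Odd (orderOf (s * u)) := by
  rw [← Nat.not_even_iff_odd]
  rintro ⟨m, hm⟩
  have hpos : 0 < orderOf (s * u) := orderOf_pos _
  have hsinv : s⁻¹ = s := inv_eq_of_mul_eq_one_left hs2
  have huinv : u⁻¹ = u := inv_eq_of_mul_eq_one_left hu2
  set w := (s * u) ^ m with hw
  have hw2 : w * w = 1 := by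
    rw [hw, ← pow_add, ← hm]; exact pow_orderOf_eq_one _
  have hw1 : w ≠ 1 := by
    intro h
    have := orderOf_dvd_of_pow_eq_one h
    have := Nat.le_of_dvd (by omega) this
    omega
  have hwinv : w⁻¹ = w := inv_eq_of_mul_eq_one_left hw2
  have hsw : s * w * s⁻¹ = w := by
    have h1 : s * (s * u) * s⁻¹ = (s * u)⁻¹ := by
      rw [mul_inv_rev, hsinv, huinv, ← mul_assoc, hs2, one_mul]
    rw [hw, ← conj_pow, h1, inv_pow, ← hw, hwinv]
  have huw : u * w * u⁻¹ = w := by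
    have h1 : u * (s * u) * u⁻¹ = (s * u)⁻¹ := by
      rw [mul_inv_rev, hsinv, huinv, mul_assoc, mul_assoc, hu2, mul_one]
    rw [hw, ← conj_pow, h1, inv_pow, ← hw, hwinv]
  obtain ⟨c, hc, hcu⟩ := invol_fix hS hw1 hw2
  have h1 : w • (s • c) = s • c := by
    have : w * s = s * w := by
      have : s * w = (s * w * s⁻¹) * s := by group
      rw [this, hsw]
    rw [← mul_smul, this, mul_smul, hc]
  have h2 : w • (u • c) = u • c := by
    have : w * u = u * w := by
      have : u * w = (u * w * u⁻¹) * u := by group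
      rw [this, huw]
    rw [← mul_smul, this, mul_smul, hc]
  have h3 := hcu _ h1
  have h4 := hcu _ h2
  have h5 := invol_fix_eq hS hs hs1 hs2 h3
  apply hu
  rw [mem_stabilizer_iff, ← h5]
  exact h4

/-- two involutions, one fixing a point which the other moves, have a product of odd order -/
theorem odd_order_mul' (hS : IsRankOneSetup G Ω a t Q) [Finite G] {s u : G} {c : Ω}
    (hs : s • c = c) (hs1 : s ≠ 1) (hs2 : s * s = 1) (hu : u • c ≠ c)
    (hu2 : u * u = 1) : Odd (orderOf (s * u)) := by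
  obtain ⟨g, hg⟩ := trans hS c a
  have h1 : g * s * g⁻¹ ∈ stabilizer G a := by
    rw [mem_stabilizer_iff, ← hg, mul_smul, mul_smul, ← mul_smul g⁻¹, inv_mul_cancel, one_smul, hs]
  have h2 : g * s * g⁻¹ ≠ 1 := by
    intro h
    apply hs1
    have : s = g⁻¹ * (g * s * g⁻¹) * g := by group
    rw [this, h]; group
  have h3 : (g * s * g⁻¹) * (g * s * g⁻¹) = 1 := by
    have : (g * s * g⁻¹) * (g * s * g⁻¹) = g * (s * s) * g⁻¹ := by group
    rw [this, hs2]; group
  have h4 : g * u * g⁻¹ ∉ stabilizer G a := by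
    rw [mem_stabilizer_iff, ← hg, mul_smul, mul_smul, ← mul_smul g⁻¹, inv_mul_cancel, one_smul]
    intro h
    apply hu
    have := congrArg (fun d => g⁻¹ • d) h
    simpa [← mul_smul] using this
  have h5 : (g * u * g⁻¹) * (g * u * g⁻¹) = 1 := by
    have : (g * u * g⁻¹) * (g * u * g⁻¹) = g * (u * u) * g⁻¹ := by group
    rw [this, hu2]; group
  have h6 := odd_order_mul hS h1 h2 h3 h4 h5
  have h7 : g * s * g⁻¹ * (g * u * g⁻¹) = g * (s * u) * g⁻¹ := by group
  have h8 : orderOf (g * (s * u) * g⁻¹) = orderOf (s * u) := (MulAut.conj g).orderOf_eq (s * u)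
  rw [h7, h8] at h6
  exact h6

/-- any two involutions are conjugate -/
theorem invol_conj (hS : IsRankOneSetup G Ω a t Q) [Finite G] {u v : G} (hu1 : u ≠ 1)
    (hu2 : u * u = 1) (hv1 : v ≠ 1) (hv2 : v * v = 1) : ∃ g : G, g * u * g⁻¹ = v := by
  -- involutions with different fixed points are conjugate
  have key : ∀ u v : G, u ≠ 1 → u * u = 1 → v * v = 1 → (∃ c : Ω, u • c = c ∧ v • c ≠ c) →
      ∃ g : G, g * u * g⁻¹ = v := by
    rintro u v hu1 hu2 hv2 ⟨c, huc, hvc⟩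
    have hodd := odd_order_mul' hS huc hu1 hu2 hvc hv2
    obtain ⟨m, hm2, hm⟩ := exists_invol_swap hu2 hv2 hodd
    refine ⟨(u * v) ^ m * u, ?_⟩
    rw [inv_eq_of_mul_eq_one_left hm2]
    exact hm
  obtain ⟨c, hc, hcu⟩ := invol_fix hS hu1 hu2
  by_cases hvc : v • c = c
  · -- same fixed point: go through a third involution
    obtain ⟨h, hh⟩ : ∃ h : G, h • c ≠ c := by
      by_cases hca : c = a
      · exact ⟨t, by rw [hca]; exact b_ne hS⟩
      · obtain ⟨h, hh⟩ := trans hS c a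
        exact ⟨h, by rw [hh]; exact Ne.symm hca⟩
    have hz1 : h * u * h⁻¹ ≠ 1 := by
      intro he
      apply hu1
      have : u = h⁻¹ * (h * u * h⁻¹) * h := by group
      rw [this, he]; group
    have hz2 : (h * u * h⁻¹) * (h * u * h⁻¹) = 1 := by
      have : (h * u * h⁻¹) * (h * u * h⁻¹) = h * (u * u) * h⁻¹ := by group
      rw [this, hu2]; group
    have hzc : (h * u * h⁻¹) • c ≠ c := by
      intro he
      have h1 : u • (h⁻¹ • c) = h⁻¹ • c := by
        calc u • h⁻¹ • c = (h⁻¹ * (h * u * h⁻¹)) • c := by rw [← mul_smul]; congr 1; group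
          _ = h⁻¹ • c := by rw [mul_smul, he]
      have h2 := hcu _ h1
      apply hh
      have := congrArg (fun d => h • d) h2
      simp only [← mul_smul, mul_inv_cancel, one_smul] at this
      exact this.symm
    obtain ⟨g, hg⟩ := key v (h * u * h⁻¹) hv1 hv2 hz2 ⟨c, hvc, hzc⟩
    refine ⟨g⁻¹ * h, ?_⟩
    have : g⁻¹ * h * u * (g⁻¹ * h)⁻¹ = g⁻¹ * (h * u * h⁻¹) * g := by group
    rw [this, ← hg]; group
  · exact key u v hu1 hu2 hv2 ⟨c, hc, hvc⟩

/-- an element fixing two distinct points has odd order -/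
theorem two_point_odd (hS : IsRankOneSetup G Ω a t Q) [Finite G] {g : G} {c₁ c₂ : Ω}
    (hc : c₁ ≠ c₂) (h1 : g • c₁ = c₁) (h2 : g • c₂ = c₂) : Odd (orderOf g) := by
  obtain ⟨h, hh1, hh2⟩ := two_trans hS hc (b_ne hS).symm
  have h3 : h * g * h⁻¹ ∈ stabilizer G a ⊓ stabilizer G (t • a) := by
    refine mem_inf.mpr ⟨?_, ?_⟩
    · rw [mem_stabilizer_iff, ← hh1, mul_smul, mul_smul, ← mul_smul h⁻¹, inv_mul_cancel, one_smul,
        h1]
    · rw [mem_stabilizer_iff, ← hh2, mul_smul, mul_smul, ← mul_smul h⁻¹, inv_mul_cancel, one_smul,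
        h2]
  have h4 : orderOf (h * g * h⁻¹) = orderOf g := (MulAut.conj h).orderOf_eq g
  have h5 : orderOf (h * g * h⁻¹) ∣ Nat.card ↥(stabilizer G a ⊓ stabilizer G (t • a)) := by
    have := orderOf_dvd_natCard (⟨_, h3⟩ : ↥(stabilizer G a ⊓ stabilizer G (t • a)))
    rwa [← Subgroup.orderOf_coe] at this
  rw [h4] at h5
  exact hS.odd_card.of_dvd_nat h5

/-- an element with trivial square fixing two distinct points is trivial -/
theorem two_point_sq (hS : IsRankOneSetup G Ω a t Q) [Finite G] {g : G} {c₁ c₂ : Ω}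
    (hc : c₁ ≠ c₂) (h1 : g • c₁ = c₁) (h2 : g • c₂ = c₂) (hg : g * g = 1) : g = 1 := by
  have hodd := two_point_odd hS hc h1 h2
  have h3 : orderOf g ∣ 2 := orderOf_dvd_of_pow_eq_one (by rw [pow_two]; exact hg)
  rcases (Nat.dvd_prime Nat.prime_two).mp h3 with h4 | h4
  · exact orderOf_eq_one_iff.mp h4
  · rw [h4] at hodd; exact absurd hodd (by decide)

/-- two involutions with distinct fixed points are swapped by a unique involution -/
theorem swap (hS : IsRankOneSetup G Ω a t Q) [Finite G] {s₁ s₂ : G} {c₁ c₂ : Ω}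
    (h1 : s₁ • c₁ = c₁) (h11 : s₁ ≠ 1) (h12 : s₁ * s₁ = 1) (h2 : s₂ • c₂ = c₂) (h21 : s₂ ≠ 1)
    (h22 : s₂ * s₂ = 1) (hc : c₁ ≠ c₂) :
    ∃ u : G, (u * u = 1 ∧ u * s₁ * u = s₂) ∧
      ∀ u' : G, u' * u' = 1 → u' * s₁ * u' = s₂ → u' = u := by
  have hfix : ∀ {w : G} {c : Ω}, w ≠ 1 → w * w = 1 → w • c = c → ∀ c', w • c' = c' → c' = c := by
    intro w c hw1 hw2 hwc c' hc'
    obtain ⟨d, -, hd⟩ := invol_fix hS hw1 hw2
    rw [hd c' hc', hd c hwc]
  have h3 : s₂ • c₁ ≠ c₁ := fun h => hc (hfix h21 h22 h2 c₁ h)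
  have hodd := odd_order_mul' hS h1 h11 h12 h3 h22
  obtain ⟨m, hm2, hm⟩ := exists_invol_swap h12 h22 hodd
  set w := (s₁ * s₂) ^ m * s₁ with hw
  refine ⟨w, ⟨hm2, hm⟩, ?_⟩
  intro u' hu'2 hu'
  have hwinv : w⁻¹ = w := inv_eq_of_mul_eq_one_left hm2
  have hu'inv : u'⁻¹ = u' := inv_eq_of_mul_eq_one_left hu'2
  have hm' : w * s₂ * w = s₁ := by
    rw [← hm]
    calc w * (w * s₁ * w) * w = (w * w) * s₁ * (w * w) := by group
      _ = s₁ := by rw [hm2, one_mul, mul_one]
  have hu'' : u' * s₂ * u' = s₁ := by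
    rw [← hu']
    calc u' * (u' * s₁ * u') * u' = (u' * u') * s₁ * (u' * u') := by group
      _ = s₁ := by rw [hu'2, one_mul, mul_one]
  set g := u' * w with hg
  have hg1 : g * s₁ = s₁ * g := by
    have : g * s₁ * g⁻¹ = s₁ := by
      rw [hg, mul_inv_rev, hwinv, hu'inv]
      calc u' * w * s₁ * (w * u') = u' * (w * s₁ * w) * u' := by group
        _ = s₁ := by rw [hm, hu'']
    calc g * s₁ = (g * s₁ * g⁻¹) * g := by group
      _ = s₁ * g := by rw [this]
  have hg2 : g * s₂ = s₂ * g := by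
    have : g * s₂ * g⁻¹ = s₂ := by
      rw [hg, mul_inv_rev, hwinv, hu'inv]
      calc u' * w * s₂ * (w * u') = u' * (w * s₂ * w) * u' := by group
        _ = s₂ := by rw [hm', hu']
    calc g * s₂ = (g * s₂ * g⁻¹) * g := by group
      _ = s₂ * g := by rw [this]
  have hgw : g * w = w * g := by
    have h4 : Commute g (s₁ * s₂) := (show Commute g s₁ from hg1).mul_right hg2
    have h5 : Commute g w := (h4.pow_right m).mul_right hg1
    exact h5
  have hgg : g * g = 1 := by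
    have e : u' = g * w := by
      rw [hg, mul_assoc, hm2, mul_one]
    have : u' * u' = g * g := by
      calc u' * u' = g * w * (g * w) := by rw [← e]
        _ = g * (w * g) * w := by group
        _ = g * (g * w) * w := by rw [hgw]
        _ = g * g * (w * w) := by group
        _ = g * g := by rw [hm2, mul_one]
    rw [← this]; exact hu'2
  have hgc1 : g • c₁ = c₁ := by
    apply hfix h11 h12 h1
    rw [← mul_smul, ← hg1, mul_smul, h1]
  have hgc2 : g • c₂ = c₂ := by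
    apply hfix h21 h22 h2
    rw [← mul_smul, ← hg2, mul_smul, h2]
  have h6 := two_point_sq hS hc hgc1 hgc2 hgg
  have : u' = g * w := by rw [hg, mul_assoc, hm2, mul_one]
  rw [this, h6, one_mul]

/-- `t k` is an involution for `k` inverted by `t` -/
theorem tk_sq (hS : IsRankOneSetup G Ω a t Q) {k : G} (hk : t * k * t⁻¹ = k⁻¹) :
    (t * k) * (t * k) = 1 := by
  rw [t_inv hS] at hk
  calc t * k * (t * k) = (t * k * t) * k := by group
    _ = 1 := by rw [hk, inv_mul_cancel]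

theorem tst_smul (hS : IsRankOneSetup G Ω a t Q) {s : G} (hs : s ∈ stabilizer G a) :
    (t * s * t) • (t • a) = t • a := by
  rw [mul_smul, mul_smul, tt_smul hS, mem_stabilizer_iff.mp hs]

theorem tst_ne_one (hS : IsRankOneSetup G Ω a t Q) {s : G} (hs1 : s ≠ 1) : t * s * t ≠ 1 := by
  intro h
  apply hs1
  have : s = t * (t * s * t) * t := by
    calc s = (t * t) * s * (t * t) := by rw [hS.mul_self, one_mul, mul_one]
      _ = _ := by group
  rw [this, h, mul_one, hS.mul_self]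

theorem tst_sq (hS : IsRankOneSetup G Ω a t Q) {s : G} (hs2 : s * s = 1) :
    (t * s * t) * (t * s * t) = 1 := by
  calc t * s * t * (t * s * t) = t * s * (t * t) * s * t := by group
    _ = t * (s * s) * t := by rw [hS.mul_self]; group
    _ = 1 := by rw [hs2, mul_one, hS.mul_self]

/-- conjugation by the elements of `D` inverted by `t` maps a given involution of `G_a` onto all
involutions of `G_a` -/
theorem K_surj (hS : IsRankOneSetup G Ω a t Q) [Finite G] {s s' : G}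
    (hs : s ∈ involutionsIn (stabilizer G a : Set G))
    (hs' : s' ∈ involutionsIn (stabilizer G a : Set G)) :
    ∃ k ∈ invertedBy (stabilizer G a ⊓ stabilizer G (t • a)) t, k⁻¹ * s * k = s' := by
  obtain ⟨hsa, hs1, hs2⟩ := hs
  obtain ⟨hs'a, hs'1, hs'2⟩ := hs'
  obtain ⟨u, ⟨hu2, hu⟩, -⟩ := swap hS (tst_smul hS hsa) (tst_ne_one hS hs1) (tst_sq hS hs2)
    (mem_stabilizer_iff.mp hs'a) hs'1 hs'2 (b_ne hS)
  have huinv : u⁻¹ = u := inv_eq_of_mul_eq_one_left hu2
  have hub : u • (t • a) = a := by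
    apply invol_fix_eq hS hs'a hs'1 hs'2
    rw [← hu, mul_smul, mul_smul, ← mul_smul u u, hu2, one_smul, tst_smul hS hsa]
  have hua : u • a = t • a := by
    rw [← hub, ← mul_smul, hu2, one_smul, hub]
  refine ⟨t * u, ⟨mem_inf.mpr ⟨?_, ?_⟩, ?_⟩, ?_⟩
  · rw [mem_stabilizer_iff, mul_smul, hua, tt_smul hS]
  · rw [mem_stabilizer_iff, mul_smul, hub]
  · rw [mul_inv_rev, huinv, t_inv hS]
    calc t * (t * u) * t = (t * t) * u * t := by group
      _ = u * t := by rw [hS.mul_self, one_mul]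
  · rw [mul_inv_rev, huinv, t_inv hS, ← hu]; group

theorem K_inj (hS : IsRankOneSetup G Ω a t Q) [Finite G] {s : G}
    (hs : s ∈ involutionsIn (stabilizer G a : Set G)) {k k' : G}
    (hk : k ∈ invertedBy (stabilizer G a ⊓ stabilizer G (t • a)) t)
    (hk' : k' ∈ invertedBy (stabilizer G a ⊓ stabilizer G (t • a)) t)
    (he : k⁻¹ * s * k = k'⁻¹ * s * k') : k = k' := by
  obtain ⟨hsa, hs1, hs2⟩ := hs
  obtain ⟨hkD, hkt⟩ := hk
  obtain ⟨hk'D, hk't⟩ := hk'
  have hkG := (mem_inf.mp hkD).1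
  have hs'a : k⁻¹ * s * k ∈ stabilizer G a := mul_mem (mul_mem (inv_mem hkG) hsa) hkG
  have hs'1 : k⁻¹ * s * k ≠ 1 := by
    intro h
    apply hs1
    have : s = k * (k⁻¹ * s * k) * k⁻¹ := by group
    rw [this, h]; group
  have hs'2 : (k⁻¹ * s * k) * (k⁻¹ * s * k) = 1 := by
    have : (k⁻¹ * s * k) * (k⁻¹ * s * k) = k⁻¹ * (s * s) * k := by group
    rw [this, hs2]; group
  obtain ⟨u, -, huniq⟩ := swap hS (tst_smul hS hsa) (tst_ne_one hS hs1) (tst_sq hS hs2)
    (mem_stabilizer_iff.mp hs'a) hs'1 hs'2 (b_ne hS)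
  have key : ∀ k₁ : G, t * k₁ * t⁻¹ = k₁⁻¹ → (t * k₁) * (t * s * t) * (t * k₁) = k₁⁻¹ * s * k₁ := by
    intro k₁ hk₁
    rw [← hk₁, t_inv hS]
    calc t * k₁ * (t * s * t) * (t * k₁) = t * k₁ * t * s * (t * t) * k₁ := by group
      _ = t * k₁ * t * s * k₁ := by rw [hS.mul_self, mul_one]
  have h1 := huniq (t * k) (tk_sq hS hkt) (key k hkt)
  have h2 := huniq (t * k') (tk_sq hS hk't) (by rw [key k' hk't, ← he])
  exact mul_left_cancel (h1.trans h2.symm)

/-- the unique pair `(s, r)` with `t s t = r⁻¹ t r` -/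
theorem sr_unique (hS : IsRankOneSetup G Ω a t Q) [Finite G] :
    ∃! p : G × G, p.1 ∈ involutionsIn (stabilizer G a : Set G) ∧ p.2 ∈ Q ∧
      t * p.1 * t = p.2⁻¹ * t * p.2 := by
  obtain ⟨c₀, hc₀, hc₀u⟩ := invol_fix hS hS.ne_one hS.mul_self
  have hc₀a : c₀ ≠ a := by
    intro h
    rw [h] at hc₀
    exact b_ne hS hc₀
  obtain ⟨r, hr, hrb⟩ := exists_q hS hc₀a
  have hrinv : r⁻¹ • c₀ = t • a := by
    rw [← hrb, ← mul_smul, inv_mul_cancel, one_smul]
  have httg : ∀ g : G, t * (t * g) = g := fun g => by rw [← mul_assoc, hS.mul_self, one_mul]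
  refine ⟨(t * r⁻¹ * t * r * t, r), ⟨⟨?_, ?_, ?_⟩, hr, ?_⟩, ?_⟩
  · show t * r⁻¹ * t * r * t ∈ stabilizer G a
    rw [mem_stabilizer_iff]
    simp only [mul_smul]
    rw [hrb, hc₀, hrinv, tt_smul hS]
  · show t * r⁻¹ * t * r * t ≠ 1
    intro h
    apply hS.ne_one
    have h2 : r⁻¹ * t * r = 1 := by
      have : r⁻¹ * t * r = t * (t * r⁻¹ * t * r * t) * t := by
        simp only [mul_assoc, httg, hS.mul_self, mul_one]
      rw [this, h, mul_one, hS.mul_self]
    have : t = r * (r⁻¹ * t * r) * r⁻¹ := by group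
    rw [this, h2]; group
  · show (t * r⁻¹ * t * r * t) * (t * r⁻¹ * t * r * t) = 1
    simp only [mul_assoc, httg, hS.mul_self, mul_one, mul_inv_cancel_left, inv_mul_cancel_left]
  · show t * (t * r⁻¹ * t * r * t) * t = r⁻¹ * t * r
    simp only [mul_assoc, httg, hS.mul_self, mul_one]
  · rintro ⟨s', r'⟩ ⟨⟨hs'a, hs'1, hs'2⟩, hr', he⟩
    simp only at hs'a hs'1 hs'2 hr' he
    have h1 : (r'⁻¹ * t * r') • (r'⁻¹ • c₀) = r'⁻¹ • c₀ := by
      rw [mul_smul, mul_smul, ← mul_smul r', mul_inv_cancel, one_smul, hc₀]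
    rw [← he] at h1
    obtain ⟨d, -, hd⟩ := invol_fix hS (tst_ne_one hS hs'1) (tst_sq hS hs'2)
    have h2 : r'⁻¹ • c₀ = t • a := by
      rw [hd _ h1, hd _ (tst_smul hS hs'a)]
    have h3 : (r' * r⁻¹) • c₀ = c₀ := by
      rw [mul_smul, hrinv, ← h2, ← mul_smul, mul_inv_cancel, one_smul]
    have h4 := free hS (mul_mem hr' (inv_mem hr)) hc₀a h3
    have hrr : r' = r := by
      have : r' = (r' * r⁻¹) * r := by group
      rw [this, h4, one_mul]
    subst hrr
    have hs' : s' = t * r'⁻¹ * t * r' * t := by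
      have : s' = t * (t * s' * t) * t := by
        simp only [mul_assoc, httg, hS.mul_self, mul_one]
      rw [this, he]; group
    rw [hs']

/-! ### Subsets of `D` with at least three fixed points -/

/-- an element of `D` fixing `q • b` commutes with `q ∈ Q` -/
theorem comm_of_fix (hS : IsRankOneSetup G Ω a t Q) {q x : G} (hq : q ∈ Q)
    (hx : x ∈ stabilizer G a ⊓ stabilizer G (t • a)) (hfix : x • (q • (t • a)) = q • (t • a)) :
    x * q = q * x := by
  have hxa := (mem_inf.mp hx).1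
  have hxb := mem_stabilizer_iff.mp (mem_inf.mp hx).2
  have h1 : (q⁻¹ * (x * q * x⁻¹)) • (t • a) = t • a := by
    have hxinv : x⁻¹ • (t • a) = t • a :=
      mem_stabilizer_iff.mp (inv_mem (mem_inf.mp hx).2)
    simp only [mul_smul]
    rw [hxinv, hfix, ← mul_smul, inv_mul_cancel, one_smul]
  have h2 := free hS (mul_mem (inv_mem hq) (hS.conj_mem x hxa q hq)) (b_ne hS) h1
  have h3 : x * q * x⁻¹ = q := by
    have : x * q * x⁻¹ = q * (q⁻¹ * (x * q * x⁻¹)) := by group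
    rw [this, h2, mul_one]
  calc x * q = (x * q * x⁻¹) * x := by group
    _ = q * x := by rw [h3]

theorem t_mem_D (hS : IsRankOneSetup G Ω a t Q) {x : G}
    (hx : x ∈ stabilizer G a ⊓ stabilizer G (t • a)) :
    t * x * t ∈ stabilizer G a ⊓ stabilizer G (t • a) := by
  have hxa := mem_stabilizer_iff.mp (mem_inf.mp hx).1
  have hxb := mem_stabilizer_iff.mp (mem_inf.mp hx).2
  refine mem_inf.mpr ⟨?_, ?_⟩
  · rw [mem_stabilizer_iff, mul_smul, mul_smul, hxb, tt_smul hS]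
  · rw [mem_stabilizer_iff, mul_smul, mul_smul, tt_smul hS, hxa]

/-- an element of `D` fixing `(t q t) • a` commutes with `t q t` -/
theorem comm_of_fix' (hS : IsRankOneSetup G Ω a t Q) {q x : G} (hq : q ∈ Q)
    (hx : x ∈ stabilizer G a ⊓ stabilizer G (t • a)) (hfix : x • ((t * q * t) • a) = (t * q * t) • a) :
    x * (t * q * t) = (t * q * t) * x := by
  have httg : ∀ g : G, t * (t * g) = g := fun g => by rw [← mul_assoc, hS.mul_self, one_mul]
  have h1 : (t * x * t) • (q • (t • a)) = q • (t • a) := by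
    have e : (t * q * t) • a = t • (q • (t • a)) := by simp only [mul_smul]
    rw [e] at hfix
    rw [mul_smul, mul_smul, hfix, tt_smul hS]
  have h2 := comm_of_fix hS hq (t_mem_D hS hx) h1
  calc x * (t * q * t) = t * ((t * x * t) * q) * t := by
        simp only [mul_assoc, httg]
    _ = t * (q * (t * x * t)) * t := by rw [h2]
    _ = (t * q * t) * x := by simp only [mul_assoc, httg, hS.mul_self, mul_one]

section Three

variable (hS : IsRankOneSetup G Ω a t Q) {X : Set G}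
  (hX : X ⊆ ((stabilizer G a ⊓ stabilizer G (t • a) : Subgroup G) : Set G))

include hS hX

/-- `C_Q(X)` is transitive on the fixed points of `X` other than `a` -/
theorem exists_cent_Q {c : Ω} (hc : c ≠ a) (hfix : ∀ x ∈ X, x • c = c) :
    ∃ q ∈ centralizer X ⊓ Q, q • (t • a) = c := by
  obtain ⟨q, hq, rfl⟩ := exists_q hS hc
  refine ⟨q, mem_inf.mpr ⟨?_, hq⟩, rfl⟩
  rw [mem_centralizer_iff]
  intro x hx
  exact comm_of_fix hS hq (hX hx) (hfix x hx)

/-- `C_{Q^t}(X)` is transitive on the fixed points of `X` other than `b` -/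
theorem exists_cent_Q' {c : Ω} (hc : c ≠ t • a) (hfix : ∀ x ∈ X, x • c = c) :
    ∃ g ∈ centralizer X, g • a = c ∧ g • (t • a) = t • a := by
  have htc : t • c ≠ a := by
    intro h
    apply hc
    rw [← h, tt_smul hS]
  obtain ⟨q, hq, hqb⟩ := exists_q hS htc
  have e : (t * q * t) • a = c := by
    simp only [mul_smul]
    rw [hqb, tt_smul hS]
  refine ⟨t * q * t, ?_, e, ?_⟩
  · rw [mem_centralizer_iff]
    intro x hx
    exact comm_of_fix' hS hq (hX hx) (by rw [e]; exact hfix x hx)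
  · simp only [mul_smul]
    rw [tt_smul hS, smul_mem hS hq]

omit hS hX in
theorem cent_smul_fix {g : G} (hg : g ∈ centralizer X) {c : Ω} (hfix : ∀ x ∈ X, x • c = c) :
    ∀ x ∈ X, x • (g • c) = g • c := by
  intro x hx
  rw [← mul_smul, mem_centralizer_iff.mp hg x hx, mul_smul, hfix x hx]

/-- `C_G(X)` is transitive on the fixed points of `X` -/
theorem exists_cent_to_a
    (h3 : ∃ b c d : Ω, b ≠ c ∧ b ≠ d ∧ c ≠ d ∧ ∀ x ∈ X, x • b = b ∧ x • c = c ∧ x • d = d)
    {c : Ω} (hfix : ∀ x ∈ X, x • c = c) : ∃ g ∈ centralizer X, g • c = a := by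
  by_cases hca : c = a
  · exact ⟨1, one_mem _, by rw [one_smul, hca]⟩
  by_cases hcb : c = t • a
  · -- a third fixed point
    obtain ⟨d, hda, hdb, hd⟩ : ∃ d : Ω, d ≠ a ∧ d ≠ t • a ∧ ∀ x ∈ X, x • d = d := by
      obtain ⟨p₁, p₂, p₃, h12, h13, h23, hp⟩ := h3
      by_cases h1 : p₁ ≠ a ∧ p₁ ≠ t • a
      · exact ⟨p₁, h1.1, h1.2, fun x hx => (hp x hx).1⟩
      by_cases h2 : p₂ ≠ a ∧ p₂ ≠ t • a
      · exact ⟨p₂, h2.1, h2.2, fun x hx => (hp x hx).2.1⟩
      refine ⟨p₃, ?_, ?_, fun x hx => (hp x hx).2.2⟩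
      · intro h
        rw [not_and_or, not_not, not_not] at h1 h2
        rcases h1 with h1 | h1 <;> rcases h2 with h2 | h2
        · exact h12 (h1.trans h2.symm)
        · exact h13 (h1.trans h.symm)
        · exact h23 (h2.trans h.symm)
        · exact h12 (h1.trans h2.symm)
      · intro h
        rw [not_and_or, not_not, not_not] at h1 h2
        rcases h1 with h1 | h1 <;> rcases h2 with h2 | h2
        · exact h12 (h1.trans h2.symm)
        · exact h23 (h2.trans h.symm)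
        · exact h13 (h1.trans h.symm)
        · exact h12 (h1.trans h2.symm)
    obtain ⟨q, hq, hqd⟩ := exists_cent_Q hS hX hda hd
    obtain ⟨g, hg, hga, -⟩ := exists_cent_Q' hS hX hdb hd
    refine ⟨g⁻¹ * q, mul_mem (inv_mem hg) (mem_inf.mp hq).1, ?_⟩
    rw [hcb, mul_smul, hqd, ← hga, ← mul_smul, inv_mul_cancel, one_smul]
  · obtain ⟨g, hg, hga, -⟩ := exists_cent_Q' hS hX hcb hfix
    refine ⟨g⁻¹, inv_mem hg, ?_⟩
    rw [← hga, ← mul_smul, inv_mul_cancel, one_smul]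

/-- `C_G(X)` is doubly transitive on the fixed points of `X` -/
theorem cent_two_trans
    (h3 : ∃ b c d : Ω, b ≠ c ∧ b ≠ d ∧ c ≠ d ∧ ∀ x ∈ X, x • b = b ∧ x • c = c ∧ x • d = d)
    {b₁ b₂ c₁ c₂ : Ω} (hb₁ : ∀ x ∈ X, x • b₁ = b₁) (hb₂ : ∀ x ∈ X, x • b₂ = b₂)
    (hc₁ : ∀ x ∈ X, x • c₁ = c₁) (hc₂ : ∀ x ∈ X, x • c₂ = c₂) (hb : b₁ ≠ b₂) (hc : c₁ ≠ c₂) :
    ∃ g ∈ centralizer X, g • b₁ = c₁ ∧ g • b₂ = c₂ := by
  obtain ⟨g₁, hg₁, hg₁b⟩ := exists_cent_to_a hS hX h3 hb₁
  obtain ⟨g₂, hg₂, hg₂c⟩ := exists_cent_to_a hS hX h3 hc₁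
  have h1 : g₁ • b₂ ≠ a := by
    intro h
    apply hb
    have := congrArg (fun c => g₁⁻¹ • c) (hg₁b.trans h.symm)
    simpa [← mul_smul] using this
  have h2 : g₂ • c₂ ≠ a := by
    intro h
    apply hc
    have := congrArg (fun c => g₂⁻¹ • c) (hg₂c.trans h.symm)
    simpa [← mul_smul] using this
  obtain ⟨q₁, hq₁, hq₁b⟩ := exists_cent_Q hS hX h1 (cent_smul_fix hg₁ hb₂)
  obtain ⟨q₂, hq₂, hq₂b⟩ := exists_cent_Q hS hX h2 (cent_smul_fix hg₂ hc₂)
  have hq₁a := smul_mem hS (mem_inf.mp hq₁).2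
  have hq₂a := smul_mem hS (mem_inf.mp hq₂).2
  refine ⟨g₂⁻¹ * (q₂ * q₁⁻¹) * g₁, mul_mem (mul_mem (inv_mem hg₂)
    (mul_mem (mem_inf.mp hq₂).1 (inv_mem (mem_inf.mp hq₁).1))) hg₁, ?_, ?_⟩
  · have hq₁inv : q₁⁻¹ • a = a := smul_mem hS (inv_mem (mem_inf.mp hq₁).2)
    simp only [mul_smul]
    rw [hg₁b, hq₁inv, hq₂a, ← hg₂c, ← mul_smul, inv_mul_cancel, one_smul]
  · simp only [mul_smul]
    rw [← hq₁b, ← mul_smul q₁⁻¹, inv_mul_cancel, one_smul, hq₂b, ← mul_smul, inv_mul_cancel,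
      one_smul]

end Three

section Three2

variable (hS : IsRankOneSetup G Ω a t Q) [Finite G] {X : Set G}
  (hX : X ⊆ ((stabilizer G a ⊓ stabilizer G (t • a) : Subgroup G) : Set G))

include hS hX

omit [Finite G] in
theorem fix_a_b : ∀ x ∈ X, x • a = a ∧ x • (t • a) = t • a := fun x hx =>
  ⟨mem_stabilizer_iff.mp (mem_inf.mp (hX hx)).1, mem_stabilizer_iff.mp (mem_inf.mp (hX hx)).2⟩

/-- an involution of `C_G(X)` interchanging `a` and `b` -/
theorem exists_cent_invol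
    (h3 : ∃ b c d : Ω, b ≠ c ∧ b ≠ d ∧ c ≠ d ∧ ∀ x ∈ X, x • b = b ∧ x • c = c ∧ x • d = d) :
    ∃ w ∈ centralizer X, w * w = 1 ∧ w • a = t • a ∧ w • (t • a) = a := by
  have hfa : ∀ x ∈ X, x • a = a := fun x hx => (fix_a_b hS hX x hx).1
  have hfb : ∀ x ∈ X, x • (t • a) = t • a := fun x hx => (fix_a_b hS hX x hx).2
  obtain ⟨g, hg, hga, hgb⟩ := cent_two_trans hS hX h3 hfa hfb hfb hfa (b_ne hS).symm (b_ne hS)
  have hgg_a : (g * g) • a = a := by rw [mul_smul, hga, hgb]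
  have hgg_b : (g * g) • (t • a) = t • a := by rw [mul_smul, hgb, hga]
  obtain ⟨j, hj⟩ := two_point_odd hS (b_ne hS).symm hgg_a hgg_b
  have hpow : ∀ i : ℕ, ((g * g) ^ i) • a = a ∧ ((g * g) ^ i) • (t • a) = t • a := by
    intro i
    induction i with
    | zero => simp
    | succ i ih =>
      rw [pow_succ]
      constructor
      · rw [mul_smul ((g * g) ^ i), hgg_a]; exact ih.1
      · rw [mul_smul ((g * g) ^ i), hgg_b]; exact ih.2
  refine ⟨(g * g) ^ j * g, mul_mem (pow_mem (mul_mem hg hg) j) hg, ?_, ?_, ?_⟩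
  · have hc : Commute ((g * g) ^ j) g := ((Commute.refl g).mul_left (Commute.refl g)).pow_left j
    have : (g * g) ^ j * g * ((g * g) ^ j * g) = (g * g) ^ (2 * j + 1) := by
      rw [pow_succ, two_mul, pow_add]
      calc (g * g) ^ j * g * ((g * g) ^ j * g) = (g * g) ^ j * (g * (g * g) ^ j) * g := by group
        _ = (g * g) ^ j * ((g * g) ^ j * g) * g := by rw [hc.eq]
        _ = _ := by group
    rw [this, ← hj]; exact pow_orderOf_eq_one _
  · rw [mul_smul, hga]; exact (hpow j).2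
  · rw [mul_smul, hgb]; exact (hpow j).1

/-- `|C_Q(X)|` is even -/
theorem even_card_cent_Q
    (h3 : ∃ b c d : Ω, b ≠ c ∧ b ≠ d ∧ c ≠ d ∧ ∀ x ∈ X, x • b = b ∧ x • c = c ∧ x • d = d) :
    Even (Nat.card ↥(centralizer X ⊓ Q)) := by
  obtain ⟨w, hwC, hw2, hwa, -⟩ := exists_cent_invol hS hX h3
  have hw1 : w ≠ 1 := by
    intro h
    rw [h, one_smul] at hwa
    exact b_ne hS hwa.symm
  obtain ⟨c, hc, hcu⟩ := invol_fix hS hw1 hw2
  have hfc : ∀ x ∈ X, x • c = c := by
    intro x hx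
    apply hcu
    rw [← mul_smul, ← mem_centralizer_iff.mp hwC x hx, mul_smul, hc]
  obtain ⟨m, hm, hmc⟩ := exists_cent_to_a hS hX h3 hfc
  have h1 : m * w * m⁻¹ ∈ stabilizer G a := by
    rw [mem_stabilizer_iff, ← hmc, mul_smul, mul_smul, ← mul_smul m⁻¹, inv_mul_cancel, one_smul,
      hc]
  have h2 : (m * w * m⁻¹) * (m * w * m⁻¹) = 1 := by
    have : (m * w * m⁻¹) * (m * w * m⁻¹) = m * (w * w) * m⁻¹ := by group
    rw [this, hw2]; group
  have h4 : m * w * m⁻¹ ≠ 1 := by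
    intro h
    apply hw1
    have : w = m⁻¹ * (m * w * m⁻¹) * m := by group
    rw [this, h]; group
  have h5 : m * w * m⁻¹ ∈ centralizer X ⊓ Q :=
    mem_inf.mpr ⟨mul_mem (mul_mem hm hwC) (inv_mem hm), invol_mem_Q hS h1 h2⟩
  have h6 : orderOf (⟨m * w * m⁻¹, h5⟩ : ↥(centralizer X ⊓ Q)) = 2 := by
    haveI : Fact (Nat.Prime 2) := ⟨Nat.prime_two⟩
    apply orderOf_eq_prime
    · apply Subtype.ext
      rw [pow_two]
      exact h2
    · intro h
      exact h4 (congrArg Subtype.val h)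
  rw [even_iff_two_dvd, ← h6]
  exact orderOf_dvd_natCard _

omit [Finite G] in
/-- `C_{G_a}(X) = C_Q(X) C_D(X)` -/
theorem cent_Ga_eq :
    (centralizer X ⊓ Q) ⊔ (centralizer X ⊓ (stabilizer G a ⊓ stabilizer G (t • a))) =
      centralizer X ⊓ stabilizer G a := by
  apply le_antisymm
  · apply sup_le
    · exact inf_le_inf_left _ hS.le
    · exact inf_le_inf_left _ inf_le_left
  · intro g hg
    obtain ⟨hgC, hga⟩ := mem_inf.mp hg
    have hga' := mem_stabilizer_iff.mp hga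
    have hgb : g • (t • a) ≠ a := by
      intro h
      have h' : g • (t • a) = g • a := h.trans hga'.symm
      exact b_ne hS (MulAction.injective g h')
    obtain ⟨q, hq, hqb⟩ := exists_cent_Q hS hX hgb
      (cent_smul_fix hgC (fun x hx => (fix_a_b hS hX x hx).2))
    have h1 : q⁻¹ * g ∈ centralizer X ⊓ (stabilizer G a ⊓ stabilizer G (t • a)) := by
      refine mem_inf.mpr ⟨mul_mem (inv_mem (mem_inf.mp hq).1) hgC, mem_inf.mpr ⟨?_, ?_⟩⟩
      · exact mul_mem (inv_mem (hS.le (mem_inf.mp hq).2)) hga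
      · rw [mem_stabilizer_iff, mul_smul, ← hqb, ← mul_smul, inv_mul_cancel, one_smul]
    have : g = q * (q⁻¹ * g) := by group
    rw [this]
    exact Subgroup.mul_mem_sup hq h1

end Three2

theorem odd_order_D (hS : IsRankOneSetup G Ω a t Q) {k : G}
    (hk : k ∈ stabilizer G a ⊓ stabilizer G (t • a)) : Odd (orderOf k) := by
  have h5 : orderOf k ∣ Nat.card ↥(stabilizer G a ⊓ stabilizer G (t • a)) := by
    have := orderOf_dvd_natCard (⟨_, hk⟩ : ↥(stabilizer G a ⊓ stabilizer G (t • a)))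
    rwa [← Subgroup.orderOf_coe] at this
  exact hS.odd_card.of_dvd_nat h5

/-- an element of `D` inverted by `t` has a square root in `D` inverted by `t` -/
theorem exists_sqrt_inverted (hS : IsRankOneSetup G Ω a t Q) {k₀ : G}
    (hk : k₀ ∈ stabilizer G a ⊓ stabilizer G (t • a)) (hinv : t * k₀ * t⁻¹ = k₀⁻¹) :
    ∃ r ∈ stabilizer G a ⊓ stabilizer G (t • a), t * r * t⁻¹ = r⁻¹ ∧ r * r = k₀ := by
  obtain ⟨j, hj⟩ := odd_order_D hS hk
  refine ⟨k₀ ^ (j + 1), pow_mem hk _, ?_, ?_⟩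
  · rw [← conj_pow, hinv, inv_pow]
  · rw [← pow_add]
    have : j + 1 + (j + 1) = (2 * j + 1) + 1 := by ring
    rw [this, pow_succ, ← hj, pow_orderOf_eq_one, one_mul]

/-- an involution `w` interchanging `a` and `b` is `r⁻¹ t r` for some `r ∈ D` -/
theorem exists_conj_t (hS : IsRankOneSetup G Ω a t Q) {w : G} (hw2 : w * w = 1)
    (hwa : w • a = t • a) (hwb : w • (t • a) = a) :
    ∃ r ∈ stabilizer G a ⊓ stabilizer G (t • a), r⁻¹ * t * r = w := by
  have httg : ∀ g : G, t * (t * g) = g := fun g => by rw [← mul_assoc, hS.mul_self, one_mul]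
  have hwinv : w⁻¹ = w := inv_eq_of_mul_eq_one_left hw2
  have hk : t * w ∈ stabilizer G a ⊓ stabilizer G (t • a) := by
    refine mem_inf.mpr ⟨?_, ?_⟩
    · rw [mem_stabilizer_iff, mul_smul, hwa, tt_smul hS]
    · rw [mem_stabilizer_iff, mul_smul, hwb]
  have hinv : t * (t * w) * t⁻¹ = (t * w)⁻¹ := by
    rw [mul_inv_rev, hwinv, t_inv hS, httg]
  obtain ⟨r, hrD, hrinv, hrr⟩ := exists_sqrt_inverted hS hk hinv
  refine ⟨r, hrD, ?_⟩
  have h1 : r⁻¹ * t = t * r := by
    rw [← hrinv, t_inv hS]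
    simp only [mul_assoc, hS.mul_self, mul_one]
  rw [h1, mul_assoc, hrr, httg]

theorem tw_mem_D (hS : IsRankOneSetup G Ω a t Q) {w : G}
    (hwa : w • a = t • a) (hwb : w • (t • a) = a) :
    t * w ∈ stabilizer G a ⊓ stabilizer G (t • a) := by
  refine mem_inf.mpr ⟨?_, ?_⟩
  · rw [mem_stabilizer_iff, mul_smul, hwa, tt_smul hS]
  · rw [mem_stabilizer_iff, mul_smul, hwb]

/-- non-identity elements of `D` inverted by `t` act fixed-point-freely on `Q` -/
theorem inverted_fpf (hS : IsRankOneSetup G Ω a t Q) [Finite G] {x : G}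
    (hx : x ∈ invertedBy (stabilizer G a ⊓ stabilizer G (t • a)) t) (hx1 : x ≠ 1) :
    Q ⊓ centralizer {x} = ⊥ := by
  rw [eq_bot_iff]
  intro q hq
  rw [mem_bot]
  by_contra hq1
  obtain ⟨hqQ, hqC⟩ := mem_inf.mp hq
  obtain ⟨hxD, hxt⟩ := hx
  have hqx : x * q = q * x := mem_centralizer_iff.mp hqC x rfl
  have hX : ({x} : Set G) ⊆ ((stabilizer G a ⊓ stabilizer G (t • a) : Subgroup G) : Set G) := by
    intro y hy
    rw [Set.mem_singleton_iff] at hy
    rw [hy]; exact hxD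
  have hxa := mem_stabilizer_iff.mp (mem_inf.mp hxD).1
  have hxb := mem_stabilizer_iff.mp (mem_inf.mp hxD).2
  have h3 : ∃ b c d : Ω, b ≠ c ∧ b ≠ d ∧ c ≠ d ∧
      ∀ y ∈ ({x} : Set G), y • b = b ∧ y • c = c ∧ y • d = d := by
    refine ⟨a, t • a, q • (t • a), (b_ne hS).symm, ?_, ?_, ?_⟩
    · intro h
      have h' : q • a = q • (t • a) := by rw [smul_mem hS hqQ]; exact h
      exact b_ne hS (MulAction.injective q h').symm
    · intro h
      exact hq1 (free hS hqQ (b_ne hS) h.symm)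
    · intro y hy
      rw [Set.mem_singleton_iff] at hy
      rw [hy]
      refine ⟨hxa, hxb, ?_⟩
      rw [← mul_smul, hqx, mul_smul, hxb]
  obtain ⟨w, hwC, hw2, hwa, hwb⟩ := exists_cent_invol hS hX h3
  have hxw : x * w = w * x := mem_centralizer_iff.mp hwC x rfl
  have hkD := tw_mem_D hS hwa hwb
  have httg : ∀ g : G, t * (t * g) = g := fun g => by rw [← mul_assoc, hS.mul_self, one_mul]
  have h1 : (t * w) * x * (t * w)⁻¹ = x⁻¹ := by
    have h2 : t * x = x⁻¹ * t := by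
      rw [← hxt, t_inv hS]
      simp only [mul_assoc, hS.mul_self, mul_one]
    calc (t * w) * x * (t * w)⁻¹ = t * (w * x) * (t * w)⁻¹ := by group
      _ = t * (x * w) * (t * w)⁻¹ := by rw [hxw]
      _ = (t * x) * w * (t * w)⁻¹ := by group
      _ = x⁻¹ * t * w * (t * w)⁻¹ := by rw [h2]
      _ = x⁻¹ := by group
  have h4 := eq_inv_of_odd_inverts (odd_order_D hS hkD) h1
  have h5 : x * x = 1 := by
    nth_rewrite 2 [h4]
    exact mul_inv_cancel x
  exact hx1 (eq_one_of_sq_of_odd hS.odd_card hxD h5)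

/-! ### Centralizers in `D` -/

theorem conj_mem_invol (hS : IsRankOneSetup G Ω a t Q) {s d : G}
    (hs : s ∈ involutionsIn (stabilizer G a : Set G)) (hd : d ∈ stabilizer G a) :
    d * s * d⁻¹ ∈ involutionsIn (stabilizer G a : Set G) := by
  obtain ⟨hsa, hs1, hs2⟩ := hs
  refine ⟨mul_mem (mul_mem hd hsa) (inv_mem hd), ?_, ?_⟩
  · intro h
    apply hs1
    have : s = d⁻¹ * (d * s * d⁻¹) * d := by group
    rw [this, h]; group
  · have : (d * s * d⁻¹) * (d * s * d⁻¹) = d * (s * s) * d⁻¹ := by group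
    rw [this, hs2]; group

/-- `C_D(t) ≤ C_D(s)` for the special involution `s` -/
theorem comm_s_of_comm_t (hS : IsRankOneSetup G Ω a t Q) [Finite G] {s r d : G}
    (hs : s ∈ involutionsIn (stabilizer G a : Set G)) (hr : r ∈ Q)
    (he : t * s * t = r⁻¹ * t * r) (hd : d ∈ stabilizer G a ⊓ stabilizer G (t • a))
    (hdt : t * d = d * t) : s * d = d * s := by
  have hda := (mem_inf.mp hd).1
  have h1 : t * (d * s * d⁻¹) * t = (d * r * d⁻¹)⁻¹ * t * (d * r * d⁻¹) := by
    have hdt' : t * d⁻¹ = d⁻¹ * t := by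
      calc t * d⁻¹ = d⁻¹ * (d * t) * d⁻¹ := by group
        _ = d⁻¹ * (t * d) * d⁻¹ := by rw [hdt]
        _ = d⁻¹ * t := by group
    calc t * (d * s * d⁻¹) * t = (t * d) * s * (d⁻¹ * t) := by group
      _ = (d * t) * s * (t * d⁻¹) := by rw [hdt, hdt']
      _ = d * (t * s * t) * d⁻¹ := by group
      _ = d * (r⁻¹ * t * r) * d⁻¹ := by rw [he]
      _ = (d * r * d⁻¹)⁻¹ * (d * t * d⁻¹) * (d * r * d⁻¹) := by group
      _ = (d * r * d⁻¹)⁻¹ * t * (d * r * d⁻¹) := by
          rw [← hdt]; group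
  have h2 := (sr_unique hS).unique
    (y₁ := (s, r)) (y₂ := (d * s * d⁻¹, d * r * d⁻¹)) ⟨hs, hr, he⟩
    ⟨conj_mem_invol hS hs hda, hS.conj_mem d hda r hr, h1⟩
  have h3 : s = d * s * d⁻¹ := congrArg Prod.fst h2
  calc s * d = (d * s * d⁻¹) * d := by rw [← h3]
    _ = d * s := by group

/-- `D = C_D(s) K` bijectively -/
theorem card_D_eq (hS : IsRankOneSetup G Ω a t Q) [Finite G] {s : G}
    (hs : s ∈ involutionsIn (stabilizer G a : Set G)) :
    Nat.card ↥(stabilizer G a ⊓ stabilizer G (t • a)) =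
      Nat.card ↥((stabilizer G a ⊓ stabilizer G (t • a)) ⊓ centralizer {s}) *
        Nat.card (invertedBy (stabilizer G a ⊓ stabilizer G (t • a)) t) := by
  rw [← Nat.card_prod]
  symm
  apply Nat.card_congr
  refine Equiv.ofBijective (fun p : ↥((stabilizer G a ⊓ stabilizer G (t • a)) ⊓ centralizer {s}) ×
      (invertedBy (stabilizer G a ⊓ stabilizer G (t • a)) t) =>
    (⟨(p.1 : G) * (p.2 : G), mul_mem (mem_inf.mp p.1.2).1 p.2.2.1⟩ :
      ↥(stabilizer G a ⊓ stabilizer G (t • a)))) ⟨?_, ?_⟩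
  · rintro ⟨⟨c, hc⟩, ⟨k, hk⟩⟩ ⟨⟨c', hc'⟩, ⟨k', hk'⟩⟩ he
    have he' : c * k = c' * k' := congrArg Subtype.val he
    have hcs : s * c = c * s := mem_centralizer_iff.mp (mem_inf.mp hc).2 s rfl
    have hc's : s * c' = c' * s := mem_centralizer_iff.mp (mem_inf.mp hc').2 s rfl
    have h1 : ∀ c₁ k₁ : G, s * c₁ = c₁ * s → (c₁ * k₁)⁻¹ * s * (c₁ * k₁) = k₁⁻¹ * s * k₁ := by
      intro c₁ k₁ h
      calc (c₁ * k₁)⁻¹ * s * (c₁ * k₁) = k₁⁻¹ * c₁⁻¹ * (s * c₁) * k₁ := by group
        _ = k₁⁻¹ * c₁⁻¹ * (c₁ * s) * k₁ := by rw [h]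
        _ = k₁⁻¹ * s * k₁ := by group
    have h2 : k⁻¹ * s * k = k'⁻¹ * s * k' := by
      rw [← h1 c k hcs, ← h1 c' k' hc's, he']
    have hkk := K_inj hS hs hk hk' h2
    subst hkk
    have hcc : c = c' := mul_right_cancel he'
    subst hcc
    rfl
  · rintro ⟨d, hd⟩
    have hda := (mem_inf.mp hd).1
    have hs' : d⁻¹ * s * d ∈ involutionsIn (stabilizer G a : Set G) := by
      have := conj_mem_invol hS hs (inv_mem hda)
      rwa [inv_inv] at this
    obtain ⟨k, hk, hks⟩ := K_surj hS hs hs'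
    have hc : d * k⁻¹ ∈ (stabilizer G a ⊓ stabilizer G (t • a)) ⊓ centralizer {s} := by
      refine mem_inf.mpr ⟨mul_mem hd (inv_mem hk.1), ?_⟩
      rw [mem_centralizer_iff]
      intro y hy
      rw [Set.mem_singleton_iff] at hy
      rw [hy]
      have h1 : (d * k⁻¹)⁻¹ * s * (d * k⁻¹) = s := by
        calc (d * k⁻¹)⁻¹ * s * (d * k⁻¹) = k * (d⁻¹ * s * d) * k⁻¹ := by group
          _ = k * (k⁻¹ * s * k) * k⁻¹ := by rw [hks]
          _ = s := by group
      calc s * (d * k⁻¹) = (d * k⁻¹) * ((d * k⁻¹)⁻¹ * s * (d * k⁻¹)) := by group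
        _ = (d * k⁻¹) * s := by rw [h1]
    refine ⟨⟨⟨d * k⁻¹, hc⟩, ⟨k, hk⟩⟩, ?_⟩
    apply Subtype.ext
    show d * k⁻¹ * k = d
    group

/-! ### Normal subgroups of odd order -/

/-- with two distinct commuting involutions, a normal subgroup of odd order fixes `a` -/
theorem odd_normal_le (hS : IsRankOneSetup G Ω a t Q) [Finite G]
    (h2 : ∃ x y : G, x ≠ 1 ∧ y ≠ 1 ∧ x ≠ y ∧ x * x = 1 ∧ y * y = 1 ∧ x * y = y * x)
    (N : Subgroup G) [hN : N.Normal] (hodd : Odd (Nat.card N)) : N ≤ stabilizer G a := by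
  obtain ⟨x, y, hx1, hy1, hxy, hx2, hy2, hcomm⟩ := h2
  have hxinv : x⁻¹ = x := inv_eq_of_mul_eq_one_left hx2
  have hw1 : x * y ≠ 1 := by
    intro h
    apply hxy
    have := eq_inv_of_mul_eq_one_right h
    rw [hxinv] at this
    exact this.symm
  have hw2 : (x * y) * (x * y) = 1 := by
    calc (x * y) * (x * y) = x * (y * x) * y := by group
      _ = x * (x * y) * y := by rw [hcomm]
      _ = (x * x) * (y * y) := by group
      _ = 1 := by rw [hx2, hy2, one_mul]
  obtain ⟨c, hxc, hcu⟩ := invol_fix hS hx1 hx2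
  have hyc : y • c = c := by
    apply hcu
    rw [← mul_smul, hcomm, mul_smul, hxc]
  have hfixu : ∀ {v : G} {d : Ω}, v ≠ 1 → v * v = 1 → v • d = d → ∀ d', v • d' = d' → d' = d := by
    intro v d hv1 hv2 hvd d' hd'
    obtain ⟨e, -, he⟩ := invol_fix hS hv1 hv2
    rw [he d' hd', he d hvd]
  -- every element of `N` fixes `c`
  have key : ∀ n ∈ N, n⁻¹ • c = c := by
    intro n hn
    by_contra hne
    -- the swapping involutions
    have hswap : ∀ v : G, v ≠ 1 → v * v = 1 → v • c = c →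
        ∃ u : G, u • c = n⁻¹ • c ∧ u • (n⁻¹ • c) = c ∧
          (QuotientGroup.mk' N) u = (QuotientGroup.mk' N) v := by
      intro v hv1 hv2 hvc
      set v' := n⁻¹ * v * n with hv'
      have hv'1 : v' ≠ 1 := by
        intro h
        apply hv1
        have : v = n * v' * n⁻¹ := by rw [hv']; group
        rw [this, h]; group
      have hv'2 : v' * v' = 1 := by
        have : v' * v' = n⁻¹ * (v * v) * n := by rw [hv']; group
        rw [this, hv2]; group
      have hv'c : v' • (n⁻¹ • c) = n⁻¹ • c := by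
        rw [hv', ← mul_smul]
        have : n⁻¹ * v * n * n⁻¹ = n⁻¹ * v := by group
        rw [this, mul_smul, hvc]
      have hv'c' : v' • c ≠ c := fun h => hne (hfixu hv'1 hv'2 h _ hv'c)
      have hodd' := odd_order_mul' hS hvc hv1 hv2 hv'c' hv'2
      obtain ⟨m, hm2, hm⟩ := exists_invol_swap hv2 hv'2 hodd'
      set u := (v * v') ^ m * v with hu
      have huc : u • c = n⁻¹ • c := by
        apply hfixu hv'1 hv'2 hv'c
        rw [← hm, mul_smul, mul_smul, ← mul_smul u u, hm2, one_smul, hvc]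
      refine ⟨u, huc, ?_, ?_⟩
      · rw [← huc, ← mul_smul, hm2, one_smul]
      · have hn1 : (QuotientGroup.mk' N) n = 1 := (QuotientGroup.eq_one_iff n).mpr hn
        have hvv' : (QuotientGroup.mk' N) (v * v') = 1 := by
          rw [hv', map_mul, map_mul, map_mul, map_inv, hn1, inv_one, one_mul, mul_one, ← map_mul,
            hv2, map_one]
        rw [hu, map_mul, map_pow, hvv', one_pow, one_mul]
    obtain ⟨ux, hux1, hux2, huxq⟩ := hswap x hx1 hx2 hxc
    obtain ⟨uy, huy1, huy2, huyq⟩ := hswap y hy1 hy2 hyc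
    have hg1 : (ux * uy) • c = c := by rw [mul_smul, huy1, hux2]
    have hg2 : (ux * uy) • (n⁻¹ • c) = n⁻¹ • c := by rw [mul_smul, huy2, hux1]
    obtain ⟨k, hk⟩ := two_point_odd hS (Ne.symm hne) hg1 hg2
    have hq : (QuotientGroup.mk' N) (ux * uy) = (QuotientGroup.mk' N) (x * y) := by
      rw [map_mul, map_mul, huxq, huyq]
    have h3 : ((QuotientGroup.mk' N) (x * y)) ^ (2 * k + 1) = 1 := by
      rw [← hq, ← map_pow, ← hk, pow_orderOf_eq_one, map_one]
    have h4 : ((QuotientGroup.mk' N) (x * y)) ^ 2 = 1 := by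
      rw [← map_pow, pow_two, hw2, map_one]
    rw [pow_succ, pow_mul, h4, one_pow, one_mul] at h3
    have h5 : x * y ∈ N := (QuotientGroup.eq_one_iff _).mp h3
    exact hw1 (eq_one_of_sq_of_odd hodd h5 hw2)
  obtain ⟨g₀, hg₀⟩ := trans hS c a
  intro n hn
  rw [mem_stabilizer_iff, ← hg₀]
  have h1 := key _ (hN.conj_mem n⁻¹ (inv_mem hn) g₀⁻¹)
  rw [inv_inv] at h1
  have h2 : (g₀⁻¹ * n⁻¹ * g₀)⁻¹ = g₀⁻¹ * n * g₀ := by group
  rw [h2] at h1
  calc n • g₀ • c = g₀ • ((g₀⁻¹ * n * g₀) • c) := by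
        rw [← mul_smul, ← mul_smul]; congr 1; group
    _ = g₀ • c := by rw [h1]

/-- the normal core of `G_a` has odd order -/
theorem odd_card_normalCore (hS : IsRankOneSetup G Ω a t Q) [Finite G] :
    Odd (Nat.card (stabilizer G a).normalCore) := by
  have h1 : (stabilizer G a).normalCore ≤ stabilizer G a ⊓ stabilizer G (t • a) := by
    intro g hg
    refine mem_inf.mpr ⟨Subgroup.normalCore_le _ hg, ?_⟩
    have h2 : t⁻¹ * g * t⁻¹⁻¹ ∈ stabilizer G a := hg t⁻¹
    rw [inv_inv, mem_stabilizer_iff] at h2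
    rw [mem_stabilizer_iff]
    calc g • t • a = t • ((t⁻¹ * g * t) • a) := by
          rw [← mul_smul, ← mul_smul]; congr 1; group
      _ = t • a := by rw [h2]
  exact hS.odd_card.of_dvd_nat (Subgroup.card_dvd_of_le h1)

end RO

end Cfsg.Agent.Lib.Helper5_RankOne
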