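import Mathlib
import Cfsg.Agent.Lib.Helper5_RankOne

set_option autoImplicit false

/-!
helper5: groups acting on a set so that every involution fixes exactly one point.
-/

namespace Cfsg.Agent.Lib.Helper5_InvFix

open MulAction Subgroup Cfsg.Agent.Lib.Helper5_RankOne

variable {G Ω : Type*} [Group G] [MulAction G Ω]

/-- every involution fixes exactly one point -/
def InvFix (G Ω : Type*) [Group G] [MulAction G Ω] : Prop :=
  ∀ w : G, w ≠ 1 → w * w = 1 → ∃ c : Ω, w • c = c ∧ ∀ c' : Ω, w • c' = c' → c' = c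

namespace InvFix

theorem fix_unique (hF : InvFix G Ω) {w : G} (hw1 : w ≠ 1) (hw2 : w * w = 1) {c c' : Ω}
    (hc : w • c = c) (hc' : w • c' = c') : c' = c := by
  obtain ⟨d, -, hd⟩ := hF w hw1 hw2
  rw [hd c' hc', hd c hc]

theorem two_point_sq (hF : InvFix G Ω) {g : G} {c₁ c₂ : Ω} (hc : c₁ ≠ c₂) (h1 : g • c₁ = c₁)
    (h2 : g • c₂ = c₂) (hg : g * g = 1) : g = 1 := by
  by_contra hg1
  exact hc (fix_unique hF hg1 hg h2 h1)

/-- two involutions, one fixing a point which the other moves, have a product of odd order -/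
theorem odd_order_mul (hF : InvFix G Ω) [Finite G] {s u : G} {c : Ω}
    (hs : s • c = c) (hs1 : s ≠ 1) (hs2 : s * s = 1) (hu : u • c ≠ c)
    (hu2 : u * u = 1) : Odd (orderOf (s * u)) := by
  rw [← Nat.not_even_iff_odd]
  rintro ⟨m, hm⟩
  have hpos : 0 < orderOf (s * u) := orderOf_pos _
  have hsinv : s⁻¹ = s := inv_eq_of_mul_eq_one_left hs2
  have huinv : u⁻¹ = u := inv_eq_of_mul_eq_one_left hu2
  set w := (s * u) ^ m with hw
  have hw2 : w * w = 1 := by
    rw [hw, ← pow_add, ← hm]; exact pow_orderOf_eq_one _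
  have hw1 : w ≠ 1 := by
    intro h
    have := orderOf_dvd_of_pow_eq_one h
    have := Nat.le_of_dvd (by omega) this
    omega
  have hwinv : w⁻¹ = w := inv_eq_of_mul_eq_one_left hw2
  have hsw : s * w * s⁻¹ = w := by
    have h1 : s * (s * u) * s⁻¹ = (s * u)⁻¹ := by
      rw [mul_inv_rev, hsinv, huinv, ← mul_assoc, hs2, one_mul]
    rw [hw, ← conj_pow, h1, inv_pow, ← hw, hwinv]
  have huw : u * w * u⁻¹ = w := by
    have h1 : u * (s * u) * u⁻¹ = (s * u)⁻¹ := by
      rw [mul_inv_rev, hsinv, huinv, mul_assoc, mul_assoc, hu2, mul_one]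
    rw [hw, ← conj_pow, h1, inv_pow, ← hw, hwinv]
  obtain ⟨d, hd, hdu⟩ := hF w hw1 hw2
  have h1 : w • (s • d) = s • d := by
    have : w * s = s * w := by
      have : s * w = (s * w * s⁻¹) * s := by group
      rw [this, hsw]
    rw [← mul_smul, this, mul_smul, hd]
  have h2 : w • (u • d) = u • d := by
    have : w * u = u * w := by
      have : u * w = (u * w * u⁻¹) * u := by group
      rw [this, huw]
    rw [← mul_smul, this, mul_smul, hd]
  have h3 := hdu _ h1
  have h4 := hdu _ h2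
  have h5 : d = c := fix_unique hF hs1 hs2 hs h3
  apply hu
  rw [← h5]
  exact h4

/-- two involutions with distinct fixed points are swapped by a unique involution -/
theorem swap (hF : InvFix G Ω) [Finite G] {s₁ s₂ : G} {c₁ c₂ : Ω}
    (h1 : s₁ • c₁ = c₁) (h11 : s₁ ≠ 1) (h12 : s₁ * s₁ = 1) (h2 : s₂ • c₂ = c₂) (h21 : s₂ ≠ 1)
    (h22 : s₂ * s₂ = 1) (hc : c₁ ≠ c₂) :
    ∃ u : G, (u * u = 1 ∧ u * s₁ * u = s₂) ∧
      ∀ u' : G, u' * u' = 1 → u' * s₁ * u' = s₂ → u' = u := by
  have h3 : s₂ • c₁ ≠ c₁ := fun h => hc (fix_unique hF h21 h22 h2 h)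
  have hodd := odd_order_mul hF h1 h11 h12 h3 h22
  obtain ⟨m, hm2, hm⟩ := exists_invol_swap h12 h22 hodd
  set w := (s₁ * s₂) ^ m * s₁ with hw
  refine ⟨w, ⟨hm2, hm⟩, ?_⟩
  intro u' hu'2 hu'
  have hwinv : w⁻¹ = w := inv_eq_of_mul_eq_one_left hm2
  have hu'inv : u'⁻¹ = u' := inv_eq_of_mul_eq_one_left hu'2
  have hm' : w * s₂ * w = s₁ := by
    rw [← hm]
    calc w * (w * s₁ * w) * w = (w * w) * s₁ * (w * w) := by group
      _ = s₁ := by rw [hm2, one_mul, mul_one]
  have hu'' : u' * s₂ * u' = s₁ := by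
    rw [← hu']
    calc u' * (u' * s₁ * u') * u' = (u' * u') * s₁ * (u' * u') := by group
      _ = s₁ := by rw [hu'2, one_mul, mul_one]
  set g := u' * w with hg
  have hg1 : g * s₁ = s₁ * g := by
    have : g * s₁ * g⁻¹ = s₁ := by
      rw [hg, mul_inv_rev, hwinv, hu'inv]
      calc u' * w * s₁ * (w * u') = u' * (w * s₁ * w) * u' := by group
        _ = s₁ := by rw [hm, hu'']
    calc g * s₁ = (g * s₁ * g⁻¹) * g := by group
      _ = s₁ * g := by rw [this]
  have hg2 : g * s₂ = s₂ * g := by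
    have : g * s₂ * g⁻¹ = s₂ := by
      rw [hg, mul_inv_rev, hwinv, hu'inv]
      calc u' * w * s₂ * (w * u') = u' * (w * s₂ * w) * u' := by group
        _ = s₂ := by rw [hm', hu']
    calc g * s₂ = (g * s₂ * g⁻¹) * g := by group
      _ = s₂ * g := by rw [this]
  have hgw : g * w = w * g := by
    have h4 : Commute g (s₁ * s₂) := (show Commute g s₁ from hg1).mul_right hg2
    have h5 : Commute g w := (h4.pow_right m).mul_right hg1
    exact h5
  have hgg : g * g = 1 := by
    have e : u' = g * w := by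
      rw [hg, mul_assoc, hm2, mul_one]
    have : u' * u' = g * g := by
      calc u' * u' = g * w * (g * w) := by rw [← e]
        _ = g * (w * g) * w := by group
        _ = g * (g * w) * w := by rw [hgw]
        _ = g * g * (w * w) := by group
        _ = g * g := by rw [hm2, mul_one]
    rw [← this]; exact hu'2
  have hgc1 : g • c₁ = c₁ := by
    apply fix_unique hF h11 h12 h1
    rw [← mul_smul, ← hg1, mul_smul, h1]
  have hgc2 : g • c₂ = c₂ := by
    apply fix_unique hF h21 h22 h2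
    rw [← mul_smul, ← hg2, mul_smul, h2]
  have h6 := two_point_sq hF hc hgc1 hgc2 hgg
  have : u' = g * w := by rw [hg, mul_assoc, hm2, mul_one]
  rw [this, h6, one_mul]

section K

variable (hF : InvFix G Ω) [Finite G] {t : G} (ht2 : t * t = 1) {a : Ω} (hta : t • a ≠ a)

include hF ht2 hta

omit [Finite G] hF hta in
theorem tt_smul (c : Ω) : t • (t • c) = c := by
  rw [← mul_smul, ht2, one_smul]

/-- conjugation by the elements of the two-point stabiliser inverted by `t` maps a given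
involution fixing `a` onto all involutions fixing `a` -/
theorem K_surj {s s' : G} (hsa : s • a = a) (hs1 : s ≠ 1) (hs2 : s * s = 1)
    (hs'a : s' • a = a) (hs'1 : s' ≠ 1) (hs'2 : s' * s' = 1) :
    ∃ k : G, k • a = a ∧ k • (t • a) = t • a ∧ t * k * t⁻¹ = k⁻¹ ∧ k⁻¹ * s * k = s' := by
  have htinv : t⁻¹ = t := inv_eq_of_mul_eq_one_left ht2
  have httg : ∀ g : G, t * (t * g) = g := fun g => by rw [← mul_assoc, ht2, one_mul]
  have h1 : (t * s * t) • (t • a) = t • a := by
    rw [mul_smul, mul_smul, tt_smul ht2, hsa]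
  have h2 : t * s * t ≠ 1 := by
    intro h
    apply hs1
    have : s = t * (t * s * t) * t := by simp only [mul_assoc, httg, ht2, mul_one]
    rw [this, h, mul_one, ht2]
  have h3 : (t * s * t) * (t * s * t) = 1 := by
    have : (t * s * t) * (t * s * t) = t * (s * s) * t := by
      simp only [mul_assoc, httg]
    rw [this, hs2, mul_one, ht2]
  obtain ⟨u, ⟨hu2, hu⟩, -⟩ := swap hF h1 h2 h3 hs'a hs'1 hs'2 hta
  have huinv : u⁻¹ = u := inv_eq_of_mul_eq_one_left hu2
  have hub : u • (t • a) = a := by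
    apply fix_unique hF hs'1 hs'2 hs'a
    rw [← hu, mul_smul, mul_smul, ← mul_smul u u, hu2, one_smul, h1]
  have hua : u • a = t • a := by
    rw [← hub, ← mul_smul, hu2, one_smul, hub]
  refine ⟨t * u, ?_, ?_, ?_, ?_⟩
  · rw [mul_smul, hua, tt_smul ht2]
  · rw [mul_smul, hub]
  · rw [mul_inv_rev, huinv, htinv, httg]
  · rw [mul_inv_rev, huinv, htinv, ← hu]; group

theorem K_inj {s : G} (hsa : s • a = a) (hs1 : s ≠ 1) (hs2 : s * s = 1) {k k' : G}
    (hka : k • a = a) (hkt : t * k * t⁻¹ = k⁻¹) (hk't : t * k' * t⁻¹ = k'⁻¹)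
    (he : k⁻¹ * s * k = k'⁻¹ * s * k') : k = k' := by
  have htinv : t⁻¹ = t := inv_eq_of_mul_eq_one_left ht2
  have httg : ∀ g : G, t * (t * g) = g := fun g => by rw [← mul_assoc, ht2, one_mul]
  have h1 : (t * s * t) • (t • a) = t • a := by
    rw [mul_smul, mul_smul, tt_smul ht2, hsa]
  have h2 : t * s * t ≠ 1 := by
    intro h
    apply hs1
    have : s = t * (t * s * t) * t := by simp only [mul_assoc, httg, ht2, mul_one]
    rw [this, h, mul_one, ht2]
  have h3 : (t * s * t) * (t * s * t) = 1 := by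
    have : (t * s * t) * (t * s * t) = t * (s * s) * t := by
      simp only [mul_assoc, httg]
    rw [this, hs2, mul_one, ht2]
  have hkinv : k⁻¹ • a = a := by
    have := congrArg (fun c => k⁻¹ • c) hka
    simp only [← mul_smul, inv_mul_cancel, one_smul] at this
    exact this.symm
  have hs'a : (k⁻¹ * s * k) • a = a := by
    rw [mul_smul, mul_smul, hka, hsa, hkinv]
  have hs'1 : k⁻¹ * s * k ≠ 1 := by
    intro h
    apply hs1
    have : s = k * (k⁻¹ * s * k) * k⁻¹ := by group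
    rw [this, h]; group
  have hs'2 : (k⁻¹ * s * k) * (k⁻¹ * s * k) = 1 := by
    have : (k⁻¹ * s * k) * (k⁻¹ * s * k) = k⁻¹ * (s * s) * k := by group
    rw [this, hs2]; group
  obtain ⟨u, -, huniq⟩ := swap hF h1 h2 h3 hs'a hs'1 hs'2 hta
  have tk_sq : ∀ k₁ : G, t * k₁ * t⁻¹ = k₁⁻¹ → (t * k₁) * (t * k₁) = 1 := by
    intro k₁ hk₁
    rw [htinv] at hk₁
    calc t * k₁ * (t * k₁) = (t * k₁ * t) * k₁ := by group
      _ = 1 := by rw [hk₁, inv_mul_cancel]
  have key : ∀ k₁ : G, t * k₁ * t⁻¹ = k₁⁻¹ → (t * k₁) * (t * s * t) * (t * k₁) = k₁⁻¹ * s * k₁ := by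
    intro k₁ hk₁
    rw [← hk₁, htinv]
    simp only [mul_assoc, httg]
  have h4 := huniq (t * k) (tk_sq k hkt) (key k hkt)
  have h5 := huniq (t * k') (tk_sq k' hk't) (by rw [key k' hk't, ← he])
  exact mul_left_cancel (h4.trans h5.symm)

end K

end InvFix

end Cfsg.Agent.Lib.Helper5_InvFix
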