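import Mathlib
import Cfsg.Agent.Lib.Helper5_InvFix
import Cfsg.Agent.S1124

set_option autoImplicit false

/-!
helper5: finite groups in which the centralizer of every involution is an elementary abelian
2-group.
-/

namespace Cfsg.Agent.Lib.Helper5_CIT

open MulAction Subgroup Cfsg.Agent.Lib.Helper5_RankOne Cfsg.Agent.Lib.Helper5_InvFix

variable {G : Type*} [Group G] [Finite G]

/-- the hypotheses on the Sylow 2-subgroup `T` -/
structure Hyp (T : Sylow 2 G) : Prop where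
  hnc : ¬ IsCyclic (T : Subgroup G)
  hC : ∀ t : G, orderOf t = 2 → IsMulCommutative (centralizer ({t} : Set G)) ∧
    ∀ c ∈ centralizer ({t} : Set G), c ^ 2 = 1

namespace Hyp

variable {T : Sylow 2 G}

omit [Finite G] in
theorem orderOf_two {t : G} (ht1 : t ≠ 1) (ht2 : t * t = 1) : orderOf t = 2 := by
  haveI : Fact (Nat.Prime 2) := ⟨Nat.prime_two⟩
  exact orderOf_eq_prime (by rw [pow_two]; exact ht2) ht1

omit [Finite G] in
theorem isPGroup_cent (h : Hyp T) {t : G} (ht : orderOf t = 2) :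
    IsPGroup 2 (centralizer ({t} : Set G)) := by
  intro c
  refine ⟨1, ?_⟩
  apply Subtype.ext
  rw [pow_one, Subgroup.coe_pow]
  exact (h.hC t ht).2 c c.2

theorem T_eq_cent (h : Hyp T) {t : G} (h2 : orderOf t = 2)
    (hcen : ∀ x ∈ (T : Subgroup G), x * t = t * x) :
    centralizer ({t} : Set G) = (T : Subgroup G) := by
  apply T.is_maximal' (h.isPGroup_cent h2)
  intro x hx
  rw [mem_centralizer_iff]
  intro y hy
  rw [Set.mem_singleton_iff] at hy
  rw [hy]
  exact (hcen x hx).symm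

theorem exists_central_invol (h : Hyp T) :
    ∃ t₀ ∈ (T : Subgroup G), orderOf t₀ = 2 ∧ ∀ x ∈ (T : Subgroup G), x * t₀ = t₀ * x := by
  haveI : Fact (Nat.Prime 2) := ⟨Nat.prime_two⟩
  haveI : Nontrivial ↥(T : Subgroup G) := by
    by_contra hn
    rw [not_nontrivial_iff_subsingleton] at hn
    apply h.hnc
    exact isCyclic_of_subsingleton
  haveI := T.isPGroup'.center_nontrivial
  have hZ : IsPGroup 2 (Subgroup.center ↥(T : Subgroup G)) := T.isPGroup'.to_subgroup _
  obtain ⟨k, hk⟩ := IsPGroup.iff_card.mp hZ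
  have hk0 : k ≠ 0 := by
    rintro rfl
    rw [pow_zero] at hk
    have := (Nat.card_eq_one_iff_unique.mp hk).1
    exact not_subsingleton _ this
  have h2 : 2 ∣ Nat.card (Subgroup.center ↥(T : Subgroup G)) := by
    rw [hk]; exact dvd_pow_self 2 hk0
  obtain ⟨z, hz⟩ := exists_prime_orderOf_dvd_card' 2 h2
  refine ⟨((z : ↥(T : Subgroup G)) : G), (z : ↥(T : Subgroup G)).2, ?_, ?_⟩
  · rw [Subgroup.orderOf_coe, Subgroup.orderOf_coe]; exact hz
  · intro x hx
    have := Subgroup.mem_center_iff.mp z.2 ⟨x, hx⟩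
    exact congrArg Subtype.val this

theorem T_sq (h : Hyp T) {x : G} (hx : x ∈ (T : Subgroup G)) : x * x = 1 := by
  obtain ⟨t₀, ht₀, h2, hcen⟩ := h.exists_central_invol
  have h1 := h.T_eq_cent h2 hcen
  rw [← h1] at hx
  rw [← pow_two]
  exact (h.hC t₀ h2).2 x hx

theorem T_comm (h : Hyp T) {x y : G} (hx : x ∈ (T : Subgroup G)) (hy : y ∈ (T : Subgroup G)) :
    x * y = y * x := by
  obtain ⟨t₀, ht₀, h2, hcen⟩ := h.exists_central_invol
  have h1 := h.T_eq_cent h2 hcen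
  rw [← h1] at hx hy
  have := (h.hC t₀ h2).1.is_comm.comm (⟨x, hx⟩ : centralizer ({t₀} : Set G)) ⟨y, hy⟩
  exact congrArg Subtype.val this

theorem cent_eq_T (h : Hyp T) {t : G} (ht : t ∈ (T : Subgroup G)) (ht1 : t ≠ 1) :
    centralizer ({t} : Set G) = (T : Subgroup G) :=
  h.T_eq_cent (orderOf_two ht1 (h.T_sq ht)) (fun x hx => h.T_comm hx ht)

/-- involutions of `N(T)` lie in `T` -/
theorem invol_mem_T (h : Hyp T) {v : G} (hv : v ∈ normalizer ((T : Subgroup G) : Set G))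
    (hv2 : v * v = 1) : v ∈ (T : Subgroup G) := by
  haveI : Fact (Nat.Prime 2) := ⟨Nat.prime_two⟩
  have hz : IsPGroup 2 (zpowers v) := by
    by_cases hv1 : v = 1
    · rw [hv1, zpowers_one_eq_bot]; exact IsPGroup.of_bot
    · apply IsPGroup.of_card (n := 1)
      rw [Nat.card_zpowers, pow_one]
      exact orderOf_two hv1 hv2
  have h1 : IsPGroup 2 (zpowers v ⊔ (T : Subgroup G) : Subgroup G) :=
    IsPGroup.to_sup_of_normal_right' hz T.isPGroup' (zpowers_le.mpr hv)
  have h2 := T.is_maximal' h1 le_sup_right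
  rw [← h2]
  exact (le_sup_left : zpowers v ≤ _) (mem_zpowers v)

/-- `T` is a TI-subgroup -/
theorem mem_normalizer_of_conj (h : Hyp T) {g w : G} (hw1 : w ≠ 1) (hwT : w ∈ (T : Subgroup G))
    (hwg : g⁻¹ * w * g ∈ (T : Subgroup G)) : g ∈ normalizer ((T : Subgroup G) : Set G) := by
  have hw'1 : g⁻¹ * w * g ≠ 1 := by
    intro he
    apply hw1
    have : w = g * (g⁻¹ * w * g) * g⁻¹ := by group
    rw [this, he]; group
  have h1 : g⁻¹ ∈ normalizer ((T : Subgroup G) : Set G) := by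
    haveI : Finite (((T : Subgroup G) : Set G)) := Set.toFinite _
    apply Subgroup.mem_normalizer_fintype
    intro x hx
    have hx' : x ∈ (T : Subgroup G) := hx
    show g⁻¹ * x * g⁻¹⁻¹ ∈ (T : Subgroup G)
    rw [inv_inv, ← h.cent_eq_T hwg hw'1, mem_centralizer_iff]
    intro y hy
    rw [Set.mem_singleton_iff] at hy
    rw [hy]
    have := h.T_comm hwT hx'
    calc g⁻¹ * w * g * (g⁻¹ * x * g) = g⁻¹ * (w * x) * g := by group
      _ = g⁻¹ * (x * w) * g := by rw [this]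
      _ = _ := by group
  have := inv_mem h1
  rwa [inv_inv] at this

/-- every involution fixes exactly one coset of `N(T)` -/
theorem invFix (h : Hyp T) : InvFix G (G ⧸ normalizer ((T : Subgroup G) : Set G)) := by
  haveI : Fact (Nat.Prime 2) := ⟨Nat.prime_two⟩
  intro w hw1 hw2
  have hz : IsPGroup 2 (zpowers w) := by
    apply IsPGroup.of_card (n := 1)
    rw [Nat.card_zpowers, pow_one]
    exact orderOf_two hw1 hw2
  obtain ⟨g, hg⟩ := Cfsg.Agent.Lib.Helper5_Sylow.exists_conj_le_sylow hz T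
  have h1 : g * w * g⁻¹ ∈ (T : Subgroup G) := hg ⟨w, mem_zpowers w, rfl⟩
  have h1' : g * w * g⁻¹ ≠ 1 := by
    intro he
    apply hw1
    have : w = g⁻¹ * (g * w * g⁻¹) * g := by group
    rw [this, he]; group
  refine ⟨(QuotientGroup.mk g⁻¹ : G ⧸ normalizer ((T : Subgroup G) : Set G)), ?_, ?_⟩
  · show (QuotientGroup.mk (w * g⁻¹) : G ⧸ normalizer ((T : Subgroup G) : Set G)) = _
    rw [QuotientGroup.eq]
    have : (w * g⁻¹)⁻¹ * g⁻¹ = (g * w * g⁻¹)⁻¹ := by group
    rw [this]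
    exact inv_mem (Subgroup.le_normalizer h1)
  · intro c' hc'
    induction c' using QuotientGroup.induction_on with
    | H x =>
      have h2 : (QuotientGroup.mk (w * x) : G ⧸ normalizer ((T : Subgroup G) : Set G)) =
          QuotientGroup.mk x := hc'
      rw [QuotientGroup.eq] at h2
      have h3 : x⁻¹ * w * x ∈ normalizer ((T : Subgroup G) : Set G) := by
        have : x⁻¹ * w * x = ((w * x)⁻¹ * x)⁻¹ := by group
        rw [this]; exact inv_mem h2
      have h4 : (x⁻¹ * w * x) * (x⁻¹ * w * x) = 1 := by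
        have : (x⁻¹ * w * x) * (x⁻¹ * w * x) = x⁻¹ * (w * w) * x := by group
        rw [this, hw2]; group
      have h5 := h.invol_mem_T h3 h4
      have h6 : (g * x)⁻¹ * (g * w * g⁻¹) * (g * x) ∈ (T : Subgroup G) := by
        have : (g * x)⁻¹ * (g * w * g⁻¹) * (g * x) = x⁻¹ * w * x := by group
        rw [this]; exact h5
      have h7 := h.mem_normalizer_of_conj h1' h1 h6
      rw [QuotientGroup.eq]
      have : x⁻¹ * g⁻¹ = (g * x)⁻¹ := by group
      rw [this]
      exact inv_mem h7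

/-! ### The two-point stabiliser -/

section D

variable (h : Hyp T) {u : G} (hu1 : u ≠ 1) (hu2 : u * u = 1)
  (huH : u ∉ normalizer ((T : Subgroup G) : Set G))

/-- the two-point stabiliser `H ∩ H^u` -/
def Dg (T : Sylow 2 G) (u : G) : Subgroup G :=
  normalizer ((T : Subgroup G) : Set G) ⊓
    (normalizer ((T : Subgroup G) : Set G)).map (MulAut.conj u).toMonoidHom

omit [Finite G] in
theorem mem_Dg_iff (T : Sylow 2 G) (u d : G) : d ∈ Dg T u ↔
    d • (QuotientGroup.mk 1 : G ⧸ normalizer ((T : Subgroup G) : Set G)) = QuotientGroup.mk 1 ∧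
    d • (u • (QuotientGroup.mk 1 : G ⧸ normalizer ((T : Subgroup G) : Set G))) =
      u • (QuotientGroup.mk 1 : G ⧸ normalizer ((T : Subgroup G) : Set G)) := by
  rw [Dg, mem_inf, ← mem_stabilizer_iff, ← mem_stabilizer_iff,
    stabilizer_smul_eq_stabilizer_map_conj]
  have : stabilizer G (QuotientGroup.mk 1 : G ⧸ normalizer ((T : Subgroup G) : Set G)) =
      normalizer ((T : Subgroup G) : Set G) := MulAction.stabilizer_quotient _
  rw [this]

include huH in
omit [Finite G] in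
theorem u_smul_ne : u • (QuotientGroup.mk 1 : G ⧸ normalizer ((T : Subgroup G) : Set G)) ≠
    QuotientGroup.mk 1 := by
  intro he
  apply huH
  have : u ∈ stabilizer G (QuotientGroup.mk 1 : G ⧸ normalizer ((T : Subgroup G) : Set G)) :=
    mem_stabilizer_iff.mpr he
  rwa [MulAction.stabilizer_quotient] at this

include h huH in
theorem Dg_sq {d : G} (hd : d ∈ Dg T u) (hd2 : d * d = 1) : d = 1 := by
  obtain ⟨h1, h2⟩ := (mem_Dg_iff T u d).mp hd
  exact InvFix.two_point_sq h.invFix (u_smul_ne huH).symm h1 h2 hd2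

include h huH in
theorem Dg_odd : Odd (Nat.card (Dg T u)) := by
  rw [← Nat.not_even_iff_odd, even_iff_two_dvd]
  intro h2
  haveI : Fact (Nat.Prime 2) := ⟨Nat.prime_two⟩
  obtain ⟨z, hz⟩ := exists_prime_orderOf_dvd_card' 2 h2
  have h3 : (z : G) * (z : G) = 1 := by
    have := pow_orderOf_eq_one z
    rw [hz, pow_two] at this
    exact congrArg Subtype.val this
  have h4 := Dg_sq h huH z.2 h3
  have : z = 1 := Subtype.ext h4
  rw [this, orderOf_one] at hz
  omega

include hu2 in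
omit [Finite G] in
theorem conj_u_mem {d : G} (hd : d ∈ Dg T u) : u * d * u⁻¹ ∈ Dg T u := by
  have huinv : u⁻¹ = u := inv_eq_of_mul_eq_one_left hu2
  obtain ⟨h1, h2⟩ := (mem_Dg_iff T u d).mp hd
  rw [mem_Dg_iff]
  constructor
  · have : u⁻¹ • (QuotientGroup.mk 1 : G ⧸ normalizer ((T : Subgroup G) : Set G)) =
        u • QuotientGroup.mk 1 := by rw [huinv]
    rw [mul_smul, mul_smul, this, h2, ← mul_smul, hu2, one_smul]
  · rw [mul_smul, mul_smul, ← mul_smul u⁻¹, inv_mul_cancel, one_smul, h1]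

include h hu1 hu2 huH in
/-- `u` inverts `H ∩ H^u` -/
theorem u_inverts {d : G} (hd : d ∈ Dg T u) : u * d * u⁻¹ = d⁻¹ := by
  have hou := orderOf_two hu1 hu2
  obtain ⟨p, ⟨hp1, hp2, hp3⟩, -⟩ := (Cfsg.Agent.S1124.result u hou (Dg T u) (Dg_odd h huH)
    (fun x hx => conj_u_mem hu2 hx)).1 d hd
  obtain ⟨hp1D, hp1C⟩ := mem_inf.mp hp1
  have h1 : p.1 * p.1 = 1 := by
    rw [← pow_two]; exact (h.hC u hou).2 _ hp1C
  have h2 := Dg_sq h huH hp1D h1
  rw [h2, one_mul] at hp3
  rw [hp3]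
  exact hp2.2

include h hu1 hu2 huH in
theorem Dg_comm {d₁ d₂ : G} (hd₁ : d₁ ∈ Dg T u) (hd₂ : d₂ ∈ Dg T u) : d₁ * d₂ = d₂ * d₁ := by
  have h1 := u_inverts h hu1 hu2 huH hd₁
  have h2 := u_inverts h hu1 hu2 huH hd₂
  have h3 := u_inverts h hu1 hu2 huH (mul_mem hd₁ hd₂)
  have h4 : u * (d₁ * d₂) * u⁻¹ = (u * d₁ * u⁻¹) * (u * d₂ * u⁻¹) := by group
  rw [h4, h1, h2, mul_inv_rev] at h3
  have := congrArg (fun x => x⁻¹) h3
  simp only [mul_inv_rev, inv_inv] at this
  exact this.symm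

omit [Finite G] in
theorem Dg_le (T : Sylow 2 G) (u : G) : Dg T u ≤ normalizer ((T : Subgroup G) : Set G) := inf_le_left

include h hu1 hu2 huH in
/-- `D` acts regularly on `T ∖ 1` -/
theorem Dg_trans {s s' : G} (hs : s ∈ (T : Subgroup G)) (hs1 : s ≠ 1) (hs' : s' ∈ (T : Subgroup G))
    (hs'1 : s' ≠ 1) : ∃ k ∈ Dg T u, k⁻¹ * s * k = s' := by
  have hfix : ∀ x ∈ (T : Subgroup G),
      x • (QuotientGroup.mk 1 : G ⧸ normalizer ((T : Subgroup G) : Set G)) = QuotientGroup.mk 1 := by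
    intro x hx
    have : x ∈ stabilizer G (QuotientGroup.mk 1 : G ⧸ normalizer ((T : Subgroup G) : Set G)) := by
      rw [MulAction.stabilizer_quotient]; exact Subgroup.le_normalizer hx
    exact mem_stabilizer_iff.mp this
  obtain ⟨k, hk1, hk2, -, hk4⟩ := InvFix.K_surj h.invFix hu2 (u_smul_ne huH) (hfix s hs) hs1
    (h.T_sq hs) (hfix s' hs') hs'1 (h.T_sq hs')
  exact ⟨k, (mem_Dg_iff T u k).mpr ⟨hk1, hk2⟩, hk4⟩

include h hu1 hu2 huH in
theorem Dg_inj {s k k' : G} (hs : s ∈ (T : Subgroup G)) (hs1 : s ≠ 1) (hk : k ∈ Dg T u)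
    (hk' : k' ∈ Dg T u) (he : k⁻¹ * s * k = k'⁻¹ * s * k') : k = k' := by
  have hfix : s • (QuotientGroup.mk 1 : G ⧸ normalizer ((T : Subgroup G) : Set G)) =
      QuotientGroup.mk 1 := by
    have : s ∈ stabilizer G (QuotientGroup.mk 1 : G ⧸ normalizer ((T : Subgroup G) : Set G)) := by
      rw [MulAction.stabilizer_quotient]; exact Subgroup.le_normalizer hs
    exact mem_stabilizer_iff.mp this
  exact InvFix.K_inj h.invFix hu2 (u_smul_ne huH) hfix hs1 (h.T_sq hs)
    ((mem_Dg_iff T u k).mp hk).1 (u_inverts h hu1 hu2 huH hk) (u_inverts h hu1 hu2 huH hk') he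

include h huH in
theorem Dg_inf_T : Dg T u ⊓ (T : Subgroup G) = ⊥ := by
  rw [eq_bot_iff]
  intro d hd
  rw [mem_bot]
  exact Dg_sq h huH (mem_inf.mp hd).1 (h.T_sq (mem_inf.mp hd).2)

include h in
omit [Finite G] in
theorem exists_T_ne_one : ∃ s ∈ (T : Subgroup G), s ≠ 1 := by
  by_contra hcon
  push_neg at hcon
  apply h.hnc
  have : (T : Subgroup G) = ⊥ := by
    rw [eq_bot_iff]; intro x hx; rw [mem_bot]; exact hcon x hx
  rw [this]
  exact isCyclic_of_subsingleton

include h hu1 hu2 huH in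
/-- `|D| = |T| - 1` -/
theorem card_Dg : Nat.card (Dg T u) = Nat.card (T : Subgroup G) - 1 := by
  classical
  obtain ⟨s₀, hs₀, hs₀1⟩ := exists_T_ne_one h
  have h1 : Nat.card (T : Subgroup G) = Nat.card {x : ↥(T : Subgroup G) // x ≠ 1} + 1 := by
    rw [← Nat.card_congr (Equiv.optionSubtypeNe (1 : ↥(T : Subgroup G))), Finite.card_option]
  rw [h1, Nat.add_sub_cancel]
  apply Nat.card_congr
  have hconj : ∀ k ∈ Dg T u, k⁻¹ * s₀ * k ∈ (T : Subgroup G) := by
    intro k hk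
    have hkN := inv_mem (Dg_le T u hk)
    have := (mem_normalizer_iff.mp hkN s₀).mp hs₀
    rwa [inv_inv] at this
  refine Equiv.ofBijective (fun k : Dg T u =>
    (⟨⟨(k : G)⁻¹ * s₀ * (k : G), hconj k k.2⟩, ?_⟩ : {x : ↥(T : Subgroup G) // x ≠ 1})) ⟨?_, ?_⟩
  · intro he
    apply hs₀1
    have he' : (k : G)⁻¹ * s₀ * (k : G) = 1 := congrArg Subtype.val he
    have : s₀ = (k : G) * ((k : G)⁻¹ * s₀ * (k : G)) * (k : G)⁻¹ := by group
    rw [this, he']; group
  · intro k k' he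
    have he' : (k : G)⁻¹ * s₀ * (k : G) = (k' : G)⁻¹ * s₀ * (k' : G) :=
      congrArg (fun x : {x : ↥(T : Subgroup G) // x ≠ 1} => ((x : ↥(T : Subgroup G)) : G)) he
    exact Subtype.ext (Dg_inj h hu1 hu2 huH hs₀ hs₀1 k.2 k'.2 he')
  · rintro ⟨⟨s', hs'⟩, hs'1⟩
    have hs'1' : s' ≠ 1 := fun he => hs'1 (Subtype.ext he)
    obtain ⟨k, hk, hks⟩ := Dg_trans h hu1 hu2 huH hs₀ hs₀1 hs' hs'1'
    exact ⟨⟨k, hk⟩, Subtype.ext (Subtype.ext hks)⟩

include h hu1 hu2 huH in
/-- `H = T D` -/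
theorem H_decomp {g : G} (hg : g ∈ normalizer ((T : Subgroup G) : Set G)) :
    ∃ t ∈ (T : Subgroup G), ∃ d ∈ Dg T u, g = t * d := by
  obtain ⟨s₀, hs₀, hs₀1⟩ := exists_T_ne_one h
  have h1 : g⁻¹ * s₀ * g ∈ (T : Subgroup G) := by
    have := (mem_normalizer_iff.mp (inv_mem hg) s₀).mp hs₀
    rwa [inv_inv] at this
  have h2 : g⁻¹ * s₀ * g ≠ 1 := by
    intro he
    apply hs₀1
    have : s₀ = g * (g⁻¹ * s₀ * g) * g⁻¹ := by group
    rw [this, he]; group
  obtain ⟨k, hk, hks⟩ := Dg_trans h hu1 hu2 huH hs₀ hs₀1 h1 h2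
  have h3 : g * k⁻¹ ∈ centralizer ({s₀} : Set G) := by
    rw [mem_centralizer_iff]
    intro y hy
    rw [Set.mem_singleton_iff] at hy
    rw [hy]
    have e : (g * k⁻¹)⁻¹ * s₀ * (g * k⁻¹) = s₀ := by
      calc (g * k⁻¹)⁻¹ * s₀ * (g * k⁻¹) = k * (g⁻¹ * s₀ * g) * k⁻¹ := by group
        _ = k * (k⁻¹ * s₀ * k) * k⁻¹ := by rw [hks]
        _ = s₀ := by group
    calc s₀ * (g * k⁻¹) = (g * k⁻¹) * ((g * k⁻¹)⁻¹ * s₀ * (g * k⁻¹)) := by group
      _ = (g * k⁻¹) * s₀ := by rw [e]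
  rw [h.cent_eq_T hs₀ hs₀1] at h3
  exact ⟨g * k⁻¹, h3, k, hk, by group⟩

include h hu1 hu2 huH in
/-- `|H| = |T| |D|` -/
theorem card_H : Nat.card (normalizer ((T : Subgroup G) : Set G)) =
    Nat.card (T : Subgroup G) * Nat.card (Dg T u) := by
  rw [← Nat.card_prod]
  symm
  apply Nat.card_congr
  refine Equiv.ofBijective (fun p : ↥(T : Subgroup G) × ↥(Dg T u) =>
    (⟨(p.1 : G) * (p.2 : G), mul_mem (Subgroup.le_normalizer p.1.2) (Dg_le T u p.2.2)⟩ :
      normalizer ((T : Subgroup G) : Set G))) ⟨?_, ?_⟩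
  · rintro ⟨⟨t, ht⟩, ⟨d, hd⟩⟩ ⟨⟨t', ht'⟩, ⟨d', hd'⟩⟩ he
    have he' : t * d = t' * d' := congrArg Subtype.val he
    have h1 : d * d'⁻¹ = t⁻¹ * t' := by
      have : d * d'⁻¹ = t⁻¹ * (t * d) * d'⁻¹ := by group
      rw [this, he']; group
    have h2 : d * d'⁻¹ ∈ Dg T u ⊓ (T : Subgroup G) := by
      refine mem_inf.mpr ⟨mul_mem hd (inv_mem hd'), ?_⟩
      rw [h1]; exact mul_mem (inv_mem ht) ht'
    rw [Dg_inf_T h huH, mem_bot] at h2
    have hdd : d = d' := by
      have : d = (d * d'⁻¹) * d' := by group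
      rw [this, h2, one_mul]
    subst hdd
    have htt : t = t' := mul_right_cancel he'
    subst htt
    rfl
  · rintro ⟨g, hg⟩
    obtain ⟨t, ht, d, hd, rfl⟩ := H_decomp h hu1 hu2 huH hg
    exact ⟨⟨⟨t, ht⟩, ⟨d, hd⟩⟩, rfl⟩

end D

/-! ### The normalizer of the two-point stabiliser -/

section N

variable (h : Hyp T) {u : G} (hu1 : u ≠ 1) (hu2 : u * u = 1)
  (huH : u ∉ normalizer ((T : Subgroup G) : Set G))

include h in
theorem four_le_card : 4 ≤ Nat.card (T : Subgroup G) := by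
  haveI : Fact (Nat.Prime 2) := ⟨Nat.prime_two⟩
  obtain ⟨k, hk⟩ := IsPGroup.iff_card.mp T.isPGroup'
  rcases k with _ | _ | k
  · exfalso
    apply h.hnc
    rw [pow_zero] at hk
    haveI : Subsingleton ↥(T : Subgroup G) := (Nat.card_eq_one_iff_unique.mp hk).1
    exact isCyclic_of_subsingleton
  · exfalso
    apply h.hnc
    exact isCyclic_of_prime_card (p := 2) (by rw [hk]; rfl)
  · rw [hk, pow_succ, pow_succ]
    have : 0 < 2 ^ k := by positivity
    omega

include h hu1 hu2 huH in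
theorem exists_Dg_ne_one : ∃ d ∈ Dg T u, d ≠ 1 := by
  have h1 := card_Dg h hu1 hu2 huH
  have h2 := four_le_card h
  by_contra hcon
  push_neg at hcon
  have : Dg T u = ⊥ := by
    rw [eq_bot_iff]; intro x hx; rw [mem_bot]; exact hcon x hx
  rw [this, Subgroup.card_bot] at h1
  omega

include h hu1 hu2 huH in
/-- `N_H(D) = D` -/
theorem normalizer_Dg_inf {g : G} (hgH : g ∈ normalizer ((T : Subgroup G) : Set G))
    (hgN : g ∈ normalizer ((Dg T u : Subgroup G) : Set G)) : g ∈ Dg T u := by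
  obtain ⟨t, ht, d, hd, rfl⟩ := H_decomp h hu1 hu2 huH hgH
  have htN : t ∈ normalizer ((Dg T u : Subgroup G) : Set G) := by
    have := mul_mem hgN (inv_mem (Subgroup.le_normalizer hd))
    simpa using this
  obtain ⟨k, hk, hk1⟩ := exists_Dg_ne_one h hu1 hu2 huH
  have h1 : t * k * t⁻¹ ∈ Dg T u := (mem_normalizer_iff.mp htN k).mp hk
  have h2 : t * k * t⁻¹ * k⁻¹ ∈ Dg T u ⊓ (T : Subgroup G) := by
    refine mem_inf.mpr ⟨mul_mem h1 (inv_mem hk), ?_⟩
    have h3 : k * t⁻¹ * k⁻¹ ∈ (T : Subgroup G) :=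
      (mem_normalizer_iff.mp (Dg_le T u hk) t⁻¹).mp (inv_mem ht)
    have : t * k * t⁻¹ * k⁻¹ = t * (k * t⁻¹ * k⁻¹) := by group
    rw [this]; exact mul_mem ht h3
  rw [Dg_inf_T h huH, mem_bot] at h2
  have h4 : t * k = k * t := by
    have : t * k = (t * k * t⁻¹ * k⁻¹) * (k * t) := by group
    rw [this, h2, one_mul]
  have ht1 : t = 1 := by
    by_contra ht1
    have h5 : k ∈ centralizer ({t} : Set G) := by
      rw [mem_centralizer_iff]
      intro y hy
      rw [Set.mem_singleton_iff] at hy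
      rw [hy]; exact h4
    rw [h.cent_eq_T ht ht1] at h5
    have h6 : k ∈ Dg T u ⊓ (T : Subgroup G) := mem_inf.mpr ⟨hk, h5⟩
    rw [Dg_inf_T h huH, mem_bot] at h6
    exact hk1 h6
  rw [ht1, one_mul]; exact hd

include h hu1 hu2 huH in
/-- a fixed point of `D` other than `α` is swapped with `α` by an involution normalizing and
inverting `D` -/
theorem exists_swap_fix {γ : G ⧸ normalizer ((T : Subgroup G) : Set G)}
    (hγ : ∀ d ∈ Dg T u, d • γ = γ) (hγα : γ ≠ QuotientGroup.mk 1) :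
    ∃ w : G, w * w = 1 ∧ w • (QuotientGroup.mk 1 : G ⧸ normalizer ((T : Subgroup G) : Set G)) = γ ∧
      w ∈ normalizer ((Dg T u : Subgroup G) : Set G) ∧ ∀ d ∈ Dg T u, w * d * w⁻¹ = d⁻¹ := by
  obtain ⟨s₀, hs₀, hs₀1⟩ := exists_T_ne_one h
  have hs₀α : s₀ • (QuotientGroup.mk 1 : G ⧸ normalizer ((T : Subgroup G) : Set G)) =
      QuotientGroup.mk 1 := by
    have : s₀ ∈ stabilizer G (QuotientGroup.mk 1 : G ⧸ normalizer ((T : Subgroup G) : Set G)) := by
      rw [MulAction.stabilizer_quotient]; exact Subgroup.le_normalizer hs₀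
    exact mem_stabilizer_iff.mp this
  induction γ using QuotientGroup.induction_on with
  | H x =>
    have hs'γ : (x * s₀ * x⁻¹) • (QuotientGroup.mk x : G ⧸ normalizer ((T : Subgroup G) : Set G)) =
        QuotientGroup.mk x := by
      show (QuotientGroup.mk (x * s₀ * x⁻¹ * x) : G ⧸ normalizer ((T : Subgroup G) : Set G)) = _
      rw [QuotientGroup.eq]
      have : (x * s₀ * x⁻¹ * x)⁻¹ * x = s₀⁻¹ := by group
      rw [this]; exact inv_mem (Subgroup.le_normalizer hs₀)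
    have hs'1 : x * s₀ * x⁻¹ ≠ 1 := by
      intro he
      apply hs₀1
      have : s₀ = x⁻¹ * (x * s₀ * x⁻¹) * x := by group
      rw [this, he]; group
    have hs'2 : (x * s₀ * x⁻¹) * (x * s₀ * x⁻¹) = 1 := by
      have : (x * s₀ * x⁻¹) * (x * s₀ * x⁻¹) = x * (s₀ * s₀) * x⁻¹ := by group
      rw [this, h.T_sq hs₀]; group
    obtain ⟨w, ⟨hw2, hw⟩, -⟩ := InvFix.swap h.invFix hs₀α hs₀1 (h.T_sq hs₀) hs'γ hs'1 hs'2
      (Ne.symm hγα)
    have hwα : w • (QuotientGroup.mk 1 : G ⧸ normalizer ((T : Subgroup G) : Set G)) =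
        QuotientGroup.mk x := by
      apply InvFix.fix_unique h.invFix hs'1 hs'2 hs'γ
      rw [← hw, mul_smul, mul_smul, ← mul_smul w w, hw2, one_smul, hs₀α]
    have hw1 : w ≠ 1 := by
      intro he
      rw [he, one_smul] at hwα
      exact hγα hwα.symm
    have hwH : w ∉ normalizer ((T : Subgroup G) : Set G) := by
      intro hm
      have : w ∈ stabilizer G (QuotientGroup.mk 1 : G ⧸ normalizer ((T : Subgroup G) : Set G)) := by
        rw [MulAction.stabilizer_quotient]; exact hm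
      rw [mem_stabilizer_iff, hwα] at this
      exact hγα this
    -- the two-point stabilisers coincide
    have hle : Dg T u ≤ Dg T w := by
      intro d hd
      rw [mem_Dg_iff, hwα]
      exact ⟨((mem_Dg_iff T u d).mp hd).1, hγ d hd⟩
    have heq : Dg T u = Dg T w := by
      apply Subgroup.eq_of_le_of_card_ge hle
      rw [card_Dg h hu1 hu2 huH, card_Dg h hw1 hw2 hwH]
    refine ⟨w, hw2, hwα, ?_, ?_⟩
    · rw [heq]
      haveI : Finite ((Dg T w : Subgroup G) : Set G) := Set.toFinite _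
      apply Subgroup.mem_normalizer_fintype
      intro d hd
      exact conj_u_mem hw2 hd
    · intro d hd
      exact u_inverts h hw1 hw2 hwH (hle hd)

include h hu1 hu2 huH in
theorem u_mem_normalizer_Dg : u ∈ normalizer ((Dg T u : Subgroup G) : Set G) := by
  haveI : Finite ((Dg T u : Subgroup G) : Set G) := Set.toFinite _
  apply Subgroup.mem_normalizer_fintype
  intro d hd
  exact conj_u_mem hu2 hd

include h hu1 hu2 huH in
/-- the counting argument: `|N(D)| ≤ |F| |D|` and `2 (|F| - 1) |D| ≤ |N(D)|` where `F` is the set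
of fixed points of `D` -/
theorem card_bounds :
    Nat.card (normalizer ((Dg T u : Subgroup G) : Set G)) ≤
      Nat.card {γ : G ⧸ normalizer ((T : Subgroup G) : Set G) // ∀ d ∈ Dg T u, d • γ = γ} *
        Nat.card (Dg T u) ∧
    2 * ((Nat.card {γ : G ⧸ normalizer ((T : Subgroup G) : Set G) // ∀ d ∈ Dg T u, d • γ = γ} - 1) *
        Nat.card (Dg T u)) ≤ Nat.card (normalizer ((Dg T u : Subgroup G) : Set G)) := by
  classical
  set Ω := G ⧸ normalizer ((T : Subgroup G) : Set G) with hΩ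
  set α : Ω := QuotientGroup.mk 1 with hα
  set F := {γ : Ω // ∀ d ∈ Dg T u, d • γ = γ} with hF
  have hαF : ∀ d ∈ Dg T u, d • α = α := fun d hd => ((mem_Dg_iff T u d).mp hd).1
  have hNF : ∀ n ∈ normalizer ((Dg T u : Subgroup G) : Set G), ∀ d ∈ Dg T u,
      d • (n • α) = n • α := by
    intro n hn d hd
    have h1 : n⁻¹ * d * n ∈ Dg T u := by
      have := (mem_normalizer_iff.mp (inv_mem hn) d).mp hd
      rwa [inv_inv] at this
    calc d • n • α = n • ((n⁻¹ * d * n) • α) := by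
          rw [← mul_smul, ← mul_smul]; congr 1; group
      _ = n • α := by rw [hαF _ h1]
  -- elements of `N(D)` mapping a fixed point to `α`
  have hW : ∀ γ : F, ∃ w : G, w ∈ normalizer ((Dg T u : Subgroup G) : Set G) ∧ w • γ.1 = α := by
    intro γ
    by_cases hγ : γ.1 = α
    · exact ⟨1, one_mem _, by rw [one_smul, hγ]⟩
    · obtain ⟨w, hw2, hwα, hwN, -⟩ := exists_swap_fix h hu1 hu2 huH γ.2 hγ
      exact ⟨w, hwN, by rw [← hwα, ← mul_smul, hw2, one_smul]⟩
  choose W hWN hWα using hW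
  -- involutions swapping `α` with a fixed point
  have hV : ∀ γ : {γ : F // γ ≠ ⟨α, hαF⟩}, ∃ w : G, w • α = γ.1.1 ∧
      ∀ d ∈ Dg T u, w * d * w⁻¹ = d⁻¹ := by
    intro γ
    have hγ : γ.1.1 ≠ α := fun he => γ.2 (Subtype.ext he)
    obtain ⟨w, -, hwα, -, hwinv⟩ := exists_swap_fix h hu1 hu2 huH γ.1.2 hγ
    exact ⟨w, hwα, hwinv⟩
  choose V hVα hVinv using hV
  constructor
  · -- first bound
    rw [← Nat.card_prod]
    apply Nat.card_le_card_of_injective
      (fun n : normalizer ((Dg T u : Subgroup G) : Set G) =>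
        ((⟨(n : G) • α, hNF n n.2⟩ : F),
          (⟨W ⟨(n : G) • α, hNF n n.2⟩ * (n : G), normalizer_Dg_inf h hu1 hu2 huH (by
              have : W ⟨(n : G) • α, hNF n n.2⟩ * (n : G) ∈
                  stabilizer G (QuotientGroup.mk 1 : G ⧸ normalizer ((T : Subgroup G) : Set G)) := by
                rw [mem_stabilizer_iff, mul_smul]
                exact hWα ⟨(n : G) • α, hNF n n.2⟩
              rwa [MulAction.stabilizer_quotient] at this)
            (mul_mem (hWN _) n.2)⟩ : Dg T u)))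
    intro n n' he
    have h1 : (n : G) • α = (n' : G) • α := congrArg (fun p : F × Dg T u => p.1.1) he
    have h2 : W ⟨(n : G) • α, hNF n n.2⟩ * (n : G) = W ⟨(n' : G) • α, hNF n' n'.2⟩ * (n' : G) :=
      congrArg (fun p : F × Dg T u => (p.2 : G)) he
    have h3 : (⟨(n : G) • α, hNF n n.2⟩ : F) = ⟨(n' : G) • α, hNF n' n'.2⟩ := Subtype.ext h1
    rw [h3] at h2
    exact Subtype.ext (mul_left_cancel h2)
  · -- second bound
    have hCN : centralizer ((Dg T u : Subgroup G) : Set G) ≤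
        normalizer ((Dg T u : Subgroup G) : Set G) := Subgroup.centralizer_le_normalizer _
    have hcard : Nat.card (centralizer ((Dg T u : Subgroup G) : Set G)) *
        (centralizer ((Dg T u : Subgroup G) : Set G)).relIndex
          (normalizer ((Dg T u : Subgroup G) : Set G)) =
        Nat.card (normalizer ((Dg T u : Subgroup G) : Set G)) := by
      rw [← Subgroup.relIndex_bot_left, Subgroup.relIndex_mul_relIndex _ _ _ bot_le hCN,
        Subgroup.relIndex_bot_left]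
    have hu_notin : u ∉ centralizer ((Dg T u : Subgroup G) : Set G) := by
      intro hc
      obtain ⟨d, hd, hd1⟩ := exists_Dg_ne_one h hu1 hu2 huH
      have h1 := mem_centralizer_iff.mp hc d hd
      have h2 := u_inverts h hu1 hu2 huH hd
      have h3 : d = d⁻¹ := by
        rw [← h2]
        calc d = (d * u) * u⁻¹ := by group
          _ = u * d * u⁻¹ := by rw [h1]
      have h4 : d * d = 1 := by
        nth_rewrite 2 [h3]; exact mul_inv_cancel d
      exact hd1 (Dg_sq h huH hd h4)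
    have hidx : 2 ≤ (centralizer ((Dg T u : Subgroup G) : Set G)).relIndex
        (normalizer ((Dg T u : Subgroup G) : Set G)) := by
      have h0 : (centralizer ((Dg T u : Subgroup G) : Set G)).relIndex
          (normalizer ((Dg T u : Subgroup G) : Set G)) ≠ 0 := by
        intro h0
        rw [h0, mul_zero] at hcard
        exact Nat.card_pos.ne' hcard.symm
      have h1 : (centralizer ((Dg T u : Subgroup G) : Set G)).relIndex
          (normalizer ((Dg T u : Subgroup G) : Set G)) ≠ 1 := by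
        intro h1
        rw [Subgroup.relIndex_eq_one] at h1
        exact hu_notin (h1 (u_mem_normalizer_Dg h hu1 hu2 huH))
      omega
    have hC : (Nat.card F - 1) * Nat.card (Dg T u) ≤
        Nat.card (centralizer ((Dg T u : Subgroup G) : Set G)) := by
      have e1 : Nat.card F = Nat.card {γ : F // γ ≠ ⟨α, hαF⟩} + 1 := by
        rw [← Nat.card_congr (Equiv.optionSubtypeNe (⟨α, hαF⟩ : F)), Finite.card_option]
      rw [e1, Nat.add_sub_cancel, ← Nat.card_prod]
      apply Nat.card_le_card_of_injective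
        (fun p : {γ : F // γ ≠ ⟨α, hαF⟩} × Dg T u =>
          (⟨u * V p.1 * (p.2 : G), by
            rw [mem_centralizer_iff]
            intro k hk
            have h1 : u * V p.1 * k * (u * V p.1)⁻¹ = k := by
              calc u * V p.1 * k * (u * V p.1)⁻¹ = u * (V p.1 * k * (V p.1)⁻¹) * u⁻¹ := by group
                _ = u * k⁻¹ * u⁻¹ := by rw [hVinv p.1 k hk]
                _ = (u * k * u⁻¹)⁻¹ := by group
                _ = k := by rw [u_inverts h hu1 hu2 huH hk, inv_inv]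
            have h2 : k * (p.2 : G) = (p.2 : G) * k := Dg_comm h hu1 hu2 huH hk p.2.2
            calc k * (u * V p.1 * (p.2 : G))
                = (u * V p.1 * k * (u * V p.1)⁻¹) * (u * V p.1 * (p.2 : G)) := by rw [h1]
              _ = u * V p.1 * (k * (p.2 : G)) := by group
              _ = u * V p.1 * ((p.2 : G) * k) := by rw [h2]
              _ = u * V p.1 * (p.2 : G) * k := by group⟩ :
            centralizer ((Dg T u : Subgroup G) : Set G)))
      rintro ⟨γ, d⟩ ⟨γ', d'⟩ he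
      have h1 : u * V γ * (d : G) = u * V γ' * (d' : G) := congrArg Subtype.val he
      have h2 : V γ * (d : G) = V γ' * (d' : G) := by
        have := congrArg (fun x => u⁻¹ * x) h1
        simpa [mul_assoc] using this
      have h3 : γ.1.1 = γ'.1.1 := by
        rw [← hVα γ, ← hVα γ']
        have e : ∀ (γ₀ : {γ : F // γ ≠ ⟨α, hαF⟩}) (d₀ : Dg T u),
            (V γ₀ * (d₀ : G)) • α = V γ₀ • α := by
          intro γ₀ d₀
          rw [mul_smul, hαF _ d₀.2]
        rw [← e γ d, ← e γ' d', h2]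
      have h4 : γ = γ' := Subtype.ext (Subtype.ext h3)
      subst h4
      have h5 : (d : G) = (d' : G) := mul_left_cancel h2
      have h6 : d = d' := Subtype.ext h5
      rw [h6]
    calc 2 * ((Nat.card F - 1) * Nat.card (Dg T u))
        ≤ 2 * Nat.card (centralizer ((Dg T u : Subgroup G) : Set G)) := by omega
      _ ≤ (centralizer ((Dg T u : Subgroup G) : Set G)).relIndex
          (normalizer ((Dg T u : Subgroup G) : Set G)) *
            Nat.card (centralizer ((Dg T u : Subgroup G) : Set G)) :=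
          Nat.mul_le_mul_right _ hidx
      _ = Nat.card (normalizer ((Dg T u : Subgroup G) : Set G)) := by rw [mul_comm, hcard]

include h hu1 hu2 huH in
theorem card_fix_le : Nat.card {γ : G ⧸ normalizer ((T : Subgroup G) : Set G) //
    ∀ d ∈ Dg T u, d • γ = γ} ≤ 2 := by
  obtain ⟨h1, h2⟩ := card_bounds h hu1 hu2 huH
  have h3 := h2.trans h1
  have hD : 0 < Nat.card (Dg T u) := Nat.card_pos
  set f := Nat.card {γ : G ⧸ normalizer ((T : Subgroup G) : Set G) //
    ∀ d ∈ Dg T u, d • γ = γ} with hf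
  have h4 : 2 * (f - 1) * Nat.card (Dg T u) ≤ f * Nat.card (Dg T u) := by
    rw [mul_assoc]; exact h3
  have h5 := Nat.le_of_mul_le_mul_right h4 hD
  omega

include h hu1 hu2 huH in
/-- `D` fixes only the two points `α`, `β` -/
theorem fix_Dg {γ : G ⧸ normalizer ((T : Subgroup G) : Set G)}
    (hγ : ∀ d ∈ Dg T u, d • γ = γ) :
    γ = QuotientGroup.mk 1 ∨
      γ = u • (QuotientGroup.mk 1 : G ⧸ normalizer ((T : Subgroup G) : Set G)) := by
  by_contra hcon
  push_neg at hcon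
  have h1 := card_fix_le h hu1 hu2 huH
  have hα : ∀ d ∈ Dg T u,
      d • (QuotientGroup.mk 1 : G ⧸ normalizer ((T : Subgroup G) : Set G)) = QuotientGroup.mk 1 :=
    fun d hd => ((mem_Dg_iff T u d).mp hd).1
  have hβ : ∀ d ∈ Dg T u,
      d • (u • (QuotientGroup.mk 1 : G ⧸ normalizer ((T : Subgroup G) : Set G))) =
        u • QuotientGroup.mk 1 :=
    fun d hd => ((mem_Dg_iff T u d).mp hd).2
  let e : Fin 3 → {γ : G ⧸ normalizer ((T : Subgroup G) : Set G) // ∀ d ∈ Dg T u, d • γ = γ} :=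
    ![⟨_, hα⟩, ⟨_, hβ⟩, ⟨γ, hγ⟩]
  have hinj : Function.Injective e := by
    intro i j hij
    have hij' : (e i).1 = (e j).1 := congrArg Subtype.val hij
    fin_cases i <;> fin_cases j <;> simp only [e, Matrix.cons_val_zero, Matrix.cons_val_one,
      Matrix.cons_val_two, Matrix.head_cons, Matrix.tail_cons] at hij' <;> try rfl
    · exact absurd hij'.symm (u_smul_ne huH)
    · exact absurd hij'.symm hcon.1
    · exact absurd hij' (u_smul_ne huH)
    · exact absurd hij'.symm hcon.2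
    · exact absurd hij' hcon.1
    · exact absurd hij' hcon.2
  have h2 := Nat.card_le_card_of_injective e hinj
  rw [Nat.card_eq_fintype_card, Fintype.card_fin] at h2
  omega

include h hu1 hu2 huH in
/-- `N_G(D) = D ⟨u⟩` -/
theorem normalizer_Dg_eq : normalizer ((Dg T u : Subgroup G) : Set G) = Dg T u ⊔ zpowers u := by
  symm
  have hle : Dg T u ⊔ zpowers u ≤ normalizer ((Dg T u : Subgroup G) : Set G) :=
    sup_le Subgroup.le_normalizer (zpowers_le.mpr (u_mem_normalizer_Dg h hu1 hu2 huH))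
  apply Subgroup.eq_of_le_of_card_ge hle
  have h1 := (card_bounds h hu1 hu2 huH).1
  have h2 := card_fix_le h hu1 hu2 huH
  have h3 : Nat.card (normalizer ((Dg T u : Subgroup G) : Set G)) ≤ 2 * Nat.card (Dg T u) :=
    h1.trans (Nat.mul_le_mul_right _ h2)
  have hDle : Dg T u ≤ Dg T u ⊔ zpowers u := le_sup_left
  have hcard : Nat.card (Dg T u) * (Dg T u).relIndex (Dg T u ⊔ zpowers u) =
      Nat.card (Dg T u ⊔ zpowers u : Subgroup G) := by
    rw [← Subgroup.relIndex_bot_left, Subgroup.relIndex_mul_relIndex _ _ _ bot_le hDle,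
      Subgroup.relIndex_bot_left]
  have hidx : 2 ≤ (Dg T u).relIndex (Dg T u ⊔ zpowers u) := by
    have h0 : (Dg T u).relIndex (Dg T u ⊔ zpowers u) ≠ 0 := by
      intro h0
      rw [h0, mul_zero] at hcard
      exact Nat.card_pos.ne' hcard.symm
    have h1 : (Dg T u).relIndex (Dg T u ⊔ zpowers u) ≠ 1 := by
      intro h1
      rw [Subgroup.relIndex_eq_one] at h1
      exact huH (Dg_le T u (h1 ((le_sup_right : zpowers u ≤ _) (mem_zpowers u))))
    omega
  calc Nat.card (normalizer ((Dg T u : Subgroup G) : Set G)) ≤ 2 * Nat.card (Dg T u) := h3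
    _ ≤ (Dg T u).relIndex (Dg T u ⊔ zpowers u) * Nat.card (Dg T u) := Nat.mul_le_mul_right _ hidx
    _ = Nat.card (Dg T u ⊔ zpowers u : Subgroup G) := by rw [mul_comm, hcard]

end N

/-! ### Triple transitivity -/

section Trans

variable (h : Hyp T)

include h in
theorem T_smul (x : G) (hx : x ∈ (T : Subgroup G)) :
    x • (QuotientGroup.mk 1 : G ⧸ normalizer ((T : Subgroup G) : Set G)) = QuotientGroup.mk 1 := by
  have : x ∈ stabilizer G (QuotientGroup.mk 1 : G ⧸ normalizer ((T : Subgroup G) : Set G)) := by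
    rw [MulAction.stabilizer_quotient]; exact Subgroup.le_normalizer hx
  exact mem_stabilizer_iff.mp this

omit [Finite G] in
theorem H_smul (x : G) (hx : x ∈ normalizer ((T : Subgroup G) : Set G)) :
    x • (QuotientGroup.mk 1 : G ⧸ normalizer ((T : Subgroup G) : Set G)) = QuotientGroup.mk 1 := by
  have : x ∈ stabilizer G (QuotientGroup.mk 1 : G ⧸ normalizer ((T : Subgroup G) : Set G)) := by
    rw [MulAction.stabilizer_quotient]; exact hx
  exact mem_stabilizer_iff.mp this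

omit [Finite G] in
theorem mem_H_of_smul (x : G)
    (hx : x • (QuotientGroup.mk 1 : G ⧸ normalizer ((T : Subgroup G) : Set G)) = QuotientGroup.mk 1) :
    x ∈ normalizer ((T : Subgroup G) : Set G) := by
  have : x ∈ stabilizer G (QuotientGroup.mk 1 : G ⧸ normalizer ((T : Subgroup G) : Set G)) :=
    mem_stabilizer_iff.mpr hx
  rwa [MulAction.stabilizer_quotient] at this

include h in
/-- every point other than `α` is the image of `α` under an involution -/
theorem exists_invol_to {γ : G ⧸ normalizer ((T : Subgroup G) : Set G)}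
    (hγα : γ ≠ QuotientGroup.mk 1) :
    ∃ w : G, w ≠ 1 ∧ w * w = 1 ∧ w ∉ normalizer ((T : Subgroup G) : Set G) ∧
      w • (QuotientGroup.mk 1 : G ⧸ normalizer ((T : Subgroup G) : Set G)) = γ := by
  obtain ⟨s₀, hs₀, hs₀1⟩ := exists_T_ne_one h
  have hs₀α := T_smul h s₀ hs₀
  induction γ using QuotientGroup.induction_on with
  | H x =>
    have hs'γ : (x * s₀ * x⁻¹) • (QuotientGroup.mk x : G ⧸ normalizer ((T : Subgroup G) : Set G)) =
        QuotientGroup.mk x := by
      show (QuotientGroup.mk (x * s₀ * x⁻¹ * x) : G ⧸ normalizer ((T : Subgroup G) : Set G)) = _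
      rw [QuotientGroup.eq]
      have : (x * s₀ * x⁻¹ * x)⁻¹ * x = s₀⁻¹ := by group
      rw [this]; exact inv_mem (Subgroup.le_normalizer hs₀)
    have hs'1 : x * s₀ * x⁻¹ ≠ 1 := by
      intro he
      apply hs₀1
      have : s₀ = x⁻¹ * (x * s₀ * x⁻¹) * x := by group
      rw [this, he]; group
    have hs'2 : (x * s₀ * x⁻¹) * (x * s₀ * x⁻¹) = 1 := by
      have : (x * s₀ * x⁻¹) * (x * s₀ * x⁻¹) = x * (s₀ * s₀) * x⁻¹ := by group
      rw [this, h.T_sq hs₀]; group
    obtain ⟨w, ⟨hw2, hw⟩, -⟩ := InvFix.swap h.invFix hs₀α hs₀1 (h.T_sq hs₀) hs'γ hs'1 hs'2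
      (Ne.symm hγα)
    have hwα : w • (QuotientGroup.mk 1 : G ⧸ normalizer ((T : Subgroup G) : Set G)) =
        QuotientGroup.mk x := by
      apply InvFix.fix_unique h.invFix hs'1 hs'2 hs'γ
      rw [← hw, mul_smul, mul_smul, ← mul_smul w w, hw2, one_smul, hs₀α]
    refine ⟨w, ?_, hw2, ?_, hwα⟩
    · intro he
      rw [he, one_smul] at hwα
      exact hγα hwα.symm
    · intro hm
      rw [H_smul w hm] at hwα
      exact hγα hwα.symm

variable {u : G} (hu1 : u ≠ 1) (hu2 : u * u = 1)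
  (huH : u ∉ normalizer ((T : Subgroup G) : Set G))

include h hu1 hu2 huH in
/-- a non-identity element of `D` fixes only `α` and `β` -/
theorem fix_of_ne_one {d : G} (hd : d ∈ Dg T u) (hd1 : d ≠ 1)
    {γ : G ⧸ normalizer ((T : Subgroup G) : Set G)} (hγ : d • γ = γ) :
    γ = QuotientGroup.mk 1 ∨
      γ = u • (QuotientGroup.mk 1 : G ⧸ normalizer ((T : Subgroup G) : Set G)) := by
  by_cases hγα : γ = QuotientGroup.mk 1
  · exact Or.inl hγα
  obtain ⟨w, hw1, hw2, hwH, hwα⟩ := exists_invol_to h hγα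
  have hdw : d ∈ Dg T w := by
    rw [mem_Dg_iff, hwα]
    exact ⟨((mem_Dg_iff T u d).mp hd).1, hγ⟩
  apply fix_Dg h hu1 hu2 huH
  intro k hk
  -- `k ∈ D` commutes with `d`, hence lies in `Dg T w`
  obtain ⟨t₁, ht₁, k₁, hk₁, hkk⟩ := H_decomp h hw1 hw2 hwH (Dg_le T u hk)
  have hcomm : k * d = d * k := Dg_comm h hu1 hu2 huH hk hd
  have hcomm₁ : k₁ * d = d * k₁ := Dg_comm h hw1 hw2 hwH hk₁ hdw
  have ht₁d : t₁ * d = d * t₁ := by
    have e : t₁ = k * k₁⁻¹ := by rw [hkk]; group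
    have hcomm₁' : k₁⁻¹ * d = d * k₁⁻¹ := by
      calc k₁⁻¹ * d = k₁⁻¹ * (d * k₁) * k₁⁻¹ := by group
        _ = k₁⁻¹ * (k₁ * d) * k₁⁻¹ := by rw [hcomm₁]
        _ = d * k₁⁻¹ := by group
    rw [e]
    calc k * k₁⁻¹ * d = k * (k₁⁻¹ * d) := by group
      _ = k * (d * k₁⁻¹) := by rw [hcomm₁']
      _ = (k * d) * k₁⁻¹ := by group
      _ = (d * k) * k₁⁻¹ := by rw [hcomm]
      _ = d * (k * k₁⁻¹) := by group
  have ht₁1 : t₁ = 1 := by
    by_contra hne
    have h5 : d ∈ centralizer ({t₁} : Set G) := by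
      rw [mem_centralizer_iff]
      intro y hy
      rw [Set.mem_singleton_iff] at hy
      rw [hy]; exact ht₁d
    rw [h.cent_eq_T ht₁ hne] at h5
    have h6 : d ∈ Dg T u ⊓ (T : Subgroup G) := mem_inf.mpr ⟨hd, h5⟩
    rw [Dg_inf_T h huH, mem_bot] at h6
    exact hd1 h6
  rw [ht₁1, one_mul] at hkk
  rw [hkk, ← hwα]
  exact ((mem_Dg_iff T w k₁).mp hk₁).2

include h hu1 hu2 huH in
/-- `T` is transitive on the points other than `α` -/
theorem exists_T_smul {γ : G ⧸ normalizer ((T : Subgroup G) : Set G)}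
    (hγα : γ ≠ QuotientGroup.mk 1) :
    ∃ t ∈ (T : Subgroup G),
      t • (u • (QuotientGroup.mk 1 : G ⧸ normalizer ((T : Subgroup G) : Set G))) = γ := by
  obtain ⟨w, hw1, hw2, hwH, hwα⟩ := exists_invol_to h hγα
  obtain ⟨d, hd, hd1⟩ := exists_Dg_ne_one h hu1 hu2 huH
  obtain ⟨t₀, ht₀, d', hd', hdd⟩ := H_decomp h hw1 hw2 hwH (Dg_le T u hd)
  have hd'1 : d' ≠ 1 := by
    intro he
    rw [he, mul_one] at hdd
    have h6 : d ∈ Dg T u ⊓ (T : Subgroup G) := mem_inf.mpr ⟨hd, hdd ▸ ht₀⟩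
    rw [Dg_inf_T h huH, mem_bot] at h6
    exact hd1 h6
  have hd'N := Dg_le T w hd'
  -- the map `t ↦ t (d' t⁻¹ d'⁻¹)` is a bijection of `T`
  have hconj : ∀ t ∈ (T : Subgroup G), d' * t⁻¹ * d'⁻¹ ∈ (T : Subgroup G) := fun t ht =>
    (mem_normalizer_iff.mp hd'N t⁻¹).mp (inv_mem ht)
  let φ : ↥(T : Subgroup G) → ↥(T : Subgroup G) := fun t =>
    ⟨(t : G) * (d' * (t : G)⁻¹ * d'⁻¹), mul_mem t.2 (hconj t t.2)⟩
  have hφinj : Function.Injective φ := by
    intro t t' he
    have he' : (t : G) * (d' * (t : G)⁻¹ * d'⁻¹) = (t' : G) * (d' * (t' : G)⁻¹ * d'⁻¹) :=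
      congrArg Subtype.val he
    by_contra hne
    set τ : G := (t' : G)⁻¹ * (t : G) with hτ
    have hτT : τ ∈ (T : Subgroup G) := mul_mem (inv_mem t'.2) t.2
    have hτ1 : τ ≠ 1 := by
      intro h1
      apply hne
      apply Subtype.ext
      have : (t : G) = (t' : G) * τ := by rw [hτ]; group
      rw [this, h1, mul_one]
    have h3 : d' * τ * d'⁻¹ = τ := by
      have e1 : d' * τ * d'⁻¹ = (d' * (t' : G)⁻¹ * d'⁻¹) * (d' * (t : G)⁻¹ * d'⁻¹)⁻¹ := by
        rw [hτ]; group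
      have e2 : d' * (t : G)⁻¹ * d'⁻¹ = (t : G)⁻¹ * ((t' : G) * (d' * (t' : G)⁻¹ * d'⁻¹)) := by
        rw [← he']; group
      rw [e1, e2, hτ]
      group
    have h5 : d' ∈ centralizer ({τ} : Set G) := by
      rw [mem_centralizer_iff]
      intro y hy
      rw [Set.mem_singleton_iff] at hy
      rw [hy]
      calc τ * d' = (d' * τ * d'⁻¹) * d' := by rw [h3]
        _ = d' * τ := by group
    rw [h.cent_eq_T hτT hτ1] at h5
    have h6 : d' ∈ Dg T w ⊓ (T : Subgroup G) := mem_inf.mpr ⟨hd', h5⟩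
    rw [Dg_inf_T h hwH, mem_bot] at h6
    exact hd'1 h6
  have hφsurj : Function.Surjective φ := Finite.injective_iff_surjective.mp hφinj
  obtain ⟨t, ht⟩ := hφsurj ⟨t₀, ht₀⟩
  have ht' : (t : G) * (d' * (t : G)⁻¹ * d'⁻¹) = t₀ := congrArg Subtype.val ht
  have hconj_d : (t : G)⁻¹ * d * (t : G) = d' := by
    rw [hdd, ← ht']; group
  -- `d` fixes `t • γ`
  have hfix : d • ((t : G) • γ) = (t : G) • γ := by
    have h1 : d' • γ = γ := by
      rw [← hwα]; exact ((mem_Dg_iff T w d').mp hd').2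
    calc d • (t : G) • γ = (t : G) • (((t : G)⁻¹ * d * (t : G)) • γ) := by
          rw [← mul_smul, ← mul_smul]; congr 1; group
      _ = (t : G) • γ := by rw [hconj_d, h1]
  rcases fix_of_ne_one h hu1 hu2 huH hd hd1 hfix with h1 | h1
  · exfalso
    apply hγα
    have := congrArg (fun c => (t : G)⁻¹ • c) h1
    simp only [← mul_smul, inv_mul_cancel, one_smul] at this
    rw [this]
    exact T_smul h _ (inv_mem t.2)
  · refine ⟨(t : G)⁻¹, inv_mem t.2, ?_⟩
    rw [← h1, ← mul_smul, inv_mul_cancel, one_smul]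

end Trans

section Three

variable (h : Hyp T)

include h in
theorem exists_invol_notin (hnn : ¬ (T : Subgroup G).Normal) :
    ∃ u : G, u ≠ 1 ∧ u * u = 1 ∧ u ∉ normalizer ((T : Subgroup G) : Set G) := by
  obtain ⟨s₀, hs₀, hs₀1⟩ := exists_T_ne_one h
  have hex : ∃ g : G, g ∉ normalizer ((T : Subgroup G) : Set G) := by
    by_contra hcon
    push_neg at hcon
    apply hnn
    rw [← Subgroup.normalizer_eq_top_iff]
    rw [eq_top_iff]
    intro g _
    exact hcon g
  obtain ⟨g, hg⟩ := hex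
  refine ⟨g * s₀ * g⁻¹, ?_, ?_, ?_⟩
  · intro he
    apply hs₀1
    have : s₀ = g⁻¹ * (g * s₀ * g⁻¹) * g := by group
    rw [this, he]; group
  · have : (g * s₀ * g⁻¹) * (g * s₀ * g⁻¹) = g * (s₀ * s₀) * g⁻¹ := by group
    rw [this, h.T_sq hs₀]; group
  · intro hm
    have h2 : (g * s₀ * g⁻¹) * (g * s₀ * g⁻¹) = 1 := by
      have : (g * s₀ * g⁻¹) * (g * s₀ * g⁻¹) = g * (s₀ * s₀) * g⁻¹ := by group
      rw [this, h.T_sq hs₀]; group
    have h3 := h.invol_mem_T hm h2
    have h4 : g⁻¹ ∈ normalizer ((T : Subgroup G) : Set G) := by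
      apply h.mem_normalizer_of_conj hs₀1 hs₀
      rw [inv_inv]; exact h3
    exact hg (by simpa using inv_mem h4)

variable {u : G} (hu1 : u ≠ 1) (hu2 : u * u = 1)
  (huH : u ∉ normalizer ((T : Subgroup G) : Set G))

include h hu1 hu2 huH in
/-- `T` acts regularly on the points other than `α` -/
theorem regular_T {x y : G ⧸ normalizer ((T : Subgroup G) : Set G)}
    (hx : x ≠ QuotientGroup.mk 1) (hy : y ≠ QuotientGroup.mk 1) :
    ∃! t : G, t ∈ T ∧ t • x = y := by
  obtain ⟨t₁, ht₁, hx'⟩ := exists_T_smul h hu1 hu2 huH hx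
  obtain ⟨t₂, ht₂, hy'⟩ := exists_T_smul h hu1 hu2 huH hy
  refine ⟨t₂ * t₁⁻¹, ⟨mul_mem ht₂ (inv_mem ht₁), ?_⟩, ?_⟩
  · rw [← hx', ← hy', mul_smul, ← mul_smul t₁⁻¹, inv_mul_cancel, one_smul]
  · rintro t ⟨ht, htx⟩
    have ht' : t ∈ (T : Subgroup G) := ht
    have h1 : ((t₂ * t₁⁻¹)⁻¹ * t) • x = x := by
      rw [mul_smul, htx, ← hy', ← hx']
      generalize u • (QuotientGroup.mk 1 : G ⧸ normalizer ((T : Subgroup G) : Set G)) = β
      rw [← mul_smul]
      congr 1; group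
    have h2 : (t₂ * t₁⁻¹)⁻¹ * t ∈ (T : Subgroup G) :=
      mul_mem (inv_mem (mul_mem ht₂ (inv_mem ht₁))) ht'
    have h3 := InvFix.two_point_sq h.invFix hx h1 (T_smul h _ h2) (h.T_sq h2)
    have : t = (t₂ * t₁⁻¹) * ((t₂ * t₁⁻¹)⁻¹ * t) := by group
    rw [this, h3, mul_one]

include h hu1 hu2 huH in
/-- normal form of a triple of distinct points -/
theorem std_triple {s₀ : G} (hs₀ : s₀ ∈ (T : Subgroup G)) (hs₀1 : s₀ ≠ 1)
    {x₁ x₂ x₃ : G ⧸ normalizer ((T : Subgroup G) : Set G)} (h12 : x₁ ≠ x₂) (h13 : x₁ ≠ x₃)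
    (h23 : x₂ ≠ x₃) :
    ∃ g : G, g • x₁ = QuotientGroup.mk 1 ∧
      g • x₂ = u • (QuotientGroup.mk 1 : G ⧸ normalizer ((T : Subgroup G) : Set G)) ∧
      g • x₃ = s₀ • (u • (QuotientGroup.mk 1 : G ⧸ normalizer ((T : Subgroup G) : Set G))) := by
  obtain ⟨g₁, hg₁⟩ : ∃ g₁ : G, g₁ • x₁ = QuotientGroup.mk 1 := by
    induction x₁ using QuotientGroup.induction_on with
    | H a =>
      refine ⟨a⁻¹, ?_⟩
      show (QuotientGroup.mk (a⁻¹ * a) : G ⧸ normalizer ((T : Subgroup G) : Set G)) = _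
      rw [inv_mul_cancel]
  have h2 : g₁ • x₂ ≠ QuotientGroup.mk 1 := by
    rw [← hg₁]
    exact fun he => h12 (MulAction.injective g₁ he).symm
  obtain ⟨t, ht, htx⟩ := exists_T_smul h hu1 hu2 huH h2
  have hg₂1 : (t⁻¹ * g₁) • x₁ = QuotientGroup.mk 1 := by
    rw [mul_smul, hg₁]; exact T_smul h _ (inv_mem ht)
  have hg₂2 : (t⁻¹ * g₁) • x₂ =
      u • (QuotientGroup.mk 1 : G ⧸ normalizer ((T : Subgroup G) : Set G)) := by
    rw [mul_smul, ← htx, ← mul_smul, inv_mul_cancel, one_smul]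
  have h3a : (t⁻¹ * g₁) • x₃ ≠ QuotientGroup.mk 1 := by
    rw [← hg₂1]
    exact fun he => h13 (MulAction.injective _ he).symm
  have h3b : (t⁻¹ * g₁) • x₃ ≠
      u • (QuotientGroup.mk 1 : G ⧸ normalizer ((T : Subgroup G) : Set G)) := by
    rw [← hg₂2]
    exact fun he => h23 (MulAction.injective _ he).symm
  obtain ⟨t', ht', ht'x⟩ := exists_T_smul h hu1 hu2 huH h3a
  have ht'1 : t' ≠ 1 := by
    intro he
    rw [he, one_smul] at ht'x
    exact h3b ht'x.symm
  obtain ⟨k, hk, hks⟩ := Dg_trans h hu1 hu2 huH ht' ht'1 hs₀ hs₀1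
  have hkinv := inv_mem hk
  obtain ⟨hk1, hk2⟩ := (mem_Dg_iff T u k⁻¹).mp hkinv
  refine ⟨k⁻¹ * (t⁻¹ * g₁), ?_, ?_, ?_⟩
  · rw [mul_smul, hg₂1, hk1]
  · rw [mul_smul, hg₂2, hk2]
  · rw [mul_smul, ← ht'x, ← hks]
    have e : ∀ β : G ⧸ normalizer ((T : Subgroup G) : Set G),
        k⁻¹ • t' • β = (k⁻¹ * t' * k) • (k⁻¹ • β) := by
      intro β
      rw [← mul_smul, ← mul_smul]; congr 1; group
    rw [e, hk2]

include h hu1 hu2 huH in
/-- only the identity fixes `α`, `β` and a third point -/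
theorem eq_one_of_fix {s₀ g : G} (hs₀ : s₀ ∈ (T : Subgroup G)) (hs₀1 : s₀ ≠ 1)
    (h1 : g • (QuotientGroup.mk 1 : G ⧸ normalizer ((T : Subgroup G) : Set G)) = QuotientGroup.mk 1)
    (h2 : g • (u • (QuotientGroup.mk 1 : G ⧸ normalizer ((T : Subgroup G) : Set G))) =
      u • QuotientGroup.mk 1)
    (h3 : g • (s₀ • (u • (QuotientGroup.mk 1 : G ⧸ normalizer ((T : Subgroup G) : Set G)))) =
      s₀ • (u • QuotientGroup.mk 1)) : g = 1 := by
  have hgD : g ∈ Dg T u := (mem_Dg_iff T u g).mpr ⟨h1, h2⟩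
  have hgN := Dg_le T u hgD
  have hconj : g * s₀ * g⁻¹ ∈ (T : Subgroup G) := (mem_normalizer_iff.mp hgN s₀).mp hs₀
  have hginv : g⁻¹ • (u • (QuotientGroup.mk 1 : G ⧸ normalizer ((T : Subgroup G) : Set G))) =
      u • QuotientGroup.mk 1 := ((mem_Dg_iff T u g⁻¹).mp (inv_mem hgD)).2
  have h4 : (g * s₀ * g⁻¹) • (u • (QuotientGroup.mk 1 :
      G ⧸ normalizer ((T : Subgroup G) : Set G))) = s₀ • (u • QuotientGroup.mk 1) := by
    rw [mul_smul, mul_smul, hginv, h3]
  have hβ := u_smul_ne (T := T) huH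
  have hγ : s₀ • (u • (QuotientGroup.mk 1 : G ⧸ normalizer ((T : Subgroup G) : Set G))) ≠
      QuotientGroup.mk 1 := by
    intro he
    apply hβ
    have : u • (QuotientGroup.mk 1 : G ⧸ normalizer ((T : Subgroup G) : Set G)) =
        s₀⁻¹ • (s₀ • (u • QuotientGroup.mk 1)) := by rw [inv_smul_smul]
    rw [this, he]
    exact T_smul h _ (inv_mem hs₀)
  obtain ⟨t, -, htu⟩ := regular_T h hu1 hu2 huH hβ hγ
  have e1 := htu (g * s₀ * g⁻¹) ⟨hconj, h4⟩
  have e2 := htu s₀ ⟨hs₀, rfl⟩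
  have h5 : g * s₀ * g⁻¹ = s₀ := e1.trans e2.symm
  have h6 : g ∈ centralizer ({s₀} : Set G) := by
    rw [mem_centralizer_iff]
    intro y hy
    rw [Set.mem_singleton_iff] at hy
    rw [hy]
    calc s₀ * g = (g * s₀ * g⁻¹) * g := by rw [h5]
      _ = g * s₀ := by group
  rw [h.cent_eq_T hs₀ hs₀1] at h6
  have h7 : g ∈ Dg T u ⊓ (T : Subgroup G) := mem_inf.mpr ⟨hgD, h6⟩
  rw [Dg_inf_T h huH, mem_bot] at h7
  exact h7

end Three

end Hyp

end Cfsg.Agent.Lib.Helper5_CIT
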