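import Mathlib
import Cfsg.Agent.Lib.Helper5_CharP
import Cfsg.Agent.Lib.Helper5_AxB

set_option autoImplicit false

/-!
More on groups of characteristic `p` (helper5): self-centralizing normal subgroups of a Sylow
subgroup.
-/

namespace Cfsg.Agent.Lib.Helper5_CharP2

open Cfsg Cfsg.Agent.Lib.Helper5_CharP Cfsg.Agent.Lib.Helper5_AxB

variable {G : Type*} [Group G]

theorem conj_mem_centralizer {Q : Subgroup G} {g c : G}
    (hg : g ∈ Subgroup.normalizer (Q : Set G)) (hc : c ∈ Subgroup.centralizer (Q : Set G)) :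
    g * c * g⁻¹ ∈ Subgroup.centralizer (Q : Set G) := by
  rw [Subgroup.mem_centralizer_iff]
  intro q hq
  have hq' : g⁻¹ * q * g ∈ Q := conj_mem_of_mem_normalizer' hg hq
  have := (Subgroup.mem_centralizer_iff.1 hc) _ hq'
  calc q * (g * c * g⁻¹) = g * ((g⁻¹ * q * g) * c) * g⁻¹ := by group
    _ = g * (c * (g⁻¹ * q * g)) * g⁻¹ := by rw [this]
    _ = g * c * g⁻¹ * q := by group

theorem normalizer_le_normalizer_centralizer (Q : Subgroup G) :
    Subgroup.normalizer (Q : Set G) ≤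
      Subgroup.normalizer ((Subgroup.centralizer (Q : Set G) : Subgroup G) : Set G) := by
  intro g hg
  apply mem_normalizer_of_forall_conj_mem
  · intro c hc
    exact conj_mem_centralizer hg hc
  · intro c hc
    have := conj_mem_centralizer (Subgroup.inv_mem _ hg) hc
    simpa using this

theorem le_normalizer_of_normal {N : Subgroup G} (hN : N.Normal) (H : Subgroup G) :
    H ≤ Subgroup.normalizer (N : Set G) := by
  intro x _
  apply mem_normalizer_of_forall_conj_mem
  · intro n hn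
    exact hN.conj_mem n hn x
  · intro n hn
    have := hN.conj_mem n hn x⁻¹
    simpa using this

theorem coprime_of_mem_zpowers {p : ℕ} {d a : G} (hd : (orderOf d).Coprime p)
    (ha : a ∈ Subgroup.zpowers d) : (orderOf a).Coprime p :=
  Nat.Coprime.coprime_dvd_left (orderOf_dvd_of_mem_zpowers ha) hd

/-- In a group of characteristic `p`, a `p'`-element `d` centralizing a `p`-subgroup `B`
and `C_{O_p(G)}(B)` is trivial. -/
theorem eq_one_of_centralizes [Finite G] {p : ℕ} [Fact p.Prime]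
    (hG : Subgroup.centralizer (Cfsg.pCore p G : Set G) ≤ Cfsg.pCore p G)
    {B : Subgroup G} (hB : IsPGroup p B) {d : G} (hco : (orderOf d).Coprime p)
    (hdB : d ∈ Subgroup.centralizer (B : Set G))
    (hdV : d ∈ Subgroup.centralizer
      ((Cfsg.pCore p G ⊓ Subgroup.centralizer (B : Set G) : Subgroup G) : Set G)) : d = 1 := by
  have hPn : (Cfsg.pCore p G).Normal := pCore_normal p G
  have hPp : IsPGroup p (Cfsg.pCore p G) := pCore_isPGroup
  have h1 : Cfsg.pCore p G ≤ Subgroup.centralizer ((Subgroup.zpowers d : Subgroup G) : Set G) := by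
    apply thompson_AxB (Subgroup.zpowers d) B (fun a ha => coprime_of_mem_zpowers hco ha) hB
      (Subgroup.zpowers_le.2 hdB) _ hPp (le_normalizer_of_normal hPn _)
      (le_normalizer_of_normal hPn _)
    rw [Subgroup.le_centralizer_iff]
    exact Subgroup.zpowers_le.2 hdV
  have h2 : d ∈ Subgroup.centralizer (Cfsg.pCore p G : Set G) := by
    rw [Subgroup.le_centralizer_iff] at h1
    exact h1 (Subgroup.mem_zpowers d)
  exact eq_one_of_mem_pGroup_of_coprime hPp (hG h2) hco

/-- `S2960` inside the ambient group. -/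
theorem centralizer_le_of_self_centralizing [Finite G] {p : ℕ} [Fact p.Prime]
    (hG : Subgroup.centralizer (Cfsg.pCore p G : Set G) ≤ Cfsg.pCore p G) (T : Sylow p G)
    (Q : Subgroup G) (hQT : Q ≤ (T : Subgroup G))
    (hQn : (T : Subgroup G) ≤ Subgroup.normalizer (Q : Set G))
    (hC : (T : Subgroup G) ⊓ Subgroup.centralizer (Q : Set G) ≤ Q) :
    Subgroup.centralizer (Q : Set G) ≤ Q := by
  have hQp : IsPGroup p Q := T.isPGroup'.to_le hQT
  have hCp : IsPGroup p (Subgroup.centralizer (Q : Set G)) := by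
    apply isPGroup_of_forall_coprime_eq_one
    intro d hd hco
    apply eq_one_of_centralizes hG hQp hco hd
    have h1 : Cfsg.pCore p G ⊓ Subgroup.centralizer (Q : Set G) ≤ Q :=
      (inf_le_inf_right _ (pCore_le_sylow T)).trans hC
    have h2 : Q ≤ Subgroup.centralizer ({d} : Set G) := by
      intro q hq
      rw [Subgroup.mem_centralizer_singleton_iff]
      exact ((Subgroup.mem_centralizer_iff.1 hd) q hq)
    rw [Subgroup.mem_centralizer_iff]
    intro v hv
    have := h2 (h1 hv)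
    rw [Subgroup.mem_centralizer_singleton_iff] at this
    exact this
  have hTN : (T : Subgroup G) ≤
      Subgroup.normalizer ((Subgroup.centralizer (Q : Set G) : Subgroup G) : Set G) :=
    hQn.trans (normalizer_le_normalizer_centralizer Q)
  have hsup : IsPGroup p ((Subgroup.centralizer (Q : Set G) ⊔ (T : Subgroup G) : Subgroup G)) :=
    hCp.to_sup_of_normal_left' T.isPGroup' hTN
  have heq := T.is_maximal' hsup le_sup_right
  have hCT : Subgroup.centralizer (Q : Set G) ≤ (T : Subgroup G) := by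
    rw [← heq]; exact le_sup_left
  exact (le_inf hCT le_rfl).trans hC

/-- the kernel of the action of `L` on `V / V0`, as a subgroup of the ambient group -/
def actKer (L V V0 : Subgroup G)
    (hLV : ∀ l ∈ L, ∀ v ∈ V, l * v * l⁻¹ ∈ V)
    (hLV0 : ∀ l ∈ L, ∀ v ∈ V0, l * v * l⁻¹ ∈ V0) : Subgroup G where
  carrier := {l | l ∈ L ∧ ∀ v ∈ V, v⁻¹ * (l * v * l⁻¹) ∈ V0}
  one_mem' := by
    refine ⟨L.one_mem, ?_⟩
    intro v _
    simp
  mul_mem' := by
    rintro a b ⟨haL, ha⟩ ⟨hbL, hb⟩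
    refine ⟨L.mul_mem haL hbL, ?_⟩
    intro v hv
    have h1 := ha v hv
    have h2 := hLV0 a haL _ (hb v hv)
    have : v⁻¹ * (a * b * v * (a * b)⁻¹) =
        (v⁻¹ * (a * v * a⁻¹)) * (a * (v⁻¹ * (b * v * b⁻¹)) * a⁻¹) := by group
    rw [this]
    exact V0.mul_mem h1 h2
  inv_mem' := by
    rintro a ⟨haL, ha⟩
    refine ⟨L.inv_mem haL, ?_⟩
    intro v hv
    have hw : a⁻¹ * v * a ∈ V := by
      have := hLV a⁻¹ (L.inv_mem haL) v hv
      simpa using this
    have h1 := ha _ hw
    have h2 := V0.inv_mem h1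
    have : v⁻¹ * (a⁻¹ * v * a⁻¹⁻¹) = (((a⁻¹ * v * a)⁻¹ * (a * (a⁻¹ * v * a) * a⁻¹)))⁻¹ := by group
    rw [this]
    exact h2

theorem mem_actKer {L V V0 : Subgroup G}
    {hLV : ∀ l ∈ L, ∀ v ∈ V, l * v * l⁻¹ ∈ V}
    {hLV0 : ∀ l ∈ L, ∀ v ∈ V0, l * v * l⁻¹ ∈ V0} {l : G} :
    l ∈ actKer L V V0 hLV hLV0 ↔ l ∈ L ∧ ∀ v ∈ V, v⁻¹ * (l * v * l⁻¹) ∈ V0 := Iff.rfl

theorem actKer_le {L V V0 : Subgroup G}
    (hLV : ∀ l ∈ L, ∀ v ∈ V, l * v * l⁻¹ ∈ V)
    (hLV0 : ∀ l ∈ L, ∀ v ∈ V0, l * v * l⁻¹ ∈ V0) : actKer L V V0 hLV hLV0 ≤ L :=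
  fun _ h => h.1

theorem le_normalizer_actKer {L V V0 : Subgroup G}
    (hLV : ∀ l ∈ L, ∀ v ∈ V, l * v * l⁻¹ ∈ V)
    (hLV0 : ∀ l ∈ L, ∀ v ∈ V0, l * v * l⁻¹ ∈ V0) :
    L ≤ Subgroup.normalizer ((actKer L V V0 hLV hLV0 : Subgroup G) : Set G) := by
  have key : ∀ l ∈ L, ∀ k ∈ actKer L V V0 hLV hLV0, l * k * l⁻¹ ∈ actKer L V V0 hLV hLV0 := by
    intro l hl k hk
    obtain ⟨hkL, hk⟩ := hk
    refine ⟨L.mul_mem (L.mul_mem hl hkL) (L.inv_mem hl), ?_⟩
    intro v hv
    have hw : l⁻¹ * v * l ∈ V := by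
      have := hLV l⁻¹ (L.inv_mem hl) v hv
      simpa using this
    have h1 := hLV0 l hl _ (hk _ hw)
    have : v⁻¹ * (l * k * l⁻¹ * v * (l * k * l⁻¹)⁻¹) =
        l * ((l⁻¹ * v * l)⁻¹ * (k * (l⁻¹ * v * l) * k⁻¹)) * l⁻¹ := by group
    rw [this]
    exact h1
  intro l hl
  apply mem_normalizer_of_forall_conj_mem
  · exact key l hl
  · intro k hk
    have := key l⁻¹ (L.inv_mem hl) k hk
    simpa using this

/-- `S2961` inside the ambient group. -/
theorem charPSub_of_self_centralizing_le [Finite G] {p : ℕ} [Fact p.Prime]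
    (hG : Subgroup.centralizer (Cfsg.pCore p G : Set G) ≤ Cfsg.pCore p G) (T : Sylow p G)
    (Q : Subgroup G) (hQT : Q ≤ (T : Subgroup G))
    (hQn : (T : Subgroup G) ≤ Subgroup.normalizer (Q : Set G))
    (hC : (T : Subgroup G) ⊓ Subgroup.centralizer (Q : Set G) ≤ Q) :
    ∀ L : Subgroup G, Q ≤ L → CharPSub p L := by
  have hQp : IsPGroup p Q := T.isPGroup'.to_le hQT
  have hCQ : Subgroup.centralizer (Q : Set G) ≤ Q :=
    centralizer_le_of_self_centralizing hG T Q hQT hQn hC
  have hPn : (Cfsg.pCore p G).Normal := pCore_normal p G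
  have hPp : IsPGroup p (Cfsg.pCore p G) := pCore_isPGroup
  have hPQ : Cfsg.pCore p G ≤ Subgroup.normalizer (Q : Set G) := (pCore_le_sylow T).trans hQn
  intro L
  induction' hn : Nat.card L using Nat.strong_induction_on with n ih generalizing L
  intro hQL
  set R := Cfsg.pCoreOf p L with hR
  have hRp : IsPGroup p R := pCoreOf_isPGroup p L
  have hRL : R ≤ L := pCoreOf_le p L
  have hLR : L ≤ Subgroup.normalizer (R : Set G) := le_normalizer_pCoreOf p L
  -- `P ⊓ L ≤ R`
  have hPL : Cfsg.pCore p G ⊓ L ≤ R := by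
    apply le_pCoreOf inf_le_right (hPp.to_le inf_le_left)
    intro l hl
    apply mem_normalizer_of_forall_conj_mem
    · intro x hx
      exact ⟨hPn.conj_mem x hx.1 l, L.mul_mem (L.mul_mem hl hx.2) (L.inv_mem hl)⟩
    · intro x hx
      refine ⟨?_, L.mul_mem (L.mul_mem (L.inv_mem hl) hx.2) hl⟩
      have := hPn.conj_mem x hx.1 l⁻¹
      simpa using this
  apply charPSub_of_forall_coprime
  intro d hdL hdC hco
  set V : Subgroup G := Cfsg.pCore p G ⊓ Subgroup.centralizer (R : Set G) with hV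
  set V0 : Subgroup G := V ⊓ R with hV0
  have hLV : ∀ l ∈ L, ∀ v ∈ V, l * v * l⁻¹ ∈ V := by
    intro l hl v hv
    exact ⟨hPn.conj_mem v hv.1 l, conj_mem_centralizer (hLR hl) hv.2⟩
  have hLV0 : ∀ l ∈ L, ∀ v ∈ V0, l * v * l⁻¹ ∈ V0 := by
    intro l hl v hv
    exact ⟨hLV l hl v hv.1, conj_mem_of_mem_normalizer (hLR hl) hv.2⟩
  set K := actKer L V V0 hLV hLV0 with hK
  have hKL : K ≤ L := actKer_le hLV hLV0
  have hLK : L ≤ Subgroup.normalizer (K : Set G) := le_normalizer_actKer hLV hLV0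
  have hQK : Q ≤ K := by
    intro q hq
    refine ⟨hQL hq, ?_⟩
    intro v hv
    have hzV : v⁻¹ * (q * v * q⁻¹) ∈ V := V.mul_mem (V.inv_mem hv) (hLV q (hQL hq) v hv)
    refine ⟨hzV, hPL ⟨hzV.1, ?_⟩⟩
    have h1 : v⁻¹ * q * v ∈ Q := conj_mem_of_mem_normalizer' (hPQ hv.1) hq
    have : v⁻¹ * (q * v * q⁻¹) = (v⁻¹ * q * v) * q⁻¹ := by group
    rw [this]
    exact L.mul_mem (hQL h1) (L.inv_mem (hQL hq))
  by_cases hcase : L ≤ K
  · -- `L` acts trivially on `V / V0`
    have hdK : d ∈ K := hcase hdL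
    apply eq_one_of_centralizes hG hRp hco hdC
    rw [Subgroup.mem_centralizer_iff]
    intro v hv
    set z := v⁻¹ * (d * v * d⁻¹) with hz
    have hzV0 : z ∈ V0 := hdK.2 v hv
    have hcomm : Commute d z := ((Subgroup.mem_centralizer_iff.1 hdC) z hzV0.2).symm
    have hz1 : z = 1 := by
      apply eq_one_of_conj_eq_mul (d := d) (x := v) _ hcomm
        (coprime_orderOf_of_mem_pGroup hRp hzV0.2 hco)
      rw [hz]; group
    have h8 : d * v * d⁻¹ = v := by
      have h9 : d * v * d⁻¹ = v * z := by rw [hz]; group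
      rw [h9, hz1, mul_one]
    calc v * d = (d * v * d⁻¹) * d := by rw [h8]
      _ = d * v := by group
  · -- `K < L`: induction
    have hcard : Nat.card K < n := by
      by_contra hcon
      push Not at hcon
      rw [← hn] at hcon
      exact hcase (Subgroup.eq_of_le_of_card_ge hKL hcon).ge
    have hKc : CharPSub p K := ih _ hcard K rfl hQK
    have hOK : Cfsg.pCoreOf p K ≤ R := by
      apply le_pCoreOf ((pCoreOf_le p K).trans hKL) (pCoreOf_isPGroup p K)
      exact hLK.trans (normalizer_le_normalizer_pCoreOf p K)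
    have hdQ : d ∈ Subgroup.centralizer (Q : Set G) := by
      rw [Subgroup.mem_centralizer_iff]
      intro q hq
      set z := q⁻¹ * (d * q * d⁻¹) with hz
      have hzK : z ∈ K :=
        K.mul_mem (K.inv_mem (hQK hq)) (conj_mem_of_mem_normalizer (hLK hdL) (hQK hq))
      have hzC : z ∈ Subgroup.centralizer (R : Set G) := by
        have h1 : q⁻¹ * d * q ∈ Subgroup.centralizer (R : Set G) := by
          have := conj_mem_centralizer (Subgroup.inv_mem _ (hLR (hQL hq))) hdC
          simpa using this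
        have : z = (q⁻¹ * d * q) * d⁻¹ := by rw [hz]; group
        rw [this]
        exact Subgroup.mul_mem _ h1 (Subgroup.inv_mem _ hdC)
      have hzC' : z ∈ Subgroup.centralizer (Cfsg.pCoreOf p K : Set G) :=
        Subgroup.centralizer_le (by exact_mod_cast hOK) hzC
      have hzR : z ∈ R := hOK (hKc ⟨hzK, hzC'⟩)
      have hcomm : Commute d z := ((Subgroup.mem_centralizer_iff.1 hdC) z hzR).symm
      have hz1 : z = 1 := by
        apply eq_one_of_conj_eq_mul (d := d) (x := q) _ hcomm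
          (coprime_orderOf_of_mem_pGroup hRp hzR hco)
        rw [hz]; group
      have h8 : d * q * d⁻¹ = q := by
        have h9 : d * q * d⁻¹ = q * z := by rw [hz]; group
        rw [h9, hz1, mul_one]
      calc q * d = (d * q * d⁻¹) * d := by rw [h8]
        _ = d * q := by group
    exact eq_one_of_mem_pGroup_of_coprime hQp (hCQ hdQ) hco

end Cfsg.Agent.Lib.Helper5_CharP2
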