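import Mathlib
import Cfsg.Prelude.Def_LocalStructure
import Cfsg.Agent.Lib.Helper5_Sylow
import Cfsg.Agent.Lib.Helper5_Residual

set_option autoImplicit false

namespace Cfsg.Agent.Lib.Helper5_WC

open Cfsg.Agent.Lib.Helper5_Sylow Cfsg.Agent.Lib.Helper5_Residual
open Subgroup
open scoped Pointwise

variable {G : Type*} [Group G]

/-- conjugate of a subgroup -/
abbrev cj (g : G) (W : Subgroup G) : Subgroup G := W.map (MulAut.conj g).toMonoidHom

theorem cj_cj (a b : G) (W : Subgroup G) : cj a (cj b W) = cj (a * b) W := map_conj_mul a b W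

theorem cj_one (W : Subgroup G) : cj 1 W = W := by
  ext x
  simp [cj]

theorem cj_mono (g : G) {W W' : Subgroup G} (h : W ≤ W') : cj g W ≤ cj g W' := Subgroup.map_mono h

theorem mem_cj {g x : G} {W : Subgroup G} : x ∈ cj g W ↔ g⁻¹ * x * g ∈ W := by
  constructor
  · rintro ⟨y, hy, rfl⟩
    simp only [MulEquiv.coe_toMonoidHom, MulAut.conj_apply]
    have : g⁻¹ * (g * y * g⁻¹) * g = y := by group
    rwa [this]
  · intro h
    refine ⟨_, h, ?_⟩
    simp only [MulEquiv.coe_toMonoidHom, MulAut.conj_apply]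
    group

theorem conj_mem_cj {g x : G} {W : Subgroup G} (h : x ∈ W) : g * x * g⁻¹ ∈ cj g W :=
  ⟨x, h, rfl⟩

theorem cj_eq_of_le [Finite G] (g : G) {W W' : Subgroup G} (h1 : cj g W ≤ W')
    (h2 : Nat.card W' ≤ Nat.card W) : cj g W = W' :=
  Subgroup.eq_of_le_of_card_ge h1 (by rw [card_map_conj]; exact h2)

theorem cj_eq_of_mem_normalizer {g : G} {W : Subgroup G} (hg : g ∈ normalizer (W : Set G)) :
    cj g W = W := by
  ext x
  rw [mem_cj]
  have hg' : g⁻¹ ∈ normalizer (W : Set G) := Subgroup.inv_mem _ hg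
  have := (mem_normalizer_iff.mp hg' x)
  rw [inv_inv] at this
  exact this.symm

theorem mem_normalizer_of_cj_eq {g : G} {W : Subgroup G} (h : cj g W = W) :
    g ∈ normalizer (W : Set G) := mem_normalizer_of_map_eq g W h

theorem mem_normalizer_of_cj_le [Finite G] {g : G} {W : Subgroup G} (h : cj g W ≤ W) :
    g ∈ normalizer (W : Set G) := mem_normalizer_of_cj_eq (cj_eq_of_le g h le_rfl)

theorem le_cj_inv {g : G} {W W' : Subgroup G} (h : cj g W ≤ W') : W ≤ cj g⁻¹ W' := by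
  have := cj_mono g⁻¹ h
  rw [cj_cj, inv_mul_cancel, cj_one] at this
  exact this

theorem cj_inv_le {g : G} {W W' : Subgroup G} (h : W ≤ cj g W') : cj g⁻¹ W ≤ W' := by
  have := cj_mono g⁻¹ h
  rw [cj_cj, inv_mul_cancel, cj_one] at this
  exact this

theorem cj_eq_iff {g : G} {W W' : Subgroup G} : cj g W = W' ↔ W = cj g⁻¹ W' := by
  constructor
  · rintro rfl; rw [cj_cj, inv_mul_cancel, cj_one]
  · intro h; rw [h, cj_cj, mul_inv_cancel, cj_one]

theorem isPGroup_cj {p : ℕ} {g : G} {W : Subgroup G} (h : IsPGroup p W) : IsPGroup p (cj g W) :=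
  h.map _

/-- the normalizer of a conjugate -/
theorem cj_le_normalizer_cj {g : G} {W R : Subgroup G} (h : R ≤ normalizer (W : Set G)) :
    cj g R ≤ normalizer ((cj g W : Subgroup G) : Set G) := by
  rintro _ ⟨r, hr, rfl⟩
  apply mem_normalizer_of_cj_eq
  simp only [MulEquiv.coe_toMonoidHom, MulAut.conj_apply]
  rw [cj_cj]
  have : g * r * g⁻¹ * g = g * r := by group
  rw [this, ← cj_cj, cj_eq_of_mem_normalizer (h hr)]

section wc

variable [Finite G] {p : ℕ} [Fact p.Prime] {Q : Subgroup G}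

/-- a Sylow `p`-subgroup of the subgroup `K`, containing the `p`-subgroup `R ≤ K`,
  and a Sylow of `G` above it -/
theorem exists_sylow_pair {R K : Subgroup G} (hR : IsPGroup p R) :
    ∃ (TK : Sylow p ↥K) (T : Sylow p G), R.subgroupOf K ≤ (TK : Subgroup ↥K) ∧
      (TK : Subgroup ↥K).map K.subtype ≤ (T : Subgroup G) := by
  obtain ⟨TK, hTK⟩ := (hR.comap_subtype (K := K)).exists_le_sylow
  have h2 : IsPGroup p ((TK : Subgroup ↥K).map K.subtype) := TK.isPGroup'.map _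
  obtain ⟨T, hT⟩ := h2.exists_le_sylow
  exact ⟨TK, T, hTK, hT⟩

/-- weakly closed in one Sylow ⇒ weakly closed in every Sylow containing it -/
theorem wc_all (hwc : Cfsg.IsWeaklyClosedSubgroup p Q) (T' : Sylow p G)
    (hQT' : Q ≤ (T' : Subgroup G)) : Cfsg.IsWeaklyClosed Q (T' : Subgroup G) := by
  obtain ⟨T, hQT, hT⟩ := hwc
  refine ⟨hQT', ?_⟩
  obtain ⟨h, hh⟩ := MulAction.exists_smul_eq G T' T
  -- `cj h T' = T`
  have hT' : cj h (T' : Subgroup G) = (T : Subgroup G) := by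
    rw [← hh]; rfl
  have h1 : cj h Q = Q := hT h (by rw [← hT']; exact cj_mono h hQT')
  intro g hg
  have h2 : cj (h * g) Q = Q := hT (h * g) (by
    show cj (h * g) Q ≤ (T : Subgroup G)
    rw [← cj_cj, ← hT']; exact cj_mono h hg)
  show cj g Q = Q
  rw [← cj_cj, cj_eq_iff] at h2
  rw [h2]
  exact (cj_eq_iff.mp h1).symm

theorem wc_eq_of_le_pgroup (hwc : Cfsg.IsWeaklyClosedSubgroup p Q) {R : Subgroup G}
    (hR : IsPGroup p R) (hQR : Q ≤ R) {g : G} (hg : cj g Q ≤ R) : cj g Q = Q := by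
  obtain ⟨T, hT⟩ := hR.exists_le_sylow
  exact (wc_all hwc T (hQR.trans hT)).2 g (hg.trans hT)

/-- (c): the normalizer of any `p`-overgroup normalizes `Q` -/
theorem wc_normalizer_le (hwc : Cfsg.IsWeaklyClosedSubgroup p Q) {R : Subgroup G}
    (hR : IsPGroup p R) (hQR : Q ≤ R) : normalizer (R : Set G) ≤ normalizer (Q : Set G) := by
  intro n hn
  apply mem_normalizer_of_cj_eq
  apply wc_eq_of_le_pgroup hwc hR hQR
  have := cj_mono n hQR
  rwa [cj_eq_of_mem_normalizer hn] at this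

theorem wc_le_normalizer (hwc : Cfsg.IsWeaklyClosedSubgroup p Q) {R : Subgroup G}
    (hR : IsPGroup p R) (hQR : Q ≤ R) : R ≤ normalizer (Q : Set G) :=
  le_normalizer.trans (wc_normalizer_le hwc hR hQR)

/-- conjugates of `Q` inside `K ≥ Q` are `K`-conjugates -/
theorem wc_conj_in (hwc : Cfsg.IsWeaklyClosedSubgroup p Q) (hQp : IsPGroup p Q)
    {K : Subgroup G} (hQK : Q ≤ K) {g : G} (hg : cj g Q ≤ K) : ∃ k ∈ K, cj g Q = cj k Q := by
  obtain ⟨TK, T, hQTK, hTKT⟩ := exists_sylow_pair (K := K) hQp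
  -- `cj g Q` is a `p`-subgroup of `K`; conjugate into `TK`
  have hgp : IsPGroup p ((cj g Q).subgroupOf K) := (isPGroup_cj hQp).comap_subtype
  obtain ⟨TK', hTK'⟩ := hgp.exists_le_sylow
  obtain ⟨k, hk⟩ := MulAction.exists_smul_eq ↥K TK' TK
  -- `cj k⁻¹` hmm: `k • TK' = TK`
  have h1 : cj (k : G) (cj g Q) ≤ (T : Subgroup G) := by
    rintro _ ⟨x, hx, rfl⟩
    have hxK : x ∈ K := hg hx
    apply hTKT
    refine ⟨k * ⟨x, hxK⟩ * k⁻¹, ?_, ?_⟩
    · have : (⟨x, hxK⟩ : ↥K) ∈ (TK' : Subgroup ↥K) := hTK' (mem_subgroupOf.mpr hx)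
      have h3 : k * ⟨x, hxK⟩ * k⁻¹ ∈ ((k • TK' : Sylow p ↥K) : Subgroup ↥K) :=
        ⟨_, this, rfl⟩
      rw [hk] at h3
      exact h3
    · simp
  have hQT : Q ≤ (T : Subgroup G) := by
    intro x hx
    apply hTKT
    exact ⟨⟨x, hQK hx⟩, hQTK (mem_subgroupOf.mpr hx), rfl⟩
  rw [cj_cj] at h1
  have h2 := (wc_all hwc T hQT).2 _ h1
  refine ⟨(k : G)⁻¹, K.inv_mem k.2, ?_⟩
  have h3 : cj ((k : G) * g) Q = Q := h2
  rw [← cj_cj, cj_eq_iff] at h3
  exact h3


omit [Finite G] [Fact p.Prime] in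
theorem map_subtype_cj_subgroupOf {K : Subgroup G} (hQK : Q ≤ K) (k : ↥K) :
    (cj k (Q.subgroupOf K)).map K.subtype = cj (k : G) Q := by
  ext x
  constructor
  · rintro ⟨_, ⟨q, hq, rfl⟩, rfl⟩
    exact ⟨q.1, mem_subgroupOf.mp hq, by simp⟩
  · rintro ⟨q, hq, rfl⟩
    exact ⟨k * ⟨q, hQK hq⟩ * k⁻¹, ⟨⟨q, hQK hq⟩, mem_subgroupOf.mpr hq, rfl⟩, by simp⟩

/-- `Q` is a weakly closed subgroup of every `K ≥ Q` -/
theorem wc_subgroupOf (hwc : Cfsg.IsWeaklyClosedSubgroup p Q) (hQp : IsPGroup p Q)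
    {K : Subgroup G} (hQK : Q ≤ K) : Cfsg.IsWeaklyClosedSubgroup p (Q.subgroupOf K) := by
  obtain ⟨TK, T, hQTK, hTKT⟩ := exists_sylow_pair (K := K) hQp
  refine ⟨TK, hQTK, ?_⟩
  intro k hk
  have hQT : Q ≤ (T : Subgroup G) := by
    intro x hx
    apply hTKT
    exact ⟨⟨x, hQK hx⟩, hQTK (mem_subgroupOf.mpr hx), rfl⟩
  have h1 : cj (k : G) Q ≤ (T : Subgroup G) := by
    rw [← map_subtype_cj_subgroupOf hQK k]
    exact (Subgroup.map_mono hk).trans hTKT
  have h2 : cj (k : G) Q = Q := (wc_all hwc T hQT).2 _ h1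
  show cj k (Q.subgroupOf K) = Q.subgroupOf K
  apply Subgroup.map_injective K.subtype_injective
  rw [map_subtype_cj_subgroupOf hQK k, h2, subgroupOf_map_subtype, inf_eq_left.mpr hQK]

/-- the normalizer of `Q` in `K ≥ Q` contains a Sylow `p`-subgroup of `K` -/
theorem wc_parabolic (hwc : Cfsg.IsWeaklyClosedSubgroup p Q) (hQp : IsPGroup p Q)
    {K : Subgroup G} (hQK : Q ≤ K) :
    Cfsg.IsParabolic p ((normalizer (Q : Set G)).subgroupOf K) := by
  obtain ⟨TK, T, hQTK, hTKT⟩ := exists_sylow_pair (K := K) hQp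
  refine ⟨TK, ?_⟩
  have hQT : Q ≤ (T : Subgroup G) := by
    intro x hx
    apply hTKT
    exact ⟨⟨x, hQK hx⟩, hQTK (mem_subgroupOf.mpr hx), rfl⟩
  intro y hy
  rw [mem_subgroupOf]
  exact wc_le_normalizer hwc T.isPGroup' hQT (hTKT ⟨y, hy, rfl⟩)


/-- `N = N_N(Q) O^p(N)` for `N` normal -/
theorem wc_sup_residual (hwc : Cfsg.IsWeaklyClosedSubgroup p Q) (hQp : IsPGroup p Q)
    (N : Subgroup G) [hN : N.Normal] :
    (N ⊓ normalizer (Q : Set G)) ⊔ (Cfsg.pResidual p ↥N).map N.subtype = N := by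
  apply le_antisymm
  · exact sup_le inf_le_left (Subgroup.map_subtype_le _)
  obtain ⟨T, hQT⟩ := hQp.exists_le_sylow
  have hTN : (T : Subgroup G) ≤ normalizer (Q : Set G) := wc_le_normalizer hwc T.isPGroup' hQT
  have h1 := le_sup_residualOf p N (T : Subgroup G) (not_dvd_relIndex_of_normal T N)
  have hres : residualOf p N ≤ (Cfsg.pResidual p ↥N).map N.subtype := by
    unfold residualOf
    rw [Subgroup.closure_le]
    rintro g ⟨hg, hc⟩
    refine ⟨⟨g, hg⟩, ?_, rfl⟩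
    apply Subgroup.subset_closure
    show Nat.Coprime (orderOf (⟨g, hg⟩ : ↥N)) p
    have : orderOf ((⟨g, hg⟩ : ↥N) : G) = orderOf (⟨g, hg⟩ : ↥N) := Subgroup.orderOf_coe _
    rw [← this]; exact hc
  have := residualOf_normal p N
  intro x hx
  have h2 := h1 hx
  have h3 : x ∈ ((T : Subgroup G) : Set G) * (residualOf p N : Set G) := by
    rw [← Subgroup.mul_normal]; exact h2
  obtain ⟨t, ht, r, hr, rfl⟩ := Set.mem_mul.mp h3
  have hrN : r ∈ N := residualOf_le p N hr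
  have htN : t ∈ N := by
    have := N.mul_mem hx (N.inv_mem hrN)
    rwa [mul_inv_cancel_right] at this
  exact Subgroup.mul_mem_sup (mem_inf.mpr ⟨htN, hTN ht⟩) (hres hr)

/-- the image of `Q` in `G ⧸ N` is a weakly closed subgroup -/
theorem wc_quotient (hwc : Cfsg.IsWeaklyClosedSubgroup p Q) (hQp : IsPGroup p Q)
    (N : Subgroup G) [hN : N.Normal] :
    Cfsg.IsWeaklyClosedSubgroup p (Q.map (QuotientGroup.mk' N)) := by
  obtain ⟨T, hQT⟩ := hQp.exists_le_sylow
  have hTN : (T : Subgroup G) ≤ normalizer (Q : Set G) := wc_le_normalizer hwc T.isPGroup' hQT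
  refine ⟨T.mapSurjective (QuotientGroup.mk'_surjective N), Subgroup.map_mono hQT, ?_⟩
  intro gb hgb
  obtain ⟨g, rfl⟩ := QuotientGroup.mk'_surjective N gb
  have hcomm : (Q.map (QuotientGroup.mk' N)).map (MulAut.conj (QuotientGroup.mk' N g)).toMonoidHom
      = (cj g Q).map (QuotientGroup.mk' N) := by
    rw [Subgroup.map_map, Subgroup.map_map]
    congr 1
  rw [hcomm] at hgb ⊢
  rw [Sylow.coe_mapSurjective, Subgroup.map_le_iff_le_comap, Subgroup.comap_map_eq,
    QuotientGroup.ker_mk'] at hgb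
  -- `cj g Q ≤ T ⊔ N`
  obtain ⟨x, hx, hxQ⟩ := wc_conj_in hwc hQp (hQT.trans le_sup_left) hgb
  rw [sup_comm] at hx
  have h3 : x ∈ (N : Set G) * ((T : Subgroup G) : Set G) := by
    rw [← Subgroup.normal_mul]; exact hx
  obtain ⟨n, hn, t, ht, rfl⟩ := Set.mem_mul.mp h3
  rw [hxQ, ← cj_cj, cj_eq_of_mem_normalizer (hTN ht)]
  ext y
  constructor
  · rintro ⟨_, ⟨q, hq, rfl⟩, rfl⟩
    refine ⟨q, hq, ?_⟩
    have : (n : G ⧸ N) = 1 := (QuotientGroup.eq_one_iff n).mpr hn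
    simp [this]
  · rintro ⟨q, hq, rfl⟩
    refine ⟨n * q * n⁻¹, ⟨q, hq, rfl⟩, ?_⟩
    have : (n : G ⧸ N) = 1 := (QuotientGroup.eq_one_iff n).mpr hn
    simp [this]


/-- the join of all conjugates (the normal closure) -/
def conjClosure (Q : Subgroup G) : Subgroup G := ⨆ k : G, cj k Q

omit [Finite G] in
theorem conjClosure_normal (Q : Subgroup G) : (conjClosure Q).Normal := by
  constructor
  intro n hn g
  have h1 : g * n * g⁻¹ ∈ cj g (conjClosure Q) := ⟨n, hn, rfl⟩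
  have h2 : cj g (conjClosure Q) ≤ conjClosure Q := by
    unfold conjClosure
    rw [cj, Subgroup.map_iSup]
    apply iSup_le
    intro k
    show cj g (cj k Q) ≤ _
    rw [cj_cj]
    exact le_iSup (fun k : G => cj k Q) (g * k)
  exact h2 h1

omit [Finite G] in
theorem le_conjClosure (Q : Subgroup G) : Q ≤ conjClosure Q := by
  have := le_iSup (fun k : G => cj k Q) 1
  simp only [cj_one] at this
  exact this

/-- all conjugates of a weakly closed `Q` lie in every subnormal subgroup containing `Q` -/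
theorem wc_conj_le_of_subnormal (hwc : Cfsg.IsWeaklyClosedSubgroup p Q) (hQp : IsPGroup p Q)
    {L : Subgroup G} (hL : L.IsSubnormal) : Q ≤ L → ∀ g : G, cj g Q ≤ L := by
  induction hL with
  | top => intro _ g; exact le_top
  | step L L₁ hle hsub hnorm ih =>
    intro hQL g
    have h1 : cj g Q ≤ L₁ := ih (hQL.trans hle) g
    obtain ⟨k, hk, hkQ⟩ := wc_conj_in hwc hQp (hQL.trans hle) h1
    rw [hkQ]
    rintro _ ⟨q, hq, rfl⟩
    have hqL : (⟨q, hle (hQL hq)⟩ : ↥L₁) ∈ L.subgroupOf L₁ := mem_subgroupOf.mpr (hQL hq)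
    have := hnorm.conj_mem _ hqL ⟨k, hk⟩
    exact mem_subgroupOf.mp this

theorem wc_subnormalClosure (hwc : Cfsg.IsWeaklyClosedSubgroup p Q) (hQp : IsPGroup p Q) :
    Cfsg.subnormalClosure Q = conjClosure Q := by
  apply le_antisymm
  · apply sInf_le
    exact ⟨le_conjClosure Q, (conjClosure_normal Q).isSubnormal⟩
  · apply le_sInf
    rintro L ⟨hQL, hL⟩
    unfold conjClosure
    apply iSup_le
    exact wc_conj_le_of_subnormal hwc hQp hL hQL

end wc

end Cfsg.Agent.Lib.Helper5_WC
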