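import Mathlib
import Cfsg.Prelude.Def_LocalStructure
import Cfsg.Agent.Lib.Helper5_Sylow
import Cfsg.Agent.Lib.Helper5_WC
import Cfsg.Agent.Lib.Helper5_CD
import Cfsg.Agent.Lib.Helper5_CharP

set_option autoImplicit false

namespace Cfsg.Agent.Lib.Helper5_Large

open Cfsg.Agent.Lib.Helper5_Sylow Cfsg.Agent.Lib.Helper5_WC Cfsg.Agent.Lib.Helper5_CD
open Cfsg.Agent.Lib.Helper5_CharP
open Subgroup

variable {G : Type*} [Group G]

theorem normalizer_cj (g : G) (W : Subgroup G) :
    normalizer ((cj g W : Subgroup G) : Set G) = cj g (normalizer (W : Set G)) :=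
  (Subgroup.map_equiv_normalizer_eq W (MulAut.conj g)).symm

theorem mem_centralizer_cj {g x : G} {W : Subgroup G} :
    x ∈ centralizer ((cj g W : Subgroup G) : Set G) ↔ g⁻¹ * x * g ∈ centralizer (W : Set G) := by
  rw [mem_centralizer_iff, mem_centralizer_iff]
  constructor
  · intro h w hw
    have := h (g * w * g⁻¹) (conj_mem_cj hw)
    calc w * (g⁻¹ * x * g) = g⁻¹ * (g * w * g⁻¹ * x) * g := by group
      _ = g⁻¹ * (x * (g * w * g⁻¹)) * g := by rw [this]
      _ = g⁻¹ * x * g * w := by group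
  · rintro h _ ⟨w, hw, rfl⟩
    simp only [MulEquiv.coe_toMonoidHom, MulAut.conj_apply]
    have := h w hw
    calc g * w * g⁻¹ * x = g * (w * (g⁻¹ * x * g)) * g⁻¹ := by group
      _ = g * (g⁻¹ * x * g * w) * g⁻¹ := by rw [this]
      _ = x * (g * w * g⁻¹) := by group

theorem centralizer_cj (g : G) (W : Subgroup G) :
    centralizer ((cj g W : Subgroup G) : Set G) = cj g (centralizer (W : Set G)) := by
  ext x
  rw [mem_centralizer_cj, mem_cj]

theorem cj_ne_bot {g : G} {W : Subgroup G} (h : W ≠ ⊥) : cj g W ≠ ⊥ := by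
  intro h'
  apply h
  have := (cj_eq_iff.mp h')
  rw [this]
  ext x; simp [cj]

theorem isLarge_cj (g : G) {Q : Subgroup G} (hL : Cfsg.IsLarge Q) : Cfsg.IsLarge (cj g Q) := by
  constructor
  · rw [centralizer_cj]
    exact cj_mono g hL.1
  · intro U hU hU1
    rw [centralizer_cj] at hU
    have h1 : cj g⁻¹ U ≤ centralizer (Q : Set G) := cj_inv_le hU
    have h2 := hL.2 _ h1 (cj_ne_bot hU1)
    rw [normalizer_cj] at h2
    have h3 := cj_mono g h2
    rw [cj_cj, mul_inv_cancel, cj_one] at h3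
    rw [normalizer_cj]
    exact h3

/-- the centre of a nontrivial `p`-subgroup is nontrivial -/
theorem inf_centralizer_ne_bot [Finite G] {p : ℕ} [Fact p.Prime] {T : Subgroup G}
    (hT : IsPGroup p T) (hne : T ≠ ⊥) : T ⊓ centralizer (T : Set G) ≠ ⊥ := by
  have : Nontrivial T := (Subgroup.nontrivial_iff_ne_bot T).mpr hne
  have h1 := hT.bot_lt_center
  rw [← map_center_subtype]
  intro h
  rw [Subgroup.map_eq_bot_iff_of_injective _ T.subtype_injective] at h
  exact h1.ne' h

/-- `N(T) ≤ N(Z(T))` -/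
theorem normalizer_le_normalizer_center (T : Subgroup G) :
    normalizer (T : Set G) ≤ normalizer ((T ⊓ centralizer (T : Set G) : Subgroup G) : Set G) := by
  intro n hn
  apply mem_normalizer_of_cj_eq
  have h1 : cj n T = T := cj_eq_of_mem_normalizer hn
  have h2 : cj n (centralizer (T : Set G)) = centralizer (T : Set G) := by
    rw [← centralizer_cj, h1]
  rw [cj, Subgroup.map_inf _ _ _ (MulAut.conj n).injective]
  show cj n T ⊓ cj n (centralizer (T : Set G)) = _
  rw [h1, h2]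

section large

variable [Finite G] {p : ℕ} [Fact p.Prime] {Q : Subgroup G}

/-- any `p`-subgroup `R ≥ Q` has `N(R) ≤ N(Q)` for `Q` large -/
theorem isLarge_normalizer_le (hL : Cfsg.IsLarge Q) (hQ1 : Q ≠ ⊥) {R : Subgroup G}
    (hR : IsPGroup p R) (hQR : Q ≤ R) : normalizer (R : Set G) ≤ normalizer (Q : Set G) := by
  have hR1 : R ≠ ⊥ := fun h => hQ1 (le_bot_iff.mp (h ▸ hQR))
  have hZ := inf_centralizer_ne_bot hR hR1
  have hZC : R ⊓ centralizer (R : Set G) ≤ centralizer (Q : Set G) :=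
    inf_le_right.trans (Subgroup.centralizer_le hQR)
  exact (normalizer_le_normalizer_center R).trans (hL.2 _ hZC hZ)

theorem isLarge_wc (hL : Cfsg.IsLarge Q) (hQp : IsPGroup p Q) (hQ1 : Q ≠ ⊥) :
    Cfsg.IsWeaklyClosedSubgroup p Q := by
  obtain ⟨T, hQT⟩ := hQp.exists_le_sylow
  refine ⟨T, hQT, ?_⟩
  intro g hg
  show cj g Q = Q
  have hTQ : (T : Subgroup G) ≤ normalizer (Q : Set G) :=
    le_normalizer.trans (isLarge_normalizer_le hL hQ1 T.isPGroup' hQT)
  have h2 : (T : Subgroup G) ≤ normalizer ((cj g Q : Subgroup G) : Set G) :=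
    le_normalizer.trans (isLarge_normalizer_le (isLarge_cj g hL) (cj_ne_bot hQ1) T.isPGroup' hg)
  have h3 : cj g (T : Subgroup G) ≤ normalizer ((cj g Q : Subgroup G) : Set G) :=
    cj_le_normalizer_cj hTQ
  obtain ⟨k, hk, R, hR, _, hTR, hBR⟩ :=
    exists_conj_le_common_pgroup h2 h3 T.isPGroup' (isPGroup_cj T.isPGroup')
  have hRT : R = (T : Subgroup G) := T.is_maximal' hR hTR
  rw [hRT] at hBR
  have hBR' : cj k (cj g (T : Subgroup G)) ≤ (T : Subgroup G) := hBR
  rw [cj_cj] at hBR'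
  have h4 : k * g ∈ normalizer (Q : Set G) :=
    isLarge_normalizer_le hL hQ1 T.isPGroup' hQT (mem_normalizer_of_cj_le hBR')
  have h5 := cj_eq_of_mem_normalizer h4
  rw [← cj_cj, cj_eq_of_mem_normalizer hk] at h5
  exact h5

/-- for `g ∉ N(Q)`: `C(Q) ∩ C(Q^g) = 1` -/
theorem isLarge_centralizer_inf (hL : Cfsg.IsLarge Q) (hQp : IsPGroup p Q) (hQ1 : Q ≠ ⊥)
    {g : G} (hg : g ∉ normalizer (Q : Set G)) :
    centralizer (Q : Set G) ⊓ centralizer ((cj g Q : Subgroup G) : Set G) = ⊥ := by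
  by_contra hU
  apply hg
  set U := centralizer (Q : Set G) ⊓ centralizer ((cj g Q : Subgroup G) : Set G) with hUdef
  have h1 : normalizer (U : Set G) ≤ normalizer (Q : Set G) := hL.2 U inf_le_left hU
  have h2 : normalizer (U : Set G) ≤ normalizer ((cj g Q : Subgroup G) : Set G) :=
    (isLarge_cj g hL).2 U inf_le_right hU
  have h3 : Q ≤ normalizer (U : Set G) := by
    refine le_trans ?_ (centralizer_le_normalizer (U : Set G))
    rw [le_centralizer_iff]
    exact inf_le_left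
  have h4 : cj g Q ≤ normalizer (U : Set G) := by
    refine le_trans ?_ (centralizer_le_normalizer (U : Set G))
    rw [le_centralizer_iff]
    exact inf_le_right
  have hp : IsPGroup p (Q ⊔ cj g Q : Subgroup G) :=
    IsPGroup.to_sup_of_normal_right' hQp (isPGroup_cj hQp) (h3.trans h2)
  apply mem_normalizer_of_cj_eq
  exact wc_eq_of_le_pgroup (isLarge_wc hL hQp hQ1) hp le_sup_left le_sup_right


/-- a nontrivial normal subgroup of a `p`-group contains a nontrivial central element -/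
theorem exists_central_of_normal_pgroup {R Y : Subgroup G} (hR : IsPGroup p R) (hYR : Y ≤ R)
    (hN : R ≤ normalizer (Y : Set G)) (hY : Y ≠ ⊥) :
    ∃ y ∈ Y, y ≠ 1 ∧ y ∈ centralizer (R : Set G) := by
  let act : MulAction ↥R ↥Y :=
    { smul := fun r y => ⟨(r : G) * y * (r : G)⁻¹, conj_mem_of_mem_normalizer (hN r.2) y.2⟩
      one_smul := by
        intro y
        apply Subtype.ext
        show ((1 : ↥R) : G) * y * ((1 : ↥R) : G)⁻¹ = y
        simp
      mul_smul := by
        intro a b y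
        apply Subtype.ext
        show ((a * b : ↥R) : G) * y * ((a * b : ↥R) : G)⁻¹ = (a : G) * ((b : G) * y * (b : G)⁻¹) * (a : G)⁻¹
        simp only [Subgroup.coe_mul, mul_inv_rev]
        group }
  have hsmul : ∀ (r : ↥R) (y : ↥Y), ((r • y : ↥Y) : G) = (r : G) * y * (r : G)⁻¹ := fun _ _ => rfl
  have hYp : IsPGroup p Y := hR.to_le hYR
  have : Nontrivial ↥Y := (Subgroup.nontrivial_iff_ne_bot Y).mpr hY
  have hdvd : p ∣ Nat.card ↥Y := by
    obtain ⟨n, hn0, hn⟩ := hYp.nontrivial_iff_card.mp inferInstance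
    rw [hn]; exact dvd_pow_self _ (ne_of_gt hn0)
  have h1 : (1 : ↥Y) ∈ MulAction.fixedPoints ↥R ↥Y := by
    intro r
    apply Subtype.ext
    rw [hsmul]
    simp
  obtain ⟨b, hb, hb1⟩ := hR.exists_fixed_point_of_prime_dvd_card_of_fixed_point ↥Y hdvd h1
  refine ⟨b, b.2, ?_, ?_⟩
  · intro h
    apply hb1
    apply Subtype.ext
    exact h.symm
  · rw [mem_centralizer_iff]
    intro r hr
    have := congrArg Subtype.val (hb ⟨r, hr⟩)
    rw [hsmul] at this
    calc r * (b : G) = (r * b * r⁻¹) * r := by group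
      _ = b * r := by rw [this]

omit [Finite G] [Fact p.Prime] in
theorem normalizer_inf_le (A B : Subgroup G) :
    normalizer (A : Set G) ⊓ normalizer (B : Set G) ≤ normalizer ((A ⊓ B : Subgroup G) : Set G) := by
  intro n hn
  rw [mem_inf] at hn
  rw [mem_normalizer_iff]
  intro h
  rw [mem_inf, mem_inf, ← mem_normalizer_iff.mp hn.1 h, ← mem_normalizer_iff.mp hn.2 h]

omit [Finite G] [Fact p.Prime] in
theorem normalizer_le_normalizer_centralizer (Y : Subgroup G) :
    normalizer (Y : Set G) ≤ normalizer ((centralizer (Y : Set G) : Subgroup G) : Set G) := by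
  intro n hn
  apply mem_normalizer_of_cj_eq
  rw [← centralizer_cj, cj_eq_of_mem_normalizer hn]

/-- `Q` large normalizing the nontrivial `p`-group `Y`: then `C(Y) ≤ N(Q)` -/
theorem isLarge_centralizer_le_normalizer (hL : Cfsg.IsLarge Q) (hQp : IsPGroup p Q)
    {Y : Subgroup G} (hYp : IsPGroup p Y) (hY1 : Y ≠ ⊥) (hQY : Q ≤ normalizer (Y : Set G)) :
    centralizer (Y : Set G) ≤ normalizer (Q : Set G) := by
  have hR : IsPGroup p (Q ⊔ Y : Subgroup G) := IsPGroup.to_sup_of_normal_right' hQp hYp hQY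
  have hN : Q ⊔ Y ≤ normalizer (Y : Set G) := sup_le hQY le_normalizer
  obtain ⟨y, hyY, hy1, hyC⟩ := exists_central_of_normal_pgroup hR le_sup_right hN hY1
  have hyQ : y ∈ centralizer (Q : Set G) := Subgroup.centralizer_le (le_sup_left : Q ≤ Q ⊔ Y) hyC
  have hU : zpowers y ≤ centralizer (Q : Set G) := by
    rw [zpowers_le]; exact hyQ
  have hU1 : zpowers y ≠ ⊥ := by
    rw [Ne, zpowers_eq_bot]; exact hy1
  have h1 := hL.2 _ hU hU1
  refine le_trans ?_ h1
  refine le_trans ?_ (centralizer_le_normalizer _)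
  have hUY : zpowers y ≤ Y := by
    rw [zpowers_le]; exact hyY
  exact Subgroup.centralizer_le hUY


/-- `Q ≤ L`, `Q` large, `O_p(L) ≠ 1`: `Q ∩ C(O_p(L)) ≤ O_p(L)`, `C(O_p(L))` is a `p`-group and
  `L` has characteristic `p`. -/
theorem isLarge_centralizer_pCoreOf (hL : Cfsg.IsLarge Q) (hQp : IsPGroup p Q)
    {L : Subgroup G} (hQL : Q ≤ L) (hY1 : Cfsg.pCoreOf p L ≠ ⊥) :
    Q ⊓ centralizer (Cfsg.pCoreOf p L : Set G) ≤ Cfsg.pCoreOf p L ∧
    IsPGroup p (centralizer (Cfsg.pCoreOf p L : Set G)) ∧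
    L ⊓ centralizer (Cfsg.pCoreOf p L : Set G) ≤ Cfsg.pCoreOf p L := by
  set Y := Cfsg.pCoreOf p L with hY
  set D := centralizer (Y : Set G) with hD
  have hYp : IsPGroup p Y := pCoreOf_isPGroup p L
  have hLY : L ≤ normalizer (Y : Set G) := le_normalizer_pCoreOf p L
  have hLD : L ≤ normalizer (D : Set G) := hLY.trans (normalizer_le_normalizer_centralizer Y)
  have hDQ : D ≤ normalizer (Q : Set G) :=
    isLarge_centralizer_le_normalizer hL hQp hYp hY1 (hQL.trans hLY)
  -- `Q ∩ D ≤ O_p(D)`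
  have h1 : Q ⊓ D ≤ Cfsg.pCoreOf p D := by
    apply le_pCoreOf inf_le_right (hQp.to_le inf_le_left)
    exact (le_inf hDQ le_normalizer).trans (normalizer_inf_le Q D)
  -- `O_p(D) ∩ L ≤ Y`
  have h2 : Cfsg.pCoreOf p D ⊓ L ≤ Y := by
    apply le_pCoreOf inf_le_right ((pCoreOf_isPGroup p D).to_le inf_le_left)
    refine le_trans (le_inf ?_ le_normalizer) (normalizer_inf_le _ _)
    exact hLD.trans (normalizer_le_normalizer_pCoreOf p D)
  have h3 : Q ⊓ D ≤ Y := (le_inf h1 (inf_le_left.trans hQL)).trans h2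
  have hDp : IsPGroup p D := by
    apply isPGroup_of_forall_coprime_eq_one
    intro x hx hc
    have hxQ : x ∈ centralizer (Q : Set G) := by
      rw [mem_centralizer_iff]
      intro q hq
      -- `z := q⁻¹ * (x * q * x⁻¹)`
      have hz1 : q⁻¹ * (x * q * x⁻¹) ∈ Q :=
        Q.mul_mem (Q.inv_mem hq) (conj_mem_of_mem_normalizer (hDQ hx) hq)
      have hz2 : q⁻¹ * (x * q * x⁻¹) ∈ D := by
        have : q⁻¹ * (x * q * x⁻¹) = (q⁻¹ * x * q) * x⁻¹ := by group
        rw [this]
        exact D.mul_mem (conj_mem_of_mem_normalizer' (hLD (hQL hq)) hx) (D.inv_mem hx)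
      have hzY : q⁻¹ * (x * q * x⁻¹) ∈ Y := h3 (mem_inf.mpr ⟨hz1, hz2⟩)
      have hcomm : Commute x (q⁻¹ * (x * q * x⁻¹)) := by
        have := (mem_centralizer_iff.mp hx) _ hzY
        exact this.symm
      have hconj : x * q * x⁻¹ = q * (q⁻¹ * (x * q * x⁻¹)) := by group
      have hz := eq_one_of_conj_eq_mul hconj hcomm (coprime_orderOf_of_mem_pGroup hQp hz1 hc)
      have : x * q * x⁻¹ = q := by rw [hconj, hz, mul_one]
      calc q * x = (x * q * x⁻¹)* x := by rw [this]
        _ = x * q := by group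
    exact eq_one_of_mem_pGroup_of_coprime hQp (hL.1 hxQ) hc
  refine ⟨h3, hDp, ?_⟩
  apply le_pCoreOf inf_le_left (hDp.to_le inf_le_right)
  exact (le_inf le_normalizer hLD).trans (normalizer_inf_le L D)

end large

end Cfsg.Agent.Lib.Helper5_Large
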