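import Mathlib
import Cfsg.Prelude.Def_LocalStructure
import Cfsg.Agent.Lib.Helper5_Sylow
import Cfsg.Agent.Lib.Helper5_CharP
import Cfsg.Agent.Lib.Helper5_CharP2
import Cfsg.Agent.Lib.Helper5_AxB
import Cfsg.Agent.Lib.Helper5_Large

set_option autoImplicit false

namespace Cfsg.Agent.Lib.Helper5_CharP3

open Cfsg.Agent.Lib.Helper5_Sylow Cfsg.Agent.Lib.Helper5_CharP Cfsg.Agent.Lib.Helper5_CharP2
open Cfsg.Agent.Lib.Helper5_AxB Cfsg.Agent.Lib.Helper5_Large Cfsg.Agent.Lib.Helper5_WC
open Subgroup
open scoped Pointwise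

variable {G : Type*} [Group G]

theorem zpowers_le_centralizer_iff {x : G} {W : Subgroup G} :
    zpowers x ≤ centralizer (W : Set G) ↔ x ∈ centralizer (W : Set G) := zpowers_le

theorem le_centralizer_zpowers_iff {x : G} {W : Subgroup G} :
    W ≤ centralizer ((zpowers x : Subgroup G) : Set G) ↔ x ∈ centralizer (W : Set G) := by
  rw [Subgroup.le_centralizer_iff, zpowers_le]

/-- **Lemma 1**: the centralizer of a `p`-subgroup in a subgroup of characteristic `p` has
  characteristic `p`. -/
theorem charPSub_inf_centralizer [Finite G] {p : ℕ} [Fact p.Prime] {X U : Subgroup G}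
    (hX : CharPSub p X) (hUX : U ≤ X) (hU : IsPGroup p U) :
    CharPSub p (X ⊓ centralizer (U : Set G)) := by
  set F := Cfsg.pCoreOf p X with hF
  set N := X ⊓ centralizer (U : Set G) with hN
  set ON := Cfsg.pCoreOf p N with hON
  have hFp : IsPGroup p F := pCoreOf_isPGroup p X
  have hXF : X ≤ normalizer (F : Set G) := le_normalizer_pCoreOf p X
  have hNX : N ≤ X := inf_le_left
  have hNC : N ≤ centralizer (U : Set G) := inf_le_right
  have hP0 : F ⊓ centralizer (U : Set G) ≤ ON := by
    apply le_pCoreOf (inf_le_inf_right _ (pCoreOf_le p X)) (hFp.to_le inf_le_left)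
    refine le_trans (le_inf (hNX.trans hXF) (hNC.trans le_normalizer)) (normalizer_inf_le _ _)
  set CN := N ⊓ centralizer (ON : Set G) with hCN
  have hCNp : IsPGroup p CN := by
    apply isPGroup_of_forall_coprime_eq_one
    intro x hx hc
    rw [hCN, mem_inf] at hx
    obtain ⟨hxN, hxON⟩ := hx
    have hxX : x ∈ X := hNX hxN
    have hxU : x ∈ centralizer (U : Set G) := hNC hxN
    have h1 : F ≤ centralizer ((zpowers x : Subgroup G) : Set G) := by
      apply thompson_AxB (zpowers x) U (fun a ha => coprime_of_mem_zpowers hc ha) hU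
        (zpowers_le.mpr hxU) F hFp (zpowers_le.mpr (hXF hxX)) (hUX.trans hXF)
      rw [le_centralizer_zpowers_iff]
      exact Subgroup.centralizer_le hP0 hxON
    have h2 : x ∈ centralizer (F : Set G) := le_centralizer_zpowers_iff.mp h1
    have h3 : x ∈ F := hX (mem_inf.mpr ⟨hxX, h2⟩)
    exact eq_one_of_mem_pGroup_of_coprime hFp h3 hc
  unfold CharPSub
  apply le_pCoreOf inf_le_left hCNp
  refine le_trans (le_inf le_normalizer ?_) (normalizer_inf_le _ _)
  exact (le_normalizer_pCoreOf p N).trans (Helper5_CharP2.normalizer_le_normalizer_centralizer _)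

/-- powers of `k * u` with `u` normalizing `K` -/
theorem mul_pow_mem {K : Subgroup G} {k u : G} (hk : k ∈ K) (hu : u ∈ normalizer (K : Set G))
    (n : ℕ) : ∃ k' ∈ K, (k * u) ^ n = k' * u ^ n := by
  induction n with
  | zero => exact ⟨1, K.one_mem, by simp⟩
  | succ n ih =>
    obtain ⟨k', hk', h⟩ := ih
    have hun : u ^ n ∈ normalizer (K : Set G) := Subgroup.pow_mem _ hu n
    refine ⟨k' * (u ^ n * k * (u ^ n)⁻¹), K.mul_mem hk' (conj_mem_of_mem_normalizer hun hk), ?_⟩
    rw [pow_succ, h, pow_succ]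
    group

/-- **Lemma 2**: an extension of a subgroup of characteristic `p` by a `p`-group has
  characteristic `p`. -/
theorem charPSub_sup_pgroup [Finite G] {p : ℕ} [Fact p.Prime] {K U : Subgroup G}
    (hK : CharPSub p K) (hU : IsPGroup p U) (hUK : U ≤ normalizer (K : Set G)) :
    CharPSub p (K ⊔ U) := by
  set X := K ⊔ U with hX
  set F0 := Cfsg.pCoreOf p K with hF0
  set OX := Cfsg.pCoreOf p X with hOX
  have hF0p : IsPGroup p F0 := pCoreOf_isPGroup p K
  have hXK : X ≤ normalizer (K : Set G) := sup_le le_normalizer hUK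
  have hF0OX : F0 ≤ OX := by
    apply le_pCoreOf ((pCoreOf_le p K).trans le_sup_left) hF0p
    exact hXK.trans (normalizer_le_normalizer_pCoreOf p K)
  set CX := X ⊓ centralizer (OX : Set G) with hCX
  have hCXp : IsPGroup p CX := by
    apply isPGroup_of_forall_coprime_eq_one
    intro x hx hc
    rw [hCX, mem_inf] at hx
    obtain ⟨hxX, hxO⟩ := hx
    -- `x = k * u`
    have hxmul : x ∈ (K : Set G) * (U : Set G) := by
      rw [← Subgroup.coe_mul_of_right_le_normalizer_left K U hUK]; exact hxX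
    obtain ⟨k, hk, u, hu, rfl⟩ := Set.mem_mul.mp hxmul
    obtain ⟨j, hj⟩ := hU ⟨u, hu⟩
    have hj' : u ^ (p ^ j) = 1 := by
      have := congrArg Subtype.val hj
      simpa using this
    obtain ⟨k', hk', hpow⟩ := mul_pow_mem hk (hUK hu) (p ^ j)
    rw [hj', mul_one] at hpow
    -- `(k*u)^(p^j) ∈ K ⊓ C(F0) ≤ F0`
    have h1 : (k * u) ^ (p ^ j) ∈ centralizer (F0 : Set G) :=
      Subgroup.centralizer_le hF0OX (Subgroup.pow_mem _ hxO _)
    have h2 : (k * u) ^ (p ^ j) ∈ F0 := hK (mem_inf.mpr ⟨hpow ▸ hk', h1⟩)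
    have hcop : Nat.Coprime (p ^ j) (orderOf (k * u)) := (Nat.Coprime.pow_right j hc).symm
    obtain ⟨m, hm⟩ := exists_pow_eq_self_of_coprime hcop
    have h3 : k * u ∈ F0 := by
      rw [← hm]; exact Subgroup.pow_mem _ h2 m
    exact eq_one_of_mem_pGroup_of_coprime hF0p h3 hc
  unfold CharPSub
  apply le_pCoreOf inf_le_left hCXp
  refine le_trans (le_inf le_normalizer ?_) (normalizer_inf_le _ _)
  exact (le_normalizer_pCoreOf p X).trans (Helper5_CharP2.normalizer_le_normalizer_centralizer _)

/-- **Chain lemma**: climbing from `C(U)` to `C(Y)` for `U ≤ Y` a `p`-group. -/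
theorem charPSub_centralizer_chain [Finite G] {p : ℕ} [Fact p.Prime] {Y : Subgroup G}
    (hY : IsPGroup p Y) :
    ∀ (n : ℕ) (U : Subgroup G), U ≤ Y → Nat.card Y - Nat.card U = n →
      CharPSub p (centralizer (U : Set G)) → CharPSub p (centralizer (Y : Set G)) := by
  intro n
  induction n using Nat.strong_induction_on with
  | _ n ih =>
  intro U hUY hn hU
  by_cases hEq : U = Y
  · rw [← hEq]; exact hU
  have hlt : U < Y := lt_of_le_of_ne hUY hEq
  set U1 := Y ⊓ normalizer (U : Set G) with hU1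
  have hUU1 : U < U1 := lt_inf_normalizer hY hlt
  have hU1Y : U1 ≤ Y := inf_le_left
  have hU1p : IsPGroup p U1 := hY.to_le hU1Y
  have hU1N : U1 ≤ normalizer ((centralizer (U : Set G) : Subgroup G) : Set G) :=
    inf_le_right.trans (Helper5_CharP2.normalizer_le_normalizer_centralizer U)
  have hX := charPSub_sup_pgroup hU hU1p hU1N
  have hX1 := charPSub_inf_centralizer hX le_sup_right hU1p
  have heq : (centralizer (U : Set G) ⊔ U1) ⊓ centralizer (U1 : Set G) = centralizer (U1 : Set G) := by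
    apply inf_eq_right.mpr
    exact (Subgroup.centralizer_le hUU1.le).trans le_sup_left
  rw [heq] at hX1
  have hc1 : Nat.card U < Nat.card U1 := card_lt_of_lt hUU1
  have hc2 : Nat.card U1 ≤ Nat.card Y := Subgroup.card_le_of_le hU1Y
  exact ih (Nat.card Y - Nat.card U1) (by omega) U1 hU1Y rfl hX1

end Cfsg.Agent.Lib.Helper5_CharP3
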