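import Mathlib
import Cfsg.Prelude.Def_OddOrderChar
import Cfsg.Agent.Lib.Helper2_ClassFn
import Cfsg.Agent.Lib.Helper2_CharOrtho

set_option autoImplicit false

namespace Cfsg.Agent.Lib.Helper5_Coh

open Cfsg
open Cfsg.Agent.Lib.Helper2_ClassFn Cfsg.Agent.Lib.Helper2_CharOrtho
open scoped ComplexConjugate

universe u v

section Basics

variable {L : Type u}

theorem mem_zspan_iff {S : Set (L → ℂ)} {a : L → ℂ} : a ∈ zspan S ↔ a ∈ Submodule.span ℤ S :=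
  Iff.rfl

theorem zspan_of_mem {S : Set (L → ℂ)} {a : L → ℂ} (h : a ∈ S) : a ∈ zspan S :=
  Submodule.subset_span h

theorem zspan_zero {S : Set (L → ℂ)} : (0 : L → ℂ) ∈ zspan S :=
  Submodule.zero_mem _

theorem zspan_add {S : Set (L → ℂ)} {a b : L → ℂ} (ha : a ∈ zspan S) (hb : b ∈ zspan S) :
    a + b ∈ zspan S := Submodule.add_mem _ ha hb

theorem zspan_sub {S : Set (L → ℂ)} {a b : L → ℂ} (ha : a ∈ zspan S) (hb : b ∈ zspan S) :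
    a - b ∈ zspan S := Submodule.sub_mem _ ha hb

theorem zspan_zsmul {S : Set (L → ℂ)} (n : ℤ) {a : L → ℂ} (ha : a ∈ zspan S) :
    n • a ∈ zspan S := Submodule.smul_mem _ n ha

theorem zspan_mono {S T : Set (L → ℂ)} (h : S ⊆ T) {a : L → ℂ} (ha : a ∈ zspan S) : a ∈ zspan T :=
  Submodule.span_mono h ha

theorem zspanOn_mono {S T : Set (L → ℂ)} (A : Set L) (h : S ⊆ T) {a : L → ℂ}
    (ha : a ∈ zspanOn S A) : a ∈ zspanOn T A := ⟨zspan_mono h ha.1, ha.2⟩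

theorem zspanOn_add {S : Set (L → ℂ)} {A : Set L} {a b : L → ℂ} (ha : a ∈ zspanOn S A)
    (hb : b ∈ zspanOn S A) : a + b ∈ zspanOn S A :=
  ⟨zspan_add ha.1 hb.1, fun x hx => by rw [Pi.add_apply, ha.2 x hx, hb.2 x hx, add_zero]⟩

theorem zspanOn_sub {S : Set (L → ℂ)} {A : Set L} {a b : L → ℂ} (ha : a ∈ zspanOn S A)
    (hb : b ∈ zspanOn S A) : a - b ∈ zspanOn S A :=
  ⟨zspan_sub ha.1 hb.1, fun x hx => by rw [Pi.sub_apply, ha.2 x hx, hb.2 x hx, sub_zero]⟩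

theorem zspanOn_zsmul {S : Set (L → ℂ)} {A : Set L} (n : ℤ) {a : L → ℂ} (ha : a ∈ zspanOn S A) :
    n • a ∈ zspanOn S A :=
  ⟨zspan_zsmul n ha.1, fun x hx => by rw [Pi.smul_apply, ha.2 x hx, smul_zero]⟩

/-- membership in `zspanOn S {1}ᶜ` -/
theorem mem_zspanOn_one [One L] {S : Set (L → ℂ)} {a : L → ℂ} (ha : a ∈ zspan S) (h1 : a 1 = 0) :
    a ∈ zspanOn S ({1}ᶜ : Set L) := by
  refine ⟨ha, fun x hx => ?_⟩
  have : x = 1 := by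
    by_contra hne
    exact hx hne
  rw [this, h1]

theorem zspanOn_one_apply [One L] {S : Set (L → ℂ)} {a : L → ℂ}
    (ha : a ∈ zspanOn S ({1}ᶜ : Set L)) : a 1 = 0 :=
  ha.2 1 (fun h => h rfl)

/-- integrality of the value at a point for members of `zspan` -/
theorem zspan_apply_int {S : Set (L → ℂ)} (x : L) (h : ∀ χ ∈ S, ∃ n : ℤ, χ x = n) {a : L → ℂ}
    (ha : a ∈ zspan S) : ∃ n : ℤ, a x = n := by
  have ha' : a ∈ Submodule.span ℤ S := ha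
  refine Submodule.span_induction (p := fun a _ => ∃ n : ℤ, a x = (n : ℂ)) ?_ ?_ ?_ ?_ ha'
  · intro y hy; exact h y hy
  · exact ⟨0, by simp⟩
  · rintro y z _ _ ⟨n, hn⟩ ⟨m, hm⟩
    exact ⟨n + m, by rw [Pi.add_apply, hn, hm]; push_cast; rfl⟩
  · rintro k y _ ⟨n, hn⟩
    exact ⟨k * n, by rw [Pi.smul_apply, hn]; simp⟩

end Basics

section Ortho

variable {L : Type u} [Group L] [Fintype L]

theorem ip_span_zero {X Y : Set (L → ℂ)} (h : ∀ χ ∈ X, ∀ η ∈ Y, classInner χ η = 0)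
    {a b : L → ℂ} (ha : a ∈ zspan X) (hb : b ∈ zspan Y) : classInner a b = 0 := by
  have ha' : a ∈ Submodule.span ℤ X := ha
  have hb' : b ∈ Submodule.span ℤ Y := hb
  refine Submodule.span_induction₂ (p := fun a b _ _ => classInner a b = 0) ?_ ?_ ?_ ?_ ?_ ?_ ?_ ha' hb'
  · intro x y hx hy; exact h x hx y hy
  · intro y _; exact classInner_zero_left _
  · intro x _; exact classInner_zero_right _
  · intro x y z _ _ _ hx hy; rw [classInner_add_left, hx, hy, add_zero]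
  · intro x y z _ _ _ hy hz; rw [classInner_add_right, hy, hz, add_zero]
  · intro r x y _ _ h; rw [classInner_zsmul_left, h, mul_zero]
  · intro r x y _ _ h; rw [classInner_zsmul_right, h, mul_zero]

end Ortho


section Key

variable {G : Type v} [Group G] [Fintype G]

/-- a norm-one generalized character is `s • ζ` with `s = ±1`, `ζ` irreducible -/
theorem exists_sign {A : G → ℂ} (hA : IsGeneralizedCharacter G A) (nA : classInner A A = 1) :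
    ∃ (s : ℂ) (ζ : G → ℂ), (s = 1 ∨ s = -1) ∧ IsIrrCharacter G ζ ∧ A = s • ζ := by
  obtain ⟨ζ, hζ, h | h⟩ := IsGeneralizedCharacter.eq_irr_or_neg_of_norm_one hA nA
  · exact ⟨1, ζ, Or.inl rfl, hζ, by rw [h, one_smul]⟩
  · exact ⟨-1, ζ, Or.inr rfl, hζ, by rw [h, neg_smul, one_smul]⟩

theorem sign_eq {s₁ s₂ : ℂ} (h₁ : s₁ = 1 ∨ s₁ = -1) (h₂ : s₂ = 1 ∨ s₂ = -1)
    {n₁ n₂ d₁ d₂ : ℕ} (hn₁ : 0 < n₁) (hn₂ : 0 < n₂) (hd₁ : 0 < d₁) (hd₂ : 0 < d₂)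
    (h : (n₂ : ℂ) * (s₁ * d₁) = (n₁ : ℂ) * (s₂ * d₂)) : s₁ = s₂ := by
  rcases h₁ with rfl | rfl <;> rcases h₂ with rfl | rfl
  · rfl
  · exfalso
    have h' : ((n₂ * d₁ + n₁ * d₂ : ℕ) : ℂ) = 0 := by
      push_cast
      linear_combination h
    have h'' : n₂ * d₁ + n₁ * d₂ = 0 := by exact_mod_cast h'
    have : 0 < n₂ * d₁ := Nat.mul_pos hn₂ hd₁
    omega
  · exfalso
    have h' : ((n₂ * d₁ + n₁ * d₂ : ℕ) : ℂ) = 0 := by
      push_cast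
      linear_combination -h
    have h'' : n₂ * d₁ + n₁ * d₂ = 0 := by exact_mod_cast h'
    have : 0 < n₂ * d₁ := Nat.mul_pos hn₂ hd₁
    omega
  · rfl

theorem ip_smul_smul (s t : ℂ) (ζ ξ : G → ℂ) :
    classInner (s • ζ) (t • ξ) = s * conj t * classInner ζ ξ := by
  rw [classInner_smul_left, classInner_smul_right]; ring

theorem key_orth (A₁ A₂ B₁ B₂ : G → ℂ)
    (hA₁ : IsGeneralizedCharacter G A₁) (hA₂ : IsGeneralizedCharacter G A₂)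
    (hB₁ : IsGeneralizedCharacter G B₁) (hB₂ : IsGeneralizedCharacter G B₂)
    (nA₁ : classInner A₁ A₁ = 1) (nA₂ : classInner A₂ A₂ = 1)
    (nB₁ : classInner B₁ B₁ = 1) (nB₂ : classInner B₂ B₂ = 1)
    (oA : classInner A₁ A₂ = 0) (oB : classInner B₁ B₂ = 0)
    (n₁ n₂ m₁ m₂ : ℕ) (hn₁ : 0 < n₁) (hn₂ : 0 < n₂) (hm₁ : 0 < m₁) (hm₂ : 0 < m₂)
    (h0 : classInner (((n₂ : ℤ)) • A₁ - ((n₁ : ℤ)) • A₂) (((m₂ : ℤ)) • B₁ - ((m₁ : ℤ)) • B₂) = 0)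
    (hA : (n₂ : ℂ) * A₁ 1 = (n₁ : ℂ) * A₂ 1) (hB : (m₂ : ℂ) * B₁ 1 = (m₁ : ℂ) * B₂ 1) :
    classInner A₁ B₁ = 0 := by
  obtain ⟨s₁, ζ₁, hs₁, hζ₁, rfl⟩ := exists_sign hA₁ nA₁
  obtain ⟨s₂, ζ₂, hs₂, hζ₂, rfl⟩ := exists_sign hA₂ nA₂
  obtain ⟨t₁, ξ₁, ht₁, hξ₁, rfl⟩ := exists_sign hB₁ nB₁
  obtain ⟨t₂, ξ₂, ht₂, hξ₂, rfl⟩ := exists_sign hB₂ nB₂
  obtain ⟨d₁, hd₁, e₁⟩ := IsIrrCharacter.apply_one hζ₁
  obtain ⟨d₂, hd₂, e₂⟩ := IsIrrCharacter.apply_one hζ₂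
  obtain ⟨f₁, hf₁, g₁⟩ := IsIrrCharacter.apply_one hξ₁
  obtain ⟨f₂, hf₂, g₂⟩ := IsIrrCharacter.apply_one hξ₂
  have hs : s₁ = s₂ := by
    apply sign_eq hs₁ hs₂ hn₁ hn₂ hd₁ hd₂
    simpa [Pi.smul_apply, e₁, e₂] using hA
  have ht : t₁ = t₂ := by
    apply sign_eq ht₁ ht₂ hm₁ hm₂ hf₁ hf₂
    simpa [Pi.smul_apply, g₁, g₂] using hB
  subst hs ht
  have hs0 : s₁ ≠ 0 := by rcases hs₁ with rfl | rfl <;> norm_num
  have ht0 : conj t₁ ≠ 0 := by rcases ht₁ with rfl | rfl <;> simp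
  rw [ip_smul_smul] at oA oB
  rw [classInner_irr hζ₁ hζ₂] at oA
  rw [classInner_irr hξ₁ hξ₂] at oB
  have hζne : ζ₁ ≠ ζ₂ := by
    intro h
    rw [if_pos h, mul_one] at oA
    have hs0' : conj s₁ ≠ 0 := by rcases hs₁ with rfl | rfl <;> simp
    exact mul_ne_zero hs0 hs0' oA
  have hξne : ξ₁ ≠ ξ₂ := by
    intro h
    rw [if_pos h, mul_one] at oB
    have ht0' : t₁ ≠ 0 := by rcases ht₁ with rfl | rfl <;> norm_num
    exact mul_ne_zero ht0' ht0 oB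
  rw [ip_smul_smul, classInner_irr hζ₁ hξ₁]
  by_cases h11 : ζ₁ = ξ₁
  · exfalso
    simp only [classInner_sub_left, classInner_sub_right, classInner_zsmul_left,
      classInner_zsmul_right, ip_smul_smul] at h0
    have h12 : ¬ ζ₁ = ξ₂ := fun h => hξne (h11.symm.trans h)
    have h21 : ¬ ζ₂ = ξ₁ := fun h => hζne (h11.trans h.symm)
    rw [classInner_irr hζ₁ hξ₁, classInner_irr hζ₁ hξ₂, classInner_irr hζ₂ hξ₁,
      classInner_irr hζ₂ hξ₂, if_pos h11, if_neg h12, if_neg h21] at h0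
    have hw : s₁ * conj t₁ ≠ 0 := mul_ne_zero hs0 ht0
    by_cases h22 : ζ₂ = ξ₂
    · rw [if_pos h22] at h0
      have h' : (s₁ * conj t₁) * ((n₂ * m₂ + n₁ * m₁ : ℕ) : ℂ) = 0 := by
        push_cast
        push_cast at h0
        linear_combination h0
      rcases mul_eq_zero.mp h' with h | h
      · exact hw h
      · have h'' : n₂ * m₂ + n₁ * m₁ = 0 := by exact_mod_cast h
        have : 0 < n₂ * m₂ := Nat.mul_pos hn₂ hm₂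
        omega
    · rw [if_neg h22] at h0
      have h' : (s₁ * conj t₁) * ((n₂ * m₂ : ℕ) : ℂ) = 0 := by
        push_cast
        push_cast at h0
        linear_combination h0
      rcases mul_eq_zero.mp h' with h | h
      · exact hw h
      · have h'' : n₂ * m₂ = 0 := by exact_mod_cast h
        have : 0 < n₂ * m₂ := Nat.mul_pos hn₂ hm₂
        omega
  · rw [if_neg h11, mul_zero]

end Key


section Iso

variable {L : Type u} [Group L] [Fintype L] {G : Type v} [Group G] [Fintype G]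

theorem iso_zero {E : Set (L → ℂ)} {σ : (L → ℂ) → (G → ℂ)} (hσ : IsLinearIsometryOn E σ)
    (h0 : (0 : L → ℂ) ∈ E) : σ 0 = 0 := by
  have := hσ.2.1 0 h0 0
  simpa using this

theorem iso_sub {E : Set (L → ℂ)} {σ : (L → ℂ) → (G → ℂ)} (hσ : IsLinearIsometryOn E σ)
    {a b : L → ℂ} (ha : a ∈ E) (hb : b ∈ E) (hb' : (-1 : ℤ) • b ∈ E) :
    σ (a - b) = σ a - σ b := by
  have h1 : a - b = a + (-1 : ℤ) • b := by simp [sub_eq_add_neg]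
  rw [h1, hσ.1 a ha _ hb', hσ.2.1 b hb]
  simp [sub_eq_add_neg]

theorem iso_ip_zero {X Y : Set (L → ℂ)} {σ τ : (L → ℂ) → (G → ℂ)}
    (hσ : IsLinearIsometryOn (zspan X) σ) (hτ : IsLinearIsometryOn (zspan Y) τ)
    (h : ∀ χ ∈ X, ∀ η ∈ Y, classInner (σ χ) (τ η) = 0)
    {a b : L → ℂ} (ha : a ∈ zspan X) (hb : b ∈ zspan Y) : classInner (σ a) (τ b) = 0 := by
  have ha' : a ∈ Submodule.span ℤ X := ha
  have hb' : b ∈ Submodule.span ℤ Y := hb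
  refine Submodule.span_induction₂ (p := fun a b _ _ => classInner (σ a) (τ b) = 0)
    ?_ ?_ ?_ ?_ ?_ ?_ ?_ ha' hb'
  · intro x y hx hy; exact h x hx y hy
  · intro y _; rw [iso_zero hσ zspan_zero]; exact classInner_zero_left _
  · intro x _; rw [iso_zero hτ zspan_zero]; exact classInner_zero_right _
  · intro x y z hx hy _ h1 h2
    rw [hσ.1 x hx y hy, classInner_add_left, h1, h2, add_zero]
  · intro x y z _ hy hz h1 h2
    rw [hτ.1 y hy z hz, classInner_add_right, h1, h2, add_zero]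
  · intro r x y hx _ h1
    rw [hσ.2.1 x hx, classInner_zsmul_left, h1, mul_zero]
  · intro r x y _ hy h1
    rw [hτ.2.1 y hy, classInner_zsmul_right, h1, mul_zero]

theorem decomp_unique {X Y : Set (L → ℂ)}
    (hXY : ∀ χ ∈ X, ∀ η ∈ Y, classInner χ η = 0) {a a' b b' : L → ℂ}
    (ha : a ∈ zspan X) (ha' : a' ∈ zspan X) (hb : b ∈ zspan Y) (hb' : b' ∈ zspan Y)
    (h : a + b = a' + b') : a = a' ∧ b = b' := by
  have e : a - a' = b' - b := by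
    rw [sub_eq_sub_iff_add_eq_add, h, add_comm]
  have h0 := ip_span_zero hXY (zspan_sub ha ha') (zspan_sub hb' hb)
  rw [← e, classInner_self_eq_zero, sub_eq_zero] at h0
  refine ⟨h0, ?_⟩
  rw [h0] at h
  exact add_left_cancel h

open Classical in
/-- the glued map -/
noncomputable def glue (X Y : Set (L → ℂ)) (σ τ : (L → ℂ) → (G → ℂ)) : (L → ℂ) → (G → ℂ) :=
  fun θ => if h : ∃ a ∈ zspan X, ∃ b ∈ zspan Y, θ = a + b then
    σ h.choose + τ h.choose_spec.2.choose else 0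

theorem glue_eq {X Y : Set (L → ℂ)} (σ τ : (L → ℂ) → (G → ℂ))
    (hXY : ∀ χ ∈ X, ∀ η ∈ Y, classInner χ η = 0) {a b : L → ℂ}
    (ha : a ∈ zspan X) (hb : b ∈ zspan Y) : glue X Y σ τ (a + b) = σ a + τ b := by
  have h : ∃ a' ∈ zspan X, ∃ b' ∈ zspan Y, a + b = a' + b' := ⟨a, ha, b, hb, rfl⟩
  unfold glue
  rw [dif_pos h]
  obtain ⟨e1, e2⟩ := decomp_unique hXY ha h.choose_spec.1 hb h.choose_spec.2.choose_spec.1
    h.choose_spec.2.choose_spec.2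
  exact congrArg₂ (· + ·) (congrArg σ e1.symm) (congrArg τ e2.symm)

theorem mem_zspan_union {X Y : Set (L → ℂ)} {θ : L → ℂ} (h : θ ∈ zspan (X ∪ Y)) :
    ∃ a ∈ zspan X, ∃ b ∈ zspan Y, θ = a + b := by
  have h' : θ ∈ Submodule.span ℤ (X ∪ Y) := h
  rw [Submodule.span_union, Submodule.mem_sup] at h'
  obtain ⟨a, ha, b, hb, hab⟩ := h'
  exact ⟨a, ha, b, hb, hab.symm⟩

theorem glue_isometry {X Y : Set (L → ℂ)} {σ τ : (L → ℂ) → (G → ℂ)}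
    (hσ : IsLinearIsometryOn (zspan X) σ) (hτ : IsLinearIsometryOn (zspan Y) τ)
    (hXY : ∀ χ ∈ X, ∀ η ∈ Y, classInner χ η = 0)
    (h : ∀ χ ∈ X, ∀ η ∈ Y, classInner (σ χ) (τ η) = 0) :
    IsLinearIsometryOn (zspan (X ∪ Y)) (glue X Y σ τ) := by
  refine ⟨?_, ?_, ?_, ?_⟩
  · intro θ hθ θ' hθ'
    obtain ⟨a, ha, b, hb, rfl⟩ := mem_zspan_union hθ
    obtain ⟨a', ha', b', hb', rfl⟩ := mem_zspan_union hθ'
    have e : a + b + (a' + b') = (a + a') + (b + b') := by abel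
    rw [e, glue_eq σ τ hXY (zspan_add ha ha') (zspan_add hb hb'), glue_eq σ τ hXY ha hb,
      glue_eq σ τ hXY ha' hb', hσ.1 a ha a' ha', hτ.1 b hb b' hb']
    abel
  · intro θ hθ n
    obtain ⟨a, ha, b, hb, rfl⟩ := mem_zspan_union hθ
    rw [smul_add, glue_eq σ τ hXY (zspan_zsmul n ha) (zspan_zsmul n hb), glue_eq σ τ hXY ha hb,
      hσ.2.1 a ha, hτ.2.1 b hb, smul_add]
  · intro θ hθ θ' hθ'
    obtain ⟨a, ha, b, hb, rfl⟩ := mem_zspan_union hθ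
    obtain ⟨a', ha', b', hb', rfl⟩ := mem_zspan_union hθ'
    rw [glue_eq σ τ hXY ha hb, glue_eq σ τ hXY ha' hb']
    simp only [classInner_add_left, classInner_add_right]
    rw [hσ.2.2.1 a ha a' ha', hτ.2.2.1 b hb b' hb', iso_ip_zero hσ hτ h ha hb',
      ip_span_zero hXY ha hb']
    have e1 : classInner (τ b) (σ a') = 0 := by
      rw [← classInner_conj_symm, iso_ip_zero hσ hτ h ha' hb, map_zero]
    have e2 : classInner b a' = 0 := by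
      rw [← classInner_conj_symm, ip_span_zero hXY ha' hb, map_zero]
    rw [e1, e2]
  · intro θ hθ
    obtain ⟨a, ha, b, hb, rfl⟩ := mem_zspan_union hθ
    rw [glue_eq σ τ hXY ha hb]
    exact IsGeneralizedCharacter.add (hσ.2.2.2 a ha) (hτ.2.2.2 b hb)

end Iso


section Main

variable {L : Type u} [Group L] [Fintype L] {G : Type v} [Group G] [Fintype G]

/-- the difference `n₂ χ₁ - n₁ χ₂` and its basic properties -/
theorem diff_mem {X : Set (L → ℂ)} {χ₁ χ₂ : L → ℂ} (h₁ : χ₁ ∈ X) (h₂ : χ₂ ∈ X) {n₁ n₂ : ℕ}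
    (e₁ : χ₁ 1 = n₁) (e₂ : χ₂ 1 = n₂) :
    (n₂ : ℤ) • χ₁ - (n₁ : ℤ) • χ₂ ∈ zspanOn X ({1}ᶜ : Set L) := by
  apply mem_zspanOn_one (zspan_sub (zspan_zsmul _ (zspan_of_mem h₁)) (zspan_zsmul _ (zspan_of_mem h₂)))
  rw [Pi.sub_apply, Pi.smul_apply, Pi.smul_apply, e₁, e₂]
  simp only [zsmul_eq_mul, Int.cast_natCast]
  ring

theorem iso_diff {E : Set (L → ℂ)} {σ : (L → ℂ) → (G → ℂ)} (hσ : IsLinearIsometryOn E σ)
    {a b : L → ℂ} (ha : a ∈ E) (hb : b ∈ E) (n m : ℤ) (hna : n • a ∈ E) (hmb : m • b ∈ E)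
    (hmb' : (-1 : ℤ) • m • b ∈ E) :
    σ (n • a - m • b) = n • σ a - m • σ b := by
  rw [iso_sub hσ hna hmb hmb', hσ.2.1 a ha, hσ.2.1 b hb]

theorem part1 (S X Y : Set (L → ℂ)) (hirr : ∀ ξ ∈ S, IsIrrCharacter L ξ) (hXS : X ⊆ S)
    (hYS : Y ⊆ S) (hXYo : ∀ χ ∈ X, ∀ η ∈ Y, classInner χ η = 0)
    (hX2 : ∃ a ∈ X, ∃ b ∈ X, a ≠ b) (hY2 : ∃ a ∈ Y, ∃ b ∈ Y, a ≠ b)
    (α : (L → ℂ) → (G → ℂ)) (hα : IsLinearIsometryOn (zspanOn S ({1}ᶜ : Set L)) α)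
    (hα1 : ∀ θ ∈ zspanOn S ({1}ᶜ : Set L), α θ 1 = 0) (σ τ : (L → ℂ) → (G → ℂ))
    (hσ : IsLinearIsometryOn (zspan X) σ) (hσα : ∀ θ ∈ zspanOn X ({1}ᶜ : Set L), σ θ = α θ)
    (hτ : IsLinearIsometryOn (zspan Y) τ) (hτα : ∀ θ ∈ zspanOn Y ({1}ᶜ : Set L), τ θ = α θ) :
    ∀ χ ∈ X, ∀ η ∈ Y, classInner (σ χ) (τ η) = 0 := by
  intro χ₁ hχ₁ η₁ hη₁
  obtain ⟨χ₂, hχ₂, hχne⟩ : ∃ χ₂ ∈ X, χ₁ ≠ χ₂ := by
    obtain ⟨a, ha, b, hb, hab⟩ := hX2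
    by_cases h : χ₁ = a
    · exact ⟨b, hb, h ▸ hab⟩
    · exact ⟨a, ha, h⟩
  obtain ⟨η₂, hη₂, hηne⟩ : ∃ η₂ ∈ Y, η₁ ≠ η₂ := by
    obtain ⟨a, ha, b, hb, hab⟩ := hY2
    by_cases h : η₁ = a
    · exact ⟨b, hb, h ▸ hab⟩
    · exact ⟨a, ha, h⟩
  have iχ₁ := hirr χ₁ (hXS hχ₁)
  have iχ₂ := hirr χ₂ (hXS hχ₂)
  have iη₁ := hirr η₁ (hYS hη₁)
  have iη₂ := hirr η₂ (hYS hη₂)
  obtain ⟨n₁, hn₁, e₁⟩ := IsIrrCharacter.apply_one iχ₁
  obtain ⟨n₂, hn₂, e₂⟩ := IsIrrCharacter.apply_one iχ₂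
  obtain ⟨m₁, hm₁, g₁⟩ := IsIrrCharacter.apply_one iη₁
  obtain ⟨m₂, hm₂, g₂⟩ := IsIrrCharacter.apply_one iη₂
  have zχ₁ := zspan_of_mem hχ₁
  have zχ₂ := zspan_of_mem hχ₂
  have zη₁ := zspan_of_mem hη₁
  have zη₂ := zspan_of_mem hη₂
  have hθ := diff_mem hχ₁ hχ₂ e₁ e₂
  have hψ := diff_mem hη₁ hη₂ g₁ g₂
  have eσ : σ ((n₂ : ℤ) • χ₁ - (n₁ : ℤ) • χ₂) = (n₂ : ℤ) • σ χ₁ - (n₁ : ℤ) • σ χ₂ :=
    iso_diff hσ zχ₁ zχ₂ _ _ (zspan_zsmul _ zχ₁) (zspan_zsmul _ zχ₂)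
      (zspan_zsmul _ (zspan_zsmul _ zχ₂))
  have eτ : τ ((m₂ : ℤ) • η₁ - (m₁ : ℤ) • η₂) = (m₂ : ℤ) • τ η₁ - (m₁ : ℤ) • τ η₂ :=
    iso_diff hτ zη₁ zη₂ _ _ (zspan_zsmul _ zη₁) (zspan_zsmul _ zη₂)
      (zspan_zsmul _ (zspan_zsmul _ zη₂))
  have h0 : classInner ((n₂ : ℤ) • σ χ₁ - (n₁ : ℤ) • σ χ₂) ((m₂ : ℤ) • τ η₁ - (m₁ : ℤ) • τ η₂) = 0 := by
    rw [← eσ, ← eτ, hσα _ hθ, hτα _ hψ,
      hα.2.2.1 _ (zspanOn_mono _ hXS hθ) _ (zspanOn_mono _ hYS hψ)]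
    exact ip_span_zero hXYo hθ.1 hψ.1
  have hA : (n₂ : ℂ) * σ χ₁ 1 = (n₁ : ℂ) * σ χ₂ 1 := by
    have := hα1 _ (zspanOn_mono _ hXS hθ)
    rw [← hσα _ hθ, eσ] at this
    rw [Pi.sub_apply, Pi.smul_apply, Pi.smul_apply] at this
    simp only [zsmul_eq_mul, Int.cast_natCast] at this
    linear_combination this
  have hB : (m₂ : ℂ) * τ η₁ 1 = (m₁ : ℂ) * τ η₂ 1 := by
    have := hα1 _ (zspanOn_mono _ hYS hψ)
    rw [← hτα _ hψ, eτ] at this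
    rw [Pi.sub_apply, Pi.smul_apply, Pi.smul_apply] at this
    simp only [zsmul_eq_mul, Int.cast_natCast] at this
    linear_combination this
  refine key_orth (σ χ₁) (σ χ₂) (τ η₁) (τ η₂) (hσ.2.2.2 _ zχ₁) (hσ.2.2.2 _ zχ₂)
    (hτ.2.2.2 _ zη₁) (hτ.2.2.2 _ zη₂) ?_ ?_ ?_ ?_ ?_ ?_ n₁ n₂ m₁ m₂ hn₁ hn₂ hm₁ hm₂ h0 hA hB
  · rw [hσ.2.2.1 _ zχ₁ _ zχ₁, classInner_irr_self iχ₁]
  · rw [hσ.2.2.1 _ zχ₂ _ zχ₂, classInner_irr_self iχ₂]
  · rw [hτ.2.2.1 _ zη₁ _ zη₁, classInner_irr_self iη₁]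
  · rw [hτ.2.2.1 _ zη₂ _ zη₂, classInner_irr_self iη₂]
  · rw [hσ.2.2.1 _ zχ₁ _ zχ₂, classInner_irr_of_ne iχ₁ iχ₂ hχne]
  · rw [hτ.2.2.1 _ zη₁ _ zη₂, classInner_irr_of_ne iη₁ iη₂ hηne]


theorem part2 (S X Y : Set (L → ℂ)) (hirr : ∀ ξ ∈ S, IsIrrCharacter L ξ) (hXS : X ⊆ S)
    (hYS : Y ⊆ S) (hXYo : ∀ χ ∈ X, ∀ η ∈ Y, classInner χ η = 0)
    (hX2 : ∃ a ∈ X, ∃ b ∈ X, a ≠ b)
    (α : (L → ℂ) → (G → ℂ)) (hα : IsLinearIsometryOn (zspanOn S ({1}ᶜ : Set L)) α)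
    (σ τ : (L → ℂ) → (G → ℂ))
    (hσ : IsLinearIsometryOn (zspan X) σ) (hσα : ∀ θ ∈ zspanOn X ({1}ᶜ : Set L), σ θ = α θ)
    (hτ : IsLinearIsometryOn (zspan Y) τ) (hτα : ∀ θ ∈ zspanOn Y ({1}ᶜ : Set L), τ θ = α θ)
    (h1 : ∀ χ ∈ X, ∀ η ∈ Y, classInner (σ χ) (τ η) = 0)
    (χ₀ : L → ℂ) (hχ₀ : χ₀ ∈ X) (η₀ : L → ℂ) (hη₀ : η₀ ∈ Y)
    (hyp : α (χ₀ 1 • η₀ - η₀ 1 • χ₀) = χ₀ 1 • τ η₀ - η₀ 1 • σ χ₀) :
    IsCoherent (X ∪ Y) ({1}ᶜ : Set L) α := by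
  refine ⟨?_, glue X Y σ τ, glue_isometry hσ hτ hXYo h1, ?_⟩
  · obtain ⟨a, ha, b, hb, hab⟩ := hX2
    have ia := hirr a (hXS ha)
    have ib := hirr b (hXS hb)
    obtain ⟨na, hna, ea⟩ := IsIrrCharacter.apply_one ia
    obtain ⟨nb, hnb, eb⟩ := IsIrrCharacter.apply_one ib
    refine ⟨_, zspanOn_mono _ Set.subset_union_left (diff_mem ha hb ea eb), ?_⟩
    intro h0
    have : classInner ((nb : ℤ) • a - (na : ℤ) • b) a = 0 := by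
      rw [h0]; exact classInner_zero_left _
    rw [classInner_sub_left, classInner_zsmul_left, classInner_zsmul_left,
      classInner_irr_self ia, classInner_irr_of_ne ib ia (Ne.symm hab)] at this
    simp only [Int.cast_natCast, mul_one, mul_zero, sub_zero] at this
    have : nb = 0 := by exact_mod_cast this
    omega
  · intro θ hθ
    obtain ⟨a, ha, b, hb, rfl⟩ := mem_zspan_union hθ.1
    rw [glue_eq σ τ hXYo ha hb]
    have iχ₀ := hirr χ₀ (hXS hχ₀)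
    have iη₀ := hirr η₀ (hYS hη₀)
    obtain ⟨n₀, hn₀, e₀⟩ := IsIrrCharacter.apply_one iχ₀
    obtain ⟨m₀, hm₀, g₀⟩ := IsIrrCharacter.apply_one iη₀
    have zχ₀ := zspan_of_mem hχ₀
    have zη₀ := zspan_of_mem hη₀
    obtain ⟨k, hk⟩ := zspan_apply_int (1 : L) (fun χ hχ => by
      obtain ⟨n, _, hn⟩ := IsIrrCharacter.apply_one (hirr χ (hXS hχ))
      exact ⟨n, by rw [hn]; simp⟩) ha
    have hb1 : b 1 = -(k : ℂ) := by
      have := zspanOn_one_apply hθ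
      rw [Pi.add_apply, hk] at this
      linear_combination this
    -- the three pieces
    have hA' : (n₀ : ℤ) • a - k • χ₀ ∈ zspanOn X ({1}ᶜ : Set L) := by
      apply mem_zspanOn_one (zspan_sub (zspan_zsmul _ ha) (zspan_zsmul _ zχ₀))
      rw [Pi.sub_apply, Pi.smul_apply, Pi.smul_apply, hk, e₀]
      simp only [zsmul_eq_mul, Int.cast_natCast]
      ring
    have hB' : (m₀ : ℤ) • b - (-k) • η₀ ∈ zspanOn Y ({1}ᶜ : Set L) := by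
      apply mem_zspanOn_one (zspan_sub (zspan_zsmul _ hb) (zspan_zsmul _ zη₀))
      rw [Pi.sub_apply, Pi.smul_apply, Pi.smul_apply, hb1, g₀]
      simp only [zsmul_eq_mul, Int.cast_natCast, Int.cast_neg]
      ring
    have hω : (n₀ : ℤ) • η₀ - (m₀ : ℤ) • χ₀ ∈ zspanOn S ({1}ᶜ : Set L) := by
      apply mem_zspanOn_one (zspan_sub (zspan_zsmul _ (zspan_of_mem (hYS hη₀)))
        (zspan_zsmul _ (zspan_of_mem (hXS hχ₀))))
      rw [Pi.sub_apply, Pi.smul_apply, Pi.smul_apply, e₀, g₀]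
      simp only [zsmul_eq_mul, Int.cast_natCast]
      ring
    have hyp' : α ((n₀ : ℤ) • η₀ - (m₀ : ℤ) • χ₀) = (n₀ : ℤ) • τ η₀ - (m₀ : ℤ) • σ χ₀ := by
      have e1 : χ₀ 1 • η₀ = (n₀ : ℤ) • η₀ := by
        rw [e₀]; ext x; simp
      have e2 : η₀ 1 • χ₀ = (m₀ : ℤ) • χ₀ := by
        rw [g₀]; ext x; simp
      have e3 : χ₀ 1 • τ η₀ = (n₀ : ℤ) • τ η₀ := by
        rw [e₀]; ext x; simp
      have e4 : η₀ 1 • σ χ₀ = (m₀ : ℤ) • σ χ₀ := by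
        rw [g₀]; ext x; simp
      rw [← e1, ← e2, ← e3, ← e4]
      exact hyp
    have eA : α ((n₀ : ℤ) • a - k • χ₀) = (n₀ : ℤ) • σ a - k • σ χ₀ := by
      rw [← hσα _ hA']
      exact iso_diff hσ ha zχ₀ _ _ (zspan_zsmul _ ha) (zspan_zsmul _ zχ₀)
        (zspan_zsmul _ (zspan_zsmul _ zχ₀))
    have eB : α ((m₀ : ℤ) • b - (-k) • η₀) = (m₀ : ℤ) • τ b - (-k) • τ η₀ := by
      rw [← hτα _ hB']
      exact iso_diff hτ hb zη₀ _ _ (zspan_zsmul _ hb) (zspan_zsmul _ zη₀)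
        (zspan_zsmul _ (zspan_zsmul _ zη₀))
    -- the decomposition of (n₀ m₀) • (a + b)
    have hA'S := zspanOn_mono ({1}ᶜ : Set L) hXS hA'
    have hB'S := zspanOn_mono ({1}ᶜ : Set L) hYS hB'
    have hθS : a + b ∈ zspanOn S ({1}ᶜ : Set L) :=
      zspanOn_mono _ (Set.union_subset hXS hYS) hθ
    have hdecomp : ((n₀ : ℤ) * (m₀ : ℤ)) • (a + b) =
        ((m₀ : ℤ) • ((n₀ : ℤ) • a - k • χ₀) + (n₀ : ℤ) • ((m₀ : ℤ) • b - (-k) • η₀)) -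
          k • ((n₀ : ℤ) • η₀ - (m₀ : ℤ) • χ₀) := by
      ext x
      simp only [Pi.add_apply, Pi.sub_apply, Pi.smul_apply]
      simp only [zsmul_eq_mul, Int.cast_mul, Int.cast_natCast, Int.cast_neg]
      ring
    have h1' := zspanOn_zsmul (m₀ : ℤ) hA'S
    have h2' := zspanOn_zsmul (n₀ : ℤ) hB'S
    have h3' := zspanOn_zsmul k hω
    have hfin : ((n₀ : ℤ) * (m₀ : ℤ)) • α (a + b) =
        ((n₀ : ℤ) * (m₀ : ℤ)) • (σ a + τ b) := by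
      rw [← hα.2.1 _ hθS, hdecomp,
        iso_sub hα (zspanOn_add h1' h2') h3' (zspanOn_zsmul _ h3'),
        hα.1 _ h1' _ h2', hα.2.1 _ hA'S, hα.2.1 _ hB'S, hα.2.1 _ hω, eA, eB, hyp']
      ext x
      simp only [Pi.add_apply, Pi.sub_apply, Pi.smul_apply]
      simp only [zsmul_eq_mul, Int.cast_mul, Int.cast_natCast, Int.cast_neg]
      ring
    have hne : ((n₀ : ℤ) * (m₀ : ℤ)) ≠ 0 := by
      have : 0 < n₀ * m₀ := Nat.mul_pos hn₀ hm₀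
      exact_mod_cast this.ne'
    exact (smul_right_injective (G → ℂ) hne hfin).symm

end Main

end Cfsg.Agent.Lib.Helper5_Coh
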