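import Mathlib
import Cfsg.Prelude.Def_OddOrderChar
import Cfsg.Agent.Lib.Helper2_ClassFn
import Cfsg.Agent.Lib.Helper2_CharOrtho
import Cfsg.Agent.Lib.Helper5_Coh

set_option autoImplicit false

namespace Cfsg.Agent.Lib.Helper5_Coh2

open Cfsg
open Cfsg.Agent.Lib.Helper2_ClassFn Cfsg.Agent.Lib.Helper2_CharOrtho
open Cfsg.Agent.Lib.Helper5_Coh
open scoped ComplexConjugate

universe u v

variable {L : Type u} [Group L] [Fintype L] {G : Type v} [Group G] [Fintype G]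

/-- Bessel for an orthonormal finite family with integer coefficients. -/
theorem bessel {ι : Type*} [DecidableEq ι] (s : Finset ι) (e : ι → G → ℂ)
    (he : ∀ i ∈ s, ∀ j ∈ s, classInner (e i) (e j) = if i = j then 1 else 0)
    (Δ : G → ℂ) (z : ι → ℤ) (hz : ∀ i ∈ s, classInner Δ (e i) = z i) (N : ℤ)
    (hN : classInner Δ Δ = (N : ℂ)) :
    ∑ i ∈ s, (z i) ^ 2 ≤ N ∧ (∑ i ∈ s, (z i) ^ 2 = N → Δ = ∑ i ∈ s, (z i : ℂ) • e i) := by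
  have h1 : classInner Δ (∑ i ∈ s, (z i : ℂ) • e i) = ((∑ i ∈ s, (z i) ^ 2 : ℤ) : ℂ) := by
    rw [classInner_sum_right]
    push_cast
    refine Finset.sum_congr rfl fun i hi => ?_
    rw [classInner_smul_right, hz i hi]
    simp [sq]
  have h2 : classInner (∑ i ∈ s, (z i : ℂ) • e i) Δ = ((∑ i ∈ s, (z i) ^ 2 : ℤ) : ℂ) := by
    rw [← classInner_conj_symm, h1]
    simp
  have h3 : classInner (∑ i ∈ s, (z i : ℂ) • e i) (∑ i ∈ s, (z i : ℂ) • e i) =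
      ((∑ i ∈ s, (z i) ^ 2 : ℤ) : ℂ) := by
    rw [classInner_sum_left]
    push_cast
    refine Finset.sum_congr rfl fun i hi => ?_
    rw [classInner_smul_left, classInner_sum_right]
    have : ∑ j ∈ s, classInner (e i) ((z j : ℂ) • e j) = (z i : ℂ) := by
      rw [Finset.sum_eq_single i]
      · rw [classInner_smul_right, he i hi i hi, if_pos rfl]; simp
      · intro j hj hji
        rw [classInner_smul_right, he i hi j hj, if_neg (Ne.symm hji), mul_zero]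
      · intro h; exact absurd hi h
    rw [this]; ring
  have h4 : classInner (Δ - ∑ i ∈ s, (z i : ℂ) • e i) (Δ - ∑ i ∈ s, (z i : ℂ) • e i) =
      ((N - ∑ i ∈ s, (z i) ^ 2 : ℤ) : ℂ) := by
    rw [classInner_sub_left, classInner_sub_right, classInner_sub_right, hN, h1, h2, h3]
    push_cast
    ring
  constructor
  · have := classInner_self_re_nonneg (Δ - ∑ i ∈ s, (z i : ℂ) • e i)
    rw [h4] at this
    have h5 : (0 : ℝ) ≤ ((N - ∑ i ∈ s, (z i) ^ 2 : ℤ) : ℝ) := by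
      rw [← Complex.intCast_re]; exact this
    have h6 : (0 : ℤ) ≤ N - ∑ i ∈ s, (z i) ^ 2 := by exact_mod_cast h5
    linarith
  · intro heq
    rw [heq, sub_self, Int.cast_zero, classInner_self_eq_zero, sub_eq_zero] at h4
    exact h4


theorem mem_zspan_singleton {χ θ : L → ℂ} (h : θ ∈ zspan ({χ} : Set (L → ℂ))) :
    ∃ m : ℤ, θ = m • χ := by
  have h' : θ ∈ Submodule.span ℤ ({χ} : Set (L → ℂ)) := h
  rw [Submodule.mem_span_singleton] at h'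
  obtain ⟨m, hm⟩ := h'
  exact ⟨m, hm.symm⟩

theorem single_iso (χ : L → ℂ) (hχ : classInner χ χ = 1) (Δ : G → ℂ)
    (hΔ : IsGeneralizedCharacter G Δ) (hΔ1 : classInner Δ Δ = 1) :
    IsLinearIsometryOn (zspan ({χ} : Set (L → ℂ))) (fun θ => classInner θ χ • Δ) := by
  refine ⟨?_, ?_, ?_, ?_⟩
  · intro θ _ θ' _
    show classInner (θ + θ') χ • Δ = classInner θ χ • Δ + classInner θ' χ • Δ
    rw [classInner_add_left, add_smul]
  · intro θ _ n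
    show classInner (n • θ) χ • Δ = n • (classInner θ χ • Δ)
    rw [classInner_zsmul_left]
    ext x
    simp only [Pi.smul_apply, smul_eq_mul, zsmul_eq_mul]
    ring
  · intro θ hθ θ' hθ'
    obtain ⟨m, rfl⟩ := mem_zspan_singleton hθ
    obtain ⟨m', rfl⟩ := mem_zspan_singleton hθ'
    show classInner (classInner (m • χ) χ • Δ) (classInner (m' • χ) χ • Δ) = _
    have hc : ∀ k : ℤ, classInner (k • χ) χ = (k : ℂ) := by
      intro k; rw [classInner_zsmul_left, hχ, mul_one]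
    rw [hc m, hc m', classInner_smul_left, classInner_smul_right, hΔ1, classInner_zsmul_right,
      hc m]
    simp [mul_comm]
  · intro θ hθ
    obtain ⟨m, rfl⟩ := mem_zspan_singleton hθ
    show IsGeneralizedCharacter G (classInner (m • χ) χ • Δ)
    rw [classInner_zsmul_left, hχ, mul_one]
    have : ((m : ℂ)) • Δ = m • Δ := by
      ext x; simp
    rw [this]
    exact IsGeneralizedCharacter.zsmul m hΔ


theorem feit (S₀ : Finset (L → ℂ)) (χ : L → ℂ) (hirr : ∀ ξ ∈ S₀, IsIrrCharacter L ξ)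
    (hχ : IsIrrCharacter L χ) (hχS : χ ∉ S₀) (d : (L → ℂ) → ℕ)
    (hd : ∀ ξ ∈ insert χ S₀, ξ 1 = (d ξ : ℂ)) (τ : (L → ℂ) → (G → ℂ))
    (hτ : IsLinearIsometryOn (zspanOn (↑(insert χ S₀) : Set (L → ℂ)) ({1}ᶜ : Set L)) τ)
    (hτ1 : ∀ α ∈ zspanOn (↑(insert χ S₀) : Set (L → ℂ)) ({1}ᶜ : Set L), τ α 1 = 0)
    (hcoh : IsCoherent (↑S₀ : Set (L → ℂ)) ({1}ᶜ : Set L) τ) (ψ : L → ℂ) (hψ : ψ ∈ S₀)
    (hdvd : d ψ ∣ d χ) (hlt : 2 * d ψ * d χ < ∑ ξ ∈ S₀, d ξ ^ 2) :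
    IsCoherent (↑(insert χ S₀) : Set (L → ℂ)) ({1}ᶜ : Set L) τ := by
  classical
  obtain ⟨⟨θne, hθne, hθne0⟩, τ₀, hτ₀, hτ₀α⟩ := hcoh
  have hS₀T : (↑S₀ : Set (L → ℂ)) ⊆ (↑(insert χ S₀) : Set (L → ℂ)) := by
    intro x hx
    rw [Finset.coe_insert]
    exact Set.mem_insert_of_mem _ hx
  have hχT : χ ∈ (↑(insert χ S₀) : Set (L → ℂ)) := by
    rw [Finset.coe_insert]
    exact Set.mem_insert _ _
  have hdS : ∀ ξ ∈ S₀, ξ 1 = (d ξ : ℂ) := fun ξ hξ => hd ξ (Finset.mem_insert_of_mem hξ)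
  have hdχ : χ 1 = (d χ : ℂ) := hd χ (Finset.mem_insert_self _ _)
  have dpos : ∀ ξ ∈ S₀, 0 < d ξ := by
    intro ξ hξ
    obtain ⟨n, hn, e⟩ := IsIrrCharacter.apply_one (hirr ξ hξ)
    have : (d ξ : ℂ) = n := by rw [← hdS ξ hξ, e]
    have : d ξ = n := by exact_mod_cast this
    omega
  have dχpos : 0 < d χ := by
    obtain ⟨n, hn, e⟩ := IsIrrCharacter.apply_one hχ
    have : (d χ : ℂ) = n := by rw [← hdχ, e]
    have : d χ = n := by exact_mod_cast this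
    omega
  obtain ⟨a, ha⟩ := hdvd
  have dψpos := dpos ψ hψ
  have apos : 0 < a := by
    rcases Nat.eq_zero_or_pos a with h | h
    · rw [h, mul_zero] at ha; omega
    · exact h
  have mS : ∀ ξ ∈ S₀, ξ ∈ zspan (↑S₀ : Set (L → ℂ)) := fun ξ hξ => zspan_of_mem hξ
  have ipS : ∀ ξ ∈ S₀, ∀ ξ' ∈ S₀, classInner ξ ξ' = if ξ = ξ' then 1 else 0 :=
    fun ξ hξ ξ' hξ' => classInner_irr (hirr ξ hξ) (hirr ξ' hξ')
  have ipχ : ∀ ξ ∈ S₀, classInner χ ξ = 0 := by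
    intro ξ hξ
    apply classInner_irr_of_ne hχ (hirr ξ hξ)
    intro h; exact hχS (h ▸ hξ)
  have ipχ' : ∀ ξ ∈ S₀, classInner ξ χ = 0 := by
    intro ξ hξ
    rw [← classInner_conj_symm, ipχ ξ hξ, map_zero]
  -- β and Δ
  have hβ : χ - (a : ℤ) • ψ ∈ zspanOn (↑(insert χ S₀) : Set (L → ℂ)) ({1}ᶜ : Set L) := by
    apply mem_zspanOn_one (zspan_sub (zspan_of_mem hχT) (zspan_zsmul _ (zspan_of_mem (hS₀T hψ))))
    rw [Pi.sub_apply, Pi.smul_apply, hdχ, hdS ψ hψ, ha]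
    simp only [zsmul_eq_mul, Int.cast_natCast]
    push_cast
    ring
  have hΔg : IsGeneralizedCharacter G (τ (χ - (a : ℤ) • ψ) + (a : ℤ) • τ₀ ψ) :=
    IsGeneralizedCharacter.add (hτ.2.2.2 _ hβ)
      (IsGeneralizedCharacter.zsmul _ (hτ₀.2.2.2 _ (mS ψ hψ)))
  have he : ∀ ξ ∈ S₀, ∀ ξ' ∈ S₀, classInner (τ₀ ξ) (τ₀ ξ') = if ξ = ξ' then 1 else 0 := by
    intro ξ hξ ξ' hξ'
    rw [hτ₀.2.2.1 ξ (mS ξ hξ) ξ' (mS ξ' hξ'), ipS ξ hξ ξ' hξ']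
  -- Δ is orthogonal to τ₀ of ℤ[S₀]°
  have hperp : ∀ θ ∈ zspanOn (↑S₀ : Set (L → ℂ)) ({1}ᶜ : Set L),
      classInner (τ (χ - (a : ℤ) • ψ) + (a : ℤ) • τ₀ ψ) (τ₀ θ) = 0 := by
    intro θ hθ
    have hχθ : classInner χ θ = 0 :=
      ip_span_zero (X := {χ}) (Y := (↑S₀ : Set (L → ℂ)))
        (by intro x hx y hy; rw [Set.mem_singleton_iff.mp hx]; exact ipχ y hy)
        (zspan_of_mem (Set.mem_singleton χ)) hθ.1
    rw [classInner_add_left, classInner_zsmul_left, hτ₀.2.2.1 ψ (mS ψ hψ) θ hθ.1, hτ₀α θ hθ,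
      hτ.2.2.1 _ hβ θ (zspanOn_mono _ hS₀T hθ), classInner_sub_left, classInner_zsmul_left, hχθ]
    ring
  -- integer coefficients
  have hzex : ∀ ξ : L → ℂ, ∃ z : ℤ, ξ ∈ S₀ →
      classInner (τ (χ - (a : ℤ) • ψ) + (a : ℤ) • τ₀ ψ) (τ₀ ξ) = z := by
    intro ξ
    by_cases hξ : ξ ∈ S₀
    · obtain ⟨z, hz⟩ := IsGeneralizedCharacter.classInner_int hΔg (hτ₀.2.2.2 ξ (mS ξ hξ))
      exact ⟨z, fun _ => hz⟩
    · exact ⟨0, fun h => absurd h hξ⟩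
  choose z hz using hzex
  have hdiff : ∀ ξ ∈ S₀, ∀ ξ' ∈ S₀,
      (d ξ' : ℤ) • ξ - (d ξ : ℤ) • ξ' ∈ zspanOn (↑S₀ : Set (L → ℂ)) ({1}ᶜ : Set L) :=
    fun ξ hξ ξ' hξ' => diff_mem (X := (↑S₀ : Set (L → ℂ))) hξ hξ' (hdS ξ hξ) (hdS ξ' hξ')
  have hτ₀diff : ∀ ξ ∈ S₀, ∀ ξ' ∈ S₀,
      τ₀ ((d ξ' : ℤ) • ξ - (d ξ : ℤ) • ξ') = (d ξ' : ℤ) • τ₀ ξ - (d ξ : ℤ) • τ₀ ξ' :=
    fun ξ hξ ξ' hξ' => iso_diff hτ₀ (mS ξ hξ) (mS ξ' hξ') _ _ (zspan_zsmul _ (mS ξ hξ))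
      (zspan_zsmul _ (mS ξ' hξ')) (zspan_zsmul _ (zspan_zsmul _ (mS ξ' hξ')))
  have hrel : ∀ ξ ∈ S₀, (d ψ : ℤ) * z ξ = (d ξ : ℤ) * z ψ := by
    intro ξ hξ
    have := hperp _ (hdiff ξ hξ ψ hψ)
    rw [hτ₀diff ξ hξ ψ hψ, classInner_sub_right, classInner_zsmul_right, classInner_zsmul_right,
      hz ξ hξ, hz ψ hψ] at this
    have h' : (((d ψ : ℤ) * z ξ - (d ξ : ℤ) * z ψ : ℤ) : ℂ) = 0 := by
      push_cast
      push_cast at this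
      linear_combination this
    have h'' : (d ψ : ℤ) * z ξ - (d ξ : ℤ) * z ψ = 0 := by exact_mod_cast h'
    linarith
  -- the norm of Δ
  have hββ : classInner (χ - (a : ℤ) • ψ) (χ - (a : ℤ) • ψ) = ((1 + a * a : ℤ) : ℂ) := by
    rw [classInner_sub_left, classInner_sub_right, classInner_sub_right, classInner_zsmul_left,
      classInner_zsmul_left, classInner_zsmul_right, classInner_zsmul_right,
      classInner_irr_self hχ, ipχ ψ hψ, ipχ' ψ hψ, ipS ψ hψ ψ hψ, if_pos rfl]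
    push_cast
    ring
  have hβψ : classInner (τ (χ - (a : ℤ) • ψ)) (τ₀ ψ) = ((z ψ - a : ℤ) : ℂ) := by
    have := hz ψ hψ
    rw [classInner_add_left, classInner_zsmul_left, he ψ hψ ψ hψ, if_pos rfl] at this
    push_cast
    push_cast at this
    linear_combination this
  have hnorm : classInner (τ (χ - (a : ℤ) • ψ) + (a : ℤ) • τ₀ ψ)
      (τ (χ - (a : ℤ) • ψ) + (a : ℤ) • τ₀ ψ) = ((1 + 2 * a * z ψ : ℤ) : ℂ) := by
    have hψβ : classInner (τ₀ ψ) (τ (χ - (a : ℤ) • ψ)) = ((z ψ - a : ℤ) : ℂ) := by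
      rw [← classInner_conj_symm, hβψ]; simp
    rw [classInner_add_left, classInner_add_right, classInner_add_right, classInner_zsmul_left,
      classInner_zsmul_left, classInner_zsmul_right, classInner_zsmul_right,
      hτ.2.2.1 _ hβ _ hβ, hββ, hβψ, hψβ, he ψ hψ ψ hψ, if_pos rfl]
    push_cast
    ring
  obtain ⟨hb1, hb2⟩ := bessel S₀ (fun ξ => τ₀ ξ) he _ z hz _ hnorm
  -- relation of sums
  have hsumrel : (d ψ : ℤ) ^ 2 * ∑ ξ ∈ S₀, (z ξ) ^ 2 = (z ψ) ^ 2 * ((∑ ξ ∈ S₀, d ξ ^ 2 : ℕ) : ℤ) := by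
    push_cast
    rw [Finset.mul_sum, Finset.mul_sum]
    refine Finset.sum_congr rfl fun ξ hξ => ?_
    have := hrel ξ hξ
    have h2 : ((d ψ : ℤ) * z ξ) ^ 2 = ((d ξ : ℤ) * z ψ) ^ 2 := by rw [this]
    linear_combination h2
  -- values at one
  have hval : ∀ ξ ∈ S₀, (d ψ : ℂ) * τ₀ ξ 1 = (d ξ : ℂ) * τ₀ ψ 1 := by
    intro ξ hξ
    have h1 := hτ1 _ (zspanOn_mono _ hS₀T (hdiff ξ hξ ψ hψ))
    rw [← hτ₀α _ (hdiff ξ hξ ψ hψ), hτ₀diff ξ hξ ψ hψ, Pi.sub_apply, Pi.smul_apply,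
      Pi.smul_apply] at h1
    simp only [zsmul_eq_mul, Int.cast_natCast] at h1
    linear_combination h1
  have ht0 : τ₀ ψ 1 ≠ 0 := by
    have hn1 : classInner (τ₀ ψ) (τ₀ ψ) = 1 := by rw [he ψ hψ ψ hψ, if_pos rfl]
    obtain ⟨s, ζ, hs, hζ, hsζ⟩ := exists_sign (hτ₀.2.2.2 ψ (mS ψ hψ)) hn1
    rw [hsζ, Pi.smul_apply, smul_eq_mul]
    apply mul_ne_zero
    · rcases hs with rfl | rfl <;> norm_num
    · exact IsIrrCharacter.apply_one_ne_zero hζ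
  -- z ψ = 0
  have hDlt : 2 * (a : ℤ) * (d ψ : ℤ) ^ 2 + 1 ≤ ((∑ ξ ∈ S₀, d ξ ^ 2 : ℕ) : ℤ) := by
    have : 2 * d ψ * (d ψ * a) + 1 ≤ ∑ ξ ∈ S₀, d ξ ^ 2 := by rw [← ha]; omega
    have h' : ((2 * d ψ * (d ψ * a) + 1 : ℕ) : ℤ) ≤ ((∑ ξ ∈ S₀, d ξ ^ 2 : ℕ) : ℤ) := by
      exact_mod_cast this
    push_cast at h' ⊢
    nlinarith [h']
  have hzψ : z ψ = 0 := by
    by_contra hne
    have dψ2 : (0 : ℤ) < (d ψ : ℤ) ^ 2 := by positivity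
    have aZ : (1 : ℤ) ≤ a := by exact_mod_cast apos
    -- first: z ψ = 1
    have hz1 : z ψ = 1 := by
      have h1 : (z ψ) ^ 2 * (2 * (a : ℤ) * (d ψ : ℤ) ^ 2 + 1) ≤
          (d ψ : ℤ) ^ 2 * (1 + 2 * a * z ψ) := by
        calc (z ψ) ^ 2 * (2 * (a : ℤ) * (d ψ : ℤ) ^ 2 + 1)
            ≤ (z ψ) ^ 2 * ((∑ ξ ∈ S₀, d ξ ^ 2 : ℕ) : ℤ) :=
              mul_le_mul_of_nonneg_left hDlt (sq_nonneg _)
          _ = (d ψ : ℤ) ^ 2 * ∑ ξ ∈ S₀, (z ξ) ^ 2 := hsumrel.symm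
          _ ≤ (d ψ : ℤ) ^ 2 * (1 + 2 * a * z ψ) := mul_le_mul_of_nonneg_left hb1 dψ2.le
      have hP : (0 : ℤ) < 2 * a * (d ψ : ℤ) ^ 2 :=
        mul_pos (mul_pos (show (0:ℤ) < 2 by norm_num) (show (0:ℤ) < a by omega)) dψ2
      have haδ : (d ψ : ℤ) ^ 2 ≤ a * (d ψ : ℤ) ^ 2 := by
        have := mul_le_mul_of_nonneg_right aZ dψ2.le
        linarith
      rcases lt_trichotomy (z ψ) 1 with hlt1 | heq | hgt
      · -- z ψ ≤ -1
        have h2 : (0 : ℤ) ≤ (z ψ - 2) * (z ψ + 1) := by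
          apply mul_nonneg_of_nonpos_of_nonpos <;> omega
        nlinarith [mul_nonneg hP.le h2, sq_nonneg (z ψ)]
      · exact heq
      · have h2 : (0 : ℤ) ≤ (z ψ - 2) * (z ψ + 1) := by
          apply mul_nonneg <;> omega
        nlinarith [mul_nonneg hP.le h2, sq_nonneg (z ψ)]
    rw [hz1] at hb1 hb2 hsumrel
    -- equality in Bessel
    have hQ : ∑ ξ ∈ S₀, (z ξ) ^ 2 = 1 + 2 * (a : ℤ) * 1 := by
      apply le_antisymm hb1
      by_contra hcon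
      push_neg at hcon
      have : ∑ ξ ∈ S₀, (z ξ) ^ 2 ≤ 2 * (a : ℤ) := by linarith
      have h3 : (d ψ : ℤ) ^ 2 * ∑ ξ ∈ S₀, (z ξ) ^ 2 ≤ (d ψ : ℤ) ^ 2 * (2 * (a : ℤ)) :=
        mul_le_mul_of_nonneg_left this dψ2.le
      rw [hsumrel] at h3
      nlinarith
    have hΔP := hb2 hQ
    -- evaluate at 1
    have hΔ1 : (τ (χ - (a : ℤ) • ψ) + (a : ℤ) • τ₀ ψ) 1 = (a : ℂ) * τ₀ ψ 1 := by
      rw [Pi.add_apply, hτ1 _ hβ, Pi.smul_apply, zero_add]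
      simp
    have hP1 : ((d ψ : ℂ)) ^ 2 * (∑ ξ ∈ S₀, (z ξ : ℂ) • τ₀ ξ) 1 =
        τ₀ ψ 1 * ((∑ ξ ∈ S₀, d ξ ^ 2 : ℕ) : ℂ) := by
      rw [Finset.sum_apply]
      push_cast
      rw [Finset.mul_sum, Finset.mul_sum]
      refine Finset.sum_congr rfl fun ξ hξ => ?_
      have h1 := hval ξ hξ
      have h2 : ((d ψ : ℂ)) * (z ξ : ℂ) = (d ξ : ℂ) := by
        have := hrel ξ hξ
        rw [hz1, mul_one] at this
        exact_mod_cast this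
      rw [Pi.smul_apply, smul_eq_mul]
      linear_combination (d ψ : ℂ) * (z ξ : ℂ) * h1 + (d ξ : ℂ) * τ₀ ψ 1 * h2
    rw [hΔP] at hΔ1
    rw [hΔ1] at hP1
    have hfin : τ₀ ψ 1 * ((((∑ ξ ∈ S₀, d ξ ^ 2 : ℕ) : ℂ)) - (d ψ : ℂ) * (d χ : ℂ)) = 0 := by
      rw [ha]
      push_cast
      push_cast at hP1
      linear_combination -hP1
    rcases mul_eq_zero.mp hfin with h | h
    · exact ht0 h
    · have h' : (((∑ ξ ∈ S₀, d ξ ^ 2 : ℕ) : ℂ)) = ((d ψ * d χ : ℕ) : ℂ) := by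
        push_cast
        push_cast at h
        linear_combination h
      have h'' : ∑ ξ ∈ S₀, d ξ ^ 2 = d ψ * d χ := by exact_mod_cast h'
      have : 0 < d ψ * d χ := Nat.mul_pos dψpos dχpos
      nlinarith
  -- all z vanish
  have hzall : ∀ ξ ∈ S₀, z ξ = 0 := by
    intro ξ hξ
    have := hrel ξ hξ
    rw [hzψ, mul_zero] at this
    rcases mul_eq_zero.mp this with h | h
    · have : d ψ = 0 := by exact_mod_cast h
      omega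
    · exact h
  have hΔ1 : classInner (τ (χ - (a : ℤ) • ψ) + (a : ℤ) • τ₀ ψ)
      (τ (χ - (a : ℤ) • ψ) + (a : ℤ) • τ₀ ψ) = 1 := by
    rw [hnorm, hzψ]; simp
  -- the extension
  have hXYo : ∀ ξ ∈ (↑S₀ : Set (L → ℂ)), ∀ η ∈ ({χ} : Set (L → ℂ)), classInner ξ η = 0 := by
    intro ξ hξ η hη
    rw [Set.mem_singleton_iff.mp hη]
    exact ipχ' ξ hξ
  have hiso2 := single_iso χ (classInner_irr_self hχ) _ hΔg hΔ1
  have hcross : ∀ ξ ∈ (↑S₀ : Set (L → ℂ)), ∀ η ∈ ({χ} : Set (L → ℂ)),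
      classInner (τ₀ ξ) ((fun θ => classInner θ χ •
        (τ (χ - (a : ℤ) • ψ) + (a : ℤ) • τ₀ ψ)) η) = 0 := by
    intro ξ hξ η hη
    rw [Set.mem_singleton_iff.mp hη]
    show classInner (τ₀ ξ) (classInner χ χ • (τ (χ - (a : ℤ) • ψ) + (a : ℤ) • τ₀ ψ)) = 0
    have hΔξ : classInner (τ₀ ξ) (τ (χ - (a : ℤ) • ψ) + (a : ℤ) • τ₀ ψ) = 0 := by
      rw [← classInner_conj_symm, hz ξ hξ, hzall ξ hξ]; simp
    rw [classInner_smul_right, hΔξ, mul_zero]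
  have hglue := glue_isometry hτ₀ hiso2 hXYo hcross
  have hTeq : (↑(insert χ S₀) : Set (L → ℂ)) = (↑S₀ : Set (L → ℂ)) ∪ {χ} := by
    rw [Finset.coe_insert, Set.union_singleton]
  refine ⟨⟨θne, zspanOn_mono _ hS₀T hθne, hθne0⟩,
    glue (↑S₀ : Set (L → ℂ)) {χ} τ₀ (fun θ => classInner θ χ •
      (τ (χ - (a : ℤ) • ψ) + (a : ℤ) • τ₀ ψ)), ?_, ?_⟩
  · rw [hTeq]; exact hglue
  · intro θ hθ
    have hθ' : θ ∈ zspan ((↑S₀ : Set (L → ℂ)) ∪ {χ}) := by rw [← hTeq]; exact hθ.1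
    obtain ⟨θ₀, hθ₀, b, hb, rfl⟩ := mem_zspan_union hθ'
    obtain ⟨m, rfl⟩ := mem_zspan_singleton hb
    rw [glue_eq _ _ hXYo hθ₀ hb]
    show τ₀ θ₀ + classInner (m • χ) χ • (τ (χ - (a : ℤ) • ψ) + (a : ℤ) • τ₀ ψ) = _
    rw [classInner_zsmul_left, classInner_irr_self hχ, mul_one]
    -- θ₀' := θ₀ + (m a) • ψ lies in ℤ[S₀]°
    have hθ₀' : θ₀ + (m * a) • ψ ∈ zspanOn (↑S₀ : Set (L → ℂ)) ({1}ᶜ : Set L) := by
      apply mem_zspanOn_one (zspan_add hθ₀ (zspan_zsmul _ (mS ψ hψ)))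
      have h1 := zspanOn_one_apply hθ
      rw [Pi.add_apply, Pi.smul_apply, hdχ, ha] at h1
      rw [Pi.add_apply, Pi.smul_apply, hdS ψ hψ]
      simp only [zsmul_eq_mul, Int.cast_mul, Int.cast_natCast] at h1 ⊢
      push_cast at h1
      linear_combination h1
    have hdec : θ₀ + m • χ = m • (χ - (a : ℤ) • ψ) + (θ₀ + (m * a) • ψ) := by
      ext x
      simp only [Pi.add_apply, Pi.sub_apply, Pi.smul_apply]
      simp only [zsmul_eq_mul, Int.cast_mul, Int.cast_natCast]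
      ring
    rw [hdec, hτ.1 _ (zspanOn_zsmul m hβ) _ (zspanOn_mono _ hS₀T hθ₀'), hτ.2.1 _ hβ,
      ← hτ₀α _ hθ₀', hτ₀.1 θ₀ hθ₀ _ (zspan_zsmul _ (mS ψ hψ)), hτ₀.2.1 ψ (mS ψ hψ)]
    ext x
    simp only [Pi.add_apply, Pi.smul_apply]
    simp only [zsmul_eq_mul, Int.cast_mul, Int.cast_natCast, smul_eq_mul]
    ring

end Cfsg.Agent.Lib.Helper5_Coh2
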