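import Mathlib
import Cfsg.Prelude.Def_OddOrderChar
import Cfsg.Agent.Lib.Helper2_ClassFn
import Cfsg.Agent.Lib.Helper2_CharOrtho
import Cfsg.Agent.Lib.Helper5_Coh
import Cfsg.Agent.Lib.Helper5_Coh2

set_option autoImplicit false

namespace Cfsg.Agent.Lib.Helper5_Coh3

open Cfsg
open Cfsg.Agent.Lib.Helper2_ClassFn Cfsg.Agent.Lib.Helper2_CharOrtho
open Cfsg.Agent.Lib.Helper5_Coh Cfsg.Agent.Lib.Helper5_Coh2
open scoped ComplexConjugate

universe u v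

variable {L : Type u} [Group L] [Fintype L] {G : Type v} [Group G] [Fintype G]

theorem exists_s {S : Set (L → ℂ)} {d : ℂ} (hd : ∀ φ ∈ S, φ 1 = d) {θ : L → ℂ}
    (hθ : θ ∈ zspan S) : ∃ s : ℤ, θ 1 = (s : ℂ) * d := by
  have hθ' : θ ∈ Submodule.span ℤ S := hθ
  refine Submodule.span_induction (p := fun θ _ => ∃ s : ℤ, θ 1 = (s : ℂ) * d) ?_ ?_ ?_ ?_ hθ'
  · intro φ hφ; exact ⟨1, by rw [hd φ hφ]; simp⟩
  · exact ⟨0, by simp⟩
  · rintro x y _ _ ⟨s, hs⟩ ⟨t, ht⟩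
    exact ⟨s + t, by rw [Pi.add_apply, hs, ht]; push_cast; ring⟩
  · rintro n x _ ⟨s, hs⟩
    exact ⟨n * s, by rw [Pi.smul_apply, hs]; simp only [zsmul_eq_mul]; push_cast; ring⟩

theorem s_unique {d : ℂ} (hd0 : d ≠ 0) {s t : ℤ} (h : (s : ℂ) * d = (t : ℂ) * d) : s = t := by
  have := mul_right_cancel₀ hd0 h
  exact_mod_cast this

theorem mem_circ {S : Set (L → ℂ)} {d : ℂ} (hd : ∀ φ ∈ S, φ 1 = d) {χ₀ : L → ℂ} (hχ₀ : χ₀ ∈ S)
    {θ : L → ℂ} (hθ : θ ∈ zspan S) {s : ℤ} (hs : θ 1 = (s : ℂ) * d) :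
    θ - s • χ₀ ∈ zspanOn S ({1}ᶜ : Set L) := by
  apply mem_zspanOn_one (zspan_sub hθ (zspan_zsmul _ (zspan_of_mem hχ₀)))
  rw [Pi.sub_apply, Pi.smul_apply, hs, hd χ₀ hχ₀]
  simp

open Classical in
/-- the extension attached to `X₀` -/
noncomputable def ext (τ : (L → ℂ) → (G → ℂ)) (χ₀ : L → ℂ) (d : ℂ) (X₀ : G → ℂ) :
    (L → ℂ) → (G → ℂ) :=
  fun θ => if h : ∃ s : ℤ, θ 1 = (s : ℂ) * d then h.choose • X₀ + τ (θ - h.choose • χ₀) else 0

theorem ext_eq (τ : (L → ℂ) → (G → ℂ)) (χ₀ : L → ℂ) {d : ℂ} (hd0 : d ≠ 0) (X₀ : G → ℂ)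
    {θ : L → ℂ} {s : ℤ} (hs : θ 1 = (s : ℂ) * d) :
    ext τ χ₀ d X₀ θ = s • X₀ + τ (θ - s • χ₀) := by
  have h : ∃ s : ℤ, θ 1 = (s : ℂ) * d := ⟨s, hs⟩
  unfold ext
  rw [dif_pos h]
  have : h.choose = s := s_unique hd0 (h.choose_spec.symm.trans hs)
  rw [this]

theorem coh_of_X₀ (S : Set (L → ℂ)) (τ : (L → ℂ) → (G → ℂ))
    (hτ : IsLinearIsometryOn (zspanOn S ({1}ᶜ : Set L)) τ) (χ₀ : L → ℂ) (hχ₀ : χ₀ ∈ S)
    (d : ℂ) (hd0 : d ≠ 0) (hd : ∀ φ ∈ S, φ 1 = d)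
    (hne : ∃ θ ∈ zspanOn S ({1}ᶜ : Set L), θ ≠ 0) (X₀ : G → ℂ)
    (hX₀g : IsGeneralizedCharacter G X₀) (hX₀n : classInner X₀ X₀ = classInner χ₀ χ₀)
    (hX₀b : ∀ φ ∈ S, classInner X₀ (τ (χ₀ - φ)) = classInner χ₀ (χ₀ - φ)) :
    IsCoherent S ({1}ᶜ : Set L) τ := by
  have zχ₀ := zspan_of_mem hχ₀
  have h0E : (0 : L → ℂ) ∈ zspanOn S ({1}ᶜ : Set L) := mem_zspanOn_one zspan_zero rfl
  have hτ0 : τ 0 = 0 := iso_zero hτ h0E
  -- key property
  have key : ∀ θ ∈ zspan S, ∀ s : ℤ, θ 1 = (s : ℂ) * d →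
      classInner X₀ (τ (θ - s • χ₀)) = classInner χ₀ (θ - s • χ₀) := by
    intro θ hθ
    have hθ' : θ ∈ Submodule.span ℤ S := hθ
    refine Submodule.span_induction (p := fun θ _ => ∀ s : ℤ, θ 1 = (s : ℂ) * d →
      classInner X₀ (τ (θ - s • χ₀)) = classInner χ₀ (θ - s • χ₀)) ?_ ?_ ?_ ?_ hθ'
    · intro φ hφ s hs
      have hs1 : s = 1 := by
        apply s_unique hd0
        rw [← hs, hd φ hφ]; simp
      subst hs1
      have hE : χ₀ - φ ∈ zspanOn S ({1}ᶜ : Set L) := by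
        apply mem_zspanOn_one (zspan_sub zχ₀ (zspan_of_mem hφ))
        rw [Pi.sub_apply, hd χ₀ hχ₀, hd φ hφ, sub_self]
      have e : φ - (1 : ℤ) • χ₀ = (-1 : ℤ) • (χ₀ - φ) := by
        rw [one_smul, neg_smul, one_smul, neg_sub]
      rw [e, hτ.2.1 _ hE, classInner_zsmul_right, classInner_zsmul_right, hX₀b φ hφ]
    · intro s hs
      have hs0 : s = 0 := by
        apply s_unique hd0
        rw [← hs]; simp
      subst hs0
      rw [zero_smul, sub_zero, hτ0, classInner_zero_right, classInner_zero_right]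
    · intro x y hx hy ihx ihy s hs
      obtain ⟨sx, hsx⟩ := exists_s hd (show x ∈ zspan S from hx)
      obtain ⟨sy, hsy⟩ := exists_s hd (show y ∈ zspan S from hy)
      have hs' : s = sx + sy := by
        apply s_unique hd0
        rw [← hs, Pi.add_apply, hsx, hsy]; push_cast; ring
      subst hs'
      have e : x + y - (sx + sy) • χ₀ = (x - sx • χ₀) + (y - sy • χ₀) := by
        rw [add_smul]; abel
      rw [e, hτ.1 _ (mem_circ hd hχ₀ hx hsx) _ (mem_circ hd hχ₀ hy hsy), classInner_add_right,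
        classInner_add_right, ihx sx hsx, ihy sy hsy]
    · intro n x hx ihx s hs
      obtain ⟨sx, hsx⟩ := exists_s hd (show x ∈ zspan S from hx)
      have hs' : s = n * sx := by
        apply s_unique hd0
        rw [← hs, Pi.smul_apply, hsx]; simp only [zsmul_eq_mul]; push_cast; ring
      subst hs'
      have e : n • x - (n * sx) • χ₀ = n • (x - sx • χ₀) := by
        rw [smul_sub, mul_smul]
      rw [e, hτ.2.1 _ (mem_circ hd hχ₀ hx hsx), classInner_zsmul_right, classInner_zsmul_right,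
        ihx sx hsx]
  have key' : ∀ θ ∈ zspan S, ∀ s : ℤ, θ 1 = (s : ℂ) * d →
      classInner (τ (θ - s • χ₀)) X₀ = classInner (θ - s • χ₀) χ₀ := by
    intro θ hθ s hs
    rw [← classInner_conj_symm, key θ hθ s hs, classInner_conj_symm]
  refine ⟨hne, ext τ χ₀ d X₀, ⟨?_, ?_, ?_, ?_⟩, ?_⟩
  · intro θ hθ θ' hθ'
    obtain ⟨s, hs⟩ := exists_s hd hθ
    obtain ⟨s', hs'⟩ := exists_s hd hθ'
    have hss : (θ + θ') 1 = ((s + s' : ℤ) : ℂ) * d := by
      rw [Pi.add_apply, hs, hs']; push_cast; ring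
    rw [ext_eq τ χ₀ hd0 X₀ hss, ext_eq τ χ₀ hd0 X₀ hs, ext_eq τ χ₀ hd0 X₀ hs']
    have e : θ + θ' - (s + s') • χ₀ = (θ - s • χ₀) + (θ' - s' • χ₀) := by
      rw [add_smul]; abel
    rw [e, hτ.1 _ (mem_circ hd hχ₀ hθ hs) _ (mem_circ hd hχ₀ hθ' hs'), add_smul]
    abel
  · intro θ hθ n
    obtain ⟨s, hs⟩ := exists_s hd hθ
    have hns : (n • θ) 1 = ((n * s : ℤ) : ℂ) * d := by
      rw [Pi.smul_apply, hs]; simp only [zsmul_eq_mul]; push_cast; ring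
    rw [ext_eq τ χ₀ hd0 X₀ hns, ext_eq τ χ₀ hd0 X₀ hs]
    have e : n • θ - (n * s) • χ₀ = n • (θ - s • χ₀) := by
      rw [smul_sub, mul_smul]
    rw [e, hτ.2.1 _ (mem_circ hd hχ₀ hθ hs), smul_add, mul_smul]
  · intro θ hθ θ' hθ'
    obtain ⟨s, hs⟩ := exists_s hd hθ
    obtain ⟨s', hs'⟩ := exists_s hd hθ'
    rw [ext_eq τ χ₀ hd0 X₀ hs, ext_eq τ χ₀ hd0 X₀ hs']
    have hA := mem_circ hd hχ₀ hθ hs
    have hA' := mem_circ hd hχ₀ hθ' hs'
    have eθ : θ = s • χ₀ + (θ - s • χ₀) := by abel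
    have eθ' : θ' = s' • χ₀ + (θ' - s' • χ₀) := by abel
    conv_rhs => rw [eθ, eθ']
    simp only [classInner_add_left, classInner_add_right, classInner_zsmul_left,
      classInner_zsmul_right]
    rw [hX₀n, key θ' hθ' s' hs', key' θ hθ s hs, hτ.2.2.1 _ hA _ hA']
  · intro θ hθ
    obtain ⟨s, hs⟩ := exists_s hd hθ
    rw [ext_eq τ χ₀ hd0 X₀ hs]
    exact IsGeneralizedCharacter.add (IsGeneralizedCharacter.zsmul s hX₀g)
      (hτ.2.2.2 _ (mem_circ hd hχ₀ hθ hs))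
  · intro θ hθ
    have hs : θ 1 = ((0 : ℤ) : ℂ) * d := by
      rw [zspanOn_one_apply hθ]; simp
    rw [ext_eq τ χ₀ hd0 X₀ hs, zero_smul, zero_smul, sub_zero, zero_add]


section Comb

theorem int_le_sq (a : ℤ) : a ≤ a ^ 2 := by
  rcases le_or_gt a 0 with h | h
  · nlinarith [sq_nonneg a]
  · nlinarith

theorem int_neg_le_sq (a : ℤ) : -a ≤ a ^ 2 := by
  have := int_le_sq (-a)
  simpa using this

theorem exists_coeff (v : G → ℂ) (hv : IsGeneralizedCharacter G v) :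
    ∃ z : (G → ℂ) → ℤ, ∀ α, IsGeneralizedCharacter G α → classInner v α = z α := by
  have : ∀ α : G → ℂ, ∃ z : ℤ, IsGeneralizedCharacter G α → classInner v α = z := by
    intro α
    by_cases hα : IsGeneralizedCharacter G α
    · obtain ⟨z, hz⟩ := IsGeneralizedCharacter.classInner_int hv hα
      exact ⟨z, fun _ => hz⟩
    · exact ⟨0, fun h => absurd h hα⟩
  choose z hz using this
  exact ⟨z, hz⟩

theorem comb_norm (R₀ : Finset (G → ℂ))
    (horth : ∀ α ∈ R₀, ∀ β ∈ R₀, classInner α β = if α = β then 1 else 0) (a : (G → ℂ) → ℤ) :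
    classInner (∑ α ∈ R₀, (a α : ℂ) • α) (∑ α ∈ R₀, (a α : ℂ) • α) =
      ((∑ α ∈ R₀, (a α) ^ 2 : ℤ) : ℂ) := by
  classical
  rw [classInner_sum_left]
  push_cast
  refine Finset.sum_congr rfl fun i hi => ?_
  rw [classInner_smul_left, classInner_sum_right]
  have : ∑ j ∈ R₀, classInner i ((a j : ℂ) • j) = (a i : ℂ) := by
    rw [Finset.sum_eq_single i]
    · rw [classInner_smul_right, horth i hi i hi, if_pos rfl]; simp
    · intro j hj hji
      rw [classInner_smul_right, horth i hi j hj, if_neg (Ne.symm hji), mul_zero]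
    · intro h; exact absurd hi h
  rw [this]; ring

theorem comb_ip (R₀ : Finset (G → ℂ)) (a : (G → ℂ) → ℤ) (v : G → ℂ) (c : (G → ℂ) → ℤ)
    (hc : ∀ α ∈ R₀, classInner v α = c α) :
    classInner (∑ α ∈ R₀, (a α : ℂ) • α) v = ((∑ α ∈ R₀, a α * c α : ℤ) : ℂ) := by
  rw [classInner_sum_left]
  push_cast
  refine Finset.sum_congr rfl fun i hi => ?_
  rw [classInner_smul_left, ← classInner_conj_symm, hc i hi]
  simp

theorem comb_gen (R₀ : Finset (G → ℂ)) (hg : ∀ α ∈ R₀, IsGeneralizedCharacter G α)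
    (a : (G → ℂ) → ℤ) : IsGeneralizedCharacter G (∑ α ∈ R₀, (a α : ℂ) • α) := by
  apply IsGeneralizedCharacter.sum
  intro α hα
  have : ((a α : ℂ)) • α = (a α) • α := by
    ext x; simp
  rw [this]
  exact IsGeneralizedCharacter.zsmul _ (hg α hα)

theorem squeeze (A B C : Finset (G → ℂ))
    (hA : ∀ α ∈ A, ∀ β ∈ A, classInner α β = if α = β then 1 else 0)
    (hB : ∀ α ∈ B, ∀ β ∈ B, classInner α β = if α = β then 1 else 0)
    (hC : ∀ α ∈ C, ∀ β ∈ C, classInner α β = if α = β then 1 else 0)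
    (hAB : ∀ α ∈ A, ∀ β ∈ B, classInner α β = 0) (hAC : ∀ α ∈ A, ∀ γ ∈ C, classInner α γ = 0)
    (hBC : ∀ β ∈ B, ∀ γ ∈ C, classInner β γ = 0)
    (v : G → ℂ) (z : (G → ℂ) → ℤ) (hzA : ∀ α ∈ A, classInner v α = z α)
    (hzB : ∀ α ∈ B, classInner v α = z α) (hzC : ∀ α ∈ C, classInner v α = z α)
    (n₁ n₂ : ℤ) (hN : classInner v v = ((n₁ + n₂ : ℤ) : ℂ))
    (h1 : ∑ α ∈ A, z α = n₁) (h2 : ∑ β ∈ B, z β = -n₂) :
    ∑ α ∈ A, (z α) ^ 2 = n₁ ∧ ∀ γ ∈ C, z γ = 0 := by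
  classical
  have sym : ∀ {α β : G → ℂ}, classInner α β = 0 → classInner β α = 0 := by
    intro α β h
    rw [← classInner_conj_symm, h, map_zero]
  have he : ∀ i ∈ (A.disjSum B).disjSum C, ∀ j ∈ (A.disjSum B).disjSum C,
      classInner ((Sum.elim (Sum.elim id id) id : ((G → ℂ) ⊕ (G → ℂ)) ⊕ (G → ℂ) → G → ℂ) i)
        ((Sum.elim (Sum.elim id id) id : ((G → ℂ) ⊕ (G → ℂ)) ⊕ (G → ℂ) → G → ℂ) j) =
        if i = j then 1 else 0 := by
    intro i hi j hj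
    rcases i with (i | i) | i <;> rcases j with (j | j) | j <;>
      simp only [Finset.mem_disjSum, Sum.inl.injEq, Sum.inr.injEq, exists_eq_right,
        reduceCtorEq, and_false, exists_false, or_false, false_or, exists_eq_right] at hi hj <;>
      simp only [Sum.elim_inl, Sum.elim_inr, id_eq, Sum.inl.injEq, Sum.inr.injEq, reduceCtorEq,
        if_false]
    · exact hA i hi j hj
    · exact hAB i hi j hj
    · exact hAC i hi j hj
    · exact sym (hAB j hj i hi)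
    · exact hB i hi j hj
    · exact hBC i hi j hj
    · exact sym (hAC j hj i hi)
    · exact sym (hBC j hj i hi)
    · exact hC i hi j hj
  have hz' : ∀ i ∈ (A.disjSum B).disjSum C,
      classInner v ((Sum.elim (Sum.elim id id) id : ((G → ℂ) ⊕ (G → ℂ)) ⊕ (G → ℂ) → G → ℂ) i) =
        ((z ((Sum.elim (Sum.elim id id) id : ((G → ℂ) ⊕ (G → ℂ)) ⊕ (G → ℂ) → G → ℂ) i) : ℤ) : ℂ) := by
    intro i hi
    rcases i with (i | i) | i <;>
      simp only [Finset.mem_disjSum, Sum.inl.injEq, Sum.inr.injEq, exists_eq_right,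
        reduceCtorEq, and_false, exists_false, or_false, false_or, exists_eq_right] at hi <;>
      simp only [Sum.elim_inl, Sum.elim_inr, id_eq]
    · exact hzA i hi
    · exact hzB i hi
    · exact hzC i hi
  obtain ⟨hb, _⟩ := bessel ((A.disjSum B).disjSum C) _ he v
    (fun i => z ((Sum.elim (Sum.elim id id) id : ((G → ℂ) ⊕ (G → ℂ)) ⊕ (G → ℂ) → G → ℂ) i)) hz'
    (n₁ + n₂) hN
  rw [Finset.sum_disjSum, Finset.sum_disjSum] at hb
  simp only [Sum.elim_inl, Sum.elim_inr, id_eq] at hb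
  have hA' : n₁ ≤ ∑ α ∈ A, (z α) ^ 2 := by
    rw [← h1]; exact Finset.sum_le_sum fun α _ => int_le_sq _
  have hB' : n₂ ≤ ∑ α ∈ B, (z α) ^ 2 := by
    have : n₂ = ∑ β ∈ B, -(z β) := by rw [Finset.sum_neg_distrib, h2, neg_neg]
    rw [this]; exact Finset.sum_le_sum fun α _ => int_neg_le_sq _
  have hC' : 0 ≤ ∑ α ∈ C, (z α) ^ 2 := Finset.sum_nonneg fun α _ => sq_nonneg _
  refine ⟨by linarith, ?_⟩
  have hC0 : ∑ α ∈ C, (z α) ^ 2 = 0 := by linarith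
  intro γ hγ
  have := (Finset.sum_eq_zero_iff_of_nonneg (fun α _ => sq_nonneg (z α))).mp hC0 γ hγ
  exact pow_eq_zero_iff (two_ne_zero) |>.mp this

end Comb


section System

theorem conj_conj (f : L → ℂ) : conjFun (conjFun f) = f := by
  ext x; simp [conjFun]

theorem ip_conj (f g : L → ℂ) : classInner (conjFun f) (conjFun g) = conj (classInner f g) := by
  simp only [classInner_def, conjFun, map_mul, map_inv₀, map_natCast, map_sum, Complex.conj_conj]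

theorem same_degree (S : Set (L → ℂ)) (τ : (L → ℂ) → (G → ℂ)) (R : (L → ℂ) → Finset (G → ℂ))
    (hS : IsCoherenceSystem S τ R) (hdeg : ∀ φ ∈ S, ∀ ψ ∈ S, φ 1 = ψ 1) :
    IsCoherent S ({1}ᶜ : Set L) τ := by
  classical
  obtain ⟨χ₀, hχ₀⟩ := hS.nonempty
  have hd : ∀ φ ∈ S, φ 1 = χ₀ 1 := fun φ hφ => hdeg φ hφ χ₀ hχ₀
  have hτ := hS.isometry
  have hE2 : ∀ χ ∈ S, ∀ φ ∈ S, χ - φ ∈ zspanOn S ({1}ᶜ : Set L) := by
    intro χ hχ φ hφ
    apply mem_zspanOn_one (zspan_sub (zspan_of_mem hχ) (zspan_of_mem hφ))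
    rw [Pi.sub_apply, hd χ hχ, hd φ hφ, sub_self]
  have hcS := hS.conj_mem χ₀ hχ₀
  have hne : ∃ θ ∈ zspanOn S ({1}ᶜ : Set L), θ ≠ 0 :=
    ⟨χ₀ - conjFun χ₀, hE2 χ₀ hχ₀ _ hcS, sub_ne_zero.mpr (hS.conj_ne χ₀ hχ₀).symm⟩
  by_cases hd0 : χ₀ 1 = 0
  · refine ⟨hne, τ, ?_, fun θ _ => rfl⟩
    have hE : zspan S = zspanOn S ({1}ᶜ : Set L) := by
      ext θ
      constructor
      · intro hθ
        obtain ⟨s, hs⟩ := exists_s hd hθ
        exact mem_zspanOn_one hθ (by rw [hs, hd0, mul_zero])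
      · intro hθ; exact hθ.1
    rw [hE]; exact hτ
  -- general facts
  have h0E : (0 : L → ℂ) ∈ zspanOn S ({1}ᶜ : Set L) := mem_zspanOn_one zspan_zero rfl
  have hτ0 : τ 0 = 0 := iso_zero hτ h0E
  have orth : ∀ χ ∈ S, ∀ φ ∈ S, χ ≠ φ → classInner χ φ = 0 := hS.orthogonal
  have nrm : ∀ χ : L → ℂ, ∃ n : ℤ, χ ∈ S → classInner χ χ = n := by
    intro χ
    by_cases hχ : χ ∈ S
    · have hg := IsCharacter.isGeneralizedCharacter (hS.isCharacter χ hχ)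
      obtain ⟨n, hn⟩ := IsGeneralizedCharacter.classInner_int hg hg
      exact ⟨n, fun _ => hn⟩
    · exact ⟨0, fun h => absurd h hχ⟩
  choose n hn using nrm
  have hcne : ∀ χ ∈ S, ∀ φ ∈ S, φ ≠ conjFun χ → conjFun φ ≠ χ := by
    intro χ _ φ _ h h'
    apply h
    rw [← h', conj_conj]
  have hcne' : ∀ χ ∈ S, ∀ φ ∈ S, φ ≠ χ → conjFun φ ≠ conjFun χ := by
    intro χ _ φ _ h h'
    apply h
    rw [← conj_conj φ, h', conj_conj]
  have Rorth : ∀ χ ∈ S, ∀ φ ∈ S, φ ≠ χ → φ ≠ conjFun χ →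
      ∀ α ∈ R φ, ∀ β ∈ R χ, classInner α β = 0 := by
    intro χ hχ φ hφ h1 h2
    exact hS.disjoint χ hχ φ hφ (orth φ hφ χ hχ h1) (orth φ hφ _ (hS.conj_mem χ hχ) h2)
  -- facts on a pair
  have pair : ∀ χ ∈ S, ∀ φ ∈ S, φ ≠ χ → φ ≠ conjFun χ → ∀ z : (G → ℂ) → ℤ,
      (∀ α, IsGeneralizedCharacter G α → classInner (τ (χ - φ)) α = z α) →
      classInner (τ (χ - φ)) (τ (χ - φ)) = ((n χ + n φ : ℤ) : ℂ) ∧
        ∑ α ∈ R χ, z α = n χ ∧ ∑ β ∈ R φ, z β = -(n φ) := by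
    intro χ hχ φ hφ h1 h2 z hz
    have hχc := hS.conj_mem χ hχ
    have hφc := hS.conj_mem φ hφ
    have o1 : classInner χ φ = 0 := orth χ hχ φ hφ (Ne.symm h1)
    have o2 : classInner φ χ = 0 := orth φ hφ χ hχ h1
    have o3 : classInner χ (conjFun χ) = 0 := orth χ hχ _ hχc (hS.conj_ne χ hχ).symm
    have o4 : classInner φ (conjFun χ) = 0 := orth φ hφ _ hχc h2
    have o5 : classInner χ (conjFun φ) = 0 :=
      orth χ hχ _ hφc (Ne.symm (hcne χ hχ φ hφ h2))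
    have o6 : classInner φ (conjFun φ) = 0 := orth φ hφ _ hφc (hS.conj_ne φ hφ).symm
    refine ⟨?_, ?_, ?_⟩
    · rw [hτ.2.2.1 _ (hE2 χ hχ φ hφ) _ (hE2 χ hχ φ hφ), classInner_sub_left, classInner_sub_right,
        classInner_sub_right, hn χ hχ, hn φ hφ, o1, o2]
      push_cast; ring
    · have e : classInner (τ (χ - φ)) (τ (χ - conjFun χ)) = ((n χ : ℤ) : ℂ) := by
        rw [hτ.2.2.1 _ (hE2 χ hχ φ hφ) _ (hE2 χ hχ _ hχc), classInner_sub_left,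
          classInner_sub_right, classInner_sub_right, hn χ hχ, o2, o3, o4]
        ring
      rw [hS.sum_eq χ hχ, classInner_sum_right] at e
      have e' : ((∑ α ∈ R χ, z α : ℤ) : ℂ) = ((n χ : ℤ) : ℂ) := by
        rw [← e]; push_cast
        exact Finset.sum_congr rfl fun α hα => (hz α (hS.virtual χ hχ α hα)).symm
      exact_mod_cast e'
    · have e : classInner (τ (χ - φ)) (τ (φ - conjFun φ)) = ((-(n φ) : ℤ) : ℂ) := by
        rw [hτ.2.2.1 _ (hE2 χ hχ φ hφ) _ (hE2 φ hφ _ hφc), classInner_sub_left,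
          classInner_sub_right, classInner_sub_right, hn φ hφ, o1, o5, o6]
        push_cast; ring
      rw [hS.sum_eq φ hφ, classInner_sum_right] at e
      have e' : ((∑ α ∈ R φ, z α : ℤ) : ℂ) = ((-(n φ) : ℤ) : ℂ) := by
        rw [← e]; push_cast
        exact Finset.sum_congr rfl fun α hα => (hz α (hS.virtual φ hφ α hα)).symm
      exact_mod_cast e'
  have hgen : ∀ χ ∈ S, ∀ φ ∈ S, IsGeneralizedCharacter G (τ (χ - φ)) :=
    fun χ hχ φ hφ => hτ.2.2.2 _ (hE2 χ hχ φ hφ)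
  have o3₀ : classInner χ₀ (conjFun χ₀) = 0 := orth χ₀ hχ₀ _ hcS (hS.conj_ne χ₀ hχ₀).symm
  -- sum over R χ₀ of ⟨Σ, α⟩
  have hsumR : ∀ α ∈ R χ₀, classInner (τ (χ₀ - conjFun χ₀)) α = ((1 : ℤ) : ℂ) := by
    intro α hα
    rw [hS.sum_eq χ₀ hχ₀, classInner_sum_left, Finset.sum_eq_single α]
    · rw [hS.orthonormal χ₀ hχ₀ α hα α hα, if_pos rfl]; simp
    · intro β hβ hne'
      rw [hS.orthonormal χ₀ hχ₀ β hβ α hα, if_neg hne']
    · intro h; exact absurd hα h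
  have horth₀ : ∀ α ∈ R χ₀, ∀ β ∈ R χ₀, classInner α β = if α = β then 1 else 0 :=
    hS.orthonormal χ₀ hχ₀
  have hgen₀ : ∀ α ∈ R χ₀, IsGeneralizedCharacter G α := hS.virtual χ₀ hχ₀
  by_cases hcase : ∃ φ₁ ∈ S, φ₁ ≠ χ₀ ∧ φ₁ ≠ conjFun χ₀
  · -- Case A
    obtain ⟨φ₁, hφ₁, hφ₁a, hφ₁b⟩ := hcase
    obtain ⟨z, hz⟩ := exists_coeff _ (hgen χ₀ hχ₀ φ₁ hφ₁)
    obtain ⟨pN, pA, pB⟩ := pair χ₀ hχ₀ φ₁ hφ₁ hφ₁a hφ₁b z hz
    have hsq : ∑ α ∈ R χ₀, (z α) ^ 2 = n χ₀ := by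
      refine (squeeze (R χ₀) (R φ₁) ∅ horth₀ (hS.orthonormal φ₁ hφ₁) (by simp)
        (fun α hα β hβ => ?_) (by simp) (by simp) _ z
        (fun α hα => hz α (hgen₀ α hα)) (fun α hα => hz α (hS.virtual φ₁ hφ₁ α hα)) (by simp)
        (n χ₀) (n φ₁) pN pA pB).1
      have := Rorth χ₀ hχ₀ φ₁ hφ₁ hφ₁a hφ₁b β hβ α hα
      rw [← classInner_conj_symm, this, map_zero]
    refine coh_of_X₀ S τ hτ χ₀ hχ₀ (χ₀ 1) hd0 hd hne (∑ α ∈ R χ₀, (z α : ℂ) • α)
      (comb_gen _ hgen₀ z) ?_ ?_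
    · rw [comb_norm _ horth₀, hsq, hn χ₀ hχ₀]
    · intro φ hφ
      by_cases h1 : φ = χ₀
      · rw [h1, sub_self, hτ0, classInner_zero_right, classInner_zero_right]
      by_cases h2 : φ = conjFun χ₀
      · rw [h2, comb_ip _ z _ (fun _ => 1) hsumR, classInner_sub_right, hn χ₀ hχ₀, o3₀]
        simp only [mul_one, sub_zero]
        rw [pA]
      -- generic φ
      have hcoef : ∀ α ∈ R χ₀, classInner (τ (χ₀ - φ)) α = ((z α : ℤ) : ℂ) := by
        intro α hα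
        have e : χ₀ - φ = (χ₀ - φ₁) + (φ₁ - φ) := by abel
        rw [e, hτ.1 _ (hE2 χ₀ hχ₀ φ₁ hφ₁) _ (hE2 φ₁ hφ₁ φ hφ), classInner_add_left,
          hz α (hgen₀ α hα)]
        have hzero : classInner (τ (φ₁ - φ)) α = 0 := by
          by_cases h3 : φ = φ₁
          · rw [h3, sub_self, hτ0, classInner_zero_left]
          by_cases h4 : φ = conjFun φ₁
          · rw [h4, hS.sum_eq φ₁ hφ₁, classInner_sum_left]
            exact Finset.sum_eq_zero fun β hβ => Rorth χ₀ hχ₀ φ₁ hφ₁ hφ₁a hφ₁b β hβ α hα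
          · obtain ⟨z', hz'⟩ := exists_coeff _ (hgen φ₁ hφ₁ φ hφ)
            obtain ⟨pN', pA', pB'⟩ := pair φ₁ hφ₁ φ hφ h3 h4 z' hz'
            have hsym : ∀ {α β : G → ℂ}, classInner α β = 0 → classInner β α = 0 := by
              intro α β h
              rw [← classInner_conj_symm, h, map_zero]
            have := (squeeze (R φ₁) (R φ) (R χ₀) (hS.orthonormal φ₁ hφ₁) (hS.orthonormal φ hφ)
              horth₀
              (fun α hα β hβ => hsym (Rorth φ₁ hφ₁ φ hφ h3 h4 β hβ α hα))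
              (fun α hα β hβ => Rorth χ₀ hχ₀ φ₁ hφ₁ hφ₁a hφ₁b α hα β hβ)
              (fun α hα β hβ => Rorth χ₀ hχ₀ φ hφ h1 h2 α hα β hβ)
              _ z' (fun α hα => hz' α (hS.virtual φ₁ hφ₁ α hα))
              (fun α hα => hz' α (hS.virtual φ hφ α hα))
              (fun α hα => hz' α (hgen₀ α hα)) (n φ₁) (n φ) pN' pA' pB').2 α hα
            rw [hz' α (hgen₀ α hα), this]; simp
        rw [hzero, add_zero]
      rw [comb_ip _ z _ z hcoef, classInner_sub_right, hn χ₀ hχ₀,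
        orth χ₀ hχ₀ φ hφ (Ne.symm h1), sub_zero]
      have : ∑ α ∈ R χ₀, z α * z α = n χ₀ := by
        rw [← hsq]; exact Finset.sum_congr rfl fun α _ => (sq (z α)).symm
      rw [this]
  · -- Case B: S = {χ₀, conj χ₀}
    push_neg at hcase
    have o3₀' : classInner (conjFun χ₀) χ₀ = 0 := orth _ hcS χ₀ hχ₀ (hS.conj_ne χ₀ hχ₀)
    have hnc : classInner (conjFun χ₀) (conjFun χ₀) = ((n χ₀ : ℤ) : ℂ) := by
      rw [ip_conj, hn χ₀ hχ₀]; simp
    have hcard : ((R χ₀).card : ℤ) = 2 * n χ₀ := by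
      have e1 : classInner (τ (χ₀ - conjFun χ₀)) (τ (χ₀ - conjFun χ₀)) = ((2 * n χ₀ : ℤ) : ℂ) := by
        rw [hτ.2.2.1 _ (hE2 χ₀ hχ₀ _ hcS) _ (hE2 χ₀ hχ₀ _ hcS), classInner_sub_left,
          classInner_sub_right, classInner_sub_right, hn χ₀ hχ₀, o3₀, o3₀', hnc]
        push_cast; ring
      have e2 : τ (χ₀ - conjFun χ₀) = ∑ α ∈ R χ₀, (((fun _ => (1 : ℤ)) α : ℤ) : ℂ) • α := by
        rw [hS.sum_eq χ₀ hχ₀]
        exact Finset.sum_congr rfl fun α _ => by simp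
      rw [e2, comb_norm _ horth₀] at e1
      have e3 := Int.cast_injective (α := ℂ) e1
      simpa using e3
    have hn0 : 0 ≤ n χ₀ := by
      have : (0 : ℤ) ≤ (R χ₀).card := Int.natCast_nonneg _
      omega
    have hle : (n χ₀).toNat ≤ (R χ₀).card := by
      have : ((n χ₀).toNat : ℤ) = n χ₀ := Int.toNat_of_nonneg hn0
      omega
    obtain ⟨A, hAR, hAcard⟩ := Finset.exists_subset_card_eq hle
    have hAcard' : (A.card : ℤ) = n χ₀ := by
      rw [hAcard]; exact Int.toNat_of_nonneg hn0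
    have hsumA : ∑ α ∈ R χ₀, (if α ∈ A then (1 : ℤ) else 0) = n χ₀ := by
      rw [Finset.sum_ite_mem, Finset.inter_eq_right.mpr hAR]
      simpa using hAcard'
    refine coh_of_X₀ S τ hτ χ₀ hχ₀ (χ₀ 1) hd0 hd hne
      (∑ α ∈ R χ₀, (((fun α => if α ∈ A then (1 : ℤ) else 0) α : ℤ) : ℂ) • α)
      (comb_gen _ hgen₀ _) ?_ ?_
    · rw [comb_norm _ horth₀, hn χ₀ hχ₀]
      congr 1
      rw [← hsumA]
      refine Finset.sum_congr rfl fun α _ => ?_
      by_cases h : α ∈ A <;> simp [h]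
    · intro φ hφ
      by_cases h1 : φ = χ₀
      · rw [h1, sub_self, hτ0, classInner_zero_right, classInner_zero_right]
      · have h2 := hcase φ hφ h1
        rw [h2, comb_ip _ _ _ (fun _ => 1) hsumR, classInner_sub_right, hn χ₀ hχ₀, o3₀]
        simp only [mul_one, sub_zero]
        rw [hsumA]

end System

end Cfsg.Agent.Lib.Helper5_Coh3
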