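import Mathlib
import Cfsg.Prelude.Def_OddOrderChar
import Cfsg.Agent.Lib.Helper2_ClassFn
import Cfsg.Agent.Lib.Helper2_CharOrtho
import Cfsg.Agent.Lib.Helper5_Coh
import Cfsg.Agent.Lib.Helper5_Coh2
import Cfsg.Agent.Lib.Helper5_Coh3

set_option autoImplicit false

namespace Cfsg.Agent.Lib.Helper5_Coh4

open Cfsg
open Cfsg.Agent.Lib.Helper2_ClassFn Cfsg.Agent.Lib.Helper2_CharOrtho
open Cfsg.Agent.Lib.Helper5_Coh Cfsg.Agent.Lib.Helper5_Coh2 Cfsg.Agent.Lib.Helper5_Coh3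
open scoped ComplexConjugate

universe u v

variable {L : Type u} [Group L] [Fintype L] {G : Type v} [Group G] [Fintype G]

/-- weighted Bessel inequality with real coefficients -/
theorem wbessel {ι : Type*} [DecidableEq ι] (s : Finset ι) (e : ι → G → ℂ) (N : ι → ℝ)
    (hN : ∀ i ∈ s, 0 < N i)
    (he : ∀ i ∈ s, ∀ j ∈ s, classInner (e i) (e j) = if i = j then ((N i : ℝ) : ℂ) else 0)
    (Δ : G → ℂ) (c : ι → ℝ) (hc : ∀ i ∈ s, classInner Δ (e i) = ((c i : ℝ) : ℂ)) (M : ℝ)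
    (hM : classInner Δ Δ = ((M : ℝ) : ℂ)) :
    ∑ i ∈ s, (c i) ^ 2 / N i ≤ M := by
  have hN0 : ∀ i ∈ s, ((N i : ℝ) : ℂ) ≠ 0 := fun i hi => by
    exact_mod_cast (hN i hi).ne'
  have h1 : classInner Δ (∑ i ∈ s, (((c i / N i : ℝ)) : ℂ) • e i) =
      ((∑ i ∈ s, (c i) ^ 2 / N i : ℝ) : ℂ) := by
    rw [classInner_sum_right]
    push_cast
    refine Finset.sum_congr rfl fun i hi => ?_
    rw [classInner_smul_right, hc i hi]
    have := hN0 i hi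
    simp only [map_div₀, Complex.conj_ofReal]
    field_simp
  have h2 : classInner (∑ i ∈ s, (((c i / N i : ℝ)) : ℂ) • e i) Δ =
      ((∑ i ∈ s, (c i) ^ 2 / N i : ℝ) : ℂ) := by
    rw [← classInner_conj_symm, h1, Complex.conj_ofReal]
  have h3 : classInner (∑ i ∈ s, (((c i / N i : ℝ)) : ℂ) • e i)
      (∑ i ∈ s, (((c i / N i : ℝ)) : ℂ) • e i) = ((∑ i ∈ s, (c i) ^ 2 / N i : ℝ) : ℂ) := by
    rw [classInner_sum_left, Complex.ofReal_sum]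
    refine Finset.sum_congr rfl fun i hi => ?_
    rw [classInner_smul_left, classInner_sum_right]
    have : ∑ j ∈ s, classInner (e i) ((((c j / N j : ℝ)) : ℂ) • e j) = ((c i : ℝ) : ℂ) := by
      rw [Finset.sum_eq_single i]
      · rw [classInner_smul_right, he i hi i hi, if_pos rfl]
        have := hN0 i hi
        rw [Complex.conj_ofReal, Complex.ofReal_div]
        field_simp
      · intro j hj hji
        rw [classInner_smul_right, he i hi j hj, if_neg (Ne.symm hji), mul_zero]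
      · intro h; exact absurd hi h
    rw [this]
    have := hN0 i hi
    push_cast
    field_simp
  have h4 : classInner (Δ - ∑ i ∈ s, (((c i / N i : ℝ)) : ℂ) • e i)
      (Δ - ∑ i ∈ s, (((c i / N i : ℝ)) : ℂ) • e i) =
      ((M - ∑ i ∈ s, (c i) ^ 2 / N i : ℝ) : ℂ) := by
    rw [classInner_sub_left, classInner_sub_right, classInner_sub_right, hM, h1, h2, h3]
    push_cast
    ring
  have := classInner_self_re_nonneg (Δ - ∑ i ∈ s, (((c i / N i : ℝ)) : ℂ) • e i)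
  rw [h4, Complex.ofReal_re] at this
  linarith


/-- Bessel for two mutually orthogonal orthonormal families -/
theorem bessel2 (A C : Finset (G → ℂ))
    (hA : ∀ α ∈ A, ∀ β ∈ A, classInner α β = if α = β then 1 else 0)
    (hC : ∀ α ∈ C, ∀ β ∈ C, classInner α β = if α = β then 1 else 0)
    (hAC : ∀ α ∈ A, ∀ γ ∈ C, classInner α γ = 0)
    (v : G → ℂ) (zA zC : (G → ℂ) → ℤ) (hzA : ∀ α ∈ A, classInner v α = zA α)
    (hzC : ∀ α ∈ C, classInner v α = zC α)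
    (N : ℤ) (hN : classInner v v = (N : ℂ)) :
    ∑ α ∈ A, (zA α) ^ 2 + ∑ γ ∈ C, (zC γ) ^ 2 ≤ N := by
  classical
  have sym : ∀ {α β : G → ℂ}, classInner α β = 0 → classInner β α = 0 := by
    intro α β h
    rw [← classInner_conj_symm, h, map_zero]
  have he : ∀ i ∈ A.disjSum C, ∀ j ∈ A.disjSum C,
      classInner ((Sum.elim id id : (G → ℂ) ⊕ (G → ℂ) → G → ℂ) i)
        ((Sum.elim id id : (G → ℂ) ⊕ (G → ℂ) → G → ℂ) j) =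
        if i = j then 1 else 0 := by
    intro i hi j hj
    rcases i with i | i <;> rcases j with j | j <;>
      simp only [Finset.mem_disjSum, Sum.inl.injEq, Sum.inr.injEq, exists_eq_right,
        reduceCtorEq, and_false, exists_false, or_false, false_or, exists_eq_right] at hi hj <;>
      simp only [Sum.elim_inl, Sum.elim_inr, id_eq, Sum.inl.injEq, Sum.inr.injEq, reduceCtorEq,
        if_false]
    · exact hA i hi j hj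
    · exact hAC i hi j hj
    · exact sym (hAC j hj i hi)
    · exact hC i hi j hj
  have hz' : ∀ i ∈ A.disjSum C,
      classInner v ((Sum.elim id id : (G → ℂ) ⊕ (G → ℂ) → G → ℂ) i) =
        (((Sum.elim zA zC : (G → ℂ) ⊕ (G → ℂ) → ℤ) i : ℤ) : ℂ) := by
    intro i hi
    rcases i with i | i <;>
      simp only [Finset.mem_disjSum, Sum.inl.injEq, Sum.inr.injEq, exists_eq_right,
        reduceCtorEq, and_false, exists_false, or_false, false_or, exists_eq_right] at hi <;>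
      simp only [Sum.elim_inl, Sum.elim_inr, id_eq]
    · exact hzA i hi
    · exact hzC i hi
  obtain ⟨hb, _⟩ := bessel (A.disjSum C) _ he v (Sum.elim zA zC) hz' N hN
  rw [Finset.sum_disjSum] at hb
  simpa only [Sum.elim_inl, Sum.elim_inr] using hb

theorem conj_sub_mem {S : Set (L → ℂ)} (hconj : ∀ χ ∈ S, conjFun χ ∈ S) {d : (L → ℂ) → ℕ}
    (hd : ∀ φ ∈ S, φ 1 = (d φ : ℂ)) {φ : L → ℂ} (hφ : φ ∈ S) :
    φ - conjFun φ ∈ zspanOn S ({1}ᶜ : Set L) := by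
  apply mem_zspanOn_one (zspan_sub (zspan_of_mem hφ) (zspan_of_mem (hconj φ hφ)))
  rw [Pi.sub_apply]
  show φ 1 - conj (φ 1) = 0
  rw [hd φ hφ]
  simp

theorem card_R {S : Set (L → ℂ)} {τ : (L → ℂ) → (G → ℂ)} {R : (L → ℂ) → Finset (G → ℂ)}
    (hS : IsCoherenceSystem S τ R) {d : (L → ℂ) → ℕ} (hd : ∀ φ ∈ S, φ 1 = (d φ : ℂ))
    {φ : L → ℂ} (hφ : φ ∈ S) {N : ℤ} (hN : classInner φ φ = (N : ℂ)) :
    ((R φ).card : ℤ) = 2 * N := by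
  classical
  have hτ := hS.isometry
  have hc := hS.conj_mem φ hφ
  have hmem := conj_sub_mem hS.conj_mem hd hφ
  have o1 : classInner φ (conjFun φ) = 0 := hS.orthogonal φ hφ _ hc (hS.conj_ne φ hφ).symm
  have o2 : classInner (conjFun φ) φ = 0 := hS.orthogonal _ hc φ hφ (hS.conj_ne φ hφ)
  have hnc : classInner (conjFun φ) (conjFun φ) = (N : ℂ) := by rw [ip_conj, hN]; simp
  have e1 : classInner (τ (φ - conjFun φ)) (τ (φ - conjFun φ)) = ((2 * N : ℤ) : ℂ) := by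
    rw [hτ.2.2.1 _ hmem _ hmem, classInner_sub_left, classInner_sub_right, classInner_sub_right,
      hN, o1, o2, hnc]
    push_cast; ring
  have e2 : τ (φ - conjFun φ) = ∑ α ∈ R φ, (((fun _ => (1 : ℤ)) α : ℤ) : ℂ) • α := by
    rw [hS.sum_eq φ hφ]
    exact Finset.sum_congr rfl fun α _ => by simp
  rw [e2, comb_norm _ (hS.orthonormal φ hφ)] at e1
  have e3 := Int.cast_injective (α := ℂ) e1
  simpa using e3

theorem int_sq_add (z : ℤ) : 1 ≤ z ^ 2 + (z - 1) ^ 2 := by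
  rcases le_or_gt z 0 with h | h
  · nlinarith
  · nlinarith

/-- Peterfalvi (5.5), in the form of its corollary: `τ₁ φ` is orthogonal to every orthonormal
family orthogonal to `R φ`. -/
theorem ortho_supp {S : Set (L → ℂ)} {τ : (L → ℂ) → (G → ℂ)} {R : (L → ℂ) → Finset (G → ℂ)}
    (hS : IsCoherenceSystem S τ R) {d : (L → ℂ) → ℕ} (hd : ∀ φ ∈ S, φ 1 = (d φ : ℂ))
    {S₁ : Set (L → ℂ)} (hS₁ : S₁ ⊆ S) (hS₁c : ∀ φ ∈ S₁, conjFun φ ∈ S₁)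
    {τ₁ : (L → ℂ) → (G → ℂ)} (hτ₁ : IsLinearIsometryOn (zspan S₁) τ₁)
    (hτ₁α : ∀ α ∈ zspanOn S₁ ({1}ᶜ : Set L), τ₁ α = τ α)
    {φ : L → ℂ} (hφ : φ ∈ S₁) (C : Finset (G → ℂ))
    (hC : ∀ α ∈ C, ∀ β ∈ C, classInner α β = if α = β then 1 else 0)
    (hCg : ∀ α ∈ C, IsGeneralizedCharacter G α)
    (hRC : ∀ α ∈ R φ, ∀ γ ∈ C, classInner α γ = 0) :
    ∀ γ ∈ C, classInner (τ₁ φ) γ = 0 := by
  classical
  have hφS := hS₁ hφ
  have hφc := hS₁c φ hφ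
  have hgφ := IsCharacter.isGeneralizedCharacter (hS.isCharacter φ hφS)
  obtain ⟨N, hN⟩ := IsGeneralizedCharacter.classInner_int hgφ hgφ
  have hcard := card_R hS hd hφS hN
  have hnc : classInner (conjFun φ) (conjFun φ) = (N : ℂ) := by rw [ip_conj, hN]; simp
  have m1 : φ ∈ zspan S₁ := zspan_of_mem hφ
  have m2 : conjFun φ ∈ zspan S₁ := zspan_of_mem hφc
  have hmem : φ - conjFun φ ∈ zspanOn S₁ ({1}ᶜ : Set L) :=
    conj_sub_mem hS₁c (fun ψ hψ => hd ψ (hS₁ hψ)) hφ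
  have hdiff : τ₁ φ - τ₁ (conjFun φ) = ∑ α ∈ R φ, α := by
    rw [← iso_sub hτ₁ m1 m2 (zspan_zsmul _ m2), hτ₁α _ hmem, hS.sum_eq φ hφS]
  have hu : classInner (τ₁ φ) (τ₁ φ) = (N : ℂ) := by rw [hτ₁.2.2.1 _ m1 _ m1, hN]
  have hu' : classInner (τ₁ (conjFun φ)) (τ₁ (conjFun φ)) = (N : ℂ) := by
    rw [hτ₁.2.2.1 _ m2 _ m2, hnc]
  obtain ⟨z, hz⟩ := exists_coeff _ (hτ₁.2.2.2 _ m1)
  have hu'eq : τ₁ (conjFun φ) = τ₁ φ - ∑ α ∈ R φ, α := by rw [← hdiff]; abel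
  have horth := hS.orthonormal φ hφS
  have hgR := hS.virtual φ hφS
  have hzA' : ∀ α ∈ R φ, classInner (τ₁ (conjFun φ)) α = (((fun α => z α - 1) α : ℤ) : ℂ) := by
    intro α hα
    rw [hu'eq, classInner_sub_left, hz α (hgR α hα), classInner_sum_left, Finset.sum_eq_single α]
    · rw [horth α hα α hα, if_pos rfl]; push_cast; ring
    · intro β hβ hne; rw [horth β hβ α hα, if_neg hne]
    · intro h; exact absurd hα h
  have hzC' : ∀ γ ∈ C, classInner (τ₁ (conjFun φ)) γ = ((z γ : ℤ) : ℂ) := by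
    intro γ hγ
    rw [hu'eq, classInner_sub_left, hz γ (hCg γ hγ), classInner_sum_left,
      Finset.sum_eq_zero (fun β hβ => hRC β hβ γ hγ), sub_zero]
  have b1 := bessel2 (R φ) C horth hC hRC (τ₁ φ) z z (fun α hα => hz α (hgR α hα))
    (fun γ hγ => hz γ (hCg γ hγ)) N hu
  have b2 := bessel2 (R φ) C horth hC hRC (τ₁ (conjFun φ)) (fun α => z α - 1) z hzA' hzC' N hu'
  have h3 : ((R φ).card : ℤ) ≤ ∑ α ∈ R φ, ((z α) ^ 2 + (z α - 1) ^ 2) := by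
    rw [Finset.card_eq_sum_ones]
    push_cast
    exact Finset.sum_le_sum fun α _ => int_sq_add _
  have hC0 : ∑ γ ∈ C, (z γ) ^ 2 = 0 := by
    rw [Finset.sum_add_distrib] at h3
    have : 0 ≤ ∑ γ ∈ C, (z γ) ^ 2 := Finset.sum_nonneg fun _ _ => sq_nonneg _
    linarith
  intro γ hγ
  have := (Finset.sum_eq_zero_iff_of_nonneg (fun α _ => sq_nonneg (z α))).mp hC0 γ hγ
  rw [hz γ (hCg γ hγ), (pow_eq_zero_iff two_ne_zero).mp this]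
  simp

theorem single_iso' (χ : L → ℂ) (N : ℂ) (hN0 : N ≠ 0) (hχ : classInner χ χ = N) (Δ : G → ℂ)
    (hΔ : IsGeneralizedCharacter G Δ) (hΔ1 : classInner Δ Δ = N) :
    IsLinearIsometryOn (zspan ({χ} : Set (L → ℂ))) (fun θ => (classInner θ χ / N) • Δ) := by
  have hc : ∀ k : ℤ, classInner (k • χ) χ / N = (k : ℂ) := by
    intro k
    rw [classInner_zsmul_left, hχ]
    field_simp
  refine ⟨?_, ?_, ?_, ?_⟩
  · intro θ _ θ' _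
    show (classInner (θ + θ') χ / N) • Δ = (classInner θ χ / N) • Δ + (classInner θ' χ / N) • Δ
    rw [classInner_add_left, add_div, add_smul]
  · intro θ _ k
    show (classInner (k • θ) χ / N) • Δ = k • ((classInner θ χ / N) • Δ)
    rw [classInner_zsmul_left]
    ext x
    simp only [Pi.smul_apply, smul_eq_mul, zsmul_eq_mul]
    ring
  · intro θ hθ θ' hθ'
    obtain ⟨m, rfl⟩ := mem_zspan_singleton hθ
    obtain ⟨m', rfl⟩ := mem_zspan_singleton hθ'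
    show classInner ((classInner (m • χ) χ / N) • Δ) ((classInner (m' • χ) χ / N) • Δ) = _
    rw [hc m, hc m', classInner_smul_left, classInner_smul_right, hΔ1, classInner_zsmul_right,
      classInner_zsmul_left, hχ]
    simp only [map_intCast]
    ring
  · intro θ hθ
    obtain ⟨m, rfl⟩ := mem_zspan_singleton hθ
    show IsGeneralizedCharacter G ((classInner (m • χ) χ / N) • Δ)
    rw [hc m]
    have : ((m : ℂ)) • Δ = m • Δ := by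
      ext x; simp
    rw [this]
    exact IsGeneralizedCharacter.zsmul m hΔ


theorem npos_of {S : Set (L → ℂ)} {τ : (L → ℂ) → (G → ℂ)} {R : (L → ℂ) → Finset (G → ℂ)}
    (hS : IsCoherenceSystem S τ R) {n : (L → ℂ) → ℕ}
    (hn : ∀ φ ∈ S, classInner φ φ = (n φ : ℂ)) : ∀ φ ∈ S, 0 < n φ := by
  intro φ hφ
  rcases Nat.eq_zero_or_pos (n φ) with h | h
  · exfalso
    have h0 := hn φ hφ
    rw [h, Nat.cast_zero, classInner_self_eq_zero] at h0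
    apply hS.conj_ne φ hφ
    rw [h0]; ext x; simp [conjFun]
  · exact h

theorem delta_props (S : Set (L → ℂ)) (τ : (L → ℂ) → (G → ℂ)) (R : (L → ℂ) → Finset (G → ℂ))
    (hS : IsCoherenceSystem S τ R) (d n : (L → ℂ) → ℕ)
    (hd : ∀ φ ∈ S, φ 1 = (d φ : ℂ)) (hn : ∀ φ ∈ S, classInner φ φ = (n φ : ℂ))
    (S₁ : Finset (L → ℂ)) (hS₁ : (↑S₁ : Set (L → ℂ)) ⊆ S) (hS₁c : ∀ φ ∈ S₁, conjFun φ ∈ S₁)
    (τ₁ : (L → ℂ) → (G → ℂ)) (hτ₁ : IsLinearIsometryOn (zspan (↑S₁ : Set (L → ℂ))) τ₁)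
    (hτ₁α : ∀ α ∈ zspanOn (↑S₁ : Set (L → ℂ)) ({1}ᶜ : Set L), τ₁ α = τ α)
    (χ : L → ℂ) (hχ : χ ∈ S) (hχ₁ : χ ∉ S₁)
    (hχ₂ : conjFun χ ∉ S₁) (χ₁ : L → ℂ) (hχ₁S : χ₁ ∈ S₁) (a : ℕ) (ha : d χ = d χ₁ * a)
    (hineq : (2 * d χ * d χ₁ : ℝ) < ∑ φ ∈ S₁, ((d φ : ℝ) ^ 2 / (n φ : ℝ))) :
    χ - (a : ℤ) • χ₁ ∈ zspanOn S ({1}ᶜ : Set L) ∧
    IsGeneralizedCharacter G (τ (χ - (a : ℤ) • χ₁) + (a : ℤ) • τ₁ χ₁) ∧
    classInner (τ (χ - (a : ℤ) • χ₁) + (a : ℤ) • τ₁ χ₁) (τ (χ - (a : ℤ) • χ₁) + (a : ℤ) • τ₁ χ₁) =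
      (n χ : ℂ) ∧
    (∀ φ ∈ S₁, classInner (τ (χ - (a : ℤ) • χ₁) + (a : ℤ) • τ₁ χ₁) (τ₁ φ) = 0) ∧
    classInner (τ (χ - (a : ℤ) • χ₁) + (a : ℤ) • τ₁ χ₁) (τ (χ - conjFun χ)) = (n χ : ℂ) ∧
    (∀ φ ∈ S₁, classInner (τ₁ φ) (τ (χ - conjFun χ)) = 0) := by
  classical
  have hτ := hS.isometry
  have hS₁S : ∀ φ ∈ S₁, φ ∈ S := fun φ hφ => hS₁ (Finset.mem_coe.mpr hφ)
  have mS : ∀ φ ∈ S₁, φ ∈ zspan (↑S₁ : Set (L → ℂ)) :=
    fun φ hφ => zspan_of_mem (Finset.mem_coe.mpr hφ)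
  have hχc : conjFun χ ∈ S := hS.conj_mem χ hχ
  have hχ₁' := hS₁S χ₁ hχ₁S
  have npos := npos_of hS hn
  have ipχ : ∀ φ ∈ S₁, classInner χ φ = 0 := fun φ hφ =>
    hS.orthogonal χ hχ φ (hS₁S φ hφ) (fun h => hχ₁ (by rw [h]; exact hφ))
  have ipχ' : ∀ φ ∈ S₁, classInner φ χ = 0 := fun φ hφ =>
    hS.orthogonal φ (hS₁S φ hφ) χ hχ (fun h => hχ₁ (by rw [← h]; exact hφ))
  have ipχc : ∀ φ ∈ S₁, classInner φ (conjFun χ) = 0 := fun φ hφ =>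
    hS.orthogonal φ (hS₁S φ hφ) _ hχc (fun h => hχ₂ (by rw [← h]; exact hφ))
  have ipS : ∀ φ ∈ S₁, ∀ φ' ∈ S₁, classInner φ φ' = if φ = φ' then (n φ : ℂ) else 0 := by
    intro φ hφ φ' hφ'
    split_ifs with h
    · rw [← h]; exact hn φ (hS₁S φ hφ)
    · exact hS.orthogonal φ (hS₁S φ hφ) φ' (hS₁S φ' hφ') h
  have hβ : χ - (a : ℤ) • χ₁ ∈ zspanOn S ({1}ᶜ : Set L) := by
    apply mem_zspanOn_one (zspan_sub (zspan_of_mem hχ) (zspan_zsmul _ (zspan_of_mem hχ₁')))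
    rw [Pi.sub_apply, Pi.smul_apply, hd χ hχ, hd χ₁ hχ₁', ha]
    simp only [zsmul_eq_mul, Int.cast_natCast]
    push_cast
    ring
  have hΔg : IsGeneralizedCharacter G (τ (χ - (a : ℤ) • χ₁) + (a : ℤ) • τ₁ χ₁) :=
    IsGeneralizedCharacter.add (hτ.2.2.2 _ hβ)
      (IsGeneralizedCharacter.zsmul _ (hτ₁.2.2.2 _ (mS χ₁ hχ₁S)))
  have he : ∀ φ ∈ S₁, ∀ φ' ∈ S₁,
      classInner (τ₁ φ) (τ₁ φ') = if φ = φ' then (n φ : ℂ) else 0 := by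
    intro φ hφ φ' hφ'
    rw [hτ₁.2.2.1 φ (mS φ hφ) φ' (mS φ' hφ'), ipS φ hφ φ' hφ']
  have hperp : ∀ θ ∈ zspanOn (↑S₁ : Set (L → ℂ)) ({1}ᶜ : Set L),
      classInner (τ (χ - (a : ℤ) • χ₁) + (a : ℤ) • τ₁ χ₁) (τ₁ θ) = 0 := by
    intro θ hθ
    have hχθ : classInner χ θ = 0 :=
      ip_span_zero (X := {χ}) (Y := (↑S₁ : Set (L → ℂ)))
        (by intro x hx y hy; rw [Set.mem_singleton_iff.mp hx]; exact ipχ y (Finset.mem_coe.mp hy))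
        (zspan_of_mem (Set.mem_singleton χ)) hθ.1
    rw [classInner_add_left, classInner_zsmul_left, hτ₁.2.2.1 χ₁ (mS χ₁ hχ₁S) θ hθ.1, hτ₁α θ hθ,
      hτ.2.2.1 _ hβ θ (zspanOn_mono _ hS₁ hθ), classInner_sub_left, classInner_zsmul_left, hχθ]
    ring
  obtain ⟨z, hz⟩ := exists_coeff _ hΔg
  have hw : ∀ φ ∈ S₁, classInner (τ (χ - (a : ℤ) • χ₁) + (a : ℤ) • τ₁ χ₁) (τ₁ φ) =
      ((z (τ₁ φ) : ℤ) : ℂ) := fun φ hφ => hz _ (hτ₁.2.2.2 _ (mS φ hφ))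
  have hdS : ∀ φ ∈ S₁, φ 1 = (d φ : ℂ) := fun φ hφ => hd φ (hS₁S φ hφ)
  have hdiff : ∀ φ ∈ S₁, ∀ φ' ∈ S₁,
      (d φ' : ℤ) • φ - (d φ : ℤ) • φ' ∈ zspanOn (↑S₁ : Set (L → ℂ)) ({1}ᶜ : Set L) :=
    fun φ hφ φ' hφ' => diff_mem (X := (↑S₁ : Set (L → ℂ))) (Finset.mem_coe.mpr hφ)
      (Finset.mem_coe.mpr hφ') (hdS φ hφ) (hdS φ' hφ')
  have hτ₁diff : ∀ φ ∈ S₁, ∀ φ' ∈ S₁,
      τ₁ ((d φ' : ℤ) • φ - (d φ : ℤ) • φ') = (d φ' : ℤ) • τ₁ φ - (d φ : ℤ) • τ₁ φ' :=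
    fun φ hφ φ' hφ' => iso_diff hτ₁ (mS φ hφ) (mS φ' hφ') _ _ (zspan_zsmul _ (mS φ hφ))
      (zspan_zsmul _ (mS φ' hφ')) (zspan_zsmul _ (zspan_zsmul _ (mS φ' hφ')))
  have hrel : ∀ φ ∈ S₁, (d χ₁ : ℤ) * z (τ₁ φ) = (d φ : ℤ) * z (τ₁ χ₁) := by
    intro φ hφ
    have := hperp _ (hdiff φ hφ χ₁ hχ₁S)
    rw [hτ₁diff φ hφ χ₁ hχ₁S, classInner_sub_right, classInner_zsmul_right,
      classInner_zsmul_right, hw φ hφ, hw χ₁ hχ₁S] at this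
    have h' : (((d χ₁ : ℤ) * z (τ₁ φ) - (d φ : ℤ) * z (τ₁ χ₁) : ℤ) : ℂ) = 0 := by
      push_cast
      push_cast at this
      linear_combination this
    have h'' : (d χ₁ : ℤ) * z (τ₁ φ) - (d φ : ℤ) * z (τ₁ χ₁) = 0 := by exact_mod_cast h'
    linarith
  have hββ : classInner (χ - (a : ℤ) • χ₁) (χ - (a : ℤ) • χ₁) =
      ((n χ + a * a * n χ₁ : ℤ) : ℂ) := by
    rw [classInner_sub_left, classInner_sub_right, classInner_sub_right, classInner_zsmul_left,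
      classInner_zsmul_left, classInner_zsmul_right, classInner_zsmul_right,
      hn χ hχ, ipχ χ₁ hχ₁S, ipχ' χ₁ hχ₁S, hn χ₁ hχ₁']
    push_cast
    ring
  have hβψ : classInner (τ (χ - (a : ℤ) • χ₁)) (τ₁ χ₁) = ((z (τ₁ χ₁) - a * n χ₁ : ℤ) : ℂ) := by
    have := hw χ₁ hχ₁S
    rw [classInner_add_left, classInner_zsmul_left, he χ₁ hχ₁S χ₁ hχ₁S, if_pos rfl] at this
    push_cast
    push_cast at this
    linear_combination this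
  have hnorm : classInner (τ (χ - (a : ℤ) • χ₁) + (a : ℤ) • τ₁ χ₁)
      (τ (χ - (a : ℤ) • χ₁) + (a : ℤ) • τ₁ χ₁) = ((n χ + 2 * a * z (τ₁ χ₁) : ℤ) : ℂ) := by
    have hψβ : classInner (τ₁ χ₁) (τ (χ - (a : ℤ) • χ₁)) = ((z (τ₁ χ₁) - a * n χ₁ : ℤ) : ℂ) := by
      rw [← classInner_conj_symm, hβψ]; simp
    rw [classInner_add_left, classInner_add_right, classInner_add_right, classInner_zsmul_left,
      classInner_zsmul_left, classInner_zsmul_right, classInner_zsmul_right,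
      hτ.2.2.1 _ hβ _ hβ, hββ, hβψ, hψβ, he χ₁ hχ₁S χ₁ hχ₁S, if_pos rfl]
    push_cast
    ring
  have hsupp : ∀ φ ∈ S₁, ∀ α ∈ R χ, classInner (τ₁ φ) α = 0 := by
    intro φ hφ
    exact ortho_supp hS hd hS₁
      (fun ψ hψ => Finset.mem_coe.mpr (hS₁c ψ (Finset.mem_coe.mp hψ))) hτ₁ hτ₁α
      (Finset.mem_coe.mpr hφ) (R χ) (hS.orthonormal χ hχ) (hS.virtual χ hχ)
      (hS.disjoint χ hχ φ (hS₁S φ hφ) (ipχ' φ hφ) (ipχc φ hφ))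
  have hχχc := conj_sub_mem hS.conj_mem hd hχ
  have o3 : classInner χ (conjFun χ) = 0 := hS.orthogonal χ hχ _ hχc (hS.conj_ne χ hχ).symm
  have hτ₁Sg : ∀ φ ∈ S₁, classInner (τ₁ φ) (τ (χ - conjFun χ)) = 0 := by
    intro φ hφ
    rw [hS.sum_eq χ hχ, classInner_sum_right]
    exact Finset.sum_eq_zero fun α hα => hsupp φ hφ α hα
  have hΔSg : classInner (τ (χ - (a : ℤ) • χ₁) + (a : ℤ) • τ₁ χ₁) (τ (χ - conjFun χ)) =
      (n χ : ℂ) := by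
    rw [classInner_add_left, classInner_zsmul_left, hτ.2.2.1 _ hβ _ hχχc, hτ₁Sg χ₁ hχ₁S,
      classInner_sub_left, classInner_sub_right, classInner_sub_right, classInner_zsmul_left,
      classInner_zsmul_left, hn χ hχ, o3, ipχ' χ₁ hχ₁S, ipχc χ₁ hχ₁S]
    ring
  have hxsum : ∑ α ∈ R χ, z α = (n χ : ℤ) := by
    have e := hΔSg
    rw [hS.sum_eq χ hχ, classInner_sum_right] at e
    have e' : ((∑ α ∈ R χ, z α : ℤ) : ℂ) = ((n χ : ℤ) : ℂ) := by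
      rw [Int.cast_natCast, ← e]; push_cast
      exact Finset.sum_congr rfl fun α hα => (hz α (hS.virtual χ hχ α hα)).symm
    exact_mod_cast e'
  -- the weighted Bessel inequality
  have sym : ∀ {α β : G → ℂ}, classInner α β = 0 → classInner β α = 0 := by
    intro α β h
    rw [← classInner_conj_symm, h, map_zero]
  have hB := wbessel ((R χ).disjSum S₁)
    (Sum.elim id τ₁ : (G → ℂ) ⊕ (L → ℂ) → G → ℂ)
    (Sum.elim (fun _ => (1 : ℝ)) (fun φ => (n φ : ℝ)))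
    (by
      intro i hi
      rcases i with i | i <;>
        simp only [Finset.mem_disjSum, Sum.inl.injEq, Sum.inr.injEq, exists_eq_right,
          reduceCtorEq, and_false, exists_false, or_false, false_or, exists_eq_right] at hi <;>
        simp only [Sum.elim_inl, Sum.elim_inr]
      · exact one_pos
      · exact_mod_cast npos i (hS₁S i hi))
    (by
      intro i hi j hj
      rcases i with i | i <;> rcases j with j | j <;>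
        simp only [Finset.mem_disjSum, Sum.inl.injEq, Sum.inr.injEq, exists_eq_right,
          reduceCtorEq, and_false, exists_false, or_false, false_or, exists_eq_right] at hi hj <;>
        simp only [Sum.elim_inl, Sum.elim_inr, id_eq, Sum.inl.injEq, Sum.inr.injEq, reduceCtorEq,
          if_false]
      · rw [hS.orthonormal χ hχ i hi j hj]; simp
      · exact sym (hsupp j hj i hi)
      · exact hsupp i hi j hj
      · rw [he i hi j hj]; simp)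
    (τ (χ - (a : ℤ) • χ₁) + (a : ℤ) • τ₁ χ₁)
    (Sum.elim (fun α => ((z α : ℤ) : ℝ)) (fun φ => ((z (τ₁ φ) : ℤ) : ℝ)))
    (by
      intro i hi
      rcases i with i | i <;>
        simp only [Finset.mem_disjSum, Sum.inl.injEq, Sum.inr.injEq, exists_eq_right,
          reduceCtorEq, and_false, exists_false, or_false, false_or, exists_eq_right] at hi <;>
        simp only [Sum.elim_inl, Sum.elim_inr, id_eq]
      · rw [hz i (hS.virtual χ hχ i hi)]; simp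
      · rw [hw i hi]; simp)
    ((n χ : ℝ) + 2 * a * z (τ₁ χ₁))
    (by rw [hnorm]; push_cast; ring)
  rw [Finset.sum_disjSum] at hB
  simp only [Sum.elim_inl, Sum.elim_inr, div_one] at hB
  have hxsq : (n χ : ℝ) ≤ ∑ α ∈ R χ, ((z α : ℤ) : ℝ) ^ 2 := by
    have h1 : (n χ : ℤ) ≤ ∑ α ∈ R χ, (z α) ^ 2 := by
      rw [← hxsum]; exact Finset.sum_le_sum fun α _ => int_le_sq _
    have h2 : ((n χ : ℤ) : ℝ) ≤ ((∑ α ∈ R χ, (z α) ^ 2 : ℤ) : ℝ) := by exact_mod_cast h1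
    push_cast at h2
    exact h2
  have hB' : ∑ φ ∈ S₁, ((z (τ₁ φ) : ℤ) : ℝ) ^ 2 / (n φ : ℝ) ≤ 2 * a * z (τ₁ χ₁) := by linarith
  have hT : (d χ₁ : ℝ) ^ 2 * ∑ φ ∈ S₁, ((z (τ₁ φ) : ℤ) : ℝ) ^ 2 / (n φ : ℝ) =
      ((z (τ₁ χ₁) : ℤ) : ℝ) ^ 2 * ∑ φ ∈ S₁, ((d φ : ℝ) ^ 2 / (n φ : ℝ)) := by
    rw [Finset.mul_sum, Finset.mul_sum]
    refine Finset.sum_congr rfl fun φ hφ => ?_
    have hr : (d χ₁ : ℝ) * ((z (τ₁ φ) : ℤ) : ℝ) = (d φ : ℝ) * ((z (τ₁ χ₁) : ℤ) : ℝ) := by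
      exact_mod_cast hrel φ hφ
    calc (d χ₁ : ℝ) ^ 2 * (((z (τ₁ φ) : ℤ) : ℝ) ^ 2 / (n φ : ℝ))
        = ((d χ₁ : ℝ) * ((z (τ₁ φ) : ℤ) : ℝ)) ^ 2 / (n φ : ℝ) := by ring
      _ = ((d φ : ℝ) * ((z (τ₁ χ₁) : ℤ) : ℝ)) ^ 2 / (n φ : ℝ) := by rw [hr]
      _ = ((z (τ₁ χ₁) : ℤ) : ℝ) ^ 2 * ((d φ : ℝ) ^ 2 / (n φ : ℝ)) := by ring
  have hW0 : z (τ₁ χ₁) = 0 := by
    by_contra hne
    have hT' := mul_le_mul_of_nonneg_left hB' (sq_nonneg (d χ₁ : ℝ))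
    rw [hT] at hT'
    have hda : (d χ : ℝ) = (d χ₁ : ℝ) * a := by exact_mod_cast ha
    have hD0 : (0 : ℝ) ≤ (d χ₁ : ℝ) := Nat.cast_nonneg _
    have ha0 : (0 : ℝ) ≤ (a : ℝ) := Nat.cast_nonneg _
    have hP : (0 : ℝ) ≤ (d χ₁ : ℝ) ^ 2 * a := mul_nonneg (sq_nonneg _) ha0
    have hTP : 2 * ((d χ₁ : ℝ) ^ 2 * a) < ∑ φ ∈ S₁, ((d φ : ℝ) ^ 2 / (n φ : ℝ)) := by
      have : 2 * ((d χ₁ : ℝ) ^ 2 * a) = 2 * d χ * d χ₁ := by rw [hda]; ring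
      rw [this]; exact hineq
    have hTpos : (0 : ℝ) < ∑ φ ∈ S₁, ((d φ : ℝ) ^ 2 / (n φ : ℝ)) := by linarith
    have hT'' : ((z (τ₁ χ₁) : ℤ) : ℝ) ^ 2 * ∑ φ ∈ S₁, ((d φ : ℝ) ^ 2 / (n φ : ℝ)) ≤
        2 * ((d χ₁ : ℝ) ^ 2 * a) * ((z (τ₁ χ₁) : ℤ) : ℝ) := by
      calc _ ≤ (d χ₁ : ℝ) ^ 2 * (2 * a * z (τ₁ χ₁)) := hT'
        _ = _ := by ring
    rcases lt_or_gt_of_ne hne with h | h
    · have hWr : ((z (τ₁ χ₁) : ℤ) : ℝ) ≤ -1 := by exact_mod_cast (by omega : z (τ₁ χ₁) ≤ -1)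
      have h1 : (0 : ℝ) < ((z (τ₁ χ₁) : ℤ) : ℝ) ^ 2 * ∑ φ ∈ S₁, ((d φ : ℝ) ^ 2 / (n φ : ℝ)) :=
        mul_pos (by nlinarith) hTpos
      nlinarith
    · have hWr : (1 : ℝ) ≤ ((z (τ₁ χ₁) : ℤ) : ℝ) := by exact_mod_cast (by omega : 1 ≤ z (τ₁ χ₁))
      have h1 := mul_nonneg (mul_nonneg (by linarith : (0 : ℝ) ≤ ((z (τ₁ χ₁) : ℤ) : ℝ))
        (sub_nonneg.mpr hWr)) hTpos.le
      have h2 := mul_pos (by linarith : (0 : ℝ) < ((z (τ₁ χ₁) : ℤ) : ℝ)) (sub_pos.mpr hTP)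
      nlinarith
  have hw0 : ∀ φ ∈ S₁, z (τ₁ φ) = 0 := by
    have hterm : ∀ φ ∈ S₁, 0 ≤ ((z (τ₁ φ) : ℤ) : ℝ) ^ 2 / (n φ : ℝ) :=
      fun φ _ => div_nonneg (sq_nonneg _) (Nat.cast_nonneg _)
    intro φ hφ
    have hsum0 : ∑ φ ∈ S₁, ((z (τ₁ φ) : ℤ) : ℝ) ^ 2 / (n φ : ℝ) = 0 :=
      le_antisymm (by rw [hW0] at hB'; simpa using hB') (Finset.sum_nonneg hterm)
    have := (Finset.sum_eq_zero_iff_of_nonneg hterm).mp hsum0 φ hφ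
    have hnφ : (0 : ℝ) < n φ := by exact_mod_cast npos φ (hS₁S φ hφ)
    rw [div_eq_zero_iff] at this
    rcases this with h | h
    · have h' : ((z (τ₁ φ) : ℤ) : ℝ) = 0 := (pow_eq_zero_iff two_ne_zero).mp h
      exact_mod_cast h'
    · exact absurd h hnφ.ne'
  refine ⟨hβ, hΔg, ?_, ?_, hΔSg, hτ₁Sg⟩
  · rw [hnorm, hW0]; simp
  · intro φ hφ
    rw [hw φ hφ, hw0 φ hφ]; simp


theorem main (S : Set (L → ℂ)) (τ : (L → ℂ) → (G → ℂ)) (R : (L → ℂ) → Finset (G → ℂ))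
    (hS : IsCoherenceSystem S τ R) (d n : (L → ℂ) → ℕ)
    (hd : ∀ φ ∈ S, φ 1 = (d φ : ℂ)) (hn : ∀ φ ∈ S, classInner φ φ = (n φ : ℂ))
    (S₁ : Finset (L → ℂ)) (hS₁ : (↑S₁ : Set (L → ℂ)) ⊆ S) (hS₁c : ∀ φ ∈ S₁, conjFun φ ∈ S₁)
    (hcoh : IsCoherent (↑S₁ : Set (L → ℂ)) ({1}ᶜ : Set L) τ)
    (χ : L → ℂ) (hχ : χ ∈ S) (hχ₁ : χ ∉ S₁)
    (hχ₂ : conjFun χ ∉ S₁) (χ₁ : L → ℂ) (hχ₁S : χ₁ ∈ S₁) (hdvd : d χ₁ ∣ d χ)
    (hineq : (2 * d χ * d χ₁ : ℝ) < ∑ φ ∈ S₁, ((d φ : ℝ) ^ 2 / (n φ : ℝ))) :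
    IsCoherent (↑S₁ ∪ {χ, conjFun χ} : Set (L → ℂ)) ({1}ᶜ : Set L) τ := by
  classical
  obtain ⟨⟨θne, hθne, hθne0⟩, τ₁, hτ₁, hτ₁α⟩ := hcoh
  obtain ⟨a, ha⟩ := hdvd
  obtain ⟨hβ, hΔg, hΔΔ, hΔperp, hΔSg, hτ₁Sg⟩ := delta_props S τ R hS d n hd hn S₁ hS₁ hS₁c τ₁ hτ₁
    hτ₁α χ hχ hχ₁ hχ₂ χ₁ hχ₁S a ha hineq
  have hτ := hS.isometry
  have hS₁S : ∀ φ ∈ S₁, φ ∈ S := fun φ hφ => hS₁ (Finset.mem_coe.mpr hφ)
  have mS : ∀ φ ∈ S₁, φ ∈ zspan (↑S₁ : Set (L → ℂ)) :=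
    fun φ hφ => zspan_of_mem (Finset.mem_coe.mpr hφ)
  have hχc : conjFun χ ∈ S := hS.conj_mem χ hχ
  have hχ₁' := hS₁S χ₁ hχ₁S
  have npos := npos_of hS hn
  have hχχc := conj_sub_mem hS.conj_mem hd hχ
  have o3 : classInner χ (conjFun χ) = 0 := hS.orthogonal χ hχ _ hχc (hS.conj_ne χ hχ).symm
  have o3' : classInner (conjFun χ) χ = 0 := hS.orthogonal _ hχc χ hχ (hS.conj_ne χ hχ)
  have hnc : classInner (conjFun χ) (conjFun χ) = (n χ : ℂ) := by rw [ip_conj, hn χ hχ]; simp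
  have ipχ' : ∀ φ ∈ S₁, classInner φ χ = 0 := fun φ hφ =>
    hS.orthogonal φ (hS₁S φ hφ) χ hχ (fun h => hχ₁ (by rw [← h]; exact hφ))
  have ipχc : ∀ φ ∈ S₁, classInner φ (conjFun χ) = 0 := fun φ hφ =>
    hS.orthogonal φ (hS₁S φ hφ) _ hχc (fun h => hχ₂ (by rw [← h]; exact hφ))
  have hN0 : (n χ : ℂ) ≠ 0 := by exact_mod_cast (npos χ hχ).ne'
  -- abbreviations
  obtain ⟨Δ, hΔdef⟩ : ∃ Δ : G → ℂ, Δ = τ (χ - (a : ℤ) • χ₁) + (a : ℤ) • τ₁ χ₁ := ⟨_, rfl⟩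
  rw [← hΔdef] at hΔg hΔΔ hΔperp hΔSg
  have hSgg : IsGeneralizedCharacter G (τ (χ - conjFun χ)) := hτ.2.2.2 _ hχχc
  have hSgSg : classInner (τ (χ - conjFun χ)) (τ (χ - conjFun χ)) = 2 * (n χ : ℂ) := by
    rw [hτ.2.2.1 _ hχχc _ hχχc, classInner_sub_left, classInner_sub_right, classInner_sub_right,
      hn χ hχ, o3, o3', hnc]
    ring
  have hSgΔ : classInner (τ (χ - conjFun χ)) Δ = (n χ : ℂ) := by
    rw [← classInner_conj_symm, hΔSg]; simp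
  have hΔ'g : IsGeneralizedCharacter G (Δ - τ (χ - conjFun χ)) := IsGeneralizedCharacter.sub hΔg hSgg
  have hΔ'Δ' : classInner (Δ - τ (χ - conjFun χ)) (Δ - τ (χ - conjFun χ)) = (n χ : ℂ) := by
    rw [classInner_sub_left, classInner_sub_right, classInner_sub_right, hΔΔ, hΔSg, hSgΔ, hSgSg]
    ring
  have hΔΔ' : classInner Δ (Δ - τ (χ - conjFun χ)) = 0 := by
    rw [classInner_sub_right, hΔΔ, hΔSg, sub_self]
  have hperp' : ∀ φ ∈ S₁, classInner (τ₁ φ) Δ = 0 := by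
    intro φ hφ
    rw [← classInner_conj_symm, hΔperp φ hφ, map_zero]
  have hperp'' : ∀ φ ∈ S₁, classInner (τ₁ φ) (Δ - τ (χ - conjFun χ)) = 0 := by
    intro φ hφ
    rw [classInner_sub_right, hperp' φ hφ, hτ₁Sg φ hφ, sub_zero]
  -- the two single isometries
  have hσ₁ := single_iso' χ (n χ : ℂ) hN0 (hn χ hχ) Δ hΔg hΔΔ
  have hσ₂ := single_iso' (conjFun χ) (n χ : ℂ) hN0 hnc (Δ - τ (χ - conjFun χ)) hΔ'g hΔ'Δ'
  obtain ⟨σ₁, hσ₁def⟩ : ∃ σ₁ : (L → ℂ) → (G → ℂ),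
      σ₁ = fun θ => (classInner θ χ / (n χ : ℂ)) • Δ := ⟨_, rfl⟩
  obtain ⟨σ₂, hσ₂def⟩ : ∃ σ₂ : (L → ℂ) → (G → ℂ),
      σ₂ = fun θ => (classInner θ (conjFun χ) / (n χ : ℂ)) • (Δ - τ (χ - conjFun χ)) := ⟨_, rfl⟩
  rw [← hσ₁def] at hσ₁
  rw [← hσ₂def] at hσ₂
  have hσ₁χ : σ₁ χ = Δ := by
    rw [hσ₁def]
    show (classInner χ χ / (n χ : ℂ)) • Δ = Δ
    rw [hn χ hχ, div_self hN0, one_smul]
  have hσ₂χ : σ₂ (conjFun χ) = Δ - τ (χ - conjFun χ) := by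
    rw [hσ₂def]
    show (classInner (conjFun χ) (conjFun χ) / (n χ : ℂ)) • (Δ - τ (χ - conjFun χ)) = _
    rw [hnc, div_self hN0, one_smul]
  have hXY₁ : ∀ x ∈ ({χ} : Set (L → ℂ)), ∀ y ∈ ({conjFun χ} : Set (L → ℂ)),
      classInner x y = 0 := by
    intro x hx y hy
    rw [Set.mem_singleton_iff.mp hx, Set.mem_singleton_iff.mp hy]; exact o3
  have hσ := glue_isometry hσ₁ hσ₂ hXY₁ (by
    intro x hx y hy
    rw [Set.mem_singleton_iff.mp hx, Set.mem_singleton_iff.mp hy, hσ₁χ, hσ₂χ]; exact hΔΔ')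
  have mχ : χ ∈ zspan ({χ} : Set (L → ℂ)) := zspan_of_mem (Set.mem_singleton _)
  have mχc : conjFun χ ∈ zspan ({conjFun χ} : Set (L → ℂ)) := zspan_of_mem (Set.mem_singleton _)
  have hσχ : glue {χ} {conjFun χ} σ₁ σ₂ χ = Δ := by
    have := glue_eq σ₁ σ₂ hXY₁ mχ (zspan_zero (S := ({conjFun χ} : Set (L → ℂ))))
    rw [add_zero, iso_zero hσ₂ zspan_zero, add_zero, hσ₁χ] at this
    exact this
  have hσχc : glue {χ} {conjFun χ} σ₁ σ₂ (conjFun χ) = Δ - τ (χ - conjFun χ) := by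
    have := glue_eq σ₁ σ₂ hXY₁ (zspan_zero (S := ({χ} : Set (L → ℂ)))) mχc
    rw [zero_add, iso_zero hσ₁ zspan_zero, zero_add, hσ₂χ] at this
    exact this
  have hXY₂ : ∀ x ∈ (↑S₁ : Set (L → ℂ)), ∀ y ∈ ({χ} ∪ {conjFun χ} : Set (L → ℂ)),
      classInner x y = 0 := by
    intro x hx y hy
    rcases hy with hy | hy
    · rw [Set.mem_singleton_iff.mp hy]; exact ipχ' x (Finset.mem_coe.mp hx)
    · rw [Set.mem_singleton_iff.mp hy]; exact ipχc x (Finset.mem_coe.mp hx)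
  have hτ₂ := glue_isometry hτ₁ hσ hXY₂ (by
    intro x hx y hy
    rcases hy with hy | hy
    · rw [Set.mem_singleton_iff.mp hy, hσχ]; exact hperp' x (Finset.mem_coe.mp hx)
    · rw [Set.mem_singleton_iff.mp hy, hσχc]; exact hperp'' x (Finset.mem_coe.mp hx))
  have hset : ({χ, conjFun χ} : Set (L → ℂ)) = {χ} ∪ {conjFun χ} := Set.insert_eq _ _
  rw [hset]
  refine ⟨⟨θne, zspanOn_mono _ Set.subset_union_left hθne, hθne0⟩,
    glue (↑S₁ : Set (L → ℂ)) ({χ} ∪ {conjFun χ}) τ₁ (glue {χ} {conjFun χ} σ₁ σ₂), hτ₂, ?_⟩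
  intro θ hθ
  obtain ⟨θ₁, hθ₁, b, hb, hθeq⟩ := mem_zspan_union hθ.1
  obtain ⟨b₁, hb₁, b₂, hb₂, hbeq⟩ := mem_zspan_union hb
  obtain ⟨p, hp⟩ := mem_zspan_singleton hb₁
  obtain ⟨q, hq⟩ := mem_zspan_singleton hb₂
  have h1 : glue (↑S₁ : Set (L → ℂ)) ({χ} ∪ {conjFun χ}) τ₁ (glue {χ} {conjFun χ} σ₁ σ₂) θ =
      τ₁ θ₁ + (p • Δ + q • (Δ - τ (χ - conjFun χ))) := by
    rw [hθeq, glue_eq _ _ hXY₂ hθ₁ hb, hbeq, glue_eq _ _ hXY₁ hb₁ hb₂, hp, hq,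
      hσ₁.2.1 χ mχ p, hσ₂.2.1 _ mχc q, hσ₁χ, hσ₂χ]
  rw [h1]
  -- decomposition of θ
  have hθ1 : θ 1 = 0 := zspanOn_one_apply hθ
  have hχ1 : χ 1 = (d χ : ℂ) := hd χ hχ
  have hχc1 : conjFun χ 1 = (d χ : ℂ) := by
    show conj (χ 1) = _
    rw [hχ1]; simp
  have hm1 : θ₁ + ((p + q) * (a : ℤ)) • χ₁ ∈ zspanOn (↑S₁ : Set (L → ℂ)) ({1}ᶜ : Set L) := by
    apply mem_zspanOn_one (zspan_add hθ₁ (zspan_zsmul _ (mS χ₁ hχ₁S)))
    have e := hθ1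
    rw [hθeq, hbeq, hp, hq] at e
    simp only [Pi.add_apply, Pi.smul_apply] at e
    rw [hχ1, hχc1] at e
    simp only [Pi.add_apply, Pi.smul_apply]
    rw [hd χ₁ hχ₁']
    simp only [zsmul_eq_mul, Int.cast_mul, Int.cast_add, Int.cast_natCast] at e ⊢
    have hda : (d χ : ℂ) = (d χ₁ : ℂ) * a := by exact_mod_cast ha
    rw [hda] at e
    linear_combination e
  have hm1' : θ₁ + ((p + q) * (a : ℤ)) • χ₁ ∈ zspanOn S ({1}ᶜ : Set L) := zspanOn_mono _ hS₁ hm1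
  have hm2 : (p + q) • (χ - (a : ℤ) • χ₁) ∈ zspanOn S ({1}ᶜ : Set L) := zspanOn_zsmul _ hβ
  have hm3 : q • (χ - conjFun χ) ∈ zspanOn S ({1}ᶜ : Set L) := zspanOn_zsmul _ hχχc
  have hdec : θ = (θ₁ + ((p + q) * (a : ℤ)) • χ₁ + (p + q) • (χ - (a : ℤ) • χ₁)) -
      q • (χ - conjFun χ) := by
    rw [hθeq, hbeq, hp, hq]
    ext x
    simp only [Pi.add_apply, Pi.sub_apply, Pi.smul_apply]
    simp only [zsmul_eq_mul, Int.cast_mul, Int.cast_add, Int.cast_natCast]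
    ring
  have e1 : τ θ = τ₁ (θ₁ + ((p + q) * (a : ℤ)) • χ₁) + (p + q) • τ (χ - (a : ℤ) • χ₁) -
      q • τ (χ - conjFun χ) := by
    rw [hdec, iso_sub hτ (zspanOn_add hm1' hm2) hm3 (zspanOn_zsmul _ hm3), hτ.1 _ hm1' _ hm2,
      hτ.2.1 _ hβ, hτ.2.1 _ hχχc, hτ₁α _ hm1]
  have e2 : τ₁ (θ₁ + ((p + q) * (a : ℤ)) • χ₁) = τ₁ θ₁ + ((p + q) * (a : ℤ)) • τ₁ χ₁ := by
    rw [hτ₁.1 _ hθ₁ _ (zspan_zsmul _ (mS χ₁ hχ₁S)), hτ₁.2.1 _ (mS χ₁ hχ₁S)]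
  rw [e1, e2, hΔdef]
  ext x
  simp only [Pi.add_apply, Pi.sub_apply, Pi.smul_apply]
  simp only [zsmul_eq_mul, Int.cast_mul, Int.cast_add, Int.cast_natCast]
  ring

end Cfsg.Agent.Lib.Helper5_Coh4
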