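import Mathlib
import Cfsg.Prelude.Def_Balance
import Cfsg.Agent.Lib.Helper5_Sylow

namespace Cfsg.Agent.Lib.Helper5_Conn

open Subgroup

variable {G : Type*} [Group G]

/-- conjugate of a subgroup -/
abbrev cj (g : G) (B : Subgroup G) : Subgroup G := B.map (MulAut.conj g).toMonoidHom

theorem mem_cj (g : G) (B : Subgroup G) (x : G) : x ∈ cj g B ↔ g⁻¹ * x * g ∈ B := by
  unfold cj
  rw [Subgroup.mem_map_equiv]
  rfl

theorem cj_one (B : Subgroup G) : cj 1 B = B := by
  ext x; rw [mem_cj]; simp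

theorem cj_mul (g h : G) (B : Subgroup G) : cj (g * h) B = cj g (cj h B) := by
  ext x
  rw [mem_cj, mem_cj, mem_cj]
  have : (g * h)⁻¹ * x * (g * h) = h⁻¹ * (g⁻¹ * x * g) * h := by group
  rw [this]

theorem cj_inv_cj (g : G) (B : Subgroup G) : cj g⁻¹ (cj g B) = B := by
  rw [← cj_mul, inv_mul_cancel, cj_one]

theorem cj_cj_inv (g : G) (B : Subgroup G) : cj g (cj g⁻¹ B) = B := by
  rw [← cj_mul, mul_inv_cancel, cj_one]

theorem card_cj (g : G) (B : Subgroup G) : Nat.card (cj g B) = Nat.card B :=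
  Subgroup.card_map_of_injective (MulAut.conj g).injective

/-- vertex predicate -/
def Vx (p : ℕ) (A : Subgroup G) : Prop := Cfsg.IsElementaryAbelian p A ∧ p ^ 1 ≤ Nat.card A

/-- edge relation (as in `Cfsg.IsKConnected p 1`) -/
def rel (p : ℕ) (A B : Subgroup G) : Prop :=
  Cfsg.IsElementaryAbelian p A ∧ p ^ 1 ≤ Nat.card ↥A ∧ Cfsg.IsElementaryAbelian p B ∧
    p ^ 1 ≤ Nat.card ↥B ∧ ∀ a ∈ A, ∀ b ∈ B, a * b = b * a

theorem ea_cj (p : ℕ) (g : G) (A : Subgroup G) (hA : Cfsg.IsElementaryAbelian p A) :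
    Cfsg.IsElementaryAbelian p (cj g A) := by
  constructor
  · refine ⟨⟨?_⟩⟩
    rintro ⟨x, hx⟩ ⟨y, hy⟩
    apply Subtype.ext
    obtain ⟨a, ha, rfl⟩ := hx
    obtain ⟨b, hb, rfl⟩ := hy
    show (MulAut.conj g) a * (MulAut.conj g) b = (MulAut.conj g) b * (MulAut.conj g) a
    rw [← map_mul, ← map_mul]
    have := hA.1.is_comm.comm (⟨a, ha⟩ : A) ⟨b, hb⟩
    rw [show a * b = b * a from congrArg Subtype.val this]
  · rintro _ ⟨a, ha, rfl⟩
    show ((MulAut.conj g) a) ^ p = 1
    rw [← map_pow, hA.2 a ha, map_one]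

theorem vx_cj (p : ℕ) (g : G) (A : Subgroup G) (hA : Vx p A) : Vx p (cj g A) :=
  ⟨ea_cj p g A hA.1, by rw [card_cj]; exact hA.2⟩

theorem rel_cj (p : ℕ) (g : G) (A B : Subgroup G) (h : rel p A B) : rel p (cj g A) (cj g B) := by
  obtain ⟨h1, h2, h3, h4, h5⟩ := h
  refine ⟨ea_cj p g A h1, by rw [card_cj]; exact h2, ea_cj p g B h3, by rw [card_cj]; exact h4, ?_⟩
  rintro _ ⟨a, ha, rfl⟩ _ ⟨b, hb, rfl⟩
  show (MulAut.conj g) a * (MulAut.conj g) b = (MulAut.conj g) b * (MulAut.conj g) a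
  rw [← map_mul, ← map_mul, h5 a ha b hb]

theorem rel_symm (p : ℕ) (A B : Subgroup G) (h : rel p A B) : rel p B A := by
  obtain ⟨h1, h2, h3, h4, h5⟩ := h
  exact ⟨h3, h4, h1, h2, fun b hb a ha => (h5 a ha b hb).symm⟩

/-- connectedness -/
abbrev conn (p : ℕ) (A B : Subgroup G) : Prop := Relation.ReflTransGen (rel p) A B

theorem conn_symm (p : ℕ) {A B : Subgroup G} (h : conn p A B) : conn p B A := by
  induction h with
  | refl => exact Relation.ReflTransGen.refl
  | tail _ hbc ih => exact Relation.ReflTransGen.head (rel_symm p _ _ hbc) ih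

theorem conn_cj (p : ℕ) (g : G) {A B : Subgroup G} (h : conn p A B) :
    conn p (cj g A) (cj g B) := by
  induction h with
  | refl => exact Relation.ReflTransGen.refl
  | tail _ hbc ih => exact Relation.ReflTransGen.tail ih (rel_cj p g _ _ hbc)

theorem vx_isPGroup (p : ℕ) (A : Subgroup G) (hA : Vx p A) : IsPGroup p A := by
  intro a
  refine ⟨1, ?_⟩
  rw [pow_one]
  apply Subtype.ext
  exact hA.1.2 a a.2

theorem vx_dvd_card (p : ℕ) [hp : Fact p.Prime] (A : Subgroup G) (hA : Vx p A) :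
    p ∣ Nat.card A := by
  rcases (vx_isPGroup p A hA).card_eq_or_dvd with h | h
  · have := hA.2
    rw [h, pow_one] at this
    have := hp.out.two_le
    omega
  · exact h

theorem vx_zpowers (p : ℕ) [hp : Fact p.Prime] (x : G) (hx : orderOf x = p) :
    Vx p (zpowers x) := by
  refine ⟨⟨?_, ?_⟩, ?_⟩
  · refine ⟨⟨?_⟩⟩
    rintro ⟨a, ha⟩ ⟨b, hb⟩
    apply Subtype.ext
    obtain ⟨i, rfl⟩ := mem_zpowers_iff.mp ha
    obtain ⟨j, rfl⟩ := mem_zpowers_iff.mp hb
    show x ^ i * x ^ j = x ^ j * x ^ i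
    rw [← zpow_add, ← zpow_add, add_comm]
  · intro a ha
    obtain ⟨i, rfl⟩ := mem_zpowers_iff.mp ha
    rw [← zpow_natCast, ← zpow_mul, mul_comm, zpow_mul, zpow_natCast, ← hx, pow_orderOf_eq_one,
      one_zpow]
  · rw [Nat.card_zpowers, hx, pow_one]

section fin

variable [Finite G] (p : ℕ) [hp : Fact p.Prime]

/-- all vertices inside a Sylow subgroup are connected -/
theorem conn_of_le_sylow (P : Sylow p G) (A B : Subgroup G) (hA : Vx p A) (hB : Vx p B)
    (hAP : A ≤ P) (hBP : B ≤ P) : conn p A B := by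
  -- P nontrivial
  have hPnt : Nontrivial (P : Subgroup G) := by
    have h1 : p ∣ Nat.card A := vx_dvd_card p A hA
    have h2 : Nat.card A ∣ Nat.card (P : Subgroup G) := Subgroup.card_dvd_of_le hAP
    rw [← Finite.one_lt_card_iff_nontrivial]
    have := Nat.le_of_dvd Nat.card_pos (h1.trans h2)
    have := hp.out.two_le
    omega
  haveI := hPnt
  haveI hcnt : Nontrivial (Subgroup.center (P : Subgroup G)) := P.2.center_nontrivial
  have hcp : IsPGroup p (Subgroup.center (P : Subgroup G)) := P.2.to_subgroup _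
  have hdvd : p ∣ Nat.card (Subgroup.center (P : Subgroup G)) := by
    rcases hcp.card_eq_or_dvd with h | h
    · exfalso
      have := Finite.one_lt_card_iff_nontrivial.mpr hcnt
      omega
    · exact h
  obtain ⟨z, hz⟩ := exists_prime_orderOf_dvd_card' p hdvd
  have hzo : orderOf ((z : (P : Subgroup G)) : G) = p := by
    rw [Subgroup.orderOf_coe, Subgroup.orderOf_coe, hz]
  have hZ := vx_zpowers p ((z : (P : Subgroup G)) : G) hzo
  have hzc : ∀ x ∈ (P : Subgroup G), ∀ c ∈ zpowers ((z : (P : Subgroup G)) : G), x * c = c * x := by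
    intro x hx c hc
    obtain ⟨i, rfl⟩ := mem_zpowers_iff.mp hc
    have h1 : (⟨x, hx⟩ : (P : Subgroup G)) * (z : (P : Subgroup G))
        = (z : (P : Subgroup G)) * ⟨x, hx⟩ := (Subgroup.mem_center_iff.mp z.2 ⟨x, hx⟩)
    have h2 : x * ((z : (P : Subgroup G)) : G) = ((z : (P : Subgroup G)) : G) * x :=
      congrArg Subtype.val h1
    exact (Commute.zpow_right h2 i)
  have r1 : rel p A (zpowers ((z : (P : Subgroup G)) : G)) :=
    ⟨hA.1, hA.2, hZ.1, hZ.2, fun a ha c hc => hzc a (hAP ha) c hc⟩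
  have r2 : rel p (zpowers ((z : (P : Subgroup G)) : G)) B :=
    ⟨hZ.1, hZ.2, hB.1, hB.2, fun c hc b hb => (hzc b (hBP hb) c hc).symm⟩
  exact Relation.ReflTransGen.trans (Relation.ReflTransGen.single r1)
    (Relation.ReflTransGen.single r2)

/-- the stabilizer of the component of `E` -/
def stab (E : Subgroup G) : Subgroup G where
  carrier := {g | ∀ B, conn p E B ↔ conn p E (cj g B)}
  one_mem' := by intro B; rw [cj_one]
  mul_mem' := by
    intro g h hg hh B
    rw [cj_mul, ← hg, ← hh]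
  inv_mem' := by
    intro g hg B
    have := hg (cj g⁻¹ B)
    rw [cj_cj_inv] at this
    exact this.symm

theorem mem_stab_iff (E : Subgroup G) (g : G) : g ∈ stab p E ↔ conn p E (cj g E) := by
  constructor
  · intro hg
    exact (hg E).mp Relation.ReflTransGen.refl
  · intro h B
    constructor
    · intro hB
      exact h.trans (conn_cj p g hB)
    · intro hB
      have h1 := conn_cj p g⁻¹ hB
      rw [cj_inv_cj] at h1
      have h2 := conn_cj p g⁻¹ h
      rw [cj_inv_cj] at h2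
      exact (conn_symm p h2).trans h1

theorem mem_stab_of_mem (E : Subgroup G) (g : G) (hg : g ∈ stab p E) (B : Subgroup G) :
    conn p E B ↔ conn p E (cj g B) := hg B

theorem sylow_le_stab (E : Subgroup G) (hE : Vx p E) (P : Sylow p G) (hEP : E ≤ P) :
    (P : Subgroup G) ≤ stab p E := by
  intro x hx
  rw [mem_stab_iff]
  apply conn_of_le_sylow p P E (cj x E) hE (vx_cj p x E hE) hEP
  rintro _ ⟨e, he, rfl⟩
  exact (P : Subgroup G).mul_mem ((P : Subgroup G).mul_mem hx (hEP he)) ((P : Subgroup G).inv_mem hx)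

/-- every vertex inside the stabilizer lies in the component -/
theorem conn_of_le_stab (E : Subgroup G) (hE : Vx p E) (A : Subgroup G) (hA : Vx p A)
    (hAH : A ≤ stab p E) : conn p E A := by
  obtain ⟨P, hEP⟩ := (vx_isPGroup p E hE).exists_le_sylow
  have hPH := sylow_le_stab p E hE P hEP
  obtain ⟨h, hh⟩ := Cfsg.Agent.Lib.Helper5_Sylow.exists_conj_le_sylow
    ((vx_isPGroup p A hA).comap_subtype (K := stab p E)) (P.subtype hPH)
  have hcjP : cj (h : G) A ≤ P := by
    rintro _ ⟨a, ha, rfl⟩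
    have h1 : (⟨a, hAH ha⟩ : stab p E) ∈ A.subgroupOf (stab p E) := by
      rw [mem_subgroupOf]; exact ha
    have h2 := hh ⟨_, h1, rfl⟩
    rw [Sylow.coe_subtype, mem_subgroupOf] at h2
    exact h2
  have h3 := conn_of_le_sylow p P E (cj (h : G) A) hE (vx_cj p _ A hA) hEP hcjP
  exact (h.2 A).mpr h3

end fin

end Cfsg.Agent.Lib.Helper5_Conn
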