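import Mathlib

set_option autoImplicit false

/-! Conjugation action of `K ≤ N_G(C)` on `C`, and invariant Sylow subgroups under coprime
action. -/

namespace Cfsg.Agent.Lib.Helper6_ConjAct

open scoped Pointwise

/-- conjugation action of a subgroup `K ≤ N_G(C)` on `C` -/
@[reducible] def conjNormalizer {G : Type*} [Group G] (K C : Subgroup G)
    (h : K ≤ Subgroup.normalizer (C : Set G)) : MulDistribMulAction K C where
  smul k c := ⟨(k : G) * (c : G) * (k : G)⁻¹, (Subgroup.mem_normalizer_iff.mp (h k.2) c).mp c.2⟩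
  one_smul c := Subtype.ext (by
    show ((1 : K) : G) * (c : G) * ((1 : K) : G)⁻¹ = c
    simp)
  mul_smul k₁ k₂ c := Subtype.ext (by
    show ((k₁ * k₂ : K) : G) * (c : G) * ((k₁ * k₂ : K) : G)⁻¹ =
      (k₁ : G) * ((k₂ : G) * (c : G) * (k₂ : G)⁻¹) * (k₁ : G)⁻¹
    rw [Subgroup.coe_mul]; group)
  smul_mul k a b := Subtype.ext (by
    show (k : G) * ((a : G) * (b : G)) * (k : G)⁻¹ =
      ((k : G) * (a : G) * (k : G)⁻¹) * ((k : G) * (b : G) * (k : G)⁻¹)
    group)
  smul_one k := Subtype.ext (by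
    show (k : G) * ((1 : C) : G) * (k : G)⁻¹ = ((1 : C) : G)
    simp)

/-- If a `q`-group `K` normalizes a subgroup `C` of order prime to `q`, then `K` normalizes some
Sylow `p`-subgroup of `C`. -/
theorem exists_invariant_sylow {G : Type*} [Group G] [Finite G] (p q : ℕ) [Fact p.Prime]
    [Fact q.Prime] (K C : Subgroup G) (h : K ≤ Subgroup.normalizer (C : Set G))
    (hK : IsPGroup q K) (hC : ¬ q ∣ Nat.card C) :
    ∃ S : Sylow p C, K ≤ Subgroup.normalizer
      ((((S : Subgroup C).map C.subtype : Subgroup G)) : Set G) := by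
  let act : MulDistribMulAction K C := conjNormalizer K C h
  have hsmul : ∀ (k : K) (c : C), ((k • c : C) : G) = (k : G) * (c : G) * (k : G)⁻¹ :=
    fun k c => rfl
  have hcard : ¬ q ∣ Nat.card (Sylow p C) := by
    intro hd
    obtain ⟨S⟩ : Nonempty (Sylow p C) := inferInstance
    have h1 : Nat.card (Sylow p C) ∣ (S : Subgroup C).index := S.card_dvd_index
    have h2 : (S : Subgroup C).index ∣ Nat.card C := Subgroup.index_dvd_card _
    exact hC (hd.trans (h1.trans h2))
  obtain ⟨S, hS⟩ := hK.nonempty_fixed_point_of_prime_not_dvd_card (Sylow p C) hcard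
  refine ⟨S, ?_⟩
  intro k hk
  apply Subgroup.mem_normalizer_fintype
  rintro _ ⟨s, hs, rfl⟩
  have hfix : (⟨k, hk⟩ : K) • S = S := hS ⟨k, hk⟩
  have h1 : (⟨k, hk⟩ : K) • s ∈ (((⟨k, hk⟩ : K) • S : Sylow p C) : Subgroup C) := by
    rw [Sylow.pointwise_smul_def]
    exact Subgroup.smul_mem_pointwise_smul s _ _ hs
  rw [hfix] at h1
  refine ⟨(⟨k, hk⟩ : K) • s, h1, ?_⟩
  exact hsmul ⟨k, hk⟩ s

end Cfsg.Agent.Lib.Helper6_ConjAct
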