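import Mathlib

set_option autoImplicit false

/-! Fixed-point-free involutory automorphisms invert. -/

namespace Cfsg.Agent.Lib.Helper6_Fpf

/-- A fixed-point-free endomorphism of order two of a finite group inverts every element;
the group is then abelian of odd order. -/
theorem fpf_involution {Q : Type*} [Group Q] [Finite Q] (σ : Q →* Q) (h2 : ∀ q, σ (σ q) = q)
    (hfix : ∀ q, σ q = q → q = 1) :
    (∀ q, σ q = q⁻¹) ∧ (∀ a b : Q, a * b = b * a) ∧ Odd (Nat.card Q) := by
  let f : Q → Q := fun q => q⁻¹ * σ q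
  have hinj : Function.Injective f := by
    intro q r hqr
    have h1 : q⁻¹ * σ q = r⁻¹ * σ r := hqr
    have h3 : σ (r * q⁻¹) = r * q⁻¹ := by
      rw [map_mul, map_inv]
      have : σ r = r * (q⁻¹ * σ q) := by rw [h1]; group
      rw [this]; group
    have := hfix _ h3
    exact (mul_inv_eq_one.mp this).symm
  have hsurj : Function.Surjective f := Finite.surjective_of_injective hinj
  have hinv : ∀ q, σ q = q⁻¹ := by
    intro t
    obtain ⟨q, rfl⟩ := hsurj t
    show σ (q⁻¹ * σ q) = (q⁻¹ * σ q)⁻¹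
    rw [map_mul, map_inv, h2]; group
  have hcomm : ∀ a b : Q, a * b = b * a := by
    intro a b
    have h1 := hinv (a * b)
    rw [map_mul, hinv a, hinv b] at h1
    have : a * b = (a⁻¹ * b⁻¹)⁻¹ := by rw [h1, inv_inv]
    rw [this]; group
  refine ⟨hinv, hcomm, ?_⟩
  rw [← Nat.not_even_iff_odd, even_iff_two_dvd]
  intro hdvd
  have : Fact (Nat.Prime 2) := ⟨Nat.prime_two⟩
  obtain ⟨t, ht⟩ := exists_prime_orderOf_dvd_card' 2 hdvd
  have ht2 : t ^ 2 = 1 := by rw [← ht]; exact pow_orderOf_eq_one t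
  have ht' : t⁻¹ = t := by
    rw [inv_eq_iff_mul_eq_one, ← pow_two]; exact ht2
  have h1 : σ t = t := by rw [hinv t, ht']
  have := hfix t h1
  rw [this, orderOf_one] at ht
  omega

end Cfsg.Agent.Lib.Helper6_Fpf
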