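import Mathlib
import Cfsg.Prelude.Def_Solvable
import Cfsg.Agent.Lib.Helper7_FrobGroup

set_option autoImplicit false

/-!
# Structure of Frobenius groups, II: subgroups meeting the kernel trivially
-/

namespace Cfsg.Agent.Lib.Helper7_FrobGroup2

open Cfsg
open Cfsg.Agent.Lib.Helper7_FrobGroup
open scoped Pointwise

section Conj

variable {G : Type*} [Group G]

theorem conj_smul_smul (H : Subgroup G) (a b : G) :
    MulAut.conj a • (MulAut.conj b • H) = MulAut.conj (a * b) • H := by
  rw [map_mul, mul_smul]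

/-- A conjugate of a Frobenius complement is a Frobenius complement. -/
theorem conj_isFrobeniusComplement {H : Subgroup G} (hH : IsFrobeniusComplement H) (x : G) :
    IsFrobeniusComplement (MulAut.conj x • H) := by
  refine ⟨?_, ?_, ?_⟩
  · intro h
    apply hH.1
    rw [eq_bot_iff] at h ⊢
    intro y hy
    have : x * y * x⁻¹ ∈ MulAut.conj x • H := by
      rw [mem_conj_smul_iff]; simpa [mul_assoc] using hy
    have h2 := Subgroup.mem_bot.mp (h this)
    rw [Subgroup.mem_bot]
    have : y = x⁻¹ * (x * y * x⁻¹) * x := by group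
    rw [this, h2]; group
  · intro h
    apply hH.2.1
    rw [eq_top_iff] at h ⊢
    intro y _
    have := h (Subgroup.mem_top (x * y * x⁻¹))
    rw [mem_conj_smul_iff] at this
    simpa [mul_assoc] using this
  · intro g hg
    rw [eq_bot_iff]
    intro y hy
    obtain ⟨hy1, hy2⟩ := Subgroup.mem_inf.mp hy
    rw [conj_smul_smul, mem_conj_smul_iff] at hy2
    rw [mem_conj_smul_iff] at hy1 hg
    have hgx : x⁻¹ * g * x ∉ H := hg
    have h3 : (x⁻¹ * g * x)⁻¹ * (x⁻¹ * y * x) * (x⁻¹ * g * x) ∈ H := by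
      have : (x⁻¹ * g * x)⁻¹ * (x⁻¹ * y * x) * (x⁻¹ * g * x) = (g * x)⁻¹ * y * (g * x) := by group
      rw [this]; exact hy2
    have h4 := TI hH _ hgx _ hy1 h3
    rw [Subgroup.mem_bot]
    have : y = x * (x⁻¹ * y * x) * x⁻¹ := by group
    rw [this, h4]; group

/-- Two conjugates of a Frobenius complement with non-trivial intersection coincide. -/
theorem conj_eq_of_mem {H : Subgroup G} (hH : IsFrobeniusComplement H) {a b y : G}
    (hy1 : y ≠ 1) (hya : y ∈ MulAut.conj a • H) (hyb : y ∈ MulAut.conj b • H) :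
    MulAut.conj a • H = MulAut.conj b • H := by
  rw [mem_conj_smul_iff] at hya hyb
  have hab : a⁻¹ * b ∈ H := by
    by_contra hc
    have h3 : (a⁻¹ * b)⁻¹ * (a⁻¹ * y * a) * (a⁻¹ * b) ∈ H := by
      have : (a⁻¹ * b)⁻¹ * (a⁻¹ * y * a) * (a⁻¹ * b) = b⁻¹ * y * b := by group
      rw [this]; exact hyb
    have h4 := TI hH _ hc _ hya h3
    apply hy1
    have : y = a * (a⁻¹ * y * a) * a⁻¹ := by group
    rw [this, h4]; group
  have : MulAut.conj (a⁻¹ * b) • H = H := Subgroup.conj_smul_eq_self_of_mem hab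
  calc MulAut.conj a • H = MulAut.conj a • (MulAut.conj (a⁻¹ * b) • H) := by rw [this]
    _ = MulAut.conj b • H := by rw [conj_smul_smul]; congr 2; group

/-- Intersections with a Frobenius complement are Frobenius complements. -/
theorem inf_isFrobeniusComplement {H : Subgroup G} (hH : IsFrobeniusComplement H) (A : Subgroup G)
    (hne : A ⊓ H ≠ ⊥) (hnle : ¬ A ≤ H) : IsFrobeniusComplement (H.subgroupOf A) := by
  refine ⟨?_, ?_, ?_⟩
  · intro h
    apply hne
    rw [Subgroup.subgroupOf_eq_bot] at h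
    rw [inf_comm]
    exact disjoint_iff.mp h
  · intro h
    exact hnle (Subgroup.subgroupOf_eq_top.mp h)
  · intro g hg
    rw [eq_bot_iff]
    intro y hy
    obtain ⟨hy1, hy2⟩ := Subgroup.mem_inf.mp hy
    rw [mem_conj_smul_iff] at hy2
    rw [Subgroup.mem_subgroupOf] at hy1 hy2 hg
    rw [Subgroup.mem_bot]
    apply Subtype.ext
    have := TI hH (g : G) hg (y : G) hy1 (by simpa using hy2)
    simpa using this

end Conj

section Main

variable {G : Type*} [Group G] [Finite G]

/-- In a Frobenius group, a subgroup meeting the kernel trivially is conjugate to a subgroup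
of the complement. -/
theorem exists_conj_le_of_inf_kernel_eq_bot (H : Subgroup G) (hH : IsFrobeniusComplement H)
    (A : Subgroup G) (hA : A ⊓ kernel H hH = ⊥) : ∃ x : G, A ≤ MulAut.conj x • H := by
  classical
  by_contra hcon
  push Not at hcon
  -- every non-identity element of `A` lies in a conjugate of `H`
  have hcov : ∀ a ∈ A, a ≠ 1 → ∃ x : G, a ∈ MulAut.conj x • H := by
    intro a ha ha1
    have haK : a ∉ kernel H hH := by
      intro hc
      have : a ∈ A ⊓ kernel H hH := Subgroup.mem_inf.mpr ⟨ha, hc⟩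
      rw [hA] at this
      exact ha1 (Subgroup.mem_bot.mp this)
    obtain ⟨k, -, h, hh, -, rfl⟩ := exists_conj_of_not_mem_kernel H hH haK
    refine ⟨k, ?_⟩
    rw [mem_conj_smul_iff]
    have : k⁻¹ * (k * h * k⁻¹) * k = h := by group
    rw [this]; exact hh
  have hAne : A ≠ ⊥ := by
    intro h
    apply hcon 1
    rw [h]; exact bot_le
  obtain ⟨a, ha1⟩ := (Subgroup.ne_bot_iff_exists_ne_one).mp hAne
  obtain ⟨x, hx⟩ := hcov a a.2 (fun hc => ha1 (Subtype.ext hc))
  -- first complement in `A`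
  have hH1 := conj_isFrobeniusComplement hH x
  have hE1 : IsFrobeniusComplement ((MulAut.conj x • H).subgroupOf A) := by
    apply inf_isFrobeniusComplement hH1 A _ (hcon x)
    intro h
    have : (a : G) ∈ A ⊓ MulAut.conj x • H := Subgroup.mem_inf.mpr ⟨a.2, hx⟩
    rw [h] at this
    exact ha1 (Subtype.ext (Subgroup.mem_bot.mp this))
  set E1 := (MulAut.conj x • H).subgroupOf A with hE1def
  -- a non-identity element of its kernel
  have hK1 : kernel E1 hE1 ≠ ⊥ := by
    intro h
    have h1 := card_kernel E1 hE1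
    rw [h, Subgroup.card_bot] at h1
    exact hE1.2.1 (Subgroup.index_eq_one.mp h1.symm)
  obtain ⟨c, hc1⟩ := (Subgroup.ne_bot_iff_exists_ne_one).mp hK1
  obtain ⟨y, hy⟩ := hcov (c : A) (c : A).2 (fun h => hc1 (Subtype.ext (Subtype.ext h)))
  have hH2 := conj_isFrobeniusComplement hH y
  have hE2 : IsFrobeniusComplement ((MulAut.conj y • H).subgroupOf A) := by
    apply inf_isFrobeniusComplement hH2 A _ (hcon y)
    intro h
    have : ((c : A) : G) ∈ A ⊓ MulAut.conj y • H := Subgroup.mem_inf.mpr ⟨(c : A).2, hy⟩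
    rw [h] at this
    exact hc1 (Subtype.ext (Subtype.ext (Subgroup.mem_bot.mp this)))
  set E2 := (MulAut.conj y • H).subgroupOf A with hE2def
  have hcE2 : (c : A) ∈ E2 := Subgroup.mem_subgroupOf.mpr hy
  have hcne : (c : A) ≠ 1 := fun h => hc1 (Subtype.ext h)
  -- dichotomy
  have hle : kernel E2 hE2 ≤ kernel E1 hE1 := by
    rcases normal_le_or_ge E2 hE2 (kernel E1 hE1) with h | h
    · exfalso
      exact hcne (kernel_inf E2 hE2 (h c.2) hcE2)
    · exact h
  -- a non-identity element of `E1`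
  obtain ⟨e, he1⟩ := (Subgroup.ne_bot_iff_exists_ne_one).mp hE1.1
  have heK2 : (e : A) ∉ kernel E2 hE2 := by
    intro h
    exact he1 (Subtype.ext (kernel_inf E1 hE1 (hle h) e.2))
  obtain ⟨κ, hκ, h', hh', hne', heq⟩ := exists_conj_of_not_mem_kernel E2 hE2 heK2
  -- `e` lies in `x H x⁻¹` and in `κ y H y⁻¹ κ⁻¹`
  have he_x : ((e : A) : G) ∈ MulAut.conj x • H := Subgroup.mem_subgroupOf.mp e.2
  have he_y : ((e : A) : G) ∈ MulAut.conj ((κ : G) * y) • H := by
    rw [← conj_smul_smul, mem_conj_smul_iff]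
    rw [heq]
    have : (κ : G)⁻¹ * ((κ * h' * κ⁻¹ : A) : G) * (κ : G) = (h' : G) := by
      push_cast; group
    rw [this]
    exact Subgroup.mem_subgroupOf.mp hh'
  have he1' : ((e : A) : G) ≠ 1 := fun h => he1 (Subtype.ext (Subtype.ext h))
  have hconj := conj_eq_of_mem hH he1' he_x he_y
  -- then `κ c κ⁻¹` lies in `E1` and in its kernel
  have h1 : κ * (c : A) * κ⁻¹ ∈ E1 := by
    refine Subgroup.mem_subgroupOf.mpr ?_
    rw [hconj, ← conj_smul_smul, mem_conj_smul_iff]
    have : (κ : G)⁻¹ * ((κ * (c : A) * κ⁻¹ : A) : G) * (κ : G) = ((c : A) : G) := by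
      push_cast; group
    rw [this]; exact hy
  have h2 : κ * (c : A) * κ⁻¹ ∈ kernel E1 hE1 := (kernel_normal E1 hE1).conj_mem _ c.2 κ
  have h3 := kernel_inf E1 hE1 h2 h1
  apply hcne
  have : (c : A) = κ⁻¹ * (κ * (c : A) * κ⁻¹) * κ := by group
  rw [this, h3]; group

/-- Of two Frobenius complements, the smaller one is conjugate into the other. -/
theorem exists_conj_le_of_card_le (H H₀ : Subgroup G) (hH : IsFrobeniusComplement H)
    (hH₀ : IsFrobeniusComplement H₀) (hle : Nat.card H₀ ≤ Nat.card H) :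
    ∃ x : G, H₀ ≤ MulAut.conj x • H := by
  apply exists_conj_le_of_inf_kernel_eq_bot H hH
  have hcard : Nat.card (kernel H hH) ≤ Nat.card (kernel H₀ hH₀) := by
    have h1 := card_kernel_mul_card H hH
    have h2 := card_kernel_mul_card H₀ hH₀
    have h3 : 0 < Nat.card H₀ := Nat.card_pos
    by_contra hc
    push Not at hc
    have : Nat.card (kernel H₀ hH₀) * Nat.card H₀ < Nat.card (kernel H hH) * Nat.card H :=
      calc Nat.card (kernel H₀ hH₀) * Nat.card H₀ < Nat.card (kernel H hH) * Nat.card H₀ :=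
            Nat.mul_lt_mul_of_pos_right hc h3
        _ ≤ Nat.card (kernel H hH) * Nat.card H := Nat.mul_le_mul_left _ hle
    omega
  have hKle : kernel H hH ≤ kernel H₀ hH₀ := by
    rcases normal_le_or_ge H₀ hH₀ (kernel H hH) with h | h
    · exact h
    · exact (Subgroup.eq_of_le_of_card_ge h hcard).ge
  rw [eq_bot_iff]
  intro z hz
  obtain ⟨hz1, hz2⟩ := Subgroup.mem_inf.mp hz
  exact Subgroup.mem_bot.mpr (kernel_inf H₀ hH₀ (hKle hz2) hz1)

end Main

end Cfsg.Agent.Lib.Helper7_FrobGroup2
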