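import Mathlib
import Cfsg.Prelude.Def_Solvable
import Cfsg.Agent.Lib.Helper7_FrobGroup
import Cfsg.Agent.Lib.Helper7_FrobGroup2

set_option autoImplicit false

/-!
# Fixed-point-free actions of groups on groups
-/

namespace Cfsg.Agent.Lib.Helper7_Fpf

open Cfsg
open Cfsg.Agent.Lib.Helper7_FrobGroup Cfsg.Agent.Lib.Helper7_FrobGroup2
open scoped Pointwise

/-- Every non-identity element of `A` acts on `N` without non-trivial fixed points. -/
def Fpf (A N : Type*) [Group A] [Group N] [MulDistribMulAction A N] : Prop :=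
  ∀ a : A, a ≠ 1 → ∀ x : N, a • x = x → x = 1

section FixedPoint

/-- A finite group acting on a set such that every non-identity element fixes exactly one point
has a global fixed point. -/
theorem exists_global_fixed_point {A : Type*} [Group A] [Finite A] [Nontrivial A] {Ω : Type*}
    [MulAction A Ω] (h1 : ∀ a : A, a ≠ 1 → ∃! ω : Ω, a • ω = ω) : ∃ ω : Ω, ∀ a : A, a • ω = ω := by
  classical
  by_contra hcon
  push Not at hcon
  -- stabilizers are Frobenius complements
  have hstab : ∀ ω : Ω, MulAction.stabilizer A ω ≠ ⊥ →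
      IsFrobeniusComplement (MulAction.stabilizer A ω) := by
    intro ω hne
    refine ⟨hne, ?_, ?_⟩
    · intro htop
      obtain ⟨a, ha⟩ := hcon ω
      apply ha
      have : a ∈ MulAction.stabilizer A ω := by rw [htop]; exact Subgroup.mem_top a
      exact this
    · intro g hg
      rw [eq_bot_iff]
      intro z hz
      obtain ⟨hz1, hz2⟩ := Subgroup.mem_inf.mp hz
      rw [mem_conj_smul_iff] at hz2
      rw [Subgroup.mem_bot]
      by_contra hz0
      obtain ⟨ω', -, huniq⟩ := h1 z hz0
      have e1 : ω = ω' := huniq ω hz1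
      have e2 : g • ω = ω' := by
        apply huniq
        have : (g⁻¹ * z * g) • ω = ω := hz2
        rw [mul_smul, mul_smul] at this
        rw [inv_smul_eq_iff] at this
        exact this
      apply hg
      show g • ω = ω
      rw [e2, e1]
  have hmem : ∀ (x z : A) (ω : Ω), z ∈ MulAut.conj x • MulAction.stabilizer A ω ↔
      z • (x • ω) = x • ω := by
    intro x z ω
    rw [mem_conj_smul_iff, MulAction.mem_stabilizer_iff, mul_smul, mul_smul, inv_smul_eq_iff]
  obtain ⟨a₀, ha₀⟩ := exists_ne (1 : A)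
  obtain ⟨ω₀, hω₀, huniq₀⟩ := h1 a₀ ha₀
  have hS : IsFrobeniusComplement (MulAction.stabilizer A ω₀) := by
    apply hstab
    intro h
    have : a₀ ∈ MulAction.stabilizer A ω₀ := hω₀
    rw [h] at this
    exact ha₀ (Subgroup.mem_bot.mp this)
  set S := MulAction.stabilizer A ω₀ with hSdef
  have hK : kernel S hS ≠ ⊥ := by
    intro h
    have h1 := card_kernel S hS
    rw [h, Subgroup.card_bot] at h1
    exact hS.2.1 (Subgroup.index_eq_one.mp h1.symm)
  obtain ⟨c, hc1⟩ := (Subgroup.ne_bot_iff_exists_ne_one).mp hK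
  have hc1' : (c : A) ≠ 1 := fun h => hc1 (Subtype.ext h)
  have hcS : ∀ x : A, (c : A) ∉ MulAut.conj x • S := by
    have := (mem_kernel_iff S hS).mp c.2
    rcases this with h | h
    · exact absurd h hc1'
    · exact h
  obtain ⟨ω₁, hω₁, huniq₁⟩ := h1 (c : A) hc1'
  have hT : IsFrobeniusComplement (MulAction.stabilizer A ω₁) := by
    apply hstab
    intro h
    have : (c : A) ∈ MulAction.stabilizer A ω₁ := hω₁
    rw [h] at this
    exact hc1' (Subgroup.mem_bot.mp this)
  set T := MulAction.stabilizer A ω₁ with hTdef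
  rcases le_total (Nat.card T) (Nat.card S) with hle | hle
  · obtain ⟨x, hx⟩ := exists_conj_le_of_card_le S T hS hT hle
    exact hcS x (hx hω₁)
  · obtain ⟨x, hx⟩ := exists_conj_le_of_card_le T S hT hS hle
    have h2 : a₀ ∈ MulAut.conj x • T := hx hω₀
    rw [hmem] at h2
    have e1 : x • ω₁ = ω₀ := huniq₀ _ h2
    apply hcS x⁻¹
    rw [hmem, ← e1, inv_smul_smul]
    exact hω₁

end FixedPoint

section Sylow

variable {A N : Type*} [Group A] [Group N] [MulDistribMulAction A N]

theorem fpf_injective (hf : Fpf A N) {a : A} (ha : a ≠ 1) :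
    Function.Injective (fun x : N => x⁻¹ * a • x) := by
  intro x y hxy
  have hxy' : x⁻¹ * a • x = y⁻¹ * a • y := hxy
  have h1 : a • (x * y⁻¹) = x * y⁻¹ := by
    rw [smul_mul', smul_inv']
    have : a • x = x * (y⁻¹ * a • y) := by rw [← hxy']; group
    rw [this]; group
  have := hf a ha _ h1
  exact mul_inv_eq_one.mp this

theorem smul_conj_smul (a : A) (x : N) (P : Subgroup N) :
    a • (MulAut.conj x • P) = MulAut.conj (a • x) • (a • P) := by
  ext z
  rw [Subgroup.mem_pointwise_smul_iff_inv_smul_mem, mem_conj_smul_iff, mem_conj_smul_iff,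
    Subgroup.mem_pointwise_smul_iff_inv_smul_mem]
  have : a⁻¹ • ((a • x)⁻¹ * z * (a • x)) = x⁻¹ * a⁻¹ • z * x := by
    rw [smul_mul', smul_mul', smul_inv', inv_smul_smul]
  rw [this]

variable [Finite N]

theorem exists_fixed_sylow (hf : Fpf A N) (p : ℕ) [Fact p.Prime] {a : A} (ha : a ≠ 1) :
    ∃ P : Sylow p N, a • P = P := by
  obtain ⟨P⟩ : Nonempty (Sylow p N) := inferInstance
  obtain ⟨y, hy⟩ := MulAction.exists_smul_eq N P (a • P)
  have hsurj : Function.Surjective (fun x : N => x⁻¹ * a • x) :=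
    Finite.surjective_of_injective (fpf_injective hf ha)
  obtain ⟨x, hx⟩ := hsurj y⁻¹
  have hx' : x⁻¹ * a • x = y⁻¹ := hx
  refine ⟨x • P, ?_⟩
  apply Sylow.ext
  rw [Sylow.pointwise_smul_def, Sylow.coe_subgroup_smul, smul_conj_smul,
    ← Sylow.pointwise_smul_def, ← hy, Sylow.coe_subgroup_smul, conj_smul_smul]
  congr 2
  calc a • x * y = x * (x⁻¹ * a • x) * y := by group
    _ = x := by rw [hx']; group

theorem fixed_sylow_unique (hf : Fpf A N) (p : ℕ) [Fact p.Prime] {a : A} (ha : a ≠ 1)
    (P : Sylow p N) (hP : a • P = P) (x : N) (hx : a • (x • P) = x • P) : x • P = P := by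
  -- `x⁻¹ * a • x` normalizes `P`
  have h1 : (x⁻¹ * a • x) • P = P := by
    have e : ((a • (x • P) : Sylow p N) : Subgroup N) = ((a • x) • P : Sylow p N) := by
      rw [Sylow.pointwise_smul_def, Sylow.coe_subgroup_smul, smul_conj_smul,
        ← Sylow.pointwise_smul_def, hP, Sylow.coe_subgroup_smul]
    have e2 : (a • x) • P = x • P := by
      apply Sylow.ext
      rw [← e, hx]
    rw [mul_smul, e2, inv_smul_smul]
  rw [Sylow.smul_eq_iff_mem_normalizer] at h1
  -- the normalizer `M` is `a`-invariant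
  set M : Subgroup N := Subgroup.normalizer ((P : Subgroup N) : Set N) with hM
  have hMinv : ∀ m ∈ M, a • m ∈ M := by
    intro m hm
    have hm' : m • P = P := Sylow.smul_eq_iff_mem_normalizer.mpr hm
    apply Sylow.smul_eq_iff_mem_normalizer.mp
    apply Sylow.ext
    have e : ((a • (m • P) : Sylow p N) : Subgroup N) = ((a • m) • P : Sylow p N) := by
      rw [Sylow.pointwise_smul_def, Sylow.coe_subgroup_smul, smul_conj_smul,
        ← Sylow.pointwise_smul_def, hP, Sylow.coe_subgroup_smul]
    rw [← e, hm', hP]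
  let φ : M → M := fun m => ⟨(m : N)⁻¹ * a • (m : N), M.mul_mem (M.inv_mem m.2) (hMinv m m.2)⟩
  have hφ : Function.Injective φ := by
    intro m m' h
    have := congrArg (fun z : M => (z : N)) h
    exact Subtype.ext (fpf_injective hf ha this)
  obtain ⟨m, hm⟩ := Finite.surjective_of_injective hφ ⟨x⁻¹ * a • x, h1⟩
  have hm' : (m : N)⁻¹ * a • (m : N) = x⁻¹ * a • x := congrArg (fun z : M => (z : N)) hm
  have := fpf_injective hf ha hm'
  rw [← this]
  exact Sylow.smul_eq_iff_mem_normalizer.mpr m.2

variable [Finite A]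

/-- A fixed-point-free group of automorphisms normalizes a Sylow `p`-subgroup. -/
theorem exists_invariant_sylow [Nontrivial A] (hf : Fpf A N) (p : ℕ) [Fact p.Prime] :
    ∃ P : Sylow p N, ∀ a : A, a • P = P := by
  apply exists_global_fixed_point
  intro a ha
  obtain ⟨P, hP⟩ := exists_fixed_sylow hf p ha
  refine ⟨P, hP, ?_⟩
  intro Q hQ
  obtain ⟨x, rfl⟩ := MulAction.exists_smul_eq N P Q
  exact fixed_sylow_unique hf p ha P hP x hQ

/-- Coprimality for fixed-point-free actions. -/
theorem coprime_card (hf : Fpf A N) : (Nat.card N).Coprime (Nat.card A) := by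
  classical
  rw [Nat.coprime_comm]
  apply Nat.Coprime.symm
  rw [Nat.coprime_comm]
  apply Nat.coprime_of_dvd
  intro q hq hqA hqN
  haveI : Fact q.Prime := ⟨hq⟩
  obtain ⟨a, ha⟩ := exists_prime_orderOf_dvd_card' q hqA
  have ha1 : a ≠ 1 := by
    intro h; rw [h, orderOf_one] at ha; exact hq.one_lt.ne ha
  have hpg : IsPGroup q (Subgroup.zpowers a) := by
    apply IsPGroup.of_card (n := 1)
    rw [Nat.card_zpowers, ha, pow_one]
  have hmod := hpg.card_modEq_card_fixedPoints N
  have hfix : Nat.card (MulAction.fixedPoints (Subgroup.zpowers a) N) = 1 := by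
    rw [Nat.card_eq_one_iff_unique]
    refine ⟨⟨?_⟩, ⟨⟨1, fun g => smul_one _⟩⟩⟩
    intro x y
    apply Subtype.ext
    have hx := hf a ha1 x.1 (x.2 ⟨a, Subgroup.mem_zpowers a⟩)
    have hy := hf a ha1 y.1 (y.2 ⟨a, Subgroup.mem_zpowers a⟩)
    rw [hx, hy]
  rw [hfix] at hmod
  have h2 : Nat.card N % q = 0 := Nat.mod_eq_zero_of_dvd hqN
  have h3 := hmod
  unfold Nat.ModEq at h3
  rw [h2, Nat.mod_eq_of_lt hq.one_lt] at h3
  exact zero_ne_one h3

/-- A non-trivial group with a fixed-point-free group of automorphisms has a non-trivial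
invariant abelian subgroup. -/
theorem exists_invariant_abelian [Nontrivial A] [Nontrivial N] (hf : Fpf A N) :
    ∃ Z : Subgroup N, Z ≠ ⊥ ∧ IsMulCommutative Z ∧ ∀ (a : A), ∀ z ∈ Z, a • z ∈ Z := by
  classical
  have hcard : Nat.card N ≠ 1 := by
    intro h
    have := (Nat.card_eq_one_iff_unique.mp h).1
    exact not_subsingleton N this
  obtain ⟨p, hp, hpN⟩ := Nat.exists_prime_and_dvd hcard
  haveI : Fact p.Prime := ⟨hp⟩
  obtain ⟨P, hP⟩ := exists_invariant_sylow hf p
  have hPmem : ∀ (a : A) (z : N), z ∈ (P : Subgroup N) → a • z ∈ (P : Subgroup N) := by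
    intro a z hz
    have h1 : a • z ∈ a • (P : Subgroup N) := Subgroup.smul_mem_pointwise_smul z a _ hz
    have h2 : ((a • P : Sylow p N) : Subgroup N) = a • (P : Subgroup N) :=
      Sylow.pointwise_smul_def
    rw [← h2, hP a] at h1
    exact h1
  refine ⟨(P : Subgroup N) ⊓ Subgroup.centralizer ((P : Subgroup N) : Set N), ?_, ?_, ?_⟩
  · -- non-trivial
    haveI : Nontrivial (P : Subgroup N) := by
      have h1 : p ∣ Nat.card (P : Subgroup N) := P.dvd_card_of_dvd_card hpN
      have : 1 < Nat.card (P : Subgroup N) := lt_of_lt_of_le hp.one_lt (Nat.le_of_dvd Nat.card_pos h1)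
      exact (Finite.one_lt_card_iff_nontrivial).mp this
    haveI := P.isPGroup'.center_nontrivial
    obtain ⟨z, hz⟩ := exists_ne (1 : Subgroup.center (P : Subgroup N))
    intro hbot
    have hmem : ((z : (P : Subgroup N)) : N) ∈
        (P : Subgroup N) ⊓ Subgroup.centralizer ((P : Subgroup N) : Set N) := by
      refine Subgroup.mem_inf.mpr ⟨(z : (P : Subgroup N)).2, ?_⟩
      rw [Subgroup.mem_centralizer_iff]
      intro y hy
      have := Subgroup.mem_center_iff.mp z.2 ⟨y, hy⟩
      exact congrArg (fun w : (P : Subgroup N) => (w : N)) this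
    rw [hbot] at hmem
    exact hz (Subtype.ext (Subtype.ext (Subgroup.mem_bot.mp hmem)))
  · refine ⟨⟨fun x y => ?_⟩⟩
    apply Subtype.ext
    have hx := (Subgroup.mem_inf.mp x.2).1
    have hy := (Subgroup.mem_inf.mp y.2).2
    rw [Subgroup.mem_centralizer_iff] at hy
    show (x : N) * (y : N) = (y : N) * (x : N)
    exact hy _ hx
  · intro a z hz
    obtain ⟨hz1, hz2⟩ := Subgroup.mem_inf.mp hz
    refine Subgroup.mem_inf.mpr ⟨hPmem a z hz1, ?_⟩
    rw [Subgroup.mem_centralizer_iff] at hz2 ⊢
    intro y hy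
    have hy' : a⁻¹ • y ∈ (P : Subgroup N) := hPmem a⁻¹ y hy
    have := hz2 _ hy'
    have h2 := congrArg (fun w => a • w) this
    simp only [smul_mul', smul_inv_smul] at h2
    exact h2

end Sylow

section SubAction

variable {A N : Type*} [Group A] [Group N] [MulDistribMulAction A N]

/-- The restriction of an action by automorphisms to an invariant subgroup. -/
@[reducible] def subAction (Z : Subgroup N) (hZ : ∀ (a : A), ∀ z ∈ Z, a • z ∈ Z) :
    MulDistribMulAction A Z where
  smul a z := ⟨a • (z : N), hZ a z z.2⟩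
  one_smul z := Subtype.ext (one_smul A (z : N))
  mul_smul a b z := Subtype.ext (mul_smul a b (z : N))
  smul_mul a y z := Subtype.ext (smul_mul' a (y : N) (z : N))
  smul_one a := Subtype.ext (smul_one a)

end SubAction

section NoFrobenius

open scoped IsMulCommutative

/-- A Frobenius group cannot act fixed-point-freely on a non-trivial finite group. -/
theorem eq_one_of_fpf_of_frobenius {A N : Type*} [Group A] [Finite A] [Group N] [Finite N]
    [MulDistribMulAction A N] (E : Subgroup A) (hE : IsFrobeniusComplement E) (hf : Fpf A N)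
    (x : N) : x = 1 := by
  classical
  by_contra hx
  haveI : Nontrivial N := ⟨⟨x, 1, hx⟩⟩
  haveI : Nontrivial A := by
    obtain ⟨e, he⟩ := (Subgroup.ne_bot_iff_exists_ne_one).mp hE.1
    exact ⟨⟨(e : A), 1, fun h => he (Subtype.ext h)⟩⟩
  obtain ⟨Z, hZne, hZc, hZinv⟩ := exists_invariant_abelian hf
  haveI := hZc
  letI act : MulDistribMulAction A Z := subAction Z hZinv
  have hsmul : ∀ (a : A) (z : Z), ((a • z : Z) : N) = a • (z : N) := fun _ _ => rfl
  have key : ∀ w : Z, w = 1 := by
    apply eq_one_of_frobenius_action (W := Z) E hE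
    · have h1 := coprime_card hf
      have h2 : Nat.card Z ∣ Nat.card N := Subgroup.card_subgroup_dvd_card Z
      have h3 : Nat.card (kernel E hE) ∣ Nat.card A := Subgroup.card_subgroup_dvd_card _
      exact Nat.Coprime.coprime_dvd_left h2 (Nat.Coprime.coprime_dvd_right h3 h1)
    · intro w hw
      have hK : kernel E hE ≠ ⊥ := by
        intro h
        have h1 := card_kernel E hE
        rw [h, Subgroup.card_bot] at h1
        exact hE.2.1 (Subgroup.index_eq_one.mp h1.symm)
      obtain ⟨k, hk⟩ := (Subgroup.ne_bot_iff_exists_ne_one).mp hK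
      have h1 := congrArg (fun z : Z => (z : N)) (hw k k.2)
      simp only [hsmul] at h1
      exact Subtype.ext (hf (k : A) (fun h => hk (Subtype.ext h)) _ h1)
    · intro w hw
      obtain ⟨e, he⟩ := (Subgroup.ne_bot_iff_exists_ne_one).mp hE.1
      have h1 := congrArg (fun z : Z => (z : N)) (hw e e.2)
      simp only [hsmul] at h1
      exact Subtype.ext (hf (e : A) (fun h => he (Subtype.ext h)) _ h1)
  apply hZne
  rw [eq_bot_iff]
  intro z hz
  exact Subgroup.mem_bot.mpr (congrArg Subtype.val (key ⟨z, hz⟩))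

end NoFrobenius

end Cfsg.Agent.Lib.Helper7_Fpf
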