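import Mathlib

set_option autoImplicit false

/-!
# Finite abelian groups of odd order with anticommuting automorphisms have square order
-/

namespace Cfsg.Agent.Lib.Helper7_Square

/-- The elementary abelian case, by determinants. -/
theorem isSquare_card_of_exponent {M : Type*} [AddCommGroup M] [Finite M] (r : ℕ) [Fact r.Prime]
    (hr2 : r ≠ 2) (hexp : ∀ x : M, r • x = 0) (I J : M →+ M) (hI : Function.Injective I)
    (hJ : Function.Injective J) (hIJ : ∀ x, I (J x) = -(J (I x))) : IsSquare (Nat.card M) := by
  classical
  have hr := (Fact.out : r.Prime)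
  haveI : Module (ZMod r) M := AddCommGroup.zmodModule hexp
  haveI : Module.Finite (ZMod r) M := Module.Finite.of_finite
  let I' : M →ₗ[ZMod r] M := AddMonoidHom.toZModLinearMap r I
  let J' : M →ₗ[ZMod r] M := AddMonoidHom.toZModLinearMap r J
  have hcomp : I'.comp J' = (-1 : ZMod r) • (J'.comp I') := by
    ext x
    simp only [LinearMap.comp_apply, LinearMap.smul_apply, neg_smul, one_smul]
    exact hIJ x
  have hdet := congrArg LinearMap.det hcomp
  rw [LinearMap.det_comp, LinearMap.det_smul, LinearMap.det_comp] at hdet
  have hI' : LinearMap.det I' ≠ 0 := by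
    intro h
    have := LinearMap.bot_lt_ker_of_det_eq_zero h
    have hk : LinearMap.ker I' = ⊥ := LinearMap.ker_eq_bot.mpr hI
    rw [hk] at this
    exact lt_irrefl _ this
  have hJ' : LinearMap.det J' ≠ 0 := by
    intro h
    have := LinearMap.bot_lt_ker_of_det_eq_zero h
    have hk : LinearMap.ker J' = ⊥ := LinearMap.ker_eq_bot.mpr hJ
    rw [hk] at this
    exact lt_irrefl _ this
  have h1 : (-1 : ZMod r) ^ Module.finrank (ZMod r) M = 1 := by
    have h2 : LinearMap.det I' * LinearMap.det J' * 1
        = LinearMap.det I' * LinearMap.det J' * (-1 : ZMod r) ^ Module.finrank (ZMod r) M := by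
      rw [mul_one]
      calc LinearMap.det I' * LinearMap.det J'
          = (-1 : ZMod r) ^ Module.finrank (ZMod r) M * (LinearMap.det J' * LinearMap.det I') := hdet
        _ = LinearMap.det I' * LinearMap.det J' * (-1 : ZMod r) ^ Module.finrank (ZMod r) M := by ring
    exact (mul_left_cancel₀ (mul_ne_zero hI' hJ') h2).symm
  have hne : (-1 : ZMod r) ≠ 1 := by
    intro h
    have h2 : (2 : ZMod r) = 0 := by
      have : (1 : ZMod r) + 1 = 0 := by
        nth_rewrite 1 [← h]; ring
      rw [← this]; norm_num
    have h3 : ((2 : ℕ) : ZMod r) = 0 := by exact_mod_cast h2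
    rw [ZMod.natCast_eq_zero_iff] at h3
    have := (Nat.prime_dvd_prime_iff_eq hr Nat.prime_two).mp h3
    exact hr2 this
  have heven : Even (Module.finrank (ZMod r) M) := (neg_one_pow_eq_one_iff_even hne).mp h1
  have hcard : Nat.card M = r ^ Module.finrank (ZMod r) M := by
    rw [Module.natCard_eq_pow_finrank (K := ZMod r) (V := M), Nat.card_zmod]
  rw [hcard]
  exact heven.isSquare_pow r

/-- A finite abelian group of odd order with two injective endomorphisms that anticommute has
square order. -/
theorem isSquare_card_aux : ∀ (n : ℕ) (V : Type*) [AddCommGroup V] [Finite V],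
    Nat.card V = n → Odd n → ∀ (I J : V →+ V), Function.Injective I → Function.Injective J →
    (∀ x, I (J x) = -(J (I x))) → IsSquare n := by
  intro n
  induction n using Nat.strong_induction_on with
  | _ n ih =>
    intro V _ _ hcard hodd I J hI hJ hIJ
    by_cases h1 : n = 1
    · rw [h1]; exact ⟨1, rfl⟩
    obtain ⟨r, hr, hrn⟩ := Nat.exists_prime_and_dvd h1
    haveI : Fact r.Prime := ⟨hr⟩
    have hr2 : r ≠ 2 := by
      rintro rfl
      exact (Nat.not_even_iff_odd.mpr hodd) (even_iff_two_dvd.mpr hrn)
    let φ : V →+ V := nsmulAddMonoidHom r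
    have hφ : ∀ x, φ x = r • x := fun _ => rfl
    have hmul : Nat.card φ.ker * Nat.card φ.range = n := by
      rw [← hcard, ← AddSubgroup.index_ker, mul_comm]
      exact AddSubgroup.index_mul_card _
    -- kernel: elementary abelian
    have hkerI : ∀ x ∈ φ.ker, I x ∈ φ.ker := by
      intro x hx
      rw [AddMonoidHom.mem_ker, hφ] at hx ⊢
      rw [← map_nsmul, hx, map_zero]
    have hkerJ : ∀ x ∈ φ.ker, J x ∈ φ.ker := by
      intro x hx
      rw [AddMonoidHom.mem_ker, hφ] at hx ⊢
      rw [← map_nsmul, hx, map_zero]
    have hranI : ∀ x ∈ φ.range, I x ∈ φ.range := by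
      rintro _ ⟨y, rfl⟩
      exact ⟨I y, by rw [hφ, hφ, map_nsmul]⟩
    have hranJ : ∀ x ∈ φ.range, J x ∈ φ.range := by
      rintro _ ⟨y, rfl⟩
      exact ⟨J y, by rw [hφ, hφ, map_nsmul]⟩
    have hsq1 : IsSquare (Nat.card φ.ker) := by
      apply isSquare_card_of_exponent r hr2 _
        ((I.comp φ.ker.subtype).codRestrict φ.ker (fun x => hkerI x x.2))
        ((J.comp φ.ker.subtype).codRestrict φ.ker (fun x => hkerJ x x.2))
      · intro x y hxy
        have := congrArg (fun z : φ.ker => (z : V)) hxy
        exact Subtype.ext (hI this)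
      · intro x y hxy
        have := congrArg (fun z : φ.ker => (z : V)) hxy
        exact Subtype.ext (hJ this)
      · intro x
        apply Subtype.ext
        exact hIJ x
      · intro x
        apply Subtype.ext
        have := x.2
        rw [AddMonoidHom.mem_ker, hφ] at this
        simpa using this
    -- the kernel is non-trivial
    have hker_ne : 1 < Nat.card φ.ker := by
      obtain ⟨x, hx⟩ := exists_prime_addOrderOf_dvd_card' r (hcard ▸ hrn)
      have hx0 : x ≠ 0 := by
        intro h; rw [h, addOrderOf_zero] at hx; exact hr.one_lt.ne hx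
      have hxk : x ∈ φ.ker := by
        rw [AddMonoidHom.mem_ker, hφ, ← hx]; exact addOrderOf_nsmul_eq_zero x
      rw [Finite.one_lt_card_iff_nontrivial]
      exact ⟨⟨⟨x, hxk⟩, 0, fun h => hx0 (congrArg Subtype.val h)⟩⟩
    have hlt : Nat.card φ.range < n := by
      have hpos : 0 < Nat.card φ.range := Nat.card_pos
      calc Nat.card φ.range = 1 * Nat.card φ.range := (one_mul _).symm
        _ < Nat.card φ.ker * Nat.card φ.range := Nat.mul_lt_mul_of_pos_right hker_ne hpos
        _ = n := hmul
    have hodd2 : Odd (Nat.card φ.range) := by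
      have : Nat.card φ.range ∣ n := ⟨Nat.card φ.ker, by rw [← hmul, mul_comm]⟩
      exact Odd.of_dvd_nat hodd this
    have hsq2 : IsSquare (Nat.card φ.range) := by
      apply ih (Nat.card φ.range) hlt φ.range rfl hodd2
        ((I.comp φ.range.subtype).codRestrict φ.range (fun x => hranI x x.2))
        ((J.comp φ.range.subtype).codRestrict φ.range (fun x => hranJ x x.2))
      · intro x y hxy
        have := congrArg (fun z : φ.range => (z : V)) hxy
        exact Subtype.ext (hI this)
      · intro x y hxy
        have := congrArg (fun z : φ.range => (z : V)) hxy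
        exact Subtype.ext (hJ this)
      · intro x
        apply Subtype.ext
        exact hIJ x
    rw [← hmul]
    exact hsq1.mul hsq2

/-- Multiplicative version. -/
theorem isSquare_card_of_anticomm {N : Type*} [Group N] [Finite N]
    (hcomm : ∀ a b : N, a * b = b * a) (hodd : Odd (Nat.card N)) (I J : N →* N)
    (hI : Function.Injective I) (hJ : Function.Injective J)
    (hIJ : ∀ x, I (J x) = (J (I x))⁻¹) : IsSquare (Nat.card N) := by
  letI : CommGroup N := { (inferInstance : Group N) with mul_comm := hcomm }
  haveI : Finite (Additive N) := inferInstanceAs (Finite N)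
  exact isSquare_card_aux (Nat.card N) (Additive N) rfl hodd
    (MonoidHom.toAdditive I) (MonoidHom.toAdditive J) hI hJ hIJ

end Cfsg.Agent.Lib.Helper7_Square
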