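import Mathlib
import Cfsg.Prelude.Def_Solvable
import Cfsg.Agent.Lib.Helper7_Fpf
import Cfsg.Agent.Lib.Helper7_PGroupRank
import Cfsg.Agent.Lib.Helper7_Square
import Cfsg.Agent.Lib.Helper6_Fpf

set_option autoImplicit false

/-!
# Fixed-point-free actions, II: subgroups of order `p²`, Sylow subgroups, square orders
-/

namespace Cfsg.Agent.Lib.Helper7_Fpf2

open Cfsg
open Cfsg.Agent.Lib.Helper7_Fpf
open scoped IsMulCommutative

section Norm

variable {A W : Type*} [Group A] [CommGroup W] [MulDistribMulAction A W]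

/-- the "norm" of `v` under the cyclic group generated by an element of order dividing `p` -/
theorem norm_fixed (g : A) (p : ℕ) (hg : g ^ p = 1) (v : W) :
    g • (∏ i ∈ Finset.range p, g ^ i • v) = ∏ i ∈ Finset.range p, g ^ i • v := by
  rw [Finset.smul_prod']
  have h1 : ∏ i ∈ Finset.range p, g • g ^ i • v = ∏ i ∈ Finset.range p, g ^ (i + 1) • v := by
    refine Finset.prod_congr rfl fun i _ => ?_
    rw [smul_smul, pow_succ']
  rw [h1]
  have h2 := Finset.prod_range_succ' (fun i => g ^ i • v) p
  have h3 := Finset.prod_range_succ (fun i => g ^ i • v) p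
  rw [h3] at h2
  simp only [hg, pow_zero] at h2
  exact (mul_right_cancel h2).symm

end Norm

section Rank

variable {A N : Type*} [Group A] [Finite A] [Group N] [Finite N] [MulDistribMulAction A N]

/-- A group acting fixed-point-freely on a non-trivial group contains no `C_p × C_p`. -/
theorem no_rank_two [Nontrivial N] (hf : Fpf A N) (p : ℕ) [Fact p.Prime] (x u : A)
    (hxu : x * u = u * x) (hx : x ^ p = 1) (hu : u ^ p = 1) (hx1 : x ≠ 1) :
    u ∈ Subgroup.zpowers x := by
  classical
  have hp := (Fact.out : p.Prime)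
  by_contra hnot
  haveI : Nontrivial A := ⟨⟨x, 1, hx1⟩⟩
  obtain ⟨Z, hZne, hZc, hZinv⟩ := exists_invariant_abelian hf
  haveI := hZc
  letI act : MulDistribMulAction A Z := subAction Z hZinv
  have hsmul : ∀ (a : A) (z : Z), ((a • z : Z) : N) = a • (z : N) := fun _ _ => rfl
  have hfZ : ∀ a : A, a ≠ 1 → ∀ z : Z, a • z = z → z = 1 := by
    intro a ha z hz
    have := congrArg (fun w : Z => (w : N)) hz
    exact Subtype.ext (hf a ha _ this)
  have hnorm : ∀ g : A, g ≠ 1 → g ^ p = 1 → ∀ v : Z, ∏ i ∈ Finset.range p, g ^ i • v = 1 :=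
    fun g hg1 hgp v => hfZ g hg1 _ (norm_fixed g p hgp v)
  -- `x * u ^ j` is a non-identity element of order `p`
  have hcomm : ∀ j : ℕ, Commute x (u ^ j) := fun j => Commute.pow_right hxu j
  have hxuj1 : ∀ j : ℕ, x * u ^ j ≠ 1 := by
    intro j h
    have hxj : x = (u ^ j)⁻¹ := eq_inv_of_mul_eq_one_left h
    -- then `x ∈ zpowers u`, and as `x` has order `p`, `u ∈ zpowers x`
    have hordx : orderOf x = p := by
      have := orderOf_dvd_of_pow_eq_one hx
      rcases (Nat.dvd_prime hp).mp this with h1 | h1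
      · exact absurd (orderOf_eq_one_iff.mp h1) hx1
      · exact h1
    have hu1 : u ≠ 1 := by
      intro h; apply hnot; rw [h]; exact Subgroup.one_mem _
    have hordu : orderOf u = p := by
      have := orderOf_dvd_of_pow_eq_one hu
      rcases (Nat.dvd_prime hp).mp this with h1 | h1
      · exact absurd (orderOf_eq_one_iff.mp h1) hu1
      · exact h1
    have hle : Subgroup.zpowers x ≤ Subgroup.zpowers u := by
      rw [Subgroup.zpowers_le, hxj]
      exact Subgroup.inv_mem _ (Subgroup.pow_mem _ (Subgroup.mem_zpowers u) j)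
    have hcard : Nat.card (Subgroup.zpowers u) ≤ Nat.card (Subgroup.zpowers x) := by
      rw [Nat.card_zpowers, Nat.card_zpowers, hordx, hordu]
    have := Subgroup.eq_of_le_of_card_ge hle hcard
    apply hnot
    rw [this]; exact Subgroup.mem_zpowers u
  have hxujp : ∀ j : ℕ, (x * u ^ j) ^ p = 1 := by
    intro j
    rw [(hcomm j).mul_pow, hx, ← pow_mul, mul_comm, pow_mul, hu, one_pow, one_mul]
  have hu1 : u ≠ 1 := by
    intro h; apply hnot; rw [h]; exact Subgroup.one_mem _
  have hordu : orderOf u = p := by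
    have := orderOf_dvd_of_pow_eq_one hu
    rcases (Nat.dvd_prime hp).mp this with h1 | h1
    · exact absurd (orderOf_eq_one_iff.mp h1) hu1
    · exact h1
  -- the key computation
  have key : ∀ w : Z, w ^ p = 1 := by
    intro w
    have h1 : ∏ j ∈ Finset.range p, ∏ i ∈ Finset.range p, (x * u ^ j) ^ i • w = 1 := by
      apply Finset.prod_eq_one
      intro j _
      exact hnorm _ (hxuj1 j) (hxujp j) w
    rw [Finset.prod_comm] at h1
    have h2 : ∀ i ∈ Finset.range p, ∏ j ∈ Finset.range p, (x * u ^ j) ^ i • w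
        = if i = 0 then w ^ p else 1 := by
      intro i hi
      split_ifs with h0
      · subst h0
        simp
      · have h3 : ∀ j ∈ Finset.range p, (x * u ^ j) ^ i • w = (u ^ i) ^ j • (x ^ i • w) := by
          intro j _
          rw [(hcomm j).mul_pow, smul_smul, ← pow_mul, ← pow_mul, mul_comm j i]
          congr 1
          exact ((Commute.pow_pow hxu i (i * j)).eq)
        rw [Finset.prod_congr rfl h3]
        apply hnorm
        · intro h
          have := orderOf_dvd_of_pow_eq_one h
          rw [hordu] at this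
          have hlt : i < p := Finset.mem_range.mp hi
          exact absurd (Nat.le_of_dvd (Nat.pos_of_ne_zero h0) this) (not_le.mpr hlt)
        · rw [← pow_mul, mul_comm, pow_mul, hu, one_pow]
    rw [Finset.prod_congr rfl h2, Finset.prod_ite_eq' (Finset.range p) 0 (fun _ => w ^ p)] at h1
    rw [if_pos (Finset.mem_range.mpr hp.pos)] at h1
    exact h1
  -- coprimality
  have hcop : (Nat.card Z).Coprime p := by
    have h1 := coprime_card hf
    have h2 : Nat.card Z ∣ Nat.card N := Subgroup.card_subgroup_dvd_card Z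
    have h3 : p ∣ Nat.card A := by
      have hordx : orderOf x = p := by
        have := orderOf_dvd_of_pow_eq_one hx
        rcases (Nat.dvd_prime hp).mp this with h1 | h1
        · exact absurd (orderOf_eq_one_iff.mp h1) hx1
        · exact h1
      rw [← hordx]; exact orderOf_dvd_natCard x
    exact Nat.Coprime.coprime_dvd_left h2 (Nat.Coprime.coprime_dvd_right h3 h1)
  apply hZne
  rw [eq_bot_iff]
  intro z hz
  have h1 : orderOf (⟨z, hz⟩ : Z) ∣ p := orderOf_dvd_of_pow_eq_one (key ⟨z, hz⟩)
  have h2 : orderOf (⟨z, hz⟩ : Z) ∣ Nat.card Z := orderOf_dvd_natCard _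
  have h3 : orderOf (⟨z, hz⟩ : Z) ∣ 1 := by
    have := Nat.dvd_gcd h2 h1
    rwa [hcop] at this
  have h4 := orderOf_eq_one_iff.mp (Nat.dvd_one.mp h3)
  exact Subgroup.mem_bot.mpr (congrArg Subtype.val h4)

/-- Structure of `p`-subgroups of groups acting fixed-point-freely. -/
theorem pgroup_cyclic_or [Nontrivial N] (hf : Fpf A N) (p : ℕ) [Fact p.Prime] (P : Subgroup A)
    (hP : IsPGroup p P) :
    IsCyclic P ∨ (p = 2 ∧ ∃ a b : A, a * b * a⁻¹ * b⁻¹ ≠ 1 ∧ (a * b * a⁻¹ * b⁻¹) ^ 2 = 1) := by
  have hR : ∀ x u : P, x * u = u * x → x ^ p = 1 → u ^ p = 1 → x ≠ 1 →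
      u ∈ Subgroup.zpowers x := by
    intro x u h1 h2 h3 h4
    have := no_rank_two hf p (x : A) (u : A) (congrArg (fun z : P => (z : A)) h1)
      (congrArg (fun z : P => (z : A)) h2) (congrArg (fun z : P => (z : A)) h3)
      (fun h => h4 (Subtype.ext h))
    obtain ⟨k, hk⟩ := Subgroup.mem_zpowers_iff.mp this
    rw [Subgroup.mem_zpowers_iff]
    exact ⟨k, Subtype.ext hk⟩
  rcases Cfsg.Agent.Lib.Helper7_PGroupRank.cyclic_or_quaternion_like hP hR with h | ⟨h2, a, b, h3, h4⟩
  · exact Or.inl h
  · right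
    refine ⟨h2, a, b, ?_, ?_⟩
    · intro h; apply h3; exact Subtype.ext h
    · exact congrArg (fun z : P => (z : A)) h4

/-- If some `p`-subgroup of a group acting fixed-point-freely on `N` is not cyclic, then `N` is
abelian of odd square order. -/
theorem odd_square_of_not_cyclic [Nontrivial N] (hf : Fpf A N) (p : ℕ) [Fact p.Prime]
    (P : Subgroup A) (hP : IsPGroup p P) (hnc : ¬ IsCyclic P) :
    Odd (Nat.card N) ∧ IsSquare (Nat.card N) := by
  rcases pgroup_cyclic_or hf p P hP with h | ⟨-, a, b, hc1, hc2⟩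
  · exact absurd h hnc
  generalize hc : a * b * a⁻¹ * b⁻¹ = c at hc1 hc2
  have hcc : c * c = 1 := by rw [← pow_two]; exact hc2
  obtain ⟨hinv, hcomm, hodd⟩ := Cfsg.Agent.Lib.Helper6_Fpf.fpf_involution
    (MulDistribMulAction.toMonoidHom N c)
    (fun q => by
      show c • c • q = q
      rw [smul_smul, hcc, one_smul])
    (fun q hq => hf c hc1 q hq)
  refine ⟨hodd, ?_⟩
  apply Cfsg.Agent.Lib.Helper7_Square.isSquare_card_of_anticomm hcomm hodd
    (MulDistribMulAction.toMonoidHom N a) (MulDistribMulAction.toMonoidHom N b)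
  · intro x y hxy
    have : a • x = a • y := hxy
    exact smul_left_cancel a this
  · intro x y hxy
    have : b • x = b • y := hxy
    exact smul_left_cancel b this
  · intro x
    show a • b • x = (b • a • x)⁻¹
    have h1 : a * b = c * (b * a) := by rw [← hc]; group
    have h2 : a • b • x = c • (b • a • x) := by
      rw [smul_smul, smul_smul, smul_smul, h1, mul_assoc]
    rw [h2]
    exact hinv _

end Rank

end Cfsg.Agent.Lib.Helper7_Fpf2
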