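import Mathlib
import Cfsg.Agent.Lib.Lead_Coprime
import Cfsg.Agent.Lib.Helper7_PFrattini
import Cfsg.Agent.Lib.Helper7_PGroupRank
import Cfsg.Agent.Lib.Helper7_Fpf2
import Cfsg.Agent.Lib.Helper6_ConjAct

set_option autoImplicit false

/-!
# Generation by centralizers under coprime action of a noncyclic abelian group
-/

namespace Cfsg.Agent.Lib.Helper5_CoprimeGen

open Subgroup

section AbAct
variable {N P : Type*} [Group N] [Group P] [MulDistribMulAction N P]

/-- induced action on the abelianization -/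
@[reducible] def abAct : MulDistribMulAction N (Abelianization P) where
  smul g v := Abelianization.map (MulDistribMulAction.toMonoidHom P g) v
  one_smul v := by
    obtain ⟨y, rfl⟩ := QuotientGroup.mk_surjective v
    show Abelianization.map (MulDistribMulAction.toMonoidHom P (1 : N)) (Abelianization.of y) =
      Abelianization.of y
    rw [Abelianization.map_of]
    simp
  mul_smul g h v := by
    obtain ⟨y, rfl⟩ := QuotientGroup.mk_surjective v
    show Abelianization.map (MulDistribMulAction.toMonoidHom P (g * h)) (Abelianization.of y) =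
      Abelianization.map (MulDistribMulAction.toMonoidHom P g)
        (Abelianization.map (MulDistribMulAction.toMonoidHom P h) (Abelianization.of y))
    rw [Abelianization.map_of, Abelianization.map_of, Abelianization.map_of]
    simp [mul_smul]
  smul_mul g v w := map_mul _ _ _
  smul_one g := map_one _

end AbAct

section AbGen
variable {E W : Type*} [Group E] [CommGroup W] [MulDistribMulAction E W]

open Cfsg.Agent.Lib.Helper7_Fpf2 in
/-- abstract generation: a subgroup `M` of an abelian group `W` containing the fixed points of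
`x * u ^ j` and of `u ^ i` (`0 < i < q`) is everything (coprime action of `⟨x, u⟩ ≅ C_q × C_q`). -/
theorem abgen (q : ℕ) [Fact q.Prime] (x u : E) (hxu : x * u = u * x) (hx : x ^ q = 1)
    (hu : u ^ q = 1) (hcop : (Nat.card W).Coprime q) (M : Subgroup W)
    (hM1 : ∀ j : ℕ, ∀ v : W, (x * u ^ j) • v = v → v ∈ M)
    (hM2 : ∀ i : ℕ, 0 < i → i < q → ∀ v : W, (u ^ i) • v = v → v ∈ M) :
    M = ⊤ := by
  classical
  have hq := (Fact.out : q.Prime)
  have hcomm : ∀ j : ℕ, Commute x (u ^ j) := fun j => Commute.pow_right hxu j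
  have hxujp : ∀ j : ℕ, (x * u ^ j) ^ q = 1 := by
    intro j
    rw [(hcomm j).mul_pow, hx, ← pow_mul, mul_comm, pow_mul, hu, one_pow, one_mul]
  have key : ∀ w : W, w ^ q ∈ M := by
    intro w
    have h1 : ∏ j ∈ Finset.range q, ∏ i ∈ Finset.range q, (x * u ^ j) ^ i • w ∈ M := by
      apply Subgroup.prod_mem
      intro j _
      exact hM1 j _ (norm_fixed _ q (hxujp j) w)
    rw [Finset.prod_comm] at h1
    have h0 : (0 : ℕ) ∈ Finset.range q := Finset.mem_range.mpr hq.pos
    rw [← Finset.mul_prod_erase _ _ h0] at h1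
    have h2 : ∏ j ∈ Finset.range q, (x * u ^ j) ^ 0 • w = w ^ q := by simp
    rw [h2] at h1
    have h3 : ∏ i ∈ (Finset.range q).erase 0, ∏ j ∈ Finset.range q, (x * u ^ j) ^ i • w ∈ M := by
      apply Subgroup.prod_mem
      intro i hi
      have hi0 : i ≠ 0 := Finset.ne_of_mem_erase hi
      have hiq : i < q := Finset.mem_range.mp (Finset.mem_of_mem_erase hi)
      have h4 : ∀ j ∈ Finset.range q, (x * u ^ j) ^ i • w = (u ^ i) ^ j • (x ^ i • w) := by
        intro j _
        rw [(hcomm j).mul_pow, smul_smul, ← pow_mul, ← pow_mul, mul_comm j i]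
        congr 1
        exact ((Commute.pow_pow hxu i (i * j)).eq)
      rw [Finset.prod_congr rfl h4]
      apply hM2 i (Nat.pos_of_ne_zero hi0) hiq
      apply norm_fixed
      rw [← pow_mul, mul_comm, pow_mul, hu, one_pow]
    have : w ^ q = (w ^ q * ∏ i ∈ (Finset.range q).erase 0, ∏ j ∈ Finset.range q, (x * u ^ j) ^ i • w) *
        (∏ i ∈ (Finset.range q).erase 0, ∏ j ∈ Finset.range q, (x * u ^ j) ^ i • w)⁻¹ := by
      rw [mul_inv_cancel_right]
    rw [this]
    exact M.mul_mem h1 (M.inv_mem h3)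
  rw [eq_top_iff]
  intro w _
  have hc : (orderOf w).Coprime q :=
    Nat.Coprime.coprime_dvd_left (orderOf_dvd_natCard w) hcop
  obtain ⟨m, hm⟩ := exists_pow_eq_self_of_coprime hc.symm
  rw [← hm]
  exact M.pow_mem (key w) m

end AbGen

section Lift
variable {G : Type*} [Group G] [Finite G]

theorem mem_comm_iff (P : Subgroup G) (w : P) :
    (w : G) ∈ (⁅P, P⁆ : Subgroup G) ↔ Abelianization.of w = 1 := by
  rw [← Subgroup.map_subtype_commutator]
  show P.subtype w ∈ _ ↔ _
  rw [Subgroup.mem_map_iff_mem P.subtype_injective]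
  rw [← MonoidHom.mem_ker, Abelianization.ker_of]

/-- lifting fixed points modulo the commutator subgroup for a coprime cyclic action -/
theorem lift_fixed (P : Subgroup G) (g : G) (hg : g ∈ normalizer (P : Set G))
    (hcop : (orderOf g).Coprime (Nat.card P)) (w : G)
    (h : ∀ k : ℕ, w⁻¹ * (g ^ k * w * (g ^ k)⁻¹) ∈ (⁅P, P⁆ : Subgroup G)) :
    ∃ d ∈ (⁅P, P⁆ : Subgroup G), w * d ∈ centralizer {g} := by
  have hDP : (⁅P, P⁆ : Subgroup G) ≤ P := Subgroup.commutator_le_self P
  have hA : zpowers g ≤ normalizer ((⁅P, P⁆ : Subgroup G) : Set G) := by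
    have h1 : zpowers g ≤ normalizer (P : Set G) := by
      rw [zpowers_le]; exact hg
    exact Cfsg.Agent.Lib.Lead_Coprime.le_normalizer_commutator _ P P h1 h1
  have hcop' : (Nat.card (zpowers g)).Coprime (Nat.card (⁅P, P⁆ : Subgroup G)) := by
    rw [Nat.card_zpowers]
    exact Nat.Coprime.coprime_dvd_right (Subgroup.card_dvd_of_le hDP) hcop
  obtain ⟨d, hd, hc⟩ := Cfsg.Agent.Lib.Lead_Coprime.lemmaC ⁅P, P⁆ (zpowers g) hA hcop'
    (Or.inl inferInstance) w (by
      intro a ha
      rw [← mem_powers_iff_mem_zpowers] at ha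
      obtain ⟨k, rfl⟩ := ha
      have := h k
      have e : w⁻¹ * g ^ k * w * (g ^ k)⁻¹ = w⁻¹ * (g ^ k * w * (g ^ k)⁻¹) := by group
      rw [e]; exact this)
  refine ⟨d, hd, ?_⟩
  rw [mem_centralizer_singleton_iff]
  rw [mem_centralizer_iff] at hc
  exact (hc g (mem_zpowers g)).symm

end Lift

section PGen
variable {G : Type*} [Group G] [Finite G]

open Cfsg.Agent.Lib.Helper6_ConjAct in
/-- A `p`-subgroup `P` normalized by commuting elements `x, u` with `x ^ q = u ^ q = 1`, `q ∤ |P|`,
is generated by the centralizers in `P` of the elements `x * u ^ j` and `u ^ i` (`0 < i < q`). -/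
theorem pgroup_gen (p q : ℕ) [Fact p.Prime] [Fact q.Prime] (P : Subgroup G) (hP : IsPGroup p P)
    (hpq : ¬ q ∣ Nat.card P) (x u : G) (hxu : x * u = u * x) (hx : x ^ q = 1) (hu : u ^ q = 1)
    (hxP : x ∈ normalizer (P : Set G)) (huP : u ∈ normalizer (P : Set G)) (T : Subgroup G)
    (hT1 : ∀ j : ℕ, P ⊓ centralizer {x * u ^ j} ≤ T)
    (hT2 : ∀ i : ℕ, 0 < i → i < q → P ⊓ centralizer {u ^ i} ≤ T) : P ≤ T := by
  classical
  have hq := (Fact.out : q.Prime)
  let Nn : Subgroup G := normalizer (P : Set G)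
  letI act : MulDistribMulAction Nn P := conjNormalizer Nn P le_rfl
  letI abact : MulDistribMulAction Nn (Abelianization P) := abAct
  have hsmul : ∀ (k : Nn) (c : P), ((k • c : P) : G) = (k : G) * c * (k : G)⁻¹ := fun _ _ => rfl
  have hsmul_of : ∀ (k : Nn) (c : P), k • (Abelianization.of c) = Abelianization.of (k • c) :=
    fun k c => Abelianization.map_of _ _
  set T' : Subgroup P := T.subgroupOf P with hT'
  set M : Subgroup (Abelianization P) := T'.map (Abelianization.of : P →* Abelianization P) with hMdef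
  have hlift : ∀ g : Nn, (g : G) ^ q = 1 → P ⊓ centralizer {(g : G)} ≤ T →
      ∀ v : Abelianization P, g • v = v → v ∈ M := by
    intro g hgq hgT v hv
    obtain ⟨w, rfl⟩ := QuotientGroup.mk_surjective v
    have hv' : g • (Abelianization.of w) = Abelianization.of w := hv
    have h : ∀ k : ℕ, (w : G)⁻¹ * ((g : G) ^ k * w * ((g : G) ^ k)⁻¹) ∈ (⁅P, P⁆ : Subgroup G) := by
      intro k
      have h1 : g ^ k • (Abelianization.of w) = Abelianization.of w := by
        have hst : g ∈ MulAction.stabilizer Nn (Abelianization.of w) := hv'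
        exact (MulAction.stabilizer Nn (Abelianization.of w)).pow_mem hst k
      rw [hsmul_of] at h1
      have h2 : Abelianization.of (w⁻¹ * (g ^ k • w)) = 1 := by
        rw [map_mul, map_inv, h1]; simp
      have h3 := (mem_comm_iff P _).mpr h2
      have e : ((w⁻¹ * (g ^ k • w) : P) : G) = (w : G)⁻¹ * ((g : G) ^ k * w * ((g : G) ^ k)⁻¹) := by
        rw [Subgroup.coe_mul, Subgroup.coe_inv, hsmul, Subgroup.coe_pow]
      rw [e] at h3
      exact h3
    have hcop : (orderOf (g : G)).Coprime (Nat.card P) := by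
      have h1 : orderOf (g : G) ∣ q := orderOf_dvd_of_pow_eq_one hgq
      exact Nat.Coprime.coprime_dvd_left h1 ((Nat.Prime.coprime_iff_not_dvd hq).mpr hpq)
    obtain ⟨d, hd, hwd⟩ := lift_fixed P g g.2 hcop w h
    have hdP : d ∈ P := Subgroup.commutator_le_self P hd
    have hwdT : (w : G) * d ∈ T := hgT ⟨P.mul_mem w.2 hdP, hwd⟩
    refine ⟨w * ⟨d, hdP⟩, hwdT, ?_⟩
    rw [map_mul]
    have h5 : Abelianization.of (⟨d, hdP⟩ : P) = 1 := (mem_comm_iff P _).mp hd
    rw [h5, mul_one]
    rfl
  have hcardAb : (Nat.card (Abelianization P)).Coprime q := by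
    have h1 : Nat.card (Abelianization P) ∣ Nat.card P :=
      Subgroup.card_quotient_dvd_card (commutator P)
    exact Nat.Coprime.coprime_dvd_left h1 ((Nat.Prime.coprime_iff_not_dvd hq).mpr hpq).symm
  have hMtop : M = ⊤ := by
    refine abgen q (⟨x, hxP⟩ : Nn) ⟨u, huP⟩ (Subtype.ext hxu) (Subtype.ext ?_) (Subtype.ext ?_)
      hcardAb M ?_ ?_
    · rw [Subgroup.coe_pow]; exact hx
    · rw [Subgroup.coe_pow]; exact hu
    · intro j v hv
      refine hlift _ ?_ ?_ v hv
      · show (x * u ^ j) ^ q = 1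
        have hc : Commute x (u ^ j) := Commute.pow_right hxu j
        rw [hc.mul_pow, hx, ← pow_mul, mul_comm, pow_mul, hu, one_pow, one_mul]
      · exact hT1 j
    · intro i hi0 hiq v hv
      refine hlift _ ?_ ?_ v hv
      · show (u ^ i) ^ q = 1
        rw [← pow_mul, mul_comm, pow_mul, hu, one_pow]
      · exact hT2 i hi0 hiq
  have hsup : T' ⊔ commutator P = ⊤ := by
    rw [eq_top_iff]
    intro y _
    have h1 : Abelianization.of y ∈ M := by rw [hMtop]; trivial
    obtain ⟨t, ht, hty⟩ := h1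
    have h2 : t⁻¹ * y ∈ commutator P := by
      rw [← Abelianization.ker_of, MonoidHom.mem_ker, map_mul, map_inv, hty]; simp
    have h3 : y = t * (t⁻¹ * y) := by group
    rw [h3]
    exact Subgroup.mul_mem_sup ht h2
  have hfr : commutator P ≤ frattini P := by
    rw [_root_.commutator_def, Subgroup.commutator_le]
    intro a _ b _
    have := Cfsg.Agent.Lib.Helper7_PFrattini.comm_mem_frattini hP a b
    rwa [commutatorElement_def]
  have htop : T' = ⊤ := by
    apply frattini_nongenerating
    rw [eq_top_iff, ← hsup]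
    exact sup_le_sup_left hfr _
  rw [hT', Subgroup.subgroupOf_eq_top] at htop
  exact htop

/-- Generation by centralizers for a rank two elementary abelian `q`-group `⟨x, u⟩ ≤ A` acting
coprimely on `K`. -/
theorem gen_of_rank_two (A K : Subgroup G) (hAK : A ≤ normalizer (K : Set G))
    (hcop : (Nat.card A).Coprime (Nat.card K)) (hsolv : IsSolvable A ∨ IsSolvable K)
    (q : ℕ) [Fact q.Prime] (hqK : ¬ q ∣ Nat.card K) (x u : G) (hxA : x ∈ A) (huA : u ∈ A)
    (hxu : x * u = u * x) (hx : x ^ q = 1) (hu : u ^ q = 1) (T : Subgroup G)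
    (hT1 : ∀ j : ℕ, K ⊓ centralizer {x * u ^ j} ≤ T)
    (hT2 : ∀ i : ℕ, 0 < i → i < q → K ⊓ centralizer {u ^ i} ≤ T) : K ≤ T := by
  set T0 := T ⊓ K with hT0
  have hT0K : T0 ≤ K := inf_le_right
  have hsyl : ∀ p : ℕ, p.Prime → (Nat.card K).factorization p ≤ (Nat.card T0).factorization p := by
    intro p hp
    haveI := Fact.mk hp
    obtain ⟨P, hPA⟩ := Cfsg.Agent.Lib.Lead_Coprime.exists_invariant_sylow A K hAK hcop hsolv p
    set P' := (P : Subgroup K).map K.subtype with hP'
    have hP'K : P' ≤ K := Subgroup.map_subtype_le _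
    have hP'p : IsPGroup p P' := P.isPGroup'.map _
    have hqP' : ¬ q ∣ Nat.card P' := fun h => hqK (h.trans (Subgroup.card_dvd_of_le hP'K))
    have hle : P' ≤ T := pgroup_gen p q P' hP'p hqP' x u hxu hx hu (hPA hxA) (hPA huA) T
      (fun j => le_trans (inf_le_inf_right _ hP'K) (hT1 j))
      (fun i h0 hi => le_trans (inf_le_inf_right _ hP'K) (hT2 i h0 hi))
    have hP'T : P' ≤ T0 := le_inf hle hP'K
    have hcard : Nat.card P' = p ^ (Nat.card K).factorization p := by
      rw [hP', Subgroup.card_map_of_injective K.subtype_injective]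
      exact P.card_eq_multiplicity
    have hdvd : p ^ (Nat.card K).factorization p ∣ Nat.card T0 := by
      rw [← hcard]; exact Subgroup.card_dvd_of_le hP'T
    exact (hp.pow_dvd_iff_le_factorization (Nat.card_pos.ne')).1 hdvd
  have hdvd : Nat.card K ∣ Nat.card T0 :=
    (Nat.factorization_prime_le_iff_dvd (Nat.card_pos.ne') (Nat.card_pos.ne')).1 hsyl
  have : T0 = K := Subgroup.eq_of_le_of_card_ge hT0K (Nat.le_of_dvd Nat.card_pos hdvd)
  rw [← this]
  exact inf_le_left

/-- elements of a rank two pair: `x * u ^ j ≠ 1`. -/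
theorem mul_pow_ne_one (q : ℕ) [Fact q.Prime] (x u : G) (hx : x ^ q = 1) (hu : u ^ q = 1)
    (hx1 : x ≠ 1) (hux : u ∉ zpowers x) (j : ℕ) : x * u ^ j ≠ 1 := by
  have hq := (Fact.out : q.Prime)
  intro h
  have hxj : x = (u ^ j)⁻¹ := eq_inv_of_mul_eq_one_left h
  have hordx : orderOf x = q := by
    have := orderOf_dvd_of_pow_eq_one hx
    rcases (Nat.dvd_prime hq).mp this with h1 | h1
    · exact absurd (orderOf_eq_one_iff.mp h1) hx1
    · exact h1
  have hu1 : u ≠ 1 := by
    intro h; apply hux; rw [h]; exact Subgroup.one_mem _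
  have hordu : orderOf u = q := by
    have := orderOf_dvd_of_pow_eq_one hu
    rcases (Nat.dvd_prime hq).mp this with h1 | h1
    · exact absurd (orderOf_eq_one_iff.mp h1) hu1
    · exact h1
  have hle : zpowers x ≤ zpowers u := by
    rw [zpowers_le, hxj]
    exact Subgroup.inv_mem _ (Subgroup.pow_mem _ (mem_zpowers u) j)
  have hcard : Nat.card (zpowers u) ≤ Nat.card (zpowers x) := by
    rw [Nat.card_zpowers, Nat.card_zpowers, hordx, hordu]
  have := Subgroup.eq_of_le_of_card_ge hle hcard
  apply hux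
  rw [this]; exact mem_zpowers u

theorem pow_ne_one_of_lt (q : ℕ) [Fact q.Prime] (u : G) (hu : u ^ q = 1) (hu1 : u ≠ 1)
    (i : ℕ) (hi0 : 0 < i) (hiq : i < q) : u ^ i ≠ 1 := by
  have hq := (Fact.out : q.Prime)
  have hordu : orderOf u = q := by
    have := orderOf_dvd_of_pow_eq_one hu
    rcases (Nat.dvd_prime hq).mp this with h1 | h1
    · exact absurd (orderOf_eq_one_iff.mp h1) hu1
    · exact h1
  intro h
  have := orderOf_dvd_of_pow_eq_one h
  rw [hordu] at this
  exact absurd (Nat.le_of_dvd hi0 this) (not_le.mpr hiq)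

open scoped IsMulCommutative in
/-- a noncyclic finite abelian group contains a rank two elementary abelian `q`-subgroup -/
theorem exists_rank_two (A : Subgroup G) [IsMulCommutative A] (hA : ¬ IsCyclic A) :
    ∃ (q : ℕ) (_ : Fact q.Prime) (x u : G), x ∈ A ∧ u ∈ A ∧ x * u = u * x ∧ x ^ q = 1 ∧ u ^ q = 1 ∧
      x ≠ 1 ∧ u ∉ zpowers x := by
  have hZ : ¬ IsZGroup A := by
    intro hZ
    exact hA inferInstance
  have : ∃ (q : ℕ) (_ : Fact q.Prime) (Q : Sylow q A), ¬ IsCyclic Q := by
    by_contra hcon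
    push Not at hcon
    exact hZ ⟨fun p hp P => hcon p ⟨hp⟩ P⟩
  obtain ⟨q, hq, Q, hQ⟩ := this
  have hpow : ∀ a b : Q, (a * b) ^ q = a ^ q * b ^ q := fun a b => mul_pow a b q
  obtain ⟨x, u, hxu, hx, hu, hx1, hux⟩ :=
    Cfsg.Agent.Lib.Helper7_PGroupRank.exists_rank_two_of_pow_hom Q.isPGroup' hQ hpow
  refine ⟨q, hq, ((x : A) : G), ((u : A) : G), (x : A).2, (u : A).2, ?_, ?_, ?_, ?_, ?_⟩
  · have := congrArg (fun z : Q => ((z : A) : G)) hxu
    simpa using this
  · have := congrArg (fun z : Q => ((z : A) : G)) hx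
    simpa using this
  · have := congrArg (fun z : Q => ((z : A) : G)) hu
    simpa using this
  · intro h
    apply hx1
    apply Subtype.ext
    apply Subtype.ext
    simpa using h
  · intro h
    apply hux
    rw [Subgroup.mem_zpowers_iff] at h ⊢
    obtain ⟨k, hk⟩ := h
    refine ⟨k, ?_⟩
    apply Subtype.ext
    apply Subtype.ext
    simpa using hk

end PGen

end Cfsg.Agent.Lib.Helper5_CoprimeGen
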