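import Mathlib
import Cfsg.Prelude.Def_Characters
import Cfsg.Prelude.Def_OddOrderChar
import Cfsg.Prelude.Def_OddOrderLocal
import Cfsg.Agent.Lib.Helper2_ClassFn
import Cfsg.Agent.Lib.Helper2_CharOrtho

set_option autoImplicit false

namespace Cfsg.Agent.Lib.Helper5_CycTI

open Cfsg
open scoped ComplexConjugate
open Classical

section Fourier

variable {A : Type*} [CommGroup A] [Finite A]

/-- characters trivial on `U` -/
def ann (U : Subgroup A) : Subgroup (A →* ℂˣ) where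
  carrier := {φ | ∀ u ∈ U, φ u = 1}
  mul_mem' := by
    intro a b ha hb u hu
    simp only [Set.mem_setOf_eq] at ha hb
    simp [ha u hu, hb u hu]
  one_mem' := by intro u hu; rfl
  inv_mem' := by
    intro a ha u hu
    simp only [Set.mem_setOf_eq] at ha
    simp [ha u hu]

theorem mem_ann (U : Subgroup A) (φ : A →* ℂˣ) : φ ∈ ann U ↔ ∀ u ∈ U, φ u = 1 := Iff.rfl

instance instHasEnough : HasEnoughRootsOfUnity ℂ (Monoid.exponent A) := by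
  haveI : NeZero (Monoid.exponent A) := ⟨Monoid.exponent_ne_zero_of_finite⟩
  infer_instance

instance instFiniteHom : Finite (A →* ℂˣ) :=
  Finite.of_equiv A (CommGroup.monoidHom_mulEquiv_of_hasEnoughRootsOfUnity A ℂ).some.symm.toEquiv

theorem sum_ann (U : Subgroup A) [Fintype ↥(ann U)] (x : A) :
    ∑ φ : ↥(ann U), (((φ : A →* ℂˣ) x : ℂˣ) : ℂ) =
      if x ∈ U then (Fintype.card ↥(ann U) : ℂ) else 0 := by
  split_ifs with hx
  · have : ∀ φ : ↥(ann U), (((φ : A →* ℂˣ) x : ℂˣ) : ℂ) = 1 := by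
      intro φ
      rw [φ.2 x hx]; rfl
    simp [this]
  · have h := (CommGroup.forall_monoidHom_apply_eq_one_iff ℂ U x).not.mpr hx
    push_neg at h
    obtain ⟨φ₀, hφ₀, hne⟩ := h
    set S := ∑ φ : ↥(ann U), (((φ : A →* ℂˣ) x : ℂˣ) : ℂ) with hS
    have h1 : S = ((φ₀ x : ℂˣ) : ℂ) * S := by
      rw [hS, Finset.mul_sum]
      refine Fintype.sum_equiv (Equiv.mulLeft (⟨φ₀, hφ₀⟩ : ↥(ann U))).symm _ _ ?_
      intro φ
      simp only [Equiv.mulLeft_symm_apply]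
      have : ((⟨φ₀, hφ₀⟩ : ↥(ann U))⁻¹ * φ : ↥(ann U)).1 x = (φ₀ x)⁻¹ * φ.1 x := by
        simp
      rw [this]
      push_cast
      rw [← mul_assoc, mul_inv_cancel₀ (Units.ne_zero _), one_mul]
    have h2 : (1 - ((φ₀ x : ℂˣ) : ℂ)) * S = 0 := by
      rw [sub_mul, one_mul, ← h1, sub_self]
    rcases mul_eq_zero.mp h2 with h3 | h3
    · exfalso
      apply hne
      apply Units.ext
      rw [Units.val_one]
      exact (sub_eq_zero.mp h3).symm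
    · exact h3

theorem fourier [Fintype A] (U₁ U₂ : Subgroup A) (hU : U₁ ⊓ U₂ = ⊥) (f : A → ℂ)
    (h : ∀ φ ψ : A →* ℂˣ, φ ∈ ann U₂ → ψ ∈ ann U₁ →
      ∑ w : A, f w * ((1 - ((φ w : ℂˣ) : ℂ)) * (1 - ((ψ w : ℂˣ) : ℂ))) = 0)
    (w₀ : A) (h1 : w₀ ∉ U₁) (h2 : w₀ ∉ U₂) : f w₀ = 0 := by
  classical
  haveI : Fintype ↥(ann U₁) := Fintype.ofFinite _
  haveI : Fintype ↥(ann U₂) := Fintype.ofFinite _
  set N₁ : ℂ := (Fintype.card ↥(ann U₁) : ℂ) with hN₁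
  set N₂ : ℂ := (Fintype.card ↥(ann U₂) : ℂ) with hN₂
  have hN₁0 : N₁ ≠ 0 := by
    rw [hN₁]; exact_mod_cast Fintype.card_ne_zero
  have hN₂0 : N₂ ≠ 0 := by
    rw [hN₂]; exact_mod_cast Fintype.card_ne_zero
  -- the two partial sums
  have hS : ∀ (U : Subgroup A) [Fintype ↥(ann U)], w₀ ∉ U → ∀ w : A,
      ∑ φ : ↥(ann U), (((φ : A →* ℂˣ) w₀⁻¹ : ℂˣ) : ℂ) * (1 - (((φ : A →* ℂˣ) w : ℂˣ) : ℂ)) =
        - ((Fintype.card ↥(ann U) : ℂ) * if w₀⁻¹ * w ∈ U then 1 else 0) := by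
    intro U _ hw₀ w
    have e : ∀ φ : ↥(ann U), (((φ : A →* ℂˣ) w₀⁻¹ : ℂˣ) : ℂ) * (1 - (((φ : A →* ℂˣ) w : ℂˣ) : ℂ))
        = (((φ : A →* ℂˣ) w₀⁻¹ : ℂˣ) : ℂ) - (((φ : A →* ℂˣ) (w₀⁻¹ * w) : ℂˣ) : ℂ) := by
      intro φ
      rw [map_mul]; push_cast; ring
    simp only [e]
    rw [Finset.sum_sub_distrib, sum_ann U w₀⁻¹, sum_ann U (w₀⁻¹ * w)]
    have : w₀⁻¹ ∉ U := fun hh => hw₀ (by simpa using U.inv_mem hh)
    rw [if_neg this]
    split_ifs <;> simp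
  have hT : ∑ w : A, f w * ((∑ φ : ↥(ann U₂), (((φ : A →* ℂˣ) w₀⁻¹ : ℂˣ) : ℂ) *
        (1 - (((φ : A →* ℂˣ) w : ℂˣ) : ℂ))) *
      (∑ ψ : ↥(ann U₁), (((ψ : A →* ℂˣ) w₀⁻¹ : ℂˣ) : ℂ) * (1 - (((ψ : A →* ℂˣ) w : ℂˣ) : ℂ)))) = 0 := by
    have e1 : ∀ w : A, f w * ((∑ φ : ↥(ann U₂), (((φ : A →* ℂˣ) w₀⁻¹ : ℂˣ) : ℂ) *
        (1 - (((φ : A →* ℂˣ) w : ℂˣ) : ℂ))) *
      (∑ ψ : ↥(ann U₁), (((ψ : A →* ℂˣ) w₀⁻¹ : ℂˣ) : ℂ) * (1 - (((ψ : A →* ℂˣ) w : ℂˣ) : ℂ))))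
      = ∑ φ : ↥(ann U₂), ∑ ψ : ↥(ann U₁),
          ((((φ : A →* ℂˣ) w₀⁻¹ : ℂˣ) : ℂ) * (((ψ : A →* ℂˣ) w₀⁻¹ : ℂˣ) : ℂ)) *
          (f w * ((1 - (((φ : A →* ℂˣ) w : ℂˣ) : ℂ)) * (1 - (((ψ : A →* ℂˣ) w : ℂˣ) : ℂ)))) := by
      intro w
      rw [Finset.sum_mul_sum, Finset.mul_sum]
      refine Finset.sum_congr rfl fun φ _ => ?_
      rw [Finset.mul_sum]
      refine Finset.sum_congr rfl fun ψ _ => ?_
      ring
    simp only [e1]
    rw [Finset.sum_comm]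
    refine Finset.sum_eq_zero fun φ _ => ?_
    rw [Finset.sum_comm]
    refine Finset.sum_eq_zero fun ψ _ => ?_
    rw [← Finset.mul_sum, h φ.1 ψ.1 φ.2 ψ.2, mul_zero]
  simp only [hS U₂ h2, hS U₁ h1] at hT
  have e2 : ∀ w : A, f w * (-((Fintype.card ↥(ann U₂) : ℂ) * if w₀⁻¹ * w ∈ U₂ then 1 else 0) *
      -((Fintype.card ↥(ann U₁) : ℂ) * if w₀⁻¹ * w ∈ U₁ then 1 else 0)) =
      if w = w₀ then N₂ * N₁ * f w₀ else 0 := by
    intro w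
    by_cases hw : w = w₀
    · subst hw
      simp only [inv_mul_cancel, one_mem, if_true]
      ring
    · rw [if_neg hw]
      by_cases ha : w₀⁻¹ * w ∈ U₂
      · by_cases hb : w₀⁻¹ * w ∈ U₁
        · exfalso
          have : w₀⁻¹ * w ∈ U₁ ⊓ U₂ := ⟨hb, ha⟩
          rw [hU, Subgroup.mem_bot] at this
          apply hw
          rw [inv_mul_eq_one] at this
          exact this.symm
        · rw [if_neg hb]; ring
      · rw [if_neg ha]; ring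
  simp only [e2] at hT
  rw [Finset.sum_ite_eq' Finset.univ w₀, if_pos (Finset.mem_univ _)] at hT
  rcases mul_eq_zero.mp hT with h3 | h3
  · exfalso
    rcases mul_eq_zero.mp h3 with h4 | h4
    · exact hN₂0 h4
    · exact hN₁0 h4
  · exact h3

/-- the value of a character at an element of a finite group has conjugate equal to its inverse -/
theorem conj_hom (φ : A →* ℂˣ) (w : A) : conj ((φ w : ℂˣ) : ℂ) = ((φ⁻¹ w : ℂˣ) : ℂ) := by
  have hfin : IsOfFinOrder w := isOfFinOrder_of_finite w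
  have hpos : 0 < orderOf w := hfin.orderOf_pos
  have h1 : ((φ w : ℂˣ) : ℂ) ^ orderOf w = 1 := by
    rw [← Units.val_pow_eq_pow_val, ← map_pow, pow_orderOf_eq_one, map_one, Units.val_one]
  have h2 : ‖((φ w : ℂˣ) : ℂ)‖ = 1 := Complex.norm_eq_one_of_pow_eq_one h1 hpos.ne'
  rw [MonoidHom.inv_apply, Units.val_inv_eq_inv_val, Complex.inv_eq_conj h2]

end Fourier

section Main

open Cfsg.Agent.Lib.Helper2_ClassFn Cfsg.Agent.Lib.Helper2_CharOrtho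

/-- Fourier lemma for a group which happens to be commutative -/
theorem fourier' {A : Type*} [Group A] [Fintype A] (hcomm : ∀ a b : A, a * b = b * a)
    (U₁ U₂ : Subgroup A) (hU : U₁ ⊓ U₂ = ⊥) (f : A → ℂ)
    (h : ∀ φ ψ : A →* ℂˣ, (∀ u ∈ U₂, φ u = 1) → (∀ u ∈ U₁, ψ u = 1) →
      ∑ w : A, f w * ((1 - ((φ w : ℂˣ) : ℂ)) * (1 - ((ψ w : ℂˣ) : ℂ))) = 0)
    (w₀ : A) (h1 : w₀ ∉ U₁) (h2 : w₀ ∉ U₂) : f w₀ = 0 := by
  letI : CommGroup A := { ‹Group A› with mul_comm := hcomm }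
  exact fourier U₁ U₂ hU f (fun φ ψ hφ hψ => h φ ψ hφ hψ) w₀ h1 h2

theorem conj_hom' {A : Type*} [Group A] [Finite A] (hcomm : ∀ a b : A, a * b = b * a)
    (φ : A →* ℂˣ) (w : A) : conj ((φ w : ℂˣ) : ℂ) = (((φ w)⁻¹ : ℂˣ) : ℂ) := by
  letI : CommGroup A := { ‹Group A› with mul_comm := hcomm }
  exact conj_hom φ w

theorem main {G : Type*} [Group G] [Fintype G] (W₁ W₂ : Subgroup G)
    (hW : Cfsg.IsSelfNormalizingCyclic W₁ W₂) (χ : (↥(W₁ ⊔ W₂) →* ℂˣ) → (G → ℂ))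
    (hχ : Cfsg.IsCyclicTIFamily W₁ W₂ χ) (θ : G → ℂ) (hθ : Cfsg.IsIrrCharacter G θ)
    (horth : ∀ ω, Cfsg.classInner θ (χ ω) = 0) (w : ↥(W₁ ⊔ W₂)) (hw₁ : (w : G) ∉ W₁)
    (hw₂ : (w : G) ∉ W₂) : θ w = 0 := by
  classical
  obtain ⟨-, -, hinf, -, hcyc, -⟩ := hW
  haveI : Fintype ↥(W₁ ⊔ W₂) := Fintype.ofFinite _
  have hcomm : ∀ a b : ↥(W₁ ⊔ W₂), a * b = b * a := by
    intro a b
    haveI := hcyc
    letI := IsCyclic.commGroup (α := ↥(W₁ ⊔ W₂))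
    exact mul_comm a b
  have hθcf : IsClassFunction G θ :=
    IsGeneralizedCharacter.isClassFunction (IsIrrCharacter.isGeneralizedCharacter hθ)
  -- the key vanishing for nontrivial φ ψ
  have key : ∀ φ ψ : ↥(W₁ ⊔ W₂) →* ℂˣ, φ ≠ 1 → ψ ≠ 1 →
      (∀ u : ↥(W₁ ⊔ W₂), (u : G) ∈ W₂ → φ u = 1) → (∀ u : ↥(W₁ ⊔ W₂), (u : G) ∈ W₁ → ψ u = 1) →
      ∑ x : ↥(W₁ ⊔ W₂), θ x * ((1 - (((φ x)⁻¹ : ℂˣ) : ℂ)) * (1 - (((ψ x)⁻¹ : ℂˣ) : ℂ))) = 0 := by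
    intro φ ψ hφ1 hψ1 hφ hψ
    have h1 := hχ.induced_eq φ ψ hφ1 hψ1 hφ hψ
    have h2 : (fun g => 1 - χ φ g - χ ψ g + χ (φ * ψ) g) = χ 1 - χ φ - χ ψ + χ (φ * ψ) := by
      funext g
      simp [hχ.map_one]
    have h3 : classInner θ (indFun (W₁ ⊔ W₂)
        (fun x => 1 - ((φ x : ℂˣ) : ℂ) - ((ψ x : ℂˣ) : ℂ) + ((φ x : ℂˣ) : ℂ) * ((ψ x : ℂˣ) : ℂ))) = 0 := by
      rw [h1, h2, classInner_add_right, classInner_sub_right, classInner_sub_right,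
        horth, horth, horth, horth]
      ring
    rw [frobenius_reciprocity' (W₁ ⊔ W₂) _ θ hθcf] at h3
    unfold classInner at h3
    rcases mul_eq_zero.mp h3 with h4 | h4
    · exfalso
      rw [inv_eq_zero] at h4
      exact card_ne_zero_complex h4
    · rw [← h4]
      refine Finset.sum_congr rfl fun x _ => ?_
      congr 1
      rw [← conj_hom' hcomm φ x, ← conj_hom' hcomm ψ x]
      simp only [map_add, map_sub, map_mul, map_one]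
      ring
  -- apply the Fourier lemma
  have hfin := fourier' hcomm (W₁.subgroupOf (W₁ ⊔ W₂)) (W₂.subgroupOf (W₁ ⊔ W₂)) (by
      rw [eq_bot_iff]
      intro x hx
      have h1 : (x : G) ∈ W₁ ⊓ W₂ := ⟨Subgroup.mem_subgroupOf.mp hx.1, Subgroup.mem_subgroupOf.mp hx.2⟩
      rw [hinf, Subgroup.mem_bot] at h1
      rw [Subgroup.mem_bot]
      exact Subtype.ext h1) (fun x : ↥(W₁ ⊔ W₂) => θ x) ?_ w
      (by rw [Subgroup.mem_subgroupOf]; exact hw₁) (by rw [Subgroup.mem_subgroupOf]; exact hw₂)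
  · exact hfin
  · intro φ ψ hφ hψ
    by_cases hφ1 : φ = 1
    · subst hφ1
      simp
    by_cases hψ1 : ψ = 1
    · subst hψ1
      simp
    have hφ1' : φ⁻¹ ≠ 1 := by
      intro h; apply hφ1
      refine MonoidHom.ext fun x => ?_
      have := DFunLike.congr_fun h x
      simpa using this
    have hψ1' : ψ⁻¹ ≠ 1 := by
      intro h; apply hψ1
      refine MonoidHom.ext fun x => ?_
      have := DFunLike.congr_fun h x
      simpa using this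
    have := key φ⁻¹ ψ⁻¹ hφ1' hψ1'
      (fun u hu => by
        rw [MonoidHom.inv_apply, hφ u (Subgroup.mem_subgroupOf.mpr hu), inv_one])
      (fun u hu => by
        rw [MonoidHom.inv_apply, hψ u (Subgroup.mem_subgroupOf.mpr hu), inv_one])
    simpa only [MonoidHom.inv_apply, inv_inv] using this

end Main

end Cfsg.Agent.Lib.Helper5_CycTI
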