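import Mathlib
import Cfsg.Agent.Lib.Helper5_CycTI

set_option autoImplicit false

namespace Cfsg.Agent.Lib.Helper5_CycTI2

open Cfsg
open scoped ComplexConjugate
open Classical

section Comb

variable {R C : Type*} [Fintype R] [Fintype C]

/-- number of nonzero entries, as a double sum -/
noncomputable def nz (b : R → ℂ) (c : C → ℂ) : ℕ :=
  ∑ c' : C, ∑ r : R, if b r + c c' ≠ 0 then 1 else 0

theorem nz_eq_card (b : R → ℂ) (c : C → ℂ) :
    nz b c = Fintype.card {p : R × C // b p.1 + c p.2 ≠ 0} := by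
  rw [Fintype.card_subtype, Finset.card_filter, Fintype.sum_prod_type_right]
  rfl

theorem nz_swap (b : R → ℂ) (c : C → ℂ) : nz b c = nz c b := by
  unfold nz
  rw [Finset.sum_comm]
  refine Finset.sum_congr rfl fun r _ => Finset.sum_congr rfl fun c' _ => ?_
  rw [add_comm]

/-- case: `b` constant -/
theorem comb_const (b : R → ℂ) (c : C → ℂ) (hb : ∀ r r', b r = b r')
    (hN : nz b c < 2 * Fintype.card R) :
    (∀ r c', b r + c c' = 0) ∨ ∃ (c₀ : C) (a : ℂ), ∀ r c', b r + c c' = if c' = c₀ then a else 0 := by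
  have hR : 0 < Fintype.card R := by
    rcases Nat.eq_zero_or_pos (Fintype.card R) with h | h
    · rw [h] at hN; omega
    · exact h
  obtain ⟨r₀⟩ := Fintype.card_pos_iff.mp hR
  set Z : Finset C := Finset.univ.filter (fun c' => b r₀ + c c' ≠ 0) with hZ
  have h1 : nz b c = Z.card * Fintype.card R := by
    unfold nz
    have : ∀ c' : C, (∑ r : R, if b r + c c' ≠ 0 then 1 else 0) =
        if c' ∈ Z then Fintype.card R else 0 := by
      intro c'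
      by_cases hc : c' ∈ Z
      · rw [if_pos hc]
        have hc' : b r₀ + c c' ≠ 0 := (Finset.mem_filter.mp hc).2
        have : ∀ r : R, (if b r + c c' ≠ 0 then 1 else 0) = 1 := by
          intro r
          rw [hb r r₀, if_pos hc']
        simp [this]
      · rw [if_neg hc]
        have hc' : ¬ (b r₀ + c c' ≠ 0) := fun h => hc (Finset.mem_filter.mpr ⟨Finset.mem_univ _, h⟩)
        have : ∀ r : R, (if b r + c c' ≠ 0 then 1 else 0) = 0 := by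
          intro r
          rw [hb r r₀, if_neg hc']
        simp [this]
    simp only [this]
    rw [Finset.sum_ite_mem, Finset.univ_inter, Finset.sum_const, smul_eq_mul]
  rw [h1] at hN
  have h2 : Z.card < 2 := by
    by_contra h
    push_neg at h
    have : 2 * Fintype.card R ≤ Z.card * Fintype.card R := Nat.mul_le_mul_right _ h
    omega
  have h3 : Z.card = 0 ∨ Z.card = 1 := by omega
  rcases h3 with h3 | h3
  · left
    intro r c'
    rw [Finset.card_eq_zero] at h3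
    by_contra hne
    have : c' ∈ Z := Finset.mem_filter.mpr ⟨Finset.mem_univ _, by rw [← hb r r₀]; exact hne⟩
    rw [h3] at this
    exact absurd this (Finset.notMem_empty _)
  · right
    rw [Finset.card_eq_one] at h3
    obtain ⟨c₀, hc₀⟩ := h3
    refine ⟨c₀, b r₀ + c c₀, ?_⟩
    intro r c'
    by_cases hc : c' = c₀
    · rw [if_pos hc, hc, hb r r₀]
    · rw [if_neg hc]
      by_contra hne
      have : c' ∈ Z := Finset.mem_filter.mpr ⟨Finset.mem_univ _, by rw [← hb r r₀]; exact hne⟩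
      rw [hc₀, Finset.mem_singleton] at this
      exact hc this

/-- case: neither constant: many nonzero entries -/
theorem comb_lower (b : R → ℂ) (c : C → ℂ) (r₁ r₂ : R) (hr : b r₁ ≠ b r₂) (c₁ c₂ : C)
    (hc : c c₁ ≠ c c₂) : Fintype.card R + (Fintype.card C - 2) ≤ nz b c := by
  unfold nz
  set d : C → ℕ := fun c' => ∑ r : R, if b r + c c' ≠ 0 then 1 else 0 with hd
  have hc12 : c₁ ≠ c₂ := fun h => hc (by rw [h])
  have hd1 : ∀ c' : C, 1 ≤ d c' := by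
    intro c'
    by_cases h : b r₁ + c c' ≠ 0
    · calc 1 = (if b r₁ + c c' ≠ 0 then 1 else 0) := by rw [if_pos h]
        _ ≤ d c' := Finset.single_le_sum (f := fun r => if b r + c c' ≠ 0 then 1 else 0)
            (fun _ _ => Nat.zero_le _) (Finset.mem_univ r₁)
    · have h' : b r₂ + c c' ≠ 0 := by
        intro h2
        push_neg at h
        apply hr
        have : b r₁ + c c' = b r₂ + c c' := by rw [h, h2]
        exact add_right_cancel this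
      calc 1 = (if b r₂ + c c' ≠ 0 then 1 else 0) := by rw [if_pos h']
        _ ≤ d c' := Finset.single_le_sum (f := fun r => if b r + c c' ≠ 0 then 1 else 0)
            (fun _ _ => Nat.zero_le _) (Finset.mem_univ r₂)
  have hd2 : Fintype.card R ≤ d c₁ + d c₂ := by
    rw [hd]
    simp only
    rw [← Finset.sum_add_distrib]
    calc Fintype.card R = ∑ _r : R, 1 := by simp
      _ ≤ _ := Finset.sum_le_sum fun r _ => ?_
    by_cases h : b r + c c₁ ≠ 0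
    · rw [if_pos h]; omega
    · have h' : b r + c c₂ ≠ 0 := by
        intro h2
        push_neg at h
        apply hc
        have : b r + c c₁ = b r + c c₂ := by rw [h, h2]
        exact add_left_cancel this
      rw [if_pos h']; omega
  have hsplit : ∑ c' : C, d c' = d c₁ + (d c₂ + ∑ c' ∈ (Finset.univ.erase c₁).erase c₂, d c') := by
    rw [← Finset.add_sum_erase Finset.univ d (Finset.mem_univ c₁)]
    congr 1
    rw [← Finset.add_sum_erase (Finset.univ.erase c₁) d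
      (Finset.mem_erase.mpr ⟨hc12.symm, Finset.mem_univ _⟩)]
  have hrest : Fintype.card C - 2 ≤ ∑ c' ∈ (Finset.univ.erase c₁).erase c₂, d c' := by
    calc Fintype.card C - 2 = ((Finset.univ.erase c₁).erase c₂).card := by
          rw [Finset.card_erase_of_mem (Finset.mem_erase.mpr ⟨hc12.symm, Finset.mem_univ _⟩),
            Finset.card_erase_of_mem (Finset.mem_univ _), Finset.card_univ]
          omega
      _ = ∑ _c' ∈ (Finset.univ.erase c₁).erase c₂, 1 := by simp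
      _ ≤ _ := Finset.sum_le_sum fun c' _ => hd1 c'
  show Fintype.card R + (Fintype.card C - 2) ≤ ∑ c' : C, d c'
  rw [hsplit]
  omega

theorem comb (b : R → ℂ) (c : C → ℂ) (hRC : Fintype.card R + 2 ≤ Fintype.card C)
    (hN : nz b c < 2 * Fintype.card R) :
    (∀ r c', b r + c c' = 0) ∨
    (∃ (c₀ : C) (a : ℂ), ∀ r c', b r + c c' = if c' = c₀ then a else 0) ∨
    (∃ (r₀ : R) (a : ℂ), ∀ r c', b r + c c' = if r = r₀ then a else 0) := by
  by_cases hb : ∀ r r', b r = b r'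
  · rcases comb_const b c hb hN with h | h
    · exact Or.inl h
    · exact Or.inr (Or.inl h)
  · push_neg at hb
    obtain ⟨r₁, r₂, hr⟩ := hb
    by_cases hc : ∀ c' c'', c c' = c c''
    · have hN' : nz c b < 2 * Fintype.card C := by
        rw [← nz_swap]; omega
      rcases comb_const c b hc hN' with h | h
      · left
        intro r c'
        rw [add_comm]; exact h c' r
      · right; right
        obtain ⟨r₀, a, h⟩ := h
        exact ⟨r₀, a, fun r c' => by rw [add_comm]; exact h c' r⟩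
    · push_neg at hc
      obtain ⟨c₁, c₂, hc⟩ := hc
      have := comb_lower b c r₁ r₂ hr c₁ c₂ hc
      omega

end Comb

section Dual

open Cfsg.Agent.Lib.Helper5_CycTI

variable {A : Type*} [CommGroup A] [Finite A]

theorem ann_eq_ker (U : Subgroup A) : ann U = (MonoidHom.domRestrictHom U ℂˣ).ker := by
  ext φ
  rw [mem_ann, MonoidHom.mem_ker, MonoidHom.domRestrictHom_apply, MonoidHom.domRestrict_eq_one_iff]

theorem card_ann (U : Subgroup A) : Nat.card ↥(ann U) = U.index := by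
  rw [ann_eq_ker, CommGroup.card_domRestrictHom_ker ℂ U]
  rfl

theorem ann_inf (U₁ U₂ : Subgroup A) (h : U₁ ⊔ U₂ = ⊤) : ann U₁ ⊓ ann U₂ = ⊥ := by
  rw [eq_bot_iff]
  intro φ hφ
  rw [Subgroup.mem_bot]
  have h1 : U₁ ⊔ U₂ ≤ φ.ker := by
    rw [sup_le_iff]
    exact ⟨fun x hx => MonoidHom.mem_ker.mpr (hφ.1 x hx),
      fun x hx => MonoidHom.mem_ker.mpr (hφ.2 x hx)⟩
  rw [h] at h1
  refine MonoidHom.ext fun x => ?_
  exact MonoidHom.mem_ker.mp (h1 (Subgroup.mem_top x))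

theorem isComplement_of (U₁ U₂ : Subgroup A) (hinf : U₁ ⊓ U₂ = ⊥) (hsup : U₁ ⊔ U₂ = ⊤) :
    Subgroup.IsComplement' U₁ U₂ := by
  apply Subgroup.isComplement'_of_disjoint_and_mul_eq_univ (disjoint_iff.mpr hinf)
  rw [← Subgroup.normal_mul, hsup, Subgroup.coe_top]

theorem isComplement_ann (U₁ U₂ : Subgroup A) (hinf : U₁ ⊓ U₂ = ⊥) (hsup : U₁ ⊔ U₂ = ⊤) :
    Subgroup.IsComplement' (ann U₂) (ann U₁) ∧ Nat.card ↥(ann U₂) = Nat.card U₁ ∧
      Nat.card ↥(ann U₁) = Nat.card U₂ := by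
  have hc := isComplement_of U₁ U₂ hinf hsup
  have h1 : Nat.card ↥(ann U₂) = Nat.card U₁ := by rw [card_ann, hc.index_eq_card]
  have h2 : Nat.card ↥(ann U₁) = Nat.card U₂ := by rw [card_ann, hc.symm.index_eq_card]
  refine ⟨?_, h1, h2⟩
  apply Subgroup.isComplement'_of_card_mul_and_disjoint
  · rw [h1, h2, hc.card_mul_card, CommGroup.card_monoidHom_of_hasEnoughRootsOfUnity A ℂ]
  · rw [disjoint_iff, inf_comm]
    exact ann_inf U₁ U₂ hsup

theorem hom_aux0 (f g : A →* ℂˣ) : f * g * g⁻¹ = f := by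
  ext x; simp

theorem hom_aux1 (f g h : A →* ℂˣ) : f⁻¹ * (f * g * h⁻¹) = g * h⁻¹ := by
  ext x; simp [mul_assoc]

theorem hom_aux2 (f g h : A →* ℂˣ) : g⁻¹ * (f * g * h⁻¹) = f * h⁻¹ := by
  apply MonoidHom.ext
  intro x
  simp only [MonoidHom.mul_apply, MonoidHom.inv_apply]
  rw [mul_comm (f x) (g x)]
  group

theorem hom_aux3 (f g : A →* ℂˣ) : f * g * f⁻¹ = g := by
  apply MonoidHom.ext
  intro x
  simp only [MonoidHom.mul_apply, MonoidHom.inv_apply]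
  rw [mul_comm (f x) (g x)]
  group

theorem hom_aux4 (f g : A →* ℂˣ) (h : f * g⁻¹ = 1) : f = g := by
  ext x
  have := DFunLike.congr_fun h x
  simp only [MonoidHom.mul_apply, MonoidHom.inv_apply, MonoidHom.one_apply] at this
  rw [mul_inv_eq_one.mp this]

theorem dual_main (U₁ U₂ : Subgroup A) (hinf : U₁ ⊓ U₂ = ⊥) (hsup : U₁ ⊔ U₂ = ⊤)
    (hlt : Nat.card U₁ + 2 ≤ Nat.card U₂) (a : (A →* ℂˣ) → ℂ)
    (hrel : ∀ φ ψ : A →* ℂˣ, φ ∈ ann U₂ → ψ ∈ ann U₁ → a (φ * ψ) = a φ + a ψ - a 1)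
    (hfew : Nat.card {ω : A →* ℂˣ // a ω ≠ 0} < 2 * Nat.card U₁) :
    (∀ ω, a ω = 0) ∨
    (∃ (ψ₀ : A →* ℂˣ) (a₀ : ℂ), ∀ ω, a ω = if ω * ψ₀⁻¹ ∈ ann U₂ then a₀ else 0) ∨
    (∃ (φ₀ : A →* ℂˣ) (a₀ : ℂ), ∀ ω, a ω = if ω * φ₀⁻¹ ∈ ann U₁ then a₀ else 0) := by
  obtain ⟨hc, hc1, hc2⟩ := isComplement_ann U₁ U₂ hinf hsup
  haveI : Fintype ↥(ann U₂) := Fintype.ofFinite _
  haveI : Fintype ↥(ann U₁) := Fintype.ofFinite _
  have hbij : Function.Bijective (fun x : ↥(ann U₂) × ↥(ann U₁) => (x.1.1 * x.2.1 : A →* ℂˣ)) := hc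
  set e : ↥(ann U₂) × ↥(ann U₁) ≃ (A →* ℂˣ) := Equiv.ofBijective _ hbij with he
  have he_apply : ∀ x : ↥(ann U₂) × ↥(ann U₁), e x = x.1.1 * x.2.1 := fun x => rfl
  set b : ↥(ann U₂) → ℂ := fun φ => a φ.1 - a 1 with hb
  set c : ↥(ann U₁) → ℂ := fun ψ => a ψ.1 with hcdef
  have hbc : ∀ (φ : ↥(ann U₂)) (ψ : ↥(ann U₁)), a (φ.1 * ψ.1) = b φ + c ψ := by
    intro φ ψ
    rw [hrel φ.1 ψ.1 φ.2 ψ.2, hb, hcdef]
    ring
  have hcardR : Fintype.card ↥(ann U₂) = Nat.card U₁ := by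
    rw [← Nat.card_eq_fintype_card, hc1]
  have hcardC : Fintype.card ↥(ann U₁) = Nat.card U₂ := by
    rw [← Nat.card_eq_fintype_card, hc2]
  have hnz : nz b c = Nat.card {ω : A →* ℂˣ // a ω ≠ 0} := by
    rw [nz_eq_card, ← Nat.card_eq_fintype_card]
    refine Nat.card_congr (Equiv.subtypeEquiv e ?_)
    intro p
    rw [he_apply, hbc]
  have hdisj : ∀ x : A →* ℂˣ, x ∈ ann U₂ → x ∈ ann U₁ → x = 1 := by
    intro x h2 h1
    have : x ∈ ann U₁ ⊓ ann U₂ := ⟨h1, h2⟩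
    rw [ann_inf U₁ U₂ hsup, Subgroup.mem_bot] at this
    exact this
  have hcomb := comb b c (by rw [hcardR, hcardC]; exact hlt) (by rw [hnz, hcardR]; exact hfew)
  rcases hcomb with h | ⟨ψ₀, a₀, h⟩ | ⟨φ₀, a₀, h⟩
  · left
    intro ω
    obtain ⟨⟨φ, ψ⟩, rfl⟩ := e.surjective ω
    rw [he_apply, hbc]
    exact h φ ψ
  · right; left
    refine ⟨ψ₀.1, a₀, ?_⟩
    intro ω
    obtain ⟨⟨φ, ψ⟩, rfl⟩ := e.surjective ω
    rw [he_apply, hbc, h φ ψ]
    have hiff : ψ = ψ₀ ↔ φ.1 * ψ.1 * ψ₀.1⁻¹ ∈ ann U₂ := by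
      constructor
      · intro hh
        rw [hh, hom_aux0]
        exact φ.2
      · intro hh
        have h1 : ψ.1 * ψ₀.1⁻¹ ∈ ann U₂ := by
          have := (ann U₂).mul_mem ((ann U₂).inv_mem φ.2) hh
          rwa [hom_aux1] at this
        have h2 : ψ.1 * ψ₀.1⁻¹ ∈ ann U₁ := (ann U₁).mul_mem ψ.2 ((ann U₁).inv_mem ψ₀.2)
        have h3 := hdisj _ h1 h2
        apply Subtype.ext
        exact hom_aux4 _ _ h3
    by_cases hh : ψ = ψ₀
    · rw [if_pos hh, if_pos (hiff.mp hh)]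
    · rw [if_neg hh, if_neg (fun h' => hh (hiff.mpr h'))]
  · right; right
    refine ⟨φ₀.1, a₀, ?_⟩
    intro ω
    obtain ⟨⟨φ, ψ⟩, rfl⟩ := e.surjective ω
    rw [he_apply, hbc, h φ ψ]
    have hiff : φ = φ₀ ↔ φ.1 * ψ.1 * φ₀.1⁻¹ ∈ ann U₁ := by
      constructor
      · intro hh
        rw [hh]
        rw [hom_aux3]
        exact ψ.2
      · intro hh
        have h1 : φ.1 * φ₀.1⁻¹ ∈ ann U₁ := by
          have := (ann U₁).mul_mem ((ann U₁).inv_mem ψ.2) hh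
          rwa [hom_aux2] at this
        have h2 : φ.1 * φ₀.1⁻¹ ∈ ann U₂ := (ann U₂).mul_mem φ.2 ((ann U₂).inv_mem φ₀.2)
        have h3 := hdisj _ h2 h1
        apply Subtype.ext
        exact hom_aux4 _ _ h3
    by_cases hh : φ = φ₀
    · rw [if_pos hh, if_pos (hiff.mp hh)]
    · rw [if_neg hh, if_neg (fun h' => hh (hiff.mpr h'))]

end Dual

section Main

open Cfsg.Agent.Lib.Helper5_CycTI

theorem dual_main' {A : Type*} [Group A] [Finite A] (hcomm : ∀ x y : A, x * y = y * x)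
    (U₁ U₂ : Subgroup A) (hinf : U₁ ⊓ U₂ = ⊥) (hsup : U₁ ⊔ U₂ = ⊤)
    (hlt : Nat.card U₁ + 2 ≤ Nat.card U₂) (a : (A →* ℂˣ) → ℂ)
    (hrel : ∀ φ ψ : A →* ℂˣ, (∀ u ∈ U₂, φ u = 1) → (∀ u ∈ U₁, ψ u = 1) →
      a (φ * ψ) = a φ + a ψ - a 1)
    (hfew : Nat.card {ω : A →* ℂˣ // a ω ≠ 0} < 2 * Nat.card U₁) :
    (∀ ω, a ω = 0) ∨
    (∃ (ψ₀ : A →* ℂˣ) (a₀ : ℂ), ∀ ω, a ω = if (∀ u ∈ U₂, (ω * ψ₀⁻¹) u = 1) then a₀ else 0) ∨
    (∃ (φ₀ : A →* ℂˣ) (a₀ : ℂ), ∀ ω, a ω = if (∀ u ∈ U₁, (ω * φ₀⁻¹) u = 1) then a₀ else 0) := by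
  letI : CommGroup A := { ‹Group A› with mul_comm := hcomm }
  exact dual_main U₁ U₂ hinf hsup hlt a (fun φ ψ hφ hψ => hrel φ ψ hφ hψ) hfew

open Cfsg.Agent.Lib.Helper2_ClassFn Cfsg.Agent.Lib.Helper2_CharOrtho

theorem main507 {G : Type*} [Group G] [Fintype G] (W₁ W₂ : Subgroup G)
    (hW : Cfsg.IsSelfNormalizingCyclic W₁ W₂) (hodd : Odd (Nat.card ↥(W₁ ⊔ W₂)))
    (χ : (↥(W₁ ⊔ W₂) →* ℂˣ) → (G → ℂ)) (hχ : Cfsg.IsCyclicTIFamily W₁ W₂ χ)
    (hlt : Nat.card W₁ < Nat.card W₂) (θ : G → ℂ) (hθ : Cfsg.IsClassFunction G θ)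
    (hθV : ∀ w : ↥(W₁ ⊔ W₂), (w : G) ∉ W₁ → (w : G) ∉ W₂ → θ w = 0)
    (hfew : Nat.card {ω : ↥(W₁ ⊔ W₂) →* ℂˣ // Cfsg.classInner θ (χ ω) ≠ 0} < 2 * Nat.card W₁) :
    (∀ ω, Cfsg.classInner θ (χ ω) = 0) ∨
    (∃ (ψ₀ : ↥(W₁ ⊔ W₂) →* ℂˣ) (a : ℂ), ∀ ω, Cfsg.classInner θ (χ ω) =
      if (∀ w : ↥(W₁ ⊔ W₂), (w : G) ∈ W₂ → (ω * ψ₀⁻¹) w = 1) then a else 0) ∨
    (∃ (φ₀ : ↥(W₁ ⊔ W₂) →* ℂˣ) (a : ℂ), ∀ ω, Cfsg.classInner θ (χ ω) =
      if (∀ w : ↥(W₁ ⊔ W₂), (w : G) ∈ W₁ → (ω * φ₀⁻¹) w = 1) then a else 0) := by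
  obtain ⟨-, -, hinf, -, hcyc, -⟩ := hW
  haveI : Fintype ↥(W₁ ⊔ W₂) := Fintype.ofFinite _
  have hcomm : ∀ a b : ↥(W₁ ⊔ W₂), a * b = b * a := by
    intro a b
    haveI := hcyc
    letI := IsCyclic.commGroup (α := ↥(W₁ ⊔ W₂))
    exact mul_comm a b
  set U₁ := W₁.subgroupOf (W₁ ⊔ W₂) with hU₁
  set U₂ := W₂.subgroupOf (W₁ ⊔ W₂) with hU₂
  have hinf' : U₁ ⊓ U₂ = ⊥ := by
    rw [eq_bot_iff]
    intro x hx
    have h1 : (x : G) ∈ W₁ ⊓ W₂ := ⟨Subgroup.mem_subgroupOf.mp hx.1, Subgroup.mem_subgroupOf.mp hx.2⟩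
    rw [hinf, Subgroup.mem_bot] at h1
    rw [Subgroup.mem_bot]
    exact Subtype.ext h1
  have hsup' : U₁ ⊔ U₂ = ⊤ := by
    apply Subgroup.map_injective (Subgroup.subtype_injective (W₁ ⊔ W₂))
    rw [Subgroup.map_sup, hU₁, hU₂, Subgroup.subgroupOf_map_subtype, Subgroup.subgroupOf_map_subtype,
      inf_of_le_left le_sup_left, inf_of_le_left le_sup_right, ← MonoidHom.range_eq_map,
      Subgroup.range_subtype]
  have hc1 : Nat.card U₁ = Nat.card W₁ :=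
    Nat.card_congr (Subgroup.subgroupOfEquivOfLe (le_sup_left : W₁ ≤ W₁ ⊔ W₂)).toEquiv
  have hc2 : Nat.card U₂ = Nat.card W₂ :=
    Nat.card_congr (Subgroup.subgroupOfEquivOfLe (le_sup_right : W₂ ≤ W₁ ⊔ W₂)).toEquiv
  have hodd1 : Odd (Nat.card W₁) :=
    Odd.of_dvd_nat hodd (Subgroup.card_dvd_of_le (le_sup_left : W₁ ≤ W₁ ⊔ W₂))
  have hodd2 : Odd (Nat.card W₂) :=
    Odd.of_dvd_nat hodd (Subgroup.card_dvd_of_le (le_sup_right : W₂ ≤ W₁ ⊔ W₂))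
  have hlt' : Nat.card U₁ + 2 ≤ Nat.card U₂ := by
    rw [hc1, hc2]
    obtain ⟨k, hk⟩ := hodd1
    obtain ⟨l, hl⟩ := hodd2
    omega
  set a : (↥(W₁ ⊔ W₂) →* ℂˣ) → ℂ := fun ω => classInner θ (χ ω) with ha
  have hrel : ∀ φ ψ : ↥(W₁ ⊔ W₂) →* ℂˣ, (∀ u ∈ U₂, φ u = 1) → (∀ u ∈ U₁, ψ u = 1) →
      a (φ * ψ) = a φ + a ψ - a 1 := by
    intro φ ψ hφ hψ
    by_cases hφ1 : φ = 1
    · subst hφ1
      have e0 : (1 : ↥(W₁ ⊔ W₂) →* ℂˣ) * ψ = ψ := MonoidHom.ext fun x => by simp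
      rw [e0]; ring
    by_cases hψ1 : ψ = 1
    · subst hψ1
      have e0 : φ * (1 : ↥(W₁ ⊔ W₂) →* ℂˣ) = φ := MonoidHom.ext fun x => by simp
      rw [e0]; ring
    have h1 := hχ.induced_eq φ ψ hφ1 hψ1 (fun w hw => hφ w (Subgroup.mem_subgroupOf.mpr hw))
      (fun w hw => hψ w (Subgroup.mem_subgroupOf.mpr hw))
    have h2 : (fun g => 1 - χ φ g - χ ψ g + χ (φ * ψ) g) = χ 1 - χ φ - χ ψ + χ (φ * ψ) := by
      funext g
      simp [hχ.map_one]
    have h3 : classInner θ (indFun (W₁ ⊔ W₂)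
        (fun x => 1 - ((φ x : ℂˣ) : ℂ) - ((ψ x : ℂˣ) : ℂ) + ((φ x : ℂˣ) : ℂ) * ((ψ x : ℂˣ) : ℂ)))
        = a 1 - a φ - a ψ + a (φ * ψ) := by
      rw [h1, h2, classInner_add_right, classInner_sub_right, classInner_sub_right]
    have h4 : classInner θ (indFun (W₁ ⊔ W₂)
        (fun x => 1 - ((φ x : ℂˣ) : ℂ) - ((ψ x : ℂˣ) : ℂ) + ((φ x : ℂˣ) : ℂ) * ((ψ x : ℂˣ) : ℂ)))
        = 0 := by
      rw [frobenius_reciprocity' (W₁ ⊔ W₂) _ θ hθ]
      unfold classInner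
      rw [Finset.sum_eq_zero, mul_zero]
      intro x _
      show θ x * conj (1 - ((φ x : ℂˣ) : ℂ) - ((ψ x : ℂˣ) : ℂ) + ((φ x : ℂˣ) : ℂ) * ((ψ x : ℂˣ) : ℂ)) = 0
      by_cases hx1 : (x : G) ∈ W₁
      · rw [hψ x (Subgroup.mem_subgroupOf.mpr hx1)]
        simp
      · by_cases hx2 : (x : G) ∈ W₂
        · rw [hφ x (Subgroup.mem_subgroupOf.mpr hx2)]
          simp
        · rw [hθV x hx1 hx2, zero_mul]
    rw [h4] at h3
    linear_combination -h3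
  have hfew' : Nat.card {ω : ↥(W₁ ⊔ W₂) →* ℂˣ // a ω ≠ 0} < 2 * Nat.card U₁ := by
    rw [hc1]; exact hfew
  rcases dual_main' hcomm U₁ U₂ hinf' hsup' hlt' a hrel hfew' with h | ⟨ψ₀, a₀, h⟩ | ⟨φ₀, a₀, h⟩
  · exact Or.inl h
  · right; left
    refine ⟨ψ₀, a₀, fun ω => ?_⟩
    rw [show classInner θ (χ ω) = a ω from rfl, h ω]
    by_cases hh : ∀ w : ↥(W₁ ⊔ W₂), (w : G) ∈ W₂ → (ω * ψ₀⁻¹) w = 1
    · rw [if_pos hh, if_pos (fun u hu => hh u (Subgroup.mem_subgroupOf.mp hu))]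
    · rw [if_neg hh, if_neg (fun h' => hh (fun w hw => h' w (Subgroup.mem_subgroupOf.mpr hw)))]
  · right; right
    refine ⟨φ₀, a₀, fun ω => ?_⟩
    rw [show classInner θ (χ ω) = a ω from rfl, h ω]
    by_cases hh : ∀ w : ↥(W₁ ⊔ W₂), (w : G) ∈ W₁ → (ω * φ₀⁻¹) w = 1
    · rw [if_pos hh, if_pos (fun u hu => hh u (Subgroup.mem_subgroupOf.mp hu))]
    · rw [if_neg hh, if_neg (fun h' => hh (fun w hw => h' w (Subgroup.mem_subgroupOf.mpr hw)))]

end Main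

end Cfsg.Agent.Lib.Helper5_CycTI2
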