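import Mathlib
import Cfsg.Agent.Lib.Helper5_Sylow

set_option autoImplicit false

/-! Fusion of involutions in groups with dihedral Sylow 2-subgroups (helper5). -/

namespace Cfsg.Agent.Lib.Helper5_DihFusion

open DihedralGroup Subgroup

/-- The parity homomorphism on a dihedral group of even degree. -/
def par (N : ℕ) (hN : 2 ∣ N) : DihedralGroup N →* Multiplicative (ZMod 2) where
  toFun g := match g with
    | r i => Multiplicative.ofAdd (ZMod.castHom hN (ZMod 2) i)
    | sr i => Multiplicative.ofAdd (ZMod.castHom hN (ZMod 2) i)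
  map_one' := by
    show Multiplicative.ofAdd (ZMod.castHom hN (ZMod 2) 0) = 1
    rw [map_zero]; rfl
  map_mul' := by
    rintro (i | i) (j | j)
    · show Multiplicative.ofAdd (ZMod.castHom hN (ZMod 2) (i + j)) = _
      rw [map_add]; rfl
    · show Multiplicative.ofAdd (ZMod.castHom hN (ZMod 2) (j - i)) =
        Multiplicative.ofAdd (ZMod.castHom hN (ZMod 2) i) * Multiplicative.ofAdd (ZMod.castHom hN (ZMod 2) j)
      rw [map_sub, CharTwo.sub_eq_add, add_comm]; rfl
    · show Multiplicative.ofAdd (ZMod.castHom hN (ZMod 2) (i + j)) = _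
      rw [map_add]; rfl
    · show Multiplicative.ofAdd (ZMod.castHom hN (ZMod 2) (j - i)) =
        Multiplicative.ofAdd (ZMod.castHom hN (ZMod 2) i) * Multiplicative.ofAdd (ZMod.castHom hN (ZMod 2) j)
      rw [map_sub, CharTwo.sub_eq_add, add_comm]; rfl

theorem par_r (N : ℕ) (hN : 2 ∣ N) (i : ZMod N) :
    par N hN (r i) = Multiplicative.ofAdd (ZMod.castHom hN (ZMod 2) i) := rfl

theorem par_sr (N : ℕ) (hN : 2 ∣ N) (i : ZMod N) :
    par N hN (sr i) = Multiplicative.ofAdd (ZMod.castHom hN (ZMod 2) i) := rfl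

/-- Facts about `ZMod (4 K)`. -/
theorem zmod_half (K : ℕ) [NeZero K] (i : ZMod (4 * K)) (hi : i + i = 0) :
    i = 0 ∨ i = ((2 * K : ℕ) : ZMod (4 * K)) := by
  have hK : 0 < K := Nat.pos_of_ne_zero (NeZero.ne K)
  haveI : NeZero (4 * K) := ⟨by omega⟩
  have h1 : ((i.val + i.val : ℕ) : ZMod (4 * K)) = 0 := by
    rw [Nat.cast_add, ZMod.natCast_zmod_val, hi]
  rw [ZMod.natCast_eq_zero_iff] at h1
  have h2 : i.val < 4 * K := ZMod.val_lt i
  obtain ⟨c, hc⟩ := h1
  have hc' : c = 0 ∨ c = 1 := by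
    rcases c with _ | _ | c
    · left; rfl
    · right; rfl
    · exfalso; nlinarith
  rcases hc' with rfl | rfl
  · left
    have : i.val = 0 := by omega
    exact (ZMod.val_eq_zero i).mp this
  · right
    have : i.val = 2 * K := by omega
    rw [← this, ZMod.natCast_zmod_val]

theorem zmod_parity (K : ℕ) [NeZero K] (i : ZMod (4 * K)) :
    ∃ j : ZMod (4 * K), i = j + j ∨ i = j + j + 1 := by
  have hK : 0 < K := Nat.pos_of_ne_zero (NeZero.ne K)
  haveI : NeZero (4 * K) := ⟨by omega⟩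
  rcases Nat.even_or_odd' i.val with ⟨q, hq | hq⟩
  · refine ⟨(q : ZMod (4 * K)), Or.inl ?_⟩
    rw [← Nat.cast_add, ← two_mul, ← hq, ZMod.natCast_zmod_val]
  · refine ⟨(q : ZMod (4 * K)), Or.inr ?_⟩
    have : ((q : ZMod (4 * K)) + q + 1) = ((2 * q + 1 : ℕ) : ZMod (4 * K)) := by
      push_cast; ring
    rw [this, ← hq, ZMod.natCast_zmod_val]

theorem zmod_half_ne (K : ℕ) [NeZero K] : ((2 * K : ℕ) : ZMod (4 * K)) ≠ 0 := by
  have hK : 0 < K := Nat.pos_of_ne_zero (NeZero.ne K)
  rw [Ne, ZMod.natCast_eq_zero_iff]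
  intro h
  have := Nat.le_of_dvd (by omega) h
  omega

theorem zmod_half_add (K : ℕ) : ((2 * K : ℕ) : ZMod (4 * K)) + ((2 * K : ℕ) : ZMod (4 * K)) = 0 := by
  rw [← Nat.cast_add, ZMod.natCast_eq_zero_iff]
  exact ⟨1, by ring⟩

theorem zmod_half_even (K : ℕ) :
    ((2 * K : ℕ) : ZMod (4 * K)) = (K : ZMod (4 * K)) + (K : ZMod (4 * K)) := by
  push_cast; ring

section Main

variable {G : Type*} [Group G] [Finite G] {K : ℕ} [NeZero K]
  (P : Sylow 2 G) (e : ↥(P : Subgroup G) ≃* DihedralGroup (4 * K))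

/-- The element of `G` corresponding to an element of the dihedral group. -/
def el (q : DihedralGroup (4 * K)) : G := ((e.symm q : ↥(P : Subgroup G)) : G)

theorem el_mem (q : DihedralGroup (4 * K)) : el P e q ∈ (P : Subgroup G) := (e.symm q).2

theorem el_mul (q q' : DihedralGroup (4 * K)) : el P e (q * q') = el P e q * el P e q' := by
  unfold el
  rw [map_mul]; rfl

theorem el_one : el P e 1 = 1 := by
  unfold el
  rw [map_one]; rfl

theorem el_inv (q : DihedralGroup (4 * K)) : el P e q⁻¹ = (el P e q)⁻¹ := by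
  unfold el
  rw [map_inv]; rfl

theorem el_inj {q q' : DihedralGroup (4 * K)} (h : el P e q = el P e q') : q = q' := by
  unfold el at h
  exact e.symm.injective (Subtype.ext h)

theorem exists_el {p : G} (hp : p ∈ (P : Subgroup G)) : ∃ q, p = el P e q :=
  ⟨e ⟨p, hp⟩, by unfold el; rw [MulEquiv.symm_apply_apply]⟩

theorem el_conj (q q' : DihedralGroup (4 * K)) :
    el P e q * el P e q' * (el P e q)⁻¹ = el P e (q * q' * q⁻¹) := by
  rw [el_mul, el_mul, el_inv]

theorem el_pow (q : DihedralGroup (4 * K)) (k : ℕ) : el P e (q ^ k) = el P e q ^ k := by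
  induction k with
  | zero => rw [pow_zero, pow_zero, el_one]
  | succ k ih => rw [pow_succ, pow_succ, el_mul, ih]

theorem orderOf_el (q : DihedralGroup (4 * K)) : orderOf (el P e q) = orderOf q := by
  unfold el
  rw [Subgroup.orderOf_coe, MulEquiv.orderOf_eq]

/-- the central involution -/
def zz : G := el P e (r ((2 * K : ℕ) : ZMod (4 * K)))

/-- the two reflections -/
def aa : G := el P e (sr 0)

def bb : G := el P e (sr 1)

theorem orderOf_sr' (i : ZMod (4 * K)) : orderOf (sr i : DihedralGroup (4 * K)) = 2 :=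
  DihedralGroup.orderOf_sr i

theorem orderOf_zz : orderOf (zz P e) = 2 := by
  unfold zz
  rw [orderOf_el]
  haveI : Fact (Nat.Prime 2) := ⟨Nat.prime_two⟩
  apply orderOf_eq_prime
  · rw [pow_two, r_mul_r, zmod_half_add]; rfl
  · intro h
    have h1 : (r ((2 * K : ℕ) : ZMod (4 * K)) : DihedralGroup (4 * K)) = r 0 := h
    rw [r.injEq] at h1
    exact zmod_half_ne K h1

theorem orderOf_aa : orderOf (aa P e) = 2 := by
  unfold aa; rw [orderOf_el]; exact orderOf_sr' _

theorem orderOf_bb : orderOf (bb P e) = 2 := by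
  unfold bb; rw [orderOf_el]; exact orderOf_sr' _

/-- Involutions of `P`. -/
theorem invol_P {t : G} (ht : t ∈ (P : Subgroup G)) (ht2 : orderOf t = 2) :
    t = zz P e ∨ ∃ i, t = el P e (sr i) := by
  obtain ⟨q, rfl⟩ := exists_el P e ht
  rw [orderOf_el] at ht2
  rcases q with i | i
  · left
    have h1 : (r i : DihedralGroup (4 * K)) ^ 2 = 1 := by rw [← ht2]; exact pow_orderOf_eq_one _
    rw [pow_two, r_mul_r, one_def, r.injEq] at h1
    rcases zmod_half K i h1 with h | h
    · exfalso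
      rw [h, ← one_def, orderOf_one] at ht2
      omega
    · unfold zz; rw [h]
  · right; exact ⟨i, rfl⟩

/-- Every reflection is conjugate to `a` or `b`. -/
theorem refl_conj (i : ZMod (4 * K)) :
    IsConj (aa P e) (el P e (sr i)) ∨ IsConj (bb P e) (el P e (sr i)) := by
  obtain ⟨j, hj | hj⟩ := zmod_parity K i
  · left
    rw [isConj_iff]
    refine ⟨el P e (r (-j)), ?_⟩
    unfold aa
    rw [el_conj]
    congr 1
    rw [inv_r, r_mul_sr, sr_mul_r, hj]
    congr 1; ring
  · right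
    rw [isConj_iff]
    refine ⟨el P e (r (-j)), ?_⟩
    unfold bb
    rw [el_conj]
    congr 1
    rw [inv_r, r_mul_sr, sr_mul_r, hj]
    congr 1; ring

theorem conj_into_P (t : G) (ht : orderOf t = 2) : ∃ g : G, g * t * g⁻¹ ∈ (P : Subgroup G) := by
  haveI : Fact (Nat.Prime 2) := ⟨Nat.prime_two⟩
  have hxp : IsPGroup 2 (Subgroup.zpowers t) := by
    apply IsPGroup.of_card (n := 1)
    rw [Nat.card_zpowers, ht, pow_one]
  obtain ⟨g, hg⟩ := Cfsg.Agent.Lib.Helper5_Sylow.exists_conj_le_sylow hxp P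
  exact ⟨g, hg ⟨t, Subgroup.mem_zpowers t, by simp [MulAut.conj_apply]⟩⟩

theorem orderOf_conj'' (g t : G) : orderOf (g * t * g⁻¹) = orderOf t := by
  have := MulEquiv.orderOf_eq (MulAut.conj g) t
  simpa [MulAut.conj_apply] using this

/-- Every involution of `G` is conjugate to `z`, `a` or `b`. -/
theorem invol_G (t : G) (ht : orderOf t = 2) :
    IsConj (zz P e) t ∨ IsConj (aa P e) t ∨ IsConj (bb P e) t := by
  obtain ⟨g, hg⟩ := conj_into_P P t ht
  have ht' : IsConj (g * t * g⁻¹) t := by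
    apply IsConj.symm
    rw [isConj_iff]; exact ⟨g, rfl⟩
  rcases invol_P P e hg (by rw [orderOf_conj'']; exact ht) with h | ⟨i, h⟩
  · left; rw [← h]; exact ht'
  · right
    rw [h] at ht'
    rcases refl_conj P e i with h1 | h1
    · left; exact h1.trans ht'
    · right; exact h1.trans ht'

include e in
theorem card_P : Nat.card (P : Subgroup G) = 2 * (4 * K) := by
  rw [Nat.card_congr e.toEquiv, DihedralGroup.nat_card]

omit [Finite G] in
theorem K_pos : 0 < K := Nat.pos_of_ne_zero (NeZero.ne K)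

/-- The rotation subgroup. -/
def Rot : Subgroup G := zpowers (el P e (r 1))

theorem Rot_le : Rot P e ≤ (P : Subgroup G) := zpowers_le.mpr (el_mem P e _)

theorem mem_Rot {g : G} (hg : g ∈ Rot P e) : ∃ i, g = el P e (r i) := by
  have hK := K_pos (K := K)
  haveI : NeZero (4 * K) := ⟨by omega⟩
  obtain ⟨k, rfl⟩ := hg
  simp only
  have h1 : el P e (r 1) ^ k = el P e (r 1) ^ (k % ((4 * K : ℕ) : ℤ)) := by
    have := zpow_mod_orderOf (el P e (r 1)) k
    rw [orderOf_el, DihedralGroup.orderOf_r_one] at this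
    exact this.symm
  have h2 : 0 ≤ k % ((4 * K : ℕ) : ℤ) := Int.emod_nonneg _ (by exact_mod_cast (NeZero.ne (4 * K)))
  obtain ⟨m, hm⟩ := Int.eq_ofNat_of_zero_le h2
  rw [h1, hm, zpow_natCast, ← el_pow, r_one_pow]
  exact ⟨_, rfl⟩

theorem relIndex_Rot : (Rot P e).relIndex (P : Subgroup G) = 2 := by
  have hK := K_pos (K := K)
  haveI : NeZero (4 * K) := ⟨by omega⟩
  have h1 : orderOf (el P e (r 1)) = 4 * K := by
    rw [orderOf_el, DihedralGroup.orderOf_r_one]
  have h3 := Subgroup.card_mul_index ((Rot P e).subgroupOf (P : Subgroup G))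
  have h4 : Nat.card ((Rot P e).subgroupOf (P : Subgroup G)) = Nat.card (Rot P e) :=
    Nat.card_congr (Subgroup.subgroupOfEquivOfLe (Rot_le P e)).toEquiv
  have h5 : Nat.card (Rot P e) = 4 * K := by
    unfold Rot; rw [Nat.card_zpowers, h1]
  rw [h4, h5, card_P P e] at h3
  show ((Rot P e).subgroupOf (P : Subgroup G)).index = 2
  nlinarith

theorem invol_Rot {t : G} (ht : t ∈ Rot P e) (ht2 : orderOf t = 2) : t = zz P e := by
  rcases invol_P P e (Rot_le P e ht) ht2 with h | ⟨i, h⟩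
  · exact h
  · exfalso
    obtain ⟨j, hj⟩ := mem_Rot P e ht
    rw [h] at hj
    have := el_inj P e hj
    exact absurd this (by simp)

/-- `z` is a square, hence lies in every subgroup of index 2. -/
theorem zz_mem_of_index_two (H : Subgroup G) (hH : H.index = 2) : zz P e ∈ H := by
  have h1 : zz P e = el P e (r (K : ZMod (4 * K))) * el P e (r (K : ZMod (4 * K))) := by
    unfold zz
    rw [← el_mul, r_mul_r, zmod_half_even]
  rw [h1]
  exact (Subgroup.mul_mem_iff_of_index_two hH).mpr Iff.rfl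

theorem rot_one_eq : el P e (r 1) = aa P e * bb P e := by
  unfold aa bb
  rw [← el_mul, sr_mul_sr, sub_zero]

/-- If a subgroup contains `a` and `b` it contains `P`. -/
theorem P_le_of_mem (H : Subgroup G) (ha : aa P e ∈ H) (hb : bb P e ∈ H) :
    (P : Subgroup G) ≤ H := by
  have hK := K_pos (K := K)
  haveI : NeZero (4 * K) := ⟨by omega⟩
  have hr : el P e (r 1) ∈ H := by rw [rot_one_eq]; exact mul_mem ha hb
  have hri : ∀ i : ZMod (4 * K), el P e (r i) ∈ H := by
    intro i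
    have : (r i : DihedralGroup (4 * K)) = r 1 ^ i.val := by
      rw [r_one_pow, ZMod.natCast_zmod_val]
    rw [this, el_pow]
    exact pow_mem hr _
  intro p hp
  obtain ⟨q, rfl⟩ := exists_el P e hp
  rcases q with i | i
  · exact hri i
  · have : (sr i : DihedralGroup (4 * K)) = sr 0 * r i := by rw [sr_mul_r, zero_add]
    rw [this, el_mul]
    exact mul_mem ha (hri i)

theorem not_le_of_index_two (H : Subgroup G) (hH : H.index = 2) : ¬ (P : Subgroup G) ≤ H := by
  intro hle
  have h1 : H.index ∣ (P : Subgroup G).index := Subgroup.index_dvd_of_le hle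
  rw [hH] at h1
  exact P.not_dvd_index h1

/-- `a` and `b` are not conjugate in `P`. -/
theorem not_conj_P (y : G) (hy : y ∈ (P : Subgroup G)) : y * aa P e * y⁻¹ ≠ bb P e := by
  obtain ⟨q, rfl⟩ := exists_el P e hy
  unfold aa bb
  rw [el_conj]
  intro h
  have h1 := el_inj P e h
  have h2 := congrArg (par (4 * K) ⟨2 * K, by ring⟩) h1
  rw [map_mul, map_mul, map_inv, par_sr, par_sr, map_zero, map_one] at h2
  have h3 : (Multiplicative.ofAdd (0 : ZMod 2)) = 1 := rfl
  rw [h3, mul_one, mul_inv_cancel] at h2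
  have h4 : Multiplicative.toAdd (1 : Multiplicative (ZMod 2)) = Multiplicative.toAdd (Multiplicative.ofAdd (1 : ZMod 2)) := by
    rw [h2]
  simp at h4

/-- Four-subgroups: one involution is conjugate to `z`, the others to reflections. -/
theorem four_group (Q : Subgroup G) (hQ4 : Nat.card Q = 4) (hQ2 : ∀ x ∈ Q, x ^ 2 = 1) :
    ∃ t₀ ∈ Q, IsConj (zz P e) t₀ ∧ ∀ t ∈ Q, t ≠ 1 → t ≠ t₀ →
      IsConj (aa P e) t ∨ IsConj (bb P e) t := by
  haveI : Fact (Nat.Prime 2) := ⟨Nat.prime_two⟩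
  have hQp : IsPGroup 2 Q := IsPGroup.of_card (n := 2) (by rw [hQ4]; norm_num)
  obtain ⟨c, hc⟩ := Cfsg.Agent.Lib.Helper5_Sylow.exists_conj_le_sylow hQp P
  have hcQ : ∀ t ∈ Q, c * t * c⁻¹ ∈ (P : Subgroup G) := fun t ht =>
    hc ⟨t, ht, by simp [MulAut.conj_apply]⟩
  have hord : ∀ t ∈ Q, t ≠ 1 → orderOf t = 2 := fun t ht ht1 =>
    orderOf_eq_prime (hQ2 t ht) ht1
  have hcases : ∀ t ∈ Q, t ≠ 1 → c * t * c⁻¹ = zz P e ∨ ∃ i, c * t * c⁻¹ = el P e (sr i) := by
    intro t ht ht1
    exact invol_P P e (hcQ t ht) (by rw [orderOf_conj'']; exact hord t ht ht1)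
  have hcard2 : ∀ t : G, t ^ 2 = 1 → ¬ Q ≤ zpowers t := by
    intro t ht hle
    have h1 := Subgroup.card_le_of_le hle
    rw [hQ4, Nat.card_zpowers] at h1
    have h2 : orderOf t ∣ 2 := orderOf_dvd_of_pow_eq_one ht
    have := Nat.le_of_dvd (by norm_num) h2
    omega
  -- `z` is (conjugate to) an element of `Q`
  have hz : ∃ t₀ ∈ Q, c * t₀ * c⁻¹ = zz P e := by
    obtain ⟨t1, ht1Q, ht11⟩ : ∃ t ∈ Q, t ≠ 1 := by
      by_contra hno
      push_neg at hno
      apply hcard2 1 (one_pow 2)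
      intro t ht
      rw [hno t ht]; exact one_mem _
    rcases hcases t1 ht1Q ht11 with h1 | ⟨i, h1⟩
    · exact ⟨t1, ht1Q, h1⟩
    obtain ⟨t2, ht2Q, ht2⟩ : ∃ t ∈ Q, t ∉ zpowers t1 := by
      by_contra hno
      push_neg at hno
      exact hcard2 t1 (hQ2 t1 ht1Q) hno
    have ht21 : t2 ≠ 1 := fun h => ht2 (h ▸ one_mem _)
    have ht2t1 : t2 ≠ t1 := fun h => ht2 (h ▸ mem_zpowers _)
    rcases hcases t2 ht2Q ht21 with h2 | ⟨j, h2⟩
    · exact ⟨t2, ht2Q, h2⟩
    refine ⟨t1 * t2, mul_mem ht1Q ht2Q, ?_⟩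
    have h12 : t1 * t2 ≠ 1 := by
      intro h
      apply ht2t1
      have h3 : t1 * t1 = 1 := by rw [← pow_two]; exact hQ2 t1 ht1Q
      exact (mul_left_cancel (h.trans h3.symm))
    have h3 : c * (t1 * t2) * c⁻¹ = el P e (r (j - i)) := by
      have : c * (t1 * t2) * c⁻¹ = (c * t1 * c⁻¹) * (c * t2 * c⁻¹) := by group
      rw [this, h1, h2, ← el_mul, sr_mul_sr]
    rcases hcases (t1 * t2) (mul_mem ht1Q ht2Q) h12 with h4 | ⟨k, h4⟩
    · exact h4
    · rw [h3] at h4
      exact absurd (el_inj P e h4) (by simp)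
  obtain ⟨t₀, ht₀Q, ht₀⟩ := hz
  refine ⟨t₀, ht₀Q, ?_, ?_⟩
  · rw [← ht₀]
    apply IsConj.symm
    rw [isConj_iff]; exact ⟨c, rfl⟩
  · intro t ht ht1 htt₀
    have htc : IsConj (c * t * c⁻¹) t := by
      apply IsConj.symm
      rw [isConj_iff]; exact ⟨c, rfl⟩
    rcases hcases t ht ht1 with h | ⟨i, h⟩
    · exfalso
      apply htt₀
      have : c * t * c⁻¹ = c * t₀ * c⁻¹ := by rw [h, ht₀]
      exact mul_left_cancel (mul_right_cancel this)
    · rw [h] at htc
      rcases refl_conj P e i with h1 | h1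
      · left; exact h1.trans htc
      · right; exact h1.trans htc

end Main

end Cfsg.Agent.Lib.Helper5_DihFusion
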