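import Mathlib
import Cfsg.Agent.Lib.Helper5_DihFusion

set_option autoImplicit false

/-! Injective endomorphisms of `D_{4K}` and the parity character (helper5). -/

namespace Cfsg.Agent.Lib.Helper5_DihAut

open DihedralGroup Cfsg.Agent.Lib.Helper5_DihFusion

variable {K : ℕ} [NeZero K]

theorem two_dvd (K : ℕ) : 2 ∣ 4 * K := ⟨2 * K, by ring⟩

/-- reduction mod 2 -/
def c2 (K : ℕ) : ZMod (4 * K) →+* ZMod 2 := ZMod.castHom (two_dvd K) (ZMod 2)

/-- parity of an element -/
def pa : DihedralGroup (4 * K) → ZMod 2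
  | r i => c2 K i
  | sr i => c2 K i

/-- reflection indicator -/
def ro : DihedralGroup (4 * K) → ZMod 2
  | r _ => 0
  | sr _ => 1

@[simp] theorem pa_r (i : ZMod (4 * K)) : pa (r i) = c2 K i := rfl
@[simp] theorem pa_sr (i : ZMod (4 * K)) : pa (sr i) = c2 K i := rfl
@[simp] theorem ro_r (i : ZMod (4 * K)) : ro (r i : DihedralGroup (4 * K)) = 0 := rfl
@[simp] theorem ro_sr (i : ZMod (4 * K)) : ro (sr i : DihedralGroup (4 * K)) = 1 := rfl

theorem pa_mul (q q' : DihedralGroup (4 * K)) : pa (q * q') = pa q + pa q' := by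
  rcases q with i | i <;> rcases q' with j | j
  · show c2 K (i + j) = _
    rw [map_add]; rfl
  · show c2 K (j - i) = c2 K i + c2 K j
    rw [map_sub, CharTwo.sub_eq_add, add_comm]
  · show c2 K (i + j) = _
    rw [map_add]; rfl
  · show c2 K (j - i) = c2 K i + c2 K j
    rw [map_sub, CharTwo.sub_eq_add, add_comm]

theorem pa_one : pa (1 : DihedralGroup (4 * K)) = 0 := by
  show c2 K 0 = 0
  exact map_zero _

theorem pa_inv (q : DihedralGroup (4 * K)) : pa q⁻¹ = pa q := by
  have h := pa_mul q q⁻¹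
  rw [mul_inv_cancel, pa_one] at h
  have h2 : pa q + pa q = 0 := CharTwo.add_self_eq_zero _
  have : pa q + pa q⁻¹ = pa q + pa q := by rw [← h, h2]
  exact (add_left_cancel this)

theorem pa_conj (y q : DihedralGroup (4 * K)) : pa (y * q * y⁻¹) = pa q := by
  rw [pa_mul, pa_mul, pa_inv]
  have h2 : pa y + pa y = 0 := CharTwo.add_self_eq_zero _
  calc pa y + pa q + pa y = pa q + (pa y + pa y) := by ring
    _ = pa q := by rw [h2, add_zero]

theorem two_ne_zero' : (2 : ZMod (4 * K)) ≠ 0 := by
  have hK : 0 < K := Nat.pos_of_ne_zero (NeZero.ne K)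
  have : ((2 : ℕ) : ZMod (4 * K)) ≠ 0 := by
    rw [Ne, ZMod.natCast_eq_zero_iff]
    intro h
    have := Nat.le_of_dvd (by norm_num) h
    omega
  simpa using this

theorem c2_one : c2 K (1 : ZMod (4 * K)) = 1 := map_one _

variable (α : DihedralGroup (4 * K) →* DihedralGroup (4 * K)) (hα : Function.Injective α)

include hα

/-- the image of the rotation generator is an odd rotation -/
theorem image_r_one : ∃ j : ZMod (4 * K), α (r 1) = r j ∧ c2 K j = 1 := by
  have hK : 0 < K := Nat.pos_of_ne_zero (NeZero.ne K)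
  rcases h : α (r 1) with j | j
  · refine ⟨j, rfl, ?_⟩
    obtain ⟨j', hj | hj⟩ := zmod_parity K j
    · exfalso
      -- (r j)^(2K) = 1
      have h1 : α ((r 1) ^ (2 * K)) = 1 := by
        rw [map_pow, h, r_pow, hj]
        have : (j' + j') * ((2 * K : ℕ) : ZMod (4 * K)) = 0 := by
          have : (j' + j') * ((2 * K : ℕ) : ZMod (4 * K)) = j' * ((4 * K : ℕ) : ZMod (4 * K)) := by
            push_cast; ring
          rw [this, ZMod.natCast_self, mul_zero]
        rw [this]; rfl
      have h2 : (r 1 : DihedralGroup (4 * K)) ^ (2 * K) = 1 := hα (h1.trans (map_one α).symm)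
      rw [r_one_pow] at h2
      have h3 : ((2 * K : ℕ) : ZMod (4 * K)) = 0 := by
        have := congrArg (fun q : DihedralGroup (4 * K) => match q with | r i => i | sr i => i) h2
        exact this
      exact zmod_half_ne K h3
    · rw [hj, map_add, map_add, c2_one]
      have : c2 K j' + c2 K j' = 0 := CharTwo.add_self_eq_zero _
      rw [this, zero_add]
  · exfalso
    have h1 : α ((r 1) ^ 2) = 1 := by
      rw [map_pow, h, sq, sr_mul_self]
    have h2 : (r 1 : DihedralGroup (4 * K)) ^ 2 = 1 := hα (h1.trans (map_one α).symm)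
    rw [r_one_pow] at h2
    have h3 : ((2 : ℕ) : ZMod (4 * K)) = 0 := by
      have := congrArg (fun q : DihedralGroup (4 * K) => match q with | r i => i | sr i => i) h2
      exact this
    apply two_ne_zero' (K := K)
    simpa using h3

/-- the image of a reflection is a reflection -/
theorem image_sr_zero : ∃ i : ZMod (4 * K), α (sr 0) = sr i := by
  obtain ⟨j, hj, -⟩ := image_r_one α hα
  rcases h : α (sr 0) with i | i
  · exfalso
    have h1 : α (sr 0 * r 1) = α (r 1 * sr 0) := by
      rw [map_mul, map_mul, h, hj, r_mul_r, r_mul_r, add_comm]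
    have h2 := hα h1
    rw [sr_mul_r, r_mul_sr] at h2
    have h3 : (0 : ZMod (4 * K)) + 1 = 0 - 1 := by
      have := congrArg (fun q : DihedralGroup (4 * K) => match q with | r i => i | sr i => i) h2
      exact this
    apply two_ne_zero' (K := K)
    have : (2 : ZMod (4 * K)) = (0 + 1) - (0 - 1) := by ring
    rw [this, h3, sub_self]
  · exact ⟨i, rfl⟩

/-- the twist of an injective endomorphism -/
noncomputable def dl : ZMod 2 := pa (α (sr 0))

omit hα in
theorem dl_def : dl α = pa (α (sr 0)) := rfl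

theorem image_r (k : ZMod (4 * K)) : ∃ j : ZMod (4 * K), α (r k) = r j ∧ c2 K j = c2 K k := by
  have hK : 0 < K := Nat.pos_of_ne_zero (NeZero.ne K)
  haveI : NeZero (4 * K) := ⟨by omega⟩
  obtain ⟨j, hj, hj1⟩ := image_r_one α hα
  refine ⟨j * (k.val : ZMod (4 * K)), ?_, ?_⟩
  · have : (r k : DihedralGroup (4 * K)) = (r 1) ^ k.val := by
      rw [r_one_pow, ZMod.natCast_zmod_val]
    rw [this, map_pow, hj, r_pow]
  · rw [map_mul, hj1, one_mul, ZMod.natCast_zmod_val]

theorem pa_image (q : DihedralGroup (4 * K)) : pa (α q) = pa q + dl α * ro q ∧ ro (α q) = ro q := by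
  rcases q with k | k
  · obtain ⟨j, hj, hjk⟩ := image_r α hα k
    rw [hj]
    simp only [pa_r, ro_r, mul_zero, add_zero]
    exact ⟨hjk, trivial⟩
  · obtain ⟨j, hj, hjk⟩ := image_r α hα k
    obtain ⟨i, hi⟩ := image_sr_zero α hα
    have h1 : (sr k : DihedralGroup (4 * K)) = sr 0 * r k := by rw [sr_mul_r, zero_add]
    have h2 : α (sr k) = sr (i + j) := by rw [h1, map_mul, hi, hj, sr_mul_r]
    rw [h2, dl_def, hi]
    simp only [pa_sr, ro_sr, mul_one]
    refine ⟨?_, trivial⟩
    rw [map_add, hjk, add_comm]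

omit hα in
theorem dl_comp (β : DihedralGroup (4 * K) →* DihedralGroup (4 * K))
    (hα : Function.Injective α) (hβ : Function.Injective β) :
    dl (β.comp α) = dl α + dl β := by
  rw [dl_def, MonoidHom.comp_apply, (pa_image β hβ _).1, (pa_image α hα _).2, ro_sr, mul_one,
    ← dl_def]

omit hα in
theorem dl_conj (y : DihedralGroup (4 * K)) :
    dl ((MulAut.conj y).toMonoidHom : DihedralGroup (4 * K) →* DihedralGroup (4 * K)) = 0 := by
  rw [dl_def]
  show pa (y * sr 0 * y⁻¹) = 0
  rw [pa_conj, pa_sr, map_zero]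

end Cfsg.Agent.Lib.Helper5_DihAut
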