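import Mathlib

namespace Cfsg.Agent.Lib.Helper5_DihFour

open DihedralGroup

theorem double_zero_cases (m : ℕ) [NeZero m] (j : ZMod m) (hj : j + j = 0) :
    j = 0 ∨ j = ((m / 2 : ℕ) : ZMod m) := by
  have hm : 0 < m := Nat.pos_of_ne_zero (NeZero.ne m)
  have h1 : ((2 * j.val : ℕ) : ZMod m) = 0 := by
    rw [Nat.cast_mul, ZMod.natCast_zmod_val]
    rw [← hj]
    push_cast
    ring
  rw [ZMod.natCast_eq_zero_iff] at h1
  have hlt : j.val < m := ZMod.val_lt j
  obtain ⟨c, hc⟩ := h1
  have hc2 : c = 0 ∨ c = 1 := by
    rcases c with _ | _ | c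
    · left; rfl
    · right; rfl
    · exfalso
      have : m * (c + 1 + 1) ≥ m * 2 := Nat.mul_le_mul_left m (by omega)
      omega
  rcases hc2 with rfl | rfl
  · left
    have : j.val = 0 := by omega
    exact (ZMod.val_eq_zero j).mp this
  · right
    have h2 : j.val = m / 2 := by omega
    rw [← h2, ZMod.natCast_zmod_val]

theorem card_double_zero_le (m : ℕ) [NeZero m] :
    (Finset.univ.filter (fun j : ZMod m => j + j = 0)).card ≤ 2 := by
  classical
  have hsub : Finset.univ.filter (fun j : ZMod m => j + j = 0)
      ⊆ {(0 : ZMod m), ((m / 2 : ℕ) : ZMod m)} := by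
    intro j hj
    rw [Finset.mem_filter] at hj
    rcases double_zero_cases m j hj.2 with h | h
    · rw [h]; exact Finset.mem_insert_self _ _
    · rw [h]; exact Finset.mem_insert_of_mem (Finset.mem_singleton_self _)
  exact (Finset.card_le_card hsub).trans Finset.card_le_two

theorem card_centralizer_sr_le (m : ℕ) [NeZero m] (i : ZMod m) :
    Nat.card (Subgroup.centralizer ({sr i} : Set (DihedralGroup m))) ≤ 4 := by
  classical
  let Z2 : Finset (ZMod m) := Finset.univ.filter (fun j : ZMod m => j + j = 0)
  let S₀ : Finset (DihedralGroup m) := Z2.image r ∪ Z2.image (fun j => sr (j + i))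
  have hS₀ : S₀.card ≤ 4 := by
    have h1 : (Z2.image r).card ≤ 2 := Finset.card_image_le.trans (card_double_zero_le m)
    have h2 : (Z2.image (fun j => sr (j + i))).card ≤ 2 :=
      Finset.card_image_le.trans (card_double_zero_le m)
    exact (Finset.card_union_le _ _).trans (by omega)
  have hsub : ((Subgroup.centralizer ({sr i} : Set (DihedralGroup m)) : Subgroup _) : Set _)
      ⊆ (S₀ : Set (DihedralGroup m)) := by
    intro g hg
    have hc : sr i * g = g * sr i :=
      (Subgroup.mem_centralizer_iff.mp hg) (sr i) (Set.mem_singleton _)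
    rw [Finset.mem_coe, Finset.mem_union]
    cases g with
    | r j =>
      left
      rw [sr_mul_r, r_mul_sr] at hc
      have h1 : i + j = i - j := by injection hc
      rw [Finset.mem_image]
      refine ⟨j, ?_, rfl⟩
      rw [Finset.mem_filter]
      refine ⟨Finset.mem_univ _, ?_⟩
      linear_combination h1
    | sr j =>
      right
      rw [sr_mul_sr, sr_mul_sr] at hc
      have h1 : j - i = i - j := by injection hc
      rw [Finset.mem_image]
      refine ⟨j - i, ?_, ?_⟩
      · rw [Finset.mem_filter]
        refine ⟨Finset.mem_univ _, ?_⟩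
        linear_combination h1
      · show sr (j - i + i) = sr j
        rw [sub_add_cancel]
  change (SetLike.coe (Subgroup.centralizer ({sr i} : Set (DihedralGroup m)))).ncard ≤ 4
  calc _ ≤ (S₀ : Set (DihedralGroup m)).ncard := Set.ncard_le_ncard hsub (Finset.finite_toSet _)
    _ = S₀.card := Set.ncard_coe_finset S₀
    _ ≤ 4 := hS₀

/-- A four-group (order 4, exponent 2) in a dihedral group is self-centralizing. -/
theorem centralizer_four_dihedral {m : ℕ} [NeZero m] (T : Subgroup (DihedralGroup m))
    (hT4 : Nat.card T = 4) (hsq : ∀ g ∈ T, g * g = 1) :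
    Subgroup.centralizer (T : Set (DihedralGroup m)) = T := by
  classical
  have hcomm : ∀ a ∈ T, ∀ b ∈ T, a * b = b * a := by
    intro a ha b hb
    have h1 := hsq _ (T.mul_mem ha hb)
    have h2 := hsq a ha
    have h3 := hsq b hb
    calc a * b = a * (a * b * (a * b)) * b := by rw [h1, mul_one]
      _ = (a * a) * (b * a) * (b * b) := by group
      _ = b * a := by rw [h2, h3, one_mul, mul_one]
  have hle : T ≤ Subgroup.centralizer (T : Set (DihedralGroup m)) := by
    intro a ha
    rw [Subgroup.mem_centralizer_iff]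
    intro b hb
    exact hcomm b hb a ha
  -- there is a reflection in T
  obtain ⟨i, hi⟩ : ∃ i, sr i ∈ T := by
    by_contra hcon
    push Not at hcon
    have hsubT : (T : Set (DihedralGroup m))
        ⊆ ((Finset.univ.filter (fun j : ZMod m => j + j = 0)).image r : Finset (DihedralGroup m)) := by
      intro g hg
      cases g with
      | r j =>
        rw [Finset.mem_coe, Finset.mem_image]
        refine ⟨j, ?_, rfl⟩
        rw [Finset.mem_filter]
        refine ⟨Finset.mem_univ _, ?_⟩
        have := hsq _ hg
        rw [r_mul_r, one_def] at this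
        injection this
      | sr j => exact absurd hg (hcon j)
    have h1 : Nat.card T ≤ 2 := by
      change (T : Set (DihedralGroup m)).ncard ≤ 2
      calc _ ≤ (((Finset.univ.filter (fun j : ZMod m => j + j = 0)).image r :
              Finset (DihedralGroup m)) : Set (DihedralGroup m)).ncard :=
            Set.ncard_le_ncard hsubT (Finset.finite_toSet _)
        _ = ((Finset.univ.filter (fun j : ZMod m => j + j = 0)).image r).card :=
            Set.ncard_coe_finset _
        _ ≤ 2 := Finset.card_image_le.trans (card_double_zero_le m)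
    omega
  have hle2 : Subgroup.centralizer (T : Set (DihedralGroup m))
      ≤ Subgroup.centralizer ({sr i} : Set (DihedralGroup m)) :=
    Subgroup.centralizer_le (Set.singleton_subset_iff.mpr hi)
  have hcard : Nat.card (Subgroup.centralizer (T : Set (DihedralGroup m))) ≤ 4 :=
    (Subgroup.card_le_of_le hle2).trans (card_centralizer_sr_le m i)
  exact (Subgroup.eq_of_le_of_card_ge hle (by rw [hT4]; exact hcard)).symm


/-- reduction: if `φ : R → Q` has kernel `⟨t⟩` (order 2, inside `A`), `A` elementary abelian of
order 8 and four-groups of `Q` are self-centralizing, then `A` is self-centralizing. -/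
theorem centralizer_eq_of_quotient {R Q : Type*} [Group R] [Finite R] [Group Q] (t : R)
    (ht : orderOf t = 2) (A : Subgroup R)
    (hAcomm : ∀ a ∈ A, ∀ b ∈ A, a * b = b * a) (hAsq : ∀ a ∈ A, a ^ 2 = 1)
    (hA8 : Nat.card A = 8) (htA : t ∈ A)
    (φ : R →* Q) (hker : φ.ker = Subgroup.zpowers t)
    (hSC : ∀ T : Subgroup Q, Nat.card T = 4 → (∀ g ∈ T, g * g = 1) →
        Subgroup.centralizer (T : Set Q) = T) : Subgroup.centralizer (A : Set R) = A := by
  have hkerA : φ.ker ≤ A := by rw [hker]; exact (Subgroup.zpowers_le).mpr htA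
  have hT4 : Nat.card (A.map φ) = 4 := by
    rw [← Subgroup.relIndex_ker]
    have h1 := Subgroup.relIndex_mul_relIndex ⊥ φ.ker A bot_le hkerA
    rw [Subgroup.relIndex_bot_left, Subgroup.relIndex_bot_left, hker, Nat.card_zpowers, ht,
      hA8] at h1
    rw [hker]
    omega
  have hsq : ∀ g ∈ A.map φ, g * g = 1 := by
    rintro _ ⟨a, ha, rfl⟩
    rw [← map_mul, ← pow_two, hAsq a ha, map_one]
  have hC := hSC (A.map φ) hT4 hsq
  apply le_antisymm
  · intro g hg
    have hφg : φ g ∈ Subgroup.centralizer ((A.map φ : Subgroup Q) : Set Q) := by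
      rw [Subgroup.mem_centralizer_iff]
      rintro _ ⟨a, ha, rfl⟩
      rw [← map_mul, ← map_mul, (Subgroup.mem_centralizer_iff.mp hg) a ha]
    rw [hC] at hφg
    obtain ⟨a, ha, hag⟩ := hφg
    have hk : a⁻¹ * g ∈ φ.ker := by
      rw [MonoidHom.mem_ker, map_mul, map_inv, hag, inv_mul_cancel]
    have : g = a * (a⁻¹ * g) := by group
    rw [this]
    exact A.mul_mem ha (hkerA hk)
  · intro a ha
    rw [Subgroup.mem_centralizer_iff]
    intro b hb
    exact hAcomm b hb a ha

end Cfsg.Agent.Lib.Helper5_DihFour
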