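import Mathlib
import Cfsg.Agent.Lib.Helper5_DihFusion
import Cfsg.Agent.Lib.Helper5_DihAut

set_option autoImplicit false

/-! Fusion of four-subgroups in groups with dihedral Sylow 2-subgroups (helper5). -/

namespace Cfsg.Agent.Lib.Helper5_DihFour2

open DihedralGroup Subgroup Cfsg.Agent.Lib.Helper5_DihFusion Cfsg.Agent.Lib.Helper5_DihAut

variable {G : Type*} [Group G] [Finite G] {K : ℕ} [NeZero K]
  (P : Sylow 2 G) (e : ↥(P : Subgroup G) ≃* DihedralGroup (4 * K))

theorem conj_mem_P {x : G} (hx : x ∈ normalizer ((P : Subgroup G) : Set G)) {t : G}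
    (ht : t ∈ (P : Subgroup G)) : x⁻¹ * t * x ∈ (P : Subgroup G) := by
  have h := (Subgroup.mem_normalizer_iff.mp (inv_mem hx) t).mp ht
  simpa using h

/-- the endomorphism of the dihedral group induced by conjugation with `x ∈ N(P)` -/
def al (x : G) (hx : x ∈ normalizer ((P : Subgroup G) : Set G)) :
    DihedralGroup (4 * K) →* DihedralGroup (4 * K) where
  toFun q := e ⟨x⁻¹ * el P e q * x, conj_mem_P P hx (el_mem P e q)⟩
  map_one' := by
    apply e.symm.injective
    rw [MulEquiv.symm_apply_apply, map_one]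
    apply Subtype.ext
    show x⁻¹ * el P e 1 * x = 1
    rw [el_one]; group
  map_mul' := by
    intro q q'
    rw [← map_mul]
    congr 1
    apply Subtype.ext
    show x⁻¹ * el P e (q * q') * x = (x⁻¹ * el P e q * x) * (x⁻¹ * el P e q' * x)
    rw [el_mul]; group

theorem el_al (x : G) (hx : x ∈ normalizer ((P : Subgroup G) : Set G)) (q : DihedralGroup (4 * K)) :
    el P e (al P e x hx q) = x⁻¹ * el P e q * x := by
  unfold el al
  simp only [MonoidHom.coe_mk, OneHom.coe_mk, MulEquiv.symm_apply_apply]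
  rfl

theorem al_inj (x : G) (hx : x ∈ normalizer ((P : Subgroup G) : Set G)) :
    Function.Injective (al P e x hx) := by
  intro q q' h
  have h1 := congrArg (el P e) h
  rw [el_al, el_al] at h1
  exact el_inj P e (mul_left_cancel (mul_right_cancel h1))

theorem al_mul (x y : G) (hx : x ∈ normalizer ((P : Subgroup G) : Set G))
    (hy : y ∈ normalizer ((P : Subgroup G) : Set G)) :
    al P e (x * y) (mul_mem hx hy) = (al P e y hy).comp (al P e x hx) := by
  ext q
  apply el_inj P e
  rw [MonoidHom.comp_apply, el_al, el_al, el_al]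
  group

/-- the twist of `x ∈ N(P)` -/
noncomputable def dG (x : G) (hx : x ∈ normalizer ((P : Subgroup G) : Set G)) : ZMod 2 :=
  dl (al P e x hx)

theorem dG_mul (x y : G) (hx : x ∈ normalizer ((P : Subgroup G) : Set G))
    (hy : y ∈ normalizer ((P : Subgroup G) : Set G)) :
    dG P e (x * y) (mul_mem hx hy) = dG P e x hx + dG P e y hy := by
  unfold dG
  rw [al_mul P e x y hx hy, dl_comp _ _ (al_inj P e x hx) (al_inj P e y hy)]

theorem dG_mem (x : G) (hxP : x ∈ (P : Subgroup G)) :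
    dG P e x (Subgroup.le_normalizer hxP) = 0 := by
  unfold dG
  obtain ⟨y, hy⟩ := exists_el P e hxP
  have : al P e x (Subgroup.le_normalizer hxP) = (MulAut.conj y⁻¹).toMonoidHom := by
    ext q
    apply el_inj P e
    rw [el_al]
    show _ = el P e (y⁻¹ * q * y⁻¹⁻¹)
    rw [inv_inv, el_mul, el_mul, el_inv, ← hy]
  rw [this]
  exact dl_conj _

theorem dG_pow (x : G) (hx : x ∈ normalizer ((P : Subgroup G) : Set G)) (n : ℕ) :
    dG P e (x ^ n) (pow_mem hx n) = n * dG P e x hx := by
  induction n with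
  | zero =>
    simp only [pow_zero, Nat.cast_zero, zero_mul]
    exact dG_mem P e 1 (one_mem _)
  | succ n ih =>
    have h1 : dG P e (x ^ (n + 1)) (pow_mem hx (n + 1)) =
        dG P e (x ^ n * x) (mul_mem (pow_mem hx n) hx) := by
      congr 1
      exact pow_succ x n
    rw [h1, dG_mul P e (x ^ n) x (pow_mem hx n) hx, ih]
    push_cast; ring

theorem mem_of_two_elt {y : G} (hy : y ∈ normalizer ((P : Subgroup G) : Set G)) (a : ℕ)
    (hya : y ^ (2 ^ a) = 1) : y ∈ (P : Subgroup G) := by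
  haveI : Fact (Nat.Prime 2) := ⟨Nat.prime_two⟩
  have hz : IsPGroup 2 (zpowers y) := by
    intro ⟨g, hg⟩
    obtain ⟨k, rfl⟩ := Subgroup.mem_zpowers_iff.mp hg
    refine ⟨a, ?_⟩
    apply Subtype.ext
    simp only [Subgroup.coe_pow, Subgroup.coe_one]
    rw [← zpow_natCast, ← zpow_mul, mul_comm, zpow_mul, zpow_natCast, hya, one_zpow]
  have hsup : IsPGroup 2 (zpowers y ⊔ (P : Subgroup G) : Subgroup G) :=
    IsPGroup.to_sup_of_normal_right' hz P.isPGroup' (zpowers_le.mpr hy)
  have := P.is_maximal' hsup le_sup_right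
  have h2 : zpowers y ≤ (P : Subgroup G) := by
    rw [← this]; exact le_sup_left
  exact h2 (mem_zpowers y)

theorem dG_zero (x : G) (hx : x ∈ normalizer ((P : Subgroup G) : Set G)) : dG P e x hx = 0 := by
  have ho : orderOf x ≠ 0 := (orderOf_pos x).ne'
  obtain ⟨a, m, hm, hom⟩ := Nat.exists_eq_two_pow_mul_odd ho
  have h1 : (x ^ m) ^ (2 ^ a) = 1 := by
    rw [← pow_mul, mul_comm, ← hom]; exact pow_orderOf_eq_one x
  have h2 : x ^ m ∈ (P : Subgroup G) := mem_of_two_elt P (pow_mem hx m) a h1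
  have h3 := dG_pow P e x hx m
  have h4 : dG P e (x ^ m) (pow_mem hx m) = 0 := dG_mem P e _ h2
  rw [h4, ZMod.natCast_eq_one_iff_odd.mpr hm, one_mul] at h3
  exact h3.symm

/-- membership in the dihedral maximal subgroup `M₁` containing `a` -/
def inM1 (t : G) : Prop := ∃ q, t = el P e q ∧ pa q = 0

theorem inM1_conj_of_normalizer (x : G) (hx : x ∈ normalizer ((P : Subgroup G) : Set G)) (t : G)
    (ht : inM1 P e t) : inM1 P e (x⁻¹ * t * x) := by
  obtain ⟨q, rfl, hq⟩ := ht
  refine ⟨al P e x hx q, (el_al P e x hx q).symm, ?_⟩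
  have h1 := (pa_image (al P e x hx) (al_inj P e x hx) q).1
  have h2 : dl (al P e x hx) = 0 := dG_zero P e x hx
  rw [h1, h2, zero_mul, add_zero, hq]

include P e in
theorem odd_unit (j : ZMod (4 * K)) (hj : c2 K j = 1) : ∃ s : ℕ, j * (s : ZMod (4 * K)) = 1 := by
  haveI : Fact (Nat.Prime 2) := ⟨Nat.prime_two⟩
  have hK := K_pos (K := K)
  haveI : NeZero (4 * K) := ⟨by omega⟩
  obtain ⟨k, hk⟩ := P.isPGroup'.exists_card_eq
  rw [card_P P e] at hk
  have hodd : Odd j.val := by
    rw [← ZMod.natCast_eq_one_iff_odd]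
    have : c2 K j = ((j.val : ℕ) : ZMod 2) := by
      conv_lhs => rw [← ZMod.natCast_zmod_val j]
      exact map_natCast _ _
    rw [← this]; exact hj
  have hcop : Nat.Coprime j.val (4 * K) := by
    have h1 : Nat.Coprime j.val (2 ^ k) := Nat.Coprime.pow_right k (Nat.coprime_two_right.mpr hodd)
    exact Nat.Coprime.coprime_dvd_right ⟨2, by rw [← hk]; ring⟩ h1
  let u := ZMod.unitOfCoprime j.val hcop
  refine ⟨((u⁻¹ : (ZMod (4 * K))ˣ) : ZMod (4 * K)).val, ?_⟩
  rw [ZMod.natCast_zmod_val]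
  have : (u : ZMod (4 * K)) = j := by
    rw [ZMod.coe_unitOfCoprime, ZMod.natCast_zmod_val]
  rw [← this]
  exact Units.mul_inv u

/-- a subgroup of `P` containing an even reflection and an element outside `M₁` is `P` -/
theorem eq_P_of (D : Subgroup G) (i : ZMod (4 * K)) (hi : c2 K i = 0)
    (hσ : el P e (sr i) ∈ D) (q : DihedralGroup (4 * K)) (hq : el P e q ∈ D) (hpq : pa q = 1) :
    (P : Subgroup G) ≤ D := by
  have hK := K_pos (K := K)
  haveI : NeZero (4 * K) := ⟨by omega⟩
  -- an odd rotation in D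
  obtain ⟨j, hjD, hj⟩ : ∃ j : ZMod (4 * K), el P e (r j) ∈ D ∧ c2 K j = 1 := by
    rcases q with j | j
    · exact ⟨j, hq, hpq⟩
    · refine ⟨j - i, ?_, ?_⟩
      · have : (r (j - i) : DihedralGroup (4 * K)) = sr i * sr j := by rw [sr_mul_sr]
        rw [this, el_mul]
        exact mul_mem hσ hq
      · rw [map_sub, hi, sub_zero]; exact hpq
  obtain ⟨s, hs⟩ := odd_unit P e j hj
  have hr1 : el P e (r 1) ∈ D := by
    have : (r 1 : DihedralGroup (4 * K)) = (r j) ^ s := by rw [r_pow, hs]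
    rw [this, el_pow]
    exact pow_mem hjD s
  have hri : ∀ k : ZMod (4 * K), el P e (r k) ∈ D := by
    intro k
    have : (r k : DihedralGroup (4 * K)) = r 1 ^ k.val := by
      rw [r_one_pow, ZMod.natCast_zmod_val]
    rw [this, el_pow]
    exact pow_mem hr1 _
  intro p hp
  obtain ⟨q', rfl⟩ := exists_el P e hp
  rcases q' with k | k
  · exact hri k
  · have : (sr k : DihedralGroup (4 * K)) = sr i * r (k - i) := by
      rw [sr_mul_r]; congr 1; ring
    rw [this, el_mul]
    exact mul_mem hσ (hri _)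

theorem zmod2_cases' (c : ZMod 2) : c = 0 ∨ c = 1 := by
  revert c; decide

/-- one step of the Alperin chain preserves `M₁` -/
theorem step (D : Subgroup G) (hD : D ≤ (P : Subgroup G)) (x : G)
    (hx : x ∈ normalizer (D : Set G)) (u v : G) (hu : u ∈ D) (hv : v ∈ D) (huv : u ≠ v)
    (hu2 : orderOf u = 2) (hv2 : orderOf v = 2) (huM : inM1 P e u) (hvM : inM1 P e v) :
    inM1 P e (x⁻¹ * u * x) ∧ inM1 P e (x⁻¹ * v * x) := by
  by_cases hDP : D = (P : Subgroup G)
  · rw [hDP] at hx
    exact ⟨inM1_conj_of_normalizer P e x hx u huM, inM1_conj_of_normalizer P e x hx v hvM⟩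
  · -- a reflection in D ∩ M₁
    obtain ⟨i, hiD, hi⟩ : ∃ i : ZMod (4 * K), el P e (sr i) ∈ D ∧ c2 K i = 0 := by
      have key : ∀ w : G, w ∈ D → inM1 P e w → (∃ i, w = el P e (sr i)) →
          ∃ i : ZMod (4 * K), el P e (sr i) ∈ D ∧ c2 K i = 0 := by
        rintro w hw ⟨q, hwq, hq⟩ ⟨i, hwi⟩
        refine ⟨i, hwi ▸ hw, ?_⟩
        have : q = sr i := el_inj P e (hwq.symm.trans hwi)
        rw [this] at hq
        exact hq
      rcases invol_P P e (hD hu) hu2 with h | h
      · rcases invol_P P e (hD hv) hv2 with h' | h'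
        · exact absurd (h.trans h'.symm) huv
        · exact key v hv hvM h'
      · exact key u hu huM h
    have hall : ∀ d ∈ D, inM1 P e d := by
      intro d hd
      obtain ⟨q, rfl⟩ := exists_el P e (hD hd)
      rcases zmod2_cases' (pa q) with h | h
      · exact ⟨q, rfl, h⟩
      · exfalso
        exact hDP (le_antisymm hD (eq_P_of P e D i hi hiD q hd h))
    have hc : ∀ t ∈ D, x⁻¹ * t * x ∈ D := by
      intro t ht
      have h := (Subgroup.mem_normalizer_iff.mp (inv_mem hx) t).mp ht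
      simpa using h
    exact ⟨hall _ (hc u hu), hall _ (hc v hv)⟩

end Cfsg.Agent.Lib.Helper5_DihFour2
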