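import Mathlib

set_option autoImplicit false

namespace Cfsg.Agent.Lib.Helper7_Norm

open scoped BigOperators

variable {A : Type*} [CommGroup A] {p : ℕ} [Fact p.Prime]

/-- norm of `u` under the cyclic group generated by `k` (of order dividing `p`). -/
noncomputable def nrm (p : ℕ) [Fact p.Prime] (k : MulAut A) (u : A) : A :=
  ∏ i : ZMod p, (k ^ i.val) u

theorem pow_val_natCast (k : MulAut A) (hk : k ^ p = 1) (m : ℕ) :
    k ^ ((m : ZMod p).val) = k ^ m := by
  rw [ZMod.val_natCast, ← pow_eq_pow_mod m hk]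

theorem pow_val_add_one (k : MulAut A) (hk : k ^ p = 1) (i : ZMod p) :
    k ^ ((i + 1 : ZMod p).val) = k ^ (i.val + 1) := by
  have h := pow_val_natCast k hk (i.val + 1)
  rw [← h]
  congr 2
  push_cast
  rw [ZMod.natCast_zmod_val]

theorem pow_val_mul (k : MulAut A) (hk : k ^ p = 1) (i j : ZMod p) :
    k ^ ((i * j : ZMod p).val) = k ^ (i.val * j.val) := by
  have h := pow_val_natCast k hk (i.val * j.val)
  rw [← h]
  congr 2
  push_cast
  rw [ZMod.natCast_zmod_val, ZMod.natCast_zmod_val]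

theorem nrm_fixed (k : MulAut A) (hk : k ^ p = 1) (u : A) : k (nrm p k u) = nrm p k u := by
  unfold nrm
  rw [map_prod]
  rw [← Equiv.prod_comp (Equiv.addRight (1 : ZMod p)) (fun i => (k ^ i.val) u)]
  refine Finset.prod_congr rfl fun i _ => ?_
  simp only [Equiv.coe_addRight]
  rw [pow_val_add_one k hk, pow_succ']
  rfl

theorem pow_mem_of_fixed (α β : MulAut A)
    (hαβ : α * β = β * α) (hα : α ^ p = 1) (hβ : β ^ p = 1) (Z : Subgroup A)
    (h1 : ∀ j : ℕ, ∀ u : A, (α * β ^ j) u = u → u ∈ Z)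
    (h2 : ∀ u : A, β u = u → u ∈ Z) (u : A) : u ^ p ∈ Z := by
  have hcomm : Commute α β := hαβ
  have hk : ∀ j : ℕ, (α * β ^ j) ^ p = 1 := by
    intro j
    rw [(hcomm.pow_right j).mul_pow, hα, ← pow_mul, mul_comm, pow_mul, hβ, one_pow, one_mul]
  -- each norm lies in Z
  have hN1 : ∀ j : ZMod p, nrm p (α * β ^ j.val) u ∈ Z := fun j =>
    h1 j.val _ (nrm_fixed _ (hk j.val) u)
  have hN2 : nrm p β u ∈ Z := h2 _ (nrm_fixed β hβ u)
  have hD : ∀ i : ZMod p, (α ^ i.val) (nrm p β u) ∈ Z := by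
    intro i
    apply h2
    have : β ((α ^ i.val) (nrm p β u)) = (α ^ i.val) (β (nrm p β u)) := by
      have hc : Commute β (α ^ i.val) := (hcomm.pow_left i.val).symm
      have := congrArg (fun f : MulAut A => f (nrm p β u)) hc.eq
      simpa [MulAut.mul_apply] using this
    rw [this, nrm_fixed β hβ u]
  -- the identity
  have key : (∏ j : ZMod p, nrm p (α * β ^ j.val) u) * nrm p β u
      = u ^ p * ∏ i : ZMod p, (α ^ i.val) (nrm p β u) := by
    have e1 : ∀ j i : ZMod p, ((α * β ^ j.val) ^ i.val) u = (α ^ i.val) ((β ^ ((j * i : ZMod p).val)) u) := by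
      intro j i
      rw [(hcomm.pow_right j.val).mul_pow, ← pow_mul, pow_val_mul β hβ]
      rfl
    have e2 : (∏ j : ZMod p, nrm p (α * β ^ j.val) u)
        = ∏ i : ZMod p, ∏ j : ZMod p, (α ^ i.val) ((β ^ ((j * i : ZMod p).val)) u) := by
      unfold nrm
      rw [Finset.prod_comm]
      refine Finset.prod_congr rfl fun i _ => Finset.prod_congr rfl fun j _ => e1 j i
    have e3 : ∀ i : ZMod p, i ≠ 0 → (∏ j : ZMod p, (α ^ i.val) ((β ^ ((j * i : ZMod p).val)) u))
        = (α ^ i.val) (nrm p β u) := by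
      intro i hi
      unfold nrm
      rw [map_prod]
      exact Equiv.prod_comp (Equiv.mulRight₀ i hi) (fun l : ZMod p => (α ^ i.val) ((β ^ l.val) u))
    have e4 : (∏ j : ZMod p, (α ^ (0 : ZMod p).val) ((β ^ ((j * 0 : ZMod p).val)) u)) = u ^ p := by
      simp
    have e5 : (α ^ (0 : ZMod p).val) (nrm p β u) = nrm p β u := by simp
    rw [e2, ← Finset.mul_prod_erase Finset.univ _ (Finset.mem_univ (0 : ZMod p)),
      ← Finset.mul_prod_erase Finset.univ (fun i : ZMod p => (α ^ i.val) (nrm p β u))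
        (Finset.mem_univ (0 : ZMod p)), e4, e5]
    have e6 : ∏ i ∈ Finset.univ.erase (0 : ZMod p), ∏ j : ZMod p, (α ^ i.val) ((β ^ ((j * i : ZMod p).val)) u)
        = ∏ i ∈ Finset.univ.erase (0 : ZMod p), (α ^ i.val) (nrm p β u) :=
      Finset.prod_congr rfl fun i hi => e3 i (Finset.ne_of_mem_erase hi)
    rw [e6, mul_assoc]
    congr 1
    rw [mul_comm]
  have hL : (∏ j : ZMod p, nrm p (α * β ^ j.val) u) * nrm p β u ∈ Z :=
    Z.mul_mem (Subgroup.prod_mem Z fun j _ => hN1 j) hN2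
  have hR : ∏ i : ZMod p, (α ^ i.val) (nrm p β u) ∈ Z := Subgroup.prod_mem Z fun i _ => hD i
  rw [key] at hL
  exact (Subgroup.mul_mem_cancel_right Z hR).mp hL

/-- version for a `Group` with a commutativity hypothesis -/
theorem pow_mem_of_fixed' {B : Type*} [Group B] (hB : ∀ a b : B, a * b = b * a) {p : ℕ} [Fact p.Prime]
    (α β : MulAut B)
    (hαβ : α * β = β * α) (hα : α ^ p = 1) (hβ : β ^ p = 1) (Z : Subgroup B)
    (h1 : ∀ j : ℕ, ∀ u : B, (α * β ^ j) u = u → u ∈ Z)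
    (h2 : ∀ u : B, β u = u → u ∈ Z) (u : B) : u ^ p ∈ Z := by
  letI : CommGroup B := { ‹Group B› with mul_comm := hB }
  exact pow_mem_of_fixed α β hαβ hα hβ Z h1 h2 u

end Cfsg.Agent.Lib.Helper7_Norm
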