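import Mathlib
import Cfsg.Agent.S4365

set_option autoImplicit false

namespace Cfsg.Agent.Lib.Helper7_ClassSize

open Cfsg.Agent.S4365

section parts
variable {G : Type*} [Group G]

/-- `x` is a power of `x * y` when `x`, `y` commute and have coprime orders. -/
theorem exists_pow_mul_eq {x y : G} (hc : Commute x y) (hx : IsOfFinOrder x)
    (hcop : (orderOf x).Coprime (orderOf y)) : ∃ k : ℕ, (x * y) ^ k = x := by
  by_cases h1 : orderOf x = 1
  · refine ⟨0, ?_⟩
    rw [pow_zero]; exact (orderOf_eq_one_iff.mp h1).symm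
  · have hpos : 0 < orderOf x := hx.orderOf_pos
    have h1' : 1 < orderOf x := by omega
    obtain ⟨m, -, hm⟩ := Nat.exists_mul_mod_eq_one_of_coprime hcop.symm h1'
    refine ⟨orderOf y * m, ?_⟩
    rw [hc.mul_pow, pow_mul y, pow_orderOf_eq_one, one_pow, mul_one, ← pow_mod_orderOf, hm, pow_one]

/-- decomposition of an element of finite order into a `p`-part and a `p'`-part, both powers. -/
theorem exists_parts (c : G) (hc : IsOfFinOrder c) (p : ℕ) (hp : p.Prime) :
    ∃ a b : G, a ∈ Subgroup.zpowers c ∧ b ∈ Subgroup.zpowers c ∧ c = a * b ∧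
      (∃ k : ℕ, orderOf a = p ^ k) ∧ (orderOf b).Coprime p ∧
      (orderOf b ∣ orderOf c) ∧ (p ∣ orderOf c → orderOf b < orderOf c) := by
  have ho : orderOf c ≠ 0 := hc.orderOf_pos.ne'
  obtain ⟨k, m, hm, hkm⟩ := Nat.exists_eq_pow_mul_and_not_dvd ho p hp.one_lt.ne'
  have hcop : IsCoprime ((p ^ k : ℕ) : ℤ) (m : ℤ) := by
    rw [Nat.isCoprime_iff_coprime]
    exact Nat.Coprime.pow_left k ((Nat.Prime.coprime_iff_not_dvd hp).mpr hm)
  obtain ⟨u, v, huv⟩ := hcop
  -- u * p^k + v * m = 1
  refine ⟨c ^ (v * m), c ^ (u * (p ^ k : ℕ)), Subgroup.zpow_mem_zpowers c _,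
    Subgroup.zpow_mem_zpowers c _, ?_, ?_, ?_, ?_, ?_⟩
  · rw [← zpow_add, add_comm, huv, zpow_one]
  · have h1 : (c ^ (v * m)) ^ (p ^ k) = 1 := by
      rw [← zpow_natCast, ← zpow_mul, mul_assoc, mul_comm (m : ℤ), ← Nat.cast_mul, ← hkm,
        mul_comm, zpow_mul, zpow_natCast, pow_orderOf_eq_one, one_zpow]
    exact (Nat.dvd_prime_pow hp).mp (orderOf_dvd_of_pow_eq_one h1) |>.imp fun j hj => hj.2
  · have h1 : (c ^ (u * (p ^ k : ℕ))) ^ m = 1 := by
      rw [← zpow_natCast, ← zpow_mul, mul_assoc, ← Nat.cast_mul, ← hkm,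
        mul_comm, zpow_mul, zpow_natCast, pow_orderOf_eq_one, one_zpow]
    have h2 : orderOf (c ^ (u * (p ^ k : ℕ))) ∣ m := orderOf_dvd_of_pow_eq_one h1
    exact Nat.Coprime.coprime_dvd_left h2
      (Nat.coprime_comm.mp ((Nat.Prime.coprime_iff_not_dvd hp).mpr hm))
  · exact orderOf_dvd_of_mem_zpowers (Subgroup.zpow_mem_zpowers c _)
  · intro hpc
    have h1 : (c ^ (u * (p ^ k : ℕ))) ^ m = 1 := by
      rw [← zpow_natCast, ← zpow_mul, mul_assoc, ← Nat.cast_mul, ← hkm,
        mul_comm, zpow_mul, zpow_natCast, pow_orderOf_eq_one, one_zpow]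
    have h2 : orderOf (c ^ (u * (p ^ k : ℕ))) ∣ m := orderOf_dvd_of_pow_eq_one h1
    have hk : k ≠ 0 := by
      rintro rfl
      rw [pow_zero, one_mul] at hkm
      rw [hkm] at hpc
      exact hm hpc
    have hmpos : 0 < m := by
      rcases Nat.eq_zero_or_pos m with h0 | h0
      · rw [h0, mul_zero] at hkm; exact absurd hkm ho
      · exact h0
    have hlt : m < orderOf c := by
      rw [hkm]
      have : 1 < p ^ k := Nat.one_lt_pow hk hp.one_lt
      nlinarith
    exact lt_of_le_of_lt (Nat.le_of_dvd hmpos h2) hlt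

end parts

section two
variable {G : Type*} [Group G] [Finite G] (n : ℕ)
  (h : ∀ x : G, (Cz x).index = 1 ∨ (Cz x).index = n)

/-- if every prime-power-order power of `g` is central then `g` is central. -/
theorem mem_center_of_parts (g : G)
    (hg : ∀ w ∈ Subgroup.zpowers g, (∃ r k : ℕ, r.Prime ∧ orderOf w = r ^ k) → w ∈ Subgroup.center G) :
    g ∈ Subgroup.center G := by
  induction hN : orderOf g using Nat.strong_induction_on generalizing g with
  | _ N ih =>
    by_cases h1 : orderOf g = 1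
    · rw [orderOf_eq_one_iff.mp h1]; exact Subgroup.one_mem _
    · obtain ⟨p, hp, hpd⟩ := Nat.exists_prime_and_dvd h1
      obtain ⟨a, b, ha, hb, hab, ⟨k, hk⟩, -, hbd, hblt⟩ := exists_parts g (isOfFinOrder_of_finite g) p hp
      have haZ : a ∈ Subgroup.center G := hg a ha ⟨p, k, hp, hk⟩
      have hbZ : b ∈ Subgroup.center G := by
        apply ih (orderOf b) (by rw [← hN]; exact hblt hpd) b _ rfl
        intro w hw hw'
        apply hg w _ hw'
        exact (Subgroup.zpowers_le.mpr hb) hw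
      rw [hab]; exact Subgroup.mul_mem _ haZ hbZ

/-- a non-central element has a non-central power of prime power order. -/
theorem exists_noncentral_part {g : G} (hg : g ∉ Subgroup.center G) :
    ∃ w ∈ Subgroup.zpowers g, w ∉ Subgroup.center G ∧ ∃ r k : ℕ, r.Prime ∧ orderOf w = r ^ k := by
  by_contra hcon
  push Not at hcon
  apply hg
  apply mem_center_of_parts g
  intro w hw ⟨r, k, hr, hrk⟩
  by_contra hwZ
  exact hcon w hw hwZ r k hr hrk

include h in
/-- F2 -/
theorem Cz_eq_of_commute_coprime {x y : G} (hx : x ∉ Subgroup.center G) (hy : y ∉ Subgroup.center G)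
    (hc : Commute x y) (hcop : (orderOf x).Coprime (orderOf y)) : Cz x = Cz y := by
  obtain ⟨k, hk⟩ := exists_pow_mul_eq hc (isOfFinOrder_of_finite x) hcop
  obtain ⟨l, hl⟩ := exists_pow_mul_eq hc.symm (isOfFinOrder_of_finite y) hcop.symm
  have hle1 : Cz (x * y) ≤ Cz x := by
    intro c hc'
    rw [mem_Cz] at hc' ⊢
    rw [← hk]
    exact (Commute.pow_left (show Commute (x * y) c from hc') k).eq
  have hle2 : Cz (x * y) ≤ Cz y := by
    intro c hc'
    rw [mem_Cz] at hc' ⊢
    rw [← hl, ← hc.eq]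
    exact (Commute.pow_left (show Commute (x * y) c from hc') l).eq
  rw [← Cz_eq_of_le n h hx hle1, ← Cz_eq_of_le n h hy hle2]

include h in
/-- Lemma E: a centralizer containing non-central commuting elements of orders `p^k`, `q^l` (`p ≠ q`)
is abelian. -/
theorem Cz_comm {p q : ℕ} (hp : p.Prime) (hq : q.Prime) (hpq : p ≠ q) {x y : G}
    (hx : x ∉ Subgroup.center G) (hy : y ∉ Subgroup.center G) (hc : Commute x y)
    (hxo : ∃ k : ℕ, orderOf x = p ^ k) (hyo : ∃ l : ℕ, orderOf y = q ^ l)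
    {c d : G} (hcx : c ∈ Cz x) (hdx : d ∈ Cz x) : c * d = d * c := by
  obtain ⟨k, hk⟩ := hxo
  obtain ⟨l, hl⟩ := hyo
  have hpqc : Nat.Coprime p q := (Nat.coprime_primes hp hq).mpr hpq
  have hxy : Cz x = Cz y := by
    apply Cz_eq_of_commute_coprime n h hx hy hc
    rw [hk, hl]; exact Nat.Coprime.pow k l hpqc
  obtain ⟨a, b, ha, hb, hab, ⟨j, hj⟩, hbcop, -, -⟩ := exists_parts c (isOfFinOrder_of_finite c) p hp
  have hzp : Subgroup.zpowers c ≤ Cz x := Subgroup.zpowers_le.mpr hcx
  have haC : a ∈ Cz x := hzp ha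
  have hbC : b ∈ Cz x := hzp hb
  -- b commutes with d
  have hbd : b * d = d * b := by
    by_cases hbZ : b ∈ Subgroup.center G
    · exact ((Subgroup.mem_center_iff.mp hbZ) d).symm
    · have e : Cz x = Cz b := by
        apply Cz_eq_of_commute_coprime n h hx hbZ (mem_Cz.mp hbC)
        rw [hk]; exact Nat.Coprime.pow_left k hbcop.symm
      have : d ∈ Cz b := by rw [← e]; exact hdx
      exact mem_Cz.mp this
  have had : a * d = d * a := by
    by_cases haZ : a ∈ Subgroup.center G
    · exact ((Subgroup.mem_center_iff.mp haZ) d).symm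
    · have haCy : a ∈ Cz y := by rw [← hxy]; exact haC
      have e : Cz y = Cz a := by
        apply Cz_eq_of_commute_coprime n h hy haZ (mem_Cz.mp haCy)
        rw [hl, hj]; exact Nat.Coprime.pow l j hpqc.symm
      have : d ∈ Cz a := by rw [← e, ← hxy]; exact hdx
      exact mem_Cz.mp this
  rw [hab, mul_assoc, hbd, ← mul_assoc, had, mul_assoc]

include h in
theorem card_Cz_eq {g k : G} (hg : g ∉ Subgroup.center G) (hk : k ∉ Subgroup.center G) :
    Nat.card (Cz g) = Nat.card (Cz k) := by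
  have h1 := (Cz g).card_mul_index
  have h2 := (Cz k).card_mul_index
  rw [index_eq_of_not_mem n h hg] at h1
  rw [index_eq_of_not_mem n h hk] at h2
  have hn : n ≠ 0 := by
    rw [← index_eq_of_not_mem n h hg]; exact Subgroup.index_ne_zero_of_finite
  exact Nat.eq_of_mul_eq_mul_right (Nat.pos_of_ne_zero hn) (h1.trans h2.symm)

theorem center_le_Cz (g : G) : Subgroup.center G ≤ Cz g := by
  intro z hz
  rw [mem_Cz]
  exact (Subgroup.mem_center_iff.mp hz g)

/-- numeric half of Lemma X -/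
theorem pow_dvd_card_Cz {r : ℕ} [hr : Fact r.Prime] {w : G} (hw : w ∉ Subgroup.center G)
    (hwo : ∃ k : ℕ, orderOf w = r ^ k) :
    r ^ ((Nat.card (Subgroup.center G)).factorization r + 1) ∣ Nat.card (Cz w) := by
  obtain ⟨k, hk⟩ := hwo
  obtain ⟨Zr⟩ := (inferInstance : Nonempty (Sylow r (Subgroup.center G)))
  set Zr' : Subgroup G := (Zr : Subgroup (Subgroup.center G)).map (Subgroup.center G).subtype with hZr'
  have hZr'p : IsPGroup r Zr' := Zr.2.map _
  have hZr'c : Zr' ≤ Subgroup.center G := Subgroup.map_subtype_le _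
  have hwp : IsPGroup r (Subgroup.zpowers w) := by
    apply IsPGroup.of_card (n := k)
    rw [Nat.card_zpowers, hk]
  have hnorm : Subgroup.zpowers w ≤ Subgroup.normalizer (Zr' : Set G) := by
    intro a _
    rw [Subgroup.mem_normalizer_iff]
    intro z
    constructor
    · intro hz
      have h1 := Subgroup.mem_center_iff.mp (hZr'c hz) a
      have : a * z * a⁻¹ = z := by rw [h1]; group
      rw [this]; exact hz
    · intro hz
      have h1 := Subgroup.mem_center_iff.mp (hZr'c hz) a⁻¹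
      have : z = a * z * a⁻¹ := by
        calc z = a⁻¹ * (a * z * a⁻¹) * a := by group
          _ = (a * z * a⁻¹) * a⁻¹ * a := by rw [h1]
          _ = a * z * a⁻¹ := by group
      rw [this]; exact hz
  have hT : IsPGroup r (Zr' ⊔ Subgroup.zpowers w : Subgroup G) :=
    IsPGroup.to_sup_of_normal_left' hZr'p hwp hnorm
  have hTle : Zr' ⊔ Subgroup.zpowers w ≤ Cz w := by
    apply sup_le
    · exact hZr'c.trans (center_le_Cz w)
    · rw [Subgroup.zpowers_le, mem_Cz]
  obtain ⟨j, hj⟩ := IsPGroup.iff_card.mp hT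
  have hcardZ : Nat.card Zr' = r ^ (Nat.card (Subgroup.center G)).factorization r := by
    rw [hZr', Subgroup.card_map_of_injective (Subgroup.center G).subtype_injective]
    exact Zr.card_eq_multiplicity
  have hlt : Zr' < Zr' ⊔ Subgroup.zpowers w := by
    refine lt_of_le_of_ne le_sup_left ?_
    intro heq
    apply hw
    apply hZr'c
    rw [heq]
    exact le_sup_right (a := Zr') (Subgroup.mem_zpowers w)
  have hclt : Nat.card Zr' < Nat.card (Zr' ⊔ Subgroup.zpowers w : Subgroup G) := by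
    refine lt_of_le_of_ne (Subgroup.card_le_of_le hlt.le) ?_
    intro heq
    exact hlt.ne (Subgroup.eq_of_le_of_card_ge hlt.le heq.ge)
  rw [hcardZ, hj] at hclt
  have hvj : (Nat.card (Subgroup.center G)).factorization r + 1 ≤ j := by
    have := (Nat.pow_lt_pow_iff_right hr.out.one_lt).mp hclt
    omega
  calc r ^ ((Nat.card (Subgroup.center G)).factorization r + 1) ∣ r ^ j := pow_dvd_pow r hvj
    _ = Nat.card (Zr' ⊔ Subgroup.zpowers w : Subgroup G) := hj.symm
    _ ∣ Nat.card (Cz w) := Subgroup.card_dvd_of_le hTle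

/-- other half of Lemma X -/
theorem exists_noncentral_of_pow_dvd {r : ℕ} [hr : Fact r.Prime] (H : Subgroup G)
    (hdiv : r ^ ((Nat.card (Subgroup.center G)).factorization r + 1) ∣ Nat.card H) :
    ∃ s ∈ H, s ∉ Subgroup.center G ∧ ∃ k : ℕ, orderOf s = r ^ k := by
  by_contra hcon
  push Not at hcon
  obtain ⟨S⟩ := (inferInstance : Nonempty (Sylow r H))
  have hcardS : Nat.card S = r ^ (Nat.card H).factorization r := S.card_eq_multiplicity
  have hHne : Nat.card H ≠ 0 := Nat.card_pos.ne'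
  have hle : (Nat.card (Subgroup.center G)).factorization r + 1 ≤ (Nat.card H).factorization r :=
    (hr.out.pow_dvd_iff_le_factorization hHne).mp hdiv
  set S' : Subgroup G := (S : Subgroup H).map H.subtype with hS'
  have hS'c : S' ≤ Subgroup.center G := by
    rintro _ ⟨s, hs, rfl⟩
    by_contra hsZ
    obtain ⟨k, hk⟩ := (IsPGroup.iff_orderOf.mp S.2) ⟨s, hs⟩
    rw [Subgroup.orderOf_mk] at hk
    exact hcon (s : G) s.2 hsZ k (by rw [← hk, Subgroup.orderOf_coe])
  have hS'p : IsPGroup r S' := S.2.map _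
  have hS''p : IsPGroup r (S'.subgroupOf (Subgroup.center G)) := hS'p.comap_subtype
  obtain ⟨Zr, hZr⟩ := hS''p.exists_le_sylow
  have h1 : Nat.card (S'.subgroupOf (Subgroup.center G)) ∣ Nat.card Zr := Subgroup.card_dvd_of_le hZr
  have h2 : Nat.card (S'.subgroupOf (Subgroup.center G)) = Nat.card S' :=
    Nat.card_congr (Subgroup.subgroupOfEquivOfLe hS'c).toEquiv
  have h3 : Nat.card S' = Nat.card S := by
    rw [hS', Subgroup.card_map_of_injective H.subtype_injective]
  rw [h2, h3, hcardS, Zr.card_eq_multiplicity] at h1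
  have := (Nat.pow_dvd_pow_iff_le_right hr.out.one_lt).mp h1
  omega

include h in
/-- Lemma X: if there is a non-central `r`-element, then every non-central centralizer contains one. -/
theorem exists_noncentral_in_Cz {r : ℕ} [hr : Fact r.Prime] {w : G} (hw : w ∉ Subgroup.center G)
    (hwo : ∃ k : ℕ, orderOf w = r ^ k) {g : G} (hg : g ∉ Subgroup.center G) :
    ∃ s ∈ Cz g, s ∉ Subgroup.center G ∧ ∃ k : ℕ, orderOf s = r ^ k := by
  apply exists_noncentral_of_pow_dvd
  rw [card_Cz_eq n h hg hw]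
  exact pow_dvd_card_Cz hw hwo

end two

/-- the norm argument, in a group `M` with an abelian normal subgroup `A`. -/
theorem norm_arg {M : Type*} [Group M] (A : Subgroup M) [hA : A.Normal]
    (hab : ∀ c d : M, c ∈ A → d ∈ A → c * d = d * c)
    (Z₀ : Subgroup M) (r : ℕ) [Fact r.Prime] (g h' : M) (hg : g ^ r ∈ A) (hh : h' ^ r ∈ A)
    (hgh : g * h' * g⁻¹ * h'⁻¹ ∈ A)
    (hfix1 : ∀ j : ℕ, ∀ c ∈ A, (g * h' ^ j) * c = c * (g * h' ^ j) → c ∈ Z₀)
    (hfix2 : ∀ c ∈ A, h' * c = c * h' → c ∈ Z₀) : ∀ c ∈ A, c ^ r ∈ Z₀ := by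
  intro x hxA
  have hconj1 : ∀ c : M, c ∈ A → (MulAut.conjNormal c : MulAut A) = 1 := by
    intro c hc
    ext u
    rw [MulAut.conjNormal_apply, MulAut.one_apply]
    rw [hab c u hc u.2]; group
  have hαβ : (MulAut.conjNormal g : MulAut A) * MulAut.conjNormal h'
      = MulAut.conjNormal h' * MulAut.conjNormal g := by
    rw [← map_mul, ← map_mul]
    have : g * h' = (g * h' * g⁻¹ * h'⁻¹) * (h' * g) := by group
    rw [this, map_mul, hconj1 _ hgh, one_mul]
  have hαp : (MulAut.conjNormal g : MulAut A) ^ r = 1 := by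
    rw [← map_pow]; exact hconj1 _ hg
  have hβp : (MulAut.conjNormal h' : MulAut A) ^ r = 1 := by
    rw [← map_pow]; exact hconj1 _ hh
  have hcomm_of_fix : ∀ (k : M) (u : A), (MulAut.conjNormal k : MulAut A) u = u →
      k * (u : M) = u * k := by
    intro k u hu
    have h1 := congrArg Subtype.val hu
    rw [MulAut.conjNormal_apply] at h1
    calc k * (u : M) = k * u * k⁻¹ * k := by group
      _ = u * k := by rw [h1]
  have key := Cfsg.Agent.Lib.Helper7_Norm.pow_mem_of_fixed' (B := A)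
    (fun a b => Subtype.ext (hab a b a.2 b.2))
    (MulAut.conjNormal g) (MulAut.conjNormal h') hαβ hαp hβp
    (Z₀.subgroupOf A) ?_ ?_ ⟨x, hxA⟩
  · rw [Subgroup.mem_subgroupOf] at key
    simpa using key
  · intro j u hu
    have : (MulAut.conjNormal g : MulAut A) * MulAut.conjNormal h' ^ j
        = MulAut.conjNormal (g * h' ^ j) := by rw [map_mul, map_pow]
    rw [this] at hu
    rw [Subgroup.mem_subgroupOf]
    exact hfix1 j u u.2 (hcomm_of_fix _ u hu)
  · intro u hu
    rw [Subgroup.mem_subgroupOf]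
    exact hfix2 u u.2 (hcomm_of_fix _ u hu)

/-- two "independent" elements modulo a normal subgroup `A` with elementary abelian quotient of
order at least `r ^ 2`. -/
theorem exists_independent {M : Type*} [Group M] [Finite M] (A : Subgroup M) [A.Normal]
    (r : ℕ) [hr : Fact r.Prime] (hpow : ∀ g : M, g ^ r ∈ A) (a : ℕ) (ha : 2 ≤ a)
    (hidx : A.index = r ^ a) :
    ∃ g h' : M, h' ∉ A ∧ ∀ j : ℕ, g * h' ^ j ∉ A := by
  have hp : r.Prime := hr.out
  have hcardQ : Nat.card (M ⧸ A) = r ^ a := by rw [← Subgroup.index_eq_card]; exact hidx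
  have hpowQ : ∀ q : M ⧸ A, q ^ r = 1 := by
    intro q
    obtain ⟨g, rfl⟩ := QuotientGroup.mk_surjective q
    rw [← QuotientGroup.mk_pow]
    exact (QuotientGroup.eq_one_iff _).mpr (hpow g)
  haveI : Nontrivial (M ⧸ A) := by
    apply Finite.one_lt_card_iff_nontrivial.mp
    rw [hcardQ]; exact Nat.one_lt_pow (by omega) hp.one_lt
  obtain ⟨hbar, hhbar⟩ := exists_ne (1 : M ⧸ A)
  have hord : orderOf hbar = r := by
    have := orderOf_dvd_of_pow_eq_one (hpowQ hbar)
    rcases (Nat.dvd_prime hp).mp this with h1 | h1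
    · exact absurd (orderOf_eq_one_iff.mp h1) hhbar
    · exact h1
  have hex : ∃ gbar : M ⧸ A, gbar ∉ Subgroup.zpowers hbar := by
    by_contra hcon
    push Not at hcon
    have htop : Subgroup.zpowers hbar = ⊤ := by
      rw [eq_top_iff]; intro q _; exact hcon q
    have h1 : Nat.card (Subgroup.zpowers hbar) = r ^ a := by
      rw [htop, Subgroup.card_top, hcardQ]
    rw [Nat.card_zpowers, hord] at h1
    have h2 : r ^ 1 = r ^ a := by rw [pow_one]; exact h1
    have := Nat.pow_right_injective hp.two_le h2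
    omega
  obtain ⟨gbar, hgbar⟩ := hex
  obtain ⟨g, rfl⟩ := QuotientGroup.mk_surjective gbar
  obtain ⟨h', rfl⟩ := QuotientGroup.mk_surjective hbar
  refine ⟨g, h', fun hc => hhbar ((QuotientGroup.eq_one_iff _).mpr hc), ?_⟩
  intro j hc
  apply hgbar
  have h1 : ((g * h' ^ j : M) : M ⧸ A) = 1 := (QuotientGroup.eq_one_iff _).mpr hc
  rw [QuotientGroup.mk_mul, QuotientGroup.mk_pow] at h1
  have : (g : M ⧸ A) = ((h' : M ⧸ A) ^ j)⁻¹ := eq_inv_of_mul_eq_one_left h1
  rw [this]
  exact Subgroup.inv_mem _ (Subgroup.pow_mem _ (Subgroup.mem_zpowers _) j)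

/-- an element is a power of its `r`-th power when `r` is coprime to its order. -/
theorem mem_of_pow_mem_of_coprime {M : Type*} [Group M] (Z : Subgroup M) (w : M) (r : ℕ)
    (hw : IsOfFinOrder w) (hcop : (orderOf w).Coprime r) (h : w ^ r ∈ Z) : w ∈ Z := by
  by_cases h1 : orderOf w = 1
  · rw [orderOf_eq_one_iff.mp h1]; exact Z.one_mem
  · have hpos : 0 < orderOf w := hw.orderOf_pos
    obtain ⟨m, -, hm⟩ := Nat.exists_mul_mod_eq_one_of_coprime hcop.symm (by omega : 1 < orderOf w)
    have : w = (w ^ r) ^ m := by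
      rw [← pow_mul, ← pow_mod_orderOf, hm, pow_one]
    rw [this]; exact Z.pow_mem h m

end Cfsg.Agent.Lib.Helper7_ClassSize
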