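import Mathlib
import Cfsg.Agent.S4244
import Cfsg.Agent.Lib.Helper7_Basic

set_option autoImplicit false

namespace Cfsg.Agent.Lib.Helper7_SylowCount

open Subgroup
open scoped Pointwise
open Cfsg.Agent.Lib.Helper7_Basic

variable {G : Type*} [Group G]

/-- membership in `MulAut.conj g • H` -/
theorem mem_conj_smul' (H : Subgroup G) (g x : G) : x ∈ MulAut.conj g • H ↔ g⁻¹ * x * g ∈ H := by
  rw [Subgroup.mem_pointwise_smul_iff_inv_smul_mem]
  simp [MulAut.smul_def, mul_assoc]

/-- Frattini argument: if `P` is a Sylow subgroup of `G` contained in `L`, then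
`N_G(L) ≤ L ⊔ N_G(P)`. -/
theorem normalizer_le_sup_normalizer [Finite G] {p : ℕ} [Fact p.Prime] (P : Sylow p G)
    (L : Subgroup G) (hPL : (P : Subgroup G) ≤ L) :
    normalizer (L : Set G) ≤ L ⊔ normalizer ((P : Subgroup G) : Set G) := by
  intro g hg
  -- g • P ≤ L
  have hgP : ((g • P : Sylow p G) : Subgroup G) ≤ L := by
    intro x hx
    have hx1 : g⁻¹ * x * g ∈ P := (mem_smul_sylow g x P).mp hx
    have h1 : g⁻¹ * x * g ∈ L := hPL hx1
    have h2 : g * (g⁻¹ * x * g) * g⁻¹ ∈ L := (mem_normalizer_iff.mp hg _).mp h1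
    simpa [mul_assoc] using h2
  obtain ⟨x, hx⟩ := MulAction.exists_smul_eq L (P.subtype hPL) ((g • P).subtype hgP)
  -- x • P = g • P as Sylow subgroups of G
  have hx' : ((x : G) • P : Sylow p G) = g • P := by
    apply Sylow.ext
    ext y
    constructor
    · intro hy
      have hy1 : (x : G)⁻¹ * y * x ∈ P := (mem_smul_sylow (x : G) y P).mp hy
      have hyL : y ∈ L := by
        have : (x : G) * ((x : G)⁻¹ * y * x) * (x : G)⁻¹ ∈ L :=
          L.mul_mem (L.mul_mem x.2 (hPL hy1)) (L.inv_mem x.2)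
        simpa [mul_assoc] using this
      have h1 : (⟨y, hyL⟩ : L) ∈ (x • P.subtype hPL : Sylow p L) := by
        rw [mem_smul_sylow]
        show ((x⁻¹ * ⟨y, hyL⟩ * x : L) : G) ∈ P
        simpa using hy1
      rw [hx] at h1
      exact h1
    · intro hy
      have hyL : y ∈ L := hgP hy
      have h1 : (⟨y, hyL⟩ : L) ∈ ((g • P).subtype hgP : Sylow p L) := hy
      rw [← hx, mem_smul_sylow] at h1
      have h2 : ((x⁻¹ * ⟨y, hyL⟩ * x : L) : G) ∈ P := h1
      apply (mem_smul_sylow (x : G) y P).mpr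
      simpa using h2
  -- (x⁻¹ * g) normalizes P
  have hn : (x : G)⁻¹ * g ∈ normalizer ((P : Subgroup G) : Set G) := by
    have h1 : ((x : G)⁻¹ * g) • P = P := by
      rw [mul_smul, ← hx', smul_smul, inv_mul_cancel, one_smul]
    exact Sylow.smul_eq_iff_mem_normalizer.mp h1
  have : g = (x : G) * ((x : G)⁻¹ * g) := by group
  rw [this]
  exact mul_mem (mem_sup_left x.2) (mem_sup_right hn)

/-- `n_p(G) = n_p(G/K) * n_p(PK)`. -/
theorem card_sylow_eq_mul [Finite G] (p : ℕ) [Fact p.Prime] (K : Subgroup G) [K.Normal]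
    (P : Sylow p G) :
    Nat.card (Sylow p G) =
      Nat.card (Sylow p (G ⧸ K)) * Nat.card (Sylow p ↥((P : Subgroup G) ⊔ K)) := by
  have hPL : (P : Subgroup G) ≤ (P : Subgroup G) ⊔ K := le_sup_left
  -- (1)
  have h1 : Nat.card (Sylow p G) = (normalizer ((P : Subgroup G) : Set G)).index :=
    Sylow.card_eq_index_normalizer P
  -- (2)
  have h2 : Nat.card (Sylow p (G ⧸ K)) =
      (normalizer (((P : Subgroup G) ⊔ K : Subgroup G) : Set G)).index := by
    have hsurj := QuotientGroup.mk'_surjective K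
    have e1 : Nat.card (Sylow p (G ⧸ K)) = (normalizer
        (((P.mapSurjective hsurj : Sylow p (G ⧸ K)) : Subgroup (G ⧸ K)) : Set (G ⧸ K))).index :=
      Sylow.card_eq_index_normalizer (P.mapSurjective hsurj)
    rw [e1, ← index_comap_of_surjective _ hsurj, comap_normalizer_eq_of_surjective _ hsurj,
      Sylow.coe_mapSurjective, comap_map_eq, QuotientGroup.ker_mk']
  -- (3)
  have h3 : Nat.card (Sylow p ↥((P : Subgroup G) ⊔ K)) =
      (normalizer ((P : Subgroup G) : Set G)).relIndex ((P : Subgroup G) ⊔ K) := by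
    have e1 : Nat.card (Sylow p ↥((P : Subgroup G) ⊔ K)) = (normalizer
        (((P : Subgroup G).subgroupOf ((P : Subgroup G) ⊔ K) :
          Subgroup ↥((P : Subgroup G) ⊔ K)) : Set ↥((P : Subgroup G) ⊔ K))).index :=
      Sylow.card_eq_index_normalizer (P.subtype hPL)
    rw [e1, ← subgroupOf_normalizer_eq hPL]
    rfl
  -- (4)
  have hNN : normalizer ((P : Subgroup G) : Set G) ≤
      normalizer (((P : Subgroup G) ⊔ K : Subgroup G) : Set G) := by
    have := normalizer_inf_normalizer_le_normalizer_sup (P : Subgroup G) K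
    rw [normalizer_eq_top_iff.mpr (inferInstance : K.Normal), inf_top_eq] at this
    exact this
  have hfrat : ((P : Subgroup G) ⊔ K) ⊔ normalizer ((P : Subgroup G) : Set G) =
      normalizer (((P : Subgroup G) ⊔ K : Subgroup G) : Set G) :=
    le_antisymm (sup_le le_normalizer hNN) (normalizer_le_sup_normalizer P _ hPL)
  have h4 : (normalizer ((P : Subgroup G) : Set G)).relIndex
      (normalizer (((P : Subgroup G) ⊔ K : Subgroup G) : Set G)) =
      (normalizer ((P : Subgroup G) : Set G)).relIndex ((P : Subgroup G) ⊔ K) := by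
    have := Cfsg.Agent.S4244.second_iso_rel ((P : Subgroup G) ⊔ K)
      (normalizer ((P : Subgroup G) : Set G))
      (normalizer (((P : Subgroup G) ⊔ K : Subgroup G) : Set G)) le_normalizer hNN
      (normal_in_normalizer)
    rw [hfrat, inf_relIndex_left] at this
    exact this
  rw [h1, h2, h3, ← h4, mul_comm]
  exact (relIndex_mul_index hNN).symm

end Cfsg.Agent.Lib.Helper7_SylowCount
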