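import Mathlib
import Cfsg.Prelude.Def_Transfer
import Cfsg.Agent.Lib.Helper7_NPC
import Cfsg.Agent.Lib.Helper7_ClassSize
import Cfsg.Agent.Lib.Lead_Coprime
import Cfsg.Agent.Lib.Helper6_Derangement
import Cfsg.Agent.S4341

set_option autoImplicit false

/-!
# Normal `p`-complements, II: control of fusion by a Sylow subgroup
-/

namespace Cfsg.Agent.Lib.Helper7_NPC2

open Cfsg Subgroup
open Cfsg.Agent.Lib.Helper7_Basic Cfsg.Agent.Lib.Helper7_NPC
open scoped Pointwise commutatorElement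

section Control

variable {G : Type*} [Group G] [Finite G] {p : ℕ} [Fact p.Prime]

/-- the subgroup generated by the `p'`-elements of `K` -/
def pRes (p : ℕ) (K : Subgroup G) : Subgroup G :=
  closure {k : G | k ∈ K ∧ (orderOf k).Coprime p}

omit [Finite G] [Fact p.Prime] in
theorem pRes_le (K : Subgroup G) : pRes p K ≤ K := by
  rw [pRes, closure_le]
  exact fun k hk => hk.1

omit [Finite G] [Fact p.Prime] in
theorem pRes_normal (K : Subgroup G) [hK : K.Normal] : (pRes p K).Normal := by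
  apply Cfsg.Agent.Lib.Helper6_Derangement.closure_normal_of_conj
  rintro x ⟨hx, hcop⟩ g
  exact ⟨hK.conj_mem x hx g, by rwa [orderOf_conj']⟩

/-- `K / O^p(K)` is a `p`-group. -/
theorem pRes_relIndex (K : Subgroup G) [hK : K.Normal] : ∃ m : ℕ, (pRes p K).relIndex K = p ^ m := by
  have hp := (Fact.out : p.Prime)
  haveI : ((pRes p K).subgroupOf K).Normal := by
    haveI := pRes_normal (p := p) K
    infer_instance
  have hQ : IsPGroup p (K ⧸ (pRes p K).subgroupOf K) := by
    intro z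
    obtain ⟨k, rfl⟩ := QuotientGroup.mk_surjective z
    obtain ⟨a, b, ha, hb, hab, ⟨j, hj⟩, hbcop, -, -⟩ :=
      Cfsg.Agent.Lib.Helper7_ClassSize.exists_parts (k : G) (isOfFinOrder_of_finite _) p hp
    have haK : a ∈ K := (zpowers_le.mpr k.2) ha
    have hbK : b ∈ K := (zpowers_le.mpr k.2) hb
    have hbR : (⟨b, hbK⟩ : K) ∈ (pRes p K).subgroupOf K := by
      rw [mem_subgroupOf]
      exact subset_closure ⟨hbK, hbcop⟩
    refine ⟨j, ?_⟩
    have hk : k = ⟨a, haK⟩ * ⟨b, hbK⟩ := Subtype.ext hab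
    have h1 : (QuotientGroup.mk k : K ⧸ (pRes p K).subgroupOf K) = QuotientGroup.mk ⟨a, haK⟩ := by
      rw [hk, QuotientGroup.mk_mul, (QuotientGroup.eq_one_iff _).mpr hbR, mul_one]
    rw [h1, ← QuotientGroup.mk_pow]
    have : (⟨a, haK⟩ : K) ^ (p ^ j) = 1 := by
      apply Subtype.ext
      rw [Subgroup.coe_pow, ← hj]
      exact pow_orderOf_eq_one a
    rw [this]; rfl
  obtain ⟨m, hm⟩ := IsPGroup.iff_card.mp hQ
  exact ⟨m, by rw [relIndex, index_eq_card, hm]⟩

/-- Induction step for the control of fusion criterion, relative to a normal subgroup `K`. -/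
theorem exists_of_control (P : Sylow p G) : ∀ n : ℕ, ∀ K : Subgroup G, K.Normal → Nat.card K = n →
    (∀ x ∈ (P : Subgroup G) ⊓ K, ∀ g : G, g * x * g⁻¹ ∈ P → ∃ y ∈ P, g * x * g⁻¹ = y * x * y⁻¹) →
    ∃ L : Subgroup G, L ≤ K ∧ L.Normal ∧ (Nat.card L).Coprime p ∧
      ∃ k : ℕ, L.relIndex K = p ^ k := by
  intro n
  induction n using Nat.strong_induction_on with
  | _ n ih =>
  intro K hKn hn hctl
  haveI := hKn
  have hp := (Fact.out : p.Prime)
  by_cases hpd : p ∣ Nat.card K
  swap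
  · exact ⟨K, le_refl K, hKn, ((Nat.Prime.coprime_iff_not_dvd hp).mpr hpd).symm, 0,
      by rw [relIndex_self, pow_zero]⟩
  -- Sylow subgroup of `K`
  have hS'p : IsPGroup p ((P : Subgroup G).subgroupOf K) := P.isPGroup'.comap_subtype
  have hS'idx : ¬ p ∣ ((P : Subgroup G).subgroupOf K).index :=
    Cfsg.Agent.S4341.not_dvd_relIndex_normal p K P
  let S' : Sylow p K := hS'p.toSylow hS'idx
  have hS'coe : (S' : Subgroup K) = (P : Subgroup G).subgroupOf K :=
    IsPGroup.toSylow_coe hS'p hS'idx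
  have hS'bot : (S' : Subgroup K) ≠ ⊥ := S'.ne_bot_of_dvd_card hpd
  set S : Subgroup G := (P : Subgroup G) ⊓ K with hS
  have hSbot : S ≠ ⊥ := by
    intro h
    apply hS'bot
    rw [hS'coe, eq_bot_iff]
    intro z hz
    rw [mem_subgroupOf] at hz
    have : (z : G) ∈ S := ⟨hz, z.2⟩
    rw [h, mem_bot] at this
    exact mem_bot.mpr (Subtype.ext this)
  have hPS : (P : Subgroup G) ≤ normalizer (S : Set G) := by
    intro y hy
    rw [mem_normalizer_iff]
    intro s
    constructor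
    · intro hs
      obtain ⟨h1, h2⟩ := Subgroup.mem_inf.mp hs
      exact Subgroup.mem_inf.mpr
        ⟨Subgroup.mul_mem _ (Subgroup.mul_mem _ hy h1) (Subgroup.inv_mem _ hy),
          hKn.conj_mem s h2 y⟩
    · intro hs
      obtain ⟨h1, h2⟩ := Subgroup.mem_inf.mp hs
      refine Subgroup.mem_inf.mpr ⟨?_, ?_⟩
      · have : s = y⁻¹ * (y * s * y⁻¹) * y := by group
        rw [this]
        exact Subgroup.mul_mem _ (Subgroup.mul_mem _ (Subgroup.inv_mem _ hy) h1) hy
      · have := hKn.conj_mem _ h2 y⁻¹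
        have e : y⁻¹ * (y * s * y⁻¹) * y⁻¹⁻¹ = s := by group
        rwa [e] at this
  have hlt : ⁅S, (P : Subgroup G)⁆ < S :=
    Cfsg.Agent.Lib.Lead_Coprime.commutator_lt_of_pgroup p S P (P.isPGroup'.to_le inf_le_left)
      P.isPGroup' hPS hSbot
  -- the focal subgroup of `S'` is small
  have hfoc_le : ∀ z ∈ (S' : Subgroup K).focalSubgroup, (z : G) ∈ ⁅S, (P : Subgroup G)⁆ := by
    intro z hz
    rw [focalSubgroup_def] at hz
    induction hz using closure_induction with
    | mem c hc =>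
      obtain ⟨hcS, x, hx, u, rfl⟩ := hc
      rw [hS'coe, mem_subgroupOf] at hx hcS
      have hxS : (x : G) ∈ S := ⟨hx, x.2⟩
      have h1 : (u : G) * (x : G)⁻¹ * (u : G)⁻¹ ∈ P := by
        have e : (u : G) * (x : G)⁻¹ * (u : G)⁻¹ = (x : G)⁻¹ * ((⁅x, u⁆ : K) : G) := by
          rw [commutatorElement_def]
          simp only [coe_mul, coe_inv]
          group
        rw [e]; exact mul_mem (inv_mem hx) hcS
      obtain ⟨y, hy, hyx⟩ := hctl (x : G)⁻¹ (inv_mem hxS) (u : G) h1
      have e2 : ((⁅x, u⁆ : K) : G) = ⁅(x : G), y⁆ := by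
        rw [commutatorElement_def, commutatorElement_def]
        simp only [coe_mul, coe_inv]
        calc (x : G) * u * (x : G)⁻¹ * (u : G)⁻¹
            = (x : G) * ((u : G) * (x : G)⁻¹ * (u : G)⁻¹) := by group
          _ = (x : G) * (y * (x : G)⁻¹ * y⁻¹) := by rw [hyx]
          _ = _ := by group
      rw [e2]
      exact commutator_mem_commutator hxS hy
    | one => exact one_mem _
    | mul a b _ _ iha ihb => rw [coe_mul]; exact mul_mem iha ihb
    | inv a _ iha => rw [coe_inv]; exact inv_mem iha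
  have hfoc_ne : (S' : Subgroup K).focalSubgroupOf ≠ ⊤ := by
    intro h
    rw [focalSubgroupOf_def, subgroupOf_eq_top] at h
    apply hlt.ne
    apply le_antisymm hlt.le
    intro s hs
    have hsS' : (⟨s, hs.2⟩ : K) ∈ (S' : Subgroup K) := by
      rw [hS'coe, mem_subgroupOf]; exact hs.1
    exact hfoc_le _ (h hsS')
  -- kernel of the transfer
  set K₀ : Subgroup K := (S' : Subgroup K).transferFocal.ker with hK₀
  have e := Subgroup.transferFocal.quotientKerMulEquivQuotientFocalSubroupOf S'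
  have hQp : IsPGroup p ((S' : Subgroup K) ⧸ (S' : Subgroup K).focalSubgroupOf) :=
    S'.isPGroup'.to_quotient _
  obtain ⟨k, hk⟩ := IsPGroup.iff_card.mp hQp
  have hK₀idx : K₀.index = p ^ k := by
    rw [index_eq_card, Nat.card_congr e.toEquiv, hk]
  have hK₀ne : K₀ ≠ ⊤ := by
    intro h
    have h1 : K₀.index = 1 := by rw [h, index_top]
    have h2 : Nat.card ((S' : Subgroup K) ⧸ (S' : Subgroup K).focalSubgroupOf) = 1 := by
      rw [← Nat.card_congr e.toEquiv, ← index_eq_card]; exact h1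
    rw [← index_eq_card, index_eq_one] at h2
    exact hfoc_ne h2
  -- the residual
  set K₁ := pRes p K with hK₁
  have hK₁K : K₁ ≤ K := pRes_le K
  haveI hK₁n : K₁.Normal := pRes_normal K
  have hK₁K₀ : K₁.subgroupOf K ≤ K₀ := by
    have h1 : K₁ ≤ K₀.map K.subtype := by
      rw [hK₁, pRes, closure_le]
      rintro x ⟨hxK, hcop⟩
      refine ⟨⟨x, hxK⟩, ?_, rfl⟩
      apply mem_of_index_pow K₀ hK₀idx
      rw [← orderOf_coe]; exact hcop
    intro z hz
    rw [mem_subgroupOf] at hz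
    obtain ⟨w, hw, hwz⟩ := h1 hz
    have : w = z := Subtype.ext hwz
    rw [← this]; exact hw
  have hK₁ne : K₁ ≠ K := by
    intro h
    apply hK₀ne
    rw [eq_top_iff]
    intro z _
    apply hK₁K₀
    rw [mem_subgroupOf, h]; exact z.2
  have hK₁lt : Nat.card K₁ < n :=
    hn ▸ Cfsg.Agent.Lib.Helper5_Sylow.card_lt_of_lt (lt_of_le_of_ne hK₁K hK₁ne)
  obtain ⟨m, hm⟩ := pRes_relIndex (p := p) K
  obtain ⟨L, hLK₁, hLn, hLc, j, hj⟩ := ih (Nat.card K₁) hK₁lt K₁ hK₁n rfl
    (fun x hx g hg => hctl x ⟨hx.1, hK₁K hx.2⟩ g hg)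
  refine ⟨L, hLK₁.trans hK₁K, hLn, hLc, j + m, ?_⟩
  rw [← relIndex_mul_relIndex L K₁ K hLK₁ hK₁K, hj, hm, pow_add]

/-- If a Sylow `p`-subgroup controls its own fusion then the group has a normal `p`-complement. -/
theorem npc_of_control (P : Sylow p G)
    (hctl : ∀ x ∈ P, ∀ g : G, g * x * g⁻¹ ∈ P → ∃ y ∈ P, g * x * g⁻¹ = y * x * y⁻¹) :
    NPC p G := by
  obtain ⟨L, -, hLn, hLc, k, hk⟩ := exists_of_control P _ ⊤ inferInstance rfl
    (fun x hx g hg => hctl x hx.1 g hg)
  exact ⟨L, hLn, hLc, k, by rw [← relIndex_top_right]; exact hk⟩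

end Control

end Cfsg.Agent.Lib.Helper7_NPC2
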