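import Mathlib
import Cfsg.Agent.Lib.Helper5_DihFour2
import Cfsg.Agent.Lib.Helper5_FourFix
import Cfsg.Agent.S0116

set_option autoImplicit false

/-! Four-subgroups in groups with dihedral Sylow 2-subgroups: two classes (helper5). -/

namespace Cfsg.Agent.Lib.Helper5_DihFour3

open DihedralGroup Subgroup Cfsg.Agent.Lib.Helper5_DihFusion Cfsg.Agent.Lib.Helper5_DihAut
  Cfsg.Agent.Lib.Helper5_DihFour2 Cfsg.Agent.Lib.Helper5_KleinSub Cfsg.Agent.Lib.Helper5_FourFix

variable {G : Type*} [Group G] [Finite G] {K : ℕ} [NeZero K]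
  (P : Sylow 2 G) (e : ↥(P : Subgroup G) ≃* DihedralGroup (4 * K))

theorem orderOf_conj_inv (g t : G) : orderOf (g⁻¹ * t * g) = orderOf t := by
  have := orderOf_conj'' g⁻¹ t
  rwa [inv_inv] at this

/-- the Alperin chain preserves `M₁` -/
theorem chain (u v : G) (hu : u ∈ (P : Subgroup G)) (hv : v ∈ (P : Subgroup G)) (huv : u ≠ v)
    (hu2 : orderOf u = 2) (hv2 : orderOf v = 2) (huM : inM1 P e u) (hvM : inM1 P e v) (g : G)
    (hgu : g⁻¹ * u * g ∈ (P : Subgroup G)) (hgv : g⁻¹ * v * g ∈ (P : Subgroup G)) :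
    inM1 P e (g⁻¹ * u * g) ∧ inM1 P e (g⁻¹ * v * g) := by
  haveI : Fact (Nat.Prime 2) := ⟨Nat.prime_two⟩
  have hA : ({u, v} : Set G) ⊆ ((P : Subgroup G) : Set G) := by
    rintro a (rfl | rfl)
    · exact hu
    · exact hv
  have hAg : (fun a => g⁻¹ * a * g) '' ({u, v} : Set G) ⊆ ((P : Subgroup G) : Set G) := by
    rintro _ ⟨a, (rfl | rfl), rfl⟩
    · exact hgu
    · exact hgv
  obtain ⟨n, Q, x, hprod, hall, h0, hstep⟩ := Cfsg.Agent.S0116.result P ({u, v} : Set G) g hA hAg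
  have hlen : (List.ofFn x).length = n := List.length_ofFn
  have key : ∀ k : ℕ, k ≤ n →
      inM1 P e (((List.ofFn x).take k).prod⁻¹ * u * ((List.ofFn x).take k).prod) ∧
      inM1 P e (((List.ofFn x).take k).prod⁻¹ * v * ((List.ofFn x).take k).prod) := by
    intro k
    induction k with
    | zero =>
      intro _
      simp only [List.take_zero, List.prod_nil, inv_one, one_mul, mul_one]
      exact ⟨huM, hvM⟩
    | succ k ih =>
      intro hk
      have hkn : k < n := hk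
      obtain ⟨ihu, ihv⟩ := ih (le_of_lt hkn)
      set gk := ((List.ofFn x).take k).prod with hgk
      have hprodk : ((List.ofFn x).take (k + 1)).prod = gk * x ⟨k, hkn⟩ := by
        rw [List.prod_take_succ _ _ (by rw [hlen]; exact hkn), List.getElem_ofFn]
      -- membership in D
      have hmemD : ∀ a ∈ ({u, v} : Set G),
          gk⁻¹ * a * gk ∈ ((P : Subgroup G) ⊓ (Q ⟨k, hkn⟩ : Subgroup G) : Subgroup G) := by
        intro a ha
        rcases Nat.eq_zero_or_pos k with hk0 | hkpos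
        · subst hk0
          have h1 := h0 hkn ha
          have : gk = 1 := by rw [hgk]; simp
          rw [this, inv_one, one_mul, mul_one]
          exact h1
        · obtain ⟨k', rfl⟩ : ∃ k', k = k' + 1 := ⟨k - 1, by omega⟩
          have h1 := hstep ⟨k', by omega⟩ hkn ⟨a, ha, rfl⟩
          exact h1
      have hD : ((P : Subgroup G) ⊓ (Q ⟨k, hkn⟩ : Subgroup G) : Subgroup G) ≤ (P : Subgroup G) :=
        inf_le_left
      have hne : gk⁻¹ * u * gk ≠ gk⁻¹ * v * gk := by
        intro h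
        exact huv (mul_left_cancel (mul_right_cancel h))
      have hs := step P e _ hD (x ⟨k, hkn⟩) (hall ⟨k, hkn⟩).1 _ _
        (hmemD u (by simp)) (hmemD v (by simp)) hne
        (by rw [orderOf_conj_inv]; exact hu2) (by rw [orderOf_conj_inv]; exact hv2) ihu ihv
      rw [hprodk]
      have e1 : ∀ a : G, (gk * x ⟨k, hkn⟩)⁻¹ * a * (gk * x ⟨k, hkn⟩) =
          (x ⟨k, hkn⟩)⁻¹ * (gk⁻¹ * a * gk) * x ⟨k, hkn⟩ := by
        intro a; group
      rw [e1, e1]
      exact hs
  have hfin := key n le_rfl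
  have htake : (List.ofFn x).take n = List.ofFn x := by
    apply List.take_of_length_le
    rw [hlen]
  rw [htake, hprod] at hfin
  exact hfin


theorem zz_comm (q : DihedralGroup (4 * K)) : zz P e * el P e q = el P e q * zz P e := by
  unfold zz
  rw [← el_mul, ← el_mul]
  congr 1
  rcases q with i | i
  · rw [r_mul_r, r_mul_r, add_comm]
  · rw [r_mul_sr, sr_mul_r]
    congr 1
    have := zmod_half_add K
    calc i - ((2 * K : ℕ) : ZMod (4 * K))
        = i + ((2 * K : ℕ) : ZMod (4 * K)) - (((2 * K : ℕ) : ZMod (4 * K)) + ((2 * K : ℕ) : ZMod (4 * K))) := by ring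
      _ = i + ((2 * K : ℕ) : ZMod (4 * K)) := by rw [this, sub_zero]

theorem zz_sq : zz P e * zz P e = 1 := by
  have := orderOf_zz P e
  rw [← pow_two, ← this]; exact pow_orderOf_eq_one _

theorem sr_sq (i : ZMod (4 * K)) : el P e (sr i) * el P e (sr i) = 1 := by
  rw [← el_mul, sr_mul_self, el_one]

theorem zz_ne_one : zz P e ≠ 1 := by
  intro h
  have := orderOf_zz P e
  rw [h, orderOf_one] at this
  omega

theorem sr_ne_one (i : ZMod (4 * K)) : el P e (sr i) ≠ 1 := by
  intro h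
  rw [← el_one P e] at h
  have := el_inj P e h
  rw [one_def] at this
  cases this

theorem zz_ne_sr (i : ZMod (4 * K)) : zz P e ≠ el P e (sr i) := by
  intro h
  unfold zz at h
  exact absurd (el_inj P e h) (by simp)

/-- the four-group `⟨z, sr i⟩` -/
def Ui (i : ZMod (4 * K)) : Subgroup G :=
  kleinSub (zz P e) (el P e (sr i)) (zz_sq P e) (sr_sq P e i) (zz_comm P e _)

theorem card_Ui (i : ZMod (4 * K)) : Nat.card (Ui P e i) = 4 :=
  card_kleinSub _ _ _ _ _ (zz_ne_one P e) (sr_ne_one P e i) (zz_ne_sr P e i)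

theorem Ui_klein (i : ZMod (4 * K)) : IsKleinFour (Ui P e i) :=
  isKleinFour_of _ (card_Ui P e i) (fun g hg => by rw [pow_two]; exact sq_eq_one_of_mem_kleinSub hg)

theorem Ui_le (i : ZMod (4 * K)) : Ui P e i ≤ (P : Subgroup G) := by
  intro g hg
  rcases mem_kleinSub.mp hg with rfl | rfl | rfl | rfl
  · exact one_mem _
  · exact el_mem P e _
  · exact el_mem P e _
  · exact mul_mem (el_mem P e _) (el_mem P e _)

theorem zz_mul_sr (i : ZMod (4 * K)) :
    zz P e * el P e (sr i) = el P e (sr (i - ((2 * K : ℕ) : ZMod (4 * K)))) := by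
  unfold zz
  rw [← el_mul, r_mul_sr]

theorem c2_half : c2 K ((2 * K : ℕ) : ZMod (4 * K)) = 0 := by
  rw [zmod_half_even, map_add]
  exact CharTwo.add_self_eq_zero _

/-- `U₁` and `U₂` are not conjugate. -/
theorem not_conj (x : G) : (Ui P e 0).map (MulAut.conj x).toMonoidHom ≠ Ui P e 1 := by
  intro h
  have hmem : ∀ t ∈ Ui P e 0, x * t * x⁻¹ ∈ Ui P e 1 := by
    intro t ht
    rw [← h]
    exact ⟨t, ht, by simp [MulAut.conj_apply]⟩
  set u := el P e (sr 0) with hu
  set v := zz P e * el P e (sr 0) with hv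
  have huU : u ∈ Ui P e 0 := right_mem_kleinSub _ _ _ _ _
  have hvU : v ∈ Ui P e 0 := mem_kleinSub.mpr (Or.inr (Or.inr (Or.inr rfl)))
  have hv' : v = el P e (sr (0 - ((2 * K : ℕ) : ZMod (4 * K)))) := zz_mul_sr P e 0
  have huv : u ≠ v := by
    intro h1
    rw [hv', hu] at h1
    have := el_inj P e h1
    rw [sr.injEq] at this
    apply zmod_half_ne K
    have h2 : ((2 * K : ℕ) : ZMod (4 * K)) = 0 - (0 - ((2 * K : ℕ) : ZMod (4 * K))) := by ring
    rw [h2, ← this, sub_zero]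
  have hu2 : orderOf u = 2 := by rw [hu, orderOf_el]; exact orderOf_sr _
  have hv2 : orderOf v = 2 := by rw [hv', orderOf_el]; exact orderOf_sr _
  have huM : inM1 P e u := ⟨sr 0, rfl, by rw [pa_sr, map_zero]⟩
  have hvM : inM1 P e v := ⟨_, hv', by rw [pa_sr, map_sub, map_zero, c2_half, sub_zero]⟩
  have hgu : (x⁻¹)⁻¹ * u * x⁻¹ ∈ (P : Subgroup G) := by
    rw [inv_inv]; exact Ui_le P e 1 (hmem u huU)
  have hgv : (x⁻¹)⁻¹ * v * x⁻¹ ∈ (P : Subgroup G) := by
    rw [inv_inv]; exact Ui_le P e 1 (hmem v hvU)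
  obtain ⟨h1, h2⟩ := chain P e u v (Ui_le P e 0 huU) (Ui_le P e 0 hvU) huv hu2 hv2 huM hvM x⁻¹ hgu hgv
  rw [inv_inv] at h1 h2
  -- elements of U₂ in M₁ are 1 or z
  have key : ∀ t ∈ Ui P e 1, inM1 P e t → t = 1 ∨ t = zz P e := by
    intro t ht htM
    rcases mem_kleinSub.mp ht with rfl | rfl | rfl | rfl
    · left; rfl
    · right; rfl
    · exfalso
      obtain ⟨q, hq, hpq⟩ := htM
      have := el_inj P e hq
      rw [← this, pa_sr, c2_one] at hpq
      exact one_ne_zero hpq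
    · exfalso
      obtain ⟨q, hq, hpq⟩ := htM
      rw [zz_mul_sr] at hq
      have := el_inj P e hq
      rw [← this, pa_sr, map_sub, c2_one, c2_half, sub_zero] at hpq
      exact one_ne_zero hpq
  have hne1 : ∀ t : G, orderOf t = 2 → x * t * x⁻¹ ≠ 1 := by
    intro t ht h1
    have : orderOf (x * t * x⁻¹) = 2 := by rw [orderOf_conj'']; exact ht
    rw [h1, orderOf_one] at this
    omega
  have e1 : x * u * x⁻¹ = zz P e := by
    rcases key _ (hmem u huU) h1 with h | h
    · exact absurd h (hne1 u hu2)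
    · exact h
  have e2 : x * v * x⁻¹ = zz P e := by
    rcases key _ (hmem v hvU) h2 with h | h
    · exact absurd h (hne1 v hv2)
    · exact h
  apply huv
  have := e1.trans e2.symm
  exact mul_left_cancel (mul_right_cancel this)

theorem map_kleinSub_le (d z t z' t' : G) (hz : z * z = 1) (ht : t * t = 1) (hzt : z * t = t * z)
    (hz' : z' * z' = 1) (ht' : t' * t' = 1) (hzt' : z' * t' = t' * z')
    (h1 : d * z * d⁻¹ = z') (h2 : d * t * d⁻¹ = t') :
    (kleinSub z t hz ht hzt).map (MulAut.conj d).toMonoidHom ≤ kleinSub z' t' hz' ht' hzt' := by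
  rintro _ ⟨g, hg, rfl⟩
  simp only [MulEquiv.coe_toMonoidHom, MulAut.conj_apply]
  rcases mem_kleinSub.mp hg with rfl | rfl | rfl | rfl
  · rw [mul_one, mul_inv_cancel]; exact one_mem _
  · rw [h1]; exact left_mem_kleinSub _ _ _ _ _
  · rw [h2]; exact right_mem_kleinSub _ _ _ _ _
  · have : d * (z * t) * d⁻¹ = (d * z * d⁻¹) * (d * t * d⁻¹) := by group
    rw [this, h1, h2]
    exact mem_kleinSub.mpr (Or.inr (Or.inr (Or.inr rfl)))

theorem card_map_conj (H : Subgroup G) (d : G) :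
    Nat.card (H.map (MulAut.conj d).toMonoidHom) = Nat.card H := by
  exact Nat.card_congr (H.equivMapOfInjective _ (MulAut.conj d).injective).toEquiv.symm

/-- every four-subgroup of `P` is `P`-conjugate to `U₁` or `U₂` -/
theorem four_in_P (W : Subgroup G) (hW : W ≤ (P : Subgroup G)) (hW4 : Nat.card W = 4)
    (hW2 : ∀ x ∈ W, x ^ 2 = 1) :
    (∃ d : G, W.map (MulAut.conj d).toMonoidHom = Ui P e 0) ∨
    (∃ d : G, W.map (MulAut.conj d).toMonoidHom = Ui P e 1) := by
  have hord : ∀ t ∈ W, t ≠ 1 → orderOf t = 2 := fun t ht ht1 =>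
    orderOf_eq_prime (hW2 t ht) ht1
  -- z ∈ W
  have hzW : zz P e ∈ W := by
    obtain ⟨t1, ht1W, ht11⟩ : ∃ t ∈ W, t ≠ 1 := by
      by_contra hno
      push_neg at hno
      have : W = ⊥ := (Subgroup.eq_bot_iff_forall W).mpr hno
      rw [this, Subgroup.card_bot] at hW4
      omega
    obtain ⟨t2, ht2W, ht21, ht2t1, -, -, -, -⟩ := four_mem W hW4 hW2 t1 ht1W ht11
    rcases invol_P P e (hW ht1W) (hord t1 ht1W ht11) with h1 | ⟨i, h1⟩
    · rw [← h1]; exact ht1W
    rcases invol_P P e (hW ht2W) (hord t2 ht2W ht21) with h2 | ⟨j, h2⟩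
    · rw [← h2]; exact ht2W
    have h12 : t1 * t2 ≠ 1 := by
      intro h
      apply ht2t1
      have h3 : t1 * t1 = 1 := by rw [← pow_two]; exact hW2 t1 ht1W
      exact (mul_left_cancel (h.trans h3.symm))
    have h3 : t1 * t2 = el P e (r (j - i)) := by rw [h1, h2, ← el_mul, sr_mul_sr]
    rcases invol_P P e (hW (mul_mem ht1W ht2W)) (hord _ (mul_mem ht1W ht2W) h12) with h4 | ⟨k, h4⟩
    · rw [← h4]; exact mul_mem ht1W ht2W
    · rw [h3] at h4
      exact absurd (el_inj P e h4) (by simp)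
  obtain ⟨t, htW, ht1, htz, -, -, -, hWmem⟩ := four_mem W hW4 hW2 (zz P e) hzW (zz_ne_one P e)
  rcases invol_P P e (hW htW) (hord t htW ht1) with h | ⟨i, hti⟩
  · exact absurd h htz
  subst hti
  have hWle : W ≤ Ui P e i := by
    intro g hg
    exact mem_kleinSub.mpr (hWmem g hg)
  have hWeq : W = Ui P e i :=
    Subgroup.eq_of_le_of_card_ge hWle (by rw [hW4, card_Ui])
  -- conjugate by a rotation
  have hconj : ∀ (j i0 : ZMod (4 * K)), i = j + j + i0 →
      ∃ d : G, W.map (MulAut.conj d).toMonoidHom = Ui P e i0 := by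
    intro j i0 hij
    refine ⟨el P e (r j), ?_⟩
    rw [hWeq]
    apply Subgroup.eq_of_le_of_card_ge
    · apply map_kleinSub_le
      · rw [← el_inv, mul_assoc, zz_comm, ← mul_assoc, ← el_mul, mul_inv_cancel, el_one, one_mul]
      · rw [el_conj]
        congr 1
        rw [inv_r, r_mul_sr, sr_mul_r, hij]
        congr 1; ring
    · rw [card_map_conj, card_Ui, card_Ui]
  obtain ⟨j, hj | hj⟩ := zmod_parity K i
  · left; exact hconj j 0 (by rw [hj, add_zero])
  · right; exact hconj j 1 hj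

/-- every Klein four-subgroup of `G` is conjugate to `U₁` or `U₂` -/
theorem four_in_G (V : Subgroup G) (hV : IsKleinFour V) :
    (∃ x : G, V.map (MulAut.conj x).toMonoidHom = Ui P e 0) ∨
    (∃ x : G, V.map (MulAut.conj x).toMonoidHom = Ui P e 1) := by
  haveI : Fact (Nat.Prime 2) := ⟨Nat.prime_two⟩
  have hV4 : Nat.card V = 4 := IsKleinFour.card_four
  have hV2 := sq_of_isKleinFour V hV
  have hVp : IsPGroup 2 V := IsPGroup.of_card (n := 2) (by rw [hV4]; norm_num)
  obtain ⟨c, hc⟩ := Cfsg.Agent.Lib.Helper5_Sylow.exists_conj_le_sylow hVp P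
  have hW4 : Nat.card (V.map (MulAut.conj c).toMonoidHom) = 4 := by rw [card_map_conj, hV4]
  have hW2 : ∀ x ∈ V.map (MulAut.conj c).toMonoidHom, x ^ 2 = 1 := by
    rintro _ ⟨v, hv, rfl⟩
    rw [← map_pow, hV2 v hv, map_one]
  have hcomp : ∀ d : G, (V.map (MulAut.conj c).toMonoidHom).map (MulAut.conj d).toMonoidHom =
      V.map (MulAut.conj (d * c)).toMonoidHom := by
    intro d
    rw [Subgroup.map_map]
    congr 1
    ext g
    simp [MulAut.conj_apply, mul_assoc]
  rcases four_in_P P e _ hc hW4 hW2 with ⟨d, hd⟩ | ⟨d, hd⟩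
  · left; exact ⟨d * c, by rw [← hcomp, hd]⟩
  · right; exact ⟨d * c, by rw [← hcomp, hd]⟩


section final

variable {X : Type*} [Group X] [Finite X]

theorem map_conj_map (H : Subgroup X) (c d : X) :
    (H.map (MulAut.conj c).toMonoidHom).map (MulAut.conj d).toMonoidHom =
      H.map (MulAut.conj (d * c)).toMonoidHom := by
  rw [Subgroup.map_map]
  congr 1
  ext g
  simp [MulAut.conj_apply, mul_assoc]

theorem map_conj_one (H : Subgroup X) : H.map (MulAut.conj (1 : X)).toMonoidHom = H := by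
  ext g
  simp [MulAut.conj_apply]

theorem part_one (S : Sylow 2 X) (hS4 : Nat.card (S : Subgroup X) = 4) (U V : Subgroup X)
    (hU : IsKleinFour U) (hV : IsKleinFour V) :
    ∃ x : X, U.map (MulAut.conj x).toMonoidHom = V := by
  haveI : Fact (Nat.Prime 2) := ⟨Nat.prime_two⟩
  have key : ∀ W : Subgroup X, IsKleinFour W →
      ∃ c : X, W.map (MulAut.conj c).toMonoidHom = (S : Subgroup X) := by
    intro W hW
    have hW4 : Nat.card W = 4 := IsKleinFour.card_four
    have hWp : IsPGroup 2 W := IsPGroup.of_card (n := 2) (by rw [hW4]; norm_num)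
    obtain ⟨c, hc⟩ := Cfsg.Agent.Lib.Helper5_Sylow.exists_conj_le_sylow hWp S
    refine ⟨c, Subgroup.eq_of_le_of_card_ge hc ?_⟩
    rw [card_map_conj, hW4, hS4]
  obtain ⟨c, hc⟩ := key U hU
  obtain ⟨c', hc'⟩ := key V hV
  refine ⟨c'⁻¹ * c, ?_⟩
  rw [← map_conj_map, hc, ← hc', map_conj_map, inv_mul_cancel, map_conj_one]

theorem main {X : Type*} [Group X] [Finite X] (S : Sylow 2 X) (m : ℕ) (hm : 2 ≤ m)
    (eS : (S : Subgroup X) ≃* DihedralGroup m) :
    (Nat.card S = 4 → ∀ U V : Subgroup X, IsKleinFour U → IsKleinFour V →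
      (∃ x : X, U.map (MulAut.conj x).toMonoidHom = V)) ∧
    (4 < Nat.card S → ∃ U₁ U₂ : Subgroup X, IsKleinFour U₁ ∧ IsKleinFour U₂ ∧
      ¬ (∃ x : X, U₁.map (MulAut.conj x).toMonoidHom = U₂) ∧
      ∀ V : Subgroup X, IsKleinFour V → (∃ x : X, V.map (MulAut.conj x).toMonoidHom = U₁) ∨
        (∃ x : X, V.map (MulAut.conj x).toMonoidHom = U₂)) := by
  haveI : Fact (Nat.Prime 2) := ⟨Nat.prime_two⟩
  refine ⟨fun h4 U V hU hV => part_one S h4 U V hU hV, ?_⟩
  intro h4
  have hcardS : Nat.card (S : Subgroup X) = 2 * m := by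
    rw [Nat.card_congr eS.toEquiv, DihedralGroup.nat_card]
  obtain ⟨k, hk⟩ := S.isPGroup'.exists_card_eq
  have hkm : 2 * m = 2 ^ k := by rw [← hcardS, hk]
  have h4' : 4 < 2 ^ k := by rw [← hk]; exact h4
  have hk3 : 3 ≤ k := by
    by_contra hlt
    push_neg at hlt
    have : 2 ^ k ≤ 2 ^ 2 := Nat.pow_le_pow_right (by norm_num) (by omega)
    omega
  obtain ⟨j, rfl⟩ : ∃ j, k = j + 3 := ⟨k - 3, by omega⟩
  have hm4 : m = 4 * 2 ^ j := by
    have : 2 ^ (j + 3) = 2 * (4 * 2 ^ j) := by ring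
    omega
  subst hm4
  haveI : NeZero (2 ^ j) := ⟨by positivity⟩
  refine ⟨Ui S eS 0, Ui S eS 1, Ui_klein S eS 0, Ui_klein S eS 1, ?_, ?_⟩
  · rintro ⟨x, hx⟩
    exact not_conj S eS x hx
  · intro V hV
    exact four_in_G S eS V hV

end final

end Cfsg.Agent.Lib.Helper5_DihFour3
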