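import Mathlib

set_option autoImplicit false

/-!
# Automorphisms of odd order of cyclic 2-groups and generalized quaternion groups
-/

namespace Cfsg.Agent.Lib.Helper6_QuatAut

open QuaternionGroup

/-- Conjugation by an element of the normalizer, as an automorphism of the subgroup. -/
def conjAut {G : Type*} [Group G] (Q : Subgroup G) (g : G)
    (hg : g ∈ Subgroup.normalizer (Q : Set G)) : MulAut Q where
  toFun q := ⟨g * q * g⁻¹, (Subgroup.mem_normalizer_iff.mp hg q).mp q.2⟩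
  invFun q := ⟨g⁻¹ * q * g, by
    have := (Subgroup.mem_normalizer_iff.mp hg (g⁻¹ * q * g))
    rw [this]
    have h2 : g * (g⁻¹ * (q : G) * g) * g⁻¹ = q := by group
    rw [h2]; exact q.2⟩
  left_inv q := by
    apply Subtype.ext
    show g⁻¹ * (g * (q : G) * g⁻¹) * g = q
    group
  right_inv q := by
    apply Subtype.ext
    show g * (g⁻¹ * (q : G) * g) * g⁻¹ = q
    group
  map_mul' a b := by
    apply Subtype.ext
    show g * ((a : G) * (b : G)) * g⁻¹ = (g * (a : G) * g⁻¹) * (g * (b : G) * g⁻¹)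
    group

theorem conjAut_apply {G : Type*} [Group G] (Q : Subgroup G) (g : G)
    (hg : g ∈ Subgroup.normalizer (Q : Set G)) (q : Q) :
    ((conjAut Q g hg q : Q) : G) = g * q * g⁻¹ := rfl

theorem conjAut_pow_apply {G : Type*} [Group G] (Q : Subgroup G) (g : G)
    (hg : g ∈ Subgroup.normalizer (Q : Set G)) (t : ℕ) (q : Q) :
    ((((conjAut Q g hg) ^ t) q : Q) : G) = g ^ t * q * (g ^ t)⁻¹ := by
  induction t with
  | zero => simp
  | succ t ih =>
    rw [pow_succ', MulAut.mul_apply, conjAut_apply, ih, pow_succ']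
    group

theorem conjAut_pow_orderOf {G : Type*} [Group G] (Q : Subgroup G) (g : G)
    (hg : g ∈ Subgroup.normalizer (Q : Set G)) : (conjAut Q g hg) ^ (orderOf g) = 1 := by
  ext q
  rw [conjAut_pow_apply, pow_orderOf_eq_one]
  simp

/-- An automorphism of odd order of a cyclic 2-group is trivial. -/
theorem odd_aut_cyclic_trivial {A : Type*} [Group A] [Finite A] [IsCyclic A] (hA : IsPGroup 2 A)
    (γ : MulAut A) (m : ℕ) (hm : Odd m) (hγ : γ ^ m = 1) : γ = 1 := by
  have : Fact (Nat.Prime 2) := ⟨Nat.prime_two⟩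
  obtain ⟨s, hs⟩ := hA.exists_card_eq
  have hcard : Nat.card (MulAut A) = (2 ^ s).totient := by rw [IsCyclic.card_mulAut, hs]
  have h1 : orderOf γ ∣ m := orderOf_dvd_of_pow_eq_one hγ
  have h2 : orderOf γ ∣ (2 ^ s).totient := by rw [← hcard]; exact orderOf_dvd_natCard γ
  have h3 : (2 ^ s).totient ∣ 2 ^ s := by
    rcases s with _ | s
    · simp
    · rw [Nat.totient_prime_pow Nat.prime_two (Nat.succ_pos s)]
      simp only [Nat.reduceSub, mul_one]
      exact pow_dvd_pow 2 (Nat.le_succ s)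
  have h4 : Nat.Coprime m (2 ^ s) := Nat.Coprime.pow_right s (Nat.coprime_two_right.mpr hm)
  have h5 : Nat.Coprime (orderOf γ) (2 ^ s) := Nat.Coprime.coprime_dvd_left h1 h4
  have h6 : orderOf γ = 1 := Nat.Coprime.eq_one_of_dvd h5 (h2.trans h3)
  exact orderOf_eq_one_iff.mp h6

/-- An automorphism of odd order of a generalized quaternion group of order at least 16 is
trivial. -/
theorem quat_aut_trivial (k : ℕ) (hk : 2 ≤ k) (β : MulAut (QuaternionGroup (2 ^ k))) (m : ℕ)
    (hm : Odd m) (hβ : β ^ m = 1) : β = 1 := by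
  have hN : NeZero (2 ^ k) := ⟨by positivity⟩
  have hN2 : NeZero (2 * 2 ^ k) := ⟨by positivity⟩
  have hN4 : 4 ≤ 2 ^ k := by
    calc 4 = 2 ^ 2 := rfl
      _ ≤ 2 ^ k := Nat.pow_le_pow_right (by norm_num) hk
  have hm0 : m ≠ 0 := by
    rintro rfl
    simp at hm
  have hcop : Nat.Coprime m (2 * 2 ^ k) := by
    rw [← pow_succ']
    exact Nat.Coprime.pow_right _ (Nat.coprime_two_right.mpr hm)
  -- β (a 1) = a r
  obtain ⟨r, hr⟩ : ∃ r, β (a 1) = a r := by
    have ho : orderOf (β (a 1)) = 2 * 2 ^ k := by rw [MulEquiv.orderOf_eq, orderOf_a_one]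
    rcases h : β (a 1) with r | r
    · exact ⟨r, rfl⟩
    · rw [h, orderOf_xa] at ho; omega
  have hapow : ∀ n : ℕ, (a r : QuaternionGroup (2 ^ k)) ^ n = a (r * (n : ZMod (2 * 2 ^ k))) := by
    intro n
    induction n with
    | zero => simp
    | succ n ih =>
      rw [pow_succ, ih, a_mul_a]
      congr 1
      push_cast
      ring
  have hβa : ∀ i : ZMod (2 * 2 ^ k), β (a i) = a (r * i) := by
    intro i
    have h1 : (a i : QuaternionGroup (2 ^ k)) = (a 1) ^ i.val := by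
      rw [a_one_pow, ZMod.natCast_zmod_val]
    rw [h1, map_pow, hr, hapow, ZMod.natCast_zmod_val]
  have hpow : ∀ t : ℕ, (β ^ t) (a 1) = a (r ^ t) := by
    intro t
    induction t with
    | zero => simp
    | succ t ih =>
      rw [pow_succ', MulAut.mul_apply, ih, hβa, pow_succ']
  have hrm : r ^ m = 1 := by
    have h1 := hpow m
    rw [hβ, MulAut.one_apply] at h1
    injection h1 with h
    exact h.symm
  have hr1 : r = 1 := by
    have hu : (Units.ofPowEqOne r m hrm hm0) ^ m = 1 := Units.pow_ofPowEqOne hrm hm0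
    have h1 : orderOf (Units.ofPowEqOne r m hrm hm0) ∣ m := orderOf_dvd_of_pow_eq_one hu
    have h2 : orderOf (Units.ofPowEqOne r m hrm hm0) ∣ Fintype.card (ZMod (2 * 2 ^ k))ˣ :=
      orderOf_dvd_card
    rw [ZMod.card_units_eq_totient] at h2
    have h3 : (2 * 2 ^ k).totient ∣ 2 * 2 ^ k := by
      rw [← pow_succ', Nat.totient_prime_pow Nat.prime_two (Nat.succ_pos k)]
      simp only [Nat.reduceSub, mul_one]
      exact pow_dvd_pow 2 (Nat.le_succ k)
    have h5 : Nat.Coprime (orderOf (Units.ofPowEqOne r m hrm hm0)) (2 * 2 ^ k) :=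
      Nat.Coprime.coprime_dvd_left h1 hcop
    have h6 : orderOf (Units.ofPowEqOne r m hrm hm0) = 1 :=
      Nat.Coprime.eq_one_of_dvd h5 (h2.trans h3)
    have h7 : Units.ofPowEqOne r m hrm hm0 = 1 := orderOf_eq_one_iff.mp h6
    have h8 := congrArg Units.val h7
    rw [Units.val_ofPowEqOne, Units.val_one] at h8
    exact h8
  subst hr1
  have hβa' : ∀ i, β (a i) = a i := by
    intro i
    rw [hβa, one_mul]
  obtain ⟨c, hc⟩ : ∃ c, β (xa 0) = xa c := by
    rcases h : β (xa 0) with i | c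
    · exfalso
      have h1 : β (xa 0) = β (a i) := by rw [h, hβa']
      have h2 := β.injective h1
      cases h2
    · exact ⟨c, rfl⟩
  have hβxa : ∀ i, β (xa i) = xa (c + i) := by
    intro i
    have h1 : (xa i : QuaternionGroup (2 ^ k)) = xa 0 * a i := by rw [xa_mul_a, zero_add]
    rw [h1, map_mul, hc, hβa', xa_mul_a]
  have hpowx : ∀ t : ℕ, (β ^ t) (xa 0) = xa ((t : ZMod (2 * 2 ^ k)) * c) := by
    intro t
    induction t with
    | zero => simp
    | succ t ih =>
      rw [pow_succ', MulAut.mul_apply, ih, hβxa]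
      congr 1
      push_cast
      ring
  have hmc : (m : ZMod (2 * 2 ^ k)) * c = 0 := by
    have h1 := hpowx m
    rw [hβ, MulAut.one_apply] at h1
    injection h1 with h
    exact h.symm
  have hc0 : c = 0 := by
    have hu : IsUnit ((m : ℕ) : ZMod (2 * 2 ^ k)) := (ZMod.isUnit_iff_coprime _ _).mpr hcop
    exact (hu.mul_right_eq_zero).mp hmc
  ext x
  rcases x with i | i
  · rw [hβa']; rfl
  · rw [hβxa, hc0, zero_add]; rfl

theorem q8_F1 : ∀ i j : QuaternionGroup 2, i ^ 2 ≠ 1 → j ^ 2 ≠ 1 → j ≠ i → j ≠ i⁻¹ →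
    (j * j = i ^ 2 ∧ j * i = i⁻¹ * j ∧ i⁻¹ * j⁻¹ = i * j ∧ j * (i * j) = i ∧ i ^ 4 = 1) := by
  decide

theorem q8_F2 : ∀ i j k : QuaternionGroup 2, i ^ 2 ≠ 1 → j ^ 2 ≠ 1 → k ^ 2 ≠ 1 → j ≠ i → j ≠ i⁻¹ →
    k ≠ i → k ≠ i⁻¹ → k ≠ j → k ≠ j⁻¹ → k = i * j ∨ k = (i * j)⁻¹ := by
  decide

theorem q8_F5 : ∀ y : QuaternionGroup 2, ∃ t : Fin 4,
    y = (a 1) ^ t.val ∨ y = xa 0 * (a 1) ^ t.val := by
  decide

/-- If a power of `β` coprime to its (odd) order fixes `x`, so does `β`. -/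
theorem fix_of_pow_fix {A : Type*} [Group A] (β : MulAut A) (m : ℕ) (hβ : β ^ m = 1) (t : ℕ)
    (ht : Nat.Coprime t m) (x : A) (hx : (β ^ t) x = x) : β x = x := by
  have h1 : Nat.Coprime t (orderOf β) :=
    Nat.Coprime.coprime_dvd_right (orderOf_dvd_of_pow_eq_one hβ) ht
  obtain ⟨r, hr⟩ := exists_pow_eq_self_of_coprime h1
  have h2 : ∀ r : ℕ, ((β ^ t) ^ r) x = x := by
    intro r
    induction r with
    | zero => simp
    | succ r ih => rw [pow_succ', MulAut.mul_apply, ih, hx]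
  have h3 := h2 r
  rw [hr] at h3
  exact h3

/-- A nontrivial automorphism of odd order of `Q₈` permutes `i, j, k` cyclically (after a
suitable choice of generators). -/
theorem q8_aut (β : MulAut (QuaternionGroup 2)) (m : ℕ) (hm : Odd m) (hβ : β ^ m = 1)
    (hβ1 : β ≠ 1) :
    ∃ i j : QuaternionGroup 2, β i = j ∧ β j = i * j ∧ i ^ 4 = 1 ∧ i ^ 2 ≠ 1 ∧ j * j = i ^ 2 ∧
      j * i = i⁻¹ * j ∧ j ≠ i ∧ β (β (β i)) = i ∧ β (β (β j)) = j := by
  have hc2 : Nat.Coprime 2 m := Nat.coprime_two_left.mpr hm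
  have hc4 : Nat.Coprime 4 m := by
    have : (4 : ℕ) = 2 ^ 2 := rfl
    rw [this]; exact Nat.Coprime.pow_left 2 hc2
  have hsq_ne : ∀ x : QuaternionGroup 2, x ^ 2 ≠ 1 → (β x) ^ 2 ≠ 1 := by
    intro x hx h
    apply hx
    apply β.injective
    rw [map_pow, h, map_one]
  -- a generator not mapped into its own cyclic subgroup
  have hfix_of_inv : ∀ x : QuaternionGroup 2, β x = x⁻¹ → β x = x := by
    intro x hx
    apply fix_of_pow_fix β m hβ 2 hc2
    rw [pow_two, MulAut.mul_apply, hx, map_inv, hx, inv_inv]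
  have key : ∃ i j : QuaternionGroup 2, i ^ 2 ≠ 1 ∧ j ^ 2 ≠ 1 ∧ j ≠ i ∧ j ≠ i⁻¹ ∧ β i = j ∧
      β j = i * j := by
    obtain ⟨x, hx2, hxne, hxinv⟩ : ∃ x : QuaternionGroup 2, x ^ 2 ≠ 1 ∧ β x ≠ x ∧ β x ≠ x⁻¹ := by
      by_contra hcon
      push Not at hcon
      have h1 : β (a 1) = a 1 := by
        by_contra h
        exact h (hfix_of_inv _ (hcon (a 1) (by decide) h))
      have h2 : β (xa 0) = xa 0 := by
        by_contra h
        exact h (hfix_of_inv _ (hcon (xa 0) (by decide) h))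
      apply hβ1
      ext y
      obtain ⟨t, ht | ht⟩ := q8_F5 y
      · rw [ht, map_pow, h1]; rfl
      · rw [ht, map_mul, map_pow, h1, h2]; rfl
    set i := x with hi
    set j := β i with hj
    set k := β j with hk
    have hj2 : j ^ 2 ≠ 1 := hsq_ne i hx2
    have hk2 : k ^ 2 ≠ 1 := hsq_ne j hj2
    have hkj : k ≠ j := by
      intro h
      exact hxne (β.injective h)
    have hkjinv : k ≠ j⁻¹ := by
      intro h
      exact hkj (hfix_of_inv j h)
    have hki : k ≠ i := by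
      intro h
      apply hxne
      apply fix_of_pow_fix β m hβ 2 hc2
      rw [pow_two, MulAut.mul_apply]
      exact h
    have hkiinv : k ≠ i⁻¹ := by
      intro h
      apply hxne
      apply fix_of_pow_fix β m hβ 4 hc4
      have h4 : β ^ 4 = β * β * (β * β) := by
        rw [show (4 : ℕ) = 2 + 2 from rfl, pow_add, pow_two]
      rw [h4, MulAut.mul_apply, MulAut.mul_apply, MulAut.mul_apply]
      show β (β (β (β i))) = i
      have h5 : β (β i) = i⁻¹ := h
      rw [h5, map_inv, map_inv, h5, inv_inv]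
    rcases q8_F2 i j k hx2 hj2 hk2 hxne hxinv hki hkiinv hkj hkjinv with h | h
    · exact ⟨i, j, hx2, hj2, hxne, hxinv, rfl, h⟩
    · obtain ⟨-, -, h3, -, -⟩ := q8_F1 i j hx2 hj2 hxne hxinv
      refine ⟨i⁻¹, j⁻¹, ?_, ?_, ?_, ?_, ?_, ?_⟩
      · rw [inv_pow]; exact inv_ne_one.mpr hx2
      · rw [inv_pow]; exact inv_ne_one.mpr hj2
      · exact fun h' => hxne (inv_injective h')
      · rw [inv_inv]
        intro h'
        apply hkj
        -- j⁻¹ = i → β j = ... use hfix
        have h6 : β i = i⁻¹ := by rw [← hj, ← h', inv_inv]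
        exact absurd (hfix_of_inv i h6) hxne
      · rw [map_inv]
      · rw [map_inv, h3]
        show k⁻¹ = i * j
        rw [h, inv_inv]
  obtain ⟨i, j, hi2, hj2, hji, hjiinv, hβi, hβj⟩ := key
  obtain ⟨h1, h2, h3, h4, h5⟩ := q8_F1 i j hi2 hj2 hji hjiinv
  have hβij : β (i * j) = i := by rw [map_mul, hβi, hβj, h4]
  refine ⟨i, j, hβi, hβj, h5, hi2, h1, h2, hji, ?_, ?_⟩
  · rw [hβi, hβj, hβij]
  · rw [hβj, hβij, hβi]

end Cfsg.Agent.Lib.Helper6_QuatAut
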