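import Mathlib

set_option autoImplicit false

/-!
The conjugates of a proper subgroup of a finite group do not cover the group (helper7).
-/

namespace Cfsg.Agent.Lib.Helper7_Conj

open Pointwise

/-- The conjugates of a proper subgroup `M` of a finite group do not cover the group:
some `x` lies in no conjugate of `M`. -/
theorem exists_not_mem_conj {G : Type*} [Group G] [Finite G] (M : Subgroup G) (hM : M ≠ ⊤) :
    ∃ x : G, ∀ g : G, x ∉ MulAut.conj g • M := by
  classical
  by_contra hcon
  push Not at hcon
  letI : Fintype G := Fintype.ofFinite G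
  letI : Fintype (G ⧸ M) := Fintype.ofFinite _
  have hB := MulAction.sum_card_fixedBy_eq_card_orbits_mul_card_group G (G ⧸ M)
  have horb : Fintype.card (Quotient (MulAction.orbitRel G (G ⧸ M))) = 1 := by
    rw [Fintype.card_eq_one_iff]
    refine ⟨Quotient.mk'' (QuotientGroup.mk 1), ?_⟩
    intro q
    induction q using Quotient.inductionOn' with
    | h a =>
      apply Quotient.sound'
      exact MulAction.exists_smul_eq G _ _
  rw [horb, one_mul] at hB
  have h1 : ∀ x : G, 1 ≤ Fintype.card (MulAction.fixedBy (G ⧸ M) x) := by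
    intro x
    obtain ⟨g, hg⟩ := hcon x
    rw [Subgroup.mem_pointwise_smul_iff_inv_smul_mem, MulAut.smul_def, MulAut.conj_inv_apply] at hg
    apply Fintype.card_pos_iff.mpr
    refine ⟨⟨QuotientGroup.mk g, ?_⟩⟩
    rw [MulAction.mem_fixedBy]
    show (QuotientGroup.mk (x * g) : G ⧸ M) = QuotientGroup.mk g
    rw [QuotientGroup.eq]
    have : (x * g)⁻¹ * g = (g⁻¹ * x * g)⁻¹ := by group
    rw [this]
    exact M.inv_mem hg
  have h2 : 2 ≤ Fintype.card (MulAction.fixedBy (G ⧸ M) (1 : G)) := by
    have : MulAction.fixedBy (G ⧸ M) (1 : G) = Set.univ := by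
      ext a; simp
    have hc : Fintype.card (MulAction.fixedBy (G ⧸ M) (1 : G)) = Fintype.card (G ⧸ M) := by
      rw [← Nat.card_eq_fintype_card, ← Nat.card_eq_fintype_card, this]
      exact Nat.card_congr (Equiv.Set.univ _)
    rw [hc, ← Nat.card_eq_fintype_card, ← Subgroup.index_eq_card]
    have h0 : M.index ≠ 0 := Subgroup.index_ne_zero_of_finite
    have h1' : M.index ≠ 1 := fun h => hM (Subgroup.index_eq_one.mp h)
    omega
  have h3 : Fintype.card G + 1 ≤ ∑ a : G, Fintype.card (MulAction.fixedBy (G ⧸ M) a) := by
    rw [← Finset.add_sum_erase _ _ (Finset.mem_univ (1 : G))]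
    have : (Finset.univ.erase (1 : G)).card ≤
        ∑ a ∈ Finset.univ.erase (1 : G), Fintype.card (MulAction.fixedBy (G ⧸ M) a) := by
      rw [Finset.card_eq_sum_ones]
      exact Finset.sum_le_sum (fun x _ => h1 x)
    rw [Finset.card_erase_of_mem (Finset.mem_univ _), Finset.card_univ] at this
    have hpos : 0 < Fintype.card G := Fintype.card_pos
    omega
  omega

/-- In a finite group, an element lying in no conjugate of any maximal subgroup... more usefully:
if `x` lies in no proper subgroup's conjugates then it generates.  Here: every proper subgroup of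
a finite group is contained in a maximal one. -/
theorem exists_coatom_ge {G : Type*} [Group G] [Finite G] (H : Subgroup G) (hH : H ≠ ⊤) :
    ∃ M : Subgroup G, IsCoatom M ∧ H ≤ M := by
  rcases eq_top_or_exists_le_coatom H with h | h
  · exact absurd h hH
  · exact h

end Cfsg.Agent.Lib.Helper7_Conj
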