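import Mathlib
import Cfsg.Agent.S0012
import Cfsg.Agent.Lib.Helper7_Conj
import Cfsg.Agent.Lib.Helper5_Sylow

set_option autoImplicit false

/-!
# `p'`-automorphisms of `p`-groups centralizing the elements of order `p` (and `4`)
-/

namespace Cfsg.Agent.Lib.Helper7_OmegaAut

open Subgroup
open scoped commutatorElement

section Class2

variable {G : Type*} [Group G]

/-- `bⁿ a = a bⁿ cⁿ` when `c = [b, a]` commutes with `a` and `b`. -/
theorem pow_mul_class2 (a b c : G) (hc : c = b * a * b⁻¹ * a⁻¹) (hca : Commute c a)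
    (hcb : Commute c b) (n : ℕ) : b ^ n * a = a * b ^ n * c ^ n := by
  have h1 : b * a = a * b * c := by
    have : b * a = c * (a * b) := by rw [hc]; group
    rw [this, (hca.mul_right hcb).eq]
  induction n with
  | zero => simp
  | succ n ih =>
    calc b ^ (n + 1) * a = b * (b ^ n * a) := by rw [pow_succ']; group
      _ = b * (a * b ^ n * c ^ n) := by rw [ih]
      _ = (b * a) * b ^ n * c ^ n := by group
      _ = a * b * c * b ^ n * c ^ n := by rw [h1]
      _ = a * b * (c * b ^ n) * c ^ n := by group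
      _ = a * b * (b ^ n * c) * c ^ n := by rw [(hcb.pow_right n).eq]
      _ = a * b ^ (n + 1) * c ^ (n + 1) := by rw [pow_succ' b n, pow_succ' c n]; group

/-- `cⁿ = [bⁿ, a]`. -/
theorem pow_comm_class2 (a b c : G) (hc : c = b * a * b⁻¹ * a⁻¹) (hca : Commute c a)
    (hcb : Commute c b) (n : ℕ) : c ^ n = b ^ n * a * (b ^ n)⁻¹ * a⁻¹ := by
  rw [pow_mul_class2 a b c hc hca hcb n]
  have : Commute (c ^ n) (b ^ n) := (hcb.pow_left n).pow_right n
  calc c ^ n = a * (b ^ n * c ^ n * (b ^ n)⁻¹) * a⁻¹ := by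
        rw [← this.eq]
        have : Commute (c ^ n) a := hca.pow_left n
        rw [mul_inv_cancel_right, this.eq.symm, mul_inv_cancel_right]
    _ = _ := by group

/-- the power formula in class two -/
theorem mul_pow_class2 (a b c : G) (hc : c = b * a * b⁻¹ * a⁻¹) (hca : Commute c a)
    (hcb : Commute c b) (n : ℕ) : (a * b) ^ n = a ^ n * b ^ n * c ^ (n * (n - 1) / 2) := by
  induction n with
  | zero => simp
  | succ n ih =>
    have ht : (n + 1) * (n + 1 - 1) / 2 = n + n * (n - 1) / 2 := by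
      have := Nat.triangle_succ n
      simp only [Nat.add_sub_cancel] at this ⊢
      rw [this, add_comm]
    have hcbn : Commute (c ^ (n * (n - 1) / 2)) (b ^ n) := (hcb.pow_left _).pow_right n
    have hcan : Commute (c ^ (n * (n - 1) / 2)) a := hca.pow_left _
    calc (a * b) ^ (n + 1) = (a * b) ^ n * (a * b) := pow_succ _ _
      _ = a ^ n * b ^ n * c ^ (n * (n - 1) / 2) * (a * b) := by rw [ih]
      _ = a ^ n * b ^ n * (c ^ (n * (n - 1) / 2) * a) * b := by group
      _ = a ^ n * b ^ n * (a * c ^ (n * (n - 1) / 2)) * b := by rw [hcan.eq]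
      _ = a ^ n * (b ^ n * a) * c ^ (n * (n - 1) / 2) * b := by group
      _ = a ^ n * (a * b ^ n * c ^ n) * c ^ (n * (n - 1) / 2) * b := by
          rw [pow_mul_class2 a b c hc hca hcb n]
      _ = a ^ (n + 1) * b ^ n * (c ^ n * c ^ (n * (n - 1) / 2)) * b := by rw [pow_succ a n]; group
      _ = a ^ (n + 1) * b ^ n * (c ^ (n + n * (n - 1) / 2) * b) := by rw [← pow_add]; group
      _ = a ^ (n + 1) * b ^ n * (b * c ^ (n + n * (n - 1) / 2)) := by
          rw [(hcb.pow_left _).eq]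
      _ = a ^ (n + 1) * b ^ (n + 1) * c ^ ((n + 1) * (n + 1 - 1) / 2) := by
          rw [ht, pow_succ b n]; group

end Class2

section HL

variable {G : Type*} [Group G]

/-- If `g x g⁻¹ = x w` where `g` commutes with the `p`-element `w` and `g` has order prime to `p`,
then `w = 1`. -/
theorem eq_one_of_conj_eq_mul {p : ℕ} (g x w : G) (hgx : g * x * g⁻¹ = x * w)
    (hgw : g * w = w * g) (hw : ∃ k : ℕ, w ^ (p ^ k) = 1) (hcop : (orderOf g).Coprime p) :
    w = 1 := by
  have hk : ∀ k : ℕ, g ^ k * x * (g ^ k)⁻¹ = x * w ^ k := by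
    intro k
    induction k with
    | zero => simp
    | succ k ih =>
      have hgwk : g * w ^ k * g⁻¹ = w ^ k := by
        have : Commute g (w ^ k) := (show Commute g w from hgw).pow_right k
        rw [this.eq]; group
      calc g ^ (k + 1) * x * (g ^ (k + 1))⁻¹ = g * (g ^ k * x * (g ^ k)⁻¹) * g⁻¹ := by
            rw [pow_succ']; group
        _ = g * (x * w ^ k) * g⁻¹ := by rw [ih]
        _ = (g * x * g⁻¹) * (g * w ^ k * g⁻¹) := by group
        _ = x * w * w ^ k := by rw [hgx, hgwk]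
        _ = x * w ^ (k + 1) := by rw [pow_succ' w k]; group
  have h1 := hk (orderOf g)
  rw [pow_orderOf_eq_one, one_mul, inv_one, mul_one] at h1
  have h2 : w ^ orderOf g = 1 := by
    have := mul_left_cancel (a := x) (b := 1) (c := w ^ orderOf g) (by rw [mul_one]; exact h1)
    exact this.symm
  obtain ⟨k, hk'⟩ := hw
  have h3 : w ^ Nat.gcd (orderOf g) (p ^ k) = 1 := pow_gcd_eq_one.mpr ⟨h2, hk'⟩
  have h4 : Nat.gcd (orderOf g) (p ^ k) = 1 := Nat.Coprime.pow_right k hcop
  rw [h4, pow_one] at h3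
  exact h3

end HL

section Main

variable {G : Type*} [Group G] [Finite G] {p : ℕ} [Fact p.Prime]

/-- The Frattini subgroup of a non-trivial finite group is proper. -/
theorem frattini_ne_top (Q : Type*) [Group Q] [Finite Q] [Nontrivial Q] : frattini Q ≠ ⊤ := by
  obtain ⟨M, hM, -⟩ := Cfsg.Agent.Lib.Helper7_Conj.exists_coatom_ge (⊥ : Subgroup Q) bot_ne_top
  intro h
  have := frattini_le_coatom hM
  rw [h] at this
  exact hM.1 (top_le_iff.mp this)

/-- A `p'`-element normalizing a `p`-subgroup `Q` and centralizing all elements of `Q` of order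
dividing `p` (dividing `4` if `p = 2`) centralizes `Q`. -/
theorem commute_of_omega (g : G) (hcop : (orderOf g).Coprime p) :
    ∀ n : ℕ, ∀ Q : Subgroup G, Nat.card Q = n → IsPGroup p Q → g ∈ normalizer (Q : Set G) →
      (∀ a ∈ Q, (a ^ p = 1 ∨ (p = 2 ∧ a ^ 4 = 1)) → g * a = a * g) → ∀ x ∈ Q, g * x = x * g := by
  intro n
  induction n using Nat.strong_induction_on with
  | _ n ih =>
  intro Q hn hQ hgN hΩ
  have hp := (Fact.out : p.Prime)
  have hgQ : ∀ x, x ∈ Q → g * x * g⁻¹ ∈ Q := fun x hx => (mem_normalizer_iff.mp hgN x).mp hx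
  have hgQ' : ∀ x, x ∈ Q → g⁻¹ * x * g⁻¹⁻¹ ∈ Q := by
    intro x hx
    apply (mem_normalizer_iff.mp hgN _).mpr
    have : g * (g⁻¹ * x * g⁻¹⁻¹) * g⁻¹ = x := by group
    rw [this]; exact hx
  by_cases hQ1 : Q = ⊥
  · intro x hx
    rw [hQ1, mem_bot] at hx
    rw [hx, mul_one, one_mul]
  haveI : Nontrivial Q := (Subgroup.nontrivial_iff_ne_bot Q).mpr hQ1
  -- the subgroup generated by `p`-th powers and commutators
  set S : Set G := {y | ∃ x ∈ Q, y = x ^ p} ∪ {y | ∃ a ∈ Q, ∃ b ∈ Q, y = a * b * a⁻¹ * b⁻¹}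
    with hS
  set U := closure S with hU
  have hSQ : S ⊆ Q := by
    rintro y (⟨x, hx, rfl⟩ | ⟨a, ha, b, hb, rfl⟩)
    · exact pow_mem hx p
    · exact mul_mem (mul_mem (mul_mem ha hb) (inv_mem ha)) (inv_mem hb)
  have hUQ : U ≤ Q := (closure_le _).mpr hSQ
  have hSconj : ∀ t : G, (∀ x ∈ Q, t * x * t⁻¹ ∈ Q) → ∀ y ∈ S, t * y * t⁻¹ ∈ S := by
    intro t ht y hy
    rcases hy with ⟨x, hx, rfl⟩ | ⟨a, ha, b, hb, rfl⟩
    · left
      exact ⟨t * x * t⁻¹, ht x hx, by rw [conj_pow]⟩
    · right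
      exact ⟨t * a * t⁻¹, ht a ha, t * b * t⁻¹, ht b hb, by group⟩
  have hUconj : ∀ t : G, (∀ x ∈ Q, t * x * t⁻¹ ∈ Q) → ∀ u ∈ U, t * u * t⁻¹ ∈ U := by
    intro t ht u hu
    induction hu using closure_induction with
    | mem y hy => exact subset_closure (hSconj t ht y hy)
    | one => simp
    | mul a b _ _ iha ihb =>
      have : t * (a * b) * t⁻¹ = (t * a * t⁻¹) * (t * b * t⁻¹) := by group
      rw [this]; exact mul_mem iha ihb
    | inv a _ iha =>
      have : t * a⁻¹ * t⁻¹ = (t * a * t⁻¹)⁻¹ := by group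
      rw [this]; exact inv_mem iha
  -- `U` is proper
  have hUne : U ≠ Q := by
    intro hUQ'
    have hfr := Cfsg.Agent.S0012.result p hQ
    have hle : U ≤ (frattini Q).map Q.subtype := by
      rw [hU, closure_le]
      rintro y (⟨x, hx, rfl⟩ | ⟨a, ha, b, hb, rfl⟩)
      · exact ⟨⟨x, hx⟩ ^ p, hfr.2 ⟨x, hx⟩, by simp⟩
      · refine ⟨⁅(⟨a, ha⟩ : Q), ⟨b, hb⟩⁆, hfr.1 ?_, by simp [commutatorElement_def]⟩
        rw [_root_.commutator_def]
        exact Subgroup.commutator_mem_commutator (mem_top _) (mem_top _)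
    apply frattini_ne_top Q
    rw [eq_top_iff]
    intro x _
    have hx : (x : G) ∈ U := by rw [hUQ']; exact x.2
    obtain ⟨y, hy, hyx⟩ := hle hx
    have : y = x := Subtype.ext hyx
    rw [← this]; exact hy
  have hUlt : U < Q := lt_of_le_of_ne hUQ hUne
  have hUcard : Nat.card U < n := hn ▸ Cfsg.Agent.Lib.Helper5_Sylow.card_lt_of_lt hUlt
  have hnorm_of : ∀ V : Subgroup G, (∀ u ∈ V, g * u * g⁻¹ ∈ V) → (∀ u ∈ V, g⁻¹ * u * g⁻¹⁻¹ ∈ V) →
      g ∈ normalizer (V : Set G) := by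
    intro V h1 h2
    rw [mem_normalizer_iff]
    intro u
    constructor
    · exact h1 u
    · intro hu
      have := h2 _ hu
      have e : g⁻¹ * (g * u * g⁻¹) * g⁻¹⁻¹ = u := by group
      rwa [e] at this
  have hgU : g ∈ normalizer (U : Set G) :=
    hnorm_of U (hUconj g hgQ) (hUconj g⁻¹ hgQ')
  have hFU : ∀ u ∈ U, g * u = u * g :=
    ih (Nat.card U) hUcard U rfl (hQ.to_le hUQ) hgU (fun a ha => hΩ a (hUQ ha))
  have hQconj : ∀ x ∈ Q, ∀ y ∈ Q, x * y * x⁻¹ ∈ Q := fun x hx y hy =>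
    mul_mem (mul_mem hx hy) (inv_mem hx)
  by_cases hUZ : ∀ u ∈ U, ∀ x ∈ Q, u * x = x * u
  swap
  · -- the centralizer of `U` in `Q` is proper
    set W := Q ⊓ centralizer (U : Set G) with hW
    have hWQ : W ≤ Q := inf_le_left
    have hWne : W ≠ Q := by
      intro h
      apply hUZ
      intro u hu x hx
      have : x ∈ W := by rw [h]; exact hx
      exact (mem_centralizer_iff.mp this.2 u hu)
    have hWlt : W < Q := lt_of_le_of_ne hWQ hWne
    have hWcard : Nat.card W < n := hn ▸ Cfsg.Agent.Lib.Helper5_Sylow.card_lt_of_lt hWlt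
    have hWconj : ∀ t : G, (∀ x ∈ Q, t * x * t⁻¹ ∈ Q) → (∀ u ∈ U, t⁻¹ * u * t⁻¹⁻¹ ∈ U) →
        ∀ w ∈ W, t * w * t⁻¹ ∈ W := by
      intro t ht htU w hw
      refine Subgroup.mem_inf.mpr ⟨ht w hw.1, ?_⟩
      rw [mem_centralizer_iff]
      intro u hu
      have h1 := mem_centralizer_iff.mp hw.2 _ (htU u hu)
      -- (t⁻¹ u t) w = w (t⁻¹ u t)
      have : u * (t * w * t⁻¹) = t * ((t⁻¹ * u * t⁻¹⁻¹) * w) * t⁻¹ := by group
      rw [this, h1]; group
    have hgW : g ∈ normalizer (W : Set G) := by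
      apply hnorm_of W
      · exact hWconj g hgQ (hUconj g⁻¹ hgQ')
      · apply hWconj g⁻¹ hgQ'
        intro u hu
        have := hUconj g hgQ u hu
        simpa using this
    have hFW : ∀ w ∈ W, g * w = w * g :=
      ih (Nat.card W) hWcard W rfl (hQ.to_le hWQ) hgW (fun a ha => hΩ a (hWQ ha))
    intro x hx
    set w := x⁻¹ * (g * x * g⁻¹) with hw
    have hwQ : w ∈ Q := mul_mem (inv_mem hx) (hgQ x hx)
    have hwW : w ∈ W := by
      refine Subgroup.mem_inf.mpr ⟨hwQ, ?_⟩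
      rw [mem_centralizer_iff]
      intro u hu
      have h1 : x * u * x⁻¹ ∈ U := hUconj x (hQconj x hx) u hu
      have h2 : g * (x * u * x⁻¹) * g⁻¹ = x * u * x⁻¹ := by rw [hFU _ h1]; group
      have h3 : g * u * g⁻¹ = u := by rw [hFU u hu]; group
      have h4 : (g * x * g⁻¹) * u * (g * x * g⁻¹)⁻¹ = x * u * x⁻¹ := by
        calc (g * x * g⁻¹) * u * (g * x * g⁻¹)⁻¹
            = (g * x * g⁻¹) * (g * u * g⁻¹) * (g * x * g⁻¹)⁻¹ := by rw [h3]
          _ = g * (x * u * x⁻¹) * g⁻¹ := by group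
          _ = _ := h2
      -- u * w = w * u
      have h5 : w * u * w⁻¹ = u := by
        calc w * u * w⁻¹ = x⁻¹ * ((g * x * g⁻¹) * u * (g * x * g⁻¹)⁻¹) * x := by rw [hw]; group
          _ = x⁻¹ * (x * u * x⁻¹) * x := by rw [h4]
          _ = u := by group
      exact (eq_mul_of_mul_inv_eq h5).symm
    have hgw : g * w = w * g := hFW w hwW
    have hgx : g * x * g⁻¹ = x * w := by rw [hw]; group
    obtain ⟨k, hk⟩ := hQ ⟨w, hwQ⟩
    have hk' : w ^ (p ^ k) = 1 := by
      have := congrArg (fun z : Q => (z : G)) hk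
      simpa using this
    have hw1 := eq_one_of_conj_eq_mul g x w hgx hgw ⟨k, hk'⟩ hcop
    rw [hw1, mul_one] at hgx
    exact eq_mul_of_mul_inv_eq hgx
  · -- `U` is central in `Q`
    intro x hx
    set b := g * x * g⁻¹ with hb
    have hbQ : b ∈ Q := hgQ x hx
    set a := x⁻¹ with ha
    have haQ : a ∈ Q := inv_mem hx
    set c := b * a * b⁻¹ * a⁻¹ with hc
    have hcS : c ∈ S := Or.inr ⟨b, hbQ, a, haQ, rfl⟩
    have hcU : c ∈ U := subset_closure hcS
    have hca : Commute c a := hUZ c hcU a haQ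
    have hcb : Commute c b := hUZ c hcU b hbQ
    set w := a * b with hw
    have hwQ : w ∈ Q := mul_mem haQ hbQ
    -- `b ^ p = x ^ p`
    have hxpU : x ^ p ∈ U := subset_closure (Or.inl ⟨x, hx, rfl⟩)
    have hbp : b ^ p = x ^ p := by
      rw [hb, conj_pow, hFU _ hxpU]; group
    have hab : a ^ p * b ^ p = 1 := by rw [hbp, ha, inv_pow, inv_mul_cancel]
    have hcp : c ^ p = 1 := by
      rw [pow_comm_class2 a b c hc hca hcb p, hbp]
      have : x ^ p * a = a * x ^ p := hUZ _ hxpU a haQ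
      rw [this]; group
    have hwΩ : w ^ p = 1 ∨ (p = 2 ∧ w ^ 4 = 1) := by
      have hform := mul_pow_class2 a b c hc hca hcb p
      rw [hab, one_mul] at hform
      rcases hp.eq_two_or_odd' with h2 | hodd
      · right
        refine ⟨h2, ?_⟩
        subst h2
        have h3 : w ^ 2 = c := by rw [hform]; norm_num
        calc w ^ 4 = (w ^ 2) ^ 2 := by rw [← pow_mul]
          _ = c ^ 2 := by rw [h3]
          _ = 1 := hcp
      · left
        obtain ⟨m, hm⟩ := hodd
        have h3 : p * (p - 1) / 2 = p * m := by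
          have : p - 1 = 2 * m := by omega
          rw [this, ← mul_assoc, mul_comm p 2, mul_assoc, Nat.mul_div_cancel_left _ (by norm_num)]
        rw [hform, h3, pow_mul, hcp, one_pow]
    have hgw : g * w = w * g := hΩ w hwQ hwΩ
    have hgx : g * x * g⁻¹ = x * w := by rw [hw, ha, ← hb]; group
    obtain ⟨k, hk⟩ := hQ ⟨w, hwQ⟩
    have hk' : w ^ (p ^ k) = 1 := by
      have := congrArg (fun z : Q => (z : G)) hk
      simpa using this
    have hw1 := eq_one_of_conj_eq_mul g x w hgx hgw ⟨k, hk'⟩ hcop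
    rw [hw1, mul_one] at hgx
    exact eq_mul_of_mul_inv_eq hgx

/-- A `p'`-element normalizing a `p`-subgroup `Q` and centralizing all elements of `Q` of order
dividing `p` (dividing `4` if `p = 2`) centralizes `Q`. -/
theorem mem_centralizer_of_omega (g : G) (hcop : (orderOf g).Coprime p) (Q : Subgroup G)
    (hQ : IsPGroup p Q) (hgN : g ∈ normalizer (Q : Set G))
    (hΩ : ∀ a ∈ Q, (a ^ p = 1 ∨ (p = 2 ∧ a ^ 4 = 1)) → g * a = a * g) :
    g ∈ centralizer (Q : Set G) := by
  rw [mem_centralizer_iff]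
  intro x hx
  exact (commute_of_omega g hcop _ Q rfl hQ hgN hΩ x hx).symm

end Main

end Cfsg.Agent.Lib.Helper7_OmegaAut
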