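import Mathlib
import Cfsg.Agent.Lib.Helper7_Basic
import Cfsg.Agent.Lib.Helper7_OmegaAut
import Cfsg.Agent.Lib.Helper6_QuatAut
import Cfsg.Agent.Lib.Helper5_Sylow

set_option autoImplicit false

/-! Odd order elements normalizing a subgroup of a dihedral 2-group centralize it, unless the
subgroup is a four-group. -/

namespace Cfsg.Agent.Lib.Helper5_Dihedral

open Subgroup

section

variable {X : Type*} [Group X]

/-- The facts about a dihedral group `S` with its rotation subgroup `R` that we use. -/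
structure DihLike (S R : Subgroup X) : Prop where
  le : R ≤ S
  cyc : IsCyclic R
  idx : R.relIndex S = 2
  refl_sq : ∀ x ∈ S, x ∉ R → x ^ 2 = 1

theorem DihLike.mul_mem {S R : Subgroup X} (h : DihLike S R) {x y : X} (hx : x ∈ S) (hy : y ∈ S)
    (hxR : x ∉ R) (hyR : y ∉ R) : x * y ∈ R := by
  have hidx : (R.subgroupOf S).index = 2 := h.idx
  have h1 := Subgroup.mul_mem_iff_of_index_two hidx (a := (⟨x, hx⟩ : S)) (b := (⟨y, hy⟩ : S))
  have h2 : (⟨x, hx⟩ : S) * ⟨y, hy⟩ ∈ R.subgroupOf S := by
    rw [h1]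
    simp only [Subgroup.mem_subgroupOf]
    exact ⟨fun h' => absurd h' hxR, fun h' => absurd h' hyR⟩
  rw [Subgroup.mem_subgroupOf] at h2
  exact h2

theorem DihLike.comm {S R : Subgroup X} (h : DihLike S R) {x y : X} (hx : x ∈ R) (hy : y ∈ R) :
    x * y = y * x := by
  haveI := h.cyc
  obtain ⟨ρ, hρ⟩ := IsCyclic.exists_generator (α := R)
  obtain ⟨i, hi⟩ := hρ ⟨x, hx⟩
  obtain ⟨j, hj⟩ := hρ ⟨y, hy⟩
  have : (⟨x, hx⟩ : R) * ⟨y, hy⟩ = ⟨y, hy⟩ * ⟨x, hx⟩ := by
    rw [← hi, ← hj]
    simp only [← zpow_add, add_comm]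
  exact congrArg Subtype.val this

theorem dihLike_of_equiv (S : Subgroup X) [Finite S] (n : ℕ) (e : S ≃* DihedralGroup n) :
    ∃ R : Subgroup X, DihLike S R := by
  have hn : n ≠ 0 := by
    intro h
    subst h
    have : Infinite (DihedralGroup 0) := by
      have h1 : Nat.card (DihedralGroup 0) = 0 := by rw [DihedralGroup.nat_card]
      exact Nat.card_eq_zero.mp h1 |>.resolve_left (by
        intro h2; exact h2.false (1 : DihedralGroup 0))
    have hfin : Finite (DihedralGroup 0) := Finite.of_equiv S e.toEquiv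
    exact not_finite (DihedralGroup 0)
  haveI : NeZero n := ⟨hn⟩
  set ρ : S := e.symm (DihedralGroup.r 1) with hρ
  refine ⟨zpowers (ρ : X), ?_, ?_, ?_, ?_⟩
  · exact (zpowers_le).mpr ρ.2
  · infer_instance
  · have h1 : orderOf (ρ : X) = n := by
      rw [Subgroup.orderOf_coe, hρ, MulEquiv.orderOf_eq, DihedralGroup.orderOf_r_one]
    have h2 : Nat.card S = 2 * n := by
      rw [Nat.card_congr e.toEquiv, DihedralGroup.nat_card]
    have hle : zpowers (ρ : X) ≤ S := (zpowers_le).mpr ρ.2
    have h3 := Subgroup.card_mul_index ((zpowers (ρ : X)).subgroupOf S)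
    have h4 : Nat.card ((zpowers (ρ : X)).subgroupOf S) = Nat.card (zpowers (ρ : X)) :=
      Nat.card_congr (Subgroup.subgroupOfEquivOfLe hle).toEquiv
    rw [h4, Nat.card_zpowers, h1, h2] at h3
    show ((zpowers (ρ : X)).subgroupOf S).index = 2
    have hnpos : 0 < n := Nat.pos_of_ne_zero hn
    nlinarith
  · intro x hx hxR
    rcases hex : e ⟨x, hx⟩ with i | i
    · exfalso
      apply hxR
      have h1 : (⟨x, hx⟩ : S) = ρ ^ i.val := by
        apply e.injective
        rw [hex, map_pow, hρ, MulEquiv.apply_symm_apply, DihedralGroup.r_one_pow,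
          ZMod.natCast_zmod_val]
      have h2 : x = (ρ : X) ^ i.val := by
        have := congrArg Subtype.val h1
        simpa using this
      rw [h2]
      exact pow_mem (mem_zpowers _) _
    · have h1 : (⟨x, hx⟩ : S) ^ 2 = 1 := by
        apply e.injective
        rw [map_pow, hex, map_one, pow_two, DihedralGroup.sr_mul_self]
      have := congrArg Subtype.val h1
      simpa using this

end

section Frob

variable {X : Type*} [Group X] [Finite X]

/-- Odd order elements normalizing a subgroup `Q` of a dihedral 2-group centralize it, unless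
`Q` is a four-group. -/
theorem dih_frob (S R : Subgroup X) (hS : IsPGroup 2 S) (h : DihLike S R) (Q : Subgroup X)
    (hQ : Q ≤ S) (g : X) (hgN : g ∈ normalizer (Q : Set X)) (hodd : (orderOf g).Coprime 2) :
    g ∈ centralizer (Q : Set X) ∨ (Nat.card Q = 4 ∧ ∀ x ∈ Q, x ^ 2 = 1) := by
  haveI : Fact (Nat.Prime 2) := ⟨Nat.prime_two⟩
  have hgQ : ∀ y ∈ Q, g * y * g⁻¹ ∈ Q := fun y hy => (mem_normalizer_iff.mp hgN y).mp hy
  have hcinj : ∀ y y' : X, g * y * g⁻¹ = g * y' * g⁻¹ → y = y' := by
    intro y y' h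
    exact mul_left_cancel (mul_right_cancel h)
  have hc1 : ∀ y : X, g * y * g⁻¹ = 1 → y = 1 := by
    intro y h
    apply hcinj
    rw [h]; group
  have hcent : (∀ x ∈ Q, g * x * g⁻¹ = x) → g ∈ centralizer (Q : Set X) := by
    intro hall
    rw [mem_centralizer_iff]
    intro y hy
    have := hall y hy
    calc y * g = g * y * g⁻¹ * g := by rw [this]
      _ = g * y := by group
  have star : ∀ y w : X, w ∈ S → g * y * g⁻¹ = y * w → g * w * g⁻¹ = w → w = 1 := by
    intro y w hw h1 h2
    obtain ⟨k, hk⟩ := hS ⟨w, hw⟩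
    have hk' : w ^ 2 ^ k = 1 := by
      have := congrArg Subtype.val hk
      simpa using this
    refine Cfsg.Agent.Lib.Helper7_OmegaAut.eq_one_of_conj_eq_mul (p := 2) g y w h1 ?_
      ⟨k, hk'⟩ hodd
    calc g * w = g * w * g⁻¹ * g := by group
      _ = w * g := by rw [h2]
  -- F1
  have F1 : ∀ y ∈ Q, y ^ 2 ≠ 1 → g * y * g⁻¹ = y := by
    intro y hy hy2
    have hyR : y ∈ R := by
      by_contra hn
      exact hy2 (h.refl_sq y (hQ hy) hn)
    have hy'2 : (g * y * g⁻¹) ^ 2 ≠ 1 := by
      rw [conj_pow]; intro h3; exact hy2 (hc1 _ h3)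
    have hy'R : g * y * g⁻¹ ∈ R := by
      by_contra hn
      exact hy'2 (h.refl_sq _ (hQ (hgQ y hy)) hn)
    have heq : zpowers (g * y * g⁻¹) = zpowers y := by
      apply Cfsg.Agent.Lib.Helper7_Basic.cyclic_subgroup_unique R h.cyc _ _
        ((zpowers_le).mpr hy'R) ((zpowers_le).mpr hyR)
      rw [Nat.card_zpowers, Nat.card_zpowers, Cfsg.Agent.Lib.Helper7_Basic.orderOf_conj']
    have hmap : (zpowers y).map (MulAut.conj g).toMonoidHom = zpowers y := by
      rw [MonoidHom.map_zpowers]
      simpa using heq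
    have hgn : g ∈ normalizer ((zpowers y : Subgroup X) : Set X) :=
      Cfsg.Agent.Lib.Helper5_Sylow.mem_normalizer_of_map_eq g _ hmap
    have hp : IsPGroup 2 (zpowers y) := hS.to_le ((zpowers_le).mpr (hQ hy))
    have hodd' : Odd (orderOf g) := Nat.coprime_two_right.mp hodd
    have h4 := Cfsg.Agent.Lib.Helper6_QuatAut.odd_aut_cyclic_trivial hp
      (Cfsg.Agent.Lib.Helper6_QuatAut.conjAut (zpowers y) g hgn) (orderOf g) hodd'
      (Cfsg.Agent.Lib.Helper6_QuatAut.conjAut_pow_orderOf _ g hgn)
    have h5 := Cfsg.Agent.Lib.Helper6_QuatAut.conjAut_apply (zpowers y) g hgn ⟨y, mem_zpowers y⟩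
    rw [h4] at h5
    simpa using h5.symm
  by_cases hex : ∃ y₀ ∈ Q, y₀ ^ 2 ≠ 1
  · left
    obtain ⟨y₀, hy₀, hy₀2⟩ := hex
    have hy₀R : y₀ ∈ R := by
      by_contra hn
      exact hy₀2 (h.refl_sq y₀ (hQ hy₀) hn)
    have F2 : ∀ x ∈ Q, x ∈ R → x ^ 2 = 1 → g * x * g⁻¹ = x := by
      intro x hx hxR hx2
      have h1 : (x * y₀) ^ 2 ≠ 1 := by
        have hc : Commute x y₀ := h.comm hxR hy₀R
        rw [hc.mul_pow, hx2, one_mul]; exact hy₀2
      have h2 := F1 (x * y₀) (mul_mem hx hy₀) h1
      have h3 := F1 y₀ hy₀ hy₀2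
      have h4 : g * (x * y₀) * g⁻¹ = (g * x * g⁻¹) * (g * y₀ * g⁻¹) := by group
      rw [h4, h3] at h2
      exact mul_right_cancel h2
    apply hcent
    intro x hx
    by_cases hx2 : x ^ 2 = 1
    · by_cases hxR : x ∈ R
      · exact F2 x hx hxR hx2
      · have hx'2 : (g * x * g⁻¹) ^ 2 = 1 := by rw [conj_pow, hx2]; group
        have hx'R : g * x * g⁻¹ ∉ R := by
          intro hmem
          have h1 := F2 _ (hgQ x hx) hmem hx'2
          have h2 := hcinj _ _ h1
          apply hxR; rw [← h2]; exact hmem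
        have hxi : x⁻¹ ∉ R := fun hmem => hxR (by simpa using inv_mem hmem)
        set w := x⁻¹ * (g * x * g⁻¹) with hw
        have hwR : w ∈ R := h.mul_mem (inv_mem (hQ hx)) (hQ (hgQ x hx)) hxi hx'R
        have hwQ : w ∈ Q := mul_mem (inv_mem hx) (hgQ x hx)
        have hgw : g * w * g⁻¹ = w := by
          by_cases hw2 : w ^ 2 = 1
          · exact F2 w hwQ hwR hw2
          · exact F1 w hwQ hw2
        have hxw : g * x * g⁻¹ = x * w := by rw [hw]; group
        have := star x w (hQ hwQ) hxw hgw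
        rw [hxw, this, mul_one]
    · exact F1 x hx hx2
  · push_neg at hex
    -- all elements of Q are involutions
    have hcardQ0 : Nat.card (R ⊓ Q : Subgroup X) ≤ 2 := by
      haveI : IsCyclic (R ⊓ Q : Subgroup X) := by
        haveI := h.cyc
        exact Subgroup.isCyclic_of_le (inf_le_left : R ⊓ Q ≤ R)
      obtain ⟨y, hy⟩ := IsCyclic.exists_ofOrder_eq_natCard (α := (R ⊓ Q : Subgroup X))
      rw [← hy]
      have h1 : y ^ 2 = 1 := by
        apply Subtype.ext
        have := hex (y : X) y.2.2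
        simpa using this
      have := orderOf_dvd_of_pow_eq_one h1
      exact Nat.le_of_dvd (by norm_num) this
    have hrel : (R ⊓ Q).relIndex Q ≤ 2 := by
      rw [inf_relIndex_right]
      have := relIndex_le_of_le_right (H := R) hQ (by rw [h.idx]; norm_num)
      rwa [h.idx] at this
    have hcard : Nat.card Q ≤ 4 := by
      have h3 := Subgroup.card_mul_index ((R ⊓ Q).subgroupOf Q)
      have h4 : Nat.card ((R ⊓ Q).subgroupOf Q) = Nat.card (R ⊓ Q : Subgroup X) :=
        Nat.card_congr (Subgroup.subgroupOfEquivOfLe inf_le_right).toEquiv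
      rw [h4] at h3
      have h5 : ((R ⊓ Q).subgroupOf Q).index ≤ 2 := hrel
      calc Nat.card Q = Nat.card (R ⊓ Q : Subgroup X) * ((R ⊓ Q).subgroupOf Q).index := h3.symm
        _ ≤ 2 * 2 := Nat.mul_le_mul hcardQ0 h5
    obtain ⟨j, hj⟩ := (hS.to_le hQ).exists_card_eq
    by_cases h4 : Nat.card Q = 4
    · right; exact ⟨h4, hex⟩
    · left
      have hj2 : Nat.card Q ≤ 2 := by
        rw [hj] at hcard h4 ⊢
        have hjlt : j < 2 := by
          by_contra hge
          push_neg at hge
          have h5 : 2 ^ 2 ≤ 2 ^ j := Nat.pow_le_pow_right (by norm_num) hge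
          have : 2 ^ j = 4 := by omega
          exact h4 this
        interval_cases j <;> norm_num
      apply hcent
      intro x hx
      by_contra hne
      have hx1 : x ≠ 1 := by
        intro h5; apply hne; rw [h5]; group
      have hx'1 : g * x * g⁻¹ ≠ 1 := fun h5 => hx1 (hc1 x h5)
      have hsub : ({1, x, g * x * g⁻¹} : Set X) ⊆ (Q : Set X) := by
        intro w hw
        simp only [Set.mem_insert_iff, Set.mem_singleton_iff] at hw
        rcases hw with rfl | rfl | rfl
        · exact one_mem _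
        · exact hx
        · exact hgQ _ hx
      have h5 := Set.ncard_le_ncard hsub (Set.toFinite _)
      have h6 : ({1, x, g * x * g⁻¹} : Set X).ncard = 3 := by
        rw [Set.ncard_eq_three]
        exact ⟨1, x, g * x * g⁻¹, fun h => hx1 h.symm, fun h => hx'1 h.symm,
          fun h => hne h.symm, rfl⟩
      have h7 : (Q : Set X).ncard = Nat.card Q := rfl
      omega

/-- The same for an arbitrary 2-subgroup of a group with dihedral Sylow 2-subgroups. -/
theorem dih_frob_sylow (S : Sylow 2 X) (n : ℕ) (e : (S : Subgroup X) ≃* DihedralGroup n)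
    (Q : Subgroup X) (hQ : IsPGroup 2 Q) (g : X) (hgN : g ∈ normalizer (Q : Set X))
    (hodd : (orderOf g).Coprime 2) :
    g ∈ centralizer (Q : Set X) ∨ (Nat.card Q = 4 ∧ ∀ x ∈ Q, x ^ 2 = 1) := by
  haveI : Fact (Nat.Prime 2) := ⟨Nat.prime_two⟩
  obtain ⟨S', hS'⟩ := hQ.exists_le_sylow
  obtain ⟨h, rfl⟩ := MulAction.exists_smul_eq X S S'
  have e' : ((h • S : Sylow 2 X) : Subgroup X) ≃* DihedralGroup n := (S.equivSMul h).symm.trans e
  obtain ⟨R, hR⟩ := dihLike_of_equiv ((h • S : Sylow 2 X) : Subgroup X) n e'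
  exact dih_frob _ R (h • S : Sylow 2 X).isPGroup' hR Q hS' g hgN hodd

/-- The four-group case: if moreover `g` fixes a nontrivial element `t` of `Q`, it
centralizes `Q`. -/
theorem dih_frob_fix (S : Sylow 2 X) (n : ℕ) (e : (S : Subgroup X) ≃* DihedralGroup n)
    (Q : Subgroup X) (hQ : IsPGroup 2 Q) (g : X) (hgN : g ∈ normalizer (Q : Set X))
    (hodd : (orderOf g).Coprime 2) (t : X) (ht : t ∈ Q) (ht1 : t ≠ 1) (hgt : g * t = t * g) :
    g ∈ centralizer (Q : Set X) := by
  rcases dih_frob_sylow S n e Q hQ g hgN hodd with h1 | ⟨h4, hexp⟩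
  · exact h1
  · have hgQ : ∀ y ∈ Q, g * y * g⁻¹ ∈ Q := fun y hy => (mem_normalizer_iff.mp hgN y).mp hy
    have ht2 : t ^ 2 = 1 := hexp t ht
    have hgt' : g * t * g⁻¹ = t := by rw [hgt]; group
    rw [mem_centralizer_iff]
    intro x hx
    suffices hfix : g * x * g⁻¹ = x by
      calc x * g = g * x * g⁻¹ * g := by rw [hfix]
        _ = g * x := by group
    by_cases hx1 : x = 1
    · rw [hx1]; group
    by_cases hxt : x = t
    · rw [hxt]; exact hgt'
    have hsub : ({1, t, x, x * t} : Set X) ⊆ (Q : Set X) := by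
      intro w hw
      simp only [Set.mem_insert_iff, Set.mem_singleton_iff] at hw
      rcases hw with rfl | rfl | rfl | rfl
      · exact one_mem _
      · exact ht
      · exact hx
      · exact mul_mem hx ht
    have hti : t⁻¹ = t := by
      rw [inv_eq_iff_mul_eq_one, ← pow_two]; exact ht2
    have hcard : ({1, t, x, x * t} : Set X).ncard = 4 := by
      rw [Set.ncard_insert_of_notMem, Set.ncard_eq_three.mpr]
      · refine ⟨t, x, x * t, fun h => hxt h.symm, ?_, ?_, rfl⟩
        · intro h
          apply hx1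
          have : x * t = 1 * t := by rw [one_mul]; exact h.symm
          exact mul_right_cancel this
        · intro h
          apply ht1
          have : x * t = x * 1 := by rw [mul_one]; exact h.symm
          exact mul_left_cancel this
      · simp only [Set.mem_insert_iff, Set.mem_singleton_iff, not_or]
        refine ⟨fun h => ht1 h.symm, fun h => hx1 h.symm, ?_⟩
        intro h
        apply hxt
        rw [← hti]
        exact (eq_inv_of_mul_eq_one_left h.symm)
    have heq : ({1, t, x, x * t} : Set X) = (Q : Set X) := by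
      apply Set.eq_of_subset_of_ncard_le hsub _ (Set.toFinite _)
      rw [hcard]
      have : (Q : Set X).ncard = Nat.card Q := rfl
      omega
    have hmem : g * x * g⁻¹ ∈ ({1, t, x, x * t} : Set X) := by
      rw [heq]; exact hgQ x hx
    simp only [Set.mem_insert_iff, Set.mem_singleton_iff] at hmem
    have hcinj : ∀ y y' : X, g * y * g⁻¹ = g * y' * g⁻¹ → y = y' := by
      intro y y' h
      exact mul_left_cancel (mul_right_cancel h)
    rcases hmem with h | h | h | h
    · exfalso; apply hx1; apply hcinj; rw [h]; group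
    · exfalso; apply hxt; apply hcinj; rw [h, hgt']
    · exact h
    · exfalso
      apply ht1
      exact Cfsg.Agent.Lib.Helper7_OmegaAut.eq_one_of_conj_eq_mul (p := 2) g x t h hgt
        ⟨1, by rwa [pow_one]⟩ hodd

end Frob

end Cfsg.Agent.Lib.Helper5_Dihedral
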