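import Mathlib

set_option autoImplicit false

namespace Cfsg.Agent.Lib.Helper5_FixedSubsets

open Equiv Equiv.Perm

variable {n : ℕ}

/-- (⇒) if every permutation of prime order `r` fixes a `k`-subset then `k % r ≤ n % r` -/
theorem core_mp (k r : ℕ) (hr : r.Prime) (hkn : k ≤ n)
    (hP : ∀ σ : Perm (Fin n), orderOf σ = r →
      ∃ s : Finset (Fin n), s.card = k ∧ s.image σ = s) : k % r ≤ n % r := by
  classical
  haveI : Fact r.Prime := ⟨hr⟩
  set q := n / r with hq
  rcases Nat.eq_zero_or_pos q with hq0 | hqpos
  · have hnr : n < r := by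
      rw [hq, Nat.div_eq_zero_iff] at hq0
      rcases hq0 with h | h
      · exact absurd h hr.ne_zero
      · exact h
    rw [Nat.mod_eq_of_lt hnr, Nat.mod_eq_of_lt (lt_of_le_of_lt hkn hnr)]
    exact hkn
  · -- a permutation with q cycles of length r
    have hsum : (Multiset.replicate q r).sum ≤ Fintype.card (Fin n) := by
      rw [Multiset.sum_replicate, Fintype.card_fin, smul_eq_mul, hq]
      exact Nat.div_mul_le_self n r
    obtain ⟨σ, hσ⟩ := (Equiv.Perm.exists_with_cycleType_iff (Fin n)).mpr
      ⟨hsum, fun a ha => by rw [Multiset.eq_of_mem_replicate ha]; exact hr.two_le⟩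
    have hσr : σ ^ r = 1 := by
      apply orderOf_dvd_iff_pow_eq_one.mp
      rw [← Equiv.Perm.lcm_cycleType, hσ]
      apply Multiset.lcm_dvd.mpr
      intro a ha
      rw [Multiset.eq_of_mem_replicate ha]
    have hσ1 : σ ≠ 1 := by
      intro h1
      rw [h1, Equiv.Perm.cycleType_one] at hσ
      have := congrArg Multiset.card hσ
      rw [Multiset.card_zero, Multiset.card_replicate] at this
      omega
    have hord : orderOf σ = r := orderOf_eq_prime hσr hσ1
    obtain ⟨s, hsk, hsσ⟩ := hP σ hord
    have hmem : ∀ x, σ x ∈ s ↔ x ∈ s := by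
      intro x
      constructor
      · intro hx
        rw [← hsσ, Finset.mem_image] at hx
        obtain ⟨y, hy, hyx⟩ := hx
        rwa [← σ.injective hyx]
      · intro hx
        rw [← hsσ]
        exact Finset.mem_image_of_mem σ hx
    set τ : Perm {x // x ∈ s} := σ.subtypePerm hmem with hτ
    have hτr : τ ^ r ^ 1 = 1 := by
      rw [pow_one, hτ, Equiv.Perm.subtypePerm_pow]
      ext x
      simp [hσr]
    have hmod := Equiv.Perm.card_compl_support_modEq hτr
    rw [Fintype.card_coe, hsk] at hmod
    -- the fixed points of τ inject into the fixed points of σ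
    have hle : τ.supportᶜ.card ≤ σ.supportᶜ.card := by
      refine Finset.card_le_card_of_injOn (s := τ.supportᶜ) (t := σ.supportᶜ)
        (fun x : {x // x ∈ s} => (x : Fin n)) ?_ ?_
      · intro x hx
        simp only [Finset.coe_compl, Set.mem_compl_iff, Finset.mem_coe,
          Equiv.Perm.mem_support, not_not] at hx ⊢
        have := congrArg Subtype.val hx
        simpa [hτ] using this
      · intro x _ y _ hxy
        exact Subtype.ext hxy
    have hfix : σ.supportᶜ.card = n % r := by
      rw [Finset.card_compl, ← Equiv.Perm.sum_cycleType, hσ, Multiset.sum_replicate,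
        Fintype.card_fin, smul_eq_mul, hq]
      have := Nat.div_add_mod n r
      have h2 : n / r * r = r * (n / r) := Nat.mul_comm _ _
      omega
    have hlt : n % r < r := Nat.mod_lt _ hr.pos
    have h3 : τ.supportᶜ.card < r := lt_of_le_of_lt (hfix ▸ hle) hlt
    have h4 : k % r = τ.supportᶜ.card := by
      have := hmod
      unfold Nat.ModEq at this
      rw [Nat.mod_eq_of_lt h3] at this
      exact this.symm
    rw [h4, ← hfix]
    exact hle

/-- (⇐) construction of an invariant `k`-subset -/
theorem core_mpr (k r : ℕ) (hr : r.Prime) (hkn : k ≤ n) (hmod : k % r ≤ n % r)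
    (σ : Perm (Fin n)) (hσ : orderOf σ = r) :
    ∃ s : Finset (Fin n), s.card = k ∧ s.image σ = s := by
  classical
  obtain ⟨c', hc'⟩ := Equiv.Perm.cycleType_prime_order (σ := σ) (by rw [hσ]; exact hr)
  rw [hσ] at hc'
  set c := c' + 1 with hc
  have hcard : σ.cycleFactorsFinset.card = c := by
    have := congrArg Multiset.card hc'
    rw [Multiset.card_replicate] at this
    rw [← this, Equiv.Perm.cycleType_def, Multiset.card_map]
    rfl
  have hsupp : σ.support.card = c * r := by
    rw [← Equiv.Perm.sum_cycleType, hc', Multiset.sum_replicate, smul_eq_mul]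
  have hcr : c * r ≤ n := by
    rw [← hsupp]
    calc σ.support.card ≤ Fintype.card (Fin n) := Finset.card_le_univ _
      _ = n := Fintype.card_fin n
  have hsuppc : σ.supportᶜ.card = n - c * r := by
    rw [Finset.card_compl, hsupp, Fintype.card_fin]
  have hfac : ∀ g ∈ σ.cycleFactorsFinset, g.support.card = r := by
    intro g hg
    have : (Finset.card ∘ Equiv.Perm.support) g ∈ σ.cycleType := by
      rw [Equiv.Perm.cycleType_def]
      exact Multiset.mem_map_of_mem _ hg
    rw [hc'] at this
    exact Multiset.eq_of_mem_replicate this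
  set j := min c (k / r) with hj
  set t := k - j * r with ht
  have hjc : j ≤ c := min_le_left _ _
  have hjk : j * r ≤ k := by
    calc j * r ≤ (k / r) * r := Nat.mul_le_mul_right _ (min_le_right _ _)
      _ ≤ k := Nat.div_mul_le_self k r
  have htf : t ≤ n - c * r := by
    rcases le_total c (k / r) with h | h
    · have hjc' : j = c := min_eq_left h
      rw [ht, hjc']
      omega
    · have hjk' : j = k / r := min_eq_right h
      have htk : t = k % r := by
        rw [ht, hjk']
        have := Nat.div_add_mod k r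
        have h2 : k / r * r = r * (k / r) := Nat.mul_comm _ _
        omega
      rw [htk]
      have hcn : c ≤ n / r := (Nat.le_div_iff_mul_le hr.pos).mpr hcr
      have h3 : c * r ≤ (n / r) * r := Nat.mul_le_mul_right _ hcn
      have := Nat.div_add_mod n r
      have h2 : n / r * r = r * (n / r) := Nat.mul_comm _ _
      omega
  obtain ⟨J, hJ, hJc⟩ := Finset.exists_subset_card_eq
    (hcard ▸ hjc : j ≤ σ.cycleFactorsFinset.card)
  obtain ⟨T, hT, hTc⟩ := Finset.exists_subset_card_eq (hsuppc ▸ htf : t ≤ σ.supportᶜ.card)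
  have hcardS : (J.biUnion Equiv.Perm.support ∪ T).card = k := by
    rw [Finset.card_union_of_disjoint, Finset.card_biUnion, hTc]
    · rw [Finset.sum_congr rfl (fun g hg => hfac g (hJ hg)), Finset.sum_const, hJc, smul_eq_mul]
      omega
    · intro g hg g' hg' hne
      exact (Equiv.Perm.cycleFactorsFinset_pairwise_disjoint σ (hJ hg) (hJ hg') hne).disjoint_support
    · rw [Finset.disjoint_left]
      intro x hx hxT
      obtain ⟨g, hgJ, hxg⟩ := Finset.mem_biUnion.mp hx
      have h1 := Equiv.Perm.mem_cycleFactorsFinset_support_le (hJ hgJ) hxg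
      exact (Finset.mem_compl.mp (hT hxT)) h1
  refine ⟨J.biUnion Equiv.Perm.support ∪ T, hcardS, ?_⟩
  apply Finset.eq_of_subset_of_card_le
  · intro y hy
    obtain ⟨x, hx, rfl⟩ := Finset.mem_image.mp hy
    rcases Finset.mem_union.mp hx with h | h
    · obtain ⟨g, hgJ, hxg⟩ := Finset.mem_biUnion.mp h
      have hg := Equiv.Perm.mem_cycleFactorsFinset_iff.mp (hJ hgJ)
      have h1 : σ x = g x := (hg.2 x hxg).symm
      rw [h1]
      exact Finset.mem_union_left _
        (Finset.mem_biUnion.mpr ⟨g, hgJ, Equiv.Perm.apply_mem_support.mpr hxg⟩)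
    · have h1 : σ x = x := Equiv.Perm.notMem_support.mp (Finset.mem_compl.mp (hT h))
      rw [h1]
      exact Finset.mem_union_right _ h
  · rw [Finset.card_image_of_injective _ σ.injective]

/-- Lucas: if `k < r`, `k ≤ n % r` then `r ∤ choose n k` -/
theorem not_dvd_choose (k r : ℕ) (hr : r.Prime) (hkr : k < r) (hk : k ≤ n % r) :
    ¬ r ∣ Nat.choose n k := by
  haveI : Fact r.Prime := ⟨hr⟩
  intro hd
  have h1 := Choose.choose_modEq_choose_mod_mul_choose_div_nat (p := r) (n := n) (k := k)
  rw [Nat.mod_eq_of_lt hkr, Nat.div_eq_of_lt hkr, Nat.choose_zero_right, mul_one] at h1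
  have h2 : r ∣ Nat.choose (n % r) k := by
    rw [← Nat.modEq_zero_iff_dvd] at hd ⊢
    exact h1.symm.trans hd
  have h3 : r ∣ (n % r).factorial := by
    rw [← Nat.choose_mul_factorial_mul_factorial hk, mul_assoc]
    exact Dvd.dvd.mul_right h2 _
  have h4 := (hr.dvd_factorial).mp h3
  have := Nat.mod_lt n hr.pos
  omega

theorem main (n k : ℕ) (hk : 1 ≤ k) (hkn : 2 * k < n) (r : ℕ) (hr : r.Prime)
    (hrd : r ∣ Nat.choose n k) :
    (r ≠ 2 → ((∀ σ : Equiv.Perm (Fin n), orderOf σ = r →
        ∃ s : Finset (Fin n), s.card = k ∧ s.image σ = s) ↔ (r ≤ k ∧ k % r ≤ n % r))) ∧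
    (r = 2 → ((∀ σ : Equiv.Perm (Fin n), orderOf σ = 2 →
        ∃ s : Finset (Fin n), s.card = k ∧ s.image σ = s) ↔ (Even k ∨ Odd n))) := by
  have hkn' : k ≤ n := by omega
  constructor
  · intro _
    constructor
    · intro hP
      have h1 := core_mp k r hr hkn' hP
      refine ⟨?_, h1⟩
      by_contra hlt
      push_neg at hlt
      rw [Nat.mod_eq_of_lt hlt] at h1
      exact not_dvd_choose k r hr hlt h1 hrd
    · rintro ⟨_, h2⟩ σ hσ
      exact core_mpr k r hr hkn' h2 σ hσ
  · intro hr2
    subst hr2
    constructor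
    · intro hP
      have h1 := core_mp k 2 hr hkn' hP
      rcases Nat.even_or_odd k with hk | hk
      · left; exact hk
      · right
        rw [Nat.odd_iff] at hk ⊢
        have := Nat.mod_lt n (by norm_num : 0 < 2)
        omega
    · intro h σ hσ
      apply core_mpr k 2 hr hkn' ?_ σ hσ
      rcases h with h | h
      · rw [Nat.even_iff] at h
        omega
      · rw [Nat.odd_iff] at h
        have := Nat.mod_lt k (by norm_num : 0 < 2)
        omega

end Cfsg.Agent.Lib.Helper5_FixedSubsets
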