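import Mathlib
import Cfsg.Prelude.Def_CaseTheorems
import Cfsg.Agent.Lib.Helper5_Sylow
import Cfsg.Agent.Lib.Helper5_CharP
import Cfsg.Agent.Lib.Helper5_SE
import Cfsg.Agent.Lib.Helper5_KleinSub

set_option autoImplicit false

/-!
Four-connectedness and the 2-generated core (helper5).
-/

namespace Cfsg.Agent.Lib.Helper5_FourConn

open Cfsg Cfsg.Agent.Lib.Helper5_Sylow Cfsg.Agent.Lib.Helper5_CharP Cfsg.Agent.Lib.Helper5_SE
open Cfsg.Agent.Lib.Helper5_KleinSub

variable {G : Type*} [Group G]

/-- `Y ⊇ P` controls fusion of the subgroups of `P` having an upward-closed conjugation-invariant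
property, when it contains their normalizers -/
theorem control_of_pred [Finite G] {p : ℕ} [Fact p.Prime] {Y : Subgroup G} (P : Sylow p G)
    (hPY : (P : Subgroup G) ≤ Y) (pr : Subgroup G → Prop)
    (hup : ∀ Q Q' : Subgroup G, pr Q → Q ≤ Q' → pr Q')
    (hconj : ∀ (Q : Subgroup G) (c : G), pr Q → pr (Q.map (MulAut.conj c).toMonoidHom))
    (hN : ∀ Q : Subgroup G, Q ≤ (P : Subgroup G) → pr Q → Subgroup.normalizer (Q : Set G) ≤ Y) :
    ∀ (n : ℕ) (Q : Subgroup G), Nat.card (P : Subgroup G) - Nat.card Q = n →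
      Q ≤ (P : Subgroup G) → pr Q → ∀ c : G,
        Q.map (MulAut.conj c).toMonoidHom ≤ (P : Subgroup G) → c ∈ Y := by
  intro n
  induction n using Nat.strong_induction_on with
  | _ n ih =>
  intro Q hn hQP hQ c hc
  by_cases hQeq : Q = (P : Subgroup G)
  · have h1 : Q.map (MulAut.conj c).toMonoidHom = Q := by
      rw [hQeq] at hc ⊢
      exact Subgroup.eq_of_le_of_card_ge hc (by rw [card_map_conj])
    exact hN Q hQP hQ (mem_normalizer_of_map_eq c _ h1)
  · have hlt : Q < (P : Subgroup G) := lt_of_le_of_ne hQP hQeq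
    have hcardlt : Nat.card Q < Nat.card (P : Subgroup G) := card_lt_of_lt hlt
    have hQ2lt : Q.map (MulAut.conj c).toMonoidHom < (P : Subgroup G) := by
      refine lt_of_le_of_ne hc ?_
      intro h
      have := card_map_conj c Q
      rw [h] at this
      omega
    have hR1 := lt_inf_normalizer P.isPGroup' hlt
    have hR2 := lt_inf_normalizer P.isPGroup' hQ2lt
    have hR2' : ((P : Subgroup G) ⊓ Subgroup.normalizer
        ((Q.map (MulAut.conj c).toMonoidHom : Subgroup G) : Set G)).map
          (MulAut.conj c⁻¹).toMonoidHom ≤ Subgroup.normalizer (Q : Set G) := by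
      rintro _ ⟨r, hr, rfl⟩
      simp only [MulEquiv.coe_toMonoidHom, MulAut.conj_apply, inv_inv]
      apply mem_normalizer_of_forall_conj_mem
      · intro q hq
        have h1 : c * q * c⁻¹ ∈ Q.map (MulAut.conj c).toMonoidHom := ⟨q, hq, by simp⟩
        have h2 := conj_mem_of_mem_normalizer hr.2 h1
        obtain ⟨q', hq', hq'e⟩ := h2
        simp only [MulEquiv.coe_toMonoidHom, MulAut.conj_apply] at hq'e
        have : c⁻¹ * r * c * q * (c⁻¹ * r * c)⁻¹ = q' := by
          have : q' = c⁻¹ * (c * q' * c⁻¹) * c := by group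
          rw [this, hq'e]; group
        rw [this]; exact hq'
      · intro q hq
        have h1 : c * q * c⁻¹ ∈ Q.map (MulAut.conj c).toMonoidHom := ⟨q, hq, by simp⟩
        have h2 := conj_mem_of_mem_normalizer' hr.2 h1
        obtain ⟨q', hq', hq'e⟩ := h2
        simp only [MulEquiv.coe_toMonoidHom, MulAut.conj_apply] at hq'e
        have : (c⁻¹ * r * c)⁻¹ * q * (c⁻¹ * r * c) = q' := by
          have : q' = c⁻¹ * (c * q' * c⁻¹) * c := by group
          rw [this, hq'e]; group
        rw [this]; exact hq'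
    obtain ⟨k, hk, R, hRp, hRK, hR1R, hR2R⟩ :=
      exists_conj_le_common_pgroup (K := Subgroup.normalizer (Q : Set G))
        (inf_le_right : (P : Subgroup G) ⊓ Subgroup.normalizer (Q : Set G) ≤ _) hR2'
        (P.isPGroup'.to_le inf_le_left) ((P.isPGroup'.to_le inf_le_left).map _)
    have hKY : Subgroup.normalizer (Q : Set G) ≤ Y := hN Q hQP hQ
    obtain ⟨y, hy, hyR⟩ := exists_conj_le_of_le P hPY (hRK.trans hKY) hRp
    have hd : ((P : Subgroup G) ⊓ Subgroup.normalizer
        ((Q.map (MulAut.conj c).toMonoidHom : Subgroup G) : Set G)).map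
          (MulAut.conj (y * (k * c⁻¹))).toMonoidHom ≤ (P : Subgroup G) := by
      rw [← map_conj_mul, ← map_conj_mul]
      exact (Subgroup.map_mono hR2R).trans hyR
    have hcardQ2 : Nat.card (Q.map (MulAut.conj c).toMonoidHom) = Nat.card Q := card_map_conj c Q
    have hcardR2 := card_lt_of_lt hR2
    have hcardR2le : Nat.card ((P : Subgroup G) ⊓ Subgroup.normalizer
        ((Q.map (MulAut.conj c).toMonoidHom : Subgroup G) : Set G) : Subgroup G) ≤
        Nat.card (P : Subgroup G) := Subgroup.card_le_of_le inf_le_left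
    have hpr2 : pr ((P : Subgroup G) ⊓ Subgroup.normalizer
        ((Q.map (MulAut.conj c).toMonoidHom : Subgroup G) : Set G)) :=
      hup _ _ (hconj Q c hQ) (le_inf hc Subgroup.le_normalizer)
    have hmem := ih (Nat.card (P : Subgroup G) - Nat.card ((P : Subgroup G) ⊓ Subgroup.normalizer
        ((Q.map (MulAut.conj c).toMonoidHom : Subgroup G) : Set G) : Subgroup G)) (by omega) _ rfl
        inf_le_left hpr2 (y * (k * c⁻¹)) hd
    have hkY : k ∈ Y := hKY hk
    have h3 : (y * k)⁻¹ * (y * (k * c⁻¹)) ∈ Y := Y.mul_mem (Y.inv_mem (Y.mul_mem hy hkY)) hmem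
    have h4 : (y * k)⁻¹ * (y * (k * c⁻¹)) = c⁻¹ := by group
    rw [h4] at h3
    exact (Subgroup.inv_mem_iff Y).1 h3

/-! ### Klein four-subgroups -/

theorem isKleinFour_kleinSub {P : Type*} [Group P] (z t : P) (hz : z * z = 1) (ht : t * t = 1)
    (hzt : z * t = t * z)
    (hz1 : z ≠ 1) (ht1 : t ≠ 1) (hne : z ≠ t) : IsKleinFour (kleinSub z t hz ht hzt) := by
  have hcard := card_kleinSub z t hz ht hzt hz1 ht1 hne
  refine ⟨hcard, ?_⟩
  have h1 : Monoid.exponent (kleinSub z t hz ht hzt) ∣ 2 := by
    apply Monoid.exponent_dvd_of_forall_pow_eq_one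
    intro g
    apply Subtype.ext
    rw [Subgroup.coe_pow, Subgroup.coe_one, pow_two]
    exact sq_eq_one_of_mem_kleinSub g.2
  have h2 : Monoid.exponent (kleinSub z t hz ht hzt) ≠ 1 := by
    intro h
    rw [Monoid.exp_eq_one_iff] at h
    have := Nat.card_eq_one_iff_unique.mpr ⟨h, ⟨1⟩⟩
    omega
  have h3 := Nat.le_of_dvd (by norm_num) h1
  have h4 : Monoid.exponent (kleinSub z t hz ht hzt) ≠ 0 := by
    intro h
    rw [h] at h1
    omega
  omega

theorem isKleinFour_of_equiv {A B : Type*} [Group A] [Group B] (e : A ≃* B) (h : IsKleinFour A) :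
    IsKleinFour B :=
  ⟨by rw [← Nat.card_congr e.toEquiv]; exact h.card_four,
   by rw [← Monoid.exponent_eq_of_mulEquiv e]; exact h.exponent_two⟩

theorem sq_of_four {P : Type*} [Group P] (h : IsKleinFour P) (x : P) : x * x = 1 := by
  have := Monoid.pow_exponent_eq_one x
  rw [h.exponent_two, pow_two] at this
  exact this

theorem comm_of_four {P : Type*} [Group P] (h : IsKleinFour P) (x y : P) : x * y = y * x :=
  mul_comm_of_exponent_two h.exponent_two x y

/-- rank at least two means containing a four-group -/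
theorem not_rank_iff (P : Type*) [Group P] [Finite P] :
    ¬ Cfsg.PRankLE 2 1 P ↔ ∃ U : Subgroup P, IsKleinFour U := by
  constructor
  · intro h
    unfold Cfsg.PRankLE at h
    push_neg at h
    obtain ⟨A, hAc, hA2, hAcard⟩ := h
    have hAcard' : 2 < Nat.card A := by simpa using hAcard
    haveI : Fintype A := Fintype.ofFinite A
    rw [Nat.card_eq_fintype_card] at hAcard'
    obtain ⟨z, hz⟩ : ∃ z : A, z ≠ 1 := by
      by_contra hcon
      push_neg at hcon
      have : Fintype.card A ≤ 1 := Fintype.card_le_one_iff.mpr (fun a b => by rw [hcon a, hcon b])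
      omega
    obtain ⟨t, ht1, htz⟩ : ∃ t : A, t ≠ 1 ∧ t ≠ z := by
      by_contra hcon
      push_neg at hcon
      have : Fintype.card A ≤ 2 := by
        classical
        have hsub : (Finset.univ : Finset A) ⊆ ({1, z} : Finset A) := by
          intro a _
          by_cases ha : a = 1
          · simp [ha]
          · simp [hcon a ha]
        calc Fintype.card A = (Finset.univ : Finset A).card := rfl
          _ ≤ ({1, z} : Finset A).card := Finset.card_le_card hsub
          _ ≤ 2 := Finset.card_le_two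
      omega
    have hzz : (z : P) * (z : P) = 1 := by
      have := hA2 z z.2
      rwa [pow_two] at this
    have htt : (t : P) * (t : P) = 1 := by
      have := hA2 t t.2
      rwa [pow_two] at this
    have hzt : (z : P) * (t : P) = (t : P) * (z : P) := by
      have := hAc.is_comm.comm z t
      exact congrArg Subtype.val this
    refine ⟨kleinSub (z : P) (t : P) hzz htt hzt, isKleinFour_kleinSub _ _ hzz htt hzt ?_ ?_ ?_⟩
    · intro h; apply hz; exact Subtype.ext h
    · intro h; apply ht1; exact Subtype.ext h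
    · intro h; apply htz; exact (Subtype.ext h).symm
  · rintro ⟨U, hU⟩ h
    have := h U ⟨⟨fun a b => comm_of_four hU a b⟩⟩ (by
      intro a ha
      have := sq_of_four hU ⟨a, ha⟩
      rw [pow_two]
      exact congrArg Subtype.val this)
    rw [hU.card_four] at this
    omega

theorem not_rank_sub_iff [Finite G] (Q : Subgroup G) :
    ¬ Cfsg.PRankLE 2 1 ↥Q ↔ ∃ U : Subgroup G, U ≤ Q ∧ IsKleinFour U := by
  rw [not_rank_iff]
  constructor
  · rintro ⟨U, hU⟩
    refine ⟨U.map Q.subtype, Subgroup.map_subtype_le U, ?_⟩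
    exact isKleinFour_of_equiv (U.equivMapOfInjective Q.subtype Q.subtype_injective) hU
  · rintro ⟨U, hUQ, hU⟩
    exact ⟨U.subgroupOf Q, isKleinFour_of_equiv (Subgroup.subgroupOfEquivOfLe hUQ).symm hU⟩

/-! ### the commuting graph -/

/-- adjacency of the commuting graph on four-subgroups -/
def adjF (A B : Subgroup G) : Prop :=
  IsKleinFour A ∧ IsKleinFour B ∧ ∀ a ∈ A, ∀ b ∈ B, a * b = b * a

theorem adjF_symm {A B : Subgroup G} (h : adjF A B) : adjF B A :=
  ⟨h.2.1, h.1, fun b hb a ha => (h.2.2 a ha b hb).symm⟩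

theorem four_map_conj {U : Subgroup G} (h : IsKleinFour U) (g : G) :
    IsKleinFour (U.map (MulAut.conj g).toMonoidHom) :=
  isKleinFour_of_equiv (U.equivMapOfInjective _ (MulAut.conj g).injective) h

theorem adjF_map_conj {A B : Subgroup G} (h : adjF A B) (g : G) :
    adjF (A.map (MulAut.conj g).toMonoidHom) (B.map (MulAut.conj g).toMonoidHom) := by
  refine ⟨four_map_conj h.1 g, four_map_conj h.2.1 g, ?_⟩
  rintro _ ⟨a, ha, rfl⟩ _ ⟨b, hb, rfl⟩
  simp only [MulEquiv.coe_toMonoidHom, MulAut.conj_apply]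
  have := h.2.2 a ha b hb
  calc g * a * g⁻¹ * (g * b * g⁻¹) = g * (a * b) * g⁻¹ := by group
    _ = g * (b * a) * g⁻¹ := by rw [this]
    _ = g * b * g⁻¹ * (g * a * g⁻¹) := by group

/-- connectedness relation -/
def conn (A B : Subgroup G) : Prop := Relation.ReflTransGen adjF A B

theorem conn_symm {A B : Subgroup G} (h : conn A B) : conn B A := by
  unfold conn at h ⊢
  induction h with
  | refl => exact Relation.ReflTransGen.refl
  | tail _ hbc ih => exact (Relation.ReflTransGen.single (adjF_symm hbc)).trans ih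

theorem conn_trans {A B C : Subgroup G} (h1 : conn A B) (h2 : conn B C) : conn A C :=
  Relation.ReflTransGen.trans h1 h2

theorem conn_map_conj {A B : Subgroup G} (h : conn A B) (g : G) :
    conn (A.map (MulAut.conj g).toMonoidHom) (B.map (MulAut.conj g).toMonoidHom) :=
  show Relation.ReflTransGen adjF _ _ from Relation.ReflTransGen.lift (fun U : Subgroup G => U.map (MulAut.conj g).toMonoidHom)
    (fun _ _ h => adjF_map_conj h g) _ _ h

theorem map_conj_one (U : Subgroup G) : U.map (MulAut.conj (1 : G)).toMonoidHom = U := by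
  ext x
  simp

theorem map_conj_inv_map_conj (g : G) (U : Subgroup G) :
    (U.map (MulAut.conj g).toMonoidHom).map (MulAut.conj g⁻¹).toMonoidHom = U := by
  rw [map_conj_mul, inv_mul_cancel, map_conj_one]

/-- four-connectedness of a subgroup, expressed inside `G` -/
theorem conn_of_isFourConnected (S : Subgroup G) (hS : Cfsg.IsFourConnected ↥S)
    (U V : Subgroup G) (hU : IsKleinFour U) (hV : IsKleinFour V) (hUS : U ≤ S) (hVS : V ≤ S) :
    conn U V := by
  have h := hS (U.subgroupOf S) (V.subgroupOf S)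
    (isKleinFour_of_equiv (Subgroup.subgroupOfEquivOfLe hUS).symm hU)
    (isKleinFour_of_equiv (Subgroup.subgroupOfEquivOfLe hVS).symm hV)
  have h2 := Relation.ReflTransGen.lift (r := fun A B : Subgroup ↥S =>
      IsKleinFour A ∧ IsKleinFour B ∧ ∀ a ∈ A, ∀ b ∈ B, a * b = b * a) (p := adjF)
    (fun A : Subgroup ↥S => A.map S.subtype) ?_ _ _ h
  · have e1 : (U.subgroupOf S).map S.subtype = U := by
      rw [Subgroup.subgroupOf_map_subtype, inf_of_le_left hUS]
    have e2 : (V.subgroupOf S).map S.subtype = V := by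
      rw [Subgroup.subgroupOf_map_subtype, inf_of_le_left hVS]
    have h3 : Relation.ReflTransGen adjF ((U.subgroupOf S).map S.subtype)
        ((V.subgroupOf S).map S.subtype) := h2
    rw [e1, e2] at h3
    exact h3
  · intro A B hAB
    refine ⟨isKleinFour_of_equiv (A.equivMapOfInjective S.subtype S.subtype_injective) hAB.1,
      isKleinFour_of_equiv (B.equivMapOfInjective S.subtype S.subtype_injective) hAB.2.1, ?_⟩
    rintro _ ⟨a, ha, rfl⟩ _ ⟨b, hb, rfl⟩
    have := hAB.2.2 a ha b hb
    exact congrArg Subtype.val this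

theorem isFourConnected_iff : Cfsg.IsFourConnected G ↔
    ∀ U V : Subgroup G, IsKleinFour U → IsKleinFour V → conn U V := Iff.rfl

end Cfsg.Agent.Lib.Helper5_FourConn
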