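import Mathlib
import Cfsg.Agent.Lib.Helper5_FourConn

set_option autoImplicit false

namespace Cfsg.Agent.Lib.Helper5_FourConn2

open Cfsg Cfsg.Agent.Lib.Helper5_Sylow Cfsg.Agent.Lib.Helper5_CharP Cfsg.Agent.Lib.Helper5_SE
open Cfsg.Agent.Lib.Helper5_FourConn

variable {G : Type*} [Group G] [Finite G]

/-- containing a four-group -/
def pr (Q : Subgroup G) : Prop := ∃ U : Subgroup G, U ≤ Q ∧ IsKleinFour U

theorem pr_up (Q Q' : Subgroup G) (h : pr Q) (hQ : Q ≤ Q') : pr Q' := by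
  obtain ⟨U, hU, h4⟩ := h
  exact ⟨U, hU.trans hQ, h4⟩

theorem pr_conj (Q : Subgroup G) (c : G) (h : pr Q) : pr (Q.map (MulAut.conj c).toMonoidHom) := by
  obtain ⟨U, hU, h4⟩ := h
  exact ⟨U.map (MulAut.conj c).toMonoidHom, Subgroup.map_mono hU, four_map_conj h4 c⟩

/-- the 2-generated core -/
def core2 (S : Sylow 2 G) : Subgroup G :=
  ⨆ Q : {Q : Subgroup G // Q ≤ (S : Subgroup G) ∧ ¬ Cfsg.PRankLE 2 1 Q},
    Subgroup.normalizer ((Q : Subgroup G) : Set G)

theorem normalizer_le_core2 (S : Sylow 2 G) (Q : Subgroup G) (hQS : Q ≤ (S : Subgroup G))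
    (hQ : pr Q) : Subgroup.normalizer (Q : Set G) ≤ core2 S := by
  unfold core2
  exact le_iSup (fun Q : {Q : Subgroup G // Q ≤ (S : Subgroup G) ∧ ¬ Cfsg.PRankLE 2 1 Q} =>
      Subgroup.normalizer ((Q : Subgroup G) : Set G))
    ⟨Q, hQS, (not_rank_sub_iff Q).mpr hQ⟩

theorem sylow_le_core2 (S : Sylow 2 G) (hS : pr (S : Subgroup G)) : (S : Subgroup G) ≤ core2 S :=
  Subgroup.le_normalizer.trans (normalizer_le_core2 S _ le_rfl hS)

theorem control (S : Sylow 2 G) (hS : pr (S : Subgroup G)) (Q : Subgroup G)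
    (hQS : Q ≤ (S : Subgroup G)) (hQ : pr Q) (c : G)
    (hc : Q.map (MulAut.conj c).toMonoidHom ≤ (S : Subgroup G)) : c ∈ core2 S :=
  control_of_pred S (sylow_le_core2 S hS) pr pr_up pr_conj
    (fun Q hQS hQ => normalizer_le_core2 S Q hQS hQ) _ Q rfl hQS hQ c hc

theorem isPGroup_of_four {U : Subgroup G} (h : IsKleinFour U) : IsPGroup 2 U :=
  IsPGroup.of_card (n := 2) (by rw [h.card_four]; norm_num)

/-- being connected to a four-group of `S` -/
def inComp (S : Sylow 2 G) (W : Subgroup G) : Prop :=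
  ∃ U₀ : Subgroup G, U₀ ≤ (S : Subgroup G) ∧ IsKleinFour U₀ ∧ conn W U₀

theorem inComp_conj (S : Sylow 2 G) (hSc : Cfsg.IsFourConnected ↥(S : Subgroup G))
    (g : G) (hg : g ∈ core2 S) :
    ∀ W : Subgroup G, inComp S W → inComp S (W.map (MulAut.conj g).toMonoidHom) := by
  unfold core2 at hg
  refine Subgroup.iSup_induction (fun Q : {Q : Subgroup G // Q ≤ (S : Subgroup G) ∧
      ¬ Cfsg.PRankLE 2 1 Q} => Subgroup.normalizer ((Q : Subgroup G) : Set G))
    (C := fun g => ∀ W : Subgroup G, inComp S W → inComp S (W.map (MulAut.conj g).toMonoidHom))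
    hg ?_ ?_ ?_
  · rintro ⟨Q, hQS, hQr⟩ x hx W ⟨U₀, hU₀S, hU₀, hWU₀⟩
    obtain ⟨UQ, hUQ, hUQ4⟩ := (not_rank_sub_iff Q).mp hQr
    have h1 : conn U₀ UQ := conn_of_isFourConnected _ hSc U₀ UQ hU₀ hUQ4 hU₀S (hUQ.trans hQS)
    have h2 : conn W UQ := conn_trans hWU₀ h1
    refine ⟨UQ.map (MulAut.conj x).toMonoidHom, ?_, four_map_conj hUQ4 x, conn_map_conj h2 x⟩
    rintro _ ⟨u, hu, rfl⟩
    simp only [MulEquiv.coe_toMonoidHom, MulAut.conj_apply]
    exact hQS (conj_mem_of_mem_normalizer hx (hUQ hu))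
  · intro W hW
    rw [map_conj_one]
    exact hW
  · intro x y hx hy W hW
    rw [← map_conj_mul]
    exact hx _ (hy W hW)

theorem exists_four_le_sylow (S : Sylow 2 G) (U : Subgroup G) (hU : IsKleinFour U) :
    ∃ h : G, U.map (MulAut.conj h).toMonoidHom ≤ (S : Subgroup G) :=
  exists_conj_le_sylow (isPGroup_of_four hU) S

/-- if the 2-generated core is everything, the group is four-connected -/
theorem fourConnected_of_core2_top (S : Sylow 2 G) (hSc : Cfsg.IsFourConnected ↥(S : Subgroup G))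
    (htop : core2 S = ⊤) : Cfsg.IsFourConnected G := by
  have key : ∀ U : Subgroup G, IsKleinFour U → inComp S U := by
    intro U hU
    obtain ⟨h, hh⟩ := exists_four_le_sylow S U hU
    have h1 : inComp S (U.map (MulAut.conj h).toMonoidHom) :=
      ⟨_, hh, four_map_conj hU h, Relation.ReflTransGen.refl⟩
    have h2 := inComp_conj S hSc h⁻¹ (by rw [htop]; exact Subgroup.mem_top _) _ h1
    rwa [map_conj_inv_map_conj] at h2
  intro U V hU hV
  obtain ⟨U₀, hU₀S, hU₀, hUU₀⟩ := key U hU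
  obtain ⟨V₀, hV₀S, hV₀, hVV₀⟩ := key V hV
  have h1 : conn U₀ V₀ := conn_of_isFourConnected _ hSc U₀ V₀ hU₀ hV₀ hU₀S hV₀S
  exact conn_trans hUU₀ (conn_trans h1 (conn_symm hVV₀))

/-- conjugates under the core of four-groups of `S` -/
def inDelta (S : Sylow 2 G) (W : Subgroup G) : Prop :=
  ∃ U₁ : Subgroup G, U₁ ≤ (S : Subgroup G) ∧ IsKleinFour U₁ ∧ ∃ k ∈ core2 S,
    W = U₁.map (MulAut.conj k).toMonoidHom

theorem inDelta_adj (S : Sylow 2 G) (hS : pr (S : Subgroup G)) (V W : Subgroup G)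
    (hV : inDelta S V) (hVW : adjF V W) : inDelta S W := by
  obtain ⟨U₁, hU₁S, hU₁, k, hk, rfl⟩ := hV
  have hadj := adjF_map_conj hVW k⁻¹
  rw [map_conj_inv_map_conj] at hadj
  set W' := W.map (MulAut.conj k⁻¹).toMonoidHom with hW'
  have hW'N : W' ≤ Subgroup.normalizer (U₁ : Set G) := by
    intro w hw
    apply mem_normalizer_of_forall_conj_mem
    · intro u hu
      have := hadj.2.2 u hu w hw
      have e : w * u * w⁻¹ = u := by
        rw [← this]; group
      rw [e]; exact hu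
    · intro u hu
      have := hadj.2.2 u hu w hw
      have e : w⁻¹ * u * w = u := by
        rw [mul_assoc, this]; group
      rw [e]; exact hu
  obtain ⟨n, hn, R, hRp, -, hU₁R, hW'R⟩ :=
    exists_conj_le_common_pgroup (K := Subgroup.normalizer (U₁ : Set G))
      Subgroup.le_normalizer hW'N (isPGroup_of_four hU₁) (isPGroup_of_four hadj.2.1)
  obtain ⟨h, hh⟩ := exists_conj_le_sylow hRp S
  have hpr1 : pr U₁ := ⟨U₁, le_rfl, hU₁⟩
  have hhK : h ∈ core2 S :=
    control S hS U₁ hU₁S hpr1 h ((Subgroup.map_mono hU₁R).trans hh)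
  have hnK : n ∈ core2 S := normalizer_le_core2 S U₁ hU₁S hpr1 hn
  set W₁ := W'.map (MulAut.conj (h * n)).toMonoidHom with hW₁
  have hW₁S : W₁ ≤ (S : Subgroup G) := by
    rw [hW₁, ← map_conj_mul]
    exact (Subgroup.map_mono hW'R).trans hh
  have hW₁4 : IsKleinFour W₁ := four_map_conj hadj.2.1 _
  refine ⟨W₁, hW₁S, hW₁4, k * (h * n)⁻¹, ?_, ?_⟩
  · exact (core2 S).mul_mem hk ((core2 S).inv_mem ((core2 S).mul_mem hhK hnK))
  · rw [hW₁, hW', map_conj_mul, map_conj_mul]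
    have e : k * (h * n)⁻¹ * (h * n) * k⁻¹ = 1 := by group
    rw [e, map_conj_one]

/-- if the group is four-connected, the 2-generated core is everything -/
theorem core2_top_of_fourConnected (S : Sylow 2 G) (hS : pr (S : Subgroup G))
    (hG : Cfsg.IsFourConnected G) : core2 S = ⊤ := by
  obtain ⟨U₀, hU₀S, hU₀⟩ := hS
  have hS' : pr (S : Subgroup G) := ⟨U₀, hU₀S, hU₀⟩
  rw [eq_top_iff]
  intro g _
  have h1 : conn U₀ (U₀.map (MulAut.conj g).toMonoidHom) := hG _ _ hU₀ (four_map_conj hU₀ g)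
  have h2 : ∀ X : Subgroup G, conn U₀ X → inDelta S X := by
    intro X hX
    unfold conn at hX
    induction hX with
    | refl => exact ⟨U₀, hU₀S, hU₀, 1, (core2 S).one_mem, (map_conj_one U₀).symm⟩
    | tail _ hbc ih => exact inDelta_adj S hS' _ _ ih hbc
  have h2 := h2 _ h1
  obtain ⟨U₁, hU₁S, hU₁, k, hk, he⟩ := h2
  have h3 : U₀.map (MulAut.conj (k⁻¹ * g)).toMonoidHom ≤ (S : Subgroup G) := by
    rw [← map_conj_mul, he, map_conj_inv_map_conj]
    exact hU₁S
  have h4 := control S hS' U₀ hU₀S ⟨U₀, le_rfl, hU₀⟩ (k⁻¹ * g) h3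
  have h5 : k * (k⁻¹ * g) ∈ core2 S := (core2 S).mul_mem hk h4
  rwa [mul_inv_cancel_left] at h5

theorem main (h2 : ¬ Cfsg.PRankLE 2 1 G) (S : Sylow 2 G)
    (hS : Cfsg.IsFourConnected ↥(S : Subgroup G)) :
    ¬ Cfsg.IsFourConnected G ↔
      (⨆ Q : {Q : Subgroup G // Q ≤ (S : Subgroup G) ∧ ¬ Cfsg.PRankLE 2 1 Q},
          Subgroup.normalizer ((Q : Subgroup G) : Set G)) ≠ ⊤ := by
  have hprS : pr (S : Subgroup G) := by
    obtain ⟨U, hU⟩ := (not_rank_iff G).mp h2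
    obtain ⟨h, hh⟩ := exists_four_le_sylow S U hU
    exact ⟨_, hh, four_map_conj hU h⟩
  show ¬ Cfsg.IsFourConnected G ↔ core2 S ≠ ⊤
  constructor
  · intro hn htop
    exact hn (fourConnected_of_core2_top S hS htop)
  · intro hne hG
    exact hne (core2_top_of_fourConnected S hprS hG)

end Cfsg.Agent.Lib.Helper5_FourConn2
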