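import Mathlib

namespace Cfsg.Agent.Lib.Helper5_FpfCyclic

open scoped IsMulCommutative

/-- minimal invariant submodule inside a given nonzero invariant submodule -/
theorem exists_min_invariant {k V : Type*} [Field k] [AddCommGroup V] [Module k V] [Finite V]
    (S : Set (V →ₗ[k] V)) (W₀ : Submodule k V) (hW₀ : W₀ ≠ ⊥)
    (hinv : ∀ f ∈ S, ∀ v ∈ W₀, f v ∈ W₀) :
    ∃ W : Submodule k V, W ≤ W₀ ∧ W ≠ ⊥ ∧ (∀ f ∈ S, ∀ v ∈ W, f v ∈ W) ∧
      ∀ W' : Submodule k V, W' ≤ W → (∀ f ∈ S, ∀ v ∈ W', f v ∈ W') → W' = ⊥ ∨ W' = W := by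
  classical
  let T : Set (Submodule k V) := {W | W ≤ W₀ ∧ W ≠ ⊥ ∧ ∀ f ∈ S, ∀ v ∈ W, f v ∈ W}
  have hne : T.Nonempty := ⟨W₀, le_refl _, hW₀, hinv⟩
  obtain ⟨W, hWT, hmin⟩ := wellFounded_lt.has_min T hne
  refine ⟨W, hWT.1, hWT.2.1, hWT.2.2, ?_⟩
  intro W' hle hinv'
  by_cases h0 : W' = ⊥
  · left; exact h0
  · right
    by_contra hne'
    exact hmin W' ⟨hle.trans hWT.1, h0, hinv'⟩ (lt_of_le_of_ne hle hne')

/-- An abelian group acting irreducibly and freely on a finite module is cyclic. -/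
theorem isCyclic_of_fpf_irred {k V A : Type*} [Field k] [AddCommGroup V] [Module k V] [Finite V]
    [Group A] [Finite A] (hcomm : ∀ a b : A, a * b = b * a)
    (ρ : A →* (V →ₗ[k] V))
    (W : Submodule k V) (hW0 : W ≠ ⊥) (hWinv : ∀ a : A, ∀ v ∈ W, ρ a v ∈ W)
    (hWmin : ∀ W' : Submodule k V, W' ≤ W → (∀ a : A, ∀ v ∈ W', ρ a v ∈ W') → W' = ⊥ ∨ W' = W)
    (hfree : ∀ a : A, ∀ v ∈ W, v ≠ 0 → ρ a v = v → a = 1) : IsCyclic A := by
  classical
  let ρW : A →* Module.End k W :=
    { toFun := fun a => (ρ a).restrict (hWinv a)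
      map_one' := by
        ext w
        simp
      map_mul' := by
        intro a b
        ext w
        simp }
  have hρW : ∀ (a : A) (w : W), ((ρW a w : W) : V) = ρ a (w : V) := fun a w => rfl
  let s : Set (Module.End k W) := Set.range ρW
  have hs : ∀ x ∈ s, ∀ y ∈ s, x * y = y * x := by
    rintro _ ⟨a, rfl⟩ _ ⟨b, rfl⟩
    rw [← map_mul, ← map_mul, hcomm a b]
  haveI hmc : IsMulCommutative (Algebra.adjoin k s) := Algebra.isMulCommutative_adjoin k hs
  letI cr : CommRing (Algebra.adjoin k s) := inferInstance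
  obtain ⟨w0, hw0W, hw0⟩ : ∃ w0 ∈ W, w0 ≠ 0 := by
    by_contra hcon
    push Not at hcon
    apply hW0
    rw [eq_bot_iff]
    intro v hv
    rw [Submodule.mem_bot]
    exact hcon v hv
  -- key: nonzero elements are injective
  have key : ∀ x : Module.End k W, x ∈ Algebra.adjoin k s → x ≠ 0 → Function.Injective x := by
    intro x hx hx0
    have hcx : ∀ a : A, x * ρW a = ρW a * x := by
      intro a
      have h1 : (⟨x, hx⟩ : Algebra.adjoin k s) * ⟨ρW a, Algebra.subset_adjoin ⟨a, rfl⟩⟩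
          = ⟨ρW a, Algebra.subset_adjoin ⟨a, rfl⟩⟩ * ⟨x, hx⟩ := mul_comm _ _
      exact congrArg Subtype.val h1
    let W' : Submodule k V := (LinearMap.ker x).map W.subtype
    have hW'le : W' ≤ W := by
      intro v hv
      obtain ⟨w, _, rfl⟩ := hv
      exact w.2
    have hW'inv : ∀ a : A, ∀ v ∈ W', ρ a v ∈ W' := by
      intro a v hv
      obtain ⟨w, hw, rfl⟩ := hv
      refine ⟨ρW a w, ?_, rfl⟩
      have hw' : x w = 0 := hw
      show x (ρW a w) = 0
      have h2 : (x * ρW a) w = (ρW a * x) w := by rw [hcx a]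
      rw [Module.End.mul_apply, Module.End.mul_apply, hw', map_zero] at h2
      exact h2
    rcases hWmin W' hW'le hW'inv with h | h
    · rw [← LinearMap.ker_eq_bot, eq_bot_iff]
      intro w hw
      have : (w : V) ∈ W' := ⟨w, hw, rfl⟩
      rw [h, Submodule.mem_bot] at this
      rw [Submodule.mem_bot]
      exact Subtype.ext this
    · exfalso
      apply hx0
      ext w
      have hwW' : (w : V) ∈ W' := by rw [h]; exact w.2
      obtain ⟨w', hw', hww'⟩ := hwW'
      have : w' = w := Subtype.ext hww'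
      rw [← this]
      have hw'' : x w' = 0 := hw'
      rw [hw'']
      rfl
  haveI : NoZeroDivisors (Algebra.adjoin k s) := by
    refine ⟨?_⟩
    intro x y hxy
    by_cases hx0 : x = 0
    · left; exact hx0
    · right
      have hx0' : (x : Module.End k W) ≠ 0 := fun h => hx0 (Subtype.ext h)
      have hinj := key x x.2 hx0'
      apply Subtype.ext
      ext w
      have h1 : ((x * y : Algebra.adjoin k s) : Module.End k W) w = 0 := by
        rw [hxy]; rfl
      have h2 : (x : Module.End k W) ((y : Module.End k W) w) = 0 := h1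
      have h3 : (y : Module.End k W) w = 0 := hinj (by rw [h2, map_zero])
      rw [h3]
      rfl
  haveI : Nontrivial (Algebra.adjoin k s) := by
    refine ⟨⟨0, 1, ?_⟩⟩
    intro h01
    have h1 : ((0 : Algebra.adjoin k s) : Module.End k W) ⟨w0, hw0W⟩
        = ((1 : Algebra.adjoin k s) : Module.End k W) ⟨w0, hw0W⟩ := by rw [h01]
    have h2 : (0 : W) = ⟨w0, hw0W⟩ := h1
    exact hw0 (congrArg Subtype.val h2).symm
  haveI : IsDomain (Algebra.adjoin k s) := NoZeroDivisors.to_isDomain (α := ↥(Algebra.adjoin k s))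
  let f : A →* (Algebra.adjoin k s) :=
    { toFun := fun a => ⟨ρW a, Algebra.subset_adjoin ⟨a, rfl⟩⟩
      map_one' := by
        apply Subtype.ext
        exact map_one ρW
      map_mul' := by
        intro a b
        apply Subtype.ext
        exact map_mul ρW a b }
  have hf : Function.Injective f := by
    intro a b hab
    have h1 : ρW a = ρW b := congrArg Subtype.val hab
    have h2 : ρ (b⁻¹ * a) w0 = w0 := by
      rw [map_mul, Module.End.mul_apply]
      have h3 : ρ a w0 = ρ b w0 := by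
        have := congrArg (fun g => ((g ⟨w0, hw0W⟩ : W) : V)) h1
        exact this
      rw [h3, ← Module.End.mul_apply, ← map_mul, inv_mul_cancel, map_one]
      rfl
    have h4 := hfree (b⁻¹ * a) w0 hw0W hw0 h2
    rw [inv_mul_eq_one] at h4
    exact h4.symm
  exact isCyclic_of_injective_ringHom f hf

end Cfsg.Agent.Lib.Helper5_FpfCyclic
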