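import Mathlib

set_option autoImplicit false

namespace Cfsg.Agent.Lib.Helper5_Frob

open MulAction

theorem card_dvd_of_free {C Y : Type*} [Group C] [MulAction C Y]
    (hfree : ∀ y : Y, MulAction.stabilizer C y = ⊥) : Nat.card C ∣ Nat.card Y := by
  have e := MulAction.selfEquivOrbitsQuotientProd hfree
  rw [Nat.card_congr e, Nat.card_prod]
  exact dvd_mul_left _ _

/-- conjugation action of a subgroup on an invariant set -/
def conjMulAction {A : Type*} [Group A] (H : Subgroup A) (S : Set A)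
    (hS : ∀ h ∈ H, ∀ x ∈ S, h * x * h⁻¹ ∈ S) : MulAction H S where
  smul h x := ⟨(h : A) * x * (h : A)⁻¹, hS h h.2 x x.2⟩
  one_smul x := Subtype.ext (by
    show ((1 : H) : A) * x * ((1 : H) : A)⁻¹ = x
    rw [Subgroup.coe_one, one_mul, inv_one, mul_one])
  mul_smul h h' x := Subtype.ext (by
    show ((h * h' : H) : A) * x * ((h * h' : H) : A)⁻¹ = (h : A) * ((h' : A) * x * (h' : A)⁻¹) * (h : A)⁻¹
    rw [Subgroup.coe_mul]; group)

theorem card_dvd_of_free_conj {A : Type*} [Group A] (H : Subgroup A) (S : Set A)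
    (hS : ∀ h ∈ H, ∀ x ∈ S, h * x * h⁻¹ ∈ S)
    (hfree : ∀ h ∈ H, ∀ x ∈ S, h * x * h⁻¹ = x → h = 1) : Nat.card H ∣ Nat.card S := by
  letI := conjMulAction H S hS
  apply card_dvd_of_free
  intro x
  rw [eq_bot_iff]
  intro h hh
  rw [Subgroup.mem_bot]
  have h1 : h • x = x := hh
  have h2 : (h : A) * x * (h : A)⁻¹ = x := congrArg Subtype.val h1
  exact Subtype.ext (hfree h h.2 x x.2 h2)

theorem card_quot_centralizer_le {A : Type*} [Group A] [Finite A] (x : A) (T : Set A)
    (hT : ∀ g : A, g * x * g⁻¹ ∈ T) :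
    Nat.card (A ⧸ Subgroup.centralizer ({x} : Set A)) ≤ Nat.card T := by
  let f : A ⧸ Subgroup.centralizer ({x} : Set A) → A := fun q =>
    Quotient.liftOn' q (fun g => g * x * g⁻¹) (by
      intro a b hab
      rw [QuotientGroup.leftRel_apply, Subgroup.mem_centralizer_singleton_iff] at hab
      show a * x * a⁻¹ = b * x * b⁻¹
      have : x = a⁻¹ * b * x * (a⁻¹ * b)⁻¹ := by rw [hab]; group
      calc a * x * a⁻¹ = a * (a⁻¹ * b * x * (a⁻¹ * b)⁻¹) * a⁻¹ := by rw [← this]
        _ = b * x * b⁻¹ := by group)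
  have hfmk : ∀ g : A, f (QuotientGroup.mk g) = g * x * g⁻¹ := fun g => rfl
  have hfmem : ∀ q, f q ∈ T := by
    intro q
    induction q using QuotientGroup.induction_on with
    | H g => rw [hfmk]; exact hT g
  apply Nat.card_le_card_of_injective (fun q => (⟨f q, hfmem q⟩ : T))
  intro q r hqr
  have hqr' : f q = f r := congrArg Subtype.val hqr
  induction q using QuotientGroup.induction_on with
  | H a =>
    induction r using QuotientGroup.induction_on with
    | H b =>
      rw [hfmk, hfmk] at hqr'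
      rw [QuotientGroup.eq, Subgroup.mem_centralizer_singleton_iff]
      calc a⁻¹ * b * x = a⁻¹ * (b * x * b⁻¹) * b := by group
        _ = a⁻¹ * (a * x * a⁻¹) * b := by rw [hqr']
        _ = x * (a⁻¹ * b) := by group

/-- Frobenius-type setup: `A` acts on `Y`, non-identity elements fix at most one point,
`F` is a regular normal subgroup. -/
structure FrobSetup (A Y : Type*) [Group A] [MulAction A Y] (F : Subgroup A) : Prop where
  frob : ∀ (g : A) (y z : Y), y ≠ z → g • y = y → g • z = z → g = 1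
  normal : F.Normal
  reg : ∀ y z : Y, ∃! u : F, (u : A) • y = z

variable {A Y : Type*} [Group A] [Finite A] [MulAction A Y] [Finite Y] {F : Subgroup A}

namespace FrobSetup

omit [Finite A] [Finite Y] in
theorem fpf (hS : FrobSetup A Y F) {x : A} (hx : x ∈ F) (hx1 : x ≠ 1) (y : Y) : x • y ≠ y := by
  intro h
  obtain ⟨u, hu, huniq⟩ := hS.reg y y
  have h1 := huniq ⟨x, hx⟩ h
  have h2 := huniq 1 (by show ((1 : F) : A) • y = y; rw [Subgroup.coe_one, one_smul])
  apply hx1
  have : (⟨x, hx⟩ : F) = 1 := h1.trans h2.symm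
  exact congrArg Subtype.val this

omit [Finite A] [Finite Y] in
theorem card_F (hS : FrobSetup A Y F) (b : Y) : Nat.card F = Nat.card Y := by
  apply Nat.card_congr
  refine Equiv.ofBijective (fun u : F => (u : A) • b) ⟨?_, ?_⟩
  · intro u v huv
    obtain ⟨w, hw, hwuniq⟩ := hS.reg b ((v : A) • b)
    exact (hwuniq u huv).trans (hwuniq v rfl).symm
  · intro y
    obtain ⟨u, hu, -⟩ := hS.reg b y
    exact ⟨u, hu⟩

omit [Finite A] [Finite Y] in
theorem pretransitive (hS : FrobSetup A Y F) : IsPretransitive A Y := by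
  constructor
  intro y z
  obtain ⟨u, hu, -⟩ := hS.reg y z
  exact ⟨u, hu⟩

omit [Finite A] [Finite Y] in
theorem card_A (hS : FrobSetup A Y F) (b : Y) :
    Nat.card A = Nat.card Y * Nat.card (stabilizer A b) := by
  haveI := hS.pretransitive
  have h2 : Nat.card (orbit A b) = Nat.card Y := by
    rw [MulAction.orbit_eq_univ, Nat.card_congr (Equiv.Set.univ Y)]
  rw [← h2, Nat.card_congr (orbitEquivQuotientStabilizer A b)]
  exact Subgroup.card_eq_card_quotient_mul_card_subgroup _

omit [Finite A] [Finite Y] in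
theorem free_conj (hS : FrobSetup A Y F) (b : Y) {h : A} (hh : h ∈ stabilizer A b) {x : A}
    (hxF : x ∈ F) (hx1 : x ≠ 1) (hc : h * x * h⁻¹ = x) : h = 1 := by
  have hxb := hS.fpf hxF hx1 b
  have hhb : h • b = b := hh
  apply hS.frob h b (x • b) (Ne.symm hxb) hhb
  have hcomm : h * x = x * h := by
    calc h * x = (h * x * h⁻¹) * h := by group
      _ = x * h := by rw [hc]
  rw [← mul_smul, hcomm, mul_smul, hhb]

/-- For an `H`-invariant subgroup `L ≤ F`, `|H|` divides `|L| - 1`. -/
theorem dvd_card_sub_one (hS : FrobSetup A Y F) (b : Y) (L : Subgroup A) (hL : L ≤ F)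
    (hinv : ∀ h ∈ stabilizer A b, ∀ x ∈ L, h * x * h⁻¹ ∈ L) :
    Nat.card (stabilizer A b) ∣ Nat.card L - 1 := by
  have hS1 : Nat.card ↑((L : Set A) \ {1}) = Nat.card L - 1 := by
    rw [Nat.card_coe_set_eq, Set.ncard_sdiff_singleton_of_mem L.one_mem, ← Nat.card_coe_set_eq]
    rfl
  rw [← hS1]
  apply card_dvd_of_free_conj (stabilizer A b) ((L : Set A) \ {1})
  · intro h hh x hx
    refine ⟨hinv h hh x hx.1, ?_⟩
    intro h1
    apply hx.2
    rw [Set.mem_singleton_iff] at h1 ⊢
    have : x = h⁻¹ * (h * x * h⁻¹) * h := by group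
    rw [this, h1]; group
  · intro h hh x hx hc
    exact hS.free_conj b hh (hL hx.1) (fun h1 => hx.2 (Set.mem_singleton_iff.2 h1)) hc

theorem coprime (hS : FrobSetup A Y F) (b : Y) :
    Nat.Coprime (Nat.card Y) (Nat.card (stabilizer A b)) := by
  haveI := hS.normal
  have h1 := hS.dvd_card_sub_one b F le_rfl (fun h _ x hx => hS.normal.conj_mem x hx h)
  rw [hS.card_F b] at h1
  have hpos : 0 < Nat.card Y := by
    rw [← hS.card_F b]; exact Nat.card_pos
  have h2 : Nat.gcd (Nat.card Y) (Nat.card (stabilizer A b)) ∣ Nat.card Y - (Nat.card Y - 1) :=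
    Nat.dvd_sub (Nat.gcd_dvd_left _ _) ((Nat.gcd_dvd_right _ _).trans h1)
  have h3 : Nat.card Y - (Nat.card Y - 1) = 1 := by omega
  rw [h3] at h2
  exact Nat.dvd_one.1 h2

omit [Finite A] [Finite Y] in
theorem card_centralizer_dvd (hS : FrobSetup A Y F) {x : A} (hxF : x ∈ F) (hx1 : x ≠ 1) :
    Nat.card (Subgroup.centralizer ({x} : Set A)) ∣ Nat.card Y := by
  apply card_dvd_of_free
  intro y
  rw [eq_bot_iff]
  intro g hg
  rw [Subgroup.mem_bot]
  have h1 : (g : A) • y = y := hg
  have hcomm := Subgroup.mem_centralizer_singleton_iff.1 g.2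
  have h2 : (g : A) • (x • y) = x • y := by rw [← mul_smul, hcomm, mul_smul, h1]
  exact Subtype.ext (hS.frob g y (x • y) (hS.fpf hxF hx1 y).symm h1 h2)

theorem centralizer_le (hS : FrobSetup A Y F) (b : Y) {x : A} (hxF : x ∈ F) (hx1 : x ≠ 1) :
    Subgroup.centralizer ({x} : Set A) ≤ F := by
  haveI := hS.normal
  rw [← Subgroup.relIndex_eq_one]
  have h1 : F.relIndex (Subgroup.centralizer ({x} : Set A)) ∣ F.index :=
    Subgroup.relIndex_dvd_index_of_normal F _
  have h2 : F.relIndex (Subgroup.centralizer ({x} : Set A)) ∣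
      Nat.card (Subgroup.centralizer ({x} : Set A)) := Subgroup.relIndex_dvd_card F _
  have h3 := hS.card_centralizer_dvd hxF hx1
  have hpos : 0 < Nat.card Y := by
    rw [← hS.card_F b]; exact Nat.card_pos
  have hidx : F.index = Nat.card (stabilizer A b) := by
    have := Subgroup.index_mul_card F
    rw [hS.card_F b, hS.card_A b, mul_comm] at this
    exact Nat.eq_of_mul_eq_mul_left hpos this
  have hcop := hS.coprime b
  exact Nat.eq_one_of_dvd_coprimes hcop (h2.trans h3) (hidx ▸ h1)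

theorem card_le_two_mul_centralizer (hS : FrobSetup A Y F) (b : Y)
    (hnd : Nat.card Y - 1 ≤ 2 * Nat.card (stabilizer A b)) {x : A} (hxF : x ∈ F) (hx1 : x ≠ 1) :
    Nat.card Y ≤ 2 * Nat.card (Subgroup.centralizer ({x} : Set A)) := by
  haveI := hS.normal
  have hT : Nat.card ↑((F : Set A) \ {1}) = Nat.card Y - 1 := by
    rw [Nat.card_coe_set_eq, Set.ncard_sdiff_singleton_of_mem F.one_mem, ← Nat.card_coe_set_eq,
      ← hS.card_F b]
    rfl
  have hq := card_quot_centralizer_le x ((F : Set A) \ {1}) (by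
    intro g
    refine ⟨hS.normal.conj_mem x hxF g, ?_⟩
    intro h1
    apply hx1
    rw [Set.mem_singleton_iff] at h1
    have : x = g⁻¹ * (g * x * g⁻¹) * g := by group
    rw [this, h1]; group)
  rw [hT] at hq
  have hlag : Nat.card A = Nat.card (A ⧸ Subgroup.centralizer ({x} : Set A)) *
      Nat.card (Subgroup.centralizer ({x} : Set A)) :=
    Subgroup.card_eq_card_quotient_mul_card_subgroup _
  rw [hS.card_A b] at hlag
  have hdpos : 0 < Nat.card (stabilizer A b) := Nat.card_pos
  have h4 : Nat.card Y * Nat.card (stabilizer A b) ≤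
      2 * Nat.card (Subgroup.centralizer ({x} : Set A)) * Nat.card (stabilizer A b) := by
    calc Nat.card Y * Nat.card (stabilizer A b)
        = Nat.card (A ⧸ Subgroup.centralizer ({x} : Set A)) *
          Nat.card (Subgroup.centralizer ({x} : Set A)) := hlag
      _ ≤ (2 * Nat.card (stabilizer A b)) * Nat.card (Subgroup.centralizer ({x} : Set A)) :=
          Nat.mul_le_mul_right _ (hq.trans hnd)
      _ = _ := by ring
  exact Nat.le_of_mul_le_mul_right h4 hdpos

theorem invariant_eq (hS : FrobSetup A Y F) (b : Y)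
    (hnd : Nat.card Y - 1 ≤ 2 * Nat.card (stabilizer A b)) (L : Subgroup A) (hL : L ≤ F)
    (hinv : ∀ h ∈ stabilizer A b, ∀ x ∈ L, h * x * h⁻¹ ∈ L) : L = ⊥ ∨ L = F := by
  by_cases hbot : L = ⊥
  · exact Or.inl hbot
  right
  obtain ⟨k, hk⟩ := hS.dvd_card_sub_one b L hL hinv
  obtain ⟨m, hm⟩ := Subgroup.card_dvd_of_le hL
  rw [hS.card_F b] at hm
  have hLpos : 0 < Nat.card L := Nat.card_pos
  have hL1 : 1 < Nat.card L := by
    rw [Subgroup.one_lt_card_iff_ne_bot]; exact hbot
  have hpos : 0 < Nat.card Y := by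
    rw [← hS.card_F b]; exact Nat.card_pos
  have hk1 : 1 ≤ k := by
    rcases Nat.eq_zero_or_pos k with h0 | h0
    · rw [h0, mul_zero] at hk; omega
    · exact h0
  have hLd : Nat.card (stabilizer A b) + 1 ≤ Nat.card L := by
    have : Nat.card (stabilizer A b) ≤ Nat.card (stabilizer A b) * k :=
      Nat.le_mul_of_pos_right _ hk1
    omega
  have hm1 : m = 1 := by
    rcases Nat.lt_or_ge m 2 with h2 | h2
    · rcases Nat.eq_zero_or_pos m with h0 | h0
      · rw [h0, mul_zero] at hm; omega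
      · omega
    · exfalso
      have : 2 * Nat.card L ≤ Nat.card L * m := by
        rw [mul_comm]; exact Nat.mul_le_mul_left _ h2
      omega
  rw [hm1, mul_one] at hm
  apply Subgroup.eq_of_le_of_card_ge hL
  rw [hS.card_F b, hm]

omit [Finite A] [Finite Y] in
theorem sq_mem_of_card_le {C F : Subgroup A} [Finite F] (hCF : C ≤ F)
    (hcard : Nat.card F ≤ 2 * Nat.card C)
    {g : A} (hg : g ∈ F) : g * g ∈ C := by
  have h1 := Subgroup.relIndex_mul_relIndex (⊥ : Subgroup A) C F bot_le hCF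
  rw [Subgroup.relIndex_bot_left, Subgroup.relIndex_bot_left] at h1
  haveI : Finite C := Finite.of_injective (Subgroup.inclusion hCF) (Subgroup.inclusion_injective hCF)
  have hCpos : 0 < Nat.card C := Nat.card_pos
  have hle : C.relIndex F ≤ 2 := by
    rw [← h1] at hcard
    rw [mul_comm] at hcard
    exact Nat.le_of_mul_le_mul_right hcard hCpos
  have hne : C.relIndex F ≠ 0 := by
    intro h0
    rw [h0, mul_zero] at h1
    have : 0 < Nat.card F := Nat.card_pos
    omega
  have : C.relIndex F = 1 ∨ C.relIndex F = 2 := by omega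
  rcases this with h | h
  · exact (Subgroup.relIndex_eq_one.1 h) (F.mul_mem hg hg)
  · have := Subgroup.mul_self_mem_of_index_two (H := C.subgroupOf F) h ⟨g, hg⟩
    rw [Subgroup.mem_subgroupOf] at this
    exact this

theorem comm (hS : FrobSetup A Y F) (b : Y)
    (hnd : Nat.card Y - 1 ≤ 2 * Nat.card (stabilizer A b)) :
    ∀ x ∈ F, ∀ y ∈ F, x * y = y * x := by
  haveI := hS.normal
  have hZinv : ∀ h ∈ stabilizer A b, ∀ z ∈ F ⊓ Subgroup.centralizer (F : Set A),
      h * z * h⁻¹ ∈ F ⊓ Subgroup.centralizer (F : Set A) := by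
    intro h _ z hz
    have hz := Subgroup.mem_inf.1 hz
    refine Subgroup.mem_inf.2 ⟨hS.normal.conj_mem z hz.1 h, ?_⟩
    rw [Subgroup.mem_centralizer_iff]
    intro f hf
    have hf' : h⁻¹ * f * h ∈ F := by
      have := hS.normal.conj_mem f hf h⁻¹
      rwa [inv_inv] at this
    have hc := (Subgroup.mem_centralizer_iff.1 hz.2) (h⁻¹ * f * h) hf'
    calc f * (h * z * h⁻¹) = h * ((h⁻¹ * f * h) * z) * h⁻¹ := by group
      _ = h * (z * (h⁻¹ * f * h)) * h⁻¹ := by rw [hc]
      _ = h * z * h⁻¹ * f := by group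
  rcases hS.invariant_eq b hnd (F ⊓ Subgroup.centralizer (F : Set A)) inf_le_left hZinv with hZ | hZ
  · have hsq : ∀ g ∈ F, g * g = 1 := by
      intro g hg
      have : g * g ∈ F ⊓ Subgroup.centralizer (F : Set A) := by
        refine Subgroup.mem_inf.2 ⟨F.mul_mem hg hg, ?_⟩
        rw [Subgroup.mem_centralizer_iff]
        intro x hx
        by_cases hx1 : x = 1
        · rw [hx1, one_mul, mul_one]
        · have hC := hS.centralizer_le b hx hx1
          have hcard := hS.card_le_two_mul_centralizer b hnd hx hx1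
          rw [← hS.card_F b] at hcard
          have := sq_mem_of_card_le hC hcard hg
          exact (Subgroup.mem_centralizer_singleton_iff.1 this).symm
      rw [hZ] at this
      exact Subgroup.mem_bot.1 this
    intro x hx y hy
    have h1 := hsq x hx
    have h2 := hsq y hy
    have h3 := hsq (x * y) (F.mul_mem hx hy)
    calc x * y = x * (x * y * (x * y)) * y := by rw [h3, mul_one]
      _ = (x * x) * (y * x) * (y * y) := by group
      _ = y * x := by rw [h1, h2, one_mul, mul_one]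
  · intro x hx y hy
    have hxZ : x ∈ F ⊓ Subgroup.centralizer (F : Set A) := by rw [hZ]; exact hx
    exact ((Subgroup.mem_centralizer_iff.1 (Subgroup.mem_inf.1 hxZ).2) y hy).symm

theorem elementary (hS : FrobSetup A Y F) (b : Y)
    (hnd : Nat.card Y - 1 ≤ 2 * Nat.card (stabilizer A b)) :
    ∃ p f : ℕ, p.Prime ∧ (∀ u ∈ F, u ^ p = 1) ∧ Nat.card Y = p ^ f := by
  have hcomm := hS.comm b hnd
  by_cases hn1 : Nat.card Y = 1
  · refine ⟨2, 0, Nat.prime_two, ?_, by rw [hn1, pow_zero]⟩
    intro u hu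
    have hF1 : Nat.card F = 1 := by rw [hS.card_F b, hn1]
    have : F = ⊥ := Subgroup.card_eq_one.1 hF1
    rw [this, Subgroup.mem_bot] at hu
    rw [hu, one_pow]
  obtain ⟨p, hp, hpn⟩ := Nat.exists_prime_and_dvd hn1
  haveI : Fact p.Prime := ⟨hp⟩
  rw [← hS.card_F b] at hpn
  obtain ⟨x, hx⟩ := exists_prime_orderOf_dvd_card' p hpn
  let L : Subgroup A :=
    { carrier := {u | u ∈ F ∧ u ^ p = 1}
      mul_mem' := by
        rintro u v ⟨hu, hu1⟩ ⟨hv, hv1⟩
        refine ⟨F.mul_mem hu hv, ?_⟩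
        rw [(show Commute u v from hcomm u hu v hv).mul_pow, hu1, hv1, one_mul]
      one_mem' := ⟨F.one_mem, one_pow _⟩
      inv_mem' := by
        rintro u ⟨hu, hu1⟩
        exact ⟨F.inv_mem hu, by rw [inv_pow, hu1, inv_one]⟩ }
  have hLF : L ≤ F := fun u hu => hu.1
  have hLinv : ∀ h ∈ stabilizer A b, ∀ u ∈ L, h * u * h⁻¹ ∈ L := by
    intro h _ u hu
    refine ⟨hS.normal.conj_mem u hu.1 h, ?_⟩
    rw [conj_pow, hu.2]; group
  have hLne : L ≠ ⊥ := by
    intro hbot
    have hxL : (x : A) ∈ L := by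
      refine ⟨x.2, ?_⟩
      rw [← Subgroup.coe_pow, ← hx, pow_orderOf_eq_one, Subgroup.coe_one]
    rw [hbot, Subgroup.mem_bot] at hxL
    have : x = 1 := Subtype.ext hxL
    rw [this, orderOf_one] at hx
    exact hp.one_lt.ne hx
  rcases hS.invariant_eq b hnd L hLF hLinv with hL | hL
  · exact absurd hL hLne
  have hpow : ∀ u ∈ F, u ^ p = 1 := by
    intro u hu
    have : u ∈ L := by rw [hL]; exact hu
    exact this.2
  have hPG : IsPGroup p F := by
    intro y
    refine ⟨1, ?_⟩
    rw [pow_one]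
    exact Subtype.ext (hpow y y.2)
  obtain ⟨f, hf⟩ := IsPGroup.iff_card.1 hPG
  exact ⟨p, f, hp, hpow, by rw [← hS.card_F b, hf]⟩

end FrobSetup

end Cfsg.Agent.Lib.Helper5_Frob
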