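import Mathlib
import Cfsg.Prelude.Def_Local
import Cfsg.Prelude.Def_PLocal
import Cfsg.Agent.Lib.Helper4_PCore
import Cfsg.Agent.Lib.Helper5_Residual
import Cfsg.Agent.Lib.Helper5_PPrime
import Cfsg.Agent.Lib.Lead_SZ
import Cfsg.Agent.Lib.Lead_Hall
import Cfsg.Agent.Lib.Lead_Coprime

/-! `p`-stability in Gorenstein's sense and the action form used in the ZJ-theorem. -/

namespace Cfsg.Agent.Lib.Lead_PStable

open Cfsg.Agent.Lib.Helper4_PCore Cfsg.Agent.Lib.Helper5_Residual Cfsg.Agent.Lib.Helper5_PPrime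
  Cfsg.Agent.Lib.Lead_Coprime
open scoped commutatorElement

/-- Decomposition of an element into its `p`-part and `p'`-part. -/
theorem exists_p_decomp {G : Type*} [Group G] [Finite G] (p : ℕ) [Fact p.Prime] (g : G) :
    ∃ g₁ ∈ Subgroup.zpowers g, ∃ g₂ ∈ Subgroup.zpowers g, g = g₁ * g₂ ∧
      (∃ k, g₁ ^ (p ^ k) = 1) ∧ (orderOf g₂).Coprime p := by
  have hp : p.Prime := Fact.out
  obtain ⟨a, m, hm, hdm⟩ := Nat.exists_eq_pow_mul_and_not_dvd (orderOf_pos g).ne' p hp.ne_one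
  have hcop : Nat.Coprime (p ^ a) m :=
    Nat.Coprime.pow_left a ((Nat.Prime.coprime_iff_not_dvd hp).2 hm)
  have hbez := Nat.gcd_eq_gcd_ab (p ^ a) m
  rw [hcop.gcd_eq_one] at hbez
  refine ⟨g ^ ((m : ℤ) * Nat.gcdB (p ^ a) m), ⟨_, rfl⟩,
    g ^ (((p ^ a : ℕ) : ℤ) * Nat.gcdA (p ^ a) m), ⟨_, rfl⟩, ?_, ⟨a, ?_⟩, ?_⟩
  · rw [← zpow_add, add_comm, ← hbez]
    simp
  · rw [← zpow_natCast, ← zpow_mul]
    have e : (m : ℤ) * Nat.gcdB (p ^ a) m * ((p ^ a : ℕ) : ℤ) =
        (orderOf g : ℤ) * Nat.gcdB (p ^ a) m := by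
      rw [hdm]; push_cast; ring
    rw [e, zpow_mul, zpow_natCast, pow_orderOf_eq_one, one_zpow]
  · have h1 : (g ^ (((p ^ a : ℕ) : ℤ) * Nat.gcdA (p ^ a) m)) ^ m = 1 := by
      rw [← zpow_natCast, ← zpow_mul]
      have e : ((p ^ a : ℕ) : ℤ) * Nat.gcdA (p ^ a) m * (m : ℤ) =
          (orderOf g : ℤ) * Nat.gcdA (p ^ a) m := by
        rw [hdm]; push_cast; ring
      rw [e, zpow_mul, zpow_natCast, pow_orderOf_eq_one, one_zpow]
    exact Nat.Coprime.coprime_dvd_left (orderOf_dvd_of_pow_eq_one h1)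
      ((Nat.Prime.coprime_iff_not_dvd hp).2 hm).symm

/-- A `p'`-element acting quadratically on a normal `p`-subgroup centralizes it. -/
theorem coprime_quad_trivial {G : Type*} [Group G] [Finite G] {p : ℕ} [Fact p.Prime]
    (V : Subgroup G) [hV : V.Normal] (hVp : IsPGroup p V) (a : G) (hcop : (orderOf a).Coprime p)
    (hq : ⁅⁅V, Subgroup.zpowers a⁆, Subgroup.zpowers a⁆ = ⊥) :
    a ∈ Subgroup.centralizer (V : Set G) := by
  rw [Subgroup.mem_centralizer_iff]
  intro v hv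
  have hc1 : ⁅v, a⁆ ∈ ⁅V, Subgroup.zpowers a⁆ :=
    Subgroup.commutator_mem_commutator hv (Subgroup.mem_zpowers a)
  have hc2 : ⁅⁅v, a⁆, a⁆ = 1 := by
    have := Subgroup.commutator_mem_commutator hc1 (Subgroup.mem_zpowers a)
    rwa [hq, Subgroup.mem_bot] at this
  obtain ⟨c, hc⟩ : ∃ c, c = v * a * v⁻¹ * a⁻¹ := ⟨_, rfl⟩
  rw [commutatorElement_def, commutatorElement_def, ← hc] at hc2
  have hca : c * a = a * c := by
    calc c * a = (c * a * c⁻¹ * a⁻¹) * (a * c) := by group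
      _ = a * c := by rw [hc2, one_mul]
  have hcV : c ∈ V := by
    have e : c = v * (a * v⁻¹ * a⁻¹) := by rw [hc]; group
    rw [e]; exact V.mul_mem hv (hV.conj_mem _ (V.inv_mem hv) a)
  have e1 : c * a = v * a * v⁻¹ := by rw [hc]; group
  have hpow : c ^ orderOf a = 1 := by
    have h1 : (c * a) ^ orderOf a = 1 := by
      rw [e1, conj_pow, pow_orderOf_eq_one]; group
    rw [(show Commute c a from hca).mul_pow, pow_orderOf_eq_one, mul_one] at h1
    exact h1
  obtain ⟨k, hk⟩ := hVp ⟨c, hcV⟩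
  have hk' : c ^ (p ^ k) = 1 := by simpa using congrArg Subtype.val hk
  have h1 : orderOf c ∣ orderOf a := orderOf_dvd_of_pow_eq_one hpow
  have h2 : orderOf c ∣ p ^ k := orderOf_dvd_of_pow_eq_one hk'
  have h3 : orderOf c = 1 :=
    Nat.Coprime.eq_one_of_dvd ((hcop.pow_right k).coprime_dvd_left h1) h2
  have hc1' : c = 1 := orderOf_eq_one_iff.1 h3
  calc v * a = (v * a * v⁻¹ * a⁻¹) * (a * v) := by group
    _ = a * v := by rw [← hc, hc1', one_mul]

/-- It suffices to check `p`-stability of the action on `p`-elements. -/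
theorem stableOn_of_pElements {X : Type*} [Group X] [Finite X] {p : ℕ} [Fact p.Prime]
    (V : Subgroup X) [V.Normal] (hVp : IsPGroup p V)
    (H : ∀ a : X, (∃ k, a ^ (p ^ k) = 1) →
      ⁅⁅V, Subgroup.zpowers a⁆, Subgroup.zpowers a⁆ = ⊥ →
      (QuotientGroup.mk a : X ⧸ Subgroup.centralizer (V : Set X)) ∈
        Cfsg.pCore p (X ⧸ Subgroup.centralizer (V : Set X))) :
    Cfsg.IsPStableOn p V := by
  intro a hq
  obtain ⟨a₁, h1, a₂, h2, hdec, hp1, hp2⟩ := exists_p_decomp p a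
  have hz1 : Subgroup.zpowers a₁ ≤ Subgroup.zpowers a := Subgroup.zpowers_le.2 h1
  have hz2 : Subgroup.zpowers a₂ ≤ Subgroup.zpowers a := Subgroup.zpowers_le.2 h2
  have hq1 : ⁅⁅V, Subgroup.zpowers a₁⁆, Subgroup.zpowers a₁⁆ = ⊥ := by
    rw [eq_bot_iff, ← hq]
    exact Subgroup.commutator_mono (Subgroup.commutator_mono le_rfl hz1) hz1
  have hq2 : ⁅⁅V, Subgroup.zpowers a₂⁆, Subgroup.zpowers a₂⁆ = ⊥ := by
    rw [eq_bot_iff, ← hq]
    exact Subgroup.commutator_mono (Subgroup.commutator_mono le_rfl hz2) hz2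
  have hc2 := coprime_quad_trivial V hVp a₂ hp2 hq2
  have h3 := H a₁ hp1 hq1
  have e : (QuotientGroup.mk a : X ⧸ Subgroup.centralizer (V : Set X)) = QuotientGroup.mk a₁ := by
    rw [hdec, QuotientGroup.mk_mul, (QuotientGroup.eq_one_iff a₂).2 hc2, mul_one]
  rw [e]
  exact h3

theorem zpowers_isPGroup {G : Type*} [Group G] {p : ℕ} (a : G) (k : ℕ) (hk : a ^ (p ^ k) = 1) :
    IsPGroup p (Subgroup.zpowers a) := by
  rintro ⟨x, n, rfl⟩
  refine ⟨k, Subtype.ext ?_⟩
  rw [Subgroup.coe_pow, Subgroup.coe_one]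
  show (a ^ n) ^ (p ^ k) = 1
  rw [← zpow_natCast, ← zpow_mul, mul_comm, zpow_mul, zpow_natCast, hk, one_zpow]

/-- The hypothesis extracted from Gorenstein's `p`-stability, relative to a normal `p'`-subgroup. -/
def StabHyp {G : Type*} [Group G] (p : ℕ) (O : Subgroup G) : Prop :=
  ∀ A V : Subgroup G, IsPGroup p A → IsPGroup p V →
    (∀ a ∈ A, ∀ x ∈ V, a * x * a⁻¹ ∈ V) → (O ⊔ V).Normal →
    ⁅⁅V, A⁆, A⁆ = ⊥ →
      (A.subgroupOf (Subgroup.normalizer (V : Set G))).map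
          (QuotientGroup.mk' ((Subgroup.centralizer (V : Set G)).subgroupOf
            (Subgroup.normalizer (V : Set G))))
        ≤ Cfsg.pCore p _

theorem stabHyp_of_pStable {G : Type*} [Group G] [Finite G] {p : ℕ} [Fact p.Prime]
    (hs : Cfsg.IsPStable p G) : StabHyp p (Cfsg.pPrimeCore p G) := by
  intro A V hA hV hnorm hOV hq
  refine hs.2.2 A V hA hV hnorm ?_ hOV hq
  intro v hv
  show QuotientGroup.mk' (Cfsg.pPrimeCore p G) v ∈ Cfsg.pCore p (G ⧸ Cfsg.pPrimeCore p G)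
  have hn : ((Cfsg.pPrimeCore p G ⊔ V).map (QuotientGroup.mk' (Cfsg.pPrimeCore p G))).Normal :=
    Subgroup.Normal.map hOV _ (QuotientGroup.mk'_surjective _)
  have he : (Cfsg.pPrimeCore p G ⊔ V).map (QuotientGroup.mk' (Cfsg.pPrimeCore p G)) =
      V.map (QuotientGroup.mk' (Cfsg.pPrimeCore p G)) := by
    rw [Subgroup.map_sup, QuotientGroup.map_mk'_self, bot_sup_eq]
  rw [he] at hn
  exact le_pCore _ hn (hV.map _) ⟨v, hv, rfl⟩

/-- `p`-stability of the action on a normal `p`-subgroup of `G`. -/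
theorem stableOn_of_stabHyp {G : Type*} [Group G] [Finite G] {p : ℕ} [Fact p.Prime]
    (O : Subgroup G) [O.Normal] (hs : StabHyp p O)
    (V : Subgroup G) [hVn : V.Normal] (hVp : IsPGroup p V) : Cfsg.IsPStableOn p V := by
  apply stableOn_of_pElements V hVp
  rintro a ⟨k, hk⟩ hq
  have hN : Subgroup.normalizer (V : Set G) = ⊤ := Subgroup.normalizer_eq_top_iff.2 inferInstance
  have ha : a ∈ Subgroup.normalizer (V : Set G) := by rw [hN]; trivial
  have h := hs (Subgroup.zpowers a) V (zpowers_isPGroup a k hk) hVp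
    (fun b _ x hx => hVn.conj_mem x hx b) inferInstance hq
  let ψ : (↥(Subgroup.normalizer (V : Set G)) ⧸
      (Subgroup.centralizer (V : Set G)).subgroupOf (Subgroup.normalizer (V : Set G))) →*
      (G ⧸ Subgroup.centralizer (V : Set G)) :=
    QuotientGroup.map _ _ (Subgroup.normalizer (V : Set G)).subtype (fun x hx => hx)
  have hsurj : Function.Surjective ψ := by
    intro q
    obtain ⟨g, rfl⟩ := QuotientGroup.mk_surjective q
    exact ⟨QuotientGroup.mk ⟨g, by rw [hN]; trivial⟩, rfl⟩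
  have himg : (Cfsg.pCore p (↥(Subgroup.normalizer (V : Set G)) ⧸
      (Subgroup.centralizer (V : Set G)).subgroupOf (Subgroup.normalizer (V : Set G)))).map ψ ≤
      Cfsg.pCore p (G ⧸ Subgroup.centralizer (V : Set G)) := by
    apply le_pCore
    · exact (pCore_normal p _).map ψ hsurj
    · exact pCore_isPGroup.map ψ
  have hmem : (QuotientGroup.mk' ((Subgroup.centralizer (V : Set G)).subgroupOf
      (Subgroup.normalizer (V : Set G))) ⟨a, ha⟩) ∈
      ((Subgroup.zpowers a).subgroupOf (Subgroup.normalizer (V : Set G))).map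
        (QuotientGroup.mk' ((Subgroup.centralizer (V : Set G)).subgroupOf
          (Subgroup.normalizer (V : Set G)))) :=
    ⟨⟨a, ha⟩, Subgroup.mem_subgroupOf.2 (Subgroup.mem_zpowers a), rfl⟩
  exact himg ⟨_, h hmem, rfl⟩

section quotient

variable {G : Type*} [Group G] [Finite G] {p : ℕ} [Fact p.Prime]
  (O : Subgroup G) [O.Normal]

/-- The Sylow subgroup of the preimage of a normal `p`-subgroup of `G/O`. -/
theorem sylow_inf_map (hOcop : (Nat.card O).Coprime p) (P : Sylow p G)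
    (Vb : Subgroup (G ⧸ O)) [Vb.Normal] (hVbp : IsPGroup p Vb) :
    ((P : Subgroup G) ⊓ Vb.comap (QuotientGroup.mk' O)).map (QuotientGroup.mk' O) = Vb ∧
    O ⊔ ((P : Subgroup G) ⊓ Vb.comap (QuotientGroup.mk' O)) = Vb.comap (QuotientGroup.mk' O) ∧
    ((P : Subgroup G) ⊓ Vb.comap (QuotientGroup.mk' O)) ⊓ O = ⊥ := by
  classical
  have hp : p.Prime := Fact.out
  haveI hLn : (Vb.comap (QuotientGroup.mk' O)).Normal := inferInstance
  have hVp : IsPGroup p ((P : Subgroup G) ⊓ Vb.comap (QuotientGroup.mk' O) : Subgroup G) :=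
    P.isPGroup'.to_le inf_le_left
  have hVO : ((P : Subgroup G) ⊓ Vb.comap (QuotientGroup.mk' O)) ⊓ O = ⊥ :=
    inf_eq_bot_of_pGroup_of_coprime hVp hOcop
  have hle : ((P : Subgroup G) ⊓ Vb.comap (QuotientGroup.mk' O)).map (QuotientGroup.mk' O) ≤ Vb := by
    rintro _ ⟨v, hv, rfl⟩
    exact hv.2
  have hcardmap := Cfsg.Agent.Lib.Lead_SZ.card_map_of_inf_bot O _ hVO
  have hcardL := Cfsg.Agent.Lib.Lead_Hall.card_comap_mk O Vb
  have hnd := not_dvd_relIndex_of_normal P (Vb.comap (QuotientGroup.mk' O))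
  have hidx : Nat.card ((P : Subgroup G) ⊓ Vb.comap (QuotientGroup.mk' O) : Subgroup G) *
      (P : Subgroup G).relIndex (Vb.comap (QuotientGroup.mk' O)) =
      Nat.card (Vb.comap (QuotientGroup.mk' O)) := by
    have := Subgroup.relIndex_mul_relIndex ⊥ ((P : Subgroup G) ⊓ Vb.comap (QuotientGroup.mk' O))
      (Vb.comap (QuotientGroup.mk' O)) bot_le inf_le_right
    rwa [Subgroup.relIndex_bot_left, Subgroup.relIndex_bot_left,
      Subgroup.inf_relIndex_right] at this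
  obtain ⟨j, hj⟩ := IsPGroup.iff_card.1 hVbp
  have hdvd : Nat.card Vb ∣ Nat.card ((P : Subgroup G) ⊓ Vb.comap (QuotientGroup.mk' O) :
      Subgroup G) := by
    have h1 : Nat.card Vb ∣ Nat.card ((P : Subgroup G) ⊓ Vb.comap (QuotientGroup.mk' O) :
        Subgroup G) * (P : Subgroup G).relIndex (Vb.comap (QuotientGroup.mk' O)) := by
      rw [hidx, hcardL]; exact dvd_mul_right _ _
    have hc : (Nat.card Vb).Coprime ((P : Subgroup G).relIndex (Vb.comap (QuotientGroup.mk' O))) := by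
      rw [hj]
      exact Nat.Coprime.pow_left j ((Nat.Prime.coprime_iff_not_dvd hp).2 hnd)
    exact hc.dvd_of_dvd_mul_right h1
  have hmap : ((P : Subgroup G) ⊓ Vb.comap (QuotientGroup.mk' O)).map (QuotientGroup.mk' O) = Vb := by
    apply Cfsg.Agent.Lib.Lead_SZ.eq_of_le_of_card_eq hle
    apply le_antisymm (Subgroup.card_le_of_le hle)
    rw [hcardmap]
    exact Nat.le_of_dvd Nat.card_pos hdvd
  refine ⟨hmap, ?_, hVO⟩
  apply le_antisymm
  · refine sup_le ?_ inf_le_right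
    intro o ho
    show QuotientGroup.mk' O o ∈ Vb
    have e : QuotientGroup.mk' O o = 1 := (QuotientGroup.eq_one_iff o).2 ho
    rw [e]
    exact Subgroup.one_mem _
  · intro l hl
    have hl' : QuotientGroup.mk' O l ∈ Vb := hl
    rw [← hmap] at hl'
    obtain ⟨v, hv, hvl⟩ := hl'
    have ho : v⁻¹ * l ∈ O := QuotientGroup.eq.1 hvl
    have e : l = v * (v⁻¹ * l) := by group
    rw [e]
    exact Subgroup.mul_mem _ (Subgroup.mem_sup_right hv) (Subgroup.mem_sup_left ho)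

/-- Every element of `G/O` lifts to the normalizer of `V`. -/
theorem exists_normalizer_lift0 (hOcop : (Nat.card O).Coprime p) (P : Sylow p G)
    (Vb : Subgroup (G ⧸ O)) [Vb.Normal] (hVbp : IsPGroup p Vb) (ab : G ⧸ O) :
    ∃ a ∈ Subgroup.normalizer ((((P : Subgroup G) ⊓ Vb.comap (QuotientGroup.mk' O) :
      Subgroup G)) : Set G), QuotientGroup.mk' O a = ab := by
  classical
  obtain ⟨hmap, hsup, hVO⟩ := sylow_inf_map O hOcop P Vb hVbp
  haveI hLn : (Vb.comap (QuotientGroup.mk' O)).Normal := inferInstance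
  have hfr := Sylow.normalizer_sup_eq_top (sylowInfNormal P (Vb.comap (QuotientGroup.mk' O)))
  rw [map_sylowInfNormal] at hfr
  obtain ⟨g, rfl⟩ := QuotientGroup.mk_surjective ab
  have hg : g ∈ ((Subgroup.normalizer ((((P : Subgroup G) ⊓ Vb.comap (QuotientGroup.mk' O) :
      Subgroup G)) : Set G) ⊔ Vb.comap (QuotientGroup.mk' O) : Subgroup G) : Set G) := by
    rw [hfr]; trivial
  rw [Subgroup.mul_normal] at hg
  obtain ⟨n, hn, l, hl, rfl⟩ := Set.mem_mul.1 hg
  have hl2 : l ∈ ((O ⊔ ((P : Subgroup G) ⊓ Vb.comap (QuotientGroup.mk' O)) : Subgroup G) :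
      Set G) := by
    rw [hsup]; exact hl
  rw [Subgroup.normal_mul] at hl2
  obtain ⟨o, ho, v, hv, rfl⟩ := Set.mem_mul.1 hl2
  have hnv : n * v ∈ Subgroup.normalizer ((((P : Subgroup G) ⊓ Vb.comap (QuotientGroup.mk' O) :
      Subgroup G)) : Set G) := Subgroup.mul_mem _ hn (Subgroup.le_normalizer hv)
  refine ⟨n * v, hnv, ?_⟩
  apply QuotientGroup.eq.2
  have e : (n * v)⁻¹ * (n * (o * v)) = v⁻¹ * o * v := by group
  rw [e]
  have := ‹O.Normal›.conj_mem o ho v⁻¹
  rwa [inv_inv] at this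

/-- Every `p`-element of `G/O` lifts to a `p`-element of the normalizer of `V`. -/
theorem exists_normalizer_lift (hOcop : (Nat.card O).Coprime p) (P : Sylow p G)
    (Vb : Subgroup (G ⧸ O)) [Vb.Normal] (hVbp : IsPGroup p Vb) (ab : G ⧸ O)
    (hab : ∃ k, ab ^ (p ^ k) = 1) :
    ∃ a ∈ Subgroup.normalizer ((((P : Subgroup G) ⊓ Vb.comap (QuotientGroup.mk' O) :
      Subgroup G)) : Set G), (∃ k, a ^ (p ^ k) = 1) ∧ QuotientGroup.mk' O a = ab := by
  classical
  obtain ⟨m, hm, rfl⟩ := exists_normalizer_lift0 O hOcop P Vb hVbp ab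
  obtain ⟨n₁, h1, n₂, h2, hdec, ⟨k', hk'⟩, hcop⟩ := exists_p_decomp p m
  obtain ⟨k, hk⟩ := hab
  have hz : Subgroup.zpowers m ≤ Subgroup.normalizer
      ((((P : Subgroup G) ⊓ Vb.comap (QuotientGroup.mk' O) : Subgroup G)) : Set G) :=
    Subgroup.zpowers_le.2 hm
  have hn2 : QuotientGroup.mk' O n₂ = 1 := by
    obtain ⟨j, rfl⟩ := h2
    have e1 : (QuotientGroup.mk' O (m ^ j)) ^ (p ^ k) = 1 := by
      rw [map_zpow, ← zpow_natCast, ← zpow_mul, mul_comm, zpow_mul, zpow_natCast, hk, one_zpow]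
    have e2 : (QuotientGroup.mk' O (m ^ j)) ^ orderOf (m ^ j) = 1 := by
      rw [← map_pow, pow_orderOf_eq_one, map_one]
    have d1 := orderOf_dvd_of_pow_eq_one e1
    have d2 := orderOf_dvd_of_pow_eq_one e2
    have h3 : orderOf (QuotientGroup.mk' O (m ^ j)) = 1 :=
      Nat.Coprime.eq_one_of_dvd ((hcop.pow_right k).coprime_dvd_left d2) d1
    exact orderOf_eq_one_iff.1 h3
  refine ⟨n₁, hz h1, ⟨k', hk'⟩, ?_⟩
  conv_rhs => rw [hdec]
  rw [map_mul, hn2, mul_one]

/-- `p`-stability of the action of `G/O` on its normal `p`-subgroups. -/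
theorem stableOn_quotient (hOcop : (Nat.card O).Coprime p) (hs : StabHyp p O) (P : Sylow p G)
    (Vb : Subgroup (G ⧸ O)) [hVbn : Vb.Normal] (hVbp : IsPGroup p Vb) :
    Cfsg.IsPStableOn p Vb := by
  classical
  obtain ⟨hmap, hsup, hVO⟩ := sylow_inf_map O hOcop P Vb hVbp
  have hlift0 := exists_normalizer_lift0 O hOcop P Vb hVbp
  have hlift := exists_normalizer_lift O hOcop P Vb hVbp
  obtain ⟨V, hVdef⟩ : ∃ V : Subgroup G, V = (P : Subgroup G) ⊓ Vb.comap (QuotientGroup.mk' O) :=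
    ⟨_, rfl⟩
  rw [← hVdef] at hmap hsup hVO hlift0 hlift
  have hVp : IsPGroup p V := by rw [hVdef]; exact P.isPGroup'.to_le inf_le_left
  haveI hCn : (Subgroup.centralizer (Vb : Set (G ⧸ O))).Normal := Subgroup.normal_centralizer
  have hker : (Subgroup.centralizer (V : Set G)).subgroupOf (Subgroup.normalizer (V : Set G)) ≤
      (Subgroup.centralizer (Vb : Set (G ⧸ O))).comap
        ((QuotientGroup.mk' O).comp (Subgroup.normalizer (V : Set G)).subtype) := by
    intro c hc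
    rw [Subgroup.mem_comap, Subgroup.mem_centralizer_iff]
    intro y hy
    rw [← hmap] at hy
    obtain ⟨v, hv, rfl⟩ := hy
    have h1 := Subgroup.mem_centralizer_iff.1 (Subgroup.mem_subgroupOf.1 hc) v hv
    show QuotientGroup.mk' O v * QuotientGroup.mk' O (c : G) =
      QuotientGroup.mk' O (c : G) * QuotientGroup.mk' O v
    rw [← map_mul, ← map_mul, h1]
  let ψ : (↥(Subgroup.normalizer (V : Set G)) ⧸
      (Subgroup.centralizer (V : Set G)).subgroupOf (Subgroup.normalizer (V : Set G))) →*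
      ((G ⧸ O) ⧸ Subgroup.centralizer (Vb : Set (G ⧸ O))) :=
    QuotientGroup.map _ _
      ((QuotientGroup.mk' O).comp (Subgroup.normalizer (V : Set G)).subtype) hker
  have hsurj : Function.Surjective ψ := by
    intro q
    obtain ⟨gb, rfl⟩ := QuotientGroup.mk_surjective q
    obtain ⟨n, hn, rfl⟩ := hlift0 gb
    exact ⟨QuotientGroup.mk ⟨n, hn⟩, rfl⟩
  have himg : (Cfsg.pCore p (↥(Subgroup.normalizer (V : Set G)) ⧸
      (Subgroup.centralizer (V : Set G)).subgroupOf (Subgroup.normalizer (V : Set G)))).map ψ ≤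
      Cfsg.pCore p ((G ⧸ O) ⧸ Subgroup.centralizer (Vb : Set (G ⧸ O))) := by
    apply le_pCore
    · exact (pCore_normal p _).map ψ hsurj
    · exact pCore_isPGroup.map ψ
  apply stableOn_of_pElements Vb hVbp
  intro ab hab hq
  obtain ⟨a, haN, ⟨k, hk⟩, rfl⟩ := hlift ab hab
  have hAp := zpowers_isPGroup (p := p) a k hk
  have hzN : Subgroup.zpowers a ≤ Subgroup.normalizer (V : Set G) := Subgroup.zpowers_le.2 haN
  have hnorm : ∀ b ∈ Subgroup.zpowers a, ∀ x ∈ V, b * x * b⁻¹ ∈ V := by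
    intro b hb x hx
    exact (Subgroup.mem_normalizer_iff.1 (hzN hb) x).1 hx
  have hOVn : (O ⊔ V).Normal := by rw [hsup]; infer_instance
  have hquad : ⁅⁅V, Subgroup.zpowers a⁆, Subgroup.zpowers a⁆ = ⊥ := by
    have h2 : ⁅V, Subgroup.zpowers a⁆ ≤ V := commutator_le_of_le_normalizer V _ hzN
    have h1 : ⁅⁅V, Subgroup.zpowers a⁆, Subgroup.zpowers a⁆ ≤ V :=
      (Subgroup.commutator_mono h2 le_rfl).trans h2
    have h3 : (⁅⁅V, Subgroup.zpowers a⁆, Subgroup.zpowers a⁆).map (QuotientGroup.mk' O) = ⊥ := by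
      rw [Subgroup.map_commutator, Subgroup.map_commutator, hmap, MonoidHom.map_zpowers]
      exact hq
    rw [eq_bot_iff]
    intro x hx
    have hxO : x ∈ O := by
      have h4 : QuotientGroup.mk' O x ∈
          (⁅⁅V, Subgroup.zpowers a⁆, Subgroup.zpowers a⁆).map (QuotientGroup.mk' O) := ⟨x, hx, rfl⟩
      rw [h3, Subgroup.mem_bot] at h4
      exact (QuotientGroup.eq_one_iff x).1 h4
    have h5 : x ∈ V ⊓ O := ⟨h1 hx, hxO⟩
    rwa [hVO] at h5
  have h := hs (Subgroup.zpowers a) V hAp hVp hnorm hOVn hquad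
  have hmem : (QuotientGroup.mk' ((Subgroup.centralizer (V : Set G)).subgroupOf
      (Subgroup.normalizer (V : Set G))) ⟨a, haN⟩) ∈
      ((Subgroup.zpowers a).subgroupOf (Subgroup.normalizer (V : Set G))).map
        (QuotientGroup.mk' ((Subgroup.centralizer (V : Set G)).subgroupOf
          (Subgroup.normalizer (V : Set G)))) :=
    ⟨⟨a, haN⟩, Subgroup.mem_subgroupOf.2 (Subgroup.mem_zpowers a), rfl⟩
  exact himg ⟨_, h hmem, rfl⟩

end quotient

end Cfsg.Agent.Lib.Lead_PStable
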