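import Mathlib
import Cfsg.Prelude
import Cfsg.Agent.Lib.Helper4_PCore
import Cfsg.Agent.Lib.Helper5_PPrime
import Cfsg.Agent.Lib.Helper5_Sylow
import Cfsg.Agent.Lib.Helper7_NPC
import Cfsg.Agent.Lib.Lead_PStable

set_option autoImplicit false

/-! Goldschmidt's lemma on `O_p(N(H)/C(H))` (helper5), internal form. -/

namespace Cfsg.Agent.Lib.Helper5_GoldN

open Cfsg.Agent.Lib.Helper4_PCore Cfsg.Agent.Lib.Helper5_PPrime Cfsg.Agent.Lib.Helper7_NPC
open scoped Pointwise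

variable {M : Type*} [Group M] [Finite M] {p : ℕ} [Fact p.Prime]

/-- preimage of `O_p(M/A)` -/
def cc (p : ℕ) (A : Subgroup M) [A.Normal] : Subgroup M :=
  (Cfsg.pCore p (M ⧸ A)).comap (QuotientGroup.mk' A)

omit [Finite M] [Fact p.Prime] in
theorem le_cc (A : Subgroup M) [A.Normal] : A ≤ cc p A := by
  intro a ha
  show QuotientGroup.mk' A a ∈ Cfsg.pCore p (M ⧸ A)
  have : QuotientGroup.mk' A a = 1 := (QuotientGroup.eq_one_iff a).mpr ha
  rw [this]; exact one_mem _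

omit [Finite M] in
theorem pow_mem_of_mem_cc (A : Subgroup M) [A.Normal] {x : M} (hx : x ∈ cc p A) :
    ∃ j : ℕ, x ^ (p ^ j) ∈ A := by
  have h1 : QuotientGroup.mk' A x ∈ Cfsg.pCore p (M ⧸ A) := hx
  obtain ⟨j, hj⟩ := (pCore_isPGroup (G := M ⧸ A) (p := p)) ⟨_, h1⟩
  refine ⟨j, ?_⟩
  have h2 : (QuotientGroup.mk' A x) ^ (p ^ j) = 1 := by
    have := congrArg Subtype.val hj
    simpa using this
  rw [← map_pow] at h2
  exact (QuotientGroup.eq_one_iff _).mp h2

omit [Finite M] [Fact p.Prime] in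
theorem cc_normal (A : Subgroup M) [A.Normal] : (cc p A).Normal := by
  haveI := pCore_normal p (M ⧸ A)
  unfold cc
  infer_instance

omit [Finite M] [Fact p.Prime] in
theorem le_cc_of (A : Subgroup M) [A.Normal] (X : Subgroup M) [hX : X.Normal]
    (h : ∀ x ∈ X, ∃ j : ℕ, x ^ (p ^ j) ∈ A) : X ≤ cc p A := by
  have hn : (X.map (QuotientGroup.mk' A)).Normal :=
    Subgroup.Normal.map hX _ (QuotientGroup.mk'_surjective A)
  have hp : IsPGroup p (X.map (QuotientGroup.mk' A)) := by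
    rintro ⟨_, ⟨x, hx, rfl⟩⟩
    obtain ⟨j, hj⟩ := h x hx
    refine ⟨j, ?_⟩
    apply Subtype.ext
    simp only [Subgroup.coe_pow, Subgroup.coe_one]
    rw [← map_pow]
    exact (QuotientGroup.eq_one_iff _).mpr hj
  intro x hx
  show QuotientGroup.mk' A x ∈ Cfsg.pCore p (M ⧸ A)
  exact le_pCore _ hn hp ⟨x, hx, rfl⟩

/-- `H` is "Sylow" in `N`: -/
theorem eq_of_not_dvd (H N Q : Subgroup M) (hHN : H ≤ N) (hidx : ¬ p ∣ H.relIndex N)
    (hQ : IsPGroup p Q) (hHQ : H ≤ Q) (hQN : Q ≤ N) : Q = H := by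
  have h1 := Subgroup.relIndex_mul_relIndex H Q N hHQ hQN
  have h2 : ∃ n : ℕ, H.relIndex Q = p ^ n := by
    have hQ' : IsPGroup p Q := hQ
    exact hQ'.index (H.subgroupOf Q)
  obtain ⟨n, hn⟩ := h2
  have hn0 : n = 0 := by
    by_contra hne
    apply hidx
    rw [← h1, hn]
    exact dvd_mul_of_dvd_left (dvd_pow_self p hne) _
  rw [hn0, pow_zero, Subgroup.relIndex_eq_one] at hn
  exact le_antisymm hn hHQ

theorem not_dvd_of_eq (H N : Subgroup M) (hHN : H ≤ N) (hH : IsPGroup p H)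
    (h : ∀ Q : Subgroup M, IsPGroup p Q → H ≤ Q → Q ≤ N → Q = H) : ¬ p ∣ H.relIndex N := by
  have hHp : IsPGroup p (H.subgroupOf N) := hH.comap_subtype
  obtain ⟨Q', hQ'⟩ := hHp.exists_le_sylow
  have h1 : (Q' : Subgroup N).map N.subtype = H := by
    apply h
    · exact Q'.isPGroup'.map _
    · intro x hx
      exact ⟨⟨x, hHN hx⟩, hQ' (Subgroup.mem_subgroupOf.mpr hx), rfl⟩
    · exact Subgroup.map_subtype_le _
  have h2 : (Q' : Subgroup N) = H.subgroupOf N := by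
    rw [← h1]
    ext x
    rw [Subgroup.mem_subgroupOf]
    constructor
    · intro hx; exact ⟨x, hx, rfl⟩
    · rintro ⟨y, hy, hyx⟩
      have : y = x := Subtype.ext hyx
      rw [← this]; exact hy
  show ¬ p ∣ (H.subgroupOf N).index
  rw [← h2]
  exact Q'.not_dvd_index


omit [Finite M] [Fact p.Prime] in
theorem pPrimePCore_eq_cc : Cfsg.pPrimePCore p M = cc p (Cfsg.pPrimeCore p M) := rfl

section main

variable (H C : Subgroup M) [hHn : H.Normal] [hCn : C.Normal] (hH : IsPGroup p H)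
  (hC : C = Subgroup.centralizer (H : Set M)) (P : Sylow p M)

include hH in
omit [Finite M] in
theorem H_le_cc : H ≤ cc p C := by
  apply le_cc_of C H
  intro x hx
  obtain ⟨j, hj⟩ := hH ⟨x, hx⟩
  refine ⟨j, ?_⟩
  have : x ^ (p ^ j) = 1 := by
    have := congrArg Subtype.val hj
    simpa using this
  rw [this]; exact one_mem _

include hH hC in
theorem K_le_C : Cfsg.pPrimeCore p M ≤ C := by
  have hdisj : H ⊓ Cfsg.pPrimeCore p M = ⊥ :=
    inf_eq_bot_of_pGroup_of_coprime hH (pPrimeCore_coprime p M)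
  intro k hk
  rw [hC, Subgroup.mem_centralizer_iff]
  intro h hh
  exact Subgroup.commute_of_normal_of_disjoint H (Cfsg.pPrimeCore p M) hHn inferInstance
    (disjoint_iff.mpr hdisj) h k hh hk

include hH in
/-- a `p`-element of `C` lies in `H` when `P ∩ C ≤ H` -/
theorem pElt_mem_H (hPC : (P : Subgroup M) ⊓ C ≤ H) {Q : Subgroup M} (hQ : IsPGroup p Q)
    {c : M} (hcQ : c ∈ Q) (hcC : c ∈ C) : c ∈ H := by
  obtain ⟨m, hm⟩ := Cfsg.Agent.Lib.Helper5_Sylow.exists_conj_le_sylow hQ P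
  have h1 : m * c * m⁻¹ ∈ (P : Subgroup M) := hm ⟨c, hcQ, by simp [MulAut.conj_apply]⟩
  have h2 : m * c * m⁻¹ ∈ C := hCn.conj_mem c hcC m
  have h3 : m * c * m⁻¹ ∈ H := hPC ⟨h1, h2⟩
  have h4 := hHn.conj_mem _ h3 m⁻¹
  have e : m⁻¹ * (m * c * m⁻¹) * m⁻¹⁻¹ = c := by group
  rwa [e] at h4

include hH hC in
/-- `C ≤ H ⊔ O_{p'}(M)` when `P ∩ C ≤ H` -/
theorem C_le_sup (hPC : (P : Subgroup M) ⊓ C ≤ H) : C ≤ H ⊔ Cfsg.pPrimeCore p M := by
  classical
  -- Frobenius hypothesis in C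
  obtain ⟨P'⟩ : Nonempty (Sylow p C) := inferInstance
  have hP'H : ∀ x : C, x ∈ P' → (x : M) ∈ H := by
    intro x hx
    have hQ : IsPGroup p ((P' : Subgroup C).map C.subtype) := P'.isPGroup'.map _
    exact pElt_mem_H H C hH P hPC hQ ⟨x, hx, rfl⟩ x.2
  have hF : FrobHyp p C := by
    apply frobHyp_of_sylow P'
    intro Q hQP g _ _
    rw [Subgroup.mem_centralizer_iff]
    intro x hx
    apply Subtype.ext
    have hxH : (x : M) ∈ H := hP'H x (hQP hx)
    have hg : (g : M) ∈ Subgroup.centralizer (H : Set M) := hC ▸ g.2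
    exact Subgroup.mem_centralizer_iff.mp hg _ hxH
  obtain ⟨D, hDn, hDc, k, hDk⟩ := npc_of_frobHyp hF
  set D₀ : Subgroup M := D.map C.subtype with hD₀
  have hD₀card : (Nat.card D₀).Coprime p := by
    rw [hD₀, Nat.card_congr (D.equivMapOfInjective _ C.subtype_injective).toEquiv.symm]
    exact hDc
  have hmemD₀ : ∀ x : M, x ∈ C → (orderOf x).Coprime p → x ∈ D₀ := by
    intro x hx hcop
    haveI := hDn
    have : (⟨x, hx⟩ : C) ∈ D := by
      apply mem_of_index_pow D hDk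
      rw [Subgroup.orderOf_mk]
      exact hcop
    exact ⟨⟨x, hx⟩, this, rfl⟩
  have hD₀n : D₀.Normal := by
    constructor
    intro x hx m
    obtain ⟨d, hd, rfl⟩ := hx
    apply hmemD₀
    · exact hCn.conj_mem _ d.2 m
    · show (orderOf (m * (d : M) * m⁻¹)).Coprime p
      have h1 : orderOf (m * (d : M) * m⁻¹) = orderOf (d : M) := by
        have := MulEquiv.orderOf_eq (MulAut.conj m) (d : M)
        simpa [MulAut.conj_apply] using this
      rw [h1]
      have h2 : orderOf (d : M) ∣ Nat.card D := by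
        have : orderOf (⟨d, hd⟩ : D) ∣ Nat.card D := orderOf_dvd_natCard _
        rwa [Subgroup.orderOf_mk, ← Subgroup.orderOf_coe] at this
      exact Nat.Coprime.coprime_dvd_left h2 hDc
  have hD₀K : D₀ ≤ Cfsg.pPrimeCore p M := by
    haveI := hD₀n
    exact le_pPrimeCore D₀ hD₀card
  intro c hc
  obtain ⟨c₁, hc₁, c₂, hc₂, hcc, ⟨j, hj⟩, hcop⟩ := Cfsg.Agent.Lib.Lead_PStable.exists_p_decomp p c
  have hzc : Subgroup.zpowers c ≤ C := Subgroup.zpowers_le.mpr hc
  have h1 : c₁ ∈ H := by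
    have hQ : IsPGroup p (Subgroup.zpowers c₁) := by
      rintro ⟨g, hg⟩
      obtain ⟨i, rfl⟩ := Subgroup.mem_zpowers_iff.mp hg
      refine ⟨j, ?_⟩
      apply Subtype.ext
      simp only [Subgroup.coe_pow, Subgroup.coe_one]
      rw [← zpow_natCast, ← zpow_mul, mul_comm, zpow_mul, zpow_natCast, hj, one_zpow]
    exact pElt_mem_H H C hH P hPC hQ (Subgroup.mem_zpowers c₁) (hzc hc₁)
  have h2 : c₂ ∈ Cfsg.pPrimeCore p M := hD₀K (hmemD₀ c₂ (hzc hc₂) hcop)
  rw [hcc]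
  exact Subgroup.mul_mem_sup h1 h2

include hH hC in
theorem forward (hidx : ¬ p ∣ H.relIndex (cc p C)) :
    (P : Subgroup M) ⊓ C ≤ H ∧ Cfsg.pPrimePCore p M = H ⊔ C := by
  have hHN : H ≤ cc p C := H_le_cc H C hH
  have hCN : C ≤ cc p C := le_cc C
  have hPC : (P : Subgroup M) ⊓ C ≤ H := by
    have hQ : IsPGroup p (H ⊔ ((P : Subgroup M) ⊓ C) : Subgroup M) :=
      IsPGroup.to_sup_of_normal_left hH (P.isPGroup'.to_le inf_le_left)
    have := eq_of_not_dvd H (cc p C) _ hHN hidx hQ le_sup_left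
      (sup_le hHN (inf_le_right.trans hCN))
    rw [← this]; exact le_sup_right
  refine ⟨hPC, ?_⟩
  rw [pPrimePCore_eq_cc]
  have hKC : Cfsg.pPrimeCore p M ≤ C := K_le_C H C hH hC
  apply le_antisymm
  · -- R ≤ N ≤ H ⊔ C
    haveI := cc_normal (p := p) (Cfsg.pPrimeCore p M)
    have hRN : cc p (Cfsg.pPrimeCore p M) ≤ cc p C := by
      apply le_cc_of
      intro x hx
      obtain ⟨j, hj⟩ := pow_mem_of_mem_cc _ hx
      exact ⟨j, hKC hj⟩
    refine hRN.trans ?_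
    intro n hn
    obtain ⟨n₁, hn₁, n₂, hn₂, hnn, ⟨j, hj⟩, hcop⟩ :=
      Cfsg.Agent.Lib.Lead_PStable.exists_p_decomp p n
    have hzn : Subgroup.zpowers n ≤ cc p C := Subgroup.zpowers_le.mpr hn
    have h1 : n₁ ∈ H := by
      have hz : IsPGroup p (Subgroup.zpowers n₁) := by
        rintro ⟨g, hg⟩
        obtain ⟨i, rfl⟩ := Subgroup.mem_zpowers_iff.mp hg
        refine ⟨j, ?_⟩
        apply Subtype.ext
        simp only [Subgroup.coe_pow, Subgroup.coe_one]
        rw [← zpow_natCast, ← zpow_mul, mul_comm, zpow_mul, zpow_natCast, hj, one_zpow]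
      have hQ : IsPGroup p (H ⊔ Subgroup.zpowers n₁ : Subgroup M) :=
        IsPGroup.to_sup_of_normal_left hH hz
      have := eq_of_not_dvd H (cc p C) _ hHN hidx hQ le_sup_left
        (sup_le hHN (Subgroup.zpowers_le.mpr (hzn hn₁)))
      rw [← this]
      exact le_sup_right (a := H) (Subgroup.mem_zpowers n₁)
    have h2 : n₂ ∈ C := by
      obtain ⟨i, hi⟩ := pow_mem_of_mem_cc C (hzn hn₂)
      -- n₂^(p^i) ∈ C and order coprime to p
      have hcop' : (orderOf n₂).Coprime (p ^ i) := Nat.Coprime.pow_right i hcop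
      have hgen : n₂ ∈ Subgroup.zpowers (n₂ ^ (p ^ i)) := by
        obtain ⟨m, hm⟩ := exists_pow_eq_self_of_coprime hcop'.symm
        exact ⟨m, by simpa using hm⟩
      exact (Subgroup.zpowers_le.mpr hi) hgen
    rw [hnn]
    exact Subgroup.mul_mem_sup h1 h2
  · -- H ⊔ C ≤ R
    have hHR : H ≤ cc p (Cfsg.pPrimeCore p M) := by
      apply le_cc_of
      intro x hx
      obtain ⟨j, hj⟩ := hH ⟨x, hx⟩
      refine ⟨j, ?_⟩
      have : x ^ (p ^ j) = 1 := by
        have := congrArg Subtype.val hj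
        simpa using this
      rw [this]; exact one_mem _
    have hKR : Cfsg.pPrimeCore p M ≤ cc p (Cfsg.pPrimeCore p M) := le_cc _
    exact sup_le hHR ((C_le_sup H C hH hC P hPC).trans (sup_le hHR hKR))

include hH in
theorem backward (hPC : (P : Subgroup M) ⊓ C ≤ H) (hR : Cfsg.pPrimePCore p M = H ⊔ C) :
    H ≤ cc p C ∧ ¬ p ∣ H.relIndex (cc p C) := by
  have hHN : H ≤ cc p C := H_le_cc H C hH
  refine ⟨hHN, ?_⟩
  apply not_dvd_of_eq H (cc p C) hHN hH
  intro Q hQ hHQ hQN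
  apply le_antisymm _ hHQ
  rw [pPrimePCore_eq_cc] at hR
  have hCR : C ≤ cc p (Cfsg.pPrimeCore p M) := by rw [hR]; exact le_sup_right
  haveI := cc_normal (p := p) C
  have hNR : cc p C ≤ cc p (Cfsg.pPrimeCore p M) := by
    apply le_cc_of
    intro n hn
    obtain ⟨i, hi⟩ := pow_mem_of_mem_cc C hn
    obtain ⟨j, hj⟩ := pow_mem_of_mem_cc _ (hCR hi)
    refine ⟨i + j, ?_⟩
    rw [pow_add, pow_mul]
    exact hj
  intro q hq
  have hq' : q ∈ H ⊔ C := by rw [← hR]; exact hNR (hQN hq)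
  have hq'' : q ∈ ((H : Set M) * (C : Set M)) := by
    rw [← Subgroup.normal_mul]; exact hq'
  obtain ⟨h, hh, c, hc, hhc⟩ := Set.mem_mul.mp hq''
  have hcQ : c ∈ Q := by
    have : c = h⁻¹ * q := by rw [← hhc]; group
    rw [this]
    exact Q.mul_mem (Q.inv_mem (hHQ hh)) hq
  have hcH : c ∈ H := pElt_mem_H H C hH P hPC hQ hcQ hc
  rw [← hhc]
  exact H.mul_mem hh hcH

include hH hC in
theorem internal :
    (H ≤ cc p C ∧ ¬ p ∣ H.relIndex (cc p C)) ↔
      ((P : Subgroup M) ⊓ C ≤ H ∧ Cfsg.pPrimePCore p M = H ⊔ C) :=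
  ⟨fun h => forward H C hH hC P h.2, fun h => backward H C hH P h.1 h.2⟩

end main

end Cfsg.Agent.Lib.Helper5_GoldN
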