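import Mathlib
import Cfsg.Prelude
import Cfsg.Agent.Lib.Helper5_GoldN

set_option autoImplicit false

/-! Goldschmidt's lemma on `O_p(N(H)/C(H))` (helper5), transported form (S3076). -/

namespace Cfsg.Agent.Lib.Helper5_GoldN2

open Cfsg.Agent.Lib.Helper5_GoldN

variable {G : Type*} [Group G]

theorem le_map_iff (B A : Subgroup G) (hA : A ≤ B) (X : Subgroup B) :
    A ≤ X.map B.subtype ↔ A.subgroupOf B ≤ X := by
  constructor
  · intro h x hx
    obtain ⟨y, hy, hyx⟩ := h (Subgroup.mem_subgroupOf.mp hx)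
    have : y = x := Subtype.ext hyx
    rw [← this]; exact hy
  · intro h a ha
    exact ⟨⟨a, hA ha⟩, h (Subgroup.mem_subgroupOf.mpr ha), rfl⟩

theorem map_subgroupOf_self (B : Subgroup G) (X : Subgroup B) :
    (X.map B.subtype).subgroupOf B = X := by
  ext x
  rw [Subgroup.mem_subgroupOf]
  constructor
  · rintro ⟨y, hy, hyx⟩
    have : y = x := Subtype.ext hyx
    rw [← this]; exact hy
  · intro hx; exact ⟨x, hx, rfl⟩

theorem relIndex_map (B A : Subgroup G) (X : Subgroup B) :
    A.relIndex (X.map B.subtype) = (A.subgroupOf B).relIndex X := by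
  have h := Subgroup.relIndex_subgroupOf (H := A) (K := X.map B.subtype) (L := B)
    (Subgroup.map_subtype_le X)
  rw [map_subgroupOf_self] at h
  exact h.symm

theorem map_eq_iff (B A : Subgroup G) (hA : A ≤ B) (X : Subgroup B) :
    X.map B.subtype = A ↔ X = A.subgroupOf B := by
  constructor
  · intro h
    rw [← h, map_subgroupOf_self]
  · intro h
    rw [h, Subgroup.map_subgroupOf_eq_of_le hA]

theorem main [Finite G] {p : ℕ} [Fact p.Prime]
    (P : Sylow p G) (H : Subgroup G) (hHP : H ≤ (P : Subgroup G))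
    (hSyl : ¬ p ∣ ((P : Subgroup G) ⊓ Subgroup.normalizer (H : Set G)).relIndex
      (Subgroup.normalizer (H : Set G)))
    [hC : ((Subgroup.centralizer (H : Set G)).subgroupOf (Subgroup.normalizer (H : Set G))).Normal] :
    (H ≤ ((Cfsg.pCore p (↥(Subgroup.normalizer (H : Set G)) ⧸
              (Subgroup.centralizer (H : Set G)).subgroupOf (Subgroup.normalizer (H : Set G)))).comap
            (QuotientGroup.mk' _)).map (Subgroup.normalizer (H : Set G)).subtype ∧
      ¬ p ∣ H.relIndex (((Cfsg.pCore p (↥(Subgroup.normalizer (H : Set G)) ⧸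
              (Subgroup.centralizer (H : Set G)).subgroupOf (Subgroup.normalizer (H : Set G)))).comap
            (QuotientGroup.mk' _)).map (Subgroup.normalizer (H : Set G)).subtype)) ↔
    ((P : Subgroup G) ⊓ Subgroup.centralizer (H : Set G) ≤ H ∧
      (Cfsg.pPrimePCore p ↥(Subgroup.normalizer (H : Set G))).map
        (Subgroup.normalizer (H : Set G)).subtype = H ⊔ Subgroup.centralizer (H : Set G)) := by
  set NG := Subgroup.normalizer (H : Set G) with hNG
  have hHNG : H ≤ NG := Subgroup.le_normalizer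
  have hCNG : Subgroup.centralizer (H : Set G) ≤ NG := Subgroup.centralizer_le_normalizer _
  set Hm : Subgroup NG := H.subgroupOf NG with hHm
  set Cm : Subgroup NG := (Subgroup.centralizer (H : Set G)).subgroupOf NG with hCm
  haveI hHmn : Hm.Normal := Subgroup.normal_in_normalizer
  have hHmp : IsPGroup p Hm := (P.isPGroup'.to_le hHP).comap_subtype
  have hCmeq : Cm = Subgroup.centralizer (Hm : Set NG) := by
    ext x
    rw [hCm, Subgroup.mem_subgroupOf, Subgroup.mem_centralizer_iff, Subgroup.mem_centralizer_iff]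
    constructor
    · intro h y hy
      apply Subtype.ext
      exact h _ (Subgroup.mem_subgroupOf.mp hy)
    · intro h g hg
      have := h ⟨g, hHNG hg⟩ (Subgroup.mem_subgroupOf.mpr hg)
      exact congrArg Subtype.val this
  have hPmp : IsPGroup p ((P : Subgroup G).subgroupOf NG) := P.isPGroup'.comap_subtype
  have hPmi : ¬ p ∣ ((P : Subgroup G).subgroupOf NG).index := by
    have : ((P : Subgroup G).subgroupOf NG).index = ((P : Subgroup G) ⊓ NG).relIndex NG := by
      rw [Subgroup.inf_relIndex_right]; rfl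
    rw [this]; exact hSyl
  set Pm : Sylow p NG := hPmp.toSylow hPmi with hPm
  have hPmcoe : (Pm : Subgroup NG) = (P : Subgroup G).subgroupOf NG := rfl
  have key := internal Hm Cm hHmp hCmeq Pm
  have hcc : cc p Cm = (Cfsg.pCore p (↥NG ⧸ Cm)).comap (QuotientGroup.mk' Cm) := rfl
  rw [le_map_iff NG H hHNG, relIndex_map NG H, ← hcc]
  have hsup : (H ⊔ Subgroup.centralizer (H : Set G)).subgroupOf NG = Hm ⊔ Cm :=
    Subgroup.subgroupOf_sup hHNG hCNG
  rw [map_eq_iff NG _ (sup_le hHNG hCNG), hsup]
  have hinf : (P : Subgroup G) ⊓ Subgroup.centralizer (H : Set G) ≤ H ↔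
      (Pm : Subgroup NG) ⊓ Cm ≤ Hm := by
    constructor
    · intro h x hx
      exact Subgroup.mem_subgroupOf.mpr (h ⟨Subgroup.mem_subgroupOf.mp hx.1,
        Subgroup.mem_subgroupOf.mp hx.2⟩)
    · intro h g hg
      have hgN : g ∈ NG := hCNG hg.2
      have := h (x := ⟨g, hgN⟩) ⟨Subgroup.mem_subgroupOf.mpr hg.1, Subgroup.mem_subgroupOf.mpr hg.2⟩
      exact Subgroup.mem_subgroupOf.mp this
  rw [hinf]
  exact key

end Cfsg.Agent.Lib.Helper5_GoldN2
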