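import Mathlib
import Cfsg.Prelude.Def_Transfer
import Cfsg.Agent.Lib.Helper4_Frattini
import Cfsg.Agent.Lib.Helper7_PFrattini

set_option autoImplicit false

namespace Cfsg.Agent.Lib.Helper5_Heis

open Matrix

/-- The Heisenberg group of dimension `n` over `ZMod p`. -/
@[ext] structure Heis (p n : ℕ) where
  a : Fin n → ZMod p
  b : Fin n → ZMod p
  c : ZMod p

namespace Heis

variable {p n : ℕ}

instance : Mul (Heis p n) := ⟨fun x y => ⟨x.a + y.a, x.b + y.b, x.c + y.c + x.a ⬝ᵥ y.b⟩⟩
instance : One (Heis p n) := ⟨⟨0, 0, 0⟩⟩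
instance : Inv (Heis p n) := ⟨fun x => ⟨-x.a, -x.b, -x.c + x.a ⬝ᵥ x.b⟩⟩

@[simp] theorem mul_a (x y : Heis p n) : (x * y).a = x.a + y.a := rfl
@[simp] theorem mul_b (x y : Heis p n) : (x * y).b = x.b + y.b := rfl
@[simp] theorem mul_c (x y : Heis p n) : (x * y).c = x.c + y.c + x.a ⬝ᵥ y.b := rfl
@[simp] theorem one_a : (1 : Heis p n).a = 0 := rfl
@[simp] theorem one_b : (1 : Heis p n).b = 0 := rfl
@[simp] theorem one_c : (1 : Heis p n).c = 0 := rfl
@[simp] theorem inv_a (x : Heis p n) : (x⁻¹).a = -x.a := rfl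
@[simp] theorem inv_b (x : Heis p n) : (x⁻¹).b = -x.b := rfl
@[simp] theorem inv_c (x : Heis p n) : (x⁻¹).c = -x.c + x.a ⬝ᵥ x.b := rfl

instance : Group (Heis p n) :=
  Group.ofLeftAxioms
    (fun x y z => by
      ext1
      · simp [add_assoc]
      · simp [add_assoc]
      · simp only [mul_c, mul_a, mul_b, add_dotProduct, dotProduct_add]; ring)
    (fun x => by
      ext1
      · simp
      · simp
      · simp)
    (fun x => by
      ext1
      · simp
      · simp
      · simp only [mul_c, inv_c, inv_a, neg_dotProduct, one_c]; ring)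

theorem pow_a (x : Heis p n) (k : ℕ) : (x ^ k).a = k • x.a := by
  induction k with
  | zero => simp
  | succ k ih => rw [pow_succ, mul_a, ih, succ_nsmul]

theorem pow_b (x : Heis p n) (k : ℕ) : (x ^ k).b = k • x.b := by
  induction k with
  | zero => simp
  | succ k ih => rw [pow_succ, mul_b, ih, succ_nsmul]

theorem pow_c (x : Heis p n) (k : ℕ) :
    (x ^ k).c = k • x.c + (k.choose 2 : ZMod p) * (x.a ⬝ᵥ x.b) := by
  induction k with
  | zero => simp
  | succ k ih =>
    rw [pow_succ, mul_c, ih, pow_a, smul_dotProduct, succ_nsmul, Nat.choose_succ_succ,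
      Nat.choose_one_right, Nat.cast_add]
    simp only [nsmul_eq_mul]
    ring

theorem pow_p [Fact p.Prime] (hp : p ≠ 2) (x : Heis p n) : x ^ p = 1 := by
  have hpp : p.Prime := Fact.out
  ext1
  · rw [pow_a]; ext i; simp
  · rw [pow_b]; ext i; simp
  · rw [pow_c]
    have h2 : 2 < p := lt_of_le_of_ne hpp.two_le (Ne.symm hp)
    have hd : (p.choose 2 : ZMod p) = 0 := by
      rw [ZMod.natCast_eq_zero_iff]
      exact hpp.dvd_choose_self (by norm_num) h2
    rw [hd]; simp

/-- central elements -/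
def zc (c : ZMod p) : Heis p n := ⟨0, 0, c⟩

theorem mem_center_iff (x : Heis p n) : x ∈ Subgroup.center (Heis p n) ↔ x.a = 0 ∧ x.b = 0 := by
  classical
  rw [Subgroup.mem_center_iff]
  constructor
  · intro h
    constructor
    · ext i
      have := congrArg Heis.c (h ⟨0, Pi.single i 1, 0⟩)
      simp only [mul_c, dotProduct_single, zero_dotProduct, mul_one] at this
      simpa using this.symm
    · ext i
      have := congrArg Heis.c (h ⟨Pi.single i 1, 0, 0⟩)
      simp only [mul_c, single_dotProduct, dotProduct_zero, one_mul] at this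
      simpa using this
  · rintro ⟨ha, hb⟩ g
    ext1
    · simp [add_comm]
    · simp [add_comm]
    · simp only [mul_c, ha, hb, zero_dotProduct, dotProduct_zero]; ring

theorem comm_eq (x y : Heis p n) :
    x * y * x⁻¹ * y⁻¹ = zc (x.a ⬝ᵥ y.b - y.a ⬝ᵥ x.b) := by
  ext1
  · simp [zc]
  · simp [zc]
  · simp only [mul_c, mul_a, mul_b, inv_a, inv_b, inv_c, zc, add_dotProduct, dotProduct_add,
      neg_dotProduct, dotProduct_neg]
    ring

theorem zc_mem_center (c : ZMod p) : (zc c : Heis p n) ∈ Subgroup.center (Heis p n) :=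
  (mem_center_iff _).mpr ⟨rfl, rfl⟩

theorem eq_zc_of_mem_center {x : Heis p n} (hx : x ∈ Subgroup.center (Heis p n)) : x = zc x.c := by
  obtain ⟨ha, hb⟩ := (mem_center_iff x).mp hx
  ext1
  · exact ha
  · exact hb
  · rfl

/-- for `n ≥ 1`, every central element is a commutator -/
theorem zc_eq_comm (hn : 1 ≤ n) (c : ZMod p) :
    ∃ x y : Heis p n, zc c = x * y * x⁻¹ * y⁻¹ := by
  classical
  let i0 : Fin n := ⟨0, hn⟩
  refine ⟨⟨Pi.single i0 c, 0, 0⟩, ⟨0, Pi.single i0 1, 0⟩, ?_⟩
  rw [comm_eq]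
  simp

def equivProd : Heis p n ≃ (Fin n → ZMod p) × (Fin n → ZMod p) × ZMod p where
  toFun x := (x.a, x.b, x.c)
  invFun t := ⟨t.1, t.2.1, t.2.2⟩
  left_inv _ := rfl
  right_inv _ := rfl

instance [NeZero p] : Finite (Heis p n) := Finite.of_equiv _ equivProd.symm

theorem card_eq [NeZero p] : Nat.card (Heis p n) = p ^ (1 + 2 * n) := by
  rw [Nat.card_congr equivProd, Nat.card_prod, Nat.card_prod, Nat.card_eq_fintype_card,
    Nat.card_eq_fintype_card, Fintype.card_fun, ZMod.card, Fintype.card_fin]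
  ring

theorem isExtraspecial [Fact p.Prime] (hp : p ≠ 2) (hn : 1 ≤ n) :
    Cfsg.IsExtraspecial p (Heis p n) := by
  haveI : NeZero p := ⟨(Fact.out : p.Prime).ne_zero⟩
  have hP : IsPGroup p (Heis p n) := fun x => ⟨1, by rw [pow_one]; exact pow_p hp x⟩
  have hcomm : ∀ x y : Heis p n, x * y * x⁻¹ * y⁻¹ ∈ Subgroup.center (Heis p n) := by
    intro x y; rw [comm_eq]; exact zc_mem_center _
  refine ⟨⟨hP, ?_, ?_⟩, ?_⟩
  · apply le_antisymm
    · apply Cfsg.Agent.Lib.Helper4_Frattini.frattini_le_of_elementary_quotient (p := p)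
      · intro x y
        rw [commutatorElement_def]; exact hcomm x y
      · intro x
        rw [pow_p hp x]; exact Subgroup.one_mem _
    · intro x hx
      rw [eq_zc_of_mem_center hx]
      obtain ⟨u, v, huv⟩ := zc_eq_comm hn x.c
      rw [huv]
      exact Cfsg.Agent.Lib.Helper7_PFrattini.comm_mem_frattini hP u v
  · apply le_antisymm
    · rw [commutator_def, Subgroup.commutator_le]
      intro x _ y _
      rw [commutatorElement_def]; exact hcomm x y
    · intro x hx
      rw [eq_zc_of_mem_center hx]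
      obtain ⟨u, v, huv⟩ := zc_eq_comm hn x.c
      rw [huv, commutator_def, ← commutatorElement_def]
      exact Subgroup.commutator_mem_commutator (Subgroup.mem_top _) (Subgroup.mem_top _)
  · have e : Subgroup.center (Heis p n) ≃ ZMod p :=
      { toFun := fun x => (x : Heis p n).c
        invFun := fun c => ⟨zc c, zc_mem_center c⟩
        left_inv := fun x => Subtype.ext (eq_zc_of_mem_center x.2).symm
        right_inv := fun c => rfl }
    rw [Nat.card_congr e, Nat.card_eq_fintype_card, ZMod.card]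

end Heis

end Cfsg.Agent.Lib.Helper5_Heis
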