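import Mathlib
import Cfsg.Agent.Lib.Helper5_Heis

set_option autoImplicit false

namespace Cfsg.Agent.Lib.Helper5_Heis2

open Matrix Cfsg.Agent.Lib.Helper5_Heis

section transport

variable {G H : Type*} [Group G] [Group H]

theorem mem_center_equiv (e : G ≃* H) (y : H) :
    y ∈ Subgroup.center H ↔ e.symm y ∈ Subgroup.center G := by
  rw [Subgroup.mem_center_iff, Subgroup.mem_center_iff]
  constructor
  · intro h g
    have := h (e g)
    apply e.injective
    rw [map_mul, map_mul, e.apply_symm_apply]
    exact this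
  · intro h g
    have := h (e.symm g)
    apply e.symm.injective
    rw [map_mul, map_mul]
    exact this

theorem map_frattini (e : G ≃* H) : (frattini G).map e.toMonoidHom = frattini H := by
  apply le_antisymm
  · rw [Subgroup.map_le_iff_le_comap]
    exact frattini_le_comap_frattini_of_surjective (φ := e.toMonoidHom) e.surjective
  · intro y hy
    rw [Subgroup.mem_map_equiv]
    have := frattini_le_comap_frattini_of_surjective (φ := e.symm.toMonoidHom) e.symm.surjective hy
    exact this

theorem map_center (e : G ≃* H) : (Subgroup.center G).map e.toMonoidHom = Subgroup.center H := by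
  ext y
  rw [Subgroup.mem_map_equiv, mem_center_equiv e]

theorem map_commutator (e : G ≃* H) : (commutator G).map e.toMonoidHom = commutator H := by
  rw [commutator_def, commutator_def, Subgroup.map_commutator,
    Subgroup.map_top_of_surjective e.toMonoidHom e.surjective]

theorem isExtraspecial_of_equiv {p : ℕ} (e : G ≃* H) (h : Cfsg.IsExtraspecial p G) :
    Cfsg.IsExtraspecial p H := by
  obtain ⟨⟨hP, hfr, hco⟩, hc⟩ := h
  refine ⟨⟨hP.of_equiv e, ?_, ?_⟩, ?_⟩
  · rw [← map_frattini e, hfr, map_center]
  · rw [← map_commutator e, hco, map_center]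
  · rw [← hc]
    refine Nat.card_congr (Equiv.symm ?_)
    exact
      { toFun := fun x => ⟨e x, (mem_center_equiv e _).mpr (by rw [e.symm_apply_apply]; exact x.2)⟩
        invFun := fun y => ⟨e.symm y, (mem_center_equiv e _).mp y.2⟩
        left_inv := fun x => Subtype.ext (e.symm_apply_apply _)
        right_inv := fun y => Subtype.ext (e.apply_symm_apply _) }

end transport

section rep

variable {p n : ℕ}

abbrev V (p n : ℕ) := ZMod p × (Fin n → ZMod p) × ZMod p

/-- the linear action of the Heisenberg group -/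
def rhoLin (h : Heis p n) : V p n →ₗ[ZMod p] V p n where
  toFun v := (v.1 + h.a ⬝ᵥ v.2.1 + h.c * v.2.2, v.2.1 + v.2.2 • h.b, v.2.2)
  map_add' v w := by
    refine Prod.ext ?_ (Prod.ext ?_ ?_)
    · simp only [Prod.fst_add, Prod.snd_add, dotProduct_add]; ring
    · simp only [Prod.fst_add, Prod.snd_add, add_smul]; abel
    · simp
  map_smul' r v := by
    refine Prod.ext ?_ (Prod.ext ?_ ?_)
    · simp only [Prod.smul_fst, Prod.smul_snd, dotProduct_smul, smul_eq_mul, RingHom.id_apply]; ring
    · simp only [Prod.smul_fst, Prod.smul_snd, smul_eq_mul, RingHom.id_apply, smul_add, mul_smul]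
    · simp

theorem rhoLin_apply (h : Heis p n) (v : V p n) :
    rhoLin h v = (v.1 + h.a ⬝ᵥ v.2.1 + h.c * v.2.2, v.2.1 + v.2.2 • h.b, v.2.2) := rfl

def rho : Heis p n →* Module.End (ZMod p) (V p n) where
  toFun := rhoLin
  map_one' := by
    apply LinearMap.ext
    intro v
    refine Prod.ext ?_ (Prod.ext ?_ ?_)
    · simp [rhoLin_apply]
    · simp [rhoLin_apply]
    · simp [rhoLin_apply]
  map_mul' x y := by
    apply LinearMap.ext
    intro v
    rw [Module.End.mul_apply]
    refine Prod.ext ?_ (Prod.ext ?_ ?_)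
    · simp only [rhoLin_apply, Heis.mul_a, Heis.mul_c, add_dotProduct, dotProduct_add,
        dotProduct_smul, smul_eq_mul]
      ring
    · simp only [rhoLin_apply, Heis.mul_b, smul_add]; abel
    · simp [rhoLin_apply]

theorem rho_inj : Function.Injective (rho : Heis p n →* Module.End (ZMod p) (V p n)) := by
  classical
  intro x y hxy
  have hv : ∀ v, rhoLin x v = rhoLin y v := fun v => LinearMap.congr_fun hxy v
  have h1 := hv (0, 0, 1)
  simp only [rhoLin_apply, Prod.mk.injEq] at h1
  obtain ⟨hc, hb, -⟩ := h1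
  ext1
  · ext i
    have h2 := hv (0, Pi.single i 1, 0)
    simp only [rhoLin_apply, Prod.mk.injEq] at h2
    have := h2.1
    simpa using this
  · simpa using hb
  · simpa using hc

theorem finrank_V [Fact p.Prime] : Module.finrank (ZMod p) (V p n) = n + 2 := by
  rw [Module.finrank_prod, Module.finrank_prod, Module.finrank_self, Module.finrank_fin_fun]
  ring

noncomputable def eV [Fact p.Prime] : V p n ≃ₗ[ZMod p] (Fin (n + 2) → ZMod p) :=
  LinearEquiv.ofFinrankEq _ _ (by rw [finrank_V, Module.finrank_fin_fun])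

noncomputable def iota [Fact p.Prime] : Heis p n →* GL (Fin (n + 2)) (ZMod p) :=
  (Matrix.GeneralLinearGroup.toLin.symm.toMonoidHom).comp
    ((LinearMap.GeneralLinearGroup.congrLinearEquiv eV).toMonoidHom.comp rho.toHomUnits)

theorem iota_inj [Fact p.Prime] : Function.Injective (iota : Heis p n →* GL (Fin (n + 2)) (ZMod p)) := by
  unfold iota
  simp only [MonoidHom.coe_comp]
  refine (MulEquiv.injective _).comp ((MulEquiv.injective _).comp ?_)
  intro x y hxy
  apply rho_inj
  have := congrArg Units.val hxy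
  simpa using this

theorem main (p : ℕ) [Fact p.Prime] (hp : p ≠ 2) (n : ℕ) (hn : 1 ≤ n) :
    ∃ E : Subgroup (Matrix.GeneralLinearGroup (Fin (n + 2)) (ZMod p)),
      Cfsg.IsExtraspecial p ↥E ∧ Nat.card E = p ^ (1 + 2 * n) ∧ ∀ x ∈ E, x ^ p = 1 := by
  haveI : NeZero p := ⟨(Fact.out : p.Prime).ne_zero⟩
  let e : Heis p n ≃* (iota : Heis p n →* GL (Fin (n + 2)) (ZMod p)).range :=
    MonoidHom.ofInjective iota_inj
  refine ⟨iota.range, isExtraspecial_of_equiv e (Heis.isExtraspecial hp hn), ?_, ?_⟩
  · rw [← Nat.card_congr e.toEquiv, Heis.card_eq]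
  · rintro x ⟨h, rfl⟩
    rw [← map_pow, Heis.pow_p hp, map_one]

end rep

end Cfsg.Agent.Lib.Helper5_Heis2
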