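import Mathlib

set_option autoImplicit false

/-! Subgroups `⟨r c, sr 0⟩` of Mathlib's `DihedralGroup n` and elementary facts. -/

namespace Cfsg.Agent.Lib.Helper6_Dihedral

open DihedralGroup

/-- the subgroup `{r (c t), sr (c t)}` of the dihedral group -/
def dSub (n : ℕ) (c : ZMod n) : Subgroup (DihedralGroup n) where
  carrier := {g | ∃ t : ZMod n, g = r (c * t) ∨ g = sr (c * t)}
  one_mem' := ⟨0, Or.inl (by rw [mul_zero, r_zero])⟩
  mul_mem' := by
    rintro a b ⟨t, rfl | rfl⟩ ⟨t', rfl | rfl⟩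
    · exact ⟨t + t', Or.inl (by rw [r_mul_r, mul_add])⟩
    · exact ⟨t' - t, Or.inr (by rw [r_mul_sr, mul_sub])⟩
    · exact ⟨t + t', Or.inr (by rw [sr_mul_r, mul_add])⟩
    · exact ⟨t' - t, Or.inl (by rw [sr_mul_sr, mul_sub])⟩
  inv_mem' := by
    rintro a ⟨t, rfl | rfl⟩
    · exact ⟨-t, Or.inl (by rw [inv_r, mul_neg])⟩
    · exact ⟨t, Or.inr (by rw [inv_sr])⟩

theorem r_mem_dSub {n : ℕ} {c x : ZMod n} : r x ∈ dSub n c ↔ ∃ t : ZMod n, x = c * t := by
  constructor
  · rintro ⟨t, h | h⟩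
    · exact ⟨t, r.inj h⟩
    · exact absurd h (by simp)
  · rintro ⟨t, rfl⟩
    exact ⟨t, Or.inl rfl⟩

theorem sr_mem_dSub {n : ℕ} {c x : ZMod n} : sr x ∈ dSub n c ↔ ∃ t : ZMod n, x = c * t := by
  constructor
  · rintro ⟨t, h | h⟩
    · exact absurd h (by simp)
    · exact ⟨t, sr.inj h⟩
  · rintro ⟨t, rfl⟩
    exact ⟨t, Or.inr rfl⟩

/-- a subgroup consisting of rotations is commutative -/
theorem comm_of_rotations {n : ℕ} (H : Subgroup (DihedralGroup n))
    (h : ∀ g ∈ H, ∃ i : ZMod n, g = r i) : ∀ a ∈ H, ∀ b ∈ H, a * b = b * a := by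
  intro a ha b hb
  obtain ⟨i, rfl⟩ := h a ha
  obtain ⟨j, rfl⟩ := h b hb
  rw [r_mul_r, r_mul_r, add_comm]

/-- a subgroup not consisting of rotations contains a reflection -/
theorem exists_sr_of_not_rotations {n : ℕ} (H : Subgroup (DihedralGroup n))
    (h : ¬ ∀ g ∈ H, ∃ i : ZMod n, g = r i) : ∃ i : ZMod n, sr i ∈ H := by
  push Not at h
  obtain ⟨g, hg, hgr⟩ := h
  cases g with
  | r i => exact absurd rfl (hgr i)
  | sr i => exact ⟨i, hg⟩

/-- in `ZMod n` with `n` odd, `2 k = 0` forces `k = 0` -/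
theorem eq_zero_of_two_mul {n : ℕ} (hn : Odd n) (k : ZMod n) (h : 2 * k = 0) : k = 0 := by
  have hu : IsUnit ((2 : ℕ) : ZMod n) := by
    rw [ZMod.isUnit_iff_coprime]
    exact Nat.coprime_two_left.mpr hn
  have h' : ((2 : ℕ) : ZMod n) * k = 0 := by simpa using h
  exact (hu.mul_right_eq_zero).mp h'

/-- in `ZMod n`, the nonzero solutions of `2 k = 0` coincide -/
theorem eq_of_two_mul_eq_zero {n : ℕ} [NeZero n] (k k' : ZMod n) (hk : 2 * k = 0) (hk0 : k ≠ 0)
    (hk' : 2 * k' = 0) (hk0' : k' ≠ 0) : k = k' := by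
  have key : ∀ x : ZMod n, 2 * x = 0 → x ≠ 0 → 2 * x.val = n := by
    intro x hx hx0
    have h1 : ((2 * x.val : ℕ) : ZMod n) = 0 := by
      push_cast
      rw [ZMod.natCast_zmod_val, hx]
    rw [ZMod.natCast_eq_zero_iff] at h1
    obtain ⟨q, hq⟩ := h1
    have hlt : x.val < n := ZMod.val_lt x
    have hpos : 0 < x.val := by
      rcases Nat.eq_zero_or_pos x.val with h | h
      · exact absurd ((ZMod.val_eq_zero x).mp h) hx0
      · exact h
    have hq1 : q = 1 := by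
      have hnpos : 0 < n := Nat.pos_of_ne_zero (NeZero.ne n)
      rcases Nat.lt_or_ge q 1 with h | h
      · interval_cases q; omega
      · rcases Nat.lt_or_ge q 2 with h' | h'
        · omega
        · have : n * 2 ≤ n * q := Nat.mul_le_mul_left n h'
          omega
    rw [hq, hq1, mul_one]
  have h1 := key k hk hk0
  have h2 := key k' hk' hk0'
  apply ZMod.val_injective
  omega

end Cfsg.Agent.Lib.Helper6_Dihedral
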