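import Mathlib
import Cfsg.Prelude.Def_LocalEven
import Cfsg.Agent.Lib.Helper8_Involves
import Cfsg.Agent.Lib.Helper5_DihLift
import Cfsg.Agent.Lib.Helper5_Sylow
import Cfsg.Agent.Lib.Helper6_Dihedral

set_option autoImplicit false
open Cfsg

namespace Cfsg.Agent.Lib.Helper5_InvDih

/-- A `2`-element normalizing but not centralizing a `p`-subgroup yields a `2`-element inverting a
nontrivial `p`-element. -/
theorem exists_inverted {G : Type*} [Group G] {p : ℕ} [Fact p.Prime] (x : G) (P : Subgroup G)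
    (hx : ∃ k : ℕ, orderOf x = 2 ^ k) (hP : IsPGroup p P)
    (hxN : x ∈ Subgroup.normalizer (P : Set G)) (hxC : x ∉ Subgroup.centralizer (P : Set G)) :
    ∃ t y : G, (∃ k : ℕ, orderOf t = 2 ^ k) ∧ (∃ k : ℕ, orderOf y = p ^ k) ∧ y ≠ 1 ∧
      t * y * t⁻¹ = y⁻¹ := by
  classical
  obtain ⟨k, hk⟩ := hx
  have hex : ∃ j : ℕ, x ^ (2 ^ j) ∈ Subgroup.centralizer (P : Set G) :=
    ⟨k, by rw [← hk, pow_orderOf_eq_one]; exact Subgroup.one_mem _⟩
  have hj0 : Nat.find hex ≠ 0 := by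
    intro h0
    have := Nat.find_spec hex
    rw [h0, pow_zero, pow_one] at this
    exact hxC this
  obtain ⟨j, hj⟩ := Nat.exists_eq_succ_of_ne_zero hj0
  have htC : x ^ (2 ^ j) ∉ Subgroup.centralizer (P : Set G) := Nat.find_min hex (by omega)
  have htt : x ^ (2 ^ j) * x ^ (2 ^ j) ∈ Subgroup.centralizer (P : Set G) := by
    have := Nat.find_spec hex
    rw [hj, Nat.succ_eq_add_one, pow_succ, pow_mul, pow_two] at this
    exact this
  have htN : x ^ (2 ^ j) ∈ Subgroup.normalizer (P : Set G) := Subgroup.pow_mem _ hxN _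
  have hto : ∃ i : ℕ, orderOf (x ^ (2 ^ j)) = 2 ^ i := by
    have h1 : orderOf (x ^ (2 ^ j)) ∣ 2 ^ k := by rw [← hk]; exact orderOf_pow_dvd _
    obtain ⟨i, _, hi⟩ := (Nat.dvd_prime_pow Nat.prime_two).mp h1
    exact ⟨i, hi⟩
  generalize x ^ (2 ^ j) = t at htC htt htN hto
  rw [Subgroup.mem_centralizer_iff] at htC
  push_neg at htC
  obtain ⟨g, hgP, hg⟩ := htC
  have hgP' : g ∈ P := hgP
  have hconj : t * g * t⁻¹ ∈ P := (Subgroup.mem_normalizer_iff.mp htN g).mp hgP'
  refine ⟨t, g⁻¹ * (t * g * t⁻¹), hto, ?_, ?_, ?_⟩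
  · have hyP : g⁻¹ * (t * g * t⁻¹) ∈ P := P.mul_mem (P.inv_mem hgP') hconj
    obtain ⟨i, hi⟩ := (IsPGroup.iff_orderOf.mp hP) ⟨_, hyP⟩
    refine ⟨i, ?_⟩
    rw [← hi, ← Subgroup.orderOf_coe]
  · intro h1
    apply hg
    have : t * g * t⁻¹ = g := by
      have := congrArg (fun z => g * z) h1
      simpa using this
    calc g * t = (t * g * t⁻¹) * t := by rw [this]
      _ = t * g := by group
  · have hc := (Subgroup.mem_centralizer_iff.mp htt) g hgP
    -- hc : g * (t * t) = t * t * g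
    have h2 : t * t * g * t⁻¹ * t⁻¹ = g := by
      rw [← hc]; group
    calc t * (g⁻¹ * (t * g * t⁻¹)) * t⁻¹ = (t * g * t⁻¹)⁻¹ * (t * t * g * t⁻¹ * t⁻¹) := by group
      _ = (t * g * t⁻¹)⁻¹ * g := by rw [h2]
      _ = (g⁻¹ * (t * g * t⁻¹))⁻¹ := by group


/-- A `2`-element inverting a nontrivial `p`-element (`p` odd) gives a dihedral section. -/
theorem involves_dihedral_of_inverting {G : Type*} [Group G] {p : ℕ} [Fact p.Prime] (hp : p ≠ 2)
    (x y : G) (hx : ∃ k : ℕ, orderOf x = 2 ^ k) (hy : ∃ k : ℕ, orderOf y = p ^ k) (hy1 : y ≠ 1)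
    (hxy : x * y * x⁻¹ = y⁻¹) : Cfsg.Involves (DihedralGroup p) G := by
  have hpp : p.Prime := Fact.out
  obtain ⟨k, hk⟩ := hy
  have hk0 : k ≠ 0 := by
    rintro rfl
    rw [pow_zero, orderOf_eq_one_iff] at hk
    exact hy1 hk
  obtain ⟨k', rfl⟩ := Nat.exists_eq_succ_of_ne_zero hk0
  -- y' of order p inverted by x
  have hy'o : orderOf (y ^ (p ^ k')) = p := by
    rw [orderOf_pow_of_dvd (pow_ne_zero _ hpp.ne_zero) (by rw [hk]; exact pow_dvd_pow _ (Nat.le_succ _)),
      hk, Nat.succ_eq_add_one, pow_succ, Nat.mul_div_cancel_left _ (pow_pos hpp.pos _)]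
  have hxy' : x * y ^ (p ^ k') * x⁻¹ = (y ^ (p ^ k'))⁻¹ := by
    rw [← conj_pow, hxy, inv_pow]
  generalize y ^ (p ^ k') = z at hy'o hxy'
  clear hk hxy hy1 hk0
  obtain ⟨kx, hkx⟩ := hx
  have hz1 : z ≠ 1 := by
    rintro rfl
    rw [orderOf_one] at hy'o
    exact hpp.one_lt.ne hy'o
  -- the subgroups
  set K : Subgroup G := Subgroup.closure {z, x} with hK
  set R : Subgroup G := Subgroup.zpowers (x * x) with hR
  have hzK : z ∈ K := Subgroup.subset_closure (by simp)
  have hxK : x ∈ K := Subgroup.subset_closure (by simp)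
  have hxz : x * z⁻¹ = z * x := by
    have : x * z⁻¹ * x⁻¹ = z := by
      have h1 : x * z⁻¹ * x⁻¹ = (x * z * x⁻¹)⁻¹ := by group
      rw [h1, hxy', inv_inv]
    calc x * z⁻¹ = (x * z⁻¹ * x⁻¹) * x := by group
      _ = z * x := by rw [this]
  have hxz' : x * z = z⁻¹ * x := by
    calc x * z = (x * z * x⁻¹) * x := by group
      _ = z⁻¹ * x := by rw [hxy']
  have hKcent : K ≤ Subgroup.centralizer ({x * x} : Set G) := by
    rw [hK, Subgroup.closure_le]
    intro g hg
    rw [SetLike.mem_coe, Subgroup.mem_centralizer_iff]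
    intro h hh
    rw [Set.mem_singleton_iff] at hh
    subst hh
    rcases hg with rfl | hg
    · calc x * x * g = x * (x * g) := by group
        _ = x * (g⁻¹ * x) := by rw [hxz']
        _ = (x * g⁻¹) * x := by group
        _ = g * x * x := by rw [hxz]
        _ = g * (x * x) := by group
    · rw [Set.mem_singleton_iff] at hg
      subst hg
      group
  have hcomm : ∀ g ∈ K, ∀ r ∈ R, g * r * g⁻¹ = r := by
    intro g hg r hr
    obtain ⟨i, rfl⟩ := Subgroup.mem_zpowers_iff.mp hr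
    have h1 := (Subgroup.mem_centralizer_iff.mp (hKcent hg)) (x * x) rfl
    have h2 : Commute g (x * x) := h1.symm
    have h3 : Commute g ((x * x) ^ i) := h2.zpow_right i
    rw [h3.eq]; group
  have hnormal : (R.subgroupOf K).Normal := by
    constructor
    intro n hn g
    rw [Subgroup.mem_subgroupOf] at hn ⊢
    have := hcomm g g.2 n hn
    simp only [Subgroup.coe_mul, Subgroup.coe_inv]
    rw [this]; exact hn
  -- R ≤ zpowers x
  have hRx : R ≤ Subgroup.zpowers x := by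
    rw [hR, Subgroup.zpowers_le]
    exact Subgroup.mul_mem _ (Subgroup.mem_zpowers x) (Subgroup.mem_zpowers x)
  have hcop : ∀ w : G, w ∈ Subgroup.zpowers z → w ∈ Subgroup.zpowers x → w = 1 := by
    intro w hwz hwx
    have h1 : orderOf w ∣ p := by rw [← hy'o]; exact orderOf_dvd_of_mem_zpowers hwz
    have h2 : orderOf w ∣ 2 ^ kx := by rw [← hkx]; exact orderOf_dvd_of_mem_zpowers hwx
    have h3 : Nat.Coprime p (2 ^ kx) := by
      apply Nat.Coprime.pow_right
      rw [Nat.coprime_primes hpp Nat.prime_two]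
      exact hp
    have h4 : orderOf w ∣ Nat.gcd p (2 ^ kx) := Nat.dvd_gcd h1 h2
    rw [h3, Nat.dvd_one, orderOf_eq_one_iff] at h4
    exact h4
  refine ⟨K, R, hnormal, ?_⟩
  haveI := hnormal
  set a : K ⧸ R.subgroupOf K := QuotientGroup.mk (⟨z, hzK⟩ : K) with ha
  set b : K ⧸ R.subgroupOf K := QuotientGroup.mk (⟨x, hxK⟩ : K) with hb
  haveI : NeZero p := ⟨hpp.ne_zero⟩
  have hb2 : b * b = 1 := by
    rw [hb, ← QuotientGroup.mk_mul, QuotientGroup.eq_one_iff, Subgroup.mem_subgroupOf]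
    exact Subgroup.mem_zpowers (x * x)
  have hba : b * a * b⁻¹ = a⁻¹ := by
    rw [ha, hb, ← QuotientGroup.mk_inv, ← QuotientGroup.mk_inv, ← QuotientGroup.mk_mul,
      ← QuotientGroup.mk_mul]
    congr 1
    apply Subtype.ext
    simpa using hxy'
  have ha1 : a ≠ 1 := by
    intro h1
    rw [ha, QuotientGroup.eq_one_iff, Subgroup.mem_subgroupOf] at h1
    exact hz1 (hcop z (Subgroup.mem_zpowers z) (hRx h1))
  have hao : orderOf a = p := by
    apply orderOf_eq_prime _ ha1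
    rw [ha, ← QuotientGroup.mk_pow]
    have : (⟨z, hzK⟩ : K) ^ p = 1 := by
      apply Subtype.ext
      simp only [Subgroup.coe_pow, Subgroup.coe_one]
      rw [← hy'o]; exact pow_orderOf_eq_one z
    rw [this]; rfl
  have hbn : b ∉ Subgroup.zpowers a := by
    intro hmem
    obtain ⟨i, hi⟩ := Subgroup.mem_zpowers_iff.mp hmem
    rw [ha, hb, ← QuotientGroup.mk_zpow] at hi
    have h1 := QuotientGroup.eq.mp hi
    rw [Subgroup.mem_subgroupOf] at h1
    simp only [Subgroup.coe_mul, Subgroup.coe_inv, Subgroup.coe_zpow] at h1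
    -- h1 : (z^i)⁻¹ * x ∈ R
    have h2 : (z ^ i)⁻¹ ∈ Subgroup.zpowers x := by
      have := Subgroup.mul_mem _ (hRx h1) (Subgroup.inv_mem _ (Subgroup.mem_zpowers x))
      simpa using this
    have h3 : (z ^ i)⁻¹ = 1 :=
      hcop _ (Subgroup.inv_mem _ (Subgroup.zpow_mem _ (Subgroup.mem_zpowers z) i)) h2
    rw [h3, one_mul] at h1
    -- x ∈ R so b = 1
    have hb1 : b = 1 := by
      rw [hb, QuotientGroup.eq_one_iff, Subgroup.mem_subgroupOf]
      exact h1
    rw [hb1] at hba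
    have haa : a ^ 2 = 1 := by
      have : a = a⁻¹ := by simpa using hba
      rw [pow_two]
      nth_rewrite 1 [this]
      exact inv_mul_cancel a
    have h4 : p ∣ 2 := by rw [← hao]; exact orderOf_dvd_of_pow_eq_one haa
    exact hp ((Nat.prime_dvd_prime_iff_eq hpp Nat.prime_two).mp h4)
  have hgen : Subgroup.closure {a, b} = (⊤ : Subgroup (K ⧸ R.subgroupOf K)) := by
    rw [eq_top_iff]
    intro q hq
    clear hq
    obtain ⟨g, rfl⟩ := QuotientGroup.mk_surjective q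
    obtain ⟨g, hg⟩ := g
    induction hg using Subgroup.closure_induction with
    | mem g hg =>
      apply Subgroup.subset_closure
      rcases hg with rfl | hg
      · left; rfl
      · rw [Set.mem_singleton_iff] at hg
        subst hg
        right; rfl
    | one => exact Subgroup.one_mem _
    | mul g h hg hh ihg ihh =>
      have : (QuotientGroup.mk (⟨g * h, K.mul_mem hg hh⟩ : K) : K ⧸ R.subgroupOf K)
          = QuotientGroup.mk (⟨g, hg⟩ : K) * QuotientGroup.mk (⟨h, hh⟩ : K) := rfl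
      rw [this]
      exact Subgroup.mul_mem _ ihg ihh
    | inv g hg ihg =>
      have : (QuotientGroup.mk (⟨g⁻¹, K.inv_mem hg⟩ : K) : K ⧸ R.subgroupOf K)
          = (QuotientGroup.mk (⟨g, hg⟩ : K))⁻¹ := rfl
      rw [this]
      exact Subgroup.inv_mem _ ihg
  exact Helper5_DihLift.dihedral_equiv_of_closure p a b hao hbn hb2 hba hgen


/-- The rotation subgroup of a dihedral group. -/
def rot (n : ℕ) : Subgroup (DihedralGroup n) where
  carrier := {g | ∃ i, g = DihedralGroup.r i}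
  one_mem' := ⟨0, rfl⟩
  mul_mem' := by
    rintro _ _ ⟨i, rfl⟩ ⟨j, rfl⟩
    exact ⟨i + j, DihedralGroup.r_mul_r i j⟩
  inv_mem' := by
    rintro _ ⟨i, rfl⟩
    exact ⟨-i, DihedralGroup.inv_r i⟩

theorem mem_rot {n : ℕ} {g : DihedralGroup n} : g ∈ rot n ↔ ∃ i, g = DihedralGroup.r i := Iff.rfl

instance rot_normal (n : ℕ) : (rot n).Normal := by
  constructor
  rintro _ ⟨i, rfl⟩ (j | j)
  · refine ⟨i, ?_⟩
    rw [DihedralGroup.inv_r, DihedralGroup.r_mul_r, DihedralGroup.r_mul_r]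
    congr 1; ring
  · refine ⟨-i, ?_⟩
    rw [DihedralGroup.inv_sr, DihedralGroup.sr_mul_r, DihedralGroup.sr_mul_sr]
    congr 1; ring

theorem sr_not_mem_rot {n : ℕ} (i : ZMod n) : DihedralGroup.sr i ∉ rot n := by
  rintro ⟨j, hj⟩
  cases hj

theorem exists_normalizing_of_surjective {G : Type*} [Group G] [Finite G] {p : ℕ} [Fact p.Prime]
    (hp : p ≠ 2) (f : G →* DihedralGroup p) (hf : Function.Surjective f) :
    ∃ (x : G) (P : Subgroup G), (∃ k : ℕ, orderOf x = 2 ^ k) ∧ IsPGroup p P ∧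
      x ∈ Subgroup.normalizer (P : Set G) ∧ x ∉ Subgroup.centralizer (P : Set G) := by
  have hpp : p.Prime := Fact.out
  have hodd : Odd p := hpp.eq_two_or_odd'.resolve_left hp
  set M : Subgroup G := (rot p).comap f with hM
  haveI : M.Normal := Subgroup.Normal.comap inferInstance f
  obtain ⟨P⟩ : Nonempty (Sylow p M) := inferInstance
  have hfr := Sylow.normalizer_sup_eq_top P
  obtain ⟨a, ha⟩ := hf (DihedralGroup.sr 0)
  have ha' : a ∈ ((Subgroup.normalizer (((P : Subgroup M).map M.subtype : Subgroup G) : Set G) ⊔ M :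
      Subgroup G) : Set G) := by
    rw [hfr]; trivial
  rw [Subgroup.mul_normal] at ha'
  obtain ⟨n, hn, m, hm, hnm⟩ := Set.mem_mul.mp ha'
  have hfn : f n ∉ rot p := by
    intro h
    have : f a ∈ rot p := by
      rw [← hnm, map_mul]
      exact Subgroup.mul_mem _ h hm
    rw [ha] at this
    exact sr_not_mem_rot _ this
  obtain ⟨i, hi⟩ : ∃ i, f n = DihedralGroup.sr i := by
    rcases hfn' : f n with j | j
    · exact absurd ⟨j, hfn'⟩ hfn
    · exact ⟨j, rfl⟩
  obtain ⟨k, m', hm'odd, hkm⟩ := Nat.exists_eq_two_pow_mul_odd (orderOf_pos n).ne'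
  have hm'0 : m' ≠ 0 := by
    rintro rfl
    exact (Nat.not_odd_iff_even.mpr (by decide)) hm'odd
  have hxo : orderOf (n ^ m') = 2 ^ k := by
    rw [orderOf_pow_of_dvd hm'0 (by rw [hkm]; exact Dvd.intro_left _ rfl), hkm,
      Nat.mul_div_cancel _ (Nat.pos_of_ne_zero hm'0)]
  have hfx : f (n ^ m') = DihedralGroup.sr i := by
    obtain ⟨q, rfl⟩ := hm'odd
    rw [map_pow, hi, pow_succ, pow_mul, pow_two, DihedralGroup.sr_mul_self, one_pow, one_mul]
  have hxN : n ^ m' ∈ Subgroup.normalizer (((P : Subgroup M).map M.subtype : Subgroup G) : Set G) :=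
    Subgroup.pow_mem _ hn _
  refine ⟨n ^ m', (P : Subgroup M).map M.subtype, ⟨k, hxo⟩, P.2.map _, hxN, ?_⟩
  intro hxC
  -- find an element of P not killed by f
  obtain ⟨b, hb⟩ := hf (DihedralGroup.r 1)
  obtain ⟨e, m'', hm''dvd, hbo⟩ := Nat.exists_eq_pow_mul_and_not_dvd (orderOf_pos b).ne' p hpp.ne_one
  have hm''0 : m'' ≠ 0 := by
    rintro rfl
    exact hm''dvd (dvd_zero p)
  have hb'o : orderOf (b ^ m'') = p ^ e := by
    rw [orderOf_pow_of_dvd hm''0 (by rw [hbo]; exact Dvd.intro_left _ rfl), hbo,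
      Nat.mul_div_cancel _ (Nat.pos_of_ne_zero hm''0)]
  have hfb' : f (b ^ m'') = DihedralGroup.r (m'' : ZMod p) := by
    rw [map_pow, hb, DihedralGroup.r_one_pow]
  have hb'M : b ^ m'' ∈ M := by
    rw [hM, Subgroup.mem_comap, hfb']
    exact ⟨_, rfl⟩
  have hfb'1 : f (b ^ m'') ≠ 1 := by
    rw [hfb', DihedralGroup.one_def]
    intro h
    have h0 : (m'' : ZMod p) = 0 := by
      injection h
    rw [ZMod.natCast_eq_zero_iff] at h0
    exact hm''dvd h0
  have hRp : IsPGroup p (Subgroup.zpowers (⟨b ^ m'', hb'M⟩ : M)) := by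
    apply IsPGroup.of_card (n := e)
    rw [Nat.card_zpowers, ← hb'o, ← Subgroup.orderOf_coe]
  obtain ⟨h, hh⟩ := Helper5_Sylow.exists_conj_le_sylow hRp P
  have hgP : h * (⟨b ^ m'', hb'M⟩ : M) * h⁻¹ ∈ (P : Subgroup M) :=
    hh ⟨_, Subgroup.mem_zpowers _, rfl⟩
  have hgPG : ((h * (⟨b ^ m'', hb'M⟩ : M) * h⁻¹ : M) : G) ∈ (P : Subgroup M).map M.subtype :=
    ⟨_, hgP, rfl⟩
  have hgM : ((h * (⟨b ^ m'', hb'M⟩ : M) * h⁻¹ : M) : G) ∈ M := (h * (⟨b ^ m'', hb'M⟩ : M) * h⁻¹).2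
  obtain ⟨j, hj⟩ : ∃ j, f ((h * (⟨b ^ m'', hb'M⟩ : M) * h⁻¹ : M) : G) = DihedralGroup.r j := hgM
  have hj0 : j ≠ 0 := by
    rintro rfl
    have h1 : f ((h * (⟨b ^ m'', hb'M⟩ : M) * h⁻¹ : M) : G) = 1 := hj
    simp only [Subgroup.coe_mul, Subgroup.coe_inv, map_mul, map_inv] at h1
    apply hfb'1
    have h2 := congrArg (fun z => (f (h : G))⁻¹ * z * f (h : G)) h1
    simpa [mul_assoc] using h2
  have hc := (Subgroup.mem_centralizer_iff.mp hxC) _ hgPG
  have hc' := congrArg f hc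
  rw [map_mul, map_mul, hj, hfx, DihedralGroup.r_mul_sr, DihedralGroup.sr_mul_r] at hc'
  have h3 : i - j = i + j := by injection hc'
  have h4 : 2 * j = 0 := by
    have : i + j - (i - j) = 0 := by rw [h3]; ring
    rw [← this]; ring
  exact hj0 (Helper6_Dihedral.eq_zero_of_two_mul hodd j h4)

end Cfsg.Agent.Lib.Helper5_InvDih
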