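import Mathlib
import Cfsg.Prelude.Def_LocalEven
import Cfsg.Agent.Lib.Helper5_InvDih
import Cfsg.Agent.Lib.Lead_Coprime

set_option autoImplicit false
open Cfsg

namespace Cfsg.Agent.Lib.Helper5_InvDih2

open Cfsg.Agent.Lib.Helper5_InvDih

/-- Strong form of the Frattini step for a surjection onto `D_p`. -/
theorem exists_normalizing_strong {G : Type*} [Group G] [Finite G] {p : ℕ} [Fact p.Prime]
    (f : G →* DihedralGroup p) (hf : Function.Surjective f) :
    ∃ (x : G) (P : Subgroup G) (i : ZMod p) (g : G) (j : ZMod p), (∃ k : ℕ, orderOf x = 2 ^ k) ∧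
      IsPGroup p P ∧ x ∈ Subgroup.normalizer (P : Set G) ∧ f x = DihedralGroup.sr i ∧ g ∈ P ∧
      f g = DihedralGroup.r j ∧ j ≠ 0 := by
  have hpp : p.Prime := Fact.out
  set M : Subgroup G := (rot p).comap f with hM
  haveI : M.Normal := Subgroup.Normal.comap inferInstance f
  obtain ⟨P⟩ : Nonempty (Sylow p M) := inferInstance
  have hfr := Sylow.normalizer_sup_eq_top P
  obtain ⟨a, ha⟩ := hf (DihedralGroup.sr 0)
  have ha' : a ∈ ((Subgroup.normalizer (((P : Subgroup M).map M.subtype : Subgroup G) : Set G) ⊔ M :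
      Subgroup G) : Set G) := by
    rw [hfr]; trivial
  rw [Subgroup.mul_normal] at ha'
  obtain ⟨n, hn, m, hm, hnm⟩ := Set.mem_mul.mp ha'
  have hfn : f n ∉ rot p := by
    intro h
    have : f a ∈ rot p := by
      rw [← hnm, map_mul]
      exact Subgroup.mul_mem _ h hm
    rw [ha] at this
    exact sr_not_mem_rot _ this
  obtain ⟨i, hi⟩ : ∃ i, f n = DihedralGroup.sr i := by
    rcases hfn' : f n with j | j
    · exact absurd ⟨j, hfn'⟩ hfn
    · exact ⟨j, rfl⟩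
  obtain ⟨k, m', hm'odd, hkm⟩ := Nat.exists_eq_two_pow_mul_odd (orderOf_pos n).ne'
  have hm'0 : m' ≠ 0 := by
    rintro rfl
    exact (Nat.not_odd_iff_even.mpr (by decide)) hm'odd
  have hxo : orderOf (n ^ m') = 2 ^ k := by
    rw [orderOf_pow_of_dvd hm'0 (by rw [hkm]; exact Dvd.intro_left _ rfl), hkm,
      Nat.mul_div_cancel _ (Nat.pos_of_ne_zero hm'0)]
  have hfx : f (n ^ m') = DihedralGroup.sr i := by
    obtain ⟨q, rfl⟩ := hm'odd
    rw [map_pow, hi, pow_succ, pow_mul, pow_two, DihedralGroup.sr_mul_self, one_pow, one_mul]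
  have hxN : n ^ m' ∈ Subgroup.normalizer (((P : Subgroup M).map M.subtype : Subgroup G) : Set G) :=
    Subgroup.pow_mem _ hn _
  -- find an element of P not killed by f
  obtain ⟨b, hb⟩ := hf (DihedralGroup.r 1)
  obtain ⟨e, m'', hm''dvd, hbo⟩ := Nat.exists_eq_pow_mul_and_not_dvd (orderOf_pos b).ne' p hpp.ne_one
  have hm''0 : m'' ≠ 0 := by
    rintro rfl
    exact hm''dvd (dvd_zero p)
  have hb'o : orderOf (b ^ m'') = p ^ e := by
    rw [orderOf_pow_of_dvd hm''0 (by rw [hbo]; exact Dvd.intro_left _ rfl), hbo,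
      Nat.mul_div_cancel _ (Nat.pos_of_ne_zero hm''0)]
  have hfb' : f (b ^ m'') = DihedralGroup.r (m'' : ZMod p) := by
    rw [map_pow, hb, DihedralGroup.r_one_pow]
  have hb'M : b ^ m'' ∈ M := by
    rw [hM, Subgroup.mem_comap, hfb']
    exact ⟨_, rfl⟩
  have hfb'1 : f (b ^ m'') ≠ 1 := by
    rw [hfb', DihedralGroup.one_def]
    intro h
    have h0 : (m'' : ZMod p) = 0 := by
      injection h
    rw [ZMod.natCast_eq_zero_iff] at h0
    exact hm''dvd h0
  have hRp : IsPGroup p (Subgroup.zpowers (⟨b ^ m'', hb'M⟩ : M)) := by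
    apply IsPGroup.of_card (n := e)
    rw [Nat.card_zpowers, ← hb'o, ← Subgroup.orderOf_coe]
  obtain ⟨h, hh⟩ := Helper5_Sylow.exists_conj_le_sylow hRp P
  have hgP : h * (⟨b ^ m'', hb'M⟩ : M) * h⁻¹ ∈ (P : Subgroup M) :=
    hh ⟨_, Subgroup.mem_zpowers _, rfl⟩
  have hgPG : ((h * (⟨b ^ m'', hb'M⟩ : M) * h⁻¹ : M) : G) ∈ (P : Subgroup M).map M.subtype :=
    ⟨_, hgP, rfl⟩
  have hgM : ((h * (⟨b ^ m'', hb'M⟩ : M) * h⁻¹ : M) : G) ∈ M := (h * (⟨b ^ m'', hb'M⟩ : M) * h⁻¹).2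
  obtain ⟨j, hj⟩ : ∃ j, f ((h * (⟨b ^ m'', hb'M⟩ : M) * h⁻¹ : M) : G) = DihedralGroup.r j := hgM
  have hj0 : j ≠ 0 := by
    rintro rfl
    have h1 : f ((h * (⟨b ^ m'', hb'M⟩ : M) * h⁻¹ : M) : G) = 1 := hj
    simp only [Subgroup.coe_mul, Subgroup.coe_inv, map_mul, map_inv] at h1
    apply hfb'1
    have h2 := congrArg (fun z => (f (h : G))⁻¹ * z * f (h : G)) h1
    simpa [mul_assoc] using h2
  exact ⟨n ^ m', (P : Subgroup M).map M.subtype, i, _, j, ⟨k, hxo⟩, P.2.map _, hxN, hfx, hgPG, hj, hj0⟩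

/-- Exact inversion: a surjection of a finite group onto `D_p` (`p` odd) yields a `2`-element `x`
and a `p`-element `y` with `x y x⁻¹ = y⁻¹` and `f y ≠ 1`. -/
theorem exists_exact_inversion {G : Type*} [Group G] [Finite G] {p : ℕ} [Fact p.Prime]
    (hp : p ≠ 2) (f : G →* DihedralGroup p) (hf : Function.Surjective f) :
    ∃ x y : G, (∃ k : ℕ, orderOf x = 2 ^ k) ∧ (∃ k : ℕ, orderOf y = p ^ k) ∧
      x * y * x⁻¹ = y⁻¹ ∧ f y ≠ 1 := by
  have hpp : p.Prime := Fact.out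
  have hodd : Odd p := hpp.eq_two_or_odd'.resolve_left hp
  obtain ⟨x, P, i, g, j, ⟨k, hk⟩, hP, hxN, hfx, hgP, hfg, hj0⟩ := exists_normalizing_strong f hf
  -- the subgroup A = ⟨x²⟩ acts on D = P ⊓ ker f
  set A : Subgroup G := Subgroup.zpowers (x * x) with hA
  set D : Subgroup G := P ⊓ f.ker with hD
  have hxxN : x * x ∈ Subgroup.normalizer (P : Set G) := Subgroup.mul_mem _ hxN hxN
  have hAN : A ≤ Subgroup.normalizer (P : Set G) := by
    rw [hA, Subgroup.zpowers_le]; exact hxxN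
  have hfxx : f (x * x) = 1 := by
    rw [map_mul, hfx, DihedralGroup.sr_mul_self]
  have hfA : ∀ a ∈ A, f a = 1 := by
    intro a ha
    obtain ⟨n, rfl⟩ := Subgroup.mem_zpowers_iff.mp ha
    rw [map_zpow, hfxx, one_zpow]
  have hAD : A ≤ Subgroup.normalizer (D : Set G) := by
    intro a ha
    rw [Subgroup.mem_normalizer_iff]
    intro d
    have haN := Subgroup.mem_normalizer_iff.mp (hAN ha) d
    rw [hD, Subgroup.mem_inf, Subgroup.mem_inf]
    constructor
    · rintro ⟨h1, h2⟩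
      refine ⟨haN.mp h1, ?_⟩
      rw [MonoidHom.mem_ker] at h2 ⊢
      rw [map_mul, map_mul, h2, map_inv, hfA a ha]; simp
    · rintro ⟨h1, h2⟩
      refine ⟨haN.mpr h1, ?_⟩
      rw [MonoidHom.mem_ker] at h2 ⊢
      rw [map_mul, map_mul, map_inv, hfA a ha] at h2
      simpa using h2
  have hAcard : ∃ n : ℕ, Nat.card A = 2 ^ n := by
    have h1 : Nat.card A = orderOf (x * x) := Nat.card_zpowers _
    have h2 : orderOf (x * x) ∣ 2 ^ k := by
      rw [← hk, ← pow_two]; exact orderOf_pow_dvd 2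
    obtain ⟨n, _, hn⟩ := (Nat.dvd_prime_pow Nat.prime_two).mp h2
    exact ⟨n, by rw [h1, hn]⟩
  have hDcard : ∃ n : ℕ, Nat.card D = p ^ n :=
    (IsPGroup.iff_card).mp (hP.to_le inf_le_left)
  have hcop : (Nat.card A).Coprime (Nat.card D) := by
    obtain ⟨n, hn⟩ := hAcard
    obtain ⟨n', hn'⟩ := hDcard
    rw [hn, hn']
    apply Nat.Coprime.pow
    rw [Nat.coprime_primes Nat.prime_two hpp]
    exact fun h => hp h.symm
  have hsolv : Group.IsSolvable A ∨ Group.IsSolvable D := by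
    left
    haveI : IsCyclic A := by rw [hA]; infer_instance
    letI : CommGroup A := IsCyclic.commGroup
    infer_instance
  have hgx : ∀ a ∈ A, g⁻¹ * a * g * a⁻¹ ∈ D := by
    intro a ha
    rw [hD, Subgroup.mem_inf]
    constructor
    · have h1 : a * g * a⁻¹ ∈ P := (Subgroup.mem_normalizer_iff.mp (hAN ha) g).mp hgP
      have e : g⁻¹ * a * g * a⁻¹ = g⁻¹ * (a * g * a⁻¹) := by group
      rw [e]
      exact P.mul_mem (P.inv_mem hgP) h1
    · rw [MonoidHom.mem_ker, map_mul, map_mul, map_mul, map_inv, map_inv, hfA a ha]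
      simp
  obtain ⟨d, hd, hgd⟩ := Lead_Coprime.lemmaC D A hAD hcop hsolv g hgx
  rw [hD, Subgroup.mem_inf] at hd
  have hg'P : g * d ∈ P := P.mul_mem hgP hd.1
  have hfg' : f (g * d) = DihedralGroup.r j := by
    rw [map_mul, hfg, MonoidHom.mem_ker.mp hd.2, mul_one]
  have hcomm : (x * x) * (g * d) = (g * d) * (x * x) :=
    ((Subgroup.mem_centralizer_iff.mp hgd) (x * x) (Subgroup.mem_zpowers _))
  generalize g * d = g' at hg'P hfg' hcomm
  have hxg'P : x * g' * x⁻¹ ∈ P := (Subgroup.mem_normalizer_iff.mp hxN g').mp hg'P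
  refine ⟨x, g' * (x * g' * x⁻¹)⁻¹, ⟨k, hk⟩, ?_, ?_, ?_⟩
  · have hyP : g' * (x * g' * x⁻¹)⁻¹ ∈ P := P.mul_mem hg'P (P.inv_mem hxg'P)
    obtain ⟨n, hn⟩ := (IsPGroup.iff_orderOf.mp hP) ⟨_, hyP⟩
    exact ⟨n, by rw [← hn, ← Subgroup.orderOf_coe]⟩
  · have h2 : x * x * g' * x⁻¹ * x⁻¹ = g' := by
      have : x * x * g' = g' * (x * x) := by
        rw [← hcomm]
      calc x * x * g' * x⁻¹ * x⁻¹ = (x * x * g') * x⁻¹ * x⁻¹ := by group
        _ = g' * (x * x) * x⁻¹ * x⁻¹ := by rw [this]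
        _ = g' := by group
    calc x * (g' * (x * g' * x⁻¹)⁻¹) * x⁻¹ = (x * g' * x⁻¹) * (x * x * g' * x⁻¹ * x⁻¹)⁻¹ := by group
      _ = (x * g' * x⁻¹) * g'⁻¹ := by rw [h2]
      _ = (g' * (x * g' * x⁻¹)⁻¹)⁻¹ := by group
  · rw [map_mul, map_inv, map_mul, map_mul, map_inv, hfg', hfx, DihedralGroup.inv_sr,
      DihedralGroup.sr_mul_r, DihedralGroup.sr_mul_sr, DihedralGroup.inv_r, DihedralGroup.r_mul_r,
      DihedralGroup.one_def]
    intro h
    have h0 : j + -(i - (i + j)) = 0 := by injection h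
    have h4 : 2 * j = 0 := by rw [← h0]; ring
    exact hj0 (Helper6_Dihedral.eq_zero_of_two_mul hodd j h4)

end Cfsg.Agent.Lib.Helper5_InvDih2
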