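import Mathlib

set_option autoImplicit false

namespace Cfsg.Agent.Lib.Helper5_JComp

open scoped commutatorElement

variable {G : Type*} [Group G]

theorem normalizes_of_comm_gen (K J Q : Subgroup G)
    (hgen : Subgroup.closure {g : G | g ∈ K ∧ Odd (orderOf g)} = K) (hKJ : ⁅K, J⁆ = K)
    (hJ2 : ∀ j ∈ J, ∃ a : ℕ, j ^ (2 ^ a) = 1)
    (hQ1 : K ⊔ J ≤ Subgroup.normalizer (Q : Set G))
    (hQ2 : Q ≤ Subgroup.normalizer (J : Set G)) :
    Q ≤ Subgroup.normalizer (K : Set G) := by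
  -- Step A: J normalizes K
  have hJK : ∀ j ∈ J, ∀ k ∈ K, j * k * j⁻¹ ∈ K := by
    intro j hj k hk
    have h1 : ⁅j, k⁆ ∈ ⁅J, K⁆ := Subgroup.commutator_mem_commutator hj hk
    rw [Subgroup.commutator_comm, hKJ] at h1
    have : j * k * j⁻¹ = ⁅j, k⁆ * k := by rw [commutatorElement_def]; group
    rw [this]
    exact K.mul_mem h1 hk
  -- decomposition of K ⊔ J
  have hdec : ∀ x ∈ K ⊔ J, ∃ k ∈ K, ∃ j ∈ J, x = k * j := by
    intro x hx
    rw [Subgroup.sup_eq_closure] at hx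
    induction hx using Subgroup.closure_induction with
    | mem x hx =>
      rcases hx with hx | hx
      · exact ⟨x, hx, 1, J.one_mem, (mul_one x).symm⟩
      · exact ⟨1, K.one_mem, x, hx, (one_mul x).symm⟩
    | one => exact ⟨1, K.one_mem, 1, J.one_mem, (mul_one 1).symm⟩
    | mul x y _ _ hx hy =>
      obtain ⟨k₁, hk₁, j₁, hj₁, rfl⟩ := hx
      obtain ⟨k₂, hk₂, j₂, hj₂, rfl⟩ := hy
      refine ⟨k₁ * (j₁ * k₂ * j₁⁻¹), K.mul_mem hk₁ (hJK j₁ hj₁ k₂ hk₂), j₁ * j₂,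
        J.mul_mem hj₁ hj₂, by group⟩
    | inv x _ hx =>
      obtain ⟨k, hk, j, hj, rfl⟩ := hx
      refine ⟨j⁻¹ * k⁻¹ * j⁻¹⁻¹, hJK j⁻¹ (J.inv_mem hj) k⁻¹ (K.inv_mem hk), j⁻¹, J.inv_mem hj, by group⟩
  -- Step B: odd order elements of K ⊔ J are in K
  have hodd : ∀ x ∈ K ⊔ J, Odd (orderOf x) → x ∈ K := by
    intro x hx hox
    obtain ⟨k, hk, j, hj, rfl⟩ := hdec x hx
    have hpow : ∀ m : ℕ, ∃ k' ∈ K, (k * j) ^ m = k' * j ^ m := by
      intro m
      induction m with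
      | zero => exact ⟨1, K.one_mem, by simp⟩
      | succ m ih =>
        obtain ⟨k', hk', h⟩ := ih
        refine ⟨k' * (j ^ m * k * (j ^ m)⁻¹), K.mul_mem hk' (hJK _ (J.pow_mem hj m) k hk), ?_⟩
        rw [pow_succ, h, pow_succ]; group
    obtain ⟨a, ha⟩ := hJ2 j hj
    obtain ⟨k', hk', h⟩ := hpow (2 ^ a)
    rw [ha, mul_one] at h
    have hcop : (2 ^ a).Coprime (orderOf (k * j)) := by
      apply Nat.Coprime.pow_left
      rw [Nat.coprime_two_left]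
      exact hox
    obtain ⟨u, hu⟩ := exists_pow_eq_self_of_coprime hcop
    rw [← hu, h]
    exact K.pow_mem hk' u
  -- Step C
  have hX : ∀ q ∈ Q, ∀ k ∈ K, q * k * q⁻¹ ∈ K ⊔ J := by
    intro q hq k hk
    rw [← hKJ, Subgroup.commutator_def] at hk
    induction hk using Subgroup.closure_induction with
    | mem g hg =>
      obtain ⟨k', hk', j', hj', rfl⟩ := hg
      have hk'N : k'⁻¹ ∈ Subgroup.normalizer (Q : Set G) :=
        (Subgroup.normalizer (Q : Set G)).inv_mem (hQ1 (Subgroup.mem_sup_left hk'))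
      have hq' : k'⁻¹ * q * k'⁻¹⁻¹ ∈ Q := (Subgroup.mem_set_normalizer_iff.1 hk'N q).1 hq
      have hqJ : ∀ q₀ ∈ Q, ∀ j₀ ∈ J, q₀ * j₀ * q₀⁻¹ ∈ J := fun q₀ hq₀ j₀ hj₀ =>
        (Subgroup.mem_set_normalizer_iff.1 (hQ2 hq₀) j₀).1 hj₀
      have h1 := hqJ _ hq' j' hj'
      have h2 := hqJ q hq j'⁻¹ (J.inv_mem hj')
      have e : q * ⁅k', j'⁆ * q⁻¹ =
          k' * ((k'⁻¹ * q * k'⁻¹⁻¹) * j' * (k'⁻¹ * q * k'⁻¹⁻¹)⁻¹) * k'⁻¹ * (q * j'⁻¹ * q⁻¹) := by
        rw [commutatorElement_def]; group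
      rw [e]
      exact (K ⊔ J).mul_mem ((K ⊔ J).mul_mem ((K ⊔ J).mul_mem (Subgroup.mem_sup_left hk')
        (Subgroup.mem_sup_right h1)) (Subgroup.mem_sup_left (K.inv_mem hk')))
        (Subgroup.mem_sup_right h2)
    | one => simp
    | mul x y _ _ hx hy =>
      have : q * (x * y) * q⁻¹ = (q * x * q⁻¹) * (q * y * q⁻¹) := by group
      rw [this]; exact (K ⊔ J).mul_mem hx hy
    | inv x _ hx =>
      have : q * x⁻¹ * q⁻¹ = (q * x * q⁻¹)⁻¹ := by group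
      rw [this]; exact (K ⊔ J).inv_mem hx
  -- Step D
  have hD : ∀ q ∈ Q, ∀ k ∈ K, q * k * q⁻¹ ∈ K := by
    intro q hq k hk
    rw [← hgen] at hk
    induction hk using Subgroup.closure_induction with
    | mem g hg =>
      apply hodd _ (hX q hq g hg.1)
      have := (MulAut.conj q).orderOf_eq g
      rw [MulAut.conj_apply] at this
      rw [this]; exact hg.2
    | one => simp
    | mul x y _ _ hx hy =>
      have : q * (x * y) * q⁻¹ = (q * x * q⁻¹) * (q * y * q⁻¹) := by group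
      rw [this]; exact K.mul_mem hx hy
    | inv x _ hx =>
      have : q * x⁻¹ * q⁻¹ = (q * x * q⁻¹)⁻¹ := by group
      rw [this]; exact K.inv_mem hx
  intro q hq
  rw [Subgroup.mem_set_normalizer_iff]
  intro h
  constructor
  · exact hD q hq h
  · intro hh
    have := hD q⁻¹ (Q.inv_mem hq) _ hh
    have e : q⁻¹ * (q * h * q⁻¹) * q⁻¹⁻¹ = h := by group
    rwa [e] at this

end Cfsg.Agent.Lib.Helper5_JComp
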