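import Mathlib
import Cfsg.Agent.Lib.Helper5_Jordan

set_option autoImplicit false

namespace Cfsg.Agent.Lib.Helper5_Jordan2

open MulAction SubMulAction Cfsg.Agent.Lib.Helper5_RegNormal Cfsg.Agent.Lib.Helper5_Sharp2
  Cfsg.Agent.Lib.Helper5_Jordan
open scoped Pointwise

universe u v

variable {G : Type u} {X : Type v} [Group G] [MulAction G X]

theorem normal_transitive' [FaithfulSMul G X] [IsPreprimitive G X]
    (N : Subgroup G) [N.Normal] (hN : N ≠ ⊥) : IsPretransitive N X := by
  apply IsQuasiPreprimitive.isPretransitive_of_normal (G := G) (X := X)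
  intro hfix
  apply hN
  rw [eq_bot_iff]
  intro n hn
  rw [Subgroup.mem_bot]
  apply FaithfulSMul.eq_of_smul_eq_smul (α := X)
  intro x
  have hx : x ∈ fixedPoints N X := by rw [hfix]; exact Set.mem_univ _
  rw [one_smul]
  exact hx ⟨n, hn⟩

theorem surj_of_full_trans [Finite X]
    (h : IsMultiplyPretransitive G X (Nat.card X - 1)) :
    Function.Surjective (toPermHom G X) := by
  have hR : IsMultiplyPretransitive (toPermHom G X).range X (Nat.card X - 1) := by
    rw [isMultiplyPretransitive_iff]
    intro x y
    obtain ⟨g, hg⟩ := h.exists_smul_eq x y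
    refine ⟨⟨toPermHom G X g, MonoidHom.mem_range.2 ⟨g, rfl⟩⟩, ?_⟩
    ext i
    have := congrArg (fun e : Fin (Nat.card X - 1) ↪ X => e i) hg
    exact this
  have := Equiv.Perm.eq_top_of_isMultiplyPretransitive hR
  exact MonoidHom.range_eq_top.1 this

theorem trans_of_surj [Finite X] (hs : Function.Surjective (toPermHom G X)) (m : ℕ) :
    IsMultiplyPretransitive G X m := by
  rw [isMultiplyPretransitive_iff]
  intro x y
  obtain ⟨σ, hσ⟩ := (Equiv.Perm.isMultiplyPretransitive X m).exists_smul_eq x y
  obtain ⟨g, rfl⟩ := hs σ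
  refine ⟨g, ?_⟩
  ext i
  have := congrArg (fun e : Fin m ↪ X => e i) hσ
  exact this

theorem sharp_normal_kernel [Finite X] [FaithfulSMul G X] (hcard : 2 ≤ Nat.card X)
    (N : Subgroup G) [N.Normal] [IsPretransitive N X] (a : X)
    (htransY : IsPretransitive (N.subgroupOf (stabilizer G a)) (ofStabilizer G a))
    (hregY : ∀ y : ofStabilizer G a, stabilizer (N.subgroupOf (stabilizer G a)) y = ⊥) :
    ∃ K : Subgroup G, K.Normal ∧ IsPretransitive K X ∧ ∀ x : X, stabilizer K x = ⊥ := by
  classical
  haveI := Fintype.ofFinite X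
  haveI : Finite G := Finite.of_injective (MulAction.toPermHom G X) MulAction.toPerm_injective
  have hcard' : 2 ≤ Fintype.card X := by rwa [Nat.card_eq_fintype_card] at hcard
  have h2N : IsMultiplyPretransitive N X 2 :=
    transfer N a 1 (is_one_pretransitive_iff.2 htransY)
  have hS : Sharp2 N X := by
    refine ⟨fun hab hcd => (is_two_pretransitive_iff.1 h2N) hab hcd, ?_⟩
    intro n x y hxy hx hy
    obtain ⟨m, hm⟩ := exists_smul_eq N a x
    have hfa : (m⁻¹ * n * m) • a = a := by
      rw [mul_smul, mul_smul, hm, hx, ← hm, inv_smul_smul]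
    have hya : m⁻¹ • y ≠ a := by
      intro h
      apply hxy
      rw [← hm, ← h, smul_inv_smul]
    have hfy : (m⁻¹ * n * m) • (m⁻¹ • y) = m⁻¹ • y := by
      rw [mul_smul, mul_smul, smul_inv_smul, hy]
    have hfa' : ((m⁻¹ * n * m : N) : G) • a = a := hfa
    have hmem : (⟨((m⁻¹ * n * m : N) : G), hfa'⟩ : stabilizer G a) ∈
        N.subgroupOf (stabilizer G a) := Subgroup.mem_subgroupOf.2 (m⁻¹ * n * m).2
    have hst : (⟨⟨((m⁻¹ * n * m : N) : G), hfa'⟩, hmem⟩ : N.subgroupOf (stabilizer G a)) ∈
        stabilizer (N.subgroupOf (stabilizer G a)) (⟨m⁻¹ • y, hya⟩ : ofStabilizer G a) := by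
      rw [mem_stabilizer_iff]
      apply Subtype.ext
      exact hfy
    rw [hregY, Subgroup.mem_bot] at hst
    have h1 : ((m⁻¹ * n * m : N) : G) = 1 :=
      congrArg (fun t : N.subgroupOf (stabilizer G a) => ((t : stabilizer G a) : G)) hst
    have h2 : m⁻¹ * n * m = 1 := Subtype.ext h1
    have : n = m * (m⁻¹ * n * m) * m⁻¹ := by group
    rw [this, h2]; group
  obtain ⟨p, j, hp, hj, hcardpj, hP⟩ := hS.main' (by omega)
  haveI : Fact p.Prime := ⟨hp⟩
  obtain ⟨P⟩ : Nonempty (Sylow p N) := inferInstance
  obtain ⟨hPn, -, -, hPt, hPs, hPmem⟩ := hP ⟨hp⟩ P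
  haveI hKn : ((P : Subgroup N).map N.subtype).Normal := by
    constructor
    intro k hk g
    obtain ⟨n, hnP, rfl⟩ := Subgroup.mem_map.1 hk
    have hgn : g * (n : G) * g⁻¹ ∈ N := Subgroup.Normal.conj_mem inferInstance (n : G) n.2 g
    refine Subgroup.mem_map.2 ⟨⟨g * (n : G) * g⁻¹, hgn⟩, ?_, rfl⟩
    rw [hPmem] at hnP ⊢
    rcases hnP with h1 | h1
    · left
      apply Subtype.ext
      show g * (n : G) * g⁻¹ = 1
      rw [h1]; simp
    · right
      intro x hx
      apply h1 (g⁻¹ • x)
      have hx' : (g * (n : G) * g⁻¹) • x = x := hx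
      show (n : G) • (g⁻¹ • x) = g⁻¹ • x
      rw [mul_smul, mul_smul] at hx'
      have h2 : g⁻¹ • (g • (n : G) • g⁻¹ • x) = g⁻¹ • x := by rw [hx']
      rw [inv_smul_smul] at h2
      exact h2
  have hKt : IsPretransitive ((P : Subgroup N).map N.subtype) X := by
    constructor
    intro x y
    obtain ⟨n, hn⟩ := hPt.exists_smul_eq x y
    exact ⟨⟨((n : N) : G), Subgroup.mem_map.2 ⟨(n : N), n.2, rfl⟩⟩, hn⟩
  have hKs : ∀ x : X, stabilizer ((P : Subgroup N).map N.subtype) x = ⊥ := by
    intro x
    rw [eq_bot_iff]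
    intro k hk
    rw [Subgroup.mem_bot]
    obtain ⟨n, hnP, hnk⟩ := Subgroup.mem_map.1 k.2
    have hkx : (k : G) • x = x := hk
    have h1 : (⟨n, hnP⟩ : (P : Subgroup N)) ∈ stabilizer (P : Subgroup N) x := by
      rw [mem_stabilizer_iff]
      show (n : G) • x = x
      have : (n : G) = (k : G) := hnk
      rw [this]; exact hkx
    rw [hPs x, Subgroup.mem_bot] at h1
    have h2 : n = 1 := congrArg Subtype.val h1
    apply Subtype.ext
    rw [← hnk, h2]
    rfl
  exact ⟨_, hKn, hKt, hKs⟩


theorem enat_le [Finite X] {m : ℕ} (h : m ≤ Nat.card X) : (m : ℕ∞) ≤ ENat.card X := by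
  haveI := Fintype.ofFinite X
  rw [ENat.card_eq_coe_fintype_card, ← Nat.card_eq_fintype_card]
  exact_mod_cast h

theorem wielandt_aux (k : ℕ) : ∀ (G : Type u) (X : Type v) [Group G] [MulAction G X] [Finite X]
    [FaithfulSMul G X], 1 ≤ k → k ≤ Nat.card X → IsMultiplyPreprimitive G X k →
    ¬ Function.Surjective (toPermHom G X) →
    ∀ (H : Subgroup G) [H.Normal], (∃ a : X, stabilizer H a ≠ ⊥) →
    IsMultiplyPretransitive H X k := by
  induction k with
  | zero => intro G X _ _ _ _ h; omega
  | succ k ih =>
    intro G X _ _ _ _ hk hcard hG hns H _ hnr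
    obtain ⟨a, ha⟩ := hnr
    have hH : H ≠ ⊥ := by
      intro h
      apply ha
      rw [eq_bot_iff]
      intro m _
      rw [Subgroup.mem_bot]
      have h1 : (m : G) ∈ H := m.2
      have h2 : (m : G) ∈ (⊥ : Subgroup G) := h ▸ h1
      exact Subtype.ext (Subgroup.mem_bot.1 h2)
    have hprim1 : IsMultiplyPreprimitive G X 1 :=
      isMultiplyPreprimitive_of_le (M := G) (α := X) hG (by omega) (enat_le hcard)
    haveI : IsPreprimitive G X := (is_one_preprimitive_iff G X).1 hprim1
    haveI hHt : IsPretransitive H X := normal_transitive' H hH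
    rcases Nat.eq_zero_or_pos k with hk0 | hkpos
    · subst hk0
      exact is_one_pretransitive_iff.2 hHt
    · haveI := faithful_ofStabilizer (G := G) a
      haveI : IsMultiplyPreprimitive G X (Nat.succ k) := hG
      have hA : IsMultiplyPreprimitive (stabilizer G a) (ofStabilizer G a) k :=
        isMultiplyPreprimitive_ofStabilizer (M := G) (α := X)
      have hcardY : Nat.card (ofStabilizer G a) = Nat.card X - 1 := nat_card_ofStabilizer_eq G a
      have hnsA : ¬ Function.Surjective (toPermHom (stabilizer G a) (ofStabilizer G a)) := by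
        intro hs
        apply hns
        apply surj_of_full_trans
        have h1 := trans_of_surj hs (Nat.card X - 1)
        have h2 : IsMultiplyPretransitive G X (Nat.card X - 1 + 1) :=
          ofStabilizer.isMultiplyPretransitive.2 h1
        exact isMultiplyPretransitive_of_le (G := G) (α := X) (n := Nat.card X - 1 + 1)
          (by omega) (by omega)
      have hH' : H.subgroupOf (stabilizer G a) ≠ ⊥ := by
        intro h
        exact ha (stab_bot_of_subgroupOf_bot H a h)
      by_cases hreg : ∃ y : ofStabilizer G a, stabilizer (H.subgroupOf (stabilizer G a)) y ≠ ⊥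
      · have := ih (stabilizer G a) (ofStabilizer G a) hkpos (by omega) hA hnsA
          (H.subgroupOf (stabilizer G a)) hreg
        exact transfer H a k this
      · push Not at hreg
        have hA1 : IsMultiplyPreprimitive (stabilizer G a) (ofStabilizer G a) 1 :=
          isMultiplyPreprimitive_of_le (M := stabilizer G a) (α := ofStabilizer G a) hA hkpos
            (enat_le (by omega))
        haveI : IsPreprimitive (stabilizer G a) (ofStabilizer G a) :=
          (is_one_preprimitive_iff _ _).1 hA1
        have htY := normal_transitive' (G := stabilizer G a) (X := ofStabilizer G a)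
          (H.subgroupOf (stabilizer G a)) hH'
        rcases Nat.lt_or_ge k 2 with hk1 | hk2
        · have hk' : k = 1 := by omega
          subst hk'
          exact transfer H a 1 (is_one_pretransitive_iff.2 htY)
        · exfalso
          obtain ⟨K, hKn, hKt, hKs⟩ := sharp_normal_kernel (by omega) H a htY hreg
          haveI := Fintype.ofFinite X
          have h3 : IsMultiplyPreprimitive G X 3 :=
            isMultiplyPreprimitive_of_le (M := G) (α := X) hG (by omega) (enat_le hcard)
          have hcard3 : 3 ≤ Fintype.card X := by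
            rw [← Nat.card_eq_fintype_card]; omega
          have hc := regular_normal_three_prim hcard3 h3 K hKt hKs
          rw [← Nat.card_eq_fintype_card] at hc
          apply hns
          apply surj_of_full_trans
          haveI h3t : IsMultiplyPretransitive G X 3 := h3.isMultiplyPretransitive
          rcases hc with hc | hc
          · exact isMultiplyPretransitive_of_le (G := G) (α := X) (n := 3) (by omega) (by omega)
          · exact isMultiplyPretransitive_of_le (G := G) (α := X) (n := 3) (by omega) (by omega)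

end Cfsg.Agent.Lib.Helper5_Jordan2
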