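import Mathlib
import Cfsg.Prelude.Def_SporadicCombinatorics
import Cfsg.Agent.Lib.Helper1_Golay
import Cfsg.Agent.Lib.Helper1_Golay2
set_option autoImplicit false
open Cfsg
open Cfsg.Agent.Lib.Helper1_Golay
namespace Cfsg.Agent.Lib.Helper5_LeechMin

local notation "𝒢" => supports (golayCode : Set (GolayPt → ZMod 2))

/-! ### general lemmas -/

theorem exists_of_sum_one {ι : Type*} [Fintype ι] [DecidableEq ι] (t : ι → ℤ) (h0 : ∀ i, 0 ≤ t i)
    (h1 : ∑ i, t i = 1) : ∃ j, t j = 1 ∧ ∀ i, i ≠ j → t i = 0 := by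
  have hex : ∃ j, t j ≠ 0 := by
    by_contra hc
    push Not at hc
    rw [Finset.sum_eq_zero fun i _ => hc i] at h1
    exact absurd h1 (by norm_num)
  obtain ⟨j, hj⟩ := hex
  have hsplit : ∑ i, t i = t j + ∑ i ∈ Finset.univ.erase j, t i := by
    rw [Finset.add_sum_erase _ _ (Finset.mem_univ j)]
  have hrest : 0 ≤ ∑ i ∈ Finset.univ.erase j, t i := Finset.sum_nonneg fun i _ => h0 i
  have hj1 : t j = 1 := by have := h0 j; omega
  have hr0 : ∑ i ∈ Finset.univ.erase j, t i = 0 := by omega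
  refine ⟨j, hj1, fun i hi => ?_⟩
  exact (Finset.sum_eq_zero_iff_of_nonneg fun i _ => h0 i).mp hr0 i
    (Finset.mem_erase.mpr ⟨hi, Finset.mem_univ i⟩)

theorem all_zero_of_sum_zero {ι : Type*} [Fintype ι] (t : ι → ℤ) (h0 : ∀ i, 0 ≤ t i)
    (h1 : ∑ i, t i = 0) : ∀ i, t i = 0 := fun i =>
  (Finset.sum_eq_zero_iff_of_nonneg fun i _ => h0 i).mp h1 i (Finset.mem_univ i)

theorem odd_sq (a : ℤ) (h : a % 2 = 1) : a ^ 2 = 8 * (a ^ 2 / 8) + 1 := by
  have h8 : a % 8 = 1 ∨ a % 8 = 3 ∨ a % 8 = 5 ∨ a % 8 = 7 := by omega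
  have : a ^ 2 % 8 = 1 := by
    rw [pow_two, Int.mul_emod]
    rcases h8 with h | h | h | h <;> rw [h] <;> norm_num
  omega

theorem sq_div8_zero (a : ℤ) (h : a % 2 = 1) (h0 : a ^ 2 / 8 = 0) : a = 1 ∨ a = -1 := by
  have h1 := odd_sq a h
  rw [h0] at h1
  have h2 : -2 ≤ a := by nlinarith
  have h3 : a ≤ 2 := by nlinarith
  omega

theorem sq_div8_one (a : ℤ) (h : a % 2 = 1) (h0 : a ^ 2 / 8 = 1) : a = 3 ∨ a = -3 := by
  have h1 := odd_sq a h
  rw [h0] at h1
  have h2 : -3 ≤ a := by nlinarith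
  have h3 : a ≤ 3 := by nlinarith
  have h4 : a ≠ 1 := by rintro rfl; norm_num at h1
  have h5 : a ≠ -1 := by rintro rfl; norm_num at h1
  omega

/-- number of even-size subsets -/
theorem card_even_subsets (O : Finset GolayPt) (hO : O.Nonempty) :
    (O.powerset.filter fun T => Even T.card).card * 2 = 2 ^ O.card := by
  have h1 := Finset.sum_powerset_neg_one_pow_card_of_nonempty hO
  have h2 : ∑ m ∈ O.powerset, (-1 : ℤ) ^ m.card =
      ((O.powerset.filter fun T => Even T.card).card : ℤ) -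
        ((O.powerset.filter fun T => ¬ Even T.card).card : ℤ) := by
    rw [← Finset.sum_filter_add_sum_filter_not O.powerset (fun T => Even T.card)]
    have he : ∑ m ∈ O.powerset.filter (fun T => Even T.card), (-1 : ℤ) ^ m.card =
        ((O.powerset.filter fun T => Even T.card).card : ℤ) := by
      rw [Finset.sum_congr rfl (g := fun _ => (1 : ℤ)) (fun T hT => by
        rw [Finset.mem_filter] at hT; exact hT.2.neg_one_pow)]
      simp
    have ho : ∑ m ∈ O.powerset.filter (fun T => ¬ Even T.card), (-1 : ℤ) ^ m.card =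
        -((O.powerset.filter fun T => ¬ Even T.card).card : ℤ) := by
      rw [Finset.sum_congr rfl (g := fun _ => (-1 : ℤ)) (fun T hT => by
        rw [Finset.mem_filter] at hT
        exact (Nat.not_even_iff_odd.mp hT.2).neg_one_pow)]
      simp
    rw [he, ho]
    ring
  have h3 := Finset.card_filter_add_card_filter_not (s := O.powerset) (fun T => Even T.card)
  rw [Finset.card_powerset] at h3
  rw [h2] at h1
  have h4 : ((O.powerset.filter fun T => Even T.card).card : ℤ) =
      ((O.powerset.filter fun T => ¬ Even T.card).card : ℤ) := by linarith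
  have h5 : (O.powerset.filter fun T => Even T.card).card =
      (O.powerset.filter fun T => ¬ Even T.card).card := by exact_mod_cast h4
  omega

/-! ### the three families -/

/-- the set of minimal vectors -/
def Mset : Set (GolayPt → ℤ) := {x | x ∈ leechLattice ∧ sqNorm x = 32}

theorem mem_Mset (x : GolayPt → ℤ) : x ∈ Mset ↔
    (∃ m : ℤ, (∀ i, x i % 2 = m % 2) ∧ ((∑ i, x i) % 8 = (4 * m) % 8) ∧ resSet x m ∈ 𝒢) ∧
      ∑ i, x i ^ 2 = 32 := by
  unfold Mset
  rw [Set.mem_ofPred_eq, mem_leechLattice_iff, mem_leechSet_iff]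
  rfl

theorem card_univ_pt : (Finset.univ : Finset GolayPt).card = 24 := by decide

theorem sum_pt (j : GolayPt) : ∑ i : GolayPt, (if i = j then (1 : ℤ) else 0) = 1 := by
  rw [Finset.sum_eq_single j] <;> simp +contextual

theorem sum_mem (S : Finset GolayPt) : ∑ i : GolayPt, (if i ∈ S then (1 : ℤ) else 0) = S.card := by
  rw [Finset.sum_boole, Finset.filter_mem_eq_inter, Finset.univ_inter]

/-- sign attached to a word -/
def eps (w : GolayPt → ZMod 2) (i : GolayPt) : ℤ := if w i = 1 then -1 else 1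

theorem eps_eq (w : GolayPt → ZMod 2) (i : GolayPt) :
    eps w i = 1 - 2 * (if i ∈ support₂ w then 1 else 0) := by
  unfold eps
  by_cases h : w i = 1
  · rw [if_pos h, if_pos ((mem_support₂ w i).mpr h)]; norm_num
  · rw [if_neg h, if_neg (fun h' => h ((mem_support₂ w i).mp h'))]; norm_num

theorem sum_eps (w : GolayPt → ZMod 2) : ∑ i, eps w i = 24 - 2 * ((support₂ w).card : ℤ) := by
  simp only [eps_eq]
  rw [Finset.sum_sub_distrib, ← Finset.mul_sum, sum_mem]
  simp [card_univ_pt]

/-- first family: shape (∓3, ±1^23) -/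
def phi1 (p : golayCode × GolayPt) : GolayPt → ℤ :=
  fun i => eps p.1.1 i * (if i = p.2 then -3 else 1)

theorem phi1_cases (p : golayCode × GolayPt) (i : GolayPt) :
    (i = p.2 ∧ ((p.1.1 i = 1 ∧ phi1 p i = 3) ∨ (p.1.1 i ≠ 1 ∧ phi1 p i = -3))) ∨
    (i ≠ p.2 ∧ ((p.1.1 i = 1 ∧ phi1 p i = -1) ∨ (p.1.1 i ≠ 1 ∧ phi1 p i = 1))) := by
  unfold phi1 eps
  by_cases h1 : i = p.2 <;> by_cases h2 : p.1.1 i = 1 <;> simp [h1, h2]
  all_goals (first | (subst h1; simp_all) | skip)

theorem phi1_mem (p : golayCode × GolayPt) : phi1 p ∈ Mset := by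
  rw [mem_Mset]
  obtain ⟨k, hk⟩ := four_dvd_card_support₂ p.1.1 p.1.2
  refine ⟨⟨1, fun i => ?_, ?_, ?_⟩, ?_⟩
  · rcases phi1_cases p i with ⟨_, ⟨_, h⟩ | ⟨_, h⟩⟩ | ⟨_, ⟨_, h⟩ | ⟨_, h⟩⟩ <;> rw [h] <;> norm_num
  · have h1 : ∀ i, phi1 p i = eps p.1.1 i - 4 * (eps p.1.1 p.2 * (if i = p.2 then 1 else 0)) := by
      intro i
      unfold phi1
      by_cases h : i = p.2
      · subst h; simp; ring
      · simp [h]
    simp only [h1]
    rw [Finset.sum_sub_distrib, ← Finset.mul_sum, ← Finset.mul_sum, sum_pt, sum_eps, hk]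
    have : eps p.1.1 p.2 = 1 ∨ eps p.1.1 p.2 = -1 := by
      unfold eps; split_ifs <;> simp
    push_cast
    rcases this with h | h <;> rw [h] <;> omega
  · have : resSet (phi1 p) 1 = (support₂ p.1.1)ᶜ := by
      ext i
      rw [mem_resSet, Finset.mem_compl, mem_support₂]
      rcases phi1_cases p i with ⟨_, ⟨h', h⟩ | ⟨h', h⟩⟩ | ⟨_, ⟨h', h⟩ | ⟨h', h⟩⟩ <;> rw [h] <;>
        simp [h']
    rw [this]
    exact compl_mem ⟨p.1.1, p.1.2, rfl⟩
  · have h1 : ∀ i, phi1 p i ^ 2 = 1 + 8 * (if i = p.2 then 1 else 0) := by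
      intro i
      rcases phi1_cases p i with ⟨h0, ⟨_, h⟩ | ⟨_, h⟩⟩ | ⟨h0, ⟨_, h⟩ | ⟨_, h⟩⟩ <;> rw [h] <;>
        simp [h0]
    simp only [h1]
    rw [Finset.sum_add_distrib, ← Finset.mul_sum, sum_pt]
    simp [card_univ_pt]

theorem phi1_injective : Function.Injective phi1 := by
  rintro ⟨w, j⟩ ⟨w', j'⟩ h
  have hj : j = j' := by
    by_contra hne
    have h1 := congrFun h j
    rcases phi1_cases (w, j) j with ⟨_, ⟨_, e⟩ | ⟨_, e⟩⟩ | ⟨e0, _⟩
    · rcases phi1_cases (w', j') j with ⟨e0', _⟩ | ⟨_, ⟨_, e'⟩ | ⟨_, e'⟩⟩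
      · exact hne e0'
      · rw [e, e'] at h1; norm_num at h1
      · rw [e, e'] at h1; norm_num at h1
    · rcases phi1_cases (w', j') j with ⟨e0', _⟩ | ⟨_, ⟨_, e'⟩ | ⟨_, e'⟩⟩
      · exact hne e0'
      · rw [e, e'] at h1; norm_num at h1
      · rw [e, e'] at h1; norm_num at h1
    · exact e0 rfl
  subst hj
  have hw : w = w' := by
    apply Subtype.ext
    funext i
    have h1 := congrFun h i
    have hz : ∀ a b : ZMod 2, (a = 1 ↔ b = 1) → a = b := by decide
    apply hz
    have hc : ∀ ww : golayCode, (ww.1 i = 1 ↔ phi1 (ww, j) i % 4 = 3) := by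
      intro ww
      rcases phi1_cases (ww, j) i with ⟨_, ⟨c, e⟩ | ⟨c, e⟩⟩ | ⟨_, ⟨c, e⟩ | ⟨c, e⟩⟩
      · rw [e]; exact ⟨fun _ => by norm_num, fun _ => c⟩
      · rw [e]; exact ⟨fun h => absurd h c, fun h => by norm_num at h⟩
      · rw [e]; exact ⟨fun _ => by norm_num, fun _ => c⟩
      · rw [e]; exact ⟨fun h => absurd h c, fun h => by norm_num at h⟩
    rw [hc w, hc w', h1]
  rw [hw]

/-- second family: shape (±2^8, 0^16) -/
def D2 : Type := Σ O : octads, {T : Finset GolayPt // T ⊆ O.1 ∧ Even T.card}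

def phi2 (p : D2) : GolayPt → ℤ :=
  fun i => if i ∈ p.2.1 then -2 else if i ∈ p.1.1 then 2 else 0

theorem phi2_eq (p : D2) (i : GolayPt) :
    phi2 p i = 2 * (if i ∈ p.1.1 then 1 else 0) - 4 * (if i ∈ p.2.1 then 1 else 0) := by
  unfold phi2
  by_cases h1 : i ∈ p.2.1
  · have h2 : i ∈ p.1.1 := p.2.2.1 h1
    simp [h1, h2]
  · by_cases h2 : i ∈ p.1.1 <;> simp [h1, h2]

theorem phi2_mem (p : D2) : phi2 p ∈ Mset := by
  rw [mem_Mset]
  have hO : p.1.1 ∈ 𝒢 ∧ p.1.1.card = 8 := p.1.2
  obtain ⟨k, hk⟩ := p.2.2.2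
  refine ⟨⟨2, fun i => ?_, ?_, ?_⟩, ?_⟩
  · unfold phi2; split_ifs <;> norm_num
  · simp only [phi2_eq]
    rw [Finset.sum_sub_distrib, ← Finset.mul_sum, ← Finset.mul_sum, sum_mem, sum_mem, hO.2, hk]
    push_cast
    omega
  · have : resSet (phi2 p) 2 = p.1.1 := by
      ext i
      rw [mem_resSet]
      unfold phi2
      by_cases h1 : i ∈ p.2.1
      · have h2 : i ∈ p.1.1 := p.2.2.1 h1
        simp [h1, h2]
      · by_cases h2 : i ∈ p.1.1 <;> simp [h1, h2]
    rw [this]; exact hO.1
  · have h1 : ∀ i, phi2 p i ^ 2 = 4 * (if i ∈ p.1.1 then 1 else 0) := by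
      intro i
      unfold phi2
      by_cases h1 : i ∈ p.2.1
      · have h2 : i ∈ p.1.1 := p.2.2.1 h1
        simp [h1, h2]
      · by_cases h2 : i ∈ p.1.1 <;> simp [h1, h2]
    simp only [h1]
    rw [← Finset.mul_sum, sum_mem, hO.2]
    norm_num

theorem phi2_injective : Function.Injective phi2 := by
  rintro ⟨O, T⟩ ⟨O', T'⟩ h
  have hO : O = O' := by
    apply Subtype.ext
    ext i
    have h1 := congrFun h i
    unfold phi2 at h1
    simp only at h1
    by_cases a1 : i ∈ T.1 <;> by_cases a2 : i ∈ O.1 <;> by_cases b1 : i ∈ T'.1 <;>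
      by_cases b2 : i ∈ O'.1 <;> simp [a1, a2, b1, b2] at h1 ⊢
    all_goals (first | exact absurd (T'.2.1 b1) b2 | exact absurd (T.2.1 a1) a2)
  subst hO
  have hT : T = T' := by
    apply Subtype.ext
    ext i
    have h1 := congrFun h i
    unfold phi2 at h1
    simp only at h1
    by_cases a1 : i ∈ T.1 <;> by_cases a2 : i ∈ O.1 <;> by_cases b1 : i ∈ T'.1 <;>
      simp [a1, a2, b1] at h1 ⊢
  rw [hT]

/-- third family: shape (±4^2, 0^22) -/
def D3 : Type := {p : GolayPt × GolayPt // idx p.1 < idx p.2} × Bool × Bool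

def sg (b : Bool) : ℤ := if b then 4 else -4

theorem sg_cases (b : Bool) : sg b = 4 ∨ sg b = -4 := by
  cases b <;> simp [sg]

def phi3 (p : D3) : GolayPt → ℤ :=
  fun i => (if i = p.1.1.1 then sg p.2.1 else 0) + (if i = p.1.1.2 then sg p.2.2 else 0)

theorem D3_ne (p : D3) : p.1.1.1 ≠ p.1.1.2 := by
  intro h
  have := p.1.2
  rw [h] at this
  exact lt_irrefl _ this

theorem phi3_eq (p : D3) (i : GolayPt) :
    phi3 p i = sg p.2.1 * (if i = p.1.1.1 then 1 else 0) + sg p.2.2 * (if i = p.1.1.2 then 1 else 0) := by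
  unfold phi3
  split_ifs <;> simp

theorem phi3_mem (p : D3) : phi3 p ∈ Mset := by
  rw [mem_Mset]
  have hne := D3_ne p
  refine ⟨⟨0, fun i => ?_, ?_, ?_⟩, ?_⟩
  · rw [phi3_eq]
    rcases sg_cases p.2.1 with h | h <;> rcases sg_cases p.2.2 with h' | h' <;> rw [h, h'] <;>
      split_ifs <;> norm_num
  · simp only [phi3_eq]
    rw [Finset.sum_add_distrib, ← Finset.mul_sum, ← Finset.mul_sum, sum_pt, sum_pt]
    rcases sg_cases p.2.1 with h | h <;> rcases sg_cases p.2.2 with h' | h' <;> rw [h, h'] <;>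
      norm_num
  · have : resSet (phi3 p) 0 = Finset.univ := by
      ext i
      rw [mem_resSet, phi3_eq]
      simp only [Finset.mem_univ, iff_true]
      rcases sg_cases p.2.1 with h | h <;> rcases sg_cases p.2.2 with h' | h' <;> rw [h, h'] <;>
        split_ifs <;> norm_num
    rw [this]; exact univ_mem
  · have h1 : ∀ i, phi3 p i ^ 2 =
        16 * (if i = p.1.1.1 then 1 else 0) + 16 * (if i = p.1.1.2 then 1 else 0) := by
      intro i
      rw [phi3_eq]
      by_cases a : i = p.1.1.1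
      · have b : i ≠ p.1.1.2 := fun b => hne (a.symm.trans b)
        rw [if_pos a, if_neg b]
        rcases sg_cases p.2.1 with h | h <;> rw [h] <;> norm_num
      · by_cases b : i = p.1.1.2
        · rw [if_neg a, if_pos b]
          rcases sg_cases p.2.2 with h | h <;> rw [h] <;> norm_num
        · rw [if_neg a, if_neg b]; norm_num
    simp only [h1]
    rw [Finset.sum_add_distrib, ← Finset.mul_sum, ← Finset.mul_sum, sum_pt, sum_pt]
    norm_num

theorem phi3_at1 (p : D3) : phi3 p p.1.1.1 = sg p.2.1 := by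
  unfold phi3
  rw [if_pos rfl, if_neg (D3_ne p)]
  simp

theorem phi3_at2 (p : D3) : phi3 p p.1.1.2 = sg p.2.2 := by
  unfold phi3
  rw [if_neg (Ne.symm (D3_ne p)), if_pos rfl]
  simp

theorem phi3_ne_zero_iff (p : D3) (i : GolayPt) : phi3 p i ≠ 0 ↔ i = p.1.1.1 ∨ i = p.1.1.2 := by
  constructor
  · intro h
    by_contra hc
    push Not at hc
    apply h
    unfold phi3
    rw [if_neg hc.1, if_neg hc.2]
    simp
  · rintro (rfl | rfl)
    · rw [phi3_at1]; rcases sg_cases p.2.1 with h | h <;> rw [h] <;> norm_num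
    · rw [phi3_at2]; rcases sg_cases p.2.2 with h | h <;> rw [h] <;> norm_num

theorem sg_injective : Function.Injective sg := by
  intro a b h
  cases a <;> cases b <;> simp [sg] at h ⊢

theorem phi3_injective : Function.Injective phi3 := by
  intro p q h
  have h1 : ∀ i, (i = p.1.1.1 ∨ i = p.1.1.2) ↔ (i = q.1.1.1 ∨ i = q.1.1.2) := by
    intro i
    rw [← phi3_ne_zero_iff, ← phi3_ne_zero_iff, h]
  have hp := p.1.2
  have hq := q.1.2
  have ha : p.1.1.1 = q.1.1.1 := by
    rcases (h1 p.1.1.1).mp (Or.inl rfl) with e | e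
    · exact e
    · exfalso
      rcases (h1 p.1.1.2).mp (Or.inr rfl) with e' | e'
      · rw [e, e'] at hp; exact lt_asymm hp hq
      · exact D3_ne p (e.trans e'.symm)
  have hb : p.1.1.2 = q.1.1.2 := by
    rcases (h1 p.1.1.2).mp (Or.inr rfl) with e | e
    · exfalso
      exact D3_ne p (ha.trans e.symm)
    · exact e
  have hs : p.2.1 = q.2.1 := by
    apply sg_injective
    rw [← phi3_at1, ← phi3_at1, h, ha]
  have ht : p.2.2 = q.2.2 := by
    apply sg_injective
    rw [← phi3_at2, ← phi3_at2, h, hb]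
  obtain ⟨⟨⟨a, b⟩, hab⟩, s, t⟩ := p
  obtain ⟨⟨⟨a', b'⟩, hab'⟩, s', t'⟩ := q
  simp only at ha hb hs ht
  subst ha hb hs ht
  rfl

/-! ### classification -/

theorem odd_class {x : GolayPt → ℤ} (hx : x ∈ Mset) (hodd : x none % 2 = 1) :
    x ∈ Set.range phi1 := by
  rw [mem_Mset] at hx
  obtain ⟨⟨m, h1, h2, h3⟩, hn⟩ := hx
  have hm : m % 2 = 1 := by rw [← h1 none]; exact hodd
  have hxo : ∀ i, x i % 2 = 1 := fun i => by rw [h1 i, hm]
  -- the unique coordinate ±3
  have hsq : ∀ i, x i ^ 2 = 8 * (x i ^ 2 / 8) + 1 := fun i => odd_sq _ (hxo i)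
  have ht0 : ∀ i, 0 ≤ x i ^ 2 / 8 := fun i => Int.ediv_nonneg (sq_nonneg _) (by norm_num)
  have ht1 : ∑ i, x i ^ 2 / 8 = 1 := by
    have : ∑ i, x i ^ 2 = ∑ i, (8 * (x i ^ 2 / 8) + 1) := Finset.sum_congr rfl fun i _ => hsq i
    rw [hn, Finset.sum_add_distrib, ← Finset.mul_sum] at this
    simp only [Finset.sum_const, card_univ_pt, nsmul_eq_mul] at this
    push_cast at this
    omega
  obtain ⟨j, hj1, hj0⟩ := exists_of_sum_one _ ht0 ht1
  have hxj : x j = 3 ∨ x j = -3 := sq_div8_one _ (hxo j) hj1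
  have hxi : ∀ i, i ≠ j → x i = 1 ∨ x i = -1 := fun i hi => sq_div8_zero _ (hxo i) (hj0 i hi)
  -- the code word
  have hS : resSet x 3 ∈ 𝒢 := by
    have h4 : m % 4 = 1 ∨ m % 4 = 3 := by omega
    rcases h4 with h4 | h4
    · have : resSet x 3 = (resSet x m)ᶜ := by
        ext i
        simp only [mem_resSet, Finset.mem_compl]
        have := hxo i; omega
      rw [this]; exact compl_mem h3
    · have : resSet x 3 = resSet x m := by
        ext i
        simp only [mem_resSet]
        omega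
      rw [this]; exact h3
  obtain ⟨w, hw, hws⟩ := hS
  have hwi : ∀ i, w i = 1 ↔ x i % 4 = 3 := by
    intro i
    rw [← mem_support₂, hws, mem_resSet]
    norm_num
  refine ⟨(⟨w, hw⟩, j), ?_⟩
  funext i
  unfold phi1 eps
  simp only
  by_cases hij : i = j
  · subst hij
    rw [if_pos rfl]
    rcases hxj with h | h
    · rw [if_pos ((hwi i).mpr (by rw [h]; norm_num)), h]; norm_num
    · rw [if_neg (fun hc => by have := (hwi i).mp hc; rw [h] at this; norm_num at this), h]
      norm_num
  · rw [if_neg hij]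
    rcases hxi i hij with h | h
    · rw [if_neg (fun hc => by have := (hwi i).mp hc; rw [h] at this; norm_num at this), h]
      norm_num
    · rw [if_pos ((hwi i).mpr (by rw [h]; norm_num)), h]; norm_num

theorem small_of_sq_le_two (a : ℤ) (h : a ^ 2 ≤ 2) : a = 0 ∨ a = 1 ∨ a = -1 := by
  have h2 : -1 ≤ a := by nlinarith
  have h3 : a ≤ 1 := by nlinarith
  omega

theorem phi3_class {x z : GolayPt → ℤ} (hxz : ∀ i, x i = 4 * z i)
    (hz : ∀ i, z i = 0 ∨ z i = 1 ∨ z i = -1) {a b : GolayPt}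
    (hU : (Finset.univ.filter fun i => z i ≠ 0) = {a, b}) (hlt : idx a < idx b) :
    x ∈ Set.range phi3 := by
  have hab : a ≠ b := by rintro rfl; exact lt_irrefl _ hlt
  have hza : z a ≠ 0 := by
    have : a ∈ (Finset.univ.filter fun i => z i ≠ 0) := by rw [hU]; simp
    exact (Finset.mem_filter.mp this).2
  have hzb : z b ≠ 0 := by
    have : b ∈ (Finset.univ.filter fun i => z i ≠ 0) := by rw [hU]; simp
    exact (Finset.mem_filter.mp this).2
  have hz0 : ∀ i, i ≠ a → i ≠ b → z i = 0 := by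
    intro i h1 h2
    by_contra hne
    have : i ∈ (Finset.univ.filter fun i => z i ≠ 0) := Finset.mem_filter.mpr ⟨Finset.mem_univ _, hne⟩
    rw [hU] at this
    simp only [Finset.mem_insert, Finset.mem_singleton] at this
    rcases this with h | h
    · exact h1 h
    · exact h2 h
  refine ⟨(⟨(a, b), hlt⟩, decide (z a = 1), decide (z b = 1)), ?_⟩
  funext i
  unfold phi3 sg
  simp only
  by_cases h1 : i = a
  · subst h1
    rw [if_pos rfl, if_neg hab, hxz i]
    rcases hz i with h | h | h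
    · exact absurd h hza
    · simp [h]
    · simp [h]
  · by_cases h2 : i = b
    · subst h2
      rw [if_neg h1, if_pos rfl, hxz i]
      rcases hz i with h | h | h
      · exact absurd h hzb
      · simp [h]
      · simp [h]
    · rw [if_neg h1, if_neg h2, hxz i, hz0 i h1 h2]
      norm_num

theorem even_class {x : GolayPt → ℤ} (hx : x ∈ Mset) (hev : x none % 2 = 0) :
    x ∈ Set.range phi2 ∪ Set.range phi3 := by
  rw [mem_Mset] at hx
  obtain ⟨⟨m, h1, h2, h3⟩, hn⟩ := hx
  have hm : m % 2 = 0 := by rw [← h1 none]; exact hev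
  have hxe : ∀ i, x i % 2 = 0 := fun i => by rw [h1 i, hm]
  have hsum : (∑ i, x i) % 8 = 0 := by omega
  have hS : resSet x 2 ∈ 𝒢 := by
    have h4 : m % 4 = 0 ∨ m % 4 = 2 := by omega
    rcases h4 with h4 | h4
    · have : resSet x 2 = (resSet x m)ᶜ := by
        ext i
        simp only [mem_resSet, Finset.mem_compl]
        have := hxe i; omega
      rw [this]; exact compl_mem h3
    · have : resSet x 2 = resSet x m := by
        ext i
        simp only [mem_resSet]
        omega
      rw [this]; exact h3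
  obtain ⟨w, hw, hws⟩ := hS
  have hcard := golay_weights w hw
  rw [hws] at hcard
  obtain ⟨y, hy⟩ : ∃ y : GolayPt → ℤ, ∀ i, x i = 2 * y i :=
    ⟨fun i => x i / 2, fun i => by
      show x i = 2 * (x i / 2)
      have := hxe i; omega⟩
  have hyS : ∀ i, i ∈ resSet x 2 ↔ y i % 2 = 1 := by
    intro i; rw [mem_resSet, hy i]; omega
  have hny : ∑ i, y i ^ 2 = 8 := by
    have : ∑ i, x i ^ 2 = 4 * ∑ i, y i ^ 2 := by
      rw [Finset.mul_sum]; exact Finset.sum_congr rfl fun i _ => by rw [hy i]; ring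
    omega
  have hge : ∀ i, (if i ∈ resSet x 2 then (1 : ℤ) else 0) ≤ y i ^ 2 := by
    intro i
    split_ifs with h
    · have h5 := (hyS i).mp h
      have h6 : y i ≠ 0 := by intro h0; rw [h0] at h5; norm_num at h5
      have h7 : 0 < y i ^ 2 := by positivity
      omega
    · exact sq_nonneg _
  have hle : ((resSet x 2).card : ℤ) ≤ 8 := by
    rw [← sum_mem, ← hny]; exact Finset.sum_le_sum fun i _ => hge i
  have hc : (resSet x 2).card = 8 ∨ (resSet x 2).card = 0 := by omega
  rcases hc with hc | hc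
  · left
    have hu : ∀ i, y i ^ 2 - (if i ∈ resSet x 2 then 1 else 0) = 0 :=
      all_zero_of_sum_zero _ (fun i => by have := hge i; omega)
        (by rw [Finset.sum_sub_distrib, hny, sum_mem, hc]; norm_num)
    have hyin : ∀ i, i ∈ resSet x 2 → y i = 1 ∨ y i = -1 := by
      intro i hi
      have h5 := hu i
      rw [if_pos hi] at h5
      have h6 : y i ^ 2 = 1 := by omega
      have h7 : (y i - 1) * (y i + 1) = 0 := by ring_nf; ring_nf at h6; omega
      rcases mul_eq_zero.mp h7 with h | h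
      · left; omega
      · right; omega
    have hyout : ∀ i, i ∉ resSet x 2 → y i = 0 := by
      intro i hi
      have h5 := hu i
      rw [if_neg hi] at h5
      have h6 : y i ^ 2 = 0 := by omega
      exact pow_eq_zero_iff (by norm_num) |>.mp h6
    have hTsub : (resSet x 2).filter (fun i => y i = -1) ⊆ resSet x 2 := Finset.filter_subset _ _
    have hyeq : ∀ i, y i = (if i ∈ resSet x 2 then 1 else 0) -
        2 * (if i ∈ (resSet x 2).filter (fun i => y i = -1) then 1 else 0) := by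
      intro i
      by_cases hiS : i ∈ resSet x 2
      · rcases hyin i hiS with h | h
        · have : i ∉ (resSet x 2).filter (fun i => y i = -1) := by
            intro hc'
            have := (Finset.mem_filter.mp hc').2
            rw [h] at this; norm_num at this
          rw [if_pos hiS, if_neg this, h]; norm_num
        · rw [if_pos hiS, if_pos (Finset.mem_filter.mpr ⟨hiS, h⟩), h]; norm_num
      · have : i ∉ (resSet x 2).filter (fun i => y i = -1) := fun hc' => hiS (hTsub hc')
        rw [if_neg hiS, if_neg this, hyout i hiS]; norm_num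
    have hTeven : Even ((resSet x 2).filter (fun i => y i = -1)).card := by
      have e1 : ∑ i, y i = 8 - 2 * (((resSet x 2).filter (fun i => y i = -1)).card : ℤ) := by
        have : ∑ i, y i = ∑ i, ((if i ∈ resSet x 2 then (1 : ℤ) else 0) -
            2 * (if i ∈ (resSet x 2).filter (fun i => y i = -1) then 1 else 0)) :=
          Finset.sum_congr rfl fun i _ => hyeq i
        rw [this, Finset.sum_sub_distrib, ← Finset.mul_sum, sum_mem, sum_mem, hc]
        norm_num
      have e2 : ∑ i, x i = 2 * ∑ i, y i := by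
        rw [Finset.mul_sum]; exact Finset.sum_congr rfl fun i _ => hy i
      rw [Nat.even_iff]
      omega
    refine ⟨⟨⟨resSet x 2, ⟨w, hw, hws⟩, hc⟩, ⟨_, hTsub, hTeven⟩⟩, ?_⟩
    funext i
    unfold phi2
    simp only
    by_cases hiT : i ∈ (resSet x 2).filter (fun i => y i = -1)
    · rw [if_pos hiT, hy i, (Finset.mem_filter.mp hiT).2]; norm_num
    · rw [if_neg hiT]
      by_cases hiS : i ∈ resSet x 2
      · rw [if_pos hiS, hy i]
        rcases hyin i hiS with h | h
        · rw [h]; norm_num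
        · exact absurd (Finset.mem_filter.mpr ⟨hiS, h⟩) hiT
      · rw [if_neg hiS, hy i, hyout i hiS]; norm_num
  · right
    have hempty : resSet x 2 = ∅ := Finset.card_eq_zero.mp hc
    have hye : ∀ i, y i % 2 = 0 := by
      intro i
      have : ¬ (y i % 2 = 1) := by
        rw [← hyS i, hempty]; exact Finset.notMem_empty _
      omega
    obtain ⟨z, hz⟩ : ∃ z : GolayPt → ℤ, ∀ i, y i = 2 * z i :=
      ⟨fun i => y i / 2, fun i => by
        show y i = 2 * (y i / 2)
        have := hye i; omega⟩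
    have hxz : ∀ i, x i = 4 * z i := fun i => by rw [hy i, hz i]; ring
    have hnz : ∑ i, z i ^ 2 = 2 := by
      have : ∑ i, y i ^ 2 = 4 * ∑ i, z i ^ 2 := by
        rw [Finset.mul_sum]; exact Finset.sum_congr rfl fun i _ => by rw [hz i]; ring
      omega
    have hzs : ∀ i, z i = 0 ∨ z i = 1 ∨ z i = -1 := by
      intro i
      apply small_of_sq_le_two
      rw [← hnz]
      exact Finset.single_le_sum (f := fun i => z i ^ 2) (fun i _ => sq_nonneg _) (Finset.mem_univ i)
    have hU : (Finset.univ.filter fun i => z i ≠ 0).card = 2 := by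
      have : ∑ i, z i ^ 2 = ∑ i, (if z i ≠ 0 then (1 : ℤ) else 0) := by
        apply Finset.sum_congr rfl
        intro i _
        rcases hzs i with h | h | h <;> rw [h] <;> norm_num
      rw [hnz, Finset.sum_boole] at this
      exact_mod_cast this.symm
    obtain ⟨a, b, hab, hUab⟩ := Finset.card_eq_two.mp hU
    have hidx : idx a ≠ idx b := fun h => hab (idx_injective h)
    rcases lt_or_gt_of_ne hidx with hlt | hlt
    · exact phi3_class hxz hzs hUab hlt
    · rw [Finset.pair_comm] at hUab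
      exact phi3_class hxz hzs hUab hlt

/-! ### counting -/

theorem Mset_eq : Mset = Set.range phi1 ∪ (Set.range phi2 ∪ Set.range phi3) := by
  ext x
  constructor
  · intro hx
    rcases Int.emod_two_eq_zero_or_one (x none) with h | h
    · exact Or.inr (even_class hx h)
    · exact Or.inl (odd_class hx h)
  · rintro (⟨p, rfl⟩ | ⟨p, rfl⟩ | ⟨p, rfl⟩)
    · exact phi1_mem p
    · exact phi2_mem p
    · exact phi3_mem p

theorem phi1_odd (p : golayCode × GolayPt) : phi1 p none % 2 = 1 := by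
  rcases phi1_cases p none with ⟨_, ⟨_, h⟩ | ⟨_, h⟩⟩ | ⟨_, ⟨_, h⟩ | ⟨_, h⟩⟩ <;> rw [h] <;> norm_num

theorem phi2_even (p : D2) : phi2 p none % 2 = 0 := by
  unfold phi2; split_ifs <;> norm_num

theorem phi3_even (p : D3) : phi3 p none % 2 = 0 := by
  rw [phi3_eq]
  rcases sg_cases p.2.1 with h | h <;> rcases sg_cases p.2.2 with h' | h' <;> rw [h, h'] <;>
    split_ifs <;> norm_num

theorem disj1 : Disjoint (Set.range phi1) (Set.range phi2 ∪ Set.range phi3) := by
  rw [Set.disjoint_left]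
  rintro x ⟨p, rfl⟩ (⟨q, hq⟩ | ⟨q, hq⟩)
  · have h1 := phi1_odd p
    have h2 := phi2_even q
    rw [hq] at h2; omega
  · have h1 := phi1_odd p
    have h2 := phi3_even q
    rw [hq] at h2; omega

theorem disj2 : Disjoint (Set.range phi2) (Set.range phi3) := by
  rw [Set.disjoint_left]
  rintro x ⟨p, rfl⟩ ⟨q, hq⟩
  have h1 := phi3_at1 q
  rw [hq] at h1
  have h2 : phi2 p q.1.1.1 = -2 ∨ phi2 p q.1.1.1 = 2 ∨ phi2 p q.1.1.1 = 0 := by
    unfold phi2; split_ifs <;> simp
  rcases sg_cases q.2.1 with h | h <;> rw [h] at h1 <;> omega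

theorem card_D1 : Nat.card (golayCode × GolayPt) = 4096 * 24 := by
  rw [Nat.card_prod]
  have h := Module.natCard_eq_pow_finrank (K := ZMod 2) (V := golayCode)
  rw [finrank_golay, Nat.card_zmod] at h
  rw [h, Nat.card_eq_fintype_card (α := GolayPt)]
  rfl

theorem card_fiber2 (O : octads) :
    Nat.card {T : Finset GolayPt // T ⊆ O.1 ∧ Even T.card} = 128 := by
  classical
  rw [Nat.card_eq_fintype_card, Fintype.card_subtype]
  have : (Finset.univ.filter fun T : Finset GolayPt => T ⊆ O.1 ∧ Even T.card) =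
      O.1.powerset.filter fun T => Even T.card := by
    ext T
    simp [Finset.mem_powerset]
  rw [this]
  have hO : O.1.card = 8 := O.2.2
  have hne : O.1.Nonempty := by
    rw [← Finset.card_pos, hO]; norm_num
  have := card_even_subsets O.1 hne
  rw [hO] at this
  omega

theorem card_D2 : Nat.card D2 = 759 * 128 := by
  classical
  haveI : Fintype octads := Fintype.ofFinite _
  unfold D2
  rw [Nat.card_sigma]
  simp only [card_fiber2, Finset.sum_const, Finset.card_univ, smul_eq_mul]
  rw [← Nat.card_eq_fintype_card, _root_.Nat.card_coe_set_eq, ncard_octads]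

set_option maxRecDepth 1000000 in
theorem card_pairs : Fintype.card {p : GolayPt × GolayPt // idx p.1 < idx p.2} = 276 := by
  rw [Fintype.card_subtype]
  decide +kernel

instance : Finite D2 := by unfold D2; infer_instance

instance : Finite D3 := by unfold D3; infer_instance

theorem card_D3 : Nat.card D3 = 276 * 4 := by
  unfold D3
  rw [Nat.card_prod, Nat.card_prod, Nat.card_eq_fintype_card, card_pairs,
    Nat.card_eq_fintype_card (α := Bool), Fintype.card_bool]

theorem main : {x : GolayPt → ℤ | x ∈ leechLattice ∧ sqNorm x = 32}.ncard = 196560 := by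
  change Mset.ncard = 196560
  rw [Mset_eq, Set.ncard_union_eq disj1 (Set.finite_range _)
    ((Set.finite_range _).union (Set.finite_range _)),
    Set.ncard_union_eq disj2 (Set.finite_range _) (Set.finite_range _),
    Set.ncard_range_of_injective phi1_injective, Set.ncard_range_of_injective phi2_injective,
    Set.ncard_range_of_injective phi3_injective, card_D1, card_D2, card_D3]

end Cfsg.Agent.Lib.Helper5_LeechMin
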