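import Mathlib
import Cfsg.Prelude.Def_SporadicCombinatorics
import Cfsg.Agent.Lib.Helper1_Golay
import Cfsg.Agent.Lib.Helper1_Golay2
import Cfsg.Agent.Lib.Helper5_LeechMin
set_option autoImplicit false
open Cfsg
open Cfsg.Agent.Lib.Helper1_Golay
open Cfsg.Agent.Lib.Helper5_LeechMin
namespace Cfsg.Agent.Lib.Helper5_Leech48

local notation "𝒢" => supports (golayCode : Set (GolayPt → ZMod 2))

/-- the set of vectors of norm 48 -/
def N48 : Set (GolayPt → ℤ) := {x | x ∈ leechLattice ∧ sqNorm x = 48}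

theorem mem_N48 (x : GolayPt → ℤ) : x ∈ N48 ↔
    (∃ m : ℤ, (∀ i, x i % 2 = m % 2) ∧ ((∑ i, x i) % 8 = (4 * m) % 8) ∧ resSet x m ∈ 𝒢) ∧
      ∑ i, x i ^ 2 = 48 := by
  unfold N48
  rw [Set.mem_ofPred_eq, mem_leechLattice_iff, mem_leechSet_iff]
  rfl

theorem eps_cases (w : GolayPt → ZMod 2) (i : GolayPt) :
    (w i = 1 ∧ eps w i = -1) ∨ (w i ≠ 1 ∧ eps w i = 1) := by
  unfold eps
  by_cases h : w i = 1
  · left; exact ⟨h, if_pos h⟩
  · right; exact ⟨h, if_neg h⟩

/-! ### family (±5, ±1^23) -/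

def psi5 (p : golayCode × GolayPt) : GolayPt → ℤ :=
  fun i => eps p.1.1 i * (if i = p.2 then 5 else 1)

theorem psi5_cases (p : golayCode × GolayPt) (i : GolayPt) :
    (i = p.2 ∧ ((p.1.1 i = 1 ∧ psi5 p i = -5) ∨ (p.1.1 i ≠ 1 ∧ psi5 p i = 5))) ∨
    (i ≠ p.2 ∧ ((p.1.1 i = 1 ∧ psi5 p i = -1) ∨ (p.1.1 i ≠ 1 ∧ psi5 p i = 1))) := by
  unfold psi5
  by_cases h1 : i = p.2
  · left
    refine ⟨h1, ?_⟩
    rw [if_pos h1]
    rcases eps_cases p.1.1 i with ⟨h, e⟩ | ⟨h, e⟩
    · left; exact ⟨h, by rw [e]; norm_num⟩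
    · right; exact ⟨h, by rw [e]; norm_num⟩
  · right
    refine ⟨h1, ?_⟩
    rw [if_neg h1]
    rcases eps_cases p.1.1 i with ⟨h, e⟩ | ⟨h, e⟩
    · left; exact ⟨h, by rw [e]; norm_num⟩
    · right; exact ⟨h, by rw [e]; norm_num⟩

theorem psi5_mem (p : golayCode × GolayPt) : psi5 p ∈ N48 := by
  rw [mem_N48]
  obtain ⟨k, hk⟩ := four_dvd_card_support₂ p.1.1 p.1.2
  refine ⟨⟨1, fun i => ?_, ?_, ?_⟩, ?_⟩
  · rcases psi5_cases p i with ⟨_, ⟨_, h⟩ | ⟨_, h⟩⟩ | ⟨_, ⟨_, h⟩ | ⟨_, h⟩⟩ <;> rw [h] <;> norm_num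
  · have h1 : ∀ i, psi5 p i = eps p.1.1 i + 4 * (eps p.1.1 p.2 * (if i = p.2 then 1 else 0)) := by
      intro i
      unfold psi5
      by_cases h : i = p.2
      · subst h; simp; ring
      · simp [h]
    simp only [h1]
    rw [Finset.sum_add_distrib, ← Finset.mul_sum, ← Finset.mul_sum, sum_pt, sum_eps, hk]
    have : eps p.1.1 p.2 = 1 ∨ eps p.1.1 p.2 = -1 := by
      rcases eps_cases p.1.1 p.2 with ⟨_, e⟩ | ⟨_, e⟩ <;> simp [e]
    push_cast
    rcases this with h | h <;> rw [h] <;> omega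
  · have : resSet (psi5 p) 1 = (support₂ p.1.1)ᶜ := by
      ext i
      rw [mem_resSet, Finset.mem_compl, mem_support₂]
      rcases psi5_cases p i with ⟨_, ⟨h', h⟩ | ⟨h', h⟩⟩ | ⟨_, ⟨h', h⟩ | ⟨h', h⟩⟩ <;> rw [h] <;>
        simp [h']
    rw [this]
    exact compl_mem ⟨p.1.1, p.1.2, rfl⟩
  · have h1 : ∀ i, psi5 p i ^ 2 = 1 + 24 * (if i = p.2 then 1 else 0) := by
      intro i
      rcases psi5_cases p i with ⟨h0, ⟨_, h⟩ | ⟨_, h⟩⟩ | ⟨h0, ⟨_, h⟩ | ⟨_, h⟩⟩ <;> rw [h] <;>
        simp [h0]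
    simp only [h1]
    rw [Finset.sum_add_distrib, ← Finset.mul_sum, sum_pt]
    simp [card_univ_pt]

theorem psi5_injective : Function.Injective psi5 := by
  rintro ⟨w, j⟩ ⟨w', j'⟩ h
  have hj : j = j' := by
    by_contra hne
    have h1 := congrFun h j
    rcases psi5_cases (w, j) j with ⟨_, ⟨_, e⟩ | ⟨_, e⟩⟩ | ⟨e0, _⟩
    · rcases psi5_cases (w', j') j with ⟨e0', _⟩ | ⟨_, ⟨_, e'⟩ | ⟨_, e'⟩⟩
      · exact hne e0'
      · rw [e, e'] at h1; norm_num at h1
      · rw [e, e'] at h1; norm_num at h1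
    · rcases psi5_cases (w', j') j with ⟨e0', _⟩ | ⟨_, ⟨_, e'⟩ | ⟨_, e'⟩⟩
      · exact hne e0'
      · rw [e, e'] at h1; norm_num at h1
      · rw [e, e'] at h1; norm_num at h1
    · exact e0 rfl
  subst hj
  have hw : w = w' := by
    apply Subtype.ext
    funext i
    have h1 := congrFun h i
    have hz : ∀ a b : ZMod 2, (a = 1 ↔ b = 1) → a = b := by decide
    apply hz
    have hc : ∀ ww : golayCode, (ww.1 i = 1 ↔ psi5 (ww, j) i % 4 = 3) := by
      intro ww
      rcases psi5_cases (ww, j) i with ⟨_, ⟨c, e⟩ | ⟨c, e⟩⟩ | ⟨_, ⟨c, e⟩ | ⟨c, e⟩⟩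
      · rw [e]; exact ⟨fun _ => by norm_num, fun _ => c⟩
      · rw [e]; exact ⟨fun h => absurd h c, fun h => by norm_num at h⟩
      · rw [e]; exact ⟨fun _ => by norm_num, fun _ => c⟩
      · rw [e]; exact ⟨fun h => absurd h c, fun h => by norm_num at h⟩
    rw [hc w, hc w', h1]
  rw [hw]

/-! ### family (±3^3, ±1^21) -/

abbrev Tri : Type := {J : Finset GolayPt // J.card = 3}

def psi3 (p : golayCode × Tri) : GolayPt → ℤ :=
  fun i => eps p.1.1 i * (if i ∈ p.2.1 then -3 else 1)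

theorem psi3_cases (p : golayCode × Tri) (i : GolayPt) :
    (i ∈ p.2.1 ∧ ((p.1.1 i = 1 ∧ psi3 p i = 3) ∨ (p.1.1 i ≠ 1 ∧ psi3 p i = -3))) ∨
    (i ∉ p.2.1 ∧ ((p.1.1 i = 1 ∧ psi3 p i = -1) ∨ (p.1.1 i ≠ 1 ∧ psi3 p i = 1))) := by
  unfold psi3
  by_cases h1 : i ∈ p.2.1
  · left
    refine ⟨h1, ?_⟩
    rw [if_pos h1]
    rcases eps_cases p.1.1 i with ⟨h, e⟩ | ⟨h, e⟩
    · left; exact ⟨h, by rw [e]; norm_num⟩
    · right; exact ⟨h, by rw [e]; norm_num⟩
  · right
    refine ⟨h1, ?_⟩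
    rw [if_neg h1]
    rcases eps_cases p.1.1 i with ⟨h, e⟩ | ⟨h, e⟩
    · left; exact ⟨h, by rw [e]; norm_num⟩
    · right; exact ⟨h, by rw [e]; norm_num⟩

theorem psi3_mem (p : golayCode × Tri) : psi3 p ∈ N48 := by
  rw [mem_N48]
  obtain ⟨k, hk⟩ := four_dvd_card_support₂ p.1.1 p.1.2
  refine ⟨⟨1, fun i => ?_, ?_, ?_⟩, ?_⟩
  · rcases psi3_cases p i with ⟨_, ⟨_, h⟩ | ⟨_, h⟩⟩ | ⟨_, ⟨_, h⟩ | ⟨_, h⟩⟩ <;> rw [h] <;> norm_num
  · have h1 : ∀ i, psi3 p i = eps p.1.1 i - 4 * (if i ∈ p.2.1 then 1 else 0) +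
        8 * (if i ∈ p.2.1 ∩ support₂ p.1.1 then 1 else 0) := by
      intro i
      unfold psi3
      rw [eps_eq]
      by_cases h : i ∈ p.2.1 <;> by_cases h' : i ∈ support₂ p.1.1 <;>
        simp [h, h', Finset.mem_inter]
    simp only [h1]
    rw [Finset.sum_add_distrib, Finset.sum_sub_distrib, ← Finset.mul_sum, ← Finset.mul_sum,
      Helper5_LeechMin.sum_mem, Helper5_LeechMin.sum_mem, sum_eps, hk, p.2.2]
    push_cast
    omega
  · have : resSet (psi3 p) 1 = (support₂ p.1.1)ᶜ := by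
      ext i
      rw [mem_resSet, Finset.mem_compl, mem_support₂]
      rcases psi3_cases p i with ⟨_, ⟨h', h⟩ | ⟨h', h⟩⟩ | ⟨_, ⟨h', h⟩ | ⟨h', h⟩⟩ <;> rw [h] <;>
        simp [h']
    rw [this]
    exact compl_mem ⟨p.1.1, p.1.2, rfl⟩
  · have h1 : ∀ i, psi3 p i ^ 2 = 1 + 8 * (if i ∈ p.2.1 then 1 else 0) := by
      intro i
      rcases psi3_cases p i with ⟨h0, ⟨_, h⟩ | ⟨_, h⟩⟩ | ⟨h0, ⟨_, h⟩ | ⟨_, h⟩⟩ <;> rw [h] <;>
        simp [h0]
    simp only [h1]
    rw [Finset.sum_add_distrib, ← Finset.mul_sum, Helper5_LeechMin.sum_mem, p.2.2]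
    simp [card_univ_pt]

theorem psi3_injective : Function.Injective psi3 := by
  rintro ⟨w, J⟩ ⟨w', J'⟩ h
  have hJ : J = J' := by
    apply Subtype.ext
    ext i
    have h1 := congrFun h i
    rcases psi3_cases (w, J) i with ⟨e0, ⟨_, e⟩ | ⟨_, e⟩⟩ | ⟨e0, ⟨_, e⟩ | ⟨_, e⟩⟩ <;>
    rcases psi3_cases (w', J') i with ⟨e0', ⟨_, e'⟩ | ⟨_, e'⟩⟩ | ⟨e0', ⟨_, e'⟩ | ⟨_, e'⟩⟩ <;>
    first
    | exact ⟨fun _ => e0', fun _ => e0⟩
    | exact ⟨fun h => absurd h e0, fun h => absurd h e0'⟩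
    | (exfalso; rw [e, e'] at h1; norm_num at h1)
  subst hJ
  have hw : w = w' := by
    apply Subtype.ext
    funext i
    have h1 := congrFun h i
    have hz : ∀ a b : ZMod 2, (a = 1 ↔ b = 1) → a = b := by decide
    apply hz
    have hc : ∀ ww : golayCode, (ww.1 i = 1 ↔ psi3 (ww, J) i % 4 = 3) := by
      intro ww
      rcases psi3_cases (ww, J) i with ⟨_, ⟨c, e⟩ | ⟨c, e⟩⟩ | ⟨_, ⟨c, e⟩ | ⟨c, e⟩⟩
      · rw [e]; exact ⟨fun _ => by norm_num, fun _ => c⟩
      · rw [e]; exact ⟨fun h => absurd h c, fun h => by norm_num at h⟩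
      · rw [e]; exact ⟨fun _ => by norm_num, fun _ => c⟩
      · rw [e]; exact ⟨fun h => absurd h c, fun h => by norm_num at h⟩
    rw [hc w, hc w', h1]
  rw [hw]

/-! ### family (±2^12, 0^12) -/

def D12 : Type := Σ O : dodecads, {T : Finset GolayPt // T ⊆ O.1 ∧ Even T.card}

def psi12 (p : D12) : GolayPt → ℤ :=
  fun i => if i ∈ p.2.1 then -2 else if i ∈ p.1.1 then 2 else 0

theorem psi12_eq (p : D12) (i : GolayPt) :
    psi12 p i = 2 * (if i ∈ p.1.1 then 1 else 0) - 4 * (if i ∈ p.2.1 then 1 else 0) := by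
  unfold psi12
  by_cases h1 : i ∈ p.2.1
  · have h2 : i ∈ p.1.1 := p.2.2.1 h1
    simp [h1, h2]
  · by_cases h2 : i ∈ p.1.1 <;> simp [h1, h2]

theorem psi12_vals (p : D12) (i : GolayPt) : psi12 p i = 0 ∨ psi12 p i = 2 ∨ psi12 p i = -2 := by
  unfold psi12; split_ifs <;> simp

theorem psi12_mem (p : D12) : psi12 p ∈ N48 := by
  rw [mem_N48]
  have hO : p.1.1 ∈ 𝒢 ∧ p.1.1.card = 12 := p.1.2
  obtain ⟨k, hk⟩ := p.2.2.2
  refine ⟨⟨2, fun i => ?_, ?_, ?_⟩, ?_⟩
  · unfold psi12; split_ifs <;> norm_num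
  · simp only [psi12_eq]
    rw [Finset.sum_sub_distrib, ← Finset.mul_sum, ← Finset.mul_sum, Helper5_LeechMin.sum_mem, Helper5_LeechMin.sum_mem, hO.2, hk]
    push_cast
    omega
  · have : resSet (psi12 p) 2 = p.1.1 := by
      ext i
      rw [mem_resSet]
      unfold psi12
      by_cases h1 : i ∈ p.2.1
      · have h2 : i ∈ p.1.1 := p.2.2.1 h1
        simp [h1, h2]
      · by_cases h2 : i ∈ p.1.1 <;> simp [h1, h2]
    rw [this]; exact hO.1
  · have h1 : ∀ i, psi12 p i ^ 2 = 4 * (if i ∈ p.1.1 then 1 else 0) := by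
      intro i
      unfold psi12
      by_cases h1 : i ∈ p.2.1
      · have h2 : i ∈ p.1.1 := p.2.2.1 h1
        simp [h1, h2]
      · by_cases h2 : i ∈ p.1.1 <;> simp [h1, h2]
    simp only [h1]
    rw [← Finset.mul_sum, Helper5_LeechMin.sum_mem, hO.2]
    norm_num

theorem psi12_injective : Function.Injective psi12 := by
  rintro ⟨O, T⟩ ⟨O', T'⟩ h
  have hO : O = O' := by
    apply Subtype.ext
    ext i
    have h1 := congrFun h i
    unfold psi12 at h1
    simp only at h1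
    by_cases a1 : i ∈ T.1 <;> by_cases a2 : i ∈ O.1 <;> by_cases b1 : i ∈ T'.1 <;>
      by_cases b2 : i ∈ O'.1 <;> simp [a1, a2, b1, b2] at h1 ⊢
    all_goals (first | exact absurd (T'.2.1 b1) b2 | exact absurd (T.2.1 a1) a2)
  subst hO
  have hT : T = T' := by
    apply Subtype.ext
    ext i
    have h1 := congrFun h i
    unfold psi12 at h1
    simp only at h1
    by_cases a1 : i ∈ T.1 <;> by_cases a2 : i ∈ O.1 <;> by_cases b1 : i ∈ T'.1 <;>
      simp [a1, a2, b1] at h1 ⊢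
  rw [hT]

/-! ### family (±4, ±2^8, 0^15) -/

def D4 : Type :=
  Σ O : octads, ({T : Finset GolayPt // T ⊆ O.1 ∧ ¬ Even T.card} × {k : GolayPt // k ∉ O.1} × Bool)

def psi4 (p : D4) : GolayPt → ℤ :=
  fun i => (if i ∈ p.2.1.1 then -2 else if i ∈ p.1.1 then 2 else 0) +
    (if i = p.2.2.1.1 then sg p.2.2.2 else 0)

theorem psi4_cases (p : D4) (i : GolayPt) :
    (i ∈ p.2.1.1 ∧ i ∈ p.1.1 ∧ i ≠ p.2.2.1.1 ∧ psi4 p i = -2) ∨
    (i ∉ p.2.1.1 ∧ i ∈ p.1.1 ∧ i ≠ p.2.2.1.1 ∧ psi4 p i = 2) ∨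
    (i ∉ p.2.1.1 ∧ i ∉ p.1.1 ∧ i = p.2.2.1.1 ∧ psi4 p i = sg p.2.2.2) ∨
    (i ∉ p.2.1.1 ∧ i ∉ p.1.1 ∧ i ≠ p.2.2.1.1 ∧ psi4 p i = 0) := by
  have hk : p.2.2.1.1 ∉ p.1.1 := p.2.2.1.2
  have hT : p.2.1.1 ⊆ p.1.1 := p.2.1.2.1
  unfold psi4
  by_cases h1 : i ∈ p.2.1.1
  · have h2 : i ∈ p.1.1 := hT h1
    have h3 : i ≠ p.2.2.1.1 := fun h => hk (h ▸ h2)
    left
    exact ⟨h1, h2, h3, by rw [if_pos h1, if_neg h3]; norm_num⟩
  · by_cases h2 : i ∈ p.1.1
    · have h3 : i ≠ p.2.2.1.1 := fun h => hk (h ▸ h2)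
      right; left
      exact ⟨h1, h2, h3, by rw [if_neg h1, if_pos h2, if_neg h3]; norm_num⟩
    · by_cases h3 : i = p.2.2.1.1
      · right; right; left
        exact ⟨h1, h2, h3, by rw [if_neg h1, if_neg h2, if_pos h3]; norm_num⟩
      · right; right; right
        exact ⟨h1, h2, h3, by rw [if_neg h1, if_neg h2, if_neg h3]; norm_num⟩

theorem psi4_eq (p : D4) (i : GolayPt) :
    psi4 p i = 2 * (if i ∈ p.1.1 then 1 else 0) - 4 * (if i ∈ p.2.1.1 then 1 else 0) +
      sg p.2.2.2 * (if i = p.2.2.1.1 then 1 else 0) := by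
  rcases psi4_cases p i with ⟨h1, h2, h3, e⟩ | ⟨h1, h2, h3, e⟩ | ⟨h1, h2, h3, e⟩ | ⟨h1, h2, h3, e⟩
  · rw [e, if_pos h2, if_pos h1, if_neg h3]; norm_num
  · rw [e, if_pos h2, if_neg h1, if_neg h3]; norm_num
  · rw [e, if_neg h2, if_neg h1, if_pos h3]; norm_num
  · rw [e, if_neg h2, if_neg h1, if_neg h3]; norm_num

theorem psi4_mod4 (p : D4) (i : GolayPt) : psi4 p i % 4 = 2 ↔ i ∈ p.1.1 := by
  rcases psi4_cases p i with ⟨_, h2, _, e⟩ | ⟨_, h2, _, e⟩ | ⟨_, h2, _, e⟩ | ⟨_, h2, _, e⟩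
  · rw [e]; exact ⟨fun _ => h2, fun _ => by norm_num⟩
  · rw [e]; exact ⟨fun _ => h2, fun _ => by norm_num⟩
  · rw [e]
    rcases sg_cases p.2.2.2 with h | h <;> rw [h] <;>
      exact ⟨fun hh => by norm_num at hh, fun hh => absurd hh h2⟩
  · rw [e]; exact ⟨fun hh => by norm_num at hh, fun hh => absurd hh h2⟩

theorem psi4_neg2 (p : D4) (i : GolayPt) : psi4 p i = -2 ↔ i ∈ p.2.1.1 := by
  rcases psi4_cases p i with ⟨h2, _, _, e⟩ | ⟨h2, _, _, e⟩ | ⟨h2, _, _, e⟩ | ⟨h2, _, _, e⟩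
  · rw [e]; exact ⟨fun _ => h2, fun _ => rfl⟩
  · rw [e]; exact ⟨fun hh => by norm_num at hh, fun hh => absurd hh h2⟩
  · rw [e]
    rcases sg_cases p.2.2.2 with h | h <;> rw [h] <;>
      exact ⟨fun hh => by norm_num at hh, fun hh => absurd hh h2⟩
  · rw [e]; exact ⟨fun hh => by norm_num at hh, fun hh => absurd hh h2⟩

theorem psi4_four (p : D4) (i : GolayPt) : (psi4 p i = 4 ∨ psi4 p i = -4) ↔ i = p.2.2.1.1 := by
  rcases psi4_cases p i with ⟨_, _, h3, e⟩ | ⟨_, _, h3, e⟩ | ⟨_, _, h3, e⟩ | ⟨_, _, h3, e⟩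
  · rw [e]; exact ⟨fun hh => by rcases hh with hh | hh <;> norm_num at hh, fun hh => absurd hh h3⟩
  · rw [e]; exact ⟨fun hh => by rcases hh with hh | hh <;> norm_num at hh, fun hh => absurd hh h3⟩
  · rw [e]; exact ⟨fun _ => h3, fun _ => sg_cases _⟩
  · rw [e]; exact ⟨fun hh => by rcases hh with hh | hh <;> norm_num at hh, fun hh => absurd hh h3⟩

theorem psi4_at (p : D4) : psi4 p p.2.2.1.1 = sg p.2.2.2 := by
  rcases psi4_cases p p.2.2.1.1 with ⟨_, _, h3, e⟩ | ⟨_, _, h3, e⟩ | ⟨_, _, h3, e⟩ | ⟨_, _, h3, e⟩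
  · exact absurd rfl h3
  · exact absurd rfl h3
  · exact e
  · exact absurd rfl h3

theorem psi4_mem (p : D4) : psi4 p ∈ N48 := by
  rw [mem_N48]
  have hO : p.1.1 ∈ 𝒢 ∧ p.1.1.card = 8 := p.1.2
  obtain ⟨k, hk⟩ := Nat.not_even_iff_odd.mp p.2.1.2.2
  refine ⟨⟨2, fun i => ?_, ?_, ?_⟩, ?_⟩
  · rcases psi4_cases p i with ⟨_, _, _, e⟩ | ⟨_, _, _, e⟩ | ⟨_, _, _, e⟩ | ⟨_, _, _, e⟩
    · rw [e] <;> norm_num
    · rw [e] <;> norm_num
    · rw [e]
      rcases sg_cases p.2.2.2 with h | h <;> rw [h] <;> norm_num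
    · rw [e] <;> norm_num
  · simp only [psi4_eq]
    rw [Finset.sum_add_distrib, Finset.sum_sub_distrib, ← Finset.mul_sum, ← Finset.mul_sum,
      ← Finset.mul_sum, Helper5_LeechMin.sum_mem, Helper5_LeechMin.sum_mem, sum_pt, hO.2, hk]
    push_cast
    rcases sg_cases p.2.2.2 with h | h <;> rw [h] <;> omega
  · have : resSet (psi4 p) 2 = p.1.1 := by
      ext i
      rw [mem_resSet]
      exact psi4_mod4 p i
    rw [this]; exact hO.1
  · have h1 : ∀ i, psi4 p i ^ 2 = 4 * (if i ∈ p.1.1 then 1 else 0) +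
        16 * (if i = p.2.2.1.1 then 1 else 0) := by
      intro i
      rcases psi4_cases p i with ⟨_, h2, h3, e⟩ | ⟨_, h2, h3, e⟩ | ⟨_, h2, h3, e⟩ | ⟨_, h2, h3, e⟩
      · rw [e, if_pos h2, if_neg h3]; norm_num
      · rw [e, if_pos h2, if_neg h3]; norm_num
      · rw [e, if_neg h2, if_pos h3]
        rcases sg_cases p.2.2.2 with h | h <;> rw [h] <;> norm_num
      · rw [e, if_neg h2, if_neg h3]; norm_num
    simp only [h1]
    rw [Finset.sum_add_distrib, ← Finset.mul_sum, ← Finset.mul_sum, Helper5_LeechMin.sum_mem,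
      sum_pt, hO.2]
    norm_num

theorem psi4_injective : Function.Injective psi4 := by
  rintro ⟨O, T, k, s⟩ ⟨O', T', k', s'⟩ h
  have hO : O = O' := by
    apply Subtype.ext
    ext i
    have h1 := psi4_mod4 ⟨O, T, k, s⟩ i
    have h2 := psi4_mod4 ⟨O', T', k', s'⟩ i
    rw [h] at h1
    exact h1.symm.trans h2
  subst hO
  have hT : T = T' := by
    apply Subtype.ext
    ext i
    have h1 := psi4_neg2 ⟨O, T, k, s⟩ i
    have h2 := psi4_neg2 ⟨O, T', k', s'⟩ i
    rw [h] at h1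
    exact h1.symm.trans h2
  subst hT
  have hk : k = k' := by
    apply Subtype.ext
    have h1 := (psi4_four ⟨O, T, k, s⟩ k.1).mpr rfl
    rw [h] at h1
    exact (psi4_four ⟨O, T, k', s'⟩ k.1).mp h1
  subst hk
  have hs : s = s' := by
    apply sg_injective
    have h1 := psi4_at ⟨O, T, k, s⟩
    have h2 := psi4_at ⟨O, T, k, s'⟩
    simp only at h1 h2
    rw [← h1, ← h2, h]
  rw [hs]

/-! ### classification -/

theorem sum_three {ι : Type*} [Fintype ι] [DecidableEq ι] (t : ι → ℤ) (h0 : ∀ i, 0 ≤ t i)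
    (h3 : ∑ i, t i = 3) (h2 : ∀ i, t i ≠ 2) :
    (∃ j, t j = 3 ∧ ∀ i, i ≠ j → t i = 0) ∨ (∀ i, t i = 0 ∨ t i = 1) := by
  by_cases hex : ∃ j, 3 ≤ t j
  · left
    obtain ⟨j, hj⟩ := hex
    have hsplit : ∑ i, t i = t j + ∑ i ∈ Finset.univ.erase j, t i := by
      rw [Finset.add_sum_erase _ _ (Finset.mem_univ j)]
    have hrest : 0 ≤ ∑ i ∈ Finset.univ.erase j, t i := Finset.sum_nonneg fun i _ => h0 i
    have hj3 : t j = 3 := by omega
    have hr0 : ∑ i ∈ Finset.univ.erase j, t i = 0 := by omega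
    refine ⟨j, hj3, fun i hi => ?_⟩
    exact (Finset.sum_eq_zero_iff_of_nonneg fun i _ => h0 i).mp hr0 i
      (Finset.mem_erase.mpr ⟨hi, Finset.mem_univ i⟩)
  · right
    push Not at hex
    intro i
    have := hex i; have := h0 i; have := h2 i
    omega

theorem odd_sq_ne_two (a : ℤ) (h : a % 2 = 1) : a ^ 2 / 8 ≠ 2 := by
  intro h2
  have h1 := odd_sq a h
  rw [h2] at h1
  have h3 : -5 ≤ a := by nlinarith
  have h4 : a ≤ 5 := by nlinarith
  interval_cases a <;> norm_num at h1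

theorem sq_div8_three (a : ℤ) (h : a % 2 = 1) (h0 : a ^ 2 / 8 = 3) : a = 5 ∨ a = -5 := by
  have h1 := odd_sq a h
  rw [h0] at h1
  have h7 : (a - 5) * (a + 5) = 0 := by ring_nf; ring_nf at h1; omega
  rcases mul_eq_zero.mp h7 with h | h
  · left; omega
  · right; omega

theorem odd_class {x : GolayPt → ℤ} (hx : x ∈ N48) (hodd : x none % 2 = 1) :
    x ∈ Set.range psi5 ∪ Set.range psi3 := by
  rw [mem_N48] at hx
  obtain ⟨⟨m, h1, h2, h3⟩, hn⟩ := hx
  have hm : m % 2 = 1 := by rw [← h1 none]; exact hodd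
  have hxo : ∀ i, x i % 2 = 1 := fun i => by rw [h1 i, hm]
  have hsq : ∀ i, x i ^ 2 = 8 * (x i ^ 2 / 8) + 1 := fun i => odd_sq _ (hxo i)
  have ht0 : ∀ i, 0 ≤ x i ^ 2 / 8 := fun i => Int.ediv_nonneg (sq_nonneg _) (by norm_num)
  have ht3 : ∑ i, x i ^ 2 / 8 = 3 := by
    have : ∑ i, x i ^ 2 = ∑ i, (8 * (x i ^ 2 / 8) + 1) := Finset.sum_congr rfl fun i _ => hsq i
    rw [hn, Finset.sum_add_distrib, ← Finset.mul_sum] at this
    simp only [Finset.sum_const, card_univ_pt, nsmul_eq_mul] at this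
    push_cast at this
    omega
  have hS : resSet x 3 ∈ 𝒢 := by
    have h4 : m % 4 = 1 ∨ m % 4 = 3 := by omega
    rcases h4 with h4 | h4
    · have : resSet x 3 = (resSet x m)ᶜ := by
        ext i
        simp only [mem_resSet, Finset.mem_compl]
        have := hxo i; omega
      rw [this]; exact compl_mem h3
    · have : resSet x 3 = resSet x m := by
        ext i
        simp only [mem_resSet]
        omega
      rw [this]; exact h3
  obtain ⟨w, hw, hws⟩ := hS
  have hwi : ∀ i, w i = 1 ↔ x i % 4 = 3 := by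
    intro i
    rw [← mem_support₂, hws, mem_resSet]
    norm_num
  rcases sum_three _ ht0 ht3 (fun i => odd_sq_ne_two _ (hxo i)) with ⟨j, hj3, hj0⟩ | hall
  · left
    have hxj : x j = 5 ∨ x j = -5 := sq_div8_three _ (hxo j) hj3
    have hxi : ∀ i, i ≠ j → x i = 1 ∨ x i = -1 := fun i hi => sq_div8_zero _ (hxo i) (hj0 i hi)
    refine ⟨(⟨w, hw⟩, j), ?_⟩
    funext i
    unfold psi5 eps
    simp only
    by_cases hij : i = j
    · subst hij
      rw [if_pos rfl]
      rcases hxj with h | h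
      · rw [if_neg (fun hc => by have := (hwi i).mp hc; rw [h] at this; norm_num at this), h]
        norm_num
      · rw [if_pos ((hwi i).mpr (by rw [h]; norm_num)), h]; norm_num
    · rw [if_neg hij]
      rcases hxi i hij with h | h
      · rw [if_neg (fun hc => by have := (hwi i).mp hc; rw [h] at this; norm_num at this), h]
        norm_num
      · rw [if_pos ((hwi i).mpr (by rw [h]; norm_num)), h]; norm_num
  · right
    have hJ : (Finset.univ.filter fun i => x i ^ 2 / 8 = 1).card = 3 := by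
      have : ∑ i, x i ^ 2 / 8 = ∑ i, (if x i ^ 2 / 8 = 1 then (1 : ℤ) else 0) := by
        apply Finset.sum_congr rfl
        intro i _
        rcases hall i with h | h <;> rw [h] <;> norm_num
      rw [ht3, Finset.sum_boole] at this
      exact_mod_cast this.symm
    have hxin : ∀ i, x i ^ 2 / 8 = 1 → x i = 3 ∨ x i = -3 := fun i hi => sq_div8_one _ (hxo i) hi
    have hxout : ∀ i, ¬ x i ^ 2 / 8 = 1 → x i = 1 ∨ x i = -1 := by
      intro i hi
      rcases hall i with h | h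
      · exact sq_div8_zero _ (hxo i) h
      · exact absurd h hi
    refine ⟨(⟨w, hw⟩, ⟨_, hJ⟩), ?_⟩
    funext i
    unfold psi3 eps
    simp only
    by_cases hiJ : x i ^ 2 / 8 = 1
    · have hmem : i ∈ (Finset.univ.filter fun i => x i ^ 2 / 8 = 1) :=
        Finset.mem_filter.mpr ⟨Finset.mem_univ _, hiJ⟩
      rw [if_pos hmem]
      rcases hxin i hiJ with h | h
      · rw [if_pos ((hwi i).mpr (by rw [h]; norm_num)), h]; norm_num
      · rw [if_neg (fun hc => by have := (hwi i).mp hc; rw [h] at this; norm_num at this), h]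
        norm_num
    · have hmem : i ∉ (Finset.univ.filter fun i => x i ^ 2 / 8 = 1) :=
        fun hc => hiJ (Finset.mem_filter.mp hc).2
      rw [if_neg hmem]
      rcases hxout i hiJ with h | h
      · rw [if_neg (fun hc => by have := (hwi i).mp hc; rw [h] at this; norm_num at this), h]
        norm_num
      · rw [if_pos ((hwi i).mpr (by rw [h]; norm_num)), h]; norm_num

theorem sq_eq_one (a : ℤ) (h : a ^ 2 = 1) : a = 1 ∨ a = -1 := by
  have h7 : (a - 1) * (a + 1) = 0 := by ring_nf; ring_nf at h; omega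
  rcases mul_eq_zero.mp h7 with h | h
  · left; omega
  · right; omega

theorem even_class {x : GolayPt → ℤ} (hx : x ∈ N48) (hev : x none % 2 = 0) :
    x ∈ Set.range psi12 ∪ Set.range psi4 := by
  rw [mem_N48] at hx
  obtain ⟨⟨m, h1, h2, h3⟩, hn⟩ := hx
  have hm : m % 2 = 0 := by rw [← h1 none]; exact hev
  have hxe : ∀ i, x i % 2 = 0 := fun i => by rw [h1 i, hm]
  have hsum : (∑ i, x i) % 8 = 0 := by omega
  have hS : resSet x 2 ∈ 𝒢 := by
    have h4 : m % 4 = 0 ∨ m % 4 = 2 := by omega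
    rcases h4 with h4 | h4
    · have : resSet x 2 = (resSet x m)ᶜ := by
        ext i
        simp only [mem_resSet, Finset.mem_compl]
        have := hxe i; omega
      rw [this]; exact compl_mem h3
    · have : resSet x 2 = resSet x m := by
        ext i
        simp only [mem_resSet]
        omega
      rw [this]; exact h3
  obtain ⟨w, hw, hws⟩ := hS
  have hcard := golay_weights w hw
  rw [hws] at hcard
  obtain ⟨y, hy⟩ : ∃ y : GolayPt → ℤ, ∀ i, x i = 2 * y i :=
    ⟨fun i => x i / 2, fun i => by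
      show x i = 2 * (x i / 2)
      have := hxe i; omega⟩
  have hyS : ∀ i, i ∈ resSet x 2 ↔ y i % 2 = 1 := by
    intro i; rw [mem_resSet, hy i]; omega
  have hny : ∑ i, y i ^ 2 = 12 := by
    have : ∑ i, x i ^ 2 = 4 * ∑ i, y i ^ 2 := by
      rw [Finset.mul_sum]; exact Finset.sum_congr rfl fun i _ => by rw [hy i]; ring
    omega
  have hx2 : ∑ i, x i = 2 * ∑ i, y i := by
    rw [Finset.mul_sum]; exact Finset.sum_congr rfl fun i _ => hy i
  have hge : ∀ i, (if i ∈ resSet x 2 then (1 : ℤ) else 0) ≤ y i ^ 2 := by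
    intro i
    split_ifs with h
    · have h5 := (hyS i).mp h
      have h6 : y i ≠ 0 := by intro h0; rw [h0] at h5; norm_num at h5
      have h7 : 0 < y i ^ 2 := by positivity
      omega
    · exact sq_nonneg _
  have hle : ((resSet x 2).card : ℤ) ≤ 12 := by
    rw [← Helper5_LeechMin.sum_mem, ← hny]; exact Finset.sum_le_sum fun i _ => hge i
  have hu0 : ∀ i, 0 ≤ y i ^ 2 - (if i ∈ resSet x 2 then 1 else 0) := fun i => by
    have := hge i; omega
  have hc : (resSet x 2).card = 12 ∨ (resSet x 2).card = 8 ∨ (resSet x 2).card = 0 := by omega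
  have hTsub : (resSet x 2).filter (fun i => y i = -1) ⊆ resSet x 2 := Finset.filter_subset _ _
  rcases hc with hc | hc | hc
  · left
    have hu : ∀ i, y i ^ 2 - (if i ∈ resSet x 2 then 1 else 0) = 0 :=
      all_zero_of_sum_zero _ hu0
        (by rw [Finset.sum_sub_distrib, hny, Helper5_LeechMin.sum_mem, hc]; norm_num)
    have hyin : ∀ i, i ∈ resSet x 2 → y i = 1 ∨ y i = -1 := by
      intro i hi
      have h5 := hu i
      rw [if_pos hi] at h5
      exact sq_eq_one _ (by omega)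
    have hyout : ∀ i, i ∉ resSet x 2 → y i = 0 := by
      intro i hi
      have h5 := hu i
      rw [if_neg hi] at h5
      have h6 : y i ^ 2 = 0 := by omega
      exact pow_eq_zero_iff (by norm_num) |>.mp h6
    have hyeq : ∀ i, y i = (if i ∈ resSet x 2 then 1 else 0) -
        2 * (if i ∈ (resSet x 2).filter (fun i => y i = -1) then 1 else 0) := by
      intro i
      by_cases hiS : i ∈ resSet x 2
      · rcases hyin i hiS with h | h
        · have : i ∉ (resSet x 2).filter (fun i => y i = -1) := by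
            intro hc'
            have := (Finset.mem_filter.mp hc').2
            rw [h] at this; norm_num at this
          rw [if_pos hiS, if_neg this, h]; norm_num
        · rw [if_pos hiS, if_pos (Finset.mem_filter.mpr ⟨hiS, h⟩), h]; norm_num
      · have : i ∉ (resSet x 2).filter (fun i => y i = -1) := fun hc' => hiS (hTsub hc')
        rw [if_neg hiS, if_neg this, hyout i hiS]; norm_num
    have hTeven : Even ((resSet x 2).filter (fun i => y i = -1)).card := by
      have e1 : ∑ i, y i = 12 - 2 * (((resSet x 2).filter (fun i => y i = -1)).card : ℤ) := by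
        have : ∑ i, y i = ∑ i, ((if i ∈ resSet x 2 then (1 : ℤ) else 0) -
            2 * (if i ∈ (resSet x 2).filter (fun i => y i = -1) then 1 else 0)) :=
          Finset.sum_congr rfl fun i _ => hyeq i
        rw [this, Finset.sum_sub_distrib, ← Finset.mul_sum, Helper5_LeechMin.sum_mem,
          Helper5_LeechMin.sum_mem, hc]
        norm_num
      rw [Nat.even_iff]
      omega
    refine ⟨⟨⟨resSet x 2, ⟨w, hw, hws⟩, hc⟩, ⟨_, hTsub, hTeven⟩⟩, ?_⟩
    funext i
    unfold psi12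
    simp only
    by_cases hiT : i ∈ (resSet x 2).filter (fun i => y i = -1)
    · rw [if_pos hiT, hy i, (Finset.mem_filter.mp hiT).2]; norm_num
    · rw [if_neg hiT]
      by_cases hiS : i ∈ resSet x 2
      · rw [if_pos hiS, hy i]
        rcases hyin i hiS with h | h
        · rw [h]; norm_num
        · exact absurd (Finset.mem_filter.mpr ⟨hiS, h⟩) hiT
      · rw [if_neg hiS, hy i, hyout i hiS]; norm_num
  · right
    have hu4 : ∑ i, (y i ^ 2 - (if i ∈ resSet x 2 then 1 else 0)) = 4 := by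
      rw [Finset.sum_sub_distrib, hny, Helper5_LeechMin.sum_mem, hc]; norm_num
    have hule : ∀ i, y i ^ 2 - (if i ∈ resSet x 2 then 1 else 0) ≤ 4 := by
      intro i
      rw [← hu4]
      exact Finset.single_le_sum (f := fun i => y i ^ 2 - (if i ∈ resSet x 2 then (1 : ℤ) else 0))
        (fun i _ => hu0 i) (Finset.mem_univ i)
    have hyin : ∀ i, i ∈ resSet x 2 → y i = 1 ∨ y i = -1 := by
      intro i hi
      have h5 := hule i
      rw [if_pos hi] at h5
      have h6 := odd_sq (y i) ((hyS i).mp hi)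
      have h7 : 0 ≤ y i ^ 2 / 8 := Int.ediv_nonneg (sq_nonneg _) (by norm_num)
      exact sq_eq_one _ (by omega)
    -- the coordinates outside S
    obtain ⟨a, ha⟩ : ∃ a : GolayPt → ℤ, ∀ i, i ∉ resSet x 2 → y i = 2 * a i :=
      ⟨fun i => y i / 2, fun i hi => by
        show y i = 2 * (y i / 2)
        have : ¬ (y i % 2 = 1) := fun h => hi ((hyS i).mpr h)
        omega⟩
    have hc0 : ∀ i, 0 ≤ (if i ∈ resSet x 2 then (0 : ℤ) else a i ^ 2) := by
      intro i; split_ifs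
      · exact le_refl _
      · exact sq_nonneg _
    have hu4c : ∀ i, y i ^ 2 - (if i ∈ resSet x 2 then 1 else 0) =
        4 * (if i ∈ resSet x 2 then (0 : ℤ) else a i ^ 2) := by
      intro i
      by_cases hi : i ∈ resSet x 2
      · rw [if_pos hi, if_pos hi]
        rcases hyin i hi with h | h <;> rw [h] <;> norm_num
      · rw [if_neg hi, if_neg hi, ha i hi]; ring
    have hc1 : ∑ i, (if i ∈ resSet x 2 then (0 : ℤ) else a i ^ 2) = 1 := by
      have : ∑ i, (y i ^ 2 - (if i ∈ resSet x 2 then 1 else 0)) =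
          4 * ∑ i, (if i ∈ resSet x 2 then (0 : ℤ) else a i ^ 2) := by
        rw [Finset.mul_sum]; exact Finset.sum_congr rfl fun i _ => hu4c i
      omega
    obtain ⟨k, hk1, hk0⟩ := exists_of_sum_one _ hc0 hc1
    have hkS : k ∉ resSet x 2 := by
      intro hk
      rw [if_pos hk] at hk1
      norm_num at hk1
    rw [if_neg hkS] at hk1
    have hak : a k = 1 ∨ a k = -1 := sq_eq_one _ hk1
    have hyk : y k = 2 ∨ y k = -2 := by
      rw [ha k hkS]; rcases hak with h | h <;> rw [h] <;> norm_num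
    have hyout : ∀ i, i ∉ resSet x 2 → i ≠ k → y i = 0 := by
      intro i hi hik
      have h5 := hk0 i hik
      rw [if_neg hi] at h5
      have h6 : a i = 0 := pow_eq_zero_iff (by norm_num) |>.mp h5
      rw [ha i hi, h6]; norm_num
    have hyeq : ∀ i, y i = (if i ∈ resSet x 2 then 1 else 0) -
        2 * (if i ∈ (resSet x 2).filter (fun i => y i = -1) then 1 else 0) +
        y k * (if i = k then 1 else 0) := by
      intro i
      by_cases hiS : i ∈ resSet x 2
      · have hik : i ≠ k := fun h => hkS (h ▸ hiS)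
        rcases hyin i hiS with h | h
        · have : i ∉ (resSet x 2).filter (fun i => y i = -1) := by
            intro hc'
            have := (Finset.mem_filter.mp hc').2
            rw [h] at this; norm_num at this
          rw [if_pos hiS, if_neg this, if_neg hik, h]; norm_num
        · rw [if_pos hiS, if_pos (Finset.mem_filter.mpr ⟨hiS, h⟩), if_neg hik, h]; norm_num
      · have : i ∉ (resSet x 2).filter (fun i => y i = -1) := fun hc' => hiS (hTsub hc')
        by_cases hik : i = k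
        · subst hik
          rw [if_neg hiS, if_neg this, if_pos rfl]; ring
        · rw [if_neg hiS, if_neg this, if_neg hik, hyout i hiS hik]; norm_num
    have hTodd : ¬ Even ((resSet x 2).filter (fun i => y i = -1)).card := by
      have e1 : ∑ i, y i = 8 - 2 * (((resSet x 2).filter (fun i => y i = -1)).card : ℤ) + y k := by
        have : ∑ i, y i = ∑ i, ((if i ∈ resSet x 2 then (1 : ℤ) else 0) -
            2 * (if i ∈ (resSet x 2).filter (fun i => y i = -1) then 1 else 0) +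
            y k * (if i = k then 1 else 0)) :=
          Finset.sum_congr rfl fun i _ => hyeq i
        rw [this, Finset.sum_add_distrib, Finset.sum_sub_distrib, ← Finset.mul_sum,
          ← Finset.mul_sum, Helper5_LeechMin.sum_mem, Helper5_LeechMin.sum_mem, sum_pt, hc]
        norm_num
      rw [Nat.even_iff]
      rcases hyk with h | h <;> rw [h] at e1 <;> omega
    refine ⟨⟨⟨resSet x 2, ⟨w, hw, hws⟩, hc⟩, ⟨_, hTsub, hTodd⟩, ⟨k, hkS⟩, decide (y k = 2)⟩, ?_⟩
    funext i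
    unfold psi4 sg
    simp only
    by_cases hiT : i ∈ (resSet x 2).filter (fun i => y i = -1)
    · have hiS : i ∈ resSet x 2 := hTsub hiT
      have hik : i ≠ k := fun h => hkS (h ▸ hiS)
      rw [if_pos hiT, if_neg hik, hy i, (Finset.mem_filter.mp hiT).2]; norm_num
    · rw [if_neg hiT]
      by_cases hiS : i ∈ resSet x 2
      · have hik : i ≠ k := fun h => hkS (h ▸ hiS)
        rw [if_pos hiS, if_neg hik, hy i]
        rcases hyin i hiS with h | h
        · rw [h]; norm_num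
        · exact absurd (Finset.mem_filter.mpr ⟨hiS, h⟩) hiT
      · rw [if_neg hiS]
        by_cases hik : i = k
        · subst hik
          rw [if_pos rfl, hy i]
          rcases hyk with h | h
          · simp [h]
          · simp [h]
        · rw [if_neg hik, hy i, hyout i hiS hik]; norm_num
  · exfalso
    have hempty : resSet x 2 = ∅ := Finset.card_eq_zero.mp hc
    have hye : ∀ i, y i % 2 = 0 := by
      intro i
      have : ¬ (y i % 2 = 1) := by
        rw [← hyS i, hempty]; exact Finset.notMem_empty _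
      omega
    obtain ⟨z, hz⟩ : ∃ z : GolayPt → ℤ, ∀ i, y i = 2 * z i :=
      ⟨fun i => y i / 2, fun i => by
        show y i = 2 * (y i / 2)
        have := hye i; omega⟩
    have hnz : ∑ i, z i ^ 2 = 3 := by
      have : ∑ i, y i ^ 2 = 4 * ∑ i, z i ^ 2 := by
        rw [Finset.mul_sum]; exact Finset.sum_congr rfl fun i _ => by rw [hz i]; ring
      omega
    have hy2 : ∑ i, y i = 2 * ∑ i, z i := by
      rw [Finset.mul_sum]; exact Finset.sum_congr rfl fun i _ => hz i
    have hq : ∀ i, ∃ q : ℤ, z i ^ 2 - z i = 2 * q := by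
      intro i
      have : (z i ^ 2 - z i) % 2 = 0 := by
        have h2 : z i ^ 2 - z i = z i * (z i - 1) := by ring
        rw [h2]
        rcases Int.emod_two_eq_zero_or_one (z i) with h | h
        · rw [Int.mul_emod, h]; norm_num
        · have : (z i - 1) % 2 = 0 := by omega
          rw [Int.mul_emod, this]; norm_num
      exact ⟨(z i ^ 2 - z i) / 2, by omega⟩
    choose q hq using hq
    have : ∑ i, (z i ^ 2 - z i) = 2 * ∑ i, q i := by
      rw [Finset.mul_sum]; exact Finset.sum_congr rfl fun i _ => hq i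
    rw [Finset.sum_sub_distrib, hnz] at this
    omega

/-! ### counting -/

theorem N48_eq : N48 = (Set.range psi5 ∪ Set.range psi3) ∪ (Set.range psi12 ∪ Set.range psi4) := by
  ext x
  constructor
  · intro hx
    rcases Int.emod_two_eq_zero_or_one (x none) with h | h
    · exact Or.inr (even_class hx h)
    · exact Or.inl (odd_class hx h)
  · rintro ((⟨p, rfl⟩ | ⟨p, rfl⟩) | (⟨p, rfl⟩ | ⟨p, rfl⟩))
    · exact psi5_mem p
    · exact psi3_mem p
    · exact psi12_mem p
    · exact psi4_mem p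

theorem psi5_vals (p : golayCode × GolayPt) (i : GolayPt) :
    psi5 p i = 5 ∨ psi5 p i = -5 ∨ psi5 p i = 1 ∨ psi5 p i = -1 := by
  rcases psi5_cases p i with ⟨_, ⟨_, h⟩ | ⟨_, h⟩⟩ | ⟨_, ⟨_, h⟩ | ⟨_, h⟩⟩ <;> rw [h] <;> norm_num

theorem psi3_vals (p : golayCode × Tri) (i : GolayPt) :
    psi3 p i = 3 ∨ psi3 p i = -3 ∨ psi3 p i = 1 ∨ psi3 p i = -1 := by
  rcases psi3_cases p i with ⟨_, ⟨_, h⟩ | ⟨_, h⟩⟩ | ⟨_, ⟨_, h⟩ | ⟨_, h⟩⟩ <;> rw [h] <;> norm_num

theorem psi4_vals (p : D4) (i : GolayPt) :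
    psi4 p i = 0 ∨ psi4 p i = 2 ∨ psi4 p i = -2 ∨ psi4 p i = 4 ∨ psi4 p i = -4 := by
  rcases psi4_cases p i with ⟨_, _, _, e⟩ | ⟨_, _, _, e⟩ | ⟨_, _, _, e⟩ | ⟨_, _, _, e⟩
  · rw [e]; norm_num
  · rw [e]; norm_num
  · rw [e]; rcases sg_cases p.2.2.2 with h | h <;> rw [h] <;> norm_num
  · rw [e]; norm_num

theorem psi5_at (p : golayCode × GolayPt) : psi5 p p.2 = 5 ∨ psi5 p p.2 = -5 := by
  rcases psi5_cases p p.2 with ⟨_, ⟨_, h⟩ | ⟨_, h⟩⟩ | ⟨h0, _⟩
  · right; exact h
  · left; exact h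
  · exact absurd rfl h0

theorem psi3_at (p : golayCode × Tri) (i : GolayPt) (hi : i ∈ p.2.1) :
    psi3 p i = 3 ∨ psi3 p i = -3 := by
  rcases psi3_cases p i with ⟨_, ⟨_, h⟩ | ⟨_, h⟩⟩ | ⟨h0, _⟩
  · left; exact h
  · right; exact h
  · exact absurd hi h0

theorem psi3_at' (p : golayCode × Tri) (i : GolayPt) (hi : i ∉ p.2.1) :
    psi3 p i = 1 ∨ psi3 p i = -1 := by
  rcases psi3_cases p i with ⟨h0, _⟩ | ⟨_, ⟨_, h⟩ | ⟨_, h⟩⟩
  · exact absurd h0 hi
  · right; exact h
  · left; exact h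

theorem abs3 (a : ℤ) : |a| = 3 ↔ a = 3 ∨ a = -3 := abs_eq (by norm_num)
theorem abs4 (a : ℤ) : |a| = 4 ↔ a = 4 ∨ a = -4 := abs_eq (by norm_num)
theorem abs5 (a : ℤ) : |a| = 5 ↔ a = 5 ∨ a = -5 := abs_eq (by norm_num)

/-- the first census set -/
theorem set1_eq : {x : GolayPt → ℤ | x ∈ leechLattice ∧ sqNorm x = 48 ∧
    ∀ i, x i = 0 ∨ x i = 2 ∨ x i = -2} = Set.range psi12 := by
  ext x
  constructor
  · rintro ⟨h1, h2, h3⟩
    have hx : x ∈ N48 := ⟨h1, h2⟩
    rw [N48_eq] at hx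
    rcases hx with (⟨p, rfl⟩ | ⟨p, rfl⟩) | (⟨p, rfl⟩ | ⟨p, rfl⟩)
    · exfalso
      rcases psi5_vals p none with h | h | h | h <;> rcases h3 none with h' | h' | h' <;> omega
    · exfalso
      rcases psi3_vals p none with h | h | h | h <;> rcases h3 none with h' | h' | h' <;> omega
    · exact ⟨p, rfl⟩
    · exfalso
      have := psi4_at p
      rcases sg_cases p.2.2.2 with h | h <;> rcases h3 p.2.2.1.1 with h' | h' | h' <;> omega
  · rintro ⟨p, rfl⟩
    have := psi12_mem p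
    exact ⟨this.1, this.2, psi12_vals p⟩

theorem set2_eq : {x : GolayPt → ℤ | x ∈ leechLattice ∧ sqNorm x = 48 ∧
    ∃ i j k, i ≠ j ∧ j ≠ k ∧ i ≠ k ∧ |x i| = 3 ∧ |x j| = 3 ∧ |x k| = 3} = Set.range psi3 := by
  ext x
  constructor
  · rintro ⟨h1, h2, i, j, k, _, _, _, hi, _, _⟩
    have hx : x ∈ N48 := ⟨h1, h2⟩
    rw [abs3] at hi
    rw [N48_eq] at hx
    rcases hx with (⟨p, rfl⟩ | ⟨p, rfl⟩) | (⟨p, rfl⟩ | ⟨p, rfl⟩)
    · exfalso
      rcases psi5_vals p i with h | h | h | h <;> rcases hi with h' | h' <;> omega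
    · exact ⟨p, rfl⟩
    · exfalso
      rcases psi12_vals p i with h | h | h <;> rcases hi with h' | h' <;> omega
    · exfalso
      rcases psi4_vals p i with h | h | h | h | h <;> rcases hi with h' | h' <;> omega
  · rintro ⟨p, rfl⟩
    have := psi3_mem p
    refine ⟨this.1, this.2, ?_⟩
    obtain ⟨a, b, c, hab, hac, hbc, hJ⟩ := Finset.card_eq_three.mp p.2.2
    have ha : a ∈ p.2.1 := by rw [hJ]; simp
    have hb : b ∈ p.2.1 := by rw [hJ]; simp
    have hc : c ∈ p.2.1 := by rw [hJ]; simp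
    exact ⟨a, b, c, hab, hbc, hac, (abs3 _).mpr (psi3_at p a ha), (abs3 _).mpr (psi3_at p b hb),
      (abs3 _).mpr (psi3_at p c hc)⟩

theorem set3_eq : {x : GolayPt → ℤ | x ∈ leechLattice ∧ sqNorm x = 48 ∧ ∃ i, |x i| = 4} =
    Set.range psi4 := by
  ext x
  constructor
  · rintro ⟨h1, h2, i, hi⟩
    have hx : x ∈ N48 := ⟨h1, h2⟩
    rw [abs4] at hi
    rw [N48_eq] at hx
    rcases hx with (⟨p, rfl⟩ | ⟨p, rfl⟩) | (⟨p, rfl⟩ | ⟨p, rfl⟩)
    · exfalso
      rcases psi5_vals p i with h | h | h | h <;> rcases hi with h' | h' <;> omega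
    · exfalso
      rcases psi3_vals p i with h | h | h | h <;> rcases hi with h' | h' <;> omega
    · exfalso
      rcases psi12_vals p i with h | h | h <;> rcases hi with h' | h' <;> omega
    · exact ⟨p, rfl⟩
  · rintro ⟨p, rfl⟩
    have := psi4_mem p
    refine ⟨this.1, this.2, p.2.2.1.1, ?_⟩
    rw [abs4, psi4_at]
    exact sg_cases _

theorem set4_eq : {x : GolayPt → ℤ | x ∈ leechLattice ∧ sqNorm x = 48 ∧ ∃ i, |x i| = 5} =
    Set.range psi5 := by
  ext x
  constructor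
  · rintro ⟨h1, h2, i, hi⟩
    have hx : x ∈ N48 := ⟨h1, h2⟩
    rw [abs5] at hi
    rw [N48_eq] at hx
    rcases hx with (⟨p, rfl⟩ | ⟨p, rfl⟩) | (⟨p, rfl⟩ | ⟨p, rfl⟩)
    · exact ⟨p, rfl⟩
    · exfalso
      rcases psi3_vals p i with h | h | h | h <;> rcases hi with h' | h' <;> omega
    · exfalso
      rcases psi12_vals p i with h | h | h <;> rcases hi with h' | h' <;> omega
    · exfalso
      rcases psi4_vals p i with h | h | h | h | h <;> rcases hi with h' | h' <;> omega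
  · rintro ⟨p, rfl⟩
    have := psi5_mem p
    exact ⟨this.1, this.2, p.2, (abs5 _).mpr (psi5_at p)⟩

theorem card_code : Nat.card golayCode = 4096 := by
  have h := Module.natCard_eq_pow_finrank (K := ZMod 2) (V := golayCode)
  rw [finrank_golay, Nat.card_zmod] at h
  rw [h]; norm_num

theorem card_P5 : Nat.card (golayCode × GolayPt) = 98304 := by
  rw [Nat.card_prod, card_code, Nat.card_eq_fintype_card (α := GolayPt)]
  have : Fintype.card GolayPt = 24 := by rw [← Finset.card_univ]; exact card_univ_pt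
  rw [this]

theorem card_pt : Fintype.card GolayPt = 24 := by
  rw [← Finset.card_univ]; exact card_univ_pt

theorem choose_24_3 : Nat.choose 24 3 = 2024 := by decide

theorem card_Tri : Nat.card Tri = 2024 := by
  have e : Tri ≃ ↥(Finset.powersetCard 3 (Finset.univ : Finset GolayPt)) :=
    Equiv.subtypeEquivRight (fun J => by simp [Finset.mem_powersetCard])
  rw [Nat.card_congr e, Nat.card_eq_fintype_card, Fintype.card_coe, Finset.card_powersetCard,
    card_univ_pt, choose_24_3]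

theorem card_P3 : Nat.card (golayCode × Tri) = 8290304 := by
  rw [Nat.card_prod, card_code, card_Tri]

theorem card_fiber12 (O : dodecads) :
    Nat.card {T : Finset GolayPt // T ⊆ O.1 ∧ Even T.card} = 2048 := by
  classical
  rw [Nat.card_eq_fintype_card, Fintype.card_subtype]
  have : (Finset.univ.filter fun T : Finset GolayPt => T ⊆ O.1 ∧ Even T.card) =
      O.1.powerset.filter fun T => Even T.card := by
    ext T
    simp [Finset.mem_powerset]
  rw [this]
  have hO : O.1.card = 12 := O.2.2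
  have hne : O.1.Nonempty := by
    rw [← Finset.card_pos, hO]; norm_num
  have := card_even_subsets O.1 hne
  rw [hO] at this
  omega

instance : Finite D12 := by unfold D12; infer_instance

theorem card_D12 : Nat.card D12 = 5275648 := by
  classical
  haveI : Fintype dodecads := Fintype.ofFinite _
  unfold D12
  rw [Nat.card_sigma]
  simp only [card_fiber12, Finset.sum_const, Finset.card_univ, smul_eq_mul]
  rw [← Nat.card_eq_fintype_card, _root_.Nat.card_coe_set_eq, ncard_dodecads]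

theorem card_fiber4 (O : octads) :
    Nat.card ({T : Finset GolayPt // T ⊆ O.1 ∧ ¬ Even T.card} × {k : GolayPt // k ∉ O.1} × Bool) =
      4096 := by
  classical
  rw [Nat.card_prod, Nat.card_prod]
  have hO : O.1.card = 8 := O.2.2
  have h1 : Nat.card {T : Finset GolayPt // T ⊆ O.1 ∧ ¬ Even T.card} = 128 := by
    rw [Nat.card_eq_fintype_card, Fintype.card_subtype]
    have : (Finset.univ.filter fun T : Finset GolayPt => T ⊆ O.1 ∧ ¬ Even T.card) =
        O.1.powerset.filter fun T => ¬ Even T.card := by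
      ext T
      simp [Finset.mem_powerset]
    rw [this]
    have hne : O.1.Nonempty := by
      rw [← Finset.card_pos, hO]; norm_num
    have h2 := card_even_subsets O.1 hne
    have h3 := Finset.card_filter_add_card_filter_not (s := O.1.powerset) (fun T => Even T.card)
    rw [Finset.card_powerset] at h3
    rw [hO] at h2 h3
    omega
  have h2 : Nat.card {k : GolayPt // k ∉ O.1} = 16 := by
    rw [Nat.card_eq_fintype_card, Fintype.card_subtype]
    have : (Finset.univ.filter fun k : GolayPt => k ∉ O.1) = O.1ᶜ := by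
      ext k; simp
    have hpt : Fintype.card GolayPt = 24 := by rw [← Finset.card_univ]; exact card_univ_pt
    rw [this, Finset.card_compl, hO, hpt]
  rw [h1, h2, Nat.card_eq_fintype_card (α := Bool), Fintype.card_bool]

instance : Finite D4 := by unfold D4; infer_instance

theorem card_D4 : Nat.card D4 = 3108864 := by
  classical
  haveI : Fintype octads := Fintype.ofFinite _
  unfold D4
  rw [Nat.card_sigma]
  simp only [card_fiber4, Finset.sum_const, Finset.card_univ, smul_eq_mul]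
  rw [← Nat.card_eq_fintype_card, _root_.Nat.card_coe_set_eq, ncard_octads]

theorem census : {x : GolayPt → ℤ | x ∈ leechLattice ∧ sqNorm x = 48 ∧
      ∀ i, x i = 0 ∨ x i = 2 ∨ x i = -2}.ncard = 5275648 ∧
    {x : GolayPt → ℤ | x ∈ leechLattice ∧ sqNorm x = 48 ∧
      ∃ i j k, i ≠ j ∧ j ≠ k ∧ i ≠ k ∧ |x i| = 3 ∧ |x j| = 3 ∧ |x k| = 3}.ncard = 8290304 ∧
    {x : GolayPt → ℤ | x ∈ leechLattice ∧ sqNorm x = 48 ∧ ∃ i, |x i| = 4}.ncard = 3108864 ∧
    {x : GolayPt → ℤ | x ∈ leechLattice ∧ sqNorm x = 48 ∧ ∃ i, |x i| = 5}.ncard = 98304 := by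
  rw [set1_eq, set2_eq, set3_eq, set4_eq, Set.ncard_range_of_injective psi12_injective,
    Set.ncard_range_of_injective psi3_injective, Set.ncard_range_of_injective psi4_injective,
    Set.ncard_range_of_injective psi5_injective, card_D12, card_P3, card_D4, card_P5]
  exact ⟨rfl, rfl, rfl, rfl⟩

theorem disjA : Disjoint (Set.range psi5) (Set.range psi3) := by
  rw [Set.disjoint_left]
  rintro x ⟨p, rfl⟩ ⟨q, hq⟩
  have h1 := psi5_at p
  have h2 := psi3_vals q p.2
  rw [hq] at h2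
  rcases h1 with h | h <;> rcases h2 with h' | h' | h' | h' <;> omega

theorem disjB : Disjoint (Set.range psi12) (Set.range psi4) := by
  rw [Set.disjoint_left]
  rintro x ⟨p, rfl⟩ ⟨q, hq⟩
  have h1 := psi4_at q
  rw [hq] at h1
  have h2 := psi12_vals p q.2.2.1.1
  rcases sg_cases q.2.2.2 with h | h <;> rcases h2 with h' | h' | h' <;> omega

theorem disjC : Disjoint (Set.range psi5 ∪ Set.range psi3) (Set.range psi12 ∪ Set.range psi4) := by
  rw [Set.disjoint_left]
  rintro x (⟨p, rfl⟩ | ⟨p, rfl⟩) (⟨q, hq⟩ | ⟨q, hq⟩)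
  · have h1 := psi5_vals p none
    have h2 := psi12_vals q none
    rw [hq] at h2
    rcases h1 with h | h | h | h <;> rcases h2 with h' | h' | h' <;> omega
  · have h1 := psi5_vals p none
    have h2 := psi4_vals q none
    rw [hq] at h2
    rcases h1 with h | h | h | h <;> rcases h2 with h' | h' | h' | h' | h' <;> omega
  · have h1 := psi3_vals p none
    have h2 := psi12_vals q none
    rw [hq] at h2
    rcases h1 with h | h | h | h <;> rcases h2 with h' | h' | h' <;> omega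
  · have h1 := psi3_vals p none
    have h2 := psi4_vals q none
    rw [hq] at h2
    rcases h1 with h | h | h | h <;> rcases h2 with h' | h' | h' | h' | h' <;> omega

theorem main : {x : GolayPt → ℤ | x ∈ leechLattice ∧ sqNorm x = 48}.ncard = 16773120 := by
  change N48.ncard = 16773120
  rw [N48_eq, Set.ncard_union_eq disjC ((Set.finite_range _).union (Set.finite_range _))
    ((Set.finite_range _).union (Set.finite_range _)),
    Set.ncard_union_eq disjA (Set.finite_range _) (Set.finite_range _),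
    Set.ncard_union_eq disjB (Set.finite_range _) (Set.finite_range _),
    Set.ncard_range_of_injective psi12_injective,
    Set.ncard_range_of_injective psi3_injective, Set.ncard_range_of_injective psi4_injective,
    Set.ncard_range_of_injective psi5_injective, card_D12, card_P3, card_D4, card_P5]

end Cfsg.Agent.Lib.Helper5_Leech48
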