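import Mathlib
import Cfsg.Prelude.Def_SporadicCombinatorics
import Cfsg.Agent.Lib.Helper1_Golay
import Cfsg.Agent.Lib.Helper1_Golay2
import Cfsg.Agent.Lib.Helper5_LeechMin
import Cfsg.Agent.Lib.Helper5_Leech48
set_option autoImplicit false
open Cfsg
open Cfsg.Agent.Lib.Helper1_Golay
open Cfsg.Agent.Lib.Helper5_LeechMin
namespace Cfsg.Agent.Lib.Helper5_Leech64

local notation "𝒢" => supports (golayCode : Set (GolayPt → ZMod 2))

/-- the set of vectors of norm 64 -/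
def N64 : Set (GolayPt → ℤ) := {x | x ∈ leechLattice ∧ sqNorm x = 64}

theorem mem_N64 (x : GolayPt → ℤ) : x ∈ N64 ↔
    (∃ m : ℤ, (∀ i, x i % 2 = m % 2) ∧ ((∑ i, x i) % 8 = (4 * m) % 8) ∧ resSet x m ∈ 𝒢) ∧
      ∑ i, x i ^ 2 = 64 := by
  unfold N64
  rw [Set.mem_ofPred_eq, mem_leechLattice_iff, mem_leechSet_iff]
  rfl

theorem sumMem (S : Finset GolayPt) : ∑ i : GolayPt, (if i ∈ S then (1 : ℤ) else 0) = S.card :=
  Helper5_LeechMin.sum_mem S

/-- signed indicator: `-c` on `T`, `c` on `J \ T`, `0` elsewhere -/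
def ss (J T : Finset GolayPt) (c : ℤ) (i : GolayPt) : ℤ :=
  if i ∈ T then -c else if i ∈ J then c else 0

theorem ss_cases (J T : Finset GolayPt) (hT : T ⊆ J) (c : ℤ) (i : GolayPt) :
    (i ∈ T ∧ i ∈ J ∧ ss J T c i = -c) ∨ (i ∉ T ∧ i ∈ J ∧ ss J T c i = c) ∨
      (i ∉ T ∧ i ∉ J ∧ ss J T c i = 0) := by
  unfold ss
  by_cases h1 : i ∈ T
  · left; exact ⟨h1, hT h1, if_pos h1⟩
  · by_cases h2 : i ∈ J
    · right; left; exact ⟨h1, h2, by rw [if_neg h1, if_pos h2]⟩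
    · right; right; exact ⟨h1, h2, by rw [if_neg h1, if_neg h2]⟩

theorem ss_eq (J T : Finset GolayPt) (hT : T ⊆ J) (c : ℤ) (i : GolayPt) :
    ss J T c i = c * (if i ∈ J then 1 else 0) - 2 * c * (if i ∈ T then 1 else 0) := by
  rcases ss_cases J T hT c i with ⟨h1, h2, e⟩ | ⟨h1, h2, e⟩ | ⟨h1, h2, e⟩
  · rw [e, if_pos h1, if_pos h2]; ring
  · rw [e, if_neg h1, if_pos h2]; ring
  · rw [e, if_neg h1, if_neg h2]; ring

theorem ss_sq (J T : Finset GolayPt) (hT : T ⊆ J) (c : ℤ) (i : GolayPt) :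
    ss J T c i ^ 2 = c ^ 2 * (if i ∈ J then 1 else 0) := by
  rcases ss_cases J T hT c i with ⟨h1, h2, e⟩ | ⟨h1, h2, e⟩ | ⟨h1, h2, e⟩
  · rw [e, if_pos h2]; ring
  · rw [e, if_pos h2]; ring
  · rw [e, if_neg h2]; ring

theorem sum_ss (J T : Finset GolayPt) (hT : T ⊆ J) (c : ℤ) :
    ∑ i, ss J T c i = c * J.card - 2 * c * T.card := by
  simp only [ss_eq J T hT]
  rw [Finset.sum_sub_distrib, ← Finset.mul_sum, ← Finset.mul_sum, sumMem, sumMem]

theorem sum_ss_sq (J T : Finset GolayPt) (hT : T ⊆ J) (c : ℤ) :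
    ∑ i, ss J T c i ^ 2 = c ^ 2 * J.card := by
  simp only [ss_sq J T hT]
  rw [← Finset.mul_sum, sumMem]

theorem ss_injective {J T J' T' : Finset GolayPt} (hT : T ⊆ J) (hT' : T' ⊆ J') {c : ℤ} (hc : 0 < c)
    (h : ∀ i, ss J T c i = ss J' T' c i) : J = J' ∧ T = T' := by
  constructor
  · ext i
    have h1 := h i
    rcases ss_cases J T hT c i with ⟨_, a2, e⟩ | ⟨_, a2, e⟩ | ⟨_, a2, e⟩ <;>
    rcases ss_cases J' T' hT' c i with ⟨_, b2, e'⟩ | ⟨_, b2, e'⟩ | ⟨_, b2, e'⟩ <;>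
    first
    | exact ⟨fun _ => b2, fun _ => a2⟩
    | exact ⟨fun hh => absurd hh a2, fun hh => absurd hh b2⟩
    | (exfalso; rw [e, e'] at h1; omega)
  · ext i
    have h1 := h i
    rcases ss_cases J T hT c i with ⟨a1, _, e⟩ | ⟨a1, _, e⟩ | ⟨a1, _, e⟩ <;>
    rcases ss_cases J' T' hT' c i with ⟨b1, _, e'⟩ | ⟨b1, _, e'⟩ | ⟨b1, _, e'⟩ <;>
    first
    | exact ⟨fun _ => b1, fun _ => a1⟩
    | exact ⟨fun hh => absurd hh a1, fun hh => absurd hh b1⟩
    | (exfalso; rw [e, e'] at h1; omega)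

theorem even_mem {x : GolayPt → ℤ} (hev : ∀ i, x i % 2 = 0) (hsum : (∑ i, x i) % 8 = 0)
    (hres : resSet x 2 ∈ 𝒢) (hsq : ∑ i, x i ^ 2 = 64) : x ∈ N64 := by
  rw [mem_N64]
  exact ⟨⟨2, fun i => by rw [hev i]; norm_num, by omega, hres⟩, hsq⟩

theorem odd_mem {x : GolayPt → ℤ} (hodd : ∀ i, x i % 2 = 1) (hsum : (∑ i, x i) % 8 = 4)
    (hres : resSet x 1 ∈ 𝒢) (hsq : ∑ i, x i ^ 2 = 64) : x ∈ N64 := by
  rw [mem_N64]
  exact ⟨⟨1, fun i => by rw [hodd i]; norm_num, by omega, hres⟩, hsq⟩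

theorem resSet_ss (J T : Finset GolayPt) (hT : T ⊆ J) : resSet (ss J T 2) 2 = J := by
  ext i
  rw [mem_resSet]
  rcases ss_cases J T hT 2 i with ⟨_, h2, e⟩ | ⟨_, h2, e⟩ | ⟨_, h2, e⟩ <;> rw [e] <;> simp [h2]

/-! ### F1 : (±2^16, 0^8) -/

def W16 : Set (Finset GolayPt) := wordsOfWeight (golayCode : Set (GolayPt → ZMod 2)) 16

def D1 : Type := Σ O : W16, {T : Finset GolayPt // T ⊆ O.1 ∧ Even T.card}

def f1 (p : D1) : GolayPt → ℤ := ss p.1.1 p.2.1 2

theorem f1_mem (p : D1) : f1 p ∈ N64 := by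
  have hO : p.1.1 ∈ 𝒢 ∧ p.1.1.card = 16 := p.1.2
  obtain ⟨k, hk⟩ := p.2.2.2
  apply even_mem
  · intro i
    rcases ss_cases p.1.1 p.2.1 p.2.2.1 2 i with ⟨_, _, e⟩ | ⟨_, _, e⟩ | ⟨_, _, e⟩ <;>
      (unfold f1; rw [e]) <;> norm_num
  · unfold f1
    rw [sum_ss _ _ p.2.2.1, hO.2, hk]; push_cast; omega
  · unfold f1
    rw [resSet_ss _ _ p.2.2.1]; exact hO.1
  · unfold f1
    rw [sum_ss_sq _ _ p.2.2.1, hO.2]; norm_num

theorem f1_injective : Function.Injective f1 := by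
  rintro ⟨O, T⟩ ⟨O', T'⟩ h
  have := ss_injective T.2.1 T'.2.1 (by norm_num : (0 : ℤ) < 2) (fun i => congrFun h i)
  obtain ⟨h1, h2⟩ := this
  have hO : O = O' := Subtype.ext h1
  subst hO
  have hT : T = T' := Subtype.ext h2
  rw [hT]

theorem f1_vals (p : D1) (i : GolayPt) : f1 p i = 0 ∨ f1 p i = 2 ∨ f1 p i = -2 := by
  unfold f1
  rcases ss_cases p.1.1 p.2.1 p.2.2.1 2 i with ⟨_, _, e⟩ | ⟨_, _, e⟩ | ⟨_, _, e⟩ <;> rw [e] <;> simp

/-! ### F5 : (±4^4, 0^20) -/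

def D5 : Type := Σ J : {J : Finset GolayPt // J.card = 4}, {T : Finset GolayPt // T ⊆ J.1}

def f5 (p : D5) : GolayPt → ℤ := ss p.1.1 p.2.1 4

theorem f5_vals (p : D5) (i : GolayPt) : f5 p i = 0 ∨ f5 p i = 4 ∨ f5 p i = -4 := by
  unfold f5
  rcases ss_cases p.1.1 p.2.1 p.2.2 4 i with ⟨_, _, e⟩ | ⟨_, _, e⟩ | ⟨_, _, e⟩ <;> rw [e] <;> simp

theorem f5_mem (p : D5) : f5 p ∈ N64 := by
  apply even_mem
  · intro i
    rcases f5_vals p i with h | h | h <;> rw [h] <;> norm_num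
  · unfold f5
    rw [sum_ss _ _ p.2.2, p.1.2]; push_cast; omega
  · have : resSet (f5 p) 2 = ∅ := by
      ext i
      rw [mem_resSet]
      rcases f5_vals p i with h | h | h <;> rw [h] <;> simp
    rw [this]; exact empty_mem
  · unfold f5
    rw [sum_ss_sq _ _ p.2.2, p.1.2]; norm_num

theorem f5_injective : Function.Injective f5 := by
  rintro ⟨J, T⟩ ⟨J', T'⟩ h
  have := ss_injective T.2 T'.2 (by norm_num : (0 : ℤ) < 4) (fun i => congrFun h i)
  obtain ⟨h1, h2⟩ := this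
  have hJ : J = J' := Subtype.ext h1
  subst hJ
  have hT : T = T' := Subtype.ext h2
  rw [hT]

/-! ### F6 : (±8, 0^23) -/

def f6 (p : GolayPt × Bool) : GolayPt → ℤ := fun i => if i = p.1 then 2 * sg p.2 else 0

theorem f6_vals (p : GolayPt × Bool) (i : GolayPt) : f6 p i = 0 ∨ f6 p i = 8 ∨ f6 p i = -8 := by
  unfold f6
  split_ifs
  · rcases sg_cases p.2 with h | h <;> rw [h] <;> norm_num
  · left; rfl

theorem f6_at (p : GolayPt × Bool) : f6 p p.1 = 2 * sg p.2 := by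
  unfold f6; rw [if_pos rfl]

theorem f6_mem (p : GolayPt × Bool) : f6 p ∈ N64 := by
  have h1 : ∀ i, f6 p i = 2 * sg p.2 * (if i = p.1 then 1 else 0) := by
    intro i; unfold f6; split_ifs <;> ring
  apply even_mem
  · intro i
    rcases f6_vals p i with h | h | h <;> rw [h] <;> norm_num
  · simp only [h1]
    rw [← Finset.mul_sum, sum_pt]
    rcases sg_cases p.2 with h | h <;> rw [h] <;> norm_num
  · have : resSet (f6 p) 2 = ∅ := by
      ext i
      rw [mem_resSet]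
      rcases f6_vals p i with h | h | h <;> rw [h] <;> simp
    rw [this]; exact empty_mem
  · have h2 : ∀ i, f6 p i ^ 2 = 64 * (if i = p.1 then 1 else 0) := by
      intro i; unfold f6
      split_ifs
      · rcases sg_cases p.2 with h | h <;> rw [h] <;> norm_num
      · norm_num
    simp only [h2]
    rw [← Finset.mul_sum, sum_pt]; norm_num

theorem f6_injective : Function.Injective f6 := by
  rintro ⟨j, s⟩ ⟨j', s'⟩ h
  have hj : j = j' := by
    by_contra hne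
    have h1 := congrFun h j
    have e1 : f6 (j, s) j = 2 * sg s := f6_at (j, s)
    have e2 : f6 (j', s') j = 0 := by
      unfold f6; exact if_neg hne
    rw [e1, e2] at h1
    rcases sg_cases s with h | h <;> rw [h] at h1 <;> norm_num at h1
  subst hj
  have h1 := congrFun h j
  have e1 : f6 (j, s) j = 2 * sg s := f6_at (j, s)
  have e2 : f6 (j, s') j = 2 * sg s' := f6_at (j, s')
  rw [e1, e2] at h1
  have : sg s = sg s' := by omega
  rw [sg_injective this]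

/-! ### generic building blocks for F2, F3, F4 -/

/-- `ss O T 2` plus `±4` at a point `k` outside `O` -/
def gk (O T : Finset GolayPt) (k : GolayPt) (s : Bool) (i : GolayPt) : ℤ :=
  ss O T 2 i + (if i = k then sg s else 0)

theorem gk_cases {O T : Finset GolayPt} (hT : T ⊆ O) {k : GolayPt} (hk : k ∉ O) (s : Bool)
    (i : GolayPt) :
    (i ∈ T ∧ i ∈ O ∧ i ≠ k ∧ gk O T k s i = -2) ∨ (i ∉ T ∧ i ∈ O ∧ i ≠ k ∧ gk O T k s i = 2) ∨
    (i ∉ T ∧ i ∉ O ∧ i = k ∧ gk O T k s i = sg s) ∨ (i ∉ T ∧ i ∉ O ∧ i ≠ k ∧ gk O T k s i = 0) := by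
  unfold gk
  rcases ss_cases O T hT 2 i with ⟨h1, h2, e⟩ | ⟨h1, h2, e⟩ | ⟨h1, h2, e⟩
  · have h3 : i ≠ k := fun h => hk (h ▸ h2)
    left; exact ⟨h1, h2, h3, by rw [e, if_neg h3]; norm_num⟩
  · have h3 : i ≠ k := fun h => hk (h ▸ h2)
    right; left; exact ⟨h1, h2, h3, by rw [e, if_neg h3]; norm_num⟩
  · by_cases h3 : i = k
    · right; right; left; exact ⟨h1, h2, h3, by rw [e, if_pos h3]; norm_num⟩
    · right; right; right; exact ⟨h1, h2, h3, by rw [e, if_neg h3]; norm_num⟩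

theorem gk_vals {O T : Finset GolayPt} (hT : T ⊆ O) {k : GolayPt} (hk : k ∉ O) (s : Bool)
    (i : GolayPt) : gk O T k s i = 0 ∨ gk O T k s i = 2 ∨ gk O T k s i = -2 ∨
      gk O T k s i = 4 ∨ gk O T k s i = -4 := by
  rcases gk_cases hT hk s i with ⟨_, _, _, e⟩ | ⟨_, _, _, e⟩ | ⟨_, _, _, e⟩ | ⟨_, _, _, e⟩
  · rw [e]; norm_num
  · rw [e]; norm_num
  · rw [e]; rcases sg_cases s with h | h <;> rw [h] <;> norm_num
  · rw [e]; norm_num

theorem gk_at {O T : Finset GolayPt} (hT : T ⊆ O) {k : GolayPt} (hk : k ∉ O) (s : Bool) :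
    gk O T k s k = sg s := by
  rcases gk_cases hT hk s k with ⟨_, _, h3, _⟩ | ⟨_, _, h3, _⟩ | ⟨_, _, _, e⟩ | ⟨_, _, h3, _⟩
  · exact absurd rfl h3
  · exact absurd rfl h3
  · exact e
  · exact absurd rfl h3

theorem gk_mod4 {O T : Finset GolayPt} (hT : T ⊆ O) {k : GolayPt} (hk : k ∉ O) (s : Bool)
    (i : GolayPt) : gk O T k s i % 4 = 2 ↔ i ∈ O := by
  rcases gk_cases hT hk s i with ⟨_, h2, _, e⟩ | ⟨_, h2, _, e⟩ | ⟨_, h2, _, e⟩ | ⟨_, h2, _, e⟩
  · rw [e]; exact ⟨fun _ => h2, fun _ => by norm_num⟩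
  · rw [e]; exact ⟨fun _ => h2, fun _ => by norm_num⟩
  · rw [e]
    rcases sg_cases s with h | h <;> rw [h] <;>
      exact ⟨fun hh => by norm_num at hh, fun hh => absurd hh h2⟩
  · rw [e]; exact ⟨fun hh => by norm_num at hh, fun hh => absurd hh h2⟩

theorem gk_neg2 {O T : Finset GolayPt} (hT : T ⊆ O) {k : GolayPt} (hk : k ∉ O) (s : Bool)
    (i : GolayPt) : gk O T k s i = -2 ↔ i ∈ T := by
  rcases gk_cases hT hk s i with ⟨h2, _, _, e⟩ | ⟨h2, _, _, e⟩ | ⟨h2, _, _, e⟩ | ⟨h2, _, _, e⟩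
  · rw [e]; exact ⟨fun _ => h2, fun _ => rfl⟩
  · rw [e]; exact ⟨fun hh => by norm_num at hh, fun hh => absurd hh h2⟩
  · rw [e]
    rcases sg_cases s with h | h <;> rw [h] <;>
      exact ⟨fun hh => by norm_num at hh, fun hh => absurd hh h2⟩
  · rw [e]; exact ⟨fun hh => by norm_num at hh, fun hh => absurd hh h2⟩

theorem gk_four {O T : Finset GolayPt} (hT : T ⊆ O) {k : GolayPt} (hk : k ∉ O) (s : Bool)
    (i : GolayPt) : (gk O T k s i = 4 ∨ gk O T k s i = -4) ↔ i = k := by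
  rcases gk_cases hT hk s i with ⟨_, _, h3, e⟩ | ⟨_, _, h3, e⟩ | ⟨_, _, h3, e⟩ | ⟨_, _, h3, e⟩
  · rw [e]; exact ⟨fun hh => by rcases hh with hh | hh <;> norm_num at hh, fun hh => absurd hh h3⟩
  · rw [e]; exact ⟨fun hh => by rcases hh with hh | hh <;> norm_num at hh, fun hh => absurd hh h3⟩
  · rw [e]; exact ⟨fun _ => h3, fun _ => sg_cases _⟩
  · rw [e]; exact ⟨fun hh => by rcases hh with hh | hh <;> norm_num at hh, fun hh => absurd hh h3⟩

theorem sum_gk {O T : Finset GolayPt} (hT : T ⊆ O) (k : GolayPt) (s : Bool) :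
    ∑ i, gk O T k s i = 2 * O.card - 4 * T.card + sg s := by
  unfold gk
  rw [Finset.sum_add_distrib, sum_ss O T hT]
  have : ∀ i, (if i = k then sg s else 0) = sg s * (if i = k then 1 else 0) := by
    intro i; split_ifs <;> ring
  simp only [this]
  rw [← Finset.mul_sum, sum_pt]
  ring

theorem sum_gk_sq {O T : Finset GolayPt} (hT : T ⊆ O) {k : GolayPt} (hk : k ∉ O) (s : Bool) :
    ∑ i, gk O T k s i ^ 2 = 4 * O.card + 16 := by
  have h1 : ∀ i, gk O T k s i ^ 2 = 4 * (if i ∈ O then 1 else 0) +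
      16 * (if i = k then 1 else 0) := by
    intro i
    rcases gk_cases hT hk s i with ⟨_, h2, h3, e⟩ | ⟨_, h2, h3, e⟩ | ⟨_, h2, h3, e⟩ | ⟨_, h2, h3, e⟩
    · rw [e, if_pos h2, if_neg h3]; norm_num
    · rw [e, if_pos h2, if_neg h3]; norm_num
    · rw [e, if_neg h2, if_pos h3]
      rcases sg_cases s with h | h <;> rw [h] <;> norm_num
    · rw [e, if_neg h2, if_neg h3]; norm_num
  simp only [h1]
  rw [Finset.sum_add_distrib, ← Finset.mul_sum, ← Finset.mul_sum, sumMem, sum_pt]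
  ring

theorem gk_inj {O T O' T' : Finset GolayPt} (hT : T ⊆ O) (hT' : T' ⊆ O') {k k' : GolayPt}
    (hk : k ∉ O) (hk' : k' ∉ O') {s s' : Bool} (h : gk O T k s = gk O' T' k' s') :
    O = O' ∧ T = T' ∧ k = k' ∧ s = s' := by
  have hO : O = O' := by
    ext i
    rw [← gk_mod4 hT hk s i, ← gk_mod4 hT' hk' s' i, h]
  have hTT : T = T' := by
    ext i
    rw [← gk_neg2 hT hk s i, ← gk_neg2 hT' hk' s' i, h]
  have hkk : k = k' := by
    have h1 := (gk_four hT hk s k).mpr rfl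
    rw [h] at h1
    exact (gk_four hT' hk' s' k).mp h1
  subst hkk
  refine ⟨hO, hTT, rfl, ?_⟩
  apply sg_injective
  rw [← gk_at hT hk s, ← gk_at hT' hk' s', h]

/-- `ss O T 2` with the value at `j ∈ O` tripled -/
def g3 (O T : Finset GolayPt) (j : GolayPt) (i : GolayPt) : ℤ :=
  ss O T 2 i * (if i = j then 3 else 1)

theorem g3_cases {O T : Finset GolayPt} (hT : T ⊆ O) {j : GolayPt} (hj : j ∈ O) (i : GolayPt) :
    (i ∈ T ∧ i ∈ O ∧ i = j ∧ g3 O T j i = -6) ∨ (i ∉ T ∧ i ∈ O ∧ i = j ∧ g3 O T j i = 6) ∨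
    (i ∈ T ∧ i ∈ O ∧ i ≠ j ∧ g3 O T j i = -2) ∨ (i ∉ T ∧ i ∈ O ∧ i ≠ j ∧ g3 O T j i = 2) ∨
    (i ∉ T ∧ i ∉ O ∧ i ≠ j ∧ g3 O T j i = 0) := by
  unfold g3
  rcases ss_cases O T hT 2 i with ⟨h1, h2, e⟩ | ⟨h1, h2, e⟩ | ⟨h1, h2, e⟩
  · by_cases h3 : i = j
    · left; exact ⟨h1, h2, h3, by rw [e, if_pos h3]; norm_num⟩
    · right; right; left; exact ⟨h1, h2, h3, by rw [e, if_neg h3]; norm_num⟩
  · by_cases h3 : i = j
    · right; left; exact ⟨h1, h2, h3, by rw [e, if_pos h3]; norm_num⟩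
    · right; right; right; left; exact ⟨h1, h2, h3, by rw [e, if_neg h3]; norm_num⟩
  · have h3 : i ≠ j := fun h => h2 (h ▸ hj)
    right; right; right; right; exact ⟨h1, h2, h3, by rw [e, if_neg h3]; norm_num⟩

theorem g3_vals {O T : Finset GolayPt} (hT : T ⊆ O) {j : GolayPt} (hj : j ∈ O) (i : GolayPt) :
    g3 O T j i = 0 ∨ g3 O T j i = 2 ∨ g3 O T j i = -2 ∨ g3 O T j i = 6 ∨ g3 O T j i = -6 := by
  rcases g3_cases hT hj i with ⟨_, _, _, e⟩ | ⟨_, _, _, e⟩ | ⟨_, _, _, e⟩ | ⟨_, _, _, e⟩ |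
    ⟨_, _, _, e⟩ <;> rw [e] <;> norm_num

theorem g3_at {O T : Finset GolayPt} (hT : T ⊆ O) {j : GolayPt} (hj : j ∈ O) :
    g3 O T j j = 6 ∨ g3 O T j j = -6 := by
  rcases g3_cases hT hj j with ⟨_, _, _, e⟩ | ⟨_, _, _, e⟩ | ⟨_, _, h3, _⟩ | ⟨_, _, h3, _⟩ |
    ⟨_, _, h3, _⟩
  · right; exact e
  · left; exact e
  · exact absurd rfl h3
  · exact absurd rfl h3
  · exact absurd rfl h3

theorem g3_mod4 {O T : Finset GolayPt} (hT : T ⊆ O) {j : GolayPt} (hj : j ∈ O) (i : GolayPt) :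
    g3 O T j i % 4 = 2 ↔ i ∈ O := by
  rcases g3_cases hT hj i with ⟨_, h2, _, e⟩ | ⟨_, h2, _, e⟩ | ⟨_, h2, _, e⟩ | ⟨_, h2, _, e⟩ |
    ⟨_, h2, _, e⟩
  · rw [e]; exact ⟨fun _ => h2, fun _ => by norm_num⟩
  · rw [e]; exact ⟨fun _ => h2, fun _ => by norm_num⟩
  · rw [e]; exact ⟨fun _ => h2, fun _ => by norm_num⟩
  · rw [e]; exact ⟨fun _ => h2, fun _ => by norm_num⟩
  · rw [e]; exact ⟨fun hh => by norm_num at hh, fun hh => absurd hh h2⟩

theorem g3_neg {O T : Finset GolayPt} (hT : T ⊆ O) {j : GolayPt} (hj : j ∈ O) (i : GolayPt) :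
    g3 O T j i < 0 ↔ i ∈ T := by
  rcases g3_cases hT hj i with ⟨h2, _, _, e⟩ | ⟨h2, _, _, e⟩ | ⟨h2, _, _, e⟩ | ⟨h2, _, _, e⟩ |
    ⟨h2, _, _, e⟩
  · rw [e]; exact ⟨fun _ => h2, fun _ => by norm_num⟩
  · rw [e]; exact ⟨fun hh => by norm_num at hh, fun hh => absurd hh h2⟩
  · rw [e]; exact ⟨fun _ => h2, fun _ => by norm_num⟩
  · rw [e]; exact ⟨fun hh => by norm_num at hh, fun hh => absurd hh h2⟩
  · rw [e]; exact ⟨fun hh => by norm_num at hh, fun hh => absurd hh h2⟩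

theorem g3_six {O T : Finset GolayPt} (hT : T ⊆ O) {j : GolayPt} (hj : j ∈ O) (i : GolayPt) :
    (g3 O T j i = 6 ∨ g3 O T j i = -6) ↔ i = j := by
  rcases g3_cases hT hj i with ⟨_, _, h3, e⟩ | ⟨_, _, h3, e⟩ | ⟨_, _, h3, e⟩ | ⟨_, _, h3, e⟩ |
    ⟨_, _, h3, e⟩
  · rw [e]; exact ⟨fun _ => h3, fun _ => Or.inr rfl⟩
  · rw [e]; exact ⟨fun _ => h3, fun _ => Or.inl rfl⟩
  · rw [e]; exact ⟨fun hh => by rcases hh with hh | hh <;> norm_num at hh, fun hh => absurd hh h3⟩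
  · rw [e]; exact ⟨fun hh => by rcases hh with hh | hh <;> norm_num at hh, fun hh => absurd hh h3⟩
  · rw [e]; exact ⟨fun hh => by rcases hh with hh | hh <;> norm_num at hh, fun hh => absurd hh h3⟩

theorem g3_eq {O T : Finset GolayPt} (hT : T ⊆ O) {j : GolayPt} (hj : j ∈ O) (i : GolayPt) :
    g3 O T j i = ss O T 2 i + 2 * ss O T 2 j * (if i = j then 1 else 0) := by
  unfold g3
  by_cases h : i = j
  · subst h; rw [if_pos rfl, if_pos rfl]; ring
  · rw [if_neg h, if_neg h]; ring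

theorem sum_g3 {O T : Finset GolayPt} (hT : T ⊆ O) {j : GolayPt} (hj : j ∈ O) :
    ∑ i, g3 O T j i = 2 * O.card - 4 * T.card + 2 * ss O T 2 j := by
  simp only [g3_eq hT hj]
  rw [Finset.sum_add_distrib, sum_ss O T hT, ← Finset.mul_sum, sum_pt]
  ring

theorem sum_g3_sq {O T : Finset GolayPt} (hT : T ⊆ O) {j : GolayPt} (hj : j ∈ O) :
    ∑ i, g3 O T j i ^ 2 = 4 * O.card + 32 := by
  have h1 : ∀ i, g3 O T j i ^ 2 = 4 * (if i ∈ O then 1 else 0) +
      32 * (if i = j then 1 else 0) := by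
    intro i
    rcases g3_cases hT hj i with ⟨_, h2, h3, e⟩ | ⟨_, h2, h3, e⟩ | ⟨_, h2, h3, e⟩ |
      ⟨_, h2, h3, e⟩ | ⟨_, h2, h3, e⟩
    · rw [e, if_pos h2, if_pos h3]; norm_num
    · rw [e, if_pos h2, if_pos h3]; norm_num
    · rw [e, if_pos h2, if_neg h3]; norm_num
    · rw [e, if_pos h2, if_neg h3]; norm_num
    · rw [e, if_neg h2, if_neg h3]; norm_num
  simp only [h1]
  rw [Finset.sum_add_distrib, ← Finset.mul_sum, ← Finset.mul_sum, sumMem, sum_pt]
  ring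

theorem g3_inj {O T O' T' : Finset GolayPt} (hT : T ⊆ O) (hT' : T' ⊆ O') {j j' : GolayPt}
    (hj : j ∈ O) (hj' : j' ∈ O') (h : g3 O T j = g3 O' T' j') :
    O = O' ∧ T = T' ∧ j = j' := by
  refine ⟨?_, ?_, ?_⟩
  · ext i
    rw [← g3_mod4 hT hj i, ← g3_mod4 hT' hj' i, h]
  · ext i
    rw [← g3_neg hT hj i, ← g3_neg hT' hj' i, h]
  · have h1 := (g3_six hT hj j).mpr rfl
    rw [h] at h1
    exact (g3_six hT' hj' j).mp h1

/-- `ss O T 2 + ss K T' 4` with `K` disjoint from `O` -/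
def g4 (O T K T' : Finset GolayPt) (i : GolayPt) : ℤ := ss O T 2 i + ss K T' 4 i

theorem g4_cases {O T K T' : Finset GolayPt} (hT : T ⊆ O) (hT' : T' ⊆ K) (hd : Disjoint K O)
    (i : GolayPt) :
    (i ∈ T ∧ i ∈ O ∧ i ∉ K ∧ i ∉ T' ∧ g4 O T K T' i = -2) ∨
    (i ∉ T ∧ i ∈ O ∧ i ∉ K ∧ i ∉ T' ∧ g4 O T K T' i = 2) ∨
    (i ∉ T ∧ i ∉ O ∧ i ∈ K ∧ i ∈ T' ∧ g4 O T K T' i = -4) ∨
    (i ∉ T ∧ i ∉ O ∧ i ∈ K ∧ i ∉ T' ∧ g4 O T K T' i = 4) ∨
    (i ∉ T ∧ i ∉ O ∧ i ∉ K ∧ i ∉ T' ∧ g4 O T K T' i = 0) := by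
  unfold g4
  have hd' : ∀ i, i ∈ K → i ∉ O := fun i hi => Finset.disjoint_left.mp hd hi
  rcases ss_cases O T hT 2 i with ⟨h1, h2, e⟩ | ⟨h1, h2, e⟩ | ⟨h1, h2, e⟩
  · have h3 : i ∉ K := fun h => hd' i h h2
    have h4 : i ∉ T' := fun h => h3 (hT' h)
    left
    refine ⟨h1, h2, h3, h4, ?_⟩
    rw [e]; unfold ss; rw [if_neg h4, if_neg h3]; norm_num
  · have h3 : i ∉ K := fun h => hd' i h h2
    have h4 : i ∉ T' := fun h => h3 (hT' h)
    right; left
    refine ⟨h1, h2, h3, h4, ?_⟩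
    rw [e]; unfold ss; rw [if_neg h4, if_neg h3]; norm_num
  · rcases ss_cases K T' hT' 4 i with ⟨h4, h3, e'⟩ | ⟨h4, h3, e'⟩ | ⟨h4, h3, e'⟩
    · right; right; left; exact ⟨h1, h2, h3, h4, by rw [e, e']; norm_num⟩
    · right; right; right; left; exact ⟨h1, h2, h3, h4, by rw [e, e']; norm_num⟩
    · right; right; right; right; exact ⟨h1, h2, h3, h4, by rw [e, e']; norm_num⟩

theorem g4_vals {O T K T' : Finset GolayPt} (hT : T ⊆ O) (hT' : T' ⊆ K) (hd : Disjoint K O)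
    (i : GolayPt) : g4 O T K T' i = 0 ∨ g4 O T K T' i = 2 ∨ g4 O T K T' i = -2 ∨
      g4 O T K T' i = 4 ∨ g4 O T K T' i = -4 := by
  rcases g4_cases hT hT' hd i with ⟨_, _, _, _, e⟩ | ⟨_, _, _, _, e⟩ | ⟨_, _, _, _, e⟩ |
    ⟨_, _, _, _, e⟩ | ⟨_, _, _, _, e⟩ <;> rw [e] <;> norm_num

theorem g4_mod4 {O T K T' : Finset GolayPt} (hT : T ⊆ O) (hT' : T' ⊆ K) (hd : Disjoint K O)
    (i : GolayPt) : g4 O T K T' i % 4 = 2 ↔ i ∈ O := by
  rcases g4_cases hT hT' hd i with ⟨_, h2, _, _, e⟩ | ⟨_, h2, _, _, e⟩ | ⟨_, h2, _, _, e⟩ |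
    ⟨_, h2, _, _, e⟩ | ⟨_, h2, _, _, e⟩
  · rw [e]; exact ⟨fun _ => h2, fun _ => by norm_num⟩
  · rw [e]; exact ⟨fun _ => h2, fun _ => by norm_num⟩
  · rw [e]; exact ⟨fun hh => by norm_num at hh, fun hh => absurd hh h2⟩
  · rw [e]; exact ⟨fun hh => by norm_num at hh, fun hh => absurd hh h2⟩
  · rw [e]; exact ⟨fun hh => by norm_num at hh, fun hh => absurd hh h2⟩

theorem g4_neg2 {O T K T' : Finset GolayPt} (hT : T ⊆ O) (hT' : T' ⊆ K) (hd : Disjoint K O)
    (i : GolayPt) : g4 O T K T' i = -2 ↔ i ∈ T := by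
  rcases g4_cases hT hT' hd i with ⟨h2, _, _, _, e⟩ | ⟨h2, _, _, _, e⟩ | ⟨h2, _, _, _, e⟩ |
    ⟨h2, _, _, _, e⟩ | ⟨h2, _, _, _, e⟩
  · rw [e]; exact ⟨fun _ => h2, fun _ => rfl⟩
  · rw [e]; exact ⟨fun hh => by norm_num at hh, fun hh => absurd hh h2⟩
  · rw [e]; exact ⟨fun hh => by norm_num at hh, fun hh => absurd hh h2⟩
  · rw [e]; exact ⟨fun hh => by norm_num at hh, fun hh => absurd hh h2⟩
  · rw [e]; exact ⟨fun hh => by norm_num at hh, fun hh => absurd hh h2⟩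

theorem g4_four {O T K T' : Finset GolayPt} (hT : T ⊆ O) (hT' : T' ⊆ K) (hd : Disjoint K O)
    (i : GolayPt) : (g4 O T K T' i = 4 ∨ g4 O T K T' i = -4) ↔ i ∈ K := by
  rcases g4_cases hT hT' hd i with ⟨_, _, h2, _, e⟩ | ⟨_, _, h2, _, e⟩ | ⟨_, _, h2, _, e⟩ |
    ⟨_, _, h2, _, e⟩ | ⟨_, _, h2, _, e⟩
  · rw [e]; exact ⟨fun hh => by rcases hh with hh | hh <;> norm_num at hh, fun hh => absurd hh h2⟩
  · rw [e]; exact ⟨fun hh => by rcases hh with hh | hh <;> norm_num at hh, fun hh => absurd hh h2⟩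
  · rw [e]; exact ⟨fun _ => h2, fun _ => Or.inr rfl⟩
  · rw [e]; exact ⟨fun _ => h2, fun _ => Or.inl rfl⟩
  · rw [e]; exact ⟨fun hh => by rcases hh with hh | hh <;> norm_num at hh, fun hh => absurd hh h2⟩

theorem g4_neg4 {O T K T' : Finset GolayPt} (hT : T ⊆ O) (hT' : T' ⊆ K) (hd : Disjoint K O)
    (i : GolayPt) : g4 O T K T' i = -4 ↔ i ∈ T' := by
  rcases g4_cases hT hT' hd i with ⟨_, _, _, h2, e⟩ | ⟨_, _, _, h2, e⟩ | ⟨_, _, _, h2, e⟩ |
    ⟨_, _, _, h2, e⟩ | ⟨_, _, _, h2, e⟩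
  · rw [e]; exact ⟨fun hh => by norm_num at hh, fun hh => absurd hh h2⟩
  · rw [e]; exact ⟨fun hh => by norm_num at hh, fun hh => absurd hh h2⟩
  · rw [e]; exact ⟨fun _ => h2, fun _ => rfl⟩
  · rw [e]; exact ⟨fun hh => by norm_num at hh, fun hh => absurd hh h2⟩
  · rw [e]; exact ⟨fun hh => by norm_num at hh, fun hh => absurd hh h2⟩

theorem sum_g4 {O T K T' : Finset GolayPt} (hT : T ⊆ O) (hT' : T' ⊆ K) :
    ∑ i, g4 O T K T' i = 2 * O.card - 4 * T.card + (4 * K.card - 8 * T'.card) := by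
  unfold g4
  rw [Finset.sum_add_distrib, sum_ss O T hT, sum_ss K T' hT']
  ring

theorem sum_g4_sq {O T K T' : Finset GolayPt} (hT : T ⊆ O) (hT' : T' ⊆ K) (hd : Disjoint K O) :
    ∑ i, g4 O T K T' i ^ 2 = 4 * O.card + 16 * K.card := by
  have h1 : ∀ i, g4 O T K T' i ^ 2 = 4 * (if i ∈ O then 1 else 0) +
      16 * (if i ∈ K then 1 else 0) := by
    intro i
    rcases g4_cases hT hT' hd i with ⟨_, h2, h3, _, e⟩ | ⟨_, h2, h3, _, e⟩ | ⟨_, h2, h3, _, e⟩ |
      ⟨_, h2, h3, _, e⟩ | ⟨_, h2, h3, _, e⟩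
    · rw [e, if_pos h2, if_neg h3]; norm_num
    · rw [e, if_pos h2, if_neg h3]; norm_num
    · rw [e, if_neg h2, if_pos h3]; norm_num
    · rw [e, if_neg h2, if_pos h3]; norm_num
    · rw [e, if_neg h2, if_neg h3]; norm_num
  simp only [h1]
  rw [Finset.sum_add_distrib, ← Finset.mul_sum, ← Finset.mul_sum, sumMem, sumMem]

theorem g4_inj {O T K T' O₂ T₂ K₂ T₂' : Finset GolayPt} (hT : T ⊆ O) (hT' : T' ⊆ K)
    (hd : Disjoint K O) (hT₂ : T₂ ⊆ O₂) (hT₂' : T₂' ⊆ K₂) (hd₂ : Disjoint K₂ O₂)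
    (h : g4 O T K T' = g4 O₂ T₂ K₂ T₂') : O = O₂ ∧ T = T₂ ∧ K = K₂ ∧ T' = T₂' := by
  refine ⟨?_, ?_, ?_, ?_⟩
  · ext i; rw [← g4_mod4 hT hT' hd i, ← g4_mod4 hT₂ hT₂' hd₂ i, h]
  · ext i; rw [← g4_neg2 hT hT' hd i, ← g4_neg2 hT₂ hT₂' hd₂ i, h]
  · ext i; rw [← g4_four hT hT' hd i, ← g4_four hT₂ hT₂' hd₂ i, h]
  · ext i; rw [← g4_neg4 hT hT' hd i, ← g4_neg4 hT₂ hT₂' hd₂ i, h]

/-! ### F2 : (±4, ±2^12, 0^11) -/

def D2 : Type :=
  Σ O : dodecads, ({T : Finset GolayPt // T ⊆ O.1 ∧ ¬ Even T.card} × {k : GolayPt // k ∉ O.1} × Bool)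

def f2 (p : D2) : GolayPt → ℤ := gk p.1.1 p.2.1.1 p.2.2.1.1 p.2.2.2

theorem f2_mem (p : D2) : f2 p ∈ N64 := by
  have hO : p.1.1 ∈ 𝒢 ∧ p.1.1.card = 12 := p.1.2
  have hT := p.2.1.2.1
  have hk := p.2.2.1.2
  obtain ⟨c, hc⟩ := Nat.not_even_iff_odd.mp p.2.1.2.2
  apply even_mem
  · intro i
    rcases gk_vals hT hk p.2.2.2 i with h | h | h | h | h <;> (unfold f2; rw [h]) <;> norm_num
  · unfold f2
    rw [sum_gk hT, hO.2, hc]; push_cast
    rcases sg_cases p.2.2.2 with h | h <;> rw [h] <;> omega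
  · have : resSet (f2 p) 2 = p.1.1 := by
      ext i; rw [mem_resSet]; exact gk_mod4 hT hk _ i
    rw [this]; exact hO.1
  · unfold f2
    rw [sum_gk_sq hT hk, hO.2]; norm_num

theorem f2_injective : Function.Injective f2 := by
  rintro ⟨O, T, k, s⟩ ⟨O', T', k', s'⟩ h
  obtain ⟨h1, h2, h3, h4⟩ := gk_inj T.2.1 T'.2.1 k.2 k'.2 h
  have hO : O = O' := Subtype.ext h1
  subst hO
  have hT : T = T' := Subtype.ext h2
  have hk : k = k' := Subtype.ext h3
  simp only at h4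
  rw [hT, hk, h4]

/-! ### F3 : (±6, ±2^7, 0^16) -/

def D3 : Type :=
  Σ O : octads, ({T : Finset GolayPt // T ⊆ O.1 ∧ ¬ Even T.card} × {j : GolayPt // j ∈ O.1})

def f3 (p : D3) : GolayPt → ℤ := g3 p.1.1 p.2.1.1 p.2.2.1

theorem f3_mem (p : D3) : f3 p ∈ N64 := by
  have hO : p.1.1 ∈ 𝒢 ∧ p.1.1.card = 8 := p.1.2
  have hT := p.2.1.2.1
  have hj := p.2.2.2
  obtain ⟨c, hc⟩ := Nat.not_even_iff_odd.mp p.2.1.2.2
  apply even_mem
  · intro i
    rcases g3_vals hT hj i with h | h | h | h | h <;> (unfold f3; rw [h]) <;> norm_num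
  · unfold f3
    rw [sum_g3 hT hj, hO.2, hc]; push_cast
    rcases ss_cases p.1.1 p.2.1.1 hT 2 p.2.2.1 with ⟨_, _, e⟩ | ⟨_, _, e⟩ | ⟨_, h2, _⟩
    · rw [e]; omega
    · rw [e]; omega
    · exact absurd hj h2
  · have : resSet (f3 p) 2 = p.1.1 := by
      ext i; rw [mem_resSet]; exact g3_mod4 hT hj i
    rw [this]; exact hO.1
  · unfold f3
    rw [sum_g3_sq hT hj, hO.2]; norm_num

theorem f3_injective : Function.Injective f3 := by
  rintro ⟨O, T, j⟩ ⟨O', T', j'⟩ h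
  obtain ⟨h1, h2, h3⟩ := g3_inj T.2.1 T'.2.1 j.2 j'.2 h
  have hO : O = O' := Subtype.ext h1
  subst hO
  have hT : T = T' := Subtype.ext h2
  have hj : j = j' := Subtype.ext h3
  rw [hT, hj]

/-! ### F4 : (±4^2, ±2^8, 0^14) -/

def D4 : Type :=
  Σ O : octads, ({T : Finset GolayPt // T ⊆ O.1 ∧ Even T.card} ×
    (Σ K : {K : Finset GolayPt // K.card = 2 ∧ Disjoint K O.1}, {T' : Finset GolayPt // T' ⊆ K.1}))

def f4 (p : D4) : GolayPt → ℤ := g4 p.1.1 p.2.1.1 p.2.2.1.1 p.2.2.2.1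

theorem f4_mem (p : D4) : f4 p ∈ N64 := by
  have hO : p.1.1 ∈ 𝒢 ∧ p.1.1.card = 8 := p.1.2
  have hT := p.2.1.2.1
  have hT' := p.2.2.2.2
  have hd := p.2.2.1.2.2
  have hK := p.2.2.1.2.1
  obtain ⟨c, hc⟩ := p.2.1.2.2
  apply even_mem
  · intro i
    rcases g4_vals hT hT' hd i with h | h | h | h | h <;> (unfold f4; rw [h]) <;> norm_num
  · unfold f4
    rw [sum_g4 hT hT', hO.2, hK, hc]; push_cast
    omega
  · have : resSet (f4 p) 2 = p.1.1 := by
      ext i; rw [mem_resSet]; exact g4_mod4 hT hT' hd i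
    rw [this]; exact hO.1
  · unfold f4
    rw [sum_g4_sq hT hT' hd, hO.2, hK]; norm_num

theorem f4_injective : Function.Injective f4 := by
  rintro ⟨O, T, K, T'⟩ ⟨O₂, T₂, K₂, T₂'⟩ h
  obtain ⟨h1, h2, h3, h4⟩ := g4_inj T.2.1 T'.2 K.2.2 T₂.2.1 T₂'.2 K₂.2.2 h
  have hO : O = O₂ := Subtype.ext h1
  subst hO
  have hT : T = T₂ := Subtype.ext h2
  have hK : K = K₂ := Subtype.ext h3
  subst hK
  have hT' : T' = T₂' := Subtype.ext h4
  rw [hT, hT']

/-! ### odd families -/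

open Cfsg.Agent.Lib.Helper5_Leech48 in
/-- generic odd vector: `5ε` at `j`, `-3ε` on `K`, `ε` elsewhere (use `j ∉ K`) -/
def oo (w : GolayPt → ZMod 2) (j : Option GolayPt) (K : Finset GolayPt) (i : GolayPt) : ℤ :=
  eps w i * (if some i = j then 5 else if i ∈ K then -3 else 1)

theorem oo_cases (w : GolayPt → ZMod 2) (j : Option GolayPt) (K : Finset GolayPt) (i : GolayPt) :
    (some i = j ∧ ((w i = 1 ∧ oo w j K i = -5) ∨ (w i ≠ 1 ∧ oo w j K i = 5))) ∨
    (some i ≠ j ∧ i ∈ K ∧ ((w i = 1 ∧ oo w j K i = 3) ∨ (w i ≠ 1 ∧ oo w j K i = -3))) ∨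
    (some i ≠ j ∧ i ∉ K ∧ ((w i = 1 ∧ oo w j K i = -1) ∨ (w i ≠ 1 ∧ oo w j K i = 1))) := by
  unfold oo
  by_cases h1 : some i = j
  · left
    refine ⟨h1, ?_⟩
    rw [if_pos h1]
    rcases Helper5_Leech48.eps_cases w i with ⟨h, e⟩ | ⟨h, e⟩
    · left; exact ⟨h, by rw [e]; norm_num⟩
    · right; exact ⟨h, by rw [e]; norm_num⟩
  · by_cases h2 : i ∈ K
    · right; left
      refine ⟨h1, h2, ?_⟩
      rw [if_neg h1, if_pos h2]
      rcases Helper5_Leech48.eps_cases w i with ⟨h, e⟩ | ⟨h, e⟩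
      · left; exact ⟨h, by rw [e]; norm_num⟩
      · right; exact ⟨h, by rw [e]; norm_num⟩
    · right; right
      refine ⟨h1, h2, ?_⟩
      rw [if_neg h1, if_neg h2]
      rcases Helper5_Leech48.eps_cases w i with ⟨h, e⟩ | ⟨h, e⟩
      · left; exact ⟨h, by rw [e]; norm_num⟩
      · right; exact ⟨h, by rw [e]; norm_num⟩

theorem oo_vals (w : GolayPt → ZMod 2) (j : Option GolayPt) (K : Finset GolayPt) (i : GolayPt) :
    oo w j K i = 5 ∨ oo w j K i = -5 ∨ oo w j K i = 3 ∨ oo w j K i = -3 ∨ oo w j K i = 1 ∨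
      oo w j K i = -1 := by
  rcases oo_cases w j K i with ⟨_, ⟨_, h⟩ | ⟨_, h⟩⟩ | ⟨_, _, ⟨_, h⟩ | ⟨_, h⟩⟩ |
    ⟨_, _, ⟨_, h⟩ | ⟨_, h⟩⟩ <;> rw [h] <;> norm_num

theorem oo_odd (w : GolayPt → ZMod 2) (j : Option GolayPt) (K : Finset GolayPt) (i : GolayPt) :
    oo w j K i % 2 = 1 := by
  rcases oo_vals w j K i with h | h | h | h | h | h <;> rw [h] <;> norm_num

theorem oo_mod4 (w : GolayPt → ZMod 2) (j : Option GolayPt) (K : Finset GolayPt) (i : GolayPt) :
    oo w j K i % 4 = 3 ↔ w i = 1 := by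
  rcases oo_cases w j K i with ⟨_, ⟨c, h⟩ | ⟨c, h⟩⟩ | ⟨_, _, ⟨c, h⟩ | ⟨c, h⟩⟩ |
    ⟨_, _, ⟨c, h⟩ | ⟨c, h⟩⟩
  · rw [h]; exact ⟨fun _ => c, fun _ => by norm_num⟩
  · rw [h]; exact ⟨fun hh => by norm_num at hh, fun hh => absurd hh c⟩
  · rw [h]; exact ⟨fun _ => c, fun _ => by norm_num⟩
  · rw [h]; exact ⟨fun hh => by norm_num at hh, fun hh => absurd hh c⟩
  · rw [h]; exact ⟨fun _ => c, fun _ => by norm_num⟩
  · rw [h]; exact ⟨fun hh => by norm_num at hh, fun hh => absurd hh c⟩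

theorem oo_five (w : GolayPt → ZMod 2) (j : Option GolayPt) (K : Finset GolayPt) (i : GolayPt) :
    (oo w j K i = 5 ∨ oo w j K i = -5) ↔ some i = j := by
  rcases oo_cases w j K i with ⟨c0, ⟨c, h⟩ | ⟨c, h⟩⟩ | ⟨c0, _, ⟨c, h⟩ | ⟨c, h⟩⟩ |
    ⟨c0, _, ⟨c, h⟩ | ⟨c, h⟩⟩
  · rw [h]; exact ⟨fun _ => c0, fun _ => Or.inr rfl⟩
  · rw [h]; exact ⟨fun _ => c0, fun _ => Or.inl rfl⟩
  all_goals (rw [h]; exact ⟨fun hh => by rcases hh with hh | hh <;> norm_num at hh,
    fun hh => absurd hh c0⟩)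

theorem oo_three (w : GolayPt → ZMod 2) {j : Option GolayPt} {K : Finset GolayPt}
    (hjK : ∀ i, some i = j → i ∉ K) (i : GolayPt) :
    (oo w j K i = 3 ∨ oo w j K i = -3) ↔ i ∈ K := by
  rcases oo_cases w j K i with ⟨c0, ⟨c, h⟩ | ⟨c, h⟩⟩ | ⟨_, c1, ⟨c, h⟩ | ⟨c, h⟩⟩ |
    ⟨_, c1, ⟨c, h⟩ | ⟨c, h⟩⟩
  · rw [h]; exact ⟨fun hh => by rcases hh with hh | hh <;> norm_num at hh,
      fun hh => absurd hh (hjK i c0)⟩
  · rw [h]; exact ⟨fun hh => by rcases hh with hh | hh <;> norm_num at hh,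
      fun hh => absurd hh (hjK i c0)⟩
  · rw [h]; exact ⟨fun _ => c1, fun _ => Or.inl rfl⟩
  · rw [h]; exact ⟨fun _ => c1, fun _ => Or.inr rfl⟩
  · rw [h]; exact ⟨fun hh => by rcases hh with hh | hh <;> norm_num at hh, fun hh => absurd hh c1⟩
  · rw [h]; exact ⟨fun hh => by rcases hh with hh | hh <;> norm_num at hh, fun hh => absurd hh c1⟩

theorem oo_resSet (w : GolayPt → ZMod 2) (j : Option GolayPt) (K : Finset GolayPt) :
    resSet (oo w j K) 1 = (support₂ w)ᶜ := by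
  ext i
  rw [mem_resSet, Finset.mem_compl, mem_support₂, ← oo_mod4 w j K i]
  have := oo_odd w j K i
  omega

theorem oo_sq (w : GolayPt → ZMod 2) (j : Option GolayPt) (K : Finset GolayPt) (i : GolayPt) :
    oo w j K i ^ 2 = 1 + 24 * (if some i = j then 1 else 0) +
      8 * (if some i ≠ j ∧ i ∈ K then 1 else 0) := by
  rcases oo_cases w j K i with ⟨c0, ⟨c, h⟩ | ⟨c, h⟩⟩ | ⟨c0, c1, ⟨c, h⟩ | ⟨c, h⟩⟩ |
    ⟨c0, c1, ⟨c, h⟩ | ⟨c, h⟩⟩
  · rw [h, if_pos c0, if_neg (fun hh : some i ≠ j ∧ i ∈ K => hh.1 c0)]; norm_num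
  · rw [h, if_pos c0, if_neg (fun hh : some i ≠ j ∧ i ∈ K => hh.1 c0)]; norm_num
  · rw [h, if_neg c0, if_pos ⟨c0, c1⟩]; norm_num
  · rw [h, if_neg c0, if_pos ⟨c0, c1⟩]; norm_num
  · rw [h, if_neg c0, if_neg (fun hh : some i ≠ j ∧ i ∈ K => c1 hh.2)]; norm_num
  · rw [h, if_neg c0, if_neg (fun hh : some i ≠ j ∧ i ∈ K => c1 hh.2)]; norm_num

/-- value formula -/
theorem oo_eq (w : GolayPt → ZMod 2) (j : Option GolayPt) (K : Finset GolayPt) (i : GolayPt) :
    oo w j K i = eps w i + 4 * eps w i * (if some i = j then 1 else 0) -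
      4 * eps w i * (if some i ≠ j ∧ i ∈ K then 1 else 0) := by
  unfold oo
  by_cases c0 : some i = j
  · rw [if_pos c0, if_pos c0, if_neg (fun hh : some i ≠ j ∧ i ∈ K => hh.1 c0)]; ring
  · by_cases c1 : i ∈ K
    · rw [if_neg c0, if_pos c1, if_neg c0, if_pos ⟨c0, c1⟩]; ring
    · rw [if_neg c0, if_neg c1, if_neg c0, if_neg (fun hh : some i ≠ j ∧ i ∈ K => c1 hh.2)]; ring

/-! ### F7 : (±3^5, ±1^19) -/

abbrev Pen : Type := {J : Finset GolayPt // J.card = 5}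

def f7 (p : golayCode × Pen) : GolayPt → ℤ := oo p.1.1 none p.2.1

theorem eps_mul_mem (w : GolayPt → ZMod 2) (K : Finset GolayPt) :
    ∑ i, eps w i * (if i ∈ K then (1 : ℤ) else 0) = K.card - 2 * (K ∩ support₂ w).card := by
  have h1 : ∀ i, eps w i * (if i ∈ K then (1 : ℤ) else 0) =
      (if i ∈ K then 1 else 0) - 2 * (if i ∈ K ∩ support₂ w then 1 else 0) := by
    intro i
    rw [eps_eq]
    by_cases h : i ∈ K <;> by_cases h' : i ∈ support₂ w <;> simp [h, h', Finset.mem_inter]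
  simp only [h1]
  rw [Finset.sum_sub_distrib, ← Finset.mul_sum, sumMem, sumMem]

theorem f7_mem (p : golayCode × Pen) : f7 p ∈ N64 := by
  obtain ⟨k, hk⟩ := four_dvd_card_support₂ p.1.1 p.1.2
  apply odd_mem
  · intro i; exact oo_odd _ _ _ i
  · unfold f7
    simp only [oo_eq]
    have h0 : ∀ i : GolayPt, ¬ (some i = (none : Option GolayPt)) := fun i h => by cases h
    simp only [h0, if_false, mul_zero, add_zero, ne_eq, not_false_eq_true, true_and]
    rw [Finset.sum_sub_distrib, sum_eps, hk]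
    have : ∑ i, 4 * eps p.1.1 i * (if i ∈ p.2.1 then (1 : ℤ) else 0) =
        4 * ∑ i, eps p.1.1 i * (if i ∈ p.2.1 then (1 : ℤ) else 0) := by
      rw [Finset.mul_sum]; exact Finset.sum_congr rfl fun i _ => by ring
    rw [this, eps_mul_mem, p.2.2]
    push_cast
    omega
  · unfold f7
    rw [oo_resSet]
    exact compl_mem ⟨p.1.1, p.1.2, rfl⟩
  · unfold f7
    simp only [oo_sq]
    have h0 : ∀ i : GolayPt, ¬ (some i = (none : Option GolayPt)) := fun i h => by cases h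
    simp only [h0, if_false, mul_zero, add_zero, ne_eq, not_false_eq_true, true_and]
    rw [Finset.sum_add_distrib, ← Finset.mul_sum, sumMem, p.2.2]
    simp [card_univ_pt]

theorem w_ext {w w' : GolayPt → ZMod 2} (h : ∀ i, w i = 1 ↔ w' i = 1) : w = w' := by
  funext i
  have hz : ∀ a b : ZMod 2, (a = 1 ↔ b = 1) → a = b := by decide
  exact hz _ _ (h i)

theorem f7_injective : Function.Injective f7 := by
  rintro ⟨w, J⟩ ⟨w', J'⟩ h
  have h0 : ∀ i : GolayPt, some i = (none : Option GolayPt) → i ∉ J.1 := fun i h => by cases h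
  have h0' : ∀ i : GolayPt, some i = (none : Option GolayPt) → i ∉ J'.1 := fun i h => by cases h
  have hJ : J = J' := by
    apply Subtype.ext
    ext i
    rw [← oo_three w.1 h0 i, ← oo_three w'.1 h0' i]
    have := congrFun h i
    unfold f7 at this
    simp only at this
    rw [this]
  have hw : w = w' := by
    apply Subtype.ext
    apply w_ext
    intro i
    rw [← oo_mod4 w.1 none J.1 i, ← oo_mod4 w'.1 none J'.1 i]
    have := congrFun h i
    unfold f7 at this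
    simp only at this
    rw [this]
  rw [hJ, hw]

/-! ### F8 : (±5, ±3^2, ±1^21) -/

abbrev PK : Type := {p : GolayPt × Finset GolayPt // p.2.card = 2 ∧ p.1 ∉ p.2}

def f8 (p : golayCode × PK) : GolayPt → ℤ := oo p.1.1 (some p.2.1.1) p.2.1.2

theorem f8_mem (p : golayCode × PK) : f8 p ∈ N64 := by
  obtain ⟨k, hk⟩ := four_dvd_card_support₂ p.1.1 p.1.2
  have hjK : p.2.1.1 ∉ p.2.1.2 := p.2.2.2
  have hc : ∀ i : GolayPt, (some i ≠ some p.2.1.1 ∧ i ∈ p.2.1.2) ↔ i ∈ p.2.1.2 := by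
    intro i
    constructor
    · exact fun h => h.2
    · intro h
      refine ⟨fun hh => ?_, h⟩
      rw [Option.some.injEq] at hh
      exact hjK (hh ▸ h)
  have hc2 : ∀ i : GolayPt, ((some i : Option GolayPt) = some p.2.1.1) ↔ i = p.2.1.1 :=
    fun i => Option.some_inj
  apply odd_mem
  · intro i; exact oo_odd _ _ _ i
  · unfold f8
    simp only [oo_eq, hc, hc2]
    rw [Finset.sum_sub_distrib, Finset.sum_add_distrib, sum_eps, hk]
    have e1 : ∑ i, 4 * eps p.1.1 i * (if i ∈ p.2.1.2 then (1 : ℤ) else 0) =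
        4 * ∑ i, eps p.1.1 i * (if i ∈ p.2.1.2 then (1 : ℤ) else 0) := by
      rw [Finset.mul_sum]; exact Finset.sum_congr rfl fun i _ => by ring
    have e2 : ∑ i, 4 * eps p.1.1 i * (if i = p.2.1.1 then (1 : ℤ) else 0) =
        4 * eps p.1.1 p.2.1.1 := by
      rw [Finset.sum_eq_single p.2.1.1]
      · simp
      · intro i _ hi; simp [hi]
      · intro h; exact absurd (Finset.mem_univ _) h
    rw [e1, e2, eps_mul_mem, p.2.2.1]
    push_cast
    rcases Helper5_Leech48.eps_cases p.1.1 p.2.1.1 with ⟨_, e⟩ | ⟨_, e⟩ <;> rw [e] <;> omega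
  · unfold f8
    rw [oo_resSet]
    exact compl_mem ⟨p.1.1, p.1.2, rfl⟩
  · unfold f8
    simp only [oo_sq, hc, hc2]
    rw [Finset.sum_add_distrib, Finset.sum_add_distrib, ← Finset.mul_sum, ← Finset.mul_sum,
      sumMem, sum_pt, p.2.2.1]
    simp [card_univ_pt]

theorem f8_injective : Function.Injective f8 := by
  rintro ⟨w, ⟨⟨j, K⟩, hK⟩⟩ ⟨w', ⟨⟨j', K'⟩, hK'⟩⟩ h
  have hfun : ∀ i, oo w.1 (some j) K i = oo w'.1 (some j') K' i := fun i => congrFun h i
  have hj : j = j' := by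
    have h1 := (oo_five w.1 (some j) K j).mpr rfl
    rw [hfun j] at h1
    have := (oo_five w'.1 (some j') K' j).mp h1
    exact Option.some.inj this
  subst hj
  have hjK : ∀ i : GolayPt, some i = some j → i ∉ K := by
    intro i hi; rw [Option.some.injEq] at hi; rw [hi]; exact hK.2
  have hjK' : ∀ i : GolayPt, some i = some j → i ∉ K' := by
    intro i hi; rw [Option.some.injEq] at hi; rw [hi]; exact hK'.2
  have hKK : K = K' := by
    ext i
    rw [← oo_three w.1 hjK i, ← oo_three w'.1 hjK' i, hfun i]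
  subst hKK
  have hw : w = w' := by
    apply Subtype.ext
    apply w_ext
    intro i
    rw [← oo_mod4 w.1 (some j) K i, ← oo_mod4 w'.1 (some j) K i, hfun i]
  rw [hw]

/-! ### classification: odd case -/

theorem odd_sq_ne (a : ℤ) (h : a % 2 = 1) : a ^ 2 / 8 ≠ 2 ∧ a ^ 2 / 8 ≠ 4 ∧ a ^ 2 / 8 ≠ 5 := by
  have h1 := odd_sq a h
  refine ⟨?_, ?_, ?_⟩ <;> intro h2 <;> rw [h2] at h1
  · have h3 : -5 ≤ a := by nlinarith
    have h4 : a ≤ 5 := by nlinarith
    interval_cases a <;> norm_num at h1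
  · have h3 : -6 ≤ a := by nlinarith
    have h4 : a ≤ 6 := by nlinarith
    interval_cases a <;> norm_num at h1
  · have h3 : -7 ≤ a := by nlinarith
    have h4 : a ≤ 7 := by nlinarith
    interval_cases a <;> norm_num at h1

theorem sum_five {ι : Type*} [Fintype ι] [DecidableEq ι] (t : ι → ℤ) (h0 : ∀ i, 0 ≤ t i)
    (h5 : ∑ i, t i = 5) (hne : ∀ i, t i ≠ 2 ∧ t i ≠ 4 ∧ t i ≠ 5) :
    (∃ j, t j = 3 ∧ ∀ i, i ≠ j → t i = 0 ∨ t i = 1) ∨ (∀ i, t i = 0 ∨ t i = 1) := by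
  by_cases hex : ∃ j, 3 ≤ t j
  · left
    obtain ⟨j, hj⟩ := hex
    have hsplit : ∑ i, t i = t j + ∑ i ∈ Finset.univ.erase j, t i := by
      rw [Finset.add_sum_erase _ _ (Finset.mem_univ j)]
    have hrest : 0 ≤ ∑ i ∈ Finset.univ.erase j, t i := Finset.sum_nonneg fun i _ => h0 i
    have hj3 : t j = 3 := by have := hne j; omega
    have hr2 : ∑ i ∈ Finset.univ.erase j, t i = 2 := by omega
    refine ⟨j, hj3, fun i hi => ?_⟩
    have hle : t i ≤ ∑ i ∈ Finset.univ.erase j, t i :=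
      Finset.single_le_sum (f := t) (fun i _ => h0 i) (Finset.mem_erase.mpr ⟨hi, Finset.mem_univ i⟩)
    have := hne i; have := h0 i
    omega
  · right
    push Not at hex
    intro i
    have := hex i; have := h0 i; have := hne i
    omega

theorem oo_of {x : GolayPt → ℤ} {w : GolayPt → ZMod 2} (hw : ∀ i, w i = 1 ↔ x i % 4 = 3)
    (j : Option GolayPt) (K : Finset GolayPt)
    (h5 : ∀ i, some i = j → x i = 5 ∨ x i = -5)
    (h3 : ∀ i, some i ≠ j → i ∈ K → x i = 3 ∨ x i = -3)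
    (h1 : ∀ i, some i ≠ j → i ∉ K → x i = 1 ∨ x i = -1) : x = oo w j K := by
  funext i
  rcases oo_cases w j K i with ⟨c0, ⟨c, h⟩ | ⟨c, h⟩⟩ | ⟨c0, c1, ⟨c, h⟩ | ⟨c, h⟩⟩ |
    ⟨c0, c1, ⟨c, h⟩ | ⟨c, h⟩⟩
  · rw [h]; have := (hw i).mp c; rcases h5 i c0 with e | e <;> omega
  · rw [h]
    have : ¬ (x i % 4 = 3) := fun hh => c ((hw i).mpr hh)
    rcases h5 i c0 with e | e <;> omega
  · rw [h]; have := (hw i).mp c; rcases h3 i c0 c1 with e | e <;> omega
  · rw [h]
    have : ¬ (x i % 4 = 3) := fun hh => c ((hw i).mpr hh)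
    rcases h3 i c0 c1 with e | e <;> omega
  · rw [h]; have := (hw i).mp c; rcases h1 i c0 c1 with e | e <;> omega
  · rw [h]
    have : ¬ (x i % 4 = 3) := fun hh => c ((hw i).mpr hh)
    rcases h1 i c0 c1 with e | e <;> omega

theorem odd_class {x : GolayPt → ℤ} (hx : x ∈ N64) (hodd : x none % 2 = 1) :
    x ∈ Set.range f7 ∪ Set.range f8 := by
  rw [mem_N64] at hx
  obtain ⟨⟨m, h1, h2, h3⟩, hn⟩ := hx
  have hm : m % 2 = 1 := by rw [← h1 none]; exact hodd
  have hxo : ∀ i, x i % 2 = 1 := fun i => by rw [h1 i, hm]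
  have hsq : ∀ i, x i ^ 2 = 8 * (x i ^ 2 / 8) + 1 := fun i => odd_sq _ (hxo i)
  have ht0 : ∀ i, 0 ≤ x i ^ 2 / 8 := fun i => Int.ediv_nonneg (sq_nonneg _) (by norm_num)
  have ht5 : ∑ i, x i ^ 2 / 8 = 5 := by
    have : ∑ i, x i ^ 2 = ∑ i, (8 * (x i ^ 2 / 8) + 1) := Finset.sum_congr rfl fun i _ => hsq i
    rw [hn, Finset.sum_add_distrib, ← Finset.mul_sum] at this
    simp only [Finset.sum_const, card_univ_pt, nsmul_eq_mul] at this
    push_cast at this
    omega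
  have hS : resSet x 3 ∈ 𝒢 := by
    have h4 : m % 4 = 1 ∨ m % 4 = 3 := by omega
    rcases h4 with h4 | h4
    · have : resSet x 3 = (resSet x m)ᶜ := by
        ext i
        simp only [mem_resSet, Finset.mem_compl]
        have := hxo i; omega
      rw [this]; exact compl_mem h3
    · have : resSet x 3 = resSet x m := by
        ext i
        simp only [mem_resSet]
        omega
      rw [this]; exact h3
  obtain ⟨w, hw, hws⟩ := hS
  have hwi : ∀ i, w i = 1 ↔ x i % 4 = 3 := by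
    intro i
    rw [← mem_support₂, hws, mem_resSet]
    norm_num
  have hx1 : ∀ i, x i ^ 2 / 8 = 0 → x i = 1 ∨ x i = -1 := fun i hi => sq_div8_zero _ (hxo i) hi
  have hx3 : ∀ i, x i ^ 2 / 8 = 1 → x i = 3 ∨ x i = -3 := fun i hi => sq_div8_one _ (hxo i) hi
  have hx5 : ∀ i, x i ^ 2 / 8 = 3 → x i = 5 ∨ x i = -5 := fun i hi =>
    Helper5_Leech48.sq_div8_three _ (hxo i) hi
  rcases sum_five _ ht0 ht5 (fun i => odd_sq_ne _ (hxo i)) with ⟨j, hj3, hj01⟩ | hall
  · right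
    have hK : (Finset.univ.filter fun i => x i ^ 2 / 8 = 1).card = 2 := by
      have e : ∑ i, x i ^ 2 / 8 = 3 * ∑ i, (if i = j then (1 : ℤ) else 0) +
          ∑ i, (if x i ^ 2 / 8 = 1 then (1 : ℤ) else 0) := by
        rw [Finset.mul_sum, ← Finset.sum_add_distrib]
        apply Finset.sum_congr rfl
        intro i _
        by_cases hij : i = j
        · subst hij; rw [hj3]; norm_num
        · rw [if_neg hij]
          rcases hj01 i hij with h | h <;> rw [h] <;> norm_num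
      rw [ht5, sum_pt, Finset.sum_boole] at e
      have : ((Finset.univ.filter fun i => x i ^ 2 / 8 = 1).card : ℤ) = 2 := by omega
      exact_mod_cast this
    have hjK : j ∉ (Finset.univ.filter fun i => x i ^ 2 / 8 = 1) := by
      intro hc
      have := (Finset.mem_filter.mp hc).2
      rw [hj3] at this; norm_num at this
    refine ⟨(⟨w, hw⟩, ⟨(j, _), hK, hjK⟩), ?_⟩
    symm
    apply oo_of hwi
    · intro i hi
      rw [Option.some_inj] at hi
      subst hi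
      exact hx5 i hj3
    · intro i _ hi
      exact hx3 i (Finset.mem_filter.mp hi).2
    · intro i hi hiK
      have hij : i ≠ j := fun h => hi (by rw [h])
      rcases hj01 i hij with h | h
      · exact hx1 i h
      · exact absurd (show i ∈ (Finset.univ.filter fun i => x i ^ 2 / 8 = 1) from
          Finset.mem_filter.mpr ⟨Finset.mem_univ _, h⟩) hiK
  · left
    have hJ : (Finset.univ.filter fun i => x i ^ 2 / 8 = 1).card = 5 := by
      have : ∑ i, x i ^ 2 / 8 = ∑ i, (if x i ^ 2 / 8 = 1 then (1 : ℤ) else 0) := by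
        apply Finset.sum_congr rfl
        intro i _
        rcases hall i with h | h <;> rw [h] <;> norm_num
      rw [ht5, Finset.sum_boole] at this
      exact_mod_cast this.symm
    refine ⟨(⟨w, hw⟩, ⟨_, hJ⟩), ?_⟩
    symm
    apply oo_of hwi
    · intro i hi; cases hi
    · intro i _ hi
      exact hx3 i (Finset.mem_filter.mp hi).2
    · intro i _ hiK
      rcases hall i with h | h
      · exact hx1 i h
      · exact absurd (show i ∈ (Finset.univ.filter fun i => x i ^ 2 / 8 = 1) from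
          Finset.mem_filter.mpr ⟨Finset.mem_univ _, h⟩) hiK

/-! ### classification: even case -/

theorem eq_ss {x : GolayPt → ℤ} {J T : Finset GolayPt} (hT : T ⊆ J) {c : ℤ}
    (h1 : ∀ i, i ∈ T → x i = -c) (h2 : ∀ i, i ∈ J → i ∉ T → x i = c) (h3 : ∀ i, i ∉ J → x i = 0) :
    x = ss J T c := by
  funext i
  rcases ss_cases J T hT c i with ⟨a, b, e⟩ | ⟨a, b, e⟩ | ⟨a, b, e⟩
  · rw [e, h1 i a]
  · rw [e, h2 i b a]
  · rw [e, h3 i b]

theorem split_sum {ι : Type*} [Fintype ι] [DecidableEq ι] (c : ι → ℤ) (h0 : ∀ i, 0 ≤ c i) (j : ι)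
    {r : ℤ} (hr : ∑ i, c i = r) (hj : r ≤ c j) : c j = r ∧ ∀ i, i ≠ j → c i = 0 := by
  have hsplit : ∑ i, c i = c j + ∑ i ∈ Finset.univ.erase j, c i := by
    rw [Finset.add_sum_erase _ _ (Finset.mem_univ j)]
  have hrest : 0 ≤ ∑ i ∈ Finset.univ.erase j, c i := Finset.sum_nonneg fun i _ => h0 i
  have hr0 : ∑ i ∈ Finset.univ.erase j, c i = 0 := by omega
  refine ⟨by omega, fun i hi => ?_⟩
  exact (Finset.sum_eq_zero_iff_of_nonneg fun i _ => h0 i).mp hr0 i
    (Finset.mem_erase.mpr ⟨hi, Finset.mem_univ i⟩)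

theorem even_class {x : GolayPt → ℤ} (hx : x ∈ N64) (hev : x none % 2 = 0) :
    x ∈ (Set.range f1 ∪ Set.range f2) ∪ (Set.range f3 ∪ Set.range f4) ∪
      (Set.range f5 ∪ Set.range f6) := by
  rw [mem_N64] at hx
  obtain ⟨⟨m, h1, h2, h3⟩, hn⟩ := hx
  have hm : m % 2 = 0 := by rw [← h1 none]; exact hev
  have hxe : ∀ i, x i % 2 = 0 := fun i => by rw [h1 i, hm]
  have hsum : (∑ i, x i) % 8 = 0 := by omega
  have hS : resSet x 2 ∈ 𝒢 := by
    have h4 : m % 4 = 0 ∨ m % 4 = 2 := by omega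
    rcases h4 with h4 | h4
    · have : resSet x 2 = (resSet x m)ᶜ := by
        ext i
        simp only [mem_resSet, Finset.mem_compl]
        have := hxe i; omega
      rw [this]; exact compl_mem h3
    · have : resSet x 2 = resSet x m := by
        ext i
        simp only [mem_resSet]
        omega
      rw [this]; exact h3
  have hS' := hS
  obtain ⟨w, hw, hws⟩ := hS
  have hcard := golay_weights w hw
  rw [hws] at hcard
  obtain ⟨y, hy⟩ : ∃ y : GolayPt → ℤ, ∀ i, x i = 2 * y i :=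
    ⟨fun i => x i / 2, fun i => by
      show x i = 2 * (x i / 2)
      have := hxe i; omega⟩
  have hyS : ∀ i, i ∈ resSet x 2 ↔ y i % 2 = 1 := by
    intro i; rw [mem_resSet, hy i]; omega
  have hny : ∑ i, y i ^ 2 = 16 := by
    have : ∑ i, x i ^ 2 = 4 * ∑ i, y i ^ 2 := by
      rw [Finset.mul_sum]; exact Finset.sum_congr rfl fun i _ => by rw [hy i]; ring
    omega
  -- auxiliary data
  obtain ⟨a, ha⟩ : ∃ a : GolayPt → ℤ, ∀ i, i ∉ resSet x 2 → y i = 2 * a i :=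
    ⟨fun i => y i / 2, fun i hi => by
      show y i = 2 * (y i / 2)
      have : ¬ (y i % 2 = 1) := fun h => hi ((hyS i).mpr h)
      omega⟩
  have hq : ∀ i, i ∈ resSet x 2 → y i ^ 2 = 8 * (y i ^ 2 / 8) + 1 := fun i hi =>
    odd_sq _ ((hyS i).mp hi)
  have hq0 : ∀ i, 0 ≤ y i ^ 2 / 8 := fun i => Int.ediv_nonneg (sq_nonneg _) (by norm_num)
  have hc0 : ∀ i, 0 ≤ (if i ∈ resSet x 2 then 2 * (y i ^ 2 / 8) else a i ^ 2) := by
    intro i; split_ifs
    · have := hq0 i; omega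
    · exact sq_nonneg _
  have hu : ∀ i, y i ^ 2 - (if i ∈ resSet x 2 then 1 else 0) =
      4 * (if i ∈ resSet x 2 then 2 * (y i ^ 2 / 8) else a i ^ 2) := by
    intro i
    by_cases hi : i ∈ resSet x 2
    · rw [if_pos hi, if_pos hi]; have := hq i hi; omega
    · rw [if_neg hi, if_neg hi, ha i hi]; ring
  have hcsum : 4 * ∑ i, (if i ∈ resSet x 2 then 2 * (y i ^ 2 / 8) else a i ^ 2) =
      16 - (resSet x 2).card := by
    rw [Finset.mul_sum, ← Finset.sum_congr rfl fun i _ => hu i, Finset.sum_sub_distrib, hny,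
      sumMem]
  have hc : (resSet x 2).card = 16 ∨ (resSet x 2).card = 12 ∨ (resSet x 2).card = 8 ∨
      (resSet x 2).card = 0 := by
    have h5 : 0 ≤ ∑ i, (if i ∈ resSet x 2 then 2 * (y i ^ 2 / 8) else a i ^ 2) :=
      Finset.sum_nonneg fun i _ => hc0 i
    omega
  have hTsub : (resSet x 2).filter (fun i => y i < 0) ⊆ resSet x 2 := Finset.filter_subset _ _
  have hTmem : ∀ i, i ∈ (resSet x 2).filter (fun i => y i < 0) ↔ (i ∈ resSet x 2 ∧ y i < 0) :=
    fun i => Finset.mem_filter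
  have hyin0 : ∀ i, i ∈ resSet x 2 → y i ^ 2 / 8 = 0 → y i = 1 ∨ y i = -1 := fun i hi h =>
    sq_div8_zero _ ((hyS i).mp hi) h
  have hyout0 : ∀ i, i ∉ resSet x 2 → a i ^ 2 = 0 → y i = 0 := by
    intro i hi h
    have h6 : a i = 0 := pow_eq_zero_iff (by norm_num) |>.mp h
    rw [ha i hi, h6]; norm_num
  rcases hc with hc | hc | hc | hc
  · -- weight 16
    left; left; left
    have hcs : ∑ i, (if i ∈ resSet x 2 then 2 * (y i ^ 2 / 8) else a i ^ 2) = 0 := by omega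
    have hall := all_zero_of_sum_zero _ hc0 hcs
    have hyin : ∀ i, i ∈ resSet x 2 → y i = 1 ∨ y i = -1 := by
      intro i hi
      have := hall i; rw [if_pos hi] at this
      exact hyin0 i hi (by omega)
    have hyout : ∀ i, i ∉ resSet x 2 → y i = 0 := by
      intro i hi
      have := hall i; rw [if_neg hi] at this
      exact hyout0 i hi this
    have hxs : x = ss (resSet x 2) ((resSet x 2).filter (fun i => y i < 0)) 2 := by
      apply eq_ss hTsub
      · intro i hi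
        obtain ⟨h5, h6⟩ := (hTmem i).mp hi
        rcases hyin i h5 with h | h <;> rw [hy i] <;> omega
      · intro i h5 hi
        have h6 : ¬ y i < 0 := fun h => hi ((hTmem i).mpr ⟨h5, h⟩)
        rcases hyin i h5 with h | h <;> rw [hy i] <;> omega
      · intro i hi; rw [hy i, hyout i hi]; norm_num
    have hTeven : Even ((resSet x 2).filter (fun i => y i < 0)).card := by
      have h7 := hsum
      rw [hxs, sum_ss _ _ hTsub, hc] at h7
      rw [Nat.even_iff]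
      push_cast at h7
      omega
    exact ⟨⟨⟨resSet x 2, hS', hc⟩, ⟨_, hTsub, hTeven⟩⟩, hxs.symm⟩
  · -- weight 12
    left; left; right
    have hcs : ∑ i, (if i ∈ resSet x 2 then 2 * (y i ^ 2 / 8) else a i ^ 2) = 1 := by omega
    obtain ⟨k, hk1, hk0⟩ := exists_of_sum_one _ hc0 hcs
    have hkS : k ∉ resSet x 2 := by
      intro hk
      rw [if_pos hk] at hk1
      omega
    rw [if_neg hkS] at hk1
    have hak : a k = 1 ∨ a k = -1 := Helper5_Leech48.sq_eq_one _ hk1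
    have hyk : y k = 2 ∨ y k = -2 := by
      rw [ha k hkS]; rcases hak with h | h <;> rw [h] <;> norm_num
    have hyin : ∀ i, i ∈ resSet x 2 → y i = 1 ∨ y i = -1 := by
      intro i hi
      have hik : i ≠ k := fun h => hkS (h ▸ hi)
      have := hk0 i hik; rw [if_pos hi] at this
      exact hyin0 i hi (by omega)
    have hyout : ∀ i, i ∉ resSet x 2 → i ≠ k → y i = 0 := by
      intro i hi hik
      have := hk0 i hik; rw [if_neg hi] at this
      exact hyout0 i hi this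
    have hxs : x = gk (resSet x 2) ((resSet x 2).filter (fun i => y i < 0)) k (decide (y k = 2)) := by
      funext i
      rcases gk_cases hTsub hkS (decide (y k = 2)) i with ⟨b1, b2, b3, e⟩ | ⟨b1, b2, b3, e⟩ |
        ⟨b1, b2, b3, e⟩ | ⟨b1, b2, b3, e⟩
      · rw [e]
        obtain ⟨h5, h6⟩ := (hTmem i).mp b1
        rcases hyin i h5 with h | h <;> rw [hy i] <;> omega
      · rw [e]
        have h6 : ¬ y i < 0 := fun h => b1 ((hTmem i).mpr ⟨b2, h⟩)
        rcases hyin i b2 with h | h <;> rw [hy i] <;> omega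
      · rw [e, b3, hy k]
        rcases hyk with h | h
        · simp [sg, h]
        · simp [sg, h]
      · rw [e, hy i, hyout i b2 b3]; norm_num
    have hTodd : ¬ Even ((resSet x 2).filter (fun i => y i < 0)).card := by
      have h7 := hsum
      rw [hxs, sum_gk hTsub, hc] at h7
      rw [Nat.even_iff]
      push_cast at h7
      rcases sg_cases (decide (y k = 2)) with h | h <;> rw [h] at h7 <;> omega
    exact ⟨⟨⟨resSet x 2, hS', hc⟩, ⟨_, hTsub, hTodd⟩, ⟨k, hkS⟩, decide (y k = 2)⟩, hxs.symm⟩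
  · -- weight 8
    left; right
    have hcs : ∑ i, (if i ∈ resSet x 2 then 2 * (y i ^ 2 / 8) else a i ^ 2) = 2 := by omega
    by_cases hex : ∃ j, j ∈ resSet x 2 ∧ 1 ≤ y j ^ 2 / 8
    · left
      obtain ⟨j, hjS, hj1⟩ := hex
      have hj2 : (2 : ℤ) ≤ (if j ∈ resSet x 2 then 2 * (y j ^ 2 / 8) else a j ^ 2) := by
        rw [if_pos hjS]; omega
      obtain ⟨hcj, hrest⟩ := split_sum _ hc0 j hcs hj2
      rw [if_pos hjS] at hcj
      have hyj : y j = 3 ∨ y j = -3 := sq_div8_one _ ((hyS j).mp hjS) (by omega)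
      have hyin : ∀ i, i ∈ resSet x 2 → i ≠ j → y i = 1 ∨ y i = -1 := by
        intro i hi hij
        have := hrest i hij; rw [if_pos hi] at this
        exact hyin0 i hi (by omega)
      have hyout : ∀ i, i ∉ resSet x 2 → y i = 0 := by
        intro i hi
        have hij : i ≠ j := fun h => hi (h ▸ hjS)
        have := hrest i hij; rw [if_neg hi] at this
        exact hyout0 i hi this
      have hxs : x = g3 (resSet x 2) ((resSet x 2).filter (fun i => y i < 0)) j := by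
        funext i
        rcases g3_cases hTsub hjS i with ⟨b1, b2, b3, e⟩ | ⟨b1, b2, b3, e⟩ | ⟨b1, b2, b3, e⟩ |
          ⟨b1, b2, b3, e⟩ | ⟨b1, b2, b3, e⟩
        · rw [e, hy i]
          obtain ⟨_, h6⟩ := (hTmem i).mp b1
          rw [b3] at h6 ⊢
          rcases hyj with h | h <;> omega
        · rw [e, hy i]
          have h6 : ¬ y i < 0 := fun h => b1 ((hTmem i).mpr ⟨b2, h⟩)
          rw [b3] at h6 ⊢
          rcases hyj with h | h <;> omega
        · rw [e, hy i]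
          obtain ⟨_, h6⟩ := (hTmem i).mp b1
          rcases hyin i b2 b3 with h | h <;> omega
        · rw [e, hy i]
          have h6 : ¬ y i < 0 := fun h => b1 ((hTmem i).mpr ⟨b2, h⟩)
          rcases hyin i b2 b3 with h | h <;> omega
        · rw [e, hy i, hyout i b2]; norm_num
      have hTodd : ¬ Even ((resSet x 2).filter (fun i => y i < 0)).card := by
        have h7 := hsum
        rw [hxs, sum_g3 hTsub hjS, hc] at h7
        rw [Nat.even_iff]
        push_cast at h7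
        rcases ss_cases (resSet x 2) ((resSet x 2).filter (fun i => y i < 0)) hTsub 2 j with
          ⟨_, _, e⟩ | ⟨_, _, e⟩ | ⟨_, h2, _⟩
        · rw [e] at h7; omega
        · rw [e] at h7; omega
        · exact absurd hjS h2
      exact ⟨⟨⟨resSet x 2, hS', hc⟩, ⟨_, hTsub, hTodd⟩, ⟨j, hjS⟩⟩, hxs.symm⟩
    · right
      push Not at hex
      have hyin : ∀ i, i ∈ resSet x 2 → y i = 1 ∨ y i = -1 := by
        intro i hi
        have := hex i hi; have := hq0 i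
        exact hyin0 i hi (by omega)
      have hcs' : ∑ i, (if i ∈ resSet x 2 then (0 : ℤ) else a i ^ 2) = 2 := by
        have h8 : ∑ i, (if i ∈ resSet x 2 then (0 : ℤ) else a i ^ 2) =
            ∑ i, (if i ∈ resSet x 2 then 2 * (y i ^ 2 / 8) else a i ^ 2) := by
          apply Finset.sum_congr rfl
          intro i _
          by_cases hi : i ∈ resSet x 2
          · rw [if_pos hi, if_pos hi]; have := hex i hi; have := hq0 i; omega
          · rw [if_neg hi, if_neg hi]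
        rw [h8]; exact hcs
      have hc0' : ∀ i, 0 ≤ (if i ∈ resSet x 2 then (0 : ℤ) else a i ^ 2) := by
        intro i; split_ifs
        · exact le_refl _
        · exact sq_nonneg _
      have hasm : ∀ i, i ∉ resSet x 2 → a i = 0 ∨ a i = 1 ∨ a i = -1 := by
        intro i hi
        apply small_of_sq_le_two
        have := Finset.single_le_sum (f := fun i => (if i ∈ resSet x 2 then (0 : ℤ) else a i ^ 2))
          (fun i _ => hc0' i) (Finset.mem_univ i)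
        simp only [if_neg hi] at this
        omega
      have hKcard : (Finset.univ.filter fun i => i ∉ resSet x 2 ∧ a i ≠ 0).card = 2 := by
        have : ∑ i, (if i ∈ resSet x 2 then (0 : ℤ) else a i ^ 2) =
            ∑ i, (if i ∉ resSet x 2 ∧ a i ≠ 0 then (1 : ℤ) else 0) := by
          apply Finset.sum_congr rfl
          intro i _
          by_cases hi : i ∈ resSet x 2
          · rw [if_pos hi, if_neg (fun h : i ∉ resSet x 2 ∧ a i ≠ 0 => h.1 hi)]
          · rw [if_neg hi]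
            rcases hasm i hi with h | h | h
            · rw [if_neg (fun hh : i ∉ resSet x 2 ∧ a i ≠ 0 => hh.2 h), h]; norm_num
            · rw [if_pos ⟨hi, by rw [h]; norm_num⟩, h]; norm_num
            · rw [if_pos ⟨hi, by rw [h]; norm_num⟩, h]; norm_num
        rw [hcs', Finset.sum_boole] at this
        exact_mod_cast this.symm
      have hKmem : ∀ i, i ∈ (Finset.univ.filter fun i => i ∉ resSet x 2 ∧ a i ≠ 0) ↔
          (i ∉ resSet x 2 ∧ a i ≠ 0) := fun i => by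
        rw [Finset.mem_filter]; simp
      have hKd : Disjoint (Finset.univ.filter fun i => i ∉ resSet x 2 ∧ a i ≠ 0) (resSet x 2) := by
        rw [Finset.disjoint_left]
        intro i hi
        exact ((hKmem i).mp hi).1
      have hT'sub : (Finset.univ.filter fun i => i ∉ resSet x 2 ∧ a i ≠ 0).filter (fun i => a i < 0) ⊆
          (Finset.univ.filter fun i => i ∉ resSet x 2 ∧ a i ≠ 0) := Finset.filter_subset _ _
      have hxs : x = g4 (resSet x 2) ((resSet x 2).filter (fun i => y i < 0))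
          (Finset.univ.filter fun i => i ∉ resSet x 2 ∧ a i ≠ 0)
          ((Finset.univ.filter fun i => i ∉ resSet x 2 ∧ a i ≠ 0).filter (fun i => a i < 0)) := by
        funext i
        rcases g4_cases hTsub hT'sub hKd i with ⟨b1, b2, b3, b4, e⟩ | ⟨b1, b2, b3, b4, e⟩ |
          ⟨b1, b2, b3, b4, e⟩ | ⟨b1, b2, b3, b4, e⟩ | ⟨b1, b2, b3, b4, e⟩
        · rw [e, hy i]
          obtain ⟨_, h6⟩ := (hTmem i).mp b1
          rcases hyin i b2 with h | h <;> omega
        · rw [e, hy i]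
          have h6 : ¬ y i < 0 := fun h => b1 ((hTmem i).mpr ⟨b2, h⟩)
          rcases hyin i b2 with h | h <;> omega
        · rw [e, hy i, ha i b2]
          have h6 := (Finset.mem_filter.mp b4).2
          rcases hasm i b2 with h | h | h <;> omega
        · rw [e, hy i, ha i b2]
          have h6 : ¬ a i < 0 := fun h => b4 (Finset.mem_filter.mpr ⟨b3, h⟩)
          have h7 := ((hKmem i).mp b3).2
          rcases hasm i b2 with h | h | h <;> omega
        · rw [e, hy i, ha i b2]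
          have h7 : a i = 0 := by
            by_contra hne
            exact b3 ((hKmem i).mpr ⟨b2, hne⟩)
          rw [h7]; norm_num
      have hTeven : Even ((resSet x 2).filter (fun i => y i < 0)).card := by
        have h7 := hsum
        rw [hxs, sum_g4 hTsub hT'sub, hc, hKcard] at h7
        rw [Nat.even_iff]
        push_cast at h7
        omega
      exact ⟨⟨⟨resSet x 2, hS', hc⟩, ⟨_, hTsub, hTeven⟩, ⟨⟨_, hKcard, hKd⟩, ⟨_, hT'sub⟩⟩⟩, hxs.symm⟩
  · -- weight 0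
    right
    have hempty : resSet x 2 = ∅ := Finset.card_eq_zero.mp hc
    have hnot : ∀ i, i ∉ resSet x 2 := fun i => by rw [hempty]; exact Finset.notMem_empty _
    have hxa : ∀ i, x i = 4 * a i := fun i => by rw [hy i, ha i (hnot i)]; ring
    have hcs : ∑ i, a i ^ 2 = 4 := by
      have : ∑ i, (if i ∈ resSet x 2 then 2 * (y i ^ 2 / 8) else a i ^ 2) = ∑ i, a i ^ 2 :=
        Finset.sum_congr rfl fun i _ => by rw [if_neg (hnot i)]
      rw [this] at hcsum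
      rw [hc] at hcsum
      push_cast at hcsum
      omega
    have ha0 : ∀ i, 0 ≤ a i ^ 2 := fun i => sq_nonneg _
    by_cases hex : ∃ j, 4 ≤ a j ^ 2
    · right
      obtain ⟨j, hj⟩ := hex
      obtain ⟨hcj, hrest⟩ := split_sum _ ha0 j hcs hj
      have haj : a j = 2 ∨ a j = -2 := by
        have h7 : (a j - 2) * (a j + 2) = 0 := by ring_nf; ring_nf at hcj; omega
        rcases mul_eq_zero.mp h7 with h | h
        · left; omega
        · right; omega
      refine ⟨(j, decide (a j = 2)), ?_⟩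
      funext i
      unfold f6
      simp only
      by_cases hij : i = j
      · subst hij
        rw [if_pos rfl, hxa i]
        rcases haj with h | h
        · simp [sg, h]
        · simp [sg, h]
      · rw [if_neg hij, hxa i]
        have : a i = 0 := pow_eq_zero_iff (by norm_num) |>.mp (hrest i hij)
        rw [this]; norm_num
    · left
      push Not at hex
      have hasm : ∀ i, a i = 0 ∨ a i = 1 ∨ a i = -1 := by
        intro i
        have h5 := hex i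
        have h2 : -1 ≤ a i := by nlinarith
        have h3 : a i ≤ 1 := by nlinarith
        omega
      have hJcard : (Finset.univ.filter fun i => a i ≠ 0).card = 4 := by
        have : ∑ i, a i ^ 2 = ∑ i, (if a i ≠ 0 then (1 : ℤ) else 0) := by
          apply Finset.sum_congr rfl
          intro i _
          rcases hasm i with h | h | h <;> rw [h] <;> norm_num
        rw [hcs, Finset.sum_boole] at this
        exact_mod_cast this.symm
      have hT'sub : (Finset.univ.filter fun i => a i ≠ 0).filter (fun i => a i < 0) ⊆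
          (Finset.univ.filter fun i => a i ≠ 0) := Finset.filter_subset _ _
      have hxs : x = ss (Finset.univ.filter fun i => a i ≠ 0)
          ((Finset.univ.filter fun i => a i ≠ 0).filter (fun i => a i < 0)) 4 := by
        apply eq_ss hT'sub
        · intro i hi
          have h6 := (Finset.mem_filter.mp hi).2
          rw [hxa i]
          rcases hasm i with h | h | h <;> omega
        · intro i h5 hi
          have h6 : ¬ a i < 0 := fun h => hi (Finset.mem_filter.mpr ⟨h5, h⟩)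
          have h7 := (Finset.mem_filter.mp h5).2
          rw [hxa i]
          rcases hasm i with h | h | h <;> omega
        · intro i hi
          have h7 : a i = 0 := by
            by_contra hne
            exact hi (Finset.mem_filter.mpr ⟨Finset.mem_univ _, hne⟩)
          rw [hxa i, h7]; norm_num
      exact ⟨⟨⟨_, hJcard⟩, ⟨_, hT'sub⟩⟩, hxs.symm⟩

end Cfsg.Agent.Lib.Helper5_Leech64
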