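import Mathlib
import Cfsg.Prelude.Def_SporadicCombinatorics
import Cfsg.Agent.Lib.Helper1_Golay
import Cfsg.Agent.Lib.Helper1_Golay2
import Cfsg.Agent.Lib.Helper5_LeechMin
import Cfsg.Agent.Lib.Helper5_Leech48
import Cfsg.Agent.Lib.Helper5_Leech64
set_option autoImplicit false
open Cfsg
open Cfsg.Agent.Lib.Helper1_Golay
open Cfsg.Agent.Lib.Helper5_LeechMin
namespace Cfsg.Agent.Lib.Helper5_Leech64

local notation "𝒢" => supports (golayCode : Set (GolayPt → ZMod 2))

/-! ### union -/

theorem N64_eq : N64 = ((Set.range f1 ∪ Set.range f2) ∪ (Set.range f3 ∪ Set.range f4) ∪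
      (Set.range f5 ∪ Set.range f6)) ∪ (Set.range f7 ∪ Set.range f8) := by
  ext x
  constructor
  · intro hx
    rcases Int.emod_two_eq_zero_or_one (x none) with h | h
    · left; exact even_class hx h
    · right; exact odd_class hx h
  · rintro ((((⟨p, rfl⟩ | ⟨p, rfl⟩) | (⟨p, rfl⟩ | ⟨p, rfl⟩)) | (⟨p, rfl⟩ | ⟨p, rfl⟩)) |
      (⟨p, rfl⟩ | ⟨p, rfl⟩))
    · exact f1_mem p
    · exact f2_mem p
    · exact f3_mem p
    · exact f4_mem p
    · exact f5_mem p
    · exact f6_mem p
    · exact f7_mem p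
    · exact f8_mem p

/-! ### invariants and disjointness -/

theorem f2_vals (p : D2) (i : GolayPt) :
    f2 p i = 0 ∨ f2 p i = 2 ∨ f2 p i = -2 ∨ f2 p i = 4 ∨ f2 p i = -4 :=
  gk_vals p.2.1.2.1 p.2.2.1.2 p.2.2.2 i

theorem f3_vals (p : D3) (i : GolayPt) :
    f3 p i = 0 ∨ f3 p i = 2 ∨ f3 p i = -2 ∨ f3 p i = 6 ∨ f3 p i = -6 :=
  g3_vals p.2.1.2.1 p.2.2.2 i

theorem f4_vals (p : D4) (i : GolayPt) :
    f4 p i = 0 ∨ f4 p i = 2 ∨ f4 p i = -2 ∨ f4 p i = 4 ∨ f4 p i = -4 :=
  g4_vals p.2.1.2.1 p.2.2.2.2 p.2.2.1.2.2 i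

theorem f1_two (p : D1) : ∃ i, f1 p i % 4 = 2 := by
  have hO : p.1.1 ∈ 𝒢 ∧ p.1.1.card = 16 := p.1.2
  have hne : p.1.1.Nonempty := by rw [← Finset.card_pos, hO.2]; norm_num
  obtain ⟨i, hi⟩ := hne
  refine ⟨i, ?_⟩
  unfold f1
  rcases ss_cases p.1.1 p.2.1 p.2.2.1 2 i with ⟨_, _, e⟩ | ⟨_, _, e⟩ | ⟨_, h2, _⟩
  · rw [e]; norm_num
  · rw [e]; norm_num
  · exact absurd hi h2

theorem f2_two (p : D2) : ∃ i, f2 p i % 4 = 2 := by
  have hO : p.1.1.card = 12 := p.1.2.2
  have hne : p.1.1.Nonempty := by rw [← Finset.card_pos, hO]; norm_num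
  obtain ⟨i, hi⟩ := hne
  exact ⟨i, (gk_mod4 p.2.1.2.1 p.2.2.1.2 p.2.2.2 i).mpr hi⟩

theorem f3_two (p : D3) : ∃ i, f3 p i % 4 = 2 :=
  ⟨p.2.2.1, (g3_mod4 p.2.1.2.1 p.2.2.2 _).mpr p.2.2.2⟩

theorem f4_two (p : D4) : ∃ i, f4 p i % 4 = 2 := by
  have hO : p.1.1.card = 8 := p.1.2.2
  have hne : p.1.1.Nonempty := by rw [← Finset.card_pos, hO]; norm_num
  obtain ⟨i, hi⟩ := hne
  exact ⟨i, (g4_mod4 p.2.1.2.1 p.2.2.2.2 p.2.2.1.2.2 i).mpr hi⟩

theorem f4_four (q : D4) : ∃ i, f4 q i = 4 ∨ f4 q i = -4 := by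
  have hK : q.2.2.1.1.card = 2 := q.2.2.1.2.1
  have hne : q.2.2.1.1.Nonempty := by rw [← Finset.card_pos, hK]; norm_num
  obtain ⟨i, hi⟩ := hne
  exact ⟨i, (g4_four q.2.1.2.1 q.2.2.2.2 q.2.2.1.2.2 i).mpr hi⟩

theorem dis12 : Disjoint (Set.range f1) (Set.range f2) := by
  rw [Set.disjoint_left]
  rintro x ⟨p, rfl⟩ ⟨q, hq⟩
  have h1 : f2 q q.2.2.1.1 = sg q.2.2.2 := gk_at q.2.1.2.1 q.2.2.1.2 q.2.2.2
  rw [hq] at h1
  rcases sg_cases q.2.2.2 with h | h <;> rcases f1_vals p q.2.2.1.1 with h' | h' | h' <;> omega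

theorem dis34 : Disjoint (Set.range f3) (Set.range f4) := by
  rw [Set.disjoint_left]
  rintro x ⟨p, rfl⟩ ⟨q, hq⟩
  have h1 : f3 p p.2.2.1 = 6 ∨ f3 p p.2.2.1 = -6 := g3_at p.2.1.2.1 p.2.2.2
  have h2 := f4_vals q p.2.2.1
  rw [hq] at h2
  rcases h1 with h | h <;> rcases h2 with h' | h' | h' | h' | h' <;> omega

theorem dis56 : Disjoint (Set.range f5) (Set.range f6) := by
  rw [Set.disjoint_left]
  rintro x ⟨p, rfl⟩ ⟨q, hq⟩
  have h1 := f6_at q
  rw [hq] at h1
  rcases sg_cases q.2 with h | h <;> rcases f5_vals p q.1 with h' | h' | h' <;> omega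

theorem dis78 : Disjoint (Set.range f7) (Set.range f8) := by
  rw [Set.disjoint_left]
  rintro x ⟨p, rfl⟩ ⟨q, hq⟩
  have h1 : f8 q q.2.1.1 = 5 ∨ f8 q q.2.1.1 = -5 :=
    (oo_five q.1.1 (some q.2.1.1) q.2.1.2 q.2.1.1).mpr rfl
  rw [hq] at h1
  have h2 := (oo_five p.1.1 none p.2.1 q.2.1.1).mp h1
  exact Option.some_ne_none _ h2

theorem disA : Disjoint (Set.range f1 ∪ Set.range f2) (Set.range f3 ∪ Set.range f4) := by
  rw [Set.disjoint_left]
  rintro x (⟨p, rfl⟩ | ⟨p, rfl⟩) (⟨q, hq⟩ | ⟨q, hq⟩)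
  · have h1 : f3 q q.2.2.1 = 6 ∨ f3 q q.2.2.1 = -6 := g3_at q.2.1.2.1 q.2.2.2
    rw [hq] at h1
    rcases h1 with h | h <;> rcases f1_vals p q.2.2.1 with h' | h' | h' <;> omega
  · obtain ⟨i, h1⟩ := f4_four q
    rw [hq] at h1
    rcases h1 with h | h <;> rcases f1_vals p i with h' | h' | h' <;> omega
  · have h1 : f3 q q.2.2.1 = 6 ∨ f3 q q.2.2.1 = -6 := g3_at q.2.1.2.1 q.2.2.2
    rw [hq] at h1
    rcases h1 with h | h <;> rcases f2_vals p q.2.2.1 with h' | h' | h' | h' | h' <;> omega
  · have hK : q.2.2.1.1.card = 2 := q.2.2.1.2.1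
    obtain ⟨a, b, hab, hKe⟩ := Finset.card_eq_two.mp hK
    have key : ∀ i, i ∈ q.2.2.1.1 → i = p.2.2.1.1 := by
      intro i hi
      have h1 : f4 q i = 4 ∨ f4 q i = -4 :=
        (g4_four q.2.1.2.1 q.2.2.2.2 q.2.2.1.2.2 i).mpr hi
      rw [hq] at h1
      exact (gk_four p.2.1.2.1 p.2.2.1.2 p.2.2.2 i).mp h1
    have ha := key a (by rw [hKe]; simp)
    have hb := key b (by rw [hKe]; simp)
    exact hab (ha.trans hb.symm)

theorem two_of_mem {x : GolayPt → ℤ}
    (hx : x ∈ (Set.range f1 ∪ Set.range f2) ∪ (Set.range f3 ∪ Set.range f4)) :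
    ∃ i, x i % 4 = 2 := by
  rcases hx with (⟨p, rfl⟩ | ⟨p, rfl⟩) | (⟨p, rfl⟩ | ⟨p, rfl⟩)
  · exact f1_two p
  · exact f2_two p
  · exact f3_two p
  · exact f4_two p

theorem disB : Disjoint ((Set.range f1 ∪ Set.range f2) ∪ (Set.range f3 ∪ Set.range f4))
    (Set.range f5 ∪ Set.range f6) := by
  rw [Set.disjoint_left]
  rintro x hx (⟨q, rfl⟩ | ⟨q, rfl⟩)
  · obtain ⟨i, hi⟩ := two_of_mem hx
    rcases f5_vals q i with h | h | h <;> rw [h] at hi <;> norm_num at hi
  · obtain ⟨i, hi⟩ := two_of_mem hx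
    rcases f6_vals q i with h | h | h <;> rw [h] at hi <;> norm_num at hi

theorem even_of_mem {x : GolayPt → ℤ}
    (hx : x ∈ ((Set.range f1 ∪ Set.range f2) ∪ (Set.range f3 ∪ Set.range f4)) ∪
      (Set.range f5 ∪ Set.range f6)) : x none % 2 = 0 := by
  rcases hx with ((⟨p, rfl⟩ | ⟨p, rfl⟩) | (⟨p, rfl⟩ | ⟨p, rfl⟩)) | (⟨p, rfl⟩ | ⟨p, rfl⟩)
  · rcases f1_vals p none with h | h | h <;> rw [h] <;> norm_num
  · rcases f2_vals p none with h | h | h | h | h <;> rw [h] <;> norm_num
  · rcases f3_vals p none with h | h | h | h | h <;> rw [h] <;> norm_num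
  · rcases f4_vals p none with h | h | h | h | h <;> rw [h] <;> norm_num
  · rcases f5_vals p none with h | h | h <;> rw [h] <;> norm_num
  · rcases f6_vals p none with h | h | h <;> rw [h] <;> norm_num

theorem disC : Disjoint (((Set.range f1 ∪ Set.range f2) ∪ (Set.range f3 ∪ Set.range f4)) ∪
    (Set.range f5 ∪ Set.range f6)) (Set.range f7 ∪ Set.range f8) := by
  rw [Set.disjoint_left]
  rintro x hx (⟨q, rfl⟩ | ⟨q, rfl⟩)
  · have h1 := even_of_mem hx
    have h2 : f7 q none % 2 = 1 := oo_odd _ _ _ _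
    omega
  · have h1 := even_of_mem hx
    have h2 : f8 q none % 2 = 1 := oo_odd _ _ _ _
    omega

/-! ### counting -/

open Cfsg.Agent.Lib.Helper5_Leech48 in
theorem card_even_sub (O : Finset GolayPt) (hne : O.Nonempty) :
    Nat.card {T : Finset GolayPt // T ⊆ O ∧ Even T.card} * 2 = 2 ^ O.card := by
  classical
  rw [Nat.card_eq_fintype_card, Fintype.card_subtype]
  have : (Finset.univ.filter fun T : Finset GolayPt => T ⊆ O ∧ Even T.card) =
      O.powerset.filter fun T => Even T.card := by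
    ext T
    simp [Finset.mem_powerset]
  rw [this]
  exact card_even_subsets O hne

theorem card_odd_sub (O : Finset GolayPt) (hne : O.Nonempty) :
    Nat.card {T : Finset GolayPt // T ⊆ O ∧ ¬ Even T.card} * 2 = 2 ^ O.card := by
  classical
  rw [Nat.card_eq_fintype_card, Fintype.card_subtype]
  have : (Finset.univ.filter fun T : Finset GolayPt => T ⊆ O ∧ ¬ Even T.card) =
      O.powerset.filter fun T => ¬ Even T.card := by
    ext T
    simp [Finset.mem_powerset]
  rw [this]
  have h2 := card_even_subsets O hne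
  have h3 := Finset.card_filter_add_card_filter_not (s := O.powerset) (fun T => Even T.card)
  rw [Finset.card_powerset] at h3
  omega

theorem card_all_sub (K : Finset GolayPt) :
    Nat.card {T : Finset GolayPt // T ⊆ K} = 2 ^ K.card := by
  classical
  rw [Nat.card_eq_fintype_card, Fintype.card_subtype]
  have : (Finset.univ.filter fun T : Finset GolayPt => T ⊆ K) = K.powerset := by
    ext T; simp [Finset.mem_powerset]
  rw [this, Finset.card_powerset]

theorem card_pt' : Fintype.card GolayPt = 24 := by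
  rw [← Finset.card_univ]; exact card_univ_pt

theorem card_pairs_disj (O : Finset GolayPt) :
    Nat.card {K : Finset GolayPt // K.card = 2 ∧ Disjoint K O} = Nat.choose (24 - O.card) 2 := by
  classical
  have e : {K : Finset GolayPt // K.card = 2 ∧ Disjoint K O} ≃ ↥(Finset.powersetCard 2 Oᶜ) :=
    Equiv.subtypeEquivRight (fun K => by
      rw [Finset.mem_powersetCard, Finset.subset_compl_iff_disjoint_right]; tauto)
  rw [Nat.card_congr e, Nat.card_eq_fintype_card, Fintype.card_coe, Finset.card_powersetCard,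
    Finset.card_compl, card_pt']

theorem card_kset (k : ℕ) :
    Nat.card {J : Finset GolayPt // J.card = k} = Nat.choose 24 k := by
  classical
  have e : {J : Finset GolayPt // J.card = k} ≃
      ↥(Finset.powersetCard k (Finset.univ : Finset GolayPt)) :=
    Equiv.subtypeEquivRight (fun J => by simp [Finset.mem_powersetCard])
  rw [Nat.card_congr e, Nat.card_eq_fintype_card, Fintype.card_coe, Finset.card_powersetCard,
    card_univ_pt]

theorem choose_24_4 : Nat.choose 24 4 = 10626 := by decide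
theorem choose_24_5 : Nat.choose 24 5 = 42504 := by decide
theorem choose_16_2 : Nat.choose 16 2 = 120 := by decide
theorem choose_23_2 : Nat.choose 23 2 = 253 := by decide

set_option maxRecDepth 1000000 in
theorem count_weight16 : ((allWords rows).filter (fun n => popc n = 16)).length = 759 := by
  decide +kernel

theorem ncard_W16 : W16.ncard = 759 := by
  unfold W16
  rw [ncard_wordsOfWeight, count_weight16]

instance : Finite W16 := by
  apply Nat.finite_of_card_ne_zero
  rw [_root_.Nat.card_coe_set_eq, ncard_W16]; norm_num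

instance : Finite D1 := by unfold D1; infer_instance
instance : Finite D2 := by unfold D2; infer_instance
instance : Finite D3 := by unfold D3; infer_instance
instance : Finite D4 := by unfold D4; infer_instance
instance : Finite D5 := by unfold D5; infer_instance

theorem card_fiber1 (O : W16) :
    Nat.card {T : Finset GolayPt // T ⊆ O.1 ∧ Even T.card} = 32768 := by
  have hO : O.1 ∈ 𝒢 ∧ O.1.card = 16 := O.2
  have hne : O.1.Nonempty := by rw [← Finset.card_pos, hO.2]; norm_num
  have := card_even_sub O.1 hne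
  rw [hO.2] at this
  omega

theorem card_D1 : Nat.card D1 = 24870912 := by
  classical
  haveI : Fintype W16 := Fintype.ofFinite _
  unfold D1
  rw [Nat.card_sigma]
  simp only [card_fiber1, Finset.sum_const, Finset.card_univ, smul_eq_mul]
  rw [← Nat.card_eq_fintype_card, _root_.Nat.card_coe_set_eq, ncard_W16]

theorem card_fiber2 (O : dodecads) :
    Nat.card ({T : Finset GolayPt // T ⊆ O.1 ∧ ¬ Even T.card} × {k : GolayPt // k ∉ O.1} × Bool) =
      49152 := by
  classical
  rw [Nat.card_prod, Nat.card_prod]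
  have hO : O.1.card = 12 := O.2.2
  have hne : O.1.Nonempty := by rw [← Finset.card_pos, hO]; norm_num
  have h1 := card_odd_sub O.1 hne
  rw [hO] at h1
  have h2 : Nat.card {k : GolayPt // k ∉ O.1} = 12 := by
    rw [Nat.card_eq_fintype_card, Fintype.card_subtype]
    have : (Finset.univ.filter fun k : GolayPt => k ∉ O.1) = O.1ᶜ := by
      ext k; simp
    rw [this, Finset.card_compl, hO, card_pt']
  rw [h2, Nat.card_eq_fintype_card (α := Bool), Fintype.card_bool]
  omega

theorem card_D2 : Nat.card D2 = 126615552 := by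
  classical
  haveI : Fintype dodecads := Fintype.ofFinite _
  unfold D2
  rw [Nat.card_sigma]
  simp only [card_fiber2, Finset.sum_const, Finset.card_univ, smul_eq_mul]
  rw [← Nat.card_eq_fintype_card, _root_.Nat.card_coe_set_eq, ncard_dodecads]

theorem card_fiber3 (O : octads) :
    Nat.card ({T : Finset GolayPt // T ⊆ O.1 ∧ ¬ Even T.card} × {j : GolayPt // j ∈ O.1}) =
      1024 := by
  classical
  rw [Nat.card_prod]
  have hO : O.1.card = 8 := O.2.2
  have hne : O.1.Nonempty := by rw [← Finset.card_pos, hO]; norm_num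
  have h1 := card_odd_sub O.1 hne
  rw [hO] at h1
  have h2 : Nat.card {j : GolayPt // j ∈ O.1} = 8 := by
    rw [Nat.card_eq_fintype_card, Fintype.card_coe, hO]
  rw [h2]
  omega

theorem card_D3 : Nat.card D3 = 777216 := by
  classical
  haveI : Fintype octads := Fintype.ofFinite _
  unfold D3
  rw [Nat.card_sigma]
  simp only [card_fiber3, Finset.sum_const, Finset.card_univ, smul_eq_mul]
  rw [← Nat.card_eq_fintype_card, _root_.Nat.card_coe_set_eq, ncard_octads]

theorem card_fiber4b (K : Finset GolayPt) (hK : K.card = 2) :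
    Nat.card {T' : Finset GolayPt // T' ⊆ K} = 4 := by
  rw [card_all_sub, hK]; norm_num

theorem card_fiber4a (O : octads) :
    Nat.card (Σ K : {K : Finset GolayPt // K.card = 2 ∧ Disjoint K O.1},
      {T' : Finset GolayPt // T' ⊆ K.1}) = 480 := by
  classical
  have hO : O.1.card = 8 := O.2.2
  rw [Nat.card_sigma]
  have : ∀ K : {K : Finset GolayPt // K.card = 2 ∧ Disjoint K O.1},
      Nat.card {T' : Finset GolayPt // T' ⊆ K.1} = 4 := fun K => card_fiber4b K.1 K.2.1
  simp only [this, Finset.sum_const, Finset.card_univ, smul_eq_mul]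
  rw [← Nat.card_eq_fintype_card, card_pairs_disj, hO, choose_16_2]

theorem card_fiber4 (O : octads) :
    Nat.card ({T : Finset GolayPt // T ⊆ O.1 ∧ Even T.card} ×
      (Σ K : {K : Finset GolayPt // K.card = 2 ∧ Disjoint K O.1},
        {T' : Finset GolayPt // T' ⊆ K.1})) = 61440 := by
  classical
  rw [Nat.card_prod, card_fiber4a]
  have hO : O.1.card = 8 := O.2.2
  have hne : O.1.Nonempty := by rw [← Finset.card_pos, hO]; norm_num
  have h1 := card_even_sub O.1 hne
  rw [hO] at h1
  omega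

theorem card_D4 : Nat.card D4 = 46632960 := by
  classical
  haveI : Fintype octads := Fintype.ofFinite _
  unfold D4
  rw [Nat.card_sigma]
  simp only [card_fiber4, Finset.sum_const, Finset.card_univ, smul_eq_mul]
  rw [← Nat.card_eq_fintype_card, _root_.Nat.card_coe_set_eq, ncard_octads]

theorem card_D5 : Nat.card D5 = 170016 := by
  classical
  have : Fintype {J : Finset GolayPt // J.card = 4} := Fintype.ofFinite _
  unfold D5
  rw [Nat.card_sigma]
  have : ∀ J : {J : Finset GolayPt // J.card = 4},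
      Nat.card {T : Finset GolayPt // T ⊆ J.1} = 16 := fun J => by
    rw [card_all_sub, J.2]; norm_num
  simp only [this, Finset.sum_const, Finset.card_univ, smul_eq_mul]
  rw [← Nat.card_eq_fintype_card, card_kset, choose_24_4]

theorem card_D6 : Nat.card (GolayPt × Bool) = 48 := by
  rw [Nat.card_prod, Nat.card_eq_fintype_card (α := GolayPt), card_pt',
    Nat.card_eq_fintype_card (α := Bool), Fintype.card_bool]

open Cfsg.Agent.Lib.Helper5_Leech48 in
theorem card_D7 : Nat.card (golayCode × Pen) = 174096384 := by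
  rw [Nat.card_prod, card_code, card_kset, choose_24_5]

def pkEquiv : PK ≃ Σ j : GolayPt, {K : Finset GolayPt // K.card = 2 ∧ Disjoint K {j}} where
  toFun p := ⟨p.1.1, ⟨p.1.2, p.2.1, Finset.disjoint_singleton_right.mpr p.2.2⟩⟩
  invFun q := ⟨(q.1, q.2.1), q.2.2.1, Finset.disjoint_singleton_right.mp q.2.2.2⟩
  left_inv _ := rfl
  right_inv _ := rfl

theorem card_PK : Nat.card PK = 6072 := by
  classical
  rw [Nat.card_congr pkEquiv, Nat.card_sigma]
  have : ∀ j : GolayPt, Nat.card {K : Finset GolayPt // K.card = 2 ∧ Disjoint K {j}} = 253 :=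
    fun j => by rw [card_pairs_disj, Finset.card_singleton, choose_23_2]
  rw [Finset.sum_congr rfl (fun j _ => this j), Finset.sum_const, Finset.card_univ, card_pt',
    smul_eq_mul]

open Cfsg.Agent.Lib.Helper5_Leech48 in
theorem card_D8 : Nat.card (golayCode × PK) = 24870912 := by
  rw [Nat.card_prod, card_code, card_PK]

theorem main : {x : GolayPt → ℤ | x ∈ leechLattice ∧ sqNorm x = 64}.ncard = 398034000 := by
  change N64.ncard = 398034000
  rw [N64_eq, Set.ncard_union_eq disC
      ((((Set.finite_range _).union (Set.finite_range _)).union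
        ((Set.finite_range _).union (Set.finite_range _))).union
        ((Set.finite_range _).union (Set.finite_range _)))
      ((Set.finite_range _).union (Set.finite_range _)),
    Set.ncard_union_eq disB
      (((Set.finite_range _).union (Set.finite_range _)).union
        ((Set.finite_range _).union (Set.finite_range _)))
      ((Set.finite_range _).union (Set.finite_range _)),
    Set.ncard_union_eq disA ((Set.finite_range _).union (Set.finite_range _))
      ((Set.finite_range _).union (Set.finite_range _)),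
    Set.ncard_union_eq dis12 (Set.finite_range _) (Set.finite_range _),
    Set.ncard_union_eq dis34 (Set.finite_range _) (Set.finite_range _),
    Set.ncard_union_eq dis56 (Set.finite_range _) (Set.finite_range _),
    Set.ncard_union_eq dis78 (Set.finite_range _) (Set.finite_range _),
    Set.ncard_range_of_injective f1_injective, Set.ncard_range_of_injective f2_injective,
    Set.ncard_range_of_injective f3_injective, Set.ncard_range_of_injective f4_injective,
    Set.ncard_range_of_injective f5_injective, Set.ncard_range_of_injective f6_injective,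
    Set.ncard_range_of_injective f7_injective, Set.ncard_range_of_injective f8_injective,
    card_D1, card_D2, card_D3, card_D4, card_D5, card_D6, card_D7, card_D8]

end Cfsg.Agent.Lib.Helper5_Leech64
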