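import Mathlib
import Cfsg.Prelude.Def_SporadicCombinatorics
import Cfsg.Agent.Lib.Helper1_Golay
set_option autoImplicit false
open Cfsg
open Cfsg.Agent.Lib.Helper1_Golay
namespace Cfsg.Agent.Lib.Helper5_LeechGen

local notation "𝒢" => supports (golayCode : Set (GolayPt → ZMod 2))

/-- the subgroup generated by the minimal vectors -/
def minGen : AddSubgroup (GolayPt → ℤ) :=
  AddSubgroup.closure {x : GolayPt → ℤ | x ∈ leechLattice ∧ sqNorm x = 32}

theorem mem_minGen_of {x : GolayPt → ℤ} (h1 : x ∈ leechSet) (h2 : sqNorm x = 32) : x ∈ minGen :=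
  AddSubgroup.subset_closure ⟨(mem_leechLattice_iff x).mpr h1, h2⟩

theorem card_univ_pt : (Finset.univ : Finset GolayPt).card = 24 := by decide

/-- the vector with `-1` on `S`, `1` off `S`, then `4` subtracted at `i0` -/
def vec (S : Finset GolayPt) (i0 : GolayPt) : GolayPt → ℤ :=
  fun j => 1 - 2 * (if j ∈ S then 1 else 0) - 4 * (if j = i0 then 1 else 0)

theorem sum_vec (S : Finset GolayPt) (i0 : GolayPt) :
    ∑ j, vec S i0 j = 20 - 2 * (S.card : ℤ) := by
  unfold vec
  rw [Finset.sum_sub_distrib, Finset.sum_sub_distrib, ← Finset.mul_sum, ← Finset.mul_sum]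
  simp only [Finset.sum_const, Finset.sum_boole, card_univ_pt, Finset.filter_eq',
    Finset.mem_univ, if_true, Finset.card_singleton, Finset.filter_mem_eq_inter,
    Finset.univ_inter]
  simp
  ring

theorem vec_mem_leechSet {S : Finset GolayPt} (hS : S ∈ 𝒢) {i0 : GolayPt} (hi : i0 ∉ S) :
    vec S i0 ∈ leechSet := by
  rw [mem_leechSet_iff]
  refine ⟨1, fun j => ?_, ?_, ?_⟩
  · unfold vec
    split_ifs <;> norm_num
  · rw [sum_vec]
    obtain ⟨k, hk⟩ := four_dvd_card hS
    rw [hk]; push_cast; omega
  · have : resSet (vec S i0) 1 = Sᶜ := by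
      ext j
      simp only [mem_resSet, Finset.mem_compl, vec]
      by_cases hj : j ∈ S
      · have : j ≠ i0 := fun h => hi (h ▸ hj)
        simp [hj, this]
      · by_cases hj' : j = i0
        · subst hj'; simp [hj]
        · simp [hj, hj']
    rw [this]; exact compl_mem hS

theorem sqNorm_vec {S : Finset GolayPt} {i0 : GolayPt} (hi : i0 ∉ S) :
    sqNorm (vec S i0) = 32 := by
  unfold sqNorm
  have h : ∀ j, vec S i0 j ^ 2 = 1 + 8 * (if j = i0 then 1 else 0) := by
    intro j
    unfold vec
    by_cases hj : j ∈ S
    · have : j ≠ i0 := fun h => hi (h ▸ hj)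
      simp [hj, this]
    · by_cases hj' : j = i0
      · subst hj'; simp [hj]
      · simp [hj, hj']
  simp only [h]
  rw [Finset.sum_add_distrib, ← Finset.mul_sum]
  simp only [Finset.sum_const, Finset.sum_boole, card_univ_pt, Finset.filter_eq',
    Finset.mem_univ, if_true, Finset.card_singleton]
  simp

/-- twice the indicator of a finset, as an integer vector -/
def twoInd (S : Finset GolayPt) : GolayPt → ℤ := fun j => if j ∈ S then 2 else 0

theorem twoInd_mem_of_ne {S : Finset GolayPt} (hS : S ∈ 𝒢) {i0 : GolayPt} (hi : i0 ∉ S) :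
    twoInd S ∈ minGen := by
  have ha : vec ∅ i0 ∈ minGen :=
    mem_minGen_of (vec_mem_leechSet empty_mem (Finset.notMem_empty _))
      (sqNorm_vec (Finset.notMem_empty _))
  have hb : vec S i0 ∈ minGen := mem_minGen_of (vec_mem_leechSet hS hi) (sqNorm_vec hi)
  have : twoInd S = vec ∅ i0 - vec S i0 := by
    funext j
    simp only [twoInd, vec, Pi.sub_apply, Finset.notMem_empty, if_false]
    split_ifs <;> ring
  rw [this]
  exact minGen.sub_mem ha hb

theorem twoInd_mem {S : Finset GolayPt} (hS : S ∈ 𝒢) : twoInd S ∈ minGen := by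
  by_cases h : ∃ i0, i0 ∉ S
  · obtain ⟨i0, hi⟩ := h
    exact twoInd_mem_of_ne hS hi
  · push Not at h
    -- S = univ
    have hT : support₂ (qrWord 0) ∈ 𝒢 := ⟨qrWord 0, qrWord_mem_golay 0, rfl⟩
    have h1 : (none : GolayPt) ∉ support₂ (qrWord 0) := by
      rw [mem_support₂]; simp [qrWord]
    have h2 : (some 0 : GolayPt) ∉ (support₂ (qrWord 0))ᶜ := by
      rw [Finset.mem_compl, not_not, mem_support₂]
      simp only [qrWord]
      rw [if_pos ⟨0, by simp⟩]
    have e : twoInd S = twoInd (support₂ (qrWord 0)) + twoInd (support₂ (qrWord 0))ᶜ := by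
      funext j
      simp only [twoInd, Pi.add_apply, Finset.mem_compl, h j, if_true]
      split_ifs <;> rfl
    rw [e]
    exact minGen.add_mem (twoInd_mem_of_ne hT h1) (twoInd_mem_of_ne (compl_mem hT) h2)

theorem sum_none : ∑ j : GolayPt, (if j = none then (1 : ℤ) else 0) = 1 := by
  rw [Finset.sum_eq_single none] <;> simp

theorem sum_pt (i : GolayPt) : ∑ j : GolayPt, (if j = i then (1 : ℤ) else 0) = 1 := by
  rw [Finset.sum_eq_single i] <;> simp +contextual

/-- the vector `4 e_i + s e_none` -/
def dvec (i : GolayPt) (s : ℤ) : GolayPt → ℤ :=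
  fun j => 4 * (if j = i then 1 else 0) + s * (if j = none then 1 else 0)

theorem dvec_mem (i : GolayPt) (hi : i ≠ none) (s : ℤ) (hs : s = 4 ∨ s = -4) :
    dvec i s ∈ minGen := by
  apply mem_minGen_of
  · rw [mem_leechSet_iff]
    refine ⟨0, fun j => ?_, ?_, ?_⟩
    · unfold dvec
      rcases hs with rfl | rfl <;> split_ifs <;> norm_num
    · unfold dvec
      rw [Finset.sum_add_distrib, ← Finset.mul_sum, ← Finset.mul_sum, sum_none, sum_pt]
      rcases hs with rfl | rfl <;> norm_num
    · have : resSet (dvec i s) 0 = Finset.univ := by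
        ext j
        simp only [mem_resSet, Finset.mem_univ, iff_true, dvec]
        rcases hs with rfl | rfl <;> split_ifs <;> norm_num
      rw [this]; exact univ_mem
  · unfold sqNorm
    have h : ∀ j, dvec i s j ^ 2 = 16 * (if j = i then 1 else 0) + 16 * (if j = none then 1 else 0) := by
      intro j
      unfold dvec
      by_cases h1 : j = i
      · have h2 : j ≠ none := h1 ▸ hi
        rcases hs with rfl | rfl <;> simp [h1, hi]
      · by_cases h2 : j = none
        · subst h2
          rcases hs with rfl | rfl <;> simp [Ne.symm hi]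
        · simp [h1, h2]
    simp only [h]
    rw [Finset.sum_add_distrib, ← Finset.mul_sum, ← Finset.mul_sum, sum_none, sum_pt]
    norm_num

theorem dvec_mem' (i : GolayPt) : dvec i (-4) ∈ minGen := by
  by_cases hi : i = none
  · have : dvec i (-4) = 0 := by
      funext j
      simp only [dvec, hi, Pi.zero_apply]
      ring
    rw [this]; exact minGen.zero_mem
  · exact dvec_mem i hi _ (Or.inr rfl)

theorem eight_mem : (fun j : GolayPt => (8 : ℤ) * (if j = none then 1 else 0)) ∈ minGen := by
  have h1 := dvec_mem (some 0) (by simp) 4 (Or.inl rfl)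
  have h2 := dvec_mem (some 0) (by simp) (-4) (Or.inr rfl)
  have : (fun j : GolayPt => (8 : ℤ) * (if j = none then 1 else 0)) =
      dvec (some 0) 4 - dvec (some 0) (-4) := by
    funext j
    simp only [dvec, Pi.sub_apply]
    ring
  rw [this]
  exact minGen.sub_mem h1 h2

/-- vectors `4y` with `∑ y` even are generated by minimal vectors -/
theorem dtype_mem (y : GolayPt → ℤ) (k : ℤ) (hk : ∑ i, y i = 2 * k) :
    (fun j => 4 * y j) ∈ minGen := by
  have e : (fun j => 4 * y j) = ∑ i, y i • dvec i (-4) +
      k • (fun j : GolayPt => (8 : ℤ) * (if j = none then 1 else 0)) := by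
    funext j
    simp only [Pi.add_apply, Finset.sum_apply, Pi.smul_apply, smul_eq_mul, dvec]
    have h1 : ∀ i, y i * (4 * (if j = i then 1 else 0) + -4 * (if j = none then 1 else 0)) =
        4 * (if i = j then y i else 0) + (-4 * (if j = none then 1 else 0)) * y i := by
      intro i
      by_cases h : j = i
      · subst h
        by_cases h2 : j = none
        · simp [h2]
        · simp [h2]; ring
      · have h' : i ≠ j := fun h' => h h'.symm
        by_cases h2 : j = none
        · subst h2
          have h3 : i ≠ none := h'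
          simp [h, h3]
          ring
        · simp [h, h', h2]
    simp only [h1]
    rw [Finset.sum_add_distrib, ← Finset.mul_sum, ← Finset.mul_sum, hk,
      Finset.sum_ite_eq' Finset.univ j]
    simp only [Finset.mem_univ, if_true]
    ring
  rw [e]
  exact minGen.add_mem (AddSubgroup.sum_mem _ fun i _ => minGen.zsmul_mem (dvec_mem' i) _)
    (minGen.zsmul_mem eight_mem _)

theorem sum_twoInd (S : Finset GolayPt) : ∑ j, twoInd S j = 2 * (S.card : ℤ) := by
  unfold twoInd
  have : ∀ j, (if j ∈ S then (2 : ℤ) else 0) = 2 * (if j ∈ S then 1 else 0) := by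
    intro j; split_ifs <;> simp
  simp only [this]
  rw [← Finset.mul_sum]
  simp only [Finset.sum_boole, Finset.filter_mem_eq_inter, Finset.univ_inter]

/-- the even case -/
theorem even_mem (x : GolayPt → ℤ) (h1 : ∀ i, x i % 2 = 0) (h2 : (∑ i, x i) % 8 = 0)
    (h3 : resSet x 2 ∈ 𝒢) : x ∈ minGen := by
  have ht := twoInd_mem h3
  have hz : ∀ i, ∃ c : ℤ, x i - twoInd (resSet x 2) i = 4 * c := by
    intro i
    by_cases hi : i ∈ resSet x 2
    · have := (mem_resSet x 2 i).mp hi
      refine ⟨(x i - 2) / 4, ?_⟩
      simp only [twoInd, hi, if_true]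
      omega
    · have h' : ¬ (x i % 4 = 2 % 4) := fun h => hi ((mem_resSet x 2 i).mpr h)
      have := h1 i
      refine ⟨x i / 4, ?_⟩
      simp only [twoInd, hi, if_false]
      omega
  choose y hy using hz
  obtain ⟨q, hq⟩ := four_dvd_card h3
  have hsum : ∑ i, (x i - twoInd (resSet x 2) i) = 4 * ∑ i, y i := by
    rw [Finset.mul_sum]; exact Finset.sum_congr rfl fun i _ => hy i
  rw [Finset.sum_sub_distrib, sum_twoInd, hq] at hsum
  push_cast at hsum
  have hk : ∑ i, y i = 2 * ((∑ i, y i) / 2) := by omega
  have hd := dtype_mem y _ hk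
  have e : x = (fun j => 4 * y j) + twoInd (resSet x 2) := by
    funext j
    simp only [Pi.add_apply]
    have := hy j
    omega
  rw [e]
  exact minGen.add_mem hd ht

theorem leechSet_le {x : GolayPt → ℤ} (hx : x ∈ leechSet) : x ∈ minGen := by
  rw [mem_leechSet_iff] at hx
  obtain ⟨m, h1, h2, h3⟩ := hx
  rcases Int.emod_two_eq_zero_or_one m with hm | hm
  · -- even case
    apply even_mem x (fun i => by rw [h1 i, hm]) (by omega)
    have h4 : m % 4 = 0 ∨ m % 4 = 2 := by omega
    rcases h4 with h4 | h4
    · have : resSet x 2 = (resSet x m)ᶜ := by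
        ext i
        simp only [mem_resSet, Finset.mem_compl]
        have := h1 i; omega
      rw [this]; exact compl_mem h3
    · have : resSet x 2 = resSet x m := by
        ext i
        simp only [mem_resSet]
        omega
      rw [this]; exact h3
  · -- odd case
    have ha1 : vec ∅ none ∈ leechSet := vec_mem_leechSet empty_mem (Finset.notMem_empty _)
    have ha : vec ∅ none ∈ minGen := mem_minGen_of ha1 (sqNorm_vec (Finset.notMem_empty _))
    have hv : ∀ i, vec ∅ none i % 4 = 1 := by
      intro i
      simp only [vec, Finset.notMem_empty, if_false]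
      split_ifs <;> norm_num
    have hx' : x - vec ∅ none ∈ minGen := by
      apply even_mem
      · intro i
        have := h1 i; have := hv i
        simp only [Pi.sub_apply]; omega
      · simp only [Pi.sub_apply]
        rw [Finset.sum_sub_distrib, sum_vec]
        simp only [Finset.card_empty]
        push_cast
        omega
      · have h4 : m % 4 = 1 ∨ m % 4 = 3 := by omega
        rcases h4 with h4 | h4
        · have : resSet (x - vec ∅ none) 2 = (resSet x m)ᶜ := by
            ext i
            simp only [mem_resSet, Finset.mem_compl, Pi.sub_apply]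
            have := h1 i; have := hv i; omega
          rw [this]; exact compl_mem h3
        · have : resSet (x - vec ∅ none) 2 = resSet x m := by
            ext i
            simp only [mem_resSet, Pi.sub_apply]
            have := h1 i; have := hv i; omega
          rw [this]; exact h3
    have : x = (x - vec ∅ none) + vec ∅ none := by abel
    rw [this]
    exact minGen.add_mem hx' ha

theorem main : AddSubgroup.closure {x : GolayPt → ℤ | x ∈ leechLattice ∧ sqNorm x = 32}
    = leechLattice := by
  apply le_antisymm
  · rw [AddSubgroup.closure_le]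
    intro x hx
    exact hx.1
  · intro x hx
    exact leechSet_le ((mem_leechLattice_iff x).mp hx)

end Cfsg.Agent.Lib.Helper5_LeechGen
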