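import Mathlib
import Cfsg.Prelude.Def_SporadicCombinatorics
import Cfsg.Agent.Lib.Helper1_Golay
import Cfsg.Agent.Lib.Helper1_Golay2
import Cfsg.Agent.Lib.Helper5_LeechGen
set_option autoImplicit false
open Cfsg
open Cfsg.Agent.Lib.Helper1_Golay
namespace Cfsg.Agent.Lib.Helper5_LeechIdx

local notation "𝒢" => supports (golayCode : Set (GolayPt → ZMod 2))

/-- reduction mod 2 -/
def f1 : (GolayPt → ℤ) →+ (GolayPt → ZMod 2) :=
  AddMonoidHom.compLeft (Int.castAddHom (ZMod 2)) GolayPt

theorem f1_apply (x : GolayPt → ℤ) (i : GolayPt) : f1 x i = ((x i : ℤ) : ZMod 2) := rfl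

theorem f1_surjective : Function.Surjective f1 := by
  intro w
  refine ⟨fun i => ((w i).val : ℤ), ?_⟩
  funext i
  rw [f1_apply]
  simp

theorem cast_eq_zero_iff (a : ℤ) : ((a : ℤ) : ZMod 2) = 0 ↔ a % 2 = 0 := by
  rw [ZMod.intCast_zmod_eq_zero_iff_dvd]
  omega

theorem cast_eq_one_iff (a : ℤ) : ((a : ℤ) : ZMod 2) = 1 ↔ a % 2 = 1 := by
  have h : ((a : ℤ) : ZMod 2) = 1 ↔ (((a - 1 : ℤ)) : ZMod 2) = 0 := by
    push_cast
    rw [sub_eq_zero]
  rw [h, cast_eq_zero_iff]
  omega

theorem mem_ker_f1 (x : GolayPt → ℤ) : x ∈ f1.ker ↔ ∀ i, x i % 2 = 0 := by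
  rw [AddMonoidHom.mem_ker]
  constructor
  · intro h i
    have := congrFun h i
    rw [f1_apply] at this
    exact (cast_eq_zero_iff _).mp this
  · intro h
    funext i
    rw [f1_apply]
    exact (cast_eq_zero_iff _).mpr (h i)

theorem card_words : Nat.card (GolayPt → ZMod 2) = 2 ^ 24 := by
  rw [Nat.card_fun, Nat.card_zmod, Nat.card_eq_fintype_card]
  rfl

theorem index_ker_f1 : f1.ker.index = 2 ^ 24 := by
  rw [AddSubgroup.index_ker, AddMonoidHom.range_eq_top.mpr f1_surjective]
  rw [Nat.card_congr (AddSubgroup.topEquiv (G := GolayPt → ZMod 2)).toEquiv]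
  exact card_words

/-- the code as an additive subgroup -/
def codeSub : AddSubgroup (GolayPt → ZMod 2) := golayCode.toAddSubgroup

theorem card_code : Nat.card codeSub = 2 ^ 12 := by
  have h := Module.natCard_eq_pow_finrank (K := ZMod 2) (V := golayCode)
  rw [finrank_golay, Nat.card_zmod] at h
  exact h

theorem index_code : codeSub.index = 2 ^ 12 := by
  have h := AddSubgroup.card_mul_index codeSub
  rw [card_code] at h
  rw [card_words] at h
  have : (2 : ℕ) ^ 24 = 2 ^ 12 * 2 ^ 12 := by norm_num
  rw [this] at h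
  exact Nat.eq_of_mul_eq_mul_left (by norm_num) h

/-- vectors whose reduction mod 2 is a codeword -/
def B : AddSubgroup (GolayPt → ℤ) := codeSub.comap f1

theorem index_B : B.index = 2 ^ 12 := by
  unfold B
  rw [AddSubgroup.index_comap_of_surjective _ f1_surjective, index_code]

/-- doubling -/
def dbl : (GolayPt → ℤ) →+ (GolayPt → ℤ) := zsmulAddGroupHom (2 : ℤ)

theorem dbl_apply (x : GolayPt → ℤ) (i : GolayPt) : dbl x i = 2 * x i := by
  simp [dbl]

theorem dbl_ker : dbl.ker = ⊥ := by
  rw [AddSubgroup.eq_bot_iff_forall]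
  intro x hx
  rw [AddMonoidHom.mem_ker] at hx
  funext i
  have := congrFun hx i
  rw [dbl_apply] at this
  simp only [Pi.zero_apply] at this ⊢
  omega

theorem dbl_range : dbl.range = f1.ker := by
  ext x
  rw [mem_ker_f1, AddMonoidHom.mem_range]
  constructor
  · rintro ⟨y, rfl⟩ i
    rw [dbl_apply]; omega
  · intro h
    refine ⟨fun i => x i / 2, ?_⟩
    funext i
    rw [dbl_apply]
    have := h i
    omega

/-- even vectors whose half reduces to a codeword -/
def A2 : AddSubgroup (GolayPt → ℤ) := B.map dbl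

theorem index_A2 : A2.index = 2 ^ 36 := by
  unfold A2
  rw [AddSubgroup.index_map, dbl_ker, sup_bot_eq, index_B, dbl_range, index_ker_f1]
  norm_num

theorem mem_A2 (x : GolayPt → ℤ) : x ∈ A2 ↔ ∃ y : GolayPt → ℤ, f1 y ∈ golayCode ∧ ∀ i, x i = 2 * y i := by
  unfold A2 B
  rw [AddSubgroup.mem_map]
  constructor
  · rintro ⟨y, hy, rfl⟩
    exact ⟨y, hy, fun i => dbl_apply y i⟩
  · rintro ⟨y, hy, h⟩
    exact ⟨y, hy, funext fun i => by rw [dbl_apply, h i]⟩

/-- coordinate sum mod 8 -/
def h8 : (GolayPt → ℤ) →+ ZMod 8 where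
  toFun x := ((∑ i, x i : ℤ) : ZMod 8)
  map_zero' := by simp
  map_add' x y := by
    simp only [Pi.add_apply, Finset.sum_add_distrib]
    push_cast
    rfl

theorem h8_apply (x : GolayPt → ℤ) : h8 x = ((∑ i, x i : ℤ) : ZMod 8) := rfl

theorem mem_ker_h8 (x : GolayPt → ℤ) : x ∈ h8.ker ↔ (∑ i, x i) % 8 = 0 := by
  rw [AddMonoidHom.mem_ker, h8_apply, ZMod.intCast_zmod_eq_zero_iff_dvd]
  push_cast
  omega

/-- the support of `f1 y` is the set of odd coordinates -/
theorem support_f1 (y : GolayPt → ℤ) :
    support₂ (f1 y) = Finset.univ.filter fun i => y i % 2 = 1 := by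
  ext i
  rw [mem_support₂, f1_apply, cast_eq_one_iff]
  simp

/-- parity of the sum -/
theorem sum_mod_two (y : GolayPt → ℤ) :
    (∑ i, y i) % 2 = ((Finset.univ.filter fun i => y i % 2 = 1).card : ℤ) % 2 := by
  have h1 : ((∑ i, y i : ℤ) : ZMod 2) =
      (((Finset.univ.filter fun i => y i % 2 = 1).card : ℤ) : ZMod 2) := by
    push_cast
    rw [Finset.card_filter]
    push_cast
    apply Finset.sum_congr rfl
    intro i _
    by_cases hi : y i % 2 = 1
    · rw [if_pos hi]; exact (cast_eq_one_iff _).mpr hi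
    · rw [if_neg hi]; exact (cast_eq_zero_iff _).mpr (by omega)
  have h2 := (ZMod.intCast_eq_intCast_iff_dvd_sub _ _ 2).mp h1
  push_cast at h2
  omega

theorem sum_even_of_code {y : GolayPt → ℤ} (hy : f1 y ∈ golayCode) : (∑ i, y i) % 2 = 0 := by
  have h1 : support₂ (f1 y) ∈ 𝒢 := ⟨f1 y, hy, rfl⟩
  obtain ⟨k, hk⟩ := four_dvd_card h1
  rw [support_f1] at hk
  rw [sum_mod_two, hk]
  push_cast
  omega

/-- the even part of the lattice -/
def Lev : AddSubgroup (GolayPt → ℤ) := h8.ker ⊓ A2

theorem Lev_eq : Lev = f1.ker ⊓ leechLattice := by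
  ext x
  unfold Lev
  rw [AddSubgroup.mem_inf, AddSubgroup.mem_inf, mem_ker_h8, mem_A2, mem_ker_f1,
    mem_leechLattice_iff, mem_leechSet_iff]
  constructor
  · rintro ⟨hs, y, hy, hxy⟩
    refine ⟨fun i => by rw [hxy i]; omega, 2, fun i => by rw [hxy i]; omega, by omega, ?_⟩
    have : resSet x 2 = support₂ (f1 y) := by
      rw [support_f1]
      ext i
      simp only [mem_resSet, Finset.mem_filter, Finset.mem_univ, true_and]
      rw [hxy i]; omega
    rw [this]
    exact ⟨f1 y, hy, rfl⟩
  · rintro ⟨hev, m, h1, h2, h3⟩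
    have hm : m % 2 = 0 := by rw [← h1 none]; exact hev none
    refine ⟨by omega, fun i => x i / 2, ?_, fun i => by
      show x i = 2 * (x i / 2)
      have := hev i; omega⟩
    have hS : resSet x 2 ∈ 𝒢 := by
      have h4 : m % 4 = 0 ∨ m % 4 = 2 := by omega
      rcases h4 with h4 | h4
      · have : resSet x 2 = (resSet x m)ᶜ := by
          ext i
          simp only [mem_resSet, Finset.mem_compl]
          have := hev i; omega
        rw [this]; exact compl_mem h3
      · have : resSet x 2 = resSet x m := by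
          ext i
          simp only [mem_resSet]
          omega
        rw [this]; exact h3
    obtain ⟨w, hw, hws⟩ := hS
    have : f1 (fun i => x i / 2) = w := by
      funext i
      have hi : i ∈ support₂ w ↔ i ∈ resSet x 2 := by rw [hws]
      rw [mem_support₂, mem_resSet] at hi
      rw [f1_apply]
      by_cases hx : x i % 4 = 2 % 4
      · rw [hi.mpr hx]
        apply (cast_eq_one_iff _).mpr
        have := hev i; omega
      · have hw0 : w i = 0 := by
          by_contra hne
          exact hx (hi.mp ((zmod2_ne_zero_iff _).mp hne))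
        rw [hw0]
        apply (cast_eq_zero_iff _).mpr
        have := hev i; omega
    rw [this]; exact hw

theorem relIndex_Lev_A2 : Lev.relIndex A2 = 2 := by
  unfold Lev
  rw [AddSubgroup.inf_relIndex_right, AddSubgroup.relIndex_ker]
  have hset : ((A2.map h8 : AddSubgroup (ZMod 8)) : Set (ZMod 8)) = {0, 4} := by
    ext z
    simp only [AddSubgroup.coe_map, Set.mem_image, SetLike.mem_coe, Set.mem_insert_iff,
      Set.mem_singleton_iff]
    constructor
    · rintro ⟨x, hx, rfl⟩
      rw [mem_A2] at hx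
      obtain ⟨y, hy, hxy⟩ := hx
      have h1 := sum_even_of_code hy
      have h2 : ∑ i, x i = 2 * ∑ i, y i := by
        rw [Finset.mul_sum]; exact Finset.sum_congr rfl fun i _ => hxy i
      rw [h8_apply, h2]
      have h3 : (∑ i, y i) % 4 = 0 ∨ (∑ i, y i) % 4 = 2 := by omega
      rcases h3 with h3 | h3
      · left
        rw [ZMod.intCast_zmod_eq_zero_iff_dvd]
        push_cast
        omega
      · right
        have : ((4 : ℤ) : ZMod 8) = 4 := by norm_cast
        rw [← this, ZMod.intCast_eq_intCast_iff_dvd_sub]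
        push_cast
        omega
    · rintro (rfl | rfl)
      · exact ⟨0, A2.zero_mem, map_zero _⟩
      · refine ⟨fun i => 4 * (if i = none then 1 else 0), ?_, ?_⟩
        · rw [mem_A2]
          refine ⟨fun i => 2 * (if i = none then 1 else 0), ?_, fun i => by ring⟩
          have : f1 (fun i => 2 * (if i = none then 1 else 0)) = 0 := by
            funext i
            rw [f1_apply]
            apply (cast_eq_zero_iff _).mpr
            show (2 * (if i = none then (1 : ℤ) else 0)) % 2 = 0
            split_ifs <;> norm_num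
          rw [this]; exact golayCode.zero_mem
        · rw [h8_apply, ← Finset.mul_sum, Cfsg.Agent.Lib.Helper5_LeechGen.sum_none]
          norm_cast
  show Nat.card ((A2.map h8 : AddSubgroup (ZMod 8)) : Set (ZMod 8)) = 2
  rw [_root_.Nat.card_coe_set_eq, hset, Set.ncard_pair (by decide)]

theorem relIndex_Lev_leech : Lev.relIndex leechLattice = 2 := by
  rw [Lev_eq, AddSubgroup.inf_relIndex_right, AddSubgroup.relIndex_ker]
  have hset : ((leechLattice.map f1 : AddSubgroup (GolayPt → ZMod 2)) : Set (GolayPt → ZMod 2)) =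
      {0, 1} := by
    ext z
    simp only [AddSubgroup.coe_map, Set.mem_image, SetLike.mem_coe, Set.mem_insert_iff,
      Set.mem_singleton_iff]
    constructor
    · rintro ⟨x, hx, rfl⟩
      rw [mem_leechLattice_iff, mem_leechSet_iff] at hx
      obtain ⟨m, h1, _, _⟩ := hx
      rcases Int.emod_two_eq_zero_or_one m with hm | hm
      · left
        funext i
        rw [f1_apply]
        exact (cast_eq_zero_iff _).mpr (by rw [h1 i, hm])
      · right
        funext i
        rw [f1_apply]
        exact (cast_eq_one_iff _).mpr (by rw [h1 i, hm])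
    · rintro (rfl | rfl)
      · exact ⟨0, leechLattice.zero_mem, map_zero _⟩
      · refine ⟨Cfsg.Agent.Lib.Helper5_LeechGen.vec ∅ none, ?_, ?_⟩
        · rw [mem_leechLattice_iff]
          exact Cfsg.Agent.Lib.Helper5_LeechGen.vec_mem_leechSet empty_mem (Finset.notMem_empty _)
        · funext i
          rw [f1_apply]
          apply (cast_eq_one_iff _).mpr
          simp only [Cfsg.Agent.Lib.Helper5_LeechGen.vec, Finset.notMem_empty, if_false]
          split_ifs <;> norm_num
  show Nat.card ((leechLattice.map f1 : AddSubgroup (GolayPt → ZMod 2)) :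
    Set (GolayPt → ZMod 2)) = 2
  rw [_root_.Nat.card_coe_set_eq, hset, Set.ncard_pair]
  intro h
  have := congrFun h none
  simp at this

theorem main : leechLattice.index = 2 ^ 36 := by
  have h1 : Lev ≤ A2 := inf_le_right
  have h2 : Lev ≤ leechLattice := by rw [Lev_eq]; exact inf_le_right
  have e1 := AddSubgroup.relIndex_mul_index h1
  have e2 := AddSubgroup.relIndex_mul_index h2
  rw [relIndex_Lev_A2, index_A2] at e1
  rw [relIndex_Lev_leech, ← e1] at e2
  omega

end Cfsg.Agent.Lib.Helper5_LeechIdx
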