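import Mathlib
import Cfsg.Prelude.Def_SporadicCombinatorics
import Cfsg.Agent.Lib.Helper1_Golay
import Cfsg.Agent.Lib.Helper1_Golay2
import Cfsg.Agent.Lib.Helper1_Leech2
import Cfsg.Agent.Lib.Helper5_LeechMin
import Cfsg.Agent.Lib.Helper5_Leech48
import Cfsg.Agent.Lib.Helper5_Leech64b
import Cfsg.Agent.Lib.Helper5_LeechIdx
set_option autoImplicit false
open Cfsg
open Cfsg.Agent.Lib.Helper1_Golay
namespace Cfsg.Agent.Lib.Helper5_LeechCross

/-! ### orthogonal families -/

theorem dot_self (y : GolayPt → ℤ) : dotInt y y = sqNorm y := by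
  unfold dotInt sqNorm
  exact Finset.sum_congr rfl fun i _ => by ring

theorem orth_bound24 {ι : Type} [Fintype ι] [DecidableEq ι] (rep : ι → GolayPt → ℤ)
    (h64 : ∀ p, sqNorm (rep p) = 64) (horth : ∀ p q, p ≠ q → dotInt (rep p) (rep q) = 0) :
    Fintype.card ι ≤ 24 := by
  let W : Matrix ι GolayPt ℚ := fun p i => (rep p i : ℚ) / 8
  have hW : W * W.transpose = 1 := by
    ext p q
    rw [Matrix.mul_apply]
    have h1 : ∑ j, W p j * W.transpose j q = ((dotInt (rep p) (rep q) : ℤ) : ℚ) / 64 := by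
      unfold dotInt
      rw [Int.cast_sum, Finset.sum_div]
      apply Finset.sum_congr rfl
      intro i _
      show (rep p i : ℚ) / 8 * ((rep q i : ℚ) / 8) = ((rep p i * rep q i : ℤ) : ℚ) / 64
      push_cast; ring
    rw [h1]
    by_cases hpq : p = q
    · subst hpq
      rw [dot_self, h64, Matrix.one_apply_eq]; norm_num
    · rw [horth p q hpq, Matrix.one_apply_ne hpq]; norm_num
  have h2 : (W * W.transpose).rank ≤ W.rank := Matrix.rank_mul_le_left _ _
  have h3 : W.rank ≤ Fintype.card GolayPt := Matrix.rank_le_card_width W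
  rw [hW, Matrix.rank_one] at h2
  have h4 : Fintype.card GolayPt = 24 := by
    rw [← Finset.card_univ]; exact Helper5_LeechMin.card_univ_pt
  omega

theorem orth_bound (F : Finset (GolayPt → ℤ)) (h64 : ∀ y ∈ F, sqNorm y = 64)
    (hpair : ∀ y ∈ F, ∀ y' ∈ F, y = y' ∨ y = -y' ∨ dotInt y y' = 0) : F.card ≤ 48 := by
  classical
  have h1 : F.card ≤ 2 * (F.image (fun y => ({y, -y} : Finset (GolayPt → ℤ)))).card := by
    apply Finset.card_le_mul_card_image
    intro b hb
    obtain ⟨y0, hy0, rfl⟩ := Finset.mem_image.mp hb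
    calc (F.filter fun a => ({a, -a} : Finset (GolayPt → ℤ)) = {y0, -y0}).card
        ≤ ({y0, -y0} : Finset (GolayPt → ℤ)).card := by
          apply Finset.card_le_card
          intro a ha
          have := (Finset.mem_filter.mp ha).2
          rw [← this]; simp
      _ ≤ 2 := Finset.card_le_two
  have hex : ∀ p : ↥(F.image (fun y => ({y, -y} : Finset (GolayPt → ℤ)))),
      ∃ y, y ∈ F ∧ ({y, -y} : Finset (GolayPt → ℤ)) = p.1 := fun p => by
    obtain ⟨y, hy, e⟩ := Finset.mem_image.mp p.2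
    exact ⟨y, hy, e⟩
  choose rep hrepF hrep using hex
  have h2 : Fintype.card ↥(F.image (fun y => ({y, -y} : Finset (GolayPt → ℤ)))) ≤ 24 := by
    apply orth_bound24 rep (fun p => h64 _ (hrepF p))
    intro p q hpq
    rcases hpair _ (hrepF p) _ (hrepF q) with h | h | h
    · exfalso; apply hpq; apply Subtype.ext; rw [← hrep p, ← hrep q, h]
    · exfalso; apply hpq; apply Subtype.ext; rw [← hrep p, ← hrep q, h, neg_neg]
      exact Finset.pair_comm _ _
    · exact h
  rw [Fintype.card_coe] at h2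
  omega


/-! ### the index of twice the lattice -/

open Cfsg.Agent.Lib.Helper5_LeechIdx (dbl dbl_apply dbl_ker dbl_range index_ker_f1)
open Cfsg.Agent.Lib.Helper1_Leech (min_norm_lattice short_congruent sqNorm_neg sixteen_dvd_sqNorm)

def L2 : AddSubgroup (GolayPt → ℤ) := leechLattice.map dbl

theorem dbl_eq (z : GolayPt → ℤ) : dbl z = 2 • z := by
  funext i
  rw [dbl_apply]
  simp [two_mul, two_smul]

theorem mem_L2 (x : GolayPt → ℤ) : x ∈ L2 ↔ ∃ z ∈ leechLattice, x = 2 • z := by
  unfold L2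
  rw [AddSubgroup.mem_map]
  constructor
  · rintro ⟨z, hz, rfl⟩; exact ⟨z, hz, dbl_eq z⟩
  · rintro ⟨z, hz, rfl⟩; exact ⟨z, hz, dbl_eq z⟩

theorem L2_le : L2 ≤ leechLattice := by
  intro x hx
  obtain ⟨z, hz, rfl⟩ := (mem_L2 x).mp hx
  rw [two_smul]
  exact add_mem hz hz

theorem index_L2 : L2.index = 2 ^ 36 * 2 ^ 24 := by
  unfold L2
  rw [AddSubgroup.index_map, dbl_ker, sup_bot_eq, Helper5_LeechIdx.main, dbl_range, index_ker_f1]

theorem relIndex_L2 : L2.relIndex leechLattice = 2 ^ 24 := by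
  have e := AddSubgroup.relIndex_mul_index L2_le
  rw [index_L2, Helper5_LeechIdx.main] at e
  have h : L2.relIndex leechLattice * 2 ^ 36 = 2 ^ 24 * 2 ^ 36 := by rw [e]; ring
  exact Nat.eq_of_mul_eq_mul_right (by positivity) h

abbrev Q : Type := leechLattice ⧸ L2.addSubgroupOf leechLattice

theorem card_Q : Nat.card Q = 2 ^ 24 := relIndex_L2

instance : Finite Q := Nat.finite_of_card_ne_zero (by rw [card_Q]; norm_num)

noncomputable instance : Fintype Q := Fintype.ofFinite _

open Classical in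
noncomputable def cls (y : GolayPt → ℤ) : Q :=
  if h : y ∈ leechLattice then QuotientAddGroup.mk ⟨y, h⟩ else 0

theorem cls_eq_iff {y y' : GolayPt → ℤ} (hy : y ∈ leechLattice) (hy' : y' ∈ leechLattice) :
    cls y = cls y' ↔ ∃ z ∈ leechLattice, y - y' = 2 • z := by
  unfold cls
  rw [dif_pos hy, dif_pos hy', QuotientAddGroup.eq, AddSubgroup.mem_addSubgroupOf]
  have : ((-(⟨y, hy⟩ : leechLattice) + ⟨y', hy'⟩ : leechLattice) : GolayPt → ℤ) = -y + y' := rfl
  rw [this, mem_L2]
  constructor
  · rintro ⟨z, hz, e⟩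
    refine ⟨-z, neg_mem hz, ?_⟩
    rw [smul_neg, ← e]; abel
  · rintro ⟨z, hz, e⟩
    refine ⟨-z, neg_mem hz, ?_⟩
    rw [smul_neg, ← e]; abel

/-! ### the short vectors -/

theorem sqNorm_zero : sqNorm (0 : GolayPt → ℤ) = 0 := by
  unfold sqNorm; simp

theorem norm_cases {y : GolayPt → ℤ} (hy : y ∈ leechLattice) (h64 : sqNorm y ≤ 64) :
    y = 0 ∨ sqNorm y = 32 ∨ sqNorm y = 48 ∨ sqNorm y = 64 := by
  by_cases h0 : y = 0
  · left; exact h0
  · right
    have h1 := min_norm_lattice hy h0
    have h2 := sixteen_dvd_sqNorm ((mem_leechLattice_iff y).mp hy)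
    omega

def NN (n : ℤ) : Set (GolayPt → ℤ) := {x | x ∈ leechLattice ∧ sqNorm x = n}

theorem NN32 : (NN 32).ncard = 196560 := Helper5_LeechMin.main
theorem NN48 : (NN 48).ncard = 16773120 := Helper5_Leech48.main
theorem NN64 : (NN 64).ncard = 398034000 := Helper5_Leech64.main

theorem finNN32 : (NN 32).Finite := Set.finite_of_ncard_ne_zero (by rw [NN32]; norm_num)
theorem finNN48 : (NN 48).Finite := Set.finite_of_ncard_ne_zero (by rw [NN48]; norm_num)
theorem finNN64 : (NN 64).Finite := Set.finite_of_ncard_ne_zero (by rw [NN64]; norm_num)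

noncomputable def Sfin : Finset (GolayPt → ℤ) :=
  ({0} ∪ finNN32.toFinset) ∪ (finNN48.toFinset ∪ finNN64.toFinset)

theorem mem_Sfin (y : GolayPt → ℤ) : y ∈ Sfin ↔ y ∈ leechLattice ∧ sqNorm y ≤ 64 := by
  unfold Sfin
  simp only [Finset.mem_union, Finset.mem_singleton, Set.Finite.mem_toFinset, NN, Set.mem_setOf_eq]
  constructor
  · rintro ((rfl | ⟨h1, h2⟩) | (⟨h1, h2⟩ | ⟨h1, h2⟩))
    · exact ⟨leechLattice.zero_mem, by rw [sqNorm_zero]; norm_num⟩
    · exact ⟨h1, by omega⟩
    · exact ⟨h1, by omega⟩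
    · exact ⟨h1, by omega⟩
  · rintro ⟨h1, h2⟩
    rcases norm_cases h1 h2 with h | h | h | h
    · left; left; exact h
    · left; right; exact ⟨h1, h⟩
    · right; left; exact ⟨h1, h⟩
    · right; right; exact ⟨h1, h⟩

noncomputable def wt (y : GolayPt → ℤ) : ℕ :=
  if y = 0 then 48 else if sqNorm y = 64 then 1 else 24

theorem wt_of_norm {y : GolayPt → ℤ} {n : ℤ} (hn : sqNorm y = n) (h0 : n ≠ 0) :
    wt y = if n = 64 then 1 else 24 := by
  unfold wt
  have : y ≠ 0 := by rintro rfl; rw [sqNorm_zero] at hn; exact h0 hn.symm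
  rw [if_neg this, hn]

theorem sum_wt_NN {n : ℤ} (hfin : (NN n).Finite) (c : ℕ) (hc : ∀ y ∈ NN n, wt y = c) :
    ∑ y ∈ hfin.toFinset, wt y = (NN n).ncard * c := by
  rw [Finset.sum_congr rfl (fun y hy => hc y ((Set.Finite.mem_toFinset hfin).mp hy)),
    Finset.sum_const, smul_eq_mul, ← Set.ncard_eq_toFinset_card _ hfin]

theorem sum_wt : ∑ y ∈ Sfin, wt y = 48 * 2 ^ 24 := by
  classical
  unfold Sfin
  have d1 : Disjoint ({0} : Finset (GolayPt → ℤ)) finNN32.toFinset := by
    rw [Finset.disjoint_left]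
    intro y h1 h2
    rw [Finset.mem_singleton] at h1
    have := ((Set.Finite.mem_toFinset finNN32).mp h2).2
    rw [h1, sqNorm_zero] at this
    norm_num at this
  have d2 : Disjoint finNN48.toFinset finNN64.toFinset := by
    rw [Finset.disjoint_left]
    intro y h1 h2
    have a1 := ((Set.Finite.mem_toFinset finNN48).mp h1).2
    have a2 := ((Set.Finite.mem_toFinset finNN64).mp h2).2
    omega
  have d3 : Disjoint (({0} : Finset (GolayPt → ℤ)) ∪ finNN32.toFinset)
      (finNN48.toFinset ∪ finNN64.toFinset) := by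
    rw [Finset.disjoint_left]
    intro y h1 h2
    have b1 : sqNorm y = 0 ∨ sqNorm y = 32 := by
      rcases Finset.mem_union.mp h1 with h | h
      · rw [Finset.mem_singleton] at h
        left; rw [h, sqNorm_zero]
      · right; exact ((Set.Finite.mem_toFinset finNN32).mp h).2
    have b2 : sqNorm y = 48 ∨ sqNorm y = 64 := by
      rcases Finset.mem_union.mp h2 with h | h
      · left; exact ((Set.Finite.mem_toFinset finNN48).mp h).2
      · right; exact ((Set.Finite.mem_toFinset finNN64).mp h).2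
    omega
  rw [Finset.sum_union d3, Finset.sum_union d1, Finset.sum_union d2, Finset.sum_singleton,
    sum_wt_NN finNN32 24 (fun y hy => by rw [wt_of_norm hy.2 (by norm_num)]; norm_num),
    sum_wt_NN finNN48 24 (fun y hy => by rw [wt_of_norm hy.2 (by norm_num)]; norm_num),
    sum_wt_NN finNN64 1 (fun y hy => by rw [wt_of_norm hy.2 (by norm_num)]; norm_num),
    NN32, NN48, NN64]
  unfold wt
  rw [if_pos rfl]
  norm_num

/-! ### fibres -/

open Classical in
theorem fiber_le (c : Q) : ∑ y ∈ Sfin.filter (fun y => cls y = c), wt y ≤ 48 := by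
  classical
  have hmem : ∀ y, y ∈ Sfin.filter (fun y => cls y = c) ↔
      (y ∈ leechLattice ∧ sqNorm y ≤ 64) ∧ cls y = c := fun y => by
    rw [Finset.mem_filter, mem_Sfin]
  by_cases hne : (Sfin.filter (fun y => cls y = c)).Nonempty
  swap
  · rw [Finset.not_nonempty_iff_eq_empty.mp hne, Finset.sum_empty]; norm_num
  obtain ⟨y0, hy0⟩ := hne
  obtain ⟨⟨hy0L, hy0n⟩, hy0c⟩ := (hmem y0).mp hy0
  have hcong : ∀ y ∈ Sfin.filter (fun y => cls y = c), ∀ y' ∈ Sfin.filter (fun y => cls y = c),
      y = y' ∨ y = -y' ∨ (sqNorm y = 64 ∧ sqNorm y' = 64 ∧ dotInt y y' = 0) := by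
    intro y hy y' hy'
    obtain ⟨⟨hyL, hyn⟩, hyc⟩ := (hmem y).mp hy
    obtain ⟨⟨hyL', hyn'⟩, hyc'⟩ := (hmem y').mp hy'
    by_cases h1 : y = y'
    · left; exact h1
    by_cases h2 : y = -y'
    · right; left; exact h2
    right; right
    exact short_congruent hyL hyL' h1 h2 hyn hyn' ((cls_eq_iff hyL hyL').mp (hyc.trans hyc'.symm))
  by_cases h64 : sqNorm y0 = 64
  · have hall : ∀ y ∈ Sfin.filter (fun y => cls y = c), sqNorm y = 64 := by
      intro y hy
      rcases hcong y hy y0 hy0 with h | h | h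
      · rw [h]; exact h64
      · rw [h, sqNorm_neg]; exact h64
      · exact h.1
    have hwt : ∀ y ∈ Sfin.filter (fun y => cls y = c), wt y = 1 := fun y hy => by
      rw [wt_of_norm (hall y hy) (by norm_num)]; simp
    rw [Finset.sum_congr rfl hwt, Finset.sum_const, smul_eq_mul, mul_one]
    apply orth_bound _ hall
    intro y hy y' hy'
    rcases hcong y hy y' hy' with h | h | h
    · left; exact h
    · right; left; exact h
    · right; right; exact h.2.2
  · have hsub : Sfin.filter (fun y => cls y = c) ⊆ {y0, -y0} := by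
      intro y hy
      rcases hcong y hy y0 hy0 with h | h | h
      · rw [h]; simp
      · rw [h]; simp
      · exact absurd h.2.1 h64
    have hcard : (Sfin.filter (fun y => cls y = c)).card ≤ 2 :=
      (Finset.card_le_card hsub).trans Finset.card_le_two
    by_cases h0 : y0 = 0
    · have hsub' : Sfin.filter (fun y => cls y = c) ⊆ {0} := by
        intro y hy
        have := hsub hy
        rw [h0] at this
        simpa using this
      calc ∑ y ∈ Sfin.filter (fun y => cls y = c), wt y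
          ≤ ∑ y ∈ ({0} : Finset (GolayPt → ℤ)), wt y := Finset.sum_le_sum_of_subset hsub'
        _ = 48 := by rw [Finset.sum_singleton]; unfold wt; rw [if_pos rfl]
    · have hwt : ∀ y ∈ Sfin.filter (fun y => cls y = c), wt y ≤ 24 := by
        intro y hy
        have hy_ne : y ≠ 0 := by
          have := hsub hy
          rw [Finset.mem_insert, Finset.mem_singleton] at this
          rcases this with h | h
          · rw [h]; exact h0
          · rw [h]; exact neg_ne_zero.mpr h0
        unfold wt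
        rw [if_neg hy_ne]
        split_ifs <;> norm_num
      calc ∑ y ∈ Sfin.filter (fun y => cls y = c), wt y
          ≤ (Sfin.filter (fun y => cls y = c)).card • 24 := Finset.sum_le_card_nsmul _ _ _ hwt
        _ ≤ 48 := by rw [smul_eq_mul]; omega

open Classical in
theorem fiber_eq (c : Q) : ∑ y ∈ Sfin.filter (fun y => cls y = c), wt y = 48 := by
  classical
  have h1 : ∑ c : Q, ∑ y ∈ Sfin.filter (fun y => cls y = c), wt y = ∑ y ∈ Sfin, wt y :=
    Finset.sum_fiberwise Sfin cls wt
  have h2 : ∑ _c : Q, (48 : ℕ) = 48 * 2 ^ 24 := by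
    rw [Finset.sum_const, Finset.card_univ, ← Nat.card_eq_fintype_card, card_Q, smul_eq_mul,
      mul_comm]
  have h3 : ∑ c : Q, ∑ y ∈ Sfin.filter (fun y => cls y = c), wt y = ∑ _c : Q, (48 : ℕ) := by
    rw [h1, sum_wt, h2]
  exact (Finset.sum_eq_sum_iff_of_le (fun c _ => fiber_le c)).mp h3 c (Finset.mem_univ c)

theorem main1570 (x : GolayPt → ℤ) (hx : x ∈ leechLattice) :
    ∃ y ∈ leechLattice, sqNorm y ≤ 64 ∧ ∃ z ∈ leechLattice, x - y = 2 • z := by
  classical
  have h := fiber_eq (cls x)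
  have hne : (Sfin.filter (fun y => cls y = cls x)).Nonempty := by
    rw [Finset.nonempty_iff_ne_empty]
    intro he
    rw [he, Finset.sum_empty] at h
    norm_num at h
  obtain ⟨y, hy⟩ := hne
  rw [Finset.mem_filter, mem_Sfin] at hy
  exact ⟨y, hy.1.1, hy.1.2, (cls_eq_iff hx hy.1.1).mp hy.2.symm⟩

theorem main1569 (x : GolayPt → ℤ) (hx : x ∈ leechLattice) (hxn : sqNorm x = 64) :
    (cross x).ncard = 48 := by
  classical
  have h := fiber_eq (cls x)
  have hset : cross x = ↑(Sfin.filter (fun y => cls y = cls x)) := by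
    ext y
    rw [Finset.mem_coe, Finset.mem_filter, mem_Sfin]
    unfold cross
    rw [Set.mem_ofPred_eq]
    constructor
    · rintro ⟨hy, hn, hz⟩
      exact ⟨⟨hy, by rw [hn, hxn]⟩, ((cls_eq_iff hx hy).mpr hz).symm⟩
    · rintro ⟨⟨hy, hn⟩, hc⟩
      have hz := (cls_eq_iff hx hy).mp hc.symm
      refine ⟨hy, ?_, hz⟩
      by_cases h1 : x = y
      · rw [← h1]
      by_cases h2 : x = -y
      · rw [h2, sqNorm_neg]
      have := short_congruent hx hy h1 h2 (by omega) hn hz
      rw [this.2.1, hxn]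
  have hwt : ∀ y ∈ Sfin.filter (fun y => cls y = cls x), wt y = 1 := by
    intro y hy
    have hy' : y ∈ cross x := by rw [hset]; exact hy
    have hn : sqNorm y = 64 := by rw [hy'.2.1, hxn]
    rw [wt_of_norm hn (by norm_num)]; simp
  rw [Finset.sum_congr rfl hwt, Finset.sum_const, smul_eq_mul, mul_one] at h
  rw [hset, Set.ncard_coe_finset]
  exact h

end Cfsg.Agent.Lib.Helper5_LeechCross
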