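import Mathlib
import Cfsg.Prelude.Def_SporadicCombinatorics
import Cfsg.Agent.Lib.Helper1_Golay
import Cfsg.Agent.Lib.Helper1_Golay2
import Cfsg.Agent.Lib.Helper5_LeechGen
import Cfsg.Agent.Lib.Helper5_LeechMin
import Cfsg.Agent.Lib.Helper5_LeechIdx
set_option autoImplicit false
open Cfsg
open Cfsg.Agent.Lib.Helper1_Golay
open Cfsg.Agent.Lib.Helper5_LeechIdx
namespace Cfsg.Agent.Lib.Helper5_LeechSing

local notation "𝒢" => supports (golayCode : Set (GolayPt → ZMod 2))

/-- vectors all of whose coordinates have the same parity -/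
def R : AddSubgroup (GolayPt → ℤ) where
  carrier := {y | (∀ i, y i % 2 = 0) ∨ (∀ i, y i % 2 = 1)}
  zero_mem' := Or.inl fun i => by simp
  add_mem' := by
    rintro a b (ha | ha) (hb | hb)
    · left; intro i; have := ha i; have := hb i; simp only [Pi.add_apply]; omega
    · right; intro i; have := ha i; have := hb i; simp only [Pi.add_apply]; omega
    · right; intro i; have := ha i; have := hb i; simp only [Pi.add_apply]; omega
    · left; intro i; have := ha i; have := hb i; simp only [Pi.add_apply]; omega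
  neg_mem' := by
    rintro a (ha | ha)
    · left; intro i; have := ha i; simp only [Pi.neg_apply]; omega
    · right; intro i; have := ha i; simp only [Pi.neg_apply]; omega

theorem mem_R (y : GolayPt → ℤ) : y ∈ R ↔ (∀ i, y i % 2 = 0) ∨ (∀ i, y i % 2 = 1) := Iff.rfl

theorem ker_le_R : f1.ker ≤ R := by
  intro y hy
  rw [mem_ker_f1] at hy
  exact Or.inl hy

theorem relIndex_ker_R : f1.ker.relIndex R = 2 := by
  rw [AddSubgroup.relIndex_ker]
  have hset : ((R.map f1 : AddSubgroup (GolayPt → ZMod 2)) : Set (GolayPt → ZMod 2)) =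
      {0, 1} := by
    ext z
    simp only [AddSubgroup.coe_map, Set.mem_image, SetLike.mem_coe, Set.mem_insert_iff,
      Set.mem_singleton_iff]
    constructor
    · rintro ⟨x, hx, rfl⟩
      rcases (mem_R x).mp hx with h | h
      · left
        funext i
        rw [f1_apply]
        exact (cast_eq_zero_iff _).mpr (h i)
      · right
        funext i
        rw [f1_apply]
        exact (cast_eq_one_iff _).mpr (h i)
    · rintro (rfl | rfl)
      · exact ⟨0, R.zero_mem, map_zero _⟩
      · refine ⟨fun _ => 1, Or.inr fun i => by norm_num, ?_⟩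
        funext i
        rw [f1_apply]
        exact (cast_eq_one_iff _).mpr (by norm_num)
  show Nat.card ((R.map f1 : AddSubgroup (GolayPt → ZMod 2)) : Set (GolayPt → ZMod 2)) = 2
  rw [_root_.Nat.card_coe_set_eq, hset, Set.ncard_pair]
  intro h
  have := congrFun h none
  simp at this

theorem index_R : R.index = 2 ^ 23 := by
  have e := AddSubgroup.relIndex_mul_index ker_le_R
  rw [relIndex_ker_R, index_ker_f1] at e
  omega

/-- twice `R` -/
def R4 : AddSubgroup (GolayPt → ℤ) := R.map dbl

theorem index_R4 : R4.index = 2 ^ 23 * 2 ^ 24 := by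
  unfold R4
  rw [AddSubgroup.index_map, dbl_ker, sup_bot_eq, index_R, dbl_range, index_ker_f1]

theorem mem_R4 (x : GolayPt → ℤ) : x ∈ R4 ↔ ∃ y ∈ R, ∀ i, x i = 2 * y i := by
  unfold R4
  rw [AddSubgroup.mem_map]
  constructor
  · rintro ⟨y, hy, rfl⟩
    exact ⟨y, hy, fun i => dbl_apply y i⟩
  · rintro ⟨y, hy, h⟩
    exact ⟨y, hy, by funext i; rw [dbl_apply, h i]⟩

theorem sum_even_of_R {y : GolayPt → ℤ} (hy : y ∈ R) : (∑ i, y i) % 2 = 0 := by
  rw [sum_mod_two]
  rcases (mem_R y).mp hy with h | h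
  · have : (Finset.univ.filter fun i => y i % 2 = 1) = ∅ := by
      ext i; simp only [Finset.mem_filter, Finset.mem_univ, true_and, Finset.notMem_empty,
        iff_false]
      have := h i; omega
    rw [this]; simp
  · have : (Finset.univ.filter fun i => y i % 2 = 1) = Finset.univ := by
      ext i; simp only [Finset.mem_filter, Finset.mem_univ, true_and, iff_true]
      exact h i
    rw [this, Helper5_LeechMin.card_univ_pt]; norm_num

/-- the totally singular sublattice -/
def A : AddSubgroup (GolayPt → ℤ) := h8.ker ⊓ R4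

theorem mem_A (x : GolayPt → ℤ) :
    x ∈ A ↔ (∑ i, x i) % 8 = 0 ∧ ∃ y ∈ R, ∀ i, x i = 2 * y i := by
  unfold A
  rw [AddSubgroup.mem_inf, mem_ker_h8, mem_R4]

theorem relIndex_A_R4 : A.relIndex R4 = 2 := by
  unfold A
  rw [AddSubgroup.inf_relIndex_right, AddSubgroup.relIndex_ker]
  have hset : ((R4.map h8 : AddSubgroup (ZMod 8)) : Set (ZMod 8)) = {0, 4} := by
    ext z
    simp only [AddSubgroup.coe_map, Set.mem_image, SetLike.mem_coe, Set.mem_insert_iff,
      Set.mem_singleton_iff]
    constructor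
    · rintro ⟨x, hx, rfl⟩
      rw [mem_R4] at hx
      obtain ⟨y, hy, hxy⟩ := hx
      have h1 := sum_even_of_R hy
      have h2 : ∑ i, x i = 2 * ∑ i, y i := by
        rw [Finset.mul_sum]; exact Finset.sum_congr rfl fun i _ => hxy i
      rw [h8_apply, h2]
      have h3 : (∑ i, y i) % 4 = 0 ∨ (∑ i, y i) % 4 = 2 := by omega
      rcases h3 with h3 | h3
      · left
        rw [ZMod.intCast_zmod_eq_zero_iff_dvd]
        push_cast
        omega
      · right
        have : ((4 : ℤ) : ZMod 8) = 4 := by norm_cast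
        rw [← this, ZMod.intCast_eq_intCast_iff_dvd_sub]
        push_cast
        omega
    · rintro (rfl | rfl)
      · exact ⟨0, R4.zero_mem, map_zero _⟩
      · refine ⟨fun i => 4 * (if i = none then 1 else 0), ?_, ?_⟩
        · rw [mem_R4]
          refine ⟨fun i => 2 * (if i = none then 1 else 0), Or.inl fun i => ?_, fun i => by ring⟩
          show (2 * (if i = none then (1 : ℤ) else 0)) % 2 = 0
          split_ifs <;> norm_num
        · rw [h8_apply, ← Finset.mul_sum, Cfsg.Agent.Lib.Helper5_LeechGen.sum_none]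
          norm_cast
  show Nat.card ((R4.map h8 : AddSubgroup (ZMod 8)) : Set (ZMod 8)) = 2
  rw [_root_.Nat.card_coe_set_eq, hset, Set.ncard_pair (by decide)]

theorem index_A : A.index = 2 ^ 48 := by
  have hle : A ≤ R4 := inf_le_right
  have e := AddSubgroup.relIndex_mul_index hle
  rw [relIndex_A_R4, index_R4] at e
  rw [← e]; norm_num

theorem A_le : A ≤ leechLattice := by
  intro x hx
  rw [mem_A] at hx
  obtain ⟨hs, y, hy, hxy⟩ := hx
  rw [mem_leechLattice_iff, mem_leechSet_iff]
  refine ⟨0, fun i => by rw [hxy i]; omega, by rw [hs]; norm_num, ?_⟩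
  rcases (mem_R y).mp hy with h | h
  · have : resSet x 0 = Finset.univ := by
      ext i
      rw [mem_resSet]
      simp only [Finset.mem_univ, iff_true]
      have := h i; rw [hxy i]; omega
    rw [this]; exact univ_mem
  · have : resSet x 0 = ∅ := by
      ext i
      rw [mem_resSet]
      simp only [Finset.notMem_empty, iff_false]
      have := h i; rw [hxy i]; omega
    rw [this]; exact empty_mem

theorem two_smul_mem {v : GolayPt → ℤ} (hv : v ∈ leechLattice) : (2 : ℤ) • v ∈ A := by
  rw [mem_leechLattice_iff, mem_leechSet_iff] at hv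
  obtain ⟨m, h1, h2, _⟩ := hv
  rw [mem_A]
  have hv2 : ∀ i, ((2 : ℤ) • v) i = 2 * v i := fun i => by simp
  refine ⟨?_, v, ?_, hv2⟩
  · have : ∑ i, ((2 : ℤ) • v) i = 2 * ∑ i, v i := by
      rw [Finset.mul_sum]; exact Finset.sum_congr rfl fun i _ => hv2 i
    rw [this]; omega
  · rcases Int.emod_two_eq_zero_or_one m with hm | hm
    · left; intro i; rw [h1 i, hm]
    · right; intro i; rw [h1 i, hm]

theorem sq_sub_self_even (a : ℤ) : (2 : ℤ) ∣ a ^ 2 - a := by
  have : a ^ 2 - a = a * (a - 1) := by ring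
  rw [this]
  rcases Int.emod_two_eq_zero_or_one a with h | h
  · exact Dvd.dvd.mul_right (Int.dvd_of_emod_eq_zero h) _
  · exact Dvd.dvd.mul_left (Int.dvd_of_emod_eq_zero (by omega)) _

theorem norm_dvd {x : GolayPt → ℤ} (hx : x ∈ A) : (32 : ℤ) ∣ sqNorm x := by
  rw [mem_A] at hx
  obtain ⟨hs, y, hy, hxy⟩ := hx
  have hsum : ∑ i, x i = 2 * ∑ i, y i := by
    rw [Finset.mul_sum]; exact Finset.sum_congr rfl fun i _ => hxy i
  have hn : sqNorm x = 4 * ∑ i, y i ^ 2 := by
    unfold sqNorm
    rw [Finset.mul_sum]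
    exact Finset.sum_congr rfl fun i _ => by rw [hxy i]; ring
  rw [hn]
  suffices h : (8 : ℤ) ∣ ∑ i, y i ^ 2 by
    obtain ⟨k, hk⟩ := h
    exact ⟨k, by rw [hk]; ring⟩
  rcases (mem_R y).mp hy with h | h
  · -- all even: y = 2 z
    have hz : ∀ i, y i = 2 * (y i / 2) := fun i => by have := h i; omega
    have h1 : ∑ i, y i ^ 2 = 4 * ∑ i, (y i / 2) ^ 2 := by
      rw [Finset.mul_sum]
      exact Finset.sum_congr rfl fun i _ => by
        have := hz i
        generalize y i / 2 = t at this
        rw [this]; ring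
    have h2 : ∑ i, y i = 2 * ∑ i, (y i / 2) := by
      rw [Finset.mul_sum]; exact Finset.sum_congr rfl fun i _ => hz i
    have h3 : (2 : ℤ) ∣ ∑ i, ((y i / 2) ^ 2 - y i / 2) :=
      Finset.dvd_sum fun i _ => sq_sub_self_even _
    rw [Finset.sum_sub_distrib] at h3
    rw [h1]
    omega
  · -- all odd
    have h1 : ∑ i, y i ^ 2 = 8 * ∑ i, (y i ^ 2 / 8) + 24 := by
      have : ∀ i, y i ^ 2 = 8 * (y i ^ 2 / 8) + 1 := fun i => Helper5_LeechMin.odd_sq _ (h i)
      rw [Finset.sum_congr rfl fun i _ => this i, Finset.sum_add_distrib, ← Finset.mul_sum]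
      simp [Helper5_LeechMin.card_univ_pt]
    rw [h1]
    omega

theorem main : ∃ A : AddSubgroup (GolayPt → ℤ), A ≤ leechLattice ∧
    (∀ v ∈ leechLattice, (2 : ℤ) • v ∈ A) ∧ (A.addSubgroupOf leechLattice).index = 2 ^ 12 ∧
    ∀ v ∈ A, (32 : ℤ) ∣ sqNorm v := by
  refine ⟨A, A_le, fun v hv => two_smul_mem hv, ?_, fun v hv => norm_dvd hv⟩
  have e := AddSubgroup.relIndex_mul_index A_le
  rw [index_A, Helper5_LeechIdx.main] at e
  have h : A.relIndex leechLattice * 2 ^ 36 = 2 ^ 12 * 2 ^ 36 := by rw [e]; norm_num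
  exact Nat.eq_of_mul_eq_mul_right (by positivity) h

end Cfsg.Agent.Lib.Helper5_LeechSing
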