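import Mathlib
import Cfsg.Prelude.Def_LocalStructure

set_option autoImplicit false

namespace Cfsg.Agent.Lib.Helper5_PClosed

/-- In a `p`-closed subgroup, the product of two `p`-elements is a `p`-element. -/
theorem pelem_mul {G : Type*} [Group G] [Finite G] {p : ℕ} [Fact p.Prime] (K : Subgroup G)
    (hc : Cfsg.IsPClosed p ↥K) (x y : G) (hxK : x ∈ K) (hyK : y ∈ K)
    (hx : ∃ k : ℕ, x ^ (p ^ k) = 1) (hy : ∃ k : ℕ, y ^ (p ^ k) = 1) :
    ∃ k : ℕ, (x * y) ^ (p ^ k) = 1 := by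
  classical
  let P : Sylow p K := default
  have hPn : (P : Subgroup K).Normal := hc P
  haveI := hPn
  have mem : ∀ z : G, ∀ hz : z ∈ K, (∃ k : ℕ, z ^ (p ^ k) = 1) → (⟨z, hz⟩ : K) ∈ (P : Subgroup K) := by
    intro z hz ⟨k, hk⟩
    have hQ : IsPGroup p (Subgroup.zpowers (⟨z, hz⟩ : K)) := by
      have hord : orderOf (⟨z, hz⟩ : K) ∣ p ^ k := by
        apply orderOf_dvd_of_pow_eq_one
        apply Subtype.ext
        simpa using hk
      obtain ⟨j, _, hj⟩ := (Nat.dvd_prime_pow (Fact.out : p.Prime)).mp hord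
      exact IsPGroup.of_card (n := j) (by rw [Nat.card_zpowers, hj])
    obtain ⟨P', hP'⟩ := hQ.exists_le_sylow
    obtain ⟨g, hg⟩ := MulAction.exists_smul_eq K P P'
    rw [Sylow.smul_eq_of_normal] at hg
    rw [← hg] at hP'
    exact hP' (Subgroup.mem_zpowers _)
  have hxy : (⟨x, hxK⟩ * ⟨y, hyK⟩ : K) ∈ (P : Subgroup K) :=
    (P : Subgroup K).mul_mem (mem x hxK hx) (mem y hyK hy)
  obtain ⟨k, hk⟩ := P.2 ⟨_, hxy⟩
  refine ⟨k, ?_⟩
  have h1 := congrArg Subtype.val hk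
  have h2 := congrArg Subtype.val h1
  simpa using h2

theorem dvd_card_of {G : Type*} [Group G] [Finite G] {p : ℕ} [Fact p.Prime] (K : Subgroup G)
    (x : G) (hxK : x ∈ K) (hx : x ^ p = 1) (hx1 : x ≠ 1) : p ∣ Nat.card ↥K := by
  have : orderOf (⟨x, hxK⟩ : K) = p :=
    orderOf_eq_prime (Subtype.ext (by simpa using hx)) (fun h => hx1 (congrArg Subtype.val h))
  rw [← this]
  exact orderOf_dvd_natCard _

/-- contradiction: a non-identity element killed by `q` coprime to `p` is not a `p`-element -/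
theorem eq_one_of_coprime {G : Type*} [Group G] {p q : ℕ} (t : G) (hq : t ^ q = 1)
    (hpq : Nat.Coprime q p) (hk : ∃ k : ℕ, t ^ (p ^ k) = 1) : t = 1 := by
  obtain ⟨k, hk⟩ := hk
  have h1 : orderOf t ∣ q := orderOf_dvd_of_pow_eq_one hq
  have h2 : orderOf t ∣ p ^ k := orderOf_dvd_of_pow_eq_one hk
  have : orderOf t ∣ Nat.gcd q (p ^ k) := Nat.dvd_gcd h1 h2
  rw [Nat.Coprime.pow_right k hpq] at this
  exact orderOf_eq_one_iff.mp (Nat.dvd_one.mp this)

end Cfsg.Agent.Lib.Helper5_PClosed
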