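import Mathlib
import Cfsg.Prelude

set_option autoImplicit false

namespace Cfsg.Agent.Lib.Helper5_PCube

theorem fact_eq (N q e : ℕ) (hq : q.Prime) (hN : N ≠ 0) (h1 : q ^ e ∣ N) (h2 : ¬ q ^ (e + 1) ∣ N) :
    N.factorization q = e := by
  have a1 : e ≤ N.factorization q := (hq.pow_dvd_iff_le_factorization hN).mp h1
  have a2 : ¬ e + 1 ≤ N.factorization q := fun h => h2 ((hq.pow_dvd_iff_le_factorization hN).mpr h)
  omega

theorem prime_dvd_listprod (p : ℕ) (hp : p.Prime) (L : List (ℕ × ℕ))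
    (hprime : ∀ x ∈ L, x.1.Prime) (h : p ∣ (L.map (fun x => x.1 ^ x.2)).prod) :
    ∃ x ∈ L, p = x.1 := by
  induction L with
  | nil =>
    simp at h
    exact absurd h hp.one_lt.ne'
  | cons y L ih =>
    rw [List.map_cons, List.prod_cons] at h
    rcases (Nat.Prime.dvd_mul hp).mp h with h1 | h1
    · have := hp.dvd_of_dvd_pow h1
      refine ⟨y, List.mem_cons_self, ?_⟩
      exact (Nat.prime_dvd_prime_iff_eq hp (hprime y List.mem_cons_self)).mp this
    · obtain ⟨x, hx, hpx⟩ := ih (fun x hx => hprime x (List.mem_cons_of_mem _ hx)) h1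
      exact ⟨x, List.mem_cons_of_mem _ hx, hpx⟩

theorem generic (N : ℕ) (L : List (ℕ × ℕ)) (a : ℕ)
    (hN : N = (L.map (fun x => x.1 ^ x.2)).prod) (hN0 : N ≠ 0)
    (hprime : ∀ x ∈ L, x.1.Prime)
    (hexact : ∀ x ∈ L, x.1 ^ x.2 ∣ N ∧ ¬ x.1 ^ (x.2 + 1) ∣ N)
    (h2 : 2 ^ a ∣ N ∧ ¬ 2 ^ (a + 1) ∣ N)
    (hfin : ∀ x ∈ L, x.1 ≠ 2 → x.2 = 3 → x.1 ^ 3 < 2 ^ a) :
    ∀ p : ℕ, p.Prime → p ≠ 2 → N.factorization p = 3 → p ^ 3 < 2 ^ (N.factorization 2) := by
  intro p hp hp2 h3
  rw [fact_eq N 2 a Nat.prime_two hN0 h2.1 h2.2]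
  have hpN : p ∣ N := by
    have : p ^ 3 ∣ N := (hp.pow_dvd_iff_le_factorization hN0).mpr (le_of_eq h3.symm)
    exact dvd_trans (dvd_pow_self p (by norm_num)) this
  rw [hN] at hpN
  obtain ⟨x, hx, rfl⟩ := prime_dvd_listprod p hp L hprime hpN
  have hx3 : x.2 = 3 := by
    rw [← h3]
    exact (fact_eq N x.1 x.2 hp hN0 (hexact x hx).1 (hexact x hx).2).symm
  exact hfin x hx hp2 hx3


theorem spor_IsM11 : ∀ p : ℕ, p.Prime → p ≠ 2 → (7920 : ℕ).factorization p = 3 →
    p ^ 3 < 2 ^ ((7920 : ℕ).factorization 2) :=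
  generic 7920 [(2, 4), (3, 2), (5, 1), (11, 1)] 4 (by norm_num) (by norm_num) (by norm_num) (by decide) (by decide) (by decide)

theorem spor_IsM12 : ∀ p : ℕ, p.Prime → p ≠ 2 → (95040 : ℕ).factorization p = 3 →
    p ^ 3 < 2 ^ ((95040 : ℕ).factorization 2) :=
  generic 95040 [(2, 6), (3, 3), (5, 1), (11, 1)] 6 (by norm_num) (by norm_num) (by norm_num) (by decide) (by decide) (by decide)

theorem spor_IsM22 : ∀ p : ℕ, p.Prime → p ≠ 2 → (443520 : ℕ).factorization p = 3 →
    p ^ 3 < 2 ^ ((443520 : ℕ).factorization 2) :=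
  generic 443520 [(2, 7), (3, 2), (5, 1), (7, 1), (11, 1)] 7 (by norm_num) (by norm_num) (by norm_num) (by decide) (by decide) (by decide)

theorem spor_IsM23 : ∀ p : ℕ, p.Prime → p ≠ 2 → (10200960 : ℕ).factorization p = 3 →
    p ^ 3 < 2 ^ ((10200960 : ℕ).factorization 2) :=
  generic 10200960 [(2, 7), (3, 2), (5, 1), (7, 1), (11, 1), (23, 1)] 7 (by norm_num) (by norm_num) (by norm_num) (by decide) (by decide) (by decide)

theorem spor_IsM24 : ∀ p : ℕ, p.Prime → p ≠ 2 → (244823040 : ℕ).factorization p = 3 →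
    p ^ 3 < 2 ^ ((244823040 : ℕ).factorization 2) :=
  generic 244823040 [(2, 10), (3, 3), (5, 1), (7, 1), (11, 1), (23, 1)] 10 (by norm_num) (by norm_num) (by norm_num) (by decide) (by decide) (by decide)

theorem spor_IsJ1 : ∀ p : ℕ, p.Prime → p ≠ 2 → (175560 : ℕ).factorization p = 3 →
    p ^ 3 < 2 ^ ((175560 : ℕ).factorization 2) :=
  generic 175560 [(2, 3), (3, 1), (5, 1), (7, 1), (11, 1), (19, 1)] 3 (by norm_num) (by norm_num) (by norm_num) (by decide) (by decide) (by decide)

theorem spor_IsJ2 : ∀ p : ℕ, p.Prime → p ≠ 2 → (604800 : ℕ).factorization p = 3 →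
    p ^ 3 < 2 ^ ((604800 : ℕ).factorization 2) :=
  generic 604800 [(2, 7), (3, 3), (5, 2), (7, 1)] 7 (by norm_num) (by norm_num) (by norm_num) (by decide) (by decide) (by decide)

theorem spor_IsJ3 : ∀ p : ℕ, p.Prime → p ≠ 2 → (50232960 : ℕ).factorization p = 3 →
    p ^ 3 < 2 ^ ((50232960 : ℕ).factorization 2) :=
  generic 50232960 [(2, 7), (3, 5), (5, 1), (17, 1), (19, 1)] 7 (by norm_num) (by norm_num) (by norm_num) (by decide) (by decide) (by decide)

theorem spor_IsJ4 : ∀ p : ℕ, p.Prime → p ≠ 2 → (86775571046077562880 : ℕ).factorization p = 3 →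
    p ^ 3 < 2 ^ ((86775571046077562880 : ℕ).factorization 2) :=
  generic 86775571046077562880 [(2, 21), (3, 3), (5, 1), (7, 1), (11, 3), (23, 1), (29, 1), (31, 1), (37, 1), (43, 1)] 21 (by norm_num) (by norm_num) (by norm_num) (by decide) (by decide) (by decide)

theorem spor_IsCo1 : ∀ p : ℕ, p.Prime → p ≠ 2 → (4157776806543360000 : ℕ).factorization p = 3 →
    p ^ 3 < 2 ^ ((4157776806543360000 : ℕ).factorization 2) :=
  generic 4157776806543360000 [(2, 21), (3, 9), (5, 4), (7, 2), (11, 1), (13, 1), (23, 1)] 21 (by norm_num) (by norm_num) (by norm_num) (by decide) (by decide) (by decide)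

theorem spor_IsCo2 : ∀ p : ℕ, p.Prime → p ≠ 2 → (42305421312000 : ℕ).factorization p = 3 →
    p ^ 3 < 2 ^ ((42305421312000 : ℕ).factorization 2) :=
  generic 42305421312000 [(2, 18), (3, 6), (5, 3), (7, 1), (11, 1), (23, 1)] 18 (by norm_num) (by norm_num) (by norm_num) (by decide) (by decide) (by decide)

theorem spor_IsCo3 : ∀ p : ℕ, p.Prime → p ≠ 2 → (495766656000 : ℕ).factorization p = 3 →
    p ^ 3 < 2 ^ ((495766656000 : ℕ).factorization 2) :=
  generic 495766656000 [(2, 10), (3, 7), (5, 3), (7, 1), (11, 1), (23, 1)] 10 (by norm_num) (by norm_num) (by norm_num) (by decide) (by decide) (by decide)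

theorem spor_IsFi22 : ∀ p : ℕ, p.Prime → p ≠ 2 → (64561751654400 : ℕ).factorization p = 3 →
    p ^ 3 < 2 ^ ((64561751654400 : ℕ).factorization 2) :=
  generic 64561751654400 [(2, 17), (3, 9), (5, 2), (7, 1), (11, 1), (13, 1)] 17 (by norm_num) (by norm_num) (by norm_num) (by decide) (by decide) (by decide)

theorem spor_IsFi23 : ∀ p : ℕ, p.Prime → p ≠ 2 → (4089470473293004800 : ℕ).factorization p = 3 →
    p ^ 3 < 2 ^ ((4089470473293004800 : ℕ).factorization 2) :=
  generic 4089470473293004800 [(2, 18), (3, 13), (5, 2), (7, 1), (11, 1), (13, 1), (17, 1), (23, 1)] 18 (by norm_num) (by norm_num) (by norm_num) (by decide) (by decide) (by decide)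

theorem spor_IsFi24p : ∀ p : ℕ, p.Prime → p ≠ 2 → (1255205709190661721292800 : ℕ).factorization p = 3 →
    p ^ 3 < 2 ^ ((1255205709190661721292800 : ℕ).factorization 2) :=
  generic 1255205709190661721292800 [(2, 21), (3, 16), (5, 2), (7, 3), (11, 1), (13, 1), (17, 1), (23, 1), (29, 1)] 21 (by norm_num) (by norm_num) (by norm_num) (by decide) (by decide) (by decide)

theorem spor_IsHS : ∀ p : ℕ, p.Prime → p ≠ 2 → (44352000 : ℕ).factorization p = 3 →
    p ^ 3 < 2 ^ ((44352000 : ℕ).factorization 2) :=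
  generic 44352000 [(2, 9), (3, 2), (5, 3), (7, 1), (11, 1)] 9 (by norm_num) (by norm_num) (by norm_num) (by decide) (by decide) (by decide)

theorem spor_IsMcL : ∀ p : ℕ, p.Prime → p ≠ 2 → (898128000 : ℕ).factorization p = 3 →
    p ^ 3 < 2 ^ ((898128000 : ℕ).factorization 2) :=
  generic 898128000 [(2, 7), (3, 6), (5, 3), (7, 1), (11, 1)] 7 (by norm_num) (by norm_num) (by norm_num) (by decide) (by decide) (by decide)

theorem spor_IsHe : ∀ p : ℕ, p.Prime → p ≠ 2 → (4030387200 : ℕ).factorization p = 3 →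
    p ^ 3 < 2 ^ ((4030387200 : ℕ).factorization 2) :=
  generic 4030387200 [(2, 10), (3, 3), (5, 2), (7, 3), (17, 1)] 10 (by norm_num) (by norm_num) (by norm_num) (by decide) (by decide) (by decide)

theorem spor_IsRu : ∀ p : ℕ, p.Prime → p ≠ 2 → (145926144000 : ℕ).factorization p = 3 →
    p ^ 3 < 2 ^ ((145926144000 : ℕ).factorization 2) :=
  generic 145926144000 [(2, 14), (3, 3), (5, 3), (7, 1), (13, 1), (29, 1)] 14 (by norm_num) (by norm_num) (by norm_num) (by decide) (by decide) (by decide)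

theorem spor_IsSuz : ∀ p : ℕ, p.Prime → p ≠ 2 → (448345497600 : ℕ).factorization p = 3 →
    p ^ 3 < 2 ^ ((448345497600 : ℕ).factorization 2) :=
  generic 448345497600 [(2, 13), (3, 7), (5, 2), (7, 1), (11, 1), (13, 1)] 13 (by norm_num) (by norm_num) (by norm_num) (by decide) (by decide) (by decide)

theorem spor_IsON : ∀ p : ℕ, p.Prime → p ≠ 2 → (460815505920 : ℕ).factorization p = 3 →
    p ^ 3 < 2 ^ ((460815505920 : ℕ).factorization 2) :=
  generic 460815505920 [(2, 9), (3, 4), (5, 1), (7, 3), (11, 1), (19, 1), (31, 1)] 9 (by norm_num) (by norm_num) (by norm_num) (by decide) (by decide) (by decide)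

theorem spor_IsHN : ∀ p : ℕ, p.Prime → p ≠ 2 → (273030912000000 : ℕ).factorization p = 3 →
    p ^ 3 < 2 ^ ((273030912000000 : ℕ).factorization 2) :=
  generic 273030912000000 [(2, 14), (3, 6), (5, 6), (7, 1), (11, 1), (19, 1)] 14 (by norm_num) (by norm_num) (by norm_num) (by decide) (by decide) (by decide)

theorem spor_IsLy : ∀ p : ℕ, p.Prime → p ≠ 2 → (51765179004000000 : ℕ).factorization p = 3 →
    p ^ 3 < 2 ^ ((51765179004000000 : ℕ).factorization 2) :=
  generic 51765179004000000 [(2, 8), (3, 7), (5, 6), (7, 1), (11, 1), (31, 1), (37, 1), (67, 1)] 8 (by norm_num) (by norm_num) (by norm_num) (by decide) (by decide) (by decide)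

theorem spor_IsTh : ∀ p : ℕ, p.Prime → p ≠ 2 → (90745943887872000 : ℕ).factorization p = 3 →
    p ^ 3 < 2 ^ ((90745943887872000 : ℕ).factorization 2) :=
  generic 90745943887872000 [(2, 15), (3, 10), (5, 3), (7, 2), (13, 1), (19, 1), (31, 1)] 15 (by norm_num) (by norm_num) (by norm_num) (by decide) (by decide) (by decide)

theorem spor_IsB : ∀ p : ℕ, p.Prime → p ≠ 2 → (4154781481226426191177580544000000 : ℕ).factorization p = 3 →
    p ^ 3 < 2 ^ ((4154781481226426191177580544000000 : ℕ).factorization 2) :=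
  generic 4154781481226426191177580544000000 [(2, 41), (3, 13), (5, 6), (7, 2), (11, 1), (13, 1), (17, 1), (19, 1), (23, 1), (31, 1), (47, 1)] 41 (by norm_num) (by norm_num) (by norm_num) (by decide) (by decide) (by decide)

theorem spor_IsM : ∀ p : ℕ, p.Prime → p ≠ 2 → (808017424794512875886459904961710757005754368000000000 : ℕ).factorization p = 3 →
    p ^ 3 < 2 ^ ((808017424794512875886459904961710757005754368000000000 : ℕ).factorization 2) :=
  generic 808017424794512875886459904961710757005754368000000000 [(2, 46), (3, 20), (5, 9), (7, 6), (11, 2), (13, 3), (17, 1), (19, 1), (23, 1), (29, 1), (31, 1), (41, 1), (47, 1), (59, 1), (71, 1)] 46 (by norm_num) (by norm_num) (by norm_num) (by decide) (by decide) (by decide)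

theorem sporadic {G : Type*} [Group G] (hG : Cfsg.IsSporadic G) :
    ∀ p : ℕ, p.Prime → p ≠ 2 → (Nat.card G).factorization p = 3 →
    p ^ 3 < 2 ^ ((Nat.card G).factorization 2) := by
  unfold Cfsg.IsSporadic at hG
  rcases hG with h | h | h | h | h | h | h | h | h | h | h | h | h | h | h | h | h | h | h | h | h | h | h | h | h | h
  · rw [h.2]; exact spor_IsM11
  · rw [h.2]; exact spor_IsM12
  · rw [h.2]; exact spor_IsM22
  · rw [h.2]; exact spor_IsM23
  · rw [h.2]; exact spor_IsM24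
  · rw [h.2]; exact spor_IsJ1
  · rw [h.2]; exact spor_IsJ2
  · rw [h.2]; exact spor_IsJ3
  · rw [h.2]; exact spor_IsJ4
  · rw [h.2]; exact spor_IsCo1
  · rw [h.2]; exact spor_IsCo2
  · rw [h.2]; exact spor_IsCo3
  · rw [h.2]; exact spor_IsFi22
  · rw [h.2]; exact spor_IsFi23
  · rw [h.2]; exact spor_IsFi24p
  · rw [h.2]; exact spor_IsHS
  · rw [h.2]; exact spor_IsMcL
  · rw [h.2]; exact spor_IsHe
  · rw [h.2]; exact spor_IsRu
  · rw [h.2]; exact spor_IsSuz
  · rw [h.2]; exact spor_IsON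
  · rw [h.2]; exact spor_IsHN
  · rw [h.2]; exact spor_IsLy
  · rw [h.2]; exact spor_IsTh
  · rw [h.2]; exact spor_IsB
  · rw [h.2]; exact spor_IsM


theorem pow_dvd_mul_factorial (p k : ℕ) (hp : 0 < p) : p ^ k ∣ (k * p).factorial := by
  induction k with
  | zero => simp
  | succ k ih =>
    have h1 : (k + 1) * p = ((k + 1) * p - 1) + 1 := by
      have : 0 < (k + 1) * p := Nat.mul_pos (Nat.succ_pos k) hp
      omega
    rw [h1, Nat.factorial_succ, ← h1, pow_succ, mul_comm (p ^ k) p]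
    apply Nat.mul_dvd_mul (Dvd.intro_left (k + 1) rfl)
    apply dvd_trans ih
    apply Nat.factorial_dvd_factorial
    have : (k + 1) * p = k * p + p := by ring
    omega

theorem cube_lt (k : ℕ) : (k + 5) ^ 3 < 2 ^ (2 * k + 8) := by
  induction k with
  | zero => norm_num
  | succ k ih =>
    have h1 : 2 ^ (2 * (k + 1) + 8) = 4 * 2 ^ (2 * k + 8) := by
      rw [show 2 * (k + 1) + 8 = (2 * k + 8) + 2 by ring, pow_add]; ring
    rw [h1]
    have h2 : (k + 1 + 5) ^ 3 ≤ 4 * (k + 5) ^ 3 := by nlinarith [sq_nonneg k, Nat.zero_le k]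
    omega

theorem fact_factorial (p n : ℕ) [hp : Fact p.Prime] (b : ℕ) (hb0 : b ≠ 0) (hb : n < p ^ b) :
    (n.factorial).factorization p = ∑ i ∈ Finset.Ico 1 b, n / p ^ i := by
  rw [Nat.factorization_def _ hp.out]
  apply padicValNat_factorial
  exact Nat.log_lt_of_lt_pow' hb0 hb

theorem alternating_aux (n p : ℕ) (hp : p.Prime) (hodd : p ≠ 2) (c : ℕ) (hc : 2 * c = n.factorial)
    (h3 : c.factorization p = 3) : p ^ 3 < 2 ^ c.factorization 2 := by
  haveI : Fact p.Prime := ⟨hp⟩
  haveI : Fact (Nat.Prime 2) := ⟨Nat.prime_two⟩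
  have hc0 : c ≠ 0 := by
    intro h; rw [h] at hc; exact (Nat.factorial_ne_zero n) hc.symm
  have hp3 : 3 ≤ p := by
    have := hp.two_le
    omega
  -- factorization of n! at p and at 2
  have hfp : (n.factorial).factorization p = 3 := by
    rw [← hc, Nat.factorization_mul (by norm_num) hc0, Finsupp.add_apply, h3,
      Nat.factorization_eq_zero_of_not_dvd]
    intro h
    exact hodd ((Nat.prime_dvd_prime_iff_eq hp Nat.prime_two).mp h)
  have hf2 : (n.factorial).factorization 2 = c.factorization 2 + 1 := by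
    rw [← hc, Nat.factorization_mul (by norm_num) hc0, Finsupp.add_apply,
      Nat.Prime.factorization_self Nat.prime_two, add_comm]
  -- n < 4p
  have hn4 : n < 4 * p := by
    by_contra hge
    push_neg at hge
    have h1 : p ^ 4 ∣ n.factorial :=
      dvd_trans (pow_dvd_mul_factorial p 4 hp.pos) (Nat.factorial_dvd_factorial hge)
    have h2 := (hp.pow_dvd_iff_le_factorization (Nat.factorial_ne_zero n)).mp h1
    omega
  -- p ≥ 5 and n / p = 3
  have hp5 : 5 ≤ p ∧ 3 * p ≤ n := by
    by_cases hp3' : p = 3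
    · exfalso
      subst hp3'
      have h1 := fact_factorial 3 n 3 (by norm_num) (by omega)
      rw [hfp] at h1
      have : Finset.Ico 1 3 = {1, 2} := by decide
      rw [this, Finset.sum_pair (by norm_num)] at h1
      norm_num at h1
      omega
    · have hp5 : 5 ≤ p := by
        by_contra hlt
        have : p = 4 := by omega
        subst this
        exact absurd hp (by norm_num)
      refine ⟨hp5, ?_⟩
      have h1 := fact_factorial p n 2 (by norm_num) (by nlinarith)
      rw [hfp] at h1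
      have : Finset.Ico 1 2 = {1} := by decide
      rw [this, Finset.sum_singleton, pow_one] at h1
      have := Nat.div_mul_le_self n p
      rw [← h1] at this
      omega
  obtain ⟨hp5, hn3⟩ := hp5
  -- 2-adic valuation lower bound
  have hv2 : n / 2 + n / 4 ≤ (n.factorial).factorization 2 := by
    have h1 := fact_factorial 2 n n (by omega) (Nat.lt_two_pow_self)
    rw [h1]
    have hsub : ({1, 2} : Finset ℕ) ⊆ Finset.Ico 1 n := by
      intro x hx
      simp only [Finset.mem_insert, Finset.mem_singleton] at hx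
      rw [Finset.mem_Ico]
      omega
    calc n / 2 + n / 4 = ∑ i ∈ ({1, 2} : Finset ℕ), n / 2 ^ i := by
          rw [Finset.sum_pair (by norm_num)]; norm_num
      _ ≤ ∑ i ∈ Finset.Ico 1 n, n / 2 ^ i :=
          Finset.sum_le_sum_of_subset hsub
  obtain ⟨k, rfl⟩ : ∃ k, p = k + 5 := ⟨p - 5, by omega⟩
  have hle : 2 * k + 8 ≤ c.factorization 2 := by omega
  calc (k + 5) ^ 3 < 2 ^ (2 * k + 8) := cube_lt k
    _ ≤ 2 ^ c.factorization 2 := Nat.pow_le_pow_right (by norm_num) hle

theorem alternating {G : Type*} [Group G] (hG : Cfsg.IsAlternating G)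
    (p : ℕ) (hp : p.Prime) (hodd : p ≠ 2) (h3 : (Nat.card G).factorization p = 3) :
    p ^ 3 < 2 ^ (Nat.card G).factorization 2 := by
  obtain ⟨n, hn, ⟨e⟩⟩ := hG
  haveI : Nontrivial (Fin n) := Fin.nontrivial_iff_two_le.mpr (by omega)
  have hc : 2 * Nat.card G = n.factorial := by
    rw [Nat.card_congr e.toEquiv, two_mul_nat_card_alternatingGroup, Nat.card_eq_fintype_card,
      Fintype.card_perm, Fintype.card_fin]
  exact alternating_aux n p hp hodd _ hc h3

theorem main {G : Type*} [Group G] [Finite G] (hG : Cfsg.IsAlternating G ∨ Cfsg.IsSporadic G)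
    (p : ℕ) (hp : p.Prime) (hodd : p ≠ 2) (h3 : (Nat.card G).factorization p = 3) :
    p ^ 3 < 2 ^ (Nat.card G).factorization 2 := by
  rcases hG with h | h
  · exact alternating h p hp hodd h3
  · exact sporadic h p hp hodd h3

end Cfsg.Agent.Lib.Helper5_PCube
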