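import Mathlib
import Cfsg.Prelude.Def_LinearParabolics
set_option autoImplicit false
open Cfsg
open scoped MatrixGroups
namespace Cfsg.Agent.Lib.Helper5_Parab

section general
variable {F : Type*} [Field F] [Fintype F] {ι : Type*} [Fintype ι] [DecidableEq ι] {k : ℕ}

/-- the matrix assembled from diagonal blocks and upper entries -/
def assemble (b : ι → Fin k)
    (d : ∀ a : Fin k, Matrix {i // b i = a} {i // b i = a} F)
    (u : {p : ι × ι // b p.1 < b p.2} → F) : Matrix ι ι F :=
  Matrix.of fun i j =>
    if h : b i = b j then d (b i) ⟨i, rfl⟩ ⟨j, h.symm⟩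
    else if h' : b i < b j then u ⟨(i, j), h'⟩ else 0

theorem assemble_blockTriangular (b : ι → Fin k)
    (d : ∀ a : Fin k, Matrix {i // b i = a} {i // b i = a} F)
    (u : {p : ι × ι // b p.1 < b p.2} → F) : (assemble b d u).BlockTriangular b := by
  intro i j hij
  simp only [assemble, Matrix.of_apply]
  rw [dif_neg (ne_of_gt hij), dif_neg (not_lt_of_gt hij)]

theorem assemble_block (b : ι → Fin k)
    (d : ∀ a : Fin k, Matrix {i // b i = a} {i // b i = a} F)
    (u : {p : ι × ι // b p.1 < b p.2} → F) (a : Fin k) :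
    (assemble b d u).toSquareBlock b a = d a := by
  ext ⟨i, hi⟩ ⟨j, hj⟩
  subst hi
  simp only [Matrix.toSquareBlock_def, Matrix.of_apply, assemble]
  rw [dif_pos hj.symm]

theorem det_ne_zero_iff_blocks {b : ι → Fin k} {M : Matrix ι ι F} (hM : M.BlockTriangular b) :
    M.det ≠ 0 ↔ ∀ a, (M.toSquareBlock b a).det ≠ 0 := by
  rw [hM.det_fintype, Finset.prod_ne_zero_iff]
  simp

/-- the main equivalence -/
noncomputable def blockEquiv (b : ι → Fin k) :
    {M : Matrix ι ι F // M.BlockTriangular b ∧ M.det ≠ 0} ≃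
      {d : ∀ a : Fin k, Matrix {i // b i = a} {i // b i = a} F // ∀ a, (d a).det ≠ 0} ×
        ({p : ι × ι // b p.1 < b p.2} → F) where
  toFun M := (⟨fun a => M.1.toSquareBlock b a, (det_ne_zero_iff_blocks M.2.1).mp M.2.2⟩,
    fun p => M.1 p.1.1 p.1.2)
  invFun x := ⟨assemble b x.1.1 x.2, assemble_blockTriangular b _ _, by
    rw [det_ne_zero_iff_blocks (assemble_blockTriangular b _ _)]
    intro a
    rw [assemble_block]
    exact x.1.2 a⟩
  left_inv M := by
    apply Subtype.ext
    ext i j
    simp only [assemble, Matrix.of_apply, Matrix.toSquareBlock_def]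
    by_cases h : b i = b j
    · rw [dif_pos h]
    · rw [dif_neg h]
      by_cases h' : b i < b j
      · rw [dif_pos h']
      · rw [dif_neg h']
        have : b j < b i := lt_of_le_of_ne (not_lt.mp h') (Ne.symm h)
        exact (M.2.1 this).symm
  right_inv x := by
    obtain ⟨⟨d, hd⟩, u⟩ := x
    apply Prod.ext
    · apply Subtype.ext
      funext a
      exact assemble_block b d u a
    · funext p
      obtain ⟨⟨i, j⟩, hp⟩ := p
      simp only [assemble, Matrix.of_apply]
      rw [dif_neg (ne_of_lt hp), dif_pos hp]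

/-- invertible matrices on a finite index type: reduce to `Fin c` -/
noncomputable def invEquivGL (κ : Type*) [Fintype κ] [DecidableEq κ] :
    {m : Matrix κ κ F // m.det ≠ 0} ≃ GL (Fin (Fintype.card κ)) F where
  toFun m := Matrix.GeneralLinearGroup.mkOfDetNeZero
    (Matrix.reindex (Fintype.equivFin κ) (Fintype.equivFin κ) m.1)
    (by rw [Matrix.det_reindex_self]; exact m.2)
  invFun g := ⟨Matrix.reindex (Fintype.equivFin κ).symm (Fintype.equivFin κ).symm g.1, by
    rw [Matrix.det_reindex_self]
    exact (Matrix.isUnits_det_units g).ne_zero⟩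
  left_inv m := by
    apply Subtype.ext
    ext i j
    simp [Matrix.GeneralLinearGroup.mkOfDetNeZero]
  right_inv g := by
    apply Units.ext
    ext i j
    simp [Matrix.GeneralLinearGroup.mkOfDetNeZero]

/-- `G(m) = ∏_{i<m} (q^m - q^i)` -/
def glCard (q m : ℕ) : ℕ := ∏ i : Fin m, (q ^ m - q ^ (i : ℕ))

theorem card_inv (κ : Type*) [Fintype κ] [DecidableEq κ] :
    Nat.card {m : Matrix κ κ F // m.det ≠ 0} = glCard (Fintype.card F) (Fintype.card κ) := by
  rw [Nat.card_congr (invEquivGL κ), Matrix.card_GL_field]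
  rfl

theorem card_blockTri (b : ι → Fin k) :
    Nat.card {M : Matrix ι ι F // M.BlockTriangular b ∧ M.det ≠ 0} =
      (∏ a : Fin k, glCard (Fintype.card F) (Fintype.card {i // b i = a})) *
        Fintype.card F ^ Nat.card {p : ι × ι // b p.1 < b p.2} := by
  have e : {d : ∀ a : Fin k, Matrix {i // b i = a} {i // b i = a} F // ∀ a, (d a).det ≠ 0} ≃
      ∀ a : Fin k, {m : Matrix {i // b i = a} {i // b i = a} F // m.det ≠ 0} :=
    Equiv.subtypePiEquivPi (β := fun a : Fin k => Matrix {i // b i = a} {i // b i = a} F)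
      (p := fun a m => m.det ≠ 0)
  rw [Nat.card_congr (blockEquiv b), Nat.card_prod, Nat.card_fun, Nat.card_eq_fintype_card (α := F),
    Nat.card_congr e, Nat.card_pi]
  congr 1
  exact Finset.prod_congr rfl fun a _ => card_inv _

/-- pair counting -/
theorem pair_count (b : ι → Fin k) :
    Fintype.card ι * Fintype.card ι = 2 * Nat.card {p : ι × ι // b p.1 < b p.2} +
      ∑ a : Fin k, Fintype.card {i // b i = a} * Fintype.card {i // b i = a} := by
  classical
  rw [Nat.card_eq_fintype_card, Fintype.card_subtype]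
  have h1 : Fintype.card ι * Fintype.card ι = (Finset.univ : Finset (ι × ι)).card := by
    rw [Finset.card_univ, Fintype.card_prod]
  have h2 : (Finset.univ : Finset (ι × ι)) =
      (Finset.univ.filter fun p : ι × ι => b p.1 < b p.2) ∪
      ((Finset.univ.filter fun p : ι × ι => b p.2 < b p.1) ∪
        (Finset.univ.filter fun p : ι × ι => b p.1 = b p.2)) := by
    ext p
    simp only [Finset.mem_univ, Finset.mem_union, Finset.mem_filter, true_and, true_iff]
    rcases lt_trichotomy (b p.1) (b p.2) with h | h | h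
    · exact Or.inl h
    · exact Or.inr (Or.inr h)
    · exact Or.inr (Or.inl h)
  have h3 : (Finset.univ.filter fun p : ι × ι => b p.2 < b p.1).card =
      (Finset.univ.filter fun p : ι × ι => b p.1 < b p.2).card := by
    apply Finset.card_bij (fun p _ => (p.2, p.1))
    · intro p hp
      simpa using hp
    · intro p _ p' _ h
      simp only [Prod.mk.injEq] at h
      exact Prod.ext h.2 h.1
    · intro p hp
      exact ⟨(p.2, p.1), by simpa using hp, rfl⟩
  have h4 : (Finset.univ.filter fun p : ι × ι => b p.1 = b p.2).card =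
      ∑ a : Fin k, Fintype.card {i // b i = a} * Fintype.card {i // b i = a} := by
    rw [Finset.card_eq_sum_card_fiberwise (f := fun p : ι × ι => b p.1) (t := Finset.univ)
      (fun _ _ => Finset.mem_coe.mpr (Finset.mem_univ _))]
    apply Finset.sum_congr rfl
    intro a _
    rw [Fintype.card_subtype, ← Finset.card_product]
    congr 1
    ext p
    simp only [Finset.mem_filter, Finset.mem_univ, true_and, Finset.mem_product]
    constructor
    · rintro ⟨h, h'⟩
      exact ⟨h', h ▸ h'⟩
    · rintro ⟨h, h'⟩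
      exact ⟨h.trans h'.symm, h⟩
  have h5 : (Finset.univ : Finset (ι × ι)).card =
      (Finset.univ.filter fun p : ι × ι => b p.1 < b p.2).card +
      ((Finset.univ.filter fun p : ι × ι => b p.2 < b p.1).card +
        (Finset.univ.filter fun p : ι × ι => b p.1 = b p.2).card) := by
    conv_lhs => rw [h2]
    rw [Finset.card_union_of_disjoint, Finset.card_union_of_disjoint]
    · rw [Finset.disjoint_left]
      intro p hp hp'
      simp only [Finset.mem_filter, Finset.mem_univ, true_and] at hp hp'
      exact absurd hp' (ne_of_gt hp)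
    · rw [Finset.disjoint_left]
      intro p hp hp'
      simp only [Finset.mem_filter, Finset.mem_univ, true_and, Finset.mem_union] at hp hp'
      rcases hp' with hp' | hp'
      · exact lt_asymm hp hp'
      · exact absurd hp' (ne_of_lt hp)
  rw [h1, h5, h3, h4]
  ring
end general

/-! ### arithmetic -/

/-- `{m} = ∏_{j<m} [j+1]_q` -/
def qfac (q m : ℕ) : ℕ := ∏ j ∈ Finset.range m, ∑ l ∈ Finset.range (j + 1), q ^ l

/-- triangular number -/
def tri (m : ℕ) : ℕ := ∑ i ∈ Finset.range m, i

theorem tri_two (m : ℕ) : 2 * tri m + m = m * m := by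
  have := Finset.sum_range_id_mul_two m
  unfold tri
  cases m with
  | zero => simp
  | succ m =>
    simp only [Nat.add_sub_cancel] at this
    nlinarith

theorem geom_pred (q : ℕ) (hq : 1 ≤ q) (k : ℕ) :
    (q - 1) * (∑ l ∈ Finset.range k, q ^ l) + 1 = q ^ k := by
  induction k with
  | zero => simp
  | succ k ih =>
    rw [Finset.sum_range_succ, mul_add, pow_succ]
    obtain ⟨r, rfl⟩ : ∃ r, q = r + 1 := ⟨q - 1, by omega⟩
    simp only [Nat.add_sub_cancel] at ih ⊢
    nlinarith

theorem glCard_eq (q m : ℕ) (hq : 1 ≤ q) :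
    glCard q m = q ^ tri m * (q - 1) ^ m * qfac q m := by
  unfold glCard
  rw [Fin.prod_univ_eq_prod_range (fun i => q ^ m - q ^ i) m]
  have h : ∀ i ∈ Finset.range m, q ^ m - q ^ i =
      q ^ i * ((q - 1) * ∑ l ∈ Finset.range (m - 1 - i + 1), q ^ l) := by
    intro i hi
    rw [Finset.mem_range] at hi
    have e : m - 1 - i + 1 = m - i := by omega
    rw [e]
    have h1 := geom_pred q hq (m - i)
    have h2 : q ^ m = q ^ i * q ^ (m - i) := by
      rw [← pow_add]; congr 1; omega
    rw [h2, ← h1, mul_add, mul_one, Nat.add_sub_cancel]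
  rw [Finset.prod_congr rfl h, Finset.prod_mul_distrib, Finset.prod_mul_distrib,
    Finset.prod_pow_eq_pow_sum, Finset.prod_const, Finset.card_range,
    Finset.prod_range_reflect (fun j => ∑ l ∈ Finset.range (j + 1), q ^ l) m]
  unfold tri qfac
  ring

/-! ### block labels -/

section labels
variable {n : ℕ} (μ : Fin n → ℕ)

/-- partial sums -/
def ps (t : ℕ) : ℕ := ∑ k ∈ Finset.univ.filter (fun k : Fin n => k.val < t), μ k

theorem ps_zero : ps μ 0 = 0 := by
  unfold ps
  simp

theorem ps_mono {t t' : ℕ} (h : t ≤ t') : ps μ t ≤ ps μ t' := by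
  unfold ps
  apply Finset.sum_le_sum_of_subset
  intro k hk
  simp only [Finset.mem_filter, Finset.mem_univ, true_and] at hk ⊢
  omega

theorem ps_succ (a : Fin n) : ps μ (a.val + 1) = ps μ a.val + μ a := by
  unfold ps
  have : Finset.univ.filter (fun k : Fin n => k.val < a.val + 1) =
      insert a (Finset.univ.filter (fun k : Fin n => k.val < a.val)) := by
    ext k
    simp only [Finset.mem_filter, Finset.mem_univ, true_and, Finset.mem_insert, Fin.ext_iff]
    omega
  rw [this, Finset.sum_insert, add_comm]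
  simp

theorem ps_top : ps μ n = ∑ k, μ k := by
  unfold ps
  congr 1
  ext k
  simp

theorem compLabel_eq (i : Fin n) : compLabel μ i =
    (Finset.univ.filter fun j : Fin n => ps μ (j.val + 1) ≤ i.val).card := by
  unfold compLabel ps
  congr 1
  ext j
  simp only [Finset.mem_filter, Finset.mem_univ, true_and]
  have : Finset.univ.filter (fun k : Fin n => k ≤ j) =
      Finset.univ.filter (fun k : Fin n => k.val < j.val + 1) := by
    ext k
    simp only [Finset.mem_filter, Finset.mem_univ, true_and, Fin.le_def]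
    omega
  rw [this]

theorem card_filter_val_lt (a : ℕ) (ha : a ≤ n) :
    (Finset.univ.filter fun j : Fin n => j.val < a).card = a := by
  have : (Finset.univ.filter fun j : Fin n => j.val < a).card = (Finset.range a).card := by
    apply Finset.card_bij (fun j _ => j.val)
    · intro j hj
      simpa using hj
    · intro j _ j' _ h
      exact Fin.ext h
    · intro x hx
      rw [Finset.mem_range] at hx
      exact ⟨⟨x, by omega⟩, by simpa using hx, rfl⟩
  rw [this, Finset.card_range]

theorem card_filter_Ico (lo hi : ℕ) (hhi : hi ≤ n) :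
    (Finset.univ.filter fun j : Fin n => lo ≤ j.val ∧ j.val < hi).card = hi - lo := by
  have : (Finset.univ.filter fun j : Fin n => lo ≤ j.val ∧ j.val < hi).card =
      (Finset.Ico lo hi).card := by
    apply Finset.card_bij (fun j _ => j.val)
    · intro j hj
      simpa using hj
    · intro j _ j' _ h
      exact Fin.ext h
    · intro x hx
      rw [Finset.mem_Ico] at hx
      exact ⟨⟨x, by omega⟩, by simpa using hx, rfl⟩
  rw [this, Nat.card_Ico]

theorem compLabel_of_mem (i a : Fin n) (h1 : ps μ a.val ≤ i.val) (h2 : i.val < ps μ (a.val + 1)) :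
    compLabel μ i = a.val := by
  rw [compLabel_eq]
  have : (Finset.univ.filter fun j : Fin n => ps μ (j.val + 1) ≤ i.val) =
      Finset.univ.filter fun j : Fin n => j.val < a.val := by
    ext j
    simp only [Finset.mem_filter, Finset.mem_univ, true_and]
    constructor
    · intro h
      by_contra hc
      have : ps μ (a.val + 1) ≤ ps μ (j.val + 1) := ps_mono μ (by omega)
      omega
    · intro h
      have : ps μ (j.val + 1) ≤ ps μ a.val := ps_mono μ (by omega)
      omega
  rw [this, card_filter_val_lt a.val a.2.le]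

theorem exists_block (hsum : ∑ k, μ k = n) (i : Fin n) :
    ∃ a : Fin n, ps μ a.val ≤ i.val ∧ i.val < ps μ (a.val + 1) := by
  classical
  have hn : 0 < n := lt_of_le_of_lt (Nat.zero_le _) i.2
  have hex : ∃ t, i.val < ps μ (t + 1) := by
    refine ⟨n - 1, ?_⟩
    have : n - 1 + 1 = n := by omega
    rw [this, ps_top, hsum]
    exact i.2
  have hle : Nat.find hex ≤ n - 1 := by
    apply Nat.find_min'
    have : n - 1 + 1 = n := by omega
    rw [this, ps_top, hsum]
    exact i.2
  refine ⟨⟨Nat.find hex, by omega⟩, ?_, Nat.find_spec hex⟩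
  simp only
  rcases Nat.eq_zero_or_pos (Nat.find hex) with h0 | h0
  · rw [h0, ps_zero]; exact Nat.zero_le _
  · have := Nat.find_min hex (m := Nat.find hex - 1) (by omega)
    have e : Nat.find hex - 1 + 1 = Nat.find hex := by omega
    rw [e] at this
    omega

theorem compLabel_lt (hsum : ∑ k, μ k = n) (i : Fin n) : compLabel μ i < n := by
  obtain ⟨a, h1, h2⟩ := exists_block μ hsum i
  rw [compLabel_of_mem μ i a h1 h2]
  exact a.2

theorem card_fiber (hsum : ∑ k, μ k = n) (a : Fin n) :
    (Finset.univ.filter fun i : Fin n => compLabel μ i = a.val).card = μ a := by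
  have : (Finset.univ.filter fun i : Fin n => compLabel μ i = a.val) =
      Finset.univ.filter fun i : Fin n => ps μ a.val ≤ i.val ∧ i.val < ps μ (a.val + 1) := by
    ext i
    simp only [Finset.mem_filter, Finset.mem_univ, true_and]
    constructor
    · intro h
      obtain ⟨a', h1, h2⟩ := exists_block μ hsum i
      have := compLabel_of_mem μ i a' h1 h2
      have e : a' = a := Fin.ext (by omega)
      rw [← e]
      exact ⟨h1, h2⟩
    · rintro ⟨h1, h2⟩
      exact compLabel_of_mem μ i a h1 h2
  rw [this, card_filter_Ico]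
  · rw [ps_succ]; omega
  · have h1 : ps μ (a.val + 1) ≤ ps μ n := ps_mono μ (by omega)
    rw [ps_top, hsum] at h1
    exact h1

end labels

/-! ### the main statement -/

section main
variable {F : Type*} [Field F] [Fintype F] {n : ℕ} (μ : Fin n → ℕ) (hμ : ∑ i, μ i = n)

/-- labels as elements of `Fin n` -/
def lab (i : Fin n) : Fin n := ⟨compLabel μ i, compLabel_lt μ hμ i⟩

/-- the parabolic subgroup as a set of matrices -/
noncomputable def parabEquiv : ↥(parabolicGL n F μ) ≃
    {M : Matrix (Fin n) (Fin n) F // M.BlockTriangular (lab μ hμ) ∧ M.det ≠ 0} where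
  toFun g := ⟨g.1.1, g.2, (Matrix.isUnits_det_units g.1).ne_zero⟩
  invFun M := ⟨Matrix.GeneralLinearGroup.mkOfDetNeZero M.1 M.2.2, M.2.1⟩
  left_inv g := by
    apply Subtype.ext
    apply Units.ext
    rfl
  right_inv M := by
    apply Subtype.ext
    rfl

theorem card_lab_fiber (a : Fin n) : Fintype.card {i : Fin n // lab μ hμ i = a} = μ a := by
  rw [Fintype.card_subtype, ← card_fiber μ hμ a]
  congr 1
  ext i
  simp only [Finset.mem_filter, Finset.mem_univ, true_and, lab, Fin.ext_iff]

theorem card_parab : Nat.card (parabolicGL n F μ) =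
    (∏ a : Fin n, glCard (Fintype.card F) (μ a)) *
      Fintype.card F ^ Nat.card {p : Fin n × Fin n // lab μ hμ p.1 < lab μ hμ p.2} := by
  rw [Nat.card_congr (parabEquiv μ hμ), card_blockTri]
  congr 1
  exact Finset.prod_congr rfl fun a _ => by rw [card_lab_fiber]

theorem tri_identity : tri n = Nat.card {p : Fin n × Fin n // lab μ hμ p.1 < lab μ hμ p.2} +
    ∑ a : Fin n, tri (μ a) := by
  have h1 := pair_count (lab μ hμ)
  simp only [card_lab_fiber, Fintype.card_fin] at h1
  have h2 := tri_two n
  have h3 : ∑ a : Fin n, (2 * tri (μ a) + μ a) = ∑ a : Fin n, μ a * μ a :=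
    Finset.sum_congr rfl fun a _ => tri_two (μ a)
  rw [Finset.sum_add_distrib, ← Finset.mul_sum, hμ] at h3
  omega

include hμ in
theorem main {q : ℕ} (hq : Fintype.card F = q) :
    Nat.card (GL (Fin n) F ⧸ parabolicGL n F μ) *
      ∏ i : Fin n, ∏ j ∈ Finset.range (μ i), ∑ l ∈ Finset.range (j + 1), q ^ l =
      ∏ j ∈ Finset.range n, ∑ l ∈ Finset.range (j + 1), q ^ l := by
  have hq2 : 2 ≤ q := by
    rw [← hq]
    exact Fintype.one_lt_card
  have hG : Nat.card (GL (Fin n) F) = glCard q n := by
    rw [Matrix.card_GL_field, hq]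
    rfl
  have hP := card_parab (F := F) μ hμ
  rw [hq] at hP
  have hidx := Subgroup.card_eq_card_quotient_mul_card_subgroup (parabolicGL n F μ)
  rw [hG, hP, glCard_eq q n (by omega)] at hidx
  have h1 : ∏ a : Fin n, glCard q (μ a) =
      q ^ (∑ a : Fin n, tri (μ a)) * (q - 1) ^ n * ∏ a : Fin n, qfac q (μ a) := by
    rw [Finset.prod_congr rfl fun a _ => glCard_eq q (μ a) (by omega), Finset.prod_mul_distrib,
      Finset.prod_mul_distrib, Finset.prod_pow_eq_pow_sum, Finset.prod_pow_eq_pow_sum, hμ]
  rw [h1, tri_identity μ hμ, pow_add] at hidx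
  change _ * ∏ i : Fin n, qfac q (μ i) = qfac q n
  set U := Nat.card {p : Fin n × Fin n // lab μ hμ p.1 < lab μ hμ p.2}
  set c := Nat.card (GL (Fin n) F ⧸ parabolicGL n F μ)
  have hK : 0 < q ^ U * q ^ (∑ a : Fin n, tri (μ a)) * (q - 1) ^ n := by
    apply Nat.mul_pos (Nat.mul_pos (Nat.pow_pos (by omega)) (Nat.pow_pos (by omega)))
    exact Nat.pow_pos (by omega)
  apply Nat.eq_of_mul_eq_mul_right hK
  have e : qfac q n * (q ^ U * q ^ (∑ a : Fin n, tri (μ a)) * (q - 1) ^ n) =
      q ^ U * q ^ (∑ a : Fin n, tri (μ a)) * (q - 1) ^ n * qfac q n := by ring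
  rw [e, hidx]
  ring

end main

end Cfsg.Agent.Lib.Helper5_Parab
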