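import Mathlib
import Cfsg.Prelude.Def_CaseTheorems
import Cfsg.Agent.Lib.Helper6_DihedralLift
import Cfsg.Agent.Lib.Helper5_MaxClassTwo
import Cfsg.Agent.Lib.Helper7_PFrattini
import Cfsg.Agent.Lib.Helper5_KleinSub

set_option autoImplicit false

/-! Quasi-dihedral (semidihedral) 2-groups: normal forms (helper5). -/

namespace Cfsg.Agent.Lib.Helper5_QD

open Subgroup
open scoped commutatorElement

/-- `S` is quasi-dihedral of order `16 L` on the generators `x` (of order `8 L`) and `y`. -/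
structure QD (S : Type*) [Group S] (L : ℕ) (x y : S) : Prop where
  pow2 : ∃ m : ℕ, L = 2 ^ m
  card : Nat.card S = 16 * L
  ox : orderOf x = 8 * L
  yy : y * y = 1
  rel : y * x * y⁻¹ = x ^ (4 * (L : ℤ) - 1)

theorem exists_qd {S : Type*} [Group S] (hS : Cfsg.IsQuasiDihedral S) :
    ∃ (L : ℕ) (x y : S), QD S L x y := by
  obtain ⟨n, hn, hcard, x, y, hx, hy, hrel⟩ := hS
  obtain ⟨m, rfl⟩ : ∃ m, n = m + 3 := ⟨n - 3, by omega⟩
  refine ⟨2 ^ m, x, y, ⟨m, rfl⟩, ?_, ?_, ?_, ?_⟩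
  · rw [hcard]; ring
  · rw [hx]; ring
  · rw [← pow_two, ← hy]; exact pow_orderOf_eq_one y
  · rw [hrel, ← zpow_natCast]
    congr 1
    have h1 : 2 ^ (m + 3 - 1) = 4 * 2 ^ m := by
      rw [show m + 3 - 1 = m + 2 by omega]; ring
    have h2 : 1 ≤ 4 * 2 ^ m := Nat.one_le_iff_ne_zero.mpr (by positivity)
    rw [h1]
    push_cast [h2]
    ring

namespace QD

variable {S : Type*} [Group S] {L : ℕ} {x y : S}

theorem Lpos (h : QD S L x y) : 0 < L := by
  obtain ⟨m, rfl⟩ := h.pow2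
  positivity

theorem x_pow (h : QD S L x y) : x ^ (8 * (L : ℤ)) = 1 := by
  have := pow_orderOf_eq_one x
  rw [h.ox] at this
  rw [← this, ← zpow_natCast]
  push_cast
  rfl

theorem zpow_eq (h : QD S L x y) {a b : ℤ} (t : ℤ) (hab : a = b + 8 * L * t) :
    x ^ a = x ^ b := by
  rw [hab, zpow_add, zpow_mul, h.x_pow, one_zpow, mul_one]

theorem zpow_eq_iff (h : QD S L x y) (a b : ℤ) : x ^ a = x ^ b ↔ (8 * (L : ℤ)) ∣ a - b := by
  rw [zpow_eq_zpow_iff_modEq, h.ox, Int.modEq_iff_dvd]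
  push_cast
  rw [← dvd_neg, neg_sub]

theorem zpow_eq_one_iff (h : QD S L x y) (a : ℤ) : x ^ a = 1 ↔ (8 * (L : ℤ)) ∣ a := by
  have := h.zpow_eq_iff a 0
  rwa [zpow_zero, sub_zero] at this

theorem even_of_zpow_eq (h : QD S L x y) {a b : ℤ} (hab : x ^ a = x ^ b) : Even a ↔ Even b := by
  obtain ⟨t, ht⟩ := (h.zpow_eq_iff a b).mp hab
  have : a = b + 2 * (4 * L * t) := by linarith
  rw [this, Int.even_add]
  simp

theorem y_inv (h : QD S L x y) : y⁻¹ = y := inv_eq_of_mul_eq_one_left h.yy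

theorem conj (h : QD S L x y) (i : ℤ) : y * x ^ i * y⁻¹ = x ^ ((4 * (L : ℤ) - 1) * i) := by
  have := map_zpow (MulAut.conj y).toMonoidHom x i
  simp only [MulEquiv.coe_toMonoidHom, MulAut.conj_apply] at this
  rw [this, h.rel, ← zpow_mul]

theorem y_mul (h : QD S L x y) (i : ℤ) : y * x ^ i = x ^ ((4 * (L : ℤ) - 1) * i) * y := by
  rw [← h.conj i]; group

theorem mul_yy (h : QD S L x y) (i j : ℤ) :
    (x ^ i * y) * (x ^ j * y) = x ^ (i + (4 * (L : ℤ) - 1) * j) := by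
  rw [mul_assoc, ← mul_assoc y, h.y_mul j, mul_assoc, h.yy, mul_one, ← zpow_add]

theorem mul_yx (h : QD S L x y) (i j : ℤ) :
    (x ^ i * y) * x ^ j = x ^ (i + (4 * (L : ℤ) - 1) * j) * y := by
  rw [mul_assoc, h.y_mul j, ← mul_assoc, ← zpow_add]

theorem mul_xy (i j : ℤ) : x ^ i * (x ^ j * y) = x ^ (i + j) * y := by
  rw [← mul_assoc, ← zpow_add]

theorem sq_y (h : QD S L x y) (i : ℤ) : (x ^ i * y) * (x ^ i * y) = x ^ (4 * (L : ℤ) * i) := by
  rw [h.mul_yy]; congr 1; ring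

theorem inv_y (h : QD S L x y) (i : ℤ) :
    (x ^ i * y)⁻¹ = x ^ (-(4 * (L : ℤ) - 1) * i) * y := by
  rw [mul_inv_rev, h.y_inv, ← zpow_neg, h.y_mul]
  congr 2; ring

theorem y_notin (h : QD S L x y) : y ∉ zpowers x := by
  rintro ⟨i, hi⟩
  simp only at hi
  have h1 : y * x * y⁻¹ = x := by
    rw [← hi]; group
  rw [h.rel] at h1
  have h2 := (h.zpow_eq_iff (4 * (L : ℤ) - 1) 1).mp (by rw [h1, zpow_one])
  obtain ⟨t, ht⟩ := h2
  have hL := h.Lpos
  have hL' : (0 : ℤ) < L := by exact_mod_cast hL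
  have h3 : 0 < t := by
    by_contra hle
    push_neg at hle
    nlinarith
  nlinarith

theorem index_zpowers (h : QD S L x y) : (zpowers x).index = 2 := by
  have h1 := Subgroup.card_mul_index (zpowers x)
  rw [Nat.card_zpowers, h.ox, h.card] at h1
  have hL := h.Lpos
  nlinarith

theorem cases (h : QD S L x y) (g : S) : (∃ i : ℤ, g = x ^ i) ∨ (∃ i : ℤ, g = x ^ i * y) := by
  by_cases hg : g ∈ zpowers x
  · left
    obtain ⟨i, hi⟩ := hg
    exact ⟨i, hi.symm⟩
  · right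
    have h1 := (Subgroup.mul_mem_iff_of_index_two h.index_zpowers (a := g) (b := y)).mpr
      ⟨fun h' => absurd h' hg, fun h' => absurd h' h.y_notin⟩
    obtain ⟨i, hi⟩ := h1
    simp only at hi
    refine ⟨i, ?_⟩
    rw [hi, mul_assoc, h.yy, mul_one]

theorem ne (h : QD S L x y) (i j : ℤ) : x ^ i ≠ x ^ j * y := by
  intro he
  apply h.y_notin
  have : y = x ^ (-j) * x ^ i := by rw [he]; group
  rw [this]
  exact mul_mem (zpow_mem (mem_zpowers x) _) (zpow_mem (mem_zpowers x) _)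

theorem xy_eq_iff (h : QD S L x y) (i j : ℤ) :
    x ^ i * y = x ^ j * y ↔ (8 * (L : ℤ)) ∣ i - j := by
  rw [mul_left_inj, h.zpow_eq_iff]

/-- The subgroup `⟨x², x^e y⟩` of index 2. -/
def Mt (h : QD S L x y) (e : ℤ) : Subgroup S where
  carrier := {g | (∃ k : ℤ, g = x ^ (2 * k)) ∨ (∃ k : ℤ, g = x ^ (2 * k + e) * y)}
  one_mem' := Or.inl ⟨0, by simp⟩
  mul_mem' := by
    rintro a b (⟨k, rfl⟩ | ⟨k, rfl⟩) (⟨l, rfl⟩ | ⟨l, rfl⟩)
    · exact Or.inl ⟨k + l, by rw [← zpow_add]; congr 1; ring⟩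
    · exact Or.inr ⟨k + l, by rw [mul_xy]; congr 2; ring⟩
    · refine Or.inr ⟨k + (4 * (L : ℤ) - 1) * l, ?_⟩
      rw [h.mul_yx]; congr 2; ring
    · refine Or.inl ⟨k + (4 * (L : ℤ) - 1) * l + 2 * L * e, ?_⟩
      rw [h.mul_yy]; congr 1; ring
  inv_mem' := by
    rintro a (⟨k, rfl⟩ | ⟨k, rfl⟩)
    · exact Or.inl ⟨-k, by rw [← zpow_neg]; congr 1; ring⟩
    · refine Or.inr ⟨-(4 * (L : ℤ) - 1) * k - 2 * L * e, ?_⟩
      rw [h.inv_y]; congr 2; ring

theorem mem_Mt (h : QD S L x y) (e : ℤ) (g : S) :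
    g ∈ h.Mt e ↔ (∃ k : ℤ, g = x ^ (2 * k)) ∨ (∃ k : ℤ, g = x ^ (2 * k + e) * y) := Iff.rfl

theorem zpow_mem_Mt (h : QD S L x y) (e i : ℤ) : x ^ i ∈ h.Mt e ↔ Even i := by
  rw [mem_Mt]
  constructor
  · rintro (⟨k, hk⟩ | ⟨k, hk⟩)
    · rw [h.even_of_zpow_eq hk]; exact even_two_mul k
    · exact absurd hk (h.ne _ _)
  · rintro ⟨k, rfl⟩
    exact Or.inl ⟨k, by congr 1; ring⟩

theorem zpow_y_mem_Mt (h : QD S L x y) (e i : ℤ) : x ^ i * y ∈ h.Mt e ↔ Even (i - e) := by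
  rw [mem_Mt]
  constructor
  · rintro (⟨k, hk⟩ | ⟨k, hk⟩)
    · exact absurd hk.symm (h.ne _ _)
    · have h1 : x ^ i = x ^ (2 * k + e) := mul_right_cancel hk
      obtain ⟨t, ht⟩ := (h.zpow_eq_iff _ _).mp h1
      exact ⟨k + 4 * L * t, by linarith⟩
  · rintro ⟨k, hk⟩
    exact Or.inr ⟨k, by congr 2; linarith⟩

theorem index_Mt (h : QD S L x y) (e : ℤ) : (h.Mt e).index = 2 := by
  rw [Subgroup.index_eq_two_iff]
  refine ⟨x, fun b => ?_⟩
  rcases h.cases b with ⟨i, rfl⟩ | ⟨i, rfl⟩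
  · have h1 : x ^ i * x = x ^ (i + 1) := by rw [zpow_add, zpow_one]
    rw [h1, zpow_mem_Mt, zpow_mem_Mt]
    rcases Int.even_or_odd i with hi | hi
    · right
      refine ⟨hi, ?_⟩
      rw [Int.not_even_iff_odd]
      exact hi.add_one
    · left
      refine ⟨hi.add_one, ?_⟩
      rw [Int.not_even_iff_odd]; exact hi
  · have h1 : x ^ i * y * x = x ^ (i + (4 * (L : ℤ) - 1)) * y := by
      have := h.mul_yx i 1
      rw [zpow_one, mul_one] at this
      exact this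
    rw [h1, zpow_y_mem_Mt, zpow_y_mem_Mt]
    have h2 : i + (4 * (L : ℤ) - 1) - e = (i - e) + (2 * (2 * L) - 1) := by ring
    rw [h2]
    have hodd : Odd (2 * (2 * (L : ℤ)) - 1) := by
      refine ⟨2 * L - 1, by ring⟩
    rcases Int.even_or_odd (i - e) with hi | hi
    · right
      refine ⟨hi, ?_⟩
      rw [Int.not_even_iff_odd]
      exact hi.add_odd hodd
    · left
      refine ⟨hi.add_odd hodd, ?_⟩
      rw [Int.not_even_iff_odd]; exact hi

theorem eq_of_le_of_index_two [Finite S] {H K : Subgroup S} (hH : H.index = 2) (hK : K.index = 2)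
    (hle : H ≤ K) : H = K := by
  apply Subgroup.eq_of_le_of_card_ge hle
  have h1 := Subgroup.card_mul_index H
  have h2 := Subgroup.card_mul_index K
  rw [hH] at h1
  rw [hK] at h2
  omega

/-- Every subgroup of index 2 is one of the three. -/
theorem index_two_cases [Finite S] (h : QD S L x y) (M : Subgroup S) (hM : M.index = 2) :
    M = zpowers x ∨ M = h.Mt 1 ∨ M = h.Mt 0 := by
  have hsq : x * x ∈ M := (Subgroup.mul_mem_iff_of_index_two hM).mpr Iff.rfl
  have hx2 : ∀ k : ℤ, x ^ (2 * k) ∈ M := by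
    intro k
    rw [zpow_mul, zpow_ofNat, pow_two]
    exact zpow_mem hsq k
  by_cases hx : x ∈ M
  · left
    symm
    exact eq_of_le_of_index_two h.index_zpowers hM (zpowers_le.mpr hx)
  · right
    by_cases hy : y ∈ M
    · right
      symm
      apply eq_of_le_of_index_two (h.index_Mt 0) hM
      rintro g (⟨k, rfl⟩ | ⟨k, rfl⟩)
      · exact hx2 k
      · rw [add_zero]; exact mul_mem (hx2 k) hy
    · left
      symm
      apply eq_of_le_of_index_two (h.index_Mt 1) hM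
      have hxy : x * y ∈ M := (Subgroup.mul_mem_iff_of_index_two hM).mpr
        ⟨fun h' => absurd h' hx, fun h' => absurd h' hy⟩
      rintro g (⟨k, rfl⟩ | ⟨k, rfl⟩)
      · exact hx2 k
      · rw [zpow_add, zpow_one, mul_assoc]; exact mul_mem (hx2 k) hxy

theorem isCoatom_of_index_two [Finite S] {M : Subgroup S} (hM : M.index = 2) : IsCoatom M := by
  constructor
  · intro h
    rw [h, Subgroup.index_top] at hM
    omega
  · intro K hK
    have h1 : K.index ∣ 2 := hM ▸ Subgroup.index_dvd_of_le hK.le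
    have h2 : K.index = 1 ∨ K.index = 2 := by
      have := Nat.le_of_dvd (by norm_num) h1
      have h0 : K.index ≠ 0 := Subgroup.index_ne_zero_of_finite
      omega
    rcases h2 with h2 | h2
    · exact Subgroup.index_eq_one.mp h2
    · exact absurd (eq_of_le_of_index_two hM h2 hK.le) hK.ne

theorem isPGroup [Finite S] (h : QD S L x y) : IsPGroup 2 S := by
  obtain ⟨m, hm⟩ := h.pow2
  apply IsPGroup.of_card (n := m + 4)
  rw [h.card, hm]; ring

theorem index_two_of_isCoatom [Finite S] (h : QD S L x y) {M : Subgroup S} (hM : IsCoatom M) :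
    M.index = 2 := by
  haveI : Fact (Nat.Prime 2) := ⟨Nat.prime_two⟩
  exact (Cfsg.Agent.Lib.Helper7_PFrattini.coatom_normal_index h.isPGroup M hM).2

theorem card_of_index_two [Finite S] (h : QD S L x y) {M : Subgroup S} (hM : M.index = 2) :
    Nat.card M = 8 * L := by
  have h1 := Subgroup.card_mul_index M
  rw [hM, h.card] at h1
  omega

theorem orderOf_sq (h : QD S L x y) : orderOf (x ^ 2) = 4 * L := by
  rw [orderOf_pow_of_dvd (by norm_num) (by rw [h.ox]; exact ⟨4 * L, by ring⟩), h.ox]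
  omega

theorem conj_sq (h : QD S L x y) : y * x ^ 2 * y⁻¹ = (x ^ 2)⁻¹ := by
  have h1 := h.conj 2
  rw [zpow_ofNat] at h1
  rw [h1, ← zpow_ofNat, ← zpow_neg]
  exact h.zpow_eq 1 (by ring)

/-- `⟨x², y⟩` is dihedral. -/
theorem Mt_zero_equiv [Finite S] (h : QD S L x y) :
    Nonempty (h.Mt 0 ≃* DihedralGroup (4 * L)) := by
  have hL := h.Lpos
  haveI : NeZero (4 * L) := ⟨by omega⟩
  have hx2 : x ^ 2 ∈ h.Mt 0 := Or.inl ⟨1, by norm_num⟩
  have hy : y ∈ h.Mt 0 := Or.inr ⟨0, by simp⟩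
  apply Cfsg.Agent.Lib.Helper6_DihedralLift.dihedral_equiv (4 * L)
    (by rw [h.card_of_index_two (h.index_Mt 0)]; ring) ⟨x ^ 2, hx2⟩ ⟨y, hy⟩
  · rw [Subgroup.orderOf_mk, h.orderOf_sq]
  · rintro ⟨i, hi⟩
    apply h.y_notin
    have h1 := congrArg Subtype.val hi
    simp only [Subgroup.coe_zpow] at h1
    rw [← h1]
    exact zpow_mem (pow_mem (mem_zpowers x) 2) i
  · apply Subtype.ext
    exact h.yy
  · apply Subtype.ext
    simp only [Subgroup.coe_mul, Subgroup.coe_inv]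
    exact h.conj_sq

/-- `⟨x², x y⟩` is generalized quaternion. -/
theorem Mt_one_equiv [Finite S] (h : QD S L x y) :
    Nonempty (h.Mt 1 ≃* QuaternionGroup (2 * L)) := by
  have hL := h.Lpos
  haveI : NeZero (2 * L) := ⟨by omega⟩
  have hx2 : x ^ 2 ∈ h.Mt 1 := Or.inl ⟨1, by norm_num⟩
  have hxy : x * y ∈ h.Mt 1 := Or.inr ⟨0, by simp⟩
  have hcard : Nat.card (h.Mt 1) = 4 * (2 * L) := by
    rw [h.card_of_index_two (h.index_Mt 1)]; ring
  have hord : orderOf (⟨x ^ 2, hx2⟩ : h.Mt 1) = 2 * (2 * L) := by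
    rw [Subgroup.orderOf_mk, h.orderOf_sq]; ring
  apply Cfsg.Agent.Lib.Helper5_MaxClassTwo.quaternion_equiv (2 * L) hcard
    ⟨x ^ 2, hx2⟩ ⟨x * y, hxy⟩ hord
  · rintro ⟨i, hi⟩
    have h1 := congrArg Subtype.val hi
    simp only [Subgroup.coe_zpow] at h1
    have h2 : x * y ∈ zpowers x := by
      rw [← h1]
      exact zpow_mem (pow_mem (mem_zpowers x) 2) i
    apply h.y_notin
    have : y = x⁻¹ * (x * y) := by group
    rw [this]
    exact mul_mem (inv_mem (mem_zpowers x)) h2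
  · have h1 := Subgroup.card_mul_index (zpowers (⟨x ^ 2, hx2⟩ : h.Mt 1))
    rw [Nat.card_zpowers, hord, hcard] at h1
    nlinarith
  · apply Subtype.ext
    simp only [Subgroup.coe_mul, Subgroup.coe_pow]
    have h1 := h.sq_y 1
    rw [zpow_one] at h1
    rw [h1, ← pow_mul, ← zpow_natCast]
    congr 1
    push_cast; ring
  · apply Subtype.ext
    simp only [Subgroup.coe_mul, Subgroup.coe_inv]
    calc x * y * x ^ 2 * (x * y)⁻¹ = x * (y * x ^ 2 * y⁻¹) * x⁻¹ := by group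
      _ = x * (x ^ 2)⁻¹ * x⁻¹ := by rw [h.conj_sq]
      _ = (x ^ 2)⁻¹ := by group

/-! ### Centralizing and the centre -/

/-- `x ^ i` commutes with `y` only if `4 L ∣ i`. -/
theorem dvd_of_comm_y (h : QD S L x y) (i : ℤ) (hc : y * x ^ i = x ^ i * y) :
    (4 * (L : ℤ)) ∣ i := by
  rw [h.y_mul, mul_left_inj, h.zpow_eq_iff] at hc
  obtain ⟨t, ht⟩ := hc
  refine ⟨L * i - (2 * L + 1) * t, ?_⟩
  have : 2 * i = 2 * (4 * (L : ℤ) * (L * i - (2 * L + 1) * t)) := by
    linear_combination (-(2 * (L : ℤ) + 1)) * ht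
  linarith

theorem zpow_of_dvd (h : QD S L x y) (i : ℤ) (hd : (4 * (L : ℤ)) ∣ i) :
    x ^ i = 1 ∨ x ^ i = x ^ (4 * (L : ℤ)) := by
  obtain ⟨t, rfl⟩ := hd
  rcases Int.even_or_odd' t with ⟨d, hd | hd⟩
  · left
    rw [hd]
    have : x ^ (4 * (L : ℤ) * (2 * d)) = x ^ (0 : ℤ) := h.zpow_eq d (by ring)
    rw [this, zpow_zero]
  · right
    rw [hd]
    exact h.zpow_eq d (by ring)

theorem z_comm_y (h : QD S L x y) : y * x ^ (4 * (L : ℤ)) = x ^ (4 * (L : ℤ)) * y := by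
  rw [h.y_mul, mul_left_inj]
  exact h.zpow_eq (2 * L - 1) (by ring)

theorem z_central (h : QD S L x y) (g : S) : g * x ^ (4 * (L : ℤ)) = x ^ (4 * (L : ℤ)) * g := by
  rcases h.cases g with ⟨i, rfl⟩ | ⟨i, rfl⟩
  · rw [← zpow_add, ← zpow_add, add_comm]
  · rw [mul_assoc, h.z_comm_y, ← mul_assoc, ← mul_assoc, ← zpow_add, ← zpow_add, add_comm]

theorem z_sq (h : QD S L x y) : x ^ (4 * (L : ℤ)) * x ^ (4 * (L : ℤ)) = 1 := by
  rw [← zpow_add, ← zpow_zero x]
  exact h.zpow_eq 1 (by ring)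

theorem z_ne_one (h : QD S L x y) : x ^ (4 * (L : ℤ)) ≠ 1 := by
  intro he
  obtain ⟨t, ht⟩ := (h.zpow_eq_one_iff _).mp he
  have hL := h.Lpos
  have hL' : (0 : ℤ) < L := by exact_mod_cast hL
  have h1 : (1 : ℤ) = 2 * t := by
    have : 4 * (L : ℤ) * 1 = 4 * (L : ℤ) * (2 * t) := by linarith
    exact mul_left_cancel₀ (by positivity) this
  omega

theorem not_comm_x (h : QD S L x y) (i : ℤ) : x * (x ^ i * y) ≠ (x ^ i * y) * x := by
  intro he
  have h1 := h.mul_yx i 1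
  rw [zpow_one] at h1
  rw [h1, ← mul_assoc, ← zpow_one_add, mul_left_inj, h.zpow_eq_iff] at he
  obtain ⟨t, ht⟩ := he
  have hL := h.Lpos
  have hL' : (0 : ℤ) < L := by exact_mod_cast hL
  have h2 : 2 - 4 * (L : ℤ) = 8 * L * t := by linarith
  have h3 : t < 0 := by
    by_contra hle
    push_neg at hle
    nlinarith
  nlinarith

theorem mem_center_iff (h : QD S L x y) (g : S) :
    g ∈ Subgroup.center S ↔ g = 1 ∨ g = x ^ (4 * (L : ℤ)) := by
  constructor
  · intro hg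
    rw [Subgroup.mem_center_iff] at hg
    rcases h.cases g with ⟨i, rfl⟩ | ⟨i, rfl⟩
    · exact h.zpow_of_dvd i (h.dvd_of_comm_y i (hg y))
    · exact absurd (hg x) (h.not_comm_x i)
  · rintro (rfl | rfl)
    · exact one_mem _
    · rw [Subgroup.mem_center_iff]
      exact h.z_central

/-! ### Involutions -/

theorem sq_eq_one_y_iff (h : QD S L x y) (i : ℤ) :
    (x ^ i * y) * (x ^ i * y) = 1 ↔ Even i := by
  rw [h.sq_y, h.zpow_eq_one_iff]
  have hL := h.Lpos
  have hL' : (0 : ℤ) < L := by exact_mod_cast hL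
  constructor
  · rintro ⟨t, ht⟩
    refine ⟨t, ?_⟩
    have : 4 * (L : ℤ) * i = 4 * (L : ℤ) * (2 * t) := by linarith
    have := mul_left_cancel₀ (by positivity) this
    linarith
  · rintro ⟨t, rfl⟩
    exact ⟨t, by ring⟩

theorem sq_eq_one_zpow (h : QD S L x y) (i : ℤ) (hi : x ^ i * x ^ i = 1) :
    x ^ i = 1 ∨ x ^ i = x ^ (4 * (L : ℤ)) := by
  apply h.zpow_of_dvd
  rw [← zpow_add, h.zpow_eq_one_iff] at hi
  obtain ⟨t, ht⟩ := hi
  exact ⟨t, by linarith⟩

theorem orderOf_y_even (h : QD S L x y) (k : ℤ) : orderOf (x ^ (2 * k) * y) = 2 := by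
  haveI : Fact (Nat.Prime 2) := ⟨Nat.prime_two⟩
  apply orderOf_eq_prime
  · rw [pow_two, h.sq_eq_one_y_iff]; exact even_two_mul k
  · intro he
    exact h.ne 0 (2 * k) (by rw [zpow_zero, he])

theorem invol_mem_Mt_zero (h : QD S L x y) (g : S) (hg : orderOf g = 2) : g ∈ h.Mt 0 := by
  have hg2 : g * g = 1 := by rw [← pow_two, ← hg]; exact pow_orderOf_eq_one g
  rcases h.cases g with ⟨i, rfl⟩ | ⟨i, rfl⟩
  · rcases h.sq_eq_one_zpow i hg2 with he | he
    · rw [he]; exact one_mem _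
    · rw [he, h.zpow_mem_Mt]; exact ⟨2 * L, by ring⟩
  · rw [h.zpow_y_mem_Mt, sub_zero]
    exact (h.sq_eq_one_y_iff i).mp hg2

theorem closure_invol (h : QD S L x y) :
    Subgroup.closure {g : S | orderOf g = 2} = h.Mt 0 := by
  apply le_antisymm
  · rw [Subgroup.closure_le]
    intro g hg
    exact h.invol_mem_Mt_zero g hg
  · rintro g (⟨k, rfl⟩ | ⟨k, rfl⟩)
    · have h1 : x ^ (2 * k) = (x ^ (2 * k) * y) * (x ^ (2 * (0 : ℤ)) * y) := by
        rw [h.mul_yy]; congr 1; ring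
      rw [h1]
      exact mul_mem (Subgroup.subset_closure (h.orderOf_y_even k))
        (Subgroup.subset_closure (h.orderOf_y_even 0))
    · rw [add_zero]
      exact Subgroup.subset_closure (h.orderOf_y_even k)

/-! ### Frattini and commutator subgroups -/

theorem mem_zpowers_sq (h : QD S L x y) (g : S) :
    g ∈ zpowers (x ^ 2) ↔ ∃ k : ℤ, g = x ^ (2 * k) := by
  constructor
  · rintro ⟨k, rfl⟩
    refine ⟨k, ?_⟩
    simp only
    rw [← zpow_ofNat, ← zpow_mul]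
  · rintro ⟨k, rfl⟩
    refine ⟨k, ?_⟩
    simp only
    rw [← zpow_ofNat, ← zpow_mul]

theorem frattini_eq [Finite S] (h : QD S L x y) : frattini S = zpowers (x ^ 2) := by
  ext g
  rw [h.mem_zpowers_sq]
  unfold frattini Order.radical
  simp only [Subgroup.mem_iInf]
  constructor
  · intro hg
    have h1 := hg (zpowers x) (isCoatom_of_index_two h.index_zpowers)
    obtain ⟨i, rfl⟩ := h1
    simp only at hg ⊢
    have h2 := hg (h.Mt 0) (isCoatom_of_index_two (h.index_Mt 0))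
    rw [h.zpow_mem_Mt] at h2
    obtain ⟨k, hk⟩ := h2
    exact ⟨k, by rw [hk]; congr 1; ring⟩
  · rintro ⟨k, rfl⟩ M hM
    rcases h.index_two_cases M (h.index_two_of_isCoatom hM) with rfl | rfl | rfl
    · exact zpow_mem (mem_zpowers x) _
    · rw [h.zpow_mem_Mt]; exact even_two_mul k
    · rw [h.zpow_mem_Mt]; exact even_two_mul k

theorem commutator_eq [Finite S] (h : QD S L x y) : commutator S = zpowers (x ^ 2) := by
  haveI : Fact (Nat.Prime 2) := ⟨Nat.prime_two⟩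
  apply le_antisymm
  · rw [← h.frattini_eq, _root_.commutator_def, Subgroup.commutator_le]
    intro a _ b _
    rw [commutatorElement_def]
    exact Cfsg.Agent.Lib.Helper7_PFrattini.comm_mem_frattini h.isPGroup a b
  · rw [zpowers_le]
    have h1 : ⁅y, x⁆ ∈ commutator S := by
      rw [_root_.commutator_def]
      exact Subgroup.commutator_mem_commutator (Subgroup.mem_top _) (Subgroup.mem_top _)
    have h2 : ⁅y, x⁆ = x ^ (4 * (L : ℤ) - 2) := by
      rw [commutatorElement_def, h.rel, ← zpow_neg_one, ← zpow_add]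
      congr 1
      ring
    have h3 : x ^ 2 = (x ^ (4 * (L : ℤ) - 2)) ^ (-(2 * (L : ℤ) + 1)) := by
      rw [← zpow_mul, ← zpow_ofNat]
      exact h.zpow_eq L (by push_cast; ring)
    rw [h3, ← h2]
    exact zpow_mem h1 _

/-! ### Conjugacy -/

theorem conj_x (h : QD S L x y) (j i : ℤ) :
    x ^ j * (x ^ i * y) * (x ^ j)⁻¹ = x ^ (i + (2 - 4 * (L : ℤ)) * j) * y := by
  rw [← zpow_neg, mul_xy, h.mul_yx]
  congr 2; ring

theorem conj_y' (h : QD S L x y) (i : ℤ) :
    y * (x ^ i * y) * y⁻¹ = x ^ ((4 * (L : ℤ) - 1) * i) * y := by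
  rw [← mul_assoc, h.y_mul, mul_assoc, mul_assoc, mul_inv_cancel, mul_one]

theorem exists_conj_even (h : QD S L x y) (i k : ℤ) :
    ∃ s : S, s * (x ^ i * y) * s⁻¹ = x ^ (i + 2 * k) * y := by
  refine ⟨x ^ ((1 + 2 * (L : ℤ)) * k), ?_⟩
  rw [h.conj_x, mul_left_inj]
  apply h.zpow_eq (-(L * k))
  ring

theorem invol_cases (h : QD S L x y) (g : S) (hg : orderOf g = 2) :
    g = x ^ (4 * (L : ℤ)) ∨ ∃ k : ℤ, g = x ^ (2 * k) * y := by
  have hg2 : g * g = 1 := by rw [← pow_two, ← hg]; exact pow_orderOf_eq_one g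
  have hg1 : g ≠ 1 := by
    intro he
    rw [he, orderOf_one] at hg
    omega
  rcases h.cases g with ⟨i, rfl⟩ | ⟨i, rfl⟩
  · rcases h.sq_eq_one_zpow i hg2 with he | he
    · exact absurd he hg1
    · left; exact he
  · right
    obtain ⟨k, hk⟩ := (h.sq_eq_one_y_iff i).mp hg2
    exact ⟨k, by rw [hk]; congr 2; ring⟩

theorem orderOf_z (h : QD S L x y) : orderOf (x ^ (4 * (L : ℤ))) = 2 := by
  haveI : Fact (Nat.Prime 2) := ⟨Nat.prime_two⟩
  apply orderOf_eq_prime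
  · rw [pow_two]; exact h.z_sq
  · exact h.z_ne_one

theorem orderOf_y (h : QD S L x y) : orderOf y = 2 := by
  have := h.orderOf_y_even 0
  rwa [mul_zero, zpow_zero, one_mul] at this

theorem orderOf_y_odd (h : QD S L x y) (k : ℤ) : orderOf (x ^ (2 * k + 1) * y) = 4 := by
  haveI : Fact (Nat.Prime 2) := ⟨Nat.prime_two⟩
  have h1 : (x ^ (2 * k + 1) * y) ^ 2 = x ^ (4 * (L : ℤ)) := by
    rw [pow_two, h.sq_y]
    apply h.zpow_eq k
    ring
  have := orderOf_eq_prime_pow (x := x ^ (2 * k + 1) * y) (p := 2) (n := 1)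
    (by rw [pow_one, h1]; exact h.z_ne_one)
    (by rw [show 2 ^ (1 + 1) = 2 * 2 by norm_num, pow_mul, h1, pow_two]; exact h.z_sq)
  simpa using this

theorem orderOf_w (h : QD S L x y) : orderOf (x ^ (2 * (L : ℤ))) = 4 := by
  have h1 : x ^ (2 * (L : ℤ)) = x ^ (2 * L) := by
    rw [← zpow_natCast]; push_cast; rfl
  rw [h1, orderOf_pow_of_dvd (by have := h.Lpos; omega) (by rw [h.ox]; exact ⟨4, by ring⟩), h.ox]
  have := h.Lpos
  rw [show 8 * L = 4 * (2 * L) by ring]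
  exact Nat.mul_div_cancel _ (by omega)

theorem conj_w (h : QD S L x y) : y * x ^ (2 * (L : ℤ)) * y⁻¹ = (x ^ (2 * (L : ℤ)))⁻¹ := by
  rw [h.conj, ← zpow_neg]
  apply h.zpow_eq L
  ring

theorem order4_cases (h : QD S L x y) (g : S) (hg : orderOf g = 4) :
    g = x ^ (2 * (L : ℤ)) ∨ g = (x ^ (2 * (L : ℤ)))⁻¹ ∨ ∃ k : ℤ, g = x ^ (2 * k + 1) * y := by
  have hg4 : g ^ 4 = 1 := by rw [← hg]; exact pow_orderOf_eq_one g
  have hg2 : g * g ≠ 1 := by
    intro he
    have := orderOf_dvd_of_pow_eq_one (show g ^ 2 = 1 by rw [pow_two]; exact he)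
    rw [hg] at this
    omega
  have hL := h.Lpos
  have hL' : (0 : ℤ) < L := by exact_mod_cast hL
  rcases h.cases g with ⟨i, rfl⟩ | ⟨i, rfl⟩
  · rw [← zpow_natCast, ← zpow_mul, h.zpow_eq_one_iff] at hg4
    obtain ⟨t, ht⟩ := hg4
    push_cast at ht
    have hi : i = 2 * L * t := by
      have : 4 * i = 4 * (2 * L * t) := by linarith
      linarith
    rcases Int.emod_emod_of_dvd t (by norm_num : (2 : ℤ) ∣ 4) with _
    have h4 : t % 4 = 0 ∨ t % 4 = 1 ∨ t % 4 = 2 ∨ t % 4 = 3 := by omega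
    have hdiv := Int.emod_add_mul_ediv t 4
    rcases h4 with h4 | h4 | h4 | h4
    · exfalso
      apply hg2
      rw [← zpow_add, h.zpow_eq_one_iff]
      exact ⟨t / 4 * 2, by rw [hi]; linear_combination (4 * (L : ℤ)) * hdiv.symm + 4 * L * h4⟩
    · left
      apply h.zpow_eq (t / 4)
      rw [hi]; linear_combination (2 * (L : ℤ)) * hdiv.symm + 2 * L * h4
    · exfalso
      apply hg2
      rw [← zpow_add, h.zpow_eq_one_iff]
      exact ⟨1 + t / 4 * 2, by rw [hi]; linear_combination (4 * (L : ℤ)) * hdiv.symm + 4 * L * h4⟩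
    · right; left
      rw [← zpow_neg]
      apply h.zpow_eq (t / 4 + 1)
      rw [hi]; linear_combination (2 * (L : ℤ)) * hdiv.symm + 2 * L * h4
  · right; right
    have hodd : Odd i := by
      rw [← Int.not_even_iff_odd]
      intro he
      exact hg2 ((h.sq_eq_one_y_iff i).mpr he)
    obtain ⟨k, hk⟩ := hodd
    exact ⟨k, by rw [hk]⟩

theorem conj_mem_zpowers (h : QD S L x y) (s : S) (i : ℤ) : s * x ^ i * s⁻¹ ∈ zpowers x := by
  rcases h.cases s with ⟨j, rfl⟩ | ⟨j, rfl⟩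
  · rw [← zpow_neg, ← zpow_add, ← zpow_add]
    exact zpow_mem (mem_zpowers x) _
  · have : x ^ j * y * x ^ i * (x ^ j * y)⁻¹ = x ^ j * (y * x ^ i * y⁻¹) * (x ^ j)⁻¹ := by group
    rw [this, h.conj, ← zpow_neg, ← zpow_add, ← zpow_add]
    exact zpow_mem (mem_zpowers x) _

theorem xy_notin (h : QD S L x y) (i : ℤ) : x ^ i * y ∉ zpowers x := by
  rintro ⟨j, hj⟩
  exact h.ne j i hj

/-! ### Four-subgroups -/

/-- Changing the generator `y` to another involution outside `⟨x⟩`. -/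
theorem rebase (h : QD S L x y) (k : ℤ) : QD S L x (x ^ (2 * k) * y) where
  pow2 := h.pow2
  card := h.card
  ox := h.ox
  yy := (h.sq_eq_one_y_iff _).mpr (even_two_mul k)
  rel := by
    have : x ^ (2 * k) * y * x * (x ^ (2 * k) * y)⁻¹ =
        x ^ (2 * k) * (y * x * y⁻¹) * (x ^ (2 * k))⁻¹ := by group
    rw [this, h.rel, ← zpow_neg, ← zpow_add, ← zpow_add]
    congr 1; ring

open Cfsg.Agent.Lib.Helper5_KleinSub in
/-- The four-group `⟨z, y⟩`. -/
def four (h : QD S L x y) : Subgroup S :=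
  kleinSub (x ^ (4 * (L : ℤ))) y h.z_sq h.yy (h.z_central y).symm

open Cfsg.Agent.Lib.Helper5_KleinSub in
theorem mem_four (h : QD S L x y) (g : S) :
    g ∈ h.four ↔ g = 1 ∨ g = x ^ (4 * (L : ℤ)) ∨ g = y ∨ g = x ^ (4 * (L : ℤ)) * y :=
  mem_kleinSub

theorem y_ne_one (h : QD S L x y) : y ≠ 1 := fun he => h.y_notin (he ▸ one_mem _)

theorem z_ne_y (h : QD S L x y) : x ^ (4 * (L : ℤ)) ≠ y := fun he =>
  h.y_notin (he ▸ zpow_mem (mem_zpowers x) _)

open Cfsg.Agent.Lib.Helper5_KleinSub in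
theorem card_four (h : QD S L x y) : Nat.card h.four = 4 :=
  card_kleinSub _ _ _ _ _ h.z_ne_one h.y_ne_one h.z_ne_y

theorem zpow_mem_four (h : QD S L x y) (i : ℤ) : x ^ i ∈ h.four ↔ (4 * (L : ℤ)) ∣ i := by
  rw [h.mem_four]
  constructor
  · rintro (he | he | he | he)
    · obtain ⟨t, ht⟩ := (h.zpow_eq_one_iff i).mp he
      exact ⟨2 * t, by rw [ht]; ring⟩
    · obtain ⟨t, ht⟩ := (h.zpow_eq_iff _ _).mp he
      exact ⟨2 * t + 1, by linarith⟩
    · exact absurd (he ▸ zpow_mem (mem_zpowers x) i) h.y_notin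
    · exact absurd he (h.ne _ _)
  · intro hd
    rcases h.zpow_of_dvd i hd with he | he
    · left; exact he
    · right; left; exact he

theorem zpow_y_mem_four (h : QD S L x y) (i : ℤ) : x ^ i * y ∈ h.four ↔ (4 * (L : ℤ)) ∣ i := by
  have hy : y ∈ h.four := (h.mem_four y).mpr (Or.inr (Or.inr (Or.inl rfl)))
  rw [← h.zpow_mem_four]
  constructor
  · intro hm
    have : x ^ i = (x ^ i * y) * y⁻¹ := by group
    rw [this]; exact mul_mem hm (inv_mem hy)
  · intro hm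
    exact mul_mem hm hy

/-- The centralizer of the four-group `⟨z, y⟩` is itself. -/
theorem centralizer_four (h : QD S L x y) : centralizer (h.four : Set S) = h.four := by
  have hy : y ∈ h.four := (h.mem_four y).mpr (Or.inr (Or.inr (Or.inl rfl)))
  apply le_antisymm
  · intro g hg
    have hgy : y * g = g * y := (mem_centralizer_iff.mp hg) y hy
    rcases h.cases g with ⟨i, rfl⟩ | ⟨i, rfl⟩
    · rw [h.zpow_mem_four]
      exact h.dvd_of_comm_y i hgy
    · rw [h.zpow_y_mem_four]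
      apply h.dvd_of_comm_y i
      have h1 : y * x ^ i * y = x ^ i * y * y := by rw [← hgy]; group
      exact mul_right_cancel h1
  · intro g hg
    rw [mem_centralizer_iff]
    intro t ht
    exact Cfsg.Agent.Lib.Helper5_KleinSub.kleinSub_comm ht hg

theorem zpow_mem_normalizer_four [Finite S] (h : QD S L x y) (j : ℤ) :
    x ^ j ∈ normalizer (h.four : Set S) ↔ (2 * (L : ℤ)) ∣ j := by
  have hy : y ∈ h.four := (h.mem_four y).mpr (Or.inr (Or.inr (Or.inl rfl)))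
  constructor
  · intro hm
    have h1 := (mem_normalizer_iff.mp hm y).mp hy
    have h2 := h.conj_x j 0
    rw [zpow_zero, one_mul, zero_add] at h2
    rw [h2, h.zpow_y_mem_four] at h1
    obtain ⟨u, hu⟩ := h1
    exact ⟨u + j, by linarith⟩
  · rintro ⟨e, rfl⟩
    apply Subgroup.mem_normalizer_fintype
    intro g hg
    have hconj : x ^ (2 * (L : ℤ) * e) * y * (x ^ (2 * (L : ℤ) * e))⁻¹ ∈ h.four := by
      have h2 := h.conj_x (2 * (L : ℤ) * e) 0
      rw [zpow_zero, one_mul, zero_add] at h2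
      rw [h2, h.zpow_y_mem_four]
      exact ⟨(1 - 2 * L) * e, by ring⟩
    have hz : x ^ (2 * (L : ℤ) * e) * x ^ (4 * (L : ℤ)) * (x ^ (2 * (L : ℤ) * e))⁻¹ =
        x ^ (4 * (L : ℤ)) := by
      rw [h.z_central]; group
    rcases (h.mem_four g).mp hg with rfl | rfl | rfl | rfl
    · simp
    · rw [hz]; exact (h.mem_four _).mpr (Or.inr (Or.inl rfl))
    · exact hconj
    · have : x ^ (2 * (L : ℤ) * e) * (x ^ (4 * (L : ℤ)) * y) * (x ^ (2 * (L : ℤ) * e))⁻¹ =
          (x ^ (2 * (L : ℤ) * e) * x ^ (4 * (L : ℤ)) * (x ^ (2 * (L : ℤ) * e))⁻¹) *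
          (x ^ (2 * (L : ℤ) * e) * y * (x ^ (2 * (L : ℤ) * e))⁻¹) := by group
      rw [this, hz]
      exact mul_mem ((h.mem_four _).mpr (Or.inr (Or.inl rfl))) hconj

/-- `|N_S(T) : T| = 2` for the four-group `T = ⟨z, y⟩`. -/
theorem relIndex_normalizer_four [Finite S] (h : QD S L x y) :
    h.four.relIndex (normalizer (h.four : Set S)) = 2 := by
  have hy : y ∈ h.four := (h.mem_four y).mpr (Or.inr (Or.inr (Or.inl rfl)))
  have hle : h.four ≤ normalizer (h.four : Set S) := Subgroup.le_normalizer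
  have hw : x ^ (2 * (L : ℤ)) ∈ normalizer (h.four : Set S) :=
    (h.zpow_mem_normalizer_four _).mpr (dvd_refl _)
  show (h.four.subgroupOf (normalizer (h.four : Set S))).index = 2
  rw [Subgroup.index_eq_two_iff]
  refine ⟨⟨x ^ (2 * (L : ℤ)), hw⟩, ?_⟩
  rintro ⟨b, hb⟩
  simp only [Subgroup.mem_subgroupOf, Subgroup.coe_mul]
  have hL := h.Lpos
  have hL' : (0 : ℤ) < L := by exact_mod_cast hL
  have key : ∀ e : ℤ, (4 * (L : ℤ)) ∣ 2 * L * e ↔ Even e := by
    intro e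
    constructor
    · rintro ⟨u, hu⟩
      refine ⟨u, ?_⟩
      have : 2 * (L : ℤ) * e = 2 * L * (2 * u) := by linarith
      have := mul_left_cancel₀ (by positivity) this
      linarith
    · rintro ⟨u, rfl⟩
      exact ⟨u, by ring⟩
  rcases h.cases b with ⟨j, rfl⟩ | ⟨j, rfl⟩
  · obtain ⟨e, rfl⟩ := (h.zpow_mem_normalizer_four j).mp hb
    rw [← zpow_add, h.zpow_mem_four, h.zpow_mem_four]
    have h1 : 2 * (L : ℤ) * e + 2 * L = 2 * L * (e + 1) := by ring
    rw [h1, key, key]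
    rcases Int.even_or_odd e with he | he
    · right
      exact ⟨he, by rw [Int.not_even_iff_odd]; exact he.add_one⟩
    · left
      exact ⟨he.add_one, by rw [Int.not_even_iff_odd]; exact he⟩
  · have hxj : x ^ j ∈ normalizer (h.four : Set S) := by
      have : x ^ j = (x ^ j * y) * y⁻¹ := by group
      rw [this]
      exact mul_mem hb (inv_mem (hle hy))
    obtain ⟨e, rfl⟩ := (h.zpow_mem_normalizer_four j).mp hxj
    rw [h.mul_yx, h.zpow_y_mem_four, h.zpow_y_mem_four]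
    have h1 : 2 * (L : ℤ) * e + (4 * L - 1) * (2 * L) = 2 * L * (e + (2 * (2 * L) - 1)) := by ring
    rw [h1, key, key]
    have hodd : Odd (2 * (2 * (L : ℤ)) - 1) := ⟨2 * L - 1, by ring⟩
    rcases Int.even_or_odd e with he | he
    · right
      exact ⟨he, by rw [Int.not_even_iff_odd]; exact he.add_odd hodd⟩
    · left
      exact ⟨he.add_odd hodd, by rw [Int.not_even_iff_odd]; exact he⟩

/-- Every Klein four-subgroup is `⟨z, x^(2k) y⟩` for some `k`. -/
theorem exists_four [Finite S] (h : QD S L x y) (T : Subgroup S) (hT : IsKleinFour T) :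
    ∃ k : ℤ, T = (h.rebase k).four := by
  have hsq : ∀ g ∈ T, g * g = 1 := fun g hg => by
    have := IsKleinFour.mul_self (⟨g, hg⟩ : T)
    exact congrArg Subtype.val this
  have hT4 : Nat.card T = 4 := IsKleinFour.card_four
  have hcard2 : ∀ t : S, t * t = 1 → ¬ T ≤ zpowers t := by
    intro t ht hle
    have h1 := Subgroup.card_le_of_le hle
    rw [hT4, Nat.card_zpowers] at h1
    have h2 : orderOf t ∣ 2 := orderOf_dvd_of_pow_eq_one (by rw [pow_two]; exact ht)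
    have := Nat.le_of_dvd (by norm_num) h2
    omega
  have hzx : ∀ i : ℤ, x ^ i * x ^ i = 1 → x ^ i ∈ zpowers (x ^ (4 * (L : ℤ))) := by
    intro i hi
    rcases h.sq_eq_one_zpow i hi with he | he
    · rw [he]; exact one_mem _
    · rw [he]; exact mem_zpowers _
  -- an element outside `⟨x⟩`
  obtain ⟨t, htT, htx⟩ : ∃ t ∈ T, t ∉ zpowers x := by
    by_contra hno
    push_neg at hno
    apply hcard2 (x ^ (4 * (L : ℤ))) h.z_sq
    intro g hg
    obtain ⟨i, rfl⟩ := hno g hg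
    exact hzx i (hsq _ hg)
  rcases h.cases t with ⟨i, rfl⟩ | ⟨i, rfl⟩
  · exact absurd (zpow_mem (mem_zpowers x) i) htx
  obtain ⟨k, hk⟩ := (h.sq_eq_one_y_iff i).mp (hsq _ htT)
  have hi : i = 2 * k := by rw [hk]; ring
  subst hi
  refine ⟨k, ?_⟩
  -- `z ∈ T`
  have hzT : x ^ (4 * (L : ℤ)) ∈ T := by
    obtain ⟨t', ht'T, ht'⟩ : ∃ t' ∈ T, t' ∉ zpowers (x ^ (2 * k) * y) := by
      by_contra hno
      push_neg at hno
      exact hcard2 _ (hsq _ htT) hno
    have ht'1 : t' ≠ 1 := fun he => ht' (he ▸ one_mem _)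
    have ht't : t' ≠ x ^ (2 * k) * y := fun he => ht' (he ▸ mem_zpowers _)
    rcases h.cases t' with ⟨j, rfl⟩ | ⟨j, rfl⟩
    · rcases h.sq_eq_one_zpow j (hsq _ ht'T) with he | he
      · exact absurd he ht'1
      · rw [← he]; exact ht'T
    · have hprod : (x ^ (2 * k) * y) * (x ^ j * y) ∈ T := mul_mem htT ht'T
      rw [h.mul_yy] at hprod
      rcases h.sq_eq_one_zpow _ (hsq _ hprod) with he | he
      · exfalso
        apply ht't
        have h1 : (x ^ (2 * k) * y) * (x ^ j * y) = 1 := by rw [h.mul_yy]; exact he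
        have h2 : (x ^ (2 * k) * y) * (x ^ (2 * k) * y) = 1 := hsq _ htT
        exact mul_left_cancel (h1.trans h2.symm)
      · rw [← he]; exact hprod
  symm
  apply Subgroup.eq_of_le_of_card_ge
  · intro g hg
    rcases ((h.rebase k).mem_four g).mp hg with rfl | rfl | rfl | rfl
    · exact one_mem _
    · exact hzT
    · exact htT
    · exact mul_mem hzT htT
  · rw [hT4, (h.rebase k).card_four]

/-! ### Quaternion subgroups of order 8 -/

theorem comm_y_mem_four (h : QD S L x y) (g : S) (hgy : y * g = g * y) : g ∈ h.four := by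
  rcases h.cases g with ⟨i, rfl⟩ | ⟨i, rfl⟩
  · rw [h.zpow_mem_four]
    exact h.dvd_of_comm_y i hgy
  · rw [h.zpow_y_mem_four]
    apply h.dvd_of_comm_y i
    have h1 : y * x ^ i * y = x ^ i * y * y := by rw [← hgy]; group
    exact mul_right_cancel h1

/-- The quaternion subgroup `⟨x^(2L), x y⟩` of order 8. -/
def quat (h : QD S L x y) : Subgroup S where
  carrier := {g | (∃ a : ℤ, g = x ^ (2 * (L : ℤ) * a)) ∨ (∃ a : ℤ, g = x ^ (2 * (L : ℤ) * a + 1) * y)}
  one_mem' := Or.inl ⟨0, by simp⟩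
  mul_mem' := by
    rintro a b (⟨k, rfl⟩ | ⟨k, rfl⟩) (⟨l, rfl⟩ | ⟨l, rfl⟩)
    · exact Or.inl ⟨k + l, by rw [← zpow_add]; congr 1; ring⟩
    · exact Or.inr ⟨k + l, by rw [mul_xy]; congr 2; ring⟩
    · refine Or.inr ⟨k + (4 * (L : ℤ) - 1) * l, ?_⟩
      rw [h.mul_yx]; congr 2; ring
    · refine Or.inl ⟨k + (4 * (L : ℤ) - 1) * l + 2, ?_⟩
      rw [h.mul_yy]; congr 1; ring
  inv_mem' := by
    rintro a (⟨k, rfl⟩ | ⟨k, rfl⟩)
    · exact Or.inl ⟨-k, by rw [← zpow_neg]; congr 1; ring⟩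
    · refine Or.inr ⟨-(4 * (L : ℤ) - 1) * k - 2, ?_⟩
      rw [h.inv_y]; congr 2; ring

theorem two_L_dvd_of_zpow_eq (h : QD S L x y) {a b : ℤ} (hab : x ^ a = x ^ b) :
    (2 * (L : ℤ)) ∣ a - b := by
  obtain ⟨t, ht⟩ := (h.zpow_eq_iff a b).mp hab
  exact ⟨4 * t, by rw [ht]; ring⟩

theorem zpow_mem_quat (h : QD S L x y) (j : ℤ) : x ^ j ∈ h.quat ↔ (2 * (L : ℤ)) ∣ j := by
  constructor
  · rintro (⟨a, ha⟩ | ⟨a, ha⟩)
    · obtain ⟨t, ht⟩ := h.two_L_dvd_of_zpow_eq ha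
      exact ⟨t + a, by linarith⟩
    · exact absurd ha (h.ne _ _)
  · rintro ⟨a, rfl⟩
    exact Or.inl ⟨a, rfl⟩

theorem zpow_y_mem_quat (h : QD S L x y) (j : ℤ) :
    x ^ j * y ∈ h.quat ↔ (2 * (L : ℤ)) ∣ j - 1 := by
  constructor
  · rintro (⟨a, ha⟩ | ⟨a, ha⟩)
    · exact absurd ha.symm (h.ne _ _)
    · obtain ⟨t, ht⟩ := h.two_L_dvd_of_zpow_eq (mul_right_cancel ha)
      exact ⟨t + a, by linarith⟩
  · rintro ⟨a, ha⟩
    exact Or.inr ⟨a, by congr 2; linarith⟩

theorem pow_four_zpow (h : QD S L x y) (j : ℤ) (hj : (x ^ j) ^ 4 = 1) : (2 * (L : ℤ)) ∣ j := by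
  rw [← zpow_natCast, ← zpow_mul, h.zpow_eq_one_iff] at hj
  obtain ⟨t, ht⟩ := hj
  push_cast at ht
  exact ⟨t, by linarith⟩

/-- Every subgroup isomorphic to `Q₈` is `⟨x^(2L), x^(2k+1) y⟩` for some `k`. -/
theorem exists_quat [Finite S] (h : QD S L x y) (Q : Subgroup S)
    (hQ : Nonempty (Q ≃* QuaternionGroup 2)) : ∃ k : ℤ, Q = (h.rebase k).quat := by
  obtain ⟨e⟩ := hQ
  have hL := h.Lpos
  have hL' : (0 : ℤ) < L := by exact_mod_cast hL
  have hcard : Nat.card Q = 8 := by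
    rw [Nat.card_congr e.toEquiv, Nat.card_eq_fintype_card, QuaternionGroup.card]
  have hpow4 : ∀ g ∈ Q, g ^ 4 = 1 := by
    intro g hg
    have h1 : ∀ q : QuaternionGroup 2, q ^ 4 = 1 := by decide
    have h2 : (⟨g, hg⟩ : Q) ^ 4 = 1 := by
      apply e.injective
      rw [map_pow, map_one]; exact h1 _
    exact congrArg Subtype.val h2
  have hinv : ∀ g ∈ Q, g * g = 1 → ∀ q ∈ Q, g * q = q * g := by
    intro g hg hgg q hq
    have h1 : ∀ a b : QuaternionGroup 2, a * a = 1 → a * b = b * a := by decide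
    have h2 : (⟨g, hg⟩ : Q) * ⟨q, hq⟩ = ⟨q, hq⟩ * ⟨g, hg⟩ := by
      apply e.injective
      rw [map_mul, map_mul]
      apply h1
      rw [← map_mul]
      have : (⟨g, hg⟩ : Q) * ⟨g, hg⟩ = 1 := Subtype.ext hgg
      rw [this, map_one]
    exact congrArg Subtype.val h2
  -- `Q ∩ ⟨x⟩ ≤ ⟨w⟩`
  have hQx : ∀ j : ℤ, x ^ j ∈ Q → (2 * (L : ℤ)) ∣ j := fun j hj => h.pow_four_zpow j (hpow4 _ hj)
  -- an element outside `⟨x⟩`
  obtain ⟨u, huQ, hux⟩ : ∃ u ∈ Q, u ∉ zpowers (x ^ (2 * (L : ℤ))) := by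
    by_contra hno
    push_neg at hno
    have h1 := Subgroup.card_le_of_le (show Q ≤ zpowers (x ^ (2 * (L : ℤ))) from hno)
    rw [hcard, Nat.card_zpowers, h.orderOf_w] at h1
    omega
  rcases h.cases u with ⟨i, rfl⟩ | ⟨i, rfl⟩
  · exfalso
    obtain ⟨a, rfl⟩ := hQx i huQ
    apply hux
    rw [zpow_mul x (2 * (L : ℤ)) a]
    exact zpow_mem (mem_zpowers _) a
  -- `i` is odd
  have hiodd : Odd i := by
    rw [← Int.not_even_iff_odd]
    rintro ⟨k, hk⟩
    have hi : i = 2 * k := by rw [hk]; ring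
    subst hi
    have hc := hinv _ huQ ((h.sq_eq_one_y_iff _).mpr (even_two_mul k))
    have hle : Q ≤ (h.rebase k).four := by
      intro q hq
      exact (h.rebase k).comm_y_mem_four q (hc q hq)
    have h1 := Subgroup.card_le_of_le hle
    rw [hcard, (h.rebase k).card_four] at h1
    omega
  obtain ⟨k, hk⟩ := hiodd
  have hu' : x ^ i * y = x ^ (2 * (L : ℤ) * 0 + 1) * (x ^ (2 * k) * y) := by
    rw [mul_xy]; congr 2; rw [hk]; ring
  -- `w ∈ Q`
  have hwQ : x ^ (2 * (L : ℤ)) ∈ Q := by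
    obtain ⟨v, hvQ, hvu⟩ : ∃ v ∈ Q, v ∉ zpowers (x ^ i * y) := by
      by_contra hno
      push_neg at hno
      have h1 := Subgroup.card_le_of_le (show Q ≤ zpowers (x ^ i * y) from hno)
      have h2 : orderOf (x ^ i * y) ∣ 4 := orderOf_dvd_of_pow_eq_one (hpow4 _ huQ)
      have h3 := Nat.le_of_dvd (by norm_num) h2
      rw [hcard, Nat.card_zpowers] at h1
      omega
    have key : ∀ b : ℤ, x ^ b ∈ Q → x ^ b ∉ zpowers (x ^ (4 * (L : ℤ))) →
        x ^ (2 * (L : ℤ)) ∈ Q := by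
      intro b hbQ hbz
      obtain ⟨a, rfl⟩ := hQx b hbQ
      rcases Int.even_or_odd' a with ⟨d, hd | hd⟩
      · exfalso
        apply hbz
        rw [hd, show 2 * (L : ℤ) * (2 * d) = 4 * L * d by ring, zpow_mul x (4 * (L : ℤ)) d]
        exact zpow_mem (mem_zpowers _) d
      · have h1 : x ^ (2 * (L : ℤ)) = x ^ (2 * (L : ℤ) * a) * (x ^ (2 * (L : ℤ) * a) * x ^ (2 * (L : ℤ) * a)) ^ (-d) := by
          rw [← zpow_add, ← zpow_mul, ← zpow_add]
          apply h.zpow_eq (d ^ 2)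
          rw [hd]; ring
        rw [h1]
        exact mul_mem hbQ (zpow_mem (mul_mem hbQ hbQ) _)
    have hzu : x ^ (4 * (L : ℤ)) = (x ^ i * y) ^ 2 := by
      rw [pow_two, h.sq_y]
      apply h.zpow_eq (-k)
      rw [hk]; ring
    rcases h.cases v with ⟨b, rfl⟩ | ⟨b, rfl⟩
    · apply key b hvQ
      intro hb
      apply hvu
      obtain ⟨c, hc⟩ := hb
      simp only at hc
      rw [← hc, hzu, ← zpow_natCast, ← zpow_mul]
      exact zpow_mem (mem_zpowers _) _
    · have hprod : (x ^ i * y) * (x ^ b * y) ∈ Q := mul_mem huQ hvQ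
      rw [h.mul_yy] at hprod
      apply key _ hprod
      intro hb
      apply hvu
      obtain ⟨c, hc⟩ := hb
      simp only at hc
      have h1 : x ^ b * y = (x ^ i * y)⁻¹ * x ^ (i + (4 * (L : ℤ) - 1) * b) := by
        rw [← h.mul_yy]; group
      rw [h1, ← hc, hzu, ← zpow_natCast, ← zpow_mul]
      exact mul_mem (inv_mem (mem_zpowers _)) (zpow_mem (mem_zpowers _) _)
  refine ⟨k, ?_⟩
  apply le_antisymm
  · intro g hg
    rcases h.cases g with ⟨b, rfl⟩ | ⟨b, rfl⟩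
    · obtain ⟨a, rfl⟩ := hQx b hg
      exact Or.inl ⟨a, rfl⟩
    · have hprod : (x ^ b * y) * (x ^ i * y) ∈ Q := mul_mem hg huQ
      rw [h.mul_yy] at hprod
      obtain ⟨a, ha⟩ := hQx _ hprod
      refine Or.inr ⟨a - 2 * i, ?_⟩
      rw [mul_xy, mul_left_inj]
      apply h.zpow_eq (0)
      rw [hk] at ha ⊢
      linear_combination ha
  · rintro g (⟨a, rfl⟩ | ⟨a, rfl⟩)
    · rw [zpow_mul]; exact zpow_mem hwQ a
    · have : x ^ (2 * (L : ℤ) * a + 1) * (x ^ (2 * k) * y) = x ^ (2 * (L : ℤ) * a) * (x ^ i * y) := by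
        rw [mul_xy, mul_xy]; congr 2; rw [hk]; ring
      rw [this, zpow_mul]
      exact mul_mem (zpow_mem hwQ a) huQ

theorem w_mem_quat (h : QD S L x y) : x ^ (2 * (L : ℤ)) ∈ h.quat :=
  (h.zpow_mem_quat _).mpr (dvd_refl _)

theorem xy_mem_quat (h : QD S L x y) : x * y ∈ h.quat := by
  have := (h.zpow_y_mem_quat 1).mpr (by simp)
  rwa [zpow_one] at this

theorem z_mem_quat (h : QD S L x y) : x ^ (4 * (L : ℤ)) ∈ h.quat :=
  (h.zpow_mem_quat _).mpr ⟨2, by ring⟩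

/-- The centralizer of `⟨x^(2L), x y⟩` is `{1, z}`. -/
theorem mem_centralizer_quat (h : QD S L x y) (g : S) :
    g ∈ centralizer (h.quat : Set S) ↔ g = 1 ∨ g = x ^ (4 * (L : ℤ)) := by
  have hL := h.Lpos
  have hL' : (0 : ℤ) < L := by exact_mod_cast hL
  constructor
  · intro hg
    rw [mem_centralizer_iff] at hg
    rcases h.cases g with ⟨a, rfl⟩ | ⟨a, rfl⟩
    · apply h.zpow_of_dvd
      have h1 := hg (x * y) h.xy_mem_quat
      have h2 : x * y * x ^ a = x ^ (1 + (4 * (L : ℤ) - 1) * a) * y := by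
        have := h.mul_yx 1 a
        rwa [zpow_one] at this
      have h3 : x ^ a * (x * y) = x ^ (a + 1) * y := by
        rw [← mul_assoc, zpow_add_one]
      rw [h2, h3, mul_left_inj, h.zpow_eq_iff] at h1
      obtain ⟨t, ht⟩ := h1
      refine ⟨L * a - (2 * L + 1) * t, ?_⟩
      have : 2 * a = 2 * (4 * (L : ℤ) * (L * a - (2 * L + 1) * t)) := by
        linear_combination (-(2 * (L : ℤ) + 1)) * ht
      linarith
    · exfalso
      have h1 := hg _ h.w_mem_quat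
      rw [← mul_assoc, ← zpow_add, h.mul_yx, mul_left_inj, h.zpow_eq_iff] at h1
      obtain ⟨t, ht⟩ := h1
      have h2 : 4 * (L : ℤ) * (1 - 2 * L) = 4 * L * (2 * t) := by linarith
      have h3 := mul_left_cancel₀ (by positivity) h2
      omega
  · rintro (rfl | rfl)
    · exact one_mem _
    · rw [mem_centralizer_iff]
      intro q _
      exact h.z_central q

theorem zpow_mem_normalizer_quat [Finite S] (h : QD S L x y) (j : ℤ) :
    x ^ j ∈ normalizer (h.quat : Set S) ↔ (L : ℤ) ∣ j := by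
  have hL := h.Lpos
  have hL' : (0 : ℤ) < L := by exact_mod_cast hL
  constructor
  · intro hm
    have h1 := (mem_normalizer_iff.mp hm (x * y)).mp h.xy_mem_quat
    have h2 := h.conj_x j 1
    rw [zpow_one] at h2
    rw [h2, h.zpow_y_mem_quat] at h1
    obtain ⟨u, hu⟩ := h1
    refine ⟨u + 2 * j, ?_⟩
    have : 2 * j = 2 * (L * (u + 2 * j)) := by linarith
    linarith
  · rintro ⟨e, rfl⟩
    apply Subgroup.mem_normalizer_fintype
    intro g hg
    rcases h.cases g with ⟨b, rfl⟩ | ⟨b, rfl⟩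
    · have : x ^ ((L : ℤ) * e) * x ^ b * (x ^ ((L : ℤ) * e))⁻¹ = x ^ b := by
        rw [← zpow_neg, ← zpow_add, ← zpow_add]; congr 1; ring
      rw [this]; exact hg
    · rw [h.conj_x]
      show _ ∈ h.quat
      rw [h.zpow_y_mem_quat]
      obtain ⟨a, ha⟩ := (h.zpow_y_mem_quat b).mp hg
      exact ⟨a + (1 - 2 * L) * e, by linear_combination ha⟩

/-- `|N_S(Q) : Q| = 2` for `Q = ⟨x^(2L), x y⟩`. -/
theorem relIndex_normalizer_quat [Finite S] (h : QD S L x y) :
    h.quat.relIndex (normalizer (h.quat : Set S)) = 2 := by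
  have hle : h.quat ≤ normalizer (h.quat : Set S) := Subgroup.le_normalizer
  have hw : x ^ (L : ℤ) ∈ normalizer (h.quat : Set S) :=
    (h.zpow_mem_normalizer_quat _).mpr (dvd_refl _)
  show (h.quat.subgroupOf (normalizer (h.quat : Set S))).index = 2
  rw [Subgroup.index_eq_two_iff]
  refine ⟨⟨x ^ (L : ℤ), hw⟩, ?_⟩
  rintro ⟨b, hb⟩
  simp only [Subgroup.mem_subgroupOf, Subgroup.coe_mul]
  have hL := h.Lpos
  have hL' : (0 : ℤ) < L := by exact_mod_cast hL
  have key : ∀ e : ℤ, (2 * (L : ℤ)) ∣ L * e ↔ Even e := by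
    intro e
    constructor
    · rintro ⟨u, hu⟩
      refine ⟨u, ?_⟩
      have : (L : ℤ) * e = L * (2 * u) := by linarith
      have := mul_left_cancel₀ (by positivity) this
      linarith
    · rintro ⟨u, rfl⟩
      exact ⟨u, by ring⟩
  rcases h.cases b with ⟨j, rfl⟩ | ⟨j, rfl⟩
  · obtain ⟨e, rfl⟩ := (h.zpow_mem_normalizer_quat j).mp hb
    rw [← zpow_add, h.zpow_mem_quat, h.zpow_mem_quat]
    have h1 : (L : ℤ) * e + L = L * (e + 1) := by ring
    rw [h1, key, key]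
    rcases Int.even_or_odd e with he | he
    · right
      exact ⟨he, by rw [Int.not_even_iff_odd]; exact he.add_one⟩
    · left
      exact ⟨he.add_one, by rw [Int.not_even_iff_odd]; exact he⟩
  · have hxj : x ^ (j - 1) ∈ normalizer (h.quat : Set S) := by
      have : x ^ (j - 1) = (x ^ j * y) * (x * y)⁻¹ := by
        rw [zpow_sub_one]; group
      rw [this]
      exact mul_mem hb (inv_mem (hle h.xy_mem_quat))
    obtain ⟨e, he⟩ := (h.zpow_mem_normalizer_quat (j - 1)).mp hxj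
    rw [h.mul_yx, h.zpow_y_mem_quat, h.zpow_y_mem_quat]
    have h1 : j + (4 * (L : ℤ) - 1) * L - 1 = L * (e + (2 * (2 * L) - 1)) := by
      linear_combination he
    rw [h1, he, key, key]
    have hodd : Odd (2 * (2 * (L : ℤ)) - 1) := ⟨2 * L - 1, by ring⟩
    rcases Int.even_or_odd e with he' | he'
    · right
      exact ⟨he', by rw [Int.not_even_iff_odd]; exact he'.add_odd hodd⟩
    · left
      exact ⟨he'.add_odd hodd, by rw [Int.not_even_iff_odd]; exact he'⟩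

/-- Conjugating one quaternion subgroup into another. -/
theorem map_conj_quat_le (h : QD S L x y) (k₁ k₂ : ℤ) :
    (h.rebase k₁).quat.map (MulAut.conj (x ^ ((1 + 2 * (L : ℤ)) * (k₂ - k₁)))).toMonoidHom ≤
      (h.rebase k₂).quat := by
  rintro _ ⟨g, hg, rfl⟩
  simp only [MulEquiv.coe_toMonoidHom, MulAut.conj_apply]
  rcases hg with ⟨a, rfl⟩ | ⟨a, rfl⟩
  · refine Or.inl ⟨a, ?_⟩
    rw [← zpow_neg, ← zpow_add, ← zpow_add]; congr 1; ring
  · refine Or.inr ⟨a, ?_⟩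
    have e1 : x ^ (2 * (L : ℤ) * a + 1) * (x ^ (2 * k₁) * y) =
        x ^ (2 * (L : ℤ) * a + 1 + 2 * k₁) * y := by rw [mul_xy]
    rw [e1, h.conj_x, mul_xy, mul_left_inj]
    apply h.zpow_eq (-(L * (k₂ - k₁)))
    ring

end QD

/-- Counting two conjugacy classes. -/
theorem card_classes_eq_two {S : Type*} [Group S] (P : S → Prop) (a b : S) (ha : P a) (hb : P b)
    (hab : ¬ IsConj a b) (hall : ∀ t, P t → IsConj a t ∨ IsConj b t) :
    Nat.card {C : ConjClasses S // ∃ t : S, P t ∧ ConjClasses.mk t = C} = 2 := by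
  rw [Nat.card_eq_two_iff]
  refine ⟨⟨ConjClasses.mk a, a, ha, rfl⟩, ⟨ConjClasses.mk b, b, hb, rfl⟩, ?_, ?_⟩
  · intro he
    apply hab
    rw [Subtype.mk.injEq, ConjClasses.mk_eq_mk_iff_isConj] at he
    exact he
  · rw [Set.eq_univ_iff_forall]
    rintro ⟨C, t, ht, rfl⟩
    rcases hall t ht with h | h
    · left
      apply Subtype.ext
      exact (ConjClasses.mk_eq_mk_iff_isConj.mpr h).symm
    · right
      rw [Set.mem_singleton_iff]
      apply Subtype.ext
      exact (ConjClasses.mk_eq_mk_iff_isConj.mpr h).symm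

end Cfsg.Agent.Lib.Helper5_QD
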