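import Mathlib
import Cfsg.Agent.Lib.Helper5_QD
import Cfsg.Agent.Lib.Helper5_FourFix
import Cfsg.Agent.Lib.Helper5_Sylow

set_option autoImplicit false

/-!
helper5: fusion in groups with quasi-dihedral Sylow 2-subgroups: the actions of `N(T)` on the
three involutions of a four-group `T` and of `N(Q)` on the three cyclic subgroups of order 4 of a
quaternion group `Q`.
-/

namespace Cfsg.Agent.Lib.Helper5_QDFusion

open Subgroup

section Generic

variable {G : Type*} [Group G]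

theorem centralizer_map_conj (g : G) (H : Subgroup G) :
    centralizer ((H.map (MulAut.conj g).toMonoidHom : Subgroup G) : Set G) =
      (centralizer (H : Set G)).map (MulAut.conj g).toMonoidHom := by
  ext c
  constructor
  · intro hc
    rw [mem_centralizer_iff] at hc
    refine ⟨g⁻¹ * c * g, ?_, ?_⟩
    · show g⁻¹ * c * g ∈ centralizer (H : Set G)
      rw [mem_centralizer_iff]
      intro m hm
      have h1 := hc (g * m * g⁻¹) ⟨m, hm, rfl⟩
      have h2 : m * (g⁻¹ * c * g) = g⁻¹ * (g * m * g⁻¹ * c) * g := by group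
      rw [h2, h1]; group
    · simp only [MulEquiv.coe_toMonoidHom, MulAut.conj_apply]; group
  · rintro ⟨c', hc'', rfl⟩
    have hc' : c' ∈ centralizer (H : Set G) := hc''
    rw [mem_centralizer_iff] at hc' ⊢
    rintro _ ⟨m, hm, rfl⟩
    simp only [MulEquiv.coe_toMonoidHom, MulAut.conj_apply]
    have h1 := hc' m hm
    have h2 : g * m * g⁻¹ * (g * c' * g⁻¹) = g * (m * c') * g⁻¹ := by group
    rw [h2, h1]; group

theorem normalizer_map_conj (g : G) (H : Subgroup G) :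
    normalizer ((H.map (MulAut.conj g).toMonoidHom : Subgroup G) : Set G) =
      (normalizer (H : Set G)).map (MulAut.conj g).toMonoidHom :=
  (Subgroup.map_equiv_normalizer_eq H (MulAut.conj g)).symm

theorem relIndex_map_conj (g : G) (H K : Subgroup G) :
    (H.map (MulAut.conj g).toMonoidHom).relIndex (K.map (MulAut.conj g).toMonoidHom) =
      H.relIndex K :=
  Subgroup.relIndex_map_map_of_injective H K (MulAut.conj g).injective

/-- `|N(T) : C(T)|` is invariant under conjugation. -/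
theorem relIndex_cent_conj (g : G) (T : Subgroup G) :
    (centralizer ((T.map (MulAut.conj g).toMonoidHom : Subgroup G) : Set G)).relIndex
      (normalizer ((T.map (MulAut.conj g).toMonoidHom : Subgroup G) : Set G)) =
    (centralizer (T : Set G)).relIndex (normalizer (T : Set G)) := by
  rw [centralizer_map_conj, normalizer_map_conj, relIndex_map_conj]

/-- `|N(Q) : Q C(Q)|` is invariant under conjugation. -/
theorem relIndex_sup_cent_conj (g : G) (Q : Subgroup G) :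
    ((Q.map (MulAut.conj g).toMonoidHom) ⊔
      centralizer ((Q.map (MulAut.conj g).toMonoidHom : Subgroup G) : Set G)).relIndex
      (normalizer ((Q.map (MulAut.conj g).toMonoidHom : Subgroup G) : Set G)) =
    (Q ⊔ centralizer (Q : Set G)).relIndex (normalizer (Q : Set G)) := by
  rw [centralizer_map_conj, normalizer_map_conj, ← Subgroup.map_sup, relIndex_map_conj]

theorem two_dvd_relIndex [Finite G] {H K : Subgroup G} (hn : (H.subgroupOf K).Normal) (w : G)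
    (hwK : w ∈ K) (hwH : w ∉ H) (hw2 : w * w ∈ H) : 2 ∣ H.relIndex K := by
  haveI := hn
  set q : K ⧸ H.subgroupOf K := QuotientGroup.mk' (H.subgroupOf K) ⟨w, hwK⟩ with hq
  have h1 : q ≠ 1 := by
    rw [hq, QuotientGroup.mk'_apply, Ne, QuotientGroup.eq_one_iff]
    exact hwH
  have h2 : q ^ 2 = 1 := by
    rw [hq, ← map_pow, QuotientGroup.mk'_apply, QuotientGroup.eq_one_iff, pow_two]
    exact hw2
  haveI : Fact (Nat.Prime 2) := ⟨Nat.prime_two⟩
  have h3 : orderOf q = 2 := orderOf_eq_prime h2 h1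
  have h4 := orderOf_dvd_natCard q
  rw [h3, ← Subgroup.index_eq_card] at h4
  exact h4

theorem index_ker_dvd_six {N X : Type*} [Group N] (ψ : N →* Equiv.Perm X) (hX : Nat.card X = 3) :
    ψ.ker.index ∣ 6 := by
  classical
  haveI : Finite X := Nat.finite_of_card_ne_zero (by omega)
  letI := Fintype.ofFinite X
  have h1 : ψ.ker.index = Nat.card ψ.range := Subgroup.index_ker ψ
  have h2 : Nat.card (Equiv.Perm X) = 6 := by
    rw [Nat.card_eq_fintype_card, Fintype.card_perm, ← Nat.card_eq_fintype_card, hX]; rfl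
  rw [h1, ← h2]
  exact Subgroup.card_subgroup_dvd_card _

theorem surjective_of_index_six {N X : Type*} [Group N] (ψ : N →* Equiv.Perm X)
    (hX : Nat.card X = 3) (h6 : ψ.ker.index = 6) : Function.Surjective ψ := by
  classical
  haveI : Finite X := Nat.finite_of_card_ne_zero (by omega)
  letI := Fintype.ofFinite X
  have h1 : ψ.ker.index = Nat.card ψ.range := Subgroup.index_ker ψ
  have h2 : Nat.card (Equiv.Perm X) = 6 := by
    rw [Nat.card_eq_fintype_card, Fintype.card_perm, ← Nat.card_eq_fintype_card, hX]; rfl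
  rw [← MonoidHom.range_eq_top]
  apply Subgroup.eq_top_of_card_eq
  rw [← h1, h6, h2]

end Generic

section Four

variable {G : Type*} [Group G] (U : Subgroup G)

/-- the non-identity elements of `U` -/
abbrev Pts : Set G := (U : Set G) \ {1}

instance ptsAction : MulAction (normalizer (U : Set G)) (Pts U) where
  smul n t := ⟨(n : G) * t.1 * (n : G)⁻¹, (mem_normalizer_iff.mp n.2 t.1).mp t.2.1, fun h => t.2.2 (by
    have h1 : (n : G) * t.1 * (n : G)⁻¹ = 1 := h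
    have h2 : t.1 = (n : G)⁻¹ * ((n : G) * t.1 * (n : G)⁻¹) * (n : G) := by group
    rw [h1] at h2
    rw [h2]; simp)⟩
  one_smul t := Subtype.ext (by
    show ((1 : normalizer (U : Set G)) : G) * t.1 * ((1 : normalizer (U : Set G)) : G)⁻¹ = t.1
    simp)
  mul_smul a b t := Subtype.ext (by
    show ((a * b : normalizer (U : Set G)) : G) * t.1 * ((a * b : normalizer (U : Set G)) : G)⁻¹ =
      (a : G) * ((b : G) * t.1 * (b : G)⁻¹) * (a : G)⁻¹
    simp [mul_assoc])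

theorem pts_smul_coe (n : normalizer (U : Set G)) (t : Pts U) :
    ((n • t : Pts U) : G) = (n : G) * t.1 * (n : G)⁻¹ := rfl

/-- the permutation representation of `N(U)` on `U ∖ {1}` -/
def ptsHom : normalizer (U : Set G) →* Equiv.Perm (Pts U) := MulAction.toPermHom _ _

theorem ptsHom_apply (n : normalizer (U : Set G)) (t : Pts U) :
    ((ptsHom U n t : Pts U) : G) = (n : G) * t.1 * (n : G)⁻¹ := rfl

theorem ptsHom_ker :
    (ptsHom U).ker = (centralizer (U : Set G)).subgroupOf (normalizer (U : Set G)) := by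
  ext n
  rw [MonoidHom.mem_ker, mem_subgroupOf, mem_centralizer_iff]
  constructor
  · intro h t ht
    by_cases ht1 : t = 1
    · subst ht1; simp
    · have h1 : ((ptsHom U n ⟨t, ht, ht1⟩ : Pts U) : G) = t := by rw [h]; rfl
      rw [ptsHom_apply] at h1
      have h2 : (n : G) * t = (n : G) * t * (n : G)⁻¹ * (n : G) := by group
      rw [h2, h1]
  · intro h
    ext t
    rw [ptsHom_apply, Equiv.Perm.coe_one, id, ← h t.1 t.2.1]
    group

theorem card_pts (hU : Nat.card U = 4) : Nat.card (Pts U) = 3 := by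
  haveI : Finite U := Nat.finite_of_card_ne_zero (by omega)
  rw [Nat.card_coe_set_eq, Set.ncard_diff_singleton_of_mem (one_mem U),
    ← Nat.card_coe_set_eq]
  show Nat.card U - 1 = 3
  rw [hU]

theorem four_relIndex_dvd_six (hU : Nat.card U = 4) :
    (centralizer (U : Set G)).relIndex (normalizer (U : Set G)) ∣ 6 := by
  have := index_ker_dvd_six (ptsHom U) (card_pts U hU)
  rwa [ptsHom_ker] at this

theorem four_normal : ((centralizer (U : Set G)).subgroupOf (normalizer (U : Set G))).Normal := by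
  rw [← ptsHom_ker]; infer_instance

end Four

section Quat

variable {G : Type*} [Group G] (Q : Subgroup G)

/-- the subgroups of order 4 of `Q` -/
abbrev Cyc : Set (Subgroup G) := {C | C ≤ Q ∧ Nat.card C = 4}

theorem map_conj_le_of_mem_normalizer {n : G} (hn : n ∈ normalizer (Q : Set G)) {C : Subgroup G}
    (hC : C ≤ Q) : C.map (MulAut.conj n).toMonoidHom ≤ Q := by
  rintro _ ⟨c, hc, rfl⟩
  exact (mem_normalizer_iff.mp hn c).mp (hC hc)

instance cycAction : MulAction (normalizer (Q : Set G)) (Cyc Q) where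
  smul n C := ⟨C.1.map (MulAut.conj (n : G)).toMonoidHom,
    map_conj_le_of_mem_normalizer Q n.2 C.2.1,
    (Cfsg.Agent.Lib.Helper5_Sylow.card_map_conj (n : G) C.1).trans C.2.2⟩
  one_smul C := Subtype.ext (by
    show C.1.map (MulAut.conj ((1 : normalizer (Q : Set G)) : G)).toMonoidHom = C.1
    rw [Subgroup.coe_one, map_one]
    exact Subgroup.map_id C.1)
  mul_smul a b C := Subtype.ext (by
    show C.1.map (MulAut.conj ((a * b : normalizer (Q : Set G)) : G)).toMonoidHom =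
      (C.1.map (MulAut.conj (b : G)).toMonoidHom).map (MulAut.conj (a : G)).toMonoidHom
    rw [Cfsg.Agent.Lib.Helper5_Sylow.map_conj_mul]
    rfl)

/-- the permutation representation of `N(Q)` on the subgroups of order 4 of `Q` -/
def cycHom : normalizer (Q : Set G) →* Equiv.Perm (Cyc Q) := MulAction.toPermHom _ _

theorem cycHom_apply (n : normalizer (Q : Set G)) (C : Cyc Q) :
    ((cycHom Q n C : Cyc Q) : Subgroup G) = C.1.map (MulAut.conj (n : G)).toMonoidHom := rfl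

theorem mem_cycHom_ker (n : normalizer (Q : Set G)) :
    n ∈ (cycHom Q).ker ↔ ∀ C : Subgroup G, C ≤ Q → Nat.card C = 4 →
      C.map (MulAut.conj (n : G)).toMonoidHom = C := by
  rw [MonoidHom.mem_ker]
  constructor
  · intro h C hC hC4
    have h1 : ((cycHom Q n ⟨C, hC, hC4⟩ : Cyc Q) : Subgroup G) = C := by rw [h]; rfl
    rwa [cycHom_apply] at h1
  · intro h
    ext1 C
    apply Subtype.ext
    rw [cycHom_apply, Equiv.Perm.coe_one, id]
    exact h C.1 C.2.1 C.2.2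

/-- `Q = ⟨W, U⟩` is quaternion of order 8 on the generators `W`, `U`. -/
structure Q8Gen (Q : Subgroup G) (W U : G) : Prop where
  hW : W ∈ Q
  hU : U ∈ Q
  cover : ∀ g ∈ Q, ∃ a : ℤ, g = W ^ a ∨ g = W ^ a * U
  oW : orderOf W = 4
  sq : U * U = W * W
  conj : U * W * U⁻¹ = W⁻¹
  card : Nat.card Q = 8

namespace Q8Gen

variable {Q} {W U : G} (hq : Q8Gen Q W U)
include hq

omit hq in
theorem pow4 (g : G) : g ^ 4 = g * g * g * g := by simp only [pow_succ, pow_zero, one_mul]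

omit hq in
theorem finite_zpowers_of_orderOf (g : G) (n : ℕ) (hn : 0 < n) (hg : orderOf g = n) :
    Finite (zpowers g) := finite_zpowers.mpr (orderOf_pos_iff.mp (by rw [hg]; exact hn))

theorem W4 : W * W * W * W = 1 := by
  have := pow_orderOf_eq_one W
  rw [hq.oW, pow4] at this
  exact this

theorem W2_ne : W * W ≠ 1 := by
  intro h
  have : orderOf W ∣ 2 := orderOf_dvd_of_pow_eq_one (by rw [pow_two]; exact h)
  rw [hq.oW] at this; omega

theorem Winv : W⁻¹ = W * W * W := by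
  symm; apply eq_inv_of_mul_eq_one_left; exact hq.W4

theorem reduce (a : ℤ) : W ^ a = 1 ∨ W ^ a = W ∨ W ^ a = W * W ∨ W ^ a = W⁻¹ := by
  have h1 : W ^ a = W ^ (a % 4) := by
    have := zpow_mod_orderOf W a
    rw [hq.oW] at this
    exact this.symm
  have h2 := Int.emod_nonneg a (by norm_num : (4 : ℤ) ≠ 0)
  have h3 := Int.emod_lt_of_pos a (by norm_num : (0 : ℤ) < 4)
  obtain ⟨r, hr⟩ : ∃ r, r = a % 4 := ⟨_, rfl⟩
  rw [← hr] at h1 h2 h3
  rw [h1]
  interval_cases r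
  · left; simp
  · right; left; simp
  · right; right; left; rw [zpow_two]
  · right; right; right; rw [hq.Winv]
    rw [show (3 : ℤ) = 2 + 1 from rfl, zpow_add_one, zpow_two]

theorem cases8 (g : G) (hg : g ∈ Q) : g = 1 ∨ g = W ∨ g = W * W ∨ g = W⁻¹ ∨ g = U ∨ g = W * U ∨
    g = W * W * U ∨ g = W⁻¹ * U := by
  obtain ⟨a, rfl | rfl⟩ := hq.cover g hg
  · rcases hq.reduce a with h | h | h | h <;> rw [h] <;> simp
  · rcases hq.reduce a with h | h | h | h <;> rw [h] <;> simp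

theorem UW : U * W = W⁻¹ * U := by
  have := hq.conj
  rw [← this]; group

theorem Uinv : U⁻¹ = W * W * U := by
  symm; apply eq_inv_of_mul_eq_one_left
  rw [mul_assoc, hq.sq, ← mul_assoc]; exact hq.W4

theorem WUinv : (W * U)⁻¹ = W⁻¹ * U := by
  symm; apply eq_inv_of_mul_eq_one_left
  have : W⁻¹ * U * (W * U) = W⁻¹ * (U * W) * U := by group
  rw [this, hq.UW]
  have : W⁻¹ * (W⁻¹ * U) * U = W⁻¹ * W⁻¹ * (U * U) := by group
  rw [this, hq.sq]; group

theorem conj' : W * U * W⁻¹ = U⁻¹ := by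
  apply eq_inv_of_mul_eq_one_left
  calc (W * U * W⁻¹) * U = (W * U) * (W⁻¹ * U) := by group
    _ = (W * U) * (U * W) := by rw [← hq.UW]
    _ = W * (U * U) * W := by group
    _ = W * (W * W) * W := by rw [hq.sq]
    _ = 1 := by rw [← hq.W4]; group

theorem oU : orderOf U = 4 := by
  haveI : Fact (Nat.Prime 2) := ⟨Nat.prime_two⟩
  have := orderOf_eq_prime_pow (x := U) (p := 2) (n := 1) (by
    rw [pow_one, pow_two, hq.sq]; exact hq.W2_ne) (by
    have : U ^ 2 ^ (1 + 1) = (U * U) * (U * U) := by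
      rw [show 2 ^ (1 + 1) = 4 from rfl, pow4]; group
    rw [this, hq.sq, ← mul_assoc]; exact hq.W4)
  simpa using this

theorem WU_sq : (W * U) * (W * U) = W * W := by
  have : (W * U) * (W * U) = W * (U * W) * U := by group
  rw [this, hq.UW]
  have : W * (W⁻¹ * U) * U = U * U := by group
  rw [this, hq.sq]

theorem oWU : orderOf (W * U) = 4 := by
  haveI : Fact (Nat.Prime 2) := ⟨Nat.prime_two⟩
  have := orderOf_eq_prime_pow (x := W * U) (p := 2) (n := 1) (by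
    rw [pow_one, pow_two, hq.WU_sq]; exact hq.W2_ne) (by
    have : (W * U) ^ 2 ^ (1 + 1) = ((W * U) * (W * U)) * ((W * U) * (W * U)) := by
      rw [show 2 ^ (1 + 1) = 4 from rfl, pow4]; group
    rw [this, hq.WU_sq, ← mul_assoc]; exact hq.W4)
  simpa using this

theorem finiteQ : Finite Q := Nat.finite_of_card_ne_zero (by rw [hq.card]; omega)

theorem eq_zpowers (C : Subgroup G) (hC : C ≤ Q) (hC4 : Nat.card C = 4) (v : G) (hv : v ∈ C)
    (hov : orderOf v = 4) : C = zpowers v := by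
  haveI := hq.finiteQ
  haveI : Finite C := Nat.finite_of_card_ne_zero (by rw [hC4]; omega)
  exact (Subgroup.eq_of_le_of_card_ge (zpowers_le.mpr hv) (by rw [Nat.card_zpowers, hov, hC4])).symm

theorem exists_gen (C : Subgroup G) (hC : C ≤ Q) (hC4 : Nat.card C = 4) :
    W ∈ C ∨ U ∈ C ∨ W * U ∈ C := by
  haveI : Finite C := Nat.finite_of_card_ne_zero (by rw [hC4]; omega)
  obtain ⟨c, hcC, hc1, hc2⟩ : ∃ c ∈ C, c ≠ 1 ∧ c ≠ W * W := by
    by_contra hno
    push_neg at hno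
    have hle : C ≤ zpowers (W * W) := by
      intro c hc
      by_cases h1 : c = 1
      · rw [h1]; exact one_mem _
      · rw [hno c hc h1]; exact mem_zpowers _
    have ho : orderOf (W * W) = 2 := by
      haveI : Fact (Nat.Prime 2) := ⟨Nat.prime_two⟩
      apply orderOf_eq_prime
      · rw [pow_two, ← mul_assoc]; exact hq.W4
      · exact hq.W2_ne
    haveI := finite_zpowers_of_orderOf (W * W) 2 (by norm_num) ho
    have := Subgroup.card_le_of_le hle
    rw [hC4, Nat.card_zpowers, ho] at this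
    omega
  rcases hq.cases8 c (hC hcC) with h | h | h | h | h | h | h | h
  · exact absurd h hc1
  · left; rw [← h]; exact hcC
  · exact absurd h hc2
  · left
    have : W = c⁻¹ := by rw [h, inv_inv]
    rw [this]; exact inv_mem hcC
  · right; left; rw [← h]; exact hcC
  · right; right; rw [← h]; exact hcC
  · right; left
    have : U = c⁻¹ := by rw [h, ← hq.Uinv, inv_inv]
    rw [this]; exact inv_mem hcC
  · right; right
    have : W * U = c⁻¹ := by rw [h, ← hq.WUinv, inv_inv]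
    rw [this]; exact inv_mem hcC

theorem cyc_cases (C : Subgroup G) (hC : C ≤ Q) (hC4 : Nat.card C = 4) :
    C = zpowers W ∨ C = zpowers U ∨ C = zpowers (W * U) := by
  rcases hq.exists_gen C hC hC4 with h | h | h
  · left; exact hq.eq_zpowers C hC hC4 W h hq.oW
  · right; left; exact hq.eq_zpowers C hC hC4 U h hq.oU
  · right; right; exact hq.eq_zpowers C hC hC4 (W * U) h hq.oWU

theorem U_notin : U ∉ zpowers W := by
  intro hU
  haveI := hq.finiteQ
  have hle : Q ≤ zpowers W := by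
    intro g hg
    obtain ⟨a, rfl | rfl⟩ := hq.cover g hg
    · exact zpow_mem (mem_zpowers W) a
    · exact mul_mem (zpow_mem (mem_zpowers W) a) hU
  haveI := finite_zpowers_of_orderOf W 4 (by norm_num) hq.oW
  have := Subgroup.card_le_of_le hle
  rw [hq.card, Nat.card_zpowers, hq.oW] at this
  omega

theorem WU_notin : W * U ∉ zpowers W := by
  intro h
  apply hq.U_notin
  have : U = W⁻¹ * (W * U) := by group
  rw [this]
  exact mul_mem (inv_mem (mem_zpowers W)) h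

theorem zpowers_W_ne_U : zpowers W ≠ zpowers U := fun h =>
  hq.U_notin (h ▸ mem_zpowers U)

theorem zpowers_W_ne_WU : zpowers W ≠ zpowers (W * U) := fun h =>
  hq.WU_notin (h ▸ mem_zpowers (W * U))

theorem zpowers_U_ne_WU : zpowers U ≠ zpowers (W * U) := by
  intro h
  have h1 : W * U ∈ zpowers U := h ▸ mem_zpowers (W * U)
  have h2 : W ∈ zpowers U := by
    have : W = (W * U) * U⁻¹ := by group
    rw [this]
    exact mul_mem h1 (inv_mem (mem_zpowers U))
  have h3 : zpowers U = zpowers W := by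
    apply hq.eq_zpowers (zpowers U) (zpowers_le.mpr hq.hU) (by rw [Nat.card_zpowers, hq.oU]) W h2
      hq.oW
  exact hq.zpowers_W_ne_U h3.symm

theorem zpowers_mem_cyc (v : G) (hv : v ∈ Q) (hov : orderOf v = 4) : zpowers v ∈ Cyc Q :=
  ⟨zpowers_le.mpr hv, by rw [Nat.card_zpowers, hov]⟩

theorem card_cyc : Nat.card (Cyc Q) = 3 := by
  rw [Nat.card_coe_set_eq, Set.ncard_eq_three]
  refine ⟨zpowers W, zpowers U, zpowers (W * U), hq.zpowers_W_ne_U, hq.zpowers_W_ne_WU,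
    hq.zpowers_U_ne_WU, ?_⟩
  ext C
  simp only [Set.mem_setOf_eq, Set.mem_insert_iff, Set.mem_singleton_iff]
  constructor
  · rintro ⟨h1, h2⟩
    exact hq.cyc_cases C h1 h2
  · rintro (rfl | rfl | rfl)
    · exact hq.zpowers_mem_cyc W hq.hW hq.oW
    · exact hq.zpowers_mem_cyc U hq.hU hq.oU
    · exact hq.zpowers_mem_cyc (W * U) (mul_mem hq.hW hq.hU) hq.oWU

omit hq in
theorem gen_cases (v c : G) (hv : orderOf v = 4) (hc : c ∈ zpowers v) (hcc : c * c ≠ 1) :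
    c = v ∨ c = v⁻¹ := by
  obtain ⟨a, rfl⟩ := mem_zpowers_iff.mp hc
  have h1 : v ^ a = v ^ (a % 4) := by
    have := zpow_mod_orderOf v a
    rw [hv] at this
    exact this.symm
  have h2 := Int.emod_nonneg a (by norm_num : (4 : ℤ) ≠ 0)
  have h3 := Int.emod_lt_of_pos a (by norm_num : (0 : ℤ) < 4)
  have h4 : v * v * v * v = 1 := by
    have := pow_orderOf_eq_one v
    rw [hv, pow4] at this
    exact this
  obtain ⟨r, hr⟩ : ∃ r, r = a % 4 := ⟨_, rfl⟩
  rw [← hr] at h1 h2 h3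
  rw [h1] at hcc ⊢
  interval_cases r
  · exact absurd (by simp) hcc
  · left; simp
  · exfalso; apply hcc; rw [zpow_two, ← mul_assoc]; exact h4
  · right
    apply eq_inv_of_mul_eq_one_left
    rw [show (3 : ℤ) = 2 + 1 from rfl, zpow_add_one, zpow_two]; exact h4

omit hq in
theorem comm_of (q n v v' : G) (hn : n * v * n⁻¹ = v') (hqv : q⁻¹ * v' * q = v) :
    (q⁻¹ * n) * v = v * (q⁻¹ * n) := by
  calc q⁻¹ * n * v = q⁻¹ * (n * v * n⁻¹) * n := by group
    _ = (q⁻¹ * v' * q) * (q⁻¹ * n) := by rw [hn]; group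
    _ = _ := by rw [hqv]

theorem R1 : U⁻¹ * W⁻¹ * U = W := by rw [← hq.conj]; group

theorem R2 : W⁻¹ * U⁻¹ * W = U := by rw [← hq.conj']; group

theorem mem_centralizer_of_comm (c : G) (hW : c * W = W * c) (hU : c * U = U * c) :
    c ∈ centralizer (Q : Set G) := by
  rw [mem_centralizer_iff]
  intro g hg
  have cW : Commute c W := hW
  have cU : Commute c U := hU
  obtain ⟨a, rfl | rfl⟩ := hq.cover g hg
  · exact ((cW.zpow_right a).eq).symm
  · exact (((cW.zpow_right a).mul_right cU).eq).symm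

theorem index_cyc [Finite G] (C : Subgroup G) (hC : C ≤ Q) (hC4 : Nat.card C = 4) :
    (C.subgroupOf Q).index = 2 := by
  have h1 := (C.subgroupOf Q).card_mul_index
  rw [Nat.card_congr (Subgroup.subgroupOfEquivOfLe hC).toEquiv, hC4, hq.card] at h1
  omega

theorem map_conj_of_mem [Finite G] (C : Subgroup G) (hC : C ≤ Q) (hC4 : Nat.card C = 4) (q : G)
    (hqQ : q ∈ Q) : C.map (MulAut.conj q).toMonoidHom = C := by
  have hn : (C.subgroupOf Q).Normal := Subgroup.normal_of_index_eq_two (hq.index_cyc C hC hC4)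
  apply Subgroup.eq_of_le_of_card_ge
  · rintro _ ⟨c, hc, rfl⟩
    have := hn.conj_mem ⟨c, hC hc⟩ (by rw [mem_subgroupOf]; exact hc) ⟨q, hqQ⟩
    rw [mem_subgroupOf] at this
    exact this
  · rw [Cfsg.Agent.Lib.Helper5_Sylow.card_map_conj]

omit hq in
theorem map_conj_of_mem_centralizer (C : Subgroup G) (hC : C ≤ Q) (c' : G)
    (hc' : c' ∈ centralizer (Q : Set G)) : C.map (MulAut.conj c').toMonoidHom = C := by
  rw [mem_centralizer_iff] at hc'
  ext g
  constructor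
  · rintro ⟨c, hc, rfl⟩
    simp only [MulEquiv.coe_toMonoidHom, MulAut.conj_apply]
    rw [← hc' c (hC hc)]
    simpa using hc
  · intro hg
    refine ⟨g, hg, ?_⟩
    simp only [MulEquiv.coe_toMonoidHom, MulAut.conj_apply]
    rw [← hc' g (hC hg)]
    simp

theorem cycHom_ker_eq [Finite G] :
    (cycHom Q).ker = (Q ⊔ centralizer (Q : Set G)).subgroupOf (normalizer (Q : Set G)) := by
  apply le_antisymm
  · intro n hn
    rw [mem_cycHom_ker] at hn
    rw [mem_subgroupOf]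
    have hnW := hn (zpowers W) (zpowers_le.mpr hq.hW) (by rw [Nat.card_zpowers, hq.oW])
    have hnU := hn (zpowers U) (zpowers_le.mpr hq.hU) (by rw [Nat.card_zpowers, hq.oU])
    have hW1 : (n : G) * W * (n : G)⁻¹ = W ∨ (n : G) * W * (n : G)⁻¹ = W⁻¹ := by
      apply gen_cases W _ hq.oW
      · rw [← hnW]; exact ⟨W, mem_zpowers W, rfl⟩
      · intro h
        apply hq.W2_ne
        have : (n : G) * W * (n : G)⁻¹ * ((n : G) * W * (n : G)⁻¹) = (n : G) * (W * W) * (n : G)⁻¹ := by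
          group
        rw [this] at h
        have h2 : W * W = (n : G)⁻¹ * ((n : G) * (W * W) * (n : G)⁻¹) * (n : G) := by group
        rw [h2, h]; group
    have hU1 : (n : G) * U * (n : G)⁻¹ = U ∨ (n : G) * U * (n : G)⁻¹ = U⁻¹ := by
      apply gen_cases U _ hq.oU
      · rw [← hnU]; exact ⟨U, mem_zpowers U, rfl⟩
      · intro h
        apply hq.W2_ne
        rw [← hq.sq]
        have : (n : G) * U * (n : G)⁻¹ * ((n : G) * U * (n : G)⁻¹) = (n : G) * (U * U) * (n : G)⁻¹ := by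
          group
        rw [this] at h
        have h2 : U * U = (n : G)⁻¹ * ((n : G) * (U * U) * (n : G)⁻¹) * (n : G) := by group
        rw [h2, h]; group
    obtain ⟨q, hqQ, hcW, hcU⟩ : ∃ q ∈ Q, (q⁻¹ * (n : G)) * W = W * (q⁻¹ * (n : G)) ∧
        (q⁻¹ * (n : G)) * U = U * (q⁻¹ * (n : G)) := by
      rcases hW1 with hW1 | hW1 <;> rcases hU1 with hU1 | hU1
      · exact ⟨1, one_mem _, comm_of 1 _ W W hW1 (by group), comm_of 1 _ U U hU1 (by group)⟩
      · exact ⟨W, hq.hW, comm_of W _ W W hW1 (by group), comm_of W _ U U⁻¹ hU1 hq.R2⟩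
      · exact ⟨U, hq.hU, comm_of U _ W W⁻¹ hW1 hq.R1, comm_of U _ U U hU1 (by group)⟩
      · refine ⟨W * U, mul_mem hq.hW hq.hU, comm_of (W * U) _ W W⁻¹ hW1 ?_,
          comm_of (W * U) _ U U⁻¹ hU1 ?_⟩
        · have : (W * U)⁻¹ * W⁻¹ * (W * U) = U⁻¹ * W⁻¹ * U := by group
          rw [this, hq.R1]
        · have : (W * U)⁻¹ * U⁻¹ * (W * U) = U⁻¹ * (W⁻¹ * U⁻¹ * W) * U := by group
          rw [this, hq.R2]; group
    have hc := hq.mem_centralizer_of_comm _ hcW hcU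
    have : (n : G) = q * (q⁻¹ * (n : G)) := by group
    rw [this]
    exact Subgroup.mul_mem_sup hqQ hc
  · intro n hn
    rw [mem_subgroupOf] at hn
    rw [mem_cycHom_ker]
    intro C hC hC4
    -- the set of elements fixing `C` is a subgroup containing `Q` and `C(Q)`
    let F : Subgroup G :=
      { carrier := {g | C.map (MulAut.conj g).toMonoidHom = C}
        one_mem' := by
          show C.map (MulAut.conj (1 : G)).toMonoidHom = C
          rw [map_one]; exact Subgroup.map_id C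
        mul_mem' := by
          intro a b ha hb
          show C.map (MulAut.conj (a * b)).toMonoidHom = C
          rw [← Cfsg.Agent.Lib.Helper5_Sylow.map_conj_mul, hb, ha]
        inv_mem' := by
          intro a ha
          show C.map (MulAut.conj a⁻¹).toMonoidHom = C
          have h1 : C.map (MulAut.conj a⁻¹).toMonoidHom =
              (C.map (MulAut.conj a).toMonoidHom).map (MulAut.conj a⁻¹).toMonoidHom := by rw [ha]
          rw [h1, Cfsg.Agent.Lib.Helper5_Sylow.map_conj_mul, inv_mul_cancel, map_one]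
          exact Subgroup.map_id C }
    have hle : Q ⊔ centralizer (Q : Set G) ≤ F := by
      apply sup_le
      · intro q hqQ
        exact hq.map_conj_of_mem C hC hC4 q hqQ
      · intro c' hc'
        exact map_conj_of_mem_centralizer C hC c' hc'
    exact hle hn

theorem quat_relIndex_dvd_six [Finite G] :
    (Q ⊔ centralizer (Q : Set G)).relIndex (normalizer (Q : Set G)) ∣ 6 := by
  have := index_ker_dvd_six (cycHom Q) hq.card_cyc
  rwa [hq.cycHom_ker_eq] at this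

theorem quat_normal [Finite G] :
    ((Q ⊔ centralizer (Q : Set G)).subgroupOf (normalizer (Q : Set G))).Normal := by
  rw [← hq.cycHom_ker_eq]; infer_instance

/-- if `|N(Q) : Q C(Q)| = 6` then `⟨W⟩` and `⟨U⟩` are conjugate in `N(Q)` -/
theorem exists_conj_of_six [Finite G]
    (h6 : (Q ⊔ centralizer (Q : Set G)).relIndex (normalizer (Q : Set G)) = 6) :
    ∃ n ∈ normalizer (Q : Set G), (zpowers W).map (MulAut.conj n).toMonoidHom = zpowers U := by
  classical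
  have hs := surjective_of_index_six (cycHom Q) hq.card_cyc (by rw [hq.cycHom_ker_eq]; exact h6)
  obtain ⟨n, hn⟩ := hs (Equiv.swap ⟨zpowers W, hq.zpowers_mem_cyc W hq.hW hq.oW⟩
    ⟨zpowers U, hq.zpowers_mem_cyc U hq.hU hq.oU⟩)
  refine ⟨n, n.2, ?_⟩
  have h1 := congrArg (fun σ => ((σ ⟨zpowers W, hq.zpowers_mem_cyc W hq.hW hq.oW⟩ : Cyc Q) :
    Subgroup G)) hn
  simp only [Equiv.swap_apply_left] at h1
  rw [cycHom_apply] at h1
  exact h1

end Q8Gen

end Quat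

section QDfacts

open Cfsg.Agent.Lib.Helper5_QD

variable {S₀ : Type*} [Group S₀] {L : ℕ} {x y : S₀}

theorem zpowers_w_le (h : QD S₀ L x y) : zpowers (x ^ (2 * (L : ℤ))) ≤ zpowers x :=
  zpowers_le.mpr (zpow_mem (mem_zpowers x) _)

theorem card_quat [Finite S₀] (h : QD S₀ L x y) : Nat.card h.quat = 8 := by
  have hwle : zpowers (x ^ (2 * (L : ℤ))) ≤ h.quat := zpowers_le.mpr h.w_mem_quat
  have h1 := ((zpowers (x ^ (2 * (L : ℤ)))).subgroupOf h.quat).card_mul_index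
  rw [Nat.card_congr (Subgroup.subgroupOfEquivOfLe hwle).toEquiv, Nat.card_zpowers,
    h.orderOf_w] at h1
  have h2 : ((zpowers (x ^ (2 * (L : ℤ)))).subgroupOf h.quat).index = 2 := by
    rw [Subgroup.index_eq_two_iff]
    refine ⟨⟨x * y, h.xy_mem_quat⟩, ?_⟩
    rintro ⟨b, hb⟩
    simp only [mem_subgroupOf, Subgroup.coe_mul]
    rcases hb with ⟨a, rfl⟩ | ⟨a, rfl⟩
    · right
      refine ⟨⟨a, by simp only; rw [← zpow_mul]⟩, ?_⟩
      intro hm
      have h3 : x ^ (2 * (L : ℤ) * a) * (x * y) = x ^ (2 * (L : ℤ) * a + 1) * y := by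
        rw [← mul_assoc, zpow_add_one]
      rw [h3] at hm
      exact h.xy_notin _ (zpowers_w_le h hm)
    · left
      refine ⟨?_, fun hm => h.xy_notin _ (zpowers_w_le h hm)⟩
      have h3 : x ^ (2 * (L : ℤ) * a + 1) * y * (x * y) = x ^ (2 * (L : ℤ) * (a + 2)) := by
        have := h.mul_yy (2 * (L : ℤ) * a + 1) 1
        rw [zpow_one] at this
        rw [this]; congr 1; ring
      rw [h3]
      exact ⟨a + 2, by simp only; rw [← zpow_mul]⟩
  rw [h2] at h1
  omega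

/-- the elements of a cyclic group of order 4 -/
theorem reduce4 {G : Type*} [Group G] (v c : G) (hv : orderOf v = 4) (hc : c ∈ zpowers v) :
    c = 1 ∨ c = v ∨ c = v * v ∨ c = v⁻¹ := by
  obtain ⟨a, rfl⟩ := mem_zpowers_iff.mp hc
  have h1 : v ^ a = v ^ (a % 4) := by
    have := zpow_mod_orderOf v a
    rw [hv] at this
    exact this.symm
  have h2 := Int.emod_nonneg a (by norm_num : (4 : ℤ) ≠ 0)
  have h3 := Int.emod_lt_of_pos a (by norm_num : (0 : ℤ) < 4)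
  have h4 : v * v * v * v = 1 := by
    have := pow_orderOf_eq_one v
    rw [hv, Q8Gen.pow4] at this
    exact this
  obtain ⟨r, hr⟩ : ∃ r, r = a % 4 := ⟨_, rfl⟩
  rw [← hr] at h1 h2 h3
  rw [h1]
  interval_cases r
  · left; simp
  · right; left; simp
  · right; right; left; rw [zpow_two]
  · right; right; right
    apply eq_inv_of_mul_eq_one_left
    rw [show (3 : ℤ) = 2 + 1 from rfl, zpow_add_one, zpow_two]; exact h4

theorem orderOf_xy (h : QD S₀ L x y) : orderOf (x * y) = 4 := by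
  have := h.orderOf_y_odd 0
  simpa using this

/-- `x^L` does not normalize `⟨x y⟩` -/
theorem xL_conj_notin (h : QD S₀ L x y) :
    x ^ (L : ℤ) * (x * y) * (x ^ (L : ℤ))⁻¹ ∉ zpowers (x * y) := by
  have hL := h.Lpos
  have hL' : (0 : ℤ) < L := by exact_mod_cast hL
  have h1 : x ^ (L : ℤ) * (x * y) * (x ^ (L : ℤ))⁻¹ = x ^ (1 + (2 - 4 * (L : ℤ)) * L) * y := by
    have := h.conj_x L 1
    rwa [zpow_one] at this
  rw [h1]
  intro hm
  have hxy : x * y = x ^ (1 : ℤ) * y := by rw [zpow_one]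
  rcases reduce4 (x * y) _ (orderOf_xy h) hm with he | he | he | he
  · exact h.ne 0 (1 + (2 - 4 * (L : ℤ)) * L) (by rw [zpow_zero]; exact he.symm)
  · rw [hxy, h.xy_eq_iff] at he
    obtain ⟨t, ht⟩ := he
    have h2 : (L : ℤ) * (2 - 4 * L - 8 * t) = 0 := by linarith
    rcases mul_eq_zero.mp h2 with h3 | h3
    · omega
    · omega
  · rw [hxy, h.sq_y] at he
    exact h.ne _ _ he.symm
  · rw [hxy, h.inv_y, h.xy_eq_iff] at he
    obtain ⟨t, ht⟩ := he
    have h2 : (L : ℤ) * (6 - 4 * L - 8 * t) = 0 := by linarith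
    rcases mul_eq_zero.mp h2 with h3 | h3
    · omega
    · omega

/-- `x^(2L)` maps `y` to `z y` -/
theorem w_conj_y (h : QD S₀ L x y) :
    x ^ (2 * (L : ℤ)) * y * (x ^ (2 * (L : ℤ)))⁻¹ = x ^ (4 * (L : ℤ)) * y := by
  have := h.conj_x (2 * (L : ℤ)) 0
  rw [zpow_zero, one_mul] at this
  rw [this, mul_left_inj]
  apply h.zpow_eq (-(L : ℤ))
  ring

end QDfacts

section SylowArg

variable {G : Type*} [Group G] [Finite G]

theorem mem_smul_sylow_iff {p : ℕ} [Fact p.Prime] (S : Sylow p G) (g c : G) :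
    c ∈ ((g • S : Sylow p G) : Subgroup G) ↔ g⁻¹ * c * g ∈ (S : Subgroup G) := by
  rw [Sylow.coe_subgroup_smul, Subgroup.mem_pointwise_smul_iff_inv_smul_mem, MulAut.smul_def,
    ← map_inv, MulAut.conj_apply, inv_inv]

/-- Sylow's theorem in the normalizer of a conjugate of a cyclic subgroup normalized by `S`. -/
theorem exists_conj_into {p : ℕ} [Fact p.Prime] (S : Sylow p G) (d' g : G)
    (hS : (S : Subgroup G) ≤ normalizer ((zpowers d' : Subgroup G) : Set G))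
    (R : Subgroup G) (hR : IsPGroup p R)
    (hRN : R ≤ normalizer ((zpowers (g * d' * g⁻¹) : Subgroup G) : Set G)) :
    ∃ a : G, (∀ r ∈ R, a * r * a⁻¹ ∈ (S : Subgroup G)) ∧ a * (g * d' * g⁻¹) * a⁻¹ ∈ zpowers d' := by
  have hz : zpowers (g * d' * g⁻¹) = (zpowers d').map (MulAut.conj g).toMonoidHom := by
    rw [MonoidHom.map_zpowers]; rfl
  set N := normalizer ((zpowers (g * d' * g⁻¹) : Subgroup G) : Set G) with hN
  have hle : ((g • S : Sylow p G) : Subgroup G) ≤ N := by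
    intro c hc
    rw [mem_smul_sylow_iff] at hc
    have h1 := hS hc
    rw [hN, hz, normalizer_map_conj]
    refine ⟨g⁻¹ * c * g, h1, ?_⟩
    simp only [MulEquiv.coe_toMonoidHom, MulAut.conj_apply]; group
  obtain ⟨c, hc⟩ := Cfsg.Agent.Lib.Helper5_Sylow.exists_conj_le_sylow
    (hR.comap_subtype (K := N)) ((g • S : Sylow p G).subtype hle)
  refine ⟨g⁻¹ * (c : G), ?_, ?_⟩
  · intro r hr
    have h1 : (⟨r, hRN hr⟩ : N) ∈ R.subgroupOf N := by rw [mem_subgroupOf]; exact hr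
    have h2 := hc ⟨_, h1, rfl⟩
    rw [Sylow.coe_subtype, mem_subgroupOf] at h2
    simp only [MulEquiv.coe_toMonoidHom, MulAut.conj_apply, Subgroup.coe_mul,
      Subgroup.coe_inv] at h2
    rw [mem_smul_sylow_iff] at h2
    have h3 : g⁻¹ * (c : G) * r * (g⁻¹ * (c : G))⁻¹ = g⁻¹ * ((c : G) * r * (c : G)⁻¹) * g := by group
    rw [h3]; exact h2
  · have h1 := (mem_normalizer_iff.mp c.2 (g * d' * g⁻¹)).mp (mem_zpowers _)
    rw [hz] at h1
    obtain ⟨e, he, he'⟩ := h1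
    simp only [MulEquiv.coe_toMonoidHom, MulAut.conj_apply] at he'
    have h3 : g⁻¹ * (c : G) * (g * d' * g⁻¹) * (g⁻¹ * (c : G))⁻¹ =
        g⁻¹ * ((c : G) * (g * d' * g⁻¹) * (c : G)⁻¹) * g := by group
    rw [h3, ← he']
    have : g⁻¹ * (g * e * g⁻¹) * g = e := by group
    rw [this]; exact he

end SylowArg

section Syl

open Cfsg.Agent.Lib.Helper5_QD

variable {G : Type*} [Group G]

theorem coe_mem_normalizer_map {P : Subgroup G} (H : Subgroup P) (s : P)
    (hs : s ∈ normalizer (H : Set P)) :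
    (s : G) ∈ normalizer ((H.map P.subtype : Subgroup G) : Set G) := by
  rw [mem_normalizer_iff] at hs ⊢
  intro g
  constructor
  · rintro ⟨t, ht, rfl⟩
    exact ⟨s * t * s⁻¹, (hs t).mp ht, rfl⟩
  · rintro ⟨t', ht', he⟩
    refine ⟨s⁻¹ * t' * s, ?_, ?_⟩
    · apply (hs (s⁻¹ * t' * s)).mpr
      have : s * (s⁻¹ * t' * s) * s⁻¹ = t' := by group
      rw [this]; exact ht'
    · have he' : (t' : G) = (s : G) * g * (s : G)⁻¹ := he
      show (s : G)⁻¹ * (t' : G) * (s : G) = g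
      rw [he']; group

theorem map_conj_map_subtype {P : Subgroup G} (H : Subgroup P) (s : P) :
    (H.map (MulAut.conj s).toMonoidHom).map P.subtype =
      (H.map P.subtype).map (MulAut.conj (s : G)).toMonoidHom := by
  rw [Subgroup.map_map, Subgroup.map_map]
  congr 1

variable [Finite G] (S : Sylow 2 G) {L : ℕ} {x y : ↥(S : Subgroup G)}
  (h : QD ↥(S : Subgroup G) L x y)

/-- the standard four-group `⟨z, y⟩` as a subgroup of `G` -/
def Tstd : Subgroup G := h.four.map (S : Subgroup G).subtype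

/-- the standard quaternion subgroup `⟨x^(2L), x y⟩` as a subgroup of `G` -/
def Qstd : Subgroup G := h.quat.map (S : Subgroup G).subtype

include h

theorem Tstd_le : Tstd S h ≤ (S : Subgroup G) := Subgroup.map_subtype_le _

theorem Qstd_le : Qstd S h ≤ (S : Subgroup G) := Subgroup.map_subtype_le _

theorem card_Tstd : Nat.card (Tstd S h) = 4 := by
  rw [Tstd, Subgroup.card_map_of_injective (Subgroup.subtype_injective _)]
  exact h.card_four

theorem mem_Tstd (g : G) : g ∈ Tstd S h ↔ g = 1 ∨ g = ((x ^ (4 * (L : ℤ)) : ↥(S : Subgroup G)) : G) ∨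
    g = (y : G) ∨ g = ((x ^ (4 * (L : ℤ)) : ↥(S : Subgroup G)) : G) * (y : G) := by
  constructor
  · rintro ⟨t, ht, rfl⟩
    rcases (h.mem_four t).mp ht with rfl | rfl | rfl | rfl
    · left; rfl
    · right; left; rfl
    · right; right; left; rfl
    · right; right; right; rfl
  · rintro (rfl | rfl | rfl | rfl)
    · exact one_mem _
    · exact ⟨_, (h.mem_four _).mpr (Or.inr (Or.inl rfl)), rfl⟩
    · exact ⟨_, (h.mem_four _).mpr (Or.inr (Or.inr (Or.inl rfl))), rfl⟩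
    · exact ⟨_, (h.mem_four _).mpr (Or.inr (Or.inr (Or.inr rfl))), rfl⟩

theorem q8gen : Q8Gen (Qstd S h) ((x ^ (2 * (L : ℤ)) : ↥(S : Subgroup G)) : G)
    ((x * y : ↥(S : Subgroup G)) : G) where
  hW := Subgroup.mem_map_of_mem _ h.w_mem_quat
  hU := Subgroup.mem_map_of_mem _ h.xy_mem_quat
  cover := by
    rintro _ ⟨s, hs, rfl⟩
    rcases hs with ⟨a, rfl⟩ | ⟨a, rfl⟩
    · refine ⟨a, Or.inl ?_⟩
      rw [← Subgroup.coe_zpow, ← zpow_mul]; rfl
    · refine ⟨a, Or.inr ?_⟩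
      rw [← Subgroup.coe_zpow, ← zpow_mul]
      show _ = (((x ^ (2 * (L : ℤ) * a) * (x * y) : ↥(S : Subgroup G))) : G)
      rw [← mul_assoc, ← zpow_add_one]; rfl
  oW := by rw [Subgroup.orderOf_coe]; exact h.orderOf_w
  sq := by
    have e : (x * y) * (x * y) = x ^ (2 * (L : ℤ)) * x ^ (2 * (L : ℤ)) := by
      have := h.sq_y 1
      rw [zpow_one] at this
      rw [this, ← zpow_add]; congr 1; ring
    show ((((x * y) * (x * y) : ↥(S : Subgroup G))) : G) = _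
    rw [e]; rfl
  conj := by
    have e : (x * y) * x ^ (2 * (L : ℤ)) * (x * y)⁻¹ = (x ^ (2 * (L : ℤ)))⁻¹ := by
      have : (x * y) * x ^ (2 * (L : ℤ)) * (x * y)⁻¹ =
          x * (y * x ^ (2 * (L : ℤ)) * y⁻¹) * x⁻¹ := by group
      rw [this, h.conj_w]; group
    show ((((x * y) * x ^ (2 * (L : ℤ)) * (x * y)⁻¹ : ↥(S : Subgroup G))) : G) = _
    rw [e]; rfl
  card := by
    rw [Qstd, Subgroup.card_map_of_injective (Subgroup.subtype_injective _)]
    exact card_quat h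

theorem W_mem_normalizer_Tstd :
    ((x ^ (2 * (L : ℤ)) : ↥(S : Subgroup G)) : G) ∈ normalizer ((Tstd S h : Subgroup G) : Set G) :=
  coe_mem_normalizer_map _ _ ((h.zpow_mem_normalizer_four _).mpr (dvd_refl _))

theorem y_mem_Tstd : (y : G) ∈ Tstd S h := (mem_Tstd S h _).mpr (Or.inr (Or.inr (Or.inl rfl)))

theorem z_mem_Tstd : ((x ^ (4 * (L : ℤ)) : ↥(S : Subgroup G)) : G) ∈ Tstd S h :=
  (mem_Tstd S h _).mpr (Or.inr (Or.inl rfl))

theorem W_conj_y : ((x ^ (2 * (L : ℤ)) : ↥(S : Subgroup G)) : G) * (y : G) *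
    ((x ^ (2 * (L : ℤ)) : ↥(S : Subgroup G)) : G)⁻¹ =
    ((x ^ (4 * (L : ℤ)) : ↥(S : Subgroup G)) : G) * (y : G) := by
  show (((x ^ (2 * (L : ℤ)) * y * (x ^ (2 * (L : ℤ)))⁻¹ : ↥(S : Subgroup G))) : G) = _
  rw [w_conj_y h]; rfl

theorem W_notin_centralizer_Tstd :
    ((x ^ (2 * (L : ℤ)) : ↥(S : Subgroup G)) : G) ∉ centralizer ((Tstd S h : Subgroup G) : Set G) := by
  intro hc
  rw [mem_centralizer_iff] at hc
  have h1 := hc _ (y_mem_Tstd S h)
  have h2 := W_conj_y S h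
  rw [← h1, mul_inv_cancel_right] at h2
  have h3 : ((x ^ (4 * (L : ℤ)) : ↥(S : Subgroup G)) : G) = 1 := by
    have : ((x ^ (4 * (L : ℤ)) : ↥(S : Subgroup G)) : G) =
      ((x ^ (4 * (L : ℤ)) : ↥(S : Subgroup G)) : G) * (y : G) * (y : G)⁻¹ := by group
    rw [this, ← h2]; group
  exact h.z_ne_one (Subtype.ext h3)

theorem z_central_S (g : G) (hg : g ∈ (S : Subgroup G)) :
    g * ((x ^ (4 * (L : ℤ)) : ↥(S : Subgroup G)) : G) =
      ((x ^ (4 * (L : ℤ)) : ↥(S : Subgroup G)) : G) * g :=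
  congrArg Subtype.val (h.z_central ⟨g, hg⟩)

theorem z_mem_centralizer_Tstd :
    ((x ^ (4 * (L : ℤ)) : ↥(S : Subgroup G)) : G) ∈ centralizer ((Tstd S h : Subgroup G) : Set G) := by
  rw [mem_centralizer_iff]
  intro g hg
  exact z_central_S S h g (Tstd_le S h hg)

theorem WW_eq_z : ((x ^ (2 * (L : ℤ)) : ↥(S : Subgroup G)) : G) *
    ((x ^ (2 * (L : ℤ)) : ↥(S : Subgroup G)) : G) = ((x ^ (4 * (L : ℤ)) : ↥(S : Subgroup G)) : G) := by
  show (((x ^ (2 * (L : ℤ)) * x ^ (2 * (L : ℤ)) : ↥(S : Subgroup G))) : G) = _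
  rw [← zpow_add]; congr 2; ring

/-- `|N(T) : C(T)| ∈ {2, 6}` for the standard four-group -/
theorem idxT_cases : (centralizer ((Tstd S h : Subgroup G) : Set G)).relIndex
      (normalizer ((Tstd S h : Subgroup G) : Set G)) = 2 ∨
    (centralizer ((Tstd S h : Subgroup G) : Set G)).relIndex
      (normalizer ((Tstd S h : Subgroup G) : Set G)) = 6 := by
  have h1 := four_relIndex_dvd_six (Tstd S h) (card_Tstd S h)
  have h2 := two_dvd_relIndex (four_normal (Tstd S h)) _ (W_mem_normalizer_Tstd S h)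
    (W_notin_centralizer_Tstd S h) (by rw [WW_eq_z S h]; exact z_mem_centralizer_Tstd S h)
  have h3 := Nat.le_of_dvd (by norm_num) h1
  generalize (centralizer ((Tstd S h : Subgroup G) : Set G)).relIndex
      (normalizer ((Tstd S h : Subgroup G) : Set G)) = r at *
  interval_cases r <;> omega

theorem xL_mem_normalizer_Qstd :
    ((x ^ (L : ℤ) : ↥(S : Subgroup G)) : G) ∈ normalizer ((Qstd S h : Subgroup G) : Set G) :=
  coe_mem_normalizer_map _ _ ((h.zpow_mem_normalizer_quat _).mpr (dvd_refl _))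

theorem xL_notin : ((x ^ (L : ℤ) : ↥(S : Subgroup G)) : G) ∉
    Qstd S h ⊔ centralizer ((Qstd S h : Subgroup G) : Set G) := by
  intro hm
  have hk : (⟨_, xL_mem_normalizer_Qstd S h⟩ : normalizer ((Qstd S h : Subgroup G) : Set G)) ∈
      (cycHom (Qstd S h)).ker := by
    rw [(q8gen S h).cycHom_ker_eq, mem_subgroupOf]
    exact hm
  rw [mem_cycHom_ker] at hk
  have h1 := hk (zpowers ((x * y : ↥(S : Subgroup G)) : G)) (zpowers_le.mpr (q8gen S h).hU)
    (by rw [Nat.card_zpowers, (q8gen S h).oU])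
  have h2 : ((x ^ (L : ℤ) : ↥(S : Subgroup G)) : G) * ((x * y : ↥(S : Subgroup G)) : G) *
      ((x ^ (L : ℤ) : ↥(S : Subgroup G)) : G)⁻¹ ∈ zpowers ((x * y : ↥(S : Subgroup G)) : G) := by
    rw [← h1]
    exact ⟨_, mem_zpowers _, rfl⟩
  obtain ⟨k, hk⟩ := mem_zpowers_iff.mp h2
  apply xL_conj_notin h
  rw [mem_zpowers_iff]
  refine ⟨k, Subtype.ext ?_⟩
  rw [Subgroup.coe_zpow]
  exact hk

theorem xLxL_mem : ((x ^ (L : ℤ) : ↥(S : Subgroup G)) : G) * ((x ^ (L : ℤ) : ↥(S : Subgroup G)) : G) ∈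
    Qstd S h ⊔ centralizer ((Qstd S h : Subgroup G) : Set G) := by
  apply Subgroup.mem_sup_left
  have : ((x ^ (L : ℤ) : ↥(S : Subgroup G)) : G) * ((x ^ (L : ℤ) : ↥(S : Subgroup G)) : G) =
      ((x ^ (2 * (L : ℤ)) : ↥(S : Subgroup G)) : G) := by
    show (((x ^ (L : ℤ) * x ^ (L : ℤ) : ↥(S : Subgroup G))) : G) = _
    rw [← zpow_add]; congr 2; ring
  rw [this]
  exact (q8gen S h).hW

/-- `|N(Q) : Q C(Q)| ∈ {2, 6}` for the standard quaternion subgroup -/
theorem idxQ_cases : (Qstd S h ⊔ centralizer ((Qstd S h : Subgroup G) : Set G)).relIndex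
      (normalizer ((Qstd S h : Subgroup G) : Set G)) = 2 ∨
    (Qstd S h ⊔ centralizer ((Qstd S h : Subgroup G) : Set G)).relIndex
      (normalizer ((Qstd S h : Subgroup G) : Set G)) = 6 := by
  have h1 := (q8gen S h).quat_relIndex_dvd_six
  have h2 := two_dvd_relIndex (q8gen S h).quat_normal _ (xL_mem_normalizer_Qstd S h)
    (xL_notin S h) (xLxL_mem S h)
  have h3 := Nat.le_of_dvd (by norm_num) h1
  generalize (Qstd S h ⊔ centralizer ((Qstd S h : Subgroup G) : Set G)).relIndex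
      (normalizer ((Qstd S h : Subgroup G) : Set G)) = r at *
  interval_cases r <;> omega

theorem four_sq (t : ↥(S : Subgroup G)) (ht : t ∈ h.four) : t ^ 2 = 1 := by
  rw [pow_two]
  rcases (h.mem_four t).mp ht with rfl | rfl | rfl | rfl
  · simp
  · exact h.z_sq
  · exact h.yy
  · have : x ^ (4 * (L : ℤ)) * y * (x ^ (4 * (L : ℤ)) * y) =
        x ^ (4 * (L : ℤ)) * (y * x ^ (4 * (L : ℤ))) * y := by group
    rw [this, h.z_central y]
    have : x ^ (4 * (L : ℤ)) * (x ^ (4 * (L : ℤ)) * y) * y =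
        (x ^ (4 * (L : ℤ)) * x ^ (4 * (L : ℤ))) * (y * y) := by group
    rw [this, h.z_sq, h.yy, one_mul]

theorem exists_conj_Tstd (T : Subgroup G) (hT : IsKleinFour T) (hTS : T ≤ (S : Subgroup G)) :
    ∃ g : G, (Tstd S h).map (MulAut.conj g).toMonoidHom = T := by
  have h1 : IsKleinFour (T.subgroupOf (S : Subgroup G)) := by
    apply Cfsg.Agent.Lib.Helper5_FourFix.isKleinFour_of
    · rw [Nat.card_congr (Subgroup.subgroupOfEquivOfLe hTS).toEquiv]
      exact IsKleinFour.card_four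
    · intro t ht
      rw [mem_subgroupOf] at ht
      apply Subtype.ext
      rw [Subgroup.coe_pow]
      exact Cfsg.Agent.Lib.Helper5_FourFix.sq_of_isKleinFour T hT _ ht
  obtain ⟨k, hk⟩ := h.exists_four _ h1
  obtain ⟨s, hs⟩ := h.exists_conj_even 0 k
  rw [zpow_zero, one_mul, zero_add] at hs
  refine ⟨(s : G), ?_⟩
  have h2 : h.four.map (MulAut.conj s).toMonoidHom = (h.rebase k).four := by
    apply Subgroup.eq_of_le_of_card_ge
    · rintro _ ⟨t, ht, rfl⟩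
      simp only [MulEquiv.coe_toMonoidHom, MulAut.conj_apply]
      rw [(h.rebase k).mem_four]
      have hz : s * x ^ (4 * (L : ℤ)) * s⁻¹ = x ^ (4 * (L : ℤ)) := by
        rw [h.z_central s]; group
      rcases (h.mem_four t).mp ht with rfl | rfl | rfl | rfl
      · left; group
      · right; left; exact hz
      · right; right; left; exact hs
      · right; right; right
        have : s * (x ^ (4 * (L : ℤ)) * y) * s⁻¹ = (s * x ^ (4 * (L : ℤ)) * s⁻¹) * (s * y * s⁻¹) := by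
          group
        rw [this, hz, hs]
    · rw [Cfsg.Agent.Lib.Helper5_Sylow.card_map_conj, h.card_four, (h.rebase k).card_four]
  rw [Tstd, ← map_conj_map_subtype, h2, ← hk, Subgroup.map_subgroupOf_eq_of_le hTS]

theorem exists_conj_Qstd (Q : Subgroup G) (hQS : Q ≤ (S : Subgroup G))
    (eQ : Nonempty (Q ≃* QuaternionGroup 2)) :
    ∃ g : G, (Qstd S h).map (MulAut.conj g).toMonoidHom = Q := by
  have e' : Nonempty (Q.subgroupOf (S : Subgroup G) ≃* QuaternionGroup 2) :=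
    eQ.map (fun e => (Subgroup.subgroupOfEquivOfLe hQS).trans e)
  obtain ⟨k, hk⟩ := h.exists_quat _ e'
  have h0 : h.quat = (h.rebase 0).quat := by
    ext g
    constructor
    · rintro (⟨a, rfl⟩ | ⟨a, rfl⟩)
      · exact Or.inl ⟨a, rfl⟩
      · exact Or.inr ⟨a, by simp⟩
    · rintro (⟨a, rfl⟩ | ⟨a, rfl⟩)
      · exact Or.inl ⟨a, rfl⟩
      · exact Or.inr ⟨a, by simp⟩
  have hle := h.map_conj_quat_le 0 k
  have h2 := Subgroup.eq_of_le_of_card_ge hle (by
    rw [Cfsg.Agent.Lib.Helper5_Sylow.card_map_conj, card_quat, card_quat])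
  refine ⟨((x ^ ((1 + 2 * (L : ℤ)) * (k - 0)) : ↥(S : Subgroup G)) : G), ?_⟩
  rw [Qstd, ← map_conj_map_subtype, h0, h2, ← hk, Subgroup.map_subgroupOf_eq_of_le hQS]

/-- transport of `|N(T) : C(T)|` to the standard four-group -/
theorem idxT_eq (T : Subgroup G) (hT : IsKleinFour T) (hTS : T ≤ (S : Subgroup G)) :
    (centralizer (T : Set G)).relIndex (normalizer (T : Set G)) =
    (centralizer ((Tstd S h : Subgroup G) : Set G)).relIndex
      (normalizer ((Tstd S h : Subgroup G) : Set G)) := by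
  obtain ⟨g, rfl⟩ := exists_conj_Tstd S h T hT hTS
  exact relIndex_cent_conj g _

/-- transport of `|N(Q) : Q C(Q)|` to the standard quaternion subgroup -/
theorem idxQ_eq (Q : Subgroup G) (hQS : Q ≤ (S : Subgroup G))
    (eQ : Nonempty (Q ≃* QuaternionGroup 2)) :
    (Q ⊔ centralizer (Q : Set G)).relIndex (normalizer (Q : Set G)) =
    (Qstd S h ⊔ centralizer ((Qstd S h : Subgroup G) : Set G)).relIndex
      (normalizer ((Qstd S h : Subgroup G) : Set G)) := by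
  obtain ⟨g, rfl⟩ := exists_conj_Qstd S h Q hQS eQ
  exact relIndex_sup_cent_conj g _

theorem Tstd_sq (g : G) (hg : g ∈ Tstd S h) : g ^ 2 = 1 := by
  obtain ⟨t, ht, rfl⟩ := hg
  have := four_sq S h t ht
  show ((t : G)) ^ 2 = 1
  rw [← Subgroup.coe_pow, this]; rfl

theorem z_ne_one_G : ((x ^ (4 * (L : ℤ)) : ↥(S : Subgroup G)) : G) ≠ 1 := fun he => h.z_ne_one (Subtype.ext he)

theorem y_ne_one_G : (y : G) ≠ 1 := fun he => h.y_ne_one (Subtype.ext he)

theorem conj_z_y_of_six (h6 : (centralizer ((Tstd S h : Subgroup G) : Set G)).relIndex (normalizer ((Tstd S h : Subgroup G) : Set G)) = 6) : IsConj ((x ^ (4 * (L : ℤ)) : ↥(S : Subgroup G)) : G) (y : G) := by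
  apply Cfsg.Agent.Lib.Helper5_FourFix.all_conj_of_move (Tstd S h) (card_Tstd S h) (Tstd_sq S h)
  · intro z hz hz1
    exact Cfsg.Agent.Lib.Helper5_FourFix.exists_move (Tstd S h) (card_Tstd S h) (Tstd_sq S h)
      (by rw [h6]; norm_num) z hz hz1
  · exact z_mem_Tstd S h
  · exact y_mem_Tstd S h
  · exact z_ne_one_G S h
  · exact y_ne_one_G S h

theorem conj_w_u_of_six (h6 : (Qstd S h ⊔ centralizer ((Qstd S h : Subgroup G) : Set G)).relIndex (normalizer ((Qstd S h : Subgroup G) : Set G)) = 6) : IsConj ((x ^ (2 * (L : ℤ)) : ↥(S : Subgroup G)) : G) ((x * y : ↥(S : Subgroup G)) : G) := by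
  obtain ⟨n, hn, hmap⟩ := (q8gen S h).exists_conj_of_six h6
  have h1 : n * ((x ^ (2 * (L : ℤ)) : ↥(S : Subgroup G)) : G) * n⁻¹ ∈ zpowers ((x * y : ↥(S : Subgroup G)) : G) := by rw [← hmap]; exact ⟨_, mem_zpowers _, rfl⟩
  have h2 : (n * ((x ^ (2 * (L : ℤ)) : ↥(S : Subgroup G)) : G) * n⁻¹) * (n * ((x ^ (2 * (L : ℤ)) : ↥(S : Subgroup G)) : G) * n⁻¹) ≠ 1 := by
    intro he
    apply (q8gen S h).W2_ne
    have : ((x ^ (2 * (L : ℤ)) : ↥(S : Subgroup G)) : G) * ((x ^ (2 * (L : ℤ)) : ↥(S : Subgroup G)) : G) = n⁻¹ * ((n * ((x ^ (2 * (L : ℤ)) : ↥(S : Subgroup G)) : G) * n⁻¹) * (n * ((x ^ (2 * (L : ℤ)) : ↥(S : Subgroup G)) : G) * n⁻¹)) * n := by group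
    rw [this, he]; group
  rcases Q8Gen.gen_cases ((x * y : ↥(S : Subgroup G)) : G) _ (q8gen S h).oU h1 h2 with he | he
  · exact isConj_iff.mpr ⟨n, he⟩
  · rw [isConj_iff]
    refine ⟨((x ^ (2 * (L : ℤ)) : ↥(S : Subgroup G)) : G)⁻¹ * n, ?_⟩
    have : ((x ^ (2 * (L : ℤ)) : ↥(S : Subgroup G)) : G)⁻¹ * n * ((x ^ (2 * (L : ℤ)) : ↥(S : Subgroup G)) : G) * (((x ^ (2 * (L : ℤ)) : ↥(S : Subgroup G)) : G)⁻¹ * n)⁻¹ = ((x ^ (2 * (L : ℤ)) : ↥(S : Subgroup G)) : G)⁻¹ * (n * ((x ^ (2 * (L : ℤ)) : ↥(S : Subgroup G)) : G) * n⁻¹) * ((x ^ (2 * (L : ℤ)) : ↥(S : Subgroup G)) : G) := by group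
    rw [this, he, ← (q8gen S h).conj']; group

omit h in
theorem exists_conj_mem_S (t : G) (n : ℕ) (ht : orderOf t = 2 ^ n) :
    ∃ g : G, g * t * g⁻¹ ∈ (S : Subgroup G) := by
  haveI : Fact (Nat.Prime 2) := ⟨Nat.prime_two⟩
  have hp : IsPGroup 2 (zpowers t) := IsPGroup.of_card (n := n) (by rw [Nat.card_zpowers, ht])
  obtain ⟨g, hg⟩ := Cfsg.Agent.Lib.Helper5_Sylow.exists_conj_le_sylow hp S
  exact ⟨g, hg ⟨t, mem_zpowers t, rfl⟩⟩

omit h [Finite G] in
theorem orderOf_conj' (g t : G) : orderOf (g * t * g⁻¹) = orderOf t :=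
  (MulAut.conj g).orderOf_eq t

theorem invol_conj (t : G) (ht : orderOf t = 2) : IsConj ((x ^ (4 * (L : ℤ)) : ↥(S : Subgroup G)) : G) t ∨ IsConj (y : G) t := by
  obtain ⟨g, hg⟩ := exists_conj_mem_S S t 1 (by rw [ht]; rfl)
  have ho : orderOf (⟨g * t * g⁻¹, hg⟩ : ↥(S : Subgroup G)) = 2 := by
    rw [← Subgroup.orderOf_coe]
    show orderOf (g * t * g⁻¹) = 2
    rw [orderOf_conj', ht]
  rcases h.invol_cases _ ho with he | ⟨k, he⟩
  · left; rw [isConj_iff]; refine ⟨g⁻¹, ?_⟩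
    have : g * t * g⁻¹ = ((x ^ (4 * (L : ℤ)) : ↥(S : Subgroup G)) : G) := congrArg Subtype.val he
    rw [← this]; group
  · right
    obtain ⟨s, hs⟩ := h.exists_conj_even 0 k
    rw [zpow_zero, one_mul, zero_add] at hs
    rw [isConj_iff]; refine ⟨g⁻¹ * (s : G), ?_⟩
    have h1 : g * t * g⁻¹ = (s : G) * (y : G) * (s : G)⁻¹ :=
      congrArg Subtype.val (he.trans hs.symm)
    have : t = g⁻¹ * (g * t * g⁻¹) * g := by group
    rw [this, h1]; group

theorem order4_conj (t : G) (ht : orderOf t = 4) : IsConj ((x ^ (2 * (L : ℤ)) : ↥(S : Subgroup G)) : G) t ∨ IsConj ((x * y : ↥(S : Subgroup G)) : G) t := by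
  obtain ⟨g, hg⟩ := exists_conj_mem_S S t 2 (by rw [ht]; rfl)
  have ho : orderOf (⟨g * t * g⁻¹, hg⟩ : ↥(S : Subgroup G)) = 4 := by
    rw [← Subgroup.orderOf_coe]
    show orderOf (g * t * g⁻¹) = 4
    rw [orderOf_conj', ht]
  rcases h.order4_cases _ ho with he | he | ⟨k, he⟩
  · left; rw [isConj_iff]; refine ⟨g⁻¹, ?_⟩
    have : g * t * g⁻¹ = ((x ^ (2 * (L : ℤ)) : ↥(S : Subgroup G)) : G) := congrArg Subtype.val he
    rw [← this]; group
  · left; rw [isConj_iff]; refine ⟨g⁻¹ * (y : G), ?_⟩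
    have h1 : g * t * g⁻¹ = (y : G) * ((x ^ (2 * (L : ℤ)) : ↥(S : Subgroup G)) : G) * (y : G)⁻¹ :=
      congrArg Subtype.val (he.trans h.conj_w.symm)
    have : t = g⁻¹ * (g * t * g⁻¹) * g := by group
    rw [this, h1]; group
  · right
    obtain ⟨s, hs⟩ := h.exists_conj_even 1 k
    rw [zpow_one] at hs
    rw [isConj_iff]; refine ⟨g⁻¹ * (s : G), ?_⟩
    have h1 : g * t * g⁻¹ = (s : G) * ((x * y : ↥(S : Subgroup G)) : G) * (s : G)⁻¹ := by
      have := congrArg Subtype.val (he.trans ((by rw [add_comm]) : x ^ (2 * k + 1) * y = x ^ (1 + 2 * k) * y))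
      exact this.trans (congrArg Subtype.val hs).symm
    have : t = g⁻¹ * (g * t * g⁻¹) * g := by group
    rw [this, h1]; group

theorem S_le_of_mem (H : Subgroup G) (hX : (x : G) ∈ H) (hY : (y : G) ∈ H) : (S : Subgroup G) ≤ H := by
  intro g hg
  rcases h.cases ⟨g, hg⟩ with ⟨i, hi⟩ | ⟨i, hi⟩
  · have : g = (x : G) ^ i := by
      have := congrArg Subtype.val hi
      rwa [Subgroup.coe_zpow] at this
    rw [this]; exact zpow_mem hX i
  · have : g = (x : G) ^ i * (y : G) := by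
      have := congrArg Subtype.val hi
      rwa [Subgroup.coe_mul, Subgroup.coe_zpow] at this
    rw [this]; exact mul_mem (zpow_mem hX i) hY

omit h in
theorem not_le_of_index_two (H : Subgroup G) (hH : H.index = 2) : ¬ (S : Subgroup G) ≤ H := by
  intro hle
  have h1 : H.index ∣ (S : Subgroup G).index := Subgroup.index_dvd_of_le hle
  rw [hH] at h1
  exact S.not_dvd_index h1

omit h [Finite G] in
/-- Counting one conjugacy class. -/
theorem card_classes_eq_one {S' : Type*} [Group S'] (P : S' → Prop) (a : S') (ha : P a)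
    (hall : ∀ t, P t → IsConj a t) :
    Nat.card {C : ConjClasses S' // ∃ t : S', P t ∧ ConjClasses.mk t = C} = 1 := by
  rw [Nat.card_eq_one_iff_exists]
  refine ⟨⟨ConjClasses.mk a, a, ha, rfl⟩, ?_⟩
  rintro ⟨C, t, ht, rfl⟩
  apply Subtype.ext
  exact (ConjClasses.mk_eq_mk_iff_isConj.mpr (hall t ht)).symm

theorem orderOf_Z : orderOf ((x ^ (4 * (L : ℤ)) : ↥(S : Subgroup G)) : G) = 2 := by rw [Subgroup.orderOf_coe]; exact h.orderOf_z

theorem orderOf_Y : orderOf (y : G) = 2 := by rw [Subgroup.orderOf_coe]; exact h.orderOf_y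

theorem XLXL_eq_W : ((x ^ (L : ℤ) : ↥(S : Subgroup G)) : G) * ((x ^ (L : ℤ) : ↥(S : Subgroup G)) : G) = ((x ^ (2 * (L : ℤ)) : ↥(S : Subgroup G)) : G) := by
  show (((x ^ (L : ℤ) * x ^ (L : ℤ) : ↥(S : Subgroup G))) : G) = _
  rw [← zpow_add]; congr 2; ring

theorem U_eq : ((x * y : ↥(S : Subgroup G)) : G) = (x : G) * (y : G) := rfl

omit h [Finite G] in
theorem mem_normalizer_zpowers_of_comm (s d : G) (hsd : s * d = d * s) :
    s ∈ normalizer ((zpowers d : Subgroup G) : Set G) := by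
  apply centralizer_le_normalizer
  rw [mem_centralizer_iff]
  intro c hc
  obtain ⟨k, rfl⟩ := mem_zpowers_iff.mp hc
  have : Commute s d := hsd
  exact ((this.zpow_right k).eq).symm

theorem W_mem_S : ((x ^ (2 * (L : ℤ)) : ↥(S : Subgroup G)) : G) ∈ (S : Subgroup G) := (x ^ (2 * (L : ℤ))).2

/-- if `|N(T) : C(T)| = 2` then `N(T)` centralizes `z` -/
theorem fix_z_of_two (h2 : (centralizer ((Tstd S h : Subgroup G) : Set G)).relIndex (normalizer ((Tstd S h : Subgroup G) : Set G)) = 2) (n : G) (hn : n ∈ normalizer ((Tstd S h : Subgroup G) : Set G)) :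
    n * ((x ^ (4 * (L : ℤ)) : ↥(S : Subgroup G)) : G) * n⁻¹ = ((x ^ (4 * (L : ℤ)) : ↥(S : Subgroup G)) : G) := by
  have hidx : ((centralizer ((Tstd S h : Subgroup G) : Set G)).subgroupOf (normalizer ((Tstd S h : Subgroup G) : Set G))).index = 2 := h2
  have key := Subgroup.mul_mem_iff_of_index_two hidx (a := ⟨n, hn⟩)
    (b := ⟨((x ^ (2 * (L : ℤ)) : ↥(S : Subgroup G)) : G), W_mem_normalizer_Tstd S h⟩)
  have hW : (⟨((x ^ (2 * (L : ℤ)) : ↥(S : Subgroup G)) : G), W_mem_normalizer_Tstd S h⟩ : normalizer ((Tstd S h : Subgroup G) : Set G)) ∉ (centralizer ((Tstd S h : Subgroup G) : Set G)).subgroupOf (normalizer ((Tstd S h : Subgroup G) : Set G)) := by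
    rw [mem_subgroupOf]; exact W_notin_centralizer_Tstd S h
  have hWZ : ((x ^ (2 * (L : ℤ)) : ↥(S : Subgroup G)) : G) * ((x ^ (4 * (L : ℤ)) : ↥(S : Subgroup G)) : G) = ((x ^ (4 * (L : ℤ)) : ↥(S : Subgroup G)) : G) * ((x ^ (2 * (L : ℤ)) : ↥(S : Subgroup G)) : G) := z_central_S S h _ (W_mem_S S h)
  by_cases hnC : n ∈ centralizer ((Tstd S h : Subgroup G) : Set G)
  · have := (mem_centralizer_iff.mp hnC) _ (z_mem_Tstd S h)
    rw [← this]; group
  · have h1 : (⟨n, hn⟩ * ⟨((x ^ (2 * (L : ℤ)) : ↥(S : Subgroup G)) : G), W_mem_normalizer_Tstd S h⟩ : normalizer ((Tstd S h : Subgroup G) : Set G)) ∈ (centralizer ((Tstd S h : Subgroup G) : Set G)).subgroupOf (normalizer ((Tstd S h : Subgroup G) : Set G)) :=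
      key.mpr (iff_of_false (by rw [mem_subgroupOf]; exact hnC) hW)
    rw [mem_subgroupOf] at h1
    have h3 := (mem_centralizer_iff.mp h1) _ (z_mem_Tstd S h)
    simp only [Subgroup.coe_mul] at h3
    have e1 : n * ((x ^ (4 * (L : ℤ)) : ↥(S : Subgroup G)) : G) * n⁻¹ = (n * ((x ^ (2 * (L : ℤ)) : ↥(S : Subgroup G)) : G)) * ((x ^ (4 * (L : ℤ)) : ↥(S : Subgroup G)) : G) * (n * ((x ^ (2 * (L : ℤ)) : ↥(S : Subgroup G)) : G))⁻¹ := by
      have : (n * ((x ^ (2 * (L : ℤ)) : ↥(S : Subgroup G)) : G)) * ((x ^ (4 * (L : ℤ)) : ↥(S : Subgroup G)) : G) * (n * ((x ^ (2 * (L : ℤ)) : ↥(S : Subgroup G)) : G))⁻¹ = n * (((x ^ (2 * (L : ℤ)) : ↥(S : Subgroup G)) : G) * ((x ^ (4 * (L : ℤ)) : ↥(S : Subgroup G)) : G)) * ((x ^ (2 * (L : ℤ)) : ↥(S : Subgroup G)) : G)⁻¹ * n⁻¹ := by group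
      rw [this, hWZ]; group
    rw [e1, ← h3]; group

theorem Tstd_comm (a : G) (ha : a ∈ Tstd S h) (b : G) (hb : b ∈ Tstd S h) : a * b = b * a :=
  Cfsg.Agent.Lib.Helper5_NormalFour.comm_of_sq (Tstd S h)
    (fun v hv => by rw [← pow_two]; exact Tstd_sq S h v hv) a ha b hb

theorem isPGroup_Tstd : IsPGroup 2 (Tstd S h) :=
  IsPGroup.of_card (n := 2) (by rw [card_Tstd S h]; rfl)

theorem zpowers_Z_cases (c : G) (hc : c ∈ zpowers ((x ^ (4 * (L : ℤ)) : ↥(S : Subgroup G)) : G)) : c = 1 ∨ c = ((x ^ (4 * (L : ℤ)) : ↥(S : Subgroup G)) : G) := by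
  obtain ⟨k, rfl⟩ := mem_zpowers_iff.mp hc
  rw [← Subgroup.coe_zpow, ← zpow_mul]
  rcases h.zpow_of_dvd (4 * (L : ℤ) * k) ⟨k, rfl⟩ with he | he
  · left; rw [he]; rfl
  · right; rw [he]

theorem Wconj_invol (k : ℤ) : x ^ (2 * (L : ℤ)) * (x ^ (2 * k) * y) * (x ^ (2 * (L : ℤ)))⁻¹ =
    x ^ (4 * (L : ℤ)) * (x ^ (2 * k) * y) := by
  rw [h.conj_x, QD.mul_xy, mul_left_inj]
  apply h.zpow_eq (-(L : ℤ))
  ring

/-- if `z` and `y` are conjugate in `G`, some element of `N(T)` moves `z` -/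
theorem exists_move_z (hc : IsConj ((x ^ (4 * (L : ℤ)) : ↥(S : Subgroup G)) : G) (y : G)) : ∃ n ∈ normalizer ((Tstd S h : Subgroup G) : Set G), n * ((x ^ (4 * (L : ℤ)) : ↥(S : Subgroup G)) : G) * n⁻¹ ≠ ((x ^ (4 * (L : ℤ)) : ↥(S : Subgroup G)) : G) := by
  obtain ⟨g, hg⟩ := isConj_iff.mp hc
  haveI : Fact (Nat.Prime 2) := ⟨Nat.prime_two⟩
  have hSN : (S : Subgroup G) ≤ normalizer ((zpowers ((x ^ (4 * (L : ℤ)) : ↥(S : Subgroup G)) : G) : Subgroup G) : Set G) := fun s hs =>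
    mem_normalizer_zpowers_of_comm s _ (z_central_S S h s hs)
  have hRN : Tstd S h ≤ normalizer ((zpowers (g * ((x ^ (4 * (L : ℤ)) : ↥(S : Subgroup G)) : G) * g⁻¹) : Subgroup G) : Set G) := by
    intro t ht
    rw [hg]
    exact mem_normalizer_zpowers_of_comm t _ (Tstd_comm S h t ht _ (y_mem_Tstd S h))
  obtain ⟨a, ha1, ha2⟩ := exists_conj_into S ((x ^ (4 * (L : ℤ)) : ↥(S : Subgroup G)) : G) g hSN (Tstd S h) (isPGroup_Tstd S h) hRN
  rw [hg] at ha2
  have haY : a * (y : G) * a⁻¹ = ((x ^ (4 * (L : ℤ)) : ↥(S : Subgroup G)) : G) := by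
    rcases zpowers_Z_cases S h _ ha2 with he | he
    · exfalso
      apply y_ne_one_G S h
      have : (y : G) = a⁻¹ * (a * (y : G) * a⁻¹) * a := by group
      rw [this, he]; group
    · exact he
  have haZ : a⁻¹ * ((x ^ (4 * (L : ℤ)) : ↥(S : Subgroup G)) : G) * a = (y : G) := by rw [← haY]; group
  have hvS : a * ((x ^ (4 * (L : ℤ)) : ↥(S : Subgroup G)) : G) * a⁻¹ ∈ (S : Subgroup G) := ha1 _ (z_mem_Tstd S h)
  have hv2 : orderOf (⟨a * ((x ^ (4 * (L : ℤ)) : ↥(S : Subgroup G)) : G) * a⁻¹, hvS⟩ : ↥(S : Subgroup G)) = 2 := by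
    rw [← Subgroup.orderOf_coe]
    show orderOf (a * ((x ^ (4 * (L : ℤ)) : ↥(S : Subgroup G)) : G) * a⁻¹) = 2
    rw [orderOf_conj', orderOf_Z S h]
  have hvZ : a * ((x ^ (4 * (L : ℤ)) : ↥(S : Subgroup G)) : G) * a⁻¹ ≠ ((x ^ (4 * (L : ℤ)) : ↥(S : Subgroup G)) : G) := by
    intro he
    have : ((x ^ (4 * (L : ℤ)) : ↥(S : Subgroup G)) : G) = (y : G) :=
      mul_left_cancel (mul_right_cancel (he.trans haY.symm))
    exact h.z_ne_y (Subtype.ext this)
  rcases h.invol_cases _ hv2 with he | ⟨k, he⟩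
  · exact absurd (congrArg Subtype.val he) hvZ
  · have hWv : ((x ^ (2 * (L : ℤ)) : ↥(S : Subgroup G)) : G) * (a * ((x ^ (4 * (L : ℤ)) : ↥(S : Subgroup G)) : G) * a⁻¹) * ((x ^ (2 * (L : ℤ)) : ↥(S : Subgroup G)) : G)⁻¹ = ((x ^ (4 * (L : ℤ)) : ↥(S : Subgroup G)) : G) * (a * ((x ^ (4 * (L : ℤ)) : ↥(S : Subgroup G)) : G) * a⁻¹) := by
      have e1 : a * ((x ^ (4 * (L : ℤ)) : ↥(S : Subgroup G)) : G) * a⁻¹ = ((x ^ (2 * k) * y : ↥(S : Subgroup G)) : G) := congrArg Subtype.val he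
      rw [e1]
      exact congrArg Subtype.val (Wconj_invol S h k)
    have hYZ : (y : G) * ((x ^ (4 * (L : ℤ)) : ↥(S : Subgroup G)) : G) = ((x ^ (4 * (L : ℤ)) : ↥(S : Subgroup G)) : G) * (y : G) := z_central_S S h _ y.2
    have hWZ : ((x ^ (2 * (L : ℤ)) : ↥(S : Subgroup G)) : G) * ((x ^ (4 * (L : ℤ)) : ↥(S : Subgroup G)) : G) = ((x ^ (4 * (L : ℤ)) : ↥(S : Subgroup G)) : G) * ((x ^ (2 * (L : ℤ)) : ↥(S : Subgroup G)) : G) := z_central_S S h _ (W_mem_S S h)
    have hnZ : a⁻¹ * ((x ^ (2 * (L : ℤ)) : ↥(S : Subgroup G)) : G) * a * ((x ^ (4 * (L : ℤ)) : ↥(S : Subgroup G)) : G) * (a⁻¹ * ((x ^ (2 * (L : ℤ)) : ↥(S : Subgroup G)) : G) * a)⁻¹ = ((x ^ (4 * (L : ℤ)) : ↥(S : Subgroup G)) : G) * (y : G) := by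
      have e1 : a⁻¹ * ((x ^ (2 * (L : ℤ)) : ↥(S : Subgroup G)) : G) * a * ((x ^ (4 * (L : ℤ)) : ↥(S : Subgroup G)) : G) * (a⁻¹ * ((x ^ (2 * (L : ℤ)) : ↥(S : Subgroup G)) : G) * a)⁻¹ =
          a⁻¹ * (((x ^ (2 * (L : ℤ)) : ↥(S : Subgroup G)) : G) * (a * ((x ^ (4 * (L : ℤ)) : ↥(S : Subgroup G)) : G) * a⁻¹) * ((x ^ (2 * (L : ℤ)) : ↥(S : Subgroup G)) : G)⁻¹) * a := by group
      rw [e1, hWv]
      have e2 : a⁻¹ * (((x ^ (4 * (L : ℤ)) : ↥(S : Subgroup G)) : G) * (a * ((x ^ (4 * (L : ℤ)) : ↥(S : Subgroup G)) : G) * a⁻¹)) * a = (a⁻¹ * ((x ^ (4 * (L : ℤ)) : ↥(S : Subgroup G)) : G) * a) * ((x ^ (4 * (L : ℤ)) : ↥(S : Subgroup G)) : G) := by group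
      rw [e2, haZ, hYZ]
    have hnY : a⁻¹ * ((x ^ (2 * (L : ℤ)) : ↥(S : Subgroup G)) : G) * a * (y : G) * (a⁻¹ * ((x ^ (2 * (L : ℤ)) : ↥(S : Subgroup G)) : G) * a)⁻¹ = (y : G) := by
      have e1 : a⁻¹ * ((x ^ (2 * (L : ℤ)) : ↥(S : Subgroup G)) : G) * a * (y : G) * (a⁻¹ * ((x ^ (2 * (L : ℤ)) : ↥(S : Subgroup G)) : G) * a)⁻¹ =
          a⁻¹ * (((x ^ (2 * (L : ℤ)) : ↥(S : Subgroup G)) : G) * (a * (y : G) * a⁻¹) * ((x ^ (2 * (L : ℤ)) : ↥(S : Subgroup G)) : G)⁻¹) * a := by group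
      rw [e1, haY, hWZ]
      have e2 : a⁻¹ * (((x ^ (4 * (L : ℤ)) : ↥(S : Subgroup G)) : G) * ((x ^ (2 * (L : ℤ)) : ↥(S : Subgroup G)) : G) * ((x ^ (2 * (L : ℤ)) : ↥(S : Subgroup G)) : G)⁻¹) * a = a⁻¹ * ((x ^ (4 * (L : ℤ)) : ↥(S : Subgroup G)) : G) * a := by group
      rw [e2, haZ]
    refine ⟨a⁻¹ * ((x ^ (2 * (L : ℤ)) : ↥(S : Subgroup G)) : G) * a, ?_, ?_⟩
    · haveI : Finite ((Tstd S h : Subgroup G) : Set G) := Set.toFinite _
      apply Subgroup.mem_normalizer_fintype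
      intro t ht
      rcases (mem_Tstd S h t).mp ht with rfl | rfl | rfl | rfl
      · simp only [mul_one, mul_inv_cancel]; exact one_mem _
      · rw [hnZ]; exact (mem_Tstd S h _).mpr (Or.inr (Or.inr (Or.inr rfl)))
      · rw [hnY]; exact y_mem_Tstd S h
      · have e1 : a⁻¹ * ((x ^ (2 * (L : ℤ)) : ↥(S : Subgroup G)) : G) * a * (((x ^ (4 * (L : ℤ)) : ↥(S : Subgroup G)) : G) * (y : G)) * (a⁻¹ * ((x ^ (2 * (L : ℤ)) : ↥(S : Subgroup G)) : G) * a)⁻¹ =
            (a⁻¹ * ((x ^ (2 * (L : ℤ)) : ↥(S : Subgroup G)) : G) * a * ((x ^ (4 * (L : ℤ)) : ↥(S : Subgroup G)) : G) * (a⁻¹ * ((x ^ (2 * (L : ℤ)) : ↥(S : Subgroup G)) : G) * a)⁻¹) *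
              (a⁻¹ * ((x ^ (2 * (L : ℤ)) : ↥(S : Subgroup G)) : G) * a * (y : G) * (a⁻¹ * ((x ^ (2 * (L : ℤ)) : ↥(S : Subgroup G)) : G) * a)⁻¹) := by group
        rw [e1, hnZ, hnY]
        exact mul_mem ((mem_Tstd S h _).mpr (Or.inr (Or.inr (Or.inr rfl)))) (y_mem_Tstd S h)
    · rw [hnZ]
      intro he
      apply y_ne_one_G S h
      have : (y : G) = ((x ^ (4 * (L : ℤ)) : ↥(S : Subgroup G)) : G)⁻¹ * (((x ^ (4 * (L : ℤ)) : ↥(S : Subgroup G)) : G) * (y : G)) := by group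
      rw [this, he]; group

theorem XL_comm_W : ((x ^ (L : ℤ) : ↥(S : Subgroup G)) : G) * ((x ^ (2 * (L : ℤ)) : ↥(S : Subgroup G)) : G) = ((x ^ (2 * (L : ℤ)) : ↥(S : Subgroup G)) : G) * ((x ^ (L : ℤ) : ↥(S : Subgroup G)) : G) := by
  show (((x ^ (L : ℤ) * x ^ (2 * (L : ℤ)) : ↥(S : Subgroup G))) : G) =
    (((x ^ (2 * (L : ℤ)) * x ^ (L : ℤ) : ↥(S : Subgroup G))) : G)
  rw [← zpow_add, ← zpow_add, add_comm]

/-- if `|N(Q) : Q C(Q)| = 2` then `N(Q)` normalizes `⟨x^(2L)⟩` -/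
theorem fix_W_of_two (h2 : (Qstd S h ⊔ centralizer ((Qstd S h : Subgroup G) : Set G)).relIndex (normalizer ((Qstd S h : Subgroup G) : Set G)) = 2) (n : G) (hn : n ∈ normalizer ((Qstd S h : Subgroup G) : Set G)) :
    (zpowers ((x ^ (2 * (L : ℤ)) : ↥(S : Subgroup G)) : G)).map (MulAut.conj n).toMonoidHom = zpowers ((x ^ (2 * (L : ℤ)) : ↥(S : Subgroup G)) : G) := by
  have hker := (q8gen S h).cycHom_ker_eq
  have hidx : ((cycHom (Qstd S h)).ker).index = 2 := by rw [hker]; exact h2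
  have key := Subgroup.mul_mem_iff_of_index_two hidx (a := ⟨n, hn⟩)
    (b := ⟨((x ^ (L : ℤ) : ↥(S : Subgroup G)) : G), xL_mem_normalizer_Qstd S h⟩)
  have hXL : (⟨((x ^ (L : ℤ) : ↥(S : Subgroup G)) : G), xL_mem_normalizer_Qstd S h⟩ : normalizer ((Qstd S h : Subgroup G) : Set G)) ∉ (cycHom (Qstd S h)).ker := by
    rw [hker, mem_subgroupOf]; exact xL_notin S h
  have hWc : zpowers ((x ^ (2 * (L : ℤ)) : ↥(S : Subgroup G)) : G) ≤ Qstd S h := zpowers_le.mpr (q8gen S h).hW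
  have hW4 : Nat.card (zpowers ((x ^ (2 * (L : ℤ)) : ↥(S : Subgroup G)) : G)) = 4 := by rw [Nat.card_zpowers, (q8gen S h).oW]
  have hXLW : (zpowers ((x ^ (2 * (L : ℤ)) : ↥(S : Subgroup G)) : G)).map (MulAut.conj ((x ^ (L : ℤ) : ↥(S : Subgroup G)) : G)).toMonoidHom = zpowers ((x ^ (2 * (L : ℤ)) : ↥(S : Subgroup G)) : G) := by
    rw [MonoidHom.map_zpowers]
    congr 1
    show ((x ^ (L : ℤ) : ↥(S : Subgroup G)) : G) * ((x ^ (2 * (L : ℤ)) : ↥(S : Subgroup G)) : G) * ((x ^ (L : ℤ) : ↥(S : Subgroup G)) : G)⁻¹ = ((x ^ (2 * (L : ℤ)) : ↥(S : Subgroup G)) : G)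
    rw [XL_comm_W S h]; group
  by_cases hnK : (⟨n, hn⟩ : normalizer ((Qstd S h : Subgroup G) : Set G)) ∈ (cycHom (Qstd S h)).ker
  · exact (mem_cycHom_ker _ _).mp hnK _ hWc hW4
  · have h1 := key.mpr (iff_of_false hnK hXL)
    have h3 := (mem_cycHom_ker _ _).mp h1 _ hWc hW4
    simp only [Subgroup.coe_mul] at h3
    rw [← Cfsg.Agent.Lib.Helper5_Sylow.map_conj_mul, hXLW] at h3
    exact h3

theorem S_le_normalizer_W : (S : Subgroup G) ≤ normalizer ((zpowers ((x ^ (2 * (L : ℤ)) : ↥(S : Subgroup G)) : G) : Subgroup G) : Set G) := by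
  intro s hs
  have h1 : (⟨s, hs⟩ : ↥(S : Subgroup G)) ∈ normalizer ((zpowers (x ^ (2 * (L : ℤ))) : Subgroup ↥(S : Subgroup G)) : Set ↥(S : Subgroup G)) := by
    haveI : Finite ((zpowers (x ^ (2 * (L : ℤ))) : Subgroup ↥(S : Subgroup G)) : Set ↥(S : Subgroup G)) := Set.toFinite _
    apply Subgroup.mem_normalizer_fintype
    intro c hc
    rw [SetLike.mem_coe] at hc ⊢
    obtain ⟨k, rfl⟩ := mem_zpowers_iff.mp hc
    have hk : ∀ k : ℤ, (x ^ (2 * (L : ℤ))) ^ k = x ^ (2 * (L : ℤ) * k) := fun k => (zpow_mul x _ k).symm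
    rw [hk]
    rcases h.cases ⟨s, hs⟩ with ⟨j, hj⟩ | ⟨j, hj⟩
    · rw [hj]
      have : x ^ j * x ^ (2 * (L : ℤ) * k) * (x ^ j)⁻¹ = x ^ (2 * (L : ℤ) * k) := by
        rw [← zpow_neg, ← zpow_add, ← zpow_add]; congr 1; ring
      rw [this, ← hk]; exact zpow_mem (mem_zpowers _) k
    · rw [hj]
      have : x ^ j * y * x ^ (2 * (L : ℤ) * k) * (x ^ j * y)⁻¹ =
          x ^ j * (y * x ^ (2 * (L : ℤ) * k) * y⁻¹) * (x ^ j)⁻¹ := by group
      rw [this, h.conj, ← zpow_neg, ← zpow_add, ← zpow_add]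
      have e : x ^ (j + (4 * (L : ℤ) - 1) * (2 * (L : ℤ) * k) + -j) = x ^ (2 * (L : ℤ) * (-k)) := by
        apply h.zpow_eq ((L : ℤ) * k)
        ring
      rw [e, ← hk]; exact zpow_mem (mem_zpowers _) _
  have h2 := coe_mem_normalizer_map _ _ h1
  rw [MonoidHom.map_zpowers] at h2
  exact h2

theorem isPGroup_Qstd : IsPGroup 2 (Qstd S h) :=
  IsPGroup.of_card (n := 3) (by rw [(q8gen S h).card]; rfl)

theorem xL_conj_odd (k : ℤ) : ∃ c₁ : ↥(S : Subgroup G), (c₁ = x ^ (2 * (L : ℤ)) ∨ c₁ = (x ^ (2 * (L : ℤ)))⁻¹) ∧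
    x ^ (L : ℤ) * (x ^ (2 * k + 1) * y) * (x ^ (L : ℤ))⁻¹ = c₁ * (x ^ (2 * k + 1) * y) := by
  refine ⟨x ^ ((2 - 4 * (L : ℤ)) * L), ?_, ?_⟩
  · have h1 : x ^ ((2 - 4 * (L : ℤ)) * L) = x ^ (2 * (L : ℤ)) * x ^ (4 * (L : ℤ) * (-L)) := by
      rw [← zpow_add]; congr 1; ring
    rcases h.zpow_of_dvd (4 * (L : ℤ) * (-L)) ⟨-L, rfl⟩ with he | he
    · left; rw [h1, he, mul_one]
    · right
      rw [h1, he, ← zpow_add, ← zpow_neg]
      apply h.zpow_eq 1
      ring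
  · rw [h.conj_x, QD.mul_xy]; congr 2; ring

/-- if `x^(2L)` and `x y` are conjugate in `G`, some element of `N(Q)` moves `⟨x^(2L)⟩` -/
theorem exists_move_W (hc : IsConj ((x ^ (2 * (L : ℤ)) : ↥(S : Subgroup G)) : G) ((x * y : ↥(S : Subgroup G)) : G)) :
    ∃ n ∈ normalizer ((Qstd S h : Subgroup G) : Set G), (zpowers ((x ^ (2 * (L : ℤ)) : ↥(S : Subgroup G)) : G)).map (MulAut.conj n).toMonoidHom ≠ zpowers ((x ^ (2 * (L : ℤ)) : ↥(S : Subgroup G)) : G) := by
  obtain ⟨g, hg⟩ := isConj_iff.mp hc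
  haveI : Fact (Nat.Prime 2) := ⟨Nat.prime_two⟩
  have hq := q8gen S h
  have hRN : Qstd S h ≤ normalizer ((zpowers (g * ((x ^ (2 * (L : ℤ)) : ↥(S : Subgroup G)) : G) * g⁻¹) : Subgroup G) : Set G) := by
    intro q hqQ
    rw [hg]
    exact Cfsg.Agent.Lib.Helper5_Sylow.mem_normalizer_of_map_eq q _
      (hq.map_conj_of_mem _ (zpowers_le.mpr hq.hU) (by rw [Nat.card_zpowers, hq.oU]) q hqQ)
  obtain ⟨a, ha1, ha2⟩ := exists_conj_into S ((x ^ (2 * (L : ℤ)) : ↥(S : Subgroup G)) : G) g (S_le_normalizer_W S h) (Qstd S h)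
    (isPGroup_Qstd S h) hRN
  rw [hg] at ha2
  -- `a U a⁻¹ = W^{±1}`
  have hc0 : a * ((x * y : ↥(S : Subgroup G)) : G) * a⁻¹ = ((x ^ (2 * (L : ℤ)) : ↥(S : Subgroup G)) : G) ∨ a * ((x * y : ↥(S : Subgroup G)) : G) * a⁻¹ = ((x ^ (2 * (L : ℤ)) : ↥(S : Subgroup G)) : G)⁻¹ := by
    apply Q8Gen.gen_cases ((x ^ (2 * (L : ℤ)) : ↥(S : Subgroup G)) : G) _ hq.oW ha2
    intro he
    apply hq.W2_ne
    rw [← hq.sq]
    have e1 : ((x * y : ↥(S : Subgroup G)) : G) * ((x * y : ↥(S : Subgroup G)) : G) = a⁻¹ * ((a * ((x * y : ↥(S : Subgroup G)) : G) * a⁻¹) * (a * ((x * y : ↥(S : Subgroup G)) : G) * a⁻¹)) * a := by group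
    rw [e1, he]; group
  -- `u₀ = a⁻¹ W a = U^{±1}`
  have hu0 : a⁻¹ * ((x ^ (2 * (L : ℤ)) : ↥(S : Subgroup G)) : G) * a = ((x * y : ↥(S : Subgroup G)) : G) ∨ a⁻¹ * ((x ^ (2 * (L : ℤ)) : ↥(S : Subgroup G)) : G) * a = ((x * y : ↥(S : Subgroup G)) : G)⁻¹ := by
    rcases hc0 with he | he
    · left; rw [← he]; group
    · right
      have : ((x ^ (2 * (L : ℤ)) : ↥(S : Subgroup G)) : G) = (a * ((x * y : ↥(S : Subgroup G)) : G) * a⁻¹)⁻¹ := by rw [he, inv_inv]
      rw [this]; group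
  have hUn : ((x * y : ↥(S : Subgroup G)) : G)⁻¹ ∉ zpowers ((x ^ (2 * (L : ℤ)) : ↥(S : Subgroup G)) : G) := fun hm => hq.U_notin (by simpa using inv_mem hm)
  -- `v = a W a⁻¹`
  have hvS : a * ((x ^ (2 * (L : ℤ)) : ↥(S : Subgroup G)) : G) * a⁻¹ ∈ (S : Subgroup G) := ha1 _ hq.hW
  have hv4 : orderOf (⟨a * ((x ^ (2 * (L : ℤ)) : ↥(S : Subgroup G)) : G) * a⁻¹, hvS⟩ : ↥(S : Subgroup G)) = 4 := by
    rw [← Subgroup.orderOf_coe]
    show orderOf (a * ((x ^ (2 * (L : ℤ)) : ↥(S : Subgroup G)) : G) * a⁻¹) = 4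
    rw [orderOf_conj', hq.oW]
  have hvW : a * ((x ^ (2 * (L : ℤ)) : ↥(S : Subgroup G)) : G) * a⁻¹ ∉ zpowers ((x ^ (2 * (L : ℤ)) : ↥(S : Subgroup G)) : G) := by
    intro hm
    have hvv : (a * ((x ^ (2 * (L : ℤ)) : ↥(S : Subgroup G)) : G) * a⁻¹) * (a * ((x ^ (2 * (L : ℤ)) : ↥(S : Subgroup G)) : G) * a⁻¹) ≠ 1 := by
      intro he
      apply hq.W2_ne
      have e1 : ((x ^ (2 * (L : ℤ)) : ↥(S : Subgroup G)) : G) * ((x ^ (2 * (L : ℤ)) : ↥(S : Subgroup G)) : G) = a⁻¹ * ((a * ((x ^ (2 * (L : ℤ)) : ↥(S : Subgroup G)) : G) * a⁻¹) * (a * ((x ^ (2 * (L : ℤ)) : ↥(S : Subgroup G)) : G) * a⁻¹)) * a := by group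
      rw [e1, he]; group
    have hWU : ((x ^ (2 * (L : ℤ)) : ↥(S : Subgroup G)) : G) = ((x * y : ↥(S : Subgroup G)) : G) ∨ ((x ^ (2 * (L : ℤ)) : ↥(S : Subgroup G)) : G) = ((x * y : ↥(S : Subgroup G)) : G)⁻¹ := by
      rcases Q8Gen.gen_cases ((x ^ (2 * (L : ℤ)) : ↥(S : Subgroup G)) : G) _ hq.oW hm hvv with he | he <;> rcases hc0 with he0 | he0
      · left; exact mul_left_cancel (mul_right_cancel (he.trans he0.symm))
      · right
        have : a * ((x ^ (2 * (L : ℤ)) : ↥(S : Subgroup G)) : G) * a⁻¹ = a * ((x * y : ↥(S : Subgroup G)) : G)⁻¹ * a⁻¹ := by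
          rw [he]
          have : a * ((x * y : ↥(S : Subgroup G)) : G)⁻¹ * a⁻¹ = (a * ((x * y : ↥(S : Subgroup G)) : G) * a⁻¹)⁻¹ := by group
          rw [this, he0, inv_inv]
        exact mul_left_cancel (mul_right_cancel this)
      · right
        have : a * ((x ^ (2 * (L : ℤ)) : ↥(S : Subgroup G)) : G) * a⁻¹ = a * ((x * y : ↥(S : Subgroup G)) : G)⁻¹ * a⁻¹ := by
          rw [he]
          have : a * ((x * y : ↥(S : Subgroup G)) : G)⁻¹ * a⁻¹ = (a * ((x * y : ↥(S : Subgroup G)) : G) * a⁻¹)⁻¹ := by group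
          rw [this, he0]
        exact mul_left_cancel (mul_right_cancel this)
      · left; exact mul_left_cancel (mul_right_cancel (he.trans he0.symm))
    rcases hWU with he | he
    · exact hq.U_notin (he ▸ mem_zpowers _)
    · exact hUn (he ▸ mem_zpowers _)
  rcases h.order4_cases _ hv4 with he | he | ⟨k, he⟩
  · have e1 : a * ((x ^ (2 * (L : ℤ)) : ↥(S : Subgroup G)) : G) * a⁻¹ =
        ((x ^ (2 * (L : ℤ)) : ↥(S : Subgroup G)) : G) := congrArg Subtype.val he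
    exact absurd (by rw [e1]; exact mem_zpowers _) hvW
  · have e1 : a * ((x ^ (2 * (L : ℤ)) : ↥(S : Subgroup G)) : G) * a⁻¹ =
        (((x ^ (2 * (L : ℤ)) : ↥(S : Subgroup G)) : G))⁻¹ := congrArg Subtype.val he
    exact absurd (by rw [e1]; exact inv_mem (mem_zpowers _)) hvW
  · obtain ⟨c₁, hc1, hconj⟩ := xL_conj_odd S h k
    have hv : a * ((x ^ (2 * (L : ℤ)) : ↥(S : Subgroup G)) : G) * a⁻¹ = ((x ^ (2 * k + 1) * y : ↥(S : Subgroup G)) : G) := congrArg Subtype.val he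
    have hmv : ((x ^ (L : ℤ) : ↥(S : Subgroup G)) : G) * (a * ((x ^ (2 * (L : ℤ)) : ↥(S : Subgroup G)) : G) * a⁻¹) * ((x ^ (L : ℤ) : ↥(S : Subgroup G)) : G)⁻¹ = (c₁ : G) * (a * ((x ^ (2 * (L : ℤ)) : ↥(S : Subgroup G)) : G) * a⁻¹) := by
      rw [hv]
      exact congrArg Subtype.val hconj
    -- `u₁ = a⁻¹ c₁ a = U^{±1}`
    have hu1 : a⁻¹ * (c₁ : G) * a = ((x * y : ↥(S : Subgroup G)) : G) ∨ a⁻¹ * (c₁ : G) * a = ((x * y : ↥(S : Subgroup G)) : G)⁻¹ := by
      rcases hc1 with rfl | rfl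
      · exact hu0
      · have : a⁻¹ * (((x ^ (2 * (L : ℤ)))⁻¹ : ↥(S : Subgroup G)) : G) * a = (a⁻¹ * ((x ^ (2 * (L : ℤ)) : ↥(S : Subgroup G)) : G) * a)⁻¹ := by
          show a⁻¹ * (((x ^ (2 * (L : ℤ)) : ↥(S : Subgroup G)) : G))⁻¹ * a = _
          group
        rw [this]
        rcases hu0 with he0 | he0
        · right; rw [he0]
        · left; rw [he0, inv_inv]
    have hc1W : ((x ^ (L : ℤ) : ↥(S : Subgroup G)) : G) * (c₁ : G) = (c₁ : G) * ((x ^ (L : ℤ) : ↥(S : Subgroup G)) : G) := by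
      rcases hc1 with rfl | rfl
      · exact XL_comm_W S h
      · have : Commute ((x ^ (L : ℤ) : ↥(S : Subgroup G)) : G) ((x ^ (2 * (L : ℤ)) : ↥(S : Subgroup G)) : G) := XL_comm_W S h
        exact (this.inv_right).eq
    have hc0W : ((x ^ (L : ℤ) : ↥(S : Subgroup G)) : G) * (a * ((x * y : ↥(S : Subgroup G)) : G) * a⁻¹) * ((x ^ (L : ℤ) : ↥(S : Subgroup G)) : G)⁻¹ = a * ((x * y : ↥(S : Subgroup G)) : G) * a⁻¹ := by
      have : Commute ((x ^ (L : ℤ) : ↥(S : Subgroup G)) : G) ((x ^ (2 * (L : ℤ)) : ↥(S : Subgroup G)) : G) := XL_comm_W S h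
      rcases hc0 with he0 | he0
      · rw [he0, this.eq]; group
      · rw [he0, (this.inv_right).eq]; group
    have hnW : a⁻¹ * ((x ^ (L : ℤ) : ↥(S : Subgroup G)) : G) * a * ((x ^ (2 * (L : ℤ)) : ↥(S : Subgroup G)) : G) * (a⁻¹ * ((x ^ (L : ℤ) : ↥(S : Subgroup G)) : G) * a)⁻¹ = (a⁻¹ * (c₁ : G) * a) * ((x ^ (2 * (L : ℤ)) : ↥(S : Subgroup G)) : G) := by
      have e1 : a⁻¹ * ((x ^ (L : ℤ) : ↥(S : Subgroup G)) : G) * a * ((x ^ (2 * (L : ℤ)) : ↥(S : Subgroup G)) : G) * (a⁻¹ * ((x ^ (L : ℤ) : ↥(S : Subgroup G)) : G) * a)⁻¹ =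
          a⁻¹ * (((x ^ (L : ℤ) : ↥(S : Subgroup G)) : G) * (a * ((x ^ (2 * (L : ℤ)) : ↥(S : Subgroup G)) : G) * a⁻¹) * ((x ^ (L : ℤ) : ↥(S : Subgroup G)) : G)⁻¹) * a := by group
      rw [e1, hmv]; group
    have hnU : a⁻¹ * ((x ^ (L : ℤ) : ↥(S : Subgroup G)) : G) * a * ((x * y : ↥(S : Subgroup G)) : G) * (a⁻¹ * ((x ^ (L : ℤ) : ↥(S : Subgroup G)) : G) * a)⁻¹ = ((x * y : ↥(S : Subgroup G)) : G) := by
      have e1 : a⁻¹ * ((x ^ (L : ℤ) : ↥(S : Subgroup G)) : G) * a * ((x * y : ↥(S : Subgroup G)) : G) * (a⁻¹ * ((x ^ (L : ℤ) : ↥(S : Subgroup G)) : G) * a)⁻¹ =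
          a⁻¹ * (((x ^ (L : ℤ) : ↥(S : Subgroup G)) : G) * (a * ((x * y : ↥(S : Subgroup G)) : G) * a⁻¹) * ((x ^ (L : ℤ) : ↥(S : Subgroup G)) : G)⁻¹) * a := by group
      rw [e1, hc0W]; group
    have hu1Q : a⁻¹ * (c₁ : G) * a ∈ Qstd S h := by
      rcases hu1 with he1 | he1
      · rw [he1]; exact hq.hU
      · rw [he1]; exact inv_mem hq.hU
    have hu1W : a⁻¹ * (c₁ : G) * a ∉ zpowers ((x ^ (2 * (L : ℤ)) : ↥(S : Subgroup G)) : G) := by
      rcases hu1 with he1 | he1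
      · rw [he1]; exact hq.U_notin
      · rw [he1]; exact hUn
    refine ⟨a⁻¹ * ((x ^ (L : ℤ) : ↥(S : Subgroup G)) : G) * a, ?_, ?_⟩
    · haveI := hq.finiteQ
      haveI : Finite ((Qstd S h : Subgroup G) : Set G) := Set.toFinite _
      apply Subgroup.mem_normalizer_fintype
      intro q hqQ
      rw [SetLike.mem_coe] at hqQ ⊢
      have hhom : ∀ q : G, a⁻¹ * ((x ^ (L : ℤ) : ↥(S : Subgroup G)) : G) * a * q * (a⁻¹ * ((x ^ (L : ℤ) : ↥(S : Subgroup G)) : G) * a)⁻¹ =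
          MulAut.conj (a⁻¹ * ((x ^ (L : ℤ) : ↥(S : Subgroup G)) : G) * a) q := fun q => rfl
      have hWm : MulAut.conj (a⁻¹ * ((x ^ (L : ℤ) : ↥(S : Subgroup G)) : G) * a) ((x ^ (2 * (L : ℤ)) : ↥(S : Subgroup G)) : G) ∈ Qstd S h := by
        rw [← hhom, hnW]; exact mul_mem hu1Q hq.hW
      have hUm : MulAut.conj (a⁻¹ * ((x ^ (L : ℤ) : ↥(S : Subgroup G)) : G) * a) ((x * y : ↥(S : Subgroup G)) : G) ∈ Qstd S h := by
        rw [← hhom, hnU]; exact hq.hU
      obtain ⟨i, rfl | rfl⟩ := hq.cover q hqQ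
      · rw [hhom, map_zpow]; exact zpow_mem hWm i
      · rw [hhom, map_mul, map_zpow]; exact mul_mem (zpow_mem hWm i) hUm
    · intro he
      have hm : a⁻¹ * ((x ^ (L : ℤ) : ↥(S : Subgroup G)) : G) * a * ((x ^ (2 * (L : ℤ)) : ↥(S : Subgroup G)) : G) * (a⁻¹ * ((x ^ (L : ℤ) : ↥(S : Subgroup G)) : G) * a)⁻¹ ∈ zpowers ((x ^ (2 * (L : ℤ)) : ↥(S : Subgroup G)) : G) := by
        rw [← he]; exact ⟨_, mem_zpowers _, rfl⟩
      rw [hnW] at hm
      apply hu1W
      have : a⁻¹ * (c₁ : G) * a = (a⁻¹ * (c₁ : G) * a * ((x ^ (2 * (L : ℤ)) : ↥(S : Subgroup G)) : G)) * ((x ^ (2 * (L : ℤ)) : ↥(S : Subgroup G)) : G)⁻¹ := by group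
      rw [this]
      exact mul_mem hm (inv_mem (mem_zpowers _))

theorem not_conj_z_y_of_two (h2 : (centralizer ((Tstd S h : Subgroup G) : Set G)).relIndex (normalizer ((Tstd S h : Subgroup G) : Set G)) = 2) : ¬ IsConj ((x ^ (4 * (L : ℤ)) : ↥(S : Subgroup G)) : G) (y : G) := fun hc => by
  obtain ⟨n, hn, hne⟩ := exists_move_z S h hc
  exact hne (fix_z_of_two S h h2 n hn)

theorem not_conj_w_u_of_two (h2 : (Qstd S h ⊔ centralizer ((Qstd S h : Subgroup G) : Set G)).relIndex (normalizer ((Qstd S h : Subgroup G) : Set G)) = 2) : ¬ IsConj ((x ^ (2 * (L : ℤ)) : ↥(S : Subgroup G)) : G) ((x * y : ↥(S : Subgroup G)) : G) :=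
  fun hc => by
  obtain ⟨n, hn, hne⟩ := exists_move_W S h hc
  exact hne (fix_W_of_two S h h2 n hn)

end Syl

end Cfsg.Agent.Lib.Helper5_QDFusion
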