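import Mathlib
import Cfsg.Agent.Lib.Helper5_QDFusion
import Cfsg.Agent.Lib.Helper6_QuatAut
import Cfsg.Agent.Lib.Helper7_NPC

set_option autoImplicit false

/-!
helper5: groups with quasi-dihedral Sylow 2-subgroups and no fusion of `z` with `y` nor of
`x^(2L)` with `x y` satisfy Frobenius' criterion, hence have a normal 2-complement.
-/

namespace Cfsg.Agent.Lib.Helper5_QDFrob

open Subgroup Cfsg.Agent.Lib.Helper5_QD Cfsg.Agent.Lib.Helper5_QDFusion

section Generic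

variable {G : Type*} [Group G]

theorem odd_centralizes_cyclic (A : Subgroup G) [Finite A] [IsCyclic A] (hA : IsPGroup 2 A) (g : G)
    (hg : g ∈ normalizer (A : Set G)) (hodd : Odd (orderOf g)) : ∀ a ∈ A, g * a * g⁻¹ = a := by
  have h1 := Cfsg.Agent.Lib.Helper6_QuatAut.odd_aut_cyclic_trivial hA
    (Cfsg.Agent.Lib.Helper6_QuatAut.conjAut A g hg) (orderOf g) hodd
    (Cfsg.Agent.Lib.Helper6_QuatAut.conjAut_pow_orderOf A g hg)
  intro a ha
  have := congrArg (fun γ : MulAut A => ((γ ⟨a, ha⟩ : A) : G)) h1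
  simpa [Cfsg.Agent.Lib.Helper6_QuatAut.conjAut_apply] using this

theorem odd_centralizes_ext (A : Subgroup G) (hA2 : IsPGroup 2 A) (g : G) (hodd : Odd (orderOf g))
    (hgA : ∀ a ∈ A, g * a * g⁻¹ = a) (t : G) (hgt : t⁻¹ * (g * t * g⁻¹) ∈ A) :
    g * t * g⁻¹ = t := by
  set a' := t⁻¹ * (g * t * g⁻¹) with ha'
  have h1 : g * t * g⁻¹ = t * a' := by rw [ha']; group
  have hk : ∀ k : ℕ, g ^ k * t * (g ^ k)⁻¹ = t * a' ^ k := by
    intro k
    induction k with
    | zero => simp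
    | succ k ih =>
      have e1 : g ^ (k + 1) * t * (g ^ (k + 1))⁻¹ = g * (g ^ k * t * (g ^ k)⁻¹) * g⁻¹ := by
        rw [pow_succ']; group
      rw [e1, ih]
      have e2 : g * (t * a' ^ k) * g⁻¹ = (g * t * g⁻¹) * (g * a' ^ k * g⁻¹) := by group
      rw [e2, h1, hgA _ (pow_mem hgt k), pow_succ']; group
  have h2 := hk (orderOf g)
  rw [pow_orderOf_eq_one] at h2
  have h3 : a' ^ orderOf g = 1 := by
    have : t = t * a' ^ orderOf g := by simpa using h2
    exact (mul_eq_left.mp this.symm)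
  obtain ⟨j, hj⟩ := hA2 ⟨a', hgt⟩
  have h4 : a' ^ 2 ^ j = 1 := by
    have := congrArg Subtype.val hj
    simpa using this
  have h5 : orderOf a' ∣ Nat.gcd (orderOf g) (2 ^ j) :=
    Nat.dvd_gcd (orderOf_dvd_of_pow_eq_one h3) (orderOf_dvd_of_pow_eq_one h4)
  have h6 : Nat.gcd (orderOf g) (2 ^ j) = 1 :=
    Nat.Coprime.pow_right j (Nat.coprime_two_right.mpr hodd)
  rw [h6, Nat.dvd_one, orderOf_eq_one_iff] at h5
  rw [h1, h5, mul_one]

end Generic

section Syl

variable {G : Type*} [Group G] [Finite G] (S : Sylow 2 G) {L : ℕ} {x y : ↥(S : Subgroup G)}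
  (h : QD ↥(S : Subgroup G) L x y)

include h

omit [Finite G] in
theorem isConj_coe (s a b : ↥(S : Subgroup G)) (hs : s * a * s⁻¹ = b) : IsConj (a : G) (b : G) :=
  isConj_iff.mpr ⟨(s : G), congrArg Subtype.val hs⟩

/-- without fusion, conjugates of elements of `⟨x⟩` lying in `S` stay in `⟨x⟩` -/
theorem conj_mem_zpowers_X (hzy : ¬ IsConj ((x ^ (4 * (L : ℤ)) : ↥(S : Subgroup G)) : G) (y : G)) (hwu : ¬ IsConj ((x ^ (2 * (L : ℤ)) : ↥(S : Subgroup G)) : G) ((x * y : ↥(S : Subgroup G)) : G)) (g a : G)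
    (ha : a ∈ zpowers (x : G)) (hgS : g * a * g⁻¹ ∈ (S : Subgroup G)) : g * a * g⁻¹ ∈ zpowers (x : G) := by
  obtain ⟨j, rfl⟩ := mem_zpowers_iff.mp ha
  have hXj : (x : G) ^ j = ((x ^ j : ↥(S : Subgroup G)) : G) := (Subgroup.coe_zpow _ _ _).symm
  rcases h.cases ⟨g * (x : G) ^ j * g⁻¹, hgS⟩ with ⟨i, hi⟩ | ⟨i, hi⟩
  · have e1 : g * (x : G) ^ j * g⁻¹ = (x : G) ^ i := by
      have := congrArg Subtype.val hi
      rwa [Subgroup.coe_zpow] at this
    rw [e1]; exact zpow_mem (mem_zpowers _) i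
  · exfalso
    have hb : g * (x : G) ^ j * g⁻¹ = ((x ^ i * y : ↥(S : Subgroup G)) : G) := congrArg Subtype.val hi
    rcases Int.even_or_odd' i with ⟨k, rfl | rfl⟩
    · have ho : orderOf (x ^ j : ↥(S : Subgroup G)) = 2 := by
        rw [← Subgroup.orderOf_coe, ← hXj, ← orderOf_conj' g, hb, Subgroup.orderOf_coe]
        exact h.orderOf_y_even k
      rcases h.invol_cases _ ho with he | ⟨k', he⟩
      · apply hzy
        have h1 : IsConj ((x ^ (4 * (L : ℤ)) : ↥(S : Subgroup G)) : G) ((x ^ (2 * k) * y : ↥(S : Subgroup G)) : G) :=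
          isConj_iff.mpr ⟨g, by rw [← hb, hXj, he]⟩
        obtain ⟨s, hs⟩ := h.exists_conj_even 0 k
        rw [zpow_zero, one_mul, zero_add] at hs
        exact h1.trans (isConj_coe S h s _ _ hs).symm
      · exact absurd he (h.ne _ _)
    · have ho : orderOf (x ^ j : ↥(S : Subgroup G)) = 4 := by
        rw [← Subgroup.orderOf_coe, ← hXj, ← orderOf_conj' g, hb, Subgroup.orderOf_coe]
        exact h.orderOf_y_odd k
      have hs : IsConj ((x * y : ↥(S : Subgroup G)) : G) ((x ^ (2 * k + 1) * y : ↥(S : Subgroup G)) : G) := by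
        obtain ⟨s, hs⟩ := h.exists_conj_even 1 k
        rw [zpow_one, add_comm] at hs
        exact isConj_coe S h s _ _ hs
      rcases h.order4_cases _ ho with he | he | ⟨k', he⟩
      · apply hwu
        have h1 : IsConj ((x ^ (2 * (L : ℤ)) : ↥(S : Subgroup G)) : G) ((x ^ (2 * k + 1) * y : ↥(S : Subgroup G)) : G) :=
          isConj_iff.mpr ⟨g, by rw [← hb, hXj, he]⟩
        exact h1.trans hs.symm
      · apply hwu
        have h1 : IsConj (((x ^ (2 * (L : ℤ)))⁻¹ : ↥(S : Subgroup G)) : G) ((x ^ (2 * k + 1) * y : ↥(S : Subgroup G)) : G) :=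
          isConj_iff.mpr ⟨g, by rw [← hb, hXj, he]⟩
        have h2 : IsConj ((x ^ (2 * (L : ℤ)) : ↥(S : Subgroup G)) : G) (((x ^ (2 * (L : ℤ)))⁻¹ : ↥(S : Subgroup G)) : G) :=
          isConj_coe S h y _ _ h.conj_w
        exact (h2.trans h1).trans hs.symm
      · exact absurd he (h.ne _ _)

/-- Frobenius' hypothesis for subgroups of `S` -/
theorem frob (hzy : ¬ IsConj ((x ^ (4 * (L : ℤ)) : ↥(S : Subgroup G)) : G) (y : G)) (hwu : ¬ IsConj ((x ^ (2 * (L : ℤ)) : ↥(S : Subgroup G)) : G) ((x * y : ↥(S : Subgroup G)) : G)) (P : Subgroup G)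
    (hPS : P ≤ (S : Subgroup G)) (g : G) (hg : g ∈ normalizer (P : Set G))
    (hodd : Nat.Coprime (orderOf g) 2) : g ∈ centralizer (P : Set G) := by
  have hodd' : Odd (orderOf g) := Nat.Coprime.odd_of_right hodd
  set A : Subgroup G := P ⊓ zpowers (x : G) with hA
  have hgA : ∀ a ∈ A, g * a * g⁻¹ ∈ A := fun a ha =>
    ⟨(mem_normalizer_iff.mp hg a).mp ha.1,
      conj_mem_zpowers_X S h hzy hwu g a ha.2 (hPS ((mem_normalizer_iff.mp hg a).mp ha.1))⟩
  have hgN : g ∈ normalizer (A : Set G) := by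
    haveI : Finite ((A : Subgroup G) : Set G) := Set.toFinite _
    exact Subgroup.mem_normalizer_fintype (fun a ha => hgA a ha)
  haveI : IsCyclic A := Subgroup.isCyclic_of_le (inf_le_right : A ≤ zpowers (x : G))
  have hA2 : IsPGroup 2 A := S.isPGroup'.to_le (inf_le_left.trans hPS)
  have hcA := odd_centralizes_cyclic A hA2 g hgN hodd'
  rw [mem_centralizer_iff]
  intro t ht
  suffices hs : g * t * g⁻¹ = t by
    have : g * t = (g * t * g⁻¹) * g := by group
    rw [this, hs]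
  by_cases htX : t ∈ zpowers (x : G)
  · exact hcA t ⟨ht, htX⟩
  · apply odd_centralizes_ext A hA2 g hodd' hcA t
    have hgt : g * t * g⁻¹ ∈ P := (mem_normalizer_iff.mp hg t).mp ht
    rw [hA, Subgroup.mem_inf]
    refine ⟨P.mul_mem (P.inv_mem ht) hgt, ?_⟩
    have hgtX : g * t * g⁻¹ ∉ zpowers (x : G) := by
      intro hm
      have h1 : g * t * g⁻¹ ∈ A := ⟨hgt, hm⟩
      have h2 := (mem_normalizer_iff.mp hgN t).mpr h1
      exact htX h2.2
    have key : ∀ u : G, u ∈ (S : Subgroup G) → u ∉ zpowers (x : G) → ∃ i : ℤ, u = ((x ^ i * y : ↥(S : Subgroup G)) : G) := by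
      intro u hu hux
      rcases h.cases ⟨u, hu⟩ with ⟨i, hi⟩ | ⟨i, hi⟩
      · exfalso; apply hux
        have := congrArg Subtype.val hi
        rw [Subgroup.coe_zpow] at this
        rw [show u = (x : G) ^ i from this]; exact zpow_mem (mem_zpowers _) i
      · exact ⟨i, congrArg Subtype.val hi⟩
    obtain ⟨i, hi⟩ := key t (hPS ht) htX
    obtain ⟨j, hj⟩ := key _ (hPS hgt) hgtX
    rw [hj, hi]
    have h3 : (x ^ i * y)⁻¹ * (x ^ j * y) = y⁻¹ * x ^ (j - i) * (y⁻¹)⁻¹ := by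
      rw [zpow_sub]; group
    have h4 := h.conj_mem_zpowers y⁻¹ (j - i)
    rw [← h3] at h4
    obtain ⟨k, hk⟩ := mem_zpowers_iff.mp h4
    have h5 : (((x ^ i * y : ↥(S : Subgroup G)) : G))⁻¹ * ((x ^ j * y : ↥(S : Subgroup G)) : G) = (x : G) ^ k := by
      have := congrArg Subtype.val hk
      rw [Subgroup.coe_zpow] at this
      exact this.symm
    rw [h5]; exact zpow_mem (mem_zpowers _) k

theorem frobHyp (hzy : ¬ IsConj ((x ^ (4 * (L : ℤ)) : ↥(S : Subgroup G)) : G) (y : G)) (hwu : ¬ IsConj ((x ^ (2 * (L : ℤ)) : ↥(S : Subgroup G)) : G) ((x * y : ↥(S : Subgroup G)) : G)) :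
    Cfsg.Agent.Lib.Helper7_NPC.FrobHyp 2 G := by
  haveI : Fact (Nat.Prime 2) := ⟨Nat.prime_two⟩
  exact Cfsg.Agent.Lib.Helper7_NPC.frobHyp_of_sylow S
    (fun P hPS g hg hodd => frob S h hzy hwu P hPS g hg hodd)

theorem hasNPC (hzy : ¬ IsConj ((x ^ (4 * (L : ℤ)) : ↥(S : Subgroup G)) : G) (y : G)) (hwu : ¬ IsConj ((x ^ (2 * (L : ℤ)) : ↥(S : Subgroup G)) : G) ((x * y : ↥(S : Subgroup G)) : G)) :
    Cfsg.HasNormalPComplement 2 G := by
  haveI : Fact (Nat.Prime 2) := ⟨Nat.prime_two⟩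
  exact Cfsg.Agent.Lib.Helper7_NPC.hasNormalPComplement_iff_npc.mpr
    (Cfsg.Agent.Lib.Helper7_NPC.npc_of_frobHyp (frobHyp S h hzy hwu))

end Syl

end Cfsg.Agent.Lib.Helper5_QDFrob
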