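import Mathlib
import Cfsg.Agent.Lib.Helper5_QDFusion
import Cfsg.Agent.Lib.Helper4_SylowNormal
import Cfsg.Agent.S3225

set_option autoImplicit false

/-!
helper5: subgroups of index 2 in groups with quasi-dihedral Sylow 2-subgroups.
-/

namespace Cfsg.Agent.Lib.Helper5_QDIndex2

open Subgroup Cfsg.Agent.Lib.Helper5_QD Cfsg.Agent.Lib.Helper5_QDFusion

section Generic

variable {G : Type*} [Group G]

/-- `H ∩ K` seen inside `K` and inside `H` -/
def subgroupOfComm (H K : Subgroup G) : ↥(H.subgroupOf K) ≃* ↥(K.subgroupOf H) where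
  toFun g := ⟨⟨g.1.1, g.2⟩, g.1.2⟩
  invFun g := ⟨⟨g.1.1, g.2⟩, g.1.2⟩
  left_inv _ := rfl
  right_inv _ := rfl
  map_mul' _ _ := rfl

end Generic

section Syl

variable {G : Type*} [Group G] [Finite G] (S : Sylow 2 G) {L : ℕ} {x y : ↥(S : Subgroup G)}
  (h : QD ↥(S : Subgroup G) L x y) (K : Subgroup G) (hK : K.index = 2)

include h hK

omit h in
theorem relIndex_K : K.relIndex (S : Subgroup G) = 2 := by
  haveI : K.Normal := Subgroup.normal_of_index_eq_two hK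
  have h1 : K.relIndex (S : Subgroup G) ∣ 2 := by
    have := Subgroup.relIndex_dvd_index_of_normal K (S : Subgroup G)
    rwa [hK] at this
  have h2 : K.relIndex (S : Subgroup G) ≠ 1 := by
    intro he
    rw [Subgroup.relIndex_eq_one] at he
    exact not_le_of_index_two S K hK he
  rcases (Nat.dvd_prime Nat.prime_two).mp h1 with h3 | h3
  · exact absurd h3 h2
  · exact h3

theorem KS_cases : K.subgroupOf (S : Subgroup G) = zpowers x ∨
    K.subgroupOf (S : Subgroup G) = h.Mt 1 ∨ K.subgroupOf (S : Subgroup G) = h.Mt 0 :=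
  h.index_two_cases _ (relIndex_K S K hK)

/-- every Sylow 2-subgroup of `K` is isomorphic to `K ∩ S` -/
theorem sylow_equiv (e : ℤ) (hKS : K.subgroupOf (S : Subgroup G) = h.Mt e) (P : Sylow 2 ↥K) :
    Nonempty ((P : Subgroup ↥K) ≃* h.Mt e) := by
  haveI : Fact (Nat.Prime 2) := ⟨Nat.prime_two⟩
  haveI : K.Normal := Subgroup.normal_of_index_eq_two hK
  obtain ⟨P₀, hP₀⟩ := Cfsg.Agent.Lib.Helper4_SylowNormal.exists_sylow_eq_subgroupOf S K
  have e1 : (P : Subgroup ↥K) ≃* (P₀ : Subgroup ↥K) := Sylow.equiv P P₀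
  have e2 : (P₀ : Subgroup ↥K) ≃* ((S : Subgroup G).subgroupOf K) := MulEquiv.subgroupCongr hP₀
  have e3 := subgroupOfComm (S : Subgroup G) K
  have e4 : (K.subgroupOf (S : Subgroup G)) ≃* h.Mt e := MulEquiv.subgroupCongr hKS
  exact ⟨((e1.trans e2).trans e3).trans e4⟩

omit h in
/-- a subgroup of `K` containing `K ∩ S` does not have index 2 -/
theorem no_index_two (H' : Subgroup ↥K) (hH' : H'.index = 2)
    (hgen : ∀ k : ↥K, (k : G) ∈ (S : Subgroup G) → k ∈ H') : False := by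
  haveI : Fact (Nat.Prime 2) := ⟨Nat.prime_two⟩
  haveI : K.Normal := Subgroup.normal_of_index_eq_two hK
  obtain ⟨P₀, hP₀⟩ := Cfsg.Agent.Lib.Helper4_SylowNormal.exists_sylow_eq_subgroupOf S K
  apply not_le_of_index_two P₀ H' hH'
  rw [hP₀]
  intro k hk
  rw [mem_subgroupOf] at hk
  exact hgen k hk

omit h in
theorem exists_notin : ∃ s₀ ∈ (S : Subgroup G), s₀ ∉ K := by
  by_contra hno
  push_neg at hno
  exact not_le_of_index_two S K hK hno

end Syl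

section Thompson

variable {G : Type*} [Group G] [Finite G] (S : Sylow 2 G) {L : ℕ} {x y : ↥(S : Subgroup G)}
  (h : QD ↥(S : Subgroup G) L x y)

include h

theorem even_card : Even (Nat.card G) := by
  have h1 : Nat.card (S : Subgroup G) ∣ Nat.card G := Subgroup.card_subgroup_dvd_card _
  rw [h.card] at h1
  exact (even_iff_two_dvd.mpr ⟨8 * L, by ring⟩).trans_dvd h1

theorem relIndex_Mt (e : ℤ) : ((h.Mt e).map (S : Subgroup G).subtype).relIndex (S : Subgroup G) = 2 := by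
  show (((h.Mt e).map (S : Subgroup G).subtype).subgroupOf (S : Subgroup G)).index = 2
  have : ((h.Mt e).map (S : Subgroup G).subtype).subgroupOf (S : Subgroup G) = h.Mt e :=
    Subgroup.comap_map_eq_self_of_injective (Subgroup.subtype_injective _) _
  rw [this]; exact h.index_Mt e

theorem mem_Mt_map (e : ℤ) (g : G) (hg : g ∈ (S : Subgroup G)) :
    g ∈ (h.Mt e).map (S : Subgroup G).subtype ↔ (⟨g, hg⟩ : ↥(S : Subgroup G)) ∈ h.Mt e := by
  constructor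
  · rintro ⟨m, hm, hme⟩
    have : m = ⟨g, hg⟩ := Subtype.ext hme
    rw [← this]; exact hm
  · intro hm
    exact ⟨⟨g, hg⟩, hm, rfl⟩

/-- if `x^(2L)` and `x y` are not conjugate, `G` has a subgroup of index 2 -/
theorem exists_index_two_of_not_wu (hwu : ¬ IsConj ((x ^ (2 * (L : ℤ)) : ↥(S : Subgroup G)) : G) ((x * y : ↥(S : Subgroup G)) : G)) : ∃ K : Subgroup G, K.index = 2 := by
  by_contra hno
  push_neg at hno
  obtain ⟨g, hg⟩ := Cfsg.Agent.S3225.result (even_card S h) hno S ((h.Mt 0).map (S : Subgroup G).subtype)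
    (Subgroup.map_subtype_le _) (relIndex_Mt S h 0) 2 (by norm_num)
    (by
      intro y' hy' hy'M
      by_contra hle
      push_neg at hle
      have hpos : 0 < orderOf y' := orderOf_pos y'
      have h12 : orderOf y' = 1 ∨ orderOf y' = 2 := by
        have : orderOf y' ≤ 2 := hle
        omega
      rcases h12 with h1 | h2
      · rw [orderOf_eq_one_iff] at h1
        exact hy'M (h1 ▸ one_mem _)
      · apply hy'M
        rw [mem_Mt_map S h 0 y' hy']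
        apply h.invol_mem_Mt_zero
        rw [← Subgroup.orderOf_coe]; exact h2)
    ((x * y : ↥(S : Subgroup G)) : G) (x * y).2 (by rw [(q8gen S h).oU]; rfl)
  have hgS : g * ((x * y : ↥(S : Subgroup G)) : G) * g⁻¹ ∈ (S : Subgroup G) := Subgroup.map_subtype_le _ hg
  rw [mem_Mt_map S h 0 _ hgS] at hg
  have ho : orderOf (⟨g * ((x * y : ↥(S : Subgroup G)) : G) * g⁻¹, hgS⟩ : ↥(S : Subgroup G)) = 4 := by
    rw [← Subgroup.orderOf_coe]
    show orderOf (g * ((x * y : ↥(S : Subgroup G)) : G) * g⁻¹) = 4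
    rw [orderOf_conj', (q8gen S h).oU]
  apply hwu
  rcases h.order4_cases _ ho with he | he | ⟨k, he⟩
  · rw [isConj_iff]; refine ⟨g⁻¹, ?_⟩
    have e1 : g * ((x * y : ↥(S : Subgroup G)) : G) * g⁻¹ = ((x ^ (2 * (L : ℤ)) : ↥(S : Subgroup G)) : G) := congrArg Subtype.val he
    rw [← e1]; group
  · rw [isConj_iff]; refine ⟨g⁻¹ * (y : G), ?_⟩
    have e1 : g * ((x * y : ↥(S : Subgroup G)) : G) * g⁻¹ = (y : G) * ((x ^ (2 * (L : ℤ)) : ↥(S : Subgroup G)) : G) * (y : G)⁻¹ :=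
      congrArg Subtype.val (he.trans h.conj_w.symm)
    have e2 : ((x * y : ↥(S : Subgroup G)) : G) = g⁻¹ * (g * ((x * y : ↥(S : Subgroup G)) : G) * g⁻¹) * g := by group
    rw [e2, e1]; group
  · exfalso
    rw [he, h.zpow_y_mem_Mt] at hg
    rcases hg with ⟨r, hr⟩
    omega

/-- if `z` and `y` are not conjugate, `G` has a subgroup of index 2 -/
theorem exists_index_two_of_not_zy (hzy : ¬ IsConj ((x ^ (4 * (L : ℤ)) : ↥(S : Subgroup G)) : G) (y : G)) : ∃ K : Subgroup G, K.index = 2 := by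
  by_contra hno
  push_neg at hno
  obtain ⟨g, hg⟩ := Cfsg.Agent.S3225.result (even_card S h) hno S ((h.Mt 1).map (S : Subgroup G).subtype)
    (Subgroup.map_subtype_le _) (relIndex_Mt S h 1) 1 (by norm_num)
    (by
      intro y' hy' hy'M
      have hpos : 0 < orderOf y' := orderOf_pos y'
      have h1 : orderOf y' ≠ 1 := by
        intro h1
        rw [orderOf_eq_one_iff] at h1
        exact hy'M (h1 ▸ one_mem _)
      simp only [Nat.sub_self, pow_zero]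
      omega)
    (y : G) y.2 (by rw [orderOf_Y S h]; rfl)
  have hgS : g * (y : G) * g⁻¹ ∈ (S : Subgroup G) := Subgroup.map_subtype_le _ hg
  rw [mem_Mt_map S h 1 _ hgS] at hg
  have ho : orderOf (⟨g * (y : G) * g⁻¹, hgS⟩ : ↥(S : Subgroup G)) = 2 := by
    rw [← Subgroup.orderOf_coe]
    show orderOf (g * (y : G) * g⁻¹) = 2
    rw [orderOf_conj', orderOf_Y S h]
  rcases h.invol_cases _ ho with he | ⟨k, he⟩
  · apply hzy
    rw [isConj_iff]; refine ⟨g⁻¹, ?_⟩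
    have e1 : g * (y : G) * g⁻¹ = ((x ^ (4 * (L : ℤ)) : ↥(S : Subgroup G)) : G) := congrArg Subtype.val he
    rw [← e1]; group
  · rw [he, h.zpow_y_mem_Mt] at hg
    rcases hg with ⟨r, hr⟩
    omega

end Thompson

section Dih

variable {G : Type*} [Group G] [Finite G] (S : Sylow 2 G) {L : ℕ} {x y : ↥(S : Subgroup G)}
  (h : QD ↥(S : Subgroup G) L x y) (K : Subgroup G) (hK : K.index = 2)

include h hK

omit h in
theorem sq_mem_K (a : G) : a * a ∈ K := (Subgroup.mul_mem_iff_of_index_two hK).mpr Iff.rfl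

theorem W_mem_K : ((x ^ (2 * (L : ℤ)) : ↥(S : Subgroup G)) : G) ∈ K := by rw [← XLXL_eq_W S h]; exact sq_mem_K K hK _

theorem Z_mem_K : ((x ^ (4 * (L : ℤ)) : ↥(S : Subgroup G)) : G) ∈ K := by rw [← WW_eq_z S h]; exact sq_mem_K K hK _

theorem X2_mem_K : ((x ^ (2 : ℤ) : ↥(S : Subgroup G)) : G) ∈ K := by
  have : ((x ^ (2 : ℤ) : ↥(S : Subgroup G)) : G) = (x : G) * (x : G) := by rw [zpow_two]; rfl
  rw [this]; exact sq_mem_K K hK _

omit h hK in
theorem mem_K_iff (g : G) (hg : g ∈ (S : Subgroup G)) :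
    g ∈ K ↔ (⟨g, hg⟩ : ↥(S : Subgroup G)) ∈ K.subgroupOf (S : Subgroup G) := by
  rw [mem_subgroupOf]

/-- conjugates of a central element of `S` under `G` are already conjugates under `K` -/
theorem conj_in_K (c₀ : G) (hc₀ : ∀ s ∈ (S : Subgroup G), s * c₀ = c₀ * s) (c : G) :
    ∃ k ∈ K, k * c₀ * k⁻¹ = c * c₀ * c⁻¹ := by
  obtain ⟨s₀, hs₀S, hs₀K⟩ := exists_notin S K hK
  by_cases hcK : c ∈ K
  · exact ⟨c, hcK, rfl⟩
  · refine ⟨c * s₀⁻¹, ?_, ?_⟩
    · rw [Subgroup.mul_mem_iff_of_index_two hK]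
      exact iff_of_false hcK (fun h' => hs₀K (by simpa using K.inv_mem h'))
    · have e1 : c * s₀⁻¹ * c₀ * (c * s₀⁻¹)⁻¹ = c * (s₀⁻¹ * (c₀ * s₀)) * c⁻¹ := by group
      rw [e1, ← hc₀ s₀ hs₀S]; group

theorem y_mem_K_of_conj (hzy : IsConj ((x ^ (4 * (L : ℤ)) : ↥(S : Subgroup G)) : G) (y : G)) : (y : G) ∈ K := by
  haveI : K.Normal := Subgroup.normal_of_index_eq_two hK
  obtain ⟨c, hc⟩ := isConj_iff.mp hzy
  rw [← hc]
  exact ‹K.Normal›.conj_mem _ (Z_mem_K S h K hK) c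

theorem KS_eq_Mt_zero (hzy : IsConj ((x ^ (4 * (L : ℤ)) : ↥(S : Subgroup G)) : G) (y : G)) : K.subgroupOf (S : Subgroup G) = h.Mt 0 := by
  have hy : y ∈ K.subgroupOf (S : Subgroup G) := by
    rw [mem_subgroupOf]; exact y_mem_K_of_conj S h K hK hzy
  rcases KS_cases S h K hK with he | he | he
  · rw [he] at hy; exact absurd hy h.y_notin
  · rw [he] at hy
    have := (h.zpow_y_mem_Mt 1 0).mp (by rwa [zpow_zero, one_mul])
    rcases this with ⟨r, hr⟩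
    omega
  · exact he

/-- when `z ~ y`, the subgroup `K` of index 2 has no subgroup of index 2 -/
theorem no_index_two_dih (hzy : IsConj ((x ^ (4 * (L : ℤ)) : ↥(S : Subgroup G)) : G) (y : G)) (H' : Subgroup ↥K) (hH' : H'.index = 2) :
    False := by
  have hn : H'.Normal := Subgroup.normal_of_index_eq_two hH'
  have hsq : ∀ a : ↥K, a * a ∈ H' := fun a => (Subgroup.mul_mem_iff_of_index_two hH').mpr Iff.rfl
  have hKS := KS_eq_Mt_zero S h K hK hzy
  have hZ : (⟨((x ^ (4 * (L : ℤ)) : ↥(S : Subgroup G)) : G), Z_mem_K S h K hK⟩ : ↥K) ∈ H' := by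
    have : (⟨((x ^ (4 * (L : ℤ)) : ↥(S : Subgroup G)) : G), Z_mem_K S h K hK⟩ : ↥K) = ⟨((x ^ (2 * (L : ℤ)) : ↥(S : Subgroup G)) : G), W_mem_K S h K hK⟩ * ⟨((x ^ (2 * (L : ℤ)) : ↥(S : Subgroup G)) : G), W_mem_K S h K hK⟩ :=
      Subtype.ext (WW_eq_z S h).symm
    rw [this]; exact hsq _
  have hinv : ∀ t : G, orderOf t = 2 → ∀ ht : t ∈ K, (⟨t, ht⟩ : ↥K) ∈ H' := by
    intro t hto ht
    have hc : IsConj ((x ^ (4 * (L : ℤ)) : ↥(S : Subgroup G)) : G) t := by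
      rcases invol_conj S h t hto with h1 | h1
      · exact h1
      · exact hzy.trans h1
    obtain ⟨c, hc⟩ := isConj_iff.mp hc
    obtain ⟨k, hkK, hk⟩ := conj_in_K S h K hK ((x ^ (4 * (L : ℤ)) : ↥(S : Subgroup G)) : G) (fun s hs => z_central_S S h s hs) c
    rw [hc] at hk
    have : (⟨t, ht⟩ : ↥K) = ⟨k, hkK⟩ * ⟨((x ^ (4 * (L : ℤ)) : ↥(S : Subgroup G)) : G), Z_mem_K S h K hK⟩ * ⟨k, hkK⟩⁻¹ := Subtype.ext hk.symm
    rw [this]; exact hn.conj_mem _ hZ _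
  have hYK := y_mem_K_of_conj S h K hK hzy
  have hX2K := X2_mem_K S h K hK
  have hY' := hinv (y : G) (orderOf_Y S h) hYK
  have hX2YK : ((x ^ (2 * (1 : ℤ)) * y : ↥(S : Subgroup G)) : G) ∈ K := by
    have : ((x ^ (2 * (1 : ℤ)) * y : ↥(S : Subgroup G)) : G) = ((x ^ (2 : ℤ) : ↥(S : Subgroup G)) : G) * (y : G) := by
      rw [mul_one]; rfl
    rw [this]; exact mul_mem hX2K hYK
  have hX2Y' := hinv _ (by rw [Subgroup.orderOf_coe]; exact h.orderOf_y_even 1) hX2YK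
  have hX2' : (⟨((x ^ (2 : ℤ) : ↥(S : Subgroup G)) : G), hX2K⟩ : ↥K) ∈ H' := by
    have : (⟨((x ^ (2 : ℤ) : ↥(S : Subgroup G)) : G), hX2K⟩ : ↥K) =
        ⟨_, hX2YK⟩ * (⟨(y : G), hYK⟩ : ↥K)⁻¹ := by
      apply Subtype.ext
      show ((x ^ (2 : ℤ) : ↥(S : Subgroup G)) : G) = ((x ^ (2 * (1 : ℤ)) * y : ↥(S : Subgroup G)) : G) * (y : G)⁻¹
      rw [mul_one]
      show _ = ((x ^ (2 : ℤ) : ↥(S : Subgroup G)) : G) * (y : G) * (y : G)⁻¹
      group
    rw [this]; exact mul_mem hX2Y' (inv_mem hY')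
  apply no_index_two S K hK H' hH'
  intro k hkS
  have hk := (mem_K_iff S K (k : G) hkS).mp k.2
  rw [hKS] at hk
  rcases (h.mem_Mt 0 _).mp hk with ⟨j, hj⟩ | ⟨j, hj⟩
  · have : k = (⟨((x ^ (2 : ℤ) : ↥(S : Subgroup G)) : G), hX2K⟩ : ↥K) ^ j := by
      apply Subtype.ext
      rw [Subgroup.coe_zpow]
      show (k : G) = (((x ^ (2 : ℤ) : ↥(S : Subgroup G)) : G)) ^ j
      rw [← Subgroup.coe_zpow, ← zpow_mul]
      exact congrArg Subtype.val hj
    rw [this]; exact zpow_mem hX2' j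
  · have : k = (⟨((x ^ (2 : ℤ) : ↥(S : Subgroup G)) : G), hX2K⟩ : ↥K) ^ j * ⟨(y : G), hYK⟩ := by
      apply Subtype.ext
      rw [Subgroup.coe_mul, Subgroup.coe_zpow]
      show (k : G) = (((x ^ (2 : ℤ) : ↥(S : Subgroup G)) : G)) ^ j * (y : G)
      rw [← Subgroup.coe_zpow, ← zpow_mul]
      have := congrArg Subtype.val hj
      rw [add_zero] at this
      exact this
    rw [this]; exact mul_mem (zpow_mem hX2' j) hY'

end Dih

section Quat

variable {G : Type*} [Group G] [Finite G] (S : Sylow 2 G) {L : ℕ} {x y : ↥(S : Subgroup G)}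
  (h : QD ↥(S : Subgroup G) L x y) (K : Subgroup G) (hK : K.index = 2)

include h hK

theorem U_mem_K_of_conj (hwu : IsConj ((x ^ (2 * (L : ℤ)) : ↥(S : Subgroup G)) : G) ((x * y : ↥(S : Subgroup G)) : G)) : ((x * y : ↥(S : Subgroup G)) : G) ∈ K := by
  haveI : K.Normal := Subgroup.normal_of_index_eq_two hK
  obtain ⟨c, hc⟩ := isConj_iff.mp hwu
  rw [← hc]
  exact ‹K.Normal›.conj_mem _ (W_mem_K S h K hK) c

theorem KS_eq_Mt_one (hwu : IsConj ((x ^ (2 * (L : ℤ)) : ↥(S : Subgroup G)) : G) ((x * y : ↥(S : Subgroup G)) : G)) : K.subgroupOf (S : Subgroup G) = h.Mt 1 := by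
  have hu : x * y ∈ K.subgroupOf (S : Subgroup G) := by
    rw [mem_subgroupOf]; exact U_mem_K_of_conj S h K hK hwu
  rcases KS_cases S h K hK with he | he | he
  · rw [he] at hu
    have := h.xy_notin 1
    rw [zpow_one] at this
    exact absurd hu this
  · exact he
  · rw [he] at hu
    have := (h.zpow_y_mem_Mt 0 1).mp (by rwa [zpow_one])
    rcases this with ⟨r, hr⟩
    omega

theorem y_notin_K (hwu : IsConj ((x ^ (2 * (L : ℤ)) : ↥(S : Subgroup G)) : G) ((x * y : ↥(S : Subgroup G)) : G)) : (y : G) ∉ K := by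
  intro hy
  have h1 : y ∈ K.subgroupOf (S : Subgroup G) := by rw [mem_subgroupOf]; exact hy
  rw [KS_eq_Mt_one S h K hK hwu] at h1
  have := (h.zpow_y_mem_Mt 1 0).mp (by rwa [zpow_zero, one_mul])
  rcases this with ⟨r, hr⟩
  omega

/-- when `x^(2L) ~ x y`, elements of order 4 of `K` are `K`-conjugate to `x^(2L)` -/
theorem conj4_in_K (hwu : IsConj ((x ^ (2 * (L : ℤ)) : ↥(S : Subgroup G)) : G) ((x * y : ↥(S : Subgroup G)) : G)) (t : G) (hto : orderOf t = 4) :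
    ∃ k ∈ K, k * ((x ^ (2 * (L : ℤ)) : ↥(S : Subgroup G)) : G) * k⁻¹ = t := by
  have hc : IsConj ((x ^ (2 * (L : ℤ)) : ↥(S : Subgroup G)) : G) t := by
    rcases order4_conj S h t hto with h1 | h1
    · exact h1
    · exact hwu.trans h1
  obtain ⟨c, hc⟩ := isConj_iff.mp hc
  by_cases hcK : c ∈ K
  · exact ⟨c, hcK, hc⟩
  · have hYK := y_notin_K S h K hK hwu
    have hUK := U_mem_K_of_conj S h K hK hwu
    refine ⟨c * (y : G)⁻¹ * ((x * y : ↥(S : Subgroup G)) : G), ?_, ?_⟩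
    · apply mul_mem _ hUK
      rw [Subgroup.mul_mem_iff_of_index_two hK]
      exact iff_of_false hcK (fun h' => hYK (by simpa using K.inv_mem h'))
    · have e1 : c * (y : G)⁻¹ * ((x * y : ↥(S : Subgroup G)) : G) * ((x ^ (2 * (L : ℤ)) : ↥(S : Subgroup G)) : G) * (c * (y : G)⁻¹ * ((x * y : ↥(S : Subgroup G)) : G))⁻¹ =
          c * ((y : G)⁻¹ * (((x * y : ↥(S : Subgroup G)) : G) * ((x ^ (2 * (L : ℤ)) : ↥(S : Subgroup G)) : G) * ((x * y : ↥(S : Subgroup G)) : G)⁻¹) * (y : G)) * c⁻¹ := by group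
      rw [e1, (q8gen S h).conj]
      have e2 : (y : G) * ((x ^ (2 * (L : ℤ)) : ↥(S : Subgroup G)) : G) * (y : G)⁻¹ = ((x ^ (2 * (L : ℤ)) : ↥(S : Subgroup G)) : G)⁻¹ := congrArg Subtype.val h.conj_w
      rw [← e2, ← hc]; group

/-- when `x^(2L) ~ x y`, the subgroup `K` of index 2 has no subgroup of index 2 -/
theorem no_index_two_quat (hwu : IsConj ((x ^ (2 * (L : ℤ)) : ↥(S : Subgroup G)) : G) ((x * y : ↥(S : Subgroup G)) : G)) (H' : Subgroup ↥K) (hH' : H'.index = 2) :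
    False := by
  have hn : H'.Normal := Subgroup.normal_of_index_eq_two hH'
  have hKS := KS_eq_Mt_one S h K hK hwu
  have hX2K := X2_mem_K S h K hK
  have hUK := U_mem_K_of_conj S h K hK hwu
  have hWK := W_mem_K S h K hK
  have hX2UK : ((x ^ (2 * (1 : ℤ) + 1) * y : ↥(S : Subgroup G)) : G) ∈ K := by
    have : ((x ^ (2 * (1 : ℤ) + 1) * y : ↥(S : Subgroup G)) : G) = ((x ^ (2 : ℤ) : ↥(S : Subgroup G)) : G) * ((x * y : ↥(S : Subgroup G)) : G) := by
      show _ = ((x ^ (2 : ℤ) * (x * y) : ↥(S : Subgroup G)) : G)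
      rw [mul_one, zpow_add_one, mul_assoc]
    rw [this]; exact mul_mem hX2K hUK
  have hX2U_eq : (⟨_, hX2UK⟩ : ↥K) = ⟨((x ^ (2 : ℤ) : ↥(S : Subgroup G)) : G), hX2K⟩ * ⟨((x * y : ↥(S : Subgroup G)) : G), hUK⟩ := by
    apply Subtype.ext
    show ((x ^ (2 * (1 : ℤ) + 1) * y : ↥(S : Subgroup G)) : G) = ((x ^ (2 : ℤ) * (x * y) : ↥(S : Subgroup G)) : G)
    rw [mul_one, zpow_add_one, mul_assoc]
  -- some element of order 4 lies in `H'`
  have hW' : (⟨((x ^ (2 * (L : ℤ)) : ↥(S : Subgroup G)) : G), hWK⟩ : ↥K) ∈ H' := by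
    by_cases ha : (⟨((x ^ (2 : ℤ) : ↥(S : Subgroup G)) : G), hX2K⟩ : ↥K) ∈ H'
    · have : (⟨((x ^ (2 * (L : ℤ)) : ↥(S : Subgroup G)) : G), hWK⟩ : ↥K) = (⟨((x ^ (2 : ℤ) : ↥(S : Subgroup G)) : G), hX2K⟩ : ↥K) ^ (L : ℤ) := by
        apply Subtype.ext
        rw [Subgroup.coe_zpow]
        show ((x ^ (2 * (L : ℤ)) : ↥(S : Subgroup G)) : G) = (((x ^ (2 : ℤ) : ↥(S : Subgroup G)) : G)) ^ (L : ℤ)
        rw [← Subgroup.coe_zpow, ← zpow_mul]
      rw [this]; exact zpow_mem ha _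
    · obtain ⟨t₀, ht₀K, ht₀4, ht₀H⟩ : ∃ t₀ : G, ∃ ht : t₀ ∈ K, orderOf t₀ = 4 ∧
          (⟨t₀, ht⟩ : ↥K) ∈ H' := by
        by_cases hb : (⟨((x * y : ↥(S : Subgroup G)) : G), hUK⟩ : ↥K) ∈ H'
        · exact ⟨_, hUK, (q8gen S h).oU, hb⟩
        · refine ⟨_, hX2UK, by rw [Subgroup.orderOf_coe]; exact h.orderOf_y_odd 1, ?_⟩
          rw [hX2U_eq, Subgroup.mul_mem_iff_of_index_two hH']
          exact iff_of_false ha hb
      obtain ⟨k, hkK, hk⟩ := conj4_in_K S h K hK hwu t₀ ht₀4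
      have : (⟨((x ^ (2 * (L : ℤ)) : ↥(S : Subgroup G)) : G), hWK⟩ : ↥K) = (⟨k, hkK⟩ : ↥K)⁻¹ * ⟨t₀, ht₀K⟩ * (⟨k, hkK⟩ : ↥K)⁻¹⁻¹ := by
        apply Subtype.ext
        show ((x ^ (2 * (L : ℤ)) : ↥(S : Subgroup G)) : G) = k⁻¹ * t₀ * k⁻¹⁻¹
        rw [← hk]; group
      rw [this]; exact hn.conj_mem _ ht₀H _
  have h4 : ∀ t : G, orderOf t = 4 → ∀ ht : t ∈ K, (⟨t, ht⟩ : ↥K) ∈ H' := by
    intro t hto ht
    obtain ⟨k, hkK, hk⟩ := conj4_in_K S h K hK hwu t hto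
    have : (⟨t, ht⟩ : ↥K) = ⟨k, hkK⟩ * ⟨((x ^ (2 * (L : ℤ)) : ↥(S : Subgroup G)) : G), hWK⟩ * (⟨k, hkK⟩ : ↥K)⁻¹ := Subtype.ext hk.symm
    rw [this]; exact hn.conj_mem _ hW' _
  have hU' := h4 _ (q8gen S h).oU hUK
  have hX2U' := h4 _ (by rw [Subgroup.orderOf_coe]; exact h.orderOf_y_odd 1) hX2UK
  have hX2' : (⟨((x ^ (2 : ℤ) : ↥(S : Subgroup G)) : G), hX2K⟩ : ↥K) ∈ H' := by
    have : (⟨((x ^ (2 : ℤ) : ↥(S : Subgroup G)) : G), hX2K⟩ : ↥K) =
        ⟨_, hX2UK⟩ * (⟨((x * y : ↥(S : Subgroup G)) : G), hUK⟩ : ↥K)⁻¹ := by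
      rw [hX2U_eq]; group
    rw [this]; exact mul_mem hX2U' (inv_mem hU')
  apply no_index_two S K hK H' hH'
  intro k hkS
  have hk := (mem_K_iff S K (k : G) hkS).mp k.2
  rw [hKS] at hk
  rcases (h.mem_Mt 1 _).mp hk with ⟨j, hj⟩ | ⟨j, hj⟩
  · have : k = (⟨((x ^ (2 : ℤ) : ↥(S : Subgroup G)) : G), hX2K⟩ : ↥K) ^ j := by
      apply Subtype.ext
      rw [Subgroup.coe_zpow]
      show (k : G) = (((x ^ (2 : ℤ) : ↥(S : Subgroup G)) : G)) ^ j
      rw [← Subgroup.coe_zpow, ← zpow_mul]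
      exact congrArg Subtype.val hj
    rw [this]; exact zpow_mem hX2' j
  · have : k = (⟨((x ^ (2 : ℤ) : ↥(S : Subgroup G)) : G), hX2K⟩ : ↥K) ^ j * ⟨((x * y : ↥(S : Subgroup G)) : G), hUK⟩ := by
      apply Subtype.ext
      rw [Subgroup.coe_mul, Subgroup.coe_zpow]
      show (k : G) = (((x ^ (2 : ℤ) : ↥(S : Subgroup G)) : G)) ^ j * ((x * y : ↥(S : Subgroup G)) : G)
      rw [← Subgroup.coe_zpow, ← zpow_mul]
      have := congrArg Subtype.val hj
      rw [this]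
      show ((x ^ (2 * j + 1) * y : ↥(S : Subgroup G)) : G) = ((x ^ (2 * j) * (x * y) : ↥(S : Subgroup G)) : G)
      rw [zpow_add_one, mul_assoc]
    rw [this]; exact mul_mem (zpow_mem hX2' j) hU'

omit hK in
/-- when `z` and `y` are not conjugate, `Z(S)` is weakly closed in `S` -/
theorem weakly_closed (hzy : ¬ IsConj ((x ^ (4 * (L : ℤ)) : ↥(S : Subgroup G)) : G) (y : G)) :
    Cfsg.IsWeaklyClosed ((Subgroup.center ↥(S : Subgroup G)).map (S : Subgroup G).subtype) (S : Subgroup G) := by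
  refine ⟨Subgroup.map_subtype_le _, ?_⟩
  intro g hg
  have hZc : ((x ^ (4 * (L : ℤ)) : ↥(S : Subgroup G)) : G) ∈ (Subgroup.center ↥(S : Subgroup G)).map (S : Subgroup G).subtype :=
    ⟨x ^ (4 * (L : ℤ)), (h.mem_center_iff _).mpr (Or.inr rfl), rfl⟩
  have hgZ : g * ((x ^ (4 * (L : ℤ)) : ↥(S : Subgroup G)) : G) * g⁻¹ ∈ (S : Subgroup G) := hg ⟨((x ^ (4 * (L : ℤ)) : ↥(S : Subgroup G)) : G), hZc, rfl⟩
  have ho : orderOf (⟨g * ((x ^ (4 * (L : ℤ)) : ↥(S : Subgroup G)) : G) * g⁻¹, hgZ⟩ : ↥(S : Subgroup G)) = 2 := by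
    rw [← Subgroup.orderOf_coe]
    show orderOf (g * ((x ^ (4 * (L : ℤ)) : ↥(S : Subgroup G)) : G) * g⁻¹) = 2
    rw [orderOf_conj', orderOf_Z S h]
  have hfix : g * ((x ^ (4 * (L : ℤ)) : ↥(S : Subgroup G)) : G) * g⁻¹ = ((x ^ (4 * (L : ℤ)) : ↥(S : Subgroup G)) : G) := by
    rcases h.invol_cases _ ho with he | ⟨k, he⟩
    · exact congrArg Subtype.val he
    · exfalso; apply hzy
      have h1 : IsConj ((x ^ (4 * (L : ℤ)) : ↥(S : Subgroup G)) : G) ((x ^ (2 * k) * y : ↥(S : Subgroup G)) : G) :=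
        isConj_iff.mpr ⟨g, congrArg Subtype.val he⟩
      obtain ⟨s, hs⟩ := h.exists_conj_even 0 k
      rw [zpow_zero, one_mul, zero_add] at hs
      exact h1.trans (isConj_iff.mpr ⟨(s : G), congrArg Subtype.val hs⟩).symm
  ext c
  constructor
  · rintro ⟨c', ⟨c'', hc'', rfl⟩, rfl⟩
    rcases (h.mem_center_iff c'').mp hc'' with rfl | rfl
    · simp only [MulEquiv.coe_toMonoidHom, map_one]; exact one_mem _
    · simp only [MulEquiv.coe_toMonoidHom, MulAut.conj_apply, Subgroup.coe_subtype]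
      rw [hfix]; exact hZc
  · rintro ⟨c'', hc'', rfl⟩
    rcases (h.mem_center_iff c'').mp hc'' with rfl | rfl
    · exact ⟨1, one_mem _, by simp⟩
    · exact ⟨((x ^ (4 * (L : ℤ)) : ↥(S : Subgroup G)) : G), hZc, hfix⟩

end Quat

end Cfsg.Agent.Lib.Helper5_QDIndex2
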