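import Mathlib
import Cfsg.Prelude.Def_PLocal
import Cfsg.Agent.Lib.Helper4_Qd2

set_option autoImplicit false

namespace Cfsg.Agent.Lib.Helper5_QdSylow
open Matrix

variable {R : Type*} [CommRing R]

/-- Heisenberg matrices. -/
def heis (a b c : R) : Matrix.SpecialLinearGroup (Fin 3) R :=
  ⟨!![1, a, c; 0, 1, b; 0, 0, 1], by rw [Matrix.det_fin_three]; simp⟩

theorem heis_val (a b c : R) : (heis a b c).1 = !![1, a, c; 0, 1, b; 0, 0, 1] := rfl

theorem heis_mul (a b c a' b' c' : R) :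
    heis a b c * heis a' b' c' = heis (a + a') (b + b') (c + c' + a * b') := by
  apply Subtype.ext
  rw [Matrix.SpecialLinearGroup.coe_mul, heis_val, heis_val, heis_val]
  ext i j
  fin_cases i <;> fin_cases j <;> simp [Matrix.mul_apply, Fin.sum_univ_three] <;> ring

theorem heis_zero : heis (0 : R) 0 0 = 1 := by
  apply Subtype.ext
  rw [heis_val]
  ext i j
  fin_cases i <;> fin_cases j <;> simp

theorem heis_pow (a b c : R) (k : ℕ) :
    heis a b c ^ k = heis (k * a) (k * b) (k * c + (k.choose 2 : ℕ) * (a * b)) := by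
  induction k with
  | zero => simp [heis_zero]
  | succ k ih =>
    rw [pow_succ, ih, heis_mul]
    congr 1
    · push_cast; ring
    · push_cast; ring
    · rw [Nat.choose_succ_succ' k 1, Nat.choose_one_right]
      push_cast; ring

theorem heis_inj {a b c a' b' c' : R} (h : heis a b c = heis a' b' c') : a = a' ∧ b = b' ∧ c = c' := by
  have h1 := congrArg Subtype.val h
  rw [heis_val, heis_val] at h1
  refine ⟨?_, ?_, ?_⟩
  · have := congrFun (congrFun h1 0) 1; simpa using this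
  · have := congrFun (congrFun h1 1) 2; simpa using this
  · have := congrFun (congrFun h1 0) 2; simpa using this

/-- The Heisenberg subgroup of `SL₃`. -/
def heisSub (R : Type*) [CommRing R] : Subgroup (Matrix.SpecialLinearGroup (Fin 3) R) where
  carrier := {M | ∃ a b c, M = heis a b c}
  mul_mem' := by
    rintro _ _ ⟨a, b, c, rfl⟩ ⟨a', b', c', rfl⟩
    exact ⟨_, _, _, heis_mul a b c a' b' c'⟩
  one_mem' := ⟨0, 0, 0, heis_zero.symm⟩
  inv_mem' := by
    rintro _ ⟨a, b, c, rfl⟩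
    refine ⟨-a, -b, -c + a * b, ?_⟩
    apply inv_eq_of_mul_eq_one_right
    rw [heis_mul, ← heis_zero]
    congr 1 <;> ring

theorem mem_heisSub {M : Matrix.SpecialLinearGroup (Fin 3) R} :
    M ∈ heisSub R ↔ ∃ a b c, M = heis a b c := Iff.rfl

theorem heisSub_le_aff : heisSub R ≤ Helper4_Qd2.Aff3 R := by
  rintro _ ⟨a, b, c, rfl⟩
  show (heis a b c).1 2 0 = 0 ∧ (heis a b c).1 2 1 = 0 ∧ (heis a b c).1 2 2 = 1
  rw [heis_val]
  simp

/-- The Heisenberg subgroup has `|R|³` elements. -/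
noncomputable def heisEquiv : (R × R × R) ≃ heisSub R where
  toFun x := ⟨heis x.1 x.2.1 x.2.2, ⟨_, _, _, rfl⟩⟩
  invFun M := (M.1.1 0 1, M.1.1 1 2, M.1.1 0 2)
  left_inv x := by
    obtain ⟨a, b, c⟩ := x
    simp [heis_val]
  right_inv M := by
    obtain ⟨M, a, b, c, rfl⟩ := M
    apply Subtype.ext
    simp [heis_val]

theorem card_heisSub [Finite R] : Nat.card (heisSub R) = Nat.card R ^ 3 := by
  rw [← Nat.card_congr (heisEquiv (R := R)), Nat.card_prod, Nat.card_prod]
  ring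


section sylow

variable (p : ℕ) [Fact p.Prime]

theorem not_pow_four_dvd_GL3 : ¬ p ^ 4 ∣ Nat.card (GL (Fin 3) (ZMod p)) := by
  have hp : p.Prime := Fact.out
  rw [Matrix.card_GL_field, Fin.prod_univ_three, ZMod.card]
  simp only [Fin.val_zero, Fin.val_one, Fin.val_two, pow_zero, pow_one]
  have h2 : 2 ≤ p := hp.two_le
  have e1 : p ^ 3 - p = p * (p ^ 2 - 1) := by
    rw [Nat.mul_sub, mul_one]; ring_nf
  have e2 : p ^ 3 - p ^ 2 = p ^ 2 * (p - 1) := by
    rw [Nat.mul_sub, mul_one]; ring_nf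
  rw [e1, e2]
  have e3 : (p ^ 3 - 1) * (p * (p ^ 2 - 1)) * (p ^ 2 * (p - 1)) =
      p ^ 3 * ((p ^ 3 - 1) * (p ^ 2 - 1) * (p - 1)) := by ring
  rw [e3]
  intro h
  have h4 : p ^ 4 = p ^ 3 * p := by ring
  rw [h4] at h
  have h5 : p ∣ (p ^ 3 - 1) * (p ^ 2 - 1) * (p - 1) :=
    Nat.dvd_of_mul_dvd_mul_left (pow_pos hp.pos 3) h
  have hnd : ∀ k : ℕ, 0 < k → ¬ p ∣ p ^ k - 1 := by
    intro k hk hd
    have h6 : p ∣ p ^ k := dvd_pow_self p hk.ne'
    have h7 : 1 ≤ p ^ k := Nat.one_le_pow _ _ hp.pos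
    have h8 : p ∣ p ^ k - (p ^ k - 1) := Nat.dvd_sub h6 hd
    have h9 : p ^ k - (p ^ k - 1) = 1 := by omega
    rw [h9] at h8
    exact hp.one_lt.ne' (Nat.dvd_one.mp h8)
  rcases (hp.dvd_mul).mp h5 with h | h
  · rcases (hp.dvd_mul).mp h with h | h
    · exact hnd 3 (by norm_num) h
    · exact hnd 2 (by norm_num) h
  · have := hnd 1 (by norm_num)
    rw [pow_one] at this
    exact this h

theorem card_dvd_GL3 (H : Subgroup (Matrix.SpecialLinearGroup (Fin 3) (ZMod p))) :
    Nat.card H ∣ Nat.card (GL (Fin 3) (ZMod p)) := by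
  have hinj : Function.Injective
      ((Matrix.SpecialLinearGroup.toGL : Matrix.SpecialLinearGroup (Fin 3) (ZMod p) →* _).comp
        H.subtype) := by
    intro a b hab
    apply Subtype.ext
    apply Subtype.ext
    have := congrArg (fun g : GL (Fin 3) (ZMod p) => (g : Matrix (Fin 3) (Fin 3) (ZMod p))) hab
    simpa using this
  exact Subgroup.card_dvd_of_injective _ hinj

end sylow

end Cfsg.Agent.Lib.Helper5_QdSylow
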