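import Mathlib

set_option linter.style.haveILetI false

namespace Cfsg.Agent.Lib.Helper5_RegLin

/-- number of algebra automorphisms of a finite field (given as a finite comm. domain)
is less than its cardinality -/
theorem card_algEquiv_lt {p : ℕ} [Fact p.Prime] {R : Type*} [Ring R] [Finite R] [Nontrivial R]
    [Algebra (ZMod p) R]
    (hcomm : ∀ a b : R, a * b = b * a) (hdom : ∀ a b : R, a * b = 0 → a = 0 ∨ b = 0) :
    Nat.card (R ≃ₐ[ZMod p] R) < Nat.card R := by
  classical
  letI cr : CommRing R := { ‹Ring R› with mul_comm := hcomm }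
  haveI : NoZeroDivisors R := ⟨fun {a b} h => hdom a b h⟩
  haveI : IsDomain R := NoZeroDivisors.to_isDomain (α := R)
  haveI : Fintype R := Fintype.ofFinite R
  letI fld : Field R := Fintype.fieldOfDomain R
  have h1 : Nat.card (R ≃ₐ[ZMod p] R) = Module.finrank (ZMod p) R :=
    IsGalois.card_aut_eq_finrank (ZMod p) R
  have h2 : Nat.card R = p ^ Module.finrank (ZMod p) R := by
    rw [Module.natCard_eq_pow_finrank (K := ZMod p), Nat.card_zmod]
  rw [h1, h2]
  exact Nat.lt_pow_self (Fact.out : p.Prime).one_lt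

variable {k V : Type*} [Field k] [AddCommGroup V] [Module k V] [Finite V]

/-- A commutative subalgebra of `End V` normalized by a group of linear maps which is transitive
on nonzero vectors consists of injective maps (and zero). -/
theorem apply_ne_zero_of_transitive (F : Subalgebra k (Module.End k V))
    (hcomm : ∀ x ∈ F, ∀ y ∈ F, x * y = y * x)
    (H : Subgroup (V ≃ₗ[k] V))
    (hconj : ∀ h ∈ H, ∀ x ∈ F, (h : V ≃ₗ[k] V).conj x ∈ F)
    (htrans : ∀ v w : V, v ≠ 0 → w ≠ 0 → ∃ h ∈ H, (h : V ≃ₗ[k] V) v = w)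
    (x : Module.End k V) (hx : x ∈ F) (v : V) (hv : v ≠ 0) (hxv : x v = 0) : x = 0 := by
  classical
  haveI : Finite (Module.End k V) :=
    Finite.of_injective (fun e => (e : V → V)) DFunLike.coe_injective
  let I : V → Set (Module.End k V) := fun v => {x | x ∈ F ∧ x v = 0}
  have hIfin : ∀ v, (I v).Finite := fun v => Set.toFinite _
  have stepA : ∀ h ∈ H, ∀ v, (I v).ncard ≤ (I ((h : V ≃ₗ[k] V) v)).ncard := by
    intro h hh v
    apply Set.ncard_le_ncard_of_injOn (fun x => (h : V ≃ₗ[k] V).conj x)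
    · intro x hx
      refine ⟨hconj h hh x hx.1, ?_⟩
      rw [LinearEquiv.conj_apply_apply, LinearEquiv.symm_apply_apply, hx.2, map_zero]
    · intro x _ y _ hxy
      exact (h : V ≃ₗ[k] V).conj.injective hxy
  have stepB : ∀ v w : V, v ≠ 0 → w ≠ 0 → (I v).ncard = (I w).ncard := by
    intro v w hv hw
    obtain ⟨h, hh, hhv⟩ := htrans v w hv hw
    apply le_antisymm
    · rw [← hhv]; exact stepA h hh v
    · have := stepA h⁻¹ (H.inv_mem hh) w
      have e : (h⁻¹ : V ≃ₗ[k] V) w = v := by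
        rw [← hhv]
        show (h⁻¹ * h) v = v
        rw [inv_mul_cancel]
        rfl
      rw [e] at this
      exact this
  have stepC : ∀ v w : V, v ≠ 0 → w ≠ 0 → I v ⊆ I w → I v = I w := by
    intro v w hv hw hsub
    exact Set.eq_of_subset_of_ncard_le hsub (stepB v w hv hw).symm.le (hIfin w)
  have stepD : ∀ v₁ v₂ : V, v₁ ≠ 0 → v₂ ≠ 0 → I v₁ = I v₂ := by
    intro v₁ v₂ h1 h2
    by_cases hcase : ∃ x₁ ∈ F, ∃ x₂ ∈ F, x₁ v₁ = x₂ v₂ ∧ x₁ v₁ ≠ 0
    · obtain ⟨x₁, hx₁, x₂, hx₂, heq, hne⟩ := hcase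
      have e1 : I v₁ = I (x₁ v₁) := by
        apply stepC v₁ _ h1 hne
        intro x hx
        refine ⟨hx.1, ?_⟩
        rw [← Module.End.mul_apply, hcomm x hx.1 x₁ hx₁, Module.End.mul_apply, hx.2, map_zero]
      have e2 : I v₂ = I (x₂ v₂) := by
        apply stepC v₂ _ h2 (heq ▸ hne)
        intro x hx
        refine ⟨hx.1, ?_⟩
        rw [← Module.End.mul_apply, hcomm x hx.1 x₂ hx₂, Module.End.mul_apply, hx.2, map_zero]
      rw [e1, e2, heq]
    · push Not at hcase
      have hsum : v₁ + v₂ ≠ 0 := by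
        intro h0
        have : (1 : Module.End k V) v₁ = (-1 : Module.End k V) v₂ := by
          show v₁ = -v₂
          exact eq_neg_of_add_eq_zero_left h0
        have := hcase 1 F.one_mem (-1) (F.neg_mem F.one_mem) this
        exact h1 this
      have e1 : I (v₁ + v₂) = I v₁ := by
        apply stepC _ _ hsum h1
        intro x hx
        refine ⟨hx.1, ?_⟩
        have hx2 : x v₁ + x v₂ = 0 := by rw [← map_add]; exact hx.2
        have : x v₁ = (-x) v₂ := by
          show x v₁ = -(x v₂)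
          exact eq_neg_of_add_eq_zero_left hx2
        exact hcase x hx.1 (-x) (F.neg_mem hx.1) this
      have e2 : I (v₁ + v₂) = I v₂ := by
        apply stepC _ _ hsum h2
        intro x hx
        refine ⟨hx.1, ?_⟩
        have hx2 : x v₁ + x v₂ = 0 := by rw [← map_add]; exact hx.2
        have h3 : x v₁ = (-x) v₂ := by
          show x v₁ = -(x v₂)
          exact eq_neg_of_add_eq_zero_left hx2
        have h4 := hcase x hx.1 (-x) (F.neg_mem hx.1) h3
        rw [h4, zero_add] at hx2
        exact hx2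
      rw [← e1, e2]
  ext w
  by_cases hw : w = 0
  · rw [hw, map_zero, map_zero]
  · have : x ∈ I w := by
      rw [← stepD v w hv hw]
      exact ⟨hx, hxv⟩
    rw [this.2]
    rfl


open scoped IsMulCommutative in
/-- In a regular linear group `H` over `ZMod p`, a normal abelian subgroup `A` having a proper
nonzero invariant subspace is not self-centralizing. -/
theorem centralizer_ne {p : ℕ} [Fact p.Prime] {V : Type*} [AddCommGroup V] [Module (ZMod p) V]
    [Finite V] (H : Subgroup (V ≃ₗ[ZMod p] V))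
    (hreg : ∀ v w : V, v ≠ 0 → w ≠ 0 → ∃! h : H, (h : V ≃ₗ[ZMod p] V) v = w)
    (A : Subgroup H) (hAn : A.Normal) (hAc : ∀ a b : A, a * b = b * a)
    (W₀ : Submodule (ZMod p) V) (hW0 : W₀ ≠ ⊥) (hWT : W₀ ≠ ⊤)
    (hWinv : ∀ a ∈ A, ∀ v ∈ W₀, ((a : H) : V ≃ₗ[ZMod p] V) v ∈ W₀) :
    Subgroup.centralizer (A : Set H) ≠ A := by
  classical
  haveI : Finite (Module.End (ZMod p) V) :=
    Finite.of_injective (fun e => (e : V → V)) DFunLike.coe_injective
  haveI : Finite (V ≃ₗ[ZMod p] V) :=
    Finite.of_injective (fun e => (e : V → V)) DFunLike.coe_injective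
  let ι : H → Module.End (ZMod p) V := fun h => ((h : V ≃ₗ[ZMod p] V) : V →ₗ[ZMod p] V)
  have hι_inj : Function.Injective ι := by
    intro h₁ h₂ h
    apply Subtype.ext
    exact LinearEquiv.toLinearMap_injective h
  have hι_mul : ∀ h₁ h₂ : H, ι (h₁ * h₂) = ι h₁ * ι h₂ := fun _ _ => rfl
  have hι_apply : ∀ (h : H) (v : V), ι h v = (h : V ≃ₗ[ZMod p] V) v := fun _ _ => rfl
  let S : Set (Module.End (ZMod p) V) := ι '' (A : Set H)
  have hS_comm : ∀ x ∈ S, ∀ y ∈ S, x * y = y * x := by
    rintro _ ⟨a, ha, rfl⟩ _ ⟨b, hb, rfl⟩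
    rw [← hι_mul, ← hι_mul]
    have := hAc ⟨a, ha⟩ ⟨b, hb⟩
    have h2 : a * b = b * a := congrArg Subtype.val this
    rw [h2]
  set F : Subalgebra (ZMod p) (Module.End (ZMod p) V) := Algebra.adjoin (ZMod p) S with hF
  haveI hmc : IsMulCommutative F := Algebra.isMulCommutative_adjoin (ZMod p) hS_comm
  have hFcomm : ∀ x ∈ F, ∀ y ∈ F, x * y = y * x := by
    intro x hx y hy
    have h1 : (⟨x, hx⟩ : F) * ⟨y, hy⟩ = ⟨y, hy⟩ * ⟨x, hx⟩ := mul_comm _ _
    exact congrArg Subtype.val h1
  -- conjugation invariance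
  have hconj : ∀ h ∈ H, ∀ x ∈ F, (h : V ≃ₗ[ZMod p] V).conj x ∈ F := by
    intro h hh x hx
    have hmap : ∀ x ∈ F, (h.conjAlgEquiv (ZMod p)) x ∈ F := by
      intro x hx
      induction hx using Algebra.adjoin_induction with
      | mem y hy =>
        obtain ⟨a, ha, rfl⟩ := hy
        apply Algebra.subset_adjoin
        refine ⟨⟨h, hh⟩ * a * ⟨h, hh⟩⁻¹, hAn.conj_mem a ha ⟨h, hh⟩, ?_⟩
        ext v
        rfl
      | algebraMap r =>
        rw [AlgEquiv.commutes]
        exact F.algebraMap_mem r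
      | add y z _ _ hy hz =>
        rw [map_add]
        exact F.add_mem hy hz
      | mul y z _ _ hy hz =>
        rw [map_mul]
        exact F.mul_mem hy hz
    exact hmap x hx
  have htrans : ∀ v w : V, v ≠ 0 → w ≠ 0 → ∃ h ∈ H, (h : V ≃ₗ[ZMod p] V) v = w := by
    intro v w hv hw
    obtain ⟨h, hh, _⟩ := hreg v w hv hw
    exact ⟨h, h.2, hh⟩
  have hinj : ∀ x ∈ F, ∀ v : V, v ≠ 0 → x v = 0 → x = 0 := fun x hx v hv hxv =>
    apply_ne_zero_of_transitive F hFcomm H hconj htrans x hx v hv hxv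
  -- F preserves W₀
  have hFW : ∀ x ∈ F, ∀ u ∈ W₀, x u ∈ W₀ := by
    intro x hx
    induction hx using Algebra.adjoin_induction with
    | mem y hy =>
      obtain ⟨a, ha, rfl⟩ := hy
      intro u hu
      exact hWinv a ha u hu
    | algebraMap r =>
      intro u hu
      rw [Module.algebraMap_end_apply]
      exact W₀.smul_mem r hu
    | add y z _ _ hy hz =>
      intro u hu
      rw [LinearMap.add_apply]
      exact W₀.add_mem (hy u hu) (hz u hu)
    | mul y z _ _ hy hz =>
      intro u hu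
      rw [Module.End.mul_apply]
      exact hy _ (hz u hu)
  -- vectors
  obtain ⟨w, hwW, hw0⟩ : ∃ w ∈ W₀, w ≠ 0 := by
    by_contra hcon
    push Not at hcon
    apply hW0
    rw [eq_bot_iff]
    intro v hv
    rw [Submodule.mem_bot]
    exact hcon v hv
  obtain ⟨v, hvW⟩ : ∃ v : V, v ∉ W₀ := by
    by_contra hcon
    push Not at hcon
    apply hWT
    rw [eq_top_iff]
    intro v _
    exact hcon v
  -- ring properties of F
  haveI : Nontrivial F := by
    refine ⟨⟨0, 1, ?_⟩⟩
    intro h01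
    have h1 : ((0 : F) : Module.End (ZMod p) V) w = ((1 : F) : Module.End (ZMod p) V) w := by
      rw [h01]
    exact hw0 h1.symm
  have hcommF : ∀ a b : F, a * b = b * a := fun a b => mul_comm a b
  have hdomF : ∀ a b : F, a * b = 0 → a = 0 ∨ b = 0 := by
    intro a b hab
    by_contra hcon
    push Not at hcon
    have hb : (b : Module.End (ZMod p) V) w ≠ 0 := by
      intro h0
      apply hcon.2
      exact Subtype.ext (hinj b b.2 w hw0 h0)
    have ha : (a : Module.End (ZMod p) V) ((b : Module.End (ZMod p) V) w) ≠ 0 := by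
      intro h0
      apply hcon.1
      exact Subtype.ext (hinj a a.2 _ hb h0)
    apply ha
    have : ((a * b : F) : Module.End (ZMod p) V) w = 0 := by
      rw [hab]; rfl
    exact this
  have hG1 : Nat.card (F ≃ₐ[ZMod p] F) < Nat.card F := card_algEquiv_lt hcommF hdomF
  haveI : Finite (F ≃ₐ[ZMod p] F) :=
    Finite.of_injective (fun e => (e : F → F)) DFunLike.coe_injective
  -- the conjugation hom
  have hconj' : ∀ (h : H) (x : F), ((h : V ≃ₗ[ZMod p] V).conjAlgEquiv (ZMod p)) x ∈ F :=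
    fun h x => hconj h h.2 x x.2
  let ψ : H → (F →ₐ[ZMod p] F) := fun h =>
    ((((h : V ≃ₗ[ZMod p] V).conjAlgEquiv (ZMod p)).toAlgHom.comp F.val).codRestrict F
      (fun x => hconj' h x))
  have hψ_val : ∀ (h : H) (x : F) (u : V), ((ψ h x : F) : Module.End (ZMod p) V) u
      = (h : V ≃ₗ[ZMod p] V) ((x : Module.End (ZMod p) V) ((h : V ≃ₗ[ZMod p] V).symm u)) :=
    fun _ _ _ => rfl
  have hψ_inj : ∀ h : H, Function.Injective (ψ h) := by
    intro h x y hxy
    apply Subtype.ext
    ext u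
    have := hψ_val h x ((h : V ≃ₗ[ZMod p] V) u)
    rw [hxy, hψ_val h y, LinearEquiv.symm_apply_apply] at this
    exact ((h : V ≃ₗ[ZMod p] V).injective this).symm
  let φ : H →* (F ≃ₐ[ZMod p] F) :=
    { toFun := fun h => AlgEquiv.ofBijective (ψ h)
        ⟨hψ_inj h, Finite.injective_iff_surjective.mp (hψ_inj h)⟩
      map_one' := by
        apply AlgEquiv.ext
        intro x
        apply Subtype.ext
        ext u
        rfl
      map_mul' := by
        intro h₁ h₂
        apply AlgEquiv.ext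
        intro x
        apply Subtype.ext
        ext u
        rfl }
  have hφ_val : ∀ (h : H) (x : F) (u : V), ((φ h x : F) : Module.End (ZMod p) V) u
      = (h : V ≃ₗ[ZMod p] V) ((x : Module.End (ZMod p) V) ((h : V ≃ₗ[ZMod p] V).symm u)) :=
    fun _ _ _ => rfl
  have hker : φ.ker ≤ Subgroup.centralizer (A : Set H) := by
    intro h hh
    rw [MonoidHom.mem_ker] at hh
    rw [Subgroup.mem_centralizer_iff]
    intro a ha
    apply hι_inj
    rw [hι_mul, hι_mul]
    ext u
    have h1 := hφ_val h ⟨ι a, Algebra.subset_adjoin ⟨a, ha, rfl⟩⟩ ((h : V ≃ₗ[ZMod p] V) u)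
    rw [hh, LinearEquiv.symm_apply_apply] at h1
    exact h1
  intro hCA
  rw [hCA] at hker
  -- counting
  have hcard1 : Nat.card H = Nat.card φ.ker * Nat.card φ.range := by
    rw [← Subgroup.index_ker, mul_comm, Subgroup.index_mul_card]
  have hcard2 : Nat.card φ.ker ≤ Nat.card A := Subgroup.card_le_of_le hker
  have hcard3 : Nat.card φ.range ≤ Nat.card (F ≃ₐ[ZMod p] F) :=
    Nat.card_le_card_of_injective Subtype.val Subtype.val_injective
  have hcard4 : Nat.card A + 1 ≤ Nat.card F := by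
    rw [← Finite.card_option]
    apply Nat.card_le_card_of_injective
      (fun o : Option A => match o with
        | none => (0 : F)
        | some a => ⟨ι a, Algebra.subset_adjoin ⟨a, a.2, rfl⟩⟩)
    intro o₁ o₂ h12
    rcases o₁ with _ | a₁ <;> rcases o₂ with _ | a₂
    · rfl
    · exfalso
      have h1 : (0 : Module.End (ZMod p) V) = ι a₂ := congrArg Subtype.val h12
      have h2 : (0 : Module.End (ZMod p) V) w = ι a₂ w := by rw [h1]
      have h3 : ((a₂ : H) : V ≃ₗ[ZMod p] V) w = 0 := h2.symm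
      exact hw0 (((a₂ : H) : V ≃ₗ[ZMod p] V).map_eq_zero_iff.mp h3)
    · exfalso
      have h1 : ι a₁ = (0 : Module.End (ZMod p) V) := congrArg Subtype.val h12
      have h2 : ι a₁ w = (0 : Module.End (ZMod p) V) w := by rw [h1]
      have h3 : ((a₁ : H) : V ≃ₗ[ZMod p] V) w = 0 := h2
      exact hw0 (((a₁ : H) : V ≃ₗ[ZMod p] V).map_eq_zero_iff.mp h3)
    · have h1 : ι a₁ = ι a₂ := congrArg Subtype.val h12
      have h2 : (a₁ : H) = a₂ := hι_inj h1
      rw [Subtype.ext h2]
  have hcard5 : Nat.card F * Nat.card F ≤ Nat.card V := by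
    rw [← Nat.card_prod]
    apply Nat.card_le_card_of_injective
      (fun xy : F × F => (xy.1 : Module.End (ZMod p) V) w + (xy.2 : Module.End (ZMod p) V) v)
    rintro ⟨x, y⟩ ⟨x', y'⟩ hxy
    simp only at hxy
    have hz : ((y - y' : F) : Module.End (ZMod p) V) v
        = ((x' - x : F) : Module.End (ZMod p) V) w := by
      show ((y : Module.End (ZMod p) V) - (y' : Module.End (ZMod p) V)) v
        = ((x' : Module.End (ZMod p) V) - (x : Module.End (ZMod p) V)) w
      rw [LinearMap.sub_apply, LinearMap.sub_apply]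
      rw [sub_eq_sub_iff_add_eq_add]
      rw [add_comm, hxy, add_comm]
    have hzW : ((y - y' : F) : Module.End (ZMod p) V) v ∈ W₀ := by
      rw [hz]
      exact hFW _ (x' - x : F).2 w hwW
    have hyy : y - y' = 0 := by
      by_contra hne
      have hzinj : ∀ u : V, ((y - y' : F) : Module.End (ZMod p) V) u = 0 → u = 0 := by
        intro u hu
        by_contra hu0
        exact hne (Subtype.ext (hinj _ (y - y' : F).2 u hu0 hu))
      let zW : W₀ →ₗ[ZMod p] W₀ :=
        ((y - y' : F) : Module.End (ZMod p) V).restrict (hFW _ (y - y' : F).2)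
      have hzW_inj : Function.Injective zW := by
        rw [← LinearMap.ker_eq_bot, eq_bot_iff]
        intro u hu
        rw [Submodule.mem_bot]
        have h1 : ((zW u : W₀) : V) = 0 := by rw [LinearMap.mem_ker.mp hu]; rfl
        exact Subtype.ext (hzinj u h1)
      have hzW_surj : Function.Surjective zW := Finite.injective_iff_surjective.mp hzW_inj
      obtain ⟨u, hu⟩ := hzW_surj ⟨_, hzW⟩
      have h1 : ((y - y' : F) : Module.End (ZMod p) V) (u : V)
          = ((y - y' : F) : Module.End (ZMod p) V) v := congrArg Subtype.val hu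
      have h2 : ((y - y' : F) : Module.End (ZMod p) V) ((u : V) - v) = 0 := by
        rw [map_sub, h1, sub_self]
      have h3 := hzinj _ h2
      rw [sub_eq_zero] at h3
      apply hvW
      rw [← h3]
      exact u.2
    have hxx : x' - x = 0 := by
      rw [hyy] at hz
      have h1 : ((x' - x : F) : Module.End (ZMod p) V) w = 0 := by
        rw [← hz]; rfl
      exact Subtype.ext (hinj _ (x' - x : F).2 w hw0 h1)
    rw [sub_eq_zero] at hyy hxx
    rw [hyy, hxx]
  have hcard6 : Nat.card H + 1 = Nat.card V := by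
    have e : H ≃ ↥(({0} : Set V)ᶜ) := by
      refine Equiv.ofBijective (fun h => ⟨(h : V ≃ₗ[ZMod p] V) w, ?_⟩) ⟨?_, ?_⟩
      · intro h0
        exact hw0 ((h : V ≃ₗ[ZMod p] V).map_eq_zero_iff.mp h0)
      · intro h₁ h₂ h12
        have h1 : (h₁ : V ≃ₗ[ZMod p] V) w = (h₂ : V ≃ₗ[ZMod p] V) w := congrArg Subtype.val h12
        obtain ⟨h0, _, huniq⟩ := hreg w ((h₂ : V ≃ₗ[ZMod p] V) w) hw0
          (fun h0 => hw0 ((h₂ : V ≃ₗ[ZMod p] V).map_eq_zero_iff.mp h0))
        rw [huniq h₁ h1, huniq h₂ rfl]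
      · rintro ⟨u, hu⟩
        obtain ⟨h, hh, _⟩ := hreg w u hw0 hu
        exact ⟨h, Subtype.ext hh⟩
    rw [Nat.card_congr e, _root_.Nat.card_coe_set_eq, Set.ncard_compl, Set.ncard_singleton]
    have : 0 < Nat.card V := Nat.card_pos
    omega
  have hA1 : 1 ≤ Nat.card A := Nat.card_pos
  have hcard7 : Nat.card H ≤ Nat.card A * Nat.card (F ≃ₐ[ZMod p] F) := by
    rw [hcard1]
    exact Nat.mul_le_mul hcard2 hcard3
  nlinarith

end Cfsg.Agent.Lib.Helper5_RegLin
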