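import Mathlib
import Cfsg.Prelude.Def_LocalEven
import Cfsg.Agent.Lib.Helper8_Involves
import Cfsg.Agent.Lib.Helper8_S4Pres

set_option autoImplicit false
open Cfsg
open scoped Pointwise

namespace Cfsg.Agent.Lib.Helper5_S4Sec

open Cfsg.Agent.Helper8S4Pres

/-- three explicit permutations of `Fin 4`. -/
def sx : Equiv.Perm (Fin 4) := Equiv.swap 2 3
def sy : Equiv.Perm (Fin 4) := Equiv.swap 1 2 * Equiv.swap 2 3
def st : Equiv.Perm (Fin 4) := Equiv.swap 0 1 * Equiv.swap 2 3

theorem sx_apply : sx 0 = 0 ∧ sx 1 = 1 ∧ sx 2 = 3 ∧ sx 3 = 2 := by decide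
theorem sy_apply : sy 0 = 0 ∧ sy 1 = 2 ∧ sy 2 = 3 ∧ sy 3 = 1 := by decide
theorem st_apply : st 0 = 1 ∧ st 1 = 0 ∧ st 2 = 3 ∧ st 3 = 2 := by decide

theorem eq_top_of_mem (H : Subgroup (Equiv.Perm (Fin 4))) (hx : sx ∈ H) (hy : sy ∈ H)
    (ht : st ∈ H) : H = ⊤ := by
  have hA : perm Gen.A ∈ H := by
    have e : perm Gen.A = st * sx := by decide
    rw [e]; exact H.mul_mem ht hx
  have hB : perm Gen.B ∈ H := by
    have e : perm Gen.B = sy * sx := by decide
    rw [e]; exact H.mul_mem hy hx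
  have hC : perm Gen.C ∈ H := hx
  rw [eq_top_iff]
  intro σ _
  rw [← eval_word σ]
  unfold eval
  apply Subgroup.list_prod_mem
  intro z hz
  rw [List.mem_map] at hz
  obtain ⟨g, _, rfl⟩ := hz
  cases g
  · exact hA
  · exact hB
  · exact hC

universe u v

/-- A group acting on a set so that three elements realize the permutations `sx, sy, st` on four
distinct points involves `S₄`. -/
theorem involves_of_action {G : Type u} [Group G] {α : Type v} [MulAction G α] (ι : Fin 4 → α)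
    (hι : Function.Injective ι) (gx gy gt : G)
    (hgx : ∀ i, gx • ι i = ι (sx i)) (hgy : ∀ i, gy • ι i = ι (sy i))
    (hgt : ∀ i, gt • ι i = ι (st i)) : Cfsg.Involves (Equiv.Perm (Fin 4)) G := by
  classical
  set s : Set α := Set.range ι with hs
  have hmem : ∀ (g : G) (σ : Equiv.Perm (Fin 4)), (∀ i, g • ι i = ι (σ i)) →
      g ∈ MulAction.stabilizer G s := by
    intro g σ h
    rw [MulAction.mem_stabilizer_iff, hs, Set.smul_set_range]
    have : (fun i => g • ι i) = ι ∘ σ := by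
      funext i
      exact h i
    rw [this, Set.range_comp, σ.range_eq_univ, Set.image_univ]
  let e : Fin 4 ≃ s := Equiv.ofInjective ι hι
  let ψ : MulAction.stabilizer G s →* Equiv.Perm (Fin 4) :=
    (e.symm.permCongrHom).toMonoidHom.comp (MulAction.toPermHom (MulAction.stabilizer G s) s)
  have hψ : ∀ (g : G) (σ : Equiv.Perm (Fin 4)) (h : ∀ i, g • ι i = ι (σ i)),
      ψ ⟨g, hmem g σ h⟩ = σ := by
    intro g σ h
    ext i
    show ((e.symm ((⟨g, hmem g σ h⟩ : MulAction.stabilizer G s) • (e i)) : Fin 4) : ℕ) = σ i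
    have h1 : ((⟨g, hmem g σ h⟩ : MulAction.stabilizer G s) • (e i)) = e (σ i) := by
      apply Subtype.ext
      rw [SMul.smul_stabilizer_def]
      show g • ι i = ι (σ i)
      exact h i
    rw [h1, Equiv.symm_apply_apply]
  rw [Helper8_Involves.involves_iff]
  refine ⟨MulAction.stabilizer G s, ψ, ?_⟩
  rw [← MonoidHom.range_eq_top]
  apply eq_top_of_mem
  · exact ⟨_, hψ gx sx hgx⟩
  · exact ⟨_, hψ gy sy hgy⟩
  · exact ⟨_, hψ gt st hgt⟩

end Cfsg.Agent.Lib.Helper5_S4Sec
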