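import Mathlib
import Cfsg.Agent.Lib.Lead_Coprime

/-! Coprime action lemmas for the Hall–Higman minimal-action reduction. -/

set_option autoImplicit false

namespace Cfsg.Agent.Lib.Helper6_MinAction

open Cfsg.Agent.Lib.Lead_Coprime
open scoped commutatorElement

/-- `[K,A,A] = [K,A]` for a coprime action. -/
theorem commutator_commutator_eq {G : Type*} [Group G] [Finite G] (A K : Subgroup G)
    (hAK : A ≤ Subgroup.normalizer (K : Set G))
    (hcop : (Nat.card A).Coprime (Nat.card K))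
    (hsolv : Group.IsSolvable A ∨ Group.IsSolvable K) :
    ⁅⁅K, A⁆, A⁆ = ⁅K, A⁆ := by
  apply le_antisymm
  · exact commutator_le_of_le_normalizer _ _ (le_normalizer_commutator_right K A)
  · rw [Subgroup.commutator_le]
    intro k hk a ha
    obtain ⟨n, hn, c, hc, rfl⟩ := decomp A K hAK hcop hsolv k hk
    have hca : a * c = c * a := (Subgroup.mem_centralizer_iff.mp (Subgroup.mem_inf.mp hc).2) a ha
    have e : ⁅n * c, a⁆ = ⁅n, a⁆ := by
      simp only [commutatorElement_def, mul_inv_rev]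
      have : n * c * a * (c⁻¹ * n⁻¹) * a⁻¹ = n * (c * a) * c⁻¹ * n⁻¹ * a⁻¹ := by group
      rw [this, ← hca]
      group
    rw [e]
    exact Subgroup.commutator_mem_commutator hn ha

/-- If `P = [P,A]` for a coprime action on the `p`-group `P`, then `C_P(A) ≤ P'`. -/
theorem fixed_mem_commutator {G : Type*} [Group G] [Finite G] {p : ℕ} [Fact p.Prime]
    (A P : Subgroup G) (hP : IsPGroup p P)
    (hAP : A ≤ Subgroup.normalizer (P : Set G)) (hcop : (Nat.card A).Coprime p)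
    (hPA : ⁅P, A⁆ = P) (x : ↥P) (hx : ∀ a ∈ A, a * (x : G) = (x : G) * a) :
    x ∈ commutator ↥P := by
  classical
  let _ : Fintype A := Fintype.ofFinite A
  let σ : A → (↥P ≃* ↥P) := fun a => conjEquivOfMemNormalizer (hAP a.2)
  have hσ : ∀ (a : A) (y : ↥P), ((σ a y : ↥P) : G) = a * y * (a : G)⁻¹ := fun a y => rfl
  let τ : ↥P →* Abelianization ↥P :=
    ∏ a : A, ((Abelianization.of).comp (σ a).toMonoidHom)
  have hτ : ∀ y, τ y = ∏ a : A, Abelianization.of (σ a y) := by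
    intro y
    simp [τ]
  have h2 : ∀ (b : A) (y : ↥P), τ (σ b y) = τ y := by
    intro b y
    rw [hτ, hτ]
    have e : ∀ a : A, σ a (σ b y) = σ (a * b) y := by
      intro a
      apply Subtype.ext
      rw [hσ, hσ, hσ]
      simp only [Subgroup.coe_mul, mul_inv_rev]
      group
    simp_rw [e]
    exact Equiv.prod_comp (Equiv.mulRight b) (fun a => Abelianization.of (σ a y))
  have h3 : ⁅P, A⁆ ≤ (τ.ker).map P.subtype := by
    rw [Subgroup.commutator_le]
    intro k hk a ha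
    have hm : ⁅k, a⁆ ∈ P := by
      rw [← hPA]; exact Subgroup.commutator_mem_commutator hk ha
    refine ⟨⟨⁅k, a⁆, hm⟩, ?_, rfl⟩
    have e : (⟨⁅k, a⁆, hm⟩ : ↥P) = ⟨k, hk⟩ * σ ⟨a, ha⟩ (⟨k, hk⟩⁻¹) := by
      apply Subtype.ext
      rw [Subgroup.coe_mul, hσ]
      simp only [commutatorElement_def, Subgroup.coe_inv]
      group
    change τ _ = 1
    rw [e, map_mul, h2, map_inv, mul_inv_cancel]
  have h4 : ∀ y : ↥P, τ y = 1 := by
    intro y
    have hy : (y : G) ∈ (τ.ker).map P.subtype := h3 (by rw [hPA]; exact y.2)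
    obtain ⟨z, hz, hzy⟩ := hy
    have : z = y := Subtype.ext hzy
    rw [← this]; exact hz
  have h5 : τ x = Abelianization.of x ^ Nat.card A := by
    rw [hτ]
    have e : ∀ a : A, σ a x = x := by
      intro a
      apply Subtype.ext
      rw [hσ, hx a a.2]
      group
    simp_rw [e]
    rw [Finset.prod_const, Finset.card_univ, Nat.card_eq_fintype_card]
  obtain ⟨k, hk⟩ := hP x
  have h6 : Abelianization.of x ^ (p ^ k) = 1 := by
    rw [← map_pow, hk, map_one]
  have h7 : Abelianization.of x ^ Nat.card A = 1 := by rw [← h5]; exact h4 x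
  have h8 : orderOf (Abelianization.of x) ∣ Nat.gcd (Nat.card A) (p ^ k) :=
    Nat.dvd_gcd (orderOf_dvd_of_pow_eq_one h7) (orderOf_dvd_of_pow_eq_one h6)
  have h9 : Nat.gcd (Nat.card A) (p ^ k) = 1 := Nat.Coprime.pow_right k hcop
  rw [h9, Nat.dvd_one, orderOf_eq_one_iff] at h8
  rw [← Abelianization.ker_of]
  exact h8

/-- class-two commutation: `y^n x = c^n x y^n` with `c = [y,x]` central. -/
theorem pow_mul_class_two {R : Type*} [Group R] (x y : R) (hc : ∀ r, Commute ⁅y, x⁆ r) (n : ℕ) :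
    y ^ n * x = ⁅y, x⁆ ^ n * x * y ^ n := by
  induction n with
  | zero => simp
  | succ n ih =>
    have h0 : y * x = ⁅y, x⁆ * x * y := by simp only [commutatorElement_def]; group
    calc y ^ (n + 1) * x = y * (y ^ n * x) := by rw [pow_succ', mul_assoc]
      _ = y * (⁅y, x⁆ ^ n * x * y ^ n) := by rw [ih]
      _ = ⁅y, x⁆ ^ n * (y * x) * y ^ n := by
        rw [← mul_assoc, ← mul_assoc, ((hc y).pow_left n).eq.symm]; simp only [mul_assoc]
      _ = ⁅y, x⁆ ^ n * (⁅y, x⁆ * x * y) * y ^ n := by rw [h0]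
      _ = ⁅y, x⁆ ^ (n + 1) * x * y ^ (n + 1) := by
        rw [pow_succ, pow_succ']; simp only [mul_assoc]

/-- `[y^n, x] = [y,x]^n` in class two. -/
theorem commutator_pow_class_two {R : Type*} [Group R] (x y : R) (hc : ∀ r, Commute ⁅y, x⁆ r)
    (n : ℕ) : ⁅y ^ n, x⁆ = ⁅y, x⁆ ^ n := by
  have h := pow_mul_class_two x y hc n
  rw [commutatorElement_def, h]
  group

/-- the class-two power formula. -/
theorem mul_pow_class_two {R : Type*} [Group R] (x y : R) (hc : ∀ r, Commute ⁅y, x⁆ r) (n : ℕ) :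
    (x * y) ^ n = x ^ n * y ^ n * ⁅y, x⁆ ^ (n.choose 2) := by
  have hcc : ∀ (m : ℕ) (r : R), ⁅y, x⁆ ^ m * r = r * ⁅y, x⁆ ^ m :=
    fun m r => ((hc r).pow_left m).eq
  induction n with
  | zero => simp
  | succ n ih =>
    have hch : (n + 1).choose 2 = n + n.choose 2 := by
      rw [Nat.choose_succ_succ' n 1, Nat.choose_one_right]
    calc (x * y) ^ (n + 1) = (x * y) ^ n * (x * y) := pow_succ _ _
      _ = x ^ n * y ^ n * ⁅y, x⁆ ^ (n.choose 2) * (x * y) := by rw [ih]
      _ = x ^ n * y ^ n * ((x * y) * ⁅y, x⁆ ^ (n.choose 2)) := by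
        rw [mul_assoc (x ^ n * y ^ n), hcc]
      _ = x ^ n * (y ^ n * x) * y * ⁅y, x⁆ ^ (n.choose 2) := by simp only [mul_assoc]
      _ = x ^ n * (⁅y, x⁆ ^ n * x * y ^ n) * y * ⁅y, x⁆ ^ (n.choose 2) := by
        rw [pow_mul_class_two x y hc n]
      _ = x ^ n * (x * y ^ n * ⁅y, x⁆ ^ n) * y * ⁅y, x⁆ ^ (n.choose 2) := by
        rw [mul_assoc (⁅y, x⁆ ^ n) x (y ^ n), hcc n (x * y ^ n)]
      _ = x ^ n * x * y ^ n * (⁅y, x⁆ ^ n * y) * ⁅y, x⁆ ^ (n.choose 2) := by
        simp only [mul_assoc]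
      _ = x ^ n * x * y ^ n * (y * ⁅y, x⁆ ^ n) * ⁅y, x⁆ ^ (n.choose 2) := by rw [hcc n y]
      _ = (x ^ n * x) * (y ^ n * y) * (⁅y, x⁆ ^ n * ⁅y, x⁆ ^ (n.choose 2)) := by
        simp only [mul_assoc]
      _ = x ^ (n + 1) * y ^ (n + 1) * ⁅y, x⁆ ^ ((n + 1).choose 2) := by
        rw [← pow_succ, ← pow_succ, ← pow_add, hch]

end Cfsg.Agent.Lib.Helper6_MinAction
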