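import Mathlib
import Cfsg.Prelude.Def_LocalEven
import Cfsg.Agent.Lib.Helper5_S4Sec
import Cfsg.Agent.Lib.Lead_Coprime
import Cfsg.Agent.Lib.Helper6_MinAction
import Cfsg.Agent.Lib.Helper7_PFrattini
import Cfsg.Agent.Lib.Helper4_FixedPoint

set_option autoImplicit false
open Cfsg
open scoped Pointwise

namespace Cfsg.Agent.Lib.Helper5_S4Sec2

open Subgroup

variable {G : Type*} [Group G]

/-- the "Frattini-like" subgroup generated by commutators and squares. -/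
def phiSet (T : Subgroup G) : Set G :=
  {g | ∃ s ∈ T, ∃ t ∈ T, g = s * t * s⁻¹ * t⁻¹} ∪ {g | ∃ t ∈ T, g = t * t}

def phi (T : Subgroup G) : Subgroup G := closure (phiSet T)

theorem phi_le (T : Subgroup G) : phi T ≤ T := by
  unfold phi
  rw [closure_le]
  rintro g (⟨s, hs, t, ht, rfl⟩ | ⟨t, ht, rfl⟩)
  · exact T.mul_mem (T.mul_mem (T.mul_mem hs ht) (T.inv_mem hs)) (T.inv_mem ht)
  · exact T.mul_mem ht ht

theorem comm_mem_phi (T : Subgroup G) {s t : G} (hs : s ∈ T) (ht : t ∈ T) :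
    s * t * s⁻¹ * t⁻¹ ∈ phi T :=
  subset_closure (Or.inl ⟨s, hs, t, ht, rfl⟩)

theorem sq_mem_phi (T : Subgroup G) {t : G} (ht : t ∈ T) : t * t ∈ phi T :=
  subset_closure (Or.inr ⟨t, ht, rfl⟩)

theorem normalizer_le_normalizer_phi (T : Subgroup G) :
    normalizer (T : Set G) ≤ normalizer ((phi T : Subgroup G) : Set G) := by
  unfold phi
  rw [le_normalizer_closure_iff]
  intro h hh g hg
  have hc : ∀ t ∈ T, h * t * h⁻¹ ∈ T := fun t ht => (mem_normalizer_iff.mp hh t).mp ht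
  apply Subgroup.subset_closure
  rcases hg with ⟨s, hs, t, ht, rfl⟩ | ⟨t, ht, rfl⟩
  · left
    refine ⟨h * s * h⁻¹, hc s hs, h * t * h⁻¹, hc t ht, ?_⟩
    group
  · right
    refine ⟨h * t * h⁻¹, hc t ht, ?_⟩
    group

theorem conj_mem_phi (T : Subgroup G) {h : G} (hh : h ∈ normalizer (T : Set G)) {g : G}
    (hg : g ∈ phi T) : h * g * h⁻¹ ∈ phi T :=
  (mem_normalizer_iff.mp (normalizer_le_normalizer_phi T hh) g).mp hg

theorem conj_mem_phi' (T : Subgroup G) {h : G} (hh : h ∈ normalizer (T : Set G)) {g : G}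
    (hg : g ∈ phi T) : h⁻¹ * g * h ∈ phi T := by
  have := conj_mem_phi T (inv_mem hh) hg
  rwa [inv_inv] at this

theorem coe_mem_phi_of_mem_commutator (T : Subgroup G) (w : ↥T) (hw : w ∈ commutator ↥T) :
    (w : G) ∈ phi T := by
  rw [commutator_eq_closure] at hw
  induction hw using Subgroup.closure_induction with
  | mem z hz =>
    obtain ⟨a, b, rfl⟩ := hz
    have := comm_mem_phi T a.2 b.2
    simpa [commutatorElement_def] using this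
  | one => exact one_mem _
  | mul a b _ _ ha hb => simpa using mul_mem ha hb
  | inv a _ ha => simpa using inv_mem ha

theorem phi_ne [Finite G] (T : Subgroup G) (hT : IsPGroup 2 T) (hT1 : T ≠ ⊥) : ∃ t ∈ T, t ∉ phi T := by
  by_contra hcon
  push Not at hcon
  haveI : Nontrivial ↥T := (Subgroup.nontrivial_iff_ne_bot T).mpr hT1
  haveI : Fact (Nat.Prime 2) := ⟨Nat.prime_two⟩
  have hle : phi T ≤ (frattini ↥T).map T.subtype := by
    unfold phi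
    rw [closure_le]
    rintro g (⟨s, hs, t, ht, rfl⟩ | ⟨t, ht, rfl⟩)
    · refine ⟨⟨s, hs⟩ * ⟨t, ht⟩ * ⟨s, hs⟩⁻¹ * ⟨t, ht⟩⁻¹,
        Helper7_PFrattini.comm_mem_frattini hT _ _, ?_⟩
      simp
    · refine ⟨⟨t, ht⟩ ^ 2, Helper7_PFrattini.pow_mem_frattini hT _, ?_⟩
      simp [pow_two]
  have htop : frattini ↥T = ⊤ := by
    rw [eq_top_iff]
    intro w _
    obtain ⟨w', hw', hww⟩ := hle (hcon w w.2)
    have : w' = w := Subtype.ext hww
    rwa [this] at hw'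
  rcases eq_top_or_exists_le_coatom (⊥ : Subgroup ↥T) with h | ⟨M, hM, -⟩
  · exact bot_ne_top h
  · have := frattini_le_coatom hM
    rw [htop] at this
    exact hM.1 (top_le_iff.mp this)


/-- the minimal configuration. -/
theorem exists_min_config [Finite G] (T : Subgroup G) (hT : IsPGroup 2 T)
    (x y : G) (hy3 : ∃ k : ℕ, orderOf y = 3 ^ k)
    (hxT : x ∈ normalizer (T : Set G)) (hyT : y ∈ normalizer (T : Set G))
    (hxy : x * y * x⁻¹ = y⁻¹) (hyC : y ∉ centralizer (T : Set G)) :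
    ∃ T₁ : Subgroup G, T₁ ≤ T ∧ x ∈ normalizer (T₁ : Set G) ∧ y ∈ normalizer (T₁ : Set G) ∧
      y ∉ centralizer (T₁ : Set G) ∧
      (∀ t ∈ T₁, y * t = t * y → t ∈ phi T₁) ∧
      (∀ t ∈ T₁, t⁻¹ * y * t * y⁻¹ ∈ phi T₁ → t ∈ phi T₁) := by
  classical
  let P : Subgroup G → Prop := fun T' => T' ≤ T ∧ x ∈ normalizer (T' : Set G) ∧
    y ∈ normalizer (T' : Set G) ∧ y ∉ centralizer (T' : Set G)
  obtain ⟨T₁, ⟨hT₁T, hxT₁, hyT₁, hyC₁⟩, hmin⟩ :=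
    exists_minimal_of_wellFoundedLT P ⟨T, le_rfl, hxT, hyT, hyC⟩
  have hT₁2 : IsPGroup 2 T₁ := hT.to_le hT₁T
  set A : Subgroup G := zpowers y with hA
  have hAN : A ≤ normalizer (T₁ : Set G) := by rw [hA, zpowers_le]; exact hyT₁
  obtain ⟨ky, hky⟩ := hy3
  have hAcard : Nat.card A = 3 ^ ky := by rw [hA, Nat.card_zpowers, hky]
  haveI : Fact (Nat.Prime 2) := ⟨Nat.prime_two⟩
  obtain ⟨n₁, hn₁⟩ := IsPGroup.iff_card.mp hT₁2
  have hcop : (Nat.card A).Coprime (Nat.card T₁) := by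
    rw [hAcard, hn₁]; exact Nat.Coprime.pow _ _ (by decide)
  have hcop2 : (Nat.card A).Coprime 2 := by
    rw [hAcard]; exact Nat.Coprime.pow_left _ (by decide)
  have hsolvA : Group.IsSolvable A := by
    haveI : IsCyclic A := by rw [hA]; infer_instance
    letI : CommGroup A := IsCyclic.commGroup
    infer_instance
  have hcc := Helper6_MinAction.commutator_commutator_eq A T₁ hAN hcop (Or.inl hsolvA)
  have hle : ⁅T₁, A⁆ ≤ T₁ := Lead_Coprime.commutator_le_of_le_normalizer T₁ A hAN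
  have hxA : x ∈ normalizer (A : Set G) := by
    rw [mem_normalizer_iff_map_conj_eq, hA, MonoidHom.map_zpowers]
    show zpowers (x * y * x⁻¹) = zpowers y
    rw [hxy, zpowers_inv]
  have hxcomm : x ∈ normalizer ((⁅T₁, A⁆ : Subgroup G) : Set G) := by
    rw [mem_normalizer_iff_map_conj_eq, map_commutator, mem_normalizer_iff_map_conj_eq.mp hxT₁,
      mem_normalizer_iff_map_conj_eq.mp hxA]
  have hycomm : y ∈ normalizer ((⁅T₁, A⁆ : Subgroup G) : Set G) :=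
    Lead_Coprime.le_normalizer_commutator_right T₁ A (mem_zpowers y)
  have hynC : y ∉ centralizer ((⁅T₁, A⁆ : Subgroup G) : Set G) := by
    intro h
    have h1 : ⁅⁅T₁, A⁆, A⁆ = ⊥ := by
      rw [commutator_eq_bot_iff_le_centralizer, le_centralizer_iff, hA, zpowers_le]
      exact h
    rw [hcc, commutator_eq_bot_iff_le_centralizer, le_centralizer_iff] at h1
    exact hyC₁ (h1 (mem_zpowers y))
  have hTeq : ⁅T₁, A⁆ = T₁ :=
    le_antisymm hle (hmin ⟨hle.trans hT₁T, hxcomm, hycomm, hynC⟩ hle)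
  have hfix : ∀ t ∈ T₁, y * t = t * y → t ∈ phi T₁ := by
    intro t ht hyt
    have h1 : ∀ a ∈ A, a * ((⟨t, ht⟩ : ↥T₁) : G) = ((⟨t, ht⟩ : ↥T₁) : G) * a := by
      intro a ha
      obtain ⟨n, rfl⟩ := mem_zpowers_iff.mp ha
      have hc : Commute y t := hyt
      exact (hc.zpow_left n).eq
    have := Helper6_MinAction.fixed_mem_commutator A T₁ hT₁2 hAN hcop2 hTeq ⟨t, ht⟩ h1
    exact coe_mem_phi_of_mem_commutator T₁ _ this
  refine ⟨T₁, hT₁T, hxT₁, hyT₁, hyC₁, hfix, ?_⟩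
  intro t ht hty
  have hΦT := phi_le T₁
  have hAΦ : A ≤ normalizer ((phi T₁ : Subgroup G) : Set G) :=
    hAN.trans (normalizer_le_normalizer_phi T₁)
  have hcopΦ : (Nat.card A).Coprime (Nat.card (phi T₁)) :=
    Nat.Coprime.coprime_dvd_right (Subgroup.card_dvd_of_le hΦT) hcop
  have hpow : ∀ n : ℕ, t⁻¹ * y ^ n * t * (y ^ n)⁻¹ ∈ phi T₁ := by
    intro n
    induction n with
    | zero => simp
    | succ n ih =>
      have hyn : y ^ n ∈ normalizer (T₁ : Set G) := pow_mem hyT₁ n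
      have h2 := conj_mem_phi T₁ hyn hty
      have e : t⁻¹ * y ^ (n + 1) * t * (y ^ (n + 1))⁻¹ =
          (t⁻¹ * y ^ n * t * (y ^ n)⁻¹) * (y ^ n * (t⁻¹ * y * t * y⁻¹) * (y ^ n)⁻¹) := by
        rw [pow_succ]; group
      rw [e]
      exact mul_mem ih h2
  have hall : ∀ a ∈ A, t⁻¹ * a * t * a⁻¹ ∈ phi T₁ := by
    intro a ha
    have ha' : a ∈ Submonoid.powers y := (mem_powers_iff_mem_zpowers).mpr ha
    obtain ⟨n, rfl⟩ := (Submonoid.mem_powers_iff _ _).mp ha'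
    exact hpow n
  obtain ⟨d, hd, htd⟩ := Lead_Coprime.lemmaC (phi T₁) A hAΦ hcopΦ (Or.inl hsolvA) t hall
  have h1 : y * (t * d) = (t * d) * y := (mem_centralizer_iff.mp htd y (mem_zpowers y))
  have h2 : t * d ∈ phi T₁ := hfix _ (T₁.mul_mem ht (hΦT hd)) h1
  have e : t = (t * d) * d⁻¹ := by group
  rw [e]
  exact mul_mem h2 (inv_mem hd)


/-- a `2`-element acting on a `2`-group fixes a nontrivial coset of an invariant normal subgroup. -/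
theorem exists_fixed_mod [Finite G] (T₁ Φ : Subgroup G) (hT₁ : IsPGroup 2 T₁)
    (x : G) (hx2 : ∃ k : ℕ, orderOf x = 2 ^ k)
    (hxT : x ∈ normalizer (T₁ : Set G)) (hxΦ : x ∈ normalizer (Φ : Set G))
    (hTΦ : T₁ ≤ normalizer (Φ : Set G)) (hne : ∃ t ∈ T₁, t ∉ Φ) :
    ∃ t₁ ∈ T₁, t₁ ∉ Φ ∧ t₁⁻¹ * (x * t₁ * x⁻¹) ∈ Φ := by
  haveI : Fact (Nat.Prime 2) := ⟨Nat.prime_two⟩
  set N' : Subgroup G := normalizer (Φ : Set G) with hN'
  let π := QuotientGroup.mk' (Φ.subgroupOf N')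
  have hπ1 : ∀ a : N', π a = 1 ↔ (a : G) ∈ Φ := by
    intro a
    rw [QuotientGroup.mk'_apply, QuotientGroup.eq_one_iff, mem_subgroupOf]
  set W : Subgroup (↥N' ⧸ Φ.subgroupOf N') := (T₁.subgroupOf N').map π with hW
  set D : Subgroup (↥N' ⧸ Φ.subgroupOf N') := (zpowers (⟨x, hxΦ⟩ : N')).map π with hD
  have hWp : IsPGroup 2 W := (hT₁.comap_subtype).map π
  have hW1 : W ≠ ⊥ := by
    obtain ⟨t, ht, htΦ⟩ := hne
    intro h
    have h1 : π ⟨t, hTΦ ht⟩ ∈ W := ⟨⟨t, hTΦ ht⟩, by rw [SetLike.mem_coe, mem_subgroupOf]; exact ht, rfl⟩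
    rw [h, mem_bot, hπ1] at h1
    exact htΦ h1
  have hDW : ∀ d ∈ D, ∀ w ∈ W, d * w * d⁻¹ ∈ W := by
    rintro _ ⟨a, ha, rfl⟩ _ ⟨b, hb, rfl⟩
    refine ⟨a * b * a⁻¹, ?_, by simp⟩
    rw [SetLike.mem_coe, mem_subgroupOf] at hb ⊢
    have haN : (a : G) ∈ normalizer (T₁ : Set G) := by
      obtain ⟨n, hn⟩ := mem_zpowers_iff.mp ha
      have : (a : G) = x ^ n := by rw [← hn]; simp
      rw [this]
      exact zpow_mem hxT n
    have := (mem_normalizer_iff.mp haN (b : G)).mp hb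
    simpa using this
  obtain ⟨kx, hkx⟩ := hx2
  have hDp : ∀ d ∈ D, ∃ k : ℕ, d ^ (2 ^ k) ∈ centralizer (W : Set (↥N' ⧸ Φ.subgroupOf N')) := by
    rintro _ ⟨a, ha, rfl⟩
    refine ⟨kx, ?_⟩
    obtain ⟨n, hn⟩ := mem_zpowers_iff.mp ha
    have h1 : a ^ (2 ^ kx) = 1 := by
      rw [← hn, ← zpow_natCast, ← zpow_mul, mul_comm, zpow_mul, zpow_natCast]
      have : (⟨x, hxΦ⟩ : N') ^ (2 ^ kx) = 1 := by
        apply Subtype.ext
        simp only [Subgroup.coe_pow, Subgroup.coe_one]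
        rw [← hkx]; exact pow_orderOf_eq_one x
      rw [this, one_zpow]
    rw [← map_pow, h1, map_one]
    exact one_mem _
  obtain ⟨w, hwW, hw1, hwD⟩ := Helper4_FixedPoint.exists_fixed_of_pAction W D hWp hW1 hDW hDp
  obtain ⟨b, hb, rfl⟩ := hwW
  rw [SetLike.mem_coe, mem_subgroupOf] at hb
  refine ⟨(b : G), hb, ?_, ?_⟩
  · intro h
    exact hw1 ((hπ1 b).mpr h)
  · have h1 := hwD (π ⟨x, hxΦ⟩) ⟨_, mem_zpowers _, rfl⟩
    rw [← map_mul, ← map_mul] at h1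
    have h2 := QuotientGroup.eq.mp h1
    rw [mem_subgroupOf] at h2
    simp only [Subgroup.coe_mul, Subgroup.coe_inv] at h2
    -- h2 : (x * b)⁻¹ * (b * x) ∈ Φ
    have h3 := (mem_normalizer_iff.mp hxΦ _).mp h2
    have e : x * ((x * (b : G))⁻¹ * ((b : G) * x)) * x⁻¹ = ((b : G)⁻¹ * (x * b * x⁻¹))⁻¹ := by group
    rw [e] at h3
    have := inv_mem h3
    rwa [inv_inv] at this


open Cfsg.Agent.Lib.Helper5_S4Sec in
/-- The key configuration: a `2`-element `x` inverting a `3`-element `y`, both normalizing the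
`2`-group `T`, `y` not centralizing `T` but `y³` centralizing it, forces `S₄` to be involved. -/
theorem involves_S4_of_config [Finite G] (T : Subgroup G) (hT : IsPGroup 2 T)
    (x y : G) (hx2 : ∃ k : ℕ, orderOf x = 2 ^ k) (hy3 : ∃ k : ℕ, orderOf y = 3 ^ k)
    (hxT : x ∈ normalizer (T : Set G)) (hyT : y ∈ normalizer (T : Set G))
    (hxy : x * y * x⁻¹ = y⁻¹) (hyC : y ∉ centralizer (T : Set G))
    (hy3C : y ^ 3 ∈ centralizer (T : Set G)) : Cfsg.Involves (Equiv.Perm (Fin 4)) G := by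
  classical
  obtain ⟨T₁, hT₁T, hxT₁, hyT₁, hyC₁, hfix, hfix3⟩ :=
    exists_min_config T hT x y hy3 hxT hyT hxy hyC
  have hT₁2 : IsPGroup 2 T₁ := hT.to_le hT₁T
  have hy3C₁ : y ^ 3 ∈ centralizer (T₁ : Set G) := centralizer_le hT₁T hy3C
  have hT₁bot : T₁ ≠ ⊥ := by
    rintro rfl
    apply hyC₁
    rw [mem_centralizer_iff]
    intro h hh
    rw [SetLike.mem_coe, mem_bot] at hh
    rw [hh]; simp
  set Φ : Subgroup G := phi T₁ with hΦ
  have hΦT : Φ ≤ T₁ := phi_le T₁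
  have hxΦ : x ∈ normalizer (Φ : Set G) := normalizer_le_normalizer_phi T₁ hxT₁
  have hyΦ : y ∈ normalizer (Φ : Set G) := normalizer_le_normalizer_phi T₁ hyT₁
  have hTΦ : T₁ ≤ normalizer (Φ : Set G) := le_normalizer.trans (normalizer_le_normalizer_phi T₁)
  obtain ⟨t₁, ht₁, ht₁Φ, hxt₁⟩ :=
    exists_fixed_mod T₁ Φ hT₁2 x hx2 hxT₁ hxΦ hTΦ (phi_ne T₁ hT₁2 hT₁bot)
  -- conjugation helpers
  have hyc : ∀ t ∈ T₁, y * t * y⁻¹ ∈ T₁ := fun t ht => (mem_normalizer_iff.mp hyT₁ t).mp ht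
  have hyc' : ∀ t ∈ T₁, y⁻¹ * t * y ∈ T₁ := fun t ht => by
    have := (mem_normalizer_iff.mp (inv_mem hyT₁) t).mp ht
    rwa [inv_inv] at this
  have hxc : ∀ t ∈ T₁, x * t * x⁻¹ ∈ T₁ := fun t ht => (mem_normalizer_iff.mp hxT₁ t).mp ht
  have hyΦc : ∀ t ∈ Φ, y * t * y⁻¹ ∈ Φ := fun t ht => (mem_normalizer_iff.mp hyΦ t).mp ht
  have hyΦc' : ∀ t ∈ Φ, y⁻¹ * t * y ∈ Φ := fun t ht => by
    have := (mem_normalizer_iff.mp (inv_mem hyΦ) t).mp ht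
    rwa [inv_inv] at this
  have hTΦc : ∀ s ∈ T₁, ∀ t ∈ Φ, s * t * s⁻¹ ∈ Φ := fun s hs t ht =>
    (mem_normalizer_iff.mp (hTΦ hs) t).mp ht
  -- the points
  set t₂ : G := y * t₁ * y⁻¹ with ht₂def
  set t₃ : G := y * t₂ * y⁻¹ with ht₃def
  have ht₂ : t₂ ∈ T₁ := hyc t₁ ht₁
  have ht₃ : t₃ ∈ T₁ := hyc t₂ ht₂
  have hy3t : y * t₃ * y⁻¹ = t₁ := by
    have h1 := mem_centralizer_iff.mp hy3C₁ t₁ ht₁
    -- h1 : t₁ * y^3 = y^3 * t₁
    have e3 : y ^ 3 = y * y * y := by rw [pow_succ, pow_two]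
    have e : y * t₃ * y⁻¹ = (y * y * y) * t₁ * (y * y * y)⁻¹ := by
      rw [ht₃def, ht₂def]; group
    rw [e, ← e3, ← h1]; group
  have ht₃' : t₃ = y⁻¹ * t₁ * y := by
    rw [← hy3t]; group
  -- relations between x and y
  have hxy1 : x * y = y⁻¹ * x := by
    calc x * y = (x * y * x⁻¹) * x := by group
      _ = y⁻¹ * x := by rw [hxy]
  have hxy2 : x * y⁻¹ = y * x := by
    have : x * y⁻¹ * x⁻¹ = y := by
      have e : x * y⁻¹ * x⁻¹ = (x * y * x⁻¹)⁻¹ := by group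
      rw [e, hxy, inv_inv]
    calc x * y⁻¹ = (x * y⁻¹ * x⁻¹) * x := by group
      _ = y * x := by rw [this]
  have hq1 : (x * t₁ * x⁻¹)⁻¹ * t₁ ∈ Φ := by
    have := inv_mem hxt₁
    have e : (t₁⁻¹ * (x * t₁ * x⁻¹))⁻¹ = (x * t₁ * x⁻¹)⁻¹ * t₁ := by group
    rwa [e] at this
  have hq2 : (x * t₂ * x⁻¹)⁻¹ * t₃ ∈ Φ := by
    have e1 : x * t₂ * x⁻¹ = y⁻¹ * (x * t₁ * x⁻¹) * y := by
      rw [ht₂def]
      calc x * (y * t₁ * y⁻¹) * x⁻¹ = (x * y) * t₁ * (x * y)⁻¹ := by group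
        _ = (y⁻¹ * x) * t₁ * (y⁻¹ * x)⁻¹ := by rw [hxy1]
        _ = y⁻¹ * (x * t₁ * x⁻¹) * y := by group
    have e : (x * t₂ * x⁻¹)⁻¹ * t₃ = y⁻¹ * ((x * t₁ * x⁻¹)⁻¹ * t₁) * y := by
      rw [e1, ht₃']; group
    rw [e]
    exact hyΦc' _ hq1
  have hq3 : (x * t₃ * x⁻¹)⁻¹ * t₂ ∈ Φ := by
    have e1 : x * t₃ * x⁻¹ = y * (x * t₁ * x⁻¹) * y⁻¹ := by
      rw [ht₃']
      calc x * (y⁻¹ * t₁ * y) * x⁻¹ = (x * y⁻¹) * t₁ * (x * y⁻¹)⁻¹ := by group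
        _ = (y * x) * t₁ * (y * x)⁻¹ := by rw [hxy2]
        _ = y * (x * t₁ * x⁻¹) * y⁻¹ := by group
    have e : (x * t₃ * x⁻¹)⁻¹ * t₂ = y * ((x * t₁ * x⁻¹)⁻¹ * t₁) * y⁻¹ := by
      rw [e1, ht₂def]; group
    rw [e]
    exact hyΦc _ hq1
  -- the norm element
  have hN : t₁ * t₂ * t₃ ∈ Φ := by
    apply hfix3 _ (T₁.mul_mem (T₁.mul_mem ht₁ ht₂) ht₃)
    have e : (t₁ * t₂ * t₃)⁻¹ * y * (t₁ * t₂ * t₃) * y⁻¹ =
        (t₂ * t₃)⁻¹ * t₁⁻¹ * (t₂ * t₃)⁻¹⁻¹ * t₁⁻¹⁻¹ := by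
      have e2 : y * (t₁ * t₂ * t₃) * y⁻¹ = (y * t₁ * y⁻¹) * (y * t₂ * y⁻¹) * (y * t₃ * y⁻¹) := by
        group
      calc (t₁ * t₂ * t₃)⁻¹ * y * (t₁ * t₂ * t₃) * y⁻¹
          = (t₁ * t₂ * t₃)⁻¹ * (y * (t₁ * t₂ * t₃) * y⁻¹) := by group
        _ = (t₁ * t₂ * t₃)⁻¹ * (t₂ * t₃ * t₁) := by rw [e2, hy3t]
        _ = (t₂ * t₃)⁻¹ * t₁⁻¹ * (t₂ * t₃)⁻¹⁻¹ * t₁⁻¹⁻¹ := by group
    rw [e]
    exact comm_mem_phi T₁ (inv_mem (T₁.mul_mem ht₂ ht₃)) (inv_mem ht₁)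
  have hp2 : (t₁ * t₂)⁻¹ * t₃ ∈ Φ := by
    have e : (t₁ * t₂)⁻¹ * t₃ = ((t₁ * t₂) * (t₁ * t₂))⁻¹ * (t₁ * t₂ * t₃) := by group
    rw [e]
    exact mul_mem (inv_mem (sq_mem_phi T₁ (T₁.mul_mem ht₁ ht₂))) hN
  have hp3 : (t₁ * t₃)⁻¹ * t₂ ∈ Φ := by
    have e : (t₁ * t₃)⁻¹ * t₂ = ((t₁ * t₃) * (t₁ * t₃))⁻¹ * ((t₁ * t₂ * t₃) *
        (t₃⁻¹ * t₂⁻¹ * t₃⁻¹⁻¹ * t₂⁻¹⁻¹)) := by group
    rw [e]
    exact mul_mem (inv_mem (sq_mem_phi T₁ (T₁.mul_mem ht₁ ht₃)))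
      (mul_mem hN (comm_mem_phi T₁ (inv_mem ht₃) (inv_mem ht₂)))
  -- non-membership facts
  have hn02 : t₂ ∉ Φ := by
    intro h
    apply ht₁Φ
    have := hyΦc' _ h
    have e : y⁻¹ * t₂ * y = t₁ := by rw [ht₂def]; group
    rwa [e] at this
  have hn03 : t₃ ∉ Φ := by
    intro h
    apply ht₁Φ
    have := hyΦc _ h
    rwa [hy3t] at this
  have hn12 : t₁⁻¹ * t₂ ∉ Φ := by
    intro h
    apply ht₁Φ
    apply hfix3 t₁ ht₁
    have e : t₁⁻¹ * y * t₁ * y⁻¹ = t₁⁻¹ * t₂ := by rw [ht₂def]; group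
    rw [e]; exact h
  have hn23 : t₂⁻¹ * t₃ ∉ Φ := by
    intro h
    apply hn12
    have := hyΦc' _ h
    have e : y⁻¹ * (t₂⁻¹ * t₃) * y = t₁⁻¹ * t₂ := by
      rw [ht₃def, ht₂def]; group
    rwa [e] at this
  have hn13 : t₁⁻¹ * t₃ ∉ Φ := by
    intro h
    apply hn23
    have h' := inv_mem h
    have := hyΦc' _ h'
    have e : y⁻¹ * (t₁⁻¹ * t₃)⁻¹ * y = t₂⁻¹ * t₃ := by
      have e1 : t₁ = y * t₃ * y⁻¹ := hy3t.symm
      have e2 : y⁻¹ * (t₁⁻¹ * t₃)⁻¹ * y = (y⁻¹ * t₃ * y)⁻¹ * (y⁻¹ * t₁ * y) := by group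
      have e3 : y⁻¹ * t₃ * y = t₂ := by rw [ht₃def]; group
      have e4 : y⁻¹ * t₁ * y = t₃ := ht₃'.symm
      rw [e2, e3, e4]
    rwa [e] at this
  -- the subgroup B
  set E : Subgroup G := zpowers y ⊔ zpowers x with hE
  set B : Subgroup G := Φ ⊔ E with hB
  have hyE : y ∈ E := mem_sup_left (mem_zpowers y)
  have hxE : x ∈ E := mem_sup_right (mem_zpowers x)
  have hEΦ : E ≤ normalizer (Φ : Set G) := by
    rw [hE, sup_le_iff, zpowers_le, zpowers_le]; exact ⟨hyΦ, hxΦ⟩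
  have hET : E ≤ normalizer (T₁ : Set G) := by
    rw [hE, sup_le_iff, zpowers_le, zpowers_le]; exact ⟨hyT₁, hxT₁⟩
  have hEA : E ≤ normalizer ((zpowers y : Subgroup G) : Set G) := by
    rw [hE, sup_le_iff, zpowers_le, zpowers_le]
    refine ⟨le_normalizer (mem_zpowers y), ?_⟩
    rw [mem_normalizer_iff_map_conj_eq, MonoidHom.map_zpowers]
    show zpowers (x * y * x⁻¹) = zpowers y
    rw [hxy, zpowers_inv]
  have hΦB : Φ ≤ B := le_sup_left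
  have hEB : E ≤ B := le_sup_right
  obtain ⟨ky, hky⟩ := hy3
  haveI : Fact (Nat.Prime 2) := ⟨Nat.prime_two⟩
  obtain ⟨n₁, hn₁⟩ := IsPGroup.iff_card.mp hT₁2
  have hdisj : zpowers y ⊓ T₁ = ⊥ := by
    apply (Subgroup.disjoint_of_coprime_natCard _).eq_bot
    rw [Nat.card_zpowers, hky, hn₁]
    exact Nat.Coprime.pow _ _ (by decide)
  have hTB : ∀ t ∈ T₁, t ∈ B → t ∈ Φ := by
    intro t ht htB
    have hset : ((Φ ⊔ E : Subgroup G) : Set G) = (Φ : Set G) * (E : Set G) :=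
      coe_mul_of_right_le_normalizer_left Φ E hEΦ
    have htB' : t ∈ ((Φ ⊔ E : Subgroup G) : Set G) := htB
    rw [hset] at htB'
    obtain ⟨φ, hφ, e, he, rfl⟩ := Set.mem_mul.mp htB'
    have heT : e ∈ T₁ := by
      have : e = φ⁻¹ * (φ * e) := by group
      rw [this]
      exact T₁.mul_mem (T₁.inv_mem (hΦT hφ)) ht
    have hc1 : e * y * e⁻¹ * y⁻¹ ∈ zpowers y := by
      have := (mem_normalizer_iff.mp (hEA he) y).mp (mem_zpowers y)
      exact mul_mem this (inv_mem (mem_zpowers y))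
    have hc2 : e * y * e⁻¹ * y⁻¹ ∈ T₁ := by
      have e1 : e * y * e⁻¹ * y⁻¹ = e * (y * e⁻¹ * y⁻¹) := by group
      rw [e1]
      exact T₁.mul_mem heT (hyc _ (T₁.inv_mem heT))
    have hc3 : e * y * e⁻¹ * y⁻¹ ∈ zpowers y ⊓ T₁ := ⟨hc1, hc2⟩
    rw [hdisj, mem_bot] at hc3
    have hye : y * e = e * y := by
      have : e * y * e⁻¹ = y := by
        have := congrArg (· * y) hc3
        simpa using this
      calc y * e = (e * y * e⁻¹) * e := by rw [this]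
        _ = e * y := by group
    have heΦ : e ∈ Φ := hfix e heT hye
    exact mul_mem hφ heΦ
  -- the action on cosets
  let tt : Fin 4 → G := ![1, t₁, t₂, t₃]
  let ι : Fin 4 → G ⧸ B := fun i => ((tt i : G) : G ⧸ B)
  have htt0 : tt 0 = 1 := rfl
  have htt1 : tt 1 = t₁ := rfl
  have htt2 : tt 2 = t₂ := rfl
  have htt3 : tt 3 = t₃ := rfl
  have httT : ∀ i, tt i ∈ T₁ := by
    intro i
    fin_cases i
    · exact one_mem _
    · exact ht₁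
    · exact ht₂
    · exact ht₃
  have hlt : ∀ i j : Fin 4, i < j → (tt i)⁻¹ * tt j ∉ Φ := by
    intro i j hij
    fin_cases i <;> fin_cases j <;> first | (exfalso; revert hij; decide) | skip
    · show (1 : G)⁻¹ * t₁ ∉ Φ
      simpa using ht₁Φ
    · show (1 : G)⁻¹ * t₂ ∉ Φ
      simpa using hn02
    · show (1 : G)⁻¹ * t₃ ∉ Φ
      simpa using hn03
    · exact hn12
    · exact hn13
    · exact hn23
  have hιinj : Function.Injective ι := by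
    intro i j hij
    have h1 : (tt i)⁻¹ * tt j ∈ B := QuotientGroup.eq.mp hij
    have h2 : (tt i)⁻¹ * tt j ∈ Φ := hTB _ (T₁.mul_mem (T₁.inv_mem (httT i)) (httT j)) h1
    rcases lt_trichotomy i j with h | h | h
    · exact absurd h2 (hlt i j h)
    · exact h
    · exfalso
      apply hlt j i h
      have := inv_mem h2
      have e : ((tt i)⁻¹ * tt j)⁻¹ = (tt j)⁻¹ * tt i := by group
      rwa [e] at this
  have hsmul : ∀ (g a : G), g • ((a : G) : G ⧸ B) = ((g * a : G) : G ⧸ B) := fun g a => rfl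
  have hEconj : ∀ e ∈ E, ∀ a b : G, (e * a * e⁻¹)⁻¹ * b ∈ Φ →
      ((e * a : G) : G ⧸ B) = ((b : G) : G ⧸ B) := by
    intro e he a b h
    rw [QuotientGroup.eq]
    have e1 : (e * a)⁻¹ * b = e⁻¹ * ((e * a * e⁻¹)⁻¹ * b) := by group
    rw [e1]
    exact mul_mem (inv_mem (hEB he)) (hΦB h)
  have hΦeq : ∀ a b : G, a⁻¹ * b ∈ Φ → ((a : G) : G ⧸ B) = ((b : G) : G ⧸ B) := by
    intro a b h
    rw [QuotientGroup.eq]
    exact hΦB h
  obtain ⟨sx0, sx1, sx2, sx3⟩ := sx_apply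
  obtain ⟨sy0, sy1, sy2, sy3⟩ := sy_apply
  obtain ⟨st0, st1, st2, st3⟩ := st_apply
  refine involves_of_action ι hιinj x y t₁ ?_ ?_ ?_
  · intro i
    fin_cases i
    · show x • ((tt 0 : G) : G ⧸ B) = ((tt (sx 0) : G) : G ⧸ B)
      rw [sx0, hsmul, htt0]
      apply hEconj x hxE
      simp
    · show x • ((tt 1 : G) : G ⧸ B) = ((tt (sx 1) : G) : G ⧸ B)
      rw [sx1, hsmul, htt1]
      exact hEconj x hxE _ _ hq1
    · show x • ((tt 2 : G) : G ⧸ B) = ((tt (sx 2) : G) : G ⧸ B)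
      rw [sx2, hsmul, htt2, htt3]
      exact hEconj x hxE _ _ hq2
    · show x • ((tt 3 : G) : G ⧸ B) = ((tt (sx 3) : G) : G ⧸ B)
      rw [sx3, hsmul, htt3, htt2]
      exact hEconj x hxE _ _ hq3
  · intro i
    fin_cases i
    · show y • ((tt 0 : G) : G ⧸ B) = ((tt (sy 0) : G) : G ⧸ B)
      rw [sy0, hsmul, htt0]
      apply hEconj y hyE
      simp
    · show y • ((tt 1 : G) : G ⧸ B) = ((tt (sy 1) : G) : G ⧸ B)
      rw [sy1, hsmul, htt1, htt2]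
      apply hEconj y hyE
      have e : (y * t₁ * y⁻¹)⁻¹ * t₂ = 1 := by rw [ht₂def]; group
      rw [e]; exact one_mem _
    · show y • ((tt 2 : G) : G ⧸ B) = ((tt (sy 2) : G) : G ⧸ B)
      rw [sy2, hsmul, htt2, htt3]
      apply hEconj y hyE
      have e : (y * t₂ * y⁻¹)⁻¹ * t₃ = 1 := by rw [ht₃def]; group
      rw [e]; exact one_mem _
    · show y • ((tt 3 : G) : G ⧸ B) = ((tt (sy 3) : G) : G ⧸ B)
      rw [sy3, hsmul, htt3, htt1]
      apply hEconj y hyE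
      rw [hy3t]; simp
  · intro i
    fin_cases i
    · show t₁ • ((tt 0 : G) : G ⧸ B) = ((tt (st 0) : G) : G ⧸ B)
      rw [st0, hsmul, htt0, htt1, mul_one]
    · show t₁ • ((tt 1 : G) : G ⧸ B) = ((tt (st 1) : G) : G ⧸ B)
      rw [st1, hsmul, htt1, htt0]
      apply hΦeq
      have := inv_mem (sq_mem_phi T₁ ht₁)
      simpa using this
    · show t₁ • ((tt 2 : G) : G ⧸ B) = ((tt (st 2) : G) : G ⧸ B)
      rw [st2, hsmul, htt2, htt3]
      exact hΦeq _ _ hp2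
    · show t₁ • ((tt 3 : G) : G ⧸ B) = ((tt (st 3) : G) : G ⧸ B)
      rw [st3, hsmul, htt3, htt2]
      exact hΦeq _ _ hp3

end Cfsg.Agent.Lib.Helper5_S4Sec2
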