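import Mathlib
import Cfsg.Prelude.Def_LocalEven
import Cfsg.Agent.Lib.Helper8_Involves
import Cfsg.Agent.Lib.Helper8_S4Pres
import Cfsg.Agent.Lib.Helper6_DihedralLift

set_option autoImplicit false
open Cfsg

namespace Cfsg.Agent.Lib.Helper5_S4Sec3

universe u v w

/-- If `θ : A → Q` and a surjection `g : A → H` satisfy `ker θ ≤ ker g`, then `H` is involved in `Q`. -/
theorem involves_of_factor {A : Type u} {Q : Type v} {H : Type w} [Group A] [Group Q] [Group H]
    (θ : A →* Q) (g : A →* H) (hg : Function.Surjective g) (hker : θ.ker ≤ g.ker) :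
    Cfsg.Involves H Q := by
  rw [Helper8_Involves.involves_iff]
  refine ⟨θ.range, (QuotientGroup.lift θ.ker g hker).comp
    (QuotientGroup.quotientKerEquivRange θ).symm.toMonoidHom, ?_⟩
  intro h
  obtain ⟨a, rfl⟩ := hg h
  refine ⟨(QuotientGroup.quotientKerEquivRange θ) (QuotientGroup.mk a), ?_⟩
  simp

/-- `D₃ ≃ S₃`. -/
theorem dihedral_three : Nonempty (Equiv.Perm (Fin 3) ≃* DihedralGroup 3) := by
  have hcard : Nat.card (Equiv.Perm (Fin 3)) = 2 * 3 := by
    rw [Nat.card_eq_fintype_card, Fintype.card_perm, Fintype.card_fin]; rfl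
  have ha : orderOf (Equiv.swap (1 : Fin 3) 2 * Equiv.swap 0 1) = 3 := by
    apply orderOf_eq_prime
    · decide
    · decide
  refine Helper6_DihedralLift.dihedral_equiv 3 hcard (Equiv.swap (1 : Fin 3) 2 * Equiv.swap 0 1)
    (Equiv.swap 0 1) ha ?_ (by decide) (by decide)
  intro h
  obtain ⟨k, hk⟩ := Subgroup.mem_zpowers_iff.mp h
  have h1 := congrArg Equiv.Perm.sign hk
  rw [map_zpow, map_mul, Equiv.Perm.sign_swap (by decide), Equiv.Perm.sign_swap (by decide)] at h1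
  have e : ((-1 : ℤˣ) * -1) = 1 := by decide
  rw [e, one_zpow] at h1
  exact absurd h1 (by decide)

open Cfsg.Agent.Helper8S4Pres in
/-- The natural map `S₄ → S₃` with its relevant properties: surjective, kernel a `2`-group, and the
centralizer of the kernel is contained in the kernel. -/
theorem exists_s4_to_s3 : ∃ φ : Equiv.Perm (Fin 4) →* Equiv.Perm (Fin 3), Function.Surjective φ ∧
    IsPGroup 2 φ.ker ∧ ∀ σ : Equiv.Perm (Fin 4), (∀ τ ∈ φ.ker, σ * τ = τ * σ) → σ ∈ φ.ker := by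
  obtain ⟨φ, hA, hB, hC, -⟩ := exists_hom (Equiv.swap (0 : Fin 3) 1) (Equiv.swap 1 2)
    (Equiv.swap 0 1) (by decide) (by decide) (by decide) (by decide) (by decide) (by decide)
  have hsurj : Function.Surjective φ := by
    intro σ
    have h6 : σ = 1 ∨ σ = Equiv.swap 0 1 ∨ σ = Equiv.swap 1 2 ∨
        σ = Equiv.swap 0 1 * Equiv.swap 1 2 ∨ σ = Equiv.swap 1 2 * Equiv.swap 0 1 ∨
        σ = Equiv.swap 0 1 * Equiv.swap 1 2 * Equiv.swap 0 1 := by
      revert σ; decide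
    rcases h6 with rfl | rfl | rfl | rfl | rfl | rfl
    · exact ⟨1, map_one φ⟩
    · exact ⟨_, hA⟩
    · exact ⟨_, hB⟩
    · exact ⟨Equiv.swap 0 1 * Equiv.swap 1 2, by rw [map_mul, hA, hB]⟩
    · exact ⟨Equiv.swap 1 2 * Equiv.swap 0 1, by rw [map_mul, hA, hB]⟩
    · exact ⟨Equiv.swap 0 1 * Equiv.swap 1 2 * Equiv.swap 0 1, by rw [map_mul, map_mul, hA, hB]⟩
  have hk1 : Equiv.swap (0 : Fin 4) 1 * Equiv.swap 2 3 ∈ φ.ker := by
    rw [MonoidHom.mem_ker, map_mul, hA, hC]; decide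
  have hk2 : Equiv.swap (0 : Fin 4) 2 * Equiv.swap 1 3 ∈ φ.ker := by
    have e : Equiv.swap (0 : Fin 4) 2 * Equiv.swap 1 3 =
        Equiv.swap 1 2 * Equiv.swap 0 1 * Equiv.swap 2 3 * Equiv.swap 1 2 := by decide
    rw [MonoidHom.mem_ker, e, map_mul, map_mul, map_mul, hA, hB, hC]; decide
  refine ⟨φ, hsurj, ?_, ?_⟩
  · haveI : Fact (Nat.Prime 2) := ⟨Nat.prime_two⟩
    apply IsPGroup.of_card (n := 2)
    have h1 := Subgroup.card_mul_index φ.ker
    rw [Subgroup.index_ker, MonoidHom.range_eq_top.mpr hsurj, Subgroup.card_top,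
      Nat.card_eq_fintype_card (α := Equiv.Perm (Fin 3)), Fintype.card_perm, Fintype.card_fin,
      Nat.card_eq_fintype_card (α := Equiv.Perm (Fin 4)), Fintype.card_perm, Fintype.card_fin] at h1
    have : (Nat.card φ.ker) * 6 = 24 := h1
    omega
  · intro σ hσ
    have h1 := hσ _ hk1
    have h2 := hσ _ hk2
    clear hσ
    have h4 : σ = 1 ∨ σ = Equiv.swap (0 : Fin 4) 1 * Equiv.swap 2 3 ∨
        σ = Equiv.swap (0 : Fin 4) 2 * Equiv.swap 1 3 ∨
        σ = (Equiv.swap (0 : Fin 4) 1 * Equiv.swap 2 3) * (Equiv.swap (0 : Fin 4) 2 * Equiv.swap 1 3) := by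
      revert σ; decide
    clear h1 h2
    rcases h4 with rfl | rfl | rfl | rfl
    · exact one_mem _
    · exact hk1
    · exact hk2
    · exact mul_mem hk1 hk2

end Cfsg.Agent.Lib.Helper5_S4Sec3
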