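import Mathlib

set_option autoImplicit false

namespace Cfsg.Agent.Lib.Helper5_S5910

open Equiv

/-- the affine quadruple relation on `Fin 4` viewed as `F₂²` -/
def Q (i j k l : Fin 4) : Prop := i.val ^^^ j.val ^^^ k.val ^^^ l.val = 0

instance (i j k l : Fin 4) : Decidable (Q i j k l) := by unfold Q; infer_instance

theorem Q_iff : ∀ i j k l : Fin 4, Q i j k l ↔
    ((i ≠ j ∧ i ≠ k ∧ i ≠ l ∧ j ≠ k ∧ j ≠ l ∧ k ≠ l) ∨ (i = j ∧ k = l) ∨ (i = k ∧ j = l) ∨
      (i = l ∧ j = k)) := by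
  decide

theorem Q_eps : ∀ ε : Fin 4 → ZMod 2, ε 0 + ε 1 + ε 2 + ε 3 = 0 →
    ∀ i j k l : Fin 4, Q i j k l → ε i + ε j + ε k + ε l = 0 := by
  decide

theorem sign_eps : ∀ ε : Fin 4 → ZMod 2,
    (∏ i, Equiv.Perm.sign (Equiv.addRight (ε i) : Equiv.Perm (ZMod 2))) = 1 →
      ε 0 + ε 1 + ε 2 + ε 3 = 0 := by
  decide

theorem Q_inj (π : Fin 4 → Fin 4) (hπ : Function.Injective π) {i j k l : Fin 4} (h : Q i j k l) :
    Q (π i) (π j) (π k) (π l) := by
  rw [Q_iff] at h ⊢
  rcases h with ⟨h1, h2, h3, h4, h5, h6⟩ | ⟨h1, h2⟩ | ⟨h1, h2⟩ | ⟨h1, h2⟩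
  · exact Or.inl ⟨fun h => h1 (hπ h), fun h => h2 (hπ h), fun h => h3 (hπ h), fun h => h4 (hπ h),
      fun h => h5 (hπ h), fun h => h6 (hπ h)⟩
  · exact Or.inr (Or.inl ⟨by rw [h1], by rw [h2]⟩)
  · exact Or.inr (Or.inr (Or.inl ⟨by rw [h1], by rw [h2]⟩))
  · exact Or.inr (Or.inr (Or.inr ⟨by rw [h1], by rw [h2]⟩))

abbrev P := Fin 4 × ZMod 2

/-- the affine relation on `P = F₂³` -/
def S' (p q r s : P) : Prop := Q p.1 q.1 r.1 s.1 ∧ p.2 + q.2 + r.2 + s.2 = 0

instance (p q r s : P) : Decidable (S' p q r s) := by unfold S'; infer_instance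

/-- an even affine permutation not preserving the partition -/
def t' : Equiv.Perm P := Equiv.swap ((0 : Fin 4), (1 : ZMod 2)) ((1 : Fin 4), (0 : ZMod 2)) *
  Equiv.swap ((2 : Fin 4), (1 : ZMod 2)) ((3 : Fin 4), (0 : ZMod 2))

/-- an even non-affine permutation -/
def t₂' : Equiv.Perm P := Equiv.swap ((0 : Fin 4), (0 : ZMod 2)) ((0 : Fin 4), (1 : ZMod 2)) *
  Equiv.swap ((0 : Fin 4), (0 : ZMod 2)) ((1 : Fin 4), (0 : ZMod 2))

theorem t'_aff : ∀ p q r s : P, S' p q r s ↔ S' (t' p) (t' q) (t' r) (t' s) := by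
  decide

theorem t'_sign : Equiv.Perm.sign t' = 1 := by
  decide

theorem t₂'_sign : Equiv.Perm.sign t₂' = 1 := by
  decide

theorem t₂'_not_aff : ¬ (S' ((0 : Fin 4), (0 : ZMod 2)) ((0 : Fin 4), (1 : ZMod 2))
    ((2 : Fin 4), (0 : ZMod 2)) ((2 : Fin 4), (1 : ZMod 2)) ↔
    S' (t₂' ((0 : Fin 4), (0 : ZMod 2))) (t₂' ((0 : Fin 4), (1 : ZMod 2)))
    (t₂' ((2 : Fin 4), (0 : ZMod 2))) (t₂' ((2 : Fin 4), (1 : ZMod 2)))) := by
  decide

theorem t'_00 : t' ((0 : Fin 4), (0 : ZMod 2)) = ((0 : Fin 4), (0 : ZMod 2)) := by decide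

theorem t'_01 : t' ((0 : Fin 4), (1 : ZMod 2)) = ((1 : Fin 4), (0 : ZMod 2)) := by decide


section Main

variable {Ω : Type*} [Fintype Ω] [DecidableEq Ω]

/-- the partition-preserving permutations as a subgroup -/
def partSub (f : Ω → Fin 4) : Subgroup (Equiv.Perm Ω) where
  carrier := {g | ∀ x y : Ω, f x = f y ↔ f (g x) = f (g y)}
  mul_mem' := by
    intro g h hg hh x y
    rw [hh x y, hg (h x) (h y)]; rfl
  one_mem' := by intro x y; rfl
  inv_mem' := by
    intro g hg x y
    have := hg (g⁻¹ x) (g⁻¹ y)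
    simp only [Equiv.Perm.inv_def, Equiv.apply_symm_apply] at this
    exact this.symm

/-- the affine permutations as a subgroup -/
def affSub (e : Ω ≃ P) : Subgroup (Equiv.Perm Ω) where
  carrier := {g | ∀ x y z w : Ω,
    S' (e x) (e y) (e z) (e w) ↔ S' (e (g x)) (e (g y)) (e (g z)) (e (g w))}
  mul_mem' := by
    intro g h hg hh x y z w
    rw [hh x y z w, hg (h x) (h y) (h z) (h w)]; rfl
  one_mem' := by intro x y z w; rfl
  inv_mem' := by
    intro g hg x y z w
    have := hg (g⁻¹ x) (g⁻¹ y) (g⁻¹ z) (g⁻¹ w)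
    simp only [Equiv.Perm.inv_def, Equiv.apply_symm_apply] at this
    exact this.symm

theorem zmod2_ne : ∀ a b : ZMod 2, a ≠ b → a = b + 1 := by decide

theorem fwd (f : Ω → Fin 4) (e : Ω ≃ P) (he : ∀ x, (e x).1 = f x) (g : Equiv.Perm Ω)
    (hg : g ∈ partSub f) (hs : Equiv.Perm.sign g = 1) {x y z w : Ω}
    (h : S' (e x) (e y) (e z) (e w)) : S' (e (g x)) (e (g y)) (e (g z)) (e (g w)) := by
  classical
  have hsurj : ∀ i : Fin 4, ∃ x : Ω, f x = i := fun i => ⟨e.symm (i, 0), by rw [← he]; simp⟩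
  choose r hr using hsurj
  have hπ : ∀ x, f (g x) = f (g (r (f x))) := fun x => (hg x (r (f x))).mp (hr (f x)).symm
  have hπinj : Function.Injective (fun i : Fin 4 => f (g (r i))) := by
    intro i j hij
    have := (hg (r i) (r j)).mpr hij
    rw [hr, hr] at this; exact this
  obtain ⟨ε, hε⟩ : ∃ ε : Fin 4 → ZMod 2, ∀ i, ε i = (e (g (r i))).2 - (e (r i)).2 :=
    ⟨_, fun i => rfl⟩
  obtain ⟨π', hπ'⟩ : ∃ π' : Fin 4 → Fin 4, ∀ i, π' i = f (g (r i)) := ⟨_, fun i => rfl⟩
  have hπ2 : ∀ x, f (g x) = π' (f x) := fun x => by rw [hπ', ← hπ]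
  have hπinj' : Function.Injective π' := by
    intro i j hij
    rw [hπ', hπ'] at hij
    exact hπinj hij
  have hb : ∀ x, (e (g x)).2 = (e x).2 + ε (f x) := by
    intro x
    rw [hε]
    by_cases hx : x = r (f x)
    · rw [← hx]; ring
    · have h1 : (e x).2 ≠ (e (r (f x))).2 := by
        intro h2
        apply hx
        apply e.injective
        apply Prod.ext
        · rw [he, he, hr]
        · exact h2
      have h3 : (e (g x)).2 ≠ (e (g (r (f x)))).2 := by
        intro h2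
        apply hx
        apply g.injective
        apply e.injective
        apply Prod.ext
        · rw [he, he]; exact hπ x
        · exact h2
      have k1 := zmod2_ne _ _ h1
      have k3 := zmod2_ne _ _ h3
      linear_combination k3 - k1
  have hsum : ε 0 + ε 1 + ε 2 + ε 3 = 0 := by
    apply sign_eps
    have hπbij : Function.Bijective π' := Finite.injective_iff_bijective.mp hπinj'
    have hcongr : e.permCongr g =
        (Equiv.prodCongrLeft (fun _ : ZMod 2 => Equiv.ofBijective π' hπbij)) *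
        (Equiv.prodCongrRight (fun i : Fin 4 =>
          (Equiv.addRight (ε i) : Equiv.Perm (ZMod 2)))) := by
      refine Equiv.ext fun p => ?_
      rw [Equiv.permCongr_apply, Equiv.Perm.mul_apply]
      have hfp : f (e.symm p) = p.1 := by rw [← he]; simp
      apply Prod.ext
      · rw [he, hπ2, hfp]
        simp [Equiv.prodCongrLeft_apply, Equiv.prodCongrRight_apply]
      · rw [hb, hfp]
        simp [Equiv.prodCongrLeft_apply, Equiv.prodCongrRight_apply]
    have h2 := Equiv.Perm.sign_permCongr e g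
    rw [hcongr, hs, Equiv.Perm.sign_mul, Equiv.Perm.sign_prodCongrLeft,
      Equiv.Perm.sign_prodCongrRight] at h2
    have h3 : ∏ _k : ZMod 2, Equiv.Perm.sign (Equiv.ofBijective π' hπbij) = 1 := by
      rw [Finset.prod_const, Finset.card_univ, ZMod.card, sq]
      exact Int.units_mul_self _
    rw [h3, one_mul] at h2
    exact h2
  obtain ⟨hQ, hB⟩ := h
  have hQ' : Q (f x) (f y) (f z) (f w) := by
    rw [← he, ← he, ← he, ← he]; exact hQ
  refine ⟨?_, ?_⟩
  · rw [he, he, he, he, hπ2 x, hπ2 y, hπ2 z, hπ2 w]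
    exact Q_inj π' hπinj' hQ'
  · rw [hb x, hb y, hb z, hb w]
    have := Q_eps ε hsum _ _ _ _ hQ'
    linear_combination hB + this

theorem main (f : Ω → Fin 4) (hf : ∀ i : Fin 4, Nat.card {x : Ω // f x = i} = 2) :
    ¬ IsCoatom ((Subgroup.closure {g : Equiv.Perm Ω | ∀ x y : Ω, f x = f y ↔ f (g x) = f (g y)} ⊓
      alternatingGroup Ω).subgroupOf (alternatingGroup Ω)) := by
  classical
  have hfib : ∀ i : Fin 4, Nonempty ({x : Ω // f x = i} ≃ ZMod 2) := fun i => by
    have : Fintype.card {x : Ω // f x = i} = Fintype.card (ZMod 2) := by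
      rw [← Nat.card_eq_fintype_card, hf i, ZMod.card]
    exact ⟨Fintype.equivOfCardEq this⟩
  obtain ⟨e, he⟩ : ∃ e : Ω ≃ P, ∀ x, (e x).1 = f x :=
    ⟨(Equiv.sigmaFiberEquiv f).symm.trans ((Equiv.sigmaCongrRight fun i => (hfib i).some).trans
      (Equiv.sigmaEquivProd (Fin 4) (ZMod 2))), fun x => rfl⟩
  have hcl : Subgroup.closure {g : Equiv.Perm Ω | ∀ x y : Ω, f x = f y ↔ f (g x) = f (g y)} ≤
      partSub f := (Subgroup.closure_le _).mpr (fun g hg => hg)
  have hle : Subgroup.closure {g : Equiv.Perm Ω | ∀ x y : Ω, f x = f y ↔ f (g x) = f (g y)} ⊓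
      alternatingGroup Ω ≤ affSub e := by
    rintro g ⟨hg1, hg2⟩
    have hg1' := hcl hg1
    have hs : Equiv.Perm.sign g = 1 := Equiv.Perm.mem_alternatingGroup.mp hg2
    intro x y z w
    constructor
    · exact fwd f e he g hg1' hs
    · intro h
      have hinv : g⁻¹ ∈ partSub f := (partSub f).inv_mem hg1'
      have hsinv : Equiv.Perm.sign g⁻¹ = 1 := by rw [Equiv.Perm.sign_inv, hs]
      have := fwd f e he g⁻¹ hinv hsinv h
      simpa using this
  intro hco
  -- the element t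
  have htapp : ∀ x, e ((e.symm.permCongr t') x) = t' (e x) := fun x => by
    rw [Equiv.permCongr_apply]; simp
  have htA : e.symm.permCongr t' ∈ alternatingGroup Ω := by
    rw [Equiv.Perm.mem_alternatingGroup, Equiv.Perm.sign_permCongr]; exact t'_sign
  have htaff : e.symm.permCongr t' ∈ affSub e := by
    intro x y z w
    rw [htapp, htapp, htapp, htapp]; exact t'_aff _ _ _ _
  have htnot : e.symm.permCongr t' ∉ partSub f := by
    intro h
    have := (h (e.symm (0, 0)) (e.symm (0, 1))).mp (by rw [← he, ← he]; simp)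
    rw [← he, ← he, htapp, htapp] at this
    simp only [Equiv.apply_symm_apply] at this
    rw [t'_00, t'_01] at this
    exact absurd this (by decide)
  -- the element t₂
  have ht2app : ∀ x, e ((e.symm.permCongr t₂') x) = t₂' (e x) := fun x => by
    rw [Equiv.permCongr_apply]; simp
  have ht2A : e.symm.permCongr t₂' ∈ alternatingGroup Ω := by
    rw [Equiv.Perm.mem_alternatingGroup, Equiv.Perm.sign_permCongr]; exact t₂'_sign
  have ht2not : e.symm.permCongr t₂' ∉ affSub e := by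
    intro h
    have := h (e.symm (0, 0)) (e.symm (0, 1)) (e.symm (2, 0)) (e.symm (2, 1))
    rw [ht2app, ht2app, ht2app, ht2app] at this
    simp only [Equiv.apply_symm_apply] at this
    exact t₂'_not_aff this
  -- conclude
  have hlt : (Subgroup.closure {g : Equiv.Perm Ω | ∀ x y : Ω, f x = f y ↔ f (g x) = f (g y)} ⊓
      alternatingGroup Ω).subgroupOf (alternatingGroup Ω) <
      (affSub e).subgroupOf (alternatingGroup Ω) := by
    refine lt_of_le_of_ne ?_ ?_
    · intro a ha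
      rw [Subgroup.mem_subgroupOf] at ha ⊢
      exact hle ha
    · intro heq
      have hmem : (⟨e.symm.permCongr t', htA⟩ : alternatingGroup Ω) ∈
          (affSub e).subgroupOf (alternatingGroup Ω) := by
        rw [Subgroup.mem_subgroupOf]; exact htaff
      rw [← heq, Subgroup.mem_subgroupOf] at hmem
      exact htnot (hcl hmem.1)
  have htop := hco.2 _ hlt
  have hmem2 : (⟨e.symm.permCongr t₂', ht2A⟩ : alternatingGroup Ω) ∈
      (affSub e).subgroupOf (alternatingGroup Ω) := by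
    rw [htop]; exact Subgroup.mem_top _
  rw [Subgroup.mem_subgroupOf] at hmem2
  exact ht2not hmem2

end Main

end Cfsg.Agent.Lib.Helper5_S5910
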