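import Mathlib
import Cfsg.Agent.Lib.Helper5_SE

set_option autoImplicit false

/-!
More on strongly `p`-embedded subgroups and Sylow subgroups of subgroups (helper5).
-/

namespace Cfsg.Agent.Lib.Helper5_SE2

open Cfsg Cfsg.Agent.Lib.Helper5_Sylow Cfsg.Agent.Lib.Helper5_CharP Cfsg.Agent.Lib.Helper5_SE

variable {G : Type*} [Group G]

theorem isPGroup_zpowers {p : ℕ} [Fact p.Prime] {x : G} (hx : orderOf x = p) :
    IsPGroup p (Subgroup.zpowers x) := by
  apply IsPGroup.of_card (n := 1)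
  rw [Nat.card_zpowers, hx, pow_one]

theorem zpowers_ne_bot_of_orderOf {p : ℕ} [hp : Fact p.Prime] {x : G}
    (hx : orderOf x = p) : Subgroup.zpowers x ≠ ⊥ := by
  intro h
  rw [Subgroup.zpowers_eq_bot] at h
  rw [h, orderOf_one] at hx
  exact hp.out.ne_one hx.symm

theorem orderOf_conj (g x : G) : orderOf (g * x * g⁻¹) = orderOf x := by
  have : g * x * g⁻¹ = MulAut.conj g x := by simp
  rw [this, MulEquiv.orderOf_eq]

/-- a nontrivial finite `p`-group has order divisible by `p` -/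
theorem dvd_card_of_ne_bot [Finite G] {p : ℕ} [Fact p.Prime] {Q : Subgroup G}
    (hQ : IsPGroup p Q) (hne : Q ≠ ⊥) : p ∣ Nat.card Q := by
  have hnt : Nontrivial Q := (Subgroup.nontrivial_iff_ne_bot Q).2 hne
  obtain ⟨n, hn0, hn⟩ := hQ.nontrivial_iff_card.mp hnt
  exact hn.symm ▸ dvd_pow_self _ (ne_of_gt hn0)

/-- a nontrivial finite `p`-subgroup contains an element of order `p` -/
theorem exists_orderOf_eq_of_ne_bot [Finite G] {p : ℕ} [Fact p.Prime] {Q : Subgroup G}
    (hQ : IsPGroup p Q) (hne : Q ≠ ⊥) : ∃ x ∈ Q, orderOf x = p := by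
  obtain ⟨x, hx⟩ := exists_prime_orderOf_dvd_card' p (dvd_card_of_ne_bot hQ hne)
  exact ⟨x, x.2, by rw [Subgroup.orderOf_coe]; exact hx⟩

/-- a nontrivial finite `p`-subgroup has a central element of order `p` -/
theorem exists_central_orderOf_eq [Finite G] {p : ℕ} [Fact p.Prime] {Q : Subgroup G}
    (hQ : IsPGroup p Q) (hne : Q ≠ ⊥) :
    ∃ z ∈ Q, orderOf z = p ∧ ∀ s ∈ Q, z * s = s * z := by
  have hnt : Nontrivial Q := (Subgroup.nontrivial_iff_ne_bot Q).2 hne
  have hc : Nontrivial (Subgroup.center Q) := hQ.center_nontrivial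
  have hcp : IsPGroup p (Subgroup.center Q) := hQ.to_subgroup _
  obtain ⟨n, hn0, hn⟩ := hcp.nontrivial_iff_card.mp hc
  have hdvd : p ∣ Nat.card (Subgroup.center Q) := hn.symm ▸ dvd_pow_self _ (ne_of_gt hn0)
  obtain ⟨z, hz⟩ := exists_prime_orderOf_dvd_card' p hdvd
  refine ⟨((z : Q) : G), (z : Q).2, ?_, ?_⟩
  · rw [Subgroup.orderOf_coe, Subgroup.orderOf_coe]; exact hz
  · intro s hs
    have := (Subgroup.mem_center_iff.1 z.2) ⟨s, hs⟩
    exact (congrArg Subtype.val this).symm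

theorem centralizer_singleton_le_normalizer_zpowers (x : G) :
    Subgroup.centralizer ({x} : Set G) ≤
      Subgroup.normalizer ((Subgroup.zpowers x : Subgroup G) : Set G) := by
  intro c hc
  rw [Subgroup.mem_centralizer_singleton_iff] at hc
  have key : ∀ c : G, c * x = x * c → ∀ y ∈ Subgroup.zpowers x, c * y * c⁻¹ ∈ Subgroup.zpowers x := by
    intro c hc y hy
    obtain ⟨k, rfl⟩ := Subgroup.mem_zpowers_iff.1 hy
    have h1 : Commute c x := hc
    have : c * x ^ k * c⁻¹ = x ^ k := by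
      rw [(h1.zpow_right k).eq]; group
    rw [this]; exact Subgroup.zpow_mem_zpowers x k
  apply mem_normalizer_of_forall_conj_mem
  · exact key c hc
  · intro y hy
    have h2 : c⁻¹ * x = x * c⁻¹ := by
      have : c⁻¹ * x = c⁻¹ * (x * c) * c⁻¹ := by group
      rw [this, ← hc]; group
    have := key c⁻¹ h2 y hy
    simpa using this

section sylowOf

variable [Finite G] {p : ℕ} [Fact p.Prime] {H : Subgroup G} (S : Sylow p ↥H)

theorem sylowOf_le : (S : Subgroup ↥H).map H.subtype ≤ H := Subgroup.map_subtype_le _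

theorem sylowOf_isPGroup : IsPGroup p ((S : Subgroup ↥H).map H.subtype) := S.isPGroup'.map _

/-- maximality of the image of a Sylow subgroup of `H` among `p`-subgroups of `H` -/
theorem sylowOf_maximal {T : Subgroup G} (hTH : T ≤ H) (hT : IsPGroup p T)
    (hST : (S : Subgroup ↥H).map H.subtype ≤ T) : T = (S : Subgroup ↥H).map H.subtype := by
  have h1 : IsPGroup p (T.subgroupOf H) := hT.comap_subtype
  have h2 : (S : Subgroup ↥H) ≤ T.subgroupOf H := by
    intro s hs
    rw [Subgroup.mem_subgroupOf]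
    exact hST ⟨s, hs, rfl⟩
  have h3 : T.subgroupOf H = S := S.is_maximal' h1 h2
  rw [← h3, Subgroup.map_subgroupOf_eq_of_le hTH]

/-- every `p`-subgroup of `H` is `H`-conjugate into the image of a Sylow subgroup of `H` -/
theorem exists_conj_le_sylowOf {Q : Subgroup G} (hQH : Q ≤ H) (hQ : IsPGroup p Q) :
    ∃ h ∈ H, Q.map (MulAut.conj h).toMonoidHom ≤ (S : Subgroup ↥H).map H.subtype := by
  obtain ⟨k, hk, R, hRp, hRH, hSR, hQR⟩ :=
    exists_conj_le_common_pgroup (sylowOf_le S) hQH (sylowOf_isPGroup S) hQ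
  have : R = (S : Subgroup ↥H).map H.subtype := sylowOf_maximal S hRH hRp hSR
  exact ⟨k, hk, this ▸ hQR⟩

theorem exists_conj_mem_sylowOf {y : G} (hyH : y ∈ H) (hy : orderOf y = p) :
    ∃ h ∈ H, h * y * h⁻¹ ∈ (S : Subgroup ↥H).map H.subtype := by
  obtain ⟨h, hh, hle⟩ :=
    exists_conj_le_sylowOf S (Subgroup.zpowers_le.2 hyH) (isPGroup_zpowers hy)
  refine ⟨h, hh, hle ⟨y, Subgroup.mem_zpowers y, ?_⟩⟩
  simp

end sylowOf

end Cfsg.Agent.Lib.Helper5_SE2
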