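import Mathlib
import Cfsg.Agent.Lib.Helper5_SE2

set_option autoImplicit false

/-!
helper5: strongly `p`-embedded subgroups in the classical sense
(`∀ g ∉ H, ¬ p ∣ |H ∩ gHg⁻¹|`).
-/

namespace Cfsg.Agent.Lib.Helper5_SEc

open Cfsg Cfsg.Agent.Lib.Helper5_Sylow Cfsg.Agent.Lib.Helper5_SE2

variable {G : Type*} [Group G] [Finite G] {p : ℕ} [Fact p.Prime]

/-- The classical strong `p`-embedding condition. -/
def SEc (p : ℕ) (H : Subgroup G) : Prop :=
  ∀ g : G, g ∉ H → ¬ p ∣ Nat.card ↥(H ⊓ H.map (MulAut.conj g).toMonoidHom)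

/-- A nontrivial `p`-subgroup `Q` of `H`: any `g` with `gQg⁻¹ ≤ H`, lies in `H`. -/
theorem SEc.mem_of_conj_le {H : Subgroup G} (hse : SEc p H) {Q : Subgroup G} (hQH : Q ≤ H)
    (hQ : IsPGroup p Q) (hne : Q ≠ ⊥) (g : G) (hg : Q.map (MulAut.conj g).toMonoidHom ≤ H) :
    g ∈ H := by
  by_contra hgH
  have h1 : Q.map (MulAut.conj g).toMonoidHom ≤ H ⊓ H.map (MulAut.conj g).toMonoidHom :=
    le_inf hg (Subgroup.map_mono hQH)
  have h2 : Nat.card (Q.map (MulAut.conj g).toMonoidHom) ∣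
      Nat.card ↥(H ⊓ H.map (MulAut.conj g).toMonoidHom) := Subgroup.card_dvd_of_le h1
  rw [card_map_conj] at h2
  exact hse g hgH ((dvd_card_of_ne_bot hQ hne).trans h2)

theorem SEc.normalizer_le {H : Subgroup G} (hse : SEc p H) {Q : Subgroup G} (hQH : Q ≤ H)
    (hQ : IsPGroup p Q) (hne : Q ≠ ⊥) : Subgroup.normalizer (Q : Set G) ≤ H := by
  intro g hg
  apply hse.mem_of_conj_le hQH hQ hne g
  rintro _ ⟨x, hx, rfl⟩
  apply hQH
  simp only [MulEquiv.coe_toMonoidHom, MulAut.conj_apply]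
  exact (Subgroup.mem_normalizer_iff.mp hg x).mp hx

/-- A strongly `p`-embedded subgroup (classical sense) of order divisible by `p` contains a Sylow
`p`-subgroup of `G`. -/
theorem SEc.exists_sylow_le {H : Subgroup G} (hse : SEc p H) (hpH : p ∣ Nat.card H) :
    ∃ P : Sylow p G, (P : Subgroup G) ≤ H := by
  obtain ⟨S⟩ : Nonempty (Sylow p ↥H) := inferInstance
  set P₀ : Subgroup G := (S : Subgroup ↥H).map H.subtype with hP₀
  have hP₀H : P₀ ≤ H := sylowOf_le S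
  have hP₀p : IsPGroup p P₀ := sylowOf_isPGroup S
  have hP₀ne : P₀ ≠ ⊥ := by
    intro h
    rw [hP₀, Subgroup.map_eq_bot_iff_of_injective _ H.subtype_injective] at h
    exact S.ne_bot_of_dvd_card hpH h
  obtain ⟨P, hP⟩ := hP₀p.exists_le_sylow
  refine ⟨P, ?_⟩
  by_cases heq : P₀ = (P : Subgroup G)
  · rw [← heq]; exact hP₀H
  exfalso
  have hlt : P₀ < (P : Subgroup G) := lt_of_le_of_ne hP heq
  have h1 := lt_inf_normalizer P.isPGroup' hlt
  obtain ⟨x, hx, hxP₀⟩ := SetLike.exists_of_lt h1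
  have hxH : x ∈ H := hse.normalizer_le hP₀H hP₀p hP₀ne hx.2
  have hT : (P : Subgroup G) ⊓ H = P₀ :=
    sylowOf_maximal S inf_le_right (P.isPGroup'.to_le inf_le_left) (le_inf hP hP₀H)
  apply hxP₀
  rw [← hT]
  exact ⟨hx.1, hxH⟩

/-- A Sylow `p`-subgroup meeting a strongly `p`-embedded subgroup `H` in a subgroup containing a
nontrivial `p`-subgroup `Q` lies in `H`. -/
theorem SEc.sylow_le {H : Subgroup G} (hse : SEc p H) {Q : Subgroup G} (hQH : Q ≤ H)
    (hne : Q ≠ ⊥) (P : Sylow p G) (hQP : Q ≤ (P : Subgroup G)) : (P : Subgroup G) ≤ H := by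
  have hQ'p : IsPGroup p ((P : Subgroup G) ⊓ H : Subgroup G) := P.isPGroup'.to_le inf_le_left
  have hQ'ne : (P : Subgroup G) ⊓ H ≠ ⊥ := by
    intro h
    apply hne
    rw [eq_bot_iff, ← h]
    exact le_inf hQP hQH
  by_cases heq : (P : Subgroup G) ⊓ H = (P : Subgroup G)
  · exact inf_eq_left.mp heq
  exfalso
  have hlt : (P : Subgroup G) ⊓ H < (P : Subgroup G) := lt_of_le_of_ne inf_le_left heq
  have h1 := lt_inf_normalizer P.isPGroup' hlt
  obtain ⟨x, hx, hxn⟩ := SetLike.exists_of_lt h1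
  have hxH : x ∈ H := hse.normalizer_le inf_le_right hQ'p hQ'ne hx.2
  exact hxn ⟨hx.1, hxH⟩

end Cfsg.Agent.Lib.Helper5_SEc
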