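import Mathlib
import Cfsg.Agent.Lib.Helper4_SL2Card
import Cfsg.Agent.Lib.Helper5_Sylow

set_option autoImplicit false

/-! The unipotent subgroup of `SL₂(F)` and its action on the natural module (helper5). -/

namespace Cfsg.Agent.Lib.Helper5_SL2Nat

open Matrix

variable {F : Type*} [Field F]

/-- upper unitriangular element -/
def ua (a : F) : Matrix.SpecialLinearGroup (Fin 2) F := ⟨!![1, a; 0, 1], by simp [det_fin_two]⟩

theorem ua_coe (a : F) : ((ua a : Matrix.SpecialLinearGroup (Fin 2) F) : Matrix (Fin 2) (Fin 2) F) =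
    !![1, a; 0, 1] := rfl

theorem ua_mul (a b : F) : ua a * ua b = ua (a + b) := by
  apply Subtype.ext
  rw [Matrix.SpecialLinearGroup.coe_mul, ua_coe, ua_coe, ua_coe]
  ext i j
  fin_cases i <;> fin_cases j <;> simp [Matrix.mul_apply, Fin.sum_univ_two, add_comm]

theorem ua_zero : ua (0 : F) = 1 := by
  apply Subtype.ext
  rw [ua_coe, Matrix.SpecialLinearGroup.coe_one]
  ext i j
  fin_cases i <;> fin_cases j <;> simp

theorem ua_inj : Function.Injective (ua : F → Matrix.SpecialLinearGroup (Fin 2) F) := by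
  intro a b h
  have := congrArg (fun A : Matrix.SpecialLinearGroup (Fin 2) F => (A : Matrix (Fin 2) (Fin 2) F) 0 1) h
  simpa [ua_coe] using this

/-- `a ↦ u_a` as a homomorphism -/
def uaHom : Multiplicative F →* Matrix.SpecialLinearGroup (Fin 2) F where
  toFun a := ua (Multiplicative.toAdd a)
  map_one' := ua_zero
  map_mul' a b := (ua_mul _ _).symm

/-- the upper unitriangular subgroup -/
def UU (F : Type*) [Field F] : Subgroup (Matrix.SpecialLinearGroup (Fin 2) F) := (uaHom (F := F)).range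

theorem mem_UU (A : Matrix.SpecialLinearGroup (Fin 2) F) : A ∈ UU F ↔ ∃ a : F, A = ua a := by
  constructor
  · rintro ⟨a, rfl⟩
    exact ⟨Multiplicative.toAdd a, rfl⟩
  · rintro ⟨a, rfl⟩
    exact ⟨Multiplicative.ofAdd a, rfl⟩

theorem ua_mem (a : F) : ua a ∈ UU F := (mem_UU _).mpr ⟨a, rfl⟩

theorem card_UU [Finite F] : Nat.card (UU F) = Nat.card F := by
  have hinj : Function.Injective (uaHom (F := F)) := by
    intro a b h
    have h' : ua (Multiplicative.toAdd a) = ua (Multiplicative.toAdd b) := h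
    exact Multiplicative.toAdd.injective (ua_inj h')
  have := Nat.card_congr (MonoidHom.ofInjective hinj).toEquiv
  show Nat.card (uaHom (F := F)).range = Nat.card F
  rw [← this]
  rfl

theorem ua_mulVec (a : F) (w : Fin 2 → F) :
    ((ua a : Matrix.SpecialLinearGroup (Fin 2) F) : Matrix (Fin 2) (Fin 2) F).mulVec w =
      ![w 0 + a * w 1, w 1] := by
  rw [ua_coe]
  ext i
  fin_cases i <;> simp [Matrix.mulVec, dotProduct, Fin.sum_univ_two]

theorem charP_of_card [Fintype F] (p n : ℕ) [hp : Fact p.Prime] (hF : Fintype.card F = p ^ n) :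
    CharP F p := by
  obtain ⟨q, hq⟩ := CharP.exists F
  haveI := hq
  haveI hqp : Fact q.Prime := ⟨CharP.char_is_prime F q⟩
  obtain ⟨k, hk⟩ := FiniteField.card F q
  have h1 : p ^ n = q ^ (k : ℕ) := by rw [← hF, hk.2]
  have hn : n ≠ 0 := by
    intro h
    rw [h, pow_zero] at hF
    have := Fintype.one_lt_card (α := F)
    omega
  have h2 : p ∣ q ^ (k : ℕ) := by rw [← h1]; exact dvd_pow_self p hn
  have h3 : p ∣ q := hp.out.dvd_of_dvd_pow h2
  have h4 : p = q := (Nat.prime_dvd_prime_iff_eq hp.out hqp.out).mp h3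
  rw [h4]; exact hq

theorem n_pos [Fintype F] (p n : ℕ) (hF : Fintype.card F = p ^ n) : 0 < n := by
  by_contra h
  have : n = 0 := by omega
  rw [this, pow_zero] at hF
  have := Fintype.one_lt_card (α := F)
  omega

theorem fact_card_SL2 [Fintype F] (p n : ℕ) [hp : Fact p.Prime] (hF : Fintype.card F = p ^ n) :
    (Nat.card (Matrix.SpecialLinearGroup (Fin 2) F)).factorization p = n := by
  have hn := n_pos p n hF
  rw [Cfsg.Agent.Lib.Helper4_SL2Card.card_SL2, hF]
  have hp1 : 1 < p := hp.out.one_lt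
  have h1 : 1 < (p ^ n) ^ 2 := by
    have : 1 < p ^ n := Nat.one_lt_pow hn.ne' hp1
    nlinarith
  have h0 : (p ^ n) ^ 2 - 1 ≠ 0 := by omega
  rw [Nat.factorization_mul (by positivity) h0, Finsupp.add_apply, Nat.Prime.factorization_pow hp.out,
    Finsupp.single_eq_same, Nat.factorization_eq_zero_of_not_dvd, add_zero]
  intro hd
  have h2 : p ∣ (p ^ n) ^ 2 := by
    rw [← pow_mul]; exact dvd_pow_self p (by omega)
  have h3 : p ∣ (p ^ n) ^ 2 - ((p ^ n) ^ 2 - 1) := Nat.dvd_sub h2 hd
  have h4 : (p ^ n) ^ 2 - ((p ^ n) ^ 2 - 1) = 1 := by omega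
  rw [h4] at h3
  exact hp.out.one_lt.ne' (Nat.dvd_one.mp h3)

/-- `U` as a Sylow subgroup -/
noncomputable def USyl [Fintype F] (p n : ℕ) [Fact p.Prime] (hF : Fintype.card F = p ^ n) :
    Sylow p (Matrix.SpecialLinearGroup (Fin 2) F) :=
  Sylow.ofCard (UU F) (by rw [card_UU, Nat.card_eq_fintype_card, hF, fact_card_SL2 p n hF])

theorem USyl_coe [Fintype F] (p n : ℕ) [Fact p.Prime] (hF : Fintype.card F = p ^ n) :
    ((USyl p n hF : Sylow p (Matrix.SpecialLinearGroup (Fin 2) F)) :
      Subgroup (Matrix.SpecialLinearGroup (Fin 2) F)) = UU F := rfl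

end Cfsg.Agent.Lib.Helper5_SL2Nat
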