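import Mathlib
import Cfsg.Prelude
import Cfsg.Agent.Lib.Helper5_SL2Nat

set_option autoImplicit false

/-! Natural `SL₂(F)`-modules inside a group: dictionary (helper5). -/

namespace Cfsg.Agent.Lib.Helper5_SL2Nat2

open Matrix Cfsg.Agent.Lib.Helper5_SL2Nat

variable {G : Type*} [Group G] {F : Type*} [Field F]

/-- normalized natural-module data -/
structure NatData (V L : Subgroup G) (ρ : L →* Matrix.SpecialLinearGroup (Fin 2) F)
    (ψ : Additive V ≃+ (Fin 2 → F)) : Prop where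
  inj : Function.Injective ρ
  surj : Function.Surjective ρ
  equiv : ∀ (l : L) (v : V), ∃ w : V, (w : G) = (l : G) * (v : G) * (l : G)⁻¹ ∧
    ψ (Additive.ofMul w) =
      ((ρ l : Matrix.SpecialLinearGroup (Fin 2) F) : Matrix (Fin 2) (Fin 2) F).mulVec
        (ψ (Additive.ofMul v))

variable {V L : Subgroup G} {ρ : L →* Matrix.SpecialLinearGroup (Fin 2) F}
  {ψ : Additive V ≃+ (Fin 2 → F)}

/-- coordinates of an element of `V` -/
def ps (ψ : Additive V ≃+ (Fin 2 → F)) {v : G} (hv : v ∈ V) : Fin 2 → F :=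
  ψ (Additive.ofMul ⟨v, hv⟩)

/-- the matrix of an element of `L` -/
def mt (ρ : L →* Matrix.SpecialLinearGroup (Fin 2) F) {l : G} (hl : l ∈ L) :
    Matrix (Fin 2) (Fin 2) F :=
  ((ρ ⟨l, hl⟩ : Matrix.SpecialLinearGroup (Fin 2) F) : Matrix (Fin 2) (Fin 2) F)

theorem ps_congr {v w : G} (hv : v ∈ V) (hw : w ∈ V) (h : v = w) : ps ψ hv = ps ψ hw := by
  subst h; rfl

theorem ps_one : ps ψ (one_mem V) = 0 := by
  unfold ps
  have : (Additive.ofMul (⟨1, one_mem V⟩ : V)) = 0 := rfl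
  rw [this, map_zero]

theorem ps_mul {v w : G} (hv : v ∈ V) (hw : w ∈ V) :
    ps ψ (mul_mem hv hw) = ps ψ hv + ps ψ hw := by
  unfold ps
  have : (Additive.ofMul (⟨v * w, mul_mem hv hw⟩ : V)) =
      Additive.ofMul (⟨v, hv⟩ : V) + Additive.ofMul (⟨w, hw⟩ : V) := rfl
  rw [this, map_add]

theorem ps_inv {v : G} (hv : v ∈ V) : ps ψ (inv_mem hv) = - ps ψ hv := by
  have h1 := ps_mul (ψ := ψ) hv (inv_mem hv)
  have h2 : ps ψ (mul_mem hv (inv_mem hv)) = 0 := by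
    rw [ps_congr (ψ := ψ) _ (one_mem V) (mul_inv_cancel v), ps_one]
  rw [h2] at h1
  exact eq_neg_of_add_eq_zero_right h1.symm

theorem ps_inj {v w : G} (hv : v ∈ V) (hw : w ∈ V) (h : ps ψ hv = ps ψ hw) : v = w := by
  unfold ps at h
  have := ψ.injective h
  exact congrArg Subtype.val (Additive.ofMul.injective this)

/-- the element of `V` with given coordinates -/
def vOf (ψ : Additive V ≃+ (Fin 2 → F)) (w : Fin 2 → F) : G :=
  ((Additive.toMul (ψ.symm w) : V) : G)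

theorem vOf_mem (w : Fin 2 → F) : vOf ψ w ∈ V := (Additive.toMul (ψ.symm w) : V).2

theorem ps_vOf (w : Fin 2 → F) : ps ψ (vOf_mem (ψ := ψ) w) = w := by
  unfold ps vOf
  exact ψ.apply_symm_apply w

theorem V_comm (ψ : Additive V ≃+ (Fin 2 → F)) {v w : G} (hv : v ∈ V) (hw : w ∈ V) :
    v * w = w * v := by
  apply ps_inj (ψ := ψ) (mul_mem hv hw) (mul_mem hw hv)
  rw [ps_mul hv hw, ps_mul hw hv, add_comm]

variable (h : NatData V L ρ ψ)

include h

theorem conj_mem {l v : G} (hl : l ∈ L) (hv : v ∈ V) : l * v * l⁻¹ ∈ V := by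
  obtain ⟨w, hw, -⟩ := h.equiv ⟨l, hl⟩ ⟨v, hv⟩
  rw [← hw]; exact w.2

theorem ps_conj {l v : G} (hl : l ∈ L) (hv : v ∈ V) :
    ps ψ (conj_mem h hl hv) = (mt ρ hl).mulVec (ps ψ hv) := by
  obtain ⟨w, hw, hw2⟩ := h.equiv ⟨l, hl⟩ ⟨v, hv⟩
  have : ps ψ (conj_mem h hl hv) = ψ (Additive.ofMul w) := by
    unfold ps
    congr 2
    exact Subtype.ext hw.symm
  rw [this, hw2]
  rfl

theorem comm_mem {l v : G} (hl : l ∈ L) (hv : v ∈ V) : v * l * v⁻¹ * l⁻¹ ∈ V := by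
  have : v * l * v⁻¹ * l⁻¹ = v * (l * v * l⁻¹)⁻¹ := by group
  rw [this]
  exact mul_mem hv (inv_mem (conj_mem h hl hv))

theorem ps_comm {l v : G} (hl : l ∈ L) (hv : v ∈ V) :
    ps ψ (comm_mem h hl hv) = ps ψ hv - (mt ρ hl).mulVec (ps ψ hv) := by
  have e1 : v * l * v⁻¹ * l⁻¹ = v * (l * v * l⁻¹)⁻¹ := by group
  rw [ps_congr (ψ := ψ) (comm_mem h hl hv) (mul_mem hv (inv_mem (conj_mem h hl hv))) e1,
    ps_mul hv (inv_mem (conj_mem h hl hv)), ps_inv (conj_mem h hl hv), ps_conj h hl hv,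
    sub_eq_add_neg]

theorem mem_centralizer_iff' {l v : G} (hl : l ∈ L) (hv : v ∈ V) :
    v * l = l * v ↔ (mt ρ hl).mulVec (ps ψ hv) = ps ψ hv := by
  rw [← ps_conj h hl hv]
  constructor
  · intro hc
    apply ps_congr
    rw [← hc]; group
  · intro hc
    have := ps_inj (ψ := ψ) _ _ hc
    calc v * l = (l * v * l⁻¹) * l := by rw [this]
      _ = l * v := by group

theorem mt_mul {l l' : G} (hl : l ∈ L) (hl' : l' ∈ L) :
    mt ρ (mul_mem hl hl') = mt ρ hl * mt ρ hl' := by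
  unfold mt
  have : (⟨l * l', mul_mem hl hl'⟩ : L) = ⟨l, hl⟩ * ⟨l', hl'⟩ := rfl
  rw [this, map_mul, Matrix.SpecialLinearGroup.coe_mul]

/-- an element of `L` with given matrix -/
noncomputable def lOf (A : Matrix.SpecialLinearGroup (Fin 2) F) : G :=
  ((h.surj A).choose : G)

theorem lOf_mem (A : Matrix.SpecialLinearGroup (Fin 2) F) : lOf h A ∈ L := (h.surj A).choose.2

theorem rho_lOf (A : Matrix.SpecialLinearGroup (Fin 2) F) : ρ ⟨lOf h A, lOf_mem h A⟩ = A :=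
  (h.surj A).choose_spec

theorem mt_lOf (A : Matrix.SpecialLinearGroup (Fin 2) F) :
    mt ρ (lOf_mem h A) = (A : Matrix (Fin 2) (Fin 2) F) := by
  unfold mt
  rw [rho_lOf]

/-- the subgroup of `G` corresponding to the unitriangular group -/
def TU (ρ : L →* Matrix.SpecialLinearGroup (Fin 2) F) : Subgroup G :=
  ((UU F).comap ρ).map L.subtype

omit h in
theorem mem_TU {t : G} : t ∈ TU ρ ↔ ∃ ht : t ∈ L, ∃ a : F, ρ ⟨t, ht⟩ = ua a := by
  unfold TU
  constructor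
  · rintro ⟨t', ht', rfl⟩
    have ht'' : t' ∈ (UU F).comap ρ := ht'
    rw [Subgroup.mem_comap, mem_UU] at ht''
    exact ⟨t'.2, ht''⟩
  · rintro ⟨ht, a, ha⟩
    refine ⟨⟨t, ht⟩, ?_, rfl⟩
    show (⟨t, ht⟩ : L) ∈ (UU F).comap ρ
    rw [Subgroup.mem_comap, mem_UU]
    exact ⟨a, ha⟩

omit h in
theorem TU_le : TU ρ ≤ L := by
  intro t ht
  obtain ⟨ht', -⟩ := mem_TU.mp ht
  exact ht'

theorem lOf_ua_mem (a : F) : lOf h (ua a) ∈ TU ρ :=
  mem_TU.mpr ⟨lOf_mem h _, a, rfl_of h a⟩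
where
  rfl_of (h : NatData V L ρ ψ) (a : F) : ρ ⟨lOf h (ua a), lOf_mem h (ua a)⟩ = ua a := rho_lOf h _

/-- `C_V(T)` in coordinates -/
theorem mem_CVT {v : G} :
    v ∈ V ⊓ Subgroup.centralizer ((TU ρ : Subgroup G) : Set G) ↔ ∃ hv : v ∈ V, ps ψ hv 1 = 0 := by
  constructor
  · rintro ⟨hv, hc⟩
    refine ⟨hv, ?_⟩
    have h1 := Subgroup.mem_centralizer_iff.mp hc _ (lOf_ua_mem h 1)
    have h2 := (mem_centralizer_iff' h (lOf_mem h (ua 1)) hv).mp h1.symm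
    rw [mt_lOf, ua_mulVec] at h2
    have h3 := congrFun h2 0
    simpa using h3
  · rintro ⟨hv, hy⟩
    refine ⟨hv, ?_⟩
    show v ∈ Subgroup.centralizer ((TU ρ : Subgroup G) : Set G)
    rw [Subgroup.mem_centralizer_iff]
    intro t ht
    obtain ⟨htL, a, ha⟩ := mem_TU.mp ht
    apply ((mem_centralizer_iff' h htL hv).mpr _).symm
    unfold mt
    rw [ha, ua_mulVec, hy, mul_zero, add_zero]
    ext i
    fin_cases i
    · rfl
    · exact hy.symm

end Cfsg.Agent.Lib.Helper5_SL2Nat2
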