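import Mathlib
import Cfsg.Prelude
import Cfsg.Agent.Lib.Helper5_SL2Nat2

set_option autoImplicit false

/-! Natural `SL₂(F)`-modules inside a group: the unipotent radical (helper5). -/

namespace Cfsg.Agent.Lib.Helper5_SL2Nat3

open Matrix Cfsg.Agent.Lib.Helper5_SL2Nat Cfsg.Agent.Lib.Helper5_SL2Nat2

variable {G : Type*} [Group G] {F : Type*} [Field F]
  {V L : Subgroup G} {ρ : L →* Matrix.SpecialLinearGroup (Fin 2) F}
  {ψ : Additive V ≃+ (Fin 2 → F)} (h : NatData V L ρ ψ)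

include h

/-- coordinates of a commutator `[v, t]`, `t ∈ T` -/
theorem ps_comm_TU {v t : G} (hv : v ∈ V) (htL : t ∈ L) (a : F) (ha : ρ ⟨t, htL⟩ = ua a) :
    ps ψ (comm_mem h htL hv) = ![- (a * ps ψ hv 1), 0] := by
  rw [ps_comm h htL hv]
  unfold Cfsg.Agent.Lib.Helper5_SL2Nat2.mt
  rw [ha, ua_mulVec]
  ext i
  fin_cases i
  · simp
  · simp

theorem comm_mem_CVT {v t : G} (hv : v ∈ V) (ht : t ∈ TU ρ) :
    v * t * v⁻¹ * t⁻¹ ∈ V ⊓ Subgroup.centralizer ((TU ρ : Subgroup G) : Set G) := by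
  obtain ⟨htL, a, ha⟩ := mem_TU.mp ht
  rw [mem_CVT h]
  refine ⟨comm_mem h htL hv, ?_⟩
  rw [ps_comm_TU h hv htL a ha]
  rfl

theorem commutator_VT :
    ⁅V, TU ρ⁆ = V ⊓ Subgroup.centralizer ((TU ρ : Subgroup G) : Set G) := by
  apply le_antisymm
  · rw [Subgroup.commutator_le]
    intro v hv t ht
    rw [commutatorElement_def]
    exact comm_mem_CVT h hv ht
  · intro v hvC
    obtain ⟨hv, hy⟩ := (mem_CVT h).mp hvC
    set v₀ := vOf ψ ![0, 1] with hv₀
    set t := lOf h (ua (-(ps ψ hv 0))) with ht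
    have htL : t ∈ L := lOf_mem h _
    have hv₀V : v₀ ∈ V := vOf_mem _
    have e1 : v = v₀ * t * v₀⁻¹ * t⁻¹ := by
      apply ps_inj (ψ := ψ) hv (comm_mem h htL hv₀V)
      rw [ps_comm_TU h hv₀V htL _ (rho_lOf h _), ps_vOf]
      ext i
      fin_cases i
      · simp
      · simpa using hy
    rw [e1, ← commutatorElement_def]
    exact Subgroup.commutator_mem_commutator hv₀V (lOf_ua_mem h _)

theorem commutator_VTT : ⁅⁅V, TU ρ⁆, TU ρ⁆ = ⊥ := by
  rw [commutator_VT h, Subgroup.commutator_eq_bot_iff_le_centralizer]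
  exact inf_le_right

theorem ua_ne_zero_of_ne_one {s : G} (hsL : s ∈ L) (hs1 : s ≠ 1) (a : F)
    (ha : ρ ⟨s, hsL⟩ = ua a) : a ≠ 0 := by
  intro h0
  rw [h0, ua_zero] at ha
  have : (⟨s, hsL⟩ : L) = 1 := h.inj (ha.trans (map_one ρ).symm)
  exact hs1 (congrArg Subtype.val this)

theorem centralizer_single {s : G} (hs : s ∈ TU ρ) (hs1 : s ≠ 1) :
    V ⊓ Subgroup.centralizer ({s} : Set G) =
      V ⊓ Subgroup.centralizer ((TU ρ : Subgroup G) : Set G) := by
  obtain ⟨hsL, a, ha⟩ := mem_TU.mp hs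
  have ha0 := ua_ne_zero_of_ne_one h hsL hs1 a ha
  ext v
  rw [mem_CVT h]
  constructor
  · rintro ⟨hv, hc⟩
    refine ⟨hv, ?_⟩
    have hc' : v ∈ Subgroup.centralizer ({s} : Set G) := hc
    rw [Subgroup.mem_centralizer_singleton_iff] at hc'
    have h2 := (mem_centralizer_iff' h hsL hv).mp hc'
    unfold Cfsg.Agent.Lib.Helper5_SL2Nat2.mt at h2
    rw [ha, ua_mulVec] at h2
    have h3 := congrFun h2 0
    simp only [Matrix.cons_val_zero] at h3
    have h4 : a * ps ψ hv 1 = 0 := by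
      have : ps ψ hv 0 + a * ps ψ hv 1 = ps ψ hv 0 + 0 := by rw [add_zero]; exact h3
      exact add_left_cancel this
    rcases mul_eq_zero.mp h4 with h5 | h5
    · exact absurd h5 ha0
    · exact h5
  · rintro ⟨hv, hy⟩
    refine ⟨hv, ?_⟩
    show v ∈ Subgroup.centralizer ({s} : Set G)
    rw [Subgroup.mem_centralizer_singleton_iff]
    apply (mem_centralizer_iff' h hsL hv).mpr
    unfold Cfsg.Agent.Lib.Helper5_SL2Nat2.mt
    rw [ha, ua_mulVec, hy, mul_zero, add_zero]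
    ext i
    fin_cases i
    · rfl
    · exact hy.symm

theorem commutator_V_zpowers {s : G} (hs : s ∈ TU ρ) (hs1 : s ≠ 1) :
    ⁅V, Subgroup.zpowers s⁆ = V ⊓ Subgroup.centralizer ((TU ρ : Subgroup G) : Set G) := by
  obtain ⟨hsL, a, ha⟩ := mem_TU.mp hs
  have ha0 := ua_ne_zero_of_ne_one h hsL hs1 a ha
  apply le_antisymm
  · rw [← commutator_VT h]
    exact Subgroup.commutator_mono le_rfl (Subgroup.zpowers_le.mpr hs)
  · intro v hvC
    obtain ⟨hv, hy⟩ := (mem_CVT h).mp hvC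
    set v₀ := vOf ψ ![0, -(ps ψ hv 0) / a] with hv₀
    have hv₀V : v₀ ∈ V := vOf_mem _
    have e1 : v = v₀ * s * v₀⁻¹ * s⁻¹ := by
      apply ps_inj (ψ := ψ) hv (comm_mem h hsL hv₀V)
      rw [ps_comm_TU h hv₀V hsL a ha, ps_vOf]
      ext i
      fin_cases i
      · simp only [Fin.zero_eta, Matrix.cons_val_zero, Matrix.cons_val_one, Fin.isValue]
        field_simp
      · simpa using hy
    rw [e1, ← commutatorElement_def]
    exact Subgroup.commutator_mem_commutator hv₀V (Subgroup.mem_zpowers s)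

theorem closure_comm {v : G} (hv : v ∈ V)
    (hvT : v ∉ Subgroup.centralizer ((TU ρ : Subgroup G) : Set G)) :
    Subgroup.closure {x : G | ∃ t ∈ TU ρ, x = v * t * v⁻¹ * t⁻¹} =
      V ⊓ Subgroup.centralizer ((TU ρ : Subgroup G) : Set G) := by
  have hy : ps ψ hv 1 ≠ 0 := by
    intro h0
    apply hvT
    exact ((mem_CVT h).mpr ⟨hv, h0⟩).2
  apply le_antisymm
  · rw [Subgroup.closure_le]
    rintro x ⟨t, ht, rfl⟩
    exact comm_mem_CVT h hv ht
  · intro w hwC
    obtain ⟨hw, hwy⟩ := (mem_CVT h).mp hwC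
    apply Subgroup.subset_closure
    set t := lOf h (ua (-(ps ψ hw 0) / ps ψ hv 1)) with ht
    have htL : t ∈ L := lOf_mem h _
    refine ⟨t, lOf_ua_mem h _, ?_⟩
    apply ps_inj (ψ := ψ) hw (comm_mem h htL hv)
    rw [ps_comm_TU h hv htL _ (rho_lOf h _)]
    ext i
    fin_cases i
    · simp only [Fin.zero_eta, Matrix.cons_val_zero, Fin.isValue]
      field_simp
    · simpa using hwy

omit h in
theorem card_V [Fintype F] (ψ : Additive V ≃+ (Fin 2 → F)) :
    Nat.card V = Fintype.card F ^ 2 := by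
  have h1 : Nat.card V = Nat.card (Additive V) := rfl
  rw [h1, Nat.card_congr ψ.toEquiv, Nat.card_eq_fintype_card, Fintype.card_fun, Fintype.card_fin]

theorem card_CVT [Fintype F] :
    Nat.card ↥(V ⊓ Subgroup.centralizer ((TU ρ : Subgroup G) : Set G)) = Fintype.card F := by
  rw [← Nat.card_eq_fintype_card]
  apply Nat.card_congr
  refine
    { toFun := fun w => ps ψ w.2.1 0
      invFun := fun x => ⟨vOf ψ ![x, 0], (mem_CVT h).mpr ⟨vOf_mem _, by rw [ps_vOf]; rfl⟩⟩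
      left_inv := ?_
      right_inv := ?_ }
  · intro w
    apply Subtype.ext
    obtain ⟨hw, hwy⟩ := (mem_CVT h).mp w.2
    apply ps_inj (ψ := ψ) (vOf_mem _) hw
    rw [ps_vOf]
    ext i
    fin_cases i
    · rfl
    · exact hwy.symm
  · intro x
    show ps ψ (vOf_mem (ψ := ψ) ![x, 0]) 0 = x
    rw [ps_vOf]
    rfl

end Cfsg.Agent.Lib.Helper5_SL2Nat3
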