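import Mathlib
import Cfsg.Prelude
import Cfsg.Agent.Lib.Helper5_SL2Nat3

set_option autoImplicit false

/-! Natural `SL₂(F)`-modules inside a group: normalization and S2779 (helper5). -/

namespace Cfsg.Agent.Lib.Helper5_SL2Nat4

open Matrix Cfsg.Agent.Lib.Helper5_SL2Nat Cfsg.Agent.Lib.Helper5_SL2Nat2
  Cfsg.Agent.Lib.Helper5_SL2Nat3

theorem card_map_conj' {H : Type*} [Group H] (K : Subgroup H) (d : H) :
    Nat.card (K.map (MulAut.conj d).toMonoidHom) = Nat.card K :=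
  Nat.card_congr (K.equivMapOfInjective _ (MulAut.conj d).injective).toEquiv.symm

theorem normalize {G : Type*} [Group G] [Finite G] {p : ℕ} [Fact p.Prime] {F : Type*} [Field F]
    [Fintype F] (n : ℕ) (hF : Fintype.card F = p ^ n) (V L : Subgroup G)
    (hnat : Cfsg.IsNaturalSL2Module F V L)
    (hf : L ⊓ Subgroup.centralizer (V : Set G) = ⊥) (S : Sylow p ↥L) :
    ∃ (ρ' : L →* Matrix.SpecialLinearGroup (Fin 2) F) (ψ' : Additive V ≃+ (Fin 2 → F)),
      NatData V L ρ' ψ' ∧ (S : Subgroup ↥L).map L.subtype = TU ρ' := by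
  classical
  obtain ⟨hLN, ρ, ψ, hsurj, hker, heq⟩ := hnat
  have hinj : Function.Injective ρ := by
    rw [injective_iff_map_eq_one]
    intro x hx
    have h1 : x ∈ ρ.ker := hx
    rw [hker, Subgroup.mem_subgroupOf] at h1
    have h2 : (x : G) ∈ L ⊓ Subgroup.centralizer (V : Set G) := ⟨x.2, h1⟩
    rw [hf, Subgroup.mem_bot] at h2
    exact Subtype.ext h2
  have hcardL : Nat.card L = Nat.card (Matrix.SpecialLinearGroup (Fin 2) F) :=
    Nat.card_congr (Equiv.ofBijective ρ ⟨hinj, hsurj⟩)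
  set S' : Subgroup (Matrix.SpecialLinearGroup (Fin 2) F) := (S : Subgroup ↥L).map ρ with hS'
  have hS'p : IsPGroup p S' := S.isPGroup'.map ρ
  obtain ⟨c, hc⟩ := Cfsg.Agent.Lib.Helper5_Sylow.exists_conj_le_sylow hS'p (USyl p n hF)
  rw [USyl_coe] at hc
  have hcardS' : Nat.card S' = p ^ n := by
    have h1 : Nat.card S' = Nat.card (S : Subgroup ↥L) :=
      Nat.card_congr ((S : Subgroup ↥L).equivMapOfInjective ρ hinj).toEquiv.symm
    rw [h1, Sylow.card_eq_multiplicity, hcardL, fact_card_SL2 p n hF]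
  have hceq : S'.map (MulAut.conj c).toMonoidHom = UU F := by
    apply Subgroup.eq_of_le_of_card_ge hc
    rw [card_map_conj', hcardS', card_UU, Nat.card_eq_fintype_card, hF]
  -- new data
  let ρ' : L →* Matrix.SpecialLinearGroup (Fin 2) F := (MulAut.conj c).toMonoidHom.comp ρ
  let ψ' : Additive V ≃+ (Fin 2 → F) :=
    ψ.trans (Matrix.SpecialLinearGroup.toLin' c).toAddEquiv
  have hψ' : ∀ x : Additive V, ψ' x = (c : Matrix (Fin 2) (Fin 2) F).mulVec (ψ x) := by
    intro x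
    show (Matrix.SpecialLinearGroup.toLin' c) (ψ x) = _
    rw [Matrix.SpecialLinearGroup.toLin'_apply, Matrix.toLin'_apply]
  have hρ' : ∀ l : L, ρ' l = c * ρ l * c⁻¹ := fun l => rfl
  have hρ'inj : Function.Injective ρ' := (MulAut.conj c).injective.comp hinj
  refine ⟨ρ', ψ', ⟨hρ'inj, (MulAut.conj c).surjective.comp hsurj, ?_⟩, ?_⟩
  · intro l v
    obtain ⟨w, hw, hw2⟩ := heq l v
    refine ⟨w, hw, ?_⟩
    rw [hψ', hψ', hw2, hρ', Matrix.mulVec_mulVec, Matrix.mulVec_mulVec,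
      Matrix.SpecialLinearGroup.coe_mul, Matrix.SpecialLinearGroup.coe_mul, Matrix.mul_assoc,
      ← Matrix.SpecialLinearGroup.coe_mul c⁻¹ c, inv_mul_cancel, Matrix.SpecialLinearGroup.coe_one,
      Matrix.mul_one]
  · unfold TU
    congr 1
    have h1 : (S : Subgroup ↥L).map ρ' = UU F := by
      rw [← hceq, hS', Subgroup.map_map]
    rw [← h1, Subgroup.comap_map_eq_self_of_injective hρ'inj]

theorem main79 {G : Type*} [Group G] [Finite G] {p : ℕ} [Fact p.Prime] {F : Type*} [Field F]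
    [Fintype F] (n : ℕ) (hF : Fintype.card F = p ^ n) (V L : Subgroup G)
    (hnat : Cfsg.IsNaturalSL2Module F V L)
    (hf : L ⊓ Subgroup.centralizer (V : Set G) = ⊥) (S : Sylow p ↥L) (T : Subgroup G)
    (hT : T = ((S : Subgroup ↥L).map L.subtype)) :
    ⁅⁅V, T⁆, T⁆ = ⊥ ∧ Nat.card V = p ^ (2 * n) ∧
    Nat.card ↥(V ⊓ Subgroup.centralizer ((T : Subgroup G) : Set G)) = p ^ n ∧
    ∀ s ∈ T, s ≠ 1 →
      (V ⊓ Subgroup.centralizer ({s} : Set G)) =
        (V ⊓ Subgroup.centralizer ((T : Subgroup G) : Set G)) ∧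
      ⁅V, T⁆ = (V ⊓ Subgroup.centralizer ((T : Subgroup G) : Set G)) ∧
      ⁅V, Subgroup.zpowers s⁆ = (V ⊓ Subgroup.centralizer ((T : Subgroup G) : Set G)) ∧
      ∀ v ∈ V, v ∉ Subgroup.centralizer (T : Set G) →
        Subgroup.closure {x : G | ∃ t ∈ T, x = v * t * v⁻¹ * t⁻¹} =
          (V ⊓ Subgroup.centralizer ((T : Subgroup G) : Set G)) := by
  obtain ⟨ρ', ψ', hdata, hTU⟩ := normalize n hF V L hnat hf S
  rw [hTU] at hT
  subst hT
  refine ⟨commutator_VTT hdata, ?_, ?_, ?_⟩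
  · rw [card_V ψ', hF, ← pow_mul, mul_comm]
  · rw [card_CVT hdata, hF]
  · intro s hs hs1
    exact ⟨centralizer_single hdata hs hs1, commutator_VT hdata,
      commutator_V_zpowers hdata hs hs1, fun v hv hvT => closure_comm hdata hv hvT⟩

end Cfsg.Agent.Lib.Helper5_SL2Nat4
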