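import Mathlib
import Cfsg.Prelude
import Cfsg.Agent.Lib.Helper5_SL2Nat4
import Cfsg.Agent.Lib.Helper3_Alperin

set_option autoImplicit false

/-! Natural `SL₂(F)`-modules inside a group: S2780 (helper5). -/

namespace Cfsg.Agent.Lib.Helper5_SL2Nat5

open Matrix Cfsg.Agent.Lib.Helper5_SL2Nat Cfsg.Agent.Lib.Helper5_SL2Nat2
  Cfsg.Agent.Lib.Helper5_SL2Nat3 Cfsg.Agent.Lib.Helper5_SL2Nat4

variable {G : Type*} [Group G] {F : Type*} [Field F]
  {V L : Subgroup G} {ρ : L →* Matrix.SpecialLinearGroup (Fin 2) F}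
  {ψ : Additive V ≃+ (Fin 2 → F)} (h : NatData V L ρ ψ)

/-- explicit form of a matrix in `SL₂` -/
theorem sl2_eta (A : Matrix.SpecialLinearGroup (Fin 2) F) :
    (A : Matrix (Fin 2) (Fin 2) F) = !![A.1 0 0, A.1 0 1; A.1 1 0, A.1 1 1] := by
  ext i j
  fin_cases i <;> fin_cases j <;> rfl

theorem sl2_det (A : Matrix.SpecialLinearGroup (Fin 2) F) :
    A.1 0 0 * A.1 1 1 - A.1 0 1 * A.1 1 0 = 1 := by
  have := A.2
  rw [Matrix.det_fin_two] at this
  exact this

theorem sl2_mulVec (A : Matrix.SpecialLinearGroup (Fin 2) F) (w : Fin 2 → F) :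
    (A : Matrix (Fin 2) (Fin 2) F).mulVec w =
      ![A.1 0 0 * w 0 + A.1 0 1 * w 1, A.1 1 0 * w 0 + A.1 1 1 * w 1] := by
  ext i
  fin_cases i <;> simp [Matrix.mulVec, dotProduct, Fin.sum_univ_two]

theorem sl2_inv_coe (A : Matrix.SpecialLinearGroup (Fin 2) F) :
    ((A⁻¹ : Matrix.SpecialLinearGroup (Fin 2) F) : Matrix (Fin 2) (Fin 2) F) =
      !![A.1 1 1, -A.1 0 1; -A.1 1 0, A.1 0 0] := by
  rw [Matrix.SpecialLinearGroup.coe_inv, Matrix.adjugate_fin_two]

include h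

theorem mt_inv {l : G} (hl : l ∈ L) :
    mt ρ (inv_mem hl) = ((ρ ⟨l, hl⟩)⁻¹ : Matrix.SpecialLinearGroup (Fin 2) F).1 := by
  unfold Cfsg.Agent.Lib.Helper5_SL2Nat2.mt
  have : (⟨l⁻¹, inv_mem hl⟩ : L) = (⟨l, hl⟩ : L)⁻¹ := rfl
  rw [this, map_inv]

/-- a lower-left-zero element conjugates `T` into itself -/
theorem conj_mem_TU_of_c_zero {g : G} (hg : g ∈ L) (hc : (ρ ⟨g, hg⟩).1 1 0 = 0) {t : G}
    (ht : t ∈ TU ρ) : g * t * g⁻¹ ∈ TU ρ := by
  obtain ⟨htL, x, hx⟩ := mem_TU.mp ht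
  rw [mem_TU]
  refine ⟨mul_mem (mul_mem hg htL) (inv_mem hg), (ρ ⟨g, hg⟩).1 0 0 * (ρ ⟨g, hg⟩).1 0 0 * x, ?_⟩
  have e1 : (⟨g * t * g⁻¹, mul_mem (mul_mem hg htL) (inv_mem hg)⟩ : L) =
      ⟨g, hg⟩ * ⟨t, htL⟩ * (⟨g, hg⟩ : L)⁻¹ := rfl
  rw [e1, map_mul, map_mul, map_inv, hx, mul_inv_eq_iff_eq_mul]
  set A := ρ ⟨g, hg⟩ with hA
  have hdet := sl2_det A
  rw [hc, mul_zero, sub_zero] at hdet
  apply Subtype.ext
  rw [Matrix.SpecialLinearGroup.coe_mul, Matrix.SpecialLinearGroup.coe_mul, ua_coe, ua_coe,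
    sl2_eta A, hc]
  ext i j
  fin_cases i <;> fin_cases j
  · simp [Matrix.mul_apply, Fin.sum_univ_two]
  · simp only [Fin.zero_eta, Fin.mk_one, Matrix.mul_apply, Fin.sum_univ_two, Matrix.of_apply,
      Matrix.cons_val', Matrix.cons_val_zero, Matrix.cons_val_one, Matrix.empty_val',
      Matrix.cons_val_fin_one, Fin.isValue]
    linear_combination (-(A.1 0 0 * x)) * hdet
  · simp [Matrix.mul_apply, Fin.sum_univ_two]
  · simp [Matrix.mul_apply, Fin.sum_univ_two]

theorem mem_normalizer_of_c_zero [Finite G] {g : G} (hg : g ∈ L)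
    (hc : (ρ ⟨g, hg⟩).1 1 0 = 0) :
    g ∈ Subgroup.normalizer ((TU ρ : Subgroup G) : Set G) := by
  apply Cfsg.Agent.Lib.Helper3_Alperin.mem_normalizer_of_conj_le
  intro t ht
  have hc' : (ρ ⟨g⁻¹, inv_mem hg⟩).1 1 0 = 0 := by
    have : (⟨g⁻¹, inv_mem hg⟩ : L) = (⟨g, hg⟩ : L)⁻¹ := rfl
    rw [this, map_inv, sl2_inv_coe]
    simp [hc]
  have := conj_mem_TU_of_c_zero h (inv_mem hg) hc' ht
  rwa [inv_inv] at this

/-- membership in `C_V(gTg⁻¹)` -/
theorem mem_CVTg {g v : G} (hg : g ∈ L) (hv : v ∈ V) :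
    v ∈ V ⊓ Subgroup.centralizer
      (((TU ρ).map (MulAut.conj g).toMonoidHom : Subgroup G) : Set G) ↔
    g⁻¹ * v * g ∈ V ⊓ Subgroup.centralizer ((TU ρ : Subgroup G) : Set G) := by
  have hv' : g⁻¹ * v * g ∈ V := by
    have := conj_mem h (inv_mem hg) hv
    rwa [inv_inv] at this
  constructor
  · rintro ⟨-, hc⟩
    refine ⟨hv', ?_⟩
    show g⁻¹ * v * g ∈ Subgroup.centralizer ((TU ρ : Subgroup G) : Set G)
    rw [Subgroup.mem_centralizer_iff]
    intro t ht
    have h1 : g * t * g⁻¹ ∈ (TU ρ).map (MulAut.conj g).toMonoidHom :=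
      ⟨t, ht, by simp [MulAut.conj_apply]⟩
    have h2 := Subgroup.mem_centralizer_iff.mp hc _ h1
    calc t * (g⁻¹ * v * g) = g⁻¹ * ((g * t * g⁻¹) * v) * g := by group
      _ = g⁻¹ * (v * (g * t * g⁻¹)) * g := by rw [h2]
      _ = g⁻¹ * v * g * t := by group
  · rintro ⟨-, hc⟩
    refine ⟨hv, ?_⟩
    show v ∈ Subgroup.centralizer (((TU ρ).map (MulAut.conj g).toMonoidHom : Subgroup G) : Set G)
    rw [Subgroup.mem_centralizer_iff]
    rintro _ ⟨t, ht, rfl⟩
    have h2 := Subgroup.mem_centralizer_iff.mp hc _ ht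
    simp only [MulEquiv.coe_toMonoidHom, MulAut.conj_apply]
    calc g * t * g⁻¹ * v = g * (t * (g⁻¹ * v * g)) * g⁻¹ := by group
      _ = g * ((g⁻¹ * v * g) * t) * g⁻¹ := by rw [h2]
      _ = v * (g * t * g⁻¹) := by group

theorem ps_conj_inv {g v : G} (hg : g ∈ L) (hv : v ∈ V) (hv' : g⁻¹ * v * g ∈ V) :
    ps ψ hv' = ((ρ ⟨g, hg⟩)⁻¹ : Matrix.SpecialLinearGroup (Fin 2) F).1.mulVec (ps ψ hv) := by
  have h1 := ps_conj h (inv_mem hg) hv
  rw [mt_inv h hg] at h1
  rw [← h1]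
  apply ps_congr
  rw [inv_inv]

/-- part (1) -/
theorem direct_product [Finite G] {g : G} (hg : g ∈ L)
    (hgN : g ∉ Subgroup.normalizer ((TU ρ : Subgroup G) : Set G)) :
    Cfsg.IsInternalDirectProduct (V ⊓ Subgroup.centralizer ((TU ρ : Subgroup G) : Set G))
      (V ⊓ Subgroup.centralizer (((TU ρ).map (MulAut.conj g).toMonoidHom : Subgroup G) : Set G))
      V := by
  set A := ρ ⟨g, hg⟩ with hA
  have hc : A.1 1 0 ≠ 0 := fun hc => hgN (mem_normalizer_of_c_zero h hg hc)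
  refine ⟨inf_le_left, inf_le_left, fun a ha b hb => V_comm ψ ha.1 hb.1, ?_, ?_⟩
  · rw [Subgroup.eq_bot_iff_forall]
    rintro v ⟨hv1, hv2⟩
    obtain ⟨hv, hy⟩ := (mem_CVT h).mp hv1
    have h2 := (mem_CVTg h hg hv).mp hv2
    obtain ⟨hv', hy'⟩ := (mem_CVT h).mp h2
    rw [ps_conj_inv h hg hv hv', sl2_mulVec, sl2_inv_coe] at hy'
    simp only [Matrix.of_apply, Matrix.cons_val', Matrix.cons_val_zero, Matrix.cons_val_one,
      Matrix.empty_val', Matrix.cons_val_fin_one, Fin.isValue] at hy'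
    rw [hy, mul_zero, add_zero] at hy'
    have hx : ps ψ hv 0 = 0 := by
      rcases mul_eq_zero.mp hy' with h3 | h3
      · exact absurd (neg_eq_zero.mp h3) hc
      · exact h3
    apply ps_inj (ψ := ψ) hv (one_mem V)
    rw [ps_one]
    ext i
    fin_cases i
    · exact hx
    · exact hy
  · apply le_antisymm (sup_le inf_le_left inf_le_left)
    intro v hv
    set x := ps ψ hv 0 with hx
    set y := ps ψ hv 1 with hy
    set z := y / A.1 1 0 with hz
    set v₁ := vOf ψ ![x - A.1 0 0 * z, 0] with hv₁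
    set w := vOf ψ ![z, 0] with hw
    have hv₁V : v₁ ∈ V := vOf_mem _
    have hwV : w ∈ V := vOf_mem _
    have hv₂V : g * w * g⁻¹ ∈ V := conj_mem h hg hwV
    have hv₁C : v₁ ∈ V ⊓ Subgroup.centralizer ((TU ρ : Subgroup G) : Set G) :=
      (mem_CVT h).mpr ⟨hv₁V, by rw [ps_vOf]; rfl⟩
    have hwC : w ∈ V ⊓ Subgroup.centralizer ((TU ρ : Subgroup G) : Set G) :=
      (mem_CVT h).mpr ⟨hwV, by rw [ps_vOf]; rfl⟩
    have hv₂C : g * w * g⁻¹ ∈ V ⊓ Subgroup.centralizer
        (((TU ρ).map (MulAut.conj g).toMonoidHom : Subgroup G) : Set G) := by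
      rw [mem_CVTg h hg hv₂V]
      have : g⁻¹ * (g * w * g⁻¹) * g = w := by group
      rw [this]; exact hwC
    have e : v = v₁ * (g * w * g⁻¹) := by
      apply ps_inj (ψ := ψ) hv (mul_mem hv₁V hv₂V)
      rw [ps_mul hv₁V hv₂V, ps_conj h hg hwV, ps_vOf, ps_vOf]
      unfold Cfsg.Agent.Lib.Helper5_SL2Nat2.mt
      rw [sl2_mulVec]
      ext i
      fin_cases i
      · simp only [Fin.zero_eta, Pi.add_apply, Matrix.cons_val_zero, Matrix.cons_val_one,
          Fin.isValue, mul_zero, add_zero]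
        rw [← hA, ← hx]; ring
      · simp only [Fin.mk_one, Pi.add_apply, Matrix.cons_val_zero, Matrix.cons_val_one,
          Fin.isValue, mul_zero, add_zero, zero_add]
        rw [← hA, ← hy, hz]
        field_simp
    rw [e]
    exact Subgroup.mul_mem_sup hv₁C hv₂C


omit h in
/-- an element of `SL₂(F)` with a nonzero fixed vector is unipotent, hence of order dividing `p` -/
theorem unipotent_pow (p : ℕ) [Fact p.Prime] [CharP F p] (A : Matrix.SpecialLinearGroup (Fin 2) F)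
    (w : Fin 2 → F) (hw : w ≠ 0) (hAw : A.1.mulVec w = w) : A ^ p = 1 := by
  have hdet := sl2_det A
  rw [sl2_mulVec] at hAw
  have e1 : A.1 0 0 * w 0 + A.1 0 1 * w 1 = w 0 := by
    have := congrFun hAw 0
    simpa using this
  have e2 : A.1 1 0 * w 0 + A.1 1 1 * w 1 = w 1 := by
    have := congrFun hAw 1
    simpa using this
  have htr : A.1 0 0 + A.1 1 1 = 2 := by
    have hD0 : (2 - A.1 0 0 - A.1 1 1) * w 0 = 0 := by
      linear_combination (A.1 1 1 - 1) * e1 - A.1 0 1 * e2 - w 0 * hdet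
    have hD1 : (2 - A.1 0 0 - A.1 1 1) * w 1 = 0 := by
      linear_combination (A.1 0 0 - 1) * e2 - A.1 1 0 * e1 - w 1 * hdet
    have hne : w 0 ≠ 0 ∨ w 1 ≠ 0 := by
      by_contra hno
      push_neg at hno
      apply hw
      ext i
      fin_cases i
      · exact hno.1
      · exact hno.2
    have hD : 2 - A.1 0 0 - A.1 1 1 = 0 := by
      rcases hne with h0 | h1
      · exact (mul_eq_zero.mp hD0).resolve_right h0
      · exact (mul_eq_zero.mp hD1).resolve_right h1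
    linear_combination -hD
  set N : Matrix (Fin 2) (Fin 2) F := A.1 - 1 with hN
  have hN2 : N * N = 0 := by
    rw [hN, sl2_eta A]
    ext i j
    fin_cases i <;> fin_cases j
    · simp only [Fin.zero_eta, Matrix.mul_apply, Fin.sum_univ_two, Matrix.sub_apply,
        Matrix.of_apply, Matrix.cons_val', Matrix.cons_val_zero, Matrix.cons_val_one,
        Matrix.empty_val', Matrix.cons_val_fin_one, Fin.isValue, Matrix.one_apply_eq,
        Matrix.zero_apply, ne_eq, zero_ne_one, not_false_eq_true, Matrix.one_apply_ne,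
        one_ne_zero, sub_zero]
      linear_combination (A.1 0 0) * htr - hdet
    · simp only [Fin.zero_eta, Fin.mk_one, Matrix.mul_apply, Fin.sum_univ_two, Matrix.sub_apply,
        Matrix.of_apply, Matrix.cons_val', Matrix.cons_val_zero, Matrix.cons_val_one,
        Matrix.empty_val', Matrix.cons_val_fin_one, Fin.isValue, Matrix.one_apply_eq,
        Matrix.zero_apply, ne_eq, zero_ne_one, not_false_eq_true, Matrix.one_apply_ne,
        one_ne_zero, sub_zero]
      linear_combination (A.1 0 1) * htr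
    · simp only [Fin.zero_eta, Fin.mk_one, Matrix.mul_apply, Fin.sum_univ_two, Matrix.sub_apply,
        Matrix.of_apply, Matrix.cons_val', Matrix.cons_val_zero, Matrix.cons_val_one,
        Matrix.empty_val', Matrix.cons_val_fin_one, Fin.isValue, Matrix.one_apply_eq,
        Matrix.zero_apply, ne_eq, zero_ne_one, not_false_eq_true, Matrix.one_apply_ne,
        one_ne_zero, sub_zero]
      linear_combination (A.1 1 0) * htr
    · simp only [Fin.mk_one, Matrix.mul_apply, Fin.sum_univ_two, Matrix.sub_apply,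
        Matrix.of_apply, Matrix.cons_val', Matrix.cons_val_zero, Matrix.cons_val_one,
        Matrix.empty_val', Matrix.cons_val_fin_one, Fin.isValue, Matrix.one_apply_eq,
        Matrix.zero_apply, ne_eq, zero_ne_one, not_false_eq_true, Matrix.one_apply_ne,
        one_ne_zero, sub_zero]
      linear_combination (A.1 1 1) * htr - hdet
  have hA1 : A.1 = 1 + N := by rw [hN]; abel
  have hpow : ∀ k : ℕ, A.1 ^ k = 1 + k • N := by
    intro k
    induction k with
    | zero => simp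
    | succ k ih =>
      rw [pow_succ, ih, hA1]
      rw [Matrix.add_mul, Matrix.mul_add, Matrix.mul_add, Matrix.one_mul, Matrix.one_mul,
        Matrix.mul_one, Matrix.smul_mul, hN2, smul_zero, add_zero, succ_nsmul]
      abel
  apply Subtype.ext
  rw [Matrix.SpecialLinearGroup.coe_pow, hpow, Matrix.SpecialLinearGroup.coe_one]
  have : p • N = 0 := by
    ext i j
    rw [Matrix.smul_apply, nsmul_eq_mul, CharP.cast_eq_zero F p, zero_mul, Matrix.zero_apply]
  rw [this, add_zero]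

/-- part (2) -/
theorem fpf (p : ℕ) [Fact p.Prime] [CharP F p] {x : G} (hx : x ∈ L) (hx1 : x ≠ 1)
    (hcop : (orderOf x).Coprime p) : V ⊓ Subgroup.centralizer ({x} : Set G) = ⊥ := by
  rw [Subgroup.eq_bot_iff_forall]
  rintro v ⟨hv, hc⟩
  by_contra hv1
  have hc' : v ∈ Subgroup.centralizer ({x} : Set G) := hc
  rw [Subgroup.mem_centralizer_singleton_iff] at hc'
  have hfix := (mem_centralizer_iff' h hx hv).mp hc'
  have hw : ps ψ hv ≠ 0 := by
    intro h0
    apply hv1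
    apply ps_inj (ψ := ψ) hv (one_mem V)
    rw [h0, ps_one]
  have hpow := unipotent_pow p (ρ ⟨x, hx⟩) (ps ψ hv) hw hfix
  have h1 : (⟨x, hx⟩ : L) ^ p = 1 := by
    apply h.inj
    rw [map_pow, hpow, map_one]
  have h2 : x ^ p = 1 := congrArg Subtype.val h1
  have h3 : orderOf x ∣ p := orderOf_dvd_of_pow_eq_one h2
  have h4 : orderOf x ∣ 1 := by
    have := Nat.dvd_gcd (dvd_refl (orderOf x)) h3
    rwa [Nat.Coprime.gcd_eq_one hcop] at this
  exact hx1 (orderOf_eq_one_iff.mp (Nat.dvd_one.mp h4))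

omit h in
/-- torus element -/
def dgm (l : F) (hl : l ≠ 0) : Matrix.SpecialLinearGroup (Fin 2) F :=
  ⟨!![l, 0; 0, l⁻¹], by rw [Matrix.det_fin_two_of, mul_inv_cancel₀ hl]; ring⟩

/-- the torus element of `L` -/
noncomputable def hOf (l : F) (hl : l ≠ 0) : G := lOf h (dgm l hl)

theorem hOf_mem (l : F) (hl : l ≠ 0) : hOf h l hl ∈ L := lOf_mem h _

theorem hOf_normalizer [Finite G] (l : F) (hl : l ≠ 0) :
    hOf h l hl ∈ L ⊓ Subgroup.normalizer ((TU ρ : Subgroup G) : Set G) := by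
  refine ⟨hOf_mem h l hl, mem_normalizer_of_c_zero h (hOf_mem h l hl) ?_⟩
  have : ρ ⟨hOf h l hl, hOf_mem h l hl⟩ = dgm l hl := rho_lOf h _
  rw [this]
  rfl

theorem ps_hOf (l : F) (hl : l ≠ 0) {v : G} (hv : v ∈ V) :
    ps ψ (conj_mem h (hOf_mem h l hl) hv) = ![l * ps ψ hv 0, l⁻¹ * ps ψ hv 1] := by
  rw [ps_conj h (hOf_mem h l hl) hv]
  have : mt ρ (hOf_mem h l hl) = !![l, 0; 0, l⁻¹] := by
    unfold hOf
    rw [mt_lOf]; rfl
  rw [this]
  ext i
  fin_cases i <;> simp [Matrix.mulVec, dotProduct, Fin.sum_univ_two]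

/-- part (3) -/
theorem irreducible_CVT [Finite G] (U : Subgroup G)
    (hU : U ≤ V ⊓ Subgroup.centralizer ((TU ρ : Subgroup G) : Set G))
    (hN : L ⊓ Subgroup.normalizer ((TU ρ : Subgroup G) : Set G) ≤
      Subgroup.normalizer (U : Set G)) :
    U = ⊥ ∨ U = V ⊓ Subgroup.centralizer ((TU ρ : Subgroup G) : Set G) := by
  by_cases hbot : U = ⊥
  · left; exact hbot
  right
  apply le_antisymm hU
  obtain ⟨u₀, hu₀U, hu₀1⟩ : ∃ u ∈ U, u ≠ 1 := by
    by_contra hno
    push_neg at hno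
    exact hbot ((Subgroup.eq_bot_iff_forall U).mpr hno)
  obtain ⟨hu₀V, hu₀y⟩ := (mem_CVT h).mp (hU hu₀U)
  have hx₀ : ps ψ hu₀V 0 ≠ 0 := by
    intro h0
    apply hu₀1
    apply ps_inj (ψ := ψ) hu₀V (one_mem V)
    rw [ps_one]
    ext i
    fin_cases i
    · exact h0
    · exact hu₀y
  intro w hwC
  obtain ⟨hwV, hwy⟩ := (mem_CVT h).mp hwC
  by_cases hx : ps ψ hwV 0 = 0
  · have : w = 1 := by
      apply ps_inj (ψ := ψ) hwV (one_mem V)
      rw [ps_one]
      ext i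
      fin_cases i
      · exact hx
      · exact hwy
    rw [this]; exact one_mem U
  · set l := ps ψ hwV 0 / ps ψ hu₀V 0 with hl
    have hl0 : l ≠ 0 := div_ne_zero hx hx₀
    have hmemN := hN (hOf_normalizer h l hl0)
    have hconjU : hOf h l hl0 * u₀ * (hOf h l hl0)⁻¹ ∈ U :=
      (Subgroup.mem_normalizer_iff.mp hmemN u₀).mp hu₀U
    have : w = hOf h l hl0 * u₀ * (hOf h l hl0)⁻¹ := by
      apply ps_inj (ψ := ψ) hwV (conj_mem h (hOf_mem h l hl0) hu₀V)
      rw [ps_hOf h l hl0 hu₀V, hu₀y, mul_zero]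
      ext i
      fin_cases i
      · simp only [Fin.zero_eta, Matrix.cons_val_zero, Fin.isValue]
        rw [hl]; field_simp
      · exact hwy
    rw [this]; exact hconjU

/-- part (4) -/
theorem irreducible_quot [Finite G] (U : Subgroup G)
    (hCU : V ⊓ Subgroup.centralizer ((TU ρ : Subgroup G) : Set G) ≤ U) (hUV : U ≤ V)
    (hN : L ⊓ Subgroup.normalizer ((TU ρ : Subgroup G) : Set G) ≤
      Subgroup.normalizer (U : Set G)) :
    U = V ⊓ Subgroup.centralizer ((TU ρ : Subgroup G) : Set G) ∨ U = V := by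
  by_cases hle : U ≤ V ⊓ Subgroup.centralizer ((TU ρ : Subgroup G) : Set G)
  · left; exact le_antisymm hle hCU
  right
  apply le_antisymm hUV
  obtain ⟨u₀, hu₀U, hu₀C⟩ := SetLike.not_le_iff_exists.mp hle
  have hu₀V : u₀ ∈ V := hUV hu₀U
  have hy₀ : ps ψ hu₀V 1 ≠ 0 := fun h0 => hu₀C ((mem_CVT h).mpr ⟨hu₀V, h0⟩)
  intro v hv
  by_cases hy : ps ψ hv 1 = 0
  · exact hCU ((mem_CVT h).mpr ⟨hv, hy⟩)
  · set l := ps ψ hu₀V 1 / ps ψ hv 1 with hl
    have hl0 : l ≠ 0 := div_ne_zero hy₀ hy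
    have hmemN := hN (hOf_normalizer h l hl0)
    have hconjU : hOf h l hl0 * u₀ * (hOf h l hl0)⁻¹ ∈ U :=
      (Subgroup.mem_normalizer_iff.mp hmemN u₀).mp hu₀U
    have hconjV := conj_mem h (hOf_mem h l hl0) hu₀V
    set w := vOf ψ ![ps ψ hv 0 - l * ps ψ hu₀V 0, 0] with hw
    have hwV : w ∈ V := vOf_mem _
    have hwC : w ∈ V ⊓ Subgroup.centralizer ((TU ρ : Subgroup G) : Set G) :=
      (mem_CVT h).mpr ⟨hwV, by rw [ps_vOf]; rfl⟩
    have : v = (hOf h l hl0 * u₀ * (hOf h l hl0)⁻¹) * w := by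
      apply ps_inj (ψ := ψ) hv (mul_mem hconjV hwV)
      rw [ps_mul hconjV hwV, ps_hOf h l hl0 hu₀V, ps_vOf]
      ext i
      fin_cases i
      · simp only [Fin.zero_eta, Pi.add_apply, Matrix.cons_val_zero, Fin.isValue]
        ring
      · simp only [Fin.mk_one, Pi.add_apply, Matrix.cons_val_one, Matrix.cons_val_zero,
          Fin.isValue, add_zero]
        rw [hl]; field_simp
    rw [this]
    exact mul_mem hconjU (hCU hwC)


omit h in
theorem main80 {G : Type*} [Group G] [Finite G] {p : ℕ} [Fact p.Prime] {F : Type*} [Field F]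
    [Fintype F] (n : ℕ) (hF : Fintype.card F = p ^ n) (V L : Subgroup G)
    (hnat : Cfsg.IsNaturalSL2Module F V L)
    (hf : L ⊓ Subgroup.centralizer (V : Set G) = ⊥) (S : Sylow p ↥L) (T : Subgroup G)
    (hT : T = ((S : Subgroup ↥L).map L.subtype)) :
    (∀ g ∈ L, g ∉ Subgroup.normalizer (T : Set G) →
      Cfsg.IsInternalDirectProduct (V ⊓ Subgroup.centralizer ((T : Subgroup G) : Set G))
        (V ⊓ Subgroup.centralizer ((T.map (MulAut.conj g).toMonoidHom : Subgroup G) : Set G)) V) ∧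
    (∀ x ∈ L, x ≠ 1 → (orderOf x).Coprime p → (V ⊓ Subgroup.centralizer ({x} : Set G)) = ⊥) ∧
    (∀ U : Subgroup G, U ≤ (V ⊓ Subgroup.centralizer ((T : Subgroup G) : Set G)) →
      L ⊓ Subgroup.normalizer (T : Set G) ≤ Subgroup.normalizer (U : Set G) →
      U = ⊥ ∨ U = (V ⊓ Subgroup.centralizer ((T : Subgroup G) : Set G))) ∧
    (∀ U : Subgroup G, (V ⊓ Subgroup.centralizer ((T : Subgroup G) : Set G)) ≤ U → U ≤ V →
      L ⊓ Subgroup.normalizer (T : Set G) ≤ Subgroup.normalizer (U : Set G) →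
      U = (V ⊓ Subgroup.centralizer ((T : Subgroup G) : Set G)) ∨ U = V) := by
  haveI : CharP F p := charP_of_card p n hF
  obtain ⟨ρ', ψ', hdata, hTU⟩ := normalize n hF V L hnat hf S
  rw [hTU] at hT
  subst hT
  exact ⟨fun g hg hgN => direct_product hdata hg hgN,
    fun x hx hx1 hcop => fpf hdata p hx hx1 hcop,
    fun U hU hN => irreducible_CVT hdata U hU hN,
    fun U hCU hUV hN => irreducible_quot hdata U hCU hUV hN⟩

end Cfsg.Agent.Lib.Helper5_SL2Nat5
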