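import Mathlib
import Cfsg.Prelude.Def_Perm
import Cfsg.Agent.Lib.Helper5_Sharp2

set_option autoImplicit false

namespace Cfsg.Agent.Lib.Helper5_Sharp2NF

open MulAction Cfsg.Agent.Lib.Helper5_Sharp2

theorem exists_regular_normal {G α : Type*} [Group G] [Finite G] [Fintype α] [DecidableEq α]
    [MulAction G α] (h : Sharp2 G α) (hn : 2 ≤ Fintype.card α) :
    ∃ N : Subgroup G, N.Normal ∧ (∀ a b : α, ∃ g ∈ N, g • a = b) ∧
      (∀ g ∈ N, ∀ a : α, g • a = a → g = 1) := by
  classical
  obtain ⟨p, j, N, hp, hj, hcard, hnorm, hNcard, hcomm, hpow, hNF⟩ := h.main hn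
  have hsemi : ∀ g ∈ N, ∀ a : α, g • a = a → g = 1 := by
    intro g hg a ha
    rcases (hNF g).1 hg with h1 | h1
    · exact h1
    · exact absurd ha (h1 a)
  refine ⟨N, hnorm, ?_, hsemi⟩
  intro a b
  have hinj : Function.Injective (fun g : N => (g : G) • a) := by
    intro g g' hgg
    have hgg' : (g : G) • a = (g' : G) • a := hgg
    have h1 : ((g : G)⁻¹ * (g' : G)) • a = a := by
      rw [mul_smul, ← hgg', inv_smul_smul]
    have h2 := hsemi _ (N.mul_mem (N.inv_mem g.2) g'.2) a h1
    exact Subtype.ext (inv_mul_eq_one.1 h2)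
  have hbij : Function.Bijective (fun g : N => (g : G) • a) := by
    haveI : Fintype N := Fintype.ofFinite N
    rw [Fintype.bijective_iff_injective_and_card]
    refine ⟨hinj, ?_⟩
    rw [← Nat.card_eq_fintype_card, hNcard, hcard]
  obtain ⟨g, hg⟩ := hbij.2 b
  exact ⟨g, g.2, hg⟩

theorem nearfield_of_sharp2 {α : Type*} [Fintype α] [DecidableEq α] (H : Subgroup (Equiv.Perm α))
    (hS : Sharp2 H α) (h2 : 2 ≤ Fintype.card α) :
    ∃ _ : Cfsg.NearField α, ∀ σ : Equiv.Perm α, σ ∈ H ↔
      ∃ a b : α, a ≠ 0 ∧ ∀ x : α, σ x = x * a + b := by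
  classical
  obtain ⟨N, hNn, hNt, hNs⟩ := exists_regular_normal hS h2
  obtain ⟨o, e, hoe⟩ := Fintype.exists_pair_of_one_lt_card (show 1 < Fintype.card α by omega)
  have ht : ∀ a : α, ∃ g : H, g ∈ N ∧ g • o = a := fun a => by
    obtain ⟨g, hg, h⟩ := hNt o a
    exact ⟨g, hg, h⟩
  choose t htN hto using ht
  have hN_unique : ∀ g g' : H, g ∈ N → g' ∈ N → g • o = g' • o → g = g' := by
    intro g g' hg hg' hgg
    have h1 : (g⁻¹ * g') • o = o := by rw [mul_smul, ← hgg, inv_smul_smul]
    have h3 := hNs _ (N.mul_mem (N.inv_mem hg) hg') o h1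
    exact inv_mul_eq_one.1 h3
  have hT2 : ∀ g : H, g ∈ N → t (g • o) = g := fun g hg =>
    hN_unique _ _ (htN _) hg (hto _)
  have hT3 : t o = 1 := by
    have := hT2 1 N.one_mem
    rwa [one_smul] at this
  have hT4 : ∀ b c : α, t (t c • b) = t c * t b := by
    intro b c
    have := hT2 (t c * t b) (N.mul_mem (htN c) (htN b))
    rw [mul_smul, hto b] at this
    exact this
  have hm : ∀ a : α, ∃ g : H, g • o = o ∧ (a ≠ o → g • e = a) := by
    intro a
    by_cases ha : a = o
    · exact ⟨1, one_smul _ _, fun h => absurd ha h⟩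
    · obtain ⟨g, h1, h2⟩ := hS.trans hoe (Ne.symm ha)
      exact ⟨g, h1, fun _ => h2⟩
  choose m hmo hme using hm
  have hfix_ne : ∀ g : H, g • o = o → ∀ x : α, x ≠ o → g • x ≠ o := by
    intro g hg x hx hgx
    apply hx
    have : g • x = g • o := by rw [hgx, hg]
    exact smul_left_cancel g this
  have hM2 : ∀ g : H, g • o = o → m (g • e) = g := by
    intro g hg
    have hne : g • e ≠ o := hfix_ne g hg e (Ne.symm hoe)
    have h1 : (g⁻¹ * m (g • e)) • o = o := by
      rw [mul_smul, hmo, inv_smul_eq_iff, hg]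
    have h3 : (g⁻¹ * m (g • e)) • e = e := by
      rw [mul_smul, hme _ hne, inv_smul_smul]
    have := hS.sharp _ o e hoe h1 h3
    exact (inv_mul_eq_one.1 this).symm
  have hM3 : m e = 1 := by
    have := hM2 1 (one_smul _ _)
    rwa [one_smul] at this
  have hM4 : ∀ a b : α, a ≠ o → b ≠ o → m (m b • a) = m b * m a := by
    intro a b ha hb
    have := hM2 (m b * m a) (by rw [mul_smul, hmo, hmo])
    rw [mul_smul, hme a ha] at this
    exact this
  have hD : ∀ c y : α, t (m c • y) = m c * t y * (m c)⁻¹ := by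
    intro c y
    have := hT2 (m c * t y * (m c)⁻¹) (hNn.conj_mem _ (htN y) _)
    rw [mul_smul, mul_smul, inv_smul_eq_iff.2 (hmo c).symm, hto y] at this
    exact this
  letI iAdd : Add α := ⟨fun x b => t b • x⟩
  letI iZero : Zero α := ⟨o⟩
  letI iNeg : Neg α := ⟨fun b => (t b)⁻¹ • o⟩
  letI iAG : AddGroup α := AddGroup.ofLeftAxioms
    (fun a b c => by
        show t c • (t b • a) = t (t c • b) • a
        rw [hT4, mul_smul])
    (fun a => hto a)
    (fun a => by
        show t a • ((t a)⁻¹ • o) = o
        rw [smul_inv_smul])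
  letI iMul : Mul α := ⟨fun x a => if a = o then o else m a • x⟩
  letI iOne : One α := ⟨e⟩
  letI iM : Monoid α :=
    { mul_assoc := fun a b c => by
        show (if c = o then o else m c • (if b = o then o else m b • a)) =
          (if (if c = o then o else m c • b) = o then o else m (if c = o then o else m c • b) • a)
        by_cases hc : c = o
        · simp only [hc, if_true]
        · simp only [hc, if_false]
          by_cases hb : b = o
          · simp only [hb, if_true, hmo]
          · have hne : m c • b ≠ o := hfix_ne _ (hmo c) b hb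
            simp only [hb, if_false, hne]
            rw [hM4 b c hb hc, mul_smul]
      one_mul := fun a => by
        show (if a = o then o else m a • e) = a
        by_cases ha : a = o
        · simp only [ha, if_true]
        · simp only [ha, if_false]
          exact hme a ha
      mul_one := fun a => by
        show (if e = o then o else m e • a) = a
        rw [if_neg (Ne.symm hoe), hM3, one_smul] }
  let inst : Cfsg.NearField α :=
    { toAddGroup := iAG
      toMonoid := iM
      right_distrib := fun a b c => by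
        show (if c = o then o else m c • (t b • a)) =
          t (if c = o then o else m c • b) • (if c = o then o else m c • a)
        by_cases hc : c = o
        · simp only [hc, if_true]
          rw [hT3, one_smul]
        · simp only [hc, if_false]
          rw [hD, mul_smul, mul_smul, inv_smul_smul]
      mul_zero := fun a => by
        show (if o = o then o else m o • a) = o
        rw [if_pos rfl]
      zero_ne_one := hoe
      exists_inv := fun a ha => by
        have ha' : a ≠ o := ha
        have hb : (m a)⁻¹ • e ≠ o := hfix_ne _ (by rw [inv_smul_eq_iff, hmo]) e (Ne.symm hoe)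
        have hmb : m ((m a)⁻¹ • e) = (m a)⁻¹ := hM2 _ (by rw [inv_smul_eq_iff, hmo])
        refine ⟨(m a)⁻¹ • e, ?_, ?_⟩
        · show (if (m a)⁻¹ • e = o then o else m ((m a)⁻¹ • e) • a) = e
          rw [if_neg hb, hmb, inv_smul_eq_iff, hme a ha']
        · show (if a = o then o else m a • ((m a)⁻¹ • e)) = e
          rw [if_neg ha', smul_inv_smul] }
  refine ⟨inst, ?_⟩
  intro σ
  constructor
  · intro hσ
    have hb0 : ((t (σ o))⁻¹ * ⟨σ, hσ⟩ : H) • o = o := by
      rw [mul_smul, inv_smul_eq_iff, hto]
      rfl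
    refine ⟨((t (σ o))⁻¹ * ⟨σ, hσ⟩ : H) • e, σ o, hfix_ne _ hb0 e (Ne.symm hoe), ?_⟩
    intro x
    show σ x = t (σ o) • (if ((t (σ o))⁻¹ * ⟨σ, hσ⟩ : H) • e = o then o
      else m (((t (σ o))⁻¹ * ⟨σ, hσ⟩ : H) • e) • x)
    rw [if_neg (hfix_ne _ hb0 e (Ne.symm hoe)), hM2 _ hb0, mul_smul, smul_inv_smul]
    rfl
  · rintro ⟨a, b, ha, hx⟩
    have ha' : a ≠ o := ha
    have : σ = ((t b * m a : H) : Equiv.Perm α) := by
      ext x
      rw [hx x]
      show t b • (if a = o then o else m a • x) = _
      rw [if_neg ha']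
      rfl
    rw [this]
    exact (t b * m a).2

theorem sharp2_of_subgroup {α : Type*} (G : Subgroup (Equiv.Perm α))
    [MulAction.IsMultiplyPretransitive G α 2]
    (hsharp : ∀ x : Fin 2 ↪ α, MulAction.stabilizer G x = ⊥) : Sharp2 G α := by
  refine ⟨?_, ?_⟩
  · intro a b c d hab hcd
    exact (MulAction.is_two_pretransitive_iff.1 inferInstance) hab hcd
  · intro g a b hab ha hb
    have hmem : g ∈ MulAction.stabilizer G (Function.Embedding.embFinTwo hab) := by
      rw [MulAction.mem_stabilizer_iff]
      ext i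
      fin_cases i
      · exact ha
      · exact hb
    rw [hsharp] at hmem
    exact Subgroup.mem_bot.1 hmem

end Cfsg.Agent.Lib.Helper5_Sharp2NF
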