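import Mathlib

namespace Cfsg.Agent.Lib.Helper5_Sharp3

open MulAction

variable {G α : Type*} [Group G] [MulAction G α]

/-- embedding from three distinct points -/
def emb3 (x y z : α) (hxy : x ≠ y) (hxz : x ≠ z) (hyz : y ≠ z) : Fin 3 ↪ α :=
  ⟨![x, y, z], by
    intro i j h
    fin_cases i <;> fin_cases j <;> simp_all⟩

@[simp] theorem emb3_zero (x y z : α) (hxy : x ≠ y) (hxz : x ≠ z) (hyz : y ≠ z) :
    emb3 x y z hxy hxz hyz 0 = x := rfl
@[simp] theorem emb3_one (x y z : α) (hxy : x ≠ y) (hxz : x ≠ z) (hyz : y ≠ z) :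
    emb3 x y z hxy hxz hyz 1 = y := rfl
@[simp] theorem emb3_two (x y z : α) (hxy : x ≠ y) (hxz : x ≠ z) (hyz : y ≠ z) :
    emb3 x y z hxy hxz hyz 2 = z := rfl

theorem eq_one_of_fix3 (hsharp : ∀ x : Fin 3 ↪ α, stabilizer G x = ⊥) (g : G) (x y z : α)
    (hxy : x ≠ y) (hxz : x ≠ z) (hyz : y ≠ z) (hx : g • x = x) (hy : g • y = y)
    (hz : g • z = z) : g = 1 := by
  have : g ∈ stabilizer G (emb3 x y z hxy hxz hyz) := by
    rw [mem_stabilizer_iff]
    ext i
    fin_cases i
    · exact hx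
    · exact hy
    · exact hz
  rw [hsharp] at this
  exact Subgroup.mem_bot.mp this

theorem exists_rot [IsMultiplyPretransitive G α 3] (x y z : α)
    (hxy : x ≠ y) (hxz : x ≠ z) (hyz : y ≠ z) : ∃ g : G, g • x = y ∧ g • y = z ∧ g • z = x := by
  obtain ⟨g, hg⟩ := exists_smul_eq G (emb3 x y z hxy hxz hyz)
    (emb3 y z x hyz (Ne.symm hxy) (Ne.symm hxz))
  refine ⟨g, ?_, ?_, ?_⟩
  · exact congrArg (fun e : Fin 3 ↪ α => e 0) hg
  · exact congrArg (fun e : Fin 3 ↪ α => e 1) hg
  · exact congrArg (fun e : Fin 3 ↪ α => e 2) hg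

theorem exists_two [IsMultiplyPretransitive G α 3] [Finite α] (h3 : 3 ≤ Nat.card α) (a b x y : α)
    (hab : a ≠ b) (hxy : x ≠ y) : ∃ k : G, k • a = x ∧ k • b = y := by
  haveI : IsMultiplyPretransitive G α 2 :=
    isMultiplyPretransitive_of_le (n := 3) (by omega) h3
  exact is_two_pretransitive_iff.mp inferInstance hab hxy

theorem rot_unique (hsharp : ∀ x : Fin 3 ↪ α, stabilizer G x = ⊥) (g g' : G) (x y z : α)
    (hxy : x ≠ y) (hxz : x ≠ z) (hyz : y ≠ z)
    (h1 : g • x = y) (h2 : g • y = z) (h3 : g • z = x)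
    (h1' : g' • x = y) (h2' : g' • y = z) (h3' : g' • z = x) : g = g' := by
  have : g⁻¹ * g' = 1 := by
    apply eq_one_of_fix3 hsharp _ x y z hxy hxz hyz
    · rw [mul_smul, h1', ← h1, inv_smul_smul]
    · rw [mul_smul, h2', ← h2, inv_smul_smul]
    · rw [mul_smul, h3', ← h3, inv_smul_smul]
  rw [inv_mul_eq_one] at this
  exact this

theorem distinct_of_moved (g : G) (hg3 : g ^ 3 = 1) (c : α) (hc : g • c ≠ c) :
    c ≠ g • c ∧ c ≠ g • g • c ∧ g • c ≠ g • g • c := by
  have h3c : g • g • g • c = c := by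
    rw [← mul_smul, ← mul_smul, ← pow_two, ← pow_succ, hg3, one_smul]
  refine ⟨Ne.symm hc, ?_, ?_⟩
  · intro h
    apply hc
    have := congrArg (fun d => g • d) h
    simp only [h3c] at this
    exact this
  · intro h
    apply hc
    exact (smul_left_cancel g h).symm

section count

variable [Fintype α] [DecidableEq α] [Fintype G] [DecidableEq G]

/-- elements of order 3 -/
def E3 (G : Type*) [Group G] [Fintype G] [DecidableEq G] : Finset G :=
  Finset.univ.filter (fun g => g ≠ 1 ∧ g ^ 3 = 1)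

def moved (g : G) : Finset α := Finset.univ.filter (fun c => g • c ≠ c)
def fixd (g : G) : Finset α := Finset.univ.filter (fun c => g • c = c)

theorem card_fixd_le (hsharp : ∀ x : Fin 3 ↪ α, stabilizer G x = ⊥) (g : G) (hg : g ≠ 1) :
    (fixd (α := α) g).card ≤ 2 := by
  by_contra hcon
  push Not at hcon
  obtain ⟨x, hx, y, hy, z, hz, hxy, hxz, hyz⟩ := Finset.two_lt_card.mp hcon
  simp only [fixd, Finset.mem_filter, Finset.mem_univ, true_and] at hx hy hz
  exact hg (eq_one_of_fix3 hsharp g x y z hxy hxz hyz hx hy hz)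

theorem card_moved_ge (hsharp : ∀ x : Fin 3 ↪ α, stabilizer G x = ⊥) (g : G) (hg : g ≠ 1) :
    Fintype.card α - 2 ≤ (moved (α := α) g).card := by
  have h1 := card_fixd_le hsharp g hg
  have h2 : (fixd (α := α) g).card + (moved (α := α) g).card = Fintype.card α := by
    unfold fixd moved
    rw [Finset.card_filter_add_card_filter_not, Finset.card_univ]
  omega

theorem card_sigma_eq [IsMultiplyPretransitive G α 3]
    (hsharp : ∀ x : Fin 3 ↪ α, stabilizer G x = ⊥) :
    ((E3 G).sigma (fun g => moved (α := α) g)).card = Fintype.card (Fin 3 ↪ α) := by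
  rw [← Finset.card_univ]
  have hmem : ∀ p : (Σ _ : G, α), p ∈ (E3 G).sigma (fun g => moved (α := α) g) →
      p.1 ^ 3 = 1 ∧ p.1 • p.2 ≠ p.2 := by
    intro p hp
    rw [Finset.mem_sigma] at hp
    simp only [E3, moved, Finset.mem_filter, Finset.mem_univ, true_and] at hp
    exact ⟨hp.1.2, hp.2⟩
  refine Finset.card_bij
    (fun p hp => emb3 p.2 (p.1 • p.2) (p.1 • p.1 • p.2)
      (distinct_of_moved p.1 (hmem p hp).1 p.2 (hmem p hp).2).1
      (distinct_of_moved p.1 (hmem p hp).1 p.2 (hmem p hp).2).2.1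
      (distinct_of_moved p.1 (hmem p hp).1 p.2 (hmem p hp).2).2.2)
    (fun _ _ => Finset.mem_univ _) ?_ ?_
  · rintro ⟨g, c⟩ hp ⟨g', c'⟩ hp' heq
    have e0 : c = c' := congrArg (fun e : Fin 3 ↪ α => e 0) heq
    have e1 : g • c = g' • c' := congrArg (fun e : Fin 3 ↪ α => e 1) heq
    have e2 : g • g • c = g' • g' • c' := congrArg (fun e : Fin 3 ↪ α => e 2) heq
    subst e0
    obtain ⟨hg3, hgc⟩ := hmem _ hp
    obtain ⟨hg3', hgc'⟩ := hmem _ hp'
    simp only at hg3 hgc hg3' hgc'
    obtain ⟨d1, d2, d3⟩ := distinct_of_moved g hg3 c hgc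
    have h3c : g • g • g • c = c := by
      rw [← mul_smul, ← mul_smul, ← pow_two, ← pow_succ, hg3, one_smul]
    have h3c' : g' • g' • g' • c = c := by
      rw [← mul_smul, ← mul_smul, ← pow_two, ← pow_succ, hg3', one_smul]
    have : g = g' := by
      apply rot_unique hsharp g g' c (g • c) (g • g • c) d1 d2 d3 rfl rfl h3c
      · exact e1.symm
      · rw [show g' • g • c = g' • g' • c from by rw [e1]]
        exact e2.symm
      · rw [e2, h3c']
    subst this
    rfl
  · intro t _
    have h01 : t 0 ≠ t 1 := fun h => by simpa using t.injective h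
    have h02 : t 0 ≠ t 2 := fun h => by simpa using t.injective h
    have h12 : t 1 ≠ t 2 := fun h => by simpa using t.injective h
    obtain ⟨g, hg1, hg2, hg3⟩ := exists_rot (G := G) (t 0) (t 1) (t 2) h01 h02 h12
    have hgne : g ≠ 1 := by
      intro h
      rw [h, one_smul] at hg1
      exact h01 hg1
    have hgcube : g ^ 3 = 1 := by
      apply eq_one_of_fix3 hsharp _ (t 0) (t 1) (t 2) h01 h02 h12
      · rw [pow_succ, pow_two, mul_smul, mul_smul, hg1, hg2, hg3]
      · rw [pow_succ, pow_two, mul_smul, mul_smul, hg2, hg3, hg1]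
      · rw [pow_succ, pow_two, mul_smul, mul_smul, hg3, hg1, hg2]
    refine ⟨⟨g, t 0⟩, ?_, ?_⟩
    · rw [Finset.mem_sigma]
      simp only [E3, moved, Finset.mem_filter, Finset.mem_univ, true_and]
      refine ⟨⟨hgne, hgcube⟩, ?_⟩
      rw [hg1]
      exact Ne.symm h01
    · ext i
      fin_cases i
      · rfl
      · exact hg1
      · show g • g • t 0 = t 2
        rw [hg1, hg2]

theorem card_E3_le [IsMultiplyPretransitive G α 3]
    (hsharp : ∀ x : Fin 3 ↪ α, stabilizer G x = ⊥) (h3 : 3 ≤ Fintype.card α) :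
    (E3 G).card ≤ Fintype.card α * (Fintype.card α - 1) := by
  have h1 := card_sigma_eq (G := G) (α := α) hsharp
  rw [Finset.card_sigma, Fintype.card_embedding_eq, Fintype.card_fin] at h1
  have h2 : ∑ g ∈ E3 G, (Fintype.card α - 2) ≤ ∑ g ∈ E3 G, (moved (α := α) g).card := by
    apply Finset.sum_le_sum
    intro g hg
    simp only [E3, Finset.mem_filter, Finset.mem_univ, true_and] at hg
    exact card_moved_ge hsharp g hg.1
  rw [Finset.sum_const, smul_eq_mul, h1] at h2
  have h4 : (Fintype.card α).descFactorial 3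
      = (Fintype.card α * (Fintype.card α - 1)) * (Fintype.card α - 2) := by
    simp only [Nat.descFactorial_succ, Nat.descFactorial_zero, Nat.sub_zero]
    ring
  rw [h4] at h2
  exact Nat.le_of_mul_le_mul_right h2 (by omega)

/-- order-3 elements fixing two given points -/
def Exy (x y : α) : Finset G := (E3 G).filter (fun g => g • x = x ∧ g • y = y)

theorem card_Exy_eq [IsMultiplyPretransitive G α 3] (h3 : 3 ≤ Fintype.card α) (a b x y : α)
    (hab : a ≠ b) (hxy : x ≠ y) : (Exy (G := G) x y).card = (Exy (G := G) a b).card := by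
  obtain ⟨k, hka, hkb⟩ := exists_two (G := G) (by rw [Nat.card_eq_fintype_card]; exact h3)
    a b x y hab hxy
  refine Finset.card_nbij' (fun g => k⁻¹ * g * k) (fun g => k * g * k⁻¹) ?_ ?_ ?_ ?_
  · intro g hg
    simp only [Exy, E3, Finset.coe_filter, Finset.mem_filter, Finset.mem_univ, true_and,
      Set.mem_ofPred_eq] at hg ⊢
    obtain ⟨⟨hg1, hg3⟩, hgx, hgy⟩ := hg
    refine ⟨⟨?_, ?_⟩, ?_, ?_⟩
    · intro h
      apply hg1
      have : g = k * (k⁻¹ * g * k) * k⁻¹ := by group
      rw [this, h]; group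
    · rw [show k⁻¹ * g * k = k⁻¹ * g * k⁻¹⁻¹ by rw [inv_inv], conj_pow, hg3]
      group
    · rw [mul_smul, mul_smul, hka, hgx, ← hka, inv_smul_smul]
    · rw [mul_smul, mul_smul, hkb, hgy, ← hkb, inv_smul_smul]
  · intro g hg
    simp only [Exy, E3, Finset.coe_filter, Finset.mem_filter, Finset.mem_univ, true_and,
      Set.mem_ofPred_eq] at hg ⊢
    obtain ⟨⟨hg1, hg3⟩, hga, hgb⟩ := hg
    refine ⟨⟨?_, ?_⟩, ?_, ?_⟩
    · intro h
      apply hg1
      have : g = k⁻¹ * (k * g * k⁻¹) * k := by group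
      rw [this, h]; group
    · rw [conj_pow, hg3]
      group
    · rw [mul_smul, mul_smul, ← hka, inv_smul_smul, hga]
    · rw [mul_smul, mul_smul, ← hkb, inv_smul_smul, hgb]
  · intro g _
    show k * (k⁻¹ * g * k) * k⁻¹ = g
    group
  · intro g _
    show k⁻¹ * (k * g * k⁻¹) * k = g
    group

theorem card_Eab_le [IsMultiplyPretransitive G α 3]
    (hsharp : ∀ x : Fin 3 ↪ α, stabilizer G x = ⊥) (h3 : 3 ≤ Fintype.card α) (a b : α)
    (hab : a ≠ b) : (Exy (G := G) a b).card ≤ 2 := by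
  have hdc := Finset.sum_card_bipartiteAbove_eq_sum_card_bipartiteBelow
    (s := E3 G) (t := (Finset.univ : Finset α).offDiag)
    (fun g p => g • p.1 = p.1 ∧ g • p.2 = p.2)
  have hL : ∑ g ∈ E3 G, ((Finset.univ : Finset α).offDiag.bipartiteAbove
      (fun g p => g • p.1 = p.1 ∧ g • p.2 = p.2) g).card ≤ ∑ g ∈ E3 G, 2 := by
    apply Finset.sum_le_sum
    intro g hg
    simp only [E3, Finset.mem_filter, Finset.mem_univ, true_and] at hg
    have hsub : (Finset.univ : Finset α).offDiag.bipartiteAbove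
        (fun g p => g • p.1 = p.1 ∧ g • p.2 = p.2) g = (fixd (α := α) g).offDiag := by
      ext p
      simp only [Finset.bipartiteAbove, Finset.mem_filter, Finset.mem_offDiag, Finset.mem_univ,
        true_and, fixd]
      tauto
    rw [hsub, Finset.offDiag_card]
    have := card_fixd_le hsharp g hg.1
    interval_cases h : (fixd (α := α) g).card <;> simp
  have hR : ∑ p ∈ (Finset.univ : Finset α).offDiag, ((E3 G).bipartiteBelow
      (fun g p => g • p.1 = p.1 ∧ g • p.2 = p.2) p).card
      = ∑ p ∈ (Finset.univ : Finset α).offDiag, (Exy (G := G) a b).card := by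
    apply Finset.sum_congr rfl
    intro p hp
    rw [Finset.mem_offDiag] at hp
    have : (E3 G).bipartiteBelow (fun g p => g • p.1 = p.1 ∧ g • p.2 = p.2) p
        = Exy (G := G) p.1 p.2 := rfl
    rw [this]
    exact card_Exy_eq h3 a b p.1 p.2 hab hp.2.2
  rw [hdc, hR] at hL
  rw [Finset.sum_const, Finset.sum_const, smul_eq_mul, smul_eq_mul, Finset.offDiag_card,
    Finset.card_univ] at hL
  have hE := card_E3_le (G := G) (α := α) hsharp h3
  have hn : Fintype.card α * Fintype.card α - Fintype.card α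
      = Fintype.card α * (Fintype.card α - 1) := by
    rw [Nat.mul_sub, mul_one]
  rw [hn] at hL
  have hpos : 0 < Fintype.card α * (Fintype.card α - 1) := by
    apply Nat.mul_pos <;> omega
  by_contra hcon
  push Not at hcon
  have : Fintype.card α * (Fintype.card α - 1) * 3
      ≤ Fintype.card α * (Fintype.card α - 1) * (Exy (G := G) a b).card :=
    Nat.mul_le_mul_left _ hcon
  nlinarith

end count

end Cfsg.Agent.Lib.Helper5_Sharp3
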