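import Mathlib

namespace Cfsg.Agent.Lib.Helper5_Stab

open scoped commutatorElement
open Subgroup

variable {G : Type*} [Group G]

theorem conj_mem_commutator_left (A B : Subgroup G) (j : G) (hj : j ∈ A) (x : G)
    (hx : x ∈ ⁅A, B⁆) : j * x * j⁻¹ ∈ ⁅A, B⁆ := by
  rw [Subgroup.commutator_def] at hx ⊢
  induction hx using Subgroup.closure_induction with
  | mem y hy =>
    obtain ⟨b, hb, c, hc, rfl⟩ := hy
    have e : j * ⁅b, c⁆ * j⁻¹ = ⁅j * b, c⁆ * ⁅j, c⁆⁻¹ := by
      simp only [commutatorElement_def]; group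
    rw [e]
    exact mul_mem (subset_closure ⟨j * b, A.mul_mem hj hb, c, hc, rfl⟩)
      (inv_mem (subset_closure ⟨j, hj, c, hc, rfl⟩))
  | one => simp
  | mul y z _ _ hy hz =>
    have e : j * (y * z) * j⁻¹ = (j * y * j⁻¹) * (j * z * j⁻¹) := by group
    rw [e]; exact mul_mem hy hz
  | inv y _ hy =>
    have e : j * y⁻¹ * j⁻¹ = (j * y * j⁻¹)⁻¹ := by group
    rw [e]; exact inv_mem hy

theorem conj_mem_commutator_right (A B : Subgroup G) (j : G) (hj : j ∈ B) (x : G)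
    (hx : x ∈ ⁅A, B⁆) : j * x * j⁻¹ ∈ ⁅A, B⁆ := by
  rw [Subgroup.commutator_def] at hx ⊢
  induction hx using Subgroup.closure_induction with
  | mem y hy =>
    obtain ⟨b, hb, c, hc, rfl⟩ := hy
    have e : j * ⁅b, c⁆ * j⁻¹ = ⁅b, j⁆⁻¹ * ⁅b, j * c⁆ := by
      simp only [commutatorElement_def]; group
    rw [e]
    exact mul_mem (inv_mem (subset_closure ⟨b, hb, j, hj, rfl⟩))
      (subset_closure ⟨b, hb, j * c, B.mul_mem hj hc, rfl⟩)
  | one => simp
  | mul y z _ _ hy hz =>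
    have e : j * (y * z) * j⁻¹ = (j * y * j⁻¹) * (j * z * j⁻¹) := by group
    rw [e]; exact mul_mem hy hz
  | inv y _ hy =>
    have e : j * y⁻¹ * j⁻¹ = (j * y * j⁻¹)⁻¹ := by group
    rw [e]; exact inv_mem hy

theorem mem_normalizer_of_conj_mem (K : Subgroup G) (j : G)
    (h1 : ∀ x ∈ K, j * x * j⁻¹ ∈ K) (h2 : ∀ x ∈ K, j⁻¹ * x * j ∈ K) :
    j ∈ normalizer (K : Set G) := by
  rw [mem_normalizer_iff]
  intro x
  constructor
  · exact h1 x
  · intro hx
    have := h2 _ hx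
    have e : j⁻¹ * (j * x * j⁻¹) * j = x := by group
    rwa [e] at this

theorem sup_le_normalizer_commutator (A B : Subgroup G) :
    A ⊔ B ≤ normalizer ((⁅A, B⁆ : Subgroup G) : Set G) := by
  rw [sup_le_iff]
  constructor
  · intro j hj
    apply mem_normalizer_of_conj_mem
    · exact fun x hx => conj_mem_commutator_left A B j hj x hx
    · intro x hx
      have := conj_mem_commutator_left A B j⁻¹ (A.inv_mem hj) x hx
      rwa [inv_inv] at this
  · intro j hj
    apply mem_normalizer_of_conj_mem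
    · exact fun x hx => conj_mem_commutator_right A B j hj x hx
    · intro x hx
      have := conj_mem_commutator_right A B j⁻¹ (B.inv_mem hj) x hx
      rwa [inv_inv] at this

theorem commutator_le_sup' (A B : Subgroup G) : ⁅A, B⁆ ≤ A ⊔ B := by
  rw [commutator_le]
  intro a ha b hb
  rw [commutatorElement_def]
  exact mul_mem (mul_mem (mul_mem (mem_sup_left ha) (mem_sup_right hb))
    (inv_mem (mem_sup_left ha))) (inv_mem (mem_sup_right hb))

/-- The stability group of the chain `V ≥ W ≥ 1`. -/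
def stabChain (V W : Subgroup G) : Subgroup G where
  carrier := {g | g ∈ normalizer (V : Set G) ∧ (∀ w ∈ W, g * w = w * g) ∧ ∀ v ∈ V, ⁅g, v⁆ ∈ W}
  one_mem' := by
    refine ⟨one_mem _, fun w _ => by rw [one_mul, mul_one], fun v _ => ?_⟩
    rw [commutatorElement_def]
    simp
  mul_mem' := by
    rintro g h ⟨hgN, hgW, hgV⟩ ⟨hhN, hhW, hhV⟩
    refine ⟨mul_mem hgN hhN, ?_, ?_⟩
    · intro w hw
      rw [mul_assoc, hhW w hw, ← mul_assoc, hgW w hw, mul_assoc]
    · intro v hv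
      have e : ⁅g * h, v⁆ = (g * ⁅h, v⁆ * g⁻¹) * ⁅g, v⁆ := by
        simp only [commutatorElement_def]; group
      rw [e]
      have h1 : g * ⁅h, v⁆ * g⁻¹ = ⁅h, v⁆ := by
        rw [hgW _ (hhV v hv)]; group
      rw [h1]
      exact mul_mem (hhV v hv) (hgV v hv)
  inv_mem' := by
    rintro g ⟨hgN, hgW, hgV⟩
    refine ⟨inv_mem hgN, ?_, ?_⟩
    · intro w hw
      have := hgW w hw
      calc g⁻¹ * w = g⁻¹ * (w * g) * g⁻¹ := by group
        _ = g⁻¹ * (g * w) * g⁻¹ := by rw [this]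
        _ = w * g⁻¹ := by group
    · intro v hv
      have hv' : g⁻¹ * v * g ∈ V := by
        have := (mem_normalizer_iff.mp (inv_mem hgN) v).mp hv
        rwa [inv_inv] at this
      have hc := hgV _ hv'
      have e : ⁅g⁻¹, v⁆ = (⁅g, g⁻¹ * v * g⁆)⁻¹ := by
        simp only [commutatorElement_def]; group
      rw [e]
      exact inv_mem hc

theorem mem_stabChain (V W : Subgroup G) (g : G) : g ∈ stabChain V W ↔
    g ∈ normalizer (V : Set G) ∧ (∀ w ∈ W, g * w = w * g) ∧ ∀ v ∈ V, ⁅g, v⁆ ∈ W := Iff.rfl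

theorem stab_pow_conj (V W : Subgroup G) (g : G) (hg : g ∈ stabChain V W) (v : G) (hv : v ∈ V)
    (k : ℕ) : g ^ k * v * (g ^ k)⁻¹ = ⁅g, v⁆ ^ k * v := by
  obtain ⟨_, hgW, hgV⟩ := hg
  induction k with
  | zero => simp
  | succ k ih =>
    have hc : g * ⁅g, v⁆ ^ k = ⁅g, v⁆ ^ k * g := hgW _ (pow_mem (hgV v hv) k)
    calc g ^ (k + 1) * v * (g ^ (k + 1))⁻¹ = g * (g ^ k * v * (g ^ k)⁻¹) * g⁻¹ := by
          rw [pow_succ']; group
      _ = g * (⁅g, v⁆ ^ k * v) * g⁻¹ := by rw [ih]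
      _ = (g * ⁅g, v⁆ ^ k) * v * g⁻¹ := by group
      _ = ⁅g, v⁆ ^ k * (g * v * g⁻¹ * v⁻¹) * v := by rw [hc]; group
      _ = ⁅g, v⁆ ^ (k + 1) * v := by rw [← commutatorElement_def, ← pow_succ]

/-- An element of the stability group of `V ≥ W ≥ 1`, `W ≤ V` of exponent `p`, has its `p`-th
power centralizing `V`. -/
theorem stab_pow_mem_centralizer (V W : Subgroup G) (p : ℕ) (hWp : ∀ w ∈ W, w ^ p = 1)
    (g : G) (hg : g ∈ stabChain V W) : g ^ p ∈ centralizer (V : Set G) := by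
  rw [mem_centralizer_iff]
  intro v hv
  have h1 := stab_pow_conj V W g hg v hv p
  rw [hWp _ (hg.2.2 v hv), one_mul] at h1
  calc v * g ^ p = (g ^ p * v * (g ^ p)⁻¹) * g ^ p := by rw [h1]
    _ = g ^ p * v := by group

end Cfsg.Agent.Lib.Helper5_Stab
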