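import Mathlib
import Cfsg.Prelude.Def_Involutions
import Cfsg.Prelude.Def_JComponents

set_option autoImplicit false

namespace Cfsg.Agent.Lib.Helper5_StrEmb

variable {G : Type*} [Group G] [Finite G]

/-- "Normalizers grow": if `M` contains the normalizer of each of its nontrivial 2-subgroups,
every 2-subgroup meeting `M` nontrivially lies in `M`. -/
theorem two_subgroup_le (M : Subgroup G)
    (hA : ∀ T' : Subgroup G, IsPGroup 2 T' → T' ≠ ⊥ → T' ≤ M →
      Subgroup.normalizer (T' : Set G) ≤ M)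
    (P : Subgroup G) (hP : IsPGroup 2 P) (hPM : P ⊓ M ≠ ⊥) : P ≤ M := by
  haveI : Fact (Nat.Prime 2) := ⟨Nat.prime_two⟩
  by_contra hnot
  have hlt : (P ⊓ M).subgroupOf P < ⊤ := by
    rw [lt_top_iff_ne_top]
    intro h
    rw [Subgroup.subgroupOf_eq_top] at h
    exact hnot (h.trans inf_le_right)
  haveI : Group.IsNilpotent P := hP.isNilpotent
  have hnc : NormalizerCondition P := normalizerCondition_of_isNilpotent
  obtain ⟨x, hxN, hxD⟩ := SetLike.exists_of_lt (hnc _ hlt)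
  have hxG : (x : G) ∈ Subgroup.normalizer ((P ⊓ M : Subgroup G) : Set G) := by
    rw [Subgroup.mem_set_normalizer_iff]
    intro h
    have hxN' := Subgroup.mem_set_normalizer_iff.1 hxN
    constructor
    · intro hh
      have hhP : h ∈ P := (Subgroup.mem_inf.1 hh).1
      have := (hxN' ⟨h, hhP⟩).1 (Subgroup.mem_subgroupOf.2 hh)
      exact Subgroup.mem_subgroupOf.1 this
    · intro hh
      have hcP : (x : G) * h * (x : G)⁻¹ ∈ P := (Subgroup.mem_inf.1 hh).1
      have hhP : h ∈ P := by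
        have : h = (x : G)⁻¹ * ((x : G) * h * (x : G)⁻¹) * (x : G) := by group
        rw [this]
        exact P.mul_mem (P.mul_mem (P.inv_mem x.2) hcP) x.2
      have := (hxN' ⟨h, hhP⟩).2 (Subgroup.mem_subgroupOf.2 hh)
      exact Subgroup.mem_subgroupOf.1 this
  have hxM : (x : G) ∈ M := hA (P ⊓ M) (hP.to_le inf_le_left) hPM inf_le_right hxG
  exact hxD (Subgroup.mem_subgroupOf.2 (Subgroup.mem_inf.2 ⟨x.2, hxM⟩))

theorem even_card_of_two_group (T : Subgroup G) (hT : IsPGroup 2 T) (hT1 : T ≠ ⊥) :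
    Even (Nat.card T) := by
  haveI : Fact (Nat.Prime 2) := ⟨Nat.prime_two⟩
  obtain ⟨k, hk⟩ := IsPGroup.iff_card.1 hT
  rw [hk]
  rcases Nat.eq_zero_or_pos k with h0 | h0
  · exfalso
    rw [h0, pow_zero] at hk
    exact hT1 (Subgroup.card_eq_one.1 hk)
  · exact (Nat.even_pow.2 ⟨even_two, by omega⟩)

theorem se_imp (M : Subgroup G) (hse : Cfsg.IsStronglyEmbedded M) :
    Cfsg.straddlingTwoSubgroups M = ∅ := by
  obtain ⟨-, -, hodd⟩ := hse
  have hA : ∀ T' : Subgroup G, IsPGroup 2 T' → T' ≠ ⊥ → T' ≤ M →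
      Subgroup.normalizer (T' : Set G) ≤ M := by
    intro T' hT' hT'1 hT'M g hg
    by_contra hgM
    have ho := hodd g hgM
    have hle : T' ≤ M ⊓ M.map (MulAut.conj g).toMonoidHom := by
      intro t ht
      refine Subgroup.mem_inf.2 ⟨hT'M ht, ?_⟩
      rw [Subgroup.mem_map]
      have hg' := (Subgroup.mem_set_normalizer_iff''.1 hg t).1 ht
      refine ⟨g⁻¹ * t * g, hT'M hg', ?_⟩
      simp only [MulEquiv.coe_toMonoidHom, MulAut.conj_apply]
      group
    have hdvd := Subgroup.card_dvd_of_le hle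
    have hev := even_card_of_two_group T' hT' hT'1
    have : Even (Nat.card ↥(M ⊓ M.map (MulAut.conj g).toMonoidHom)) :=
      hev.trans_dvd hdvd
    exact (Nat.not_even_iff_odd.2 ho) this
  rw [Set.eq_empty_iff_forall_notMem]
  rintro T ⟨hT2, hT1, hTM, L, ⟨U, hU2, hU1, rfl⟩, hTL, hLM⟩
  apply hLM
  have hP : IsPGroup 2 (T ⊔ U : Subgroup G) := hT2.to_sup_of_normal_right' hU2 hTL
  have hPM : (T ⊔ U) ⊓ M ≠ ⊥ := by
    intro h
    apply hT1
    rw [eq_bot_iff, ← h]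
    exact le_inf le_sup_left hTM
  have hle := two_subgroup_le M hA (T ⊔ U) hP hPM
  exact hA U hU2 hU1 (le_sup_right.trans hle)

theorem imp_se (M : Subgroup G) (hMtop : M ≠ ⊤) (T₀ : Subgroup G) (hT₀ : IsPGroup 2 T₀)
    (hT₀1 : T₀ ≠ ⊥) (hT₀M : T₀ ≤ M) (hemp : Cfsg.straddlingTwoSubgroups M = ∅) :
    Cfsg.IsStronglyEmbedded M := by
  haveI : Fact (Nat.Prime 2) := ⟨Nat.prime_two⟩
  have hA : ∀ T' : Subgroup G, IsPGroup 2 T' → T' ≠ ⊥ → T' ≤ M →
      Subgroup.normalizer (T' : Set G) ≤ M := by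
    intro T' h2 h1 hM
    by_contra hnot
    have : T' ∈ Cfsg.straddlingTwoSubgroups M :=
      ⟨h2, h1, hM, Subgroup.normalizer (T' : Set G), ⟨T', h2, h1, rfl⟩, Subgroup.le_normalizer, hnot⟩
    rw [hemp] at this
    exact this
  refine ⟨hMtop, (even_card_of_two_group T₀ hT₀ hT₀1).trans_dvd (Subgroup.card_dvd_of_le hT₀M), ?_⟩
  intro g hgM
  by_contra hno
  rw [Nat.not_odd_iff_even] at hno
  obtain ⟨t, ht⟩ := exists_prime_orderOf_dvd_card' 2 (even_iff_two_dvd.1 hno)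
  rw [← Subgroup.orderOf_coe] at ht
  have htM : (t : G) ∈ M := (Subgroup.mem_inf.1 t.2).1
  obtain ⟨m, hmM, hmt⟩ := Subgroup.mem_map.1 (Subgroup.mem_inf.1 t.2).2
  simp only [MulEquiv.coe_toMonoidHom, MulAut.conj_apply] at hmt
  have ht1 : (t : G) ≠ 1 := by
    intro h; rw [h, orderOf_one] at ht; omega
  have hm1 : m ≠ 1 := by
    intro h; rw [h] at hmt; apply ht1; rw [← hmt]; group
  have hZ2 : IsPGroup 2 (Subgroup.zpowers (t : G)) := by
    apply IsPGroup.of_card (n := 1)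
    rw [Nat.card_zpowers, ht, pow_one]
  obtain ⟨P, hP⟩ := hZ2.exists_le_sylow
  have htP : (t : G) ∈ (P : Subgroup G) := hP (Subgroup.mem_zpowers _)
  have hPM : (P : Subgroup G) ≤ M := by
    apply two_subgroup_le M hA P P.isPGroup'
    intro h
    have : (t : G) ∈ (P : Subgroup G) ⊓ M := Subgroup.mem_inf.2 ⟨htP, htM⟩
    rw [h, Subgroup.mem_bot] at this
    exact ht1 this
  have hmP' : m ∈ ((g⁻¹ • P : Sylow 2 G) : Subgroup G) := by
    rw [Sylow.smul_def, Sylow.pointwise_smul_def, Subgroup.mem_smul_pointwise_iff_exists]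
    refine ⟨(t : G), htP, ?_⟩
    rw [MulAut.smul_def, MulAut.conj_apply, ← hmt]
    group
  have hP'M : ((g⁻¹ • P : Sylow 2 G) : Subgroup G) ≤ M := by
    apply two_subgroup_le M hA _ (g⁻¹ • P : Sylow 2 G).isPGroup'
    intro h
    have : m ∈ ((g⁻¹ • P : Sylow 2 G) : Subgroup G) ⊓ M := Subgroup.mem_inf.2 ⟨hmP', hmM⟩
    rw [h, Subgroup.mem_bot] at this
    exact hm1 this
  obtain ⟨x, hx⟩ := MulAction.exists_smul_eq M ((g⁻¹ • P : Sylow 2 G).subtype hP'M) (P.subtype hPM)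
  rw [Sylow.smul_subtype] at hx
  have hx' := Sylow.subtype_injective hx
  rw [Subgroup.smul_def, smul_smul] at hx'
  have hxN : (x : G) * g⁻¹ ∈ Subgroup.normalizer ((P : Subgroup G) : Set G) :=
    Sylow.smul_eq_iff_mem_normalizer.1 hx'
  have hPne : (P : Subgroup G) ≠ ⊥ := by
    intro h
    rw [h, Subgroup.mem_bot] at htP
    exact ht1 htP
  have hxM := hA P P.isPGroup' hPne hPM hxN
  apply hgM
  have : g = ((x : G)⁻¹ * ((x : G) * g⁻¹))⁻¹ := by group
  rw [this]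
  exact M.inv_mem (M.mul_mem (M.inv_mem x.2) hxM)

end Cfsg.Agent.Lib.Helper5_StrEmb
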