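import Mathlib
import Cfsg.Agent.Lib.Helper5_DihLift

set_option autoImplicit false

namespace Cfsg.Agent.Lib.Helper5_Suborbit2

theorem main {G Ω : Type*} [Group G] [Finite G] [MulAction G Ω] [FaithfulSMul G Ω] [Finite Ω]
    (hprim : MulAction.IsPreprimitive G Ω) (a b : Ω)
    (h2 : Nat.card (MulAction.orbit (MulAction.stabilizer G a) b) = 2) :
    Nat.card (MulAction.stabilizer G a) = 2 ∧
      ∃ p : ℕ, p.Prime ∧ Nonempty (G ≃* DihedralGroup p) := by
  classical
  haveI := hprim
  haveI : MulAction.IsPretransitive G Ω := hprim.toIsPretransitive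
  set H := MulAction.stabilizer G a with hHdef
  set K := MulAction.stabilizer G b with hKdef
  -- a normal subgroup fixing `a` is trivial
  have triv_of_normal : ∀ N : Subgroup G, N.Normal → N ≤ H → N = ⊥ := by
    intro N hN hNH
    rw [eq_bot_iff]
    intro n hn
    rw [Subgroup.mem_bot]
    apply FaithfulSMul.eq_of_smul_eq_smul (α := Ω)
    intro x
    obtain ⟨g, rfl⟩ := MulAction.exists_smul_eq G a x
    rw [one_smul]
    have h1 : g⁻¹ * n * g ∈ N := by
      have := hN.conj_mem n hn g⁻¹
      simpa using this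
    have h3 : (g⁻¹ * n * g) • a = a := hNH h1
    calc n • g • a = g • (g⁻¹ * n * g) • a := by
          rw [smul_smul, smul_smul]; congr 1; group
      _ = g • a := by rw [h3]
  -- the stabilizer of b in H
  have hst : MulAction.stabilizer H b = K.subgroupOf H := by
    ext x
    rw [MulAction.mem_stabilizer_iff, Subgroup.mem_subgroupOf, hKdef, MulAction.mem_stabilizer_iff]
    rfl
  have hidx : (K.subgroupOf H).index = 2 := by
    rw [← hst, Subgroup.index_eq_card,
      ← Nat.card_congr (MulAction.orbitEquivQuotientStabilizer H b)]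
    exact h2
  have hab : a ≠ b := by
    intro hab'
    have : K.subgroupOf H = ⊤ := by
      rw [Subgroup.subgroupOf_eq_top, hKdef, ← hab']
    rw [this, Subgroup.index_top] at hidx
    omega
  haveI : Nontrivial Ω := ⟨⟨a, b, hab⟩⟩
  have hHK : H ≠ K := by
    intro hHK'
    have : K.subgroupOf H = ⊤ := by
      rw [Subgroup.subgroupOf_eq_top, hHK']
    rw [this, Subgroup.index_top] at hidx
    omega
  -- conjugacy
  obtain ⟨g, hg⟩ := MulAction.exists_smul_eq G a b
  have hKconj : K = H.map (MulAut.conj g).toMonoidHom := by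
    rw [hKdef, ← hg]
    exact MulAction.stabilizer_smul_eq_stabilizer_map_conj g a
  have hcardK : Nat.card K = Nat.card H := by
    rw [hKconj]
    exact Nat.card_congr (Subgroup.equivMapOfInjective _ _ (MulAut.conj g).injective).symm.toEquiv
  -- cardinalities
  have hc1 : Nat.card (K.subgroupOf H) = Nat.card (H ⊓ K : Subgroup G) := by
    rw [← Subgroup.inf_subgroupOf_left]
    exact Nat.card_congr (Subgroup.subgroupOfEquivOfLe inf_le_left).toEquiv
  have hc2 : Nat.card (H.subgroupOf K) = Nat.card (H ⊓ K : Subgroup G) := by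
    rw [← Subgroup.inf_subgroupOf_right]
    exact Nat.card_congr (Subgroup.subgroupOfEquivOfLe inf_le_right).toEquiv
  have hm1 := Subgroup.card_mul_index (K.subgroupOf H)
  have hm2 := Subgroup.card_mul_index (H.subgroupOf K)
  rw [hc1, hidx] at hm1
  rw [hc2, hcardK, ← hm1] at hm2
  have hdpos : 0 < Nat.card (H ⊓ K : Subgroup G) := Nat.card_pos
  have hidx2 : (H.subgroupOf K).index = 2 := Nat.eq_of_mul_eq_mul_left hdpos hm2
  -- normality
  have hn1 : H ≤ Subgroup.normalizer ((H ⊓ K : Subgroup G) : Set G) := by
    have := Subgroup.normal_of_index_eq_two hidx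
    have h3 := (Subgroup.normal_subgroupOf_iff_le_normalizer_inf (H := K) (K := H)).mp this
    rwa [inf_comm] at h3
  have hn2 : K ≤ Subgroup.normalizer ((H ⊓ K : Subgroup G) : Set G) := by
    have := Subgroup.normal_of_index_eq_two hidx2
    exact (Subgroup.normal_subgroupOf_iff_le_normalizer_inf (H := H) (K := K)).mp this
  have hcoH : IsCoatom H := MulAction.IsPreprimitive.isCoatom_stabilizer_of_isPreprimitive G a
  have hcoK : IsCoatom K := MulAction.IsPreprimitive.isCoatom_stabilizer_of_isPreprimitive G b
  have hsup : H ⊔ K = ⊤ := by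
    by_contra hne
    have h1 : H ⊔ K = H := by
      by_contra h1
      exact hne (hcoH.2 _ (lt_of_le_of_ne le_sup_left (Ne.symm h1)))
    have h2' : H ⊔ K = K := by
      by_contra h1'
      exact hne (hcoK.2 _ (lt_of_le_of_ne le_sup_right (Ne.symm h1')))
    exact hHK (h1.symm.trans h2')
  have hDn : (H ⊓ K : Subgroup G).Normal := by
    rw [← Subgroup.normalizer_eq_top_iff, eq_top_iff, ← hsup]
    exact sup_le hn1 hn2
  have hD : (H ⊓ K : Subgroup G) = ⊥ := triv_of_normal _ hDn inf_le_left
  have hcardH : Nat.card H = 2 := by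
    rw [← hm1, hD, Subgroup.card_bot]
  refine ⟨hcardH, ?_⟩
  have hcardK2 : Nat.card K = 2 := hcardK.trans hcardH
  -- the involutions
  haveI : Fact (Nat.Prime 2) := ⟨Nat.prime_two⟩
  obtain ⟨t', ht'⟩ := exists_prime_orderOf_dvd_card' (G := H) 2 (by rw [hcardH])
  obtain ⟨s', hs'⟩ := exists_prime_orderOf_dvd_card' (G := K) 2 (by rw [hcardK2])
  set t : G := (t' : G) with htdef
  set s : G := (s' : G) with hsdef
  have hto : orderOf t = 2 := by rw [htdef, Subgroup.orderOf_coe]; exact ht'
  have hso : orderOf s = 2 := by rw [hsdef, Subgroup.orderOf_coe]; exact hs'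
  have htH : t ∈ H := t'.2
  have hsK : s ∈ K := s'.2
  have ht2 : t * t = 1 := by rw [← sq, ← hto]; exact pow_orderOf_eq_one t
  have hs2 : s * s = 1 := by rw [← sq, ← hso]; exact pow_orderOf_eq_one s
  have ht1 : t ≠ 1 := by
    intro h; rw [h, orderOf_one] at hto; omega
  have hs1 : s ≠ 1 := by
    intro h; rw [h, orderOf_one] at hso; omega
  have hHz : H = Subgroup.zpowers t := by
    symm
    apply Subgroup.eq_of_le_of_card_ge ((Subgroup.zpowers_le).mpr htH)
    rw [Nat.card_zpowers, hto, hcardH]
  have hKz : K = Subgroup.zpowers s := by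
    symm
    apply Subgroup.eq_of_le_of_card_ge ((Subgroup.zpowers_le).mpr hsK)
    rw [Nat.card_zpowers, hso, hcardK2]
  have hgen : Subgroup.closure {t * s, t} = (⊤ : Subgroup G) := by
    rw [eq_top_iff, ← hsup, hHz, hKz]
    apply sup_le
    · rw [Subgroup.zpowers_le]
      exact Subgroup.subset_closure (by simp)
    · rw [Subgroup.zpowers_le]
      have h1 : t ∈ Subgroup.closure ({t * s, t} : Set G) := Subgroup.subset_closure (by simp)
      have h2 : t * s ∈ Subgroup.closure ({t * s, t} : Set G) := Subgroup.subset_closure (by simp)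
      have h3 := Subgroup.mul_mem _ (Subgroup.inv_mem _ h1) h2
      rwa [inv_mul_cancel_left] at h3
  have htinv : t⁻¹ = t := inv_eq_of_mul_eq_one_right ht2
  have hsinv : s⁻¹ = s := inv_eq_of_mul_eq_one_right hs2
  set r : G := t * s with hrdef
  have hba : t * r * t⁻¹ = r⁻¹ := by
    rw [hrdef, mul_inv_rev, htinv, hsinv, ← mul_assoc t t s, ht2, one_mul]
  have hsr : s * r * s⁻¹ = r⁻¹ := by
    rw [hrdef, mul_inv_rev, htinv, hsinv, mul_assoc s (t * s) s, mul_assoc t s s, hs2, mul_one]
  -- t is not a power of r
  have htr : t ∉ Subgroup.zpowers r := by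
    intro hmem
    -- then t commutes with r, hence with s, hence H is normal
    obtain ⟨k, hk⟩ := Subgroup.mem_zpowers_iff.mp hmem
    have hcomm : t * r = r * t := by
      rw [← hk]
      exact ((Commute.refl r).zpow_left k).eq
    have hts : t * s = s * t := by
      have h5 : t * (t * s) = t * s * t := hcomm
      rw [← mul_assoc, ht2, one_mul] at h5
      calc t * s = t * (t * s * t) := by rw [← h5]
        _ = (t * t) * s * t := by group
        _ = s * t := by rw [ht2, one_mul]
    have hHn : H.Normal := by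
      rw [← Subgroup.normalizer_eq_top_iff, eq_top_iff, ← hsup]
      apply sup_le Subgroup.le_normalizer
      rw [hKz, Subgroup.zpowers_le, Subgroup.mem_normalizer_iff]
      intro x
      rw [hHz]
      constructor
      · intro hx
        obtain ⟨j, rfl⟩ := Subgroup.mem_zpowers_iff.mp hx
        have hc : Commute s (t ^ j) := (Commute.zpow_right hts.symm j)
        rw [hc.eq, mul_assoc, hsinv, hs2, mul_one]
        exact Subgroup.zpow_mem_zpowers t j
      · intro hx
        obtain ⟨j, hj⟩ := Subgroup.mem_zpowers_iff.mp hx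
        have hc : Commute s (t ^ j) := (Commute.zpow_right hts.symm j)
        have : x = s⁻¹ * (t ^ j) * s := by rw [hj]; group
        rw [this, hsinv, hc.eq, mul_assoc, hs2, mul_one]
        exact Subgroup.zpow_mem_zpowers t j
    have := triv_of_normal H hHn le_rfl
    rw [this, Subgroup.card_bot] at hcardH
    omega
  -- the order of r
  set m : ℕ := orderOf r with hmdef
  have hm0 : m ≠ 0 := by
    rw [hmdef]
    exact (orderOf_pos r).ne'
  haveI : NeZero m := ⟨hm0⟩
  obtain ⟨e⟩ := Cfsg.Agent.Lib.Helper5_DihLift.dihedral_equiv_of_closure m r t rfl htr ht2 hba hgen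
  refine ⟨m, ?_, ⟨e⟩⟩
  -- card G = 2 m
  have hcardG : Nat.card G = 2 * m := by
    rw [Nat.card_congr e.toEquiv, DihedralGroup.nat_card]
  have hcardΩ : Nat.card Ω * 2 = 2 * m := by
    rw [← hcardG, ← hcardH]
    have h9 := Subgroup.card_mul_index H
    rw [hHdef, MulAction.index_stabilizer_of_transitive G a] at h9
    rw [← h9, hHdef, mul_comm]
  have hΩm : Nat.card Ω = m := by omega
  have hm1 : m ≠ 1 := by
    intro h1
    have : r = 1 := orderOf_eq_one_iff.mp (hmdef.symm.trans h1)
    have hst' : s = t := by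
      have h5 : t * s = t * t := by rw [ht2]; exact this
      exact mul_left_cancel h5
    apply hHK
    rw [hHz, hKz, hst']
  -- a normal subgroup of prime order
  set q := m.minFac with hqdef
  have hqp : q.Prime := Nat.minFac_prime hm1
  have hqm : q ∣ m := Nat.minFac_dvd m
  obtain ⟨l, hl⟩ := hqm
  set c : G := r ^ l with hcdef
  have hco : orderOf c = q := by
    rw [hcdef, orderOf_pow' r (by
      intro h0; rw [h0, mul_zero] at hl; exact hm0 hl)]
    rw [← hmdef, hl, Nat.gcd_eq_right (Dvd.intro_left q rfl)]
    exact Nat.mul_div_cancel _ (Nat.pos_of_ne_zero (by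
      intro h0; rw [h0, mul_zero] at hl; exact hm0 hl))
  have hNn : (Subgroup.zpowers c).Normal := by
    rw [← Subgroup.normalizer_eq_top_iff, eq_top_iff, ← hgen, Subgroup.closure_le]
    have hinvmem : ∀ y : G, y * r * y⁻¹ = r⁻¹ → y ∈ Subgroup.normalizer ((Subgroup.zpowers c : Subgroup G) : Set G) := by
      intro y hy
      have hyc : y * c * y⁻¹ = c⁻¹ := by
        rw [hcdef, ← conj_pow, hy, inv_pow]
      rw [Subgroup.mem_normalizer_iff]
      intro x
      constructor
      · intro hx
        obtain ⟨j, rfl⟩ := Subgroup.mem_zpowers_iff.mp hx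
        rw [← conj_zpow, hyc]
        exact Subgroup.zpow_mem _ (Subgroup.inv_mem _ (Subgroup.mem_zpowers c)) j
      · intro hx
        obtain ⟨j, hj⟩ := Subgroup.mem_zpowers_iff.mp hx
        have hx' : x = y⁻¹ * (c ^ j) * y := by rw [hj]; group
        have hyc' : y⁻¹ * c * y = c⁻¹ := by
          have h6 : c = y⁻¹ * c⁻¹ * y := by rw [← hyc]; group
          calc y⁻¹ * c * y = (y⁻¹ * c⁻¹ * y)⁻¹ := by group
            _ = c⁻¹ := by rw [← h6]
        rw [hx']
        have : y⁻¹ * c ^ j * y = (y⁻¹ * c * y) ^ j := by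
          have := conj_zpow (a := y⁻¹) (b := c) (i := j)
          simpa using this.symm
        rw [this, hyc']
        exact Subgroup.zpow_mem _ (Subgroup.inv_mem _ (Subgroup.mem_zpowers c)) j
    intro y hy
    rcases hy with rfl | rfl
    · -- r normalizes
      rw [SetLike.mem_coe, Subgroup.mem_normalizer_iff]
      have hcr : ∀ x ∈ Subgroup.zpowers c, Commute r x := by
        intro x hx
        obtain ⟨j, rfl⟩ := Subgroup.mem_zpowers_iff.mp hx
        exact ((Commute.refl r).pow_right l).zpow_right j
      intro x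
      constructor
      · intro hx
        have h7 := (hcr x hx).eq
        rw [h7, mul_assoc, mul_inv_cancel, mul_one]; exact hx
      · intro hx
        have h7 := (hcr _ hx).eq
        have h8 : r * (r * x * r⁻¹) = r * x := by rw [h7]; group
        have h9 : x = r * x * r⁻¹ := (mul_left_cancel h8).symm
        rw [h9]; exact hx
    · exact hinvmem t hba
  have hNfix : MulAction.fixedPoints (Subgroup.zpowers c) Ω ≠ Set.univ := by
    intro hfix
    have hle : Subgroup.zpowers c ≤ H := by
      intro x hx
      rw [hHdef, MulAction.mem_stabilizer_iff]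
      have hmem : a ∈ MulAction.fixedPoints (Subgroup.zpowers c) Ω := by rw [hfix]; trivial
      exact hmem ⟨x, hx⟩
    have hbot := triv_of_normal _ hNn hle
    have hc := Nat.card_zpowers c
    rw [hbot, Subgroup.card_bot, hco] at hc
    have := hqp.two_le
    omega
  haveI := hNn
  have htrans : MulAction.IsPretransitive (Subgroup.zpowers c) Ω :=
    MulAction.IsQuasiPreprimitive.isPretransitive_of_normal hNfix
  have hle : Nat.card Ω ≤ q := by
    have hsurj : Function.Surjective (fun n : Subgroup.zpowers c => n • a) :=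
      fun x => MulAction.exists_smul_eq _ a x
    have := Nat.card_le_card_of_surjective _ hsurj
    rwa [Nat.card_zpowers, hco] at this
  have hmq : m = q := by
    apply le_antisymm
    · rw [← hΩm]; exact hle
    · exact Nat.le_of_dvd (Nat.pos_of_ne_zero hm0) (Nat.minFac_dvd m)
  rw [hmq]
  exact hqp

end Cfsg.Agent.Lib.Helper5_Suborbit2
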