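import Mathlib

set_option autoImplicit false

namespace Cfsg.Agent.Lib.Helper5_SylCent

/-- If the centre of a Sylow `p`-subgroup `T` of `C = C_G(z)` (more precisely, `C_C(T)`)
is `{1, z}`, then `T` is a Sylow `p`-subgroup of `G`. -/
theorem sylow_of_centralizer {G : Type*} [Group G] [Finite G] (p : ℕ) [Fact p.Prime] (z : G)
    (hz1 : z ≠ 1) (hzp : z ^ p = 1) (C : Subgroup G) (hC : C = Subgroup.centralizer ({z} : Set G))
    (T : Sylow p C)
    (hcent : ∀ y : C, (∀ t ∈ T, y * t = t * y) → y = 1 ∨ (y : G) = z) :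
    ¬ p ∣ ((T : Subgroup C).map C.subtype).index := by
  classical
  have hmemC : ∀ g : G, g ∈ C ↔ g * z = z * g := by
    intro g; rw [hC]; exact Subgroup.mem_centralizer_singleton_iff
  set That : Subgroup G := (T : Subgroup C).map C.subtype with hThat
  have hThatC : That ≤ C := by
    rintro _ ⟨t, _, rfl⟩
    exact t.2
  have hmemThat : ∀ g : G, g ∈ That ↔ ∃ h : g ∈ C, (⟨g, h⟩ : C) ∈ T := by
    intro g
    constructor
    · rintro ⟨t, ht, rfl⟩
      exact ⟨t.2, ht⟩
    · rintro ⟨h, ht⟩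
      exact ⟨⟨g, h⟩, ht, rfl⟩
  have hTp : IsPGroup p That := T.isPGroup'.map C.subtype
  obtain ⟨S0, hS0⟩ := hTp.exists_le_sylow
  -- z ∈ T
  have hzC : z ∈ C := (hmemC z).mpr rfl
  have hzT : (⟨z, hzC⟩ : C) ∈ T := by
    have hnorm : (Subgroup.zpowers (⟨z, hzC⟩ : C)).Normal := by
      constructor
      intro n hn g
      have : g * n * g⁻¹ = n := by
        obtain ⟨k, rfl⟩ := Subgroup.mem_zpowers_iff.mp hn
        have hcomm : Commute g (⟨z, hzC⟩ : C) := by
          apply Subtype.ext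
          exact ((hmemC _).mp g.2)
        have := (hcomm.zpow_right k).eq
        rw [this, mul_inv_cancel_right]
      rw [this]; exact hn
    have hpz : IsPGroup p (Subgroup.zpowers (⟨z, hzC⟩ : C)) := by
      intro ⟨g, hg⟩
      obtain ⟨k, rfl⟩ := Subgroup.mem_zpowers_iff.mp hg
      refine ⟨1, ?_⟩
      apply Subtype.ext
      apply Subtype.ext
      simp only [pow_one, Subgroup.coe_pow, Subgroup.coe_zpow, Subgroup.coe_one]
      rw [← zpow_natCast, ← zpow_mul, mul_comm, zpow_mul, zpow_natCast, hzp, one_zpow]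
    exact (IsPGroup.le_sylow_of_normal hpz T) (Subgroup.mem_zpowers _)
  by_cases hEq : (S0 : Subgroup G) ≤ That
  · have heq : That = S0 := le_antisymm hS0 hEq
    rw [heq]
    exact S0.not_dvd_index
  exfalso
  -- normalizer condition in S0
  haveI : Group.IsNilpotent S0 := S0.isPGroup'.isNilpotent
  have hnc : NormalizerCondition S0 := normalizerCondition_of_isNilpotent
  have hlt : That.subgroupOf S0 < ⊤ := by
    rw [lt_top_iff_ne_top]
    intro h
    rw [Subgroup.subgroupOf_eq_top] at h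
    exact hEq h
  obtain ⟨-, hx⟩ := Set.ssubset_iff_exists.mp (hnc _ hlt)
  obtain ⟨x, hxN, hxT⟩ := hx
  rw [SetLike.mem_coe, Subgroup.mem_normalizer_iff] at hxN
  rw [SetLike.mem_coe, Subgroup.mem_subgroupOf] at hxT
  -- x normalizes That
  have hconj : ∀ t ∈ That, (x : G) * t * (x : G)⁻¹ ∈ That := by
    intro t ht
    have := (hxN ⟨t, hS0 ht⟩).mp (by rw [Subgroup.mem_subgroupOf]; exact ht)
    rw [Subgroup.mem_subgroupOf] at this
    simpa using this
  have hconj' : ∀ t ∈ That, (x : G)⁻¹ * t * (x : G) ∈ That := by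
    intro t ht
    have hmem : (x : G)⁻¹ * t * (x : G) ∈ (S0 : Subgroup G) :=
      (S0 : Subgroup G).mul_mem ((S0 : Subgroup G).mul_mem ((S0 : Subgroup G).inv_mem x.2) (hS0 ht)) x.2
    have := (hxN ⟨(x : G)⁻¹ * t * (x : G), hmem⟩).mpr (by
      rw [Subgroup.mem_subgroupOf]
      have : ((x * ⟨(x : G)⁻¹ * t * (x : G), hmem⟩ * x⁻¹ : S0) : G) = t := by
        show (x : G) * ((x : G)⁻¹ * t * (x : G)) * (x : G)⁻¹ = t
        group
      rw [this]; exact ht)
    rw [Subgroup.mem_subgroupOf] at this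
    exact this
  have hzThat : z ∈ That := (hmemThat z).mpr ⟨hzC, hzT⟩
  -- x z x⁻¹ commutes with all of T
  have hxz := hconj z hzThat
  obtain ⟨hxzC, hxzT⟩ := (hmemThat _).mp hxz
  have hcomm : ∀ t ∈ T, (⟨(x : G) * z * (x : G)⁻¹, hxzC⟩ : C) * t = t * ⟨(x : G) * z * (x : G)⁻¹, hxzC⟩ := by
    intro t ht
    apply Subtype.ext
    simp only [Subgroup.coe_mul]
    have h1 : (x : G)⁻¹ * (t : G) * (x : G) ∈ C :=
      hThatC (hconj' _ ((hmemThat _).mpr ⟨t.2, ht⟩))
    have h2 := (hmemC _).mp h1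
    -- (x⁻¹ t x) z = z (x⁻¹ t x)
    calc (x : G) * z * (x : G)⁻¹ * (t : G)
        = (x : G) * (z * ((x : G)⁻¹ * (t : G) * (x : G))) * (x : G)⁻¹ := by group
      _ = (x : G) * (((x : G)⁻¹ * (t : G) * (x : G)) * z) * (x : G)⁻¹ := by rw [h2]
      _ = (t : G) * ((x : G) * z * (x : G)⁻¹) := by group
  rcases hcent _ hcomm with h | h
  · have : (x : G) * z * (x : G)⁻¹ = 1 := congrArg Subtype.val h
    apply hz1
    have h3 : z = (x : G)⁻¹ * ((x : G) * z * (x : G)⁻¹) * (x : G) := by group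
    rw [h3, this]; group
  · have h' : (x : G) * z * (x : G)⁻¹ = z := h
    have hxC : (x : G) ∈ C := by
      rw [hmemC]
      calc (x : G) * z = ((x : G) * z * (x : G)⁻¹) * (x : G) := by group
        _ = z * (x : G) := by rw [h']
    -- Q = S0 ⊓ C in C
    have hQp : IsPGroup p ((S0 : Subgroup G).subgroupOf C) := by
      have : IsPGroup p (S0 : Subgroup G) := S0.isPGroup'
      exact this.comap_of_injective C.subtype C.subtype_injective
    have hTQ : (T : Subgroup C) ≤ (S0 : Subgroup G).subgroupOf C := by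
      intro t ht
      rw [Subgroup.mem_subgroupOf]
      exact hS0 ((hmemThat _).mpr ⟨t.2, ht⟩)
    have hQT := T.is_maximal' hQp hTQ
    have : (⟨(x : G), hxC⟩ : C) ∈ (S0 : Subgroup G).subgroupOf C := by
      rw [Subgroup.mem_subgroupOf]; exact x.2
    rw [hQT] at this
    exact hxT ((hmemThat _).mpr ⟨hxC, this⟩)

end Cfsg.Agent.Lib.Helper5_SylCent
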