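import Mathlib
import Cfsg.Prelude.Def_SylowChains
import Cfsg.Agent.Lib.Helper5_SEc

set_option autoImplicit false

/-!
helper5: the graph on Sylow `p`-subgroups (edges = distinct pairs meeting nontrivially),
`Cfsg.IsSylowChainConnected` in terms of `Relation.ReflTransGen`.
-/

namespace Cfsg.Agent.Lib.Helper5_SylowChain

open Cfsg

variable {G : Type*} [Group G] {p : ℕ}

/-- the edge relation -/
def E (U V : Sylow p G) : Prop := U ≠ V ∧ (U : Subgroup G) ⊓ (V : Subgroup G) ≠ ⊥

/-- reachability -/
def R (U V : Sylow p G) : Prop := Relation.ReflTransGen E U V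

theorem E_symm {U V : Sylow p G} (h : E U V) : E V U := ⟨h.1.symm, by rw [inf_comm]; exact h.2⟩

theorem R_refl (U : Sylow p G) : R U U := Relation.ReflTransGen.refl

theorem R_symm {U V : Sylow p G} (h : R U V) : R V U := by
  induction h with
  | refl => exact Relation.ReflTransGen.refl
  | tail _ hE ih => exact Relation.ReflTransGen.head (E_symm hE) ih

theorem R_trans {U V W : Sylow p G} (h1 : R U V) (h2 : R V W) : R U W :=
  Relation.ReflTransGen.trans h1 h2

theorem R_of_inf_ne_bot {U V : Sylow p G} (h : (U : Subgroup G) ⊓ (V : Subgroup G) ≠ ⊥) : R U V := by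
  by_cases hUV : U = V
  · rw [hUV]; exact R_refl V
  · exact Relation.ReflTransGen.single ⟨hUV, h⟩

theorem coe_smul_sylow (g : G) (P : Sylow p G) :
    ((g • P : Sylow p G) : Subgroup G) = (P : Subgroup G).map (MulAut.conj g).toMonoidHom := rfl

theorem E_smul (g : G) {U V : Sylow p G} (h : E U V) : E (g • U) (g • V) := by
  refine ⟨fun he => h.1 (smul_left_cancel g he), ?_⟩
  intro hbot
  apply h.2
  rw [eq_bot_iff]
  intro x hx
  have h1 : g * x * g⁻¹ ∈ ((g • U : Sylow p G) : Subgroup G) ⊓ ((g • V : Sylow p G) : Subgroup G) := by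
    rw [coe_smul_sylow, coe_smul_sylow]
    exact ⟨⟨x, hx.1, rfl⟩, ⟨x, hx.2, rfl⟩⟩
  rw [hbot, Subgroup.mem_bot] at h1
  rw [Subgroup.mem_bot]
  have : x = g⁻¹ * (g * x * g⁻¹) * g := by group
  rw [this, h1]; group

theorem R_smul (g : G) {U V : Sylow p G} (h : R U V) : R (g • U) (g • V) := by
  induction h with
  | refl => exact R_refl _
  | tail _ hE ih => exact Relation.ReflTransGen.tail ih (E_smul g hE)

/-- a chain function from reachability -/
theorem chain_of_R {S T : Sylow p G} (h : R S T) :
    ∃ (n : ℕ) (c : Fin (n + 1) → Sylow p G), c 0 = S ∧ c (Fin.last n) = T ∧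
      ∀ i : Fin n, E (c i.castSucc) (c i.succ) := by
  induction h with
  | refl => exact ⟨0, fun _ => S, rfl, rfl, fun i => i.elim0⟩
  | @tail U V _ hE ih =>
    obtain ⟨n, c, h0, hl, hc⟩ := ih
    refine ⟨n + 1, Fin.snoc c V, ?_, ?_, ?_⟩
    · have : (0 : Fin (n + 2)) = Fin.castSucc (0 : Fin (n + 1)) := rfl
      rw [this, Fin.snoc_castSucc]; exact h0
    · exact Fin.snoc_last _ _
    · intro i
      rw [Fin.snoc_castSucc]
      induction i using Fin.lastCases with
      | last =>
        have : (Fin.last n).succ = Fin.last (n + 1) := Fin.succ_last n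
        rw [this, Fin.snoc_last, hl]; exact hE
      | cast j =>
        rw [Fin.succ_castSucc, Fin.snoc_castSucc]
        exact hc j

/-- reachability from a chain function -/
theorem R_of_chain {n : ℕ} (c : Fin (n + 1) → Sylow p G)
    (hc : ∀ i : Fin n, E (c i.castSucc) (c i.succ)) (i : Fin (n + 1)) : R (c 0) (c i) := by
  induction i using Fin.induction with
  | zero => exact R_refl _
  | succ i ih => exact Relation.ReflTransGen.tail ih (hc i)

theorem isSylowChainConnected_iff : Cfsg.IsSylowChainConnected p G ↔ ∀ S T : Sylow p G, R S T := by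
  constructor
  · intro h S T
    obtain ⟨n, c, h0, hl, -, hc⟩ := h S T
    have := R_of_chain c hc (Fin.last n)
    rwa [h0, hl] at this
  · intro h S T
    by_cases hST : (S : Subgroup G) ⊓ (T : Subgroup G) = ⊥
    · obtain ⟨n, c, h0, hl, hc⟩ := chain_of_R (h S T)
      refine ⟨n, c, h0, hl, ?_, hc⟩
      intro i
      rw [hST]; exact bot_le
    · by_cases heq : S = T
      · subst heq
        exact ⟨0, fun _ => S, rfl, rfl, fun _ => inf_le_left, fun i => i.elim0⟩
      · refine ⟨1, ![S, T], rfl, rfl, ?_, ?_⟩
        · intro i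
          fin_cases i
          · exact inf_le_left
          · exact inf_le_right
        · intro i
          fin_cases i
          exact ⟨heq, hST⟩

end Cfsg.Agent.Lib.Helper5_SylowChain
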