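import Mathlib
import Cfsg.Agent.S3225

set_option autoImplicit false

/-!
helper5: the Thompson transfer lemma with an *extremal* conjugate:
if `u ∈ P ∖ Q` is an involution (`Q` of index 2 in the Sylow 2-subgroup `P`) lying in every normal
subgroup of index 2, then some conjugate `v` of `u` lies in `Q` and `C_P(v)` contains a Sylow
2-subgroup of `C_G(v)`.
-/

namespace Cfsg.Agent.Lib.Helper5_ThompsonExt

open MulAction Subgroup

variable {G : Type*} [Group G]

/-- a fixed coset is the chosen representative of its `⟨u⟩`-orbit -/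
theorem out_mk_of_fixed (H : Subgroup G) (u : G) (c : G ⧸ H) (hc : u • c = c) :
    (Quotient.mk (orbitRel (zpowers u) (G ⧸ H)) c).out = c := by
  have h1 : (orbitRel (zpowers u) (G ⧸ H)).r
      (Quotient.mk (orbitRel (zpowers u) (G ⧸ H)) c).out c := Quotient.mk_out (s := orbitRel (zpowers u) (G ⧸ H)) c
  rw [MulAction.orbitRel_apply] at h1
  obtain ⟨⟨z, hz⟩, hzc⟩ := h1
  obtain ⟨k, rfl⟩ := mem_zpowers_iff.mp hz
  have h2 : ∀ k : ℤ, (u ^ k) • c = c := by
    intro k
    have hu : u ∈ MulAction.stabilizer G c := hc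
    exact (MulAction.stabilizer G c).zpow_mem hu k
  rw [← hzc]
  exact h2 k

open Cfsg.Agent.S3225 in
/-- parity part of the transfer computation: the number of `u`-fixed cosets `xP` with
`x⁻¹ u x ∈ Q` is odd. -/
theorem odd_good [Finite G] (P : Sylow 2 G) (Q : Subgroup G)
    (hQi : Q.relIndex (P : Subgroup G) = 2) (u : G) (hu : orderOf u = 2)
    (hM : ∀ M : Subgroup G, M.Normal → M.index = 2 → u ∈ M) :
    Odd (Nat.card {c : G ⧸ (P : Subgroup G) // u • c = c ∧ c.out⁻¹ * u * c.out ∈ Q}) := by
  classical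
  haveI : Fact (Nat.Prime 2) := ⟨Nat.prime_two⟩
  set H : Subgroup G := (P : Subgroup G) with hH
  set M' : Subgroup H := Q.subgroupOf H with hM'
  have hidx : M'.index = 2 := hQi
  haveI : M'.Normal := Subgroup.normal_of_index_eq_two hidx
  have hcardA : Nat.card (H ⧸ M') = 2 := by rw [← Subgroup.index_eq_card]; exact hidx
  haveI : IsCyclic (H ⧸ M') := isCyclic_of_prime_card hcardA
  letI : CommGroup (H ⧸ M') := IsCyclic.commGroup
  let ϕ : H →* (H ⧸ M') := QuotientGroup.mk' M'
  have hker : ∀ (y : G) (hy : y ∈ H), ϕ ⟨y, hy⟩ = 1 ↔ y ∈ Q := by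
    intro y hy
    rw [QuotientGroup.mk'_apply, QuotientGroup.eq_one_iff]
    rfl
  have hu2 : u ^ 2 = 1 := by rw [← hu]; exact pow_orderOf_eq_one u
  have hV1 : MonoidHom.transfer ϕ u = 1 := by
    by_contra hne
    have hrange : Nat.card (MonoidHom.transfer ϕ).range = 2 := by
      have h1 : Nat.card (MonoidHom.transfer ϕ).range ∣ 2 := by
        rw [← hcardA]; exact Subgroup.card_subgroup_dvd_card _
      have h2 : Nat.card (MonoidHom.transfer ϕ).range ≠ 1 := by
        intro h
        rw [Subgroup.card_eq_one] at h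
        have : MonoidHom.transfer ϕ u ∈ (MonoidHom.transfer ϕ).range := ⟨u, rfl⟩
        rw [h, Subgroup.mem_bot] at this
        exact hne this
      rcases (Nat.dvd_prime Nat.prime_two).1 h1 with h | h
      · exact absurd h h2
      · exact h
    have := hM (MonoidHom.transfer ϕ).ker inferInstance (by rw [Subgroup.index_ker]; exact hrange)
    exact hne (MonoidHom.mem_ker.mp this)
  letI : Fintype (Quotient (orbitRel (zpowers u) (G ⧸ H))) := Fintype.ofFinite _
  rw [MonoidHom.transfer_eq_prod_quotient_orbitRel_zpowers_quot, prod_eq_one_iff_even hcardA] at hV1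
  have hper : ∀ q : Quotient (orbitRel (zpowers u) (G ⧸ H)),
      Function.minimalPeriod (u • ·) q.out = 1 ∨ Function.minimalPeriod (u • ·) q.out = 2 := by
    intro q
    have h1 : Function.minimalPeriod (u • ·) q.out ∣ 2 := by
      rw [← MulAction.pow_smul_eq_iff_minimalPeriod_dvd, hu2, one_smul]
    exact (Nat.dvd_prime Nat.prime_two).mp h1
  have key : ∀ q : Quotient (orbitRel (zpowers u) (G ⧸ H)),
      (ϕ ⟨q.out.out⁻¹ * u ^ Function.minimalPeriod (u • ·) q.out * q.out.out,
          QuotientGroup.out_conj_pow_minimalPeriod_mem H u q.out⟩ ≠ 1) ↔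
        (Function.minimalPeriod (u • ·) q.out = 1 ∧ q.out.out⁻¹ * u * q.out.out ∉ Q) := by
    intro q
    rw [Ne, hker]
    rcases hper q with h | h
    · rw [h, pow_one]; simp
    · rw [h, hu2]; simp [Q.one_mem]
  have hodd1 : Odd (Finset.univ.filter (fun q : Quotient (orbitRel (zpowers u) (G ⧸ H)) =>
        Function.minimalPeriod (u • ·) q.out = 1)).card := by
    have h0 : Odd (Finset.univ.filter (fun q : Quotient (orbitRel (zpowers u) (G ⧸ H)) =>
        Odd (Function.minimalPeriod (u • ·) q.out))).card := by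
      rw [← Finset.odd_sum_iff_odd_card_odd, ← Subgroup.index_eq_sum_minimalPeriod H u]
      have := P.not_dvd_index
      rw [← Nat.not_even_iff_odd, even_iff_two_dvd]
      exact this
    convert h0 using 2
    ext q
    simp only [Finset.mem_filter, Finset.mem_univ, true_and]
    rcases hper q with h | h
    · simp [h]
    · simp [h]
  -- split the period-one orbits
  have hsplit := Finset.card_filter_add_card_filter_not (s := Finset.univ.filter
      (fun q : Quotient (orbitRel (zpowers u) (G ⧸ H)) => Function.minimalPeriod (u • ·) q.out = 1))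
      (fun q => q.out.out⁻¹ * u * q.out.out ∈ Q)
  rw [Finset.filter_filter, Finset.filter_filter] at hsplit
  have hbad : Even (Finset.univ.filter (fun q : Quotient (orbitRel (zpowers u) (G ⧸ H)) =>
      Function.minimalPeriod (u • ·) q.out = 1 ∧ q.out.out⁻¹ * u * q.out.out ∉ Q)).card := by
    convert hV1 using 2
    ext q
    simp only [Finset.mem_filter, Finset.mem_univ, true_and]
    exact (key q).symm
  have hgood : Odd (Finset.univ.filter (fun q : Quotient (orbitRel (zpowers u) (G ⧸ H)) =>
      Function.minimalPeriod (u • ·) q.out = 1 ∧ q.out.out⁻¹ * u * q.out.out ∈ Q)).card := by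
    rw [← hsplit] at hodd1
    rcases Nat.even_or_odd (Finset.univ.filter (fun q : Quotient (orbitRel (zpowers u) (G ⧸ H)) =>
      Function.minimalPeriod (u • ·) q.out = 1 ∧ q.out.out⁻¹ * u * q.out.out ∈ Q)).card with he | ho
    · exfalso
      have := he.add hbad
      exact (Nat.not_odd_iff_even.mpr this) hodd1
    · exact ho
  -- bijection with the fixed cosets
  letI : Fintype (G ⧸ H) := Fintype.ofFinite _
  rw [Nat.card_eq_fintype_card, Fintype.card_subtype]
  convert hgood using 1
  symm
  apply Finset.card_bij (fun q _ => q.out)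
  · intro q hq
    simp only [Finset.mem_filter, Finset.mem_univ, true_and] at hq ⊢
    exact ⟨Function.minimalPeriod_eq_one_iff_isFixedPt.mp hq.1, hq.2⟩
  · intro q₁ _ q₂ _ h
    exact Quotient.out_injective h
  · intro c hc
    simp only [Finset.mem_filter, Finset.mem_univ, true_and] at hc
    have hout := out_mk_of_fixed H u c hc.1
    refine ⟨Quotient.mk _ c, ?_, hout⟩
    simp only [Finset.mem_filter, Finset.mem_univ, true_and]
    rw [hout]
    exact ⟨Function.minimalPeriod_eq_one_iff_isFixedPt.mpr hc.1, hc.2⟩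

theorem conj_mem_of_fixed (H : Subgroup G) (u : G) (c : G ⧸ H) (hc : u • c = c) :
    c.out⁻¹ * u * c.out ∈ H := by
  have h1 : ((u * c.out : G) : G ⧸ H) = ((c.out : G) : G ⧸ H) := by
    conv_rhs => rw [QuotientGroup.out_eq', ← hc]
    conv_rhs => rw [← QuotientGroup.out_eq' c]
    rfl
  rw [QuotientGroup.eq] at h1
  have h2 := H.inv_mem h1
  have e : ((u * c.out)⁻¹ * c.out)⁻¹ = c.out⁻¹ * u * c.out := by group
  rwa [e] at h2

/-- **Thompson transfer, extremal form.** -/
theorem thompson_extremal [Finite G] (P : Sylow 2 G) (Q : Subgroup G)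
    (hQi : Q.relIndex (P : Subgroup G) = 2) (u : G) (hu : orderOf u = 2)
    (hM : ∀ M : Subgroup G, M.Normal → M.index = 2 → u ∈ M) :
    ∃ g : G, g * u * g⁻¹ ∈ Q ∧ ∃ T : Subgroup G, T ≤ (P : Subgroup G) ∧
      T ≤ centralizer {g * u * g⁻¹} ∧
      ∀ R : Subgroup G, IsPGroup 2 R → R ≤ centralizer {g * u * g⁻¹} → Nat.card R ≤ Nat.card T := by
  classical
  haveI : Fact (Nat.Prime 2) := ⟨Nat.prime_two⟩
  have hodd := odd_good P Q hQi u hu hM
  set H : Subgroup G := (P : Subgroup G) with hH
  have hQn : (Q.subgroupOf H).Normal := Subgroup.normal_of_index_eq_two hQi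
  -- a Sylow 2-subgroup of the centraliser of `u`
  obtain ⟨T₁⟩ : Nonempty (Sylow 2 (centralizer ({u} : Set G))) := inferInstance
  set T₀ : Subgroup G := (T₁ : Subgroup (centralizer ({u} : Set G))).map (centralizer ({u} : Set G)).subtype
    with hT₀
  have hT₀p : IsPGroup 2 T₀ := IsPGroup.map T₁.isPGroup' _
  have hT₀c : ∀ t ∈ T₀, t * u = u * t := by
    rintro _ ⟨t, -, rfl⟩
    have := t.2
    rw [mem_centralizer_iff] at this
    exact (this u (Set.mem_singleton u)).symm
  have hconjt : ∀ t ∈ T₀, t⁻¹ * u * t = u := by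
    intro t ht
    calc t⁻¹ * u * t = t⁻¹ * (u * t) := by group
      _ = t⁻¹ * (t * u) := by rw [hT₀c t ht]
      _ = u := by group
  -- the action on good cosets
  let Xs : SubMulAction T₀ (G ⧸ H) :=
    { carrier := {c | u • c = c ∧ c.out⁻¹ * u * c.out ∈ Q}
      smul_mem' := by
        rintro ⟨t, ht⟩ c ⟨hc1, hc2⟩
        have htu := hT₀c t ht
        have hfix : u • ((t : G) • c) = (t : G) • c := by
          rw [← mul_smul, ← htu, mul_smul, hc1]
        refine ⟨hfix, ?_⟩
        show (((t : G) • c).out)⁻¹ * u * ((t : G) • c).out ∈ Q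
        have hxH := conj_mem_of_fixed H u c hc1
        set x := c.out with hx
        set y := ((t : G) • c).out with hy
        have h1 : ((y : G) : G ⧸ H) = ((t * x : G) : G ⧸ H) := by
          rw [hy, QuotientGroup.out_eq', hx]
          conv_lhs => rw [← QuotientGroup.out_eq' c]
          rfl
        rw [QuotientGroup.eq] at h1
        set p := y⁻¹ * (t * x) with hp
        have hy2 : y = t * x * p⁻¹ := by rw [hp]; group
        have e : y⁻¹ * u * y = p * (x⁻¹ * u * x) * p⁻¹ := by
          rw [hy2]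
          calc (t * x * p⁻¹)⁻¹ * u * (t * x * p⁻¹) = p * (x⁻¹ * (t⁻¹ * u * t) * x) * p⁻¹ := by group
            _ = p * (x⁻¹ * u * x) * p⁻¹ := by rw [hconjt t ht]
        rw [e]
        have h2 : (⟨x⁻¹ * u * x, hxH⟩ : H) ∈ Q.subgroupOf H := Subgroup.mem_subgroupOf.mpr hc2
        have h3 := hQn.conj_mem _ h2 ⟨p, h1⟩
        exact Subgroup.mem_subgroupOf.mp h3 }
  have hcardXs : Nat.card Xs = Nat.card {c : G ⧸ H // u • c = c ∧ c.out⁻¹ * u * c.out ∈ Q} := rfl
  have hnd : ¬ 2 ∣ Nat.card Xs := by
    rw [hcardXs]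
    exact fun h => (Nat.not_even_iff_odd.mpr hodd) (even_iff_two_dvd.mpr h)
  obtain ⟨⟨c, hc1, hc2⟩, hfix⟩ := hT₀p.nonempty_fixed_point_of_prime_not_dvd_card Xs hnd
  have hfix' : ∀ t ∈ T₀, t • c = c := by
    intro t ht
    have := hfix ⟨t, ht⟩
    exact congrArg Subtype.val this
  set x := c.out with hx
  have e0 : x⁻¹ * u * x⁻¹⁻¹ = x⁻¹ * u * x := by rw [inv_inv]
  refine ⟨x⁻¹, by rw [e0]; exact hc2, T₀.map (MulAut.conj x⁻¹).toMonoidHom, ?_, ?_, ?_⟩
  · rintro _ ⟨t, ht, rfl⟩
    have := conj_mem_of_fixed H t c (hfix' t ht)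
    simpa [MulAut.conj_apply] using this
  · rintro _ ⟨t, ht, rfl⟩
    rw [mem_centralizer_iff]
    intro y hy
    rw [Set.mem_singleton_iff] at hy
    rw [hy, e0]
    simp only [MulEquiv.coe_toMonoidHom, MulAut.conj_apply, inv_inv]
    calc x⁻¹ * u * x * (x⁻¹ * t * x) = x⁻¹ * (u * t) * x := by group
      _ = x⁻¹ * (t * u) * x := by rw [hT₀c t ht]
      _ = x⁻¹ * t * x * (x⁻¹ * u * x) := by group
  · intro R hR hRc
    rw [e0] at hRc
    -- conjugate back
    set R' : Subgroup G := R.map (MulAut.conj x).toMonoidHom with hR'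
    have hR'c : R' ≤ centralizer ({u} : Set G) := by
      rintro _ ⟨r, hr, rfl⟩
      rw [mem_centralizer_iff]
      intro y hy
      rw [Set.mem_singleton_iff] at hy
      rw [hy]
      have h1 := mem_centralizer_iff.mp (hRc hr) (x⁻¹ * u * x) (Set.mem_singleton _)
      simp only [MulEquiv.coe_toMonoidHom, MulAut.conj_apply]
      calc u * (x * r * x⁻¹) = x * ((x⁻¹ * u * x) * r) * x⁻¹ := by group
        _ = x * (r * (x⁻¹ * u * x)) * x⁻¹ := by rw [h1]
        _ = x * r * x⁻¹ * u := by group
    have hR'p : IsPGroup 2 R' := IsPGroup.map hR _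
    have hcard1 : Nat.card R' = Nat.card R := card_map_of_injective (MulAut.conj x).injective
    have hR''p : IsPGroup 2 (R'.subgroupOf (centralizer ({u} : Set G))) :=
      hR'p.comap_subtype
    obtain ⟨T₂, hT₂⟩ := hR''p.exists_le_sylow
    have hcard2 : Nat.card (R'.subgroupOf (centralizer ({u} : Set G))) = Nat.card R' :=
      Nat.card_congr (subgroupOfEquivOfLe hR'c).toEquiv
    have hcard3 : Nat.card (T₂ : Subgroup (centralizer ({u} : Set G))) =
        Nat.card (T₁ : Subgroup (centralizer ({u} : Set G))) := by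
      rw [Sylow.card_eq_multiplicity, Sylow.card_eq_multiplicity]
    have hcard4 : Nat.card T₀ = Nat.card (T₁ : Subgroup (centralizer ({u} : Set G))) :=
      card_map_of_injective (subtype_injective _)
    have hcard5 : Nat.card (T₀.map (MulAut.conj x⁻¹).toMonoidHom) = Nat.card T₀ :=
      card_map_of_injective (MulAut.conj x⁻¹).injective
    rw [hcard5, hcard4, ← hcard3, ← hcard1, ← hcard2]
    exact Nat.le_of_dvd Nat.card_pos (card_dvd_of_le hT₂)

end Cfsg.Agent.Lib.Helper5_ThompsonExt
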