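import Mathlib
import Cfsg.Agent.Lib.Helper5_SylCent

set_option autoImplicit false

namespace Cfsg.Agent.Lib.Helper5_TransvCent

open Matrix

abbrev S5 := Matrix.SpecialLinearGroup (Fin 5) (ZMod 2)
abbrev M5 := Matrix (Fin 5) (Fin 5) (ZMod 2)

def E00 : M5 := Matrix.single 0 0 1
def E11 : M5 := Matrix.single 1 1 1
def E01 : M5 := Matrix.single 0 1 1

theorem E00_sq : E00 * E00 = E00 := by
  simp [E00, Matrix.single_mul_single_same]
theorem E11_sq : E11 * E11 = E11 := by
  simp [E11, Matrix.single_mul_single_same]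
theorem E00_E01 : E00 * E01 = E01 := by
  simp [E00, E01, Matrix.single_mul_single_same]
theorem E01_E00 : E01 * E00 = 0 := by
  simp [E00, E01]
theorem E01_E11 : E01 * E11 = E01 := by
  simp [E11, E01, Matrix.single_mul_single_same]
theorem E11_E01 : E11 * E01 = 0 := by
  simp [E11, E01]

theorem two_M5 (n : M5) : n + n = 0 := by
  ext i j
  simp only [Matrix.add_apply, Matrix.zero_apply]
  exact CharTwo.add_self_eq_zero _

theorem coe_mul_inv (x : S5) : (x : M5) * ((x⁻¹ : S5) : M5) = 1 := by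
  rw [← Matrix.SpecialLinearGroup.coe_mul, mul_inv_cancel, Matrix.SpecialLinearGroup.coe_one]
theorem coe_inv_mul (x : S5) : ((x⁻¹ : S5) : M5) * (x : M5) = 1 := by
  rw [← Matrix.SpecialLinearGroup.coe_mul, inv_mul_cancel, Matrix.SpecialLinearGroup.coe_one]

/-- the "row" subgroup -/
def R : Subgroup S5 where
  carrier := {x | (1 - E00) * (x : M5) = 1 - E00 ∧ (x : M5) * E00 = E00}
  mul_mem' := by
    rintro x y ⟨hx1, hx2⟩ ⟨hy1, hy2⟩
    refine ⟨?_, ?_⟩
    · rw [Matrix.SpecialLinearGroup.coe_mul, ← Matrix.mul_assoc, hx1, hy1]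
    · rw [Matrix.SpecialLinearGroup.coe_mul, Matrix.mul_assoc, hy2, hx2]
  one_mem' := by
    refine ⟨?_, ?_⟩
    · rw [Matrix.SpecialLinearGroup.coe_one, Matrix.mul_one]
    · rw [Matrix.SpecialLinearGroup.coe_one, Matrix.one_mul]
  inv_mem' := by
    rintro x ⟨hx1, hx2⟩
    refine ⟨?_, ?_⟩
    · calc (1 - E00) * ((x⁻¹ : S5) : M5) = ((1 - E00) * (x : M5)) * ((x⁻¹ : S5) : M5) := by rw [hx1]
        _ = (1 - E00) := by rw [Matrix.mul_assoc, coe_mul_inv, Matrix.mul_one]
    · calc ((x⁻¹ : S5) : M5) * E00 = ((x⁻¹ : S5) : M5) * ((x : M5) * E00) := by rw [hx2]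
        _ = E00 := by rw [← Matrix.mul_assoc, coe_inv_mul, Matrix.one_mul]

/-- the "column" subgroup -/
def R' : Subgroup S5 where
  carrier := {x | (x : M5) * (1 - E11) = 1 - E11 ∧ E11 * (x : M5) = E11}
  mul_mem' := by
    rintro x y ⟨hx1, hx2⟩ ⟨hy1, hy2⟩
    refine ⟨?_, ?_⟩
    · rw [Matrix.SpecialLinearGroup.coe_mul, Matrix.mul_assoc, hy1, hx1]
    · rw [Matrix.SpecialLinearGroup.coe_mul, ← Matrix.mul_assoc, hx2, hy2]
  one_mem' := by
    refine ⟨?_, ?_⟩
    · rw [Matrix.SpecialLinearGroup.coe_one, Matrix.one_mul]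
    · rw [Matrix.SpecialLinearGroup.coe_one, Matrix.mul_one]
  inv_mem' := by
    rintro x ⟨hx1, hx2⟩
    refine ⟨?_, ?_⟩
    · calc ((x⁻¹ : S5) : M5) * (1 - E11) = ((x⁻¹ : S5) : M5) * ((x : M5) * (1 - E11)) := by rw [hx1]
        _ = (1 - E11) := by rw [← Matrix.mul_assoc, coe_inv_mul, Matrix.one_mul]
    · calc E11 * ((x⁻¹ : S5) : M5) = (E11 * (x : M5)) * ((x⁻¹ : S5) : M5) := by rw [hx2]
        _ = E11 := by rw [Matrix.mul_assoc, coe_mul_inv, Matrix.mul_one]

theorem mem_R (x : S5) : x ∈ R ↔ (1 - E00) * (x : M5) = 1 - E00 ∧ (x : M5) * E00 = E00 := Iff.rfl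
theorem mem_R' (x : S5) : x ∈ R' ↔ (x : M5) * (1 - E11) = 1 - E11 ∧ E11 * (x : M5) = E11 := Iff.rfl

/-- decomposition `x = 1 + n` with `n = E00 n`, `n E00 = 0` -/
theorem R_decomp (x : S5) (hx : x ∈ R) :
    E00 * ((x : M5) - 1) = (x : M5) - 1 ∧ ((x : M5) - 1) * E00 = 0 := by
  obtain ⟨h1, h2⟩ := hx
  constructor
  · have : (1 - E00) * ((x : M5) - 1) = 0 := by
      rw [Matrix.mul_sub, h1, Matrix.mul_one, sub_self]
    rw [Matrix.sub_mul, Matrix.one_mul, sub_eq_zero] at this
    exact this.symm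
  · rw [Matrix.sub_mul, h2, Matrix.one_mul, sub_self]

theorem R'_decomp (x : S5) (hx : x ∈ R') :
    ((x : M5) - 1) * E11 = (x : M5) - 1 ∧ E11 * ((x : M5) - 1) = 0 := by
  obtain ⟨h1, h2⟩ := hx
  constructor
  · have : ((x : M5) - 1) * (1 - E11) = 0 := by
      rw [Matrix.sub_mul, h1, Matrix.one_mul, sub_self]
    rw [Matrix.mul_sub, Matrix.mul_one, sub_eq_zero] at this
    exact this.symm
  · rw [Matrix.mul_sub, h2, Matrix.mul_one, sub_self]

theorem R_sq (x : S5) (hx : x ∈ R) : x * x = 1 := by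
  obtain ⟨h1, h2⟩ := R_decomp x hx
  apply Subtype.ext
  rw [Matrix.SpecialLinearGroup.coe_mul, Matrix.SpecialLinearGroup.coe_one]
  set n := (x : M5) - 1 with hn
  have hx' : (x : M5) = 1 + n := by rw [hn]; abel
  have hnn : n * n = 0 := by
    calc n * n = n * (E00 * n) := by rw [h1]
      _ = (n * E00) * n := by rw [Matrix.mul_assoc]
      _ = 0 := by rw [h2, Matrix.zero_mul]
  rw [hx', Matrix.add_mul, Matrix.mul_add, Matrix.mul_add, Matrix.one_mul, Matrix.mul_one,
    Matrix.one_mul, hnn, add_zero, add_assoc, two_M5, add_zero]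

theorem R'_sq (x : S5) (hx : x ∈ R') : x * x = 1 := by
  obtain ⟨h1, h2⟩ := R'_decomp x hx
  apply Subtype.ext
  rw [Matrix.SpecialLinearGroup.coe_mul, Matrix.SpecialLinearGroup.coe_one]
  set n := (x : M5) - 1 with hn
  have hx' : (x : M5) = 1 + n := by rw [hn]; abel
  have hnn : n * n = 0 := by
    calc n * n = (n * E11) * n := by rw [h1]
      _ = n * (E11 * n) := by rw [Matrix.mul_assoc]
      _ = 0 := by rw [h2, Matrix.mul_zero]
  rw [hx', Matrix.add_mul, Matrix.mul_add, Matrix.mul_add, Matrix.one_mul, Matrix.mul_one,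
    Matrix.one_mul, hnn, add_zero, add_assoc, two_M5, add_zero]

def sM : M5 := 1 + E01

theorem zmod2_cases : ∀ c : ZMod 2, c = 0 ∨ c = 1 := by decide

/-- commuting with `1 + single i j 1` means commuting with `single i j 1` -/
theorem commute_single_of (g : M5) (i j : Fin 5)
    (h : g * (1 + Matrix.single i j 1) = (1 + Matrix.single i j 1) * g) :
    Commute (Matrix.single i j (1 : ZMod 2)) g := by
  rw [Matrix.mul_add, Matrix.add_mul, Matrix.mul_one, Matrix.one_mul] at h
  exact (add_left_cancel h).symm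

theorem g00_eq_one (g : S5) (hcol : ∀ k : Fin 5, k ≠ 0 → (g : M5) k 0 = 0) : (g : M5) 0 0 = 1 := by
  rcases zmod2_cases ((g : M5) 0 0) with h | h
  · exfalso
    have hdet : (g : M5).det = 0 := by
      apply Matrix.det_eq_zero_of_column_eq_zero 0
      intro k
      by_cases hk : k = 0
      · rw [hk]; exact h
      · exact hcol k hk
    rw [g.2] at hdet
    exact one_ne_zero hdet
  · exact h

theorem D_cond (g : S5) (hg : (g : M5) * sM = sM * (g : M5)) :
    (g : M5) * E00 = E00 ∧ E11 * (g : M5) = E11 := by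
  have hc : Commute (Matrix.single 0 1 (1 : ZMod 2)) (g : M5) := commute_single_of _ 0 1 hg
  have hcol : ∀ k : Fin 5, k ≠ 0 → (g : M5) k 0 = 0 :=
    fun k hk => Matrix.col_eq_zero_of_commute_single hc hk
  have hrow : ∀ k : Fin 5, k ≠ 1 → (g : M5) 1 k = 0 :=
    fun k hk => Matrix.row_eq_zero_of_commute_single hc hk
  have h00 : (g : M5) 0 0 = 1 := g00_eq_one g hcol
  have h11 : (g : M5) 1 1 = 1 := by rw [← Matrix.diag_eq_of_commute_single hc]; exact h00
  constructor
  · ext a b
    by_cases hb : b = 0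
    · subst hb
      rw [E00, Matrix.mul_single_apply_same, mul_one]
      by_cases ha : a = 0
      · subst ha
        rw [h00, Matrix.single_apply_same]
      · rw [hcol a ha, Matrix.single_apply_of_ne]
        intro h; exact ha h.1.symm
    · rw [E00, Matrix.mul_single_apply_of_ne (hbj := hb), Matrix.single_apply_of_ne]
      intro h; exact hb h.2.symm
  · ext a b
    by_cases ha : a = 1
    · subst ha
      rw [E11, Matrix.single_mul_apply_same, one_mul]
      by_cases hb : b = 1
      · subst hb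
        rw [h11, Matrix.single_apply_same]
      · rw [hrow b hb, Matrix.single_apply_of_ne]
        intro h; exact hb h.2.symm
    · rw [E11, Matrix.single_mul_apply_of_ne (h := ha), Matrix.single_apply_of_ne]
      intro h; exact ha h.1.symm

theorem R_conj (g : S5) (hg : (g : M5) * E00 = E00) (x : S5) (hx : x ∈ R) : g * x * g⁻¹ ∈ R := by
  obtain ⟨h1, h2⟩ := R_decomp x hx
  have hxE : (x : M5) * E00 = E00 := hx.2
  have hginv : ((g⁻¹ : S5) : M5) * E00 = E00 := by
    calc ((g⁻¹ : S5) : M5) * E00 = ((g⁻¹ : S5) : M5) * ((g : M5) * E00) := by rw [hg]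
      _ = E00 := by rw [← Matrix.mul_assoc, coe_inv_mul, Matrix.one_mul]
  set n := (x : M5) - 1 with hn
  have hx' : (x : M5) = 1 + n := by rw [hn]; abel
  have hgn : (g : M5) * n = n := by
    calc (g : M5) * n = (g : M5) * (E00 * n) := by rw [h1]
      _ = ((g : M5) * E00) * n := by rw [Matrix.mul_assoc]
      _ = n := by rw [hg, h1]
  have hcoe : ((g * x * g⁻¹ : S5) : M5) = 1 + n * ((g⁻¹ : S5) : M5) := by
    rw [Matrix.SpecialLinearGroup.coe_mul, Matrix.SpecialLinearGroup.coe_mul, hx', Matrix.mul_add,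
      Matrix.mul_one, hgn, Matrix.add_mul, coe_mul_inv]
  rw [mem_R]
  constructor
  · rw [hcoe, Matrix.mul_add, Matrix.mul_one, ← Matrix.mul_assoc, Matrix.sub_mul, Matrix.one_mul,
      h1, sub_self, Matrix.zero_mul, add_zero]
  · rw [Matrix.SpecialLinearGroup.coe_mul, Matrix.SpecialLinearGroup.coe_mul, Matrix.mul_assoc,
      hginv, Matrix.mul_assoc, hxE, hg]

theorem R'_conj (g : S5) (hg : E11 * (g : M5) = E11) (x : S5) (hx : x ∈ R') :
    g * x * g⁻¹ ∈ R' := by
  obtain ⟨h1, h2⟩ := R'_decomp x hx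
  have hxE : E11 * (x : M5) = E11 := hx.2
  have hginv : E11 * ((g⁻¹ : S5) : M5) = E11 := by
    calc E11 * ((g⁻¹ : S5) : M5) = (E11 * (g : M5)) * ((g⁻¹ : S5) : M5) := by rw [hg]
      _ = E11 := by rw [Matrix.mul_assoc, coe_mul_inv, Matrix.mul_one]
  set n := (x : M5) - 1 with hn
  have hx' : (x : M5) = 1 + n := by rw [hn]; abel
  have hng : n * ((g⁻¹ : S5) : M5) = n := by
    calc n * ((g⁻¹ : S5) : M5) = (n * E11) * ((g⁻¹ : S5) : M5) := by rw [h1]
      _ = n * (E11 * ((g⁻¹ : S5) : M5)) := by rw [Matrix.mul_assoc]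
      _ = n := by rw [hginv, h1]
  have hcoe : ((g * x * g⁻¹ : S5) : M5) = 1 + (g : M5) * n := by
    rw [Matrix.SpecialLinearGroup.coe_mul, Matrix.SpecialLinearGroup.coe_mul, hx', Matrix.mul_add,
      Matrix.mul_one, Matrix.add_mul, coe_mul_inv, Matrix.mul_assoc, hng]
  rw [mem_R']
  constructor
  · rw [hcoe, Matrix.add_mul, Matrix.one_mul, Matrix.mul_assoc, Matrix.mul_sub, Matrix.mul_one,
      h1, sub_self, Matrix.mul_zero, add_zero]
  · rw [Matrix.SpecialLinearGroup.coe_mul, Matrix.SpecialLinearGroup.coe_mul, ← Matrix.mul_assoc,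
      ← Matrix.mul_assoc, hg, hxE, hginv]

theorem R_comm_s (x : S5) (hx : x ∈ R) : (x : M5) * sM = sM * (x : M5) := by
  obtain ⟨h1, h2⟩ := R_decomp x hx
  set n := (x : M5) - 1 with hn
  have hx' : (x : M5) = 1 + n := by rw [hn]; abel
  have e1 : n * E01 = 0 := by
    calc n * E01 = n * (E00 * E01) := by rw [E00_E01]
      _ = (n * E00) * E01 := by rw [Matrix.mul_assoc]
      _ = 0 := by rw [h2, Matrix.zero_mul]
  have e2 : E01 * n = 0 := by
    calc E01 * n = E01 * (E00 * n) := by rw [h1]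
      _ = (E01 * E00) * n := by rw [Matrix.mul_assoc]
      _ = 0 := by rw [E01_E00, Matrix.zero_mul]
  rw [hx', sM]
  simp only [Matrix.add_mul, Matrix.mul_add, Matrix.one_mul, Matrix.mul_one, e1, e2]
  abel

theorem R'_comm_s (x : S5) (hx : x ∈ R') : (x : M5) * sM = sM * (x : M5) := by
  obtain ⟨h1, h2⟩ := R'_decomp x hx
  set n := (x : M5) - 1 with hn
  have hx' : (x : M5) = 1 + n := by rw [hn]; abel
  have e1 : n * E01 = 0 := by
    calc n * E01 = (n * E11) * E01 := by rw [h1]
      _ = n * (E11 * E01) := by rw [Matrix.mul_assoc]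
      _ = 0 := by rw [E11_E01, Matrix.mul_zero]
  have e2 : E01 * n = 0 := by
    calc E01 * n = (E01 * E11) * n := by rw [E01_E11]
      _ = E01 * (E11 * n) := by rw [Matrix.mul_assoc]
      _ = 0 := by rw [h2, Matrix.mul_zero]
  rw [hx', sM]
  simp only [Matrix.add_mul, Matrix.mul_add, Matrix.one_mul, Matrix.mul_one, e1, e2]
  abel

/-- elementary transvections as elements of `SL₅(2)` -/
def tv (i j : Fin 5) (h : i ≠ j) : S5 :=
  ⟨Matrix.transvection i j 1, Matrix.det_transvection_of_ne i j h 1⟩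

theorem tv_coe (i j : Fin 5) (h : i ≠ j) : ((tv i j h : S5) : M5) = 1 + Matrix.single i j 1 := rfl

theorem tv_mem_R (j : Fin 5) (h : (0 : Fin 5) ≠ j) : tv 0 j h ∈ R := by
  rw [mem_R, tv_coe]
  constructor
  · rw [Matrix.mul_add, Matrix.mul_one, Matrix.sub_mul, Matrix.one_mul, E00,
      Matrix.single_mul_single_same, mul_one, sub_self, add_zero]
  · rw [Matrix.add_mul, Matrix.one_mul, E00, Matrix.single_mul_single_of_ne _ _ _ _ h.symm,
      add_zero]

theorem tv_mem_R' (i : Fin 5) (h : i ≠ (1 : Fin 5)) : tv i 1 h ∈ R' := by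
  rw [mem_R', tv_coe]
  constructor
  · rw [Matrix.add_mul, Matrix.one_mul, Matrix.mul_sub, Matrix.mul_one, E11,
      Matrix.single_mul_single_same, mul_one, sub_self, add_zero]
  · rw [Matrix.mul_add, Matrix.mul_one, E11, Matrix.single_mul_single_of_ne _ _ _ _ h.symm,
      add_zero]

theorem central (g : S5) (hR : ∀ x ∈ R, g * x = x * g) (hR' : ∀ x ∈ R', g * x = x * g) :
    (g : M5) = 1 ∨ (g : M5) = sM := by
  have hc0 : ∀ j : Fin 5, (0 : Fin 5) ≠ j → Commute (Matrix.single 0 j (1 : ZMod 2)) (g : M5) := by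
    intro j hj
    apply commute_single_of
    have := congrArg (fun y : S5 => (y : M5)) (hR _ (tv_mem_R j hj))
    simpa [Matrix.SpecialLinearGroup.coe_mul, tv_coe] using this
  have hc1 : ∀ i : Fin 5, i ≠ (1 : Fin 5) → Commute (Matrix.single i 1 (1 : ZMod 2)) (g : M5) := by
    intro i hi
    apply commute_single_of
    have := congrArg (fun y : S5 => (y : M5)) (hR' _ (tv_mem_R' i hi))
    simpa [Matrix.SpecialLinearGroup.coe_mul, tv_coe] using this
  -- rows a ≥ 1
  have hrow : ∀ a b : Fin 5, a ≠ 0 → a ≠ b → (g : M5) a b = 0 := by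
    intro a b ha hab
    exact Matrix.row_eq_zero_of_commute_single (hc0 a (Ne.symm ha)) (Ne.symm hab)
  have hcol : ∀ b : Fin 5, b ≠ 0 → b ≠ 1 → (g : M5) 0 b = 0 := by
    intro b hb0 hb1
    exact Matrix.col_eq_zero_of_commute_single (hc1 b hb1) (Ne.symm hb0)
  have h00 : (g : M5) 0 0 = 1 := g00_eq_one g (fun k hk => hrow k 0 hk hk)
  have hdiag : ∀ a : Fin 5, (g : M5) a a = 1 := by
    intro a
    by_cases ha : a = 0
    · rw [ha]; exact h00
    · rw [← Matrix.diag_eq_of_commute_single (hc0 a (Ne.symm ha))]; exact h00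
  have hoff : ∀ a b : Fin 5, a ≠ b → ¬ (a = 0 ∧ b = 1) → (g : M5) a b = 0 := by
    intro a b hab h01
    by_cases ha : a = 0
    · subst ha
      apply hcol b (Ne.symm hab)
      intro hb; exact h01 ⟨rfl, hb⟩
    · exact hrow a b ha hab
  rcases zmod2_cases ((g : M5) 0 1) with h | h
  · left
    ext a b
    by_cases hab : a = b
    · subst hab; rw [hdiag, Matrix.one_apply_eq]
    · rw [Matrix.one_apply_ne hab]
      by_cases h01 : a = 0 ∧ b = 1
      · rw [h01.1, h01.2]; exact h
      · exact hoff a b hab h01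
  · right
    ext a b
    rw [sM, E01, Matrix.add_apply]
    by_cases hab : a = b
    · subst hab
      rw [hdiag, Matrix.one_apply_eq, Matrix.single_apply_of_ne, add_zero]
      rintro ⟨h1, h2⟩
      rw [← h1] at h2
      exact absurd h2 (by decide)
    · rw [Matrix.one_apply_ne hab, zero_add]
      by_cases h01 : a = 0 ∧ b = 1
      · rw [h01.1, h01.2, Matrix.single_apply_same]; exact h
      · rw [hoff a b hab h01, Matrix.single_apply_of_ne]
        intro h'; exact h01 ⟨h'.1.symm, h'.2.symm⟩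


theorem sM_eq_transvection : sM = Matrix.transvection 0 1 (1 : ZMod 2) := rfl

section assembly

variable (s : S5) (hs : (s : M5) = Matrix.transvection 0 1 1)

include hs

theorem mem_D_iff (g : S5) :
    g ∈ Subgroup.centralizer ({s} : Set S5) ↔ (g : M5) * sM = sM * (g : M5) := by
  rw [Subgroup.mem_centralizer_singleton_iff, sM_eq_transvection, ← hs,
    ← Matrix.SpecialLinearGroup.coe_mul, ← Matrix.SpecialLinearGroup.coe_mul]
  constructor
  · intro h; rw [h]
  · intro h; exact Subtype.ext h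

theorem R_le_D : R ≤ Subgroup.centralizer ({s} : Set S5) := fun x hx =>
  (mem_D_iff s hs x).mpr (R_comm_s x hx)

theorem R'_le_D : R' ≤ Subgroup.centralizer ({s} : Set S5) := fun x hx =>
  (mem_D_iff s hs x).mpr (R'_comm_s x hx)

theorem R_normal_D : (R.subgroupOf (Subgroup.centralizer ({s} : Set S5))).Normal := by
  constructor
  intro n hn g
  rw [Subgroup.mem_subgroupOf] at hn ⊢
  have hg := D_cond (g : S5) ((mem_D_iff s hs _).mp g.2)
  exact R_conj (g : S5) hg.1 _ hn

theorem R'_normal_D : (R'.subgroupOf (Subgroup.centralizer ({s} : Set S5))).Normal := by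
  constructor
  intro n hn g
  rw [Subgroup.mem_subgroupOf] at hn ⊢
  have hg := D_cond (g : S5) ((mem_D_iff s hs _).mp g.2)
  exact R'_conj (g : S5) hg.2 _ hn

/-- an element of `D` commuting with `R` and `R'` is `1` or `s` -/
theorem central_D (g : S5) (hR : ∀ x ∈ R, g * x = x * g) (hR' : ∀ x ∈ R', g * x = x * g) :
    g = 1 ∨ g = s := by
  rcases central g hR hR' with h | h
  · left; exact Subtype.ext h
  · right; apply Subtype.ext; rw [h, hs]; rfl

end assembly

theorem isPGroup_of_sq {H : Type*} [Group H] (K : Subgroup H) (h : ∀ x ∈ K, x * x = 1) :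
    IsPGroup 2 K := by
  intro ⟨x, hx⟩
  refine ⟨1, ?_⟩
  apply Subtype.ext
  simp only [pow_one, Subgroup.coe_pow, Subgroup.coe_one]
  rw [pow_two]; exact h x hx

theorem main_aux {G : Type*} [Group G] [Finite G] (s : S5)
    (hs : (s : M5) = Matrix.transvection 0 1 1) (z : G) (hz : orderOf z = 2)
    (C : Subgroup G) (hC : C = Subgroup.centralizer ({z} : Set G))
    (D : Subgroup S5) (hD : D = Subgroup.centralizer ({s} : Set S5))
    (e : C ≃* D) (T : Sylow 2 C) :
    ¬ 2 ∣ ((T : Subgroup C).map C.subtype).index := by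
  haveI : Fact (Nat.Prime 2) := ⟨Nat.prime_two⟩
  have hz1 : z ≠ 1 := by
    intro h; rw [h, orderOf_one] at hz; exact absurd hz (by norm_num)
  have hz2 : z ^ 2 = 1 := by rw [← hz]; exact pow_orderOf_eq_one z
  apply Cfsg.Agent.Lib.Helper5_SylCent.sylow_of_centralizer 2 z hz1 hz2 C hC T
  have hRn : (R.subgroupOf D).Normal := by rw [hD]; exact R_normal_D s hs
  have hR'n : (R'.subgroupOf D).Normal := by rw [hD]; exact R'_normal_D s hs
  have hRD : R ≤ D := by rw [hD]; exact R_le_D s hs
  have hR'D : R' ≤ D := by rw [hD]; exact R'_le_D s hs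
  have hmemC : ∀ g : G, g ∈ C ↔ g * z = z * g := by
    intro g; rw [hC]; exact Subgroup.mem_centralizer_singleton_iff
  -- pulled-back subgroups
  have hRC_le : (R.subgroupOf D).comap e.toMonoidHom ≤ (T : Subgroup C) := by
    haveI : ((R.subgroupOf D).comap e.toMonoidHom).Normal := Subgroup.Normal.comap hRn _
    apply IsPGroup.le_sylow_of_normal _ T
    apply isPGroup_of_sq
    intro x hx
    rw [Subgroup.mem_comap, Subgroup.mem_subgroupOf] at hx
    apply e.injective
    rw [map_mul, map_one]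
    apply Subtype.ext
    exact R_sq _ hx
  have hR'C_le : (R'.subgroupOf D).comap e.toMonoidHom ≤ (T : Subgroup C) := by
    haveI : ((R'.subgroupOf D).comap e.toMonoidHom).Normal := Subgroup.Normal.comap hR'n _
    apply IsPGroup.le_sylow_of_normal _ T
    apply isPGroup_of_sq
    intro x hx
    rw [Subgroup.mem_comap, Subgroup.mem_subgroupOf] at hx
    apply e.injective
    rw [map_mul, map_one]
    apply Subtype.ext
    exact R'_sq _ hx
  -- key: y commuting with T has e y ∈ {1, s}
  have key : ∀ y : C, (∀ t ∈ T, y * t = t * y) → ((e y : D) : S5) = 1 ∨ ((e y : D) : S5) = s := by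
    intro y hy
    apply central_D s hs
    · intro x hx
      have hxD : x ∈ D := hRD hx
      have hmem : e.symm ⟨x, hxD⟩ ∈ (R.subgroupOf D).comap e.toMonoidHom := by
        rw [Subgroup.mem_comap, Subgroup.mem_subgroupOf]
        simpa using hx
      have := hy _ (hRC_le hmem)
      have h2 := congrArg (fun w => ((e w : D) : S5)) this
      simpa using h2
    · intro x hx
      have hxD : x ∈ D := hR'D hx
      have hmem : e.symm ⟨x, hxD⟩ ∈ (R'.subgroupOf D).comap e.toMonoidHom := by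
        rw [Subgroup.mem_comap, Subgroup.mem_subgroupOf]
        simpa using hx
      have := hy _ (hR'C_le hmem)
      have h2 := congrArg (fun w => ((e w : D) : S5)) this
      simpa using h2
  have hzC : z ∈ C := (hmemC z).mpr rfl
  have hzcomm : ∀ t : C, (⟨z, hzC⟩ : C) * t = t * ⟨z, hzC⟩ := by
    intro t
    apply Subtype.ext
    exact ((hmemC _).mp t.2).symm
  have hez : ((e ⟨z, hzC⟩ : D) : S5) = s := by
    rcases key ⟨z, hzC⟩ (fun t _ => hzcomm t) with h | h
    · exfalso
      have : e ⟨z, hzC⟩ = 1 := Subtype.ext h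
      have := e.injective (this.trans (map_one e).symm)
      exact hz1 (congrArg Subtype.val this)
    · exact h
  intro y hy
  rcases key y hy with h | h
  · left
    have : e y = 1 := Subtype.ext h
    exact e.injective (this.trans (map_one e).symm)
  · right
    have : e y = e ⟨z, hzC⟩ := Subtype.ext (h.trans hez.symm)
    exact congrArg Subtype.val (e.injective this)

theorem main {G : Type*} [Group G] [Finite G] (s : S5)
    (hs : (s : M5) = Matrix.transvection 0 1 1) (z : G) (hz : orderOf z = 2)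
    (e : (Subgroup.centralizer ({z} : Set G)) ≃* Subgroup.centralizer ({s} : Set S5))
    (T : Sylow 2 (Subgroup.centralizer ({z} : Set G))) :
    ¬ 2 ∣ ((T : Subgroup (Subgroup.centralizer ({z} : Set G))).map
      (Subgroup.subtype (Subgroup.centralizer ({z} : Set G)))).index :=
  main_aux s hs z hz _ rfl _ rfl e T

end Cfsg.Agent.Lib.Helper5_TransvCent
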