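import Mathlib

set_option autoImplicit false

namespace Cfsg.Agent.Lib.Helper5_UniFlag

open Matrix

variable {F : Type*} [Field F] [Fintype F] {n : ℕ}

local notation "SLn" => Matrix.SpecialLinearGroup (Fin n) F
local notation "Vn" => (Fin n → F)

/-- the action of `SL_n` on column vectors -/
def act (g : SLn) (v : Vn) : Vn := (g : Matrix (Fin n) (Fin n) F).mulVec v

theorem act_one (v : Vn) : act (1 : SLn) v = v := by simp [act]
theorem act_mul (g h : SLn) (v : Vn) : act (g * h) v = act g (act h v) := by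
  simp [act, Matrix.mulVec_mulVec]
theorem act_add (g : SLn) (v w : Vn) : act g (v + w) = act g v + act g w := by
  simp [act, Matrix.mulVec_add]
theorem act_smul (g : SLn) (c : F) (v : Vn) : act g (c • v) = c • act g v := by
  simp [act, Matrix.mulVec_smul]
theorem act_sub (g : SLn) (v w : Vn) : act g (v - w) = act g v - act g w := by
  simp [act, Matrix.mulVec_sub]
theorem act_zero (g : SLn) : act g (0 : Vn) = 0 := by simp [act]
theorem act_inv_act (g : SLn) (v : Vn) : act g⁻¹ (act g v) = v := by
  rw [← act_mul, inv_mul_cancel, act_one]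
theorem act_act_inv (g : SLn) (v : Vn) : act g (act g⁻¹ v) = v := by
  rw [← act_mul, mul_inv_cancel, act_one]

/-- one step of the upper fixed-point series -/
def step (U : Subgroup SLn) (S : Submodule F Vn) : Submodule F Vn where
  carrier := {v | ∀ u ∈ U, act u v - v ∈ S}
  add_mem' := by
    intro v w hv hw u hu
    have : act u (v + w) - (v + w) = (act u v - v) + (act u w - w) := by rw [act_add]; abel
    rw [this]; exact S.add_mem (hv u hu) (hw u hu)
  zero_mem' := by
    intro u _
    rw [act_zero, sub_zero]; exact S.zero_mem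
  smul_mem' := by
    intro c v hv u hu
    have : act u (c • v) - c • v = c • (act u v - v) := by rw [act_smul, smul_sub]
    rw [this]; exact S.smul_mem c (hv u hu)

theorem mem_step (U : Subgroup SLn) (S : Submodule F Vn) (v : Vn) :
    v ∈ step U S ↔ ∀ u ∈ U, act u v - v ∈ S := Iff.rfl

theorem step_mono (U : Subgroup SLn) {S T : Submodule F Vn} (h : S ≤ T) : step U S ≤ step U T :=
  fun _ hv u hu => h (hv u hu)

/-- the series -/
def W (U : Subgroup SLn) : ℕ → Submodule F Vn
  | 0 => ⊥
  | (j + 1) => step U (W U j)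

theorem W_zero (U : Subgroup SLn) : W U 0 = ⊥ := rfl
theorem W_succ (U : Subgroup SLn) (j : ℕ) : W U (j + 1) = step U (W U j) := rfl

theorem W_le_succ (U : Subgroup SLn) (j : ℕ) : W U j ≤ W U (j + 1) := by
  induction j with
  | zero => rw [W_zero]; exact bot_le
  | succ j ih => rw [W_succ, W_succ U (j + 1)]; exact step_mono U ih

theorem W_inv (U : Subgroup SLn) (j : ℕ) (u : SLn) (hu : u ∈ U) (v : Vn) (hv : v ∈ W U j) :
    act u v ∈ W U j := by
  cases j with
  | zero =>
    rw [W_zero, Submodule.mem_bot] at hv ⊢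
    rw [hv, act_zero]
  | succ j =>
    have h1 : act u v - v ∈ W U j := hv u hu
    have h2 : act u v = v + (act u v - v) := by abel
    rw [h2]
    exact (W U (j + 1)).add_mem hv (W_le_succ U j h1)

theorem W_normalizer (U : Subgroup SLn) (j : ℕ) (g : SLn)
    (hg : g ∈ Subgroup.normalizer (U : Set SLn)) (v : Vn) (hv : v ∈ W U j) : act g v ∈ W U j := by
  induction j generalizing v with
  | zero =>
    rw [W_zero, Submodule.mem_bot] at hv ⊢
    rw [hv, act_zero]
  | succ j ih =>
    intro u hu
    have hu' : g⁻¹ * u * g ∈ U := by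
      have := (Subgroup.mem_normalizer_iff'.mp hg (g⁻¹ * u)).mpr (by simpa using hu)
      simpa [mul_assoc] using this
    have h1 : act (g⁻¹ * u * g) v - v ∈ W U j := hv _ hu'
    have h2 := ih _ h1
    rw [act_sub, ← act_mul, ← mul_assoc, ← mul_assoc, mul_inv_cancel, one_mul, act_mul] at h2
    exact h2

theorem W_lt_succ (p : ℕ) [Fact p.Prime] [CharP F p] (U : Subgroup SLn) (hU : IsPGroup p U)
    (j : ℕ) (hj : W U j ≠ ⊤) : W U j < W U (j + 1) := by
  classical
  set S := W U j with hS
  let L : U → (Vn →ₗ[F] Vn) := fun u => Matrix.mulVecLin ((u : SLn) : Matrix (Fin n) (Fin n) F)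
  have hL : ∀ (u : U) (v : Vn), L u v = act (u : SLn) v := fun u v => rfl
  have hinv : ∀ u : U, S ≤ S.comap (L u) := fun u v hv => W_inv U j u u.2 v hv
  letI : MulAction U (Vn ⧸ S) :=
    { smul := fun u q => S.mapQ S (L u) (hinv u) q
      one_smul := by
        intro q
        obtain ⟨v, rfl⟩ := Submodule.Quotient.mk_surjective S q
        show S.mapQ S (L 1) (hinv 1) (Submodule.Quotient.mk v) = _
        rw [Submodule.mapQ_apply, hL]
        simp [act_one]
      mul_smul := by
        intro u u' q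
        obtain ⟨v, rfl⟩ := Submodule.Quotient.mk_surjective S q
        show S.mapQ S (L (u * u')) (hinv _) (Submodule.Quotient.mk v) =
          S.mapQ S (L u) (hinv _) (S.mapQ S (L u') (hinv _) (Submodule.Quotient.mk v))
        rw [Submodule.mapQ_apply, Submodule.mapQ_apply, Submodule.mapQ_apply, hL, hL, hL]
        simp [act_mul] }
  have hsmul : ∀ (u : U) (v : Vn), u • (Submodule.Quotient.mk v : Vn ⧸ S) =
      Submodule.Quotient.mk (act (u : SLn) v) := by
    intro u v
    show S.mapQ S (L u) (hinv u) (Submodule.Quotient.mk v) = _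
    rw [Submodule.mapQ_apply, hL]
  have h0 : (0 : Vn ⧸ S) ∈ MulAction.fixedPoints U (Vn ⧸ S) := by
    intro u
    have := hsmul u 0
    rw [act_zero] at this
    simpa using this
  -- p divides the cardinality of the quotient
  obtain ⟨v0, hv0⟩ : ∃ v0 : Vn, v0 ∉ S := by
    by_contra hcon
    push_neg at hcon
    exact hj (eq_top_iff.mpr fun v _ => hcon v)
  have hq0 : (Submodule.Quotient.mk v0 : Vn ⧸ S) ≠ 0 := by
    intro h
    exact hv0 ((Submodule.Quotient.mk_eq_zero S).mp h)
  have hdvd : p ∣ Nat.card (Vn ⧸ S) := by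
    have hp0 : p • (Submodule.Quotient.mk v0 : Vn ⧸ S) = 0 := by
      rw [← Nat.cast_smul_eq_nsmul F, CharP.cast_eq_zero, zero_smul]
    have h1 : addOrderOf (Submodule.Quotient.mk v0 : Vn ⧸ S) ∣ p := addOrderOf_dvd_of_nsmul_eq_zero hp0
    have h2 : addOrderOf (Submodule.Quotient.mk v0 : Vn ⧸ S) = p := by
      rcases (Nat.dvd_prime (Fact.out : p.Prime)).mp h1 with h | h
      · exact absurd (AddMonoid.addOrderOf_eq_one_iff.mp h) hq0
      · exact h
    rw [← h2]
    exact addOrderOf_dvd_natCard _
  obtain ⟨b, hb, hb0⟩ := hU.exists_fixed_point_of_prime_dvd_card_of_fixed_point (Vn ⧸ S) hdvd h0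
  obtain ⟨v, rfl⟩ := Submodule.Quotient.mk_surjective S b
  have hvS : v ∉ S := by
    intro h
    exact hb0 ((Submodule.Quotient.mk_eq_zero S).mpr h).symm
  have hvW : v ∈ W U (j + 1) := by
    intro u hu
    have := hb ⟨u, hu⟩
    rw [hsmul, Submodule.Quotient.eq] at this
    exact this
  refine lt_of_le_of_ne (W_le_succ U j) ?_
  intro heq
  exact hvS (heq ▸ hvW)

theorem exists_top (p : ℕ) [Fact p.Prime] [CharP F p] (U : Subgroup SLn) (hU : IsPGroup p U) :
    ∃ j, W U j = ⊤ := by
  by_contra hcon
  push_neg at hcon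
  have hfr : ∀ j, j ≤ Module.finrank F (W U j) := by
    intro j
    induction j with
    | zero => exact Nat.zero_le _
    | succ j ih =>
      have := Submodule.finrank_lt_finrank_of_lt (W_lt_succ p U hU j (hcon j))
      omega
  have h1 := hfr (n + 1)
  have h2 : Module.finrank F (W U (n + 1)) ≤ Module.finrank F Vn := Submodule.finrank_le _
  rw [Module.finrank_fin_fun] at h2
  omega

theorem main (p : ℕ) [Fact p.Prime] [CharP F p] (U : Subgroup SLn) (hU : IsPGroup p U)
    (hne : U ≠ ⊥) :
    ∃ (k : ℕ) (V : Fin (k + 2) → Submodule F (Fin n → F)), 1 ≤ k ∧ StrictMono V ∧ V 0 = ⊥ ∧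
      V (Fin.last (k + 1)) = ⊤ ∧
      (∀ g ∈ Subgroup.normalizer (U : Set SLn), ∀ i,
        (V i).map (Matrix.mulVecLin (g : Matrix (Fin n) (Fin n) F)) = V i) ∧
      (∀ u ∈ U, ∀ i : Fin (k + 1), ∀ v ∈ V i.succ,
        (u : Matrix (Fin n) (Fin n) F).mulVec v - v ∈ V (Fin.castSucc i)) := by
  classical
  have hex := exists_top p U hU
  set J := Nat.find hex with hJ
  have hJtop : W U J = ⊤ := Nat.find_spec hex
  have hJmin : ∀ j < J, W U j ≠ ⊤ := fun j hj => Nat.find_min hex hj
  obtain ⟨u0, hu0, hu01⟩ : ∃ u ∈ U, u ≠ 1 := by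
    by_contra hcon
    push_neg at hcon
    exact hne (eq_bot_iff.mpr fun u hu => Subgroup.mem_bot.mpr (hcon u hu))
  have hW1 : W U 1 ≠ ⊤ := by
    intro htop
    apply hu01
    have hfix : ∀ v : Vn, act u0 v = v := by
      intro v
      have hv : v ∈ W U 1 := htop ▸ Submodule.mem_top
      have := hv u0 hu0
      rw [W_zero, Submodule.mem_bot, sub_eq_zero] at this
      exact this
    apply Subtype.ext
    apply Matrix.toLin'.injective
    apply LinearMap.ext
    intro v
    rw [Matrix.toLin'_apply]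
    simpa [act] using hfix v
  have hW0 : W U 0 ≠ ⊤ := by
    intro htop
    apply hW1
    rw [eq_top_iff, ← htop]
    exact W_le_succ U 0
  have hJ2 : 2 ≤ J := by
    rcases Nat.lt_or_ge J 2 with h | h
    · interval_cases J
      · exact absurd hJtop hW0
      · exact absurd hJtop hW1
    · exact h
  refine ⟨J - 1, fun i => W U i.val, by omega, ?_, W_zero U, ?_, ?_, ?_⟩
  · rw [Fin.strictMono_iff_lt_succ]
    intro i
    simp only [Fin.val_castSucc, Fin.val_succ]
    exact W_lt_succ p U hU i.val (hJmin i.val (by have := i.2; omega))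
  · simp only [Fin.val_last]
    rw [Nat.sub_add_cancel (by omega)]
    exact hJtop
  · intro g hg i
    apply le_antisymm
    · rintro _ ⟨v, hv, rfl⟩
      exact W_normalizer U _ g hg v hv
    · intro v hv
      refine ⟨act g⁻¹ v, W_normalizer U _ g⁻¹ (Subgroup.inv_mem _ hg) v hv, ?_⟩
      exact act_act_inv g v
  · intro u hu i v hv
    simp only [Fin.val_succ] at hv
    exact hv u hu

end Cfsg.Agent.Lib.Helper5_UniFlag
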