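import Mathlib
import Cfsg.Prelude.Def_CaseTheorems
import Cfsg.Agent.Lib.Helper6_DihedralLift

set_option autoImplicit false

/-!
helper5: calculus in the wreathed 2-group `Z_{2^n} ≀ Z_2 = ⟨x, y, z⟩`:
every element is uniquely `x^a y^b` or `x^a y^b z` with `a, b` modulo `2^n`.
-/

namespace Cfsg.Agent.Lib.Helper5_Wreath

open Subgroup

/-- wreathed 2-group on the generators `x`, `y`, `z` -/
structure Wr (S : Type*) [Group S] (n : ℕ) (x y z : S) : Prop where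
  hn : 2 ≤ n
  card : Nat.card S = 2 ^ (2 * n + 1)
  ox : orderOf x = 2 ^ n
  comm : x * y = y * x
  disj : zpowers x ⊓ zpowers y = ⊥
  oz : orderOf z = 2
  rel : z * x * z⁻¹ = y

theorem exists_wr {S : Type*} [Group S] (hS : Cfsg.IsWreathed S) :
    ∃ (n : ℕ) (x y z : S), Wr S n x y z := by
  obtain ⟨n, hn, hc, x, y, z, h1, h2, h3, h4, h5⟩ := hS
  exact ⟨n, x, y, z, hn, hc, h1, h2, h3, h4, h5⟩

/-- Counting three conjugacy classes. -/
theorem card_classes_eq_three {S' : Type*} [Group S'] (P : S' → Prop) (a b c : S') (ha : P a)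
    (hb : P b) (hc : P c) (hab : ¬ IsConj a b) (hac : ¬ IsConj a c) (hbc : ¬ IsConj b c)
    (hall : ∀ t, P t → IsConj a t ∨ IsConj b t ∨ IsConj c t) :
    Nat.card {C : ConjClasses S' // ∃ t : S', P t ∧ ConjClasses.mk t = C} = 3 := by
  have h1 : Nat.card {C : ConjClasses S' // ∃ t : S', P t ∧ ConjClasses.mk t = C} =
      Set.ncard {C : ConjClasses S' | ∃ t : S', P t ∧ ConjClasses.mk t = C} := rfl
  rw [h1, Set.ncard_eq_three]
  refine ⟨ConjClasses.mk a, ConjClasses.mk b, ConjClasses.mk c, ?_, ?_, ?_, ?_⟩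
  · rw [Ne, ConjClasses.mk_eq_mk_iff_isConj]; exact hab
  · rw [Ne, ConjClasses.mk_eq_mk_iff_isConj]; exact hac
  · rw [Ne, ConjClasses.mk_eq_mk_iff_isConj]; exact hbc
  · ext C
    simp only [Set.mem_setOf_eq, Set.mem_insert_iff, Set.mem_singleton_iff]
    constructor
    · rintro ⟨t, ht, rfl⟩
      rcases hall t ht with h | h | h
      · left; exact (ConjClasses.mk_eq_mk_iff_isConj.mpr h).symm
      · right; left; exact (ConjClasses.mk_eq_mk_iff_isConj.mpr h).symm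
      · right; right; exact (ConjClasses.mk_eq_mk_iff_isConj.mpr h).symm
    · rintro (rfl | rfl | rfl)
      · exact ⟨a, ha, rfl⟩
      · exact ⟨b, hb, rfl⟩
      · exact ⟨c, hc, rfl⟩

namespace Wr

variable {S : Type*} [Group S] {n : ℕ} {x y z : S}

theorem zz (h : Wr S n x y z) : z * z = 1 := by
  rw [← pow_two, ← h.oz]; exact pow_orderOf_eq_one z

theorem z_inv (h : Wr S n x y z) : z⁻¹ = z := inv_eq_of_mul_eq_one_left h.zz

theorem rel' (h : Wr S n x y z) : z * y * z⁻¹ = x := by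
  rw [← h.rel, h.z_inv]
  have : z * (z * x * z) * z = (z * z) * x * (z * z) := by group
  rw [this, h.zz, one_mul, mul_one]

theorem oy (h : Wr S n x y z) : orderOf y = 2 ^ n := by
  rw [← h.rel, ← h.ox]
  exact (MulAut.conj z).orderOf_eq x

theorem cxy (h : Wr S n x y z) (a b : ℤ) : x ^ a * y ^ b = y ^ b * x ^ a :=
  ((show Commute x y from h.comm).zpow_zpow a b).eq

theorem x_pow (h : Wr S n x y z) : x ^ ((2 : ℤ) ^ n) = 1 := by
  have := pow_orderOf_eq_one x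
  rw [h.ox] at this
  rw [← this, ← zpow_natCast]; congr 1

theorem y_pow (h : Wr S n x y z) : y ^ ((2 : ℤ) ^ n) = 1 := by
  have := pow_orderOf_eq_one y
  rw [h.oy] at this
  rw [← this, ← zpow_natCast]; congr 1

theorem x_zpow_eq_one_iff (h : Wr S n x y z) (a : ℤ) : x ^ a = 1 ↔ ((2 : ℤ) ^ n) ∣ a := by
  rw [← orderOf_dvd_iff_zpow_eq_one, h.ox]; push_cast; exact Iff.rfl

theorem y_zpow_eq_one_iff (h : Wr S n x y z) (a : ℤ) : y ^ a = 1 ↔ ((2 : ℤ) ^ n) ∣ a := by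
  rw [← orderOf_dvd_iff_zpow_eq_one, h.oy]; push_cast; exact Iff.rfl

theorem mul_el (h : Wr S n x y z) (a b c d : ℤ) :
    (x ^ a * y ^ b) * (x ^ c * y ^ d) = x ^ (a + c) * y ^ (b + d) := by
  rw [mul_assoc, ← mul_assoc (y ^ b), ← h.cxy c b, mul_assoc, ← mul_assoc, ← zpow_add, ← zpow_add]

theorem inv_el (h : Wr S n x y z) (a b : ℤ) : (x ^ a * y ^ b)⁻¹ = x ^ (-a) * y ^ (-b) := by
  apply inv_eq_of_mul_eq_one_left
  rw [h.mul_el]; simp

theorem el_eq_one_iff (h : Wr S n x y z) (a b : ℤ) :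
    x ^ a * y ^ b = 1 ↔ ((2 : ℤ) ^ n) ∣ a ∧ ((2 : ℤ) ^ n) ∣ b := by
  constructor
  · intro he
    have h1 : x ^ a = y ^ (-b) := by
      rw [zpow_neg]; exact eq_inv_of_mul_eq_one_left he
    have h2 : x ^ a ∈ zpowers x ⊓ zpowers y :=
      ⟨zpow_mem (mem_zpowers x) a, h1 ▸ zpow_mem (mem_zpowers y) (-b)⟩
    rw [h.disj, Subgroup.mem_bot] at h2
    rw [h2, one_mul] at he
    exact ⟨(h.x_zpow_eq_one_iff a).mp h2, (h.y_zpow_eq_one_iff b).mp he⟩
  · rintro ⟨h1, h2⟩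
    rw [(h.x_zpow_eq_one_iff a).mpr h1, (h.y_zpow_eq_one_iff b).mpr h2, one_mul]

theorem el_eq_iff (h : Wr S n x y z) (a b c d : ℤ) :
    x ^ a * y ^ b = x ^ c * y ^ d ↔ ((2 : ℤ) ^ n) ∣ a - c ∧ ((2 : ℤ) ^ n) ∣ b - d := by
  rw [← h.el_eq_one_iff, ← mul_inv_eq_one, h.inv_el, h.mul_el]
  rw [sub_eq_add_neg, sub_eq_add_neg]

/-- change of exponents -/
theorem el_congr (h : Wr S n x y z) {a b c d : ℤ} (s t : ℤ) (ha : a = c + 2 ^ n * s)
    (hb : b = d + 2 ^ n * t) : x ^ a * y ^ b = x ^ c * y ^ d :=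
  (h.el_eq_iff a b c d).mpr ⟨⟨s, by linarith⟩, ⟨t, by linarith⟩⟩

theorem z_x (h : Wr S n x y z) (a : ℤ) : z * x ^ a * z⁻¹ = y ^ a := by
  have := map_zpow (MulAut.conj z) x a
  simp only [MulAut.conj_apply] at this
  rw [this, h.rel]

theorem z_y (h : Wr S n x y z) (a : ℤ) : z * y ^ a * z⁻¹ = x ^ a := by
  have := map_zpow (MulAut.conj z) y a
  simp only [MulAut.conj_apply] at this
  rw [this, h.rel']

theorem z_el (h : Wr S n x y z) (a b : ℤ) : z * (x ^ a * y ^ b) = (x ^ b * y ^ a) * z := by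
  have e : z * (x ^ a * y ^ b) = (z * x ^ a * z⁻¹) * (z * y ^ b * z⁻¹) * z := by group
  rw [e, h.z_x, h.z_y, h.cxy]

theorem elz_mul_elz (h : Wr S n x y z) (a b c d : ℤ) :
    (x ^ a * y ^ b * z) * (x ^ c * y ^ d * z) = x ^ (a + d) * y ^ (b + c) := by
  have e : (x ^ a * y ^ b * z) * (x ^ c * y ^ d * z) =
      (x ^ a * y ^ b) * (z * (x ^ c * y ^ d)) * z := by group
  rw [e, h.z_el, ← mul_assoc, h.mul_el, mul_assoc, h.zz, mul_one]

theorem elz_mul_el (h : Wr S n x y z) (a b c d : ℤ) :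
    (x ^ a * y ^ b * z) * (x ^ c * y ^ d) = x ^ (a + d) * y ^ (b + c) * z := by
  rw [mul_assoc, h.z_el, ← mul_assoc, h.mul_el]

theorem el_mul_elz (h : Wr S n x y z) (a b c d : ℤ) :
    (x ^ a * y ^ b) * (x ^ c * y ^ d * z) = x ^ (a + c) * y ^ (b + d) * z := by
  rw [← mul_assoc, h.mul_el]

theorem inv_elz (h : Wr S n x y z) (a b : ℤ) :
    (x ^ a * y ^ b * z)⁻¹ = x ^ (-b) * y ^ (-a) * z := by
  apply inv_eq_of_mul_eq_one_left
  rw [h.elz_mul_elz]; simp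

theorem x_ne_one (h : Wr S n x y z) : x ≠ 1 := by
  intro he
  have := h.ox
  rw [he, orderOf_one] at this
  have h2 : 2 ^ n ≥ 2 ^ 2 := Nat.pow_le_pow_right (by norm_num) h.hn
  omega

/-- the abelian subgroup `⟨x, y⟩` -/
def U (h : Wr S n x y z) : Subgroup S where
  carrier := {g | ∃ a b : ℤ, g = x ^ a * y ^ b}
  one_mem' := ⟨0, 0, by simp⟩
  mul_mem' := by
    rintro _ _ ⟨a, b, rfl⟩ ⟨c, d, rfl⟩
    exact ⟨a + c, b + d, h.mul_el a b c d⟩
  inv_mem' := by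
    rintro _ ⟨a, b, rfl⟩
    exact ⟨-a, -b, h.inv_el a b⟩

theorem mem_U (h : Wr S n x y z) (g : S) : g ∈ h.U ↔ ∃ a b : ℤ, g = x ^ a * y ^ b := Iff.rfl

theorem z_notin_U (h : Wr S n x y z) : z ∉ h.U := by
  rintro ⟨a, b, he⟩
  have h1 : z * x * z⁻¹ = x := by
    have e1 : z * x = x * z := by
      rw [he]
      have h3 := h.mul_el a b 1 0
      have h4 := h.mul_el 1 0 a b
      simp only [zpow_one, zpow_zero, mul_one] at h3 h4
      rw [h3, h4]
      congr 1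
      · congr 1; ring
      · congr 1; ring
    rw [e1, mul_inv_cancel_right]
  rw [h.rel] at h1
  have h2 : x ∈ zpowers x ⊓ zpowers y := ⟨mem_zpowers x, h1 ▸ mem_zpowers y⟩
  rw [h.disj, Subgroup.mem_bot] at h2
  exact h.x_ne_one h2

theorem card_U (h : Wr S n x y z) : Nat.card h.U = 2 ^ n * 2 ^ n := by
  have hcomm : ∀ (m : zpowers x) (k : zpowers y),
      Commute ((zpowers x).subtype m) ((zpowers y).subtype k) := by
    rintro ⟨_, ⟨a, rfl⟩⟩ ⟨_, ⟨b, rfl⟩⟩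
    exact h.cxy a b
  set φ := MonoidHom.noncommCoprod (zpowers x).subtype (zpowers y).subtype hcomm with hφ
  have hinj : Function.Injective φ := by
    rw [MonoidHom.noncommCoprod_injective]
    refine ⟨Subtype.val_injective, Subtype.val_injective, ?_⟩
    rw [Subgroup.range_subtype, Subgroup.range_subtype, disjoint_iff]
    exact h.disj
  have hr : φ.range = h.U := by
    ext g
    constructor
    · rintro ⟨⟨⟨_, ⟨a, rfl⟩⟩, ⟨_, ⟨b, rfl⟩⟩⟩, rfl⟩
      exact ⟨a, b, rfl⟩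
    · rintro ⟨a, b, rfl⟩
      exact ⟨(⟨x ^ a, a, rfl⟩, ⟨y ^ b, b, rfl⟩), rfl⟩
  rw [← hr, ← Nat.card_congr (MonoidHom.ofInjective hinj).toEquiv, Nat.card_prod,
    Nat.card_zpowers, Nat.card_zpowers, h.ox, h.oy]

theorem index_U (h : Wr S n x y z) : h.U.index = 2 := by
  have h1 := h.U.card_mul_index
  rw [h.card_U, h.card] at h1
  have h2 : 2 ^ (2 * n + 1) = 2 ^ n * 2 ^ n * 2 := by ring
  rw [h2] at h1
  have h3 : 0 < 2 ^ n * 2 ^ n := by positivity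
  exact Nat.eq_of_mul_eq_mul_left h3 h1

theorem cases (h : Wr S n x y z) (g : S) :
    (∃ a b : ℤ, g = x ^ a * y ^ b) ∨ (∃ a b : ℤ, g = x ^ a * y ^ b * z) := by
  by_cases hg : g ∈ h.U
  · left; exact hg
  · right
    have h1 : g * z ∈ h.U := by
      rw [Subgroup.mul_mem_iff_of_index_two h.index_U]
      exact iff_of_false hg h.z_notin_U
    obtain ⟨a, b, he⟩ := h1
    refine ⟨a, b, ?_⟩
    rw [← he, mul_assoc, h.zz, mul_one]

theorem ne (h : Wr S n x y z) (a b c d : ℤ) : x ^ a * y ^ b ≠ x ^ c * y ^ d * z := by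
  intro he
  apply h.z_notin_U
  have e : z = (x ^ c * y ^ d)⁻¹ * (x ^ a * y ^ b) := by rw [he]; group
  have hmem : (x ^ c * y ^ d)⁻¹ * (x ^ a * y ^ b) ∈ h.U :=
    mul_mem (inv_mem ⟨c, d, rfl⟩) ⟨a, b, rfl⟩
  rwa [← e] at hmem

theorem elz_notin_U (h : Wr S n x y z) (a b : ℤ) : x ^ a * y ^ b * z ∉ h.U := by
  rintro ⟨c, d, he⟩
  exact h.ne c d a b he.symm

theorem elz_eq_iff (h : Wr S n x y z) (a b c d : ℤ) :
    x ^ a * y ^ b * z = x ^ c * y ^ d * z ↔ ((2 : ℤ) ^ n) ∣ a - c ∧ ((2 : ℤ) ^ n) ∣ b - d := by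
  rw [mul_left_inj, h.el_eq_iff]

theorem sq_elz (h : Wr S n x y z) (a b : ℤ) :
    (x ^ a * y ^ b * z) * (x ^ a * y ^ b * z) = x ^ (a + b) * y ^ (a + b) := by
  rw [h.elz_mul_elz, add_comm b a]

/-! ### Conjugation -/

theorem conj_el_elz (h : Wr S n x y z) (a b c d : ℤ) :
    (x ^ c * y ^ d) * (x ^ a * y ^ b * z) * (x ^ c * y ^ d)⁻¹ =
      x ^ (a + c - d) * y ^ (b + d - c) * z := by
  rw [h.inv_el, h.el_mul_elz, h.elz_mul_el]
  congr 2
  · congr 1; ring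
  · congr 1; ring

theorem conj_z_el (h : Wr S n x y z) (a b : ℤ) : z * (x ^ a * y ^ b) * z⁻¹ = x ^ b * y ^ a := by
  rw [h.z_el, mul_assoc, mul_inv_cancel, mul_one]

theorem conj_z_elz (h : Wr S n x y z) (a b : ℤ) :
    z * (x ^ a * y ^ b * z) * z⁻¹ = x ^ b * y ^ a * z := by
  rw [mul_assoc, mul_assoc, mul_inv_cancel, mul_one, h.z_el]

theorem two_le_pow (h : Wr S n x y z) : (4 : ℤ) ≤ 2 ^ n := by
  have h2 : 2 ^ n ≥ 2 ^ 2 := Nat.pow_le_pow_right (by norm_num) h.hn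
  have : ((2 ^ n : ℕ) : ℤ) ≥ ((2 ^ 2 : ℕ) : ℤ) := by exact_mod_cast h2
  push_cast at this
  linarith

theorem two_M (h : Wr S n x y z) : (2 : ℤ) * 2 ^ (n - 1) = 2 ^ n := by
  have : n = (n - 1) + 1 := by have := h.hn; omega
  conv_rhs => rw [this, pow_succ]
  ring

theorem M_pos (h : Wr S n x y z) : (2 : ℤ) ≤ 2 ^ (n - 1) := by
  have := h.two_le_pow
  have := h.two_M
  linarith

theorem not_dvd_one (h : Wr S n x y z) : ¬ ((2 : ℤ) ^ n) ∣ 1 := by
  intro hd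
  have := Int.le_of_dvd (by norm_num) hd
  have := h.two_le_pow
  linarith

theorem not_dvd_M (h : Wr S n x y z) : ¬ ((2 : ℤ) ^ n) ∣ 2 ^ (n - 1) := by
  intro hd
  have h1 := Int.le_of_dvd (by positivity) hd
  have := h.two_M
  have := h.M_pos
  linarith

/-- `g` commutes with `x^a y^b z` iff ... (for `g ∈ U`) -/
theorem el_comm_elz_iff (h : Wr S n x y z) (a b c d : ℤ) :
    (x ^ c * y ^ d) * (x ^ a * y ^ b * z) = (x ^ a * y ^ b * z) * (x ^ c * y ^ d) ↔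
      ((2 : ℤ) ^ n) ∣ c - d := by
  rw [h.el_mul_elz, h.elz_mul_el, h.elz_eq_iff]
  constructor
  · rintro ⟨⟨s, hs⟩, _⟩
    exact ⟨s, by linarith⟩
  · rintro ⟨s, hs⟩
    exact ⟨⟨s, by linarith⟩, ⟨-s, by linarith⟩⟩

theorem elz_comm_elz_iff (h : Wr S n x y z) (a b c d : ℤ) :
    (x ^ a * y ^ b * z) * (x ^ c * y ^ d * z) = (x ^ c * y ^ d * z) * (x ^ a * y ^ b * z) ↔
      ((2 : ℤ) ^ n) ∣ (a + d) - (c + b) := by
  rw [h.elz_mul_elz, h.elz_mul_elz, h.el_eq_iff]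
  constructor
  · rintro ⟨h1, _⟩; exact h1
  · rintro ⟨s, hs⟩
    exact ⟨⟨s, hs⟩, ⟨-s, by linarith⟩⟩

theorem mem_center_iff (h : Wr S n x y z) (g : S) :
    g ∈ Subgroup.center S ↔ ∃ a : ℤ, g = x ^ a * y ^ a := by
  rw [Subgroup.mem_center_iff]
  constructor
  · intro hg
    rcases h.cases g with ⟨a, b, rfl⟩ | ⟨a, b, rfl⟩
    · have h1 := hg z
      rw [h.z_el] at h1
      have h2 : x ^ b * y ^ a * z = x ^ a * y ^ b * z := h1
      obtain ⟨⟨s, hs⟩, _⟩ := (h.elz_eq_iff _ _ _ _).mp h2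
      exact ⟨a, h.el_congr 0 s (by ring) (by linarith)⟩
    · exfalso
      have h1 := hg (x ^ (1 : ℤ) * y ^ (0 : ℤ))
      rw [(h.el_comm_elz_iff a b 1 0)] at h1
      exact h.not_dvd_one (by simpa using h1)
  · rintro ⟨a, rfl⟩ g
    rcases h.cases g with ⟨c, d, rfl⟩ | ⟨c, d, rfl⟩
    · rw [h.mul_el, h.mul_el, add_comm c a, add_comm d a]
    · exact ((h.el_comm_elz_iff c d a a).mpr (by simp)).symm

theorem U_normal (h : Wr S n x y z) : h.U.Normal := Subgroup.normal_of_index_eq_two h.index_U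

/-- `x^a` with `2^n ∣ 2a` -/
theorem x_half (h : Wr S n x y z) (a : ℤ) (hd : ((2 : ℤ) ^ n) ∣ 2 * a) :
    x ^ a = 1 ∨ x ^ a = x ^ ((2 : ℤ) ^ (n - 1)) := by
  obtain ⟨s, hs⟩ := hd
  rw [← h.two_M] at hs
  have ha : a = 2 ^ (n - 1) * s := by linarith
  rcases Int.even_or_odd' s with ⟨t, rfl | rfl⟩
  · left
    rw [h.x_zpow_eq_one_iff]
    exact ⟨t, by rw [ha, ← h.two_M]; ring⟩
  · right
    have := (h.el_eq_iff a 0 (2 ^ (n - 1)) 0).mpr ⟨⟨t, by rw [ha, ← h.two_M]; ring⟩, by simp⟩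
    simpa using this

theorem y_half (h : Wr S n x y z) (a : ℤ) (hd : ((2 : ℤ) ^ n) ∣ 2 * a) :
    y ^ a = 1 ∨ y ^ a = y ^ ((2 : ℤ) ^ (n - 1)) := by
  obtain ⟨s, hs⟩ := hd
  rw [← h.two_M] at hs
  have ha : a = 2 ^ (n - 1) * s := by linarith
  rcases Int.even_or_odd' s with ⟨t, rfl | rfl⟩
  · left
    rw [h.y_zpow_eq_one_iff]
    exact ⟨t, by rw [ha, ← h.two_M]; ring⟩
  · right
    have := (h.el_eq_iff 0 a 0 (2 ^ (n - 1))).mpr ⟨by simp, ⟨t, by rw [ha, ← h.two_M]; ring⟩⟩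
    simpa using this

theorem sq_el (h : Wr S n x y z) (a b : ℤ) :
    (x ^ a * y ^ b) * (x ^ a * y ^ b) = x ^ (2 * a) * y ^ (2 * b) := by
  rw [h.mul_el]; congr 2 <;> ring

/-- classification of the involutions -/
theorem invol_cases (h : Wr S n x y z) (g : S) (hg : g * g = 1) (hg1 : g ≠ 1) :
    g = x ^ ((2 : ℤ) ^ (n - 1)) ∨ g = y ^ ((2 : ℤ) ^ (n - 1)) ∨
      g = x ^ ((2 : ℤ) ^ (n - 1)) * y ^ ((2 : ℤ) ^ (n - 1)) ∨ ∃ a : ℤ, g = x ^ a * y ^ (-a) * z := by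
  rcases h.cases g with ⟨a, b, rfl⟩ | ⟨a, b, rfl⟩
  · rw [h.sq_el, h.el_eq_one_iff] at hg
    rcases h.x_half a hg.1 with h1 | h1 <;> rcases h.y_half b hg.2 with h2 | h2
    · exfalso; apply hg1; rw [h1, h2, one_mul]
    · right; left; rw [h1, h2, one_mul]
    · left; rw [h1, h2, mul_one]
    · right; right; left; rw [h1, h2]
  · right; right; right
    rw [h.sq_elz, h.el_eq_one_iff] at hg
    obtain ⟨s, hs⟩ := hg.1
    exact ⟨a, by rw [h.elz_eq_iff]; exact ⟨by simp, ⟨s, by linarith⟩⟩⟩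

theorem A_sq (h : Wr S n x y z) : x ^ ((2 : ℤ) ^ (n - 1)) * x ^ ((2 : ℤ) ^ (n - 1)) = 1 := by
  rw [← zpow_add, h.x_zpow_eq_one_iff]
  exact ⟨1, by rw [← h.two_M]; ring⟩

theorem B_sq (h : Wr S n x y z) : y ^ ((2 : ℤ) ^ (n - 1)) * y ^ ((2 : ℤ) ^ (n - 1)) = 1 := by
  rw [← zpow_add, h.y_zpow_eq_one_iff]
  exact ⟨1, by rw [← h.two_M]; ring⟩

theorem A_ne_one (h : Wr S n x y z) : x ^ ((2 : ℤ) ^ (n - 1)) ≠ 1 := by
  rw [Ne, h.x_zpow_eq_one_iff]; exact h.not_dvd_M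

theorem B_ne_one (h : Wr S n x y z) : y ^ ((2 : ℤ) ^ (n - 1)) ≠ 1 := by
  rw [Ne, h.y_zpow_eq_one_iff]; exact h.not_dvd_M

theorem A_ne_B (h : Wr S n x y z) : x ^ ((2 : ℤ) ^ (n - 1)) ≠ y ^ ((2 : ℤ) ^ (n - 1)) := by
  intro he
  have := (h.el_eq_iff (2 ^ (n - 1)) 0 0 (2 ^ (n - 1))).mp (by simpa using he)
  exact h.not_dvd_M (by simpa using this.1)

theorem conj_z_A (h : Wr S n x y z) :
    z * x ^ ((2 : ℤ) ^ (n - 1)) * z⁻¹ = y ^ ((2 : ℤ) ^ (n - 1)) := h.z_x _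

theorem orderOf_of_sq {g : S} (hg : g * g = 1) (hg1 : g ≠ 1) : orderOf g = 2 := by
  haveI : Fact (Nat.Prime 2) := ⟨Nat.prime_two⟩
  exact orderOf_eq_prime (by rw [pow_two]; exact hg) hg1

theorem sq_of_orderOf {g : S} (hg : orderOf g = 2) : g * g = 1 ∧ g ≠ 1 := by
  refine ⟨by rw [← pow_two, ← hg]; exact pow_orderOf_eq_one g, ?_⟩
  intro he
  rw [he, orderOf_one] at hg
  omega

theorem AB_central (h : Wr S n x y z) (g : S) :
    g * (x ^ ((2 : ℤ) ^ (n - 1)) * y ^ ((2 : ℤ) ^ (n - 1))) =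
      (x ^ ((2 : ℤ) ^ (n - 1)) * y ^ ((2 : ℤ) ^ (n - 1))) * g :=
  (Subgroup.mem_center_iff.mp ((h.mem_center_iff _).mpr ⟨_, rfl⟩) g)

theorem AB_sq (h : Wr S n x y z) :
    (x ^ ((2 : ℤ) ^ (n - 1)) * y ^ ((2 : ℤ) ^ (n - 1))) *
      (x ^ ((2 : ℤ) ^ (n - 1)) * y ^ ((2 : ℤ) ^ (n - 1))) = 1 := by
  rw [h.mul_el, zpow_add, h.A_sq, zpow_add, h.B_sq, one_mul]

theorem AB_ne_one (h : Wr S n x y z) :
    x ^ ((2 : ℤ) ^ (n - 1)) * y ^ ((2 : ℤ) ^ (n - 1)) ≠ 1 := by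
  rw [Ne, h.el_eq_one_iff]
  exact fun hd => h.not_dvd_M hd.1

theorem z_ne_one (h : Wr S n x y z) : z ≠ 1 := by
  intro he
  have := h.oz
  rw [he, orderOf_one] at this
  omega

theorem conj_z_of_invol (h : Wr S n x y z) (a : ℤ) : IsConj z (x ^ a * y ^ (-a) * z) := by
  rw [isConj_iff]
  refine ⟨x ^ a * y ^ (0 : ℤ), ?_⟩
  have := h.conj_el_elz 0 0 a 0
  simp only [zpow_zero, one_mul, mul_one] at this ⊢
  rw [this]
  congr 2
  · congr 1; ring
  · congr 1; ring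

theorem A_mem_U (h : Wr S n x y z) : x ^ ((2 : ℤ) ^ (n - 1)) ∈ h.U :=
  ⟨(2 : ℤ) ^ (n - 1), 0, by simp⟩

theorem AB_mem_U (h : Wr S n x y z) :
    x ^ ((2 : ℤ) ^ (n - 1)) * y ^ ((2 : ℤ) ^ (n - 1)) ∈ h.U := ⟨_, _, rfl⟩

theorem not_conj_U_z (h : Wr S n x y z) (g : S) (hg : g ∈ h.U) (t : S) (ht : t ∉ h.U) :
    ¬ IsConj g t := by
  rw [isConj_iff]
  rintro ⟨c, hc⟩
  apply ht
  rw [← hc]
  exact h.U_normal.conj_mem g hg c

theorem U_comm (h : Wr S n x y z) (p q : S) (hp : p ∈ h.U) (hq : q ∈ h.U) : p * q = q * p := by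
  obtain ⟨a, b, rfl⟩ := hp
  obtain ⟨c, d, rfl⟩ := hq
  rw [h.mul_el, h.mul_el, add_comm a, add_comm b]

/-- a cyclic group of order `m` is `ZMod m` -/
theorem cyclic_equiv (g : S) (m : ℕ) (hg : orderOf g = m) (hm : 0 < m) :
    Nonempty (zpowers g ≃* Multiplicative (ZMod m)) := by
  have hc : Nat.card (zpowers g) = m := by rw [Nat.card_zpowers, hg]
  have e1 := (zmodCyclicMulEquiv (G := zpowers g) inferInstance).symm
  have e2 : Multiplicative (ZMod (Nat.card (zpowers g))) ≃* Multiplicative (ZMod m) :=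
    AddEquiv.toMultiplicative (ZMod.ringEquivCongr hc).toAddEquiv
  exact ⟨e1.trans e2⟩

theorem U_equiv (h : Wr S n x y z) :
    Nonempty (h.U ≃* Multiplicative (ZMod (2 ^ n) × ZMod (2 ^ n))) := by
  have hcomm : ∀ (m : zpowers x) (k : zpowers y),
      Commute ((zpowers x).subtype m) ((zpowers y).subtype k) := by
    rintro ⟨_, ⟨a, rfl⟩⟩ ⟨_, ⟨b, rfl⟩⟩
    exact h.cxy a b
  set φ := MonoidHom.noncommCoprod (zpowers x).subtype (zpowers y).subtype hcomm with hφ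
  have hinj : Function.Injective φ := by
    rw [MonoidHom.noncommCoprod_injective]
    refine ⟨Subtype.val_injective, Subtype.val_injective, ?_⟩
    rw [Subgroup.range_subtype, Subgroup.range_subtype, disjoint_iff]
    exact h.disj
  have hr : φ.range = h.U := by
    ext g
    constructor
    · rintro ⟨⟨⟨_, ⟨a, rfl⟩⟩, ⟨_, ⟨b, rfl⟩⟩⟩, rfl⟩
      exact ⟨a, b, rfl⟩
    · rintro ⟨a, b, rfl⟩
      exact ⟨(⟨x ^ a, a, rfl⟩, ⟨y ^ b, b, rfl⟩), rfl⟩
  obtain ⟨ex⟩ := cyclic_equiv x (2 ^ n) h.ox (by positivity)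
  obtain ⟨ey⟩ := cyclic_equiv y (2 ^ n) h.oy (by positivity)
  have e1 : (zpowers x × zpowers y) ≃* φ.range := MonoidHom.ofInjective hinj
  have e2 : φ.range ≃* h.U := MulEquiv.subgroupCongr hr
  have e3 : (zpowers x × zpowers y) ≃* Multiplicative (ZMod (2 ^ n)) × Multiplicative (ZMod (2 ^ n)) :=
    MulEquiv.prodCongr ex ey
  have e4 : Multiplicative (ZMod (2 ^ n) × ZMod (2 ^ n)) ≃*
      Multiplicative (ZMod (2 ^ n)) × Multiplicative (ZMod (2 ^ n)) := MulEquiv.prodMultiplicative _ _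
  exact ⟨((e2.symm.trans e1.symm).trans e3).trans e4.symm⟩

/-- the unique abelian subgroup of index 2 -/
theorem abelian_index_two (h : Wr S n x y z) (V : Subgroup S) (hV : V.index = 2)
    (hVc : ∀ p ∈ V, ∀ q ∈ V, p * q = q * p) : V = h.U := by
  have hVU : V ≤ h.U := by
    intro g hg
    by_contra hgU
    rcases h.cases g with ⟨a, b, rfl⟩ | ⟨a, b, rfl⟩
    · exact hgU ⟨a, b, rfl⟩
    · have hx2 : x * x ∈ V := (Subgroup.mul_mem_iff_of_index_two hV).mpr Iff.rfl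
      have e : x * x = x ^ (2 : ℤ) * y ^ (0 : ℤ) := by rw [zpow_two, zpow_zero, mul_one]
      have h1 := hVc _ hx2 _ hg
      rw [e, h.el_comm_elz_iff] at h1
      have h2 := Int.le_of_dvd (by norm_num) h1
      have := h.two_le_pow
      linarith
  haveI : Finite S := Nat.finite_of_card_ne_zero (by rw [h.card]; positivity)
  apply Subgroup.eq_of_le_of_card_ge hVU
  have h1 := Subgroup.card_mul_index V
  have h2 := Subgroup.card_mul_index h.U
  rw [hV] at h1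
  rw [h.index_U] at h2
  omega


/-! ### Centre, derived subgroup, central quotient -/

omit [Group S] in
theorem orderOf_of_zpow_iff {G : Type*} [Group G] (g : G) (m : ℕ)
    (hg : ∀ a : ℤ, g ^ a = 1 ↔ (m : ℤ) ∣ a) : orderOf g = m := by
  apply Nat.dvd_antisymm
  · apply orderOf_dvd_of_pow_eq_one
    have := (hg m).mpr dvd_rfl
    rwa [zpow_natCast] at this
  · have := (hg (orderOf g)).mp (by rw [zpow_natCast]; exact pow_orderOf_eq_one g)
    exact Int.natCast_dvd_natCast.mp this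

theorem xy_zpow (h : Wr S n x y z) (a : ℤ) : (x * y) ^ a = x ^ a * y ^ a :=
  Commute.mul_zpow h.comm a

theorem xyi_zpow (h : Wr S n x y z) (a : ℤ) : (x * y⁻¹) ^ a = x ^ a * y ^ (-a) := by
  have hc : Commute x y⁻¹ := Commute.inv_right h.comm
  rw [hc.mul_zpow, inv_zpow']

theorem center_eq (h : Wr S n x y z) : Subgroup.center S = zpowers (x * y) := by
  ext g
  rw [h.mem_center_iff, Subgroup.mem_zpowers_iff]
  constructor
  · rintro ⟨a, rfl⟩; exact ⟨a, h.xy_zpow a⟩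
  · rintro ⟨a, rfl⟩; exact ⟨a, h.xy_zpow a⟩

theorem orderOf_xy (h : Wr S n x y z) : orderOf (x * y) = 2 ^ n := by
  apply orderOf_of_zpow_iff
  intro a
  rw [h.xy_zpow, h.el_eq_one_iff]
  push_cast
  tauto

theorem orderOf_xyi (h : Wr S n x y z) : orderOf (x * y⁻¹) = 2 ^ n := by
  apply orderOf_of_zpow_iff
  intro a
  rw [h.xyi_zpow, h.el_eq_one_iff]
  push_cast
  constructor
  · exact fun h1 => h1.1
  · exact fun h1 => ⟨h1, (dvd_neg).mpr h1⟩

theorem card_center (h : Wr S n x y z) : Nat.card (Subgroup.center S) = 2 ^ n := by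
  rw [h.center_eq, Nat.card_zpowers, h.orderOf_xy]

theorem mem_D_iff (h : Wr S n x y z) (g : S) :
    g ∈ zpowers (x * y⁻¹) ↔ ∃ a : ℤ, g = x ^ a * y ^ (-a) := by
  rw [Subgroup.mem_zpowers_iff]
  constructor
  · rintro ⟨a, rfl⟩; exact ⟨a, h.xyi_zpow a⟩
  · rintro ⟨a, rfl⟩; exact ⟨a, h.xyi_zpow a⟩

open scoped commutatorElement in
theorem commutator_eq (h : Wr S n x y z) : commutator S = zpowers (x * y⁻¹) := by
  apply le_antisymm
  · rw [commutator_def, Subgroup.commutator_le]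
    intro g₁ _ g₂ _
    rw [h.mem_D_iff, commutatorElement_def]
    rcases h.cases g₁ with ⟨a, b, rfl⟩ | ⟨a, b, rfl⟩ <;>
      rcases h.cases g₂ with ⟨c, d, rfl⟩ | ⟨c, d, rfl⟩
    · rw [h.mul_el, h.inv_el, h.inv_el, h.mul_el, h.mul_el]
      refine ⟨0, ?_⟩
      congr 1 <;> (congr 1; ring)
    · rw [h.conj_el_elz, h.inv_elz, h.elz_mul_elz]
      refine ⟨a - b, ?_⟩
      congr 1 <;> (congr 1; ring)
    · rw [h.elz_mul_el, h.inv_elz, h.elz_mul_elz, h.inv_el, h.mul_el]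
      refine ⟨d - c, ?_⟩
      congr 1 <;> (congr 1; ring)
    · rw [h.elz_mul_elz, h.inv_elz, h.el_mul_elz, h.inv_elz, h.elz_mul_elz]
      refine ⟨a + d - b - c, ?_⟩
      congr 1 <;> (congr 1; ring)
  · rw [Subgroup.zpowers_le, commutator_def]
    have e : x * y⁻¹ = ⁅x, z⁆ := by
      rw [commutatorElement_def, mul_assoc x, mul_assoc x]
      congr 1
      have := h.z_x (-1)
      rw [zpow_neg, zpow_neg, zpow_one, zpow_one] at this
      rw [← this, mul_assoc]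
    rw [e]
    exact Subgroup.commutator_mem_commutator (Subgroup.mem_top x) (Subgroup.mem_top z)

theorem card_commutator (h : Wr S n x y z) : Nat.card (commutator S) = 2 ^ n := by
  rw [h.commutator_eq, Nat.card_zpowers, h.orderOf_xyi]

theorem center_le_U (h : Wr S n x y z) : Subgroup.center S ≤ h.U := by
  intro g hg
  obtain ⟨a, rfl⟩ := (h.mem_center_iff g).mp hg
  exact ⟨a, a, rfl⟩


theorem quot_center_equiv (h : Wr S n x y z) :
    Nonempty (S ⧸ Subgroup.center S ≃* DihedralGroup (2 ^ n)) := by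
  haveI : Finite S := Nat.finite_of_card_ne_zero (by rw [h.card]; positivity)
  haveI : NeZero (2 ^ n) := ⟨by positivity⟩
  have hcard : Nat.card (S ⧸ Subgroup.center S) = 2 * 2 ^ n := by
    have h1 := Subgroup.card_eq_card_quotient_mul_card_subgroup (Subgroup.center S)
    rw [h.card, h.card_center] at h1
    have : 2 ^ (2 * n + 1) = (2 * 2 ^ n) * 2 ^ n := by ring
    rw [this] at h1
    exact (Nat.eq_of_mul_eq_mul_right (by positivity) h1).symm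
  refine Cfsg.Agent.Lib.Helper6_DihedralLift.dihedral_equiv (2 ^ n) hcard
    (QuotientGroup.mk x) (QuotientGroup.mk z) ?_ ?_ ?_ ?_
  · apply orderOf_of_zpow_iff
    intro a
    rw [← QuotientGroup.mk_zpow, QuotientGroup.eq_one_iff, h.mem_center_iff]
    push_cast
    constructor
    · rintro ⟨c, hc⟩
      have e : x ^ a * y ^ (0 : ℤ) = x ^ c * y ^ c := by rw [zpow_zero, mul_one]; exact hc
      obtain ⟨⟨s, hs⟩, ⟨t, ht⟩⟩ := (h.el_eq_iff _ _ _ _).mp e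
      exact ⟨s - t, by linarith⟩
    · rintro ⟨s, hs⟩
      refine ⟨0, ?_⟩
      rw [zpow_zero, zpow_zero, mul_one, (h.x_zpow_eq_one_iff a).mpr ⟨s, hs⟩]
  · rw [Subgroup.mem_zpowers_iff]
    rintro ⟨k, hk⟩
    rw [← QuotientGroup.mk_zpow, QuotientGroup.eq] at hk
    have h1 := h.center_le_U hk
    apply h.z_notin_U
    have hx : x ^ k ∈ h.U := ⟨k, 0, by simp⟩
    have h2 := mul_mem hx h1
    rwa [mul_inv_cancel_left] at h2
  · rw [← QuotientGroup.mk_mul, h.zz]; rfl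
  · rw [← QuotientGroup.mk_inv, ← QuotientGroup.mk_mul, ← QuotientGroup.mk_mul, h.rel,
      ← QuotientGroup.mk_inv, QuotientGroup.eq, h.mem_center_iff]
    refine ⟨-1, ?_⟩
    rw [← h.inv_el 1 1, zpow_one, zpow_one, mul_inv_rev]


/-! ### The subgroup generated by the involutions -/

/-- elements of "degree" `a + b` divisible by `2^(n-1)` -/
def Om (h : Wr S n x y z) : Subgroup S where
  carrier := {g | ∃ a b : ℤ, ((2 : ℤ) ^ (n - 1)) ∣ a + b ∧
    (g = x ^ a * y ^ b ∨ g = x ^ a * y ^ b * z)}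
  mul_mem' := by
    rintro _ _ ⟨a, b, ⟨s, hs⟩, rfl | rfl⟩ ⟨c, d, ⟨t, ht⟩, rfl | rfl⟩
    · exact ⟨a + c, b + d, ⟨s + t, by linarith⟩, Or.inl (h.mul_el a b c d)⟩
    · exact ⟨a + c, b + d, ⟨s + t, by linarith⟩, Or.inr (h.el_mul_elz a b c d)⟩
    · exact ⟨a + d, b + c, ⟨s + t, by linarith⟩, Or.inr (h.elz_mul_el a b c d)⟩
    · exact ⟨a + d, b + c, ⟨s + t, by linarith⟩, Or.inl (h.elz_mul_elz a b c d)⟩
  one_mem' := ⟨0, 0, by simp, Or.inl (by simp)⟩
  inv_mem' := by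
    rintro _ ⟨a, b, ⟨s, hs⟩, rfl | rfl⟩
    · exact ⟨-a, -b, ⟨-s, by linarith⟩, Or.inl (h.inv_el a b)⟩
    · exact ⟨-b, -a, ⟨-s, by linarith⟩, Or.inr (h.inv_elz a b)⟩

theorem mem_Om (h : Wr S n x y z) (g : S) : g ∈ h.Om ↔ ∃ a b : ℤ, ((2 : ℤ) ^ (n - 1)) ∣ a + b ∧
    (g = x ^ a * y ^ b ∨ g = x ^ a * y ^ b * z) := Iff.rfl

theorem Om_normal (h : Wr S n x y z) : h.Om.Normal := by
  apply Subgroup.Normal.of_commutator_le
  rw [h.commutator_eq, Subgroup.zpowers_le]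
  exact ⟨1, -1, by simp, Or.inl (by rw [zpow_one, zpow_neg, zpow_one])⟩

theorem elz_invol (h : Wr S n x y z) (a : ℤ) : orderOf (x ^ a * y ^ (-a) * z) = 2 := by
  apply orderOf_of_sq
  · rw [h.sq_elz]; simp
  · intro he
    have := h.ne 0 0 a (-a)
    apply this
    rw [he]; simp

theorem invol_mem_Om (h : Wr S n x y z) (g : S) (hg : orderOf g = 2) : g ∈ h.Om := by
  obtain ⟨h1, h2⟩ := sq_of_orderOf hg
  rcases h.invol_cases g h1 h2 with rfl | rfl | rfl | ⟨a, rfl⟩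
  · exact ⟨2 ^ (n - 1), 0, by simp, Or.inl (by simp)⟩
  · exact ⟨0, 2 ^ (n - 1), by simp, Or.inl (by simp)⟩
  · exact ⟨2 ^ (n - 1), 2 ^ (n - 1), ⟨2, by ring⟩, Or.inl rfl⟩
  · exact ⟨a, -a, by simp, Or.inr rfl⟩

theorem closure_invol_eq (h : Wr S n x y z) :
    Subgroup.closure {g : S | orderOf g = 2} = h.Om := by
  apply le_antisymm
  · rw [Subgroup.closure_le]
    exact fun g hg => h.invol_mem_Om g hg
  · have hz : z ∈ Subgroup.closure {g : S | orderOf g = 2} := Subgroup.subset_closure h.oz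
    have hel : ∀ a b : ℤ, ((2 : ℤ) ^ (n - 1)) ∣ a + b →
        x ^ a * y ^ b ∈ Subgroup.closure {g : S | orderOf g = 2} := by
      rintro a b ⟨s, hs⟩
      have e : x ^ a * y ^ b =
          (x ^ a * y ^ (-a) * z) * z * (y ^ ((2 : ℤ) ^ (n - 1))) ^ s := by
        rw [mul_assoc _ z z, h.zz, mul_one, ← zpow_mul, mul_assoc, ← zpow_add]
        congr 2
        linarith
      rw [e]
      refine mul_mem (mul_mem (Subgroup.subset_closure (h.elz_invol a)) hz) (zpow_mem ?_ s)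
      exact Subgroup.subset_closure (orderOf_of_sq h.B_sq h.B_ne_one)
    rintro _ ⟨a, b, hab, rfl | rfl⟩
    · exact hel a b hab
    · exact mul_mem (hel a b hab) hz

theorem Om_sup (h : Wr S n x y z) : h.Om ⊔ zpowers x = ⊤ := by
  rw [eq_top_iff, sup_comm]
  intro g _
  rcases h.cases g with ⟨a, b, rfl⟩ | ⟨a, b, rfl⟩
  · have e : x ^ a * y ^ b = x ^ (a + b) * (x ^ (-b) * y ^ b) := by
      rw [← mul_assoc, ← zpow_add]
      congr 2; ring
    rw [e]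
    exact Subgroup.mul_mem_sup (zpow_mem (mem_zpowers x) _) ⟨-b, b, by simp, Or.inl rfl⟩
  · have e : x ^ a * y ^ b * z = x ^ (a + b) * (x ^ (-b) * y ^ b * z) := by
      rw [← mul_assoc, ← mul_assoc, ← zpow_add]
      congr 3; ring
    rw [e]
    exact Subgroup.mul_mem_sup (zpow_mem (mem_zpowers x) _) ⟨-b, b, by simp, Or.inr rfl⟩

theorem Om_inf (h : Wr S n x y z) : h.Om ⊓ zpowers x = zpowers (x ^ ((2 : ℤ) ^ (n - 1))) := by
  ext g
  rw [Subgroup.mem_inf, Subgroup.mem_zpowers_iff, Subgroup.mem_zpowers_iff]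
  constructor
  · rintro ⟨⟨a, b, ⟨s, hs⟩, hg | hg⟩, ⟨k, rfl⟩⟩
    · have e : x ^ k * y ^ (0 : ℤ) = x ^ a * y ^ b := by rw [zpow_zero, mul_one]; exact hg
      obtain ⟨⟨u, hu⟩, ⟨v, hv⟩⟩ := (h.el_eq_iff _ _ _ _).mp e
      refine ⟨s + 2 * v + 2 * u, ?_⟩
      rw [← zpow_mul]
      congr 1
      have := h.two_M
      linear_combination (-1 : ℤ) * hs - hu - hv + (u + v) * this
    · exfalso
      have e : x ^ k * y ^ (0 : ℤ) = x ^ a * y ^ b * z := by rw [zpow_zero, mul_one]; exact hg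
      exact h.ne _ _ _ _ e
  · rintro ⟨k, rfl⟩
    rw [← zpow_mul]
    exact ⟨⟨2 ^ (n - 1) * k, 0, ⟨k, by ring⟩, Or.inl (by simp)⟩, ⟨_, rfl⟩⟩


theorem card_Om (h : Wr S n x y z) : Nat.card h.Om = 2 ^ (n + 2) := by
  haveI : Finite S := Nat.finite_of_card_ne_zero (by rw [h.card]; positivity)
  haveI := h.Om_normal
  have h1 : h.Om.index = h.Om.relIndex (zpowers x) := by
    rw [← Subgroup.relIndex_top_right, ← h.Om_sup, Subgroup.relIndex_sup_left]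
  have h2 : h.Om.relIndex (zpowers x) = (h.Om ⊓ zpowers x).relIndex (zpowers x) :=
    (Subgroup.inf_relIndex_right h.Om (zpowers x)).symm
  have h3 : Nat.card (h.Om ⊓ zpowers x : Subgroup S) *
      (h.Om ⊓ zpowers x).relIndex (zpowers x) = Nat.card (zpowers x) := by
    rw [← Subgroup.relIndex_bot_left, Subgroup.relIndex_mul_relIndex _ _ _ bot_le inf_le_right,
      Subgroup.relIndex_bot_left]
  have h4 := Subgroup.card_mul_index h.Om
  rw [h1, h2, h.card] at h4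
  rw [h.Om_inf] at h3 h4
  rw [Nat.card_zpowers, Nat.card_zpowers, orderOf_of_sq h.A_sq h.A_ne_one, h.ox] at h3
  have hn := h.hn
  obtain ⟨k, rfl⟩ : ∃ k, n = k + 1 := ⟨n - 1, by omega⟩
  have hr : (zpowers (x ^ ((2 : ℤ) ^ (k + 1 - 1)))).relIndex (zpowers x) = 2 ^ k := by
    apply Nat.eq_of_mul_eq_mul_left (show 0 < 2 by norm_num)
    rw [h3, pow_succ, mul_comm]
  rw [hr] at h4
  have e : 2 ^ (2 * (k + 1) + 1) = 2 ^ (k + 1 + 2) * 2 ^ k := by
    rw [← pow_add]; congr 1; omega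
  rw [e] at h4
  exact Nat.eq_of_mul_eq_mul_right (by positivity) h4

end Wr

end Cfsg.Agent.Lib.Helper5_Wreath
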