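import Mathlib
import Cfsg.Agent.Lib.Helper5_Wreath
import Cfsg.Agent.Lib.Helper5_FourFix

set_option autoImplicit false

/-!
helper5: the four-subgroups of the wreathed 2-group `Z_{2^n} ≀ Z_2`.
-/

namespace Cfsg.Agent.Lib.Helper5_WreathFour

open Subgroup Cfsg.Agent.Lib.Helper5_Wreath Cfsg.Agent.Lib.Helper5_KleinSub
  Cfsg.Agent.Lib.Helper5_FourFix

variable {S : Type*} [Group S] {n : ℕ} {x y z : S}

/-- the normal four-group `Ω₁(⟨x, y⟩)` -/
def T0 (h : Wr S n x y z) : Subgroup S :=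
  kleinSub (x ^ ((2 : ℤ) ^ (n - 1))) (y ^ ((2 : ℤ) ^ (n - 1))) h.A_sq h.B_sq (h.cxy _ _)

theorem mem_T0 (h : Wr S n x y z) (g : S) : g ∈ T0 h ↔ g = 1 ∨ g = x ^ ((2 : ℤ) ^ (n - 1)) ∨
    g = y ^ ((2 : ℤ) ^ (n - 1)) ∨ g = x ^ ((2 : ℤ) ^ (n - 1)) * y ^ ((2 : ℤ) ^ (n - 1)) :=
  mem_kleinSub

theorem card_T0 (h : Wr S n x y z) : Nat.card (T0 h) = 4 :=
  card_kleinSub _ _ _ _ _ h.A_ne_one h.B_ne_one h.A_ne_B

theorem isKleinFour_T0 [Finite S] (h : Wr S n x y z) : IsKleinFour (T0 h) :=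
  isKleinFour_of _ (card_T0 h) (fun g hg => by rw [pow_two]; exact sq_eq_one_of_mem_kleinSub hg)

theorem B_mem_U (h : Wr S n x y z) : y ^ ((2 : ℤ) ^ (n - 1)) ∈ h.U :=
  ⟨0, (2 : ℤ) ^ (n - 1), by simp⟩

theorem mem_T0_iff (h : Wr S n x y z) (g : S) : g ∈ T0 h ↔ g ∈ h.U ∧ g * g = 1 := by
  constructor
  · intro hg
    refine ⟨?_, sq_eq_one_of_mem_kleinSub hg⟩
    rcases (mem_T0 h g).mp hg with rfl | rfl | rfl | rfl
    · exact one_mem _
    · exact h.A_mem_U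
    · exact B_mem_U h
    · exact h.AB_mem_U
  · rintro ⟨hgU, hg2⟩
    rw [mem_T0]
    by_cases hg1 : g = 1
    · left; exact hg1
    · rcases h.invol_cases g hg2 hg1 with he | he | he | ⟨a, he⟩
      · right; left; exact he
      · right; right; left; exact he
      · right; right; right; exact he
      · exact absurd (he ▸ hgU) (h.elz_notin_U _ _)

theorem T0_normal (h : Wr S n x y z) : (T0 h).Normal := by
  constructor
  intro g hg c
  rw [mem_T0_iff] at hg ⊢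
  refine ⟨h.U_normal.conj_mem g hg.1 c, ?_⟩
  have : c * g * c⁻¹ * (c * g * c⁻¹) = c * (g * g) * c⁻¹ := by group
  rw [this, hg.2]; group

/-- the four-group `⟨ab, t⟩` for an involution `t` outside `⟨x, y⟩` -/
def Tt (h : Wr S n x y z) (t : S) (ht : t * t = 1) : Subgroup S :=
  kleinSub (x ^ ((2 : ℤ) ^ (n - 1)) * y ^ ((2 : ℤ) ^ (n - 1))) t h.AB_sq ht (h.AB_central t).symm

theorem mem_Tt (h : Wr S n x y z) (t : S) (ht : t * t = 1) (g : S) : g ∈ Tt h t ht ↔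
    g = 1 ∨ g = x ^ ((2 : ℤ) ^ (n - 1)) * y ^ ((2 : ℤ) ^ (n - 1)) ∨ g = t ∨
      g = x ^ ((2 : ℤ) ^ (n - 1)) * y ^ ((2 : ℤ) ^ (n - 1)) * t := mem_kleinSub

theorem card_Tt (h : Wr S n x y z) (t : S) (ht : t * t = 1) (htU : t ∉ h.U) :
    Nat.card (Tt h t ht) = 4 :=
  card_kleinSub _ _ _ _ _ h.AB_ne_one (fun he => htU (he ▸ one_mem _))
    (fun he => htU (he ▸ h.AB_mem_U))

theorem isKleinFour_Tt [Finite S] (h : Wr S n x y z) (t : S) (ht : t * t = 1) (htU : t ∉ h.U) :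
    IsKleinFour (Tt h t ht) :=
  isKleinFour_of _ (card_Tt h t ht htU)
    (fun g hg => by rw [pow_two]; exact sq_eq_one_of_mem_kleinSub hg)

theorem Tt_ne_T0 (h : Wr S n x y z) (t : S) (ht : t * t = 1) (htU : t ∉ h.U) : Tt h t ht ≠ T0 h := by
  intro he
  have h1 : t ∈ Tt h t ht := right_mem_kleinSub _ _ _ _ _
  rw [he, mem_T0_iff] at h1
  exact htU h1.1

/-- involutions of `⟨x, y⟩` commuting with an element outside are `ab` -/
theorem invol_U_comm (h : Wr S n x y z) (s t : S) (hsU : s ∈ h.U) (hs2 : s * s = 1) (hs1 : s ≠ 1)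
    (htU : t ∉ h.U) (hst : s * t = t * s) :
    s = x ^ ((2 : ℤ) ^ (n - 1)) * y ^ ((2 : ℤ) ^ (n - 1)) := by
  rcases h.cases t with ⟨a, b, rfl⟩ | ⟨a, b, rfl⟩
  · exact absurd ⟨a, b, rfl⟩ htU
  · rcases h.invol_cases s hs2 hs1 with rfl | rfl | rfl | ⟨c, rfl⟩
    · exfalso
      have h1 : x ^ ((2 : ℤ) ^ (n - 1)) * y ^ (0 : ℤ) * (x ^ a * y ^ b * z) =
          x ^ a * y ^ b * z * (x ^ ((2 : ℤ) ^ (n - 1)) * y ^ (0 : ℤ)) := by simpa using hst
      have := (h.el_comm_elz_iff a b _ _).mp h1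
      exact h.not_dvd_M (by simpa using this)
    · exfalso
      have h1 : x ^ (0 : ℤ) * y ^ ((2 : ℤ) ^ (n - 1)) * (x ^ a * y ^ b * z) =
          x ^ a * y ^ b * z * (x ^ (0 : ℤ) * y ^ ((2 : ℤ) ^ (n - 1))) := by simpa using hst
      have := (h.el_comm_elz_iff a b _ _).mp h1
      apply h.not_dvd_M
      have h2 : ((2 : ℤ) ^ n) ∣ -(2 : ℤ) ^ (n - 1) := by simpa using this
      exact (dvd_neg.mp h2)
    · rfl
    · exact absurd hsU (h.elz_notin_U _ _)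

/-- every four-group other than `T0` is `⟨ab, t⟩` -/
theorem four_cases [Finite S] (h : Wr S n x y z) (T₁ : Subgroup S) (hT₁ : IsKleinFour T₁)
    (hne : T₁ ≠ T0 h) : ∃ a : ℤ, ∃ ht : (x ^ a * y ^ (-a) * z) * (x ^ a * y ^ (-a) * z) = 1,
      T₁ = Tt h (x ^ a * y ^ (-a) * z) ht := by
  have hT4 : Nat.card T₁ = 4 := IsKleinFour.card_four
  have hT2 := sq_of_isKleinFour T₁ hT₁
  have hsq : ∀ g ∈ T₁, g * g = 1 := fun g hg => by rw [← pow_two]; exact hT2 g hg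
  obtain ⟨t, htT, htU⟩ : ∃ t ∈ T₁, t ∉ h.U := by
    by_contra hno
    push_neg at hno
    apply hne
    apply Subgroup.eq_of_le_of_card_ge
    · intro g hg
      rw [mem_T0_iff]
      exact ⟨hno g hg, hsq g hg⟩
    · rw [hT4, card_T0]
  have ht1 : t ≠ 1 := fun he => htU (he ▸ one_mem _)
  obtain ⟨s, hsT, hs1, hst, hts, hss, htt, hmem⟩ := four_mem T₁ hT4 hT2 t htT ht1
  have hAB : x ^ ((2 : ℤ) ^ (n - 1)) * y ^ ((2 : ℤ) ^ (n - 1)) ∈ T₁ := by
    by_cases hsU : s ∈ h.U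
    · rw [← invol_U_comm h s t hsU hss hs1 htU hts.symm]; exact hsT
    · have htsU : t * s ∈ h.U := by
        rw [Subgroup.mul_mem_iff_of_index_two h.index_U]
        exact iff_of_false htU hsU
      have h2 : (t * s) * (t * s) = 1 := hsq _ (mul_mem htT hsT)
      have h1 : t * s ≠ 1 := by
        intro he
        apply hst
        have : s = t⁻¹ := by rw [eq_inv_iff_mul_eq_one, ← he, hts]
        rw [this]; exact inv_eq_of_mul_eq_one_left htt
      have h3 : (t * s) * t = t * (t * s) := by rw [mul_assoc, ← hts]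
      rw [← invol_U_comm h (t * s) t htsU h2 h1 htU h3]
      exact mul_mem htT hsT
  obtain ⟨a, hta⟩ : ∃ a : ℤ, t = x ^ a * y ^ (-a) * z := by
    rcases h.invol_cases t htt ht1 with he | he | he | ⟨a, he⟩
    · exact absurd (he ▸ h.A_mem_U) htU
    · exact absurd (he ▸ B_mem_U h) htU
    · exact absurd (he ▸ h.AB_mem_U) htU
    · exact ⟨a, he⟩
  subst hta
  refine ⟨a, htt, ?_⟩
  symm
  apply Subgroup.eq_of_le_of_card_ge
  · intro g hg
    rcases (mem_Tt h _ htt g).mp hg with rfl | rfl | rfl | rfl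
    · exact one_mem _
    · exact hAB
    · exact htT
    · exact mul_mem hAB htT
  · rw [hT4, card_Tt h _ htt htU]

/-- the four-groups `⟨ab, t⟩` are all conjugate -/
theorem Tt_conj [Finite S] (h : Wr S n x y z) (a b : ℤ)
    (hta : (x ^ a * y ^ (-a) * z) * (x ^ a * y ^ (-a) * z) = 1)
    (htb : (x ^ b * y ^ (-b) * z) * (x ^ b * y ^ (-b) * z) = 1) :
    ∃ s : S, (Tt h _ hta).map (MulAut.conj s).toMonoidHom = Tt h _ htb := by
  refine ⟨x ^ (b - a) * y ^ (0 : ℤ), ?_⟩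
  have hconj : (x ^ (b - a) * y ^ (0 : ℤ)) * (x ^ a * y ^ (-a) * z) * (x ^ (b - a) * y ^ (0 : ℤ))⁻¹ =
      x ^ b * y ^ (-b) * z := by
    rw [h.conj_el_elz]
    congr 2
    · congr 1; ring
    · congr 1; ring
  have hAB : ∀ c : S, c * (x ^ ((2 : ℤ) ^ (n - 1)) * y ^ ((2 : ℤ) ^ (n - 1))) * c⁻¹ =
      x ^ ((2 : ℤ) ^ (n - 1)) * y ^ ((2 : ℤ) ^ (n - 1)) := by
    intro c
    rw [h.AB_central c, mul_inv_cancel_right]
  apply Subgroup.eq_of_le_of_card_ge
  · rintro _ ⟨g, hg, rfl⟩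
    simp only [MulEquiv.coe_toMonoidHom, MulAut.conj_apply]
    rw [mem_Tt]
    rcases (mem_Tt h _ hta g).mp hg with rfl | rfl | rfl | rfl
    · left; group
    · right; left; exact hAB _
    · right; right; left; exact hconj
    · right; right; right
      have : ∀ c u v : S, c * (u * v) * c⁻¹ = (c * u * c⁻¹) * (c * v * c⁻¹) := by
        intro c u v; group
      rw [this, hAB, hconj]
  · rw [Subgroup.card_map_of_injective (MulAut.conj _).injective, card_Tt h _ hta (h.elz_notin_U _ _),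
      card_Tt h _ htb (h.elz_notin_U _ _)]

end Cfsg.Agent.Lib.Helper5_WreathFour
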