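import Mathlib
import Cfsg.Agent.Lib.Helper5_Wreath
import Cfsg.Agent.Lib.Helper5_MaxClassTwo

set_option autoImplicit false

/-!
helper5: the unique generalized quaternion subgroup of order `2^(n+1)` in the wreathed
2-group of order `2^(2n+1)`.
-/

namespace Cfsg.Agent.Lib.Helper5_WreathQuat

open Subgroup Cfsg.Agent.Lib.Helper5_Wreath

section QFacts

variable {m : ℕ}

theorem two_ne_zero_zmod (hm : 2 ≤ m) : (2 : ZMod (2 * m)) ≠ 0 := by
  intro h
  have h1 : ((2 : ℕ) : ZMod (2 * m)) = 0 := by exact_mod_cast h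
  rw [ZMod.natCast_eq_zero_iff] at h1
  have := Nat.le_of_dvd (by norm_num) h1
  omega

theorem m_ne_zero_zmod (hm : 2 ≤ m) : (m : ZMod (2 * m)) ≠ 0 := by
  intro h
  rw [ZMod.natCast_eq_zero_iff] at h
  have := Nat.le_of_dvd (by omega) h
  omega

theorem quat_not_comm (hm : 2 ≤ m) : ∃ p q : QuaternionGroup m, p * q ≠ q * p := by
  refine ⟨QuaternionGroup.a 1, QuaternionGroup.xa 0, ?_⟩
  rw [QuaternionGroup.a_mul_xa, QuaternionGroup.xa_mul_a]
  intro h
  have h1 := QuaternionGroup.xa.inj h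
  apply two_ne_zero_zmod hm
  linear_combination -h1

/-- central elements of a generalized quaternion group square to 1 -/
theorem quat_central_sq (hm : 2 ≤ m) (q : QuaternionGroup m) (hq : ∀ p, p * q = q * p) :
    q * q = 1 := by
  rcases q with i | i
  · have h1 := hq (QuaternionGroup.xa 0)
    rw [QuaternionGroup.a_mul_xa, QuaternionGroup.xa_mul_a] at h1
    have h2 := QuaternionGroup.xa.inj h1
    rw [QuaternionGroup.a_mul_a, QuaternionGroup.one_def]
    congr 1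
    linear_combination h2
  · exfalso
    have h1 := hq (QuaternionGroup.a 1)
    rw [QuaternionGroup.a_mul_xa, QuaternionGroup.xa_mul_a] at h1
    have h2 := QuaternionGroup.xa.inj h1
    apply two_ne_zero_zmod hm
    linear_combination -h2

/-- elements of square 1 are central -/
theorem quat_sq_central (hm : 2 ≤ m) (q : QuaternionGroup m) (hq : q * q = 1) (p : QuaternionGroup m) :
    p * q = q * p := by
  rcases q with i | i
  · rw [QuaternionGroup.a_mul_a, QuaternionGroup.one_def] at hq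
    have h1 := QuaternionGroup.a.inj hq
    rcases p with j | j
    · rw [QuaternionGroup.a_mul_a, QuaternionGroup.a_mul_a, add_comm]
    · rw [QuaternionGroup.a_mul_xa, QuaternionGroup.xa_mul_a]
      congr 1
      linear_combination h1
  · exfalso
    rw [QuaternionGroup.xa_mul_xa, QuaternionGroup.one_def] at hq
    have h1 := QuaternionGroup.a.inj hq
    apply m_ne_zero_zmod hm
    linear_combination h1

end QFacts

end Cfsg.Agent.Lib.Helper5_WreathQuat

namespace Cfsg.Agent.Lib.Helper5_Wreath.Wr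

open Subgroup Cfsg.Agent.Lib.Helper5_WreathQuat

variable {S : Type*} [Group S] {n : ℕ} {x y z : S}

/-- the generalized quaternion subgroup `⟨x y⁻¹, y^(2^(n-1)) z⟩` -/
def Yq (h : Wr S n x y z) : Subgroup S where
  carrier := {g | ∃ a : ℤ, g = x ^ a * y ^ (-a) ∨ g = x ^ a * y ^ ((2 : ℤ) ^ (n - 1) - a) * z}
  mul_mem' := by
    rintro _ _ ⟨a, rfl | rfl⟩ ⟨c, rfl | rfl⟩
    · exact ⟨a + c, Or.inl (by rw [h.mul_el]; congr 2; ring)⟩
    · exact ⟨a + c, Or.inr (by rw [h.el_mul_elz]; congr 3; ring)⟩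
    · refine ⟨a - c, Or.inr ?_⟩
      rw [h.elz_mul_el]
      congr 2
      all_goals (congr 1; ring)
    · refine ⟨a + 2 ^ (n - 1) - c, Or.inl ?_⟩
      rw [h.elz_mul_elz]
      exact h.el_congr 0 1 (by ring) (by have := h.two_M; linarith)
  one_mem' := ⟨0, Or.inl (by simp)⟩
  inv_mem' := by
    rintro _ ⟨a, rfl | rfl⟩
    · exact ⟨-a, Or.inl (by rw [h.inv_el])⟩
    · refine ⟨a - 2 ^ (n - 1), Or.inr ?_⟩
      rw [h.inv_elz, h.elz_eq_iff]
      exact ⟨⟨0, by ring⟩, ⟨-1, by have := h.two_M; linarith⟩⟩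

theorem mem_Yq (h : Wr S n x y z) (g : S) : g ∈ h.Yq ↔
    ∃ a : ℤ, g = x ^ a * y ^ (-a) ∨ g = x ^ a * y ^ ((2 : ℤ) ^ (n - 1) - a) * z := Iff.rfl

theorem u_mem_Yq (h : Wr S n x y z) : x * y⁻¹ ∈ h.Yq :=
  ⟨1, Or.inl (by rw [zpow_one, zpow_neg, zpow_one])⟩

theorem Yq_normal (h : Wr S n x y z) : h.Yq.Normal := by
  apply Subgroup.Normal.of_commutator_le
  rw [h.commutator_eq, Subgroup.zpowers_le]
  exact h.u_mem_Yq

theorem w_mem_Yq (h : Wr S n x y z) : y ^ ((2 : ℤ) ^ (n - 1)) * z ∈ h.Yq :=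
  ⟨0, Or.inr (by rw [zpow_zero, one_mul, sub_zero])⟩

theorem Yq_inf_U (h : Wr S n x y z) : h.Yq ⊓ h.U = zpowers (x * y⁻¹) := by
  ext g
  rw [Subgroup.mem_inf, h.mem_D_iff]
  constructor
  · rintro ⟨⟨a, rfl | rfl⟩, hU⟩
    · exact ⟨a, rfl⟩
    · exact absurd hU (h.elz_notin_U _ _)
  · rintro ⟨a, rfl⟩
    exact ⟨⟨a, Or.inl rfl⟩, ⟨a, -a, rfl⟩⟩

theorem card_Yq (h : Wr S n x y z) : Nat.card h.Yq = 2 ^ (n + 1) := by
  haveI : Finite S := Nat.finite_of_card_ne_zero (by rw [h.card]; positivity)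
  haveI := h.U_normal
  have h1 : h.U.relIndex h.Yq = 2 := by
    have hd : h.U.relIndex h.Yq ∣ 2 := by
      rw [← h.index_U]; exact Subgroup.relIndex_dvd_index_of_normal _ _
    rcases (Nat.dvd_prime Nat.prime_two).mp hd with h2 | h2
    · exfalso
      rw [Subgroup.relIndex_eq_one] at h2
      have := h2 h.w_mem_Yq
      have e : y ^ ((2 : ℤ) ^ (n - 1)) * z = x ^ (0 : ℤ) * y ^ ((2 : ℤ) ^ (n - 1)) * z := by
        rw [zpow_zero, one_mul]
      rw [e] at this
      exact h.elz_notin_U _ _ this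
    · exact h2
  have h3 : Nat.card (h.Yq ⊓ h.U : Subgroup S) * (h.Yq ⊓ h.U).relIndex h.Yq = Nat.card h.Yq := by
    rw [← Subgroup.relIndex_bot_left, Subgroup.relIndex_mul_relIndex _ _ _ bot_le inf_le_left,
      Subgroup.relIndex_bot_left]
  rw [inf_comm, Subgroup.inf_relIndex_right, h1, inf_comm, h.Yq_inf_U, Nat.card_zpowers,
    h.orderOf_xyi] at h3
  rw [← h3, pow_succ]


theorem conj_elz_el (h : Wr S n x y z) (a b c d : ℤ) :
    (x ^ c * y ^ d * z) * (x ^ a * y ^ b) * (x ^ c * y ^ d * z)⁻¹ = x ^ b * y ^ a := by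
  rw [h.elz_mul_el, h.inv_elz, h.elz_mul_elz]
  congr 2
  all_goals (congr 1; ring)

theorem Yq_equiv (h : Wr S n x y z) : Nonempty (h.Yq ≃* QuaternionGroup (2 ^ (n - 1))) := by
  haveI : NeZero (2 ^ (n - 1)) := ⟨by positivity⟩
  have hn := h.hn
  have h2M : 2 ^ n = 2 * 2 ^ (n - 1) := by
    obtain ⟨k, rfl⟩ : ∃ k, n = k + 1 := ⟨n - 1, by omega⟩
    rw [pow_succ, Nat.add_sub_cancel, mul_comm]
  have hcard : Nat.card h.Yq = 4 * 2 ^ (n - 1) := by
    rw [h.card_Yq, pow_succ, h2M]; ring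
  have hfin : Finite h.Yq := Nat.finite_of_card_ne_zero (by rw [hcard]; positivity)
  set a : h.Yq := ⟨x * y⁻¹, h.u_mem_Yq⟩ with ha
  set w : h.Yq := ⟨y ^ ((2 : ℤ) ^ (n - 1)) * z, h.w_mem_Yq⟩ with hw
  have ew : y ^ ((2 : ℤ) ^ (n - 1)) * z = x ^ (0 : ℤ) * y ^ ((2 : ℤ) ^ (n - 1)) * z := by
    rw [zpow_zero, one_mul]
  have eu : x * y⁻¹ = x ^ (1 : ℤ) * y ^ (-1 : ℤ) := by rw [zpow_one, zpow_neg, zpow_one]
  have hoa : orderOf a = 2 * 2 ^ (n - 1) := by
    rw [← Subgroup.orderOf_coe, ← h2M]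
    exact h.orderOf_xyi
  have hwa : w ∉ zpowers a := by
    intro hmem
    obtain ⟨k, hk⟩ := Subgroup.mem_zpowers_iff.mp hmem
    have h1 : (x * y⁻¹) ^ k = y ^ ((2 : ℤ) ^ (n - 1)) * z := by
      have := congrArg Subtype.val hk
      rwa [Subgroup.coe_zpow] at this
    rw [h.xyi_zpow, ew] at h1
    exact h.ne _ _ _ _ h1
  have hidx : (zpowers a).index = 2 := by
    have := Subgroup.card_mul_index (zpowers a)
    rw [Nat.card_zpowers, hoa, hcard] at this
    apply Nat.eq_of_mul_eq_mul_left (show 0 < 2 * 2 ^ (n - 1) by positivity)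
    rw [this]; ring
  refine Cfsg.Agent.Lib.Helper5_MaxClassTwo.quaternion_equiv (2 ^ (n - 1)) hcard a w hoa hwa hidx
    ?_ ?_
  · apply Subtype.ext
    rw [Subgroup.coe_mul, Subgroup.coe_pow]
    show (y ^ ((2 : ℤ) ^ (n - 1)) * z) * (y ^ ((2 : ℤ) ^ (n - 1)) * z) =
      (x * y⁻¹) ^ (2 ^ (n - 1))
    rw [← zpow_natCast, h.xyi_zpow, ew, h.sq_elz]
    push_cast
    exact h.el_congr 0 1 (by ring) (by have := h.two_M; linarith)
  · apply Subtype.ext
    show (y ^ ((2 : ℤ) ^ (n - 1)) * z) * (x * y⁻¹) * (y ^ ((2 : ℤ) ^ (n - 1)) * z)⁻¹ =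
      (x * y⁻¹)⁻¹
    rw [ew, eu, h.conj_elz_el, h.inv_el]
    congr 1


omit [Group S] in
theorem comm_of_form {G : Type*} [Group G] (t p q ζ₁ ζ₂ : G) (h1 : ζ₁ ∈ Subgroup.center G)
    (h2 : ζ₂ ∈ Subgroup.center G) (hp : p = ζ₁ ∨ p = ζ₁ * t) (hq : q = ζ₂ ∨ q = ζ₂ * t) :
    p * q = q * p := by
  have c1 := Subgroup.mem_center_iff.mp h1
  have c2 := Subgroup.mem_center_iff.mp h2
  rcases hp with hp | hp <;> rcases hq with hq | hq <;> rw [hp, hq]
  · exact c2 ζ₁
  · exact (c1 (ζ₂ * t)).symm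
  · exact c2 (ζ₁ * t)
  · calc (ζ₁ * t) * (ζ₂ * t) = ζ₁ * (t * ζ₂) * t := by group
      _ = ζ₁ * (ζ₂ * t) * t := by rw [c2 t]
      _ = (ζ₁ * ζ₂) * t * t := by group
      _ = (ζ₂ * ζ₁) * t * t := by rw [c2 ζ₁]
      _ = ζ₂ * (ζ₁ * t) * t := by group
      _ = ζ₂ * (t * ζ₁) * t := by rw [c1 t]
      _ = _ := by group

theorem Yq_unique (h : Wr S n x y z) (Y : Subgroup S) (hc : Nat.card Y = 2 ^ (n + 1))
    (e : Y ≃* QuaternionGroup (2 ^ (n - 1))) : Y = h.Yq := by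
  haveI : Finite S := Nat.finite_of_card_ne_zero (by rw [h.card]; positivity)
  have hn := h.hn
  have hm : 2 ≤ 2 ^ (n - 1) := by
    calc 2 = 2 ^ 1 := by norm_num
      _ ≤ 2 ^ (n - 1) := Nat.pow_le_pow_right (by norm_num) (by omega)
  have hnc : ∃ p q : Y, p * q ≠ q * p := by
    obtain ⟨p, q, hpq⟩ := quat_not_comm hm
    refine ⟨e.symm p, e.symm q, ?_⟩
    rw [← map_mul, ← map_mul]
    exact fun h' => hpq (e.symm.injective h')
  have hcs : ∀ q : Y, (∀ p : Y, p * q = q * p) → q * q = 1 := by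
    intro q hq
    have h1 := quat_central_sq hm (e q) (fun p => by
      have h2 := congrArg e (hq (e.symm p))
      rwa [map_mul, map_mul, e.apply_symm_apply] at h2)
    rw [← map_mul] at h1
    exact e.injective (by rw [h1, map_one])
  have hsc : ∀ q : Y, q * q = 1 → ∀ p : Y, p * q = q * p := by
    intro q hq p
    have h1 : e q * e q = 1 := by rw [← map_mul, hq, map_one]
    have h2 := quat_sq_central hm (e q) h1 (e p)
    rw [← map_mul, ← map_mul] at h2
    exact e.injective h2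
  have key : ∀ t ∈ Y, t ∉ h.U → t ∈ h.Yq := by
    intro t ht htU
    rcases h.cases t with ⟨c, d, rfl⟩ | ⟨c, d, rfl⟩
    · exact absurd ⟨c, d, rfl⟩ htU
    · have ht2 : (x ^ c * y ^ d * z) * (x ^ c * y ^ d * z) = x ^ (c + d) * y ^ (c + d) :=
        h.sq_elz c d
      have hcen : ∀ p : Y, p * ((⟨_, ht⟩ : Y) * ⟨_, ht⟩) = ((⟨_, ht⟩ : Y) * ⟨_, ht⟩) * p := by
        intro p
        apply Subtype.ext
        show (p : S) * ((x ^ c * y ^ d * z) * (x ^ c * y ^ d * z)) =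
          ((x ^ c * y ^ d * z) * (x ^ c * y ^ d * z)) * p
        rw [ht2]
        exact (Subgroup.mem_center_iff.mp ((h.mem_center_iff _).mpr ⟨c + d, rfl⟩) p)
      have h4 := congrArg Subtype.val (hcs _ hcen)
      have h4' : (x ^ (c + d) * y ^ (c + d)) * (x ^ (c + d) * y ^ (c + d)) = 1 := by
        rw [← ht2]; exact h4
      rw [h.sq_el, h.el_eq_one_iff] at h4'
      have hne : ¬ ((2 : ℤ) ^ n ∣ c + d) := by
        intro hd
        have ht1 : (⟨_, ht⟩ : Y) * ⟨_, ht⟩ = 1 := by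
          apply Subtype.ext
          show (x ^ c * y ^ d * z) * (x ^ c * y ^ d * z) = 1
          rw [ht2, h.el_eq_one_iff]; exact ⟨hd, hd⟩
        have hcent := hsc _ ht1
        have hform : ∀ p ∈ Y, ∃ ζ ∈ Subgroup.center S, p = ζ ∨ p = ζ * (x ^ c * y ^ d * z) := by
          intro p hp
          have hpt : p * (x ^ c * y ^ d * z) = (x ^ c * y ^ d * z) * p :=
            congrArg Subtype.val (hcent ⟨p, hp⟩)
          rcases h.cases p with ⟨a, b, rfl⟩ | ⟨a, b, rfl⟩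
          · rw [h.el_comm_elz_iff] at hpt
            obtain ⟨s, hs⟩ := hpt
            refine ⟨x ^ a * y ^ b, ?_, Or.inl rfl⟩
            rw [h.mem_center_iff]
            exact ⟨b, h.el_congr s 0 (by linarith) (by ring)⟩
          · rw [h.elz_comm_elz_iff] at hpt
            obtain ⟨s, hs⟩ := hpt
            refine ⟨(x ^ a * y ^ b * z) * (x ^ c * y ^ d * z)⁻¹, ?_, Or.inr (by group)⟩
            rw [h.inv_elz, h.elz_mul_elz, h.mem_center_iff]
            exact ⟨b + -d, h.el_congr s 0 (by linarith) (by ring)⟩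
        obtain ⟨p, q, hpq⟩ := hnc
        obtain ⟨ζ₁, hz1, hp⟩ := hform p p.2
        obtain ⟨ζ₂, hz2, hq⟩ := hform q q.2
        exact hpq (Subtype.ext (comm_of_form _ _ _ ζ₁ ζ₂ hz1 hz2 hp hq))
      obtain ⟨s, hs⟩ := h4'.1
      have h2M := h.two_M
      rcases Int.even_or_odd' s with ⟨k, rfl | rfl⟩
      · exfalso
        apply hne
        refine ⟨k, ?_⟩
        have : (2 : ℤ) * (c + d) = 2 * (2 ^ n * k) := by rw [hs]; ring
        linarith
      · refine ⟨c, Or.inr ?_⟩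
        rw [h.elz_eq_iff]
        refine ⟨⟨0, by ring⟩, ⟨k, ?_⟩⟩
        have : (2 : ℤ) * (c + d) = 2 * (2 ^ (n - 1) + 2 ^ n * k) := by
          rw [hs, ← h2M]; ring
        linarith
  have hle : Y ≤ h.Yq := by
    obtain ⟨t, ht, htU⟩ : ∃ t ∈ Y, t ∉ h.U := by
      by_contra hcon
      push_neg at hcon
      obtain ⟨p, q, hpq⟩ := hnc
      exact hpq (Subtype.ext (h.U_comm p q (hcon p p.2) (hcon q q.2)))
    intro g hg
    by_cases hgU : g ∈ h.U
    · have h1 : g * t⁻¹ ∉ h.U := by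
        intro hmem
        apply htU
        have h2 := mul_mem (inv_mem hmem) hgU
        have e' : (g * t⁻¹)⁻¹ * g = t := by group
        rwa [e'] at h2
      have h2 := key (g * t⁻¹) (mul_mem hg (inv_mem ht)) h1
      have h3 := mul_mem h2 (key t ht htU)
      have e' : g * t⁻¹ * t = g := by group
      rwa [e'] at h3
    · exact key g hg hgU
  exact Subgroup.eq_of_le_of_card_ge hle (by rw [hc, h.card_Yq])

end Cfsg.Agent.Lib.Helper5_Wreath.Wr
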