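import Mathlib
import Cfsg.Agent.Lib.Helper5_Wreath
import Cfsg.Agent.Lib.Helper5_WreathQuat
import Cfsg.Agent.Lib.Helper5_Sylow
import Cfsg.Agent.Lib.Helper5_MaxClassTwo

set_option autoImplicit false

/-!
helper5: quaternion subgroups `Q ≅ Q₈` of the wreathed 2-group and the subgroups `V = Q Z(S)`.
-/

namespace Cfsg.Agent.Lib.Helper5_Wreath.Wr

open Subgroup Cfsg.Agent.Lib.Helper5_WreathQuat

variable {S : Type*} [Group S] {n : ℕ} {x y z : S}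

/-- change the involution `z` to `x^c y^(-c) z` -/
theorem rebase (h : Wr S n x y z) (c : ℤ) : Wr S n x y (x ^ c * y ^ (-c) * z) where
  hn := h.hn
  card := h.card
  ox := h.ox
  comm := h.comm
  disj := h.disj
  oz := h.elz_invol c
  rel := by
    have := h.conj_elz_el 1 0 c (-c)
    simp only [zpow_one, zpow_zero, mul_one, one_mul] at this
    exact this

theorem rebase_U (h : Wr S n x y z) (c : ℤ) : (h.rebase c).U = h.U := rfl

/-- a subgroup not contained in `U` has twice the order of its intersection with `U` -/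
theorem card_eq_two_mul (h : Wr S n x y z) (H : Subgroup S) (hH : ¬ H ≤ h.U) :
    Nat.card H = Nat.card (H ⊓ h.U : Subgroup S) * 2 := by
  haveI : Finite S := Nat.finite_of_card_ne_zero (by rw [h.card]; positivity)
  haveI := h.U_normal
  have h1 : h.U.relIndex H = 2 := by
    have hd : h.U.relIndex H ∣ 2 := by
      rw [← h.index_U]; exact Subgroup.relIndex_dvd_index_of_normal _ _
    rcases (Nat.dvd_prime Nat.prime_two).mp hd with h2 | h2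
    · exfalso
      rw [Subgroup.relIndex_eq_one] at h2
      exact hH h2
    · exact h2
  have h3 : Nat.card (H ⊓ h.U : Subgroup S) * (H ⊓ h.U).relIndex H = Nat.card H := by
    rw [← Subgroup.relIndex_bot_left, Subgroup.relIndex_mul_relIndex _ _ _ bot_le inf_le_left,
      Subgroup.relIndex_bot_left]
  rw [inf_comm, Subgroup.inf_relIndex_right, h1, inf_comm] at h3
  exact h3.symm

/-- every (generalized) quaternion subgroup lies in `Yq` -/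
theorem quat_le_Yq (h : Wr S n x y z) (m : ℕ) (hm : 2 ≤ m) (Y : Subgroup S)
    (e : Y ≃* QuaternionGroup m) : Y ≤ h.Yq := by
  haveI : Finite S := Nat.finite_of_card_ne_zero (by rw [h.card]; positivity)
  have hn := h.hn
  have hnc : ∃ p q : Y, p * q ≠ q * p := by
    obtain ⟨p, q, hpq⟩ := quat_not_comm hm
    refine ⟨e.symm p, e.symm q, ?_⟩
    rw [← map_mul, ← map_mul]
    exact fun h' => hpq (e.symm.injective h')
  have hcs : ∀ q : Y, (∀ p : Y, p * q = q * p) → q * q = 1 := by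
    intro q hq
    have h1 := quat_central_sq hm (e q) (fun p => by
      have h2 := congrArg e (hq (e.symm p))
      rwa [map_mul, map_mul, e.apply_symm_apply] at h2)
    rw [← map_mul] at h1
    exact e.injective (by rw [h1, map_one])
  have hsc : ∀ q : Y, q * q = 1 → ∀ p : Y, p * q = q * p := by
    intro q hq p
    have h1 : e q * e q = 1 := by rw [← map_mul, hq, map_one]
    have h2 := quat_sq_central hm (e q) h1 (e p)
    rw [← map_mul, ← map_mul] at h2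
    exact e.injective h2
  have key : ∀ t ∈ Y, t ∉ h.U → t ∈ h.Yq := by
    intro t ht htU
    rcases h.cases t with ⟨c, d, rfl⟩ | ⟨c, d, rfl⟩
    · exact absurd ⟨c, d, rfl⟩ htU
    · have ht2 : (x ^ c * y ^ d * z) * (x ^ c * y ^ d * z) = x ^ (c + d) * y ^ (c + d) :=
        h.sq_elz c d
      have hcen : ∀ p : Y, p * ((⟨_, ht⟩ : Y) * ⟨_, ht⟩) = ((⟨_, ht⟩ : Y) * ⟨_, ht⟩) * p := by
        intro p
        apply Subtype.ext
        show (p : S) * ((x ^ c * y ^ d * z) * (x ^ c * y ^ d * z)) =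
          ((x ^ c * y ^ d * z) * (x ^ c * y ^ d * z)) * p
        rw [ht2]
        exact (Subgroup.mem_center_iff.mp ((h.mem_center_iff _).mpr ⟨c + d, rfl⟩) p)
      have h4 := congrArg Subtype.val (hcs _ hcen)
      have h4' : (x ^ (c + d) * y ^ (c + d)) * (x ^ (c + d) * y ^ (c + d)) = 1 := by
        rw [← ht2]; exact h4
      rw [h.sq_el, h.el_eq_one_iff] at h4'
      have hne : ¬ ((2 : ℤ) ^ n ∣ c + d) := by
        intro hd
        have ht1 : (⟨_, ht⟩ : Y) * ⟨_, ht⟩ = 1 := by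
          apply Subtype.ext
          show (x ^ c * y ^ d * z) * (x ^ c * y ^ d * z) = 1
          rw [ht2, h.el_eq_one_iff]; exact ⟨hd, hd⟩
        have hcent := hsc _ ht1
        have hform : ∀ p ∈ Y, ∃ ζ ∈ Subgroup.center S, p = ζ ∨ p = ζ * (x ^ c * y ^ d * z) := by
          intro p hp
          have hpt : p * (x ^ c * y ^ d * z) = (x ^ c * y ^ d * z) * p :=
            congrArg Subtype.val (hcent ⟨p, hp⟩)
          rcases h.cases p with ⟨a, b, rfl⟩ | ⟨a, b, rfl⟩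
          · rw [h.el_comm_elz_iff] at hpt
            obtain ⟨s, hs⟩ := hpt
            refine ⟨x ^ a * y ^ b, ?_, Or.inl rfl⟩
            rw [h.mem_center_iff]
            exact ⟨b, h.el_congr s 0 (by linarith) (by ring)⟩
          · rw [h.elz_comm_elz_iff] at hpt
            obtain ⟨s, hs⟩ := hpt
            refine ⟨(x ^ a * y ^ b * z) * (x ^ c * y ^ d * z)⁻¹, ?_, Or.inr (by group)⟩
            rw [h.inv_elz, h.elz_mul_elz, h.mem_center_iff]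
            exact ⟨b + -d, h.el_congr s 0 (by linarith) (by ring)⟩
        obtain ⟨p, q, hpq⟩ := hnc
        obtain ⟨ζ₁, hz1, hp⟩ := hform p p.2
        obtain ⟨ζ₂, hz2, hq⟩ := hform q q.2
        exact hpq (Subtype.ext (comm_of_form _ _ _ ζ₁ ζ₂ hz1 hz2 hp hq))
      obtain ⟨s, hs⟩ := h4'.1
      have h2M := h.two_M
      rcases Int.even_or_odd' s with ⟨k, rfl | rfl⟩
      · exfalso
        apply hne
        refine ⟨k, ?_⟩
        have : (2 : ℤ) * (c + d) = 2 * (2 ^ n * k) := by rw [hs]; ring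
        linarith
      · refine ⟨c, Or.inr ?_⟩
        rw [h.elz_eq_iff]
        refine ⟨⟨0, by ring⟩, ⟨k, ?_⟩⟩
        have : (2 : ℤ) * (c + d) = 2 * (2 ^ (n - 1) + 2 ^ n * k) := by
          rw [hs, ← h2M]; ring
        linarith
  obtain ⟨t, ht, htU⟩ : ∃ t ∈ Y, t ∉ h.U := by
    by_contra hcon
    push_neg at hcon
    obtain ⟨p, q, hpq⟩ := hnc
    exact hpq (Subtype.ext (h.U_comm p q (hcon p p.2) (hcon q q.2)))
  intro g hg
  by_cases hgU : g ∈ h.U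
  · have h1 : g * t⁻¹ ∉ h.U := by
      intro hmem
      apply htU
      have h2 := mul_mem (inv_mem hmem) hgU
      have e' : (g * t⁻¹)⁻¹ * g = t := by group
      rwa [e'] at h2
    have h2 := key (g * t⁻¹) (mul_mem hg (inv_mem ht)) h1
    have h3 := mul_mem h2 (key t ht htU)
    have e' : g * t⁻¹ * t = g := by group
    rwa [e'] at h3
  · exact key g hg hgU


theorem two_H (h : Wr S n x y z) : (2 : ℤ) * 2 ^ (n - 2) = 2 ^ (n - 1) := by
  have hn := h.hn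
  obtain ⟨k, rfl⟩ : ∃ k, n = k + 2 := ⟨n - 2, by omega⟩
  rw [show k + 2 - 2 = k by omega, show k + 2 - 1 = k + 1 by omega, pow_succ]; ring

theorem four_H (h : Wr S n x y z) : (4 : ℤ) * 2 ^ (n - 2) = 2 ^ n := by
  rw [← h.two_M, ← h.two_H]; ring

theorem card_mul_relIndex_of_le {G : Type*} [Group G] {H K : Subgroup G} (hHK : H ≤ K) :
    Nat.card H * H.relIndex K = Nat.card K := by
  rw [← Subgroup.relIndex_bot_left, Subgroup.relIndex_mul_relIndex _ _ _ bot_le hHK,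
    Subgroup.relIndex_bot_left]

/-! ### The subgroups `D_e = Z(S)⟨y^e z⟩` -/

/-- `Z(S) ∪ Z(S) y^e z` -/
def Dt (h : Wr S n x y z) (e : ℤ) : Subgroup S where
  carrier := {g | ∃ a : ℤ, g = x ^ a * y ^ a ∨ g = x ^ a * y ^ (a + e) * z}
  mul_mem' := by
    rintro _ _ ⟨a, rfl | rfl⟩ ⟨c, rfl | rfl⟩
    · exact ⟨a + c, Or.inl (h.mul_el a a c c)⟩
    · exact ⟨a + c, Or.inr (by rw [h.el_mul_elz]; congr 3; ring)⟩
    · exact ⟨a + c, Or.inr (by rw [h.elz_mul_el]; congr 3; ring)⟩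
    · refine ⟨a + (c + e), Or.inl ?_⟩
      rw [h.elz_mul_elz]; congr 2; ring
  one_mem' := ⟨0, Or.inl (by simp)⟩
  inv_mem' := by
    rintro _ ⟨a, rfl | rfl⟩
    · exact ⟨-a, Or.inl (h.inv_el a a)⟩
    · refine ⟨-(a + e), Or.inr ?_⟩
      rw [h.inv_elz]; congr 3; ring

theorem mem_Dt (h : Wr S n x y z) (e : ℤ) (g : S) :
    g ∈ h.Dt e ↔ ∃ a : ℤ, g = x ^ a * y ^ a ∨ g = x ^ a * y ^ (a + e) * z := Iff.rfl

theorem center_le_Dt (h : Wr S n x y z) (e : ℤ) : Subgroup.center S ≤ h.Dt e := by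
  intro g hg
  obtain ⟨a, rfl⟩ := (h.mem_center_iff g).mp hg
  exact ⟨a, Or.inl rfl⟩

theorem t_mem_Dt (h : Wr S n x y z) (e : ℤ) : y ^ e * z ∈ h.Dt e :=
  ⟨0, Or.inr (by rw [zpow_zero, one_mul, zero_add])⟩

theorem Dt_inf_U (h : Wr S n x y z) (e : ℤ) : h.Dt e ⊓ h.U = Subgroup.center S := by
  ext g
  rw [Subgroup.mem_inf, h.mem_center_iff]
  constructor
  · rintro ⟨⟨a, rfl | rfl⟩, hU⟩
    · exact ⟨a, rfl⟩
    · exact absurd hU (h.elz_notin_U _ _)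
  · rintro ⟨a, rfl⟩
    exact ⟨⟨a, Or.inl rfl⟩, ⟨a, a, rfl⟩⟩

theorem Dt_not_le_U (h : Wr S n x y z) (e : ℤ) : ¬ h.Dt e ≤ h.U := by
  intro hle
  have := hle (h.t_mem_Dt e)
  have e' : y ^ e * z = x ^ (0 : ℤ) * y ^ e * z := by rw [zpow_zero, one_mul]
  rw [e'] at this
  exact h.elz_notin_U _ _ this

theorem card_Dt (h : Wr S n x y z) (e : ℤ) : Nat.card (h.Dt e) = 2 ^ (n + 1) := by
  rw [h.card_eq_two_mul _ (h.Dt_not_le_U e), h.Dt_inf_U, h.card_center, pow_succ]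

theorem Dt_comm (h : Wr S n x y z) (e : ℤ) (p q : S) (hp : p ∈ h.Dt e) (hq : q ∈ h.Dt e) :
    p * q = q * p := by
  obtain ⟨a, rfl | rfl⟩ := hp <;> obtain ⟨c, rfl | rfl⟩ := hq
  · rw [h.mul_el, h.mul_el, add_comm]
  · exact (Subgroup.mem_center_iff.mp ((h.mem_center_iff _).mpr ⟨a, rfl⟩) _).symm
  · exact (Subgroup.mem_center_iff.mp ((h.mem_center_iff _).mpr ⟨c, rfl⟩) _)
  · rw [h.elz_mul_elz, h.elz_mul_elz]
    congr 2 <;> ring

theorem Dt_congr (h : Wr S n x y z) (e e' : ℤ) (hd : (2 : ℤ) ^ n ∣ e - e') : h.Dt e = h.Dt e' := by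
  obtain ⟨s, hs⟩ := hd
  ext g
  constructor
  · rintro ⟨a, rfl | rfl⟩
    · exact ⟨a, Or.inl rfl⟩
    · exact ⟨a, Or.inr (by rw [h.elz_eq_iff]; exact ⟨⟨0, by ring⟩, ⟨s, by linarith⟩⟩)⟩
  · rintro ⟨a, rfl | rfl⟩
    · exact ⟨a, Or.inl rfl⟩
    · exact ⟨a, Or.inr (by rw [h.elz_eq_iff]; exact ⟨⟨0, by ring⟩, ⟨-s, by linarith⟩⟩)⟩

/-! ### The subgroup `V = Q Z(S)` -/

/-- `{x^a y^b z^ε : 2^(n-1) ∣ a - b}` -/
def Vq (h : Wr S n x y z) : Subgroup S where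
  carrier := {g | ∃ a b : ℤ, ((2 : ℤ) ^ (n - 1)) ∣ a - b ∧
    (g = x ^ a * y ^ b ∨ g = x ^ a * y ^ b * z)}
  mul_mem' := by
    rintro _ _ ⟨a, b, ⟨s, hs⟩, rfl | rfl⟩ ⟨c, d, ⟨t, ht⟩, rfl | rfl⟩
    · exact ⟨a + c, b + d, ⟨s + t, by linarith⟩, Or.inl (h.mul_el a b c d)⟩
    · exact ⟨a + c, b + d, ⟨s + t, by linarith⟩, Or.inr (h.el_mul_elz a b c d)⟩
    · exact ⟨a + d, b + c, ⟨s - t, by linarith⟩, Or.inr (h.elz_mul_el a b c d)⟩
    · exact ⟨a + d, b + c, ⟨s - t, by linarith⟩, Or.inl (h.elz_mul_elz a b c d)⟩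
  one_mem' := ⟨0, 0, by simp, Or.inl (by simp)⟩
  inv_mem' := by
    rintro _ ⟨a, b, ⟨s, hs⟩, rfl | rfl⟩
    · exact ⟨-a, -b, ⟨-s, by linarith⟩, Or.inl (h.inv_el a b)⟩
    · exact ⟨-b, -a, ⟨s, by linarith⟩, Or.inr (h.inv_elz a b)⟩

theorem mem_Vq (h : Wr S n x y z) (g : S) : g ∈ h.Vq ↔ ∃ a b : ℤ, ((2 : ℤ) ^ (n - 1)) ∣ a - b ∧
    (g = x ^ a * y ^ b ∨ g = x ^ a * y ^ b * z) := Iff.rfl

theorem Dt_le_Vq (h : Wr S n x y z) (e : ℤ) (he : ((2 : ℤ) ^ (n - 1)) ∣ e) : h.Dt e ≤ h.Vq := by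
  obtain ⟨s, hs⟩ := he
  rintro _ ⟨a, rfl | rfl⟩
  · exact ⟨a, a, by simp, Or.inl rfl⟩
  · exact ⟨a, a + e, ⟨-s, by linarith⟩, Or.inr rfl⟩

/-- `V ∩ U` -/
def V1 (h : Wr S n x y z) : Subgroup S := h.Vq ⊓ h.U

theorem mem_V1 (h : Wr S n x y z) (g : S) :
    g ∈ h.V1 ↔ ∃ a b : ℤ, ((2 : ℤ) ^ (n - 1)) ∣ a - b ∧ g = x ^ a * y ^ b := by
  constructor
  · rintro ⟨⟨a, b, hab, rfl | rfl⟩, hU⟩
    · exact ⟨a, b, hab, rfl⟩
    · exact absurd hU (h.elz_notin_U _ _)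
  · rintro ⟨a, b, hab, rfl⟩
    exact ⟨⟨a, b, hab, Or.inl rfl⟩, ⟨a, b, rfl⟩⟩

theorem center_le_V1 (h : Wr S n x y z) : Subgroup.center S ≤ h.V1 := by
  intro g hg
  obtain ⟨a, rfl⟩ := (h.mem_center_iff g).mp hg
  exact (h.mem_V1 _).mpr ⟨a, a, by simp, rfl⟩

theorem card_V1 (h : Wr S n x y z) : Nat.card h.V1 = 2 ^ (n + 1) := by
  have h1 : (Subgroup.center S).relIndex h.V1 = 2 := by
    rw [Subgroup.relIndex_eq_two_iff]
    refine ⟨x ^ ((2 : ℤ) ^ (n - 2)) * y ^ (-(2 : ℤ) ^ (n - 2)), ?_, ?_⟩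
    · exact (h.mem_V1 _).mpr ⟨_, _, ⟨1, by have := h.two_H; linarith⟩, rfl⟩
    · intro b hb
      obtain ⟨p, q, ⟨s, hs⟩, rfl⟩ := (h.mem_V1 _).mp hb
      rw [h.mul_el, h.mem_center_iff, h.mem_center_iff]
      have h2H := h.two_H
      have h2M := h.two_M
      rcases Int.even_or_odd' s with ⟨k, rfl | rfl⟩
      · refine Or.inr ⟨⟨q, h.el_congr k 0 (by rw [← h2M]; linarith) (by ring)⟩, ?_⟩
        rintro ⟨c, hc⟩
        obtain ⟨⟨u, hu⟩, ⟨v, hv⟩⟩ := (h.el_eq_iff _ _ _ _).mp hc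
        have : (2 : ℤ) ^ (n - 1) * (2 * k + 1 - 2 * u + 2 * v) = 0 := by
          rw [← h2M] at hu hv
          linear_combination (-1 : ℤ) * hs + hu - hv - h2H
        have hpos : (0 : ℤ) < 2 ^ (n - 1) := by positivity
        have := (mul_eq_zero.mp this).resolve_left hpos.ne'
        omega
      · refine Or.inl ⟨⟨q - 2 ^ (n - 2), h.el_congr (k + 1) 0 ?_ (by ring)⟩, ?_⟩
        · rw [← h2M]; linear_combination hs + h2H
        · rintro ⟨c, hc⟩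
          obtain ⟨⟨u, hu⟩, ⟨v, hv⟩⟩ := (h.el_eq_iff _ _ _ _).mp hc
          have : (2 : ℤ) ^ (n - 1) * (2 * k + 1 - 2 * u + 2 * v) = 0 := by
            rw [← h2M] at hu hv
            linear_combination (-1 : ℤ) * hs + hu - hv
          have hpos : (0 : ℤ) < 2 ^ (n - 1) := by positivity
          have := (mul_eq_zero.mp this).resolve_left hpos.ne'
          omega
  have h2 := card_mul_relIndex_of_le h.center_le_V1
  rw [h1, h.card_center] at h2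
  rw [← h2, pow_succ]


theorem z_mem_Vq (h : Wr S n x y z) : z ∈ h.Vq := ⟨0, 0, by simp, Or.inr (by simp)⟩

theorem Vq_not_le_U (h : Wr S n x y z) : ¬ h.Vq ≤ h.U := fun hle => h.z_notin_U (hle h.z_mem_Vq)

theorem card_Vq (h : Wr S n x y z) : Nat.card h.Vq = 2 ^ (n + 2) := by
  rw [h.card_eq_two_mul _ h.Vq_not_le_U]
  show Nat.card h.V1 * 2 = _
  rw [h.card_V1, pow_succ, pow_succ, pow_succ]

theorem V1_comm (h : Wr S n x y z) (p q : S) (hp : p ∈ h.V1) (hq : q ∈ h.V1) : p * q = q * p :=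
  h.U_comm p q hp.2 hq.2

theorem V1_le_Vq (h : Wr S n x y z) : h.V1 ≤ h.Vq := inf_le_left

theorem V1_le_U (h : Wr S n x y z) : h.V1 ≤ h.U := inf_le_right

/-- the abelian subgroups of index 2 of `V` -/
theorem abM_cases (h : Wr S n x y z) (A : Subgroup S) (hA : A ≤ h.Vq)
    (hc : ∀ p ∈ A, ∀ q ∈ A, p * q = q * p) (hcard : Nat.card A = 2 ^ (n + 1)) :
    A = h.V1 ∨ A = h.Dt 0 ∨ A = h.Dt (2 ^ (n - 1)) := by
  haveI : Finite S := Nat.finite_of_card_ne_zero (by rw [h.card]; positivity)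
  by_cases hU : A ≤ h.U
  · left
    exact Subgroup.eq_of_le_of_card_ge (le_inf hA hU) (by rw [h.card_V1, hcard])
  · right
    obtain ⟨t, htA, htU⟩ := Set.not_subset.mp hU
    obtain ⟨c, d, ⟨s, hs⟩, rfl | rfl⟩ := hA htA
    · exact absurd ⟨c, d, rfl⟩ htU
    · have hle : A ⊓ h.U ≤ Subgroup.center S := by
        rintro g ⟨hgA, ⟨a, b, rfl⟩⟩
        have h1 := hc _ hgA _ htA
        rw [h.el_comm_elz_iff] at h1
        obtain ⟨u, hu⟩ := h1
        rw [h.mem_center_iff]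
        exact ⟨b, h.el_congr u 0 (by linarith) (by ring)⟩
      have h2 := h.card_eq_two_mul A hU
      rw [hcard, pow_succ] at h2
      have h3 : Nat.card (A ⊓ h.U : Subgroup S) = 2 ^ n := (Nat.eq_of_mul_eq_mul_right (by norm_num) h2).symm
      have h4 : A ⊓ h.U = Subgroup.center S :=
        Subgroup.eq_of_le_of_card_ge hle (by rw [h3, h.card_center])
      have hcen : Subgroup.center S ≤ A := by rw [← h4]; exact inf_le_left
      have hD : h.Dt (d - c) = A := by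
        apply Subgroup.eq_of_le_of_card_ge
        · rintro _ ⟨a, rfl | rfl⟩
          · exact hcen ((h.mem_center_iff _).mpr ⟨a, rfl⟩)
          · have e : x ^ a * y ^ (a + (d - c)) * z = (x ^ (a - c) * y ^ (a - c)) * (x ^ c * y ^ d * z) := by
              rw [h.el_mul_elz]; congr 2
              all_goals (congr 1; ring)
            rw [e]
            exact mul_mem (hcen ((h.mem_center_iff _).mpr ⟨a - c, rfl⟩)) htA
        · rw [hcard, h.card_Dt]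
      rw [← hD]
      have h2M := h.two_M
      rcases Int.even_or_odd' s with ⟨k, rfl | rfl⟩
      · left
        exact h.Dt_congr _ _ ⟨-k, by rw [← h2M]; linear_combination (-1 : ℤ) * hs⟩
      · right
        exact h.Dt_congr _ _ ⟨-(k + 1), by rw [← h2M]; linear_combination (-1 : ℤ) * hs⟩

theorem V1_ne_Dt (h : Wr S n x y z) (e : ℤ) : h.V1 ≠ h.Dt e := by
  intro he
  apply h.Dt_not_le_U e
  rw [← he]
  exact h.V1_le_U

theorem Dt0_ne_DtM (h : Wr S n x y z) : h.Dt 0 ≠ h.Dt (2 ^ (n - 1)) := by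
  intro he
  have h1 : z ∈ h.Dt 0 := ⟨0, Or.inr (by simp)⟩
  rw [he] at h1
  obtain ⟨a, h2 | h2⟩ := h1
  · have h3 : x ^ (0 : ℤ) * y ^ (0 : ℤ) * z = x ^ a * y ^ a := by
      rw [zpow_zero, zpow_zero, one_mul, one_mul]; exact h2
    exact h.ne _ _ _ _ h3.symm
  · have h3 : x ^ (0 : ℤ) * y ^ (0 : ℤ) * z = x ^ a * y ^ (a + 2 ^ (n - 1)) * z := by
      rw [zpow_zero, zpow_zero, one_mul, one_mul]; exact h2
    rw [h.elz_eq_iff] at h3
    obtain ⟨⟨u, hu⟩, ⟨v, hv⟩⟩ := h3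
    apply h.not_dvd_M
    exact ⟨u - v, by linarith⟩

/-! ### The quaternion subgroup of order 8 -/

/-- `⟨(x y⁻¹)^(2^(n-2)), y^(2^(n-1)) z⟩` -/
def Q8 (h : Wr S n x y z) : Subgroup S where
  carrier := {g | ∃ a : ℤ, ((2 : ℤ) ^ (n - 2)) ∣ a ∧
    (g = x ^ a * y ^ (-a) ∨ g = x ^ a * y ^ ((2 : ℤ) ^ (n - 1) - a) * z)}
  mul_mem' := by
    have h2H := h.two_H
    rintro _ _ ⟨a, ⟨s, hs⟩, rfl | rfl⟩ ⟨c, ⟨t, ht⟩, rfl | rfl⟩
    · exact ⟨a + c, ⟨s + t, by linarith⟩, Or.inl (by rw [h.mul_el]; congr 2; ring)⟩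
    · exact ⟨a + c, ⟨s + t, by linarith⟩, Or.inr (by rw [h.el_mul_elz]; congr 3; ring)⟩
    · refine ⟨a - c, ⟨s - t, by linarith⟩, Or.inr ?_⟩
      rw [h.elz_mul_el]
      congr 2
      all_goals (congr 1; ring)
    · refine ⟨a + 2 ^ (n - 1) - c, ⟨s + 2 - t, by linarith⟩, Or.inl ?_⟩
      rw [h.elz_mul_elz]
      exact h.el_congr 0 1 (by ring) (by have := h.two_M; linarith)
  one_mem' := ⟨0, by simp, Or.inl (by simp)⟩
  inv_mem' := by
    have h2H := h.two_H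
    rintro _ ⟨a, ⟨s, hs⟩, rfl | rfl⟩
    · exact ⟨-a, ⟨-s, by linarith⟩, Or.inl (by rw [h.inv_el])⟩
    · refine ⟨a - 2 ^ (n - 1), ⟨s - 2, by linarith⟩, Or.inr ?_⟩
      rw [h.inv_elz, h.elz_eq_iff]
      exact ⟨⟨0, by ring⟩, ⟨-1, by have := h.two_M; linarith⟩⟩

theorem mem_Q8 (h : Wr S n x y z) (g : S) : g ∈ h.Q8 ↔ ∃ a : ℤ, ((2 : ℤ) ^ (n - 2)) ∣ a ∧
    (g = x ^ a * y ^ (-a) ∨ g = x ^ a * y ^ ((2 : ℤ) ^ (n - 1) - a) * z) := Iff.rfl

theorem Q8_le_Yq (h : Wr S n x y z) : h.Q8 ≤ h.Yq := by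
  rintro g ⟨a, _, hg⟩
  exact ⟨a, hg⟩

theorem w_mem_Q8 (h : Wr S n x y z) : y ^ ((2 : ℤ) ^ (n - 1)) * z ∈ h.Q8 :=
  ⟨0, by simp, Or.inr (by rw [zpow_zero, one_mul, sub_zero])⟩

theorem uH_mem_Q8 (h : Wr S n x y z) :
    x ^ ((2 : ℤ) ^ (n - 2)) * y ^ (-(2 : ℤ) ^ (n - 2)) ∈ h.Q8 :=
  ⟨2 ^ (n - 2), dvd_rfl, Or.inl rfl⟩

theorem Q8_not_le_U (h : Wr S n x y z) : ¬ h.Q8 ≤ h.U := by
  intro hle
  have := hle h.w_mem_Q8
  have e' : y ^ ((2 : ℤ) ^ (n - 1)) * z = x ^ (0 : ℤ) * y ^ ((2 : ℤ) ^ (n - 1)) * z := by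
    rw [zpow_zero, one_mul]
  rw [e'] at this
  exact h.elz_notin_U _ _ this

theorem orderOf_uH (h : Wr S n x y z) : orderOf ((x * y⁻¹) ^ ((2 : ℤ) ^ (n - 2))) = 4 := by
  apply orderOf_of_zpow_iff
  intro k
  rw [← zpow_mul, h.xyi_zpow, h.el_eq_one_iff, ← h.four_H]
  have hH : ((2 : ℤ) ^ (n - 2)) ≠ 0 := by positivity
  push_cast
  constructor
  · rintro ⟨h1, _⟩
    rw [mul_comm (4 : ℤ)] at h1
    exact (mul_dvd_mul_iff_left hH).mp h1
  · intro h1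
    have h2 : (4 : ℤ) * 2 ^ (n - 2) ∣ 2 ^ (n - 2) * k := by
      rw [mul_comm (4 : ℤ)]; exact mul_dvd_mul_left _ h1
    exact ⟨h2, (dvd_neg).mpr h2⟩

theorem Q8_inf_U (h : Wr S n x y z) :
    h.Q8 ⊓ h.U = zpowers ((x * y⁻¹) ^ ((2 : ℤ) ^ (n - 2))) := by
  ext g
  rw [Subgroup.mem_inf, Subgroup.mem_zpowers_iff]
  constructor
  · rintro ⟨⟨a, ⟨s, hs⟩, rfl | rfl⟩, hU⟩
    · refine ⟨s, ?_⟩
      rw [← zpow_mul, h.xyi_zpow, hs]
    · exact absurd hU (h.elz_notin_U _ _)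
  · rintro ⟨k, rfl⟩
    rw [← zpow_mul, h.xyi_zpow]
    exact ⟨⟨_, ⟨k, rfl⟩, Or.inl rfl⟩, ⟨_, _, rfl⟩⟩

theorem card_Q8 (h : Wr S n x y z) : Nat.card h.Q8 = 8 := by
  rw [h.card_eq_two_mul _ h.Q8_not_le_U, h.Q8_inf_U, Nat.card_zpowers, h.orderOf_uH]


/-- every quaternion subgroup of order 8 is the standard one after changing `z` -/
theorem quat8_std (h : Wr S n x y z) (Q : Subgroup S) (e : Q ≃* QuaternionGroup 2) :
    ∃ c : ℤ, Q = (h.rebase c).Q8 := by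
  haveI : Finite S := Nat.finite_of_card_ne_zero (by rw [h.card]; positivity)
  have hcard : Nat.card Q = 8 := by
    rw [Nat.card_congr e.toEquiv, Nat.card_eq_fintype_card, QuaternionGroup.card]
  have hY := h.quat_le_Yq 2 (le_refl 2) Q e
  have hnU : ¬ Q ≤ h.U := by
    intro hle
    obtain ⟨p, q, hpq⟩ := quat_not_comm (le_refl 2)
    apply hpq
    have := h.U_comm _ _ (hle (e.symm p).2) (hle (e.symm q).2)
    have h2 : e.symm p * e.symm q = e.symm q * e.symm p := Subtype.ext this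
    have h3 := congrArg e h2
    simpa using h3
  obtain ⟨t, htQ, htU⟩ := Set.not_subset.mp hnU
  obtain ⟨c, hc | hc⟩ := hY htQ
  · exact absurd ⟨c, -c, hc⟩ htU
  have h4 : Nat.card (Q ⊓ h.U : Subgroup S) = 4 := by
    have := h.card_eq_two_mul Q hnU
    rw [hcard] at this
    omega
  have hel : ∀ g ∈ Q, g ∈ h.U → ∃ a : ℤ, ((2 : ℤ) ^ (n - 2)) ∣ a ∧ g = x ^ a * y ^ (-a) := by
    intro g hgQ hgU
    obtain ⟨a, rfl | rfl⟩ := hY hgQ
    · refine ⟨a, ?_, rfl⟩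
      have h5 : (⟨_, ⟨hgQ, hgU⟩⟩ : (Q ⊓ h.U : Subgroup S)) ^ 4 = 1 := by
        rw [← h4]; exact pow_card_eq_one'
      have h6 : (x ^ a * y ^ (-a)) ^ (4 : ℕ) = 1 := by
        have := congrArg Subtype.val h5
        simpa using this
      rw [← h.xyi_zpow, ← zpow_natCast, ← zpow_mul, h.xyi_zpow, h.el_eq_one_iff, ← h.four_H] at h6
      have hH : ((2 : ℤ) ^ (n - 2)) ≠ 0 := by positivity
      obtain ⟨h7, _⟩ := h6
      push_cast at h7
      rw [mul_comm a 4] at h7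
      exact (mul_dvd_mul_iff_left (by norm_num : (4 : ℤ) ≠ 0)).mp h7
    · exact absurd hgU (h.elz_notin_U _ _)
  refine ⟨c, ?_⟩
  apply Subgroup.eq_of_le_of_card_ge
  · intro g hgQ
    by_cases hgU : g ∈ h.U
    · obtain ⟨a, ha, rfl⟩ := hel g hgQ hgU
      exact ⟨a, ha, Or.inl rfl⟩
    · have h5 : g * t⁻¹ ∈ h.U := by
        rw [Subgroup.mul_mem_iff_of_index_two h.index_U]
        exact iff_of_false hgU (fun h' => htU (by simpa using inv_mem h'))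
      obtain ⟨a, ha, h6⟩ := hel _ (mul_mem hgQ (inv_mem htQ)) h5
      refine ⟨a, ha, Or.inr ?_⟩
      have h7 : g = (g * t⁻¹) * t := by group
      rw [h7, h6, hc, h.el_mul_elz, ← mul_assoc, h.mul_el]
      congr 2
      all_goals (congr 1; ring)
  · rw [hcard, (h.rebase c).card_Q8]

theorem Q8_le_Vq (h : Wr S n x y z) : h.Q8 ≤ h.Vq := by
  have h2H := h.two_H
  rintro _ ⟨a, ⟨s, hs⟩, rfl | rfl⟩
  · exact ⟨a, -a, ⟨s, by linear_combination 2 * hs + s * h2H⟩, Or.inl rfl⟩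
  · exact ⟨a, _, ⟨s - 1, by linear_combination 2 * hs + s * h2H⟩, Or.inr rfl⟩

theorem Q8_sup_center (h : Wr S n x y z) : h.Q8 ⊔ Subgroup.center S = h.Vq := by
  have h2H := h.two_H
  apply le_antisymm
  · exact sup_le h.Q8_le_Vq (h.center_le_V1.trans h.V1_le_Vq)
  · rintro _ ⟨a, b, ⟨s, hs⟩, rfl | rfl⟩
    · have e : x ^ a * y ^ b = (x ^ (2 ^ (n - 2) * s) * y ^ (-(2 ^ (n - 2) * s))) *
          (x ^ (b + 2 ^ (n - 2) * s) * y ^ (b + 2 ^ (n - 2) * s)) := by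
        rw [h.mul_el]
        congr 2
        · congr 1; linear_combination hs - s * h2H
        · congr 1; ring
      rw [e]
      exact Subgroup.mul_mem_sup ⟨_, ⟨s, rfl⟩, Or.inl rfl⟩ ((h.mem_center_iff _).mpr ⟨_, rfl⟩)
    · have e : x ^ a * y ^ b * z = (x ^ (2 ^ (n - 2) * (s + 1)) *
          y ^ ((2 : ℤ) ^ (n - 1) - 2 ^ (n - 2) * (s + 1)) * z) *
          (x ^ (b - 2 ^ (n - 1) + 2 ^ (n - 2) * (s + 1)) *
            y ^ (b - 2 ^ (n - 1) + 2 ^ (n - 2) * (s + 1))) := by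
        rw [h.elz_mul_el]
        congr 2
        · congr 1; linear_combination hs - (s + 1) * h2H
        · congr 1; ring
      rw [e]
      exact Subgroup.mul_mem_sup ⟨_, ⟨s + 1, rfl⟩, Or.inr rfl⟩ ((h.mem_center_iff _).mpr ⟨_, rfl⟩)

/-- the centralizer of `Q8` in `S` is the centre -/
theorem centralizer_Q8 (h : Wr S n x y z) (g : S) (hg : ∀ q ∈ h.Q8, g * q = q * g) :
    g ∈ Subgroup.center S := by
  rcases h.cases g with ⟨a, b, rfl⟩ | ⟨a, b, rfl⟩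
  · have h1 := hg _ h.w_mem_Q8
    have e' : y ^ ((2 : ℤ) ^ (n - 1)) * z = x ^ (0 : ℤ) * y ^ ((2 : ℤ) ^ (n - 1)) * z := by
      rw [zpow_zero, one_mul]
    rw [e', h.el_comm_elz_iff] at h1
    obtain ⟨u, hu⟩ := h1
    rw [h.mem_center_iff]
    exact ⟨b, h.el_congr u 0 (by linarith) (by ring)⟩
  · exfalso
    have h1 := (hg _ h.uH_mem_Q8).symm
    rw [h.el_comm_elz_iff] at h1
    apply h.not_dvd_M
    have h2H := h.two_H
    obtain ⟨u, hu⟩ := h1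
    exact ⟨u, by linarith⟩

theorem conj_elz_elz (h : Wr S n x y z) (a b p q : ℤ) :
    (x ^ p * y ^ q * z) * (x ^ a * y ^ b * z) * (x ^ p * y ^ q * z)⁻¹ =
      x ^ (b + p - q) * y ^ (a + q - p) * z := by
  rw [h.elz_mul_elz, h.inv_elz, h.el_mul_elz]
  congr 2
  all_goals (congr 1; ring)

/-- an element of `S` normalizing `D_e` (`2^(n-1) ∣ e`) lies in `V` -/
theorem mem_Vq_of_conj_mem_Dt (h : Wr S n x y z) (e : ℤ) (he : ((2 : ℤ) ^ (n - 1)) ∣ e) (s : S)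
    (hs : s * (y ^ e * z) * s⁻¹ ∈ h.Dt e) : s ∈ h.Vq := by
  have h2M := h.two_M
  obtain ⟨k, hk⟩ := he
  have e' : y ^ e * z = x ^ (0 : ℤ) * y ^ e * z := by rw [zpow_zero, one_mul]
  rw [e'] at hs
  rcases h.cases s with ⟨p, q, rfl⟩ | ⟨p, q, rfl⟩
  · rw [h.conj_el_elz] at hs
    obtain ⟨a, h1 | h1⟩ := hs
    · exact absurd h1.symm (h.ne _ _ _ _)
    · rw [h.elz_eq_iff] at h1
      obtain ⟨⟨u, hu⟩, ⟨v, hv⟩⟩ := h1
      refine ⟨p, q, ⟨u - v, ?_⟩, Or.inl rfl⟩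
      have : (2 : ℤ) * (p - q) = 2 * (2 ^ (n - 1) * (u - v)) := by
        rw [← h2M] at hu hv; linear_combination hu - hv
      linarith
  · rw [h.conj_elz_elz] at hs
    obtain ⟨a, h1 | h1⟩ := hs
    · exact absurd h1.symm (h.ne _ _ _ _)
    · rw [h.elz_eq_iff] at h1
      obtain ⟨⟨u, hu⟩, ⟨v, hv⟩⟩ := h1
      refine ⟨p, q, ⟨u - v - k, ?_⟩, Or.inr rfl⟩
      have : (2 : ℤ) * (p - q) = 2 * (2 ^ (n - 1) * (u - v - k)) := by
        rw [← h2M] at hu hv; linear_combination hu - hv - 2 * hk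
      linarith

/-- `x^(2^(n-2))` conjugates `D_M` onto `D_0` -/
theorem xH_conj_Dt (h : Wr S n x y z) :
    (h.Dt (2 ^ (n - 1))).map (MulAut.conj (x ^ ((2 : ℤ) ^ (n - 2)))).toMonoidHom = h.Dt 0 := by
  haveI : Finite S := Nat.finite_of_card_ne_zero (by rw [h.card]; positivity)
  have h2H := h.two_H
  apply Subgroup.eq_of_le_of_card_ge
  · rintro _ ⟨g, ⟨a, rfl | rfl⟩, rfl⟩
    · refine ⟨a, Or.inl ?_⟩
      simp only [MulEquiv.coe_toMonoidHom, MulAut.conj_apply]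
      have := Subgroup.mem_center_iff.mp ((h.mem_center_iff (x ^ a * y ^ a)).mpr ⟨a, rfl⟩)
        (x ^ ((2 : ℤ) ^ (n - 2)))
      rw [this, mul_assoc, mul_inv_cancel, mul_one]
    · refine ⟨a + 2 ^ (n - 2), Or.inr ?_⟩
      simp only [MulEquiv.coe_toMonoidHom, MulAut.conj_apply]
      have e1 : x ^ ((2 : ℤ) ^ (n - 2)) = x ^ ((2 : ℤ) ^ (n - 2)) * y ^ (0 : ℤ) := by
        rw [zpow_zero, mul_one]
      rw [e1, h.conj_el_elz]
      congr 2
      · congr 1; ring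
      · congr 1; linarith
  · rw [h.card_Dt, Cfsg.Agent.Lib.Helper5_Sylow.card_map_conj, h.card_Dt]

theorem xH_mem_normalizer_Vq (h : Wr S n x y z) (g : S) (hg : g ∈ h.Vq) :
    x ^ ((2 : ℤ) ^ (n - 2)) * g * (x ^ ((2 : ℤ) ^ (n - 2)))⁻¹ ∈ h.Vq := by
  have h2H := h.two_H
  have e1 : x ^ ((2 : ℤ) ^ (n - 2)) = x ^ ((2 : ℤ) ^ (n - 2)) * y ^ (0 : ℤ) := by
    rw [zpow_zero, mul_one]
  obtain ⟨a, b, ⟨s, hs⟩, rfl | rfl⟩ := hg
  · refine ⟨a, b, ⟨s, hs⟩, Or.inl ?_⟩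
    rw [e1]
    have := h.U_comm (x ^ ((2 : ℤ) ^ (n - 2)) * y ^ (0 : ℤ)) (x ^ a * y ^ b) ⟨_, _, rfl⟩ ⟨_, _, rfl⟩
    rw [this, mul_assoc, mul_inv_cancel, mul_one]
  · refine ⟨a + 2 ^ (n - 2) - 0, b + 0 - 2 ^ (n - 2), ⟨s + 1, ?_⟩, Or.inr ?_⟩
    · linarith
    · rw [e1, h.conj_el_elz]


theorem Q8_equiv (h : Wr S n x y z) : Nonempty (h.Q8 ≃* QuaternionGroup 2) := by
  have hn := h.hn
  have hcard : Nat.card h.Q8 = 4 * 2 := by rw [h.card_Q8]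
  have hfin : Finite h.Q8 := Nat.finite_of_card_ne_zero (by rw [hcard]; norm_num)
  have h2H := h.two_H
  have h2M := h.two_M
  set a : h.Q8 := ⟨x ^ ((2 : ℤ) ^ (n - 2)) * y ^ (-(2 : ℤ) ^ (n - 2)), h.uH_mem_Q8⟩ with ha
  set w : h.Q8 := ⟨y ^ ((2 : ℤ) ^ (n - 1)) * z, h.w_mem_Q8⟩ with hw
  have ew : y ^ ((2 : ℤ) ^ (n - 1)) * z = x ^ (0 : ℤ) * y ^ ((2 : ℤ) ^ (n - 1)) * z := by
    rw [zpow_zero, one_mul]
  have hoa : orderOf a = 2 * 2 := by
    rw [← Subgroup.orderOf_coe]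
    show orderOf (x ^ ((2 : ℤ) ^ (n - 2)) * y ^ (-(2 : ℤ) ^ (n - 2))) = 2 * 2
    rw [← h.xyi_zpow, h.orderOf_uH]
  have hwa : w ∉ zpowers a := by
    intro hmem
    obtain ⟨k, hk⟩ := Subgroup.mem_zpowers_iff.mp hmem
    have h1 : (x ^ ((2 : ℤ) ^ (n - 2)) * y ^ (-(2 : ℤ) ^ (n - 2))) ^ k =
        y ^ ((2 : ℤ) ^ (n - 1)) * z := by
      have := congrArg Subtype.val hk
      rwa [Subgroup.coe_zpow] at this
    rw [← h.xyi_zpow, ← zpow_mul, h.xyi_zpow, ew] at h1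
    exact h.ne _ _ _ _ h1
  have hidx : (zpowers a).index = 2 := by
    have := Subgroup.card_mul_index (zpowers a)
    rw [Nat.card_zpowers, hoa, hcard] at this
    omega
  refine Cfsg.Agent.Lib.Helper5_MaxClassTwo.quaternion_equiv 2 hcard a w hoa hwa hidx ?_ ?_
  · apply Subtype.ext
    rw [Subgroup.coe_mul, Subgroup.coe_pow]
    show (y ^ ((2 : ℤ) ^ (n - 1)) * z) * (y ^ ((2 : ℤ) ^ (n - 1)) * z) =
      (x ^ ((2 : ℤ) ^ (n - 2)) * y ^ (-(2 : ℤ) ^ (n - 2))) ^ 2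
    rw [ew, h.sq_elz, pow_two, h.mul_el]
    exact h.el_congr 0 1 (by linarith) (by linarith)
  · apply Subtype.ext
    show (y ^ ((2 : ℤ) ^ (n - 1)) * z) * (x ^ ((2 : ℤ) ^ (n - 2)) * y ^ (-(2 : ℤ) ^ (n - 2))) *
      (y ^ ((2 : ℤ) ^ (n - 1)) * z)⁻¹ = (x ^ ((2 : ℤ) ^ (n - 2)) * y ^ (-(2 : ℤ) ^ (n - 2)))⁻¹
    rw [ew, h.conj_elz_el, h.inv_el, neg_neg]

theorem V1_inf_Dt (h : Wr S n x y z) (e : ℤ) : h.V1 ⊓ h.Dt e = Subgroup.center S := by
  apply le_antisymm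
  · rw [← h.Dt_inf_U e]
    exact le_inf inf_le_right (inf_le_left.trans h.V1_le_U)
  · exact le_inf h.center_le_V1 (h.center_le_Dt e)

theorem Vq_cover (h : Wr S n x y z) (g : S) (hg : g ∈ h.Vq) :
    g ∈ h.V1 ∨ g ∈ h.Dt 0 ∨ g ∈ h.Dt (2 ^ (n - 1)) := by
  have h2M := h.two_M
  obtain ⟨a, b, ⟨s, hs⟩, rfl | rfl⟩ := hg
  · left; exact (h.mem_V1 _).mpr ⟨a, b, ⟨s, hs⟩, rfl⟩
  · rcases Int.even_or_odd' s with ⟨k, rfl | rfl⟩
    · right; left
      refine ⟨b, Or.inr ?_⟩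
      rw [h.elz_eq_iff]
      exact ⟨⟨k, by rw [← h2M]; linear_combination hs⟩, ⟨0, by ring⟩⟩
    · right; right
      refine ⟨b - 2 ^ (n - 1), Or.inr ?_⟩
      rw [h.elz_eq_iff]
      exact ⟨⟨k + 1, by rw [← h2M]; linear_combination hs⟩, ⟨0, by ring⟩⟩


/-- an abelian subgroup of order `2^(n+1)` not inside `U` meets `U` in the centre -/
theorem abelian_inf_U (h : Wr S n x y z) (A : Subgroup S)
    (hc : ∀ p ∈ A, ∀ q ∈ A, p * q = q * p) (hcard : Nat.card A = 2 ^ (n + 1)) (hU : ¬ A ≤ h.U) :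
    A ⊓ h.U = Subgroup.center S := by
  haveI : Finite S := Nat.finite_of_card_ne_zero (by rw [h.card]; positivity)
  obtain ⟨t, htA, htU⟩ := Set.not_subset.mp hU
  rcases h.cases t with ⟨c, d, rfl⟩ | ⟨c, d, rfl⟩
  · exact absurd ⟨c, d, rfl⟩ htU
  · have hle : A ⊓ h.U ≤ Subgroup.center S := by
      rintro g ⟨hgA, ⟨a, b, rfl⟩⟩
      have h1 := hc _ hgA _ htA
      rw [h.el_comm_elz_iff] at h1
      obtain ⟨u, hu⟩ := h1
      rw [h.mem_center_iff]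
      exact ⟨b, h.el_congr u 0 (by linarith) (by ring)⟩
    have h2 := h.card_eq_two_mul A hU
    rw [hcard, pow_succ] at h2
    have h3 : Nat.card (A ⊓ h.U : Subgroup S) = 2 ^ n :=
      (Nat.eq_of_mul_eq_mul_right (by norm_num) h2).symm
    exact Subgroup.eq_of_le_of_card_ge hle (by rw [h3, h.card_center])

theorem sq_mem_center_of (h : Wr S n x y z) (A : Subgroup S)
    (hAU : A ⊓ h.U = Subgroup.center S) (d : S) (hd : d ∈ A) : d * d ∈ Subgroup.center S := by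
  rcases h.cases d with ⟨a, b, rfl⟩ | ⟨a, b, rfl⟩
  · have : x ^ a * y ^ b ∈ Subgroup.center S := by
      rw [← hAU]; exact ⟨hd, ⟨a, b, rfl⟩⟩
    exact mul_mem this this
  · rw [h.sq_elz, h.mem_center_iff]; exact ⟨_, rfl⟩

theorem central_invol (h : Wr S n x y z) (g : S) (hg : g ∈ Subgroup.center S) (h2 : g * g = 1)
    (h1 : g ≠ 1) : g = x ^ ((2 : ℤ) ^ (n - 1)) * y ^ ((2 : ℤ) ^ (n - 1)) := by
  obtain ⟨c, hc⟩ := (h.mem_center_iff g).mp hg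
  have hnd : ∀ a b : ℤ, x ^ a * y ^ b = x ^ c * y ^ c → ((2 : ℤ) ^ n) ∣ a - b := by
    intro a b he
    obtain ⟨⟨u, hu⟩, ⟨v, hv⟩⟩ := (h.el_eq_iff _ _ _ _).mp he
    exact ⟨u - v, by linarith⟩
  rcases h.invol_cases g h2 h1 with he | he | he | ⟨a, he⟩
  · exfalso
    apply h.not_dvd_M
    have := hnd ((2 : ℤ) ^ (n - 1)) 0 (by rw [zpow_zero, mul_one, ← he, hc])
    simpa using this
  · exfalso
    apply h.not_dvd_M
    have := hnd 0 ((2 : ℤ) ^ (n - 1)) (by rw [zpow_zero, one_mul, ← he, hc])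
    simpa using this
  · exact he
  · exfalso
    rw [hc] at he
    exact h.ne _ _ _ _ he

theorem rebase_V1 (h : Wr S n x y z) (c : ℤ) : (h.rebase c).V1 = h.V1 := by
  ext g
  rw [mem_V1, mem_V1]

theorem V1_normal (h : Wr S n x y z) : h.V1.Normal := by
  constructor
  intro g hg s
  obtain ⟨a, b, ⟨k, hk⟩, rfl⟩ := (h.mem_V1 g).mp hg
  rcases h.cases s with ⟨p, q, rfl⟩ | ⟨p, q, rfl⟩
  · rw [h.U_comm _ _ ⟨p, q, rfl⟩ ⟨a, b, rfl⟩, mul_assoc, mul_inv_cancel, mul_one]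
    exact (h.mem_V1 _).mpr ⟨a, b, ⟨k, hk⟩, rfl⟩
  · rw [h.conj_elz_el]
    exact (h.mem_V1 _).mpr ⟨b, a, ⟨-k, by linarith⟩, rfl⟩

theorem rebase_Vq_conj (h : Wr S n x y z) (c : ℤ) :
    (h.rebase c).Vq = h.Vq.map (MulAut.conj (x ^ c)).toMonoidHom := by
  haveI : Finite S := Nat.finite_of_card_ne_zero (by rw [h.card]; positivity)
  symm
  apply Subgroup.eq_of_le_of_card_ge
  · rintro _ ⟨g, ⟨a, b, ⟨k, hk⟩, rfl | rfl⟩, rfl⟩
    · refine ⟨a, b, ⟨k, hk⟩, Or.inl ?_⟩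
      simp only [MulEquiv.coe_toMonoidHom, MulAut.conj_apply]
      have e1 : x ^ c = x ^ c * y ^ (0 : ℤ) := by rw [zpow_zero, mul_one]
      rw [e1, h.U_comm _ _ ⟨c, 0, rfl⟩ ⟨a, b, rfl⟩, mul_assoc, mul_inv_cancel, mul_one]
    · refine ⟨a, b, ⟨k, hk⟩, Or.inr ?_⟩
      simp only [MulEquiv.coe_toMonoidHom, MulAut.conj_apply]
      have hconj : x ^ c * (x ^ a * y ^ b * z) * (x ^ c)⁻¹ =
          x ^ (a + c - 0) * y ^ (b + 0 - c) * z := by
        have := h.conj_el_elz a b c 0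
        rwa [zpow_zero, mul_one] at this
      rw [hconj, h.el_mul_elz]
      congr 2
      all_goals (congr 1; ring)
  · rw [Cfsg.Agent.Lib.Helper5_Sylow.card_map_conj, h.card_Vq, (h.rebase c).card_Vq]

end Cfsg.Agent.Lib.Helper5_Wreath.Wr
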