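import Mathlib
import Cfsg.Agent.Lib.Helper5_WreathV
import Cfsg.Agent.Lib.Helper5_WreathFour
import Cfsg.Agent.Lib.Helper5_QDFusion
import Cfsg.Agent.Lib.Helper5_QDFrob
import Cfsg.Agent.Lib.Helper5_Sylow
import Cfsg.Agent.S3225

set_option autoImplicit false

/-!
helper5: fusion in finite groups with wreathed Sylow 2-subgroups.
-/

namespace Cfsg.Agent.Lib.Helper5_WreathFusion

open Subgroup Cfsg.Agent.Lib.Helper5_Wreath Cfsg.Agent.Lib.Helper5_QDFusion
  Cfsg.Agent.Lib.Helper5_WreathFour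

section Generic

variable {G : Type*} [Group G]

/-- the 2-part and the odd part of an element -/
theorem exists_two_odd_parts [Finite G] (g : G) : ∃ a b : G, a ∈ zpowers g ∧ b ∈ zpowers g ∧
    g = a * b ∧ (∃ k : ℕ, orderOf a = 2 ^ k) ∧ Odd (orderOf b) := by
  have hpos : orderOf g ≠ 0 := (orderOf_pos g).ne'
  obtain ⟨k, m, hm, hkm⟩ := Nat.exists_eq_two_pow_mul_odd hpos
  have hcop : IsCoprime ((2 ^ k : ℕ) : ℤ) (m : ℤ) := by
    rw [Nat.isCoprime_iff_coprime]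
    exact (Odd.coprime_two_left hm).pow_left k
  obtain ⟨u, v, huv⟩ := hcop
  have hg1 : g ^ (((2 ^ k : ℕ) : ℤ) * (m : ℤ)) = 1 := by
    rw [← Nat.cast_mul, ← hkm, zpow_natCast]; exact pow_orderOf_eq_one g
  refine ⟨g ^ (v * (m : ℤ)), g ^ (u * ((2 ^ k : ℕ) : ℤ)), zpow_mem (mem_zpowers g) _,
    zpow_mem (mem_zpowers g) _, ?_, ?_, ?_⟩
  · rw [← zpow_add, add_comm, huv, zpow_one]
  · have h1 : (g ^ (v * (m : ℤ))) ^ (2 ^ k) = 1 := by
      rw [← zpow_natCast, ← zpow_mul, show v * (m : ℤ) * ((2 ^ k : ℕ) : ℤ) =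
        (((2 ^ k : ℕ) : ℤ) * (m : ℤ)) * v by ring, zpow_mul, hg1, one_zpow]
    exact (Nat.dvd_prime_pow Nat.prime_two).mp (orderOf_dvd_of_pow_eq_one h1) |>.imp
      fun j hj => hj.2
  · have h1 : (g ^ (u * ((2 ^ k : ℕ) : ℤ))) ^ m = 1 := by
      rw [← zpow_natCast, ← zpow_mul, show u * ((2 ^ k : ℕ) : ℤ) * (m : ℤ) =
        (((2 ^ k : ℕ) : ℤ) * (m : ℤ)) * u by ring, zpow_mul, hg1, one_zpow]
    exact Odd.of_dvd_nat hm (orderOf_dvd_of_pow_eq_one h1)

/-- an automorphism of odd order of an abelian 2-group that is trivial on the elements of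
order at most 2 is trivial -/
theorem odd_centralizes_abelian (U : Subgroup G) (hU2 : IsPGroup 2 U)
    (hUc : ∀ a ∈ U, ∀ b ∈ U, a * b = b * a) (g : G) (hg : g ∈ normalizer (U : Set G))
    (hodd : Odd (orderOf g)) (hΩ : ∀ a ∈ U, a * a = 1 → g * a * g⁻¹ = a) :
    ∀ a ∈ U, g * a * g⁻¹ = a := by
  let A : Subgroup G :=
    { carrier := {a | a ∈ U ∧ a * a = 1}
      mul_mem' := by
        rintro a b ⟨ha, ha2⟩ ⟨hb, hb2⟩
        refine ⟨mul_mem ha hb, ?_⟩
        calc a * b * (a * b) = a * (b * a) * b := by group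
          _ = a * (a * b) * b := by rw [hUc b hb a ha]
          _ = (a * a) * (b * b) := by group
          _ = 1 := by rw [ha2, hb2, one_mul]
      one_mem' := ⟨one_mem U, by simp⟩
      inv_mem' := by
        rintro a ⟨ha, ha2⟩
        refine ⟨inv_mem ha, ?_⟩
        rw [← mul_inv_rev, ha2, inv_one] }
  have hAU : A ≤ U := fun a ha => ha.1
  have hA2 : IsPGroup 2 A := hU2.to_le hAU
  have key : ∀ k : ℕ, ∀ u ∈ U, u ^ (2 ^ k) = 1 → g * u * g⁻¹ = u := by
    intro k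
    induction k with
    | zero =>
      intro u _ hu1
      rw [pow_zero, pow_one] at hu1
      rw [hu1]; group
    | succ k ih =>
      intro u hu hu1
      have hu2 : (u * u) ^ (2 ^ k) = 1 := by
        rw [← pow_two, ← pow_mul, ← pow_succ']; exact hu1
      have h1 := ih (u * u) (mul_mem hu hu) hu2
      have hgu : g * u * g⁻¹ ∈ U := (mem_normalizer_iff.mp hg u).mp hu
      apply Cfsg.Agent.Lib.Helper5_QDFrob.odd_centralizes_ext A hA2 g hodd
        (fun a ha => hΩ a ha.1 ha.2) u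
      refine ⟨mul_mem (inv_mem hu) hgu, ?_⟩
      calc u⁻¹ * (g * u * g⁻¹) * (u⁻¹ * (g * u * g⁻¹))
          = u⁻¹ * ((g * u * g⁻¹) * u⁻¹) * (g * u * g⁻¹) := by group
        _ = u⁻¹ * (u⁻¹ * (g * u * g⁻¹)) * (g * u * g⁻¹) := by
          rw [hUc _ hgu _ (inv_mem hu)]
        _ = u⁻¹ * u⁻¹ * (g * (u * u) * g⁻¹) := by group
        _ = 1 := by rw [h1]; group
  intro a ha
  obtain ⟨k, hk⟩ := hU2 ⟨a, ha⟩
  exact key k a ha (by simpa using congrArg Subtype.val hk)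

end Generic


section SLevel

variable {S : Type*} [Group S] {n : ℕ} {x y z : S}

theorem mem_U_of_comm_A (h : Wr S n x y z) (g : S)
    (hg : g * x ^ ((2 : ℤ) ^ (n - 1)) = x ^ ((2 : ℤ) ^ (n - 1)) * g) : g ∈ h.U := by
  rcases h.cases g with ⟨a, b, rfl⟩ | ⟨a, b, rfl⟩
  · exact ⟨a, b, rfl⟩
  · exfalso
    have h1 := h.conj_elz_el ((2 : ℤ) ^ (n - 1)) 0 a b
    rw [zpow_zero, mul_one, hg, mul_assoc, mul_inv_cancel, mul_one] at h1
    have h2 : x ^ ((2 : ℤ) ^ (n - 1)) * y ^ (0 : ℤ) = x ^ (0 : ℤ) * y ^ ((2 : ℤ) ^ (n - 1)) := by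
      rw [zpow_zero, mul_one]; exact h1
    rw [h.el_eq_iff] at h2
    apply h.not_dvd_M
    simpa using h2.1

end SLevel

section Syl

variable {G : Type*} [Group G] [Finite G] (S : Sylow 2 G) {n : ℕ} {x y z : ↥(S : Subgroup G)}
  (h : Wr ↥(S : Subgroup G) n x y z)

/-- the abelian subgroup of index 2 of `S`, in `G` -/
def UG : Subgroup G := h.U.map (S : Subgroup G).subtype

/-- `Ω₁(U)`, in `G` -/
def TG : Subgroup G := (T0 h).map (S : Subgroup G).subtype

/-- `Z(S)`, in `G` -/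
def ZG : Subgroup G := (Subgroup.center ↥(S : Subgroup G)).map (S : Subgroup G).subtype

/-- `V = Q Z(S)`, in `G` -/
def VG : Subgroup G := h.Vq.map (S : Subgroup G).subtype

include h

theorem UG_le : UG S h ≤ (S : Subgroup G) := Subgroup.map_subtype_le _

theorem mem_UG (g : G) : g ∈ UG S h ↔ ∃ hg : g ∈ (S : Subgroup G), (⟨g, hg⟩ : ↥(S : Subgroup G)) ∈ h.U := by
  constructor
  · rintro ⟨s, hs, rfl⟩
    exact ⟨s.2, hs⟩
  · rintro ⟨hg, hs⟩
    exact ⟨⟨g, hg⟩, hs, rfl⟩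

theorem card_UG : Nat.card (UG S h) = 2 ^ (2 * n) := by
  rw [UG, Subgroup.card_map_of_injective (Subgroup.subtype_injective _), h.card_U, ← pow_add]
  congr 1; omega

theorem UG_comm (a : G) (ha : a ∈ UG S h) (b : G) (hb : b ∈ UG S h) : a * b = b * a := by
  obtain ⟨s, hs, rfl⟩ := ha
  obtain ⟨t, ht, rfl⟩ := hb
  exact congrArg Subtype.val (h.U_comm s t hs ht)

theorem isPGroup_S : IsPGroup 2 (S : Subgroup G) := S.2

theorem isPGroup_UG : IsPGroup 2 (UG S h) := S.2.to_le (UG_le S h)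

/-- `U` is the unique abelian subgroup of order `2^(2n)` of `S` -/
theorem UG_unique (W : Subgroup G) (hWS : W ≤ (S : Subgroup G))
    (hWc : ∀ a ∈ W, ∀ b ∈ W, a * b = b * a) (hW : Nat.card W = 2 ^ (2 * n)) : W = UG S h := by
  have h1 : Nat.card (W.subgroupOf (S : Subgroup G)) = 2 ^ (2 * n) := by
    rw [Nat.card_congr (Subgroup.subgroupOfEquivOfLe hWS).toEquiv, hW]
  have h2 : (W.subgroupOf (S : Subgroup G)).index = 2 := by
    have h3 := Subgroup.card_mul_index (W.subgroupOf (S : Subgroup G))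
    rw [h1, h.card, pow_succ] at h3
    exact Nat.eq_of_mul_eq_mul_left (by positivity) h3
  have h4 := h.abelian_index_two _ h2 (fun p hp q hq =>
    Subtype.ext (hWc _ (mem_subgroupOf.mp hp) _ (mem_subgroupOf.mp hq)))
  rw [UG, ← h4, Subgroup.map_subgroupOf_eq_of_le hWS]

/-- `U` is weakly closed in `S` -/
theorem UG_conj_eq (k : G) (hk : (UG S h).map (MulAut.conj k).toMonoidHom ≤ (S : Subgroup G)) :
    (UG S h).map (MulAut.conj k).toMonoidHom = UG S h := by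
  apply UG_unique S h _ hk
  · rintro _ ⟨a, ha, rfl⟩ _ ⟨b, hb, rfl⟩
    rw [← map_mul, ← map_mul, UG_comm S h a ha b hb]
  · rw [Cfsg.Agent.Lib.Helper5_Sylow.card_map_conj, card_UG]

theorem mem_TG_iff (g : G) : g ∈ TG S h ↔ g ∈ UG S h ∧ g * g = 1 := by
  constructor
  · rintro ⟨s, hs, rfl⟩
    obtain ⟨h1, h2⟩ := (mem_T0_iff h s).mp hs
    exact ⟨⟨s, h1, rfl⟩, congrArg Subtype.val h2⟩
  · rintro ⟨⟨s, hs, rfl⟩, h2⟩
    exact ⟨s, (mem_T0_iff h s).mpr ⟨hs, Subtype.ext h2⟩, rfl⟩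

theorem card_TG : Nat.card (TG S h) = 4 := by
  rw [TG, Subgroup.card_map_of_injective (Subgroup.subtype_injective _), card_T0]

theorem normalizer_UG_le : normalizer ((UG S h : Subgroup G) : Set G) ≤
    normalizer ((TG S h : Subgroup G) : Set G) := by
  intro g hg
  haveI : Finite ((TG S h : Subgroup G) : Set G) := Set.toFinite _
  apply Subgroup.mem_normalizer_fintype
  intro t ht
  rw [SetLike.mem_coe, mem_TG_iff] at ht ⊢
  refine ⟨(mem_normalizer_iff.mp hg t).mp ht.1, ?_⟩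
  calc g * t * g⁻¹ * (g * t * g⁻¹) = g * (t * t) * g⁻¹ := by group
    _ = 1 := by rw [ht.2]; group

omit [Finite G] in
theorem A_mem_TG : ((x ^ ((2 : ℤ) ^ (n - 1)) : ↥(S : Subgroup G)) : G) ∈ TG S h :=
  ⟨_, (mem_T0 h _).mpr (Or.inr (Or.inl rfl)), rfl⟩

/-- an element of `S` centralizing `Ω₁(U)` lies in `U` -/
theorem mem_UG_of_cent_TG (g : G) (hgS : g ∈ (S : Subgroup G))
    (hg : ∀ t ∈ TG S h, g * t * g⁻¹ = t) : g ∈ UG S h := by
  have h1 := hg _ (A_mem_TG S h)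
  refine ⟨⟨g, hgS⟩, ?_, rfl⟩
  apply mem_U_of_comm_A h
  apply Subtype.ext
  show g * ((x ^ ((2 : ℤ) ^ (n - 1)) : ↥(S : Subgroup G)) : G) =
    ((x ^ ((2 : ℤ) ^ (n - 1)) : ↥(S : Subgroup G)) : G) * g
  calc g * ((x ^ ((2 : ℤ) ^ (n - 1)) : ↥(S : Subgroup G)) : G)
      = (g * ((x ^ ((2 : ℤ) ^ (n - 1)) : ↥(S : Subgroup G)) : G) * g⁻¹) * g := by group
    _ = _ := by rw [h1]

end Syl


section Generic2

variable {G : Type*} [Group G]

theorem map_conj_eq_of_mem_normalizer {H : Subgroup G} {c : G}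
    (hc : c ∈ normalizer (H : Set G)) : H.map (MulAut.conj c).toMonoidHom = H := by
  ext g
  constructor
  · rintro ⟨t, ht, rfl⟩
    exact (mem_normalizer_iff.mp hc t).mp ht
  · intro hg
    refine ⟨c⁻¹ * g * c, ?_, by simp [mul_assoc]⟩
    apply (mem_normalizer_iff.mp hc (c⁻¹ * g * c)).mpr
    have e : c * (c⁻¹ * g * c) * c⁻¹ = g := by group
    rw [e]; exact hg

theorem conj_eq_of_mem_centralizer {T : Subgroup G} {c t : G}
    (hc : c ∈ centralizer (T : Set G)) (ht : t ∈ T) : c * t * c⁻¹ = t := by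
  have := mem_centralizer_iff.mp hc t ht
  rw [← this]; group

theorem mem_centralizer_of_conj_eq {T : Subgroup G} {c : G}
    (hc : ∀ t ∈ T, c * t * c⁻¹ = t) : c ∈ centralizer (T : Set G) := by
  rw [mem_centralizer_iff]
  intro t ht
  have := hc t ht
  calc t * c = (c * t * c⁻¹) * c := by rw [this]
    _ = c * t := by group

/-- the normalizer normalizes the centralizer -/
theorem conj_mem_centralizer {T : Subgroup G} {c a : G} (hc : c ∈ normalizer (T : Set G))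
    (ha : a ∈ centralizer (T : Set G)) : c * a * c⁻¹ ∈ centralizer (T : Set G) := by
  have h1 := centralizer_map_conj c T
  rw [map_conj_eq_of_mem_normalizer hc] at h1
  rw [h1]
  exact ⟨a, ha, rfl⟩

/-- a 2-element normalizing a subgroup `W` of a Sylow 2-subgroup `S`: some conjugate of
`⟨a, W⟩` lies in `S` -/
theorem exists_conj_sup_le [Finite G] (S : Sylow 2 G) (W : Subgroup G)
    (hWS : W ≤ (S : Subgroup G)) (a : G) (k : ℕ) (hk : orderOf a = 2 ^ k)
    (haN : a ∈ normalizer (W : Set G)) :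
    ∃ c : G, c * a * c⁻¹ ∈ (S : Subgroup G) ∧ W.map (MulAut.conj c).toMonoidHom ≤ (S : Subgroup G) := by
  haveI : Fact (Nat.Prime 2) := ⟨Nat.prime_two⟩
  have hza : IsPGroup 2 (zpowers a) := IsPGroup.of_card (n := k) (by rw [Nat.card_zpowers, hk])
  have hW : IsPGroup 2 W := S.2.to_le hWS
  have hR : IsPGroup 2 (zpowers a ⊔ W : Subgroup G) :=
    IsPGroup.to_sup_of_normal_right' hza hW (zpowers_le.mpr haN)
  obtain ⟨c, hc⟩ := Cfsg.Agent.Lib.Helper5_Sylow.exists_conj_le_sylow hR S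
  refine ⟨c, hc ⟨a, (le_sup_left : zpowers a ≤ _) (mem_zpowers a), rfl⟩, ?_⟩
  exact (Subgroup.map_mono le_sup_right).trans hc

end Generic2

section Syl2

variable {G : Type*} [Group G] [Finite G] (S : Sylow 2 G) {n : ℕ} {x y z : ↥(S : Subgroup G)}
  (h : Wr ↥(S : Subgroup G) n x y z)

include h

theorem TG_le_UG : TG S h ≤ UG S h := fun g hg => ((mem_TG_iff S h g).mp hg).1

/-- elements of `N(U)` centralizing `Ω₁(U)` centralize `U` -/
theorem cent_UG_of_cent_TG (g : G) (hgN : g ∈ normalizer ((UG S h : Subgroup G) : Set G))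
    (hgT : g ∈ centralizer ((TG S h : Subgroup G) : Set G)) :
    g ∈ centralizer ((UG S h : Subgroup G) : Set G) := by
  obtain ⟨a, b, ha, hb, hgab, ⟨k, hk⟩, hbodd⟩ := exists_two_odd_parts g
  have hpowN : zpowers g ≤ normalizer ((UG S h : Subgroup G) : Set G) := zpowers_le.mpr hgN
  have hpowT : zpowers g ≤ centralizer ((TG S h : Subgroup G) : Set G) := zpowers_le.mpr hgT
  rw [hgab]
  apply mul_mem
  · -- the 2-part lies in `U`
    obtain ⟨c, hcS, hcU⟩ := exists_conj_sup_le S (UG S h) (UG_le S h) a k hk (hpowN ha)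
    have hcN : c ∈ normalizer ((UG S h : Subgroup G) : Set G) :=
      Cfsg.Agent.Lib.Helper5_Sylow.mem_normalizer_of_map_eq c _ (UG_conj_eq S h c hcU)
    have hcT := conj_mem_centralizer (normalizer_UG_le S h hcN) (hpowT ha)
    have h1 := mem_UG_of_cent_TG S h _ hcS (fun t ht => conj_eq_of_mem_centralizer hcT ht)
    have h2 : a ∈ UG S h := (mem_normalizer_iff.mp hcN a).mpr h1
    exact mem_centralizer_of_conj_eq (fun u hu => by
      rw [UG_comm S h a h2 u hu]; group)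
  · exact mem_centralizer_of_conj_eq (odd_centralizes_abelian (UG S h) (isPGroup_UG S h)
      (UG_comm S h) b (hpowN hb) hbodd
      (fun t ht ht2 => conj_eq_of_mem_centralizer (hpowT hb) ((mem_TG_iff S h t).mpr ⟨ht, ht2⟩)))

theorem S_le_normalizer_UG : (S : Subgroup G) ≤ normalizer ((UG S h : Subgroup G) : Set G) := by
  intro s hs
  haveI : Finite ((UG S h : Subgroup G) : Set G) := Set.toFinite _
  apply Subgroup.mem_normalizer_fintype
  rintro _ ⟨u, hu, rfl⟩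
  exact ⟨⟨s, hs⟩ * u * ⟨s, hs⟩⁻¹, h.U_normal.conj_mem u hu _, rfl⟩

theorem z_notin_centralizer_UG : (z : G) ∉ centralizer ((UG S h : Subgroup G) : Set G) := by
  intro hz
  have h1 := conj_eq_of_mem_centralizer hz (show (x : G) ∈ UG S h from ⟨x, ⟨1, 0, by simp⟩, rfl⟩)
  have h2 : z * x * z⁻¹ = x := Subtype.ext h1
  rw [h.rel] at h2
  have h3 : x ^ (1 : ℤ) * y ^ (0 : ℤ) = x ^ (0 : ℤ) * y ^ (1 : ℤ) := by simp [h2]
  rw [h.el_eq_iff] at h3
  apply h.not_dvd_one
  simpa using h3.1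

/-- the action of `N(U)` on `Ω₁(U) ∖ 1` -/
noncomputable def uHom : normalizer ((UG S h : Subgroup G) : Set G) →* Equiv.Perm (Pts (TG S h)) :=
  (ptsHom (TG S h)).comp (Subgroup.inclusion (normalizer_UG_le S h))

theorem uHom_ker : (uHom S h).ker =
    (centralizer ((UG S h : Subgroup G) : Set G)).subgroupOf
      (normalizer ((UG S h : Subgroup G) : Set G)) := by
  ext g
  rw [uHom, MonoidHom.mem_ker, MonoidHom.comp_apply, ← MonoidHom.mem_ker, ptsHom_ker,
    mem_subgroupOf, mem_subgroupOf]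
  show (g : G) ∈ centralizer ((TG S h : Subgroup G) : Set G) ↔ _
  constructor
  · exact fun hg => cent_UG_of_cent_TG S h g g.2 hg
  · exact fun hg => Subgroup.centralizer_le (TG_le_UG S h) hg

theorem idxU_cases : (centralizer ((UG S h : Subgroup G) : Set G)).relIndex
      (normalizer ((UG S h : Subgroup G) : Set G)) = 2 ∨
    (centralizer ((UG S h : Subgroup G) : Set G)).relIndex
      (normalizer ((UG S h : Subgroup G) : Set G)) = 6 := by
  have h1 := index_ker_dvd_six (uHom S h) (card_pts (TG S h) (card_TG S h))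
  rw [uHom_ker] at h1
  have hnorm : ((centralizer ((UG S h : Subgroup G) : Set G)).subgroupOf
      (normalizer ((UG S h : Subgroup G) : Set G))).Normal := by
    rw [← uHom_ker]; infer_instance
  have h2 := two_dvd_relIndex hnorm (z : G) (S_le_normalizer_UG S h z.2)
    (z_notin_centralizer_UG S h) (by
      have : (z : G) * (z : G) = 1 := congrArg Subtype.val h.zz
      rw [this]; exact one_mem _)
  change (centralizer ((UG S h : Subgroup G) : Set G)).relIndex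
      (normalizer ((UG S h : Subgroup G) : Set G)) ∣ 6 at h1
  have h3 := Nat.le_of_dvd (by norm_num) h1
  generalize (centralizer ((UG S h : Subgroup G) : Set G)).relIndex
      (normalizer ((UG S h : Subgroup G) : Set G)) = r at *
  interval_cases r <;> omega

end Syl2


section AbMSec

variable {G : Type*} [Group G] (V : Subgroup G)

/-- the abelian subgroups of index 2 of `V` -/
abbrev AbM : Set (Subgroup G) :=
  {A | A ≤ V ∧ (∀ a ∈ A, ∀ b ∈ A, a * b = b * a) ∧ Nat.card A * 2 = Nat.card V}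

theorem map_conj_mem_AbM {n : G} (hn : n ∈ normalizer (V : Set G)) {A : Subgroup G}
    (hA : A ∈ AbM V) : A.map (MulAut.conj n).toMonoidHom ∈ AbM V := by
  refine ⟨map_conj_le_of_mem_normalizer V hn hA.1, ?_, ?_⟩
  · rintro _ ⟨a, ha, rfl⟩ _ ⟨b, hb, rfl⟩
    rw [← map_mul, ← map_mul, hA.2.1 a ha b hb]
  · rw [Cfsg.Agent.Lib.Helper5_Sylow.card_map_conj]; exact hA.2.2

instance abmAction : MulAction (normalizer (V : Set G)) (AbM V) where
  smul n A := ⟨A.1.map (MulAut.conj (n : G)).toMonoidHom, map_conj_mem_AbM V n.2 A.2⟩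
  one_smul A := Subtype.ext (by
    show A.1.map (MulAut.conj ((1 : normalizer (V : Set G)) : G)).toMonoidHom = A.1
    rw [Subgroup.coe_one, map_one]
    exact Subgroup.map_id A.1)
  mul_smul a b A := Subtype.ext (by
    show A.1.map (MulAut.conj ((a * b : normalizer (V : Set G)) : G)).toMonoidHom =
      (A.1.map (MulAut.conj (b : G)).toMonoidHom).map (MulAut.conj (a : G)).toMonoidHom
    rw [Cfsg.Agent.Lib.Helper5_Sylow.map_conj_mul]
    rfl)

/-- the permutation representation of `N(V)` on the abelian subgroups of index 2 of `V` -/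
def abmHom : normalizer (V : Set G) →* Equiv.Perm (AbM V) := MulAction.toPermHom _ _

theorem abmHom_apply (n : normalizer (V : Set G)) (A : AbM V) :
    ((abmHom V n A : AbM V) : Subgroup G) = A.1.map (MulAut.conj (n : G)).toMonoidHom := rfl

theorem mem_abmHom_ker (n : normalizer (V : Set G)) :
    n ∈ (abmHom V).ker ↔ ∀ A ∈ AbM V, A.map (MulAut.conj (n : G)).toMonoidHom = A := by
  rw [MonoidHom.mem_ker]
  constructor
  · intro h A hA
    have h1 : ((abmHom V n ⟨A, hA⟩ : AbM V) : Subgroup G) = A := by rw [h]; rfl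
    rwa [abmHom_apply] at h1
  · intro h
    ext1 A
    apply Subtype.ext
    rw [abmHom_apply, Equiv.Perm.coe_one, id]
    exact h A.1 A.2

theorem map_conj_inv_map_conj (c : G) (H : Subgroup G) :
    (H.map (MulAut.conj c).toMonoidHom).map (MulAut.conj c⁻¹).toMonoidHom = H := by
  rw [Cfsg.Agent.Lib.Helper5_Sylow.map_conj_mul, inv_mul_cancel, map_one]
  exact Subgroup.map_id H

theorem map_conj_map_conj_inv (c : G) (H : Subgroup G) :
    (H.map (MulAut.conj c⁻¹).toMonoidHom).map (MulAut.conj c).toMonoidHom = H := by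
  rw [Cfsg.Agent.Lib.Helper5_Sylow.map_conj_mul, mul_inv_cancel, map_one]
  exact Subgroup.map_id H

theorem inv_mul_mem_of_relIndex_two {Z A : Subgroup G} (h2 : Z.relIndex A = 2) {t t' : G}
    (ht : t ∈ A) (ht' : t' ∈ A) (hn : t ∉ Z) (hn' : t' ∉ Z) : t⁻¹ * t' ∈ Z := by
  have h3 := Subgroup.mul_mem_iff_of_index_two (H := Z.subgroupOf A) h2
    (a := ⟨t⁻¹, inv_mem ht⟩) (b := ⟨t', ht'⟩)
  have h4 : (⟨t⁻¹, inv_mem ht⟩ : A) * ⟨t', ht'⟩ ∈ Z.subgroupOf A := by
    rw [h3]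
    apply iff_of_false
    · rw [mem_subgroupOf]; exact fun h' => hn (by simpa using inv_mem h')
    · rw [mem_subgroupOf]; exact hn'
  exact mem_subgroupOf.mp h4

/-- members of `AbM V` are normal in `V` -/
theorem conj_mem_of_mem_AbM [Finite G] {A : Subgroup G} (hA : A ∈ AbM V) {v a : G} (hv : v ∈ V)
    (ha : a ∈ A) : v * a * v⁻¹ ∈ A := by
  have h1 : (A.subgroupOf V).index = 2 := by
    have h2 := Subgroup.card_mul_index (A.subgroupOf V)
    rw [Nat.card_congr (Subgroup.subgroupOfEquivOfLe hA.1).toEquiv, ← hA.2.2] at h2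
    have hpos : 0 < Nat.card A := Nat.card_pos
    exact Nat.eq_of_mul_eq_mul_left hpos h2
  haveI := Subgroup.normal_of_index_eq_two h1
  have h3 := (inferInstance : (A.subgroupOf V).Normal).conj_mem ⟨a, hA.1 ha⟩
    (mem_subgroupOf.mpr ha) ⟨v, hv⟩
  exact mem_subgroupOf.mp h3

end AbMSec


section Syl3

variable {G : Type*} [Group G] [Finite G] (S : Sylow 2 G) {n : ℕ} {x y z : ↥(S : Subgroup G)}
  (h : Wr ↥(S : Subgroup G) n x y z)

/-- `V ∩ U`, in `G` -/
def V1G : Subgroup G := h.V1.map (S : Subgroup G).subtype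

/-- `Z(S)⟨y^e z⟩`, in `G` -/
def DG (e : ℤ) : Subgroup G := (h.Dt e).map (S : Subgroup G).subtype

/-- the standard quaternion subgroup, in `G` -/
def Q8G : Subgroup G := h.Q8.map (S : Subgroup G).subtype

include h

theorem VG_le : VG S h ≤ (S : Subgroup G) := Subgroup.map_subtype_le _

theorem card_VG : Nat.card (VG S h) = 2 ^ (n + 2) := by
  rw [VG, Subgroup.card_map_of_injective (Subgroup.subtype_injective _), h.card_Vq]

theorem card_ZG : Nat.card (ZG S) = 2 ^ n := by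
  rw [ZG, Subgroup.card_map_of_injective (Subgroup.subtype_injective _), h.card_center]

theorem VG_eq_sup : VG S h = Q8G S h ⊔ ZG S := by
  rw [VG, ← h.Q8_sup_center, Subgroup.map_sup]; rfl

theorem V1G_mem : V1G S h ∈ AbM (VG S h) := by
  refine ⟨Subgroup.map_mono h.V1_le_Vq, ?_, ?_⟩
  · rintro _ ⟨a, ha, rfl⟩ _ ⟨b, hb, rfl⟩
    exact congrArg Subtype.val (h.V1_comm a b ha hb)
  · rw [card_VG, V1G, Subgroup.card_map_of_injective (Subgroup.subtype_injective _), h.card_V1,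
      pow_succ, pow_succ, pow_succ]

theorem DG_mem (e : ℤ) (he : ((2 : ℤ) ^ (n - 1)) ∣ e) : DG S h e ∈ AbM (VG S h) := by
  refine ⟨Subgroup.map_mono (h.Dt_le_Vq e he), ?_, ?_⟩
  · rintro _ ⟨a, ha, rfl⟩ _ ⟨b, hb, rfl⟩
    exact congrArg Subtype.val (h.Dt_comm e a b ha hb)
  · rw [card_VG, DG, Subgroup.card_map_of_injective (Subgroup.subtype_injective _), h.card_Dt,
      pow_succ, pow_succ, pow_succ]

theorem abM_eq : AbM (VG S h) = {V1G S h, DG S h 0, DG S h (2 ^ (n - 1))} := by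
  ext A
  constructor
  · rintro ⟨hAV, hAc, hAcard⟩
    have hAS : A ≤ (S : Subgroup G) := hAV.trans (VG_le S h)
    have h1 : A.subgroupOf (S : Subgroup G) ≤ h.Vq := by
      intro s hs
      obtain ⟨v, hv, hvs⟩ := hAV (mem_subgroupOf.mp hs)
      have : v = s := Subtype.ext hvs
      rwa [← this]
    have h2 : Nat.card (A.subgroupOf (S : Subgroup G)) = 2 ^ (n + 1) := by
      rw [Nat.card_congr (Subgroup.subgroupOfEquivOfLe hAS).toEquiv]
      rw [card_VG S h, pow_succ] at hAcard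
      exact Nat.eq_of_mul_eq_mul_right (by norm_num) hAcard
    have h3 := h.abM_cases _ h1 (fun p hp q hq =>
      Subtype.ext (hAc _ (mem_subgroupOf.mp hp) _ (mem_subgroupOf.mp hq))) h2
    have h4 : A = (A.subgroupOf (S : Subgroup G)).map (S : Subgroup G).subtype :=
      (Subgroup.map_subgroupOf_eq_of_le hAS).symm
    rcases h3 with h3 | h3 | h3
    · left; rw [h4, h3]; rfl
    · right; left; rw [h4, h3]; rfl
    · right; right; rw [h4, h3]; rfl
  · rintro (rfl | rfl | rfl)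
    · exact V1G_mem S h
    · exact DG_mem S h 0 (dvd_zero _)
    · exact DG_mem S h _ dvd_rfl

theorem card_abM : Nat.card (AbM (VG S h)) = 3 := by
  have hinj := Subgroup.map_injective (Subgroup.subtype_injective (S : Subgroup G))
  rw [Nat.card_coe_set_eq, abM_eq S h, Set.ncard_eq_three]
  refine ⟨_, _, _, ?_, ?_, ?_, rfl⟩
  · exact fun he => h.V1_ne_Dt 0 (hinj he)
  · exact fun he => h.V1_ne_Dt _ (hinj he)
  · exact fun he => h.Dt0_ne_DtM (hinj he)

omit [Finite G] in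
theorem ZG_eq_inf : ZG S = V1G S h ⊓ DG S h 0 := by
  rw [V1G, DG, ← Subgroup.map_inf _ _ _ (Subgroup.subtype_injective _), h.V1_inf_Dt]; rfl

theorem ZG_le_of_mem_AbM {A : Subgroup G} (hA : A ∈ AbM (VG S h)) : ZG S ≤ A := by
  rw [abM_eq S h] at hA
  rcases hA with rfl | rfl | rfl
  · exact Subgroup.map_mono h.center_le_V1
  · exact Subgroup.map_mono (h.center_le_Dt 0)
  · exact Subgroup.map_mono (h.center_le_Dt _)

theorem relIndex_ZG_of_mem_AbM {A : Subgroup G} (hA : A ∈ AbM (VG S h)) :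
    (ZG S).relIndex A = 2 := by
  have h1 := Cfsg.Agent.Lib.Helper5_Wreath.Wr.card_mul_relIndex_of_le (ZG_le_of_mem_AbM S h hA)
  have h2 := hA.2.2
  rw [card_VG S h] at h2
  rw [card_ZG S h] at h1
  have h3 : Nat.card A = 2 ^ n * 2 := by
    rw [pow_succ, pow_succ] at h2
    exact Nat.eq_of_mul_eq_mul_right (by norm_num) h2
  rw [h3] at h1
  exact Nat.eq_of_mul_eq_mul_left (by positivity) h1

theorem VG_cover (v : G) (hv : v ∈ VG S h) : ∃ A ∈ AbM (VG S h), v ∈ A := by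
  obtain ⟨s, hs, rfl⟩ := hv
  rcases h.Vq_cover s hs with h1 | h1 | h1
  · exact ⟨_, V1G_mem S h, ⟨s, h1, rfl⟩⟩
  · exact ⟨_, DG_mem S h 0 (dvd_zero _), ⟨s, h1, rfl⟩⟩
  · exact ⟨_, DG_mem S h _ dvd_rfl, ⟨s, h1, rfl⟩⟩

omit [Finite G] in
theorem isCyclic_ZG : IsCyclic (ZG S) := by
  haveI : IsCyclic (Subgroup.center ↥(S : Subgroup G)) := by rw [h.center_eq]; infer_instance
  exact isCyclic_of_surjective
    ((Subgroup.center ↥(S : Subgroup G)).equivMapOfInjective _ (Subgroup.subtype_injective _))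
    (MulEquiv.surjective _)

omit h in
theorem ZG_le : ZG S ≤ (S : Subgroup G) := Subgroup.map_subtype_le _

/-- an element of odd order in the kernel of `abmHom` centralizes `V` -/
theorem odd_ker_centralizes (b : G) (hbodd : Odd (orderOf b))
    (hb : ∀ A ∈ AbM (VG S h), A.map (MulAut.conj b).toMonoidHom = A) :
    b ∈ centralizer ((VG S h : Subgroup G) : Set G) := by
  haveI := isCyclic_ZG S h
  have hbN : ∀ A ∈ AbM (VG S h), b ∈ normalizer ((A : Subgroup G) : Set G) := fun A hA =>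
    Cfsg.Agent.Lib.Helper5_Sylow.mem_normalizer_of_map_eq b A (hb A hA)
  have hbZ : b ∈ normalizer ((ZG S : Subgroup G) : Set G) := by
    apply Cfsg.Agent.Lib.Helper5_Sylow.mem_normalizer_of_map_eq
    rw [ZG_eq_inf S h, Subgroup.map_inf _ _ _ (MulAut.conj b).injective,
      hb _ (V1G_mem S h), hb _ (DG_mem S h 0 (dvd_zero _))]
  have hZ2 : IsPGroup 2 (ZG S) := S.2.to_le (ZG_le S)
  have hcZ := Cfsg.Agent.Lib.Helper5_QDFrob.odd_centralizes_cyclic (ZG S) hZ2 b hbZ hbodd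
  apply mem_centralizer_of_conj_eq
  intro v hv
  obtain ⟨A, hA, hvA⟩ := VG_cover S h v hv
  apply Cfsg.Agent.Lib.Helper5_QDFrob.odd_centralizes_ext (ZG S) hZ2 b hbodd hcZ v
  by_cases hvZ : v ∈ ZG S
  · rw [hcZ v hvZ, inv_mul_cancel]; exact one_mem _
  · apply inv_mul_mem_of_relIndex_two (relIndex_ZG_of_mem_AbM S h hA) hvA
      ((mem_normalizer_iff.mp (hbN A hA) v).mp hvA) hvZ
    exact fun h' => hvZ ((mem_normalizer_iff.mp hbZ v).mpr h')

end Syl3


section Syl4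

variable {G : Type*} [Group G] [Finite G] (S : Sylow 2 G) {n : ℕ} {x y z : ↥(S : Subgroup G)}
  (h : Wr ↥(S : Subgroup G) n x y z)

include h

theorem Q8G_le_VG : Q8G S h ≤ VG S h := by rw [VG_eq_sup S h]; exact le_sup_left

theorem ZG_le_VG : ZG S ≤ VG S h := by rw [VG_eq_sup S h]; exact le_sup_right

omit h in
theorem ZG_central (ζ : G) (hζ : ζ ∈ ZG S) (s : G) (hs : s ∈ (S : Subgroup G)) :
    s * ζ = ζ * s := by
  obtain ⟨ζ', hζ', rfl⟩ := hζ
  exact congrArg Subtype.val (Subgroup.mem_center_iff.mp hζ' ⟨s, hs⟩)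

/-- a conjugate of `V` inside `S` is the `V` of a rebased structure -/
theorem exists_rebase_of_conj_le (c : G)
    (hcV : (VG S h).map (MulAut.conj c).toMonoidHom ≤ (S : Subgroup G)) :
    ∃ c' : ℤ, (VG S h).map (MulAut.conj c).toMonoidHom = VG S (h.rebase c') ∧
      (ZG S).map (MulAut.conj c).toMonoidHom = ZG S := by
  set Q'' := (Q8G S h).map (MulAut.conj c).toMonoidHom with hQ''
  have hQS : Q'' ≤ (S : Subgroup G) := (Subgroup.map_mono (Q8G_le_VG S h)).trans hcV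
  obtain ⟨e0⟩ := h.Q8_equiv
  have e1 : h.Q8 ≃* Q8G S h := h.Q8.equivMapOfInjective _ (Subgroup.subtype_injective _)
  have e2 : Q8G S h ≃* Q'' := (Q8G S h).equivMapOfInjective _ (MulAut.conj c).injective
  have e3 : Q''.subgroupOf (S : Subgroup G) ≃* Q'' := Subgroup.subgroupOfEquivOfLe hQS
  have e : Q''.subgroupOf (S : Subgroup G) ≃* QuaternionGroup 2 :=
    e3.trans (e2.symm.trans (e1.symm.trans e0))
  obtain ⟨c', hc'⟩ := h.quat8_std _ e
  have hZc : (ZG S).map (MulAut.conj c).toMonoidHom ≤ ZG S := by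
    rintro _ ⟨ζ, hζ, rfl⟩
    have hζS : c * ζ * c⁻¹ ∈ (S : Subgroup G) := hcV ⟨ζ, ZG_le_VG S h hζ, rfl⟩
    refine ⟨⟨c * ζ * c⁻¹, hζS⟩, ?_, rfl⟩
    apply (h.rebase c').centralizer_Q8
    intro q hq
    rw [← hc'] at hq
    obtain ⟨q0, hq0, hq0e⟩ := mem_subgroupOf.mp hq
    apply Subtype.ext
    show (c * ζ * c⁻¹) * (q : G) = (q : G) * (c * ζ * c⁻¹)
    rw [← hq0e]
    simp only [MulEquiv.coe_toMonoidHom, MulAut.conj_apply]
    have h1 := ZG_central S ζ hζ q0 ((Q8G_le_VG S h).trans (VG_le S h) hq0)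
    calc c * ζ * c⁻¹ * (c * q0 * c⁻¹) = c * (ζ * q0) * c⁻¹ := by group
      _ = c * (q0 * ζ) * c⁻¹ := by rw [h1]
      _ = _ := by group
  have hZeq : (ZG S).map (MulAut.conj c).toMonoidHom = ZG S :=
    Subgroup.eq_of_le_of_card_ge hZc (by rw [Cfsg.Agent.Lib.Helper5_Sylow.card_map_conj])
  refine ⟨c', ?_, hZeq⟩
  rw [VG_eq_sup S h, Subgroup.map_sup, hZeq, VG_eq_sup S (h.rebase c')]
  congr 1
  show Q'' = (h.rebase c').Q8.map (S : Subgroup G).subtype
  rw [← hc', Subgroup.map_subgroupOf_eq_of_le hQS]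

/-- a 2-element in the kernel of `abmHom` lies in `V` -/
theorem two_ker_mem_VG (a : G) (k : ℕ) (hk : orderOf a = 2 ^ k)
    (haN : a ∈ normalizer ((VG S h : Subgroup G) : Set G))
    (ha : ∀ A ∈ AbM (VG S h), A.map (MulAut.conj a).toMonoidHom = A) : a ∈ VG S h := by
  obtain ⟨c, hcS, hcV⟩ := exists_conj_sup_le S (VG S h) (VG_le S h) a k hk haN
  obtain ⟨c', hV', -⟩ := exists_rebase_of_conj_le S h c hcV
  have hD' := DG_mem S (h.rebase c') ((2 : ℤ) ^ (n - 1)) dvd_rfl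
  have hD0 : (DG S (h.rebase c') ((2 : ℤ) ^ (n - 1))).map (MulAut.conj c⁻¹).toMonoidHom ∈
      AbM (VG S h) := by
    refine ⟨?_, ?_, ?_⟩
    · calc (DG S (h.rebase c') ((2 : ℤ) ^ (n - 1))).map (MulAut.conj c⁻¹).toMonoidHom
          ≤ ((VG S h).map (MulAut.conj c).toMonoidHom).map (MulAut.conj c⁻¹).toMonoidHom :=
            Subgroup.map_mono (hV' ▸ hD'.1)
        _ = VG S h := map_conj_inv_map_conj c _
    · rintro _ ⟨p, hp, rfl⟩ _ ⟨q, hq, rfl⟩
      rw [← map_mul, ← map_mul, hD'.2.1 p hp q hq]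
    · rw [Cfsg.Agent.Lib.Helper5_Sylow.card_map_conj, hD'.2.2, card_VG, card_VG]
  have hfix := ha _ hD0
  have hfix' : (DG S (h.rebase c') ((2 : ℤ) ^ (n - 1))).map
      (MulAut.conj (c * a * c⁻¹)).toMonoidHom = DG S (h.rebase c') ((2 : ℤ) ^ (n - 1)) := by
    have h1 := congrArg (fun H : Subgroup G => H.map (MulAut.conj c).toMonoidHom) hfix
    beta_reduce at h1
    rw [map_conj_map_conj_inv, Cfsg.Agent.Lib.Helper5_Sylow.map_conj_mul,
      Cfsg.Agent.Lib.Helper5_Sylow.map_conj_mul] at h1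
    exact h1
  have hmem : (c * a * c⁻¹) * ((y ^ ((2 : ℤ) ^ (n - 1)) * (x ^ c' * y ^ (-c') * z) :
      ↥(S : Subgroup G)) : G) * (c * a * c⁻¹)⁻¹ ∈ DG S (h.rebase c') ((2 : ℤ) ^ (n - 1)) := by
    rw [← hfix']
    exact ⟨_, ⟨_, (h.rebase c').t_mem_Dt _, rfl⟩, rfl⟩
  obtain ⟨d, hd, hde⟩ := hmem
  have hd' : d = (⟨c * a * c⁻¹, hcS⟩ : ↥(S : Subgroup G)) *
      (y ^ ((2 : ℤ) ^ (n - 1)) * (x ^ c' * y ^ (-c') * z)) *
      (⟨c * a * c⁻¹, hcS⟩ : ↥(S : Subgroup G))⁻¹ := Subtype.ext hde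
  rw [hd'] at hd
  have hmemV := (h.rebase c').mem_Vq_of_conj_mem_Dt _ dvd_rfl _ hd
  have h2 : c * a * c⁻¹ ∈ (VG S h).map (MulAut.conj c).toMonoidHom := by
    rw [hV']; exact ⟨_, hmemV, rfl⟩
  obtain ⟨v, hv, hva⟩ := h2
  have h3 : v = a := (MulAut.conj c).injective hva
  rwa [← h3]

end Syl4


section Syl5

variable {G : Type*} [Group G] [Finite G] (S : Sylow 2 G) {n : ℕ} {x y z : ↥(S : Subgroup G)}
  (h : Wr ↥(S : Subgroup G) n x y z)

include h

theorem abmHom_ker_eq : (abmHom (VG S h)).ker =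
    (VG S h ⊔ centralizer ((VG S h : Subgroup G) : Set G)).subgroupOf
      (normalizer ((VG S h : Subgroup G) : Set G)) := by
  ext g
  rw [mem_abmHom_ker, mem_subgroupOf]
  constructor
  · intro hg
    obtain ⟨a, b, ha, hb, hgab, ⟨k, hk⟩, hbodd⟩ := exists_two_odd_parts (g : G)
    have hpow : ∀ c ∈ zpowers (g : G), c ∈ normalizer ((VG S h : Subgroup G) : Set G) ∧
        ∀ A ∈ AbM (VG S h), A.map (MulAut.conj c).toMonoidHom = A := by
      intro c hc
      obtain ⟨j, rfl⟩ := mem_zpowers_iff.mp hc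
      have hmem : g ^ j ∈ (abmHom (VG S h)).ker := zpow_mem ((mem_abmHom_ker _ g).mpr hg) j
      have h1 := (mem_abmHom_ker _ (g ^ j)).mp hmem
      rw [Subgroup.coe_zpow] at h1
      refine ⟨?_, h1⟩
      have := (g ^ j).2
      rwa [Subgroup.coe_zpow] at this
    rw [hgab]
    exact mul_mem (le_sup_left (a := VG S h)
        (two_ker_mem_VG S h a k hk (hpow a ha).1 (hpow a ha).2))
      (le_sup_right (a := VG S h) (odd_ker_centralizes S h b hbodd (hpow b hb).2))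
  · intro hg
    have key : VG S h ⊔ centralizer ((VG S h : Subgroup G) : Set G) ≤
        (abmHom (VG S h)).ker.map (normalizer ((VG S h : Subgroup G) : Set G)).subtype := by
      apply sup_le
      · intro v hv
        refine ⟨⟨v, le_normalizer hv⟩, ?_, rfl⟩
        rw [SetLike.mem_coe, mem_abmHom_ker]
        intro A hA
        apply Subgroup.eq_of_le_of_card_ge
        · rintro _ ⟨a, ha, rfl⟩
          exact conj_mem_of_mem_AbM _ hA hv ha
        · rw [Cfsg.Agent.Lib.Helper5_Sylow.card_map_conj]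
      · intro c hc
        refine ⟨⟨c, Subgroup.centralizer_le_normalizer _ hc⟩, ?_, rfl⟩
        rw [SetLike.mem_coe, mem_abmHom_ker]
        intro A hA
        ext t
        constructor
        · rintro ⟨a, ha, rfl⟩
          simp only [MulEquiv.coe_toMonoidHom, MulAut.conj_apply]
          rw [conj_eq_of_mem_centralizer hc (hA.1 ha)]; exact ha
        · intro ht
          exact ⟨t, ht, conj_eq_of_mem_centralizer hc (hA.1 ht)⟩
    obtain ⟨g', hg', hgg'⟩ := key hg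
    have : g' = g := Subtype.ext hgg'
    rw [← this]
    exact (mem_abmHom_ker _ g').mp hg'

theorem xH_mem_normalizer_VG : ((x ^ ((2 : ℤ) ^ (n - 2)) : ↥(S : Subgroup G)) : G) ∈
    normalizer ((VG S h : Subgroup G) : Set G) := by
  haveI : Finite ((VG S h : Subgroup G) : Set G) := Set.toFinite _
  apply Subgroup.mem_normalizer_fintype
  rintro _ ⟨v, hv, rfl⟩
  exact ⟨_, h.xH_mem_normalizer_Vq v hv, rfl⟩

theorem xH_notin : ((x ^ ((2 : ℤ) ^ (n - 2)) : ↥(S : Subgroup G)) : G) ∉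
    VG S h ⊔ centralizer ((VG S h : Subgroup G) : Set G) := by
  intro hmem
  have h1 : (⟨_, xH_mem_normalizer_VG S h⟩ : normalizer ((VG S h : Subgroup G) : Set G)) ∈
      (abmHom (VG S h)).ker := by
    rw [abmHom_ker_eq S h, mem_subgroupOf]; exact hmem
  have h2 := (mem_abmHom_ker _ _).mp h1 _ (DG_mem S h _ dvd_rfl)
  have h3 : (DG S h ((2 : ℤ) ^ (n - 1))).map
      (MulAut.conj ((x ^ ((2 : ℤ) ^ (n - 2)) : ↥(S : Subgroup G)) : G)).toMonoidHom = DG S h 0 := by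
    rw [DG, DG, ← h.xH_conj_Dt, Subgroup.map_map, Subgroup.map_map]
    congr 1
  rw [h3] at h2
  exact h.Dt0_ne_DtM (Subgroup.map_injective (Subgroup.subtype_injective _) h2)

theorem xH_sq_mem : ((x ^ ((2 : ℤ) ^ (n - 2)) : ↥(S : Subgroup G)) : G) *
    ((x ^ ((2 : ℤ) ^ (n - 2)) : ↥(S : Subgroup G)) : G) ∈
    VG S h ⊔ centralizer ((VG S h : Subgroup G) : Set G) := by
  apply le_sup_left (a := VG S h)
  refine ⟨x ^ ((2 : ℤ) ^ (n - 2)) * x ^ ((2 : ℤ) ^ (n - 2)), ?_, rfl⟩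
  refine ⟨(2 : ℤ) ^ (n - 1), 0, by simp, Or.inl ?_⟩
  rw [← zpow_add, zpow_zero, mul_one, ← h.two_H]
  congr 1; ring

theorem idxV_cases : (VG S h ⊔ centralizer ((VG S h : Subgroup G) : Set G)).relIndex
      (normalizer ((VG S h : Subgroup G) : Set G)) = 2 ∨
    (VG S h ⊔ centralizer ((VG S h : Subgroup G) : Set G)).relIndex
      (normalizer ((VG S h : Subgroup G) : Set G)) = 6 := by
  have h1 := index_ker_dvd_six (abmHom (VG S h)) (card_abM S h)
  rw [abmHom_ker_eq S h] at h1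
  have hnorm : ((VG S h ⊔ centralizer ((VG S h : Subgroup G) : Set G)).subgroupOf
      (normalizer ((VG S h : Subgroup G) : Set G))).Normal := by
    rw [← abmHom_ker_eq S h]; infer_instance
  have h2 := two_dvd_relIndex hnorm _ (xH_mem_normalizer_VG S h) (xH_notin S h) (xH_sq_mem S h)
  change (VG S h ⊔ centralizer ((VG S h : Subgroup G) : Set G)).relIndex
      (normalizer ((VG S h : Subgroup G) : Set G)) ∣ 6 at h1
  have h3 := Nat.le_of_dvd (by norm_num) h1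
  generalize (VG S h ⊔ centralizer ((VG S h : Subgroup G) : Set G)).relIndex
      (normalizer ((VG S h : Subgroup G) : Set G)) = r at *
  interval_cases r <;> omega

end Syl5


section Syl6

variable {G : Type*} [Group G] [Finite G] (S : Sylow 2 G) {n : ℕ} {x y z : ↥(S : Subgroup G)}
  (h : Wr ↥(S : Subgroup G) n x y z)

include h

omit [Finite G] in
theorem AB_mem_TG : ((x ^ ((2 : ℤ) ^ (n - 1)) * y ^ ((2 : ℤ) ^ (n - 1)) : ↥(S : Subgroup G)) : G) ∈
    TG S h :=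
  ⟨_, (mem_T0 h _).mpr (Or.inr (Or.inr (Or.inr rfl))), rfl⟩

omit [Finite G] in
theorem orderOf_A : orderOf ((x ^ ((2 : ℤ) ^ (n - 1)) : ↥(S : Subgroup G)) : G) = 2 := by
  rw [Subgroup.orderOf_coe]; exact Wr.orderOf_of_sq h.A_sq h.A_ne_one

/-- every involution of `G` is conjugate to `A`, `AB` or `z` -/
theorem invol_conj (t : G) (ht : orderOf t = 2) :
    IsConj ((x ^ ((2 : ℤ) ^ (n - 1)) : ↥(S : Subgroup G)) : G) t ∨
    IsConj ((x ^ ((2 : ℤ) ^ (n - 1)) * y ^ ((2 : ℤ) ^ (n - 1)) : ↥(S : Subgroup G)) : G) t ∨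
    IsConj (z : G) t := by
  obtain ⟨g, hg⟩ := exists_conj_mem_S S t 1 (by rw [ht]; rfl)
  have ho : orderOf (⟨g * t * g⁻¹, hg⟩ : ↥(S : Subgroup G)) = 2 := by
    rw [← Subgroup.orderOf_coe]; show orderOf (g * t * g⁻¹) = 2
    rw [orderOf_conj', ht]
  obtain ⟨h1, h2⟩ := Wr.sq_of_orderOf ho
  have hc : IsConj t (g * t * g⁻¹) := isConj_iff.mpr ⟨g, rfl⟩
  rcases h.invol_cases _ h1 h2 with he | he | he | ⟨a, he⟩
  · left
    have : g * t * g⁻¹ = ((x ^ ((2 : ℤ) ^ (n - 1)) : ↥(S : Subgroup G)) : G) := congrArg Subtype.val he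
    rw [← this]; exact hc.symm
  · left
    have : g * t * g⁻¹ = ((y ^ ((2 : ℤ) ^ (n - 1)) : ↥(S : Subgroup G)) : G) := congrArg Subtype.val he
    have hAB : IsConj ((x ^ ((2 : ℤ) ^ (n - 1)) : ↥(S : Subgroup G)) : G)
        ((y ^ ((2 : ℤ) ^ (n - 1)) : ↥(S : Subgroup G)) : G) :=
      isConj_iff.mpr ⟨(z : G), congrArg Subtype.val h.conj_z_A⟩
    rw [← this] at hAB
    exact hAB.trans hc.symm
  · right; left
    have : g * t * g⁻¹ = ((x ^ ((2 : ℤ) ^ (n - 1)) * y ^ ((2 : ℤ) ^ (n - 1)) :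
      ↥(S : Subgroup G)) : G) := congrArg Subtype.val he
    rw [← this]; exact hc.symm
  · right; right
    have : g * t * g⁻¹ = ((x ^ a * y ^ (-a) * z : ↥(S : Subgroup G)) : G) := congrArg Subtype.val he
    obtain ⟨c, hc'⟩ := isConj_iff.mp (h.conj_z_of_invol a)
    have hz : IsConj (z : G) ((x ^ a * y ^ (-a) * z : ↥(S : Subgroup G)) : G) :=
      isConj_iff.mpr ⟨(c : G), congrArg Subtype.val hc'⟩
    rw [← this] at hz
    exact hz.trans hc.symm

/-- if `|N(U) : C(U)| = 6` then `A` and `AB` are conjugate in `N(U)` -/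
theorem exists_move_A_of_six (h6 : (centralizer ((UG S h : Subgroup G) : Set G)).relIndex
      (normalizer ((UG S h : Subgroup G) : Set G)) = 6) :
    ∃ ρ ∈ normalizer ((UG S h : Subgroup G) : Set G),
      ρ * ((x ^ ((2 : ℤ) ^ (n - 1)) : ↥(S : Subgroup G)) : G) * ρ⁻¹ =
        ((x ^ ((2 : ℤ) ^ (n - 1)) * y ^ ((2 : ℤ) ^ (n - 1)) : ↥(S : Subgroup G)) : G) := by
  classical
  have h6' : (uHom S h).ker.index = 6 := by rw [uHom_ker]; exact h6
  have hsurj := surjective_of_index_six (uHom S h) (card_pts (TG S h) (card_TG S h)) h6'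
  let pA : Pts (TG S h) := ⟨_, A_mem_TG S h, fun he => h.A_ne_one (Subtype.ext he)⟩
  let pAB : Pts (TG S h) := ⟨_, AB_mem_TG S h, fun he => h.AB_ne_one (Subtype.ext he)⟩
  obtain ⟨ρ, hρ⟩ := hsurj (Equiv.swap pA pAB)
  refine ⟨ρ, ρ.2, ?_⟩
  have h1 : ((uHom S h ρ pA : Pts (TG S h)) : G) = (pAB : G) := by
    rw [hρ, Equiv.swap_apply_left]
  exact h1

theorem conj_A_AB_of_six (h6 : (centralizer ((UG S h : Subgroup G) : Set G)).relIndex
      (normalizer ((UG S h : Subgroup G) : Set G)) = 6) :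
    IsConj ((x ^ ((2 : ℤ) ^ (n - 1)) : ↥(S : Subgroup G)) : G)
      ((x ^ ((2 : ℤ) ^ (n - 1)) * y ^ ((2 : ℤ) ^ (n - 1)) : ↥(S : Subgroup G)) : G) := by
  obtain ⟨ρ, -, hρ⟩ := exists_move_A_of_six S h h6
  exact isConj_iff.mpr ⟨ρ, hρ⟩

theorem VG_inf_centralizer : VG S h ⊓ centralizer ((VG S h : Subgroup G) : Set G) = ZG S := by
  apply le_antisymm
  · rintro v ⟨hv, hvc⟩
    have hvS := VG_le S h hv
    refine ⟨⟨v, hvS⟩, ?_, rfl⟩
    apply h.centralizer_Q8
    intro q hq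
    have h1 := mem_centralizer_iff.mp hvc (q : G) (Q8G_le_VG S h ⟨q, hq, rfl⟩)
    exact (Subtype.ext h1).symm
  · refine le_inf (ZG_le_VG S h) ?_
    intro ζ hζ
    rw [mem_centralizer_iff]
    intro v hv
    exact ZG_central S ζ hζ v (VG_le S h hv)

theorem normalizer_VG_le_normalizer_ZG : normalizer ((VG S h : Subgroup G) : Set G) ≤
    normalizer ((ZG S : Subgroup G) : Set G) := by
  intro g hg
  apply Cfsg.Agent.Lib.Helper5_Sylow.mem_normalizer_of_map_eq
  have h1 := centralizer_map_conj g (VG S h)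
  rw [map_conj_eq_of_mem_normalizer hg] at h1
  rw [← VG_inf_centralizer S h, Subgroup.map_inf _ _ _ (MulAut.conj g).injective,
    map_conj_eq_of_mem_normalizer hg, ← h1]

/-- if `|N(V) : V C(V)| = 6` then `A` and `z` are conjugate -/
theorem conj_A_z_of_six (h6 : (VG S h ⊔ centralizer ((VG S h : Subgroup G) : Set G)).relIndex
      (normalizer ((VG S h : Subgroup G) : Set G)) = 6) :
    IsConj ((x ^ ((2 : ℤ) ^ (n - 1)) : ↥(S : Subgroup G)) : G) (z : G) := by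
  classical
  have h6' : (abmHom (VG S h)).ker.index = 6 := by rw [abmHom_ker_eq S h]; exact h6
  have hsurj := surjective_of_index_six (abmHom (VG S h)) (card_abM S h) h6'
  let p1 : AbM (VG S h) := ⟨_, V1G_mem S h⟩
  let p2 : AbM (VG S h) := ⟨_, DG_mem S h 0 (dvd_zero _)⟩
  obtain ⟨ρ, hρ⟩ := hsurj (Equiv.swap p1 p2)
  have h1 : ((abmHom (VG S h) ρ p1 : AbM (VG S h)) : Subgroup G) = DG S h 0 := by
    rw [hρ, Equiv.swap_apply_left]
  rw [abmHom_apply] at h1
  have hA1 : ((x ^ ((2 : ℤ) ^ (n - 1)) : ↥(S : Subgroup G)) : G) ∈ V1G S h :=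
    ⟨_, (h.mem_V1 _).mpr ⟨(2 : ℤ) ^ (n - 1), 0, by simp, by rw [zpow_zero, mul_one]⟩, rfl⟩
  have h2 : (ρ : G) * ((x ^ ((2 : ℤ) ^ (n - 1)) : ↥(S : Subgroup G)) : G) * (ρ : G)⁻¹ ∈ DG S h 0 := by
    rw [← h1]; exact ⟨_, hA1, rfl⟩
  obtain ⟨s, hs, hse⟩ := h2
  have hρZ := normalizer_VG_le_normalizer_ZG S h ρ.2
  have hAZ : ((x ^ ((2 : ℤ) ^ (n - 1)) : ↥(S : Subgroup G)) : G) ∉ ZG S := by
    rintro ⟨ζ, hζ, hζe⟩
    have : ζ = x ^ ((2 : ℤ) ^ (n - 1)) := Subtype.ext hζe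
    rw [this, SetLike.mem_coe, h.mem_center_iff] at hζ
    obtain ⟨a, ha⟩ := hζ
    have h3 : x ^ ((2 : ℤ) ^ (n - 1)) * y ^ (0 : ℤ) = x ^ a * y ^ a := by
      rw [zpow_zero, mul_one]; exact ha
    obtain ⟨⟨u, hu⟩, ⟨v, hv⟩⟩ := (h.el_eq_iff _ _ _ _).mp h3
    apply h.not_dvd_M
    exact ⟨u - v, by linarith⟩
  have hsZ : s ∉ Subgroup.center ↥(S : Subgroup G) := by
    intro hsc
    apply hAZ
    apply (mem_normalizer_iff.mp hρZ _).mpr
    rw [← hse]; exact ⟨s, hsc, rfl⟩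
  have hso : orderOf s = 2 := by
    rw [← Subgroup.orderOf_coe]
    show orderOf ((S : Subgroup G).subtype s) = 2
    rw [hse, orderOf_conj', orderOf_A S h]
  obtain ⟨a, hsa | hsa⟩ := hs
  · exact absurd ((h.mem_center_iff s).mpr ⟨a, hsa⟩) hsZ
  · obtain ⟨hs2, hs1⟩ := Wr.sq_of_orderOf hso
    rcases h.invol_cases s hs2 hs1 with he | he | he | ⟨b, he⟩
    · exact absurd (he ▸ h.A_mem_U) (by rw [hsa]; exact h.elz_notin_U _ _)
    · exact absurd (he ▸ B_mem_U h) (by rw [hsa]; exact h.elz_notin_U _ _)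
    · exact absurd (he ▸ h.AB_mem_U) (by rw [hsa]; exact h.elz_notin_U _ _)
    · obtain ⟨c, hc'⟩ := isConj_iff.mp (h.conj_z_of_invol b)
      have hz : IsConj (z : G) (s : G) := by
        rw [he]; exact isConj_iff.mpr ⟨(c : G), congrArg Subtype.val hc'⟩
      have hAs : IsConj ((x ^ ((2 : ℤ) ^ (n - 1)) : ↥(S : Subgroup G)) : G) (s : G) :=
        isConj_iff.mpr ⟨(ρ : G), hse.symm⟩
      exact hAs.trans hz.symm

end Syl6


section Syl7

variable {G : Type*} [Group G] [Finite G] (S : Sylow 2 G) {n : ℕ} {x y z : ↥(S : Subgroup G)}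
  (h : Wr ↥(S : Subgroup G) n x y z)

include h

omit [Finite G] in
theorem el_zpow (a b k : ℤ) : (x ^ a * y ^ b) ^ k = x ^ (a * k) * y ^ (b * k) := by
  have hc : Commute (x ^ a) (y ^ b) := h.cxy a b
  rw [hc.mul_zpow, ← zpow_mul, ← zpow_mul]

omit [Finite G] in
theorem x_mem_UG : (x : G) ∈ UG S h := ⟨x, ⟨1, 0, by simp⟩, rfl⟩

/-- for a subgroup `H` of index 2 not containing `x`: `x^a y^b ∈ H ↔ a + b` even -/
theorem mem_index_two_iff (H : Subgroup G) (hH : H.index = 2) (hx : (x : G) ∉ H) (a b : ℤ) :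
    ((x ^ a * y ^ b : ↥(S : Subgroup G)) : G) ∈ H ↔ Even (a + b) := by
  haveI : H.Normal := Subgroup.normal_of_index_eq_two hH
  have hy : (y : G) ∉ H := by
    intro hy
    apply hx
    have h1 := (inferInstance : H.Normal).conj_mem _ hy (z : G)⁻¹
    have h2 : (z : G)⁻¹ * (y : G) * ((z : G)⁻¹)⁻¹ = (x : G) := by
      have := congrArg Subtype.val h.rel
      simp only [Subgroup.coe_mul, Subgroup.coe_inv] at this
      rw [← this]; group
    rwa [h2] at h1
  have hxy : (x : G)⁻¹ * (y : G) ∈ H := by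
    rw [Subgroup.mul_mem_iff_of_index_two hH]
    exact iff_of_false (fun h' => hx (by simpa using inv_mem h')) hy
  have hxx : (x : G) * (x : G) ∈ H := by
    rw [Subgroup.mul_mem_iff_of_index_two hH]
  have hpow : ∀ k : ℤ, (x : G) ^ k ∈ H ↔ Even k := by
    intro k
    rcases Int.even_or_odd' k with ⟨j, rfl | rfl⟩
    · have : (x : G) ^ (2 * j) = ((x : G) * (x : G)) ^ j := by
        rw [← pow_two, ← zpow_natCast, ← zpow_mul]; norm_num
      rw [this]
      exact iff_of_true (zpow_mem hxx j) (by simp)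
    · have : (x : G) ^ (2 * j + 1) = ((x : G) * (x : G)) ^ j * (x : G) := by
        rw [← pow_two, ← zpow_natCast, ← zpow_mul, zpow_add, zpow_one]; norm_num
      rw [this]
      apply iff_of_false
      · intro h'
        exact hx ((Subgroup.mul_mem_cancel_left H (zpow_mem hxx j)).mp h')
      · rw [Int.not_even_iff_odd]; exact ⟨j, rfl⟩
  have e : ((x ^ a * y ^ b : ↥(S : Subgroup G)) : G) = (x : G) ^ (a + b) * ((x : G)⁻¹ * (y : G)) ^ b := by
    have hc : Commute (x : G)⁻¹ (y : G) := by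
      have : Commute (x : G) (y : G) := congrArg Subtype.val h.comm
      exact this.inv_left
    rw [hc.mul_zpow, inv_zpow', Subgroup.coe_mul, Subgroup.coe_zpow, Subgroup.coe_zpow,
      ← mul_assoc, ← zpow_add]
    congr 2; ring
  rw [e, Subgroup.mul_mem_cancel_right H (zpow_mem hxy b), hpow]

theorem no_index_two_of_six_six
    (h6U : (centralizer ((UG S h : Subgroup G) : Set G)).relIndex
      (normalizer ((UG S h : Subgroup G) : Set G)) = 6)
    (hAz : IsConj ((x ^ ((2 : ℤ) ^ (n - 1)) : ↥(S : Subgroup G)) : G) (z : G))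
    (H : Subgroup G) : H.index ≠ 2 := by
  intro hH
  haveI : H.Normal := Subgroup.normal_of_index_eq_two hH
  by_cases hx : (x : G) ∈ H
  · have hy : (y : G) ∈ H := by
      have h1 := (inferInstance : H.Normal).conj_mem _ hx (z : G)
      have := congrArg Subtype.val h.rel
      simp only [Subgroup.coe_mul, Subgroup.coe_inv] at this
      rwa [this] at h1
    have hA : ((x ^ ((2 : ℤ) ^ (n - 1)) : ↥(S : Subgroup G)) : G) ∈ H := by
      rw [Subgroup.coe_zpow]; exact zpow_mem hx _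
    have hz : (z : G) ∈ H := by
      obtain ⟨c, hc⟩ := isConj_iff.mp hAz
      rw [← hc]; exact (inferInstance : H.Normal).conj_mem _ hA c
    apply not_le_of_index_two S H hH
    intro s hs
    rcases h.cases ⟨s, hs⟩ with ⟨a, b, he⟩ | ⟨a, b, he⟩
    · have : s = (x : G) ^ a * (y : G) ^ b := by
        have := congrArg Subtype.val he
        simpa using this
      rw [this]; exact mul_mem (zpow_mem hx a) (zpow_mem hy b)
    · have : s = (x : G) ^ a * (y : G) ^ b * (z : G) := by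
        have := congrArg Subtype.val he
        simpa using this
      rw [this]; exact mul_mem (mul_mem (zpow_mem hx a) (zpow_mem hy b)) hz
  · obtain ⟨ρ, hρN, hρ⟩ := exists_move_A_of_six S h h6U
    have h1 : ρ * (x : G) * ρ⁻¹ ∈ UG S h := (mem_normalizer_iff.mp hρN _).mp (x_mem_UG S h)
    obtain ⟨u, ⟨a, b, rfl⟩, hue⟩ := h1
    have hn : ρ * (x : G) * ρ⁻¹ ∉ H := by
      intro h'
      apply hx
      have h2 := (inferInstance : H.Normal).conj_mem _ h' ρ⁻¹
      have e : ρ⁻¹ * (ρ * (x : G) * ρ⁻¹) * ρ⁻¹⁻¹ = (x : G) := by group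
      rwa [e] at h2
    rw [← hue] at hn
    have hodd : ¬ Even (a + b) := fun he => hn ((mem_index_two_iff S h H hH hx a b).mpr he)
    have h3 : ρ * ((x ^ ((2 : ℤ) ^ (n - 1)) : ↥(S : Subgroup G)) : G) * ρ⁻¹ =
        (((x ^ a * y ^ b) ^ ((2 : ℤ) ^ (n - 1)) : ↥(S : Subgroup G)) : G) := by
      rw [Subgroup.coe_zpow, Subgroup.coe_zpow]
      have := map_zpow (MulAut.conj ρ) (x : G) ((2 : ℤ) ^ (n - 1))
      simp only [MulAut.conj_apply] at this
      rw [this, ← hue]; rfl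
    rw [hρ] at h3
    have h4 : x ^ ((2 : ℤ) ^ (n - 1)) * y ^ ((2 : ℤ) ^ (n - 1)) =
        (x ^ a * y ^ b) ^ ((2 : ℤ) ^ (n - 1)) := Subtype.ext h3
    rw [el_zpow S h, h.el_eq_iff] at h4
    obtain ⟨⟨u, hu⟩, ⟨v, hv⟩⟩ := h4
    have h2M := h.two_M
    have hpos : (0 : ℤ) < 2 ^ (n - 1) := by positivity
    apply hodd
    have ha : (2 : ℤ) ^ (n - 1) * (1 - a - 2 * u) = 0 := by
      rw [← h2M] at hu; linear_combination hu
    have hb : (2 : ℤ) ^ (n - 1) * (1 - b - 2 * v) = 0 := by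
      rw [← h2M] at hv; linear_combination hv
    have ha' := (mul_eq_zero.mp ha).resolve_left hpos.ne'
    have hb' := (mul_eq_zero.mp hb).resolve_left hpos.ne'
    exact ⟨1 - u - v, by linarith⟩

end Syl7


section Syl8

variable {G : Type*} [Group G] [Finite G] (S : Sylow 2 G) {n : ℕ} {x y z : ↥(S : Subgroup G)}
  (h : Wr ↥(S : Subgroup G) n x y z)

include h

omit [Finite G] in
theorem V1G_rebase (c : ℤ) : V1G S (h.rebase c) = V1G S h := by rw [V1G, V1G, h.rebase_V1]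

omit [Finite G] in
theorem VG_rebase (c : ℤ) : VG S (h.rebase c) =
    (VG S h).map (MulAut.conj ((x ^ c : ↥(S : Subgroup G)) : G)).toMonoidHom := by
  rw [VG, VG, h.rebase_Vq_conj, Subgroup.map_map, Subgroup.map_map]
  congr 1

theorem V1G_normal_S (s : G) (hs : s ∈ (S : Subgroup G)) :
    (V1G S h).map (MulAut.conj s).toMonoidHom = V1G S h := by
  apply Subgroup.eq_of_le_of_card_ge
  · rintro _ ⟨_, ⟨v, hv, rfl⟩, rfl⟩
    exact ⟨⟨s, hs⟩ * v * ⟨s, hs⟩⁻¹, h.V1_normal.conj_mem v hv _, rfl⟩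
  · rw [Cfsg.Agent.Lib.Helper5_Sylow.card_map_conj]

/-- if `|N(V) : V C(V)| = 2` then `N(V)` normalizes `V ∩ U` -/
theorem map_V1G_of_two (h2 : (VG S h ⊔ centralizer ((VG S h : Subgroup G) : Set G)).relIndex
      (normalizer ((VG S h : Subgroup G) : Set G)) = 2) (g : G)
    (hg : g ∈ normalizer ((VG S h : Subgroup G) : Set G)) :
    (V1G S h).map (MulAut.conj g).toMonoidHom = V1G S h := by
  have hP : ∀ p ∈ VG S h ⊔ centralizer ((VG S h : Subgroup G) : Set G),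
      ∀ hp : p ∈ normalizer ((VG S h : Subgroup G) : Set G),
      (V1G S h).map (MulAut.conj p).toMonoidHom = V1G S h := by
    intro p hp hpN
    have h1 : (⟨p, hpN⟩ : normalizer ((VG S h : Subgroup G) : Set G)) ∈ (abmHom (VG S h)).ker := by
      rw [abmHom_ker_eq S h, mem_subgroupOf]; exact hp
    exact (mem_abmHom_ker _ _).mp h1 _ (V1G_mem S h)
  have hw := V1G_normal_S S h _ (x ^ ((2 : ℤ) ^ (n - 2))).2
  by_cases hgP : g ∈ VG S h ⊔ centralizer ((VG S h : Subgroup G) : Set G)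
  · exact hP g hgP hg
  · have h3 := Subgroup.mul_mem_iff_of_index_two
      (H := (VG S h ⊔ centralizer ((VG S h : Subgroup G) : Set G)).subgroupOf
        (normalizer ((VG S h : Subgroup G) : Set G))) h2
      (a := ⟨g, hg⟩) (b := ⟨_, xH_mem_normalizer_VG S h⟩)
    have h4 := h3.mpr (iff_of_false (fun h' => hgP (mem_subgroupOf.mp h'))
      (fun h' => xH_notin S h (mem_subgroupOf.mp h')))
    have h5 := hP _ (mem_subgroupOf.mp h4) (mul_mem hg (xH_mem_normalizer_VG S h))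
    simp only [Subgroup.coe_mul] at h5
    rw [← Cfsg.Agent.Lib.Helper5_Sylow.map_conj_mul, hw] at h5
    exact h5

end Syl8


section Syl9

variable {G : Type*} [Group G] [Finite G] (S : Sylow 2 G) {n : ℕ} {x y z : ↥(S : Subgroup G)}
  (h : Wr ↥(S : Subgroup G) n x y z)

include h

omit [Finite G] in
theorem DG_le (e : ℤ) : DG S h e ≤ (S : Subgroup G) := Subgroup.map_subtype_le _

omit [Finite G] in
theorem z_mem_DG : (z : G) ∈ DG S h 0 := ⟨z, ⟨0, Or.inr (by simp)⟩, rfl⟩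

theorem card_DG (e : ℤ) : Nat.card (DG S h e) = 2 ^ (n + 1) := by
  rw [DG, Subgroup.card_map_of_injective (Subgroup.subtype_injective _), h.card_Dt]

omit [Finite G] in
theorem DG_comm (e : ℤ) (p : G) (hp : p ∈ DG S h e) (q : G) (hq : q ∈ DG S h e) : p * q = q * p := by
  obtain ⟨p', hp', rfl⟩ := hp
  obtain ⟨q', hq', rfl⟩ := hq
  exact congrArg Subtype.val (h.Dt_comm e p' q' hp' hq')

omit [Finite G] in
theorem DG_not_le_UG (e : ℤ) : ¬ DG S h e ≤ UG S h := by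
  intro hle
  apply h.Dt_not_le_U e
  intro d hd
  obtain ⟨u, hu, hue⟩ := hle ⟨d, hd, rfl⟩
  have : u = d := Subtype.ext hue
  rwa [← this]

/-- step (ii): a conjugate of `D = C_S(z)` inside `S` containing an involution of `U` that is
the image of `z` lies in `U` -/
theorem conj_DG_le_UG (g₁ : G) (hg₁D : (DG S h 0).map (MulAut.conj g₁).toMonoidHom ≤ (S : Subgroup G))
    (hg₁z : g₁ * (z : G) * g₁⁻¹ ∈ TG S h) :
    (DG S h 0).map (MulAut.conj g₁).toMonoidHom ≤ UG S h := by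
  by_contra hnot
  set D₁ := (DG S h 0).map (MulAut.conj g₁).toMonoidHom with hD₁
  set D₁' := D₁.subgroupOf (S : Subgroup G) with hD₁'
  have hc' : ∀ p ∈ D₁', ∀ q ∈ D₁', p * q = q * p := by
    intro p hp q hq
    obtain ⟨p0, hp0, hp0e⟩ := mem_subgroupOf.mp hp
    obtain ⟨q0, hq0, hq0e⟩ := mem_subgroupOf.mp hq
    apply Subtype.ext
    show (p : G) * (q : G) = (q : G) * (p : G)
    rw [← hp0e, ← hq0e, ← map_mul, ← map_mul, DG_comm S h 0 p0 hp0 q0 hq0]
  have hcard' : Nat.card D₁' = 2 ^ (n + 1) := by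
    rw [Nat.card_congr (Subgroup.subgroupOfEquivOfLe hg₁D).toEquiv,
      Cfsg.Agent.Lib.Helper5_Sylow.card_map_conj, card_DG]
  have hU' : ¬ D₁' ≤ h.U := by
    intro hle
    apply hnot
    intro d hd
    exact ⟨⟨d, hg₁D hd⟩, hle (mem_subgroupOf.mpr hd), rfl⟩
  have hinf := h.abelian_inf_U D₁' hc' hcard' hU'
  have ha₁D : g₁ * (z : G) * g₁⁻¹ ∈ D₁ := ⟨z, z_mem_DG S h, rfl⟩
  have ha₁S : g₁ * (z : G) * g₁⁻¹ ∈ (S : Subgroup G) := hg₁D ha₁D
  obtain ⟨hzU, hzsq⟩ := (mem_TG_iff S h _).mp hg₁z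
  obtain ⟨hzS', hzU'⟩ := (mem_UG S h _).mp hzU
  have ha₁c : (⟨g₁ * (z : G) * g₁⁻¹, ha₁S⟩ : ↥(S : Subgroup G)) ∈ Subgroup.center ↥(S : Subgroup G) := by
    rw [← hinf]
    exact ⟨mem_subgroupOf.mpr ha₁D, hzU'⟩
  have hz1 : (z : G) ≠ 1 := fun he => h.z_ne_one (Subtype.ext he)
  have ha₁AB := h.central_invol _ ha₁c (Subtype.ext hzsq) (by
    intro he
    have h1 : g₁ * (z : G) * g₁⁻¹ = 1 := congrArg Subtype.val he
    apply hz1
    have : (z : G) = g₁⁻¹ * (g₁ * (z : G) * g₁⁻¹) * g₁ := by group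
    rw [this, h1]; group)
  -- the image of `AB`
  set ζ : ↥(S : Subgroup G) := x ^ ((2 : ℤ) ^ (n - 2)) * y ^ ((2 : ℤ) ^ (n - 2)) with hζ
  have hζD : (ζ : G) ∈ DG S h 0 := ⟨ζ, ⟨_, Or.inl rfl⟩, rfl⟩
  have hζ₁ : g₁ * (ζ : G) * g₁⁻¹ ∈ D₁ := ⟨ζ, hζD, rfl⟩
  have hζS : g₁ * (ζ : G) * g₁⁻¹ ∈ (S : Subgroup G) := hg₁D hζ₁
  have hsq := h.sq_mem_center_of D₁' hinf ⟨_, hζS⟩ (mem_subgroupOf.mpr hζ₁)
  have hζζ : ζ * ζ = x ^ ((2 : ℤ) ^ (n - 1)) * y ^ ((2 : ℤ) ^ (n - 1)) := by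
    rw [hζ, h.mul_el, ← two_mul, h.two_H]
  have hb : (⟨g₁ * (ζ : G) * g₁⁻¹, hζS⟩ : ↥(S : Subgroup G)) * ⟨g₁ * (ζ : G) * g₁⁻¹, hζS⟩ =
      x ^ ((2 : ℤ) ^ (n - 1)) * y ^ ((2 : ℤ) ^ (n - 1)) := by
    apply h.central_invol _ hsq
    · apply Subtype.ext
      show g₁ * (ζ : G) * g₁⁻¹ * (g₁ * (ζ : G) * g₁⁻¹) * (g₁ * (ζ : G) * g₁⁻¹ * (g₁ * (ζ : G) * g₁⁻¹)) = 1
      have e : g₁ * (ζ : G) * g₁⁻¹ * (g₁ * (ζ : G) * g₁⁻¹) * (g₁ * (ζ : G) * g₁⁻¹ * (g₁ * (ζ : G) * g₁⁻¹)) =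
          g₁ * (((ζ * ζ) * (ζ * ζ) : ↥(S : Subgroup G)) : G) * g₁⁻¹ := by
        simp only [Subgroup.coe_mul]; group
      rw [e, hζζ, h.AB_sq]; simp
    · intro he
      have h1 : g₁ * (ζ : G) * g₁⁻¹ * (g₁ * (ζ : G) * g₁⁻¹) = 1 := congrArg Subtype.val he
      have e : g₁ * (ζ : G) * g₁⁻¹ * (g₁ * (ζ : G) * g₁⁻¹) = g₁ * ((ζ * ζ : ↥(S : Subgroup G)) : G) * g₁⁻¹ := by
        simp only [Subgroup.coe_mul]; group
      rw [e, hζζ] at h1
      apply h.AB_ne_one
      apply Subtype.ext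
      have : ((x ^ ((2 : ℤ) ^ (n - 1)) * y ^ ((2 : ℤ) ^ (n - 1)) : ↥(S : Subgroup G)) : G) =
          g₁⁻¹ * (g₁ * ((x ^ ((2 : ℤ) ^ (n - 1)) * y ^ ((2 : ℤ) ^ (n - 1)) : ↥(S : Subgroup G)) : G) * g₁⁻¹) * g₁ := by
        group
      rw [this, h1]; simp
  -- so `g₁ AB g₁⁻¹ = AB = g₁ z g₁⁻¹`
  have h3 : g₁ * ((ζ * ζ : ↥(S : Subgroup G)) : G) * g₁⁻¹ = g₁ * (z : G) * g₁⁻¹ := by
    have e : g₁ * ((ζ * ζ : ↥(S : Subgroup G)) : G) * g₁⁻¹ = g₁ * (ζ : G) * g₁⁻¹ * (g₁ * (ζ : G) * g₁⁻¹) := by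
      simp only [Subgroup.coe_mul]; group
    rw [e]
    have h4 := congrArg Subtype.val hb
    have h5 := congrArg Subtype.val ha₁AB
    simp only [Subgroup.coe_mul] at h4 h5 ⊢
    rw [h4, h5]
  have h4 : ((ζ * ζ : ↥(S : Subgroup G)) : G) = (z : G) := by
    have := (MulAut.conj g₁).injective (a₁ := ((ζ * ζ : ↥(S : Subgroup G)) : G)) (a₂ := (z : G)) h3
    exact this
  have h5 : ζ * ζ = z := Subtype.ext h4
  rw [hζζ] at h5
  exact h.z_notin_U (h5 ▸ h.AB_mem_U)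

end Syl9


section Syl10

variable {G : Type*} [Group G] [Finite G] (S : Sylow 2 G) {n : ℕ} {x y z : ↥(S : Subgroup G)}
  (h : Wr ↥(S : Subgroup G) n x y z)

include h

theorem VG_le_normalizer_DG : VG S h ≤ normalizer ((DG S h 0 : Subgroup G) : Set G) := by
  intro v hv
  haveI : Finite ((DG S h 0 : Subgroup G) : Set G) := Set.toFinite _
  apply Subgroup.mem_normalizer_fintype
  intro d hd
  exact conj_mem_of_mem_AbM (VG S h) (DG_mem S h 0 (dvd_zero _)) hv hd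

/-- if `|N(V) : V C(V)| = 2` then `z` is not conjugate to an involution of `U` -/
theorem not_conj_z_of_two (h2 : (VG S h ⊔ centralizer ((VG S h : Subgroup G) : Set G)).relIndex
      (normalizer ((VG S h : Subgroup G) : Set G)) = 2) (a : G) (ha : a ∈ TG S h) :
    ¬ IsConj (z : G) a := by
  intro hc
  obtain ⟨g, hg⟩ := isConj_iff.mp hc
  haveI : Fact (Nat.Prime 2) := ⟨Nat.prime_two⟩
  have hD2 : IsPGroup 2 (DG S h 0) := S.2.to_le (DG_le S h 0)
  -- Step (i)
  have hUK : UG S h ≤ centralizer ({a} : Set G) := by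
    intro u hu
    rw [mem_centralizer_singleton_iff]
    exact UG_comm S h u hu a (TG_le_UG S h ha)
  have hDK : (DG S h 0).map (MulAut.conj g).toMonoidHom ≤ centralizer ({a} : Set G) := by
    rintro _ ⟨d, hd, rfl⟩
    rw [mem_centralizer_singleton_iff, ← hg]
    simp only [MulEquiv.coe_toMonoidHom, MulAut.conj_apply]
    have := DG_comm S h 0 d hd z (z_mem_DG S h)
    calc g * d * g⁻¹ * (g * z * g⁻¹) = g * (d * z) * g⁻¹ := by group
      _ = g * (z * d) * g⁻¹ := by rw [this]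
      _ = _ := by group
  obtain ⟨k, hk, R, hR2, -, hUR, hDR⟩ :=
    Cfsg.Agent.Lib.Helper5_Sylow.exists_conj_le_common_pgroup hUK hDK (isPGroup_UG S h) (hD2.map _)
  obtain ⟨m, hm⟩ := Cfsg.Agent.Lib.Helper5_Sylow.exists_conj_le_sylow hR2 S
  have hmU := UG_conj_eq S h m ((Subgroup.map_mono hUR).trans hm)
  have hmN := Cfsg.Agent.Lib.Helper5_Sylow.mem_normalizer_of_map_eq m _ hmU
  have hmT := normalizer_UG_le S h hmN
  have hg₁D : (DG S h 0).map (MulAut.conj (m * (k * g))).toMonoidHom ≤ (S : Subgroup G) := by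
    rw [← Cfsg.Agent.Lib.Helper5_Sylow.map_conj_mul, ← Cfsg.Agent.Lib.Helper5_Sylow.map_conj_mul]
    exact (Subgroup.map_mono hDR).trans hm
  have hka : k * a * k⁻¹ = a := by
    rw [mem_centralizer_singleton_iff] at hk
    rw [hk]; group
  have hg₁z : (m * (k * g)) * (z : G) * (m * (k * g))⁻¹ = m * a * m⁻¹ := by
    rw [← hka, ← hg]; group
  have ha₁T : m * a * m⁻¹ ∈ TG S h := (mem_normalizer_iff.mp hmT a).mp ha
  -- Step (ii)
  have hD₁U := conj_DG_le_UG S h (m * (k * g)) hg₁D (hg₁z ▸ ha₁T)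
  set g₁ := m * (k * g) with hg₁
  set D₁ := (DG S h 0).map (MulAut.conj g₁).toMonoidHom with hD₁
  -- Step (iii)
  have hV₁N : (VG S h).map (MulAut.conj g₁).toMonoidHom ≤ normalizer ((D₁ : Subgroup G) : Set G) := by
    rintro _ ⟨v, hv, rfl⟩
    rw [hD₁, normalizer_map_conj]
    exact ⟨v, VG_le_normalizer_DG S h hv, rfl⟩
  have hUN : UG S h ≤ normalizer ((D₁ : Subgroup G) : Set G) := by
    intro u hu
    apply Subgroup.centralizer_le_normalizer
    rw [mem_centralizer_iff]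
    intro d hd
    exact UG_comm S h d (hD₁U hd) u hu
  have hV2 : IsPGroup 2 (VG S h) := S.2.to_le (VG_le S h)
  obtain ⟨k', hk', R', hR'2, -, hUR', hVR'⟩ :=
    Cfsg.Agent.Lib.Helper5_Sylow.exists_conj_le_common_pgroup hUN hV₁N (isPGroup_UG S h) (hV2.map _)
  obtain ⟨m', hm'⟩ := Cfsg.Agent.Lib.Helper5_Sylow.exists_conj_le_sylow hR'2 S
  have hm'U := UG_conj_eq S h m' ((Subgroup.map_mono hUR').trans hm')
  have hg₂V : (VG S h).map (MulAut.conj (m' * (k' * g₁))).toMonoidHom ≤ (S : Subgroup G) := by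
    rw [← Cfsg.Agent.Lib.Helper5_Sylow.map_conj_mul, ← Cfsg.Agent.Lib.Helper5_Sylow.map_conj_mul]
    exact (Subgroup.map_mono hVR').trans hm'
  have hg₂D : (DG S h 0).map (MulAut.conj (m' * (k' * g₁))).toMonoidHom ≤ UG S h := by
    rw [← Cfsg.Agent.Lib.Helper5_Sylow.map_conj_mul, ← Cfsg.Agent.Lib.Helper5_Sylow.map_conj_mul,
      map_conj_eq_of_mem_normalizer hk']
    calc D₁.map (MulAut.conj m').toMonoidHom ≤ (UG S h).map (MulAut.conj m').toMonoidHom :=
          Subgroup.map_mono hD₁U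
      _ = UG S h := hm'U
  set g₂ := m' * (k' * g₁) with hg₂
  -- Step (iv)
  obtain ⟨c'', hV'', -⟩ := exists_rebase_of_conj_le S h g₂ hg₂V
  have hD0 := DG_mem S h 0 (dvd_zero _)
  have hD₂mem : (DG S h 0).map (MulAut.conj g₂).toMonoidHom ∈ AbM (VG S (h.rebase c'')) := by
    rw [← hV'']
    refine ⟨Subgroup.map_mono hD0.1, ?_, ?_⟩
    · rintro _ ⟨p, hp, rfl⟩ _ ⟨q, hq, rfl⟩
      rw [← map_mul, ← map_mul, hD0.2.1 p hp q hq]
    · rw [Cfsg.Agent.Lib.Helper5_Sylow.card_map_conj, Cfsg.Agent.Lib.Helper5_Sylow.card_map_conj]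
      exact hD0.2.2
  have hD₂ : (DG S h 0).map (MulAut.conj g₂).toMonoidHom = V1G S h := by
    rw [abM_eq S (h.rebase c'')] at hD₂mem
    rcases hD₂mem with h' | h' | h'
    · rw [h', V1G_rebase]
    · exfalso
      rw [h'] at hg₂D
      exact DG_not_le_UG S (h.rebase c'') 0 hg₂D
    · exfalso
      rw [h'] at hg₂D
      exact DG_not_le_UG S (h.rebase c'') _ hg₂D
  have hs : ((x ^ c'' : ↥(S : Subgroup G)) : G)⁻¹ ∈ (S : Subgroup G) := inv_mem (x ^ c'').2
  have hg₃N : ((x ^ c'' : ↥(S : Subgroup G)) : G)⁻¹ * g₂ ∈ normalizer ((VG S h : Subgroup G) : Set G) := by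
    apply Cfsg.Agent.Lib.Helper5_Sylow.mem_normalizer_of_map_eq
    rw [← Cfsg.Agent.Lib.Helper5_Sylow.map_conj_mul, hV'', VG_rebase, map_conj_inv_map_conj]
  have hg₃D : (DG S h 0).map (MulAut.conj (((x ^ c'' : ↥(S : Subgroup G)) : G)⁻¹ * g₂)).toMonoidHom =
      V1G S h := by
    rw [← Cfsg.Agent.Lib.Helper5_Sylow.map_conj_mul, hD₂, V1G_normal_S S h _ hs]
  -- Step (v)
  have h5 := map_V1G_of_two S h h2 _ hg₃N
  have h6 : DG S h 0 = V1G S h :=
    Subgroup.map_injective (MulAut.conj (((x ^ c'' : ↥(S : Subgroup G)) : G)⁻¹ * g₂)).injective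
      (hg₃D.trans h5.symm)
  exact h.V1_ne_Dt 0 (Subgroup.map_injective (Subgroup.subtype_injective _) h6.symm)

end Syl10


section Syl11

variable {G : Type*} [Group G] [Finite G] (S : Sylow 2 G) {n : ℕ} {x y z : ↥(S : Subgroup G)}
  (h : Wr ↥(S : Subgroup G) n x y z)

include h

/-- if `|N(U) : C(U)| = 6` then every subgroup of index 2 contains `x` -/
theorem x_mem_of_index_two_of_six
    (h6U : (centralizer ((UG S h : Subgroup G) : Set G)).relIndex
      (normalizer ((UG S h : Subgroup G) : Set G)) = 6)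
    (H : Subgroup G) (hH : H.index = 2) : (x : G) ∈ H := by
  haveI : H.Normal := Subgroup.normal_of_index_eq_two hH
  by_contra hx
  obtain ⟨ρ, hρN, hρ⟩ := exists_move_A_of_six S h h6U
  have h1 : ρ * (x : G) * ρ⁻¹ ∈ UG S h := (mem_normalizer_iff.mp hρN _).mp (x_mem_UG S h)
  obtain ⟨u, ⟨a, b, rfl⟩, hue⟩ := h1
  have hn : ρ * (x : G) * ρ⁻¹ ∉ H := by
    intro h'
    apply hx
    have h2 := (inferInstance : H.Normal).conj_mem _ h' ρ⁻¹
    have e : ρ⁻¹ * (ρ * (x : G) * ρ⁻¹) * ρ⁻¹⁻¹ = (x : G) := by group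
    rwa [e] at h2
  rw [← hue] at hn
  have hodd : ¬ Even (a + b) := fun he => hn ((mem_index_two_iff S h H hH hx a b).mpr he)
  have h3 : ρ * ((x ^ ((2 : ℤ) ^ (n - 1)) : ↥(S : Subgroup G)) : G) * ρ⁻¹ =
      (((x ^ a * y ^ b) ^ ((2 : ℤ) ^ (n - 1)) : ↥(S : Subgroup G)) : G) := by
    rw [Subgroup.coe_zpow, Subgroup.coe_zpow]
    have := map_zpow (MulAut.conj ρ) (x : G) ((2 : ℤ) ^ (n - 1))
    simp only [MulAut.conj_apply] at this
    rw [this, ← hue]; rfl
  rw [hρ] at h3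
  have h4 : x ^ ((2 : ℤ) ^ (n - 1)) * y ^ ((2 : ℤ) ^ (n - 1)) =
      (x ^ a * y ^ b) ^ ((2 : ℤ) ^ (n - 1)) := Subtype.ext h3
  rw [el_zpow S h, h.el_eq_iff] at h4
  obtain ⟨⟨u, hu⟩, ⟨v, hv⟩⟩ := h4
  have h2M := h.two_M
  have hpos : (0 : ℤ) < 2 ^ (n - 1) := by positivity
  apply hodd
  have ha : (2 : ℤ) ^ (n - 1) * (1 - a - 2 * u) = 0 := by
    rw [← h2M] at hu; linear_combination hu
  have hb : (2 : ℤ) ^ (n - 1) * (1 - b - 2 * v) = 0 := by
    rw [← h2M] at hv; linear_combination hv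
  have ha' := (mul_eq_zero.mp ha).resolve_left hpos.ne'
  have hb' := (mul_eq_zero.mp hb).resolve_left hpos.ne'
  exact ⟨1 - u - v, by linarith⟩

theorem UG_le_of_index_two_of_six
    (h6U : (centralizer ((UG S h : Subgroup G) : Set G)).relIndex
      (normalizer ((UG S h : Subgroup G) : Set G)) = 6)
    (H : Subgroup G) (hH : H.index = 2) : UG S h ≤ H := by
  haveI : H.Normal := Subgroup.normal_of_index_eq_two hH
  have hx := x_mem_of_index_two_of_six S h h6U H hH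
  have hy : (y : G) ∈ H := by
    have h1 := (inferInstance : H.Normal).conj_mem _ hx (z : G)
    have := congrArg Subtype.val h.rel
    simp only [Subgroup.coe_mul, Subgroup.coe_inv] at this
    rwa [this] at h1
  rintro _ ⟨u, ⟨a, b, rfl⟩, rfl⟩
  show ((x ^ a * y ^ b : ↥(S : Subgroup G)) : G) ∈ H
  rw [Subgroup.coe_mul, Subgroup.coe_zpow, Subgroup.coe_zpow]
  exact mul_mem (zpow_mem hx a) (zpow_mem hy b)

omit [Finite G] in
theorem B_mem_TG : ((y ^ ((2 : ℤ) ^ (n - 1)) : ↥(S : Subgroup G)) : G) ∈ TG S h :=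
  ⟨_, (mem_T0 h _).mpr (Or.inr (Or.inr (Or.inl rfl))), rfl⟩

omit [Finite G] in
theorem TG_cases (t : G) (ht : t ∈ TG S h) (ht1 : t ≠ 1) :
    t = ((x ^ ((2 : ℤ) ^ (n - 1)) : ↥(S : Subgroup G)) : G) ∨
    t = ((y ^ ((2 : ℤ) ^ (n - 1)) : ↥(S : Subgroup G)) : G) ∨
    t = ((x ^ ((2 : ℤ) ^ (n - 1)) * y ^ ((2 : ℤ) ^ (n - 1)) : ↥(S : Subgroup G)) : G) := by
  obtain ⟨s, hs, rfl⟩ := ht
  rcases (mem_T0 h s).mp hs with rfl | rfl | rfl | rfl
  · exact absurd rfl ht1
  · left; rfl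
  · right; left; rfl
  · right; right; rfl

/-- if `|N(U) : C(U)| = 6`, every subgroup of index 2 contains an element of `N(U)` acting
fixed-point-freely on the involutions of `U` -/
theorem exists_fpf_of_six
    (h6U : (centralizer ((UG S h : Subgroup G) : Set G)).relIndex
      (normalizer ((UG S h : Subgroup G) : Set G)) = 6)
    (K : Subgroup G) (hK : K.index = 2) :
    ∃ ρ ∈ K, ρ ∈ normalizer ((UG S h : Subgroup G) : Set G) ∧
      ∀ t ∈ TG S h, t ≠ 1 → ρ * t * ρ⁻¹ ≠ t := by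
  classical
  have h6' : (uHom S h).ker.index = 6 := by rw [uHom_ker]; exact h6U
  have hsurj := surjective_of_index_six (uHom S h) (card_pts (TG S h) (card_TG S h)) h6'
  let pA : Pts (TG S h) := ⟨_, A_mem_TG S h, fun he => h.A_ne_one (Subtype.ext he)⟩
  let pB : Pts (TG S h) := ⟨_, B_mem_TG S h, fun he => h.B_ne_one (Subtype.ext he)⟩
  let pAB : Pts (TG S h) := ⟨_, AB_mem_TG S h, fun he => h.AB_ne_one (Subtype.ext he)⟩
  have hAB : pA ≠ pB := fun he => h.A_ne_B (Subtype.ext (congrArg (fun p : Pts (TG S h) => (p : G)) he))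
  have hAAB : pA ≠ pAB := by
    intro he
    have h1 : x ^ ((2 : ℤ) ^ (n - 1)) = x ^ ((2 : ℤ) ^ (n - 1)) * y ^ ((2 : ℤ) ^ (n - 1)) :=
      Subtype.ext (congrArg (fun p : Pts (TG S h) => (p : G)) he)
    exact h.B_ne_one (by simpa using h1)
  have hBAB : pB ≠ pAB := by
    intro he
    have h1 : y ^ ((2 : ℤ) ^ (n - 1)) = x ^ ((2 : ℤ) ^ (n - 1)) * y ^ ((2 : ℤ) ^ (n - 1)) :=
      Subtype.ext (congrArg (fun p : Pts (TG S h) => (p : G)) he)
    exact h.A_ne_one (by simpa using h1)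
  obtain ⟨ρ, hρ⟩ := hsurj (Equiv.swap pA pB * Equiv.swap pB pAB)
  have hτA : (uHom S h ρ) pA = pB := by
    rw [hρ, Equiv.Perm.mul_apply, Equiv.swap_apply_of_ne_of_ne hAB hAAB, Equiv.swap_apply_left]
  have hτB : (uHom S h ρ) pB = pAB := by
    rw [hρ, Equiv.Perm.mul_apply, Equiv.swap_apply_left,
      Equiv.swap_apply_of_ne_of_ne hAAB.symm hBAB.symm]
  have hτAB : (uHom S h ρ) pAB = pA := by
    rw [hρ, Equiv.Perm.mul_apply, Equiv.swap_apply_right, Equiv.swap_apply_right]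
  have hact : ∀ p : Pts (TG S h), ((uHom S h (ρ * ρ) p : Pts (TG S h)) : G) =
      ((ρ * ρ : normalizer ((UG S h : Subgroup G) : Set G)) : G) * (p : G) *
        ((ρ * ρ : normalizer ((UG S h : Subgroup G) : Set G)) : G)⁻¹ := fun p => rfl
  refine ⟨((ρ * ρ : normalizer ((UG S h : Subgroup G) : Set G)) : G), ?_, (ρ * ρ).2, ?_⟩
  · rw [Subgroup.coe_mul]
    exact (Subgroup.mul_mem_iff_of_index_two hK).mpr Iff.rfl
  · intro t ht ht1
    rcases TG_cases S h t ht ht1 with rfl | rfl | rfl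
    · have := hact pA
      rw [map_mul, Equiv.Perm.mul_apply, hτA, hτB] at this
      rw [← this]
      exact fun he => hAAB (Subtype.ext he).symm
    · have := hact pB
      rw [map_mul, Equiv.Perm.mul_apply, hτB, hτAB] at this
      rw [← this]
      exact fun he => hAB (Subtype.ext he)
    · have := hact pAB
      rw [map_mul, Equiv.Perm.mul_apply, hτAB, hτA] at this
      rw [← this]
      exact fun he => hBAB (Subtype.ext he)

end Syl11


section Generic3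

variable {G : Type*} [Group G]

/-- an element `≠ 1` of 2-power order has a power which is an involution -/
theorem exists_invol_pow (w : G) (hw : w ≠ 1) (k : ℕ) (ho : orderOf w = 2 ^ k) :
    ∃ j : ℕ, (w ^ j) * (w ^ j) = 1 ∧ w ^ j ≠ 1 := by
  have hk : k ≠ 0 := by
    rintro rfl
    rw [pow_zero, orderOf_eq_one_iff] at ho
    exact hw ho
  obtain ⟨k', rfl⟩ : ∃ k', k = k' + 1 := ⟨k - 1, by omega⟩
  refine ⟨2 ^ k', ?_, ?_⟩
  · rw [← pow_add, ← two_mul, ← pow_succ', ← ho]; exact pow_orderOf_eq_one w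
  · intro he
    have h1 := orderOf_dvd_of_pow_eq_one he
    rw [ho] at h1
    have h2 := Nat.le_of_dvd (by positivity) h1
    rw [pow_succ] at h2
    have h0 : 0 < 2 ^ k' := by positivity
    omega

end Generic3

section Syl12

variable {G : Type*} [Group G] [Finite G] (S : Sylow 2 G) {n : ℕ} {x y z : ↥(S : Subgroup G)}
  (h : Wr ↥(S : Subgroup G) n x y z)

include h

theorem even_card : Even (Nat.card G) := by
  have h1 : Nat.card (S : Subgroup G) ∣ Nat.card G := Subgroup.card_subgroup_dvd_card _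
  rw [h.card] at h1
  exact (even_iff_two_dvd.mpr (dvd_pow_self 2 (by omega))).trans_dvd h1

omit [Finite G] in
theorem relIndex_UG : (UG S h).relIndex (S : Subgroup G) = 2 := by
  show ((h.U.map (S : Subgroup G).subtype).subgroupOf (S : Subgroup G)).index = 2
  have : (h.U.map (S : Subgroup G).subtype).subgroupOf (S : Subgroup G) = h.U :=
    Subgroup.comap_map_eq_self_of_injective (Subgroup.subtype_injective _) _
  rw [this]; exact h.index_U

omit [Finite G] in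
theorem z_notin_UG : (z : G) ∉ UG S h := by
  rintro ⟨u, hu, hue⟩
  have : u = z := Subtype.ext hue
  exact h.z_notin_U (this ▸ hu)

/-- Thompson transfer: if `z` is not conjugate to an involution of `U` then `G` has a subgroup
of index 2 -/
theorem exists_index_two_of_not_conj (hz : ∀ a ∈ TG S h, ¬ IsConj (z : G) a) :
    ∃ K : Subgroup G, K.index = 2 := by
  by_contra hno
  push_neg at hno
  have hoz : orderOf (z : G) = 2 ^ 1 := by rw [Subgroup.orderOf_coe, h.oz]; rfl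
  obtain ⟨g, hg⟩ := Cfsg.Agent.S3225.result (even_card S h) hno S (UG S h) (UG_le S h)
    (relIndex_UG S h) 1 (le_refl 1)
    (by
      intro y' _ hy'M
      have hpos : 0 < orderOf y' := orderOf_pos y'
      have h1 : orderOf y' ≠ 1 := by
        intro h1
        rw [orderOf_eq_one_iff] at h1
        exact hy'M (h1 ▸ one_mem _)
      simp only [Nat.sub_self, pow_zero]
      omega)
    (z : G) z.2 hoz
  apply hz (g * (z : G) * g⁻¹)
  · rw [mem_TG_iff]
    refine ⟨hg, ?_⟩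
    have hzz : (z : G) * (z : G) = 1 := congrArg Subtype.val h.zz
    calc g * (z : G) * g⁻¹ * (g * (z : G) * g⁻¹) = g * ((z : G) * (z : G)) * g⁻¹ := by group
      _ = 1 := by rw [hzz]; group
  · exact isConj_iff.mpr ⟨g, rfl⟩

/-- a subgroup `K` of index 2 containing `U` and an element of `N(U)` acting
fixed-point-freely on the involutions of `U` has no subgroup of index 2 -/
theorem no_index_two_sub (K : Subgroup G) (hK : K.index = 2) (hUK : UG S h ≤ K) (ρ : G)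
    (hρK : ρ ∈ K) (hρN : ρ ∈ normalizer ((UG S h : Subgroup G) : Set G))
    (hfpf : ∀ t ∈ TG S h, t ≠ 1 → ρ * t * ρ⁻¹ ≠ t) (H : Subgroup ↥K) : H.index ≠ 2 := by
  intro hH
  haveI : Fact (Nat.Prime 2) := ⟨Nat.prime_two⟩
  haveI : H.Normal := Subgroup.normal_of_index_eq_two hH
  let f : ↥(UG S h) → ↥(UG S h) := fun u =>
    ⟨(u : G)⁻¹ * (ρ * u * ρ⁻¹), mul_mem (inv_mem u.2) ((mem_normalizer_iff.mp hρN u).mp u.2)⟩
  have hinj : Function.Injective f := by
    intro u v huv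
    have h1 : (u : G)⁻¹ * (ρ * u * ρ⁻¹) = (v : G)⁻¹ * (ρ * v * ρ⁻¹) := congrArg Subtype.val huv
    have hw : ρ * ((u : G) * (v : G)⁻¹) * ρ⁻¹ = (u : G) * (v : G)⁻¹ := by
      have e1 : ρ * u * ρ⁻¹ = u * ((v : G)⁻¹ * (ρ * v * ρ⁻¹)) := by rw [← h1]; group
      calc ρ * ((u : G) * (v : G)⁻¹) * ρ⁻¹ = (ρ * u * ρ⁻¹) * (ρ * v * ρ⁻¹)⁻¹ := by group
        _ = u * ((v : G)⁻¹ * (ρ * v * ρ⁻¹)) * (ρ * v * ρ⁻¹)⁻¹ := by rw [e1]
        _ = (u : G) * (v : G)⁻¹ := by group
    by_contra hne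
    have hw1 : (u : G) * (v : G)⁻¹ ≠ 1 := fun he => hne (Subtype.ext (mul_inv_eq_one.mp he))
    have hwU : (u : G) * (v : G)⁻¹ ∈ UG S h := mul_mem u.2 (inv_mem v.2)
    obtain ⟨k, hk⟩ := (IsPGroup.iff_orderOf.mp (isPGroup_UG S h)) ⟨_, hwU⟩
    rw [← Subgroup.orderOf_coe] at hk
    obtain ⟨j, hj2, hj1⟩ := exists_invol_pow _ hw1 k hk
    have ht : ((u : G) * (v : G)⁻¹) ^ j ∈ TG S h :=
      (mem_TG_iff S h _).mpr ⟨pow_mem hwU j, hj2⟩
    apply hfpf _ ht hj1
    have := map_pow (MulAut.conj ρ) ((u : G) * (v : G)⁻¹) j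
    simp only [MulAut.conj_apply] at this
    rw [this, hw]
  have hsurj : Function.Surjective f := Finite.injective_iff_surjective.mp hinj
  have hUH : UG S h ≤ H.map K.subtype := by
    intro w hw
    obtain ⟨u, hu⟩ := hsurj ⟨w, hw⟩
    have hwe : (u : G)⁻¹ * (ρ * u * ρ⁻¹) = w := congrArg Subtype.val hu
    have hmem : (⟨u, hUK u.2⟩ : ↥K)⁻¹ * ((⟨ρ, hρK⟩ : ↥K) * ⟨u, hUK u.2⟩ * (⟨ρ, hρK⟩ : ↥K)⁻¹) ∈ H := by
      rw [Subgroup.mul_mem_iff_of_index_two hH, inv_mem_iff]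
      constructor
      · intro h'
        exact (inferInstance : H.Normal).conj_mem _ h' _
      · intro h'
        have h2 := (inferInstance : H.Normal).conj_mem _ h' (⟨ρ, hρK⟩ : ↥K)⁻¹
        have e : (⟨ρ, hρK⟩ : ↥K)⁻¹ * ((⟨ρ, hρK⟩ : ↥K) * ⟨u, hUK u.2⟩ * (⟨ρ, hρK⟩ : ↥K)⁻¹) *
            (⟨ρ, hρK⟩ : ↥K)⁻¹⁻¹ = ⟨u, hUK u.2⟩ := by group
        rwa [e] at h2
    exact ⟨_, hmem, hwe⟩
  have h1 : (H.map K.subtype).index = 4 := by rw [Subgroup.index_map_subtype, hH, hK]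
  have h2 := Subgroup.card_dvd_of_le hUH
  have h3 := Subgroup.card_mul_index (H.map K.subtype)
  have h4 := Subgroup.card_mul_index (S : Subgroup G)
  have h5 := S.not_dvd_index
  rw [card_UG S h] at h2
  obtain ⟨j, hj⟩ := h2
  rw [h1, hj] at h3
  rw [h.card, pow_succ] at h4
  apply h5
  refine ⟨j, ?_⟩
  have h6 : 2 ^ (2 * n) * (2 * (S : Subgroup G).index) = 2 ^ (2 * n) * (4 * j) := by
    rw [← h3] at h4; linarith
  have := Nat.eq_of_mul_eq_mul_left (by positivity) h6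
  omega

end Syl12

end Cfsg.Agent.Lib.Helper5_WreathFusion
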