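import Mathlib
import Cfsg.Agent.Lib.Helper5_WreathFusion
import Cfsg.Agent.Lib.Helper7_NPC

set_option autoImplicit false

/-!
helper5: wreathed Sylow 2-subgroups, the case `|N(U):C(U)| = 2`.
-/

namespace Cfsg.Agent.Lib.Helper5_WreathNil

open Subgroup Cfsg.Agent.Lib.Helper5_Wreath Cfsg.Agent.Lib.Helper5_QDFusion
  Cfsg.Agent.Lib.Helper5_WreathFour Cfsg.Agent.Lib.Helper5_WreathFusion

section Transfer

open MulAction

/-- Thompson transfer, explicit form: `M` of index 2 in a Sylow 2-subgroup `S`, `t` an involution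
with no conjugate in `M`; there is a subgroup `K` of index 2 missing `t` and containing every
`g` all of whose powers are only conjugate to elements of `M` in `S`. -/
theorem exists_index_two_of_transfer {G : Type*} [Group G] [Finite G] (S : Sylow 2 G)
    (M : Subgroup G) (hM : M.relIndex (S : Subgroup G) = 2)
    (t : G) (ht2 : t * t = 1) (hcon : ∀ g : G, g * t * g⁻¹ ∉ M) :
    ∃ K : Subgroup G, K.index = 2 ∧ t ∉ K ∧
      ∀ g : G, (∀ k : G, ∀ j : ℕ, k⁻¹ * g ^ j * k ∈ (S : Subgroup G) → k⁻¹ * g ^ j * k ∈ M) →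
        g ∈ K := by
  classical
  have : Fact (Nat.Prime 2) := ⟨Nat.prime_two⟩
  set H : Subgroup G := (S : Subgroup G) with hH
  set M' : Subgroup H := M.subgroupOf H with hM'
  have hidx : M'.index = 2 := hM
  have : M'.Normal := Subgroup.normal_of_index_eq_two hidx
  have hcardA : Nat.card (H ⧸ M') = 2 := by rw [← Subgroup.index_eq_card]; exact hidx
  have : IsCyclic (H ⧸ M') := isCyclic_of_prime_card hcardA
  let _ : CommGroup (H ⧸ M') := IsCyclic.commGroup
  let ϕ : H →* (H ⧸ M') := QuotientGroup.mk' M'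
  have hker : ∀ (y : G) (hy : y ∈ H), ϕ ⟨y, hy⟩ = 1 ↔ y ∈ M := by
    intro y hy
    rw [QuotientGroup.mk'_apply, QuotientGroup.eq_one_iff]
    rfl
  have hVt : MonoidHom.transfer ϕ t ≠ 1 := by
    let _ : Fintype (Quotient (orbitRel (zpowers t) (G ⧸ H))) := Fintype.ofFinite _
    rw [MonoidHom.transfer_eq_prod_quotient_orbitRel_zpowers_quot, Ne,
      Cfsg.Agent.S3225.prod_eq_one_iff_even hcardA]
    have hper : ∀ q : Quotient (orbitRel (zpowers t) (G ⧸ H)),
        Function.minimalPeriod (t • ·) q.out = 1 ∨ Function.minimalPeriod (t • ·) q.out = 2 := by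
      intro q
      have h1 : Function.minimalPeriod (t • ·) q.out ∣ 2 := by
        rw [← MulAction.pow_smul_eq_iff_minimalPeriod_dvd, pow_two, ht2, one_smul]
      exact (Nat.dvd_prime Nat.prime_two).1 h1
    have key : ∀ q : Quotient (orbitRel (zpowers t) (G ⧸ H)),
        (ϕ ⟨q.out.out⁻¹ * t ^ Function.minimalPeriod (t • ·) q.out * q.out.out,
            QuotientGroup.out_conj_pow_minimalPeriod_mem H t q.out⟩ ≠ 1) ↔
          Odd (Function.minimalPeriod (t • ·) q.out) := by
      intro q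
      rw [Ne, hker]
      rcases hper q with hp | hp
      · rw [hp, pow_one]
        constructor
        · intro _; exact odd_one
        · intro _ hmem
          have := hcon (q.out.out⁻¹)
          rw [inv_inv] at this
          exact this hmem
      · rw [hp, pow_two, ht2]
        constructor
        · intro hnot; exfalso; apply hnot; simp
        · intro hodd; exact absurd hodd (by decide)
    have hodd : Odd (Finset.univ.filter (fun q : Quotient (orbitRel (zpowers t) (G ⧸ H)) =>
          Odd (Function.minimalPeriod (t • ·) q.out))).card := by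
      rw [← Finset.odd_sum_iff_odd_card_odd, ← Subgroup.index_eq_sum_minimalPeriod H t]
      have := S.not_dvd_index
      rw [← Nat.not_even_iff_odd, even_iff_two_dvd]
      exact this
    rw [Nat.not_even_iff_odd]
    convert hodd using 2
    ext q
    simp only [Finset.mem_filter, Finset.mem_univ, true_and]
    exact key q
  have hrange : Nat.card (MonoidHom.transfer ϕ).range = 2 := by
    have h1 : Nat.card (MonoidHom.transfer ϕ).range ∣ 2 := by
      rw [← hcardA]; exact Subgroup.card_subgroup_dvd_card _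
    have h2 : Nat.card (MonoidHom.transfer ϕ).range ≠ 1 := by
      intro h
      rw [Subgroup.card_eq_one] at h
      have : MonoidHom.transfer ϕ t ∈ (MonoidHom.transfer ϕ).range := ⟨t, rfl⟩
      rw [h, Subgroup.mem_bot] at this
      exact hVt this
    rcases (Nat.dvd_prime Nat.prime_two).1 h1 with h | h
    · exact absurd h h2
    · exact h
  refine ⟨(MonoidHom.transfer ϕ).ker, by rw [Subgroup.index_ker]; exact hrange, ?_, ?_⟩
  · rw [MonoidHom.mem_ker]; exact hVt
  · intro g hg
    let _ : Fintype (Quotient (orbitRel (zpowers g) (G ⧸ H))) := Fintype.ofFinite _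
    rw [MonoidHom.mem_ker, MonoidHom.transfer_eq_prod_quotient_orbitRel_zpowers_quot]
    apply Finset.prod_eq_one
    intro q _
    rw [hker]
    exact hg _ _ (QuotientGroup.out_conj_pow_minimalPeriod_mem H g q.out)

end Transfer

section Burnside

open Cfsg.Agent.Lib.Helper7_NPC

/-- a normal 2-complement of a subgroup of index 2 gives one of the group -/
theorem npc_of_index_two {G : Type*} [Group G] [Finite G] (K : Subgroup G) (hK : K.index = 2)
    (hN : NPC 2 ↥K) : NPC 2 G := by
  haveI : Fact (Nat.Prime 2) := ⟨Nat.prime_two⟩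
  haveI : K.Normal := Subgroup.normal_of_index_eq_two hK
  obtain ⟨N, hNn, hNc, k, hk⟩ := hN
  have hcard : Nat.card (N.map K.subtype) = Nat.card N :=
    Subgroup.card_map_of_injective K.subtype_injective
  refine ⟨N.map K.subtype, ⟨?_⟩, ?_, k + 1, ?_⟩
  · rintro _ ⟨m, hm, rfl⟩ g
    have hgK : g * (m : G) * g⁻¹ ∈ K := (inferInstance : K.Normal).conj_mem _ m.2 g
    refine ⟨⟨g * (m : G) * g⁻¹, hgK⟩, ?_, rfl⟩
    apply mem_of_index_pow N hk
    rw [← Subgroup.orderOf_coe]
    show (orderOf (g * (m : G) * g⁻¹)).Coprime 2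
    rw [orderOf_conj', Subgroup.orderOf_coe]
    have h1 : orderOf m ∣ Nat.card N := by
      have := orderOf_dvd_natCard (⟨m, hm⟩ : ↥N)
      rwa [← Subgroup.orderOf_coe] at this
    exact Nat.Coprime.coprime_dvd_left h1 hNc
  · rw [hcard]; exact hNc
  · rw [Subgroup.index_map_subtype, hk, hK, pow_succ]

/-- Burnside's transfer theorem through a subgroup of index 2 -/
theorem hasNormalPComplement_of_index_two {G : Type*} [Group G] [Finite G] (S : Sylow 2 G)
    (K : Subgroup G) (hK : K.index = 2) (U : Subgroup G) (hUK : U ≤ K)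
    (hUS : U ≤ (S : Subgroup G)) (hU : U.relIndex (S : Subgroup G) = 2)
    (hUc : ∀ a ∈ U, ∀ b ∈ U, a * b = b * a)
    (hNC : ∀ g ∈ K, g ∈ normalizer (U : Set G) → g ∈ centralizer (U : Set G)) :
    Cfsg.HasNormalPComplement 2 G := by
  haveI : Fact (Nat.Prime 2) := ⟨Nat.prime_two⟩
  haveI : K.Normal := Subgroup.normal_of_index_eq_two hK
  rw [hasNormalPComplement_iff_npc]
  apply npc_of_index_two K hK
  rw [← hasNormalPComplement_iff_npc]
  have h1 := Cfsg.Agent.Lib.Helper5_Wreath.Wr.card_mul_relIndex_of_le hUS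
  rw [hU] at h1
  have h2 := S.card_eq_multiplicity
  have h3 := Subgroup.card_mul_index K
  rw [hK] at h3
  have hK0 : Nat.card ↥K ≠ 0 := Nat.card_pos.ne'
  have h4 : (Nat.card G).factorization 2 = (Nat.card ↥K).factorization 2 + 1 := by
    rw [← h3, Nat.factorization_mul hK0 (by norm_num)]
    simp [Nat.prime_two.factorization_self]
  have hcardU : Nat.card (U.subgroupOf K) = 2 ^ (Nat.card ↥K).factorization 2 := by
    have e : Nat.card (U.subgroupOf K) = Nat.card U :=
      Nat.card_congr (Subgroup.subgroupOfEquivOfLe hUK).toEquiv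
    rw [e]
    rw [h2, h4, pow_succ] at h1
    exact Nat.eq_of_mul_eq_mul_right (by norm_num) h1
  let P : Sylow 2 ↥K := Sylow.ofCard (U.subgroupOf K) hcardU
  have hPc : (P : Subgroup ↥K) = U.subgroupOf K := Sylow.coe_ofCard _ _
  have hP : normalizer ((P : Subgroup ↥K) : Set ↥K) ≤ centralizer ((P : Subgroup ↥K) : Set ↥K) := by
    rw [hPc]
    intro g hg
    have hgN : (g : G) ∈ normalizer (U : Set G) := by
      rw [mem_normalizer_iff]
      intro u
      constructor
      · intro hu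
        have := (mem_normalizer_iff.mp hg ⟨u, hUK hu⟩).mp (mem_subgroupOf.mpr hu)
        exact mem_subgroupOf.mp this
      · intro hu
        have huK : u ∈ K := by
          have h5 := (inferInstance : K.Normal).conj_mem _ (hUK hu) (g : G)⁻¹
          have e : (g : G)⁻¹ * ((g : G) * u * (g : G)⁻¹) * (g : G)⁻¹⁻¹ = u := by group
          rwa [e] at h5
        have := (mem_normalizer_iff.mp hg ⟨u, huK⟩).mpr (mem_subgroupOf.mpr hu)
        exact mem_subgroupOf.mp this
    have hgC := hNC _ g.2 hgN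
    rw [mem_centralizer_iff] at hgC ⊢
    intro u hu
    apply Subtype.ext
    exact hgC u (mem_subgroupOf.mp hu)
  exact ⟨P, (MonoidHom.transferSylow P hP).ker, inferInstance,
    MonoidHom.ker_transferSylow_isComplement' P hP⟩

end Burnside

section Syl

variable {G : Type*} [Group G] [Finite G] (S : Sylow 2 G) {n : ℕ} {x y z : ↥(S : Subgroup G)}
  (h : Wr ↥(S : Subgroup G) n x y z)

include h

/-- if `|N(U) : C(U)| = 2`, elements of `N(U)` act on `U` as `1` or as `z` -/
theorem normalizer_cases_of_two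
    (h2U : (centralizer ((UG S h : Subgroup G) : Set G)).relIndex
      (normalizer ((UG S h : Subgroup G) : Set G)) = 2)
    (ν : G) (hν : ν ∈ normalizer ((UG S h : Subgroup G) : Set G)) :
    ν ∈ centralizer ((UG S h : Subgroup G) : Set G) ∨
      (z : G)⁻¹ * ν ∈ centralizer ((UG S h : Subgroup G) : Set G) := by
  by_cases hc : ν ∈ centralizer ((UG S h : Subgroup G) : Set G)
  · exact Or.inl hc
  · exact Or.inr (inv_mul_mem_of_relIndex_two h2U (S_le_normalizer_UG S h z.2) hν
      (z_notin_centralizer_UG S h) hc)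

/-- if `|N(U) : C(U)| = 2` then `A` and `AB` are not conjugate -/
theorem not_conj_A_AB_of_two
    (h2U : (centralizer ((UG S h : Subgroup G) : Set G)).relIndex
      (normalizer ((UG S h : Subgroup G) : Set G)) = 2) :
    ¬ IsConj ((x ^ ((2 : ℤ) ^ (n - 1)) : ↥(S : Subgroup G)) : G)
      ((x ^ ((2 : ℤ) ^ (n - 1)) * y ^ ((2 : ℤ) ^ (n - 1)) : ↥(S : Subgroup G)) : G) := by
  intro hc
  obtain ⟨g, hg⟩ := isConj_iff.mp hc
  haveI : Fact (Nat.Prime 2) := ⟨Nat.prime_two⟩
  set A : G := ((x ^ ((2 : ℤ) ^ (n - 1)) : ↥(S : Subgroup G)) : G) with hA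
  set AB : G := ((x ^ ((2 : ℤ) ^ (n - 1)) * y ^ ((2 : ℤ) ^ (n - 1)) : ↥(S : Subgroup G)) : G) with hAB
  have hSK : (S : Subgroup G) ≤ centralizer ({AB} : Set G) := by
    intro s hs
    rw [mem_centralizer_singleton_iff]
    exact (congrArg Subtype.val (h.AB_central ⟨s, hs⟩))
  have hUK : (UG S h).map (MulAut.conj g).toMonoidHom ≤ centralizer ({AB} : Set G) := by
    rintro _ ⟨u, hu, rfl⟩
    rw [mem_centralizer_singleton_iff, ← hg]
    simp only [MulEquiv.coe_toMonoidHom, MulAut.conj_apply]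
    have := UG_comm S h u hu A (TG_le_UG S h (A_mem_TG S h))
    calc g * u * g⁻¹ * (g * A * g⁻¹) = g * (u * A) * g⁻¹ := by group
      _ = g * (A * u) * g⁻¹ := by rw [this]
      _ = _ := by group
  obtain ⟨k, hk, R, hR2, -, hSR, hUR⟩ :=
    Cfsg.Agent.Lib.Helper5_Sylow.exists_conj_le_common_pgroup hSK hUK S.2 ((isPGroup_UG S h).map _)
  have hRS : R = (S : Subgroup G) := (S.is_maximal' hR2 hSR)
  have hkgU := UG_conj_eq S h (k * g) (by
    rw [← Cfsg.Agent.Lib.Helper5_Sylow.map_conj_mul, ← hRS]; exact hUR)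
  have hν := Cfsg.Agent.Lib.Helper5_Sylow.mem_normalizer_of_map_eq (k * g) _ hkgU
  have hkAB : k * AB * k⁻¹ = AB := by
    rw [mem_centralizer_singleton_iff] at hk
    rw [hk]; group
  have hνA : (k * g) * A * (k * g)⁻¹ = AB := by
    rw [← hkAB, ← hg]; group
  have hAU : A ∈ UG S h := TG_le_UG S h (A_mem_TG S h)
  rcases normalizer_cases_of_two S h h2U _ hν with h1 | h1
  · have h3 := conj_eq_of_mem_centralizer h1 hAU
    rw [hνA] at h3
    have : x ^ ((2 : ℤ) ^ (n - 1)) * y ^ ((2 : ℤ) ^ (n - 1)) = x ^ ((2 : ℤ) ^ (n - 1)) :=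
      Subtype.ext h3
    exact h.B_ne_one (mul_eq_left.mp this)
  · have h3 := conj_eq_of_mem_centralizer h1 hAU
    have h4 : (k * g) * A * (k * g)⁻¹ =
        (z : G) * ((z : G)⁻¹ * (k * g) * A * ((z : G)⁻¹ * (k * g))⁻¹) * (z : G)⁻¹ := by group
    rw [h3, hνA] at h4
    have h5 : x ^ ((2 : ℤ) ^ (n - 1)) * y ^ ((2 : ℤ) ^ (n - 1)) = z * x ^ ((2 : ℤ) ^ (n - 1)) * z⁻¹ :=
      Subtype.ext h4
    rw [h.conj_z_A] at h5
    exact h.A_ne_one (mul_eq_right.mp h5)

/-- an involution among the natural powers of `x` is `A` -/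
theorem x_pow_invol (c : ℕ) (h1 : x ^ c * x ^ c = 1) (h2 : x ^ c ≠ 1) :
    x ^ c = x ^ ((2 : ℤ) ^ (n - 1)) := by
  have h3 : x ^ (2 * (c : ℤ)) = 1 := by
    rw [two_mul, zpow_add, zpow_natCast]; exact h1
  rcases h.x_half c ((h.x_zpow_eq_one_iff _).mp h3) with h4 | h4
  · rw [zpow_natCast] at h4; exact absurd h4 h2
  · rw [zpow_natCast] at h4; exact h4

/-- if `|N(U) : C(U)| = 2` and `|N(V) : V C(V)| = 2`, a conjugate of a power of `x` lying in `S`
lies in `U` -/
theorem conj_pow_x_mem_UG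
    (h2U : (centralizer ((UG S h : Subgroup G) : Set G)).relIndex
      (normalizer ((UG S h : Subgroup G) : Set G)) = 2)
    (h2V : (VG S h ⊔ centralizer ((VG S h : Subgroup G) : Set G)).relIndex
      (normalizer ((VG S h : Subgroup G) : Set G)) = 2)
    (k : G) (j : ℕ) (hk : k⁻¹ * (x : G) ^ j * k ∈ (S : Subgroup G)) :
    k⁻¹ * (x : G) ^ j * k ∈ UG S h := by
  rw [mem_UG]
  refine ⟨hk, ?_⟩
  by_contra hw
  set w : ↥(S : Subgroup G) := ⟨k⁻¹ * (x : G) ^ j * k, hk⟩ with hwdef
  have hwc : (w : G) = k⁻¹ * ((x ^ j : ↥(S : Subgroup G)) : G) * k := by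
    rw [Subgroup.coe_pow]
  rcases h.cases w with ⟨a, b, he⟩ | ⟨a, b, he⟩
  · exact hw ⟨a, b, he⟩
  have hww : w * w ∈ Subgroup.center ↥(S : Subgroup G) := by
    rw [he, h.sq_elz]; exact (h.mem_center_iff _).mpr ⟨_, rfl⟩
  have hxj1 : x ^ j ≠ 1 := by
    intro h1
    apply hw
    have : w = 1 := by
      apply Subtype.ext
      rw [hwc, h1]; simp
    rw [this]; exact one_mem _
  have hw1 : w ≠ 1 := by
    intro h1
    apply hxj1
    have h2 : (w : G) = 1 := by rw [h1]; rfl
    rw [hwc] at h2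
    apply Subtype.ext
    have : ((x ^ j : ↥(S : Subgroup G)) : G) = k * (k⁻¹ * ((x ^ j : ↥(S : Subgroup G)) : G) * k) * k⁻¹ := by
      group
    rw [this, h2]; simp
  by_cases hx2 : x ^ j * x ^ j = 1
  · have hxA := x_pow_invol S h j hx2 hxj1
    have hw2 : w * w = 1 := by
      apply Subtype.ext
      rw [Subgroup.coe_mul, hwc]
      have : ((x ^ j : ↥(S : Subgroup G)) : G) * ((x ^ j : ↥(S : Subgroup G)) : G) = 1 :=
        congrArg Subtype.val hx2
      calc k⁻¹ * ((x ^ j : ↥(S : Subgroup G)) : G) * k * (k⁻¹ * ((x ^ j : ↥(S : Subgroup G)) : G) * k)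
          = k⁻¹ * (((x ^ j : ↥(S : Subgroup G)) : G) * ((x ^ j : ↥(S : Subgroup G)) : G)) * k := by group
        _ = 1 := by rw [this]; simp
    rcases h.invol_cases w hw2 hw1 with h' | h' | h' | ⟨c, h'⟩
    · exact hw (h' ▸ h.A_mem_U)
    · exact hw (h' ▸ B_mem_U h)
    · exact hw (h' ▸ h.AB_mem_U)
    · have h3 := h.conj_z_of_invol c
      rw [← h'] at h3
      obtain ⟨s, hs⟩ := isConj_iff.mp h3
      apply not_conj_z_of_two S h h2V _ (A_mem_TG S h)
      rw [isConj_iff]
      refine ⟨k * (s : G), ?_⟩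
      have h4 : (s : G) * (z : G) * (s : G)⁻¹ = (w : G) := congrArg Subtype.val hs
      rw [← hxA]
      calc k * (s : G) * (z : G) * (k * (s : G))⁻¹ = k * ((s : G) * (z : G) * (s : G)⁻¹) * k⁻¹ := by
            group
        _ = k * (k⁻¹ * ((x ^ j : ↥(S : Subgroup G)) : G) * k) * k⁻¹ := by rw [h4, hwc]
        _ = _ := by group
  · haveI : Fact (Nat.Prime 2) := ⟨Nat.prime_two⟩
    obtain ⟨i, hi⟩ := (IsPGroup.iff_orderOf.mp S.2) (x ^ j * x ^ j)
    obtain ⟨m, hm2, hm1⟩ := exists_invol_pow _ hx2 i hi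
    have hpow : (x ^ j * x ^ j) ^ m = x ^ (2 * j * m) := by
      rw [← pow_add, ← two_mul, ← pow_mul]
    rw [hpow] at hm2 hm1
    have hxA := x_pow_invol S h _ hm2 hm1
    have hc : (((w * w) ^ m : ↥(S : Subgroup G)) : G) =
        k⁻¹ * ((x ^ (2 * j * m) : ↥(S : Subgroup G)) : G) * k := by
      have hcp : ∀ g : G, (k⁻¹ * g * k) ^ m = k⁻¹ * g ^ m * k := by
        intro g
        have := @conj_pow G _ m k⁻¹ g
        rwa [inv_inv] at this
      rw [← hpow, Subgroup.coe_pow, Subgroup.coe_pow, Subgroup.coe_mul, Subgroup.coe_mul, hwc,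
        ← hcp]
      congr 1
      group
    have hcen : (w * w) ^ m ∈ Subgroup.center ↥(S : Subgroup G) := pow_mem hww m
    have hc2 : (w * w) ^ m * (w * w) ^ m = 1 := by
      apply Subtype.ext
      rw [Subgroup.coe_mul, hc]
      have : ((x ^ (2 * j * m) : ↥(S : Subgroup G)) : G) * ((x ^ (2 * j * m) : ↥(S : Subgroup G)) : G) = 1 :=
        congrArg Subtype.val hm2
      calc k⁻¹ * ((x ^ (2 * j * m) : ↥(S : Subgroup G)) : G) * k *
            (k⁻¹ * ((x ^ (2 * j * m) : ↥(S : Subgroup G)) : G) * k)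
          = k⁻¹ * (((x ^ (2 * j * m) : ↥(S : Subgroup G)) : G) *
              ((x ^ (2 * j * m) : ↥(S : Subgroup G)) : G)) * k := by group
        _ = 1 := by rw [this]; simp
    have hc1 : (w * w) ^ m ≠ 1 := by
      intro h1
      apply hm1
      have h2 : (((w * w) ^ m : ↥(S : Subgroup G)) : G) = 1 := by rw [h1]; rfl
      rw [hc] at h2
      apply Subtype.ext
      have : ((x ^ (2 * j * m) : ↥(S : Subgroup G)) : G) =
          k * (k⁻¹ * ((x ^ (2 * j * m) : ↥(S : Subgroup G)) : G) * k) * k⁻¹ := by group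
      rw [this, h2]; simp
    have hAB := h.central_invol _ hcen hc2 hc1
    apply not_conj_A_AB_of_two S h h2U
    rw [isConj_iff]
    refine ⟨k⁻¹, ?_⟩
    rw [← hAB, hc, hxA, inv_inv]

/-- in the case `(2,2)` there is a subgroup of index 2 containing `U` and not `z` -/
theorem exists_index_two_of_two_two
    (h2U : (centralizer ((UG S h : Subgroup G) : Set G)).relIndex
      (normalizer ((UG S h : Subgroup G) : Set G)) = 2)
    (h2V : (VG S h ⊔ centralizer ((VG S h : Subgroup G) : Set G)).relIndex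
      (normalizer ((VG S h : Subgroup G) : Set G)) = 2) :
    ∃ K : Subgroup G, K.index = 2 ∧ (z : G) ∉ K ∧ UG S h ≤ K := by
  have hzz : (z : G) * (z : G) = 1 := congrArg Subtype.val h.zz
  obtain ⟨K, hK, hzK, hmem⟩ := exists_index_two_of_transfer S (UG S h) (relIndex_UG S h) (z : G)
    hzz (by
      intro g hg
      apply not_conj_z_of_two S h h2V (g * (z : G) * g⁻¹)
      · rw [mem_TG_iff]
        refine ⟨hg, ?_⟩
        calc g * (z : G) * g⁻¹ * (g * (z : G) * g⁻¹) = g * ((z : G) * (z : G)) * g⁻¹ := by group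
          _ = 1 := by rw [hzz]; group
      · exact isConj_iff.mpr ⟨g, rfl⟩)
  haveI : K.Normal := Subgroup.normal_of_index_eq_two hK
  have hx : (x : G) ∈ K := hmem _ (fun k j hk => conj_pow_x_mem_UG S h h2U h2V k j hk)
  have hy : (y : G) ∈ K := by
    have h1 := (inferInstance : K.Normal).conj_mem _ hx (z : G)
    have := congrArg Subtype.val h.rel
    simp only [Subgroup.coe_mul, Subgroup.coe_inv] at this
    rwa [this] at h1
  refine ⟨K, hK, hzK, ?_⟩
  rintro _ ⟨u, ⟨a, b, rfl⟩, rfl⟩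
  show ((x ^ a * y ^ b : ↥(S : Subgroup G)) : G) ∈ K
  rw [Subgroup.coe_mul, Subgroup.coe_zpow, Subgroup.coe_zpow]
  exact mul_mem (zpow_mem hx a) (zpow_mem hy b)

/-- a subgroup of index 2 containing `U` contains its centralizer -/
theorem centralizer_UG_le_of_index_two (K : Subgroup G) (hK : K.index = 2) (hUK : UG S h ≤ K) :
    centralizer ((UG S h : Subgroup G) : Set G) ≤ K := by
  haveI : K.Normal := Subgroup.normal_of_index_eq_two hK
  intro g hg
  obtain ⟨a, b, ha, hb, hgab, ⟨k, hk⟩, hbodd⟩ := exists_two_odd_parts g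
  have hpowC : zpowers g ≤ centralizer ((UG S h : Subgroup G) : Set G) := zpowers_le.mpr hg
  have hpowN : zpowers g ≤ normalizer ((UG S h : Subgroup G) : Set G) :=
    hpowC.trans (Subgroup.centralizer_le_normalizer _)
  have hpowT : zpowers g ≤ centralizer ((TG S h : Subgroup G) : Set G) :=
    hpowC.trans (Subgroup.centralizer_le (TG_le_UG S h))
  rw [hgab]
  apply mul_mem
  · obtain ⟨c, hcS, hcU⟩ := exists_conj_sup_le S (UG S h) (UG_le S h) a k hk (hpowN ha)
    have hcN : c ∈ normalizer ((UG S h : Subgroup G) : Set G) :=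
      Cfsg.Agent.Lib.Helper5_Sylow.mem_normalizer_of_map_eq c _ (UG_conj_eq S h c hcU)
    have hcT := conj_mem_centralizer (normalizer_UG_le S h hcN) (hpowT ha)
    have h1 := mem_UG_of_cent_TG S h _ hcS (fun t ht => conj_eq_of_mem_centralizer hcT ht)
    exact hUK ((mem_normalizer_iff.mp hcN a).mpr h1)
  · exact Cfsg.Agent.Lib.Helper7_NPC.mem_of_index_pow (p := 2) K (k := 1) (by rw [hK]; rfl) b
      (Nat.Coprime.symm (Odd.coprime_two_left hbodd))

/-- the case `(2,2)`: `G` has a normal 2-complement -/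
theorem hasNormalPComplement_of_two_two
    (h2U : (centralizer ((UG S h : Subgroup G) : Set G)).relIndex
      (normalizer ((UG S h : Subgroup G) : Set G)) = 2)
    (h2V : (VG S h ⊔ centralizer ((VG S h : Subgroup G) : Set G)).relIndex
      (normalizer ((VG S h : Subgroup G) : Set G)) = 2) :
    Cfsg.HasNormalPComplement 2 G := by
  obtain ⟨K, hK, hzK, hUK⟩ := exists_index_two_of_two_two S h h2U h2V
  apply hasNormalPComplement_of_index_two S K hK (UG S h) hUK (UG_le S h) (relIndex_UG S h)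
    (UG_comm S h)
  intro g hgK hgN
  rcases normalizer_cases_of_two S h h2U g hgN with h1 | h1
  · exact h1
  · exfalso
    apply hzK
    have h2 := centralizer_UG_le_of_index_two S h K hK hUK h1
    have h3 : (z : G)⁻¹ ∈ K := by
      have := mul_mem h2 (inv_mem hgK)
      simpa using this
    exact inv_mem_iff.mp h3

/-- the case `(2,2)`: three classes of involutions -/
theorem card_classes_of_two_two
    (h2U : (centralizer ((UG S h : Subgroup G) : Set G)).relIndex
      (normalizer ((UG S h : Subgroup G) : Set G)) = 2)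
    (h2V : (VG S h ⊔ centralizer ((VG S h : Subgroup G) : Set G)).relIndex
      (normalizer ((VG S h : Subgroup G) : Set G)) = 2) :
    Nat.card {C : ConjClasses G // ∃ t : G, orderOf t = 2 ∧ ConjClasses.mk t = C} = 3 := by
  have hoz : orderOf (z : G) = 2 := by rw [Subgroup.orderOf_coe, h.oz]
  have hoAB : orderOf ((x ^ ((2 : ℤ) ^ (n - 1)) * y ^ ((2 : ℤ) ^ (n - 1)) : ↥(S : Subgroup G)) : G)
      = 2 := by
    rw [Subgroup.orderOf_coe]; exact Wr.orderOf_of_sq h.AB_sq h.AB_ne_one
  apply card_classes_eq_three (fun t : G => orderOf t = 2)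
    ((x ^ ((2 : ℤ) ^ (n - 1)) : ↥(S : Subgroup G)) : G)
    ((x ^ ((2 : ℤ) ^ (n - 1)) * y ^ ((2 : ℤ) ^ (n - 1)) : ↥(S : Subgroup G)) : G) (z : G)
    (orderOf_A S h) hoAB hoz (not_conj_A_AB_of_two S h h2U)
  · exact fun hc => not_conj_z_of_two S h h2V _ (A_mem_TG S h) hc.symm
  · exact fun hc => not_conj_z_of_two S h h2V _ (AB_mem_TG S h) hc.symm
  · exact fun t ht => invol_conj S h t ht

end Syl

end Cfsg.Agent.Lib.Helper5_WreathNil
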