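import Mathlib

set_option autoImplicit false

namespace Cfsg.Agent.Lib.Helper5_Zass

open MulAction

variable {G Ω : Type*} [Group G] [MulAction G Ω] [Fintype Ω]

/-- parity of the number of fixed points of an involution -/
theorem card_fixedBy_modEq_two {s : G} (hs : s * s = 1) :
    Fintype.card Ω ≡ Nat.card (fixedBy Ω s) [MOD 2] := by
  classical
  haveI : Fact (Nat.Prime 2) := ⟨Nat.prime_two⟩
  let f : Function.End Ω := fun x : Ω => s • x
  have hf : f ^ 2 ^ 1 = 1 := by
    rw [pow_one, pow_two]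
    funext x
    show s • s • x = x
    rw [← mul_smul, hs, one_smul]
  have := Equiv.Perm.card_fixedPoints_modEq (p := 2) (n := 1) hf
  rw [Nat.card_eq_fintype_card]
  exact this

/-- If no nonidentity element fixes three points, a nonidentity element has at most 2 fixed points. -/
theorem card_fixedBy_le_two
    (h3 : ∀ g : G, ∀ a b c : Ω, a ≠ b → b ≠ c → a ≠ c → g • a = a → g • b = b → g • c = c → g = 1)
    {s : G} (hs : s ≠ 1) : Nat.card (fixedBy Ω s) ≤ 2 := by
  classical
  rw [Nat.card_eq_fintype_card, Fintype.card_subtype]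
  by_contra hcon
  rw [not_le] at hcon
  obtain ⟨a, b, c, ha, hb, hc, hab, hac, hbc⟩ := Finset.two_lt_card_iff.1 hcon
  simp only [Finset.mem_filter, Finset.mem_univ, true_and] at ha hb hc
  exact hs (h3 s a b c hab hbc hac ha hb hc)

/-- conjugating an involution moving `c` to swap `a` and `b` -/
theorem exists_conj_swap (h2 : ∀ {a b c d : Ω}, a ≠ b → c ≠ d → ∃ g : G, g • a = c ∧ g • b = d)
    {t : G} (ht : t * t = 1) {c : Ω} (hc : t • c ≠ c) {a b : Ω} (hab : a ≠ b) :
    ∃ h : G, (h * t * h⁻¹) • a = b ∧ (h * t * h⁻¹) • b = a := by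
  obtain ⟨h, h1, h2'⟩ := h2 (Ne.symm hc) hab
  have hc' : h⁻¹ • a = c := by rw [inv_smul_eq_iff, h1]
  have hd' : h⁻¹ • b = t • c := by rw [inv_smul_eq_iff, h2']
  refine ⟨h, ?_, ?_⟩
  · rw [mul_smul, mul_smul, hc', h2']
  · rw [mul_smul, mul_smul, hd', ← mul_smul t t, ht, one_smul, h1]

theorem sq_of_orderOf_two {s : G} (hs : orderOf s = 2) : s * s = 1 := by
  rw [← pow_two, ← hs, pow_orderOf_eq_one]

theorem ne_one_of_orderOf_two {s : G} (hs : orderOf s = 2) : s ≠ 1 := by
  intro h1
  rw [h1, orderOf_one] at hs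
  omega

theorem orderOf_conj_two {t : G} (ht : orderOf t = 2) (h : G) : orderOf (h * t * h⁻¹) = 2 := by
  have := (MulAut.conj h).orderOf_eq t
  rw [MulAut.conj_apply] at this
  rw [this, ht]

theorem zass_invol [Finite G] [FaithfulSMul G Ω]
    (h2 : ∀ {a b c d : Ω}, a ≠ b → c ≠ d → ∃ g : G, g • a = c ∧ g • b = d)
    (h3 : ∀ g : G, ∀ a b c : Ω, a ≠ b → b ≠ c → a ≠ c → g • a = a → g • b = b → g • c = c → g = 1)
    {a b : Ω} (hab : a ≠ b) :
    (∃ s : G, orderOf s = 2 ∧ s • a = b ∧ s • b = a) ∧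
    (∀ s : G, orderOf s = 2 →
      (Odd (Fintype.card Ω) → Nat.card (MulAction.fixedBy Ω s) = 1) ∧
      (Even (Fintype.card Ω) → Nat.card (MulAction.fixedBy Ω s) = 0 ∨
        Nat.card (MulAction.fixedBy Ω s) = 2)) ∧
    (Even (Fintype.card Ω) →
      Even (Nat.card ↥(MulAction.stabilizer G a ⊓ MulAction.stabilizer G b)) →
      ∃ s : G, orderOf s = 2 ∧ s • a = b ∧ s • b = a ∧ Nat.card (MulAction.fixedBy Ω s) = 2) := by
  classical
  haveI : Fact (Nat.Prime 2) := ⟨Nat.prime_two⟩
  have hmoves : ∀ t : G, t ≠ 1 → ∃ c : Ω, t • c ≠ c := by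
    intro t ht
    by_contra hcon
    push Not at hcon
    apply ht
    apply FaithfulSMul.eq_of_smul_eq_smul (α := Ω)
    intro c
    rw [hcon c, one_smul]
  have hP2 : ∀ s : G, orderOf s = 2 →
      (Odd (Fintype.card Ω) → Nat.card (MulAction.fixedBy Ω s) = 1) ∧
      (Even (Fintype.card Ω) → Nat.card (MulAction.fixedBy Ω s) = 0 ∨
        Nat.card (MulAction.fixedBy Ω s) = 2) := by
    intro s hs
    have hle := card_fixedBy_le_two h3 (ne_one_of_orderOf_two hs)
    have hmod := card_fixedBy_modEq_two (Ω := Ω) (sq_of_orderOf_two hs)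
    unfold Nat.ModEq at hmod
    constructor
    · intro hodd
      rw [Nat.odd_iff] at hodd
      omega
    · intro hev
      rw [Nat.even_iff] at hev
      omega
  refine ⟨?_, hP2, ?_⟩
  · obtain ⟨g, hga, hgb⟩ := h2 hab hab.symm
    have hpow : ∀ k : ℕ, g ^ k • a = if Even k then a else b := by
      intro k
      induction k with
      | zero => simp
      | succ k ih =>
        rw [pow_succ', mul_smul, ih]
        by_cases hk : Even k
        · have : ¬ Even (k + 1) := by
            rw [Nat.not_even_iff_odd]; exact hk.add_one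
          rw [if_pos hk, if_neg this, hga]
        · have : Even (k + 1) := by
            rw [Nat.not_even_iff_odd] at hk; exact hk.add_one
          rw [if_neg hk, if_pos this, hgb]
    have heven : Even (orderOf g) := by
      by_contra hne
      have := hpow (orderOf g)
      rw [pow_orderOf_eq_one, one_smul, if_neg hne] at this
      exact hab this
    have h2G : 2 ∣ Nat.card G := dvd_trans (even_iff_two_dvd.1 heven) (orderOf_dvd_natCard g)
    obtain ⟨t, ht⟩ := exists_prime_orderOf_dvd_card' 2 h2G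
    obtain ⟨c, hc⟩ := hmoves t (ne_one_of_orderOf_two ht)
    obtain ⟨h, hs1, hs2⟩ := exists_conj_swap h2 (sq_of_orderOf_two ht) hc hab
    exact ⟨h * t * h⁻¹, orderOf_conj_two ht h, hs1, hs2⟩
  · intro hev hH
    obtain ⟨t, ht⟩ := exists_prime_orderOf_dvd_card' 2 (even_iff_two_dvd.1 hH)
    rw [← Subgroup.orderOf_coe] at ht
    have hta : (t : G) • a = a := (Subgroup.mem_inf.1 t.2).1
    obtain ⟨c, hc⟩ := hmoves (t : G) (ne_one_of_orderOf_two ht)
    obtain ⟨h, hs1, hs2⟩ := exists_conj_swap h2 (sq_of_orderOf_two ht) hc hab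
    refine ⟨h * t * h⁻¹, orderOf_conj_two ht h, hs1, hs2, ?_⟩
    have hfix : h • a ∈ MulAction.fixedBy Ω (h * (t : G) * h⁻¹) := by
      rw [MulAction.mem_fixedBy, mul_smul, mul_smul, inv_smul_smul, hta]
    haveI : Nonempty (MulAction.fixedBy Ω (h * (t : G) * h⁻¹)) := ⟨⟨_, hfix⟩⟩
    have hpos : 0 < Nat.card (MulAction.fixedBy Ω (h * (t : G) * h⁻¹)) := Nat.card_pos
    rcases (hP2 _ (orderOf_conj_two ht h)).2 hev with h0 | h0
    · omega
    · exact h0

end Cfsg.Agent.Lib.Helper5_Zass
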