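import Mathlib
import Cfsg.Agent.Lib.Helper5_Zass

set_option autoImplicit false

namespace Cfsg.Agent.Lib.Helper5_Zass2

open MulAction Cfsg.Agent.Lib.Helper5_Zass

variable {G Ω : Type*} [Group G] [MulAction G Ω] [Fintype Ω]

theorem card_fixedBy_eq [DecidableEq Ω] (s : G) :
    Nat.card (fixedBy Ω s) = (Finset.univ.filter (fun c : Ω => s • c = c)).card := by
  rw [Nat.card_eq_fintype_card, Fintype.card_subtype]
  congr 1

/-- number of involutions mapping `c` to `e` is at most the order of a two-point stabiliser -/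
theorem card_invol_swap_le [DecidableEq Ω] [DecidableEq G] [Fintype G]
    (h2 : ∀ {a b c d : Ω}, a ≠ b → c ≠ d → ∃ g : G, g • a = c ∧ g • b = d)
    {a b : Ω} (hab : a ≠ b) {c e : Ω} (hce : c ≠ e) (I : Finset G) (hI : ∀ u ∈ I, u * u = 1) :
    (I.filter (fun u => u • c = e)).card ≤ Nat.card ↥(stabilizer G a ⊓ stabilizer G b) := by
  classical
  by_cases hemp : (I.filter (fun u => u • c = e)) = ∅
  · rw [hemp, Finset.card_empty]; exact Nat.zero_le _
  obtain ⟨u₀, hu₀⟩ := Finset.nonempty_iff_ne_empty.2 hemp
  rw [Finset.mem_filter] at hu₀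
  obtain ⟨g, hga, hgb⟩ := h2 hab hce
  have hswap : ∀ u ∈ I, u • c = e → u • e = c := by
    intro u hu huc
    rw [← huc, ← mul_smul, hI u hu, one_smul]
  rw [← Fintype.card_coe, ← Nat.card_eq_fintype_card]
  refine Nat.card_le_card_of_injective
    (fun u : {u // u ∈ I.filter (fun u => u • c = e)} =>
      (⟨g⁻¹ * (u₀⁻¹ * (u : G)) * g, ?_⟩ : ↥(stabilizer G a ⊓ stabilizer G b))) ?_
  · have hu := Finset.mem_filter.1 u.2
    rw [Subgroup.mem_inf, mem_stabilizer_iff, mem_stabilizer_iff]
    constructor
    · rw [mul_smul, mul_smul, mul_smul, hga, hu.2, inv_smul_eq_iff, inv_smul_eq_iff, hga, hu₀.2]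
    · rw [mul_smul, mul_smul, mul_smul, hgb, hswap _ hu.1 hu.2, inv_smul_eq_iff, inv_smul_eq_iff,
        hgb, hswap _ hu₀.1 hu₀.2]
  · intro u v huv
    have h1 : g⁻¹ * (u₀⁻¹ * (u : G)) * g = g⁻¹ * (u₀⁻¹ * (v : G)) * g := congrArg Subtype.val huv
    have h3 : (u : G) = (v : G) := by
      have h4 := mul_right_cancel h1
      have h5 := mul_left_cancel h4
      exact mul_left_cancel h5
    exact Subtype.ext h3

theorem zass_two_d [Finite G] [FaithfulSMul G Ω]
    (h2 : ∀ {a b c d : Ω}, a ≠ b → c ≠ d → ∃ g : G, g • a = c ∧ g • b = d)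
    (h3 : ∀ g : G, ∀ a b c : Ω, a ≠ b → b ≠ c → a ≠ c → g • a = a → g • b = b → g • c = c → g = 1)
    {a b : Ω} (hab : a ≠ b)
    (heven : Even (Nat.card ↥(stabilizer G a ⊓ stabilizer G b))) :
    Fintype.card Ω - 2 ≤ 2 * Nat.card ↥(stabilizer G a ⊓ stabilizer G b) := by
  classical
  haveI : Fintype G := Fintype.ofFinite G
  haveI : Fact (Nat.Prime 2) := ⟨Nat.prime_two⟩
  obtain ⟨p1, p2, p3⟩ := zass_invol (G := G) (Ω := Ω) h2 h3 hab
  obtain ⟨t', ht'⟩ := exists_prime_orderOf_dvd_card' 2 (even_iff_two_dvd.1 heven)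
  rw [← Subgroup.orderOf_coe] at ht'
  have hta : (t' : G) • a = a := (Subgroup.mem_inf.1 t'.2).1
  have htb : (t' : G) • b = b := (Subgroup.mem_inf.1 t'.2).2
  generalize (t' : G) = t at ht' hta htb
  generalize hd : Nat.card ↥(stabilizer G a ⊓ stabilizer G b) = d
  have hfix_t : 2 ≤ (Finset.univ.filter (fun c : Ω => t • c = c)).card := by
    have : ({a, b} : Finset Ω) ⊆ Finset.univ.filter (fun c : Ω => t • c = c) := by
      intro x hx
      rw [Finset.mem_insert, Finset.mem_singleton] at hx
      rw [Finset.mem_filter]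
      rcases hx with rfl | rfl
      · exact ⟨Finset.mem_univ _, hta⟩
      · exact ⟨Finset.mem_univ _, htb⟩
    calc 2 = ({a, b} : Finset Ω).card := (Finset.card_pair hab).symm
      _ ≤ _ := Finset.card_le_card this
  have hNeven : Even (Fintype.card Ω) := by
    by_contra hodd
    rw [Nat.not_even_iff_odd] at hodd
    have := (p2 t ht').1 hodd
    rw [card_fixedBy_eq] at this
    omega
  let I : Finset G := Finset.univ.filter (fun u => orderOf u = 2 ∧ ∃ c : Ω, u • c = c)
  have hIsq : ∀ u ∈ I, u * u = 1 := fun u hu => sq_of_orderOf_two (Finset.mem_filter.1 hu).2.1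
  have hfix2 : ∀ u ∈ I, (Finset.univ.filter (fun c : Ω => u • c = c)).card = 2 := by
    intro u hu
    obtain ⟨-, hu2, c, hc⟩ := Finset.mem_filter.1 hu
    rcases (p2 u hu2).2 hNeven with h0 | h0
    · rw [card_fixedBy_eq] at h0
      have : c ∈ Finset.univ.filter (fun c : Ω => u • c = c) :=
        Finset.mem_filter.2 ⟨Finset.mem_univ _, hc⟩
      rw [Finset.card_eq_zero] at h0
      rw [h0] at this
      exact absurd this (Finset.notMem_empty _)
    · rwa [card_fixedBy_eq] at h0
  have hstep3 : Fintype.card Ω * Fintype.card Ω - Fintype.card Ω ≤ 2 * I.card := by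
    have hT : ∑ u ∈ I, ∑ x ∈ (Finset.univ : Finset Ω).offDiag,
        (if u • x.1 = x.1 ∧ u • x.2 = x.2 then 1 else 0) = 2 * I.card := by
      rw [mul_comm, ← smul_eq_mul, ← Finset.sum_const]
      apply Finset.sum_congr rfl
      intro u hu
      rw [← Finset.card_filter]
      have : (Finset.univ : Finset Ω).offDiag.filter (fun x => u • x.1 = x.1 ∧ u • x.2 = x.2) =
          (Finset.univ.filter (fun c : Ω => u • c = c)).offDiag := by
        ext ⟨x, y⟩
        simp only [Finset.mem_filter, Finset.mem_offDiag, Finset.mem_univ, true_and]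
        tauto
      rw [this, Finset.offDiag_card, hfix2 u hu]
    rw [← hT, Finset.sum_comm]
    calc _ = ∑ x ∈ (Finset.univ : Finset Ω).offDiag, 1 := by
          rw [Finset.sum_const, smul_eq_mul, mul_one, Finset.offDiag_card, Finset.card_univ]
      _ ≤ _ := by
          apply Finset.sum_le_sum
          intro x hx
          rw [Finset.mem_offDiag] at hx
          obtain ⟨g, hg1, hg2⟩ := h2 hab hx.2.2
          have hu : g * t * g⁻¹ ∈ I := by
            rw [Finset.mem_filter]
            refine ⟨Finset.mem_univ _, orderOf_conj_two ht' g, x.1, ?_⟩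
            rw [mul_smul, mul_smul, inv_smul_eq_iff.2 hg1.symm, hta, hg1]
          rw [← Finset.card_filter]
          apply Finset.card_pos.2
          refine ⟨g * t * g⁻¹, Finset.mem_filter.2 ⟨hu, ?_, ?_⟩⟩
          · rw [mul_smul, mul_smul, inv_smul_eq_iff.2 hg1.symm, hta, hg1]
          · rw [mul_smul, mul_smul, inv_smul_eq_iff.2 hg2.symm, htb, hg2]
  have hstep4 : I.card * (Fintype.card Ω - 2) ≤ Fintype.card Ω * ((Fintype.card Ω - 1) * d) := by
    have hS : ∑ u ∈ I, ∑ c : Ω, (if ¬ (u • c = c) then 1 else 0) =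
        I.card * (Fintype.card Ω - 2) := by
      rw [← smul_eq_mul, ← Finset.sum_const]
      apply Finset.sum_congr rfl
      intro u hu
      rw [← Finset.card_filter]
      have := Finset.card_filter_add_card_filter_not (s := (Finset.univ : Finset Ω))
        (fun c => u • c = c)
      rw [hfix2 u hu, Finset.card_univ] at this
      omega
    rw [← hS, Finset.sum_comm]
    calc _ ≤ ∑ c : Ω, (Fintype.card Ω - 1) * d := by
          apply Finset.sum_le_sum
          intro c _
          rw [← Finset.card_filter]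
          rw [Finset.card_eq_sum_card_fiberwise (f := fun u => u • c) (t := Finset.univ.erase c)]
          · calc _ ≤ ∑ e ∈ Finset.univ.erase c, d := by
                  apply Finset.sum_le_sum
                  intro e he
                  rw [Finset.filter_filter]
                  have hce : c ≠ e := (Finset.ne_of_mem_erase he).symm
                  calc _ ≤ (I.filter (fun u => u • c = e)).card := by
                        apply Finset.card_le_card
                        intro u hu
                        rw [Finset.mem_filter] at hu ⊢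
                        exact ⟨hu.1, hu.2.2⟩
                    _ ≤ d := hd ▸ card_invol_swap_le h2 hab hce I hIsq
              _ = _ := by
                  rw [Finset.sum_const, smul_eq_mul,
                    Finset.card_erase_of_mem (Finset.mem_univ _), Finset.card_univ]
          · intro u hu
            rw [Finset.mem_coe, Finset.mem_filter] at hu
            exact Finset.mem_coe.2 (Finset.mem_erase.2 ⟨hu.2, Finset.mem_univ _⟩)
      _ = _ := by rw [Finset.sum_const, smul_eq_mul, Finset.card_univ]
  have hN2 : 2 ≤ Fintype.card Ω := by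
    calc 2 = ({a, b} : Finset Ω).card := (Finset.card_pair hab).symm
      _ ≤ _ := Finset.card_le_univ _
  obtain ⟨M, hM⟩ : ∃ M, Fintype.card Ω = M + 2 := ⟨Fintype.card Ω - 2, by omega⟩
  rw [hM] at hstep3 hstep4 ⊢
  simp only [Nat.add_sub_cancel] at hstep4 ⊢
  have e1 : (M + 2) * (M + 2) - (M + 2) = (M + 2) * (M + 1) := by
    have : (M + 2) * (M + 2) = (M + 2) * (M + 1) + (M + 2) := by ring
    omega
  have e2 : M + 2 - 1 = M + 1 := by omega
  rw [e1] at hstep3
  rw [e2] at hstep4
  have hpos : 0 < (M + 2) * (M + 1) := by positivity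
  apply Nat.le_of_mul_le_mul_left _ hpos
  calc (M + 2) * (M + 1) * M ≤ 2 * I.card * M := Nat.mul_le_mul_right _ hstep3
    _ = 2 * (I.card * M) := by ring
    _ ≤ 2 * ((M + 2) * ((M + 1) * d)) := Nat.mul_le_mul_left _ hstep4
    _ = (M + 2) * (M + 1) * (2 * d) := by ring

end Cfsg.Agent.Lib.Helper5_Zass2
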