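import Mathlib
import Cfsg.Agent.Lib.Helper5_Frob

set_option autoImplicit false

namespace Cfsg.Agent.Lib.Helper5_ZassF

open MulAction Cfsg.Agent.Lib.Helper5_Frob

variable {G Ω : Type*} [Group G] [MulAction G Ω]

/-- the action of the point stabiliser on the remaining points -/
def stabAction (a : Ω) : MulAction (stabilizer G a) {y : Ω // y ≠ a} where
  smul g y := ⟨(g : G) • y.1, fun h => y.2 (by
    have hg : (g : G) • a = a := g.2
    exact smul_left_cancel (g : G) (h.trans hg.symm))⟩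
  one_smul y := Subtype.ext (by
    show ((1 : stabilizer G a) : G) • y.1 = y.1
    rw [Subgroup.coe_one, one_smul])
  mul_smul g g' y := Subtype.ext (by
    show ((g * g' : stabilizer G a) : G) • y.1 = (g : G) • ((g' : G) • y.1)
    rw [Subgroup.coe_mul, mul_smul])

theorem zassF [Finite G] [Fintype Ω]
    (h3 : ∀ g : G, ∀ a b c : Ω, a ≠ b → b ≠ c → a ≠ c → g • a = a → g • b = b → g • c = c → g = 1)
    {a b : Ω} (hab : a ≠ b)
    (hd : Fintype.card Ω - 2 ≤ 2 * Nat.card ↥(stabilizer G a ⊓ stabilizer G b))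
    (F : Subgroup G) (hFle : F ≤ stabilizer G a)
    (hFn : (F.subgroupOf (stabilizer G a)).Normal)
    (hreg : ∀ y z : Ω, y ≠ a → z ≠ a → ∃! u : F, (u : G) • y = z) :
    IsMulCommutative F ∧ ∃ p f : ℕ, p.Prime ∧ (∀ u ∈ F, u ^ p = 1) ∧
      Fintype.card Ω = p ^ f + 1 := by
  classical
  letI := stabAction (G := G) (Ω := Ω) a
  have hsmul : ∀ (g : stabilizer G a) (y : {y : Ω // y ≠ a}), (g • y).1 = (g : G) • y.1 :=
    fun _ _ => rfl
  have hS : FrobSetup (stabilizer G a) {y : Ω // y ≠ a} (F.subgroupOf (stabilizer G a)) := by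
    refine ⟨?_, hFn, ?_⟩
    · intro g y z hyz hy hz
      have hy' : (g : G) • y.1 = y.1 := by rw [← hsmul, hy]
      have hz' : (g : G) • z.1 = z.1 := by rw [← hsmul, hz]
      have hyz' : y.1 ≠ z.1 := fun h => hyz (Subtype.ext h)
      have := h3 (g : G) a y.1 z.1 (Ne.symm y.2) hyz' (Ne.symm z.2) g.2 hy' hz'
      exact Subtype.ext this
    · intro y z
      obtain ⟨u, hu, huniq⟩ := hreg y.1 z.1 y.2 z.2
      refine ⟨⟨⟨u, hFle u.2⟩, Subgroup.mem_subgroupOf.2 u.2⟩, Subtype.ext hu, ?_⟩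
      intro v hv
      have hv' : (((v : stabilizer G a) : G)) • y.1 = z.1 := by
        rw [← hsmul]; exact congrArg Subtype.val hv
      have := huniq ⟨((v : stabilizer G a) : G), Subgroup.mem_subgroupOf.1 v.2⟩ hv'
      apply Subtype.ext
      apply Subtype.ext
      have h4 : ((v : stabilizer G a) : G) = (u : G) := congrArg Subtype.val this
      exact h4
  have hcardY : Nat.card {y : Ω // y ≠ a} = Fintype.card Ω - 1 := by
    rw [Nat.card_eq_fintype_card, Fintype.card_subtype_compl, Fintype.card_subtype_eq]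
  have hcardH : Nat.card (stabilizer (stabilizer G a) (⟨b, hab.symm⟩ : {y : Ω // y ≠ a})) =
      Nat.card ↥(stabilizer G a ⊓ stabilizer G b) := by
    apply Nat.card_congr
    refine ⟨fun g => ⟨((g : stabilizer G a) : G), Subgroup.mem_inf.2 ⟨(g : stabilizer G a).2, ?_⟩⟩,
      fun h => ⟨⟨(h : G), (Subgroup.mem_inf.1 h.2).1⟩, ?_⟩, ?_, ?_⟩
    · have := g.2
      rw [mem_stabilizer_iff] at this
      rw [mem_stabilizer_iff]
      exact congrArg Subtype.val this
    · rw [mem_stabilizer_iff]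
      apply Subtype.ext
      exact (Subgroup.mem_inf.1 h.2).2
    · intro g; rfl
    · intro h; rfl
  have hnd : Nat.card {y : Ω // y ≠ a} - 1 ≤
      2 * Nat.card (stabilizer (stabilizer G a) (⟨b, hab.symm⟩ : {y : Ω // y ≠ a})) := by
    rw [hcardY, hcardH]
    omega
  have hcomm := hS.comm ⟨b, hab.symm⟩ hnd
  obtain ⟨p, f, hp, hpow, hpf⟩ := hS.elementary ⟨b, hab.symm⟩ hnd
  refine ⟨⟨⟨fun u v => ?_⟩⟩, p, f, hp, ?_, ?_⟩
  · have := hcomm ⟨u, hFle u.2⟩ (Subgroup.mem_subgroupOf.2 u.2) ⟨v, hFle v.2⟩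
      (Subgroup.mem_subgroupOf.2 v.2)
    apply Subtype.ext
    have h4 : (u : G) * (v : G) = (v : G) * (u : G) := congrArg Subtype.val this
    exact h4
  · intro u hu
    have := hpow ⟨u, hFle hu⟩ (Subgroup.mem_subgroupOf.2 hu)
    have h2 := congrArg Subtype.val this
    rwa [Subgroup.coe_pow, Subgroup.coe_one] at h2
  · rw [hcardY] at hpf
    have : 0 < Fintype.card Ω := Fintype.card_pos_iff.2 ⟨a⟩
    omega

end Cfsg.Agent.Lib.Helper5_ZassF
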