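import Mathlib

set_option autoImplicit false

/-!
Finite groups in which the centralizer of every non-central element is a maximal subgroup.
Basic lemmas (helper6).
-/

namespace Cfsg.Agent.Lib.Helper6_CentMax

open Subgroup
open scoped commutatorElement

variable {G : Type*} [Group G]

/-- The hypothesis: every non-central element has a maximal centralizer. -/
def CM (G : Type*) [Group G] : Prop :=
  ∀ g : G, g ∉ center G → IsCoatom (centralizer ({g} : Set G))

theorem mem_cent {x g : G} : g ∈ centralizer ({x} : Set G) ↔ g * x = x * g :=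
  mem_centralizer_singleton_iff

theorem self_mem_cent (x : G) : x ∈ centralizer ({x} : Set G) := mem_cent.mpr rfl

theorem center_le_cent (x : G) : center G ≤ centralizer ({x} : Set G) :=
  center_le_centralizer _

theorem cent_ne_top {x : G} (hx : x ∉ center G) : centralizer ({x} : Set G) ≠ ⊤ := by
  intro h
  rw [centralizer_eq_top_iff_subset] at h
  exact hx (h rfl)

theorem not_mem_center_of_cent_ne_top {x : G} (h : centralizer ({x} : Set G) ≠ ⊤) :
    x ∉ center G := by
  intro hx
  apply h
  rw [centralizer_eq_top_iff_subset]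
  rintro y rfl
  exact hx

/-- Comparable centralizers of non-central elements are equal. -/
theorem cent_eq_of_le (h : CM G) {x y : G} (hx : x ∉ center G) (hy : y ∉ center G)
    (hle : centralizer ({x} : Set G) ≤ centralizer ({y} : Set G)) :
    centralizer ({y} : Set G) = centralizer ({x} : Set G) :=
  ((h x hx).le_iff_eq (cent_ne_top hy)).mp hle

theorem cent_le_cent_pow (x : G) (k : ℕ) :
    centralizer ({x} : Set G) ≤ centralizer ({x ^ k} : Set G) := by
  intro g hg
  rw [mem_cent] at hg ⊢
  exact ((Commute.pow_right (show Commute g x from hg) k)).eq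

theorem cent_pow (h : CM G) {x : G} (k : ℕ) (hxk : x ^ k ∉ center G) :
    centralizer ({x ^ k} : Set G) = centralizer ({x} : Set G) := by
  have hx : x ∉ center G := by
    intro hx
    exact hxk ((center G).pow_mem hx k)
  exact cent_eq_of_le h hx hxk (cent_le_cent_pow x k)

theorem cent_mul_central (x : G) {z : G} (hz : z ∈ center G) :
    centralizer ({x * z} : Set G) = centralizer ({x} : Set G) := by
  ext g
  rw [mem_cent, mem_cent]
  have hzg : g * z = z * g := (mem_center_iff.mp hz g)
  constructor
  · intro hg
    have : g * x * z = x * g * z := by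
      calc g * x * z = g * (x * z) := by rw [mul_assoc]
        _ = x * z * g := hg
        _ = x * (z * g) := by rw [mul_assoc]
        _ = x * (g * z) := by rw [hzg]
        _ = x * g * z := by rw [mul_assoc]
    exact mul_right_cancel this
  · intro hg
    calc g * (x * z) = g * x * z := by rw [mul_assoc]
      _ = x * g * z := by rw [hg]
      _ = x * (g * z) := by rw [mul_assoc]
      _ = x * (z * g) := by rw [hzg]
      _ = x * z * g := by rw [mul_assoc]

/-- If `a` commutes with everything in `C(x)` and is not central, then `C(a) = C(x)`. -/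
theorem cent_eq_of_central_in (h : CM G) {x a : G} (hx : x ∉ center G) (ha : a ∉ center G)
    (hc : ∀ m ∈ centralizer ({x} : Set G), m * a = a * m) :
    centralizer ({a} : Set G) = centralizer ({x} : Set G) :=
  cent_eq_of_le h hx ha (fun m hm => mem_cent.mpr (hc m hm))

/-- P1: for commuting non-central `x`, `u` with different centralizers, `u^k` central implies
`x^k` central. -/
theorem pow_mem_center_of_pow_mem_center (h : CM G) {x u : G} (hx : x ∉ center G)
    (hu : u ∉ center G) (hxu : x * u = u * x)
    (hne : centralizer ({x} : Set G) ≠ centralizer ({u} : Set G)) (k : ℕ)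
    (huk : u ^ k ∈ center G) : x ^ k ∈ center G := by
  by_contra hxk
  have h1 : centralizer ({x ^ k} : Set G) = centralizer ({x} : Set G) := cent_pow h k hxk
  have hcomm : Commute x u := hxu
  have h2 : (x * u) ^ k = x ^ k * u ^ k := hcomm.mul_pow k
  have hxu_nc : x * u ∉ center G := by
    intro hc
    apply hne
    -- u = x⁻¹ * (x*u)
    have : centralizer ({x⁻¹ * (x * u)} : Set G) = centralizer ({x⁻¹} : Set G) :=
      cent_mul_central x⁻¹ hc
    rw [inv_mul_cancel_left] at this
    rw [this]
    ext g
    rw [mem_cent, mem_cent]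
    constructor
    · intro hg
      have : Commute g x := hg
      exact this.inv_right.eq
    · intro hg
      have : Commute g x⁻¹ := hg
      simpa using this.inv_right.eq
  have h3 : centralizer ({(x * u) ^ k} : Set G) = centralizer ({x} : Set G) := by
    rw [h2, cent_mul_central _ huk, h1]
  have h4 : centralizer ({x * u} : Set G) ≤ centralizer ({x} : Set G) := by
    rw [← h3]
    exact cent_le_cent_pow _ _
  have h5 : centralizer ({x} : Set G) = centralizer ({x * u} : Set G) :=
    cent_eq_of_le h hxu_nc hx h4
  -- then C(u) ⊇ C(x)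
  have h6 : centralizer ({x} : Set G) ≤ centralizer ({u} : Set G) := by
    intro g hg
    have hg2 : g ∈ centralizer ({x * u} : Set G) := h5 ▸ hg
    rw [mem_cent] at hg hg2 ⊢
    -- g x u = x u g, g x = x g  ⇒ x g u = x u g
    have : x * (g * u) = x * (u * g) := by
      calc x * (g * u) = x * g * u := by rw [mul_assoc]
        _ = g * x * u := by rw [hg]
        _ = g * (x * u) := by rw [mul_assoc]
        _ = x * u * g := hg2
        _ = x * (u * g) := by rw [mul_assoc]
    exact mul_left_cancel this
  exact hne (cent_eq_of_le h hx hu h6).symm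

/-- P2: in that situation some prime power `x^p`, `u^p` are central. -/
theorem exists_prime_pow_mem_center [Finite G] (h : CM G) {x u : G} (hx : x ∉ center G)
    (hu : u ∉ center G) (hxu : x * u = u * x)
    (hne : centralizer ({x} : Set G) ≠ centralizer ({u} : Set G)) :
    ∃ p : ℕ, p.Prime ∧ x ^ p ∈ center G ∧ u ^ p ∈ center G := by
  classical
  have hex : ∃ n : ℕ, 0 < n ∧ x ^ n ∈ center G :=
    ⟨orderOf x, orderOf_pos x, by rw [pow_orderOf_eq_one]; exact one_mem _⟩
  let n := Nat.find hex
  have hn : 0 < n ∧ x ^ n ∈ center G := Nat.find_spec hex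
  have hmin : ∀ m : ℕ, 0 < m → x ^ m ∈ center G → n ≤ m := fun m h0 hm =>
    Nat.find_min' hex ⟨h0, hm⟩
  have hn1 : n ≠ 1 := by
    intro h1
    apply hx
    have := hn.2
    rwa [h1, pow_one] at this
  let p := n.minFac
  have hp : p.Prime := Nat.minFac_prime hn1
  obtain ⟨n', hn'⟩ : p ∣ n := Nat.minFac_dvd n
  have hn'pos : 0 < n' := by
    rcases Nat.eq_zero_or_pos n' with h0 | h0
    · rw [h0, mul_zero] at hn'
      omega
    · exact h0
  have key : x ^ p ∈ center G := by
    by_cases hn'1 : n' = 1
    · have : n = p := by rw [hn', hn'1, mul_one]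
      rw [← this]; exact hn.2
    · -- n' > 1, so x^{n'} not central
      have hlt : n' < n := by
        rw [hn']
        have : 2 ≤ p := hp.two_le
        nlinarith
      have hxn' : x ^ n' ∉ center G := by
        intro hc
        have := hmin n' hn'pos hc
        omega
      have hc1 : centralizer ({x ^ n'} : Set G) = centralizer ({x} : Set G) := cent_pow h n' hxn'
      have hcomm : x ^ n' * u = u * x ^ n' := ((Commute.pow_left (show Commute x u from hxu) n')).eq
      have hne' : centralizer ({x ^ n'} : Set G) ≠ centralizer ({u} : Set G) := by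
        rw [hc1]; exact hne
      -- (x^{n'})^p = x^n central ⇒ u^p central
      have hup : u ^ p ∈ center G := by
        apply pow_mem_center_of_pow_mem_center h hu hxn' hcomm.symm hne'.symm p
        rw [← pow_mul, mul_comm, ← hn']
        exact hn.2
      exact pow_mem_center_of_pow_mem_center h hx hu hxu hne p hup
  exact ⟨p, hp, key, pow_mem_center_of_pow_mem_center h hu hx hxu.symm hne.symm p key⟩

/-- P3: if `C(x)` contains a non-central element with a different centralizer, then `C(x)` has
prime exponent modulo the center. -/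
theorem exists_prime_exponent [Finite G] (h : CM G) {x u : G} (hx : x ∉ center G)
    (hu : u ∉ center G) (hxu : x * u = u * x)
    (hne : centralizer ({x} : Set G) ≠ centralizer ({u} : Set G)) :
    ∃ p : ℕ, p.Prime ∧ ∀ m ∈ centralizer ({x} : Set G), m ^ p ∈ center G := by
  obtain ⟨p, hp, hxp, hup⟩ := exists_prime_pow_mem_center h hx hu hxu hne
  refine ⟨p, hp, fun m hm => ?_⟩
  by_cases hmZ : m ∈ center G
  · exact (center G).pow_mem hmZ p
  · have hmx : m * x = x * m := mem_cent.mp hm
    by_cases hcm : centralizer ({m} : Set G) = centralizer ({x} : Set G)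
    · -- use (m, u)
      have hmu : m * u = u * m := by
        have : u ∈ centralizer ({m} : Set G) := by
          rw [hcm]; exact mem_cent.mpr hxu.symm
        exact (mem_cent.mp this).symm
      exact pow_mem_center_of_pow_mem_center h hmZ hu hmu (by rw [hcm]; exact hne) p hup
    · exact pow_mem_center_of_pow_mem_center h hmZ hx hmx hcm p hxp

/-- A subgroup all of whose elements have `p`-th power in the center of `G` is nilpotent. -/
theorem nilpotent_of_pow_mem_center [Finite G] (L : Subgroup G) (p : ℕ) (hp : p.Prime)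
    (hL : ∀ l ∈ L, l ^ p ∈ center G) : Group.IsNilpotent ↥L := by
  haveI : Fact p.Prime := ⟨hp⟩
  let N : Subgroup ↥L := (center G).subgroupOf L
  haveI : N.Normal := by
    show ((center G).subgroupOf L).Normal
    infer_instance
  have hker : (QuotientGroup.mk' N).ker ≤ center ↥L := by
    rw [QuotientGroup.ker_mk']
    intro a ha
    rw [mem_center_iff]
    intro b
    have ha' : (a : G) ∈ center G := ha
    apply Subtype.ext
    simp only [Subgroup.coe_mul]
    exact mem_center_iff.mp ha' b
  have hpg : IsPGroup p (↥L ⧸ N) := by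
    intro q
    induction q using QuotientGroup.induction_on with
    | H l =>
      refine ⟨1, ?_⟩
      rw [pow_one, ← QuotientGroup.mk_pow, QuotientGroup.eq_one_iff]
      show ((l ^ p : ↥L) : G) ∈ center G
      rw [Subgroup.coe_pow]
      exact hL l l.2
  haveI : Group.IsNilpotent (↥L ⧸ N) := hpg.isNilpotent
  exact Subgroup.isNilpotent_of_ker_le_center (QuotientGroup.mk' N) hker

/-- Lemma K: a non-central element with non-normal centralizer has a conjugate not commuting
with it. -/
theorem exists_conj_not_comm (h : CM G) {x : G}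
    (hnn : ¬ (centralizer ({x} : Set G)).Normal) :
    ∃ g : G, (g * x * g⁻¹) * x ≠ x * (g * x * g⁻¹) := by
  by_contra hall
  push Not at hall
  set M := centralizer ({x} : Set G) with hM
  set N0 := M.normalCore with hN0
  have hxN0 : x ∈ N0 := by
    rw [hN0, Subgroup.normalCore]
    intro b
    exact mem_cent.mpr (hall b)
  have hN0M : N0 ≤ M := Subgroup.normalCore_le M
  have hne : N0 ≠ M := by
    intro he
    apply hnn
    rw [← he]
    infer_instance
  obtain ⟨m, hmM, hmN0⟩ : ∃ m ∈ M, m ∉ N0 := by
    by_contra hno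
    push Not at hno
    exact hne (le_antisymm hN0M hno)
  have hZN0 : center G ≤ N0 := Subgroup.normal_le_normalCore.mpr (center_le_cent x)
  have hmZ : m ∉ center G := fun hc => hmN0 (hZN0 hc)
  have hco := h m hmZ
  have hnle : ¬ N0 ≤ centralizer ({m} : Set G) := by
    intro hle
    -- m ∈ centralizer N0, which is normal and inside M
    have hm1 : m ∈ centralizer (N0 : Set G) := by
      rw [mem_centralizer_iff]
      intro n hn
      exact (mem_cent.mp (hle hn))
    have hle2 : centralizer (N0 : Set G) ≤ M := centralizer_le (by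
      intro y hy
      rw [Set.mem_singleton_iff] at hy
      rw [hy]; exact hxN0)
    have hle3 : centralizer (N0 : Set G) ≤ N0 := Subgroup.normal_le_normalCore.mpr hle2
    exact hmN0 (hle3 hm1)
  have htop : centralizer ({m} : Set G) ⊔ N0 = ⊤ := by
    apply hco.2
    apply lt_of_le_of_ne le_sup_left
    intro he
    apply hnle
    rw [he]
    exact le_sup_right
  -- every conjugate of x commutes with m
  have hconj : ∀ g : G, m * (g * x * g⁻¹) = (g * x * g⁻¹) * m := by
    intro g
    have hg : g ∈ centralizer ({m} : Set G) ⊔ N0 := by rw [htop]; exact mem_top g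
    rw [Subgroup.mem_sup_of_normal_right] at hg
    obtain ⟨c, hc, n, hn, rfl⟩ := hg
    have hcm : c * m = m * c := mem_cent.mp hc
    have hnx : n * x = x * n := mem_cent.mp (hN0M hn)
    have hmx : m * x = x * m := mem_cent.mp hmM
    have e1 : c * n * x * (c * n)⁻¹ = c * x * c⁻¹ := by
      rw [mul_inv_rev]
      calc c * n * x * (n⁻¹ * c⁻¹) = c * (n * x) * n⁻¹ * c⁻¹ := by simp only [mul_assoc]
        _ = c * (x * n) * n⁻¹ * c⁻¹ := by rw [hnx]
        _ = c * x * c⁻¹ := by simp only [mul_assoc, mul_inv_cancel_left]
    rw [e1]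
    have hcm' : c⁻¹ * m = m * c⁻¹ := by
      have : Commute c m := hcm
      exact this.inv_left.eq
    calc m * (c * x * c⁻¹) = (m * c) * x * c⁻¹ := by simp only [mul_assoc]
      _ = (c * m) * x * c⁻¹ := by rw [hcm]
      _ = c * (m * x) * c⁻¹ := by simp only [mul_assoc]
      _ = c * (x * m) * c⁻¹ := by rw [hmx]
      _ = c * x * (m * c⁻¹) := by simp only [mul_assoc]
      _ = c * x * (c⁻¹ * m) := by rw [hcm']
      _ = c * x * c⁻¹ * m := by simp only [mul_assoc]
  apply hmN0
  rw [hN0, Subgroup.normalCore]
  intro b
  show b * m * b⁻¹ ∈ M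
  rw [hM, mem_cent]
  have := hconj b⁻¹
  rw [inv_inv] at this
  -- m * (b⁻¹ x b) = (b⁻¹ x b) * m  ⇒ (b m b⁻¹) x = x (b m b⁻¹)
  calc b * m * b⁻¹ * x = b * (m * (b⁻¹ * x * b)) * b⁻¹ := by
        simp only [mul_assoc, mul_inv_cancel, mul_one]
    _ = b * ((b⁻¹ * x * b) * m) * b⁻¹ := by rw [this]
    _ = x * (b * m * b⁻¹) := by simp only [mul_assoc, mul_inv_cancel_left]

theorem ucs_stable {H : Type*} [Group H]
    (hst : Subgroup.upperCentralSeries H 2 = Subgroup.upperCentralSeries H 1) :
    ∀ n, Subgroup.upperCentralSeries H (n + 1) = Subgroup.upperCentralSeries H 1 := by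
  intro n
  induction n with
  | zero => rfl
  | succ k ih =>
    ext x
    rw [Subgroup.mem_upperCentralSeries_succ_iff, ih]
    constructor
    · intro hx
      rw [← hst]
      exact hx
    · intro hx
      rw [← hst] at hx
      exact hx

/-- A nilpotent non-abelian group has an element of the second center outside the center. -/
theorem exists_second_center {H : Type*} [Group H] [Group.IsNilpotent H]
    (hna : center H ≠ ⊤) :
    ∃ u : H, u ∉ center H ∧ ∀ y : H, ⁅u, y⁆ ∈ center H := by
  by_contra hno
  push Not at hno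
  have hst : Subgroup.upperCentralSeries H 2 = Subgroup.upperCentralSeries H 1 := by
    apply le_antisymm
    · intro u hu
      rw [Subgroup.upperCentralSeries_one]
      by_contra huc
      obtain ⟨y, hy⟩ := hno u huc
      apply hy
      have := (Subgroup.mem_upperCentralSeries_succ_iff (n := 1)).mp hu y
      rwa [Subgroup.upperCentralSeries_one] at this
    · exact Subgroup.upperCentralSeries_mono H (by norm_num)
  obtain ⟨n, hn⟩ := Group.IsNilpotent.nilpotent H
  apply hna
  cases n with
  | zero =>
    rw [Subgroup.upperCentralSeries_zero] at hn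
    rw [eq_top_iff, ← hn]
    exact bot_le
  | succ k =>
    rw [ucs_stable hst k, Subgroup.upperCentralSeries_one] at hn
    exact hn

/-- Prop 1: a non-normal centralizer of a non-central element is abelian. -/
theorem comm_of_not_normal [Finite G] (h : CM G) {x : G} (hx : x ∉ center G)
    (hnn : ¬ (centralizer ({x} : Set G)).Normal) :
    ∀ a ∈ centralizer ({x} : Set G), ∀ b ∈ centralizer ({x} : Set G), a * b = b * a := by
  by_contra hnc
  push Not at hnc
  obtain ⟨a, haM, b, hbM, hab⟩ := hnc
  set M := centralizer ({x} : Set G) with hM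
  have hMco : IsCoatom M := h x hx
  -- a is noncentral with C(a) ≠ M
  have haZ : a ∉ center G := fun hc => hab ((mem_center_iff.mp hc b).symm)
  have hax : x * a = a * x := (mem_cent.mp haM).symm
  have hCa : M ≠ centralizer ({a} : Set G) := by
    intro he
    apply hab
    have : b ∈ centralizer ({a} : Set G) := he ▸ hbM
    exact (mem_cent.mp this).symm
  obtain ⟨p, hp, hpM⟩ := exists_prime_exponent h hx haZ hax hCa
  haveI : Group.IsNilpotent ↥M := nilpotent_of_pow_mem_center M p hp hpM
  have hcM : center ↥M ≠ ⊤ := by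
    intro he
    apply hab
    have : (⟨a, haM⟩ : ↥M) ∈ center ↥M := by rw [he]; exact mem_top _
    have := mem_center_iff.mp this ⟨b, hbM⟩
    have := congrArg Subtype.val this
    simpa using this.symm
  obtain ⟨u, huc, hu2⟩ := exists_second_center hcM
  -- u' = (u : G)
  have huM : (u : G) ∈ M := u.2
  have hux : x * (u : G) = (u : G) * x := (mem_cent.mp huM).symm
  -- some m ∈ M not commuting with u
  obtain ⟨m0, hm0⟩ : ∃ m0 : ↥M, m0 * u ≠ u * m0 := by
    by_contra hno
    push Not at hno
    exact huc (mem_center_iff.mpr hno)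
  have huZ : (u : G) ∉ center G := by
    intro hc
    apply hm0
    apply Subtype.ext
    simp only [Subgroup.coe_mul]
    exact mem_center_iff.mp hc m0
  set L := centralizer ({(u : G)} : Set G) with hL
  have hLco : IsCoatom L := h _ huZ
  have hLM : M ≠ L := by
    intro he
    apply hm0
    have : (m0 : G) ∈ L := he ▸ m0.2
    have := mem_cent.mp this
    apply Subtype.ext
    simpa using this
  have hxL : x ∈ L := mem_cent.mpr hux
  -- D = M ⊓ L is normalized by M
  set D := M ⊓ L with hD
  have hxD : x ∈ D := Subgroup.mem_inf.mpr ⟨self_mem_cent x, hxL⟩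
  have hDM : D ≤ M := inf_le_left
  have hMnorm : M ≤ normalizer (D : Set G) := by
    intro m hm
    -- it suffices to show conjugation by m maps D into D for all m ∈ M
    have key : ∀ m ∈ M, ∀ d ∈ D, m * d * m⁻¹ ∈ D := by
      intro m hm d hd
      have hdM : d ∈ M := hDM hd
      have hdL : d ∈ L := (Subgroup.mem_inf.mp hd).2
      refine Subgroup.mem_inf.mpr ⟨M.mul_mem (M.mul_mem hm hdM) (M.inv_mem hm), ?_⟩
      rw [hL, mem_cent]
      -- c := ⁅u, m⁻¹⁆ central in M
      have hc := hu2 ⟨m⁻¹, M.inv_mem hm⟩
      set c : ↥M := ⁅u, ⟨m⁻¹, M.inv_mem hm⟩⁆ with hcdef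
      have hcval : (c : G) = (u : G) * m⁻¹ * (u : G)⁻¹ * m := by
        rw [hcdef, commutatorElement_def]
        simp
      have hcd : (c : G) * d = d * (c : G) := by
        have := mem_center_iff.mp hc ⟨d, hdM⟩
        have := congrArg Subtype.val this
        simpa using this.symm
      have hdu : d * (u : G) = (u : G) * d := mem_cent.mp hdL
      -- m⁻¹ u m = c⁻¹ u ... let us compute: u m⁻¹ = c m⁻¹ u
      have e1 : (u : G) * m⁻¹ = (c : G) * m⁻¹ * (u : G) := by
        rw [hcval]; simp only [mul_assoc, inv_mul_cancel_left, mul_inv_cancel_left, inv_mul_cancel, mul_one]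
      -- hence m⁻¹ u = c⁻¹ u m⁻¹
      have hcm : (c : G) * m⁻¹ = m⁻¹ * (c : G) := by
        have := mem_center_iff.mp hc ⟨m⁻¹, M.inv_mem hm⟩
        have := congrArg Subtype.val this
        simpa using this.symm
      -- goal: m d m⁻¹ u = u m d m⁻¹
      -- u * (m d m⁻¹) : first u m = ?
      have e2 : m⁻¹ * (u : G) = (c : G)⁻¹ * ((u : G) * m⁻¹) := by
        rw [e1]; simp only [mul_assoc, inv_mul_cancel_left]
      have hcd' : (c : G)⁻¹ * d = d * (c : G)⁻¹ := by
        have : Commute (c : G) d := hcd
        exact this.inv_left.eq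
      have e3 : (u : G) * m = m * ((c : G)⁻¹ * (u : G)) := by
        -- from e1: u m⁻¹ = c m⁻¹ u  ⇒ m u m⁻¹ ... multiply
        have : m * ((c : G)⁻¹ * (u : G)) * m⁻¹ = (u : G) := by
          have e4 : (u : G) * m⁻¹ = m⁻¹ * ((c : G) * (u : G)) := by
            rw [e1, hcm, mul_assoc]
          -- (c⁻¹ u) m⁻¹ = c⁻¹ m⁻¹ c u = m⁻¹ u
          calc m * ((c : G)⁻¹ * (u : G)) * m⁻¹ = m * ((c : G)⁻¹ * ((u : G) * m⁻¹)) := by
                simp only [mul_assoc]
            _ = m * ((c : G)⁻¹ * (m⁻¹ * ((c : G) * (u : G)))) := by rw [e4]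
            _ = m * ((c : G)⁻¹ * m⁻¹ * ((c : G) * (u : G))) := by simp only [mul_assoc]
            _ = m * (m⁻¹ * (c : G)⁻¹ * ((c : G) * (u : G))) := by
                have : Commute (c : G) m⁻¹ := hcm
                rw [this.inv_left.eq]
            _ = (u : G) := by simp only [mul_assoc, inv_mul_cancel_left, mul_inv_cancel_left]
        calc (u : G) * m = (m * ((c : G)⁻¹ * (u : G)) * m⁻¹) * m := by rw [this]
          _ = m * ((c : G)⁻¹ * (u : G)) := by simp only [mul_assoc, inv_mul_cancel, mul_one]
      calc m * d * m⁻¹ * (u : G) = m * d * (m⁻¹ * (u : G)) := by simp only [mul_assoc]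
        _ = m * d * ((c : G)⁻¹ * ((u : G) * m⁻¹)) := by rw [e2]
        _ = m * (d * (c : G)⁻¹) * ((u : G) * m⁻¹) := by simp only [mul_assoc]
        _ = m * ((c : G)⁻¹ * d) * ((u : G) * m⁻¹) := by rw [hcd']
        _ = m * (c : G)⁻¹ * (d * (u : G)) * m⁻¹ := by simp only [mul_assoc]
        _ = m * (c : G)⁻¹ * ((u : G) * d) * m⁻¹ := by rw [hdu]
        _ = (m * ((c : G)⁻¹ * (u : G))) * d * m⁻¹ := by simp only [mul_assoc]
        _ = ((u : G) * m) * d * m⁻¹ := by rw [e3]
        _ = (u : G) * (m * d * m⁻¹) := by simp only [mul_assoc]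
    rw [Subgroup.mem_normalizer_iff]
    intro d
    constructor
    · intro hd
      exact key m hm d hd
    · intro hd
      have := key m⁻¹ (M.inv_mem hm) _ hd
      simpa [mul_assoc] using this
  -- normalizer D = M
  have hnormD : normalizer (D : Set G) = M := by
    rcases hMco.le_iff.mp hMnorm with htop | heq
    · exfalso
      -- D normal, contains x, inside M: all conjugates of x commute with x
      obtain ⟨g, hg⟩ := exists_conj_not_comm h hnn
      apply hg
      have hgn : g ∈ normalizer (D : Set G) := by rw [htop]; exact mem_top g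
      have : g * x * g⁻¹ ∈ D := (Subgroup.mem_normalizer_iff.mp hgn x).mp hxD
      exact mem_cent.mp (hDM this)
    · exact heq
  -- L is nilpotent
  have hxu' : (u : G) * x = x * (u : G) := hux.symm
  obtain ⟨q, hq, hqL⟩ := exists_prime_exponent h huZ hx hxu' (Ne.symm hLM)
  haveI : Group.IsNilpotent ↥L := nilpotent_of_pow_mem_center L q hq hqL
  have hDL : D ≤ L := inf_le_right
  have hNC := (normalizerCondition_iff_only_full_group_self_normalizing (G := ↥L)).mp
    Group.normalizerCondition_of_isNilpotent (D.subgroupOf L)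
  have hself : normalizer ((D.subgroupOf L : Subgroup ↥L) : Set ↥L) = D.subgroupOf L := by
    rw [← Subgroup.subgroupOf_normalizer_eq hDL, hnormD]
    ext l
    rw [Subgroup.mem_subgroupOf, Subgroup.mem_subgroupOf, hD, Subgroup.mem_inf]
    exact ⟨fun hl => ⟨hl, l.2⟩, fun hl => hl.1⟩
  have htopL := hNC hself
  -- so L ≤ D ≤ M, hence L = M
  have hLleM : L ≤ M := by
    intro l hl
    have : (⟨l, hl⟩ : ↥L) ∈ D.subgroupOf L := by rw [htopL]; exact mem_top _
    exact hDM (Subgroup.mem_subgroupOf.mp this)
  exact hLM ((hLco.le_iff_eq hMco.1).mp hLleM)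

end Cfsg.Agent.Lib.Helper6_CentMax
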