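import Mathlib
import Cfsg.Agent.Lib.Helper6_CentMax

set_option autoImplicit false

/-!
Finite groups in which the centralizer of every non-central element is a maximal subgroup:
TI property, counting, solvability (helper6).
-/

namespace Cfsg.Agent.Lib.Helper6_CentMax

open Subgroup
open scoped commutatorElement

variable {G : Type*} [Group G]

/-- A normal maximal subgroup contains the commutator subgroup. -/
theorem commutator_le_of_normal_coatom (N : Subgroup G) [hNn : N.Normal] (hN : IsCoatom N) :
    commutator G ≤ N := by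
  obtain ⟨g, hg⟩ : ∃ g : G, g ∉ N := by
    by_contra hno
    push Not at hno
    exact hN.1 (eq_top_iff.mpr fun x _ => hno x)
  have htop : N ⊔ zpowers g = ⊤ := by
    apply hN.2
    apply lt_of_le_of_ne le_sup_left
    intro he
    apply hg
    rw [he]
    exact le_sup_right (a := N) (mem_zpowers g)
  have hz : ∀ a : G, ∃ i : ℤ, (a : G ⧸ N) = (g : G ⧸ N) ^ i := by
    intro a
    have ha : a ∈ N ⊔ zpowers g := by rw [htop]; exact mem_top a
    rw [Subgroup.mem_sup_of_normal_left] at ha
    obtain ⟨n, hn, k, hk, rfl⟩ := ha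
    obtain ⟨i, rfl⟩ := mem_zpowers_iff.mp hk
    refine ⟨i, ?_⟩
    rw [QuotientGroup.mk_mul, (QuotientGroup.eq_one_iff n).mpr hn, one_mul, QuotientGroup.mk_zpow]
  rw [commutator_def, Subgroup.commutator_le]
  intro a _ b _
  rw [← QuotientGroup.eq_one_iff, commutatorElement_def]
  obtain ⟨i, hi⟩ := hz a
  obtain ⟨j, hj⟩ := hz b
  simp only [QuotientGroup.mk_mul, QuotientGroup.mk_inv, hi, hj]
  have hc : Commute ((g : G ⧸ N) ^ i) ((g : G ⧸ N) ^ j) :=
    (Commute.refl (g : G ⧸ N)).zpow_zpow i j
  rw [hc.eq, mul_inv_cancel_right, mul_inv_cancel]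

theorem normalizer_eq_of_coatom_not_normal (M : Subgroup G) (hM : IsCoatom M)
    (hnn : ¬ M.Normal) : normalizer (M : Set G) = M := by
  rcases hM.le_iff.mp (Subgroup.le_normalizer (H := M)) with htop | heq
  · exact absurd (Subgroup.normalizer_eq_top_iff.mp htop) hnn
  · exact heq

theorem conj_not_mem_center {a : G} (ha : a ∉ center G) (g : G) : g * a * g⁻¹ ∉ center G := by
  intro hc
  apply ha
  have : a = g⁻¹ * (g * a * g⁻¹) * g := by simp [mul_assoc]
  rw [this]
  have := (center G).normal_of_characteristic.conj_mem _ hc g⁻¹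
  simpa using this

/-- TI property for an abelian non-normal centralizer. -/
theorem ti_of_comm (h : CM G) {x : G} (hx : x ∉ center G)
    (hnn : ¬ (centralizer ({x} : Set G)).Normal)
    (hab : ∀ a ∈ centralizer ({x} : Set G), ∀ b ∈ centralizer ({x} : Set G), a * b = b * a)
    {g a : G} (ha : a ∈ centralizer ({x} : Set G)) (haZ : a ∉ center G)
    (hga : g * a * g⁻¹ ∈ centralizer ({x} : Set G)) : g ∈ centralizer ({x} : Set G) := by
  set M := centralizer ({x} : Set G) with hM
  have hCa : centralizer ({a} : Set G) = M :=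
    cent_eq_of_central_in h hx haZ (fun m hm => hab m hm a ha)
  have haZ' : g * a * g⁻¹ ∉ center G := conj_not_mem_center haZ g
  have hCa' : centralizer ({g * a * g⁻¹} : Set G) = M :=
    cent_eq_of_central_in h hx haZ' (fun m hm => hab m hm _ hga)
  have hgn : g ∈ normalizer (M : Set G) := by
    rw [Subgroup.mem_normalizer_iff]
    intro m
    constructor
    · intro hm
      rw [← hCa', mem_cent]
      have hma : m * a = a * m := mem_cent.mp (hCa ▸ hm)
      calc g * m * g⁻¹ * (g * a * g⁻¹) = g * (m * a) * g⁻¹ := by
            simp only [mul_assoc, inv_mul_cancel_left]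
        _ = g * (a * m) * g⁻¹ := by rw [hma]
        _ = g * a * g⁻¹ * (g * m * g⁻¹) := by simp only [mul_assoc, inv_mul_cancel_left]
    · intro hm
      have hm' : g * m * g⁻¹ ∈ centralizer ({g * a * g⁻¹} : Set G) := hCa' ▸ hm
      rw [← hCa, mem_cent]
      have e := mem_cent.mp hm'
      have e2 : g * (m * a) * g⁻¹ = g * (a * m) * g⁻¹ := by
        calc g * (m * a) * g⁻¹ = g * m * g⁻¹ * (g * a * g⁻¹) := by
              simp only [mul_assoc, inv_mul_cancel_left]
          _ = g * a * g⁻¹ * (g * m * g⁻¹) := e
          _ = g * (a * m) * g⁻¹ := by simp only [mul_assoc, inv_mul_cancel_left]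
      exact mul_left_cancel (mul_right_cancel e2)
  rw [normalizer_eq_of_coatom_not_normal M (h x hx) hnn] at hgn
  exact hgn

/-- The set of conjugates of the non-central elements of `M`. -/
def conjFamily (M : Subgroup G) : Set G :=
  {w : G | ∃ g a : G, a ∈ M ∧ a ∉ center G ∧ w = g * a * g⁻¹}

theorem conjFamily_disjoint_center (M : Subgroup G) :
    Disjoint (conjFamily M) (center G : Set G) := by
  rw [Set.disjoint_left]
  rintro w ⟨g, a, _, haZ, rfl⟩ hw
  exact conj_not_mem_center haZ g hw

theorem ncard_conjFamily [Finite G] (M : Subgroup G)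
    (hab : ∀ a ∈ M, ∀ b ∈ M, a * b = b * a)
    (hTI : ∀ g a : G, a ∈ M → a ∉ center G → g * a * g⁻¹ ∈ M → g ∈ M) :
    (conjFamily M).ncard = M.index * ((M : Set G) \ (center G : Set G)).ncard := by
  classical
  let P : Set ((G ⧸ M) × G) := Set.univ ×ˢ ((M : Set G) \ (center G : Set G))
  let f : (G ⧸ M) × G → G := fun qa => qa.1.out * qa.2 * (qa.1.out)⁻¹
  have himg : f '' P = conjFamily M := by
    ext w
    constructor
    · rintro ⟨⟨q, a⟩, ⟨_, haM, haZ⟩, rfl⟩
      exact ⟨q.out, a, haM, haZ, rfl⟩
    · rintro ⟨g, a, haM, haZ, rfl⟩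
      refine ⟨((g : G ⧸ M), a), ⟨Set.mem_univ _, haM, haZ⟩, ?_⟩
      obtain ⟨m, hm⟩ := QuotientGroup.mk_out_eq_mul M g
      show (g : G ⧸ M).out * a * ((g : G ⧸ M).out)⁻¹ = g * a * g⁻¹
      rw [hm, mul_inv_rev]
      have hma : (m : G) * a = a * (m : G) := hab _ m.2 _ haM
      calc g * (m : G) * a * ((m : G)⁻¹ * g⁻¹) = g * ((m : G) * a) * (m : G)⁻¹ * g⁻¹ := by
            simp only [mul_assoc]
        _ = g * (a * (m : G)) * (m : G)⁻¹ * g⁻¹ := by rw [hma]
        _ = g * a * g⁻¹ := by simp only [mul_assoc, mul_inv_cancel_left]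
  have hinj : Set.InjOn f P := by
    rintro ⟨q, a⟩ ⟨_, haM, haZ⟩ ⟨q', b⟩ ⟨_, hbM, _⟩ hfe
    have hfe' : q.out * a * (q.out)⁻¹ = q'.out * b * (q'.out)⁻¹ := hfe
    have hb : (q'.out⁻¹ * q.out) * a * (q'.out⁻¹ * q.out)⁻¹ = b := by
      rw [mul_inv_rev, inv_inv]
      calc q'.out⁻¹ * q.out * a * (q.out⁻¹ * q'.out)
          = q'.out⁻¹ * (q.out * a * q.out⁻¹) * q'.out := by simp only [mul_assoc]
        _ = q'.out⁻¹ * (q'.out * b * q'.out⁻¹) * q'.out := by rw [hfe']
        _ = b := by simp only [mul_assoc, inv_mul_cancel_left, inv_mul_cancel, mul_one]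
    have hgM : q'.out⁻¹ * q.out ∈ M := hTI _ a haM haZ (hb ▸ hbM)
    have hqq : q' = q := by
      rw [← QuotientGroup.out_eq' q', ← QuotientGroup.out_eq' q]
      exact QuotientGroup.eq.mpr hgM
    subst hqq
    have : a = b := by
      have := hfe'
      exact mul_left_cancel (mul_right_cancel this)
    rw [this]
  rw [← himg, hinj.ncard_image, Set.ncard_prod, Set.ncard_univ]
  rfl

/-- Counting: some non-central element has a normal centralizer. -/
theorem exists_normal_cent [Finite G] (h : CM G) (hna : ∃ x : G, x ∉ center G) :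
    ∃ y : G, y ∉ center G ∧ (centralizer ({y} : Set G)).Normal := by
  classical
  by_contra hno
  push Not at hno
  obtain ⟨x, hx⟩ := hna
  -- general facts for any non-central element
  have facts : ∀ y : G, y ∉ center G →
      (conjFamily (centralizer ({y} : Set G))).ncard * 2 ≥ Nat.card G ∧
      (conjFamily (centralizer ({y} : Set G))).ncard + 2 * Nat.card (center G) ≤ Nat.card G := by
    intro y hy
    set M := centralizer ({y} : Set G) with hM
    have hnn := hno y hy
    have hab := comm_of_not_normal h hy hnn
    have hTI : ∀ g a : G, a ∈ M → a ∉ center G → g * a * g⁻¹ ∈ M → g ∈ M :=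
      fun g a ha haZ hga => ti_of_comm h hy hnn hab ha haZ hga
    have hcard := ncard_conjFamily M hab hTI
    have hZM : (center G : Set G) ⊆ (M : Set G) := center_le_cent y
    have hsz : ((M : Set G) \ (center G : Set G)).ncard + (center G : Set G).ncard
        = (M : Set G).ncard := Set.ncard_sdiff_add_ncard_of_subset hZM
    have hMc : (M : Set G).ncard = Nat.card M := (_root_.Nat.card_coe_set_eq (M : Set G)).symm
    have hZc : (center G : Set G).ncard = Nat.card (center G) :=
      (_root_.Nat.card_coe_set_eq (center G : Set G)).symm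
    have hidx : M.index * Nat.card M = Nat.card G := M.index_mul_card
    have hi2 : 2 ≤ M.index := by
      have h0 : M.index ≠ 0 := Subgroup.index_ne_zero_of_finite
      have h1 : M.index ≠ 1 := fun h1 => (h y hy).1 (Subgroup.index_eq_one.mp h1)
      omega
    -- s ≥ z
    have hsz2 : (center G : Set G).ncard ≤ ((M : Set G) \ (center G : Set G)).ncard := by
      apply Set.ncard_le_ncard_of_injOn (fun z => y * z)
      · intro z hz
        refine ⟨M.mul_mem (self_mem_cent y) (hZM hz), ?_⟩
        intro hc
        apply hy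
        have : y = y * z * z⁻¹ := by simp
        rw [this]
        exact (center G).mul_mem hc ((center G).inv_mem hz)
      · intro z _ z' _ he
        exact mul_left_cancel he
    set s := ((M : Set G) \ (center G : Set G)).ncard with hs
    set z := (center G : Set G).ncard with hz
    have hzpos : 0 < Nat.card (center G) := Nat.card_pos
    rw [hMc] at hsz
    rw [hcard]
    have e1 : M.index * s + M.index * z = Nat.card G := by
      rw [← mul_add, hsz, hidx]
    have e2 : M.index * z ≤ M.index * s := Nat.mul_le_mul_left _ hsz2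
    have e3 : 2 * z ≤ M.index * z := Nat.mul_le_mul_right _ hi2
    rw [← hZc]
    constructor
    · omega
    · omega
  have hfx := facts x hx
  -- find y outside conjFamily (C x) ∪ Z
  obtain ⟨y, hyI, hyZ⟩ : ∃ y : G, y ∉ conjFamily (centralizer ({x} : Set G)) ∧
      y ∉ center G := by
    by_contra hall
    push Not at hall
    have hsub : (Set.univ : Set G) ⊆ conjFamily (centralizer ({x} : Set G)) ∪ (center G : Set G) := by
      intro w _
      by_cases hw : w ∈ conjFamily (centralizer ({x} : Set G))
      · exact Or.inl hw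
      · exact Or.inr (hall w hw)
    have h1 := Set.ncard_le_ncard hsub
    have h2 := Set.ncard_union_le (conjFamily (centralizer ({x} : Set G))) (center G : Set G)
    rw [Set.ncard_univ] at h1
    have hZc : (center G : Set G).ncard = Nat.card (center G) :=
      (_root_.Nat.card_coe_set_eq (center G : Set G)).symm
    have hzpos : 0 < Nat.card (center G) := Nat.card_pos
    omega
  have hfy := facts y hyZ
  -- the two families are disjoint
  have hdisj : Disjoint (conjFamily (centralizer ({x} : Set G)))
      (conjFamily (centralizer ({y} : Set G))) := by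
    rw [Set.disjoint_left]
    rintro w ⟨g, a, haM, haZ, rfl⟩ ⟨g', b, hbM, hbZ, he⟩
    apply hyI
    -- b = k a k⁻¹ with k = g'⁻¹ g
    have hab' := comm_of_not_normal h hyZ (hno y hyZ)
    have habx := comm_of_not_normal h hx (hno x hx)
    have hCb : centralizer ({b} : Set G) = centralizer ({y} : Set G) :=
      cent_eq_of_central_in h hyZ hbZ (fun m hm => hab' m hm b hbM)
    have hCa : centralizer ({a} : Set G) = centralizer ({x} : Set G) :=
      cent_eq_of_central_in h hx haZ (fun m hm => habx m hm a haM)
    have hb : b = (g'⁻¹ * g) * a * (g'⁻¹ * g)⁻¹ := by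
      rw [mul_inv_rev, inv_inv]
      calc b = g'⁻¹ * (g' * b * g'⁻¹) * g' := by simp [mul_assoc]
        _ = g'⁻¹ * (g * a * g⁻¹) * g' := by rw [← he]
        _ = g'⁻¹ * g * a * (g⁻¹ * g') := by simp only [mul_assoc]
    -- y commutes with b, so k⁻¹ y k commutes with a
    set k := g'⁻¹ * g with hk
    have hyb : y * b = b * y := (mem_cent.mp hbM).symm
    have hmem : k⁻¹ * y * k ∈ centralizer ({x} : Set G) := by
      rw [← hCa, mem_cent]
      rw [hb] at hyb
      calc k⁻¹ * y * k * a = k⁻¹ * (y * (k * a * k⁻¹)) * k := by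
            simp only [mul_assoc, inv_mul_cancel, mul_one]
        _ = k⁻¹ * ((k * a * k⁻¹) * y) * k := by rw [hyb]
        _ = a * (k⁻¹ * y * k) := by simp only [mul_assoc, inv_mul_cancel_left]
    refine ⟨k, k⁻¹ * y * k, hmem, ?_, ?_⟩
    · have := conj_not_mem_center hyZ k⁻¹
      simpa using this
    · simp [mul_assoc]
  -- count
  have hd1 := conjFamily_disjoint_center (centralizer ({x} : Set G))
  have hd2 := conjFamily_disjoint_center (centralizer ({y} : Set G))
  have hunion : ((conjFamily (centralizer ({x} : Set G)) ∪ conjFamily (centralizer ({y} : Set G)))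
      ∪ (center G : Set G)).ncard ≤ Nat.card G := by
    rw [← Set.ncard_univ]
    exact Set.ncard_le_ncard (Set.subset_univ _)
  rw [Set.ncard_union_eq (Set.disjoint_union_left.mpr ⟨hd1, hd2⟩),
    Set.ncard_union_eq hdisj] at hunion
  have hZc : (center G : Set G).ncard = Nat.card (center G) :=
    (_root_.Nat.card_coe_set_eq (center G : Set G)).symm
  have hzpos : 0 < Nat.card (center G) := Nat.card_pos
  omega

/-- The commutator subgroup is abelian. -/
theorem commutator_comm [Finite G] (h : CM G) :
    ∀ a ∈ commutator G, ∀ b ∈ commutator G, a * b = b * a := by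
  by_cases hna : ∃ x : G, x ∉ center G
  · obtain ⟨y, hy, hyn⟩ := exists_normal_cent h hna
    have hGy : commutator G ≤ centralizer ({y} : Set G) :=
      commutator_le_of_normal_coatom _ (h y hy)
    intro a ha b hb
    by_cases hbZ : b ∈ center G
    · exact (mem_center_iff.mp hbZ a)
    · by_cases hbn : (centralizer ({b} : Set G)).Normal
      · have := commutator_le_of_normal_coatom _ (h b hbZ) ha
        exact mem_cent.mp this
      · exfalso
        have habb := comm_of_not_normal h hbZ hbn
        have hyb : y ∈ centralizer ({b} : Set G) := by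
          have := mem_cent.mp (hGy hb)
          exact mem_cent.mpr this.symm
        have hle : centralizer ({b} : Set G) ≤ centralizer ({y} : Set G) := by
          intro m hm
          exact mem_cent.mpr (habb m hm y hyb)
        have := cent_eq_of_le h hbZ hy hle
        exact hbn (this ▸ hyn)
  · push Not at hna
    intro a _ b _
    exact (mem_center_iff.mp (hna b) a)

theorem solvable_of_commutator_comm
    (hc : ∀ a ∈ commutator G, ∀ b ∈ commutator G, a * b = b * a) : Group.IsSolvable G := by
  have : Group.IsSolvable ↥(commutator G) :=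
    Group.isSolvable_of_comm (fun a b => Subtype.ext (hc a a.2 b b.2))
  exact Group.isSolvable_of_ker_le_range (commutator G).subtype (Abelianization.of)
    (by rw [Abelianization.ker_of, Subgroup.range_subtype])

/-- Main Theorem: a finite group in which every non-central element has a maximal centralizer
is solvable. -/
theorem solvable_of_CM [Finite G] (h : CM G) : Group.IsSolvable G :=
  solvable_of_commutator_comm (commutator_comm h)

end Cfsg.Agent.Lib.Helper6_CentMax
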