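import Mathlib
import Cfsg.Agent.Lib.Helper6_CentMax
import Cfsg.Agent.Lib.Helper6_CentMax2

set_option autoImplicit false

/-!
Finite groups in which the centralizer of every non-central element is a maximal subgroup:
structure in the non-nilpotent case (helper6).
-/

namespace Cfsg.Agent.Lib.Helper6_CentMax

open Subgroup
open scoped commutatorElement

variable {G : Type*} [Group G]

/-- A normal maximal subgroup has prime index `p` and contains all `p`-th powers. -/
theorem prime_index_of_normal_coatom [Finite G] (N : Subgroup G) [hNn : N.Normal]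
    (hN : IsCoatom N) : N.index.Prime ∧ ∀ g : G, g ^ N.index ∈ N := by
  have hcomm : commutator G ≤ N := commutator_le_of_normal_coatom N hN
  letI : CommGroup (G ⧸ N) :=
    { (inferInstance : Group (G ⧸ N)) with
      mul_comm := by
        intro a b
        induction a using QuotientGroup.induction_on with
        | H a =>
        induction b using QuotientGroup.induction_on with
        | H b =>
        rw [← QuotientGroup.mk_mul, ← QuotientGroup.mk_mul]
        apply QuotientGroup.eq.mpr
        apply hcomm
        have : (a * b)⁻¹ * (b * a) = ⁅b⁻¹, a⁻¹⁆ := by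
          rw [commutatorElement_def]; simp [mul_assoc]
        rw [this, commutator_def]
        exact Subgroup.commutator_mem_commutator (mem_top _) (mem_top _) }
  haveI : Nontrivial (G ⧸ N) := by
    obtain ⟨g, hg⟩ : ∃ g : G, g ∉ N := by
      by_contra hno
      push Not at hno
      exact hN.1 (eq_top_iff.mpr fun x _ => hno x)
    refine ⟨⟨(g : G ⧸ N), 1, ?_⟩⟩
    intro he
    exact hg ((QuotientGroup.eq_one_iff g).mp he)
  haveI : IsSimpleGroup (G ⧸ N) := by
    refine ⟨fun H _ => ?_⟩
    have hle : N ≤ H.comap (QuotientGroup.mk' N) := by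
      intro n hn
      rw [Subgroup.mem_comap]
      have : (QuotientGroup.mk' N) n = 1 := (QuotientGroup.eq_one_iff n).mpr hn
      rw [this]; exact H.one_mem
    have hmc : (H.comap (QuotientGroup.mk' N)).map (QuotientGroup.mk' N) = H :=
      Subgroup.map_comap_eq_self_of_surjective (QuotientGroup.mk'_surjective N) H
    rcases hN.le_iff.mp hle with htop | heq
    · right
      rw [← hmc, htop]
      exact Subgroup.map_top_of_surjective _ (QuotientGroup.mk'_surjective N)
    · left
      rw [← hmc, heq]
      exact QuotientGroup.map_mk'_self N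
  have hp : (Nat.card (G ⧸ N)).Prime := IsSimpleGroup.prime_card
  have hidx : N.index = Nat.card (G ⧸ N) := rfl
  refine ⟨hidx ▸ hp, fun g => ?_⟩
  rw [hidx, ← QuotientGroup.eq_one_iff, QuotientGroup.mk_pow]
  exact pow_card_eq_one'

/-- Lemma a: a normal and a non-normal centralizer meet in the center. -/
theorem mem_center_of_mem_both [Finite G] (h : CM G) {w y : G} (hw : w ∉ center G)
    (hwn : ¬ (centralizer ({w} : Set G)).Normal) (hy : y ∉ center G)
    (hyn : (centralizer ({y} : Set G)).Normal) {b : G}
    (hby : b ∈ centralizer ({y} : Set G)) (hbw : b ∈ centralizer ({w} : Set G)) :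
    b ∈ center G := by
  by_contra hbZ
  have hab := comm_of_not_normal h hw hwn
  have hCb : centralizer ({b} : Set G) = centralizer ({w} : Set G) :=
    cent_eq_of_central_in h hw hbZ (fun m hm => hab m hm b hbw)
  have hyb : y ∈ centralizer ({w} : Set G) := by
    rw [← hCb]
    exact mem_cent.mpr (mem_cent.mp hby).symm
  have hCy : centralizer ({y} : Set G) = centralizer ({w} : Set G) :=
    cent_eq_of_central_in h hw hy (fun m hm => hab m hm y hyb)
  exact hwn (hCy ▸ hyn)

/-- Lemma b. -/
theorem normal_of_mem_normal_cent [Finite G] (h : CM G) {y : G} (hy : y ∉ center G)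
    (hyn : (centralizer ({y} : Set G)).Normal) {b : G}
    (hby : b ∈ centralizer ({y} : Set G)) (hbZ : b ∉ center G) :
    (centralizer ({b} : Set G)).Normal := by
  by_contra hbn
  exact hbZ (mem_center_of_mem_both h hbZ hbn hy hyn hby (self_mem_cent b))

/-- Lemma d: all non-central elements of the normal centralizer `K` have centralizer `K`. -/
theorem cent_eq_of_mem_normal_cent [Finite G] (h : CM G) {x y : G} (hx : x ∉ center G)
    (hxn : ¬ (centralizer ({x} : Set G)).Normal) (hy : y ∉ center G)
    (hyn : (centralizer ({y} : Set G)).Normal) {b : G}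
    (hby : b ∈ centralizer ({y} : Set G)) (hbZ : b ∉ center G) :
    centralizer ({b} : Set G) = centralizer ({y} : Set G) := by
  haveI hbn : (centralizer ({b} : Set G)).Normal := normal_of_mem_normal_cent h hy hyn hby hbZ
  haveI := hyn
  set K := centralizer ({y} : Set G) with hK
  set M := centralizer ({x} : Set G) with hM
  set T := K ⊓ centralizer ({b} : Set G) with hT
  have hbT : b ∈ T := Subgroup.mem_inf.mpr ⟨hby, self_mem_cent b⟩
  have hMco := h x hx
  rcases hMco.le_iff.mp (le_sup_left : M ≤ M ⊔ T) with htop | heq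
  · -- K ≤ C(b)
    apply cent_eq_of_le h hy hbZ
    intro k hk
    have hk' : k ∈ M ⊔ T := by rw [htop]; exact mem_top k
    haveI : T.Normal := by rw [hT]; infer_instance
    rw [Subgroup.mem_sup_of_normal_right] at hk'
    obtain ⟨m, hm, t, ht, rfl⟩ := hk'
    have htK : t ∈ K := (Subgroup.mem_inf.mp ht).1
    have hmK : m ∈ K := by
      have : m = m * t * t⁻¹ := by simp
      rw [this]
      exact K.mul_mem hk (K.inv_mem htK)
    have hmZ : m ∈ center G := mem_center_of_mem_both h hx hxn hy hyn hmK hm
    exact (centralizer ({b} : Set G)).mul_mem (center_le_cent b hmZ) (Subgroup.mem_inf.mp ht).2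
  · exfalso
    have hTM : T ≤ M := le_sup_right.trans heq.le
    exact hbZ (mem_center_of_mem_both h hx hxn hy hyn hby (hTM hbT))

/-- Lemma d': the normal centralizer is abelian. -/
theorem comm_of_normal_cent [Finite G] (h : CM G) {x y : G} (hx : x ∉ center G)
    (hxn : ¬ (centralizer ({x} : Set G)).Normal) (hy : y ∉ center G)
    (hyn : (centralizer ({y} : Set G)).Normal) :
    ∀ a ∈ centralizer ({y} : Set G), ∀ b ∈ centralizer ({y} : Set G), a * b = b * a := by
  intro a ha b hb
  by_cases hbZ : b ∈ center G
  · exact mem_center_iff.mp hbZ a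
  · have := cent_eq_of_mem_normal_cent h hx hxn hy hyn hb hbZ
    exact mem_cent.mp (this ▸ ha)

theorem normal_of_commutator_le' (M : Subgroup G) (hM : commutator G ≤ M) : M.Normal := by
  refine ⟨fun m hm g => ?_⟩
  have : g * m * g⁻¹ = ⁅g, m⁆ * m := by
    rw [commutatorElement_def]; simp [mul_assoc]
  rw [this]
  apply M.mul_mem _ hm
  apply hM
  rw [commutator_def]
  exact Subgroup.commutator_mem_commutator (mem_top _) (mem_top _)

/-- Lemma f: the commutator subgroup is not central. -/
theorem not_commutator_le_center {x : G}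
    (hxn : ¬ (centralizer ({x} : Set G)).Normal) : ¬ commutator G ≤ center G := by
  intro hle
  exact hxn (normal_of_commutator_le' _ (hle.trans (center_le_cent x)))

/-- Lemma e: elements outside the normal centralizer have non-normal centralizers. -/
theorem not_normal_of_not_mem [Finite G] (h : CM G) {x y : G} (hx : x ∉ center G)
    (hxn : ¬ (centralizer ({x} : Set G)).Normal) (hy : y ∉ center G)
    (hyn : (centralizer ({y} : Set G)).Normal) {w : G}
    (hw : w ∉ centralizer ({y} : Set G)) : ¬ (centralizer ({w} : Set G)).Normal := by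
  intro hwn
  have hwZ : w ∉ center G := fun hc => hw (center_le_cent y hc)
  apply not_commutator_le_center hxn
  haveI := hyn
  haveI := hwn
  have h1 : commutator G ≤ centralizer ({y} : Set G) := commutator_le_of_normal_coatom _ (h y hy)
  have h2 : commutator G ≤ centralizer ({w} : Set G) := commutator_le_of_normal_coatom _ (h w hwZ)
  intro t ht
  by_contra htZ
  have e1 := cent_eq_of_mem_normal_cent h hx hxn hy hyn (h1 ht) htZ
  have e2 := cent_eq_of_mem_normal_cent h hx hxn hwZ hwn (h2 ht) htZ
  apply hw
  rw [← e1, e2]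
  exact self_mem_cent w

/-- Lemma c: `q`-th powers of elements outside `K` are central. -/
theorem pow_index_mem_center [Finite G] (h : CM G) {x y : G} (hx : x ∉ center G)
    (hxn : ¬ (centralizer ({x} : Set G)).Normal) (hy : y ∉ center G)
    (hyn : (centralizer ({y} : Set G)).Normal) {w : G}
    (hw : w ∉ centralizer ({y} : Set G)) :
    w ^ (centralizer ({y} : Set G)).index ∈ center G := by
  have hwZ : w ∉ center G := fun hc => hw (center_le_cent y hc)
  have hwn := not_normal_of_not_mem h hx hxn hy hyn hw
  haveI := hyn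
  have hq := (prime_index_of_normal_coatom _ (h y hy)).2 w
  exact mem_center_of_mem_both h hwZ hwn hy hyn hq
    ((centralizer ({w} : Set G)).pow_mem (self_mem_cent w) _)

/-- Dedekind-type step: if `B` is a normal subgroup of `G` inside the normal centralizer `K`,
containing the center and not central, then `B = K`. -/
theorem le_of_normal_le [Finite G] (h : CM G) {x y : G} (hx : x ∉ center G)
    (hxn : ¬ (centralizer ({x} : Set G)).Normal) (hy : y ∉ center G)
    (hyn : (centralizer ({y} : Set G)).Normal) (B : Subgroup G) [hBn : B.Normal]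
    (hZB : center G ≤ B) (hBK : B ≤ centralizer ({y} : Set G)) (hBZ : ¬ B ≤ center G) :
    centralizer ({y} : Set G) ≤ B := by
  set M := centralizer ({x} : Set G) with hM
  have hMco := h x hx
  obtain ⟨b, hbB, hbZ⟩ : ∃ b ∈ B, b ∉ center G := by
    by_contra hno
    push Not at hno
    exact hBZ hno
  rcases hMco.le_iff.mp (le_sup_left : M ≤ M ⊔ B) with htop | heq
  · intro k hk
    have hk' : k ∈ M ⊔ B := by rw [htop]; exact mem_top k
    rw [Subgroup.mem_sup_of_normal_right] at hk'
    obtain ⟨m, hm, t, ht, rfl⟩ := hk'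
    have htK : t ∈ centralizer ({y} : Set G) := hBK ht
    have hmK : m ∈ centralizer ({y} : Set G) := by
      have : m = m * t * t⁻¹ := by simp
      rw [this]
      exact (centralizer ({y} : Set G)).mul_mem hk ((centralizer ({y} : Set G)).inv_mem htK)
    have hmZ : m ∈ center G := mem_center_of_mem_both h hx hxn hy hyn hmK hm
    exact B.mul_mem (hZB hmZ) ht
  · exfalso
    have hBM : B ≤ M := le_sup_right.trans heq.le
    exact hbZ (mem_center_of_mem_both h hx hxn hy hyn (hBK hbB) (hBM hbB))

/-- The subgroup of elements of the abelian subgroup `K` whose `r`-th power is central. -/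
def powSub (K : Subgroup G) (hab : ∀ a ∈ K, ∀ b ∈ K, a * b = b * a) (r : ℕ) : Subgroup G where
  carrier := {k | k ∈ K ∧ k ^ r ∈ center G}
  one_mem' := ⟨K.one_mem, by rw [one_pow]; exact one_mem _⟩
  mul_mem' := by
    rintro a b ⟨ha, har⟩ ⟨hb, hbr⟩
    refine ⟨K.mul_mem ha hb, ?_⟩
    rw [(show Commute a b from hab a ha b hb).mul_pow]
    exact (center G).mul_mem har hbr
  inv_mem' := by
    rintro a ⟨ha, har⟩
    refine ⟨K.inv_mem ha, ?_⟩
    rw [inv_pow]; exact (center G).inv_mem har

theorem mem_powSub (K : Subgroup G) (hab : ∀ a ∈ K, ∀ b ∈ K, a * b = b * a) (r : ℕ) (k : G) :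
    k ∈ powSub K hab r ↔ k ∈ K ∧ k ^ r ∈ center G := Iff.rfl

theorem powSub_normal (K : Subgroup G) [hKn : K.Normal]
    (hab : ∀ a ∈ K, ∀ b ∈ K, a * b = b * a) (r : ℕ) : (powSub K hab r).Normal := by
  refine ⟨fun k hk g => ?_⟩
  rw [mem_powSub] at hk ⊢
  refine ⟨hKn.conj_mem k hk.1 g, ?_⟩
  rw [conj_pow]
  exact (center G).normal_of_characteristic.conj_mem _ hk.2 g

/-- Lemma g: the normal centralizer `K` has prime exponent modulo the center. -/
theorem exists_prime_exponent_normal_cent [Finite G] (h : CM G) {x y : G} (hx : x ∉ center G)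
    (hxn : ¬ (centralizer ({x} : Set G)).Normal) (hy : y ∉ center G)
    (hyn : (centralizer ({y} : Set G)).Normal) :
    ∃ p : ℕ, p.Prime ∧ ∀ k ∈ centralizer ({y} : Set G), k ^ p ∈ center G := by
  classical
  haveI := hyn
  have hab := comm_of_normal_cent h hx hxn hy hyn
  have hex : ∃ n : ℕ, 0 < n ∧ y ^ n ∈ center G :=
    ⟨orderOf y, orderOf_pos y, by rw [pow_orderOf_eq_one]; exact one_mem _⟩
  let n := Nat.find hex
  have hn : 0 < n ∧ y ^ n ∈ center G := Nat.find_spec hex
  have hmin : ∀ m : ℕ, 0 < m → y ^ m ∈ center G → n ≤ m := fun m h0 hm =>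
    Nat.find_min' hex ⟨h0, hm⟩
  have hn1 : n ≠ 1 := by
    intro h1
    apply hy
    have := hn.2
    rwa [h1, pow_one] at this
  let p := n.minFac
  have hp : p.Prime := Nat.minFac_prime hn1
  obtain ⟨n', hn'⟩ : p ∣ n := Nat.minFac_dvd n
  have hn'pos : 0 < n' := by
    rcases Nat.eq_zero_or_pos n' with h0 | h0
    · rw [h0, mul_zero] at hn'
      omega
    · exact h0
  have hlt : n' < n := by
    rw [hn']
    have : 2 ≤ p := hp.two_le
    nlinarith
  have hb1Z : y ^ n' ∉ center G := by
    intro hc
    have := hmin n' hn'pos hc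
    omega
  have hb1p : (y ^ n') ^ p ∈ center G := by
    rw [← pow_mul, mul_comm, ← hn']
    exact hn.2
  refine ⟨p, hp, ?_⟩
  set B := powSub (centralizer ({y} : Set G)) hab p with hB
  haveI : B.Normal := powSub_normal _ hab p
  have hZB : center G ≤ B := fun z hz =>
    (mem_powSub _ hab p z).mpr ⟨center_le_cent y hz, (center G).pow_mem hz p⟩
  have hBK : B ≤ centralizer ({y} : Set G) := fun b hb => ((mem_powSub _ hab p b).mp hb).1
  have hBZ : ¬ B ≤ center G := by
    intro hle
    apply hb1Z
    apply hle
    exact (mem_powSub _ hab p _).mpr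
      ⟨(centralizer ({y} : Set G)).pow_mem (self_mem_cent y) n', hb1p⟩
  have := le_of_normal_le h hx hxn hy hyn B hZB hBK hBZ
  intro k hk
  exact ((mem_powSub _ hab p k).mp (this hk)).2

/-- Lemma k: proper subgroups containing the center are abelian. -/
theorem comm_of_ne_top [Finite G] (h : CM G) {x y : G} (hx : x ∉ center G)
    (hxn : ¬ (centralizer ({x} : Set G)).Normal) (hy : y ∉ center G)
    (hyn : (centralizer ({y} : Set G)).Normal) (H : Subgroup G) (hZH : center G ≤ H)
    (hH : H ≠ ⊤) : ∀ a ∈ H, ∀ b ∈ H, a * b = b * a := by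
  haveI := hyn
  set K := centralizer ({y} : Set G) with hK
  have habK := comm_of_normal_cent h hx hxn hy hyn
  by_cases hHK : H ≤ K
  · intro a ha b hb
    exact habK a (hHK ha) b (hHK hb)
  · obtain ⟨w, hwH, hwK⟩ : ∃ w ∈ H, w ∉ K := by
      by_contra hno
      push Not at hno
      exact hHK hno
    have hwZ : w ∉ center G := fun hc => hwK (center_le_cent y hc)
    have hwn := not_normal_of_not_mem h hx hxn hy hyn hwK
    have habw := comm_of_not_normal h hwZ hwn
    have htop : K ⊔ zpowers w = ⊤ := by
      apply (h y hy).2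
      apply lt_of_le_of_ne le_sup_left
      intro he
      apply hwK
      have hw' : w ∈ K ⊔ zpowers w := le_sup_right (a := K) (mem_zpowers w)
      rw [← he] at hw'
      exact hw'
    have hdecomp : ∀ g : G, ∃ k ∈ K, ∃ i : ℤ, g = k * w ^ i := by
      intro g
      have hg : g ∈ K ⊔ zpowers w := by rw [htop]; exact mem_top g
      rw [Subgroup.mem_sup_of_normal_left] at hg
      obtain ⟨k, hk, t, ht, rfl⟩ := hg
      obtain ⟨i, rfl⟩ := mem_zpowers_iff.mp ht
      exact ⟨k, hk, i, rfl⟩
    set B := H ⊓ K with hB
    by_cases hBZ : B ≤ center G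
    · -- H ≤ C(w)
      have hHw : H ≤ centralizer ({w} : Set G) := by
        intro g hg
        obtain ⟨k, hk, i, rfl⟩ := hdecomp g
        have hkH : k ∈ H := by
          have : k = k * w ^ i * (w ^ i)⁻¹ := by simp
          rw [this]
          exact H.mul_mem hg (H.inv_mem (H.zpow_mem hwH i))
        have hkZ : k ∈ center G := hBZ (Subgroup.mem_inf.mpr ⟨hkH, hk⟩)
        exact (centralizer ({w} : Set G)).mul_mem (center_le_cent w hkZ)
          ((centralizer ({w} : Set G)).zpow_mem (self_mem_cent w) i)
      intro a ha b hb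
      exact habw a (hHw ha) b (hHw hb)
    · exfalso
      have hBn : B.Normal := by
        refine ⟨fun b hb g => ?_⟩
        obtain ⟨k, hk, i, rfl⟩ := hdecomp g
        have hbH : b ∈ H := (Subgroup.mem_inf.mp hb).1
        have hbK : b ∈ K := (Subgroup.mem_inf.mp hb).2
        have h1 : w ^ i * b * (w ^ i)⁻¹ ∈ B := by
          refine Subgroup.mem_inf.mpr ⟨?_, ?_⟩
          · exact H.mul_mem (H.mul_mem (H.zpow_mem hwH i) hbH) (H.inv_mem (H.zpow_mem hwH i))
          · exact ‹K.Normal›.conj_mem b hbK _
        have h1K : w ^ i * b * (w ^ i)⁻¹ ∈ K := (Subgroup.mem_inf.mp h1).2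
        have e : k * w ^ i * b * (k * w ^ i)⁻¹ = w ^ i * b * (w ^ i)⁻¹ := by
          rw [mul_inv_rev]
          have hc := habK k hk _ h1K
          calc k * w ^ i * b * ((w ^ i)⁻¹ * k⁻¹) = k * (w ^ i * b * (w ^ i)⁻¹) * k⁻¹ := by
                simp only [mul_assoc]
            _ = (w ^ i * b * (w ^ i)⁻¹) * k * k⁻¹ := by rw [hc]
            _ = w ^ i * b * (w ^ i)⁻¹ := by rw [mul_inv_cancel_right]
        rw [e]
        exact h1
      haveI := hBn
      have hZB : center G ≤ B := fun z hz => Subgroup.mem_inf.mpr ⟨hZH hz, center_le_cent y hz⟩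
      have hKB := le_of_normal_le h hx hxn hy hyn B hZB inf_le_right hBZ
      apply hH
      rw [eq_top_iff, ← htop]
      apply sup_le
      · exact hKB.trans inf_le_left
      · rw [zpowers_le]
        exact hwH

end Cfsg.Agent.Lib.Helper6_CentMax
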