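import Mathlib
import Cfsg.Agent.Lib.Helper6_ClassTwo
import Cfsg.Agent.Lib.Helper6_CentMax
import Cfsg.Agent.Lib.Helper6_CentMax2
import Cfsg.Agent.Lib.Helper6_CentMax3

set_option autoImplicit false

/-!
Finite groups in which the centralizer of every non-central element is a maximal subgroup:
the structure of `G ⧸ Z(G)` (helper6).
-/

namespace Cfsg.Agent.Lib.Helper6_CentMax

open Subgroup
open scoped commutatorElement

variable {G : Type*} [Group G]

theorem commutator_eq_one_iff {a b : G} : ⁅a, b⁆ = 1 ↔ a * b = b * a := by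
  rw [commutatorElement_def]
  constructor
  · intro h
    have : a * b * a⁻¹ * b⁻¹ * b * a = 1 * b * a := by rw [h]
    simpa [mul_assoc] using this
  · intro h
    rw [h]; simp [mul_assoc]

/-- Case N: all centralizers normal. -/
theorem caseN [Finite G] (h : CM G) (hna : ∃ x : G, x ∉ center G)
    (hall : ∀ x : G, x ∉ center G → (centralizer ({x} : Set G)).Normal) :
    ∃ p : ℕ, p.Prime ∧ (∀ a b : G ⧸ center G, a * b = b * a) ∧
      ∀ a : G ⧸ center G, a ^ p = 1 := by
  -- commutator ≤ center
  have hGZ : commutator G ≤ center G := by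
    intro t ht
    rw [mem_center_iff]
    intro g
    by_cases hg : g ∈ center G
    · exact (mem_center_iff.mp hg t).symm
    · haveI := hall g hg
      have := commutator_le_of_normal_coatom _ (h g hg) ht
      exact (mem_cent.mp this).symm
  have hcZ : ∀ a b : G, ⁅a, b⁆ ∈ center G := fun a b => hGZ (by
    rw [commutator_def]
    exact Subgroup.commutator_mem_commutator (mem_top _) (mem_top _))
  have hcomm : ∀ a b : G ⧸ center G, a * b = b * a := by
    intro a b
    induction a using QuotientGroup.induction_on with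
    | H a =>
    induction b using QuotientGroup.induction_on with
    | H b =>
    rw [← QuotientGroup.mk_mul, ← QuotientGroup.mk_mul]
    apply QuotientGroup.eq.mpr
    have : (a * b)⁻¹ * (b * a) = ⁅b⁻¹, a⁻¹⁆ := by
      rw [commutatorElement_def]; simp [mul_assoc]
    rw [this]
    exact hcZ _ _
  -- each noncentral x has x ^ p_x central
  have hpow : ∀ x : G, x ∉ center G → ∃ p : ℕ, p.Prime ∧ x ^ p ∈ center G := by
    intro x hx
    haveI := hall x hx
    obtain ⟨hp, hpp⟩ := prime_index_of_normal_coatom _ (h x hx)
    refine ⟨_, hp, ?_⟩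
    set p := (centralizer ({x} : Set G)).index with hpdef
    rw [mem_center_iff]
    intro g
    have hc1 : Commute ⁅x, g⁆ g := (mem_center_iff.mp (hcZ x g) g).symm
    have hc2 : Commute ⁅x, g⁆ x := (mem_center_iff.mp (hcZ x g) x).symm
    have e1 : ⁅x, g ^ p⁆ = ⁅x, g⁆ ^ p :=
      Cfsg.Agent.Lib.Helper6_ClassTwo.commutator_pow_right' x g hc1 p
    have e2 : ⁅x ^ p, g⁆ = ⁅x, g⁆ ^ p :=
      Cfsg.Agent.Lib.Helper6_ClassTwo.commutator_pow' g x hc2 p
    have e3 : ⁅x, g ^ p⁆ = 1 := by
      rw [commutator_eq_one_iff]
      exact (mem_cent.mp (hpp g)).symm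
    rw [e1] at e3
    rw [e3] at e2
    exact (commutator_eq_one_iff.mp e2).symm
  -- orders in the quotient are prime
  have hord : ∀ t : G ⧸ center G, t ≠ 1 → (orderOf t).Prime := by
    intro t ht
    induction t using QuotientGroup.induction_on with
    | H x =>
    have hx : x ∉ center G := fun hc => ht ((QuotientGroup.eq_one_iff x).mpr hc)
    obtain ⟨p, hp, hxp⟩ := hpow x hx
    have : ((x : G ⧸ center G)) ^ p = 1 := by
      rw [← QuotientGroup.mk_pow]; exact (QuotientGroup.eq_one_iff _).mpr hxp
    have hdvd := orderOf_dvd_of_pow_eq_one this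
    rcases (Nat.dvd_prime hp).mp hdvd with h1 | h1
    · exact absurd (orderOf_eq_one_iff.mp h1) ht
    · rw [h1]; exact hp
  obtain ⟨x0, hx0⟩ := hna
  have ht0 : (x0 : G ⧸ center G) ≠ 1 := fun hc => hx0 ((QuotientGroup.eq_one_iff x0).mp hc)
  set t0 : G ⧸ center G := (x0 : G ⧸ center G) with ht0def
  have hp0 := hord t0 ht0
  refine ⟨orderOf t0, hp0, hcomm, ?_⟩
  intro t
  by_cases ht : t = 1
  · rw [ht, one_pow]
  · have hr := hord t ht
    by_cases heq : orderOf t = orderOf t0
    · rw [← heq]; exact pow_orderOf_eq_one t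
    · exfalso
      have hco : (orderOf t0).Coprime (orderOf t) :=
        (Nat.coprime_primes hp0 hr).mpr (Ne.symm heq)
      have hmul := (show Commute t0 t from hcomm t0 t).orderOf_mul_eq_mul_orderOf_of_coprime hco
      have hne : t0 * t ≠ 1 := by
        intro hc
        rw [hc, orderOf_one] at hmul
        have := hp0.two_le
        have := hr.two_le
        nlinarith
      have := hord _ hne
      rw [hmul] at this
      exact Nat.not_prime_mul hp0.one_lt.ne' hr.one_lt.ne' this

/-- Case F: some centralizer is not normal. -/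
theorem caseF [Finite G] (h : CM G) {x : G} (hx : x ∉ center G)
    (hxn : ¬ (centralizer ({x} : Set G)).Normal) :
    ¬ (∀ a b : G ⧸ center G, a * b = b * a) ∧
    (∀ H : Subgroup (G ⧸ center G), H ≠ ⊤ → ∀ a ∈ H, ∀ b ∈ H, a * b = b * a) ∧
    ∃ p q a : ℕ, p.Prime ∧ q.Prime ∧ p ≠ q ∧ Nat.card (G ⧸ center G) = p ^ a * q ∧
      ∀ P : Subgroup (G ⧸ center G), Nat.card ↥P = p ^ a → P.Normal := by
  classical
  obtain ⟨y, hy, hyn⟩ := exists_normal_cent h ⟨x, hx⟩
  haveI := hyn
  set K := centralizer ({y} : Set G) with hK
  set π := QuotientGroup.mk' (center G) with hπ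
  have hπs : Function.Surjective π := QuotientGroup.mk'_surjective _
  refine ⟨?_, ?_, ?_⟩
  · -- not commutative
    intro hcomm
    apply not_commutator_le_center hxn
    rw [commutator_def, Subgroup.commutator_le]
    intro a _ b _
    rw [← QuotientGroup.eq_one_iff, commutatorElement_def]
    simp only [QuotientGroup.mk_mul, QuotientGroup.mk_inv]
    rw [hcomm (a : G ⧸ center G) (b : G ⧸ center G)]
    simp
  · -- proper subgroups abelian
    intro H hH a ha b hb
    set H' := H.comap π with hH'
    have hZH' : center G ≤ H' := by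
      intro z hz
      rw [hH', Subgroup.mem_comap]
      have : π z = 1 := (QuotientGroup.eq_one_iff z).mpr hz
      rw [this]; exact H.one_mem
    have hH'top : H' ≠ ⊤ := by
      intro he
      apply hH
      rw [← Subgroup.map_comap_eq_self_of_surjective hπs H, ← hH', he]
      exact Subgroup.map_top_of_surjective _ hπs
    have hab := comm_of_ne_top h hx hxn hy hyn H' hZH' hH'top
    obtain ⟨a', rfl⟩ := hπs a
    obtain ⟨b', rfl⟩ := hπs b
    rw [← map_mul, ← map_mul, hab a' ha b' hb]
  · -- numbers
    obtain ⟨p, hp, hpK⟩ := exists_prime_exponent_normal_cent h hx hxn hy hyn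
    obtain ⟨hq, hqpow⟩ := prime_index_of_normal_coatom K (h y hy)
    set q := K.index with hqdef
    haveI : Fact p.Prime := ⟨hp⟩
    set Kb := K.map π with hKb
    have hKbp : IsPGroup p ↥Kb := by
      intro t
      refine ⟨1, ?_⟩
      obtain ⟨t, ht⟩ := t
      obtain ⟨k, hk, rfl⟩ := ht
      apply Subtype.ext
      simp only [pow_one, Subgroup.coe_pow, Subgroup.coe_one]
      rw [← map_pow]
      exact (QuotientGroup.eq_one_iff _).mpr (hpK k hk)
    obtain ⟨a, ha⟩ := (IsPGroup.iff_card).mp hKbp
    have hidx : Kb.index = q := by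
      rw [hKb]
      apply Subgroup.index_map_eq _ hπs
      rw [hπ, QuotientGroup.ker_mk']
      exact center_le_cent y
    have hcard : Nat.card (G ⧸ center G) = p ^ a * q := by
      rw [← Kb.card_mul_index, ha, hidx]
    have hpq : p ≠ q := by
      intro hpq
      have hpg : IsPGroup p (G ⧸ center G) := by
        apply IsPGroup.of_card (n := a + 1)
        rw [hcard, ← hpq, pow_succ]
      haveI : Group.IsNilpotent (G ⧸ center G) := hpg.isNilpotent
      haveI : Group.IsNilpotent G := Group.of_quotient_center_nilpotent inferInstance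
      have hNC := (normalizerCondition_iff_only_full_group_self_normalizing (G := G)).mp
        Group.normalizerCondition_of_isNilpotent (centralizer ({x} : Set G))
        (normalizer_eq_of_coatom_not_normal _ (h x hx) hxn)
      exact (h x hx).1 hNC
    refine ⟨p, q, a, hp, hq, hpq, hcard, ?_⟩
    intro P hP
    have hPK : P ≤ Kb := by
      intro t ht
      obtain ⟨g, rfl⟩ := hπs t
      by_cases hgK : g ∈ K
      · exact Subgroup.mem_map_of_mem π hgK
      · exfalso
        have hgq : g ^ q ∈ center G := pow_index_mem_center h hx hxn hy hyn hgK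
        have h1 : (π g) ^ q = 1 := by
          rw [← map_pow]; exact (QuotientGroup.eq_one_iff _).mpr hgq
        have h2 : (π g) ^ (p ^ a) = 1 := by
          have : (⟨π g, ht⟩ : ↥P) ^ (Nat.card ↥P) = 1 := pow_card_eq_one'
          rw [hP] at this
          have := congrArg Subtype.val this
          simpa using this
        have d1 := orderOf_dvd_of_pow_eq_one h1
        have d2 := orderOf_dvd_of_pow_eq_one h2
        have hco : Nat.Coprime q (p ^ a) :=
          Nat.Coprime.pow_right a ((Nat.coprime_primes hq hp).mpr (Ne.symm hpq))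
        have d3 : orderOf (π g) ∣ 1 := by
          have := Nat.dvd_gcd d1 d2
          rwa [hco.gcd_eq_one] at this
        have h3 : π g = 1 := orderOf_eq_one_iff.mp (Nat.dvd_one.mp d3)
        apply hgK
        exact center_le_cent y ((QuotientGroup.eq_one_iff g).mp h3)
    have hPeq : P = Kb := Subgroup.eq_of_le_of_card_ge hPK (by rw [ha, hP])
    rw [hPeq, hKb]
    exact Subgroup.Normal.map inferInstance π hπs

end Cfsg.Agent.Lib.Helper6_CentMax
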