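import Mathlib

set_option autoImplicit false

/-!
# Averaging over a coprime group of automorphisms
-/

namespace Cfsg.Agent.Lib.Helper6_CoprimeAvg

/-- Let `A` be a `p'`-group of automorphisms of `P` with `P = [P, A]`, and `π : P → Q` a
homomorphism to an abelian `p`-group.  If the image of `x` is fixed by (the action induced by)
`A`, then `π x = 1`. -/
theorem fixed_trivial {P Q : Type*} [Group P] [Group Q] {p : ℕ} [Fact p.Prime]
    (hcomm : ∀ a b : Q, a * b = b * a)
    (π : P →* Q) (A : Subgroup (MulAut P)) [Finite A] (hA : Nat.Coprime (Nat.card A) p)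
    (hQ : IsPGroup p Q)
    (hgen : Subgroup.closure {x : P | ∃ g : P, ∃ a ∈ A, x = g⁻¹ * a g} = ⊤)
    (x : P) (hx : ∀ a ∈ A, π (a x) = π x) : π x = 1 := by
  classical
  let _ : CommGroup Q := { ‹Group Q› with mul_comm := hcomm }
  have : Fintype A := Fintype.ofFinite A
  let τ : P →* Q :=
    { toFun := fun y => ∏ a : A, π ((a : MulAut P) y)
      map_one' := by simp
      map_mul' := by
        intro y z
        simp only [map_mul]
        exact Finset.prod_mul_distrib }
  have hτ : ∀ y, τ y = ∏ a : A, π ((a : MulAut P) y) := fun y => rfl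
  have hτinv : ∀ (b : A) (y : P), τ ((b : MulAut P) y) = τ y := by
    intro b y
    rw [hτ, hτ]
    exact Fintype.prod_equiv (Equiv.mulRight b) _ _ (fun a => by simp [MulAut.mul_apply])
  have hτ1 : ∀ y, τ y = 1 := by
    have hker : τ.ker = ⊤ := by
      rw [eq_top_iff, ← hgen, Subgroup.closure_le]
      rintro _ ⟨g, a, ha, rfl⟩
      show τ (g⁻¹ * a g) = 1
      rw [map_mul, map_inv, hτinv ⟨a, ha⟩ g, inv_mul_cancel]
    intro y
    exact MonoidHom.mem_ker.mp (hker ▸ Subgroup.mem_top y)
  have h1 : (π x) ^ (Nat.card A) = 1 := by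
    have h2 := hτ1 x
    rw [hτ] at h2
    have h3 : ∀ a : A, π ((a : MulAut P) x) = π x := fun a => hx a a.2
    simp only [h3, Finset.prod_const, Finset.card_univ] at h2
    rw [Nat.card_eq_fintype_card]
    exact h2
  obtain ⟨k, hk⟩ := hQ (π x)
  have h2 : orderOf (π x) ∣ Nat.card A := orderOf_dvd_of_pow_eq_one h1
  have h3 : orderOf (π x) ∣ p ^ k := orderOf_dvd_of_pow_eq_one hk
  have h4 : Nat.Coprime (Nat.card A) (p ^ k) := Nat.Coprime.pow_right k hA
  have h5 : orderOf (π x) = 1 :=
    Nat.Coprime.eq_one_of_dvd (Nat.Coprime.coprime_dvd_left h2 h4) h3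
  exact orderOf_eq_one_iff.mp h5

end Cfsg.Agent.Lib.Helper6_CoprimeAvg
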