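import Mathlib
import Cfsg.Prelude.Def_PLocal
import Cfsg.Prelude.Def_Transfer
import Cfsg.Prelude.Def_CaseTheorems
import Cfsg.Agent.S0100
import Cfsg.Agent.Lib.Helper1_Card
import Cfsg.Agent.Lib.Helper6_DihedralLift
import Cfsg.Agent.Lib.Helper5_MaxClassTwo

set_option autoImplicit false

/-! Finite `p`-groups with a self-centralizing cyclic normal subgroup: preparation. -/

namespace Cfsg.Agent.Lib.Helper6_CyclicSC

/-! ### arithmetic -/

theorem modEq_one_of_pow {p : ℕ} [hp : Fact p.Prime] {r k : ℕ} (h : r ^ p ^ k ≡ 1 [MOD p]) :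
    r ≡ 1 [MOD p] := by
  have h1 : ((r ^ p ^ k : ℕ) : ZMod p) = ((1 : ℕ) : ZMod p) :=
    (ZMod.natCast_eq_natCast_iff _ _ _).mpr h
  rw [← ZMod.natCast_eq_natCast_iff]
  push_cast at h1 ⊢
  rw [ZMod.pow_card_pow] at h1
  exact h1

theorem odd_lift {p : ℕ} [hp : Fact p.Prime] (hp1 : Odd p) {r n : ℕ} (hr : r ≡ 1 [MOD p])
    (h : r ^ p ≡ 1 [MOD p ^ n]) : r ≡ 1 [MOD p ^ (n - 1)] := by
  have hpp := hp.out
  have hndvd : ¬ p ∣ r := by
    intro hd
    have h0 : r ≡ 0 [MOD p] := (Nat.modEq_zero_iff_dvd).mpr hd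
    have h10 : 1 ≡ 0 [MOD p] := hr.symm.trans h0
    have := (Nat.modEq_zero_iff_dvd).mp h10
    exact hpp.one_lt.ne' (Nat.dvd_one.mp this)
  have hr0 : r ≠ 0 := by rintro rfl; exact hndvd (dvd_zero p)
  rcases Nat.lt_or_ge 1 r with hr1 | hr1
  · have hd1 : p ∣ r - 1 := (Nat.modEq_iff_dvd' (by omega)).mp hr.symm
    have h3 := padicValNat.pow_sub_pow hp1 hr1 hd1 hndvd hpp.ne_zero
    rw [one_pow, padicValNat_self] at h3
    have hrp : 1 < r ^ p := Nat.one_lt_pow hpp.ne_zero hr1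
    have hd2 : p ^ n ∣ r ^ p - 1 := (Nat.modEq_iff_dvd' (by omega)).mp h.symm
    have hne : r ^ p - 1 ≠ 0 := by omega
    have h4 := (padicValNat_dvd_iff_le hne).mp hd2
    have hne' : r - 1 ≠ 0 := by omega
    have h5 : p ^ (n - 1) ∣ r - 1 := (padicValNat_dvd_iff_le hne').mpr (by omega)
    exact ((Nat.modEq_iff_dvd' (by omega)).mpr h5).symm
  · have : r = 1 := by omega
    rw [this]

theorem two_case {r n : ℕ} (hr : Odd r) (h : r ^ 2 ≡ 1 [MOD 2 ^ n])
    (h1 : ¬ r ≡ 1 [MOD 2 ^ (n - 1)]) : 3 ≤ n ∧ 2 ^ (n - 1) ∣ r + 1 := by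
  obtain ⟨s, rfl⟩ := hr
  have hn3 : 3 ≤ n := by
    by_contra hlt
    apply h1
    have h2 : 2 ^ (n - 1) ∣ 2 := by
      have : n - 1 ≤ 1 := by omega
      calc 2 ^ (n - 1) ∣ 2 ^ 1 := pow_dvd_pow 2 this
        _ = 2 := by norm_num
    apply ((Nat.modEq_iff_dvd' (by omega)).mpr _).symm
    rw [Nat.add_sub_cancel]
    exact Dvd.dvd.mul_right h2 s
  refine ⟨hn3, ?_⟩
  have hsq : 1 ≤ (2 * s + 1) ^ 2 := Nat.one_le_pow _ _ (by omega)
  have hd : 2 ^ n ∣ (2 * s + 1) ^ 2 - 1 := (Nat.modEq_iff_dvd' hsq).mp h.symm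
  have he : (2 * s + 1) ^ 2 - 1 = 4 * (s * (s + 1)) := by
    have : (2 * s + 1) ^ 2 = 4 * (s * (s + 1)) + 1 := by ring
    omega
  rw [he] at hd
  obtain ⟨m, rfl⟩ : ∃ m, n = m + 3 := ⟨n - 3, by omega⟩
  have hd' : 2 ^ (m + 1) ∣ s * (s + 1) := by
    have h4 : (2 : ℕ) ^ (m + 3) = 4 * 2 ^ (m + 1) := by ring
    rw [h4] at hd
    exact Nat.dvd_of_mul_dvd_mul_left (by norm_num) hd
  rcases Nat.even_or_odd s with hs | hs
  · exfalso
    apply h1
    have hcop : Nat.Coprime (2 ^ (m + 1)) (s + 1) := by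
      apply Nat.Coprime.pow_left
      rw [Nat.coprime_two_left]
      exact hs.add_one
    have h6 : 2 ^ (m + 1) ∣ s := hcop.dvd_of_dvd_mul_right hd'
    apply ((Nat.modEq_iff_dvd' (by omega)).mpr _).symm
    rw [Nat.add_sub_cancel, show m + 3 - 1 = (m + 1) + 1 by omega, pow_succ, mul_comm]
    exact Nat.mul_dvd_mul_left 2 h6
  · have hcop : Nat.Coprime (2 ^ (m + 1)) s := by
      apply Nat.Coprime.pow_left
      rw [Nat.coprime_two_left]
      exact hs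
    have h6 : 2 ^ (m + 1) ∣ s + 1 := hcop.dvd_of_dvd_mul_left hd'
    rw [show m + 3 - 1 = (m + 1) + 1 by omega, pow_succ, mul_comm,
      show 2 * s + 1 + 1 = 2 * (s + 1) by ring]
    exact Nat.mul_dvd_mul_left 2 h6

/-! ### the setting -/

section grp
variable {G : Type*} [Group G]

/-- `u` generates a self-centralizing normal cyclic subgroup of order `p ^ n` of the `p`-group `G`. -/
def SC (p n : ℕ) (u : G) : Prop :=
  IsPGroup p G ∧ orderOf u = p ^ n ∧ (∀ g : G, ∃ r : ℕ, g * u * g⁻¹ = u ^ r) ∧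
    (∀ g : G, Commute g u → g ∈ Subgroup.zpowers u)

theorem conj_upow {g u : G} {r : ℕ} (h : g * u * g⁻¹ = u ^ r) (i : ℕ) :
    g * u ^ i * g⁻¹ = u ^ (r * i) := by
  rw [← conj_pow, h, pow_mul]

theorem conj_pow_iter {g u : G} {r : ℕ} (h : g * u * g⁻¹ = u ^ r) (j : ℕ) :
    g ^ j * u * (g ^ j)⁻¹ = u ^ (r ^ j) := by
  induction j with
  | zero => simp
  | succ j ih =>
    calc g ^ (j + 1) * u * (g ^ (j + 1))⁻¹ = g * (g ^ j * u * (g ^ j)⁻¹) * g⁻¹ := by
          rw [pow_succ']; group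
      _ = u ^ (r ^ (j + 1)) := by rw [ih, conj_upow h, pow_succ']

theorem conj_mul {g k u : G} {r s : ℕ} (hg : g * u * g⁻¹ = u ^ r) (hk : k * u * k⁻¹ = u ^ s) :
    (g * k) * u * (g * k)⁻¹ = u ^ (r * s) := by
  calc (g * k) * u * (g * k)⁻¹ = g * (k * u * k⁻¹) * g⁻¹ := by group
    _ = u ^ (r * s) := by rw [hk, conj_upow hg]

variable {p : ℕ} [hp : Fact p.Prime] {n : ℕ} {u : G}

theorem exists_nat_pow (h : SC p n u) {w : G} (hw : w ∈ Subgroup.zpowers u) : ∃ i : ℕ, w = u ^ i := by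
  have hfin : IsOfFinOrder u := by
    rw [← orderOf_pos_iff, h.2.1]; exact pow_pos hp.out.pos n
  rw [← hfin.mem_powers_iff_mem_zpowers, Submonoid.mem_powers_iff] at hw
  obtain ⟨i, hi⟩ := hw
  exact ⟨i, hi.symm⟩

theorem upow_eq_iff (h : SC p n u) (i j : ℕ) : u ^ i = u ^ j ↔ i ≡ j [MOD p ^ n] := by
  rw [pow_eq_pow_iff_modEq, h.2.1]

theorem upow_eq_one_iff (h : SC p n u) (i : ℕ) : u ^ i = 1 ↔ p ^ n ∣ i := by
  rw [← orderOf_dvd_iff_pow_eq_one, h.2.1]

theorem exists_r (h : SC p n u) (hn : 1 ≤ n) (g : G) :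
    ∃ r : ℕ, g * u * g⁻¹ = u ^ r ∧ r ≡ 1 [MOD p] ∧ 1 ≤ r := by
  obtain ⟨r, hr⟩ := h.2.2.1 g
  obtain ⟨k, hk⟩ := h.1 g
  have h1 := conj_pow_iter hr (p ^ k)
  rw [hk] at h1
  have h2 : u ^ (r ^ p ^ k) = u ^ 1 := by rw [← h1]; simp
  rw [upow_eq_iff h] at h2
  have h3 : r ^ p ^ k ≡ 1 [MOD p] := h2.of_dvd (dvd_pow_self p (by omega))
  have h4 := modEq_one_of_pow h3
  refine ⟨r, hr, h4, ?_⟩
  rcases Nat.eq_zero_or_pos r with rfl | h5
  · exfalso
    have := (Nat.modEq_zero_iff_dvd).mp h4.symm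
    exact hp.out.one_lt.ne' (Nat.dvd_one.mp this)
  · exact h5

theorem z_central (h : SC p n u) (hn : 1 ≤ n) (g : G) : Commute g (u ^ p ^ (n - 1)) := by
  obtain ⟨r, hr, hr1, -⟩ := exists_r h hn g
  have h1 := conj_upow hr (p ^ (n - 1))
  have h2 : u ^ (r * p ^ (n - 1)) = u ^ (p ^ (n - 1)) := by
    rw [upow_eq_iff h]
    have h3 := Nat.ModEq.mul_right' (p ^ (n - 1)) hr1
    rw [one_mul, ← pow_succ', show n - 1 + 1 = n by omega] at h3
    exact h3
  rw [h2] at h1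
  show g * u ^ p ^ (n - 1) = u ^ p ^ (n - 1) * g
  calc g * u ^ p ^ (n - 1) = (g * u ^ p ^ (n - 1) * g⁻¹) * g := by group
    _ = u ^ p ^ (n - 1) * g := by rw [h1]

theorem z_pow_p (h : SC p n u) (hn : 1 ≤ n) : (u ^ p ^ (n - 1)) ^ p = 1 := by
  rw [← pow_mul, ← pow_succ, show n - 1 + 1 = n by omega, ← h.2.1]
  exact pow_orderOf_eq_one u

theorem z_ne_one (h : SC p n u) (hn : 1 ≤ n) : u ^ p ^ (n - 1) ≠ 1 := by
  intro h1
  rw [upow_eq_one_iff h] at h1
  have := (Nat.pow_dvd_pow_iff_le_right hp.out.one_lt).mp h1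
  omega

theorem mem_Z (h : SC p n u) (hn : 1 ≤ n) {w : G} (hw : w ∈ Subgroup.zpowers u) (hwp : w ^ p = 1) :
    w ∈ Subgroup.zpowers (u ^ p ^ (n - 1)) := by
  obtain ⟨i, rfl⟩ := exists_nat_pow h hw
  rw [← pow_mul, upow_eq_one_iff h] at hwp
  have h1 : p ^ (n - 1) ∣ i := by
    have h2 : p ^ n = p ^ (n - 1) * p := by rw [← pow_succ, show n - 1 + 1 = n by omega]
    rw [h2] at hwp
    exact Nat.dvd_of_mul_dvd_mul_right hp.out.pos hwp
  obtain ⟨j, rfl⟩ := h1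
  rw [pow_mul]
  exact Subgroup.pow_mem _ (Subgroup.mem_zpowers _) j

theorem mem_M_iff (U : Subgroup G) (hU : U = Subgroup.zpowers u) (g : G) :
    g ∈ Subgroup.centralizer (Cfsg.powerClosure p 1 U : Set G) ↔ Commute g (u ^ p) := by
  unfold Cfsg.powerClosure
  rw [Subgroup.centralizer_closure, Subgroup.mem_centralizer_iff]
  constructor
  · intro h1
    have := h1 (u ^ p) ⟨u, by rw [hU]; exact Subgroup.mem_zpowers u, by rw [pow_one]⟩
    exact this.symm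
  · rintro h1 y ⟨x, hx, rfl⟩
    rw [hU, Subgroup.mem_zpowers_iff] at hx
    obtain ⟨k, rfl⟩ := hx
    rw [pow_one, ← zpow_natCast, ← zpow_mul, mul_comm, zpow_mul, zpow_natCast]
    exact ((h1.zpow_right k).eq).symm

end grp

section caseA
variable {G : Type*} [Group G] {p : ℕ} [hp : Fact p.Prime] {n : ℕ} {u : G}

theorem conj_pow_c {x u c : G} (hc : x * u * x⁻¹ = c * u) (hcx : Commute c x) (j : ℕ) :
    x ^ j * u * (x ^ j)⁻¹ = c ^ j * u := by
  induction j with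
  | zero => simp
  | succ j ih =>
    have h1 : x * c ^ j = c ^ j * x := ((hcx.pow_left j).eq).symm
    calc x ^ (j + 1) * u * (x ^ (j + 1))⁻¹ = x * (x ^ j * u * (x ^ j)⁻¹) * x⁻¹ := by
          rw [pow_succ']; group
      _ = x * (c ^ j * u) * x⁻¹ := by rw [ih]
      _ = (x * c ^ j) * u * x⁻¹ := by group
      _ = (c ^ j * x) * u * x⁻¹ := by rw [h1]
      _ = c ^ j * (x * u * x⁻¹) := by group
      _ = c ^ (j + 1) * u := by rw [hc, pow_succ, mul_assoc]

theorem conj_upow_c {x u c : G} (hc : x * u * x⁻¹ = c * u) (hcu : Commute c u) (i : ℕ) :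
    x * u ^ i * x⁻¹ = c ^ i * u ^ i := by
  rw [← conj_pow, hc, hcu.mul_pow]

/-- The commutator of an element of `M` with `u` lies in `Z`. -/
theorem comm_mem_Z (h : SC p n u) (hn : 1 ≤ n) {m : G} (hm : Commute m (u ^ p)) :
    m * u * m⁻¹ * u⁻¹ ∈ Subgroup.zpowers (u ^ p ^ (n - 1)) := by
  obtain ⟨r, hr⟩ := h.2.2.1 m
  have h1 := conj_upow hr p
  have h2 : m * u ^ p * m⁻¹ = u ^ p := by
    rw [hm.eq]; group
  rw [h2] at h1
  rw [hr]
  apply mem_Z h hn
  · exact Subgroup.mul_mem _ (Subgroup.pow_mem _ (Subgroup.mem_zpowers u) r)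
      (Subgroup.inv_mem _ (Subgroup.mem_zpowers u))
  · have hcomm : Commute (u ^ r) u⁻¹ := ((Commute.refl u).pow_left r).inv_right
    rw [hcomm.mul_pow, ← pow_mul, ← h1, inv_pow, mul_inv_cancel]

theorem Z_central (h : SC p n u) (hn : 1 ≤ n) {c : G}
    (hc : c ∈ Subgroup.zpowers (u ^ p ^ (n - 1))) (g : G) : Commute c g := by
  rw [Subgroup.mem_zpowers_iff] at hc
  obtain ⟨k, rfl⟩ := hc
  exact ((z_central h hn g).zpow_right k).symm

theorem Z_pow_p (h : SC p n u) (hn : 1 ≤ n) {c : G}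
    (hc : c ∈ Subgroup.zpowers (u ^ p ^ (n - 1))) : c ^ p = 1 := by
  rw [Subgroup.mem_zpowers_iff] at hc
  obtain ⟨k, rfl⟩ := hc
  rw [← zpow_natCast, ← zpow_mul, mul_comm, zpow_mul, zpow_natCast, z_pow_p h hn, one_zpow]

theorem card_Z (h : SC p n u) (hn : 1 ≤ n) :
    Nat.card (Subgroup.zpowers (u ^ p ^ (n - 1))) = p := by
  rw [Nat.card_zpowers]
  exact orderOf_eq_prime (z_pow_p h hn) (z_ne_one h hn)

theorem Z_le_U : Subgroup.zpowers (u ^ p ^ (n - 1)) ≤ Subgroup.zpowers u :=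
  Subgroup.zpowers_le.mpr (Subgroup.pow_mem _ (Subgroup.mem_zpowers u) _)

theorem U_le_M (M : Subgroup G) (hM : ∀ g, g ∈ M ↔ Commute g (u ^ p)) : Subgroup.zpowers u ≤ M := by
  apply Subgroup.zpowers_le.mpr
  rw [hM]
  exact (Commute.refl u).pow_right p

/-- the commutator homomorphism -/
theorem exists_theta (h : SC p n u) (hn : 1 ≤ n) (M : Subgroup G)
    (hM : ∀ g, g ∈ M ↔ Commute g (u ^ p)) :
    ∃ θ : ↥M →* G, ∀ m : ↥M, θ m = (m : G) * u * (m : G)⁻¹ * u⁻¹ := by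
  refine ⟨MonoidHom.mk' (fun m => (m : G) * u * (m : G)⁻¹ * u⁻¹) ?_, fun m => rfl⟩
  intro a b
  have hb := comm_mem_Z h hn ((hM _).mp b.2)
  have hbc := Z_central h hn hb
  show ((a * b : ↥M) : G) * u * ((a * b : ↥M) : G)⁻¹ * u⁻¹ = _
  rw [Subgroup.coe_mul]
  obtain ⟨c, hcdef⟩ : ∃ c, c = (b : G) * u * (b : G)⁻¹ * u⁻¹ := ⟨_, rfl⟩
  rw [← hcdef] at hbc ⊢
  have h1 : (b : G) * u * (b : G)⁻¹ = c * u := by rw [hcdef]; group
  calc (a : G) * b * u * ((a : G) * b)⁻¹ * u⁻¹ = (a : G) * ((b : G) * u * (b : G)⁻¹) * (a : G)⁻¹ * u⁻¹ := by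
        group
    _ = (a : G) * (c * u) * (a : G)⁻¹ * u⁻¹ := by rw [h1]
    _ = ((a : G) * c) * u * (a : G)⁻¹ * u⁻¹ := by group
    _ = (c * (a : G)) * u * (a : G)⁻¹ * u⁻¹ := by rw [(hbc (a : G)).eq]
    _ = c * ((a : G) * u * (a : G)⁻¹ * u⁻¹) := by group
    _ = (a : G) * u * (a : G)⁻¹ * u⁻¹ * c := ((hbc _).eq)

theorem theta_eq_one_iff (h : SC p n u) {m : G} :
    m * u * m⁻¹ * u⁻¹ = 1 ↔ m ∈ Subgroup.zpowers u := by
  constructor
  · intro h1
    apply h.2.2.2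
    show m * u = u * m
    calc m * u = (m * u * m⁻¹ * u⁻¹) * u * m := by group
      _ = u * m := by rw [h1, one_mul]
  · intro h1
    rw [Subgroup.mem_zpowers_iff] at h1
    obtain ⟨k, rfl⟩ := h1
    have : Commute (u ^ k) u := (Commute.refl u).zpow_left k
    rw [this.eq]; group

theorem relIndex_eq (h : SC p n u) (hn : 1 ≤ n) (M : Subgroup G)
    (hM : ∀ g, g ∈ M ↔ Commute g (u ^ p)) {x : G} (hx : Commute x (u ^ p))
    (hxU : x ∉ Subgroup.zpowers u) : (Subgroup.zpowers u).relIndex M = p := by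
  obtain ⟨θ, hθ⟩ := exists_theta h hn M hM
  have hker : θ.ker = (Subgroup.zpowers u).subgroupOf M := by
    ext m
    rw [MonoidHom.mem_ker, hθ, theta_eq_one_iff h, Subgroup.mem_subgroupOf]
  have h1 : (Subgroup.zpowers u).relIndex M = Nat.card θ.range := by
    unfold Subgroup.relIndex
    rw [← hker, Subgroup.index_ker]
  have h2 : θ.range ≤ Subgroup.zpowers (u ^ p ^ (n - 1)) := by
    rintro _ ⟨m, rfl⟩
    rw [hθ]
    exact comm_mem_Z h hn ((hM _).mp m.2)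
  have h3 : Nat.card θ.range ∣ p := by
    rw [← card_Z h hn]
    exact Subgroup.card_dvd_of_le h2
  rw [h1]
  rcases (Nat.dvd_prime hp.out).mp h3 with h4 | h4
  · exfalso
    rw [← h1, Subgroup.relIndex_eq_one] at h4
    exact hxU (h4 ((hM x).mpr hx))
  · exact h4

end caseA

section caseA2
variable {G : Type*} [Group G] {p : ℕ} [hp : Fact p.Prime] {n : ℕ} {u : G}

theorem exists_M (p : ℕ) (u : G) : ∃ M : Subgroup G, ∀ g, g ∈ M ↔ Commute g (u ^ p) :=
  ⟨Subgroup.centralizer ({u ^ p} : Set G), fun g => by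
    rw [Subgroup.mem_centralizer_singleton_iff]; rfl⟩

theorem choose_two_pow (hp2 : p ≠ 2) {e : G} (he : e ^ p = 1) : e ^ (p.choose 2) = 1 := by
  have : p ∣ p.choose 2 :=
    hp.out.dvd_choose_self (by norm_num) (lt_of_le_of_ne hp.out.two_le (Ne.symm hp2))
  obtain ⟨k, hk⟩ := this
  rw [hk, pow_mul, he, one_pow]

theorem pow_p_form (h : SC p n u) (hn : 1 ≤ n) {x : G} (hx : Commute x (u ^ p)) :
    ∃ i, x ^ p = u ^ (p * i) := by
  obtain ⟨c, hcdef⟩ : ∃ c, c = x * u * x⁻¹ * u⁻¹ := ⟨_, rfl⟩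
  have hcZ : c ∈ Subgroup.zpowers (u ^ p ^ (n - 1)) := by rw [hcdef]; exact comm_mem_Z h hn hx
  have hc : x * u * x⁻¹ = c * u := by rw [hcdef]; group
  have hcc := Z_central h hn hcZ
  have h1 := conj_pow_c hc (hcc x) p
  rw [Z_pow_p h hn hcZ, one_mul] at h1
  have h2 : Commute (x ^ p) u := by
    show x ^ p * u = u * x ^ p
    calc x ^ p * u = (x ^ p * u * (x ^ p)⁻¹) * x ^ p := by group
      _ = u * x ^ p := by rw [h1]
  obtain ⟨i, hi⟩ := exists_nat_pow h (h.2.2.2 _ h2)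
  have h3 := conj_upow_c hc (hcc u) i
  rw [← hi] at h3
  have h4 : x * x ^ p * x⁻¹ = x ^ p := by
    rw [← pow_succ', pow_succ]; group
  rw [h4, hi] at h3
  have h5 : c ^ i = 1 := by
    have := h3.symm
    rwa [mul_eq_right] at this
  by_cases hc1 : c = 1
  · rw [hcdef, theta_eq_one_iff h] at hc1
    obtain ⟨j, rfl⟩ := exists_nat_pow h hc1
    exact ⟨j, by rw [← pow_mul, mul_comm]⟩
  · have hord : orderOf c = p := orderOf_eq_prime (Z_pow_p h hn hcZ) hc1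
    have h6 : p ∣ i := by rw [← hord]; exact orderOf_dvd_of_pow_eq_one h5
    obtain ⟨j, rfl⟩ := h6
    exact ⟨j, hi⟩

theorem Z_two (h : SC 2 n u) (hn : 1 ≤ n) {d : G}
    (hd : d ∈ Subgroup.zpowers (u ^ 2 ^ (n - 1))) : d = 1 ∨ d = u ^ 2 ^ (n - 1) := by
  haveI : Fact (Nat.Prime 2) := ⟨Nat.prime_two⟩
  have hz2 := z_pow_p h hn
  rw [Subgroup.mem_zpowers_iff] at hd
  obtain ⟨k, rfl⟩ := hd
  rcases Int.even_or_odd k with ⟨m, rfl⟩ | ⟨m, rfl⟩
  · left
    rw [← two_mul, zpow_mul, zpow_ofNat, hz2, one_zpow]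
  · right
    rw [zpow_add, zpow_mul, zpow_ofNat, hz2, one_zpow, one_mul, zpow_one]

theorem exists_t (h : SC p n u) (hn : 1 ≤ n) (hcase : p ≠ 2 ∨ 3 ≤ n) {x : G}
    (hx : Commute x (u ^ p)) (hxU : x ∉ Subgroup.zpowers u) :
    ∃ t, Commute t (u ^ p) ∧ t ∉ Subgroup.zpowers u ∧ t ^ p = 1 := by
  obtain ⟨i, hi⟩ := pow_p_form h hn hx
  obtain ⟨c, hcdef⟩ : ∃ c, c = x * u * x⁻¹ * u⁻¹ := ⟨_, rfl⟩
  have hcZ : c ∈ Subgroup.zpowers (u ^ p ^ (n - 1)) := by rw [hcdef]; exact comm_mem_Z h hn hx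
  have hc : x * u * x⁻¹ = c * u := by rw [hcdef]; group
  have hcc := Z_central h hn hcZ
  obtain ⟨w, hw⟩ : ∃ w, w = u ^ i := ⟨_, rfl⟩
  obtain ⟨d, hd⟩ : ∃ d, d = c ^ i := ⟨_, rfl⟩
  have hdZ : d ∈ Subgroup.zpowers (u ^ p ^ (n - 1)) := by rw [hd]; exact Subgroup.pow_mem _ hcZ i
  have hdc := Z_central h hn hdZ
  have hxw : x * w * x⁻¹ = d * w := by rw [hw, hd]; exact conj_upow_c hc (hcc u) i
  have hwU : w ∈ Subgroup.zpowers u := by rw [hw]; exact Subgroup.pow_mem _ (Subgroup.mem_zpowers u) i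
  have hwp : w ^ p = x ^ p := by rw [hi, hw, ← pow_mul, mul_comm]
  have hc' : w⁻¹ * x = d * (x * w⁻¹) := by
    calc w⁻¹ * x = w⁻¹ * (x * w * x⁻¹) * x * w⁻¹ := by group
      _ = (w⁻¹ * d) * w * x * w⁻¹ := by rw [hxw]; group
      _ = (d * w⁻¹) * w * x * w⁻¹ := by rw [(hdc w⁻¹).eq]
      _ = d * (x * w⁻¹) := by group
  have hpow := Cfsg.Agent.S0100.mul_pow_class2 x w⁻¹ d hc' (hdc x) (hdc w⁻¹) p
  rw [inv_pow, hwp, mul_inv_cancel, one_mul] at hpow
  have hwM : Commute w⁻¹ (u ^ p) := by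
    rw [hw]; exact ((Commute.refl u).pow_pow i p).inv_left
  have ht0M : Commute (x * w⁻¹) (u ^ p) := hx.mul_left hwM
  have ht0U : x * w⁻¹ ∉ Subgroup.zpowers u := by
    intro h1
    apply hxU
    have := Subgroup.mul_mem _ h1 hwU
    rwa [inv_mul_cancel_right] at this
  rcases hcase with hp2 | hn3
  · refine ⟨x * w⁻¹, ht0M, ht0U, ?_⟩
    rw [hpow]
    exact choose_two_pow hp2 (Z_pow_p h hn hdZ)
  · by_cases hp2 : p ≠ 2
    · refine ⟨x * w⁻¹, ht0M, ht0U, ?_⟩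
      rw [hpow]
      exact choose_two_pow hp2 (Z_pow_p h hn hdZ)
    · push Not at hp2
      subst hp2
      rw [show Nat.choose 2 2 = 1 by rfl, pow_one] at hpow
      rcases Z_two h hn hdZ with hd1 | hd1
      · exact ⟨x * w⁻¹, ht0M, ht0U, by rw [hpow, hd1]⟩
      · obtain ⟨m, rfl⟩ : ∃ m, n = m + 3 := ⟨n - 3, by omega⟩
        obtain ⟨v, hv⟩ : ∃ v, v = u ^ 2 ^ (m + 1) := ⟨_, rfl⟩
        have hvU : v ∈ Subgroup.zpowers u := by
          rw [hv]; exact Subgroup.pow_mem _ (Subgroup.mem_zpowers u) _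
        have hv2 : v ^ 2 = u ^ 2 ^ (m + 3 - 1) := by
          rw [hv, ← pow_mul, ← pow_succ]; rfl
        have hvv : v = (u ^ 2) ^ 2 ^ m := by
          rw [hv, ← pow_mul, ← pow_succ']
        have hcomm : Commute (x * w⁻¹) v := by rw [hvv]; exact ht0M.pow_right _
        refine ⟨x * w⁻¹ * v, ?_, ?_, ?_⟩
        · apply ht0M.mul_left
          rw [hv]; exact (Commute.refl u).pow_pow _ _
        · intro h1
          apply ht0U
          have := Subgroup.mul_mem _ h1 (Subgroup.inv_mem _ hvU)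
          rwa [mul_inv_cancel_right] at this
        · rw [hcomm.mul_pow, hpow, hv2, hd1, ← pow_two]
          exact z_pow_p h hn

end caseA2

section caseA3
variable {G : Type*} [Group G] {p : ℕ} [hp : Fact p.Prime] {n : ℕ} {u : G}

theorem mem_E (h : SC p n u) (hn : 1 ≤ n) (hcase : p ≠ 2 ∨ 3 ≤ n) {t : G}
    (ht : Commute t (u ^ p)) (htU : t ∉ Subgroup.zpowers u) {m : G}
    (hm : Commute m (u ^ p)) (hmp : m ^ p = 1) (htp : t ^ p = 1) :
    m ∈ Subgroup.zpowers (u ^ p ^ (n - 1)) ⊔ Subgroup.zpowers t := by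
  obtain ⟨M, hM⟩ := exists_M p u
  obtain ⟨θ, hθ⟩ := exists_theta h hn M hM
  have hθZ : ∀ a : ↥M, θ a ∈ Subgroup.zpowers (u ^ p ^ (n - 1)) := by
    intro a; rw [hθ]; exact comm_mem_Z h hn ((hM _).mp a.2)
  obtain ⟨tM, htM⟩ : ∃ tM : ↥M, (tM : G) = t := ⟨⟨t, (hM t).mpr ht⟩, rfl⟩
  obtain ⟨mM, hmM⟩ : ∃ mM : ↥M, (mM : G) = m := ⟨⟨m, (hM m).mpr hm⟩, rfl⟩
  have hθt : θ tM ≠ 1 := by
    rw [hθ, htM]
    intro h1
    exact htU ((theta_eq_one_iff h).mp h1)
  -- find k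
  obtain ⟨k, hk⟩ : ∃ k : ℤ, (θ tM) ^ k = θ mM := by
    have hcard := card_Z h hn
    have hne : (⟨θ tM, hθZ tM⟩ : ↥(Subgroup.zpowers (u ^ p ^ (n - 1)))) ≠ 1 := by
      intro h1
      apply hθt
      have h2 := congrArg Subtype.val h1
      exact h2
    have h3 := mem_zpowers_of_prime_card hcard hne
      (g' := (⟨θ mM, hθZ mM⟩ : ↥(Subgroup.zpowers (u ^ p ^ (n - 1)))))
    rw [Subgroup.mem_zpowers_iff] at h3
    obtain ⟨k, hk⟩ := h3
    refine ⟨k, ?_⟩
    have h4 := congrArg Subtype.val hk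
    rw [Subgroup.coe_zpow] at h4
    exact h4
  have h1 : θ (mM * tM ^ (-k)) = 1 := by
    rw [map_mul, map_zpow, zpow_neg, hk, mul_inv_cancel]
  rw [hθ, theta_eq_one_iff h, Subgroup.coe_mul, Subgroup.coe_zpow, hmM, htM] at h1
  obtain ⟨w, hw⟩ : ∃ w, w = m * t ^ (-k) := ⟨_, rfl⟩
  obtain ⟨T, hT⟩ : ∃ T, T = t ^ k := ⟨_, rfl⟩
  rw [← hw] at h1
  have hmwT : m = w * T := by rw [hw, hT, zpow_neg]; group
  have hTp : T ^ p = 1 := by
    rw [hT, ← zpow_natCast, ← zpow_mul, mul_comm, zpow_mul, zpow_natCast, htp, one_zpow]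
  have hTM : Commute T (u ^ p) := by rw [hT]; exact ht.zpow_left k
  have hTt : T ∈ Subgroup.zpowers t := by rw [hT]; exact Subgroup.zpow_mem _ (Subgroup.mem_zpowers t) k
  obtain ⟨j, hj⟩ := exists_nat_pow h h1
  obtain ⟨c, hcdef⟩ : ∃ c, c = T * u * T⁻¹ * u⁻¹ := ⟨_, rfl⟩
  have hcZ : c ∈ Subgroup.zpowers (u ^ p ^ (n - 1)) := by rw [hcdef]; exact comm_mem_Z h hn hTM
  have hc : T * u * T⁻¹ = c * u := by rw [hcdef]; group
  have hcc := Z_central h hn hcZ
  obtain ⟨e, he⟩ : ∃ e, e = c ^ j := ⟨_, rfl⟩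
  have heZ : e ∈ Subgroup.zpowers (u ^ p ^ (n - 1)) := by rw [he]; exact Subgroup.pow_mem _ hcZ j
  have hec := Z_central h hn heZ
  have hTw : T * w * T⁻¹ = e * w := by rw [hj, he]; exact conj_upow_c hc (hcc u) j
  have hc' : T * w = e * (w * T) := by
    calc T * w = (T * w * T⁻¹) * T := by group
      _ = e * (w * T) := by rw [hTw, mul_assoc]
  have hpow := Cfsg.Agent.S0100.mul_pow_class2 w T e hc' (hec w) (hec T) p
  rw [← hmwT, hmp, hTp, mul_one] at hpow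
  have hwp : w ^ p = 1 := by
    by_cases hp2 : p ≠ 2
    · rw [choose_two_pow hp2 (Z_pow_p h hn heZ), mul_one] at hpow
      exact hpow.symm
    · push Not at hp2
      subst hp2
      have hn3 : 3 ≤ n := by
        rcases hcase with h2 | h2
        · exact absurd rfl h2
        · exact h2
      rw [show Nat.choose 2 2 = 1 by rfl, pow_one] at hpow
      have hw2 : w ^ 2 = e⁻¹ := eq_inv_of_mul_eq_one_left hpow.symm
      have hw4 : w ^ 4 = 1 := by
        have : w ^ 4 = (w ^ 2) ^ 2 := by rw [← pow_mul]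
        rw [this, hw2, inv_pow, Z_pow_p h hn heZ, inv_one]
      rw [hj, ← pow_mul, upow_eq_one_iff h] at hw4
      obtain ⟨m', rfl⟩ : ∃ m', n = m' + 3 := ⟨n - 3, by omega⟩
      have h4 : (2 : ℕ) ^ (m' + 3) = 2 ^ (m' + 1) * 4 := by ring
      rw [h4] at hw4
      have h5 : 2 ^ (m' + 1) ∣ j := Nat.dvd_of_mul_dvd_mul_right (by norm_num) hw4
      have h6 : 2 ∣ j := Dvd.dvd.trans (dvd_pow_self 2 (by omega)) h5
      obtain ⟨j', rfl⟩ := h6
      have hTw' : Commute T w := by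
        rw [hj, pow_mul]; exact hTM.pow_right j'
      have he1 : e = 1 := by
        have h7 : T * w * T⁻¹ = w := by rw [hTw'.eq]; group
        rw [h7] at hTw
        have := hTw.symm
        rwa [mul_eq_right] at this
      rw [he1, mul_one] at hpow
      exact hpow.symm
  have hwZ := mem_Z h hn h1 hwp
  rw [hmwT]
  exact Subgroup.mul_mem _ (Subgroup.mem_sup_left hwZ) (Subgroup.mem_sup_right hTt)

end caseA3

section caseA4
variable {G : Type*} [Group G] {p : ℕ} [hp : Fact p.Prime] {n : ℕ} {u : G}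

theorem M_normal (h : SC p n u) {m : G} (hm : Commute m (u ^ p)) (g : G) :
    Commute (g * m * g⁻¹) (u ^ p) := by
  obtain ⟨r, hr⟩ := h.2.2.1 g⁻¹
  rw [inv_inv] at hr
  have h1 := conj_upow (g := g⁻¹) (by rw [inv_inv]; exact hr) p
  rw [inv_inv] at h1
  have h2 : Commute m (u ^ (r * p)) := by
    rw [mul_comm, pow_mul]; exact hm.pow_right r
  have h3 : g * u ^ (r * p) * g⁻¹ = u ^ p := by rw [← h1]; group
  show g * m * g⁻¹ * u ^ p = u ^ p * (g * m * g⁻¹)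
  calc g * m * g⁻¹ * u ^ p = g * m * (g⁻¹ * u ^ p * g) * g⁻¹ := by group
    _ = g * (m * u ^ (r * p)) * g⁻¹ := by rw [h1]; group
    _ = g * (u ^ (r * p) * m) * g⁻¹ := by rw [h2.eq]
    _ = (g * u ^ (r * p) * g⁻¹) * (g * m * g⁻¹) := by group
    _ = u ^ p * (g * m * g⁻¹) := by rw [h3]

theorem caseA_main (h : SC p n u) (hn : 1 ≤ n) (hcase : p ≠ 2 ∨ 3 ≤ n) (M : Subgroup G)
    (hM : ∀ g, g ∈ M ↔ Commute g (u ^ p)) {x : G} (hx : Commute x (u ^ p))
    (hxU : x ∉ Subgroup.zpowers u) :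
    (Subgroup.zpowers u).relIndex M = p ∧ Cfsg.IsElementaryAbelian p (Cfsg.omegaOne p M) ∧
      Nat.card ↥(Cfsg.omegaOne p M) = p ^ 2 ∧ (Cfsg.omegaOne p M).Characteristic := by
  refine ⟨relIndex_eq h hn M hM hx hxU, ?_⟩
  obtain ⟨t, ht, htU, htp⟩ := exists_t h hn hcase hx hxU
  have hzM : Commute (u ^ p ^ (n - 1)) (u ^ p) := (Commute.refl u).pow_pow _ _
  have hEq : Cfsg.omegaOne p M = Subgroup.zpowers (u ^ p ^ (n - 1)) ⊔ Subgroup.zpowers t := by
    unfold Cfsg.omegaOne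
    apply le_antisymm
    · rw [Subgroup.closure_le]
      rintro m ⟨hm1, hm2⟩
      exact mem_E h hn hcase ht htU ((hM m).mp hm1) hm2 htp
    · apply sup_le
      · rw [Subgroup.zpowers_le]
        exact Subgroup.subset_closure ⟨(hM _).mpr hzM, z_pow_p h hn⟩
      · rw [Subgroup.zpowers_le]
        exact Subgroup.subset_closure ⟨(hM _).mpr ht, htp⟩
  have hEcomm := Cfsg.Agent.S0100.sup_comm (Subgroup.zpowers (u ^ p ^ (n - 1))) t
    (fun a ha b _ => (Z_central h hn ha b).eq) (fun a ha => (Z_central h hn ha t).eq)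
  have hEexp := Cfsg.Agent.S0100.sup_exp p (Subgroup.zpowers (u ^ p ^ (n - 1))) t hEcomm
    (fun a ha => Z_pow_p h hn ha) htp
  have hEM : ∀ e ∈ Subgroup.zpowers (u ^ p ^ (n - 1)) ⊔ Subgroup.zpowers t,
      Commute e (u ^ p) := by
    intro e he
    rw [← hM]
    have : Subgroup.zpowers (u ^ p ^ (n - 1)) ⊔ Subgroup.zpowers t ≤ M := by
      apply sup_le
      · rw [Subgroup.zpowers_le]; exact (hM _).mpr hzM
      · rw [Subgroup.zpowers_le]; exact (hM _).mpr ht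
    exact this he
  have hEnormal : ∀ e ∈ Subgroup.zpowers (u ^ p ^ (n - 1)) ⊔ Subgroup.zpowers t, ∀ g : G,
      g * e * g⁻¹ ∈ Subgroup.zpowers (u ^ p ^ (n - 1)) ⊔ Subgroup.zpowers t := by
    intro e he g
    apply mem_E h hn hcase ht htU (M_normal h (hEM e he) g) _ htp
    rw [conj_pow, hEexp e he]; group
  rw [hEq]
  refine ⟨⟨⟨⟨fun a b => Subtype.ext (hEcomm a a.2 b b.2)⟩⟩, hEexp⟩, ?_, ?_⟩
  · -- card
    haveI hZn : (Subgroup.zpowers (u ^ p ^ (n - 1))).Normal := by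
      refine ⟨fun c hc g => ?_⟩
      have : g * c * g⁻¹ = c := by rw [← (Z_central h hn hc g).eq]; group
      rw [this]; exact hc
    have h1 := Cfsg.Agent.Lib.Helper1_Card.card_sup_mul_card_inf_of_normal (Subgroup.zpowers t)
      (Subgroup.zpowers (u ^ p ^ (n - 1)))
    have ht1 : t ≠ 1 := by
      rintro rfl
      exact htU (Subgroup.one_mem _)
    have hct : Nat.card (Subgroup.zpowers t) = p := by
      rw [Nat.card_zpowers]; exact orderOf_eq_prime htp ht1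
    have hinf : Nat.card (Subgroup.zpowers t ⊓ Subgroup.zpowers (u ^ p ^ (n - 1)) : Subgroup G) = 1 := by
      have hd : Nat.card (Subgroup.zpowers t ⊓ Subgroup.zpowers (u ^ p ^ (n - 1)) : Subgroup G) ∣ p := by
        rw [← hct]; exact Subgroup.card_dvd_of_le inf_le_left
      rcases (Nat.dvd_prime hp.out).mp hd with h2 | h2
      · exact h2
      · exfalso
        haveI : Finite (Subgroup.zpowers t) := Nat.finite_of_card_ne_zero (by rw [hct]; exact hp.out.ne_zero)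
        have h3 := Subgroup.eq_of_le_of_card_ge (inf_le_left :
          Subgroup.zpowers t ⊓ Subgroup.zpowers (u ^ p ^ (n - 1)) ≤ Subgroup.zpowers t)
          (by rw [h2, hct])
        have h4 : t ∈ Subgroup.zpowers t ⊓ Subgroup.zpowers (u ^ p ^ (n - 1)) := by
          rw [h3]; exact Subgroup.mem_zpowers t
        exact htU (Z_le_U h4.2)
    rw [hinf, mul_one, hct, card_Z h hn, sup_comm] at h1
    rw [h1, pow_two]
  · -- characteristic
    rw [Subgroup.characteristic_iff_map_le]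
    intro φ v hv
    rw [Subgroup.mem_map] at hv
    obtain ⟨e, he, rfl⟩ := hv
    have hvp : (φ.toMonoidHom e) ^ p = 1 := by
      rw [← map_pow, hEexp e he, map_one]
    obtain ⟨a, ha⟩ : ∃ a, φ a = u := ⟨φ.symm u, φ.apply_symm_apply u⟩
    have h1 : e * (a * e⁻¹ * a⁻¹) ∈ Subgroup.zpowers (u ^ p ^ (n - 1)) ⊔ Subgroup.zpowers t := by
      apply Subgroup.mul_mem _ he
      have := hEnormal e⁻¹ (Subgroup.inv_mem _ he) a
      exact this
    have h2 := hEexp _ h1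
    obtain ⟨c, hcdef⟩ : ∃ c, c = φ.toMonoidHom e * u * (φ.toMonoidHom e)⁻¹ * u⁻¹ := ⟨_, rfl⟩
    have h3 : c = φ.toMonoidHom (e * (a * e⁻¹ * a⁻¹)) := by
      rw [hcdef, map_mul, map_mul, map_mul, map_inv, map_inv]
      have : φ.toMonoidHom a = u := ha
      rw [this]; group
    have hcp : c ^ p = 1 := by rw [h3, ← map_pow, h2, map_one]
    have hcU : c ∈ Subgroup.zpowers u := by
      obtain ⟨r, hr⟩ := h.2.2.1 (φ.toMonoidHom e)
      rw [hcdef, hr]
      exact Subgroup.mul_mem _ (Subgroup.pow_mem _ (Subgroup.mem_zpowers u) r)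
        (Subgroup.inv_mem _ (Subgroup.mem_zpowers u))
    have hcZ := mem_Z h hn hcU hcp
    have hcc := Z_central h hn hcZ
    have hc : φ.toMonoidHom e * u * (φ.toMonoidHom e)⁻¹ = c * u := by rw [hcdef]; group
    have h4 := conj_upow_c hc (hcc u) p
    rw [hcp, one_mul] at h4
    have hvM : Commute (φ.toMonoidHom e) (u ^ p) := by
      show φ.toMonoidHom e * u ^ p = u ^ p * φ.toMonoidHom e
      calc φ.toMonoidHom e * u ^ p = (φ.toMonoidHom e * u ^ p * (φ.toMonoidHom e)⁻¹) * φ.toMonoidHom e := by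
            group
        _ = u ^ p * φ.toMonoidHom e := by rw [h4]
    exact mem_E h hn hcase ht htU hvM hvp htp

end caseA4

section caseB
variable {G : Type*} [Group G] {p : ℕ} [hp : Fact p.Prime] {n : ℕ} {u : G}

theorem exists_boundary (hG : IsPGroup p G) (U : Subgroup G) {g : G} (hg : g ∉ U) :
    ∃ k, g ^ p ^ k ∉ U ∧ g ^ p ^ (k + 1) ∈ U := by
  classical
  have hex : ∃ k, g ^ p ^ k ∈ U := by
    obtain ⟨k, hk⟩ := hG g
    exact ⟨k, by rw [hk]; exact U.one_mem⟩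
  have h0 : Nat.find hex ≠ 0 := by
    intro h0
    have := Nat.find_spec hex
    rw [h0, pow_zero, pow_one] at this
    exact hg this
  obtain ⟨k, hk⟩ := Nat.exists_eq_succ_of_ne_zero h0
  refine ⟨k, ?_, ?_⟩
  · exact Nat.find_min hex (by omega)
  · have := Nat.find_spec hex
    rwa [hk] at this

/-- recognition of dihedral and quaternion groups -/
theorem recog [Finite G] (hn : 1 ≤ n) {x : G} (hcard : Nat.card G = 2 ^ (n + 1))
    (hord : orderOf u = 2 ^ n) (hxU : x ∉ Subgroup.zpowers u) (hinv : x * u * x⁻¹ = u⁻¹)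
    (hx2 : x * x = 1 ∨ x * x = u ^ 2 ^ (n - 1)) :
    (∃ m : ℕ, Nonempty (G ≃* DihedralGroup m)) ∨ (∃ m : ℕ, Nonempty (G ≃* QuaternionGroup m)) := by
  obtain ⟨m, rfl⟩ : ∃ m, n = m + 1 := ⟨n - 1, by omega⟩
  rcases hx2 with h1 | h1
  · left
    haveI : NeZero (2 ^ (m + 1)) := ⟨by positivity⟩
    refine ⟨2 ^ (m + 1), ?_⟩
    exact Cfsg.Agent.Lib.Helper6_DihedralLift.dihedral_equiv (2 ^ (m + 1))
      (by rw [hcard]; ring) u x hord hxU h1 hinv
  · right
    haveI : NeZero (2 ^ m) := ⟨by positivity⟩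
    refine ⟨2 ^ m, ?_⟩
    have hidx : (Subgroup.zpowers u).index = 2 := by
      have h2 := Subgroup.card_mul_index (Subgroup.zpowers u)
      rw [Nat.card_zpowers, hord, hcard, pow_succ 2 (m + 1)] at h2
      exact Nat.eq_of_mul_eq_mul_left (by positivity) h2
    exact Cfsg.Agent.Lib.Helper5_MaxClassTwo.quaternion_equiv (2 ^ m)
      (by rw [hcard]; ring) u x (by rw [hord]; ring) hxU hidx
      (by rw [h1]; rfl) hinv

theorem caseB_r (h : SC p n u) (hn : 1 ≤ n)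
    (hMU : ∀ g, Commute g (u ^ p) → g ∈ Subgroup.zpowers u) {x : G}
    (hxU : x ∉ Subgroup.zpowers u) (hxp : x ^ p ∈ Subgroup.zpowers u) {r : ℕ}
    (hr : x * u * x⁻¹ = u ^ r) (hr1 : r ≡ 1 [MOD p]) :
    p = 2 ∧ 3 ≤ n ∧ 2 ^ (n - 1) ∣ r + 1 := by
  have h1 := conj_pow_iter hr p
  have h2 : x ^ p * u * (x ^ p)⁻¹ = u := by
    rw [Subgroup.mem_zpowers_iff] at hxp
    obtain ⟨k, hk⟩ := hxp
    rw [← hk]
    have : Commute (u ^ k) u := (Commute.refl u).zpow_left k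
    rw [this.eq]; group
  rw [h2] at h1
  have h3 : r ^ p ≡ 1 [MOD p ^ n] := by
    rw [← upow_eq_iff h, pow_one]; exact h1.symm
  have h4 : ¬ r ≡ 1 [MOD p ^ (n - 1)] := by
    intro h5
    apply hxU
    apply hMU
    have h6 := Nat.ModEq.mul_right' p h5
    rw [one_mul, ← pow_succ, show n - 1 + 1 = n by omega, ← upow_eq_iff h] at h6
    have h7 := conj_upow hr p
    rw [h6] at h7
    show x * u ^ p = u ^ p * x
    calc x * u ^ p = (x * u ^ p * x⁻¹) * x := by group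
      _ = u ^ p * x := by rw [h7]
  rcases hp.out.eq_two_or_odd' with hp2 | hp2
  · subst hp2
    have hodd : Odd r := by
      rw [Nat.odd_iff]; exact hr1
    obtain ⟨h5, h6⟩ := two_case hodd h3 h4
    exact ⟨rfl, h5, h6⟩
  · exact absurd (odd_lift hp2 hr1 h3) h4

end caseB

section caseB2
variable {G : Type*} [Group G] {n : ℕ} {u : G}

theorem neg_one_mul_neg_one {N s r : ℕ} (hs : N ∣ s + 1) (hr : N ∣ r + 1) : s * r ≡ 1 [MOD N] := by
  have e1 : s * (r + 1) + 1 ≡ 0 + 1 [MOD N] :=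
    Nat.ModEq.add_right 1 ((Nat.modEq_zero_iff_dvd).mpr (Dvd.dvd.mul_left hr s))
  have e2 : s * r + (s + 1) ≡ s * r + 0 [MOD N] :=
    Nat.ModEq.add_left _ ((Nat.modEq_zero_iff_dvd).mpr hs)
  have e3 : s * (r + 1) + 1 = s * r + (s + 1) := by ring
  rw [e3] at e1
  rw [add_zero] at e2
  rw [zero_add] at e1
  exact e2.symm.trans e1

theorem caseB_main [Finite G] {p : ℕ} [hp : Fact p.Prime] (h : SC p n u) (hn : 1 ≤ n)
    (hMU : ∀ g, Commute g (u ^ p) → g ∈ Subgroup.zpowers u)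
    (hne : ∃ g, g ∉ Subgroup.zpowers u) :
    p = 2 ∧ Nat.card G = 2 ^ (n + 1) ∧ ((∃ m : ℕ, Nonempty (G ≃* DihedralGroup m)) ∨
      (∃ m : ℕ, Nonempty (G ≃* QuaternionGroup m)) ∨ Cfsg.IsQuasiDihedral G) := by
  obtain ⟨g, hg⟩ := hne
  obtain ⟨k, hk1, hk2⟩ := exists_boundary h.1 (Subgroup.zpowers u) hg
  obtain ⟨x, hxdef⟩ : ∃ x, x = g ^ p ^ k := ⟨_, rfl⟩
  rw [pow_succ, pow_mul, ← hxdef] at hk2
  rw [← hxdef] at hk1
  obtain ⟨r, hr, hr1, hr0⟩ := exists_r h hn x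
  obtain ⟨hp2, hn3, hrd⟩ := caseB_r h hn hMU hk1 hk2 hr hr1
  subst hp2
  refine ⟨rfl, ?_⟩
  -- every element outside U acts as -1 mod 2^(n-1)
  have hall : ∀ b, b ∉ Subgroup.zpowers u → ∀ s : ℕ, b * u * b⁻¹ = u ^ s → s ≡ 1 [MOD 2] →
      2 ^ (n - 1) ∣ s + 1 := by
    intro b hb s hs hs1
    obtain ⟨k', hk1', hk2'⟩ := exists_boundary h.1 (Subgroup.zpowers u) hb
    rw [pow_succ, pow_mul] at hk2'
    have h1 := conj_pow_iter hs (2 ^ k')
    have h2 : s ^ 2 ^ k' ≡ 1 [MOD 2] := by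
      have := hs1.pow (2 ^ k')
      rwa [one_pow] at this
    obtain ⟨-, -, h3⟩ := caseB_r h hn hMU hk1' hk2' h1 h2
    rcases Nat.eq_zero_or_pos k' with hk0 | hk0
    · rw [hk0, pow_zero, pow_one] at h3
      exact h3
    · exfalso
      obtain ⟨k'', rfl⟩ : ∃ k'', k' = k'' + 1 := ⟨k' - 1, by omega⟩
      rw [pow_succ, pow_mul] at h3
      have hodd : Odd (s ^ 2 ^ k'') := by
        apply Odd.pow
        rw [Nat.odd_iff]; exact hs1
      obtain ⟨a, ha⟩ := hodd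
      rw [ha] at h3
      have h4 : (4 : ℕ) ∣ 2 ^ (n - 1) := by
        calc (4 : ℕ) = 2 ^ 2 := by norm_num
          _ ∣ 2 ^ (n - 1) := pow_dvd_pow 2 (by omega)
      have h5 := Dvd.dvd.trans h4 h3
      have h6 : (2 * a + 1) ^ 2 + 1 = 4 * (a * (a + 1)) + 2 := by ring
      rw [h6] at h5
      omega
  have hidx : (Subgroup.zpowers u).index = 2 := by
    rw [Subgroup.index_eq_two_iff]
    refine ⟨x, fun b => ?_⟩
    by_cases hb : b ∈ Subgroup.zpowers u
    · right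
      refine ⟨hb, fun h1 => hk1 ?_⟩
      have := Subgroup.mul_mem _ (Subgroup.inv_mem _ hb) h1
      rwa [inv_mul_cancel_left] at this
    · left
      refine ⟨?_, hb⟩
      obtain ⟨s, hs, hs1, -⟩ := exists_r h hn b
      have hsd := hall b hb s hs hs1
      have h1 := conj_mul hs hr
      have h2 := neg_one_mul_neg_one hsd hrd
      have h3 := Nat.ModEq.mul_right' 2 h2
      rw [one_mul, ← pow_succ, show n - 1 + 1 = n by omega, ← upow_eq_iff h] at h3
      have h4 := conj_upow h1 2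
      rw [h3] at h4
      apply hMU
      show b * x * u ^ 2 = u ^ 2 * (b * x)
      calc b * x * u ^ 2 = (b * x * u ^ 2 * (b * x)⁻¹) * (b * x) := by group
        _ = u ^ 2 * (b * x) := by rw [h4]
  have hcard : Nat.card G = 2 ^ (n + 1) := by
    have h2 := Subgroup.card_mul_index (Subgroup.zpowers u)
    rw [Nat.card_zpowers, h.2.1, hidx] at h2
    rw [← h2, pow_succ]
  refine ⟨hcard, ?_⟩
  -- the action of x
  obtain ⟨j, hj⟩ := hrd
  have hz2 := z_pow_p h hn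
  have hpn : 2 ^ n = 2 ^ (n - 1) * 2 := by rw [← pow_succ, show n - 1 + 1 = n by omega]
  have hur : u ^ r = u⁻¹ ∨ u ^ r = u ^ 2 ^ (n - 1) * u⁻¹ := by
    rcases Nat.even_or_odd j with ⟨j', hj'⟩ | ⟨j', hj'⟩
    · left
      apply eq_inv_of_mul_eq_one_left
      rw [← pow_succ, hj, hj', ← two_mul, ← mul_assoc, ← hpn, pow_mul, ← h.2.1, pow_orderOf_eq_one,
        one_pow]
    · right
      apply eq_mul_inv_of_mul_eq
      rw [← pow_succ, hj, hj', mul_add, mul_one, ← mul_assoc, ← hpn, pow_add, pow_mul, ← h.2.1,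
        pow_orderOf_eq_one, one_pow, one_mul]
  -- x * x in Z
  have hxxZ : x * x = 1 ∨ x * x = u ^ 2 ^ (n - 1) := by
    apply Z_two h hn
    rw [← pow_two]
    obtain ⟨i, hi⟩ := exists_nat_pow h hk2
    have h1 := conj_upow hr i
    rw [← hi] at h1
    have h2 : x * x ^ 2 * x⁻¹ = x ^ 2 := by
      rw [← pow_succ', pow_succ]; group
    rw [h2, hi, upow_eq_iff h] at h1
    -- h1 : i ≡ r * i [MOD 2 ^ n]
    have h3 : i + i ≡ r * i + i [MOD 2 ^ n] := h1.add_right i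
    have h4 : r * i + i = 2 ^ (n - 1) * (j * i) := by
      calc r * i + i = (r + 1) * i := by ring
        _ = 2 ^ (n - 1) * (j * i) := by rw [hj]; ring
    rw [h4, ← two_mul] at h3
    have h5 : 2 ^ (n - 1) ∣ 2 * i := by
      have h6 : 2 * i ≡ 2 ^ (n - 1) * (j * i) [MOD 2 ^ (n - 1)] :=
        h3.of_dvd (by rw [hpn]; exact dvd_mul_right _ _)
      have h7 : 2 ^ (n - 1) * (j * i) ≡ 0 [MOD 2 ^ (n - 1)] :=
        (Nat.modEq_zero_iff_dvd).mpr (dvd_mul_right _ _)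
      exact (Nat.modEq_zero_iff_dvd).mp (h6.trans h7)
    have h8 : 2 ∣ i := by
      have h9 : (4 : ℕ) ∣ 2 ^ (n - 1) := by
        calc (4 : ℕ) = 2 ^ 2 := by norm_num
          _ ∣ 2 ^ (n - 1) := pow_dvd_pow 2 (by omega)
      have := Dvd.dvd.trans h9 h5
      omega
    obtain ⟨i', rfl⟩ := h8
    have h10 : 2 ^ n ∣ 2 * (2 * i') := by
      have h11 : 2 ^ (n - 1) * (j * (2 * i')) ≡ 0 [MOD 2 ^ n] := by
        apply (Nat.modEq_zero_iff_dvd).mpr
        rw [hpn]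
        exact ⟨j * i', by ring⟩
      exact (Nat.modEq_zero_iff_dvd).mp (h3.trans h11)
    have h12 : 2 ^ (n - 1) ∣ 2 * i' := by
      rw [hpn, mul_comm (2 ^ (n - 1)) 2] at h10
      exact Nat.dvd_of_mul_dvd_mul_left (by norm_num) h10
    obtain ⟨q, hq⟩ := h12
    rw [hi, hq, pow_mul]
    exact Subgroup.pow_mem _ (Subgroup.mem_zpowers _) q
  rcases hur with hur | hur
  · rw [hur] at hr
    rcases recog hn hcard h.2.1 hk1 hr hxxZ with h1 | h1
    · exact Or.inl h1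
    · exact Or.inr (Or.inl h1)
  · right; right
    rw [hur] at hr
    have hpm : u ^ (2 ^ (n - 1) - 1) = u ^ 2 ^ (n - 1) * u⁻¹ := by
      apply eq_mul_inv_of_mul_eq
      exact pow_sub_one_mul (by positivity) u
    have hx1 : x ≠ 1 := by
      rintro rfl
      exact hk1 (Subgroup.one_mem _)
    rcases hxxZ with hxx | hxx
    · refine ⟨n, hn3, hcard, u, x, h.2.1, ?_, by rw [hpm]; exact hr⟩
      exact orderOf_eq_prime (by rw [pow_two]; exact hxx) hx1
    · have hzc := z_central h hn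
      obtain ⟨z, hz⟩ : ∃ z, z = u ^ 2 ^ (n - 1) := ⟨_, rfl⟩
      rw [← hz] at hr hxx hzc hz2 hpm
      have hy1 : u * x ≠ 1 := by
        intro h1
        apply hk1
        have : x = u⁻¹ := eq_inv_of_mul_eq_one_right h1
        rw [this]
        exact Subgroup.inv_mem _ (Subgroup.mem_zpowers u)
      refine ⟨n, hn3, hcard, u, u * x, h.2.1, ?_, ?_⟩
      · apply orderOf_eq_prime _ hy1
        rw [pow_two]
        calc u * x * (u * x) = u * (x * u * x⁻¹) * (x * x) := by group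
          _ = u * (z * u⁻¹) * z := by rw [hr, hxx]
          _ = (u * z) * u⁻¹ * z := by group
          _ = (z * u) * u⁻¹ * z := by rw [(hzc u).eq]
          _ = z ^ 2 := by rw [pow_two]; group
          _ = 1 := hz2
      · rw [hpm]
        calc u * x * u * (u * x)⁻¹ = u * (x * u * x⁻¹) * u⁻¹ := by group
          _ = u * (z * u⁻¹) * u⁻¹ := by rw [hr]
          _ = (u * z) * u⁻¹ * u⁻¹ := by group
          _ = (z * u) * u⁻¹ * u⁻¹ := by rw [(hzc u).eq]
          _ = z * u⁻¹ := by group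

end caseB2

section small
variable {G : Type*} [Group G] {u : G}

theorem small_case [Finite G] (h : SC 2 2 u) {x : G} (hxU : x ∉ Subgroup.zpowers u) :
    Nat.card G = 2 ^ (2 + 1) ∧ ((∃ m : ℕ, Nonempty (G ≃* DihedralGroup m)) ∨
      (∃ m : ℕ, Nonempty (G ≃* QuaternionGroup m))) := by
  haveI : Fact (Nat.Prime 2) := ⟨Nat.prime_two⟩
  have hn : 1 ≤ 2 := by norm_num
  have hzc := z_central h hn
  have h21 : 2 ^ (2 - 1) = 2 := by norm_num
  rw [h21] at hzc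
  have hM : ∀ g, g ∈ (⊤ : Subgroup G) ↔ Commute g (u ^ 2) := fun g => ⟨fun _ => hzc g, fun _ => Subgroup.mem_top g⟩
  have hrel := relIndex_eq h hn ⊤ hM (hzc x) hxU
  rw [Subgroup.relIndex_top_right] at hrel
  have hcard : Nat.card G = 2 ^ (2 + 1) := by
    have h2 := Subgroup.card_mul_index (Subgroup.zpowers u)
    rw [Nat.card_zpowers, h.2.1, hrel] at h2
    rw [← h2]; norm_num
  refine ⟨hcard, ?_⟩
  obtain ⟨r, hr, hr1, -⟩ := exists_r h hn x
  have hu4 : u ^ 4 = 1 := by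
    have := pow_orderOf_eq_one u
    rw [h.2.1] at this
    exact this
  have hr4 : r % 4 = 1 ∨ r % 4 = 3 := by
    have : r % 2 = 1 := hr1
    omega
  rw [pow_eq_pow_mod r hu4] at hr
  rcases hr4 with hr4 | hr4
  · exfalso
    rw [hr4, pow_one] at hr
    apply hxU
    apply h.2.2.2
    show x * u = u * x
    calc x * u = (x * u * x⁻¹) * x := by group
      _ = u * x := by rw [hr]
  · rw [hr4] at hr
    have hu3 : u ^ 3 = u⁻¹ := by
      apply eq_inv_of_mul_eq_one_left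
      rw [← pow_succ]; exact hu4
    rw [hu3] at hr
    have hxx : x * x = 1 ∨ x * x = u ^ 2 ^ (2 - 1) := by
      apply Z_two h hn
      obtain ⟨i, hi⟩ := pow_p_form h hn (hzc x)
      rw [← pow_two, hi, h21, pow_mul]
      exact Subgroup.pow_mem _ (Subgroup.mem_zpowers _) i
    exact recog hn hcard h.2.1 hxU hr hxx

end small

end Cfsg.Agent.Lib.Helper6_CyclicSC
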