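import Mathlib
import Cfsg.Agent.Lib.Helper6_ClassTwo

/-! Dedekind groups: a nonabelian finite group all of whose subgroups are normal contains
a quaternion pair. -/

set_option autoImplicit false

namespace Cfsg.Agent.Lib.Helper6_Dedekind

open Cfsg.Agent.Lib.Helper6_ClassTwo
open scoped commutatorElement

/-- in a cyclic `p`-group `⟨y⟩`, an element `c` of order `p` generates `y^(p^(b-1))` -/
theorem pow_mem_zpowers_of_order_p {H : Type*} [Group H] {y c : H} {p b : ℕ} (hp : p.Prime)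
    (hb : 1 ≤ b) (hy : orderOf y = p ^ b) (hc : c ∈ Subgroup.zpowers y) (hcp : c ^ p = 1)
    (hc1 : c ≠ 1) : ∃ s : ℕ, c ^ s = y ^ (p ^ (b - 1)) := by
  have hfin : IsOfFinOrder y := by rw [← orderOf_pos_iff, hy]; exact pow_pos hp.pos b
  obtain ⟨t, ht⟩ := hfin.mem_powers_iff_mem_zpowers.mpr hc
  have ht' : y ^ t = c := ht
  have h1 : y ^ (t * p) = 1 := by rw [pow_mul, ht', hcp]
  have h2 : p ^ b ∣ t * p := by rw [← hy]; exact orderOf_dvd_of_pow_eq_one h1
  have hpb : p ^ b = p ^ (b - 1) * p := by rw [← pow_succ]; congr 1; omega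
  rw [hpb] at h2
  have h3 : p ^ (b - 1) ∣ t := Nat.dvd_of_mul_dvd_mul_right hp.pos h2
  obtain ⟨t', rfl⟩ := h3
  have hv : (y ^ (p ^ (b - 1))) ^ p = 1 := by
    rw [← pow_mul, ← hpb, ← hy]; exact pow_orderOf_eq_one y
  have hcv : c = (y ^ (p ^ (b - 1))) ^ t' := by rw [← ht', pow_mul]
  have hpt : ¬ p ∣ t' := by
    rintro ⟨t'', rfl⟩
    apply hc1
    rw [hcv, pow_mul, hv, one_pow]
  have hcop : Nat.Coprime t' p := ((Nat.Prime.coprime_iff_not_dvd hp).mpr hpt).symm
  obtain ⟨s, -, hs⟩ := Nat.exists_mul_mod_eq_one_of_coprime hcop hp.one_lt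
  refine ⟨s, ?_⟩
  rw [hcv, ← pow_mul]
  have : t' * s = p * (t' * s / p) + 1 := by
    have := Nat.div_add_mod (t' * s) p; rw [hs] at this; exact this.symm
  rw [this, pow_add, pow_mul, hv, one_pow, one_mul, pow_one]

/-- cancelling an element of order `p` of `⟨x⟩` by a suitable power of `x` -/
theorem exists_pow_eq_inv {H : Type*} [Group H] {x w : H} {p a b : ℕ} (hp : p.Prime) (hb : 1 ≤ b)
    (hba : b ≤ a) (hx : orderOf x = p ^ a) (hw : w ∈ Subgroup.zpowers x) (hwp : w ^ p = 1) :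
    ∃ m : ℕ, x ^ (m * p ^ (b - 1)) = w⁻¹ := by
  have hfin : IsOfFinOrder x := by rw [← orderOf_pos_iff, hx]; exact pow_pos hp.pos a
  obtain ⟨j, hj⟩ := hfin.mem_powers_iff_mem_zpowers.mpr hw
  have hj' : x ^ j = w := hj
  have h1 : x ^ (j * p) = 1 := by rw [pow_mul, hj', hwp]
  have h2 : p ^ a ∣ j * p := by rw [← hx]; exact orderOf_dvd_of_pow_eq_one h1
  have hpa : p ^ a = p ^ (a - 1) * p := by rw [← pow_succ]; congr 1; omega
  rw [hpa] at h2
  have h3 : p ^ (a - 1) ∣ j := Nat.dvd_of_mul_dvd_mul_right hp.pos h2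
  obtain ⟨j', rfl⟩ := h3
  refine ⟨p ^ (a - b) * j' * (p - 1), ?_⟩
  have hinv : w⁻¹ = w ^ (p - 1) := by
    apply inv_eq_of_mul_eq_one_right
    rw [← pow_succ']
    have : p - 1 + 1 = p := Nat.sub_add_cancel hp.pos
    rw [this, hwp]
  rw [hinv, ← hj', ← pow_mul]
  congr 1
  have : p ^ (a - 1) = p ^ (a - b) * p ^ (b - 1) := by rw [← pow_add]; congr 1; omega
  rw [this]; ring

theorem dvd_choose_two {p b : ℕ} (hp : p.Prime) (hb : 2 ≤ b) (h : ¬ (p = 2 ∧ b = 2)) :
    p ∣ (p ^ (b - 1)).choose 2 := by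
  rw [Nat.choose_two_right]
  by_cases hp2 : p = 2
  · subst hp2
    have hb3 : 3 ≤ b := by
      by_contra hcon
      exact h ⟨rfl, by omega⟩
    obtain ⟨k, rfl⟩ : ∃ k, b = k + 3 := ⟨b - 3, by omega⟩
    have e : 2 ^ (k + 3 - 1) = 4 * 2 ^ k := by
      have : k + 3 - 1 = k + 2 := by omega
      rw [this, pow_add]; ring
    rw [e]
    have e2 : 4 * 2 ^ k * (4 * 2 ^ k - 1) = 2 * (2 * (2 ^ k * (4 * 2 ^ k - 1))) := by ring
    rw [e2, Nat.mul_div_cancel_left _ (by norm_num : 0 < 2)]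
    exact dvd_mul_right 2 _
  · have hpn : p ∣ p ^ (b - 1) := dvd_pow_self p (by omega)
    have heven : Even (p ^ (b - 1) * (p ^ (b - 1) - 1)) := Nat.even_mul_pred_self _
    obtain ⟨k, hk⟩ := heven
    have hk' : p ^ (b - 1) * (p ^ (b - 1) - 1) = 2 * k := by rw [hk]; ring
    rw [hk', Nat.mul_div_cancel_left _ (by norm_num : 0 < 2)]
    have h1 : p ∣ 2 * k := by rw [← hk']; exact Dvd.dvd.mul_right hpn _
    have hcop : Nat.Coprime p 2 := (Nat.coprime_primes hp Nat.prime_two).mpr hp2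
    exact hcop.dvd_of_dvd_mul_left h1

/-- a power `c^s` of an element with `c^2 = 1` is `1` or `c` -/
theorem pow_of_sq_eq_one {H : Type*} [Group H] {c : H} (hc : c ^ 2 = 1) (s : ℕ) :
    c ^ s = 1 ∨ c ^ s = c := by
  rcases Nat.even_or_odd s with hs | hs
  · left
    obtain ⟨k, rfl⟩ := hs
    rw [← two_mul, pow_mul, hc, one_pow]
  · right
    obtain ⟨k, rfl⟩ := hs
    rw [pow_add, pow_mul, hc, one_pow, one_mul, pow_one]

/-- the minimal non-commuting pair of a Dedekind group is a quaternion pair -/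
theorem of_minimal {H : Type*} [Group H] [Finite H] (hn : ∀ K : Subgroup H, K.Normal) (x y : H)
    (hxy : x * y ≠ y * x)
    (hmin : ∀ x' y' : H, x' * y' ≠ y' * x' → orderOf x + orderOf y ≤ orderOf x' + orderOf y')
    (hle : orderOf y ≤ orderOf x) :
    ∃ x y : H, orderOf x = 4 ∧ y * y = x ^ 2 ∧ y * x = x⁻¹ * y := by
  have hox : 0 < orderOf x := orderOf_pos x
  have hoy : 0 < orderOf y := orderOf_pos y
  obtain ⟨c, hc⟩ : ∃ c, c = ⁅x, y⁆ := ⟨_, rfl⟩
  have hc1 : c ≠ 1 := by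
    rw [hc, Ne, commutatorElement_eq_one_iff_mul_comm]; exact hxy
  have hcx : c ∈ Subgroup.zpowers x := by
    have h1 : y * x⁻¹ * y⁻¹ ∈ Subgroup.zpowers x :=
      (hn (Subgroup.zpowers x)).conj_mem _ (Subgroup.inv_mem _ (Subgroup.mem_zpowers x)) y
    have e : c = x * (y * x⁻¹ * y⁻¹) := by rw [hc, commutatorElement_def]; group
    rw [e]; exact Subgroup.mul_mem _ (Subgroup.mem_zpowers x) h1
  have hcy : c ∈ Subgroup.zpowers y := by
    have h1 : x * y * x⁻¹ ∈ Subgroup.zpowers y :=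
      (hn (Subgroup.zpowers y)).conj_mem _ (Subgroup.mem_zpowers y) x
    have e : c = (x * y * x⁻¹) * y⁻¹ := by rw [hc, commutatorElement_def]
    rw [e]; exact Subgroup.mul_mem _ h1 (Subgroup.inv_mem _ (Subgroup.mem_zpowers y))
  have hccx : Commute c x := by
    obtain ⟨k, hk⟩ := Subgroup.mem_zpowers_iff.mp hcx
    rw [← hk]; exact (Commute.refl x).zpow_left k
  have hccy : Commute c y := by
    obtain ⟨k, hk⟩ := Subgroup.mem_zpowers_iff.mp hcy
    rw [← hk]; exact (Commute.refl y).zpow_left k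
  have hqx : ∀ q : ℕ, q.Prime → q ∣ orderOf x → c ^ q = 1 := by
    intro q hq hqd
    have h1 : orderOf (x ^ q) < orderOf x := by
      rw [orderOf_pow_of_dvd hq.ne_zero hqd]; exact Nat.div_lt_self hox hq.one_lt
    have h2 : x ^ q * y = y * x ^ q := by
      by_contra h
      have := hmin _ _ h
      omega
    have h3 : ⁅x ^ q, y⁆ = ⁅x, y⁆ ^ q := commutator_pow' y x (by rw [← hc]; exact hccx) q
    rw [hc, ← h3, commutatorElement_eq_one_iff_mul_comm]; exact h2
  have hqy : ∀ q : ℕ, q.Prime → q ∣ orderOf y → c ^ q = 1 := by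
    intro q hq hqd
    have h1 : orderOf (y ^ q) < orderOf y := by
      rw [orderOf_pow_of_dvd hq.ne_zero hqd]; exact Nat.div_lt_self hoy hq.one_lt
    have h2 : x * y ^ q = y ^ q * x := by
      by_contra h
      have := hmin _ _ h
      omega
    have h3 : ⁅x, y ^ q⁆ = ⁅x, y⁆ ^ q := commutator_pow_right' x y (by rw [← hc]; exact hccy) q
    rw [hc, ← h3, commutatorElement_eq_one_iff_mul_comm]; exact h2
  have hx1 : orderOf x ≠ 1 := by
    intro h; rw [orderOf_eq_one_iff] at h; apply hxy; rw [h]; simp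
  have hy1 : orderOf y ≠ 1 := by
    intro h; rw [orderOf_eq_one_iff] at h; apply hxy; rw [h]; simp
  obtain ⟨p, hp, hpx⟩ := Nat.exists_prime_and_dvd hx1
  haveI : Fact p.Prime := ⟨hp⟩
  have hcp : c ^ p = 1 := hqx p hp hpx
  have hoc : orderOf c = p := orderOf_eq_prime hcp hc1
  have huniq : ∀ q : ℕ, q.Prime → c ^ q = 1 → q = p := by
    intro q hq h
    have : p ∣ q := by rw [← hoc]; exact orderOf_dvd_of_pow_eq_one h
    exact ((Nat.prime_dvd_prime_iff_eq hp hq).mp this).symm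
  obtain ⟨a, ha⟩ : ∃ a, orderOf x = p ^ a :=
    ⟨_, Nat.eq_prime_pow_of_unique_prime_dvd hox.ne'
      (fun {d} hd hdd => huniq d hd (hqx d hd hdd))⟩
  obtain ⟨b, hb⟩ : ∃ b, orderOf y = p ^ b :=
    ⟨_, Nat.eq_prime_pow_of_unique_prime_dvd hoy.ne'
      (fun {d} hd hdd => huniq d hd (hqy d hd hdd))⟩
  have ha1 : 1 ≤ a := by
    by_contra h
    have : a = 0 := by omega
    rw [this, pow_zero] at ha; exact hx1 ha
  have hb1 : 1 ≤ b := by
    by_contra h
    have : b = 0 := by omega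
    rw [this, pow_zero] at hb; exact hy1 hb
  have hba : b ≤ a := (Nat.pow_le_pow_iff_right hp.one_lt).mp (by rw [← ha, ← hb]; exact hle)
  obtain ⟨s, hs⟩ := pow_mem_zpowers_of_order_p hp hb1 hb hcy hcp hc1
  have hvx : y ^ (p ^ (b - 1)) ∈ Subgroup.zpowers x := by
    rw [← hs]; exact Subgroup.pow_mem _ hcx s
  have hvp : (y ^ (p ^ (b - 1))) ^ p = 1 := by
    rw [← hs, ← pow_mul, mul_comm, pow_mul, hcp, one_pow]
  have hb2 : 2 ≤ b := by
    by_contra h
    have hb' : b = 1 := by omega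
    apply hxy
    have hyx : y ∈ Subgroup.zpowers x := by
      have := hvx
      rw [hb'] at this
      simpa using this
    obtain ⟨k, hk⟩ := Subgroup.mem_zpowers_iff.mp hyx
    rw [← hk]; exact ((Commute.refl x).zpow_right k).eq
  -- modification lemma
  have hmod : ∀ (m n : ℕ), 0 < n → x ^ (m * n) = (y ^ n)⁻¹ → (c ^ m) ^ (n.choose 2) = 1 →
      n < orderOf y → False := by
    intro m n h0 hm hch hlt
    have hczz : Commute c (x ^ m) := hccx.pow_right m
    have hyz : ⁅y, x ^ m⁆ = (c ^ m)⁻¹ := by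
      rw [← commutatorElement_inv, commutator_pow' y x (by rw [← hc]; exact hccx) m, ← hc]
    have hcomm1 : Commute ⁅y, x ^ m⁆ (x ^ m) := by rw [hyz]; exact (hczz.pow_left m).inv_left
    have hcomm2 : Commute ⁅y, x ^ m⁆ y := by rw [hyz]; exact (hccy.pow_left m).inv_left
    have hpow := mul_pow' (x ^ m) y hcomm1 hcomm2 n
    rw [← pow_mul, hm, hyz, inv_pow, hch, inv_one, mul_one, inv_mul_cancel] at hpow
    have hord : orderOf (x ^ m * y) ≤ n :=
      Nat.le_of_dvd h0 (orderOf_dvd_of_pow_eq_one hpow)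
    have hnc : x * (x ^ m * y) ≠ (x ^ m * y) * x := by
      intro h
      apply hxy
      have hzx : x * x ^ m = x ^ m * x := ((Commute.refl x).pow_right m).eq
      have : x ^ m * (x * y) = x ^ m * (y * x) := by
        rw [← mul_assoc, ← hzx, mul_assoc, h, mul_assoc]
      exact mul_left_cancel this
    have := hmin x (x ^ m * y) hnc
    omega
  obtain ⟨m, hm⟩ := exists_pow_eq_inv hp hb1 hba ha hvx hvp
  have hp2b2 : p = 2 ∧ b = 2 := by
    by_contra hcon
    obtain ⟨w, hw⟩ := dvd_choose_two hp hb2 hcon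
    apply hmod m (p ^ (b - 1)) (pow_pos hp.pos _) hm
    · rw [hw, ← pow_mul, ← mul_assoc, mul_comm m p, mul_assoc, pow_mul, hcp, one_pow]
    · rw [hb]; exact Nat.pow_lt_pow_right hp.one_lt (by omega)
  obtain ⟨hp2, hb2'⟩ := hp2b2
  subst hp2
  subst hb2'
  have hc2 : c ^ 2 = 1 := hcp
  have hy4 : orderOf y = 4 := by rw [hb]; norm_num
  -- y² = c
  have hyc : y ^ 2 = c := by
    have hs' : c ^ s = y ^ 2 := by simpa using hs
    rcases pow_of_sq_eq_one hc2 s with h | h
    · exfalso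
      rw [h] at hs'
      have := orderOf_dvd_of_pow_eq_one hs'.symm
      rw [hy4] at this
      omega
    · rw [← hs', h]
  -- a = 2
  have hxa : ∃ s' : ℕ, c ^ s' = x ^ (2 ^ (a - 1)) :=
    pow_mem_zpowers_of_order_p hp ha1 ha hcx hcp hc1
  have hxc : x ^ (2 ^ (a - 1)) = c := by
    obtain ⟨s', hs'⟩ := hxa
    rcases pow_of_sq_eq_one hc2 s' with h | h
    · exfalso
      rw [h] at hs'
      have := orderOf_dvd_of_pow_eq_one hs'.symm
      rw [ha] at this
      have hlt : 2 ^ (a - 1) < 2 ^ a := Nat.pow_lt_pow_right (by norm_num) (by omega)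
      have := Nat.le_of_dvd (pow_pos (by norm_num) _) this
      omega
    · rw [← hs', h]
  have ha2 : a = 2 := by
    by_contra hne
    have ha3 : 3 ≤ a := by omega
    apply hmod (2 ^ (a - 2)) 2 (by norm_num)
    · rw [← pow_succ]
      have : a - 2 + 1 = a - 1 := by omega
      rw [this, hxc, hyc]
      exact (inv_eq_of_mul_eq_one_right (by rw [← sq]; exact hc2)).symm
    · have : (2 : ℕ) ^ (a - 2) = 2 * 2 ^ (a - 3) := by
        rw [← pow_succ']; congr 1; omega
      rw [this, pow_mul, hc2, one_pow, one_pow]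
    · rw [hy4]; norm_num
  subst ha2
  have hx4 : orderOf x = 4 := by rw [ha]; norm_num
  have hx2 : x ^ 2 = c := by simpa using hxc
  refine ⟨x, y, hx4, ?_, ?_⟩
  · rw [← sq, hyc, hx2]
  · have e1 : y * x⁻¹ * y⁻¹ = x := by
      have h1 : x * (y * x⁻¹ * y⁻¹) = x * x := by
        rw [← sq, hx2, hc, commutatorElement_def]; group
      exact mul_left_cancel h1
    calc y * x = (y * x⁻¹ * y⁻¹)⁻¹ * y := by group
      _ = x⁻¹ * y := by rw [e1]

/-- a nonabelian finite Dedekind group contains a quaternion pair -/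
theorem key {H : Type*} [Group H] [Finite H] (hn : ∀ K : Subgroup H, K.Normal)
    (hna : ¬ IsMulCommutative H) :
    ∃ x y : H, orderOf x = 4 ∧ y * y = x ^ 2 ∧ y * x = x⁻¹ * y := by
  classical
  have hex : ∃ n, ∃ x y : H, x * y ≠ y * x ∧ orderOf x + orderOf y = n := by
    by_contra hcon
    push Not at hcon
    apply hna
    exact ⟨⟨fun a b => by_contra fun h => hcon _ a b h rfl⟩⟩
  obtain ⟨x, y, hxy, hsum⟩ := Nat.find_spec hex
  have hmin : ∀ x' y' : H, x' * y' ≠ y' * x' →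
      orderOf x + orderOf y ≤ orderOf x' + orderOf y' := by
    intro x' y' h'
    rw [hsum]; exact Nat.find_min' hex ⟨x', y', h', rfl⟩
  rcases le_total (orderOf y) (orderOf x) with hle | hle
  · exact of_minimal hn x y hxy hmin hle
  · refine of_minimal hn y x (fun h => hxy h.symm) ?_ hle
    intro x' y' h'
    have := hmin x' y' h'
    omega

end Cfsg.Agent.Lib.Helper6_Dedekind
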