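import Mathlib

set_option autoImplicit false

/-!
# Tools for Sylow-counting arguments about simple groups of small order
-/

namespace Cfsg.Agent.Lib.Helper7_SmallSimple

open Subgroup

variable {G : Type*} [Group G] [Finite G]

/-- `|N(H) : C(H)|` divides `φ(|H|)` for a cyclic subgroup `H`. -/
theorem relIndex_dvd_totient (H : Subgroup G) [hH : IsCyclic H] :
    (centralizer (H : Set G)).relIndex (normalizer (H : Set G)) ∣
      Nat.totient (Nat.card H) := by
  have key := Subgroup.card_dvd_of_injective _
    (QuotientGroup.kerLift_injective H.normalizerMonoidHom)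
  rw [normalizerMonoidHom_ker, ← index, ← relIndex, IsCyclic.card_mulAut] at key
  exact key

omit [Finite G] in
/-- `|N(H) : C(H)|` divides `|N(H) : H|` for a commutative subgroup `H`. -/
theorem relIndex_dvd_relIndex (H : Subgroup G) [IsMulCommutative H] :
    (centralizer (H : Set G)).relIndex (normalizer (H : Set G)) ∣
      H.relIndex (normalizer (H : Set G)) :=
  relIndex_dvd_of_le_left _ H.le_centralizer

omit [Finite G] in
/-- A subgroup of prime order is cyclic. -/
theorem isCyclic_of_card_prime (H : Subgroup G) {p : ℕ} [Fact p.Prime] (h : Nat.card H = p) :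
    IsCyclic H := isCyclic_of_prime_card h

/-- Burnside's transfer theorem for simple groups: a proper nontrivial Sylow subgroup is not
central in its normalizer. -/
theorem not_normalizer_le_centralizer [IsSimpleGroup G] {p : ℕ} [Fact p.Prime] (P : Sylow p G)
    (h1 : 1 < Nat.card (P : Subgroup G)) (h2 : Nat.card (P : Subgroup G) < Nat.card G) :
    ¬ normalizer ((P : Subgroup G) : Set G) ≤ centralizer ((P : Subgroup G) : Set G) := by
  intro hP
  have hc := MonoidHom.ker_transferSylow_isComplement' P hP
  have hcard := hc.card_mul_card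
  rcases (MonoidHom.normal_ker (MonoidHom.transferSylow P hP)).eq_bot_or_eq_top with h | h
  · rw [h, Subgroup.card_bot, one_mul] at hcard
    omega
  · rw [h, Subgroup.card_top] at hcard
    have : Nat.card (P : Subgroup G) = 1 := by
      have hpos : 0 < Nat.card G := Nat.card_pos
      exact Nat.eq_of_mul_eq_mul_left hpos (by rw [hcard, mul_one])
    omega

/-- In a simple group a proper nontrivial Sylow subgroup is not normal. -/
theorem card_sylow_ne_one [IsSimpleGroup G] {p : ℕ} [Fact p.Prime] (P : Sylow p G)
    (h1 : 1 < Nat.card (P : Subgroup G)) (h2 : Nat.card (P : Subgroup G) < Nat.card G) :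
    Nat.card (Sylow p G) ≠ 1 := by
  intro h
  have hn : (normalizer ((P : Subgroup G) : Set G)).index = 1 := by
    have := Sylow.card_eq_index_normalizer P
    rw [h] at this
    exact this.symm
  have hN : (P : Subgroup G).Normal := by
    rw [← normalizer_eq_top_iff]
    exact Subgroup.index_eq_one.mp hn
  rcases hN.eq_bot_or_eq_top with h | h
  · rw [h, Subgroup.card_bot] at h1
    omega
  · rw [h, Subgroup.card_top] at h2
    omega

/-- A simple group with a proper subgroup of index `k` embeds in `S_k`. -/
theorem card_dvd_factorial_index [IsSimpleGroup G] (H : Subgroup G) (hH : H ≠ ⊤) :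
    Nat.card G ∣ (H.index).factorial := by
  have hker : (MulAction.toPermHom G (G ⧸ H)).ker = ⊥ := by
    rcases (MonoidHom.normal_ker (MulAction.toPermHom G (G ⧸ H))).eq_bot_or_eq_top with h | h
    · exact h
    · exfalso
      apply hH
      rw [eq_top_iff, ← h, ← Subgroup.normalCore_eq_ker]
      exact Subgroup.normalCore_le H
  have hinj : Function.Injective (MulAction.toPermHom G (G ⧸ H)) :=
    (MonoidHom.ker_eq_bot_iff _).mp hker
  have := Subgroup.card_dvd_of_injective _ hinj
  rwa [Nat.card_perm, ← Subgroup.index_eq_card] at this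

/-- The order of the normalizer of a Sylow subgroup. -/
theorem card_normalizer_mul {p : ℕ} [Fact p.Prime] (P : Sylow p G) :
    Nat.card (normalizer ((P : Subgroup G) : Set G)) * Nat.card (Sylow p G) = Nat.card G := by
  rw [Sylow.card_eq_index_normalizer P]
  exact Subgroup.card_mul_index _

/-- The order of a Sylow subgroup from a factorization of the group order. -/
theorem card_sylow_eq {p : ℕ} [Fact p.Prime] (P : Sylow p G) (k m : ℕ)
    (h : Nat.card G = p ^ k * m) (hm : ¬ p ∣ m) : Nat.card (P : Subgroup G) = p ^ k := by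
  have hp : p.Prime := Fact.out
  have hm0 : m ≠ 0 := by
    rintro rfl
    exact hm (dvd_zero p)
  rw [Sylow.card_eq_multiplicity, h, Nat.factorization_mul (pow_ne_zero k hp.ne_zero) hm0,
    Nat.Prime.factorization_pow hp]
  simp [Nat.factorization_eq_zero_of_not_dvd hm]

omit [Finite G] in
/-- The order of a Sylow subgroup times its index in its normalizer. -/
theorem card_mul_relIndex_normalizer (H : Subgroup G) :
    Nat.card H * H.relIndex (normalizer (H : Set G)) = Nat.card (normalizer (H : Set G)) := by
  have := Subgroup.relIndex_mul_relIndex ⊥ H (normalizer (H : Set G)) bot_le le_normalizer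
  rwa [Subgroup.relIndex_bot_left, Subgroup.relIndex_bot_left] at this

omit [Finite G] in
/-- A subgroup whose order is coprime to the index of a normal subgroup lies in it. -/
theorem le_of_coprime_index (K : Subgroup G) [K.Normal] (H : Subgroup G)
    (h : (Nat.card H).Coprime K.index) : H ≤ K := by
  intro x hx
  rw [← QuotientGroup.eq_one_iff, ← orderOf_eq_one_iff]
  have h1 : orderOf (x : G ⧸ K) ∣ Nat.card H := by
    have h2 : orderOf (x : G ⧸ K) ∣ orderOf x := orderOf_dvd_of_pow_eq_one (by
      rw [← QuotientGroup.mk_pow, pow_orderOf_eq_one]; rfl)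
    exact h2.trans (Subgroup.orderOf_dvd_natCard H hx)
  have h3 : orderOf (x : G ⧸ K) ∣ K.index := by
    rw [Subgroup.index_eq_card]; exact orderOf_dvd_natCard _
  exact Nat.eq_one_of_dvd_coprimes h h1 h3

/-- The divisors of a product of two primes. -/
theorem dvd_prime_mul_prime {p q n : ℕ} (hp : p.Prime) (hq : q.Prime) (h : n ∣ p * q) :
    n = 1 ∨ n = p ∨ n = q ∨ n = p * q := by
  obtain ⟨a, b, ha, hb, rfl⟩ := (Nat.dvd_mul).mp h
  rcases (Nat.dvd_prime hp).mp ha with rfl | rfl <;>
    rcases (Nat.dvd_prime hq).mp hb with rfl | rfl <;> simp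

end Cfsg.Agent.Lib.Helper7_SmallSimple

namespace Cfsg.Agent.Lib.Helper7_SmallSimple

open Subgroup

variable {G : Type*} [Group G] [Finite G]

/-- `n_p = |G : N(P)|` with the normalizer of the underlying subgroup. -/
theorem card_sylow_eq_index {p : ℕ} [Fact p.Prime] (P : Sylow p G) :
    Nat.card (Sylow p G) = (normalizer ((P : Subgroup G) : Set G)).index :=
  Sylow.card_eq_index_normalizer P

/-- Orbit-stabilizer for the conjugation action of a Sylow subgroup `P` on the set of Sylow
subgroups: `|P| ≤ (n_p - 1) |P ∩ Q|` for `Q ≠ P`. -/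
theorem card_le_mul_card_inf {p : ℕ} [Fact p.Prime] (P Q : Sylow p G) (hne : Q ≠ P) :
    Nat.card (P : Subgroup G) ≤ (Nat.card (Sylow p G) - 1) *
      Nat.card ((P : Subgroup G) ⊓ (Q : Subgroup G) : Subgroup G) := by
  have e := MulAction.orbitProdStabilizerEquivGroup (↥(P : Subgroup G)) Q
  have h1 : Nat.card (MulAction.orbit (↥(P : Subgroup G)) Q) *
      Nat.card (MulAction.stabilizer (↥(P : Subgroup G)) Q) = Nat.card (P : Subgroup G) := by
    rw [← Nat.card_prod]; exact Nat.card_congr e
  have h2 : Nat.card (MulAction.stabilizer (↥(P : Subgroup G)) Q) =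
      Nat.card ((P : Subgroup G) ⊓ (Q : Subgroup G) : Subgroup G) := by
    have hs : MulAction.stabilizer (↥(P : Subgroup G)) Q =
        (normalizer ((Q : Subgroup G) : Set G)).subgroupOf (P : Subgroup G) := by
      ext h
      rw [Subgroup.mem_subgroupOf, MulAction.mem_stabilizer_iff]
      exact Sylow.smul_eq_iff_mem_normalizer
    have hi : (P : Subgroup G) ⊓ normalizer ((Q : Subgroup G) : Set G) =
        (P : Subgroup G) ⊓ (Q : Subgroup G) := P.isPGroup'.inf_normalizer_sylow Q
    rw [hs, ← Subgroup.inf_subgroupOf_left, hi]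
    exact Nat.card_congr (Subgroup.subgroupOfEquivOfLe inf_le_left).toEquiv
  have h3 : Nat.card (MulAction.orbit (↥(P : Subgroup G)) Q) ≤ Nat.card (Sylow p G) - 1 := by
    have hsub : MulAction.orbit (↥(P : Subgroup G)) Q ⊆ (Set.univ \ {P} : Set (Sylow p G)) := by
      rintro _ ⟨x, rfl⟩
      refine ⟨Set.mem_univ _, ?_⟩
      intro hx
      apply hne
      have hx' : (x : G) • Q = P := hx
      have h4 : ((x : G)⁻¹) • P = P :=
        Sylow.smul_eq_iff_mem_normalizer.mpr (le_normalizer (inv_mem x.2))
      have h5 : ((x : G)⁻¹) • ((x : G) • Q) = Q := by rw [smul_smul, inv_mul_cancel, one_smul]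
      rw [hx', h4] at h5
      exact h5.symm
    have h5 := Set.ncard_le_ncard hsub (Set.toFinite _)
    rw [Set.ncard_sdiff_singleton_of_mem (Set.mem_univ P), Set.ncard_univ] at h5
    rwa [Nat.card_coe_set_eq]
  calc Nat.card (P : Subgroup G) = Nat.card (MulAction.orbit (↥(P : Subgroup G)) Q) *
        Nat.card ((P : Subgroup G) ⊓ (Q : Subgroup G) : Subgroup G) := by rw [← h2, h1]
    _ ≤ _ := Nat.mul_le_mul_right _ h3

end Cfsg.Agent.Lib.Helper7_SmallSimple
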