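import Mathlib
import Cfsg.Agent.Lib.Helper7_SmallSimple

set_option autoImplicit false

/-!
# More tools for small simple groups: parity of permutation actions, orbits of a Sylow
subgroup on the set of Sylow subgroups.
-/

namespace Cfsg.Agent.Lib.Helper7_SmallSimple2

open Subgroup

variable {G : Type*} [Group G] [Finite G]

omit [Finite G] in
/-- `|H| |K : H| = |K|` -/
theorem card_mul_relIndex {H K : Subgroup G} (h : H ≤ K) :
    Nat.card H * H.relIndex K = Nat.card K := by
  have := Subgroup.relIndex_mul_relIndex ⊥ H K bot_le h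
  rwa [Subgroup.relIndex_bot_left, Subgroup.relIndex_bot_left] at this

omit [Finite G] in
/-- In a simple group of order more than 2 every element acts as an even permutation. -/
theorem sign_toPerm_eq_one [IsSimpleGroup G] (hG : 2 < Nat.card G) {X : Type*} [Fintype X]
    [DecidableEq X] [MulAction G X] (g : G) :
    Equiv.Perm.sign (MulAction.toPerm g : Equiv.Perm X) = 1 := by
  set ψ : G →* ℤˣ := (Equiv.Perm.sign).comp (MulAction.toPermHom G X) with hψ
  rcases (MonoidHom.normal_ker ψ).eq_bot_or_eq_top with h | h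
  · exfalso
    have hinj : Function.Injective ψ := (MonoidHom.ker_eq_bot_iff ψ).mp h
    have := Nat.card_le_card_of_injective ψ hinj
    rw [Nat.card_eq_fintype_card (α := ℤˣ), Fintype.card_units_int] at this
    omega
  · have : g ∈ ψ.ker := by rw [h]; trivial
    exact this

/-- The sign of an involution in terms of its fixed points. -/
theorem sign_of_orderOf_two {α : Type*} [Fintype α] [DecidableEq α] (σ : Equiv.Perm α)
    (h : orderOf σ = 2) :
    Equiv.Perm.sign σ =
      (-1) ^ ((Fintype.card α - Fintype.card (Function.fixedPoints σ)) / 2) := by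
  obtain ⟨n, hn⟩ := Equiv.Perm.cycleType_prime_order (σ := σ) (by rw [h]; exact Nat.prime_two)
  have hσ : σ.cycleType = Multiset.replicate (Multiset.card σ.cycleType) 2 := by
    rw [hn, Multiset.card_replicate, h]
  have := Equiv.Perm.sign_of_cycleType_eq_replicate (by norm_num : 0 < 2) hσ
  rw [this, if_neg (by decide)]

omit [Finite G] in
/-- orbit-stabilizer for the action of a Sylow subgroup on the Sylow subgroups -/
theorem card_orbit_mul {p : ℕ} [Fact p.Prime] (P Q : Sylow p G) :
    (MulAction.orbit (↥(P : Subgroup G)) Q).ncard *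
      Nat.card ((P : Subgroup G) ⊓ (Q : Subgroup G) : Subgroup G) = Nat.card (P : Subgroup G) := by
  have e := MulAction.orbitProdStabilizerEquivGroup (↥(P : Subgroup G)) Q
  have h1 : Nat.card (MulAction.orbit (↥(P : Subgroup G)) Q) *
      Nat.card (MulAction.stabilizer (↥(P : Subgroup G)) Q) = Nat.card (P : Subgroup G) := by
    rw [← Nat.card_prod]; exact Nat.card_congr e
  have h2 : Nat.card (MulAction.stabilizer (↥(P : Subgroup G)) Q) =
      Nat.card ((P : Subgroup G) ⊓ (Q : Subgroup G) : Subgroup G) := by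
    have hs : MulAction.stabilizer (↥(P : Subgroup G)) Q =
        (normalizer ((Q : Subgroup G) : Set G)).subgroupOf (P : Subgroup G) := by
      ext h
      rw [Subgroup.mem_subgroupOf, MulAction.mem_stabilizer_iff]
      exact Sylow.smul_eq_iff_mem_normalizer
    have hi : (P : Subgroup G) ⊓ normalizer ((Q : Subgroup G) : Set G) =
        (P : Subgroup G) ⊓ (Q : Subgroup G) := P.isPGroup'.inf_normalizer_sylow Q
    rw [hs, ← Subgroup.inf_subgroupOf_left, hi]
    exact Nat.card_congr (Subgroup.subgroupOfEquivOfLe inf_le_left).toEquiv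
  rw [← h2, ← Nat.card_coe_set_eq, h1]

omit [Finite G] in
theorem orbit_subset {p : ℕ} (P Q : Sylow p G) (hne : Q ≠ P) :
    MulAction.orbit (↥(P : Subgroup G)) Q ⊆ (Set.univ \ {P} : Set (Sylow p G)) := by
  rintro _ ⟨x, rfl⟩
  refine ⟨Set.mem_univ _, ?_⟩
  intro hx
  apply hne
  have hx' : (x : G) • Q = P := hx
  have h4 : ((x : G)⁻¹) • P = P :=
    Sylow.smul_eq_iff_mem_normalizer.mpr (le_normalizer (inv_mem x.2))
  have h5 : ((x : G)⁻¹) • ((x : G) • Q) = Q := by rw [smul_smul, inv_mul_cancel, one_smul]
  rw [hx', h4] at h5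
  exact h5.symm

/-- If `|P| = p` and there are `p + 1` Sylow subgroups, `P` is transitive on the others. -/
theorem exists_smul_eq_of_card {p : ℕ} [Fact p.Prime] (P : Sylow p G)
    (hP : Nat.card (P : Subgroup G) = p) (hn : Nat.card (Sylow p G) = p + 1)
    (Q₁ Q : Sylow p G) (h1 : Q₁ ≠ P) (h : Q ≠ P) : ∃ x : G, x ∈ P ∧ Q = x • Q₁ := by
  have hp : p.Prime := Fact.out
  have hinf : Nat.card ((P : Subgroup G) ⊓ (Q₁ : Subgroup G) : Subgroup G) = 1 := by
    have hd : Nat.card ((P : Subgroup G) ⊓ (Q₁ : Subgroup G) : Subgroup G) ∣ p := by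
      have := Subgroup.card_dvd_of_le (inf_le_left : (P : Subgroup G) ⊓ (Q₁ : Subgroup G) ≤ P)
      rwa [hP] at this
    rcases (Nat.dvd_prime hp).mp hd with h2 | h2
    · exact h2
    · exfalso
      have h3 : (P : Subgroup G) ⊓ (Q₁ : Subgroup G) = P :=
        Subgroup.eq_of_le_of_card_ge inf_le_left (by rw [h2, hP])
      have h4 : (P : Subgroup G) ≤ Q₁ := by rw [← h3]; exact inf_le_right
      exact h1 (Sylow.ext (P.is_maximal' Q₁.isPGroup' h4))
  have horb := card_orbit_mul P Q₁
  rw [hinf, mul_one, hP] at horb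
  have hsub := orbit_subset P Q₁ h1
  have hcard : (Set.univ \ {P} : Set (Sylow p G)).ncard = p := by
    rw [Set.ncard_sdiff_singleton_of_mem (Set.mem_univ P), Set.ncard_univ, hn]
    rfl
  have heq : MulAction.orbit (↥(P : Subgroup G)) Q₁ = (Set.univ \ {P} : Set (Sylow p G)) :=
    Set.eq_of_subset_of_ncard_le hsub (by rw [hcard, horb]) (Set.toFinite _)
  have hQ : Q ∈ MulAction.orbit (↥(P : Subgroup G)) Q₁ := by
    rw [heq]; exact ⟨Set.mem_univ _, h⟩
  obtain ⟨x, hx⟩ := hQ
  exact ⟨x, x.2, hx.symm⟩

/-- An involution normalizing but not centralizing a Sylow subgroup `P` of odd prime order `p`,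
when there are `p + 1` Sylow subgroups, normalizes exactly two of them. -/
theorem ncard_fixed_eq_two {p : ℕ} [Fact p.Prime] (P : Sylow p G)
    (hP : Nat.card (P : Subgroup G) = p) (hn : Nat.card (Sylow p G) = p + 1) (hp2 : p ≠ 2)
    (t : G) (ht : orderOf t = 2) (htN : t ∈ normalizer ((P : Subgroup G) : Set G))
    (htC : t ∉ centralizer ((P : Subgroup G) : Set G)) :
    {Q : Sylow p G | t • Q = Q}.ncard = 2 := by
  have hp : p.Prime := Fact.out
  have hodd : Odd p := hp.odd_of_ne_two hp2
  have hPF : P ∈ {Q : Sylow p G | t • Q = Q} := Sylow.smul_eq_iff_mem_normalizer.mpr htN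
  -- parity of the number of fixed points
  have hZ : IsPGroup 2 (zpowers t) := by
    apply IsPGroup.of_card (n := 1)
    rw [Nat.card_zpowers, ht, pow_one]
  have hmod := hZ.card_modEq_card_fixedPoints (Sylow p G)
  have hfix : MulAction.fixedPoints (zpowers t) (Sylow p G) = {Q : Sylow p G | t • Q = Q} := by
    ext Q
    constructor
    · intro h
      exact h ⟨t, mem_zpowers t⟩
    · intro h
      rintro ⟨y, hy⟩
      obtain ⟨k, rfl⟩ := Subgroup.mem_zpowers_iff.mp hy
      have hs : t ∈ MulAction.stabilizer G Q := h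
      exact (MulAction.stabilizer G Q).zpow_mem hs k
  rw [hfix, Nat.card_coe_set_eq, hn] at hmod
  -- a second fixed point
  have hex : ∃ Q₁ : Sylow p G, t • Q₁ = Q₁ ∧ Q₁ ≠ P := by
    by_contra hcon
    have hsingle : {Q : Sylow p G | t • Q = Q} = {P} := by
      ext Q
      constructor
      · intro hQ
        by_contra hne
        exact hcon ⟨Q, hQ, hne⟩
      · rintro rfl
        exact hPF
    rw [hsingle, Set.ncard_singleton] at hmod
    unfold Nat.ModEq at hmod
    obtain ⟨k, hk⟩ := hodd
    omega
  obtain ⟨Q₁, hQ₁, hQ₁P⟩ := hex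
  have hinf : (P : Subgroup G) ⊓ (Q₁ : Subgroup G) = ⊥ := by
    have hd : Nat.card ((P : Subgroup G) ⊓ (Q₁ : Subgroup G) : Subgroup G) ∣ p := by
      have := Subgroup.card_dvd_of_le (inf_le_left : (P : Subgroup G) ⊓ (Q₁ : Subgroup G) ≤ P)
      rwa [hP] at this
    rcases (Nat.dvd_prime hp).mp hd with h2 | h2
    · exact Subgroup.card_eq_one.mp h2
    · exfalso
      have h3 : (P : Subgroup G) ⊓ (Q₁ : Subgroup G) = P :=
        Subgroup.eq_of_le_of_card_ge inf_le_left (by rw [h2, hP])
      have h4 : (P : Subgroup G) ≤ Q₁ := by rw [← h3]; exact inf_le_right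
      exact hQ₁P (Sylow.ext (P.is_maximal' Q₁.isPGroup' h4))
  have hset : {Q : Sylow p G | t • Q = Q} = {P, Q₁} := by
    ext Q
    constructor
    · intro hQ
      by_cases hQP : Q = P
      · left; exact hQP
      · right
        obtain ⟨x, hx, rfl⟩ := exists_smul_eq_of_card P hP hn Q₁ Q hQ₁P hQP
        have hQ' : t • (x • Q₁) = x • Q₁ := hQ
        -- `y = x⁻¹ (t x t⁻¹)` normalizes `Q₁`
        have hy : (x⁻¹ * (t * x * t⁻¹)) • Q₁ = Q₁ := by
          have e : (x⁻¹ * (t * x * t⁻¹)) • Q₁ = x⁻¹ • (t • (x • (t⁻¹ • Q₁))) := by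
            simp only [smul_smul, mul_assoc]
          have e2 : t⁻¹ • Q₁ = Q₁ := by
            have : t⁻¹ • (t • Q₁) = Q₁ := by rw [smul_smul, inv_mul_cancel, one_smul]
            rwa [hQ₁] at this
          rw [e, e2, hQ', smul_smul, inv_mul_cancel, one_smul]
        have hyP : x⁻¹ * (t * x * t⁻¹) ∈ (P : Subgroup G) :=
          mul_mem (inv_mem hx) ((mem_normalizer_iff.mp htN x).mp hx)
        have hyN : x⁻¹ * (t * x * t⁻¹) ∈ normalizer ((Q₁ : Subgroup G) : Set G) :=
          Sylow.smul_eq_iff_mem_normalizer.mp hy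
        have hyI : x⁻¹ * (t * x * t⁻¹) ∈ (P : Subgroup G) ⊓ (Q₁ : Subgroup G) := by
          rw [← P.isPGroup'.inf_normalizer_sylow Q₁]
          exact Subgroup.mem_inf.mpr ⟨hyP, hyN⟩
        rw [hinf, Subgroup.mem_bot] at hyI
        have hcomm : t * x = x * t := by
          have h5 : t * x * t⁻¹ = x := by
            have := congrArg (fun z => x * z) hyI
            simpa [mul_assoc] using this
          calc t * x = (t * x * t⁻¹) * t := by group
            _ = x * t := by rw [h5]
        -- `x = 1`, else `t` centralizes `P`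
        have hx1 : x = 1 := by
          by_contra hx1
          apply htC
          have hxne : (⟨x, hx⟩ : ↥(P : Subgroup G)) ≠ 1 := by
            intro h
            apply hx1
            exact congrArg Subtype.val h
          have htop := zpowers_eq_top_of_prime_card (G := ↥(P : Subgroup G)) hP hxne
          rw [Subgroup.mem_centralizer_iff]
          intro y hy
          have hy' : (⟨y, hy⟩ : ↥(P : Subgroup G)) ∈ zpowers (⟨x, hx⟩ : ↥(P : Subgroup G)) := by
            rw [htop]; trivial
          obtain ⟨k, hk⟩ := Subgroup.mem_zpowers_iff.mp hy'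
          have hk' : x ^ k = y := by
            have := congrArg Subtype.val hk
            simpa using this
          rw [← hk']
          have : Commute t (x ^ k) := (show Commute t x from hcomm).zpow_right k
          exact this.eq.symm
        rw [hx1, one_smul]
        rfl
    · rintro (rfl | rfl)
      · exact hPF
      · exact hQ₁
  rw [hset, Set.ncard_pair hQ₁P.symm]

/-- Parity argument: in a simple group, if `|P| = p ≡ 3 (mod 4)` and `n_p = p + 1`, no involution
of `N(P)` acts nontrivially on `P`. -/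
theorem mem_centralizer_of_involution [IsSimpleGroup G] {p : ℕ} [Fact p.Prime] (P : Sylow p G)
    (hP : Nat.card (P : Subgroup G) = p) (hn : Nat.card (Sylow p G) = p + 1) (hp4 : p % 4 = 3)
    (t : G) (ht : orderOf t = 2) (htN : t ∈ normalizer ((P : Subgroup G) : Set G)) :
    t ∈ centralizer ((P : Subgroup G) : Set G) := by
  classical
  by_contra htC
  have hp : p.Prime := Fact.out
  have hp2 : p ≠ 2 := by intro h; rw [h] at hp4; omega
  have hfix := ncard_fixed_eq_two P hP hn hp2 t ht htN htC
  haveI : Fintype (Sylow p G) := Fintype.ofFinite _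
  have hG : 2 < Nat.card G := by
    have h1 : Nat.card (P : Subgroup G) ≤ Nat.card G := Subgroup.card_le_card_group _
    rw [hP] at h1
    have := hp.two_le
    omega
  have hsign := sign_toPerm_eq_one hG (X := Sylow p G) t
  have hcardX : Fintype.card (Sylow p G) = p + 1 := by
    rw [← Nat.card_eq_fintype_card, hn]
  have hfp : Function.fixedPoints (MulAction.toPerm t : Equiv.Perm (Sylow p G)) =
      {Q : Sylow p G | t • Q = Q} := by
    ext Q
    rfl
  have hcardF : Fintype.card (Function.fixedPoints (MulAction.toPerm t : Equiv.Perm (Sylow p G))) =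
      2 := by
    rw [← Nat.card_eq_fintype_card, Nat.card_coe_set_eq, hfp, hfix]
  have hσ2 : (MulAction.toPerm t : Equiv.Perm (Sylow p G)) ^ 2 = 1 := by
    have h1 : (MulAction.toPermHom G (Sylow p G)) t ^ 2 = 1 := by
      rw [← map_pow]
      have : t ^ 2 = 1 := by rw [← ht]; exact pow_orderOf_eq_one t
      rw [this, map_one]
    exact h1
  have hσ1 : (MulAction.toPerm t : Equiv.Perm (Sylow p G)) ≠ 1 := by
    intro h
    rw [h] at hcardF
    have : Function.fixedPoints ((1 : Equiv.Perm (Sylow p G)) : Sylow p G → Sylow p G) =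
        Set.univ := by
      ext Q
      simp [Function.fixedPoints, Function.IsFixedPt]
    have h2 : Fintype.card (Function.fixedPoints
        ((1 : Equiv.Perm (Sylow p G)) : Sylow p G → Sylow p G)) = p + 1 := by
      rw [← Nat.card_eq_fintype_card, Nat.card_coe_set_eq, this, Set.ncard_univ, hn]
    have := hp.two_le
    omega
  have hord : orderOf (MulAction.toPerm t : Equiv.Perm (Sylow p G)) = 2 :=
    orderOf_eq_prime hσ2 hσ1
  have hs := sign_of_orderOf_two _ hord
  rw [hsign, hcardX, hcardF] at hs
  have hodd : Odd ((p + 1 - 2) / 2) := by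
    have : (p + 1 - 2) / 2 = 2 * (p / 4) + 1 := by omega
    rw [this]; exact ⟨p / 4, rfl⟩
  rw [Odd.neg_one_pow hodd] at hs
  exact absurd hs (by decide)

/-- fixed-point congruence for an `ℓ`-element normalizing `H` -/
theorem card_modEq_card_centralizer {ℓ : ℕ} [Fact ℓ.Prime] (H : Subgroup G) (x : G)
    (hx : x ∈ normalizer (H : Set G)) (k : ℕ) (hxo : orderOf x = ℓ ^ k) :
    Nat.card H ≡ Nat.card (H ⊓ centralizer ({x} : Set G) : Subgroup G) [MOD ℓ] := by
  set x' : ↥(normalizer (H : Set G)) := ⟨x, hx⟩ with hx'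
  have hX : IsPGroup ℓ (zpowers x') := by
    apply IsPGroup.of_card (n := k)
    rw [Nat.card_zpowers, ← hxo, hx', Subgroup.orderOf_mk]
  have h1 := hX.card_modEq_card_fixedPoints (↥H)
  have h2 : Nat.card (MulAction.fixedPoints (↥(zpowers x')) (↥H)) =
      Nat.card (H ⊓ centralizer ({x} : Set G) : Subgroup G) := by
    apply Nat.card_congr
    refine
      { toFun := fun y => ⟨(y.1 : G), Subgroup.mem_inf.mpr ⟨y.1.2, ?_⟩⟩
        invFun := fun z => ⟨⟨z.1, (Subgroup.mem_inf.mp z.2).1⟩, ?_⟩
        left_inv := fun y => rfl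
        right_inv := fun z => rfl }
    · have := y.2 ⟨x', mem_zpowers x'⟩
      have h3 : x * (y.1 : G) * x⁻¹ = (y.1 : G) := congrArg Subtype.val this
      rw [mem_centralizer_singleton_iff]
      calc (y.1 : G) * x = (x * (y.1 : G) * x⁻¹) * x := by rw [h3]
        _ = x * (y.1 : G) := by group
    · rintro ⟨g, hg⟩
      obtain ⟨j, rfl⟩ := Subgroup.mem_zpowers_iff.mp hg
      have hc : z.1 * x = x * z.1 := mem_centralizer_singleton_iff.mp (Subgroup.mem_inf.mp z.2).2
      apply Subtype.ext
      show ((x' ^ j : ↥(normalizer (H : Set G))) : G) * z.1 * ((x' ^ j : ↥(normalizer (H : Set G))) : G)⁻¹ = z.1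
      have : ((x' ^ j : ↥(normalizer (H : Set G))) : G) = x ^ j := by simp [hx']
      rw [this]
      have hcj : Commute (x ^ j) z.1 := (show Commute x z.1 from hc.symm).zpow_left j
      rw [hcj.eq]; group
  rw [h2] at h1
  exact h1

/-- A simple group with a proper nontrivial Sylow subgroup is not solvable. -/
theorem not_isSolvable [IsSimpleGroup G] {p : ℕ} [Fact p.Prime] (P : Sylow p G)
    (h1 : 1 < Nat.card (P : Subgroup G)) (h2 : Nat.card (P : Subgroup G) < Nat.card G) :
    ¬ Group.IsSolvable G := by
  intro hs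
  have hnt : Nontrivial G := by
    rw [← Finite.one_lt_card_iff_nontrivial]; omega
  have hlt := Group.IsSolvable.commutator_lt_top_of_nontrivial G
  have hbot : commutator G = ⊥ := by
    rcases (inferInstance : (commutator G).Normal).eq_bot_or_eq_top with h | h
    · exact h
    · exact absurd h hlt.ne
  have hN : (P : Subgroup G).Normal := by
    constructor
    intro n hn g
    have hc : g * n * g⁻¹ * n⁻¹ ∈ commutator G := by
      rw [_root_.commutator_def]
      exact Subgroup.commutator_mem_commutator (Subgroup.mem_top g) (Subgroup.mem_top n)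
    rw [hbot, Subgroup.mem_bot] at hc
    have : g * n * g⁻¹ = n := by
      calc g * n * g⁻¹ = (g * n * g⁻¹ * n⁻¹) * n := by group
        _ = n := by rw [hc, one_mul]
    rw [this]; exact hn
  rcases hN.eq_bot_or_eq_top with h | h
  · rw [h, Subgroup.card_bot] at h1
    omega
  · rw [h, Subgroup.card_top] at h2
    omega

/-- A solvable simple group has prime order. -/
theorem card_eq_of_isSolvable [IsSimpleGroup G] (hs : Group.IsSolvable G) (p : ℕ) [Fact p.Prime]
    (hp : p ∣ Nat.card G) : Nat.card G = p := by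
  have hnt : Nontrivial G := IsSimpleGroup.toNontrivial
  have hlt := Group.IsSolvable.commutator_lt_top_of_nontrivial G
  have hbot : commutator G = ⊥ := by
    rcases (inferInstance : (commutator G).Normal).eq_bot_or_eq_top with h | h
    · exact h
    · exact absurd h hlt.ne
  obtain ⟨x, hx⟩ := exists_prime_orderOf_dvd_card' (G := G) p hp
  have hN : (zpowers x).Normal := by
    constructor
    intro n hn g
    have hc : g * n * g⁻¹ * n⁻¹ ∈ commutator G := by
      rw [_root_.commutator_def]
      exact Subgroup.commutator_mem_commutator (Subgroup.mem_top g) (Subgroup.mem_top n)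
    rw [hbot, Subgroup.mem_bot] at hc
    have : g * n * g⁻¹ = n := by
      calc g * n * g⁻¹ = (g * n * g⁻¹ * n⁻¹) * n := by group
        _ = n := by rw [hc, one_mul]
    rw [this]; exact hn
  have hcard : Nat.card (zpowers x) = p := by rw [Nat.card_zpowers, hx]
  rcases hN.eq_bot_or_eq_top with h | h
  · rw [h, Subgroup.card_bot] at hcard
    have := (Fact.out : p.Prime).one_lt
    omega
  · rw [h, Subgroup.card_top] at hcard
    exact hcard

end Cfsg.Agent.Lib.Helper7_SmallSimple2
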