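import Mathlib
import Cfsg.Agent.S1003

set_option autoImplicit false

/-!
# Structure of a simple group of order 168, part (a): elements and centralizers
-/

namespace Cfsg.Agent.Lib.Helper6_G168

open Subgroup Cfsg.Agent.Lib.Helper7_SmallSimple Cfsg.Agent.Lib.Helper7_SmallSimple2

section general

variable {G : Type*} [Group G] [Finite G]

/-- Size of a conjugacy class times order of centralizer. -/
theorem card_conj_mul (x : G) :
    Nat.card {g : G // IsConj x g} * Nat.card (centralizer ({x} : Set G)) = Nat.card G := by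
  classical
  haveI : Fintype G := Fintype.ofFinite G
  have h2 := MulAction.card_orbit_mul_card_stabilizer_eq_card_group (ConjAct G) x
  rw [← Nat.card_eq_fintype_card, ← Nat.card_eq_fintype_card, ← Nat.card_eq_fintype_card] at h2
  have h3 : Nat.card (MulAction.stabilizer (ConjAct G) x)
      = Nat.card (Subgroup.centralizer ({x} : Set G)) :=
    (Subgroup.nat_card_centralizer_nat_card_stabilizer x).symm
  have h4 : Nat.card (ConjAct G) = Nat.card G := rfl
  have h1 : Nat.card (MulAction.orbit (ConjAct G) x) = Nat.card {g : G // IsConj x g} := by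
    apply Nat.card_congr
    apply Equiv.subtypeEquivRight
    intro g
    rw [ConjAct.mem_orbit_conjAct]
    exact isConj_comm
  rw [← h1, ← h3, ← h4]
  exact h2

/-- Counting by fibres. -/
theorem card_eq_mul_of_fibers {α β : Type*} [Finite α] [Finite β] (f : α → β) (c : ℕ)
    (h : ∀ b, Nat.card {a // f a = b} = c) : Nat.card α = Nat.card β * c := by
  classical
  haveI : Fintype β := Fintype.ofFinite β
  rw [Nat.card_congr (Equiv.sigmaFiberEquiv f).symm, Nat.card_sigma]
  simp [h, Nat.card_eq_fintype_card]

/-- Elements commuting with `x` commute with its powers: `centralizer {x} ≤ centralizer {x ^ k}`. -/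
theorem centralizer_le_centralizer_pow (x : G) (k : ℕ) :
    centralizer ({x} : Set G) ≤ centralizer ({x ^ k} : Set G) := by
  intro g hg
  rw [mem_centralizer_singleton_iff] at hg ⊢
  exact (Commute.pow_right (show Commute g x from hg) k)

/-- The number of elements of order `p` when the Sylow `p`-subgroups have order `p`. -/
theorem card_orderOf_eq_prime (p : ℕ) [hp : Fact p.Prime]
    (hP : ∀ P : Sylow p G, Nat.card (P : Subgroup G) = p) :
    Nat.card {g : G // orderOf g = p} = Nat.card (Sylow p G) * (p - 1) := by
  classical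
  have e : p ^ (Nat.card G).factorization p = p := by
    have P0 : Sylow p G := default
    rw [← Sylow.card_eq_multiplicity P0, hP P0]
  let F : {g : G // orderOf g = p} → Sylow p G := fun g =>
    Sylow.ofCard (zpowers (g : G)) (by rw [Nat.card_zpowers, g.2, e])
  apply card_eq_mul_of_fibers F
  intro P
  have h1 : Nat.card {a : {g : G // orderOf g = p} // F a = P}
      = Nat.card {g : G // g ∈ (P : Subgroup G) ∧ g ≠ 1} := by
    apply Nat.card_congr
    refine ⟨fun a => ⟨a.1.1, ?_, ?_⟩, fun g => ⟨⟨g.1, ?_⟩, ?_⟩, ?_, ?_⟩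
    · have h3 : ((F a.1 : Sylow p G) : Subgroup G) = (P : Subgroup G) := congrArg _ a.2
      have h2 : (a.1 : G) ∈ zpowers (a.1 : G) := mem_zpowers _
      rw [← h3]
      exact h2
    · intro h
      have := a.1.2
      rw [h, orderOf_one] at this
      exact hp.out.one_lt.ne this
    · have h2 : orderOf g.1 ∣ p := by
        have := Subgroup.orderOf_dvd_natCard (P : Subgroup G) g.2.1
        rwa [hP P] at this
      rcases (Nat.dvd_prime hp.out).mp h2 with h | h
      · exact absurd (orderOf_eq_one_iff.mp h) g.2.2
      · exact h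
    · apply Sylow.ext
      change zpowers (g.1 : G) = (P : Subgroup G)
      apply Subgroup.eq_of_le_of_card_ge
      · rw [zpowers_le]; exact g.2.1
      · rw [Nat.card_zpowers, hP P]
        have h2 : orderOf g.1 ∣ p := by
          have := Subgroup.orderOf_dvd_natCard (P : Subgroup G) g.2.1
          rwa [hP P] at this
        rcases (Nat.dvd_prime hp.out).mp h2 with h | h
        · exact absurd (orderOf_eq_one_iff.mp h) g.2.2
        · exact h.ge
    · intro a; rfl
    · intro g; rfl
  rw [h1]
  have h2 : Nat.card {g : G // g ∈ (P : Subgroup G) ∧ g ≠ 1}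
      = (((P : Subgroup G) : Set G) \ {1}).ncard := by
    rw [← Nat.card_coe_set_eq]
    apply Nat.card_congr
    apply Equiv.subtypeEquivRight
    intro g
    simp only [Set.mem_diff, SetLike.mem_coe, Set.mem_singleton_iff]
  rw [h2, Set.ncard_sdiff_singleton_of_mem (one_mem _)]
  have : ((P : Subgroup G) : Set G).ncard = p := by
    rw [← Nat.card_coe_set_eq]; exact hP P
  rw [this]

/-- `centralizer (zpowers x) = centralizer {x}`. -/
theorem centralizer_zpowers_eq (x : G) :
    centralizer ((zpowers x : Subgroup G) : Set G) = centralizer ({x} : Set G) := by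
  ext g
  rw [mem_centralizer_singleton_iff, mem_centralizer_iff]
  constructor
  · intro h
    exact (h x (mem_zpowers x)).symm
  · intro h y hy
    obtain ⟨k, rfl⟩ := mem_zpowers_iff.mp hy
    exact ((Commute.zpow_right (show Commute g x from h) k)).symm

/-- Generic: Sylow `P` of prime order `p` whose normalizer has order `p * r`, `r` prime, in a
simple group: non-identity elements of `P` have centralizer of order `p`. -/
theorem card_centralizer_of_prime [IsSimpleGroup G] (p r : ℕ) [hp : Fact p.Prime] (hr : r.Prime)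
    (P : Sylow p G) (hP : Nat.card (P : Subgroup G) = p) (hG : p < Nat.card G)
    (hN : Nat.card (normalizer ((P : Subgroup G) : Set G)) = p * r)
    (x : G) (hx : x ∈ (P : Subgroup G)) (hx1 : x ≠ 1) :
    Nat.card (centralizer ({x} : Set G)) = p := by
  have hox : orderOf x = p := by
    have h2 : orderOf x ∣ p := by
      have := Subgroup.orderOf_dvd_natCard (P : Subgroup G) hx
      rwa [hP] at this
    rcases (Nat.dvd_prime hp.out).mp h2 with h | h
    · exact absurd (orderOf_eq_one_iff.mp h) hx1
    · exact h
  have hzP : zpowers x = (P : Subgroup G) := by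
    apply Subgroup.eq_of_le_of_card_ge
    · rw [zpowers_le]; exact hx
    · rw [Nat.card_zpowers, hP, hox]
  have hC : centralizer ({x} : Set G) = centralizer ((P : Subgroup G) : Set G) := by
    rw [← hzP, centralizer_zpowers_eq]
  rw [hC]
  set C := centralizer ((P : Subgroup G) : Set G) with hCdef
  set N := normalizer ((P : Subgroup G) : Set G) with hNdef
  have hCN : C ≤ N := centralizer_le_normalizer _
  have hPC : (P : Subgroup G) ≤ C := by
    rw [← hzP, hCdef, ← hzP, centralizer_zpowers_eq]
    rw [zpowers_le, mem_centralizer_singleton_iff]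
  have h1 : Nat.card C ∣ p * r := by
    rw [← hN]; exact Subgroup.card_dvd_of_le hCN
  have h2 : p ∣ Nat.card C := by
    rw [← hP]; exact Subgroup.card_dvd_of_le hPC
  obtain ⟨d, hd⟩ := h2
  rw [hd] at h1
  have hd' : d ∣ r := Nat.dvd_of_mul_dvd_mul_left hp.out.pos h1
  rcases (Nat.dvd_prime hr).mp hd' with h | h
  · rw [hd, h, mul_one]
  · exfalso
    have hcard : Nat.card C = Nat.card N := by rw [hd, h, hN]
    have hCN' : C = N := Subgroup.eq_of_le_of_card_ge hCN hcard.ge
    apply not_normalizer_le_centralizer P (by rw [hP]; exact hp.out.one_lt) (by rw [hP]; exact hG)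
    rw [← hNdef, ← hCdef, hCN']

end general

section G168

variable {G : Type*} [Group G] [Finite G] [IsSimpleGroup G]

instance fact7 : Fact (Nat.Prime 7) := ⟨by norm_num⟩

theorem card_sylow7 (h : Nat.card G = 168) (P : Sylow 7 G) : Nat.card (P : Subgroup G) = 7 := by
  have := card_sylow_eq P 1 24 (by rw [h]; norm_num) (by norm_num)
  simpa using this

theorem card_sylow3 (h : Nat.card G = 168) (P : Sylow 3 G) : Nat.card (P : Subgroup G) = 3 := by
  have := card_sylow_eq P 1 56 (by rw [h]; norm_num) (by norm_num)
  simpa using this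

theorem card_sylow2 (h : Nat.card G = 168) (P : Sylow 2 G) : Nat.card (P : Subgroup G) = 8 := by
  have := card_sylow_eq P 3 21 (by rw [h]; norm_num) (by norm_num)
  simpa using this

theorem card_normalizer7 (h : Nat.card G = 168) (P : Sylow 7 G) :
    Nat.card (normalizer ((P : Subgroup G) : Set G)) = 21 := by
  have h1 := card_normalizer_mul P
  rw [(Cfsg.Agent.S1003.result h).2.2, h] at h1
  omega

theorem card_normalizer3 (h : Nat.card G = 168) (P : Sylow 3 G) :
    Nat.card (normalizer ((P : Subgroup G) : Set G)) = 6 := by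
  have h1 := card_normalizer_mul P
  rw [(Cfsg.Agent.S1003.result h).2.1, h] at h1
  omega

theorem card_normalizer2 (h : Nat.card G = 168) (P : Sylow 2 G) :
    Nat.card (normalizer ((P : Subgroup G) : Set G)) = 8 := by
  have h1 := card_normalizer_mul P
  rw [(Cfsg.Agent.S1003.result h).1, h] at h1
  omega

/-- Elements of order 7 are self-centralizing. -/
theorem cent7 (h : Nat.card G = 168) (x : G) (hx : orderOf x = 7) :
    Nat.card (centralizer ({x} : Set G)) = 7 := by
  have e : 7 ^ (Nat.card G).factorization 7 = 7 := by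
    have P0 : Sylow 7 G := default
    rw [← Sylow.card_eq_multiplicity P0, card_sylow7 h P0]
  let P : Sylow 7 G := Sylow.ofCard (zpowers x) (by rw [Nat.card_zpowers, hx, e])
  have hx1 : x ≠ 1 := by
    intro h1; rw [h1, orderOf_one] at hx; omega
  exact card_centralizer_of_prime 7 3 Nat.prime_three P (card_sylow7 h P) (by rw [h]; norm_num)
    (by rw [card_normalizer7 h P]) x (mem_zpowers x) hx1

/-- Elements of order 3 are self-centralizing. -/
theorem cent3 (h : Nat.card G = 168) (x : G) (hx : orderOf x = 3) :
    Nat.card (centralizer ({x} : Set G)) = 3 := by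
  have e : 3 ^ (Nat.card G).factorization 3 = 3 := by
    have P0 : Sylow 3 G := default
    rw [← Sylow.card_eq_multiplicity P0, card_sylow3 h P0]
  let P : Sylow 3 G := Sylow.ofCard (zpowers x) (by rw [Nat.card_zpowers, hx, e])
  have hx1 : x ≠ 1 := by
    intro h1; rw [h1, orderOf_one] at hx; omega
  exact card_centralizer_of_prime 3 2 Nat.prime_two P (card_sylow3 h P) (by rw [h]; norm_num)
    (by rw [card_normalizer3 h P]) x (mem_zpowers x) hx1

/-- If `p ∣ orderOf g` and elements of order `p` have centralizer of order `p`, then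
`orderOf g = p`. -/
theorem orderOf_eq_of_dvd (p : ℕ) (hp : p.Prime)
    (hc : ∀ x : G, orderOf x = p → Nat.card (centralizer ({x} : Set G)) = p)
    (g : G) (hg : p ∣ orderOf g) : orderOf g = p := by
  obtain ⟨m, hm⟩ := hg
  have ho : 0 < orderOf g := orderOf_pos g
  have hm0 : 0 < m := by
    rcases Nat.eq_zero_or_pos m with h0 | h0
    · rw [h0, mul_zero] at hm; omega
    · exact h0
  have hy : orderOf (g ^ m) = p := by
    rw [orderOf_pow' g hm0.ne', hm, Nat.gcd_eq_right (dvd_mul_left m p)]
    exact Nat.mul_div_cancel _ hm0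
  have hgc : g ∈ centralizer ({g ^ m} : Set G) := by
    rw [mem_centralizer_singleton_iff]
    exact (Commute.pow_right (Commute.refl g) m)
  have h1 : orderOf g ∣ p := by
    have := Subgroup.orderOf_dvd_natCard _ hgc
    rwa [hc _ hy] at this
  rcases (Nat.dvd_prime hp).mp h1 with h2 | h2
  · rw [h2] at hm
    have : p = 1 := Nat.eq_one_of_mul_eq_one_right hm.symm
    exact absurd this hp.one_lt.ne'
  · exact h2

/-- Every element has order 1, 3, 7 or a divisor of 8. -/
theorem order_cases (h : Nat.card G = 168) (g : G) :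
    orderOf g = 3 ∨ orderOf g = 7 ∨ orderOf g ∣ 8 := by
  by_cases h7 : 7 ∣ orderOf g
  · right; left
    exact orderOf_eq_of_dvd 7 (by norm_num) (cent7 h) g h7
  by_cases h3 : 3 ∣ orderOf g
  · left
    exact orderOf_eq_of_dvd 3 Nat.prime_three (cent3 h) g h3
  right; right
  have hd : orderOf g ∣ 8 * 21 := by
    have := orderOf_dvd_natCard g
    rwa [h] at this
  apply Nat.Coprime.dvd_of_dvd_mul_right _ hd
  apply Nat.Coprime.symm
  have : Nat.Coprime 3 (orderOf g) := (Nat.Prime.coprime_iff_not_dvd Nat.prime_three).mpr h3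
  have h7' : Nat.Coprime 7 (orderOf g) := (Nat.Prime.coprime_iff_not_dvd (by norm_num)).mpr h7
  exact Nat.Coprime.mul_left this h7'

/-- The centralizer of a nontrivial 2-element is a 2-group. -/
theorem two_cent (h : Nat.card G = 168) (u : G) (hu1 : u ≠ 1) (hu : orderOf u ∣ 8) :
    Nat.card (centralizer ({u} : Set G)) ∣ 8 := by
  set C := centralizer ({u} : Set G) with hC
  have hd : Nat.card C ∣ 8 * 21 := by
    have := Subgroup.card_subgroup_dvd_card C
    rwa [h] at this
  have key : ∀ p : ℕ, p.Prime → (∀ x : G, orderOf x = p → Nat.card (centralizer ({x} : Set G)) = p) →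
      Nat.Coprime p 8 → ¬ p ∣ Nat.card C := by
    intro p hp hc hcop hdvd
    haveI : Fact p.Prime := ⟨hp⟩
    obtain ⟨y, hy⟩ := exists_prime_orderOf_dvd_card' (G := C) p hdvd
    have hy' : orderOf (y : G) = p := by rw [Subgroup.orderOf_coe]; exact hy
    have huy : u ∈ centralizer ({(y : G)} : Set G) := by
      rw [mem_centralizer_singleton_iff]
      have hy2 : (y : G) ∈ centralizer ({u} : Set G) := y.2
      rw [mem_centralizer_singleton_iff] at hy2
      exact hy2.symm
    have h1 : orderOf u ∣ p := by
      have := Subgroup.orderOf_dvd_natCard _ huy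
      rwa [hc _ hy'] at this
    have h2 : orderOf u ∣ Nat.gcd p 8 := Nat.dvd_gcd h1 hu
    rw [hcop] at h2
    exact hu1 (orderOf_eq_one_iff.mp (Nat.dvd_one.mp h2))
  have h7 := key 7 (by norm_num) (cent7 h) (by norm_num)
  have h3 := key 3 Nat.prime_three (cent3 h) (by norm_num)
  apply Nat.Coprime.dvd_of_dvd_mul_right _ hd
  apply Nat.Coprime.symm
  have a3 : Nat.Coprime 3 (Nat.card C) := (Nat.Prime.coprime_iff_not_dvd Nat.prime_three).mpr h3
  have a7 : Nat.Coprime 7 (Nat.card C) := (Nat.Prime.coprime_iff_not_dvd (by norm_num)).mpr h7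
  exact Nat.Coprime.mul_left a3 a7

omit [Finite G] [IsSimpleGroup G] in
theorem orderOf_conj_eq (c a : G) : orderOf (c * a * c⁻¹) = orderOf a := by
  have := MulEquiv.orderOf_eq (MulAut.conj c) a
  rwa [MulAut.conj_apply] at this

omit [Finite G] [IsSimpleGroup G] in
theorem IsConj.orderOf_eq' {a b : G} (hab : IsConj a b) : orderOf a = orderOf b := by
  obtain ⟨c, hc⟩ := isConj_iff.mp hab
  rw [← hc, orderOf_conj_eq]

/-- `N_G(T) = T` for a Sylow 2-subgroup. -/
theorem normalizer_sylow2 (h : Nat.card G = 168) (T : Sylow 2 G) :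
    normalizer ((T : Subgroup G) : Set G) = T := by
  symm
  apply Subgroup.eq_of_le_of_card_ge le_normalizer
  rw [card_normalizer2 h T, card_sylow2 h T]

/-- Sylow 2-subgroups are not commutative. -/
theorem sylow2_not_comm (h : Nat.card G = 168) (T : Sylow 2 G) :
    ¬ ∀ a ∈ (T : Subgroup G), ∀ b ∈ (T : Subgroup G), a * b = b * a := by
  intro hcomm
  apply not_normalizer_le_centralizer T (by rw [card_sylow2 h T]; norm_num)
    (by rw [card_sylow2 h T, h]; norm_num)
  rw [normalizer_sylow2 h T]
  intro a ha
  rw [mem_centralizer_iff]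
  intro b hb
  exact hcomm b hb a ha

/-- A non-identity element central in a Sylow 2-subgroup `T` has centralizer `T`. -/
theorem centralizer_central (h : Nat.card G = 168) (T : Sylow 2 G) (z : G)
    (hz : z ∈ (T : Subgroup G)) (hz1 : z ≠ 1) (hc : ∀ t ∈ (T : Subgroup G), t * z = z * t) :
    centralizer ({z} : Set G) = T := by
  symm
  apply Subgroup.eq_of_le_of_card_ge
  · intro t ht
    rw [mem_centralizer_singleton_iff]
    exact hc t ht
  · rw [card_sylow2 h T]
    have hoz : orderOf z ∣ 8 := by
      rw [← card_sylow2 h T]; exact Subgroup.orderOf_dvd_natCard _ hz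
    exact Nat.le_of_dvd (by norm_num) (two_cent h z hz1 hoz)

/-- No element of order 8. -/
theorem no_order8 (h : Nat.card G = 168) (g : G) : orderOf g ≠ 8 := by
  intro hg
  have e : 2 ^ (Nat.card G).factorization 2 = 8 := by
    have P0 : Sylow 2 G := default
    rw [← Sylow.card_eq_multiplicity P0, card_sylow2 h P0]
  let T : Sylow 2 G := Sylow.ofCard (zpowers g) (by rw [Nat.card_zpowers, hg, e])
  apply sylow2_not_comm h T
  intro a ha b hb
  obtain ⟨i, rfl⟩ := mem_zpowers_iff.mp ha
  obtain ⟨j, rfl⟩ := mem_zpowers_iff.mp hb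
  rw [← zpow_add, ← zpow_add, add_comm]

/-- The possible element orders. -/
theorem orders (h : Nat.card G = 168) (g : G) :
    orderOf g = 1 ∨ orderOf g = 2 ∨ orderOf g = 3 ∨ orderOf g = 4 ∨ orderOf g = 7 := by
  rcases order_cases h g with h3 | h7 | h8
  · right; right; left; exact h3
  · right; right; right; right; exact h7
  · obtain ⟨k, hk, hk2⟩ := (Nat.dvd_prime_pow Nat.prime_two (m := 3)).mp h8
    have hk3 : k = 0 ∨ k = 1 ∨ k = 2 ∨ k = 3 := by omega
    rcases hk3 with rfl | rfl | rfl | rfl
    · left; simpa using hk2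
    · right; left; simpa using hk2
    · right; right; right; left; simpa using hk2
    · exfalso; exact no_order8 h g (by simpa using hk2)

/-- A Sylow 2-subgroup contains an element of order 4. -/
theorem exists_order4 (h : Nat.card G = 168) (T : Sylow 2 G) :
    ∃ u ∈ (T : Subgroup G), orderOf u = 4 := by
  by_contra hcon
  push Not at hcon
  apply sylow2_not_comm h T
  have hsq : ∀ a ∈ (T : Subgroup G), a * a = 1 := by
    intro a ha
    have hoa : orderOf a ∣ 8 := by
      rw [← card_sylow2 h T]; exact Subgroup.orderOf_dvd_natCard _ ha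
    rcases orders h a with h1 | h1 | h1 | h1 | h1
    · rw [orderOf_eq_one_iff.mp h1, one_mul]
    · rw [← pow_two, ← h1, pow_orderOf_eq_one]
    · rw [h1] at hoa; omega
    · exact absurd h1 (hcon a ha)
    · rw [h1] at hoa; omega
  intro a ha b hb
  have h1 := hsq (a * b) (mul_mem ha hb)
  have h2 := hsq a ha
  have h3 := hsq b hb
  calc a * b = a * (a * b * (a * b)) * b := by rw [h1, mul_one]
    _ = (a * a) * (b * a) * (b * b) := by group
    _ = b * a := by rw [h2, h3, one_mul, mul_one]

/-- The square of an element of order 4 of a Sylow 2-subgroup `T` is central in `T`. -/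
theorem sq_central (h : Nat.card G = 168) (T : Sylow 2 G) (u : G) (hu : u ∈ (T : Subgroup G))
    (ho : orderOf u = 4) : ∀ t ∈ (T : Subgroup G), t * u ^ 2 = u ^ 2 * t := by
  intro t ht
  set H := zpowers u with hH
  have hHT : H ≤ (T : Subgroup G) := by rw [hH, zpowers_le]; exact hu
  have hidx : (H.subgroupOf (T : Subgroup G)).index = 2 := by
    change H.relIndex (T : Subgroup G) = 2
    have h5 := card_mul_relIndex hHT
    have h6 : Nat.card H = 4 := by rw [hH, Nat.card_zpowers, ho]
    rw [card_sylow2 h T, h6] at h5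
    omega
  have hn : (H.subgroupOf (T : Subgroup G)).Normal := normal_of_index_eq_two hidx
  have hmem : t * u * t⁻¹ ∈ H := by
    have := hn.conj_mem ⟨u, hu⟩ (by rw [mem_subgroupOf]; exact mem_zpowers u) ⟨t, ht⟩
    rw [mem_subgroupOf] at this
    exact this
  obtain ⟨k, hk⟩ := mem_zpowers_iff.mp hmem
  have hk' : u ^ (k % 4) = t * u * t⁻¹ := by
    have := zpow_mod_orderOf u k
    rw [ho] at this
    rw [← hk]; exact_mod_cast this
  have hk0 : 0 ≤ k % 4 := Int.emod_nonneg _ (by norm_num)
  have hk4 : k % 4 < 4 := Int.emod_lt_of_pos _ (by norm_num)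
  have hoy : orderOf (t * u * t⁻¹) = 4 := by rw [orderOf_conj_eq, ho]
  have hu4 : u ^ 4 = 1 := by rw [← ho, pow_orderOf_eq_one]
  have hsq : (t * u * t⁻¹) ^ 2 = u ^ 2 := by
    obtain ⟨n, hn⟩ : ∃ n : ℕ, k % 4 = n := ⟨(k % 4).toNat, (Int.toNat_of_nonneg hk0).symm⟩
    rw [hn] at hk' hk4
    rw [zpow_natCast] at hk'
    have hn4 : n < 4 := by exact_mod_cast hk4
    interval_cases n
    · exfalso
      rw [pow_zero] at hk'
      rw [← hk', orderOf_one] at hoy; omega
    · rw [← hk', pow_one]
    · exfalso
      have : orderOf (u ^ 2) = 2 := by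
        rw [orderOf_pow' u (by norm_num), ho]; rfl
      rw [← hk', this] at hoy; omega
    · rw [← hk', ← pow_mul]
      have : u ^ (3 * 2) = u ^ 4 * u ^ 2 := by rw [← pow_add]
      rw [this, hu4, one_mul]
  rw [conj_pow] at hsq
  calc t * u ^ 2 = t * u ^ 2 * t⁻¹ * t := by group
    _ = u ^ 2 * t := by rw [hsq]

/-- The centre of a Sylow 2-subgroup has order 2. -/
theorem card_center_sylow2 (h : Nat.card G = 168) (T : Sylow 2 G) :
    Nat.card (center (T : Subgroup G)) = 2 := by
  set Z := center (T : Subgroup G) with hZ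
  have hT8 := card_sylow2 h T
  have hdvd : Nat.card Z ∣ 2 ^ 3 := by
    have := Subgroup.card_subgroup_dvd_card Z
    rwa [hT8] at this
  haveI : Nontrivial (T : Subgroup G) := by
    apply (Finite.one_lt_card_iff_nontrivial).mp
    rw [hT8]; norm_num
  haveI := T.isPGroup'.center_nontrivial
  have h1 : 1 < Nat.card Z := Finite.one_lt_card
  obtain ⟨k, hk, hk2⟩ := (Nat.dvd_prime_pow Nat.prime_two (m := 3)).mp hdvd
  have hk3 : k = 0 ∨ k = 1 ∨ k = 2 ∨ k = 3 := by omega
  have hcomm_of : Z.index ≤ 2 → False := by
    intro hidx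
    have hcyc : IsCyclic ((T : Subgroup G) ⧸ Z) := by
      have hc : Nat.card ((T : Subgroup G) ⧸ Z) = Z.index := (Subgroup.index_eq_card Z).symm
      have hpos : 0 < Z.index := Nat.pos_of_ne_zero (Subgroup.index_ne_zero_of_finite)
      have : Z.index = 1 ∨ Z.index = 2 := by omega
      rcases this with h1 | h2
      · haveI : Subsingleton ((T : Subgroup G) ⧸ Z) := by
          apply (Finite.card_le_one_iff_subsingleton).mp
          rw [hc, h1]
        exact isCyclic_of_subsingleton
      · haveI : Fact (Nat.Prime 2) := ⟨Nat.prime_two⟩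
        exact isCyclic_of_prime_card (p := 2) (by rw [hc, h2])
    have hcm := commutative_of_cyclic_center_quotient (QuotientGroup.mk' Z)
      (by rw [QuotientGroup.ker_mk'])
    apply sylow2_not_comm h T
    intro a ha b hb
    have := hcm ⟨a, ha⟩ ⟨b, hb⟩
    exact congrArg Subtype.val this
  have hci := Subgroup.card_mul_index Z
  rw [hT8] at hci
  rcases hk3 with rfl | rfl | rfl | rfl
  · rw [hk2] at h1; omega
  · simpa using hk2
  · exfalso
    apply hcomm_of
    rw [hk2] at hci
    have : Z.index = 2 := by omega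
    omega
  · exfalso
    apply hcomm_of
    rw [hk2] at hci
    have : Z.index = 1 := by omega
    omega

omit [IsSimpleGroup G] in
/-- If the class of `x` is at least as large as the set of elements of the same order, then all
elements of that order are conjugate to `x`. -/
theorem conj_of_card (x : G) (d n : ℕ) (hx : orderOf x = d)
    (hcls : Nat.card {g : G // IsConj x g} = n)
    (hA : Nat.card {g : G // orderOf g = d} ≤ n) : ∀ y, orderOf y = d → IsConj x y := by
  intro y hy
  let f : {g : G // IsConj x g} → {g : G // orderOf g = d} :=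
    fun g => ⟨g.1, by rw [← IsConj.orderOf_eq' g.2, hx]⟩
  have hf : Function.Injective f := by
    intro a b hab
    apply Subtype.ext
    exact congrArg (fun t : {g : G // orderOf g = d} => t.1) hab
  have hb := hf.bijective_of_nat_card_le (by rw [hcls]; exact hA)
  obtain ⟨g, hg⟩ := hb.2 ⟨y, hy⟩
  have : g.1 = y := congrArg Subtype.val hg
  rw [← this]; exact g.2

omit [IsSimpleGroup G] in
/-- The class of `x` consists of elements of the same order: cardinality bound. -/
theorem card_conj_le (x : G) (d : ℕ) (hx : orderOf x = d) :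
    Nat.card {g : G // IsConj x g} ≤ Nat.card {g : G // orderOf g = d} := by
  let f : {g : G // IsConj x g} → {g : G // orderOf g = d} :=
    fun g => ⟨g.1, by rw [← IsConj.orderOf_eq' g.2, hx]⟩
  have hf : Function.Injective f := by
    intro a b hab
    apply Subtype.ext
    exact congrArg (fun t : {g : G // orderOf g = d} => t.1) hab
  exact Nat.card_le_card_of_injective f hf

theorem card_order3 (h : Nat.card G = 168) : Nat.card {g : G // orderOf g = 3} = 56 := by
  rw [card_orderOf_eq_prime 3 (card_sylow3 h), (Cfsg.Agent.S1003.result h).2.1]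

theorem card_order7 (h : Nat.card G = 168) : Nat.card {g : G // orderOf g = 7} = 48 := by
  rw [card_orderOf_eq_prime 7 (card_sylow7 h), (Cfsg.Agent.S1003.result h).2.2]

theorem card_two_add_four (h : Nat.card G = 168) :
    Nat.card {g : G // orderOf g = 2} + Nat.card {g : G // orderOf g = 4} = 63 := by
  classical
  haveI : Fintype G := Fintype.ofFinite G
  have hmaps : Set.MapsTo (orderOf : G → ℕ) ↑(Finset.univ : Finset G)
      ↑({1, 2, 3, 4, 7} : Finset ℕ) := by
    intro g _
    simp only [Finset.coe_insert, Finset.coe_singleton, Set.mem_insert_iff,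
      Set.mem_singleton_iff]
    exact orders h g
  have hsum := Finset.card_eq_sum_card_fiberwise hmaps
  rw [Finset.card_univ, ← Nat.card_eq_fintype_card, h] at hsum
  have hconv : ∀ d : ℕ, (Finset.univ.filter (fun a : G => orderOf a = d)).card
      = Nat.card {g : G // orderOf g = d} := by
    intro d
    rw [Nat.card_eq_fintype_card, Fintype.card_subtype]
  simp only [hconv] at hsum
  have h1 : Nat.card {g : G // orderOf g = 1} = 1 := by
    rw [Nat.card_congr (Equiv.subtypeEquivRight (fun g : G => orderOf_eq_one_iff))]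
    simp
  have h3 := card_order3 h
  have h7 := card_order7 h
  rw [Finset.sum_insert (by decide), Finset.sum_insert (by decide), Finset.sum_insert (by decide),
    Finset.sum_insert (by decide), Finset.sum_singleton] at hsum
  omega

omit [Finite G] [IsSimpleGroup G] in
/-- Every element of order dividing 8 lies in a Sylow 2-subgroup. -/
theorem exists_sylow2_mem (u : G) (hu : orderOf u ∣ 8) :
    ∃ T : Sylow 2 G, u ∈ (T : Subgroup G) := by
  obtain ⟨k, -, hk⟩ := (Nat.dvd_prime_pow Nat.prime_two (m := 3)).mp hu
  have hp : IsPGroup 2 (zpowers u) := IsPGroup.of_card (n := k) (by rw [Nat.card_zpowers, hk])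
  obtain ⟨T, hT⟩ := hp.exists_le_sylow
  exact ⟨T, hT (mem_zpowers u)⟩

/-- Elements of order 4 have centralizer of order 4. -/
theorem cent4 (h : Nat.card G = 168) (u : G) (ho : orderOf u = 4) :
    Nat.card (centralizer ({u} : Set G)) = 4 := by
  obtain ⟨T, huT⟩ := exists_sylow2_mem u (by rw [ho]; norm_num)
  have hz1 : u ^ 2 ≠ 1 := by
    intro h2
    have := orderOf_dvd_of_pow_eq_one h2
    rw [ho] at this; omega
  have hcz := centralizer_central h T (u ^ 2) (pow_mem huT 2) hz1 (sq_central h T u huT ho)
  have hle : centralizer ({u} : Set G) ≤ T := by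
    rw [← hcz]; exact centralizer_le_centralizer_pow u 2
  have h4 : 4 ∣ Nat.card (centralizer ({u} : Set G)) := by
    have h5 : zpowers u ≤ centralizer ({u} : Set G) := by
      rw [zpowers_le, mem_centralizer_singleton_iff]
    have := Subgroup.card_dvd_of_le h5
    rwa [Nat.card_zpowers, ho] at this
  have h8 : Nat.card (centralizer ({u} : Set G)) ∣ 8 := by
    rw [← card_sylow2 h T]; exact Subgroup.card_dvd_of_le hle
  have hne : Nat.card (centralizer ({u} : Set G)) ≠ 8 := by
    intro h8'
    have heq : centralizer ({u} : Set G) = T :=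
      Subgroup.eq_of_le_of_card_ge hle (by rw [h8', card_sylow2 h T])
    have hcen : (⟨u, huT⟩ : (T : Subgroup G)) ∈ center (T : Subgroup G) := by
      rw [Subgroup.mem_center_iff]
      intro g
      have hg : (g : G) ∈ centralizer ({u} : Set G) := by rw [heq]; exact g.2
      rw [mem_centralizer_singleton_iff] at hg
      exact Subtype.ext hg
    have h1 : zpowers (⟨u, huT⟩ : (T : Subgroup G)) ≤ center (T : Subgroup G) := by
      rw [zpowers_le]; exact hcen
    have h2 := Subgroup.card_le_of_le h1
    rw [Nat.card_zpowers, card_center_sylow2 h T] at h2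
    have : orderOf (⟨u, huT⟩ : (T : Subgroup G)) = 4 := by
      rw [← Subgroup.orderOf_coe]; exact ho
    omega
  obtain ⟨k, hk⟩ := h4
  have hle8 := Nat.le_of_dvd (by norm_num) h8
  have hpos : 0 < Nat.card (centralizer ({u} : Set G)) := Nat.card_pos
  omega

theorem card_conj4 (h : Nat.card G = 168) (u : G) (ho : orderOf u = 4) :
    Nat.card {g : G // IsConj u g} = 42 := by
  have := card_conj_mul u
  rw [cent4 h u ho, h] at this
  omega

/-- A central involution of a Sylow 2-subgroup. -/
theorem exists_central_inv (h : Nat.card G = 168) (T : Sylow 2 G) :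
    ∃ z ∈ (T : Subgroup G), orderOf z = 2 ∧ ∀ t ∈ (T : Subgroup G), t * z = z * t := by
  have hc := card_center_sylow2 h T
  haveI : Nontrivial (center (T : Subgroup G)) := by
    apply (Finite.one_lt_card_iff_nontrivial).mp
    rw [hc]; norm_num
  obtain ⟨z, hz⟩ := exists_ne (1 : center (T : Subgroup G))
  refine ⟨((z : (T : Subgroup G)) : G), (z : (T : Subgroup G)).2, ?_, ?_⟩
  · have h1 : orderOf z ∣ 2 := by
      have := orderOf_dvd_natCard z
      rwa [hc] at this
    have h2 : orderOf z ≠ 1 := by
      intro h3; exact hz (orderOf_eq_one_iff.mp h3)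
    have h3 : orderOf z = 2 := by
      rcases (Nat.dvd_prime Nat.prime_two).mp h1 with h4 | h4
      · exact absurd h4 h2
      · exact h4
    rw [Subgroup.orderOf_coe, Subgroup.orderOf_coe]; exact h3
  · intro t ht
    have := (Subgroup.mem_center_iff.mp z.2) ⟨t, ht⟩
    exact congrArg Subtype.val this

theorem card_conj_central (h : Nat.card G = 168) (T : Sylow 2 G) (z : G)
    (hz : z ∈ (T : Subgroup G)) (hz1 : z ≠ 1) (hc : ∀ t ∈ (T : Subgroup G), t * z = z * t) :
    Nat.card {g : G // IsConj z g} = 21 := by
  have := card_conj_mul z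
  rw [centralizer_central h T z hz hz1 hc, card_sylow2 h T, h] at this
  omega

theorem card_order4 (h : Nat.card G = 168) : Nat.card {g : G // orderOf g = 4} = 42 := by
  have T : Sylow 2 G := default
  obtain ⟨u, -, hu⟩ := exists_order4 h T
  obtain ⟨z, hzT, hz2, hzc⟩ := exists_central_inv h T
  have hz1 : z ≠ 1 := by
    intro h1; rw [h1, orderOf_one] at hz2; omega
  have h4 := card_conj_le u 4 hu
  rw [card_conj4 h u hu] at h4
  have h2 := card_conj_le z 2 hz2
  rw [card_conj_central h T z hzT hz1 hzc] at h2
  have := card_two_add_four h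
  omega

theorem card_order2 (h : Nat.card G = 168) : Nat.card {g : G // orderOf g = 2} = 21 := by
  have := card_two_add_four h
  rw [card_order4 h] at this
  omega

theorem conj_order4 (h : Nat.card G = 168) (s t : G) (hs : orderOf s = 4) (ht : orderOf t = 4) :
    IsConj s t :=
  conj_of_card s 4 42 hs (card_conj4 h s hs) (by rw [card_order4 h]) t ht

theorem conj_order2 (h : Nat.card G = 168) (s t : G) (hs : orderOf s = 2) (ht : orderOf t = 2) :
    IsConj s t := by
  have T : Sylow 2 G := default
  obtain ⟨z, hzT, hz2, hzc⟩ := exists_central_inv h T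
  have hz1 : z ≠ 1 := by
    intro h1; rw [h1, orderOf_one] at hz2; omega
  have key := conj_of_card z 2 21 hz2 (card_conj_central h T z hzT hz1 hzc)
    (by rw [card_order2 h])
  exact (key s hs).symm.trans (key t ht)

theorem conj_order3 (h : Nat.card G = 168) (s t : G) (hs : orderOf s = 3) (ht : orderOf t = 3) :
    IsConj s t := by
  have hc : Nat.card {g : G // IsConj s g} = 56 := by
    have := card_conj_mul s
    rw [cent3 h s hs, h] at this
    omega
  exact conj_of_card s 3 56 hs hc (by rw [card_order3 h]) t ht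

omit [Finite G] [IsSimpleGroup G] in
/-- Conjugate elements have centralizers of the same order. -/
theorem card_centralizer_conj (c a : G) :
    Nat.card (centralizer ({c * a * c⁻¹} : Set G)) = Nat.card (centralizer ({a} : Set G)) := by
  apply Nat.card_congr
  refine ⟨fun g => ⟨c⁻¹ * g.1 * c, ?_⟩, fun g => ⟨c * g.1 * c⁻¹, ?_⟩, ?_, ?_⟩
  · have := g.2
    rw [mem_centralizer_singleton_iff] at this ⊢
    have h1 : c⁻¹ * (g.1 * (c * a * c⁻¹)) * c = c⁻¹ * ((c * a * c⁻¹) * g.1) * c := by rw [this]
    calc c⁻¹ * g.1 * c * a = c⁻¹ * (g.1 * (c * a * c⁻¹)) * c := by group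
      _ = c⁻¹ * ((c * a * c⁻¹) * g.1) * c := h1
      _ = a * (c⁻¹ * g.1 * c) := by group
  · have := g.2
    rw [mem_centralizer_singleton_iff] at this ⊢
    calc c * g.1 * c⁻¹ * (c * a * c⁻¹) = c * (g.1 * a) * c⁻¹ := by group
      _ = c * (a * g.1) * c⁻¹ := by rw [this]
      _ = c * a * c⁻¹ * (c * g.1 * c⁻¹) := by group
  · intro g; apply Subtype.ext; simp only; group
  · intro g; apply Subtype.ext; simp only; group

/-- Every involution has centralizer of order 8. -/
theorem cent2 (h : Nat.card G = 168) (t : G) (ht : orderOf t = 2) :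
    Nat.card (centralizer ({t} : Set G)) = 8 := by
  have T : Sylow 2 G := default
  obtain ⟨z, hzT, hz2, hzc⟩ := exists_central_inv h T
  have hz1 : z ≠ 1 := by
    intro h1; rw [h1, orderOf_one] at hz2; omega
  obtain ⟨c, hc⟩ := isConj_iff.mp (conj_order2 h z t hz2 ht)
  rw [← hc, card_centralizer_conj, centralizer_central h T z hzT hz1 hzc, card_sylow2 h T]

/-- The centralizer of an involution is a Sylow 2-subgroup. -/
theorem exists_sylow_centralizer (h : Nat.card G = 168) (t : G) (ht : orderOf t = 2) :
    ∃ T : Sylow 2 G, (T : Subgroup G) = centralizer ({t} : Set G) := by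
  have e : 2 ^ (Nat.card G).factorization 2 = 8 := by
    have P0 : Sylow 2 G := default
    rw [← Sylow.card_eq_multiplicity P0, card_sylow2 h P0]
  exact ⟨Sylow.ofCard (centralizer ({t} : Set G)) (by rw [cent2 h t ht, e]), rfl⟩

end G168

end Cfsg.Agent.Lib.Helper6_G168
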