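import Mathlib
import Cfsg.Agent.Lib.Helper6_G168a
import Cfsg.Agent.Lib.Helper6_DihedralLift

set_option autoImplicit false

/-!
# Structure of a simple group of order 168, part (b): the Sylow 2-subgroup is dihedral
-/

namespace Cfsg.Agent.Lib.Helper6_G168

open Subgroup Cfsg.Agent.Lib.Helper7_SmallSimple Cfsg.Agent.Lib.Helper7_SmallSimple2

variable {G : Type*} [Group G] [Finite G] [IsSimpleGroup G]

/-- The cyclic subgroup of order 4 is normal in the Sylow 2-subgroup. -/
theorem conj_mem_zpowers (h : Nat.card G = 168) (T : Sylow 2 G) (u : G)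
    (hu : u ∈ (T : Subgroup G)) (ho : orderOf u = 4) (t : G) (ht : t ∈ (T : Subgroup G)) :
    t * u * t⁻¹ ∈ zpowers u := by
  set H := zpowers u with hH
  have hHT : H ≤ (T : Subgroup G) := by rw [hH, zpowers_le]; exact hu
  have hidx : (H.subgroupOf (T : Subgroup G)).index = 2 := by
    change H.relIndex (T : Subgroup G) = 2
    have h5 := card_mul_relIndex hHT
    have h6 : Nat.card H = 4 := by rw [hH, Nat.card_zpowers, ho]
    rw [card_sylow2 h T, h6] at h5
    omega
  have hn : (H.subgroupOf (T : Subgroup G)).Normal := normal_of_index_eq_two hidx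
  have := hn.conj_mem ⟨u, hu⟩ (by rw [mem_subgroupOf]; exact mem_zpowers u) ⟨t, ht⟩
  rw [mem_subgroupOf] at this
  exact this

/-- Conjugation by an element of `T` fixes or inverts an element of order 4 of `T`. -/
theorem conj_eq_or (h : Nat.card G = 168) (T : Sylow 2 G) (u : G)
    (hu : u ∈ (T : Subgroup G)) (ho : orderOf u = 4) (t : G) (ht : t ∈ (T : Subgroup G)) :
    t * u * t⁻¹ = u ∨ t * u * t⁻¹ = u⁻¹ := by
  obtain ⟨k, hk⟩ := mem_zpowers_iff.mp (conj_mem_zpowers h T u hu ho t ht)
  have hk' : u ^ (k % 4) = t * u * t⁻¹ := by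
    have := zpow_mod_orderOf u k
    rw [ho] at this
    rw [← hk]; exact_mod_cast this
  have hk0 : 0 ≤ k % 4 := Int.emod_nonneg _ (by norm_num)
  have hk4 : k % 4 < 4 := Int.emod_lt_of_pos _ (by norm_num)
  have hoy : orderOf (t * u * t⁻¹) = 4 := by rw [orderOf_conj_eq, ho]
  have hu4 : u ^ 4 = 1 := by rw [← ho, pow_orderOf_eq_one]
  obtain ⟨n, hn⟩ : ∃ n : ℕ, k % 4 = n := ⟨(k % 4).toNat, (Int.toNat_of_nonneg hk0).symm⟩
  rw [hn] at hk' hk4
  rw [zpow_natCast] at hk'
  have hn4 : n < 4 := by exact_mod_cast hk4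
  interval_cases n
  · exfalso
    rw [pow_zero] at hk'
    rw [← hk', orderOf_one] at hoy; omega
  · left; rw [← hk', pow_one]
  · exfalso
    have : orderOf (u ^ 2) = 2 := by
      rw [orderOf_pow' u (by norm_num), ho]; rfl
    rw [← hk', this] at hoy; omega
  · right
    rw [← hk']
    apply eq_inv_of_mul_eq_one_left
    rw [← pow_succ, hu4]

/-- The non-identity central element of `T` is unique. -/
theorem center_unique (h : Nat.card G = 168) (T : Sylow 2 G) (x y : G)
    (hx : x ∈ (T : Subgroup G)) (hy : y ∈ (T : Subgroup G)) (hx1 : x ≠ 1) (hy1 : y ≠ 1)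
    (hxc : ∀ t ∈ (T : Subgroup G), t * x = x * t) (hyc : ∀ t ∈ (T : Subgroup G), t * y = y * t) :
    x = y := by
  have hc := card_center_sylow2 h T
  obtain ⟨w, -, hw⟩ := (Nat.card_eq_two_iff' (1 : center (T : Subgroup G))).mp hc
  have hxm : (⟨x, hx⟩ : (T : Subgroup G)) ∈ center (T : Subgroup G) := by
    rw [Subgroup.mem_center_iff]; intro g; exact Subtype.ext (hxc g g.2)
  have hym : (⟨y, hy⟩ : (T : Subgroup G)) ∈ center (T : Subgroup G) := by
    rw [Subgroup.mem_center_iff]; intro g; exact Subtype.ext (hyc g g.2)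
  have h1 := hw ⟨⟨x, hx⟩, hxm⟩ (by
    intro h2; apply hx1
    have := congrArg (fun t : center (T : Subgroup G) => ((t : (T : Subgroup G)) : G)) h2
    exact this)
  have h2 := hw ⟨⟨y, hy⟩, hym⟩ (by
    intro h2; apply hy1
    have := congrArg (fun t : center (T : Subgroup G) => ((t : (T : Subgroup G)) : G)) h2
    exact this)
  have := h1.trans h2.symm
  exact congrArg (fun t : center (T : Subgroup G) => ((t : (T : Subgroup G)) : G)) this

/-- All elements of order 4 of `T` lie in one cyclic subgroup. -/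
theorem order4_mem_zpowers (h : Nat.card G = 168) (T : Sylow 2 G) (a b : G)
    (ha : a ∈ (T : Subgroup G)) (hb : b ∈ (T : Subgroup G)) (hoa : orderOf a = 4)
    (hob : orderOf b = 4) : b ∈ zpowers a := by
  obtain ⟨g, hg⟩ := isConj_iff.mp (conj_order4 h a b hoa hob)
  have ha1 : a ^ 2 ≠ 1 := by
    intro h2
    have := orderOf_dvd_of_pow_eq_one h2
    rw [hoa] at this; omega
  have hb1 : b ^ 2 ≠ 1 := by
    intro h2
    have := orderOf_dvd_of_pow_eq_one h2
    rw [hob] at this; omega
  have hab : a ^ 2 = b ^ 2 := center_unique h T _ _ (pow_mem ha 2) (pow_mem hb 2) ha1 hb1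
    (sq_central h T a ha hoa) (sq_central h T b hb hob)
  have hgz : g * a ^ 2 * g⁻¹ = a ^ 2 := by
    rw [← conj_pow, hg, hab]
  have hgT : g ∈ (T : Subgroup G) := by
    rw [← centralizer_central h T (a ^ 2) (pow_mem ha 2) ha1 (sq_central h T a ha hoa),
      mem_centralizer_singleton_iff]
    calc g * a ^ 2 = g * a ^ 2 * g⁻¹ * g := by group
      _ = a ^ 2 * g := by rw [hgz]
  rw [← hg]
  exact conj_mem_zpowers h T a ha hoa g hgT

/-- The dihedral structure of a Sylow 2-subgroup. -/
theorem sylow2_struct (h : Nat.card G = 168) (T : Sylow 2 G) :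
    ∃ a ∈ (T : Subgroup G), ∃ b ∈ (T : Subgroup G), orderOf a = 4 ∧ b ∉ zpowers a ∧
      b * b = 1 ∧ b * a * b⁻¹ = a⁻¹ := by
  obtain ⟨a, ha, hoa⟩ := exists_order4 h T
  have hex : ∃ b ∈ (T : Subgroup G), b ∉ zpowers a := by
    by_contra hcon
    push Not at hcon
    have hle : (T : Subgroup G) ≤ zpowers a := hcon
    have := Subgroup.card_le_of_le hle
    rw [card_sylow2 h T, Nat.card_zpowers, hoa] at this
    omega
  obtain ⟨b, hb, hbn⟩ := hex
  have hob : orderOf b = 2 := by
    have hob8 : orderOf b ∣ 8 := by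
      rw [← card_sylow2 h T]; exact Subgroup.orderOf_dvd_natCard _ hb
    rcases orders h b with h1 | h1 | h1 | h1 | h1
    · exfalso; apply hbn; rw [orderOf_eq_one_iff.mp h1]; exact one_mem _
    · exact h1
    · rw [h1] at hob8; omega
    · exfalso; exact hbn (order4_mem_zpowers h T a b ha hb hoa h1)
    · rw [h1] at hob8; omega
  refine ⟨a, ha, b, hb, hoa, hbn, ?_, ?_⟩
  · rw [← pow_two, ← hob, pow_orderOf_eq_one]
  · rcases conj_eq_or h T a ha hoa b hb with h1 | h1
    · exfalso
      apply hbn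
      have hbc : b ∈ centralizer ({a} : Set G) := by
        rw [mem_centralizer_singleton_iff]
        calc b * a = b * a * b⁻¹ * b := by group
          _ = a * b := by rw [h1]
      have hle : zpowers a ≤ centralizer ({a} : Set G) := by
        rw [zpowers_le, mem_centralizer_singleton_iff]
      have heq : zpowers a = centralizer ({a} : Set G) :=
        Subgroup.eq_of_le_of_card_ge hle (by rw [cent4 h a hoa, Nat.card_zpowers, hoa])
      rw [heq]; exact hbc
    · exact h1

/-- A Sylow 2-subgroup is dihedral of order 8. -/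
theorem sylow2_dihedral (h : Nat.card G = 168) (T : Sylow 2 G) :
    Nonempty (↥(T : Subgroup G) ≃* DihedralGroup 4) := by
  obtain ⟨a, ha, b, hb, hoa, hbn, hbb, hba⟩ := sylow2_struct h T
  apply Cfsg.Agent.Lib.Helper6_DihedralLift.dihedral_equiv 4 (by rw [card_sylow2 h T])
    (⟨a, ha⟩ : (T : Subgroup G)) ⟨b, hb⟩
  · rw [← Subgroup.orderOf_coe]; exact hoa
  · intro hmem
    apply hbn
    obtain ⟨k, hk⟩ := mem_zpowers_iff.mp hmem
    have := congrArg Subtype.val hk
    simp only [Subgroup.coe_zpow] at this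
    rw [← this]
    exact zpow_mem (mem_zpowers a) k
  · exact Subtype.ext hbb
  · exact Subtype.ext hba

end Cfsg.Agent.Lib.Helper6_G168
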