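import Mathlib
import Cfsg.Agent.Lib.Helper6_G168b
import Cfsg.Agent.S1785
import Cfsg.Agent.S1012

set_option autoImplicit false

/-!
# Structure of a simple group of order 168, part (c): Klein four-subgroups
-/

namespace Cfsg.Agent.Lib.Helper6_G168

open Subgroup Cfsg.Agent.Lib.Helper7_SmallSimple Cfsg.Agent.Lib.Helper7_SmallSimple2

section general

variable {G : Type*} [Group G]

theorem conj_map_mem {H : Subgroup G} {g x : G} :
    x ∈ H.map (MulAut.conj g).toMonoidHom ↔ g⁻¹ * x * g ∈ H := by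
  rw [Subgroup.mem_map_equiv]
  rw [MulAut.conj_symm_apply]

theorem map_conj_eq_of_mem_normalizer (H : Subgroup G) (n : G)
    (hn : n ∈ normalizer (H : Set G)) : H.map (MulAut.conj n).toMonoidHom = H := by
  ext x
  rw [conj_map_mem]
  have hn' : n⁻¹ ∈ normalizer (H : Set G) := inv_mem hn
  rw [mem_normalizer_iff] at hn'
  have := hn' x
  rw [inv_inv] at this
  exact this.symm

theorem map_conj_mul (H : Subgroup G) (a b : G) :
    H.map (MulAut.conj (a * b)).toMonoidHom
      = (H.map (MulAut.conj b).toMonoidHom).map (MulAut.conj a).toMonoidHom := by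
  ext x
  rw [conj_map_mem, conj_map_mem, conj_map_mem]
  have : (a * b)⁻¹ * x * (a * b) = b⁻¹ * (a⁻¹ * x * a) * b := by group
  rw [this]

theorem map_conj_injective (g : G) {H K : Subgroup G}
    (h : H.map (MulAut.conj g).toMonoidHom = K.map (MulAut.conj g).toMonoidHom) : H = K :=
  Subgroup.map_injective (MulAut.conj g).injective h

theorem card_map_conj (H : Subgroup G) (g : G) :
    Nat.card (H.map (MulAut.conj g).toMonoidHom) = Nat.card H :=
  Subgroup.card_map_of_injective (MulAut.conj g).injective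

/-- A subgroup of order 4 all of whose elements square to 1 is a Klein four-group. -/
theorem kleinFour_of (U : Subgroup G) (hc : Nat.card U = 4) (hsq : ∀ x ∈ U, x ^ 2 = 1) :
    IsKleinFour ↥U := by
  refine ⟨hc, ?_⟩
  haveI : Finite U := Nat.finite_of_card_ne_zero (by rw [hc]; norm_num)
  haveI : Nontrivial U := by
    apply (Finite.one_lt_card_iff_nontrivial).mp
    rw [hc]; norm_num
  rw [Monoid.exponent_eq_prime_iff Nat.prime_two]
  intro g hg
  apply orderOf_eq_prime
  · apply Subtype.ext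
    rw [Subgroup.coe_pow]
    exact hsq g g.2
  · exact hg

theorem sq_of_klein (U : Subgroup G) (hU : IsKleinFour ↥U) : ∀ x ∈ U, x ^ 2 = 1 := by
  intro x hx
  have := Monoid.pow_exponent_eq_one (⟨x, hx⟩ : U)
  rw [hU.exponent_two] at this
  exact congrArg Subtype.val this

theorem comm_of_klein (U : Subgroup G) (hU : IsKleinFour ↥U) :
    ∀ x ∈ U, ∀ y ∈ U, x * y = y * x := by
  intro a ha b hb
  have hsq := sq_of_klein U hU
  have h1 := hsq (a * b) (mul_mem ha hb)
  have h2 := hsq a ha
  have h3 := hsq b hb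
  rw [pow_two] at h1 h2 h3
  calc a * b = a * (a * b * (a * b)) * b := by rw [h1, mul_one]
    _ = (a * a) * (b * a) * (b * b) := by group
    _ = b * a := by rw [h2, h3, one_mul, mul_one]

end general

variable {G : Type*} [Group G] [Finite G] [IsSimpleGroup G]

/-- An element of `T` outside the cyclic subgroup of order 4 is an involution inverting it. -/
theorem outside (h : Nat.card G = 168) (T : Sylow 2 G) (a : G) (ha : a ∈ (T : Subgroup G))
    (hoa : orderOf a = 4) (b : G) (hb : b ∈ (T : Subgroup G)) (hbn : b ∉ zpowers a) :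
    b * b = 1 ∧ b * a * b⁻¹ = a⁻¹ := by
  have hob : orderOf b = 2 := by
    have hob8 : orderOf b ∣ 8 := by
      rw [← card_sylow2 h T]; exact Subgroup.orderOf_dvd_natCard _ hb
    rcases orders h b with h1 | h1 | h1 | h1 | h1
    · exfalso; apply hbn; rw [orderOf_eq_one_iff.mp h1]; exact one_mem _
    · exact h1
    · rw [h1] at hob8; omega
    · exfalso; exact hbn (order4_mem_zpowers h T a b ha hb hoa h1)
    · rw [h1] at hob8; omega
  refine ⟨?_, ?_⟩
  · rw [← pow_two, ← hob, pow_orderOf_eq_one]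
  · rcases conj_eq_or h T a ha hoa b hb with h1 | h1
    · exfalso
      apply hbn
      have hbc : b ∈ centralizer ({a} : Set G) := by
        rw [mem_centralizer_singleton_iff]
        calc b * a = b * a * b⁻¹ * b := by group
          _ = a * b := by rw [h1]
      have hle : zpowers a ≤ centralizer ({a} : Set G) := by
        rw [zpowers_le, mem_centralizer_singleton_iff]
      have heq : zpowers a = centralizer ({a} : Set G) :=
        Subgroup.eq_of_le_of_card_ge hle (by rw [cent4 h a hoa, Nat.card_zpowers, hoa])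
      rw [heq]; exact hbc
    · exact h1

omit [Finite G] [IsSimpleGroup G] in
/-- Involutions in a cyclic group of order 4. -/
theorem inv_in_zpowers (a : G) (hoa : orderOf a = 4) (x : G) (hx : x ∈ zpowers a)
    (hxx : x ^ 2 = 1) : x = 1 ∨ x = a ^ 2 := by
  obtain ⟨k, hk⟩ := mem_zpowers_iff.mp hx
  have hk' : a ^ (k % 4) = x := by
    have := zpow_mod_orderOf a k
    rw [hoa] at this
    rw [← hk]; exact_mod_cast this
  have hk0 : 0 ≤ k % 4 := Int.emod_nonneg _ (by norm_num)
  have hk4 : k % 4 < 4 := Int.emod_lt_of_pos _ (by norm_num)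
  have ha4 : a ^ 4 = 1 := by rw [← hoa, pow_orderOf_eq_one]
  obtain ⟨n, hn⟩ : ∃ n : ℕ, k % 4 = n := ⟨(k % 4).toNat, (Int.toNat_of_nonneg hk0).symm⟩
  rw [hn] at hk' hk4
  rw [zpow_natCast] at hk'
  have hn4 : n < 4 := by exact_mod_cast hk4
  interval_cases n
  · left; rw [← hk', pow_zero]
  · exfalso
    rw [← hk', pow_one] at hxx
    have := orderOf_dvd_of_pow_eq_one hxx
    rw [hoa] at this; omega
  · right; exact hk'.symm
  · exfalso
    rw [← hk', ← pow_mul] at hxx
    have h6 : a ^ (3 * 2) = a ^ 4 * a ^ 2 := by rw [← pow_add]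
    rw [h6, ha4, one_mul] at hxx
    have := orderOf_dvd_of_pow_eq_one hxx
    rw [hoa] at this; omega

/-- The product of two elements of `T` outside `⟨a⟩` lies in `⟨a⟩`. -/
theorem mul_mem_zpowers (h : Nat.card G = 168) (T : Sylow 2 G) (a : G)
    (ha : a ∈ (T : Subgroup G)) (hoa : orderOf a = 4) (x y : G) (hx : x ∈ (T : Subgroup G))
    (hy : y ∈ (T : Subgroup G)) (hxn : x ∉ zpowers a) (hyn : y ∉ zpowers a) :
    x * y ∈ zpowers a := by
  set H := zpowers a with hH
  have hHT : H ≤ (T : Subgroup G) := by rw [hH, zpowers_le]; exact ha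
  have hidx : (H.subgroupOf (T : Subgroup G)).index = 2 := by
    change H.relIndex (T : Subgroup G) = 2
    have h5 := card_mul_relIndex hHT
    have h6 : Nat.card H = 4 := by rw [hH, Nat.card_zpowers, hoa]
    rw [card_sylow2 h T, h6] at h5
    omega
  have := Subgroup.mul_mem_iff_of_index_two hidx (a := (⟨x, hx⟩ : (T : Subgroup G)))
    (b := (⟨y, hy⟩ : (T : Subgroup G)))
  rw [mem_subgroupOf, mem_subgroupOf, mem_subgroupOf] at this
  exact this.mpr ⟨fun h1 => absurd h1 hxn, fun h1 => absurd h1 hyn⟩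

/-- A Klein four-subgroup of `T` contains the central involution and an element outside `⟨a⟩`. -/
theorem klein_mem (h : Nat.card G = 168) (T : Sylow 2 G) (a : G)
    (ha : a ∈ (T : Subgroup G)) (hoa : orderOf a = 4) (U : Subgroup G)
    (hUT : U ≤ (T : Subgroup G)) (hU : IsKleinFour ↥U) :
    a ^ 2 ∈ U ∧ ∃ x ∈ U, x ∉ zpowers a := by
  have hsq := sq_of_klein U hU
  have hc4 : Nat.card U = 4 := hU.card_four
  -- an element outside `⟨a⟩`
  have hex : ∃ x ∈ U, x ∉ zpowers a := by
    by_contra hcon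
    push Not at hcon
    have hsub : (U : Set G) ⊆ {1, a ^ 2} := by
      intro x hx
      rcases inv_in_zpowers a hoa x (hcon x hx) (hsq x hx) with h1 | h1
      · left; exact h1
      · right; exact h1
    have h1 : (U : Set G).ncard ≤ ({1, a ^ 2} : Set G).ncard :=
      Set.ncard_le_ncard hsub (Set.toFinite _)
    have h2 : ({1, a ^ 2} : Set G).ncard ≤ 2 := Set.ncard_insert_le _ _ |>.trans (by simp)
    have h3 : (U : Set G).ncard = 4 := by rw [← Nat.card_coe_set_eq]; exact hc4
    omega
  refine ⟨?_, hex⟩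
  obtain ⟨x, hxU, hxn⟩ := hex
  -- another element `y ∉ {1, x}`
  have hey : ∃ y ∈ U, y ≠ 1 ∧ y ≠ x := by
    by_contra hcon
    push Not at hcon
    have hsub : (U : Set G) ⊆ {1, x} := by
      intro y hy
      by_cases hy1 : y = 1
      · left; exact hy1
      · right; exact hcon y hy hy1
    have h1 : (U : Set G).ncard ≤ ({1, x} : Set G).ncard :=
      Set.ncard_le_ncard hsub (Set.toFinite _)
    have h2 : ({1, x} : Set G).ncard ≤ 2 := Set.ncard_insert_le _ _ |>.trans (by simp)
    have h3 : (U : Set G).ncard = 4 := by rw [← Nat.card_coe_set_eq]; exact hc4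
    omega
  obtain ⟨y, hyU, hy1, hyx⟩ := hey
  by_cases hyH : y ∈ zpowers a
  · rcases inv_in_zpowers a hoa y hyH (hsq y hyU) with h1 | h1
    · exact absurd h1 hy1
    · rw [← h1]; exact hyU
  · have hxy : x * y ∈ zpowers a :=
      mul_mem_zpowers h T a ha hoa x y (hUT hxU) (hUT hyU) hxn hyH
    rcases inv_in_zpowers a hoa (x * y) hxy (hsq _ (mul_mem hxU hyU)) with h1 | h1
    · exfalso
      apply hyx
      have hx2 := hsq x hxU
      rw [pow_two] at hx2
      have : y = x⁻¹ := by
        rw [eq_inv_iff_mul_eq_one, ← h1]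
        exact (comm_of_klein U hU x hxU y hyU).symm
      rw [this]
      exact inv_eq_of_mul_eq_one_right hx2
    · rw [← h1]; exact mul_mem hxU hyU

/-- The Klein four-subgroup generated by the central involution `z` and a commuting involution. -/
theorem klein_gen (z x : G) (hz : z ^ 2 = 1) (hx : x ^ 2 = 1) (hzx : x ∉ zpowers z) (hz1 : z ≠ 1)
    (hc : z * x = x * z) :
    IsKleinFour ↥(zpowers z ⊔ zpowers x) := by
  have hH : Cfsg.Agent.S1785.EA (zpowers z) := Cfsg.Agent.S1785.ea_zpowers hz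
  have hcomm : zpowers z ≤ Cfsg.Agent.S1785.Cz x := by
    rw [zpowers_le]
    exact Cfsg.Agent.S1785.mem_Cz.mpr hc
  obtain ⟨h1, h2⟩ := Cfsg.Agent.S1785.adj hH hx hzx hcomm
  rw [Cfsg.Agent.S1785.card_zpowers_two hz hz1] at h2
  exact kleinFour_of _ h2 (Cfsg.Agent.S1785.ea_iff.mp h1).2

/-- Uniqueness: a Klein four-subgroup of `T` is generated by `z` and any element outside `⟨a⟩`. -/
theorem klein_eq (h : Nat.card G = 168) (T : Sylow 2 G) (a : G)
    (ha : a ∈ (T : Subgroup G)) (hoa : orderOf a = 4) (U : Subgroup G)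
    (hUT : U ≤ (T : Subgroup G)) (hU : IsKleinFour ↥U) (x : G) (hxU : x ∈ U)
    (hxn : x ∉ zpowers a) : U = zpowers (a ^ 2) ⊔ zpowers x := by
  have hz := (klein_mem h T a ha hoa U hUT hU).1
  have hle : zpowers (a ^ 2) ⊔ zpowers x ≤ U := by
    apply sup_le
    · rw [zpowers_le]; exact hz
    · rw [zpowers_le]; exact hxU
  symm
  apply Subgroup.eq_of_le_of_card_ge hle
  have hz2 : (a ^ 2) ^ 2 = 1 := by
    rw [← pow_mul]
    have : a ^ 4 = 1 := by rw [← hoa]; exact pow_orderOf_eq_one a
    exact this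
  have hz1 : a ^ 2 ≠ 1 := by
    intro h2
    have := orderOf_dvd_of_pow_eq_one h2
    rw [hoa] at this; omega
  have hxz : x ∉ zpowers (a ^ 2) := by
    intro hm
    apply hxn
    have : zpowers (a ^ 2) ≤ zpowers a := by
      rw [zpowers_le]; exact pow_mem (mem_zpowers a) 2
    exact this hm
  have hcomm : a ^ 2 * x = x * a ^ 2 := (sq_central h T a ha hoa x (hUT hxU)).symm
  have hK := klein_gen (a ^ 2) x hz2 (sq_of_klein U hU x hxU) hxz hz1 hcomm
  rw [hK.card_four, hU.card_four]

/-- A Klein four-subgroup of `T` is normal in `T`. -/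
theorem klein_normal (h : Nat.card G = 168) (T : Sylow 2 G) (U : Subgroup G)
    (hUT : U ≤ (T : Subgroup G)) (hU : IsKleinFour ↥U) :
    (T : Subgroup G) ≤ normalizer (U : Set G) := by
  have hidx : (U.subgroupOf (T : Subgroup G)).index = 2 := by
    change U.relIndex (T : Subgroup G) = 2
    have h5 := card_mul_relIndex hUT
    rw [card_sylow2 h T, hU.card_four] at h5
    omega
  have hn : (U.subgroupOf (T : Subgroup G)).Normal := normal_of_index_eq_two hidx
  exact (Subgroup.normal_subgroupOf_iff_le_normalizer hUT).mp hn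

/-- There are exactly two Klein four-subgroups in a Sylow 2-subgroup. -/
theorem card_klein (h : Nat.card G = 168) (T : Sylow 2 G) :
    Nat.card {U : Subgroup G // U ≤ (T : Subgroup G) ∧ IsKleinFour ↥U} = 2 := by
  obtain ⟨a, ha, b, hb, hoa, hbn, hbb, hba⟩ := sylow2_struct h T
  set z := a ^ 2 with hzdef
  have ha4 : a ^ 4 = 1 := by rw [← hoa]; exact pow_orderOf_eq_one a
  have hz2 : z ^ 2 = 1 := by rw [hzdef, ← pow_mul]; exact ha4
  have hz1 : z ≠ 1 := by
    intro h2
    have := orderOf_dvd_of_pow_eq_one h2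
    rw [hoa] at this; omega
  have hzT : z ∈ (T : Subgroup G) := pow_mem ha 2
  have hzc : ∀ t ∈ (T : Subgroup G), z * t = t * z := fun t ht => (sq_central h T a ha hoa t ht).symm
  have hzH : zpowers z ≤ zpowers a := by
    rw [zpowers_le]; exact pow_mem (mem_zpowers a) 2
  have hbaT : b * a ∈ (T : Subgroup G) := mul_mem hb ha
  have hban : b * a ∉ zpowers a := by
    intro hm
    apply hbn
    have := mul_mem hm (inv_mem (mem_zpowers a))
    rwa [mul_inv_cancel_right] at this
  have hb2 : b ^ 2 = 1 := by rw [pow_two]; exact hbb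
  have hba2 : (b * a) ^ 2 = 1 := by
    rw [pow_two]; exact (outside h T a ha hoa (b * a) hbaT hban).1
  have hU1 : IsKleinFour ↥(zpowers z ⊔ zpowers b) :=
    klein_gen z b hz2 hb2 (fun hm => hbn (hzH hm)) hz1 (hzc b hb)
  have hU2 : IsKleinFour ↥(zpowers z ⊔ zpowers (b * a)) :=
    klein_gen z (b * a) hz2 hba2 (fun hm => hban (hzH hm)) hz1 (hzc _ hbaT)
  have hU1T : zpowers z ⊔ zpowers b ≤ (T : Subgroup G) :=
    sup_le (zpowers_le.mpr hzT) (zpowers_le.mpr hb)
  have hU2T : zpowers z ⊔ zpowers (b * a) ≤ (T : Subgroup G) :=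
    sup_le (zpowers_le.mpr hzT) (zpowers_le.mpr hbaT)
  have hzU1 : z ∈ zpowers z ⊔ zpowers b := (le_sup_left : zpowers z ≤ _) (mem_zpowers z)
  have hbU1 : b ∈ zpowers z ⊔ zpowers b := (le_sup_right : zpowers b ≤ _) (mem_zpowers b)
  have hzU2 : z ∈ zpowers z ⊔ zpowers (b * a) := (le_sup_left : zpowers z ≤ _) (mem_zpowers z)
  have hbaU2 : b * a ∈ zpowers z ⊔ zpowers (b * a) :=
    (le_sup_right : zpowers (b * a) ≤ _) (mem_zpowers _)
  rw [Nat.card_eq_two_iff]
  refine ⟨⟨_, hU1T, hU1⟩, ⟨_, hU2T, hU2⟩, ?_, ?_⟩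
  · intro heq
    have heq' : zpowers z ⊔ zpowers b = zpowers z ⊔ zpowers (b * a) :=
      congrArg Subtype.val heq
    have h1 : b * a ∈ zpowers z ⊔ zpowers b := by rw [heq']; exact hbaU2
    have h2 : a ∈ zpowers z ⊔ zpowers b := by
      have := mul_mem (inv_mem hbU1) h1
      rwa [inv_mul_cancel_left] at this
    have h3 := sq_of_klein _ hU1 a h2
    exact hz1 h3
  · ext ⟨U, hUT, hU⟩
    simp only [Set.mem_insert_iff, Set.mem_singleton_iff, Set.mem_univ, iff_true]
    obtain ⟨-, x, hxU, hxn⟩ := klein_mem h T a ha hoa U hUT hU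
    have hUx := klein_eq h T a ha hoa U hUT hU x hxU hxn
    have hxT := hUT hxU
    have hcase : x ∈ zpowers z ⊔ zpowers b ∨ x ∈ zpowers z ⊔ zpowers (b * a) := by
      have hbin : b⁻¹ ∉ zpowers a := fun hm => hbn (by simpa using inv_mem hm)
      have hm := mul_mem_zpowers h T a ha hoa b⁻¹ x (inv_mem hb) hxT hbin hxn
      obtain ⟨k, hk⟩ := mem_zpowers_iff.mp hm
      have hk' : a ^ (k % 4) = b⁻¹ * x := by
        have := zpow_mod_orderOf a k
        rw [hoa] at this
        rw [← hk]; exact_mod_cast this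
      have hk0 : 0 ≤ k % 4 := Int.emod_nonneg _ (by norm_num)
      have hk4 : k % 4 < 4 := Int.emod_lt_of_pos _ (by norm_num)
      obtain ⟨n, hn⟩ : ∃ n : ℕ, k % 4 = n := ⟨(k % 4).toNat, (Int.toNat_of_nonneg hk0).symm⟩
      rw [hn] at hk' hk4
      rw [zpow_natCast] at hk'
      have hn4 : n < 4 := by exact_mod_cast hk4
      have hx : x = b * a ^ n := by rw [hk']; group
      interval_cases n
      · left; rw [hx, pow_zero, mul_one]; exact hbU1
      · right; rw [hx, pow_one]; exact hbaU2
      · left; rw [hx]; exact mul_mem hbU1 hzU1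
      · right
        have : b * a ^ 3 = b * a * a ^ 2 := by rw [mul_assoc, ← pow_succ']
        rw [hx, this]
        exact mul_mem hbaU2 hzU2
    rcases hcase with h1 | h1
    · left
      apply Subtype.ext
      change U = zpowers z ⊔ zpowers b
      rw [hUx]
      exact (klein_eq h T a ha hoa _ hU1T hU1 x h1 hxn).symm
    · right
      apply Subtype.ext
      change U = zpowers z ⊔ zpowers (b * a)
      rw [hUx]
      exact (klein_eq h T a ha hoa _ hU2T hU2 x h1 hxn).symm

/-- Distinct Klein four-subgroups of a Sylow 2-subgroup are not conjugate (Burnside). -/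
theorem klein_not_conj (h : Nat.card G = 168) (T : Sylow 2 G) (U W : Subgroup G)
    (hUT : U ≤ (T : Subgroup G)) (hWT : W ≤ (T : Subgroup G)) (hU : IsKleinFour ↥U)
    (hW : IsKleinFour ↥W) (hne : U ≠ W) (g : G) :
    U.map (MulAut.conj g).toMonoidHom ≠ W := by
  intro hg
  have hTU := klein_normal h T U hUT hU
  have hTW := klein_normal h T W hWT hW
  set N := normalizer (W : Set G) with hN
  have hmemgT : ∀ x : G, x ∈ ((g • T : Sylow 2 G) : Subgroup G) ↔ g⁻¹ * x * g ∈ (T : Subgroup G) := by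
    intro x
    rw [Sylow.smul_def, Sylow.pointwise_smul_def, Subgroup.mem_pointwise_smul_iff_inv_smul_mem,
      MulAut.smul_def, MulAut.conj_inv_apply]
  have hgTN : ((g • T : Sylow 2 G) : Subgroup G) ≤ N := by
    intro x hx
    rw [hmemgT] at hx
    have h1 := hTU hx
    have h2 := Subgroup.map_normalizer_eq_of_bijective U (f := (MulAut.conj g).toMonoidHom)
      (MulAut.conj g).bijective
    rw [hg] at h2
    rw [hN, ← h2, conj_map_mem]
    exact h1
  let P1 : Sylow 2 N := T.subtype hTW
  let P2 : Sylow 2 N := (g • T).subtype hgTN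
  obtain ⟨n, hn⟩ := MulAction.exists_smul_eq N P1 P2
  have hnT : ((n : G) • T : Sylow 2 G) = g • T := by
    apply Sylow.ext
    have hmemnT : ∀ x : G, x ∈ (((n : G) • T : Sylow 2 G) : Subgroup G)
        ↔ (n : G)⁻¹ * x * n ∈ (T : Subgroup G) := by
      intro x
      rw [Sylow.smul_def, Sylow.pointwise_smul_def, Subgroup.mem_pointwise_smul_iff_inv_smul_mem,
        MulAut.smul_def, MulAut.conj_inv_apply]
    have hP : ∀ y : N, y ∈ ((n • P1 : Sylow 2 N) : Subgroup N)
        ↔ ((n : G)⁻¹ * y * n) ∈ (T : Subgroup G) := by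
      intro y
      rw [Sylow.smul_def, Sylow.pointwise_smul_def, Subgroup.mem_pointwise_smul_iff_inv_smul_mem,
        MulAut.smul_def, MulAut.conj_inv_apply]
      change n⁻¹ * y * n ∈ (T : Subgroup G).subgroupOf N ↔ _
      rw [mem_subgroupOf]
      rfl
    have hP2 : ∀ y : N, y ∈ (P2 : Subgroup N) ↔ (y : G) ∈ ((g • T : Sylow 2 G) : Subgroup G) := by
      intro y
      change y ∈ ((g • T : Sylow 2 G) : Subgroup G).subgroupOf N ↔ _
      rw [mem_subgroupOf]
    ext x
    rw [hmemnT]
    constructor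
    · intro hx
      have hxN : x ∈ N := by
        have h1 : (n : G)⁻¹ * x * n ∈ N := hTW hx
        have h2 := mul_mem (mul_mem n.2 h1) (inv_mem n.2)
        have h3 : (n : G) * ((n : G)⁻¹ * x * n) * (n : G)⁻¹ = x := by group
        rwa [h3] at h2
      have := (hP ⟨x, hxN⟩).mpr hx
      rw [hn] at this
      exact (hP2 ⟨x, hxN⟩).mp this
    · intro hx
      have hxN : x ∈ N := hgTN hx
      have := (hP2 ⟨x, hxN⟩).mpr hx
      rw [← hn] at this
      exact (hP ⟨x, hxN⟩).mp this
  have htT : g⁻¹ * (n : G) ∈ (T : Subgroup G) := by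
    have h1 : (g⁻¹ * (n : G)) • T = T := by
      rw [mul_smul, hnT, ← mul_smul, inv_mul_cancel, one_smul]
    have h2 : g⁻¹ * (n : G) ∈ normalizer ((T : Subgroup G) : Set G) :=
      Sylow.smul_eq_iff_mem_normalizer.mp h1
    rwa [normalizer_sylow2 h T] at h2
  have hn_eq : (n : G) = g * (g⁻¹ * (n : G)) := by group
  have h1 : U.map (MulAut.conj (n : G)).toMonoidHom = W := by
    rw [hn_eq, map_conj_mul, map_conj_eq_of_mem_normalizer U _ (hTU htT), hg]
  have h2 : W.map (MulAut.conj (n : G)).toMonoidHom = W :=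
    map_conj_eq_of_mem_normalizer W _ n.2
  exact hne (map_conj_injective (n : G) (h1.trans h2.symm))

/-- No element of order 7 normalizes a Klein four-subgroup. -/
theorem not_seven_dvd_normalizer (h : Nat.card G = 168) (U : Subgroup G) (hU : IsKleinFour ↥U)
    (x : G) (hxU : x ∈ U) (hx2 : orderOf x = 2) :
    ¬ 7 ∣ Nat.card (normalizer (U : Set G)) := by
  intro hdvd
  obtain ⟨y, hy⟩ := exists_prime_orderOf_dvd_card' (G := normalizer (U : Set G)) 7 hdvd
  have hy7 : orderOf (y : G) = 7 := by rw [Subgroup.orderOf_coe]; exact hy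
  have hx1 : x ≠ 1 := by
    intro h1; rw [h1, orderOf_one] at hx2; omega
  -- conjugates of `x` by powers of `y` stay in `U \ {1}`
  have hmem : ∀ i : ℕ, (y : G) ^ i * x * ((y : G) ^ i)⁻¹ ∈ U ∧
      (y : G) ^ i * x * ((y : G) ^ i)⁻¹ ≠ 1 := by
    intro i
    have hyi : (y : G) ^ i ∈ normalizer (U : Set G) := pow_mem y.2 i
    refine ⟨(mem_normalizer_iff.mp hyi x).mp hxU, ?_⟩
    intro h1
    apply hx1
    have : x = ((y : G) ^ i)⁻¹ * ((y : G) ^ i * x * ((y : G) ^ i)⁻¹) * (y : G) ^ i := by group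
    rw [this, h1]; group
  let f : Fin 7 → {u : G // u ∈ U ∧ u ≠ 1} := fun i => ⟨_, hmem i.val⟩
  have hcard : Nat.card {u : G // u ∈ U ∧ u ≠ 1} = 3 := by
    have h2 : Nat.card {u : G // u ∈ U ∧ u ≠ 1} = ((U : Set G) \ {1}).ncard := by
      rw [← Nat.card_coe_set_eq]
      apply Nat.card_congr
      apply Equiv.subtypeEquivRight
      intro g
      simp only [Set.mem_diff, SetLike.mem_coe, Set.mem_singleton_iff]
    rw [h2, Set.ncard_sdiff_singleton_of_mem (one_mem _)]
    have : (U : Set G).ncard = 4 := by rw [← Nat.card_coe_set_eq]; exact hU.card_four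
    rw [this]
  have hninj : ¬ Function.Injective f := by
    intro hinj
    have := Nat.card_le_card_of_injective f hinj
    rw [hcard, Nat.card_fin] at this
    omega
  -- key: equal conjugates give a power of `y` commuting with `x`
  have key : ∀ i j : ℕ, i < j → j < 7 →
      (y : G) ^ i * x * ((y : G) ^ i)⁻¹ = (y : G) ^ j * x * ((y : G) ^ j)⁻¹ → False := by
    intro i j hij hj7 heq
    obtain ⟨k, rfl⟩ : ∃ k, j = i + k := ⟨j - i, by omega⟩
    have hk0 : 0 < k := by omega
    have hk7 : k < 7 := by omega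
    have hcomm : (y : G) ^ k * x = x * (y : G) ^ k := by
      have h1 : x = (y : G) ^ k * x * ((y : G) ^ k)⁻¹ := by
        have h2 : x = ((y : G) ^ i)⁻¹ * ((y : G) ^ (i + k) * x * ((y : G) ^ (i + k))⁻¹)
            * (y : G) ^ i := by
          rw [← heq]; group
        have h3 : ((y : G) ^ i)⁻¹ * ((y : G) ^ (i + k) * x * ((y : G) ^ (i + k))⁻¹) * (y : G) ^ i
            = (y : G) ^ k * x * ((y : G) ^ k)⁻¹ := by
          rw [pow_add]; group
        exact h2.trans h3
      calc (y : G) ^ k * x = (y : G) ^ k * x * ((y : G) ^ k)⁻¹ * (y : G) ^ k := by group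
        _ = x * (y : G) ^ k := by rw [← h1]
    have hord : orderOf ((y : G) ^ k) = 7 := by
      rw [Nat.Coprime.orderOf_pow, hy7]
      rw [hy7]
      apply (Nat.Prime.coprime_iff_not_dvd (by norm_num)).mpr
      intro hd
      have := Nat.le_of_dvd hk0 hd
      omega
    have hmemC : (y : G) ^ k ∈ centralizer ({x} : Set G) := by
      rw [mem_centralizer_singleton_iff]; exact hcomm
    have := Subgroup.orderOf_dvd_natCard _ hmemC
    rw [hord, cent2 h x hx2] at this
    omega
  apply hninj
  intro i j hij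
  by_contra hne
  have hval : (y : G) ^ i.val * x * ((y : G) ^ i.val)⁻¹ = (y : G) ^ j.val * x * ((y : G) ^ j.val)⁻¹ :=
    congrArg (fun t : {u : G // u ∈ U ∧ u ≠ 1} => t.1) hij
  have hne' : i.val ≠ j.val := fun h1 => hne (Fin.ext h1)
  rcases lt_or_gt_of_ne hne' with hlt | hlt
  · exact key i.val j.val hlt j.2 hval
  · exact key j.val i.val hlt i.2 hval.symm

/-- The normalizer of a Klein four-subgroup has order 24. -/
theorem card_normalizer_klein (h : Nat.card G = 168) (U : Subgroup G) (hU : IsKleinFour ↥U) :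
    Nat.card (normalizer (U : Set G)) = 24 := by
  have hp : IsPGroup 2 U := IsPGroup.of_card (n := 2) (by rw [hU.card_four]; norm_num)
  obtain ⟨T, hUT⟩ := hp.exists_le_sylow
  obtain ⟨a, ha, hoa⟩ := exists_order4 h T
  obtain ⟨-, x, hxU, hxn⟩ := klein_mem h T a ha hoa U hUT hU
  have hxT := hUT hxU
  obtain ⟨hxx, hxa⟩ := outside h T a ha hoa x hxT hxn
  have hx1 : x ≠ 1 := fun h1 => hxn (h1 ▸ one_mem _)
  have hx2 : orderOf x = 2 := orderOf_eq_prime (by rw [pow_two]; exact hxx) hx1
  obtain ⟨Tx, hTx⟩ := exists_sylow_centralizer h x hx2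
  have hUTx : U ≤ (Tx : Subgroup G) := by
    rw [hTx]
    intro u hu
    rw [mem_centralizer_singleton_iff]
    exact comm_of_klein U hU u hu x hxU
  have hTN := klein_normal h T U hUT hU
  have hTxN := klein_normal h Tx U hUTx hU
  -- `T ≠ Tx`
  have hne : (T : Subgroup G) ≠ (Tx : Subgroup G) := by
    intro heq
    have haC : a ∈ centralizer ({x} : Set G) := by rw [← hTx, ← heq]; exact ha
    rw [mem_centralizer_singleton_iff] at haC
    have h1 : x * a * x⁻¹ = a := by rw [← haC]; group
    rw [hxa] at h1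
    have h2 : a ^ 2 = 1 := by
      rw [pow_two]
      nth_rw 1 [← h1]
      exact inv_mul_cancel a
    have := orderOf_dvd_of_pow_eq_one h2
    rw [hoa] at this; omega
  set N := normalizer (U : Set G) with hN
  have h8 : 8 ∣ Nat.card N := by
    rw [← card_sylow2 h T]; exact Subgroup.card_dvd_of_le hTN
  have h168 : Nat.card N ∣ 168 := by
    rw [← h]; exact Subgroup.card_subgroup_dvd_card N
  have h7 := not_seven_dvd_normalizer h U hU x hxU hx2
  have hne8 : Nat.card N ≠ 8 := by
    intro h8'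
    apply hne
    have e1 : (T : Subgroup G) = N :=
      Subgroup.eq_of_le_of_card_ge hTN (by rw [h8', card_sylow2 h T])
    have e2 : (Tx : Subgroup G) = N :=
      Subgroup.eq_of_le_of_card_ge hTxN (by rw [h8', card_sylow2 h Tx])
    rw [e1, e2]
  obtain ⟨k, hk⟩ := h8
  rw [hk] at h168 h7 hne8
  have hk21 : k ∣ 21 := by
    have : 8 * k ∣ 8 * 21 := by simpa using h168
    exact Nat.dvd_of_mul_dvd_mul_left (by norm_num) this
  have hk' : k = 1 ∨ k = 3 ∨ k = 7 ∨ k = 21 := by
    have := dvd_prime_mul_prime (p := 3) (q := 7) Nat.prime_three (by norm_num) hk21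
    omega
  rcases hk' with rfl | rfl | rfl | rfl
  · exact absurd rfl hne8
  · rw [hk]
  · exact absurd (by norm_num : 7 ∣ 8 * 7) h7
  · exact absurd (by norm_num : 7 ∣ 8 * 21) h7

/-- The normalizer of a Klein four-subgroup is the symmetric group of degree 4. -/
theorem normalizer_klein_equiv (h : Nat.card G = 168) (U : Subgroup G) (hU : IsKleinFour ↥U) :
    Nonempty (↥(normalizer (U : Set G)) ≃* Equiv.Perm (Fin 4)) := by
  apply Cfsg.Agent.S1012.result (card_normalizer_klein h U hU)
  intro g hg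
  rw [← Subgroup.orderOf_coe] at hg
  rcases orders h (g : G) with h1 | h1 | h1 | h1 | h1 <;> omega

end Cfsg.Agent.Lib.Helper6_G168
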