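import Mathlib
import Cfsg.Agent.Lib.Helper6_G168c

set_option autoImplicit false

/-!
# Structure of a simple group of order 168, part (d): maximal subgroups
-/

namespace Cfsg.Agent.Lib.Helper6_G168

open Subgroup Cfsg.Agent.Lib.Helper7_SmallSimple Cfsg.Agent.Lib.Helper7_SmallSimple2

section general

variable {G : Type*} [Group G] [Finite G]

/-- A subgroup of relative index at most 2 is normalized by the larger group. -/
theorem le_normalizer_of_relIndex_le_two {H K : Subgroup G} (hHK : H ≤ K)
    (h2 : H.relIndex K ≤ 2) : K ≤ normalizer (H : Set G) := by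
  have h5 := card_mul_relIndex hHK
  have hK : 0 < Nat.card K := Nat.card_pos
  have hpos : H.relIndex K ≠ 0 := by
    intro h0
    rw [h0, mul_zero] at h5
    omega
  rcases (by omega : H.relIndex K = 1 ∨ H.relIndex K = 2) with h1 | h1
  · exact (Subgroup.relIndex_eq_one.mp h1).trans le_normalizer
  · have hn : (H.subgroupOf K).Normal := normal_of_index_eq_two h1
    exact (Subgroup.normal_subgroupOf_iff_le_normalizer hHK).mp hn

end general

variable {G : Type*} [Group G] [Finite G] [IsSimpleGroup G]

theorem seven_le_index (h : Nat.card G = 168) (M : Subgroup G) (hM : M ≠ ⊤) : 7 ≤ M.index := by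
  have h1 := card_dvd_factorial_index M hM
  rw [h] at h1
  have h7 : 7 ∣ (M.index).factorial := dvd_trans (by norm_num) h1
  exact (Nat.Prime.dvd_factorial (by norm_num)).mp h7

theorem card_le_of_ne_top (h : Nat.card G = 168) (M : Subgroup G) (hM : M ≠ ⊤) :
    Nat.card M ≤ 24 := by
  have h1 := seven_le_index h M hM
  have h2 := Subgroup.card_mul_index M
  rw [h] at h2
  nlinarith

/-- The normalizer of a cyclic subgroup of order 2 or 4 is a 2-group. -/
theorem card_normalizer_zpowers_dvd (h : Nat.card G = 168) (u : G)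
    (hu : orderOf u = 2 ∨ orderOf u = 4) :
    Nat.card (normalizer ((zpowers u : Subgroup G) : Set G)) ∣ 8 := by
  have h1 := relIndex_dvd_totient (zpowers u)
  have hle : centralizer ((zpowers u : Subgroup G) : Set G)
      ≤ normalizer ((zpowers u : Subgroup G) : Set G) := Subgroup.centralizer_le_normalizer _
  have h2 := card_mul_relIndex hle
  rw [centralizer_zpowers_eq] at h1 h2
  rw [Nat.card_zpowers] at h1
  rcases hu with hu | hu
  · rw [hu] at h1
    rw [cent2 h u hu] at h2
    have : Nat.totient 2 = 1 := by decide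
    rw [this, Nat.dvd_one] at h1
    rw [h1] at h2
    rw [← h2]
  · rw [hu] at h1
    rw [cent4 h u hu] at h2
    have : Nat.totient 4 = 2 := by decide
    rw [this] at h1
    rw [← h2]
    have hle2 := Nat.le_of_dvd (by norm_num) h1
    have hne : (centralizer ({u} : Set G)).relIndex (normalizer ((zpowers u : Subgroup G) : Set G)) ≠ 0 := by
      intro h0
      rw [h0] at h1
      omega
    rcases (by omega : (centralizer ({u} : Set G)).relIndex
        (normalizer ((zpowers u : Subgroup G) : Set G)) = 1 ∨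
        (centralizer ({u} : Set G)).relIndex
        (normalizer ((zpowers u : Subgroup G) : Set G)) = 2) with h3 | h3
    · rw [h3]; norm_num
    · rw [h3]

/-- A subgroup of order 12 or 24 normalizes a Klein four-subgroup. -/
theorem exists_klein_normal (h : Nat.card G = 168) (M : Subgroup G)
    (hc : Nat.card M = 12 ∨ Nat.card M = 24) :
    ∃ V : Subgroup G, IsKleinFour ↥V ∧ M ≤ normalizer (V : Set G) := by
  haveI : Fact (Nat.Prime 2) := ⟨Nat.prime_two⟩
  have P' : Sylow 2 ↥M := default
  have hP'card : (Nat.card M = 12 ∧ Nat.card (P' : Subgroup M) = 4) ∨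
      (Nat.card M = 24 ∧ Nat.card (P' : Subgroup M) = 8) := by
    rcases hc with hc | hc
    · left
      exact ⟨hc, by simpa using card_sylow_eq P' 2 3 (by rw [hc]; norm_num) (by norm_num)⟩
    · right
      exact ⟨hc, by simpa using card_sylow_eq P' 3 3 (by rw [hc]; norm_num) (by norm_num)⟩
  have hidx : (P' : Subgroup M).index = 3 := by
    have h1 := Subgroup.card_mul_index (P' : Subgroup M)
    rcases hP'card with ⟨h2, h3⟩ | ⟨h2, h3⟩
    · rw [h2, h3] at h1; omega
    · rw [h2, h3] at h1; omega
  set C' := (P' : Subgroup M).normalCore with hC'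
  haveI hCn : C'.Normal := Subgroup.normalCore_normal _
  have hCle : C' ≤ (P' : Subgroup M) := Subgroup.normalCore_le _
  have hCidx : C'.index ∣ 6 := by
    rw [hC', Subgroup.normalCore_eq_ker, Subgroup.index_ker]
    have h1 := Subgroup.card_subgroup_dvd_card
      (MulAction.toPermHom ↥M (↥M ⧸ (P' : Subgroup M))).range
    rw [Nat.card_perm, ← Subgroup.index_eq_card, hidx] at h1
    exact h1
  have hCcard := Subgroup.card_mul_index C'
  have hCdvd := Subgroup.card_dvd_of_le hCle
  set V := C'.map M.subtype with hV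
  have hVcard : Nat.card V = Nat.card C' :=
    Subgroup.card_map_of_injective M.subtype_injective
  have hVM : V ≤ M := Subgroup.map_subtype_le _
  have hMN : M ≤ normalizer (V : Set G) := by
    have h1 := Subgroup.le_normalizer_map (H := C') M.subtype
    rw [Subgroup.normalizer_eq_top_iff.mpr hCn] at h1
    rw [← MonoidHom.range_eq_map, Subgroup.range_subtype] at h1
    exact h1
  have h3M : 3 ∣ Nat.card M := by
    rcases hc with hc | hc <;> rw [hc] <;> norm_num
  -- `V` is not cyclic of order 2 or 4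
  have hnotcyc : ∀ u : G, (orderOf u = 2 ∨ orderOf u = 4) → V ≠ zpowers u := by
    intro u hu hVu
    have h1 := card_normalizer_zpowers_dvd h u hu
    rw [← hVu] at h1
    have h2 := Subgroup.card_dvd_of_le hMN
    have h3 : 3 ∣ 8 := dvd_trans h3M (dvd_trans h2 h1)
    omega
  -- card V ∈ {2, 4, 8}
  have hVcases : Nat.card V = 2 ∨ Nat.card V = 4 ∨ (Nat.card V = 8 ∧ Nat.card M = 24) := by
    rw [hVcard]
    rcases hP'card with ⟨h2, h3⟩ | ⟨h2, h3⟩
    · rw [h3] at hCdvd
      rw [h2] at hCcard
      have hle := Nat.le_of_dvd (by norm_num) hCdvd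
      have hle6 := Nat.le_of_dvd (by norm_num) hCidx
      interval_cases hcc : Nat.card C' <;> omega
    · rw [h3] at hCdvd
      rw [h2] at hCcard
      have hle := Nat.le_of_dvd (by norm_num) hCdvd
      have hle6 := Nat.le_of_dvd (by norm_num) hCidx
      interval_cases hcc : Nat.card C' <;> omega
  rcases hVcases with h2 | h4 | ⟨h8, hM24⟩
  · -- order 2: cyclic
    exfalso
    haveI : Nontrivial V := by
      apply (Finite.one_lt_card_iff_nontrivial).mp
      rw [h2]; norm_num
    obtain ⟨u, hu⟩ := exists_ne (1 : V)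
    have hou : orderOf (u : G) = 2 := by
      have h1 : orderOf (u : G) ∣ 2 := by
        rw [← h2]; exact Subgroup.orderOf_dvd_natCard _ u.2
      have h3 : orderOf (u : G) ≠ 1 := by
        intro h3
        apply hu
        apply Subtype.ext
        exact orderOf_eq_one_iff.mp h3
      have := Nat.le_of_dvd (by norm_num) h1
      have := orderOf_pos (u : G)
      omega
    apply hnotcyc (u : G) (Or.inl hou)
    symm
    apply Subgroup.eq_of_le_of_card_ge
    · rw [zpowers_le]; exact u.2
    · rw [Nat.card_zpowers, hou, h2]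
  · by_cases hex : ∃ u ∈ V, orderOf u = 4
    · exfalso
      obtain ⟨u, huV, hou⟩ := hex
      apply hnotcyc u (Or.inr hou)
      symm
      apply Subgroup.eq_of_le_of_card_ge
      · rw [zpowers_le]; exact huV
      · rw [Nat.card_zpowers, hou, h4]
    · push Not at hex
      refine ⟨V, kleinFour_of V h4 ?_, hMN⟩
      intro x hx
      have h1 : orderOf x ∣ 4 := by
        rw [← h4]; exact Subgroup.orderOf_dvd_natCard _ hx
      have h2 := hex x hx
      have h3 : orderOf x ∣ 2 := by
        rcases orders h x with h5 | h5 | h5 | h5 | h5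
        · rw [h5]; norm_num
        · rw [h5]
        · rw [h5] at h1; omega
        · exact absurd h5 h2
        · rw [h5] at h1; omega
      exact orderOf_dvd_iff_pow_eq_one.mp h3
  · -- order 8: a normal Sylow 2-subgroup
    exfalso
    have hp : IsPGroup 2 V := IsPGroup.of_card (n := 3) (by rw [h8]; norm_num)
    obtain ⟨T, hVT⟩ := hp.exists_le_sylow
    have hVT' : V = (T : Subgroup G) :=
      Subgroup.eq_of_le_of_card_ge hVT (by rw [card_sylow2 h T, h8])
    rw [hVT', normalizer_sylow2 h T] at hMN
    have h1 := Subgroup.card_dvd_of_le hMN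
    rw [card_sylow2 h T, hM24] at h1
    omega

omit [Finite G] [IsSimpleGroup G] in
theorem mem_normalizer_of_map_conj_eq (H : Subgroup G) (g : G)
    (hg : H.map (MulAut.conj g).toMonoidHom = H) : g ∈ normalizer (H : Set G) := by
  apply inv_mem_iff.mp
  rw [mem_normalizer_iff]
  intro x
  rw [inv_inv]
  rw [← conj_map_mem, hg]

theorem card_normalizer_order3 (h : Nat.card G = 168) (y : G) (hy : orderOf y = 3) :
    Nat.card (normalizer ((zpowers y : Subgroup G) : Set G)) = 6 := by
  haveI : Fact (Nat.Prime 3) := ⟨by norm_num⟩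
  have e : 3 ^ (Nat.card G).factorization 3 = 3 := by
    have P0 : Sylow 3 G := default
    rw [← Sylow.card_eq_multiplicity P0, card_sylow3 h P0]
  have hc : Nat.card (zpowers y) = 3 ^ (Nat.card G).factorization 3 := by
    rw [e, Nat.card_zpowers, hy]
  have := card_normalizer3 h (Sylow.ofCard (zpowers y) hc)
  rw [Sylow.coe_ofCard] at this
  exact this

/-- The normalizer of a subgroup of order 3 lies in a subgroup of order 24. -/
theorem exists_card24_of_order3 (h : Nat.card G = 168) (y : G) (hy : orderOf y = 3) :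
    ∃ K : Subgroup G, Nat.card K = 24 ∧ normalizer ((zpowers y : Subgroup G) : Set G) ≤ K := by
  haveI : Fact (Nat.Prime 2) := ⟨Nat.prime_two⟩
  have T : Sylow 2 G := default
  have hne : Nonempty {U : Subgroup G // U ≤ (T : Subgroup G) ∧ IsKleinFour ↥U} := by
    rw [← Finite.card_pos_iff]
    have := card_klein h T
    omega
  obtain ⟨U, -, hU⟩ := hne
  obtain ⟨e⟩ := normalizer_klein_equiv h U hU
  set K0 := normalizer (U : Set G) with hK0
  set σ : Equiv.Perm (Fin 4) := c[0, 1, 2] with hσ
  set τ : Equiv.Perm (Fin 4) := Equiv.swap 0 1 with hτ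
  have hσ3 : orderOf σ = 3 := orderOf_eq_prime (by decide) (by decide)
  have hτ2 : orderOf τ = 2 := orderOf_eq_prime (by decide) (by decide)
  have hστ : τ * σ * τ⁻¹ = σ⁻¹ := by decide
  set y0 : G := ((e.symm σ : K0) : G) with hy0
  set t0 : G := ((e.symm τ : K0) : G) with ht0
  have hy03 : orderOf y0 = 3 := by
    rw [hy0, Subgroup.orderOf_coe, MulEquiv.orderOf_eq, hσ3]
  have ht02 : orderOf t0 = 2 := by
    rw [ht0, Subgroup.orderOf_coe, MulEquiv.orderOf_eq, hτ2]
  have hrel : t0 * y0 * t0⁻¹ = y0⁻¹ := by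
    have := congrArg (fun x => ((e.symm x : K0) : G)) hστ
    simpa using this
  obtain ⟨c, hc⟩ := isConj_iff.mp (conj_order3 h y0 y hy03 hy)
  refine ⟨K0.map (MulAut.conj c).toMonoidHom, ?_, ?_⟩
  · rw [card_map_conj, hK0, card_normalizer_klein h U hU]
  set K := K0.map (MulAut.conj c).toMonoidHom with hK
  set N := normalizer ((zpowers y : Subgroup G) : Set G) with hN
  have hN6 : Nat.card N = 6 := card_normalizer_order3 h y hy
  set t := c * t0 * c⁻¹ with ht
  have hot : orderOf t = 2 := by rw [ht, orderOf_conj_eq, ht02]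
  have hty : t * y * t⁻¹ = y⁻¹ := by
    rw [ht, ← hc]
    calc c * t0 * c⁻¹ * (c * y0 * c⁻¹) * (c * t0 * c⁻¹)⁻¹ = c * (t0 * y0 * t0⁻¹) * c⁻¹ := by group
      _ = (c * y0 * c⁻¹)⁻¹ := by rw [hrel]; group
  have hyK : y ∈ K := by
    rw [hK, conj_map_mem, ← hc]
    have : c⁻¹ * (c * y0 * c⁻¹) * c = y0 := by group
    rw [this]
    exact (e.symm σ).2
  have htK : t ∈ K := by
    rw [hK, conj_map_mem, ht]
    have : c⁻¹ * (c * t0 * c⁻¹) * c = t0 := by group
    rw [this]
    exact (e.symm τ).2
  have hyN : y ∈ N := le_normalizer (mem_zpowers y)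
  have htN : t ∈ N := by
    apply mem_normalizer_of_map_conj_eq
    rw [MonoidHom.map_zpowers]
    have : (MulAut.conj t).toMonoidHom y = y⁻¹ := by
      rw [MulEquiv.coe_toMonoidHom, MulAut.conj_apply, hty]
    rw [this, zpowers_inv]
  have h6 : 6 ∣ Nat.card (N ⊓ K : Subgroup G) := by
    have h2 : 2 ∣ Nat.card (N ⊓ K : Subgroup G) := by
      rw [← hot]; exact Subgroup.orderOf_dvd_natCard _ ⟨htN, htK⟩
    have h3 : 3 ∣ Nat.card (N ⊓ K : Subgroup G) := by
      rw [← hy]; exact Subgroup.orderOf_dvd_natCard _ ⟨hyN, hyK⟩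
    exact Nat.Coprime.mul_dvd_of_dvd_of_dvd (by norm_num) h2 h3
  have heq : (N ⊓ K : Subgroup G) = N := by
    apply Subgroup.eq_of_le_of_card_ge inf_le_left
    rw [hN6]
    exact Nat.le_of_dvd Nat.card_pos h6
  rw [← heq]
  exact inf_le_right

theorem card_normalizer_order7 (h : Nat.card G = 168) (y : G) (hy : orderOf y = 7) :
    Nat.card (normalizer ((zpowers y : Subgroup G) : Set G)) = 21 := by
  have e : 7 ^ (Nat.card G).factorization 7 = 7 := by
    have P0 : Sylow 7 G := default
    rw [← Sylow.card_eq_multiplicity P0, card_sylow7 h P0]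
  have hc : Nat.card (zpowers y) = 7 ^ (Nat.card G).factorization 7 := by
    rw [e, Nat.card_zpowers, hy]
  have := card_normalizer7 h (Sylow.ofCard (zpowers y) hc)
  rw [Sylow.coe_ofCard] at this
  exact this

theorem exists_klein (h : Nat.card G = 168) (T : Sylow 2 G) :
    ∃ U : Subgroup G, U ≤ (T : Subgroup G) ∧ IsKleinFour ↥U := by
  have hne : Nonempty {U : Subgroup G // U ≤ (T : Subgroup G) ∧ IsKleinFour ↥U} := by
    rw [← Finite.card_pos_iff]
    have := card_klein h T
    omega
  obtain ⟨U, h1, h2⟩ := hne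
  exact ⟨U, h1, h2⟩

theorem ne_top_of_card (h : Nat.card G = 168) (K : Subgroup G)
    (hK : Nat.card K = 21 ∨ Nat.card K = 24) : K ≠ ⊤ := by
  intro hK'
  rw [hK', Subgroup.card_top, h] at hK
  omega

/-- Every maximal subgroup has order 21 or 24. -/
theorem coatom_card (h : Nat.card G = 168) (M : Subgroup G) (hM : IsCoatom M) :
    Nat.card M = 21 ∨ Nat.card M = 24 := by
  have hle := card_le_of_ne_top h M hM.1
  have hdvd : Nat.card M ∣ 168 := by rw [← h]; exact Subgroup.card_subgroup_dvd_card M
  have hpos : 0 < Nat.card M := Nat.card_pos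
  have key : ∀ K : Subgroup G, (Nat.card K = 21 ∨ Nat.card K = 24) → M ≤ K →
      Nat.card M = 21 ∨ Nat.card M = 24 := by
    intro K hK hMK
    have hKtop : K ≠ ⊤ := ne_top_of_card h K hK
    have : M = K := by
      by_contra hne
      exact hKtop (hM.2 K (lt_of_le_of_ne hMK hne))
    rw [this]; exact hK
  by_cases h7 : 7 ∣ Nat.card M
  · obtain ⟨y, hy⟩ := exists_prime_orderOf_dvd_card' (G := M) 7 h7
    have hy7 : orderOf (y : G) = 7 := by rw [Subgroup.orderOf_coe]; exact hy
    have hPM : zpowers (y : G) ≤ M := by rw [zpowers_le]; exact y.2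
    by_cases h21 : Nat.card M = 21
    · left; exact h21
    · apply key (normalizer ((zpowers (y : G) : Subgroup G) : Set G))
        (Or.inl (card_normalizer_order7 h y hy7))
      apply le_normalizer_of_relIndex_le_two hPM
      have h5 := card_mul_relIndex hPM
      rw [Nat.card_zpowers, hy7] at h5
      omega
  by_cases h3 : 3 ∣ Nat.card M
  · haveI : Fact (Nat.Prime 3) := ⟨by norm_num⟩
    obtain ⟨y, hy⟩ := exists_prime_orderOf_dvd_card' (G := M) 3 h3
    have hy3 : orderOf (y : G) = 3 := by rw [Subgroup.orderOf_coe]; exact hy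
    have hPM : zpowers (y : G) ≤ M := by rw [zpowers_le]; exact y.2
    have hcases : Nat.card M = 3 ∨ Nat.card M = 6 ∨ Nat.card M = 12 ∨ Nat.card M = 24 := by
      interval_cases hcm : Nat.card M <;> omega
    have small : Nat.card M ≤ 6 → Nat.card M = 21 ∨ Nat.card M = 24 := by
      intro hsm
      obtain ⟨K, hK24, hNK⟩ := exists_card24_of_order3 h y hy3
      apply key K (Or.inr hK24)
      refine le_trans ?_ hNK
      apply le_normalizer_of_relIndex_le_two hPM
      have h5 := card_mul_relIndex hPM
      rw [Nat.card_zpowers, hy3] at h5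
      omega
    rcases hcases with h1 | h1 | h1 | h1
    · exact small (by omega)
    · exact small (by omega)
    · obtain ⟨V, hV, hMV⟩ := exists_klein_normal h M (Or.inl h1)
      exact key _ (Or.inr (card_normalizer_klein h V hV)) hMV
    · right; exact h1
  · exfalso
    have h8 : Nat.card M ∣ 8 := by
      interval_cases hcm : Nat.card M <;> omega
    obtain ⟨k, -, hk⟩ := (Nat.dvd_prime_pow Nat.prime_two (m := 3)).mp h8
    have hp : IsPGroup 2 M := IsPGroup.of_card (n := k) hk
    obtain ⟨T, hMT⟩ := hp.exists_le_sylow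
    obtain ⟨U, hUT, hU⟩ := exists_klein h T
    have := key _ (Or.inr (card_normalizer_klein h U hU)) (hMT.trans (klein_normal h T U hUT hU))
    have := Nat.le_of_dvd (by norm_num) h8
    omega

section general2

variable {G : Type*} [Group G]

theorem sylow_smul_eq_map {p : ℕ} (T : Sylow p G) (g : G) :
    ((g • T : Sylow p G) : Subgroup G) = (T : Subgroup G).map (MulAut.conj g).toMonoidHom := by
  ext x
  rw [conj_map_mem, Sylow.smul_def, Sylow.pointwise_smul_def,
    Subgroup.mem_pointwise_smul_iff_inv_smul_mem, MulAut.smul_def, MulAut.conj_inv_apply]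

theorem normalizer_map_conj (H : Subgroup G) (g : G) :
    normalizer ((H.map (MulAut.conj g).toMonoidHom : Subgroup G) : Set G)
      = (normalizer (H : Set G)).map (MulAut.conj g).toMonoidHom :=
  (Subgroup.map_normalizer_eq_of_bijective H (f := (MulAut.conj g).toMonoidHom)
    (MulAut.conj g).bijective).symm

theorem map_conj_inv_cancel (H : Subgroup G) (g : G) :
    (H.map (MulAut.conj g⁻¹).toMonoidHom).map (MulAut.conj g).toMonoidHom = H := by
  ext x
  rw [conj_map_mem, conj_map_mem]
  have : g⁻¹⁻¹ * (g⁻¹ * x * g) * g⁻¹ = x := by group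
  rw [this]

end general2

/-- Subgroups of order 21 and 24 are maximal. -/
theorem coatom_of_card (h : Nat.card G = 168) (K : Subgroup G)
    (hK : Nat.card K = 21 ∨ Nat.card K = 24) : IsCoatom K := by
  refine ⟨ne_top_of_card h K hK, ?_⟩
  intro K' hlt
  by_contra hne
  have hle := card_le_of_ne_top h K' hne
  have hdvd := Subgroup.card_dvd_of_le hlt.le
  have hpos : 0 < Nat.card K' := Nat.card_pos
  have heq : Nat.card K' = Nat.card K := by
    obtain ⟨r, hr⟩ := hdvd
    rcases hK with hK | hK
    · rw [hK] at hr ⊢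
      have : r = 1 := by
        rcases r with _ | _ | r
        · omega
        · rfl
        · omega
      omega
    · rw [hK] at hr ⊢
      have : r = 1 := by
        rcases r with _ | _ | r
        · omega
        · rfl
        · omega
      omega
  have := Subgroup.eq_of_le_of_card_ge hlt.le (le_of_eq heq)
  exact hlt.ne this

theorem s4_of_card24 (h : Nat.card G = 168) (M : Subgroup G) (hc : Nat.card M = 24) :
    Nonempty (↥M ≃* Equiv.Perm (Fin 4)) := by
  apply Cfsg.Agent.S1012.result hc
  intro g hg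
  rw [← Subgroup.orderOf_coe] at hg
  rcases orders h (g : G) with h1 | h1 | h1 | h1 | h1 <;> omega

theorem not_comm_of_card21 (h : Nat.card G = 168) (M : Subgroup G) (hc : Nat.card M = 21) :
    ¬ IsMulCommutative ↥M := by
  intro hcomm
  haveI : Fact (Nat.Prime 3) := ⟨by norm_num⟩
  obtain ⟨y, hy⟩ := exists_prime_orderOf_dvd_card' (G := M) 7 (by rw [hc]; norm_num)
  obtain ⟨x, hx⟩ := exists_prime_orderOf_dvd_card' (G := M) 3 (by rw [hc]; norm_num)
  have hy7 : orderOf (y : G) = 7 := by rw [Subgroup.orderOf_coe]; exact hy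
  have hx3 : orderOf (x : G) = 3 := by rw [Subgroup.orderOf_coe]; exact hx
  have hxy : x * y = y * x := hcomm.is_comm.comm x y
  have hxC : (x : G) ∈ centralizer ({(y : G)} : Set G) := by
    rw [mem_centralizer_singleton_iff]
    have := congrArg (fun z : M => (z : G)) hxy
    simpa using this
  have := Subgroup.orderOf_dvd_natCard _ hxC
  rw [cent7 h _ hy7, hx3] at this
  omega

theorem eq_normalizer_of_card21 (h : Nat.card G = 168) (M : Subgroup G) (hc : Nat.card M = 21) :
    ∃ Q : Sylow 7 G, M = normalizer ((Q : Subgroup G) : Set G) := by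
  have P7 : Sylow 7 ↥M := default
  have hP7 : Nat.card (P7 : Subgroup M) = 7 := by
    simpa using card_sylow_eq P7 1 3 (by rw [hc]; norm_num) (by norm_num)
  have hidx : (P7 : Subgroup M).index = 3 := by
    have h1 := Subgroup.card_mul_index (P7 : Subgroup M)
    rw [hP7, hc] at h1; omega
  have h1 := card_sylow_modEq_one 7 ↥M
  have h2 := Sylow.card_dvd_index P7
  rw [hidx] at h2
  have h3 : Nat.card (Sylow 7 ↥M) = 1 := by
    have := Nat.le_of_dvd (by norm_num) h2
    unfold Nat.ModEq at h1
    interval_cases hcc : Nat.card (Sylow 7 ↥M) <;> omega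
  haveI : Subsingleton (Sylow 7 ↥M) := (Nat.card_eq_one_iff_unique.mp h3).1
  have hn : (P7 : Subgroup M).Normal := Sylow.normal_of_subsingleton P7
  set Q0 := (P7 : Subgroup M).map M.subtype with hQ0
  have hQ0c : Nat.card Q0 = 7 := by
    rw [hQ0, Subgroup.card_map_of_injective M.subtype_injective]; exact hP7
  have hMN : M ≤ normalizer (Q0 : Set G) := by
    have h1 := Subgroup.le_normalizer_map (H := (P7 : Subgroup M)) M.subtype
    rw [Subgroup.normalizer_eq_top_iff.mpr hn] at h1
    rw [← MonoidHom.range_eq_map, Subgroup.range_subtype] at h1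
    exact h1
  have e : 7 ^ (Nat.card G).factorization 7 = 7 := by
    have P0 : Sylow 7 G := default
    rw [← Sylow.card_eq_multiplicity P0, card_sylow7 h P0]
  refine ⟨Sylow.ofCard Q0 (by rw [e, hQ0c]), ?_⟩
  apply Subgroup.eq_of_le_of_card_ge
  · rw [Sylow.coe_ofCard]; exact hMN
  · rw [card_normalizer7 h, hc]

theorem conj_of_card21 (h : Nat.card G = 168) (M M' : Subgroup G) (hc : Nat.card M = 21)
    (hc' : Nat.card M' = 21) : ∃ g : G, M' = M.map (MulAut.conj g).toMonoidHom := by
  obtain ⟨Q, hQ⟩ := eq_normalizer_of_card21 h M hc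
  obtain ⟨Q', hQ'⟩ := eq_normalizer_of_card21 h M' hc'
  obtain ⟨g, hg⟩ := MulAction.exists_smul_eq G Q Q'
  refine ⟨g, ?_⟩
  rw [hQ', hQ, ← normalizer_map_conj, ← sylow_smul_eq_map, hg]

/-- A Klein four-subgroup is determined by its normalizer. -/
theorem klein_eq_of_normalizer_eq (h : Nat.card G = 168) (V V' : Subgroup G)
    (hV : IsKleinFour ↥V) (hV' : IsKleinFour ↥V')
    (heq : normalizer (V : Set G) = normalizer (V' : Set G)) : V = V' := by
  by_contra hne
  set K := normalizer (V : Set G) with hK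
  have hK24 : Nat.card K = 24 := card_normalizer_klein h V hV
  have hp : IsPGroup 2 V := IsPGroup.of_card (n := 2) (by rw [hV.card_four]; norm_num)
  have hp' : IsPGroup 2 V' := IsPGroup.of_card (n := 2) (by rw [hV'.card_four]; norm_num)
  have hVN : V ≤ normalizer (V' : Set G) := by rw [← heq]; exact le_normalizer
  have hW : IsPGroup 2 (V ⊔ V' : Subgroup G) := IsPGroup.to_sup_of_normal_right' hp hp' hVN
  obtain ⟨T, hWT⟩ := hW.exists_le_sylow
  have hKW : K ≤ normalizer ((V ⊔ V' : Subgroup G) : Set G) := by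
    intro k hk
    apply mem_normalizer_of_map_conj_eq
    rw [Subgroup.map_sup, map_conj_eq_of_mem_normalizer V k hk,
      map_conj_eq_of_mem_normalizer V' k (by rw [← heq]; exact hk)]
  have hWc : Nat.card (V ⊔ V' : Subgroup G) = 8 := by
    have h1 := Subgroup.card_dvd_of_le hWT
    rw [card_sylow2 h T] at h1
    have h2 := Subgroup.card_dvd_of_le (le_sup_left : V ≤ V ⊔ V')
    rw [hV.card_four] at h2
    have h3 : Nat.card (V ⊔ V' : Subgroup G) ≠ 4 := by
      intro h4
      apply hne
      have e1 : V = V ⊔ V' :=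
        Subgroup.eq_of_le_of_card_ge le_sup_left (by rw [h4, hV.card_four])
      have e2 : V' = V ⊔ V' :=
        Subgroup.eq_of_le_of_card_ge le_sup_right (by rw [h4, hV'.card_four])
      exact e1.trans e2.symm
    have h4 := Nat.le_of_dvd (by norm_num) h1
    have hpos : 0 < Nat.card (V ⊔ V' : Subgroup G) := Nat.card_pos
    interval_cases hcc : Nat.card (V ⊔ V' : Subgroup G) <;> omega
  have hWT' : (V ⊔ V' : Subgroup G) = (T : Subgroup G) :=
    Subgroup.eq_of_le_of_card_ge hWT (by rw [card_sylow2 h T, hWc])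
  rw [hWT', normalizer_sylow2 h T] at hKW
  have := Subgroup.card_dvd_of_le hKW
  rw [hK24, card_sylow2 h T] at this
  omega

omit [Finite G] [IsSimpleGroup G] in
theorem klein_map_conj (U : Subgroup G) (hU : IsKleinFour ↥U) (g : G) :
    IsKleinFour ↥(U.map (MulAut.conj g).toMonoidHom) := by
  apply kleinFour_of _ (by rw [card_map_conj, hU.card_four])
  intro x hx
  rw [conj_map_mem] at hx
  have h1 := sq_of_klein U hU _ hx
  have h2 : x ^ 2 = g * (g⁻¹ * x * g) ^ 2 * g⁻¹ := by
    rw [pow_two, pow_two]; group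
  rw [h2, h1]; group

/-- The maximal subgroups isomorphic to the symmetric group of degree 4 form two classes. -/
theorem maximal_s4_classes (h : Nat.card G = 168) :
    ∃ M₁ M₂ : Subgroup G, IsCoatom M₁ ∧ IsCoatom M₂ ∧
      Nonempty (↥M₁ ≃* Equiv.Perm (Fin 4)) ∧ Nonempty (↥M₂ ≃* Equiv.Perm (Fin 4)) ∧
      (∀ g : G, M₂ ≠ M₁.map (MulAut.conj g).toMonoidHom) ∧
      ∀ M : Subgroup G, IsCoatom M → Nonempty (↥M ≃* Equiv.Perm (Fin 4)) →
        ∃ g : G, M = M₁.map (MulAut.conj g).toMonoidHom ∨
          M = M₂.map (MulAut.conj g).toMonoidHom := by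
  haveI : Fact (Nat.Prime 2) := ⟨Nat.prime_two⟩
  have T : Sylow 2 G := default
  obtain ⟨⟨U1, hU1T, hU1⟩, ⟨U2, hU2T, hU2⟩, hne, huniv⟩ :=
    Nat.card_eq_two_iff.mp (card_klein h T)
  have hne' : U1 ≠ U2 := fun hh => hne (Subtype.ext hh)
  have hall : ∀ V : Subgroup G, V ≤ (T : Subgroup G) → IsKleinFour ↥V → V = U1 ∨ V = U2 := by
    intro V hVT hV
    have hmem : (⟨V, hVT, hV⟩ : {U : Subgroup G // U ≤ (T : Subgroup G) ∧ IsKleinFour ↥U})
        ∈ (Set.univ : Set _) := Set.mem_univ _
    rw [← huniv] at hmem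
    rcases hmem with h1 | h1
    · left; exact congrArg Subtype.val h1
    · right; exact congrArg Subtype.val h1
  refine ⟨normalizer (U1 : Set G), normalizer (U2 : Set G),
    coatom_of_card h _ (Or.inr (card_normalizer_klein h U1 hU1)),
    coatom_of_card h _ (Or.inr (card_normalizer_klein h U2 hU2)),
    normalizer_klein_equiv h U1 hU1, normalizer_klein_equiv h U2 hU2, ?_, ?_⟩
  · intro g hg
    rw [← normalizer_map_conj] at hg
    have hK : IsKleinFour ↥(U1.map (MulAut.conj g).toMonoidHom) := klein_map_conj U1 hU1 g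
    have := klein_eq_of_normalizer_eq h U2 _ hU2 hK hg
    exact klein_not_conj h T U1 U2 hU1T hU2T hU1 hU2 hne' g this.symm
  · rintro M hM ⟨e⟩
    have hc : Nat.card M = 24 := by
      rw [Nat.card_congr e.toEquiv, Nat.card_perm, Nat.card_fin]; rfl
    obtain ⟨V, hV, hMV⟩ := exists_klein_normal h M (Or.inr hc)
    have hMeq : M = normalizer (V : Set G) :=
      Subgroup.eq_of_le_of_card_ge hMV (by rw [card_normalizer_klein h V hV, hc])
    have hp : IsPGroup 2 V := IsPGroup.of_card (n := 2) (by rw [hV.card_four]; norm_num)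
    obtain ⟨T', hVT'⟩ := hp.exists_le_sylow
    obtain ⟨g, hg⟩ := MulAction.exists_smul_eq G T T'
    refine ⟨g, ?_⟩
    set V0 := V.map (MulAut.conj g⁻¹).toMonoidHom with hV0
    have hV0K : IsKleinFour ↥V0 := klein_map_conj V hV g⁻¹
    have hV0T : V0 ≤ (T : Subgroup G) := by
      intro x hx
      rw [hV0, conj_map_mem, inv_inv] at hx
      have h1 := hVT' hx
      rw [← hg, sylow_smul_eq_map, conj_map_mem] at h1
      have e1 : g⁻¹ * (g * x * g⁻¹) * g = x := by group
      rwa [e1] at h1
    have hVeq : V = V0.map (MulAut.conj g).toMonoidHom := (map_conj_inv_cancel V g).symm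
    rcases hall V0 hV0T hV0K with h1 | h1
    · left; rw [hMeq, hVeq, h1, normalizer_map_conj]
    · right; rw [hMeq, hVeq, h1, normalizer_map_conj]

end Cfsg.Agent.Lib.Helper6_G168
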