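import Mathlib

set_option autoImplicit false

/-!
# The standard copy of the simple group of order 168 acting on the projective line over `ZMod 7`
-/

namespace Cfsg.Agent.Lib.Helper6_G168

/-- The points of the projective line over `ZMod 7`. -/
abbrev PL7 := Option (ZMod 7)

/-- Translation `z ↦ z + 1`. -/
def permY : Equiv.Perm PL7 :=
  ⟨fun o => o.map (fun k => k + 1), fun o => o.map (fun k => k + 6), by decide, by decide⟩

/-- Multiplication `z ↦ 2 z`. -/
def permX : Equiv.Perm PL7 :=
  ⟨fun o => o.map (fun k => 2 * k), fun o => o.map (fun k => 4 * k), by decide, by decide⟩

/-- The inversion `z ↦ c / z` (written with `z⁻¹ = z ^ 5`). -/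
def invFun7 (c : ZMod 7) : PL7 → PL7
  | none => some 0
  | some k => if k = 0 then none else some (c * k ^ 5)

def permT3 : Equiv.Perm PL7 := ⟨invFun7 3, invFun7 3, by decide, by decide⟩
def permT5 : Equiv.Perm PL7 := ⟨invFun7 5, invFun7 5, by decide, by decide⟩
def permT6 : Equiv.Perm PL7 := ⟨invFun7 6, invFun7 6, by decide, by decide⟩

theorem permT5_eq : permT5 = permX * permT3 * permX⁻¹ := by
  apply Equiv.ext
  decide

theorem permT6_eq : permT6 = permX * permT5 * permX⁻¹ := by
  apply Equiv.ext
  decide

theorem permT3_eq : permT3 = permX * permT6 * permX⁻¹ := by
  apply Equiv.ext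
  decide

/-- The standard group. -/
def stdGroup : Subgroup (Equiv.Perm PL7) := Subgroup.closure {permY, permX, permT3}

theorem closure_T5 : Subgroup.closure {permY, permX, permT5} = stdGroup := by
  unfold stdGroup
  apply le_antisymm
  · rw [Subgroup.closure_le]
    rintro g (rfl | rfl | rfl)
    · exact Subgroup.subset_closure (by simp)
    · exact Subgroup.subset_closure (by simp)
    · rw [permT5_eq]
      have hX : permX ∈ Subgroup.closure {permY, permX, permT3} :=
        Subgroup.subset_closure (by simp)
      have hT : permT3 ∈ Subgroup.closure {permY, permX, permT3} :=
        Subgroup.subset_closure (by simp)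
      exact mul_mem (mul_mem hX hT) (inv_mem hX)
  · rw [Subgroup.closure_le]
    rintro g (rfl | rfl | rfl)
    · exact Subgroup.subset_closure (by simp)
    · exact Subgroup.subset_closure (by simp)
    · rw [permT3_eq, permT6_eq]
      have hX : permX ∈ Subgroup.closure {permY, permX, permT5} :=
        Subgroup.subset_closure (by simp)
      have hT : permT5 ∈ Subgroup.closure {permY, permX, permT5} :=
        Subgroup.subset_closure (by simp)
      exact mul_mem (mul_mem hX (mul_mem (mul_mem hX hT) (inv_mem hX))) (inv_mem hX)

theorem closure_T6 : Subgroup.closure {permY, permX, permT6} = stdGroup := by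
  unfold stdGroup
  apply le_antisymm
  · rw [Subgroup.closure_le]
    rintro g (rfl | rfl | rfl)
    · exact Subgroup.subset_closure (by simp)
    · exact Subgroup.subset_closure (by simp)
    · rw [permT6_eq, permT5_eq]
      have hX : permX ∈ Subgroup.closure {permY, permX, permT3} :=
        Subgroup.subset_closure (by simp)
      have hT : permT3 ∈ Subgroup.closure {permY, permX, permT3} :=
        Subgroup.subset_closure (by simp)
      exact mul_mem (mul_mem hX (mul_mem (mul_mem hX hT) (inv_mem hX))) (inv_mem hX)
  · rw [Subgroup.closure_le]
    rintro g (rfl | rfl | rfl)
    · exact Subgroup.subset_closure (by simp)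
    · exact Subgroup.subset_closure (by simp)
    · rw [permT3_eq]
      have hX : permX ∈ Subgroup.closure {permY, permX, permT6} :=
        Subgroup.subset_closure (by simp)
      have hT : permT6 ∈ Subgroup.closure {permY, permX, permT6} :=
        Subgroup.subset_closure (by simp)
      exact mul_mem (mul_mem hX hT) (inv_mem hX)

/-- A fixed-point-free involution swapping `∞` and `0` and inverting `z ↦ 2 z` is one of the three
inversions `z ↦ c / z` with `c` a non-square. -/
theorem inversion_cases (σ : Equiv.Perm PL7) (h1 : σ none = some 0)
    (h2 : ∀ z, σ (permX z) = permX.symm (σ z)) (h3 : ∀ z, σ (σ z) = z) (h4 : ∀ z, σ z ≠ z) :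
    σ = permT3 ∨ σ = permT5 ∨ σ = permT6 := by
  have h0 : σ (some 0) = none := by
    have := h3 none
    rwa [h1] at this
  rcases hw : σ (some 1) with _ | k
  · exfalso
    have : σ (some 1) = σ (some 0) := by rw [hw, h0]
    have := σ.injective this
    exact absurd this (by decide)
  fin_cases k
  · exfalso
    have : σ (some 1) = σ none := by rw [hw, h1]; rfl
    have := σ.injective this
    exact absurd this (by decide)
  · exfalso
    exact absurd hw (h4 (some 1))
  · exfalso
    have e2 : σ (some 2) = some 1 := by
      have := h2 (some 1)
      rw [hw] at this
      exact this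
    have e4 : σ (some 4) = some 4 := by
      have := h2 (some 2)
      rw [e2] at this
      exact this
    exact absurd e4 (h4 (some 4))
  · left
    have e2 : σ (some 2) = some 5 := by
      have := h2 (some 1)
      rw [hw] at this
      exact this
    have e4 : σ (some 4) = some 6 := by
      have := h2 (some 2)
      rw [e2] at this
      exact this
    have f1 : σ (some 3) = some 1 := by
      have := h3 (some 1)
      rwa [hw] at this
    have f2 : σ (some 5) = some 2 := by
      have := h3 (some 2)
      rwa [e2] at this
    have f4 : σ (some 6) = some 4 := by
      have := h3 (some 4)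
      rwa [e4] at this
    apply Equiv.ext
    intro z
    rcases z with _ | k
    · exact h1
    · fin_cases k
      · exact h0
      · exact hw
      · exact e2
      · exact f1
      · exact e4
      · exact f2
      · exact f4
  · exfalso
    have e2 : σ (some 2) = some 2 := by
      have := h2 (some 1)
      rw [hw] at this
      exact this
    exact absurd e2 (h4 (some 2))
  · right; left
    have e2 : σ (some 2) = some 6 := by
      have := h2 (some 1)
      rw [hw] at this
      exact this
    have e4 : σ (some 4) = some 3 := by
      have := h2 (some 2)
      rw [e2] at this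
      exact this
    have f1 : σ (some 5) = some 1 := by
      have := h3 (some 1)
      rwa [hw] at this
    have f2 : σ (some 6) = some 2 := by
      have := h3 (some 2)
      rwa [e2] at this
    have f4 : σ (some 3) = some 4 := by
      have := h3 (some 4)
      rwa [e4] at this
    apply Equiv.ext
    intro z
    rcases z with _ | k
    · exact h1
    · fin_cases k
      · exact h0
      · exact hw
      · exact e2
      · exact f4
      · exact e4
      · exact f1
      · exact f2
  · right; right
    have e2 : σ (some 2) = some 3 := by
      have := h2 (some 1)
      rw [hw] at this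
      exact this
    have e4 : σ (some 4) = some 5 := by
      have := h2 (some 2)
      rw [e2] at this
      exact this
    have f1 : σ (some 6) = some 1 := by
      have := h3 (some 1)
      rwa [hw] at this
    have f2 : σ (some 3) = some 2 := by
      have := h3 (some 2)
      rwa [e2] at this
    have f4 : σ (some 5) = some 4 := by
      have := h3 (some 4)
      rwa [e4] at this
    apply Equiv.ext
    intro z
    rcases z with _ | k
    · exact h1
    · fin_cases k
      · exact h0
      · exact hw
      · exact e2
      · exact f2
      · exact e4
      · exact f4
      · exact f1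

end Cfsg.Agent.Lib.Helper6_G168
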