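import Mathlib
import Cfsg.Agent.Lib.Helper6_G168d
import Cfsg.Agent.Lib.Helper6_G168e

set_option autoImplicit false

/-!
# Uniqueness of the simple group of order 168
-/

namespace Cfsg.Agent.Lib.Helper6_G168

open Subgroup Cfsg.Agent.Lib.Helper7_SmallSimple Cfsg.Agent.Lib.Helper7_SmallSimple2

variable {G : Type*} [Group G] [Finite G] [IsSimpleGroup G]

/-- A generator `y` of a Sylow 7-subgroup and an element `x` of order 3 with `x y x⁻¹ = y²`. -/
theorem exists_frobenius_pair (h : Nat.card G = 168) (P : Sylow 7 G) :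
    ∃ y x : G, orderOf y = 7 ∧ zpowers y = (P : Subgroup G) ∧ orderOf x = 3 ∧
      x * y * x⁻¹ = y ^ 2 ∧ x ∈ normalizer ((P : Subgroup G) : Set G) := by
  haveI : Fact (Nat.Prime 3) := ⟨by norm_num⟩
  have hP7 := card_sylow7 h P
  haveI : Nontrivial ↥(P : Subgroup G) := by
    apply (Finite.one_lt_card_iff_nontrivial).mp
    rw [hP7]; norm_num
  obtain ⟨y0, hy0⟩ := exists_ne (1 : ↥(P : Subgroup G))
  set y : G := (y0 : G) with hy
  have hyP : y ∈ (P : Subgroup G) := y0.2
  have hy1 : y ≠ 1 := fun hh => hy0 (Subtype.ext hh)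
  have hoy : orderOf y = 7 := by
    have h1 : orderOf y ∣ 7 := by rw [← hP7]; exact Subgroup.orderOf_dvd_natCard _ hyP
    rcases (Nat.dvd_prime (by norm_num : Nat.Prime 7)).mp h1 with h2 | h2
    · exact absurd (orderOf_eq_one_iff.mp h2) hy1
    · exact h2
  have hzy : zpowers y = (P : Subgroup G) := by
    apply Subgroup.eq_of_le_of_card_ge
    · rw [zpowers_le]; exact hyP
    · rw [Nat.card_zpowers, hoy, hP7]
  have hy7 : y ^ 7 = 1 := by rw [← hoy]; exact pow_orderOf_eq_one y
  have hN := card_normalizer7 h P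
  obtain ⟨x0', hx0'⟩ := exists_prime_orderOf_dvd_card'
    (G := normalizer ((P : Subgroup G) : Set G)) 3 (by rw [hN]; norm_num)
  set x0 : G := (x0' : G) with hx0
  have hox0 : orderOf x0 = 3 := by rw [hx0, Subgroup.orderOf_coe]; exact hx0'
  have hx0N : x0 ∈ normalizer ((P : Subgroup G) : Set G) := x0'.2
  have hx03 : x0 ^ 3 = 1 := by rw [← hox0]; exact pow_orderOf_eq_one x0
  -- `x0 y x0⁻¹ = y ^ k`
  have hconj : x0 * y * x0⁻¹ ∈ zpowers y := by
    rw [hzy]
    exact (mem_normalizer_iff.mp hx0N y).mp hyP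
  obtain ⟨z, hz⟩ := mem_zpowers_iff.mp hconj
  obtain ⟨k, hk⟩ : ∃ k : ℕ, k = (z % 7).toNat := ⟨_, rfl⟩
  have hk7 : k < 7 := by omega
  have hyk : y ^ k = x0 * y * x0⁻¹ := by
    rw [← hz, ← zpow_natCast, hk, Int.toNat_of_nonneg (by omega)]
    have := zpow_mod_orderOf y z
    rw [hoy] at this
    exact this
  -- `k ^ 3 ≡ 1 mod 7`
  have hk3 : y ^ (k ^ 3) = y ^ 1 := by
    have e1 : x0 * y ^ k * x0⁻¹ = y ^ (k ^ 2) := by
      rw [← conj_pow, ← hyk, ← pow_mul, pow_two]
    have e2 : x0 * y ^ (k ^ 2) * x0⁻¹ = y ^ (k ^ 3) := by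
      rw [← conj_pow, ← hyk, ← pow_mul]
      congr 1
      ring
    have e3 : y ^ (k ^ 3) = x0 * (x0 * (x0 * y * x0⁻¹) * x0⁻¹) * x0⁻¹ := by
      rw [← e2, ← e1, hyk]
    have e4 : x0 * (x0 * (x0 * y * x0⁻¹) * x0⁻¹) * x0⁻¹ = x0 ^ 3 * y * (x0 ^ 3)⁻¹ := by
      simp only [pow_succ, pow_zero, one_mul, mul_inv_rev, mul_assoc]
    rw [e3, e4, hx03]
    group
  rw [pow_eq_pow_iff_modEq, hoy] at hk3
  unfold Nat.ModEq at hk3
  have hkcases : k = 1 ∨ k = 2 ∨ k = 4 := by
    clear hyk hk
    interval_cases k <;> simp_all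
  rcases hkcases with h1 | h1 | h1
  · -- `x0` centralizes `y`: impossible
    exfalso
    rw [h1, pow_one] at hyk
    have hc : x0 ∈ centralizer ({y} : Set G) := by
      rw [mem_centralizer_singleton_iff]
      calc x0 * y = x0 * y * x0⁻¹ * x0 := by group
        _ = y * x0 := by rw [← hyk]
    have := Subgroup.orderOf_dvd_natCard _ hc
    rw [cent7 h y hoy, hox0] at this
    omega
  · exact ⟨y, x0, hoy, hzy, hox0, by rw [← hyk, h1], hx0N⟩
  · refine ⟨y, x0 ^ 2, hoy, hzy, ?_, ?_, pow_mem hx0N 2⟩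
    · have : (orderOf x0).Coprime 2 := by rw [hox0]; norm_num
      rw [this.orderOf_pow, hox0]
    · rw [h1] at hyk
      have e1 : x0 ^ 2 * y * (x0 ^ 2)⁻¹ = x0 * (x0 * y * x0⁻¹) * x0⁻¹ := by
        simp only [pow_succ, pow_zero, one_mul, mul_inv_rev, mul_assoc]
      rw [e1, ← hyk, ← conj_pow, ← hyk, ← pow_mul]
      have : y ^ (4 * 4) = y ^ 2 * (y ^ 7) ^ 2 := by
        rw [← pow_mul, ← pow_add]
      rw [this, hy7, one_pow, mul_one]

/-- A non-identity element of the Sylow 7-subgroup `P` normalizes no other Sylow 7-subgroup. -/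
theorem eq_one_of_smul_eq (h : Nat.card G = 168) (P Q : Sylow 7 G) (hQP : Q ≠ P) (g : G)
    (hgP : g ∈ (P : Subgroup G)) (hfix : g • Q = Q) : g = 1 := by
  by_contra hne
  have hP7 := card_sylow7 h P
  have hog : orderOf g = 7 := by
    have h1 : orderOf g ∣ 7 := by rw [← hP7]; exact Subgroup.orderOf_dvd_natCard _ hgP
    rcases (Nat.dvd_prime (by norm_num : Nat.Prime 7)).mp h1 with h2 | h2
    · exact absurd (orderOf_eq_one_iff.mp h2) hne
    · exact h2
  have hzg : zpowers g = (P : Subgroup G) := by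
    apply Subgroup.eq_of_le_of_card_ge
    · rw [zpowers_le]; exact hgP
    · rw [Nat.card_zpowers, hog, hP7]
  have hgN : g ∈ normalizer ((Q : Subgroup G) : Set G) := Sylow.smul_eq_iff_mem_normalizer.mp hfix
  have hPN : (P : Subgroup G) ≤ normalizer ((Q : Subgroup G) : Set G) := by
    rw [← hzg, zpowers_le]; exact hgN
  exact hQP (Cfsg.Agent.S1003.sylow_eq_of_le_normalizer Q P hPN).symm

/-- An element of order 3 normalizing `P` normalizes a second Sylow 7-subgroup. -/
theorem exists_second_fixed (h : Nat.card G = 168) (P : Sylow 7 G) (x : G) (hx : orderOf x = 3) :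
    ∃ Q : Sylow 7 G, Q ≠ P ∧ x • Q = Q := by
  haveI : Fact (Nat.Prime 3) := ⟨by norm_num⟩
  have hp : IsPGroup 3 (zpowers x) := IsPGroup.of_card (n := 1) (by rw [Nat.card_zpowers, hx]; norm_num)
  have h1 := hp.card_modEq_card_fixedPoints (Sylow 7 G)
  rw [(Cfsg.Agent.S1003.result h).2.2] at h1
  have h2 : 1 < Nat.card (MulAction.fixedPoints (zpowers x) (Sylow 7 G)) := by
    unfold Nat.ModEq at h1
    have : Nat.card (MulAction.fixedPoints (zpowers x) (Sylow 7 G)) % 3 = 2 := by
      rw [← h1]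
    omega
  haveI : Nontrivial (MulAction.fixedPoints (zpowers x) (Sylow 7 G)) :=
    (Finite.one_lt_card_iff_nontrivial).mp h2
  by_cases hPf : P ∈ MulAction.fixedPoints (zpowers x) (Sylow 7 G)
  · obtain ⟨Q, hQ⟩ := exists_ne (⟨P, hPf⟩ : MulAction.fixedPoints (zpowers x) (Sylow 7 G))
    refine ⟨Q.1, fun hh => hQ (Subtype.ext hh), ?_⟩
    exact Q.2 ⟨x, mem_zpowers x⟩
  · obtain ⟨Q⟩ : Nonempty (MulAction.fixedPoints (zpowers x) (Sylow 7 G)) := inferInstance
    refine ⟨Q.1, fun hh => hPf (hh ▸ Q.2), ?_⟩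
    exact Q.2 ⟨x, mem_zpowers x⟩

/-- The labelling of the Sylow 7-subgroups by the projective line. -/
noncomputable def label (P Q₀ : Sylow 7 G) (y : G) : PL7 → Sylow 7 G
  | none => P
  | some k => y ^ k.val • Q₀

theorem label_injective (h : Nat.card G = 168) (P Q₀ : Sylow 7 G) (hQP : Q₀ ≠ P) (y : G)
    (hy : orderOf y = 7) (hyP : zpowers y = (P : Subgroup G)) :
    Function.Injective (label P Q₀ y) := by
  have hyP' : y ∈ (P : Subgroup G) := by rw [← hyP]; exact mem_zpowers y
  have hyfix : ∀ n : ℕ, y ^ n • P = P := by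
    intro n
    rw [Sylow.smul_eq_iff_mem_normalizer]
    exact le_normalizer (pow_mem hyP' n)
  have key : ∀ a b : ℕ, a ≤ b → b < 7 → y ^ a • Q₀ = y ^ b • Q₀ → a = b := by
    intro a b hab hb heq
    have h1 : y ^ (b - a) • Q₀ = Q₀ := by
      have h2 : y ^ b = y ^ a * y ^ (b - a) := by rw [← pow_add]; congr 1; omega
      rw [h2, mul_smul] at heq
      exact (smul_left_cancel _ heq).symm
    have h3 := eq_one_of_smul_eq h P Q₀ hQP (y ^ (b - a)) (pow_mem hyP' _) h1
    have h4 := orderOf_dvd_of_pow_eq_one h3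
    rw [hy] at h4
    have := Nat.eq_zero_of_dvd_of_lt h4 (by omega)
    omega
  intro u v huv
  rcases u with _ | i <;> rcases v with _ | j
  · rfl
  · exfalso
    change P = y ^ j.val • Q₀ at huv
    apply hQP
    have h1 : (y ^ j.val)⁻¹ • P = Q₀ := by rw [huv, inv_smul_smul]
    rw [← h1, ← hyfix j.val, inv_smul_smul, hyfix]
  · exfalso
    change y ^ i.val • Q₀ = P at huv
    apply hQP
    have h1 : (y ^ i.val)⁻¹ • P = Q₀ := by rw [← huv, inv_smul_smul]
    rw [← h1, ← hyfix i.val, inv_smul_smul, hyfix]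
  · change y ^ i.val • Q₀ = y ^ j.val • Q₀ at huv
    have hi : i.val < 7 := ZMod.val_lt i
    have hj : j.val < 7 := ZMod.val_lt j
    congr 1
    apply ZMod.val_injective 7
    rcases le_total i.val j.val with hle | hle
    · exact key _ _ hle hj huv
    · exact (key _ _ hle hi huv.symm).symm

theorem label_bijective (h : Nat.card G = 168) (P Q₀ : Sylow 7 G) (hQP : Q₀ ≠ P) (y : G)
    (hy : orderOf y = 7) (hyP : zpowers y = (P : Subgroup G)) :
    Function.Bijective (label P Q₀ y) := by
  apply (label_injective h P Q₀ hQP y hy hyP).bijective_of_nat_card_le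
  rw [(Cfsg.Agent.S1003.result h).2.2, Nat.card_eq_fintype_card]
  decide

/-- The permutation representation on the labelled Sylow 7-subgroups. -/
noncomputable def stdHom (e : PL7 ≃ Sylow 7 G) : G →* Equiv.Perm PL7 :=
  (Equiv.permCongrHom e.symm).toMonoidHom.comp (MulAction.toPermHom G (Sylow 7 G))

omit [Finite G] [IsSimpleGroup G] in
theorem stdHom_apply (e : PL7 ≃ Sylow 7 G) (g : G) (z : PL7) :
    stdHom e g z = e.symm (g • e z) := rfl

omit [Finite G] [IsSimpleGroup G] in
theorem pow_val_natCast (y : G) (hy : orderOf y = 7) (n : ℕ) :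
    y ^ ((n : ZMod 7).val) = y ^ n := by
  rw [ZMod.val_natCast]
  have := pow_mod_orderOf y n
  rw [hy] at this
  exact this

/-- An involution inverting an element of order 3. -/
theorem exists_inverting_involution (h : Nat.card G = 168) (x : G) (hx : orderOf x = 3) :
    ∃ t : G, orderOf t = 2 ∧ t * x * t⁻¹ = x⁻¹ := by
  have hN := card_normalizer_order3 h x hx
  obtain ⟨t', ht'⟩ := exists_prime_orderOf_dvd_card'
    (G := normalizer ((zpowers x : Subgroup G) : Set G)) 2 (by rw [hN]; norm_num)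
  set t : G := (t' : G) with ht
  have hot : orderOf t = 2 := by rw [ht, Subgroup.orderOf_coe]; exact ht'
  have htN : t ∈ normalizer ((zpowers x : Subgroup G) : Set G) := t'.2
  have hx3 : x ^ 3 = 1 := by rw [← hx]; exact pow_orderOf_eq_one x
  have hconj : t * x * t⁻¹ ∈ zpowers x := (mem_normalizer_iff.mp htN x).mp (mem_zpowers x)
  obtain ⟨z, hz⟩ := mem_zpowers_iff.mp hconj
  obtain ⟨k, hk⟩ : ∃ k : ℕ, k = (z % 3).toNat := ⟨_, rfl⟩
  have hk3 : k < 3 := by omega
  have hxk : x ^ k = t * x * t⁻¹ := by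
    rw [← hz, ← zpow_natCast, hk, Int.toNat_of_nonneg (by omega)]
    have := zpow_mod_orderOf x z
    rw [hx] at this
    exact this
  refine ⟨t, hot, ?_⟩
  clear hk
  interval_cases k
  · exfalso
    rw [pow_zero] at hxk
    have : x = 1 := by
      calc x = t⁻¹ * (t * x * t⁻¹) * t := by group
        _ = 1 := by rw [← hxk]; group
    rw [this, orderOf_one] at hx
    omega
  · exfalso
    rw [pow_one] at hxk
    have hc : t ∈ centralizer ({x} : Set G) := by
      rw [mem_centralizer_singleton_iff]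
      calc t * x = t * x * t⁻¹ * t := by group
        _ = x * t := by rw [← hxk]
    have := Subgroup.orderOf_dvd_natCard _ hc
    rw [cent3 h x hx, hot] at this
    omega
  · rw [← hxk]
    have : x ^ 2 * x = 1 := by rw [← pow_succ]; exact hx3
    exact eq_inv_of_mul_eq_one_left this

theorem permX_fixed : ∀ z : PL7, permX z = z → z = none ∨ z = some 0 := by decide

theorem permY_ne_one : permY ≠ 1 := by
  intro h
  have := congrArg (fun f : Equiv.Perm PL7 => f (some 0)) h
  exact absurd this (by decide)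

/-- Every simple group of order 168 is isomorphic to the standard group. -/
theorem exists_equiv_std (h : Nat.card G = 168) : Nonempty (G ≃* stdGroup) := by
  have P : Sylow 7 G := default
  obtain ⟨y, x, hoy, hzy, hox, hxy, hxN⟩ := exists_frobenius_pair h P
  obtain ⟨Q₀, hQP, hxQ⟩ := exists_second_fixed h P x hox
  obtain ⟨t, hot, htx⟩ := exists_inverting_involution h x hox
  have hy7 : y ^ 7 = 1 := by rw [← hoy]; exact pow_orderOf_eq_one y
  have hyP : y ∈ (P : Subgroup G) := by rw [← hzy]; exact mem_zpowers y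
  set e : PL7 ≃ Sylow 7 G := Equiv.ofBijective _ (label_bijective h P Q₀ hQP y hoy hzy) with he
  have he_none : e none = P := rfl
  have he_some : ∀ k : ZMod 7, e (some k) = y ^ k.val • Q₀ := fun k => rfl
  have he_nat : ∀ n : ℕ, e (some (n : ZMod 7)) = y ^ n • Q₀ := by
    intro n
    rw [he_some, pow_val_natCast y hoy]
  set Φ := stdHom e with hΦ
  have hyPfix : y • P = P := by
    rw [Sylow.smul_eq_iff_mem_normalizer]; exact le_normalizer hyP
  have hxPfix : x • P = P := by
    rw [Sylow.smul_eq_iff_mem_normalizer]; exact hxN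
  -- the image of `y`
  have hΦy : Φ y = permY := by
    apply Equiv.ext
    intro z
    rw [hΦ, stdHom_apply, Equiv.symm_apply_eq]
    rcases z with _ | k
    · change y • e none = e none
      rw [he_none, hyPfix]
    · change y • e (some k) = e (some (k + 1))
      have hk : k + 1 = ((k.val + 1 : ℕ) : ZMod 7) := by
        push_cast
        rw [ZMod.natCast_zmod_val]
      rw [hk, he_nat, he_some, pow_succ', mul_smul]
  -- the image of `x`
  have hxpow : ∀ n : ℕ, x * y ^ n = y ^ (2 * n) * x := by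
    intro n
    have h1 : x * y ^ n * x⁻¹ = y ^ (2 * n) := by
      rw [← conj_pow, hxy, ← pow_mul]
    calc x * y ^ n = x * y ^ n * x⁻¹ * x := by group
      _ = y ^ (2 * n) * x := by rw [h1]
  have hΦx : Φ x = permX := by
    apply Equiv.ext
    intro z
    rw [hΦ, stdHom_apply, Equiv.symm_apply_eq]
    rcases z with _ | k
    · change x • e none = e none
      rw [he_none, hxPfix]
    · change x • e (some k) = e (some (2 * k))
      have hk : 2 * k = ((2 * k.val : ℕ) : ZMod 7) := by
        push_cast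
        rw [ZMod.natCast_zmod_val]
      rw [hk, he_nat, he_some, ← mul_smul, hxpow, mul_smul, hxQ]
  -- `t` normalizes no Sylow 7-subgroup
  have htfix : ∀ Q : Sylow 7 G, t • Q ≠ Q := by
    intro Q hQ
    have h1 : t ∈ normalizer ((Q : Subgroup G) : Set G) := Sylow.smul_eq_iff_mem_normalizer.mp hQ
    have := Subgroup.orderOf_dvd_natCard _ h1
    rw [card_normalizer7 h Q, hot] at this
    omega
  -- the image of `t`
  have hxt : x * t = t * x⁻¹ := by
    have h1 : t * x⁻¹ * t⁻¹ = x := by
      have := congrArg (fun g => g⁻¹) htx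
      simp only [mul_inv_rev, inv_inv] at this
      rw [← mul_assoc] at this
      exact this
    calc x * t = t * x⁻¹ * t⁻¹ * t := by rw [h1]
      _ = t * x⁻¹ := by group
  have hσ1 : Φ t none = some 0 := by
    rw [hΦ, stdHom_apply, Equiv.symm_apply_eq, he_none]
    have hfixed : x • (t • P) = t • P := by
      rw [← mul_smul, hxt, mul_smul]
      congr 1
      rw [inv_smul_eq_iff, hxPfix]
    -- in coordinates
    obtain ⟨z, hz⟩ := e.surjective (t • P)
    have hz' : permX z = z := by
      rw [← hΦx, hΦ, stdHom_apply, Equiv.symm_apply_eq, hz, hfixed]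
    rcases permX_fixed z hz' with rfl | rfl
    · exfalso
      rw [he_none] at hz
      exact htfix P hz.symm
    · exact hz.symm
  have hσ2 : ∀ z, Φ t (permX z) = permX.symm (Φ t z) := by
    intro z
    have h1 : Φ t * Φ x = (Φ x)⁻¹ * Φ t := by
      rw [← map_inv, ← map_mul, ← map_mul]
      congr 1
      calc t * x = x⁻¹ * (x * t) * x := by group
        _ = x⁻¹ * (t * x⁻¹) * x := by rw [hxt]
        _ = x⁻¹ * t := by group
    have h2 := congrArg (fun f : Equiv.Perm PL7 => f z) h1
    simp only [Equiv.Perm.mul_apply] at h2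
    rw [hΦx] at h2
    exact h2
  have hσ3 : ∀ z, Φ t (Φ t z) = z := by
    intro z
    have h1 : Φ t * Φ t = 1 := by
      rw [← map_mul, ← pow_two, ← hot, pow_orderOf_eq_one, map_one]
    have h2 := congrArg (fun f : Equiv.Perm PL7 => f z) h1
    simpa using h2
  have hσ4 : ∀ z, Φ t z ≠ z := by
    intro z hz
    rw [hΦ, stdHom_apply, Equiv.symm_apply_eq] at hz
    exact htfix _ hz
  have hσ := inversion_cases (Φ t) hσ1 hσ2 hσ3 hσ4
  -- injectivity
  have hinj : Function.Injective Φ := by
    rw [← MonoidHom.ker_eq_bot_iff]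
    rcases (MonoidHom.normal_ker Φ).eq_bot_or_eq_top with hk | hk
    · exact hk
    · exfalso
      have : y ∈ Φ.ker := by rw [hk]; exact mem_top y
      rw [MonoidHom.mem_ker, hΦy] at this
      exact permY_ne_one this
  -- generation
  have hgen : closure ({y, x, t} : Set G) = ⊤ := by
    by_contra hne
    have hle := card_le_of_ne_top h _ hne
    have hyH : y ∈ closure ({y, x, t} : Set G) := subset_closure (by simp)
    have hxH : x ∈ closure ({y, x, t} : Set G) := subset_closure (by simp)
    have htH : t ∈ closure ({y, x, t} : Set G) := subset_closure (by simp)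
    have d7 := Subgroup.orderOf_dvd_natCard _ hyH
    have d3 := Subgroup.orderOf_dvd_natCard _ hxH
    have d2 := Subgroup.orderOf_dvd_natCard _ htH
    rw [hoy] at d7
    rw [hox] at d3
    rw [hot] at d2
    have hpos : 0 < Nat.card (closure ({y, x, t} : Set G)) := Nat.card_pos
    omega
  have hrange : Φ.range = stdGroup := by
    rw [MonoidHom.range_eq_map, ← hgen, MonoidHom.map_closure]
    have himg : (Φ '' ({y, x, t} : Set G)) = {permY, permX, Φ t} := by
      rw [Set.image_insert_eq, Set.image_insert_eq, Set.image_singleton, hΦy, hΦx]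
    rw [himg]
    rcases hσ with h3 | h5 | h6
    · rw [h3]; rfl
    · rw [h5]; exact closure_T5
    · rw [h6]; exact closure_T6
  exact ⟨(MonoidHom.ofInjective hinj).trans (MulEquiv.subgroupCongr hrange)⟩

/-- Any two simple groups of order 168 are isomorphic. -/
theorem simple168_unique {G' : Type*} [Group G'] [Finite G'] [IsSimpleGroup G']
    (h : Nat.card G = 168) (h' : Nat.card G' = 168) : Nonempty (G ≃* G') := by
  obtain ⟨e⟩ := exists_equiv_std h
  obtain ⟨e'⟩ := exists_equiv_std h'
  exact ⟨e.trans e'.symm⟩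

end Cfsg.Agent.Lib.Helper6_G168
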