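import Mathlib
import Cfsg.Prelude.Def_Solvable
import Cfsg.Agent.Lib.Helper7_Basic

set_option autoImplicit false

/-!
Basic facts about `Cfsg.pCore` (helper7).
-/

namespace Cfsg.Agent.Lib.Helper7_PCore

open scoped Pointwise
open Cfsg.Agent.Lib.Helper7_Basic

/-- a normal `p`-subgroup lies in every Sylow `p`-subgroup -/
theorem normal_pgroup_le_sylow {G : Type*} [Group G] [Finite G] {p : ℕ} [Fact p.Prime]
    {N : Subgroup G} (hn : N.Normal) (hN : IsPGroup p N) (Q : Sylow p G) : N ≤ Q := by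
  obtain ⟨Q0, hQ0⟩ := hN.exists_le_sylow
  obtain ⟨g, hg⟩ := MulAction.exists_smul_eq G Q0 Q
  intro x hx
  rw [← hg]
  show x ∈ g • Q0
  rw [mem_smul_sylow]
  apply hQ0
  have := hn.conj_mem x hx g⁻¹
  simpa using this

theorem pCore_le_sylow {G : Type*} [Group G] [Finite G] {p : ℕ} [Fact p.Prime]
    (Q : Sylow p G) : Cfsg.pCore p G ≤ Q := by
  unfold Cfsg.pCore
  apply sSup_le
  rintro N ⟨hn, hN⟩
  exact normal_pgroup_le_sylow hn hN Q

theorem pCore_normal {G : Type*} [Group G] (p : ℕ) : (Cfsg.pCore p G).Normal := by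
  unfold Cfsg.pCore
  exact Subgroup.sSup_normal _ (fun H hH => hH.1)

theorem pCore_isPGroup {G : Type*} [Group G] [Finite G] (p : ℕ) [Fact p.Prime] :
    IsPGroup p (Cfsg.pCore p G) := by
  obtain ⟨Q⟩ : Nonempty (Sylow p G) := inferInstance
  exact Q.isPGroup'.to_le (pCore_le_sylow Q)

/-- a normal `p`-subgroup lies in the `p`-core -/
theorem le_pCore {G : Type*} [Group G] {p : ℕ} {N : Subgroup G} (hn : N.Normal)
    (hN : IsPGroup p N) : N ≤ Cfsg.pCore p G := by
  unfold Cfsg.pCore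
  exact le_sSup ⟨hn, hN⟩

end Cfsg.Agent.Lib.Helper7_PCore
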