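import Mathlib
import Cfsg.Prelude.Def_Local

/-! Basic theory of `Cfsg.IsPSolvable` (chain definition): closure under subgroups and quotients,
existence of Hall `p'`-subgroups. -/

set_option autoImplicit false

namespace Cfsg.Agent.Lib.Helper7_PSolvable

open Subgroup

/-- a number that is a power of `p` or prime to `p` -/
def PorC (p n : ℕ) : Prop := (∃ m : ℕ, n = p ^ m) ∨ n.Coprime p

theorem PorC.of_dvd {p n d : ℕ} (hp : p.Prime) (h : PorC p n) (hd : d ∣ n) : PorC p d := by
  rcases h with ⟨m, rfl⟩ | h
  · obtain ⟨j, -, rfl⟩ := (Nat.dvd_prime_pow hp).mp hd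
    exact Or.inl ⟨j, rfl⟩
  · exact Or.inr (Nat.Coprime.coprime_dvd_left hd h)

variable {G : Type*} [Group G]

/-- for normal `A`, the relative index is monotone (for divisibility) in the second argument -/
theorem relIndex_dvd_of_le_right_of_normal (A : Subgroup G) [A.Normal] {B' B : Subgroup G}
    (h : B' ≤ B) : A.relIndex B' ∣ A.relIndex B := by
  have h1 : (A.subgroupOf B).relIndex (B'.subgroupOf B) = A.relIndex B' := relIndex_subgroupOf h
  rw [← h1]
  exact relIndex_dvd_index_of_normal (H := A.subgroupOf B) (K := B'.subgroupOf B)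

theorem isPSolvable_iff (p : ℕ) : Cfsg.IsPSolvable p G ↔
    ∃ (n : ℕ) (H : Fin (n + 1) → Subgroup G),
    H 0 = ⊥ ∧ H (Fin.last n) = ⊤ ∧ Monotone H ∧ (∀ i, (H i).Normal) ∧
    ∀ i : Fin n, PorC p ((H i.castSucc).relIndex (H i.succ)) := Iff.rfl

/-- subgroups of `p`-solvable groups are `p`-solvable -/
theorem subgroup {p : ℕ} (hp : p.Prime) (hG : Cfsg.IsPSolvable p G) (K : Subgroup G) :
    Cfsg.IsPSolvable p K := by
  obtain ⟨n, H, h0, hlast, hmono, hnorm, hstep⟩ := (isPSolvable_iff p).mp hG
  refine (isPSolvable_iff p).mpr ⟨n, fun i => (H i).subgroupOf K, ?_, ?_, ?_, ?_, ?_⟩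
  · simp only [h0, bot_subgroupOf]
  · simp only [hlast, top_subgroupOf]
  · intro i j hij
    exact comap_mono (hmono hij)
  · intro i
    haveI := hnorm i
    exact Subgroup.Normal.subgroupOf (hnorm i) K
  · intro i
    haveI := hnorm i.castSucc
    apply PorC.of_dvd hp (hstep i)
    have e : ((H i.castSucc).subgroupOf K).relIndex ((H i.succ).subgroupOf K) =
        (H i.castSucc).relIndex (H i.succ ⊓ K) := by
      have := relIndex_comap (H := H i.castSucc) K.subtype ((H i.succ).subgroupOf K)
      rw [subgroupOf_map_subtype] at this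
      exact this
    rw [e]
    exact relIndex_dvd_of_le_right_of_normal _ inf_le_left

/-- quotients of `p`-solvable groups are `p`-solvable -/
theorem quotient {p : ℕ} (hp : p.Prime) (hG : Cfsg.IsPSolvable p G) (N : Subgroup G) [N.Normal] :
    Cfsg.IsPSolvable p (G ⧸ N) := by
  obtain ⟨n, H, h0, hlast, hmono, hnorm, hstep⟩ := (isPSolvable_iff p).mp hG
  refine (isPSolvable_iff p).mpr ⟨n, fun i => (H i).map (QuotientGroup.mk' N), ?_, ?_, ?_, ?_, ?_⟩
  · simp only [h0, Subgroup.map_bot]
  · simp only [hlast]
    rw [← MonoidHom.range_eq_map, MonoidHom.range_eq_top]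
    exact QuotientGroup.mk'_surjective N
  · intro i j hij
    exact map_mono (hmono hij)
  · intro i
    exact Subgroup.Normal.map (hnorm i) _ (QuotientGroup.mk'_surjective N)
  · intro i
    apply PorC.of_dvd hp (hstep i)
    rw [relIndex_map_map, QuotientGroup.ker_mk']
    haveI := hnorm i.castSucc
    haveI : (H i.castSucc ⊔ N).Normal := Subgroup.sup_normal _ _
    have e : H i.succ ⊔ N = H i.succ ⊔ (H i.castSucc ⊔ N) := by
      rw [← sup_assoc, sup_eq_left.mpr (hmono (Fin.castSucc_le_succ i))]
    rw [e, relIndex_sup_right]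
    exact relIndex_dvd_of_le_left _ le_sup_left

/-- transport along an isomorphism -/
theorem of_equiv {p : ℕ} {G' : Type*} [Group G'] (e : G ≃* G') (hG : Cfsg.IsPSolvable p G) :
    Cfsg.IsPSolvable p G' := by
  obtain ⟨n, H, h0, hlast, hmono, hnorm, hstep⟩ := (isPSolvable_iff p).mp hG
  refine (isPSolvable_iff p).mpr ⟨n, fun i => (H i).map e.toMonoidHom, ?_, ?_, ?_, ?_, ?_⟩
  · simp only [h0, Subgroup.map_bot]
  · simp only [hlast]
    rw [← MonoidHom.range_eq_map, MonoidHom.range_eq_top]
    exact e.surjective
  · intro i j hij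
    exact map_mono (hmono hij)
  · intro i
    exact Subgroup.Normal.map (hnorm i) _ e.surjective
  · intro i
    rw [relIndex_map_map_of_injective _ _ e.injective]
    exact hstep i

/-- a nontrivial `p`-solvable group has a nontrivial normal subgroup whose order is a power of `p`
or prime to `p` -/
theorem exists_normal_PorC {p : ℕ} (hG : Cfsg.IsPSolvable p G) [Nontrivial G] :
    ∃ N : Subgroup G, N.Normal ∧ N ≠ ⊥ ∧ PorC p (Nat.card N) := by
  obtain ⟨n, H, h0, hlast, hmono, hnorm, hstep⟩ := (isPSolvable_iff p).mp hG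
  have hex : ∃ i : Fin n, H i.castSucc = ⊥ ∧ H i.succ ≠ ⊥ := by
    by_contra hcon
    push Not at hcon
    have hall : ∀ j : Fin (n + 1), H j = ⊥ := by
      intro j
      induction j using Fin.induction with
      | zero => exact h0
      | succ i ih => exact hcon i ih
    have := hall (Fin.last n)
    rw [hlast] at this
    exact top_ne_bot this
  obtain ⟨i, hi1, hi2⟩ := hex
  refine ⟨H i.succ, hnorm _, hi2, ?_⟩
  have := hstep i
  rwa [hi1, relIndex_bot_left] at this

/-- existence of Hall `p'`-subgroups in finite `p`-solvable groups -/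
theorem exists_hall_aux (p : ℕ) (hp : p.Prime) : ∀ (n : ℕ) (G : Type*) [Group G] [Finite G],
    Nat.card G = n → Cfsg.IsPSolvable p G →
    ∃ Q : Subgroup G, (Nat.card Q).Coprime p ∧ ∃ m : ℕ, Q.index = p ^ m := by
  intro n
  induction n using Nat.strong_induction_on with
  | _ n ih =>
  intro G _ _ hcard hG
  by_cases htriv : Subsingleton G
  · refine ⟨⊥, ?_, 0, ?_⟩
    · rw [Subgroup.card_bot]; exact Nat.coprime_one_left p
    · rw [pow_zero, Subgroup.index_bot, Nat.card_eq_one_iff_unique.mpr ⟨htriv, ⟨1⟩⟩]
  · rw [not_subsingleton_iff_nontrivial] at htriv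
    obtain ⟨N, hNn, hNne, hNp⟩ := exists_normal_PorC hG
    haveI := hNn
    have hNcard : 1 < Nat.card N := by
      rw [Finite.one_lt_card_iff_nontrivial]
      exact (Subgroup.nontrivial_iff_ne_bot N).mpr hNne
    have hquot : Nat.card (G ⧸ N) < n := by
      have := Subgroup.card_eq_card_quotient_mul_card_subgroup N
      rw [hcard] at this
      rw [this]
      have hpos : 0 < Nat.card (G ⧸ N) := Nat.card_pos
      nlinarith
    obtain ⟨Qb, hQb1, m, hQb2⟩ := ih _ hquot (G ⧸ N) rfl (quotient hp hG N)
    set L : Subgroup G := Qb.comap (QuotientGroup.mk' N) with hL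
    have hNL : N ≤ L := by
      intro x hx
      rw [hL, mem_comap, QuotientGroup.mk'_apply, (QuotientGroup.eq_one_iff x).mpr hx]
      exact one_mem _
    have hLidx : L.index = p ^ m := by
      rw [hL, Subgroup.index_comap_of_surjective _ (QuotientGroup.mk'_surjective N), hQb2]
    have hrel : N.relIndex L = Nat.card Qb := by
      have := relIndex_ker (K := L) (QuotientGroup.mk' N)
      rw [QuotientGroup.ker_mk', hL, map_comap_eq_self_of_surjective (QuotientGroup.mk'_surjective N)]
        at this
      exact this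
    have hLcard : Nat.card L = Nat.card N * Nat.card Qb := by
      have := relIndex_mul_relIndex (H := (⊥ : Subgroup G)) (K := N) (L := L) bot_le hNL
      rw [relIndex_bot_left, relIndex_bot_left, hrel] at this
      exact this.symm
    rcases hNp with ⟨k, hk⟩ | hcop
    · -- N is a p-group: Schur–Zassenhaus
      haveI : (N.subgroupOf L).Normal := Subgroup.Normal.subgroupOf hNn L
      have hc1 : Nat.card (N.subgroupOf L) = p ^ k := by
        rw [← hk]
        exact Nat.card_congr (Subgroup.subgroupOfEquivOfLe hNL).toEquiv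
      have hc2 : (N.subgroupOf L).index = Nat.card Qb := hrel
      have hcop' : Nat.Coprime (Nat.card (N.subgroupOf L)) (N.subgroupOf L).index := by
        rw [hc1, hc2]
        exact (Nat.Coprime.pow_right k hQb1).symm
      obtain ⟨K', hK'⟩ := Subgroup.exists_right_complement'_of_coprime hcop'
      have hK'card : Nat.card K' = Nat.card Qb := by
        have := hK'.card_mul_card
        rw [hc1] at this
        have h2 : Nat.card L = p ^ k * Nat.card Qb := by rw [hLcard, hk]
        rw [h2] at this
        exact Nat.eq_of_mul_eq_mul_left (pow_pos hp.pos k) this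
      refine ⟨K'.map L.subtype, ?_, k + m, ?_⟩
      · rw [Subgroup.card_map_of_injective L.subtype_injective, hK'card]
        exact hQb1
      · have h1 := Subgroup.card_mul_index (K'.map L.subtype)
        rw [Subgroup.card_map_of_injective L.subtype_injective, hK'card] at h1
        have h2 := Subgroup.card_mul_index L
        rw [hLcard, hLidx, hk] at h2
        have hQpos : 0 < Nat.card Qb := Nat.card_pos
        apply Nat.eq_of_mul_eq_mul_left hQpos
        rw [h1, ← h2, pow_add]
        ring
    · refine ⟨L, ?_, m, hLidx⟩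
      rw [hLcard]
      exact Nat.Coprime.mul_left hcop hQb1

/-- existence of Hall `p'`-subgroups in finite `p`-solvable groups -/
theorem exists_hall {p : ℕ} (hp : p.Prime) [Finite G] (hG : Cfsg.IsPSolvable p G) :
    ∃ Q : Subgroup G, (Nat.card Q).Coprime p ∧ ∃ m : ℕ, Q.index = p ^ m :=
  exists_hall_aux p hp _ G rfl hG

end Cfsg.Agent.Lib.Helper7_PSolvable
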