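import Mathlib
import Cfsg.Prelude
import Cfsg.Agent.Lib.Helper7_PSolvable
import Cfsg.Agent.Lib.Helper5_PPrime
import Cfsg.Agent.Lib.Helper7_PCore
import Cfsg.Agent.Lib.Lead_Hall

set_option autoImplicit false
open Cfsg

namespace Cfsg.Agent.Lib.Helper6_HallHigman

open Cfsg.Agent.Lib.Helper7_PSolvable

/-- a nontrivial normal subgroup of a `p`-solvable group contains a nontrivial normal subgroup of the
whole group whose order is a power of `p` or prime to `p` -/
theorem exists_normal_PorC_le {G : Type*} [Group G] {p : ℕ} (hp : p.Prime)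
    (hG : Cfsg.IsPSolvable p G) (N : Subgroup G) [hN : N.Normal] (hN1 : N ≠ ⊥) :
    ∃ K : Subgroup G, K.Normal ∧ K ≤ N ∧ K ≠ ⊥ ∧ PorC p (Nat.card K) := by
  obtain ⟨n, H, h0, hlast, hmono, hnorm, hstep⟩ := (isPSolvable_iff p).mp hG
  have hex : ∃ i : Fin n, H i.castSucc ⊓ N = ⊥ ∧ H i.succ ⊓ N ≠ ⊥ := by
    by_contra hcon
    push Not at hcon
    have hall : ∀ j : Fin (n + 1), H j ⊓ N = ⊥ := by
      intro j
      induction j using Fin.induction with
      | zero => rw [h0, bot_inf_eq]
      | succ i ih => exact hcon i ih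
    have := hall (Fin.last n)
    rw [hlast, top_inf_eq] at this
    exact hN1 this
  obtain ⟨i, hi1, hi2⟩ := hex
  have := hnorm i.succ
  have := hnorm i.castSucc
  refine ⟨H i.succ ⊓ N, inferInstance, inf_le_right, hi2, ?_⟩
  have h1 : (H i.castSucc).relIndex (H i.succ ⊓ N) ∣ (H i.castSucc).relIndex (H i.succ) :=
    relIndex_dvd_of_le_right_of_normal (H i.castSucc) inf_le_left
  have h2 : (H i.castSucc).relIndex (H i.succ ⊓ N) = Nat.card ↥(H i.succ ⊓ N) := by
    rw [← Subgroup.inf_relIndex_right]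
    have : H i.castSucc ⊓ (H i.succ ⊓ N) = ⊥ := by
      rw [eq_bot_iff, ← hi1]
      exact le_inf inf_le_left (inf_le_right.trans inf_le_right)
    rw [this, Subgroup.relIndex_bot_left]
  rw [h2] at h1
  exact (hstep i).of_dvd hp h1

/-- Hall–Higman Lemma 1.2.3: in a `p`-solvable group with trivial `p'`-core, the `p`-core contains
its centralizer. -/
theorem centralizer_pCore_le {H : Type*} [Group H] [Finite H] {p : ℕ} [hfact : Fact p.Prime]
    (hsol : Cfsg.IsPSolvable p H) (hO : Cfsg.pPrimeCore p H = ⊥) :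
    Subgroup.centralizer (Cfsg.pCore p H : Set H) ≤ Cfsg.pCore p H := by
  classical
  have hp := hfact.out
  set P : Subgroup H := Cfsg.pCore p H with hP
  have hPn : P.Normal := Cfsg.Agent.Lib.Helper7_PCore.pCore_normal p
  have hPp : IsPGroup p P := Cfsg.Agent.Lib.Helper7_PCore.pCore_isPGroup p
  set C : Subgroup H := Subgroup.centralizer (P : Set H) with hC
  have hCn : C.Normal := Subgroup.normal_centralizer
  set Z : Subgroup H := C ⊓ P with hZ
  have hZn : Z.Normal := inferInstance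
  have hZp : IsPGroup p Z := hPp.to_le inf_le_right
  by_contra hcon
  have hCZ : ¬ C ≤ Z := fun h => hcon (h.trans inf_le_right)
  set N : Subgroup (H ⧸ Z) := C.map (QuotientGroup.mk' Z) with hN
  have hNn : N.Normal := Subgroup.Normal.map hCn _ (QuotientGroup.mk'_surjective Z)
  have hN1 : N ≠ ⊥ := by
    intro h
    apply hCZ
    intro c hc
    have h1 : (QuotientGroup.mk' Z) c ∈ N := Subgroup.mem_map_of_mem _ hc
    rw [h, Subgroup.mem_bot] at h1
    have h2 : c ∈ (QuotientGroup.mk' Z).ker := h1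
    rwa [QuotientGroup.ker_mk'] at h2
  obtain ⟨Kb, hKbn, hKbN, hKb1, hKbc⟩ :=
    exists_normal_PorC_le hp (Cfsg.Agent.Lib.Helper7_PSolvable.quotient hp hsol Z) N hN1
  set D : Subgroup H := Kb.comap (QuotientGroup.mk' Z) with hD
  have hDn : D.Normal := hKbn.comap _
  have hZD : Z ≤ D := Cfsg.Agent.Lib.Lead_Hall.le_comap_mk Z Kb
  have hDC : D ≤ C := by
    intro d hd
    have h1 : (QuotientGroup.mk' Z) d ∈ N := hKbN hd
    obtain ⟨c, hc, hcd⟩ := h1
    have h3 : c⁻¹ * d ∈ Z := by
      rw [← QuotientGroup.ker_mk' Z, MonoidHom.mem_ker, map_mul, map_inv, hcd]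
      group
    have h4 : d = c * (c⁻¹ * d) := by group
    rw [h4]
    exact C.mul_mem hc h3.1
  have hDcard : Nat.card D = Nat.card Kb * Nat.card Z :=
    Cfsg.Agent.Lib.Lead_Hall.card_comap_mk Z Kb
  have hmapD : D.map (QuotientGroup.mk' Z) = Kb :=
    Subgroup.map_comap_eq_self_of_surjective (QuotientGroup.mk'_surjective Z) Kb
  have hDZ : ¬ D ≤ Z := by
    intro h
    apply hKb1
    rw [eq_bot_iff, ← hmapD]
    rintro _ ⟨d, hd, rfl⟩
    rw [Subgroup.mem_bot]
    have : d ∈ (QuotientGroup.mk' Z).ker := by rw [QuotientGroup.ker_mk']; exact h hd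
    exact this
  rcases hKbc with ⟨m, hm⟩ | hcop
  · -- `D` is a normal `p`-subgroup
    obtain ⟨z, hz⟩ := IsPGroup.iff_card.mp hZp
    have hDp : IsPGroup p D := IsPGroup.of_card (n := m + z) (by rw [hDcard, hm, hz, pow_add])
    have hDP : D ≤ P := Cfsg.Agent.Lib.Helper7_PCore.le_pCore hDn hDp
    exact hDZ (le_inf hDC hDP)
  · -- `D / Z` is a `p'`-group
    set m := Nat.card Kb with hm
    obtain ⟨z, hz⟩ := IsPGroup.iff_card.mp hZp
    have hcop' : m.Coprime (Nat.card Z) := by
      rw [hz]; exact Nat.Coprime.pow_right z hcop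
    obtain ⟨K, hKD, hKcard, hKdec⟩ :=
      Cfsg.Agent.Lib.Lead_Hall.exists_complement_in Z D hZD m hDcard hcop'
    have hKn : K.Normal := by
      refine ⟨fun k hk h => ?_⟩
      have h1 : h * k * h⁻¹ ∈ D := hDn.conj_mem k (hKD hk) h
      obtain ⟨z', hz', k', hk', hzk⟩ := hKdec _ h1
      have hkm : k ^ m = 1 := by
        have := pow_card_eq_one' (G := K) (x := ⟨k, hk⟩)
        rw [hKcard] at this
        exact congrArg Subtype.val this
      have hk'm : k' ^ m = 1 := by
        have := pow_card_eq_one' (G := K) (x := ⟨k', hk'⟩)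
        rw [hKcard] at this
        exact congrArg Subtype.val this
      have hcomm : Commute z' k' := by
        have hk'C : k' ∈ C := hDC (hKD hk')
        have := Subgroup.mem_centralizer_iff.mp hk'C z' hz'.2
        exact this
      have h2 : (h * k * h⁻¹) ^ m = 1 := by rw [conj_pow, hkm]; group
      rw [hzk, hcomm.mul_pow, hk'm, mul_one] at h2
      have h3 : orderOf z' ∣ m := orderOf_dvd_of_pow_eq_one h2
      obtain ⟨j, hj⟩ := hPp ⟨z', hz'.2⟩
      have hj' : z' ^ p ^ j = 1 := congrArg Subtype.val hj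
      have h4 : orderOf z' ∣ p ^ j := orderOf_dvd_of_pow_eq_one hj'
      have h5 : orderOf z' = 1 :=
        Nat.eq_one_of_dvd_coprimes (Nat.Coprime.pow_right j hcop) h3 h4
      rw [orderOf_eq_one_iff] at h5
      rw [hzk, h5, one_mul]
      exact hk'
    have hKle : K ≤ Cfsg.pPrimeCore p H :=
      Cfsg.Agent.Lib.Helper5_PPrime.le_pPrimeCore (hN := hKn) K (by rw [hKcard]; exact hcop)
    rw [hO, le_bot_iff] at hKle
    have hm1 : m = 1 := by rw [← hKcard, hKle, Subgroup.card_bot]
    apply hKb1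
    exact Subgroup.card_eq_one.mp (hm ▸ hm1)

end Cfsg.Agent.Lib.Helper6_HallHigman
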