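import Mathlib

set_option autoImplicit false

/-! Perfect groups and central extensions: basic tools. -/

namespace Cfsg.Agent.Lib.Helper6_Perfect

open scoped commutatorElement

/-- A homomorphism from a perfect group to a group in which the image commutes is trivial. -/
theorem hom_trivial_of_perfect {Γ A : Type*} [Group Γ] [Group A] (hΓ : Group.IsPerfect Γ)
    (f : Γ →* A) (hA : ∀ x y : Γ, f x * f y = f y * f x) : ∀ x, f x = 1 := by
  have hle : commutator Γ ≤ f.ker := by
    rw [commutator_def, Subgroup.commutator_le]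
    intro a _ b _
    rw [MonoidHom.mem_ker, commutatorElement_def, map_mul, map_mul, map_mul, map_inv, map_inv,
      hA a b]
    group
  intro x
  have : x ∈ commutator Γ := by rw [hΓ.commutator_eq_top]; trivial
  exact MonoidHom.mem_ker.mp (hle this)

/-- A central-valued "difference" map of two homomorphisms is trivial on a perfect group. -/
theorem eq_of_perfect_of_central {Γ X : Type*} [Group Γ] [Group X] (hΓ : Group.IsPerfect Γ)
    (η₁ η₂ : Γ →* X) (h : ∀ g, η₁ g * (η₂ g)⁻¹ ∈ Subgroup.center X) : η₁ = η₂ := by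
  let d : Γ →* Subgroup.center X := MonoidHom.mk' (fun g => ⟨η₁ g * (η₂ g)⁻¹, h g⟩) (by
    intro a b
    apply Subtype.ext
    simp only [Subgroup.coe_mul, map_mul]
    have hb := (Subgroup.mem_center_iff.mp (h b)) (η₂ a)⁻¹
    calc η₁ a * η₁ b * (η₂ a * η₂ b)⁻¹
        = η₁ a * ((η₁ b * (η₂ b)⁻¹) * (η₂ a)⁻¹) := by group
      _ = η₁ a * ((η₂ a)⁻¹ * (η₁ b * (η₂ b)⁻¹)) := by rw [hb]
      _ = _ := by group)
  have hd := hom_trivial_of_perfect hΓ d (fun x y => by
    apply Subtype.ext
    have hy := (Subgroup.mem_center_iff.mp (d y).2) (d x : X)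
    simp only [Subgroup.coe_mul]
    exact hy)
  ext g
  have := congrArg Subtype.val (hd g)
  change η₁ g * (η₂ g)⁻¹ = 1 at this
  exact mul_inv_eq_one.mp this

/-- If the centre has finite index, then the commutator subgroup is finite (Schur). -/
theorem finite_commutator_of_finiteIndex_center (P : Type*) [Group P]
    [hZ : (Subgroup.center P).FiniteIndex] : Finite (commutator P) := by
  haveI : Finite (P ⧸ Subgroup.center P) := Subgroup.finite_quotient_of_finiteIndex
  have hfin : (commutatorSet P).Finite := by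
    refine Set.Finite.subset (Set.finite_range
      (fun q : (P ⧸ Subgroup.center P) × (P ⧸ Subgroup.center P) => ⁅q.1.out, q.2.out⁆)) ?_
    rintro _ ⟨g, h, rfl⟩
    refine ⟨(QuotientGroup.mk g, QuotientGroup.mk h), ?_⟩
    simp only
    obtain ⟨z1, hz1⟩ : ∃ z1, z1 ∈ Subgroup.center P ∧
        (QuotientGroup.mk g : P ⧸ Subgroup.center P).out = g * z1 := by
      refine ⟨g⁻¹ * (QuotientGroup.mk g : P ⧸ Subgroup.center P).out, ?_, by group⟩
      exact QuotientGroup.eq.mp (QuotientGroup.out_eq' _).symm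
    obtain ⟨z2, hz2⟩ : ∃ z2, z2 ∈ Subgroup.center P ∧
        (QuotientGroup.mk h : P ⧸ Subgroup.center P).out = h * z2 := by
      refine ⟨h⁻¹ * (QuotientGroup.mk h : P ⧸ Subgroup.center P).out, ?_, by group⟩
      exact QuotientGroup.eq.mp (QuotientGroup.out_eq' _).symm
    rw [hz1.2, hz2.2, commutatorElement_def, commutatorElement_def]
    have c1 : ∀ x, z1 * x = x * z1 := fun x => ((Subgroup.mem_center_iff.mp hz1.1) x).symm
    have c2 : ∀ x, z2 * x = x * z2 := fun x => ((Subgroup.mem_center_iff.mp hz2.1) x).symm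
    calc g * z1 * (h * z2) * (g * z1)⁻¹ * (h * z2)⁻¹
        = g * (z1 * (h * z2)) * z1⁻¹ * g⁻¹ * (h * z2)⁻¹ := by group
      _ = g * ((h * z2) * z1) * z1⁻¹ * g⁻¹ * (h * z2)⁻¹ := by rw [c1 (h * z2)]
      _ = g * h * (z2 * g⁻¹) * z2⁻¹ * h⁻¹ := by group
      _ = g * h * (g⁻¹ * z2) * z2⁻¹ * h⁻¹ := by rw [c2 g⁻¹]
      _ = g * h * g⁻¹ * h⁻¹ := by group
  haveI : Finite (commutatorSet P) := hfin
  infer_instance

theorem commutatorElement_mul_central {P : Type*} [Group P] (g h z1 z2 : P)
    (hz1 : z1 ∈ Subgroup.center P) (hz2 : z2 ∈ Subgroup.center P) :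
    ⁅g * z1, h * z2⁆ = ⁅g, h⁆ := by
  rw [commutatorElement_def, commutatorElement_def]
  have c1 : ∀ x, z1 * x = x * z1 := fun x => ((Subgroup.mem_center_iff.mp hz1) x).symm
  have c2 : ∀ x, z2 * x = x * z2 := fun x => ((Subgroup.mem_center_iff.mp hz2) x).symm
  calc g * z1 * (h * z2) * (g * z1)⁻¹ * (h * z2)⁻¹
      = g * (z1 * (h * z2)) * z1⁻¹ * g⁻¹ * (h * z2)⁻¹ := by group
    _ = g * ((h * z2) * z1) * z1⁻¹ * g⁻¹ * (h * z2)⁻¹ := by rw [c1 (h * z2)]
    _ = g * h * (z2 * g⁻¹) * z2⁻¹ * h⁻¹ := by group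
    _ = g * h * (g⁻¹ * z2) * z2⁻¹ * h⁻¹ := by rw [c2 g⁻¹]
    _ = g * h * g⁻¹ * h⁻¹ := by group

section cover

variable {P G : Type*} [Group P] [Group G] (p1 : P →* G) (hsurj : Function.Surjective p1)
  (hker : p1.ker ≤ Subgroup.center P) (hG : Group.IsPerfect G)

include hsurj hG in
theorem exists_mem_commutator_map (g : G) : ∃ d ∈ commutator P, p1 d = g := by
  have h1 : (commutator P).map p1 = ⊤ := by
    rw [commutator_def, Subgroup.map_commutator, Subgroup.map_top_of_surjective p1 hsurj,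
      ← commutator_def, hG.commutator_eq_top]
  have : g ∈ (commutator P).map p1 := by rw [h1]; trivial
  obtain ⟨d, hd, rfl⟩ := this
  exact ⟨d, hd, rfl⟩

include hsurj hker hG in
theorem commutator_perfect : Group.IsPerfect (commutator P) := by
  rw [Subgroup.isPerfect_iff]
  apply le_antisymm (Subgroup.commutator_le_left _ _)
  conv_lhs => rw [commutator_def]
  rw [Subgroup.commutator_le]
  intro a _ b _
  obtain ⟨da, hda, hda'⟩ := exists_mem_commutator_map p1 hsurj hG (p1 a)
  obtain ⟨db, hdb, hdb'⟩ := exists_mem_commutator_map p1 hsurj hG (p1 b)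
  have hza : da⁻¹ * a ∈ Subgroup.center P := by
    apply hker
    rw [MonoidHom.mem_ker, map_mul, map_inv, hda', inv_mul_cancel]
  have hzb : db⁻¹ * b ∈ Subgroup.center P := by
    apply hker
    rw [MonoidHom.mem_ker, map_mul, map_inv, hdb', inv_mul_cancel]
  have ha : a = da * (da⁻¹ * a) := by group
  have hb : b = db * (db⁻¹ * b) := by group
  rw [ha, hb, commutatorElement_mul_central _ _ _ _ hza hzb]
  exact Subgroup.commutator_mem_commutator hda hdb

include hsurj hker in
theorem finite_commutator_of_finite [Finite G] : Finite (commutator P) := by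
  haveI : p1.ker.FiniteIndex := by
    refine ⟨?_⟩
    rw [Subgroup.index_ker]
    exact Nat.card_pos.ne'
  haveI : (Subgroup.center P).FiniteIndex := Subgroup.finiteIndex_of_le hker
  exact finite_commutator_of_finiteIndex_center P

end cover

end Cfsg.Agent.Lib.Helper6_Perfect
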