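import Mathlib
import Cfsg.Prelude.Def_KGroupFacts
import Cfsg.Agent.Lib.Helper6_Perfect

set_option autoImplicit false

/-! The Schur multiplier of a finite group through the free presentation on its elements:
`M = (R ∩ F') / [F, R]`, realised inside `E = F / [F, R]`. -/

namespace Cfsg.Agent.Lib.Helper6_Schur

open scoped commutatorElement
open Cfsg.Agent.Lib.Helper6_Perfect

universe u v w

theorem abel_free_torsionfree (Q : Type u) (a : Abelianization (FreeGroup Q)) (n : ℕ) (hn : 0 < n)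
    (h : a ^ n = 1) : a = 1 := by
  let b : FreeAbelianGroup Q := Additive.ofMul a
  have hb : n • b = 0 := by
    change Additive.ofMul (a ^ n) = 0
    rw [h]; rfl
  have hv : n • (FreeAbelianGroup.equivFinsupp Q b) = 0 := by
    rw [← map_nsmul, hb, map_zero]
  have hv0 : FreeAbelianGroup.equivFinsupp Q b = 0 := by
    ext q
    have := congrArg (fun v : Q →₀ ℤ => v q) hv
    simp only [Finsupp.smul_apply, Finsupp.coe_zero, Pi.zero_apply] at this
    rcases smul_eq_zero.mp this with h0 | h0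
    · omega
    · simpa using h0
  have hb0 : b = 0 := (FreeAbelianGroup.equivFinsupp Q).injective (by rw [hv0, map_zero])
  exact hb0

section defs

variable (Q : Type u) [Group Q]

/-- the canonical map from the free group on the elements of `Q` -/
def phi : FreeGroup Q →* Q := FreeGroup.lift id

theorem phi_of (q : Q) : phi Q (FreeGroup.of q) = q := by simp [phi]

theorem phi_surjective : Function.Surjective (phi Q) := fun q => ⟨FreeGroup.of q, phi_of Q q⟩

/-- `[F, R]` -/
def NN : Subgroup (FreeGroup Q) := ⁅(⊤ : Subgroup (FreeGroup Q)), (phi Q).ker⁆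

instance : (NN Q).Normal := by unfold NN; infer_instance

theorem NN_le : NN Q ≤ (phi Q).ker := Subgroup.commutator_le_right _ _

theorem NN_le_commutator : NN Q ≤ commutator (FreeGroup Q) := by
  rw [commutator_def]
  exact Subgroup.commutator_mono le_rfl le_top

/-- `E = F / [F, R]` -/
abbrev EE := FreeGroup Q ⧸ NN Q

/-- the induced map `E → Q` -/
def phib : EE Q →* Q := QuotientGroup.lift (NN Q) (phi Q) (NN_le Q)

theorem phib_mk (f : FreeGroup Q) : phib Q (QuotientGroup.mk f) = phi Q f := rfl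

theorem phib_surjective : Function.Surjective (phib Q) :=
  fun q => ⟨QuotientGroup.mk (FreeGroup.of q), phi_of Q q⟩

/-- `R / [F, R]` -/
def Rb : Subgroup (EE Q) := (phib Q).ker

theorem Rb_le_center : Rb Q ≤ Subgroup.center (EE Q) := by
  intro e he
  obtain ⟨r, rfl⟩ := QuotientGroup.mk_surjective e
  have hr : r ∈ (phi Q).ker := by
    have : phib Q (QuotientGroup.mk r) = 1 := he
    rw [phib_mk] at this
    exact this
  rw [Subgroup.mem_center_iff]
  intro w
  obtain ⟨f, rfl⟩ := QuotientGroup.mk_surjective w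
  rw [← QuotientGroup.mk_mul, ← QuotientGroup.mk_mul, QuotientGroup.eq]
  have : (f * r)⁻¹ * (r * f) = ⁅r⁻¹, f⁻¹⁆ := by
    rw [commutatorElement_def]; group
  rw [this]
  have h1 : ⁅r⁻¹, f⁻¹⁆ ∈ ⁅(phi Q).ker, (⊤ : Subgroup (FreeGroup Q))⁆ :=
    Subgroup.commutator_mem_commutator ((phi Q).ker.inv_mem hr) (Subgroup.mem_top _)
  rw [Subgroup.commutator_comm] at h1
  exact h1

/-- the multiplier `(R ∩ F') / [F, R]` -/
def MM : Subgroup (EE Q) := Rb Q ⊓ commutator (EE Q)

theorem MM_le_Rb : MM Q ≤ Rb Q := inf_le_left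

theorem MM_le_commutator : MM Q ≤ commutator (EE Q) := inf_le_right

theorem mk_mem_commutator_iff (f : FreeGroup Q) :
    (QuotientGroup.mk f : EE Q) ∈ commutator (EE Q) ↔ f ∈ commutator (FreeGroup Q) := by
  have hmap : commutator (EE Q) = (commutator (FreeGroup Q)).map (QuotientGroup.mk' (NN Q)) := by
    rw [commutator_def, commutator_def, Subgroup.map_commutator,
      Subgroup.map_top_of_surjective _ (QuotientGroup.mk'_surjective _)]
  constructor
  · intro h
    rw [hmap] at h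
    obtain ⟨g, hg, hgf⟩ := h
    have h1 : g⁻¹ * f ∈ NN Q := QuotientGroup.eq.mp hgf
    have h2 : f = g * (g⁻¹ * f) := by group
    rw [h2]
    exact Subgroup.mul_mem _ hg (NN_le_commutator Q h1)
  · intro h
    rw [hmap]
    exact ⟨f, h, rfl⟩

/-- `R/[F,R]` modulo the multiplier is torsion free -/
theorem mem_MM_of_pow_mem (x : EE Q) (hx : x ∈ Rb Q) (n : ℕ) (hn : 0 < n)
    (h : x ^ n ∈ MM Q) : x ∈ MM Q := by
  suffices hh : x ∈ commutator (EE Q) from ⟨hx, hh⟩
  obtain ⟨f, rfl⟩ := QuotientGroup.mk_surjective x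
  rw [mk_mem_commutator_iff]
  have h1 : (QuotientGroup.mk (f ^ n) : EE Q) ∈ commutator (EE Q) := by
    rw [QuotientGroup.mk_pow]; exact h.2
  rw [mk_mem_commutator_iff] at h1
  have h2 : (Abelianization.of f) ^ n = 1 := by
    rw [← map_pow]
    exact (QuotientGroup.eq_one_iff _).mpr h1
  have h3 := abel_free_torsionfree Q _ n hn h2
  exact (QuotientGroup.eq_one_iff _).mp h3

variable [Finite Q]

instance Rb_finiteIndex : (Rb Q).FiniteIndex := by
  refine ⟨?_⟩
  unfold Rb
  rw [Subgroup.index_ker]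
  exact Nat.card_pos.ne'

theorem index_Rb : (Rb Q).index = Nat.card Q := by
  unfold Rb
  rw [Subgroup.index_ker, MonoidHom.range_eq_top.mpr (phib_surjective Q), Subgroup.card_top]

instance center_finiteIndex : (Subgroup.center (EE Q)).FiniteIndex :=
  Subgroup.finiteIndex_of_le (Rb_le_center Q)

instance finite_commutator_EE : Finite (commutator (EE Q)) :=
  finite_commutator_of_finiteIndex_center (EE Q)

instance finite_MM : Finite (MM Q) :=
  Finite.of_injective (fun x : MM Q => (⟨x.1, MM_le_commutator Q x.2⟩ : commutator (EE Q)))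
    (fun a b h => Subtype.ext (congrArg (fun y : commutator (EE Q) => (y : EE Q)) h))

instance fg_Rb : Group.FG (Rb Q) := inferInstance

end defs

/-- In a finitely generated abelian group, a finite subgroup with torsion-free quotient has a
complement. -/
theorem exists_complement {B : Type*} [Group B] [Group.FG B] (hcomm : ∀ a b : B, a * b = b * a)
    (T : Subgroup B) [Finite T] (htf : ∀ x : B, ∀ n : ℕ, 0 < n → x ^ n ∈ T → x ∈ T) :
    ∃ C : Subgroup B, C ⊓ T = ⊥ ∧ C ⊔ T = ⊤ := by
  classical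
  letI : CommGroup B := { ‹Group B› with mul_comm := hcomm }
  obtain ⟨ι, j, _, _, p, hp, e, ⟨eq⟩⟩ := CommGroup.equiv_free_prod_prod_multiplicative_zmod B
  haveI : ∀ i, NeZero (p i ^ e i) := fun i => ⟨pow_ne_zero _ (hp i).ne_zero⟩
  have hT : ∀ b : B, b ∈ T ↔ (eq b).1 = 1 := by
    intro b
    constructor
    · intro hb
      have hfin : IsOfFinOrder (⟨b, hb⟩ : T) := isOfFinOrder_of_finite _
      obtain ⟨k, hk, hk1⟩ := hfin.exists_pow_eq_one
      have hbk : b ^ k = 1 := congrArg Subtype.val hk1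
      have h1 : (eq b).1 ^ k = 1 := by
        rw [← Prod.pow_fst, ← map_pow, hbk, map_one]; rfl
      funext i
      have h2 := congrFun h1 i
      simp only [Pi.pow_apply, Pi.one_apply] at h2 ⊢
      have h3 : k • Multiplicative.toAdd ((eq b).1 i) = 0 := by
        have := congrArg Multiplicative.toAdd h2
        simpa using this
      rcases smul_eq_zero.mp h3 with h4 | h4
      · omega
      · exact Multiplicative.toAdd.injective h4
    · intro hb
      have hm : 0 < Nat.card ((i : ι) → Multiplicative (ZMod (p i ^ e i))) := Nat.card_pos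
      apply htf b _ hm
      have h1 : eq (b ^ Nat.card ((i : ι) → Multiplicative (ZMod (p i ^ e i)))) = 1 := by
        rw [map_pow]
        apply Prod.ext
        · rw [Prod.pow_fst, hb, one_pow]; rfl
        · rw [Prod.pow_snd]; exact pow_card_eq_one'
      have h2 : b ^ Nat.card ((i : ι) → Multiplicative (ZMod (p i ^ e i))) = 1 :=
        eq.injective (by rw [h1, map_one])
      rw [h2]; exact T.one_mem
  refine ⟨((MonoidHom.snd _ _).comp eq.toMonoidHom).ker, ?_, ?_⟩
  · rw [eq_bot_iff]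
    intro b hb
    obtain ⟨hb1, hb2⟩ := hb
    have hb2' : (eq b).1 = 1 := (hT b).mp hb2
    have hb1' : (eq b).2 = 1 := hb1
    rw [Subgroup.mem_bot]
    apply eq.injective
    rw [map_one]
    exact Prod.ext hb2' hb1'
  · rw [eq_top_iff]
    intro b _
    have hb : b = eq.symm ((eq b).1, 1) * eq.symm (1, (eq b).2) := by
      rw [← map_mul]
      apply eq.injective
      rw [MulEquiv.apply_symm_apply]
      apply Prod.ext <;> simp
    rw [hb]
    apply Subgroup.mul_mem_sup
    · change (eq (eq.symm ((eq b).1, 1))).2 = 1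
      rw [MulEquiv.apply_symm_apply]
    · rw [hT, MulEquiv.apply_symm_apply]

section lift

variable (Q : Type u) [Group Q] {Δ : Type w} [Group Δ] (τ : Δ →* Q)

/-- a central extension of `Q` receives a map from `E` over `Q` -/
theorem exists_lift (hτs : Function.Surjective τ) (hτc : τ.ker ≤ Subgroup.center Δ) :
    ∃ ψb : EE Q →* Δ, τ.comp ψb = phib Q := by
  classical
  let s : Q → Δ := Function.surjInv hτs
  have hs : ∀ q, τ (s q) = q := Function.surjInv_eq hτs
  let ψ : FreeGroup Q →* Δ := FreeGroup.lift s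
  have hψof : ∀ q : Q, ψ (FreeGroup.of q) = s q := fun q => by simp [ψ]
  have hτψ : τ.comp ψ = phi Q := by
    apply FreeGroup.ext_hom
    intro q
    rw [MonoidHom.comp_apply, hψof, hs, phi_of]
  have hτψ' : ∀ f, τ (ψ f) = phi Q f := fun f => by
    have := congrArg (fun g : FreeGroup Q →* Q => g f) hτψ
    exact this
  have hNψ : NN Q ≤ ψ.ker := by
    unfold NN
    rw [Subgroup.commutator_le]
    intro f _ r hr
    rw [MonoidHom.mem_ker, commutatorElement_def, map_mul, map_mul, map_mul, map_inv, map_inv]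
    have hr' : ψ r ∈ Subgroup.center Δ := by
      apply hτc
      rw [MonoidHom.mem_ker, hτψ']
      exact hr
    have := (Subgroup.mem_center_iff.mp hr') (ψ f)
    rw [this]; group
  refine ⟨QuotientGroup.lift (NN Q) ψ hNψ, ?_⟩
  apply MonoidHom.ext
  intro e
  obtain ⟨f, rfl⟩ := QuotientGroup.mk_surjective e
  rw [MonoidHom.comp_apply]
  change τ (ψ f) = phi Q f
  exact hτψ' f

variable {Q} {τ}

theorem lift_mem_ker (ψb : EE Q →* Δ) (h : τ.comp ψb = phib Q) :
    ∀ r ∈ Rb Q, ψb r ∈ τ.ker := by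
  intro r hr
  rw [MonoidHom.mem_ker]
  have := congrArg (fun g : EE Q →* Q => g r) h
  simp only [MonoidHom.comp_apply] at this
  rw [this]
  exact hr

theorem lift_ker_le (ψb : EE Q →* Δ) (h : τ.comp ψb = phib Q) : ψb.ker ≤ Rb Q := by
  intro e he
  have := congrArg (fun g : EE Q →* Q => g e) h
  simp only [MonoidHom.comp_apply] at this
  rw [MonoidHom.mem_ker.mp he, map_one] at this
  exact this.symm

theorem lift_surjective (hτc : τ.ker ≤ Subgroup.center Δ)
    (hstem : τ.ker ≤ commutator Δ) (ψb : EE Q →* Δ) (h : τ.comp ψb = phib Q) :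
    Function.Surjective ψb := by
  have h' : ∀ e, τ (ψb e) = phib Q e := fun e => by
    have := congrArg (fun g : EE Q →* Q => g e) h
    exact this
  have hdec : ∀ δ : Δ, ∃ e : EE Q, (ψb e)⁻¹ * δ ∈ τ.ker := by
    intro δ
    obtain ⟨e, he⟩ := phib_surjective Q (τ δ)
    refine ⟨e, ?_⟩
    rw [MonoidHom.mem_ker, map_mul, map_inv, h', he, inv_mul_cancel]
  have hcomm : commutator Δ ≤ ψb.range := by
    rw [commutator_def, Subgroup.commutator_le]
    intro a _ b _
    obtain ⟨ea, hea⟩ := hdec a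
    obtain ⟨eb, heb⟩ := hdec b
    have ha : a = ψb ea * ((ψb ea)⁻¹ * a) := by group
    have hb : b = ψb eb * ((ψb eb)⁻¹ * b) := by group
    rw [ha, hb, commutatorElement_mul_central _ _ _ _ (hτc hea) (hτc heb)]
    exact ⟨⁅ea, eb⁆, by rw [map_commutatorElement]⟩
  intro δ
  obtain ⟨e, he⟩ := hdec δ
  obtain ⟨e', he'⟩ := hcomm (hstem he)
  refine ⟨e * e', ?_⟩
  rw [map_mul, he']; group

theorem lift_MM_onto (hτc : τ.ker ≤ Subgroup.center Δ)
    (hstem : τ.ker ≤ commutator Δ) (ψb : EE Q →* Δ) (h : τ.comp ψb = phib Q) :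
    ∀ k ∈ τ.ker, ∃ m ∈ MM Q, ψb m = k := by
  have hsurj := lift_surjective hτc hstem ψb h
  intro k hk
  have hmap : commutator Δ = (commutator (EE Q)).map ψb := by
    rw [commutator_def, commutator_def, Subgroup.map_commutator,
      Subgroup.map_top_of_surjective _ hsurj]
  have hk' := hstem hk
  rw [hmap] at hk'
  obtain ⟨e, he, hek⟩ := hk'
  refine ⟨e, ⟨?_, he⟩, hek⟩
  have := congrArg (fun g : EE Q →* Q => g e) h
  simp only [MonoidHom.comp_apply] at this
  rw [hek, MonoidHom.mem_ker.mp hk] at this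
  exact this.symm

/-- the multiplier maps onto the kernel of every stem extension -/
theorem exists_MM_surjective (hτs : Function.Surjective τ) (hτc : τ.ker ≤ Subgroup.center Δ)
    (hstem : τ.ker ≤ commutator Δ) :
    ∃ f : MM Q →* τ.ker, Function.Surjective f := by
  obtain ⟨ψb, h⟩ := exists_lift Q τ hτs hτc
  refine ⟨(ψb.comp (MM Q).subtype).codRestrict τ.ker
    (fun m => lift_mem_ker ψb h _ (MM_le_Rb Q m.2)), ?_⟩
  rintro ⟨k, hk⟩
  obtain ⟨m, hm, hmk⟩ := lift_MM_onto hτc hstem ψb h k hk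
  exact ⟨⟨m, hm⟩, Subtype.ext hmk⟩

end lift

section cover

/-- a group mapping to a finite group with finite kernel is finite -/
theorem finite_of_hom {G : Type*} {H : Type*} [Group G] [Group H] [Finite H] (f : G →* H)
    [Finite f.ker] : Finite G := by
  apply Nat.finite_of_card_ne_zero
  rw [← Subgroup.card_mul_index f.ker]
  apply Nat.mul_ne_zero Nat.card_pos.ne'
  rw [Subgroup.index_ker]
  exact Nat.card_pos.ne'

variable {Q : Type u} [Group Q]

theorem normal_of_le_Rb (C : Subgroup (EE Q)) (hC : C ≤ Rb Q) : C.Normal := by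
  refine ⟨fun c hc g => ?_⟩
  have := Subgroup.mem_center_iff.mp (Rb_le_center Q (hC hc)) g
  rw [this, mul_inv_cancel_right]
  exact hc

/-- complement of the multiplier part inside a finite index subgroup of `R/[F,R]` -/
theorem exists_complement_in [Finite Q] (S : Subgroup (EE Q)) (hS : S ≤ Rb Q) [S.FiniteIndex] :
    ∃ C : Subgroup (EE Q), C ≤ S ∧ C ⊓ MM Q = ⊥ ∧
      ∀ s ∈ S, ∃ c ∈ C, ∃ m ∈ MM Q, s = c * m := by
  haveI : Group.FG (EE Q) := inferInstance
  haveI : Group.FG S := inferInstance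
  have hcomm : ∀ a b : S, a * b = b * a := by
    intro a b
    apply Subtype.ext
    have := Subgroup.mem_center_iff.mp (Rb_le_center Q (hS b.2)) a.1
    exact this
  let T : Subgroup S := (MM Q).subgroupOf S
  haveI : Finite T :=
    Finite.of_injective (fun x : T => (⟨x.1.1, x.2⟩ : MM Q))
      (fun a b h => Subtype.ext (Subtype.ext (congrArg (fun y : MM Q => (y : EE Q)) h)))
  have htf : ∀ x : S, ∀ n : ℕ, 0 < n → x ^ n ∈ T → x ∈ T := by
    intro x n hn hx
    have hx' : (x.1) ^ n ∈ MM Q := hx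
    exact mem_MM_of_pow_mem Q x.1 (hS x.2) n hn hx'
  obtain ⟨C', h1, h2⟩ := exists_complement hcomm T htf
  refine ⟨C'.map S.subtype, ?_, ?_, ?_⟩
  · rintro _ ⟨c, _, rfl⟩
    exact c.2
  · rw [eq_bot_iff]
    rintro _ ⟨⟨c, hc, rfl⟩, hm⟩
    have hcT : c ∈ C' ⊓ T := ⟨hc, hm⟩
    rw [h1, Subgroup.mem_bot] at hcT
    rw [hcT, Subgroup.mem_bot]; rfl
  · intro s hs
    have hs' : (⟨s, hs⟩ : S) ∈ C' ⊔ T := by rw [h2]; exact Subgroup.mem_top _
    letI : CommGroup S := { (inferInstance : Group S) with mul_comm := hcomm }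
    obtain ⟨c, hc, t, ht, hct⟩ := Subgroup.mem_sup.mp hs'
    refine ⟨c.1, ⟨c, hc, rfl⟩, t.1, ht, ?_⟩
    have := congrArg Subtype.val hct
    exact this.symm

variable (C : Subgroup (EE Q)) [C.Normal] (hCR : C ≤ Rb Q)

/-- the extension `E/C → Q` -/
def coverHom : EE Q ⧸ C →* Q := QuotientGroup.lift C (phib Q) hCR

theorem coverHom_mk (e : EE Q) : coverHom C hCR (QuotientGroup.mk e) = phib Q e := rfl

theorem coverHom_surjective : Function.Surjective (coverHom C hCR) := fun q => by
  obtain ⟨e, he⟩ := phib_surjective Q q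
  exact ⟨QuotientGroup.mk e, he⟩

theorem mem_ker_coverHom_iff (x : EE Q ⧸ C) :
    x ∈ (coverHom C hCR).ker ↔ ∃ r ∈ Rb Q, (QuotientGroup.mk r : EE Q ⧸ C) = x := by
  constructor
  · intro hx
    obtain ⟨e, rfl⟩ := QuotientGroup.mk_surjective x
    exact ⟨e, hx, rfl⟩
  · rintro ⟨r, hr, rfl⟩
    exact hr

theorem mk_mem_center (r : EE Q) (hr : r ∈ Subgroup.center (EE Q)) :
    (QuotientGroup.mk r : EE Q ⧸ C) ∈ Subgroup.center (EE Q ⧸ C) := by
  rw [Subgroup.mem_center_iff]
  intro g
  obtain ⟨e, rfl⟩ := QuotientGroup.mk_surjective g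
  rw [← QuotientGroup.mk_mul, ← QuotientGroup.mk_mul, Subgroup.mem_center_iff.mp hr e]

theorem mk_mem_commutator (m : EE Q) (hm : m ∈ commutator (EE Q)) :
    (QuotientGroup.mk m : EE Q ⧸ C) ∈ commutator (EE Q ⧸ C) := by
  have hmap : commutator (EE Q ⧸ C) = (commutator (EE Q)).map (QuotientGroup.mk' C) := by
    rw [commutator_def, commutator_def, Subgroup.map_commutator,
      Subgroup.map_top_of_surjective _ (QuotientGroup.mk'_surjective _)]
  rw [hmap]
  exact ⟨m, hm, rfl⟩

theorem coverHom_isStem (hdec : ∀ r ∈ Rb Q, ∃ c ∈ C, ∃ m ∈ MM Q, r = c * m) :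
    Cfsg.IsStemExtension (coverHom C hCR) := by
  refine ⟨coverHom_surjective C hCR, ?_, ?_⟩
  · intro x hx
    obtain ⟨r, hr, rfl⟩ := (mem_ker_coverHom_iff C hCR x).mp hx
    exact mk_mem_center C r (Rb_le_center Q hr)
  · intro x hx
    obtain ⟨r, hr, rfl⟩ := (mem_ker_coverHom_iff C hCR x).mp hx
    obtain ⟨c, hc, m, hm, rfl⟩ := hdec r hr
    have : (QuotientGroup.mk (c * m) : EE Q ⧸ C) = QuotientGroup.mk m := by
      rw [QuotientGroup.mk_mul, (QuotientGroup.eq_one_iff c).mpr hc, one_mul]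
    rw [this]
    exact mk_mem_commutator C m (MM_le_commutator Q hm)

theorem coverHom_ker_equiv (hCM : C ⊓ MM Q = ⊥)
    (hdec : ∀ r ∈ Rb Q, ∃ c ∈ C, ∃ m ∈ MM Q, r = c * m) :
    Nonempty ((coverHom C hCR).ker ≃* MM Q) := by
  let f : MM Q →* (coverHom C hCR).ker :=
    ((QuotientGroup.mk' C).comp (MM Q).subtype).codRestrict _
      (fun m => (mem_ker_coverHom_iff C hCR _).mpr ⟨m.1, MM_le_Rb Q m.2, rfl⟩)
  have hinj : Function.Injective f := by
    rw [injective_iff_map_eq_one]
    intro m hm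
    have h1 : (QuotientGroup.mk m.1 : EE Q ⧸ C) = 1 := congrArg Subtype.val hm
    have h2 : m.1 ∈ C := (QuotientGroup.eq_one_iff _).mp h1
    have h3 : m.1 ∈ C ⊓ MM Q := ⟨h2, m.2⟩
    rw [hCM, Subgroup.mem_bot] at h3
    exact Subtype.ext h3
  have hsurj : Function.Surjective f := by
    rintro ⟨x, hx⟩
    obtain ⟨r, hr, rfl⟩ := (mem_ker_coverHom_iff C hCR x).mp hx
    obtain ⟨c, hc, m, hm, rfl⟩ := hdec r hr
    refine ⟨⟨m, hm⟩, Subtype.ext ?_⟩
    change (QuotientGroup.mk m : EE Q ⧸ C) = QuotientGroup.mk (c * m)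
    rw [QuotientGroup.mk_mul, (QuotientGroup.eq_one_iff c).mpr hc, one_mul]
  exact ⟨(MulEquiv.ofBijective f ⟨hinj, hsurj⟩).symm⟩

include hCR in
theorem cover_finite [Finite Q] (hCM : C ⊓ MM Q = ⊥)
    (hdec : ∀ r ∈ Rb Q, ∃ c ∈ C, ∃ m ∈ MM Q, r = c * m) : Finite (EE Q ⧸ C) := by
  obtain ⟨e⟩ := coverHom_ker_equiv C hCR hCM hdec
  haveI : Finite (coverHom C hCR).ker := Finite.of_equiv _ e.symm.toEquiv
  exact finite_of_hom (coverHom C hCR)

end cover

/-- the canonical cover: there is a finite stem extension of `Q` with kernel `MM Q` -/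
theorem exists_cover (Q : Type u) [Group Q] [Finite Q] :
    ∃ (Γ : Type u) (_ : Group Γ) (_ : Finite Γ) (σ : Γ →* Q), Cfsg.IsStemExtension σ ∧
      Nonempty (σ.ker ≃* MM Q) := by
  obtain ⟨C, hCR, hCM, hdec⟩ := exists_complement_in (Rb Q) le_rfl
  haveI := normal_of_le_Rb C hCR
  exact ⟨EE Q ⧸ C, inferInstance, cover_finite C hCR hCM hdec, coverHom C hCR,
    coverHom_isStem C hCR hdec, coverHom_ker_equiv C hCR hCM hdec⟩

/-- the multiplier in the sense of the definitions is `MM Q` -/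
theorem hasSchurMultiplier_MM (Q : Type u) [Group Q] [Finite Q] :
    ∀ (Γ : Type u) [Group Γ] [Finite Γ] (σ : Γ →* Q), Cfsg.IsStemExtension σ →
      ∃ π : MM Q →* σ.ker, Function.Surjective π := by
  intro Γ _ _ σ hσ
  exact exists_MM_surjective hσ.1 hσ.2.1 hσ.2.2

theorem equiv_MM_of_hasSchurMultiplier {Q : Type u} [Group Q] [Finite Q] {A : Type v} [CommGroup A]
    (hA : Cfsg.HasSchurMultiplier Q A) : Nonempty (MM Q ≃* A) := by
  obtain ⟨⟨Γ₀, _, _, σ₀, hσ₀, ⟨e₀⟩⟩, hA2⟩ := hA
  obtain ⟨f, hf⟩ := exists_MM_surjective (Q := Q) hσ₀.1 hσ₀.2.1 hσ₀.2.2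
  obtain ⟨Γ, _, _, σ, hσ, ⟨e⟩⟩ := exists_cover Q
  obtain ⟨π, hπ⟩ := hA2 Γ σ hσ
  let g : MM Q →* A := e₀.toMonoidHom.comp f
  have hg : Function.Surjective g := e₀.surjective.comp hf
  let k : A →* MM Q := e.toMonoidHom.comp π
  have hk : Function.Surjective k := e.surjective.comp hπ
  haveI : Finite A := Finite.of_surjective g hg
  have hcard : Nat.card (MM Q) ≤ Nat.card A := Nat.card_le_card_of_surjective k hk
  exact ⟨MulEquiv.ofBijective g (hg.bijective_of_nat_card_le hcard)⟩

end Cfsg.Agent.Lib.Helper6_Schur
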