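import Mathlib
import Cfsg.Prelude.Def_KGroupFacts
import Cfsg.Agent.Lib.Helper6_Perfect
import Cfsg.Agent.Lib.Helper6_Schur

set_option autoImplicit false

/-! The Hopf formula for an arbitrary free presentation `φ : F → Q`:
the multiplier is `(R ∩ F') / [F, R]`, realised inside `F / [F, R]`. -/

namespace Cfsg.Agent.Lib.Helper6_Hopf

open scoped commutatorElement
open Cfsg.Agent.Lib.Helper6_Perfect

universe u v w x

theorem abel_isFree_torsionfree (F : Type w) [Group F] [IsFreeGroup F] (a : Abelianization F)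
    (n : ℕ) (hn : 0 < n) (h : a ^ n = 1) : a = 1 := by
  let e := (IsFreeGroup.toFreeGroup F).abelianizationCongr
  have h1 : (e a) ^ n = 1 := by rw [← map_pow, h, map_one]
  have h2 := Cfsg.Agent.Lib.Helper6_Schur.abel_free_torsionfree _ (e a) n hn h1
  exact e.injective (by rw [h2, map_one])

section defs

variable {Q : Type u} [Group Q] {F : Type w} [Group F] (φ : F →* Q)

/-- `[F, R]` -/
def NN : Subgroup F := ⁅(⊤ : Subgroup F), φ.ker⁆

instance : (NN φ).Normal := by unfold NN; infer_instance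

theorem NN_le : NN φ ≤ φ.ker := Subgroup.commutator_le_right _ _

theorem NN_le_commutator : NN φ ≤ commutator F := by
  rw [commutator_def]
  exact Subgroup.commutator_mono le_rfl le_top

/-- `E = F / [F, R]` -/
abbrev EE := F ⧸ NN φ

/-- the induced map `E → Q` -/
def phib : EE φ →* Q := QuotientGroup.lift (NN φ) φ (NN_le φ)

theorem phib_mk (f : F) : phib φ (QuotientGroup.mk f) = φ f := rfl

theorem phib_surjective (hφ : Function.Surjective φ) : Function.Surjective (phib φ) := fun q => by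
  obtain ⟨f, hf⟩ := hφ q
  exact ⟨QuotientGroup.mk f, hf⟩

/-- `R / [F, R]` -/
def Rb : Subgroup (EE φ) := (phib φ).ker

theorem mk_mem_Rb_iff (f : F) : (QuotientGroup.mk f : EE φ) ∈ Rb φ ↔ f ∈ φ.ker := Iff.rfl

theorem Rb_le_center : Rb φ ≤ Subgroup.center (EE φ) := by
  intro e he
  obtain ⟨r, rfl⟩ := QuotientGroup.mk_surjective e
  have hr : r ∈ φ.ker := he
  rw [Subgroup.mem_center_iff]
  intro w
  obtain ⟨f, rfl⟩ := QuotientGroup.mk_surjective w
  rw [← QuotientGroup.mk_mul, ← QuotientGroup.mk_mul, QuotientGroup.eq]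
  have : (f * r)⁻¹ * (r * f) = ⁅r⁻¹, f⁻¹⁆ := by
    rw [commutatorElement_def]; group
  rw [this]
  have h1 : ⁅r⁻¹, f⁻¹⁆ ∈ ⁅φ.ker, (⊤ : Subgroup F)⁆ :=
    Subgroup.commutator_mem_commutator (φ.ker.inv_mem hr) (Subgroup.mem_top _)
  rw [Subgroup.commutator_comm] at h1
  exact h1

/-- the multiplier `(R ∩ F') / [F, R]` -/
def MM : Subgroup (EE φ) := Rb φ ⊓ commutator (EE φ)

theorem MM_le_Rb : MM φ ≤ Rb φ := inf_le_left

theorem MM_le_commutator : MM φ ≤ commutator (EE φ) := inf_le_right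

theorem mk_mem_commutator_iff (f : F) :
    (QuotientGroup.mk f : EE φ) ∈ commutator (EE φ) ↔ f ∈ commutator F := by
  have hmap : commutator (EE φ) = (commutator F).map (QuotientGroup.mk' (NN φ)) := by
    rw [commutator_def, commutator_def, Subgroup.map_commutator,
      Subgroup.map_top_of_surjective _ (QuotientGroup.mk'_surjective _)]
  constructor
  · intro h
    rw [hmap] at h
    obtain ⟨g, hg, hgf⟩ := h
    have h1 : g⁻¹ * f ∈ NN φ := QuotientGroup.eq.mp hgf
    have h2 : f = g * (g⁻¹ * f) := by group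
    rw [h2]
    exact Subgroup.mul_mem _ hg (NN_le_commutator φ h1)
  · intro h
    rw [hmap]
    exact ⟨f, h, rfl⟩

theorem mk_mem_MM_iff (f : F) :
    (QuotientGroup.mk f : EE φ) ∈ MM φ ↔ f ∈ φ.ker ∧ f ∈ commutator F := by
  constructor
  · rintro ⟨h1, h2⟩
    exact ⟨(mk_mem_Rb_iff φ f).mp h1, (mk_mem_commutator_iff φ f).mp h2⟩
  · rintro ⟨h1, h2⟩
    exact ⟨(mk_mem_Rb_iff φ f).mpr h1, (mk_mem_commutator_iff φ f).mpr h2⟩

/-- `R/[F,R]` modulo the multiplier is torsion free -/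
theorem mem_MM_of_pow_mem [IsFreeGroup F] (x : EE φ) (hx : x ∈ Rb φ) (n : ℕ) (hn : 0 < n)
    (h : x ^ n ∈ MM φ) : x ∈ MM φ := by
  suffices hh : x ∈ commutator (EE φ) from ⟨hx, hh⟩
  obtain ⟨f, rfl⟩ := QuotientGroup.mk_surjective x
  rw [mk_mem_commutator_iff]
  have h1 : (QuotientGroup.mk (f ^ n) : EE φ) ∈ commutator (EE φ) := by
    rw [QuotientGroup.mk_pow]; exact h.2
  rw [mk_mem_commutator_iff] at h1
  have h2 : (Abelianization.of f) ^ n = 1 := by
    rw [← map_pow]
    exact (QuotientGroup.eq_one_iff _).mpr h1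
  have h3 := abel_isFree_torsionfree F _ n hn h2
  exact (QuotientGroup.eq_one_iff _).mp h3

variable [Finite Q]

theorem Rb_finiteIndex : (Rb φ).FiniteIndex := by
  refine ⟨?_⟩
  unfold Rb
  rw [Subgroup.index_ker]
  exact Nat.card_pos.ne'

theorem finite_MM (hφ : Function.Surjective φ) : Finite (MM φ) := by
  haveI := Rb_finiteIndex φ
  haveI : (Subgroup.center (EE φ)).FiniteIndex := Subgroup.finiteIndex_of_le (Rb_le_center φ)
  haveI : Finite (commutator (EE φ)) := finite_commutator_of_finiteIndex_center (EE φ)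
  exact Finite.of_injective (fun x : MM φ => (⟨x.1, MM_le_commutator φ x.2⟩ : commutator (EE φ)))
    (fun a b h => Subtype.ext (congrArg (fun y : commutator (EE φ) => (y : EE φ)) h))

end defs

section lift

variable {Q : Type u} [Group Q] {F : Type w} [Group F] [IsFreeGroup F] (φ : F →* Q)
  {Δ : Type x} [Group Δ] (τ : Δ →* Q)

/-- a central extension of `Q` receives a map from `E` over `Q` -/
theorem exists_lift (hτs : Function.Surjective τ) (hτc : τ.ker ≤ Subgroup.center Δ) :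
    ∃ ψb : EE φ →* Δ, τ.comp ψb = phib φ := by
  classical
  let s : Q → Δ := Function.surjInv hτs
  have hs : ∀ q, τ (s q) = q := Function.surjInv_eq hτs
  let ψ : F →* Δ := IsFreeGroup.lift (fun a => s (φ (IsFreeGroup.of a)))
  have hψof : ∀ a, ψ (IsFreeGroup.of a) = s (φ (IsFreeGroup.of a)) := fun a => by
    simp [ψ]
  have hτψ : τ.comp ψ = φ := by
    apply IsFreeGroup.ext_hom
    intro a
    rw [MonoidHom.comp_apply, hψof, hs]
  have hτψ' : ∀ f, τ (ψ f) = φ f := fun f => by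
    have := congrArg (fun g : F →* Q => g f) hτψ
    exact this
  have hNψ : NN φ ≤ ψ.ker := by
    unfold NN
    rw [Subgroup.commutator_le]
    intro f _ r hr
    rw [MonoidHom.mem_ker, commutatorElement_def, map_mul, map_mul, map_mul, map_inv, map_inv]
    have hr' : ψ r ∈ Subgroup.center Δ := by
      apply hτc
      rw [MonoidHom.mem_ker, hτψ']
      exact hr
    have := (Subgroup.mem_center_iff.mp hr') (ψ f)
    rw [this]; group
  refine ⟨QuotientGroup.lift (NN φ) ψ hNψ, ?_⟩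
  apply MonoidHom.ext
  intro e
  obtain ⟨f, rfl⟩ := QuotientGroup.mk_surjective e
  rw [MonoidHom.comp_apply]
  change τ (ψ f) = φ f
  exact hτψ' f

omit [IsFreeGroup F] in
variable {φ} {τ} in
theorem lift_mem_ker (ψb : EE φ →* Δ) (h : τ.comp ψb = phib φ) :
    ∀ r ∈ Rb φ, ψb r ∈ τ.ker := by
  intro r hr
  rw [MonoidHom.mem_ker]
  have := congrArg (fun g : EE φ →* Q => g r) h
  simp only [MonoidHom.comp_apply] at this
  rw [this]
  exact hr

omit [IsFreeGroup F] in
variable {φ} {τ} in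
theorem lift_ker_le (ψb : EE φ →* Δ) (h : τ.comp ψb = phib φ) : ψb.ker ≤ Rb φ := by
  intro e he
  have := congrArg (fun g : EE φ →* Q => g e) h
  simp only [MonoidHom.comp_apply] at this
  rw [MonoidHom.mem_ker.mp he, map_one] at this
  exact this.symm

omit [IsFreeGroup F] in
variable {φ} {τ} in
/-- For a central extension `τ : Δ → Q` and a lift `ψb`, the multiplier maps onto
`ker τ ∩ Δ'`. -/
theorem map_MM_eq (hφ : Function.Surjective φ) (hτc : τ.ker ≤ Subgroup.center Δ)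
    (ψb : EE φ →* Δ) (h : τ.comp ψb = phib φ) :
    (MM φ).map ψb = τ.ker ⊓ commutator Δ := by
  have h' : ∀ e, τ (ψb e) = phib φ e := fun e => by
    have := congrArg (fun g : EE φ →* Q => g e) h
    exact this
  have hdec : ∀ δ : Δ, ∃ e : EE φ, (ψb e)⁻¹ * δ ∈ τ.ker := by
    intro δ
    obtain ⟨e, he⟩ := phib_surjective φ hφ (τ δ)
    refine ⟨e, ?_⟩
    rw [MonoidHom.mem_ker, map_mul, map_inv, h', he, inv_mul_cancel]
  have hcomm : commutator Δ ≤ (commutator (EE φ)).map ψb := by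
    rw [commutator_def, Subgroup.commutator_le]
    intro a _ b _
    obtain ⟨ea, hea⟩ := hdec a
    obtain ⟨eb, heb⟩ := hdec b
    have ha : a = ψb ea * ((ψb ea)⁻¹ * a) := by group
    have hb : b = ψb eb * ((ψb eb)⁻¹ * b) := by group
    rw [ha, hb, commutatorElement_mul_central _ _ _ _ (hτc hea) (hτc heb)]
    refine ⟨⁅ea, eb⁆, ?_, by rw [map_commutatorElement]⟩
    rw [commutator_def]
    exact Subgroup.commutator_mem_commutator (Subgroup.mem_top _) (Subgroup.mem_top _)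
  apply le_antisymm
  · rintro _ ⟨m, hm, rfl⟩
    refine ⟨lift_mem_ker ψb h m (MM_le_Rb φ hm), ?_⟩
    have h1 : m ∈ commutator (EE φ) := MM_le_commutator φ hm
    have h2 : (commutator (EE φ)).map ψb ≤ commutator Δ := by
      rw [commutator_def, commutator_def, Subgroup.map_commutator]
      exact Subgroup.commutator_mono le_top le_top
    exact h2 ⟨m, h1, rfl⟩
  · rintro x ⟨hx1, hx2⟩
    obtain ⟨e, he, rfl⟩ := hcomm hx2
    refine ⟨e, ⟨?_, he⟩, rfl⟩
    have : phib φ e = 1 := by rw [← h']; exact hx1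
    exact this

omit [IsFreeGroup F] in
variable {φ} {τ} in
theorem lift_surjective (hφ : Function.Surjective φ) (hτc : τ.ker ≤ Subgroup.center Δ)
    (hstem : τ.ker ≤ commutator Δ) (ψb : EE φ →* Δ) (h : τ.comp ψb = phib φ) :
    Function.Surjective ψb := by
  have h' : ∀ e, τ (ψb e) = phib φ e := fun e => by
    have := congrArg (fun g : EE φ →* Q => g e) h
    exact this
  have hmap := map_MM_eq hφ hτc ψb h
  intro δ
  obtain ⟨e, he⟩ := phib_surjective φ hφ (τ δ)
  have hk : (ψb e)⁻¹ * δ ∈ τ.ker ⊓ commutator Δ := by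
    have h1 : (ψb e)⁻¹ * δ ∈ τ.ker := by
      rw [MonoidHom.mem_ker, map_mul, map_inv, h', he, inv_mul_cancel]
    exact ⟨h1, hstem h1⟩
  rw [← hmap] at hk
  obtain ⟨m, _, hm⟩ := hk
  refine ⟨e * m, ?_⟩
  rw [map_mul, hm]; group

variable {φ} {τ} in
/-- the multiplier maps onto the kernel of every stem extension -/
theorem exists_MM_surjective (hφ : Function.Surjective φ) (hτs : Function.Surjective τ)
    (hτc : τ.ker ≤ Subgroup.center Δ) (hstem : τ.ker ≤ commutator Δ) :
    ∃ f : MM φ →* τ.ker, Function.Surjective f := by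
  obtain ⟨ψb, h⟩ := exists_lift φ τ hτs hτc
  have hmap := map_MM_eq hφ hτc ψb h
  refine ⟨(ψb.comp (MM φ).subtype).codRestrict τ.ker
    (fun m => lift_mem_ker ψb h _ (MM_le_Rb φ m.2)), ?_⟩
  rintro ⟨k, hk⟩
  have hk' : k ∈ τ.ker ⊓ commutator Δ := ⟨hk, hstem hk⟩
  rw [← hmap] at hk'
  obtain ⟨m, hm, hmk⟩ := hk'
  exact ⟨⟨m, hm⟩, Subtype.ext hmk⟩

end lift

section cover

variable {Q : Type u} [Group Q] {F : Type w} [Group F] (φ : F →* Q)

theorem normal_of_le_Rb (C : Subgroup (EE φ)) (hC : C ≤ Rb φ) : C.Normal := by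
  refine ⟨fun c hc g => ?_⟩
  have := Subgroup.mem_center_iff.mp (Rb_le_center φ (hC hc)) g
  rw [this, mul_inv_cancel_right]
  exact hc

/-- complement of the multiplier part inside a finite index subgroup of `R/[F,R]` -/
theorem exists_complement_in [Finite Q] [IsFreeGroup F] [Group.FG F] (hφ : Function.Surjective φ)
    (S : Subgroup (EE φ)) (hS : S ≤ Rb φ) [S.FiniteIndex] :
    ∃ C : Subgroup (EE φ), C ≤ S ∧ C ⊓ MM φ = ⊥ ∧
      ∀ s ∈ S, ∃ c ∈ C, ∃ m ∈ MM φ, s = c * m := by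
  haveI : Group.FG (EE φ) := inferInstance
  haveI : Group.FG S := inferInstance
  have hcomm : ∀ a b : S, a * b = b * a := by
    intro a b
    apply Subtype.ext
    have := Subgroup.mem_center_iff.mp (Rb_le_center φ (hS b.2)) a.1
    exact this
  let T : Subgroup S := (MM φ).subgroupOf S
  haveI := finite_MM φ hφ
  haveI : Finite T :=
    Finite.of_injective (fun x : T => (⟨x.1.1, x.2⟩ : MM φ))
      (fun a b h => Subtype.ext (Subtype.ext (congrArg (fun y : MM φ => (y : EE φ)) h)))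
  have htf : ∀ x : S, ∀ n : ℕ, 0 < n → x ^ n ∈ T → x ∈ T := by
    intro x n hn hx
    have hx' : (x.1) ^ n ∈ MM φ := hx
    exact mem_MM_of_pow_mem φ x.1 (hS x.2) n hn hx'
  obtain ⟨C', h1, h2⟩ := Cfsg.Agent.Lib.Helper6_Schur.exists_complement hcomm T htf
  refine ⟨C'.map S.subtype, ?_, ?_, ?_⟩
  · rintro _ ⟨c, _, rfl⟩
    exact c.2
  · rw [eq_bot_iff]
    rintro _ ⟨⟨c, hc, rfl⟩, hm⟩
    have hcT : c ∈ C' ⊓ T := ⟨hc, hm⟩
    rw [h1, Subgroup.mem_bot] at hcT
    rw [hcT, Subgroup.mem_bot]; rfl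
  · intro s hs
    have hs' : (⟨s, hs⟩ : S) ∈ C' ⊔ T := by rw [h2]; exact Subgroup.mem_top _
    letI : CommGroup S := { (inferInstance : Group S) with mul_comm := hcomm }
    obtain ⟨c, hc, t, ht, hct⟩ := Subgroup.mem_sup.mp hs'
    refine ⟨c.1, ⟨c, hc, rfl⟩, t.1, ht, ?_⟩
    have := congrArg Subtype.val hct
    exact this.symm

variable (C : Subgroup (EE φ)) [C.Normal] (hCR : C ≤ Rb φ)

/-- the extension `E/C → Q` -/
def coverHom : EE φ ⧸ C →* Q := QuotientGroup.lift C (phib φ) hCR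

theorem coverHom_mk (e : EE φ) : coverHom φ C hCR (QuotientGroup.mk e) = phib φ e := rfl

theorem coverHom_surjective (hφ : Function.Surjective φ) :
    Function.Surjective (coverHom φ C hCR) := fun q => by
  obtain ⟨e, he⟩ := phib_surjective φ hφ q
  exact ⟨QuotientGroup.mk e, he⟩

theorem mem_ker_coverHom_iff (x : EE φ ⧸ C) :
    x ∈ (coverHom φ C hCR).ker ↔ ∃ r ∈ Rb φ, (QuotientGroup.mk r : EE φ ⧸ C) = x := by
  constructor
  · intro hx
    obtain ⟨e, rfl⟩ := QuotientGroup.mk_surjective x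
    exact ⟨e, hx, rfl⟩
  · rintro ⟨r, hr, rfl⟩
    exact hr

theorem mk_mem_center (r : EE φ) (hr : r ∈ Subgroup.center (EE φ)) :
    (QuotientGroup.mk r : EE φ ⧸ C) ∈ Subgroup.center (EE φ ⧸ C) := by
  rw [Subgroup.mem_center_iff]
  intro g
  obtain ⟨e, rfl⟩ := QuotientGroup.mk_surjective g
  rw [← QuotientGroup.mk_mul, ← QuotientGroup.mk_mul, Subgroup.mem_center_iff.mp hr e]

theorem mk_mem_commutator (m : EE φ) (hm : m ∈ commutator (EE φ)) :
    (QuotientGroup.mk m : EE φ ⧸ C) ∈ commutator (EE φ ⧸ C) := by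
  have hmap : commutator (EE φ ⧸ C) = (commutator (EE φ)).map (QuotientGroup.mk' C) := by
    rw [commutator_def, commutator_def, Subgroup.map_commutator,
      Subgroup.map_top_of_surjective _ (QuotientGroup.mk'_surjective _)]
  rw [hmap]
  exact ⟨m, hm, rfl⟩

theorem coverHom_isStem (hφ : Function.Surjective φ)
    (hdec : ∀ r ∈ Rb φ, ∃ c ∈ C, ∃ m ∈ MM φ, r = c * m) :
    Cfsg.IsStemExtension (coverHom φ C hCR) := by
  refine ⟨coverHom_surjective φ C hCR hφ, ?_, ?_⟩
  · intro x hx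
    obtain ⟨r, hr, rfl⟩ := (mem_ker_coverHom_iff φ C hCR x).mp hx
    exact mk_mem_center φ C r (Rb_le_center φ hr)
  · intro x hx
    obtain ⟨r, hr, rfl⟩ := (mem_ker_coverHom_iff φ C hCR x).mp hx
    obtain ⟨c, hc, m, hm, rfl⟩ := hdec r hr
    have : (QuotientGroup.mk (c * m) : EE φ ⧸ C) = QuotientGroup.mk m := by
      rw [QuotientGroup.mk_mul, (QuotientGroup.eq_one_iff c).mpr hc, one_mul]
    rw [this]
    exact mk_mem_commutator φ C m (MM_le_commutator φ hm)

theorem coverHom_ker_equiv (hCM : C ⊓ MM φ = ⊥)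
    (hdec : ∀ r ∈ Rb φ, ∃ c ∈ C, ∃ m ∈ MM φ, r = c * m) :
    Nonempty ((coverHom φ C hCR).ker ≃* MM φ) := by
  let f : MM φ →* (coverHom φ C hCR).ker :=
    ((QuotientGroup.mk' C).comp (MM φ).subtype).codRestrict _
      (fun m => (mem_ker_coverHom_iff φ C hCR _).mpr ⟨m.1, MM_le_Rb φ m.2, rfl⟩)
  have hinj : Function.Injective f := by
    rw [injective_iff_map_eq_one]
    intro m hm
    have h1 : (QuotientGroup.mk m.1 : EE φ ⧸ C) = 1 := congrArg Subtype.val hm
    have h2 : m.1 ∈ C := (QuotientGroup.eq_one_iff _).mp h1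
    have h3 : m.1 ∈ C ⊓ MM φ := ⟨h2, m.2⟩
    rw [hCM, Subgroup.mem_bot] at h3
    exact Subtype.ext h3
  have hsurj : Function.Surjective f := by
    rintro ⟨x, hx⟩
    obtain ⟨r, hr, rfl⟩ := (mem_ker_coverHom_iff φ C hCR x).mp hx
    obtain ⟨c, hc, m, hm, rfl⟩ := hdec r hr
    refine ⟨⟨m, hm⟩, Subtype.ext ?_⟩
    change (QuotientGroup.mk m : EE φ ⧸ C) = QuotientGroup.mk (c * m)
    rw [QuotientGroup.mk_mul, (QuotientGroup.eq_one_iff c).mpr hc, one_mul]
  exact ⟨(MulEquiv.ofBijective f ⟨hinj, hsurj⟩).symm⟩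

include hCR in
theorem cover_finite [Finite Q] (hφ : Function.Surjective φ) (hCM : C ⊓ MM φ = ⊥)
    (hdec : ∀ r ∈ Rb φ, ∃ c ∈ C, ∃ m ∈ MM φ, r = c * m) : Finite (EE φ ⧸ C) := by
  obtain ⟨e⟩ := coverHom_ker_equiv φ C hCR hCM hdec
  haveI := finite_MM φ hφ
  haveI : Finite (coverHom φ C hCR).ker := Finite.of_equiv _ e.symm.toEquiv
  exact Cfsg.Agent.Lib.Helper6_Schur.finite_of_hom (coverHom φ C hCR)

end cover

/-- For every free presentation of a finite group with multiplier `A`, the Hopf group is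
isomorphic to `A`. -/
theorem equiv_MM_of_hasSchurMultiplier {Q : Type u} [Group Q] [Finite Q] {F : Type u} [Group F]
    [IsFreeGroup F] [Group.FG F] (φ : F →* Q) (hφ : Function.Surjective φ) {A : Type v}
    [CommGroup A] (hA : Cfsg.HasSchurMultiplier Q A) : Nonempty (MM φ ≃* A) := by
  obtain ⟨⟨Γ₀, _, _, σ₀, hσ₀, ⟨e₀⟩⟩, hA2⟩ := hA
  obtain ⟨f, hf⟩ := exists_MM_surjective (φ := φ) hφ hσ₀.1 hσ₀.2.1 hσ₀.2.2
  haveI := Rb_finiteIndex φ
  obtain ⟨C, hCR, hCM, hdec⟩ := exists_complement_in φ hφ (Rb φ) le_rfl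
  haveI := normal_of_le_Rb φ C hCR
  haveI : Finite (EE φ ⧸ C) := cover_finite φ C hCR hφ hCM hdec
  obtain ⟨e⟩ := coverHom_ker_equiv φ C hCR hCM hdec
  obtain ⟨π, hπ⟩ := hA2 (EE φ ⧸ C) (coverHom φ C hCR) (coverHom_isStem φ C hCR hφ hdec)
  let g : MM φ →* A := e₀.toMonoidHom.comp f
  have hg : Function.Surjective g := e₀.surjective.comp hf
  let k : A →* MM φ := e.toMonoidHom.comp π
  have hk : Function.Surjective k := e.surjective.comp hπ
  haveI := finite_MM φ hφ
  haveI : Finite A := Finite.of_surjective g hg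
  have hcard : Nat.card (MM φ) ≤ Nat.card A := Nat.card_le_card_of_surjective k hk
  exact ⟨MulEquiv.ofBijective g (hg.bijective_of_nat_card_le hcard)⟩

end Cfsg.Agent.Lib.Helper6_Hopf
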