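import Mathlib
import Cfsg.Prelude.Def_KGroupFacts
import Cfsg.Agent.Lib.Helper6_Perfect
import Cfsg.Agent.Lib.Helper6_Schur
import Cfsg.Agent.Lib.Helper6_Hopf

set_option autoImplicit false

/-! Restriction and transfer between the Hopf multipliers of a group and of a subgroup of
finite index. -/

namespace Cfsg.Agent.Lib.Helper6_Hopf

open scoped commutatorElement
open scoped IsMulCommutative
open Cfsg.Agent.Lib.Helper6_Perfect

universe u v w x

/-- the abstract splitting argument -/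
theorem direct_factor {A : Type u} {B : Type v} [CommGroup A] [CommGroup B] (p : ℕ)
    [hp : Fact p.Prime] (m : ℕ) (hm : Nat.Coprime m p) (hB : IsPGroup p B) (c : B →* A)
    (t : A →* B) (hct : ∀ a, c (t a) = a ^ m) :
    ∃ C D : Subgroup B, C ⊓ D = ⊥ ∧ C ⊔ D = ⊤ ∧
      Nonempty (CommGroup.primaryComponent A p ≃* C) := by
  have hkey : ∀ a ∈ CommGroup.primaryComponent A p, a ^ m = 1 → a = 1 := by
    intro a ha h
    obtain ⟨n, hn⟩ := ha
    have h1 : orderOf a ∣ m := orderOf_dvd_of_pow_eq_one h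
    have h2 : orderOf a ∣ p ^ n := orderOf_dvd_of_pow_eq_one hn
    have h3 : orderOf a ∣ Nat.gcd m (p ^ n) := Nat.dvd_gcd h1 h2
    have h4 : Nat.gcd m (p ^ n) = 1 := Nat.Coprime.pow_right n hm
    rw [h4, Nat.dvd_one] at h3
    exact orderOf_eq_one_iff.mp h3
  refine ⟨(CommGroup.primaryComponent A p).map t, c.ker, ?_, ?_, ?_⟩
  · rw [eq_bot_iff]
    rintro b ⟨⟨a, ha, rfl⟩, hb⟩
    have h1 : a ^ m = 1 := by
      rw [← hct]
      exact hb
    rw [hkey a ha h1, map_one]
    exact Subgroup.mem_bot.mpr rfl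
  · rw [eq_top_iff]
    intro b _
    obtain ⟨k, hk⟩ := hB b
    have ha : c b ∈ CommGroup.primaryComponent A p := ⟨k, by rw [← map_pow, hk, map_one]⟩
    have h1 : orderOf (c b) ∣ p ^ k :=
      orderOf_dvd_of_pow_eq_one (by rw [← map_pow, hk, map_one])
    have hcop : Nat.Coprime m (orderOf (c b)) :=
      Nat.Coprime.coprime_dvd_right h1 (Nat.Coprime.pow_right k hm)
    obtain ⟨u, hu⟩ := exists_pow_eq_self_of_coprime hcop
    have hb₁ : t ((c b) ^ u) ∈ (CommGroup.primaryComponent A p).map t :=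
      ⟨_, Subgroup.pow_mem _ ha u, rfl⟩
    have hcb₁ : c (t ((c b) ^ u)) = c b := by
      rw [hct, ← pow_mul, mul_comm, pow_mul]
      exact hu
    have hD : (t ((c b) ^ u))⁻¹ * b ∈ c.ker := by
      rw [MonoidHom.mem_ker, map_mul, map_inv, hcb₁, inv_mul_cancel]
    have hb : b = t ((c b) ^ u) * ((t ((c b) ^ u))⁻¹ * b) := by group
    rw [hb]
    exact Subgroup.mul_mem_sup hb₁ hD
  · let f : CommGroup.primaryComponent A p →* (CommGroup.primaryComponent A p).map t :=
      t.subgroupMap _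
    have hfi : Function.Injective f := by
      rw [injective_iff_map_eq_one]
      intro a ha
      have h1 : t a.1 = 1 := congrArg Subtype.val ha
      have h2 : a.1 ^ m = 1 := by rw [← hct, h1, map_one]
      exact Subtype.ext (hkey a.1 a.2 h2)
    exact ⟨MulEquiv.ofBijective f ⟨hfi, t.subgroupMap_surjective _⟩⟩

instance Rb_isMulCommutative {Q : Type u} [Group Q] {F : Type w} [Group F] (φ : F →* Q) :
    IsMulCommutative (Rb φ) :=
  ⟨⟨fun a b => Subtype.ext (Subgroup.mem_center_iff.mp (Rb_le_center φ b.2) a.1)⟩⟩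

section transfer

variable {G : Type u} [Group G] {F : Type w} [Group F] (φ : F →* G) (P : Subgroup G)

/-- the preimage of `P` -/
abbrev SS : Subgroup F := P.comap φ

/-- the restricted presentation of `P` -/
abbrev phiS : SS φ P →* P := φ.subgroupComap P

theorem ker_le_SS : φ.ker ≤ SS φ P := fun x hx => by
  change φ x ∈ P
  rw [MonoidHom.mem_ker.mp hx]
  exact P.one_mem

theorem mem_ker_phiS (y : SS φ P) : y ∈ (phiS φ P).ker ↔ (y : F) ∈ φ.ker := by
  rw [MonoidHom.mem_ker, MonoidHom.mem_ker]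
  constructor
  · intro h
    exact congrArg Subtype.val h
  · intro h
    exact Subtype.ext h

theorem phiS_surjective (hφ : Function.Surjective φ) : Function.Surjective (phiS φ P) :=
  φ.subgroupComap_surjective_of_surjective P hφ

theorem NN_phiS_le : NN (phiS φ P) ≤ (NN φ).comap (SS φ P).subtype := by
  unfold NN
  rw [← Subgroup.map_le_iff_le_comap, Subgroup.map_commutator]
  apply Subgroup.commutator_mono le_top
  rintro _ ⟨y, hy, rfl⟩
  exact (mem_ker_phiS φ P y).mp hy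

/-- the corestriction `S/[S,R] → F/[F,R]` -/
def cor : EE (phiS φ P) →* EE φ :=
  QuotientGroup.map (NN (phiS φ P)) (NN φ) (SS φ P).subtype (NN_phiS_le φ P)

theorem cor_mk (y : SS φ P) : cor φ P (QuotientGroup.mk y) = QuotientGroup.mk (y : F) := rfl

theorem conj_mem_ker (t : F) (x : φ.ker) : t⁻¹ * (x : F) * t ∈ φ.ker :=
  (inferInstance : φ.ker.Normal).conj_mem' x.1 x.2 t

/-- conjugation by `t⁻¹` from the kernel into `S` -/
def conjS (t : F) : φ.ker →* SS φ P where
  toFun x := ⟨t⁻¹ * (x : F) * t, ker_le_SS φ P (conj_mem_ker φ t x)⟩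
  map_one' := Subtype.ext (by simp)
  map_mul' x y := Subtype.ext (by
    change t⁻¹ * ((x : F) * (y : F)) * t = (t⁻¹ * (x : F) * t) * (t⁻¹ * (y : F) * t)
    group)

theorem conjS_coe (t : F) (x : φ.ker) : ((conjS φ P t x : SS φ P) : F) = t⁻¹ * (x : F) * t := rfl

theorem conjS_mem_ker (t : F) (x : φ.ker) : conjS φ P t x ∈ (phiS φ P).ker :=
  (mem_ker_phiS φ P _).mpr (conj_mem_ker φ t x)

/-- conjugation followed by the projection to `R/[S,R]` -/
def conjKer (t : F) : φ.ker →* Rb (phiS φ P) :=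
  ((QuotientGroup.mk' (NN (phiS φ P))).comp (conjS φ P t)).codRestrict (Rb (phiS φ P))
    (fun x => (mk_mem_Rb_iff (phiS φ P) _).mpr (conjS_mem_ker φ P t x))

theorem conjKer_coe (t : F) (x : φ.ker) :
    ((conjKer φ P t x : Rb (phiS φ P)) : EE (phiS φ P)) = QuotientGroup.mk (conjS φ P t x) := rfl

/-- `cor` maps `R/[S,R]` to `R/[F,R]` -/
theorem cor_mem_Rb (y : EE (phiS φ P)) (hy : y ∈ Rb (phiS φ P)) : cor φ P y ∈ Rb φ := by
  obtain ⟨s, rfl⟩ := QuotientGroup.mk_surjective y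
  rw [cor_mk, mk_mem_Rb_iff]
  exact (mem_ker_phiS φ P s).mp ((mk_mem_Rb_iff (phiS φ P) s).mp hy)

/-- `cor` on the central kernels -/
def corR : Rb (phiS φ P) →* Rb φ :=
  ((cor φ P).comp (Rb (phiS φ P)).subtype).codRestrict (Rb φ) (fun y => cor_mem_Rb φ P y.1 y.2)

theorem corR_conjKer (t : F) (x : φ.ker) :
    corR φ P (conjKer φ P t x) = ⟨QuotientGroup.mk (x : F), (mk_mem_Rb_iff φ _).mpr x.2⟩ := by
  apply Subtype.ext
  change cor φ P (QuotientGroup.mk (conjS φ P t x)) = QuotientGroup.mk (x : F)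
  rw [cor_mk, conjS_coe, QuotientGroup.mk_mul, QuotientGroup.mk_mul, QuotientGroup.mk_inv]
  have hx : (QuotientGroup.mk (x : F) : EE φ) ∈ Subgroup.center (EE φ) :=
    Rb_le_center φ ((mk_mem_Rb_iff φ _).mpr x.2)
  have := Subgroup.mem_center_iff.mp hx (QuotientGroup.mk t)⁻¹
  rw [this, mul_assoc, inv_mul_cancel, mul_one]

variable [(SS φ P).FiniteIndex]

/-- coset representatives -/
noncomputable def reps : F ⧸ SS φ P → F := fun q => Quotient.out q

theorem reps_spec (q : F ⧸ SS φ P) : (QuotientGroup.mk (reps φ P q) : F ⧸ SS φ P) = q :=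
  QuotientGroup.out_eq' q

/-- the transfer on the kernel, with values in `R/[S,R]` -/
noncomputable def VV : φ.ker →* Rb (phiS φ P) :=
  letI := (SS φ P).fintypeQuotientOfFiniteIndex
  ∏ q : F ⧸ SS φ P, conjKer φ P (reps φ P q)

theorem VV_apply (x : φ.ker) :
    letI := (SS φ P).fintypeQuotientOfFiniteIndex
    VV φ P x = ∏ q : F ⧸ SS φ P, conjKer φ P (reps φ P q) x := by
  unfold VV
  rw [MonoidHom.finset_prod_apply]

theorem corR_VV (x : φ.ker) :
    corR φ P (VV φ P x) =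
      (⟨QuotientGroup.mk (x : F), (mk_mem_Rb_iff φ _).mpr x.2⟩ : Rb φ) ^ (SS φ P).index := by
  letI := (SS φ P).fintypeQuotientOfFiniteIndex
  rw [VV_apply, map_prod]
  simp only [corR_conjKer]
  rw [Finset.prod_const, Finset.card_univ, Subgroup.index_eq_card, Nat.card_eq_fintype_card]

theorem VV_conj (f : F) (x : φ.ker) (h : f * (x : F) * f⁻¹ ∈ φ.ker) :
    VV φ P ⟨f * (x : F) * f⁻¹, h⟩ = VV φ P x := by
  letI := (SS φ P).fintypeQuotientOfFiniteIndex
  rw [VV_apply, VV_apply]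
  refine Fintype.prod_equiv (MulAction.toPerm f⁻¹) _ _ (fun q => ?_)
  apply Subtype.ext
  rw [conjKer_coe, conjKer_coe]
  -- the element `s`
  have hq : (QuotientGroup.mk (reps φ P (f⁻¹ • q)) : F ⧸ SS φ P) =
      QuotientGroup.mk (f⁻¹ * reps φ P q) := by
    rw [reps_spec]
    conv_lhs => rw [← reps_spec φ P q]
    rfl
  have hs : (reps φ P (f⁻¹ • q))⁻¹ * (f⁻¹ * reps φ P q) ∈ SS φ P := QuotientGroup.eq.mp hq
  have hrel : conjS φ P (reps φ P q) ⟨f * (x : F) * f⁻¹, h⟩ =
      (⟨_, hs⟩ : SS φ P)⁻¹ * conjS φ P (reps φ P (f⁻¹ • q)) x * ⟨_, hs⟩ := by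
    apply Subtype.ext
    simp only [Subgroup.coe_mul, Subgroup.coe_inv, conjS_coe]
    group
  rw [hrel, QuotientGroup.mk_mul, QuotientGroup.mk_mul, QuotientGroup.mk_inv]
  have hc : (QuotientGroup.mk (conjS φ P (reps φ P (f⁻¹ • q)) x) : EE (phiS φ P)) ∈
      Subgroup.center (EE (phiS φ P)) :=
    Rb_le_center _ ((mk_mem_Rb_iff (phiS φ P) _).mpr (conjS_mem_ker φ P _ x))
  have := Subgroup.mem_center_iff.mp hc (QuotientGroup.mk (⟨_, hs⟩ : SS φ P))⁻¹
  rw [this, mul_assoc, inv_mul_cancel, mul_one]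
  rfl


/-- the transfer of an element of `R ∩ F'` lies in the commutator subgroup of `S/[S,R]` -/
theorem VV_mem_commutator (x : φ.ker) (hx : (x : F) ∈ commutator F) :
    ((VV φ P x : Rb (phiS φ P)) : EE (phiS φ P)) ∈ commutator (EE (phiS φ P)) := by
  classical
  letI := (SS φ P).fintypeQuotientOfFiniteIndex
  let ϕ : SS φ P →* Abelianization (EE (phiS φ P)) :=
    Abelianization.of.comp (QuotientGroup.mk' (NN (phiS φ P)))
  let ψ : Rb (phiS φ P) →* Abelianization (EE (phiS φ P)) :=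
    Abelianization.of.comp (Rb (phiS φ P)).subtype
  let T : (SS φ P).LeftTransversal :=
    ⟨Set.range (reps φ P), Subgroup.isComplement_range_left (reps_spec φ P)⟩
  have h1 : MonoidHom.transfer ϕ (x : F) = 1 :=
    Abelianization.commutator_subset_ker (MonoidHom.transfer ϕ) hx
  have hxq : ∀ q : F ⧸ SS φ P, ((x : F)⁻¹) • q = q := by
    intro q
    obtain ⟨g, rfl⟩ := QuotientGroup.mk_surjective q
    change (QuotientGroup.mk ((x : F)⁻¹ * g) : F ⧸ SS φ P) = QuotientGroup.mk g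
    rw [QuotientGroup.eq]
    have h2 : ((x : F)⁻¹ * g)⁻¹ * g = g⁻¹ * (x : F) * g := by group
    rw [h2]
    exact ker_le_SS φ P (conj_mem_ker φ g x)
  have h2 : MonoidHom.transfer ϕ (x : F) = ψ (VV φ P x) := by
    calc MonoidHom.transfer ϕ (x : F) = ∏ q : F ⧸ SS φ P, _ := MonoidHom.transfer_def ϕ T (x : F)
      _ = ∏ q : F ⧸ SS φ P, ψ (conjKer φ P (reps φ P q) x) := by
        refine Finset.prod_congr rfl (fun q _ => ?_)
        change Abelianization.of (QuotientGroup.mk _) = Abelianization.of (QuotientGroup.mk _)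
        congr 2
        apply Subtype.ext
        rw [conjS_coe]
        simp only [Subgroup.smul_apply_eq_smul_apply_inv_smul, hxq, smul_eq_mul]
        rw [Subgroup.IsComplement.leftQuotientEquiv_apply (reps_spec φ P)]
        group
      _ = ψ (VV φ P x) := by rw [VV_apply, map_prod]
  have h3 : ψ (VV φ P x) = 1 := by rw [← h2, h1]
  have h4 : ((VV φ P x : Rb (phiS φ P)) : EE (phiS φ P)) ∈
      (Abelianization.of : EE (phiS φ P) →* Abelianization (EE (phiS φ P))).ker := h3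
  rw [Abelianization.ker_of] at h4
  exact h4

/-- `R ∩ F'` -/
abbrev RF : Subgroup F := φ.ker ⊓ commutator F

/-- projection of `R ∩ F'` onto the multiplier -/
def piRF : RF φ →* MM φ :=
  ((QuotientGroup.mk' (NN φ)).comp (RF φ).subtype).codRestrict (MM φ)
    (fun x => (mk_mem_MM_iff φ _).mpr x.2)

theorem piRF_surjective : Function.Surjective (piRF φ) := by
  rintro ⟨m, hm⟩
  obtain ⟨f, rfl⟩ := QuotientGroup.mk_surjective m
  exact ⟨⟨f, (mk_mem_MM_iff φ f).mp hm⟩, rfl⟩

/-- the transfer on `R ∩ F'` with values in the multiplier of `P` -/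
noncomputable def VRF : RF φ →* MM (phiS φ P) :=
  ((Rb (phiS φ P)).subtype.comp ((VV φ P).comp (Subgroup.inclusion inf_le_left))).codRestrict
    (MM (phiS φ P))
    (fun x => ⟨(VV φ P ⟨x.1, x.2.1⟩).2, VV_mem_commutator φ P ⟨x.1, x.2.1⟩ x.2.2⟩)

theorem VRF_coe (x : RF φ) :
    ((VRF φ P x : MM (phiS φ P)) : EE (phiS φ P)) = (VV φ P ⟨x.1, x.2.1⟩ : Rb (phiS φ P)) := rfl

theorem VV_eq_one_of_mem_NN (x : φ.ker) (hx : (x : F) ∈ NN φ) : VV φ P x = 1 := by
  have hle : NN φ ≤ ((VV φ P).ker).map φ.ker.subtype := by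
    change ⁅(⊤ : Subgroup F), φ.ker⁆ ≤ _
    rw [Subgroup.commutator_le]
    intro f _ r hr
    have hc : f * r * f⁻¹ ∈ φ.ker := (inferInstance : φ.ker.Normal).conj_mem r hr f
    refine ⟨⟨f * r * f⁻¹, hc⟩ * (⟨r, hr⟩ : φ.ker)⁻¹, ?_, ?_⟩
    · change VV φ P (⟨f * r * f⁻¹, hc⟩ * (⟨r, hr⟩ : φ.ker)⁻¹) = 1
      rw [map_mul, map_inv]
      have := VV_conj φ P f ⟨r, hr⟩ hc
      rw [this, mul_inv_cancel]
    · rw [commutatorElement_def]
      rfl
  obtain ⟨y, hy, hyx⟩ := hle hx
  have : y = x := Subtype.ext hyx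
  rw [← this]
  exact hy

theorem ker_piRF_le : (piRF φ).ker ≤ (VRF φ P).ker := by
  intro x hx
  have h1 : (QuotientGroup.mk (x : F) : EE φ) = 1 := congrArg Subtype.val hx
  have h2 : (x : F) ∈ NN φ := (QuotientGroup.eq_one_iff _).mp h1
  rw [MonoidHom.mem_ker]
  apply Subtype.ext
  rw [VRF_coe, VV_eq_one_of_mem_NN φ P ⟨x.1, x.2.1⟩ h2]
  rfl

/-- the transfer between the multipliers -/
noncomputable def trMM : MM φ →* MM (phiS φ P) :=
  (MonoidHom.liftOfSurjective (piRF φ) (piRF_surjective φ)) ⟨VRF φ P, ker_piRF_le φ P⟩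

theorem trMM_piRF (x : RF φ) : trMM φ P (piRF φ x) = VRF φ P x :=
  MonoidHom.liftOfRightInverse_comp_apply (piRF φ) _
    (Function.rightInverse_surjInv (piRF_surjective φ)) ⟨VRF φ P, ker_piRF_le φ P⟩ x

omit [(SS φ P).FiniteIndex] in
theorem cor_mem_commutator (y : EE (phiS φ P)) (hy : y ∈ commutator (EE (phiS φ P))) :
    cor φ P y ∈ commutator (EE φ) := by
  have h : (commutator (EE (phiS φ P))).map (cor φ P) ≤ commutator (EE φ) := by
    rw [commutator_def, commutator_def, Subgroup.map_commutator]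
    exact Subgroup.commutator_mono le_top le_top
  exact h ⟨y, hy, rfl⟩

/-- the corestriction between the multipliers -/
def corMM : MM (phiS φ P) →* MM φ :=
  ((cor φ P).comp (MM (phiS φ P)).subtype).codRestrict (MM φ)
    (fun y => ⟨cor_mem_Rb φ P y.1 y.2.1, cor_mem_commutator φ P y.1 y.2.2⟩)

theorem corMM_trMM (a : MM φ) : corMM φ P (trMM φ P a) = a ^ (SS φ P).index := by
  obtain ⟨x, rfl⟩ := piRF_surjective φ a
  rw [trMM_piRF]
  apply Subtype.ext
  have h1 := congrArg (fun z : Rb φ => (z : EE φ)) (corR_VV φ P ⟨x.1, x.2.1⟩)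
  simp only [Subgroup.coe_pow] at h1
  rw [Subgroup.coe_pow]
  exact h1

end transfer

end Cfsg.Agent.Lib.Helper6_Hopf
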