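import Mathlib

/-! An elementary abelian `q`-group with an irreducible automorphism of prime order `p ≠ q`
has order `q ^ ord_p(q)`. -/

set_option autoImplicit false

namespace Cfsg.Agent.Lib.Helper6_IrrCyclic

open Polynomial

/-- In a finite commutative domain where every element satisfies `r ^ N = r` (`N ≥ 2`), there are at most `N` elements. -/
theorem card_le_of_pow_eq {R : Type*} [CommRing R] [IsDomain R] [Finite R] (N : ℕ) (hN : 1 < N)
    (h : ∀ r : R, r ^ N = r) : Nat.card R ≤ N := by
  classical
  haveI : Fintype R := Fintype.ofFinite R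
  set P : R[X] := X ^ N - X with hP
  have hdeg : P.natDegree = N := by
    rw [hP, natDegree_sub_eq_left_of_natDegree_lt]
    · exact natDegree_X_pow N
    · rw [natDegree_X_pow, natDegree_X]; exact hN
  have hP0 : P ≠ 0 := by
    intro h0
    rw [h0, natDegree_zero] at hdeg
    omega
  have hroots : ∀ r : R, r ∈ P.roots := by
    intro r
    rw [mem_roots hP0, IsRoot.def, hP, eval_sub, eval_pow, eval_X, h r, sub_self]
  have h1 : Finset.univ ⊆ P.roots.toFinset := by
    intro r _
    exact Multiset.mem_toFinset.mpr (hroots r)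
  calc Nat.card R = Fintype.card R := Nat.card_eq_fintype_card
    _ = (Finset.univ : Finset R).card := rfl
    _ ≤ P.roots.toFinset.card := Finset.card_le_card h1
    _ ≤ P.roots.card := Multiset.toFinset_card_le _
    _ ≤ P.natDegree := card_roots' P
    _ = N := hdeg

theorem pow_card_pow_eq_expand {q : ℕ} [Fact q.Prime] (g : (ZMod q)[X]) (m : ℕ) :
    g ^ (q ^ m) = expand (ZMod q) (q ^ m) g := by
  induction m with
  | zero => simp
  | succ k ih =>
    rw [pow_succ, pow_mul, ih, ← ZMod.expand_card, ← expand_mul, mul_comm]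

theorem card_le_of_irreducible_linear {q p : ℕ} [hq : Fact q.Prime] {M : Type*} [AddCommGroup M]
    [Module (ZMod q) M] [Finite M] (f : Module.End (ZMod q) M) (hfp : f ^ p = 1)
    (hirr : ∀ W : Submodule (ZMod q) M, (∀ x ∈ W, f x ∈ W) → W = ⊥ ∨ W = ⊤)
    (m : ℕ) (hm0 : m ≠ 0) (hm : q ^ m % p = 1) : Nat.card M ≤ q ^ m := by
  classical
  by_cases hsub : Subsingleton M
  · rw [Nat.card_eq_one_iff_unique.mpr ⟨hsub, ⟨0⟩⟩]
    exact Nat.one_le_pow _ _ hq.out.pos
  rw [not_subsingleton_iff_nontrivial] at hsub
  obtain ⟨a, ha⟩ := exists_ne (0 : M)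
  haveI : Finite (Module.End (ZMod q) M) :=
    Finite.of_injective (fun g : Module.End (ZMod q) M => (g : M → M)) DFunLike.coe_injective
  set R := Algebra.adjoin (ZMod q) ({f} : Set (Module.End (ZMod q) M)) with hR
  haveI hRc : IsMulCommutative R := Algebra.isMulCommutative_adjoin (ZMod q) (by
    intro x hx y hy
    rw [Set.mem_singleton_iff] at hx hy
    rw [hx, hy])
  letI : CommRing R := { (inferInstance : Ring R) with mul_comm := fun x y => hRc.is_comm.comm x y }
  have hfR : f ∈ R := Algebra.subset_adjoin rfl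
  have hcomm : ∀ r ∈ R, ∀ s ∈ R, r * s = s * r := by
    intro r hr s hs
    exact congrArg Subtype.val (mul_comm (⟨r, hr⟩ : R) ⟨s, hs⟩)
  -- f ^ (q^m) = f
  have hfpow : f ^ (q ^ m) = f := by
    have h1 : q ^ m = p * (q ^ m / p) + 1 := by
      have := Nat.div_add_mod (q ^ m) p
      rw [hm] at this
      exact this.symm
    rw [h1, pow_succ, pow_mul, hfp, one_pow, one_mul]
  -- every element of R satisfies r^(q^m) = r
  have hpow : ∀ r : R, r ^ (q ^ m) = r := by
    rintro ⟨r, hr⟩
    apply Subtype.ext
    rw [SubmonoidClass.coe_pow]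
    show r ^ (q ^ m) = r
    rw [hR, Algebra.adjoin_singleton_eq_range_aeval] at hr
    obtain ⟨g, rfl⟩ := hr
    show (aeval f g) ^ (q ^ m) = aeval f g
    rw [← map_pow, pow_card_pow_eq_expand, expand_aeval, hfpow]
  -- invariant submodules from elements of R
  have hrange : ∀ s ∈ R, s ≠ 0 → ∀ y : M, ∃ x : M, s x = y := by
    intro s hs hs0 y
    have h1 := hirr (LinearMap.range s) (by
      rintro _ ⟨x, rfl⟩
      refine ⟨f x, ?_⟩
      have := hcomm s hs f hfR
      exact (LinearMap.congr_fun this x))
    rcases h1 with h1 | h1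
    · exfalso
      apply hs0
      exact LinearMap.range_eq_bot.mp h1
    · have : y ∈ LinearMap.range s := by rw [h1]; trivial
      exact this
  -- R is a domain
  haveI : Nontrivial R := ⟨⟨0, 1, by
    intro h01
    have h2 : (0 : Module.End (ZMod q) M) = 1 := congrArg Subtype.val h01
    have := LinearMap.congr_fun h2 a
    simp at this
    exact ha this.symm⟩⟩
  haveI : NoZeroDivisors R := ⟨by
    rintro ⟨r, hr⟩ ⟨s, hs⟩ hrs
    by_cases hs0 : s = 0
    · right; exact Subtype.ext hs0
    · left
      apply Subtype.ext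
      show r = 0
      have hrs' : r * s = 0 := congrArg Subtype.val hrs
      ext y
      obtain ⟨x, rfl⟩ := hrange s hs hs0 y
      have := LinearMap.congr_fun hrs' x
      simpa using this⟩
  haveI : IsDomain R := NoZeroDivisors.to_isDomain R
  have hN : 1 < q ^ m := Nat.one_lt_pow hm0 hq.out.one_lt
  have hcardR : Nat.card R ≤ q ^ m := card_le_of_pow_eq (q ^ m) hN hpow
  -- surjection R → M
  have hsurj : Function.Surjective (fun r : R => (r : Module.End (ZMod q) M) a) := by
    intro y
    -- the submodule {r a}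
    let W : Submodule (ZMod q) M :=
      { carrier := {y | ∃ r ∈ R, r a = y}
        add_mem' := by
          rintro _ _ ⟨r, hr, rfl⟩ ⟨s, hs, rfl⟩
          exact ⟨r + s, R.add_mem hr hs, rfl⟩
        zero_mem' := ⟨0, R.zero_mem, rfl⟩
        smul_mem' := by
          rintro c _ ⟨r, hr, rfl⟩
          exact ⟨c • r, R.smul_mem hr c, rfl⟩ }
    have hW := hirr W (by
      rintro _ ⟨r, hr, rfl⟩
      exact ⟨f * r, R.mul_mem hfR hr, rfl⟩)
    rcases hW with hW | hW
    · exfalso
      have h1 : a ∈ W := ⟨1, R.one_mem, rfl⟩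
      rw [hW] at h1
      exact ha h1
    · have h1 : y ∈ W := by rw [hW]; trivial
      obtain ⟨r, hr, rfl⟩ := h1
      exact ⟨⟨r, hr⟩, rfl⟩
  exact (Nat.card_le_card_of_surjective _ hsurj).trans hcardR

theorem card_le_of_irreducible_additive {A : Type*} [CommGroup A] [Finite A] {p q : ℕ}
    [hq : Fact q.Prime] [Module (ZMod q) (Additive A)] (σ : A →* A)
    (hσp : ∀ a, (σ^[p]) a = a)
    (hirr : ∀ B : Subgroup A, (∀ b ∈ B, σ b ∈ B) → B = ⊥ ∨ B = ⊤)
    (m : ℕ) (hm0 : m ≠ 0) (hm : q ^ m % p = 1) : Nat.card A ≤ q ^ m := by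
  let f : Additive A →ₗ[ZMod q] Additive A := (MonoidHom.toAdditive σ).toZModLinearMap q
  have hf : ∀ x : Additive A, f x = Additive.ofMul (σ x.toMul) := fun x => rfl
  have hfiter : ∀ (n : ℕ) (x : Additive A),
      ((f : Module.End (ZMod q) (Additive A)) ^ n) x = Additive.ofMul (σ^[n] x.toMul) := by
    intro n
    induction n with
    | zero => intro x; simp
    | succ k ih =>
      intro x
      rw [pow_succ', Module.End.mul_apply, ih, hf, Function.iterate_succ', Function.comp_apply]
      rfl
  have hfp : (f : Module.End (ZMod q) (Additive A)) ^ p = 1 := by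
    ext x
    rw [hfiter, hσp]
    rfl
  have h1 := card_le_of_irreducible_linear (q := q) (p := p) f hfp (by
    intro W hW
    let B : Subgroup A :=
      { carrier := {a | Additive.ofMul a ∈ W}
        mul_mem' := by
          intro a b ha hb
          exact W.add_mem ha hb
        one_mem' := W.zero_mem
        inv_mem' := by
          intro a ha
          exact W.neg_mem ha }
    rcases hirr B (fun b hb => hW _ hb) with hB | hB
    · left
      rw [Submodule.eq_bot_iff]
      intro x hx
      have : x.toMul ∈ B := hx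
      rw [hB, Subgroup.mem_bot] at this
      exact this
    · right
      rw [Submodule.eq_top_iff']
      intro x
      have : x.toMul ∈ B := by rw [hB]; trivial
      exact this) m hm0 hm
  rwa [Nat.card_congr Additive.ofMul.symm] at h1

/-- An elementary abelian `q`-group `A` with an automorphism `σ` of order `p` (a prime `≠ q`),
nontrivial and irreducible, has order `q ^ ord_p(q)`. -/
theorem card_eq_of_irreducible {A : Type*} [CommGroup A] [Finite A] {p q : ℕ} [hp : Fact p.Prime]
    [hq : Fact q.Prime] (hpq : q ≠ p) (hA : ∀ a : A, a ^ q = 1) (σ : A →* A)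
    (hσp : ∀ a, (σ^[p]) a = a) (hσ1 : ∃ a, σ a ≠ a)
    (hirr : ∀ B : Subgroup A, (∀ b ∈ B, σ b ∈ B) → B = ⊥ ∨ B = ⊤) :
    Nat.card A = q ^ orderOf (q : ZMod p) := by
  classical
  have hcop : q.Coprime p := (Nat.coprime_primes hq.out hp.out).mpr hpq
  set e := orderOf (q : ZMod p) with he
  have he0 : e ≠ 0 := by
    have h1 : orderOf (ZMod.unitOfCoprime q hcop) = e := by
      rw [he, ← orderOf_units, ZMod.coe_unitOfCoprime]
    rw [← h1]
    exact (orderOf_pos _).ne'
  have hqe : q ^ e % p = 1 := by
    have h1 : ((q ^ e : ℕ) : ZMod p) = ((1 : ℕ) : ZMod p) := by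
      rw [Nat.cast_pow, he, pow_orderOf_eq_one, Nat.cast_one]
    rw [ZMod.natCast_eq_natCast_iff'] at h1
    rw [h1, Nat.mod_eq_of_lt hp.out.one_lt]
  -- upper bound
  have hle : Nat.card A ≤ q ^ e := by
    letI : Module (ZMod q) (Additive A) := AddCommGroup.zmodModule (n := q) (by
      intro x
      induction x using Additive.rec with
      | ofMul a => rw [← ofMul_pow, hA a]; rfl)
    exact card_le_of_irreducible_additive σ hσp hirr e he0 hqe
  -- lower bound
  have hpg : IsPGroup q A := fun a => ⟨1, by rw [pow_one]; exact hA a⟩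
  obtain ⟨k, hk⟩ := IsPGroup.iff_card.mp hpg
  have hfix : ∀ a : A, σ a = a → a = 1 := by
    intro a ha
    have h1 := hirr (MonoidHom.eqLocus σ (MonoidHom.id A)) (by
      intro b hb
      have hb' : σ b = b := hb
      show σ (σ b) = σ b
      rw [hb', hb'])
    rcases h1 with h1 | h1
    · have : a ∈ MonoidHom.eqLocus σ (MonoidHom.id A) := ha
      rw [h1] at this
      exact this
    · exfalso
      obtain ⟨b, hb⟩ := hσ1
      apply hb
      have : b ∈ MonoidHom.eqLocus σ (MonoidHom.id A) := by rw [h1]; trivial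
      exact this
  have hmod : Nat.card A ≡ 1 [MOD p] := by
    haveI : Fintype A := Fintype.ofFinite A
    let g : Function.End A := (σ : A → A)
    have hg : ∀ n : ℕ, g ^ n = (σ : A → A)^[n] := by
      intro n
      induction n with
      | zero => rfl
      | succ n ih => rw [pow_succ', ih, Function.iterate_succ']; rfl
    have h1 := Equiv.Perm.card_fixedPoints_modEq (α := A) (f := g) (p := p) (n := 1) (by
      rw [pow_one, hg]
      funext a
      exact hσp a)
    have h2 : Fintype.card ↑(Function.fixedPoints g) = 1 := by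
      rw [Fintype.card_eq_one_iff]
      refine ⟨⟨1, map_one σ⟩, ?_⟩
      rintro ⟨a, ha⟩
      exact Subtype.ext (hfix a ha)
    rw [h2, ← Nat.card_eq_fintype_card] at h1
    exact h1
  have hek : e ∣ k := by
    rw [he, orderOf_dvd_iff_pow_eq_one]
    have h1 : ((q ^ k : ℕ) : ZMod p) = ((1 : ℕ) : ZMod p) := by
      rw [ZMod.natCast_eq_natCast_iff, ← hk]
      exact hmod
    rwa [Nat.cast_pow, Nat.cast_one] at h1
  have hk0 : k ≠ 0 := by
    rintro rfl
    rw [pow_zero] at hk
    obtain ⟨b, hb⟩ := hσ1
    haveI : Subsingleton A := (Nat.card_eq_one_iff_unique.mp hk).1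
    exact hb (Subsingleton.elim _ _)
  have hke : k ≤ e := by
    rw [hk] at hle
    exact (Nat.pow_le_pow_iff_right hq.out.one_lt).mp hle
  have : e ≤ k := Nat.le_of_dvd (Nat.pos_of_ne_zero hk0) hek
  rw [hk, le_antisymm hke this]

end Cfsg.Agent.Lib.Helper6_IrrCyclic
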