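import Mathlib
import Cfsg.Prelude.Def_OddOrderLocal

set_option autoImplicit false
open scoped commutatorElement

namespace Cfsg.Agent.Lib.Helper6_Metacyclic

/-! ### arithmetic -/

theorem dvd_pow_sub_one_iff {p : ℕ} [hp : Fact p.Prime] (hp1 : Odd p) {t u : ℕ} (ht : 1 ≤ t)
    (hu : ¬ p ∣ u) (s k : ℕ) :
    p ^ s ∣ (1 + p ^ t * u) ^ k - 1 ↔ p ^ s ∣ p ^ t * k := by
  rcases Nat.eq_zero_or_pos k with rfl | hk
  · simp
  have hu0 : u ≠ 0 := by rintro rfl; exact hu (dvd_zero p)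
  have hpt : 0 < p ^ t := pow_pos hp.out.pos t
  have hr : 1 < 1 + p ^ t * u := by
    have : 0 < p ^ t * u := Nat.mul_pos hpt (Nat.pos_of_ne_zero hu0)
    omega
  have hpdt : p ∣ p ^ t := dvd_pow_self p (by omega)
  have h1 : p ∣ (1 + p ^ t * u) - 1 := by
    rw [Nat.add_sub_cancel_left]; exact Dvd.dvd.mul_right hpdt u
  have h2 : ¬ p ∣ 1 + p ^ t * u := by
    intro h
    have : p ∣ 1 := (Nat.dvd_add_left (Dvd.dvd.mul_right hpdt u)).mp h
    exact hp.out.one_lt.ne' (Nat.dvd_one.mp this)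
  have h3 := padicValNat.pow_sub_pow hp1 hr h1 h2 hk.ne'
  rw [one_pow, Nat.add_sub_cancel_left] at h3
  have h4 : padicValNat p (p ^ t * u) = t := by
    rw [padicValNat.mul hpt.ne' hu0, padicValNat.prime_pow, padicValNat.eq_zero_of_not_dvd hu, add_zero]
  have hne1 : (1 + p ^ t * u) ^ k - 1 ≠ 0 := by
    have : 1 < (1 + p ^ t * u) ^ k := Nat.one_lt_pow hk.ne' hr
    omega
  have hne2 : p ^ t * k ≠ 0 := Nat.mul_ne_zero hpt.ne' hk.ne'
  rw [padicValNat_dvd_iff_le hne1, padicValNat_dvd_iff_le hne2, h3, h4,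
    padicValNat.mul hpt.ne' hk.ne', padicValNat.prime_pow]

/-- `r ^ p ^ j = 1 + p ^ (t + j) * u'` -/
theorem exists_pow_form {p : ℕ} [hp : Fact p.Prime] (hp1 : Odd p) {t u : ℕ} (ht : 1 ≤ t)
    (hu : ¬ p ∣ u) (j : ℕ) :
    ∃ u', (1 + p ^ t * u) ^ p ^ j = 1 + p ^ (t + j) * u' ∧ ¬ p ∣ u' := by
  have h1 : p ^ (t + j) ∣ (1 + p ^ t * u) ^ p ^ j - 1 := by
    rw [dvd_pow_sub_one_iff hp1 ht hu, pow_add]
  obtain ⟨u', hu'⟩ := h1
  refine ⟨u', ?_, ?_⟩
  · have : 1 ≤ (1 + p ^ t * u) ^ p ^ j := Nat.one_le_pow _ _ (by omega)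
    omega
  · intro hdvd
    have h2 : p ^ (t + j + 1) ∣ (1 + p ^ t * u) ^ p ^ j - 1 := by
      rw [hu', pow_succ]; exact Nat.mul_dvd_mul_left _ hdvd
    rw [dvd_pow_sub_one_iff hp1 ht hu, ← pow_add] at h2
    have := (Nat.pow_dvd_pow_iff_le_right hp.out.one_lt).mp h2
    omega

/-! ### cyclic p-groups -/

section cyc
variable {G : Type*} [Group G] {p : ℕ} [hp : Fact p.Prime]

theorem isOfFinOrder_of_orderOf {x : G} {e : ℕ} (hx : orderOf x = p ^ e) : IsOfFinOrder x := by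
  rw [← orderOf_pos_iff, hx]; exact pow_pos hp.out.pos e

theorem orderOf_pow_prime_pow {x : G} {e : ℕ} (hx : orderOf x = p ^ e) (i : ℕ) :
    orderOf (x ^ p ^ i) = p ^ (e - i) := by
  have hfin : IsOfFinOrder x := isOfFinOrder_of_orderOf hx
  rw [hfin.orderOf_pow, hx]
  rcases le_total i e with h | h
  · rw [Nat.gcd_eq_right (pow_dvd_pow p h), Nat.pow_div h hp.out.pos]
  · rw [Nat.gcd_eq_left (pow_dvd_pow p h), Nat.div_self (pow_pos hp.out.pos e),
      Nat.sub_eq_zero_of_le h, pow_zero]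

theorem zpowers_pow_mul_eq [Finite G] {x : G} {e : ℕ} (hx : orderOf x = p ^ e) (v k : ℕ) (hk : ¬ p ∣ k) :
    Subgroup.zpowers (x ^ (p ^ v * k)) = Subgroup.zpowers (x ^ p ^ v) := by
  have hfin : IsOfFinOrder x := isOfFinOrder_of_orderOf hx
  have hle : Subgroup.zpowers (x ^ (p ^ v * k)) ≤ Subgroup.zpowers (x ^ p ^ v) := by
    rw [Subgroup.zpowers_le, pow_mul]
    exact Subgroup.pow_mem _ (Subgroup.mem_zpowers _) k
  have hcop : Nat.Coprime (p ^ e) k := Nat.Coprime.pow_left e ((Nat.Prime.coprime_iff_not_dvd hp.out).mpr hk)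
  have hord : orderOf (x ^ (p ^ v * k)) = orderOf (x ^ p ^ v) := by
    rw [hfin.orderOf_pow, hfin.orderOf_pow, hx, Nat.Coprime.gcd_mul_right_cancel_right _ hcop.symm]
  apply Subgroup.eq_of_le_of_card_ge hle
  rw [Nat.card_zpowers, Nat.card_zpowers, hord]

/-- subgroups of a cyclic `p`-group -/
theorem exists_zpowers_eq [Finite G] {x : G} {e : ℕ} (hx : orderOf x = p ^ e) (H : Subgroup G)
    (hH : H ≤ Subgroup.zpowers x) : ∃ i ≤ e, H = Subgroup.zpowers (x ^ p ^ i) := by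
  classical
  have hex : ∃ i, x ^ p ^ i ∈ H := ⟨e, by rw [← hx, pow_orderOf_eq_one]; exact H.one_mem⟩
  refine ⟨Nat.find hex, Nat.find_min' hex (by rw [← hx, pow_orderOf_eq_one]; exact H.one_mem), ?_⟩
  apply le_antisymm
  · intro g hg
    obtain ⟨k, hk0⟩ := ((isOfFinOrder_of_orderOf hx).mem_powers_iff_mem_zpowers).mpr (hH hg)
    have hk0' : x ^ k = g := hk0
    subst hk0'
    rcases Nat.eq_zero_or_pos k with rfl | hk
    · rw [pow_zero]; exact Subgroup.one_mem _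
    obtain ⟨v, k', hk', rfl⟩ := Nat.exists_eq_pow_mul_and_not_dvd hk.ne' p hp.out.ne_one
    have h1 : x ^ p ^ v ∈ H := by
      have : x ^ p ^ v ∈ Subgroup.zpowers (x ^ (p ^ v * k')) := by
        rw [zpowers_pow_mul_eq hx v k' hk']; exact Subgroup.mem_zpowers _
      exact (Subgroup.zpowers_le.mpr hg) this
    have h2 : Nat.find hex ≤ v := Nat.find_min' hex h1
    obtain ⟨d, rfl⟩ := Nat.exists_eq_add_of_le h2
    rw [pow_add, mul_assoc, pow_mul]
    exact Subgroup.pow_mem _ (Subgroup.mem_zpowers _) _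
  · rw [Subgroup.zpowers_le]; exact Nat.find_spec hex

end cyc

/-! ### basic computations -/

section basic
variable {G : Type*} [Group G]

theorem conj_pow_of_conj {a b : G} {r : ℕ} (hc : b⁻¹ * a * b = a ^ r) (j : ℕ) :
    b⁻¹ * a ^ j * b = a ^ (j * r) := by
  have h1 : b⁻¹ * a ^ j * b = (b⁻¹ * a * b) ^ j := by
    have := map_pow (MulAut.conj b⁻¹) a j
    simp only [MulAut.conj_apply, inv_inv] at this
    exact this
  rw [h1, hc, ← pow_mul, mul_comm]

theorem apow_mul_bpow {a b : G} {r : ℕ} (hc : b⁻¹ * a * b = a ^ r) (j k : ℕ) :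
    a ^ j * b ^ k = b ^ k * a ^ (j * r ^ k) := by
  induction k generalizing j with
  | zero => simp
  | succ k ih =>
    have h1 := conj_pow_of_conj hc (j * r ^ k)
    have h2 : a ^ (j * r ^ k) * b = b * a ^ (j * r ^ k * r) := by
      rw [← h1]; group
    calc a ^ j * b ^ (k + 1) = (a ^ j * b ^ k) * b := by rw [pow_succ, mul_assoc]
      _ = b ^ k * (a ^ (j * r ^ k) * b) := by rw [ih, mul_assoc]
      _ = b ^ (k + 1) * a ^ (j * r ^ (k + 1)) := by
        rw [h2, ← mul_assoc, ← pow_succ, pow_succ r, mul_assoc j]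

theorem mul_formula {a b : G} {r : ℕ} (hc : b⁻¹ * a * b = a ^ r) (i j k l : ℕ) :
    (b ^ i * a ^ j) * (b ^ k * a ^ l) = b ^ (i + k) * a ^ (j * r ^ k + l) := by
  calc (b ^ i * a ^ j) * (b ^ k * a ^ l) = b ^ i * (a ^ j * b ^ k) * a ^ l := by group
    _ = b ^ i * (b ^ k * a ^ (j * r ^ k)) * a ^ l := by rw [apow_mul_bpow hc]
    _ = b ^ (i + k) * a ^ (j * r ^ k + l) := by rw [pow_add, pow_add]; group

end basic

/-! ### the data of a metacyclic `p`-group -/

/-- `G = ⟨b⟩⟨a⟩`, `⟨a⟩` of order `p ^ e`, `b⁻¹ a b = a ^ r`, `r = 1 + p ^ t u`, `b` of order `p ^ m` modulo `⟨a⟩`. -/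
structure MC (p : ℕ) (G : Type*) [Group G] (a b : G) (r e m t : ℕ) : Prop where
  ord : orderOf a = p ^ e
  conj : b⁻¹ * a * b = a ^ r
  gen : ∀ g : G, ∃ i j : ℕ, g = b ^ i * a ^ j
  bpow : ∀ k : ℕ, b ^ k ∈ Subgroup.zpowers a ↔ p ^ m ∣ k
  rform : ∃ u, r = 1 + p ^ t * u ∧ ¬ p ∣ u
  tpos : 1 ≤ t

namespace MC
variable {G : Type*} [Group G] {p : ℕ} [hp : Fact p.Prime] {a b : G} {r e m t : ℕ}

theorem apow_eq_one_iff (h : MC p G a b r e m t) (k : ℕ) : a ^ k = 1 ↔ p ^ e ∣ k := by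
  rw [← h.ord, orderOf_dvd_iff_pow_eq_one]

theorem apow_eq_apow_iff (h : MC p G a b r e m t) (k l : ℕ) : a ^ k = a ^ l ↔ k ≡ l [MOD p ^ e] := by
  rw [← h.ord, pow_eq_pow_iff_modEq]

theorem mem_zpowers_a_iff (h : MC p G a b r e m t) (g : G) :
    g ∈ Subgroup.zpowers a ↔ ∃ k : ℕ, g = a ^ k := by
  rw [← (isOfFinOrder_of_orderOf h.ord).mem_powers_iff_mem_zpowers]
  constructor
  · rintro ⟨k, hk⟩; exact ⟨k, hk.symm⟩
  · rintro ⟨k, hk⟩; exact ⟨k, hk.symm⟩

theorem inv_conj (h : MC p G a b r e m t) (i j x : ℕ) :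
    (b ^ i * a ^ j)⁻¹ * a ^ x * (b ^ i * a ^ j) = a ^ (x * r ^ i) := by
  have h1 := apow_mul_bpow h.conj x i
  calc (b ^ i * a ^ j)⁻¹ * a ^ x * (b ^ i * a ^ j)
      = (a ^ j)⁻¹ * ((b ^ i)⁻¹ * (a ^ x * b ^ i)) * a ^ j := by group
    _ = (a ^ j)⁻¹ * a ^ (x * r ^ i) * a ^ j := by rw [h1]; group
    _ = a ^ (x * r ^ i) := by
      rw [mul_assoc, ← pow_add, add_comm, pow_add, ← mul_assoc, inv_mul_cancel, one_mul]

theorem normal_zpowers_apow (h : MC p G a b r e m t) (s : ℕ) : (Subgroup.zpowers (a ^ s)).Normal := by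
  have key : ∀ n ∈ Subgroup.zpowers (a ^ s), ∀ g : G, g⁻¹ * n * g ∈ Subgroup.zpowers (a ^ s) := by
    intro n hn g
    have hfin : IsOfFinOrder (a ^ s) := (isOfFinOrder_of_orderOf h.ord).pow
    obtain ⟨x, hx⟩ := (hfin.mem_powers_iff_mem_zpowers).mpr hn
    have hx' : (a ^ s) ^ x = n := hx
    obtain ⟨i, j, rfl⟩ := h.gen g
    rw [← hx', ← pow_mul, h.inv_conj, mul_assoc, pow_mul]
    exact Subgroup.pow_mem _ (Subgroup.mem_zpowers _) _
  refine ⟨fun n hn g => ?_⟩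
  have := key n hn g⁻¹
  rwa [inv_inv] at this

theorem normal (h : MC p G a b r e m t) : (Subgroup.zpowers a).Normal := by
  have := h.normal_zpowers_apow 1
  rwa [pow_one] at this

theorem mk_b_pow_eq_one_iff (h : MC p G a b r e m t) (hn : (Subgroup.zpowers a).Normal) (k : ℕ) :
    (QuotientGroup.mk' (Subgroup.zpowers a) b) ^ k = 1 ↔ p ^ m ∣ k := by
  rw [← map_pow, ← h.bpow k]
  exact QuotientGroup.eq_one_iff _

theorem orderOf_mk_b (h : MC p G a b r e m t) (hn : (Subgroup.zpowers a).Normal) :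
    orderOf (QuotientGroup.mk' (Subgroup.zpowers a) b) = p ^ m := by
  apply Nat.dvd_antisymm
  · rw [orderOf_dvd_iff_pow_eq_one, h.mk_b_pow_eq_one_iff hn]
  · rw [← h.mk_b_pow_eq_one_iff hn, pow_orderOf_eq_one]

theorem mk_mem_zpowers (h : MC p G a b r e m t) (hn : (Subgroup.zpowers a).Normal) (g : G) :
    ∃ i : ℕ, QuotientGroup.mk' (Subgroup.zpowers a) g = (QuotientGroup.mk' (Subgroup.zpowers a) b) ^ i := by
  obtain ⟨i, j, rfl⟩ := h.gen g
  refine ⟨i, ?_⟩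
  rw [map_mul, map_pow, map_pow]
  have : QuotientGroup.mk' (Subgroup.zpowers a) a = 1 :=
    (QuotientGroup.eq_one_iff _).mpr (Subgroup.mem_zpowers a)
  rw [this, one_pow, mul_one]

theorem card_eq [Finite G] (h : MC p G a b r e m t) : Nat.card G = p ^ (e + m) := by
  haveI hn := h.normal
  have h1 : Nat.card (Subgroup.zpowers a) = p ^ e := by rw [Nat.card_zpowers, h.ord]
  have h2 : Nat.card (G ⧸ Subgroup.zpowers a) = p ^ m := by
    rw [← h.orderOf_mk_b hn]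
    symm
    apply orderOf_eq_card_of_forall_mem_zpowers
    intro x
    obtain ⟨g, rfl⟩ := QuotientGroup.mk'_surjective _ x
    obtain ⟨i, hi⟩ := h.mk_mem_zpowers hn g
    rw [hi]
    exact Subgroup.pow_mem _ (Subgroup.mem_zpowers _) _
  rw [Subgroup.card_eq_card_quotient_mul_card_subgroup (Subgroup.zpowers a), h1, h2, pow_add, mul_comm]

theorem r_modEq_one (h : MC p G a b r e m t) (k : ℕ) : r ^ k ≡ 1 [MOD p ^ t] := by
  obtain ⟨u, hr, _⟩ := h.rform
  have : r ≡ 1 [MOD p ^ t] := by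
    rw [hr]
    have h0 : (1 + p ^ t * u) ≡ 1 + 0 [MOD p ^ t] :=
      Nat.ModEq.add_left 1 ((Nat.modEq_zero_iff_dvd).mpr (Dvd.intro _ rfl))
    exact h0
  simpa using this.pow k

theorem commutator_eq [Finite G] (h : MC p G a b r e m t) :
    commutator G = Subgroup.zpowers (a ^ p ^ t) := by
  obtain ⟨u, hr, hu⟩ := h.rform
  haveI hK : (Subgroup.zpowers (a ^ p ^ t)).Normal := h.normal_zpowers_apow _
  apply le_antisymm
  · apply Subgroup.Normal.quotient_commutative_iff_commutator_le.mp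
    set π := QuotientGroup.mk' (Subgroup.zpowers (a ^ p ^ t)) with hπ
    have hπa : (π a) ^ p ^ t = 1 := by
      rw [← map_pow]; exact (QuotientGroup.eq_one_iff _).mpr (Subgroup.mem_zpowers _)
    have hmod : ∀ X Y : ℕ, X ≡ Y [MOD p ^ t] → (π a) ^ X = (π a) ^ Y := by
      intro X Y hXY
      rw [pow_eq_pow_mod X hπa, pow_eq_pow_mod Y hπa, hXY]
    refine ⟨⟨fun x y => ?_⟩⟩
    obtain ⟨g1, rfl⟩ := QuotientGroup.mk'_surjective _ x
    obtain ⟨g2, rfl⟩ := QuotientGroup.mk'_surjective _ y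
    obtain ⟨i, j, rfl⟩ := h.gen g1
    obtain ⟨k, l, rfl⟩ := h.gen g2
    show π (b ^ i * a ^ j) * π (b ^ k * a ^ l) = π (b ^ k * a ^ l) * π (b ^ i * a ^ j)
    rw [← map_mul, ← map_mul, mul_formula h.conj, mul_formula h.conj, map_mul, map_mul, map_pow _ a,
      map_pow _ a, add_comm k i]
    congr 1
    apply hmod
    have h1 := (h.r_modEq_one k).mul_left j
    have h2 := (h.r_modEq_one i).mul_left l
    rw [mul_one] at h1 h2
    calc j * r ^ k + l ≡ j + l [MOD p ^ t] := h1.add_right l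
      _ = l + j := add_comm j l
      _ ≡ l * r ^ i + j [MOD p ^ t] := (h2.add_right j).symm
  · have h1 : a ^ (p ^ t * u) ∈ commutator G := by
      have e1 : a ^ (p ^ t * u) = ⁅a⁻¹, b⁻¹⁆ := by
        rw [commutatorElement_def, inv_inv, inv_inv, mul_assoc, mul_assoc, ← mul_assoc b⁻¹, h.conj, hr,
          pow_add, pow_one, inv_mul_cancel_left]
      rw [e1, commutator_def]
      exact Subgroup.commutator_mem_commutator (Subgroup.mem_top _) (Subgroup.mem_top _)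
    rw [← zpowers_pow_mul_eq h.ord t u hu, Subgroup.zpowers_le]
    exact h1

theorem card_commutator [Finite G] (h : MC p G a b r e m t) :
    Nat.card (commutator G) = p ^ (e - t) := by
  rw [h.commutator_eq, Nat.card_zpowers, orderOf_pow_prime_pow h.ord]

theorem index_commutator [Finite G] (h : MC p G a b r e m t) :
    (commutator G).index = p ^ (m + min t e) := by
  have h1 := (commutator G).card_mul_index
  rw [h.card_commutator, h.card_eq] at h1
  have h2 : p ^ (e - t) * p ^ (m + min t e) = p ^ (e + m) := by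
    rw [← pow_add]; congr 1; omega
  rw [← h2] at h1
  exact Nat.eq_of_mul_eq_mul_left (pow_pos hp.out.pos _) h1

/-- `a ^ x` commutes with `b ^ k * a ^ l` iff `p ^ e ∣ x * (r ^ k - 1)`. -/
theorem apow_comm_iff (h : MC p G a b r e m t) (x k l : ℕ) :
    a ^ x * (b ^ k * a ^ l) = (b ^ k * a ^ l) * a ^ x ↔ p ^ e ∣ x * (r ^ k - 1) := by
  obtain ⟨u, hr, hu⟩ := h.rform
  have hr1 : 1 ≤ r ^ k := Nat.one_le_pow _ _ (by rw [hr]; omega)
  have e1 : a ^ x * (b ^ k * a ^ l) = b ^ k * a ^ (x * r ^ k + l) := by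
    rw [← mul_assoc, apow_mul_bpow h.conj, mul_assoc, ← pow_add]
  have e2 : (b ^ k * a ^ l) * a ^ x = b ^ k * a ^ (x + l) := by
    rw [mul_assoc, ← pow_add, add_comm]
  rw [e1, e2, mul_right_inj, h.apow_eq_apow_iff]
  have e3 : x * r ^ k + l = x * (r ^ k - 1) + (x + l) := by
    have : r ^ k = (r ^ k - 1) + 1 := by omega
    conv_lhs => rw [this]
    ring
  rw [e3]
  constructor
  · intro hmod
    have : x * (r ^ k - 1) + (x + l) ≡ 0 + (x + l) [MOD p ^ e] := by rwa [zero_add]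
    exact (Nat.modEq_zero_iff_dvd).mp (Nat.ModEq.add_right_cancel' (x + l) this)
  · intro hd
    have : x * (r ^ k - 1) + (x + l) ≡ 0 + (x + l) [MOD p ^ e] :=
      Nat.ModEq.add_right _ ((Nat.modEq_zero_iff_dvd).mpr hd)
    rwa [zero_add] at this

/-- `a ^ p ^ i` commutes with `b ^ k * a ^ l` iff `p ^ e ∣ p ^ (i + t) * k`. -/
theorem apow_comm_iff' (h : MC p G a b r e m t) (hp1 : Odd p) (i k l : ℕ) :
    a ^ p ^ i * (b ^ k * a ^ l) = (b ^ k * a ^ l) * a ^ p ^ i ↔ p ^ e ∣ p ^ (i + t) * k := by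
  obtain ⟨u, hr, hu⟩ := h.rform
  rw [h.apow_comm_iff]
  rcases le_total e i with hei | hei
  · have h1 : p ^ e ∣ p ^ i := pow_dvd_pow p hei
    have h2 : p ^ e ∣ p ^ (i + t) := pow_dvd_pow p (by omega)
    exact ⟨fun _ => Dvd.dvd.mul_right h2 _, fun _ => Dvd.dvd.mul_right h1 _⟩
  · obtain ⟨d, rfl⟩ := Nat.exists_eq_add_of_le hei
    rw [pow_add, Nat.mul_dvd_mul_iff_left (pow_pos hp.out.pos i), hr,
      dvd_pow_sub_one_iff hp1 h.tpos hu, pow_add, mul_assoc,
      Nat.mul_dvd_mul_iff_left (pow_pos hp.out.pos i)]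

/-- The data of a subgroup. -/
theorem sub [Finite G] (h : MC p G a b r e m t) (hp1 : Odd p) (L : Subgroup G) :
    ∃ i j l : ℕ, i ≤ e ∧ j ≤ m ∧ L ⊓ Subgroup.zpowers a = Subgroup.zpowers (a ^ p ^ i) ∧
      ∃ (h1 : a ^ p ^ i ∈ L) (h2 : b ^ p ^ j * a ^ l ∈ L),
        MC p ↥L ⟨a ^ p ^ i, h1⟩ ⟨b ^ p ^ j * a ^ l, h2⟩ (r ^ p ^ j) (e - i) (m - j) (t + j) := by
  haveI hn := h.normal
  obtain ⟨u, hr, hu⟩ := h.rform
  set N := Subgroup.zpowers a with hN
  set π := QuotientGroup.mk' N with hπ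
  obtain ⟨i, hie, hi⟩ := exists_zpowers_eq h.ord (L ⊓ N) inf_le_right
  have hq := h.orderOf_mk_b hn
  have hLq : L.map π ≤ Subgroup.zpowers (π b) := by
    rintro _ ⟨g, _, rfl⟩
    obtain ⟨x, hx⟩ := h.mk_mem_zpowers hn g
    rw [hx]; exact Subgroup.pow_mem _ (Subgroup.mem_zpowers _) _
  obtain ⟨j, hjm, hj⟩ := exists_zpowers_eq hq (L.map π) hLq
  have hcmem : (π b) ^ p ^ j ∈ L.map π := by rw [hj]; exact Subgroup.mem_zpowers _
  obtain ⟨c, hcL, hc⟩ := hcmem
  have hcN : (b ^ p ^ j)⁻¹ * c ∈ N := by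
    rw [← map_pow] at hc
    exact QuotientGroup.eq.mp hc.symm
  obtain ⟨l, hl⟩ := (h.mem_zpowers_a_iff _).mp hcN
  have hcl : c = b ^ p ^ j * a ^ l := by rw [← hl]; group
  subst hcl
  have h1 : a ^ p ^ i ∈ L := by
    have : a ^ p ^ i ∈ L ⊓ N := by rw [hi]; exact Subgroup.mem_zpowers _
    exact this.1
  refine ⟨i, j, l, hie, hjm, hi, h1, hcL, ?_⟩
  have hπc : π (b ^ p ^ j * a ^ l) = (π b) ^ p ^ j := hc
  refine ⟨?_, ?_, ?_, ?_, ?_, ?_⟩
  · rw [Subgroup.orderOf_mk, orderOf_pow_prime_pow h.ord]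
  · apply Subtype.ext
    simp only [Subgroup.coe_mul, Subgroup.coe_inv, Subgroup.coe_pow]
    have := h.inv_conj (p ^ j) l (p ^ i)
    rw [this, ← pow_mul]
  · rintro ⟨g, hg⟩
    have hgq : π g ∈ Subgroup.zpowers ((π b) ^ p ^ j) := by
      rw [← hj]; exact Subgroup.mem_map_of_mem π hg
    have hfin : IsOfFinOrder ((π b) ^ p ^ j) := (isOfFinOrder_of_orderOf hq).pow
    obtain ⟨x, hx⟩ := (hfin.mem_powers_iff_mem_zpowers).mpr hgq
    have hx' : ((π b) ^ p ^ j) ^ x = π g := hx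
    rw [← hπc, ← map_pow] at hx'
    have h3 : ((b ^ p ^ j * a ^ l) ^ x)⁻¹ * g ∈ N := QuotientGroup.eq.mp hx'
    have h4 : ((b ^ p ^ j * a ^ l) ^ x)⁻¹ * g ∈ L ⊓ N :=
      ⟨L.mul_mem (L.inv_mem (L.pow_mem hcL x)) hg, h3⟩
    rw [hi] at h4
    have hfin2 : IsOfFinOrder (a ^ p ^ i) := (isOfFinOrder_of_orderOf h.ord).pow
    obtain ⟨y, hy⟩ := (hfin2.mem_powers_iff_mem_zpowers).mpr h4
    have hy' : (a ^ p ^ i) ^ y = ((b ^ p ^ j * a ^ l) ^ x)⁻¹ * g := hy
    refine ⟨x, y, ?_⟩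
    apply Subtype.ext
    simp only [Subgroup.coe_mul, Subgroup.coe_pow]
    rw [hy']; group
  · intro k
    have key : (b ^ p ^ j * a ^ l) ^ k ∈ N ↔ p ^ (m - j) ∣ k := by
      have e0 : (b ^ p ^ j * a ^ l) ^ k ∈ N ↔ π ((b ^ p ^ j * a ^ l) ^ k) = 1 :=
        (QuotientGroup.eq_one_iff _).symm
      rw [e0, map_pow, hπc, ← pow_mul, h.mk_b_pow_eq_one_iff hn]
      obtain ⟨d, rfl⟩ := Nat.exists_eq_add_of_le hjm
      rw [pow_add, Nat.mul_dvd_mul_iff_left (pow_pos hp.out.pos j), Nat.add_sub_cancel_left]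
    rw [← key]
    constructor
    · intro hk
      obtain ⟨z, hz⟩ := Subgroup.mem_zpowers_iff.mp hk
      have hz' := congrArg Subtype.val hz
      simp only [Subgroup.coe_zpow, Subgroup.coe_pow] at hz'
      rw [← hz', ← zpow_natCast, ← zpow_mul]
      exact Subgroup.zpow_mem _ (Subgroup.mem_zpowers a) _
    · intro hk
      have h4 : (b ^ p ^ j * a ^ l) ^ k ∈ L ⊓ N := ⟨L.pow_mem hcL k, hk⟩
      rw [hi] at h4
      obtain ⟨z, hz⟩ := Subgroup.mem_zpowers_iff.mp h4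
      rw [Subgroup.mem_zpowers_iff]
      refine ⟨z, ?_⟩
      apply Subtype.ext
      simp only [Subgroup.coe_zpow, Subgroup.coe_pow]
      exact hz
  · rw [hr]
    exact exists_pow_form hp1 h.tpos hu j
  · have := h.tpos; omega

theorem isMulCommutative_iff [Finite G] (h : MC p G a b r e m t) : IsMulCommutative G ↔ e ≤ t := by
  obtain ⟨u, hr, hu⟩ := h.rform
  constructor
  · intro hc
    have h1 : a ^ 1 * (b ^ 1 * a ^ 0) = (b ^ 1 * a ^ 0) * a ^ 1 := hc.is_comm.comm _ _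
    rw [h.apow_comm_iff, one_mul, pow_one, hr, Nat.add_sub_cancel_left] at h1
    have hcop : Nat.Coprime (p ^ e) u :=
      Nat.Coprime.pow_left e ((Nat.Prime.coprime_iff_not_dvd hp.out).mpr hu)
    have h2 : p ^ e ∣ p ^ t := hcop.dvd_of_dvd_mul_right h1
    exact (Nat.pow_dvd_pow_iff_le_right hp.out.one_lt).mp h2
  · intro het
    have h1 := h.card_commutator
    rw [Nat.sub_eq_zero_of_le het, pow_zero, Subgroup.card_eq_one] at h1
    refine ⟨⟨fun x y => ?_⟩⟩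
    have h2 : ⁅x, y⁆ ∈ commutator G := by
      rw [commutator_def]
      exact Subgroup.commutator_mem_commutator (Subgroup.mem_top _) (Subgroup.mem_top _)
    rw [h1, Subgroup.mem_bot, commutatorElement_eq_one_iff_mul_comm] at h2
    exact h2

theorem bexp_modEq (h : MC p G a b r e m t) {x y x' y' : ℕ}
    (heq : b ^ x * a ^ y = b ^ x' * a ^ y') : x ≡ x' [MOD p ^ m] := by
  have key : ∀ x y x' y' : ℕ, x ≤ x' → b ^ x * a ^ y = b ^ x' * a ^ y' → x ≡ x' [MOD p ^ m] := by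
    intro x y x' y' hle heq
    obtain ⟨d, rfl⟩ := Nat.exists_eq_add_of_le hle
    have h1 : b ^ d = a ^ y * (a ^ y')⁻¹ := by
      rw [pow_add, mul_assoc] at heq
      have := mul_left_cancel heq
      rw [this]; group
    have h2 : b ^ d ∈ Subgroup.zpowers a := by
      rw [h1]
      exact Subgroup.mul_mem _ (Subgroup.pow_mem _ (Subgroup.mem_zpowers a) _)
        (Subgroup.inv_mem _ (Subgroup.pow_mem _ (Subgroup.mem_zpowers a) _))
    rw [h.bpow] at h2
    exact (Nat.modEq_iff_dvd' hle).mpr (by rwa [Nat.add_sub_cancel_left])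
  rcases le_total x x' with hle | hle
  · exact key x y x' y' hle heq
  · exact (key x' y' x y hle heq.symm).symm

theorem exists_pow_eq (h : MC p G a b r e m t) (k l x : ℕ) :
    ∃ y, (b ^ k * a ^ l) ^ x = b ^ (k * x) * a ^ y := by
  induction x with
  | zero => exact ⟨0, by simp⟩
  | succ x ih =>
    obtain ⟨y, hy⟩ := ih
    refine ⟨y * r ^ k + l, ?_⟩
    rw [pow_succ, hy, mul_formula h.conj, mul_add, mul_one]

omit hp in
theorem pow_dvd_pow_mul_iff (hpp : p.Prime) (e t k : ℕ) : p ^ e ∣ p ^ t * k ↔ p ^ (e - t) ∣ k := by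
  rcases le_total t e with hte | hte
  · obtain ⟨d, rfl⟩ := Nat.exists_eq_add_of_le hte
    rw [pow_add, Nat.mul_dvd_mul_iff_left (pow_pos hpp.pos t), Nat.add_sub_cancel_left]
  · rw [Nat.sub_eq_zero_of_le hte, pow_zero]
    exact ⟨fun _ => one_dvd _, fun _ => Dvd.dvd.mul_right (pow_dvd_pow p hte) _⟩

/-- `e - t ≤ m`. -/
theorem n_le_m (h : MC p G a b r e m t) (hp1 : Odd p) : e - t ≤ m := by
  have h1 : b ^ p ^ m ∈ Subgroup.zpowers a := (h.bpow _).mpr dvd_rfl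
  obtain ⟨w, hw⟩ := (h.mem_zpowers_a_iff _).mp h1
  have h2 : a ^ p ^ 0 * (b ^ p ^ m * a ^ 0) = (b ^ p ^ m * a ^ 0) * a ^ p ^ 0 := by
    simp only [pow_zero, pow_one, mul_one]
    rw [hw, ← pow_succ, ← pow_succ']
  rw [h.apow_comm_iff' hp1, zero_add, pow_dvd_pow_mul_iff hp.out,
    Nat.pow_dvd_pow_iff_le_right hp.out.one_lt] at h2
  exact h2

theorem mem_center_iff (h : MC p G a b r e m t) (hp1 : Odd p) (i j : ℕ) :
    b ^ i * a ^ j ∈ Subgroup.center G ↔ p ^ (e - t) ∣ i ∧ p ^ (e - t) ∣ j := by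
  obtain ⟨u, hr, hu⟩ := h.rform
  have hA : a * (b ^ i * a ^ j) = (b ^ i * a ^ j) * a ↔ p ^ (e - t) ∣ i := by
    have := h.apow_comm_iff' hp1 0 i j
    rw [pow_zero, pow_one, zero_add, pow_dvd_pow_mul_iff hp.out] at this
    exact this
  have hB : (b ^ i * a ^ j) * b = b * (b ^ i * a ^ j) ↔ p ^ (e - t) ∣ j := by
    have h1 := h.apow_comm_iff j 1 0
    rw [pow_zero, mul_one, pow_one, pow_one, hr, Nat.add_sub_cancel_left, mul_comm (p ^ t) u,
      ← mul_assoc, mul_comm _ (p ^ t), pow_dvd_pow_mul_iff hp.out] at h1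
    have hcop : Nat.Coprime (p ^ (e - t)) u :=
      Nat.Coprime.pow_left _ ((Nat.Prime.coprime_iff_not_dvd hp.out).mpr hu)
    rw [hcop.dvd_mul_right] at h1
    rw [← h1]
    constructor
    · intro h2
      have h3 : b ^ i * (a ^ j * b) = b ^ i * (b * a ^ j) := by
        rw [← mul_assoc, h2, ← mul_assoc, ← mul_assoc, ← pow_succ', ← pow_succ]
      exact mul_left_cancel h3
    · intro h2
      rw [mul_assoc, h2, ← mul_assoc, ← mul_assoc, ← pow_succ', ← pow_succ]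
  rw [Subgroup.mem_center_iff]
  constructor
  · intro hc
    exact ⟨hA.mp (hc a), hB.mp (hc b).symm⟩
  · rintro ⟨h1, h2⟩ g
    obtain ⟨k, l, rfl⟩ := h.gen g
    have ca : Commute a (b ^ i * a ^ j) := hA.mpr h1
    have cb : Commute b (b ^ i * a ^ j) := (hB.mpr h2).symm
    exact ((cb.pow_left k).mul_left (ca.pow_left l)).eq

theorem card_center [Finite G] (h : MC p G a b r e m t) (hp1 : Odd p) :
    Nat.card (Subgroup.center G) = p ^ ((e - (e - t)) + (m - (e - t))) := by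
  have hnm := h.n_le_m hp1
  obtain ⟨i, j, l, hie, hjm, hi, h1, h2, hZ⟩ := h.sub hp1 (Subgroup.center G)
  rw [hZ.card_eq]
  congr 1
  -- i = e - t
  have hi1 : e - t ≤ i := by
    have := (h.mem_center_iff hp1 0 (p ^ i)).mp (by rw [pow_zero, one_mul]; exact h1)
    exact (Nat.pow_dvd_pow_iff_le_right hp.out.one_lt).mp this.2
  have hi2 : i ≤ e - t := by
    have hmem : a ^ p ^ (e - t) ∈ Subgroup.center G ⊓ Subgroup.zpowers a := by
      refine ⟨?_, Subgroup.pow_mem _ (Subgroup.mem_zpowers a) _⟩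
      have := (h.mem_center_iff hp1 0 (p ^ (e - t))).mpr ⟨dvd_zero _, dvd_rfl⟩
      rwa [pow_zero, one_mul] at this
    rw [hi] at hmem
    have hord := orderOf_dvd_of_mem_zpowers hmem
    rw [orderOf_pow_prime_pow h.ord, orderOf_pow_prime_pow h.ord] at hord
    have := (Nat.pow_dvd_pow_iff_le_right hp.out.one_lt).mp hord
    omega
  have hj1 : e - t ≤ j := by
    have := (h.mem_center_iff hp1 (p ^ j) l).mp h2
    exact (Nat.pow_dvd_pow_iff_le_right hp.out.one_lt).mp this.1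
  have hj2 : j ≤ e - t := by
    have hmem : b ^ p ^ (e - t) ∈ Subgroup.center G := by
      have := (h.mem_center_iff hp1 (p ^ (e - t)) 0).mpr ⟨dvd_rfl, dvd_zero _⟩
      rwa [pow_zero, mul_one] at this
    obtain ⟨x, y, hxy⟩ := hZ.gen ⟨_, hmem⟩
    have hxy' := congrArg Subtype.val hxy
    simp only [Subgroup.coe_mul, Subgroup.coe_pow] at hxy'
    obtain ⟨y', hy'⟩ := h.exists_pow_eq (p ^ j) l x
    rw [hy', ← pow_mul, mul_assoc, ← pow_add] at hxy'
    have hxy'' : b ^ p ^ (e - t) * a ^ 0 = b ^ (p ^ j * x) * a ^ (y' + p ^ i * y) := by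
      rw [pow_zero, mul_one]; exact hxy'
    have hmod := (h.bexp_modEq hxy'').of_dvd (pow_dvd_pow p hjm)
    have hmod3 : p ^ j * x ≡ 0 [MOD p ^ j] := (Nat.modEq_zero_iff_dvd).mpr (Dvd.intro _ rfl)
    have hd : p ^ j ∣ p ^ (e - t) := (Nat.modEq_zero_iff_dvd).mp (hmod.trans hmod3)
    exact (Nat.pow_dvd_pow_iff_le_right hp.out.one_lt).mp hd
  omega

end MC

/-- Existence of the data. -/
theorem exists_MC {G : Type*} [Group G] [Finite G] {p : ℕ} [hp : Fact p.Prime] (hG : IsPGroup p G)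
    (hmc : Cfsg.IsMetacyclic G) : ∃ (a b : G) (r e m t : ℕ), MC p G a b r e m t := by
  obtain ⟨N, hNn, hNc, hQc⟩ := hmc
  obtain ⟨a0, ha0⟩ := hNc.exists_generator
  obtain ⟨q, hq⟩ := hQc.exists_generator
  obtain ⟨b, rfl⟩ := QuotientGroup.mk'_surjective N q
  set a : G := (a0 : G) with ha
  have hNa : N = Subgroup.zpowers a := by
    ext g
    constructor
    · intro hg
      obtain ⟨z, hz⟩ := Subgroup.mem_zpowers_iff.mp (ha0 ⟨g, hg⟩)
      rw [Subgroup.mem_zpowers_iff]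
      refine ⟨z, ?_⟩
      have := congrArg Subtype.val hz
      simpa using this
    · intro hg
      obtain ⟨z, rfl⟩ := Subgroup.mem_zpowers_iff.mp hg
      exact N.zpow_mem a0.2 z
  obtain ⟨e, he⟩ := (IsPGroup.iff_orderOf.mp hG) a
  obtain ⟨m, hm⟩ := (IsPGroup.iff_orderOf.mp (hG.to_quotient N))
    (QuotientGroup.mk' N b)
  have hfa : IsOfFinOrder a := isOfFinOrder_of_finite a
  have hgen : ∀ g : G, ∃ i j : ℕ, g = b ^ i * a ^ j := by
    intro g
    have hfin : IsOfFinOrder (QuotientGroup.mk' N b) := isOfFinOrder_of_finite _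
    obtain ⟨i, hi⟩ := (hfin.mem_powers_iff_mem_zpowers).mpr (hq (QuotientGroup.mk' _ g))
    have hi' : (QuotientGroup.mk' N b) ^ i = QuotientGroup.mk' _ g := hi
    rw [← map_pow] at hi'
    have h3 : (b ^ i)⁻¹ * g ∈ N := QuotientGroup.eq.mp hi'
    rw [hNa] at h3
    obtain ⟨j, hj⟩ := (hfa.mem_powers_iff_mem_zpowers).mpr h3
    have hj' : a ^ j = (b ^ i)⁻¹ * g := hj
    exact ⟨i, j, by rw [hj']; group⟩
  have hbpow : ∀ k : ℕ, b ^ k ∈ Subgroup.zpowers a ↔ p ^ m ∣ k := by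
    intro k
    rw [← hm, orderOf_dvd_iff_pow_eq_one, ← map_pow, ← hNa]
    exact (QuotientGroup.eq_one_iff _).symm
  have hconj0 : b⁻¹ * a * b ∈ Subgroup.zpowers a := by
    have := hNn.conj_mem a a0.2 b⁻¹
    rwa [inv_inv, hNa] at this
  obtain ⟨r0, hr0⟩ := (hfa.mem_powers_iff_mem_zpowers).mpr hconj0
  have hr0' : b⁻¹ * a * b = a ^ r0 := hr0.symm
  rcases Nat.eq_zero_or_pos e with he0 | he0
  · -- a = 1
    have ha1 : a = 1 := by rw [← orderOf_eq_one_iff, he, he0, pow_zero]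
    refine ⟨a, b, 1 + p ^ 1 * 1, e, m, 1, he, ?_, hgen, hbpow, ⟨1, rfl, ?_⟩, le_refl 1⟩
    · rw [ha1]; simp
    · intro h1; exact hp.out.one_lt.ne' (Nat.dvd_one.mp h1)
  · -- r0 ≡ 1 mod p
    obtain ⟨M, hM⟩ := (IsPGroup.iff_orderOf.mp hG) b
    have h1 : a * b ^ p ^ M = b ^ p ^ M * a ^ (r0 ^ p ^ M) := by
      have := apow_mul_bpow hr0' 1 (p ^ M)
      rwa [pow_one, one_mul] at this
    rw [← hM, pow_orderOf_eq_one, mul_one, one_mul] at h1
    have h2 : 1 ≡ r0 ^ orderOf b [MOD p ^ e] := by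
      rw [← he, ← pow_eq_pow_iff_modEq, pow_one]; exact h1
    have h3 : 1 ≡ r0 ^ orderOf b [MOD p] :=
      h2.of_dvd (dvd_pow_self p he0.ne')
    have h4 : ((r0 : ZMod p)) = 1 := by
      have h5 := (ZMod.natCast_eq_natCast_iff _ _ _).mpr h3
      rw [hM] at h5
      push_cast at h5
      rw [ZMod.pow_card_pow] at h5
      exact h5.symm
    have h6 : r0 ≡ 1 [MOD p] := by
      rw [← ZMod.natCast_eq_natCast_iff]; push_cast; exact h4
    have hr0ne : r0 ≠ 0 := by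
      rintro rfl
      have : (0 : ℕ) ≡ 1 [MOD p] := h6
      have h7 : p ∣ 1 := (Nat.modEq_zero_iff_dvd.mp this.symm)
      exact hp.out.one_lt.ne' (Nat.dvd_one.mp h7)
    rcases Nat.lt_or_ge r0 2 with hlt | hge
    · have hr1 : r0 = 1 := by omega
      refine ⟨a, b, 1 + p ^ e * 1, e, m, e, he, ?_, hgen, hbpow, ⟨1, rfl, ?_⟩, he0⟩
      · rw [hr0', hr1, pow_add, mul_one, ← he, pow_orderOf_eq_one, mul_one]
      · intro h1; exact hp.out.one_lt.ne' (Nat.dvd_one.mp h1)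
    · have hdvd : p ∣ r0 - 1 := (Nat.modEq_iff_dvd' (by omega)).mp h6.symm
      have hne : r0 - 1 ≠ 0 := by omega
      obtain ⟨t, u, hu, htu⟩ := Nat.exists_eq_pow_mul_and_not_dvd hne p hp.out.ne_one
      have ht : 1 ≤ t := by
        rcases Nat.eq_zero_or_pos t with rfl | h
        · rw [pow_zero, one_mul] at htu
          exact absurd (htu ▸ hdvd) hu
        · exact h
      refine ⟨a, b, r0, e, m, t, he, hr0', hgen, hbpow, ⟨u, by omega, hu⟩, ht⟩

/-- general form of `r ^ k` -/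
theorem exists_pow_form' {p : ℕ} [hp : Fact p.Prime] (hp1 : Odd p) {t u : ℕ} (ht : 1 ≤ t)
    (hu : ¬ p ∣ u) (v k' : ℕ) (hk' : ¬ p ∣ k') :
    ∃ u', (1 + p ^ t * u) ^ (p ^ v * k') = 1 + p ^ (t + v) * u' ∧ ¬ p ∣ u' := by
  have h1 : p ^ (t + v) ∣ (1 + p ^ t * u) ^ (p ^ v * k') - 1 := by
    rw [dvd_pow_sub_one_iff hp1 ht hu, pow_add, ← mul_assoc]
    exact Dvd.intro _ rfl
  obtain ⟨u', hu'⟩ := h1
  refine ⟨u', ?_, ?_⟩
  · have : 1 ≤ (1 + p ^ t * u) ^ (p ^ v * k') := Nat.one_le_pow _ _ (by omega)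
    omega
  · intro hdvd
    have h2 : p ^ (t + v + 1) ∣ (1 + p ^ t * u) ^ (p ^ v * k') - 1 := by
      rw [hu', pow_succ]; exact Nat.mul_dvd_mul_left _ hdvd
    rw [dvd_pow_sub_one_iff hp1 ht hu, pow_succ, pow_add, mul_assoc,
      Nat.mul_dvd_mul_iff_left (pow_pos hp.out.pos t),
      Nat.mul_dvd_mul_iff_left (pow_pos hp.out.pos v)] at h2
    exact hk' h2

/-- solving a linear congruence modulo a prime power -/
theorem exists_solve {p : ℕ} [hp : Fact p.Prime] (e X Y : ℕ)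
    (hXY : ∀ s ≤ e, p ^ s ∣ X → p ^ s ∣ Y) : ∃ y, y * X ≡ Y [MOD p ^ e] := by
  by_cases hX : p ^ e ∣ X
  · refine ⟨0, ?_⟩
    rw [zero_mul]
    exact ((Nat.modEq_zero_iff_dvd).mpr (hXY e le_rfl hX)).symm
  · obtain ⟨s, hs, hg⟩ := (Nat.dvd_prime_pow hp.out).mp (Nat.gcd_dvd_right X (p ^ e))
    have hlt : Nat.gcd X (p ^ e) < p ^ e := by
      apply lt_of_le_of_ne (Nat.le_of_dvd (pow_pos hp.out.pos e) (Nat.gcd_dvd_right _ _))
      intro heq
      exact hX (heq ▸ Nat.gcd_dvd_left X (p ^ e))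
    obtain ⟨y0, _, hy0⟩ := Nat.exists_mul_mod_eq_gcd hlt
    have hsX : p ^ s ∣ X := hg ▸ Nat.gcd_dvd_left X (p ^ e)
    obtain ⟨w, hw⟩ := hXY s hs hsX
    refine ⟨y0 * w, ?_⟩
    have h1 : X * y0 ≡ p ^ s [MOD p ^ e] := by
      rw [← hg]; unfold Nat.ModEq; rw [hy0, Nat.mod_eq_of_lt hlt]
    calc y0 * w * X = (X * y0) * w := by ring
      _ ≡ p ^ s * w [MOD p ^ e] := h1.mul_right w
      _ = Y := hw.symm

namespace MC
variable {G : Type*} [Group G] {p : ℕ} [hp : Fact p.Prime] {a b : G} {r e m t : ℕ}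

theorem one_le_r_pow (h : MC p G a b r e m t) (k : ℕ) : 1 ≤ r ^ k := by
  obtain ⟨u, hr, hu⟩ := h.rform
  exact Nat.one_le_pow _ _ (by rw [hr]; omega)

theorem exists_pow_eq' (h : MC p G a b r e m t) (k l x : ℕ) :
    ∃ y, (b ^ k * a ^ l) ^ x = b ^ (k * x) * a ^ y ∧ y * (r ^ k - 1) = l * (r ^ (k * x) - 1) := by
  induction x with
  | zero => exact ⟨0, by simp⟩
  | succ x ih =>
    obtain ⟨y, hy, hy2⟩ := ih
    refine ⟨y * r ^ k + l, ?_, ?_⟩
    · rw [pow_succ, hy, mul_formula h.conj, mul_add, mul_one]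
    · obtain ⟨A, hA⟩ : ∃ A, r ^ k = A + 1 := ⟨r ^ k - 1, by have := h.one_le_r_pow k; omega⟩
      obtain ⟨B, hB⟩ : ∃ B, r ^ (k * x) = B + 1 := ⟨r ^ (k * x) - 1, by have := h.one_le_r_pow (k * x); omega⟩
      have hAB : r ^ (k * (x + 1)) = (B + 1) * (A + 1) := by
        rw [mul_add, mul_one, pow_add, hA, hB]
      rw [hA, hB, Nat.add_sub_cancel, Nat.add_sub_cancel] at hy2
      rw [hAB, hA, Nat.add_sub_cancel]
      have : (B + 1) * (A + 1) - 1 = B * A + B + A := by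
        have : (B + 1) * (A + 1) = B * A + B + A + 1 := by ring
        omega
      rw [this]
      calc (y * (A + 1) + l) * A = (y * A) * (A + 1) + l * A := by ring
        _ = (l * B) * (A + 1) + l * A := by rw [hy2]
        _ = l * (B * A + B + A) := by ring

theorem pow_p_pow (h : MC p G a b r e m t) (hp1 : Odd p) (k l s : ℕ) :
    ∃ y, (b ^ k * a ^ l) ^ p ^ s = b ^ (k * p ^ s) * a ^ y ∧ ∀ x, p ^ x ∣ y ↔ p ^ x ∣ l * p ^ s := by
  rcases Nat.eq_zero_or_pos k with rfl | hk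
  · refine ⟨l * p ^ s, ?_, fun x => Iff.rfl⟩
    simp [pow_mul]
  obtain ⟨u, hr, hu⟩ := h.rform
  obtain ⟨y, hy, hy2⟩ := h.exists_pow_eq' k l (p ^ s)
  refine ⟨y, hy, ?_⟩
  obtain ⟨v, k', hk', rfl⟩ := Nat.exists_eq_pow_mul_and_not_dvd hk.ne' p hp.out.ne_one
  obtain ⟨u1, h1, hu1⟩ := exists_pow_form' hp1 h.tpos hu v k' hk'
  have e2 : p ^ v * k' * p ^ s = p ^ (v + s) * k' := by rw [pow_add]; ring
  obtain ⟨u2, h2, hu2⟩ := exists_pow_form' hp1 h.tpos hu (v + s) k' hk'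
  rw [e2, hr, h1, h2, Nat.add_sub_cancel_left, Nat.add_sub_cancel_left] at hy2
  have h3 : y * u1 = l * p ^ s * u2 := by
    have : p ^ (t + v) * (y * u1) = p ^ (t + v) * (l * p ^ s * u2) := by
      calc p ^ (t + v) * (y * u1) = y * (p ^ (t + v) * u1) := by ring
        _ = l * (p ^ (t + (v + s)) * u2) := hy2
        _ = p ^ (t + v) * (l * p ^ s * u2) := by rw [← add_assoc, pow_add _ (t + v) s]; ring
    exact Nat.eq_of_mul_eq_mul_left (pow_pos hp.out.pos _) this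
  intro x
  have c1 : Nat.Coprime (p ^ x) u1 := Nat.Coprime.pow_left _ ((Nat.Prime.coprime_iff_not_dvd hp.out).mpr hu1)
  have c2 : Nat.Coprime (p ^ x) u2 := Nat.Coprime.pow_left _ ((Nat.Prime.coprime_iff_not_dvd hp.out).mpr hu2)
  rw [← c1.dvd_mul_right, h3, c2.dvd_mul_right]

theorem comm_iff (h : MC p G a b r e m t) (i j k l : ℕ) :
    (b ^ i * a ^ j) * (b ^ k * a ^ l) = (b ^ k * a ^ l) * (b ^ i * a ^ j) ↔
      j * (r ^ k - 1) ≡ l * (r ^ i - 1) [MOD p ^ e] := by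
  rw [mul_formula h.conj, mul_formula h.conj, add_comm k i, mul_right_inj, h.apow_eq_apow_iff]
  have e1 : j * r ^ k + l = j * (r ^ k - 1) + (j + l) := by
    have : r ^ k = (r ^ k - 1) + 1 := by have := h.one_le_r_pow k; omega
    conv_lhs => rw [this]
    ring
  have e2 : l * r ^ i + j = l * (r ^ i - 1) + (j + l) := by
    have : r ^ i = (r ^ i - 1) + 1 := by have := h.one_le_r_pow i; omega
    conv_lhs => rw [this]
    ring
  rw [e1, e2]
  exact ⟨fun hh => Nat.ModEq.add_right_cancel' _ hh, fun hh => Nat.ModEq.add_right _ hh⟩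

/-- elements of a subgroup with data, in the ambient group -/
theorem sub_gen {L : Subgroup G} {i j l : ℕ} {h1 : a ^ p ^ i ∈ L} {h2 : b ^ p ^ j * a ^ l ∈ L}
    {r' e' m' t' : ℕ} (hL : MC p ↥L ⟨a ^ p ^ i, h1⟩ ⟨b ^ p ^ j * a ^ l, h2⟩ r' e' m' t') :
    ∀ g ∈ L, ∃ x y : ℕ, g = (b ^ p ^ j * a ^ l) ^ x * (a ^ p ^ i) ^ y := by
  intro g hg
  obtain ⟨x, y, hxy⟩ := hL.gen ⟨g, hg⟩
  refine ⟨x, y, ?_⟩
  have := congrArg Subtype.val hxy
  simpa using this

/-- `|R| · |C_G(R)| = |G| · |Z(G)|` for `R ≥ Z(G)`. -/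
theorem card_mul_card_centralizer [Finite G] (h : MC p G a b r e m t) (hp1 : Odd p) (R : Subgroup G)
    (hZR : Subgroup.center G ≤ R) :
    Nat.card ↥R * Nat.card ↥(Subgroup.centralizer (R : Set G)) =
      Nat.card G * Nat.card ↥(Subgroup.center G) := by
  obtain ⟨u, hr, hu⟩ := h.rform
  have hpp := hp.out
  have hnm := h.n_le_m hp1
  obtain ⟨i, j, l, hie, hjm, hi, h1, h2, hR⟩ := h.sub hp1 R
  have hRgen := sub_gen hR
  -- (f1)
  have f1 : i ≤ e - t := by
    have hmem : a ^ p ^ (e - t) ∈ R ⊓ Subgroup.zpowers a := by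
      refine ⟨hZR ?_, Subgroup.pow_mem _ (Subgroup.mem_zpowers a) _⟩
      have := (h.mem_center_iff hp1 0 (p ^ (e - t))).mpr ⟨dvd_zero _, dvd_rfl⟩
      rwa [pow_zero, one_mul] at this
    rw [hi] at hmem
    have hord := orderOf_dvd_of_mem_zpowers hmem
    rw [orderOf_pow_prime_pow h.ord, orderOf_pow_prime_pow h.ord] at hord
    have := (Nat.pow_dvd_pow_iff_le_right hpp.one_lt).mp hord
    omega
  have hbn : b ^ p ^ (e - t) ∈ Subgroup.center G := by
    have := (h.mem_center_iff hp1 (p ^ (e - t)) 0).mpr ⟨dvd_rfl, dvd_zero _⟩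
    rwa [pow_zero, mul_one] at this
  -- (f2)
  have f2 : j ≤ e - t := by
    obtain ⟨x, y, hxy⟩ := hRgen _ (hZR hbn)
    obtain ⟨y', hy'⟩ := h.exists_pow_eq (p ^ j) l x
    rw [hy', ← pow_mul, mul_assoc, ← pow_add] at hxy
    have hxy'' : b ^ p ^ (e - t) * a ^ 0 = b ^ (p ^ j * x) * a ^ (y' + p ^ i * y) := by
      rw [pow_zero, mul_one]; exact hxy
    have hmod := (h.bexp_modEq hxy'').of_dvd (pow_dvd_pow p hjm)
    have hmod3 : p ^ j * x ≡ 0 [MOD p ^ j] := (Nat.modEq_zero_iff_dvd).mpr (Dvd.intro _ rfl)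
    have hd : p ^ j ∣ p ^ (e - t) := (Nat.modEq_zero_iff_dvd).mp (hmod.trans hmod3)
    exact (Nat.pow_dvd_pow_iff_le_right hpp.one_lt).mp hd
  -- (f3)
  have f3 : p ^ i ∣ l * p ^ (e - t - j) := by
    obtain ⟨y, hy, hy2⟩ := h.pow_p_pow hp1 (p ^ j) l (e - t - j)
    rw [← hy2]
    have e1 : p ^ j * p ^ (e - t - j) = p ^ (e - t) := by
      rw [← pow_add]; congr 1; omega
    rw [e1] at hy
    have hay : a ^ y ∈ R ⊓ Subgroup.zpowers a := by
      refine ⟨?_, Subgroup.pow_mem _ (Subgroup.mem_zpowers a) _⟩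
      have e2 : a ^ y = (b ^ p ^ (e - t))⁻¹ * (b ^ p ^ j * a ^ l) ^ p ^ (e - t - j) := by
        rw [hy]; group
      rw [e2]
      exact R.mul_mem (R.inv_mem (hZR hbn)) (R.pow_mem h2 _)
    rw [hi] at hay
    have hfin2 : IsOfFinOrder (a ^ p ^ i) := (isOfFinOrder_of_orderOf h.ord).pow
    obtain ⟨z, hz⟩ := (hfin2.mem_powers_iff_mem_zpowers).mpr hay
    have hz' : (a ^ p ^ i) ^ z = a ^ y := hz
    rw [← pow_mul, h.apow_eq_apow_iff] at hz'
    exact (hz'.dvd_iff (pow_dvd_pow p hie)).mp (Dvd.intro _ rfl)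
  have f3' : p ^ j ∣ l * p ^ (e - t - i) := by
    rcases Nat.eq_zero_or_pos l with rfl | hl
    · rw [zero_mul]; exact dvd_zero _
    obtain ⟨v, l', hl', rfl⟩ := Nat.exists_eq_pow_mul_and_not_dvd hl.ne' p hpp.ne_one
    have hcop : Nat.Coprime (p ^ i) l' :=
      Nat.Coprime.pow_left _ ((Nat.Prime.coprime_iff_not_dvd hpp).mpr hl')
    have h3 : p ^ i ∣ p ^ (v + (e - t - j)) := by
      have : p ^ v * l' * p ^ (e - t - j) = p ^ (v + (e - t - j)) * l' := by rw [pow_add]; ring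
      rw [this] at f3
      exact hcop.dvd_of_dvd_mul_right f3
    have h4 := (Nat.pow_dvd_pow_iff_le_right hpp.one_lt).mp h3
    have h5 : p ^ j ∣ p ^ (v + (e - t - i)) := pow_dvd_pow p (by omega)
    have : p ^ v * l' * p ^ (e - t - i) = p ^ (v + (e - t - i)) * l' := by rw [pow_add]; ring
    rw [this]
    exact Dvd.dvd.mul_right h5 _
  -- the centralizer
  set C := Subgroup.centralizer (R : Set G) with hCdef
  have memC : ∀ g : G, g ∈ C ↔
      a ^ p ^ i * g = g * a ^ p ^ i ∧ (b ^ p ^ j * a ^ l) * g = g * (b ^ p ^ j * a ^ l) := by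
    intro g
    rw [hCdef, Subgroup.mem_centralizer_iff]
    constructor
    · intro hg
      exact ⟨hg _ h1, hg _ h2⟩
    · rintro ⟨hg1, hg2⟩ x hx
      obtain ⟨x1, y1, rfl⟩ := hRgen x hx
      have c1 : Commute (a ^ p ^ i) g := hg1
      have c2 : Commute (b ^ p ^ j * a ^ l) g := hg2
      exact ((c2.pow_left x1).mul_left (c1.pow_left y1)).eq
  obtain ⟨i', j', l', hie', hjm', hi', h1', h2', hC⟩ := h.sub hp1 C
  have hCgen := sub_gen hC
  have c1 : e - t - j ≤ i' := by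
    have := ((memC _).mp h1').2
    rw [eq_comm, h.apow_comm_iff' hp1, ← pow_add, Nat.pow_dvd_pow_iff_le_right hpp.one_lt] at this
    omega
  have c2 : i' ≤ e - t - j := by
    have hmem : a ^ p ^ (e - t - j) ∈ C ⊓ Subgroup.zpowers a := by
      refine ⟨(memC _).mpr ⟨?_, ?_⟩, Subgroup.pow_mem _ (Subgroup.mem_zpowers a) _⟩
      · rw [← pow_add, ← pow_add, add_comm]
      · rw [eq_comm, h.apow_comm_iff' hp1, ← pow_add]
        exact pow_dvd_pow p (by omega)
    rw [hi'] at hmem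
    have hord := orderOf_dvd_of_mem_zpowers hmem
    rw [orderOf_pow_prime_pow h.ord, orderOf_pow_prime_pow h.ord] at hord
    have := (Nat.pow_dvd_pow_iff_le_right hpp.one_lt).mp hord
    omega
  have c3 : e - t - i ≤ j' := by
    have := ((memC _).mp h2').1
    rw [h.apow_comm_iff' hp1, ← pow_add, Nat.pow_dvd_pow_iff_le_right hpp.one_lt] at this
    omega
  have c4 : j' ≤ e - t - i := by
    -- construct an element
    obtain ⟨uj, huj, huj'⟩ := exists_pow_form hp1 h.tpos hu j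
    obtain ⟨ui, hui, hui'⟩ := exists_pow_form hp1 h.tpos hu (e - t - i)
    have hsolve : ∃ y, y * (r ^ p ^ j - 1) ≡ l * (r ^ p ^ (e - t - i) - 1) [MOD p ^ e] := by
      apply exists_solve
      intro s hs hsX
      rw [hr, dvd_pow_sub_one_iff hp1 h.tpos hu, ← pow_add,
        Nat.pow_dvd_pow_iff_le_right hpp.one_lt] at hsX
      rw [hr, hui, Nat.add_sub_cancel_left]
      have h3 : p ^ (t + j) ∣ l * (p ^ (t + (e - t - i)) * ui) := by
        obtain ⟨w, hw⟩ := f3'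
        rw [pow_add, pow_add]
        calc p ^ t * p ^ j ∣ p ^ t * (l * p ^ (e - t - i)) * ui := by
              rw [hw]; exact Dvd.intro (w * ui) (by ring)
          _ = l * (p ^ t * p ^ (e - t - i) * ui) := by ring
      exact Dvd.dvd.trans (pow_dvd_pow p hsX) h3
    obtain ⟨y, hy⟩ := hsolve
    have hg0 : b ^ p ^ (e - t - i) * a ^ y ∈ C := by
      refine (memC _).mpr ⟨?_, ?_⟩
      · rw [h.apow_comm_iff' hp1, ← pow_add]
        exact pow_dvd_pow p (by omega)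
      · rw [eq_comm, h.comm_iff]
        exact hy
    obtain ⟨x, z, hxz⟩ := hCgen _ hg0
    obtain ⟨y', hy'⟩ := h.exists_pow_eq (p ^ j') l' x
    rw [hy', ← pow_mul, mul_assoc, ← pow_add] at hxz
    have hmod := (h.bexp_modEq hxz).of_dvd (pow_dvd_pow p hjm')
    have hmod3 : p ^ j' * x ≡ 0 [MOD p ^ j'] := (Nat.modEq_zero_iff_dvd).mpr (Dvd.intro _ rfl)
    have hd : p ^ j' ∣ p ^ (e - t - i) := (Nat.modEq_zero_iff_dvd).mp (hmod.trans hmod3)
    exact (Nat.pow_dvd_pow_iff_le_right hpp.one_lt).mp hd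
  rw [hR.card_eq, hC.card_eq, h.card_eq, h.card_center hp1, ← pow_add, ← pow_add]
  congr 1
  omega

end MC

/-- the closure of the set of `k`-th powers is normal -/
theorem normal_closure_pow {G : Type*} [Group G] (k : ℕ) :
    (Subgroup.closure {x : G | ∃ y : G, y ^ k = x}).Normal := by
  have : Subgroup.closure {x : G | ∃ y : G, y ^ k = x} =
      Subgroup.normalClosure {x : G | ∃ y : G, y ^ k = x} := by
    unfold Subgroup.normalClosure
    congr 1
    ext x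
    rw [Group.mem_conjugatesOfSet_iff]
    constructor
    · intro hx; exact ⟨x, hx, IsConj.refl x⟩
    · rintro ⟨z, ⟨y, rfl⟩, hz⟩
      obtain ⟨c, hc⟩ := isConj_iff.mp hz
      refine ⟨c * y * c⁻¹, ?_⟩
      rw [conj_pow, hc]
  rw [this]
  infer_instance

namespace MC
variable {G : Type*} [Group G] {p : ℕ} [hp : Fact p.Prime] {a b : G} {r e m t : ℕ}

theorem isPGroup [Finite G] (h : MC p G a b r e m t) : IsPGroup p G :=
  IsPGroup.of_card h.card_eq

/-- class size = order modulo the centre -/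
theorem index_centralizer_eq_orderOf [Finite G] (h : MC p G a b r e m t) (hp1 : Odd p) (g : G) :
    (Subgroup.centralizer ({g} : Set G)).index = orderOf (QuotientGroup.mk' (Subgroup.center G) g) := by
  set Z := Subgroup.center G with hZ
  set R := Subgroup.zpowers g ⊔ Z with hR
  set π := QuotientGroup.mk' Z with hπ
  have hπs : Function.Surjective π := QuotientGroup.mk'_surjective Z
  have hform := h.card_mul_card_centralizer hp1 R le_sup_right
  have hC : Subgroup.centralizer (R : Set G) = Subgroup.centralizer ({g} : Set G) := by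
    apply le_antisymm
    · intro x hx
      rw [Subgroup.mem_centralizer_singleton_iff]
      exact ((Subgroup.mem_centralizer_iff.mp hx) g (le_sup_left (a := Subgroup.zpowers g) (Subgroup.mem_zpowers g))).symm
    · rw [Subgroup.le_centralizer_iff]
      apply sup_le
      · rw [Subgroup.zpowers_le, Subgroup.mem_centralizer_iff]
        intro x hx
        exact Subgroup.mem_centralizer_singleton_iff.mp hx
      · exact Subgroup.center_le_centralizer _
  have hmap : R.map π = Subgroup.zpowers (π g) := by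
    rw [hR, Subgroup.map_sup, MonoidHom.map_zpowers]
    have : Z.map π = ⊥ := by
      rw [Subgroup.map_eq_bot_iff, QuotientGroup.ker_mk']
    rw [this, sup_bot_eq]
  have hcardR : Nat.card ↥R = orderOf (π g) * Nat.card ↥Z := by
    have hker : π.ker ≤ R := by rw [QuotientGroup.ker_mk']; exact le_sup_right
    have i1 : (R.map π).index = R.index := Subgroup.index_map_eq R hπs hker
    have c1 := (R.map π).card_mul_index
    have c2 := R.card_mul_index
    have c3 := Subgroup.card_eq_card_quotient_mul_card_subgroup Z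
    rw [hmap, Nat.card_zpowers] at c1
    rw [hmap] at i1
    have hpos : 0 < R.index := Nat.pos_of_ne_zero Subgroup.index_ne_zero_of_finite
    have : Nat.card ↥R * R.index = orderOf (π g) * Nat.card ↥Z * R.index := by
      rw [c2, c3, ← c1, i1]; ring
    exact Nat.eq_of_mul_eq_mul_right hpos this
  rw [hC, hcardR] at hform
  have c4 := (Subgroup.centralizer ({g} : Set G)).card_mul_index
  have hZpos : 0 < Nat.card ↥Z := Nat.card_pos
  have hCpos : 0 < Nat.card ↥(Subgroup.centralizer ({g} : Set G)) := Nat.card_pos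
  have h5 : Nat.card ↥(Subgroup.centralizer ({g} : Set G)) * (Subgroup.centralizer ({g} : Set G)).index =
      Nat.card ↥(Subgroup.centralizer ({g} : Set G)) * orderOf (π g) := by
    rw [c4]
    have : orderOf (π g) * Nat.card ↥(Subgroup.centralizer ({g} : Set G)) * Nat.card ↥Z =
        Nat.card G * Nat.card ↥Z := by rw [← hform]; ring
    have := Nat.eq_of_mul_eq_mul_right hZpos this
    rw [← this]; ring
  exact Nat.eq_of_mul_eq_mul_left hCpos h5

theorem mk_pow_eq_one_iff (h : MC p G a b r e m t) (hp1 : Odd p) (i j k : ℕ) :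
    (QuotientGroup.mk' (Subgroup.center G) (b ^ i * a ^ j)) ^ p ^ k = 1 ↔
      p ^ (e - t) ∣ i * p ^ k ∧ p ^ (e - t) ∣ j * p ^ k := by
  rw [← map_pow]
  have e0 : QuotientGroup.mk' (Subgroup.center G) ((b ^ i * a ^ j) ^ p ^ k) = 1 ↔
      (b ^ i * a ^ j) ^ p ^ k ∈ Subgroup.center G := QuotientGroup.eq_one_iff _
  rw [e0]
  obtain ⟨y, hy, hy2⟩ := h.pow_p_pow hp1 i j k
  rw [hy, h.mem_center_iff hp1, hy2]

theorem index_centralizer_le_iff [Finite G] (h : MC p G a b r e m t) (hp1 : Odd p) (i j k : ℕ) :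
    (Subgroup.centralizer ({b ^ i * a ^ j} : Set G)).index ≤ p ^ k ↔
      p ^ (e - t) ∣ i * p ^ k ∧ p ^ (e - t) ∣ j * p ^ k := by
  rw [h.index_centralizer_eq_orderOf hp1, ← h.mk_pow_eq_one_iff hp1, ← orderOf_dvd_iff_pow_eq_one]
  obtain ⟨x, hx⟩ := (IsPGroup.iff_orderOf.mp (h.isPGroup.to_quotient (Subgroup.center G)))
    (QuotientGroup.mk' (Subgroup.center G) (b ^ i * a ^ j))
  rw [hx, Nat.pow_le_pow_iff_right hp.out.one_lt, Nat.pow_dvd_pow_iff_le_right hp.out.one_lt]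

/-- the subgroup generated by the `p ^ s`-th powers -/
theorem mem_closure_pow_iff [Finite G] (h : MC p G a b r e m t) (hp1 : Odd p) (s : ℕ) (g : G) :
    g ∈ Subgroup.closure {x : G | ∃ y : G, y ^ p ^ s = x} ↔
      ∃ i j : ℕ, g = b ^ i * a ^ j ∧ p ^ s ∣ i ∧ p ^ s ∣ j := by
  constructor
  · intro hg
    have hmul : ∀ x y : G, (∃ i j : ℕ, x = b ^ i * a ^ j ∧ p ^ s ∣ i ∧ p ^ s ∣ j) →
        (∃ i j : ℕ, y = b ^ i * a ^ j ∧ p ^ s ∣ i ∧ p ^ s ∣ j) →
        ∃ i j : ℕ, x * y = b ^ i * a ^ j ∧ p ^ s ∣ i ∧ p ^ s ∣ j := by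
      rintro x y ⟨i, j, rfl, hi, hj⟩ ⟨k, l, rfl, hk, hl⟩
      exact ⟨i + k, j * r ^ k + l, mul_formula h.conj i j k l, dvd_add hi hk,
        dvd_add (Dvd.dvd.mul_right hj _) hl⟩
    have hone : ∃ i j : ℕ, (1 : G) = b ^ i * a ^ j ∧ p ^ s ∣ i ∧ p ^ s ∣ j :=
      ⟨0, 0, by simp, dvd_zero _, dvd_zero _⟩
    have hpow : ∀ (x : G) (n : ℕ), (∃ i j : ℕ, x = b ^ i * a ^ j ∧ p ^ s ∣ i ∧ p ^ s ∣ j) →
        ∃ i j : ℕ, x ^ n = b ^ i * a ^ j ∧ p ^ s ∣ i ∧ p ^ s ∣ j := by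
      intro x n hx
      induction n with
      | zero => rw [pow_zero]; exact hone
      | succ n ih => rw [pow_succ]; exact hmul _ _ ih hx
    induction hg using Subgroup.closure_induction with
    | mem x hx =>
      obtain ⟨y, rfl⟩ := hx
      obtain ⟨k, l, rfl⟩ := h.gen y
      obtain ⟨y', hy', hy2⟩ := h.pow_p_pow hp1 k l s
      exact ⟨k * p ^ s, y', hy', Dvd.intro_left _ rfl, (hy2 s).mpr (Dvd.intro_left _ rfl)⟩
    | one => exact hone
    | mul x y _ _ hx hy => exact hmul x y hx hy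
    | inv x _ hx =>
      have : x⁻¹ = x ^ (orderOf x - 1) := by
        apply inv_eq_of_mul_eq_one_left
        rw [← pow_succ, Nat.sub_add_cancel (orderOf_pos x), pow_orderOf_eq_one]
      rw [this]
      exact hpow x _ hx
  · rintro ⟨i, j, rfl, ⟨i', rfl⟩, ⟨j', rfl⟩⟩
    apply Subgroup.mul_mem
    · apply Subgroup.subset_closure
      exact ⟨b ^ i', by rw [← pow_mul, mul_comm]⟩
    · apply Subgroup.subset_closure
      exact ⟨a ^ j', by rw [← pow_mul, mul_comm]⟩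

/-- membership in `℧_s(G)` via class sizes -/
theorem mem_closure_pow_iff_index [Finite G] (h : MC p G a b r e m t) (hp1 : Odd p) (s : ℕ)
    (hs : s ≤ e - t) (g : G) :
    g ∈ Subgroup.closure {x : G | ∃ y : G, y ^ p ^ s = x} ↔
      (Subgroup.centralizer ({g} : Set G)).index ≤ p ^ (e - t - s) := by
  have key : ∀ i : ℕ, p ^ (e - t) ∣ i * p ^ (e - t - s) ↔ p ^ s ∣ i := by
    intro i
    obtain ⟨d, hd⟩ := Nat.exists_eq_add_of_le hs
    rw [hd, Nat.add_sub_cancel_left, pow_add, mul_comm i, mul_comm (p ^ s),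
      Nat.mul_dvd_mul_iff_left (pow_pos hp.out.pos d)]
  rw [h.mem_closure_pow_iff hp1]
  constructor
  · rintro ⟨i, j, rfl, hi, hj⟩
    rw [h.index_centralizer_le_iff hp1, key, key]
    exact ⟨hi, hj⟩
  · intro hg
    obtain ⟨i, j, rfl⟩ := h.gen g
    rw [h.index_centralizer_le_iff hp1, key, key] at hg
    exact ⟨i, j, rfl, hg.1, hg.2⟩

end MC

namespace MC
variable {G : Type*} [Group G] {p : ℕ} [hp : Fact p.Prime] {a b : G} {r e m t : ℕ}

/-- the order of `℧_s(G)` -/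
theorem card_closure_pow [Finite G] (h : MC p G a b r e m t) (hp1 : Odd p) (s : ℕ)
    (hs : s ≤ e - t) :
    Nat.card ↥(Subgroup.closure {x : G | ∃ y : G, y ^ p ^ s = x}) = p ^ ((e - s) + (m - s)) := by
  have hpp := hp.out
  have hnm := h.n_le_m hp1
  set W := Subgroup.closure {x : G | ∃ y : G, y ^ p ^ s = x} with hW
  obtain ⟨i, j, l, hie, hjm, hi, h1, h2, hWd⟩ := h.sub hp1 W
  have hWgen := sub_gen hWd
  have key : ∀ x : ℕ, p ^ (e - t) ∣ x * p ^ (e - t - s) ↔ p ^ s ∣ x := by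
    intro x
    obtain ⟨d, hd⟩ := Nat.exists_eq_add_of_le hs
    rw [hd, Nat.add_sub_cancel_left, pow_add, mul_comm x, mul_comm (p ^ s),
      Nat.mul_dvd_mul_iff_left (pow_pos hpp.pos d)]
  have hi1 : i ≤ s := by
    have hmem : a ^ p ^ s ∈ W ⊓ Subgroup.zpowers a :=
      ⟨Subgroup.subset_closure ⟨a, rfl⟩, Subgroup.pow_mem _ (Subgroup.mem_zpowers a) _⟩
    rw [hi] at hmem
    have hord := orderOf_dvd_of_mem_zpowers hmem
    rw [orderOf_pow_prime_pow h.ord, orderOf_pow_prime_pow h.ord] at hord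
    have := (Nat.pow_dvd_pow_iff_le_right hpp.one_lt).mp hord
    omega
  have hi2 : s ≤ i := by
    have h3 : b ^ 0 * a ^ p ^ i ∈ W := by rw [pow_zero, one_mul]; exact h1
    rw [hW, h.mem_closure_pow_iff_index hp1 s hs, h.index_centralizer_le_iff hp1, key, key] at h3
    exact (Nat.pow_dvd_pow_iff_le_right hpp.one_lt).mp h3.2
  have hj2 : s ≤ j := by
    have h3 := h2
    rw [hW, h.mem_closure_pow_iff_index hp1 s hs, h.index_centralizer_le_iff hp1, key, key] at h3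
    exact (Nat.pow_dvd_pow_iff_le_right hpp.one_lt).mp h3.1
  have hj1 : j ≤ s := by
    have hmem : b ^ p ^ s ∈ W := Subgroup.subset_closure ⟨b, rfl⟩
    obtain ⟨x, y, hxy⟩ := hWgen _ hmem
    obtain ⟨y', hy'⟩ := h.exists_pow_eq (p ^ j) l x
    rw [hy', ← pow_mul, mul_assoc, ← pow_add] at hxy
    have hxy'' : b ^ p ^ s * a ^ 0 = b ^ (p ^ j * x) * a ^ (y' + p ^ i * y) := by
      rw [pow_zero, mul_one]; exact hxy
    have hmod := (h.bexp_modEq hxy'').of_dvd (pow_dvd_pow p hjm)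
    have hmod3 : p ^ j * x ≡ 0 [MOD p ^ j] := (Nat.modEq_zero_iff_dvd).mpr (Dvd.intro _ rfl)
    have hd : p ^ j ∣ p ^ s := (Nat.modEq_zero_iff_dvd).mp (hmod.trans hmod3)
    exact (Nat.pow_dvd_pow_iff_le_right hpp.one_lt).mp hd
  rw [hWd.card_eq]
  congr 1
  omega

end MC

end Cfsg.Agent.Lib.Helper6_Metacyclic
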