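import Mathlib
import Cfsg.Prelude.Def_Transfer
import Cfsg.Prelude.Def_LocalStructure
import Cfsg.Agent.Lib.Helper6_IrrCyclic

/-! Groups `A ⋊ C_p` with `A` an elementary abelian minimal normal `q`-subgroup. -/

set_option autoImplicit false

namespace Cfsg.Agent.Lib.Helper6_MinNonPClosed

open Cfsg
open scoped IsMulCommutative

variable {G : Type*} [Group G]

theorem sylow_normal_of_isPGroup {H : Type*} [Group H] {p : ℕ} [Fact p.Prime] (hH : IsPGroup p H)
    (P : Sylow p H) : (P : Subgroup H).Normal := by
  have h1 : (⊤ : Subgroup H) = (P : Subgroup H) :=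
    P.is_maximal' (hH.to_subgroup ⊤) le_top
  rw [← h1]
  infer_instance

/-- a subgroup of prime index is maximal -/
theorem eq_or_eq_top_of_prime_index {p : ℕ} (hp : p.Prime) (A : Subgroup G) (hidx : A.index = p)
    (H : Subgroup G) (hAH : A ≤ H) : H = A ∨ H = ⊤ := by
  have h1 := Subgroup.relIndex_mul_index hAH
  rw [hidx] at h1
  have h2 : H.index ∣ p := ⟨A.relIndex H, by rw [← h1, mul_comm]⟩
  rcases (Nat.dvd_prime hp).mp h2 with h3 | h3
  · right
    exact Subgroup.index_eq_one.mp h3
  · left
    rw [h3] at h1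
    have h4 : A.relIndex H = 1 := by
      have hp0 : 0 < p := hp.pos
      exact Nat.eq_of_mul_eq_mul_right hp0 (by rw [h1, one_mul])
    exact le_antisymm (Subgroup.relIndex_eq_one.mp h4) hAH

/-- if `G = A⟨y⟩` with `A` abelian and `y` centralizing `A` then `G` is abelian -/
theorem comm_of_centralizes (A : Subgroup G) (hA : IsMulCommutative A) (y : G)
    (hsup : A ⊔ Subgroup.zpowers y = ⊤) (hc : ∀ a ∈ A, y * a = a * y) : IsMulCommutative G := by
  have hcen : Subgroup.center G = ⊤ := by
    rw [eq_top_iff, ← hsup, sup_le_iff]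
    constructor
    · intro a ha
      rw [Subgroup.mem_center_iff]
      have h1 : (⊤ : Subgroup G) ≤ Subgroup.centralizer {a} := by
        rw [← hsup, sup_le_iff]
        constructor
        · intro b hb
          rw [Subgroup.mem_centralizer_singleton_iff]
          exact congrArg Subtype.val (hA.is_comm.comm (⟨b, hb⟩ : A) ⟨a, ha⟩)
        · rw [Subgroup.zpowers_le, Subgroup.mem_centralizer_singleton_iff]
          exact hc a ha
      intro g
      have := h1 (Subgroup.mem_top g)
      rw [Subgroup.mem_centralizer_singleton_iff] at this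
      exact this
    · rw [Subgroup.zpowers_le, Subgroup.mem_center_iff]
      have h1 : (⊤ : Subgroup G) ≤ Subgroup.centralizer {y} := by
        rw [← hsup, sup_le_iff]
        constructor
        · intro b hb
          rw [Subgroup.mem_centralizer_singleton_iff]
          exact (hc b hb).symm
        · rw [Subgroup.zpowers_le, Subgroup.mem_centralizer_singleton_iff]
      intro g
      have := h1 (Subgroup.mem_top g)
      rw [Subgroup.mem_centralizer_singleton_iff] at this
      exact this
  refine ⟨⟨fun a b => ?_⟩⟩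
  have : a ∈ Subgroup.center G := by rw [hcen]; trivial
  exact ((Subgroup.mem_center_iff.mp this) b).symm

/-- every element of `G = A ⊔ ⟨y⟩` (`A` normal) is `a * y ^ i` -/
theorem exists_mul_pow [Finite G] (A : Subgroup G) [A.Normal] (y : G)
    (hsup : A ⊔ Subgroup.zpowers y = ⊤) (g : G) : ∃ a ∈ A, ∃ i : ℕ, g = a * y ^ i := by
  have hg : g ∈ ((A ⊔ Subgroup.zpowers y : Subgroup G) : Set G) := by rw [hsup]; trivial
  rw [Subgroup.normal_mul] at hg
  obtain ⟨a, ha, h, hh, rfl⟩ := Set.mem_mul.mp hg
  have hh' : h ∈ Subgroup.zpowers y := hh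
  rw [← mem_powers_iff_mem_zpowers, Submonoid.mem_powers_iff] at hh'
  obtain ⟨i, rfl⟩ := hh'
  exact ⟨a, ha, i, rfl⟩

/-- setup: an element `x` of order `p` outside `A`, generating `G` with `A`, not centralizing `A` -/
theorem exists_generator [Finite G] {p q : ℕ} [hp : Fact p.Prime] [hq : Fact q.Prime] (hpq : q ≠ p)
    (A : Subgroup G) (hAq : ∀ a ∈ A, a ^ q = 1) (hidx : A.index = p) :
    ∃ x : G, orderOf x = p ∧ x ∉ A ∧ A ⊔ Subgroup.zpowers x = ⊤ := by
  have hcard : Nat.card A * p = Nat.card G := by rw [← hidx]; exact A.card_mul_index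
  obtain ⟨x, hx⟩ := exists_prime_orderOf_dvd_card' (G := G) p
    ⟨Nat.card A, by rw [← hcard, mul_comm]⟩
  have hxA : x ∉ A := by
    intro h
    have h1 : x ^ q = 1 := hAq x h
    have h2 : orderOf x ∣ q := orderOf_dvd_of_pow_eq_one h1
    rw [hx, Nat.prime_dvd_prime_iff_eq hp.out hq.out] at h2
    exact hpq h2.symm
  refine ⟨x, hx, hxA, ?_⟩
  rcases eq_or_eq_top_of_prime_index hp.out A hidx (A ⊔ Subgroup.zpowers x) le_sup_left with h | h
  · exfalso; apply hxA; rw [← h]; exact Subgroup.mem_sup_right (Subgroup.mem_zpowers x)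
  · exact h

/-- the order of an elementary abelian minimal normal subgroup of prime index `p` in a nonabelian
group -/
theorem card_minimal_normal [Finite G] {p q : ℕ} [hp : Fact p.Prime] [hq : Fact q.Prime]
    (hpq : q ≠ p) (hna : ¬ IsMulCommutative G) (A : Subgroup G) [hAn : A.Normal]
    (hA : Cfsg.IsElementaryAbelian q A) (hidx : A.index = p)
    (hmin : ∀ B : Subgroup G, B.Normal → B ≤ A → B = ⊥ ∨ B = A) :
    Nat.card ↥A = q ^ orderOf (q : ZMod p) := by
  classical
  obtain ⟨hAc, hAq⟩ := hA
  haveI := hAc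
  obtain ⟨x, hx, hxA, hsup⟩ := exists_generator hpq A hAq hidx
  let σ : A →* A := (MulAut.conjNormal x : MulAut A).toMonoidHom
  have hσ : ∀ a : A, ((σ a : A) : G) = x * a * x⁻¹ := fun a => rfl
  have hσiter : ∀ (n : ℕ) (a : A), ((σ^[n] a : A) : G) = x ^ n * a * (x ^ n)⁻¹ := by
    intro n
    induction n with
    | zero => intro a; simp
    | succ k ih =>
      intro a
      rw [Function.iterate_succ', Function.comp_apply, hσ, ih, pow_succ']; group
  apply Cfsg.Agent.Lib.Helper6_IrrCyclic.card_eq_of_irreducible hpq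
    (fun a => Subtype.ext (hAq a a.2)) σ
  · intro a
    apply Subtype.ext
    rw [hσiter, ← hx, pow_orderOf_eq_one]; simp
  · by_contra hcon
    push Not at hcon
    apply hna
    apply comm_of_centralizes A hAc x hsup
    intro a ha
    have := congrArg Subtype.val (hcon ⟨a, ha⟩)
    rw [hσ] at this
    calc x * a = (x * a * x⁻¹) * x := by group
      _ = a * x := by rw [this]
  · intro B hB
    have hBn : (B.map A.subtype).Normal := by
      constructor
      rintro _ ⟨b, hb, rfl⟩ g
      obtain ⟨a, ha, i, rfl⟩ := exists_mul_pow A x hsup g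
      have h1 : ∀ (n : ℕ) (b : A), b ∈ B → σ^[n] b ∈ B := by
        intro n
        induction n with
        | zero => intro b hb; exact hb
        | succ k ih =>
          intro b hb
          rw [Function.iterate_succ', Function.comp_apply]; exact hB _ (ih b hb)
      refine ⟨σ^[i] b, h1 i b hb, ?_⟩
      show ((σ^[i] b : A) : G) = a * x ^ i * (A.subtype b) * (a * x ^ i)⁻¹
      rw [hσiter]
      have h2 : a * x ^ i * (b : G) * (a * x ^ i)⁻¹ = a * (x ^ i * b * (x ^ i)⁻¹) * a⁻¹ := by group
      rw [Subgroup.subtype_apply, h2]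
      have h3 : x ^ i * (b : G) * (x ^ i)⁻¹ ∈ A := hAn.conj_mem _ b.2 _
      have := congrArg Subtype.val (hAc.is_comm.comm (⟨a, ha⟩ : A) ⟨_, h3⟩)
      simp only [Subgroup.coe_mul] at this
      rw [this]; group
    rcases hmin _ hBn (Subgroup.map_subtype_le B) with h | h
    · left; exact (Subgroup.map_eq_bot_iff_of_injective _ A.subtype_injective).mp h
    · right
      rw [eq_top_iff]
      intro b _
      have : (b : G) ∈ B.map A.subtype := by rw [h]; exact b.2
      obtain ⟨b', hb', hbb⟩ := this
      have : b' = b := Subtype.ext hbb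
      rwa [this] at hb'

end Cfsg.Agent.Lib.Helper6_MinNonPClosed
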