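import Mathlib
import Cfsg.Agent.Lib.Helper6_MinNonPClosed
import Cfsg.Agent.Lib.Helper6_ConjAct

/-! Core structure lemma shared by minimal non-`p`-closed and minimal non-`p`-exponent-closed
groups. -/

set_option autoImplicit false

namespace Cfsg.Agent.Lib.Helper6_MinNonPClosed2

open Cfsg
open Cfsg.Agent.Lib.Helper6_MinNonPClosed

/-- a minimal normal subgroup below a nontrivial normal subgroup -/
theorem exists_minimal_normal' {G : Type*} [Group G] [Finite G] (M : Subgroup G) [M.Normal]
    (hM : M ≠ ⊥) :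
    ∃ A : Subgroup G, A.Normal ∧ A ≠ ⊥ ∧ A ≤ M ∧
      ∀ B : Subgroup G, B.Normal → B ≤ A → B = ⊥ ∨ B = A := by
  classical
  let S := {B : Subgroup G // B.Normal ∧ B ≠ ⊥ ∧ B ≤ M}
  haveI : Nonempty S := ⟨⟨M, inferInstance, hM, le_rfl⟩⟩
  obtain ⟨⟨A, hAn, hA1, hAM⟩, hmin⟩ := Finite.exists_min (fun B : S => Nat.card B.1)
  refine ⟨A, hAn, hA1, hAM, ?_⟩
  intro B hBn hBA
  by_cases hB : B = ⊥
  · left; exact hB
  · right
    have := hmin ⟨B, hBn, hB, hBA.trans hAM⟩
    exact Subgroup.eq_of_le_of_card_ge hBA this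

set_option maxHeartbeats 1600000 in
/-- `G = A ⋊ P` with `|P| = p`, `A` a minimal normal `p'`-subgroup not centralized by `P`, and `P`
normal in every proper subgroup containing it. -/
theorem core {G : Type*} [Group G] [Finite G] {p : ℕ} [Fact p.Prime] (P : Sylow p G)
    (hPcard : Nat.card (P : Subgroup G) = p) (A : Subgroup G) [hAn : A.Normal] (hA1 : A ≠ ⊥)
    (hAmin : ∀ B : Subgroup G, B.Normal → B ≤ A → B = ⊥ ∨ B = A)
    (hpA : ¬ p ∣ Nat.card A) (hPA : (P : Subgroup G) ⊔ A = ⊤)
    (hPcent : ¬ (P : Subgroup G) ≤ Subgroup.centralizer (A : Set G))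
    (hnorm : ∀ L : Subgroup G, L ≠ ⊤ → (P : Subgroup G) ≤ L → ((P : Subgroup G).subgroupOf L).Normal) :
    ∃ q : ℕ, q.Prime ∧ q ≠ p ∧ Nat.card G = p * q ^ orderOf (q : ZMod p) ∧
      ∃ A : Subgroup G, A.Normal ∧ Nat.card ↥A = q ^ orderOf (q : ZMod p) ∧ Cfsg.IsElementaryAbelian q A ∧
        ∀ B : Subgroup G, B.Normal → B ≤ A → B = ⊥ ∨ B = A := by
  classical
  have hp : p.Prime := Fact.out
  have hAp' : (Nat.card A).Coprime p := by
    rw [Nat.coprime_comm, Nat.Prime.coprime_iff_not_dvd hp]; exact hpA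
  have hPAinf : (P : Subgroup G) ⊓ A = ⊥ := by
    exact (Subgroup.disjoint_of_coprime_natCard (by rw [hPcard]; exact hAp'.symm)).eq_bot
  have hcompl : Subgroup.IsComplement' A (P : Subgroup G) := by
    apply Subgroup.isComplement'_of_disjoint_and_mul_eq_univ
    · rw [disjoint_iff, inf_comm]; exact hPAinf
    · rw [← Subgroup.normal_mul, sup_comm, hPA]; rfl
  have hAidx : A.index = p := by
    rw [hcompl.symm.index_eq_card, hPcard]
  -- A is a q-group
  have hBne : A ⊓ Subgroup.centralizer ((P : Subgroup G) : Set G) ≠ A := by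
    intro h
    apply hPcent
    intro h' hh'
    rw [Subgroup.mem_centralizer_iff]
    intro a ha
    have ha' : a ∈ A ⊓ Subgroup.centralizer ((P : Subgroup G) : Set G) := by rw [h]; exact ha
    exact ((Subgroup.mem_centralizer_iff.mp ha'.2) h' hh').symm
  set B := A ⊓ Subgroup.centralizer ((P : Subgroup G) : Set G) with hB
  have hBA : B ≤ A := inf_le_left
  have hr1 : B.relIndex A ≠ 1 := by
    intro h
    apply hBne
    exact le_antisymm hBA (Subgroup.relIndex_eq_one.mp h)
  set q := (B.relIndex A).minFac with hq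
  have hqp : q.Prime := Nat.minFac_prime hr1
  haveI : Fact q.Prime := ⟨hqp⟩
  have hqr : q ∣ B.relIndex A := Nat.minFac_dvd _
  have hqA : q ∣ Nat.card A := hqr.trans (Subgroup.relIndex_dvd_card B A)
  have hqne : q ≠ p := by
    rintro h
    exact hpA (h ▸ hqA)
  obtain ⟨Q, hQn⟩ := Cfsg.Agent.Lib.Helper6_ConjAct.exists_invariant_sylow q p (P : Subgroup G) A
    (by rw [Subgroup.normalizer_eq_top]; exact le_top) P.2 hpA
  have hQ'A : (Q : Subgroup A).map A.subtype ≤ A := Subgroup.map_subtype_le _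
  have hQA : (Q : Subgroup A).map A.subtype = A := by
    by_contra hne
    have hNtop : Subgroup.normalizer (((Q : Subgroup A).map A.subtype : Subgroup G) : Set G) ≠ ⊤ := by
      intro h
      have hn : ((Q : Subgroup A).map A.subtype).Normal := Subgroup.normalizer_eq_top_iff.mp h
      rcases hAmin _ hn hQ'A with h1 | h1
      · rw [Subgroup.map_eq_bot_iff_of_injective _ A.subtype_injective] at h1
        exact Q.ne_bot_of_dvd_card hqA h1
      · exact hne h1
    have h3 := hnorm _ hNtop hQn
    have hcen : (Q : Subgroup A).map A.subtype ≤ B := by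
      intro y hy
      rw [hB]
      refine Subgroup.mem_inf.mpr ⟨hQ'A hy, ?_⟩
      rw [Subgroup.mem_centralizer_iff]
      intro h hh
      have hyN : y ∈ Subgroup.normalizer (((Q : Subgroup A).map A.subtype : Subgroup G) : Set G) :=
        Subgroup.le_normalizer hy
      have h4 : (⟨y, hyN⟩ : ↥(Subgroup.normalizer (((Q : Subgroup A).map A.subtype : Subgroup G) : Set G))) *
          ⟨h, hQn hh⟩ * (⟨y, hyN⟩)⁻¹ ∈ (P : Subgroup G).subgroupOf _ :=
        h3.conj_mem _ (Subgroup.mem_subgroupOf.mpr hh) _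
      rw [Subgroup.mem_subgroupOf] at h4
      have h4' : y * h * y⁻¹ ∈ (P : Subgroup G) := h4
      have h5 : h * y⁻¹ * h⁻¹ ∈ (Q : Subgroup A).map A.subtype :=
        (Subgroup.mem_normalizer_iff.mp (hQn hh) y⁻¹).mp (Subgroup.inv_mem _ hy)
      have h6 : y * h * y⁻¹ * h⁻¹ ∈ (P : Subgroup G) ⊓ A := by
        refine ⟨(P : Subgroup G).mul_mem h4' ((P : Subgroup G).inv_mem hh), ?_⟩
        have : y * h * y⁻¹ * h⁻¹ = y * (h * y⁻¹ * h⁻¹) := by group
        rw [this]
        exact A.mul_mem (hQ'A hy) (hQ'A h5)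
      rw [hPAinf, Subgroup.mem_bot] at h6
      have : y * h = h * y := by
        calc y * h = (y * h * y⁻¹ * h⁻¹) * h * y := by group
          _ = h * y := by rw [h6, one_mul]
      exact this.symm
    have hcardQ' : Nat.card ((Q : Subgroup A).map A.subtype) = q ^ (Nat.card A).factorization q := by
      rw [Subgroup.card_subtype, Q.card_eq_multiplicity]
    have h7 : q ^ (Nat.card A).factorization q ∣ Nat.card B := by
      rw [← hcardQ']
      exact Subgroup.card_dvd_of_le hcen
    have h8 : Nat.card B * B.relIndex A = Nat.card A := by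
      have := Subgroup.card_mul_index (B.subgroupOf A)
      rw [Nat.card_congr (Subgroup.subgroupOfEquivOfLe hBA).toEquiv] at this
      exact this
    have h9 : q ^ ((Nat.card A).factorization q + 1) ∣ Nat.card A := by
      have := Nat.mul_dvd_mul h7 hqr
      rw [h8] at this
      rw [pow_succ]
      exact this
    exact Nat.pow_succ_factorization_not_dvd Nat.card_pos.ne' hqp h9
  have hQtop : (Q : Subgroup A) = ⊤ := by
    rw [eq_top_iff]
    intro a _
    have : (a : G) ∈ (Q : Subgroup A).map A.subtype := by rw [hQA]; exact a.2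
    obtain ⟨b, hb, hba⟩ := this
    have : b = a := Subtype.ext hba
    rwa [this] at hb
  have hAq : IsPGroup q A := by
    intro a
    obtain ⟨k, hk⟩ := Q.2 ⟨a, by rw [hQtop]; trivial⟩
    exact ⟨k, by simpa using congrArg Subtype.val hk⟩
  haveI : Nontrivial A := (Subgroup.nontrivial_iff_ne_bot A).mpr hA1
  have hAcomm : ∀ a ∈ A, ∀ b ∈ A, a * b = b * a := by
    haveI : Nontrivial (Subgroup.center A) := hAq.center_nontrivial
    have hZn : ((Subgroup.center A).map A.subtype).Normal := ConjAct.normal_of_characteristic_of_normal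
    rcases hAmin _ hZn (Subgroup.map_subtype_le _) with h | h
    · exfalso
      rw [Subgroup.map_eq_bot_iff_of_injective _ A.subtype_injective] at h
      exact (Subgroup.nontrivial_iff_ne_bot _).mp inferInstance h
    · intro a ha b hb
      have : a ∈ (Subgroup.center A).map A.subtype := by rw [h]; exact ha
      obtain ⟨a', ha', rfl⟩ := this
      have := Subgroup.mem_center_iff.mp ha' ⟨b, hb⟩
      exact (congrArg Subtype.val this).symm
  have hAexp : ∀ a ∈ A, a ^ q = 1 := by
    let Ω : Subgroup G :=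
      { carrier := {a | a ∈ A ∧ a ^ q = 1}
        mul_mem' := by
          rintro a b ⟨ha, ha1⟩ ⟨hb, hb1⟩
          refine ⟨A.mul_mem ha hb, ?_⟩
          have : Commute a b := hAcomm a ha b hb
          rw [this.mul_pow, ha1, hb1, one_mul]
        one_mem' := ⟨A.one_mem, one_pow _⟩
        inv_mem' := by
          rintro a ⟨ha, ha1⟩
          exact ⟨A.inv_mem ha, by rw [inv_pow, ha1, inv_one]⟩ }
    have hΩn : Ω.Normal := by
      constructor
      rintro a ⟨ha, ha1⟩ g
      exact ⟨hAn.conj_mem a ha g, by rw [conj_pow, ha1, mul_one, mul_inv_cancel]⟩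
    have hΩA : Ω ≤ A := fun a ha => ha.1
    rcases hAmin Ω hΩn hΩA with h | h
    · exfalso
      obtain ⟨y, hy⟩ := exists_prime_orderOf_dvd_card' (G := A) q hqA
      have hyΩ : (y : G) ∈ Ω := ⟨y.2, by
        have := pow_orderOf_eq_one y
        rw [hy] at this
        simpa using congrArg Subtype.val this⟩
      rw [h, Subgroup.mem_bot] at hyΩ
      have : y = 1 := Subtype.ext hyΩ
      rw [this, orderOf_one] at hy
      exact hqp.one_lt.ne hy
    · intro a ha
      have : a ∈ Ω := by rw [h]; exact ha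
      exact this.2
  have hAel : Cfsg.IsElementaryAbelian q A :=
    ⟨⟨⟨fun a b => Subtype.ext (hAcomm a a.2 b b.2)⟩⟩, hAexp⟩
  have hna : ¬ IsMulCommutative G := by
    intro hc
    apply hPcent
    intro h _
    rw [Subgroup.mem_centralizer_iff]
    intro a _
    exact hc.is_comm.comm a h
  have hcardA := card_minimal_normal hqne hna A hAel hAidx hAmin
  refine ⟨q, hqp, hqne, ?_, A, hAn, hcardA, hAel, hAmin⟩
  rw [← A.card_mul_index, hAidx, hcardA, mul_comm]

end Cfsg.Agent.Lib.Helper6_MinNonPClosed2
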