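import Mathlib
import Cfsg.Agent.Lib.Helper6_PNormal

/-! Groups of order `p⁴` have an abelian subgroup of index `p`. -/

set_option autoImplicit false

namespace Cfsg.Agent.Lib.Helper6_OrderP4

open Cfsg.Agent.Lib.Helper6_PNormal

variable {S : Type*} [Group S] [Finite S]

/-- the class of a nonidentity element of a normal subgroup `N` has fewer than `#N` elements -/
theorem index_centralizer_lt (N : Subgroup S) [hN : N.Normal] (n₀ : S) (hn : n₀ ∈ N)
    (h1 : n₀ ≠ 1) : (Subgroup.centralizer ({n₀} : Set S)).index < Nat.card N := by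
  have e : (Subgroup.centralizer ({n₀} : Set S)).index =
      (MulAction.stabilizer (ConjAct S) n₀).index := by
    rw [Subgroup.centralizer_eq_comap_stabilizer]
    exact Subgroup.index_comap_of_surjective (MulAction.stabilizer (ConjAct S) n₀)
      (f := (ConjAct.toConjAct (G := S)).toMonoidHom) (ConjAct.toConjAct (G := S)).surjective
  rw [e, MulAction.index_stabilizer]
  have hsub : MulAction.orbit (ConjAct S) n₀ ⊆ (N : Set S) \ {1} := by
    rintro _ ⟨g, rfl⟩
    refine ⟨?_, ?_⟩
    · show g • n₀ ∈ N
      rw [ConjAct.smul_def]; exact hN.conj_mem _ hn _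
    · rw [Set.mem_singleton_iff]
      intro h
      apply h1
      have h2 : g • n₀ = g • (1 : S) := by rw [smul_one]; exact h
      exact smul_left_cancel g h2
  have h3 := Set.ncard_le_ncard hsub (Set.toFinite _)
  rw [Set.ncard_sdiff_singleton_of_mem (show (1 : S) ∈ (N : Set S) from N.one_mem)] at h3
  have h4 : (N : Set S).ncard = Nat.card N := rfl
  have h5 : 0 < Nat.card N := Nat.card_pos
  omega

/-- in a `p`-group, a subgroup of order exceeding `p^j` has order at least `p^(j+1)` -/
theorem pow_succ_le_card {p : ℕ} [Fact p.Prime] (hS : IsPGroup p S) (H : Subgroup S) (j : ℕ)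
    (h : p ^ j < Nat.card H) : p ^ (j + 1) ≤ Nat.card H := by
  have hp := (Fact.out : p.Prime)
  obtain ⟨m, hm⟩ := (hS.to_subgroup H).exists_card_eq
  rw [hm] at h ⊢
  have : j < m := (Nat.pow_lt_pow_iff_right hp.one_lt).mp h
  exact Nat.pow_le_pow_right hp.pos this

theorem card_lt_of_lt {H K : Subgroup S} (h : H < K) : Nat.card H < Nat.card K := by
  refine lt_of_le_of_ne (Subgroup.card_le_of_le h.le) ?_
  intro he
  exact h.ne (Subgroup.eq_of_le_of_card_ge h.le he.ge)

/-- a nonabelian group of order `p⁴`: some noncentral element has centralizer of order `≥ p³` -/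
theorem exists_big_centralizer {p : ℕ} [Fact p.Prime] (hcard : Nat.card S = p ^ 4)
    (hna : ¬ IsMulCommutative S) :
    ∃ x : S, x ∉ Subgroup.center S ∧ p ^ 3 ≤ Nat.card (Subgroup.centralizer ({x} : Set S)) := by
  have hp := (Fact.out : p.Prime)
  have hS : IsPGroup p S := IsPGroup.of_card hcard
  obtain ⟨N, -, hNn, hNc⟩ := exists_normal_le_of_pow_dvd hS (⊤ : Subgroup S) 2 (by
    rw [Subgroup.card_top, hcard]; exact pow_dvd_pow p (by norm_num))
  by_cases hNZ : N ≤ Subgroup.center S
  · obtain ⟨x, hx⟩ : ∃ x : S, x ∉ Subgroup.center S := by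
      by_contra hcon
      push Not at hcon
      apply hna
      exact ⟨⟨fun a b => Subgroup.mem_center_iff.mp (hcon b) a⟩⟩
    refine ⟨x, hx, ?_⟩
    have hlt : Subgroup.center S < Subgroup.centralizer ({x} : Set S) := by
      refine lt_of_le_of_ne (Subgroup.center_le_centralizer _) ?_
      intro he
      apply hx
      rw [he, Subgroup.mem_centralizer_singleton_iff]
    have h1 := card_lt_of_lt hlt
    have h2 : p ^ 2 ≤ Nat.card (Subgroup.center S) := by
      rw [← hNc]; exact Subgroup.card_le_of_le hNZ
    exact pow_succ_le_card hS _ 2 (lt_of_le_of_lt h2 h1)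
  · obtain ⟨n₀, hn₀, hn₀Z⟩ := SetLike.not_le_iff_exists.mp hNZ
    have hne : n₀ ≠ 1 := by
      rintro rfl
      exact hn₀Z (Subgroup.one_mem _)
    refine ⟨n₀, hn₀Z, ?_⟩
    have h1 := index_centralizer_lt N n₀ hn₀ hne
    rw [hNc] at h1
    have h2 := (Subgroup.centralizer ({n₀} : Set S)).card_mul_index
    rw [hcard] at h2
    obtain ⟨m, hm⟩ := (hS.to_subgroup (Subgroup.centralizer ({n₀} : Set S))).exists_card_eq
    rw [hm] at h2 ⊢
    by_contra hcon
    push Not at hcon
    have hm3 : m < 3 := (Nat.pow_lt_pow_iff_right hp.one_lt).mp hcon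
    have h3 : p ^ 2 * p ^ 2 ≤ p ^ m * (Subgroup.centralizer ({n₀} : Set S)).index := by
      rw [h2]; exact le_of_eq (by ring)
    have h4 : p ^ m ≤ p ^ 2 := Nat.pow_le_pow_right hp.pos (by omega)
    have h5 : p ^ m * (Subgroup.centralizer ({n₀} : Set S)).index < p ^ 2 * p ^ 2 := by
      calc p ^ m * (Subgroup.centralizer ({n₀} : Set S)).index
          ≤ p ^ 2 * (Subgroup.centralizer ({n₀} : Set S)).index := Nat.mul_le_mul_right _ h4
        _ < p ^ 2 * p ^ 2 := Nat.mul_lt_mul_of_pos_left h1 (pow_pos hp.pos 2)
    omega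

/-- every group of order `p⁴` has an abelian subgroup of index `p` -/
theorem exists_abelian_index_p {p : ℕ} [Fact p.Prime] (hcard : Nat.card S = p ^ 4) :
    ∃ A : Subgroup S, IsMulCommutative ↥A ∧ A.index = p := by
  have hp := (Fact.out : p.Prime)
  have hS : IsPGroup p S := IsPGroup.of_card hcard
  have hidx : ∀ A : Subgroup S, Nat.card A = p ^ 3 → A.index = p := by
    intro A hA
    have h2 := A.card_mul_index
    rw [hcard, hA] at h2
    have : p ^ 3 * A.index = p ^ 3 * p := by rw [h2]; ring
    exact Nat.eq_of_mul_eq_mul_left (pow_pos hp.pos 3) this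
  by_cases hab : IsMulCommutative S
  · obtain ⟨A, hA⟩ := Sylow.exists_subgroup_card_pow_prime p (G := S) (n := 3) (by
      rw [hcard]; exact pow_dvd_pow p (by norm_num))
    exact ⟨A, ⟨⟨fun a b => Subtype.ext (hab.is_comm.comm a.1 b.1)⟩⟩, hidx A hA⟩
  · obtain ⟨x, hxZ, hxc⟩ := exists_big_centralizer hcard hab
    set C := Subgroup.centralizer ({x} : Set S) with hC
    have hCne : C ≠ ⊤ := by
      intro h
      apply hxZ
      rw [Subgroup.mem_center_iff]
      intro g
      have : g ∈ C := by rw [h]; trivial
      exact Subgroup.mem_centralizer_singleton_iff.mp this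
    obtain ⟨m, hm⟩ := (hS.to_subgroup C).exists_card_eq
    have hm3 : m = 3 := by
      have h1 : 3 ≤ m := by
        rw [hm] at hxc
        exact (Nat.pow_le_pow_iff_right hp.one_lt).mp hxc
      have h2 : m < 4 := by
        by_contra hcon
        push Not at hcon
        apply hCne
        apply Subgroup.eq_top_of_le_card
        rw [hcard, hm]
        exact Nat.pow_le_pow_right hp.pos hcon
      omega
    rw [hm3] at hm
    refine ⟨C, ?_, hidx C hm⟩
    -- the centre of `C` has order at least `p²`
    have hxC : x ∈ C := by rw [hC, Subgroup.mem_centralizer_singleton_iff]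
    have hZC : Subgroup.center S ≤ C := Subgroup.center_le_centralizer _
    have hle : (Subgroup.center S).subgroupOf C ≤ Subgroup.center ↥C := by
      intro u hu
      rw [Subgroup.mem_subgroupOf] at hu
      rw [Subgroup.mem_center_iff]
      intro g
      exact Subtype.ext (Subgroup.mem_center_iff.mp hu g)
    have hxmem : (⟨x, hxC⟩ : ↥C) ∈ Subgroup.center ↥C := by
      rw [Subgroup.mem_center_iff]
      intro g
      exact Subtype.ext (Subgroup.mem_centralizer_singleton_iff.mp g.2)
    have hlt : (Subgroup.center S).subgroupOf C < Subgroup.center ↥C := by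
      refine lt_of_le_of_ne hle ?_
      intro he
      apply hxZ
      have : (⟨x, hxC⟩ : ↥C) ∈ (Subgroup.center S).subgroupOf C := by rw [he]; exact hxmem
      exact Subgroup.mem_subgroupOf.mp this
    have hSC : IsPGroup p ↥C := hS.to_subgroup C
    have h1 : p ≤ Nat.card ((Subgroup.center S).subgroupOf C) := by
      rw [Nat.card_congr (Subgroup.subgroupOfEquivOfLe hZC).toEquiv]
      haveI : Nontrivial S := by
        rw [← Finite.one_lt_card_iff_nontrivial, hcard]
        exact Nat.one_lt_pow (by norm_num) hp.one_lt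
      have hnt : Nontrivial (Subgroup.center S) := hS.center_nontrivial
      have h2 := pow_succ_le_card hS (Subgroup.center S) 0 (by
        rw [pow_zero]; exact Finite.one_lt_card_iff_nontrivial.mpr hnt)
      simpa using h2
    have h3 : p ^ 2 ≤ Nat.card (Subgroup.center ↥C) := by
      have := pow_succ_le_card hSC (Subgroup.center ↥C) 1 (by
        rw [pow_one]; exact lt_of_le_of_lt h1 (card_lt_of_lt hlt))
      simpa using this
    have h4 := (Subgroup.center ↥C).card_mul_index
    rw [hm] at h4
    have h5 : (Subgroup.center ↥C).index ≤ p := by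
      by_contra hcon
      push Not at hcon
      have : p ^ 2 * p < Nat.card (Subgroup.center ↥C) * (Subgroup.center ↥C).index :=
        calc p ^ 2 * p < p ^ 2 * (Subgroup.center ↥C).index :=
              Nat.mul_lt_mul_of_pos_left hcon (pow_pos hp.pos 2)
          _ ≤ Nat.card (Subgroup.center ↥C) * (Subgroup.center ↥C).index :=
              Nat.mul_le_mul_right _ h3
      rw [h4] at this
      have e : p ^ 2 * p = p ^ 3 := by ring
      omega
    have h6 : (Subgroup.center ↥C).index ∣ p ^ 3 := ⟨_, by rw [← h4, mul_comm]⟩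
    obtain ⟨j, hj, hji⟩ := (Nat.dvd_prime_pow hp).mp h6
    have hj1 : j ≤ 1 := by
      by_contra hcon
      push Not at hcon
      have : p ^ 2 ≤ p ^ j := Nat.pow_le_pow_right hp.pos hcon
      rw [← hji] at this
      have h7 : p < p ^ 2 := by
        calc p = p ^ 1 := (pow_one p).symm
          _ < p ^ 2 := Nat.pow_lt_pow_right hp.one_lt (by norm_num)
      omega
    have hcyc : IsCyclic (↥C ⧸ Subgroup.center ↥C) := by
      have hq : Nat.card (↥C ⧸ Subgroup.center ↥C) = p ^ j := by
        rw [← Subgroup.index_eq_card]; exact hji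
      interval_cases j
      · rw [pow_zero] at hq
        haveI : Subsingleton (↥C ⧸ Subgroup.center ↥C) :=
          (Nat.card_eq_one_iff_unique.mp hq).1
        exact isCyclic_of_subsingleton
      · rw [pow_one] at hq
        exact isCyclic_of_prime_card hq
    exact isMulCommutative_of_isCyclic_quotient_center_self ↥C

end Cfsg.Agent.Lib.Helper6_OrderP4
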