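import Mathlib
import Cfsg.Prelude
import Cfsg.Agent.S0630
import Cfsg.Agent.Lib.Helper5_AxB

set_option autoImplicit false
open Cfsg

namespace Cfsg.Agent.Lib.Helper6_PConstrained

/-- Let `C_{G/O_{p'}(G)}(O_p) ≤ O_p`, let `P` be a `p`-subgroup and `C_G(P) ≤ M ≤ N_G(P)` with
`M ≤ C_G(P)` or `P ≤ M`. Then `O_{p'}(M) ≤ O_{p'}(G)`. -/
theorem pPrimeCore_sub_le {G : Type*} [Group G] [Finite G] {p : ℕ} [Fact p.Prime]
    (hc : Subgroup.centralizer (Cfsg.pCore p (G ⧸ Cfsg.pPrimeCore p G) :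
      Set (G ⧸ Cfsg.pPrimeCore p G)) ≤ Cfsg.pCore p (G ⧸ Cfsg.pPrimeCore p G))
    (P : Subgroup G) (hP : IsPGroup p P) (M : Subgroup G)
    (hCM : Subgroup.centralizer (P : Set G) ≤ M) (hMN : M ≤ Subgroup.normalizer (P : Set G))
    (hMP : M ≤ Subgroup.centralizer (P : Set G) ∨ P ≤ M) :
    (Cfsg.pPrimeCore p ↥M).map M.subtype ≤ Cfsg.pPrimeCore p G := by
  classical
  have hpp := (Fact.out : p.Prime)
  set O : Subgroup G := Cfsg.pPrimeCore p G with hO
  have hOcop : (Nat.card O).Coprime p := Cfsg.Agent.Lib.Helper5_PPrime.pPrimeCore_coprime p G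
  set Q : Subgroup (G ⧸ O) := Cfsg.pCore p (G ⧸ O) with hQ
  have hQn : Q.Normal := Cfsg.Agent.Lib.Helper7_PCore.pCore_normal p
  have hQp : IsPGroup p Q := Cfsg.Agent.Lib.Helper7_PCore.pCore_isPGroup p
  set Kn : Subgroup M := Cfsg.pPrimeCore p ↥M with hKn
  have hKnn : Kn.Normal := Cfsg.Agent.Lib.Helper5_PPrime.pPrimeCore_normal p ↥M
  have hKncop : (Nat.card Kn).Coprime p := Cfsg.Agent.Lib.Helper5_PPrime.pPrimeCore_coprime p ↥M
  set K : Subgroup G := Kn.map M.subtype with hK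
  have hKM : K ≤ M := Subgroup.map_subtype_le Kn
  have hKcop : (Nat.card K).Coprime p := by
    rw [hK, Subgroup.card_map_of_injective M.subtype_injective]; exact hKncop
  have hKnorm : ∀ n ∈ M, ∀ k ∈ K, n * k * n⁻¹ ∈ K := by
    rintro n hn _ ⟨k, hk, rfl⟩
    exact ⟨⟨n, hn⟩ * k * ⟨n, hn⟩⁻¹, hKnn.conj_mem k hk ⟨n, hn⟩, rfl⟩
  have hKPbot : P ⊓ K = ⊥ :=
    Cfsg.Agent.Lib.Helper5_PPrime.inf_eq_bot_of_pGroup_of_coprime hP hKcop
  have hKP : K ≤ Subgroup.centralizer (P : Set G) := by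
    rcases hMP with hMC | hPM
    · exact hKM.trans hMC
    intro k hk
    rw [Subgroup.mem_centralizer_iff]
    intro x hx
    have hkN : k ∈ Subgroup.normalizer (P : Set G) := hMN (hKM hk)
    have h1 : k * x * k⁻¹ * x⁻¹ ∈ P := by
      have := (Subgroup.mem_normalizer_iff.mp hkN x).mp hx
      exact P.mul_mem this (P.inv_mem hx)
    have h2 : k * x * k⁻¹ * x⁻¹ ∈ K := by
      have h3 := hKnorm x (hPM hx) k⁻¹ (K.inv_mem hk)
      have h4 : k * x * k⁻¹ * x⁻¹ = k * (x * k⁻¹ * x⁻¹) := by group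
      rw [h4]
      exact K.mul_mem hk h3
    have h5 : k * x * k⁻¹ * x⁻¹ ∈ P ⊓ K := ⟨h1, h2⟩
    rw [hKPbot, Subgroup.mem_bot] at h5
    have h6 : k * x = (k * x * k⁻¹ * x⁻¹) * (x * k) := by group
    rw [h6, h5, one_mul]
  set π := QuotientGroup.mk' O with hπ
  set Kb : Subgroup (G ⧸ O) := K.map π with hKb
  set Pb : Subgroup (G ⧸ O) := P.map π with hPb
  have hA : ∀ a ∈ Kb, (orderOf a).Coprime p := by
    rintro _ ⟨k, hk, rfl⟩
    have h1 : orderOf (π k) ∣ orderOf k := orderOf_map_dvd π k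
    have h2 : orderOf k ∣ Nat.card K := by
      have := orderOf_dvd_natCard (⟨k, hk⟩ : K)
      rwa [Subgroup.orderOf_mk] at this
    exact Nat.Coprime.coprime_dvd_left (h1.trans h2) hKcop
  have hB : IsPGroup p Pb := hP.map π
  have hAB : Kb ≤ Subgroup.centralizer (Pb : Set (G ⧸ O)) := by
    rintro _ ⟨k, hk, rfl⟩
    rw [Subgroup.mem_centralizer_iff]
    rintro _ ⟨x, hx, rfl⟩
    have := Subgroup.mem_centralizer_iff.mp (hKP hk) x hx
    rw [← map_mul, ← map_mul, this]
  have hKbQ : ∀ z ∈ Kb, z ∈ Q → z = 1 := by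
    intro z hzK hzQ
    have h1 := hA z hzK
    obtain ⟨j, hj⟩ := hQp ⟨z, hzQ⟩
    have hj' : z ^ p ^ j = 1 := congrArg Subtype.val hj
    have h2 : orderOf z ∣ p ^ j := orderOf_dvd_of_pow_eq_one hj'
    have h3 : orderOf z = 1 :=
      Nat.eq_one_of_dvd_coprimes (Nat.Coprime.pow_right j h1) dvd_rfl h2
    exact orderOf_eq_one_iff.mp h3
  have hOn : Subgroup.normalizer (O : Set G) = ⊤ := Subgroup.normalizer_eq_top _
  have hcopPO : (Nat.card P).Coprime (Nat.card O) := by
    obtain ⟨j, hj⟩ := IsPGroup.iff_card.mp hP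
    rw [hj]
    exact Nat.Coprime.pow_left j hOcop.symm
  have hPsolv : Group.IsSolvable P := by
    have : Group.IsNilpotent P := hP.isNilpotent
    infer_instance
  have key : Q ⊓ Subgroup.centralizer (Pb : Set (G ⧸ O)) ≤
      Subgroup.centralizer (Kb : Set (G ⧸ O)) := by
    rintro yb ⟨hybQ, hybP⟩
    obtain ⟨y, hyy⟩ := QuotientGroup.mk'_surjective O yb
    have hyy' : yb = π y := hyy.symm
    rw [hyy'] at hybQ hybP ⊢
    have hy : ∀ a ∈ P, y⁻¹ * a * y * a⁻¹ ∈ O := by
      intro a ha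
      rw [← QuotientGroup.ker_mk' O, MonoidHom.mem_ker]
      have h1 := Subgroup.mem_centralizer_iff.mp hybP (π a) (Subgroup.mem_map_of_mem _ ha)
      rw [map_mul, map_mul, map_mul, map_inv, map_inv]
      show (π y)⁻¹ * π a * π y * (π a)⁻¹ = 1
      rw [mul_assoc (π y)⁻¹, h1]
      group
    obtain ⟨d, hd, hyd⟩ := Cfsg.Agent.Lib.Lead_Coprime.lemmaC O P
      (by rw [hOn]; exact le_top) hcopPO (Or.inl hPsolv) y hy
    have hπyd : π (y * d) = π y := by
      rw [map_mul]
      have : π d = 1 := by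
        have : d ∈ π.ker := by rw [hπ, QuotientGroup.ker_mk']; exact hd
        exact this
      rw [this, mul_one]
    have hydN : y * d ∈ M := hCM hyd
    rw [Subgroup.mem_centralizer_iff]
    rintro _ ⟨k, hk, rfl⟩
    have h1 : (y * d) * k * (y * d)⁻¹ * k⁻¹ ∈ K :=
      K.mul_mem (hKnorm _ hydN k hk) (K.inv_mem hk)
    have h2 : π ((y * d) * k * (y * d)⁻¹ * k⁻¹) ∈ Kb := Subgroup.mem_map_of_mem _ h1
    have h3 : π ((y * d) * k * (y * d)⁻¹ * k⁻¹) = π y * (π k * (π y)⁻¹ * (π k)⁻¹) := by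
      rw [map_mul, map_mul, map_mul, map_inv, map_inv, hπyd]
      group
    have h4 : π y * (π k * (π y)⁻¹ * (π k)⁻¹) ∈ Q :=
      Q.mul_mem hybQ (hQn.conj_mem _ (Q.inv_mem hybQ) _)
    rw [h3] at h2
    have h5 := hKbQ _ h2 h4
    have h6 : π y * π k = (π y * (π k * (π y)⁻¹ * (π k)⁻¹)) * (π k * π y) := by group
    rw [h6, h5, one_mul]
  have hQnorm : Subgroup.normalizer (Q : Set (G ⧸ O)) = ⊤ := Subgroup.normalizer_eq_top _
  have hQK : Q ≤ Subgroup.centralizer (Kb : Set (G ⧸ O)) :=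
    Cfsg.Agent.Lib.Helper5_AxB.thompson_AxB Kb Pb hA hB hAB Q hQp
      (by rw [hQnorm]; exact le_top) (by rw [hQnorm]; exact le_top) key
  have hKbbot : ∀ z ∈ Kb, z = 1 := by
    intro z hz
    apply hKbQ z hz
    apply hc
    rw [Subgroup.mem_centralizer_iff]
    intro q hq
    have := Subgroup.mem_centralizer_iff.mp (hQK hq) z hz
    exact this.symm
  intro x hx
  have h1 := hKbbot (π x) (Subgroup.mem_map_of_mem _ hx)
  have h2 : x ∈ π.ker := h1
  rwa [hπ, QuotientGroup.ker_mk'] at h2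

/-- the easy inclusion `O_{p'}(G) ∩ M ≤ O_{p'}(M)` -/
theorem inf_le_pPrimeCore_sub {G : Type*} [Group G] [Finite G] {p : ℕ} [Fact p.Prime]
    (M : Subgroup G) (m : M) (hm : (m : G) ∈ Cfsg.pPrimeCore p G) :
    m ∈ Cfsg.pPrimeCore p ↥M := by
  set O : Subgroup G := Cfsg.pPrimeCore p G with hO
  have hOcop : (Nat.card O).Coprime p := Cfsg.Agent.Lib.Helper5_PPrime.pPrimeCore_coprime p G
  have hn : (O.subgroupOf M).Normal := inferInstance
  have hcop : (Nat.card (O.subgroupOf M)).Coprime p := by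
    let f : O.subgroupOf M →* O :=
      MonoidHom.codRestrict ((M.subtype).comp (O.subgroupOf M).subtype) O
        (fun x => Subgroup.mem_subgroupOf.mp x.2)
    have hf : Function.Injective f := by
      intro a b hab
      have h1 : ((a : M) : G) = ((b : M) : G) := congrArg (fun z : O => (z : G)) hab
      exact Subtype.ext (Subtype.ext h1)
    exact Nat.Coprime.coprime_dvd_left (Subgroup.card_dvd_of_injective f hf) hOcop
  have hle : O.subgroupOf M ≤ Cfsg.pPrimeCore p ↥M :=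
    Cfsg.Agent.Lib.Helper5_PPrime.le_pPrimeCore _ hcop
  exact hle (Subgroup.mem_subgroupOf.mpr hm)

/-- an element of `p`-power order and of order prime to `p` is trivial -/
theorem eq_one_of_pow_of_coprime {H : Type*} [Group H] {p : ℕ} (x : H) (j : ℕ)
    (h1 : x ^ p ^ j = 1) (h2 : (orderOf x).Coprime p) : x = 1 := by
  have h3 : orderOf x ∣ p ^ j := orderOf_dvd_of_pow_eq_one h1
  have h4 : orderOf x = 1 :=
    Nat.eq_one_of_dvd_coprimes (Nat.Coprime.pow_right j h2) dvd_rfl h3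
  exact orderOf_eq_one_iff.mp h4

/-- Let `C_{G/O_{p'}(G)}(O_p) ≤ O_p`, let `P` be a `p`-subgroup and `C_G(P) ≤ M ≤ N_G(P)` with
`M ≤ C_G(P)` or `P ≤ M`. Then `M` is `p`-constrained. -/
theorem constrained_sub {G : Type*} [Group G] [Finite G] {p : ℕ} [Fact p.Prime]
    (hc : Subgroup.centralizer (Cfsg.pCore p (G ⧸ Cfsg.pPrimeCore p G) :
      Set (G ⧸ Cfsg.pPrimeCore p G)) ≤ Cfsg.pCore p (G ⧸ Cfsg.pPrimeCore p G))
    (P : Subgroup G) (hP : IsPGroup p P) (M : Subgroup G)
    (hCM : Subgroup.centralizer (P : Set G) ≤ M) (hMN : M ≤ Subgroup.normalizer (P : Set G))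
    (hMP : M ≤ Subgroup.centralizer (P : Set G) ∨ P ≤ M) :
    Cfsg.IsPConstrained p ↥M := by
  classical
  have hpp := (Fact.out : p.Prime)
  rw [Cfsg.Agent.S0630.result (G := ↥M),
    Cfsg.Agent.S0630.constrained_iff_of_pPrimeCore_eq_bot
      (Cfsg.Agent.S0630.pPrimeCore_quotient_self p)]
  set O : Subgroup G := Cfsg.pPrimeCore p G with hO
  have hOcop : (Nat.card O).Coprime p := Cfsg.Agent.Lib.Helper5_PPrime.pPrimeCore_coprime p G
  set π := QuotientGroup.mk' O with hπ
  set Q : Subgroup (G ⧸ O) := Cfsg.pCore p (G ⧸ O) with hQ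
  have hQn : Q.Normal := Cfsg.Agent.Lib.Helper7_PCore.pCore_normal p
  have hQp : IsPGroup p Q := Cfsg.Agent.Lib.Helper7_PCore.pCore_isPGroup p
  set K : Subgroup ↥M := Cfsg.pPrimeCore p ↥M with hK
  have hKcop : (Nat.card K).Coprime p := Cfsg.Agent.Lib.Helper5_PPrime.pPrimeCore_coprime p ↥M
  set ρ := QuotientGroup.mk' K with hρ
  set R : Subgroup (↥M ⧸ K) := Cfsg.pCore p (↥M ⧸ K) with hR
  have hRn : R.Normal := Cfsg.Agent.Lib.Helper7_PCore.pCore_normal p
  have hRp : IsPGroup p R := Cfsg.Agent.Lib.Helper7_PCore.pCore_isPGroup p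
  have hKO : ∀ k : ↥M, k ∈ K → (k : G) ∈ O := fun k hk =>
    pPrimeCore_sub_le hc P hP M hCM hMN hMP ⟨k, hk, rfl⟩
  have hOK : ∀ m : ↥M, (m : G) ∈ O → m ∈ K := inf_le_pPrimeCore_sub M
  have hρker : ∀ m : ↥M, ρ m = 1 ↔ m ∈ K := by
    intro m
    rw [← MonoidHom.mem_ker, hρ, QuotientGroup.ker_mk']
  have hπker : ∀ g : G, π g = 1 ↔ g ∈ O := by
    intro g
    rw [← MonoidHom.mem_ker, hπ, QuotientGroup.ker_mk']
  -- commuting modulo `K`
  have hcommK : ∀ a b : ↥M, ρ a * ρ b = ρ b * ρ a → (b * a)⁻¹ * (a * b) ∈ K := by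
    intro a b hab
    rw [← hρker, map_mul, map_inv, map_mul, map_mul, hab]
    group
  -- sub-claim
  have sub : ∀ z : ↥M, (orderOf z).Coprime p →
      ρ z ∈ Subgroup.centralizer (R : Set (↥M ⧸ K)) → (z : G) ∈ O := by
    intro z hzo hzX
    have hzoG : (orderOf (z : G)).Coprime p := by rw [Subgroup.orderOf_coe]; exact hzo
    -- `z` centralizes `P`
    have hzP : (z : G) ∈ Subgroup.centralizer (P : Set G) := by
      rcases hMP with hMC | hPM
      · exact hMC z.2
      · rw [Subgroup.mem_centralizer_iff]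
        intro a ha
        have hPt : ρ ⟨a, hPM ha⟩ ∈ R := by
          have hn1 : (P.subgroupOf M).Normal := Subgroup.normal_subgroupOf_of_le_normalizer hMN
          have hn2 : ((P.subgroupOf M).map ρ).Normal :=
            Subgroup.Normal.map hn1 _ (QuotientGroup.mk'_surjective K)
          have hp1 : IsPGroup p (P.subgroupOf M) := by
            intro x
            obtain ⟨j, hj⟩ := hP ⟨((x : M) : G), Subgroup.mem_subgroupOf.mp x.2⟩
            refine ⟨j, ?_⟩
            apply Subtype.ext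
            apply Subtype.ext
            have := congrArg Subtype.val hj
            simpa using this
          exact Cfsg.Agent.Lib.Helper7_PCore.le_pCore hn2 (hp1.map ρ)
            (Subgroup.mem_map_of_mem _ (Subgroup.mem_subgroupOf.mpr ha))
        have h1 := Subgroup.mem_centralizer_iff.mp hzX _ hPt
        have h2 := hcommK ⟨a, hPM ha⟩ z h1
        set c : ↥M := (z * ⟨a, hPM ha⟩)⁻¹ * (⟨a, hPM ha⟩ * z) with hcdef
        have hcG : (c : G) = a⁻¹ * ((z : G)⁻¹ * a * (z : G)⁻¹⁻¹) := by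
          rw [hcdef]
          simp only [Subgroup.coe_mul, Subgroup.coe_inv]
          group
        have hcP : (c : G) ∈ P := by
          rw [hcG]
          have hzN : (z : G)⁻¹ ∈ Subgroup.normalizer (P : Set G) :=
            Subgroup.inv_mem _ (hMN z.2)
          exact P.mul_mem (P.inv_mem ha) ((Subgroup.mem_normalizer_iff.mp hzN a).mp ha)
        obtain ⟨j, hj⟩ := hP ⟨(c : G), hcP⟩
        have hj' : (c : G) ^ p ^ j = 1 := congrArg Subtype.val hj
        have hco : (orderOf (c : G)).Coprime p := by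
          rw [Subgroup.orderOf_coe]
          have h3 : orderOf c ∣ Nat.card K := by
            have := orderOf_dvd_natCard (⟨c, h2⟩ : K)
            rwa [Subgroup.orderOf_mk] at this
          exact Nat.Coprime.coprime_dvd_left h3 hKcop
        have hc1 : (c : G) = 1 := eq_one_of_pow_of_coprime _ j hj' hco
        rw [hcG] at hc1
        have h4 : a * (z : G) = (z : G) * a * (a⁻¹ * ((z : G)⁻¹ * a * (z : G)⁻¹⁻¹)) := by group
        rw [h4, hc1, mul_one]
    -- Thompson's `A × B` lemma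
    set zb : G ⧸ O := π (z : G) with hzb
    set Pb : Subgroup (G ⧸ O) := P.map π with hPb
    have hzbo : (orderOf zb).Coprime p :=
      Nat.Coprime.coprime_dvd_left (orderOf_map_dvd π (z : G)) hzoG
    have hA : ∀ a ∈ Subgroup.zpowers zb, (orderOf a).Coprime p := by
      intro a ha
      exact Nat.Coprime.coprime_dvd_left (orderOf_dvd_of_mem_zpowers ha) hzbo
    have hB : IsPGroup p Pb := hP.map π
    have hAB : Subgroup.zpowers zb ≤ Subgroup.centralizer (Pb : Set (G ⧸ O)) := by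
      rw [Subgroup.zpowers_le, Subgroup.mem_centralizer_iff]
      rintro _ ⟨a, ha, rfl⟩
      have := Subgroup.mem_centralizer_iff.mp hzP a ha
      rw [hzb, ← map_mul, ← map_mul, this]
    have hOn : Subgroup.normalizer (O : Set G) = ⊤ := Subgroup.normalizer_eq_top _
    have hcopPO : (Nat.card P).Coprime (Nat.card O) := by
      obtain ⟨j, hj⟩ := IsPGroup.iff_card.mp hP
      rw [hj]
      exact Nat.Coprime.pow_left j hOcop.symm
    have hPsolv : Group.IsSolvable P := by
      have : Group.IsNilpotent P := hP.isNilpotent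
      infer_instance
    have key : Q ⊓ Subgroup.centralizer (Pb : Set (G ⧸ O)) ≤
        Subgroup.centralizer ((Subgroup.zpowers zb : Subgroup (G ⧸ O)) : Set (G ⧸ O)) := by
      rintro yb ⟨hybQ, hybP⟩
      obtain ⟨y, hyy⟩ := QuotientGroup.mk'_surjective O yb
      have hyy' : yb = π y := hyy.symm
      rw [hyy'] at hybQ hybP ⊢
      have hy : ∀ a ∈ P, y⁻¹ * a * y * a⁻¹ ∈ O := by
        intro a ha
        rw [← hπker]
        have h1 := Subgroup.mem_centralizer_iff.mp hybP (π a) (Subgroup.mem_map_of_mem _ ha)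
        rw [map_mul, map_mul, map_mul, map_inv, map_inv]
        rw [mul_assoc (π y)⁻¹, h1]
        group
      obtain ⟨d, hd, hyd⟩ := Cfsg.Agent.Lib.Lead_Coprime.lemmaC O P
        (by rw [hOn]; exact le_top) hcopPO (Or.inl hPsolv) y hy
      have hπyd : π (y * d) = π y := by
        rw [map_mul, (hπker d).mpr hd, mul_one]
      have hydM : y * d ∈ M := hCM hyd
      set y' : ↥M := ⟨y * d, hydM⟩ with hy'
      -- the image of `y'` lies in `O_p(M / K)`
      have hy'R : ρ y' ∈ R := by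
        set T : Subgroup ↥M := (Q.comap π).subgroupOf M with hT
        have hn1 : T.Normal := by
          have : (Q.comap π).Normal := hQn.comap _
          infer_instance
        have hn2 : (T.map ρ).Normal := Subgroup.Normal.map hn1 _ (QuotientGroup.mk'_surjective K)
        have hp2 : IsPGroup p (T.map ρ) := by
          rintro ⟨_, t, ht, rfl⟩
          have htQ : π ((t : M) : G) ∈ Q := Subgroup.mem_subgroupOf.mp ht
          obtain ⟨j, hj⟩ := hQp ⟨_, htQ⟩
          have hj' : π ((t : M) : G) ^ p ^ j = 1 := congrArg Subtype.val hj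
          refine ⟨j, ?_⟩
          apply Subtype.ext
          show ρ t ^ p ^ j = 1
          rw [← map_pow, hρker]
          apply hOK
          rw [← hπker]
          rw [Subgroup.coe_pow, map_pow]
          exact hj'
        apply Cfsg.Agent.Lib.Helper7_PCore.le_pCore hn2 hp2
        refine Subgroup.mem_map_of_mem _ ?_
        rw [hT, Subgroup.mem_subgroupOf, Subgroup.mem_comap]
        show π (y * d) ∈ Q
        rw [hπyd]; exact hybQ
      have h1 := Subgroup.mem_centralizer_iff.mp hzX _ hy'R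
      have h2 := hKO _ (hcommK y' z h1)
      have h3 : π (((z * y')⁻¹ * (y' * z) : ↥M) : G) = (zb * π y)⁻¹ * (π y * zb) := by
        simp only [Subgroup.coe_mul, Subgroup.coe_inv, map_mul, map_inv]
        rw [hy']
        show (π (z : G) * π (y * d))⁻¹ * (π (y * d) * π (z : G)) = _
        rw [hπyd]
      have h4 : (zb * π y)⁻¹ * (π y * zb) = 1 := by
        rw [← h3, hπker]; exact h2
      have h5 : π y * zb = zb * π y := by
        have h6 : π y * zb = (zb * π y) * ((zb * π y)⁻¹ * (π y * zb)) := by group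
        rw [h6, h4, mul_one]
      rw [Subgroup.mem_centralizer_iff]
      intro h hh
      obtain ⟨i, rfl⟩ := Subgroup.mem_zpowers_iff.mp hh
      have hcm : Commute zb (π y) := h5.symm
      exact (hcm.zpow_left i).eq
    have hQnorm : Subgroup.normalizer (Q : Set (G ⧸ O)) = ⊤ := Subgroup.normalizer_eq_top _
    have hQK : Q ≤ Subgroup.centralizer
        ((Subgroup.zpowers zb : Subgroup (G ⧸ O)) : Set (G ⧸ O)) :=
      Cfsg.Agent.Lib.Helper5_AxB.thompson_AxB (Subgroup.zpowers zb) Pb hA hB hAB Q hQp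
        (by rw [hQnorm]; exact le_top) (by rw [hQnorm]; exact le_top) key
    have hzbQ : zb ∈ Q := by
      apply hc
      rw [Subgroup.mem_centralizer_iff]
      intro q hq
      have := Subgroup.mem_centralizer_iff.mp (hQK hq) zb (Subgroup.mem_zpowers zb)
      exact this.symm
    obtain ⟨j, hj⟩ := hQp ⟨zb, hzbQ⟩
    have hj' : zb ^ p ^ j = 1 := congrArg Subtype.val hj
    have hzb1 : zb = 1 := eq_one_of_pow_of_coprime _ j hj' hzbo
    exact (hπker _).mp hzb1
  -- `p'`-elements of the centralizer are trivial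
  have hX : ∀ zt ∈ Subgroup.centralizer (R : Set (↥M ⧸ K)), (orderOf zt).Coprime p → zt = 1 := by
    intro zt hztX hzto
    obtain ⟨z₀, hz₀⟩ := QuotientGroup.mk'_surjective K zt
    have hz₀' : zt = ρ z₀ := hz₀.symm
    obtain ⟨b, m', hm', ho⟩ :=
      Nat.exists_eq_pow_mul_and_not_dvd (orderOf_pos z₀).ne' p hpp.ne_one
    set z : ↥M := z₀ ^ (p ^ b) with hz
    have hzo : orderOf z = m' := by
      rw [hz, orderOf_pow_of_dvd (pow_ne_zero _ hpp.ne_zero) (Dvd.intro _ ho.symm), ho,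
        Nat.mul_div_cancel_left _ (pow_pos hpp.pos _)]
    have hzcop : (orderOf z).Coprime p := by
      rw [hzo]; exact ((Nat.Prime.coprime_iff_not_dvd hpp).mpr hm').symm
    have hρz : ρ z = zt ^ (p ^ b) := by rw [hz, map_pow, hz₀']
    have hρzX : ρ z ∈ Subgroup.centralizer (R : Set (↥M ⧸ K)) := by
      rw [hρz]; exact Subgroup.pow_mem _ hztX _
    have hzO := sub z hzcop hρzX
    have hρz1 : ρ z = 1 := (hρker z).mpr (hOK z hzO)
    obtain ⟨u, hu⟩ := exists_pow_eq_self_of_coprime (x := zt) (n := p ^ b)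
      (Nat.Coprime.pow_left b hzto.symm)
    rw [← hu, ← hρz, hρz1, one_pow]
  -- hence the centralizer is a normal `p`-subgroup
  have hXn : (Subgroup.centralizer (R : Set (↥M ⧸ K))).Normal := Subgroup.normal_centralizer
  apply Cfsg.Agent.Lib.Helper7_PCore.le_pCore hXn
  intro x
  obtain ⟨a, m, hm, ho⟩ :=
    Nat.exists_eq_pow_mul_and_not_dvd (orderOf_pos (x : ↥M ⧸ K)).ne' p hpp.ne_one
  refine ⟨a, ?_⟩
  have h1 : orderOf ((x : ↥M ⧸ K) ^ (p ^ a)) = m := by
    rw [orderOf_pow_of_dvd (pow_ne_zero _ hpp.ne_zero) (Dvd.intro _ ho.symm), ho,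
      Nat.mul_div_cancel_left _ (pow_pos hpp.pos _)]
  have h2 := hX ((x : ↥M ⧸ K) ^ (p ^ a)) (Subgroup.pow_mem _ x.2 _)
    (by rw [h1]; exact ((Nat.Prime.coprime_iff_not_dvd hpp).mpr hm).symm)
  exact Subtype.ext h2

end Cfsg.Agent.Lib.Helper6_PConstrained
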