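import Mathlib
import Cfsg.Prelude
import Cfsg.Agent.S0634
import Cfsg.Agent.Lib.Helper6_PConstrained
import Cfsg.Agent.Lib.Lead_Coprime

set_option autoImplicit false
open Cfsg

namespace Cfsg.Agent.Lib.Helper6_PLengthOne

open scoped Pointwise

/-- an element of `p`-power order of a group whose order is prime to `p` is trivial -/
theorem eq_one_of_coprime_card {H : Type*} [Group H] [Finite H] {p : ℕ} (x : H) (j : ℕ)
    (h1 : x ^ p ^ j = 1) (h2 : (Nat.card H).Coprime p) : x = 1 :=
  Cfsg.Agent.Lib.Helper6_PConstrained.eq_one_of_pow_of_coprime x j h1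
    (Nat.Coprime.coprime_dvd_left (orderOf_dvd_natCard x) h2)

/-- structure of a group of `p`-length at most one: `K = O_{p'}(G)` and `K S` is normal of index
prime to `p`, for a Sylow `p`-subgroup `S` -/
theorem structure_of_plength_one' {G : Type*} [Group G] [Finite G] {p : ℕ} [Fact p.Prime]
    (hpl : Cfsg.PLengthLE p 1 G) (S : Sylow p G) :
    ∃ (K : Subgroup G) (_ : K.Normal), (Nat.card K).Coprime p ∧ (K ⊔ (S : Subgroup G)).Normal ∧
      ((K ⊔ (S : Subgroup G)).index).Coprime p ∧ Cfsg.pPrimeCore p (G ⧸ K) = ⊥ ∧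
      Cfsg.pCore p (G ⧸ K) = (K ⊔ (S : Subgroup G)).map (QuotientGroup.mk' K) := by
  classical
  have hpp := (Fact.out : p.Prime)
  unfold Cfsg.PLengthLE at hpl
  set U0 : Subgroup G := (Cfsg.upperPSeries p G 0).1 with hU0
  set K : Subgroup G := (Cfsg.upperPSeries p G 1).1 with hK
  set U2 : Subgroup G := (Cfsg.upperPSeries p G 2).1 with hU2
  have hU0bot : U0 = ⊥ := rfl
  have h1 : K = (Cfsg.pPrimeCore p (G ⧸ U0)).comap (QuotientGroup.mk' U0) :=
    Cfsg.Agent.S0634.upper_odd p 0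
  have h2 : U2 = (Cfsg.pCore p (G ⧸ K)).comap (QuotientGroup.mk' K) :=
    Cfsg.Agent.S0634.upper_even p 0
  have h3 : (Cfsg.upperPSeries p G (2 * 1 + 1)).1 =
      (Cfsg.pPrimeCore p (G ⧸ U2)).comap (QuotientGroup.mk' U2) :=
    Cfsg.Agent.S0634.upper_odd p 1
  have hKn : K.Normal := inferInstance
  have hKcop : (Nat.card K).Coprime p := by
    rw [h1, Cfsg.Agent.Lib.Lead_Hall.card_comap_mk]
    have hc0 : Nat.card U0 = 1 := by rw [hU0bot, Subgroup.card_bot]
    rw [hc0, mul_one]
    exact Cfsg.Agent.Lib.Helper5_PPrime.pPrimeCore_coprime p _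
  have hU2n : U2.Normal := inferInstance
  -- the index of `U2` is prime to `p`
  have htop : Cfsg.pPrimeCore p (G ⧸ U2) = ⊤ := by
    have h4 := hpl
    rw [h3] at h4
    have h5 := Subgroup.map_comap_eq_self_of_surjective (QuotientGroup.mk'_surjective U2)
      (Cfsg.pPrimeCore p (G ⧸ U2))
    rw [h4, ← MonoidHom.range_eq_map, MonoidHom.range_eq_top.mpr (QuotientGroup.mk'_surjective U2)]
      at h5
    exact h5.symm
  have hU2idx : (U2.index).Coprime p := by
    rw [Subgroup.index_eq_card, ← Subgroup.card_top (G := G ⧸ U2), ← htop]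
    exact Cfsg.Agent.Lib.Helper5_PPrime.pPrimeCore_coprime p _
  -- `S ≤ U2`
  have hSU2 : (S : Subgroup G) ≤ U2 := by
    intro s hs
    obtain ⟨j, hj⟩ := S.isPGroup' ⟨s, hs⟩
    have hj' : s ^ p ^ j = 1 := congrArg Subtype.val hj
    have h6 : (QuotientGroup.mk' U2 s) ^ p ^ j = 1 := by rw [← map_pow, hj', map_one]
    have h7 : (Nat.card (G ⧸ U2)).Coprime p := by rw [← Subgroup.index_eq_card]; exact hU2idx
    have h8 := eq_one_of_coprime_card _ j h6 h7
    have h9 : s ∈ (QuotientGroup.mk' U2).ker := h8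
    rwa [QuotientGroup.ker_mk'] at h9
  have hKU2 : K ≤ U2 := by rw [h2]; exact Cfsg.Agent.Lib.Lead_Hall.le_comap_mk K _
  have hle : K ⊔ (S : Subgroup G) ≤ U2 := sup_le hKU2 hSU2
  -- cardinalities
  have hScop : (Nat.card (S : Subgroup G)).Coprime (Nat.card K) := by
    obtain ⟨j, hj⟩ := IsPGroup.iff_card.mp S.isPGroup'
    rw [hj]; exact Nat.Coprime.pow_left j hKcop.symm
  have hKnorm : Subgroup.normalizer (K : Set G) = ⊤ := Subgroup.normalizer_eq_top _
  have hcardsup : Nat.card (K ⊔ (S : Subgroup G) : Subgroup G) =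
      Nat.card K * Nat.card (S : Subgroup G) :=
    Cfsg.Agent.Lib.Lead_Coprime.card_sup_of_normalizer K S (by rw [hKnorm]; exact le_top) hScop
  have hcardU2 : Nat.card U2 = Nat.card (Cfsg.pCore p (G ⧸ K)) * Nat.card K := by
    rw [h2]; exact Cfsg.Agent.Lib.Lead_Hall.card_comap_mk K _
  obtain ⟨a, ha⟩ := IsPGroup.iff_card.mp
    (Cfsg.Agent.Lib.Helper7_PCore.pCore_isPGroup (G := G ⧸ K) p)
  have hdvd : p ^ a ∣ Nat.card (S : Subgroup G) := by
    -- `|U2| = |S| * [U2 : S]` with `[U2 : S]` prime to `p`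
    have h10 := Subgroup.card_mul_index ((S : Subgroup G).subgroupOf U2)
    rw [Nat.card_congr (Subgroup.subgroupOfEquivOfLe hSU2).toEquiv, hcardU2, ha] at h10
    have h11 : ((S : Subgroup G).subgroupOf U2).index ∣ (S : Subgroup G).index := by
      have : ((S : Subgroup G).subgroupOf U2).index = (S : Subgroup G).relIndex U2 := rfl
      rw [this]
      exact Subgroup.relIndex_dvd_index_of_le hSU2
    have h12 : ¬ p ∣ (S : Subgroup G).index := S.not_dvd_index
    have h13 : (p ^ a).Coprime ((S : Subgroup G).subgroupOf U2).index := by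
      apply Nat.Coprime.pow_left
      rw [Nat.Prime.coprime_iff_not_dvd hpp]
      exact fun h => h12 (h.trans h11)
    have h14 : p ^ a ∣ Nat.card (S : Subgroup G) * ((S : Subgroup G).subgroupOf U2).index :=
      ⟨Nat.card K, h10⟩
    exact h13.dvd_of_dvd_mul_right h14
  have hge : Nat.card U2 ≤ Nat.card (K ⊔ (S : Subgroup G) : Subgroup G) := by
    rw [hcardU2, hcardsup, ha, mul_comm]
    exact Nat.mul_le_mul_left _ (Nat.le_of_dvd Nat.card_pos hdvd)
  have heq : K ⊔ (S : Subgroup G) = U2 := Subgroup.eq_of_le_of_card_ge hle hge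
  refine ⟨K, hKn, hKcop, ?_, ?_, ?_, ?_⟩
  · rw [heq]; exact hU2n
  · rw [heq]; exact hU2idx
  · exact Cfsg.Agent.S0634.pPrimeCore_quotient_eq_bot U0 K h1
  · rw [heq, h2]
    exact (Subgroup.map_comap_eq_self_of_surjective (QuotientGroup.mk'_surjective K) _).symm

theorem structure_of_plength_one {G : Type*} [Group G] [Finite G] {p : ℕ} [Fact p.Prime]
    (hpl : Cfsg.PLengthLE p 1 G) (S : Sylow p G) :
    ∃ K : Subgroup G, K.Normal ∧ (Nat.card K).Coprime p ∧ (K ⊔ (S : Subgroup G)).Normal ∧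
      ((K ⊔ (S : Subgroup G)).index).Coprime p := by
  obtain ⟨K, hKn, h1, h2, h3, -, -⟩ := structure_of_plength_one' hpl S
  exact ⟨K, hKn, h1, h2, h3⟩

/-- a group of `p`-length at most one is `p`-solvable -/
theorem isPSolvable_of_plength_one {G : Type*} [Group G] [Finite G] {p : ℕ} [Fact p.Prime]
    (hpl : Cfsg.PLengthLE p 1 G) : Cfsg.IsPSolvable p G := by
  classical
  obtain ⟨S⟩ : Nonempty (Sylow p G) := inferInstance
  obtain ⟨K, hKn, hKcop, hKSn, hKSidx⟩ := structure_of_plength_one hpl S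
  have hScop : (Nat.card (S : Subgroup G)).Coprime (Nat.card K) := by
    obtain ⟨j, hj⟩ := IsPGroup.iff_card.mp S.isPGroup'
    rw [hj]; exact Nat.Coprime.pow_left j hKcop.symm
  have hKnorm : Subgroup.normalizer (K : Set G) = ⊤ := Subgroup.normalizer_eq_top _
  have hcardsup : Nat.card (K ⊔ (S : Subgroup G) : Subgroup G) =
      Nat.card K * Nat.card (S : Subgroup G) :=
    Cfsg.Agent.Lib.Lead_Coprime.card_sup_of_normalizer K S (by rw [hKnorm]; exact le_top) hScop
  refine ⟨3, ![⊥, K, K ⊔ (S : Subgroup G), ⊤], rfl, rfl, ?_, ?_, ?_⟩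
  · apply Fin.monotone_iff_le_succ.mpr
    intro i
    fin_cases i
    · exact bot_le
    · exact le_sup_left
    · exact le_top
  · intro i
    fin_cases i
    · exact inferInstanceAs (⊥ : Subgroup G).Normal
    · exact hKn
    · exact hKSn
    · exact inferInstanceAs (⊤ : Subgroup G).Normal
  · intro i
    fin_cases i
    · right
      show ((⊥ : Subgroup G).relIndex K).Coprime p
      rw [Subgroup.relIndex_bot_left]; exact hKcop
    · left
      show ∃ m : ℕ, K.relIndex (K ⊔ (S : Subgroup G)) = p ^ m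
      obtain ⟨j, hj⟩ := IsPGroup.iff_card.mp S.isPGroup'
      refine ⟨j, ?_⟩
      have h1 := Subgroup.card_mul_index (K.subgroupOf (K ⊔ (S : Subgroup G)))
      rw [Nat.card_congr (Subgroup.subgroupOfEquivOfLe (le_sup_left :
        K ≤ K ⊔ (S : Subgroup G))).toEquiv, hcardsup] at h1
      have h2 : (K.subgroupOf (K ⊔ (S : Subgroup G))).index = Nat.card (S : Subgroup G) :=
        Nat.eq_of_mul_eq_mul_left Nat.card_pos h1
      rw [← hj, ← h2]; rfl
    · right
      show ((K ⊔ (S : Subgroup G)).relIndex ⊤).Coprime p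
      rw [Subgroup.relIndex_top_right]; exact hKSidx

end Cfsg.Agent.Lib.Helper6_PLengthOne
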