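import Mathlib
import Cfsg.Agent.Lib.Helper6_CentMax
import Cfsg.Agent.Lib.Helper6_CentMax2

set_option autoImplicit false

/-!
A normal subgroup `N` such that every element outside `N` has prime power order and a maximal
centralizer (helper6).  Part 1: the centralizer of an outside element is a `p`-group.
-/

namespace Cfsg.Agent.Lib.Helper6_PPO

open Subgroup
open Cfsg.Agent.Lib.Helper6_CentMax

variable {G : Type*} [Group G]

/-- Lemma B. -/
theorem pElement_of_mem_of_comm [Finite G] (N : Subgroup G)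
    (hpp : ∀ x : G, x ∉ N → IsPrimePow (orderOf x)) {x : G} (hx : x ∉ N) {p k : ℕ}
    (hp : p.Prime) (hox : orderOf x = p ^ k) {n : G} (hn : n ∈ N) (hc : x * n = n * x) :
    ∃ j : ℕ, n ^ (p ^ j) = 1 := by
  have hxn : x * n ∉ N := by
    intro hmem
    apply hx
    have : x = x * n * n⁻¹ := by simp
    rw [this]
    exact N.mul_mem hmem (N.inv_mem hn)
  obtain ⟨s, j, hs, hj, hsj⟩ := (isPrimePow_nat_iff _).mp (hpp _ hxn)
  have hcomm : Commute x n := hc
  have h1 : x ^ (s ^ j) * n ^ (s ^ j) = 1 := by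
    rw [← hcomm.mul_pow, hsj, pow_orderOf_eq_one]
  by_cases hsp : s = p
  · subst hsp
    refine ⟨j + k, ?_⟩
    have h2 : n ^ (s ^ j) = (x ^ (s ^ j))⁻¹ := eq_inv_of_mul_eq_one_right h1
    rw [pow_add, pow_mul, h2, inv_pow, ← pow_mul, mul_comm, pow_mul, ← hox, pow_orderOf_eq_one,
      one_pow, inv_one]
  · exfalso
    apply hx
    have h2 : x ^ (s ^ j) = (n ^ (s ^ j))⁻¹ := eq_inv_of_mul_eq_one_left h1
    have hmem : x ^ (s ^ j) ∈ N := by
      rw [h2]; exact N.inv_mem (N.pow_mem hn _)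
    have hco : (s ^ j).Coprime (orderOf x) := by
      rw [hox]
      exact Nat.Coprime.pow _ _ ((Nat.coprime_primes hs hp).mpr hsp)
    obtain ⟨m, hm⟩ := exists_pow_eq_self_of_coprime hco
    rw [← hm]
    exact N.pow_mem hmem m

/-- Lemma A. -/
theorem pElement_of_not_mem_of_comm [Finite G] (N : Subgroup G)
    (hpp : ∀ x : G, x ∉ N → IsPrimePow (orderOf x)) {x : G} (hx : x ∉ N) {p k : ℕ}
    (hp : p.Prime) (hk : 0 < k) (hox : orderOf x = p ^ k) {y : G} (hy : y ∉ N)
    (hc : x * y = y * x) : ∃ j : ℕ, y ^ (p ^ j) = 1 := by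
  obtain ⟨r, l, hr, hl, hrl⟩ := (isPrimePow_nat_iff _).mp (hpp _ hy)
  by_cases hrp : r = p
  · subst hrp
    exact ⟨l, by rw [hrl, pow_orderOf_eq_one]⟩
  · exfalso
    have hcomm : Commute x y := hc
    have hco : (orderOf x).Coprime (orderOf y) := by
      rw [hox, ← hrl]
      exact Nat.Coprime.pow _ _ ((Nat.coprime_primes hp hr).mpr (Ne.symm hrp))
    have hord : orderOf (x * y) = p ^ k * r ^ l := by
      rw [hcomm.orderOf_mul_eq_mul_orderOf_of_coprime hco, hox, hrl]
    have hxyN : x * y ∈ N := by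
      by_contra hnot
      obtain ⟨q, j, hq, hj, hqj⟩ := (isPrimePow_nat_iff _).mp (hpp _ hnot)
      rw [hord] at hqj
      have h1 : p ∣ q ^ j := by
        rw [hqj]; exact Dvd.dvd.mul_right (dvd_pow_self p hk.ne') _
      have h2 : r ∣ q ^ j := by
        rw [hqj]; exact Dvd.dvd.mul_left (dvd_pow_self r hl.ne') _
      have e1 := (Nat.prime_dvd_prime_iff_eq hp hq).mp (hp.dvd_of_dvd_pow h1)
      have e2 := (Nat.prime_dvd_prime_iff_eq hr hq).mp (hr.dvd_of_dvd_pow h2)
      exact hrp (e2.trans e1.symm)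
    have hc2 : x * (x * y) = (x * y) * x := by
      rw [mul_assoc, ← hc]
    obtain ⟨j, hj⟩ := pElement_of_mem_of_comm N hpp hx hp hox hxyN hc2
    have hdvd := orderOf_dvd_of_pow_eq_one hj
    rw [hord] at hdvd
    have h3 : r ∣ p ^ j := (Dvd.dvd.mul_left (dvd_pow_self r hl.ne') _).trans hdvd
    exact hrp ((Nat.prime_dvd_prime_iff_eq hr hp).mp (hr.dvd_of_dvd_pow h3))

/-- Lemma C: the centralizer of an outside element is a `p`-group. -/
theorem pElement_of_comm [Finite G] (N : Subgroup G)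
    (hpp : ∀ x : G, x ∉ N → IsPrimePow (orderOf x)) {x : G} (hx : x ∉ N) {p k : ℕ}
    (hp : p.Prime) (hk : 0 < k) (hox : orderOf x = p ^ k) {y : G}
    (hy : y ∈ centralizer ({x} : Set G)) : ∃ j : ℕ, y ^ (p ^ j) = 1 := by
  have hc : x * y = y * x := (mem_cent.mp hy).symm
  by_cases hyN : y ∈ N
  · exact pElement_of_mem_of_comm N hpp hx hp hox hyN hc
  · exact pElement_of_not_mem_of_comm N hpp hx hp hk hox hyN hc

end Cfsg.Agent.Lib.Helper6_PPO
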