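import Mathlib
import Cfsg.Agent.Lib.Helper6_CentMax
import Cfsg.Agent.Lib.Helper6_CentMax2
import Cfsg.Agent.Lib.Helper6_PPO

set_option autoImplicit false

/-!
Part 2: a maximal Sylow `p`-subgroup all of whose outside elements have maximal centralizers
is abelian (helper6).
-/

namespace Cfsg.Agent.Lib.Helper6_PPO

open Subgroup
open Cfsg.Agent.Lib.Helper6_CentMax

variable {G : Type*} [Group G]

theorem card_identity [Finite G] (N M : Subgroup G) [N.Normal] (htop : M ⊔ N = ⊤) :
    M.index * Nat.card ↥(N ⊓ M) = Nat.card ↥N := by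
  have h1 : N.relIndex (M ⊔ N) = N.relIndex M := Subgroup.relIndex_sup_right M N
  rw [htop, Subgroup.relIndex_top_right] at h1
  have h2 : (N.subgroupOf M).index * Nat.card ↥(N.subgroupOf M) = Nat.card ↥M :=
    (N.subgroupOf M).index_mul_card
  have h3 : Nat.card ↥(N.subgroupOf M) = Nat.card ↥(N ⊓ M) := by
    rw [← Subgroup.inf_subgroupOf_right N M]
    exact Nat.card_congr (Subgroup.subgroupOfEquivOfLe (inf_le_right : N ⊓ M ≤ M)).toEquiv
  have h4 : N.relIndex M = (N.subgroupOf M).index := rfl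
  have h5 : M.index * Nat.card ↥M = Nat.card G := M.index_mul_card
  have h6 : N.index * Nat.card ↥N = Nat.card G := N.index_mul_card
  have hpos : 0 < N.index := Nat.pos_of_ne_zero Subgroup.index_ne_zero_of_finite
  -- M.index * |M| = N.index * |N|, |M| = N.index * |N ⊓ M|
  rw [h3] at h2
  rw [← h4, ← h1] at h2
  have : N.index * (M.index * Nat.card ↥(N ⊓ M)) = N.index * Nat.card ↥N := by
    rw [h6, ← h5, ← h2]; ring
  exact Nat.eq_of_mul_eq_mul_left hpos this

theorem mem_sylow_smul_iff {p : ℕ} (Q : Sylow p G) (g w : G) :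
    w ∈ ((g • Q : Sylow p G) : Subgroup G) ↔ ∃ a ∈ (Q : Subgroup G), w = g * a * g⁻¹ := by
  rw [Sylow.coe_subgroup_smul, Subgroup.mem_smul_pointwise_iff_exists]
  constructor
  · rintro ⟨s, hs, rfl⟩
    exact ⟨s, hs, by rw [MulAut.smul_def, MulAut.conj_apply]⟩
  · rintro ⟨a, ha, rfl⟩
    exact ⟨a, ha, by rw [MulAut.smul_def, MulAut.conj_apply]⟩

/-- Every `p`-element is conjugate into the Sylow subgroup `Q`. -/
theorem exists_conj_mem_sylow [Finite G] {p : ℕ} [Fact p.Prime] (Q : Sylow p G) {w : G} {j : ℕ}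
    (hw : w ^ (p ^ j) = 1) : ∃ g a : G, a ∈ (Q : Subgroup G) ∧ w = g * a * g⁻¹ := by
  have hpg : IsPGroup p ↥(zpowers w) := by
    intro y
    refine ⟨j, ?_⟩
    obtain ⟨y, hy⟩ := y
    obtain ⟨i, rfl⟩ := mem_zpowers_iff.mp hy
    apply Subtype.ext
    simp only [Subgroup.coe_pow, Subgroup.coe_one]
    rw [← zpow_natCast, ← zpow_mul, mul_comm, zpow_mul, zpow_natCast, hw, one_zpow]
  obtain ⟨Q', hQ'⟩ := hpg.exists_le_sylow
  obtain ⟨g, hg⟩ := MulAction.exists_smul_eq G Q Q'
  have hwQ' : w ∈ (Q' : Subgroup G) := hQ' (mem_zpowers w)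
  rw [← hg, mem_sylow_smul_iff] at hwQ'
  obtain ⟨a, ha, hwa⟩ := hwQ'
  exact ⟨g, a, ha, hwa⟩

theorem abelian_of_sylow_cent [Finite G] (N : Subgroup G) [hNn : N.Normal] (hNtop : N ≠ ⊤)
    {p : ℕ} [Fact p.Prime] (Q : Sylow p G) (hQN : ¬ N ≤ (Q : Subgroup G))
    (hQco : IsCoatom (Q : Subgroup G))
    (hout : ∀ w : G, w ∉ N → ∃ j : ℕ, w ^ (p ^ j) = 1)
    (hcent : ∀ y ∈ (Q : Subgroup G), y ∉ N → IsCoatom (centralizer ({y} : Set G))) :
    ∀ a ∈ (Q : Subgroup G), ∀ b ∈ (Q : Subgroup G), a * b = b * a := by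
  classical
  set M : Subgroup G := (Q : Subgroup G) with hM
  have htop : M ⊔ N = ⊤ := by
    apply hQco.2
    apply lt_of_le_of_ne le_sup_left
    intro he
    apply hQN
    rw [he]
    exact le_sup_right
  -- the counting
  let S : Set G := (M : Set G) \ ((N ⊓ M : Subgroup G) : Set G)
  let T : Set G := (Set.univ : Set G) \ (N : Set G)
  have hSmem : ∀ a : G, a ∈ S ↔ a ∈ M ∧ a ∉ N := by
    intro a
    constructor
    · rintro ⟨h1, h2⟩
      exact ⟨h1, fun h3 => h2 (Subgroup.mem_inf.mpr ⟨h3, h1⟩)⟩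
    · rintro ⟨h1, h2⟩
      exact ⟨h1, fun h3 => h2 (Subgroup.mem_inf.mp h3).1⟩
  let P : Set ((G ⧸ M) × G) := Set.univ ×ˢ S
  let f : (G ⧸ M) × G → G := fun qa => qa.1.out * qa.2 * (qa.1.out)⁻¹
  have hconjN : ∀ (g a : G), a ∉ N → g * a * g⁻¹ ∉ N := by
    intro g a ha hc
    apply ha
    have := hNn.conj_mem _ hc g⁻¹
    simpa [mul_assoc] using this
  have himg : f '' P = T := by
    ext w
    constructor
    · rintro ⟨⟨q, a⟩, ⟨_, haS⟩, rfl⟩
      exact ⟨Set.mem_univ _, hconjN _ _ ((hSmem a).mp haS).2⟩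
    · rintro ⟨_, hwN⟩
      obtain ⟨j, hj⟩ := hout w hwN
      obtain ⟨g, a, haM, rfl⟩ := exists_conj_mem_sylow Q hj
      have haN : a ∉ N := by
        intro hc
        exact hwN (hNn.conj_mem _ hc g)
      obtain ⟨m, hm⟩ := QuotientGroup.mk_out_eq_mul M g
      refine ⟨((g : G ⧸ M), (m : G)⁻¹ * a * (m : G)), ⟨Set.mem_univ _, ?_⟩, ?_⟩
      · rw [hSmem]
        refine ⟨M.mul_mem (M.mul_mem (M.inv_mem m.2) haM) m.2, ?_⟩
        have := hconjN (m : G)⁻¹ a haN
        simpa using this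
      · show (g : G ⧸ M).out * ((m : G)⁻¹ * a * (m : G)) * ((g : G ⧸ M).out)⁻¹ = g * a * g⁻¹
        rw [hm]
        simp only [mul_assoc, mul_inv_rev, mul_inv_cancel_left]
  have hcardS : S.ncard + ((N ⊓ M : Subgroup G) : Set G).ncard = (M : Set G).ncard :=
    Set.ncard_sdiff_add_ncard_of_subset (fun a ha => (Subgroup.mem_inf.mp ha).2)
  have hcardT : T.ncard + (N : Set G).ncard = Nat.card G := by
    rw [← Set.ncard_univ]
    exact Set.ncard_sdiff_add_ncard_of_subset (Set.subset_univ _)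
  have hc1 : ((N ⊓ M : Subgroup G) : Set G).ncard = Nat.card ↥(N ⊓ M) :=
    (_root_.Nat.card_coe_set_eq _).symm
  have hc2 : (M : Set G).ncard = Nat.card ↥M := (_root_.Nat.card_coe_set_eq _).symm
  have hc3 : (N : Set G).ncard = Nat.card ↥N := (_root_.Nat.card_coe_set_eq _).symm
  have hid := card_identity N M htop
  have hidx : M.index * Nat.card ↥M = Nat.card G := M.index_mul_card
  have hPcard : P.ncard = M.index * S.ncard := by
    rw [Set.ncard_prod, Set.ncard_univ]; rfl
  have hTS : T.ncard = M.index * S.ncard := by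
    have e1 : M.index * S.ncard + M.index * Nat.card ↥(N ⊓ M) = Nat.card G := by
      rw [← mul_add, ← hc1, hcardS, hc2, hidx]
    rw [hid] at e1
    rw [hc3] at hcardT
    omega
  have hinj : Set.InjOn f P := by
    apply Set.injOn_of_ncard_image_eq _ (Set.toFinite P)
    rw [himg, hTS, hPcard]
  -- centralizers of outside elements of M lie in M
  have hcentM : ∀ y ∈ M, y ∉ N → centralizer ({y} : Set G) = M := by
    intro y hyM hyN
    have hle : centralizer ({y} : Set G) ≤ M := by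
      intro c hc
      have hcy : c * y = y * c := mem_cent.mp hc
      obtain ⟨m, hm⟩ := QuotientGroup.mk_out_eq_mul M c
      obtain ⟨m0, hm0⟩ := QuotientGroup.mk_out_eq_mul M (1 : G)
      have hP1 : (((c : G ⧸ M), (m : G)⁻¹ * y * (m : G)) : (G ⧸ M) × G) ∈ P := by
        refine ⟨Set.mem_univ _, ?_⟩
        rw [hSmem]
        refine ⟨M.mul_mem (M.mul_mem (M.inv_mem m.2) hyM) m.2, ?_⟩
        have := hconjN (m : G)⁻¹ y hyN
        simpa using this
      have hP2 : ((((1 : G) : G ⧸ M), (m0 : G)⁻¹ * y * (m0 : G)) : (G ⧸ M) × G) ∈ P := by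
        refine ⟨Set.mem_univ _, ?_⟩
        rw [hSmem]
        refine ⟨M.mul_mem (M.mul_mem (M.inv_mem m0.2) hyM) m0.2, ?_⟩
        have := hconjN (m0 : G)⁻¹ y hyN
        simpa using this
      have hf1 : f ((c : G ⧸ M), (m : G)⁻¹ * y * (m : G)) = y := by
        show (c : G ⧸ M).out * ((m : G)⁻¹ * y * (m : G)) * ((c : G ⧸ M).out)⁻¹ = y
        rw [hm]
        simp only [mul_assoc, mul_inv_rev, mul_inv_cancel_left]
        rw [← mul_assoc, hcy, mul_assoc, mul_inv_cancel, mul_one]
      have hf2 : f (((1 : G) : G ⧸ M), (m0 : G)⁻¹ * y * (m0 : G)) = y := by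
        show ((1 : G) : G ⧸ M).out * ((m0 : G)⁻¹ * y * (m0 : G)) * (((1 : G) : G ⧸ M).out)⁻¹ = y
        rw [hm0]
        simp only [mul_assoc, mul_inv_rev, mul_inv_cancel_left, one_mul, inv_one, mul_one,
          mul_inv_cancel]
      have := hinj hP1 hP2 (hf1.trans hf2.symm)
      have hq : (c : G ⧸ M) = ((1 : G) : G ⧸ M) := (Prod.ext_iff.mp this).1
      have := QuotientGroup.eq.mp hq
      have h2 : c⁻¹ ∈ M := by simpa using this
      simpa using M.inv_mem h2
    exact (((hcent y hyM hyN).le_iff_eq hQco.1).mp hle).symm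
  -- an outside element of M
  obtain ⟨x, hxM, hxN⟩ : ∃ x ∈ M, x ∉ N := by
    by_contra hno
    push Not at hno
    apply hNtop
    rw [eq_top_iff, ← htop]
    exact sup_le hno le_rfl
  intro a ha b hb
  by_cases hbN : b ∈ N
  · by_cases haN : a ∈ N
    · -- a * x ∉ N is central in M
      have haxM : a * x ∈ M := M.mul_mem ha hxM
      have haxN : a * x ∉ N := by
        intro hc
        apply hxN
        have : x = a⁻¹ * (a * x) := by simp
        rw [this]
        exact N.mul_mem (N.inv_mem haN) hc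
      have h1 : b ∈ centralizer ({a * x} : Set G) := by rw [hcentM _ haxM haxN]; exact hb
      have h2 : b ∈ centralizer ({x} : Set G) := by rw [hcentM _ hxM hxN]; exact hb
      have e1 : b * (a * x) = a * x * b := mem_cent.mp h1
      have e2 : b * x = x * b := mem_cent.mp h2
      have : b * a * x = a * b * x := by
        calc b * a * x = b * (a * x) := by rw [mul_assoc]
          _ = a * x * b := e1
          _ = a * (x * b) := by rw [mul_assoc]
          _ = a * (b * x) := by rw [e2]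
          _ = a * b * x := by rw [mul_assoc]
      exact (mul_right_cancel this).symm
    · have h1 : b ∈ centralizer ({a} : Set G) := by rw [hcentM _ ha haN]; exact hb
      exact (mem_cent.mp h1).symm
  · have h1 : a ∈ centralizer ({b} : Set G) := by rw [hcentM _ hb hbN]; exact ha
    exact mem_cent.mp h1

end Cfsg.Agent.Lib.Helper6_PPO
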