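import Mathlib
import Cfsg.Agent.Lib.Helper6_CentMax
import Cfsg.Agent.Lib.Helper6_CentMax2
import Cfsg.Agent.Lib.Helper6_PPO
import Cfsg.Agent.Lib.Helper6_PPO2

set_option autoImplicit false

/-!
Part 3: a finite group with an abelian maximal Sylow subgroup is solvable (helper6).
-/

namespace Cfsg.Agent.Lib.Helper6_PPO

open Subgroup
open Cfsg.Agent.Lib.Helper6_CentMax

variable {G : Type*} [Group G]

/-- A normal `p`-complement `K` of a maximal Sylow `p`-subgroup `Q` is an `r`-group. -/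
theorem complement_rgroup [Finite G] {p : ℕ} [Fact p.Prime] (Q : Sylow p G)
    (hQco : IsCoatom (Q : Subgroup G)) (K : Subgroup G) [hKn : K.Normal]
    (hKQ : IsComplement' K (Q : Subgroup G)) (hK : K ≠ ⊥) :
    ∃ r : ℕ, r.Prime ∧ ∀ k ∈ K, ∃ j : ℕ, k ^ (r ^ j) = 1 := by
  classical
  have hcardK : Nat.card ↥K ≠ 1 := by
    intro h
    exact hK (Subgroup.card_eq_one.mp h)
  set r := (Nat.card ↥K).minFac with hr
  have hrp : r.Prime := Nat.minFac_prime hcardK
  haveI : Fact r.Prime := ⟨hrp⟩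
  have hrdvd : r ∣ Nat.card ↥K := Nat.minFac_dvd _
  obtain ⟨R'⟩ : Nonempty (Sylow r ↥K) := inferInstance
  set R : Subgroup G := (R' : Subgroup ↥K).map K.subtype with hR
  set T : Subgroup G := normalizer (R : Set G) with hT
  have hfr : T ⊔ K = ⊤ := Sylow.normalizer_sup_eq_top R'
  -- R is a nontrivial r-group inside K
  have hRK : R ≤ K := by
    rw [hR]
    exact (Subgroup.map_le_range _ _).trans (by rw [Subgroup.range_subtype])
  have hRr : ∀ n ∈ R, ∃ j : ℕ, n ^ (r ^ j) = 1 := by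
    intro n hn
    rw [hR] at hn
    obtain ⟨n', hn', rfl⟩ := Subgroup.mem_map.mp hn
    obtain ⟨j, hj⟩ := R'.isPGroup' ⟨n', hn'⟩
    refine ⟨j, ?_⟩
    have h1 := congrArg (fun z : ↥(R' : Subgroup ↥K) => ((z : ↥K) : G)) hj
    simpa using h1
  have hRne : ∃ n ∈ R, n ≠ 1 := by
    have hcardR' : r ∣ Nat.card ↥(R' : Subgroup ↥K) := by
      have h1 := R'.card_eq_multiplicity
      rw [h1]
      have hpos : 0 < (Nat.card ↥K).factorization r :=
        hrp.factorization_pos_of_dvd Nat.card_pos.ne' hrdvd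
      exact dvd_pow_self r hpos.ne'
    have hne : (R' : Subgroup ↥K) ≠ ⊥ := by
      intro he
      rw [he, Subgroup.card_bot] at hcardR'
      exact hrp.one_lt.ne' (Nat.dvd_one.mp hcardR')
    obtain ⟨n', hn1⟩ := (Subgroup.ne_bot_iff_exists_ne_one.mp hne)
    refine ⟨((n' : ↥K) : G), ?_, ?_⟩
    · rw [hR]
      exact Subgroup.mem_map.mpr ⟨n', n'.2, rfl⟩
    · intro he
      apply hn1
      apply Subtype.ext
      apply Subtype.ext
      simpa using he
  -- |Q| divides |T|
  have hQcard : Nat.card ↥(Q : Subgroup G) = K.index := by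
    have h1 := hKQ.card_mul_card
    have h2 := K.index_mul_card
    have hpos : 0 < Nat.card ↥K := Nat.card_pos
    have : Nat.card ↥K * Nat.card ↥(Q : Subgroup G) = Nat.card ↥K * K.index := by
      rw [h1, ← h2]; ring
    exact Nat.eq_of_mul_eq_mul_left hpos this
  have hrel : K.relIndex T = K.index := by
    have h1 : K.relIndex (T ⊔ K) = K.relIndex T := Subgroup.relIndex_sup_right T K
    rw [hfr, Subgroup.relIndex_top_right] at h1
    exact h1.symm
  have hdvdT : Nat.card ↥(Q : Subgroup G) ∣ Nat.card ↥T := by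
    rw [hQcard, ← hrel]
    exact Subgroup.relIndex_dvd_card K T
  have hQmult := Q.card_eq_multiplicity
  rw [hQmult] at hdvdT
  obtain ⟨Q1, hQ1⟩ := Sylow.exists_subgroup_card_pow_prime p hdvdT
  set Q2 : Subgroup G := Q1.map T.subtype with hQ2
  have hQ2card : Nat.card ↥Q2 = p ^ (Nat.card G).factorization p := by
    rw [hQ2, Subgroup.card_map_of_injective T.subtype_injective, hQ1]
  have hQ2T : Q2 ≤ T := by
    rw [hQ2]
    exact (Subgroup.map_le_range _ _).trans (by rw [Subgroup.range_subtype])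
  have hQ2p : IsPGroup p ↥Q2 := IsPGroup.of_card hQ2card
  obtain ⟨Q', hQ'⟩ := hQ2p.exists_le_sylow
  have hQ'eq : Q2 = (Q' : Subgroup G) := by
    apply Subgroup.eq_of_le_of_card_ge hQ'
    rw [hQ2card, Q'.card_eq_multiplicity]
  obtain ⟨g, hg⟩ := MulAction.exists_smul_eq G Q Q'
  -- the conjugate of R
  set R0 : Subgroup G := R.comap (MulAut.conj g).toMonoidHom with hR0
  have hmemR0 : ∀ c : G, c ∈ R0 ↔ g * c * g⁻¹ ∈ R := by
    intro c
    rw [hR0, Subgroup.mem_comap]
    rfl
  have hR0K : R0 ≤ K := by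
    intro c hc
    have h1 : g * c * g⁻¹ ∈ K := hRK ((hmemR0 c).mp hc)
    have h2 := hKn.conj_mem _ h1 g⁻¹
    simpa [mul_assoc] using h2
  have hQnorm : (Q : Subgroup G) ≤ normalizer (R0 : Set G) := by
    intro a ha
    have h1 : g * a * g⁻¹ ∈ T := by
      apply hQ2T
      rw [hQ'eq, ← hg, mem_sylow_smul_iff]
      exact ⟨a, ha, rfl⟩
    rw [hT, Subgroup.mem_normalizer_iff] at h1
    rw [Subgroup.mem_normalizer_iff]
    intro c
    rw [hmemR0, hmemR0, h1 (g * c * g⁻¹)]
    have : g * a * g⁻¹ * (g * c * g⁻¹) * (g * a * g⁻¹)⁻¹ = g * (a * c * a⁻¹) * g⁻¹ := by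
      simp [mul_assoc]
    rw [this]
  have hR0ne : ¬ R0 ≤ (Q : Subgroup G) := by
    intro hle
    obtain ⟨n, hn, hn1⟩ := hRne
    have hc : g⁻¹ * n * g ∈ R0 := by
      rw [hmemR0]
      have : g * (g⁻¹ * n * g) * g⁻¹ = n := by simp [mul_assoc]
      rw [this]; exact hn
    have h1 : g⁻¹ * n * g ∈ K ⊓ (Q : Subgroup G) := Subgroup.mem_inf.mpr ⟨hR0K hc, hle hc⟩
    rw [hKQ.disjoint.eq_bot, Subgroup.mem_bot] at h1
    apply hn1
    have : n = g * (g⁻¹ * n * g) * g⁻¹ := by simp [mul_assoc]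
    rw [this, h1]; simp
  have htop : (Q : Subgroup G) ⊔ R0 = ⊤ := by
    apply hQco.2
    apply lt_of_le_of_ne le_sup_left
    intro he
    apply hR0ne
    rw [he]
    exact le_sup_right
  have hR0n : R0.Normal := by
    rw [← Subgroup.normalizer_eq_top_iff, eq_top_iff, ← htop]
    exact sup_le hQnorm Subgroup.le_normalizer
  refine ⟨r, hrp, ?_⟩
  intro k hk
  have hkR0 : k ∈ R0 := by
    have hk' : k ∈ (Q : Subgroup G) ⊔ R0 := by rw [htop]; exact Subgroup.mem_top k
    haveI := hR0n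
    obtain ⟨q, hq, c, hc, rfl⟩ := Subgroup.mem_sup_of_normal_right.mp hk'
    have hqK : q ∈ K := by
      have : q = q * c * c⁻¹ := by simp
      rw [this]
      exact K.mul_mem hk (K.inv_mem (hR0K hc))
    have h1 : q ∈ K ⊓ (Q : Subgroup G) := Subgroup.mem_inf.mpr ⟨hqK, hq⟩
    rw [hKQ.disjoint.eq_bot, Subgroup.mem_bot] at h1
    rw [h1, one_mul]; exact hc
  obtain ⟨j, hj⟩ := hRr _ ((hmemR0 k).mp hkR0)
  refine ⟨j, ?_⟩
  have h2 : (g * k * g⁻¹) ^ (r ^ j) = g * k ^ (r ^ j) * g⁻¹ := conj_pow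
  rw [h2] at hj
  have : k ^ (r ^ j) = g⁻¹ * (g * k ^ (r ^ j) * g⁻¹) * g := by simp [mul_assoc]
  rw [this, hj]; simp

theorem solvable_of_abelian_sylow_coatom [Finite G] {p : ℕ} [Fact p.Prime] (Q : Sylow p G)
    (hQco : IsCoatom (Q : Subgroup G))
    (hab : ∀ a ∈ (Q : Subgroup G), ∀ b ∈ (Q : Subgroup G), a * b = b * a) :
    Group.IsSolvable G := by
  classical
  by_cases hQn : (Q : Subgroup G).Normal
  · have hle : commutator G ≤ (Q : Subgroup G) := commutator_le_of_normal_coatom _ hQco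
    exact solvable_of_commutator_comm (fun a ha b hb => hab a (hle ha) b (hle hb))
  · have hnorm : normalizer ((Q : Subgroup G) : Set G) = (Q : Subgroup G) :=
      normalizer_eq_of_coatom_not_normal _ hQco hQn
    have hP : normalizer ((Q : Subgroup G) : Set G) ≤ centralizer ((Q : Subgroup G) : Set G) := by
      rw [hnorm]
      intro a ha
      rw [Subgroup.mem_centralizer_iff]
      intro b hb
      exact hab b hb a ha
    set φ := MonoidHom.transferSylow Q hP with hφ
    have hcomp : IsComplement' φ.ker (Q : Subgroup G) :=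
      MonoidHom.ker_transferSylow_isComplement' Q hP
    haveI hQsolv : Group.IsSolvable ↥(Q : Subgroup G) :=
      Group.isSolvable_of_comm (fun a b => Subtype.ext (hab a a.2 b b.2))
    have hKsolv : Group.IsSolvable ↥φ.ker := by
      by_cases hK : φ.ker = ⊥
      · rw [hK]
        exact Group.isSolvable_of_comm (fun a b => Subsingleton.elim _ _)
      · obtain ⟨r, hrp, hr⟩ := complement_rgroup Q hQco φ.ker hcomp hK
        haveI : Fact r.Prime := ⟨hrp⟩
        have hpg : IsPGroup r ↥φ.ker := by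
          intro k
          obtain ⟨j, hj⟩ := hr k k.2
          exact ⟨j, Subtype.ext (by simpa using hj)⟩
        haveI : Group.IsNilpotent ↥φ.ker := hpg.isNilpotent
        infer_instance
    have := hKsolv
    exact Group.isSolvable_of_ker_le_range φ.ker.subtype φ (by rw [Subgroup.range_subtype])

end Cfsg.Agent.Lib.Helper6_PPO
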