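import Mathlib
import Cfsg.Agent.S0100

set_option autoImplicit false
open scoped commutatorElement

namespace Cfsg.Agent.Lib.Helper6_PRank

open Cfsg.Agent.S0100

variable {P : Type*} [Group P]

/-- If a maximal normal elementary abelian subgroup `A` of the `p`-group `P` (`p` odd) has order at
most `p²`, then every elementary abelian subgroup has order at most `p²`. -/
theorem rank_bound [Finite P] {p : ℕ} [Fact p.Prime] (hp : p ≠ 2) (hP : IsPGroup p P)
    (A : Subgroup P) (hNEA : NEA p A) (hmax : ∀ A' : Subgroup P, NEA p A' → A ≤ A' → A' = A)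
    (hcard : Nat.card A ≤ p ^ 2) (E : Subgroup P) (hEc : ∀ a ∈ E, ∀ b ∈ E, a * b = b * a)
    (hEe : ∀ e ∈ E, e ^ p = 1) : Nat.card E ≤ p ^ 2 := by
  classical
  have hpp : p.Prime := Fact.out
  have hAl := alperin hp hP A hNEA hmax
  by_cases hEC : E ≤ Subgroup.centralizer (A : Set P)
  · have : E ≤ A := fun e he => hAl e (hEC he) (hEe e he)
    exact le_trans (Subgroup.card_le_of_le this) hcard
  · obtain ⟨e₀, he₀, he₀C⟩ := SetLike.not_le_iff_exists.mp hEC
    rw [Subgroup.mem_centralizer_iff] at he₀C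
    push Not at he₀C
    obtain ⟨a₀, ha₀, hne₀⟩ := he₀C
    haveI := hNEA.1
    have hAbot : (⊥ : Subgroup P) ≠ A := by
      intro hb
      rw [← hb] at ha₀
      rw [SetLike.mem_coe, Subgroup.mem_bot] at ha₀
      apply hne₀
      rw [ha₀, one_mul, mul_one]
    obtain ⟨Z₁, hZn, -, hZA, hZcard, hZcent⟩ :=
      Cfsg.Agent.Lib.Helper4_MaxNormAb1.step hP ⊥ A bot_le hAbot
    have hZ1 : Nat.card Z₁ = p := by rw [hZcard, Subgroup.card_bot, mul_one]
    have hZc : ∀ z ∈ Z₁, ∀ g : P, g * z = z * g := by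
      intro z hz g
      have := hZcent g z hz
      rw [Subgroup.mem_bot, commutatorElement_def] at this
      calc g * z = (g * z * g⁻¹ * z⁻¹) * (z * g) := by group
        _ = z * g := by rw [this, one_mul]
    have ha₀Z : a₀ ∉ Z₁ := fun hz => hne₀ (hZc a₀ hz e₀).symm
    have hZneA : Z₁ ≠ A := fun hz => ha₀Z (hz ▸ ha₀)
    haveI := hZn
    obtain ⟨N', hN'n, hZN', hN'A, hN'card, hN'comm⟩ :=
      Cfsg.Agent.Lib.Helper4_MaxNormAb1.step hP Z₁ A hZA hZneA
    have hN'eq : N' = A :=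
      Subgroup.eq_of_le_of_card_ge hN'A (by
        rw [hN'card, hZ1]
        calc Nat.card A ≤ p ^ 2 := hcard
          _ = p * p := sq p)
    have hAcard : Nat.card A = p * p := by rw [← hN'eq, hN'card, hZ1]
    have hcommA : ∀ g : P, ∀ x ∈ A, ⁅g, x⁆ ∈ Z₁ := by
      intro g x hx
      exact hN'comm g x (hN'eq ▸ hx)
    have hAsup : A = Z₁ ⊔ Subgroup.zpowers a₀ :=
      Cfsg.Agent.Lib.Helper4_MaxNormAb0.eq_sup_zpowers Z₁ A hZA (by rw [hAcard, hZ1]) a₀ ha₀ ha₀Z
    have hCcrit : ∀ g : P, g * a₀ = a₀ * g → g ∈ Subgroup.centralizer (A : Set P) := by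
      intro g hg
      rw [Subgroup.mem_centralizer_iff]
      have : A ≤ Subgroup.centralizer ({g} : Set P) := by
        rw [hAsup]
        apply sup_le
        · intro z hz
          rw [Subgroup.mem_centralizer_iff]
          intro h' hh
          rw [Set.mem_singleton_iff] at hh
          subst hh
          exact hZc z hz h'
        · rw [Subgroup.zpowers_le, Subgroup.mem_centralizer_iff]
          intro h' hh
          rw [Set.mem_singleton_iff] at hh
          subst hh
          exact hg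
      intro a ha
      have := this ha
      rw [Subgroup.mem_centralizer_iff] at this
      exact (this g rfl).symm
    let φ : ↥E →* ↥Z₁ := MonoidHom.mk' (fun e => ⟨⁅(e : P), a₀⁆, hcommA e a₀ ha₀⟩) (by
      intro e e'
      apply Subtype.ext
      have hc' := hZc _ (hcommA e' a₀ ha₀) e
      have hc'' := hZc _ (hcommA e' a₀ ha₀) ⁅(e : P), a₀⁆
      show ⁅((e * e' : ↥E) : P), a₀⁆ = ⁅(e : P), a₀⁆ * ⁅(e' : P), a₀⁆
      rw [hc'']
      rw [Subgroup.coe_mul]
      calc ⁅(e : P) * (e' : P), a₀⁆ = ((e : P) * ⁅(e' : P), a₀⁆) * a₀ * (e : P)⁻¹ * a₀⁻¹ := by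
            simp only [commutatorElement_def]; group
        _ = (⁅(e' : P), a₀⁆ * (e : P)) * a₀ * (e : P)⁻¹ * a₀⁻¹ := by rw [hc']
        _ = ⁅(e' : P), a₀⁆ * ⁅(e : P), a₀⁆ := by
            simp only [commutatorElement_def]; group)
    have hker : ∀ e : ↥E, e ∈ φ.ker → (e : P) ∈ A := by
      intro e he
      rw [MonoidHom.mem_ker] at he
      have h1 : ⁅(e : P), a₀⁆ = 1 := congrArg Subtype.val he
      have h2 : (e : P) * a₀ = a₀ * e := by
        rw [commutatorElement_def] at h1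
        calc (e : P) * a₀ = ((e : P) * a₀ * (e : P)⁻¹ * a₀⁻¹) * (a₀ * e) := by group
          _ = a₀ * e := by rw [h1, one_mul]
      exact hAl _ (hCcrit _ h2) (hEe _ e.2)
    have hcardker : Nat.card φ.ker ≤ p := by
      have hinj : Nat.card φ.ker ≤ Nat.card ↥(A ⊓ E) := by
        apply Nat.card_le_card_of_injective
          (fun e : φ.ker => (⟨(e.1 : P), Subgroup.mem_inf.2 ⟨hker e.1 e.2, e.1.2⟩⟩ : ↥(A ⊓ E)))
        intro e e' h'
        apply Subtype.ext
        apply Subtype.ext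
        have h'' := congrArg Subtype.val h'
        exact h''
      have hlt : A ⊓ E ≠ A := by
        intro h'
        have : A ≤ E := inf_eq_left.mp h'
        exact hne₀ (hEc a₀ (this ha₀) e₀ he₀)
      have hdvd : Nat.card ↥(A ⊓ E) ∣ p ^ 2 := by
        rw [sq, ← hAcard]
        exact Subgroup.card_dvd_of_le inf_le_left
      have hne' : Nat.card ↥(A ⊓ E) ≠ p ^ 2 := by
        intro h'
        apply hlt
        exact Subgroup.eq_of_le_of_card_ge inf_le_left (by rw [h', hAcard, sq])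
      obtain ⟨k, hk2, hk⟩ := (Nat.dvd_prime_pow hpp).mp hdvd
      have hk1 : k ≤ 1 := by
        by_contra hk'
        have : k = 2 := by omega
        exact hne' (by rw [hk, this])
      calc Nat.card φ.ker ≤ Nat.card ↥(A ⊓ E) := hinj
        _ = p ^ k := hk
        _ ≤ p ^ 1 := Nat.pow_le_pow_right hpp.pos hk1
        _ = p := pow_one p
    have hrange : Nat.card φ.range ≤ p := by
      calc Nat.card φ.range ≤ Nat.card ↥Z₁ := Subgroup.card_le_card_group _
        _ = p := hZ1
    have hmul := Subgroup.card_mul_index φ.ker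
    rw [Subgroup.index_ker] at hmul
    calc Nat.card E = Nat.card φ.ker * Nat.card φ.range := hmul.symm
      _ ≤ p * p := Nat.mul_le_mul hcardker hrange
      _ = p ^ 2 := (sq p).symm

/-- Every normal elementary abelian subgroup lies in a maximal one. -/
theorem exists_max_NEA_ge [Finite P] (p : ℕ) (N₀ : Subgroup P) (h₀ : NEA p N₀) :
    ∃ N : Subgroup P, NEA p N ∧ N₀ ≤ N ∧ ∀ A' : Subgroup P, NEA p A' → N ≤ A' → A' = N := by
  haveI : Nonempty {A : Subgroup P // NEA p A ∧ N₀ ≤ A} := ⟨⟨N₀, h₀, le_refl _⟩⟩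
  obtain ⟨⟨N, hN, hle⟩, hmax⟩ :=
    Finite.exists_max (fun A : {A : Subgroup P // NEA p A ∧ N₀ ≤ A} => Nat.card A.1)
  refine ⟨N, hN, hle, ?_⟩
  intro A' hA' hNA'
  have h1 := hmax ⟨A', hA', le_trans hle hNA'⟩
  exact (Subgroup.eq_of_le_of_card_ge hNA' h1).symm

/-- `p` odd: if the `p`-group `P` has an elementary abelian subgroup of order greater than `p²`,
then every normal elementary abelian subgroup lies in a normal elementary abelian subgroup of order
greater than `p²`. -/
theorem exists_NEA_big [Finite P] {p : ℕ} [Fact p.Prime] (hp : p ≠ 2) (hP : IsPGroup p P)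
    (E₃ : Subgroup P) (hEc : ∀ a ∈ E₃, ∀ b ∈ E₃, a * b = b * a) (hEe : ∀ e ∈ E₃, e ^ p = 1)
    (hE3 : p ^ 2 < Nat.card E₃) (N₀ : Subgroup P) (h₀ : NEA p N₀) :
    ∃ N : Subgroup P, NEA p N ∧ N₀ ≤ N ∧ p ^ 2 < Nat.card N := by
  obtain ⟨N, hN, hle, hmax⟩ := exists_max_NEA_ge p N₀ h₀
  refine ⟨N, hN, hle, ?_⟩
  by_contra hcon
  push Not at hcon
  have := rank_bound hp hP N hN hmax hcon E₃ hEc hEe
  omega

end Cfsg.Agent.Lib.Helper6_PRank
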