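import Mathlib
import Cfsg.Agent.Lib.Lead_Hall

/-! π-elements forming a subgroup: the core extension lemma. -/

set_option autoImplicit false

namespace Cfsg.Agent.Lib.Helper6_PiElements

open Cfsg.Agent.Lib.Lead_SZ Cfsg.Agent.Lib.Lead_Coprime Cfsg.Agent.Lib.Lead_Hall
open scoped Pointwise

/-- all prime divisors of `n` lie in `π` -/
def PiNum (π : Set ℕ) (n : ℕ) : Prop := ∀ p : ℕ, p.Prime → p ∣ n → p ∈ π

/-- no prime divisor of `n` lies in `π` -/
def PiPrimeNum (π : Set ℕ) (n : ℕ) : Prop := ∀ p : ℕ, p.Prime → p ∣ n → p ∉ π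

theorem coprime_of_pi {π : Set ℕ} {a b : ℕ} (ha : PiNum π a) (hb : PiPrimeNum π b) :
    a.Coprime b := by
  rw [Nat.coprime_iff_gcd_eq_one]
  by_contra h
  have hp := Nat.minFac_prime h
  have hd := Nat.minFac_dvd (Nat.gcd a b)
  exact hb _ hp (hd.trans (Nat.gcd_dvd_right a b)) (ha _ hp (hd.trans (Nat.gcd_dvd_left a b)))

theorem PiNum.mul {π : Set ℕ} {a b : ℕ} (ha : PiNum π a) (hb : PiNum π b) : PiNum π (a * b) := by
  intro p hp hd
  rcases (Nat.Prime.dvd_mul hp).mp hd with h | h
  · exact ha p hp h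
  · exact hb p hp h

theorem PiNum.of_dvd {π : Set ℕ} {a b : ℕ} (hb : PiNum π b) (h : a ∣ b) : PiNum π a :=
  fun p hp hd => hb p hp (hd.trans h)

theorem PiPrimeNum.of_dvd {π : Set ℕ} {a b : ℕ} (hb : PiPrimeNum π b) (h : a ∣ b) :
    PiPrimeNum π a :=
  fun p hp hd => hb p hp (hd.trans h)

theorem mem_of_pow_mem_of_coprime {M : Type*} [Group M] (Z : Subgroup M) (w : M) (r : ℕ)
    (hw : IsOfFinOrder w) (hcop : (orderOf w).Coprime r) (h : w ^ r ∈ Z) : w ∈ Z := by
  by_cases h1 : orderOf w = 1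
  · rw [orderOf_eq_one_iff.mp h1]; exact Z.one_mem
  · have hpos : 0 < orderOf w := hw.orderOf_pos
    obtain ⟨m, -, hm⟩ := Nat.exists_mul_mod_eq_one_of_coprime hcop.symm (by omega : 1 < orderOf w)
    have : w = (w ^ r) ^ m := by
      rw [← pow_mul, ← pow_mod_orderOf, hm, pow_one]
    rw [this]; exact Z.pow_mem h m

variable {G : Type*} [Group G]

/-- the homogeneity condition in elementwise form -/
def CondC (π : Set ℕ) (G : Type*) [Group G] : Prop :=
  ∀ Q : Subgroup G, Q ≠ ⊥ → PiPrimeNum π (Nat.card Q) →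
    ∀ x ∈ Subgroup.normalizer (Q : Set G), PiNum π (orderOf x) →
      x ∈ Subgroup.centralizer (Q : Set G)

theorem condC_of_hhom [Finite G] (π : Set ℕ)
    (hhom : ∀ H : Subgroup G, H ≠ ⊥ → (∀ p : ℕ, p.Prime → p ∣ Nat.card ↥H → p ∉ π) →
      ∀ p : ℕ, p.Prime → p ∣ (Subgroup.centralizer (H : Set G)).relIndex
        (Subgroup.normalizer (H : Set G)) → p ∉ π) : CondC π G := by
  intro Q hQ hQπ x hx hxπ
  have h1 := hhom Q hQ hQπ
  set φ := Q.normalizerMonoidHom with hφ
  have hker : φ.ker = (Subgroup.centralizer (Q : Set G)).subgroupOf (Subgroup.normalizer (Q : Set G)) :=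
    Subgroup.normalizerMonoidHom_ker Q
  have hidx : Nat.card φ.range = (Subgroup.centralizer (Q : Set G)).relIndex
      (Subgroup.normalizer (Q : Set G)) := by
    rw [← Subgroup.index_ker, hker]; rfl
  set x' : Subgroup.normalizer (Q : Set G) := ⟨x, hx⟩ with hx'
  have ho1 : orderOf (φ x') ∣ orderOf x := by
    have := orderOf_map_dvd φ x'
    rwa [hx', Subgroup.orderOf_mk] at this
  have ho2 : orderOf (φ x') ∣ Nat.card φ.range := by
    have := orderOf_dvd_natCard (⟨φ x', x', rfl⟩ : φ.range)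
    rwa [← Subgroup.orderOf_coe] at this
  have hcop : (orderOf x).Coprime (Nat.card φ.range) := by
    rw [hidx]; exact coprime_of_pi hxπ h1
  have h2 : orderOf (φ x') = 1 := Nat.eq_one_of_dvd_coprimes hcop ho1 ho2
  have h3 : x' ∈ φ.ker := by
    rw [MonoidHom.mem_ker]; exact orderOf_eq_one_iff.mp h2
  rw [hker, Subgroup.mem_subgroupOf] at h3
  exact h3

/-- every `π`-element acts trivially on the `π'`-section `K/T` -/
theorem central_mod [Finite G] {π : Set ℕ} (hC : CondC π G) (T K : Subgroup G) [T.Normal]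
    [K.Normal] (hTK : T ≤ K) (hT : PiNum π (Nat.card T)) (hKT : PiPrimeNum π (T.relIndex K))
    (x : G) (hx : PiNum π (orderOf x)) : ∀ k ∈ K, k * x * k⁻¹ * x⁻¹ ∈ T := by
  classical
  set f := QuotientGroup.mk' T with hf
  have hfs : Function.Surjective f := QuotientGroup.mk'_surjective T
  set Kb := K.map f with hKb
  set xb := f x with hxb
  set A := Subgroup.zpowers xb with hA
  haveI hKbn : Kb.Normal := Subgroup.Normal.map inferInstance f hfs
  have hKcard : Nat.card Kb * Nat.card T = Nat.card K := card_map_of_le T K hTK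
  have hKbcard : Nat.card Kb = T.relIndex K := by
    have h1 := Subgroup.card_mul_index (T.subgroupOf K)
    rw [card_subgroupOf_of_le hTK, ← hKcard, mul_comm] at h1
    exact (Nat.eq_of_mul_eq_mul_right Nat.card_pos h1).symm
  have hAcard : Nat.card A = orderOf xb := Nat.card_zpowers xb
  have hxbπ : PiNum π (orderOf xb) := hx.of_dvd (orderOf_map_dvd f x)
  have hcop : (Nat.card A).Coprime (Nat.card Kb) := by
    rw [hAcard, hKbcard]; exact coprime_of_pi hxbπ hKT
  have hAK : A ≤ Subgroup.normalizer (Kb : Set (G ⧸ T)) := by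
    intro a _
    rw [Subgroup.normalizer_eq_top]; trivial
  have hsolvA : Group.IsSolvable A :=
    Group.isSolvable_of_comm (fun a b => (inferInstance : IsMulCommutative A).is_comm.comm a b)
  have hkey : ∀ (q : ℕ) [Fact q.Prime], ∃ P : Sylow q Kb,
      ∀ u ∈ (P : Subgroup Kb).map Kb.subtype, xb * u = u * xb := by
    intro q hqF
    have hq : q.Prime := hqF.out
    obtain ⟨P, hP⟩ := exists_invariant_sylow A Kb hAK hcop (Or.inl hsolvA) q
    refine ⟨P, ?_⟩
    set Qb := (P : Subgroup Kb).map Kb.subtype with hQb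
    by_cases hbot : Qb = ⊥
    · intro u hu
      rw [hbot, Subgroup.mem_bot] at hu
      rw [hu, mul_one, one_mul]
    have hQbKb : Qb ≤ Kb := Subgroup.map_subtype_le _
    have hQbcard : Nat.card Qb = Nat.card P :=
      Subgroup.card_map_of_injective Kb.subtype_injective
    obtain ⟨a, ha⟩ := IsPGroup.iff_card.mp P.2
    have hQba : Nat.card Qb = q ^ a := by rw [hQbcard]; exact ha
    have ha0 : a ≠ 0 := by
      intro h0
      rw [h0, pow_zero] at hQba
      exact hbot (Subgroup.card_eq_one.mp hQba)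
    have hqπ : q ∉ π := by
      apply hKT q hq
      rw [← hKbcard]
      exact (dvd_trans (dvd_pow_self q ha0) (hQba ▸ dvd_rfl)).trans (Subgroup.card_dvd_of_le hQbKb)
    have hqT : ¬ q ∣ Nat.card T := fun h => hqπ (hT q hq h)
    set Q₁ := Qb.comap f with hQ₁
    have hQ1card : Nat.card Q₁ = Nat.card Qb * Nat.card T := card_comap_mk T Qb
    have hTQ1 : T ≤ Q₁ := le_comap_mk T Qb
    obtain ⟨S⟩ : Nonempty (Sylow q Q₁) := inferInstance
    set Q := (S : Subgroup Q₁).map Q₁.subtype with hQ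
    have hQQ1 : Q ≤ Q₁ := Subgroup.map_subtype_le _
    have hQcard : Nat.card Q = q ^ (Nat.card Q₁).factorization q := by
      rw [hQ, Subgroup.card_map_of_injective Q₁.subtype_injective]
      exact S.card_eq_multiplicity
    have hQp : IsPGroup q Q := S.2.map _
    have hQT : Q ⊓ T = ⊥ := by
      apply (Subgroup.disjoint_of_coprime_natCard ?_).eq_bot  -- placeholder
      rw [hQcard]
      exact Nat.Coprime.pow_left _ ((Nat.Prime.coprime_iff_not_dvd hq).mpr hqT)
    have hfQ : Q.map f = Qb := by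
      have hle : Q.map f ≤ Qb := by
        rintro _ ⟨y, hy, rfl⟩
        exact hQQ1 hy
      refine eq_of_le_of_card_eq hle ?_
      have h1 : Nat.card (Q.map f) = Nat.card Q := card_map_of_inf_bot T Q hQT
      apply le_antisymm (Nat.le_of_dvd Nat.card_pos (Subgroup.card_dvd_of_le hle))
      rw [h1, hQcard, hQba]
      apply Nat.pow_le_pow_right hq.pos
      have hne : Nat.card Q₁ ≠ 0 := Nat.card_pos.ne'
      apply (Nat.Prime.pow_dvd_iff_le_factorization hq hne).mp
      rw [hQ1card, hQba]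
      exact dvd_mul_right _ _
    -- x normalizes Q₁
    have hxQ1 : MulAut.conj x • Q₁ = Q₁ := by
      rw [← conj_smul_le_normalizer, Subgroup.mem_normalizer_iff]
      intro y
      have hn := (Subgroup.mem_normalizer_iff.mp (hP (Subgroup.mem_zpowers xb))) (f y)
      show f y ∈ Qb ↔ f (x * y * x⁻¹) ∈ Qb
      rw [map_mul, map_mul, map_inv]
      exact hn
    have hle : MulAut.conj x • Q ≤ Q₁ := by
      rw [← hxQ1]; exact conj_smul_mono x hQQ1
    have hcard : Nat.card ((MulAut.conj x • Q).subgroupOf Q₁) = q ^ (Nat.card Q₁).factorization q := by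
      rw [card_subgroupOf_of_le hle, card_conj_smul, hQcard]
    obtain ⟨y, hy⟩ := MulAction.exists_smul_eq Q₁ (Sylow.ofCard _ hcard) S
    have hy' : MulAut.conj y • ((MulAut.conj x • Q).subgroupOf Q₁) = (S : Subgroup Q₁) :=
      congrArg (fun S : Sylow q Q₁ => (S : Subgroup Q₁)) hy
    have hyx : MulAut.conj (y : G) • (MulAut.conj x • Q) = Q := by
      have h2 := congrArg (Subgroup.map Q₁.subtype) hy'
      rw [map_conj_smul, Subgroup.map_subgroupOf_eq_of_le hle] at h2
      exact h2
    -- adjust by an element of Q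
    have hfy : f (y : G) ∈ Q.map f := by rw [hfQ]; exact y.2
    obtain ⟨u, hu, hfu⟩ := hfy
    set n' := u⁻¹ * (y : G) * x with hn'
    have hn'N : n' ∈ Subgroup.normalizer (Q : Set G) := by
      rw [conj_smul_le_normalizer, hn', mul_assoc, ← conj_smul_smul, ← conj_smul_smul, hyx]
      exact conj_smul_eq_self_of_mem (Q.inv_mem hu)
    have hfn' : f n' = xb := by
      rw [hn', map_mul, map_mul, map_inv, hfu, inv_mul_cancel, one_mul]
    have hn'π : PiNum π (orderOf n') := by
      have h1 : n' ^ orderOf x ∈ T := by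
        rw [← QuotientGroup.eq_one_iff, ← QuotientGroup.mk'_apply, map_pow]
        show f n' ^ orderOf x = 1
        rw [hfn', hxb, ← map_pow, pow_orderOf_eq_one, map_one]
      have h2 : (n' ^ orderOf x) ^ Nat.card T = 1 := by
        have := pow_card_eq_one' (G := T) (x := ⟨n' ^ orderOf x, h1⟩)
        exact congrArg Subtype.val this
      rw [← pow_mul] at h2
      exact (hx.mul hT).of_dvd (orderOf_dvd_of_pow_eq_one h2)
    have hQne : Q ≠ ⊥ := by
      intro h
      rw [h, Subgroup.map_bot] at hfQ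
      exact hbot hfQ.symm
    have hQπ : PiPrimeNum π (Nat.card Q) := by
      intro p hp hpd
      rw [hQcard] at hpd
      have := (Nat.prime_dvd_prime_iff_eq hp hq).mp (hp.dvd_of_dvd_pow hpd)
      rw [this]; exact hqπ
    have hcent := hC Q hQne hQπ n' hn'N hn'π
    rw [Subgroup.mem_centralizer_iff] at hcent
    intro ub hub
    rw [← hfQ] at hub
    obtain ⟨v, hv, rfl⟩ := hub
    rw [← hfn', ← map_mul, ← map_mul, hcent v hv]
  -- the centralizer of xb in Kb is all of Kb
  set Cb := Kb ⊓ Subgroup.centralizer {xb} with hCb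
  have hdvd : Nat.card Kb ∣ Nat.card Cb := by
    rw [Nat.dvd_iff_prime_pow_dvd_dvd]
    intro q k hq hqk
    haveI := Fact.mk hq
    obtain ⟨P, hPc⟩ := hkey q
    have h1 : q ^ k ∣ Nat.card P := P.pow_dvd_card_of_pow_dvd_card hqk
    have h2 : Nat.card ((P : Subgroup Kb).map Kb.subtype) = Nat.card P :=
      Subgroup.card_map_of_injective Kb.subtype_injective
    rw [← h2] at h1
    refine h1.trans (Subgroup.card_dvd_of_le ?_)
    intro u hu
    refine Subgroup.mem_inf.mpr ⟨Subgroup.map_subtype_le _ hu, ?_⟩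
    rw [Subgroup.mem_centralizer_iff]
    intro z hz
    rw [Set.mem_singleton_iff] at hz
    rw [hz]; exact hPc u hu
  have hCbK : Cb = Kb := by
    refine eq_of_le_of_card_eq inf_le_left ?_
    exact le_antisymm (Nat.le_of_dvd Nat.card_pos (Subgroup.card_dvd_of_le inf_le_left))
      (Nat.le_of_dvd Nat.card_pos hdvd)
  intro k hk
  have hfk : f k ∈ Cb := by rw [hCbK]; exact ⟨k, hk, rfl⟩
  have hc := (Subgroup.mem_inf.mp hfk).2
  rw [Subgroup.mem_centralizer_iff] at hc
  have hc' : xb * f k = f k * xb := hc xb rfl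
  rw [← QuotientGroup.eq_one_iff, ← QuotientGroup.mk'_apply]
  show f (k * x * k⁻¹ * x⁻¹) = 1
  rw [map_mul, map_mul, map_mul, map_inv, map_inv, ← hxb, ← hc']
  group

/-- the core extension step: `T ≤ K ≤ L` with `T` a `π`-group, `K/T` a `π'`-group and `L/K` a
`π`-group; then the `π`-elements of `L` form a subgroup. -/
theorem exists_pi_subgroup [Finite G] {π : Set ℕ} (hC : CondC π G) (T K L : Subgroup G)
    [T.Normal] [K.Normal] (hTK : T ≤ K) (hKL : K ≤ L) (hT : PiNum π (Nat.card T))
    (hKT : PiPrimeNum π (T.relIndex K)) (hLK : PiNum π (K.relIndex L)) :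
    ∃ C : Subgroup G, C ≤ L ∧ T ≤ C ∧ PiNum π (Nat.card C) ∧
      ∀ x ∈ L, (x ∈ C ↔ PiNum π (orderOf x)) := by
  classical
  set f := QuotientGroup.mk' T with hf
  have hfs : Function.Surjective f := QuotientGroup.mk'_surjective T
  set Kb := K.map f with hKb
  set Lb := L.map f with hLb
  haveI hKbn : Kb.Normal := Subgroup.Normal.map inferInstance f hfs
  have hKcard : Nat.card Kb * Nat.card T = Nat.card K := card_map_of_le T K hTK
  have hLcard : Nat.card Lb * Nat.card T = Nat.card L := card_map_of_le T L (hTK.trans hKL)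
  have hKbcard : Nat.card Kb = T.relIndex K := by
    have h1 := Subgroup.card_mul_index (T.subgroupOf K)
    rw [card_subgroupOf_of_le hTK, ← hKcard, mul_comm] at h1
    exact (Nat.eq_of_mul_eq_mul_right Nat.card_pos h1).symm
  set m := K.relIndex L with hm
  have hLK' : Nat.card L = m * Nat.card K := by
    have h1 := Subgroup.card_mul_index (K.subgroupOf L)
    rw [card_subgroupOf_of_le hKL] at h1
    rw [← h1, mul_comm]
    rfl
  have hLbcard : Nat.card Lb = m * Nat.card Kb := by
    have : Nat.card Lb * Nat.card T = (m * Nat.card Kb) * Nat.card T := by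
      rw [hLcard, hLK', ← hKcard, mul_assoc]
    exact Nat.eq_of_mul_eq_mul_right Nat.card_pos this
  have hKbπ : PiPrimeNum π (Nat.card Kb) := by rw [hKbcard]; exact hKT
  have hcop : m.Coprime (Nat.card Kb) := coprime_of_pi hLK hKbπ
  obtain ⟨H₀, hH₀L, hH₀card, hH₀⟩ :=
    exists_complement_in Kb Lb (Subgroup.map_mono hKL) m hLbcard hcop
  set C := H₀.comap f with hCdef
  have hCcard : Nat.card C = m * Nat.card T := by
    rw [hCdef, card_comap_mk T H₀, hH₀card]
  have hCπ : PiNum π (Nat.card C) := by rw [hCcard]; exact hLK.mul hT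
  have hTC : T ≤ C := le_comap_mk T H₀
  have hCL : C ≤ L := by
    intro c hc
    have h1 : f c ∈ Lb := hH₀L hc
    obtain ⟨l, hl, hlc⟩ := h1
    have h2 : l⁻¹ * c ∈ T := by
      rw [← QuotientGroup.eq_one_iff, ← QuotientGroup.mk'_apply]
      show f (l⁻¹ * c) = 1
      rw [map_mul, map_inv, hlc, inv_mul_cancel]
    have : c = l * (l⁻¹ * c) := by group
    rw [this]
    exact L.mul_mem hl (hKL (hTK h2))
  have hCelt : ∀ c ∈ C, PiNum π (orderOf c) := by
    intro c hc
    have := orderOf_dvd_natCard (⟨c, hc⟩ : C)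
    rw [Subgroup.orderOf_mk] at this
    exact hCπ.of_dvd this
  refine ⟨C, hCL, hTC, hCπ, ?_⟩
  intro x hxL
  refine ⟨hCelt x, ?_⟩
  intro hxπ
  have hfx : f x ∈ Lb := ⟨x, hxL, rfl⟩
  obtain ⟨kb, hkb, hb, hhb, hxkh⟩ := hH₀ (f x) hfx
  obtain ⟨c, rfl⟩ := hfs hb
  have hcC : c ∈ C := hhb
  have hcπ := hCelt c hcC
  obtain ⟨k, hk, rfl⟩ := hkb
  -- f k commutes with f c
  have hcomm : Commute (f k) (f c) := by
    have h1 := central_mod hC T K hTK hT hKT c hcπ k hk
    have h2 : f (k * c * k⁻¹ * c⁻¹) = 1 := by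
      rw [QuotientGroup.mk'_apply, QuotientGroup.eq_one_iff]; exact h1
    rw [map_mul, map_mul, map_mul, map_inv, map_inv] at h2
    show f k * f c = f c * f k
    have : f k * f c = (f k * f c * (f k)⁻¹ * (f c)⁻¹) * (f c * f k) := by group
    rw [this, h2, one_mul]
  have hok : PiPrimeNum π (orderOf (f k)) := by
    have h1 : orderOf (f k) ∣ Nat.card Kb := by
      have := orderOf_dvd_natCard (⟨f k, k, hk, rfl⟩ : Kb)
      rwa [← Subgroup.orderOf_coe] at this
    exact hKbπ.of_dvd h1
  have hoc : PiNum π (orderOf (f c)) := hcπ.of_dvd (orderOf_map_dvd f c)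
  have hcop2 : (orderOf (f k)).Coprime (orderOf (f c)) := (coprime_of_pi hoc hok).symm
  have hord := hcomm.orderOf_mul_eq_mul_orderOf_of_coprime hcop2
  rw [← hxkh] at hord
  have hox : PiNum π (orderOf (f x)) := hxπ.of_dvd (orderOf_map_dvd f x)
  have h1 : orderOf (f k) = 1 := by
    have hd : orderOf (f k) ∣ orderOf (f x) := by rw [hord]; exact dvd_mul_right _ _
    have : (orderOf (f k)).Coprime (orderOf (f k)) := coprime_of_pi (hox.of_dvd hd) hok
    exact (Nat.coprime_self _).mp this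
  rw [orderOf_eq_one_iff] at h1
  rw [h1, one_mul] at hxkh
  show f x ∈ H₀
  rw [hxkh]; exact hhb

/-- properties of a subgroup consisting exactly of the `π`-elements -/
theorem pi_subgroup_props {H : Type*} [Group H] [Finite H] {π : Set ℕ} (M : Subgroup H)
    (hM : ∀ x : H, x ∈ M ↔ PiNum π (orderOf x)) :
    M.Normal ∧ PiNum π (Nat.card M) ∧ PiPrimeNum π M.index := by
  refine ⟨⟨?_⟩, ?_, ?_⟩
  · intro n hn g
    rw [hM] at hn ⊢
    have : orderOf (g * n * g⁻¹) = orderOf n := by
      have := MulEquiv.orderOf_eq (MulAut.conj g) n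
      rwa [MulAut.conj_apply] at this
    rw [this]; exact hn
  · intro p hp hd
    haveI := Fact.mk hp
    obtain ⟨x, hx⟩ := exists_prime_orderOf_dvd_card' p hd
    have h1 : orderOf (x : H) = p := by rw [Subgroup.orderOf_coe]; exact hx
    have := (hM x).mp x.2
    exact this p hp (h1 ▸ dvd_rfl)
  · intro p hp hd hpπ
    haveI := Fact.mk hp
    obtain ⟨P⟩ : Nonempty (Sylow p H) := inferInstance
    have hPM : (P : Subgroup H) ≤ M := by
      intro x hx
      rw [hM]
      obtain ⟨k, hk⟩ := (IsPGroup.iff_orderOf.mp P.2) ⟨x, hx⟩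
      rw [Subgroup.orderOf_mk] at hk
      intro r hr hrd
      rw [hk] at hrd
      have := (Nat.prime_dvd_prime_iff_eq hr hp).mp (hr.dvd_of_dvd_pow hrd)
      rw [this]; exact hpπ
    exact P.not_dvd_index (hd.trans (Subgroup.index_dvd_of_le hPM))

end Cfsg.Agent.Lib.Helper6_PiElements
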