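import Mathlib
import Cfsg.Agent.Lib.Helper6_PiElements

/-! π-elements forming a subgroup: chain step. -/

set_option autoImplicit false

namespace Cfsg.Agent.Lib.Helper6_PiElements2

open Cfsg.Agent.Lib.Lead_SZ Cfsg.Agent.Lib.Lead_Coprime Cfsg.Agent.Lib.Lead_Hall
open Cfsg.Agent.Lib.Helper6_PiElements

variable {G : Type*} [Group G]

theorem props_of_mem [Finite G] {π : Set ℕ} (K T : Subgroup G) [K.Normal] (hTK : T ≤ K)
    (hT : ∀ x ∈ K, (x ∈ T ↔ PiNum π (orderOf x))) :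
    T.Normal ∧ PiNum π (Nat.card T) ∧ PiPrimeNum π (T.relIndex K) := by
  set T' := T.subgroupOf K with hT'
  have hT'mem : ∀ x : K, x ∈ T' ↔ PiNum π (orderOf x) := by
    intro x
    rw [hT', Subgroup.mem_subgroupOf, hT x.1 x.2, Subgroup.orderOf_coe]
  obtain ⟨-, hT'π, hT'idx⟩ := pi_subgroup_props (π := π) T' hT'mem
  refine ⟨⟨?_⟩, ?_, hT'idx⟩
  · intro n hn g
    have hnK : n ∈ K := hTK hn
    have hgK : g * n * g⁻¹ ∈ K := (inferInstance : K.Normal).conj_mem n hnK g
    rw [hT _ hgK]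
    have : orderOf (g * n * g⁻¹) = orderOf n := by
      have := MulEquiv.orderOf_eq (MulAut.conj g) n
      rwa [MulAut.conj_apply] at this
    rw [this]; exact (hT n hnK).mp hn
  · rw [← card_subgroupOf_of_le hTK]; exact hT'π

theorem step [Finite G] {π : Set ℕ} (hC : CondC π G) (K L : Subgroup G) [K.Normal] (hKL : K ≤ L)
    (T : Subgroup G) (hTK : T ≤ K) (hT : ∀ x ∈ K, (x ∈ T ↔ PiNum π (orderOf x)))
    (hfac : PiNum π (K.relIndex L) ∨ PiPrimeNum π (K.relIndex L)) :
    ∃ C : Subgroup G, C ≤ L ∧ ∀ x ∈ L, (x ∈ C ↔ PiNum π (orderOf x)) := by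
  obtain ⟨hTn, hTπ, hTrel⟩ := props_of_mem K T hTK hT
  haveI := hTn
  rcases hfac with hfac | hfac
  · obtain ⟨C, hCL, -, -, hCmem⟩ := exists_pi_subgroup hC T K L hTK hKL hTπ hTrel hfac
    exact ⟨C, hCL, hCmem⟩
  · refine ⟨T, hTK.trans hKL, ?_⟩
    intro x hxL
    constructor
    · intro hx
      exact (hT x (hTK hx)).mp hx
    · intro hx
      have hxK : x ∈ K := by
        haveI : (K.subgroupOf L).Normal := inferInstance
        have h1 : (⟨x, hxL⟩ : L) ^ (K.subgroupOf L).index ∈ K.subgroupOf L :=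
          Subgroup.pow_index_mem _ _
        rw [Subgroup.mem_subgroupOf] at h1
        have h2 : x ^ K.relIndex L ∈ K := h1
        exact mem_of_pow_mem_of_coprime K x _ (isOfFinOrder_of_finite x)
          (coprime_of_pi hx hfac) h2
      exact (hT x hxK).mpr hx

end Cfsg.Agent.Lib.Helper6_PiElements2
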