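import Mathlib
import Cfsg.Prelude.Def_Solvable
import Cfsg.Agent.Lib.Lead_Hall
import Cfsg.Agent.Lib.Helper6_PiElements

/-! Prime graph basics: a set of primes `A` with no edge to its complement. -/

set_option autoImplicit false

namespace Cfsg.Agent.Lib.Helper6_PrimeGraph

open Cfsg.Agent.Lib.Lead_SZ Cfsg.Agent.Lib.Lead_Hall Cfsg.Agent.Lib.Helper6_PiElements

universe u

/-- no element of order `a * b` with `a ∈ A`, `b ∉ A` primes -/
def NoEdge (A : Set ℕ) (G : Type*) [Group G] : Prop :=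
  ∀ a b : ℕ, a.Prime → b.Prime → a ∈ A → b ∉ A → ¬ ∃ g : G, orderOf g = a * b

theorem noEdge_compl {A : Set ℕ} {G : Type*} [Group G] (h : NoEdge A G) : NoEdge Aᶜ G := by
  intro a b ha hb haA hbA ⟨g, hg⟩
  rw [Set.mem_compl_iff] at haA
  rw [Set.mem_compl_iff, not_not] at hbA
  exact h b a hb ha hbA haA ⟨g, by rw [hg, mul_comm]⟩

theorem noEdge_quotient {A : Set ℕ} {G : Type*} [Group G] [Finite G] (h : NoEdge A G)
    (N : Subgroup G) [N.Normal] : NoEdge A (G ⧸ N) := by
  intro a b ha hb haA hbA ⟨x, hx⟩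
  obtain ⟨g, rfl⟩ := QuotientGroup.mk_surjective x
  have h1 : orderOf (QuotientGroup.mk' N g) ∣ orderOf g := orderOf_map_dvd _ g
  rw [QuotientGroup.mk'_apply, hx] at h1
  obtain ⟨t, ht⟩ := h1
  have hpos : 0 < orderOf g := orderOf_pos g
  have ht0 : t ≠ 0 := by
    rintro rfl
    rw [mul_zero] at ht
    omega
  apply h a b ha hb haA hbA
  refine ⟨g ^ t, ?_⟩
  rw [orderOf_pow_of_dvd ht0 ⟨a * b, by rw [ht, mul_comm]⟩, ht]
  exact Nat.mul_div_cancel _ (Nat.pos_of_ne_zero ht0)

/-- a non-identity `A`-element never commutes with a non-identity `Aᶜ`-element -/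
theorem noEdge_commute {A : Set ℕ} {G : Type*} [Group G] [Finite G] (h : NoEdge A G) {x y : G}
    (hc : Commute x y) (hx : x ≠ 1) (hy : y ≠ 1) (hxA : PiNum A (orderOf x))
    (hyA : PiNum Aᶜ (orderOf y)) : False := by
  have hx1 : orderOf x ≠ 1 := fun h1 => hx (orderOf_eq_one_iff.mp h1)
  have hy1 : orderOf y ≠ 1 := fun h1 => hy (orderOf_eq_one_iff.mp h1)
  obtain ⟨a, ha, hadvd⟩ := Nat.exists_prime_and_dvd hx1
  obtain ⟨b, hb, hbdvd⟩ := Nat.exists_prime_and_dvd hy1
  have haA := hxA a ha hadvd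
  have hbA : b ∉ A := hyA b hb hbdvd
  have hxpos : 0 < orderOf x := orderOf_pos x
  have hypos : 0 < orderOf y := orderOf_pos y
  have hox : orderOf (x ^ (orderOf x / a)) = a := by
    rw [orderOf_pow_of_dvd (by
      intro h0
      have := Nat.div_mul_cancel hadvd
      rw [h0, zero_mul] at this
      omega) (Nat.div_dvd_of_dvd hadvd)]
    exact Nat.div_div_self hadvd hxpos.ne'
  have hoy : orderOf (y ^ (orderOf y / b)) = b := by
    rw [orderOf_pow_of_dvd (by
      intro h0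
      have := Nat.div_mul_cancel hbdvd
      rw [h0, zero_mul] at this
      omega) (Nat.div_dvd_of_dvd hbdvd)]
    exact Nat.div_div_self hbdvd hypos.ne'
  have hne : a ≠ b := by
    rintro rfl
    exact hbA haA
  have hcop : (orderOf (x ^ (orderOf x / a))).Coprime (orderOf (y ^ (orderOf y / b))) := by
    rw [hox, hoy]
    exact (Nat.coprime_primes ha hb).mpr hne
  have hc' : Commute (x ^ (orderOf x / a)) (y ^ (orderOf y / b)) := hc.pow_pow _ _
  apply h a b ha hb haA hbA
  exact ⟨_, by rw [hc'.orderOf_mul_eq_mul_orderOf_of_coprime hcop, hox, hoy]⟩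

/-- a normal `π`-subgroup of largest order -/
theorem exists_max_normal_pi (π : Set ℕ) (X : Type u) [Group X] [Finite X] :
    ∃ (N : Subgroup X) (_ : N.Normal), PiNum π (Nat.card N) ∧
      (∀ M : Subgroup X, M.Normal → N ≤ M → PiNum π (Nat.card M) → M = N) ∧
      (∀ M : Subgroup (X ⧸ N), M.Normal → PiNum π (Nat.card M) → M = ⊥) := by
  classical
  let S := {N : Subgroup X // N.Normal ∧ PiNum π (Nat.card N)}
  haveI : Nonempty S := ⟨⟨⊥, inferInstance, by
    intro p hp hd
    rw [Subgroup.card_bot] at hd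
    exact absurd (Nat.dvd_one.mp hd) hp.one_lt.ne'⟩⟩
  obtain ⟨⟨N, hNn, hNπ⟩, hmax⟩ := Finite.exists_max (fun N : S => Nat.card N.1)
  haveI := hNn
  have hmax1 : ∀ M : Subgroup X, M.Normal → N ≤ M → PiNum π (Nat.card M) → M = N := by
    intro M hMn hNM hMπ
    have h1 : Nat.card M ≤ Nat.card N := hmax ⟨M, hMn, hMπ⟩
    exact (eq_of_le_of_card_eq hNM (le_antisymm (Subgroup.card_le_of_le hNM) h1)).symm
  refine ⟨N, hNn, hNπ, hmax1, ?_⟩
  intro M hMn hMπ
  have h1 := hmax1 (M.comap (QuotientGroup.mk' N)) (hMn.comap _) (le_comap_mk N M)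
    (by rw [card_comap_mk]; exact hMπ.mul hNπ)
  have h2 : Nat.card M * Nat.card N = Nat.card N := by rw [← card_comap_mk, h1]
  have hpos : 0 < Nat.card N := Nat.card_pos
  have h3 : Nat.card M = 1 := by
    apply Nat.eq_of_mul_eq_mul_right hpos
    rw [h2, one_mul]
  exact Subgroup.card_eq_one.mp h3

end Cfsg.Agent.Lib.Helper6_PrimeGraph
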