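import Mathlib
import Cfsg.Prelude.Def_KGroupFacts
import Cfsg.Agent.Lib.Helper6_Perfect
import Cfsg.Agent.Lib.Helper6_Schur

set_option autoImplicit false

/-! Further facts on the multiplier `MM Q`: central extensions, duality. -/

namespace Cfsg.Agent.Lib.Helper6_Schur

open scoped commutatorElement
open Cfsg.Agent.Lib.Helper6_Perfect

universe u v w

/-- For a central extension `τ : E → U`, the multiplier of `U` maps onto `ker τ ∩ E'`. -/
theorem exists_map_central {U : Type u} [Group U] {E : Type w} [Group E] (τ : E →* U)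
    (hτs : Function.Surjective τ) (hτc : τ.ker ≤ Subgroup.center E) :
    ∃ ψb : EE U →* E, τ.comp ψb = phib U ∧ (MM U).map ψb = τ.ker ⊓ commutator E := by
  obtain ⟨ψb, h⟩ := exists_lift U τ hτs hτc
  refine ⟨ψb, h, ?_⟩
  have h' : ∀ e, τ (ψb e) = phib U e := fun e => by
    have := congrArg (fun g : EE U →* U => g e) h
    exact this
  have hdec : ∀ δ : E, ∃ e : EE U, (ψb e)⁻¹ * δ ∈ τ.ker := by
    intro δ
    obtain ⟨e, he⟩ := phib_surjective U (τ δ)
    refine ⟨e, ?_⟩
    rw [MonoidHom.mem_ker, map_mul, map_inv, h', he, inv_mul_cancel]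
  have hcomm : commutator E ≤ (commutator (EE U)).map ψb := by
    rw [commutator_def, Subgroup.commutator_le]
    intro a _ b _
    obtain ⟨ea, hea⟩ := hdec a
    obtain ⟨eb, heb⟩ := hdec b
    have ha : a = ψb ea * ((ψb ea)⁻¹ * a) := by group
    have hb : b = ψb eb * ((ψb eb)⁻¹ * b) := by group
    rw [ha, hb, commutatorElement_mul_central _ _ _ _ (hτc hea) (hτc heb)]
    refine ⟨⁅ea, eb⁆, ?_, by rw [map_commutatorElement]⟩
    rw [commutator_def]
    exact Subgroup.commutator_mem_commutator (Subgroup.mem_top _) (Subgroup.mem_top _)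
  apply le_antisymm
  · rintro _ ⟨m, hm, rfl⟩
    refine ⟨lift_mem_ker ψb h m (MM_le_Rb U hm), ?_⟩
    have h1 : m ∈ commutator (EE U) := MM_le_commutator U hm
    have h2 : (commutator (EE U)).map ψb ≤ commutator E := by
      rw [commutator_def, commutator_def, Subgroup.map_commutator]
      exact Subgroup.commutator_mono le_top le_top
    exact h2 ⟨m, h1, rfl⟩
  · rintro x ⟨hx1, hx2⟩
    obtain ⟨e, he, rfl⟩ := hcomm hx2
    refine ⟨e, ⟨?_, he⟩, rfl⟩
    have : phib U e = 1 := by rw [← h']; exact hx1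
    exact this

/-- a quotient of a finite abelian group embeds into it -/
theorem exists_injective_of_surjective {B : Type u} {X : Type v} [CommGroup B] [Finite B] [Group X]
    (f : B →* X) (hf : Function.Surjective f) : ∃ g : X →* B, Function.Injective g := by
  classical
  letI : CommGroup X :=
    { (inferInstance : Group X) with
      mul_comm := fun a b => by
        obtain ⟨a', rfl⟩ := hf a
        obtain ⟨b', rfl⟩ := hf b
        rw [← map_mul, ← map_mul, mul_comm] }
  haveI : Finite X := Finite.of_surjective f hf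
  haveI : NeZero (Monoid.exponent B) := ⟨Monoid.exponent_ne_zero_of_finite⟩
  haveI : NeZero (Monoid.exponent X) := ⟨Monoid.exponent_ne_zero_of_finite⟩
  haveI : NeZero ((Monoid.exponent B : ℕ) : ℂ) := ⟨Nat.cast_ne_zero.mpr (NeZero.ne _)⟩
  haveI : NeZero ((Monoid.exponent X : ℕ) : ℂ) := ⟨Nat.cast_ne_zero.mpr (NeZero.ne _)⟩
  obtain ⟨eB⟩ := CommGroup.monoidHom_mulEquiv_of_hasEnoughRootsOfUnity B ℂ
  obtain ⟨eX⟩ := CommGroup.monoidHom_mulEquiv_of_hasEnoughRootsOfUnity X ℂ
  let pre : (X →* ℂˣ) →* (B →* ℂˣ) :=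
    { toFun := fun χ => χ.comp f
      map_one' := by ext b; simp
      map_mul' := fun χ₁ χ₂ => by ext b; simp }
  have hpre : Function.Injective pre := by
    intro χ₁ χ₂ h
    apply MonoidHom.ext
    intro x
    obtain ⟨b, rfl⟩ := hf x
    have := congrArg (fun ξ : B →* ℂˣ => ξ b) h
    exact this
  refine ⟨eB.toMonoidHom.comp (pre.comp eX.symm.toMonoidHom), ?_⟩
  exact eB.injective.comp (hpre.comp eX.symm.injective)

end Cfsg.Agent.Lib.Helper6_Schur
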