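import Mathlib
import Cfsg.Prelude.Def_KGroupFacts
import Cfsg.Agent.Lib.Helper6_Perfect
import Cfsg.Agent.Lib.Helper6_Schur
import Cfsg.Agent.Lib.Helper6_Schur2

set_option autoImplicit false

/-! Projective representations and the Schur multiplier. -/

namespace Cfsg.Agent.Lib.Helper6_ProjRep

open Cfsg.Agent.Lib.Helper6_Schur Cfsg.Agent.Lib.Helper6_Perfect
open scoped commutatorElement

universe u v w

/-- the projective general linear group as in the statements -/
abbrev PGL (n : ℕ) := GL (Fin n) ℂ ⧸ Subgroup.center (GL (Fin n) ℂ)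

/-- the projection to `PGL` -/
abbrev pr (n : ℕ) : GL (Fin n) ℂ →* PGL n := QuotientGroup.mk' (Subgroup.center (GL (Fin n) ℂ))

theorem scalar_mem_center (n : ℕ) (c : ℂˣ) :
    Matrix.GeneralLinearGroup.scalar (Fin n) c ∈ Subgroup.center (GL (Fin n) ℂ) := by
  rw [Matrix.GeneralLinearGroup.center_eq_range_scalar]
  exact ⟨c, rfl⟩

theorem pr_scalar (n : ℕ) (c : ℂˣ) : pr n (Matrix.GeneralLinearGroup.scalar (Fin n) c) = 1 :=
  (QuotientGroup.eq_one_iff _).mpr (scalar_mem_center n c)

theorem det_scalar (n : ℕ) (c : ℂˣ) :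
    Matrix.GeneralLinearGroup.det (Matrix.GeneralLinearGroup.scalar (Fin n) c) = c ^ n := by
  apply Units.ext
  change Matrix.det (Matrix.scalar (Fin n) (c : ℂ)) = ((c ^ n : ℂˣ) : ℂ)
  rw [Matrix.scalar_apply, Matrix.det_diagonal, Finset.prod_const, Finset.card_univ,
    Fintype.card_fin, Units.val_pow_eq_pow_val]

theorem scalar_injective (n : ℕ) (hn : 0 < n) :
    Function.Injective (Matrix.GeneralLinearGroup.scalar (Fin n) : ℂˣ →* GL (Fin n) ℂ) := by
  intro a b h
  have h1 := congrArg (fun g : GL (Fin n) ℂ => (g : Matrix (Fin n) (Fin n) ℂ) ⟨0, hn⟩ ⟨0, hn⟩) h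
  simp only [Matrix.GeneralLinearGroup.coe_scalar, Matrix.scalar_apply,
    Matrix.diagonal_apply_eq] at h1
  exact Units.ext h1

/-- extension of characters from a subgroup meeting the commutator subgroup trivially -/
theorem char_extend {G : Type u} [Group G] [Finite G] (K : Subgroup G)
    (hK : K ⊓ commutator G = ⊥) (s : K →* ℂˣ) : ∃ χ : G →* ℂˣ, ∀ k : K, χ k = s k := by
  classical
  let ab : G →* Abelianization G := Abelianization.of
  let H : Subgroup (Abelianization G) := K.map ab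
  let f : K →* H := ab.subgroupMap K
  have hfs : Function.Surjective f := ab.subgroupMap_surjective K
  have hfi : Function.Injective f := by
    rw [injective_iff_map_eq_one]
    intro k hk
    have h1 : ab k.1 = 1 := congrArg Subtype.val hk
    have h2 : k.1 ∈ commutator G := by rw [← Abelianization.ker_of]; exact h1
    have h3 : k.1 ∈ K ⊓ commutator G := ⟨k.2, h2⟩
    rw [hK, Subgroup.mem_bot] at h3
    exact Subtype.ext h3
  let e : K ≃* H := MulEquiv.ofBijective f ⟨hfi, hfs⟩
  let χ₀ : H →* ℂˣ := s.comp e.symm.toMonoidHom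
  haveI : NeZero (Monoid.exponent (Abelianization G)) := ⟨Monoid.exponent_ne_zero_of_finite⟩
  haveI : NeZero ((Monoid.exponent (Abelianization G) : ℕ) : ℂ) :=
    ⟨Nat.cast_ne_zero.mpr (NeZero.ne _)⟩
  obtain ⟨χ, hχ⟩ := MonoidHom.domRestrict_surjective (M := ℂ) H χ₀
  refine ⟨χ.comp ab, fun k => ?_⟩
  have h1 : χ (ab k.1) = χ₀ ⟨ab k.1, ⟨k.1, k.2, rfl⟩⟩ := by
    rw [← hχ]; rfl
  rw [MonoidHom.comp_apply, h1]
  change s (e.symm (e k)) = s k
  rw [MulEquiv.symm_apply_apply]

section ext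

variable {X : Type u} [Group X] {n : ℕ} (δ : X →* PGL n)

/-- the determinant one pull back of `GL → PGL` along `δ` -/
def extGroup : Subgroup (X × GL (Fin n) ℂ) :=
  MonoidHom.eqLocus (δ.comp (MonoidHom.fst X (GL (Fin n) ℂ)))
      ((pr n).comp (MonoidHom.snd X (GL (Fin n) ℂ)))
    ⊓ Subgroup.comap (MonoidHom.snd X (GL (Fin n) ℂ))
      (Matrix.GeneralLinearGroup.det : GL (Fin n) ℂ →* ℂˣ).ker

theorem mem_extGroup (p : X × GL (Fin n) ℂ) :
    p ∈ extGroup δ ↔ δ p.1 = pr n p.2 ∧ Matrix.GeneralLinearGroup.det p.2 = 1 := Iff.rfl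

/-- first projection -/
def extFst : extGroup δ →* X := (MonoidHom.fst X _).comp (extGroup δ).subtype

/-- second projection -/
def extSnd : extGroup δ →* GL (Fin n) ℂ := (MonoidHom.snd X _).comp (extGroup δ).subtype

theorem extFst_apply (p : extGroup δ) : extFst δ p = p.1.1 := rfl

theorem extSnd_apply (p : extGroup δ) : extSnd δ p = p.1.2 := rfl

theorem pr_extSnd (p : extGroup δ) : pr n (extSnd δ p) = δ (extFst δ p) := (p.2.1).symm

theorem extFst_surjective (hn : 0 < n) : Function.Surjective (extFst δ) := by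
  intro x
  obtain ⟨g, hg⟩ := QuotientGroup.mk_surjective (δ x)
  obtain ⟨c, hc⟩ := IsAlgClosed.exists_pow_nat_eq
    (((Matrix.GeneralLinearGroup.det g)⁻¹ : ℂˣ) : ℂ) hn
  have hc0 : c ≠ 0 := by
    intro h
    rw [h, zero_pow hn.ne'] at hc
    exact (Units.ne_zero _) hc.symm
  let cu : ℂˣ := Units.mk0 c hc0
  have hcu : cu ^ n = (Matrix.GeneralLinearGroup.det g)⁻¹ := by
    apply Units.ext
    rw [Units.val_pow_eq_pow_val]
    exact hc
  refine ⟨⟨(x, g * Matrix.GeneralLinearGroup.scalar (Fin n) cu), ?_, ?_⟩, rfl⟩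
  · change δ x = pr n (g * Matrix.GeneralLinearGroup.scalar (Fin n) cu)
    rw [map_mul, pr_scalar, mul_one]
    exact hg.symm
  · change Matrix.GeneralLinearGroup.det (g * Matrix.GeneralLinearGroup.scalar (Fin n) cu) = 1
    rw [map_mul, det_scalar, hcu, mul_inv_cancel]

theorem extFst_ker_snd (p : extGroup δ) (hp : p ∈ (extFst δ).ker) :
    extSnd δ p ∈ Subgroup.center (GL (Fin n) ℂ) := by
  have h1 : pr n (extSnd δ p) = 1 := by
    rw [pr_extSnd, MonoidHom.mem_ker.mp hp, map_one]
  exact (QuotientGroup.eq_one_iff _).mp h1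

theorem ext_central (p : extGroup δ) (h1 : extFst δ p ∈ Subgroup.center X)
    (h2 : extSnd δ p ∈ Subgroup.center (GL (Fin n) ℂ)) : p ∈ Subgroup.center (extGroup δ) := by
  rw [Subgroup.mem_center_iff]
  intro q
  apply Subtype.ext
  apply Prod.ext
  · exact Subgroup.mem_center_iff.mp h1 q.1.1
  · exact Subgroup.mem_center_iff.mp h2 q.1.2

theorem extFst_ker_central : (extFst δ).ker ≤ Subgroup.center (extGroup δ) := by
  intro p hp
  apply ext_central δ p _ (extFst_ker_snd δ p hp)
  rw [MonoidHom.mem_ker.mp hp]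
  exact Subgroup.one_mem _

theorem ext_ker_finite (hn : 0 < n) : Finite (extFst δ).ker := by
  classical
  haveI : NeZero n := ⟨hn.ne'⟩
  have hex : ∀ k : (extFst δ).ker, ∃ c : ℂˣ, Matrix.GeneralLinearGroup.scalar (Fin n) c =
      extSnd δ k.1 := by
    intro k
    have := extFst_ker_snd δ k.1 k.2
    rw [Matrix.GeneralLinearGroup.center_eq_range_scalar] at this
    exact this
  choose c hc using hex
  have hroot : ∀ k, c k ∈ rootsOfUnity n ℂ := by
    intro k
    rw [mem_rootsOfUnity, ← det_scalar, hc]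
    exact k.1.2.2
  apply Finite.of_injective (fun k => (⟨c k, hroot k⟩ : rootsOfUnity n ℂ))
  intro k k' h
  have h1 : c k = c k' := congrArg Subtype.val h
  apply Subtype.ext
  apply Subtype.ext
  apply Prod.ext
  · have e1 : (k.1.1).1 = 1 := k.2
    have e2 : (k'.1.1).1 = 1 := k'.2
    rw [e1, e2]
  · have e1 : (k.1.1).2 = extSnd δ k.1 := rfl
    have e2 : (k'.1.1).2 = extSnd δ k'.1 := rfl
    rw [e1, e2, ← hc, ← hc, h1]

theorem ext_finite [Finite X] (hn : 0 < n) : Finite (extGroup δ) := by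
  haveI := ext_ker_finite δ hn
  exact finite_of_hom (extFst δ)

end ext

/-- Projective representations lift to a stem extension whose kernel is as large as the
multiplier. -/
theorem lift_of_cover {Q : Type u} [Group Q] [Finite Q] {Γ : Type v} [Group Γ] [Finite Γ]
    (σ : Γ →* Q) (hσ : Cfsg.IsStemExtension σ) (hcard : Nat.card (MM Q) ≤ Nat.card σ.ker)
    (n : ℕ) (γ : Q →* PGL n) :
    ∃ ρ : Γ →* GL (Fin n) ℂ, (pr n).comp ρ = γ.comp σ := by
  classical
  obtain ⟨hσs, hσc, hσst⟩ := hσ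
  rcases Nat.eq_zero_or_pos n with rfl | hn
  · haveI : Subsingleton (PGL 0) :=
      (QuotientGroup.mk_surjective (s := Subgroup.center (GL (Fin 0) ℂ))).subsingleton
    exact ⟨1, MonoidHom.ext fun x => Subsingleton.elim _ _⟩
  let δ : Γ →* PGL n := γ.comp σ
  haveI : Finite (extGroup δ) := ext_finite δ hn
  let πP : extGroup δ →* Γ := extFst δ
  have hπs : Function.Surjective πP := extFst_surjective δ hn
  let θ : extGroup δ →* Q := σ.comp πP
  have hθs : Function.Surjective θ := hσs.comp hπs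
  have hθc : θ.ker ≤ Subgroup.center (extGroup δ) := by
    intro p hp
    have h1 : πP p ∈ σ.ker := hp
    apply ext_central δ p (hσc h1)
    have h2 : pr n (extSnd δ p) = 1 := by
      rw [pr_extSnd]
      change γ (σ (πP p)) = 1
      rw [MonoidHom.mem_ker.mp h1, map_one]
    exact (QuotientGroup.eq_one_iff _).mp h2
  obtain ⟨ψ, hψ, hmap⟩ := exists_map_central θ hθs hθc
  let Y : Subgroup (extGroup δ) := θ.ker ⊓ commutator (extGroup δ)
  have hYcard : Nat.card Y ≤ Nat.card (MM Q) := by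
    have hmapY : ∀ m : MM Q, (ψ.comp (MM Q).subtype) m ∈ Y := by
      intro m
      have h1 : ψ m.1 ∈ (MM Q).map ψ := ⟨m.1, m.2, rfl⟩
      rw [hmap] at h1
      exact h1
    let f₀ : MM Q →* Y := (ψ.comp (MM Q).subtype).codRestrict Y hmapY
    have hf₀ : Function.Surjective f₀ := by
      rintro ⟨x, hx⟩
      have hx' : x ∈ (MM Q).map ψ := by rw [hmap]; exact hx
      obtain ⟨m, hm, rfl⟩ := hx'
      exact ⟨⟨m, hm⟩, rfl⟩
    exact Nat.card_le_card_of_surjective f₀ hf₀
  let f : Y →* σ.ker := (πP.comp Y.subtype).codRestrict σ.ker (fun y => y.2.1)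
  have hfs : Function.Surjective f := by
    rintro ⟨k, hk⟩
    have hmapc : commutator Γ = (commutator (extGroup δ)).map πP := by
      rw [commutator_def, commutator_def, Subgroup.map_commutator,
        Subgroup.map_top_of_surjective _ hπs]
    have hk' := hσst hk
    rw [hmapc] at hk'
    obtain ⟨p, hp, hpk⟩ := hk'
    refine ⟨⟨p, ?_, hp⟩, Subtype.ext hpk⟩
    change σ (πP p) = 1
    rw [hpk]
    exact hk
  have hfb : Function.Bijective f := hfs.bijective_of_nat_card_le (hYcard.trans hcard)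
  have hK : πP.ker ⊓ commutator (extGroup δ) = ⊥ := by
    rw [eq_bot_iff]
    rintro p ⟨hp1, hp2⟩
    have hpY : p ∈ Y := by
      refine ⟨?_, hp2⟩
      change σ (πP p) = 1
      rw [MonoidHom.mem_ker.mp hp1, map_one]
    have h1 : f ⟨p, hpY⟩ = f 1 := by
      apply Subtype.ext
      rw [map_one]
      exact hp1
    have h2 := hfb.1 h1
    rw [Subgroup.mem_bot]
    exact congrArg Subtype.val h2
  -- the scalar character on the kernel of `πP`
  let scalarEquiv : ℂˣ ≃* (Matrix.GeneralLinearGroup.scalar (Fin n) : ℂˣ →* GL (Fin n) ℂ).range :=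
    MonoidHom.ofInjective (scalar_injective n hn)
  have hrange : ∀ k : πP.ker, ((extSnd δ).comp πP.ker.subtype) k ∈
      (Matrix.GeneralLinearGroup.scalar (Fin n) : ℂˣ →* GL (Fin n) ℂ).range := by
    intro k
    rw [← Matrix.GeneralLinearGroup.center_eq_range_scalar]
    exact extFst_ker_snd δ k.1 k.2
  let s : πP.ker →* ℂˣ := scalarEquiv.symm.toMonoidHom.comp
    (((extSnd δ).comp πP.ker.subtype).codRestrict _ hrange)
  have hs : ∀ k : πP.ker, Matrix.GeneralLinearGroup.scalar (Fin n) (s k) = extSnd δ k.1 := by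
    intro k
    exact MonoidHom.apply_ofInjective_symm (scalar_injective n hn) ⟨_, hrange k⟩
  obtain ⟨χ, hχ⟩ := char_extend πP.ker hK s
  let ρt : extGroup δ →* GL (Fin n) ℂ :=
    { toFun := fun p => extSnd δ p * Matrix.GeneralLinearGroup.scalar (Fin n) (χ p)⁻¹
      map_one' := by simp
      map_mul' := fun p q => by
        rw [map_mul, map_mul, mul_inv, map_mul]
        have hc := Matrix.GeneralLinearGroup.scalar_commute ((χ p)⁻¹) (extSnd δ q)
        calc extSnd δ p * extSnd δ q * (Matrix.GeneralLinearGroup.scalar (Fin n) (χ p)⁻¹ *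
              Matrix.GeneralLinearGroup.scalar (Fin n) (χ q)⁻¹)
            = extSnd δ p * (extSnd δ q * Matrix.GeneralLinearGroup.scalar (Fin n) (χ p)⁻¹) *
              Matrix.GeneralLinearGroup.scalar (Fin n) (χ q)⁻¹ := by group
          _ = extSnd δ p * (Matrix.GeneralLinearGroup.scalar (Fin n) (χ p)⁻¹ * extSnd δ q) *
              Matrix.GeneralLinearGroup.scalar (Fin n) (χ q)⁻¹ := by rw [hc]
          _ = _ := by group }
  have hρt : ∀ p, ρt p = extSnd δ p * Matrix.GeneralLinearGroup.scalar (Fin n) (χ p)⁻¹ :=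
    fun p => rfl
  have hker : πP.ker ≤ ρt.ker := by
    intro k hk
    rw [MonoidHom.mem_ker, hρt]
    have h1 : χ k = s ⟨k, hk⟩ := hχ ⟨k, hk⟩
    have h2 := hs ⟨k, hk⟩
    rw [h1, map_inv, h2, mul_inv_cancel]
  let ρ : Γ →* GL (Fin n) ℂ := (MonoidHom.liftOfSurjective πP hπs) ⟨ρt, hker⟩
  have hρ : ∀ p, ρ (πP p) = ρt p := fun p =>
    MonoidHom.liftOfRightInverse_comp_apply πP _ (Function.rightInverse_surjInv hπs) ⟨ρt, hker⟩ p
  refine ⟨ρ, MonoidHom.ext fun x => ?_⟩
  obtain ⟨p, rfl⟩ := hπs x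
  rw [MonoidHom.comp_apply, hρ, hρt, map_mul, pr_scalar, mul_one, pr_extSnd]

end Cfsg.Agent.Lib.Helper6_ProjRep
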