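import Mathlib
import Cfsg.Prelude.Def_KGroupFacts
import Cfsg.Agent.Lib.Helper6_Perfect
import Cfsg.Agent.Lib.Helper6_Schur
import Cfsg.Agent.Lib.Helper6_Schur2
import Cfsg.Agent.Lib.Helper6_ProjRep

set_option autoImplicit false

/-! Projective representations and the Schur multiplier: the converse direction. -/

namespace Cfsg.Agent.Lib.Helper6_ProjRep

open Cfsg.Agent.Lib.Helper6_Schur Cfsg.Agent.Lib.Helper6_Perfect
open scoped commutatorElement

universe u v w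

/-- two homomorphisms agreeing modulo the centre agree on the commutator subgroup -/
theorem agree_on_commutator {E : Type u} {G : Type v} [Group E] [Group G] (f₁ f₂ : E →* G)
    (h : ∀ e, (f₂ e)⁻¹ * f₁ e ∈ Subgroup.center G) : ∀ e ∈ commutator E, f₁ e = f₂ e := by
  have hcomm : ∀ a b : E, f₁ ⁅a, b⁆ = f₂ ⁅a, b⁆ := by
    intro a b
    rw [map_commutatorElement, map_commutatorElement]
    have ha : f₁ a = f₂ a * ((f₂ a)⁻¹ * f₁ a) := by group
    have hb : f₁ b = f₂ b * ((f₂ b)⁻¹ * f₁ b) := by group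
    rw [ha, hb, commutatorElement_mul_central _ _ _ _ (h a) (h b)]
  intro e he
  rw [commutator_eq_closure] at he
  have hEq : Set.EqOn f₁ f₂ (commutatorSet E) := by
    rintro x ⟨a, b, rfl⟩
    exact hcomm a b
  exact MonoidHom.eqOn_closure hEq he

/-- characters of a finite central subgroup separate its elements -/
theorem exists_char_ne_one {G : Type u} [Group G] (Z : Subgroup G) [Finite Z]
    (hZ : Z ≤ Subgroup.center G) (z : G) (hz : z ∈ Z) (hz1 : z ≠ 1) :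
    ∃ lam : Z →* ℂˣ, lam ⟨z, hz⟩ ≠ 1 := by
  letI : CommGroup Z :=
    { (inferInstance : Group Z) with
      mul_comm := fun a b => Subtype.ext (Subgroup.mem_center_iff.mp (hZ b.2) a.1) }
  haveI : NeZero (Monoid.exponent Z) := ⟨Monoid.exponent_ne_zero_of_finite⟩
  haveI : NeZero ((Monoid.exponent Z : ℕ) : ℂ) := ⟨Nat.cast_ne_zero.mpr (NeZero.ne _)⟩
  have hne : (⟨z, hz⟩ : Z) ≠ 1 := fun h => hz1 (congrArg Subtype.val h)
  obtain ⟨φ, hφ⟩ := CommGroup.exists_apply_ne_one_of_hasEnoughRootsOfUnity Z ℂ hne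
  exact ⟨φ, hφ⟩

/-- a representation in which a central subgroup acts through a given character -/
theorem exists_rep_scalar {G : Type u} [Group G] [Finite G] (Z : Subgroup G)
    (hZ : Z ≤ Subgroup.center G) (lam : Z →* ℂˣ) :
    ∃ (N : ℕ) (_ : 0 < N) (ρ₀ : G →* GL (Fin N) ℂ),
      ∀ z : Z, ρ₀ z = Matrix.GeneralLinearGroup.scalar (Fin N) (lam z) := by
  classical
  let V : Submodule ℂ (G → ℂ) :=
    { carrier := {f | ∀ z : Z, ∀ x, f ((z : G) * x) = (lam z : ℂ) * f x}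
      add_mem' := by
        intro f g hf hg z x
        simp only [Pi.add_apply, hf z x, hg z x, mul_add]
      zero_mem' := by
        intro z x
        simp
      smul_mem' := by
        intro c f hf z x
        simp only [Pi.smul_apply, smul_eq_mul, hf z x]
        ring }
  have hVmem : ∀ f : V, ∀ z : Z, ∀ x, (f : G → ℂ) ((z : G) * x) = (lam z : ℂ) * (f : G → ℂ) x :=
    fun f => f.2
  let R : G → ((G → ℂ) →ₗ[ℂ] (G → ℂ)) := fun g => LinearMap.funLeft ℂ ℂ (fun x => x * g)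
  have hR : ∀ g f x, R g f x = f (x * g) := fun g f x => rfl
  have hRV : ∀ g, ∀ f ∈ V, R g f ∈ V := by
    intro g f hf z x
    rw [hR, hR, mul_assoc]
    exact hf z (x * g)
  let T : G →* Module.End ℂ V :=
    { toFun := fun g => (R g).restrict (hRV g)
      map_one' := by
        apply LinearMap.ext
        intro f
        apply Subtype.ext
        funext x
        change (f : G → ℂ) (x * 1) = (f : G → ℂ) x
        rw [mul_one]
      map_mul' := fun g h => by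
        apply LinearMap.ext
        intro f
        apply Subtype.ext
        funext x
        change (f : G → ℂ) (x * (g * h)) = (f : G → ℂ) (x * g * h)
        rw [mul_assoc] }
  have hT : ∀ g (f : V) x, ((T g f : V) : G → ℂ) x = (f : G → ℂ) (x * g) := fun g f x => rfl
  have hTz : ∀ z : Z, T z = algebraMap ℂ (Module.End ℂ V) (lam z : ℂ) := by
    intro z
    apply LinearMap.ext
    intro f
    apply Subtype.ext
    funext x
    rw [hT, Module.algebraMap_end_apply]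
    have : x * (z : G) = z * x := Subgroup.mem_center_iff.mp (hZ z.2) x
    rw [this, hVmem f z x]
    rfl
  haveI : Nontrivial V := by
    let f₀ : G → ℂ := fun x => if h : x ∈ Z then ((lam ⟨x, h⟩ : ℂˣ) : ℂ) else 0
    have hf₀ : f₀ ∈ V := by
      intro z x
      by_cases hx : x ∈ Z
      · have hzx : (z : G) * x ∈ Z := Z.mul_mem z.2 hx
        simp only [f₀, dif_pos hx, dif_pos hzx]
        have : (⟨(z : G) * x, hzx⟩ : Z) = z * ⟨x, hx⟩ := rfl
        rw [this, map_mul, Units.val_mul]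
      · have hzx : (z : G) * x ∉ Z := by
          intro h
          apply hx
          have := Z.mul_mem (Z.inv_mem z.2) h
          rwa [inv_mul_cancel_left] at this
        simp only [f₀, dif_neg hx, dif_neg hzx, mul_zero]
    refine ⟨⟨⟨f₀, hf₀⟩, 0, ?_⟩⟩
    intro h
    have h1 := congrArg (fun v : V => (v : G → ℂ) 1) h
    simp only [f₀, dif_pos Z.one_mem, Submodule.coe_zero, Pi.zero_apply] at h1
    exact (Units.ne_zero _) h1
  have hN : 0 < Module.finrank ℂ V := Module.finrank_pos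
  let b := Module.finBasis ℂ V
  let eM : Module.End ℂ V ≃ₐ[ℂ] Matrix (Fin (Module.finrank ℂ V)) (Fin (Module.finrank ℂ V)) ℂ :=
    LinearMap.toMatrixAlgEquiv b
  let ρ₀ : G →* GL (Fin (Module.finrank ℂ V)) ℂ :=
    (Units.map eM.toMulEquiv.toMonoidHom).comp T.toHomUnits
  refine ⟨Module.finrank ℂ V, hN, ρ₀, fun z => ?_⟩
  apply Units.ext
  change eM (T z) = Matrix.scalar (Fin (Module.finrank ℂ V)) ((lam z : ℂˣ) : ℂ)
  rw [hTz, AlgEquiv.commutes]
  rfl

/-- If every projective representation of `Q` lifts along `σ`, the multiplier embeds in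
`ker σ`. -/
theorem MM_inf_ker_eq_bot {Q : Type u} [Group Q] [Finite Q] {Γ : Type v} [Group Γ] (σ : Γ →* Q)
    (hlift : ∀ (n : ℕ) (γ : Q →* PGL n), ∃ ρ : Γ →* GL (Fin n) ℂ, (pr n).comp ρ = γ.comp σ)
    (ψ : EE Q →* Γ) (hψ : σ.comp ψ = phib Q) : MM Q ⊓ ψ.ker = ⊥ := by
  classical
  rw [eq_bot_iff]
  rintro l ⟨hlM, hlψ⟩
  rw [Subgroup.mem_bot]
  by_contra hl1
  obtain ⟨C, hCR, hCM, hdec⟩ := exists_complement_in (Rb Q) le_rfl
  haveI := normal_of_le_Rb C hCR
  haveI : Finite (EE Q ⧸ C) := cover_finite C hCR hCM hdec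
  let σ₀ : EE Q ⧸ C →* Q := coverHom C hCR
  let ψ₀ : EE Q →* EE Q ⧸ C := QuotientGroup.mk' C
  have hσ₀ : Cfsg.IsStemExtension σ₀ := coverHom_isStem C hCR hdec
  have hz₀ : ψ₀ l ∈ σ₀.ker := (mem_ker_coverHom_iff C hCR _).mpr ⟨l, MM_le_Rb Q hlM, rfl⟩
  have hz₀1 : ψ₀ l ≠ 1 := by
    intro h
    have h1 : l ∈ C := (QuotientGroup.eq_one_iff l).mp h
    have h2 : l ∈ C ⊓ MM Q := ⟨h1, hlM⟩
    rw [hCM, Subgroup.mem_bot] at h2
    exact hl1 h2
  obtain ⟨lam, hlam⟩ := exists_char_ne_one σ₀.ker hσ₀.2.1 (ψ₀ l) hz₀ hz₀1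
  obtain ⟨N, hN, ρ₀, hρ₀⟩ := exists_rep_scalar σ₀.ker hσ₀.2.1 lam
  have hkerle : σ₀.ker ≤ ((pr N).comp ρ₀).ker := by
    intro z hz
    rw [MonoidHom.mem_ker, MonoidHom.comp_apply, hρ₀ ⟨z, hz⟩, pr_scalar]
  let γ : Q →* PGL N := (MonoidHom.liftOfSurjective σ₀ hσ₀.1) ⟨(pr N).comp ρ₀, hkerle⟩
  have hγ : ∀ g, γ (σ₀ g) = pr N (ρ₀ g) := fun g =>
    MonoidHom.liftOfRightInverse_comp_apply σ₀ _ (Function.rightInverse_surjInv hσ₀.1)
      ⟨(pr N).comp ρ₀, hkerle⟩ g
  obtain ⟨ρ, hρ⟩ := hlift N γ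
  have hρ' : ∀ x, pr N (ρ x) = γ (σ x) := fun x => by
    have := congrArg (fun f : Γ →* PGL N => f x) hρ
    exact this
  have hψ' : ∀ e, σ (ψ e) = phib Q e := fun e => by
    have := congrArg (fun f : EE Q →* Q => f e) hψ
    exact this
  let f₁ : EE Q →* GL (Fin N) ℂ := ρ.comp ψ
  let f₂ : EE Q →* GL (Fin N) ℂ := ρ₀.comp ψ₀
  have hagree : ∀ e, (f₂ e)⁻¹ * f₁ e ∈ Subgroup.center (GL (Fin N) ℂ) := by
    intro e
    have h1 : pr N (f₁ e) = γ (phib Q e) := by
      change pr N (ρ (ψ e)) = _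
      rw [hρ', hψ']
    have h2 : pr N (f₂ e) = γ (phib Q e) := by
      change pr N (ρ₀ (ψ₀ e)) = _
      rw [← hγ]
      rfl
    have h3 : pr N ((f₂ e)⁻¹ * f₁ e) = 1 := by
      rw [map_mul, map_inv, h1, h2, inv_mul_cancel]
    exact (QuotientGroup.eq_one_iff _).mp h3
  have heq := agree_on_commutator f₁ f₂ hagree l (MM_le_commutator Q hlM)
  have h1 : f₁ l = 1 := by
    change ρ (ψ l) = 1
    rw [MonoidHom.mem_ker.mp hlψ, map_one]
  have h2 : f₂ l = Matrix.GeneralLinearGroup.scalar (Fin N) (lam ⟨ψ₀ l, hz₀⟩) := hρ₀ ⟨ψ₀ l, hz₀⟩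
  rw [h1, h2] at heq
  have h3 : lam ⟨ψ₀ l, hz₀⟩ = 1 := by
    apply scalar_injective N hN
    rw [← heq, map_one]
  exact hlam h3

/-- consequently the multiplier is isomorphic to `ker σ` -/
theorem equiv_ker_of_lift {Q : Type u} [Group Q] [Finite Q] {Γ : Type v} [Group Γ] (σ : Γ →* Q)
    (hσ : Cfsg.IsStemExtension σ)
    (hlift : ∀ (n : ℕ) (γ : Q →* PGL n), ∃ ρ : Γ →* GL (Fin n) ℂ, (pr n).comp ρ = γ.comp σ) :
    Nonempty (MM Q ≃* σ.ker) := by
  obtain ⟨hσs, hσc, hσst⟩ := hσ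
  obtain ⟨ψ, hψ⟩ := exists_lift Q σ hσs hσc
  have hbot := MM_inf_ker_eq_bot σ hlift ψ hψ
  let f : MM Q →* σ.ker := (ψ.comp (MM Q).subtype).codRestrict σ.ker
    (fun m => lift_mem_ker ψ hψ _ (MM_le_Rb Q m.2))
  have hfsurj : Function.Surjective f := by
    rintro ⟨k, hk⟩
    obtain ⟨m, hm, hmk⟩ := lift_MM_onto hσc hσst ψ hψ k hk
    exact ⟨⟨m, hm⟩, Subtype.ext hmk⟩
  have hfinj : Function.Injective f := by
    rw [injective_iff_map_eq_one]
    intro m hm
    have h1 : ψ m.1 = 1 := congrArg Subtype.val hm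
    have h2 : m.1 ∈ MM Q ⊓ ψ.ker := ⟨m.2, h1⟩
    rw [hbot, Subgroup.mem_bot] at h2
    exact Subtype.ext h2
  exact ⟨MulEquiv.ofBijective f ⟨hfinj, hfsurj⟩⟩

end Cfsg.Agent.Lib.Helper6_ProjRep
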