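import Mathlib
import Cfsg.Prelude.Def_HallClasses

set_option autoImplicit false

namespace Cfsg.Agent.Lib.Helper6_Pronormal

theorem mem_map_conj {G : Type*} [Group G] (K : Subgroup G) (g x : G) :
    x ∈ K.map (MulAut.conj g).toMonoidHom ↔ g⁻¹ * x * g ∈ K := by
  constructor
  · rintro ⟨k, hk, rfl⟩
    have : g⁻¹ * ((MulAut.conj g).toMonoidHom k) * g = k := by
      show g⁻¹ * (g * k * g⁻¹) * g = k
      group
    rw [this]; exact hk
  · intro h
    refine ⟨g⁻¹ * x * g, h, ?_⟩
    show g * (g⁻¹ * x * g) * g⁻¹ = x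
    group

theorem conj_mem_map_conj {G : Type*} [Group G] (K : Subgroup G) (g k : G) (hk : k ∈ K) :
    g * k * g⁻¹ ∈ K.map (MulAut.conj g).toMonoidHom := by
  rw [mem_map_conj]
  have : g⁻¹ * (g * k * g⁻¹) * g = k := by group
  rw [this]; exact hk

/-- if `K^g = K^x` then `x⁻¹ g` normalizes `K` -/
theorem mem_normalizer_of_map_eq {G : Type*} [Group G] (K : Subgroup G) (g x : G)
    (h : K.map (MulAut.conj g).toMonoidHom = K.map (MulAut.conj x).toMonoidHom) :
    x⁻¹ * g ∈ Subgroup.normalizer (K : Set G) := by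
  rw [Subgroup.mem_normalizer_iff]
  intro k
  have e := SetLike.ext_iff.mp h (g * k * g⁻¹)
  rw [mem_map_conj, mem_map_conj] at e
  have e1 : g⁻¹ * (g * k * g⁻¹) * g = k := by group
  have e2 : x⁻¹ * (g * k * g⁻¹) * x = x⁻¹ * g * k * (x⁻¹ * g)⁻¹ := by group
  rw [e1, e2] at e
  exact e

/-- conjugating by `g * n` with `n` normalizing `K` is conjugating by `g` -/
theorem map_conj_mul_normalizer {G : Type*} [Group G] (K : Subgroup G) (g n : G)
    (hn : n ∈ Subgroup.normalizer (K : Set G)) :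
    K.map (MulAut.conj (g * n)).toMonoidHom = K.map (MulAut.conj g).toMonoidHom := by
  ext y
  rw [mem_map_conj, mem_map_conj]
  rw [Subgroup.mem_normalizer_iff] at hn
  have e : n * ((g * n)⁻¹ * y * (g * n)) * n⁻¹ = g⁻¹ * y * g := by group
  rw [hn ((g * n)⁻¹ * y * (g * n)), e]

/-- `K^(x*w) = (K^w)^x` -/
theorem map_conj_mul {G : Type*} [Group G] (K : Subgroup G) (x w : G) :
    K.map (MulAut.conj (x * w)).toMonoidHom =
      (K.map (MulAut.conj w).toMonoidHom).map (MulAut.conj x).toMonoidHom := by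
  ext y
  rw [mem_map_conj, mem_map_conj, mem_map_conj]
  have : (x * w)⁻¹ * y * (x * w) = w⁻¹ * (x⁻¹ * y * x) * w := by group
  rw [this]

/-- conjugation commutes with `subgroupOf` -/
theorem subgroupOf_map_conj {G : Type*} [Group G] (A K : Subgroup G) (a : A) :
    (K.subgroupOf A).map (MulAut.conj a).toMonoidHom =
      (K.map (MulAut.conj (a : G)).toMonoidHom).subgroupOf A := by
  ext y
  rw [mem_map_conj, Subgroup.mem_subgroupOf, Subgroup.mem_subgroupOf, mem_map_conj]
  rfl

end Cfsg.Agent.Lib.Helper6_Pronormal
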