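import Mathlib
import Cfsg.Prelude.Def_KGroupFacts

set_option autoImplicit false

namespace Cfsg.Agent.Lib.Helper6_Pullback

open Subgroup
open scoped commutatorElement

universe u v w

/-- The fibre product of `f : G →* E` and `τ : E' →* E`, as a subgroup of `G × E'`. -/
def pb {G : Type u} {E : Type v} {E' : Type w} [Group G] [Group E] [Group E']
    (f : G →* E) (τ : E' →* E) : Subgroup (G × E') :=
  (f.comp (MonoidHom.fst G E')).eqLocus (τ.comp (MonoidHom.snd G E'))

theorem mem_pb {G : Type u} {E : Type v} {E' : Type w} [Group G] [Group E] [Group E']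
    (f : G →* E) (τ : E' →* E) (x : G × E') : x ∈ pb f τ ↔ f x.1 = τ x.2 := Iff.rfl

/-- The projection of the fibre product to `G`. -/
def pbFst {G : Type u} {E : Type v} {E' : Type w} [Group G] [Group E] [Group E']
    (f : G →* E) (τ : E' →* E) : pb f τ →* G :=
  (MonoidHom.fst G E').comp (pb f τ).subtype

/-- Pulling back a stem extension of `E` along a surjection from a commutative group `G`
gives a stem extension of `G`, and the kernel does not shrink. -/
theorem pullback_stem {G : Type u} {E : Type v} {E' : Type w} [CommGroup G] [Group E] [Group E']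
    (f : G →* E) (hf : Function.Surjective f) (τ : E' →* E) (hτ : Cfsg.IsStemExtension τ) :
    Cfsg.IsStemExtension (pbFst f τ) ∧
      ∀ k ∈ τ.ker, ∃ x : pb f τ, x ∈ (pbFst f τ).ker ∧ (x : G × E') = (1, k) := by
  obtain ⟨hsurj, hcent, hcomm⟩ := hτ
  have hker : ∀ x : pb f τ, x ∈ (pbFst f τ).ker → (x : G × E').2 ∈ τ.ker := by
    intro x hx
    rw [MonoidHom.mem_ker] at hx ⊢
    have h1 : (x : G × E').1 = 1 := hx
    have h2 := (mem_pb f τ x).mp x.2
    rw [← h2, h1, map_one]
  have hsnd : Function.Surjective ((MonoidHom.snd G E').comp (pb f τ).subtype) := by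
    intro e
    obtain ⟨g, hg⟩ := hf (τ e)
    exact ⟨⟨(g, e), hg⟩, rfl⟩
  refine ⟨⟨?_, ?_, ?_⟩, ?_⟩
  · intro g
    obtain ⟨e, he⟩ := hsurj (f g)
    exact ⟨⟨(g, e), he.symm⟩, rfl⟩
  · intro x hx
    have h2 := hcent (hker x hx)
    rw [Subgroup.mem_center_iff] at h2 ⊢
    intro y
    apply Subtype.ext
    apply Prod.ext
    · exact mul_comm _ _
    · exact h2 _
  · intro x hx
    have h2 : (x : G × E').2 ∈ commutator E' := hcomm (hker x hx)
    have hmap : (commutator (pb f τ)).map ((MonoidHom.snd G E').comp (pb f τ).subtype)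
        = commutator E' := by
      rw [commutator_def, Subgroup.map_commutator, ← MonoidHom.range_eq_map,
        MonoidHom.range_eq_top.mpr hsnd, commutator_def]
    rw [← hmap] at h2
    obtain ⟨y, hy, hyx⟩ := h2
    have hy1 : (pbFst f τ) y = 1 :=
      MonoidHom.mem_ker.mp (Abelianization.commutator_subset_ker (pbFst f τ) hy)
    have hxy : x = y := by
      apply Subtype.ext
      apply Prod.ext
      · have h1 : (x : G × E').1 = 1 := hx
        rw [h1]; exact hy1.symm
      · exact hyx.symm
    rw [hxy]; exact hy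
  · intro k hk
    refine ⟨⟨(1, k), ?_⟩, ?_, rfl⟩
    · rw [mem_pb, map_one]; exact hk.symm
    · rfl

end Cfsg.Agent.Lib.Helper6_Pullback
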