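import Mathlib

set_option autoImplicit false

/-!
# Groups in which every non-abelian subgroup is self-normalizing
-/

namespace Cfsg.Agent.Lib.Helper6_SelfNorm

open Subgroup
open scoped commutatorElement

section mna

variable {Q : Type*} [Group Q] [Finite Q] {p : ℕ} [Fact p.Prime]

/-- A subgroup of prime order is generated by any of its non-identity elements. -/
theorem eq_zpowers_of_card_prime (H : Subgroup Q) (hH : Nat.card H = p) (w : Q) (hw : w ∈ H)
    (hw1 : w ≠ 1) : H = zpowers w := by
  have hp : p.Prime := Fact.out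
  symm
  apply Subgroup.eq_of_le_of_card_ge
  · rw [zpowers_le]; exact hw
  · rw [Nat.card_zpowers, hH]
    have h1 : orderOf w ∣ p := by
      rw [← hH]; exact Subgroup.orderOf_dvd_natCard _ hw
    rcases (Nat.dvd_prime hp).mp h1 with h2 | h2
    · exact absurd (orderOf_eq_one_iff.mp h2) hw1
    · rw [h2]

/-- In a minimal non-abelian `p`-group the centralizer of a non-central element is a normal
subgroup of index `p`. -/
theorem mna_centralizer (hQ : IsPGroup p Q)
    (hmin : ∀ H : Subgroup Q, H ≠ ⊤ → ∀ x ∈ H, ∀ y ∈ H, x * y = y * x)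
    (a : Q) (ha : a ∉ center Q) :
    (centralizer ({a} : Set Q)).index = p ∧ (centralizer ({a} : Set Q)).Normal := by
  have hp : p.Prime := Fact.out
  set M := centralizer ({a} : Set Q) with hM
  have hMtop : M ≠ ⊤ := by
    intro h
    apply ha
    rw [mem_center_iff]
    intro g
    have : g ∈ M := by rw [h]; exact mem_top g
    rw [hM, mem_centralizer_singleton_iff] at this
    exact this
  obtain ⟨k, hk⟩ := hQ.exists_card_eq
  obtain ⟨n, hn⟩ := (hQ.to_subgroup M).exists_card_eq
  have hnk : n < k := by
    by_contra hcon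
    push Not at hcon
    apply hMtop
    apply Subgroup.eq_top_of_card_eq
    have h1 : Nat.card M ∣ Nat.card Q := Subgroup.card_subgroup_dvd_card M
    have h2 : Nat.card Q ∣ Nat.card M := by
      rw [hk, hn]; exact pow_dvd_pow p hcon
    exact Nat.dvd_antisymm h1 h2
  have hk1 : k - 1 + 1 = k := by omega
  obtain ⟨K, hKc, hMK⟩ := Sylow.exists_subgroup_card_pow_prime_le p (m := k - 1)
    (by rw [hk]; exact pow_dvd_pow p (by omega)) M hn (by omega)
  have hKtop : K ≠ ⊤ := by
    intro h
    rw [h, Subgroup.card_top, hk] at hKc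
    have := Nat.pow_right_injective hp.two_le hKc
    omega
  have haM : a ∈ M := by rw [hM, mem_centralizer_singleton_iff]
  have hKM : K ≤ M := by
    intro x hx
    rw [hM, mem_centralizer_singleton_iff]
    exact hmin K hKtop x hx a (hMK haM)
  have hMeq : M = K := le_antisymm hMK hKM
  have hidx : M.index = p := by
    have h1 := Subgroup.card_mul_index M
    rw [hMeq, hKc, hk] at h1
    have h2 : p ^ (k - 1) * p = p ^ k := by rw [← pow_succ, hk1]
    rw [← h2] at h1
    rw [hMeq]
    exact Nat.eq_of_mul_eq_mul_left (pow_pos hp.pos _) h1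
  refine ⟨hidx, ?_⟩
  apply Subgroup.normal_of_index_eq_minFac_card
  rw [hidx, hk, Nat.Prime.pow_minFac hp (by omega)]

/-- A minimal non-abelian `p`-group has class 2. -/
theorem mna_comm_central (hQ : IsPGroup p Q)
    (hmin : ∀ H : Subgroup Q, H ≠ ⊤ → ∀ x ∈ H, ∀ y ∈ H, x * y = y * x)
    (g a : Q) : ⁅g, a⁆ ∈ center Q := by
  have hp : p.Prime := Fact.out
  by_cases hcomm : g * a = a * g
  · have : ⁅g, a⁆ = 1 := by
      rw [commutatorElement_def, hcomm]; group
    rw [this]; exact one_mem _
  have ha : a ∉ center Q := fun h => hcomm (mem_center_iff.mp h g)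
  have hg : g ∉ center Q := fun h => hcomm (mem_center_iff.mp h a).symm
  obtain ⟨hia, hna⟩ := mna_centralizer hQ hmin a ha
  obtain ⟨hig, hng⟩ := mna_centralizer hQ hmin g hg
  set Ma := centralizer ({a} : Set Q) with hMa
  set Mg := centralizer ({g} : Set Q) with hMg
  have hMatop : Ma ≠ ⊤ := by
    intro h
    rw [h, Subgroup.index_top] at hia
    exact hp.one_lt.ne hia
  have hMgtop : Mg ≠ ⊤ := by
    intro h
    rw [h, Subgroup.index_top] at hig
    exact hp.one_lt.ne hig
  have haMa : a ∈ Ma := by rw [hMa, mem_centralizer_singleton_iff]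
  have hgMg : g ∈ Mg := by rw [hMg, mem_centralizer_singleton_iff]
  set w := ⁅g, a⁆ with hw
  have hw_a : w ∈ Ma := by
    rw [hw, commutatorElement_def]
    exact mul_mem (hna.conj_mem a haMa g) (inv_mem haMa)
  have hw_g : w ∈ Mg := by
    rw [hw, commutatorElement_def]
    have : g * a * g⁻¹ * a⁻¹ = g * (a * g⁻¹ * a⁻¹) := by group
    rw [this]
    exact mul_mem hgMg (hng.conj_mem g⁻¹ (inv_mem hgMg) a)
  set C := centralizer ({w} : Set Q) with hC
  have hMaC : Ma ≤ C := by
    intro x hx
    rw [hC, mem_centralizer_singleton_iff]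
    exact hmin Ma hMatop x hx w hw_a
  have hgC : g ∈ C := by
    rw [hC, mem_centralizer_singleton_iff]
    exact hmin Mg hMgtop g hgMg w hw_g
  have hCidx : C.index ∣ p := by rw [← hia]; exact Subgroup.index_dvd_of_le hMaC
  rcases (Nat.dvd_prime hp).mp hCidx with h1 | h1
  · have hCtop : C = ⊤ := Subgroup.index_eq_one.mp h1
    rw [mem_center_iff]
    intro x
    have hx : x ∈ C := by rw [hCtop]; exact mem_top x
    rw [hC, mem_centralizer_singleton_iff] at hx
    exact hx
  · exfalso
    have hMC : Ma = C := by
      apply Subgroup.eq_of_le_of_card_ge hMaC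
      have e1 := Subgroup.card_mul_index C
      have e2 := Subgroup.card_mul_index Ma
      rw [h1] at e1
      rw [hia] at e2
      have e3 : Nat.card C * p = Nat.card Ma * p := by rw [e1, e2]
      exact le_of_eq (Nat.eq_of_mul_eq_mul_right hp.pos e3)
    apply hcomm
    have hgMa : g ∈ Ma := by rw [hMC]; exact hgC
    rw [hMa, mem_centralizer_singleton_iff] at hgMa
    exact hgMa

omit [Finite Q] in
/-- In a class 2 group `x ↦ ⁅x, b⁆` is a homomorphism. -/
theorem comm_mul_left (hcent : ∀ g a : Q, ⁅g, a⁆ ∈ center Q) (b x y : Q) :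
    ⁅x * y, b⁆ = ⁅x, b⁆ * ⁅y, b⁆ := by
  have hc := mem_center_iff.mp (hcent y b)
  calc ⁅x * y, b⁆ = x * ⁅y, b⁆ * b * x⁻¹ * b⁻¹ := by
        simp only [commutatorElement_def]; group
    _ = ⁅y, b⁆ * x * b * x⁻¹ * b⁻¹ := by rw [hc x]
    _ = ⁅y, b⁆ * ⁅x, b⁆ := by simp only [commutatorElement_def]; group
    _ = ⁅x, b⁆ * ⁅y, b⁆ := (hc _).symm

/-- The homomorphism `x ↦ ⁅x, b⁆` of a class 2 group. -/
noncomputable def commHom (hcent : ∀ g a : Q, ⁅g, a⁆ ∈ center Q) (b : Q) : Q →* Q :=
  MonoidHom.mk' (fun x => ⁅x, b⁆) (fun x y => comm_mul_left hcent b x y)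

omit [Finite Q] in
theorem commHom_apply (hcent : ∀ g a : Q, ⁅g, a⁆ ∈ center Q) (b x : Q) :
    commHom hcent b x = ⁅x, b⁆ := rfl

omit [Finite Q] in
theorem commHom_ker (hcent : ∀ g a : Q, ⁅g, a⁆ ∈ center Q) (b : Q) :
    (commHom hcent b).ker = centralizer ({b} : Set Q) := by
  ext x
  rw [MonoidHom.mem_ker, commHom_apply, mem_centralizer_singleton_iff, commutatorElement_def]
  constructor
  · intro h
    calc x * b = x * b * x⁻¹ * b⁻¹ * (b * x) := by group
      _ = b * x := by rw [h, one_mul]
  · intro h
    rw [h]; group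

/-- The image of `x ↦ ⁅x, b⁆` has order `p` for `b` non-central. -/
theorem card_commHom_range (hQ : IsPGroup p Q)
    (hmin : ∀ H : Subgroup Q, H ≠ ⊤ → ∀ x ∈ H, ∀ y ∈ H, x * y = y * x)
    (b : Q) (hb : b ∉ center Q) :
    Nat.card (commHom (mna_comm_central hQ hmin) b).range = p := by
  rw [← Subgroup.index_ker, commHom_ker]
  exact (mna_centralizer hQ hmin b hb).1

/-- In a minimal non-abelian `p`-group all commutators lie in the group of order `p` generated by
any non-identity element of the derived subgroup. -/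
theorem mna_commutator (hQ : IsPGroup p Q)
    (hmin : ∀ H : Subgroup Q, H ≠ ⊤ → ∀ x ∈ H, ∀ y ∈ H, x * y = y * x)
    (w : Q) (hw : w ∈ commutator Q) (hw1 : w ≠ 1) (x y : Q) : ⁅x, y⁆ ∈ zpowers w := by
  have hp : p.Prime := Fact.out
  have hcent := mna_comm_central hQ hmin
  -- a non-commuting pair
  have hex : ∃ a b : Q, a * b ≠ b * a := by
    by_contra hcon
    push Not at hcon
    apply hw1
    have : commutator Q = ⊥ := by
      rw [_root_.commutator_def, Subgroup.commutator_eq_bot_iff_le_centralizer]
      intro g _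
      rw [mem_centralizer_iff]
      intro h _
      exact hcon h g
    rw [this, mem_bot] at hw
    exact hw
  obtain ⟨a, b, hab⟩ := hex
  have ha : a ∉ center Q := fun h => hab (mem_center_iff.mp h b).symm
  have hb : b ∉ center Q := fun h => hab (mem_center_iff.mp h a)
  set c := ⁅a, b⁆ with hc
  have hc1 : c ≠ 1 := by
    intro h
    apply hab
    rw [hc, commutatorElement_def] at h
    calc a * b = a * b * a⁻¹ * b⁻¹ * (b * a) := by group
      _ = b * a := by rw [h, one_mul]
  have hcard : Nat.card (zpowers c) = p := by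
    have h1 := card_commHom_range hQ hmin b hb
    have h2 : c ∈ (commHom hcent b).range := ⟨a, rfl⟩
    rw [eq_zpowers_of_card_prime _ h1 c h2 hc1] at h1
    exact h1
  -- key: every commutator lies in `zpowers c`
  have key : ∀ u v : Q, ⁅u, v⁆ ∈ zpowers c := by
    -- ranges of the commutator homs of non-central elements not commuting with a or b
    have hrb : (commHom hcent b).range = zpowers c :=
      eq_zpowers_of_card_prime _ (card_commHom_range hQ hmin b hb) c ⟨a, rfl⟩ hc1
    have hra : (commHom hcent a).range = zpowers c := by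
      have h2 : c⁻¹ ∈ (commHom hcent a).range := ⟨b, by
        rw [commHom_apply, hc, commutatorElement_inv]⟩
      have h3 : c ∈ (commHom hcent a).range := by
        have := inv_mem h2
        rwa [inv_inv] at this
      exact eq_zpowers_of_card_prime _ (card_commHom_range hQ hmin a ha) c h3 hc1
    -- for `d ∈ {a, b}` with range `zpowers c`, and `v` not commuting with `d`
    have step : ∀ d : Q, (∀ hd : d ∉ center Q, True) → (commHom hcent d).range = zpowers c →
        ∀ v : Q, d * v ≠ v * d → ∀ u : Q, ⁅u, v⁆ ∈ zpowers c := by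
      intro d _ hrd v hdv u
      have hv : v ∉ center Q := fun h => hdv (mem_center_iff.mp h d)
      set e := ⁅d, v⁆ with he
      have he1 : e ≠ 1 := by
        intro h
        apply hdv
        rw [he, commutatorElement_def] at h
        calc d * v = d * v * d⁻¹ * v⁻¹ * (v * d) := by group
          _ = v * d := by rw [h, one_mul]
      have hed : e ∈ zpowers c := by
        rw [← hrd]
        have h2 : e⁻¹ ∈ (commHom hcent d).range := ⟨v, by
          rw [commHom_apply, he, commutatorElement_inv]⟩
        have := inv_mem h2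
        rwa [inv_inv] at this
      have hze : zpowers c = zpowers e := eq_zpowers_of_card_prime _ hcard e hed he1
      have hrv : (commHom hcent v).range = zpowers e :=
        eq_zpowers_of_card_prime _ (card_commHom_range hQ hmin v hv) e ⟨d, rfl⟩ he1
      rw [hze, ← hrv]
      exact ⟨u, rfl⟩
    intro u v
    by_cases hav : a * v = v * a
    · by_cases hbv : b * v = v * b
      · -- `v` commutes with `a` and `b`: then `v` is central
        by_cases hv : v ∈ center Q
        · have : ⁅u, v⁆ = 1 := by
            rw [commutatorElement_def, mem_center_iff.mp hv u]; group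
          rw [this]; exact one_mem _
        · exfalso
          obtain ⟨hiv, -⟩ := mna_centralizer hQ hmin v hv
          have hMv : centralizer ({v} : Set Q) ≠ ⊤ := by
            intro h
            rw [h, Subgroup.index_top] at hiv
            exact hp.one_lt.ne hiv
          apply hab
          apply hmin _ hMv
          · rw [mem_centralizer_singleton_iff]; exact hav
          · rw [mem_centralizer_singleton_iff]; exact hbv
      · exact step b (fun _ => trivial) hrb v hbv u
    · exact step a (fun _ => trivial) hra v hav u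
  -- `w` generates `zpowers c`
  have hwc : w ∈ zpowers c := by
    have hle : commutator Q ≤ zpowers c := by
      rw [_root_.commutator_def, Subgroup.commutator_le]
      intro g _ h _
      exact key g h
    exact hle hw
  have hzw : zpowers c = zpowers w := eq_zpowers_of_card_prime _ hcard w hwc hw1
  rw [← hzw]
  exact key x y

end mna

section main

variable {G : Type*} [Group G] [Finite G]

omit [Finite G] in
/-- Elements of a cyclic subgroup commute. -/
theorem comm_of_mem_zpowers {c x y : G} (hx : x ∈ zpowers c) (hy : y ∈ zpowers c) :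
    x * y = y * x := by
  obtain ⟨i, rfl⟩ := mem_zpowers_iff.mp hx
  obtain ⟨j, rfl⟩ := mem_zpowers_iff.mp hy
  rw [← zpow_add, ← zpow_add, add_comm]

omit [Finite G] in
/-- A proper normal subgroup is abelian. -/
theorem comm_of_normal
    (hS : ∀ H : Subgroup G, ¬ IsMulCommutative H → normalizer (H : Set G) = H)
    (N : Subgroup G) [N.Normal] (hN : N ≠ ⊤) : IsMulCommutative N := by
  by_contra h
  have := hS N h
  rw [normalizer_eq_top] at this
  exact hN this.symm

omit [Finite G] in
/-- A non-solvable group with the property is perfect. -/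
theorem perfect_of_not_solvable
    (hS : ∀ H : Subgroup G, ¬ IsMulCommutative H → normalizer (H : Set G) = H)
    (hns : ¬ Group.IsSolvable G) : commutator G = ⊤ := by
  by_contra hne
  apply hns
  have hc := comm_of_normal hS (commutator G) hne
  haveI : Group.IsSolvable ↥(commutator G) :=
    Group.isSolvable_of_comm (fun a b => hc.is_comm.comm a b)
  exact Group.isSolvable_of_ker_le_range (commutator G).subtype Abelianization.of
    (by rw [Abelianization.ker_of, Subgroup.range_subtype])

omit [Finite G] in
/-- Self-normalizing passes to quotients. -/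
theorem normalizer_eq_of_comap {S : Type*} [Group S]
    (hS : ∀ H : Subgroup G, ¬ IsMulCommutative H → normalizer (H : Set G) = H)
    (f : G →* S) (hf : Function.Surjective f) (K : Subgroup S)
    (hK : ¬ IsMulCommutative (K.comap f)) : normalizer (K : Set S) = K := by
  have := hS (K.comap f) hK
  rw [← comap_normalizer_eq_of_surjective K hf] at this
  exact comap_injective hf this

/-- Burnside's transfer theorem in a perfect group. -/
theorem sylow_eq_bot_of_perfect (hperf : commutator G = ⊤) {p : ℕ} [Fact p.Prime]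
    (P : Sylow p G)
    (hP : normalizer ((P : Subgroup G) : Set G) ≤ centralizer ((P : Subgroup G) : Set G)) :
    (P : Subgroup G) = ⊥ := by
  have hc := MonoidHom.ker_transferSylow_isComplement' P hP
  have hcomm : ∀ x y : ↥(P : Subgroup G), x * y = y * x := by
    intro x y
    apply Subtype.ext
    have := hP (le_normalizer y.2)
    rw [mem_centralizer_iff] at this
    exact this x x.2
  have hker : (MonoidHom.transferSylow P hP).ker = ⊤ := by
    rw [eq_top_iff, ← hperf, _root_.commutator_def, Subgroup.commutator_le]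
    intro a _ b _
    rw [MonoidHom.mem_ker, map_commutatorElement, commutatorElement_def,
      hcomm (MonoidHom.transferSylow P hP a) (MonoidHom.transferSylow P hP b)]
    group
  have h1 := hc.card_mul_card
  rw [hker, Subgroup.card_top] at h1
  have hpos : 0 < Nat.card G := Nat.card_pos
  apply Subgroup.eq_bot_of_card_eq
  have : Nat.card G * Nat.card (P : Subgroup G) = Nat.card G * 1 := by rw [h1, mul_one]
  exact Nat.eq_of_mul_eq_mul_left hpos this

omit [Finite G] in
theorem perfect_quotient (hperf : commutator G = ⊤) (N : Subgroup G) [N.Normal] :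
    commutator (G ⧸ N) = ⊤ := by
  have h1 := Subgroup.map_commutator (⊤ : Subgroup G) ⊤ (QuotientGroup.mk' N)
  rw [Subgroup.map_top_of_surjective _ (QuotientGroup.mk'_surjective N)] at h1
  rw [_root_.commutator_def] at hperf ⊢
  rw [← h1, hperf, Subgroup.map_top_of_surjective _ (QuotientGroup.mk'_surjective N)]

/-- There is no proper self-centralizing normal subgroup. -/
theorem no_self_centralizing
    (hS : ∀ H : Subgroup G, ¬ IsMulCommutative H → normalizer (H : Set G) = H)
    (hperf : commutator G = ⊤) (N : Subgroup G) [N.Normal] (hN : N ≠ ⊤)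
    (hC : centralizer (N : Set G) = N) : False := by
  set f := QuotientGroup.mk' N with hf
  have hfs : Function.Surjective f := QuotientGroup.mk'_surjective N
  have hcard : Nat.card (G ⧸ N) ≠ 1 := by
    rw [← Subgroup.index_eq_card]
    intro h
    exact hN (Subgroup.index_eq_one.mp h)
  set p := (Nat.card (G ⧸ N)).minFac with hp
  haveI : Fact p.Prime := ⟨Nat.minFac_prime hcard⟩
  have P : Sylow p (G ⧸ N) := default
  have hPbot : (P : Subgroup (G ⧸ N)) ≠ ⊥ := P.ne_bot_of_dvd_card (Nat.minFac_dvd _)
  -- every nontrivial subgroup of the quotient is self-normalizing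
  have T1 : ∀ K : Subgroup (G ⧸ N), K ≠ ⊥ → normalizer (K : Set (G ⧸ N)) = K := by
    intro K hK
    apply normalizer_eq_of_comap hS f hfs
    intro hcomm
    obtain ⟨k, hk⟩ := Subgroup.ne_bot_iff_exists_ne_one.mp hK
    obtain ⟨x, hx⟩ := hfs (k : G ⧸ N)
    have hxN : x ∉ N := by
      intro hxN
      apply hk
      apply Subtype.ext
      rw [← hx, Subgroup.coe_one]
      exact (QuotientGroup.eq_one_iff x).mpr hxN
    have hxC : x ∉ centralizer (N : Set G) := by rw [hC]; exact hxN
    rw [mem_centralizer_iff] at hxC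
    push Not at hxC
    obtain ⟨n, hn, hnx⟩ := hxC
    have hxK : x ∈ K.comap f := by
      rw [mem_comap, hx]; exact k.2
    have hnK : n ∈ K.comap f := by
      rw [mem_comap]
      have : f n = 1 := (QuotientGroup.eq_one_iff n).mpr hn
      rw [this]; exact one_mem _
    have := hcomm.is_comm.comm (⟨n, hnK⟩ : K.comap f) ⟨x, hxK⟩
    exact hnx (congrArg Subtype.val this)
  haveI : Nontrivial ↥(P : Subgroup (G ⧸ N)) := (Subgroup.nontrivial_iff_ne_bot _).mpr hPbot
  haveI := IsPGroup.center_nontrivial P.isPGroup'
  obtain ⟨c, hc⟩ := exists_ne (1 : center ↥(P : Subgroup (G ⧸ N)))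
  set c' : G ⧸ N := ((c : ↥(P : Subgroup (G ⧸ N))) : G ⧸ N) with hc'
  have hc'1 : c' ≠ 1 := by
    intro h
    apply hc
    apply Subtype.ext
    apply Subtype.ext
    exact h
  have hKbot : zpowers c' ≠ ⊥ := by
    intro h
    apply hc'1
    have : c' ∈ zpowers c' := mem_zpowers c'
    rw [h, mem_bot] at this
    exact this
  have hPK : (P : Subgroup (G ⧸ N)) ≤ zpowers c' := by
    rw [← T1 _ hKbot]
    intro g hg
    have hgc : g * c' = c' * g := by
      have := mem_center_iff.mp c.2 ⟨g, hg⟩
      exact congrArg Subtype.val this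
    apply centralizer_le_normalizer ((zpowers c' : Subgroup (G ⧸ N)) : Set (G ⧸ N))
    rw [mem_centralizer_iff]
    intro h hh
    obtain ⟨i, rfl⟩ := mem_zpowers_iff.mp hh
    exact ((Commute.zpow_right (show Commute g c' from hgc) i).eq).symm
  have hNC : normalizer ((P : Subgroup (G ⧸ N)) : Set (G ⧸ N))
      ≤ centralizer ((P : Subgroup (G ⧸ N)) : Set (G ⧸ N)) := by
    rw [T1 _ hPbot]
    intro g hg
    rw [mem_centralizer_iff]
    intro h hh
    exact comm_of_mem_zpowers (hPK hh) (hPK hg)
  exact hPbot (sylow_eq_bot_of_perfect (perfect_quotient hperf N) P hNC)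

/-- The centre of a non-solvable group with the property is trivial. -/
theorem center_eq_bot
    (hS : ∀ H : Subgroup G, ¬ IsMulCommutative H → normalizer (H : Set G) = H)
    (hperf : commutator G = ⊤) : center G = ⊥ := by
  by_contra hZ
  have hcard : Nat.card (center G) ≠ 1 := by
    intro h
    exact hZ (Subgroup.eq_bot_of_card_eq _ h)
  set p := (Nat.card (center G)).minFac with hp
  haveI : Fact p.Prime := ⟨Nat.minFac_prime hcard⟩
  have hpp : p.Prime := Fact.out
  obtain ⟨z0, hz0⟩ := exists_prime_orderOf_dvd_card' (G := center G) p (Nat.minFac_dvd _)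
  set z : G := (z0 : G) with hz
  have hzc : z ∈ center G := z0.2
  have hzo : orderOf z = p := by rw [hz, Subgroup.orderOf_coe]; exact hz0
  have hz1 : z ≠ 1 := by
    intro h
    rw [h, orderOf_one] at hzo
    exact hpp.one_lt.ne hzo
  have hzcomm : ∀ g : G, g * z = z * g := fun g => mem_center_iff.mp hzc g
  have hpz : IsPGroup p (zpowers z) := IsPGroup.of_card (n := 1) (by rw [Nat.card_zpowers, hzo, pow_one])
  obtain ⟨P, hzP⟩ := hpz.exists_le_sylow
  have hzmem : z ∈ (P : Subgroup G) := hzP (mem_zpowers z)
  -- transfer into the abelianization of `P`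
  set idx := (P : Subgroup G).index with hidx
  have key : ∀ (k : ℕ) (g₀ : G), g₀⁻¹ * z ^ k * g₀ ∈ (P : Subgroup G) →
      g₀⁻¹ * z ^ k * g₀ = z ^ k := by
    intro k g₀ _
    have : g₀ * z ^ k = z ^ k * g₀ := (Commute.pow_right (show Commute g₀ z from hzcomm g₀) k).eq
    calc g₀⁻¹ * z ^ k * g₀ = g₀⁻¹ * (z ^ k * g₀) := by group
      _ = g₀⁻¹ * (g₀ * z ^ k) := by rw [this]
      _ = z ^ k := by group
  have hV := MonoidHom.transfer_eq_pow
    (Abelianization.of : ↥(P : Subgroup G) →* Abelianization ↥(P : Subgroup G)) z key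
  have hV1 : MonoidHom.transfer
      (Abelianization.of : ↥(P : Subgroup G) →* Abelianization ↥(P : Subgroup G)) z = 1 := by
    have h1 := Abelianization.commutator_subset_ker (MonoidHom.transfer
      (Abelianization.of : ↥(P : Subgroup G) →* Abelianization ↥(P : Subgroup G)))
    rw [hperf] at h1
    exact MonoidHom.mem_ker.mp (h1 (mem_top z))
  rw [hV1] at hV
  have hzidxP : z ^ idx ∈ (P : Subgroup G) := pow_mem hzmem idx
  have hwi : (⟨z ^ idx, hzidxP⟩ : ↥(P : Subgroup G)) ∈ commutator ↥(P : Subgroup G) := by
    rw [← Abelianization.ker_of, MonoidHom.mem_ker]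
    exact hV.symm
  -- `z` is a power of `z ^ idx`
  have hcop : (orderOf z).Coprime idx := by
    rw [hzo]
    exact (Nat.Prime.coprime_iff_not_dvd hpp).mpr P.not_dvd_index
  have hzz : zpowers (z ^ idx) = zpowers z := by
    apply Subgroup.eq_of_le_of_card_ge
    · rw [zpowers_le]; exact pow_mem (mem_zpowers z) idx
    · rw [Nat.card_zpowers, Nat.card_zpowers, hcop.orderOf_pow]
  obtain ⟨m, hm⟩ := mem_zpowers_iff.mp (show z ∈ zpowers (z ^ idx) by rw [hzz]; exact mem_zpowers z)
  set w : ↥(P : Subgroup G) := ⟨z, hzmem⟩ with hw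
  have hwmem : w ∈ commutator ↥(P : Subgroup G) := by
    have h1 : w = (⟨z ^ idx, hzidxP⟩ : ↥(P : Subgroup G)) ^ m := by
      apply Subtype.ext
      rw [Subgroup.coe_zpow]
      exact hm.symm
    rw [h1]
    exact zpow_mem hwi m
  have hw1 : w ≠ 1 := by
    intro h
    exact hz1 (congrArg Subtype.val h)
  -- `P` is not abelian, hence self-normalizing
  have hPnc : ¬ IsMulCommutative ↥(P : Subgroup G) := by
    intro hcomm
    apply hw1
    have hbot : commutator ↥(P : Subgroup G) = ⊥ := by
      rw [eq_bot_iff, _root_.commutator_def, Subgroup.commutator_le]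
      intro a _ b _
      rw [mem_bot, commutatorElement_def, hcomm.is_comm.comm a b]
      group
    rw [hbot, mem_bot] at hwmem
    exact hwmem
  have hPN : normalizer ((P : Subgroup G) : Set G) = P := hS _ hPnc
  -- proper subgroups of `P` are abelian
  have hmin : ∀ H : Subgroup ↥(P : Subgroup G), H ≠ ⊤ → ∀ x ∈ H, ∀ y ∈ H, x * y = y * x := by
    intro H hH x hx y hy
    by_contra hxy
    haveI : Group.IsNilpotent ↥(P : Subgroup G) := P.isPGroup'.isNilpotent
    have hnc := Group.normalizerCondition_of_isNilpotent (G := ↥(P : Subgroup G)) H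
      (lt_top_iff_ne_top.mpr hH)
    obtain ⟨g, hgN, hgH⟩ := Set.exists_of_ssubset hnc
    set Q := H.map (P : Subgroup G).subtype with hQ
    have hQnc : ¬ IsMulCommutative ↥Q := by
      intro hcomm
      apply hxy
      have hxQ : (x : G) ∈ Q := ⟨x, hx, rfl⟩
      have hyQ : (y : G) ∈ Q := ⟨y, hy, rfl⟩
      have h5 := hcomm.is_comm.comm (⟨(x : G), hxQ⟩ : Q) ⟨(y : G), hyQ⟩
      have h6 : (x : G) * (y : G) = (y : G) * (x : G) := congrArg (fun t : Q => (t : G)) h5
      apply Subtype.ext
      exact h6
    have hQN := hS Q hQnc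
    have hgQ : (g : G) ∈ normalizer (Q : Set G) := by
      apply Subgroup.le_normalizer_map (P : Subgroup G).subtype
      exact ⟨g, hgN, rfl⟩
    rw [hQN] at hgQ
    obtain ⟨g', hg', hgg'⟩ := hgQ
    have : g' = g := Subtype.ext hgg'
    rw [this] at hg'
    exact hgH hg'
  have hmna := mna_commutator P.isPGroup' hmin w hwmem hw1
  -- pass to the quotient by `⟨z⟩`
  haveI hZn : (zpowers z).Normal := by
    refine ⟨fun n hn g => ?_⟩
    obtain ⟨i, rfl⟩ := mem_zpowers_iff.mp hn
    have : g * z ^ i * g⁻¹ = z ^ i := by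
      have h1 : g * z ^ i = z ^ i * g :=
        (Commute.zpow_right (show Commute g z from hzcomm g) i).eq
      rw [h1]; group
    rw [this]
    exact zpow_mem (mem_zpowers z) i
  set f := QuotientGroup.mk' (zpowers z) with hf
  have hfs : Function.Surjective f := QuotientGroup.mk'_surjective _
  have hker : f.ker = zpowers z := QuotientGroup.ker_mk' _
  set P' : Sylow p (G ⧸ zpowers z) := Sylow.mapSurjective hfs P with hP'
  have hP'coe : (P' : Subgroup (G ⧸ zpowers z)) = (P : Subgroup G).map f :=
    Sylow.coe_mapSurjective hfs P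
  have hcomap : ((P' : Subgroup (G ⧸ zpowers z))).comap f = P := by
    rw [hP'coe, Subgroup.comap_map_eq, hker]
    exact sup_eq_left.mpr hzP
  have hN1 : normalizer ((P' : Subgroup (G ⧸ zpowers z)) : Set (G ⧸ zpowers z)) = P' := by
    apply normalizer_eq_of_comap hS f hfs
    rw [hcomap]
    exact hPnc
  have hNC : normalizer ((P' : Subgroup (G ⧸ zpowers z)) : Set (G ⧸ zpowers z))
      ≤ centralizer ((P' : Subgroup (G ⧸ zpowers z)) : Set (G ⧸ zpowers z)) := by
    rw [hN1]
    intro a ha
    rw [mem_centralizer_iff]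
    intro b hb
    rw [hP'coe] at ha hb
    obtain ⟨x, hx, rfl⟩ := ha
    obtain ⟨y, hy, rfl⟩ := hb
    have h1 := hmna ⟨y, hy⟩ ⟨x, hx⟩
    obtain ⟨i, hi⟩ := mem_zpowers_iff.mp h1
    have h2 : ⁅y, x⁆ = z ^ i := by
      have := congrArg Subtype.val hi
      rw [Subgroup.coe_zpow, commutatorElement_def] at this
      simp only [Subgroup.coe_mul, Subgroup.coe_inv] at this
      rw [commutatorElement_def]
      exact this.symm
    have h3 : f ⁅y, x⁆ = 1 := by
      rw [← MonoidHom.mem_ker, hker, h2]
      exact zpow_mem (mem_zpowers z) i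
    rw [map_commutatorElement, commutatorElement_def] at h3
    calc f y * f x = f y * f x * (f y)⁻¹ * (f x)⁻¹ * (f x * f y) := by group
      _ = f x * f y := by rw [h3, one_mul]
  have hbot := sylow_eq_bot_of_perfect (perfect_quotient hperf (zpowers z)) P' hNC
  rw [hP'coe, Subgroup.map_eq_bot_iff, hker] at hbot
  apply hPnc
  refine ⟨⟨fun a b => ?_⟩⟩
  apply Subtype.ext
  exact comm_of_mem_zpowers (hbot a.2) (hbot b.2)

/-- A finite group in which every non-abelian subgroup is self-normalizing is solvable or
simple. -/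
theorem solvable_or_simple
    (hS : ∀ H : Subgroup G, ¬ IsMulCommutative H → normalizer (H : Set G) = H) :
    Group.IsSolvable G ∨ IsSimpleGroup G := by
  by_contra hcon
  push Not at hcon
  obtain ⟨hns, hnsimp⟩ := hcon
  haveI : Nontrivial G := by
    by_contra hnt
    rw [not_nontrivial_iff_subsingleton] at hnt
    exact hns (Group.isSolvable_of_comm (fun a b => Subsingleton.elim _ _))
  have hperf := perfect_of_not_solvable hS hns
  have hZ := center_eq_bot hS hperf
  have hex : ∃ N : Subgroup G, N.Normal ∧ N ≠ ⊥ ∧ N ≠ ⊤ := by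
    by_contra hcon
    push Not at hcon
    apply hnsimp
    refine ⟨fun H hH => ?_⟩
    by_cases hb : H = ⊥
    · left; exact hb
    · right; exact hcon H hH hb
  obtain ⟨N, hNn, hNbot, hNtop⟩ := hex
  haveI := hNn
  haveI hNc : IsMulCommutative N := comm_of_normal hS N hNtop
  set C := centralizer (N : Set G) with hC
  have hNC : N ≤ C := N.le_centralizer
  have hCtop : C ≠ ⊤ := by
    intro h
    apply hNbot
    rw [eq_bot_iff, ← hZ]
    intro n hn
    rw [mem_center_iff]
    intro g
    have hg : g ∈ C := by rw [h]; exact mem_top g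
    rw [hC, mem_centralizer_iff] at hg
    exact (hg n hn).symm
  haveI hCn : C.Normal := Subgroup.normal_centralizer
  haveI hCc : IsMulCommutative C := comm_of_normal hS C hCtop
  have hCC : centralizer (C : Set G) = C := by
    apply le_antisymm
    · exact Subgroup.centralizer_le (show (N : Set G) ⊆ (C : Set G) from hNC)
    · exact C.le_centralizer
  exact no_self_centralizing hS hperf C hCtop hCC

end main

end Cfsg.Agent.Lib.Helper6_SelfNorm
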