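import Mathlib
import Cfsg.Agent.Lib.Helper6_SelfNorm
import Cfsg.Agent.Lib.Helper7_SmallSimple

set_option autoImplicit false

/-!
# Solvable non-nilpotent groups in which every non-abelian subgroup is self-normalizing
-/

namespace Cfsg.Agent.Lib.Helper6_SelfNorm

open Subgroup
open scoped commutatorElement

section converse

variable {G : Type*} [Group G] [Finite G]

omit [Finite G] in
/-- If `p ∤ i` and `x` has order a power of `p`, then `x` is a power of `x ^ i`. -/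
theorem exists_zpow_eq_self {p : ℕ} (hp : p.Prime) (x : G) (k : ℕ) (hx : orderOf x = p ^ k)
    (i : ℤ) (hi : ¬ (p : ℤ) ∣ i) : ∃ u : ℤ, (x ^ i) ^ u = x := by
  have h1 : IsCoprime (p : ℤ) i := (Prime.coprime_iff_not_dvd (Nat.prime_iff_prime_int.mp hp)).mpr hi
  have h2 : IsCoprime i ((p : ℤ) ^ k) := (h1.symm).pow_right
  obtain ⟨u, v, huv⟩ := h2
  refine ⟨u, ?_⟩
  have hxn : x ^ ((p : ℤ) ^ k) = 1 := by
    have : ((p : ℤ) ^ k) = ((p ^ k : ℕ) : ℤ) := by push_cast; rfl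
    rw [this, zpow_natCast, ← hx, pow_orderOf_eq_one]
  calc (x ^ i) ^ u = x ^ (u * i) := by rw [← zpow_mul, mul_comm]
    _ = x ^ (u * i) * (x ^ ((p : ℤ) ^ k)) ^ v := by rw [hxn, one_zpow, mul_one]
    _ = x ^ (u * i + v * (p : ℤ) ^ k) := by rw [← zpow_mul, ← zpow_add, mul_comm ((p : ℤ) ^ k) v]
    _ = x := by rw [huv, zpow_one]

/-- The converse direction: the described semidirect products have the property. -/
theorem selfnorm_of_struct (x : G) (A : Subgroup G) (p : ℕ) (hp : p.Prime) [hAn : A.Normal]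
    (hAc : IsMulCommutative A) (hx : ∃ k : ℕ, orderOf x = p ^ k)
    (hcompl : (zpowers x).IsComplement' A) (hxp : x ^ p ∈ center G)
    (hfpf : ∀ a : G, a ∈ A → a ≠ 1 → x * a * x⁻¹ ≠ a)
    (H : Subgroup G) (hH : ¬ IsMulCommutative H) : normalizer (H : Set G) = H := by
  obtain ⟨k, hk⟩ := hx
  have hAcomm : ∀ a ∈ A, ∀ b ∈ A, a * b = b * a := by
    intro a ha b hb
    exact congrArg Subtype.val (hAc.is_comm.comm (⟨a, ha⟩ : A) ⟨b, hb⟩)
  -- decomposition of elements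
  have hdec : ∀ g : G, ∃ i : ℤ, ∃ a ∈ A, g = x ^ i * a := by
    intro g
    have hg : g ∈ zpowers x ⊔ A := by rw [hcompl.sup_eq_top]; exact mem_top g
    obtain ⟨y, hy, z, hz, hyz⟩ := mem_sup_of_normal_right.mp hg
    obtain ⟨i, rfl⟩ := mem_zpowers_iff.mp hy
    exact ⟨i, z, hz, hyz.symm⟩
  -- powers of x^p are central
  have hcent : ∀ i : ℤ, (p : ℤ) ∣ i → x ^ i ∈ center G := by
    rintro i ⟨m, rfl⟩
    rw [zpow_mul, zpow_natCast]
    exact zpow_mem hxp m
  -- an element of `H` with exponent prime to `p`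
  have hex : ∃ h ∈ H, ∃ i : ℤ, ∃ a₀ ∈ A, h = x ^ i * a₀ ∧ ¬ (p : ℤ) ∣ i := by
    by_contra hcon
    push Not at hcon
    apply hH
    refine ⟨⟨fun h₁ h₂ => ?_⟩⟩
    apply Subtype.ext
    obtain ⟨i, a₁, ha₁, e₁⟩ := hdec h₁
    obtain ⟨j, a₂, ha₂, e₂⟩ := hdec h₂
    have hi := hcent i (hcon h₁ h₁.2 i a₁ ha₁ e₁)
    have hj := hcent j (hcon h₂ h₂.2 j a₂ ha₂ e₂)
    have c1 := mem_center_iff.mp hi
    have c2 := mem_center_iff.mp hj
    change (h₁ : G) * (h₂ : G) = (h₂ : G) * (h₁ : G)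
    rw [e₁, e₂]
    calc x ^ i * a₁ * (x ^ j * a₂) = x ^ i * (a₁ * x ^ j) * a₂ := by group
      _ = x ^ i * (x ^ j * a₁) * a₂ := by rw [c2 a₁]
      _ = x ^ i * x ^ j * (a₁ * a₂) := by group
      _ = x ^ i * x ^ j * (a₂ * a₁) := by rw [hAcomm a₁ ha₁ a₂ ha₂]
      _ = (x ^ i * x ^ j) * a₂ * a₁ := by group
      _ = (x ^ j * x ^ i) * a₂ * a₁ := by rw [← zpow_add, ← zpow_add, add_comm]
      _ = x ^ j * (x ^ i * a₂) * a₁ := by group
      _ = x ^ j * (a₂ * x ^ i) * a₁ := by rw [c1 a₂]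
      _ = x ^ j * a₂ * (x ^ i * a₁) := by group
  obtain ⟨h, hhH, i, a₀, ha₀, hh, hpi⟩ := hex
  obtain ⟨u, hu⟩ := exists_zpow_eq_self hp x k hk i hpi
  -- `h` acts fixed-point-freely on `A`
  have hfix : ∀ a ∈ A, h * a * h⁻¹ = a → a = 1 := by
    intro a ha hcomm
    by_contra ha1
    apply hfpf a ha ha1
    have h1 : h * a * h⁻¹ = x ^ i * a * (x ^ i)⁻¹ := by
      rw [hh]
      calc x ^ i * a₀ * a * (x ^ i * a₀)⁻¹ = x ^ i * (a₀ * a) * a₀⁻¹ * (x ^ i)⁻¹ := by group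
        _ = x ^ i * (a * a₀) * a₀⁻¹ * (x ^ i)⁻¹ := by rw [hAcomm a₀ ha₀ a ha]
        _ = x ^ i * a * (x ^ i)⁻¹ := by group
    rw [h1] at hcomm
    have hc : Commute (x ^ i) a := by
      have : x ^ i * a = a * x ^ i := by
        calc x ^ i * a = x ^ i * a * (x ^ i)⁻¹ * x ^ i := by group
          _ = a * x ^ i := by rw [hcomm]
      exact this
    have hc2 : Commute x a := by
      have := hc.zpow_left u
      rwa [hu] at this
    calc x * a * x⁻¹ = a * x * x⁻¹ := by rw [hc2.eq]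
      _ = a := by group
  -- `G = ⟨h⟩ A`
  have hdec2 : ∀ g : G, ∃ m : ℤ, ∃ b ∈ A, g = h ^ m * b := by
    intro g
    obtain ⟨j, a', ha', hg⟩ := hdec g
    have e1 : ((x ^ i : G) : G ⧸ A) = (h : G ⧸ A) := by
      rw [QuotientGroup.eq, hh]
      have : (x ^ i)⁻¹ * (x ^ i * a₀) = a₀ := by group
      rw [this]; exact ha₀
    have e2 : ((x : G) : G ⧸ A) = ((h ^ u : G) : G ⧸ A) := by
      rw [QuotientGroup.mk_zpow, ← e1, ← QuotientGroup.mk_zpow, hu]
    have e3 : ((g : G) : G ⧸ A) = ((h ^ (u * j) : G) : G ⧸ A) := by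
      have e4 : ((g : G) : G ⧸ A) = ((x ^ j : G) : G ⧸ A) := by
        rw [eq_comm, QuotientGroup.eq, hg]
        have : (x ^ j)⁻¹ * (x ^ j * a') = a' := by group
        rw [this]; exact ha'
      rw [e4, QuotientGroup.mk_zpow, e2, ← QuotientGroup.mk_zpow, ← zpow_mul]
    rw [eq_comm, QuotientGroup.eq] at e3
    refine ⟨u * j, _, e3, ?_⟩
    group
  -- injectivity of `b ↦ b h b⁻¹ h⁻¹` on `A`
  have hinj : ∀ b ∈ A, ∀ d ∈ A, b * h * b⁻¹ * h⁻¹ = d * h * d⁻¹ * h⁻¹ → b = d := by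
    intro b hb d hd hbd
    have h1 : b * h * b⁻¹ = d * h * d⁻¹ := by
      calc b * h * b⁻¹ = b * h * b⁻¹ * h⁻¹ * h := by group
        _ = d * h * d⁻¹ * h⁻¹ * h := by rw [hbd]
        _ = d * h * d⁻¹ := by group
    have h2 : h * (b⁻¹ * d) * h⁻¹ = b⁻¹ * d := by
      calc h * (b⁻¹ * d) * h⁻¹ = b⁻¹ * (b * h * b⁻¹) * d * h⁻¹ := by group
        _ = b⁻¹ * (d * h * d⁻¹) * d * h⁻¹ := by rw [h1]
        _ = b⁻¹ * d := by group
    have h3 := hfix (b⁻¹ * d) (mul_mem (inv_mem hb) hd) h2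
    calc b = b * (b⁻¹ * d) := by rw [h3, mul_one]
      _ = d := by group
  apply le_antisymm _ le_normalizer
  intro g hg
  obtain ⟨m, b, hb, hgb⟩ := hdec2 g
  have hbN : b ∈ normalizer (H : Set G) := by
    have : b = (h ^ m)⁻¹ * g := by rw [hgb]; group
    rw [this]
    exact mul_mem (inv_mem (le_normalizer (zpow_mem hhH m))) hg
  set c := b * h * b⁻¹ * h⁻¹ with hc
  have hcH : c ∈ H := by
    rw [hc]
    exact mul_mem ((mem_normalizer_iff.mp hbN h).mp hhH) (inv_mem hhH)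
  have hcA : c ∈ A := by
    have : c = b * (h * b⁻¹ * h⁻¹) := by rw [hc]; group
    rw [this]
    exact mul_mem hb (hAn.conj_mem b⁻¹ (inv_mem hb) h)
  -- the injective self-map of `H ⊓ A`
  let ψ : ↥(H ⊓ A) → ↥(H ⊓ A) := fun d => ⟨(d : G) * h * (d : G)⁻¹ * h⁻¹, by
    rw [Subgroup.mem_inf]
    refine ⟨?_, ?_⟩
    · exact mul_mem (mul_mem (mul_mem (Subgroup.mem_inf.mp d.2).1 hhH) (inv_mem (Subgroup.mem_inf.mp d.2).1)) (inv_mem hhH)
    · have : (d : G) * h * (d : G)⁻¹ * h⁻¹ = (d : G) * (h * (d : G)⁻¹ * h⁻¹) := by group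
      rw [this]
      exact mul_mem (Subgroup.mem_inf.mp d.2).2 (hAn.conj_mem _ (inv_mem (Subgroup.mem_inf.mp d.2).2) h)⟩
  have hψinj : Function.Injective ψ := by
    intro d₁ d₂ hd
    apply Subtype.ext
    exact hinj _ (Subgroup.mem_inf.mp d₁.2).2 _ (Subgroup.mem_inf.mp d₂.2).2 (congrArg Subtype.val hd)
  obtain ⟨d, hd⟩ := (Finite.injective_iff_surjective.mp hψinj) ⟨c, hcH, hcA⟩
  have hbd : b = (d : G) := hinj b hb _ (Subgroup.mem_inf.mp d.2).2 (congrArg Subtype.val hd).symm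
  rw [hgb, hbd]
  exact mul_mem (zpow_mem hhH m) (Subgroup.mem_inf.mp d.2).1

end converse

section forward

variable {G : Type*} [Group G] [Finite G]

omit [Finite G] in
/-- A subgroup containing the commutator subgroup is normal. -/
theorem normal_of_commutator_le (M : Subgroup G) (h : commutator G ≤ M) : M.Normal := by
  refine ⟨fun m hm g => ?_⟩
  have e : g * m * g⁻¹ = ⁅g, m⁆ * m := by rw [commutatorElement_def]; group
  rw [e]
  refine mul_mem (h ?_) hm
  rw [_root_.commutator_def]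
  exact Subgroup.commutator_mem_commutator (mem_top g) (mem_top m)

/-- A nontrivial finite solvable group has a normal subgroup of prime index. -/
theorem exists_normal_prime_index [Group.IsSolvable G] [Nontrivial G] :
    ∃ (M : Subgroup G) (p : ℕ), M.Normal ∧ p.Prime ∧ M.index = p := by
  have hlt := Group.IsSolvable.commutator_lt_top_of_nontrivial G
  obtain ⟨M, hMco, hMle⟩ := (eq_top_or_exists_le_coatom (commutator G)).resolve_left hlt.ne
  haveI hMn : M.Normal := normal_of_commutator_le M hMle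
  have hq : Nat.card (G ⧸ M) ≠ 1 := by
    rw [← Subgroup.index_eq_card]
    intro h
    exact hMco.1 (Subgroup.index_eq_one.mp h)
  set p := (Nat.card (G ⧸ M)).minFac with hp
  have hpp : p.Prime := Nat.minFac_prime hq
  haveI : Fact p.Prime := ⟨hpp⟩
  obtain ⟨y', hy'⟩ := exists_prime_orderOf_dvd_card' (G := G ⧸ M) p (Nat.minFac_dvd _)
  obtain ⟨y, rfl⟩ := QuotientGroup.mk'_surjective M y'
  set K := (zpowers (QuotientGroup.mk' M y)).comap (QuotientGroup.mk' M) with hK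
  have hMK : M ≤ K := by
    intro m hm
    rw [hK, mem_comap]
    have : QuotientGroup.mk' M m = 1 := (QuotientGroup.eq_one_iff m).mpr hm
    rw [this]; exact one_mem _
  have hyK : y ∈ K := by rw [hK, mem_comap]; exact mem_zpowers _
  have hyM : y ∉ M := by
    intro hyM
    have : QuotientGroup.mk' M y = 1 := (QuotientGroup.eq_one_iff y).mpr hyM
    rw [this, orderOf_one] at hy'
    exact hpp.one_lt.ne hy'
  have hKtop : K = ⊤ := by
    by_contra hne
    have hMK' : M < K := lt_of_le_of_ne hMK (fun h => hyM (h ▸ hyK))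
    exact hne (hMco.2 K hMK')
  have htop : zpowers (QuotientGroup.mk' M y) = ⊤ := by
    rw [eq_top_iff]
    intro z _
    obtain ⟨z0, rfl⟩ := QuotientGroup.mk'_surjective M z
    have : z0 ∈ K := by rw [hKtop]; exact mem_top z0
    rw [hK, mem_comap] at this
    exact this
  refine ⟨M, p, hMn, hpp, ?_⟩
  rw [Subgroup.index_eq_card, ← Subgroup.card_top (G := G ⧸ M), ← htop, Nat.card_zpowers, hy']

/-- The `p'`-part of an abelian subgroup. -/
def pPrimePart (M : Subgroup G) (hM : ∀ a ∈ M, ∀ b ∈ M, a * b = b * a) (p : ℕ) (hp : p.Prime) :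
    Subgroup G where
  carrier := {g | g ∈ M ∧ ¬ p ∣ orderOf g}
  mul_mem' := by
    rintro a b ⟨ha, hpa⟩ ⟨hb, hpb⟩
    refine ⟨mul_mem ha hb, ?_⟩
    intro hdvd
    have h1 : orderOf (a * b) ∣ (orderOf a).lcm (orderOf b) :=
      Commute.orderOf_mul_dvd_lcm (hM a ha b hb)
    have h2 : p ∣ orderOf a * orderOf b :=
      dvd_trans hdvd (dvd_trans h1 (Nat.lcm_dvd_mul _ _))
    rcases (Nat.Prime.dvd_mul hp).mp h2 with h3 | h3
    · exact hpa h3
    · exact hpb h3
  one_mem' := by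
    refine ⟨one_mem M, ?_⟩
    rw [orderOf_one]
    exact hp.not_dvd_one
  inv_mem' := by
    rintro a ⟨ha, hpa⟩
    refine ⟨inv_mem ha, ?_⟩
    rw [orderOf_inv]
    exact hpa

omit [Finite G] in
theorem mem_pPrimePart (M : Subgroup G) (hM : ∀ a ∈ M, ∀ b ∈ M, a * b = b * a) (p : ℕ)
    (hp : p.Prime) (g : G) : g ∈ pPrimePart M hM p hp ↔ g ∈ M ∧ ¬ p ∣ orderOf g := Iff.rfl

omit [Finite G] in
theorem orderOf_conj_eq' (g a : G) : orderOf (g * a * g⁻¹) = orderOf a := by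
  have := MulEquiv.orderOf_eq (MulAut.conj g) a
  rwa [MulAut.conj_apply] at this

omit [Finite G] in
theorem pPrimePart_normal (M : Subgroup G) [hMn : M.Normal]
    (hM : ∀ a ∈ M, ∀ b ∈ M, a * b = b * a) (p : ℕ) (hp : p.Prime) :
    (pPrimePart M hM p hp).Normal := by
  refine ⟨fun a ha g => ?_⟩
  rw [mem_pPrimePart] at ha ⊢
  refine ⟨hMn.conj_mem a ha.1 g, ?_⟩
  rw [orderOf_conj_eq']
  exact ha.2

theorem pPrimePart_not_dvd (M : Subgroup G)
    (hM : ∀ a ∈ M, ∀ b ∈ M, a * b = b * a) (p : ℕ) (hp : p.Prime) :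
    ¬ p ∣ Nat.card (pPrimePart M hM p hp) := by
  intro hdvd
  haveI : Fact p.Prime := ⟨hp⟩
  obtain ⟨a, ha⟩ := exists_prime_orderOf_dvd_card' (G := pPrimePart M hM p hp) p hdvd
  have h1 : orderOf (a : G) = p := by rw [Subgroup.orderOf_coe]; exact ha
  have h2 := ((mem_pPrimePart M hM p hp (a : G)).mp a.2).2
  rw [h1] at h2
  exact h2 (dvd_refl p)

/-- Modulo the `p'`-part of a normal abelian subgroup of index `p`, every element has
`p`-power order. -/
theorem pPrimePart_pow_mem (M : Subgroup G) [hMn : M.Normal]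
    (hM : ∀ a ∈ M, ∀ b ∈ M, a * b = b * a) (p : ℕ) (hp : p.Prime) (hidx : M.index = p) (g : G) :
    ∃ k : ℕ, g ^ (p ^ k) ∈ pPrimePart M hM p hp := by
  have hgp : g ^ p ∈ M := by
    rw [← QuotientGroup.eq_one_iff, QuotientGroup.mk_pow, ← hidx, Subgroup.index_eq_card]
    exact pow_card_eq_one'
  set m := g ^ p with hm
  have ho : orderOf m ≠ 0 := (orderOf_pos m).ne'
  obtain ⟨e, n', hn', hen⟩ := Nat.exists_eq_pow_mul_and_not_dvd ho p hp.one_lt.ne'
  refine ⟨e + 1, ?_⟩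
  have e1 : g ^ (p ^ (e + 1)) = m ^ (p ^ e) := by
    rw [hm, ← pow_mul, pow_succ, mul_comm]
  rw [e1, mem_pPrimePart]
  refine ⟨pow_mem hgp _, ?_⟩
  have hpe : p ^ e ≠ 0 := pow_ne_zero e hp.pos.ne'
  rw [orderOf_pow_of_dvd hpe ⟨n', hen⟩, hen, Nat.mul_div_cancel_left _ (pow_pos hp.pos e)]
  exact hn'

/-- A subgroup of the Sylow `p`-subgroup `P` not centralizing the normal subgroup `A` is all of
`P`. -/
theorem eq_of_not_le_centralizer
    (hS : ∀ H : Subgroup G, ¬ IsMulCommutative H → normalizer (H : Set G) = H)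
    {p : ℕ} [Fact p.Prime] (A : Subgroup G) [hAn : A.Normal] (P : Sylow p G)
    (hdisj : ∀ g : G, g ∈ A → g ∈ (P : Subgroup G) → g = 1)
    (P₁ : Subgroup G) (hP₁ : P₁ ≤ (P : Subgroup G))
    (hnc : ∃ y ∈ P₁, ∃ a ∈ A, y * a ≠ a * y) : P₁ = (P : Subgroup G) := by
  obtain ⟨y, hy, a, ha, hya⟩ := hnc
  set H := A ⊔ P₁ with hH
  have hHnc : ¬ IsMulCommutative H := by
    intro hcomm
    apply hya
    have hyH : y ∈ H := (le_sup_right : P₁ ≤ H) hy
    have haH : a ∈ H := (le_sup_left : A ≤ H) ha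
    exact congrArg Subtype.val (hcomm.is_comm.comm (⟨y, hyH⟩ : H) ⟨a, haH⟩)
  have hHN := hS H hHnc
  haveI : Group.IsNilpotent ↥(P : Subgroup G) := P.isPGroup'.isNilpotent
  have hncond := Group.normalizerCondition_of_isNilpotent (G := ↥(P : Subgroup G))
  rw [normalizerCondition_iff_only_full_group_self_normalizing] at hncond
  have hself : normalizer ((P₁.subgroupOf (P : Subgroup G) : Subgroup ↥(P : Subgroup G)) :
      Set ↥(P : Subgroup G)) = P₁.subgroupOf (P : Subgroup G) := by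
    apply le_antisymm _ le_normalizer
    intro g hg
    rw [← subgroupOf_normalizer_eq hP₁, mem_subgroupOf] at hg
    rw [mem_subgroupOf]
    -- `g` normalizes `A ⊔ P₁`
    have hgH : (g : G) ∈ normalizer (H : Set G) := by
      rw [mem_normalizer_iff_map_conj_eq, hH, Subgroup.map_sup]
      have h1 : A.map ((MulAut.conj (g : G) : G ≃* G) : G →* G) = A :=
        mem_normalizer_iff_map_conj_eq.mp (by rw [normalizer_eq_top]; exact mem_top _)
      have h2 : P₁.map ((MulAut.conj (g : G) : G ≃* G) : G →* G) = P₁ :=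
        mem_normalizer_iff_map_conj_eq.mp hg
      rw [h1, h2]
    rw [hHN, hH] at hgH
    obtain ⟨a', ha', y', hy', hay⟩ := mem_sup_of_normal_left.mp hgH
    have ha'P : a' ∈ (P : Subgroup G) := by
      have : a' = (g : G) * y'⁻¹ := by rw [← hay]; group
      rw [this]
      exact mul_mem g.2 (inv_mem (hP₁ hy'))
    have := hdisj a' ha' ha'P
    rw [this, one_mul] at hay
    rw [← hay]; exact hy'
  have htop := hncond _ hself
  apply le_antisymm hP₁
  intro g hg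
  have : (⟨g, hg⟩ : ↥(P : Subgroup G)) ∈ P₁.subgroupOf (P : Subgroup G) := by
    rw [htop]; exact mem_top _
  rw [mem_subgroupOf] at this
  exact this

omit [Finite G] in
/-- The trace argument: a commutator `b (x b x⁻¹)⁻¹` fixed by `x` has order dividing the order
of `x`. -/
theorem pow_eq_one_of_fixed_comm (x b c : G) (n : ℕ) (hxn : x ^ n = 1)
    (hc : c = b * (x * b * x⁻¹)⁻¹) (hfix : x * c * x⁻¹ = c) : c ^ n = 1 := by
  have hxb : x * b * x⁻¹ = c⁻¹ * b := by rw [hc]; group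
  have hcomm : Commute x c := by
    have : x * c = c * x := by
      calc x * c = x * c * x⁻¹ * x := by group
        _ = c * x := by rw [hfix]
    exact this
  have key : ∀ i : ℕ, x ^ i * b * (x ^ i)⁻¹ = (c ^ i)⁻¹ * b := by
    intro i
    induction i with
    | zero => simp
    | succ i ih =>
      have hci : x * (c ^ i)⁻¹ * x⁻¹ = (c ^ i)⁻¹ := by
        have h1 : Commute x ((c ^ i)⁻¹) := (hcomm.pow_right i).inv_right
        rw [h1.eq]; group
      calc x ^ (i + 1) * b * (x ^ (i + 1))⁻¹ = x * (x ^ i * b * (x ^ i)⁻¹) * x⁻¹ := by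
            rw [pow_succ']; group
        _ = x * ((c ^ i)⁻¹ * b) * x⁻¹ := by rw [ih]
        _ = (x * (c ^ i)⁻¹ * x⁻¹) * (x * b * x⁻¹) := by group
        _ = (c ^ i)⁻¹ * (c⁻¹ * b) := by rw [hci, hxb]
        _ = (c ^ (i + 1))⁻¹ * b := by rw [pow_succ]; group
  have h1 := key n
  rw [hxn] at h1
  have h2 : (c ^ n)⁻¹ = 1 := by
    calc (c ^ n)⁻¹ = (c ^ n)⁻¹ * b * b⁻¹ := by group
      _ = 1 * b * 1⁻¹ * b⁻¹ := by rw [← h1]
      _ = 1 := by group
  rwa [inv_eq_one] at h2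

/-- The subgroup of commutators `b (x b x⁻¹)⁻¹`, `b ∈ A`, for `A` abelian normal. -/
def commPart (A : Subgroup G) [hAn : A.Normal] (hA : ∀ a ∈ A, ∀ b ∈ A, a * b = b * a) (x : G) :
    Subgroup G where
  carrier := {g | ∃ b ∈ A, g = b * (x * b * x⁻¹)⁻¹}
  mul_mem' := by
    rintro _ _ ⟨b, hb, rfl⟩ ⟨b', hb', rfl⟩
    refine ⟨b * b', mul_mem hb hb', ?_⟩
    have h1 : x * b * x⁻¹ ∈ A := hAn.conj_mem b hb x
    have h2 : x * b' * x⁻¹ ∈ A := hAn.conj_mem b' hb' x
    have h3 := hA _ (inv_mem h1) _ hb'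
    have h4 := hA _ (inv_mem h1) _ (inv_mem h2)
    calc b * (x * b * x⁻¹)⁻¹ * (b' * (x * b' * x⁻¹)⁻¹)
        = b * ((x * b * x⁻¹)⁻¹ * b') * (x * b' * x⁻¹)⁻¹ := by group
      _ = b * (b' * (x * b * x⁻¹)⁻¹) * (x * b' * x⁻¹)⁻¹ := by rw [h3]
      _ = b * b' * ((x * b * x⁻¹)⁻¹ * (x * b' * x⁻¹)⁻¹) := by group
      _ = b * b' * ((x * b' * x⁻¹)⁻¹ * (x * b * x⁻¹)⁻¹) := by rw [h4]
      _ = b * b' * (x * (b * b') * x⁻¹)⁻¹ := by group
  one_mem' := ⟨1, one_mem A, by group⟩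
  inv_mem' := by
    rintro _ ⟨b, hb, rfl⟩
    refine ⟨b⁻¹, inv_mem hb, ?_⟩
    have h1 : x * b * x⁻¹ ∈ A := hAn.conj_mem b hb x
    have h3 := hA _ h1 _ (inv_mem hb)
    calc (b * (x * b * x⁻¹)⁻¹)⁻¹ = (x * b * x⁻¹) * b⁻¹ := by group
      _ = b⁻¹ * (x * b * x⁻¹) := h3
      _ = b⁻¹ * (x * b⁻¹ * x⁻¹)⁻¹ := by group

omit [Finite G] in
theorem mem_commPart (A : Subgroup G) [hAn : A.Normal] (hA : ∀ a ∈ A, ∀ b ∈ A, a * b = b * a)
    (x g : G) : g ∈ commPart A hA x ↔ ∃ b ∈ A, g = b * (x * b * x⁻¹)⁻¹ := Iff.rfl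

omit [Finite G] in
theorem commPart_le (A : Subgroup G) [hAn : A.Normal] (hA : ∀ a ∈ A, ∀ b ∈ A, a * b = b * a)
    (x : G) : commPart A hA x ≤ A := by
  rintro _ ⟨b, hb, rfl⟩
  exact mul_mem hb (inv_mem (hAn.conj_mem b hb x))

theorem commPart_normalizer (A : Subgroup G) [hAn : A.Normal]
    (hA : ∀ a ∈ A, ∀ b ∈ A, a * b = b * a) (x : G) :
    x ∈ normalizer ((commPart A hA x : Subgroup G) : Set G) := by
  rw [mem_normalizer_iff_map_conj_eq]
  apply Subgroup.eq_of_le_of_card_ge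
  · rintro _ ⟨_, ⟨b, hb, rfl⟩, rfl⟩
    refine ⟨x * b * x⁻¹, hAn.conj_mem b hb x, ?_⟩
    change (MulAut.conj x) (b * (x * b * x⁻¹)⁻¹) = _
    rw [MulAut.conj_apply]; group
  · rw [Subgroup.card_map_of_injective (MulAut.conj x).injective]

/-- The product `K B` of a subgroup `K` normalizing a subgroup `B`. -/
def prodSub (K B : Subgroup G) (hKB : K ≤ normalizer (B : Set G)) : Subgroup G where
  carrier := {g | ∃ y ∈ K, ∃ c ∈ B, g = y * c}
  mul_mem' := by
    rintro _ _ ⟨y, hy, c, hc, rfl⟩ ⟨y', hy', c', hc', rfl⟩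
    refine ⟨y * y', mul_mem hy hy', (y'⁻¹ * c * y') * c', mul_mem ?_ hc', by group⟩
    have h1 := (mem_normalizer_iff.mp (hKB (inv_mem hy')) c).mp hc
    rwa [inv_inv] at h1
  one_mem' := ⟨1, one_mem K, 1, one_mem B, by group⟩
  inv_mem' := by
    rintro _ ⟨y, hy, c, hc, rfl⟩
    refine ⟨y⁻¹, inv_mem hy, y * c⁻¹ * y⁻¹, ?_, by group⟩
    exact (mem_normalizer_iff.mp (hKB hy) c⁻¹).mp (inv_mem hc)

/-- Fixed-point-freeness. -/
theorem fpf_of_selfnorm
    (hS : ∀ H : Subgroup G, ¬ IsMulCommutative H → normalizer (H : Set G) = H)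
    (A : Subgroup G) [hAn : A.Normal] (hA : ∀ a ∈ A, ∀ b ∈ A, a * b = b * a) (x : G)
    (n : ℕ) (hxn : x ^ n = 1) (hcop : (Nat.card A).Coprime n)
    (hdisj : ∀ g : G, g ∈ zpowers x → g ∈ A → g = 1)
    (hgen : ∀ g : G, ∃ i : ℤ, ∃ a ∈ A, g = x ^ i * a)
    (hnc : ∃ b ∈ A, x * b ≠ b * x)
    (a : G) (ha : a ∈ A) (ha1 : a ≠ 1) (hfix : x * a * x⁻¹ = a) : False := by
  set B := commPart A hA x with hB
  have hBA : B ≤ A := commPart_le A hA x
  -- elements of `B` fixed by `x` are trivial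
  have key : ∀ c ∈ B, x * c * x⁻¹ = c → c = 1 := by
    intro c hc hcx
    obtain ⟨b, hb, hcb⟩ := (mem_commPart A hA x c).mp hc
    have h1 := pow_eq_one_of_fixed_comm x b c n hxn hcb hcx
    have h2 : orderOf c ∣ n := orderOf_dvd_of_pow_eq_one h1
    have h3 : orderOf c ∣ Nat.card A := Subgroup.orderOf_dvd_natCard _ (hBA hc)
    have h4 : orderOf c = 1 := Nat.eq_one_of_dvd_coprimes hcop h3 h2
    exact orderOf_eq_one_iff.mp h4
  -- `a` is central
  have hax : Commute x a := by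
    have : x * a = a * x := by
      calc x * a = x * a * x⁻¹ * x := by group
        _ = a * x := by rw [hfix]
    exact this
  have hac : a ∈ center G := by
    rw [mem_center_iff]
    intro g
    obtain ⟨i, a', ha', rfl⟩ := hgen g
    have h1 : x ^ i * a = a * x ^ i := (hax.zpow_left i).eq
    calc x ^ i * a' * a = x ^ i * (a' * a) := by group
      _ = x ^ i * (a * a') := by rw [hA a' ha' a ha]
      _ = (x ^ i * a) * a' := by group
      _ = a * x ^ i * a' := by rw [h1]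
      _ = a * (x ^ i * a') := by group
  -- the non-abelian subgroup `⟨x⟩ B`
  have hKB : zpowers x ≤ normalizer ((B : Subgroup G) : Set G) := by
    rw [zpowers_le]; exact commPart_normalizer A hA x
  set H := prodSub (zpowers x) B hKB with hH
  have hxH : x ∈ H := ⟨x, mem_zpowers x, 1, one_mem B, by group⟩
  obtain ⟨b₀, hb₀, hxb₀⟩ := hnc
  set c₀ := b₀ * (x * b₀ * x⁻¹)⁻¹ with hc₀
  have hc₀B : c₀ ∈ B := ⟨b₀, hb₀, rfl⟩
  have hc₀1 : c₀ ≠ 1 := by
    intro h
    apply hxb₀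
    have : b₀ = x * b₀ * x⁻¹ := by
      calc b₀ = b₀ * (x * b₀ * x⁻¹)⁻¹ * (x * b₀ * x⁻¹) := by group
        _ = x * b₀ * x⁻¹ := by rw [← hc₀, h, one_mul]
    calc x * b₀ = x * b₀ * x⁻¹ * x := by group
      _ = b₀ * x := by rw [← this]
  have hc₀H : c₀ ∈ H := ⟨1, one_mem _, c₀, hc₀B, by group⟩
  have hHnc : ¬ IsMulCommutative H := by
    intro hcomm
    apply hc₀1
    apply key c₀ hc₀B
    have := congrArg Subtype.val (hcomm.is_comm.comm (⟨x, hxH⟩ : H) ⟨c₀, hc₀H⟩)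
    have h5 : x * c₀ = c₀ * x := this
    rw [h5]; group
  have hHN := hS H hHnc
  have haH : a ∈ H := by
    rw [← hHN]
    exact Subgroup.center_le_normalizer _ hac
  obtain ⟨y, hy, c, hc, hayc⟩ := haH
  have hyA : y ∈ A := by
    have : y = a * c⁻¹ := by rw [hayc]; group
    rw [this]
    exact mul_mem ha (inv_mem (hBA hc))
  have hy1 := hdisj y hy hyA
  rw [hy1, one_mul] at hayc
  apply ha1
  rw [hayc]
  apply key c hc
  rw [← hayc]; exact hfix

/-- The forward direction: structure of solvable non-nilpotent groups with the property. -/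
theorem struct_of_selfnorm [Group.IsSolvable G] (hnn : ¬ Group.IsNilpotent G)
    (hS : ∀ H : Subgroup G, ¬ IsMulCommutative H → normalizer (H : Set G) = H) :
    ∃ (x : G) (A : Subgroup G) (p : ℕ), p.Prime ∧ A.Normal ∧ IsMulCommutative A ∧
      (∃ k : ℕ, orderOf x = p ^ k) ∧
      ¬ p ∣ Nat.card A ∧ (Subgroup.zpowers x).IsComplement' A ∧ x ^ p ∈ Subgroup.center G ∧
      ∀ a : G, a ∈ A → a ≠ 1 → x * a * x⁻¹ ≠ a := by
  haveI : Nontrivial G := by
    by_contra h
    rw [not_nontrivial_iff_subsingleton] at h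
    exact hnn inferInstance
  obtain ⟨M, p, hMn, hp, hidx⟩ := exists_normal_prime_index (G := G)
  haveI := hMn
  haveI : Fact p.Prime := ⟨hp⟩
  have hMtop : M ≠ ⊤ := by
    intro h
    rw [h, Subgroup.index_top] at hidx
    exact hp.one_lt.ne hidx
  have hMc := comm_of_normal hS M hMtop
  have hM : ∀ a ∈ M, ∀ b ∈ M, a * b = b * a := fun a ha b hb =>
    congrArg Subtype.val (hMc.is_comm.comm (⟨a, ha⟩ : M) ⟨b, hb⟩)
  set A := pPrimePart M hM p hp with hAdef
  haveI hAn : A.Normal := pPrimePart_normal M hM p hp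
  have hAM : A ≤ M := fun g hg => hg.1
  have hA : ∀ a ∈ A, ∀ b ∈ A, a * b = b * a := fun a ha b hb => hM a (hAM ha) b (hAM hb)
  have hpA : ¬ p ∣ Nat.card A := pPrimePart_not_dvd M hM p hp
  have hpq : IsPGroup p (G ⧸ A) := by
    intro g'
    obtain ⟨g, rfl⟩ := QuotientGroup.mk'_surjective A g'
    obtain ⟨k, hk⟩ := pPrimePart_pow_mem M hM p hp hidx g
    refine ⟨k, ?_⟩
    rw [← map_pow]
    exact (QuotientGroup.eq_one_iff _).mpr hk
  obtain ⟨j, hj⟩ := hpq.exists_card_eq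
  have hAidx : A.index = p ^ j := by rw [Subgroup.index_eq_card]; exact hj
  have hcardG : Nat.card G = p ^ j * Nat.card A := by
    rw [← hAidx, mul_comm]; exact (Subgroup.card_mul_index A).symm
  have P : Sylow p G := default
  have hPcard : Nat.card (P : Subgroup G) = p ^ j :=
    Cfsg.Agent.Lib.Helper7_SmallSimple.card_sylow_eq P j (Nat.card A) hcardG hpA
  have hcop : (Nat.card (P : Subgroup G)).Coprime (Nat.card A) := by
    rw [hPcard]
    exact Nat.Coprime.pow_left j ((Nat.Prime.coprime_iff_not_dvd hp).mpr hpA)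
  have hcompl : (P : Subgroup G).IsComplement' A :=
    isComplement'_of_coprime (by rw [hPcard, ← hcardG]) hcop
  have hdisjPA : ∀ g : G, g ∈ A → g ∈ (P : Subgroup G) → g = 1 := by
    intro g hgA hgP
    exact (Subgroup.disjoint_def.mp hcompl.disjoint) hgP hgA
  have hdec : ∀ g : G, ∃ y ∈ (P : Subgroup G), ∃ a ∈ A, g = y * a := by
    intro g
    have hg : g ∈ (P : Subgroup G) ⊔ A := by rw [hcompl.sup_eq_top]; exact mem_top g
    obtain ⟨y, hy, z, hz, hyz⟩ := mem_sup_of_normal_right.mp hg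
    exact ⟨y, hy, z, hz, hyz.symm⟩
  -- some element of `P` does not centralize `A`
  have hnc : ∃ y ∈ (P : Subgroup G), ∃ a ∈ A, y * a ≠ a * y := by
    by_contra hcon
    push Not at hcon
    apply hnn
    have hAZ : A ≤ center G := by
      intro a ha
      rw [mem_center_iff]
      intro g
      obtain ⟨y, hy, a', ha', rfl⟩ := hdec g
      calc y * a' * a = y * (a' * a) := by group
        _ = y * (a * a') := by rw [hA a' ha' a ha]
        _ = (y * a) * a' := by group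
        _ = a * y * a' := by rw [hcon y hy a ha]
        _ = a * (y * a') := by group
    have h1 : (center G).index ∣ p ^ j := by rw [← hAidx]; exact Subgroup.index_dvd_of_le hAZ
    obtain ⟨i, -, hi⟩ := (Nat.dvd_prime_pow hp).mp h1
    have h2 : IsPGroup p (G ⧸ center G) :=
      IsPGroup.of_card (n := i) (by rw [← Subgroup.index_eq_card]; exact hi)
    haveI := h2.isNilpotent
    exact Group.of_quotient_center_nilpotent inferInstance
  obtain ⟨x, hxP, a₁, ha₁, hxa₁⟩ := hnc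
  have hxgen : zpowers x = (P : Subgroup G) :=
    eq_of_not_le_centralizer hS A P hdisjPA (zpowers x) (by rw [zpowers_le]; exact hxP)
      ⟨x, mem_zpowers x, a₁, ha₁, hxa₁⟩
  have hox : orderOf x = p ^ j := by rw [← Nat.card_zpowers, hxgen, hPcard]
  have hj1 : 1 ≤ j := by
    by_contra h
    have hj0 : j = 0 := by omega
    rw [hj0, pow_zero, orderOf_eq_one_iff] at hox
    apply hxa₁
    rw [hox, one_mul, mul_one]
  -- `x ^ p` centralizes `A`
  have hxpA : ∀ a ∈ A, x ^ p * a = a * x ^ p := by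
    by_contra hcon
    push Not at hcon
    obtain ⟨a, ha, hne⟩ := hcon
    have h1 : zpowers (x ^ p) = (P : Subgroup G) :=
      eq_of_not_le_centralizer hS A P hdisjPA (zpowers (x ^ p))
        (by rw [zpowers_le]; exact pow_mem hxP p) ⟨x ^ p, mem_zpowers _, a, ha, hne⟩
    have h2 : orderOf (x ^ p) = p ^ j := by rw [← Nat.card_zpowers, h1, hPcard]
    have h3 : orderOf (x ^ p) = orderOf x / p :=
      orderOf_pow_of_dvd hp.pos.ne' (by rw [hox]; exact dvd_pow_self p (by omega))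
    rw [hox] at h3
    rw [h3] at h2
    have h4 : p ^ j / p < p ^ j := Nat.div_lt_self (pow_pos hp.pos j) hp.one_lt
    omega
  refine ⟨x, A, p, hp, hAn, ⟨⟨fun a b => Subtype.ext (hA a a.2 b b.2)⟩⟩, ⟨j, hox⟩, hpA,
    by rw [hxgen]; exact hcompl, ?_, ?_⟩
  · rw [mem_center_iff]
    intro g
    obtain ⟨y, hy, a', ha', rfl⟩ := hdec g
    rw [← hxgen] at hy
    obtain ⟨i, rfl⟩ := mem_zpowers_iff.mp hy
    have h1 : x ^ i * x ^ p = x ^ p * x ^ i :=
      ((Commute.refl x).zpow_left i).pow_right p |>.eq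
    calc x ^ i * a' * x ^ p = x ^ i * (a' * x ^ p) := by group
      _ = x ^ i * (x ^ p * a') := by rw [hxpA a' ha']
      _ = (x ^ i * x ^ p) * a' := by group
      _ = x ^ p * x ^ i * a' := by rw [h1]
      _ = x ^ p * (x ^ i * a') := by group
  · intro a ha ha1 hfix
    refine fpf_of_selfnorm hS A hA x (p ^ j) (by rw [← hox]; exact pow_orderOf_eq_one x)
      (by rw [← hPcard]; exact hcop.symm)
      (fun g hg hgA => hdisjPA g hgA (by rw [← hxgen]; exact hg)) ?_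
      ⟨a₁, ha₁, hxa₁⟩ a ha ha1 hfix
    intro g
    obtain ⟨y, hy, a', ha', rfl⟩ := hdec g
    rw [← hxgen] at hy
    obtain ⟨i, rfl⟩ := mem_zpowers_iff.mp hy
    exact ⟨i, a', ha', rfl⟩

end forward

end Cfsg.Agent.Lib.Helper6_SelfNorm
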