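import Mathlib
import Cfsg.Agent.Lib.Helper4_MaxNormAb1
import Cfsg.Agent.Lib.Helper1_Card

set_option autoImplicit false
open scoped commutatorElement
open scoped Pointwise

/-! Soft subgroups of finite `p`-groups (Héthelyi): abelian, self-centralizing, of index `p` in the
normalizer. -/

namespace Cfsg.Agent.Lib.Helper6_Soft

section basic
variable {P : Type*} [Group P]

/-- `E` is a soft subgroup (for the prime `p`). -/
def Soft (p : ℕ) (E : Subgroup P) : Prop :=
  (∀ a ∈ E, ∀ b ∈ E, a * b = b * a) ∧ Subgroup.centralizer (E : Set P) ≤ E ∧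
    E.relIndex (Subgroup.normalizer (E : Set P)) = p

variable [Finite P] {p : ℕ} [hp : Fact p.Prime]

theorem exists_normalizing (hP : IsPGroup p P) {D K : Subgroup P} (hDK : D < K) :
    ∃ k ∈ K, k ∉ D ∧ k ∈ Subgroup.normalizer (D : Set P) := by
  haveI : Group.IsNilpotent ↥K := (hP.to_subgroup K).isNilpotent
  have hnc : NormalizerCondition ↥K := Group.normalizerCondition_of_isNilpotent
  obtain ⟨k0, hk0K, hk0D⟩ := Set.exists_of_ssubset hDK
  have hlt : D.subgroupOf K < ⊤ := by
    rw [lt_top_iff_ne_top]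
    intro h
    have : (⟨k0, hk0K⟩ : ↥K) ∈ D.subgroupOf K := by rw [h]; exact Subgroup.mem_top _
    exact hk0D (Subgroup.mem_subgroupOf.mp this)
  have h2 := hnc _ hlt
  obtain ⟨k, hkn, hkD⟩ := Set.exists_of_ssubset h2
  refine ⟨(k : P), k.2, fun h => hkD (Subgroup.mem_subgroupOf.mpr h), ?_⟩
  rw [Subgroup.mem_normalizer_iff]
  have hkn' := Subgroup.mem_normalizer_iff.mp hkn
  intro h
  constructor
  · intro hh
    have hhK : h ∈ K := hDK.le hh
    have := (hkn' ⟨h, hhK⟩).mp (Subgroup.mem_subgroupOf.mpr hh)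
    exact Subgroup.mem_subgroupOf.mp this
  · intro hh
    have hhK : h ∈ K := by
      have h1 : (k : P) * h * (k : P)⁻¹ ∈ K := hDK.le hh
      have h2 : h = (k : P)⁻¹ * ((k : P) * h * (k : P)⁻¹) * (k : P) := by group
      rw [h2]
      exact K.mul_mem (K.mul_mem (K.inv_mem k.2) h1) k.2
    have := (hkn' ⟨h, hhK⟩).mpr (Subgroup.mem_subgroupOf.mpr hh)
    exact Subgroup.mem_subgroupOf.mp this

/-- If `D` has index `p` in its normalizer, every subgroup properly containing `D` contains the
normalizer of `D`. -/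
theorem normalizer_le_of_lt (hP : IsPGroup p P) {D K : Subgroup P}
    (hidx : D.relIndex (Subgroup.normalizer (D : Set P)) = p) (hDK : D < K) :
    Subgroup.normalizer (D : Set P) ≤ K := by
  obtain ⟨k, hkK, hkD, hkn⟩ := exists_normalizing hP hDK
  have h1 : D ≤ Subgroup.normalizer (D : Set P) ⊓ K := le_inf Subgroup.le_normalizer hDK.le
  have h2 : Subgroup.normalizer (D : Set P) ⊓ K ≤ Subgroup.normalizer (D : Set P) := inf_le_left
  have h3 := Subgroup.relIndex_mul_relIndex _ _ _ h1 h2
  rw [hidx] at h3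
  have h4 : D.relIndex (Subgroup.normalizer (D : Set P) ⊓ K) ≠ 1 := by
    intro h5
    rw [Subgroup.relIndex_eq_one] at h5
    exact hkD (h5 ⟨hkn, hkK⟩)
  have h5 : D.relIndex (Subgroup.normalizer (D : Set P) ⊓ K) ∣ p := Dvd.intro _ h3
  rcases (Nat.dvd_prime hp.out).mp h5 with h6 | h6
  · exact absurd h6 h4
  · rw [h6] at h3
    have h7 : (Subgroup.normalizer (D : Set P) ⊓ K).relIndex (Subgroup.normalizer (D : Set P)) = 1 :=
      Nat.eq_of_mul_eq_mul_left hp.out.pos (by rw [mul_one]; exact h3)
    rw [Subgroup.relIndex_eq_one] at h7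
    exact le_trans h7 inf_le_right

/-- The subgroups containing `E` form a chain, given that all of them have index `p` in their
normalizers. -/
theorem chain_of_NI (hP : IsPGroup p P) (E : Subgroup P)
    (hNI : ∀ D : Subgroup P, E ≤ D → D ≠ ⊤ → D.relIndex (Subgroup.normalizer (D : Set P)) = p)
    (K L : Subgroup P) (hK : E ≤ K) (hL : E ≤ L) : K ≤ L ∨ L ≤ K := by
  by_contra hcon
  push Not at hcon
  obtain ⟨h1, h2⟩ := hcon
  have hDK : K ⊓ L < K := lt_of_le_of_ne inf_le_left (fun h => h1 (inf_eq_left.mp h))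
  have hDL : K ⊓ L < L := lt_of_le_of_ne inf_le_right (fun h => h2 (inf_eq_right.mp h))
  have hDtop : K ⊓ L ≠ ⊤ := by
    intro h
    rw [h] at hDK
    exact not_top_lt hDK
  have hidx := hNI (K ⊓ L) (le_inf hK hL) hDtop
  have h3 := normalizer_le_of_lt hP hidx hDK
  have h4 := normalizer_le_of_lt hP hidx hDL
  have h5 : Subgroup.normalizer ((K ⊓ L : Subgroup P) : Set P) ≤ K ⊓ L := le_inf h3 h4
  rw [← Subgroup.relIndex_eq_one, hidx] at h5
  exact hp.out.ne_one h5

end basic

section partB
variable {T : Type*} [Group T]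

theorem eq_of_relIndex_prime {p : ℕ} (hp : p.Prime) {X Y Z : Subgroup T} (hXY : X ≤ Y) (hYZ : Y ≤ Z)
    (hidx : X.relIndex Z = p) (hne : X ≠ Y) : Y = Z := by
  have h3 := Subgroup.relIndex_mul_relIndex _ _ _ hXY hYZ
  rw [hidx] at h3
  have h4 : X.relIndex Y ≠ 1 := by
    intro h5
    rw [Subgroup.relIndex_eq_one] at h5
    exact hne (le_antisymm hXY h5)
  have h5 : X.relIndex Y ∣ p := Dvd.intro _ h3
  rcases (Nat.dvd_prime hp).mp h5 with h6 | h6
  · exact absurd h6 h4
  · rw [h6] at h3
    have h7 : Y.relIndex Z = 1 :=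
      Nat.eq_of_mul_eq_mul_left hp.pos (by rw [mul_one]; exact h3)
    rw [Subgroup.relIndex_eq_one] at h7
    exact le_antisymm hYZ h7

theorem card_eq_relIndex_mul {X Y : Subgroup T} (hXY : X ≤ Y) :
    Nat.card Y = X.relIndex Y * Nat.card X := by
  have h1 := Subgroup.card_mul_index (X.subgroupOf Y)
  have h2 : Nat.card (X.subgroupOf Y) = Nat.card X :=
    Nat.card_congr (Subgroup.subgroupOfEquivOfLe hXY).toEquiv
  rw [h2] at h1
  rw [← h1, mul_comm]; rfl

theorem mem_normalizer_of_forall [Finite T] (E : Subgroup T) (g : T)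
    (h : ∀ x ∈ E, g * x * g⁻¹ ∈ E) : g ∈ Subgroup.normalizer (E : Set T) := by
  have hle : E.map (MulAut.conj g).toMonoidHom ≤ E := by
    rintro _ ⟨x, hx, rfl⟩
    exact h x hx
  have hcard : Nat.card (E.map (MulAut.conj g).toMonoidHom) = Nat.card E :=
    Subgroup.card_map_of_injective (MulAut.conj g).injective
  have heq := Subgroup.eq_of_le_of_card_ge hle (by rw [hcard])
  rw [Subgroup.mem_normalizer_iff]
  intro x
  constructor
  · exact h x
  · intro hx
    rw [← heq] at hx
    obtain ⟨y, hy, hyx⟩ := hx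
    have : y = x := (MulAut.conj g).injective hyx
    rw [← this]; exact hy

end partB

section partB2
variable {T : Type*} [Group T] [Finite T] {p : ℕ} [hp : Fact p.Prime]

/-- Abstract form of the second step of the normalizer tower: if `E` is abelian, self-centralizing,
with normalizer `M` normal in `T` and `|M : E| = p`, `M ≠ T`, then `|T : M| = p`. -/
theorem index_eq_p (hT : IsPGroup p T) (M E : Subgroup T) [hMn : M.Normal] (hEM : E ≤ M)
    (hab : ∀ a ∈ E, ∀ b ∈ E, a * b = b * a) (hcent : Subgroup.centralizer (E : Set T) ≤ E)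
    (hnorm : Subgroup.normalizer (E : Set T) = M) (hidx : E.relIndex M = p) (hM : M ≠ ⊤) :
    M.index = p := by
  have hpp := hp.out
  -- D = Z(M)
  obtain ⟨D, hDdef⟩ : ∃ D, D = Subgroup.centralizer (M : Set T) := ⟨_, rfl⟩
  haveI hDn : D.Normal := by rw [hDdef]; exact Subgroup.normal_centralizer
  have hDE : D ≤ E := by
    rw [hDdef]; exact le_trans (Subgroup.centralizer_le hEM) hcent
  -- a conjugate of E
  obtain ⟨g, hg⟩ : ∃ g, g ∉ M := by
    by_contra hcon
    push Not at hcon
    exact hM (eq_top_iff.mpr fun x _ => hcon x)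
  obtain ⟨E', hE'def⟩ : ∃ E', E' = E.map (MulAut.conj g).toMonoidHom := ⟨_, rfl⟩
  have hE'mem : ∀ x, x ∈ E' ↔ ∃ e ∈ E, g * e * g⁻¹ = x := by
    intro x; rw [hE'def, Subgroup.mem_map]; rfl
  have hE'M : E' ≤ M := by
    intro x hx
    obtain ⟨e, he, rfl⟩ := (hE'mem x).mp hx
    exact hMn.conj_mem e (hEM he) g
  have hE'card : Nat.card E' = Nat.card E := by
    rw [hE'def]; exact Subgroup.card_map_of_injective (MulAut.conj g).injective
  have hE'ne : E' ≠ E := by
    intro h
    apply hg
    rw [← hnorm]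
    apply mem_normalizer_of_forall
    intro x hx
    rw [← h, hE'mem]
    exact ⟨x, hx, rfl⟩
  have hE'ab : ∀ a ∈ E', ∀ b ∈ E', a * b = b * a := by
    intro a ha b hb
    obtain ⟨e1, he1, rfl⟩ := (hE'mem a).mp ha
    obtain ⟨e2, he2, rfl⟩ := (hE'mem b).mp hb
    have := hab e1 he1 e2 he2
    calc g * e1 * g⁻¹ * (g * e2 * g⁻¹) = g * (e1 * e2) * g⁻¹ := by group
      _ = g * (e2 * e1) * g⁻¹ := by rw [this]
      _ = g * e2 * g⁻¹ * (g * e1 * g⁻¹) := by group
  have hsup : E ⊔ E' = M := by
    apply eq_of_relIndex_prime hpp le_sup_left (sup_le hEM hE'M) hidx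
    intro h
    apply hE'ne
    have hle : E' ≤ E := by rw [h]; exact le_sup_right
    exact Subgroup.eq_of_le_of_card_ge hle (by rw [hE'card])
  have hinf : E ⊓ E' = D := by
    apply le_antisymm
    · rintro x ⟨hx1, hx2⟩
      rw [hDdef, Subgroup.mem_centralizer_iff]
      have hle : E ⊔ E' ≤ Subgroup.centralizer ({x} : Set T) := by
        apply sup_le
        · intro e he
          rw [Subgroup.mem_centralizer_singleton_iff]
          exact hab e he x hx1
        · intro e he
          rw [Subgroup.mem_centralizer_singleton_iff]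
          exact hE'ab e he x hx2
      intro m hm
      have hm' : m ∈ E ⊔ E' := by rw [hsup]; exact hm
      have := hle hm'
      rw [Subgroup.mem_centralizer_singleton_iff] at this
      exact this
    · apply le_inf hDE
      intro d hd
      rw [hE'mem]
      refine ⟨g⁻¹ * d * g, hDE ?_, by group⟩
      have := hDn.conj_mem d hd g⁻¹
      rwa [inv_inv] at this
  have hDneE : D ≠ E := by
    intro h
    have hME : M ≤ E := by
      intro m hm
      apply hcent
      rw [Subgroup.mem_centralizer_iff]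
      intro e he
      have he' : e ∈ Subgroup.centralizer (M : Set T) := by rw [← hDdef, h]; exact he
      rw [Subgroup.mem_centralizer_iff] at he'
      exact (he' m hm).symm
    have : E.relIndex M = 1 := Subgroup.relIndex_eq_one.mpr hME
    rw [hidx] at this
    exact hpp.ne_one this
  -- cardinalities
  have hcM : Nat.card M = p * Nat.card E := by rw [card_eq_relIndex_mul hEM, hidx]
  have hcE0 : Nat.card E = D.relIndex E * Nat.card D := card_eq_relIndex_mul hDE
  have hDpos : 0 < Nat.card D := Nat.card_pos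
  have hEpos : 0 < Nat.card E := Nat.card_pos
  have hk_le : D.relIndex E ≤ p := by
    have h1 := Cfsg.Agent.Lib.Helper1_Card.card_mul_card_inf E E'
    rw [hinf, hE'card] at h1
    have h2 : Nat.card ((E : Set T) * (E' : Set T) : Set T) ≤ Nat.card M := by
      apply Nat.card_mono (Set.toFinite _)
      rintro _ ⟨a, ha, b, hb, rfl⟩
      exact M.mul_mem (hEM ha) (hE'M hb)
    have h3 : Nat.card E * Nat.card E ≤ p * Nat.card E * Nat.card D := by
      rw [← h1, ← hcM]
      exact Nat.mul_le_mul_right _ h2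
    have h4 : Nat.card E ≤ p * Nat.card D := by
      have : Nat.card E * Nat.card E ≤ (p * Nat.card D) * Nat.card E := by
        calc Nat.card E * Nat.card E ≤ p * Nat.card E * Nat.card D := h3
          _ = (p * Nat.card D) * Nat.card E := by ring
      exact Nat.le_of_mul_le_mul_right this hEpos
    rw [hcE0] at h4
    exact Nat.le_of_mul_le_mul_right h4 hDpos
  have hk_eq : D.relIndex E = p := by
    have h1 : D.relIndex E ≠ 1 := by
      intro h
      rw [Subgroup.relIndex_eq_one] at h
      exact hDneE (le_antisymm hDE h)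
    have h2 : D.relIndex E ∣ Nat.card T := by
      have : D.relIndex E ∣ Nat.card E := Dvd.intro _ hcE0.symm
      exact this.trans (Subgroup.card_subgroup_dvd_card E)
    obtain ⟨n, hn⟩ := IsPGroup.iff_card.mp hT
    rw [hn] at h2
    obtain ⟨j, -, hj⟩ := (Nat.dvd_prime_pow hpp).mp h2
    rcases Nat.eq_zero_or_pos j with rfl | hj0
    · rw [pow_zero] at hj; exact absurd hj h1
    · have : p ≤ D.relIndex E := by
        rw [hj]
        calc p = p ^ 1 := (pow_one p).symm
          _ ≤ p ^ j := Nat.pow_le_pow_right hpp.pos hj0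
      omega
  have hcE : Nat.card E = p * Nat.card D := by rw [hcE0, hk_eq]
  -- two central steps
  have hDM : D ≤ M := le_trans hDE hEM
  have hDneM : D ≠ M := by
    intro h
    have : Nat.card D = Nat.card M := by rw [h]
    rw [hcM, hcE] at this
    have h2 := hpp.two_le
    nlinarith
  obtain ⟨N', hN'n, hDN', hN'M, hcN', hcommN'⟩ :=
    Cfsg.Agent.Lib.Helper4_MaxNormAb1.step hT D M hDM hDneM
  haveI := hN'n
  have hN'neM : N' ≠ M := by
    intro h
    have : Nat.card N' = Nat.card M := by rw [h]
    rw [hcM, hcE, hcN'] at this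
    have h2 := hpp.two_le
    nlinarith
  obtain ⟨N'', -, hN'N'', hN''M, hcN'', hcommN''⟩ :=
    Cfsg.Agent.Lib.Helper4_MaxNormAb1.step hT N' M hN'M hN'neM
  have hN''eq : N'' = M := by
    apply Subgroup.eq_of_le_of_card_ge hN''M
    rw [hcN'', hcN', hcM, hcE]
  rw [hN''eq] at hcommN''
  -- N' is not contained in E
  have hN'E : ¬ N' ≤ E := by
    intro h
    have h1 : N' ≤ E' := by
      intro x hx
      rw [hE'mem]
      refine ⟨g⁻¹ * x * g, h ?_, by group⟩
      have := hN'n.conj_mem x hx g⁻¹
      rwa [inv_inv] at this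
    have h2 : N' ≤ D := by rw [← hinf]; exact le_inf h h1
    have h3 := Subgroup.card_le_of_le h2
    rw [hcN'] at h3
    have h4 := hpp.two_le
    nlinarith
  -- an element of E outside D
  obtain ⟨e0, he0E, he0D⟩ : ∃ e0, e0 ∈ E ∧ e0 ∉ D := by
    by_contra hcon
    push Not at hcon
    exact hDneE (le_antisymm hDE hcon)
  have hEgen : D ⊔ Subgroup.zpowers e0 = E := by
    apply eq_of_relIndex_prime hpp le_sup_left
      (sup_le hDE (Subgroup.zpowers_le.mpr he0E)) hk_eq
    intro h
    apply he0D
    rw [h]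
    exact Subgroup.mem_sup_right (Subgroup.mem_zpowers e0)
  -- the quotient N'/D
  haveI hDsn : (D.subgroupOf N').Normal := Subgroup.normal_subgroupOf
  have hcQ : Nat.card (↥N' ⧸ D.subgroupOf N') = p := by
    rw [← Subgroup.index_eq_card]
    show D.relIndex N' = p
    have h1 := card_eq_relIndex_mul hDN'
    rw [hcN'] at h1
    exact (Nat.eq_of_mul_eq_mul_right hDpos h1).symm
  haveI hQcyc : IsCyclic (↥N' ⧸ D.subgroupOf N') := isCyclic_of_prime_card hcQ
  have hQcomm : ∀ u v : ↥N' ⧸ D.subgroupOf N', u * v = v * u := by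
    obtain ⟨t, ht⟩ := hQcyc.exists_generator
    intro u v
    have hu := ht u
    have hv := ht v
    rw [Subgroup.mem_zpowers_iff] at hu hv
    obtain ⟨i, rfl⟩ := hu
    obtain ⟨j, rfl⟩ := hv
    exact zpow_mul_comm t i j
  have hmemN' : ∀ h : T, ⁅h, e0⁆ ∈ N' := fun h => hcommN'' h e0 (hEM he0E)
  -- conjugation acts trivially on N'/D
  have hconjQ : ∀ (h : T) (y : T) (hy : y ∈ N') (hy' : h * y * h⁻¹ ∈ N'),
      (QuotientGroup.mk (⟨h * y * h⁻¹, hy'⟩ : ↥N') : ↥N' ⧸ D.subgroupOf N') =
        QuotientGroup.mk (⟨y, hy⟩ : ↥N') := by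
    intro h y hy hy'
    rw [eq_comm, QuotientGroup.eq, Subgroup.mem_subgroupOf]
    show y⁻¹ * (h * y * h⁻¹) ∈ D
    have h1 : ⁅h, y⁆ ∈ D := hcommN' h y hy
    have h2 := hDn.conj_mem _ h1 y⁻¹
    have h3 : y⁻¹ * ⁅h, y⁆ * y⁻¹⁻¹ = y⁻¹ * (h * y * h⁻¹) := by
      rw [commutatorElement_def]; group
    rw [h3] at h2
    exact h2
  let φ : T →* (↥N' ⧸ D.subgroupOf N') := MonoidHom.mk'
    (fun h => QuotientGroup.mk (⟨⁅h, e0⁆, hmemN' h⟩ : ↥N')) (by
      intro a b
      have hid : ⁅a * b, e0⁆ = (a * ⁅b, e0⁆ * a⁻¹) * ⁅a, e0⁆ := by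
        simp only [commutatorElement_def]; group
      have hmem1 : a * ⁅b, e0⁆ * a⁻¹ ∈ N' := hN'n.conj_mem _ (hmemN' b) a
      have h1 : (QuotientGroup.mk (⟨⁅a * b, e0⁆, hmemN' (a * b)⟩ : ↥N') : ↥N' ⧸ D.subgroupOf N') =
          QuotientGroup.mk (⟨a * ⁅b, e0⁆ * a⁻¹, hmem1⟩ : ↥N') *
            QuotientGroup.mk (⟨⁅a, e0⁆, hmemN' a⟩ : ↥N') := by
        rw [← QuotientGroup.mk_mul]
        congr 1
        exact Subtype.ext hid
      rw [h1, hconjQ a _ (hmemN' b) hmem1]
      exact hQcomm _ _)
  have hφ : ∀ h, φ h = QuotientGroup.mk (⟨⁅h, e0⁆, hmemN' h⟩ : ↥N') := fun h => rfl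
  have hker : φ.ker ≤ M := by
    intro h hh
    rw [MonoidHom.mem_ker, hφ, QuotientGroup.eq_one_iff, Subgroup.mem_subgroupOf] at hh
    have hh' : ⁅h, e0⁆ ∈ D := hh
    rw [← hnorm]
    apply mem_normalizer_of_forall
    have hle : E ≤ E.comap (MulAut.conj h).toMonoidHom := by
      rw [← hEgen]
      apply sup_le
      · intro d hd
        rw [Subgroup.mem_comap]
        show h * d * h⁻¹ ∈ D ⊔ Subgroup.zpowers e0
        exact Subgroup.mem_sup_left (hDn.conj_mem d hd h)
      · rw [Subgroup.zpowers_le, Subgroup.mem_comap]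
        show h * e0 * h⁻¹ ∈ D ⊔ Subgroup.zpowers e0
        have : h * e0 * h⁻¹ = ⁅h, e0⁆ * e0 := by rw [commutatorElement_def]; group
        rw [this]
        exact Subgroup.mul_mem _ (Subgroup.mem_sup_left hh')
          (Subgroup.mem_sup_right (Subgroup.mem_zpowers e0))
    intro x hx
    exact hle hx
  have h1 : M.index ∣ φ.ker.index := Subgroup.index_dvd_of_le hker
  have h2 : φ.ker.index ∣ p := by
    rw [Subgroup.index_ker, ← hcQ]
    exact Subgroup.card_subgroup_dvd_card _
  rcases (Nat.dvd_prime hpp).mp (h1.trans h2) with h3 | h3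
  · exact absurd (Subgroup.index_eq_one.mp h3) hM
  · exact h3

end partB2

section partB3
variable {P : Type*} [Group P] [Finite P] {p : ℕ} [hp : Fact p.Prime]

/-- The second step of the normalizer tower of a soft subgroup has index `p`. -/
theorem second_step (hP : IsPGroup p P) (E : Subgroup P) (hE : Soft p E)
    (hN1 : Subgroup.normalizer (E : Set P) ≠ ⊤) :
    (Subgroup.normalizer (E : Set P)).relIndex
      (Subgroup.normalizer ((Subgroup.normalizer (E : Set P) : Subgroup P) : Set P)) = p := by
  obtain ⟨hab, hcent, hidx⟩ := hE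
  obtain ⟨N1, hN1def⟩ : ∃ N1, N1 = Subgroup.normalizer (E : Set P) := ⟨_, rfl⟩
  rw [← hN1def] at hidx hN1 ⊢
  obtain ⟨N2, hN2def⟩ : ∃ N2, N2 = Subgroup.normalizer (N1 : Set P) := ⟨_, rfl⟩
  rw [← hN2def]
  have hEN1 : E ≤ N1 := by rw [hN1def]; exact Subgroup.le_normalizer
  have hN12 : N1 ≤ N2 := by rw [hN2def]; exact Subgroup.le_normalizer
  haveI hMn : (N1.subgroupOf N2).Normal := by rw [hN2def]; exact Subgroup.normal_in_normalizer
  have hT : IsPGroup p ↥N2 := hP.to_subgroup N2
  have hres := index_eq_p hT (N1.subgroupOf N2) (E.subgroupOf N2)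
    (by
      intro x hx
      rw [Subgroup.mem_subgroupOf] at hx ⊢
      exact hEN1 hx)
    (by
      intro a ha b hb
      rw [Subgroup.mem_subgroupOf] at ha hb
      exact Subtype.ext (hab a ha b hb))
    (by
      intro x hx
      rw [Subgroup.mem_subgroupOf]
      apply hcent
      rw [Subgroup.mem_centralizer_iff]
      intro e he
      rw [Subgroup.mem_centralizer_iff] at hx
      have := hx ⟨e, hN12 (hEN1 he)⟩ (Subgroup.mem_subgroupOf.mpr he)
      exact congrArg Subtype.val this)
    (by
      ext x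
      rw [Subgroup.mem_subgroupOf, hN1def]
      constructor
      · intro hx
        apply mem_normalizer_of_forall
        intro e he
        have hx' := Subgroup.mem_normalizer_iff.mp hx ⟨e, hN12 (hEN1 he)⟩
        have := hx'.mp (Subgroup.mem_subgroupOf.mpr he)
        exact Subgroup.mem_subgroupOf.mp this
      · intro hx
        apply mem_normalizer_of_forall
        intro y hy
        rw [Subgroup.mem_subgroupOf] at hy ⊢
        have hx' := Subgroup.mem_normalizer_iff.mp hx (y : P)
        exact hx'.mp hy)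
    (by rw [Subgroup.relIndex_subgroupOf hN12]; exact hidx)
    (by
      intro h
      rw [Subgroup.subgroupOf_eq_top] at h
      have hlt : N1 < ⊤ := lt_top_iff_ne_top.mpr hN1
      obtain ⟨k, -, hk1, hk2⟩ := exists_normalizing hP hlt
      apply hk1
      apply h
      rw [hN2def]; exact hk2)
  exact hres

end partB3

section quot
variable {P : Type*} [Group P] (Z : Subgroup P) [Z.Normal]

theorem comap_map_of_le {X : Subgroup P} (hZX : Z ≤ X) :
    (X.map (QuotientGroup.mk' Z)).comap (QuotientGroup.mk' Z) = X :=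
  Subgroup.comap_map_eq_self (by rw [QuotientGroup.ker_mk']; exact hZX)

theorem relIndex_map {X Y : Subgroup P} (hZX : Z ≤ X) :
    (X.map (QuotientGroup.mk' Z)).relIndex (Y.map (QuotientGroup.mk' Z)) = X.relIndex Y := by
  rw [← Subgroup.relIndex_comap, comap_map_of_le Z hZX]

theorem normalizer_map {X : Subgroup P} (hZX : Z ≤ X) :
    Subgroup.normalizer ((X.map (QuotientGroup.mk' Z) : Subgroup (P ⧸ Z)) : Set (P ⧸ Z)) =
      (Subgroup.normalizer (X : Set P)).map (QuotientGroup.mk' Z) := by
  have h1 := Subgroup.comap_normalizer_eq_of_surjective (X.map (QuotientGroup.mk' Z))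
    (QuotientGroup.mk'_surjective Z)
  rw [comap_map_of_le Z hZX] at h1
  rw [← h1, Subgroup.map_comap_eq_self_of_surjective (QuotientGroup.mk'_surjective Z)]

theorem relIndex_normalizer_map {X : Subgroup P} (hZX : Z ≤ X) :
    (X.map (QuotientGroup.mk' Z)).relIndex
      (Subgroup.normalizer ((X.map (QuotientGroup.mk' Z) : Subgroup (P ⧸ Z)) : Set (P ⧸ Z))) =
      X.relIndex (Subgroup.normalizer (X : Set P)) := by
  rw [normalizer_map Z hZX, relIndex_map Z hZX]

theorem map_ne_top {X : Subgroup P} (hZX : Z ≤ X) (hX : X ≠ ⊤) :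
    X.map (QuotientGroup.mk' Z) ≠ ⊤ := by
  intro h
  apply hX
  rw [← comap_map_of_le Z hZX, h, Subgroup.comap_top]

end quot

section dich
variable {P : Type*} [Group P] [Finite P] {p : ℕ} [hp : Fact p.Prime]

theorem center_le_of_soft {E : Subgroup P} (hE : Soft p E) : Subgroup.center P ≤ E :=
  le_trans (Subgroup.center_le_centralizer _) hE.2.1

/-- The dichotomy for the image of a soft subgroup modulo a normal subgroup `Z ≤ E`
(in the applications the centre). -/
theorem dichotomy (hP : IsPGroup p P) (Z : Subgroup P) [Z.Normal] (E : Subgroup P) (hE : Soft p E)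
    (hZE : Z ≤ E) :
    ((Subgroup.centralizer ((E.map (QuotientGroup.mk' Z) :
        Subgroup (P ⧸ Z)) : Set (P ⧸ Z))).comap (QuotientGroup.mk' Z) = E ∧
      Soft p (E.map (QuotientGroup.mk' Z))) ∨
    ((Subgroup.centralizer ((E.map (QuotientGroup.mk' Z) :
        Subgroup (P ⧸ Z)) : Set (P ⧸ Z))).comap (QuotientGroup.mk' Z) =
          Subgroup.normalizer (E : Set P) ∧
      (Subgroup.normalizer (E : Set P) ≠ ⊤ →
        Soft p ((Subgroup.normalizer (E : Set P)).map (QuotientGroup.mk' Z)))) := by
  have hpp := hp.out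
  obtain ⟨hab, hcent, hidx⟩ := hE
  have hsurj := QuotientGroup.mk'_surjective Z
  obtain ⟨N1, hN1def⟩ : ∃ N1, N1 = Subgroup.normalizer (E : Set P) := ⟨_, rfl⟩
  rw [← hN1def] at hidx ⊢
  have hEN1 : E ≤ N1 := by rw [hN1def]; exact Subgroup.le_normalizer
  have hEbar_ab : ∀ a ∈ E.map (QuotientGroup.mk' Z), ∀ b ∈ E.map (QuotientGroup.mk' Z),
      a * b = b * a := by
    rintro _ ⟨a, ha, rfl⟩ _ ⟨b, hb, rfl⟩
    rw [← map_mul, ← map_mul, hab a ha b hb]
  obtain ⟨C, hCdef⟩ : ∃ C, C = (Subgroup.centralizer ((E.map (QuotientGroup.mk' Z) :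
      Subgroup (P ⧸ Z)) : Set (P ⧸ Z))).comap (QuotientGroup.mk' Z) := ⟨_, rfl⟩
  rw [← hCdef]
  have hCmem : ∀ x, x ∈ C ↔ ∀ e ∈ E, QuotientGroup.mk' Z e * QuotientGroup.mk' Z x =
      QuotientGroup.mk' Z x * QuotientGroup.mk' Z e := by
    intro x
    rw [hCdef, Subgroup.mem_comap, Subgroup.mem_centralizer_iff]
    constructor
    · intro h e he
      exact h _ (Subgroup.mem_map_of_mem _ he)
    · rintro h _ ⟨e, he, rfl⟩
      exact h e he
  have hEC : E ≤ C := by
    intro x hx
    rw [hCmem]
    intro e he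
    rw [← map_mul, ← map_mul, hab e he x hx]
  have hCN1 : C ≤ N1 := by
    intro x hx
    rw [hN1def]
    apply mem_normalizer_of_forall
    intro e he
    have h1 := (hCmem x).mp hx e he
    have h2 : QuotientGroup.mk' Z (x * e * x⁻¹) = QuotientGroup.mk' Z e := by
      rw [map_mul, map_mul, ← h1, map_inv]; group
    have h3 : e⁻¹ * (x * e * x⁻¹) ∈ Z := by
      rw [← QuotientGroup.eq]
      exact h2.symm
    have h4 : x * e * x⁻¹ = e * (e⁻¹ * (x * e * x⁻¹)) := by group
    rw [h4]
    exact E.mul_mem he (hZE h3)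
  have hmapC : C.map (QuotientGroup.mk' Z) = Subgroup.centralizer
      ((E.map (QuotientGroup.mk' Z) : Subgroup (P ⧸ Z)) : Set (P ⧸ Z)) := by
    rw [hCdef, Subgroup.map_comap_eq_self_of_surjective hsurj]
  by_cases hCE : E = C
  · left
    refine ⟨hCE.symm, hEbar_ab, ?_, ?_⟩
    · rw [← hmapC, ← hCE]
    · rw [relIndex_normalizer_map Z hZE, ← hN1def]; exact hidx
  · right
    have hCeq : C = N1 := eq_of_relIndex_prime hpp hEC hCN1 hidx hCE
    refine ⟨hCeq, fun hN1top => ?_⟩
    have hZN1 : Z ≤ N1 := le_trans hZE hEN1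
    have hN1bar : N1.map (QuotientGroup.mk' Z) = Subgroup.centralizer
        ((E.map (QuotientGroup.mk' Z) : Subgroup (P ⧸ Z)) : Set (P ⧸ Z)) := by
      rw [← hCeq]; exact hmapC
    have hEbarle : E.map (QuotientGroup.mk' Z) ≤ N1.map (QuotientGroup.mk' Z) :=
      Subgroup.map_mono hEN1
    have hidxbar : (E.map (QuotientGroup.mk' Z)).relIndex (N1.map (QuotientGroup.mk' Z)) = p := by
      rw [relIndex_map Z hZE]; exact hidx
    refine ⟨?_, ?_, ?_⟩
    · -- abelian
      intro a ha b hb
      by_cases hbE : b ∈ E.map (QuotientGroup.mk' Z)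
      · rw [hN1bar, Subgroup.mem_centralizer_iff] at ha
        exact (ha b hbE).symm
      · have hY : E.map (QuotientGroup.mk' Z) ≤
            Subgroup.centralizer ({b} : Set (P ⧸ Z)) ⊓ N1.map (QuotientGroup.mk' Z) := by
          apply le_inf _ hEbarle
          intro e he
          rw [Subgroup.mem_centralizer_singleton_iff]
          rw [hN1bar, Subgroup.mem_centralizer_iff] at hb
          exact hb e he
        have hYeq := eq_of_relIndex_prime hpp hY inf_le_right hidxbar (by
          intro h
          apply hbE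
          rw [h]
          have hbb : b ∈ Subgroup.centralizer ({b} : Set (P ⧸ Z)) := by
            rw [Subgroup.mem_centralizer_singleton_iff]
          exact ⟨hbb, hb⟩)
        have haY : a ∈ Subgroup.centralizer ({b} : Set (P ⧸ Z)) ⊓ N1.map (QuotientGroup.mk' Z) := by
          rw [hYeq]; exact ha
        have haY1 : a ∈ Subgroup.centralizer ({b} : Set (P ⧸ Z)) := haY.1
        rw [Subgroup.mem_centralizer_singleton_iff] at haY1
        exact haY1
    · -- self-centralizing
      rw [hN1bar]
      apply Subgroup.centralizer_le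
      rw [← hN1bar]
      exact hEbarle
    · rw [relIndex_normalizer_map Z hZN1]
      have := second_step hP E ⟨hab, hcent, by rw [← hN1def]; exact hidx⟩
        (by rw [← hN1def]; exact hN1top)
      rw [← hN1def] at this
      exact this

end dich

section NI
universe u

theorem card_quotient_center_lt {P : Type u} [Group P] [Finite P] {p : ℕ} [hp : Fact p.Prime]
    (hP : IsPGroup p P) [Nontrivial P] : Nat.card (P ⧸ Subgroup.center P) < Nat.card P := by
  haveI := hP.center_nontrivial
  have h1 := Subgroup.card_eq_card_quotient_mul_card_subgroup (Subgroup.center P)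
  have h2 : 1 < Nat.card (Subgroup.center P) := Finite.one_lt_card
  have h3 : 0 < Nat.card (P ⧸ Subgroup.center P) := Nat.card_pos
  rw [h1]
  nlinarith

/-- Every subgroup containing a soft subgroup (other than the whole group) has index `p` in its
normalizer. -/
theorem NI_aux (p : ℕ) [hp : Fact p.Prime] : ∀ (n : ℕ) (P : Type u) [Group P] [Finite P],
    Nat.card P = n → IsPGroup p P → ∀ E : Subgroup P, Soft p E → ∀ K : Subgroup P, E ≤ K → K ≠ ⊤ →
    K.relIndex (Subgroup.normalizer (K : Set P)) = p := by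
  intro n
  induction n using Nat.strong_induction_on with
  | _ n ih =>
    intro P _ _ hcard hP E hE K hEK hK
    by_cases hKE : E = K
    · rw [← hKE]; exact hE.2.2
    have hlt : E < K := lt_of_le_of_ne hEK hKE
    have hN1K := normalizer_le_of_lt hP hE.2.2 hlt
    have hN1top : Subgroup.normalizer (E : Set P) ≠ ⊤ := by
      intro h
      rw [h] at hN1K
      exact hK (eq_top_iff.mpr hN1K)
    haveI : Nontrivial P := by
      by_contra hnt
      rw [not_nontrivial_iff_subsingleton] at hnt
      apply hK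
      exact Subsingleton.elim _ _
    have hZE := center_le_of_soft hE
    have hltc := card_quotient_center_lt hP
    have hPq : IsPGroup p (P ⧸ Subgroup.center P) := hP.to_quotient _
    rcases dichotomy hP (Subgroup.center P) E hE hZE with ⟨-, hsoft⟩ | ⟨-, hsoft⟩
    · have hZK : Subgroup.center P ≤ K := le_trans hZE hEK
      have := ih _ (by rw [← hcard]; exact hltc) (P ⧸ Subgroup.center P) rfl hPq _ hsoft
        (K.map (QuotientGroup.mk' (Subgroup.center P))) (Subgroup.map_mono hEK)
        (map_ne_top _ hZK hK)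
      rw [relIndex_normalizer_map _ hZK] at this
      exact this
    · have hZK : Subgroup.center P ≤ K := le_trans hZE hEK
      have := ih _ (by rw [← hcard]; exact hltc) (P ⧸ Subgroup.center P) rfl hPq _ (hsoft hN1top)
        (K.map (QuotientGroup.mk' (Subgroup.center P))) (Subgroup.map_mono hN1K)
        (map_ne_top _ hZK hK)
      rw [relIndex_normalizer_map _ hZK] at this
      exact this

theorem NI {P : Type u} [Group P] [Finite P] {p : ℕ} [hp : Fact p.Prime] (hP : IsPGroup p P)
    (E : Subgroup P) (hE : Soft p E) (K : Subgroup P) (hEK : E ≤ K) (hK : K ≠ ⊤) :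
    K.relIndex (Subgroup.normalizer (K : Set P)) = p :=
  NI_aux p _ P rfl hP E hE K hEK hK

theorem chain {P : Type u} [Group P] [Finite P] {p : ℕ} [hp : Fact p.Prime] (hP : IsPGroup p P)
    (E : Subgroup P) (hE : Soft p E) (K L : Subgroup P) (hK : E ≤ K) (hL : E ≤ L) :
    K ≤ L ∨ L ≤ K :=
  chain_of_NI hP E (fun D hD hDt => NI hP E hE D hD hDt) K L hK hL

end NI

section classUpper
universe u

theorem comm_of_card_dvd_sq {Q : Type*} [Group Q] [Finite Q] {p : ℕ} [hp : Fact p.Prime]
    (h : Nat.card Q ∣ p ^ 2) : ∀ u v : Q, u * v = v * u := by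
  obtain ⟨j, hj2, hj⟩ := (Nat.dvd_prime_pow hp.out).mp h
  have hj3 : j = 0 ∨ j = 1 ∨ j = 2 := by omega
  rcases hj3 with rfl | rfl | rfl
  · rw [pow_zero] at hj
    haveI : Subsingleton Q := (Nat.card_eq_one_iff_unique.mp hj).1
    intro u v
    exact Subsingleton.elim _ _
  · rw [pow_one] at hj
    haveI hcyc : IsCyclic Q := isCyclic_of_prime_card hj
    obtain ⟨t, ht⟩ := hcyc.exists_generator
    intro u v
    have hu := ht u
    have hv := ht v
    rw [Subgroup.mem_zpowers_iff] at hu hv
    obtain ⟨a, rfl⟩ := hu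
    obtain ⟨b, rfl⟩ := hv
    exact zpow_mul_comm t a b
  · have := IsPGroup.isMulCommutative_of_card_eq_prime_sq hj
    intro u v
    exact this.is_comm.comm u v

/-- If `A ⊔ σ A = ⊤` for abelian `A`, then `A ⊓ σ A` is central. -/
theorem inf_le_center {H : Type*} [Group H] (A B : Subgroup H)
    (hA : ∀ a ∈ A, ∀ b ∈ A, a * b = b * a) (hB : ∀ a ∈ B, ∀ b ∈ B, a * b = b * a)
    (hsup : A ⊔ B = ⊤) : A ⊓ B ≤ Subgroup.center H := by
  rintro x ⟨hx1, hx2⟩
  have hle : A ⊔ B ≤ Subgroup.centralizer ({x} : Set H) := by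
    apply sup_le
    · intro e he
      rw [Subgroup.mem_centralizer_singleton_iff]
      exact hA e he x hx1
    · intro e he
      rw [Subgroup.mem_centralizer_singleton_iff]
      exact hB e he x hx2
  rw [Subgroup.mem_center_iff]
  intro g
  have hg : g ∈ A ⊔ B := by rw [hsup]; exact Subgroup.mem_top g
  have := hle hg
  rw [Subgroup.mem_centralizer_singleton_iff] at this
  exact this

theorem map_equiv_ab {H : Type*} [Group H] (A : Subgroup H) (σ : H ≃* H)
    (hA : ∀ a ∈ A, ∀ b ∈ A, a * b = b * a) :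
    ∀ a ∈ A.map σ.toMonoidHom, ∀ b ∈ A.map σ.toMonoidHom, a * b = b * a := by
  rintro _ ⟨a, ha, rfl⟩ _ ⟨b, hb, rfl⟩
  rw [← map_mul, ← map_mul, hA a ha b hb]

theorem class_le_aux (p : ℕ) [hp : Fact p.Prime] : ∀ (i : ℕ) (H : Type u) [Group H] [Finite H],
    IsPGroup p H → ∀ A : Subgroup H, Soft p A → A.index = p ^ (i + 1) → ∀ σ : H ≃* H,
    A ⊔ A.map σ.toMonoidHom = ⊤ → Subgroup.upperCentralSeries H (i + 2) = ⊤ := by
  intro i
  induction i with
  | zero =>
    intro H _ _ hH A hA hidx σ hsup
    have hcen := inf_le_center A (A.map σ.toMonoidHom) hA.1 (map_equiv_ab A σ hA.1) hsup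
    have h1 : (Subgroup.center H).index ∣ (A ⊓ A.map σ.toMonoidHom).index :=
      Subgroup.index_dvd_of_le hcen
    have h2 : (A ⊓ A.map σ.toMonoidHom).index ≤ p * p := by
      have := Subgroup.index_inf_le (H := A) (K := A.map σ.toMonoidHom)
      have h3 : (A.map σ.toMonoidHom).index = A.index := Subgroup.index_map_equiv A σ
      rw [h3, hidx, zero_add, pow_one] at this
      exact this
    have h4 : (Subgroup.center H).index ∣ p ^ 2 := by
      obtain ⟨n, hn⟩ := IsPGroup.iff_card.mp hH
      have h5 : (Subgroup.center H).index ∣ p ^ n := by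
        rw [← hn]; exact Subgroup.index_dvd_card _
      obtain ⟨j, -, hj⟩ := (Nat.dvd_prime_pow hp.out).mp h5
      have h6 : (A ⊓ A.map σ.toMonoidHom).index ≠ 0 := Subgroup.index_ne_zero_of_finite
      have h7 : (Subgroup.center H).index ≤ p * p :=
        le_trans (Nat.le_of_dvd (Nat.pos_of_ne_zero h6) h1) h2
      rw [hj] at h7 ⊢
      apply pow_dvd_pow
      by_contra hcon
      push Not at hcon
      have : p ^ 3 ≤ p ^ j := Nat.pow_le_pow_right hp.out.pos hcon
      have h8 : p * p < p ^ 3 := by
        have h2le := hp.out.two_le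
        have h9 : p ^ 3 = p * p * p := by ring
        have h10 : 0 < p * p := Nat.mul_pos hp.out.pos hp.out.pos
        rw [h9]
        nlinarith
      omega
    have hcomm := comm_of_card_dvd_sq (Q := H ⧸ Subgroup.center H)
      (by rw [← Subgroup.index_eq_card]; exact h4)
    rw [eq_top_iff]
    intro a _
    rw [show (0 + 2 : ℕ) = 1 + 1 by rfl, Subgroup.mem_upperCentralSeries_succ_iff]
    intro b
    rw [Subgroup.upperCentralSeries_one, ← QuotientGroup.eq_one_iff, commutatorElement_def]
    have : ((a * b * a⁻¹ * b⁻¹ : H) : H ⧸ Subgroup.center H) =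
        (a : H ⧸ Subgroup.center H) * b * (a : H ⧸ Subgroup.center H)⁻¹ *
          (b : H ⧸ Subgroup.center H)⁻¹ := by simp
    rw [this, hcomm (a : H ⧸ Subgroup.center H) b]
    group
  | succ i ih =>
    intro H _ _ hH A hA hidx σ hsup
    have hZA := center_le_of_soft hA
    have hcen := inf_le_center A (A.map σ.toMonoidHom) hA.1 (map_equiv_ab A σ hA.1) hsup
    have hsurj := QuotientGroup.mk'_surjective (Subgroup.center H)
    have hHq : IsPGroup p (H ⧸ Subgroup.center H) := hH.to_quotient _
    have hσZ : (Subgroup.center H).map (σ : H →* H) = Subgroup.center H :=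
      (Subgroup.characteristic_iff_map_eq.mp inferInstance) σ
    have hN1idx : (Subgroup.normalizer (A : Set H)).index = p ^ (i + 1) := by
      have h1 := Subgroup.relIndex_mul_index (Subgroup.le_normalizer (H := A))
      rw [hA.2.2, hidx, pow_succ' p (i + 1)] at h1
      exact Nat.eq_of_mul_eq_mul_left hp.out.pos h1
    have hN1top : Subgroup.normalizer (A : Set H) ≠ ⊤ := by
      intro h
      rw [h, Subgroup.index_top] at hN1idx
      have : 1 < p ^ (i + 1) := Nat.one_lt_pow (by omega) hp.out.one_lt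
      omega
    rcases dichotomy hH (Subgroup.center H) A hA hZA with ⟨hC, -⟩ | ⟨-, hsoft⟩
    · -- impossible case
      exfalso
      have hZ2 : Subgroup.upperCentralSeries H 2 ≤ A := by
        rw [← hC, show (2 : ℕ) = Nat.succ 1 by rfl,
          ← Subgroup.comap_upperCentralSeries_quotient_center, Subgroup.upperCentralSeries_one]
        exact Subgroup.comap_mono (Subgroup.center_le_centralizer _)
      have hZ2σ : Subgroup.upperCentralSeries H 2 ≤ A.map σ.toMonoidHom := by
        have h1 : (Subgroup.upperCentralSeries H 2).map σ.toMonoidHom =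
            Subgroup.upperCentralSeries H 2 :=
          (Subgroup.characteristic_iff_map_eq.mp inferInstance) σ
        rw [← h1]
        exact Subgroup.map_mono hZ2
      have hZ2Z : Subgroup.upperCentralSeries H 2 ≤ Subgroup.center H :=
        le_trans (le_inf hZ2 hZ2σ) hcen
      have hcq : Subgroup.center (H ⧸ Subgroup.center H) = ⊥ := by
        rw [eq_bot_iff]
        intro xbar hx
        obtain ⟨x, rfl⟩ := hsurj xbar
        have hx2 : x ∈ Subgroup.upperCentralSeries H 2 := by
          rw [show (2 : ℕ) = Nat.succ 1 by rfl,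
            ← Subgroup.comap_upperCentralSeries_quotient_center, Subgroup.upperCentralSeries_one]
          exact hx
        rw [Subgroup.mem_bot]
        exact (QuotientGroup.eq_one_iff x).mpr (hZ2Z hx2)
      have hsub : Subsingleton (H ⧸ Subgroup.center H) := by
        by_contra hns
        rw [not_subsingleton_iff_nontrivial] at hns
        have := hHq.center_nontrivial
        rw [hcq] at this
        exact (Subgroup.nontrivial_iff_ne_bot _).mp this rfl
      have hZtop : Subgroup.center H = ⊤ := by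
        rw [eq_top_iff]
        intro x _
        rw [← QuotientGroup.eq_one_iff]
        exact Subsingleton.elim _ _
      have hAtop : A = ⊤ := by
        rw [eq_top_iff]
        intro x _
        apply hA.2.1
        rw [Subgroup.mem_centralizer_iff]
        intro a _
        have hx : x ∈ Subgroup.center H := by rw [hZtop]; exact Subgroup.mem_top x
        exact (Subgroup.mem_center_iff.mp hx a)
      rw [hAtop, Subgroup.index_top] at hidx
      have : 1 < p ^ (i + 1 + 1) := Nat.one_lt_pow (by omega) hp.out.one_lt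
      omega
    · have hsoft' := hsoft hN1top
      have hZN1 : Subgroup.center H ≤ Subgroup.normalizer (A : Set H) :=
        le_trans hZA Subgroup.le_normalizer
      have hidx' : ((Subgroup.normalizer (A : Set H)).map
          (QuotientGroup.mk' (Subgroup.center H))).index = p ^ (i + 1) := by
        rw [Subgroup.index_map_eq _ hsurj (by rw [QuotientGroup.ker_mk']; exact hZN1)]
        exact hN1idx
      have hsup' : (Subgroup.normalizer (A : Set H)).map (QuotientGroup.mk' (Subgroup.center H)) ⊔
          ((Subgroup.normalizer (A : Set H)).map (QuotientGroup.mk' (Subgroup.center H))).map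
            (QuotientGroup.congr (Subgroup.center H) (Subgroup.center H) σ hσZ).toMonoidHom = ⊤ := by
        rw [eq_top_iff]
        intro xbar _
        obtain ⟨x, rfl⟩ := hsurj xbar
        have hx : x ∈ A ⊔ A.map σ.toMonoidHom := by rw [hsup]; exact Subgroup.mem_top x
        have h1 : A ⊔ A.map σ.toMonoidHom ≤
            ((Subgroup.normalizer (A : Set H)).map (QuotientGroup.mk' (Subgroup.center H)) ⊔
              ((Subgroup.normalizer (A : Set H)).map (QuotientGroup.mk' (Subgroup.center H))).map
                (QuotientGroup.congr (Subgroup.center H) (Subgroup.center H) σ hσZ).toMonoidHom).comap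
                  (QuotientGroup.mk' (Subgroup.center H)) := by
          apply sup_le
          · intro a ha
            rw [Subgroup.mem_comap]
            exact Subgroup.mem_sup_left
              (Subgroup.mem_map_of_mem _ (Subgroup.le_normalizer ha))
          · rintro _ ⟨a, ha, rfl⟩
            rw [Subgroup.mem_comap]
            apply Subgroup.mem_sup_right
            refine ⟨QuotientGroup.mk' (Subgroup.center H) a,
              Subgroup.mem_map_of_mem _ (Subgroup.le_normalizer ha), ?_⟩
            exact QuotientGroup.congr_mk _ _ σ hσZ a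
        exact h1 hx
      have := ih (H ⧸ Subgroup.center H) hHq _ hsoft' hidx'
        (QuotientGroup.congr (Subgroup.center H) (Subgroup.center H) σ hσZ) hsup'
      rw [show i + 1 + 2 = Nat.succ (i + 2) by rfl,
        ← Subgroup.comap_upperCentralSeries_quotient_center, this, Subgroup.comap_top]

end classUpper

section apply
universe u
variable {P : Type u} [Group P] [Finite P] {p : ℕ} [hp : Fact p.Prime]

theorem soft_subgroupOf (hP : IsPGroup p P) (E K : Subgroup P) (hE : Soft p E) (hlt : E < K) :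
    Soft p (E.subgroupOf K) := by
  obtain ⟨hab, hcent, hidx⟩ := hE
  have hEK := hlt.le
  have hN1K := normalizer_le_of_lt hP hidx hlt
  refine ⟨?_, ?_, ?_⟩
  · intro a ha b hb
    rw [Subgroup.mem_subgroupOf] at ha hb
    exact Subtype.ext (hab a ha b hb)
  · intro x hx
    rw [Subgroup.mem_subgroupOf]
    apply hcent
    rw [Subgroup.mem_centralizer_iff]
    intro e he
    rw [Subgroup.mem_centralizer_iff] at hx
    have := hx ⟨e, hEK he⟩ (Subgroup.mem_subgroupOf.mpr he)
    exact congrArg Subtype.val this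
  · have hnorm : Subgroup.normalizer ((E.subgroupOf K : Subgroup ↥K) : Set ↥K) =
        (Subgroup.normalizer (E : Set P)).subgroupOf K := by
      ext x
      rw [Subgroup.mem_subgroupOf]
      constructor
      · intro hx
        apply mem_normalizer_of_forall
        intro e he
        have hx' := Subgroup.mem_normalizer_iff.mp hx ⟨e, hEK he⟩
        have := hx'.mp (Subgroup.mem_subgroupOf.mpr he)
        exact Subgroup.mem_subgroupOf.mp this
      · intro hx
        apply mem_normalizer_of_forall
        intro y hy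
        rw [Subgroup.mem_subgroupOf] at hy ⊢
        have hx' := Subgroup.mem_normalizer_iff.mp hx (y : P)
        exact hx'.mp hy
    rw [hnorm, Subgroup.relIndex_subgroupOf hN1K]
    exact hidx

theorem sup_conj_eq (hP : IsPGroup p P) (E K : Subgroup P) (hE : Soft p E) (hEK : E ≤ K)
    {g : P} (hg : g ∈ Subgroup.normalizer (K : Set P)) (hgK : g ∉ K) :
    E ⊔ E.map (MulAut.conj g).toMonoidHom = K := by
  have hE'K : E.map (MulAut.conj g).toMonoidHom ≤ K := by
    rintro _ ⟨e, he, rfl⟩
    exact (Subgroup.mem_normalizer_iff.mp hg e).mp (hEK he)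
  obtain ⟨X, hXdef⟩ : ∃ X, X = E ⊔ E.map (MulAut.conj g).toMonoidHom := ⟨_, rfl⟩
  rw [← hXdef]
  have hXK : X ≤ K := by rw [hXdef]; exact sup_le hEK hE'K
  by_contra hne
  have hlt : X < K := lt_of_le_of_ne hXK hne
  have hEX : E ≤ X := by rw [hXdef]; exact le_sup_left
  have hXtop : X ≠ ⊤ := by
    intro h
    rw [h] at hlt
    exact not_top_lt hlt
  have hidx := NI hP E hE X hEX hXtop
  have hNK := normalizer_le_of_lt hP hidx hlt
  -- X^{g⁻¹} ≥ E
  have hEX' : E ≤ X.map (MulAut.conj g⁻¹).toMonoidHom := by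
    intro e he
    refine ⟨g * e * g⁻¹, ?_, ?_⟩
    · rw [hXdef]
      exact Subgroup.mem_sup_right ⟨e, he, rfl⟩
    · show g⁻¹ * (g * e * g⁻¹) * g⁻¹⁻¹ = e
      group
  have hcard : Nat.card (X.map (MulAut.conj g⁻¹).toMonoidHom) = Nat.card X :=
    Subgroup.card_map_of_injective (MulAut.conj g⁻¹).injective
  have heq : X.map (MulAut.conj g⁻¹).toMonoidHom = X := by
    rcases chain hP E hE _ _ hEX' hEX with h | h
    · exact Subgroup.eq_of_le_of_card_ge h (by rw [hcard])
    · exact (Subgroup.eq_of_le_of_card_ge h (by rw [hcard])).symm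
  have hginv : g⁻¹ ∈ Subgroup.normalizer (X : Set P) := by
    apply mem_normalizer_of_forall
    intro x hx
    rw [← heq]
    exact ⟨x, hx, rfl⟩
  apply hgK
  have := hNK hginv
  have h2 := K.inv_mem this
  rwa [inv_inv] at h2

theorem class_upper (hP : IsPGroup p P) (E K : Subgroup P) (hE : Soft p E) (hEK : E ≤ K)
    (hK : K ≠ ⊤) (i : ℕ) (hi : E.relIndex K = p ^ (i + 1)) :
    Subgroup.upperCentralSeries ↥K (i + 2) = ⊤ := by
  have hlt : E < K := by
    apply lt_of_le_of_ne hEK
    intro h
    rw [h, Subgroup.relIndex_self] at hi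
    have : 1 < p ^ (i + 1) := Nat.one_lt_pow (by omega) hp.out.one_lt
    omega
  obtain ⟨g, -, hgK, hgn⟩ := exists_normalizing hP (lt_top_iff_ne_top.mpr hK)
  have hgn' := Subgroup.mem_normalizer_iff.mp hgn
  have hginv := Subgroup.mem_normalizer_iff.mp (Subgroup.inv_mem _ hgn)
  let σ : ↥K ≃* ↥K :=
    { toFun := fun k => ⟨g * k * g⁻¹, (hgn' k).mp k.2⟩
      invFun := fun k => ⟨g⁻¹ * k * g, by
        have := (hginv k).mp k.2
        rwa [inv_inv] at this⟩
      left_inv := by
        intro k
        apply Subtype.ext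
        show g⁻¹ * (g * k * g⁻¹) * g = k
        group
      right_inv := by
        intro k
        apply Subtype.ext
        show g * (g⁻¹ * k * g) * g⁻¹ = k
        group
      map_mul' := by
        intro a b
        apply Subtype.ext
        show g * (a * b : P) * g⁻¹ = (g * a * g⁻¹) * (g * b * g⁻¹)
        group }
  have hσ : ∀ k : ↥K, ((σ k : ↥K) : P) = g * k * g⁻¹ := fun k => rfl
  have hE'K : E.map (MulAut.conj g).toMonoidHom ≤ K := by
    rintro _ ⟨e, he, rfl⟩
    exact (hgn' e).mp (hEK he)
  have hmapσ : (E.subgroupOf K).map σ.toMonoidHom =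
      (E.map (MulAut.conj g).toMonoidHom).subgroupOf K := by
    ext x
    rw [Subgroup.mem_subgroupOf]
    constructor
    · rintro ⟨a, ha, rfl⟩
      exact ⟨(a : P), Subgroup.mem_subgroupOf.mp ha, rfl⟩
    · rintro ⟨e, he, hx⟩
      refine ⟨⟨e, hEK he⟩, Subgroup.mem_subgroupOf.mpr he, ?_⟩
      apply Subtype.ext
      exact hx
  have hsup : E.subgroupOf K ⊔ (E.subgroupOf K).map σ.toMonoidHom = ⊤ := by
    rw [hmapσ, ← Subgroup.subgroupOf_sup hEK hE'K, sup_conj_eq hP E K hE hEK hgn hgK,
      Subgroup.subgroupOf_self]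
  exact class_le_aux p i ↥K (hP.to_subgroup K) (E.subgroupOf K) (soft_subgroupOf hP E K hE hlt)
    hi σ hsup

end apply

section lower
universe u
variable {P : Type u} [Group P] [Finite P] {p : ℕ} [hp : Fact p.Prime]

/-- The normalizer tower of `E`. -/
def tower (E : Subgroup P) : ℕ → Subgroup P
  | 0 => E
  | (j + 1) => Subgroup.normalizer ((tower E j : Subgroup P) : Set P)

omit [Finite P] in
theorem tower_zero (E : Subgroup P) : tower E 0 = E := rfl

omit [Finite P] in
theorem tower_succ (E : Subgroup P) (j : ℕ) :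
    tower E (j + 1) = Subgroup.normalizer ((tower E j : Subgroup P) : Set P) := rfl

omit [Finite P] in
theorem le_tower (E : Subgroup P) (j : ℕ) : E ≤ tower E j := by
  induction j with
  | zero => exact le_refl _
  | succ j ih => rw [tower_succ]; exact le_trans ih Subgroup.le_normalizer

theorem tower_facts (hP : IsPGroup p P) (E K : Subgroup P) (hE : Soft p E) (hEK : E ≤ K)
    (hK : K ≠ ⊤) (i : ℕ) (hi : E.relIndex K = p ^ i) :
    ∀ j, j ≤ i → tower E j ≤ K ∧ E.relIndex (tower E j) = p ^ j := by
  intro j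
  induction j with
  | zero =>
    intro _
    exact ⟨hEK, by rw [tower_zero, Subgroup.relIndex_self, pow_zero]⟩
  | succ j ih =>
    intro hj
    obtain ⟨h1, h2⟩ := ih (by omega)
    have hne : tower E j ≠ K := by
      intro h
      rw [h, hi] at h2
      have := Nat.pow_right_injective hp.out.two_le h2
      omega
    have hlt : tower E j < K := lt_of_le_of_ne h1 hne
    have htop : tower E j ≠ ⊤ := by
      intro h
      rw [h] at hlt
      exact not_top_lt hlt
    have hidx := NI hP E hE (tower E j) (le_tower E j) htop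
    refine ⟨?_, ?_⟩
    · rw [tower_succ]; exact normalizer_le_of_lt hP hidx hlt
    · rw [tower_succ, ← Subgroup.relIndex_mul_relIndex _ _ _ (le_tower E j) Subgroup.le_normalizer,
        h2, hidx, pow_succ]

theorem ucs_le_tower (E K : Subgroup P) (hE : Soft p E) (hEK : E ≤ K) :
    ∀ j, tower E j ≤ K →
      (Subgroup.upperCentralSeries ↥K (j + 1)).map K.subtype ≤ tower E j := by
  intro j
  induction j with
  | zero =>
    intro _
    rintro _ ⟨x, hx, rfl⟩
    rw [tower_zero]
    apply hE.2.1
    rw [Subgroup.mem_centralizer_iff]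
    intro e he
    have hx' : x ∈ Subgroup.upperCentralSeries ↥K (0 + 1) := hx
    rw [zero_add, Subgroup.upperCentralSeries_one, Subgroup.mem_center_iff] at hx'
    have := hx' ⟨e, hEK he⟩
    exact congrArg Subtype.val this
  | succ j ih =>
    intro hj
    have hjK : tower E j ≤ K := le_trans (by rw [tower_succ]; exact Subgroup.le_normalizer) hj
    have ih' := ih hjK
    rintro _ ⟨z, hz, rfl⟩
    rw [tower_succ]
    apply mem_normalizer_of_forall
    intro x hx
    have hz' : z ∈ Subgroup.upperCentralSeries ↥K (j + 1 + 1) := hz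
    rw [Subgroup.mem_upperCentralSeries_succ_iff] at hz'
    have h1 := hz' ⟨x, hjK hx⟩
    have h2 : ((⁅z, (⟨x, hjK hx⟩ : ↥K)⁆ : ↥K) : P) ∈ tower E j := ih' ⟨_, h1, rfl⟩
    have h3 : ((⁅z, (⟨x, hjK hx⟩ : ↥K)⁆ : ↥K) : P) = (z : P) * x * (z : P)⁻¹ * x⁻¹ := by
      rw [commutatorElement_def]; rfl
    rw [h3] at h2
    have h4 : K.subtype z * x * (K.subtype z)⁻¹ = ((z : P) * x * (z : P)⁻¹ * x⁻¹) * x := by
      show (z : P) * x * (z : P)⁻¹ = _
      group
    rw [h4]
    exact Subgroup.mul_mem _ h2 hx

theorem class_lower (hP : IsPGroup p P) (E K : Subgroup P) (hE : Soft p E) (hEK : E ≤ K)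
    (hK : K ≠ ⊤) (i : ℕ) (hi : E.relIndex K = p ^ (i + 1)) :
    Subgroup.upperCentralSeries ↥K (i + 1) ≠ ⊤ := by
  intro htop
  obtain ⟨h1, h2⟩ := tower_facts hP E K hE hEK hK (i + 1) hi i (by omega)
  have h3 := ucs_le_tower E K hE hEK i h1
  rw [htop] at h3
  have hKle : K ≤ tower E i := by
    intro k hk
    exact h3 ⟨⟨k, hk⟩, Subgroup.mem_top _, rfl⟩
  have : tower E i = K := le_antisymm h1 hKle
  rw [this, hi] at h2
  have := Nat.pow_right_injective hp.out.two_le h2
  omega

end lower

end Cfsg.Agent.Lib.Helper6_Soft
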