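import Mathlib
import Cfsg.Prelude.Def_KGroupFacts

set_option autoImplicit false

namespace Cfsg.Agent.Lib.Helper6_Stem

open Subgroup
open scoped commutatorElement

variable {Γ : Type*} [Group Γ]

/-- If `closure S = ⊤` and the elements of `S` pairwise commute modulo the normal subgroup `C`,
then `commutator Γ ≤ C`. -/
theorem commutator_le_of_gen (C : Subgroup Γ) [C.Normal] (S : Set Γ) (hS : closure S = ⊤)
    (h : ∀ x ∈ S, ∀ y ∈ S, ⁅x, y⁆ ∈ C) : commutator Γ ≤ C := by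
  set π := QuotientGroup.mk' C with hπ
  have hS' : closure (π '' S) = ⊤ := by
    rw [← MonoidHom.map_closure, hS, Subgroup.map_top_of_surjective π (QuotientGroup.mk'_surjective C)]
  have hcomm : ∀ x ∈ π '' S, ∀ y ∈ π '' S, x * y = y * x := by
    rintro _ ⟨x, hx, rfl⟩ _ ⟨y, hy, rfl⟩
    have := h x hx y hy
    rw [← map_mul, ← map_mul]
    rw [hπ, QuotientGroup.mk'_apply, QuotientGroup.mk'_apply, QuotientGroup.eq]
    have h2 : (x * y)⁻¹ * (y * x) = ⁅y⁻¹, x⁻¹⁆ := by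
      simp [commutatorElement_def, mul_assoc]
    rw [h2]
    have h3 := h y hy x hx
    -- ⁅y⁻¹, x⁻¹⁆ = (y x)⁻¹ ⁅y, x⁆ (y x)
    have h4 : ⁅y⁻¹, x⁻¹⁆ = (y * x)⁻¹ * ⁅y, x⁆ * (y * x) := by
      simp [commutatorElement_def, mul_assoc]
    rw [h4]
    have := ‹C.Normal›.conj_mem _ h3 (y * x)⁻¹
    simpa using this
  have hall : ∀ g k : Γ ⧸ C, g * k = k * g := by
    intro g k
    have hg : g ∈ closure (π '' S) := hS' ▸ mem_top g
    have hk : k ∈ closure (π '' S) := hS' ▸ mem_top k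
    have := (Subgroup.isMulCommutative_closure hcomm).is_comm.comm ⟨g, hg⟩ ⟨k, hk⟩
    exact congrArg Subtype.val this
  rw [_root_.commutator_def, commutator_le]
  intro g₁ _ g₂ _
  rw [← QuotientGroup.eq_one_iff, commutatorElement_def]
  change π (g₁ * g₂ * g₁⁻¹ * g₂⁻¹) = 1
  rw [map_mul, map_mul, map_mul, hall (π g₁) (π g₂), map_inv, map_inv]
  group

theorem mem_normalizer_zpowers_of_conj {x c : Γ} (h : x * c * x⁻¹ ∈ zpowers c)
    (h' : x⁻¹ * c * x ∈ zpowers c) : x ∈ normalizer (zpowers c : Set Γ) := by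
  rw [mem_normalizer_iff]
  intro g
  constructor
  · intro hg
    obtain ⟨k, rfl⟩ := mem_zpowers_iff.mp hg
    have : x * c ^ k * x⁻¹ = (x * c * x⁻¹) ^ k := by rw [conj_zpow]
    rw [this]; exact zpow_mem h k
  · intro hg
    obtain ⟨k, hk⟩ := mem_zpowers_iff.mp hg
    have e : g = x⁻¹ * (c ^ k) * x := by rw [hk]; group
    have : x⁻¹ * c ^ k * x = (x⁻¹ * c * x) ^ k := by
      have := conj_zpow (a := x⁻¹) (b := c) (i := k)
      simpa using this.symm
    rw [e, this]; exact zpow_mem h' k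

/-- Key computation for central extensions of dihedral-type groups. -/
theorem dihedral_type_pow (α ξ : Γ) (hz : ξ * α * ξ⁻¹ * α ∈ center Γ) (n : ℕ)
    (hn : ξ * α ^ n * ξ⁻¹ = α ^ n) : (ξ * α * ξ⁻¹ * α⁻¹) ^ n = 1 := by
  set z := ξ * α * ξ⁻¹ * α with hzdef
  have hzc : ∀ g : Γ, Commute z g := fun g => (mem_center_iff.mp hz g).symm
  have h1 : ξ * α * ξ⁻¹ = z * α⁻¹ := by rw [hzdef]; group
  have h2 : ξ * α * ξ⁻¹ * α⁻¹ = z * (α⁻¹ * α⁻¹) := by rw [h1, mul_assoc]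
  have h3 : (ξ * α * ξ⁻¹) ^ n = ξ * α ^ n * ξ⁻¹ := by
    rw [← conj_pow]
  have h4 : (z * α⁻¹) ^ n = z ^ n * (α⁻¹) ^ n := (hzc α⁻¹).mul_pow n
  have h5 : z ^ n * (α⁻¹) ^ n = α ^ n := by rw [← h4, ← h1, h3, hn]
  rw [h2, (hzc _).mul_pow n, (Commute.refl α⁻¹).mul_pow n]
  have h6 : z ^ n = α ^ n * α ^ n := by
    have := congrArg (· * α ^ n) h5
    simp only [inv_pow, inv_mul_cancel_right] at this
    exact this
  rw [h6, inv_pow]; group

/-- In a central extension by `K` generated modulo `K` by `α, ξ` with `ξ α ξ⁻¹ ≡ α⁻¹` modulo `K`,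
the commutator subgroup is the cyclic group generated by `[ξ, α]`. -/
theorem dihedral_type_commutator_le (K : Subgroup Γ) (hK : K ≤ center Γ) (α ξ : Γ)
    (hgen : closure {α, ξ} ⊔ K = ⊤) (hz : ξ * α * ξ⁻¹ * α ∈ K) :
    commutator Γ ≤ zpowers (ξ * α * ξ⁻¹ * α⁻¹) := by
  set z := ξ * α * ξ⁻¹ * α with hzdef
  set c := ξ * α * ξ⁻¹ * α⁻¹ with hcdef
  have hzc : ∀ g : Γ, Commute z g := fun g => (mem_center_iff.mp (hK hz) g).symm
  have h1 : ξ * α * ξ⁻¹ = z * α⁻¹ := by rw [hzdef]; group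
  have hc : c = z * (α⁻¹ * α⁻¹) := by rw [hcdef, h1, mul_assoc]
  -- α commutes with c
  have hαc : α * c * α⁻¹ = c := by
    rw [hc, ← mul_assoc, ← (hzc α).eq]; group
  -- ξ inverts c
  have hξc : ξ * c * ξ⁻¹ = c⁻¹ := by
    have e1 : ξ * c * ξ⁻¹ = (ξ * z * ξ⁻¹) * ((ξ * α * ξ⁻¹)⁻¹ * (ξ * α * ξ⁻¹)⁻¹) := by
      rw [hc]; group
    have e2 : ξ * z * ξ⁻¹ = z := by rw [← (hzc ξ).eq]; group
    rw [e1, e2, h1, hc]
    have hzi : Commute z⁻¹ α := (hzc α).inv_left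
    have hzi2 : Commute z⁻¹ (α * α) := (hzc (α * α)).inv_left
    calc z * ((z * α⁻¹)⁻¹ * (z * α⁻¹)⁻¹) = z * (α * z⁻¹ * (α * z⁻¹)) := by simp
      _ = z * (z⁻¹ * α * (z⁻¹ * α)) := by rw [hzi.eq]
      _ = α * (z⁻¹ * α) := by group
      _ = z⁻¹ * α * α := by rw [← mul_assoc, ← hzi.eq]
      _ = z⁻¹ * (α * α) := by group
      _ = (α * α) * z⁻¹ := hzi2.eq
      _ = (z * (α⁻¹ * α⁻¹))⁻¹ := by simp
  -- the cyclic group generated by c is normal
  have hnorm : (zpowers c).Normal := by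
    rw [← normalizer_eq_top_iff, eq_top_iff, ← hgen, sup_le_iff, closure_le]
    refine ⟨?_, ?_⟩
    · intro x hx
      rcases hx with rfl | rfl
      · refine mem_normalizer_zpowers_of_conj ?_ ?_
        · rw [hαc]; exact mem_zpowers c
        · have e2 : x⁻¹ * c * x = c := by
            calc x⁻¹ * c * x = x⁻¹ * (x * c * x⁻¹) * x := by rw [hαc]
              _ = c := by group
          rw [e2]; exact mem_zpowers c
      · refine mem_normalizer_zpowers_of_conj ?_ ?_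
        · rw [hξc]; exact inv_mem (mem_zpowers c)
        · have e2 : x⁻¹ * c * x = c⁻¹ := by
            calc x⁻¹ * c * x = (x⁻¹ * c⁻¹ * x)⁻¹ := by group
              _ = (x⁻¹ * (x * c * x⁻¹) * x)⁻¹ := by rw [hξc]
              _ = c⁻¹ := by group
          rw [e2]; exact inv_mem (mem_zpowers c)
    · intro x hx
      rw [mem_normalizer_iff]
      intro h
      have hxc : ∀ g : Γ, g * x = x * g := mem_center_iff.mp (hK hx)
      have : x * h * x⁻¹ = h := by rw [← hxc h]; group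
      rw [this]
  have := hnorm
  refine commutator_le_of_gen (zpowers c) ({α, ξ} ∪ (K : Set Γ)) ?_ ?_
  · rw [Subgroup.closure_union, closure_eq]; exact hgen
  · have hcm : c ∈ zpowers c := mem_zpowers c
    have hKc : ∀ x ∈ K, ∀ y : Γ, ⁅x, y⁆ = 1 ∧ ⁅y, x⁆ = 1 := by
      intro x hx y
      have hxc : ∀ g : Γ, g * x = x * g := mem_center_iff.mp (hK hx)
      constructor
      · rw [commutatorElement_def, ← hxc y]; group
      · rw [commutatorElement_def, hxc y]; group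
    rintro x (hx | hx) y (hy | hy)
    · rcases hx with rfl | rfl <;> rcases hy with rfl | rfl
      · rw [commutatorElement_self]; exact one_mem _
      · have : ⁅x, y⁆ = c⁻¹ := by rw [hcdef, commutatorElement_def]; group
        rw [this]; exact inv_mem hcm
      · have : ⁅x, y⁆ = c := by rw [hcdef, commutatorElement_def]
        rw [this]; exact hcm
      · rw [commutatorElement_self]; exact one_mem _
    · rw [(hKc y hy x).2]; exact one_mem _
    · rw [(hKc x hx y).1]; exact one_mem _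
    · rw [(hKc x hx y).1]; exact one_mem _

/-- If every element of the group `K` is a power of `k₀` and `k₀ ^ n = 1`, then `K` is a quotient of
the cyclic group of order `n`. -/
theorem exists_surjective_of_zpowers {K : Type*} [Group K] (n : ℕ) (k₀ : K) (hk : k₀ ^ n = 1)
    (hall : ∀ k : K, k ∈ zpowers k₀) :
    ∃ π : Multiplicative (ZMod n) →* K, Function.Surjective π := by
  have hker : ∀ m : ℤ, (n : ℤ) ∣ m → k₀ ^ m = 1 := by
    rintro m ⟨t, rfl⟩
    rw [zpow_mul, zpow_natCast, hk, one_zpow]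
  let f : ZMod n →+ Additive K :=
    ZMod.lift n ⟨(zmultiplesHom (Additive K)) (Additive.ofMul k₀), by
      change ((n : ℤ) • Additive.ofMul k₀) = 0
      rw [natCast_zsmul]
      change Additive.ofMul (k₀ ^ n) = 0
      rw [hk]; rfl⟩
  refine ⟨AddMonoidHom.toMultiplicativeLeft f, ?_⟩
  intro k
  obtain ⟨m, rfl⟩ := mem_zpowers_iff.mp (hall k)
  refine ⟨Multiplicative.ofAdd (m : ZMod n), ?_⟩
  change Additive.toMul (f (m : ZMod n)) = k₀ ^ m
  rw [ZMod.lift_coe]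
  simp [zmultiplesHom_apply]

/-- Main structural lemma for stem extensions of groups of dihedral type: `G` is generated by
`g₁, g₂` with `g₂ g₁ g₂⁻¹ = g₁⁻¹` and `g₁ ^ n = g₂ ^ m`. Then the kernel of any stem extension
consists of powers `c ^ j` of one element `c` with `c ^ n = 1`, and `g₁ ^ (2 j) = 1` for those `j`. -/
theorem stem_dihedral_type {G : Type*} [Group G] (σ : Γ →* G) (hσ : Cfsg.IsStemExtension σ)
    (g₁ g₂ : G) (hG : closure {g₁, g₂} = ⊤) (hrel : g₂ * g₁ * g₂⁻¹ = g₁⁻¹) (n m : ℕ)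
    (hnm : g₁ ^ n = g₂ ^ m) :
    ∃ c : Γ, c ^ n = 1 ∧ σ c = g₁⁻¹ * g₁⁻¹ ∧ ∀ k ∈ σ.ker, ∃ j : ℤ, k = c ^ j ∧ g₁ ^ (2 * j) = 1 := by
  obtain ⟨hsurj, hcent, hcomm⟩ := hσ
  obtain ⟨α, hα⟩ := hsurj g₁
  obtain ⟨ξ, hξ⟩ := hsurj g₂
  have hgen : closure {α, ξ} ⊔ σ.ker = ⊤ := by
    rw [← Subgroup.comap_map_eq, MonoidHom.map_closure, Set.image_pair, hα, hξ, hG, comap_top]
  have hz : ξ * α * ξ⁻¹ * α ∈ σ.ker := by
    rw [MonoidHom.mem_ker, map_mul, map_mul, map_mul, map_inv, hα, hξ, hrel, inv_mul_cancel]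
  have hpow : ξ * α ^ n * ξ⁻¹ = α ^ n := by
    have hk : α ^ n * (ξ ^ m)⁻¹ ∈ σ.ker := by
      rw [MonoidHom.mem_ker, map_mul, map_inv, map_pow, map_pow, hα, hξ, hnm, mul_inv_cancel]
    have hc := mem_center_iff.mp (hcent hk)
    have e : α ^ n = (α ^ n * (ξ ^ m)⁻¹) * ξ ^ m := by group
    have h1 : ξ * (α ^ n * (ξ ^ m)⁻¹) = (α ^ n * (ξ ^ m)⁻¹) * ξ := hc ξ
    have h2 : ξ * ξ ^ m = ξ ^ m * ξ := by rw [← pow_succ, ← pow_succ']
    calc ξ * α ^ n * ξ⁻¹ = ξ * ((α ^ n * (ξ ^ m)⁻¹) * ξ ^ m) * ξ⁻¹ := by rw [← e]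
      _ = (ξ * (α ^ n * (ξ ^ m)⁻¹)) * ξ ^ m * ξ⁻¹ := by group
      _ = (α ^ n * (ξ ^ m)⁻¹) * (ξ * ξ ^ m) * ξ⁻¹ := by rw [h1]; group
      _ = (α ^ n * (ξ ^ m)⁻¹) * (ξ ^ m * ξ) * ξ⁻¹ := by rw [h2]
      _ = α ^ n := by group
  have h1 : σ (ξ * α * ξ⁻¹ * α⁻¹) = g₁⁻¹ * g₁⁻¹ := by
    rw [map_mul, map_mul, map_mul, map_inv, map_inv, hα, hξ, hrel]
  refine ⟨ξ * α * ξ⁻¹ * α⁻¹, dihedral_type_pow α ξ (hcent hz) n hpow, h1, ?_⟩
  intro k hk
  have hkc := dihedral_type_commutator_le σ.ker hcent α ξ hgen hz (hcomm hk)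
  obtain ⟨j, hj⟩ := mem_zpowers_iff.mp hkc
  refine ⟨j, hj.symm, ?_⟩
  have h2 : σ k = 1 := hk
  rw [← hj, map_zpow, h1] at h2
  have h3 : g₁⁻¹ * g₁⁻¹ = (g₁ ^ (2 : ℤ))⁻¹ := by group
  rw [h3, inv_zpow, inv_eq_one, ← zpow_mul] at h2
  exact h2

/-- The trivial group receives a surjection from `ZMod 1`. -/
theorem exists_surjective_of_ker_trivial {G : Type*} [Group G] (σ : Γ →* G)
    (h : ∀ k ∈ σ.ker, k = 1) : ∃ π : Multiplicative (ZMod 1) →* σ.ker, Function.Surjective π := by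
  refine ⟨1, fun x => ⟨1, ?_⟩⟩
  exact Subtype.ext (by simpa using (h x.1 x.2).symm)

/-- The identity is a stem extension with kernel isomorphic to `ZMod 1`. -/
theorem id_stem (G : Type*) [Group G] :
    Cfsg.IsStemExtension (MonoidHom.id G) ∧
      Nonempty ((MonoidHom.id G).ker ≃* Multiplicative (ZMod 1)) := by
  refine ⟨⟨Function.surjective_id, ?_, ?_⟩, ?_⟩
  · rw [MonoidHom.ker_id]; exact bot_le
  · rw [MonoidHom.ker_id]; exact bot_le
  · have hk : ∀ x : (MonoidHom.id G).ker, x = 1 := by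
      rintro ⟨x, hx⟩
      rw [MonoidHom.ker_id, Subgroup.mem_bot] at hx
      exact Subtype.ext hx
    exact ⟨⟨⟨fun _ => 1, fun _ => 1, fun x => (hk x).symm, fun x => Subsingleton.elim _ _⟩,
      fun _ _ => by simp⟩⟩

end Cfsg.Agent.Lib.Helper6_Stem
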