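import Mathlib

set_option autoImplicit false

open scoped Pointwise

namespace Cfsg.Agent.Lib.Helper6_TI

variable {G : Type*} [Group G]

/-- membership in a `MulAut.conj` translate of a subgroup. -/
theorem mem_conj_smul {H : Subgroup G} {g x : G} :
    x ∈ MulAut.conj g • H ↔ g⁻¹ * x * g ∈ H := by
  rw [Subgroup.mem_pointwise_smul_iff_inv_smul_mem]
  simp [MulAut.smul_def]

/-- The subgroup-form TI condition implies the elementwise form. -/
theorem ti_elem {P : Subgroup G}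
    (hTI : ∀ g : G, g ∉ Subgroup.normalizer (P : Set G) → P ⊓ (MulAut.conj g • P) = ⊥)
    (g y : G) (hy1 : y ≠ 1) (hy : y ∈ P) (hgy : g * y * g⁻¹ ∈ P) :
    g ∈ Subgroup.normalizer (P : Set G) := by
  by_contra hg
  have hg' : g⁻¹ ∉ Subgroup.normalizer (P : Set G) := fun h => hg (by simpa using Subgroup.inv_mem _ h)
  have h1 := hTI g⁻¹ hg'
  apply hy1
  have : y ∈ P ⊓ (MulAut.conj g⁻¹ • P) := by
    refine Subgroup.mem_inf.mpr ⟨hy, ?_⟩
    rw [mem_conj_smul]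
    simpa using hgy
  rw [h1] at this
  exact Subgroup.mem_bot.mp this

/-- The elementwise form implies the subgroup form. -/
theorem ti_of_elem {P : Subgroup G}
    (h : ∀ g y : G, y ≠ 1 → y ∈ P → g * y * g⁻¹ ∈ P → g ∈ Subgroup.normalizer (P : Set G)) :
    ∀ g : G, g ∉ Subgroup.normalizer (P : Set G) → P ⊓ (MulAut.conj g • P) = ⊥ := by
  intro g hg
  rw [Subgroup.eq_bot_iff_forall]
  intro y hy
  obtain ⟨hy1, hy2⟩ := Subgroup.mem_inf.mp hy
  rw [mem_conj_smul] at hy2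
  by_contra hne
  apply hg
  have := h g⁻¹ y hne hy1 (by simpa using hy2)
  simpa using Subgroup.inv_mem _ this

/-- Transport of the elementwise TI form along conjugation: if `P'` is the conjugate `h P h⁻¹`. -/
theorem ti_elem_conj {P P' : Subgroup G} (h : G)
    (hP' : ∀ x, x ∈ P' ↔ h⁻¹ * x * h ∈ P)
    (hTI : ∀ g y : G, y ≠ 1 → y ∈ P → g * y * g⁻¹ ∈ P → g ∈ Subgroup.normalizer (P : Set G))
    (g y : G) (hy1 : y ≠ 1) (hy : y ∈ P') (hgy : g * y * g⁻¹ ∈ P') :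
    g ∈ Subgroup.normalizer (P' : Set G) := by
  have h1 : h⁻¹ * g * h ∈ Subgroup.normalizer (P : Set G) := by
    apply hTI (h⁻¹ * g * h) (h⁻¹ * y * h)
    · intro h0
      apply hy1
      have : y = h * (h⁻¹ * y * h) * h⁻¹ := by simp [mul_assoc]
      rw [this, h0]; simp
    · exact (hP' y).1 hy
    · have := (hP' _).1 hgy
      have e : h⁻¹ * g * h * (h⁻¹ * y * h) * (h⁻¹ * g * h)⁻¹ = h⁻¹ * (g * y * g⁻¹) * h := by
        simp [mul_assoc]
      rw [e]; exact this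
  rw [Subgroup.mem_normalizer_iff] at h1 ⊢
  intro x
  rw [hP' x, hP' (g * x * g⁻¹), h1 (h⁻¹ * x * h)]
  have e : h⁻¹ * g * h * (h⁻¹ * x * h) * (h⁻¹ * g * h)⁻¹ = h⁻¹ * (g * x * g⁻¹) * h := by
    simp [mul_assoc]
  rw [e]

/-- membership in a Sylow translate. -/
theorem mem_sylow_smul {p : ℕ} {P : Sylow p G} {h x : G} :
    x ∈ ((h • P : Sylow p G) : Subgroup G) ↔ h⁻¹ * x * h ∈ (P : Subgroup G) := by
  rw [Sylow.coe_subgroup_smul, mem_conj_smul]

/-- If one Sylow `p`-subgroup is TI (elementwise form) then all are. -/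
theorem ti_elem_sylow [Finite G] {p : ℕ} [Fact p.Prime] (P P' : Sylow p G)
    (hTI : ∀ g y : G, y ≠ 1 → y ∈ (P : Subgroup G) → g * y * g⁻¹ ∈ (P : Subgroup G) →
      g ∈ Subgroup.normalizer ((P : Subgroup G) : Set G))
    (g y : G) (hy1 : y ≠ 1) (hy : y ∈ (P' : Subgroup G)) (hgy : g * y * g⁻¹ ∈ (P' : Subgroup G)) :
    g ∈ Subgroup.normalizer ((P' : Subgroup G) : Set G) := by
  obtain ⟨h, rfl⟩ := MulAction.exists_smul_eq G P P'
  exact ti_elem_conj h (fun x => mem_sylow_smul) hTI g y hy1 hy hgy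

/-- a cyclic group generated by an element of `p`-power order is a `p`-group. -/
theorem isPGroup_zpowers {p : ℕ} {y : G} {e : ℕ} (h : y ^ (p ^ e) = 1) :
    IsPGroup p (Subgroup.zpowers y) := by
  rintro ⟨w, hw⟩
  obtain ⟨i, rfl⟩ := Subgroup.mem_zpowers_iff.mp hw
  refine ⟨e, Subtype.ext ?_⟩
  simp only [Subgroup.coe_pow, Subgroup.coe_one]
  rw [← zpow_natCast, ← zpow_mul, mul_comm, zpow_mul, zpow_natCast, h, one_zpow]

/-- A `p`-element of `P ⊔ N` (`P` a Sylow `p`-subgroup of `G`, `N` normal) is conjugate into `P`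
by an element of `N`. -/
theorem exists_conj_mem_sylow [Finite G] {p : ℕ} [Fact p.Prime] (P : Sylow p G) (N : Subgroup G)
    [N.Normal] {y : G} {e : ℕ} (hy : y ^ (p ^ e) = 1) (hyK : y ∈ N ⊔ (P : Subgroup G)) :
    ∃ n ∈ N, n⁻¹ * y * n ∈ (P : Subgroup G) := by
  set K : Subgroup G := N ⊔ (P : Subgroup G) with hK
  have hPK : (P : Subgroup G) ≤ K := le_sup_right
  let y' : K := ⟨y, hyK⟩
  have hy' : y' ^ (p ^ e) = 1 := Subtype.ext (by simpa using hy)
  obtain ⟨S, hS⟩ := (isPGroup_zpowers hy').exists_le_sylow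
  obtain ⟨k, hk⟩ := MulAction.exists_smul_eq K (P.subtype hPK) S
  have h1 : y' ∈ (S : Subgroup K) := hS (Subgroup.mem_zpowers y')
  rw [← hk, mem_sylow_smul, Sylow.coe_subtype, Subgroup.mem_subgroupOf] at h1
  have h2 : (k : G)⁻¹ * y * (k : G) ∈ (P : Subgroup G) := by simpa using h1
  have hkK : (k : G) ∈ ((N ⊔ (P : Subgroup G) : Subgroup G) : Set G) := k.2
  rw [Subgroup.normal_mul, Set.mem_mul] at hkK
  obtain ⟨n, hn, w, hw, hnw⟩ := hkK
  refine ⟨n, hn, ?_⟩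
  rw [← hnw] at h2
  have h3 := Subgroup.mul_mem _ (Subgroup.mul_mem _ hw h2) (Subgroup.inv_mem _ hw)
  have e1 : w * ((n * w)⁻¹ * y * (n * w)) * w⁻¹ = n⁻¹ * y * n := by
    simp [mul_assoc]
  rw [e1] at h3
  exact h3

end Cfsg.Agent.Lib.Helper6_TI
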