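import Mathlib
import Cfsg.Agent.Lib.Helper6_TI

set_option autoImplicit false

open scoped Pointwise

namespace Cfsg.Agent.Lib.Helper6_Sylow

open Cfsg.Agent.Lib.Helper6_TI

variable {G : Type*} [Group G]

/-- an element of `p`-power order in a subgroup of order prime to `p` is trivial. -/
theorem eq_one_of_pow_of_coprime {p : ℕ} {N : Subgroup G} [Finite N]
    (hN : (Nat.card N).Coprime p) {n : G} (hn : n ∈ N) {e : ℕ} (he : n ^ (p ^ e) = 1) : n = 1 := by
  rw [← orderOf_eq_one_iff]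
  have h1 : orderOf n ∣ p ^ e := orderOf_dvd_of_pow_eq_one he
  have h2 : orderOf n ∣ Nat.card N := Subgroup.orderOf_dvd_natCard N hn
  have hcop : Nat.Coprime (p ^ e) (Nat.card N) := (Nat.Coprime.pow_left e hN.symm)
  exact Nat.eq_one_of_dvd_coprimes hcop h1 h2

/-- a `p`-subgroup meets a normal `p'`-subgroup trivially. -/
theorem inf_eq_bot_of_coprime {p : ℕ} {N P : Subgroup G} [Finite N]
    (hN : (Nat.card N).Coprime p) (hP : IsPGroup p P) : P ⊓ N = ⊥ := by
  rw [Subgroup.eq_bot_iff_forall]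
  intro y hy
  obtain ⟨hyP, hyN⟩ := Subgroup.mem_inf.mp hy
  obtain ⟨e, he⟩ := hP ⟨y, hyP⟩
  have he' : y ^ (p ^ e) = 1 := by simpa using congrArg Subtype.val he
  exact eq_one_of_pow_of_coprime hN hyN he'

/-- If `N` is a normal `p'`-subgroup and `P` a `p`-subgroup, then `P` is a Sylow `p`-subgroup of
`N ⊔ P`. -/
noncomputable def sylowOfSup [Finite G] {p : ℕ} [Fact p.Prime] (N : Subgroup G) [N.Normal]
    (hN : (Nat.card N).Coprime p) (P : Subgroup G) (hP : IsPGroup p P) :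
    Sylow p ↥(N ⊔ P) where
  toSubgroup := P.subgroupOf (N ⊔ P)
  isPGroup' := hP.comap_subtype
  is_maximal' := by
    intro R hR hle
    apply le_antisymm _ hle
    intro r hr
    rw [Subgroup.mem_subgroupOf]
    have hrK : (r : G) ∈ ((N ⊔ P : Subgroup G) : Set G) := r.2
    rw [Subgroup.normal_mul, Set.mem_mul] at hrK
    obtain ⟨n, hn, y, hy, hny⟩ := hrK
    have hyK : y ∈ N ⊔ P := (le_sup_right : P ≤ N ⊔ P) hy
    have hyR : (⟨y, hyK⟩ : ↥(N ⊔ P)) ∈ R := hle (by rw [Subgroup.mem_subgroupOf]; exact hy)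
    have hnR : r * (⟨y, hyK⟩ : ↥(N ⊔ P))⁻¹ ∈ R := R.mul_mem hr (R.inv_mem hyR)
    obtain ⟨e, he⟩ := hR ⟨_, hnR⟩
    have he' : ((r : G) * y⁻¹) ^ (p ^ e) = 1 := by
      have := congrArg Subtype.val (congrArg Subtype.val he)
      simpa using this
    have hn' : (r : G) * y⁻¹ = n := by rw [← hny]; simp
    rw [hn'] at he'
    have hn1 : n = 1 := eq_one_of_pow_of_coprime hN hn he'
    rw [hn1, one_mul] at hny
    rw [← hny]; exact hy

theorem coe_sylowOfSup [Finite G] {p : ℕ} [Fact p.Prime] (N : Subgroup G) [N.Normal]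
    (hN : (Nat.card N).Coprime p) (P : Subgroup G) (hP : IsPGroup p P) :
    ((sylowOfSup N hN P hP : Sylow p ↥(N ⊔ P)) : Subgroup ↥(N ⊔ P)) = P.subgroupOf (N ⊔ P) := rfl

/-- A `p`-subgroup `Q` of `N ⊔ P` is conjugate into `P` by an element of `N`. -/
theorem exists_conj_le_of_le_sup [Finite G] {p : ℕ} [Fact p.Prime] (N : Subgroup G) [N.Normal]
    (hN : (Nat.card N).Coprime p) (P Q : Subgroup G) (hP : IsPGroup p P) (hQ : IsPGroup p Q)
    (hQK : Q ≤ N ⊔ P) : ∃ n ∈ N, ∀ y ∈ Q, n⁻¹ * y * n ∈ P := by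
  obtain ⟨S, hS⟩ := (hQ.comap_subtype (K := N ⊔ P)).exists_le_sylow
  obtain ⟨k, hk⟩ := MulAction.exists_smul_eq ↥(N ⊔ P) (sylowOfSup N hN P hP) S
  have hkK : (k : G) ∈ ((N ⊔ P : Subgroup G) : Set G) := k.2
  rw [Subgroup.normal_mul, Set.mem_mul] at hkK
  obtain ⟨n, hn, w, hw, hnw⟩ := hkK
  refine ⟨n, hn, ?_⟩
  intro y hy
  have h1 : (⟨y, hQK hy⟩ : ↥(N ⊔ P)) ∈ (S : Subgroup ↥(N ⊔ P)) := hS (by
    rw [Subgroup.mem_comap]; exact hy)
  rw [← hk, mem_sylow_smul, coe_sylowOfSup, Subgroup.mem_subgroupOf] at h1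
  have h2 : (k : G)⁻¹ * y * (k : G) ∈ P := by simpa using h1
  rw [← hnw] at h2
  have h3 := P.mul_mem (P.mul_mem hw h2) (P.inv_mem hw)
  have e1 : w * ((n * w)⁻¹ * y * (n * w)) * w⁻¹ = n⁻¹ * y * n := by
    simp [mul_assoc]
  rw [e1] at h3
  exact h3

/-- In a finite group, if conjugation by `g` maps `P` into `P` then `g` normalizes `P`. -/
theorem mem_normalizer_of_conj_le [Finite G] {P : Subgroup G} {g : G}
    (h : ∀ y ∈ P, g * y * g⁻¹ ∈ P) : g ∈ Subgroup.normalizer (P : Set G) := by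
  let f : ↥P → ↥P := fun y => ⟨g * y * g⁻¹, h y y.2⟩
  have hinj : Function.Injective f := by
    intro a b hab
    have := congrArg Subtype.val hab
    simp only [f] at this
    apply Subtype.ext
    simpa using this
  have hsurj : Function.Surjective f := Finite.injective_iff_surjective.mp hinj
  rw [Subgroup.mem_normalizer_iff]
  intro z
  constructor
  · exact h z
  · intro hz
    obtain ⟨y, hy⟩ := hsurj ⟨_, hz⟩
    have := congrArg Subtype.val hy
    simp only [f] at this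
    have hzy : z = y := by
      have h2 : g * (y : G) * g⁻¹ = g * z * g⁻¹ := this
      simpa using h2.symm
    rw [hzy]; exact y.2

end Cfsg.Agent.Lib.Helper6_Sylow
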