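import Mathlib
import Cfsg.Prelude.Def_KGroupFacts

set_option autoImplicit false

/-! The twisted product of two stem extensions: a stem extension of `Q₁ × Q₂` whose kernel is
`ker σ₁ × ker σ₂ × (Q₁ᵃᵇ ⊗ Q₂ᵃᵇ)`. -/

namespace Cfsg.Agent.Lib.Helper6_TwProd

open scoped TensorProduct commutatorElement

universe u v

section

variable {Γ₁ : Type u} {Γ₂ : Type v} [Group Γ₁] [Group Γ₂] {Q₁ : Type u} {Q₂ : Type v}
  [Group Q₁] [Group Q₂]

/-- the tensor product of the commutator quotients, additively -/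
abbrev TA (Q₁ : Type u) (Q₂ : Type v) [Group Q₁] [Group Q₂] :=
  Additive (Abelianization Q₁) ⊗[ℤ] Additive (Abelianization Q₂)

/-- the class of an element in the additive commutator quotient -/
def cl {Γ : Type*} {Q : Type*} [Group Γ] [Group Q] (σ : Γ →* Q) (x : Γ) :
    Additive (Abelianization Q) := Additive.ofMul (Abelianization.of (σ x))

theorem cl_mul {Γ : Type*} {Q : Type*} [Group Γ] [Group Q] (σ : Γ →* Q) (x y : Γ) :
    cl σ (x * y) = cl σ x + cl σ y := by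
  unfold cl
  rw [map_mul, map_mul]
  rfl

theorem cl_one {Γ : Type*} {Q : Type*} [Group Γ] [Group Q] (σ : Γ →* Q) : cl σ 1 = 0 := by
  unfold cl
  rw [map_one, map_one]
  rfl

theorem cl_inv {Γ : Type*} {Q : Type*} [Group Γ] [Group Q] (σ : Γ →* Q) (x : Γ) :
    cl σ x⁻¹ = - cl σ x := by
  unfold cl
  rw [map_inv, map_inv]
  rfl

theorem cl_eq_zero {Γ : Type*} {Q : Type*} [Group Γ] [Group Q] (σ : Γ →* Q) (x : Γ)
    (hx : σ x = 1) : cl σ x = 0 := by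
  unfold cl
  rw [hx, map_one]
  rfl

theorem cl_surjective {Γ : Type*} {Q : Type*} [Group Γ] [Group Q] (σ : Γ →* Q)
    (hσ : Function.Surjective σ) : Function.Surjective (cl σ) := by
  intro a
  obtain ⟨q, hq⟩ := QuotientGroup.mk_surjective (Additive.toMul a)
  obtain ⟨x, rfl⟩ := hσ q
  exact ⟨x, by unfold cl; exact congrArg Additive.ofMul hq⟩

variable (σ₁ : Γ₁ →* Q₁) (σ₂ : Γ₂ →* Q₂)

/-- the twisted product -/
@[ext]
structure Tw (σ₁ : Γ₁ →* Q₁) (σ₂ : Γ₂ →* Q₂) where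
  /-- first component -/
  a : Γ₁
  /-- second component -/
  b : Γ₂
  /-- tensor component -/
  t : TA Q₁ Q₂

instance : Mul (Tw σ₁ σ₂) :=
  ⟨fun x y => ⟨x.a * y.a, x.b * y.b, x.t + y.t + cl σ₁ x.a ⊗ₜ[ℤ] cl σ₂ y.b⟩⟩

instance : One (Tw σ₁ σ₂) := ⟨⟨1, 1, 0⟩⟩

instance : Inv (Tw σ₁ σ₂) :=
  ⟨fun x => ⟨x.a⁻¹, x.b⁻¹, - x.t + cl σ₁ x.a ⊗ₜ[ℤ] cl σ₂ x.b⟩⟩

theorem mul_a (x y : Tw σ₁ σ₂) : (x * y).a = x.a * y.a := rfl
theorem mul_b (x y : Tw σ₁ σ₂) : (x * y).b = x.b * y.b := rfl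
theorem mul_t (x y : Tw σ₁ σ₂) : (x * y).t = x.t + y.t + cl σ₁ x.a ⊗ₜ[ℤ] cl σ₂ y.b := rfl
theorem one_a : (1 : Tw σ₁ σ₂).a = 1 := rfl
theorem one_b : (1 : Tw σ₁ σ₂).b = 1 := rfl
theorem one_t : (1 : Tw σ₁ σ₂).t = 0 := rfl
theorem inv_a (x : Tw σ₁ σ₂) : (x⁻¹).a = x.a⁻¹ := rfl
theorem inv_b (x : Tw σ₁ σ₂) : (x⁻¹).b = x.b⁻¹ := rfl
theorem inv_t (x : Tw σ₁ σ₂) : (x⁻¹).t = - x.t + cl σ₁ x.a ⊗ₜ[ℤ] cl σ₂ x.b := rfl

instance : Group (Tw σ₁ σ₂) :=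
  Group.ofLeftAxioms
    (by
      intro x y z
      apply Tw.ext
      · simp only [mul_a, mul_assoc]
      · simp only [mul_b, mul_assoc]
      · simp only [mul_t, mul_a, mul_b, cl_mul, TensorProduct.add_tmul, TensorProduct.tmul_add]
        abel)
    (by
      intro x
      apply Tw.ext
      · simp only [mul_a, one_a, one_mul]
      · simp only [mul_b, one_b, one_mul]
      · simp only [mul_t, one_t, one_a, cl_one, TensorProduct.zero_tmul]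
        abel)
    (by
      intro x
      apply Tw.ext
      · simp only [mul_a, inv_a, one_a, inv_mul_cancel]
      · simp only [mul_b, inv_b, one_b, inv_mul_cancel]
      · simp only [mul_t, inv_t, inv_a, one_t, cl_inv, TensorProduct.neg_tmul]
        abel)

/-- the projection to `Q₁ × Q₂` -/
def proj : Tw σ₁ σ₂ →* Q₁ × Q₂ where
  toFun x := (σ₁ x.a, σ₂ x.b)
  map_one' := by
    change (σ₁ 1, σ₂ 1) = 1
    rw [map_one, map_one]
    rfl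
  map_mul' x y := by
    change (σ₁ (x.a * y.a), σ₂ (x.b * y.b)) = (σ₁ x.a, σ₂ x.b) * (σ₁ y.a, σ₂ y.b)
    rw [map_mul, map_mul]
    rfl

theorem proj_apply (x : Tw σ₁ σ₂) : proj σ₁ σ₂ x = (σ₁ x.a, σ₂ x.b) := rfl

theorem mem_ker_proj (x : Tw σ₁ σ₂) : x ∈ (proj σ₁ σ₂).ker ↔ σ₁ x.a = 1 ∧ σ₂ x.b = 1 := by
  rw [MonoidHom.mem_ker, proj_apply, Prod.ext_iff]
  rfl

/-- first inclusion -/
def i₁ : Γ₁ →* Tw σ₁ σ₂ where
  toFun x := ⟨x, 1, 0⟩
  map_one' := rfl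
  map_mul' x y := by
    apply Tw.ext
    · rfl
    · change (1 : Γ₂) = 1 * 1
      rw [mul_one]
    · change (0 : TA Q₁ Q₂) = 0 + 0 + cl σ₁ x ⊗ₜ[ℤ] cl σ₂ 1
      rw [cl_one, TensorProduct.tmul_zero]
      abel

/-- second inclusion -/
def i₂ : Γ₂ →* Tw σ₁ σ₂ where
  toFun y := ⟨1, y, 0⟩
  map_one' := rfl
  map_mul' x y := by
    apply Tw.ext
    · change (1 : Γ₁) = 1 * 1
      rw [mul_one]
    · rfl
    · change (0 : TA Q₁ Q₂) = 0 + 0 + cl σ₁ 1 ⊗ₜ[ℤ] cl σ₂ y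
      rw [cl_one, TensorProduct.zero_tmul]
      abel

/-- inclusion of the tensor part -/
def j : Multiplicative (TA Q₁ Q₂) →* Tw σ₁ σ₂ where
  toFun t := ⟨1, 1, Multiplicative.toAdd t⟩
  map_one' := rfl
  map_mul' s t := by
    apply Tw.ext
    · change (1 : Γ₁) = 1 * 1
      rw [mul_one]
    · change (1 : Γ₂) = 1 * 1
      rw [mul_one]
    · change Multiplicative.toAdd (s * t) =
        Multiplicative.toAdd s + Multiplicative.toAdd t + cl σ₁ 1 ⊗ₜ[ℤ] cl σ₂ 1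
      rw [cl_one, TensorProduct.zero_tmul, toAdd_mul]
      abel

theorem i₁_a (x : Γ₁) : (i₁ σ₁ σ₂ x).a = x := rfl
theorem i₁_b (x : Γ₁) : (i₁ σ₁ σ₂ x).b = 1 := rfl
theorem i₁_t (x : Γ₁) : (i₁ σ₁ σ₂ x).t = 0 := rfl
theorem i₂_a (y : Γ₂) : (i₂ σ₁ σ₂ y).a = 1 := rfl
theorem i₂_b (y : Γ₂) : (i₂ σ₁ σ₂ y).b = y := rfl
theorem i₂_t (y : Γ₂) : (i₂ σ₁ σ₂ y).t = 0 := rfl
theorem j_a (t : Multiplicative (TA Q₁ Q₂)) : (j σ₁ σ₂ t).a = 1 := rfl
theorem j_b (t : Multiplicative (TA Q₁ Q₂)) : (j σ₁ σ₂ t).b = 1 := rfl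
theorem j_t (t : Multiplicative (TA Q₁ Q₂)) : (j σ₁ σ₂ t).t = Multiplicative.toAdd t := rfl

theorem commutator_i₁_i₂ (x : Γ₁) (y : Γ₂) :
    ⁅i₁ σ₁ σ₂ x, i₂ σ₁ σ₂ y⁆ = j σ₁ σ₂ (Multiplicative.ofAdd (cl σ₁ x ⊗ₜ[ℤ] cl σ₂ y)) := by
  have h : i₁ σ₁ σ₂ x * i₂ σ₁ σ₂ y =
      j σ₁ σ₂ (Multiplicative.ofAdd (cl σ₁ x ⊗ₜ[ℤ] cl σ₂ y)) * (i₂ σ₁ σ₂ y * i₁ σ₁ σ₂ x) := by
    apply Tw.ext
    · simp only [mul_a, i₁_a, i₂_a, j_a, one_mul, mul_one]
    · simp only [mul_b, i₁_b, i₂_b, j_b, one_mul, mul_one]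
    · simp only [mul_t, mul_b, i₁_a, i₁_b, i₁_t, i₂_a, i₂_b, i₂_t, j_a, j_t, cl_one,
        TensorProduct.zero_tmul, TensorProduct.tmul_zero, toAdd_ofAdd, one_mul]
      abel
  rw [commutatorElement_def, h]
  group

theorem j_mem_commutator (hσ₁ : Function.Surjective σ₁) (hσ₂ : Function.Surjective σ₂)
    (t : Multiplicative (TA Q₁ Q₂)) : j σ₁ σ₂ t ∈ commutator (Tw σ₁ σ₂) := by
  have h : ∀ s : TA Q₁ Q₂, j σ₁ σ₂ (Multiplicative.ofAdd s) ∈ commutator (Tw σ₁ σ₂) := by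
    intro s
    induction s using TensorProduct.induction_on with
    | zero => exact Subgroup.one_mem _
    | tmul m₁ m₂ =>
      obtain ⟨x, rfl⟩ := cl_surjective σ₁ hσ₁ m₁
      obtain ⟨y, rfl⟩ := cl_surjective σ₂ hσ₂ m₂
      rw [← commutator_i₁_i₂, commutator_def]
      exact Subgroup.commutator_mem_commutator (Subgroup.mem_top _) (Subgroup.mem_top _)
    | add s₁ s₂ h₁ h₂ =>
      rw [ofAdd_add, map_mul]
      exact Subgroup.mul_mem _ h₁ h₂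
  exact h (Multiplicative.toAdd t)

theorem map_mem_commutator {G : Type*} {H : Type*} [Group G] [Group H] (f : G →* H) (x : G)
    (hx : x ∈ commutator G) : f x ∈ commutator H := by
  have h : (commutator G).map f ≤ commutator H := by
    rw [commutator_def, commutator_def, Subgroup.map_commutator]
    exact Subgroup.commutator_mono le_top le_top
  exact h ⟨x, hx, rfl⟩

theorem decompose (x : Tw σ₁ σ₂) (hx : σ₁ x.a = 1) :
    x = i₁ σ₁ σ₂ x.a * i₂ σ₁ σ₂ x.b * j σ₁ σ₂ (Multiplicative.ofAdd x.t) := by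
  apply Tw.ext
  · simp only [mul_a, i₁_a, i₂_a, j_a, mul_one]
  · simp only [mul_b, i₁_b, i₂_b, j_b, one_mul, mul_one]
  · simp only [mul_t, mul_a, i₁_a, i₁_t, i₂_a, i₂_b, i₂_t, j_b, j_t, cl_one, mul_one,
      cl_eq_zero σ₁ x.a hx, TensorProduct.zero_tmul, toAdd_ofAdd]
    abel

theorem isStem_proj (h₁ : Cfsg.IsStemExtension σ₁) (h₂ : Cfsg.IsStemExtension σ₂) :
    Cfsg.IsStemExtension (proj σ₁ σ₂) := by
  refine ⟨?_, ?_, ?_⟩
  · rintro ⟨q₁, q₂⟩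
    obtain ⟨x, hx⟩ := h₁.1 q₁
    obtain ⟨y, hy⟩ := h₂.1 q₂
    exact ⟨⟨x, y, 0⟩, by rw [proj_apply, hx, hy]⟩
  · intro k hk
    obtain ⟨hk1, hk2⟩ := (mem_ker_proj σ₁ σ₂ k).mp hk
    have hc1 : k.a ∈ Subgroup.center Γ₁ := h₁.2.1 hk1
    have hc2 : k.b ∈ Subgroup.center Γ₂ := h₂.2.1 hk2
    rw [Subgroup.mem_center_iff]
    intro y
    apply Tw.ext
    · simp only [mul_a]
      exact Subgroup.mem_center_iff.mp hc1 y.a
    · simp only [mul_b]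
      exact Subgroup.mem_center_iff.mp hc2 y.b
    · simp only [mul_t, cl_eq_zero σ₁ k.a hk1, cl_eq_zero σ₂ k.b hk2, TensorProduct.zero_tmul,
        TensorProduct.tmul_zero]
      abel
  · intro k hk
    obtain ⟨hk1, hk2⟩ := (mem_ker_proj σ₁ σ₂ k).mp hk
    rw [decompose σ₁ σ₂ k hk1]
    apply Subgroup.mul_mem
    · apply Subgroup.mul_mem
      · exact map_mem_commutator _ _ (h₁.2.2 hk1)
      · exact map_mem_commutator _ _ (h₂.2.2 hk2)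
    · exact j_mem_commutator σ₁ σ₂ h₁.1 h₂.1 _

/-- the kernel of the twisted product -/
def kerEquiv : (proj σ₁ σ₂).ker ≃* σ₁.ker × σ₂.ker × Multiplicative (TA Q₁ Q₂) where
  toFun k := (⟨k.1.a, ((mem_ker_proj σ₁ σ₂ k.1).mp k.2).1⟩,
    ⟨k.1.b, ((mem_ker_proj σ₁ σ₂ k.1).mp k.2).2⟩, Multiplicative.ofAdd k.1.t)
  invFun p := ⟨⟨p.1.1, p.2.1.1, Multiplicative.toAdd p.2.2⟩,
    (mem_ker_proj σ₁ σ₂ _).mpr ⟨p.1.2, p.2.1.2⟩⟩
  left_inv k := rfl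
  right_inv p := rfl
  map_mul' k l := by
    have hk1 : σ₁ k.1.a = 1 := ((mem_ker_proj σ₁ σ₂ k.1).mp k.2).1
    apply Prod.ext
    · rfl
    · apply Prod.ext
      · rfl
      · change Multiplicative.ofAdd (k.1.t + l.1.t + cl σ₁ k.1.a ⊗ₜ[ℤ] cl σ₂ l.1.b) =
          Multiplicative.ofAdd k.1.t * Multiplicative.ofAdd l.1.t
        rw [cl_eq_zero σ₁ k.1.a hk1, TensorProduct.zero_tmul, add_zero, ofAdd_add]

end

section finite

variable {Q₁ : Type u} {Q₂ : Type v} [Group Q₁] [Group Q₂] [Finite Q₁] [Finite Q₂]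

instance finite_TA : Finite (TA Q₁ Q₂) := by
  haveI : Finite (Additive (Abelianization Q₁)) := inferInstanceAs (Finite (Abelianization Q₁))
  haveI : Finite (Additive (Abelianization Q₂)) := inferInstanceAs (Finite (Abelianization Q₂))
  haveI : Module.Finite ℤ (Additive (Abelianization Q₁)) := Module.Finite.of_finite
  haveI : Module.Finite ℤ (Additive (Abelianization Q₂)) := Module.Finite.of_finite
  haveI : Module.Finite ℤ (TA Q₁ Q₂) := Module.Finite.tensorProduct ℤ _ _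
  apply Module.finite_of_fg_torsion
  intro x
  have hn : (Nat.card (Abelianization Q₁) : ℤ) ≠ 0 := by
    exact_mod_cast Nat.card_pos.ne'
  refine ⟨⟨(Nat.card (Abelianization Q₁) : ℤ), mem_nonZeroDivisors_of_ne_zero hn⟩, ?_⟩
  change (Nat.card (Abelianization Q₁) : ℤ) • x = 0
  induction x using TensorProduct.induction_on with
  | zero => rw [smul_zero]
  | tmul m₁ m₂ =>
    rw [TensorProduct.smul_tmul', natCast_zsmul]
    have : Nat.card (Abelianization Q₁) • m₁ = 0 := by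
      have h := pow_card_eq_one' (G := Abelianization Q₁) (x := Additive.toMul m₁)
      exact congrArg Additive.ofMul h
    rw [this, TensorProduct.zero_tmul]
  | add s₁ s₂ h₁ h₂ => rw [smul_add, h₁, h₂, add_zero]

instance finite_Tw {Γ₁ : Type u} {Γ₂ : Type v} [Group Γ₁] [Group Γ₂] [Finite Γ₁] [Finite Γ₂]
    (σ₁ : Γ₁ →* Q₁) (σ₂ : Γ₂ →* Q₂) : Finite (Tw σ₁ σ₂) :=
  Finite.of_injective (fun x : Tw σ₁ σ₂ => (x.a, x.b, x.t))
    (fun x y h => by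
      apply Tw.ext
      · exact congrArg (fun p : Γ₁ × Γ₂ × TA Q₁ Q₂ => p.1) h
      · exact congrArg (fun p : Γ₁ × Γ₂ × TA Q₁ Q₂ => p.2.1) h
      · exact congrArg (fun p : Γ₁ × Γ₂ × TA Q₁ Q₂ => p.2.2) h)

end finite

end Cfsg.Agent.Lib.Helper6_TwProd
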