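import Mathlib

set_option autoImplicit false

/-! Minimal normal subgroups normalize subnormal subgroups (Wielandt), and
subnormal subgroups of a maximal subgroup lie in its core. -/

namespace Cfsg.Agent.Lib.Helper6_Wielandt

universe u

/-- minimal normal subgroup -/
def IsMinNormal {G : Type*} [Group G] (A : Subgroup G) : Prop :=
  A.Normal ∧ A ≠ ⊥ ∧ ∀ B : Subgroup G, B.Normal → B ≤ A → B = ⊥ ∨ B = A

theorem IsMinNormal.map_equiv {G : Type*} [Group G] {A : Subgroup G} (hA : IsMinNormal A)
    (φ : G ≃* G) : IsMinNormal (A.map φ.toMonoidHom) := by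
  obtain ⟨hn, hne, hmin⟩ := hA
  refine ⟨Subgroup.Normal.map hn _ φ.surjective, ?_, ?_⟩
  · intro h
    rw [Subgroup.map_eq_bot_iff_of_injective _ φ.injective] at h
    exact hne h
  · intro C hC hCle
    have h1 : (C.comap φ.toMonoidHom).Normal := hC.comap _
    have h2 : C.comap φ.toMonoidHom ≤ A := by
      intro x hx
      rw [Subgroup.mem_comap] at hx
      obtain ⟨a, ha, hax⟩ := hCle hx
      have : a = x := φ.injective hax
      rw [← this]; exact ha
    have h3 : (C.comap φ.toMonoidHom).map φ.toMonoidHom = C :=
      Subgroup.map_comap_eq_self_of_surjective φ.surjective C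
    rcases hmin _ h1 h2 with h | h
    · left
      rw [← h3, h, Subgroup.map_bot]
    · right
      rw [← h3, h]

theorem exists_isMinNormal_le {G : Type*} [Group G] [Finite G] (A : Subgroup G) (hA : A.Normal)
    (hne : A ≠ ⊥) : ∃ B : Subgroup G, IsMinNormal B ∧ B ≤ A := by
  set 𝒮 : Set (Subgroup G) := {B | B.Normal ∧ B ≠ ⊥ ∧ B ≤ A} with h𝒮
  have hfin : 𝒮.Finite := Set.toFinite _
  have hnon : 𝒮.Nonempty := ⟨A, hA, hne, le_rfl⟩
  obtain ⟨B, hB, hmin⟩ := Set.exists_min_image 𝒮 (fun B => Nat.card B) hfin hnon
  refine ⟨B, ⟨hB.1, hB.2.1, ?_⟩, hB.2.2⟩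
  intro C hC hCB
  by_cases hC0 : C = ⊥
  · exact Or.inl hC0
  · right
    have hCS : C ∈ 𝒮 := ⟨hC, hC0, hCB.trans hB.2.2⟩
    exact Subgroup.eq_of_le_of_card_ge hCB (hmin C hCS)

theorem normalizes_aux : ∀ n : ℕ, ∀ (G : Type u) [Group G] [Finite G], Nat.card G = n →
    ∀ A : Subgroup G, IsMinNormal A → ∀ H : Subgroup G, H.IsSubnormal →
      A ≤ Subgroup.normalizer (H : Set G) := by
  intro n
  induction n using Nat.strong_induction_on with
  | _ n ih =>
    intro G _ _ hn A hA H hH
    by_cases htop : H = ⊤
    · rw [htop]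
      intro a _
      exact Subgroup.mem_normalizer_fintype (fun x _ => Set.mem_univ _)
    obtain ⟨K, hK, hHK, hKlt⟩ := hH.exists_normal_and_le_and_lt_top_of_ne htop
    have hcard : Nat.card K < n := by
      rw [← hn]
      have h1 : Nat.card K ≤ Nat.card G := Subgroup.card_le_card_group K
      rcases Nat.lt_or_ge (Nat.card K) (Nat.card G) with h | h
      · exact h
      · exact absurd (Subgroup.eq_top_of_le_card K h) hKlt.ne
    obtain ⟨hAn, hAne, hAmin⟩ := hA
    have hAK : (A ⊓ K).Normal := inferInstance
    rcases hAmin _ hAK inf_le_left with h0 | h1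
    · -- A ∩ K = 1 : A centralizes K
      have hdis : Disjoint A K := disjoint_iff.mpr h0
      intro a ha
      apply Subgroup.mem_normalizer_fintype
      intro h hh
      have hc := Subgroup.commute_of_normal_of_disjoint A K hAn hK hdis a h ha (hHK hh)
      have : a * h * a⁻¹ = h := by rw [hc.eq]; group
      rw [this]; exact hh
    · -- A ≤ K
      have hAleK : A ≤ K := by rw [← h1]; exact inf_le_right
      have hA'n : (A.subgroupOf K).Normal := inferInstance
      have hA'ne : A.subgroupOf K ≠ ⊥ := by
        intro h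
        apply hAne
        rw [Subgroup.subgroupOf_eq_bot] at h
        rw [← h1]; exact disjoint_iff.mp h
      obtain ⟨B, hBmin, hBA⟩ := exists_isMinNormal_le (A.subgroupOf K) hA'n hA'ne
      -- the conjugates of B
      let D : G → Subgroup G := fun g => (B.map K.subtype).map (MulAut.conj g).toMonoidHom
      have hD : ∀ g, D g = (B.map (MulAut.conjNormal g : MulAut K).toMonoidHom).map K.subtype := by
        intro g
        show (B.map K.subtype).map (MulAut.conj g).toMonoidHom = _
        rw [Subgroup.map_map, Subgroup.map_map]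
        congr 1
      have hDnorm : ∀ g, D g ≤ Subgroup.normalizer (H : Set G) := by
        intro g
        have hmin' := hBmin.map_equiv (MulAut.conjNormal g : MulAut K)
        have hle := ih (Nat.card K) hcard ↥K rfl _ hmin' (H.subgroupOf K) hH.subgroupOf
        rw [hD g]
        rintro _ ⟨t, ht, rfl⟩
        have htn := hle ht
        apply Subgroup.mem_normalizer_fintype
        intro h hh
        have h2 := (Subgroup.mem_normalizer_iff.mp htn ⟨h, hHK hh⟩).mp
          (by rw [Subgroup.mem_subgroupOf]; exact hh)
        rw [Subgroup.mem_subgroupOf] at h2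
        simpa using h2
      set T : Subgroup G := ⨆ g, D g with hT
      have hTle : T ≤ Subgroup.normalizer (H : Set G) := iSup_le hDnorm
      have hTn : T.Normal := by
        constructor
        intro t ht x
        have hle : T ≤ T.comap (MulAut.conj x).toMonoidHom := by
          apply iSup_le
          intro g
          rw [← Subgroup.map_le_iff_le_comap]
          have : (D g).map (MulAut.conj x).toMonoidHom = D (x * g) := by
            show ((B.map K.subtype).map (MulAut.conj g).toMonoidHom).map (MulAut.conj x).toMonoidHom =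
              (B.map K.subtype).map (MulAut.conj (x * g)).toMonoidHom
            rw [Subgroup.map_map, map_mul]
            rfl
          rw [this]
          exact le_iSup D (x * g)
        have := hle ht
        rw [Subgroup.mem_comap] at this
        simpa [MulAut.conj_apply] using this
      have hBsub : B.map K.subtype ≤ A := by
        rintro _ ⟨b, hb, rfl⟩
        have := hBA hb
        rwa [Subgroup.mem_subgroupOf] at this
      have hTA : T ≤ A := by
        apply iSup_le
        intro g
        rintro _ ⟨b, hb, rfl⟩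
        exact hAn.conj_mem b (hBsub hb) g
      have hTne : T ≠ ⊥ := by
        intro h
        have h1' : D 1 ≤ T := le_iSup D 1
        rw [h] at h1'
        have h2 : D 1 = B.map K.subtype := by
          show (B.map K.subtype).map (MulAut.conj (1 : G)).toMonoidHom = _
          rw [map_one]
          exact Subgroup.map_id _
        rw [h2, le_bot_iff, Subgroup.map_eq_bot_iff_of_injective _ K.subtype_injective] at h1'
        exact hBmin.2.1 h1'
      rcases hAmin T hTn hTA with h | h
      · exact absurd h hTne
      · rw [← h]; exact hTle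

/-- **Wielandt**: a minimal normal subgroup of a finite group normalizes every subnormal
subgroup. -/
theorem IsMinNormal.le_normalizer {G : Type u} [Group G] [Finite G] {A : Subgroup G}
    (hA : IsMinNormal A) {H : Subgroup G} (hH : H.IsSubnormal) :
    A ≤ Subgroup.normalizer (H : Set G) :=
  normalizes_aux _ G rfl A hA H hH

open scoped Pointwise in
/-- A subnormal subgroup of a finite group contained in a maximal subgroup `M` lies in the core
of `M`. -/
theorem le_normalCore_of_isSubnormal {G : Type u} [Group G] [Finite G] (M N : Subgroup G)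
    (hM : IsCoatom M) (hN : N.IsSubnormal) (hNM : N ≤ M) : N ≤ M.normalCore := by
  set C := M.normalCore with hC
  have hCM : C ≤ M := M.normalCore_le
  let π := QuotientGroup.mk' C
  have hπs : Function.Surjective π := QuotientGroup.mk'_surjective C
  -- preimage of the image of M
  have hcomap : ∀ x : G, π x ∈ M.map π → x ∈ M := by
    intro x hx
    obtain ⟨m, hm, hmx⟩ := hx
    have h1 : m⁻¹ * x ∈ C := by
      have : π (m⁻¹ * x) = 1 := by rw [map_mul, map_inv, hmx]; group
      exact (QuotientGroup.eq_one_iff _).mp this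
    have : x = m * (m⁻¹ * x) := by group
    rw [this]
    exact M.mul_mem hm (hCM h1)
  have htopne : (⊤ : Subgroup (G ⧸ C)) ≠ ⊥ := by
    intro h
    apply hM.1
    rw [eq_top_iff]
    intro g _
    apply hCM
    have : π g ∈ (⊤ : Subgroup (G ⧸ C)) := Subgroup.mem_top _
    rw [h, Subgroup.mem_bot] at this
    exact (QuotientGroup.eq_one_iff _).mp this
  obtain ⟨A, hAmin, -⟩ := exists_isMinNormal_le (⊤ : Subgroup (G ⧸ C)) inferInstance htopne
  have hAn : A.Normal := hAmin.1
  -- A is not inside the image of M
  have hAM : ¬ A ≤ M.map π := by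
    intro hle
    have h1 : A.comap π ≤ M := fun x hx => hcomap x (hle hx)
    have h2 : (A.comap π).Normal := hAn.comap π
    have h3 : A.comap π ≤ C := Subgroup.normal_le_normalCore.mpr h1
    apply hAmin.2.1
    rw [eq_bot_iff]
    intro a ha
    obtain ⟨x, rfl⟩ := hπs a
    have : x ∈ C := h3 ha
    rw [Subgroup.mem_bot]
    exact (QuotientGroup.eq_one_iff _).mpr this
  have hsup : M.map π ⊔ A = ⊤ := by
    obtain ⟨a, haA, haM⟩ := SetLike.not_le_iff_exists.mp hAM
    obtain ⟨x, rfl⟩ := hπs a
    have hlt : M < (M.map π ⊔ A).comap π := by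
      refine lt_of_le_of_ne ?_ ?_
      · intro m hm
        exact (le_sup_left : M.map π ≤ M.map π ⊔ A) ⟨m, hm, rfl⟩
      · intro h
        apply haM
        have hx : x ∈ (M.map π ⊔ A).comap π := (le_sup_right : A ≤ M.map π ⊔ A) haA
        rw [← h] at hx
        exact ⟨x, hx, rfl⟩
    have := hM.2 _ hlt
    rw [eq_top_iff]
    intro g _
    obtain ⟨y, rfl⟩ := hπs g
    have hy : y ∈ (M.map π ⊔ A).comap π := by rw [this]; exact Subgroup.mem_top y
    exact hy
  have hNsub : (N.map π).IsSubnormal := hN.map hπs
  have hAnorm := hAmin.le_normalizer hNsub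
  intro n hn b
  apply hcomap
  have hb : π b ∈ ((M.map π ⊔ A : Subgroup (G ⧸ C)) : Set (G ⧸ C)) := by
    rw [hsup]; exact Set.mem_univ _
  rw [Subgroup.mul_normal, Set.mem_mul] at hb
  obtain ⟨m, hm, a, ha, hma⟩ := hb
  have h1 : a * π n * a⁻¹ ∈ N.map π :=
    (Subgroup.mem_normalizer_iff.mp (hAnorm ha) (π n)).mp ⟨n, hn, rfl⟩
  have h2 : a * π n * a⁻¹ ∈ M.map π := Subgroup.map_mono hNM h1
  have : π (b * n * b⁻¹) = m * (a * π n * a⁻¹) * m⁻¹ := by
    rw [map_mul, map_mul, map_inv, ← hma]; group
  rw [this]
  exact Subgroup.mul_mem _ (Subgroup.mul_mem _ hm h2) (Subgroup.inv_mem _ hm)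

end Cfsg.Agent.Lib.Helper6_Wielandt
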