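import Mathlib

/-!
Affine groups `K ⋊ U` (`U` a subgroup of the units of a field `K`) and their element orders.
-/

namespace Cfsg.Agent.Lib.Helper7_AffSpec

/-- The group `K ⋊ U`. -/
@[ext] structure Aff (K : Type) [Field K] (U : Subgroup Kˣ) where
  u : U
  x : K

variable {K : Type} [Field K] {U : Subgroup Kˣ}

instance : Mul (Aff K U) := ⟨fun a b => ⟨a.u * b.u, a.x + ((a.u : Kˣ) : K) * b.x⟩⟩
instance : One (Aff K U) := ⟨⟨1, 0⟩⟩
instance : Inv (Aff K U) := ⟨fun a => ⟨a.u⁻¹, -(((a.u⁻¹ : U) : Kˣ) : K) * a.x⟩⟩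

@[simp] theorem mul_u (a b : Aff K U) : (a * b).u = a.u * b.u := rfl
@[simp] theorem mul_x (a b : Aff K U) : (a * b).x = a.x + ((a.u : Kˣ) : K) * b.x := rfl
@[simp] theorem one_u : (1 : Aff K U).u = 1 := rfl
@[simp] theorem one_x : (1 : Aff K U).x = 0 := rfl
@[simp] theorem inv_u (a : Aff K U) : (a⁻¹).u = a.u⁻¹ := rfl
@[simp] theorem inv_x (a : Aff K U) : (a⁻¹).x = -(((a.u⁻¹ : U) : Kˣ) : K) * a.x := rfl

instance : Group (Aff K U) where
  mul_assoc a b c := by
    ext
    · simp [mul_assoc]
    · simp; ring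
  one_mul a := by ext <;> simp
  mul_one a := by ext <;> simp
  inv_mul_cancel a := by
    ext
    · simp
    · simp

theorem pow_u (a : Aff K U) (k : ℕ) : (a ^ k).u = a.u ^ k := by
  induction k with
  | zero => simp
  | succ k ih => rw [pow_succ, pow_succ, mul_u, ih]

theorem pow_x (a : Aff K U) (k : ℕ) :
    (a ^ k).x = a.x * ∑ i ∈ Finset.range k, (((a.u : Kˣ) : K)) ^ i := by
  induction k with
  | zero => simp
  | succ k ih =>
    rw [pow_succ, mul_x, ih, pow_u, Finset.sum_range_succ]
    push_cast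
    ring

/-- the equivalence with the product -/
def equivProd : Aff K U ≃ U × K where
  toFun a := (a.u, a.x)
  invFun b := ⟨b.1, b.2⟩
  left_inv a := rfl
  right_inv b := rfl

instance [Finite K] : Finite (Aff K U) := Finite.of_equiv _ equivProd.symm

/-- projection onto `U` -/
def toU : Aff K U →* U where
  toFun a := a.u
  map_one' := rfl
  map_mul' _ _ := rfl

/-- the translation subgroup -/
def ofK : Multiplicative K →* Aff K U where
  toFun x := ⟨1, Multiplicative.toAdd x⟩
  map_one' := rfl
  map_mul' _ _ := by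
    ext
    · simp
    · simp

/-- the complement -/
def ofU : U →* Aff K U where
  toFun u := ⟨u, 0⟩
  map_one' := rfl
  map_mul' a b := by
    ext
    · simp
    · simp

theorem ofU_injective : Function.Injective (ofU : U →* Aff K U) := by
  intro a b h
  have := congrArg Aff.u h
  exact this

instance instSolv : Group.IsSolvable (Aff K U) := by
  refine Group.isSolvable_of_ker_le_range (ofK : Multiplicative K →* Aff K U) (toU : Aff K U →* U) ?_
  intro a ha
  rw [MonoidHom.mem_ker] at ha
  refine ⟨Multiplicative.ofAdd a.x, ?_⟩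
  ext
  · have : a.u = 1 := ha
    rw [this]; rfl
  · rfl

theorem orderOf_dvd (p : ℕ) [Fact p.Prime] [CharP K p] (w : Kˣ) (a : Aff K (Subgroup.zpowers w)) :
    orderOf a ∣ p ∨ orderOf a ∣ orderOf w := by
  by_cases hu : a.u = 1
  · left
    apply orderOf_dvd_of_pow_eq_one
    ext
    · rw [pow_u, hu]; simp
    · rw [pow_x, hu]; simp
  · right
    have h1 : orderOf a.u ∣ orderOf w := by
      rw [← Subgroup.orderOf_coe]
      exact orderOf_dvd_of_mem_zpowers a.u.2
    refine dvd_trans ?_ h1
    apply orderOf_dvd_of_pow_eq_one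
    have hk : a.u ^ orderOf a.u = 1 := pow_orderOf_eq_one _
    ext
    · rw [pow_u, hk]; rfl
    · rw [pow_x]
      have hne : (((a.u : Kˣ) : K)) - 1 ≠ 0 := by
        intro h
        apply hu
        apply Subtype.ext
        apply Units.ext
        simpa [sub_eq_zero] using h
      have hg := geom_sum_mul (((a.u : Kˣ) : K)) (orderOf a.u)
      have hk' : (((a.u : Kˣ) : K)) ^ orderOf a.u = 1 := by
        have h2 : ((a.u ^ orderOf a.u : Subgroup.zpowers w) : Kˣ) = 1 := by rw [hk]; rfl
        have h3 : ((a.u : Kˣ)) ^ orderOf a.u = 1 := by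
          rw [← h2]; rfl
        have := congrArg (fun v : Kˣ => (v : K)) h3
        simpa using this
      rw [hk', sub_self] at hg
      rcases mul_eq_zero.mp hg with h | h
      · rw [h]; simp
      · exact absurd h hne

theorem exists_orderOf_p (p : ℕ) [Fact p.Prime] [CharP K p] (U : Subgroup Kˣ) :
    ∃ a : Aff K U, orderOf a = p := by
  refine ⟨⟨1, 1⟩, ?_⟩
  apply orderOf_eq_prime
  · ext
    · rw [pow_u]; simp
    · rw [pow_x]; simp
  · intro h
    have := congrArg Aff.x h
    simp at this

theorem spectrum (p : ℕ) [Fact p.Prime] [CharP K p] (w : Kˣ) (hw : orderOf w ≠ 0) :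
    Set.range (orderOf : Aff K (Subgroup.zpowers w) → ℕ) = {m : ℕ | m ∣ p ∨ m ∣ orderOf w} := by
  have hpp : p.Prime := Fact.out
  ext m
  simp only [Set.mem_range, Set.mem_ofPred_eq]
  constructor
  · rintro ⟨a, rfl⟩
    exact orderOf_dvd p w a
  · rintro (hm | hm)
    · rcases (Nat.dvd_prime hpp).mp hm with h | h
      · exact ⟨1, by rw [h]; exact orderOf_one⟩
      · rw [h]; exact exists_orderOf_p p _
    · let w' : Subgroup.zpowers w := ⟨w, Subgroup.mem_zpowers w⟩
      have hw' : orderOf w' = orderOf w := by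
        rw [← Subgroup.orderOf_coe]
      refine ⟨ofU (w' ^ (orderOf w' / m)), ?_⟩
      rw [orderOf_injective ofU ofU_injective]
      apply orderOf_pow_orderOf_div
      · rw [hw']; exact hw
      · rw [hw']; exact hm

/-- For a finite field `K` of characteristic `p` and `N ∣ |K| - 1` there is a finite solvable
group whose set of element orders is the set of divisors of `p` or of `N`. -/
theorem exists_group (K : Type) [Field K] [Fintype K] (p : ℕ) [Fact p.Prime] [CharP K p] (N : ℕ)
    (hN : N ∣ Fintype.card K - 1) (hN0 : N ≠ 0) :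
    ∃ (H : Type) (_ : Group H) (_ : Finite H), Group.IsSolvable H ∧
      Set.range (orderOf : H → ℕ) = {m : ℕ | m ∣ p ∨ m ∣ N} := by
  classical
  obtain ⟨ζ, hζ⟩ := IsCyclic.exists_generator (α := Kˣ)
  have hord : orderOf ζ = Fintype.card K - 1 := by
    rw [orderOf_eq_card_of_forall_mem_zpowers hζ, Nat.card_eq_fintype_card, Fintype.card_units]
  have hne : orderOf ζ ≠ 0 := (orderOf_pos ζ).ne'
  have hw : orderOf (ζ ^ (orderOf ζ / N)) = N :=
    orderOf_pow_orderOf_div hne (by rw [hord]; exact hN)
  refine ⟨Aff K (Subgroup.zpowers (ζ ^ (orderOf ζ / N))), inferInstance, inferInstance,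
    inferInstance, ?_⟩
  rw [spectrum p _ (by rw [hw]; exact hN0), hw]

end Cfsg.Agent.Lib.Helper7_AffSpec
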