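import Mathlib
import Cfsg.Prelude
import Cfsg.Agent.Lib.Helper7_Tame

set_option autoImplicit false

/-! Alperin's fusion theorem in "focal" form: if a subgroup `R ≤ P` absorbs the commutators
`[P ∩ Q, x]` for tame intersections `P ∩ Q` and `p`-elements `x ∈ N_G(P ∩ Q)`, and `[P, N_G(P)]`,
then it contains every `u x u⁻¹ x⁻¹` with `x, u x u⁻¹ ∈ P`. -/

namespace Cfsg.Agent.Lib.Helper7_Alperin

open Subgroup Cfsg.Agent.Lib.Helper7_Tame Cfsg.Agent.Lib.Helper7_Basic
  Cfsg.Agent.Lib.Helper5_Sylow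
open scoped Pointwise

variable {G : Type*} [Group G]

/-- `g` acts trivially on `D` modulo `R`. -/
def Triv (R D : Subgroup G) (g : G) : Prop := ∀ d ∈ D, g * d * g⁻¹ * d⁻¹ ∈ R

theorem Triv.mono {R D D' : Subgroup G} {g : G} (h : Triv R D' g) (hle : D ≤ D') : Triv R D g :=
  fun d hd => h d (hle hd)

theorem Triv.comp {R D D' : Subgroup G} {g₁ g₂ : G} (h₁ : Triv R D g₁) (h₂ : Triv R D' g₂)
    (hD : ∀ d ∈ D, g₁ * d * g₁⁻¹ ∈ D') : Triv R D (g₂ * g₁) := by
  intro d hd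
  have e : g₂ * g₁ * d * (g₂ * g₁)⁻¹ * d⁻¹ =
      (g₂ * (g₁ * d * g₁⁻¹) * g₂⁻¹ * (g₁ * d * g₁⁻¹)⁻¹) * (g₁ * d * g₁⁻¹ * d⁻¹) := by group
  rw [e]
  exact mul_mem (h₂ _ (hD d hd)) (h₁ d hd)

theorem triv_one (R D : Subgroup G) : Triv R D 1 := by
  intro d _
  simp

/-- the subgroup of `N_G(D)` acting trivially on `D` modulo `R`. -/
def trivSubgroup (R D : Subgroup G) : Subgroup G where
  carrier := {n | n ∈ normalizer (D : Set G) ∧ Triv R D n}
  one_mem' := ⟨one_mem _, triv_one R D⟩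
  mul_mem' := by
    rintro a b ⟨haN, ha⟩ ⟨hbN, hb⟩
    refine ⟨mul_mem haN hbN, Triv.comp hb ha ?_⟩
    intro d hd
    exact (mem_normalizer_iff.mp hbN d).mp hd
  inv_mem' := by
    rintro a ⟨haN, ha⟩
    refine ⟨inv_mem haN, ?_⟩
    intro d hd
    have hd' : a⁻¹ * d * a ∈ D := by
      have := (mem_normalizer_iff.mp (inv_mem haN) d).mp hd
      simpa using this
    have h1 := ha _ hd'
    have e : a⁻¹ * d * a⁻¹⁻¹ * d⁻¹ = (a * (a⁻¹ * d * a) * a⁻¹ * (a⁻¹ * d * a)⁻¹)⁻¹ := by group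
    rw [e]
    exact inv_mem h1

variable [Finite G] {p : ℕ} [Fact p.Prime]

/-- two Sylow `r`-subgroups of `G` (by order) contained in `K` are conjugate in `K`. -/
theorem sylow_conj_in' (r : ℕ) [Fact r.Prime] (K A B : Subgroup G) (hA : A ≤ K) (hB : B ≤ K)
    (hAc : Nat.card A = r ^ (Nat.card G).factorization r)
    (hBc : Nat.card B = r ^ (Nat.card G).factorization r) :
    ∃ k ∈ K, B.map (MulAut.conj k).toMonoidHom = A := by
  have hAp : IsPGroup r A := IsPGroup.of_card hAc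
  have hBp : IsPGroup r B := IsPGroup.of_card hBc
  obtain ⟨k, hk, R, hR, hRK, hAR, hBR⟩ := exists_conj_le_common_pgroup hA hB hAp hBp
  refine ⟨k, hk, ?_⟩
  have hRc : Nat.card R ≤ r ^ (Nat.card G).factorization r := by
    obtain ⟨n, hn⟩ := IsPGroup.iff_card.mp hR
    have h1 : r ^ n ∣ Nat.card G := hn ▸ Subgroup.card_subgroup_dvd_card R
    have h2 : n ≤ (Nat.card G).factorization r :=
      (Nat.Prime.pow_dvd_iff_le_factorization Fact.out Nat.card_pos.ne').mp h1
    rw [hn]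
    exact Nat.pow_le_pow_right (Fact.out : r.Prime).pos h2
  have hAeq : A = R := Subgroup.eq_of_le_of_card_ge hAR (by rw [hAc]; exact hRc)
  rw [hAeq]
  apply Subgroup.eq_of_le_of_card_ge hBR
  rw [card_map_conj, hBc]
  exact hRc

/-- hypotheses on the target subgroup `R`. -/
structure Hyp (P : Sylow p G) (R : Subgroup G) : Prop where
  le : R ≤ P
  tame : ∀ Q : Sylow p G, Tame P Q →
    ∀ x ∈ normalizer (((P : Subgroup G) ⊓ (Q : Subgroup G) : Subgroup G) : Set G),
      (∃ k : ℕ, orderOf x = p ^ k) → Triv R ((P : Subgroup G) ⊓ (Q : Subgroup G)) x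
  norm : ∀ n ∈ normalizer ((P : Subgroup G) : Set G), Triv R (P : Subgroup G) n

/-- the conjugation claim -/
def Claim (R : Subgroup G) (P T : Sylow p G) : Prop :=
  ∃ c : G, Triv R ((P : Subgroup G) ⊓ (T : Subgroup G)) c ∧ c • T = P

/-- Sylow subgroups of `N_G(D)` are conjugate under elements acting trivially on `D` mod `R`, if all
`p`-elements of `N_G(D)` do. -/
theorem exists_conj_triv (R D : Subgroup G)
    (h : ∀ x ∈ normalizer (D : Set G), (∃ k : ℕ, orderOf x = p ^ k) → Triv R D x)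
    (S₁ T₁ : Sylow p (normalizer (D : Set G))) :
    ∃ c : normalizer (D : Set G), Triv R D (c : G) ∧ c • S₁ = T₁ := by
  set K : Subgroup (normalizer (D : Set G)) :=
    closure {x : normalizer (D : Set G) | ∃ k : ℕ, orderOf x = p ^ k} with hK
  have hKM : K ≤ (trivSubgroup R D).subgroupOf (normalizer (D : Set G)) := by
    rw [hK, closure_le]
    rintro x ⟨k, hk⟩
    rw [SetLike.mem_coe, mem_subgroupOf]
    refine ⟨x.2, h _ x.2 ⟨k, ?_⟩⟩
    rw [← hk]
    exact Subgroup.orderOf_coe x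
  have hle : ∀ S : Sylow p (normalizer (D : Set G)),
      (S : Subgroup (normalizer (D : Set G))) ≤ K := by
    intro S s hs
    apply Subgroup.subset_closure
    obtain ⟨k, hk⟩ := (IsPGroup.iff_orderOf.mp S.isPGroup') ⟨s, hs⟩
    refine ⟨k, ?_⟩
    rw [← hk]
    exact (Subgroup.orderOf_mk s hs).symm
  obtain ⟨k, hkK, hk⟩ := sylow_conj_in' p K (T₁ : Subgroup (normalizer (D : Set G)))
    (S₁ : Subgroup (normalizer (D : Set G))) (hle T₁) (hle S₁)
    T₁.card_eq_multiplicity S₁.card_eq_multiplicity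
  refine ⟨k, ?_, ?_⟩
  · have := hKM hkK
    rw [mem_subgroupOf] at this
    exact this.2
  · apply Sylow.ext
    rw [← hk]
    ext x
    have h1 : x ∈ ((k • S₁ : Sylow p (normalizer (D : Set G))) :
      Subgroup (normalizer (D : Set G))) ↔ x ∈ k • S₁ := Iff.rfl
    rw [h1, mem_smul_sylow, Subgroup.mem_map]
    constructor
    · intro hx
      exact ⟨_, hx, by simp [mul_assoc]⟩
    · rintro ⟨s, hs, rfl⟩
      have e : k⁻¹ * (MulAut.conj k).toMonoidHom s * k = s := by simp [mul_assoc]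
      rw [e]
      exact hs

theorem not_dvd_relIndex_of_card (X N Y : Subgroup G) (hY : Y ≤ X ⊓ N)
    (hYc : Nat.card Y = p ^ (Nat.card N).factorization p) : ¬ p ∣ (X ⊓ N).relIndex N := by
  intro hd
  have h1 := relIndex_mul_relIndex (⊥ : Subgroup G) (X ⊓ N) N bot_le inf_le_right
  rw [relIndex_bot_left, relIndex_bot_left] at h1
  have h2 : Nat.card Y ∣ Nat.card (X ⊓ N : Subgroup G) := Subgroup.card_dvd_of_le hY
  have h3 : Nat.card Y * p ∣ Nat.card N := h1 ▸ mul_dvd_mul h2 hd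
  rw [hYc, ← pow_succ] at h3
  exact Nat.pow_succ_factorization_not_dvd Nat.card_pos.ne' Fact.out h3

theorem step2 {P : Sylow p G} {R : Subgroup G} (hR : Hyp P R) (T : Sylow p G)
    (IH : ∀ T' : Sylow p G, Nat.card ((P : Subgroup G) ⊓ (T : Subgroup G) : Subgroup G) <
      Nat.card ((P : Subgroup G) ⊓ (T' : Subgroup G) : Subgroup G) → Claim R P T')
    (a : G) (ha : Triv R ((P : Subgroup G) ⊓ (T : Subgroup G)) a)
    (X : Subgroup G) (hXT : X ≤ T)
    (hXc : Nat.card ((P : Subgroup G) ⊓ (T : Subgroup G) : Subgroup G) < Nat.card X)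
    (haX : ∀ x ∈ X, a * x * a⁻¹ ∈ P) : Claim R P T := by
  have hX' : X.map (MulAut.conj a).toMonoidHom ≤
      (P : Subgroup G) ⊓ ((a • T : Sylow p G) : Subgroup G) := by
    rintro _ ⟨x, hx, rfl⟩
    refine Subgroup.mem_inf.mpr ⟨haX x hx, ?_⟩
    show _ ∈ a • T
    rw [mem_smul_sylow]
    simp only [MulEquiv.coe_toMonoidHom, MulAut.conj_apply]
    have : a⁻¹ * (a * x * a⁻¹) * a = x := by group
    rw [this]
    exact hXT hx
  have h1 : Nat.card ((P : Subgroup G) ⊓ (T : Subgroup G) : Subgroup G) <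
      Nat.card ((P : Subgroup G) ⊓ ((a • T : Sylow p G) : Subgroup G) : Subgroup G) := by
    refine lt_of_lt_of_le hXc ?_
    rw [← card_map_conj a X]
    exact Subgroup.card_le_of_le hX'
  obtain ⟨c, hcT, hc⟩ := IH (a • T) h1
  refine ⟨c * a, Triv.comp ha hcT ?_, by rw [mul_smul, hc]⟩
  intro d hd
  refine Subgroup.mem_inf.mpr ⟨?_, ?_⟩
  · have h2 : a * d * a⁻¹ = (a * d * a⁻¹ * d⁻¹) * d := by group
    rw [h2]
    exact mul_mem (hR.le (ha d hd)) (Subgroup.mem_inf.mp hd).1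
  · show _ ∈ a • T
    rw [mem_smul_sylow]
    have : a⁻¹ * (a * d * a⁻¹) * a = d := by group
    rw [this]
    exact (Subgroup.mem_inf.mp hd).2

theorem caseA {P : Sylow p G} {R : Subgroup G} (hR : Hyp P R)
    (T : Sylow p G)
    (hlt : ((P : Subgroup G) ⊓ (T : Subgroup G) : Subgroup G) < P)
    (IH : ∀ T' : Sylow p G, Nat.card ((P : Subgroup G) ⊓ (T : Subgroup G) : Subgroup G) <
      Nat.card ((P : Subgroup G) ⊓ (T' : Subgroup G) : Subgroup G) → Claim R P T')
    (hfull : ¬ p ∣ ((P : Subgroup G) ⊓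
      normalizer (((P : Subgroup G) ⊓ (T : Subgroup G) : Subgroup G) : Set G)).relIndex
        (normalizer (((P : Subgroup G) ⊓ (T : Subgroup G) : Subgroup G) : Set G))) :
    Claim R P T := by
  set D : Subgroup G := (P : Subgroup G) ⊓ (T : Subgroup G) with hD
  set N : Subgroup G := normalizer (D : Set G) with hN
  have hDN : D ≤ N := Subgroup.le_normalizer
  have hDT : D < T := by
    refine lt_of_le_of_ne inf_le_right ?_
    intro h
    have hTP : (T : Subgroup G) ≤ P := by rw [← h]; exact inf_le_left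
    have := T.is_maximal' P.isPGroup' hTP
    apply hlt.ne
    rw [hD, this, inf_idem]
  have h2 : D < (T : Subgroup G) ⊓ N := lt_inf_normalizer T.isPGroup' hDT
  have h2' : D < (P : Subgroup G) ⊓ N := lt_inf_normalizer P.isPGroup' hlt
  obtain ⟨T₁, hT₁⟩ := ((T.isPGroup'.to_le (inf_le_left :
      (T : Subgroup G) ⊓ N ≤ T)).comap_subtype (K := N)).exists_le_sylow
  have hT₁p : IsPGroup p ((T₁ : Subgroup N).map N.subtype) := T₁.isPGroup'.map _
  obtain ⟨T', hT'⟩ := hT₁p.exists_le_sylow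
  have hTN : (T : Subgroup G) ⊓ N ≤ T' := by
    intro x hx
    apply hT'
    exact ⟨⟨x, (Subgroup.mem_inf.mp hx).2⟩, hT₁ (Subgroup.mem_subgroupOf.mpr hx), rfl⟩
  have hXc : Nat.card D < Nat.card ((T : Subgroup G) ⊓ N : Subgroup G) := card_lt_of_lt h2
  suffices hkey : ∃ a : G, Triv R D a ∧ a • T' = P by
    obtain ⟨a, haC, ha⟩ := hkey
    refine step2 hR T IH a haC ((T : Subgroup G) ⊓ N) inf_le_left hXc ?_
    intro x hx
    have hx' : x ∈ T' := hTN hx
    rw [← ha]
    show _ ∈ a • T'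
    rw [mem_smul_sylow]
    have : a⁻¹ * (a * x * a⁻¹) * a = x := by group
    rw [this]; exact hx'
  by_cases hE : (P : Subgroup G) ⊓ (T' : Subgroup G) = D
  · have htame : Tame P T' := by
      unfold Tame
      rw [hE]
      exact ⟨hfull, (not_dvd_relIndex_of_le (T' : Subgroup G) N T'.isPGroup' T₁
        (fun s hs => hT' ⟨s, hs, rfl⟩)).1⟩
    have hg := hR.tame T' htame
    rw [hE] at hg
    obtain ⟨P₁, hP₁⟩ := sylow_of_not_dvd (P : Subgroup G) N P.isPGroup' hfull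
    obtain ⟨c, hcT, hc⟩ := exists_conj_triv R D hg T₁ P₁
    have h3 : (P : Subgroup G) ⊓ N ≤
        (P : Subgroup G) ⊓ (((c : G) • T' : Sylow p G) : Subgroup G) := by
      intro x hx
      refine Subgroup.mem_inf.mpr ⟨(Subgroup.mem_inf.mp hx).1, ?_⟩
      show x ∈ (c : G) • T'
      rw [mem_smul_sylow]
      have h4 : (⟨x, (Subgroup.mem_inf.mp hx).2⟩ : N) ∈ (P₁ : Subgroup N) := by
        rw [hP₁]; exact Subgroup.mem_subgroupOf.mpr hx
      rw [← hc] at h4
      have h5 : c⁻¹ * (⟨x, (Subgroup.mem_inf.mp hx).2⟩ : N) * c ∈ T₁ :=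
        (mem_smul_sylow c _ T₁).mp h4
      have h6 : ((c : G))⁻¹ * x * (c : G) ∈ (T' : Subgroup G) := by
        have := hT' ⟨_, h5, rfl⟩
        simpa using this
      exact h6
    have h4 : Nat.card D < Nat.card ((P : Subgroup G) ⊓
        (((c : G) • T' : Sylow p G) : Subgroup G) : Subgroup G) :=
      lt_of_lt_of_le (card_lt_of_lt h2') (Subgroup.card_le_of_le h3)
    obtain ⟨c₂, hc₂T, hc₂⟩ := IH _ h4
    refine ⟨c₂ * (c : G), Triv.comp hcT hc₂T ?_, by rw [mul_smul, hc₂]⟩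
    intro d hd
    have hd' : (c : G) * d * (c : G)⁻¹ ∈ D := (mem_normalizer_iff.mp c.2 d).mp hd
    exact h3 (Subgroup.mem_inf.mpr ⟨(Subgroup.mem_inf.mp hd').1, hDN hd'⟩)
  · have hDE : D ≤ (P : Subgroup G) ⊓ (T' : Subgroup G) := by
      intro d hd
      refine Subgroup.mem_inf.mpr ⟨(Subgroup.mem_inf.mp hd).1, ?_⟩
      exact hTN (Subgroup.mem_inf.mpr ⟨(Subgroup.mem_inf.mp hd).2, hDN hd⟩)
    have h4 : Nat.card D < Nat.card ((P : Subgroup G) ⊓ (T' : Subgroup G) : Subgroup G) :=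
      card_lt_of_lt (lt_of_le_of_ne hDE (Ne.symm hE))
    obtain ⟨c₁, hc₁T, hc₁⟩ := IH T' h4
    exact ⟨c₁, hc₁T.mono hDE, hc₁⟩

theorem claim_all {P : Sylow p G} {R : Subgroup G} (hR : Hyp P R) :
    ∀ n : ℕ, ∀ T : Sylow p G,
      Nat.card (P : Subgroup G) - Nat.card ((P : Subgroup G) ⊓ (T : Subgroup G) : Subgroup G) = n →
      Claim R P T := by
  intro n
  induction n using Nat.strong_induction_on with
  | _ n ih =>
  intro T hn
  set D : Subgroup G := (P : Subgroup G) ⊓ (T : Subgroup G) with hD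
  by_cases hDP : D = P
  · refine ⟨1, triv_one _ _, ?_⟩
    rw [one_smul]
    have hPT : (P : Subgroup G) ≤ T := by rw [← hDP]; exact inf_le_right
    exact Sylow.ext (P.is_maximal' T.isPGroup' hPT)
  have hlt : D < P := lt_of_le_of_ne inf_le_left hDP
  have hcP : Nat.card D < Nat.card (P : Subgroup G) := card_lt_of_lt hlt
  have IH : ∀ T' : Sylow p G, Nat.card D <
      Nat.card ((P : Subgroup G) ⊓ (T' : Subgroup G) : Subgroup G) → Claim R P T' := by
    intro T' h
    have hle : Nat.card ((P : Subgroup G) ⊓ (T' : Subgroup G) : Subgroup G) ≤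
        Nat.card (P : Subgroup G) := Subgroup.card_le_of_le inf_le_left
    exact ih (Nat.card (P : Subgroup G) -
      Nat.card ((P : Subgroup G) ⊓ (T' : Subgroup G) : Subgroup G)) (by omega) T' rfl
  set N : Subgroup G := normalizer (D : Set G) with hN
  have hDN : D ≤ N := Subgroup.le_normalizer
  by_cases hfull : ¬ p ∣ ((P : Subgroup G) ⊓ N).relIndex N
  · exact caseA hR T hlt IH hfull
  · have h2' : D < (P : Subgroup G) ⊓ N := lt_inf_normalizer P.isPGroup' hlt
    obtain ⟨P₁, hP₁⟩ := ((P.isPGroup'.to_le (inf_le_left :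
      (P : Subgroup G) ⊓ N ≤ P)).comap_subtype (K := N)).exists_le_sylow
    have hP₁p : IsPGroup p ((P₁ : Subgroup N).map N.subtype) := P₁.isPGroup'.map _
    obtain ⟨P', hP'⟩ := hP₁p.exists_le_sylow
    have hPN : (P : Subgroup G) ⊓ N ≤ P' := by
      intro x hx
      apply hP'
      exact ⟨⟨x, (Subgroup.mem_inf.mp hx).2⟩, hP₁ (Subgroup.mem_subgroupOf.mpr hx), rfl⟩
    have h3 : Nat.card D < Nat.card ((P : Subgroup G) ⊓ (P' : Subgroup G) : Subgroup G) :=
      lt_of_lt_of_le (card_lt_of_lt h2') (Subgroup.card_le_of_le (le_inf inf_le_left hPN))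
    obtain ⟨c₁, hc₁T, hc₁⟩ := IH P' h3
    have hDPP' : D ≤ (P : Subgroup G) ⊓ (P' : Subgroup G) :=
      le_inf inf_le_left (fun d hd => hPN (Subgroup.mem_inf.mpr ⟨(Subgroup.mem_inf.mp hd).1, hDN hd⟩))
    have hc₁D : Triv R D c₁ := hc₁T.mono hDPP'
    have hconj : ∀ d ∈ D, c₁ * d * c₁⁻¹ ∈
        (P : Subgroup G) ⊓ ((c₁ • T : Sylow p G) : Subgroup G) := by
      intro d hd
      refine Subgroup.mem_inf.mpr ⟨?_, ?_⟩
      · have h2 : c₁ * d * c₁⁻¹ = (c₁ * d * c₁⁻¹ * d⁻¹) * d := by group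
        rw [h2]
        exact mul_mem (hR.le (hc₁D d hd)) (Subgroup.mem_inf.mp hd).1
      · show _ ∈ c₁ • T
        rw [mem_smul_sylow]
        have : c₁⁻¹ * (c₁ * d * c₁⁻¹) * c₁ = d := by group
        rw [this]
        exact (Subgroup.mem_inf.mp hd).2
    have hD₁ : D.map (MulAut.conj c₁).toMonoidHom ≤
        (P : Subgroup G) ⊓ ((c₁ • T : Sylow p G) : Subgroup G) := by
      rintro _ ⟨d, hd, rfl⟩
      exact hconj d hd
    by_cases hlt2 : Nat.card D <
        Nat.card ((P : Subgroup G) ⊓ ((c₁ • T : Sylow p G) : Subgroup G) : Subgroup G)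
    · obtain ⟨c₂, hc₂T, hc₂⟩ := IH _ hlt2
      exact ⟨c₂ * c₁, Triv.comp hc₁D hc₂T hconj, by rw [mul_smul, hc₂]⟩
    · have hEq : D.map (MulAut.conj c₁).toMonoidHom =
          (P : Subgroup G) ⊓ ((c₁ • T : Sylow p G) : Subgroup G) :=
        Subgroup.eq_of_le_of_card_ge hD₁ (by rw [card_map_conj]; exact not_lt.mp hlt2)
      have hcardEq : Nat.card ((P : Subgroup G) ⊓ ((c₁ • T : Sylow p G) : Subgroup G) :
          Subgroup G) = Nat.card D := by rw [← hEq, card_map_conj]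
      have hlt'' : ((P : Subgroup G) ⊓ ((c₁ • T : Sylow p G) : Subgroup G) : Subgroup G) < P := by
        refine lt_of_le_of_ne inf_le_left (fun h => ?_)
        rw [h] at hcardEq
        omega
      have IH'' : ∀ T' : Sylow p G,
          Nat.card ((P : Subgroup G) ⊓ ((c₁ • T : Sylow p G) : Subgroup G) : Subgroup G) <
          Nat.card ((P : Subgroup G) ⊓ (T' : Subgroup G) : Subgroup G) → Claim R P T' :=
        fun T' h => IH T' (by rw [← hcardEq]; exact h)
      have hNeq : normalizer (((P : Subgroup G) ⊓ ((c₁ • T : Sylow p G) : Subgroup G) :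
          Subgroup G) : Set G) = N.map (MulAut.conj c₁).toMonoidHom := by
        rw [← hEq]
        exact (map_equiv_normalizer_eq D (MulAut.conj c₁)).symm
      have hfull'' : ¬ p ∣ ((P : Subgroup G) ⊓ normalizer (((P : Subgroup G) ⊓
          ((c₁ • T : Sylow p G) : Subgroup G) : Subgroup G) : Set G)).relIndex
            (normalizer (((P : Subgroup G) ⊓ ((c₁ • T : Sylow p G) : Subgroup G) :
              Subgroup G) : Set G)) := by
        apply not_dvd_relIndex_of_card (P : Subgroup G) _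
          (((P₁ : Subgroup N).map N.subtype).map (MulAut.conj c₁).toMonoidHom)
        · rintro _ ⟨y, ⟨s, hs, rfl⟩, rfl⟩
          refine Subgroup.mem_inf.mpr ⟨?_, ?_⟩
          · have h5 : (s : G) ∈ (P' : Subgroup G) := hP' ⟨s, hs, rfl⟩
            have h6 : c₁ * (s : G) * c₁⁻¹ ∈ c₁ • P' := by
              rw [mem_smul_sylow]
              have : c₁⁻¹ * (c₁ * (s : G) * c₁⁻¹) * c₁ = (s : G) := by group
              rw [this]; exact h5
            rw [hc₁] at h6
            exact h6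
          · rw [hNeq]
            exact ⟨(s : G), s.2, rfl⟩
        · rw [card_map_conj, card_map_of_injective N.subtype_injective, P₁.card_eq_multiplicity,
            hNeq, card_map_conj]
      obtain ⟨c₂, hc₂T, hc₂⟩ := caseA hR (c₁ • T) hlt'' IH'' hfull''
      exact ⟨c₂ * c₁, Triv.comp hc₁D hc₂T hconj, by rw [mul_smul, hc₂]⟩

/-- **Alperin's fusion theorem**, focal form. -/
theorem focal_le {P : Sylow p G} {R : Subgroup G} (hR : Hyp P R) (x : G) (hx : x ∈ P) (u : G)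
    (hux : u * x * u⁻¹ ∈ P) : u * x * u⁻¹ * x⁻¹ ∈ R := by
  set T : Sylow p G := u⁻¹ • P with hT
  have hxT : x ∈ T := by
    rw [hT, mem_smul_sylow]; simpa using hux
  obtain ⟨c, hcT, hc⟩ := claim_all hR _ T rfl
  have hn : (c * u⁻¹) • P = P := by rw [mul_smul, ← hT, hc]
  have hnN : c * u⁻¹ ∈ normalizer ((P : Subgroup G) : Set G) :=
    Sylow.smul_eq_iff_mem_normalizer.mp hn
  have hnN' : (c * u⁻¹)⁻¹ ∈ normalizer ((P : Subgroup G) : Set G) := inv_mem hnN
  have h1 : c * x * c⁻¹ * x⁻¹ ∈ R := hcT x (Subgroup.mem_inf.mpr ⟨hx, hxT⟩)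
  have hz : c * x * c⁻¹ ∈ (P : Subgroup G) := by
    have : c * x * c⁻¹ = (c * x * c⁻¹ * x⁻¹) * x := by group
    rw [this]; exact mul_mem (hR.le h1) hx
  have h2 := hR.norm _ hnN' (c * x * c⁻¹) hz
  have e : u * x * u⁻¹ * x⁻¹ = ((c * u⁻¹)⁻¹ * (c * x * c⁻¹) * (c * u⁻¹)⁻¹⁻¹ * (c * x * c⁻¹)⁻¹) *
      (c * x * c⁻¹ * x⁻¹) := by group
  rw [e]
  exact mul_mem h2 h1

end Cfsg.Agent.Lib.Helper7_Alperin
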