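import Mathlib

namespace Cfsg.Agent.H7AltClass

open Equiv Equiv.Perm

/-- cycle type on conjugacy classes. -/
noncomputable def ctype (n : ℕ) : ConjClasses (Perm (Fin n)) → Multiset ℕ :=
  Quotient.lift (fun g : Perm (Fin n) => g.cycleType) (fun _ _ h => isConj_iff_cycleType_eq.mp h)

theorem ctype_mk (n : ℕ) (g : Perm (Fin n)) : ctype n (ConjClasses.mk g) = g.cycleType := rfl

theorem ctype_injective (n : ℕ) : Function.Injective (ctype n) := by
  intro a b
  refine Quotient.inductionOn₂ a b ?_
  intro x y hxy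
  exact Quotient.sound (isConj_iff_cycleType_eq.mpr hxy)

theorem ctype_spec (n : ℕ) (c : ConjClasses (Perm (Fin n))) :
    (ctype n c).sum ≤ n ∧ ∀ a ∈ ctype n c, 2 ≤ a := by
  refine Quotient.inductionOn c ?_
  intro g
  have := (exists_with_cycleType_iff (α := Fin n) (m := g.cycleType)).mp ⟨g, rfl⟩
  rw [Fintype.card_fin] at this
  exact this

theorem exists_ctype (n : ℕ) (m : Multiset ℕ) (h1 : m.sum ≤ n) (h2 : ∀ a ∈ m, 2 ≤ a) :
    ∃ c, ctype n c = m := by
  obtain ⟨g, hg⟩ := (exists_with_cycleType_iff (α := Fin n) (m := m)).mpr ⟨by simpa using h1, h2⟩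
  exact ⟨ConjClasses.mk g, hg⟩

def IsOddT (m : Multiset ℕ) : Prop := Odd (m.sum + Multiset.card m)

def IsSplitT (n : ℕ) (m : Multiset ℕ) : Prop := (∀ i ∈ m, Odd i) ∧ n ≤ m.sum + 1 ∧ m.Nodup

noncomputable def pick (m : Multiset ℕ) : ℕ :=
  if h : m = 0 then 0 else (Multiset.exists_mem_of_ne_zero h).choose

theorem pick_mem {m : Multiset ℕ} (h : m ≠ 0) : pick m ∈ m := by
  unfold pick; rw [dif_neg h]; exact (Multiset.exists_mem_of_ne_zero h).choose_spec

noncomputable def fT (m : Multiset ℕ) : Multiset ℕ := (pick m - 1) ::ₘ m.erase (pick m)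

theorem even_sum_add_card {m : Multiset ℕ} (h : ∀ i ∈ m, Odd i) : Even (m.sum + Multiset.card m) := by
  induction m using Multiset.induction_on with
  | empty => simp
  | cons a m ih =>
    have ha : Odd a := h a (Multiset.mem_cons_self _ _)
    have hm := ih (fun i hi => h i (Multiset.mem_cons_of_mem hi))
    rw [Multiset.sum_cons, Multiset.card_cons]
    have : a + m.sum + (Multiset.card m + 1) = (a + 1) + (m.sum + Multiset.card m) := by ring
    rw [this]
    exact (ha.add_odd odd_one).add hm

section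
variable {n : ℕ} (hn : 5 ≤ n) {m : Multiset ℕ} (hs : IsSplitT n m)
include hn hs

theorem split_ne_zero : m ≠ 0 := by
  rintro rfl
  have := hs.2.1
  simp at this
  omega

theorem pick_ge_three (h2 : ∀ a ∈ m, 2 ≤ a) : 3 ≤ pick m := by
  have hm := pick_mem (split_ne_zero hn hs)
  have h1 := h2 _ hm
  have h3 := hs.1 _ hm
  rcases h3 with ⟨k, hk⟩
  omega

theorem fT_sum : (fT m).sum + 1 = m.sum := by
  have hm := pick_mem (split_ne_zero hn hs)
  have h3 := hs.1 _ hm
  have := Multiset.sum_erase hm
  unfold fT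
  rw [Multiset.sum_cons]
  rcases h3 with ⟨k, hk⟩
  omega

theorem fT_ge_two (h2 : ∀ a ∈ m, 2 ≤ a) : ∀ a ∈ fT m, 2 ≤ a := by
  intro a ha
  unfold fT at ha
  rw [Multiset.mem_cons] at ha
  rcases ha with rfl | ha
  · have := pick_ge_three hn hs h2; omega
  · exact h2 a (Multiset.mem_of_mem_erase ha)

theorem fT_odd : IsOddT (fT m) := by
  have hm := pick_mem (split_ne_zero hn hs)
  have h1 := fT_sum hn hs
  have h2 : Multiset.card (fT m) = Multiset.card m := by
    unfold fT
    rw [Multiset.card_cons, Multiset.card_erase_of_mem hm]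
    have : 0 < Multiset.card m := Multiset.card_pos_iff_exists_mem.mpr ⟨_, hm⟩
    rw [Nat.pred_eq_sub_one]
    omega
  have h3 := even_sum_add_card hs.1
  unfold IsOddT
  rw [h2]
  rcases h3 with ⟨k, hk⟩
  exact ⟨k - 1, by omega⟩

end

theorem fT_inj {n : ℕ} (hn : 5 ≤ n) {m m' : Multiset ℕ} (hs : IsSplitT n m) (hs' : IsSplitT n m')
    (h : fT m = fT m') : m = m' := by
  have hm := pick_mem (split_ne_zero hn hs)
  have hm' := pick_mem (split_ne_zero hn hs')
  have ho := hs.1 _ hm
  have ho' := hs'.1 _ hm'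
  have e1 : pick m - 1 ∈ fT m' := by rw [← h]; exact Multiset.mem_cons_self _ _
  unfold fT at e1
  rw [Multiset.mem_cons] at e1
  have hpp : pick m = pick m' := by
    rcases e1 with e1 | e1
    · rcases ho with ⟨k, hk⟩
      rcases ho' with ⟨k', hk'⟩
      omega
    · have := hs'.1 _ (Multiset.mem_of_mem_erase e1)
      rcases ho with ⟨k, hk⟩
      rcases this with ⟨j, hj⟩
      omega
  unfold fT at h
  rw [hpp] at h
  have h2 := (Multiset.cons_inj_right _).mp h
  rw [← Multiset.cons_erase hm, ← Multiset.cons_erase hm', hpp, h2]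


open Classical in
theorem card_split_lt_card_odd {n : ℕ} (hn : 5 ≤ n) [Fintype (ConjClasses (Perm (Fin n)))] :
    (Finset.univ.filter (fun c : ConjClasses (Perm (Fin n)) => IsSplitT n (ctype n c))).card <
      (Finset.univ.filter (fun c : ConjClasses (Perm (Fin n)) => IsOddT (ctype n c))).card := by
  set SplitS := Finset.univ.filter (fun c : ConjClasses (Perm (Fin n)) => IsSplitT n (ctype n c))
  set OddS := Finset.univ.filter (fun c : ConjClasses (Perm (Fin n)) => IsOddT (ctype n c))
  have h1 : SplitS.card = ((SplitS.image (ctype n)).image fT).card := by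
    rw [Finset.card_image_of_injOn, Finset.card_image_of_injective _ (ctype_injective n)]
    intro m hm m' hm' hmm
    rw [Finset.mem_coe, Finset.mem_image] at hm hm'
    obtain ⟨c, hc, rfl⟩ := hm
    obtain ⟨c', hc', rfl⟩ := hm'
    exact fT_inj hn (Finset.mem_filter.mp hc).2 (Finset.mem_filter.mp hc').2 hmm
  have h2 : OddS.card = (OddS.image (ctype n)).card := by
    rw [Finset.card_image_of_injective _ (ctype_injective n)]
  rw [h1, h2]
  apply Finset.card_lt_card
  have hsub : (SplitS.image (ctype n)).image fT ⊆ OddS.image (ctype n) := by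
    intro m hm
    rw [Finset.mem_image] at hm
    obtain ⟨m0, hm0, rfl⟩ := hm
    rw [Finset.mem_image] at hm0
    obtain ⟨c, hc, rfl⟩ := hm0
    have hs := (Finset.mem_filter.mp hc).2
    have hsp := ctype_spec n c
    obtain ⟨c', hc'⟩ := exists_ctype n (fT (ctype n c))
      (by have := fT_sum hn hs; omega) (fT_ge_two hn hs hsp.2)
    rw [Finset.mem_image]
    refine ⟨c', Finset.mem_filter.mpr ⟨Finset.mem_univ _, ?_⟩, hc'⟩
    rw [hc']
    exact fT_odd hn hs
  rw [Finset.ssubset_iff_of_subset hsub]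
  obtain ⟨c2, hc2⟩ := exists_ctype n {2} (by simp; omega) (by simp)
  refine ⟨{2}, ?_, ?_⟩
  · rw [Finset.mem_image]
    refine ⟨c2, Finset.mem_filter.mpr ⟨Finset.mem_univ _, ?_⟩, hc2⟩
    rw [hc2]
    unfold IsOddT
    simp
    decide
  · intro hm
    rw [Finset.mem_image] at hm
    obtain ⟨m0, hm0, hm1⟩ := hm
    rw [Finset.mem_image] at hm0
    obtain ⟨c, hc, rfl⟩ := hm0
    have hs := (Finset.mem_filter.mp hc).2
    have h3 := fT_sum hn hs
    rw [hm1] at h3
    have h4 := hs.2.1
    simp at h3
    omega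

/-- the map on classes -/
noncomputable def phi (n : ℕ) :
    ConjClasses (alternatingGroup (Fin n)) → ConjClasses (Perm (Fin n)) :=
  ConjClasses.map (alternatingGroup (Fin n)).subtype

theorem phi_mk (n : ℕ) (x : alternatingGroup (Fin n)) :
    phi n (ConjClasses.mk x) = ConjClasses.mk (x : Perm (Fin n)) := rfl

theorem mk_eq_of_conj_even {n : ℕ} (x y : alternatingGroup (Fin n)) (g : Perm (Fin n))
    (hg : sign g = 1) (h : g * x * g⁻¹ = y) : ConjClasses.mk x = ConjClasses.mk y := by
  rw [ConjClasses.mk_eq_mk_iff_isConj, isConj_iff]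
  refine ⟨⟨g, mem_alternatingGroup.mpr hg⟩, Subtype.ext ?_⟩
  simpa using h

theorem phi_not_odd (n : ℕ) (a : ConjClasses (alternatingGroup (Fin n))) :
    ¬ IsOddT (ctype n (phi n a)) := by
  refine Quotient.inductionOn a ?_
  intro x
  change ¬ IsOddT (ctype n (ConjClasses.mk (x : Perm (Fin n))))
  rw [ctype_mk]
  have h1 : sign (x : Perm (Fin n)) = 1 := mem_alternatingGroup.mp x.2
  rw [sign_of_cycleType] at h1
  unfold IsOddT
  rw [Nat.not_odd_iff_even]
  by_contra hodd
  rw [Nat.not_even_iff_odd] at hodd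
  rw [hodd.neg_one_pow] at h1
  exact absurd h1 (by decide)

open Classical in
theorem fiber_le_two (n : ℕ) [Fintype (ConjClasses (alternatingGroup (Fin n)))]
    (c : ConjClasses (Perm (Fin n))) :
    (Finset.univ.filter (fun a : ConjClasses (alternatingGroup (Fin n)) => phi n a = c)).card ≤ 2 := by
  by_contra hcon
  rw [not_le, Finset.two_lt_card] at hcon
  obtain ⟨a, ha, b, hb, d, hd, hab, had, hbd⟩ := hcon
  rw [Finset.mem_filter] at ha hb hd
  obtain ⟨x, rfl⟩ := ConjClasses.mk_surjective a
  obtain ⟨y, rfl⟩ := ConjClasses.mk_surjective b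
  obtain ⟨z, rfl⟩ := ConjClasses.mk_surjective d
  have hxy : IsConj (x : Perm (Fin n)) (y : Perm (Fin n)) := by
    rw [← ConjClasses.mk_eq_mk_iff_isConj, ← phi_mk, ← phi_mk, ha.2, hb.2]
  have hxz : IsConj (x : Perm (Fin n)) (z : Perm (Fin n)) := by
    rw [← ConjClasses.mk_eq_mk_iff_isConj, ← phi_mk, ← phi_mk, ha.2, hd.2]
  obtain ⟨g, hg⟩ := isConj_iff.mp hxy
  obtain ⟨h, hh⟩ := isConj_iff.mp hxz
  rcases Int.units_eq_one_or (sign g) with sg | sg
  · exact hab (mk_eq_of_conj_even x y g sg hg)
  · rcases Int.units_eq_one_or (sign h) with sh | sh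
    · exact had (mk_eq_of_conj_even x z h sh hh)
    · apply hbd
      apply mk_eq_of_conj_even y z (h * g⁻¹)
      · rw [map_mul, map_inv, sg, sh]; decide
      · rw [← hg, ← hh]; group

open Classical in
theorem fiber_le_one (n : ℕ) [Fintype (ConjClasses (alternatingGroup (Fin n)))]
    (c : ConjClasses (Perm (Fin n))) (hc : ¬ IsSplitT n (ctype n c)) :
    (Finset.univ.filter (fun a : ConjClasses (alternatingGroup (Fin n)) => phi n a = c)).card ≤ 1 := by
  rw [Finset.card_le_one]
  intro a ha b hb
  rw [Finset.mem_filter] at ha hb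
  obtain ⟨x, rfl⟩ := ConjClasses.mk_surjective a
  obtain ⟨y, rfl⟩ := ConjClasses.mk_surjective b
  have hxy : IsConj (x : Perm (Fin n)) (y : Perm (Fin n)) := by
    rw [← ConjClasses.mk_eq_mk_iff_isConj, ← phi_mk, ← phi_mk, ha.2, hb.2]
  obtain ⟨g, hg⟩ := isConj_iff.mp hxy
  rcases Int.units_eq_one_or (sign g) with sg | sg
  · exact mk_eq_of_conj_even x y g sg hg
  · have hnot : ¬ (Subgroup.centralizer {(x : Perm (Fin n))} ≤ alternatingGroup (Fin n)) := by
      intro hle
      apply hc
      rw [← ha.2, phi_mk, ctype_mk]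
      have := (centralizer_le_alternating_iff (g := (x : Perm (Fin n)))).mp hle
      refine ⟨this.1, by simpa using this.2.1, Multiset.nodup_iff_count_le_one.mpr this.2.2⟩
    rw [SetLike.not_le_iff_exists] at hnot
    obtain ⟨t, ht, hta⟩ := hnot
    rw [mem_alternatingGroup] at hta
    have st : sign t = -1 := (Int.units_eq_one_or _).resolve_left hta
    rw [Subgroup.mem_centralizer_iff] at ht
    have htx : t * x = x * t := (ht _ (Set.mem_singleton _)).symm
    apply mk_eq_of_conj_even x y (g * t)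
    · rw [map_mul, sg, st]; decide
    · rw [← hg]
      have : g * t * ↑x * (g * t)⁻¹ = g * (t * x) * t⁻¹ * g⁻¹ := by group
      rw [this, htx]; group


theorem card_alt_lt {n : ℕ} (hn : 5 ≤ n) :
    Nat.card (ConjClasses (alternatingGroup (Fin n))) < Nat.card (ConjClasses (Perm (Fin n))) := by
  classical
  haveI : Fintype (ConjClasses (alternatingGroup (Fin n))) := Fintype.ofFinite _
  haveI : Fintype (ConjClasses (Perm (Fin n))) := Fintype.ofFinite _
  rw [Nat.card_eq_fintype_card, Nat.card_eq_fintype_card]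
  have h1 : Fintype.card (ConjClasses (alternatingGroup (Fin n))) =
      ∑ c : ConjClasses (Perm (Fin n)),
        (Finset.univ.filter (fun a : ConjClasses (alternatingGroup (Fin n)) => phi n a = c)).card := by
    rw [← Finset.card_univ]
    exact Finset.card_eq_sum_card_fiberwise (fun a _ => Finset.mem_univ (phi n a))
  have h2 : ∀ c : ConjClasses (Perm (Fin n)),
      (Finset.univ.filter (fun a : ConjClasses (alternatingGroup (Fin n)) => phi n a = c)).card ≤
        (if IsOddT (ctype n c) then 0 else 1) + (if IsSplitT n (ctype n c) then 1 else 0) := by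
    intro c
    by_cases ho : IsOddT (ctype n c)
    · have : (Finset.univ.filter (fun a : ConjClasses (alternatingGroup (Fin n)) => phi n a = c)) = ∅ := by
        rw [Finset.filter_eq_empty_iff]
        intro a _ ha
        exact phi_not_odd n a (ha ▸ ho)
      rw [this]; simp
    · rw [if_neg ho]
      by_cases hsp : IsSplitT n (ctype n c)
      · rw [if_pos hsp]; exact fiber_le_two n c
      · rw [if_neg hsp]; exact fiber_le_one n c hsp
  have h3 := Finset.sum_le_sum (fun c _ => h2 c) (s := Finset.univ)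
  rw [← h1, Finset.sum_add_distrib, Finset.sum_boole, Finset.sum_ite, Finset.sum_const_zero,
    zero_add, Finset.sum_const, smul_eq_mul, mul_one] at h3
  have h4 := card_split_lt_card_odd hn
  have h5 := Finset.card_filter_add_card_filter_not
    (s := (Finset.univ : Finset (ConjClasses (Perm (Fin n))))) (fun c => IsOddT (ctype n c))
  rw [Finset.card_univ] at h5
  simp only [Nat.cast_id] at h3
  omega

end Cfsg.Agent.H7AltClass
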