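import Mathlib

set_option autoImplicit false

/-!
# Nilpotency of the augmentation ideal of a finite `p`-group in characteristic `p`
-/

namespace Cfsg.Agent.Lib.Helper7_AugNil

universe u v

/-- The span of the elements `y - 1`, `y ∈ H`, inside the group algebra. -/
noncomputable def aug (F : Type v) [Field F] {G : Type u} [Group G] (H : Subgroup G) :
    Submodule F (MonoidAlgebra F G) :=
  Submodule.span F {m | ∃ y ∈ H, m = MonoidAlgebra.of F G y - 1}

theorem of_sub_one_mem_aug (F : Type v) [Field F] {G : Type u} [Group G] (H : Subgroup G) {y : G}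
    (hy : y ∈ H) : MonoidAlgebra.of F G y - 1 ∈ aug F H :=
  Submodule.subset_span ⟨y, hy, rfl⟩

/-- `of z` is central when `z` is central. -/
theorem of_central (F : Type v) [Field F] {G : Type u} [Group G] {z : G}
    (hz : z ∈ Subgroup.center G) (a : MonoidAlgebra F G) :
    MonoidAlgebra.of F G z * a = a * MonoidAlgebra.of F G z := by
  induction a using MonoidAlgebra.induction_on with
  | of g =>
    rw [← map_mul, ← map_mul]
    congr 1
    exact ((Subgroup.mem_center_iff.mp hz) g).symm
  | add a b ha hb => rw [mul_add, add_mul, ha, hb]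
  | smul r a ha => rw [mul_smul_comm, smul_mul_assoc, ha]

theorem zeta_central (F : Type v) [Field F] {G : Type u} [Group G] {z : G}
    (hz : z ∈ Subgroup.center G) (a : MonoidAlgebra F G) :
    (MonoidAlgebra.of F G z - 1) * a = a * (MonoidAlgebra.of F G z - 1) := by
  rw [sub_mul, mul_sub, of_central F hz a, one_mul, mul_one]

/-- `(z - 1)^p = 0` when `z^p = 1` in characteristic `p`. -/
theorem zeta_pow (F : Type v) [Field F] (p : ℕ) [Fact p.Prime] [CharP F p] {G : Type u} [Group G]
    {z : G} (hz : z ^ p = 1) : (MonoidAlgebra.of F G z - 1) ^ p = 0 := by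
  have : CharP (MonoidAlgebra F G) p := charP_of_injective_algebraMap' F p
  rw [sub_pow_char_of_commute (p := p) (h := Commute.one_right _), one_pow, ← map_pow, hz, map_one,
    sub_self]


/-- range of left multiplication by `z - 1` -/
noncomputable def zRange (F : Type v) [Field F] {G : Type u} [Group G] (z : G) :
    Submodule F (MonoidAlgebra F G) :=
  LinearMap.range (LinearMap.mulLeft F (MonoidAlgebra.of F G z - 1))

theorem mem_zRange (F : Type v) [Field F] {G : Type u} [Group G] (z : G) (m : MonoidAlgebra F G) :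
    m ∈ zRange F z ↔ ∃ a, (MonoidAlgebra.of F G z - 1) * a = m := by
  unfold zRange
  simp [LinearMap.mem_range]

theorem zRange_pow_le (F : Type v) [Field F] {G : Type u} [Group G] {z : G}
    (hz : z ∈ Subgroup.center G) (k : ℕ) :
    zRange F z ^ k ≤ LinearMap.range (LinearMap.mulLeft F ((MonoidAlgebra.of F G z - 1) ^ k)) := by
  induction k with
  | zero =>
    rw [pow_zero, Submodule.one_le]
    exact ⟨1, by simp⟩
  | succ k ih =>
    rw [pow_succ, Submodule.mul_le]
    intro m hm n hn
    obtain ⟨a, rfl⟩ := ih hm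
    obtain ⟨b, rfl⟩ := (mem_zRange F z n).mp hn
    refine ⟨a * b, ?_⟩
    simp only [LinearMap.mulLeft_apply]
    rw [pow_succ, mul_assoc, mul_assoc, ← mul_assoc a, ← zeta_central F hz a, mul_assoc]

theorem zRange_pow_eq_bot (F : Type v) [Field F] (p : ℕ) [Fact p.Prime] [CharP F p]
    {G : Type u} [Group G] {z : G} (hz : z ∈ Subgroup.center G) (hzp : z ^ p = 1) :
    zRange F z ^ p = ⊥ := by
  rw [eq_bot_iff]
  refine (zRange_pow_le F hz p).trans ?_
  rw [zeta_pow F p hzp]
  rintro m ⟨a, rfl⟩
  simp

/-- The kernel of `F[P] → F[P/⟨z⟩]` is contained in `(z - 1) F[P]`. -/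
theorem ker_le_zRange (F : Type v) [Field F] {P : Type u} [Group P] [Finite P] {z : P}
    (hz : z ∈ Subgroup.center P) [hN : (Subgroup.zpowers z).Normal] :
    LinearMap.ker (MonoidAlgebra.mapDomainAlgHom F F
      (QuotientGroup.mk' (Subgroup.zpowers z))).toLinearMap ≤ zRange F z := by
  classical
  set π := (MonoidAlgebra.mapDomainAlgHom F F (QuotientGroup.mk' (Subgroup.zpowers z))) with hπ
  let s : P ⧸ Subgroup.zpowers z → P := Quotient.out
  let σ : MonoidAlgebra F (P ⧸ Subgroup.zpowers z) →ₗ[F] MonoidAlgebra F P :=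
    MonoidAlgebra.mapDomainLinearMap F F s
  have key : ∀ a : MonoidAlgebra F P, a - σ (π a) ∈ zRange F z := by
    intro a
    induction a using MonoidAlgebra.induction_on with
    | of g =>
      have h1 : π (MonoidAlgebra.of F P g) = MonoidAlgebra.of F _ (QuotientGroup.mk g) := by
        simp [hπ, MonoidAlgebra.of_apply, MonoidAlgebra.mapDomainAlgHom_apply]
      have h2 : σ (MonoidAlgebra.of F _ (QuotientGroup.mk g)) =
          MonoidAlgebra.of F P (s (QuotientGroup.mk g)) := by
        simp [σ, MonoidAlgebra.of_apply]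
      rw [h1, h2]
      set g' := s (QuotientGroup.mk g) with hg'
      have hmk : (QuotientGroup.mk g' : P ⧸ Subgroup.zpowers z) = QuotientGroup.mk g :=
        QuotientGroup.out_eq' _
      have hmem : g'⁻¹ * g ∈ Subgroup.zpowers z := QuotientGroup.eq.mp hmk
      rw [← mem_powers_iff_mem_zpowers, Submonoid.mem_powers_iff] at hmem
      obtain ⟨n, hn⟩ := hmem
      have hg : g = g' * z ^ n := by rw [hn]; group
      rw [mem_zRange]
      refine ⟨MonoidAlgebra.of F P g' * ∑ i ∈ Finset.range n, (MonoidAlgebra.of F P z) ^ i, ?_⟩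
      rw [← mul_assoc, zeta_central F hz, mul_assoc, mul_geom_sum, hg, map_mul, map_pow, mul_sub,
        mul_one]
    | add a b ha hb =>
      have : a + b - σ (π (a + b)) = (a - σ (π a)) + (b - σ (π b)) := by
        rw [map_add, map_add]; abel
      rw [this]
      exact Submodule.add_mem _ ha hb
    | smul r a ha =>
      have : r • a - σ (π (r • a)) = r • (a - σ (π a)) := by
        rw [map_smul, map_smul, smul_sub]
      rw [this]
      exact Submodule.smul_mem _ r ha
  intro a ha
  have h0 : π a = 0 := ha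
  have := key a
  rwa [h0, map_zero, sub_zero] at this


theorem normal_zpowers_of_center {P : Type u} [Group P] {z : P} (hz : z ∈ Subgroup.center P) :
    (Subgroup.zpowers z).Normal := by
  refine ⟨fun y hy g => ?_⟩
  obtain ⟨k, rfl⟩ := Subgroup.mem_zpowers_iff.mp hy
  have hc : z ^ k ∈ Subgroup.center P := Subgroup.zpow_mem _ hz k
  have : g * z ^ k * g⁻¹ = z ^ k := by
    rw [(Subgroup.mem_center_iff.mp hc) g, mul_assoc, mul_inv_cancel, mul_one]
  rw [this]
  exact Subgroup.zpow_mem_zpowers z k

theorem map_aug_le (F : Type v) [Field F] {P : Type u} {Q : Type u} [Group P] [Group Q] (f : P →* Q) :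
    Submodule.map (MonoidAlgebra.mapDomainAlgHom F F f).toLinearMap (aug F (⊤ : Subgroup P)) ≤
      aug F (⊤ : Subgroup Q) := by
  unfold aug
  rw [Submodule.map_span_le]
  rintro m ⟨y, -, rfl⟩
  apply Submodule.subset_span
  refine ⟨f y, Subgroup.mem_top _, ?_⟩
  rw [AlgHom.toLinearMap_apply, map_sub, map_one]
  congr 1
  simp [MonoidAlgebra.of_apply, MonoidAlgebra.mapDomainAlgHom_apply]

/-- The augmentation ideal of a finite `p`-group in characteristic `p` is nilpotent. -/
theorem aug_top_nilpotent (F : Type v) [Field F] (p : ℕ) [Fact p.Prime] [CharP F p] :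
    ∀ (n : ℕ) (P : Type u) [Group P] [Finite P], IsPGroup p P → Nat.card P = n →
      ∃ N : ℕ, aug F (⊤ : Subgroup P) ^ N = ⊥ := by
  intro n
  induction n using Nat.strong_induction_on with
  | _ n ih =>
    intro P _ _ hP hn
    by_cases htriv : Subsingleton P
    · refine ⟨1, ?_⟩
      rw [pow_one, eq_bot_iff]
      unfold aug
      rw [Submodule.span_le]
      rintro m ⟨y, -, rfl⟩
      have : y = 1 := Subsingleton.elim _ _
      rw [this, map_one, sub_self]
      exact Submodule.zero_mem _
    · rw [not_subsingleton_iff_nontrivial] at htriv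
      haveI := hP.center_nontrivial
      have hpdvd : p ∣ Nat.card (Subgroup.center P) := by
        rcases (hP.to_subgroup (Subgroup.center P)).card_eq_or_dvd with h | h
        · exfalso
          have := (Nat.card_eq_one_iff_unique.mp h).1
          exact not_subsingleton (Subgroup.center P) this
        · exact h
      obtain ⟨⟨z, hzc⟩, hz⟩ := exists_prime_orderOf_dvd_card' p hpdvd
      have hzo : orderOf z = p := by
        rw [← hz]; exact (Subgroup.orderOf_coe (⟨z, hzc⟩ : Subgroup.center P))
      have hzp : z ^ p = 1 := by rw [← hzo]; exact pow_orderOf_eq_one z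
      haveI hN : (Subgroup.zpowers z).Normal := normal_zpowers_of_center hzc
      have hcardQ : Nat.card (P ⧸ Subgroup.zpowers z) < n := by
        have h1 := Subgroup.card_eq_card_quotient_mul_card_subgroup (Subgroup.zpowers z)
        rw [Nat.card_zpowers, hzo, hn] at h1
        have hp2 : 2 ≤ p := (Fact.out : p.Prime).two_le
        have hpos : 0 < Nat.card (P ⧸ Subgroup.zpowers z) := Nat.card_pos
        nlinarith
      obtain ⟨N, hNQ⟩ := ih _ hcardQ (P ⧸ Subgroup.zpowers z) (hP.to_quotient _) rfl
      refine ⟨N * p, ?_⟩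
      have h1 : aug F (⊤ : Subgroup P) ^ N ≤ zRange F z := by
        refine le_trans ?_ (ker_le_zRange F hzc)
        intro a ha
        rw [LinearMap.mem_ker]
        have h2 : (MonoidAlgebra.mapDomainAlgHom F F
            (QuotientGroup.mk' (Subgroup.zpowers z))).toLinearMap a ∈
            Submodule.map (MonoidAlgebra.mapDomainAlgHom F F
              (QuotientGroup.mk' (Subgroup.zpowers z))).toLinearMap (aug F (⊤ : Subgroup P) ^ N) :=
          Submodule.mem_map_of_mem ha
        rw [Submodule.map_pow] at h2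
        have h3 := pow_le_pow_left' (map_aug_le F (QuotientGroup.mk' (Subgroup.zpowers z))) N h2
        rw [hNQ] at h3
        exact (Submodule.mem_bot F).mp h3
      rw [eq_bot_iff, pow_mul, ← zRange_pow_eq_bot F p hzc hzp]
      exact pow_le_pow_left' h1 p


/-- The span of `y - 1`, `y ∈ P`, is nilpotent inside `F[G]` when `P` is a finite `p`-subgroup. -/
theorem aug_nilpotent (F : Type v) [Field F] (p : ℕ) [Fact p.Prime] [CharP F p]
    {G : Type u} [Group G] (P : Subgroup G) [Finite P] (hP : IsPGroup p P) :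
    ∃ N : ℕ, aug F P ^ N = ⊥ := by
  obtain ⟨N, hN⟩ := aug_top_nilpotent F p (Nat.card P) P hP rfl
  refine ⟨N, ?_⟩
  have hle : aug F P ≤ Submodule.map (MonoidAlgebra.mapDomainAlgHom F F P.subtype).toLinearMap
      (aug F (⊤ : Subgroup P)) := by
    unfold aug
    rw [Submodule.span_le]
    rintro m ⟨y, hy, rfl⟩
    refine ⟨MonoidAlgebra.of F P ⟨y, hy⟩ - 1, Submodule.subset_span ⟨⟨y, hy⟩, Subgroup.mem_top _, rfl⟩, ?_⟩
    rw [AlgHom.toLinearMap_apply, map_sub, map_one]
    congr 1
    simp [MonoidAlgebra.of_apply, MonoidAlgebra.mapDomainAlgHom_apply]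
  rw [eq_bot_iff]
  refine (pow_le_pow_left' hle N).trans ?_
  rw [← Submodule.map_pow, hN, Submodule.map_bot]

theorem top_mul_aug_le (F : Type v) [Field F] {G : Type u} [Group G] (P : Subgroup G) [hN : P.Normal] :
    (⊤ : Submodule F (MonoidAlgebra F G)) * aug F P ≤ aug F P * ⊤ := by
  rw [Submodule.mul_le]
  intro a _ b hb
  have key : ∀ b ∈ aug F P, ∀ a : MonoidAlgebra F G, a * b ∈ aug F P * ⊤ := by
    intro b hb
    unfold aug at hb
    induction hb using Submodule.span_induction with
    | mem b hb =>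
      obtain ⟨y, hy, rfl⟩ := hb
      intro a
      induction a using MonoidAlgebra.induction_on with
      | of g =>
        have : MonoidAlgebra.of F G g * (MonoidAlgebra.of F G y - 1) =
            (MonoidAlgebra.of F G (g * y * g⁻¹) - 1) * MonoidAlgebra.of F G g := by
          rw [mul_sub, sub_mul, ← map_mul, ← map_mul, mul_one, one_mul]
          congr 2
          group
        rw [this]
        exact Submodule.mul_mem_mul (of_sub_one_mem_aug F P (hN.conj_mem y hy g)) Submodule.mem_top
      | add a b ha hb => rw [add_mul]; exact Submodule.add_mem _ ha hb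
      | smul r a ha => rw [smul_mul_assoc]; exact Submodule.smul_mem _ r ha
    | zero => intro a; rw [mul_zero]; exact Submodule.zero_mem _
    | add b b' _ _ hb hb' => intro a; rw [mul_add]; exact Submodule.add_mem _ (hb a) (hb' a)
    | smul r b _ hb => intro a; rw [mul_smul_comm]; exact Submodule.smul_mem _ r (hb a)
  exact key b hb a

theorem pow_mem_aug_pow (F : Type v) [Field F] {G : Type u} [Group G] (P : Subgroup G) [hN : P.Normal]
    {c : MonoidAlgebra F G} (hc : c ∈ aug F P * ⊤) (k : ℕ) : c ^ k ∈ aug F P ^ k * ⊤ := by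
  induction k with
  | zero => rw [pow_zero, pow_zero, one_mul]; exact Submodule.mem_top
  | succ k ih =>
    rw [pow_succ]
    have h1 : c ^ k * c ∈ (aug F P ^ k * ⊤) * (aug F P * ⊤) := Submodule.mul_mem_mul ih hc
    have h2 : (aug F P ^ k * ⊤) * (aug F P * ⊤) ≤ aug F P ^ (k + 1) * ⊤ := by
      calc (aug F P ^ k * ⊤) * (aug F P * ⊤) = aug F P ^ k * ((⊤ * aug F P) * ⊤) := by
            simp only [mul_assoc]
        _ ≤ aug F P ^ k * ((aug F P * ⊤) * ⊤) :=
            mul_le_mul' le_rfl (mul_le_mul' (top_mul_aug_le F P) le_rfl)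
        _ = aug F P ^ (k + 1) * (⊤ * ⊤) := by rw [pow_succ]; simp only [mul_assoc]
        _ ≤ aug F P ^ (k + 1) * ⊤ := mul_le_mul' le_rfl le_top
    exact h2 h1

/-- Elements of the ideal generated by the augmentation ideal of a normal `p`-subgroup are
nilpotent. -/
theorem isNilpotent_of_mem (F : Type v) [Field F] (p : ℕ) [Fact p.Prime] [CharP F p]
    {G : Type u} [Group G] (P : Subgroup G) [Finite P] [hN : P.Normal] (hP : IsPGroup p P)
    {c : MonoidAlgebra F G} (hc : c ∈ aug F P * ⊤) : IsNilpotent c := by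
  obtain ⟨N, hN'⟩ := aug_nilpotent F p P hP
  refine ⟨N, ?_⟩
  have := pow_mem_aug_pow F P hc N
  rw [hN', Submodule.bot_mul] at this
  exact (Submodule.mem_bot F).mp this


/-- Orbits of a `p`-group acting by conjugation have size divisible by `p` unless trivial. -/
theorem card_orbit_dvd (p : ℕ) [Fact p.Prime] {G : Type u} [Group G] [Finite G]
    (P : Subgroup G) (hP : IsPGroup p P) (x : G) (O : Finset G)
    (hO : ∀ x', x' ∈ O ↔ ∃ y ∈ P, x' = y * x * y⁻¹) (hne : ∃ y ∈ P, y * x * y⁻¹ ≠ x) :
    p ∣ O.card := by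
  classical
  letI : MulAction P G := MulAction.compHom G ((MulAut.conj : G →* MulAut G).comp P.subtype)
  have hsmul : ∀ (y : P) (g : G), y • g = (y : G) * g * (y : G)⁻¹ := fun _ _ => rfl
  obtain ⟨n, hn⟩ := hP.card_orbit x
  have hset : MulAction.orbit P x = (O : Set G) := by
    ext x'
    rw [MulAction.mem_orbit_iff, Finset.mem_coe, hO]
    constructor
    · rintro ⟨y, rfl⟩
      exact ⟨y, y.2, hsmul y x⟩
    · rintro ⟨y, hy, rfl⟩
      exact ⟨⟨y, hy⟩, hsmul _ x⟩
  rw [hset, Nat.card_coe_set_eq, Set.ncard_coe_finset] at hn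
  rw [hn]
  have hn0 : n ≠ 0 := by
    rintro rfl
    rw [pow_zero] at hn
    obtain ⟨y, hy, hyx⟩ := hne
    have h2 : 1 < O.card := by
      rw [Finset.one_lt_card]
      exact ⟨y * x * y⁻¹, (hO _).mpr ⟨y, hy, rfl⟩, x, (hO _).mpr ⟨1, P.one_mem, by simp⟩, hyx⟩
    omega
  exact dvd_pow_self p hn0

/-- The sum of a conjugation-stable set without `P`-fixed points lies in the ideal generated by the
augmentation ideal of `P`. -/
theorem sum_mem_of_stable (F : Type v) [Field F] (p : ℕ) [Fact p.Prime] [CharP F p]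
    {G : Type u} [Group G] [Finite G] [DecidableEq G] (P : Subgroup G) [hN : P.Normal]
    (hP : IsPGroup p P) :
    ∀ K : Finset G, (∀ x ∈ K, ∀ y ∈ P, y * x * y⁻¹ ∈ K) → (∀ x ∈ K, ∃ y ∈ P, y * x * y⁻¹ ≠ x) →
      ∑ x ∈ K, MonoidAlgebra.of F G x ∈ aug F P * ⊤ := by
  intro K
  induction K using Finset.strongInduction with
  | H K ih =>
    intro hstab hnf
    rcases K.eq_empty_or_nonempty with rfl | ⟨x, hx⟩
    · simp
    · classical
      set O : Finset G := K.filter (fun x' => ∃ y ∈ P, x' = y * x * y⁻¹) with hOdef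
      have hO : ∀ x', x' ∈ O ↔ ∃ y ∈ P, x' = y * x * y⁻¹ := by
        intro x'
        rw [hOdef, Finset.mem_filter]
        constructor
        · exact fun h => h.2
        · rintro ⟨y, hy, rfl⟩
          exact ⟨hstab x hx y hy, y, hy, rfl⟩
      have hxO : x ∈ O := (hO x).mpr ⟨1, P.one_mem, by simp⟩
      have hOK : O ⊆ K := Finset.filter_subset _ _
      have hlt : K \ O ⊂ K := by
        refine ⟨Finset.sdiff_subset, fun h => ?_⟩
        have := h hx
        rw [Finset.mem_sdiff] at this
        exact this.2 hxO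
      have hstab' : ∀ x' ∈ K \ O, ∀ y ∈ P, y * x' * y⁻¹ ∈ K \ O := by
        intro x' hx' y hy
        rw [Finset.mem_sdiff] at hx' ⊢
        refine ⟨hstab x' hx'.1 y hy, fun h => hx'.2 ?_⟩
        obtain ⟨y', hy', he⟩ := (hO _).mp h
        refine (hO _).mpr ⟨y⁻¹ * y', P.mul_mem (P.inv_mem hy) hy', ?_⟩
        have : x' = y⁻¹ * (y * x' * y⁻¹) * y := by group
        rw [this, he]; group
      have hnf' : ∀ x' ∈ K \ O, ∃ y ∈ P, y * x' * y⁻¹ ≠ x' := fun x' hx' =>
        hnf x' (Finset.mem_sdiff.mp hx').1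
      have h1 := ih (K \ O) hlt hstab' hnf'
      have h2 : ∑ x' ∈ O, MonoidAlgebra.of F G x' ∈ aug F P * ⊤ := by
        have hdvd := card_orbit_dvd p P hP x O hO (hnf x hx)
        have hsplit : ∑ x' ∈ O, MonoidAlgebra.of F G x' =
            ∑ x' ∈ O, (MonoidAlgebra.of F G (x' * x⁻¹) - 1) * MonoidAlgebra.of F G x +
              (O.card : F) • MonoidAlgebra.of F G x := by
          rw [Nat.cast_smul_eq_nsmul F, ← Finset.sum_const, ← Finset.sum_add_distrib]
          refine Finset.sum_congr rfl fun x' _ => ?_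
          rw [sub_mul, one_mul, ← map_mul, inv_mul_cancel_right, sub_add_cancel]
        rw [hsplit, (CharP.cast_eq_zero_iff F p O.card).mpr hdvd, zero_smul, add_zero]
        refine Submodule.sum_mem _ fun x' hx' => ?_
        refine Submodule.mul_mem_mul (of_sub_one_mem_aug F P ?_) Submodule.mem_top
        obtain ⟨y, hy, rfl⟩ := (hO x').mp hx'
        have : y * x * y⁻¹ * x⁻¹ = y * (x * y⁻¹ * x⁻¹) := by group
        rw [this]
        exact P.mul_mem hy (hN.conj_mem _ (P.inv_mem hy) x)
      have hsum : ∑ x' ∈ K, MonoidAlgebra.of F G x' =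
          ∑ x' ∈ K \ O, MonoidAlgebra.of F G x' + ∑ x' ∈ O, MonoidAlgebra.of F G x' :=
        (Finset.sum_sdiff hOK).symm
      rw [hsum]
      exact Submodule.add_mem _ h1 h2

end Cfsg.Agent.Lib.Helper7_AugNil
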