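import Mathlib

namespace Cfsg.Agent.H7AutAlt

open Equiv Equiv.Perm Subgroup

/-- base arithmetic: `2·3^(j+2)·(j+3)! < (3j+6)!` -/
theorem fact_ineq0 (j : ℕ) : 2 * 3 ^ (j + 2) * (j + 3).factorial < (3 * j + 6).factorial := by
  induction j with
  | zero => decide
  | succ j ih =>
    have e1 : (3 * (j + 1) + 6).factorial =
        (3 * j + 9) * ((3 * j + 8) * ((3 * j + 7) * (3 * j + 6).factorial)) := by
      have : 3 * (j + 1) + 6 = (3 * j + 8) + 1 := by ring
      rw [this, Nat.factorial_succ]
      have : 3 * j + 8 = (3 * j + 7) + 1 := by ring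
      rw [this, Nat.factorial_succ]
      have : 3 * j + 7 = (3 * j + 6) + 1 := by ring
      rw [this, Nat.factorial_succ]
    have e2 : (j + 1 + 3).factorial = (j + 4) * (j + 3).factorial := by
      have : j + 1 + 3 = (j + 3) + 1 := by ring
      rw [this, Nat.factorial_succ]
    rw [e1, e2]
    have e3 : 2 * 3 ^ (j + 1 + 2) * ((j + 4) * (j + 3).factorial) =
        (3 * (j + 4)) * (2 * 3 ^ (j + 2) * (j + 3).factorial) := by ring
    rw [e3]
    have h1 : 3 * (j + 4) ≤ (3 * j + 9) * ((3 * j + 8) * (3 * j + 7)) := by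
      have h2 : 1 ≤ (3 * j + 8) * (3 * j + 7) := Nat.one_le_iff_ne_zero.mpr (by positivity)
      calc 3 * (j + 4) ≤ (3 * j + 9) * 2 := by omega
        _ ≤ (3 * j + 9) * ((3 * j + 8) * (3 * j + 7)) := by
          apply Nat.mul_le_mul_left
          nlinarith
    calc 3 * (j + 4) * (2 * 3 ^ (j + 2) * (j + 3).factorial)
        < 3 * (j + 4) * (3 * j + 6).factorial :=
          Nat.mul_lt_mul_of_pos_left ih (by omega)
      _ ≤ (3 * j + 9) * ((3 * j + 8) * (3 * j + 7)) * (3 * j + 6).factorial :=
          Nat.mul_le_mul_right _ h1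
      _ = (3 * j + 9) * ((3 * j + 8) * ((3 * j + 7) * (3 * j + 6).factorial)) := by ring

/-- `2·3^k·(k+1)!·m! < (m+3k)!` for `k ≥ 2`, or `k = 1, m ≥ 1`. -/
theorem fact_ineq (k m : ℕ) (h : (k = 1 ∧ 1 ≤ m) ∨ 2 ≤ k) :
    2 * 3 ^ k * (k + 1).factorial * m.factorial < (m + 3 * k).factorial := by
  have step : ∀ m : ℕ, 1 ≤ k → 2 * 3 ^ k * (k + 1).factorial * m.factorial < (m + 3 * k).factorial →
      2 * 3 ^ k * (k + 1).factorial * (m + 1).factorial < (m + 1 + 3 * k).factorial := by
    intro m hk ih
    have e1 : m + 1 + 3 * k = (m + 3 * k) + 1 := by ring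
    rw [e1, Nat.factorial_succ, Nat.factorial_succ]
    calc 2 * 3 ^ k * (k + 1).factorial * ((m + 1) * m.factorial)
        = (m + 1) * (2 * 3 ^ k * (k + 1).factorial * m.factorial) := by ring
      _ < (m + 1) * (m + 3 * k).factorial := Nat.mul_lt_mul_of_pos_left ih (by omega)
      _ ≤ (m + 3 * k + 1) * (m + 3 * k).factorial := Nat.mul_le_mul_right _ (by omega)
  rcases h with ⟨rfl, hm⟩ | hk
  · induction m, hm using Nat.le_induction with
    | base => decide
    | succ m hm ih => exact step m le_rfl ih
  · induction m with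
    | zero =>
      obtain ⟨j, rfl⟩ : ∃ j, k = j + 2 := ⟨k - 2, by omega⟩
      have := fact_ineq0 j
      simp only [Nat.factorial_zero, mul_one, zero_add]
      have e : 3 * (j + 2) = 3 * j + 6 := by ring
      rw [e]
      exact this
    | succ m ih => exact step m (by omega) ih

theorem card_centralizer_replicate {n : ℕ} (x : Perm (Fin n)) (k : ℕ)
    (hx : x.cycleType = Multiset.replicate (k + 1) 3) :
    Nat.card (centralizer {x}) = (n - 3 * (k + 1)).factorial * 3 ^ (k + 1) * (k + 1).factorial := by
  rw [nat_card_centralizer, hx, Multiset.sum_replicate, Multiset.prod_replicate,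
    Multiset.toFinset_replicate, if_neg (by omega), Finset.prod_singleton,
    Multiset.count_replicate_self, Fintype.card_fin, smul_eq_mul, mul_comm (k + 1) 3]


/-- centralizer in `A_n` vs centralizer in `S_n` -/
theorem card_centralizer_alt {n : ℕ} (hn : 2 ≤ n) (x : alternatingGroup (Fin n)) :
    Nat.card (centralizer {(x : Perm (Fin n))}) =
        Nat.card (centralizer ({x} : Set (alternatingGroup (Fin n)))) ∨
      Nat.card (centralizer {(x : Perm (Fin n))}) =
        2 * Nat.card (centralizer ({x} : Set (alternatingGroup (Fin n)))) := by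
  haveI : Nontrivial (Fin n) := Fin.nontrivial_iff_two_le.mpr hn
  have hmemC : ∀ g : Perm (Fin n), g ∈ centralizer {(x : Perm (Fin n))} ↔
      (x : Perm (Fin n)) * g = g * x := by
    intro g
    simp only [Subgroup.mem_centralizer_iff, Set.mem_singleton_iff, forall_eq]
  have hmemA : ∀ g : alternatingGroup (Fin n),
      g ∈ centralizer ({x} : Set (alternatingGroup (Fin n))) ↔ x * g = g * x := by
    intro g
    simp only [Subgroup.mem_centralizer_iff, Set.mem_singleton_iff, forall_eq]
  have h1 := Subgroup.card_mul_index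
    ((alternatingGroup (Fin n)).subgroupOf (centralizer {(x : Perm (Fin n))}))
  have h2 : ((alternatingGroup (Fin n)).subgroupOf (centralizer {(x : Perm (Fin n))})).index ∣ 2 := by
    have := Subgroup.relIndex_dvd_index_of_normal (alternatingGroup (Fin n))
      (centralizer {(x : Perm (Fin n))})
    rw [alternatingGroup.index_eq_two] at this
    exact this
  have h3 : Nat.card ((alternatingGroup (Fin n)).subgroupOf (centralizer {(x : Perm (Fin n))})) =
      Nat.card (centralizer ({x} : Set (alternatingGroup (Fin n)))) := by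
    apply Nat.card_congr
    refine ⟨fun g => ⟨⟨g.1.1, g.2⟩, ?_⟩, fun g => ⟨⟨g.1.1, ?_⟩, g.1.2⟩, fun g => rfl, fun g => rfl⟩
    · rw [hmemA]
      apply Subtype.ext
      exact (hmemC _).mp g.1.2
    · rw [hmemC]
      exact congrArg Subtype.val ((hmemA _).mp g.2)
  rw [h3] at h1
  have h4 := (Nat.dvd_prime Nat.prime_two).mp h2
  rcases h4 with h4 | h4
  · left; rw [h4, mul_one] at h1; exact h1.symm
  · right; rw [h4] at h1; rw [← h1, mul_comm]

theorem card_centralizer_mulEquiv {G : Type*} [Group G] (φ : G ≃* G) (x : G) :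
    Nat.card (centralizer ({φ x} : Set G)) = Nat.card (centralizer ({x} : Set G)) := by
  apply Nat.card_congr
  refine (Equiv.subtypeEquiv φ.toEquiv ?_).symm
  intro g
  rw [Subgroup.mem_centralizer_iff, Subgroup.mem_centralizer_iff]
  constructor
  · intro h y hy
    rw [Set.mem_singleton_iff] at hy
    subst hy
    have := h x (Set.mem_singleton _)
    change φ x * φ g = φ g * φ x
    rw [← map_mul, ← map_mul, this]
  · intro h y hy
    rw [Set.mem_singleton_iff] at hy
    subst hy
    have := h (φ y) (Set.mem_singleton _)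
    change φ y * φ g = φ g * φ y at this
    rw [← map_mul, ← map_mul] at this
    exact φ.injective this

/-- Part A: automorphisms of `A_n`, `n ≠ 6`, preserve 3-cycles. -/
theorem map_isThreeCycle {n : ℕ} (h6 : n ≠ 6)
    (φ : alternatingGroup (Fin n) ≃* alternatingGroup (Fin n)) (x : alternatingGroup (Fin n))
    (hx : IsThreeCycle (x : Perm (Fin n))) : IsThreeCycle ((φ x : alternatingGroup (Fin n)) : Perm (Fin n)) := by
  have hsupp : (x : Perm (Fin n)).support.card = 3 := card_support_eq_three_iff.mpr hx
  have hn3 : 3 ≤ n := by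
    have := Finset.card_le_univ (x : Perm (Fin n)).support
    rw [Fintype.card_fin] at this; omega
  have ho : orderOf ((φ x : alternatingGroup (Fin n)) : Perm (Fin n)) = 3 := by
    rw [Subgroup.orderOf_coe, MulEquiv.orderOf_eq, ← Subgroup.orderOf_coe, hx.orderOf]
  obtain ⟨k, hk⟩ := cycleType_prime_order (σ := ((φ x : alternatingGroup (Fin n)) : Perm (Fin n)))
    (by rw [ho]; exact Nat.prime_three)
  rw [ho] at hk
  rcases Nat.eq_zero_or_pos k with rfl | hkpos
  · exact hk
  · exfalso
    have hsum : 3 * (k + 1) ≤ n := by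
      have h1 := sum_cycleType ((φ x : alternatingGroup (Fin n)) : Perm (Fin n))
      rw [hk, Multiset.sum_replicate, smul_eq_mul] at h1
      have := Finset.card_le_univ ((φ x : alternatingGroup (Fin n)) : Perm (Fin n)).support
      rw [Fintype.card_fin] at this; omega
    have c1 := card_centralizer_replicate (x : Perm (Fin n)) 0 hx
    have c2 := card_centralizer_replicate ((φ x : alternatingGroup (Fin n)) : Perm (Fin n)) k hk
    have c3 := card_centralizer_mulEquiv φ x
    have c4 := card_centralizer_alt (by omega) x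
    have c5 := card_centralizer_alt (by omega) (φ x)
    have hcA : 0 < Nat.card (centralizer ({x} : Set (alternatingGroup (Fin n)))) := Nat.card_pos
    obtain ⟨m, hm⟩ : ∃ m, n = m + 3 * (k + 1) := ⟨n - 3 * (k + 1), by omega⟩
    have hf := fact_ineq k m (by
      rcases Nat.lt_or_ge k 2 with h | h
      · left; exact ⟨by omega, by omega⟩
      · right; exact h)
    have e1 : n - 3 * (0 + 1) = m + 3 * k := by omega
    have e2 : n - 3 * (k + 1) = m := by omega
    rw [e1] at c1
    rw [e2] at c2
    simp only [zero_add, pow_one, Nat.factorial_one, mul_one] at c1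
    have key : Nat.card (centralizer {(x : Perm (Fin n))}) ≤
        2 * Nat.card (centralizer {((φ x : alternatingGroup (Fin n)) : Perm (Fin n))}) := by
      rcases c4 with c4 | c4 <;> rcases c5 with c5 | c5 <;> rw [c4, c5, c3] <;> omega
    rw [c1, c2] at key
    have : (m + 3 * k).factorial * 3 ≤ 2 * (m.factorial * 3 ^ (k + 1) * (k + 1).factorial) := key
    have e3 : 2 * (m.factorial * 3 ^ (k + 1) * (k + 1).factorial) =
        (2 * 3 ^ k * (k + 1).factorial * m.factorial) * 3 := by ring
    rw [e3] at this
    have := Nat.le_of_mul_le_mul_right this (by norm_num)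
    omega

end Cfsg.Agent.H7AutAlt
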