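import Cfsg.Agent.Lib.Helper7_AutAltA

namespace Cfsg.Agent.H7AutAlt

open Equiv Equiv.Perm Subgroup
open scoped Pointwise

section LemmaJ
variable {β : Type*} [Fintype β] [DecidableEq β]

/-- a 3-cycle cannot move a block with ≥ 2 points off itself -/
theorem threeCycle_block {t : Perm β} (ht : IsThreeCycle t) {B : Set β} {a b : β}
    (ha : a ∈ B) (hb : b ∈ B) (hab : a ≠ b) (hdis : ∀ c ∈ B, t c ∉ B) : False := by
  have hta : t a ≠ a := fun h => hdis a ha (by rw [h]; exact ha)
  have htb : t b ≠ b := fun h => hdis b hb (by rw [h]; exact hb)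
  have htab : t a ≠ b := fun h => hdis a ha (by rw [h]; exact hb)
  have h3 : t ^ 3 = 1 := by rw [← ht.orderOf]; exact pow_orderOf_eq_one t
  have h3a : t (t (t a)) = a := by
    have := congrArg (fun f : Perm β => f a) h3
    simpa [pow_succ, Perm.mul_apply] using this
  have hcard : t.support.card = 3 := card_support_eq_three_iff.mpr ht
  have hsub : ({a, t a, t (t a)} : Finset β) ⊆ t.support := by
    intro x hx
    simp only [Finset.mem_insert, Finset.mem_singleton] at hx
    rw [Perm.mem_support]
    rcases hx with rfl | rfl | rfl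
    · exact hta
    · intro h; exact hta (t.injective h)
    · intro h; exact hta (t.injective (t.injective h))
  have hne1 : a ≠ t a := fun h => hta h.symm
  have hne2 : a ≠ t (t a) := by
    intro h
    apply hta
    have : t (t (t a)) = t a := by rw [← h]
    rw [h3a] at this
    exact this.symm
  have hne3 : t a ≠ t (t a) := fun h => hne1 (t.injective h)
  have hc3 : ({a, t a, t (t a)} : Finset β).card = 3 := by
    rw [Finset.card_insert_of_notMem, Finset.card_insert_of_notMem, Finset.card_singleton]
    · simpa using hne3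
    · simp only [Finset.mem_insert, Finset.mem_singleton, not_or]
      exact ⟨hne1, hne2⟩
  have heq : ({a, t a, t (t a)} : Finset β) = t.support :=
    Finset.eq_of_subset_of_card_le hsub (by rw [hcard, hc3])
  have hbs : b ∈ t.support := Perm.mem_support.mpr htb
  rw [← heq] at hbs
  simp only [Finset.mem_insert, Finset.mem_singleton] at hbs
  rcases hbs with h | h | h
  · exact hab h.symm
  · exact htab h.symm
  · apply hdis b hb
    rw [h, h3a]
    exact ha

theorem alt_le_closure_of_transitive (X : Set (Perm β)) (hX : ∀ t ∈ X, IsThreeCycle t)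
    (hne : X.Nonempty) (htr : ∀ a b : β, ∃ g ∈ closure X, g a = b) :
    alternatingGroup β ≤ closure X := by
  obtain ⟨t0, ht0⟩ := hne
  refine alternatingGroup_le_of_isPreprimitive_of_isThreeCycle_mem (G := closure X) ?_ (hX t0 ht0)
    (subset_closure ht0)
  haveI : MulAction.IsPretransitive (closure X) β := by
    refine ⟨fun a b => ?_⟩
    obtain ⟨g, hg, h⟩ := htr a b
    exact ⟨⟨g, hg⟩, h⟩
  refine ⟨?_⟩
  intro B hB
  by_cases hsub : B.Subsingleton
  · exact Or.inl hsub
  · right
    rw [Set.not_subsingleton_iff] at hsub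
    obtain ⟨a, ha, b, hb, hab⟩ := hsub
    -- every element of closure X stabilizes B
    have hstab : closure X ≤ MulAction.stabilizer (Perm β) B := by
      rw [Subgroup.closure_le]
      intro t ht
      rw [SetLike.mem_coe, MulAction.mem_stabilizer_iff]
      by_contra hne
      rw [MulAction.isBlock_iff_disjoint_smul_of_ne] at hB
      have hd := hB (g := (⟨t, subset_closure ht⟩ : closure X)) hne
      apply threeCycle_block (hX t ht) ha hb hab
      intro c hc hc'
      rw [Set.disjoint_left] at hd
      exact hd (Set.smul_mem_smul_set (a := (⟨t, subset_closure ht⟩ : closure X)) hc) hc'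
    rw [Set.eq_univ_iff_forall]
    intro c
    obtain ⟨g, hg, hgc⟩ := htr a c
    have := hstab hg
    rw [MulAction.mem_stabilizer_iff] at this
    rw [← this, ← hgc]
    exact Set.smul_mem_smul_set ha

end LemmaJ


section Bound

theorem fact_mul_lt (m d : ℕ) (hm : 2 ≤ m) (hd : 2 ≤ d) :
    m.factorial * d.factorial < (m + d - 1).factorial := by
  induction d, hd using Nat.le_induction with
  | base =>
    have e : m + 2 - 1 = m + 1 := by omega
    rw [e, Nat.factorial_succ]
    have : 0 < m.factorial := Nat.factorial_pos m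
    simp only [Nat.factorial]
    nlinarith
  | succ d hd ih =>
    have e : m + (d + 1) - 1 = (m + d - 1) + 1 := by omega
    rw [e, Nat.factorial_succ, Nat.factorial_succ]
    calc m.factorial * ((d + 1) * d.factorial) = (d + 1) * (m.factorial * d.factorial) := by ring
      _ < (d + 1) * (m + d - 1).factorial := Nat.mul_lt_mul_of_pos_left ih (by omega)
      _ ≤ (m + d - 1 + 1) * (m + d - 1).factorial := Nat.mul_le_mul_right _ (by omega)

theorem card_le_of_invariant {n : ℕ} (K : Subgroup (Perm (Fin n)))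
    (hK : K ≤ alternatingGroup (Fin n)) (p : Fin n → Prop) [DecidablePred p]
    (hinv : ∀ k ∈ K, ∀ x, p (k x) ↔ p x) (m : ℕ) (hm : Nat.card {x // p x} = m) (h2 : 2 ≤ m) :
    2 * Nat.card K ≤ m.factorial * (n - m).factorial := by
  classical
  let ι := subtypeCongrHom p
  let ε : Perm {x // p x} × Perm {x // ¬ p x} →* ℤˣ := (sign : Perm (Fin n) →* ℤˣ).comp ι
  have hεsurj : Function.Surjective ε := by
    have hc : 1 < Nat.card {x // p x} := by omega
    haveI : Finite {x // p x} := Subtype.finite
    rw [Finite.one_lt_card_iff_nontrivial] at hc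
    obtain ⟨a, b, hab⟩ := hc.exists_pair_ne
    intro u
    rcases Int.units_eq_one_or u with rfl | rfl
    · exact ⟨1, map_one _⟩
    · refine ⟨(swap a b, 1), ?_⟩
      change sign (Perm.subtypeCongr (swap a b) 1) = -1
      rw [sign_subtypeCongr, sign_swap hab, map_one, mul_one]
  have hle : K ≤ (ε.ker).map ι := by
    intro k hk
    have h1 : ∀ x, p (k x) ↔ p x := hinv k hk
    have h1' : ∀ x, ¬ p (k x) ↔ ¬ p x := fun x => not_congr (h1 x)
    refine ⟨(k.subtypePerm h1, k.subtypePerm h1'), ?_, ?_⟩
    · rw [SetLike.mem_coe, MonoidHom.mem_ker]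
      change sign (Perm.subtypeCongr (k.subtypePerm h1) (k.subtypePerm h1')) = 1
      have : Perm.subtypeCongr (k.subtypePerm h1) (k.subtypePerm h1') = k := by
        ext x
        by_cases hx : p x
        · rw [Perm.subtypeCongr.left_apply _ _ hx]; rfl
        · rw [Perm.subtypeCongr.right_apply _ _ hx]; rfl
      rw [this]
      exact mem_alternatingGroup.mp (hK hk)
    · change Perm.subtypeCongr (k.subtypePerm h1) (k.subtypePerm h1') = k
      ext x
      by_cases hx : p x
      · rw [Perm.subtypeCongr.left_apply _ _ hx]; rfl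
      · rw [Perm.subtypeCongr.right_apply _ _ hx]; rfl
  have h3 := Subgroup.card_le_of_le hle
  have h4 : Nat.card ((ε.ker).map ι) = Nat.card ε.ker :=
    (Nat.card_congr (Subgroup.equivMapOfInjective _ ι (subtypeCongrHom_injective p)).toEquiv).symm
  have h5 := Subgroup.card_mul_index ε.ker
  rw [Subgroup.index_ker, MonoidHom.range_eq_top.mpr hεsurj, Subgroup.card_top] at h5
  have h6 : Nat.card ℤˣ = 2 := by rw [Nat.card_eq_fintype_card]; rfl
  rw [h6, Nat.card_prod, Nat.card_perm, Nat.card_perm, hm] at h5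
  have h7 : Nat.card {x // ¬ p x} = n - m := by
    have := Fintype.card_subtype_compl p
    rw [Nat.card_eq_fintype_card, this, Fintype.card_fin, ← Nat.card_eq_fintype_card, hm]
  rw [h7] at h5
  rw [h4] at h3
  omega

end Bound

section PtStab
variable {n : ℕ}

/-- point stabilizer in `A_n` -/
def ptStab (n : ℕ) (i : Fin n) : Subgroup (alternatingGroup (Fin n)) :=
  (MulAction.stabilizer (Perm (Fin n)) i).subgroupOf (alternatingGroup (Fin n))

theorem mem_ptStab {i : Fin n} {g : alternatingGroup (Fin n)} :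
    g ∈ ptStab n i ↔ (g : Perm (Fin n)) i = i := by
  unfold ptStab
  rw [Subgroup.mem_subgroupOf, MulAction.mem_stabilizer_iff, Perm.smul_def]

/-- the 3-cycles of `A_n` fixing `i` -/
def tcSet (n : ℕ) (i : Fin n) : Set (alternatingGroup (Fin n)) :=
  {t | IsThreeCycle (t : Perm (Fin n)) ∧ (t : Perm (Fin n)) i = i}

theorem ptStab_eq_closure (i : Fin n) : ptStab n i = closure (tcSet n i) := by
  apply le_antisymm
  · intro g hg
    rw [mem_ptStab] at hg
    have h1 : ∀ x, (g : Perm (Fin n)) x ≠ i ↔ x ≠ i := by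
      intro x
      constructor
      · intro h hx; apply h; rw [hx, hg]
      · intro h hx; apply h
        apply (g : Perm (Fin n)).injective
        rw [hx, hg]
    have h2 : ∀ x, (g : Perm (Fin n)) x ≠ x → x ≠ i := by
      intro x hx h; apply hx; rw [h, hg]
    set g' : Perm {x : Fin n // x ≠ i} := (g : Perm (Fin n)).subtypePerm h1 with hg'
    have hsign : sign g' = 1 := by
      rw [hg', sign_subtypePerm _ h1 h2]
      exact mem_alternatingGroup.mp g.2
    have hof : ofSubtype g' = (g : Perm (Fin n)) := ofSubtype_subtypePerm h1 h2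
    have hmem : g' ∈ closure {σ : Perm {x : Fin n // x ≠ i} | IsThreeCycle σ} := by
      rw [closure_three_cycles_eq_alternating]
      exact mem_alternatingGroup.mpr hsign
    have h3 : (g : Perm (Fin n)) ∈ (closure (tcSet n i)).map (alternatingGroup (Fin n)).subtype := by
      rw [← hof]
      have h4 : ofSubtype g' ∈ (closure {σ : Perm {x : Fin n // x ≠ i} | IsThreeCycle σ}).map
          (ofSubtype : Perm {x : Fin n // x ≠ i} →* Perm (Fin n)) :=
        Subgroup.mem_map_of_mem _ hmem
      rw [MonoidHom.map_closure] at h4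
      rw [MonoidHom.map_closure]
      refine (Subgroup.closure_mono ?_) h4
      rintro _ ⟨σ, hσ, rfl⟩
      have h3c : IsThreeCycle (ofSubtype σ : Perm (Fin n)) := by
        unfold IsThreeCycle
        rw [cycleType_ofSubtype]
        exact hσ
      refine ⟨⟨ofSubtype σ, h3c.mem_alternatingGroup⟩, ⟨h3c, ?_⟩, rfl⟩
      exact ofSubtype_apply_of_not_mem σ (by simp)
    obtain ⟨g0, hg0, hg0'⟩ := h3
    have : g0 = g := Subtype.ext hg0'
    rw [← this]
    exact hg0
  · rw [Subgroup.closure_le]
    intro t ht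
    exact mem_ptStab.mpr ht.2

theorem card_ptStab_ge (hn : 2 ≤ n) (i : Fin n) :
    (n - 1).factorial ≤ 2 * Nat.card (ptStab n i) := by
  haveI : Nontrivial (Fin n) := Fin.nontrivial_iff_two_le.mpr hn
  have h1 : ptStab n i = MulAction.stabilizer (alternatingGroup (Fin n)) i := by
    ext g
    rw [mem_ptStab, MulAction.mem_stabilizer_iff]
    rfl
  have h2 := Subgroup.card_mul_index (MulAction.stabilizer (alternatingGroup (Fin n)) i)
  rw [MulAction.index_stabilizer] at h2
  have h3 : (MulAction.orbit (alternatingGroup (Fin n)) i).ncard ≤ n := by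
    have := Set.ncard_le_card (MulAction.orbit (alternatingGroup (Fin n)) i)
    simpa using this
  have h4 := two_mul_nat_card_alternatingGroup (α := Fin n)
  rw [Nat.card_perm, Nat.card_eq_fintype_card (α := Fin n), Fintype.card_fin] at h4
  rw [h1]
  obtain ⟨n', rfl⟩ : ∃ n', n = n' + 1 := ⟨n - 1, by omega⟩
  rw [Nat.factorial_succ] at h4
  simp only [Nat.add_sub_cancel]
  have h5 : (n' + 1) * n'.factorial ≤
      (n' + 1) * (2 * Nat.card (MulAction.stabilizer (alternatingGroup (Fin (n' + 1))) i)) := by
    calc (n' + 1) * n'.factorial = 2 * Nat.card (alternatingGroup (Fin (n' + 1))) := h4.symm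
      _ = 2 * (Nat.card (MulAction.stabilizer (alternatingGroup (Fin (n' + 1))) i) *
            (MulAction.orbit (alternatingGroup (Fin (n' + 1))) i).ncard) := by rw [h2]
      _ ≤ 2 * (Nat.card (MulAction.stabilizer (alternatingGroup (Fin (n' + 1))) i) * (n' + 1)) :=
          Nat.mul_le_mul_left _ (Nat.mul_le_mul_left _ h3)
      _ = _ := by ring
  exact Nat.le_of_mul_le_mul_left h5 (by omega)


theorem exists_three_ne (hn : 4 ≤ n) (i : Fin n) :
    ∃ a b c : Fin n, a ≠ i ∧ b ≠ i ∧ c ≠ i ∧ a ≠ b ∧ a ≠ c ∧ b ≠ c := by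
  have h : 2 < Fintype.card {x : Fin n // x ≠ i} := by
    rw [Fintype.card_subtype_compl, Fintype.card_fin, Fintype.card_subtype_eq]; omega
  obtain ⟨a, b, c, hab, hac, hbc⟩ := Fintype.two_lt_card_iff.mp h
  exact ⟨a.1, b.1, c.1, a.2, b.2, c.2, fun h => hab (Subtype.ext h), fun h => hac (Subtype.ext h),
    fun h => hbc (Subtype.ext h)⟩

theorem tcSet_nonempty (hn : 4 ≤ n) (i : Fin n) : (tcSet n i).Nonempty := by
  obtain ⟨a, b, c, ha, hb, hc, hab, hac, hbc⟩ := exists_three_ne hn i
  have h3 : IsThreeCycle (swap a b * swap a c) := isThreeCycle_swap_mul_swap_same hab hac hbc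
  refine ⟨⟨swap a b * swap a c, h3.mem_alternatingGroup⟩, h3, ?_⟩
  change (swap a b * swap a c) i = i
  rw [Perm.mul_apply, swap_apply_of_ne_of_ne ha.symm hc.symm, swap_apply_of_ne_of_ne ha.symm hb.symm]

theorem ptStab_ne_top (hn : 4 ≤ n) (i : Fin n) : ptStab n i ≠ ⊤ := by
  obtain ⟨a, b, c, ha, hb, hc, hab, hac, hbc⟩ := exists_three_ne hn i
  have h3 : IsThreeCycle (swap i a * swap i b) :=
    isThreeCycle_swap_mul_swap_same ha.symm hb.symm hab
  intro htop
  have : (⟨swap i a * swap i b, h3.mem_alternatingGroup⟩ : alternatingGroup (Fin n)) ∈ ptStab n i := by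
    rw [htop]; exact Subgroup.mem_top _
  rw [mem_ptStab] at this
  change (swap i a * swap i b) i = i at this
  rw [Perm.mul_apply, swap_apply_left, swap_apply_of_ne_of_ne hb hab.symm] at this
  exact hb this

theorem exists_fixed_point (hn : 4 ≤ n) (h6 : n ≠ 6)
    (φ : alternatingGroup (Fin n) ≃* alternatingGroup (Fin n)) (i : Fin n) :
    ∃ j : Fin n, ∀ g ∈ ptStab n i, ((φ g : alternatingGroup (Fin n)) : Perm (Fin n)) j = j := by
  classical
  set ψ : alternatingGroup (Fin n) →* Perm (Fin n) :=
    (alternatingGroup (Fin n)).subtype.comp φ.toMonoidHom with hψ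
  have hψinj : Function.Injective ψ := by
    intro a b h
    exact φ.injective (Subtype.ext h)
  set X : Set (Perm (Fin n)) := ψ '' (tcSet n i) with hX
  have hK : closure X = (ptStab n i).map ψ := by
    rw [ptStab_eq_closure, MonoidHom.map_closure]
  have hX3 : ∀ t ∈ X, IsThreeCycle t := by
    rintro _ ⟨t, ht, rfl⟩
    exact map_isThreeCycle h6 φ t ht.1
  have hXne : X.Nonempty := (tcSet_nonempty hn i).image _
  have hKA : closure X ≤ alternatingGroup (Fin n) := by
    rw [hK]
    rintro _ ⟨g, _, rfl⟩
    exact (φ g).2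
  have hKne : closure X ≠ alternatingGroup (Fin n) := by
    intro h
    have h1 : (⊤ : Subgroup (alternatingGroup (Fin n))).map ψ = alternatingGroup (Fin n) := by
      ext g
      constructor
      · rintro ⟨a, _, rfl⟩; exact (φ a).2
      · intro hg
        refine ⟨φ.symm ⟨g, hg⟩, Subgroup.mem_top _, ?_⟩
        change ((φ (φ.symm ⟨g, hg⟩) : alternatingGroup (Fin n)) : Perm (Fin n)) = g
        rw [MulEquiv.apply_symm_apply]
    rw [hK] at h
    exact ptStab_ne_top hn i (Subgroup.map_injective hψinj (h.trans h1.symm))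
  have hcard : (n - 1).factorial ≤ 2 * Nat.card (closure X) := by
    rw [hK]
    have := card_ptStab_ge (by omega) i
    rwa [Nat.card_congr (Subgroup.equivMapOfInjective _ ψ hψinj).toEquiv] at this
  -- the orbit of `i` under `K`
  let p : Fin n → Prop := fun y => ∃ k ∈ closure X, k i = y
  have hinv : ∀ k ∈ closure X, ∀ x, p (k x) ↔ p x := by
    intro k hk x
    constructor
    · rintro ⟨k', hk', h⟩
      refine ⟨k⁻¹ * k', Subgroup.mul_mem _ (Subgroup.inv_mem _ hk) hk', ?_⟩
      rw [Perm.mul_apply, h]; exact Equiv.Perm.inv_eq_iff_eq.mpr rfl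
    · rintro ⟨k', hk', h⟩
      exact ⟨k * k', Subgroup.mul_mem _ hk hk', by rw [Perm.mul_apply, h]⟩
  have hpi : p i := ⟨1, Subgroup.one_mem _, rfl⟩
  obtain ⟨m, hm⟩ : ∃ m, Nat.card {x // p x} = m := ⟨_, rfl⟩
  have hm1 : 1 ≤ m := by
    rw [← hm]
    haveI : Nonempty {x // p x} := ⟨⟨i, hpi⟩⟩
    exact Nat.card_pos
  have hmn : Nat.card {x // ¬ p x} = n - m := by
    have := Fintype.card_subtype_compl p
    rw [Nat.card_eq_fintype_card, this, Fintype.card_fin, ← Nat.card_eq_fintype_card, hm]
  have hmle : m ≤ n := by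
    rw [← hm, Nat.card_eq_fintype_card]
    have := Fintype.card_subtype_le p
    rwa [Fintype.card_fin] at this
  by_cases hm_one : m = 1
  · -- `i` is fixed
    refine ⟨i, ?_⟩
    intro g hg
    have hk : ψ g ∈ closure X := by rw [hK]; exact Subgroup.mem_map_of_mem _ hg
    have h1 : p (ψ g i) := (hinv _ hk i).mpr hpi
    rw [hm_one, Nat.card_eq_one_iff_unique] at hm
    obtain ⟨hs, _⟩ := hm
    have := hs.elim ⟨ψ g i, h1⟩ ⟨i, hpi⟩
    exact congrArg Subtype.val this
  by_cases hm_top : m = n
  · -- transitive: contradiction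
    exfalso
    have huniv : ∀ y, p y := by
      intro y
      by_contra hy
      have : 0 < Nat.card {x // ¬ p x} := by
        haveI : Nonempty {x // ¬ p x} := ⟨⟨y, hy⟩⟩
        exact Nat.card_pos
      rw [hmn, hm_top] at this
      omega
    have htr : ∀ a b : Fin n, ∃ g ∈ closure X, g a = b := by
      intro a b
      obtain ⟨k1, hk1, h1⟩ := huniv a
      obtain ⟨k2, hk2, h2⟩ := huniv b
      refine ⟨k2 * k1⁻¹, Subgroup.mul_mem _ hk2 (Subgroup.inv_mem _ hk1), ?_⟩
      rw [Perm.mul_apply, ← h1, show k1⁻¹ (k1 i) = i from Equiv.Perm.inv_eq_iff_eq.mpr rfl, h2]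
    exact hKne (le_antisymm hKA (alt_le_closure_of_transitive X hX3 hXne htr))
  by_cases hm_pred : m = n - 1
  · -- the complement is a single fixed point
    have h1 : Nat.card {x // ¬ p x} = 1 := by rw [hmn, hm_pred]; omega
    rw [Nat.card_eq_one_iff_unique] at h1
    obtain ⟨hs, ⟨⟨y, hy⟩⟩⟩ := h1
    refine ⟨y, ?_⟩
    intro g hg
    have hk : ψ g ∈ closure X := by rw [hK]; exact Subgroup.mem_map_of_mem _ hg
    have h2 : ¬ p (ψ g y) := fun h => hy ((hinv _ hk y).mp h)
    have := hs.elim ⟨ψ g y, h2⟩ ⟨y, hy⟩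
    exact congrArg Subtype.val this
  · exfalso
    have h2 : 2 ≤ m := by omega
    have h3 := card_le_of_invariant (closure X) hKA p hinv m hm h2
    have h4 := fact_mul_lt m (n - m) h2 (by omega)
    have e : m + (n - m) - 1 = n - 1 := by omega
    rw [e] at h4
    omega

end PtStab

end Cfsg.Agent.H7AutAlt
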