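import Cfsg.Agent.Lib.Helper7_AutAltB

namespace Cfsg.Agent.H7AutAlt

open Equiv Equiv.Perm Subgroup

variable {n : ℕ}

theorem perm_apply_inv_self {α : Type*} (k : Perm α) (x : α) : k (k⁻¹ x) = x :=
  (Equiv.eq_symm_apply k).mp rfl

theorem eq_of_ptStab_le (hn : 4 ≤ n) {i j : Fin n} (h : ptStab n i ≤ ptStab n j) : i = j := by
  by_contra hij
  obtain ⟨a, b, c, ha, hb, hc, hab, hac, hbc⟩ := exists_three_ne hn i
  -- two of a, b, c differ from j
  have key : ∀ u v : Fin n, u ≠ i → v ≠ i → u ≠ j → v ≠ j → u ≠ v → False := by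
    intro u v hu hv huj hvj huv
    have h3 : IsThreeCycle (swap j u * swap j v) :=
      isThreeCycle_swap_mul_swap_same huj.symm hvj.symm huv
    have hmem : (⟨swap j u * swap j v, h3.mem_alternatingGroup⟩ : alternatingGroup (Fin n)) ∈
        ptStab n i := by
      rw [mem_ptStab]
      change (swap j u * swap j v) i = i
      rw [Perm.mul_apply, swap_apply_of_ne_of_ne hij hv.symm, swap_apply_of_ne_of_ne hij hu.symm]
    have := h hmem
    rw [mem_ptStab] at this
    change (swap j u * swap j v) j = j at this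
    rw [Perm.mul_apply, swap_apply_left, swap_apply_of_ne_of_ne hvj huv.symm] at this
    exact hvj this
  by_cases haj : a = j
  · exact key b c hb hc (fun h => hab (haj.trans h.symm)) (fun h => hac (haj.trans h.symm)) hbc
  · by_cases hbj : b = j
    · exact key a c ha hc haj (fun h => hbc (hbj.trans h.symm)) hac
    · exact key a b ha hb haj hbj hab

theorem conj_mem_ptStab {i : Fin n} (g s : alternatingGroup (Fin n)) (hs : s ∈ ptStab n i) :
    g * s * g⁻¹ ∈ ptStab n ((g : Perm (Fin n)) i) := by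
  rw [mem_ptStab] at hs ⊢
  change ((g : Perm (Fin n)) * (s : Perm (Fin n)) * (g : Perm (Fin n))⁻¹) ((g : Perm (Fin n)) i) = _
  rw [Perm.mul_apply, Perm.mul_apply, show (g : Perm (Fin n))⁻¹ ((g : Perm (Fin n)) i) = i from
    Equiv.Perm.inv_eq_iff_eq.mpr rfl, hs]

theorem conjNormal_surjective (hn : 4 ≤ n) (h6 : n ≠ 6)
    (φ : alternatingGroup (Fin n) ≃* alternatingGroup (Fin n)) :
    ∃ σ : Perm (Fin n), MulAut.conjNormal σ = φ := by
  classical
  choose σ hσ using exists_fixed_point hn h6 φ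
  choose τ hτ using exists_fixed_point hn h6 φ.symm
  have hσ' : ∀ i, ∀ g ∈ ptStab n i, φ g ∈ ptStab n (σ i) := fun i g hg => mem_ptStab.mpr (hσ i g hg)
  have hτ' : ∀ j, ∀ g ∈ ptStab n j, φ.symm g ∈ ptStab n (τ j) :=
    fun j g hg => mem_ptStab.mpr (hτ j g hg)
  have hτσ : ∀ i, τ (σ i) = i := by
    intro i
    symm
    apply eq_of_ptStab_le hn
    intro g hg
    have := hτ' _ _ (hσ' i g hg)
    rwa [MulEquiv.symm_apply_apply] at this
  have hστ : ∀ j, σ (τ j) = j := by
    intro j
    symm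
    apply eq_of_ptStab_le hn
    intro g hg
    have := hσ' _ _ (hτ' j g hg)
    rwa [MulEquiv.apply_symm_apply] at this
  let σp : Perm (Fin n) := ⟨σ, τ, hτσ, hστ⟩
  have key : ∀ (g : alternatingGroup (Fin n)) (i : Fin n),
      ((φ g : alternatingGroup (Fin n)) : Perm (Fin n)) (σ i) = σ ((g : Perm (Fin n)) i) := by
    intro g i
    set j' := ((φ g : alternatingGroup (Fin n)) : Perm (Fin n))⁻¹ (σ ((g : Perm (Fin n)) i)) with hj'
    have hle : ptStab n (σ i) ≤ ptStab n j' := by
      intro u hu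
      have hs : φ.symm u ∈ ptStab n i := by
        have := hτ' _ _ hu
        rwa [hτσ] at this
      have h1 := hσ' _ _ (conj_mem_ptStab g (φ.symm u) hs)
      rw [map_mul, map_mul, MulEquiv.apply_symm_apply, map_inv] at h1
      rw [mem_ptStab] at h1 ⊢
      change (((φ g : alternatingGroup (Fin n)) : Perm (Fin n)) * (u : Perm (Fin n)) *
        ((φ g : alternatingGroup (Fin n)) : Perm (Fin n))⁻¹) (σ ((g : Perm (Fin n)) i)) = _ at h1
      rw [Perm.mul_apply, Perm.mul_apply, ← hj'] at h1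
      rw [hj']
      apply ((φ g : alternatingGroup (Fin n)) : Perm (Fin n)).injective
      rw [← hj', h1, hj']
      exact (perm_apply_inv_self _ _).symm
    have := eq_of_ptStab_le hn hle
    rw [this, hj']
    exact perm_apply_inv_self _ _
  refine ⟨σp, ?_⟩
  ext g x
  rw [MulAut.conjNormal_apply]
  apply congrArg Fin.val
  change σ ((g : Perm (Fin n)) (σp⁻¹ x)) = _
  rw [← key g (σp⁻¹ x)]
  congr 1
  exact perm_apply_inv_self σp x

theorem conjNormal_injective (hn : 4 ≤ n) :
    Function.Injective (MulAut.conjNormal : Perm (Fin n) →* MulAut (alternatingGroup (Fin n))) := by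
  rw [injective_iff_map_eq_one]
  intro σ hσ
  ext i
  rw [Perm.one_apply]
  symm
  apply congrArg Fin.val
  apply eq_of_ptStab_le hn
  intro g hg
  have h1 : MulAut.conjNormal σ g = g := by rw [hσ]; rfl
  have h2 : ((MulAut.conjNormal σ g : alternatingGroup (Fin n)) : Perm (Fin n)) =
      σ * g * σ⁻¹ := MulAut.conjNormal_apply _ _
  rw [h1] at h2
  rw [mem_ptStab] at hg ⊢
  rw [h2, Perm.mul_apply, Perm.mul_apply, show σ⁻¹ (σ i) = i from Equiv.Perm.inv_eq_iff_eq.mpr rfl, hg]

theorem conjNormal_bijective (hn : 4 ≤ n) (h6 : n ≠ 6) :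
    Function.Bijective (MulAut.conjNormal : Perm (Fin n) →* MulAut (alternatingGroup (Fin n))) :=
  ⟨conjNormal_injective hn, fun φ => conjNormal_surjective hn h6 φ⟩

end Cfsg.Agent.H7AutAlt
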