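import Mathlib
import Cfsg.Prelude
import Cfsg.Agent.Lib.Helper7_NPC
import Cfsg.Agent.Lib.Helper7_Basic
import Cfsg.Agent.Lib.Helper7_Conj
import Cfsg.Agent.Lib.Helper7_ClassSize

set_option autoImplicit false

/-! If every `p'`-element has a conjugacy class of size prime to `p`, then the Sylow `p`-subgroup
is a direct factor. -/

namespace Cfsg.Agent.Lib.Helper7_DirectFactor

open Subgroup Cfsg.Agent.Lib.Helper7_NPC Cfsg.Agent.Lib.Helper7_Basic
open scoped Pointwise

variable {G : Type*} [Group G] [Finite G] {p : ℕ} [Fact p.Prime]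

/-- a centralizer of `p'`-index contains a Sylow `p`-subgroup of `G` through any of its
`p`-elements. -/
theorem exists_sylow_le_centralizer (b : G) (hb : ¬ p ∣ (centralizer ({b} : Set G)).index)
    (a : G) (ha : a ∈ centralizer ({b} : Set G)) (hao : ∃ k : ℕ, orderOf a = p ^ k) :
    ∃ S : Sylow p G, (S : Subgroup G) ≤ centralizer ({b} : Set G) ∧ a ∈ S := by
  set C : Subgroup G := centralizer ({b} : Set G) with hC
  obtain ⟨k, hk⟩ := hao
  obtain ⟨S₀, hS₀⟩ := pElement_mem_sylow (p := p) (⟨a, ha⟩ : C)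
    ⟨k, by rw [← hk]; exact Subgroup.orderOf_mk a ha⟩
  have hfac : (Nat.card G).factorization p = (Nat.card C).factorization p := by
    rw [← C.card_mul_index, Nat.factorization_mul Nat.card_pos.ne' index_ne_zero_of_finite]
    simp [Nat.factorization_eq_zero_of_not_dvd hb]
  have hcard : Nat.card ((S₀ : Subgroup C).map C.subtype) = p ^ (Nat.card G).factorization p := by
    rw [card_map_of_injective (subtype_injective C), Sylow.card_eq_multiplicity, hfac]
  refine ⟨Sylow.ofCard _ hcard, ?_, ?_⟩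
  · rw [Sylow.coe_ofCard]
    exact map_subtype_le _
  · show a ∈ ((Sylow.ofCard _ hcard : Sylow p G) : Subgroup G)
    rw [Sylow.coe_ofCard]
    exact ⟨⟨a, ha⟩, hS₀, rfl⟩

/-- every element normalizes some Sylow `p`-subgroup. -/
theorem exists_sylow_normalized
    (h : ∀ w : G, (orderOf w).Coprime p → ¬ p ∣ (centralizer ({w} : Set G)).index) (g : G) :
    ∃ S : Sylow p G, g ∈ normalizer ((S : Subgroup G) : Set G) := by
  obtain ⟨a, b, ha, hb, hab, hao, hbo, -, -⟩ :=
    Cfsg.Agent.Lib.Helper7_ClassSize.exists_parts g (isOfFinOrder_of_finite g) p Fact.out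
  have hcomm : a * b = b * a := by
    obtain ⟨i, rfl⟩ := Subgroup.mem_zpowers_iff.mp ha
    obtain ⟨j, rfl⟩ := Subgroup.mem_zpowers_iff.mp hb
    rw [← zpow_add, ← zpow_add, add_comm]
  have haC : a ∈ centralizer ({b} : Set G) := mem_centralizer_singleton_iff.mpr hcomm
  obtain ⟨S, hSC, haS⟩ := exists_sylow_le_centralizer b (h b hbo) a haC hao
  refine ⟨S, ?_⟩
  rw [hab]
  apply mul_mem (le_normalizer haS)
  apply (centralizer_le_normalizer ((S : Subgroup G) : Set G))
  rw [mem_centralizer_iff]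
  intro s hs
  have := hSC hs
  rw [mem_centralizer_singleton_iff] at this
  exact this

theorem sylow_normal
    (h : ∀ w : G, (orderOf w).Coprime p → ¬ p ∣ (centralizer ({w} : Set G)).index)
    (P : Sylow p G) : (P : Subgroup G).Normal := by
  rw [← normalizer_eq_top_iff]
  by_contra hM
  obtain ⟨g, hg⟩ := Cfsg.Agent.Lib.Helper7_Conj.exists_not_mem_conj _ hM
  obtain ⟨S, hS⟩ := exists_sylow_normalized h g
  obtain ⟨t, ht⟩ := MulAction.exists_smul_eq G P S
  apply hg t
  rw [Subgroup.mem_pointwise_smul_iff_inv_smul_mem]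
  have h1 : g • S = S := Sylow.smul_eq_iff_mem_normalizer.mpr hS
  rw [← ht, ← mul_smul] at h1
  have h2 : (t⁻¹ * (g * t)) • P = P := by rw [mul_smul, h1, inv_smul_smul]
  have h3 := Sylow.smul_eq_iff_mem_normalizer.mp h2
  have e : (MulAut.conj t)⁻¹ • g = t⁻¹ * (g * t) := by
    rw [MulAut.smul_def, MulAut.conj_inv_apply]; group
  rw [e]
  exact h3

theorem mem_centralizer_sylow
    (h : ∀ w : G, (orderOf w).Coprime p → ¬ p ∣ (centralizer ({w} : Set G)).index)
    (P : Sylow p G) (w : G) (hw : (orderOf w).Coprime p) :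
    w ∈ centralizer ((P : Subgroup G) : Set G) := by
  haveI := sylow_normal h P
  obtain ⟨S, hSC, -⟩ := exists_sylow_le_centralizer w (h w hw) 1 (one_mem _) ⟨0, by simp⟩
  obtain ⟨t, ht⟩ := MulAction.exists_smul_eq G P S
  rw [Sylow.smul_eq_of_normal] at ht
  rw [← ht] at hSC
  rw [mem_centralizer_iff]
  intro s hs
  have := hSC hs
  rw [mem_centralizer_singleton_iff] at this
  exact this

theorem npc
    (h : ∀ w : G, (orderOf w).Coprime p → ¬ p ∣ (centralizer ({w} : Set G)).index) :
    NPC p G := by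
  apply npc_of_frobHyp
  intro D hD g _ hcop
  obtain ⟨P, hDP⟩ := hD.exists_le_sylow
  exact Subgroup.centralizer_le hDP (mem_centralizer_sylow h P g hcop)

end Cfsg.Agent.Lib.Helper7_DirectFactor
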