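import Mathlib

set_option autoImplicit false

/-!
# Eigen-decomposition for an elementary abelian 2-group acting on a nilpotent group of odd order
(helper7)

Inside a finite group `G`: `A` is a subgroup which is commutative with all squares trivial
(hypotheses `hc`, `hs`), acting by conjugation.
-/

namespace Cfsg.Agent.Lib.Helper7_Eigen

variable {G : Type*} [Group G]

/-- a subgroup closed under inverses normalizes `H` as soon as it maps `H` into `H` -/
theorem le_normalizer_of_conj_mem (A H : Subgroup G)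
    (h : ∀ a ∈ A, ∀ x ∈ H, a * x * a⁻¹ ∈ H) : A ≤ Subgroup.normalizer (H : Set G) := by
  intro a ha
  rw [Subgroup.mem_normalizer_iff]
  intro x
  constructor
  · exact h a ha x
  · intro hx
    have := h a⁻¹ (A.inv_mem ha) _ hx
    simpa [mul_assoc] using this

theorem conj_mem_of_le_normalizer {A H : Subgroup G} (h : A ≤ Subgroup.normalizer (H : Set G))
    {a x : G} (ha : a ∈ A) (hx : x ∈ H) : a * x * a⁻¹ ∈ H :=
  (Subgroup.mem_normalizer_iff.mp (h ha) x).mp hx

section EC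

variable [Finite G]

/-- **Eigen-coset lemma.** `B ≤ D`, `D` normalizes `B`, `[D,D] ≤ B`, `D ≰ B`; the 2-torus `A`
normalizes `B` and `D`.  Then some `d ∈ D \ B` is an `A`-eigen-element modulo `B`. -/
theorem exists_eigen_coset (A B D : Subgroup G)
    (hc : ∀ a ∈ A, ∀ b ∈ A, a * b = b * a) (hs : ∀ a ∈ A, a * a = 1)
    (hBD : B ≤ D) (hne : ¬ D ≤ B) (hBn : D ≤ Subgroup.normalizer (B : Set G))
    (hDD : ∀ x ∈ D, ∀ y ∈ D, x * y * x⁻¹ * y⁻¹ ∈ B)
    (hAB : A ≤ Subgroup.normalizer (B : Set G)) (hAD : A ≤ Subgroup.normalizer (D : Set G)) :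
    ∃ d ∈ D, d ∉ B ∧ ∀ a ∈ A, (a * d * a⁻¹ * d⁻¹ ∈ B ∨ a * d * a⁻¹ * d ∈ B) := by
  classical
  obtain ⟨M, hMD', hMmin⟩ := (Set.toFinite {M : Subgroup G | B ≤ M ∧ M ≤ D ∧ ¬ M ≤ B ∧
      A ≤ Subgroup.normalizer (M : Set G)}).exists_le_minimal (a := D) ⟨hBD, le_rfl, hne, hAD⟩
  obtain ⟨hBM, hMD, hMB, hAM⟩ := hMmin.prop
  have hMn : M ≤ Subgroup.normalizer (B : Set G) := hMD.trans hBn
  have hinv : ∀ a ∈ A, a⁻¹ = a := fun a ha => inv_eq_of_mul_eq_one_left (hs a ha)
  have key : ∀ a ∈ A, (∀ m ∈ M, a * m * a⁻¹ * m⁻¹ ∈ B) ∨ (∀ m ∈ M, a * m * a⁻¹ * m ∈ B) := by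
    intro a ha
    -- the two eigen-subgroups
    let Mp : Subgroup G :=
      { carrier := {m | m ∈ M ∧ a * m * a⁻¹ * m⁻¹ ∈ B}
        one_mem' := ⟨M.one_mem, by simp⟩
        mul_mem' := by
          rintro m m' ⟨hm, h1⟩ ⟨hm', h2⟩
          refine ⟨M.mul_mem hm hm', ?_⟩
          have h3 : m * (a * m' * a⁻¹ * m'⁻¹) * m⁻¹ ∈ B := conj_mem_of_le_normalizer hMn hm h2
          have : a * (m * m') * a⁻¹ * (m * m')⁻¹ =
              (a * m * a⁻¹ * m⁻¹) * (m * (a * m' * a⁻¹ * m'⁻¹) * m⁻¹) := by group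
          rw [this]
          exact B.mul_mem h1 h3
        inv_mem' := by
          rintro m ⟨hm, h1⟩
          refine ⟨M.inv_mem hm, ?_⟩
          have h3 : m⁻¹ * (a * m * a⁻¹ * m⁻¹)⁻¹ * m⁻¹⁻¹ ∈ B :=
            conj_mem_of_le_normalizer hMn (M.inv_mem hm) (B.inv_mem h1)
          have : a * m⁻¹ * a⁻¹ * m⁻¹⁻¹ = m⁻¹ * (a * m * a⁻¹ * m⁻¹)⁻¹ * m⁻¹⁻¹ := by group
          rw [this]
          exact h3 }
    let Mm : Subgroup G :=
      { carrier := {m | m ∈ M ∧ a * m * a⁻¹ * m ∈ B}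
        one_mem' := ⟨M.one_mem, by simp⟩
        mul_mem' := by
          rintro m m' ⟨hm, h1⟩ ⟨hm', h2⟩
          refine ⟨M.mul_mem hm hm', ?_⟩
          have h3 : m⁻¹ * (a * m' * a⁻¹ * m') * m⁻¹⁻¹ ∈ B :=
            conj_mem_of_le_normalizer hMn (M.inv_mem hm) h2
          have h4 : m⁻¹ * m'⁻¹ * m⁻¹⁻¹ * m'⁻¹⁻¹ ∈ B :=
            hDD _ (hMD (M.inv_mem hm)) _ (hMD (M.inv_mem hm'))
          have : a * (m * m') * a⁻¹ * (m * m') =
              (a * m * a⁻¹ * m) * (m⁻¹ * (a * m' * a⁻¹ * m') * m⁻¹⁻¹) *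
                (m⁻¹ * m'⁻¹ * m⁻¹⁻¹ * m'⁻¹⁻¹) := by group
          rw [this]
          exact B.mul_mem (B.mul_mem h1 h3) h4
        inv_mem' := by
          rintro m ⟨hm, h1⟩
          refine ⟨M.inv_mem hm, ?_⟩
          have h3 : m * (a * m * a⁻¹ * m)⁻¹ * m⁻¹ ∈ B :=
            conj_mem_of_le_normalizer hMn hm (B.inv_mem h1)
          have : a * m⁻¹ * a⁻¹ * m⁻¹ = m * (a * m * a⁻¹ * m)⁻¹ * m⁻¹ := by group
          rw [this]
          exact h3 }
    have hMpM : Mp ≤ M := fun m hm => hm.1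
    have hMmM : Mm ≤ M := fun m hm => hm.1
    have hBMp : B ≤ Mp := by
      intro b hb
      refine ⟨hBM hb, ?_⟩
      exact B.mul_mem (conj_mem_of_le_normalizer hAB ha hb) (B.inv_mem hb)
    have hBMm : B ≤ Mm := by
      intro b hb
      refine ⟨hBM hb, ?_⟩
      exact B.mul_mem (conj_mem_of_le_normalizer hAB ha hb) hb
    have hAMp : A ≤ Subgroup.normalizer (Mp : Set G) := by
      apply le_normalizer_of_conj_mem
      rintro c hc' m ⟨hm, h1⟩
      refine ⟨conj_mem_of_le_normalizer hAM hc' hm, ?_⟩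
      have h2 : c * (a * m * a⁻¹ * m⁻¹) * c⁻¹ ∈ B := conj_mem_of_le_normalizer hAB hc' h1
      have hac : a * c = c * a := hc a ha c hc'
      have : a * (c * m * c⁻¹) * a⁻¹ * (c * m * c⁻¹)⁻¹ = c * (a * m * a⁻¹ * m⁻¹) * c⁻¹ := by
        have e1 : a * (c * m * c⁻¹) * a⁻¹ = c * (a * m * a⁻¹) * c⁻¹ := by
          calc a * (c * m * c⁻¹) * a⁻¹ = (a * c) * m * (a * c)⁻¹ := by group
            _ = (c * a) * m * (c * a)⁻¹ := by rw [hac]
            _ = c * (a * m * a⁻¹) * c⁻¹ := by group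
        rw [e1]; group
      rw [this]
      exact h2
    have hAMm : A ≤ Subgroup.normalizer (Mm : Set G) := by
      apply le_normalizer_of_conj_mem
      rintro c hc' m ⟨hm, h1⟩
      refine ⟨conj_mem_of_le_normalizer hAM hc' hm, ?_⟩
      have h2 : c * (a * m * a⁻¹ * m) * c⁻¹ ∈ B := conj_mem_of_le_normalizer hAB hc' h1
      have hac : a * c = c * a := hc a ha c hc'
      have : a * (c * m * c⁻¹) * a⁻¹ * (c * m * c⁻¹) = c * (a * m * a⁻¹ * m) * c⁻¹ := by
        have e1 : a * (c * m * c⁻¹) * a⁻¹ = c * (a * m * a⁻¹) * c⁻¹ := by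
          calc a * (c * m * c⁻¹) * a⁻¹ = (a * c) * m * (a * c)⁻¹ := by group
            _ = (c * a) * m * (c * a)⁻¹ := by rw [hac]
            _ = c * (a * m * a⁻¹) * c⁻¹ := by group
        rw [e1]; group
      rw [this]
      exact h2
    have hp : Mp ≤ B ∨ M ≤ Mp := by
      by_cases h : Mp ≤ B
      · left; exact h
      · right; exact hMmin.le_of_le ⟨hBMp, hMpM.trans hMD, h, hAMp⟩ hMpM
    have hm : Mm ≤ B ∨ M ≤ Mm := by
      by_cases h : Mm ≤ B
      · left; exact h
      · right; exact hMmin.le_of_le ⟨hBMm, hMmM.trans hMD, h, hAMm⟩ hMmM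
    rcases hp with hp | hp
    · rcases hm with hm | hm
      · exfalso
        apply hMB
        intro m hmM
        have hama : a * m * a⁻¹ ∈ M := conj_mem_of_le_normalizer hAM ha hmM
        have hu : m * (a * m * a⁻¹) ∈ Mp := by
          refine ⟨M.mul_mem hmM hama, ?_⟩
          have h5 : (a * m * a⁻¹) * m * (a * m * a⁻¹)⁻¹ * m⁻¹ ∈ B := hDD _ (hMD hama) _ (hMD hmM)
          have haa : a * a = 1 := hs a ha
          have : a * (m * (a * m * a⁻¹)) * a⁻¹ * (m * (a * m * a⁻¹))⁻¹ =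
              (a * m * a⁻¹) * m * (a * m * a⁻¹)⁻¹ * m⁻¹ := by
            have e2 : a * (m * (a * m * a⁻¹)) * a⁻¹ = (a * m * a⁻¹) * ((a * a) * m * (a * a)⁻¹) := by
              group
            rw [e2, haa]; group
          rw [this]
          exact h5
        have h6 : m * (a * m * a⁻¹) ∈ B := hp hu
        have h7 : m ∈ Mm := by
          refine ⟨hmM, ?_⟩
          have h8 : m⁻¹ * (m * (a * m * a⁻¹)) * m⁻¹⁻¹ ∈ B :=
            conj_mem_of_le_normalizer hMn (M.inv_mem hmM) h6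
          have : a * m * a⁻¹ * m = m⁻¹ * (m * (a * m * a⁻¹)) * m⁻¹⁻¹ := by group
          rw [this]
          exact h8
        exact hm h7
      · right
        intro m hmM
        exact (hm hmM).2
    · left
      intro m hmM
      exact (hp hmM).2
  obtain ⟨d, hdM, hdB⟩ := Set.not_subset.mp hMB
  refine ⟨d, hMD hdM, hdB, fun a ha => ?_⟩
  rcases key a ha with h | h
  · left; exact h d hdM
  · right; exact h d hdM

end EC


section Eig

variable [Finite G]

theorem conj_pow_eq (a d : G) (k : ℕ) : a * d ^ k * a⁻¹ = (a * d * a⁻¹) ^ k := by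
  induction k with
  | zero => simp
  | succ k ih => rw [pow_succ, pow_succ, ← ih]; group

/-- an `A`-eigen-element of prime order in a nontrivial abelian `A`-invariant subgroup -/
theorem exists_eigen_prime (A W : Subgroup G)
    (hc : ∀ a ∈ A, ∀ b ∈ A, a * b = b * a) (hs : ∀ a ∈ A, a * a = 1)
    (hW : ∀ x ∈ W, ∀ y ∈ W, x * y = y * x) (hW1 : W ≠ ⊥)
    (hAW : A ≤ Subgroup.normalizer (W : Set G)) :
    ∃ x ∈ W, (orderOf x).Prime ∧ ∀ a ∈ A, (a * x * a⁻¹ = x ∨ a * x * a⁻¹ = x⁻¹) := by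
  have hbn : ∀ (K : Subgroup G), K ≤ Subgroup.normalizer ((⊥ : Subgroup G) : Set G) := by
    intro K
    apply le_normalizer_of_conj_mem
    intro a _ x hx
    rw [Subgroup.mem_bot] at hx ⊢
    rw [hx]; group
  obtain ⟨d, hdW, hd1, hd⟩ := exists_eigen_coset A ⊥ W hc hs bot_le
    (fun h => hW1 (le_bot_iff.mp h))
    (hbn W)
    (by
      intro x hx y hy
      rw [Subgroup.mem_bot, hW x hx y hy]; group)
    (hbn A)
    hAW
  rw [Subgroup.mem_bot] at hd1
  have hod : orderOf d ≠ 1 := fun h => hd1 (orderOf_eq_one_iff.mp h)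
  have hod0 : orderOf d ≠ 0 := (orderOf_pos d).ne'
  have hp : (orderOf d).minFac.Prime := Nat.minFac_prime hod
  refine ⟨d ^ (orderOf d / (orderOf d).minFac), W.pow_mem hdW _, ?_, ?_⟩
  · rw [orderOf_pow_orderOf_div hod0 (Nat.minFac_dvd _)]
    exact hp
  · intro a ha
    rw [conj_pow_eq]
    rcases hd a ha with h | h
    · left
      rw [Subgroup.mem_bot] at h
      have : a * d * a⁻¹ = d := by
        have := mul_inv_eq_one.mp h
        exact this
      rw [this]
    · right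
      rw [Subgroup.mem_bot] at h
      have : a * d * a⁻¹ = d⁻¹ := eq_inv_of_mul_eq_one_left h
      rw [this, inv_pow]

/-- **Lemma E.** `B` abelian without involutions, normalized by the 2-torus `A`; `j ∈ A` does
not centralize `u ∈ B`.  Then some `A`-eigen-element `x ∈ B` of prime order is inverted (and not
centralized) by `j`. -/
theorem exists_inverted_eigen (A B : Subgroup G)
    (hc : ∀ a ∈ A, ∀ b ∈ A, a * b = b * a) (hs : ∀ a ∈ A, a * a = 1)
    (hB : ∀ x ∈ B, ∀ y ∈ B, x * y = y * x) (hB2 : ∀ x ∈ B, x * x = 1 → x = 1)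
    (hAB : A ≤ Subgroup.normalizer (B : Set G))
    (j : G) (hj : j ∈ A) (u : G) (hu : u ∈ B) (hju : j * u ≠ u * j) :
    ∃ x ∈ B, (orderOf x).Prime ∧ j * x * j⁻¹ = x⁻¹ ∧ j * x ≠ x * j ∧
      ∀ a ∈ A, (a * x * a⁻¹ = x ∨ a * x * a⁻¹ = x⁻¹) := by
  have hjj : j * j = 1 := hs j hj
  have hjinv : j⁻¹ = j := inv_eq_of_mul_eq_one_left hjj
  let W : Subgroup G :=
    { carrier := {w | w ∈ B ∧ j * w * j⁻¹ = w⁻¹}
      one_mem' := ⟨B.one_mem, by simp⟩
      mul_mem' := by
        rintro w w' ⟨hw, h1⟩ ⟨hw', h2⟩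
        refine ⟨B.mul_mem hw hw', ?_⟩
        have : j * (w * w') * j⁻¹ = (j * w * j⁻¹) * (j * w' * j⁻¹) := by group
        rw [this, h1, h2, mul_inv_rev]
        exact hB _ (B.inv_mem hw) _ (B.inv_mem hw')
      inv_mem' := by
        rintro w ⟨hw, h1⟩
        refine ⟨B.inv_mem hw, ?_⟩
        have : j * w⁻¹ * j⁻¹ = (j * w * j⁻¹)⁻¹ := by group
        rw [this, h1] }
  have hWB : W ≤ B := fun w hw => hw.1
  have hjuB : j * u * j⁻¹ ∈ B := conj_mem_of_le_normalizer hAB hj hu
  have hw0 : u⁻¹ * (j * u * j⁻¹) ∈ W := by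
    refine ⟨B.mul_mem (B.inv_mem hu) hjuB, ?_⟩
    have e1 : j * (u⁻¹ * (j * u * j⁻¹)) * j⁻¹ = (j * u * j⁻¹)⁻¹ * ((j * j) * u * (j * j)⁻¹) := by
      group
    rw [e1, hjj, mul_inv_rev, inv_inv]
    have := hB _ (B.inv_mem hjuB) _ hu
    simpa using this
  have hw1 : u⁻¹ * (j * u * j⁻¹) ≠ 1 := by
    intro h
    apply hju
    have : j * u * j⁻¹ = u := by
      have := inv_mul_eq_one.mp h
      exact this.symm
    calc j * u = (j * u * j⁻¹) * j := by group
      _ = u * j := by rw [this]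
  have hW1 : W ≠ ⊥ := by
    intro h
    rw [h, Subgroup.mem_bot] at hw0
    exact hw1 hw0
  have hAW : A ≤ Subgroup.normalizer (W : Set G) := by
    apply le_normalizer_of_conj_mem
    rintro a ha w ⟨hw, h1⟩
    refine ⟨conj_mem_of_le_normalizer hAB ha hw, ?_⟩
    have hja : j * a = a * j := hc j hj a ha
    have e1 : j * (a * w * a⁻¹) * j⁻¹ = a * (j * w * j⁻¹) * a⁻¹ := by
      calc j * (a * w * a⁻¹) * j⁻¹ = (j * a) * w * (j * a)⁻¹ := by group
        _ = (a * j) * w * (a * j)⁻¹ := by rw [hja]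
        _ = a * (j * w * j⁻¹) * a⁻¹ := by group
    rw [e1, h1]; group
  obtain ⟨x, hxW, hxp, hx⟩ := exists_eigen_prime A W hc hs
    (fun x hx y hy => hB x (hWB hx) y (hWB hy)) hW1 hAW
  refine ⟨x, hWB hxW, hxp, hxW.2, ?_, hx⟩
  intro h
  have h1 : j * x * j⁻¹ = x := by rw [h]; group
  have h2 : x⁻¹ = x := by rw [← hxW.2, h1]
  have h3 : x * x = 1 := by
    calc x * x = x⁻¹ * x := by rw [h2]
      _ = 1 := by group
  have h4 : x = 1 := hB2 x (hWB hxW) h3
  rw [h4, orderOf_one] at hxp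
  exact Nat.not_prime_one hxp

omit [Finite G] in
/-- the centralizer of a non-centralized eigen-element has index 2 -/
theorem card_inf_centralizer (A' : Subgroup G) (x j : G) (hj : j ∈ A')
    (hjx : j * x * j⁻¹ = x⁻¹) (hjx' : j * x ≠ x * j)
    (he : ∀ a ∈ A', (a * x * a⁻¹ = x ∨ a * x * a⁻¹ = x⁻¹)) :
    Nat.card A' = Nat.card (A' ⊓ Subgroup.centralizer {x} : Subgroup G) * 2 := by
  have hmem : ∀ g : G, g ∈ Subgroup.centralizer ({x} : Set G) ↔ g * x * g⁻¹ = x := by
    intro g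
    rw [Subgroup.mem_centralizer_iff]
    constructor
    · intro h
      have := h x rfl
      rw [← this]; group
    · intro h y hy
      rw [Set.mem_singleton_iff] at hy
      subst hy
      calc y * g = (g * y * g⁻¹) * g := by rw [h]
        _ = g * y := by group
  have hidx : ((A' ⊓ Subgroup.centralizer {x} : Subgroup G).subgroupOf A').index = 2 := by
    rw [Subgroup.index_eq_two_iff_exists_notMem_and]
    refine ⟨⟨j, hj⟩, ?_, ?_⟩
    · rw [Subgroup.mem_subgroupOf]
      intro h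
      have := (hmem j).mp h.2
      apply hjx'
      calc j * x = (j * x * j⁻¹) * j := by group
        _ = x * j := by rw [this]
    · rintro ⟨b, hb⟩
      rw [Subgroup.mem_subgroupOf, Subgroup.mem_subgroupOf]
      rcases he b hb with h | h
      · right
        exact ⟨hb, (hmem b).mpr h⟩
      · left
        refine ⟨A'.mul_mem hb hj, ?_⟩
        show b * j ∈ Subgroup.centralizer ({x} : Set G)
        rw [hmem]
        have : b * j * x * (b * j)⁻¹ = b * (j * x * j⁻¹) * b⁻¹ := by group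
        rw [this, hjx]
        have : b * x⁻¹ * b⁻¹ = (b * x * b⁻¹)⁻¹ := by group
        rw [this, h, inv_inv]
  have h1 := Subgroup.card_mul_index ((A' ⊓ Subgroup.centralizer {x} : Subgroup G).subgroupOf A')
  rw [hidx, Nat.card_congr (Subgroup.subgroupOfEquivOfLe
    (inf_le_left : A' ⊓ Subgroup.centralizer {x} ≤ A')).toEquiv] at h1
  exact h1.symm

/-- **Step II.** an eigen-family detecting every element of `A'` -/
theorem exists_eigen_family (A B : Subgroup G)
    (hc : ∀ a ∈ A, ∀ b ∈ A, a * b = b * a) (hs : ∀ a ∈ A, a * a = 1)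
    (hB : ∀ x ∈ B, ∀ y ∈ B, x * y = y * x) (hB2 : ∀ x ∈ B, x * x = 1 → x = 1)
    (hAB : A ≤ Subgroup.normalizer (B : Set G)) :
    ∀ (d : ℕ) (A' : Subgroup G), A' ≤ A → Nat.card A' = 2 ^ d →
      (∀ a ∈ A', (∀ b ∈ B, a * b = b * a) → a = 1) →
      ∃ x : Fin d → G, (∀ i, x i ∈ B ∧ (orderOf (x i)).Prime ∧
          ∀ a ∈ A, (a * x i * a⁻¹ = x i ∨ a * x i * a⁻¹ = (x i)⁻¹)) ∧
        ∀ a ∈ A', (∀ i, a * x i = x i * a) → a = 1 := by
  intro d
  induction d with
  | zero =>
    intro A' _ hcard _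
    refine ⟨Fin.elim0, fun i => i.elim0, ?_⟩
    intro a ha _
    rw [pow_zero] at hcard
    have := Subgroup.eq_bot_of_card_eq A' hcard
    rw [this, Subgroup.mem_bot] at ha
    exact ha
  | succ d ih =>
    intro A' hA' hcard hfaith
    have hne : A' ≠ ⊥ := by
      intro h
      rw [h, Subgroup.card_bot] at hcard
      have : 2 ≤ 2 ^ (d + 1) := by
        calc 2 = 2 ^ 1 := by norm_num
          _ ≤ 2 ^ (d + 1) := Nat.pow_le_pow_right (by norm_num) (by omega)
      omega
    obtain ⟨j, hj, hj1⟩ := (A'.bot_or_exists_ne_one).resolve_left hne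
    have : ∃ u ∈ B, (j : G) * u ≠ u * j := by
      by_contra hcon
      apply hj1
      apply hfaith j hj
      intro b hb
      by_contra hne'
      exact hcon ⟨b, hb, hne'⟩
    obtain ⟨u, hu, hju⟩ := this
    obtain ⟨x₀, hx₀B, hx₀p, hjx, hjx', hx₀e⟩ :=
      exists_inverted_eigen A B hc hs hB hB2 hAB j (hA' hj) u hu hju
    have hcard' := card_inf_centralizer A' x₀ j hj hjx hjx' (fun a ha => hx₀e a (hA' ha))
    have hcard'' : Nat.card (A' ⊓ Subgroup.centralizer {x₀} : Subgroup G) = 2 ^ d := by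
      rw [hcard, pow_succ] at hcard'
      omega
    obtain ⟨x', hx', hf'⟩ := ih (A' ⊓ Subgroup.centralizer {x₀}) (inf_le_left.trans hA') hcard''
      (fun a ha => hfaith a ha.1)
    refine ⟨Fin.cons x₀ x', ?_, ?_⟩
    · intro i
      refine Fin.cases ?_ (fun i => ?_) i
      · simp only [Fin.cons_zero]
        exact ⟨hx₀B, hx₀p, hx₀e⟩
      · simp only [Fin.cons_succ]
        exact hx' i
    · intro a ha hall
      apply hf' a
      · refine ⟨ha, ?_⟩
        show a ∈ Subgroup.centralizer ({x₀} : Set G)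
        rw [Subgroup.mem_centralizer_iff]
        intro y hy
        rw [Set.mem_singleton_iff] at hy
        subst hy
        have := hall 0
        simp only [Fin.cons_zero] at this
        exact this.symm
      · intro i
        have := hall i.succ
        simp only [Fin.cons_succ] at this
        exact this

omit [Finite G] in
theorem zpow_units_inj (x : G) (hx : x * x ≠ 1) (e e' : ℤˣ)
    (h : x ^ ((e : ℤˣ) : ℤ) = x ^ ((e' : ℤˣ) : ℤ)) : e = e' := by
  rcases Int.units_eq_one_or e with rfl | rfl <;> rcases Int.units_eq_one_or e' with rfl | rfl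
  · rfl
  · exfalso
    apply hx
    simp only [Units.val_one, zpow_one, Units.val_neg, zpow_neg] at h
    calc x * x = x⁻¹ * x := by rw [← h]
      _ = 1 := by group
  · exfalso
    apply hx
    simp only [Units.val_one, zpow_one, Units.val_neg, zpow_neg] at h
    calc x * x = x⁻¹ * x := by rw [h]
      _ = 1 := by group
  · rfl

/-- **Dual basis.** -/
theorem exists_dual_basis (A : Subgroup G) (d : ℕ) (hcard : Nat.card A = 2 ^ d) (x : Fin d → G)
    (he : ∀ i, ∀ a ∈ A, (a * x i * a⁻¹ = x i ∨ a * x i * a⁻¹ = (x i)⁻¹))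
    (hx2 : ∀ i, x i * x i ≠ 1)
    (hf : ∀ a ∈ A, (∀ i, a * x i = x i * a) → a = 1) :
    ∃ a : Fin d → G, (∀ i, a i ∈ A) ∧ (∀ i, a i * x i * (a i)⁻¹ = (x i)⁻¹) ∧
      (∀ i j, i ≠ j → a i * x j = x j * a i) ∧ (⨆ i, Subgroup.zpowers (a i)) = A := by
  classical
  have hex : ∀ (b : A) (i : Fin d), ∃ e : ℤˣ, (b : G) * x i * (b : G)⁻¹ = x i ^ ((e : ℤˣ) : ℤ) := by
    intro b i
    rcases he i b b.2 with h | h
    · exact ⟨1, by simpa using h⟩
    · exact ⟨-1, by simpa using h⟩
  choose sgn hsgn using hex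
  have hmul : ∀ b c : A, sgn (b * c) = sgn b * sgn c := by
    intro b c
    funext i
    apply zpow_units_inj (x i) (hx2 i)
    rw [← hsgn (b * c) i]
    have : ((b * c : A) : G) * x i * ((b * c : A) : G)⁻¹ =
        (b : G) * ((c : G) * x i * (c : G)⁻¹) * (b : G)⁻¹ := by
      rw [Subgroup.coe_mul]; group
    rw [this, hsgn c i]
    have h2 : ∀ k : ℤ, (b : G) * x i ^ k * (b : G)⁻¹ = ((b : G) * x i * (b : G)⁻¹) ^ k := by
      intro k
      have := (MulAut.conj (b : G)).toMonoidHom.map_zpow (x i) k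
      simpa [MulAut.conj_apply] using this
    rw [h2, hsgn b i, ← zpow_mul, Pi.mul_apply, Units.val_mul]
  let ρ : A →* (Fin d → ℤˣ) := MonoidHom.mk' sgn hmul
  have hρ : ∀ b, ρ b = sgn b := fun b => rfl
  have hinj : Function.Injective ρ := by
    rw [injective_iff_map_eq_one]
    intro b hb
    have : (b : G) = 1 := by
      apply hf b b.2
      intro i
      have h1 := hsgn b i
      have h2 : sgn b i = 1 := by rw [← hρ, hb]; rfl
      rw [h2] at h1
      simp only [Units.val_one, zpow_one] at h1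
      calc (b : G) * x i = ((b : G) * x i * (b : G)⁻¹) * b := by group
        _ = x i * b := by rw [h1]
    exact Subtype.ext this
  have hbij : Function.Bijective ρ := by
    rw [Nat.bijective_iff_injective_and_card]
    refine ⟨hinj, ?_⟩
    rw [hcard, Nat.card_eq_fintype_card, Fintype.card_fun, Fintype.card_units_int, Fintype.card_fin]
  have hsurj := hbij.2
  choose pre hpre using hsurj
  refine ⟨fun i => (pre (Pi.mulSingle i (-1)) : G), fun i => (pre _).2, ?_, ?_, ?_⟩
  · intro i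
    have h1 := hsgn (pre (Pi.mulSingle i (-1))) i
    have h2 : sgn (pre (Pi.mulSingle i (-1))) i = -1 := by
      rw [← hρ, hpre]; simp
    rw [h2] at h1
    simpa using h1
  · intro i j hij
    have h1 := hsgn (pre (Pi.mulSingle i (-1))) j
    have h2 : sgn (pre (Pi.mulSingle i (-1))) j = 1 := by
      rw [← hρ, hpre]
      exact Pi.mulSingle_eq_of_ne (Ne.symm hij) _
    rw [h2] at h1
    simp only [Units.val_one, zpow_one] at h1
    set b := (pre (Pi.mulSingle i (-1)) : G)
    calc b * x j = (b * x j * b⁻¹) * b := by group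
      _ = x j * b := by rw [h1]
  · apply le_antisymm
    · apply iSup_le
      intro i
      rw [Subgroup.zpowers_le]
      exact (pre _).2
    · intro b hb
      set H : Subgroup G := ⨆ i, Subgroup.zpowers ((pre (Pi.mulSingle i (-1)) : A) : G) with hH
      have hHA : ∀ i, pre (Pi.mulSingle i (-1)) ∈ H.subgroupOf A := by
        intro i
        rw [Subgroup.mem_subgroupOf]
        exact (le_iSup (fun i => Subgroup.zpowers ((pre (Pi.mulSingle i (-1)) : A) : G)) i)
          (Subgroup.mem_zpowers _)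
      have hms : ∀ (i : Fin d) (e : ℤˣ), Pi.mulSingle i e ∈ (H.subgroupOf A).map ρ := by
        intro i e
        rcases Int.units_eq_one_or e with rfl | rfl
        · rw [Pi.mulSingle_one]; exact Subgroup.one_mem _
        · exact ⟨_, hHA i, hpre _⟩
      have hall : ∀ f : Fin d → ℤˣ, f ∈ (H.subgroupOf A).map ρ := by
        intro f
        rw [← Finset.univ_prod_mulSingle f]
        exact Subgroup.prod_mem _ (fun i _ => hms i (f i))
      obtain ⟨c, hcH, hcb⟩ := hall (ρ ⟨b, hb⟩)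
      have := hinj hcb
      rw [this] at hcH
      exact Subgroup.mem_subgroupOf.mp hcH

end Eig

end Cfsg.Agent.Lib.Helper7_Eigen
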