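import Mathlib
import Cfsg.Agent.Lib.Helper7_Eigen

set_option autoImplicit false

/-!
# A 2-torus acting faithfully on a nilpotent group without involutions acts faithfully on an
invariant abelian subgroup (helper7)
-/

namespace Cfsg.Agent.Lib.Helper7_Eigen

variable {G : Type*} [Group G]

/-- in a nilpotent subgroup `F`, an `F`-invariant subgroup `C ≤ F` not inside `B` has an element
outside `B` which is central modulo `B` -/
theorem exists_central_mod (F B C : Subgroup G) (hFn : Group.IsNilpotent ↥F) (hCF : C ≤ F)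
    (hFC : F ≤ Subgroup.normalizer (C : Set G)) (hne : ¬ C ≤ B) :
    ∃ x ∈ C, x ∉ B ∧ ∀ f ∈ F, x * f * x⁻¹ * f⁻¹ ∈ B := by
  classical
  obtain ⟨n, hn⟩ := (Subgroup.isNilpotent_iff_lowerCentralSeries F).mp hFn
  have hP : ∃ k, C ⊓ F.lowerCentralSeries k ≤ B := ⟨n, by rw [hn]; simp⟩
  have hm : C ⊓ F.lowerCentralSeries (Nat.find hP) ≤ B := Nat.find_spec hP
  have hm0 : Nat.find hP ≠ 0 := by
    intro h0
    rw [h0, Subgroup.lowerCentralSeries_zero, inf_of_le_left hCF] at hm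
    exact hne hm
  obtain ⟨k, hk⟩ := Nat.exists_eq_succ_of_ne_zero hm0
  have hk' : ¬ C ⊓ F.lowerCentralSeries k ≤ B := Nat.find_min hP (by omega)
  obtain ⟨x, hx, hxB⟩ := Set.not_subset.mp hk'
  refine ⟨x, hx.1, hxB, fun f hf => hm ⟨?_, ?_⟩⟩
  · have : x * f * x⁻¹ * f⁻¹ = x * (f * x⁻¹ * f⁻¹) := by group
    rw [this]
    exact C.mul_mem hx.1 (conj_mem_of_le_normalizer hFC hf (C.inv_mem hx.1))
  · rw [hk]
    show x * f * x⁻¹ * f⁻¹ ∈ F.lowerCentralSeries (k + 1)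
    rw [Subgroup.lowerCentralSeries_succ]
    have := Subgroup.commutator_mem_commutator hx.2 hf
    rwa [commutatorElement_def] at this

theorem le_normalizer_closure (K : Subgroup G) (S : Set G)
    (h : ∀ k ∈ K, ∀ x ∈ S, k * x * k⁻¹ ∈ Subgroup.closure S) :
    K ≤ Subgroup.normalizer ((Subgroup.closure S : Subgroup G) : Set G) := by
  apply le_normalizer_of_conj_mem
  intro k hk x hx
  induction hx using Subgroup.closure_induction with
  | mem x hx => exact h k hk x hx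
  | one => simp
  | mul x y _ _ hx hy =>
    have : k * (x * y) * k⁻¹ = (k * x * k⁻¹) * (k * y * k⁻¹) := by group
    rw [this]; exact mul_mem hx hy
  | inv x _ hx =>
    have : k * x⁻¹ * k⁻¹ = (k * x * k⁻¹)⁻¹ := by group
    rw [this]; exact inv_mem hx

/-- whatever normalizes `F` and `B` normalizes `C_F(B)` -/
theorem le_normalizer_inf_centralizer (K F B : Subgroup G)
    (hKF : K ≤ Subgroup.normalizer (F : Set G)) (hKB : K ≤ Subgroup.normalizer (B : Set G)) :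
    K ≤ Subgroup.normalizer ((F ⊓ Subgroup.centralizer (B : Set G) : Subgroup G) : Set G) := by
  apply le_normalizer_of_conj_mem
  rintro k hk c ⟨hcF, hcB⟩
  refine ⟨conj_mem_of_le_normalizer hKF hk hcF, ?_⟩
  show k * c * k⁻¹ ∈ Subgroup.centralizer (B : Set G)
  have hcB' : c ∈ Subgroup.centralizer (B : Set G) := hcB
  rw [Subgroup.mem_centralizer_iff] at hcB' ⊢
  intro b hb
  have hb' : k⁻¹ * b * k⁻¹⁻¹ ∈ B := conj_mem_of_le_normalizer hKB (K.inv_mem hk) hb
  have h1 := hcB' _ hb'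
  calc b * (k * c * k⁻¹) = k * ((k⁻¹ * b * k⁻¹⁻¹) * c) * k⁻¹ := by group
    _ = k * (c * (k⁻¹ * b * k⁻¹⁻¹)) * k⁻¹ := by rw [h1]
    _ = k * c * k⁻¹ * b := by group

/-- **Step I.** -/
theorem exists_faithful_abelian [Finite G] (A F : Subgroup G)
    (hc : ∀ a ∈ A, ∀ b ∈ A, a * b = b * a) (hs : ∀ a ∈ A, a * a = 1)
    (hFn : Group.IsNilpotent ↥F) (hF2 : ∀ x ∈ F, x * x = 1 → x = 1)
    (hAF : A ≤ Subgroup.normalizer (F : Set G))
    (hfaith : ∀ a ∈ A, (∀ f ∈ F, a * f = f * a) → a = 1) :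
    ∃ B : Subgroup G, B ≤ F ∧ (∀ x ∈ B, ∀ y ∈ B, x * y = y * x) ∧
      A ≤ Subgroup.normalizer (B : Set G) ∧ ∀ a ∈ A, (∀ b ∈ B, a * b = b * a) → a = 1 := by
  classical
  have hbn : ∀ (K : Subgroup G), K ≤ Subgroup.normalizer ((⊥ : Subgroup G) : Set G) := by
    intro K
    apply le_normalizer_of_conj_mem
    intro a _ x hx
    rw [Subgroup.mem_bot] at hx ⊢
    rw [hx]; group
  obtain ⟨B, -, hBmax⟩ := (Set.toFinite {B : Subgroup G | B ≤ F ∧
      (∀ x ∈ B, ∀ y ∈ B, x * y = y * x) ∧ F ≤ Subgroup.normalizer (B : Set G) ∧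
      A ≤ Subgroup.normalizer (B : Set G)}).exists_le_maximal (a := ⊥)
      ⟨bot_le, by
        intro x hx y hy
        rw [Subgroup.mem_bot] at hx hy
        rw [hx, hy], hbn F, hbn A⟩
  obtain ⟨hBF, hBab, hFB, hAB⟩ := hBmax.prop
  have hFF : F ≤ Subgroup.normalizer (F : Set G) := Subgroup.le_normalizer
  have hFC := le_normalizer_inf_centralizer F F B hFF hFB
  have hAC := le_normalizer_inf_centralizer A F B hAF hAB
  have hmemC : ∀ c, c ∈ F ⊓ Subgroup.centralizer (B : Set G) ↔ c ∈ F ∧ ∀ b ∈ B, b * c = c * b := by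
    intro c
    rw [Subgroup.mem_inf, Subgroup.mem_centralizer_iff]
    rfl
  have hBC : B ≤ F ⊓ Subgroup.centralizer (B : Set G) := by
    intro b hb
    rw [hmemC]
    exact ⟨hBF hb, fun b' hb' => hBab b' hb' b hb⟩
  have hCB : F ⊓ Subgroup.centralizer (B : Set G) ≤ B := by
    by_contra hne
    obtain ⟨x₀, hx₀C, hx₀B, hx₀⟩ := exists_central_mod F B _ hFn inf_le_left hFC hne
    let D : Subgroup G :=
      { carrier := {x | x ∈ F ⊓ Subgroup.centralizer (B : Set G) ∧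
          ∀ f ∈ F, x * f * x⁻¹ * f⁻¹ ∈ B}
        one_mem' := ⟨Subgroup.one_mem _, fun f _ => by simp⟩
        mul_mem' := by
          rintro x y ⟨hx, h1⟩ ⟨hy, h2⟩
          refine ⟨Subgroup.mul_mem _ hx hy, fun f hf => ?_⟩
          have h3 : x * (y * f * y⁻¹ * f⁻¹) * x⁻¹ ∈ B :=
            conj_mem_of_le_normalizer hFB hx.1 (h2 f hf)
          have : x * y * f * (x * y)⁻¹ * f⁻¹ =
              (x * (y * f * y⁻¹ * f⁻¹) * x⁻¹) * (x * f * x⁻¹ * f⁻¹) := by group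
          rw [this]
          exact B.mul_mem h3 (h1 f hf)
        inv_mem' := by
          rintro x ⟨hx, h1⟩
          refine ⟨Subgroup.inv_mem _ hx, fun f hf => ?_⟩
          have h3 : x⁻¹ * (x * f * x⁻¹ * f⁻¹)⁻¹ * x⁻¹⁻¹ ∈ B :=
            conj_mem_of_le_normalizer hFB (F.inv_mem hx.1) (B.inv_mem (h1 f hf))
          have : x⁻¹ * f * x⁻¹⁻¹ * f⁻¹ = x⁻¹ * (x * f * x⁻¹ * f⁻¹)⁻¹ * x⁻¹⁻¹ := by group
          rw [this]
          exact h3 }
    have hDC : D ≤ F ⊓ Subgroup.centralizer (B : Set G) := fun x hx => hx.1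
    have hDF : D ≤ F := hDC.trans inf_le_left
    have hBD : B ≤ D := by
      intro b hb
      refine ⟨hBC hb, fun f hf => ?_⟩
      have h3 : f * b⁻¹ * f⁻¹ ∈ B := conj_mem_of_le_normalizer hFB hf (B.inv_mem hb)
      have : b * f * b⁻¹ * f⁻¹ = b * (f * b⁻¹ * f⁻¹) := by group
      rw [this]
      exact B.mul_mem hb h3
    have hDne : ¬ D ≤ B := fun h => hx₀B (h ⟨hx₀C, hx₀⟩)
    have hAD : A ≤ Subgroup.normalizer (D : Set G) := by
      apply le_normalizer_of_conj_mem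
      rintro a ha x ⟨hx, h1⟩
      refine ⟨conj_mem_of_le_normalizer hAC ha hx, fun f hf => ?_⟩
      have hf' : a⁻¹ * f * a⁻¹⁻¹ ∈ F := conj_mem_of_le_normalizer hAF (A.inv_mem ha) hf
      have h3 : a * (x * (a⁻¹ * f * a⁻¹⁻¹) * x⁻¹ * (a⁻¹ * f * a⁻¹⁻¹)⁻¹) * a⁻¹ ∈ B :=
        conj_mem_of_le_normalizer hAB ha (h1 _ hf')
      have : a * x * a⁻¹ * f * (a * x * a⁻¹)⁻¹ * f⁻¹ =
          a * (x * (a⁻¹ * f * a⁻¹⁻¹) * x⁻¹ * (a⁻¹ * f * a⁻¹⁻¹)⁻¹) * a⁻¹ := by group
      rw [this]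
      exact h3
    obtain ⟨d, hdD, hdB, hd⟩ := exists_eigen_coset A B D hc hs hBD hDne (hDF.trans hFB)
      (fun x hx y hy => hx.2 y (hDF hy)) hAB hAD
    -- the bigger abelian subgroup
    have hdC := (hmemC d).mp (hDC hdD)
    have hEab : ∀ x ∈ Subgroup.closure (insert d (B : Set G)),
        ∀ y ∈ Subgroup.closure (insert d (B : Set G)), x * y = y * x := by
      haveI := Subgroup.isMulCommutative_closure (k := insert d (B : Set G)) (by
        intro x hx y hy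
        rcases hx with rfl | hx <;> rcases hy with rfl | hy
        · rfl
        · exact (hdC.2 y hy).symm
        · exact hdC.2 x hx
        · exact hBab x hx y hy)
      intro x hx y hy
      exact setLike_mul_comm hx hy
    have hBE : B ≤ Subgroup.closure (insert d (B : Set G)) := by
      intro b hb
      exact Subgroup.subset_closure (Set.mem_insert_of_mem _ hb)
    have hdE : d ∈ Subgroup.closure (insert d (B : Set G)) :=
      Subgroup.subset_closure (Set.mem_insert _ _)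
    have hEF : Subgroup.closure (insert d (B : Set G)) ≤ F := by
      rw [Subgroup.closure_le]
      intro x hx
      rcases hx with rfl | hx
      · exact hDF hdD
      · exact hBF hx
    have hFE : F ≤ Subgroup.normalizer
        ((Subgroup.closure (insert d (B : Set G)) : Subgroup G) : Set G) := by
      apply le_normalizer_closure
      intro f hf x hx
      rcases hx with rfl | hx
      · have h1 : x * f * x⁻¹ * f⁻¹ ∈ B := hdD.2 f hf
        have : f * x * f⁻¹ = (x * f * x⁻¹ * f⁻¹)⁻¹ * x := by group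
        rw [this]
        exact Subgroup.mul_mem _ (hBE (B.inv_mem h1)) hdE
      · exact hBE (conj_mem_of_le_normalizer hFB hf hx)
    have hAE : A ≤ Subgroup.normalizer
        ((Subgroup.closure (insert d (B : Set G)) : Subgroup G) : Set G) := by
      apply le_normalizer_closure
      intro a ha x hx
      rcases hx with rfl | hx
      · rcases hd a ha with h | h
        · have : a * x * a⁻¹ = (a * x * a⁻¹ * x⁻¹) * x := by group
          rw [this]
          exact Subgroup.mul_mem _ (hBE h) hdE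
        · have : a * x * a⁻¹ = (a * x * a⁻¹ * x) * x⁻¹ := by group
          rw [this]
          exact Subgroup.mul_mem _ (hBE h) (Subgroup.inv_mem _ hdE)
      · exact hBE (conj_mem_of_le_normalizer hAB ha hx)
    exact hdB (hBmax.le_of_ge ⟨hEF, hEab, hFE, hAE⟩ hBE hdE)
  refine ⟨B, hBF, hBab, hAB, ?_⟩
  intro a ha hab
  apply hfaith a ha
  intro f hf
  have haa : a * a = 1 := hs a ha
  have hainv : a⁻¹ = a := inv_eq_of_mul_eq_one_left haa
  have hcF : a * f * a⁻¹ * f⁻¹ ∈ F :=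
    F.mul_mem (conj_mem_of_le_normalizer hAF ha hf) (F.inv_mem hf)
  have hcC : a * f * a⁻¹ * f⁻¹ ∈ F ⊓ Subgroup.centralizer (B : Set G) := by
    rw [hmemC]
    refine ⟨hcF, fun b hb => ?_⟩
    have hb1 : f⁻¹ * b * f⁻¹⁻¹ ∈ B := conj_mem_of_le_normalizer hFB (F.inv_mem hf) hb
    have h1 : a * (f⁻¹ * b * f⁻¹⁻¹) = (f⁻¹ * b * f⁻¹⁻¹) * a := hab _ hb1
    have h2 : a * b = b * a := hab b hb
    have h1' : a⁻¹ * (f⁻¹ * b * f⁻¹⁻¹) = (f⁻¹ * b * f⁻¹⁻¹) * a⁻¹ := by rw [hainv]; exact h1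
    calc b * (a * f * a⁻¹ * f⁻¹) = (b * a) * f * a⁻¹ * f⁻¹ := by group
      _ = (a * b) * f * a⁻¹ * f⁻¹ := by rw [h2]
      _ = a * f * ((f⁻¹ * b * f⁻¹⁻¹) * a⁻¹) * f⁻¹ := by group
      _ = a * f * (a⁻¹ * (f⁻¹ * b * f⁻¹⁻¹)) * f⁻¹ := by rw [h1']
      _ = a * f * a⁻¹ * f⁻¹ * b := by group
  have hcB : a * f * a⁻¹ * f⁻¹ ∈ B := hCB hcC
  have h3 : a * (a * f * a⁻¹ * f⁻¹) = (a * f * a⁻¹ * f⁻¹) * a := hab _ hcB
  have h4 : (a * f * a⁻¹ * f⁻¹) * (a * f * a⁻¹ * f⁻¹) = 1 := by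
    calc (a * f * a⁻¹ * f⁻¹) * (a * f * a⁻¹ * f⁻¹)
        = (a * f * a⁻¹ * f⁻¹) * a * f * a⁻¹ * f⁻¹ := by group
      _ = a * (a * f * a⁻¹ * f⁻¹) * f * a⁻¹ * f⁻¹ := by rw [h3]
      _ = (a * a) * f * a⁻¹ * a⁻¹ * f⁻¹ := by group
      _ = 1 := by rw [haa, hainv]; simp [mul_assoc, haa]
  have h5 := hF2 _ hcF h4
  calc a * f = (a * f * a⁻¹ * f⁻¹) * f * a := by group
    _ = f * a := by rw [h5, one_mul]

end Cfsg.Agent.Lib.Helper7_Eigen
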