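import Mathlib
import Cfsg.Agent.Lib.Helper7_Eigen2
import Cfsg.Agent.Lib.Helper1_Card

set_option autoImplicit false

/-!
# Eigen-basis theorem for a 2-torus acting faithfully on a nilpotent group without involutions
(helper7)
-/

namespace Cfsg.Agent.Lib.Helper7_Eigen

variable {G : Type*} [Group G]

/-- **Eigen-basis theorem.**  `A` elementary abelian of order `2 ^ d` acting faithfully on the
nilpotent subgroup `F` without involutions: there are commuting elements `x i ∈ F` of prime
order, all `A`-eigen, and a dual basis `a i` of `A`. -/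
theorem exists_eigen_basis [Finite G] (A F : Subgroup G)
    (hc : ∀ a ∈ A, ∀ b ∈ A, a * b = b * a) (hs : ∀ a ∈ A, a * a = 1)
    (hFn : Group.IsNilpotent ↥F) (hF2 : ∀ x ∈ F, x * x = 1 → x = 1)
    (hAF : A ≤ Subgroup.normalizer (F : Set G))
    (hfaith : ∀ a ∈ A, (∀ f ∈ F, a * f = f * a) → a = 1)
    (d : ℕ) (hcard : Nat.card A = 2 ^ d) :
    ∃ (x a : Fin d → G),
      (∀ i, x i ∈ F ∧ (orderOf (x i)).Prime) ∧
      (∀ i j, x i * x j = x j * x i) ∧
      (∀ i, ∀ b ∈ A, (b * x i * b⁻¹ = x i ∨ b * x i * b⁻¹ = (x i)⁻¹)) ∧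
      (∀ b ∈ A, (∀ i, b * x i = x i * b) → b = 1) ∧
      (∀ i, a i ∈ A) ∧ (∀ i, a i * x i * (a i)⁻¹ = (x i)⁻¹) ∧
      (∀ i j, i ≠ j → a i * x j = x j * a i) ∧ (⨆ i, Subgroup.zpowers (a i)) = A := by
  obtain ⟨B, hBF, hBab, hAB, hBf⟩ := exists_faithful_abelian A F hc hs hFn hF2 hAF hfaith
  obtain ⟨x, hx, hxf⟩ := exists_eigen_family A B hc hs hBab (fun x hx => hF2 x (hBF hx)) hAB d A
    le_rfl hcard hBf
  have hx2 : ∀ i, x i * x i ≠ 1 := by
    intro i h
    have := hF2 _ (hBF (hx i).1) h
    have hp := (hx i).2.1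
    rw [this, orderOf_one] at hp
    exact Nat.not_prime_one hp
  obtain ⟨a, ha, hinv, hcen, hgen⟩ := exists_dual_basis A d hcard x (fun i => (hx i).2.2) hx2 hxf
  exact ⟨x, a, fun i => ⟨hBF (hx i).1, (hx i).2.1⟩, fun i j => hBab _ (hx i).1 _ (hx j).1,
    fun i => (hx i).2.2, hxf, ha, hinv, hcen, hgen⟩

/-- independence of eigen-elements for a dual basis: the order of the product -/
theorem card_iSup_eigen (d : ℕ) (x a : Fin d → G)
    (hxx : ∀ i j, x i * x j = x j * x i)
    (hx2 : ∀ i, ∀ y ∈ Subgroup.zpowers (x i), y * y = 1 → y = 1)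
    (hinv : ∀ i, a i * x i * (a i)⁻¹ = (x i)⁻¹)
    (hcen : ∀ i j, i ≠ j → a i * x j = x j * a i) :
    Nat.card ↥(⨆ i, Subgroup.zpowers (x i)) = ∏ i, Nat.card ↥(Subgroup.zpowers (x i)) := by
  classical
  have key : ∀ s : Finset (Fin d), Nat.card ↥(⨆ i ∈ s, Subgroup.zpowers (x i)) =
      ∏ i ∈ s, Nat.card ↥(Subgroup.zpowers (x i)) := by
    intro s
    induction s using Finset.induction_on with
    | empty => simp
    | insert j s hj ih =>
      rw [Finset.iSup_insert, Finset.prod_insert hj, ← ih]
      set H : Subgroup G := ⨆ i ∈ s, Subgroup.zpowers (x i) with hH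
      -- H is centralized by x j and a j
      have hHx : H ≤ Subgroup.centralizer ({x j} : Set G) := by
        rw [hH]
        apply iSup₂_le
        intro i _
        rw [Subgroup.zpowers_le, Subgroup.mem_centralizer_iff]
        intro y hy
        rw [Set.mem_singleton_iff] at hy
        subst hy
        exact hxx j i
      have hHa : H ≤ Subgroup.centralizer ({a j} : Set G) := by
        rw [hH]
        apply iSup₂_le
        intro i hi
        rw [Subgroup.zpowers_le, Subgroup.mem_centralizer_iff]
        intro y hy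
        rw [Set.mem_singleton_iff] at hy
        subst hy
        have : j ≠ i := fun h => hj (h ▸ hi)
        exact hcen j i this
      have hKn : Subgroup.zpowers (x j) ≤ Subgroup.normalizer (H : Set G) := by
        rw [Subgroup.zpowers_le]
        rw [Subgroup.mem_normalizer_iff]
        intro h
        have hcomm : ∀ h ∈ H, x j * h * (x j)⁻¹ = h := by
          intro h hh
          have := hHx hh
          rw [Subgroup.mem_centralizer_iff] at this
          have := this (x j) rfl
          calc x j * h * (x j)⁻¹ = h * x j * (x j)⁻¹ := by rw [this]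
            _ = h := by group
        constructor
        · intro hh
          rw [hcomm h hh]; exact hh
        · intro hh
          have := hcomm _ hh
          have h2 : h = (x j)⁻¹ * (x j * h * (x j)⁻¹) * x j := by group
          rw [h2, ← this]
          have h3 : (x j)⁻¹ * (x j * (x j * h * (x j)⁻¹) * (x j)⁻¹) * x j = x j * h * (x j)⁻¹ := by
            group
          rw [h3]; exact hh
      have hinf : Subgroup.zpowers (x j) ⊓ H = ⊥ := by
        rw [eq_bot_iff]
        rintro y ⟨hyK, hyH⟩
        rw [Subgroup.mem_bot]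
        apply hx2 j y hyK
        have h1 : a j * y * (a j)⁻¹ = y⁻¹ := by
          obtain ⟨k, rfl⟩ := Subgroup.mem_zpowers_iff.mp hyK
          have := (MulAut.conj (a j)).toMonoidHom.map_zpow (x j) k
          simp only [MulEquiv.coe_toMonoidHom, MulAut.conj_apply] at this
          rw [this, hinv j, inv_zpow]
        have h2 : a j * y * (a j)⁻¹ = y := by
          have := hHa hyH
          rw [Subgroup.mem_centralizer_iff] at this
          have := this (a j) rfl
          calc a j * y * (a j)⁻¹ = y * a j * (a j)⁻¹ := by rw [this]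
            _ = y := by group
        have h3 : y⁻¹ = y := by rw [← h1, h2]
        calc y * y = y⁻¹ * y := by rw [h3]
          _ = 1 := by group
      have h1 := Cfsg.Agent.Lib.Helper1_Card.card_mul_card_inf (Subgroup.zpowers (x j)) H
      rw [← Subgroup.coe_mul_of_left_le_normalizer_right _ _ hKn, hinf, Subgroup.card_bot,
        mul_one] at h1
      exact h1
  have := key Finset.univ
  simpa using this

end Cfsg.Agent.Lib.Helper7_Eigen
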