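import Mathlib
import Cfsg.Agent.Lib.Helper7_Eigen3
import Cfsg.Agent.Lib.Helper3_Transport
import Cfsg.Agent.Lib.Lead_Fitting
import Cfsg.Agent.S0044

set_option autoImplicit false

/-!
# Eigen-basis theorem for a 2-torus acting faithfully on a solvable group without involutions
(helper7)
-/

namespace Cfsg.Agent.Lib.Helper7_Eigen

variable {G : Type*} [Group G]

/-- an involution centralizing a self-centralizing normal subgroup `B` of `F` (no involutions in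
`F`) and normalizing `F` centralizes `F` -/
theorem centralizes_of_self_centralizing (a : G) (haa : a * a = 1) (F B : Subgroup G)
    (hFB : F ≤ Subgroup.normalizer (B : Set G)) (haF : ∀ f ∈ F, a * f * a⁻¹ ∈ F)
    (hCB : ∀ c ∈ F, (∀ b ∈ B, b * c = c * b) → c ∈ B)
    (hF2 : ∀ x ∈ F, x * x = 1 → x = 1) (hab : ∀ b ∈ B, a * b = b * a) :
    ∀ f ∈ F, a * f = f * a := by
  intro f hf
  have hainv : a⁻¹ = a := inv_eq_of_mul_eq_one_left haa
  have hcF : a * f * a⁻¹ * f⁻¹ ∈ F := F.mul_mem (haF f hf) (F.inv_mem hf)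
  have hcB : a * f * a⁻¹ * f⁻¹ ∈ B := by
    apply hCB _ hcF
    intro b hb
    have hb1 : f⁻¹ * b * f⁻¹⁻¹ ∈ B := conj_mem_of_le_normalizer hFB (F.inv_mem hf) hb
    have h1 : a * (f⁻¹ * b * f⁻¹⁻¹) = (f⁻¹ * b * f⁻¹⁻¹) * a := hab _ hb1
    have h2 : a * b = b * a := hab b hb
    have h1' : a⁻¹ * (f⁻¹ * b * f⁻¹⁻¹) = (f⁻¹ * b * f⁻¹⁻¹) * a⁻¹ := by rw [hainv]; exact h1
    calc b * (a * f * a⁻¹ * f⁻¹) = (b * a) * f * a⁻¹ * f⁻¹ := by group
      _ = (a * b) * f * a⁻¹ * f⁻¹ := by rw [h2]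
      _ = a * f * ((f⁻¹ * b * f⁻¹⁻¹) * a⁻¹) * f⁻¹ := by group
      _ = a * f * (a⁻¹ * (f⁻¹ * b * f⁻¹⁻¹)) * f⁻¹ := by rw [h1']
      _ = a * f * a⁻¹ * f⁻¹ * b := by group
  have h3 : a * (a * f * a⁻¹ * f⁻¹) = (a * f * a⁻¹ * f⁻¹) * a := hab _ hcB
  have h4 : (a * f * a⁻¹ * f⁻¹) * (a * f * a⁻¹ * f⁻¹) = 1 := by
    calc (a * f * a⁻¹ * f⁻¹) * (a * f * a⁻¹ * f⁻¹)
        = (a * f * a⁻¹ * f⁻¹) * a * f * a⁻¹ * f⁻¹ := by group
      _ = a * (a * f * a⁻¹ * f⁻¹) * f * a⁻¹ * f⁻¹ := by rw [h3]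
      _ = (a * a) * f * a⁻¹ * a⁻¹ * f⁻¹ := by group
      _ = 1 := by rw [haa, hainv]; simp [mul_assoc, haa]
  have h5 := hF2 _ hcF h4
  calc a * f = (a * f * a⁻¹ * f⁻¹) * f * a := by group
    _ = f * a := by rw [h5, one_mul]

/-- conjugation by a normalizing element as an automorphism of the subgroup -/
def conjEquivOfMemNormalizer (L : Subgroup G) (a : G)
    (ha : a ∈ Subgroup.normalizer (L : Set G)) : ↥L ≃* ↥L where
  toFun l := ⟨a * l * a⁻¹, (Subgroup.mem_normalizer_iff.mp ha l).mp l.2⟩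
  invFun l := ⟨a⁻¹ * l * a, by
    have := (Subgroup.mem_normalizer_iff.mp (Subgroup.inv_mem _ ha) l).mp l.2
    simpa using this⟩
  left_inv l := by
    apply Subtype.ext
    show a⁻¹ * (a * l * a⁻¹) * a = l
    group
  right_inv l := by
    apply Subtype.ext
    show a * (a⁻¹ * l * a) * a⁻¹ = l
    group
  map_mul' l l' := by
    apply Subtype.ext
    show a * (l * l' : G) * a⁻¹ = (a * l * a⁻¹) * (a * l' * a⁻¹)
    group

/-- **Eigen-basis theorem, solvable version.** -/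
theorem exists_eigen_basis_solvable [Finite G] (A L : Subgroup G)
    (hc : ∀ a ∈ A, ∀ b ∈ A, a * b = b * a) (hs : ∀ a ∈ A, a * a = 1)
    (hLs : Group.IsSolvable ↥L) (hL2 : ∀ x ∈ L, x * x = 1 → x = 1)
    (hAL : A ≤ Subgroup.normalizer (L : Set G))
    (hfaith : ∀ a ∈ A, (∀ f ∈ L, a * f = f * a) → a = 1)
    (d : ℕ) (hcard : Nat.card A = 2 ^ d) :
    ∃ (x a : Fin d → G),
      (∀ i, x i ∈ L ∧ (orderOf (x i)).Prime) ∧
      (∀ i j, x i * x j = x j * x i) ∧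
      (∀ i, ∀ b ∈ A, (b * x i * b⁻¹ = x i ∨ b * x i * b⁻¹ = (x i)⁻¹)) ∧
      (∀ b ∈ A, (∀ i, b * x i = x i * b) → b = 1) ∧
      (∀ i, a i ∈ A) ∧ (∀ i, a i * x i * (a i)⁻¹ = (x i)⁻¹) ∧
      (∀ i j, i ≠ j → a i * x j = x j * a i) ∧ (⨆ i, Subgroup.zpowers (a i)) = A := by
  classical
  have hFLn : Group.IsNilpotent ↥(Cfsg.fittingSubgroup ↥L) := by
    rw [Cfsg.Agent.Lib.Lead_Fitting.fitting_eq]
    exact Cfsg.Agent.Lib.Lead_Fitting.F0_nilpotent ↥L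
  have hFLnorm : (Cfsg.fittingSubgroup ↥L).Normal := Cfsg.Agent.S0044.fitting_normal
  have hFL : (Cfsg.fittingSubgroup ↥L).map L.subtype ≤ L := Subgroup.map_subtype_le _
  have hmemF : ∀ y : G, y ∈ (Cfsg.fittingSubgroup ↥L).map L.subtype ↔
      ∃ h : y ∈ L, (⟨y, h⟩ : ↥L) ∈ Cfsg.fittingSubgroup ↥L := by
    intro y
    constructor
    · rintro ⟨l, hl, rfl⟩
      exact ⟨l.2, hl⟩
    · rintro ⟨h, hy⟩
      exact ⟨⟨y, h⟩, hy, rfl⟩
  have hFn : Group.IsNilpotent ↥((Cfsg.fittingSubgroup ↥L).map L.subtype) := by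
    haveI := hFLn
    exact Group.nilpotent_of_mulEquiv
      ((Cfsg.fittingSubgroup ↥L).equivMapOfInjective L.subtype L.subtype_injective)
  have hF2 : ∀ x ∈ (Cfsg.fittingSubgroup ↥L).map L.subtype, x * x = 1 → x = 1 :=
    fun x hx => hL2 x (hFL hx)
  -- normalizers of L normalize F
  have hNF : ∀ g ∈ Subgroup.normalizer (L : Set G),
      ∀ y ∈ (Cfsg.fittingSubgroup ↥L).map L.subtype,
        g * y * g⁻¹ ∈ (Cfsg.fittingSubgroup ↥L).map L.subtype := by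
    intro g hg y hy
    obtain ⟨hyL, hyF⟩ := (hmemF y).mp hy
    have h1 := Cfsg.Agent.Lib.Helper3_Transport.fitting_map_equiv (conjEquivOfMemNormalizer L g hg)
    have h2 : (conjEquivOfMemNormalizer L g hg) ⟨y, hyL⟩ ∈ Cfsg.fittingSubgroup ↥L := by
      rw [← h1]
      exact ⟨⟨y, hyL⟩, hyF, rfl⟩
    rw [hmemF]
    exact ⟨_, h2⟩
  have hAF : A ≤ Subgroup.normalizer (((Cfsg.fittingSubgroup ↥L).map L.subtype : Subgroup G) : Set G) :=
    le_normalizer_of_conj_mem _ _ (fun a ha y hy => hNF a (hAL ha) y hy)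
  have hLF : L ≤ Subgroup.normalizer (((Cfsg.fittingSubgroup ↥L).map L.subtype : Subgroup G) : Set G) :=
    le_normalizer_of_conj_mem _ _ (fun l hl y hy => hNF l (Subgroup.le_normalizer hl) y hy)
  -- C_L(F) ≤ F
  have hCF : ∀ c ∈ L, (∀ b ∈ (Cfsg.fittingSubgroup ↥L).map L.subtype, b * c = c * b) →
      c ∈ (Cfsg.fittingSubgroup ↥L).map L.subtype := by
    intro c hcL hcen
    haveI := hLs
    have h1 : (⟨c, hcL⟩ : ↥L) ∈ Subgroup.centralizer ((Cfsg.fittingSubgroup ↥L : Subgroup ↥L) : Set ↥L) := by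
      rw [Subgroup.mem_centralizer_iff]
      intro b hb
      apply Subtype.ext
      exact hcen b ⟨b, hb, rfl⟩
    have h2 := Cfsg.Agent.S0044.result h1
    rw [hmemF]
    exact ⟨hcL, h2⟩
  have hfaithF : ∀ a ∈ A, (∀ f ∈ (Cfsg.fittingSubgroup ↥L).map L.subtype, a * f = f * a) → a = 1 := by
    intro a ha hab
    apply hfaith a ha
    exact centralizes_of_self_centralizing a (hs a ha) L _ hLF
      (fun f hf => conj_mem_of_le_normalizer hAL ha hf) hCF hL2 hab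
  obtain ⟨x, a, hx, hxx, he, hxf, ha, hinv, hcen, hgen⟩ :=
    exists_eigen_basis A _ hc hs hFn hF2 hAF hfaithF d hcard
  exact ⟨x, a, fun i => ⟨hFL (hx i).1, (hx i).2⟩, hxx, he, hxf, ha, hinv, hcen, hgen⟩

end Cfsg.Agent.Lib.Helper7_Eigen
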