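import Mathlib
import Cfsg.Prelude.Def_Solvable

set_option autoImplicit false

/-! A group `V ⋊ ⟨t⟩` (`V` elementary abelian `p`-group, `t^q = 1`, `C_V(t) = 1`) has trivial
`p'`-core and no element whose order equals the exponent. -/

namespace Cfsg.Agent.Lib.Helper7_ExpSection

open Cfsg
open scoped commutatorElement

section lemmaA
variable {K : Type*} [Group K] [Finite K] (p q : ℕ) [hp : Fact p.Prime] (hq : q.Prime)
  (hpq : p ≠ q) (V : Subgroup K) [hVn : V.Normal] (hVp : ∀ v ∈ V, v ^ p = 1)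
  (hVc : ∀ v ∈ V, ∀ w ∈ V, v * w = w * v) (hV1 : V ≠ ⊥) (t : K) (ht : t ^ q = 1)
  (hgen : ∀ k : K, ∃ v ∈ V, ∃ i : ℤ, k = v * t ^ i)
  (hfix : ∀ v ∈ V, t * v = v * t → v = 1)

include hq ht hfix in
/-- powers of `t` prime to `q` still act fixed-point-freely. -/
theorem fix_pow (i : ℤ) (hi : ¬ (q : ℤ) ∣ i) (v : K) (hv : v ∈ V) (hc : t ^ i * v = v * t ^ i) :
    v = 1 := by
  have hcop : IsCoprime i (q : ℤ) := by
    rw [Int.isCoprime_iff_gcd_eq_one]
    have h1 : Int.gcd i q ∣ q := by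
      have := Int.gcd_dvd_right i (q : ℤ)
      exact Int.natCast_dvd_natCast.mp this
    rcases (Nat.dvd_prime hq).mp h1 with h2 | h2
    · exact h2
    · exfalso
      apply hi
      have := Int.gcd_dvd_left i (q : ℤ)
      rw [h2] at this
      exact this
  obtain ⟨a, b, hab⟩ := hcop
  have h1 : t = (t ^ i) ^ a := by
    have h2 : t ^ (a * i + b * q) = t := by rw [hab, zpow_one]
    have h3 : t ^ (b * (q : ℤ)) = 1 := by
      rw [zpow_mul', zpow_natCast, ht, one_zpow]
    rw [zpow_add, h3, mul_one, mul_comm a i, zpow_mul] at h2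
    exact h2.symm
  apply hfix v hv
  have hcomm : Commute (t ^ i) v := hc
  have := hcomm.zpow_left a
  rw [← h1] at this
  exact this.eq

omit [Finite K] in
include ht in
theorem pow_of_dvd (i : ℤ) (hi : (q : ℤ) ∣ i) : t ^ i = 1 := by
  obtain ⟨j, rfl⟩ := hi
  rw [zpow_mul, zpow_natCast, ht, one_zpow]

include hq hVc ht hfix in
/-- every element has order dividing `p` or `q`. -/
theorem pow_p_or_q (hVp : ∀ v ∈ V, v ^ p = 1) (hgen : ∀ k : K, ∃ v ∈ V, ∃ i : ℤ, k = v * t ^ i)
    (k : K) : k ^ p = 1 ∨ k ^ q = 1 := by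
  obtain ⟨v, hv, i, rfl⟩ := hgen k
  by_cases hi : (q : ℤ) ∣ i
  · left
    rw [pow_of_dvd q t ht i hi, mul_one]
    exact hVp v hv
  · right
    set s := t ^ i with hs
    have hsq : s ^ q = 1 := by
      rw [hs, ← zpow_natCast, ← zpow_mul, mul_comm, zpow_mul, zpow_natCast, ht, one_zpow]
    -- (v s)^q ∈ V
    have hmem : (v * s) ^ q ∈ V := by
      rw [← QuotientGroup.eq_one_iff, QuotientGroup.mk_pow, QuotientGroup.mk_mul,
        (QuotientGroup.eq_one_iff v).mpr hv, one_mul, ← QuotientGroup.mk_pow, hsq]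
      rfl
    -- it commutes with v s and with v, hence with s
    have h1 : Commute ((v * s) ^ q) (v * s) := (Commute.refl (v * s)).pow_left q
    have h2 : Commute ((v * s) ^ q) v := hVc _ hmem v hv
    have h3 : Commute ((v * s) ^ q) s := by
      have h4 : Commute ((v * s) ^ q) (v⁻¹ * (v * s)) := h2.inv_right.mul_right h1
      rwa [inv_mul_cancel_left] at h4
    exact fix_pow q hq V t ht hfix i hi _ hmem h3.symm.eq

include hq hpq hVp hVc hV1 ht hgen hfix in
theorem no_exponent_elt (k : K) : orderOf k ≠ Monoid.exponent K := by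
  have hp1 := hp.out
  intro hk
  -- p ∣ exponent
  obtain ⟨v, hv, hv1⟩ : ∃ v ∈ V, v ≠ 1 := by
    by_contra hcon
    apply hV1
    rw [eq_bot_iff]
    intro v hv
    rw [Subgroup.mem_bot]
    by_contra hv1
    exact hcon ⟨v, hv, hv1⟩
  have hov : orderOf v = p := orderOf_eq_prime (hVp v hv) hv1
  have hpe : p ∣ Monoid.exponent K := by rw [← hov]; exact Monoid.order_dvd_exponent v
  have ht1 : t ≠ 1 := by
    intro h1
    apply hv1
    apply hfix v hv
    rw [h1, one_mul, mul_one]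
  haveI : Fact q.Prime := ⟨hq⟩
  have hot : orderOf t = q := orderOf_eq_prime ht ht1
  have hqe : q ∣ Monoid.exponent K := by rw [← hot]; exact Monoid.order_dvd_exponent t
  rw [← hk] at hpe hqe
  rcases pow_p_or_q p q hq V hVc t ht hfix hVp hgen k with h | h
  · have h1 : orderOf k ∣ p := orderOf_dvd_of_pow_eq_one h
    have h2 : q ∣ p := hqe.trans h1
    exact hpq ((Nat.prime_dvd_prime_iff_eq hq hp1).mp h2).symm
  · have h1 : orderOf k ∣ q := orderOf_dvd_of_pow_eq_one h
    have h2 : p ∣ q := hpe.trans h1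
    exact hpq ((Nat.prime_dvd_prime_iff_eq hp1 hq).mp h2)

include hq hVp hVc hV1 ht hgen hfix in
theorem pPrimeCore_eq_bot : pPrimeCore p K = ⊥ := by
  have hp1 := hp.out
  unfold pPrimeCore
  rw [sSup_eq_bot]
  rintro M ⟨hMn, hMc⟩
  haveI := hMn
  rw [eq_bot_iff]
  intro m hm
  rw [Subgroup.mem_bot]
  have hord : ∀ x ∈ M, x ^ p = 1 → x = 1 := by
    intro x hx hxp
    have h1 : orderOf x ∣ p := orderOf_dvd_of_pow_eq_one hxp
    have h2 : orderOf x ∣ Nat.card M := by
      rw [← Subgroup.orderOf_mk x hx]; exact orderOf_dvd_natCard _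
    have h3 : orderOf x ∣ Nat.gcd (Nat.card M) p := Nat.dvd_gcd h2 h1
    rw [hMc.gcd_eq_one] at h3
    exact orderOf_eq_one_iff.mp (Nat.dvd_one.mp h3)
  obtain ⟨v, hv, i, hmvi⟩ := hgen m
  by_cases hi : (q : ℤ) ∣ i
  · rw [pow_of_dvd q t ht i hi, mul_one] at hmvi
    apply hord m hm
    rw [hmvi]; exact hVp v hv
  · exfalso
    apply hV1
    rw [eq_bot_iff]
    intro w hw
    rw [Subgroup.mem_bot]
    -- m commutes with w
    have hcomm : m * w = w * m := by
      have h1 : ⁅m, w⁆ ∈ M := by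
        have : ⁅m, w⁆ = m * (w * m⁻¹ * w⁻¹) := by simp only [commutatorElement_def]; group
        rw [this]
        exact M.mul_mem hm (hMn.conj_mem _ (M.inv_mem hm) w)
      have h2 : ⁅m, w⁆ ∈ V := by
        have : ⁅m, w⁆ = (m * w * m⁻¹) * w⁻¹ := by simp only [commutatorElement_def]
        rw [this]
        exact V.mul_mem (hVn.conj_mem _ hw m) (V.inv_mem hw)
      have h3 := hord _ h1 (hVp _ h2)
      exact commutatorElement_eq_one_iff_mul_comm.mp h3
    apply fix_pow q hq V t ht hfix i hi w hw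
    have hvw : v * w = w * v := hVc v hv w hw
    have h4 : t ^ i = v⁻¹ * m := by rw [hmvi]; group
    rw [h4]
    calc v⁻¹ * m * w = v⁻¹ * (m * w) := by group
      _ = v⁻¹ * (w * m) := by rw [hcomm]
      _ = v⁻¹ * (w * v) * (v⁻¹ * m) := by group
      _ = v⁻¹ * (v * w) * (v⁻¹ * m) := by rw [hvw]
      _ = w * (v⁻¹ * m) := by group

end lemmaA

end Cfsg.Agent.Lib.Helper7_ExpSection
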