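import Mathlib
import Cfsg.Prelude.Def_Solvable
import Cfsg.Agent.Lib.Helper7_Basic
import Cfsg.Agent.Lib.Helper7_Fpf
import Cfsg.Agent.Lib.Helper7_Fpf2
import Cfsg.Agent.Lib.Helper5_CoprimeGen
import Cfsg.Agent.Lib.Helper6_ConjAct
import Cfsg.Agent.Lib.Helper6_Fpf
import Cfsg.Agent.S0016

set_option autoImplicit false

/-!
# Fixed-point-free actions, III: Sylow subgroups, subgroups of order `pq`, centre
-/

namespace Cfsg.Agent.Lib.Helper7_Fpf3

open Cfsg
open Cfsg.Agent.Lib.Helper7_Fpf Cfsg.Agent.Lib.Helper7_Fpf2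
open scoped Pointwise

section PQ

variable {E : Type*} [Group E] [Finite E]

/-- A group of order `pq` with `p < q` is cyclic or a Frobenius group. -/
theorem cyclic_or_frobenius_of_card_pq {p q : ℕ} (hp : p.Prime) (hq : q.Prime) (hpq : p < q)
    (hcard : Nat.card E = p * q) :
    IsCyclic E ∨ ∃ P : Subgroup E, IsFrobeniusComplement P := by
  classical
  haveI : Fact p.Prime := ⟨hp⟩
  haveI : Fact q.Prime := ⟨hq⟩
  obtain ⟨x, hx⟩ := exists_prime_orderOf_dvd_card' p (by rw [hcard]; exact dvd_mul_right p q)
  obtain ⟨y, hy⟩ := exists_prime_orderOf_dvd_card' q (by rw [hcard]; exact dvd_mul_left q p)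
  set P := Subgroup.zpowers x with hPdef
  have hPcard : Nat.card P = p := by rw [Nat.card_zpowers, hx]
  have hx1 : x ≠ 1 := by
    intro h; rw [h, orderOf_one] at hx; exact hp.one_lt.ne hx
  have hPbot : P ≠ ⊥ := by
    intro h
    have : x ∈ (⊥ : Subgroup E) := h ▸ Subgroup.mem_zpowers x
    exact hx1 (Subgroup.mem_bot.mp this)
  have hPtop : P ≠ ⊤ := by
    intro h
    have h1 : Nat.card P = Nat.card E := by rw [h, Subgroup.card_top]
    rw [hPcard, hcard] at h1
    have : p * 1 = p * q := by rw [mul_one]; exact h1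
    have := Nat.eq_of_mul_eq_mul_left hp.pos this
    exact hq.one_lt.ne this
  by_cases hN : ∀ g : E, g ∉ P → P ⊓ (MulAut.conj g • P) = ⊥
  · exact Or.inr ⟨P, hPbot, hPtop, hN⟩
  left
  push Not at hN
  obtain ⟨g, hgP, hg⟩ := hN
  -- `P ⊓ g • P = P`
  have hcard_conj : Nat.card (MulAut.conj g • P : Subgroup E) = p := by
    rw [← hPcard]
    exact Nat.card_congr (Subgroup.equivSMul (MulAut.conj g) P).symm.toEquiv
  have h1 : P ⊓ (MulAut.conj g • P) = P := by
    apply Subgroup.eq_of_le_of_card_ge inf_le_left
    have hdvd : Nat.card (P ⊓ (MulAut.conj g • P) : Subgroup E) ∣ p := by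
      rw [← hPcard]; exact Subgroup.card_dvd_of_le inf_le_left
    rcases (Nat.dvd_prime hp).mp hdvd with h | h
    · exact absurd (Subgroup.card_eq_one.mp h) hg
    · rw [h, hPcard]
  have h2 : P ≤ MulAut.conj g • P := by
    calc P = P ⊓ (MulAut.conj g • P) := h1.symm
      _ ≤ _ := inf_le_right
  have h3 : MulAut.conj g • P = P :=
    (Subgroup.eq_of_le_of_card_ge h2 (by rw [hcard_conj, hPcard])).symm
  have hgN : g ∈ Subgroup.normalizer (P : Set E) := by
    rw [Subgroup.mem_normalizer_iff]
    intro z
    constructor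
    · intro hz
      have : MulAut.conj g • z ∈ MulAut.conj g • P := Subgroup.smul_mem_pointwise_smul _ _ _ hz
      rw [h3] at this
      simpa [MulAut.smul_def] using this
    · intro hz
      have : g * z * g⁻¹ ∈ MulAut.conj g • P := by rw [h3]; exact hz
      rw [Subgroup.mem_pointwise_smul_iff_inv_smul_mem] at this
      simpa [MulAut.smul_def, mul_assoc] using this
  -- `N(P) = ⊤`
  have hPindex : P.index = q := by
    have := Subgroup.card_mul_index P
    rw [hPcard, hcard] at this
    exact Nat.eq_of_mul_eq_mul_left hp.pos this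
  have hNtop : Subgroup.normalizer (P : Set E) = ⊤ := by
    have hle : P ≤ Subgroup.normalizer (P : Set E) := Subgroup.le_normalizer
    have hdvd : (Subgroup.normalizer (P : Set E)).index ∣ q := by
      rw [← hPindex]; exact Subgroup.index_dvd_of_le hle
    rcases (Nat.dvd_prime hq).mp hdvd with h | h
    · exact Subgroup.index_eq_one.mp h
    · exfalso
      have h4 : Subgroup.normalizer (P : Set E) = P := by
        symm
        apply Subgroup.eq_of_le_of_card_ge hle
        have h5 := Subgroup.card_mul_index (Subgroup.normalizer (P : Set E))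
        rw [h, hcard] at h5
        have := Nat.eq_of_mul_eq_mul_right hq.pos h5
        rw [this, hPcard]
      rw [h4] at hgN
      exact hgP hgN
  haveI hPn : P.Normal := Subgroup.normalizer_eq_top_iff.mp hNtop
  -- the centralizer of `x` is everything
  have hCle : P ≤ Subgroup.centralizer ({x} : Set E) := by
    rw [hPdef, Subgroup.zpowers_le]
    exact Subgroup.mem_centralizer_singleton_iff.mpr rfl
  have hCdvd : (Subgroup.centralizer ({x} : Set E)).index ∣ q := by
    rw [← hPindex]; exact Subgroup.index_dvd_of_le hCle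
  have hClt : (Subgroup.centralizer ({x} : Set E)).index < p := by
    rw [← Cfsg.Agent.Lib.Helper7_Basic.card_conj_class]
    letI : Fintype {z : E // IsConj z x} := Fintype.ofFinite _
    letI : Fintype P := Fintype.ofFinite _
    have hmem : ∀ z : {z : E // IsConj z x}, z.1 ∈ P := by
      intro z
      obtain ⟨c, hc⟩ := isConj_iff.mp z.2.symm
      rw [← hc]
      exact hPn.conj_mem x (Subgroup.mem_zpowers x) c
    have hinj : Function.Injective (fun z : {z : E // IsConj z x} => (⟨z.1, hmem z⟩ : P)) := by
      intro a b hab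
      have := congrArg (fun w : P => (w : E)) hab
      exact Subtype.ext this
    have hnot : (1 : P) ∉ Set.range (fun z : {z : E // IsConj z x} => (⟨z.1, hmem z⟩ : P)) := by
      rintro ⟨z, hz⟩
      have h0 : z.1 = 1 := congrArg Subtype.val hz
      have := z.2
      rw [h0] at this
      exact hx1 (isConj_one_right.mp this)
    have h5 := Fintype.card_lt_of_injective_of_notMem _ hinj hnot
    rw [← Nat.card_eq_fintype_card, ← Nat.card_eq_fintype_card, hPcard] at h5
    exact h5
  have hCtop : Subgroup.centralizer ({x} : Set E) = ⊤ := by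
    rcases (Nat.dvd_prime hq).mp hCdvd with h | h
    · exact Subgroup.index_eq_one.mp h
    · omega
  have hxy : Commute x y := by
    have : y ∈ Subgroup.centralizer ({x} : Set E) := by rw [hCtop]; exact Subgroup.mem_top y
    rw [Subgroup.mem_centralizer_singleton_iff] at this
    exact this.symm
  have hcop : (orderOf x).Coprime (orderOf y) := by
    rw [hx, hy]
    exact (Nat.coprime_primes hp hq).mpr hpq.ne
  have hord := hxy.orderOf_mul_eq_mul_orderOf_of_coprime hcop
  rw [hx, hy, ← hcard] at hord
  exact isCyclic_of_orderOf_eq_card (x * y) hord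

end PQ

section Internal

/-- The internal form of a fixed-point-free action (by conjugation inside a group `G`). -/
theorem fpf_of_internal {G : Type*} [Group G] (H K : Subgroup G)
    (hHK : H ≤ Subgroup.normalizer (K : Set G))
    (hfpf : ∀ h ∈ H, h ≠ 1 → K ⊓ Subgroup.centralizer {h} = ⊥) :
    letI : MulDistribMulAction H K := Cfsg.Agent.Lib.Helper6_ConjAct.conjNormalizer H K hHK
    Fpf H K := by
  intro a ha x hx
  have h1 : (a : G) * (x : G) * (a : G)⁻¹ = (x : G) := congrArg Subtype.val hx
  have h2 : (x : G) ∈ K ⊓ Subgroup.centralizer {(a : G)} := by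
    refine Subgroup.mem_inf.mpr ⟨x.2, ?_⟩
    rw [Subgroup.mem_centralizer_singleton_iff]
    have h3 : (a : G) * (x : G) = (x : G) * (a : G) := eq_mul_of_mul_inv_eq h1
    first | exact h3 | exact h3.symm
  rw [hfpf a a.2 (fun h => ha (Subtype.ext h))] at h2
  exact Subtype.ext (Subgroup.mem_bot.mp h2)

end Internal

section FpfSec

variable {A N : Type*} [Group A] [Finite A] [Group N] [Finite N] [MulDistribMulAction A N]

omit [Finite A] [Finite N] in
theorem fpf_subgroup (hf : Fpf A N) (E : Subgroup A) : Fpf E N := by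
  intro a ha x hx
  exact hf (a : A) (fun h => ha (Subtype.ext h)) x hx

/-- A `p`-subgroup of a group acting fixed-point-freely is cyclic or generalized quaternion. -/
theorem pgroup_cyclic_or_quaternion [Nontrivial N] (hf : Fpf A N) (p : ℕ) [Fact p.Prime]
    (P : Subgroup A) (hP : IsPGroup p P) :
    IsCyclic P ∨ ∃ n : ℕ, Nonempty (P ≃* QuaternionGroup (2 ^ n)) := by
  have hp := (Fact.out : p.Prime)
  have huniq : ∀ H K : Subgroup P, Nat.card H = p → Nat.card K = p → H = K := by
    intro H K hH hK
    -- `P` is non-trivial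
    haveI : Nontrivial P := by
      have : 1 < Nat.card P := by
        have := Subgroup.card_le_card_group H
        rw [hH] at this
        exact lt_of_lt_of_le hp.one_lt this
      exact Finite.one_lt_card_iff_nontrivial.mp this
    haveI := hP.center_nontrivial
    obtain ⟨k, hk0, hk⟩ := (hP.to_subgroup (Subgroup.center P)).nontrivial_iff_card.mp inferInstance
    obtain ⟨z, hz⟩ := exists_prime_orderOf_dvd_card' (G := Subgroup.center P) p
      (by rw [hk]; exact dvd_pow_self p hk0.ne')
    have hz1 : ((z : P) : A) ≠ 1 := by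
      intro h
      have : z = 1 := Subtype.ext (Subtype.ext h)
      rw [this, orderOf_one] at hz
      exact hp.one_lt.ne hz
    have hzp : ((z : P) : A) ^ p = 1 := by
      have := pow_orderOf_eq_one z
      rw [hz] at this
      have := congrArg (fun w : Subgroup.center P => ((w : P) : A)) this
      simpa using this
    have hcardz : Nat.card (Subgroup.zpowers (z : P)) = p := by
      rw [Nat.card_zpowers]
      rw [← hz]
      exact (Subgroup.orderOf_coe z)
    have key : ∀ L : Subgroup P, Nat.card L = p → L = Subgroup.zpowers (z : P) := by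
      intro L hL
      apply Subgroup.eq_of_le_of_card_ge
      · intro h hh
        have hcomm : ((z : P) : A) * (h : A) = (h : A) * ((z : P) : A) := by
          have := Subgroup.mem_center_iff.mp z.2 h
          have := congrArg (fun w : P => (w : A)) this
          simpa using this.symm
        have hhp : (h : A) ^ p = 1 := by
          have h1 : (⟨h, hh⟩ : L) ^ Nat.card L = 1 := pow_card_eq_one'
          rw [hL] at h1
          have := congrArg (fun w : L => ((w : P) : A)) h1
          simpa using this
        have := no_rank_two hf p ((z : P) : A) (h : A) hcomm hzp hhp hz1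
        obtain ⟨j, hj⟩ := Subgroup.mem_zpowers_iff.mp this
        rw [Subgroup.mem_zpowers_iff]
        exact ⟨j, Subtype.ext (by simpa using hj)⟩
      · rw [hL, hcardz]
    rw [key H hH, key K hK]
  rcases Cfsg.Agent.S0016.result (G := P) p hP huniq with h | ⟨-, h⟩
  · exact Or.inl h
  · exact Or.inr h

open scoped IsMulCommutative in
/-- An abelian group acting fixed-point-freely on a non-trivial group is cyclic. -/
theorem cyclic_of_abelian [Nontrivial N] (hf : Fpf A N) (E : Subgroup A) [IsMulCommutative E] :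
    IsCyclic E := by
  by_contra hnc
  obtain ⟨q, hq, x, u, hxE, huE, hxu, hx, hu, hx1, hux⟩ :=
    Cfsg.Agent.Lib.Helper5_CoprimeGen.exists_rank_two E hnc
  haveI := hq
  exact hux (no_rank_two hf q x u hxu hx hu hx1)

/-- A group of order `pq` acting fixed-point-freely on a non-trivial group is cyclic. -/
theorem cyclic_of_card_pq [Nontrivial N] (hf : Fpf A N) (E : Subgroup A) {p q : ℕ} (hp : p.Prime)
    (hq : q.Prime) (hE : Nat.card E = p * q) : IsCyclic E := by
  have key : ∀ p q : ℕ, p.Prime → q.Prime → p < q → Nat.card E = p * q → IsCyclic E := by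
    intro p q hp hq hpq hE
    rcases cyclic_or_frobenius_of_card_pq hp hq hpq hE with h | ⟨P, hP⟩
    · exact h
    · exfalso
      obtain ⟨x, hx⟩ := exists_ne (1 : N)
      exact hx (eq_one_of_fpf_of_frobenius P hP (fpf_subgroup hf E) x)
  rcases lt_trichotomy p q with h | h | h
  · exact key p q hp hq h hE
  · subst h
    haveI : Fact p.Prime := ⟨hp⟩
    haveI : IsMulCommutative E :=
      IsPGroup.isMulCommutative_of_card_eq_prime_sq (by rw [hE, sq])
    exact cyclic_of_abelian hf E
  · exact key q p hq hp h (by rw [hE, mul_comm])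

end FpfSec

section Center

open scoped commutatorElement

theorem comm_of_cyclic' {G : Type*} [Group G] (P : Subgroup G) [IsCyclic P] {a b : G} (ha : a ∈ P)
    (hb : b ∈ P) : a * b = b * a := by
  have := (isMulCommutative_iff.mp (IsCyclic.isMulCommutative (α := P))) ⟨a, ha⟩ ⟨b, hb⟩
  exact congrArg Subtype.val this

/-- In a group `A` with an abelian normal subgroup `C`, an element `b` of prime order `r` prime to
`|C|` which commutes with every element of prime order of `C` centralizes `C`. -/
theorem centralizes_of_prime_order {A : Type*} [Group A] [Finite A] (C : Subgroup A) [hCn : C.Normal]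
    (hab : ∀ x ∈ C, ∀ y ∈ C, x * y = y * x)
    (b : A) (r : ℕ) (_hr : r.Prime) (hbr : b ^ r = 1) (hcop : (Nat.card C).Coprime r)
    (hPQ : ∀ x ∈ C, (orderOf x).Prime → b * x = x * b) : ∀ y ∈ C, b * y = y * b := by
  intro y hy
  by_contra hne
  set c := b * y * b⁻¹ * y⁻¹ with hc
  have hconjC : b * y * b⁻¹ ∈ C := hCn.conj_mem y hy b
  have hcC : c ∈ C := C.mul_mem hconjC (C.inv_mem hy)
  have hc1 : c ≠ 1 := by
    intro h
    apply hne
    have : b * y * b⁻¹ = y := by
      rw [← mul_inv_eq_one]; exact h
    exact eq_mul_of_mul_inv_eq this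
  have hoc : orderOf c ≠ 1 := fun h => hc1 (orderOf_eq_one_iff.mp h)
  set p := (orderOf c).minFac with hpdef
  have hp : p.Prime := Nat.minFac_prime hoc
  have hpd : p ∣ orderOf c := Nat.minFac_dvd _
  set e := orderOf c / p with hedef
  have hoe : orderOf (c ^ e) = p := orderOf_pow_orderOf_div (orderOf_pos c).ne' hpd
  have hce : c ^ e = b * y ^ e * b⁻¹ * (y ^ e)⁻¹ := by
    have hcomm : Commute (b * y * b⁻¹) y⁻¹ := hab _ hconjC _ (C.inv_mem hy)
    rw [hc, hcomm.mul_pow, conj_pow, inv_pow]
  set y' := y ^ e with hy'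
  set c' := c ^ e with hc'
  have hc'C : c' ∈ C := C.pow_mem hcC e
  have hbc' : b * c' = c' * b := hPQ c' hc'C (by rw [hoe]; exact hp)
  have hy'C : y' ∈ C := C.pow_mem hy e
  have hby : b * y' * b⁻¹ = c' * y' := by rw [hce]; group
  have hbci : ∀ i : ℕ, b * c' ^ i * b⁻¹ = c' ^ i := by
    intro i
    have : Commute b (c' ^ i) := (show Commute b c' from hbc').pow_right i
    rw [this.eq]; group
  have hpow : ∀ i : ℕ, b ^ i * y' * (b ^ i)⁻¹ = c' ^ i * y' := by
    intro i
    induction i with
    | zero => simp
    | succ i ih =>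
      calc b ^ (i + 1) * y' * (b ^ (i + 1))⁻¹ = b * (b ^ i * y' * (b ^ i)⁻¹) * b⁻¹ := by
            rw [pow_succ']; group
        _ = b * (c' ^ i * y') * b⁻¹ := by rw [ih]
        _ = (b * c' ^ i * b⁻¹) * (b * y' * b⁻¹) := by group
        _ = c' ^ i * (c' * y') := by rw [hby, hbci]
        _ = c' ^ (i + 1) * y' := by rw [pow_succ]; group
  have h1 := hpow r
  rw [hbr] at h1
  have hc'r : c' ^ r = 1 := by
    have : y' = c' ^ r * y' := by simpa using h1
    exact (mul_eq_right.mp this.symm)
  have hpr : p ∣ r := by rw [← hoe]; exact orderOf_dvd_of_pow_eq_one hc'r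
  have hpC : p ∣ Nat.card C := by
    have := orderOf_dvd_natCard (⟨c, hcC⟩ : C)
    rw [Subgroup.orderOf_mk] at this
    exact hpd.trans this
  exact hp.one_lt.ne' (Nat.eq_one_of_dvd_coprimes hcop hpC hpr)

variable {A N : Type*} [Group A] [Finite A] [Group N] [Finite N] [MulDistribMulAction A N]

theorem center_ne_bot_of_even [Nontrivial N] (hf : Fpf A N) (h2 : 2 ∣ Nat.card A) :
    Subgroup.center A ≠ ⊥ := by
  haveI : Fact (Nat.Prime 2) := ⟨Nat.prime_two⟩
  obtain ⟨t, ht⟩ := exists_prime_orderOf_dvd_card' 2 h2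
  have ht1 : t ≠ 1 := by
    intro h; rw [h, orderOf_one] at ht; omega
  have htt : t * t = 1 := by rw [← pow_two, ← ht]; exact pow_orderOf_eq_one t
  have hinv : ∀ s : A, s ≠ 1 → s * s = 1 → ∀ k : N, s • k = k⁻¹ := by
    intro s hs1 hss
    exact (Cfsg.Agent.Lib.Helper6_Fpf.fpf_involution (MulDistribMulAction.toMonoidHom N s)
      (fun q => by
        show s • s • q = q
        rw [smul_smul, hss, one_smul])
      (fun q hq => hf s hs1 q hq)).1
  have hcentral : ∀ a : A, a * t * a⁻¹ = t := by
    intro a
    set s := a * t * a⁻¹ with hs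
    have hs1 : s ≠ 1 := by
      intro h
      apply ht1
      have : t = a⁻¹ * s * a := by rw [hs]; group
      rw [this, h]; group
    have hss : s * s = 1 := by
      rw [hs]
      calc a * t * a⁻¹ * (a * t * a⁻¹) = a * (t * t) * a⁻¹ := by group
        _ = 1 := by rw [htt]; group
    by_contra hne
    have hst : s * t ≠ 1 := by
      intro h
      apply hne
      have h3 : s = t⁻¹ := eq_inv_of_mul_eq_one_left h
      rw [h3]
      exact inv_eq_of_mul_eq_one_left htt
    obtain ⟨k, hk⟩ := exists_ne (1 : N)
    apply hk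
    apply hf (s * t) hst k
    rw [mul_smul, hinv t ht1 htt, hinv s hs1 hss, inv_inv]
  intro hbot
  have : t ∈ Subgroup.center A := by
    rw [Subgroup.mem_center_iff]
    intro g
    exact eq_mul_of_mul_inv_eq (hcentral g)
  rw [hbot] at this
  exact ht1 (Subgroup.mem_bot.mp this)

theorem center_ne_bot_of_odd [Nontrivial N] [Nontrivial A] (hf : Fpf A N)
    (h2 : ¬ 2 ∣ Nat.card A) : Subgroup.center A ≠ ⊥ := by
  classical
  haveI hZ : IsZGroup A := by
    refine ⟨fun p hp P => ?_⟩
    haveI : Fact p.Prime := ⟨hp⟩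
    rcases pgroup_cyclic_or hf p (P : Subgroup A) P.isPGroup' with h | ⟨-, a, b, hc1, hc2⟩
    · exact h
    · exfalso
      apply h2
      have : orderOf (a * b * a⁻¹ * b⁻¹) = 2 := orderOf_eq_prime hc2 hc1
      rw [← this]; exact orderOf_dvd_natCard _
  set C := commutator A with hC
  haveI hCn : C.Normal := by rw [hC]; infer_instance
  haveI hcyc : IsCyclic C := IsZGroup.isCyclic_commutator A
  have hcop : (Nat.card C).Coprime C.index := IsZGroup.coprime_commutator_index A
  have hlt : C < ⊤ := IsZGroup.commutator_lt A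
  have hidx : C.index ≠ 1 := fun h => hlt.ne (Subgroup.index_eq_one.mp h)
  set r := C.index.minFac with hr
  have hrp : r.Prime := Nat.minFac_prime hidx
  have hrdvd : r ∣ C.index := Nat.minFac_dvd _
  haveI : Fact r.Prime := ⟨hrp⟩
  obtain ⟨b, hb⟩ := exists_prime_orderOf_dvd_card' r (hrdvd.trans (Subgroup.index_dvd_card C))
  have hb1 : b ≠ 1 := by
    intro h; rw [h, orderOf_one] at hb; exact hrp.one_lt.ne hb
  have hbr : b ^ r = 1 := by rw [← hb]; exact pow_orderOf_eq_one b
  have hcopr : (Nat.card C).Coprime r := Nat.Coprime.coprime_dvd_right hrdvd hcop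
  have habC : ∀ x ∈ C, ∀ y ∈ C, x * y = y * x := fun x hx y hy => comm_of_cyclic' C hx hy
  have hPQ : ∀ x ∈ C, (orderOf x).Prime → b * x = x * b := by
    intro x hx hxp
    set p := orderOf x with hp
    set X := Subgroup.zpowers x with hX
    have hXcard : Nat.card X = p := Nat.card_zpowers x
    have hXC : X ≤ C := Subgroup.zpowers_le.mpr hx
    haveI hXn : X.Normal := by
      constructor
      intro z hz g
      have h1 : Subgroup.zpowers (g * x * g⁻¹) = X := by
        apply Cfsg.Agent.Lib.Helper7_Basic.cyclic_subgroup_unique C hcyc _ _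
          (Subgroup.zpowers_le.mpr (hCn.conj_mem x hx g)) hXC
        rw [Nat.card_zpowers, Cfsg.Agent.Lib.Helper7_Basic.orderOf_conj', hXcard]
      obtain ⟨k, hk⟩ := Subgroup.mem_zpowers_iff.mp hz
      rw [← hk, ← h1]
      have : g * x ^ k * g⁻¹ = (g * x * g⁻¹) ^ k := by rw [conj_zpow]
      rw [this]; exact Subgroup.zpow_mem_zpowers _ k
    set B := Subgroup.zpowers b with hB
    have hBcard : Nat.card B = r := by rw [Nat.card_zpowers, hb]
    have hcopXB : (Nat.card X).Coprime (Nat.card B) := by
      rw [hBcard]; exact Nat.Coprime.coprime_dvd_left (Subgroup.card_dvd_of_le hXC) hcopr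
    have hinf : X ⊓ B = ⊥ := (Subgroup.disjoint_of_coprime_natCard hcopXB).eq_bot
    have hcardE : Nat.card (X ⊔ B : Subgroup A) = p * r := by
      have h1 := Subgroup.relIndex_mul_relIndex (⊥ : Subgroup A) X (X ⊔ B) bot_le le_sup_left
      rw [Subgroup.relIndex_bot_left, Subgroup.relIndex_bot_left, Subgroup.relIndex_sup_left,
        ← Subgroup.inf_relIndex_right, hinf, Subgroup.relIndex_bot_left, hXcard, hBcard] at h1
      exact h1.symm
    haveI := cyclic_of_card_pq hf (X ⊔ B) hxp hrp hcardE
    exact comm_of_cyclic' (X ⊔ B) (le_sup_right (α := Subgroup A) (Subgroup.mem_zpowers b))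
      (le_sup_left (α := Subgroup A) (Subgroup.mem_zpowers x))
  have hcent := centralizes_of_prime_order C habC b r hrp hbr hcopr hPQ
  have hcentral : ∀ g : A, g * b = b * g := by
    intro g
    set c := g * b * g⁻¹ * b⁻¹ with hc
    have hcC : c ∈ C := by
      have : c = ⁅g, b⁆ := rfl
      rw [this, hC, commutator_def]
      exact Subgroup.commutator_mem_commutator (Subgroup.mem_top g) (Subgroup.mem_top b)
    have hbc : b * c = c * b := hcent c hcC
    have h1 : g * b * g⁻¹ = c * b := by rw [hc]; group
    have h2 : (c * b) ^ r = 1 := by rw [← h1, conj_pow, hbr]; group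
    have h3 : c ^ r = 1 := by
      have : (c * b) ^ r = c ^ r * b ^ r := (show Commute c b from hbc.symm).mul_pow r
      rw [this, hbr, mul_one] at h2; exact h2
    have h4 : orderOf c ∣ r := orderOf_dvd_of_pow_eq_one h3
    have h5 : orderOf c ∣ Nat.card C := by
      have := orderOf_dvd_natCard (⟨c, hcC⟩ : C)
      rwa [Subgroup.orderOf_mk] at this
    have h6 : orderOf c = 1 := Nat.eq_one_of_dvd_coprimes hcopr h5 h4
    have hc1 : c = 1 := orderOf_eq_one_iff.mp h6
    rw [hc1, one_mul] at h1
    exact eq_mul_of_mul_inv_eq h1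
  intro hbot
  have : b ∈ Subgroup.center A := by
    rw [Subgroup.mem_center_iff]; exact hcentral
  rw [hbot] at this
  exact hb1 (Subgroup.mem_bot.mp this)

/-- A non-trivial group acting fixed-point-freely on a non-trivial group has non-trivial centre. -/
theorem center_ne_bot [Nontrivial N] [Nontrivial A] (hf : Fpf A N) : Subgroup.center A ≠ ⊥ := by
  by_cases h2 : 2 ∣ Nat.card A
  · exact center_ne_bot_of_even hf h2
  · exact center_ne_bot_of_odd hf h2

end Center

end Cfsg.Agent.Lib.Helper7_Fpf3
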