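import Mathlib
import Cfsg.Prelude
import Cfsg.Agent.Lib.Helper7_ClassSize
import Cfsg.Agent.Lib.Helper6_ConjAct
import Cfsg.Agent.S0012
import Cfsg.Agent.S0029

set_option autoImplicit false

/-! Subgroups of metacyclic groups are 2-generated; action of a `q`-element on `Q/Φ(Q)` of order
dividing `p^2`. -/

namespace Cfsg.Agent.Lib.Helper7_Metacyclic

open Subgroup

/-- prime-power reduction: if all prime-power-order powers of `g` lie in `C` then so does `g`. -/
theorem mem_of_prime_power_parts {G : Type*} [Group G] [Finite G] (C : Subgroup G) :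
    ∀ n : ℕ, ∀ g : G, orderOf g = n →
      (∀ y ∈ zpowers g, ∀ q k : ℕ, q.Prime → orderOf y = q ^ k → y ∈ C) → g ∈ C := by
  intro n
  induction n using Nat.strong_induction_on with
  | _ n ih =>
    intro g hg h
    by_cases h1 : g = 1
    · rw [h1]; exact C.one_mem
    have hne : orderOf g ≠ 1 := by rwa [Ne, orderOf_eq_one_iff]
    obtain ⟨q, hq, hqd⟩ := Nat.exists_prime_and_dvd hne
    obtain ⟨a, b, ha, hb, hab, ⟨k, hk⟩, -, -, hlt⟩ :=
      Cfsg.Agent.Lib.Helper7_ClassSize.exists_parts g (isOfFinOrder_of_finite g) q hq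
    have haC : a ∈ C := h a ha q k hq hk
    have hbC : b ∈ C := by
      apply ih (orderOf b) (by rw [← hg]; exact hlt hqd) b rfl
      intro y hy q' k' hq' hk'
      apply h y _ q' k' hq' hk'
      exact (zpowers_le.mpr hb) hy
    rw [hab]
    exact C.mul_mem haC hbC

/-- every subgroup of a metacyclic group is generated by two elements, in normal form. -/
theorem exists_two_gen {R : Type*} [Group R] (hR : Cfsg.IsMetacyclic R) (H : Subgroup R) :
    ∃ a ∈ H, ∃ b ∈ H, ∀ h ∈ H, ∃ i j : ℤ, h = b ^ j * a ^ i := by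
  obtain ⟨N, hN, hNc, hQc⟩ := hR
  haveI : IsCyclic ↥(N ⊓ H) := Subgroup.isCyclic_of_le (inf_le_left : N ⊓ H ≤ N)
  obtain ⟨⟨a, haNH⟩, ha⟩ := IsCyclic.exists_generator (α := ↥(N ⊓ H))
  let φ : H →* R ⧸ N := (QuotientGroup.mk' N).comp H.subtype
  obtain ⟨⟨y, ⟨b, hb⟩⟩, hy⟩ := IsCyclic.exists_generator (α := ↥φ.range)
  refine ⟨a, haNH.2, b, b.2, ?_⟩
  intro h hh
  have h1 := hy ⟨φ ⟨h, hh⟩, ⟨_, rfl⟩⟩
  rw [Subgroup.mem_zpowers_iff] at h1
  obtain ⟨j, hj⟩ := h1
  have h2 : φ (b ^ j) = φ ⟨h, hh⟩ := by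
    have := congrArg Subtype.val hj
    simp only [Subgroup.coe_zpow] at this
    rw [map_zpow, hb]; exact this
  have h3 : ((b : R) ^ j)⁻¹ * h ∈ N := by
    have h2' : ((((b : R) ^ j : R)) : R ⧸ N) = ((h : R) : R ⧸ N) := by
      simpa [φ] using h2
    exact QuotientGroup.eq.mp h2'
  have h4 : ((b : R) ^ j)⁻¹ * h ∈ N ⊓ H :=
    Subgroup.mem_inf.mpr ⟨h3, H.mul_mem (H.inv_mem (H.zpow_mem b.2 j)) hh⟩
  have h5 := ha ⟨_, h4⟩
  rw [Subgroup.mem_zpowers_iff] at h5
  obtain ⟨i, hi⟩ := h5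
  refine ⟨i, j, ?_⟩
  have := congrArg Subtype.val hi
  simp only [Subgroup.coe_zpow] at this
  rw [this]; group

/-- a `p`-group with a two-element normal form has Frattini quotient of order dividing `p^2`. -/
theorem card_quot_frattini_dvd {Q : Type*} [Group Q] [Finite Q] (p : ℕ) [Fact p.Prime]
    (hQ : IsPGroup p Q) (a b : Q) (hab : ∀ h : Q, ∃ i j : ℤ, h = b ^ j * a ^ i) :
    Nat.card (Q ⧸ frattini Q) ∣ p ^ 2 := by
  have hp := (Fact.out : p.Prime)
  haveI : NeZero p := ⟨hp.ne_zero⟩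
  have hV : IsPGroup p (Q ⧸ frattini Q) := hQ.to_quotient _
  obtain ⟨e, he⟩ := IsPGroup.iff_card.mp hV
  have hpow : ∀ x : Q, (x : Q ⧸ frattini Q) ^ p = 1 := by
    intro x
    rw [← QuotientGroup.mk_pow, QuotientGroup.eq_one_iff]
    exact (Cfsg.Agent.S0012.result p hQ).2 x
  let f : ZMod p × ZMod p → Q ⧸ frattini Q :=
    fun x => (b : Q ⧸ frattini Q) ^ (x.2.val) * (a : Q ⧸ frattini Q) ^ (x.1.val)
  have hsurj : Function.Surjective f := by
    intro v
    induction v using QuotientGroup.induction_on with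
    | H h =>
      obtain ⟨i, j, hij⟩ := hab h
      refine ⟨((i : ZMod p), (j : ZMod p)), ?_⟩
      show (b : Q ⧸ frattini Q) ^ ((j : ZMod p).val) * (a : Q ⧸ frattini Q) ^ ((i : ZMod p).val) = _
      rw [hij, QuotientGroup.mk_mul, QuotientGroup.mk_zpow, QuotientGroup.mk_zpow,
        ← zpow_natCast, ← zpow_natCast, ZMod.val_intCast, ZMod.val_intCast,
        ← zpow_eq_zpow_emod' _ (hpow b), ← zpow_eq_zpow_emod' _ (hpow a)]
  have hle : Nat.card (Q ⧸ frattini Q) ≤ p ^ 2 := by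
    have := Nat.card_le_card_of_surjective f hsurj
    rwa [Nat.card_prod, Nat.card_zmod, ← sq] at this
  rw [he] at hle ⊢
  exact pow_dvd_pow p ((Nat.pow_le_pow_iff_right hp.one_lt).mp hle)

/-- a `q`-element normalizing but not centralizing a `p`-group `Q` with `|Q/Φ(Q)| ∣ p^2` has
`q ∣ p^2 - 1`. -/
theorem prime_dvd_of_not_centralize {G : Type*} [Group G] [Finite G] (p q : ℕ) [Fact p.Prime]
    [Fact q.Prime] (hpq : q ≠ p) (Q : Subgroup G) (hQ : IsPGroup p Q) (g : G)
    (hg : g ∈ normalizer (Q : Set G)) (j : ℕ) (hord : orderOf g = q ^ j)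
    (hcard : Nat.card (↥Q ⧸ frattini ↥Q) ∣ p ^ 2)
    (hnc : g ∉ centralizer (Q : Set G)) : q ∣ p ^ 2 - 1 := by
  have hp := (Fact.out : p.Prime)
  have hq := (Fact.out : q.Prime)
  let X : Subgroup G := zpowers g
  have hXN : X ≤ normalizer (Q : Set G) := zpowers_le.mpr hg
  letI act : MulDistribMulAction X Q := Cfsg.Agent.Lib.Helper6_ConjAct.conjNormalizer X Q hXN
  have hsmul : ∀ (k : X) (c : Q), ((k • c : Q) : G) = (k : G) * (c : G) * (k : G)⁻¹ :=
    fun k c => rfl
  have hfr : ∀ (k : X) (c : Q), c ∈ frattini Q → k • c ∈ frattini Q := by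
    intro k c hc
    have h1 := (frattini_characteristic (G := Q)).fixed (MulDistribMulAction.toMulEquiv Q k⁻¹)
    have h2 : k • c ∈ (frattini Q).comap (MulDistribMulAction.toMulEquiv Q k⁻¹).toMonoidHom := by
      rw [Subgroup.mem_comap]
      show k⁻¹ • (k • c) ∈ frattini Q
      rwa [inv_smul_smul]
    rwa [h1] at h2
  haveI : MulAction.QuotientAction X (frattini Q) := ⟨fun k a a' h => by
    rw [← smul_inv', ← smul_mul']; exact hfr k _ h⟩
  have hXp : IsPGroup q X := by
    apply IsPGroup.of_card (n := j)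
    rw [Nat.card_zpowers, hord]
  have hmod := hXp.card_modEq_card_fixedPoints (Q ⧸ frattini Q)
  have hmulV : ∀ (k : X) (x y : Q ⧸ frattini Q), k • (x * y) = k • x * k • y := by
    intro k x y
    induction x using QuotientGroup.induction_on with
    | H a =>
      induction y using QuotientGroup.induction_on with
      | H b =>
        rw [← QuotientGroup.mk_mul, MulAction.Quotient.smul_mk, MulAction.Quotient.smul_mk,
          MulAction.Quotient.smul_mk, smul_mul', QuotientGroup.mk_mul]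
  have hinvV : ∀ (k : X) (x : Q ⧸ frattini Q), k • x⁻¹ = (k • x)⁻¹ := by
    intro k x
    induction x using QuotientGroup.induction_on with
    | H a =>
      rw [← QuotientGroup.mk_inv, MulAction.Quotient.smul_mk, MulAction.Quotient.smul_mk,
        smul_inv', QuotientGroup.mk_inv]
  have honeV : ∀ (k : X), k • (1 : Q ⧸ frattini Q) = 1 := by
    intro k
    rw [← QuotientGroup.mk_one, MulAction.Quotient.smul_mk, smul_one]
  let F : Subgroup (Q ⧸ frattini Q) :=
    { carrier := MulAction.fixedPoints X (Q ⧸ frattini Q)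
      mul_mem' := by
        intro x y hx hy k
        rw [hmulV, hx k, hy k]
      one_mem' := fun k => honeV k
      inv_mem' := by
        intro x hx k
        rw [hinvV, hx k] }
  have hFcard : Nat.card (MulAction.fixedPoints X (Q ⧸ frattini Q)) = Nat.card F := rfl
  rw [hFcard] at hmod
  by_cases hF : F = ⊤
  · exfalso
    apply hnc
    have hcop : (Nat.card X).Coprime (Nat.card (frattini ↥Q)) := by
      have h1 : IsPGroup p (frattini ↥Q) := hQ.to_subgroup _
      obtain ⟨e, he⟩ := IsPGroup.iff_card.mp h1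
      rw [he, Nat.card_zpowers, hord]
      apply Nat.Coprime.pow
      exact (Nat.coprime_primes hq hp).mpr hpq
    have htriv : ∀ a ∈ X, ∀ k ∈ Q, a * k * a⁻¹ * k⁻¹ ∈ (frattini ↥Q).map Q.subtype := by
      intro a ha k hk
      have h1 : ((⟨k, hk⟩ : Q) : Q ⧸ frattini Q) ∈ F := by rw [hF]; exact Subgroup.mem_top _
      have h2 : (⟨a, ha⟩ : X) • ((⟨k, hk⟩ : Q) : Q ⧸ frattini Q) = ((⟨k, hk⟩ : Q) : Q ⧸ frattini Q) :=
        h1 ⟨a, ha⟩
      rw [MulAction.Quotient.smul_mk] at h2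
      have h3 : ((⟨a, ha⟩ : X) • (⟨k, hk⟩ : Q))⁻¹ * (⟨k, hk⟩ : Q) ∈ frattini Q :=
        QuotientGroup.eq.mp h2
      have h4 : ((⟨a, ha⟩ : X) • (⟨k, hk⟩ : Q)) * (((⟨a, ha⟩ : X) • (⟨k, hk⟩ : Q))⁻¹ * (⟨k, hk⟩ : Q))⁻¹
          * ((⟨a, ha⟩ : X) • (⟨k, hk⟩ : Q))⁻¹ ∈ frattini Q :=
        (inferInstance : (frattini ↥Q).Normal).conj_mem _ ((frattini ↥Q).inv_mem h3) _
      refine ⟨_, h4, ?_⟩
      simp only [Subgroup.subtype_apply, Subgroup.coe_mul, Subgroup.coe_inv, hsmul]
      group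
    exact Cfsg.Agent.S0029.result X Q hXN hcop htriv (mem_zpowers g)
  · have hlt : Nat.card F < Nat.card (↥Q ⧸ frattini ↥Q) := by
      rw [← Subgroup.card_top (G := ↥Q ⧸ frattini ↥Q)]
      refine lt_of_le_of_ne (Subgroup.card_le_of_le le_top) ?_
      intro heq
      exact hF (Subgroup.eq_of_le_of_card_ge le_top heq.ge)
    have hFd : Nat.card F ∣ Nat.card (↥Q ⧸ frattini ↥Q) := Subgroup.card_subgroup_dvd_card F
    obtain ⟨e, he, hVe⟩ := (Nat.dvd_prime_pow hp).mp hcard
    rw [hVe] at hFd hlt hmod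
    obtain ⟨f, hf, hFf⟩ := (Nat.dvd_prime_pow hp).mp hFd
    rw [hFf] at hlt hmod
    have hfe : f < e := (Nat.pow_lt_pow_iff_right hp.one_lt).mp hlt
    have hd : q ∣ p ^ e - p ^ f := (Nat.modEq_iff_dvd' hlt.le).mp hmod.symm
    have hqp : q.Coprime p := (Nat.coprime_primes hq hp).mpr hpq
    have key : ∀ d : ℕ, q ∣ p ^ d * (p - 1) → q ∣ p ^ 2 - 1 := by
      intro d hd
      have h1 : q ∣ p - 1 := (hqp.pow_right d).dvd_of_dvd_mul_left hd
      have h2 : p ^ 2 - 1 = (p - 1) * (p + 1) := by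
        have : 1 ≤ p := hp.one_lt.le
        obtain ⟨m, rfl⟩ : ∃ m, p = m + 1 := ⟨p - 1, by omega⟩
        simp only [Nat.add_sub_cancel]
        ring_nf
        omega
      rw [h2]; exact h1.mul_right _
    interval_cases e
    · omega
    · have : f = 0 := by omega
      subst this
      apply key 0
      simpa using hd
    · interval_cases f
      · simpa using hd
      · apply key 1
        have h2 : p ^ 2 - p ^ 1 = p ^ 1 * (p - 1) := by
          have : 1 ≤ p := hp.one_lt.le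
          obtain ⟨m, rfl⟩ : ∃ m, p = m + 1 := ⟨p - 1, by omega⟩
          simp only [Nat.add_sub_cancel, pow_one]
          have : (m + 1) ^ 2 = (m + 1) * m + (m + 1) := by ring
          rw [this, Nat.add_sub_cancel]
        rwa [h2] at hd

end Cfsg.Agent.Lib.Helper7_Metacyclic
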