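import Mathlib
import Cfsg.Prelude
import Cfsg.Agent.Lib.Helper7_Metacyclic
import Cfsg.Agent.Lib.Helper5_PPrime

set_option autoImplicit false

/-! Frattini quotient of a `d`-generated `p`-group has order dividing `p^d`; a `q`-element acting
nontrivially gives `q ∣ p^i - 1` for some `1 ≤ i ≤ d`. -/

namespace Cfsg.Agent.Lib.Helper7_FrattiniAct

open Subgroup
open scoped commutatorElement

/-- In a commutative group of exponent `p`, a subgroup generated by `t` elements has order
dividing `p^t`. -/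
theorem card_closure_dvd {V : Type*} [Group V] [Finite V] (p : ℕ) [Fact p.Prime]
    (hcomm : ∀ x y : V, x * y = y * x) (hexp : ∀ x : V, x ^ p = 1) (T : Finset V) :
    Nat.card (closure (T : Set V)) ∣ p ^ T.card := by
  classical
  have hp := (Fact.out : p.Prime)
  induction T using Finset.induction_on with
  | empty => simp
  | insert t T ht ih =>
    rw [Finset.card_insert_of_notMem ht, Finset.coe_insert, Set.insert_eq, Subgroup.closure_union]
    haveI : (closure ({t} : Set V)).Normal := ⟨fun n hn g => by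
      rw [hcomm g n, mul_inv_cancel_right]; exact hn⟩
    have h1 := Cfsg.Agent.Lib.Helper5_PPrime.card_sup_dvd_mul (closure ({t} : Set V))
      (closure (T : Set V))
    have h2 : Nat.card (closure ({t} : Set V)) ∣ p := by
      rw [← Subgroup.zpowers_eq_closure, Nat.card_zpowers]
      exact orderOf_dvd_of_pow_eq_one (hexp t)
    rw [pow_succ, mul_comm]
    exact h1.trans (mul_dvd_mul h2 ih)

/-- Frattini quotient of a finite `p`-group has order dividing `p ^ rank`. -/
theorem card_quot_frattini_dvd_rank {Q : Type*} [Group Q] [Finite Q] (p : ℕ) [Fact p.Prime]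
    (hQ : IsPGroup p Q) : Nat.card (Q ⧸ frattini Q) ∣ p ^ Group.rank Q := by
  classical
  have hS := Cfsg.Agent.S0012.result p hQ
  have hcomm : ∀ x y : Q ⧸ frattini Q, x * y = y * x := by
    intro x y
    induction x using QuotientGroup.induction_on with
    | H a =>
      induction y using QuotientGroup.induction_on with
      | H b =>
        rw [← QuotientGroup.mk_mul, ← QuotientGroup.mk_mul]
        apply QuotientGroup.eq.mpr
        apply hS.1
        have : (a * b)⁻¹ * (b * a) = ⁅b⁻¹, a⁻¹⁆ := by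
          rw [commutatorElement_def]; group
        rw [this]
        exact Subgroup.commutator_mem_commutator (Subgroup.mem_top _) (Subgroup.mem_top _)
  have hexp : ∀ x : Q ⧸ frattini Q, x ^ p = 1 := by
    intro x
    induction x using QuotientGroup.induction_on with
    | H a =>
      rw [← QuotientGroup.mk_pow, QuotientGroup.eq_one_iff]
      exact hS.2 a
  obtain ⟨S, hS1, hS2⟩ := Group.rank_spec Q
  have h1 := card_closure_dvd p hcomm hexp (S.image (QuotientGroup.mk' (frattini Q)))
  rw [Finset.coe_image, ← MonoidHom.map_closure, hS2,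
    Subgroup.map_top_of_surjective _ (QuotientGroup.mk'_surjective _), Subgroup.card_top] at h1
  refine h1.trans (pow_dvd_pow p ?_)
  rw [← hS1]
  exact Finset.card_image_le

/-- a `q`-element normalizing but not centralizing a `p`-group `Q` with `|Q/Φ(Q)| ∣ p^d` has
`q ∣ p^i - 1` for some `1 ≤ i ≤ d`. -/
theorem prime_dvd_of_not_centralize_gen {G : Type*} [Group G] [Finite G] (p q : ℕ) [Fact p.Prime]
    [Fact q.Prime] (hpq : q ≠ p) (Q : Subgroup G) (hQ : IsPGroup p Q) (g : G)
    (hg : g ∈ normalizer (Q : Set G)) (j : ℕ) (hord : orderOf g = q ^ j)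
    (d : ℕ) (hcard : Nat.card (↥Q ⧸ frattini ↥Q) ∣ p ^ d)
    (hnc : g ∉ centralizer (Q : Set G)) : ∃ i : ℕ, 1 ≤ i ∧ i ≤ d ∧ q ∣ p ^ i - 1 := by
  have hp := (Fact.out : p.Prime)
  have hq := (Fact.out : q.Prime)
  let X : Subgroup G := zpowers g
  have hXN : X ≤ normalizer (Q : Set G) := zpowers_le.mpr hg
  letI act : MulDistribMulAction X Q := Cfsg.Agent.Lib.Helper6_ConjAct.conjNormalizer X Q hXN
  have hsmul : ∀ (k : X) (c : Q), ((k • c : Q) : G) = (k : G) * (c : G) * (k : G)⁻¹ :=
    fun k c => rfl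
  have hfr : ∀ (k : X) (c : Q), c ∈ frattini Q → k • c ∈ frattini Q := by
    intro k c hc
    have h1 := (frattini_characteristic (G := Q)).fixed (MulDistribMulAction.toMulEquiv Q k⁻¹)
    have h2 : k • c ∈ (frattini Q).comap (MulDistribMulAction.toMulEquiv Q k⁻¹).toMonoidHom := by
      rw [Subgroup.mem_comap]
      show k⁻¹ • (k • c) ∈ frattini Q
      rwa [inv_smul_smul]
    rwa [h1] at h2
  haveI : MulAction.QuotientAction X (frattini Q) := ⟨fun k a a' h => by
    rw [← smul_inv', ← smul_mul']; exact hfr k _ h⟩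
  have hXp : IsPGroup q X := by
    apply IsPGroup.of_card (n := j)
    rw [Nat.card_zpowers, hord]
  have hmod := hXp.card_modEq_card_fixedPoints (Q ⧸ frattini Q)
  have hmulV : ∀ (k : X) (x y : Q ⧸ frattini Q), k • (x * y) = k • x * k • y := by
    intro k x y
    induction x using QuotientGroup.induction_on with
    | H a =>
      induction y using QuotientGroup.induction_on with
      | H b =>
        rw [← QuotientGroup.mk_mul, MulAction.Quotient.smul_mk, MulAction.Quotient.smul_mk,
          MulAction.Quotient.smul_mk, smul_mul', QuotientGroup.mk_mul]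
  have hinvV : ∀ (k : X) (x : Q ⧸ frattini Q), k • x⁻¹ = (k • x)⁻¹ := by
    intro k x
    induction x using QuotientGroup.induction_on with
    | H a =>
      rw [← QuotientGroup.mk_inv, MulAction.Quotient.smul_mk, MulAction.Quotient.smul_mk,
        smul_inv', QuotientGroup.mk_inv]
  have honeV : ∀ (k : X), k • (1 : Q ⧸ frattini Q) = 1 := by
    intro k
    rw [← QuotientGroup.mk_one, MulAction.Quotient.smul_mk, smul_one]
  let F : Subgroup (Q ⧸ frattini Q) :=
    { carrier := MulAction.fixedPoints X (Q ⧸ frattini Q)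
      mul_mem' := by
        intro x y hx hy k
        rw [hmulV, hx k, hy k]
      one_mem' := fun k => honeV k
      inv_mem' := by
        intro x hx k
        rw [hinvV, hx k] }
  have hFcard : Nat.card (MulAction.fixedPoints X (Q ⧸ frattini Q)) = Nat.card F := rfl
  rw [hFcard] at hmod
  by_cases hF : F = ⊤
  · exfalso
    apply hnc
    have hcop : (Nat.card X).Coprime (Nat.card (frattini ↥Q)) := by
      have h1 : IsPGroup p (frattini ↥Q) := hQ.to_subgroup _
      obtain ⟨e, he⟩ := IsPGroup.iff_card.mp h1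
      rw [he, Nat.card_zpowers, hord]
      apply Nat.Coprime.pow
      exact (Nat.coprime_primes hq hp).mpr hpq
    have htriv : ∀ a ∈ X, ∀ k ∈ Q, a * k * a⁻¹ * k⁻¹ ∈ (frattini ↥Q).map Q.subtype := by
      intro a ha k hk
      have h1 : ((⟨k, hk⟩ : Q) : Q ⧸ frattini Q) ∈ F := by rw [hF]; exact Subgroup.mem_top _
      have h2 : (⟨a, ha⟩ : X) • ((⟨k, hk⟩ : Q) : Q ⧸ frattini Q) = ((⟨k, hk⟩ : Q) : Q ⧸ frattini Q) :=
        h1 ⟨a, ha⟩
      rw [MulAction.Quotient.smul_mk] at h2
      have h3 : ((⟨a, ha⟩ : X) • (⟨k, hk⟩ : Q))⁻¹ * (⟨k, hk⟩ : Q) ∈ frattini Q :=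
        QuotientGroup.eq.mp h2
      have h4 : ((⟨a, ha⟩ : X) • (⟨k, hk⟩ : Q)) * (((⟨a, ha⟩ : X) • (⟨k, hk⟩ : Q))⁻¹ * (⟨k, hk⟩ : Q))⁻¹
          * ((⟨a, ha⟩ : X) • (⟨k, hk⟩ : Q))⁻¹ ∈ frattini Q :=
        (inferInstance : (frattini ↥Q).Normal).conj_mem _ ((frattini ↥Q).inv_mem h3) _
      refine ⟨_, h4, ?_⟩
      simp only [Subgroup.subtype_apply, Subgroup.coe_mul, Subgroup.coe_inv, hsmul]
      group
    exact Cfsg.Agent.S0029.result X Q hXN hcop htriv (mem_zpowers g)
  · have hlt : Nat.card F < Nat.card (↥Q ⧸ frattini ↥Q) := by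
      rw [← Subgroup.card_top (G := ↥Q ⧸ frattini ↥Q)]
      refine lt_of_le_of_ne (Subgroup.card_le_of_le le_top) ?_
      intro heq
      exact hF (Subgroup.eq_of_le_of_card_ge le_top heq.ge)
    have hFd : Nat.card F ∣ Nat.card (↥Q ⧸ frattini ↥Q) := Subgroup.card_subgroup_dvd_card F
    obtain ⟨e, he, hVe⟩ := (Nat.dvd_prime_pow hp).mp hcard
    rw [hVe] at hFd hlt hmod
    obtain ⟨f, hf, hFf⟩ := (Nat.dvd_prime_pow hp).mp hFd
    rw [hFf] at hlt hmod
    have hfe : f < e := (Nat.pow_lt_pow_iff_right hp.one_lt).mp hlt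
    have hd : q ∣ p ^ e - p ^ f := (Nat.modEq_iff_dvd' hlt.le).mp hmod.symm
    have hqp : q.Coprime p := (Nat.coprime_primes hq hp).mpr hpq
    refine ⟨e - f, by omega, by omega, ?_⟩
    have h2 : p ^ e - p ^ f = p ^ f * (p ^ (e - f) - 1) := by
      rw [Nat.mul_sub, mul_one, ← pow_add]
      congr 2
      omega
    rw [h2] at hd
    exact (hqp.pow_right f).dvd_of_dvd_mul_left hd

end Cfsg.Agent.Lib.Helper7_FrattiniAct
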