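import Mathlib
import Cfsg.Prelude.Def_Solvable

set_option autoImplicit false

/-!
Basic facts on Frobenius complements (`Cfsg.IsFrobeniusComplement`) and kernels (helper7).
-/

namespace Cfsg.Agent.Lib.Helper7_FrobBasic

open scoped Pointwise

theorem mem_conj_smul_iff {G : Type*} [Group G] (g x : G) (H : Subgroup G) :
    x ∈ MulAut.conj g • H ↔ g⁻¹ * x * g ∈ H := by
  rw [Subgroup.mem_pointwise_smul_iff_inv_smul_mem, MulAut.smul_def, MulAut.conj_inv_apply]

/-- In a Frobenius group, an element commuting with a nonidentity element of a conjugate of the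
complement lies in that conjugate. -/
theorem commute_mem_conj {T : Type*} [Group T] (H : Subgroup T) (hF : Cfsg.IsFrobeniusComplement H)
    (t x g : T) (hx : x ∈ MulAut.conj t • H) (hx1 : x ≠ 1) (hg : g * x = x * g) :
    g ∈ MulAut.conj t • H := by
  rw [mem_conj_smul_iff] at hx ⊢
  by_contra hgn
  have h1 := hF.2.2 (t⁻¹ * g * t) hgn
  -- y := t⁻¹ x t lies in H and in its conjugate by t⁻¹ g t
  have hy2 : t⁻¹ * x * t ∈ MulAut.conj (t⁻¹ * g * t) • H := by
    rw [mem_conj_smul_iff]
    have e : (t⁻¹ * g * t)⁻¹ * (t⁻¹ * x * t) * (t⁻¹ * g * t) = t⁻¹ * (g⁻¹ * x * g) * t := by group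
    have e2 : g⁻¹ * x * g = x := by
      rw [mul_assoc, ← hg, ← mul_assoc, inv_mul_cancel, one_mul]
    rw [e, e2]
    exact hx
  have h2 : t⁻¹ * x * t ∈ H ⊓ MulAut.conj (t⁻¹ * g * t) • H := ⟨hx, hy2⟩
  rw [h1, Subgroup.mem_bot] at h2
  apply hx1
  have : x = t * (t⁻¹ * x * t) * t⁻¹ := by group
  rw [this, h2]; group

/-- In a Frobenius group, an element commuting with a nonidentity element of the kernel lies in
the kernel. -/
theorem commute_mem_kernel {T : Type*} [Group T] (H : Subgroup T) (hF : Cfsg.IsFrobeniusComplement H)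
    (x g : T) (hx : x ∈ Cfsg.frobeniusKernel H) (hx1 : x ≠ 1) (hg : g * x = x * g) :
    g ∈ Cfsg.frobeniusKernel H := by
  by_contra hgn
  have hgn' : ¬ (g = 1 ∨ ∀ t : T, g ∉ MulAut.conj t • H) := hgn
  push Not at hgn'
  obtain ⟨hg1, t, hgt⟩ := hgn'
  have h1 := commute_mem_conj H hF t g x hgt hg1 hg.symm
  rcases hx with hx | hx
  · exact hx1 hx
  · exact hx t h1

/-- every element is in the kernel or in a conjugate of the complement -/
theorem mem_kernel_or_conj {T : Type*} [Group T] (H : Subgroup T) (x : T) :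
    x ∈ Cfsg.frobeniusKernel H ∨ ∃ t : T, x ∈ MulAut.conj t • H := by
  by_cases h : ∃ t : T, x ∈ MulAut.conj t • H
  · exact Or.inr h
  · push Not at h
    exact Or.inl (Or.inr h)

/-- a nonidentity element of a conjugate of the complement is not in the kernel -/
theorem not_mem_kernel_of_mem_conj {T : Type*} [Group T] (H : Subgroup T) (t x : T)
    (hx : x ∈ MulAut.conj t • H) (hx1 : x ≠ 1) : x ∉ Cfsg.frobeniusKernel H := by
  rintro (h | h)
  · exact hx1 h
  · exact h t hx

end Cfsg.Agent.Lib.Helper7_FrobBasic
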