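import Mathlib
import Cfsg.Agent.Lib.Helper7_Basic

set_option autoImplicit false

namespace Cfsg.Agent.Lib.Helper7_FrobDiv

open scoped Classical

section basic
variable {G : Type*} [Group G]

/-- solutions of `x ^ n = 1` as a finset. -/
noncomputable def Lset [Fintype G] (n : ℕ) : Finset G := Finset.univ.filter (fun x : G => x ^ n = 1)

theorem mem_Lset [Fintype G] {n : ℕ} {x : G} : x ∈ Lset (G := G) n ↔ x ^ n = 1 := by
  simp [Lset]

theorem card_Lset [Fintype G] (n : ℕ) : (Lset (G := G) n).card = Nat.card {g : G // g ^ n = 1} := by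
  rw [Nat.card_eq_fintype_card, Fintype.card_subtype]
  rfl

theorem pow_gcd_card_iff [Finite G] (x : G) (n : ℕ) :
    x ^ (Nat.gcd n (Nat.card G)) = 1 ↔ x ^ n = 1 := by
  rw [← orderOf_dvd_iff_pow_eq_one, ← orderOf_dvd_iff_pow_eq_one, Nat.dvd_gcd_iff]
  exact ⟨fun h => h.1, fun h => ⟨h, orderOf_dvd_natCard x⟩⟩

theorem card_pow_gcd [Finite G] (n : ℕ) :
    Nat.card {g : G // g ^ (Nat.gcd n (Nat.card G)) = 1} = Nat.card {g : G // g ^ n = 1} := by
  apply Nat.card_congr
  exact Equiv.subtypeEquivRight (fun x => pow_gcd_card_iff x n)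

/-- number of generators of the cyclic group generated by `x`. -/
theorem card_zpowers_eq [Finite G] (x : G) :
    Nat.card {y : G // Subgroup.zpowers y = Subgroup.zpowers x} = (orderOf x).totient := by
  haveI : Fintype (Subgroup.zpowers x) := Fintype.ofFinite _
  have h1 := IsCyclic.card_orderOf_eq_totient (α := Subgroup.zpowers x) (d := orderOf x)
    (by rw [← Nat.card_eq_fintype_card, Nat.card_zpowers])
  rw [← h1, ← Fintype.card_subtype, ← Nat.card_eq_fintype_card]
  apply Nat.card_congr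
  refine ⟨fun y => ⟨⟨y.1, ?_⟩, ?_⟩, fun z => ⟨z.1.1, ?_⟩, ?_, ?_⟩
  · have h2 : y.1 ∈ Subgroup.zpowers y.1 := Subgroup.mem_zpowers y.1
    have h3 := y.2
    rw [h3] at h2
    exact h2
  · show orderOf (⟨y.1, _⟩ : Subgroup.zpowers x) = orderOf x
    rw [← Subgroup.orderOf_coe]
    show orderOf y.1 = orderOf x
    rw [← Nat.card_zpowers, ← Nat.card_zpowers x, y.2]
  · have hz : orderOf z.1 = orderOf x := z.2
    rw [← Subgroup.orderOf_coe] at hz
    have hle : Subgroup.zpowers (z.1 : G) ≤ Subgroup.zpowers x :=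
      (Subgroup.zpowers_le).mpr z.1.2
    apply Subgroup.eq_of_le_of_card_ge hle
    rw [Nat.card_zpowers, Nat.card_zpowers, hz]
  · intro y; rfl
  · intro z; rfl

/-- arithmetic: a divisor of `p^(a+1) k` not dividing `p^a k` is divisible by `p^(a+1)`. -/
theorem pow_succ_dvd_of {p a k d : ℕ} (hp : p.Prime) (h1 : d ∣ p ^ (a + 1) * k)
    (h2 : ¬ d ∣ p ^ a * k) : p ^ (a + 1) ∣ d := by
  obtain ⟨d1, d2, hd1, hd2, rfl⟩ := (Nat.dvd_mul).mp h1
  obtain ⟨j, hj, rfl⟩ := (Nat.dvd_prime_pow hp).mp hd1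
  rcases Nat.lt_or_ge j (a + 1) with hlt | hge
  · exfalso
    apply h2
    exact Nat.mul_dvd_mul (pow_dvd_pow p (by omega)) hd2
  · have : j = a + 1 := le_antisymm hj hge
    subst this
    exact Dvd.intro _ rfl

/-- Step 1 of the Isaacs--Robinson proof. -/
theorem step1 [Fintype G] (A : Finset G)
    (hA : ∀ x y, x ∈ A → Subgroup.zpowers y = Subgroup.zpowers x → y ∈ A)
    (p a : ℕ) (hp : p.Prime) (h : ∀ x ∈ A, p ^ (a + 1) ∣ orderOf x) : p ^ a ∣ A.card := by
  rw [Finset.card_eq_sum_card_image (fun x => Subgroup.zpowers x) A]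
  apply Finset.dvd_sum
  intro b hb
  obtain ⟨x, hx, rfl⟩ := Finset.mem_image.mp hb
  have h1 : (A.filter (fun a => Subgroup.zpowers a = Subgroup.zpowers x)) =
      Finset.univ.filter (fun a => Subgroup.zpowers a = Subgroup.zpowers x) := by
    ext y
    simp only [Finset.mem_filter, Finset.mem_univ, true_and, and_iff_right_iff_imp]
    exact fun hy => hA x y hx hy
  rw [h1, ← Fintype.card_subtype, ← Nat.card_eq_fintype_card, card_zpowers_eq]
  have h2 : (p ^ (a + 1)).totient ∣ (orderOf x).totient := Nat.totient_dvd_of_dvd (h x hx)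
  rw [Nat.totient_prime_pow_succ hp] at h2
  exact (Dvd.intro _ rfl).trans h2

/-- Step 1, sharper form. -/
theorem step1' [Fintype G] (A : Finset G)
    (hA : ∀ x y, x ∈ A → Subgroup.zpowers y = Subgroup.zpowers x → y ∈ A)
    (p a : ℕ) (hp : p.Prime) (h : ∀ x ∈ A, p ^ (a + 1) ∣ orderOf x) :
    p ^ a * (p - 1) ∣ A.card := by
  rw [Finset.card_eq_sum_card_image (fun x => Subgroup.zpowers x) A]
  apply Finset.dvd_sum
  intro b hb
  obtain ⟨x, hx, rfl⟩ := Finset.mem_image.mp hb
  have h1 : (A.filter (fun a => Subgroup.zpowers a = Subgroup.zpowers x)) =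
      Finset.univ.filter (fun a => Subgroup.zpowers a = Subgroup.zpowers x) := by
    ext y
    simp only [Finset.mem_filter, Finset.mem_univ, true_and, and_iff_right_iff_imp]
    exact fun hy => hA x y hx hy
  rw [h1, ← Fintype.card_subtype, ← Nat.card_eq_fintype_card, card_zpowers_eq]
  have h2 : (p ^ (a + 1)).totient ∣ (orderOf x).totient := Nat.totient_dvd_of_dvd (h x hx)
  rw [Nat.totient_prime_pow_succ hp] at h2
  exact h2

end basic

section step2
variable {G : Type*} [Group G]

theorem pow_one_of_dvd {x : G} {m n : ℕ} (h : x ^ m = 1) (hd : m ∣ n) : x ^ n = 1 :=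
  orderOf_dvd_iff_pow_eq_one.mp ((orderOf_dvd_iff_pow_eq_one.mpr h).trans hd)

theorem pow_eq_self_of_modEq {x : G} {m n : ℕ} (h : x ^ m = 1) (hn : n ≡ 1 [MOD m]) : x ^ n = x := by
  have h1 : x ^ n = x ^ 1 :=
    pow_eq_pow_iff_modEq.mpr (hn.of_dvd (orderOf_dvd_iff_pow_eq_one.mpr h))
  rwa [pow_one] at h1

theorem step2_card [Fintype G] (p a k : ℕ) [hp : Fact p.Prime] (hpk : ¬ p ∣ k) :
    (Finset.univ.filter (fun x : G => x ^ (p ^ (a + 1) * k) = 1 ∧ x ^ (p ^ a * k) ≠ 1)).card =
      ∑ y ∈ Finset.univ.filter (fun y : G => orderOf y = p ^ (a + 1)),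
        (Finset.univ.filter (fun z : G => Commute y z ∧ z ^ k = 1)).card := by
  have hcop : Nat.Coprime (p ^ (a + 1)) k :=
    Nat.Coprime.pow_left _ ((Nat.Prime.coprime_iff_not_dvd hp.out).mpr hpk)
  obtain ⟨u, hu1, hu2⟩ := Nat.chineseRemainder hcop 1 0
  obtain ⟨v, hv1, hv2⟩ := Nat.chineseRemainder hcop 0 1
  have hku : k ∣ u := (Nat.modEq_zero_iff_dvd).mp hu2
  have hpv : p ^ (a + 1) ∣ v := (Nat.modEq_zero_iff_dvd).mp hv1
  have huv : u + v ≡ 1 [MOD p ^ (a + 1) * k] :=
    (Nat.modEq_and_modEq_iff_modEq_mul hcop).mp ⟨hu1.add hv1, hu2.add hv2⟩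
  rw [← Finset.card_sigma]
  apply Finset.card_nbij' (fun x => (⟨x ^ u, x ^ v⟩ : Sigma (fun _ : G => G)))
    (fun yz => yz.1 * yz.2)
  · intro x hx
    simp only [Finset.coe_filter, Finset.mem_univ, true_and, Set.mem_ofPred_eq] at hx
    obtain ⟨hx1, hx2⟩ := hx
    have hsplit : x ^ u * x ^ v = x := by
      rw [← pow_add]; exact pow_eq_self_of_modEq hx1 huv
    simp only [Finset.coe_sigma, Finset.coe_filter, Finset.mem_univ, true_and, Set.mem_sigma_iff,
      Set.mem_ofPred_eq]
    refine ⟨?_, (Commute.refl x).pow_pow u v, ?_⟩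
    · apply orderOf_eq_prime_pow
      · intro h0
        apply hx2
        have h3 : (x ^ u * x ^ v) ^ (p ^ a * k) = 1 := by
          rw [((Commute.refl x).pow_pow u v).mul_pow, pow_mul (x ^ u), h0, one_pow, one_mul,
            ← pow_mul]
          apply pow_one_of_dvd hx1
          exact Nat.mul_dvd_mul hpv (Dvd.intro_left _ rfl)
        rwa [hsplit] at h3
      · rw [← pow_mul]
        apply pow_one_of_dvd hx1
        obtain ⟨t, ht⟩ := hku
        rw [ht]
        exact ⟨t, by ring⟩
    · rw [← pow_mul]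
      apply pow_one_of_dvd hx1
      exact Nat.mul_dvd_mul hpv dvd_rfl
  · rintro ⟨y, z⟩ hyz
    simp only [Finset.coe_sigma, Finset.coe_filter, Finset.mem_univ, true_and, Set.mem_sigma_iff,
      Set.mem_ofPred_eq] at hyz
    obtain ⟨hy, hc, hz⟩ := hyz
    simp only [Finset.coe_filter, Finset.mem_univ, true_and, Set.mem_ofPred_eq]
    have hy1 : y ^ (p ^ (a + 1)) = 1 := by rw [← hy]; exact pow_orderOf_eq_one y
    refine ⟨?_, ?_⟩
    · rw [hc.mul_pow, pow_one_of_dvd hy1 (Dvd.intro _ rfl), pow_one_of_dvd hz (Dvd.intro_left _ rfl),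
        one_mul]
    · rw [hc.mul_pow, pow_one_of_dvd hz (Dvd.intro_left _ rfl), mul_one]
      intro h0
      have h1 : p ^ (a + 1) ∣ p ^ a * k := by
        rw [← hy]; exact orderOf_dvd_iff_pow_eq_one.mpr h0
      have h2 : p ^ (a + 1) ∣ p ^ a := hcop.dvd_of_dvd_mul_right h1
      have h3 := (Nat.pow_dvd_pow_iff_le_right hp.out.one_lt).mp h2
      omega
  · intro x hx
    simp only [Finset.coe_filter, Finset.mem_univ, true_and, Set.mem_ofPred_eq] at hx
    show x ^ u * x ^ v = x
    rw [← pow_add]; exact pow_eq_self_of_modEq hx.1 huv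
  · rintro ⟨y, z⟩ hyz
    simp only [Finset.coe_sigma, Finset.coe_filter, Finset.mem_univ, true_and, Set.mem_sigma_iff,
      Set.mem_ofPred_eq] at hyz
    obtain ⟨hy, hc, hz⟩ := hyz
    have hy1 : y ^ (p ^ (a + 1)) = 1 := by rw [← hy]; exact pow_orderOf_eq_one y
    show (⟨(y * z) ^ u, (y * z) ^ v⟩ : Sigma (fun _ : G => G)) = ⟨y, z⟩
    have e1 : (y * z) ^ u = y := by
      rw [hc.mul_pow, pow_one_of_dvd hz hku, mul_one]
      exact pow_eq_self_of_modEq hy1 hu1
    have e2 : (y * z) ^ v = z := by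
      rw [hc.mul_pow, pow_one_of_dvd hy1 hpv, one_mul]
      exact pow_eq_self_of_modEq hz hv2
    rw [e1, e2]

/-- divisibility of a sum of a class function over a conjugation-invariant set. -/
theorem dvd_sum_of_conj [Fintype G] (S : Finset G) (hS : ∀ g y, y ∈ S → g * y * g⁻¹ ∈ S)
    (f : G → ℕ) (hf : ∀ g y, f (g * y * g⁻¹) = f y) (k : ℕ)
    (h : ∀ y ∈ S, k ∣ (Subgroup.centralizer ({y} : Set G)).index * f y) :
    k ∣ ∑ y ∈ S, f y := by
  rw [← Finset.sum_fiberwise_of_maps_to (g := (ConjClasses.mk : G → ConjClasses G))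
    (t := Finset.univ) (fun _ _ => Finset.mem_univ _)]
  apply Finset.dvd_sum
  intro c _
  by_cases hne : (S.filter (fun y => ConjClasses.mk y = c)).Nonempty
  · obtain ⟨y0, hy0⟩ := hne
    rw [Finset.mem_filter] at hy0
    obtain ⟨hy0S, rfl⟩ := hy0
    have h1 : S.filter (fun y => ConjClasses.mk y = ConjClasses.mk y0) =
        Finset.univ.filter (fun y => IsConj y y0) := by
      ext y
      simp only [Finset.mem_filter, Finset.mem_univ, true_and, ConjClasses.mk_eq_mk_iff_isConj]
      refine ⟨fun hh => hh.2, fun hh => ⟨?_, hh⟩⟩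
      obtain ⟨g, hg⟩ := isConj_iff.mp hh.symm
      rw [← hg]
      exact hS g y0 hy0S
    rw [h1]
    have h2 : ∀ y ∈ Finset.univ.filter (fun y => IsConj y y0), f y = f y0 := by
      intro y hy
      rw [Finset.mem_filter] at hy
      obtain ⟨g, hg⟩ := isConj_iff.mp hy.2.symm
      rw [← hg]
      exact hf g y0
    rw [Finset.sum_congr rfl h2, Finset.sum_const, smul_eq_mul, ← Fintype.card_subtype,
      ← Nat.card_eq_fintype_card, Helper7_Basic.card_conj_class]
    exact h y0 hy0S
  · rw [Finset.not_nonempty_iff_eq_empty] at hne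
    rw [hne, Finset.sum_empty]
    exact dvd_zero k

/-- solutions of `x^k = 1` correspond bijectively to those in a quotient by a central subgroup
of order coprime to `k`. -/
theorem card_quot_central {H : Type*} [Group H] [Finite H] (Z : Subgroup H) [Z.Normal]
    (hZ : Z ≤ Subgroup.center H) (k : ℕ) (hk : Nat.Coprime k (Nat.card Z)) :
    Nat.card {x : H // x ^ k = 1} = Nat.card {q : H ⧸ Z // q ^ k = 1} := by
  apply Nat.card_eq_of_bijective
    (fun x => (⟨QuotientGroup.mk x.1, by rw [← QuotientGroup.mk_pow, x.2]; rfl⟩ :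
      {q : H ⧸ Z // q ^ k = 1}))
  constructor
  · rintro ⟨x, hx⟩ ⟨x', hx'⟩ h
    simp only [Subtype.mk.injEq] at h
    have hw : x⁻¹ * x' ∈ Z := QuotientGroup.eq.mp h
    have hx'w : x' = x * (x⁻¹ * x') := by group
    have hcomm : Commute x (x⁻¹ * x') := (Subgroup.mem_center_iff.mp (hZ hw) x)
    have hwk : (x⁻¹ * x') ^ k = 1 := by
      have h1 := hx'
      rw [hx'w, hcomm.mul_pow, hx, one_mul] at h1
      exact h1
    have hwZ : (x⁻¹ * x') ^ (Nat.card Z) = 1 := by
      have h1 := pow_card_eq_one' (G := Z) (x := ⟨x⁻¹ * x', hw⟩)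
      exact congrArg Subtype.val h1
    have h1 : orderOf (x⁻¹ * x') ∣ Nat.gcd k (Nat.card Z) :=
      Nat.dvd_gcd (orderOf_dvd_of_pow_eq_one hwk) (orderOf_dvd_of_pow_eq_one hwZ)
    rw [hk.gcd_eq_one] at h1
    have h2 : x⁻¹ * x' = 1 := orderOf_eq_one_iff.mp (Nat.dvd_one.mp h1)
    have h3 : x' = x := by rw [hx'w, h2, mul_one]
    subst h3
    rfl
  · rintro ⟨q, hq⟩
    obtain ⟨x, rfl⟩ := QuotientGroup.mk_surjective q
    have hxk : x ^ k ∈ Z := by
      rw [← QuotientGroup.eq_one_iff, QuotientGroup.mk_pow]; exact hq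
    have hxkZ : x ^ (k * Nat.card Z) = 1 := by
      rw [pow_mul]
      have h1 := pow_card_eq_one' (G := Z) (x := ⟨x ^ k, hxk⟩)
      exact congrArg Subtype.val h1
    obtain ⟨t, ht1, ht2⟩ := Nat.chineseRemainder hk 1 0
    have hZt : Nat.card Z ∣ t := (Nat.modEq_zero_iff_dvd).mp ht2
    refine ⟨⟨x ^ t, ?_⟩, ?_⟩
    · rw [← pow_mul]
      apply pow_one_of_dvd hxkZ
      rw [mul_comm t k]
      exact Nat.mul_dvd_mul dvd_rfl hZt
    · apply Subtype.ext
      show ((x ^ t : H) : H ⧸ Z) = (x : H ⧸ Z)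
      rw [QuotientGroup.mk_pow]
      exact pow_eq_self_of_modEq hq ht1

end step2

section main

/-- the induction hypothesis: Frobenius' theorem (gcd form) for groups of order `< N`. -/
def FrobLt.{u} (N : ℕ) : Prop :=
  ∀ (H : Type u) [Group H] [Finite H], Nat.card H < N →
    ∀ m : ℕ, Nat.gcd m (Nat.card H) ∣ Nat.card {x : H // x ^ m = 1}

universe u
variable {G : Type u} [Group G]

theorem per_y [Fintype G] (IH : FrobLt.{u} (Nat.card G)) (p a k : ℕ) [hp : Fact p.Prime]
    (hpk : ¬ p ∣ k) (hk : k ∣ Nat.card G) (y : G) (hy : orderOf y = p ^ (a + 1)) :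
    k ∣ (Subgroup.centralizer ({y} : Set G)).index *
      (Finset.univ.filter (fun z : G => Commute y z ∧ z ^ k = 1)).card := by
  have hcop : Nat.Coprime k (p ^ (a + 1)) :=
    (Nat.Coprime.pow_left _ ((Nat.Prime.coprime_iff_not_dvd hp.out).mpr hpk)).symm
  set C := Subgroup.centralizer ({y} : Set G) with hC
  have hyC : y ∈ C := Subgroup.mem_centralizer_singleton_iff.mpr rfl
  set Z : Subgroup C := Subgroup.zpowers (⟨y, hyC⟩ : C) with hZdef
  have hZc : Z ≤ Subgroup.center C := by
    intro w hw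
    obtain ⟨i, rfl⟩ := Subgroup.mem_zpowers_iff.mp hw
    rw [Subgroup.mem_center_iff]
    intro c
    have h1 : (c : G) * y = y * c := Subgroup.mem_centralizer_singleton_iff.mp c.2
    have h2 : Commute c (⟨y, hyC⟩ : C) := Subtype.ext h1
    exact (h2.zpow_right i)
  haveI hZn : Z.Normal := by
    constructor
    intro n hn g
    have h1 := Subgroup.mem_center_iff.mp (hZc hn) g
    rw [h1, mul_inv_cancel_right]
    exact hn
  have hZcard : Nat.card Z = p ^ (a + 1) := by
    rw [hZdef, Nat.card_zpowers, Subgroup.orderOf_mk, hy]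
  -- the count
  have h1 : (Finset.univ.filter (fun z : G => Commute y z ∧ z ^ k = 1)).card =
      Nat.card {x : C // x ^ k = 1} := by
    rw [← Fintype.card_subtype, ← Nat.card_eq_fintype_card]
    apply Nat.card_congr
    refine ⟨fun z => ⟨⟨z.1, ?_⟩, ?_⟩, fun x => ⟨x.1.1, ?_, ?_⟩, ?_, ?_⟩
    · exact Subgroup.mem_centralizer_singleton_iff.mpr z.2.1.eq.symm
    · apply Subtype.ext
      show z.1 ^ k = 1
      exact z.2.2
    · exact (Subgroup.mem_centralizer_singleton_iff.mp x.1.2).symm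
    · have := x.2
      exact congrArg Subtype.val this
    · intro z; rfl
    · intro x; rfl
  rw [h1, card_quot_central Z hZc k (by rw [hZcard]; exact hcop)]
  have hlt : Nat.card (C ⧸ Z) < Nat.card G := by
    have e1 := Subgroup.card_eq_card_quotient_mul_card_subgroup Z
    have e2 : Nat.card C ≤ Nat.card G := Subgroup.card_le_card_group C
    have e3 : 1 < Nat.card Z := by
      rw [hZcard]; exact Nat.one_lt_pow (by omega) hp.out.one_lt
    have e4 : 0 < Nat.card (C ⧸ Z) := Nat.card_pos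
    nlinarith
  have h2 := IH (C ⧸ Z) hlt k
  have e1 := Subgroup.card_eq_card_quotient_mul_card_subgroup Z
  have e2 := Subgroup.index_mul_card C
  have h3 : k ∣ C.index * Nat.card (C ⧸ Z) := by
    apply hcop.dvd_of_dvd_mul_right
    rw [mul_assoc, ← hZcard, ← e1, e2]
    exact hk
  have h4 : k ∣ C.index * Nat.gcd k (Nat.card (C ⧸ Z)) := by
    rw [← Nat.gcd_mul_left]
    exact Nat.dvd_gcd (Dvd.intro_left _ rfl) h3
  exact h4.trans (Nat.mul_dvd_mul dvd_rfl h2)

theorem card_comm_conj [Fintype G] (k : ℕ) (g y : G) :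
    (Finset.univ.filter (fun z : G => Commute (g * y * g⁻¹) z ∧ z ^ k = 1)).card =
      (Finset.univ.filter (fun z : G => Commute y z ∧ z ^ k = 1)).card := by
  apply Finset.card_nbij' (fun z => g⁻¹ * z * g) (fun z => g * z * g⁻¹)
  · intro z hz
    simp only [Finset.coe_filter, Finset.mem_univ, true_and, Set.mem_ofPred_eq] at hz ⊢
    obtain ⟨h1, h2⟩ := hz
    refine ⟨?_, ?_⟩
    · have h := h1.eq
      show y * (g⁻¹ * z * g) = g⁻¹ * z * g * y
      calc y * (g⁻¹ * z * g) = g⁻¹ * (g * y * g⁻¹ * z) * g := by group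
        _ = g⁻¹ * (z * (g * y * g⁻¹)) * g := by rw [h]
        _ = g⁻¹ * z * g * y := by group
    · have h3 : (g⁻¹ * z * g⁻¹⁻¹) ^ k = g⁻¹ * z ^ k * g⁻¹⁻¹ := conj_pow
      rw [inv_inv] at h3
      rw [h3, h2]; group
  · intro z hz
    simp only [Finset.coe_filter, Finset.mem_univ, true_and, Set.mem_ofPred_eq] at hz ⊢
    obtain ⟨h1, h2⟩ := hz
    refine ⟨?_, ?_⟩
    · have h := h1.eq
      show g * y * g⁻¹ * (g * z * g⁻¹) = g * z * g⁻¹ * (g * y * g⁻¹)
      calc g * y * g⁻¹ * (g * z * g⁻¹) = g * (y * z) * g⁻¹ := by group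
        _ = g * (z * y) * g⁻¹ := by rw [h]
        _ = g * z * g⁻¹ * (g * y * g⁻¹) := by group
    · rw [conj_pow, h2]; group
  · intro z _
    show g * (g⁻¹ * z * g) * g⁻¹ = z
    group
  · intro z _
    show g⁻¹ * (g * z * g⁻¹) * g = z
    group

theorem orderOf_eq_of_zpowers_eq {x y : G} (h : Subgroup.zpowers y = Subgroup.zpowers x) :
    orderOf y = orderOf x := by
  rw [← Nat.card_zpowers, ← Nat.card_zpowers x, h]

theorem inner [Fintype G] (IH : FrobLt.{u} (Nat.card G)) :
    ∀ d n : ℕ, n * d = Nat.card G → n ∣ (Lset (G := G) n).card := by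
  intro d
  induction d using Nat.strong_induction_on with
  | _ d ihd =>
    intro n hnd
    have hGpos : 0 < Nat.card G := Nat.card_pos
    have hd0 : d ≠ 0 := by rintro rfl; rw [mul_zero] at hnd; omega
    have hn0 : n ≠ 0 := by rintro rfl; rw [zero_mul] at hnd; omega
    by_cases hd1 : d = 1
    · subst hd1
      rw [mul_one] at hnd
      have h1 : Lset (G := G) n = Finset.univ := by
        ext x
        simp only [mem_Lset, Finset.mem_univ, iff_true]
        rw [hnd]; exact pow_card_eq_one'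
      rw [h1, Finset.card_univ, ← Nat.card_eq_fintype_card, hnd]
    · -- a prime divisor of d
      set p := d.minFac with hpdef
      have hp : p.Prime := Nat.minFac_prime hd1
      haveI : Fact p.Prime := ⟨hp⟩
      obtain ⟨d', hd'⟩ := Nat.minFac_dvd d
      rw [← hpdef] at hd'
      have hd'lt : d' < d := by
        have : 0 < d' := by
          rcases Nat.eq_zero_or_pos d' with h0 | h0
          · rw [h0, mul_zero] at hd'; exact absurd hd' hd0
          · exact h0
        have := hp.two_le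
        nlinarith
      have h1 : n * p ∣ (Lset (G := G) (n * p)).card :=
        ihd d' hd'lt (n * p) (by rw [mul_assoc, ← hd', hnd])
      obtain ⟨a, k, hpk, hnk⟩ := Nat.exists_eq_pow_mul_and_not_dvd hn0 p hp.one_lt.ne'
      have hcop : Nat.Coprime (p ^ a) k :=
        Nat.Coprime.pow_left _ ((Nat.Prime.coprime_iff_not_dvd hp).mpr hpk)
      have hnp : n * p = p ^ (a + 1) * k := by rw [hnk, pow_succ]; ring
      set A := Finset.univ.filter (fun x : G => x ^ (p ^ (a + 1) * k) = 1 ∧ x ^ (p ^ a * k) ≠ 1)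
        with hA
      have hsplit : (Lset (G := G) (n * p)).card = (Lset (G := G) n).card + A.card := by
        rw [← Finset.card_filter_add_card_filter_not (s := Lset (G := G) (n * p))
          (fun x => x ^ n = 1)]
        congr 1
        · congr 1
          ext x
          simp only [Finset.mem_filter, mem_Lset]
          exact ⟨fun h => h.2, fun h => ⟨pow_one_of_dvd h (Dvd.intro _ rfl), h⟩⟩
        · congr 1
          ext x
          simp only [Finset.mem_filter, mem_Lset, hA, Finset.mem_univ, true_and]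
          rw [hnp, hnk]
      -- n ∣ |A|
      have hkG : k ∣ Nat.card G := by
        rw [← hnd, hnk]; exact ⟨p ^ a * d, by ring⟩
      have hA1 : p ^ a ∣ A.card := by
        apply step1 A _ p a hp
        · intro x hx
          rw [hA, Finset.mem_filter] at hx
          exact pow_succ_dvd_of hp (orderOf_dvd_iff_pow_eq_one.mpr hx.2.1)
            (mt orderOf_dvd_iff_pow_eq_one.mp hx.2.2)
        · intro x y hx hxy
          have ho := orderOf_eq_of_zpowers_eq hxy
          rw [hA, Finset.mem_filter] at hx ⊢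
          refine ⟨Finset.mem_univ _, ?_, ?_⟩
          · rw [← orderOf_dvd_iff_pow_eq_one, ho, orderOf_dvd_iff_pow_eq_one]; exact hx.2.1
          · rw [Ne, ← orderOf_dvd_iff_pow_eq_one, ho, orderOf_dvd_iff_pow_eq_one]; exact hx.2.2
      have hA2 : k ∣ A.card := by
        rw [hA, step2_card p a k hpk]
        apply dvd_sum_of_conj
        · intro g y hy
          rw [Finset.mem_filter] at hy ⊢
          exact ⟨Finset.mem_univ _, by rw [Helper7_Basic.orderOf_conj']; exact hy.2⟩
        · intro g y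
          exact card_comm_conj k g y
        · intro y hy
          rw [Finset.mem_filter] at hy
          exact per_y IH p a k hpk hkG y hy.2
      have hA3 : n ∣ A.card := by
        rw [hnk]; exact hcop.mul_dvd_of_dvd_of_dvd hA1 hA2
      have h2 : n ∣ (Lset (G := G) n).card + A.card := by
        rw [← hsplit]; exact (Dvd.intro _ rfl).trans h1
      exact (Nat.dvd_add_left hA3).mp h2

/-- **Frobenius' theorem** in gcd form. -/
theorem frobenius_gcd : ∀ (N : ℕ) (G : Type u) [Group G] [Finite G], Nat.card G = N →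
    ∀ m : ℕ, Nat.gcd m (Nat.card G) ∣ Nat.card {x : G // x ^ m = 1} := by
  intro N
  induction N using Nat.strong_induction_on with
  | _ N ih =>
    intro G _ _ hN m
    haveI := Fintype.ofFinite G
    have IH : FrobLt.{u} (Nat.card G) := by
      intro H _ _ hlt m'
      rw [hN] at hlt
      exact ih (Nat.card H) hlt H rfl m'
    rw [← card_pow_gcd, ← card_Lset]
    obtain ⟨d, hd⟩ := Nat.gcd_dvd_right m (Nat.card G)
    exact inner IH d _ hd.symm

/-- **Frobenius' theorem**: if `m ∣ |G|` then `m` divides the number of solutions of `x^m = 1`. -/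
theorem frobenius {G : Type u} [Group G] [Finite G] (m : ℕ) (hm : m ∣ Nat.card G) :
    m ∣ Nat.card {g : G // g ^ m = 1} := by
  have h := frobenius_gcd (Nat.card G) G rfl m
  rwa [Nat.gcd_eq_left hm] at h

end main

end Cfsg.Agent.Lib.Helper7_FrobDiv
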