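import Mathlib
import Cfsg.Agent.Lib.Helper7_Basic
import Cfsg.Agent.Lib.Helper7_FrobDiv

set_option autoImplicit false

namespace Cfsg.Agent.Lib.Helper7_FrobDiv2

open Cfsg.Agent.Lib.Helper7_FrobDiv
open scoped Classical

universe u
variable {G : Type u} [Group G]

/-- splitting elements into commuting `r`-part and `m`-part for coprime `r`, `m`. -/
theorem split_card [Fintype G] (r m : ℕ) (hcop : Nat.Coprime r m) (hG : ∀ x : G, x ^ (r * m) = 1)
    (Q : G → Prop)
    (hQ : ∀ y z : G, y ^ r = 1 → z ^ m = 1 → Commute y z → (Q (y * z) ↔ Q y)) :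
    (Finset.univ.filter (fun x : G => Q x)).card =
      ∑ y ∈ Finset.univ.filter (fun y : G => y ^ r = 1 ∧ Q y),
        (Finset.univ.filter (fun z : G => Commute y z ∧ z ^ m = 1)).card := by
  obtain ⟨u, hu1, hu2⟩ := Nat.chineseRemainder hcop 1 0
  obtain ⟨v, hv1, hv2⟩ := Nat.chineseRemainder hcop 0 1
  have hmu : m ∣ u := (Nat.modEq_zero_iff_dvd).mp hu2
  have hrv : r ∣ v := (Nat.modEq_zero_iff_dvd).mp hv1
  have huv : u + v ≡ 1 [MOD r * m] :=
    (Nat.modEq_and_modEq_iff_modEq_mul hcop).mp ⟨hu1.add hv1, hu2.add hv2⟩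
  have hsplit : ∀ x : G, x ^ u * x ^ v = x := by
    intro x
    rw [← pow_add]; exact pow_eq_self_of_modEq (hG x) huv
  have hur : ∀ x : G, (x ^ u) ^ r = 1 := by
    intro x
    rw [← pow_mul]
    apply pow_one_of_dvd (hG x)
    rw [mul_comm u r]
    exact Nat.mul_dvd_mul dvd_rfl hmu
  have hvm : ∀ x : G, (x ^ v) ^ m = 1 := by
    intro x
    rw [← pow_mul]
    apply pow_one_of_dvd (hG x)
    exact Nat.mul_dvd_mul hrv dvd_rfl
  rw [← Finset.card_sigma]
  apply Finset.card_nbij' (fun x => (⟨x ^ u, x ^ v⟩ : Sigma (fun _ : G => G)))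
    (fun yz => yz.1 * yz.2)
  · intro x hx
    simp only [Finset.coe_filter, Finset.mem_univ, true_and, Set.mem_ofPred_eq] at hx
    simp only [Finset.coe_sigma, Finset.coe_filter, Finset.mem_univ, true_and, Set.mem_sigma_iff,
      Set.mem_ofPred_eq]
    refine ⟨⟨hur x, ?_⟩, (Commute.refl x).pow_pow u v, hvm x⟩
    rw [← hQ (x ^ u) (x ^ v) (hur x) (hvm x) ((Commute.refl x).pow_pow u v), hsplit]
    exact hx
  · rintro ⟨y, z⟩ hyz
    simp only [Finset.coe_sigma, Finset.coe_filter, Finset.mem_univ, true_and, Set.mem_sigma_iff,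
      Set.mem_ofPred_eq] at hyz
    obtain ⟨⟨hy, hyQ⟩, hc, hz⟩ := hyz
    simp only [Finset.coe_filter, Finset.mem_univ, true_and, Set.mem_ofPred_eq]
    exact (hQ y z hy hz hc).mpr hyQ
  · intro x _
    exact hsplit x
  · rintro ⟨y, z⟩ hyz
    simp only [Finset.coe_sigma, Finset.coe_filter, Finset.mem_univ, true_and, Set.mem_sigma_iff,
      Set.mem_ofPred_eq] at hyz
    obtain ⟨⟨hy, hyQ⟩, hc, hz⟩ := hyz
    show (⟨(y * z) ^ u, (y * z) ^ v⟩ : Sigma (fun _ : G => G)) = ⟨y, z⟩
    have e1 : (y * z) ^ u = y := by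
      rw [hc.mul_pow, pow_one_of_dvd hz hmu, mul_one]
      exact pow_eq_self_of_modEq hy hu1
    have e2 : (y * z) ^ v = z := by
      rw [hc.mul_pow, pow_one_of_dvd hy hrv, one_mul]
      exact pow_eq_self_of_modEq hz hv2
    rw [e1, e2]

/-- the solutions of `z^k = 1` commuting with `y`, counted inside the centralizer. -/
theorem card_comm_eq [Fintype G] (y : G) (k : ℕ) :
    (Finset.univ.filter (fun z : G => Commute y z ∧ z ^ k = 1)).card =
      Nat.card {x : Subgroup.centralizer ({y} : Set G) // x ^ k = 1} := by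
  rw [← Fintype.card_subtype, ← Nat.card_eq_fintype_card]
  apply Nat.card_congr
  refine ⟨fun z => ⟨⟨z.1, ?_⟩, ?_⟩, fun x => ⟨x.1.1, ?_, ?_⟩, ?_, ?_⟩
  · exact Subgroup.mem_centralizer_singleton_iff.mpr z.2.1.eq.symm
  · apply Subtype.ext
    show z.1 ^ k = 1
    exact z.2.2
  · exact (Subgroup.mem_centralizer_singleton_iff.mp x.1.2).symm
  · have := x.2
    exact congrArg Subtype.val this
  · intro z; rfl
  · intro x; rfl

theorem per_y' [Fintype G] (y : G) (m : ℕ) (hm : m ∣ Nat.card G) :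
    m ∣ (Subgroup.centralizer ({y} : Set G)).index *
      (Finset.univ.filter (fun z : G => Commute y z ∧ z ^ m = 1)).card := by
  rw [card_comm_eq]
  set C := Subgroup.centralizer ({y} : Set G)
  have h2 := frobenius_gcd (Nat.card C) C rfl m
  have e2 := Subgroup.index_mul_card C
  have h4 : m ∣ C.index * Nat.gcd m (Nat.card C) := by
    rw [← Nat.gcd_mul_left]
    exact Nat.dvd_gcd (Dvd.intro_left _ rfl) (by rw [e2]; exact hm)
  exact h4.trans (Nat.mul_dvd_mul dvd_rfl h2)

omit [Group G] in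
theorem card_subtype_eq [Fintype G] (Q : G → Prop) :
    Nat.card {x : G // Q x} = (Finset.univ.filter (fun x : G => Q x)).card :=
  Nat.subtype_card _ (by intro x; simp only [Finset.mem_filter, Finset.mem_univ, true_and])

/-- general divisibility from the coprime splitting. -/
theorem dvd_card_of_split [Finite G] (m r : ℕ) (hG : Nat.card G = r * m)
    (hrm : Nat.Coprime r m) (Q : G → Prop) (hQc : ∀ g y : G, Q y → Q (g * y * g⁻¹))
    (hQ : ∀ y z : G, y ^ r = 1 → z ^ m = 1 → Commute y z → (Q (y * z) ↔ Q y)) :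
    m ∣ Nat.card {g : G // Q g} := by
  haveI := Fintype.ofFinite G
  have key := split_card (G := G) r m hrm (fun x => by rw [← hG]; exact pow_card_eq_one') Q hQ
  rw [card_subtype_eq Q, key]
  apply dvd_sum_of_conj
  · intro g y hy
    rw [Finset.mem_filter] at hy ⊢
    refine ⟨Finset.mem_univ _, ?_, ?_⟩
    · rw [conj_pow, hy.2.1]; group
    · exact hQc g y hy.2.2
  · intro g y
    exact card_comm_conj m g y
  · intro y _
    exact per_y' y m (by rw [hG]; exact Dvd.intro_left _ rfl)

/-- the number of elements whose order is divisible by `n` is divisible by any divisor `m` of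
`|G|` coprime to its cofactor and to `n`. -/
theorem dvd_card_order_dvd [Finite G] (n m r : ℕ) (hG : Nat.card G = r * m)
    (hrm : Nat.Coprime r m) (hmn : Nat.Coprime m n) :
    m ∣ Nat.card {g : G // n ∣ orderOf g} := by
  apply dvd_card_of_split m r hG hrm (fun x => n ∣ orderOf x)
  · intro g y hy
    show n ∣ orderOf (g * y * g⁻¹)
    rw [Helper7_Basic.orderOf_conj']; exact hy
  · intro y z hy hz hc
    have hoy : orderOf y ∣ r := orderOf_dvd_of_pow_eq_one hy
    have hoz : orderOf z ∣ m := orderOf_dvd_of_pow_eq_one hz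
    have hco : (orderOf y).Coprime (orderOf z) :=
      Nat.Coprime.coprime_dvd_left hoy (Nat.Coprime.coprime_dvd_right hoz hrm)
    show n ∣ orderOf (y * z) ↔ n ∣ orderOf y
    rw [hc.orderOf_mul_eq_mul_orderOf_of_coprime hco]
    apply Nat.Coprime.dvd_mul_right
    exact Nat.Coprime.coprime_dvd_right hoz hmn.symm

/-- number theory: `N / gcd(N, n^N)` is coprime to `n`. -/
theorem coprime_div_gcd_pow (N n : ℕ) (hN : 0 < N) (hn : 0 < n) :
    Nat.Coprime (N / Nat.gcd N (n ^ N)) n := by
  apply Nat.coprime_of_dvd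
  intro p hp hpm hpn
  set r := Nat.gcd N (n ^ N) with hr
  have hrN : r ∣ N := Nat.gcd_dvd_left _ _
  have hr0 : r ≠ 0 := fun h => by rw [h, zero_dvd_iff] at hrN; omega
  have hpr : p * r ∣ N := by
    obtain ⟨t, ht⟩ := hpm
    have := Nat.div_mul_cancel hrN
    rw [ht] at this
    exact ⟨t, by rw [← this]; ring⟩
  have h1 : r.factorization p + 1 ≤ N.factorization p := by
    have h2 : p ^ (r.factorization p + 1) ∣ N := by
      rw [pow_succ, mul_comm]
      exact (Nat.mul_dvd_mul dvd_rfl (Nat.ordProj_dvd r p)).trans hpr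
    exact (hp.pow_dvd_iff_le_factorization hN.ne').mp h2
  have h3 : r.factorization p = min (N.factorization p) ((n ^ N).factorization p) := by
    rw [hr, Nat.factorization_gcd hN.ne' (pow_ne_zero _ hn.ne')]
    rfl
  have h4 : (n ^ N).factorization p = N * n.factorization p := by
    rw [Nat.factorization_pow]; rfl
  have h5 : 1 ≤ n.factorization p :=
    (hp.dvd_iff_one_le_factorization hn.ne').mp hpn
  have h6 : N.factorization p < N := Nat.factorization_lt p hN.ne'
  have h7 : N ≤ N * n.factorization p := Nat.le_mul_of_pos_right N h5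
  rw [h4, min_eq_left (by omega)] at h3
  omega

end Cfsg.Agent.Lib.Helper7_FrobDiv2
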