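import Mathlib
import Cfsg.Agent.Lib.Helper7_Basic
import Cfsg.Agent.Lib.Helper7_FrobDiv
import Cfsg.Agent.Lib.Helper7_FrobDiv2

set_option autoImplicit false

/-! P. Hall's generalization of Frobenius' theorem: the number of solutions of `x^n ∈ cl(c)`. -/

namespace Cfsg.Agent.Lib.Helper7_FrobHall

open Cfsg.Agent.Lib.Helper7_FrobDiv Cfsg.Agent.Lib.Helper7_FrobDiv2
open scoped Classical

universe u

section order
variable {G : Type u} [Group G]

/-- if `p ∣ o(x^(p^e))` then `o(x) = p^e * o(x^(p^e))`. -/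
theorem orderOf_root [Finite G] (p e : ℕ) (hp : p.Prime) (x : G) (h : p ∣ orderOf (x ^ (p ^ e))) :
    orderOf x = p ^ e * orderOf (x ^ (p ^ e)) := by
  have ho : orderOf (x ^ (p ^ e)) = orderOf x / Nat.gcd (orderOf x) (p ^ e) := orderOf_pow x
  have hgd : Nat.gcd (orderOf x) (p ^ e) ∣ p ^ e := Nat.gcd_dvd_right _ _
  have hgo : Nat.gcd (orderOf x) (p ^ e) ∣ orderOf x := Nat.gcd_dvd_left _ _
  obtain ⟨j, hj, hgj⟩ := (Nat.dvd_prime_pow hp).mp hgd
  have hmul : orderOf x = p ^ j * orderOf (x ^ (p ^ e)) := by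
    rw [ho, hgj]
    rw [hgj] at hgo
    exact (Nat.mul_div_cancel' hgo).symm
  rcases Nat.lt_or_ge j e with hlt | hge
  · exfalso
    have h1 : p ^ (j + 1) ∣ orderOf x := by
      rw [hmul, pow_succ]; exact Nat.mul_dvd_mul dvd_rfl h
    have h2 : p ^ (j + 1) ∣ p ^ e := pow_dvd_pow p (by omega)
    have h3 : p ^ (j + 1) ∣ p ^ j := by rw [← hgj]; exact Nat.dvd_gcd h1 h2
    have h4 := (Nat.pow_dvd_pow_iff_le_right hp.one_lt).mp h3
    omega
  · have : j = e := le_antisymm hj hge
    rw [hmul, this]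

end order

section fiber
variable {H : Type u} [Group H] [Finite H]

theorem fiber_dvd (p e : ℕ) [hp : Fact p.Prime] (c x : H) (hx : x ^ (p ^ e) = c)
    (hpc : p ∣ orderOf c) :
    p ^ e ∣ Nat.card {x' : H // Subgroup.zpowers x' = Subgroup.zpowers x ∧ x' ^ (p ^ e) = c} := by
  have hox : orderOf x = p ^ e * orderOf c := by
    have := orderOf_root p e hp.out x (by rw [hx]; exact hpc)
    rwa [hx] at this
  have h1 : p ^ e ∣ Nat.card {w : Subgroup.zpowers x // w ^ (p ^ e) = 1} := by
    apply Helper7_FrobDiv.frobenius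
    rw [Nat.card_zpowers, hox]; exact Dvd.intro _ rfl
  have h2 : Nat.card {x' : H // Subgroup.zpowers x' = Subgroup.zpowers x ∧ x' ^ (p ^ e) = c} =
      Nat.card {w : Subgroup.zpowers x // w ^ (p ^ e) = 1} := by
    apply Nat.card_congr
    have hmem : ∀ x' : H, Subgroup.zpowers x' = Subgroup.zpowers x → x' ∈ Subgroup.zpowers x := by
      intro x' h
      have h2 : x' ∈ Subgroup.zpowers x' := Subgroup.mem_zpowers x'
      rw [h] at h2
      exact h2
    have hcomm : ∀ w : H, w ∈ Subgroup.zpowers x → Commute x w := by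
      intro w hw
      obtain ⟨i, rfl⟩ := Subgroup.mem_zpowers_iff.mp hw
      exact (Commute.refl x).zpow_right i
    refine ⟨fun x' => ⟨⟨x⁻¹ * x'.1, ?_⟩, ?_⟩, fun w => ⟨x * w.1.1, ?_, ?_⟩, ?_, ?_⟩
    · exact Subgroup.mul_mem _ (Subgroup.inv_mem _ (Subgroup.mem_zpowers x)) (hmem _ x'.2.1)
    · apply Subtype.ext
      show (x⁻¹ * x'.1) ^ (p ^ e) = 1
      have hc := (hcomm _ (hmem _ x'.2.1)).inv_left
      rw [hc.mul_pow, x'.2.2, inv_pow, hx, inv_mul_cancel]
    · have hw : (w.1.1) ^ (p ^ e) = 1 := congrArg Subtype.val w.2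
      have hxw : (x * w.1.1) ^ (p ^ e) = c := by
        rw [(hcomm _ w.1.2).mul_pow, hw, mul_one, hx]
      have hle : Subgroup.zpowers (x * w.1.1) ≤ Subgroup.zpowers x :=
        Subgroup.zpowers_le.mpr (Subgroup.mul_mem _ (Subgroup.mem_zpowers x) w.1.2)
      apply Subgroup.eq_of_le_of_card_ge hle
      rw [Nat.card_zpowers, Nat.card_zpowers, hox]
      have := orderOf_root p e hp.out (x * w.1.1) (by rw [hxw]; exact hpc)
      rw [hxw] at this
      rw [this]
    · have hw : (w.1.1) ^ (p ^ e) = 1 := congrArg Subtype.val w.2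
      rw [(hcomm _ w.1.2).mul_pow, hw, mul_one, hx]
    · intro x'
      apply Subtype.ext
      show x * (x⁻¹ * x'.1) = x'.1
      group
    · intro w
      apply Subtype.ext
      apply Subtype.ext
      show x⁻¹ * (x * w.1.1) = w.1.1
      group
  rw [h2]; exact h1

/-- prime power case, `p ∣ o(c)`. -/
theorem hall_pp_dvd (p e : ℕ) [hp : Fact p.Prime] (c : H) (hpc : p ∣ orderOf c) :
    p ^ e ∣ Nat.card {x : H // x ^ (p ^ e) = c} := by
  haveI := Fintype.ofFinite H
  rw [card_subtype_eq (fun x : H => x ^ (p ^ e) = c)]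
  rw [Finset.card_eq_sum_card_image (fun x => Subgroup.zpowers x)]
  apply Finset.dvd_sum
  intro b hb
  obtain ⟨x, hx, rfl⟩ := Finset.mem_image.mp hb
  rw [Finset.mem_filter] at hx
  have h1 := fiber_dvd p e c x hx.2 hpc
  rw [card_subtype_eq (fun x' : H => Subgroup.zpowers x' = Subgroup.zpowers x ∧ x' ^ (p ^ e) = c)] at h1
  have e1 : (Finset.univ.filter (fun x : H => x ^ (p ^ e) = c)).filter
      (fun a => Subgroup.zpowers a = Subgroup.zpowers x) =
      Finset.univ.filter
        (fun x' : H => Subgroup.zpowers x' = Subgroup.zpowers x ∧ x' ^ (p ^ e) = c) := by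
    ext y
    simp only [Finset.mem_filter, Finset.mem_univ, true_and]
    exact and_comm
  rw [e1]
  obtain ⟨k, hk⟩ := h1
  refine ⟨k, ?_⟩
  rw [← hk]
  congr

/-- prime power case, `p ∤ o(c)`, `c` central. -/
theorem hall_pp_coprime (p e : ℕ) [hp : Fact p.Prime] (c : H) (hc : c ∈ Subgroup.center H)
    (hpc : ¬ p ∣ orderOf c) :
    Nat.gcd (p ^ e) (Nat.card H) ∣ Nat.card {x : H // x ^ (p ^ e) = c} := by
  have hcop : Nat.Coprime (p ^ e) (orderOf c) :=
    Nat.Coprime.pow_left _ ((Nat.Prime.coprime_iff_not_dvd hp.out).mpr hpc)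
  obtain ⟨t, ht1, ht2⟩ := Nat.chineseRemainder hcop 0 1
  -- t ≡ 0 mod p^e, t ≡ 1 mod o(c)
  obtain ⟨s, hs⟩ := (Nat.modEq_zero_iff_dvd).mp ht1
  have hct : c ^ t = c := pow_eq_self_of_modEq (pow_orderOf_eq_one c) ht2
  -- c' = c^s, c'^(p^e) = c
  have hc' : (c ^ s) ^ (p ^ e) = c := by rw [← pow_mul, mul_comm, ← hs, hct]
  have hcs : c ^ s ∈ Subgroup.center H := Subgroup.pow_mem _ hc s
  have h1 := frobenius_gcd (Nat.card H) H rfl (p ^ e)
  have h2 : Nat.card {x : H // x ^ (p ^ e) = c} = Nat.card {x : H // x ^ (p ^ e) = 1} := by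
    apply Nat.card_congr
    have hcomm : ∀ x : H, Commute x (c ^ s)⁻¹ := fun x =>
      ((Subgroup.mem_center_iff.mp (Subgroup.inv_mem _ hcs)) x)
    have hcomm' : ∀ x : H, Commute x (c ^ s) := fun x =>
      ((Subgroup.mem_center_iff.mp hcs) x)
    refine ⟨fun x => ⟨x.1 * (c ^ s)⁻¹, ?_⟩, fun w => ⟨w.1 * c ^ s, ?_⟩, ?_, ?_⟩
    · rw [(hcomm x.1).mul_pow, x.2, inv_pow, hc', mul_inv_cancel]
    · rw [(hcomm' w.1).mul_pow, w.2, one_mul, hc']
    · intro x
      apply Subtype.ext
      show x.1 * (c ^ s)⁻¹ * c ^ s = x.1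
      group
    · intro w
      apply Subtype.ext
      show w.1 * c ^ s * (c ^ s)⁻¹ = w.1
      group
  rw [h2]; exact h1

end fiber

section main

/-- Hall's theorem for central elements, at exponent `n`, for all groups in a universe. -/
def HallAt.{v} (n : ℕ) : Prop :=
  ∀ (H : Type v) [Group H] [Finite H] (c : H), c ∈ Subgroup.center H →
    Nat.gcd n (Nat.card H) ∣ Nat.card {x : H // x ^ n = c}

variable {G : Type u} [Group G]

theorem mem_centralizer_self (y : G) : y ∈ Subgroup.centralizer ({y} : Set G) :=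
  Subgroup.mem_centralizer_singleton_iff.mpr rfl

/-- roots of `y` all lie in the centralizer of `y`. -/
theorem card_root_centralizer (y : G) (a : ℕ) :
    Nat.card {x : G // x ^ a = y} =
      Nat.card {x : Subgroup.centralizer ({y} : Set G) // x ^ a = ⟨y, mem_centralizer_self y⟩} := by
  apply Nat.card_congr
  have hcomm : ∀ x : G, x ^ a = y → x * y = y * x := by
    intro x hx
    rw [← hx]
    exact ((Commute.refl x).pow_right a).eq
  refine ⟨fun x => ⟨⟨x.1, ?_⟩, ?_⟩, fun x => ⟨x.1.1, ?_⟩, ?_, ?_⟩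
  · rw [Subgroup.mem_centralizer_singleton_iff]
    exact hcomm x.1 x.2
  · apply Subtype.ext
    show x.1 ^ a = y
    exact x.2
  · have := x.2
    exact congrArg Subtype.val this
  · intro x; rfl
  · intro x; rfl

theorem card_root_conj [Fintype G] (a : ℕ) (g y : G) :
    (Finset.univ.filter (fun x : G => x ^ a = g * y * g⁻¹)).card =
      (Finset.univ.filter (fun x : G => x ^ a = y)).card := by
  apply Finset.card_nbij' (fun z => g⁻¹ * z * g) (fun z => g * z * g⁻¹)
  · intro z hz
    simp only [Finset.coe_filter, Finset.mem_univ, true_and, Set.mem_ofPred_eq] at hz ⊢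
    have h3 : (g⁻¹ * z * g⁻¹⁻¹) ^ a = g⁻¹ * z ^ a * g⁻¹⁻¹ := conj_pow
    rw [inv_inv] at h3
    rw [h3, hz]; group
  · intro z hz
    simp only [Finset.coe_filter, Finset.mem_univ, true_and, Set.mem_ofPred_eq] at hz ⊢
    rw [conj_pow, hz]
  · intro z _
    show g * (g⁻¹ * z * g) * g⁻¹ = z
    group
  · intro z _
    show g⁻¹ * (g * z * g⁻¹) * g = z
    group

theorem gcd_dvd_index_mul (a : ℕ) (C : Subgroup G) :
    Nat.gcd a (Nat.card G) ∣ C.index * Nat.gcd a (Nat.card C) := by
  rw [← Nat.gcd_mul_left, Subgroup.index_mul_card]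
  exact Nat.dvd_gcd ((Nat.gcd_dvd_left _ _).trans (Dvd.intro_left _ rfl)) (Nat.gcd_dvd_right _ _)

theorem card_fiberwise_root [Fintype G] (n : ℕ) (Q : G → Prop) :
    (Finset.univ.filter (fun x : G => Q (x ^ n))).card =
      ∑ y ∈ Finset.univ.filter (fun y : G => Q y),
        (Finset.univ.filter (fun x : G => x ^ n = y)).card := by
  rw [Finset.card_eq_sum_card_fiberwise (f := fun x : G => x ^ n)
    (t := Finset.univ.filter (fun y : G => Q y))]
  · apply Finset.sum_congr rfl
    intro y hy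
    rw [Finset.mem_filter] at hy
    congr 1
    ext x
    simp only [Finset.mem_filter, Finset.mem_univ, true_and, and_iff_right_iff_imp]
    intro hx
    rw [hx]; exact hy.2
  · intro x hx
    have hx' := Finset.mem_coe.mp hx
    rw [Finset.mem_filter] at hx'
    apply Finset.mem_coe.mpr
    rw [Finset.mem_filter]
    exact ⟨Finset.mem_univ _, hx'.2⟩

theorem center_centralizer (y : G) :
    (⟨y, mem_centralizer_self y⟩ : Subgroup.centralizer ({y} : Set G)) ∈
      Subgroup.center (Subgroup.centralizer ({y} : Set G)) := by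
  rw [Subgroup.mem_center_iff]
  intro g
  apply Subtype.ext
  exact Subgroup.mem_centralizer_singleton_iff.mp g.2

theorem split_dvd [Finite G] (a b : ℕ) (ha : HallAt.{u} a) (c : G) (hc : c ∈ Subgroup.center G) :
    Nat.gcd a (Nat.card G) ∣ Nat.card {x : G // x ^ (a * b) = c} := by
  haveI := Fintype.ofFinite G
  have e0 : Nat.card {x : G // x ^ (a * b) = c} = Nat.card {x : G // (x ^ a) ^ b = c} := by
    apply Nat.card_congr
    refine Equiv.subtypeEquivRight ?_
    intro x
    rw [pow_mul]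
  rw [e0, card_subtype_eq (fun x : G => (x ^ a) ^ b = c),
    card_fiberwise_root a (fun y : G => y ^ b = c)]
  apply dvd_sum_of_conj
  · intro g y hy
    rw [Finset.mem_filter] at hy ⊢
    refine ⟨Finset.mem_univ _, ?_⟩
    rw [conj_pow, hy.2, (Subgroup.mem_center_iff.mp hc g), mul_inv_cancel_right]
  · intro g y
    exact card_root_conj a g y
  · intro y _
    rw [← card_subtype_eq (fun x : G => x ^ a = y), card_root_centralizer]
    have h1 := ha (Subgroup.centralizer ({y} : Set G)) ⟨y, mem_centralizer_self y⟩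
      (center_centralizer y)
    exact (gcd_dvd_index_mul a _).trans (Nat.mul_dvd_mul dvd_rfl h1)

/-- P. Hall's theorem for central elements. -/
theorem hallAt : ∀ n : ℕ, HallAt.{u} n := by
  intro n
  induction n using Nat.strong_induction_on with
  | _ n ih =>
    intro H _ _ c hc
    rcases Nat.lt_or_ge n 2 with hn | hn
    · interval_cases n
      · -- n = 0
        rw [Nat.gcd_zero_left]
        by_cases h1 : c = 1
        · have : Nat.card {x : H // x ^ 0 = c} = Nat.card H := by
            apply Nat.card_congr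
            exact ⟨fun x => x.1, fun x => ⟨x, by rw [pow_zero, h1]⟩, fun x => rfl, fun x => rfl⟩
          rw [this]
        · have : IsEmpty {x : H // x ^ 0 = c} := by
            constructor
            rintro ⟨x, hx⟩
            rw [pow_zero] at hx
            exact h1 hx.symm
          have h0 : Nat.card {x : H // x ^ 0 = c} = 0 := Nat.card_of_isEmpty
          rw [h0]
          exact dvd_zero _
      · rw [Nat.gcd_one_left]; exact one_dvd _
    · set p := n.minFac with hpdef
      have hp : p.Prime := Nat.minFac_prime (by omega)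
      haveI : Fact p.Prime := ⟨hp⟩
      obtain ⟨e, k, hpk, hnk⟩ := Nat.exists_eq_pow_mul_and_not_dvd (by omega : n ≠ 0) p hp.one_lt.ne'
      have he : e ≠ 0 := by
        rintro rfl
        rw [pow_zero, one_mul] at hnk
        apply hpk
        rw [← hnk]; exact Nat.minFac_dvd n
      have hk0 : k ≠ 0 := by
        rintro rfl
        rw [mul_zero] at hnk; omega
      by_cases hk1 : k = 1
      · -- prime power
        rw [hk1, mul_one] at hnk
        rw [hnk]
        by_cases hpc : p ∣ orderOf c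
        · exact (Nat.gcd_dvd_left _ _).trans (hall_pp_dvd p e c hpc)
        · exact hall_pp_coprime p e c hc hpc
      · have hcop : Nat.Coprime (p ^ e) k :=
          Nat.Coprime.pow_left _ ((Nat.Prime.coprime_iff_not_dvd hp).mpr hpk)
        have hpe1 : 1 < p ^ e := Nat.one_lt_pow he hp.one_lt
        have hk2 : 1 < k := by omega
        have hlt1 : p ^ e < n := by rw [hnk]; nlinarith
        have hlt2 : k < n := by rw [hnk]; nlinarith
        have h1 := split_dvd (p ^ e) k (ih _ hlt1) c hc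
        have h2 := split_dvd k (p ^ e) (ih _ hlt2) c hc
        rw [mul_comm k (p ^ e)] at h2
        rw [hnk, Nat.gcd_comm, Nat.Coprime.gcd_mul _ hcop, Nat.gcd_comm _ (p ^ e), Nat.gcd_comm _ k]
        apply Nat.Coprime.mul_dvd_of_dvd_of_dvd _ h1 h2
        exact Nat.Coprime.coprime_dvd_left (Nat.gcd_dvd_left _ _)
          (Nat.Coprime.coprime_dvd_right (Nat.gcd_dvd_left _ _) hcop)

theorem hall_class_aux [Finite G] (c : G) (n : ℕ) (Q : G → Prop) (hQ : ∀ y, Q y ↔ IsConj c y) :
    Nat.gcd (Nat.card {y : G // Q y} * n) (Nat.card G) ∣ Nat.card {x : G // Q (x ^ n)} := by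
  haveI := Fintype.ofFinite G
  rw [card_subtype_eq (fun x : G => Q (x ^ n)), card_fiberwise_root n Q]
  apply dvd_sum_of_conj
  · intro g y hy
    rw [Finset.mem_filter] at hy ⊢
    refine ⟨Finset.mem_univ _, ?_⟩
    rw [hQ] at hy ⊢
    exact hy.2.trans (isConj_iff.mpr ⟨g, rfl⟩)
  · intro g y
    exact card_root_conj n g y
  · intro y hy
    rw [Finset.mem_filter, hQ] at hy
    rw [← card_subtype_eq (fun x : G => x ^ n = y), card_root_centralizer]
    set C := Subgroup.centralizer ({y} : Set G) with hC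
    have h1 := hallAt.{u} n C ⟨y, mem_centralizer_self y⟩ (center_centralizer y)
    have h2 : Nat.card {y' : G // Q y'} = C.index := by
      rw [← Helper7_Basic.card_conj_class]
      apply Nat.card_congr
      refine Equiv.subtypeEquivRight ?_
      intro y'
      rw [hQ]
      exact ⟨fun h => h.symm.trans hy.2, fun h => hy.2.trans h.symm⟩
    rw [h2]
    have h3 : Nat.gcd (C.index * n) (Nat.card G) = C.index * Nat.gcd n (Nat.card C) := by
      rw [← Nat.gcd_mul_left, Subgroup.index_mul_card]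
    rw [h3]
    exact Nat.mul_dvd_mul dvd_rfl h1

/-- **P. Hall's generalization of Frobenius' theorem**. -/
theorem hall_class [Finite G] (c : G) (n : ℕ) :
    Nat.gcd (Nat.card {y : G // IsConj c y} * n) (Nat.card G) ∣
      Nat.card {x : G // IsConj c (x ^ n)} :=
  hall_class_aux c n (fun y => IsConj c y) (fun _ => Iff.rfl)

end main

end Cfsg.Agent.Lib.Helper7_FrobHall
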