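import Mathlib
import Cfsg.Prelude.Def_Solvable

set_option autoImplicit false

/-!
Internal recognition of Frobenius groups (helper7): `T = N ⋊ H` with `H` acting fixed-point-freely
on the finite normal subgroup `N`.
-/

namespace Cfsg.Agent.Lib.Helper7_FrobInternal

open scoped Pointwise

theorem mem_conj_smul_iff {G : Type*} [Group G] (g x : G) (H : Subgroup G) :
    x ∈ MulAut.conj g • H ↔ g⁻¹ * x * g ∈ H := by
  rw [Subgroup.mem_pointwise_smul_iff_inv_smul_mem, MulAut.smul_def, MulAut.conj_inv_apply]

/-- Let `N ⊴ T` be finite, `H ≤ T` with `N ⊔ H = ⊤`, `N ⊓ H = ⊥`, both nontrivial, and suppose no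
nonidentity element of `H` commutes with a nonidentity element of `N`.  Then `H` is a Frobenius
complement in `T` with Frobenius kernel `N`. -/
theorem frobenius_of_fpf {T : Type*} [Group T] (N H : Subgroup T) [hNn : N.Normal] [Finite N]
    (hsup : N ⊔ H = ⊤) (hinf : N ⊓ H = ⊥) (hN : N ≠ ⊥) (hH : H ≠ ⊥)
    (hfpf : ∀ h ∈ H, h ≠ 1 → ∀ n ∈ N, h * n = n * h → n = 1) :
    Cfsg.IsFrobeniusComplement H ∧ Cfsg.frobeniusKernel H = (N : Set T) := by
  -- decomposition of elements
  have hdec : ∀ g : T, ∃ n ∈ N, ∃ h ∈ H, g = n * h := by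
    intro g
    have hg : g ∈ ((N ⊔ H : Subgroup T) : Set T) := by rw [hsup]; trivial
    rw [Subgroup.normal_mul] at hg
    obtain ⟨n, hn, h, hh, rfl⟩ := Set.mem_mul.mp hg
    exact ⟨n, hn, h, hh, rfl⟩
  have hNH : ∀ x : T, x ∈ N → x ∈ H → x = 1 := by
    intro x hxN hxH
    have : x ∈ N ⊓ H := ⟨hxN, hxH⟩
    rw [hinf] at this
    exact this
  refine ⟨⟨hH, ?_, ?_⟩, ?_⟩
  · intro htop
    apply hN
    rw [← hinf, htop, inf_top_eq]
  · intro g hg
    obtain ⟨n, hn, h, hh, rfl⟩ := hdec g
    have hn1 : n ≠ 1 := by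
      rintro rfl
      apply hg
      simpa using hh
    rw [Subgroup.eq_bot_iff_forall]
    intro y hy
    rw [Subgroup.mem_inf] at hy
    obtain ⟨hy1, hy2⟩ := hy
    rw [mem_conj_smul_iff] at hy2
    -- n⁻¹ y n ∈ H
    have h1 : n⁻¹ * y * n ∈ H := by
      have := H.mul_mem (H.mul_mem hh hy2) (H.inv_mem hh)
      have e : h * ((n * h)⁻¹ * y * (n * h)) * h⁻¹ = n⁻¹ * y * n := by group
      rwa [e] at this
    have h2 : y⁻¹ * (n⁻¹ * y * n) ∈ H := H.mul_mem (H.inv_mem hy1) h1
    have h3 : y⁻¹ * (n⁻¹ * y * n) ∈ N := by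
      have e : y⁻¹ * (n⁻¹ * y * n) = (y⁻¹ * n⁻¹ * y⁻¹⁻¹) * n := by group
      rw [e]
      exact N.mul_mem (hNn.conj_mem _ (N.inv_mem hn) _) hn
    have h4 := hNH _ h3 h2
    have h5 : y * n = n * y := by
      have : n⁻¹ * y * n = y := by
        have := congrArg (fun t => y * t) h4
        simpa [mul_assoc] using this
      calc y * n = n * (n⁻¹ * y * n) := by group
        _ = n * y := by rw [this]
    by_contra hy1'
    exact hn1 (hfpf y hy1 hy1' n hn h5)
  · ext x
    constructor
    · intro hx
      rcases hx with rfl | hx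
      · exact N.one_mem
      · obtain ⟨n, hn, h, hh, rfl⟩ := hdec x
        by_cases h1 : h = 1
        · rw [h1, mul_one]; exact hn
        · exfalso
          -- the map m ↦ m h m⁻¹ h⁻¹ is injective on N, hence surjective
          let ψ : N → N := fun m => ⟨(m : T) * h * (m : T)⁻¹ * h⁻¹, by
            have : (m : T) * h * (m : T)⁻¹ * h⁻¹ = (m : T) * (h * (m : T)⁻¹ * h⁻¹) := by group
            rw [this]
            exact N.mul_mem m.2 (hNn.conj_mem _ (N.inv_mem m.2) h)⟩
          have hψinj : Function.Injective ψ := by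
            intro m m' hmm
            have h2 : (m : T) * h * (m : T)⁻¹ * h⁻¹ = (m' : T) * h * (m' : T)⁻¹ * h⁻¹ :=
              congrArg Subtype.val hmm
            have h3 : h * ((m' : T)⁻¹ * (m : T)) = ((m' : T)⁻¹ * (m : T)) * h := by
              have h4 : (m : T) * h * (m : T)⁻¹ = (m' : T) * h * (m' : T)⁻¹ := by
                have := congrArg (fun t => t * h) h2
                simpa [mul_assoc] using this
              calc h * ((m' : T)⁻¹ * (m : T))
                  = (m' : T)⁻¹ * ((m' : T) * h * (m' : T)⁻¹) * (m : T) := by group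
                _ = (m' : T)⁻¹ * ((m : T) * h * (m : T)⁻¹) * (m : T) := by rw [h4]
                _ = _ := by group
            have h5 := hfpf h hh h1 _ (N.mul_mem (N.inv_mem m'.2) m.2) h3
            apply Subtype.ext
            have : (m : T) = (m' : T) * ((m' : T)⁻¹ * (m : T)) := by group
            rw [this, h5, mul_one]
          have hψsurj : Function.Surjective ψ := Finite.injective_iff_surjective.mp hψinj
          obtain ⟨m, hm⟩ := hψsurj ⟨n, hn⟩
          have hm' : (m : T) * h * (m : T)⁻¹ * h⁻¹ = n := congrArg Subtype.val hm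
          apply hx (m : T)
          rw [mem_conj_smul_iff]
          have e : (m : T)⁻¹ * (n * h) * (m : T) = h := by
            rw [← hm']; group
          rw [e]; exact hh
    · intro hx
      have hx' : x ∈ N := hx
      by_cases h1 : x = 1
      · exact Or.inl h1
      · right
        intro g hg
        rw [mem_conj_smul_iff] at hg
        have h2 : g⁻¹ * x * g ∈ N := by
          have := hNn.conj_mem x hx' g⁻¹
          simpa using this
        have h3 := hNH _ h2 hg
        apply h1
        have : x = g * (g⁻¹ * x * g) * g⁻¹ := by group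
        rw [this, h3]; group

end Cfsg.Agent.Lib.Helper7_FrobInternal
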