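import Mathlib
import Cfsg.Prelude.Def_Solvable

set_option autoImplicit false

/-!
Frobenius groups from fixed-point-free actions (helper7).

`isFrobeniusComplement_inr_range`: if `K` acts on `N` (both nontrivial) with every nonidentity
element of `K` fixing only `1`, then the image of `K` in `N ⋊[φ] K` is a Frobenius complement.
-/

namespace Cfsg.Agent.Lib.Helper7_Frobenius

open scoped Pointwise

theorem mem_conj_smul_iff {G : Type*} [Group G] (g x : G) (H : Subgroup G) :
    x ∈ MulAut.conj g • H ↔ g⁻¹ * x * g ∈ H := by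
  rw [Subgroup.mem_pointwise_smul_iff_inv_smul_mem, MulAut.smul_def, MulAut.conj_inv_apply]

theorem mem_inr_range {N K : Type*} [Group N] [Group K] (φ : K →* MulAut N) (x : N ⋊[φ] K) :
    x ∈ (SemidirectProduct.inr : K →* N ⋊[φ] K).range ↔ x.left = 1 := by
  constructor
  · rintro ⟨k, rfl⟩
    rfl
  · intro h
    refine ⟨x.right, ?_⟩
    ext
    · exact h.symm
    · rfl

/-- A fixed-point-free action gives a Frobenius group `N ⋊ K` with complement `K`. -/
theorem isFrobeniusComplement_inr_range {N K : Type*} [Group N] [Group K] [Nontrivial N] [Nontrivial K]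
    (φ : K →* MulAut N) (hfpf : ∀ k : K, k ≠ 1 → ∀ n : N, φ k n = n → n = 1) :
    Cfsg.IsFrobeniusComplement (SemidirectProduct.inr : K →* N ⋊[φ] K).range := by
  refine ⟨?_, ?_, ?_⟩
  · intro h
    obtain ⟨k, hk⟩ := exists_ne (1 : K)
    have h1 : (SemidirectProduct.inr k : N ⋊[φ] K) ∈ (SemidirectProduct.inr : K →* N ⋊[φ] K).range :=
      ⟨k, rfl⟩
    rw [h, Subgroup.mem_bot] at h1
    apply hk
    have := congrArg SemidirectProduct.right h1
    simpa using this
  · intro h
    obtain ⟨n, hn⟩ := exists_ne (1 : N)
    have h1 : (SemidirectProduct.inl n : N ⋊[φ] K) ∈ (SemidirectProduct.inr : K →* N ⋊[φ] K).range := by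
      rw [h]; trivial
    rw [mem_inr_range] at h1
    exact hn h1
  · intro g hg
    rw [mem_inr_range] at hg
    rw [Subgroup.eq_bot_iff_forall]
    intro y hy
    rw [Subgroup.mem_inf] at hy
    obtain ⟨hy1, hy2⟩ := hy
    rw [mem_inr_range] at hy1
    rw [mem_conj_smul_iff, mem_inr_range] at hy2
    -- compute the left component of g⁻¹ y g
    have hleft : (g⁻¹ * y * g).left = φ g.right⁻¹ g.left⁻¹ * φ (g.right⁻¹ * y.right) g.left := by
      simp [SemidirectProduct.mul_left, SemidirectProduct.inv_left, hy1]
    rw [hleft] at hy2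
    -- apply φ g.right
    have h2 : φ g.right (φ g.right⁻¹ g.left⁻¹ * φ (g.right⁻¹ * y.right) g.left) = 1 := by
      rw [hy2, map_one]
    rw [map_mul, ← MulAut.mul_apply, ← map_mul, mul_inv_cancel, map_one, MulAut.one_apply,
      ← MulAut.mul_apply, ← map_mul, mul_inv_cancel_left] at h2
    have h3 : φ y.right g.left = g.left := by
      have := congrArg (fun t => g.left * t) h2
      simpa using this
    have hyr : y.right = 1 := by
      by_contra hne
      exact hg (hfpf y.right hne g.left h3)
    ext
    · exact hy1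
    · exact hyr

/-- the complement is isomorphic to `K` -/
noncomputable def inrRangeEquiv {N K : Type*} [Group N] [Group K] (φ : K →* MulAut N) :
    K ≃* (SemidirectProduct.inr : K →* N ⋊[φ] K).range :=
  MonoidHom.ofInjective SemidirectProduct.inr_injective

/-- The action of units of a ring on its additive group, written multiplicatively. -/
def unitsMulAut (R : Type*) [Ring R] : Rˣ →* MulAut (Multiplicative R) where
  toFun u :=
    { toFun := fun a => Multiplicative.ofAdd ((u : R) * a.toAdd)
      invFun := fun a => Multiplicative.ofAdd ((↑u⁻¹ : R) * a.toAdd)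
      left_inv := fun a => by simp
      right_inv := fun a => by simp
      map_mul' := fun a b => by simp [mul_add] }
  map_one' := by ext a; simp
  map_mul' := fun u v => by ext a; simp [mul_assoc]

theorem unitsMulAut_apply (R : Type*) [Ring R] (u : Rˣ) (a : Multiplicative R) :
    unitsMulAut R u a = Multiplicative.ofAdd ((u : R) * a.toAdd) := rfl

instance semidirect_finite {N K : Type*} [Group N] [Group K] [Finite N] [Finite K] (φ : K →* MulAut N) :
    Finite (N ⋊[φ] K) :=
  Finite.of_equiv _ SemidirectProduct.equivProd.symm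

/-- For every `m ≠ 0` and bound `B` there are a prime `q > B` and an injective homomorphism from
the cyclic group of order `m` into the units of `ZMod q` (Dirichlet for `q ≡ 1 mod m`). -/
theorem exists_prime_injective_hom (m : ℕ) (hm : m ≠ 0) (B : ℕ) :
    ∃ (q : ℕ) (_ : Fact q.Prime) (ε : Multiplicative (ZMod m) →* (ZMod q)ˣ),
      B < q ∧ Function.Injective ε := by
  classical
  haveI : NeZero m := ⟨hm⟩
  obtain ⟨p, hp, hBp, hmod⟩ := Nat.exists_prime_gt_modEq_one B hm
  haveI hpf : Fact p.Prime := ⟨hp⟩
  have hdvd : m ∣ p - 1 := (Nat.modEq_iff_dvd' hp.one_lt.le).mp hmod.symm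
  obtain ⟨g, hg⟩ := IsCyclic.exists_generator (α := (ZMod p)ˣ)
  have hog : orderOf g = p - 1 := by
    rw [orderOf_eq_card_of_forall_mem_zpowers hg, Nat.card_eq_fintype_card, ZMod.card_units]
  set u := g ^ ((p - 1) / m) with hu
  have hp1 : p - 1 ≠ 0 := by have := hp.two_le; omega
  have hou : orderOf u = m := by
    rw [hu, ← hog]
    exact orderOf_pow_orderOf_div (by rw [hog]; exact hp1) (by rw [hog]; exact hdvd)
  set U : Subgroup (ZMod p)ˣ := Subgroup.zpowers u with hU
  have hcardU : Nat.card U = m := by rw [hU, Nat.card_zpowers, hou]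
  have hcardZ : Nat.card (Multiplicative (ZMod m)) = m := by
    show Nat.card (ZMod m) = m
    exact Nat.card_zmod m
  have e1 : Multiplicative (ZMod m) ≃* U := mulEquivOfCyclicCardEq (by rw [hcardU, hcardZ])
  refine ⟨p, hpf, U.subtype.comp e1.toMonoidHom, hBp, ?_⟩
  exact U.subtype_injective.comp e1.injective

end Cfsg.Agent.Lib.Helper7_Frobenius
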