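import Mathlib
set_option autoImplicit false
open Polynomial

namespace Cfsg.Agent.Lib.Helper7_Transpose

theorem cyclic_form {F : Type*} [Field F] (I : Ideal F[X]) (g : F[X]) (hg : g.Monic)
    (hI : I = Ideal.span {g}) :
    ∃ β : (F[X] ⧸ I) →ₗ[F] (F[X] ⧸ I) →ₗ[F] F,
      (∀ a b, β ((X : F[X]) • a) b = β a ((X : F[X]) • b)) ∧
      (∀ a, (∀ b, β a b = 0) → a = 0) := by
  subst hI
  let lam : (F[X] ⧸ Ideal.span {g}) →ₗ[F] F :=
    (Polynomial.lcoeff F (g.natDegree - 1)) ∘ₗ (AdjoinRoot.modByMonicHom hg)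
  refine ⟨(LinearMap.mul F (F[X] ⧸ Ideal.span {g})).compr₂ lam, ?_, ?_⟩
  · intro a b
    simp only [LinearMap.compr₂_apply, LinearMap.mul_apply']
    rw [smul_mul_assoc, mul_smul_comm]
  · intro a ha
    by_contra ha0
    set r := AdjoinRoot.modByMonicHom hg a with hr
    have hra : AdjoinRoot.mk g r = a := AdjoinRoot.mk_leftInverse hg a
    have hr0 : r ≠ 0 := by
      intro h
      apply ha0
      rw [← hra, h, map_zero]
      rfl
    have hdeg : r.degree < g.degree := by
      obtain ⟨s, rfl⟩ := AdjoinRoot.mk_surjective a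
      rw [hr, AdjoinRoot.modByMonicHom_mk]
      exact Polynomial.degree_modByMonic_lt _ hg
    have hk : r.natDegree < g.natDegree := Polynomial.natDegree_lt_natDegree hr0 hdeg
    obtain ⟨k, hk'⟩ : ∃ k, g.natDegree - 1 = r.natDegree + k := ⟨g.natDegree - 1 - r.natDegree, by omega⟩
    have h1 : (AdjoinRoot.modByMonicHom hg
        (AdjoinRoot.mk g (r * X ^ k))).coeff (g.natDegree - 1) = 0 := by
      rw [map_mul, hra]
      exact ha (AdjoinRoot.mk g (X ^ k))
    rw [AdjoinRoot.modByMonicHom_mk] at h1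
    have hdeg2 : (r * X ^ k).degree < g.degree := by
      rw [Polynomial.degree_mul, Polynomial.degree_X_pow, Polynomial.degree_eq_natDegree hr0,
        Polynomial.degree_eq_natDegree hg.ne_zero]
      norm_cast
      omega
    rw [(Polynomial.modByMonic_eq_self_iff hg).mpr hdeg2, hk', Polynomial.coeff_mul_X_pow] at h1
    exact hr0 (Polynomial.leadingCoeff_eq_zero.mp h1)


theorem cyclic_form' {F : Type*} [Field F] (g : F[X]) (hg : g ≠ 0) :
    ∃ β : (F[X] ⧸ (Submodule.span F[X] {g})) →ₗ[F] (F[X] ⧸ (Submodule.span F[X] {g})) →ₗ[F] F,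
      (∀ a b, β ((X : F[X]) • a) b = β a ((X : F[X]) • b)) ∧
      (∀ a, (∀ b, β a b = 0) → a = 0) := by
  apply cyclic_form (Submodule.span F[X] {g}) (g * C g.leadingCoeff⁻¹)
    (Polynomial.monic_mul_leadingCoeff_inv hg)
  rw [Ideal.span_singleton_mul_right_unit]
  exact Polynomial.isUnit_C.mpr (isUnit_iff_ne_zero.mpr (inv_ne_zero (Polynomial.leadingCoeff_ne_zero.mpr hg)))

theorem exists_form {F : Type*} [Field F] {V : Type*} [AddCommGroup V] [Module F V]
    [FiniteDimensional F V] (T : V →ₗ[F] V) :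
    ∃ B : V →ₗ[F] V →ₗ[F] F, (∀ u v, B (T u) v = B u (T v)) ∧
      (∀ u, (∀ v, B u v = 0) → u = 0) := by
  classical
  have htors : Module.IsTorsion F[X] (Module.AEval' T) :=
    Module.AEval.isTorsion_of_finiteDimensional F V T
  obtain ⟨ι, _, p, hp, e, ⟨φ⟩⟩ := Module.equiv_directSum_of_isTorsion htors
  choose β hβ1 hβ2 using fun i => cyclic_form' (p i ^ e i) (pow_ne_zero _ (hp i).ne_zero)
  let ψ := φ.trans (DirectSum.linearEquivFunOnFintype F[X] ι _)
  let π : ∀ i, V →ₗ[F] (F[X] ⧸ Submodule.span F[X] {p i ^ e i}) := fun i =>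
    ((LinearMap.proj i ∘ₗ ψ.toLinearMap).restrictScalars F) ∘ₗ (Module.AEval'.of T).toLinearMap
  have hπ : ∀ i u, π i u = ψ (Module.AEval'.of T u) i := fun i u => rfl
  refine ⟨∑ i, (β i).compl₁₂ (π i) (π i), ?_, ?_⟩
  · intro u v
    simp only [LinearMap.sum_apply, LinearMap.compl₁₂_apply]
    apply Finset.sum_congr rfl
    intro i _
    rw [hπ, hπ, hπ, hπ, ← Module.AEval'.X_smul_of, ← Module.AEval'.X_smul_of, map_smul, map_smul,
      Pi.smul_apply, Pi.smul_apply, hβ1]
  · intro u hu
    have hx : ψ (Module.AEval'.of T u) = 0 := by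
      funext i
      apply hβ2 i
      intro b
      have h1 := hu ((Module.AEval'.of T).symm (ψ.symm (Pi.single i b)))
      simp only [LinearMap.sum_apply, LinearMap.compl₁₂_apply] at h1
      rw [Finset.sum_eq_single i] at h1
      · rw [hπ, hπ, LinearEquiv.apply_symm_apply, LinearEquiv.apply_symm_apply,
          Pi.single_eq_same] at h1
        exact h1
      · intro j _ hji
        rw [hπ, hπ, LinearEquiv.apply_symm_apply, LinearEquiv.apply_symm_apply,
          Pi.single_eq_of_ne hji, map_zero]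
      · intro h; exact absurd (Finset.mem_univ i) h
    have := ψ.injective (hx.trans (map_zero ψ).symm)
    exact (Module.AEval'.of T).injective (this.trans (map_zero _).symm)


theorem isConj_transpose {F : Type*} [Field F] {n : Type*} [Fintype n] [DecidableEq n]
    (A : Matrix n n F) : IsConj A A.transpose := by
  obtain ⟨B, hB1, hB2⟩ := exists_form (Matrix.toLin' A)
  set S := LinearMap.toMatrix₂' F B with hS
  have hdet : S.det ≠ 0 := by
    rw [← Matrix.separatingLeft_iff_det_ne_zero, LinearMap.separatingLeft_toMatrix₂'_iff]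
    exact hB2
  have hcomm : S * A = A.transpose * S := by
    have h1 : B.comp (Matrix.toLin' A) = B.compl₂ (Matrix.toLin' A) := by
      apply LinearMap.ext; intro u; apply LinearMap.ext; intro v
      exact hB1 u v
    have h2 := congrArg (LinearMap.toMatrix₂' F) h1
    rw [LinearMap.toMatrix₂'_comp, LinearMap.toMatrix₂'_compl₂, LinearMap.toMatrix'_toLin'] at h2
    exact h2.symm
  have hu : IsUnit S := (Matrix.isUnit_iff_isUnit_det _).mpr (isUnit_iff_ne_zero.mpr hdet)
  obtain ⟨c, hc⟩ := hu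
  exact ⟨c, by rw [SemiconjBy, hc]; exact hcomm⟩

end Cfsg.Agent.Lib.Helper7_Transpose
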