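import Mathlib
import Cfsg.Agent.Lib.Helper7_Transpose
set_option autoImplicit false
open Polynomial

namespace Cfsg.Agent.Lib.Helper7_SemisimpleDet

theorem det_lemma {F : Type*} [Field F] [Finite F] {ι : Type*} [Fintype ι] [DecidableEq ι]
    (g : ι → F[X]) (i₀ : ι) (hirr : Irreducible (g i₀))
    [Module.Finite F (∀ i, F[X] ⧸ Submodule.span F[X] {g i})] (d : F) :
    ∃ L : (∀ i, F[X] ⧸ Submodule.span F[X] {g i}) →ₗ[F[X]]
        (∀ i, F[X] ⧸ Submodule.span F[X] {g i}),
      LinearMap.det (L.restrictScalars F) = d := by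
  classical
  haveI : Fact (Irreducible (g i₀)) := ⟨hirr⟩
  haveI : Module.Finite F (AdjoinRoot (g i₀)) := (AdjoinRoot.powerBasis hirr.ne_zero).finite
  haveI : Finite (AdjoinRoot (g i₀)) := Module.finite_of_finite F
  obtain ⟨u, hu⟩ := FiniteField.norm_surjective F (AdjoinRoot (g i₀)) d
  obtain ⟨f, rfl⟩ := AdjoinRoot.mk_surjective u
  let Q := fun i => F[X] ⧸ Submodule.span F[X] {g i}
  let L : (∀ i, Q i) →ₗ[F[X]] (∀ i, Q i) :=
    LinearMap.id + (LinearMap.single F[X] Q i₀) ∘ₗ ((f - 1) • LinearMap.proj i₀)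
  have hL : ∀ m : ∀ i, Q i, L m = m + Pi.single i₀ ((f - 1) • m i₀) := fun m => rfl
  refine ⟨L, ?_⟩
  let prF : (∀ i, Q i) →ₗ[F] AdjoinRoot (g i₀) :=
    (LinearMap.proj i₀ : (∀ i, Q i) →ₗ[F[X]] Q i₀).restrictScalars F
  have hprF : ∀ m, prF m = m i₀ := fun m => rfl
  let W : Submodule F (∀ i, Q i) := LinearMap.ker prF
  have he : W ≤ W.comap (L.restrictScalars F) := by
    intro m hm
    have hm' : m i₀ = 0 := hm
    show prF (L m) = 0
    rw [hL, hprF, Pi.add_apply, Pi.single_eq_same, hm', smul_zero, add_zero]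
    rfl
  haveI : Module.Free F W := Module.Free.of_divisionRing F W
  haveI : Module.Free F ((∀ i, Q i) ⧸ W) := Module.Free.of_divisionRing F _
  haveI : Module.Finite F (∀ i, Q i) := ‹_›
  rw [LinearMap.det_eq_det_mul_det W (L.restrictScalars F) he]
  have h1 : (L.restrictScalars F).restrict he = LinearMap.id := by
    apply LinearMap.ext
    rintro ⟨m, hm⟩
    have hm' : m i₀ = 0 := hm
    apply Subtype.ext
    show L m = m
    rw [hL, hm', smul_zero, Pi.single_zero, add_zero]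
  rw [h1, LinearMap.det_id, one_mul]
  have hsurj : Function.Surjective prF := fun q => ⟨Pi.single (M := Q) i₀ q, by rw [hprF]; exact Pi.single_eq_same (M := Q) i₀ q⟩
  let θ : ((∀ i, Q i) ⧸ W) ≃ₗ[F] AdjoinRoot (g i₀) := prF.quotKerEquivOfSurjective hsurj
  have h2 : W.mapQ W (L.restrictScalars F) he =
      (θ.symm : AdjoinRoot (g i₀) →ₗ[F] _) ∘ₗ (Algebra.lmul F (AdjoinRoot (g i₀)) (AdjoinRoot.mk (g i₀) f)) ∘ₗ
        (θ.symm.symm : _ →ₗ[F] AdjoinRoot (g i₀)) := by
    apply LinearMap.ext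
    intro y
    obtain ⟨m, rfl⟩ := Submodule.Quotient.mk_surjective W y
    apply θ.injective
    simp only [LinearMap.comp_apply, LinearEquiv.coe_coe, LinearEquiv.apply_symm_apply,
      LinearEquiv.symm_symm]
    show prF (L m) = AdjoinRoot.mk (g i₀) f * prF m
    rw [hL, hprF, hprF, Pi.add_apply, Pi.single_eq_same, sub_smul, one_smul]
    obtain ⟨r, hr⟩ := AdjoinRoot.mk_surjective (m i₀)
    rw [← hr]
    show AdjoinRoot.mk (g i₀) r + (AdjoinRoot.mk (g i₀) (f * r) - AdjoinRoot.mk (g i₀) r) = _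
    rw [map_mul]; ring
  rw [h2, LinearMap.det_conj, ← hu]
  rfl


theorem exists_comm_det {F : Type*} [Field F] [Finite F] {V : Type*} [AddCommGroup V] [Module F V]
    [FiniteDimensional F V] [Nontrivial V] (T : V →ₗ[F] V) (k : ℕ) (hk : (k : F) ≠ 0)
    (hT : T ^ k = 1) (d : F) :
    ∃ c : V →ₗ[F] V, c ∘ₗ T = T ∘ₗ c ∧ LinearMap.det c = d := by
  classical
  have htors : Module.IsTorsion F[X] (Module.AEval' T) :=
    Module.AEval.isTorsion_of_finiteDimensional F V T
  obtain ⟨ι, _, p, hp, e, ⟨φ⟩⟩ := Module.equiv_directSum_of_isTorsion htors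
  let Q := fun i => F[X] ⧸ Submodule.span F[X] {p i ^ e i}
  let ψ : Module.AEval' T ≃ₗ[F[X]] (∀ i, Q i) :=
    φ.trans (DirectSum.linearEquivFunOnFintype F[X] ι _)
  let E : V ≃ₗ[F] (∀ i, Q i) := (Module.AEval'.of T).trans (ψ.restrictScalars F)
  have hE : ∀ v, E (T v) = (X : F[X]) • E v := by
    intro v
    show ψ (Module.AEval'.of T (T v)) = (X : F[X]) • ψ (Module.AEval'.of T v)
    rw [← Module.AEval'.X_smul_of, map_smul]
  obtain ⟨i₀, hi₀⟩ : ∃ i₀, Nontrivial (Q i₀) := by
    by_contra hcon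
    push Not at hcon
    haveI : ∀ i, Subsingleton (Q i) := hcon
    haveI : Subsingleton V := E.toEquiv.subsingleton
    exact not_subsingleton V this
  have hann : ∀ m : Module.AEval' T, (X ^ k - 1 : F[X]) • m = 0 := by
    intro m
    obtain ⟨v, rfl⟩ := (Module.AEval'.of T).surjective m
    rw [← Module.AEval.of_aeval_smul]
    simp [hT]
  have hdvd : p i₀ ^ e i₀ ∣ X ^ k - 1 := by
    have h1 := hann (ψ.symm (Pi.single (M := Q) i₀ (Submodule.Quotient.mk 1)))
    have h2 := congrArg ψ h1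
    rw [map_smul, LinearEquiv.apply_symm_apply, map_zero] at h2
    have h3 := congrFun h2 i₀
    rw [Pi.smul_apply, Pi.single_eq_same, Pi.zero_apply, ← Submodule.Quotient.mk_smul, smul_eq_mul,
      mul_one, Submodule.Quotient.mk_eq_zero, Submodule.mem_span_singleton] at h3
    obtain ⟨a, ha⟩ := h3
    exact ⟨a, by rw [← ha, smul_eq_mul, mul_comm]⟩
  have hsep : (X ^ k - 1 : F[X]).Separable := by
    have := Polynomial.separable_X_pow_sub_C (1 : F) hk one_ne_zero
    simpa using this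
  have he1 : e i₀ = 1 := by
    have hsq := hsep.squarefree
    rcases Nat.lt_or_ge (e i₀) 1 with h | h
    · exfalso
      have h0 : e i₀ = 0 := by omega
      have hsub : Subsingleton (Q i₀) := by
        show Subsingleton (F[X] ⧸ Submodule.span F[X] {p i₀ ^ e i₀})
        rw [h0, pow_zero]
        apply Submodule.Quotient.subsingleton_iff.mpr
        rw [← Ideal.span, Ideal.span_singleton_one]
      exact not_subsingleton _ hsub
    · rcases Nat.lt_or_ge 1 (e i₀) with h' | h'
      · exfalso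
        have : p i₀ * p i₀ ∣ X ^ k - 1 :=
          dvd_trans ⟨p i₀ ^ (e i₀ - 2), by rw [← sq, ← pow_add]; congr 1; omega⟩ hdvd
        exact (hp i₀).not_isUnit (hsq _ this)
      · omega
  have hirr : Irreducible (p i₀ ^ e i₀) := by rw [he1, pow_one]; exact hp i₀
  haveI : Module.Finite F (∀ i, F[X] ⧸ Submodule.span F[X] {p i ^ e i}) := Module.Finite.equiv E
  obtain ⟨L, hL⟩ := det_lemma (fun i => p i ^ e i) i₀ hirr d
  refine ⟨(E.symm : _ →ₗ[F] V) ∘ₗ (L.restrictScalars F) ∘ₗ (E : V →ₗ[F] _), ?_, ?_⟩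
  · apply LinearMap.ext; intro v
    simp only [LinearMap.comp_apply, LinearEquiv.coe_coe, LinearMap.restrictScalars_apply]
    apply E.injective
    rw [hE, hE, map_smul, LinearEquiv.apply_symm_apply, LinearEquiv.apply_symm_apply]
  · have := LinearMap.det_conj (L.restrictScalars F) E.symm
    rw [LinearEquiv.symm_symm] at this
    rw [this, hL]

end Cfsg.Agent.Lib.Helper7_SemisimpleDet
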