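import Mathlib
import Cfsg.Agent.Lib.Helper7_SemisimpleDet
set_option autoImplicit false
open Polynomial

namespace Cfsg.Agent.Lib.Helper7_Semisimple

universe u v

/-- multiplication by `X` as an `F`-linear endomorphism of an `F[X]`-module -/
noncomputable def mulX (F : Type u) [Field F] (Q : Type v) [AddCommGroup Q] [Module F[X] Q] [Module F Q]
    [IsScalarTower F F[X] Q] : Q →ₗ[F] Q :=
  (LinearMap.lsmul F[X] Q X).restrictScalars F

theorem mulX_apply (F : Type u) [Field F] (Q : Type v) [AddCommGroup Q] [Module F[X] Q] [Module F Q]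
    [IsScalarTower F F[X] Q] (q : Q) : mulX F Q q = (X : F[X]) • q := rfl

theorem finite_quot {F : Type u} [Field F] (r : F[X]) (hr : r ≠ 0) :
    Module.Finite F (F[X] ⧸ Submodule.span F[X] {r}) :=
  (AdjoinRoot.powerBasis hr).finite

theorem charpoly_mulX_quot {F : Type u} [Field F] (r : F[X]) (hr : r.Monic)
    [Module.Finite F (F[X] ⧸ Submodule.span F[X] {r})] :
    (mulX F (F[X] ⧸ Submodule.span F[X] {r})).charpoly = r := by
  haveI : Module.Finite F (AdjoinRoot r) := (AdjoinRoot.powerBasis hr.ne_zero).finite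
  have h1 : (Algebra.lmul F (AdjoinRoot r) (AdjoinRoot.root r)).charpoly = r := by
    rw [← LinearMap.charpoly_toMatrix _ (AdjoinRoot.powerBasis hr.ne_zero).basis]
    have := charpoly_leftMulMatrix (AdjoinRoot.powerBasis hr.ne_zero)
    rw [AdjoinRoot.minpoly_powerBasis_gen_of_monic hr] at this
    exact this
  have h2 : mulX F (F[X] ⧸ Submodule.span F[X] {r}) = Algebra.lmul F (AdjoinRoot r) (AdjoinRoot.root r) := by
    apply LinearMap.ext
    intro q
    obtain ⟨s, rfl⟩ := AdjoinRoot.mk_surjective q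
    show AdjoinRoot.mk r (X * s) = AdjoinRoot.root r * AdjoinRoot.mk r s
    rw [map_mul]; rfl
  rw [h2]
  exact h1

theorem charpoly_of_subsingleton {F : Type u} [Field F] {M : Type v} [AddCommGroup M] [Module F M]
    [Subsingleton M] (f : M →ₗ[F] M) : f.charpoly = 1 := by
  have h1 := LinearMap.charpoly_natDegree f
  rw [Module.finrank_zero_of_subsingleton] at h1
  exact Polynomial.eq_one_of_monic_natDegree_zero (LinearMap.charpoly_monic f) h1

theorem charpoly_pi_fin {F : Type u} [Field F] : ∀ (n : ℕ) (M : Fin n → Type v)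
    [∀ i, AddCommGroup (M i)] [∀ i, Module F (M i)] [∀ i, Module.Finite F (M i)]
    (f : ∀ i, M i →ₗ[F] M i),
    (LinearMap.pi fun i => f i ∘ₗ LinearMap.proj i).charpoly = ∏ i, (f i).charpoly := by
  intro n
  induction n with
  | zero =>
    intro M _ _ _ f
    rw [charpoly_of_subsingleton]
    simp
  | succ n ih =>
    intro M _ _ _ f
    let e := Fin.consLinearEquiv F M
    have h1 : (LinearMap.pi fun i => f i ∘ₗ LinearMap.proj i) =
        e.conj ((f 0).prodMap (LinearMap.pi fun i : Fin n => f i.succ ∘ₗ LinearMap.proj i)) := by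
      apply LinearMap.ext
      intro m
      funext i
      refine Fin.cases ?_ (fun j => ?_) i
      · simp [e, LinearEquiv.conj_apply]
      · simp [e, LinearEquiv.conj_apply, Fin.tail]
    rw [h1, LinearEquiv.charpoly_conj, LinearMap.charpoly_prodMap,
      ih (fun i => M i.succ) (fun i => f i.succ), Fin.prod_univ_succ]


/-- drop the trivial factors of a product -/
noncomputable def piDrop {R : Type*} [Semiring R] {ι' : Type*} (Q' : ι' → Type*)
    [∀ i, AddCommMonoid (Q' i)] [∀ i, Module R (Q' i)] (P : ι' → Prop) [DecidablePred P]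
    (hsub : ∀ i, ¬ P i → Subsingleton (Q' i)) :
    (∀ i, Q' i) ≃ₗ[R] (∀ i : {i // P i}, Q' i.1) where
  toFun m := fun i => m i.1
  invFun m := fun i => if h : P i then m ⟨i, h⟩ else 0
  map_add' := fun _ _ => rfl
  map_smul' := fun _ _ => rfl
  left_inv := by
    intro m
    funext i
    by_cases h : P i
    · simp [h]
    · haveI := hsub i h
      exact Subsingleton.elim _ _
  right_inv := by
    intro m
    funext i
    obtain ⟨i, h⟩ := i
    simp [h]

theorem semisimple_decomp {F : Type u} [Field F] {V : Type v} [AddCommGroup V] [Module F V]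
    [FiniteDimensional F V] (T : V →ₗ[F] V) (k : ℕ) (hk : (k : F) ≠ 0) (hT : T ^ k = 1) :
    ∃ (n : ℕ) (r : Fin n → F[X]), (∀ i, Irreducible (r i)) ∧ (∀ i, (r i).Monic) ∧
      ∃ E : V ≃ₗ[F] (∀ i, F[X] ⧸ Submodule.span F[X] {r i}),
        ∀ v, E (T v) = (X : F[X]) • E v := by
  classical
  have htors : Module.IsTorsion F[X] (Module.AEval' T) :=
    Module.AEval.isTorsion_of_finiteDimensional F V T
  obtain ⟨ι', _, p, hp, e, ⟨φ⟩⟩ := Module.equiv_directSum_of_isTorsion htors
  let Q' := fun i => F[X] ⧸ Submodule.span F[X] {p i ^ e i}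
  let ψ : Module.AEval' T ≃ₗ[F[X]] (∀ i, Q' i) :=
    φ.trans (DirectSum.linearEquivFunOnFintype F[X] ι' _)
  have hann : ∀ m : Module.AEval' T, (X ^ k - 1 : F[X]) • m = 0 := by
    intro m
    obtain ⟨v, rfl⟩ := (Module.AEval'.of T).surjective m
    rw [← Module.AEval.of_aeval_smul]
    simp [hT]
  have hdvd : ∀ i, p i ^ e i ∣ X ^ k - 1 := by
    intro i
    have h1 := hann (ψ.symm (Pi.single (M := Q') i (Submodule.Quotient.mk 1)))
    have h2 := congrArg ψ h1
    rw [map_smul, LinearEquiv.apply_symm_apply, map_zero] at h2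
    have h3 := congrFun h2 i
    rw [Pi.smul_apply, Pi.single_eq_same, Pi.zero_apply, ← Submodule.Quotient.mk_smul, smul_eq_mul,
      mul_one, Submodule.Quotient.mk_eq_zero, Submodule.mem_span_singleton] at h3
    obtain ⟨a, ha⟩ := h3
    exact ⟨a, by rw [← ha, smul_eq_mul, mul_comm]⟩
  have hsep : (X ^ k - 1 : F[X]).Separable := by
    have := Polynomial.separable_X_pow_sub_C (1 : F) hk one_ne_zero
    simpa using this
  have he1 : ∀ i, e i ≠ 0 → e i = 1 := by
    intro i h0
    have hsq := hsep.squarefree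
    rcases Nat.lt_or_ge 1 (e i) with h' | h'
    · exfalso
      have : p i * p i ∣ X ^ k - 1 :=
        dvd_trans ⟨p i ^ (e i - 2), by rw [← sq, ← pow_add]; congr 1; omega⟩ (hdvd i)
      exact (hp i).not_isUnit (hsq _ this)
    · omega
  have hsub : ∀ i, ¬ (e i ≠ 0) → Subsingleton (Q' i) := by
    intro i h
    have h0 : e i = 0 := by omega
    show Subsingleton (F[X] ⧸ Submodule.span F[X] {p i ^ e i})
    rw [h0, pow_zero]
    apply Submodule.Quotient.subsingleton_iff.mpr
    rw [← Ideal.span, Ideal.span_singleton_one]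
  let ι := {i : ι' // e i ≠ 0}
  let σ : ι ≃ Fin (Fintype.card ι) := Fintype.equivFin ι
  let R := fun i : ι => F[X] ⧸ Submodule.span F[X] {normalize (p i.1)}
  have hI : ∀ i : ι, Submodule.span F[X] {p i.1 ^ e i.1} =
      Submodule.span F[X] {normalize (p i.1)} := by
    intro i
    rw [he1 i.1 i.2, pow_one]
    exact Ideal.span_singleton_eq_span_singleton.mpr (associated_normalize _)
  let s1 : (∀ i, Q' i) ≃ₗ[F[X]] (∀ i : ι, Q' i.1) := piDrop Q' (fun i => e i ≠ 0) hsub
  let s2 : (∀ i : ι, Q' i.1) ≃ₗ[F[X]] (∀ i : ι, R i) :=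
    LinearEquiv.piCongrRight fun i => Submodule.quotEquivOfEq _ _ (hI i)
  let s3 : (∀ i : ι, R i) ≃ₗ[F[X]] (∀ j : Fin (Fintype.card ι), R (σ.symm j)) :=
    LinearEquiv.piCongrLeft' F[X] R σ
  let Ψ : Module.AEval' T ≃ₗ[F[X]] (∀ j : Fin (Fintype.card ι), R (σ.symm j)) :=
    ψ.trans (s1.trans (s2.trans s3))
  refine ⟨Fintype.card ι, fun j => normalize (p (σ.symm j).1), fun j => ?_, fun j => ?_,
    (Module.AEval'.of T).trans (Ψ.restrictScalars F), ?_⟩
  · exact (associated_normalize _).irreducible (hp _)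
  · exact Polynomial.monic_normalize (hp _).ne_zero
  · intro v
    show Ψ (Module.AEval'.of T (T v)) = (X : F[X]) • Ψ (Module.AEval'.of T v)
    rw [← Module.AEval'.X_smul_of, map_smul]


theorem exists_equiv_of_map_eq {α : Type*} [DecidableEq α] {n m : ℕ} (r : Fin n → α) (s : Fin m → α)
    (h : Multiset.map r Finset.univ.val = Multiset.map s Finset.univ.val) :
    ∃ σ : Fin n ≃ Fin m, ∀ i, r i = s (σ i) := by
  have hc : ∀ c, Fintype.card {i // r i = c} = Fintype.card {j // s j = c} := by
    intro c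
    have h1 := congrArg (Multiset.count c) h
    rw [Multiset.count_map, Multiset.count_map] at h1
    rw [Fintype.card_subtype, Fintype.card_subtype]
    have e1 : (Finset.univ.filter fun i => r i = c).card =
        (Multiset.filter (fun a => c = r a) Finset.univ.val).card := by
      rw [Finset.card_def, Finset.filter_val]
      congr 1
      apply Multiset.filter_congr
      intro x _; exact eq_comm
    have e2 : (Finset.univ.filter fun i => s i = c).card =
        (Multiset.filter (fun a => c = s a) Finset.univ.val).card := by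
      rw [Finset.card_def, Finset.filter_val]
      congr 1
      apply Multiset.filter_congr
      intro x _; exact eq_comm
    rw [e1, e2, h1]
  let σ := Equiv.ofFiberEquiv (f := r) (g := s) (fun c => Fintype.equivOfCardEq (hc c))
  exact ⟨σ, fun i => (Equiv.ofFiberEquiv_map _ i).symm⟩

theorem normalizedFactors_prod_fin {F : Type u} [Field F] [DecidableEq F] {n : ℕ} (r : Fin n → F[X])
    (hr : ∀ i, Irreducible (r i)) (hrm : ∀ i, (r i).Monic) :
    UniqueFactorizationMonoid.normalizedFactors (∏ i, r i) = Multiset.map r Finset.univ.val := by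
  have := UniqueFactorizationMonoid.normalizedFactors_prod_eq (Multiset.map r Finset.univ.val)
    (by intro a ha; obtain ⟨i, _, rfl⟩ := Multiset.mem_map.mp ha; exact hr i)
  rw [Multiset.map_map] at this
  rw [Finset.prod_eq_multiset_prod, this]
  apply Multiset.map_congr rfl
  intro i _
  exact (hrm i).normalize_eq_self

theorem piReindex {F : Type u} [Field F] {n m : ℕ} (r : Fin n → F[X]) (s : Fin m → F[X])
    (σ : Fin n ≃ Fin m) (h : ∀ i, r i = s (σ i)) :
    Nonempty ((∀ i, F[X] ⧸ Submodule.span F[X] {r i}) ≃ₗ[F[X]]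
      (∀ j, F[X] ⧸ Submodule.span F[X] {s j})) := by
  have : r = fun i => s (σ i) := funext h
  subst this
  exact ⟨LinearEquiv.piCongrLeft F[X] (fun j => F[X] ⧸ Submodule.span F[X] {s j}) σ⟩

theorem charpoly_of_decomp {F : Type u} [Field F] {V : Type v} [AddCommGroup V] [Module F V]
    [FiniteDimensional F V] (T : V →ₗ[F] V) {n : ℕ} (r : Fin n → F[X])
    (hr : ∀ i, Irreducible (r i)) (hrm : ∀ i, (r i).Monic)
    (E : V ≃ₗ[F] (∀ i, F[X] ⧸ Submodule.span F[X] {r i}))
    (hE : ∀ v, E (T v) = (X : F[X]) • E v) : T.charpoly = ∏ i, r i := by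
  haveI : ∀ i, Module.Finite F (F[X] ⧸ Submodule.span F[X] {r i}) :=
    fun i => finite_quot (r i) (hr i).ne_zero
  have h1 : E.conj T = LinearMap.pi fun i =>
      mulX F (F[X] ⧸ Submodule.span F[X] {r i}) ∘ₗ LinearMap.proj i := by
    apply LinearMap.ext
    intro m
    rw [LinearEquiv.conj_apply_apply, hE, LinearEquiv.apply_symm_apply]
    rfl
  rw [← LinearEquiv.charpoly_conj E T, h1, charpoly_pi_fin]
  apply Finset.prod_congr rfl
  intro i _
  exact charpoly_mulX_quot (r i) (hrm i)

theorem conj_of_charpoly_eq {F : Type u} [Field F] {V : Type v} {V' : Type v} [AddCommGroup V]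
    [Module F V] [FiniteDimensional F V] [AddCommGroup V'] [Module F V'] [FiniteDimensional F V']
    (T : V →ₗ[F] V) (T' : V' →ₗ[F] V') (k k' : ℕ) (hk : (k : F) ≠ 0) (hk' : (k' : F) ≠ 0)
    (hT : T ^ k = 1) (hT' : T' ^ k' = 1) (hc : T.charpoly = T'.charpoly) :
    ∃ E : V ≃ₗ[F] V', ∀ v, E (T v) = T' (E v) := by
  classical
  obtain ⟨n, r, hr, hrm, E₁, hE₁⟩ := semisimple_decomp T k hk hT
  obtain ⟨m, s, hs, hsm, E₂, hE₂⟩ := semisimple_decomp T' k' hk' hT'
  have h1 := charpoly_of_decomp T r hr hrm E₁ hE₁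
  have h2 := charpoly_of_decomp T' s hs hsm E₂ hE₂
  have h3 : ∏ i, r i = ∏ j, s j := by rw [← h1, ← h2, hc]
  have h4 : Multiset.map r Finset.univ.val = Multiset.map s Finset.univ.val := by
    rw [← normalizedFactors_prod_fin r hr hrm, ← normalizedFactors_prod_fin s hs hsm, h3]
  obtain ⟨σ, hσ⟩ := exists_equiv_of_map_eq r s h4
  obtain ⟨Θ⟩ := piReindex r s σ hσ
  refine ⟨E₁.trans ((Θ.restrictScalars F).trans E₂.symm), ?_⟩
  intro v
  show E₂.symm (Θ (E₁ (T v))) = T' (E₂.symm (Θ (E₁ v)))
  apply E₂.injective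
  rw [LinearEquiv.apply_symm_apply, hE₂, LinearEquiv.apply_symm_apply, hE₁, map_smul]

end Cfsg.Agent.Lib.Helper7_Semisimple
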