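import Mathlib
import Cfsg.Agent.Lib.Helper7_Semisimple
set_option autoImplicit false
open Polynomial

namespace Cfsg.Agent.Lib.Helper7_Jordan

universe u v

open Cfsg.Agent.Lib.Helper7_Semisimple

/-- the nilpotent block `F[X]/(X^e)` -/
abbrev Blk (F : Type u) [Field F] (e : ℕ) : Type u :=
  F[X] ⧸ Submodule.span F[X] {(X : F[X]) ^ e}

theorem blk_finite (F : Type u) [Field F] (e : ℕ) : Module.Finite F (Blk F e) :=
  finite_quot _ (pow_ne_zero _ X_ne_zero)

theorem blk_finrank (F : Type u) [Field F] (e : ℕ) : Module.finrank F (Blk F e) = e := by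
  have hm : (X ^ e : F[X]).Monic := Polynomial.monic_X_pow e
  have h := (AdjoinRoot.powerBasis' hm).finrank
  rw [AdjoinRoot.powerBasis'_dim, Polynomial.natDegree_X_pow] at h
  exact h

theorem blk_natCard (F : Type u) [Field F] (e : ℕ) : Nat.card (Blk F e) = Nat.card F ^ e := by
  haveI := blk_finite F e
  rw [Module.natCard_eq_pow_finrank (K := F), blk_finrank]

theorem blk_mk_eq_zero {F : Type u} [Field F] (e : ℕ) (s : F[X]) :
    (Submodule.Quotient.mk s : Blk F e) = 0 ↔ (X : F[X]) ^ e ∣ s := by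
  rw [Submodule.Quotient.mk_eq_zero, Submodule.mem_span_singleton]
  constructor
  · rintro ⟨a, ha⟩
    exact ⟨a, by rw [← ha, smul_eq_mul, mul_comm]⟩
  · rintro ⟨a, ha⟩
    exact ⟨a, by rw [ha, smul_eq_mul, mul_comm]⟩

theorem blk_smul_mk {F : Type u} [Field F] (e : ℕ) (f s : F[X]) :
    f • (Submodule.Quotient.mk s : Blk F e) = Submodule.Quotient.mk (f * s) := by
  rw [← Submodule.Quotient.mk_smul, smul_eq_mul]

theorem blk_card_ker {F : Type u} [Field F] (e k : ℕ) :
    Nat.card {y : Blk F e // (X ^ k : F[X]) • y = 0} = Nat.card F ^ min k e := by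
  classical
  rcases le_or_gt e k with hek | hke
  · rw [min_eq_right hek]
    have hall : ∀ y : Blk F e, (X ^ k : F[X]) • y = 0 := by
      intro y
      obtain ⟨s, rfl⟩ := Submodule.Quotient.mk_surjective _ y
      rw [blk_smul_mk, blk_mk_eq_zero]
      exact Dvd.dvd.mul_right (pow_dvd_pow X hek) s
    rw [Nat.card_congr (Equiv.subtypeUnivEquiv hall), blk_natCard]
  · rw [min_eq_left hke.le]
    have hsplit : (X : F[X]) ^ e = X ^ (e - k) * X ^ k := by rw [← pow_add]; congr 1; omega
    let f : Blk F k →ₗ[F[X]] Blk F e :=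
      Submodule.mapQ _ _ (LinearMap.lsmul F[X] F[X] (X ^ (e - k))) (by
        intro s hs
        rw [Submodule.mem_comap, LinearMap.lsmul_apply, smul_eq_mul]
        have h1 : (Submodule.Quotient.mk s : Blk F k) = 0 :=
          (Submodule.Quotient.mk_eq_zero _).mpr hs
        rw [blk_mk_eq_zero] at h1
        have h2 : (Submodule.Quotient.mk (X ^ (e - k) * s) : Blk F e) = 0 := by
          rw [blk_mk_eq_zero, hsplit]
          exact mul_dvd_mul_left _ h1
        exact (Submodule.Quotient.mk_eq_zero _).mp h2)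
    have hf : ∀ s : F[X], f (Submodule.Quotient.mk s) =
        (Submodule.Quotient.mk (X ^ (e - k) * s) : Blk F e) := fun s => rfl
    have hX0 : (X : F[X]) ^ (e - k) ≠ 0 := pow_ne_zero _ X_ne_zero
    have hinj : Function.Injective f := by
      rw [← LinearMap.ker_eq_bot, LinearMap.ker_eq_bot']
      intro y hy
      obtain ⟨s, rfl⟩ := Submodule.Quotient.mk_surjective _ y
      rw [hf, blk_mk_eq_zero, hsplit] at hy
      rw [blk_mk_eq_zero]
      exact (mul_dvd_mul_iff_left hX0).mp hy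
    have hrange : ∀ y : Blk F e, (X ^ k : F[X]) • y = 0 ↔ y ∈ Set.range f := by
      intro y
      constructor
      · intro hy
        obtain ⟨s, rfl⟩ := Submodule.Quotient.mk_surjective _ y
        rw [blk_smul_mk, blk_mk_eq_zero] at hy
        have h1 : (X : F[X]) ^ e = X ^ k * X ^ (e - k) := by rw [hsplit, mul_comm]
        rw [h1] at hy
        obtain ⟨w, hw⟩ := (mul_dvd_mul_iff_left (pow_ne_zero k X_ne_zero)).mp hy
        exact ⟨Submodule.Quotient.mk w, by rw [hf, hw]⟩
      · rintro ⟨z, rfl⟩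
        obtain ⟨s, rfl⟩ := Submodule.Quotient.mk_surjective _ z
        rw [hf, blk_smul_mk, blk_mk_eq_zero]
        have h1 : (X : F[X]) ^ k * (X ^ (e - k) * s) = X ^ e * s := by
          rw [hsplit]; ring
        rw [h1]
        exact Dvd.intro _ rfl
    rw [Nat.card_congr (Equiv.subtypeEquivRight hrange)]
    exact (Nat.card_range_of_injective hinj).trans (blk_natCard F k)

theorem model_card_ker {F : Type u} [Field F] {m : ℕ} (e : Fin m → ℕ) (k : ℕ) :
    Nat.card {x : ∀ i, Blk F (e i) // (X ^ k : F[X]) • x = 0} =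
      Nat.card F ^ (∑ i, min k (e i)) := by
  have e1 : {x : ∀ i, Blk F (e i) // (X ^ k : F[X]) • x = 0} ≃
      ∀ i, {y : Blk F (e i) // (X ^ k : F[X]) • y = 0} :=
    (Equiv.subtypeEquivRight (fun x => by rw [funext_iff]; rfl)).trans Equiv.subtypePiEquivPi
  rw [Nat.card_congr e1, Nat.card_pi, Finset.prod_congr rfl (fun i _ => blk_card_ker (e i) k),
    Finset.prod_pow_eq_pow_sum]

theorem type_determined {m m' : ℕ} (e : Fin m → ℕ) (e' : Fin m' → ℕ) (he : ∀ i, 0 < e i)
    (he' : ∀ j, 0 < e' j) (h : ∀ k, ∑ i, min k (e i) = ∑ j, min k (e' j)) :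
    Multiset.map e Finset.univ.val = Multiset.map e' Finset.univ.val := by
  classical
  have hcount : ∀ (m : ℕ) (e : Fin m → ℕ) (a : ℕ),
      Multiset.count a (Multiset.map e Finset.univ.val) = ∑ i, if e i = a then 1 else 0 := by
    intro m e a
    rw [Multiset.count_map, ← Finset.filter_val, ← Finset.card_def, Finset.card_filter]
    apply Finset.sum_congr rfl
    intro i _
    by_cases h : e i = a
    · rw [if_pos h, if_pos h.symm]
    · rw [if_neg h, if_neg (Ne.symm h)]
  have hkey : ∀ (m : ℕ) (e : Fin m → ℕ) (a : ℕ), 1 ≤ a →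
      (∑ i, if e i = a then 1 else 0) + ∑ i, min (a - 1) (e i) + ∑ i, min (a + 1) (e i) =
        2 * ∑ i, min a (e i) := by
    intro m e a ha
    rw [← Finset.sum_add_distrib, ← Finset.sum_add_distrib, Finset.mul_sum]
    apply Finset.sum_congr rfl
    intro i _
    split_ifs with h <;> omega
  ext a
  rw [hcount, hcount]
  rcases Nat.eq_zero_or_pos a with ha | ha
  · subst ha
    rw [Finset.sum_eq_zero, Finset.sum_eq_zero]
    · intro j _; rw [if_neg (he' j).ne']
    · intro i _; rw [if_neg (he i).ne']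
  · have h1 := hkey m e a ha
    have h2 := hkey m' e' a ha
    rw [h (a - 1), h (a + 1), h a] at h1
    omega

theorem nilpotent_decomp {F : Type u} [Field F] {V : Type v} [AddCommGroup V] [Module F V]
    [FiniteDimensional F V] (N : V →ₗ[F] V) (k : ℕ) (hN : N ^ k = 0) :
    ∃ (m : ℕ) (e : Fin m → ℕ), (∀ i, 0 < e i) ∧
      ∃ E : V ≃ₗ[F] (∀ i, Blk F (e i)), ∀ v, E (N v) = (X : F[X]) • E v := by
  classical
  have htors : Module.IsTorsion F[X] (Module.AEval' N) :=
    Module.AEval.isTorsion_of_finiteDimensional F V N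
  obtain ⟨ι', _, p, hp, e, ⟨φ⟩⟩ := Module.equiv_directSum_of_isTorsion htors
  let Q' := fun i => F[X] ⧸ Submodule.span F[X] {p i ^ e i}
  let ψ : Module.AEval' N ≃ₗ[F[X]] (∀ i, Q' i) :=
    φ.trans (DirectSum.linearEquivFunOnFintype F[X] ι' _)
  have hann : ∀ m : Module.AEval' N, (X ^ k : F[X]) • m = 0 := by
    intro m
    obtain ⟨v, rfl⟩ := (Module.AEval'.of N).surjective m
    rw [← Module.AEval.of_aeval_smul]
    simp [hN]
  have hdvd : ∀ i, p i ^ e i ∣ X ^ k := by
    intro i
    have h1 := hann (ψ.symm (Pi.single (M := Q') i (Submodule.Quotient.mk 1)))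
    have h2 := congrArg ψ h1
    rw [map_smul, LinearEquiv.apply_symm_apply, map_zero] at h2
    have h3 := congrFun h2 i
    rw [Pi.smul_apply, Pi.single_eq_same, Pi.zero_apply, ← Submodule.Quotient.mk_smul, smul_eq_mul,
      mul_one, Submodule.Quotient.mk_eq_zero, Submodule.mem_span_singleton] at h3
    obtain ⟨a, ha⟩ := h3
    exact ⟨a, by rw [← ha, smul_eq_mul, mul_comm]⟩
  have hassoc : ∀ i, e i ≠ 0 → Associated (p i) X := by
    intro i h0
    have h1 : p i ∣ X ^ k := dvd_trans (dvd_pow_self _ h0) (hdvd i)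
    have h2 : p i ∣ X := (hp i).prime.dvd_of_dvd_pow h1
    exact (hp i).associated_of_dvd Polynomial.irreducible_X h2
  have hsub : ∀ i, ¬ (e i ≠ 0) → Subsingleton (Q' i) := by
    intro i h
    have h0 : e i = 0 := by omega
    show Subsingleton (F[X] ⧸ Submodule.span F[X] {p i ^ e i})
    rw [h0, pow_zero]
    apply Submodule.Quotient.subsingleton_iff.mpr
    rw [← Ideal.span, Ideal.span_singleton_one]
  let ι := {i : ι' // e i ≠ 0}
  let σ : ι ≃ Fin (Fintype.card ι) := Fintype.equivFin ι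
  let R := fun i : ι => F[X] ⧸ Submodule.span F[X] {(X : F[X]) ^ e i.1}
  have hI : ∀ i : ι, Submodule.span F[X] {p i.1 ^ e i.1} =
      Submodule.span F[X] {(X : F[X]) ^ e i.1} := by
    intro i
    exact Ideal.span_singleton_eq_span_singleton.mpr ((hassoc i.1 i.2).pow_pow)
  let s1 : (∀ i, Q' i) ≃ₗ[F[X]] (∀ i : ι, Q' i.1) := piDrop Q' (fun i => e i ≠ 0) hsub
  let s2 : (∀ i : ι, Q' i.1) ≃ₗ[F[X]] (∀ i : ι, R i) :=
    LinearEquiv.piCongrRight fun i => Submodule.quotEquivOfEq _ _ (hI i)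
  let s3 : (∀ i : ι, R i) ≃ₗ[F[X]] (∀ j : Fin (Fintype.card ι), R (σ.symm j)) :=
    LinearEquiv.piCongrLeft' F[X] R σ
  let Ψ : Module.AEval' N ≃ₗ[F[X]] (∀ j : Fin (Fintype.card ι), R (σ.symm j)) :=
    ψ.trans (s1.trans (s2.trans s3))
  refine ⟨Fintype.card ι, fun j => e (σ.symm j).1, fun j => Nat.pos_of_ne_zero (σ.symm j).2,
    (Module.AEval'.of N).trans (Ψ.restrictScalars F), ?_⟩
  intro v
  show Ψ (Module.AEval'.of N (N v)) = (X : F[X]) • Ψ (Module.AEval'.of N v)
  rw [← Module.AEval'.X_smul_of, map_smul]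

end Cfsg.Agent.Lib.Helper7_Jordan
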