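import Mathlib
import Cfsg.Agent.Lib.Helper7_Jordan
set_option autoImplicit false
open Polynomial

namespace Cfsg.Agent.Lib.Helper7_JordanB

universe u v w

open Cfsg.Agent.Lib.Helper7_Semisimple Cfsg.Agent.Lib.Helper7_Jordan

/-- `HasType N M`: `N` is similar to the nilpotent model with block sizes the multiset `M` -/
def HasType {F : Type u} [Field F] {V : Type v} [AddCommGroup V] [Module F V]
    (N : V →ₗ[F] V) (M : Multiset ℕ) : Prop :=
  ∃ (m : ℕ) (e : Fin m → ℕ), (∀ i, 0 < e i) ∧ Multiset.map e Finset.univ.val = M ∧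
    ∃ E : V ≃ₗ[F] (∀ i, Blk F (e i)), ∀ v, E (N v) = (X : F[X]) • E v

theorem hasType_exists {F : Type u} [Field F] {V : Type v} [AddCommGroup V] [Module F V]
    [FiniteDimensional F V] (N : V →ₗ[F] V) (k : ℕ) (hN : N ^ k = 0) : ∃ M, HasType N M := by
  obtain ⟨m, e, he, E, hE⟩ := nilpotent_decomp N k hN
  exact ⟨_, m, e, he, rfl, E, hE⟩

theorem hasType_pos {F : Type u} [Field F] {V : Type v} [AddCommGroup V] [Module F V]
    {N : V →ₗ[F] V} {M : Multiset ℕ} (h : HasType N M) : ∀ a ∈ M, 0 < a := by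
  obtain ⟨m, e, he, rfl, E, hE⟩ := h
  intro a ha
  obtain ⟨i, _, rfl⟩ := Multiset.mem_map.mp ha
  exact he i

theorem hasType_sum {F : Type u} [Field F] {V : Type v} [AddCommGroup V] [Module F V]
    [FiniteDimensional F V] {N : V →ₗ[F] V} {M : Multiset ℕ} (h : HasType N M) :
    M.sum = Module.finrank F V := by
  obtain ⟨m, e, he, rfl, E, hE⟩ := h
  haveI : ∀ i, Module.Finite F (Blk F (e i)) := fun i => blk_finite F (e i)
  rw [LinearEquiv.finrank_eq E, Module.finrank_pi_fintype]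
  show ∑ i, e i = _
  exact Finset.sum_congr rfl (fun i _ => (blk_finrank F (e i)).symm)

theorem intertwine_pow {F : Type u} [Field F] {V : Type v} [AddCommGroup V] [Module F V]
    (N : V →ₗ[F] V) {m : ℕ} (e : Fin m → ℕ) (E : V ≃ₗ[F] (∀ i, Blk F (e i)))
    (hE : ∀ v, E (N v) = (X : F[X]) • E v) (k : ℕ) (v : V) :
    E ((N ^ k) v) = (X ^ k : F[X]) • E v := by
  induction k generalizing v with
  | zero => simp
  | succ k ih => rw [pow_succ, Module.End.mul_apply, ih, hE, pow_succ, mul_smul]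

theorem hasType_pow_eq_zero_iff {F : Type u} [Field F] {V : Type v} [AddCommGroup V] [Module F V]
    {N : V →ₗ[F] V} {M : Multiset ℕ} (h : HasType N M) (k : ℕ) :
    N ^ k = 0 ↔ ∀ a ∈ M, a ≤ k := by
  obtain ⟨m, e, he, rfl, E, hE⟩ := h
  have hEpow := intertwine_pow N e E hE
  constructor
  · intro h0 a ha
    obtain ⟨i, _, rfl⟩ := Multiset.mem_map.mp ha
    let w : ∀ i, Blk F (e i) := fun i => Submodule.Quotient.mk 1
    have h1 := hEpow k (E.symm w)
    rw [h0, LinearMap.zero_apply, map_zero, LinearEquiv.apply_symm_apply] at h1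
    have h2 := congrFun h1 i
    have h3 : (Submodule.Quotient.mk ((X : F[X]) ^ k * 1) : Blk F (e i)) = 0 := by
      rw [← blk_smul_mk]; exact h2.symm
    rw [blk_mk_eq_zero, mul_one] at h3
    exact (pow_dvd_pow_iff X_ne_zero Polynomial.not_isUnit_X).mp h3
  · intro hle
    apply LinearMap.ext
    intro v
    apply E.injective
    rw [hEpow, LinearMap.zero_apply, map_zero]
    funext i
    show (X ^ k : F[X]) • (E v i) = 0
    obtain ⟨s, hs⟩ := Submodule.Quotient.mk_surjective _ (E v i)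
    rw [← hs, blk_smul_mk, blk_mk_eq_zero]
    exact Dvd.dvd.mul_right (pow_dvd_pow X (hle _ (Multiset.mem_map.mpr
      ⟨i, Finset.mem_univ_val i, rfl⟩))) s

theorem hasType_unique {F : Type u} [Field F] [Finite F] {V : Type v} [AddCommGroup V]
    [Module F V] {V' : Type w} [AddCommGroup V'] [Module F V']
    {N : V →ₗ[F] V} {N' : V' →ₗ[F] V'} {M M' : Multiset ℕ} (h : HasType N M)
    (h' : HasType N' M') (Θ : V ≃ₗ[F] V') (hΘ : ∀ v, Θ (N v) = N' (Θ v)) : M = M' := by
  obtain ⟨m, e, he, rfl, E, hE⟩ := h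
  obtain ⟨m', e', he', rfl, E', hE'⟩ := h'
  apply type_determined e e' he he'
  intro k
  let Ξ : (∀ i, Blk F (e i)) ≃ₗ[F] (∀ j, Blk F (e' j)) := E.symm.trans (Θ.trans E')
  have hΞ : ∀ x, Ξ ((X : F[X]) • x) = (X : F[X]) • Ξ x := by
    intro x
    show E' (Θ (E.symm ((X : F[X]) • x))) = (X : F[X]) • E' (Θ (E.symm x))
    rw [← hE', ← hΘ]
    congr 2
    apply E.injective
    rw [LinearEquiv.apply_symm_apply, hE, LinearEquiv.apply_symm_apply]
  have hΞk : ∀ (j : ℕ) x, Ξ ((X ^ j : F[X]) • x) = (X ^ j : F[X]) • Ξ x := by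
    intro j
    induction j with
    | zero => intro x; simp
    | succ j ih =>
      intro x
      rw [pow_succ, mul_smul, ih, hΞ, ← mul_smul]
  have hcard : Nat.card {x : ∀ i, Blk F (e i) // (X ^ k : F[X]) • x = 0} =
      Nat.card {x : ∀ j, Blk F (e' j) // (X ^ k : F[X]) • x = 0} :=
    Nat.card_congr (Ξ.toEquiv.subtypeEquiv (fun x => by
      show _ ↔ (X ^ k : F[X]) • Ξ x = 0
      rw [← hΞk, LinearEquiv.map_eq_zero_iff]))
  rw [model_card_ker, model_card_ker] at hcard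
  exact Nat.pow_right_injective (Finite.one_lt_card (α := F)) hcard

theorem hasType_conj {F : Type u} [Field F] {V : Type v} [AddCommGroup V]
    [Module F V] {V' : Type w} [AddCommGroup V'] [Module F V']
    {N : V →ₗ[F] V} {N' : V' →ₗ[F] V'} {M : Multiset ℕ} (h : HasType N M)
    (h' : HasType N' M) : ∃ Θ : V ≃ₗ[F] V', ∀ v, Θ (N v) = N' (Θ v) := by
  classical
  obtain ⟨m, e, he, hM, E, hE⟩ := h
  obtain ⟨m', e', he', hM', E', hE'⟩ := h'
  obtain ⟨σ, hσ⟩ := exists_equiv_of_map_eq e e' (hM.trans hM'.symm)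
  obtain ⟨Θ⟩ := piReindex (fun i => (X : F[X]) ^ e i) (fun j => (X : F[X]) ^ e' j) σ
    (fun i => by rw [hσ i])
  refine ⟨E.trans ((Θ.restrictScalars F).trans E'.symm), ?_⟩
  intro v
  show E'.symm (Θ (E (N v))) = N' (E'.symm (Θ (E v)))
  apply E'.injective
  rw [LinearEquiv.apply_symm_apply, hE', LinearEquiv.apply_symm_apply, hE, map_smul]

theorem hasType_model {F : Type u} [Field F] (n : ℕ) (M : Multiset ℕ) (hsum : M.sum = n)
    (hpos : ∀ a ∈ M, 0 < a) :
    ∃ N : (Fin n → F) →ₗ[F] (Fin n → F), HasType N M := by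
  classical
  set l := M.toList with hl
  let e : Fin l.length → ℕ := l.get
  have hmap : Multiset.map e Finset.univ.val = M := by
    rw [Fin.univ_val_map, List.ofFn_get, hl, Multiset.coe_toList]
  have he : ∀ i, 0 < e i := by
    intro i
    apply hpos
    rw [← hmap]
    exact Multiset.mem_map.mpr ⟨i, Finset.mem_univ_val i, rfl⟩
  haveI : ∀ i, Module.Finite F (Blk F (e i)) := fun i => blk_finite F (e i)
  have hfr : Module.finrank F (∀ i, Blk F (e i)) = n := by
    rw [Module.finrank_pi_fintype, ← hsum, ← hmap]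
    show _ = ∑ i, e i
    exact Finset.sum_congr rfl (fun i _ => blk_finrank F (e i))
  let b := Module.finBasisOfFinrankEq F (∀ i, Blk F (e i)) hfr
  let E : (Fin n → F) ≃ₗ[F] (∀ i, Blk F (e i)) := b.equivFun.symm
  let D : (∀ i, Blk F (e i)) →ₗ[F] (∀ i, Blk F (e i)) := mulX F (∀ i, Blk F (e i))
  refine ⟨E.symm.toLinearMap ∘ₗ D ∘ₗ E.toLinearMap, l.length, e, he, hmap, E, ?_⟩
  intro v
  show E (E.symm (D (E v))) = _
  rw [LinearEquiv.apply_symm_apply]
  rfl

/-! ### GL layer -/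

noncomputable def nilOp {F : Type u} [Field F] {n : ℕ} (g : GL (Fin n) F) :
    (Fin n → F) →ₗ[F] (Fin n → F) :=
  Matrix.toLinAlgEquiv' ((g : Matrix (Fin n) (Fin n) F) - 1)

theorem nilOp_pow_eq_zero_iff {F : Type u} [Field F] {n : ℕ} (g : GL (Fin n) F) (k : ℕ) :
    nilOp g ^ k = 0 ↔ ((g : Matrix (Fin n) (Fin n) F) - 1) ^ k = 0 := by
  unfold nilOp
  rw [← map_pow]
  exact map_eq_zero_iff _ (AlgEquiv.injective _)

theorem sub_one_pow_char_pow {F : Type u} [Field F] (p : ℕ) [Fact p.Prime] [CharP F p] {n : ℕ}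
    (A : Matrix (Fin n) (Fin n) F) (k : ℕ) : (A - 1) ^ p ^ k = A ^ p ^ k - 1 := by
  have h : ((X : F[X]) - 1) ^ p ^ k = X ^ p ^ k - 1 := by
    rw [sub_pow_char_pow, one_pow]
  have := congrArg (Polynomial.aeval A) h
  simpa using this

theorem unipotent_iff {F : Type u} [Field F] (p : ℕ) [Fact p.Prime] [CharP F p] {n : ℕ}
    (g : GL (Fin n) F) : (∃ k, orderOf g = p ^ k) ↔ ∃ j, nilOp g ^ j = 0 := by
  have hp : p.Prime := Fact.out
  constructor
  · rintro ⟨k, hk⟩
    refine ⟨p ^ k, ?_⟩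
    rw [nilOp_pow_eq_zero_iff, sub_one_pow_char_pow p, ← Units.val_pow_eq_pow_val, ← hk,
      pow_orderOf_eq_one, Units.val_one, sub_self]
  · rintro ⟨j, hj⟩
    rw [nilOp_pow_eq_zero_iff] at hj
    have h1 : ((g : Matrix (Fin n) (Fin n) F) - 1) ^ p ^ j = 0 := by
      have hle : j ≤ p ^ j := (Nat.lt_pow_self hp.one_lt).le
      rw [← Nat.sub_add_cancel hle, pow_add, hj, mul_zero]
    rw [sub_one_pow_char_pow p, sub_eq_zero] at h1
    have h2 : g ^ p ^ j = 1 := by
      apply Units.ext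
      rw [Units.val_pow_eq_pow_val, h1, Units.val_one]
    obtain ⟨k, _, hk⟩ := (Nat.dvd_prime_pow hp).mp (orderOf_dvd_of_pow_eq_one h2)
    exact ⟨k, hk⟩

theorem order_p_iff {F : Type u} [Field F] (p : ℕ) [Fact p.Prime] [CharP F p] {n : ℕ}
    (g : GL (Fin n) F) : orderOf g = p ↔ nilOp g ^ p = 0 ∧ ¬ nilOp g ^ 1 = 0 := by
  have hp : p.Prime := Fact.out
  have e1 : nilOp g ^ p = 0 ↔ g ^ p = 1 := by
    rw [nilOp_pow_eq_zero_iff]
    have := sub_one_pow_char_pow p (g : Matrix (Fin n) (Fin n) F) 1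
    rw [pow_one] at this
    rw [this, sub_eq_zero, ← Units.val_pow_eq_pow_val, ← Units.val_one (α := Matrix (Fin n) (Fin n) F)]
    exact Units.val_inj
  have e2 : nilOp g ^ 1 = 0 ↔ g = 1 := by
    rw [nilOp_pow_eq_zero_iff, pow_one, sub_eq_zero,
      ← Units.val_one (α := Matrix (Fin n) (Fin n) F)]
    exact Units.val_inj
  rw [e1, e2]
  constructor
  · intro h
    refine ⟨by rw [← h]; exact pow_orderOf_eq_one g, ?_⟩
    intro h1
    rw [h1, orderOf_one] at h
    exact hp.one_lt.ne h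
  · rintro ⟨h1, h2⟩
    exact orderOf_eq_prime h1 h2

theorem conj_intertwine {F : Type u} [Field F] {n : ℕ} {g h : GL (Fin n) F} (hc : IsConj g h) :
    ∃ Θ : (Fin n → F) ≃ₗ[F] (Fin n → F), ∀ v, Θ (nilOp g v) = nilOp h (Θ v) := by
  obtain ⟨x, hx⟩ := isConj_iff.mp hc
  have hxg : (x : Matrix (Fin n) (Fin n) F) * ((g : Matrix (Fin n) (Fin n) F) - 1) =
      ((h : Matrix (Fin n) (Fin n) F) - 1) * (x : Matrix (Fin n) (Fin n) F) := by
    have h0 : x * g = h * x := by rw [← hx]; group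
    have h' := congrArg Units.val h0
    rw [Units.val_mul, Units.val_mul] at h'
    rw [mul_sub, sub_mul, h', mul_one, one_mul]
  let T : Matrix (Fin n) (Fin n) F ≃ₐ[F] Module.End F (Fin n → F) := Matrix.toLinAlgEquiv'
  let y : (Module.End F (Fin n → F))ˣ := Units.map (MonoidHomClass.toMonoidHom T) x
  refine ⟨LinearMap.GeneralLinearGroup.toLinearEquiv y, ?_⟩
  intro v
  show Matrix.toLinAlgEquiv' (x : Matrix (Fin n) (Fin n) F) (nilOp g v) =
    nilOp h (Matrix.toLinAlgEquiv' (x : Matrix (Fin n) (Fin n) F) v)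
  unfold nilOp
  rw [← Module.End.mul_apply, ← Module.End.mul_apply, ← map_mul, ← map_mul, hxg]

theorem conj_of_intertwine {F : Type u} [Field F] {n : ℕ} {g h : GL (Fin n) F}
    (Θ : (Fin n → F) ≃ₗ[F] (Fin n → F)) (hΘ : ∀ v, Θ (nilOp g v) = nilOp h (Θ v)) :
    IsConj g h := by
  classical
  set A : Matrix (Fin n) (Fin n) F :=
    Matrix.toLinAlgEquiv'.symm (Θ : (Fin n → F) →ₗ[F] (Fin n → F)) with hA
  have hAE : Matrix.toLinAlgEquiv' A = (Θ : (Fin n → F) →ₗ[F] (Fin n → F)) := by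
    rw [hA, AlgEquiv.apply_symm_apply]
  have hAG0 : A * ((g : Matrix (Fin n) (Fin n) F) - 1) =
      ((h : Matrix (Fin n) (Fin n) F) - 1) * A := by
    apply Matrix.toLinAlgEquiv'.injective
    rw [map_mul, map_mul, hAE]
    apply LinearMap.ext
    intro v
    exact hΘ v
  have hAG : A * (g : Matrix (Fin n) (Fin n) F) = (h : Matrix (Fin n) (Fin n) F) * A := by
    rw [mul_sub, sub_mul, mul_one, one_mul] at hAG0
    exact sub_left_injective hAG0
  have hdetA : A.det ≠ 0 := by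
    have h1 : LinearMap.det (Matrix.toLinAlgEquiv' A) = A.det := LinearMap.det_toLin' A
    rw [← h1, hAE]
    exact (LinearEquiv.isUnit_det' Θ).ne_zero
  rw [isConj_iff]
  refine ⟨Matrix.GeneralLinearGroup.mkOfDetNeZero A hdetA, ?_⟩
  rw [mul_inv_eq_iff_eq_mul]
  apply Units.ext
  rw [Units.val_mul, Units.val_mul]
  exact hAG

end Cfsg.Agent.Lib.Helper7_JordanB
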