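import Mathlib
import Cfsg.Agent.Lib.Helper7_JordanB
set_option autoImplicit false
open Polynomial

namespace Cfsg.Agent.Lib.Helper7_JordanC

universe u

open Cfsg.Agent.Lib.Helper7_Jordan Cfsg.Agent.Lib.Helper7_JordanB

theorem exists_gl_of_type {F : Type u} [Field F] (n : ℕ) (M : Multiset ℕ) (hsum : M.sum = n)
    (hpos : ∀ a ∈ M, 0 < a) : ∃ g : GL (Fin n) F, HasType (nilOp g) M := by
  classical
  obtain ⟨N₀, hN₀⟩ := hasType_model (F := F) n M hsum hpos
  have hnil : N₀ ^ M.sum = 0 :=
    (hasType_pow_eq_zero_iff hN₀ M.sum).mpr (fun a ha => Multiset.le_sum_of_mem ha)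
  set B : Matrix (Fin n) (Fin n) F := Matrix.toLinAlgEquiv'.symm N₀ with hB
  have hBN : Matrix.toLinAlgEquiv' B = N₀ := by rw [hB, AlgEquiv.apply_symm_apply]
  have hBnil : IsNilpotent B := by
    refine ⟨M.sum, ?_⟩
    apply Matrix.toLinAlgEquiv'.injective
    rw [map_pow, hBN, hnil, map_zero]
  have hU : IsUnit (1 + B) := hBnil.isUnit_one_add
  obtain ⟨g, hg⟩ := hU
  refine ⟨g, ?_⟩
  have : nilOp g = N₀ := by
    unfold nilOp
    rw [hg, add_sub_cancel_left, hBN]
  rw [this]
  exact hN₀

theorem card_classes_of_type {F : Type u} [Field F] [Fintype F] {n : ℕ}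
    (Pg : GL (Fin n) F → Prop) (PM : Multiset ℕ → Prop)
    (ha : ∀ g, Pg g → ∃ j, nilOp g ^ j = 0)
    (hb : ∀ g M, HasType (nilOp g) M → (Pg g ↔ PM M)) :
    Nat.card {C : ConjClasses (GL (Fin n) F) //
      ∃ g : GL (Fin n) F, Pg g ∧ ConjClasses.mk g = C} =
      Nat.card {μ : Nat.Partition n // PM μ.parts} := by
  classical
  have hM : ∀ C : {C : ConjClasses (GL (Fin n) F) //
      ∃ g : GL (Fin n) F, Pg g ∧ ConjClasses.mk g = C}, ∃ M, HasType (nilOp C.2.choose) M := by
    intro C
    obtain ⟨j, hj⟩ := ha _ C.2.choose_spec.1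
    exact hasType_exists _ j hj
  let cS : {C : ConjClasses (GL (Fin n) F) //
      ∃ g : GL (Fin n) F, Pg g ∧ ConjClasses.mk g = C} → Multiset ℕ := fun C => (hM C).choose
  have hcS : ∀ C, HasType (nilOp C.2.choose) (cS C) := fun C => (hM C).choose_spec
  let cP : {μ : Nat.Partition n // PM μ.parts} → Multiset ℕ := fun μ => μ.1.parts
  have hcS_inj : Function.Injective cS := by
    intro C C' h
    have h1 := hcS C
    have h2 := hcS C'
    rw [← h] at h2
    obtain ⟨Θ, hΘ⟩ := hasType_conj h1 h2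
    have hconj := conj_of_intertwine Θ hΘ
    apply Subtype.ext
    rw [← C.2.choose_spec.2, ← C'.2.choose_spec.2]
    exact ConjClasses.mk_eq_mk_iff_isConj.mpr hconj
  have hcP_inj : Function.Injective cP := by
    intro μ μ' h
    exact Subtype.ext (Nat.Partition.ext h)
  have hfr : Module.finrank F (Fin n → F) = n := by
    rw [Module.finrank_fintype_fun_eq_card, Fintype.card_fin]
  have hrange : Set.range cS = Set.range cP := by
    ext M
    constructor
    · rintro ⟨C, rfl⟩
      have h1 := hcS C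
      have hsum : (cS C).sum = n := (hasType_sum h1).trans hfr
      have hPM : PM (cS C) := (hb _ _ h1).mp C.2.choose_spec.1
      exact ⟨⟨⟨cS C, fun {i} hi => hasType_pos h1 i hi, hsum⟩, hPM⟩, rfl⟩
    · rintro ⟨⟨μ, hμ⟩, rfl⟩
      show μ.parts ∈ _
      obtain ⟨g, hg⟩ := exists_gl_of_type (F := F) n μ.parts μ.parts_sum
        (fun a ha => μ.parts_pos ha)
      have hPg : Pg g := (hb g _ hg).mpr hμ
      refine ⟨⟨ConjClasses.mk g, g, hPg, rfl⟩, ?_⟩
      have hex : ∃ g' : GL (Fin n) F, Pg g' ∧ ConjClasses.mk g' = ConjClasses.mk g :=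
        ⟨g, hPg, rfl⟩
      have h1 := hcS ⟨ConjClasses.mk g, hex⟩
      have hconj : IsConj hex.choose g := ConjClasses.mk_eq_mk_iff_isConj.mp hex.choose_spec.2
      obtain ⟨Θ, hΘ⟩ := conj_intertwine hconj
      exact hasType_unique h1 hg Θ hΘ
  rw [← Nat.card_range_of_injective hcS_inj, ← Nat.card_range_of_injective hcP_inj, hrange]

theorem unipotent_classes_card {F : Type u} [Field F] [Fintype F] (p : ℕ) [Fact p.Prime]
    [CharP F p] (n : ℕ) :
    Nat.card {C : ConjClasses (GL (Fin n) F) //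
      ∃ g : GL (Fin n) F, (∃ k : ℕ, orderOf g = p ^ k) ∧ ConjClasses.mk g = C} =
      Fintype.card (Nat.Partition n) := by
  rw [card_classes_of_type (fun g => ∃ k : ℕ, orderOf g = p ^ k) (fun _ => True)
    (fun g hg => (unipotent_iff p g).mp hg)
    (fun g M hM => by
      constructor
      · intro _; trivial
      · intro _
        rw [unipotent_iff p]
        exact ⟨M.sum, (hasType_pow_eq_zero_iff hM M.sum).mpr
          (fun a ha => Multiset.le_sum_of_mem ha)⟩)]
  rw [Nat.card_congr (Equiv.subtypeUnivEquiv (fun _ => trivial)), Nat.card_eq_fintype_card]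

theorem order_p_classes_card {F : Type u} [Field F] [Fintype F] (p : ℕ) [Fact p.Prime]
    [CharP F p] (n : ℕ) :
    Nat.card {C : ConjClasses (GL (Fin n) F) //
      ∃ g : GL (Fin n) F, ConjClasses.mk g = C ∧ orderOf g = p} =
      (Finset.univ.filter (fun μ : Nat.Partition n => ∀ a ∈ μ.parts, a ≤ p)).card - 1 := by
  classical
  have hp : p.Prime := Fact.out
  have e0 : {C : ConjClasses (GL (Fin n) F) //
      ∃ g : GL (Fin n) F, ConjClasses.mk g = C ∧ orderOf g = p} ≃
      {C : ConjClasses (GL (Fin n) F) //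
      ∃ g : GL (Fin n) F, orderOf g = p ∧ ConjClasses.mk g = C} :=
    Equiv.subtypeEquivRight (fun C => exists_congr (fun g => and_comm))
  rw [Nat.card_congr e0, card_classes_of_type (fun g => orderOf g = p)
    (fun M => (∀ a ∈ M, a ≤ p) ∧ ¬ ∀ a ∈ M, a ≤ 1)
    (fun g hg => ⟨p, ((order_p_iff p g).mp hg).1⟩)
    (fun g M hM => by
      rw [order_p_iff p g, hasType_pow_eq_zero_iff hM, hasType_pow_eq_zero_iff hM])]
  -- count partitions
  rw [Nat.card_eq_fintype_card, Fintype.card_subtype]
  -- the all-ones partition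
  let ones : Nat.Partition n := ⟨Multiset.replicate n 1,
    fun {i} hi => by rw [Multiset.eq_of_mem_replicate hi]; exact Nat.one_pos,
    by rw [Multiset.sum_replicate, smul_eq_mul, mul_one]⟩
  have hones : ∀ μ : Nat.Partition n, (∀ a ∈ μ.parts, a ≤ 1) ↔ μ = ones := by
    intro μ
    constructor
    · intro h
      apply Nat.Partition.ext
      have h1 : ∀ a ∈ μ.parts, a = 1 := fun a ha => le_antisymm (h a ha) (μ.parts_pos ha)
      have h2 : μ.parts = Multiset.replicate (Multiset.card μ.parts) 1 :=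
        Multiset.eq_replicate_card.mpr h1
      have h3 : Multiset.card μ.parts = n := by
        have := μ.parts_sum
        rw [h2, Multiset.sum_replicate, smul_eq_mul, mul_one] at this
        exact this
      rw [h2, h3]
    · rintro rfl a ha
      exact (Multiset.eq_of_mem_replicate ha).le
  have hfilter : (Finset.univ.filter fun μ : Nat.Partition n =>
      (∀ a ∈ μ.parts, a ≤ p) ∧ ¬ ∀ a ∈ μ.parts, a ≤ 1) =
      (Finset.univ.filter fun μ : Nat.Partition n => ∀ a ∈ μ.parts, a ≤ p).erase ones := by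
    ext μ
    simp only [Finset.mem_filter, Finset.mem_univ, true_and, Finset.mem_erase]
    rw [hones μ]
    tauto
  rw [hfilter, Finset.card_erase_of_mem]
  rw [Finset.mem_filter]
  refine ⟨Finset.mem_univ _, ?_⟩
  intro a ha
  rw [Multiset.eq_of_mem_replicate ha]
  exact hp.one_lt.le

end Cfsg.Agent.Lib.Helper7_JordanC
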