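import Mathlib
import Cfsg.Agent.Lib.Lead_Coprime
import Cfsg.Agent.S0027

/-! Bridge from a `MulDistribMulAction A G` (group acting by automorphisms) to the subgroup
form of coprime action inside the semidirect product `G ⋊ A`, with the basic consequences of
coprime action transported back to `G`. -/

set_option autoImplicit false

namespace Cfsg.Agent.Lib.Helper7_SemiAct

open Subgroup
open scoped commutatorElement

variable {A G : Type*} [Group A] [Group G] [MulDistribMulAction A G]

/-- the semidirect product `G ⋊ A` -/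
abbrev Semi (A G : Type*) [Group A] [Group G] [MulDistribMulAction A G] :=
  G ⋊[MulDistribMulAction.toMulAut A G] A

instance [Finite A] [Finite G] : Finite (Semi A G) :=
  Finite.of_equiv _ (SemidirectProduct.equivProd (φ := MulDistribMulAction.toMulAut A G)).symm

/-- embedding of `G` -/
def iG : G →* Semi A G := SemidirectProduct.inl
/-- embedding of `A` -/
def iA : A →* Semi A G := SemidirectProduct.inr

theorem iG_injective : Function.Injective (iG : G → Semi A G) := SemidirectProduct.inl_injective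
theorem iA_injective : Function.Injective (iA : A → Semi A G) := SemidirectProduct.inr_injective

theorem conj_iG (a : A) (g : G) : (iA a : Semi A G) * iG g * (iA a)⁻¹ = iG (a • g) := by
  have := SemidirectProduct.inl_aut (φ := MulDistribMulAction.toMulAut A G) a g
  simp only [iA, iG]
  rw [← map_inv]
  exact this.symm

/-- the image of `A` -/
def Aimg (A G : Type*) [Group A] [Group G] [MulDistribMulAction A G] : Subgroup (Semi A G) :=
  (iA : A →* Semi A G).range

/-- `A`-invariance of a subgroup -/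
def Inv (A : Type*) {G : Type*} [Group A] [Group G] [MulDistribMulAction A G] (H : Subgroup G) :
    Prop := ∀ a : A, ∀ x ∈ H, a • x ∈ H

/-- the subgroup `[H, A]` -/
def commSub (A : Type*) {G : Type*} [Group A] [Group G] [MulDistribMulAction A G] (H : Subgroup G) :
    Subgroup G := closure {y | ∃ a : A, ∃ g ∈ H, y = g⁻¹ * a • g}

theorem Aimg_le_normalizer (H : Subgroup G) (hH : Inv A H) :
    Aimg A G ≤ normalizer ((H.map (iG : G →* Semi A G) : Subgroup (Semi A G)) : Set (Semi A G)) := by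
  rintro _ ⟨a, rfl⟩
  apply Cfsg.Agent.Lib.Lead_Coprime.mem_normalizer_of_conj_mem
  · rintro _ ⟨g, hg, rfl⟩
    rw [conj_iG]
    exact ⟨a • g, hH a g hg, rfl⟩
  · rintro _ ⟨g, hg, rfl⟩
    have := conj_iG (A := A) a⁻¹ g
    rw [map_inv, inv_inv] at this
    rw [this]
    exact ⟨a⁻¹ • g, hH a⁻¹ g hg, rfl⟩

theorem card_Aimg : Nat.card (Aimg A G) = Nat.card A :=
  (Nat.card_congr (MonoidHom.ofInjective (iA_injective (A := A) (G := G))).toEquiv).symm

theorem card_map_iG (H : Subgroup G) :
    Nat.card (H.map (iG : G →* Semi A G)) = Nat.card H :=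
  (Nat.card_congr (H.equivMapOfInjective _ (iG_injective (A := A) (G := G))).toEquiv).symm

theorem isSolvable_Aimg (h : Group.IsSolvable A) : Group.IsSolvable (Aimg A G) :=
  Group.isSolvable_of_surjective (f := (iA : A →* Semi A G).rangeRestrict)
    (iA : A →* Semi A G).rangeRestrict_surjective

theorem isSolvable_map_iG (H : Subgroup G) (h : Group.IsSolvable H) :
    Group.IsSolvable (H.map (iG : G →* Semi A G)) :=
  Group.isSolvable_of_surjective
    (f := (H.equivMapOfInjective _ (iG_injective (A := A) (G := G))).toMonoidHom)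
    (H.equivMapOfInjective _ (iG_injective (A := A) (G := G))).surjective

theorem iG_mem_centralizer (g : G) :
    (iG g : Semi A G) ∈ centralizer (Aimg A G : Set (Semi A G)) ↔ ∀ a : A, a • g = g := by
  rw [mem_centralizer_iff]
  constructor
  · intro h a
    have h1 := h (iA a) ⟨a, rfl⟩
    have h2 := conj_iG a g
    rw [h1, mul_assoc, mul_inv_cancel, mul_one] at h2
    exact (iG_injective h2).symm
  · rintro h _ ⟨a, rfl⟩
    have h2 := conj_iG a g
    rw [h a] at h2
    calc (iA a : Semi A G) * iG g = (iA a * iG g * (iA a)⁻¹) * iA a := by group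
      _ = iG g * iA a := by rw [h2]

theorem map_inf_centralizer (H : Subgroup G) :
    H.map (iG : G →* Semi A G) ⊓ centralizer (Aimg A G : Set (Semi A G)) =
      (H ⊓ FixedPoints.subgroup A G).map iG := by
  ext x
  constructor
  · rintro ⟨⟨g, hg, rfl⟩, hx⟩
    exact ⟨g, ⟨hg, (iG_mem_centralizer g).mp hx⟩, rfl⟩
  · rintro ⟨g, ⟨hg, hfix⟩, rfl⟩
    exact ⟨⟨g, hg, rfl⟩, (iG_mem_centralizer g).mpr hfix⟩

theorem commutator_map_eq (H : Subgroup G) :
    ⁅H.map (iG : G →* Semi A G), Aimg A G⁆ = (commSub A H).map iG := by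
  apply le_antisymm
  · rw [Subgroup.commutator_le]
    rintro _ ⟨g, hg, rfl⟩ _ ⟨a, rfl⟩
    have e : ⁅(iG g : Semi A G), iA a⁆ = iG ((g⁻¹)⁻¹ * a • g⁻¹) := by
      rw [commutatorElement_def, map_mul, ← conj_iG, inv_inv, map_inv]
      group
    rw [e]
    exact ⟨_, Subgroup.subset_closure ⟨a, g⁻¹, H.inv_mem hg, rfl⟩, rfl⟩
  · rw [commSub, MonoidHom.map_closure, closure_le]
    rintro _ ⟨_, ⟨a, g, hg, rfl⟩, rfl⟩
    have e : (iG (g⁻¹ * a • g) : Semi A G) = ⁅(iG g⁻¹ : Semi A G), iA a⁆ := by
      rw [commutatorElement_def, map_mul, ← conj_iG, map_inv]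
      group
    rw [e]
    exact Subgroup.commutator_mem_commutator ⟨g⁻¹, H.inv_mem hg, rfl⟩ ⟨a, rfl⟩

theorem commSub_le (H : Subgroup G) (hH : Inv A H) : commSub A H ≤ H := by
  rw [commSub, closure_le]
  rintro _ ⟨a, g, hg, rfl⟩
  exact H.mul_mem (H.inv_mem hg) (hH a g hg)

theorem commSub_inv (H : Subgroup G) (hH : Inv A H) : Inv A (commSub A H) := by
  intro b x hx
  induction hx using closure_induction with
  | mem y hy =>
    obtain ⟨a, g, hg, rfl⟩ := hy
    apply Subgroup.subset_closure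
    refine ⟨b * a * b⁻¹, b • g, hH b g hg, ?_⟩
    rw [smul_mul', smul_inv', mul_smul, mul_smul, inv_smul_smul]
  | one => rw [smul_one]; exact one_mem _
  | mul x y _ _ hx hy => rw [smul_mul']; exact mul_mem hx hy
  | inv x _ hx => rw [smul_inv']; exact inv_mem hx

/-- `H` normalizes `[H, A]` -/
theorem conj_mem_commSub (H : Subgroup G) (x : G) (hx : x ∈ H) (y : G) (hy : y ∈ commSub A H) :
    x * y * x⁻¹ ∈ commSub A H := by
  induction hy using closure_induction with
  | mem y hy =>
    obtain ⟨a, g, hg, rfl⟩ := hy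
    have e : x * (g⁻¹ * a • g) * x⁻¹ =
        ((g * x⁻¹)⁻¹ * a • (g * x⁻¹)) * ((x⁻¹)⁻¹ * a • x⁻¹)⁻¹ := by
      rw [smul_mul', smul_inv']
      group
    rw [e]
    exact mul_mem (Subgroup.subset_closure ⟨a, g * x⁻¹, H.mul_mem hg (H.inv_mem hx), rfl⟩)
      (inv_mem (Subgroup.subset_closure ⟨a, x⁻¹, H.inv_mem hx, rfl⟩))
  | one => simp
  | mul y z _ _ hy hz =>
    have e : x * (y * z) * x⁻¹ = (x * y * x⁻¹) * (x * z * x⁻¹) := by group
    rw [e]; exact mul_mem hy hz
  | inv y _ hy =>
    have e : x * y⁻¹ * x⁻¹ = (x * y * x⁻¹)⁻¹ := by group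
    rw [e]; exact inv_mem hy

theorem commSub_normal : (commSub A (⊤ : Subgroup G)).Normal :=
  ⟨fun y hy x => conj_mem_commSub ⊤ x (mem_top x) y hy⟩

theorem inv_top : Inv A (⊤ : Subgroup G) := fun _ _ _ => mem_top _

section coprime

variable [Finite A] [Finite G]

/-- `H = [H,A] C_H(A)` elementwise. -/
theorem decomp (H : Subgroup G) (hH : Inv A H) (hcop : (Nat.card A).Coprime (Nat.card H))
    (hsolv : Group.IsSolvable A ∨ Group.IsSolvable H) (h : G) (hh : h ∈ H) :
    ∃ n ∈ commSub A H, ∃ c ∈ H ⊓ FixedPoints.subgroup A G, h = n * c := by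
  have hcop' : (Nat.card (Aimg A G)).Coprime (Nat.card (H.map (iG : G →* Semi A G))) := by
    rw [card_Aimg, card_map_iG]; exact hcop
  have hsolv' : Group.IsSolvable (Aimg A G) ∨ Group.IsSolvable (H.map (iG : G →* Semi A G)) :=
    hsolv.imp isSolvable_Aimg (isSolvable_map_iG H)
  obtain ⟨n, hn, c, hc, e⟩ := Cfsg.Agent.Lib.Lead_Coprime.decomp (Aimg A G) (H.map iG)
    (Aimg_le_normalizer H hH) hcop' hsolv' (iG h) ⟨h, hh, rfl⟩
  rw [commutator_map_eq] at hn
  rw [map_inf_centralizer] at hc
  obtain ⟨n, hn, rfl⟩ := hn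
  obtain ⟨c, hc, rfl⟩ := hc
  refine ⟨n, hn, c, hc, ?_⟩
  rw [← map_mul] at e
  exact iG_injective e

/-- `[[H,A],A] = [H,A]` -/
theorem commSub_commSub (H : Subgroup G) (hH : Inv A H) (hcop : (Nat.card A).Coprime (Nat.card H))
    (hsolv : Group.IsSolvable A ∨ Group.IsSolvable H) : commSub A (commSub A H) = commSub A H := by
  have hcop' : (Nat.card (Aimg A G)).Coprime (Nat.card (H.map (iG : G →* Semi A G))) := by
    rw [card_Aimg, card_map_iG]; exact hcop
  have hsolv' : Group.IsSolvable (Aimg A G) ∨ Group.IsSolvable (H.map (iG : G →* Semi A G)) :=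
    hsolv.imp isSolvable_Aimg (isSolvable_map_iG H)
  have := Cfsg.Agent.S0027.result (Aimg A G) (H.map iG) (Aimg_le_normalizer H hH) hcop' hsolv'
  rw [commutator_map_eq, commutator_map_eq] at this
  exact Subgroup.map_injective (iG_injective (A := A) (G := G)) this

/-- for abelian `V`: `C_V(A) ∩ [V,A] = 1` -/
theorem abelian_inf_eq_bot (V : Subgroup G) [IsMulCommutative V] (hV : Inv A V)
    (hcop : (Nat.card A).Coprime (Nat.card V)) :
    (V ⊓ FixedPoints.subgroup A G) ⊓ commSub A V = ⊥ := by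
  have hcop' : (Nat.card (Aimg A G)).Coprime (Nat.card (V.map (iG : G →* Semi A G))) := by
    rw [card_Aimg, card_map_iG]; exact hcop
  haveI : IsMulCommutative (V.map (iG : G →* Semi A G)) := by
    refine ⟨⟨?_⟩⟩
    rintro ⟨_, x, hx, rfl⟩ ⟨_, y, hy, rfl⟩
    apply Subtype.ext
    show (iG x : Semi A G) * iG y = iG y * iG x
    rw [← map_mul, ← map_mul]
    congr 1
    have := (IsMulCommutative.is_comm (M := V)).comm (⟨x, hx⟩ : V) ⟨y, hy⟩
    exact congrArg Subtype.val this
  have := Cfsg.Agent.Lib.Lead_Coprime.abelian_inf_eq_bot (Aimg A G) (V.map iG)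
    (Aimg_le_normalizer V hV) hcop'
  rw [commutator_map_eq, map_inf_centralizer,
    ← Subgroup.map_inf_eq _ _ _ (iG_injective (A := A) (G := G))] at this
  rw [eq_bot_iff]
  intro x hx
  have hx' : (iG x : Semi A G) ∈ (⊥ : Subgroup (Semi A G)) := by
    rw [← this]; exact ⟨x, hx, rfl⟩
  rw [mem_bot] at hx' ⊢
  exact iG_injective (hx'.trans (map_one _).symm)

end coprime

end Cfsg.Agent.Lib.Helper7_SemiAct
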