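import Mathlib
import Cfsg.Agent.Lib.Helper7_SemiAct

/-! Maschke-type results for a group `A` acting by automorphisms (coprime action) on an abelian
group `V`, the induced action on a quotient, and complements in elementary abelian groups. -/

set_option autoImplicit false

namespace Cfsg.Agent.Lib.Helper7_Maschke

open Subgroup
open Cfsg.Agent.Lib.Helper7_SemiAct

/-- the action induced on the quotient by an invariant normal subgroup -/
@[instance_reducible]
def quotAction {A G : Type*} [Group A] [Group G] [MulDistribMulAction A G] (N : Subgroup G)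
    [N.Normal] (hN : Inv A N) : MulDistribMulAction A (G ⧸ N) where
  smul a := QuotientGroup.map N N (MulDistribMulAction.toMonoidHom G a) (fun x hx => hN a x hx)
  one_smul := by
    intro x
    induction x using QuotientGroup.induction_on with
    | H g => show ((((1 : A) • g : G)) : G ⧸ N) = g; rw [one_smul]
  mul_smul := by
    intro a b x
    induction x using QuotientGroup.induction_on with
    | H g => show ((((a * b) • g : G)) : G ⧸ N) = ((a • (b • g) : G) : G ⧸ N); rw [mul_smul]
  smul_mul := fun a x y =>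
    map_mul (QuotientGroup.map N N (MulDistribMulAction.toMonoidHom G a) (fun x hx => hN a x hx)) x y
  smul_one := fun a =>
    map_one (QuotientGroup.map N N (MulDistribMulAction.toMonoidHom G a) (fun x hx => hN a x hx))

theorem quotAction_mk {A G : Type*} [Group A] [Group G] [MulDistribMulAction A G] (N : Subgroup G)
    [N.Normal] (hN : Inv A N) (a : A) (g : G) :
    letI := quotAction N hN
    a • (g : G ⧸ N) = ((a • g : G) : G ⧸ N) := rfl

/-- Maschke: under a coprime action on an abelian group, an invariant complemented subgroup has an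
invariant complement. -/
theorem exists_invariant_complement {A V : Type*} [Group A] [Finite A] [Group V] [Finite V]
    [MulDistribMulAction A V] (hcomm : ∀ x y : V, x * y = y * x)
    (hcop : (Nat.card A).Coprime (Nat.card V)) (U W : Subgroup V) (hU : Inv A U)
    (hUW : U ⊓ W = ⊥) (hUW' : U ⊔ W = ⊤) :
    ∃ W' : Subgroup V, Inv A W' ∧ U ⊓ W' = ⊥ ∧ U ⊔ W' = ⊤ := by
  classical
  letI : Fintype A := Fintype.ofFinite A
  letI : CommGroup V := { (inferInstance : Group V) with mul_comm := hcomm }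
  -- decomposition
  have hdec : ∀ v : V, ∃ u ∈ U, ∃ w ∈ W, u * w = v := by
    intro v
    have hv : v ∈ U ⊔ W := by rw [hUW']; trivial
    have hUn : U.Normal := ⟨fun n hn g => by
      have : g * n * g⁻¹ = n := by rw [hcomm g n, mul_assoc, mul_inv_cancel, mul_one]
      rw [this]; exact hn⟩
    have hWn : W.Normal := ⟨fun n hn g => by
      have : g * n * g⁻¹ = n := by rw [hcomm g n, mul_assoc, mul_inv_cancel, mul_one]
      rw [this]; exact hn⟩
    rw [Subgroup.mem_sup_of_normal_right] at hv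
    exact hv
  choose pu hpu pw hpw hpuw using hdec
  have huniq : ∀ u ∈ U, ∀ w ∈ W, pu (u * w) = u := by
    intro u hu w hw
    have h1 := hpuw (u * w)
    -- pu * pw = u * w ⇒ u⁻¹ pu = w pw⁻¹
    have h2 : u⁻¹ * pu (u * w) = w * (pw (u * w))⁻¹ := by
      have : pu (u * w) = u * w * (pw (u * w))⁻¹ := eq_mul_inv_of_mul_eq h1
      rw [this]; group
    have h3 : u⁻¹ * pu (u * w) ∈ U ⊓ W :=
      ⟨U.mul_mem (U.inv_mem hu) (hpu _), by rw [h2]; exact W.mul_mem hw (W.inv_mem (hpw _))⟩
    rw [hUW, mem_bot] at h3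
    calc pu (u * w) = u * (u⁻¹ * pu (u * w)) := by group
      _ = u := by rw [h3, mul_one]
  have hpu_mul : ∀ x y : V, pu (x * y) = pu x * pu y := by
    intro x y
    have e : x * y = (pu x * pu y) * (pw x * pw y) := by
      conv_lhs => rw [← hpuw x, ← hpuw y]
      rw [mul_assoc, mul_assoc, ← mul_assoc (pw x), hcomm (pw x) (pu y)]
      simp only [mul_assoc]
    rw [e]
    exact huniq _ (U.mul_mem (hpu x) (hpu y)) _ (W.mul_mem (hpw x) (hpw y))
  have hpu_U : ∀ u ∈ U, pu u = u := by
    intro u hu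
    have := huniq u hu 1 (one_mem _)
    rwa [mul_one] at this
  -- the averaged map
  let θ : V → V := fun v => ∏ a : A, a⁻¹ • pu (a • v)
  have hprod_comm : ∀ (f g : A → V), (∏ a : A, f a * g a) = (∏ a : A, f a) * ∏ a : A, g a := by
    intro f g
    exact Finset.prod_mul_distrib
  have hθ_mul : ∀ x y : V, θ (x * y) = θ x * θ y := by
    intro x y
    show (∏ a : A, a⁻¹ • pu (a • (x * y))) = _
    rw [← hprod_comm]
    apply Finset.prod_congr rfl
    intro a _
    rw [smul_mul', hpu_mul, smul_mul']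
  have hθ_one : θ 1 = 1 := by
    have := hθ_mul 1 1
    rw [mul_one] at this
    exact (mul_eq_left.mp this.symm)
  have hθ_U : ∀ v : V, θ v ∈ U := by
    intro v
    apply Subgroup.prod_mem
    intro a _
    exact hU a⁻¹ _ (hpu _)
  have hθ_eq : ∀ (b : A) (v : V), θ (b • v) = b • θ v := by
    intro b v
    show (∏ a : A, a⁻¹ • pu (a • (b • v))) = b • ∏ a : A, a⁻¹ • pu (a • v)
    rw [Finset.smul_prod']
    refine Fintype.prod_equiv (Equiv.mulRight b) _ _ ?_
    intro a
    simp only [Equiv.coe_mulRight]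
    have : b • (a * b)⁻¹ • pu ((a * b) • v) = a⁻¹ • pu (a • b • v) := by
      rw [smul_smul, mul_inv_rev, mul_inv_cancel_left, mul_smul]
    exact this.symm
  have hθ_pow : ∀ u ∈ U, θ u = u ^ Nat.card A := by
    intro u hu
    show (∏ a : A, a⁻¹ • pu (a • u)) = _
    have : ∀ a : A, a⁻¹ • pu (a • u) = u := by
      intro a
      rw [hpu_U _ (hU a u hu), inv_smul_smul]
    simp only [this, Finset.prod_const, Finset.card_univ, Nat.card_eq_fintype_card]
  let θh : V →* V := { toFun := θ, map_one' := hθ_one, map_mul' := hθ_mul }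
  refine ⟨θh.ker, ?_, ?_, ?_⟩
  · intro b v hv
    rw [MonoidHom.mem_ker] at hv ⊢
    show θ (b • v) = 1
    rw [hθ_eq]
    have : θ v = 1 := hv
    rw [this, smul_one]
  · rw [eq_bot_iff]
    rintro u ⟨hu, hker⟩
    have hker' : θ u = 1 := hker
    rw [hθ_pow u hu] at hker'
    have h5 : u ^ Nat.card V = 1 := pow_card_eq_one'
    have h6 : orderOf u ∣ 1 := by
      rw [← Nat.Coprime.gcd_eq_one hcop]
      exact Nat.dvd_gcd (orderOf_dvd_of_pow_eq_one hker') (orderOf_dvd_of_pow_eq_one h5)
    rw [mem_bot]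
    exact orderOf_eq_one_iff.mp (Nat.dvd_one.mp h6)
  · rw [eq_top_iff]
    intro v _
    have hc : (Nat.card A).Coprime (orderOf (θ v)) :=
      Nat.Coprime.coprime_dvd_right (orderOf_dvd_natCard (θ v)) hcop
    obtain ⟨m, hm⟩ := exists_pow_eq_self_of_coprime hc
    have huU : (θ v) ^ m ∈ U := U.pow_mem (hθ_U v) m
    have e : v = (θ v) ^ m * (((θ v) ^ m)⁻¹ * v) := by group
    rw [e]
    refine mul_mem (mem_sup_left huU) (mem_sup_right ?_)
    rw [MonoidHom.mem_ker]
    show θ (((θ v) ^ m)⁻¹ * v) = 1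
    rw [hθ_mul]
    have h1 : θ (((θ v) ^ m)⁻¹) = (θ (θ v ^ m))⁻¹ := map_inv θh _
    have h2 : (θ v ^ m) ^ Nat.card A = θ v := by rw [← pow_mul, mul_comm, pow_mul, hm]
    rw [h1, hθ_pow _ huU, h2]
    simp

/-- every subgroup of an elementary abelian `p`-group has a complement -/
theorem exists_complement_of_elementary {V : Type*} [Group V] [Finite V]
    (hcomm : ∀ x y : V, x * y = y * x) (p : ℕ) [hp : Fact p.Prime] (hexp : ∀ x : V, x ^ p = 1)
    (U : Subgroup V) : ∃ W : Subgroup V, U ⊓ W = ⊥ ∧ U ⊔ W = ⊤ := by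
  letI : CommGroup V := { (inferInstance : Group V) with mul_comm := hcomm }
  obtain ⟨W, hW, hmax⟩ := WellFounded.has_min (wellFounded_gt (α := Subgroup V))
    {W : Subgroup V | U ⊓ W = ⊥} ⟨⊥, inf_bot_eq _⟩
  refine ⟨W, hW, ?_⟩
  by_contra hne
  obtain ⟨v, hv⟩ : ∃ v : V, v ∉ U ⊔ W := by
    by_contra hcon
    push Not at hcon
    exact hne (eq_top_iff.mpr (fun v _ => hcon v))
  have hvW : v ∉ W := fun h => hv (mem_sup_right h)
  have hlt : W < W ⊔ zpowers v := by
    refine lt_of_le_of_ne le_sup_left ?_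
    intro h
    apply hvW
    rw [h]
    exact mem_sup_right (mem_zpowers v)
  have hnot : ¬ (U ⊓ (W ⊔ zpowers v) = ⊥) := fun h => hmax _ h hlt
  obtain ⟨u, hu, hu1⟩ : ∃ u ∈ U ⊓ (W ⊔ zpowers v), u ≠ 1 := by
    by_contra hcon
    push Not at hcon
    exact hnot (eq_bot_iff.mpr (fun x hx => mem_bot.mpr (hcon x hx)))
  obtain ⟨huU, huW⟩ := hu
  have huU : u ∈ U := huU
  have huW : u ∈ W ⊔ zpowers v := huW
  rw [Subgroup.mem_sup] at huW
  obtain ⟨w, hw, z, hz, rfl⟩ := huW
  obtain ⟨i, rfl⟩ := mem_zpowers_iff.mp hz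
  have hiW : v ^ i ∉ W := by
    intro h
    have : w * v ^ i ∈ U ⊓ W := ⟨huU, W.mul_mem hw h⟩
    rw [hW, mem_bot] at this
    exact hu1 this
  have hpi : ¬ (p : ℤ) ∣ i := by
    rintro ⟨k, rfl⟩
    apply hiW
    rw [zpow_mul, zpow_natCast, hexp, one_zpow]
    exact one_mem _
  have hcop : IsCoprime (p : ℤ) i :=
    (Irreducible.coprime_iff_not_dvd (Nat.prime_iff_prime_int.mp hp.out).irreducible).mpr hpi
  obtain ⟨a, b, hab⟩ := hcop
  have hvi : v ^ i ∈ U ⊔ W := by
    have : v ^ i = (w * v ^ i) * w⁻¹ := by rw [mul_comm w, mul_assoc, mul_inv_cancel, mul_one]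
    rw [this]
    exact mul_mem (mem_sup_left huU) (mem_sup_right (W.inv_mem hw))
  apply hv
  have : v = (v ^ i) ^ b := by
    rw [← zpow_mul]
    have : i * b = 1 - a * p := by linarith
    rw [this, zpow_sub, zpow_one, mul_comm a, zpow_mul, zpow_natCast, hexp, one_zpow, inv_one,
      mul_one]
  rw [this]
  exact zpow_mem hvi b

end Cfsg.Agent.Lib.Helper7_Maschke
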