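import Mathlib
import Cfsg.Prelude
import Cfsg.Agent.Lib.Helper7_Metacyclic
import Cfsg.Agent.Lib.Helper7_NPC

set_option autoImplicit false

/-! Normal `p`-complements for groups with metacyclic Sylow `p`-subgroups. -/

namespace Cfsg.Agent.Lib.Helper7_Metacyclic2

open Subgroup Cfsg.Agent.Lib.Helper7_Metacyclic Cfsg.Agent.Lib.Helper7_NPC

/-- subgroups of a metacyclic Sylow subgroup have Frattini quotient of order dividing `p^2`. -/
theorem card_quot_frattini_dvd_of_metacyclic {G : Type*} [Group G] [Finite G] (p : ℕ)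
    [Fact p.Prime] (S : Sylow p G) (hS : Cfsg.IsMetacyclic ↥(S : Subgroup G)) (Q : Subgroup G)
    (hQS : Q ≤ S) : Nat.card (↥Q ⧸ frattini ↥Q) ∣ p ^ 2 := by
  have hQp : IsPGroup p Q := S.isPGroup'.to_le hQS
  obtain ⟨a, ha, b, hb, hab⟩ := exists_two_gen hS (Q.subgroupOf S)
  have ha' : (a : G) ∈ Q := Subgroup.mem_subgroupOf.mp ha
  have hb' : (b : G) ∈ Q := Subgroup.mem_subgroupOf.mp hb
  apply card_quot_frattini_dvd p hQp ⟨a, ha'⟩ ⟨b, hb'⟩
  intro h
  obtain ⟨i, j, hij⟩ := hab ⟨h.1, hQS h.2⟩ (Subgroup.mem_subgroupOf.mpr h.2)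
  refine ⟨i, j, ?_⟩
  apply Subtype.ext
  have := congrArg Subtype.val hij
  simpa using this

/-- If subgroups of a Sylow `p`-subgroup have Frattini quotients of order dividing `p^2` and no
prime divisor `q ≠ p` of `|G|` divides `p^2 - 1`, then Frobenius' criterion holds. -/
theorem frobHyp_of_card_quot {G : Type*} [Group G] [Finite G] (p : ℕ) [Fact p.Prime]
    (S : Sylow p G)
    (h2 : ∀ Q : Subgroup G, Q ≤ S → Nat.card (↥Q ⧸ frattini ↥Q) ∣ p ^ 2)
    (hq : ∀ q : ℕ, q.Prime → q ∣ Nat.card G → q ≠ p → ¬ q ∣ p ^ 2 - 1) : FrobHyp p G := by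
  apply frobHyp_of_sylow S
  intro Q hQS g hg hgcop
  apply mem_of_prime_power_parts (Subgroup.centralizer (Q : Set G)) (orderOf g) g rfl
  intro y hy q k hq' hk
  by_contra hnc
  haveI : Fact q.Prime := ⟨hq'⟩
  have hyN : y ∈ Subgroup.normalizer (Q : Set G) := (Subgroup.zpowers_le.mpr hg) hy
  have hyo : orderOf y ∣ orderOf g := orderOf_dvd_of_mem_zpowers hy
  have hk0 : k ≠ 0 := by
    rintro rfl
    rw [pow_zero, orderOf_eq_one_iff] at hk
    subst hk
    exact hnc (one_mem _)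
  have hqy : q ∣ orderOf y := by rw [hk]; exact dvd_pow_self q hk0
  have hqp : q ≠ p := by
    rintro rfl
    have h1 : q ∣ orderOf g := hqy.trans hyo
    have := Nat.Coprime.eq_one_of_dvd hgcop.symm h1
    exact hq'.one_lt.ne' this
  have hQp : IsPGroup p Q := S.isPGroup'.to_le hQS
  have hqd : q ∣ p ^ 2 - 1 :=
    prime_dvd_of_not_centralize p q hqp Q hQp y hyN k hk (h2 Q hQS) hnc
  exact hq q hq' (hqy.trans (orderOf_dvd_natCard y)) hqp hqd

/-- metacyclic Sylow `p`-subgroup and no prime divisor `q ≠ p` of `|G|` dividing `p^2-1`: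
normal `p`-complement. -/
theorem npc_of_metacyclic {G : Type*} [Group G] [Finite G] (p : ℕ) [Fact p.Prime]
    (S : Sylow p G) (hS : Cfsg.IsMetacyclic ↥(S : Subgroup G))
    (hq : ∀ q : ℕ, q.Prime → q ∣ Nat.card G → q ≠ p → ¬ q ∣ p ^ 2 - 1) : NPC p G :=
  npc_of_frobHyp (frobHyp_of_card_quot p S
    (fun Q hQS => card_quot_frattini_dvd_of_metacyclic p S hS Q hQS) hq)

/-- a group with a cyclic subgroup of index at most 2 is metacyclic. -/
theorem isMetacyclic_of_index_le_two {R : Type*} [Group R] (C : Subgroup R) [IsCyclic C]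
    (h : C.index = 1 ∨ C.index = 2) : Cfsg.IsMetacyclic R := by
  rcases h with h | h
  · have hC : C = ⊤ := Subgroup.index_eq_one.mp h
    haveI : C.Normal := by rw [hC]; infer_instance
    refine ⟨C, inferInstance, inferInstance, ?_⟩
    have : Nat.card (R ⧸ C) = 1 := by rw [← Subgroup.index_eq_card, h]
    haveI : Subsingleton (R ⧸ C) := (Nat.card_eq_one_iff_unique.mp this).1
    infer_instance
  · haveI : C.Normal := Subgroup.normal_of_index_eq_two h
    refine ⟨C, inferInstance, inferInstance, ?_⟩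
    have hc2 : Nat.card (R ⧸ C) = 2 := by rw [← Subgroup.index_eq_card, h]
    haveI : Fact (Nat.Prime 2) := ⟨Nat.prime_two⟩
    exact isCyclic_of_prime_card hc2

end Cfsg.Agent.Lib.Helper7_Metacyclic2
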