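import Mathlib

namespace Cfsg.Agent.H7Nil

open Module

theorem exists_basis_ext {F V : Type*} [Field F] [AddCommGroup V] [Module F V] [Finite V]
    {k m : ℕ} (t : Fin k → V) (ht : LinearIndependent F t) (hfr : Module.finrank F V = k + m) :
    ∃ b : Basis (Fin k ⊕ Fin m) F V, ∀ i, b (Sum.inl i) = t i := by
  classical
  let b0 := Basis.sumExtend ht
  haveI : Finite (Basis.sumExtendIndex ht) := Subtype.finite
  haveI : Fintype (Basis.sumExtendIndex ht) := Fintype.ofFinite _
  have hcard : Fintype.card (Basis.sumExtendIndex ht) = m := by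
    have := Module.finrank_eq_card_basis b0
    rw [hfr, Fintype.card_sum, Fintype.card_fin] at this
    omega
  let e2 : Basis.sumExtendIndex ht ≃ Fin m := Fintype.equivFinOfCardEq hcard
  refine ⟨b0.reindex (Equiv.sumCongr (Equiv.refl _) e2), ?_⟩
  intro i
  simp [b0, Basis.sumExtend]
  rfl


section Block
open Matrix

variable (F : Type*) [Field F]

def shiftM (k : ℕ) : Matrix (Fin k) (Fin k) F := fun r c => if (r : ℕ) = c + 1 then 1 else 0

theorem shiftM_pow (k j : ℕ) :
    (shiftM F k) ^ j = Matrix.of (fun (r c : Fin k) => if (r : ℕ) = (c : ℕ) + j then (1 : F) else 0) := by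
  induction j with
  | zero =>
    ext r c
    simp [Matrix.one_apply, Fin.ext_iff]
  | succ j ih =>
    rw [pow_succ, ih]
    ext r c
    rw [Matrix.mul_apply]
    simp only [Matrix.of_apply]
    by_cases hc : (c : ℕ) + 1 < k
    · rw [Finset.sum_eq_single (⟨c + 1, hc⟩ : Fin k)]
      · simp only [shiftM, if_true]
        rw [mul_one]
        have : ((r : ℕ) = c + 1 + j) ↔ ((r : ℕ) = c + (j + 1)) := by omega
        simp only [this]
      · intro s _ hs
        have : ¬ ((s : ℕ) = c + 1) := fun h => hs (Fin.ext h)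
        simp [shiftM, this]
      · intro h; exact absurd (Finset.mem_univ _) h
    · rw [Finset.sum_eq_zero]
      · have : ¬ ((r : ℕ) = c + (j + 1)) := by have := r.2; omega
        rw [if_neg this]
      · intro s _
        have : ¬ ((s : ℕ) = c + 1) := by have := s.2; omega
        simp [shiftM, this]

theorem shiftM_pow_self (k : ℕ) : (shiftM F k) ^ k = 0 := by
  rw [shiftM_pow]
  ext r c
  have : ¬ ((r : ℕ) = c + k) := by have := r.2; omega
  simp [this]

theorem shiftM_nilpotent (k : ℕ) : IsNilpotent (shiftM F k) := ⟨k, shiftM_pow_self F k⟩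

variable {F}

theorem fromBlocks_pow_exists {k m : ℕ} (J : Matrix (Fin k) (Fin k) F) (B : Matrix (Fin k) (Fin m) F)
    (M : Matrix (Fin m) (Fin m) F) (r : ℕ) :
    ∃ Br : Matrix (Fin k) (Fin m) F,
      (fromBlocks J B 0 M) ^ r = fromBlocks (J ^ r) Br 0 (M ^ r) := by
  induction r with
  | zero => exact ⟨0, by simp [Matrix.fromBlocks_one]⟩
  | succ r ih =>
    obtain ⟨Br, hBr⟩ := ih
    refine ⟨J ^ r * B + Br * M, ?_⟩
    rw [pow_succ, hBr, Matrix.fromBlocks_multiply]
    simp [pow_succ]

theorem isNilpotent_fromBlocks_iff {k m : ℕ} {J : Matrix (Fin k) (Fin k) F} (hJ : IsNilpotent J)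
    (B : Matrix (Fin k) (Fin m) F) (M : Matrix (Fin m) (Fin m) F) :
    IsNilpotent (fromBlocks J B 0 M) ↔ IsNilpotent M := by
  constructor
  · rintro ⟨r, hr⟩
    obtain ⟨Br, hBr⟩ := fromBlocks_pow_exists J B M r
    rw [hBr] at hr
    refine ⟨r, ?_⟩
    have := congrArg Matrix.toBlocks₂₂ hr
    rw [Matrix.toBlocks_fromBlocks₂₂] at this
    rw [this]; rfl
  · rintro ⟨b, hb⟩
    obtain ⟨a, ha⟩ := hJ
    obtain ⟨Ba, hBa⟩ := fromBlocks_pow_exists J B M a
    obtain ⟨Bb, hBb⟩ := fromBlocks_pow_exists J B M b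
    refine ⟨b + a + (b + a), ?_⟩
    rw [pow_add (fromBlocks J B 0 M) (b + a), pow_add, hBa, hBb, ha, hb, Matrix.fromBlocks_multiply]
    rw [Matrix.fromBlocks_multiply]
    simp


variable (F)

/-- number of nilpotent `m × m` matrices -/
noncomputable def nilc (m : ℕ) : ℕ := Nat.card {M : Matrix (Fin m) (Fin m) F // IsNilpotent M}

noncomputable def blockEquiv (k m : ℕ) :
    {N : Matrix (Fin k ⊕ Fin m) (Fin k ⊕ Fin m) F //
      IsNilpotent N ∧ N.toBlocks₁₁ = shiftM F k ∧ N.toBlocks₂₁ = 0} ≃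
    Matrix (Fin k) (Fin m) F × {M : Matrix (Fin m) (Fin m) F // IsNilpotent M} where
  toFun N := (N.1.toBlocks₁₂, ⟨N.1.toBlocks₂₂, by
    have h := N.2.1
    rw [← Matrix.fromBlocks_toBlocks N.1, N.2.2.1, N.2.2.2] at h
    exact (isNilpotent_fromBlocks_iff (shiftM_nilpotent F k) _ _).mp h⟩)
  invFun p := ⟨fromBlocks (shiftM F k) p.1 0 p.2.1, by
    refine ⟨(isNilpotent_fromBlocks_iff (shiftM_nilpotent F k) _ _).mpr p.2.2, ?_, ?_⟩
    · rw [Matrix.toBlocks_fromBlocks₁₁]
    · rw [Matrix.toBlocks_fromBlocks₂₁]⟩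
  left_inv N := by
    apply Subtype.ext
    simp only
    conv_rhs => rw [← Matrix.fromBlocks_toBlocks N.1, N.2.2.1, N.2.2.2]
  right_inv p := by
    apply Prod.ext
    · simp only [Matrix.toBlocks_fromBlocks₁₂]
    · apply Subtype.ext
      simp only [Matrix.toBlocks_fromBlocks₂₂]

theorem card_block [Fintype F] (k m : ℕ) :
    Nat.card {N : Matrix (Fin k ⊕ Fin m) (Fin k ⊕ Fin m) F //
      IsNilpotent N ∧ N.toBlocks₁₁ = shiftM F k ∧ N.toBlocks₂₁ = 0} =
      Fintype.card F ^ (k * m) * nilc F m := by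
  classical
  rw [Nat.card_congr (blockEquiv F k m), Nat.card_prod]
  congr 1
  change Nat.card (Fin k → Fin m → F) = _
  rw [Nat.card_fun, Nat.card_fun, Nat.card_fin, Nat.card_fin, ← pow_mul, mul_comm,
    Nat.card_eq_fintype_card]

end Block


section ChainSec
open Matrix

variable {F V : Type*} [Field F] [AddCommGroup V] [Module F V]

def Chain {k : ℕ} (f : Module.End F V) (t : Fin k → V) : Prop :=
  ∀ i : Fin k, f (t i) = if h : (i : ℕ) + 1 < k then t ⟨i + 1, h⟩ else 0

theorem chain_iff_blocks {k m : ℕ} (b : Basis (Fin k ⊕ Fin m) F V) (t : Fin k → V)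
    (hb : ∀ i, b (Sum.inl i) = t i) (f : Module.End F V) :
    Chain f t ↔ (LinearMap.toMatrixAlgEquiv b f).toBlocks₁₁ = shiftM F k ∧
      (LinearMap.toMatrixAlgEquiv b f).toBlocks₂₁ = 0 := by
  constructor
  · intro h
    constructor
    · ext r c
      rw [Matrix.toBlocks₁₁, Matrix.of_apply, LinearMap.toMatrixAlgEquiv_apply, hb, h c]
      unfold shiftM
      by_cases hc : (c : ℕ) + 1 < k
      · rw [dif_pos hc, ← hb, Basis.repr_self, Finsupp.single_apply]
        by_cases hr : (r : ℕ) = c + 1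
        · rw [if_pos hr, if_pos]
          rw [Sum.inl.injEq]; exact Fin.ext hr.symm
        · rw [if_neg hr, if_neg]
          rw [Sum.inl.injEq]; intro h'; apply hr; rw [← h']
      · rw [dif_neg hc, map_zero, Finsupp.zero_apply, if_neg]
        have := r.2; omega
    · ext r c
      rw [Matrix.toBlocks₂₁, Matrix.of_apply, LinearMap.toMatrixAlgEquiv_apply, hb, h c]
      by_cases hc : (c : ℕ) + 1 < k
      · rw [dif_pos hc, ← hb, Basis.repr_self, Finsupp.single_apply, if_neg]
        · rfl
        · exact Sum.inl_ne_inr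
      · rw [dif_neg hc, map_zero, Finsupp.zero_apply]; rfl
  · rintro ⟨h1, h2⟩ i
    apply b.repr.injective
    ext j
    rcases j with r | r
    · have e1 := congrFun (congrFun h1 r) i
      rw [Matrix.toBlocks₁₁, Matrix.of_apply, LinearMap.toMatrixAlgEquiv_apply, hb] at e1
      rw [e1]
      unfold shiftM
      by_cases hc : (i : ℕ) + 1 < k
      · rw [dif_pos hc, ← hb, Basis.repr_self, Finsupp.single_apply]
        by_cases hr : (r : ℕ) = i + 1
        · rw [if_pos hr, if_pos]
          rw [Sum.inl.injEq]; exact Fin.ext hr.symm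
        · rw [if_neg hr, if_neg]
          rw [Sum.inl.injEq]; intro h'; apply hr; rw [← h']
      · rw [dif_neg hc, map_zero, Finsupp.zero_apply, if_neg]
        have := r.2; omega
    · have e1 := congrFun (congrFun h2 r) i
      rw [Matrix.toBlocks₂₁, Matrix.of_apply, LinearMap.toMatrixAlgEquiv_apply, hb] at e1
      rw [e1]
      by_cases hc : (i : ℕ) + 1 < k
      · rw [dif_pos hc, ← hb, Basis.repr_self, Finsupp.single_apply, if_neg]
        · rfl
        · exact Sum.inl_ne_inr
      · rw [dif_neg hc, map_zero, Finsupp.zero_apply]; rfl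

theorem isNilpotent_toMatrix_iff {ι : Type*} [Fintype ι] [DecidableEq ι] (b : Basis ι F V)
    (f : Module.End F V) : IsNilpotent (LinearMap.toMatrixAlgEquiv b f) ↔ IsNilpotent f := by
  constructor
  · rintro ⟨r, hr⟩
    refine ⟨r, ?_⟩
    apply (LinearMap.toMatrixAlgEquiv b).injective
    rw [map_pow, hr, map_zero]
  · rintro ⟨r, hr⟩
    exact ⟨r, by rw [← map_pow, hr, map_zero]⟩

theorem card_chain [Fintype F] [Finite V] {k m : ℕ} (t : Fin k → V) (ht : LinearIndependent F t)
    (hfr : Module.finrank F V = k + m) :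
    Nat.card {f : Module.End F V // IsNilpotent f ∧ Chain f t} =
      Fintype.card F ^ (k * m) * nilc F m := by
  classical
  obtain ⟨b, hb⟩ := exists_basis_ext t ht hfr
  rw [← card_block F k m]
  apply Nat.card_congr
  refine Equiv.subtypeEquiv (LinearMap.toMatrixAlgEquiv b).toEquiv ?_
  intro f
  change _ ↔ IsNilpotent (LinearMap.toMatrixAlgEquiv b f) ∧ _
  rw [isNilpotent_toMatrix_iff, chain_iff_blocks b t hb]
  rfl

theorem card_nilpotent_end [Fintype F] [Finite V] {n : ℕ} (hfr : Module.finrank F V = n) :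
    Nat.card {f : Module.End F V // IsNilpotent f} = nilc F n := by
  classical
  haveI : Module.Finite F V := Module.Finite.of_finite
  let b : Basis (Fin n) F V := Module.finBasisOfFinrankEq F V hfr
  unfold nilc
  apply Nat.card_congr
  refine Equiv.subtypeEquiv (LinearMap.toMatrixAlgEquiv b).toEquiv ?_
  intro f
  change _ ↔ IsNilpotent (LinearMap.toMatrixAlgEquiv b f)
  rw [isNilpotent_toMatrix_iff]

end ChainSec

end Cfsg.Agent.H7Nil
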