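import Cfsg.Agent.Lib.Helper7_NilBlock

namespace Cfsg.Agent.H7Nil

open Module

section Krylov
variable {F V : Type*} [Field F] [AddCommGroup V] [Module F V]

theorem pow_apply_eq_zero_of_le (f : Module.End F V) (v : V) {k e : ℕ} (h : (f ^ k) v = 0)
    (hke : k ≤ e) : (f ^ e) v = 0 := by
  obtain ⟨a, rfl⟩ := Nat.exists_eq_add_of_le hke
  rw [add_comm, pow_add, Module.End.mul_apply, h, map_zero]

theorem chain_pow {k : ℕ} {f : Module.End F V} {t : Fin k → V} (h : Chain f t) (hk : 0 < k) :
    ∀ i : Fin k, t i = (f ^ (i : ℕ)) (t ⟨0, hk⟩) := by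
  rintro ⟨i, hi⟩
  induction i with
  | zero => simp
  | succ i ih =>
    have h1 := h ⟨i, by omega⟩
    rw [dif_pos (by simpa using hi)] at h1
    rw [pow_succ', Module.End.mul_apply, ← ih (by omega), h1]

theorem chain_pow_top {k : ℕ} {f : Module.End F V} {t : Fin k → V} (h : Chain f t) (hk : 0 < k) :
    (f ^ k) (t ⟨0, hk⟩) = 0 := by
  obtain ⟨k', rfl⟩ := Nat.exists_eq_succ_of_ne_zero (Nat.pos_iff_ne_zero.mp hk)
  have h1 := h ⟨k', by omega⟩
  rw [dif_neg (by simp)] at h1
  rw [pow_succ', Module.End.mul_apply, ← chain_pow h hk ⟨k', by omega⟩, h1]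

theorem krylov_li (f : Module.End F V) (v : V) (k : ℕ) (h0 : (f ^ (k + 1)) v = 0)
    (h1 : (f ^ k) v ≠ 0) : LinearIndependent F (fun i : Fin (k + 1) => (f ^ (i : ℕ)) v) := by
  rw [Fintype.linearIndependent_iff]
  intro c hc
  have key : ∀ i : ℕ, ∀ hi : i < k + 1, c ⟨i, hi⟩ = 0 := by
    intro i
    induction i using Nat.strong_induction_on with
    | _ i ih =>
      intro hi
      have h2 := congrArg (fun x => (f ^ (k - i)) x) hc
      simp only [map_sum, map_smul, map_zero] at h2
      rw [Finset.sum_eq_single (⟨i, hi⟩ : Fin (k + 1))] at h2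
      · rw [← Module.End.mul_apply, ← pow_add] at h2
        have e : k - i + i = k := by omega
        simp only [e] at h2
        rcases smul_eq_zero.mp h2 with h3 | h3
        · exact h3
        · exact absurd h3 h1
      · intro j _ hj
        rcases lt_or_gt_of_ne (fun h => hj (Fin.ext h) : (j : ℕ) ≠ i) with hlt | hgt
        · have := ih j hlt j.2
          simp only [Fin.eta] at this
          rw [this, zero_smul]
        · rw [← Module.End.mul_apply, ← pow_add,
            pow_apply_eq_zero_of_le f v h0 (by omega), smul_zero]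
      · intro h; exact absurd (Finset.mem_univ _) h
  intro i
  exact key i i.2

end Krylov


section Pairs
variable (F V : Type*) [Field F] [AddCommGroup V] [Module F V]

abbrev XSet := {p : Module.End F V × V // IsNilpotent p.1 ∧ p.2 ≠ 0}

abbrev YSet (k : ℕ) := {p : (Fin k → V) × Module.End F V //
  LinearIndependent F p.1 ∧ IsNilpotent p.2 ∧ Chain p.2 p.1}

variable {F V}

def gMap (n : ℕ) : (Σ k : Fin n, YSet F V (k + 1)) → XSet F V :=
  fun s => ⟨(s.2.1.2, s.2.1.1 0), s.2.2.2.1, s.2.2.1.ne_zero 0⟩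

theorem gMap_injective (n : ℕ) : Function.Injective (gMap (F := F) (V := V) n) := by
  rintro ⟨k, ⟨⟨t, f⟩, ht, hf, hc⟩⟩ ⟨k', ⟨⟨t', f'⟩, ht', hf', hc'⟩⟩ h
  simp only [gMap, Subtype.mk.injEq, Prod.mk.injEq] at h
  obtain ⟨hff, hv⟩ := h
  subst hff
  dsimp only at ht hf hc ht' hf' hc'
  have top := chain_pow_top hc (Nat.succ_pos _)
  have top' := chain_pow_top hc' (Nat.succ_pos _)
  have nz : (f ^ (k : ℕ)) (t ⟨0, Nat.succ_pos _⟩) ≠ 0 := by
    rw [← chain_pow hc (Nat.succ_pos _) ⟨k, Nat.lt_succ_self _⟩]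
    exact ht.ne_zero _
  have nz' : (f ^ (k' : ℕ)) (t' ⟨0, Nat.succ_pos _⟩) ≠ 0 := by
    rw [← chain_pow hc' (Nat.succ_pos _) ⟨k', Nat.lt_succ_self _⟩]
    exact ht'.ne_zero _
  have hv' : t ⟨0, Nat.succ_pos _⟩ = t' ⟨0, Nat.succ_pos _⟩ := hv
  rw [hv'] at top nz
  have hkk : (k : ℕ) = k' := by
    rcases lt_trichotomy (k : ℕ) k' with h1 | h1 | h1
    · exact absurd (pow_apply_eq_zero_of_le f _ top (by omega)) nz'
    · exact h1
    · exact absurd (pow_apply_eq_zero_of_le f _ top' (by omega)) nz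
  have hkk' : k = k' := Fin.ext hkk
  subst hkk'
  have htt : t = t' := by
    funext i
    rw [chain_pow hc (Nat.succ_pos _) i, chain_pow hc' (Nat.succ_pos _) i, hv']
  subst htt
  rfl

theorem gMap_surjective [Module.Finite F V] : Function.Surjective
    (gMap (F := F) (V := V) (Module.finrank F V)) := by
  rintro ⟨⟨f, v⟩, hf, hv⟩
  simp only at hf hv
  classical
  have hex : ∃ j, (f ^ j) v = 0 := by
    obtain ⟨r, hr⟩ := hf
    exact ⟨r, by rw [hr]; rfl⟩
  have hj0 : Nat.find hex ≠ 0 := by
    intro h0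
    have := Nat.find_spec hex
    rw [h0] at this
    exact hv (by simpa using this)
  obtain ⟨k, hk⟩ := Nat.exists_eq_succ_of_ne_zero hj0
  have h0 : (f ^ (k + 1)) v = 0 := by
    have := Nat.find_spec hex
    rwa [hk] at this
  have h1 : (f ^ k) v ≠ 0 := by
    have := Nat.find_min hex (m := k) (by omega)
    exact this
  have hli := krylov_li f v k h0 h1
  have hkn : k + 1 ≤ Module.finrank F V := by
    have := hli.fintype_card_le_finrank
    simpa using this
  have hchain : Chain f (fun i : Fin (k + 1) => (f ^ (i : ℕ)) v) := by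
    intro i
    by_cases hi : (i : ℕ) + 1 < k + 1
    · rw [dif_pos hi]
      simp only
      rw [pow_succ', Module.End.mul_apply]
    · rw [dif_neg hi]
      have : (i : ℕ) = k := by have := i.2; omega
      simp only
      rw [this, ← Module.End.mul_apply, ← pow_succ', h0]
  refine ⟨⟨⟨k, by omega⟩, ⟨(fun i : Fin (k + 1) => (f ^ (i : ℕ)) v, f), hli, hf, hchain⟩⟩, ?_⟩
  simp [gMap]


variable (F V) in
theorem card_XSet [Fintype F] [Finite V] {n : ℕ} (hfr : Module.finrank F V = n) :
    Nat.card (XSet F V) = nilc F n * (Fintype.card F ^ n - 1) := by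
  classical
  have e : XSet F V ≃ {f : Module.End F V // IsNilpotent f} × {v : V // v ≠ 0} :=
    Equiv.subtypeProdEquivProd (p := fun f : Module.End F V => IsNilpotent f)
      (q := fun v : V => v ≠ 0)
  rw [Nat.card_congr e, Nat.card_prod, card_nilpotent_end hfr]
  congr 1
  haveI : Fintype V := Fintype.ofFinite V
  rw [Nat.card_eq_fintype_card, Fintype.card_subtype_compl, Fintype.card_subtype_eq,
    Module.card_eq_pow_finrank (K := F) (V := V), hfr]

noncomputable def ySigmaEquiv (k : ℕ) : YSet F V k ≃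
    Σ t : {t : Fin k → V // LinearIndependent F t},
      {f : Module.End F V // IsNilpotent f ∧ Chain f t.1} where
  toFun y := ⟨⟨y.1.1, y.2.1⟩, ⟨y.1.2, y.2.2⟩⟩
  invFun s := ⟨(s.1.1, s.2.1), s.1.2, s.2.2⟩
  left_inv _ := rfl
  right_inv _ := rfl

variable (F V) in
theorem card_YSet [Fintype F] [Finite V] {k m : ℕ} (hfr : Module.finrank F V = k + m) :
    Nat.card (YSet F V k) =
      (∏ i : Fin k, (Fintype.card F ^ (k + m) - Fintype.card F ^ (i : ℕ))) *
        (Fintype.card F ^ (k * m) * nilc F m) := by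
  classical
  haveI : Fintype {t : Fin k → V // LinearIndependent F t} := Fintype.ofFinite _
  haveI : Finite (Module.End F V) :=
    Finite.of_injective (fun f => (f : V → V)) DFunLike.coe_injective
  rw [Nat.card_congr (ySigmaEquiv k), Nat.card_sigma]
  have h1 : ∀ t : {t : Fin k → V // LinearIndependent F t},
      Nat.card {f : Module.End F V // IsNilpotent f ∧ Chain f t.1} =
        Fintype.card F ^ (k * m) * nilc F m := fun t => card_chain t.1 t.2 hfr
  rw [Finset.sum_congr rfl (fun t _ => h1 t), Finset.sum_const, smul_eq_mul, Finset.card_univ,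
    ← Nat.card_eq_fintype_card, card_linearIndependent (K := F) (V := V) (by omega), hfr]

variable (F V) in
theorem card_recursion [Fintype F] [Finite V] {n : ℕ} (hfr : Module.finrank F V = n) :
    nilc F n * (Fintype.card F ^ n - 1) =
      ∑ k : Fin n, (∏ i : Fin (k + 1), (Fintype.card F ^ n - Fintype.card F ^ (i : ℕ))) *
        (Fintype.card F ^ ((k + 1) * (n - (k + 1))) * nilc F (n - (k + 1))) := by
  classical
  haveI : Module.Finite F V := Module.Finite.of_finite
  haveI : Finite (Module.End F V) :=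
    Finite.of_injective (fun f => (f : V → V)) DFunLike.coe_injective
  rw [← card_XSet F V hfr]
  have hbij : Function.Bijective (gMap (F := F) (V := V) n) := by
    subst hfr
    exact ⟨gMap_injective _, gMap_surjective⟩
  rw [← Nat.card_congr (Equiv.ofBijective _ hbij), Nat.card_sigma]
  apply Finset.sum_congr rfl
  intro k _
  have hk : Module.finrank F V = ((k : ℕ) + 1) + (n - (k + 1)) := by
    have := k.2; omega
  rw [card_YSet F V hk]
  have e : ((k : ℕ) + 1) + (n - (k + 1)) = n := by have := k.2; omega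
  rw [e]

end Pairs


section Arith

theorem tele (q : ℕ) (hq : 1 ≤ q) (a : ℕ → ℕ) : ∀ d e : ℕ, (∀ m ≤ d, a m = q ^ (m * (m - 1))) →
    ∑ k ∈ Finset.Ico e (e + d + 1), (∏ i ∈ Finset.Ico e (k + 1), (q ^ (e + d + 1) - q ^ i)) *
      (q ^ ((k + 1) * ((e + d + 1) - (k + 1))) * a ((e + d + 1) - (k + 1))) =
      (q ^ (e + d + 1) - q ^ e) * q ^ ((e + d + 1) * d) := by
  intro d
  induction d with
  | zero =>
    intro e ha
    have h0 : a 0 = 1 := by rw [ha 0 le_rfl]; simp
    simp [h0]
  | succ d ih =>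
    intro e ha
    have hIH := ih (e + 1) (fun m hm => ha m (by omega))
    have en : e + 1 + d + 1 = e + (d + 1) + 1 := by omega
    rw [en] at hIH
    set n := e + (d + 1) + 1 with hn
    rw [Finset.sum_eq_sum_Ico_succ_bot (by omega : e < n)]
    have h2 : ∀ k ∈ Finset.Ico (e + 1) n,
        (∏ i ∈ Finset.Ico e (k + 1), (q ^ n - q ^ i)) *
          (q ^ ((k + 1) * (n - (k + 1))) * a (n - (k + 1))) =
        (q ^ n - q ^ e) * ((∏ i ∈ Finset.Ico (e + 1) (k + 1), (q ^ n - q ^ i)) *
          (q ^ ((k + 1) * (n - (k + 1))) * a (n - (k + 1)))) := by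
      intro k hk
      rw [Finset.mem_Ico] at hk
      rw [Finset.prod_eq_prod_Ico_succ_bot (by omega : e < k + 1), mul_assoc]
    rw [Finset.sum_congr rfl h2, ← Finset.mul_sum, hIH]
    have h3 : Finset.Ico e (e + 1) = {e} := by simp
    rw [h3, Finset.prod_singleton, ← mul_add]
    congr 1
    have e1 : n - (e + 1) = d + 1 := by omega
    rw [e1, ha (d + 1) le_rfl]
    have e2 : d + 1 - 1 = d := by omega
    rw [e2, ← pow_add]
    have e3 : (e + 1) * (d + 1) + (d + 1) * d = (e + 1) + n * d := by rw [hn]; ring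
    rw [e3, Nat.sub_mul, ← pow_add, ← pow_add]
    have e4 : n + n * d = n * (d + 1) := by ring
    rw [e4]
    have hle : q ^ (e + 1 + n * d) ≤ q ^ (n * (d + 1)) := by
      apply Nat.pow_le_pow_right hq
      rw [← e4]; omega
    omega

end Arith

theorem nilc_zero (F : Type*) [Field F] : nilc F 0 = 1 := by
  unfold nilc
  rw [Nat.card_eq_one_iff_unique]
  refine ⟨⟨fun a b => Subtype.ext (Subsingleton.elim _ _)⟩, ⟨⟨0, IsNilpotent.zero⟩⟩⟩

theorem nilc_eq (F : Type*) [Field F] [Fintype F] (n : ℕ) :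
    nilc F n = Fintype.card F ^ (n * (n - 1)) := by
  induction n using Nat.strong_induction_on with
  | _ n ih =>
    rcases Nat.eq_zero_or_pos n with rfl | hn
    · rw [nilc_zero]; simp
    · have hq : 1 ≤ Fintype.card F := Fintype.card_pos
      have hq2 : 2 ≤ Fintype.card F := Fintype.one_lt_card
      have hrec := card_recursion F (Fin n → F) (n := n) (by simp)
      have hsum : ∀ k : Fin n,
          (∏ i : Fin (k + 1), (Fintype.card F ^ n - Fintype.card F ^ (i : ℕ))) *
            (Fintype.card F ^ ((k + 1) * (n - (k + 1))) * nilc F (n - (k + 1))) =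
          (fun k : ℕ => (∏ i ∈ Finset.Ico 0 (k + 1), (Fintype.card F ^ n - Fintype.card F ^ i)) *
            (Fintype.card F ^ ((k + 1) * (n - (k + 1))) *
              (fun m => Fintype.card F ^ (m * (m - 1))) (n - (k + 1)))) (k : ℕ) := by
        intro k
        simp only
        rw [ih (n - (k + 1)) (by omega), Fin.prod_univ_eq_prod_range
          (fun i => Fintype.card F ^ n - Fintype.card F ^ i) (k + 1), Nat.Ico_zero_eq_range]
      rw [Finset.sum_congr rfl (fun k _ => hsum k), Fin.sum_univ_eq_sum_range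
        (fun k : ℕ => (∏ i ∈ Finset.Ico 0 (k + 1), (Fintype.card F ^ n - Fintype.card F ^ i)) *
            (Fintype.card F ^ ((k + 1) * (n - (k + 1))) *
              (fun m => Fintype.card F ^ (m * (m - 1))) (n - (k + 1)))) n,
        ← Nat.Ico_zero_eq_range] at hrec
      obtain ⟨d, rfl⟩ : ∃ d, n = 0 + d + 1 := ⟨n - 1, by omega⟩
      rw [tele (Fintype.card F) hq (fun m => Fintype.card F ^ (m * (m - 1))) d 0
        (fun m _ => rfl)] at hrec
      have e1 : 0 + d + 1 - 1 = d := by omega
      rw [e1]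
      rw [pow_zero, mul_comm] at hrec
      have hpos : 0 < Fintype.card F ^ (0 + d + 1) - 1 := by
        have : 2 ^ (0 + d + 1) ≤ Fintype.card F ^ (0 + d + 1) := Nat.pow_le_pow_left hq2 _
        have : 2 ≤ 2 ^ (0 + d + 1) := by
          calc 2 = 2 ^ 1 := by norm_num
            _ ≤ 2 ^ (0 + d + 1) := Nat.pow_le_pow_right (by norm_num) (by omega)
        omega
      exact Nat.eq_of_mul_eq_mul_left hpos hrec


section Final
open Matrix

variable {F : Type*} [Field F]

theorem order_pow_iff_nilpotent (p : ℕ) [Fact p.Prime] [CharP F p] (n : ℕ) (g : GL (Fin n) F) :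
    (∃ k : ℕ, orderOf g = p ^ k) ↔ IsNilpotent ((g : Matrix (Fin n) (Fin n) F) - 1) := by
  have hp : p.Prime := Fact.out
  rcases Nat.eq_zero_or_pos n with rfl | hn
  · constructor
    · intro _
      have : (g : Matrix (Fin 0) (Fin 0) F) - 1 = 0 := Subsingleton.elim _ _
      rw [this]; exact IsNilpotent.zero
    · intro _
      have : g = 1 := Subsingleton.elim _ _
      exact ⟨0, by rw [this, orderOf_one, pow_zero]⟩
  · haveI : NeZero n := ⟨hn.ne'⟩
    have hchar : CharP (Matrix (Fin n) (Fin n) F) p := inferInstance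
    constructor
    · rintro ⟨j, hj⟩
      refine ⟨p ^ j, ?_⟩
      rw [sub_pow_char_pow_of_commute p j (Commute.one_right _), one_pow, sub_eq_zero,
        ← Units.val_pow_eq_pow_val, ← hj, pow_orderOf_eq_one]
      rfl
    · rintro ⟨r, hr⟩
      have hle : r ≤ p ^ r := (Nat.lt_pow_self hp.one_lt).le
      have h1 : g ^ (p ^ r) = 1 := by
        apply Units.ext
        rw [Units.val_pow_eq_pow_val, Units.val_one]
        have e : (g : Matrix (Fin n) (Fin n) F) = ((g : Matrix (Fin n) (Fin n) F) - 1) + 1 := by abel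
        rw [e, add_pow_char_pow_of_commute p r (Commute.one_right _), one_pow]
        obtain ⟨c, hc⟩ := Nat.exists_eq_add_of_le hle
        rw [hc, pow_add, hr, zero_mul, zero_add]
      have hdvd : orderOf g ∣ p ^ r := orderOf_dvd_of_pow_eq_one h1
      obtain ⟨j, _, hj⟩ := (Nat.dvd_prime_pow hp).mp hdvd
      exact ⟨j, hj⟩

noncomputable def unipEquiv (p : ℕ) [Fact p.Prime] [CharP F p] (n : ℕ) :
    {g : GL (Fin n) F // ∃ k : ℕ, orderOf g = p ^ k} ≃
      {N : Matrix (Fin n) (Fin n) F // IsNilpotent N} where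
  toFun g := ⟨(g.1 : Matrix (Fin n) (Fin n) F) - 1, (order_pow_iff_nilpotent p n g.1).mp g.2⟩
  invFun N := ⟨(N.2.isUnit_one_add).unit, by
    rw [order_pow_iff_nilpotent]
    have : ((N.2.isUnit_one_add).unit : Matrix (Fin n) (Fin n) F) = 1 + N.1 := IsUnit.unit_spec _
    rw [this, add_sub_cancel_left]
    exact N.2⟩
  left_inv g := by
    apply Subtype.ext
    apply Units.ext
    simp only
    rw [IsUnit.unit_spec]
    abel
  right_inv N := by
    apply Subtype.ext
    simp only
    rw [IsUnit.unit_spec]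
    abel

theorem card_unipotent [Fintype F] (p : ℕ) [Fact p.Prime] [CharP F p] (n : ℕ) :
    Nat.card {g : GL (Fin n) F // ∃ k : ℕ, orderOf g = p ^ k} =
      Fintype.card F ^ (n * (n - 1)) := by
  rw [Nat.card_congr (unipEquiv p n)]
  exact nilc_eq F n

end Final

end Cfsg.Agent.H7Nil
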