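import Mathlib
import Cfsg.Agent.Lib.Helper7_Semisimple
set_option autoImplicit false
open Polynomial

namespace Cfsg.Agent.Lib.Helper7_SemisimpleCount

universe u v

open Cfsg.Agent.Lib.Helper7_Semisimple

/-- a monic polynomial is a product of a `Fin m`-indexed family of monic irreducibles -/
theorem exists_factor_family {F : Type u} [Field F] (f : F[X]) (hf : f.Monic) :
    ∃ (m : ℕ) (r : Fin m → F[X]), (∀ j, Irreducible (r j)) ∧ (∀ j, (r j).Monic) ∧
      (∀ j, r j ∣ f) ∧ ∏ j, r j = f := by
  classical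
  set l := (UniqueFactorizationMonoid.normalizedFactors f).toList with hl
  have hmem : ∀ j : Fin l.length, l.get j ∈ UniqueFactorizationMonoid.normalizedFactors f := by
    intro j
    have h1 : ∀ x ∈ l, x ∈ UniqueFactorizationMonoid.normalizedFactors f := by
      intro x hx
      rwa [hl, Multiset.mem_toList] at hx
    exact h1 _ (List.get_mem l j)
  have hirr : ∀ j : Fin l.length, Irreducible (l.get j) := fun j =>
    UniqueFactorizationMonoid.irreducible_of_normalized_factor _ (hmem j)
  have hmon : ∀ j : Fin l.length, (l.get j).Monic := by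
    intro j
    have h1 := UniqueFactorizationMonoid.normalize_normalized_factor _ (hmem j)
    rw [← h1]
    exact Polynomial.monic_normalize (hirr j).ne_zero
  refine ⟨l.length, l.get, hirr, hmon, ?_, ?_⟩
  · intro j
    exact UniqueFactorizationMonoid.dvd_of_mem_normalizedFactors (hmem j)
  · have h1 : ∏ j, l.get j = l.prod := by
      rw [← List.prod_ofFn, List.ofFn_get]
    have h2 : l.prod = (UniqueFactorizationMonoid.normalizedFactors f).prod := by
      rw [hl, Multiset.prod_toList]
    have h3 := UniqueFactorizationMonoid.prod_normalizedFactors hf.ne_zero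
    rw [h1, h2]
    apply Polynomial.eq_of_monic_of_associated _ hf h3
    rw [← h2, ← h1]
    exact Polynomial.monic_prod_of_monic _ _ (fun j _ => hmon j)


theorem exists_matrix_of_charpoly {F : Type u} [Field F] [Fintype F] {p : ℕ} [Fact p.Prime]
    [CharP F p] {n : ℕ} (f : F[X]) (hf : f.Monic) (hdeg : f.natDegree = n) (h0 : f.coeff 0 ≠ 0) :
    ∃ G : Matrix (Fin n) (Fin n) F, G.charpoly = f ∧
      ∃ N : ℕ, N.Coprime p ∧ 0 < N ∧ G ^ N = 1 := by
  classical
  obtain ⟨m, r, hr, hrm, hrf, hprod⟩ := exists_factor_family f hf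
  let Q := fun j => F[X] ⧸ Submodule.span F[X] {r j}
  haveI : ∀ j, Module.Finite F (Q j) := fun j => finite_quot (r j) (hr j).ne_zero
  let D : (∀ j, Q j) →ₗ[F] (∀ j, Q j) := LinearMap.pi fun j => mulX F (Q j) ∘ₗ LinearMap.proj j
  have hD : D.charpoly = f := by
    rw [charpoly_pi_fin m Q (fun j => mulX F (Q j)), ← hprod]
    exact Finset.prod_congr rfl (fun j _ => charpoly_mulX_quot (r j) (hrm j))
  have hfr : Module.finrank F (∀ j, Q j) = n := by
    rw [← LinearMap.charpoly_natDegree D, hD, hdeg]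
  let b := Module.finBasisOfFinrankEq F (∀ j, Q j) hfr
  have hexp : ∀ j, ∃ c : ℕ, 0 < c ∧ c.Coprime p ∧ ∀ q : Q j, (X ^ c : F[X]) • q = q := by
    intro j
    haveI : Fact (Irreducible (r j)) := ⟨hr j⟩
    haveI : Module.Finite F (AdjoinRoot (r j)) := finite_quot (r j) (hr j).ne_zero
    haveI : Finite (AdjoinRoot (r j)) := Module.finite_of_finite F
    haveI : Fintype (AdjoinRoot (r j)) := Fintype.ofFinite _
    haveI : CharP (AdjoinRoot (r j)) p :=
      charP_of_injective_algebraMap (algebraMap F (AdjoinRoot (r j))).injective p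
    obtain ⟨e, hp, hcard⟩ := FiniteField.card (AdjoinRoot (r j)) p
    have hroot : AdjoinRoot.root (r j) ≠ 0 := by
      intro h
      rw [← AdjoinRoot.mk_X, AdjoinRoot.mk_eq_zero] at h
      have h1 : Associated (r j) X := (hr j).associated_of_dvd Polynomial.irreducible_X h
      have h2 : X ∣ f := h1.symm.dvd.trans (hrf j)
      exact h0 (Polynomial.X_dvd_iff.mp h2)
    refine ⟨Fintype.card (AdjoinRoot (r j)) - 1, ?_, ?_, ?_⟩
    · have := Fintype.one_lt_card (α := AdjoinRoot (r j)); omega
    · rw [hcard]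
      have he : 0 < (e : ℕ) := e.pos
      have hdvd : p ∣ p ^ (e : ℕ) := dvd_pow_self p he.ne'
      rw [Nat.coprime_comm, Nat.Prime.coprime_iff_not_dvd hp]
      intro hd
      have h1 : 1 ≤ p ^ (e : ℕ) := Nat.one_le_pow _ _ hp.pos
      have h2 : p ∣ 1 := by
        have := Nat.dvd_sub hdvd hd
        rwa [Nat.sub_sub_self h1] at this
      exact hp.one_lt.ne' (Nat.dvd_one.mp h2)
    · intro q
      obtain ⟨s, rfl⟩ := AdjoinRoot.mk_surjective q
      show AdjoinRoot.mk (r j) (X ^ _ * s) = AdjoinRoot.mk (r j) s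
      rw [map_mul, map_pow, AdjoinRoot.mk_X, FiniteField.pow_card_sub_one_eq_one _ hroot, one_mul]
  choose c hc0 hcp hcq using hexp
  have hDpow : ∀ k (x : ∀ j, Q j), (D ^ k) x = fun j => (X ^ k : F[X]) • x j := by
    intro k
    induction k with
    | zero => intro x; simp
    | succ k ih =>
      intro x
      rw [pow_succ, Module.End.mul_apply, ih]
      funext j
      show (X ^ k : F[X]) • ((X : F[X]) • x j) = (X ^ (k + 1) : F[X]) • x j
      rw [pow_succ, mul_smul]
  have hct : ∀ (j : Fin m) (q : Q j) (t : ℕ), ((X ^ c j) ^ t : F[X]) • q = q := by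
    intro j q t
    induction t with
    | zero => simp
    | succ t iht => rw [pow_succ, mul_smul, hcq, iht]
  have hDN : D ^ (∏ j, c j) = 1 := by
    apply LinearMap.ext
    intro x
    rw [hDpow]
    funext j
    obtain ⟨t, ht⟩ : c j ∣ ∏ j, c j := Finset.dvd_prod_of_mem c (Finset.mem_univ j)
    rw [ht, pow_mul]
    exact hct j (x j) t
  refine ⟨LinearMap.toMatrixAlgEquiv b D, ?_, ∏ j, c j, ?_, ?_, ?_⟩
  · exact (LinearMap.charpoly_toMatrix D b).trans hD
  · exact Nat.Coprime.prod_left (fun j _ => hcp j)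
  · exact Finset.prod_pos (fun j _ => hc0 j)
  · rw [← map_pow, hDN, map_one]


theorem poly_eq_of_coeff_fin {F : Type u} [Field F] {n : ℕ} (f g : F[X]) (hf : f.Monic)
    (hg : g.Monic) (hfn : f.natDegree = n) (hgn : g.natDegree = n)
    (h : ∀ i : Fin n, f.coeff i = g.coeff i) : f = g := by
  ext i
  rcases lt_trichotomy i n with hi | hi | hi
  · exact h ⟨i, hi⟩
  · have h1 : f.coeff i = 1 := by rw [hi, ← hfn]; exact hf.coeff_natDegree
    have h2 : g.coeff i = 1 := by rw [hi, ← hgn]; exact hg.coeff_natDegree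
    rw [h1, h2]
  · rw [Polynomial.coeff_eq_zero_of_natDegree_lt (by omega),
      Polynomial.coeff_eq_zero_of_natDegree_lt (by omega)]

theorem exists_poly_of_coeffs {F : Type u} [Field F] {n : ℕ} (a : Fin n → F) :
    ∃ f : F[X], f.Monic ∧ f.natDegree = n ∧ ∀ i : Fin n, f.coeff i = a i := by
  set g := (Polynomial.degreeLTEquiv F n).symm a with hg
  have hdeg : (g : F[X]).degree < n := Polynomial.mem_degreeLT.mp g.2
  have hcoef : ∀ i : Fin n, (g : F[X]).coeff i = a i := by
    intro i
    have h1 : Polynomial.degreeLTEquiv F n g = a := by rw [hg, LinearEquiv.apply_symm_apply]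
    exact congrFun h1 i
  have hmon : (X ^ n + (g : F[X])).Monic := Polynomial.monic_X_pow_add hdeg
  refine ⟨X ^ n + (g : F[X]), hmon, ?_, ?_⟩
  · have h1 : (X ^ n + (g : F[X])).degree = ((n : ℕ) : WithBot ℕ) := by
      rw [Polynomial.degree_add_eq_left_of_degree_lt, Polynomial.degree_X_pow]
      rw [Polynomial.degree_X_pow]; exact hdeg
    exact Polynomial.natDegree_eq_of_degree_eq_some h1
  · intro i
    rw [Polynomial.coeff_add, Polynomial.coeff_X_pow, if_neg (by have := i.2; omega), zero_add,
      hcoef]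

theorem gl_conj_of_charpoly_eq {F : Type u} [Field F] [Fintype F] {p : ℕ} [Fact p.Prime]
    [CharP F p] {n : ℕ} (g h : GL (Fin n) F) (hg : (orderOf g).Coprime p)
    (hh : (orderOf h).Coprime p)
    (hc : (g : Matrix (Fin n) (Fin n) F).charpoly = (h : Matrix (Fin n) (Fin n) F).charpoly) :
    IsConj g h := by
  classical
  have hp : p.Prime := Fact.out
  have hkF : ∀ x : GL (Fin n) F, (orderOf x).Coprime p → ((orderOf x : ℕ) : F) ≠ 0 := by
    intro x hx h0
    have h1 : p ∣ orderOf x := (CharP.cast_eq_zero_iff F p _).mp h0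
    have h2 : p ∣ Nat.gcd (orderOf x) p := Nat.dvd_gcd h1 dvd_rfl
    rw [Nat.Coprime] at hx
    rw [hx] at h2
    exact hp.one_lt.ne' (Nat.dvd_one.mp h2)
  have hpow : ∀ x : GL (Fin n) F,
      (Matrix.toLinAlgEquiv' (x : Matrix (Fin n) (Fin n) F)) ^ (orderOf x) = 1 := by
    intro x
    rw [← map_pow, ← Units.val_pow_eq_pow_val, pow_orderOf_eq_one, Units.val_one, map_one]
  have hch : ∀ x : GL (Fin n) F,
      (Matrix.toLinAlgEquiv' (x : Matrix (Fin n) (Fin n) F)).charpoly =
        (x : Matrix (Fin n) (Fin n) F).charpoly := fun x => Matrix.charpoly_toLin' _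
  obtain ⟨E, hE⟩ := conj_of_charpoly_eq
    (Matrix.toLinAlgEquiv' (g : Matrix (Fin n) (Fin n) F))
    (Matrix.toLinAlgEquiv' (h : Matrix (Fin n) (Fin n) F)) (orderOf g) (orderOf h)
    (hkF g hg) (hkF h hh) (hpow g) (hpow h) (by rw [hch, hch, hc])
  set A : Matrix (Fin n) (Fin n) F :=
    Matrix.toLinAlgEquiv'.symm (E : (Fin n → F) →ₗ[F] (Fin n → F)) with hA
  have hAE : Matrix.toLinAlgEquiv' A = (E : (Fin n → F) →ₗ[F] (Fin n → F)) := by
    rw [hA, AlgEquiv.apply_symm_apply]
  have hAG : A * (g : Matrix (Fin n) (Fin n) F) = (h : Matrix (Fin n) (Fin n) F) * A := by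
    apply Matrix.toLinAlgEquiv'.injective
    rw [map_mul, map_mul, hAE]
    apply LinearMap.ext
    intro v
    exact hE v
  have hdetA : A.det ≠ 0 := by
    have h1 : LinearMap.det (Matrix.toLinAlgEquiv' A) = A.det := LinearMap.det_toLin' A
    rw [← h1, hAE]
    exact (LinearEquiv.isUnit_det' E).ne_zero
  rw [isConj_iff]
  refine ⟨Matrix.GeneralLinearGroup.mkOfDetNeZero A hdetA, ?_⟩
  rw [mul_inv_eq_iff_eq_mul]
  apply Units.ext
  rw [Units.val_mul, Units.val_mul]
  exact hAG


theorem card_fun_ne {F : Type u} [Fintype F] [DecidableEq F] [Zero F] (n' : ℕ) :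
    Fintype.card {a : Fin (n' + 1) → F // a 0 ≠ 0} =
      (Fintype.card F - 1) * (Fintype.card F) ^ n' := by
  classical
  rw [Fintype.card_subtype]
  have h1 : (Finset.univ.filter fun a : Fin (n' + 1) → F => a 0 ≠ 0) =
      Fintype.piFinset (fun i : Fin (n' + 1) =>
        if i = 0 then (Finset.univ.erase (0 : F)) else Finset.univ) := by
    ext a
    simp only [Finset.mem_filter, Finset.mem_univ, true_and, Fintype.mem_piFinset]
    constructor
    · intro h i
      by_cases hi : i = 0
      · subst hi; simp [h]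
      · simp [hi]
    · intro h
      have := h 0
      simpa using this
  rw [h1, Fintype.card_piFinset, Fin.prod_univ_succ]
  simp [Finset.card_erase_of_mem, Fin.succ_ne_zero]

theorem card_fun_eq {F : Type u} [Fintype F] [DecidableEq F] (n' : ℕ) (c : F) :
    Fintype.card {a : Fin (n' + 1) → F // a 0 = c} = (Fintype.card F) ^ n' := by
  classical
  rw [Fintype.card_subtype]
  have h1 : (Finset.univ.filter fun a : Fin (n' + 1) → F => a 0 = c) =
      Fintype.piFinset (fun i : Fin (n' + 1) =>
        if i = 0 then ({c} : Finset F) else Finset.univ) := by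
    ext a
    simp only [Finset.mem_filter, Finset.mem_univ, true_and, Fintype.mem_piFinset]
    constructor
    · intro h i
      by_cases hi : i = 0
      · subst hi; simp [h]
      · simp [hi]
    · intro h
      have := h 0
      simpa using this
  rw [h1, Fintype.card_piFinset, Fin.prod_univ_succ]
  simp [Fin.succ_ne_zero]

end Cfsg.Agent.Lib.Helper7_SemisimpleCount
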