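import Mathlib
import Cfsg.Agent.Lib.Helper7_SemisimpleCount
set_option autoImplicit false
open Polynomial

namespace Cfsg.Agent.Lib.Helper7_PrimeOrder

universe u

open Cfsg.Agent.Lib.Helper7_Semisimple Cfsg.Agent.Lib.Helper7_SemisimpleCount

theorem monic_irred_eq {F : Type u} [Field F] {a b : F[X]} (ha : Irreducible a)
    (hb : Irreducible b) (hma : a.Monic) (hmb : b.Monic) (h : a ∣ b) : a = b :=
  Polynomial.eq_of_monic_of_associated hma hmb (ha.associated_of_dvd hb h)

theorem exists_cyclo_family {F : Type u} [Field F] [Fintype F] {p q : ℕ} [Fact p.Prime] [CharP F p]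
    (hF : Fintype.card F = q) (r i t : ℕ) (hr : r.Prime) (hrp : r ≠ p)
    (hi : i = orderOf (q : ZMod r)) (ht : t * i = r - 1) :
    ∃ ψ : Fin (t + 1) → F[X], (∀ k, Irreducible (ψ k)) ∧ (∀ k, (ψ k).Monic) ∧
      Function.Injective ψ ∧ ψ 0 = X - 1 ∧ (∀ j : Fin t, (ψ j.succ).natDegree = i) ∧
      ∏ k, ψ k = X ^ r - 1 := by
  classical
  have hp : p.Prime := Fact.out
  haveI : Fact r.Prime := ⟨hr⟩
  obtain ⟨e, _, hcard⟩ := FiniteField.card F p
  have hcop : p.Coprime r := (Nat.coprime_primes hp hr).mpr (Ne.symm hrp)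
  have hK : Fintype.card F = p ^ (e : ℕ) := hcard
  have hrF : (r : F) ≠ 0 := by
    intro h0
    have h1 : p ∣ r := (CharP.cast_eq_zero_iff F p r).mp h0
    exact hrp ((Nat.prime_dvd_prime_iff_eq hp hr).mp h1).symm
  obtain ⟨m, φ, hφirr, hφmon, hφdvd, hφprod⟩ :=
    exists_factor_family (cyclotomic r F) (cyclotomic.monic r F)
  subst hF
  have hdeg : ∀ j, (φ j).natDegree = i := by
    intro j
    rw [natDegree_of_dvd_cyclotomic_of_irreducible hK hcop (hφdvd j) (hφirr j), hi,
      ← orderOf_units, ZMod.coe_unitOfCoprime, hK]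
  have hsum : m * i = r - 1 := by
    have h1 : (∏ j, φ j).natDegree = ∑ j, (φ j).natDegree :=
      Polynomial.natDegree_prod_of_monic _ _ (fun j _ => hφmon j)
    rw [hφprod, Polynomial.natDegree_cyclotomic, Nat.totient_prime hr] at h1
    rw [h1, Finset.sum_congr rfl (fun j _ => hdeg j), Finset.sum_const, Finset.card_univ,
      Fintype.card_fin, smul_eq_mul]
  have hipos : 0 < i := by
    rcases Nat.eq_zero_or_pos i with h | h
    · rw [h, mul_zero] at ht; have := hr.two_le; omega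
    · exact h
  have hmt : m = t := Nat.eq_of_mul_eq_mul_right hipos (hsum.trans ht.symm)
  subst hmt
  set ψ : Fin (m + 1) → F[X] := Fin.cons (X - 1) φ with hψ
  have hirr : ∀ k, Irreducible (ψ k) := by
    intro k
    refine Fin.cases ?_ (fun j => ?_) k
    · rw [hψ, Fin.cons_zero]
      have := Polynomial.irreducible_X_sub_C (1 : F)
      rwa [map_one] at this
    · rw [hψ, Fin.cons_succ]; exact hφirr j
  have hmon : ∀ k, (ψ k).Monic := by
    intro k
    refine Fin.cases ?_ (fun j => ?_) k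
    · rw [hψ, Fin.cons_zero]
      have := Polynomial.monic_X_sub_C (1 : F)
      rwa [map_one] at this
    · rw [hψ, Fin.cons_succ]; exact hφmon j
  have hprodψ : ∏ k, ψ k = X ^ r - 1 := by
    rw [Fin.prod_univ_succ]
    simp only [hψ, Fin.cons_zero, Fin.cons_succ]
    rw [hφprod, mul_comm, Polynomial.cyclotomic_prime_mul_X_sub_one]
  have hsq : Squarefree (X ^ r - 1 : F[X]) := by
    have := (Polynomial.separable_X_pow_sub_C (1 : F) hrF one_ne_zero).squarefree
    rwa [map_one] at this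
  refine ⟨ψ, hirr, hmon, ?_, rfl, ?_, hprodψ⟩
  · intro a b hab
    by_contra hne
    have h1 : ψ a * ψ b ∣ ∏ k, ψ k := by
      rw [← Finset.prod_pair hne]
      exact Finset.prod_dvd_prod_of_subset _ _ _ (Finset.subset_univ _)
    rw [hprodψ, ← hab] at h1
    exact (hirr a).not_isUnit (hsq _ h1)
  · intro j
    rw [hψ, Fin.cons_succ]; exact hdeg j

theorem exps_unique {F : Type u} [Field F] {m : ℕ} (ψ : Fin m → F[X])
    (hirr : ∀ k, Irreducible (ψ k)) (hmon : ∀ k, (ψ k).Monic) (hinj : Function.Injective ψ)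
    (b b' : Fin m → ℕ) (h : ∏ k, ψ k ^ b k = ∏ k, ψ k ^ b' k) : b = b' := by
  classical
  have key : ∀ (b b' : Fin m → ℕ), ∏ k, ψ k ^ b k = ∏ k, ψ k ^ b' k → ∀ k, b k ≤ b' k := by
    intro b b' h k
    have h1 : ψ k ^ b k ∣ ∏ x, ψ x ^ b' x := by
      rw [← h]; exact Finset.dvd_prod_of_mem _ (Finset.mem_univ k)
    rw [← Finset.mul_prod_erase Finset.univ _ (Finset.mem_univ k)] at h1
    have hcop : IsCoprime (ψ k ^ b k) (∏ x ∈ Finset.univ.erase k, ψ x ^ b' x) := by
      apply IsCoprime.pow_left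
      apply IsCoprime.prod_right
      intro x hx
      apply IsCoprime.pow_right
      rw [(hirr k).coprime_iff_not_dvd]
      intro hd
      have := monic_irred_eq (hirr k) (hirr x) (hmon k) (hmon x) hd
      exact (Finset.ne_of_mem_erase hx) (hinj this).symm
    have h2 := hcop.dvd_of_dvd_mul_right h1
    exact (pow_dvd_pow_iff (hirr k).ne_zero (hirr k).not_isUnit).mp h2
  funext k
  exact le_antisymm (key b b' h k) (key b' b h.symm k)

theorem exists_matrix_of_family {F : Type u} [Field F] {n m : ℕ} (s : Fin m → F[X])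
    (hs : ∀ j, Irreducible (s j)) (hsm : ∀ j, (s j).Monic) (c : ℕ) (hc : ∀ j, s j ∣ X ^ c - 1)
    (hdeg : (∏ j, s j).natDegree = n) :
    ∃ G : Matrix (Fin n) (Fin n) F, G.charpoly = ∏ j, s j ∧ G ^ c = 1 := by
  classical
  let Q := fun j => F[X] ⧸ Submodule.span F[X] {s j}
  haveI : ∀ j, Module.Finite F (Q j) := fun j => finite_quot (s j) (hs j).ne_zero
  let D : (∀ j, Q j) →ₗ[F] (∀ j, Q j) := LinearMap.pi fun j => mulX F (Q j) ∘ₗ LinearMap.proj j
  have hD : D.charpoly = ∏ j, s j := by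
    rw [charpoly_pi_fin m Q (fun j => mulX F (Q j))]
    exact Finset.prod_congr rfl (fun j _ => charpoly_mulX_quot (s j) (hsm j))
  have hfr : Module.finrank F (∀ j, Q j) = n := by
    rw [← LinearMap.charpoly_natDegree D, hD, hdeg]
  let b := Module.finBasisOfFinrankEq F (∀ j, Q j) hfr
  have hcq : ∀ j (q : Q j), (X ^ c : F[X]) • q = q := by
    intro j q
    obtain ⟨w, rfl⟩ := AdjoinRoot.mk_surjective q
    show AdjoinRoot.mk (s j) (X ^ c * w) = AdjoinRoot.mk (s j) w
    rw [AdjoinRoot.mk_eq_mk]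
    have : X ^ c * w - w = (X ^ c - 1) * w := by ring
    rw [this]
    exact Dvd.dvd.mul_right (hc j) w
  have hDpow : ∀ k (x : ∀ j, Q j), (D ^ k) x = fun j => (X ^ k : F[X]) • x j := by
    intro k
    induction k with
    | zero => intro x; simp
    | succ k ih =>
      intro x
      rw [pow_succ, Module.End.mul_apply, ih]
      funext j
      show (X ^ k : F[X]) • ((X : F[X]) • x j) = (X ^ (k + 1) : F[X]) • x j
      rw [pow_succ, mul_smul]
  have hDN : D ^ c = 1 := by
    apply LinearMap.ext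
    intro x
    rw [hDpow]
    funext j
    exact hcq j (x j)
  refine ⟨LinearMap.toMatrixAlgEquiv b D, ?_, ?_⟩
  · exact (LinearMap.charpoly_toMatrix D b).trans hD
  · rw [← map_pow, hDN, map_one]

theorem exists_matrix_of_poly {F : Type u} [Field F] {n : ℕ} (f : F[X]) (hf : f.Monic)
    (hdeg : f.natDegree = n) (c : ℕ)
    (hc : ∀ s : F[X], Irreducible s → s ∣ f → s ∣ X ^ c - 1) :
    ∃ G : Matrix (Fin n) (Fin n) F, G.charpoly = f ∧ G ^ c = 1 := by
  obtain ⟨m, s, hs, hsm, hsf, hprod⟩ := exists_factor_family f hf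
  obtain ⟨G, hG, hGc⟩ := exists_matrix_of_family s hs hsm c (fun j => hc _ (hs j) (hsf j))
    (by rw [hprod, hdeg])
  exact ⟨G, hG.trans hprod, hGc⟩

theorem charpoly_factor {F : Type u} [Field F] {n m : ℕ} (ψ : Fin m → F[X])
    (hirr : ∀ k, Irreducible (ψ k)) (hmon : ∀ k, (ψ k).Monic) (c : ℕ) (hcF : (c : F) ≠ 0)
    (hprod : ∏ k, ψ k = X ^ c - 1) (A : Matrix (Fin n) (Fin n) F) (hA : A ^ c = 1) :
    ∃ b : Fin m → ℕ, A.charpoly = ∏ k, ψ k ^ b k := by
  classical
  set T : (Fin n → F) →ₗ[F] (Fin n → F) := Matrix.toLinAlgEquiv' A with hT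
  have hTc : T ^ c = 1 := by rw [hT, ← map_pow, hA, map_one]
  obtain ⟨n', s, hs, hsm, E, hE⟩ := semisimple_decomp T c hcF hTc
  have hch : A.charpoly = ∏ l, s l := by
    have h1 : T.charpoly = A.charpoly := Matrix.charpoly_toLin' _
    rw [← h1]
    exact charpoly_of_decomp T s hs hsm E hE
  have hEpow : ∀ k v, E ((T ^ k) v) = (X ^ k : F[X]) • E v := by
    intro k
    induction k with
    | zero => intro v; simp
    | succ k ih =>
      intro v
      rw [pow_succ, Module.End.mul_apply, ih, hE, pow_succ, mul_smul]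
  have hdiv : ∀ l, s l ∣ X ^ c - 1 := by
    intro l
    let w : ∀ l, F[X] ⧸ Submodule.span F[X] {s l} := fun l => Submodule.Quotient.mk 1
    have h1 := hEpow c (E.symm w)
    rw [hTc, Module.End.one_apply, LinearEquiv.apply_symm_apply] at h1
    have h2 := congrFun h1 l
    have h3 : (AdjoinRoot.mk (s l)) 1 = AdjoinRoot.mk (s l) (X ^ c * 1) := h2
    rw [AdjoinRoot.mk_eq_mk] at h3
    have : (X ^ c - 1 : F[X]) = -(1 - X ^ c * 1) := by ring
    rw [this]; exact (dvd_neg).mpr h3
  have hk : ∀ l, ∃ k, s l = ψ k := by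
    intro l
    have h1 : s l ∣ ∏ k, ψ k := by rw [hprod]; exact hdiv l
    obtain ⟨k, _, hk⟩ := (Prime.dvd_finsetProd_iff (hs l).prime _).mp h1
    exact ⟨k, monic_irred_eq (hs l) (hirr k) (hsm l) (hmon k) hk⟩
  choose κ hκ using hk
  refine ⟨fun k => (Finset.univ.filter fun l => κ l = k).card, ?_⟩
  rw [hch, ← Finset.prod_fiberwise Finset.univ κ s]
  apply Finset.prod_congr rfl
  intro k _
  rw [← Finset.prod_const]
  apply Finset.prod_congr rfl
  intro l hl
  rw [hκ l, (Finset.mem_filter.mp hl).2]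

theorem card_tuples_le (t N : ℕ) :
    Nat.card {a : Fin t → ℕ // ∑ j, a j ≤ N} = Nat.choose (N + t) t := by
  classical
  have e : {a : Fin t → ℕ // ∑ j, a j ≤ N} ≃ {P : Fin (t + 1) → ℕ // ∑ k, P k = N} :=
    { toFun := fun a => ⟨Fin.cons (N - ∑ j, a.1 j) a.1, by
        rw [Fin.sum_univ_succ]
        simp only [Fin.cons_zero, Fin.cons_succ]
        have := a.2; omega⟩
      invFun := fun P => ⟨fun j => P.1 j.succ, by
        have := P.2; rw [Fin.sum_univ_succ] at this
        show ∑ j : Fin t, P.1 j.succ ≤ N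
        omega⟩
      left_inv := fun a => by apply Subtype.ext; funext j; simp
      right_inv := fun P => by
        apply Subtype.ext; funext k
        refine Fin.cases ?_ (fun j => ?_) k
        · have := P.2; rw [Fin.sum_univ_succ] at this
          show N - ∑ j : Fin t, P.1 j.succ = P.1 0
          omega
        · simp }
  rw [Nat.card_congr e, Nat.card_congr (Sym.equivNatSumOfFintype (Fin (t + 1)) N).symm,
    Nat.card_eq_fintype_card, Sym.card_sym_eq_choose, Fintype.card_fin]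
  have : t + 1 + N - 1 = N + t := by omega
  rw [this, Nat.choose_symm_add]

theorem card_tuples_ne (t N : ℕ) :
    Nat.card {a : Fin t → ℕ // a ≠ 0 ∧ ∑ j, a j ≤ N} = Nat.choose (N + t) t - 1 := by
  classical
  have h1 := card_tuples_le t N
  have hfin : Finite {a : Fin t → ℕ // ∑ j, a j ≤ N} := by
    apply Nat.finite_of_card_ne_zero
    rw [h1]
    exact (Nat.choose_pos (by omega)).ne'
  have hsfin : {a : Fin t → ℕ | ∑ j, a j ≤ N}.Finite := Set.finite_coe_iff.mp hfin
  have h2 : {a : Fin t → ℕ | a ≠ 0 ∧ ∑ j, a j ≤ N} = {a : Fin t → ℕ | ∑ j, a j ≤ N} \ {0} := by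
    ext a
    simp only [Set.mem_ofPred_eq, Set.mem_sdiff, Set.mem_singleton_iff]
    tauto
  have h3 : (0 : Fin t → ℕ) ∈ {a : Fin t → ℕ | ∑ j, a j ≤ N} := by
    simp
  have h4 := Set.ncard_sdiff_singleton_of_mem h3
  rw [← h2] at h4
  rw [← h1]
  exact (Nat.card_coe_set_eq _).trans (h4.trans (by rw [← Nat.card_coe_set_eq]; rfl))

end Cfsg.Agent.Lib.Helper7_PrimeOrder
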