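import Mathlib
import Cfsg.Agent.Lib.Helper7_PrimeOrder
set_option autoImplicit false
open Polynomial

namespace Cfsg.Agent.Lib.Helper7_PGLInv

universe u

open Cfsg.Agent.Lib.Helper7_Semisimple Cfsg.Agent.Lib.Helper7_SemisimpleCount
  Cfsg.Agent.Lib.Helper7_PrimeOrder

theorem charpoly_factor' {F : Type u} [Field F] {n m : ℕ} (ψ : Fin m → F[X])
    (hirr : ∀ j, Irreducible (ψ j)) (hmon : ∀ j, (ψ j).Monic) (k : ℕ) (hkF : (k : F) ≠ 0)
    (A : Matrix (Fin n) (Fin n) F) (hA : A ^ k = 1) (hψ : aeval A (∏ j, ψ j) = 0) :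
    ∃ b : Fin m → ℕ, A.charpoly = ∏ j, ψ j ^ b j := by
  classical
  set T : (Fin n → F) →ₗ[F] (Fin n → F) := Matrix.toLinAlgEquiv' A with hT
  have hTk : T ^ k = 1 := by rw [hT, ← map_pow, hA, map_one]
  obtain ⟨n', s, hs, hsm, E, hE⟩ := semisimple_decomp T k hkF hTk
  have hch : A.charpoly = ∏ l, s l := by
    have h1 : T.charpoly = A.charpoly := Matrix.charpoly_toLin' _
    rw [← h1]
    exact charpoly_of_decomp T s hs hsm E hE
  have hEpow : ∀ j v, E ((T ^ j) v) = (X ^ j : F[X]) • E v := by
    intro j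
    induction j with
    | zero => intro v; simp
    | succ j ih =>
      intro v
      rw [pow_succ, Module.End.mul_apply, ih, hE, pow_succ, mul_smul]
  have hEf : ∀ (f : F[X]) v, E ((aeval T f) v) = f • E v := by
    intro f
    induction f using Polynomial.induction_on' with
    | add p q hp hq =>
      intro v
      rw [map_add, LinearMap.add_apply, map_add, hp, hq]
      exact (add_smul p q _).symm
    | monomial j c =>
      intro v
      rw [Polynomial.aeval_monomial, Module.End.mul_apply, Module.algebraMap_end_apply, map_smul,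
        hEpow, ← Polynomial.C_mul_X_pow_eq_monomial, mul_smul]
      exact (algebraMap_smul F[X] c ((X ^ j : F[X]) • E v)).symm
  have hT0 : aeval T (∏ j, ψ j) = 0 := by
    rw [hT, Polynomial.aeval_algHom_apply, hψ, map_zero]
  have hdiv : ∀ l, s l ∣ ∏ j, ψ j := by
    intro l
    let w : ∀ l, F[X] ⧸ Submodule.span F[X] {s l} := fun l => Submodule.Quotient.mk 1
    have h1 := hEf (∏ j, ψ j) (E.symm w)
    rw [hT0, LinearMap.zero_apply, map_zero, LinearEquiv.apply_symm_apply] at h1
    have h2 := congrFun h1 l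
    have h3 : (AdjoinRoot.mk (s l)) 0 = AdjoinRoot.mk (s l) ((∏ j, ψ j) * 1) := h2
    rw [AdjoinRoot.mk_eq_mk, zero_sub, mul_one, dvd_neg] at h3
    exact h3
  have hk : ∀ l, ∃ j, s l = ψ j := by
    intro l
    obtain ⟨j, _, hj⟩ := (Prime.dvd_finsetProd_iff (hs l).prime _).mp (hdiv l)
    exact ⟨j, monic_irred_eq (hs l) (hirr j) (hsm l) (hmon j) hj⟩
  choose κ hκ using hk
  refine ⟨fun j => (Finset.univ.filter fun l => κ l = j).card, ?_⟩
  rw [hch, ← Finset.prod_fiberwise Finset.univ κ s]
  apply Finset.prod_congr rfl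
  intro j _
  rw [← Finset.prod_const]
  apply Finset.prod_congr rfl
  intro l hl
  rw [hκ l, (Finset.mem_filter.mp hl).2]

theorem exists_matrix_of_family' {F : Type u} [Field F] {n m : ℕ} (s : Fin m → F[X])
    (hs : ∀ j, Irreducible (s j)) (hsm : ∀ j, (s j).Monic) (h : F[X]) (hh : ∀ j, s j ∣ h)
    (hdeg : (∏ j, s j).natDegree = n) :
    ∃ G : Matrix (Fin n) (Fin n) F, G.charpoly = ∏ j, s j ∧ aeval G h = 0 := by
  classical
  let Q := fun j => F[X] ⧸ Submodule.span F[X] {s j}
  haveI : ∀ j, Module.Finite F (Q j) := fun j => finite_quot (s j) (hs j).ne_zero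
  let D : (∀ j, Q j) →ₗ[F] (∀ j, Q j) := LinearMap.pi fun j => mulX F (Q j) ∘ₗ LinearMap.proj j
  have hD : D.charpoly = ∏ j, s j := by
    rw [charpoly_pi_fin m Q (fun j => mulX F (Q j))]
    exact Finset.prod_congr rfl (fun j _ => charpoly_mulX_quot (s j) (hsm j))
  have hfr : Module.finrank F (∀ j, Q j) = n := by
    rw [← LinearMap.charpoly_natDegree D, hD, hdeg]
  let b := Module.finBasisOfFinrankEq F (∀ j, Q j) hfr
  have hDpow : ∀ k (x : ∀ j, Q j), (D ^ k) x = (X ^ k : F[X]) • x := by
    intro k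
    induction k with
    | zero => intro x; simp
    | succ k ih =>
      intro x
      rw [pow_succ, Module.End.mul_apply, ih]
      funext j
      show (X ^ k : F[X]) • ((X : F[X]) • x j) = (X ^ (k + 1) : F[X]) • x j
      rw [pow_succ, mul_smul]
  have hDf : ∀ (f : F[X]) (x : ∀ j, Q j), (aeval D f) x = f • x := by
    intro f
    induction f using Polynomial.induction_on' with
    | add p q hp hq =>
      intro x
      rw [map_add, LinearMap.add_apply, hp, hq]
      exact (add_smul p q _).symm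
    | monomial j c =>
      intro x
      rw [Polynomial.aeval_monomial, Module.End.mul_apply, Module.algebraMap_end_apply,
        hDpow, ← Polynomial.C_mul_X_pow_eq_monomial, mul_smul]
      exact (algebraMap_smul F[X] c ((X ^ j : F[X]) • x)).symm
  have hDh : aeval D h = 0 := by
    apply LinearMap.ext
    intro x
    rw [hDf, LinearMap.zero_apply]
    funext j
    show h • x j = 0
    obtain ⟨w, hw⟩ := AdjoinRoot.mk_surjective (x j)
    rw [← hw]
    show AdjoinRoot.mk (s j) (h * w) = 0
    rw [AdjoinRoot.mk_eq_zero]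
    exact Dvd.dvd.mul_right (hh j) w
  refine ⟨LinearMap.toMatrixAlgEquiv b D, ?_, ?_⟩
  · exact (LinearMap.charpoly_toMatrix D b).trans hD
  · rw [Polynomial.aeval_algHom_apply, hDh, map_zero]

/-! ### diagonal ±1 matrices -/

noncomputable def dv {F : Type u} [Field F] (a b : F) (n s : ℕ) : Fin n → F :=
  fun k => if (k : ℕ) < s then a else b

theorem charpoly_diag_dv {F : Type u} [Field F] (a b : F) (n s : ℕ) (hs : s ≤ n) :
    (Matrix.diagonal (dv a b n s)).charpoly = (X - C a) ^ s * (X - C b) ^ (n - s) := by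
  classical
  rw [Matrix.charpoly_diagonal]
  have h1 : ∀ k : Fin n, (X - C (dv a b n s k) : F[X]) =
      if (k : ℕ) < s then X - C a else X - C b := by
    intro k
    unfold dv
    split_ifs <;> rfl
  rw [Finset.prod_congr rfl (fun k _ => h1 k), Finset.prod_ite, Finset.prod_const,
    Finset.prod_const, Fin.card_filter_val_lt, min_eq_right hs]
  congr 2
  have h := Finset.card_filter_add_card_filter_not (s := (Finset.univ : Finset (Fin n)))
    (fun k : Fin n => (k : ℕ) < s)
  rw [Fin.card_filter_val_lt, min_eq_right hs, Finset.card_univ, Fintype.card_fin] at h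
  omega

noncomputable def Dg (F : Type u) [Field F] (n s : ℕ) : GL (Fin n) F :=
  ⟨Matrix.diagonal (dv (-1 : F) 1 n s), Matrix.diagonal (dv (-1 : F) 1 n s),
    by
      rw [Matrix.diagonal_mul_diagonal, ← Matrix.diagonal_one]
      congr 1
      funext k
      unfold dv
      split_ifs <;> simp,
    by
      rw [Matrix.diagonal_mul_diagonal, ← Matrix.diagonal_one]
      congr 1
      funext k
      unfold dv
      split_ifs <;> simp⟩

theorem Dg_val (F : Type u) [Field F] (n s : ℕ) :
    ((Dg F n s : GL (Fin n) F) : Matrix (Fin n) (Fin n) F) =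
      Matrix.diagonal (dv (-1 : F) 1 n s) := rfl

theorem Dg_sq (F : Type u) [Field F] (n s : ℕ) : Dg F n s * Dg F n s = 1 :=
  Units.ext (Dg F n s).val_inv

theorem charpoly_Dg (F : Type u) [Field F] (n s : ℕ) (hs : s ≤ n) :
    ((Dg F n s : GL (Fin n) F) : Matrix (Fin n) (Fin n) F).charpoly =
      (X + 1) ^ s * (X - 1) ^ (n - s) := by
  rw [Dg_val, charpoly_diag_dv _ _ _ _ hs, map_neg, map_one, sub_neg_eq_add]

theorem charpoly_neg_Dg (F : Type u) [Field F] (n s : ℕ) (hs : s ≤ n) :
    ((-(Dg F n s) : GL (Fin n) F) : Matrix (Fin n) (Fin n) F).charpoly =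
      (X - 1) ^ s * (X + 1) ^ (n - s) := by
  have h1 : ((-(Dg F n s) : GL (Fin n) F) : Matrix (Fin n) (Fin n) F) =
      Matrix.diagonal (dv (1 : F) (-1) n s) := by
    rw [Units.val_neg, Dg_val, Matrix.diagonal_neg]
    congr 1
    funext k
    unfold dv
    split_ifs <;> simp
  rw [h1, charpoly_diag_dv _ _ _ _ hs, map_neg, map_one, sub_neg_eq_add]

theorem Dg_zero (F : Type u) [Field F] (n : ℕ) : Dg F n 0 = 1 := by
  apply Units.ext
  rw [Dg_val, Units.val_one, ← Matrix.diagonal_one]
  congr 1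

theorem Dg_full (F : Type u) [Field F] (n : ℕ) : Dg F n n = -1 := by
  apply Units.ext
  rw [Dg_val, Units.val_neg, Units.val_one, ← Matrix.diagonal_one, Matrix.diagonal_neg]
  congr 1
  funext k
  unfold dv
  rw [if_pos k.2]

end Cfsg.Agent.Lib.Helper7_PGLInv
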