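import Mathlib
import Cfsg.Agent.Lib.Helper7_PGLInv
set_option autoImplicit false
open Polynomial

namespace Cfsg.Agent.Lib.Helper7_PGLInvB

universe u

open Cfsg.Agent.Lib.Helper7_Semisimple Cfsg.Agent.Lib.Helper7_SemisimpleCount
  Cfsg.Agent.Lib.Helper7_PrimeOrder Cfsg.Agent.Lib.Helper7_PGLInv

section

variable {F : Type u} [Field F] [Fintype F] {p : ℕ} [Fact p.Prime] [CharP F p]

theorem two_ne_zero_F (hp2 : p ≠ 2) : (2 : F) ≠ 0 := by
  have hp : p.Prime := Fact.out
  intro h0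
  have h1 : ((2 : ℕ) : F) = 0 := by exact_mod_cast h0
  have h2 : p ∣ 2 := (CharP.cast_eq_zero_iff F p 2).mp h1
  exact hp2 ((Nat.prime_dvd_prime_iff_eq hp Nat.prime_two).mp h2)

theorem neg_one_ne_one_F (hp2 : p ≠ 2) : (-1 : F) ≠ 1 := by
  intro h
  apply two_ne_zero_F (F := F) hp2
  linear_combination (-1 : F) * h

theorem coprime_two_p (hp2 : p ≠ 2) : Nat.Coprime 2 p := by
  have hp : p.Prime := Fact.out
  exact (Nat.coprime_primes Nat.prime_two hp).mpr (Ne.symm hp2)

theorem p_dvd_card : p ∣ Fintype.card F :=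
  (CharP.cast_eq_zero_iff F p _).mp (FiniteField.cast_card_eq_zero F)

theorem coprime_card_sub_one : Nat.Coprime (Fintype.card F - 1) p := by
  have hp : p.Prime := Fact.out
  rw [Nat.coprime_comm, Nat.Prime.coprime_iff_not_dvd hp]
  intro hd
  have h1 : 1 ≤ Fintype.card F := Fintype.card_pos
  have h2 : p ∣ Fintype.card F - (Fintype.card F - 1) := Nat.dvd_sub (p_dvd_card (F := F)) hd
  rw [Nat.sub_sub_self h1] at h2
  exact hp.one_lt.ne' (Nat.dvd_one.mp h2)

theorem cast_card_sub_one : ((Fintype.card F - 1 : ℕ) : F) = -1 := by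
  have h1 : 1 ≤ Fintype.card F := Fintype.card_pos
  rw [Nat.cast_sub h1, FiniteField.cast_card_eq_zero, Nat.cast_one, zero_sub]

/-- the two linear factors -/
noncomputable def ψpm (F : Type u) [Field F] : Fin 2 → F[X] := ![X + 1, X - 1]

theorem ψpm_zero : ψpm F 0 = X + 1 := rfl
theorem ψpm_one : ψpm F 1 = X - 1 := rfl

theorem ψpm_irr : ∀ j, Irreducible (ψpm F j) := by
  intro j
  fin_cases j
  · show Irreducible (X + 1 : F[X])
    have := Polynomial.irreducible_X_sub_C (-1 : F)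
    rwa [map_neg, map_one, sub_neg_eq_add] at this
  · show Irreducible (X - 1 : F[X])
    have := Polynomial.irreducible_X_sub_C (1 : F)
    rwa [map_one] at this

theorem ψpm_monic : ∀ j, (ψpm F j).Monic := by
  intro j
  fin_cases j
  · show (X + 1 : F[X]).Monic
    have := Polynomial.monic_X_add_C (1 : F)
    rwa [map_one] at this
  · show (X - 1 : F[X]).Monic
    have := Polynomial.monic_X_sub_C (1 : F)
    rwa [map_one] at this

theorem ψpm_inj (hp2 : p ≠ 2) : Function.Injective (ψpm F) := by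
  have hne : (X + 1 : F[X]) ≠ X - 1 := by
    intro h
    have h1 := congrArg (Polynomial.eval 0) h
    simp at h1
    exact neg_one_ne_one_F (F := F) hp2 h1.symm
  intro a b hab
  fin_cases a <;> fin_cases b
  · rfl
  · exact absurd hab hne
  · exact absurd hab.symm hne
  · rfl

theorem ψpm_prod (b : Fin 2 → ℕ) : ∏ j, ψpm F j ^ b j = (X + 1) ^ b 0 * (X - 1) ^ b 1 := by
  rw [Fin.prod_univ_two]; rfl

theorem natDegree_pm (a b : ℕ) : ((X + 1 : F[X]) ^ a * (X - 1) ^ b).natDegree = a + b := by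
  have h1 : (X + 1 : F[X]).Monic := ψpm_monic (F := F) 0
  have h2 : (X - 1 : F[X]).Monic := ψpm_monic (F := F) 1
  have d1 : (X + 1 : F[X]).natDegree = 1 := by
    have := Polynomial.natDegree_X_add_C (1 : F); rwa [map_one] at this
  have d2 : (X - 1 : F[X]).natDegree = 1 := by
    have := Polynomial.natDegree_X_sub_C (1 : F); rwa [map_one] at this
  rw [(h1.pow a).natDegree_mul (h2.pow b), h1.natDegree_pow, h2.natDegree_pow, d1, d2, mul_one,
    mul_one]

theorem orderOf_coprime_of_sq (hp2 : p ≠ 2) {n : ℕ} (h : GL (Fin n) F) (hh : h * h = 1) :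
    (orderOf h).Coprime p := by
  have h1 : orderOf h ∣ 2 := orderOf_dvd_of_pow_eq_one (by rw [pow_two, hh])
  exact Nat.Coprime.coprime_dvd_left h1 (coprime_two_p hp2)

theorem invol_conj (hp2 : p ≠ 2) {n : ℕ} (h : GL (Fin n) F) (hh : h * h = 1) :
    ∃ i, i ≤ n ∧ IsConj h (Dg F n i) := by
  classical
  have hA2 : (h : Matrix (Fin n) (Fin n) F) ^ 2 = 1 := by
    rw [← Units.val_pow_eq_pow_val, pow_two, hh, Units.val_one]
  have hψ : aeval (h : Matrix (Fin n) (Fin n) F) (∏ j, ψpm F j) = 0 := by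
    have : ∏ j, ψpm F j = X ^ 2 - 1 := by
      rw [Fin.prod_univ_two, ψpm_zero, ψpm_one]; ring
    rw [this, map_sub, map_pow, aeval_X, map_one, hA2, sub_self]
  obtain ⟨b, hb⟩ := charpoly_factor' (ψpm F) ψpm_irr ψpm_monic 2
    (by exact_mod_cast two_ne_zero_F (F := F) hp2) _ hA2 hψ
  rw [ψpm_prod] at hb
  have hdeg : n = b 0 + b 1 := by
    have := congrArg Polynomial.natDegree hb
    rw [Matrix.charpoly_natDegree_eq_dim, Fintype.card_fin, natDegree_pm] at this
    exact this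
  refine ⟨b 0, by omega, ?_⟩
  apply gl_conj_of_charpoly_eq (p := p) _ _ (orderOf_coprime_of_sq hp2 h hh)
    (orderOf_coprime_of_sq hp2 _ (Dg_sq F n (b 0)))
  rw [hb, charpoly_Dg F n (b 0) (by omega)]
  congr 2
  omega

/-! ### nonsquare case -/

noncomputable def psiC (c : F) : F[X] := X ^ 2 - C c

theorem psiC_monic (c : F) : (psiC c).Monic := Polynomial.monic_X_pow_sub_C c two_ne_zero

theorem psiC_natDegree (c : F) : (psiC c).natDegree = 2 :=
  Polynomial.natDegree_X_pow_sub_C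

theorem psiC_irr (c : F) (hc : ¬ IsSquare c) : Irreducible (psiC c) := by
  apply Polynomial.irreducible_of_degree_le_three_of_not_isRoot
  · rw [psiC_natDegree]; decide
  · intro x hx
    apply hc
    unfold psiC at hx
    rw [Polynomial.IsRoot.def, eval_sub, eval_pow, eval_X, eval_C, sub_eq_zero] at hx
    exact ⟨x, by rw [← hx, pow_two]⟩

theorem nonsq_pow_eq_one (hp2 : p ≠ 2) {n : ℕ} (g : GL (Fin n) F) (c : F) (hc0 : c ≠ 0)
    (hg : (g : Matrix (Fin n) (Fin n) F) ^ 2 = c • 1) :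
    (g : Matrix (Fin n) (Fin n) F) ^ (2 * (Fintype.card F - 1)) = 1 := by
  rw [pow_mul, hg, _root_.smul_pow, one_pow, FiniteField.pow_card_sub_one_eq_one c hc0, one_smul]

theorem nonsq_charpoly (hp2 : p ≠ 2) {n : ℕ} (g : GL (Fin n) F) (c : F) (hc : ¬ IsSquare c)
    (hg : (g : Matrix (Fin n) (Fin n) F) ^ 2 = c • 1) :
    ∃ b : ℕ, (g : Matrix (Fin n) (Fin n) F).charpoly = psiC c ^ b ∧ 2 * b = n := by
  classical
  have hc0 : c ≠ 0 := by
    rintro rfl
    exact hc ⟨0, by simp⟩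
  have hk : ((2 * (Fintype.card F - 1) : ℕ) : F) ≠ 0 := by
    rw [Nat.cast_mul, cast_card_sub_one]
    have := two_ne_zero_F (F := F) hp2
    simpa using this
  have hψ : aeval (g : Matrix (Fin n) (Fin n) F) (∏ _j : Fin 1, psiC c) = 0 := by
    rw [Finset.prod_const, Finset.card_univ, Fintype.card_fin, pow_one]
    unfold psiC
    rw [map_sub, map_pow, aeval_X, aeval_C, hg, Algebra.algebraMap_eq_smul_one, sub_self]
  obtain ⟨b, hb⟩ := charpoly_factor' (fun _ : Fin 1 => psiC c) (fun _ => psiC_irr c hc)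
    (fun _ => psiC_monic c) _ hk _ (nonsq_pow_eq_one hp2 g c hc0 hg) hψ
  rw [Fin.prod_univ_one] at hb
  refine ⟨b 0, hb, ?_⟩
  have := congrArg Polynomial.natDegree hb
  rw [Matrix.charpoly_natDegree_eq_dim, Fintype.card_fin, (psiC_monic c).natDegree_pow,
    psiC_natDegree] at this
  omega

theorem nonsq_orderOf_coprime (hp2 : p ≠ 2) {n : ℕ} (g : GL (Fin n) F) (c : F) (hc0 : c ≠ 0)
    (hg : (g : Matrix (Fin n) (Fin n) F) ^ 2 = c • 1) : (orderOf g).Coprime p := by
  have h1 : g ^ (2 * (Fintype.card F - 1)) = 1 := by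
    apply Units.ext
    rw [Units.val_pow_eq_pow_val, nonsq_pow_eq_one hp2 g c hc0 hg, Units.val_one]
  have h2 : orderOf g ∣ 2 * (Fintype.card F - 1) := orderOf_dvd_of_pow_eq_one h1
  exact Nat.Coprime.coprime_dvd_left h2
    (Nat.Coprime.mul_left (coprime_two_p hp2) (coprime_card_sub_one (F := F)))

theorem nonsq_conj (hp2 : p ≠ 2) {n : ℕ} (g g' : GL (Fin n) F) (c : F) (hc : ¬ IsSquare c)
    (hg : (g : Matrix (Fin n) (Fin n) F) ^ 2 = c • 1)
    (hg' : (g' : Matrix (Fin n) (Fin n) F) ^ 2 = c • 1) : IsConj g g' := by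
  have hc0 : c ≠ 0 := by
    rintro rfl
    exact hc ⟨0, by simp⟩
  obtain ⟨b, hb, hbn⟩ := nonsq_charpoly hp2 g c hc hg
  obtain ⟨b', hb', hbn'⟩ := nonsq_charpoly hp2 g' c hc hg'
  apply gl_conj_of_charpoly_eq (p := p) _ _ (nonsq_orderOf_coprime hp2 g c hc0 hg)
    (nonsq_orderOf_coprime hp2 g' c hc0 hg')
  rw [hb, hb']
  congr 1
  omega

theorem exists_nonsq_elt {n : ℕ} (hn : Even n) (c : F) (hc : ¬ IsSquare c) :
    ∃ g : GL (Fin n) F, (g : Matrix (Fin n) (Fin n) F) ^ 2 = c • 1 := by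
  classical
  have hc0 : c ≠ 0 := by
    rintro rfl
    exact hc ⟨0, by simp⟩
  obtain ⟨m, hm⟩ := hn
  have hdeg : (∏ _j : Fin m, psiC c).natDegree = n := by
    rw [Finset.prod_const, Finset.card_univ, Fintype.card_fin, (psiC_monic c).natDegree_pow,
      psiC_natDegree]
    omega
  obtain ⟨G, _, hG⟩ := exists_matrix_of_family' (fun _ : Fin m => psiC c)
    (fun _ => psiC_irr c hc) (fun _ => psiC_monic c) (psiC c) (fun _ => dvd_rfl) hdeg
  unfold psiC at hG
  rw [map_sub, map_pow, aeval_X, aeval_C, Algebra.algebraMap_eq_smul_one, sub_eq_zero] at hG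
  have hinv : G * (c⁻¹ • G) = 1 := by
    rw [Matrix.mul_smul, ← pow_two, hG, smul_smul, inv_mul_cancel₀ hc0, one_smul]
  have hinv' : (c⁻¹ • G) * G = 1 := by
    rw [Matrix.smul_mul, ← pow_two, hG, smul_smul, inv_mul_cancel₀ hc0, one_smul]
  exact ⟨⟨G, c⁻¹ • G, hinv, hinv'⟩, hG⟩

end

end Cfsg.Agent.Lib.Helper7_PGLInvB
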