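import Mathlib
import Cfsg.Agent.Lib.Helper7_PGLInvB
set_option autoImplicit false
open Polynomial

namespace Cfsg.Agent.Lib.Helper7_PGLInvC

universe u

open Cfsg.Agent.Lib.Helper7_Semisimple Cfsg.Agent.Lib.Helper7_SemisimpleCount
  Cfsg.Agent.Lib.Helper7_PrimeOrder Cfsg.Agent.Lib.Helper7_PGLInv Cfsg.Agent.Lib.Helper7_PGLInvB

abbrev PGL (F : Type u) [Field F] (n : ℕ) : Type u :=
  GL (Fin n) F ⧸ Subgroup.center (GL (Fin n) F)

section

variable {F : Type u} [Field F]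

theorem scalar_eq {n : ℕ} (c : F) :
    Matrix.scalar (Fin n) c = c • (1 : Matrix (Fin n) (Fin n) F) := by
  rw [Matrix.scalar_apply, Matrix.smul_one_eq_diagonal]

theorem smul_one_inj {n : ℕ} (hn : 1 ≤ n) {c c' : F}
    (h : c • (1 : Matrix (Fin n) (Fin n) F) = c' • 1) : c = c' := by
  have := congrFun (congrFun h ⟨0, by omega⟩) ⟨0, by omega⟩
  simpa using this

theorem mk_eq_of_smul {n : ℕ} (g g' : GL (Fin n) F) (ζ : F)
    (h : (g' : Matrix (Fin n) (Fin n) F) = ζ • (g : Matrix (Fin n) (Fin n) F)) :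
    (QuotientGroup.mk g' : PGL F n) = QuotientGroup.mk g := by
  rw [eq_comm, QuotientGroup.eq, Matrix.GeneralLinearGroup.mem_center_iff_val_mem_range_scalar]
  refine ⟨ζ, ?_⟩
  rw [Units.val_mul, h, Matrix.mul_smul, ← Units.val_mul, inv_mul_cancel, Units.val_one, scalar_eq]

theorem smul_of_mk_eq {n : ℕ} (g g' : GL (Fin n) F)
    (h : (QuotientGroup.mk g' : PGL F n) = QuotientGroup.mk g) :
    ∃ ζ : F, (g' : Matrix (Fin n) (Fin n) F) = ζ • (g : Matrix (Fin n) (Fin n) F) := by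
  rw [eq_comm, QuotientGroup.eq, Matrix.GeneralLinearGroup.mem_center_iff_val_mem_range_scalar] at h
  obtain ⟨ζ, hζ⟩ := h
  refine ⟨ζ, ?_⟩
  have h1 : g' = g * (g⁻¹ * g') := by group
  calc (g' : Matrix (Fin n) (Fin n) F) = ((g * (g⁻¹ * g') : GL (Fin n) F) :
        Matrix (Fin n) (Fin n) F) := by rw [← h1]
    _ = ζ • (g : Matrix (Fin n) (Fin n) F) := by
      rw [Units.val_mul, ← hζ, scalar_eq, Matrix.mul_smul, mul_one]

theorem pgl_order_two_iff {n : ℕ} (g : GL (Fin n) F) :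
    orderOf (QuotientGroup.mk g : PGL F n) = 2 ↔
      (∃ c : F, (g : Matrix (Fin n) (Fin n) F) ^ 2 = c • 1) ∧
        ¬ ∃ z : F, (g : Matrix (Fin n) (Fin n) F) = z • 1 := by
  haveI : Fact (Nat.Prime 2) := ⟨Nat.prime_two⟩
  rw [orderOf_eq_prime_iff]
  have e1 : (QuotientGroup.mk g : PGL F n) ^ 2 = 1 ↔
      ∃ c : F, (g : Matrix (Fin n) (Fin n) F) ^ 2 = c • 1 := by
    rw [← QuotientGroup.mk_pow, QuotientGroup.eq_one_iff,
      Matrix.GeneralLinearGroup.mem_center_iff_val_mem_range_scalar, Units.val_pow_eq_pow_val]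
    constructor
    · rintro ⟨c, hc⟩; exact ⟨c, by rw [← hc, scalar_eq]⟩
    · rintro ⟨c, hc⟩; exact ⟨c, by rw [hc, scalar_eq]⟩
  have e2 : (QuotientGroup.mk g : PGL F n) = 1 ↔
      ∃ z : F, (g : Matrix (Fin n) (Fin n) F) = z • 1 := by
    rw [QuotientGroup.eq_one_iff, Matrix.GeneralLinearGroup.mem_center_iff_val_mem_range_scalar]
    constructor
    · rintro ⟨c, hc⟩; exact ⟨c, by rw [← hc, scalar_eq]⟩
    · rintro ⟨c, hc⟩; exact ⟨c, by rw [hc, scalar_eq]⟩
  rw [e1, Ne, e2]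

theorem pgl_conj_lift {n : ℕ} (g g' : GL (Fin n) F)
    (h : IsConj (QuotientGroup.mk g : PGL F n) (QuotientGroup.mk g')) :
    ∃ (x : GL (Fin n) F) (ζ : F), ((x * g * x⁻¹ : GL (Fin n) F) : Matrix (Fin n) (Fin n) F) =
      ζ • (g' : Matrix (Fin n) (Fin n) F) := by
  obtain ⟨c, hc⟩ := isConj_iff.mp h
  obtain ⟨x, rfl⟩ := QuotientGroup.mk_surjective c
  have h1 : (QuotientGroup.mk (x * g * x⁻¹) : PGL F n) = QuotientGroup.mk g' := by
    rw [← hc]; rfl
  obtain ⟨ζ, hζ⟩ := smul_of_mk_eq g' (x * g * x⁻¹) h1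
  exact ⟨x, ζ, hζ⟩

theorem conj_sq_smul {n : ℕ} (x g : GL (Fin n) F) (γ : F)
    (hg : (g : Matrix (Fin n) (Fin n) F) ^ 2 = γ • 1) :
    ((x * g * x⁻¹ : GL (Fin n) F) : Matrix (Fin n) (Fin n) F) ^ 2 = γ • 1 := by
  rw [← Units.val_pow_eq_pow_val, conj_pow, Units.val_mul, Units.val_mul,
    Units.val_pow_eq_pow_val, hg, Matrix.mul_smul, Matrix.smul_mul, mul_one, ← Units.val_mul,
    mul_inv_cancel, Units.val_one]

theorem pgl_conj_of_conj {n : ℕ} {g g' : GL (Fin n) F} (h : IsConj g g') :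
    IsConj (QuotientGroup.mk g : PGL F n) (QuotientGroup.mk g') :=
  (QuotientGroup.mk' (Subgroup.center (GL (Fin n) F))).map_isConj h

theorem conj_central {n : ℕ} {h z : GL (Fin n) F} (hc : IsConj h z)
    (hz : z ∈ Subgroup.center (GL (Fin n) F)) : h = z := by
  obtain ⟨x, hx⟩ := isConj_iff.mp hc
  have h1 := Subgroup.mem_center_iff.mp hz x
  have h2 : h = x⁻¹ * z * x := by rw [← hx]; group
  rw [h2, mul_assoc, ← h1, ← mul_assoc, inv_mul_cancel, one_mul]

theorem neg_one_mem_center {n : ℕ} : (-1 : GL (Fin n) F) ∈ Subgroup.center (GL (Fin n) F) := by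
  rw [Subgroup.mem_center_iff]
  intro g
  rw [mul_neg_one, neg_one_mul]

noncomputable def smulUnit {n : ℕ} (ζ : F) (hζ : ζ ≠ 0) (g : GL (Fin n) F) : GL (Fin n) F :=
  ⟨ζ • (g : Matrix (Fin n) (Fin n) F), ζ⁻¹ • ((g⁻¹ : GL (Fin n) F) : Matrix (Fin n) (Fin n) F),
    by rw [Matrix.smul_mul, Matrix.mul_smul, smul_smul, mul_inv_cancel₀ hζ, one_smul,
      ← Units.val_mul, mul_inv_cancel, Units.val_one],
    by rw [Matrix.smul_mul, Matrix.mul_smul, smul_smul, inv_mul_cancel₀ hζ, one_smul,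
      ← Units.val_mul, inv_mul_cancel, Units.val_one]⟩

theorem smulUnit_val {n : ℕ} (ζ : F) (hζ : ζ ≠ 0) (g : GL (Fin n) F) :
    ((smulUnit ζ hζ g : GL (Fin n) F) : Matrix (Fin n) (Fin n) F) =
      ζ • (g : Matrix (Fin n) (Fin n) F) := rfl

theorem smulUnit_sq {n : ℕ} (ζ : F) (hζ : ζ ≠ 0) (g : GL (Fin n) F) (c : F)
    (hg : (g : Matrix (Fin n) (Fin n) F) ^ 2 = c • 1) :
    ((smulUnit ζ hζ g : GL (Fin n) F) : Matrix (Fin n) (Fin n) F) ^ 2 = (ζ * ζ * c) • 1 := by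
  rw [smulUnit_val, _root_.smul_pow, hg, smul_smul, pow_two]

/-- representatives -/
def IsRep (c₀ : F) (n j : ℕ) (g : GL (Fin n) F) : Prop :=
  (1 ≤ j ∧ g = Dg F n j) ∨ (j = 0 ∧ (g : Matrix (Fin n) (Fin n) F) ^ 2 = c₀ • 1)

def InJ (n j : ℕ) : Prop := (1 ≤ j ∧ j ≤ n / 2) ∨ (j = 0 ∧ Even n)

theorem isRep_sq {c₀ : F} {n j : ℕ} {g : GL (Fin n) F} (h : IsRep c₀ n j g) :
    (g : Matrix (Fin n) (Fin n) F) ^ 2 = (if j = 0 then c₀ else 1) • 1 := by
  rcases h with ⟨h1, rfl⟩ | ⟨h0, hg⟩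
  · rw [if_neg (by omega), one_smul, ← Units.val_pow_eq_pow_val, pow_two, Dg_sq, Units.val_one]
  · rw [if_pos h0, hg]

end

section

variable {F : Type u} [Field F] [Fintype F] {p : ℕ} [Fact p.Prime] [CharP F p]

theorem R0 {n j : ℕ} (c₀ : F) (hc₀ : ¬ IsSquare c₀) (hj : InJ n j) :
    ∃ g : GL (Fin n) F, IsRep c₀ n j g := by
  rcases hj with ⟨h1, _⟩ | ⟨h0, he⟩
  · exact ⟨Dg F n j, Or.inl ⟨h1, rfl⟩⟩
  · obtain ⟨g, hg⟩ := exists_nonsq_elt he c₀ hc₀
    exact ⟨g, Or.inr ⟨h0, hg⟩⟩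

theorem R1 (hp2 : p ≠ 2) {n j : ℕ} (hn : 2 ≤ n) (c₀ : F) (hc₀ : ¬ IsSquare c₀)
    {g : GL (Fin n) F} (hg : IsRep c₀ n j g) (hj : InJ n j) :
    orderOf (QuotientGroup.mk g : PGL F n) = 2 := by
  rw [pgl_order_two_iff]
  refine ⟨⟨_, isRep_sq hg⟩, ?_⟩
  rintro ⟨z, hz⟩
  rcases hg with ⟨h1, rfl⟩ | ⟨h0, hg2⟩
  · have hjn : j ≤ n / 2 := by
      rcases hj with ⟨_, h⟩ | ⟨h, _⟩
      · exact h
      · omega
    rw [Dg_val] at hz
    have e0 := congrFun (congrFun hz ⟨0, by omega⟩) ⟨0, by omega⟩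
    have e1 := congrFun (congrFun hz ⟨n - 1, by omega⟩) ⟨n - 1, by omega⟩
    rw [Matrix.diagonal_apply_eq, Matrix.smul_apply, Matrix.one_apply_eq, smul_eq_mul,
      mul_one] at e0 e1
    unfold dv at e0 e1
    rw [if_pos (by show 0 < j; omega)] at e0
    rw [if_neg (by show ¬ (n - 1 < j); omega)] at e1
    exact neg_one_ne_one_F (F := F) hp2 (e0.trans e1.symm)
  · rw [hz, _root_.smul_pow, one_pow] at hg2
    have := smul_one_inj (by omega) hg2
    exact hc₀ ⟨z, by rw [← this, pow_two]⟩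

theorem R2 (hp2 : p ≠ 2) {n j : ℕ} (c₀ : F) (hc₀ : ¬ IsSquare c₀) {g g' : GL (Fin n) F}
    (hg : IsRep c₀ n j g) (hg' : IsRep c₀ n j g') :
    IsConj (QuotientGroup.mk g : PGL F n) (QuotientGroup.mk g') := by
  rcases hg with ⟨h1, rfl⟩ | ⟨h0, hg2⟩
  · rcases hg' with ⟨_, rfl⟩ | ⟨h0', _⟩
    · exact IsConj.refl _
    · omega
  · rcases hg' with ⟨h1', _⟩ | ⟨_, hg2'⟩
    · omega
    · exact pgl_conj_of_conj (nonsq_conj hp2 g g' c₀ hc₀ hg2 hg2')

theorem nonsq_mul (hp2 : p ≠ 2) {c c₀ : F} (hc : ¬ IsSquare c) (hc₀ : ¬ IsSquare c₀) :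
    ∃ a : F, a ≠ 0 ∧ a * a * c = c₀ := by
  have hchar : ringChar F ≠ 2 := by rw [ringChar.eq F p]; exact hp2
  have hc0 : c ≠ 0 := by rintro rfl; exact hc ⟨0, by simp⟩
  have hc₀0 : c₀ ≠ 0 := by rintro rfl; exact hc₀ ⟨0, by simp⟩
  have h1 : c ^ (Fintype.card F / 2) = -1 := by
    rcases FiniteField.pow_dichotomy hchar hc0 with h | h
    · exact absurd ((FiniteField.isSquare_iff hchar hc0).mpr h) hc
    · exact h
  have h2 : c₀ ^ (Fintype.card F / 2) = -1 := by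
    rcases FiniteField.pow_dichotomy hchar hc₀0 with h | h
    · exact absurd ((FiniteField.isSquare_iff hchar hc₀0).mpr h) hc₀
    · exact h
  have h3 : IsSquare (c₀ * c⁻¹) := by
    rw [FiniteField.isSquare_iff hchar (mul_ne_zero hc₀0 (inv_ne_zero hc0)), mul_pow, inv_pow,
      h1, h2]
    norm_num
  obtain ⟨a, ha⟩ := h3
  refine ⟨a, ?_, ?_⟩
  · rintro rfl
    rw [mul_zero] at ha
    exact (mul_ne_zero hc₀0 (inv_ne_zero hc0)) ha
  · rw [← ha, mul_assoc, inv_mul_cancel₀ hc0, mul_one]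

theorem R3 (hp2 : p ≠ 2) {n : ℕ} (hn : 2 ≤ n) (c₀ : F) (hc₀ : ¬ IsSquare c₀)
    (gbar : PGL F n) (hord : orderOf gbar = 2) :
    ∃ j, InJ n j ∧ ∃ g : GL (Fin n) F, IsRep c₀ n j g ∧
      IsConj (QuotientGroup.mk g : PGL F n) gbar := by
  classical
  haveI : Nonempty (Fin n) := ⟨⟨0, by omega⟩⟩
  obtain ⟨g, rfl⟩ := QuotientGroup.mk_surjective gbar
  obtain ⟨⟨c, hc⟩, hns⟩ := (pgl_order_two_iff g).mp hord
  by_cases hsq : IsSquare c
  · obtain ⟨a, ha⟩ := hsq
    have hc0 : c ≠ 0 := by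
      rintro rfl
      rw [zero_smul, ← Units.val_pow_eq_pow_val] at hc
      exact Units.ne_zero _ hc
    have ha0 : a ≠ 0 := by
      rintro rfl
      rw [mul_zero] at ha
      exact hc0 ha
    set h := smulUnit a⁻¹ (inv_ne_zero ha0) g with hh_def
    have hmk : (QuotientGroup.mk h : PGL F n) = QuotientGroup.mk g :=
      mk_eq_of_smul g h a⁻¹ rfl
    have hh2 : (h : Matrix (Fin n) (Fin n) F) ^ 2 = 1 := by
      rw [hh_def, smulUnit_sq _ _ g c hc, ha]
      have : a⁻¹ * a⁻¹ * (a * a) = 1 := by field_simp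
      rw [this, one_smul]
    have hhh : h * h = 1 := by
      apply Units.ext
      rw [← pow_two, Units.val_pow_eq_pow_val, hh2, Units.val_one]
    have hgval : (g : Matrix (Fin n) (Fin n) F) = a • (h : Matrix (Fin n) (Fin n) F) := by
      rw [hh_def, smulUnit_val, smul_smul, mul_inv_cancel₀ ha0, one_smul]
    obtain ⟨i, hin, hconj⟩ := invol_conj hp2 h hhh
    have hi0 : i ≠ 0 := by
      rintro rfl
      rw [Dg_zero] at hconj
      have h1 : h = 1 := isConj_one_left.mp hconj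
      apply hns
      exact ⟨a, by rw [hgval, h1, Units.val_one]⟩
    have hin' : i ≠ n := by
      rintro rfl
      rw [Dg_full] at hconj
      have h1 : h = -1 := conj_central hconj neg_one_mem_center
      apply hns
      exact ⟨-a, by rw [hgval, h1, Units.val_neg, Units.val_one, smul_neg, neg_smul]⟩
    have hc1 : IsConj (QuotientGroup.mk (Dg F n i) : PGL F n) (QuotientGroup.mk g) := by
      rw [← hmk]
      exact (pgl_conj_of_conj hconj).symm
    by_cases hle : i ≤ n / 2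
    · exact ⟨i, Or.inl ⟨by omega, hle⟩, Dg F n i, Or.inl ⟨by omega, rfl⟩, hc1⟩
    · refine ⟨n - i, Or.inl ⟨by omega, by omega⟩, Dg F n (n - i), Or.inl ⟨by omega, rfl⟩, ?_⟩
      have hneg : (-(Dg F n i)) * (-(Dg F n i)) = 1 := by rw [neg_mul_neg, Dg_sq]
      have hc2 : IsConj (-(Dg F n i)) (Dg F n (n - i)) := by
        apply gl_conj_of_charpoly_eq (p := p) _ _ (orderOf_coprime_of_sq hp2 _ hneg)
          (orderOf_coprime_of_sq hp2 _ (Dg_sq F n (n - i)))
        rw [charpoly_neg_Dg F n i hin, charpoly_Dg F n (n - i) (by omega), mul_comm]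
        congr 2
        omega
      have hmk2 : (QuotientGroup.mk (-(Dg F n i)) : PGL F n) = QuotientGroup.mk (Dg F n i) :=
        mk_eq_of_smul _ _ (-1) (by rw [Units.val_neg, neg_one_smul])
      have hc3 := pgl_conj_of_conj (F := F) hc2
      rw [hmk2] at hc3
      exact hc3.symm.trans hc1
  · obtain ⟨a, ha0, ha⟩ := nonsq_mul hp2 hsq hc₀
    set g' := smulUnit a ha0 g with hg'_def
    have hg'2 : (g' : Matrix (Fin n) (Fin n) F) ^ 2 = c₀ • 1 := by
      rw [hg'_def, smulUnit_sq _ _ g c hc, ha]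
    obtain ⟨b, _, hbn⟩ := nonsq_charpoly hp2 g c hsq hc
    have hmk : (QuotientGroup.mk g' : PGL F n) = QuotientGroup.mk g :=
      mk_eq_of_smul g g' a rfl
    refine ⟨0, Or.inr ⟨rfl, ⟨b, by omega⟩⟩, g', Or.inr ⟨rfl, hg'2⟩, ?_⟩
    rw [hmk]

theorem R4 (hp2 : p ≠ 2) {n j j' : ℕ} (hn : 2 ≤ n) (c₀ : F) (hc₀ : ¬ IsSquare c₀)
    (hj : InJ n j) (hj' : InJ n j') {g g' : GL (Fin n) F}
    (hg : IsRep c₀ n j g) (hg' : IsRep c₀ n j' g')
    (hconj : IsConj (QuotientGroup.mk g : PGL F n) (QuotientGroup.mk g')) : j = j' := by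
  classical
  haveI : Nonempty (Fin n) := ⟨⟨0, by omega⟩⟩
  obtain ⟨x, ζ, hx⟩ := pgl_conj_lift g g' hconj
  have hζ0 : ζ ≠ 0 := by
    rintro rfl
    rw [zero_smul] at hx
    exact Units.ne_zero _ hx
  have hsq1 := conj_sq_smul x g _ (isRep_sq hg)
  have hsq2 : ((x * g * x⁻¹ : GL (Fin n) F) : Matrix (Fin n) (Fin n) F) ^ 2 =
      (ζ * ζ * (if j' = 0 then c₀ else 1)) • 1 := by
    rw [hx, _root_.smul_pow, isRep_sq hg', smul_smul, pow_two]
  have hγ : (if j = 0 then c₀ else 1) = ζ * ζ * (if j' = 0 then c₀ else 1) :=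
    smul_one_inj (by omega) (hsq1.symm.trans hsq2)
  by_cases h0 : j = 0
  · by_cases h0' : j' = 0
    · rw [h0, h0']
    · exfalso
      rw [if_pos h0, if_neg h0', mul_one] at hγ
      exact hc₀ ⟨ζ, hγ⟩
  · by_cases h0' : j' = 0
    · exfalso
      rw [if_neg h0, if_pos h0'] at hγ
      apply hc₀
      refine ⟨ζ⁻¹, ?_⟩
      field_simp
      rw [hγ]; ring
    · rw [if_neg h0, if_neg h0', mul_one] at hγ
      have hgD : g = Dg F n j := by
        rcases hg with ⟨_, h⟩ | ⟨h, _⟩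
        · exact h
        · omega
      have hgD' : g' = Dg F n j' := by
        rcases hg' with ⟨_, h⟩ | ⟨h, _⟩
        · exact h
        · omega
      have hjn : j ≤ n / 2 := by
        rcases hj with ⟨_, h⟩ | ⟨h, _⟩
        · exact h
        · omega
      have hjn' : j' ≤ n / 2 := by
        rcases hj' with ⟨_, h⟩ | ⟨h, _⟩
        · exact h
        · omega
      have hcp : ((x * g * x⁻¹ : GL (Fin n) F) : Matrix (Fin n) (Fin n) F).charpoly =
          (X + 1) ^ j * (X - 1) ^ (n - j) := by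
        rw [Units.val_mul, Units.val_mul, Matrix.coe_units_inv, Matrix.charpoly_units_conj, hgD,
          charpoly_Dg F n j (by omega)]
      rcases mul_self_eq_one_iff.mp hγ.symm with h1 | h1
      · rw [h1, one_smul, hgD'] at hx
        rw [hx, charpoly_Dg F n j' (by omega)] at hcp
        have h3 := exps_unique (ψpm F) ψpm_irr ψpm_monic (ψpm_inj hp2) ![j', n - j'] ![j, n - j]
          (by rw [ψpm_prod, ψpm_prod]; exact hcp)
        have := congrFun h3 0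
        simpa using this.symm
      · have hx' : ((x * g * x⁻¹ : GL (Fin n) F) : Matrix (Fin n) (Fin n) F) =
            ((-(Dg F n j') : GL (Fin n) F) : Matrix (Fin n) (Fin n) F) := by
          rw [hx, h1, neg_one_smul, hgD', Units.val_neg]
        rw [hx', charpoly_neg_Dg F n j' (by omega), mul_comm] at hcp
        have h3 := exps_unique (ψpm F) ψpm_irr ψpm_monic (ψpm_inj hp2) ![n - j', j'] ![j, n - j]
          (by rw [ψpm_prod, ψpm_prod]; exact hcp)
        have e0 := congrFun h3 0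
        have e1 := congrFun h3 1
        simp at e0 e1
        omega

theorem card_J (n : ℕ) : Nat.card {j : ℕ // InJ n j} = n / 2 + (if Even n then 1 else 0) := by
  classical
  by_cases he : Even n
  · rw [if_pos he]
    have : ∀ j, InJ n j ↔ j ∈ Finset.range (n / 2 + 1) := by
      intro j
      unfold InJ
      rw [Finset.mem_range]
      constructor
      · rintro (⟨_, h⟩ | ⟨h, _⟩) <;> omega
      · intro h
        rcases Nat.eq_zero_or_pos j with h0 | h0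
        · exact Or.inr ⟨h0, he⟩
        · exact Or.inl ⟨h0, by omega⟩
    rw [Nat.card_congr (Equiv.subtypeEquivRight this), Nat.card_eq_fintype_card,
      Fintype.card_coe, Finset.card_range]
  · rw [if_neg he, add_zero]
    have : ∀ j, InJ n j ↔ j ∈ Finset.Icc 1 (n / 2) := by
      intro j
      unfold InJ
      rw [Finset.mem_Icc]
      constructor
      · rintro (⟨h1, h⟩ | ⟨_, h⟩)
        · exact ⟨h1, h⟩
        · exact absurd h he
      · rintro ⟨h1, h⟩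
        exact Or.inl ⟨h1, h⟩
    rw [Nat.card_congr (Equiv.subtypeEquivRight this), Nat.card_eq_fintype_card,
      Fintype.card_coe, Nat.card_Icc]
    omega

theorem pgl_invol_classes (hp2 : p ≠ 2) {n : ℕ} (hn : 2 ≤ n) :
    Nat.card {C : ConjClasses (PGL F n) //
      ∃ g : PGL F n, ConjClasses.mk g = C ∧ orderOf g = 2} =
      n / 2 + (if Even n then 1 else 0) := by
  classical
  have hchar : ringChar F ≠ 2 := by rw [ringChar.eq F p]; exact hp2
  obtain ⟨c₀, hc₀⟩ := FiniteField.exists_nonsquare hchar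
  rw [← card_J n]
  symm
  have hrep : ∀ j : {j : ℕ // InJ n j}, ∃ g : GL (Fin n) F, IsRep c₀ n j.1 g :=
    fun j => R0 c₀ hc₀ j.2
  choose rep hrep using hrep
  let f : {j : ℕ // InJ n j} → {C : ConjClasses (PGL F n) //
      ∃ g : PGL F n, ConjClasses.mk g = C ∧ orderOf g = 2} :=
    fun j => ⟨ConjClasses.mk (QuotientGroup.mk (rep j)), QuotientGroup.mk (rep j), rfl,
      R1 hp2 hn c₀ hc₀ (hrep j) j.2⟩
  apply Nat.card_eq_of_bijective f
  constructor
  · intro j j' h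
    have h1 : ConjClasses.mk (QuotientGroup.mk (rep j) : PGL F n) =
        ConjClasses.mk (QuotientGroup.mk (rep j')) := congrArg Subtype.val h
    have h2 := ConjClasses.mk_eq_mk_iff_isConj.mp h1
    exact Subtype.ext (R4 hp2 hn c₀ hc₀ j.2 j'.2 (hrep j) (hrep j') h2)
  · rintro ⟨C, gbar, rfl, hord⟩
    obtain ⟨j, hj, g, hg, hconj⟩ := R3 hp2 hn c₀ hc₀ gbar hord
    refine ⟨⟨j, hj⟩, ?_⟩
    apply Subtype.ext
    show ConjClasses.mk (QuotientGroup.mk (rep ⟨j, hj⟩) : PGL F n) = ConjClasses.mk gbar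
    rw [ConjClasses.mk_eq_mk_iff_isConj]
    exact (R2 hp2 c₀ hc₀ (hrep ⟨j, hj⟩) hg).trans hconj

end

end Cfsg.Agent.Lib.Helper7_PGLInvC
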