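import Mathlib
import Cfsg.Agent.Lib.Helper7_PGLInvC
set_option autoImplicit false
open Polynomial

namespace Cfsg.Agent.Lib.Helper7_PGLPrime

universe u

open Cfsg.Agent.Lib.Helper7_Semisimple Cfsg.Agent.Lib.Helper7_SemisimpleCount
  Cfsg.Agent.Lib.Helper7_PrimeOrder Cfsg.Agent.Lib.Helper7_PGLInv Cfsg.Agent.Lib.Helper7_PGLInvB
  Cfsg.Agent.Lib.Helper7_PGLInvC

theorem charpoly_smul {F : Type u} [Field F] {n : ℕ} (A : Matrix (Fin n) (Fin n) F) (ζ : F)
    (hζ : ζ ≠ 0) :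
    (ζ • A).charpoly = C (ζ ^ n) * (A.charpoly).comp (C ζ⁻¹ * X) := by
  have h1 : (A.charpoly).comp (C ζ⁻¹ * X) =
      ((Polynomial.compRingHom (C ζ⁻¹ * X)).mapMatrix A.charmatrix).det := by
    rw [← RingHom.map_det]; rfl
  have h2 : (Polynomial.compRingHom (C ζ⁻¹ * X)).mapMatrix A.charmatrix =
      (C ζ⁻¹ : F[X]) • (ζ • A).charmatrix := by
    apply Matrix.ext
    intro i j
    rw [RingHom.mapMatrix_apply, Matrix.map_apply, Matrix.smul_apply, Matrix.charmatrix_apply,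
      Matrix.charmatrix_apply, Matrix.smul_apply]
    show (Matrix.diagonal (fun _ => (X : F[X])) i j - C (A i j)).comp (C ζ⁻¹ * X) = _
    rw [Polynomial.sub_comp, Polynomial.C_comp, smul_eq_mul, smul_eq_mul, mul_sub, ← C_mul,
      ← mul_assoc, inv_mul_cancel₀ hζ, one_mul]
    congr 1
    by_cases hij : i = j
    · subst hij
      rw [Matrix.diagonal_apply_eq, Polynomial.X_comp]
    · rw [Matrix.diagonal_apply_ne _ hij, Polynomial.zero_comp, mul_zero]
  rw [h1, h2, Matrix.det_smul, Fintype.card_fin, ← mul_assoc, ← C_pow, ← C_mul, ← mul_pow,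
    mul_inv_cancel₀ hζ, one_pow, C_1, one_mul]
  rfl

section

variable {F : Type u} [Field F]

theorem pgl_order_prime_iff {n r : ℕ} (hr : r.Prime) (g : GL (Fin n) F) :
    orderOf (QuotientGroup.mk g : PGL F n) = r ↔
      (∃ c : F, (g : Matrix (Fin n) (Fin n) F) ^ r = c • 1) ∧
        ¬ ∃ z : F, (g : Matrix (Fin n) (Fin n) F) = z • 1 := by
  haveI : Fact (Nat.Prime r) := ⟨hr⟩
  rw [orderOf_eq_prime_iff]
  have e1 : (QuotientGroup.mk g : PGL F n) ^ r = 1 ↔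
      ∃ c : F, (g : Matrix (Fin n) (Fin n) F) ^ r = c • 1 := by
    rw [← QuotientGroup.mk_pow, QuotientGroup.eq_one_iff,
      Matrix.GeneralLinearGroup.mem_center_iff_val_mem_range_scalar, Units.val_pow_eq_pow_val]
    constructor
    · rintro ⟨c, hc⟩; exact ⟨c, by rw [← hc, scalar_eq]⟩
    · rintro ⟨c, hc⟩; exact ⟨c, by rw [hc, scalar_eq]⟩
  have e2 : (QuotientGroup.mk g : PGL F n) = 1 ↔
      ∃ z : F, (g : Matrix (Fin n) (Fin n) F) = z • 1 := by
    rw [QuotientGroup.eq_one_iff, Matrix.GeneralLinearGroup.mem_center_iff_val_mem_range_scalar]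
    constructor
    · rintro ⟨c, hc⟩; exact ⟨c, by rw [← hc, scalar_eq]⟩
    · rintro ⟨c, hc⟩; exact ⟨c, by rw [hc, scalar_eq]⟩
  rw [e1, Ne, e2]

theorem conj_pow_smul {n : ℕ} (x g : GL (Fin n) F) (k : ℕ) (γ : F)
    (hg : (g : Matrix (Fin n) (Fin n) F) ^ k = γ • 1) :
    ((x * g * x⁻¹ : GL (Fin n) F) : Matrix (Fin n) (Fin n) F) ^ k = γ • 1 := by
  rw [← Units.val_pow_eq_pow_val, conj_pow, Units.val_mul, Units.val_mul,
    Units.val_pow_eq_pow_val, hg, Matrix.mul_smul, Matrix.smul_mul, mul_one, ← Units.val_mul,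
    mul_inv_cancel, Units.val_one]

theorem smulUnit_pow {n : ℕ} (ζ : F) (hζ : ζ ≠ 0) (g : GL (Fin n) F) (k : ℕ) (c : F)
    (hg : (g : Matrix (Fin n) (Fin n) F) ^ k = c • 1) :
    ((smulUnit ζ hζ g : GL (Fin n) F) : Matrix (Fin n) (Fin n) F) ^ k = (ζ ^ k * c) • 1 := by
  rw [smulUnit_val, _root_.smul_pow, hg, smul_smul]

theorem conj_charpoly {n : ℕ} (x g : GL (Fin n) F) :
    ((x * g * x⁻¹ : GL (Fin n) F) : Matrix (Fin n) (Fin n) F).charpoly =
      (g : Matrix (Fin n) (Fin n) F).charpoly := by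
  rw [Units.val_mul, Units.val_mul, Matrix.coe_units_inv, Matrix.charpoly_units_conj]

end

section

variable {F : Type u} [Field F] [Fintype F] {p : ℕ} [Fact p.Prime] [CharP F p]

noncomputable def psiR (r : ℕ) (c : F) : F[X] := X ^ r - C c

theorem psiR_monic {r : ℕ} (hr : r ≠ 0) (c : F) : (psiR r c).Monic :=
  Polynomial.monic_X_pow_sub_C c hr

theorem psiR_natDegree {r : ℕ} (c : F) : (psiR r c).natDegree = r :=
  Polynomial.natDegree_X_pow_sub_C

theorem psiR_irr {r : ℕ} (hr : r.Prime) (c : F) (hc : ∀ b : F, b ^ r ≠ c) :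
    Irreducible (psiR r c) :=
  X_pow_sub_C_irreducible_of_prime hr hc

theorem nonpow_ne_zero {r : ℕ} (hr : r.Prime) {c : F} (hc : ∀ b : F, b ^ r ≠ c) : c ≠ 0 := by
  rintro rfl
  exact hc 0 (zero_pow hr.ne_zero)

theorem rpow_pow_eq_one {n r : ℕ} (g : GL (Fin n) F) (c : F) (hc0 : c ≠ 0)
    (hg : (g : Matrix (Fin n) (Fin n) F) ^ r = c • 1) :
    (g : Matrix (Fin n) (Fin n) F) ^ (r * (Fintype.card F - 1)) = 1 := by
  rw [pow_mul, hg, _root_.smul_pow, one_pow, FiniteField.pow_card_sub_one_eq_one c hc0, one_smul]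

theorem rpow_cast_ne_zero {r : ℕ} (hrF : (r : F) ≠ 0) :
    ((r * (Fintype.card F - 1) : ℕ) : F) ≠ 0 := by
  rw [Nat.cast_mul, cast_card_sub_one]
  simpa using hrF

theorem rpow_orderOf_coprime {n r : ℕ} (hrp : Nat.Coprime r p) (g : GL (Fin n) F) (c : F)
    (hc0 : c ≠ 0) (hg : (g : Matrix (Fin n) (Fin n) F) ^ r = c • 1) : (orderOf g).Coprime p := by
  have h1 : g ^ (r * (Fintype.card F - 1)) = 1 := by
    apply Units.ext
    rw [Units.val_pow_eq_pow_val, rpow_pow_eq_one g c hc0 hg, Units.val_one]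
  have h2 : orderOf g ∣ r * (Fintype.card F - 1) := orderOf_dvd_of_pow_eq_one h1
  exact Nat.Coprime.coprime_dvd_left h2
    (Nat.Coprime.mul_left hrp (coprime_card_sub_one (F := F)))

theorem nonpow_charpoly {n r : ℕ} (hr : r.Prime) (hrF : (r : F) ≠ 0) (g : GL (Fin n) F) (c : F)
    (hc : ∀ b : F, b ^ r ≠ c) (hg : (g : Matrix (Fin n) (Fin n) F) ^ r = c • 1) :
    ∃ b : ℕ, (g : Matrix (Fin n) (Fin n) F).charpoly = psiR r c ^ b ∧ r * b = n := by
  classical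
  have hc0 : c ≠ 0 := nonpow_ne_zero hr hc
  have hψ : aeval (g : Matrix (Fin n) (Fin n) F) (∏ _j : Fin 1, psiR r c) = 0 := by
    rw [Finset.prod_const, Finset.card_univ, Fintype.card_fin, pow_one]
    unfold psiR
    rw [map_sub, map_pow, aeval_X, aeval_C, hg, Algebra.algebraMap_eq_smul_one, sub_self]
  obtain ⟨b, hb⟩ := charpoly_factor' (fun _ : Fin 1 => psiR r c) (fun _ => psiR_irr hr c hc)
    (fun _ => psiR_monic hr.ne_zero c) _ (rpow_cast_ne_zero hrF) _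
    (rpow_pow_eq_one g c hc0 hg) hψ
  rw [Fin.prod_univ_one] at hb
  refine ⟨b 0, hb, ?_⟩
  have := congrArg Polynomial.natDegree hb
  rw [Matrix.charpoly_natDegree_eq_dim, Fintype.card_fin,
    (psiR_monic hr.ne_zero c).natDegree_pow, psiR_natDegree] at this
  rw [this, mul_comm]

theorem nonpow_conj {n r : ℕ} (hr : r.Prime) (hrF : (r : F) ≠ 0) (hrp : Nat.Coprime r p)
    (g g' : GL (Fin n) F) (c : F) (hc : ∀ b : F, b ^ r ≠ c)
    (hg : (g : Matrix (Fin n) (Fin n) F) ^ r = c • 1)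
    (hg' : (g' : Matrix (Fin n) (Fin n) F) ^ r = c • 1) : IsConj g g' := by
  have hc0 : c ≠ 0 := nonpow_ne_zero hr hc
  obtain ⟨b, hb, hbn⟩ := nonpow_charpoly hr hrF g c hc hg
  obtain ⟨b', hb', hbn'⟩ := nonpow_charpoly hr hrF g' c hc hg'
  apply gl_conj_of_charpoly_eq (p := p) _ _ (rpow_orderOf_coprime hrp g c hc0 hg)
    (rpow_orderOf_coprime hrp g' c hc0 hg')
  rw [hb, hb']
  congr 1
  have : r * b = r * b' := hbn.trans hbn'.symm
  exact Nat.eq_of_mul_eq_mul_left hr.pos this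

theorem exists_nonpow_elt {n r : ℕ} (hr : r.Prime) (hn : r ∣ n) (c : F)
    (hc : ∀ b : F, b ^ r ≠ c) :
    ∃ g : GL (Fin n) F, (g : Matrix (Fin n) (Fin n) F) ^ r = c • 1 := by
  classical
  have hc0 : c ≠ 0 := nonpow_ne_zero hr hc
  obtain ⟨m, hm⟩ := hn
  have hdeg : (∏ _j : Fin m, psiR r c).natDegree = n := by
    rw [Finset.prod_const, Finset.card_univ, Fintype.card_fin,
      (psiR_monic hr.ne_zero c).natDegree_pow, psiR_natDegree, hm, mul_comm]
  obtain ⟨G, _, hG⟩ := exists_matrix_of_family' (fun _ : Fin m => psiR r c)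
    (fun _ => psiR_irr hr c hc) (fun _ => psiR_monic hr.ne_zero c) (psiR r c)
    (fun _ => dvd_rfl) hdeg
  unfold psiR at hG
  rw [map_sub, map_pow, aeval_X, aeval_C, Algebra.algebraMap_eq_smul_one, sub_eq_zero] at hG
  have hr1 : r = (r - 1) + 1 := by have := hr.pos; omega
  have hinv : G * (c⁻¹ • G ^ (r - 1)) = 1 := by
    rw [Matrix.mul_smul, ← pow_succ', ← hr1, hG, smul_smul, inv_mul_cancel₀ hc0, one_smul]
  have hinv' : (c⁻¹ • G ^ (r - 1)) * G = 1 := by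
    rw [Matrix.smul_mul, ← pow_succ, ← hr1, hG, smul_smul, inv_mul_cancel₀ hc0, one_smul]
  exact ⟨⟨G, c⁻¹ • G ^ (r - 1), hinv, hinv'⟩, hG⟩

end

end Cfsg.Agent.Lib.Helper7_PGLPrime
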