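import Mathlib
import Cfsg.Agent.Lib.Helper7_PGLPrime
set_option autoImplicit false
open Polynomial

namespace Cfsg.Agent.Lib.Helper7_PGLPrimeB

universe u

open Cfsg.Agent.Lib.Helper7_Semisimple Cfsg.Agent.Lib.Helper7_SemisimpleCount
  Cfsg.Agent.Lib.Helper7_PrimeOrder Cfsg.Agent.Lib.Helper7_PGLInv Cfsg.Agent.Lib.Helper7_PGLInvB
  Cfsg.Agent.Lib.Helper7_PGLInvC Cfsg.Agent.Lib.Helper7_PGLPrime

structure RootData (F : Type u) [Field F] (r : ℕ) where
  ω : F
  γ : F
  hω : ω ^ r = 1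
  hinj : ∀ i j : Fin r, ω ^ (i : ℕ) = ω ^ (j : ℕ) → i = j
  hγ0 : γ ≠ 0
  hpow : ∀ c : F, c ≠ 0 → ∃ i, i < r ∧ ∃ α : F, α ≠ 0 ∧ c = γ ^ i * α ^ r
  huniq : ∀ i i' : ℕ, i < r → i' < r → (∃ α : F, γ ^ i = γ ^ i' * α ^ r) → i = i'

section

variable {F : Type u} [Field F] {r : ℕ} [NeZero r] (D : RootData F r)

theorem ω_ne_zero : D.ω ≠ 0 := by
  intro h
  have := D.hω
  rw [h, zero_pow (NeZero.ne r)] at this
  exact zero_ne_one this

noncomputable def ψr : Fin r → F[X] := fun j => X - C (D.ω ^ (j : ℕ))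

theorem ψr_irr : ∀ j, Irreducible (ψr D j) := fun j => Polynomial.irreducible_X_sub_C _

theorem ψr_monic : ∀ j, (ψr D j).Monic := fun j => Polynomial.monic_X_sub_C _

theorem ψr_inj : Function.Injective (ψr D) := by
  intro i j h
  unfold ψr at h
  have h1 : C (D.ω ^ (i : ℕ)) = C (D.ω ^ (j : ℕ)) := by
    have := sub_right_injective h
    exact this
  exact D.hinj i j (Polynomial.C_injective h1)

theorem ψr_prod : ∏ j, ψr D j = X ^ r - 1 := by
  classical
  have hr0 : r ≠ 0 := NeZero.ne r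
  have hmon1 : (∏ j, ψr D j).Monic := Polynomial.monic_prod_of_monic _ _ (fun j _ => ψr_monic D j)
  have hmon2 : (X ^ r - 1 : F[X]).Monic := by
    have := Polynomial.monic_X_pow_sub_C (1 : F) hr0
    rwa [map_one] at this
  have hdvd : ∏ j, ψr D j ∣ X ^ r - 1 := by
    apply Finset.prod_dvd_of_coprime
    · intro i _ j _ hij
      have hinj' : Function.Injective (fun j : Fin r => D.ω ^ (j : ℕ)) := fun a b h => D.hinj a b h
      exact Polynomial.pairwise_coprime_X_sub_C hinj' hij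
    · intro j _
      unfold ψr
      rw [Polynomial.dvd_iff_isRoot, Polynomial.IsRoot.def, eval_sub, eval_pow, eval_X, eval_one,
        ← pow_mul, mul_comm, pow_mul, D.hω, one_pow, sub_self]
  have hdeg : (X ^ r - 1 : F[X]).natDegree ≤ (∏ j, ψr D j).natDegree := by
    rw [Polynomial.natDegree_prod_of_monic _ _ (fun j _ => ψr_monic D j)]
    have h1 : ∀ j : Fin r, (ψr D j).natDegree = 1 := fun j => Polynomial.natDegree_X_sub_C _
    rw [Finset.sum_congr rfl (fun j _ => h1 j), Finset.sum_const, Finset.card_univ,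
      Fintype.card_fin, smul_eq_mul, mul_one]
    have : (X ^ r - 1 : F[X]) = X ^ r - C 1 := by rw [map_one]
    rw [this, Polynomial.natDegree_X_pow_sub_C]
  exact (Polynomial.eq_of_monic_of_dvd_of_natDegree_le hmon1 hmon2 hdvd hdeg).symm

theorem roots_of_unity (ζ : F) (hζ : ζ ^ r = 1) : ∃ s : Fin r, ζ = D.ω ^ (s : ℕ) := by
  have h1 : Polynomial.eval ζ (∏ j, ψr D j) = 0 := by
    rw [ψr_prod, eval_sub, eval_pow, eval_X, eval_one, hζ, sub_self]
  rw [Polynomial.eval_prod, Finset.prod_eq_zero_iff] at h1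
  obtain ⟨s, _, hs⟩ := h1
  refine ⟨s, ?_⟩
  unfold ψr at hs
  rw [eval_sub, eval_X, eval_C, sub_eq_zero] at hs
  exact hs

/-- rotation of a multiplicity vector -/
def rot (s : Fin r) (a : Fin r → ℕ) : Fin r → ℕ := fun j => a (j - s)

theorem rot_sum (s : Fin r) (a : Fin r → ℕ) : ∑ j, rot s a j = ∑ j, a j :=
  Equiv.sum_comp (Equiv.subRight s) a

theorem ω_pow_add (s j : Fin r) :
    D.ω ^ ((j + s : Fin r) : ℕ) = D.ω ^ (j : ℕ) * D.ω ^ (s : ℕ) := by
  rw [Fin.val_add, ← pow_eq_pow_mod _ D.hω, pow_add]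

def TypeA {n : ℕ} (g : GL (Fin n) F) (a : Fin r → ℕ) : Prop :=
  (g : Matrix (Fin n) (Fin n) F) ^ r = 1 ∧
    (g : Matrix (Fin n) (Fin n) F).charpoly = ∏ j, ψr D j ^ a j

theorem natDegree_ψprod (a : Fin r → ℕ) : (∏ j, ψr D j ^ a j).natDegree = ∑ j, a j := by
  rw [Polynomial.natDegree_prod_of_monic _ _ (fun j _ => (ψr_monic D j).pow _)]
  apply Finset.sum_congr rfl
  intro j _
  rw [(ψr_monic D j).natDegree_pow]
  unfold ψr
  rw [Polynomial.natDegree_X_sub_C, mul_one]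

theorem typeA_sum {n : ℕ} {g : GL (Fin n) F} {a : Fin r → ℕ} (h : TypeA D g a) :
    ∑ j, a j = n := by
  have := congrArg Polynomial.natDegree h.2
  rw [Matrix.charpoly_natDegree_eq_dim, Fintype.card_fin, natDegree_ψprod] at this
  exact this.symm

theorem typeA_unique {n : ℕ} {g : GL (Fin n) F} {a a' : Fin r → ℕ} (h : TypeA D g a)
    (h' : TypeA D g a') : a = a' :=
  exps_unique (ψr D) (ψr_irr D) (ψr_monic D) (ψr_inj D) a a' (h.2.symm.trans h'.2)

theorem typeA_of_conj {n : ℕ} {g : GL (Fin n) F} {a : Fin r → ℕ} (h : TypeA D g a)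
    (x : GL (Fin n) F) : TypeA D (x * g * x⁻¹) a := by
  refine ⟨?_, ?_⟩
  · have := conj_pow_smul x g r 1 (by rw [h.1, one_smul])
    rw [this, one_smul]
  · rw [conj_charpoly, h.2]

theorem typeA_exists {n : ℕ} (hrF : (r : F) ≠ 0) (g : GL (Fin n) F)
    (hg : (g : Matrix (Fin n) (Fin n) F) ^ r = 1) : ∃ a, TypeA D g a := by
  have hψ : aeval (g : Matrix (Fin n) (Fin n) F) (∏ j, ψr D j) = 0 := by
    rw [ψr_prod, map_sub, map_pow, aeval_X, map_one, hg, sub_self]
  obtain ⟨b, hb⟩ := charpoly_factor' (ψr D) (ψr_irr D) (ψr_monic D) r hrF _ hg hψ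
  exact ⟨b, hg, hb⟩

theorem typeA_model {n : ℕ} (a : Fin r → ℕ) (ha : ∑ j, a j = n) :
    ∃ g : GL (Fin n) F, TypeA D g a := by
  classical
  have hr0 : r ≠ 0 := NeZero.ne r
  have hfmon : (∏ j, ψr D j ^ a j).Monic :=
    Polynomial.monic_prod_of_monic _ _ (fun j _ => (ψr_monic D j).pow _)
  have hfdeg : (∏ j, ψr D j ^ a j).natDegree = n := by rw [natDegree_ψprod, ha]
  obtain ⟨G, hG, hGr⟩ := exists_matrix_of_poly _ hfmon hfdeg r (by
    intro s hs hsd
    obtain ⟨k, _, hk⟩ := (Prime.dvd_finsetProd_iff hs.prime _).mp hsd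
    have := hs.prime.dvd_of_dvd_pow hk
    rw [← ψr_prod D]
    exact this.trans (Finset.dvd_prod_of_mem _ (Finset.mem_univ k)))
  have hU : IsUnit G := IsUnit.of_pow_eq_one hGr hr0
  obtain ⟨g, hgG⟩ := hU
  exact ⟨g, by rw [hgG]; exact hGr, by rw [hgG]; exact hG⟩

theorem typeA_smul {n : ℕ} {g : GL (Fin n) F} {a : Fin r → ℕ} (h : TypeA D g a) (s : Fin r) :
    TypeA D (smulUnit (D.ω ^ (s : ℕ)) (pow_ne_zero _ (ω_ne_zero D)) g) (rot s a) := by
  have hζ0 : D.ω ^ (s : ℕ) ≠ 0 := pow_ne_zero _ (ω_ne_zero D)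
  have hζr : (D.ω ^ (s : ℕ)) ^ r = 1 := by rw [← pow_mul, mul_comm, pow_mul, D.hω, one_pow]
  refine ⟨?_, ?_⟩
  · rw [smulUnit_pow _ _ g r 1 (by rw [h.1, one_smul]), hζr, one_mul, one_smul]
  · rw [smulUnit_val, charpoly_smul _ _ hζ0, h.2, Polynomial.prod_comp]
    have hsum := typeA_sum D h
    have h1 : ∀ j : Fin r, ((ψr D j) ^ a j).comp (C (D.ω ^ (s : ℕ))⁻¹ * X) =
        C ((D.ω ^ (s : ℕ))⁻¹ ^ a j) * (ψr D (j + s)) ^ a j := by
      intro j
      rw [Polynomial.pow_comp, C_pow, ← mul_pow]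
      congr 1
      unfold ψr
      rw [Polynomial.sub_comp, Polynomial.X_comp, Polynomial.C_comp, mul_sub, ← C_mul,
        ω_pow_add, mul_comm (D.ω ^ (j : ℕ)), ← mul_assoc, inv_mul_cancel₀ hζ0, one_mul]
    rw [Finset.prod_congr rfl (fun j _ => h1 j), Finset.prod_mul_distrib, ← map_prod,
      Finset.prod_pow_eq_pow_sum, hsum, ← mul_assoc, ← C_mul, ← mul_pow, mul_inv_cancel₀ hζ0,
      one_pow, C_1, one_mul]
    -- reindex
    have h2 : ∏ j, ψr D (j + s) ^ a j = ∏ j, ψr D ((Equiv.addRight s) j) ^ a ((Equiv.addRight s) j - s) := by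
      apply Finset.prod_congr rfl
      intro j _
      show ψr D (j + s) ^ a j = ψr D (j + s) ^ a (j + s - s)
      rw [add_sub_cancel_right]
    rw [h2]
    exact Equiv.prod_comp (Equiv.addRight s) (fun j => ψr D j ^ a (j - s))

theorem charpoly_smul_one {n : ℕ} (z : F) :
    (z • (1 : Matrix (Fin n) (Fin n) F)).charpoly = (X - C z) ^ n := by
  rw [Matrix.smul_one_eq_diagonal, Matrix.charpoly_diagonal, Finset.prod_const, Finset.card_univ,
    Fintype.card_fin]

end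

section

variable {F : Type u} [Field F] [Fintype F] {p : ℕ} [Fact p.Prime] [CharP F p]
  {r : ℕ} [NeZero r] (D : RootData F r)

theorem typeA_orderOf_coprime {n : ℕ} (hr : r.Prime) (hrp : Nat.Coprime r p)
    {g : GL (Fin n) F} (hg : (g : Matrix (Fin n) (Fin n) F) ^ r = 1) :
    (orderOf g).Coprime p := by
  have h1 : g ^ r = 1 := by
    apply Units.ext
    rw [Units.val_pow_eq_pow_val, hg, Units.val_one]
  exact Nat.Coprime.coprime_dvd_left (orderOf_dvd_of_pow_eq_one h1) hrp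

theorem typeA_conj {n : ℕ} (hr : r.Prime) (hrp : Nat.Coprime r p) {g g' : GL (Fin n) F}
    {a : Fin r → ℕ} (h : TypeA D g a) (h' : TypeA D g' a) : IsConj g g' := by
  apply gl_conj_of_charpoly_eq (p := p) _ _ (typeA_orderOf_coprime hr hrp h.1)
    (typeA_orderOf_coprime hr hrp h'.1)
  rw [h.2, h'.2]

theorem typeA_scalar_iff {n : ℕ} (hn : 1 ≤ n) (hr : r.Prime) (hrp : Nat.Coprime r p)
    {g : GL (Fin n) F} {a : Fin r → ℕ} (h : TypeA D g a) :
    (∃ z : F, (g : Matrix (Fin n) (Fin n) F) = z • 1) ↔ ∃ j, a j = n := by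
  classical
  have hsum := typeA_sum D h
  have hsingle : ∀ j : Fin r, ∏ k, ψr D k ^ (Pi.single j n : Fin r → ℕ) k = ψr D j ^ n := by
    intro j
    rw [Finset.prod_eq_single j]
    · rw [Pi.single_eq_same]
    · intro k _ hk
      rw [Pi.single_eq_of_ne hk, pow_zero]
    · intro hj; exact absurd (Finset.mem_univ j) hj
  constructor
  · rintro ⟨z, hz⟩
    have hzr : z ^ r = 1 := by
      have := h.1
      rw [hz, _root_.smul_pow, one_pow] at this
      have h1 : z ^ r • (1 : Matrix (Fin n) (Fin n) F) = (1 : F) • 1 := by rw [this, one_smul]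
      exact smul_one_inj hn h1
    obtain ⟨j, hj⟩ := roots_of_unity D z hzr
    refine ⟨j, ?_⟩
    have hcp := h.2
    rw [hz, charpoly_smul_one, hj] at hcp
    have h3 : ∏ k, ψr D k ^ (Pi.single j n : Fin r → ℕ) k = ∏ k, ψr D k ^ a k := by
      rw [hsingle j, ← hcp]; rfl
    have h4 := exps_unique (ψr D) (ψr_irr D) (ψr_monic D) (ψr_inj D) _ _ h3
    rw [← h4, Pi.single_eq_same]
  · rintro ⟨j, hj⟩
    have ha : a = Pi.single j n := by
      funext k
      by_cases hk : k = j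
      · rw [hk, Pi.single_eq_same, hj]
      · rw [Pi.single_eq_of_ne hk]
        have h1 : a j + a k ≤ ∑ i, a i := by
          have h2 : ∑ i ∈ ({j, k} : Finset (Fin r)), a i ≤ ∑ i, a i :=
            Finset.sum_le_sum_of_subset (Finset.subset_univ _)
          rwa [Finset.sum_pair (Ne.symm hk)] at h2
        omega
    have hz0 : D.ω ^ (j : ℕ) ≠ 0 := pow_ne_zero _ (ω_ne_zero D)
    let zg : GL (Fin n) F := smulUnit (D.ω ^ (j : ℕ)) hz0 1
    have hzg : TypeA D zg a := by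
      refine ⟨?_, ?_⟩
      · have hζr : (D.ω ^ (j : ℕ)) ^ r = 1 := by
          rw [← pow_mul, mul_comm, pow_mul, D.hω, one_pow]
        rw [smulUnit_pow _ _ 1 r 1 (by rw [Units.val_one, one_pow, one_smul]), hζr, one_mul,
          one_smul]
      · rw [smulUnit_val, Units.val_one, charpoly_smul_one, ha, hsingle j]; rfl
    have hconj := typeA_conj D hr hrp h hzg
    have hcen : zg ∈ Subgroup.center (GL (Fin n) F) := by
      rw [Matrix.GeneralLinearGroup.mem_center_iff_val_mem_range_scalar]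
      exact ⟨D.ω ^ (j : ℕ), by rw [scalar_eq, smulUnit_val, Units.val_one]⟩
    have := conj_central hconj hcen
    exact ⟨D.ω ^ (j : ℕ), by rw [this, smulUnit_val, Units.val_one]⟩

end

end Cfsg.Agent.Lib.Helper7_PGLPrimeB
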