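import Mathlib
import Cfsg.Agent.Lib.Helper7_PGLPrimeB
set_option autoImplicit false
open Polynomial

namespace Cfsg.Agent.Lib.Helper7_PGLPrimeC

universe u

open Cfsg.Agent.Lib.Helper7_PGLPrimeB

/-- admissible multiplicity vectors -/
abbrev Tset (n r : ℕ) : Type := {a : Fin r → ℕ // ∑ j, a j = n ∧ ∀ j, a j < n}

instance tsetAction (n r : ℕ) [NeZero r] : MulAction (Multiplicative (Fin r)) (Tset n r) where
  smul s a := ⟨rot (Multiplicative.toAdd s) a.1, by rw [rot_sum]; exact a.2.1,
    fun j => a.2.2 _⟩
  one_smul a := by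
    apply Subtype.ext
    funext j
    show a.1 (j - 0) = a.1 j
    rw [sub_zero]
  mul_smul s t a := by
    apply Subtype.ext
    funext j
    show a.1 (j - (Multiplicative.toAdd s + Multiplicative.toAdd t)) =
      a.1 (j - Multiplicative.toAdd s - Multiplicative.toAdd t)
    rw [sub_sub]

theorem tset_smul_val (n r : ℕ) [NeZero r] (s : Multiplicative (Fin r)) (a : Tset n r) :
    (s • a).1 = rot (Multiplicative.toAdd s) a.1 := rfl

instance tsetFinite (n r : ℕ) : Finite (Tset n r) := by
  apply Finite.of_injective (fun a : Tset n r => fun j => (⟨a.1 j, a.2.2 j⟩ : Fin n))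
  intro a b h
  apply Subtype.ext
  funext j
  have := congrFun h j
  exact Fin.mk.inj_iff.mp this

theorem card_U (n r : ℕ) (hr : 1 ≤ r) :
    Nat.card {a : Fin r → ℕ // ∑ j, a j = n} = Nat.choose (n + r - 1) (r - 1) := by
  classical
  rw [Nat.card_congr (Sym.equivNatSumOfFintype (Fin r) n).symm, Nat.card_eq_fintype_card,
    Sym.card_sym_eq_choose, Fintype.card_fin]
  have h1 : r + n - 1 = n + r - 1 := by omega
  rw [h1]
  exact Nat.choose_symm_of_eq_add (by omega)

theorem card_T_add (n r : ℕ) (hn : 1 ≤ n) (hr : 1 ≤ r) :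
    Nat.card (Tset n r) + r = Nat.choose (n + r - 1) (r - 1) := by
  classical
  rw [← card_U n r hr]
  let P : {a : Fin r → ℕ // ∑ j, a j = n} → Prop := fun u => ∀ j, u.1 j < n
  haveI hfinU : Finite {a : Fin r → ℕ // ∑ j, a j = n} := by
    apply Nat.finite_of_card_ne_zero
    rw [card_U n r hr]
    exact (Nat.choose_pos (by omega)).ne'
  have e1 : {u : {a : Fin r → ℕ // ∑ j, a j = n} // P u} ≃ Tset n r :=
    Equiv.subtypeSubtypeEquivSubtypeInter (fun a : Fin r → ℕ => ∑ j, a j = n)
      (fun a => ∀ j, a j < n)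
  have hsingle_sum : ∀ j : Fin r, ∑ k, (Pi.single j n : Fin r → ℕ) k = n := by
    intro j
    rw [Finset.sum_pi_single']
    simp
  let φ : Fin r → {u : {a : Fin r → ℕ // ∑ j, a j = n} // ¬ P u} := fun j =>
    ⟨⟨Pi.single j n, hsingle_sum j⟩, by
      intro h
      have := h j
      simp at this⟩
  have hφ : Function.Bijective φ := by
    constructor
    · intro j j' h
      have h1 : (Pi.single j n : Fin r → ℕ) = Pi.single j' n :=
        congrArg (fun u => u.1.1) h
      by_contra hne
      have h2 := congrFun h1 j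
      rw [Pi.single_eq_same, Pi.single_eq_of_ne hne] at h2
      omega
    · rintro ⟨⟨u, hu⟩, hPu⟩
      have hPu' : ¬ ∀ j, u j < n := hPu
      push Not at hPu'
      obtain ⟨j, hj⟩ := hPu'
      refine ⟨j, ?_⟩
      apply Subtype.ext
      apply Subtype.ext
      show (Pi.single j n : Fin r → ℕ) = u
      funext k
      by_cases hk : k = j
      · rw [hk, Pi.single_eq_same]
        have h1 : u j ≤ ∑ i, u i := Finset.single_le_sum (fun _ _ => Nat.zero_le _)
          (Finset.mem_univ j)
        omega
      · rw [Pi.single_eq_of_ne hk]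
        have h1 : u j + u k ≤ ∑ i, u i := by
          have h2 : ∑ i ∈ ({j, k} : Finset (Fin r)), u i ≤ ∑ i, u i :=
            Finset.sum_le_sum_of_subset (Finset.subset_univ _)
          rwa [Finset.sum_pair (Ne.symm hk)] at h2
        omega
  have e2 : Fin r ≃ {u : {a : Fin r → ℕ // ∑ j, a j = n} // ¬ P u} := Equiv.ofBijective φ hφ
  rw [Nat.card_congr (Equiv.sumCompl P).symm, Nat.card_sum, Nat.card_congr e1,
    Nat.card_congr e2.symm, Nat.card_fin]

/-- fixed points of a nontrivial rotation are the constant vectors -/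
theorem fixed_const {n r : ℕ} [NeZero r] (hr : r.Prime) (s : Multiplicative (Fin r))
    (hs : s ≠ 1) (a : Tset n r) (ha : s • a = a) : ∀ j, a.1 j = a.1 0 := by
  haveI : Fact r.Prime := ⟨hr⟩
  have hcard : Nat.card (Multiplicative (Fin r)) = r := by
    rw [Nat.card_eq_fintype_card, Fintype.card_multiplicative, Fintype.card_fin]
  have htop := zpowers_eq_top_of_prime_card hcard hs
  have hstab : s ∈ MulAction.stabilizer (Multiplicative (Fin r)) a :=
    MulAction.mem_stabilizer_iff.mpr ha
  have hle : Subgroup.zpowers s ≤ MulAction.stabilizer (Multiplicative (Fin r)) a :=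
    (Subgroup.zpowers_le).mpr hstab
  rw [htop] at hle
  intro j
  have h1 : Multiplicative.ofAdd j ∈ MulAction.stabilizer (Multiplicative (Fin r)) a :=
    hle (Subgroup.mem_top _)
  have h2 : Multiplicative.ofAdd j • a = a := MulAction.mem_stabilizer_iff.mp h1
  have h3 := congrArg (fun b : Tset n r => b.1 j) h2
  have h4 : (Multiplicative.ofAdd j • a).1 j = a.1 (j - j) := rfl
  rw [sub_self] at h4
  exact (h4.symm.trans h3).symm

theorem card_fixed {n r : ℕ} [NeZero r] (hn : 1 ≤ n) (hr : r.Prime)
    (s : Multiplicative (Fin r)) (hs : s ≠ 1) :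
    Nat.card (MulAction.fixedBy (Tset n r) s) = if r ∣ n then 1 else 0 := by
  classical
  by_cases hd : r ∣ n
  · rw [if_pos hd]
    obtain ⟨c, hc⟩ := hd
    have hc1 : 1 ≤ c := by
      rcases Nat.eq_zero_or_pos c with h | h
      · rw [h, mul_zero] at hc; omega
      · exact h
    have hclt : c < n := by
      rw [hc]
      have := hr.two_le
      nlinarith
    let a0 : Tset n r := ⟨fun _ => c, by
      rw [Finset.sum_const, Finset.card_univ, Fintype.card_fin, smul_eq_mul, hc], fun _ => hclt⟩
    have ha0 : a0 ∈ MulAction.fixedBy (Tset n r) s := by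
      rw [MulAction.mem_fixedBy]
      apply Subtype.ext
      rfl
    haveI : Finite (MulAction.fixedBy (Tset n r) s) := Subtype.finite
    rw [Nat.card_eq_one_iff_unique]
    refine ⟨⟨?_⟩, ⟨⟨a0, ha0⟩⟩⟩
    rintro ⟨a, ha⟩ ⟨b, hb⟩
    apply Subtype.ext
    show a = b
    have hca := fixed_const hr s hs a (MulAction.mem_fixedBy.mp ha)
    have hcb := fixed_const hr s hs b (MulAction.mem_fixedBy.mp hb)
    have hsa : r * a.1 0 = n := by
      have := a.2.1
      rw [Finset.sum_congr rfl (fun j _ => hca j), Finset.sum_const, Finset.card_univ,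
        Fintype.card_fin, smul_eq_mul] at this
      exact this
    have hsb : r * b.1 0 = n := by
      have := b.2.1
      rw [Finset.sum_congr rfl (fun j _ => hcb j), Finset.sum_const, Finset.card_univ,
        Fintype.card_fin, smul_eq_mul] at this
      exact this
    have h0 : a.1 0 = b.1 0 := Nat.eq_of_mul_eq_mul_left hr.pos (hsa.trans hsb.symm)
    apply Subtype.ext
    funext j
    rw [hca j, hcb j, h0]
  · rw [if_neg hd]
    haveI : IsEmpty (MulAction.fixedBy (Tset n r) s) := by
      constructor
      rintro ⟨a, ha⟩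
      have hca := fixed_const hr s hs a (MulAction.mem_fixedBy.mp ha)
      apply hd
      have := a.2.1
      rw [Finset.sum_congr rfl (fun j _ => hca j), Finset.sum_const, Finset.card_univ,
        Fintype.card_fin, smul_eq_mul] at this
      exact ⟨a.1 0, this.symm⟩
    exact Nat.card_of_isEmpty

theorem card_orbits {n r : ℕ} [NeZero r] (hn : 1 ≤ n) (hr : r.Prime) :
    Nat.card (Quotient (MulAction.orbitRel (Multiplicative (Fin r)) (Tset n r))) * r =
      Nat.card (Tset n r) + (r - 1) * (if r ∣ n then 1 else 0) := by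
  classical
  letI : Fintype (Tset n r) := Fintype.ofFinite _
  letI : ∀ s : Multiplicative (Fin r), Fintype (MulAction.fixedBy (Tset n r) s) :=
    fun s => Fintype.ofFinite _
  letI : Fintype (Quotient (MulAction.orbitRel (Multiplicative (Fin r)) (Tset n r))) :=
    Fintype.ofFinite _
  have hB := MulAction.sum_card_fixedBy_eq_card_orbits_mul_card_group (Multiplicative (Fin r))
    (Tset n r)
  rw [Fintype.card_multiplicative, Fintype.card_fin, Fintype.card_eq_nat_card] at hB
  rw [← hB, ← Finset.add_sum_erase Finset.univ _ (Finset.mem_univ (1 : Multiplicative (Fin r)))]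
  congr 1
  · rw [Fintype.card_eq_nat_card]
    apply Nat.card_congr
    apply Equiv.subtypeUnivEquiv
    intro a
    rw [MulAction.mem_fixedBy, one_smul]
  · have h1 : ∀ s ∈ (Finset.univ : Finset (Multiplicative (Fin r))).erase 1,
        Fintype.card (MulAction.fixedBy (Tset n r) s) = if r ∣ n then 1 else 0 := by
      intro s hs
      rw [Fintype.card_eq_nat_card]
      exact card_fixed hn hr s (Finset.ne_of_mem_erase hs)
    rw [Finset.sum_congr rfl h1, Finset.sum_const, Finset.card_erase_of_mem (Finset.mem_univ _),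
      Finset.card_univ, Fintype.card_multiplicative, Fintype.card_fin, smul_eq_mul]

end Cfsg.Agent.Lib.Helper7_PGLPrimeC
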