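import Mathlib
import Cfsg.Agent.Lib.Helper7_PGLPrimeC
set_option autoImplicit false
open Polynomial

namespace Cfsg.Agent.Lib.Helper7_PGLPrimeD

universe u

open Cfsg.Agent.Lib.Helper7_Semisimple Cfsg.Agent.Lib.Helper7_SemisimpleCount
  Cfsg.Agent.Lib.Helper7_PrimeOrder Cfsg.Agent.Lib.Helper7_PGLInv Cfsg.Agent.Lib.Helper7_PGLInvB
  Cfsg.Agent.Lib.Helper7_PGLInvC Cfsg.Agent.Lib.Helper7_PGLPrime Cfsg.Agent.Lib.Helper7_PGLPrimeB
  Cfsg.Agent.Lib.Helper7_PGLPrimeC

abbrev Orb (n r : ℕ) [NeZero r] : Type :=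
  Quotient (MulAction.orbitRel (Multiplicative (Fin r)) (Tset n r))

abbrev JB (n r : ℕ) : Type := {i : ℕ // 1 ≤ i ∧ i < r ∧ r ∣ n}

section

variable {F : Type u} [Field F] [Fintype F] {p : ℕ} [Fact p.Prime] [CharP F p]
  {r : ℕ} [NeZero r] (D : RootData F r)

def IsRep {n : ℕ} : Orb n r ⊕ JB n r → GL (Fin n) F → Prop
  | Sum.inl o, g => ∃ a : Tset n r, Quotient.mk _ a = o ∧ TypeA D g a.1
  | Sum.inr i, g => (g : Matrix (Fin n) (Fin n) F) ^ r = D.γ ^ i.1 • 1

theorem nonpow_γ {i : ℕ} (hi1 : 1 ≤ i) (hir : i < r) : ∀ b : F, b ^ r ≠ D.γ ^ i := by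
  intro b hb
  have := D.huniq i 0 hir (Nat.pos_of_ne_zero (NeZero.ne r)) ⟨b, by rw [pow_zero, one_mul, hb]⟩
  omega

theorem isRep_pow {n : ℕ} (j : Orb n r ⊕ JB n r) {g : GL (Fin n) F} (h : IsRep D j g) :
    ∃ i : ℕ, i < r ∧ (g : Matrix (Fin n) (Fin n) F) ^ r = D.γ ^ i • 1 ∧
      ((∃ o, j = Sum.inl o) ↔ i = 0) ∧ (∀ i', j = Sum.inr i' → i'.1 = i) := by
  rcases j with o | i
  · obtain ⟨a, _, ha⟩ := h
    refine ⟨0, Nat.pos_of_ne_zero (NeZero.ne r), by rw [ha.1, pow_zero, one_smul], ?_, ?_⟩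
    · exact ⟨fun _ => rfl, fun _ => ⟨o, rfl⟩⟩
    · intro i' hi'; cases hi'
  · refine ⟨i.1, i.2.2.1, h, ?_, ?_⟩
    · constructor
      · rintro ⟨o, ho⟩; cases ho
      · intro h0; have := i.2.1; omega
    · intro i' hi'
      cases hi'
      rfl

theorem R0 {n : ℕ} (hr : r.Prime) (j : Orb n r ⊕ JB n r) : ∃ g : GL (Fin n) F, IsRep D j g := by
  rcases j with o | i
  · obtain ⟨g, hg⟩ := typeA_model D (Quotient.out o).1 (Quotient.out o).2.1
    exact ⟨g, Quotient.out o, Quotient.out_eq o, hg⟩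
  · exact exists_nonpow_elt hr i.2.2.2 _ (nonpow_γ D i.2.1 i.2.2.1)

theorem R1 {n : ℕ} (hn : 1 ≤ n) (hr : r.Prime) (hrp : Nat.Coprime r p)
    (j : Orb n r ⊕ JB n r) {g : GL (Fin n) F} (h : IsRep D j g) :
    orderOf (QuotientGroup.mk g : PGL F n) = r := by
  rw [pgl_order_prime_iff hr]
  rcases j with o | i
  · obtain ⟨a, _, ha⟩ := h
    refine ⟨⟨1, by rw [ha.1, one_smul]⟩, ?_⟩
    rw [typeA_scalar_iff D hn hr hrp ha]
    rintro ⟨k, hk⟩
    have := a.2.2 k
    omega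
  · refine ⟨⟨_, h⟩, ?_⟩
    rintro ⟨z, hz⟩
    have h' : (g : Matrix (Fin n) (Fin n) F) ^ r = D.γ ^ i.1 • 1 := h
    rw [hz, _root_.smul_pow, one_pow] at h'
    exact nonpow_γ D i.2.1 i.2.2.1 z (smul_one_inj hn h')

theorem mk_smulUnit {n : ℕ} (ζ : F) (hζ : ζ ≠ 0) (g : GL (Fin n) F) :
    (QuotientGroup.mk (smulUnit ζ hζ g) : PGL F n) = QuotientGroup.mk g :=
  mk_eq_of_smul g _ ζ rfl

theorem R2 {n : ℕ} (hr : r.Prime) (hrF : (r : F) ≠ 0) (hrp : Nat.Coprime r p)
    (j : Orb n r ⊕ JB n r) {g g' : GL (Fin n) F} (h : IsRep D j g) (h' : IsRep D j g') :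
    IsConj (QuotientGroup.mk g : PGL F n) (QuotientGroup.mk g') := by
  rcases j with o | i
  · obtain ⟨a, hao, ha⟩ := h
    obtain ⟨a', hao', ha'⟩ := h'
    have hrel : (MulAction.orbitRel (Multiplicative (Fin r)) (Tset n r)) a' a :=
      Quotient.exact (hao'.trans hao.symm)
    rw [MulAction.orbitRel_apply, MulAction.mem_orbit_iff] at hrel
    obtain ⟨s, hs⟩ := hrel
    have h1 := typeA_smul D ha (Multiplicative.toAdd s)
    have h2 : rot (Multiplicative.toAdd s) a.1 = a'.1 := by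
      rw [← tset_smul_val, hs]
    rw [h2] at h1
    have h3 := pgl_conj_of_conj (F := F) (typeA_conj D hr hrp h1 ha')
    rwa [mk_smulUnit] at h3
  · exact pgl_conj_of_conj (nonpow_conj hr hrF hrp g g' _ (nonpow_γ D i.2.1 i.2.2.1) h h')

theorem R3 {n : ℕ} (hn : 1 ≤ n) (hr : r.Prime) (hrF : (r : F) ≠ 0) (hrp : Nat.Coprime r p)
    (gbar : PGL F n) (hord : orderOf gbar = r) :
    ∃ (j : Orb n r ⊕ JB n r) (g : GL (Fin n) F), IsRep D j g ∧
      IsConj (QuotientGroup.mk g : PGL F n) gbar := by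
  classical
  haveI : Nonempty (Fin n) := ⟨⟨0, by omega⟩⟩
  obtain ⟨g, rfl⟩ := QuotientGroup.mk_surjective gbar
  obtain ⟨⟨c, hc⟩, hns⟩ := (pgl_order_prime_iff hr g).mp hord
  have hc0 : c ≠ 0 := by
    rintro rfl
    rw [zero_smul, ← Units.val_pow_eq_pow_val] at hc
    exact Units.ne_zero _ hc
  obtain ⟨i, hir, α, hα0, hcα⟩ := D.hpow c hc0
  set h := smulUnit α⁻¹ (inv_ne_zero hα0) g with hh_def
  have hmk : (QuotientGroup.mk h : PGL F n) = QuotientGroup.mk g := mk_smulUnit _ _ g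
  have hhr : (h : Matrix (Fin n) (Fin n) F) ^ r = D.γ ^ i • 1 := by
    rw [hh_def, smulUnit_pow _ _ g r c hc, hcα, inv_pow]
    congr 1
    field_simp
  have hgval : (g : Matrix (Fin n) (Fin n) F) = α • (h : Matrix (Fin n) (Fin n) F) := by
    rw [hh_def, smulUnit_val, smul_smul, mul_inv_cancel₀ hα0, one_smul]
  have hhns : ¬ ∃ z : F, (h : Matrix (Fin n) (Fin n) F) = z • 1 := by
    rintro ⟨z, hz⟩
    exact hns ⟨α * z, by rw [hgval, hz, smul_smul]⟩
  rcases Nat.eq_zero_or_pos i with hi0 | hi1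
  · rw [hi0, pow_zero, one_smul] at hhr
    obtain ⟨a, ha⟩ := typeA_exists D hrF h hhr
    have hsum := typeA_sum D ha
    have hlt : ∀ k, a k < n := by
      intro k
      have h1 : a k ≤ ∑ j, a j := Finset.single_le_sum (fun _ _ => Nat.zero_le _)
        (Finset.mem_univ k)
      rcases Nat.lt_or_ge (a k) n with h2 | h2
      · exact h2
      · exfalso
        apply hhns
        rw [typeA_scalar_iff D hn hr hrp ha]
        exact ⟨k, by omega⟩
    refine ⟨Sum.inl (Quotient.mk _ ⟨a, hsum, hlt⟩), h, ⟨⟨a, hsum, hlt⟩, rfl, ha⟩, ?_⟩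
    rw [hmk]
  · have hnp := nonpow_γ D hi1 hir
    obtain ⟨b, _, hbn⟩ := nonpow_charpoly hr hrF h _ hnp hhr
    refine ⟨Sum.inr ⟨i, hi1, hir, ⟨b, hbn.symm⟩⟩, h, hhr, ?_⟩
    rw [hmk]

theorem R4 {n : ℕ} (hn : 1 ≤ n) (hr : r.Prime)
    (j j' : Orb n r ⊕ JB n r) {g g' : GL (Fin n) F} (h : IsRep D j g) (h' : IsRep D j' g')
    (hconj : IsConj (QuotientGroup.mk g : PGL F n) (QuotientGroup.mk g')) : j = j' := by
  classical
  haveI : Nonempty (Fin n) := ⟨⟨0, by omega⟩⟩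
  obtain ⟨x, ζ, hx⟩ := pgl_conj_lift g g' hconj
  have hζ0 : ζ ≠ 0 := by
    rintro rfl
    rw [zero_smul] at hx
    exact Units.ne_zero _ hx
  obtain ⟨i, hir, hgi, hi0, hii⟩ := isRep_pow D j h
  obtain ⟨i', hir', hgi', hi0', hii'⟩ := isRep_pow D j' h'
  have hp1 := conj_pow_smul x g r _ hgi
  have hp2 : ((x * g * x⁻¹ : GL (Fin n) F) : Matrix (Fin n) (Fin n) F) ^ r =
      (ζ ^ r * D.γ ^ i') • 1 := by
    rw [hx, _root_.smul_pow, hgi', smul_smul]
  have hγ : D.γ ^ i = ζ ^ r * D.γ ^ i' := smul_one_inj hn (hp1.symm.trans hp2)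
  have hii_eq : i = i' := D.huniq i i' hir hir' ⟨ζ, by rw [hγ, mul_comm]⟩
  subst hii_eq
  have hζr : ζ ^ r = 1 := by
    have h1 : D.γ ^ i ≠ 0 := pow_ne_zero _ D.hγ0
    have h2 : ζ ^ r * D.γ ^ i = 1 * D.γ ^ i := by rw [← hγ, one_mul]
    exact mul_right_cancel₀ h1 h2
  rcases j with o | k
  · rcases j' with o' | k'
    · -- both type A
      obtain ⟨a, hao, ha⟩ := h
      obtain ⟨a', hao', ha'⟩ := h'
      obtain ⟨s, hs⟩ := roots_of_unity D ζ hζr
      have h1 := typeA_of_conj D ha x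
      have h2 := typeA_smul D ha' s
      have h3 : x * g * x⁻¹ = smulUnit (D.ω ^ (s : ℕ)) (pow_ne_zero _ (ω_ne_zero D)) g' := by
        apply Units.ext
        rw [hx, hs, smulUnit_val]
      rw [h3] at h1
      have h4 := typeA_unique D h1 h2
      congr 1
      rw [← hao, ← hao']
      apply Quotient.sound
      show (MulAction.orbitRel (Multiplicative (Fin r)) (Tset n r)) a a'
      rw [MulAction.orbitRel_apply, MulAction.mem_orbit_iff]
      refine ⟨Multiplicative.ofAdd s, ?_⟩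
      apply Subtype.ext
      rw [tset_smul_val]
      exact h4.symm
    · exfalso
      have e1 := hi0.mp ⟨o, rfl⟩
      have e2 := hii' k' rfl
      have := k'.2.1
      omega
  · rcases j' with o' | k'
    · exfalso
      have e1 := hi0'.mp ⟨o', rfl⟩
      have e2 := hii k rfl
      have := k.2.1
      omega
    · have e1 := hii k rfl
      have e2 := hii' k' rfl
      congr 1
      exact Subtype.ext (e1.trans e2.symm)

theorem card_J {n : ℕ} (hn : 1 ≤ n) (hr : r.Prime) :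
    Nat.card (Orb n r ⊕ JB n r) =
      (Nat.choose (n + r - 1) (r - 1) - r - (if r ∣ n then 1 else 0)) / r +
        r * (if r ∣ n then 1 else 0) := by
  classical
  have hJB : Nat.card (JB n r) = (r - 1) * (if r ∣ n then 1 else 0) := by
    by_cases hd : r ∣ n
    · rw [if_pos hd, mul_one]
      have : ∀ i, (1 ≤ i ∧ i < r ∧ r ∣ n) ↔ i ∈ Finset.Ico 1 r := by
        intro i
        rw [Finset.mem_Ico]
        exact ⟨fun h => ⟨h.1, h.2.1⟩, fun h => ⟨h.1, h.2, hd⟩⟩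
      rw [Nat.card_congr (Equiv.subtypeEquivRight this), Nat.card_eq_fintype_card,
        Fintype.card_coe, Nat.card_Ico]
    · rw [if_neg hd, mul_zero]
      haveI : IsEmpty (JB n r) := ⟨fun i => hd i.2.2.2⟩
      exact Nat.card_of_isEmpty
  haveI : Finite (JB n r) := by
    apply Finite.of_injective (fun i : JB n r => (⟨i.1, i.2.2.1⟩ : Fin r))
    intro a b h
    exact Subtype.ext (Fin.mk.inj_iff.mp h)
  have hT := card_T_add n r hn hr.pos
  have hO := card_orbits (n := n) hn hr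
  rw [Nat.card_sum, hJB]
  have hO' : Nat.card (Orb n r) =
      (Nat.card (Tset n r) + (r - 1) * (if r ∣ n then 1 else 0)) / r := by
    rw [← hO, Nat.mul_div_cancel _ hr.pos]
  rw [hO', ← hT]
  have hr2 := hr.two_le
  by_cases hd : r ∣ n
  · simp only [if_pos hd, mul_one]
    have hT1 : 1 ≤ Nat.card (Tset n r) := by
      by_contra hlt
      have h0 : Nat.card (Tset n r) = 0 := by omega
      rw [h0, zero_add, if_pos hd, mul_one] at hO
      have : r ∣ r - 1 := ⟨_, by rw [mul_comm]; exact hO.symm⟩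
      have := Nat.le_of_dvd (by omega) this
      omega
    have e1 : Nat.card (Tset n r) + r - r - 1 = Nat.card (Tset n r) - 1 := by omega
    have e2 : Nat.card (Tset n r) + (r - 1) = (Nat.card (Tset n r) - 1) + r := by omega
    rw [e1, e2, Nat.add_div_right _ hr.pos]
    omega
  · simp only [if_neg hd, mul_zero, add_zero, Nat.sub_zero]
    rw [Nat.add_sub_cancel]

include D in
theorem pgl_prime_classes {n : ℕ} (hn : 1 ≤ n) (hr : r.Prime) (hrF : (r : F) ≠ 0)
    (hrp : Nat.Coprime r p) :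
    Nat.card {C : ConjClasses (PGL F n) //
      ∃ g : PGL F n, ConjClasses.mk g = C ∧ orderOf g = r} =
      (Nat.choose (n + r - 1) (r - 1) - r - (if r ∣ n then 1 else 0)) / r +
        r * (if r ∣ n then 1 else 0) := by
  classical
  rw [← card_J (n := n) hn hr]
  symm
  have hrep : ∀ j : Orb n r ⊕ JB n r, ∃ g : GL (Fin n) F, IsRep D j g := fun j => R0 D hr j
  choose rep hrep using hrep
  let f : Orb n r ⊕ JB n r → {C : ConjClasses (PGL F n) //
      ∃ g : PGL F n, ConjClasses.mk g = C ∧ orderOf g = r} :=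
    fun j => ⟨ConjClasses.mk (QuotientGroup.mk (rep j)), QuotientGroup.mk (rep j), rfl,
      R1 D hn hr hrp j (hrep j)⟩
  apply Nat.card_eq_of_bijective f
  constructor
  · intro j j' h
    have h1 : ConjClasses.mk (QuotientGroup.mk (rep j) : PGL F n) =
        ConjClasses.mk (QuotientGroup.mk (rep j')) := congrArg Subtype.val h
    have h2 := ConjClasses.mk_eq_mk_iff_isConj.mp h1
    exact R4 D hn hr j j' (hrep j) (hrep j') h2
  · rintro ⟨C, gbar, rfl, hord⟩
    obtain ⟨j, g, hg, hconj⟩ := R3 D hn hr hrF hrp gbar hord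
    refine ⟨j, ?_⟩
    apply Subtype.ext
    show ConjClasses.mk (QuotientGroup.mk (rep j) : PGL F n) = ConjClasses.mk gbar
    rw [ConjClasses.mk_eq_mk_iff_isConj]
    exact (R2 D hr hrF hrp j (hrep j) hg).trans hconj

end

end Cfsg.Agent.Lib.Helper7_PGLPrimeD
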