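import Mathlib
import Cfsg.Agent.Lib.Helper7_PGLPrimeD
set_option autoImplicit false
open Polynomial

namespace Cfsg.Agent.Lib.Helper7_PGLPrimeE

universe u

open Cfsg.Agent.Lib.Helper7_PGLInvB Cfsg.Agent.Lib.Helper7_PGLInvC
  Cfsg.Agent.Lib.Helper7_PGLPrimeB Cfsg.Agent.Lib.Helper7_PGLPrimeD

theorem exists_rootData {F : Type u} [Field F] [Fintype F] {r : ℕ} (hr : r.Prime)
    (hrq : r ∣ Fintype.card F - 1) : Nonempty (RootData F r) := by
  classical
  obtain ⟨γu, hγu⟩ := IsCyclic.exists_generator (α := Fˣ)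
  have hord : orderOf γu = Fintype.card F - 1 := by
    rw [orderOf_eq_card_of_forall_mem_zpowers hγu, Nat.card_eq_fintype_card, Fintype.card_units]
  have hq1 : 1 ≤ Fintype.card F - 1 := by
    have := Fintype.one_lt_card (α := F); omega
  have hr2 := hr.two_le
  set m := (Fintype.card F - 1) / r with hm_def
  have hm : m * r = Fintype.card F - 1 := Nat.div_mul_cancel hrq
  have hm0 : m ≠ 0 := by
    rintro h0
    rw [h0, zero_mul] at hm
    omega
  have hordω : orderOf (γu ^ m) = r := by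
    rw [orderOf_pow_of_dvd hm0 (by rw [hord, ← hm]; exact dvd_mul_right m r), hord, ← hm,
      Nat.mul_div_cancel_left _ (Nat.pos_of_ne_zero hm0)]
  have hval : ∀ (u : Fˣ) (k : ℕ), ((u ^ k : Fˣ) : F) = (u : F) ^ k := fun u k =>
    Units.val_pow_eq_pow_val u k
  refine ⟨{
    ω := ((γu ^ m : Fˣ) : F)
    γ := (γu : F)
    hω := ?_
    hinj := ?_
    hγ0 := Units.ne_zero γu
    hpow := ?_
    huniq := ?_ }⟩
  · rw [← hval, ← Units.val_one, Units.val_inj, ← hordω]
    exact pow_orderOf_eq_one _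
  · intro i j hij
    rw [← hval, ← hval, Units.val_inj] at hij
    have hi : (i : ℕ) ∈ Set.Iio (orderOf (γu ^ m)) := by rw [hordω]; exact i.2
    have hj : (j : ℕ) ∈ Set.Iio (orderOf (γu ^ m)) := by rw [hordω]; exact j.2
    exact Fin.ext (pow_injOn_Iio_orderOf hi hj hij)
  · intro c hc
    have h1 : Units.mk0 c hc ∈ Subgroup.zpowers γu := hγu _
    rw [← mem_powers_iff_mem_zpowers, Submonoid.mem_powers_iff] at h1
    obtain ⟨k, hk⟩ := h1
    refine ⟨k % r, Nat.mod_lt _ hr.pos, (γu : F) ^ (k / r), pow_ne_zero _ (Units.ne_zero γu), ?_⟩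
    have h2 : c = (γu : F) ^ k := by
      rw [← hval, hk]; rfl
    rw [h2, ← pow_mul, ← pow_add]
    congr 1
    rw [mul_comm, add_comm]
    exact (Nat.div_add_mod k r).symm
  · rintro i i' hi hi' ⟨α, hα⟩
    have hα0 : α ≠ 0 := by
      rintro rfl
      rw [zero_pow hr.ne_zero, mul_zero] at hα
      exact pow_ne_zero _ (Units.ne_zero γu) hα
    have h1 : Units.mk0 α hα0 ∈ Subgroup.zpowers γu := hγu _
    rw [← mem_powers_iff_mem_zpowers, Submonoid.mem_powers_iff] at h1
    obtain ⟨k, hk⟩ := h1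
    have hαk : α = (γu : F) ^ k := by
      rw [← hval, hk]; rfl
    have h2 : γu ^ i = γu ^ (i' + k * r) := by
      apply Units.ext
      rw [hval, hval, hα, hαk, pow_add, pow_mul]
    rw [pow_eq_pow_iff_modEq, hord] at h2
    have h3 : i' + k * r ≡ i [MOD r] := (Nat.ModEq.of_dvd hrq h2).symm
    have h4 : (i' + k * r) % r = i % r := h3
    rw [Nat.add_mul_mod_self_right, Nat.mod_eq_of_lt hi, Nat.mod_eq_of_lt hi'] at h4
    exact h4.symm

theorem main {F : Type u} [Field F] [Fintype F] {q : ℕ} (hF : Fintype.card F = q) {n r : ℕ}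
    (hn : 2 ≤ n) (hr : r.Prime) (hrq : r ∣ q - 1) :
    Nat.card {C : ConjClasses (GL (Fin n) F ⧸ Subgroup.center (GL (Fin n) F)) //
      ∃ g : GL (Fin n) F ⧸ Subgroup.center (GL (Fin n) F), ConjClasses.mk g = C ∧ orderOf g = r} =
      (Nat.choose (n + r - 1) (r - 1) - r - (if r ∣ n then 1 else 0)) / r +
        r * (if r ∣ n then 1 else 0) := by
  classical
  obtain ⟨p, hp⟩ := CharP.exists F
  haveI := hp
  haveI : Fact p.Prime := ⟨CharP.char_is_prime F p⟩
  have hpp : p.Prime := Fact.out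
  haveI : NeZero r := ⟨hr.ne_zero⟩
  subst hF
  have hrp : Nat.Coprime r p :=
    Nat.Coprime.coprime_dvd_left hrq (coprime_card_sub_one (F := F) (p := p))
  have hrF : (r : F) ≠ 0 := by
    intro h0
    have h1 : p ∣ r := (CharP.cast_eq_zero_iff F p r).mp h0
    have h2 : p ∣ Nat.gcd r p := Nat.dvd_gcd h1 dvd_rfl
    rw [Nat.Coprime] at hrp
    rw [hrp] at h2
    exact hpp.one_lt.ne' (Nat.dvd_one.mp h2)
  obtain ⟨D⟩ := exists_rootData (F := F) hr hrq
  exact pgl_prime_classes (p := p) D (by omega) hr hrF hrp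

end Cfsg.Agent.Lib.Helper7_PGLPrimeE
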