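import Mathlib
import Cfsg.Prelude
import Cfsg.Agent.Lib.Helper7_NPC
import Cfsg.Agent.Lib.Helper7_OmegaAut
import Cfsg.Agent.Lib.Lead_Coprime
import Cfsg.Agent.Lib.Helper7_Basic
import Cfsg.Agent.Lib.Helper5_Sylow

set_option autoImplicit false

/-! Elements of `p`-power index; normal `p`-complements from `p`-power class sizes of minimal
`p`-elements. -/

namespace Cfsg.Agent.Lib.Helper7_PPowerIndex

open Subgroup
open scoped commutatorElement

variable {G : Type*} [Group G] [Finite G]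

/-- subgroups of coprime indices: `G = H K`. -/
theorem exists_mul_of_coprime_index (H K : Subgroup G) (hcop : (H.index).Coprime K.index) (g : G) :
    ∃ h ∈ H, ∃ k ∈ K, g = h * k := by
  have hH0 : H.index ≠ 0 := index_ne_zero_of_finite
  have h1 : K.relIndex H * H.index = (H ⊓ K).index := by
    rw [← relIndex_mul_index (inf_le_left : H ⊓ K ≤ H), inf_comm, inf_relIndex_right]
  have h2 : H.relIndex K * K.index = (H ⊓ K).index := by
    rw [← relIndex_mul_index (inf_le_right : H ⊓ K ≤ K), inf_relIndex_right]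
  have h3 : K.index ∣ K.relIndex H := by
    have : K.index ∣ K.relIndex H * H.index := by rw [h1, ← h2]; exact dvd_mul_left _ _
    exact hcop.symm.dvd_of_dvd_mul_right this
  have h4 : K.relIndex H ≤ K.index := by
    have := index_inf_le (H := H) (K := K)
    rw [← h1] at this
    have h5 : K.relIndex H * H.index ≤ K.index * H.index := by rw [mul_comm K.index]; exact this
    exact Nat.le_of_mul_le_mul_right h5 (Nat.pos_of_ne_zero hH0)
  have h5 : K.relIndex H = K.index :=
    Nat.le_antisymm h4 (Nat.le_of_dvd (Nat.pos_of_ne_zero index_ne_zero_of_finite) h3)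
  -- the map on cosets
  let f : H ⧸ K.subgroupOf H → G ⧸ K :=
    Quotient.map' (fun h : H => (h : G)) (fun a b hab => by
      rw [QuotientGroup.leftRel_apply] at hab ⊢
      exact hab)
  have hf : Function.Injective f := by
    intro a b
    induction a using QuotientGroup.induction_on with
    | H a =>
      induction b using QuotientGroup.induction_on with
      | H b =>
        intro hab
        have h6 : ((a : G) : G ⧸ K) = ((b : G) : G ⧸ K) := hab
        rw [QuotientGroup.eq] at h6 ⊢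
        exact h6
  have hcard : Nat.card (G ⧸ K) ≤ Nat.card (H ⧸ K.subgroupOf H) := by
    rw [← Subgroup.index_eq_card, ← Subgroup.index_eq_card, ← h5]
    rfl
  have hbij := hf.bijective_of_nat_card_le hcard
  obtain ⟨a, ha⟩ := hbij.2 (g : G ⧸ K)
  induction a using QuotientGroup.induction_on with
  | H a =>
    have h6 : ((a : G) : G ⧸ K) = (g : G ⧸ K) := ha
    rw [QuotientGroup.eq] at h6
    exact ⟨a, a.2, _, h6, by group⟩

variable {p : ℕ} [Fact p.Prime]

/-- for `x` of `p`-power index, `G`-conjugates of `x` are conjugates under any Sylow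
`p`-subgroup. -/
theorem exists_conj_sylow (T : Sylow p G) (x : G) (a : ℕ)
    (hidx : (centralizer ({x} : Set G)).index = p ^ a) (w : G) :
    ∃ t ∈ T, w * x * w⁻¹ = t * x * t⁻¹ := by
  have hcop : ((T : Subgroup G).index).Coprime (centralizer ({x} : Set G)).index := by
    rw [hidx]
    exact Nat.Coprime.pow_right a
      ((Nat.Prime.coprime_iff_not_dvd Fact.out).mpr T.not_dvd_index).symm
  obtain ⟨t, ht, c, hc, rfl⟩ :=
    exists_mul_of_coprime_index (T : Subgroup G) (centralizer ({x} : Set G)) hcop w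
  refine ⟨t, ht, ?_⟩
  rw [mem_centralizer_singleton_iff] at hc
  calc t * c * x * (t * c)⁻¹ = t * (c * x * c⁻¹) * t⁻¹ := by group
    _ = t * x * t⁻¹ := by rw [hc]; group

/-- the normal closure of a `p`-element of `p`-power index lies in every Sylow `p`-subgroup
containing it. -/
theorem normalClosure_le_sylow (T : Sylow p G) (x : G) (hxT : x ∈ T) (a : ℕ)
    (hidx : (centralizer ({x} : Set G)).index = p ^ a) :
    normalClosure ({x} : Set G) ≤ T := by
  rw [normalClosure, closure_le]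
  intro y hy
  rw [Group.mem_conjugatesOfSet_iff] at hy
  obtain ⟨b, hb, hby⟩ := hy
  rw [Set.mem_singleton_iff] at hb
  subst hb
  obtain ⟨c, hc⟩ := isConj_iff.mp hby
  obtain ⟨t, ht, hct⟩ := exists_conj_sylow T b a hidx c
  rw [SetLike.mem_coe, ← hc, hct]
  exact mul_mem (mul_mem ht hxT) (inv_mem ht)

theorem no_bad
    (h : ∀ x : G, (orderOf x = p ∨ (p = 2 ∧ orderOf x = 4)) →
      ∃ a : ℕ, (centralizer ({x} : Set G)).index = p ^ a)
    (Q : Subgroup G) (hQ : IsPGroup p Q) (g : G) (hg : g ∈ normalizer (Q : Set G))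
    (hcop : (orderOf g).Coprime p) :
    ∀ n : ℕ, ∀ x ∈ Q, (x ^ p = 1 ∨ (p = 2 ∧ x ^ 4 = 1)) → g * x ≠ x * g →
      Nat.card (normalClosure ({x} : Set G)) = n → False := by
  have hp := (Fact.out : p.Prime)
  intro n
  induction n using Nat.strong_induction_on with
  | _ n ih =>
  intro x hxQ hxo hxg hn
  have hx1 : x ≠ 1 := by
    rintro rfl
    exact hxg (by simp)
  have hord : orderOf x = p ∨ (p = 2 ∧ orderOf x = 4) := by
    rcases hxo with h1 | ⟨h2, h4⟩
    · left
      have hd := orderOf_dvd_of_pow_eq_one h1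
      rcases (Nat.dvd_prime hp).mp hd with h3 | h3
      · exact absurd (orderOf_eq_one_iff.mp h3) hx1
      · exact h3
    · have hd : orderOf x ∣ 2 ^ 2 := orderOf_dvd_of_pow_eq_one (by norm_num; exact h4)
      obtain ⟨k, hk, hk2⟩ := (Nat.dvd_prime_pow Nat.prime_two).mp hd
      interval_cases k
      · exact absurd (orderOf_eq_one_iff.mp (by simpa using hk2)) hx1
      · left; rw [h2]; simpa using hk2
      · right; exact ⟨h2, by simpa using hk2⟩
  obtain ⟨a, ha⟩ := h x hord
  have hxp : ∃ k : ℕ, orderOf x = p ^ k := by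
    rcases hord with h1 | ⟨h2, h4⟩
    · exact ⟨1, by rw [h1, pow_one]⟩
    · exact ⟨2, by rw [h4, h2]; norm_num⟩
  obtain ⟨T, hxT⟩ := Cfsg.Agent.Lib.Helper7_Basic.pElement_mem_sylow (p := p) x hxp
  set X : Subgroup G := normalClosure ({x} : Set G) with hX
  have hXT : X ≤ T := normalClosure_le_sylow T x hxT a ha
  have hxX : x ∈ X := subset_normalClosure (Set.mem_singleton x)
  have hXne : X ≠ ⊥ := by
    intro hb
    rw [hb, Subgroup.mem_bot] at hxX
    exact hx1 hxX
  have hXn : X.Normal := normalClosure_normal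
  have hXp : IsPGroup p X := T.isPGroup'.to_le hXT
  have hTN : (T : Subgroup G) ≤ normalizer (X : Set G) := by
    rw [normalizer_eq_top]; exact le_top
  have hlt : ⁅X, (T : Subgroup G)⁆ < X :=
    Cfsg.Agent.Lib.Lead_Coprime.commutator_lt_of_pgroup p X T hXp T.isPGroup' hTN hXne
  set Y : Subgroup G := normalClosure {z : G | ∃ w : G, z = x⁻¹ * (w * x * w⁻¹)} with hY
  have hYn : Y.Normal := normalClosure_normal
  have hYle : Y ≤ ⁅X, (T : Subgroup G)⁆ := by
    rw [hY, normalClosure, closure_le]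
    intro y hy
    rw [Group.mem_conjugatesOfSet_iff] at hy
    obtain ⟨b, ⟨w, rfl⟩, hby⟩ := hy
    obtain ⟨c, hc⟩ := isConj_iff.mp hby
    obtain ⟨t₁, ht₁, hct₁⟩ := exists_conj_sylow T x a ha c
    obtain ⟨t₂, ht₂, hct₂⟩ := exists_conj_sylow T x a ha (c * w)
    have hy1 : t₁ * x * t₁⁻¹ ∈ X := hXn.conj_mem x hxX t₁
    have e : y = ⁅(t₁ * x * t₁⁻¹)⁻¹, t₂ * t₁⁻¹⁆ := by
      rw [← hc, commutatorElement_def]
      have e1 : c * (x⁻¹ * (w * x * w⁻¹)) * c⁻¹ = (c * x * c⁻¹)⁻¹ * (c * w * x * (c * w)⁻¹) := by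
        group
      rw [e1, hct₁, hct₂]
      group
    rw [SetLike.mem_coe, e]
    exact Subgroup.commutator_mem_commutator (inv_mem hy1) (mul_mem ht₂ (inv_mem ht₁))
  have hYcard : Nat.card Y < Nat.card X :=
    lt_of_le_of_lt (Subgroup.card_le_of_le hYle) (Cfsg.Agent.Lib.Helper5_Sylow.card_lt_of_lt hlt)
  have hgx : g * x * g⁻¹ ∈ Q := (mem_normalizer_iff.mp hg x).mp hxQ
  have hz₀ : x⁻¹ * (g * x * g⁻¹) ∈ Y ⊓ Q := by
    refine Subgroup.mem_inf.mpr ⟨?_, mul_mem (inv_mem hxQ) hgx⟩
    exact subset_normalClosure ⟨g, rfl⟩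
  have hgN : g ∈ normalizer ((Y ⊓ Q : Subgroup G) : Set G) := by
    rw [mem_normalizer_iff]
    intro y
    rw [Subgroup.mem_inf, Subgroup.mem_inf]
    constructor
    · rintro ⟨hy1, hy2⟩
      exact ⟨hYn.conj_mem y hy1 g, (mem_normalizer_iff.mp hg y).mp hy2⟩
    · rintro ⟨hy1, hy2⟩
      refine ⟨?_, (mem_normalizer_iff.mp hg y).mpr hy2⟩
      have := hYn.conj_mem _ hy1 g⁻¹
      simpa [mul_assoc] using this
  by_cases hall : ∀ b ∈ (Y ⊓ Q : Subgroup G), (b ^ p = 1 ∨ (p = 2 ∧ b ^ 4 = 1)) → g * b = b * g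
  · have hgC := Cfsg.Agent.Lib.Helper7_OmegaAut.mem_centralizer_of_omega g hcop (Y ⊓ Q)
      (hQ.to_le inf_le_right) hgN hall
    have hcomm : g * (x⁻¹ * (g * x * g⁻¹)) = (x⁻¹ * (g * x * g⁻¹)) * g :=
      (mem_centralizer_iff.mp hgC _ hz₀).symm
    have hzp : ∃ k : ℕ, (x⁻¹ * (g * x * g⁻¹)) ^ (p ^ k) = 1 := by
      obtain ⟨k, hk⟩ := hQ ⟨_, (Subgroup.mem_inf.mp hz₀).2⟩
      refine ⟨k, ?_⟩
      have := congrArg Subtype.val hk
      simpa using this
    have h1 := Cfsg.Agent.Lib.Helper7_OmegaAut.eq_one_of_conj_eq_mul (p := p) g x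
      (x⁻¹ * (g * x * g⁻¹)) (by group) hcomm hzp hcop
    apply hxg
    have h2 : g * x * g⁻¹ = x := by
      have : g * x * g⁻¹ = x * (x⁻¹ * (g * x * g⁻¹)) := by group
      rw [this, h1, mul_one]
    calc g * x = (g * x * g⁻¹) * g := by group
      _ = x * g := by rw [h2]
  · push Not at hall
    obtain ⟨b, hb, hbo, hbg⟩ := hall
    have hle : normalClosure ({b} : Set G) ≤ Y :=
      normalClosure_le_normal (Set.singleton_subset_iff.mpr (Subgroup.mem_inf.mp hb).1)
    have hcard : Nat.card (normalClosure ({b} : Set G)) < n := by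
      rw [← hn]
      exact lt_of_le_of_lt (Subgroup.card_le_of_le hle) hYcard
    exact ih _ hcard b (Subgroup.mem_inf.mp hb).2 hbo hbg rfl

/-- If every element of order `p` (and `4` when `p = 2`) has `p`-power index, then Frobenius'
criterion holds. -/
theorem frobHyp_of_ppower
    (h : ∀ x : G, (orderOf x = p ∨ (p = 2 ∧ orderOf x = 4)) →
      ∃ a : ℕ, (centralizer ({x} : Set G)).index = p ^ a) :
    Cfsg.Agent.Lib.Helper7_NPC.FrobHyp p G := by
  intro Q hQ g hg hcop
  apply Cfsg.Agent.Lib.Helper7_OmegaAut.mem_centralizer_of_omega g hcop Q hQ hg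
  intro b hb hbo
  by_contra hbg
  exact no_bad h Q hQ g hg hcop _ b hb hbo hbg rfl

end Cfsg.Agent.Lib.Helper7_PPowerIndex
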