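import Mathlib

namespace Cfsg.Agent.H7Part

open Multiset

theorem exists_min_part (m : Multiset ℕ) (h : m ≠ 0) : ∃ k ∈ m, ∀ a ∈ m, k ≤ a := by
  have hne : m.toFinset.Nonempty := by
    rwa [Finset.nonempty_iff_ne_empty, Ne, Multiset.toFinset_eq_empty]
  exact ⟨m.toFinset.min' hne, Multiset.mem_toFinset.mp (Finset.min'_mem _ _),
    fun a ha => Finset.min'_le _ _ (Multiset.mem_toFinset.mpr ha)⟩

noncomputable def minPart (m : Multiset ℕ) : ℕ :=
  if h : m = 0 then 0 else (exists_min_part m h).choose

theorem minPart_mem {m : Multiset ℕ} (h : m ≠ 0) : minPart m ∈ m := by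
  unfold minPart; rw [dif_neg h]; exact (exists_min_part m h).choose_spec.1

theorem minPart_le {m : Multiset ℕ} {a : ℕ} (ha : a ∈ m) : minPart m ≤ a := by
  have h : m ≠ 0 := by rintro rfl; simp at ha
  unfold minPart; rw [dif_neg h]; exact (exists_min_part m h).choose_spec.2 a ha

/-- multiset-level step map -/
noncomputable def stepM (m : Multiset ℕ) : Multiset ℕ :=
  if 1 ∈ m then m.erase 1 else (minPart m - 1) ::ₘ m.erase (minPart m)

theorem stepM_pos {m : Multiset ℕ} (hpos : ∀ i ∈ m, 0 < i) (hne : m ≠ 0) :
    ∀ i ∈ stepM m, 0 < i := by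
  intro i hi
  unfold stepM at hi
  split_ifs at hi with h1
  · exact hpos i (Multiset.mem_of_mem_erase hi)
  · rw [Multiset.mem_cons] at hi
    rcases hi with rfl | hi
    · have hk := minPart_mem hne
      have h0 := hpos _ hk
      have : minPart m ≠ 1 := fun h => h1 (h ▸ hk)
      omega
    · exact hpos i (Multiset.mem_of_mem_erase hi)

theorem stepM_sum {m : Multiset ℕ} (hpos : ∀ i ∈ m, 0 < i) (hne : m ≠ 0) :
    (stepM m).sum + 1 = m.sum := by
  unfold stepM
  split_ifs with h1
  · have := Multiset.sum_erase h1
    omega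
  · have hk := minPart_mem hne
    have h0 := hpos _ hk
    have := Multiset.sum_erase hk
    rw [Multiset.sum_cons]
    omega

theorem stepM_inj {m m' : Multiset ℕ} (hpos : ∀ i ∈ m, 0 < i) (hne : m ≠ 0)
    (hpos' : ∀ i ∈ m', 0 < i) (hne' : m' ≠ 0) (h1 : 1 ∈ m ↔ 1 ∈ m')
    (h : stepM m = stepM m') : m = m' := by
  unfold stepM at h
  by_cases h1m : 1 ∈ m
  · have h1m' := h1.mp h1m
    rw [if_pos h1m, if_pos h1m'] at h
    rw [← Multiset.cons_erase h1m, ← Multiset.cons_erase h1m', h]
  · have h1m' : 1 ∉ m' := fun hh => h1m (h1.mpr hh)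
    rw [if_neg h1m, if_neg h1m'] at h
    have hk := minPart_mem hne
    have hk' := minPart_mem hne'
    have hk0 := hpos _ hk
    have hk0' := hpos' _ hk'
    have hk1 : minPart m ≠ 1 := fun hh => h1m (hh ▸ hk)
    have hk1' : minPart m' ≠ 1 := fun hh => h1m' (hh ▸ hk')
    have e1 : minPart m - 1 ∈ (minPart m' - 1) ::ₘ m'.erase (minPart m') := by
      rw [← h]; exact Multiset.mem_cons_self _ _
    have e2 : minPart m' - 1 ∈ (minPart m - 1) ::ₘ m.erase (minPart m) := by
      rw [h]; exact Multiset.mem_cons_self _ _
    have hkk : minPart m = minPart m' := by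
      rw [Multiset.mem_cons] at e1 e2
      rcases e1 with e1 | e1
      · omega
      · have a1 := minPart_le (Multiset.mem_of_mem_erase e1)
        rcases e2 with e2 | e2
        · omega
        · have a2 := minPart_le (Multiset.mem_of_mem_erase e2)
          omega
    rw [hkk] at h
    have h2 := (Multiset.cons_inj_right _).mp h
    rw [← Multiset.cons_erase hk, ← Multiset.cons_erase hk', hkk, h2]

noncomputable def step (n : ℕ) (p : Nat.Partition (n + 1)) : Nat.Partition n × Bool :=
  (⟨stepM p.parts, fun {i} hi => stepM_pos (fun j hj => p.parts_pos hj)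
      (by intro h; have := p.parts_sum; rw [h] at this; simp at this) i hi,
    by
      have := stepM_sum (m := p.parts) (fun j hj => p.parts_pos hj)
        (by intro h; have := p.parts_sum; rw [h] at this; simp at this)
      have h2 := p.parts_sum
      omega⟩, decide (1 ∈ p.parts))

theorem step_injective (n : ℕ) : Function.Injective (step n) := by
  intro p q h
  have hp : p.parts ≠ 0 := by intro h; have := p.parts_sum; rw [h] at this; simp at this
  have hq : q.parts ≠ 0 := by intro h; have := q.parts_sum; rw [h] at this; simp at this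
  unfold step at h
  rw [Prod.mk.injEq] at h
  obtain ⟨ha, hb⟩ := h
  have ha' : stepM p.parts = stepM q.parts := congrArg Nat.Partition.parts ha
  have hb' : 1 ∈ p.parts ↔ 1 ∈ q.parts := by simpa using hb
  exact Nat.Partition.ext (stepM_inj (fun j hj => p.parts_pos hj) hp
    (fun j hj => q.parts_pos hj) hq hb' ha')

theorem card_partition_succ_le (n : ℕ) :
    Fintype.card (Nat.Partition (n + 1)) ≤ 2 * Fintype.card (Nat.Partition n) := by
  have := Fintype.card_le_of_injective _ (step_injective n)
  rw [Fintype.card_prod, Fintype.card_bool] at this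
  omega

/-- counts data for partitions of 5 -/
theorem sum_formula5 (p : Nat.Partition 5) :
    p.parts.count 1 + 2 * p.parts.count 2 + 3 * p.parts.count 3 + 4 * p.parts.count 4
      + 5 * p.parts.count 5 = 5 := by
  have hsub : p.parts.toFinset ⊆ Finset.range 6 := by
    intro a ha
    rw [Multiset.mem_toFinset] at ha
    have := Multiset.le_sum_of_mem ha
    rw [p.parts_sum] at this
    rw [Finset.mem_range]; omega
  have h := Finset.sum_multiset_count_of_subset p.parts (Finset.range 6) hsub
  rw [p.parts_sum] at h
  simp only [Finset.sum_range_succ, Finset.sum_range_zero, smul_eq_mul] at h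
  omega

theorem count_zero5 (p : Nat.Partition 5) (a : ℕ) (ha : a = 0 ∨ 6 ≤ a) : p.parts.count a = 0 := by
  rw [Multiset.count_eq_zero]
  intro hmem
  rcases ha with rfl | ha
  · exact absurd (p.parts_pos hmem) (lt_irrefl 0)
  · have := Multiset.le_sum_of_mem hmem
    rw [p.parts_sum] at this
    omega

def S5 : Finset (ℕ × ℕ × ℕ × ℕ) :=
  ((Finset.range 3) ×ˢ (Finset.range 2) ×ˢ (Finset.range 2) ×ˢ (Finset.range 2)).filter
    (fun t => 2 * t.1 + 3 * t.2.1 + 4 * t.2.2.1 + 5 * t.2.2.2 ≤ 5)

theorem S5_card : S5.card = 7 := by decide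

theorem card_partition_five_le : Fintype.card (Nat.Partition 5) ≤ 8 := by
  have h : (Finset.univ : Finset (Nat.Partition 5)).card ≤ S5.card := by
    apply Finset.card_le_card_of_injOn
      (fun p => (p.parts.count 2, p.parts.count 3, p.parts.count 4, p.parts.count 5))
    · intro p _
      have := sum_formula5 p
      simp only [S5, Finset.coe_filter, Set.mem_ofPred_eq, Finset.mem_product, Finset.mem_range]
      refine ⟨⟨?_, ?_, ?_, ?_⟩, ?_⟩ <;> omega
    · intro p _ q _ hpq
      simp only [Prod.mk.injEq] at hpq
      obtain ⟨h2, h3, h4, h5⟩ := hpq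
      have sp := sum_formula5 p
      have sq := sum_formula5 q
      apply Nat.Partition.ext
      rw [Multiset.ext]
      intro a
      by_cases ha : a = 0 ∨ 6 ≤ a
      · rw [count_zero5 p a ha, count_zero5 q a ha]
      · have : a = 1 ∨ a = 2 ∨ a = 3 ∨ a = 4 ∨ a = 5 := by omega
        rcases this with rfl | rfl | rfl | rfl | rfl
        · omega
        · exact h2
        · exact h3
        · exact h4
        · exact h5
  rw [Finset.card_univ, S5_card] at h
  omega

theorem card_partition_le (n : ℕ) (hn : 5 ≤ n) : Fintype.card (Nat.Partition n) ≤ 2 ^ (n - 2) := by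
  induction n, hn using Nat.le_induction with
  | base => exact card_partition_five_le
  | succ n hn ih =>
    have := card_partition_succ_le n
    have e : n + 1 - 2 = (n - 2) + 1 := by omega
    rw [e, pow_succ]
    omega

/-- conjugacy classes of `Perm (Fin n)` inject into partitions of `n`. -/
theorem card_conjClasses_perm_le (n : ℕ) (hn : 5 ≤ n) :
    Nat.card (ConjClasses (Equiv.Perm (Fin n))) ≤ 2 ^ (n - 2) := by
  classical
  let f : ConjClasses (Equiv.Perm (Fin n)) → Nat.Partition (Fintype.card (Fin n)) :=
    Quotient.lift (fun g : Equiv.Perm (Fin n) => g.partition)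
      (fun a b h => Equiv.Perm.partition_eq_of_isConj.mp h)
  have hf : Function.Injective f := by
    intro a b
    refine Quotient.inductionOn₂ a b ?_
    intro x y hxy
    exact Quotient.sound (Equiv.Perm.partition_eq_of_isConj.mpr hxy)
  have h1 := Nat.card_le_card_of_injective f hf
  rw [Nat.card_eq_fintype_card (α := Nat.Partition (Fintype.card (Fin n)))] at h1
  have h2 : Fintype.card (Nat.Partition (Fintype.card (Fin n))) = Fintype.card (Nat.Partition n) := by
    rw [Fintype.card_fin]
  rw [h2] at h1
  exact h1.trans (card_partition_le n hn)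

end Cfsg.Agent.H7Part
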