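import Mathlib
import Cfsg.Agent.Lib.Helper7_Basic
import Cfsg.Agent.Lib.Helper7_FrobDiv

set_option autoImplicit false

/-! Counting conjugacy classes of `π`-elements: `k_π(G) ≤ |G|_π`. -/

namespace Cfsg.Agent.Lib.Helper7_PiClasses

open Cfsg.Agent.Lib.Helper7_FrobDiv
open scoped Classical

universe u

/-- `g` is an `s`-element: every prime dividing its order lies in `s`. -/
def piElt {H : Type*} [Group H] (s : Finset ℕ) (g : H) : Prop :=
  ∀ q : ℕ, q.Prime → q ∣ orderOf g → q ∈ s

/-- the `s`-part of `n`. -/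
def sPart (s : Finset ℕ) (n : ℕ) : ℕ := ∏ q ∈ s, q ^ (n.factorization q)

theorem sPart_insert {s : Finset ℕ} {p : ℕ} (hp : p ∉ s) (n : ℕ) :
    sPart (insert p s) n = p ^ (n.factorization p) * sPart s n := by
  unfold sPart
  rw [Finset.prod_insert hp]

theorem sPart_le_of_dvd (s : Finset ℕ) (hs : ∀ q ∈ s, q.Prime) {d n : ℕ} (hd : d ≠ 0) (hn : n ≠ 0)
    (h : d ∣ n) : sPart s d ≤ sPart s n := by
  unfold sPart
  apply Finset.prod_le_prod'
  intro q hq
  apply Nat.pow_le_pow_right (hs q hq).pos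
  exact (Nat.factorization_le_iff_dvd hd hn).mpr h q

section sylow
variable {H : Type u} [Group H] [Finite H]

/-- pairs `(x, h)` with `x` a `p`-element and `h ∈ C(x)`: at most `|P| |H|`. -/
theorem card_pElt_pairs (p : ℕ) [hp : Fact p.Prime] :
    Nat.card {xh : H × H // xh.1 ^ (p ^ (Nat.card H).factorization p) = 1 ∧ Commute xh.1 xh.2} ≤
      p ^ (Nat.card H).factorization p * Nat.card H := by
  let P : Sylow p H := default
  have hPcard : Nat.card (P : Subgroup H) = p ^ (Nat.card H).factorization p :=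
    Sylow.card_eq_multiplicity P
  have hconj : ∀ x : H, ∃ g : H, x ^ (p ^ (Nat.card H).factorization p) = 1 →
      g * x * g⁻¹ ∈ (P : Subgroup H) := by
    intro x
    by_cases hx : x ^ (p ^ (Nat.card H).factorization p) = 1
    · obtain ⟨j, -, hj⟩ := (Nat.dvd_prime_pow hp.out).mp (orderOf_dvd_of_pow_eq_one hx)
      obtain ⟨Q, hQ⟩ := Helper7_Basic.pElement_mem_sylow (p := p) x ⟨j, hj⟩
      obtain ⟨g, hg⟩ := MulAction.exists_smul_eq H P Q
      rw [← hg, Helper7_Basic.mem_smul_sylow] at hQ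
      refine ⟨g⁻¹, fun _ => ?_⟩
      rw [inv_inv]; exact hQ
    · exact ⟨1, fun h => absurd h hx⟩
  choose γ hγ using hconj
  have key := Nat.card_le_card_of_injective
    (fun xh : {xh : H × H // xh.1 ^ (p ^ (Nat.card H).factorization p) = 1 ∧ Commute xh.1 xh.2} =>
      ((⟨γ xh.1.1 * xh.1.1 * (γ xh.1.1)⁻¹, hγ xh.1.1 xh.2.1⟩ : (P : Subgroup H)), γ xh.1.1 * xh.1.2))
    ?_
  · rwa [Nat.card_prod, hPcard] at key
  rintro ⟨⟨x, h⟩, hx, hc⟩ ⟨⟨x', h'⟩, hx', hc'⟩ heq
  simp only [Prod.mk.injEq, Subtype.mk.injEq] at heq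
  obtain ⟨h1, h2⟩ := heq
  -- x' = (γ x')⁻¹ γ x · x · ...
  have hc1 : x * h = h * x := hc.eq
  have hc2 : x' * h' = h' * x' := hc'.eq
  have e1 : (γ x')⁻¹ * γ x = h' * h⁻¹ := by
    have : h' = (γ x')⁻¹ * (γ x * h) := by rw [h2]; group
    rw [this]; group
  have e2 : x' = ((γ x')⁻¹ * γ x) * x * ((γ x')⁻¹ * γ x)⁻¹ := by
    calc x' = (γ x')⁻¹ * (γ x' * x' * (γ x')⁻¹) * γ x' := by group
      _ = (γ x')⁻¹ * (γ x * x * (γ x)⁻¹) * γ x' := by rw [h1]
      _ = _ := by group
  rw [e1] at e2
  have e3 : x' = h' * x * h'⁻¹ := by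
    rw [e2]
    calc h' * h⁻¹ * x * (h' * h⁻¹)⁻¹ = h' * (h⁻¹ * (x * h)) * h'⁻¹ := by group
      _ = h' * (h⁻¹ * (h * x)) * h'⁻¹ := by rw [hc1]
      _ = h' * x * h'⁻¹ := by group
  have e4 : x = x' := by
    calc x = h'⁻¹ * (h' * x * h'⁻¹) * h' := by group
      _ = h'⁻¹ * x' * h' := by rw [← e3]
      _ = h'⁻¹ * (x' * h') := by group
      _ = h'⁻¹ * (h' * x') := by rw [hc2]
      _ = x' := by group
  subst e4
  have e5 : h = h' := mul_left_cancel h2
  subst e5
  rfl

end sylow

section main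

/-- number of commuting pairs whose first component is an `s`-element. -/
noncomputable def cnt (s : Finset ℕ) (H : Type*) [Group H] : ℕ :=
  Nat.card {gh : H × H // piElt s gh.1 ∧ Commute gh.1 gh.2}

theorem card_prod_subtype_eq_sum {α β : Type*} [Fintype α] [Finite β] (Pr : α → β → Prop) :
    Nat.card {t : α × β // Pr t.1 t.2} = ∑ a : α, Nat.card {b : β // Pr a b} := by
  rw [Nat.card_congr (Equiv.subtypeProdEquivSigmaSubtype Pr), Nat.card_sigma]

theorem piElt_empty {H : Type*} [Group H] [Finite H] {g : H} (h : piElt ∅ g) : g = 1 := by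
  by_contra hne
  have h1 : orderOf g ≠ 1 := fun h1 => hne (orderOf_eq_one_iff.mp h1)
  obtain ⟨q, hq, hqd⟩ := Nat.exists_prime_and_dvd h1
  exact absurd (h q hq hqd) (Finset.notMem_empty q)

theorem cnt_empty (H : Type*) [Group H] [Finite H] : cnt ∅ H ≤ Nat.card H := by
  unfold cnt
  apply Nat.card_le_card_of_injective
    (fun gh : {gh : H × H // piElt ∅ gh.1 ∧ Commute gh.1 gh.2} => gh.1.2)
  rintro ⟨⟨g, h⟩, hg, hc⟩ ⟨⟨g', h'⟩, hg', hc'⟩ heq
  have e1 : g = 1 := piElt_empty hg
  have e2 : g' = 1 := piElt_empty hg'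
  simp only at heq
  subst e1 e2 heq
  rfl

theorem cnt_insert_le (s : Finset ℕ) (hs : ∀ q ∈ s, q.Prime) (p : ℕ) [hp : Fact p.Prime]
    (hps : p ∉ s) (H : Type u) [Group H] [Finite H]
    (IH : ∀ (K : Type u) [Group K] [Finite K], cnt s K ≤ sPart s (Nat.card K) * Nat.card K) :
    cnt (insert p s) H ≤ sPart (insert p s) (Nat.card H) * Nat.card H := by
  haveI := Fintype.ofFinite H
  have hH0 : Nat.card H ≠ 0 := Nat.card_pos.ne'
  set r := p ^ (Nat.card H).factorization p with hr
  set m' := Nat.card H / r with hm'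
  have hrm : r * m' = Nat.card H := Nat.ordProj_mul_ordCompl_eq_self _ _
  have hcop : Nat.Coprime r m' := Nat.Coprime.pow_left _ (Nat.coprime_ordCompl hp.out hH0)
  have hpm' : ¬ p ∣ m' := Nat.not_dvd_ordCompl hp.out hH0
  obtain ⟨u, hu1, hu2⟩ := Nat.chineseRemainder hcop 1 0
  obtain ⟨v, hv1, hv2⟩ := Nat.chineseRemainder hcop 0 1
  have hmu : m' ∣ u := (Nat.modEq_zero_iff_dvd).mp hu2
  have hrv : r ∣ v := (Nat.modEq_zero_iff_dvd).mp hv1
  have huv : u + v ≡ 1 [MOD r * m'] :=
    (Nat.modEq_and_modEq_iff_modEq_mul hcop).mp ⟨hu1.add hv1, hu2.add hv2⟩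
  have hG : ∀ x : H, x ^ (r * m') = 1 := fun x => by rw [hrm]; exact pow_card_eq_one'
  have hsplit : ∀ x : H, x ^ u * x ^ v = x := by
    intro x
    rw [← pow_add]; exact pow_eq_self_of_modEq (hG x) huv
  have hur : ∀ x : H, (x ^ u) ^ r = 1 := by
    intro x
    rw [← pow_mul]
    apply pow_one_of_dvd (hG x)
    rw [mul_comm u r]
    exact Nat.mul_dvd_mul dvd_rfl hmu
  have hvm : ∀ x : H, (x ^ v) ^ m' = 1 := by
    intro x
    rw [← pow_mul]
    apply pow_one_of_dvd (hG x)
    exact Nat.mul_dvd_mul hrv dvd_rfl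
  -- the intermediate set
  let Pred : H → H × H → Prop := fun x wh =>
    x ^ r = 1 ∧ Commute x wh.1 ∧ Commute x wh.2 ∧ piElt s wh.1 ∧ Commute wh.1 wh.2
  have step1 : cnt (insert p s) H ≤ Nat.card {t : H × (H × H) // Pred t.1 t.2} := by
    unfold cnt
    apply Nat.card_le_card_of_injective
      (fun gh : {gh : H × H // piElt (insert p s) gh.1 ∧ Commute gh.1 gh.2} =>
        (⟨(gh.1.1 ^ u, (gh.1.1 ^ v, gh.1.2)), by
          refine ⟨hur _, (Commute.refl gh.1.1).pow_pow u v, gh.2.2.pow_left u, ?_, gh.2.2.pow_left v⟩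
          intro q hq hqd
          have h1 : q ∣ orderOf gh.1.1 := hqd.trans (orderOf_pow_dvd v)
          have h2 := gh.2.1 q hq h1
          rw [Finset.mem_insert] at h2
          rcases h2 with h2 | h2
          · exfalso
            apply hpm'
            rw [← h2]
            exact hqd.trans (orderOf_dvd_of_pow_eq_one (hvm _))
          · exact h2⟩ : {t : H × (H × H) // Pred t.1 t.2}))
    rintro ⟨⟨g, h⟩, hg, hc⟩ ⟨⟨g', h'⟩, hg', hc'⟩ heq
    simp only [Subtype.mk.injEq, Prod.mk.injEq] at heq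
    obtain ⟨e1, e2, e3⟩ := heq
    have e4 : g = g' := by rw [← hsplit g, ← hsplit g', e1, e2]
    subst e4 e3
    rfl
  have step2 : Nat.card {t : H × (H × H) // Pred t.1 t.2} =
      ∑ x : H, Nat.card {wh : H × H // Pred x wh} := card_prod_subtype_eq_sum Pred
  have step3 : ∀ x : H, Nat.card {wh : H × H // Pred x wh} ≤
      sPart s (Nat.card H) * Nat.card {h : H // x ^ r = 1 ∧ Commute x h} := by
    intro x
    by_cases hx : x ^ r = 1
    · set C := Subgroup.centralizer ({x} : Set H) with hC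
      have hmemC : ∀ h : H, Commute x h → h ∈ C := fun h hc =>
        Subgroup.mem_centralizer_singleton_iff.mpr hc.eq.symm
      have h1 : Nat.card {wh : H × H // Pred x wh} ≤ cnt s C := by
        unfold cnt
        apply Nat.card_le_card_of_injective
          (fun wh : {wh : H × H // Pred x wh} =>
            (⟨((⟨wh.1.1, hmemC _ wh.2.2.1⟩ : C), (⟨wh.1.2, hmemC _ wh.2.2.2.1⟩ : C)), by
              refine ⟨?_, ?_⟩
              · intro q hq hqd
                rw [Subgroup.orderOf_mk] at hqd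
                exact wh.2.2.2.2.1 q hq hqd
              · exact Subtype.ext wh.2.2.2.2.2.eq⟩ :
              {gh : C × C // piElt s gh.1 ∧ Commute gh.1 gh.2}))
        rintro ⟨⟨w, h⟩, hw⟩ ⟨⟨w', h'⟩, hw'⟩ heq
        simp only [Subtype.mk.injEq, Prod.mk.injEq] at heq
        obtain ⟨e1, e2⟩ := heq
        subst e1 e2
        rfl
      have h2 : Nat.card {h : H // x ^ r = 1 ∧ Commute x h} = Nat.card C := by
        apply Nat.card_congr
        refine Equiv.subtypeEquivRight ?_
        intro h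
        rw [hC, Subgroup.mem_centralizer_singleton_iff]
        exact ⟨fun hh => hh.2.eq.symm, fun hh => ⟨hx, hh.symm⟩⟩
      rw [h2]
      have h3 := IH C
      have h4 : sPart s (Nat.card C) ≤ sPart s (Nat.card H) :=
        sPart_le_of_dvd s hs Nat.card_pos.ne' hH0 (Subgroup.card_subgroup_dvd_card C)
      calc Nat.card {wh : H × H // Pred x wh} ≤ cnt s C := h1
        _ ≤ sPart s (Nat.card C) * Nat.card C := h3
        _ ≤ sPart s (Nat.card H) * Nat.card C := Nat.mul_le_mul_right _ h4
    · have : IsEmpty {wh : H × H // Pred x wh} := ⟨fun wh => hx wh.2.1⟩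
      rw [Nat.card_of_isEmpty]
      exact Nat.zero_le _
  have step4 : ∑ x : H, Nat.card {h : H // x ^ r = 1 ∧ Commute x h} ≤ r * Nat.card H := by
    rw [← card_prod_subtype_eq_sum (fun x h : H => x ^ r = 1 ∧ Commute x h)]
    exact card_pElt_pairs p
  calc cnt (insert p s) H ≤ Nat.card {t : H × (H × H) // Pred t.1 t.2} := step1
    _ = ∑ x : H, Nat.card {wh : H × H // Pred x wh} := step2
    _ ≤ ∑ x : H, sPart s (Nat.card H) * Nat.card {h : H // x ^ r = 1 ∧ Commute x h} :=
        Finset.sum_le_sum (fun x _ => step3 x)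
    _ = sPart s (Nat.card H) * ∑ x : H, Nat.card {h : H // x ^ r = 1 ∧ Commute x h} := by
        rw [Finset.mul_sum]
    _ ≤ sPart s (Nat.card H) * (r * Nat.card H) := Nat.mul_le_mul_left _ step4
    _ = sPart (insert p s) (Nat.card H) * Nat.card H := by
        rw [sPart_insert hps]; ring

/-- the main counting bound. -/
theorem cnt_le (s : Finset ℕ) (hs : ∀ q ∈ s, q.Prime) :
    ∀ (H : Type u) [Group H] [Finite H], cnt s H ≤ sPart s (Nat.card H) * Nat.card H := by
  induction s using Finset.induction_on with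
  | empty =>
    intro H _ _
    have : sPart ∅ (Nat.card H) = 1 := by unfold sPart; rw [Finset.prod_empty]
    rw [this, one_mul]
    exact cnt_empty H
  | insert p s hps ih =>
    intro H _ _
    haveI : Fact p.Prime := ⟨hs p (Finset.mem_insert_self p s)⟩
    exact cnt_insert_le s (fun q hq => hs q (Finset.mem_insert_of_mem hq)) p hps H
      (ih (fun q hq => hs q (Finset.mem_insert_of_mem hq)))

end main

section classes
variable {G : Type u} [Group G]

theorem card_centralizer_conj [Finite G] {y y0 : G} (h : IsConj y y0) :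
    Nat.card (Subgroup.centralizer ({y} : Set G)) = Nat.card (Subgroup.centralizer ({y0} : Set G)) := by
  have h1 : (Subgroup.centralizer ({y} : Set G)).index = (Subgroup.centralizer ({y0} : Set G)).index := by
    rw [← Helper7_Basic.card_conj_class, ← Helper7_Basic.card_conj_class]
    apply Nat.card_congr
    refine Equiv.subtypeEquivRight ?_
    intro z
    exact ⟨fun hz => hz.trans h, fun hz => hz.trans h.symm⟩
  have h2 := Subgroup.card_mul_index (Subgroup.centralizer ({y} : Set G))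
  have h3 := Subgroup.card_mul_index (Subgroup.centralizer ({y0} : Set G))
  rw [h1, ← h3] at h2
  exact Nat.eq_of_mul_eq_mul_right (Nat.pos_of_ne_zero Subgroup.index_ne_zero_of_finite) h2

theorem sum_card_centralizer [Fintype G] (S : Finset G) (hS : ∀ g y, y ∈ S → g * y * g⁻¹ ∈ S) :
    ∑ y ∈ S, Nat.card (Subgroup.centralizer ({y} : Set G)) =
      (S.image (ConjClasses.mk : G → ConjClasses G)).card * Nat.card G := by
  rw [← Finset.sum_fiberwise_of_maps_to (g := (ConjClasses.mk : G → ConjClasses G))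
    (t := S.image ConjClasses.mk) (fun y hy => Finset.mem_image_of_mem _ hy)]
  apply Finset.sum_const_nat
  intro c hc
  obtain ⟨y0, hy0S, rfl⟩ := Finset.mem_image.mp hc
  have h1 : S.filter (fun y => ConjClasses.mk y = ConjClasses.mk y0) =
      Finset.univ.filter (fun y => IsConj y y0) := by
    ext y
    simp only [Finset.mem_filter, Finset.mem_univ, true_and, ConjClasses.mk_eq_mk_iff_isConj]
    refine ⟨fun hh => hh.2, fun hh => ⟨?_, hh⟩⟩
    obtain ⟨g, hg⟩ := isConj_iff.mp hh.symm
    rw [← hg]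
    exact hS g y0 hy0S
  rw [h1]
  have h2 : ∀ y ∈ Finset.univ.filter (fun y => IsConj y y0),
      Nat.card (Subgroup.centralizer ({y} : Set G)) =
        Nat.card (Subgroup.centralizer ({y0} : Set G)) := by
    intro y hy
    rw [Finset.mem_filter] at hy
    exact card_centralizer_conj hy.2
  rw [Finset.sum_congr rfl h2, Finset.sum_const, smul_eq_mul, ← Fintype.card_subtype,
    ← Nat.card_eq_fintype_card, Helper7_Basic.card_conj_class, mul_comm]
  exact Subgroup.card_mul_index _

theorem piElt_conj {s : Finset ℕ} (g y : G) (h : piElt s y) : piElt s (g * y * g⁻¹) := by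
  intro q hq hqd
  rw [Helper7_Basic.orderOf_conj'] at hqd
  exact h q hq hqd

/-- Burnside-type count of classes of `s`-elements. -/
theorem classes_mul_card [Finite G] (s : Finset ℕ) :
    Nat.card {C : ConjClasses G // ∃ g : G, ConjClasses.mk g = C ∧ piElt s g} * Nat.card G =
      cnt s G := by
  haveI := Fintype.ofFinite G
  unfold cnt
  rw [card_prod_subtype_eq_sum (fun g h : G => piElt s g ∧ Commute g h)]
  have h1 : ∀ g : G, Nat.card {h : G // piElt s g ∧ Commute g h} =
      if piElt s g then Nat.card (Subgroup.centralizer ({g} : Set G)) else 0 := by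
    intro g
    split_ifs with hg
    · apply Nat.card_congr
      refine Equiv.subtypeEquivRight ?_
      intro h
      rw [Subgroup.mem_centralizer_singleton_iff]
      exact ⟨fun hh => hh.2.eq.symm, fun hh => ⟨hg, hh.symm⟩⟩
    · have : IsEmpty {h : G // piElt s g ∧ Commute g h} := ⟨fun h => hg h.2.1⟩
      exact Nat.card_of_isEmpty
  rw [Finset.sum_congr rfl (fun g _ => h1 g), ← Finset.sum_filter,
    sum_card_centralizer _ (fun g y hy => by
      rw [Finset.mem_filter] at hy ⊢
      exact ⟨Finset.mem_univ _, piElt_conj g y hy.2⟩)]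
  congr 1
  apply Nat.subtype_card
  intro C
  simp only [Finset.mem_image, Finset.mem_filter, Finset.mem_univ, true_and]
  exact ⟨fun ⟨g, hg, hC⟩ => ⟨g, hC, hg⟩, fun ⟨g, hC, hg⟩ => ⟨g, hg, hC⟩⟩

/-- **The number of classes of `s`-elements is at most the `s`-part of `|G|`.** -/
theorem card_classes_le [Finite G] (s : Finset ℕ) (hs : ∀ q ∈ s, q.Prime) :
    Nat.card {C : ConjClasses G // ∃ g : G, ConjClasses.mk g = C ∧ piElt s g} ≤
      sPart s (Nat.card G) := by
  have h1 := classes_mul_card (G := G) s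
  have h2 := cnt_le s hs G
  rw [← h1] at h2
  exact Nat.le_of_mul_le_mul_right h2 Nat.card_pos

end classes

end Cfsg.Agent.Lib.Helper7_PiClasses
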