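import Mathlib
import Cfsg.Agent.Lib.Helper7_PrimeOrder
set_option autoImplicit false
open Polynomial

namespace Cfsg.Agent.Lib.Helper7_PrimeOrderB

universe u

open Cfsg.Agent.Lib.Helper7_Semisimple Cfsg.Agent.Lib.Helper7_SemisimpleCount
  Cfsg.Agent.Lib.Helper7_PrimeOrder

theorem card_classes_eq {F : Type u} [Field F] [Fintype F] {p : ℕ} [Fact p.Prime] [CharP F p]
    (n r i t : ℕ) (hr : r.Prime) (hrp : r ≠ p)
    (ψ : Fin (t + 1) → F[X]) (hirr : ∀ k, Irreducible (ψ k)) (hmon : ∀ k, (ψ k).Monic)
    (hinj : Function.Injective ψ) (hψ0 : ψ 0 = X - 1)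
    (hψdeg : ∀ j : Fin t, (ψ j.succ).natDegree = i) (hψprod : ∏ k, ψ k = X ^ r - 1) :
    Nat.card {C : ConjClasses (GL (Fin n) F) //
      ∃ g : GL (Fin n) F, ConjClasses.mk g = C ∧ orderOf g = r} =
    Nat.card {a : Fin t → ℕ // a ≠ 0 ∧ i * ∑ j, a j ≤ n} := by
  classical
  have hp : p.Prime := Fact.out
  have hrF : (r : F) ≠ 0 := by
    intro h0
    have h1 : p ∣ r := (CharP.cast_eq_zero_iff F p r).mp h0
    exact hrp ((Nat.prime_dvd_prime_iff_eq hp hr).mp h1).symm
  have hcop : r.Coprime p := (Nat.coprime_primes hr hp).mpr hrp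
  have hdegB : ∀ B : Fin (t + 1) → ℕ,
      (∏ k, ψ k ^ B k).natDegree = B 0 + i * ∑ j : Fin t, B j.succ := by
    intro B
    have hx1 : (X - 1 : F[X]).natDegree = 1 := by
      have := Polynomial.natDegree_X_sub_C (1 : F)
      rwa [map_one] at this
    rw [Polynomial.natDegree_prod_of_monic _ _ (fun k _ => (hmon k).pow _), Fin.sum_univ_succ,
      (hmon 0).natDegree_pow, hψ0, hx1, mul_one, Finset.mul_sum]
    congr 1
    apply Finset.sum_congr rfl
    intro j _
    rw [(hmon _).natDegree_pow, hψdeg, mul_comm]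
  let Bof : (Fin t → ℕ) → Fin (t + 1) → ℕ := fun a => Fin.cons (n - i * ∑ j, a j) a
  have hBof0 : ∀ a, Bof a 0 = n - i * ∑ j, a j := fun a => rfl
  have hBofs : ∀ a (j : Fin t), Bof a j.succ = a j := fun a j => by
    show Fin.cons (α := fun _ => ℕ) (n - i * ∑ j, a j) a j.succ = a j
    rw [Fin.cons_succ]
  let cpS : {C : ConjClasses (GL (Fin n) F) //
      ∃ g : GL (Fin n) F, ConjClasses.mk g = C ∧ orderOf g = r} → F[X] :=
    fun C => (C.2.choose : Matrix (Fin n) (Fin n) F).charpoly
  let ΨT : {a : Fin t → ℕ // a ≠ 0 ∧ i * ∑ j, a j ≤ n} → F[X] :=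
    fun a => ∏ k, ψ k ^ Bof a.1 k
  have hcpS_inj : Function.Injective cpS := by
    intro C C' h
    have h1 := C.2.choose_spec
    have h2 := C'.2.choose_spec
    have hconj := gl_conj_of_charpoly_eq (p := p) C.2.choose C'.2.choose
      (by rw [h1.2]; exact hcop) (by rw [h2.2]; exact hcop) h
    apply Subtype.ext
    rw [← h1.1, ← h2.1]
    exact ConjClasses.mk_eq_mk_iff_isConj.mpr hconj
  have hΨ_inj : Function.Injective ΨT := by
    intro a a' h
    have h1 := exps_unique ψ hirr hmon hinj _ _ h
    apply Subtype.ext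
    funext j
    have := congrFun h1 j.succ
    rwa [hBofs, hBofs] at this
  have hrange : Set.range cpS = Set.range ΨT := by
    ext f
    constructor
    · rintro ⟨C, rfl⟩
      obtain ⟨hC1, hC2⟩ := C.2.choose_spec
      show (C.2.choose : Matrix (Fin n) (Fin n) F).charpoly ∈ _
      generalize C.2.choose = g at hC1 hC2
      have hgr : (g : Matrix (Fin n) (Fin n) F) ^ r = 1 := by
        rw [← Units.val_pow_eq_pow_val, ← hC2, pow_orderOf_eq_one, Units.val_one]
      obtain ⟨b, hb⟩ := charpoly_factor ψ hirr hmon r hrF hψprod _ hgr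
      have hdeg := hdegB b
      rw [← hb, Matrix.charpoly_natDegree_eq_dim, Fintype.card_fin] at hdeg
      have ha0 : (fun j : Fin t => b j.succ) ≠ 0 := by
        intro h0
        have hz : ∀ j : Fin t, b j.succ = 0 := fun j => congrFun h0 j
        have hb0 : b 0 = n := by
          rw [Finset.sum_congr rfl (fun j _ => hz j), Finset.sum_const_zero, mul_zero,
            add_zero] at hdeg
          exact hdeg.symm
        have hb1 : (g : Matrix (Fin n) (Fin n) F).charpoly =
            ((1 : GL (Fin n) F) : Matrix (Fin n) (Fin n) F).charpoly := by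
          rw [hb, Units.val_one, Matrix.charpoly_one, Fin.prod_univ_succ]
          have : ∀ j : Fin t, ψ j.succ ^ b j.succ = 1 := fun j => by rw [hz j, pow_zero]
          rw [Finset.prod_congr rfl (fun j _ => this j), Finset.prod_const_one, mul_one, hψ0,
            hb0, Fintype.card_fin]
        have hconj := gl_conj_of_charpoly_eq (p := p) g 1 (by rw [hC2]; exact hcop)
          (by rw [orderOf_one]; exact Nat.coprime_one_left p) hb1
        have hg1 : g = 1 := isConj_one_left.mp hconj
        rw [hg1, orderOf_one] at hC2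
        exact hr.one_lt.ne hC2
      have hle : i * ∑ j : Fin t, b j.succ ≤ n := by omega
      refine ⟨⟨fun j => b j.succ, ha0, hle⟩, ?_⟩
      show ∏ k, ψ k ^ Bof (fun j => b j.succ) k = _
      rw [hb]
      apply Finset.prod_congr rfl
      intro k _
      congr 1
      refine Fin.cases ?_ (fun j => ?_) k
      · rw [hBof0]; omega
      · rw [hBofs]
    · rintro ⟨⟨a, ha0, han⟩, rfl⟩
      show ∏ k, ψ k ^ Bof a k ∈ _
      have hfmon : (∏ k, ψ k ^ Bof a k).Monic :=
        Polynomial.monic_prod_of_monic _ _ (fun k _ => (hmon k).pow _)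
      have hfdeg : (∏ k, ψ k ^ Bof a k).natDegree = n := by
        have e1 : ∑ j : Fin t, Bof a j.succ = ∑ j, a j :=
          Finset.sum_congr rfl (fun j _ => hBofs a j)
        rw [hdegB, hBof0, e1]
        omega
      obtain ⟨G, hG, hGr⟩ := exists_matrix_of_poly _ hfmon hfdeg r (by
        intro s hs hsd
        obtain ⟨k, _, hk⟩ := (Prime.dvd_finsetProd_iff hs.prime _).mp hsd
        have := hs.prime.dvd_of_dvd_pow hk
        rw [← hψprod]
        exact this.trans (Finset.dvd_prod_of_mem _ (Finset.mem_univ k)))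
      have hU : IsUnit G := IsUnit.of_pow_eq_one hGr hr.ne_zero
      obtain ⟨g, hgG⟩ := hU
      have hgr : g ^ r = 1 := by
        apply Units.ext
        rw [Units.val_pow_eq_pow_val, hgG, hGr, Units.val_one]
      have hord : orderOf g = r := by
        rcases (Nat.dvd_prime hr).mp (orderOf_dvd_of_pow_eq_one hgr) with h1 | h1
        · exfalso
          rw [orderOf_eq_one_iff] at h1
          have hG1 : G = 1 := by rw [← hgG, h1, Units.val_one]
          rw [hG1, Matrix.charpoly_one, Fintype.card_fin] at hG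
          have h2 : ∏ k, ψ k ^ (Fin.cons n (0 : Fin t → ℕ) : Fin (t + 1) → ℕ) k = (X - 1) ^ n := by
            rw [Fin.prod_univ_succ]
            simp [hψ0]
          have h3 := exps_unique ψ hirr hmon hinj _ _ (h2.trans hG)
          apply ha0
          funext j
          have := congrFun h3 j.succ
          rw [hBofs, Fin.cons_succ] at this
          exact this.symm
        · exact h1
      have hkey : ∀ g' : GL (Fin n) F, ConjClasses.mk g' = ConjClasses.mk g →
          (g' : Matrix (Fin n) (Fin n) F).charpoly = (g : Matrix (Fin n) (Fin n) F).charpoly := by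
        intro g' hg'
        obtain ⟨x, hx⟩ := isConj_iff.mp (ConjClasses.mk_eq_mk_iff_isConj.mp hg')
        rw [← hx, Units.val_mul, Units.val_mul, Matrix.coe_units_inv]
        exact (Matrix.charpoly_units_conj x _).symm
      refine ⟨⟨ConjClasses.mk g, g, rfl, hord⟩, ?_⟩
      have hex : ∃ g' : GL (Fin n) F, ConjClasses.mk g' = ConjClasses.mk g ∧ orderOf g' = r :=
        ⟨g, rfl, hord⟩
      show (hex.choose : Matrix (Fin n) (Fin n) F).charpoly = _
      rw [← hG, ← hgG]
      exact hkey _ hex.choose_spec.1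
  rw [← Nat.card_range_of_injective hcpS_inj, ← Nat.card_range_of_injective hΨ_inj, hrange]

end Cfsg.Agent.Lib.Helper7_PrimeOrderB
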