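import Mathlib

set_option autoImplicit false

/-!
Vanishing sums of `p`-power roots of unity (helper7).
-/

namespace Cfsg.Agent.Lib.Helper7_RootsOfUnity

open Polynomial

/-- If a multiset of complex `p^j`-th roots of unity sums to zero, its cardinality is divisible
by `p`. -/
theorem dvd_card_of_sum_eq_zero (p j : ℕ) [hp : Fact p.Prime] (s : Multiset ℂ)
    (hs : ∀ μ ∈ s, μ ^ (p ^ j) = 1) (hsum : s.sum = 0) : p ∣ Multiset.card s := by
  classical
  rcases Nat.eq_zero_or_pos j with hj | hj
  · subst hj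
    have h1 : ∀ μ ∈ s, μ = 1 := by
      intro μ hμ
      have := hs μ hμ
      simpa using this
    have h2 : s = Multiset.replicate (Multiset.card s) 1 := Multiset.eq_replicate.mpr ⟨rfl, h1⟩
    rw [h2, Multiset.sum_replicate, nsmul_eq_mul, mul_one] at hsum
    have h3 : Multiset.card s = 0 := by exact_mod_cast hsum
    rw [h3]
    exact dvd_zero p
  · obtain ⟨i, rfl⟩ := Nat.exists_eq_succ_of_ne_zero hj.ne'
    set N := p ^ (i + 1) with hN
    have hNpos : 0 < N := pow_pos hp.out.pos _
    haveI : NeZero N := ⟨hNpos.ne'⟩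
    set ζ : ℂ := Complex.exp (2 * Real.pi * Complex.I / N) with hζdef
    have hζ : IsPrimitiveRoot ζ N := Complex.isPrimitiveRoot_exp N hNpos.ne'
    -- exponents
    have hex : ∀ μ : ℂ, ∃ a : ℕ, μ ∈ s → ζ ^ a = μ := by
      intro μ
      by_cases hμ : μ ∈ s
      · obtain ⟨a, -, ha⟩ := hζ.eq_pow_of_pow_eq_one (hs μ hμ)
        exact ⟨a, fun _ => ha⟩
      · exact ⟨0, fun h => absurd h hμ⟩
    choose a ha using hex
    set F : ℤ[X] := (s.map (fun μ => (X : ℤ[X]) ^ (a μ))).sum with hF
    have hFζ : aeval ζ F = 0 := by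
      rw [hF, map_multiset_sum, Multiset.map_map]
      have : s.map ((aeval ζ : ℤ[X] → ℂ) ∘ fun μ => (X : ℤ[X]) ^ (a μ)) = s.map id := by
        apply Multiset.map_congr rfl
        intro μ hμ
        simp [ha μ hμ]
      rw [this, Multiset.map_id]
      exact hsum
    have hint : IsIntegral ℤ ζ := hζ.isIntegral hNpos
    have hdvd : minpoly ℤ ζ ∣ F := minpoly.isIntegrallyClosed_dvd hint hFζ
    rw [← Polynomial.cyclotomic_eq_minpoly hζ hNpos] at hdvd
    have hev := Polynomial.eval_dvd (x := (1 : ℤ)) hdvd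
    rw [hN, Polynomial.eval_one_cyclotomic_prime_pow] at hev
    have hF1 : F.eval 1 = (Multiset.card s : ℤ) := by
      rw [hF, ← Polynomial.coe_evalRingHom, map_multiset_sum, Multiset.map_map]
      have : s.map ((evalRingHom (1 : ℤ) : ℤ[X] → ℤ) ∘ fun μ => (X : ℤ[X]) ^ (a μ)) = s.map (fun _ => (1 : ℤ)) := by
        apply Multiset.map_congr rfl
        intro μ _
        simp
      rw [this, Multiset.map_const', Multiset.sum_replicate]
      simp
    rw [hF1] at hev
    exact Int.natCast_dvd_natCast.mp hev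

end Cfsg.Agent.Lib.Helper7_RootsOfUnity
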