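import Mathlib
import Cfsg.Agent.Lib.Helper7_SemiAct

/-! More coprime-action facts in `MulDistribMulAction` language. -/

set_option autoImplicit false

namespace Cfsg.Agent.Lib.Helper7_SemiAct2

open Subgroup
open Cfsg.Agent.Lib.Helper7_SemiAct

variable {A G : Type*} [Group A] [Group G] [MulDistribMulAction A G]

/-- existence of an `A`-invariant Sylow `p`-subgroup under coprime action -/
theorem exists_invariant_sylow [Finite A] [Finite G] (hcop : (Nat.card A).Coprime (Nat.card G))
    (hsolv : Group.IsSolvable A ∨ Group.IsSolvable G) (p : ℕ) [Fact p.Prime] :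
    ∃ P : Sylow p G, Inv A (P : Subgroup G) := by
  set K : Subgroup (Semi A G) := (⊤ : Subgroup G).map iG with hK
  have hcardK : Nat.card K = Nat.card G := by
    rw [hK, card_map_iG, Subgroup.card_top]
  have hcop' : (Nat.card (Aimg A G)).Coprime (Nat.card K) := by
    rw [card_Aimg, hcardK]; exact hcop
  have hsolv' : Group.IsSolvable (Aimg A G) ∨ Group.IsSolvable K := by
    refine hsolv.imp isSolvable_Aimg (fun h => isSolvable_map_iG ⊤ ?_)
    haveI := h
    exact Group.isSolvable_of_surjective (f := (Subgroup.topEquiv (G := G)).symm.toMonoidHom)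
      (Subgroup.topEquiv (G := G)).symm.surjective
  obtain ⟨P, hP⟩ := Cfsg.Agent.Lib.Lead_Coprime.exists_invariant_sylow (Aimg A G) K
    (Aimg_le_normalizer ⊤ inv_top) hcop' hsolv' p
  set P' : Subgroup (Semi A G) := (P : Subgroup K).map K.subtype with hP'
  have hP'K : P' ≤ K := Subgroup.map_subtype_le _
  have hrange : P' ≤ (iG : G →* Semi A G).range := by
    intro x hx
    obtain ⟨g, -, rfl⟩ := hP'K hx
    exact ⟨g, rfl⟩
  have hmap : (P'.comap (iG : G →* Semi A G)).map iG = P' := Subgroup.map_comap_eq_self hrange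
  have hcard : Nat.card (P'.comap (iG : G →* Semi A G)) = p ^ (Nat.card G).factorization p := by
    rw [← card_map_iG (A := A), hmap, hP', Subgroup.card_map_of_injective K.subtype_injective,
      P.card_eq_multiplicity, hcardK]
  refine ⟨Sylow.ofCard _ hcard, ?_⟩
  intro a x hx
  show a • x ∈ P'.comap (iG : G →* Semi A G)
  have hx' : (iG x : Semi A G) ∈ P' := hx
  rw [Subgroup.mem_comap, ← conj_iG]
  exact (Subgroup.mem_normalizer_iff.mp (hP ⟨a, rfl⟩) _).mp hx'

/-- a characteristic subgroup is invariant -/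
theorem inv_of_characteristic (H : Subgroup G) [hH : H.Characteristic] : Inv A H := by
  intro a x hx
  have := Subgroup.characteristic_iff_map_eq.mp hH (MulDistribMulAction.toMulEquiv G a)
  rw [← this]
  exact ⟨x, hx, rfl⟩

/-- the join of invariant subgroups is invariant -/
theorem inv_sup (H K : Subgroup G) (hH : Inv A H) (hK : Inv A K) : Inv A (H ⊔ K) := by
  intro a x hx
  rw [Subgroup.sup_eq_closure] at hx
  induction hx using Subgroup.closure_induction with
  | mem y hy =>
    rcases hy with hy | hy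
    · exact mem_sup_left (hH a y hy)
    · exact mem_sup_right (hK a y hy)
  | one => rw [smul_one]; exact one_mem _
  | mul y z _ _ hy hz => rw [smul_mul']; exact mul_mem hy hz
  | inv y _ hy => rw [smul_inv']; exact inv_mem hy

/-- the normalizer of an invariant subgroup is invariant -/
theorem inv_normalizer (H : Subgroup G) (hH : Inv A H) : Inv A (normalizer (H : Set G)) := by
  intro a x hx
  rw [Subgroup.mem_normalizer_iff] at hx ⊢
  intro h
  have key : ∀ z : G, (a • x) * z * (a • x)⁻¹ = a • (x * (a⁻¹ • z) * x⁻¹) := by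
    intro z
    rw [smul_mul', smul_mul', smul_inv', smul_inv_smul]
  constructor
  · intro hh
    rw [key]
    exact hH a _ ((hx _).mp (hH a⁻¹ h hh))
  · intro hh
    rw [key] at hh
    have h1 := hH a⁻¹ _ hh
    rw [inv_smul_smul] at h1
    have h2 := (hx _).mpr h1
    have h3 := hH a _ h2
    rwa [smul_inv_smul] at h3

/-- every proper invariant subgroup lies in a maximal invariant one -/
theorem exists_max_inv [Finite G] (H : Subgroup G) (hH : Inv A H) (hne : H ≠ ⊤) :
    ∃ M : Subgroup G, H ≤ M ∧ M ≠ ⊤ ∧ Inv A M ∧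
      ∀ L : Subgroup G, M < L → Inv A L → L = ⊤ := by
  obtain ⟨M, hM, hmax⟩ := WellFounded.has_min (wellFounded_gt (α := Subgroup G))
    {M : Subgroup G | H ≤ M ∧ M ≠ ⊤ ∧ Inv A M} ⟨H, le_refl _, hne, hH⟩
  refine ⟨M, hM.1, hM.2.1, hM.2.2, ?_⟩
  intro L hL hLinv
  by_contra hLne
  exact hmax L ⟨le_trans hM.1 hL.le, hLne, hLinv⟩ hL

end Cfsg.Agent.Lib.Helper7_SemiAct2
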