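import Mathlib
set_option autoImplicit false
open Polynomial

namespace Cfsg.Agent.Lib.Helper7_Singer

universe u

theorem scalar_eq_smul_one {F : Type u} [Field F] (d : ℕ) (c : F) :
    Matrix.scalar (Fin d) c = c • (1 : Matrix (Fin d) (Fin d) F) := by
  rw [Matrix.scalar_apply, Matrix.smul_one_eq_diagonal]

theorem mk_pow_eq_one_of_scalar {F : Type u} [Field F] (d : ℕ) (a : GL (Fin d) F) (m : ℕ) (c : F)
    (h : (a : Matrix (Fin d) (Fin d) F) ^ m = c • 1) :
    (QuotientGroup.mk a : GL (Fin d) F ⧸ Subgroup.center (GL (Fin d) F)) ^ m = 1 := by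
  rw [← QuotientGroup.mk_pow, QuotientGroup.eq_one_iff,
    Matrix.GeneralLinearGroup.mem_center_iff_val_mem_range_scalar]
  refine ⟨c, ?_⟩
  rw [scalar_eq_smul_one, Units.val_pow_eq_pow_val, h]

theorem pgl_order_le {F : Type u} [Field F] [Fintype F] (d : ℕ) (hd : 1 ≤ d)
    (g : GL (Fin d) F ⧸ Subgroup.center (GL (Fin d) F)) :
    (Fintype.card F - 1) * orderOf g ≤ Fintype.card F ^ d - 1 := by
  classical
  haveI : Nonempty (Fin d) := ⟨⟨0, by omega⟩⟩
  obtain ⟨a, rfl⟩ := QuotientGroup.mk_surjective g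
  set A : Matrix (Fin d) (Fin d) F := (a : Matrix (Fin d) (Fin d) F) with hA
  set k := orderOf (QuotientGroup.mk a : GL (Fin d) F ⧸ Subgroup.center (GL (Fin d) F)) with hk
  have hχ : aeval A A.charpoly = 0 := Matrix.aeval_self_charpoly A
  have hχm : A.charpoly.Monic := Matrix.charpoly_monic A
  have hχd : A.charpoly.degree = (d : WithBot ℕ) := by
    rw [Matrix.charpoly_degree_eq_dim, Fintype.card_fin]
  let Φ : (Fin d → F) → Matrix (Fin d) (Fin d) F :=
    fun v => aeval A (((Polynomial.degreeLTEquiv F d).symm v : Polynomial.degreeLT F d) : F[X])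
  have hΦ0 : Φ 0 = 0 := by
    show aeval A (((Polynomial.degreeLTEquiv F d).symm 0 : Polynomial.degreeLT F d) : F[X]) = 0
    rw [map_zero, Submodule.coe_zero, map_zero]
  have hsurj : ∀ f : F[X], ∃ v, Φ v = aeval A f := by
    intro f
    have hmem : f %ₘ A.charpoly ∈ Polynomial.degreeLT F d := by
      rw [Polynomial.mem_degreeLT, ← hχd]
      exact Polynomial.degree_modByMonic_lt f hχm
    refine ⟨Polynomial.degreeLTEquiv F d ⟨f %ₘ A.charpoly, hmem⟩, ?_⟩
    show aeval A (((Polynomial.degreeLTEquiv F d).symm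
      (Polynomial.degreeLTEquiv F d ⟨f %ₘ A.charpoly, hmem⟩) : Polynomial.degreeLT F d) : F[X]) = _
    rw [LinearEquiv.symm_apply_apply]
    exact Polynomial.aeval_modByMonic_eq_self_of_root hχ
  have hAj : ∀ j : ℕ, A ^ j ≠ 0 := by
    intro j
    rw [hA, ← Units.val_pow_eq_pow_val]
    exact Units.ne_zero _
  have hv : ∀ x : Fˣ × Fin k, ∃ v, Φ v = (x.1 : F) • A ^ (x.2 : ℕ) := by
    intro x
    obtain ⟨v, hv⟩ := hsurj (C (x.1 : F) * X ^ (x.2 : ℕ))
    refine ⟨v, ?_⟩
    rw [hv, map_mul, map_pow, aeval_X, aeval_C, Algebra.algebraMap_eq_smul_one, smul_mul_assoc,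
      one_mul]
  choose v hv using hv
  have hvne : ∀ x, v x ≠ 0 := by
    intro x h0
    have h1 := hv x
    rw [h0, hΦ0] at h1
    rcases smul_eq_zero.mp h1.symm with h2 | h2
    · exact x.1.ne_zero h2
    · exact hAj _ h2
  have hone : ∀ c c' : F, c • (1 : Matrix (Fin d) (Fin d) F) = c' • 1 → c = c' := by
    intro c c' h
    have := congrFun (congrFun h ⟨0, by omega⟩) ⟨0, by omega⟩
    simpa using this
  have hwlog : ∀ (c c' : Fˣ) (j j' : ℕ), j ≤ j' → j' < k →
      (c : F) • A ^ j = (c' : F) • A ^ j' → j = j' ∧ c = c' := by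
    intro c c' j j' hjj hj' h
    have h1 : A ^ j' = A ^ j * A ^ (j' - j) := by rw [← pow_add]; congr 1; omega
    have h2 : A ^ j * ((c : F) • 1) = A ^ j * ((c' : F) • A ^ (j' - j)) := by
      rw [Matrix.mul_smul, Matrix.mul_smul, mul_one, ← h1, h]
    have hunit : IsUnit (A ^ j) := by
      rw [hA, ← Units.val_pow_eq_pow_val]; exact Units.isUnit _
    have h3 : (c : F) • (1 : Matrix (Fin d) (Fin d) F) = (c' : F) • A ^ (j' - j) :=
      hunit.mul_left_cancel h2
    have h4 : A ^ (j' - j) = ((c'⁻¹ : Fˣ) : F) • ((c : F) • (1 : Matrix (Fin d) (Fin d) F)) := by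
      rw [h3, smul_smul, ← Units.val_mul, inv_mul_cancel, Units.val_one, one_smul]
    rw [smul_smul] at h4
    have h5 := mk_pow_eq_one_of_scalar d a (j' - j) _ h4
    have h6 : k ∣ j' - j := orderOf_dvd_of_pow_eq_one h5
    have h7 : j' - j = 0 := Nat.eq_zero_of_dvd_of_lt h6 (by omega)
    have h8 : j = j' := by omega
    refine ⟨h8, ?_⟩
    rw [h7, pow_zero] at h3
    exact Units.ext (hone _ _ h3)
  have hinj : Function.Injective (fun x : Fˣ × Fin k => (⟨v x, hvne x⟩ : {w : Fin d → F // w ≠ 0})) := by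
    intro x y hxy
    have h1 : v x = v y := congrArg Subtype.val hxy
    have h2 : (x.1 : F) • A ^ (x.2 : ℕ) = (y.1 : F) • A ^ (y.2 : ℕ) := by
      rw [← hv x, ← hv y, h1]
    rcases le_total (x.2 : ℕ) (y.2 : ℕ) with hle | hle
    · obtain ⟨e1, e2⟩ := hwlog x.1 y.1 _ _ hle y.2.2 h2
      exact Prod.ext e2 (Fin.ext e1)
    · obtain ⟨e1, e2⟩ := hwlog y.1 x.1 _ _ hle x.2.2 h2.symm
      exact Prod.ext e2.symm (Fin.ext e1.symm)
  have hcard := Fintype.card_le_of_injective _ hinj
  rw [Fintype.card_prod, Fintype.card_units, Fintype.card_fin, Fintype.card_subtype_compl,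
    Fintype.card_subtype_eq, Fintype.card_fun, Fintype.card_fin] at hcard
  exact hcard

theorem pgl_singer {F : Type u} [Field F] [Fintype F] (d : ℕ) (hd : 1 ≤ d) :
    ∃ g : GL (Fin d) F ⧸ Subgroup.center (GL (Fin d) F),
      (Fintype.card F - 1) * orderOf g = Fintype.card F ^ d - 1 := by
  classical
  obtain ⟨p, hp⟩ := CharP.exists F
  haveI := hp
  haveI : Fact p.Prime := ⟨CharP.char_is_prime F p⟩
  haveI : NeZero d := ⟨by omega⟩
  let L := FiniteField.Extension F p d
  haveI : Fintype L := Fintype.ofFinite L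
  have hcardL : Fintype.card L = Fintype.card F ^ d := by
    have := FiniteField.natCard_extension F p d
    rwa [Nat.card_eq_fintype_card, Nat.card_eq_fintype_card] at this
  obtain ⟨ζ, hζ⟩ := IsCyclic.exists_generator (α := Lˣ)
  have hordζ : orderOf ζ = Fintype.card F ^ d - 1 := by
    rw [orderOf_eq_card_of_forall_mem_zpowers hζ, Nat.card_eq_fintype_card, Fintype.card_units,
      hcardL]
  let b := Module.finBasisOfFinrankEq F L (FiniteField.finrank_extension F p d)
  let φ : L →ₐ[F] Matrix (Fin d) (Fin d) F := Algebra.leftMulMatrix b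
  have hφinj : Function.Injective φ := Algebra.leftMulMatrix_injective b
  let a : GL (Fin d) F := Units.map (φ : L →* Matrix (Fin d) (Fin d) F) ζ
  have haval : ∀ m : ℕ, ((a ^ m : GL (Fin d) F) : Matrix (Fin d) (Fin d) F) = φ ((ζ : L) ^ m) := by
    intro m
    rw [Units.val_pow_eq_pow_val, map_pow]
    rfl
  let g : GL (Fin d) F ⧸ Subgroup.center (GL (Fin d) F) := QuotientGroup.mk a
  refine ⟨g, ?_⟩
  have hle := pgl_order_le d hd g
  have hkpos : 0 < orderOf g := orderOf_pos g
  have hq : 2 ≤ Fintype.card F := Fintype.one_lt_card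
  have hgk : g ^ orderOf g = 1 := pow_orderOf_eq_one g
  rw [← QuotientGroup.mk_pow, QuotientGroup.eq_one_iff,
    Matrix.GeneralLinearGroup.mem_center_iff_val_mem_range_scalar] at hgk
  obtain ⟨c, hc⟩ := hgk
  rw [haval] at hc
  have hc' : φ (algebraMap F L c) = φ ((ζ : L) ^ orderOf g) := by
    rw [AlgHom.commutes, ← hc]
    rfl
  have hζk : (ζ : L) ^ orderOf g = algebraMap F L c := (hφinj hc').symm
  have hc0 : c ≠ 0 := by
    intro h0
    rw [h0, map_zero] at hζk
    exact (pow_ne_zero _ ζ.ne_zero) hζk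
  have hpow : ζ ^ (orderOf g * (Fintype.card F - 1)) = 1 := by
    apply Units.ext
    rw [Units.val_pow_eq_pow_val, pow_mul, hζk, ← map_pow,
      FiniteField.pow_card_sub_one_eq_one c hc0, map_one, Units.val_one]
  have hdvd : Fintype.card F ^ d - 1 ∣ orderOf g * (Fintype.card F - 1) := by
    rw [← hordζ]; exact orderOf_dvd_of_pow_eq_one hpow
  have hge : Fintype.card F ^ d - 1 ≤ orderOf g * (Fintype.card F - 1) :=
    Nat.le_of_dvd (Nat.mul_pos hkpos (by omega)) hdvd
  rw [mul_comm] at hge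
  exact le_antisymm hle hge

end Cfsg.Agent.Lib.Helper7_Singer
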