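import Mathlib

set_option autoImplicit false

/-!
Counting lemmas (helper7): fibre counting, and the number of elements of order `p` when the
Sylow `p`-subgroups have order `p`.
-/

namespace Cfsg.Agent.Lib.Helper7_SmallSimple3

/-- fiber counting: if all fibers of `f` have `k` elements then `|α| = |β| * k`. -/
theorem card_eq_mul_of_fiber {α β : Type*} [Finite α] [Finite β] (f : α → β) (k : ℕ)
    (h : ∀ b, Nat.card {a // f a = b} = k) : Nat.card α = Nat.card β * k := by
  classical
  letI : Fintype β := Fintype.ofFinite β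
  rw [Nat.card_congr (Equiv.sigmaFiberEquiv f).symm, Nat.card_sigma]
  simp only [h, Finset.sum_const, Finset.card_univ, smul_eq_mul, Nat.card_eq_fintype_card]

variable {G : Type*} [Group G] [Finite G]

/-- If the Sylow `p`-subgroups have order `p`, there are `n_p (p - 1)` elements of order `p`. -/
theorem card_orderOf_eq_prime (p : ℕ) [Fact p.Prime]
    (hcardQ : ∀ Q : Sylow p G, Nat.card (Q : Subgroup G) = p) :
    Nat.card {g : G // orderOf g = p} = Nat.card (Sylow p G) * (p - 1) := by
  classical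
  have hp : p.Prime := Fact.out
  have F2 : ∀ g : G, orderOf g = p → ∃ Q : Sylow p G, (Q : Subgroup G) = Subgroup.zpowers g := by
    intro g hg
    have hgP : IsPGroup p (Subgroup.zpowers g) :=
      IsPGroup.of_card (n := 1) (by rw [Nat.card_zpowers, hg, pow_one])
    obtain ⟨Q, hQ⟩ := hgP.exists_le_sylow
    refine ⟨Q, (Subgroup.eq_of_le_of_card_ge hQ ?_).symm⟩
    rw [hcardQ, Nat.card_zpowers, hg]
  apply card_eq_mul_of_fiber (fun g : {g : G // orderOf g = p} => Classical.choose (F2 g.1 g.2))
  intro Q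
  have hQ1 : ((Q : Subgroup G) : Set G) \ {1} = {g : G | g ∈ Q ∧ g ≠ 1} := by
    ext g; simp
  have : Nat.card {g : G // g ∈ Q ∧ g ≠ 1} = p - 1 := by
    have h1 := Set.ncard_sdiff_singleton_of_mem (s := ((Q : Subgroup G) : Set G)) (a := 1)
      (Subgroup.one_mem _)
    rw [hQ1] at h1
    have h2 : ((Q : Subgroup G) : Set G).ncard = p := by
      rw [← Nat.card_coe_set_eq]; exact hcardQ Q
    rw [h2] at h1
    rw [← h1, ← Nat.card_coe_set_eq]; rfl
  rw [← this]
  have hord : ∀ y : {g : G // g ∈ Q ∧ g ≠ 1}, orderOf y.1 = p := by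
    intro y
    have h1 : orderOf y.1 ∣ p := by
      have := orderOf_dvd_natCard (⟨y.1, y.2.1⟩ : (Q : Subgroup G))
      rwa [← Subgroup.orderOf_coe, hcardQ Q] at this
    rcases (Nat.dvd_prime hp).mp h1 with h | h
    · exact absurd (orderOf_eq_one_iff.mp h) y.2.2
    · exact h
  apply Nat.card_congr
  refine ⟨fun a => ⟨a.1.1, ?_, ?_⟩, fun y => ⟨⟨y.1, ?_⟩, ?_⟩, ?_, ?_⟩
  · have h1 := Classical.choose_spec (F2 a.1.1 a.1.2)
    have h2 : a.1.1 ∈ ((Classical.choose (F2 a.1.1 a.1.2) : Sylow p G) : Subgroup G) := by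
      rw [h1]; exact Subgroup.mem_zpowers _
    have h3 := a.2
    rw [h3] at h2
    exact h2
  · intro h
    have := a.1.2
    rw [h, orderOf_one] at this
    exact hp.one_lt.ne this
  · exact hord y
  · have h1 := Classical.choose_spec (F2 y.1 (hord y))
    apply Sylow.ext
    rw [h1]
    apply Subgroup.eq_of_le_of_card_ge
    · rw [Subgroup.zpowers_le]; exact y.2.1
    · rw [hcardQ, Nat.card_zpowers, hord y]
  · intro a; rfl
  · intro y; rfl

end Cfsg.Agent.Lib.Helper7_SmallSimple3
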