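import Mathlib

set_option autoImplicit false

/-!
Coprime supplements (helper7): if `N ⊴ G` has index coprime to `a`, some subgroup `H` of order
coprime to `a` satisfies `H N = G`.  (Frattini argument + Schur–Zassenhaus, by induction.)
-/

namespace Cfsg.Agent.Lib.Helper7_Supplement

universe u

theorem exists_supplement_aux (n : ℕ) : ∀ (G : Type u) [Group G] [Finite G], Nat.card G = n →
    ∀ (N : Subgroup G) [N.Normal] (a : ℕ), Nat.Coprime N.index a →
    ∃ H : Subgroup G, H ⊔ N = ⊤ ∧ Nat.Coprime (Nat.card H) a := by
  induction n using Nat.strong_induction_on with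
  | _ n ih =>
  intro G _ _ hn N _ a hcop
  by_cases hc : Nat.Coprime (Nat.card G) a
  · exact ⟨⊤, top_sup_eq _, by rw [Subgroup.card_top]; exact hc⟩
  · obtain ⟨p, hp, hpG, hpa⟩ := Nat.Prime.not_coprime_iff_dvd.mp hc
    haveI : Fact p.Prime := ⟨hp⟩
    have hpN : ¬ p ∣ N.index := by
      intro h
      have := Nat.eq_one_of_dvd_coprimes hcop h hpa
      exact hp.one_lt.ne' this
    have hpcardN : p ∣ Nat.card N := by
      have h1 : Nat.card N * N.index = Nat.card G := N.card_mul_index
      rw [← h1] at hpG
      exact (hp.dvd_mul.mp hpG).resolve_right hpN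
    obtain ⟨P⟩ : Nonempty (Sylow p N) := inferInstance
    have hPbot : (P : Subgroup N) ≠ ⊥ := P.ne_bot_of_dvd_card hpcardN
    set S : Subgroup G := (P : Subgroup N).map N.subtype with hS
    have hSN : S ≤ N := Subgroup.map_subtype_le _
    have hfrat : Subgroup.normalizer (S : Set G) ⊔ N = ⊤ := Sylow.normalizer_sup_eq_top P
    -- a proper subgroup K with K N = G
    have hK : ∃ K : Subgroup G, K ≠ ⊤ ∧ K ⊔ N = ⊤ := by
      by_cases hnor : Subgroup.normalizer (S : Set G) = ⊤
      · haveI : S.Normal := Subgroup.normalizer_eq_top_iff.mp hnor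
        have hcardS : Nat.card S = Nat.card (P : Subgroup N) :=
          Subgroup.card_map_of_injective N.subtype_injective
        have hidx : S.index = (P : Subgroup N).index * N.index := Subgroup.index_map_subtype _
        have hpS : ¬ p ∣ S.index := by
          rw [hidx]
          exact hp.not_dvd_mul P.not_dvd_index hpN
        obtain ⟨k, hk⟩ := IsPGroup.iff_card.mp P.isPGroup'
        have hcopS : Nat.Coprime (Nat.card S) S.index := by
          rw [hcardS, hk]
          exact Nat.Coprime.pow_left k ((Nat.Prime.coprime_iff_not_dvd hp).mpr hpS)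
        obtain ⟨T, hT⟩ := Subgroup.exists_right_complement'_of_coprime hcopS
        refine ⟨T, ?_, ?_⟩
        · intro hTtop
          have h1 := hT.card_mul_card
          rw [hTtop, Subgroup.card_top] at h1
          have hpos : 0 < Nat.card G := Nat.card_pos
          have h2 : Nat.card S = 1 := by
            have : Nat.card S * Nat.card G = 1 * Nat.card G := by rw [h1, one_mul]
            exact Nat.eq_of_mul_eq_mul_right hpos this
          rw [hcardS] at h2
          exact hPbot (Subgroup.card_eq_one.mp h2)
        · have h1 := hT.sup_eq_top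
          apply top_le_iff.mp
          rw [← h1]
          exact sup_le (hSN.trans le_sup_right) le_sup_left
      · exact ⟨_, hnor, hfrat⟩
    obtain ⟨K, hKtop, hKN⟩ := hK
    have hcardK : Nat.card K < n := by
      rw [← hn]
      have hlt : K < ⊤ := lt_top_iff_ne_top.mpr hKtop
      by_contra hle
      push Not at hle
      exact hKtop (Subgroup.eq_top_of_le_card K hle)
    have hcopK : Nat.Coprime (N.subgroupOf K).index a := by
      have h1 : (N.subgroupOf K).index = N.relIndex K := rfl
      rw [h1]
      exact Nat.Coprime.coprime_dvd_left (Subgroup.relIndex_dvd_index_of_normal N K) hcop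
    obtain ⟨H', hH'1, hH'2⟩ := ih (Nat.card K) hcardK K rfl (N.subgroupOf K) a hcopK
    refine ⟨H'.map K.subtype, ?_, ?_⟩
    · have h1 : (H' ⊔ N.subgroupOf K).map K.subtype = K := by
        rw [hH'1, ← MonoidHom.range_eq_map, Subgroup.range_subtype]
      rw [Subgroup.map_sup] at h1
      have h2 : (N.subgroupOf K).map K.subtype ≤ N := by
        rw [Subgroup.subgroupOf_map_subtype]
        exact inf_le_left
      have h3 : K ≤ H'.map K.subtype ⊔ N :=
        le_of_eq_of_le h1.symm (sup_le le_sup_left (h2.trans le_sup_right))
      apply top_le_iff.mp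
      rw [← hKN]
      exact sup_le h3 le_sup_right
    · rw [Subgroup.card_map_of_injective K.subtype_injective]
      exact hH'2

/-- If `N ⊴ G` (finite) has index coprime to `a`, there is a subgroup `H` of order coprime to `a`
with `H ⊔ N = ⊤`. -/
theorem exists_supplement {G : Type u} [Group G] [Finite G] (N : Subgroup G) [N.Normal] (a : ℕ)
    (h : Nat.Coprime N.index a) : ∃ H : Subgroup G, H ⊔ N = ⊤ ∧ Nat.Coprime (Nat.card H) a :=
  exists_supplement_aux (Nat.card G) G rfl N a h

end Cfsg.Agent.Lib.Helper7_Supplement
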