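import Mathlib
import Cfsg.Prelude
import Cfsg.Agent.S0051
import Cfsg.Agent.Lib.Helper3_PResidual
import Cfsg.Agent.Lib.Helper7_Basic

set_option autoImplicit false

/-! Tate's theorem via Gaschütz: with `K = O^p(G)`, `R = P ∩ K`, and `R₀ ⊴ P` with `R' ≤ R₀ ≤ R`,
the extension `P/R₀ → P/R ≅ G/K` pulled back to `G` splits over `P`, hence over `G`, and this
yields a complement to `R/R₀` in `P/R₀`. -/

namespace Cfsg.Agent.Lib.Helper7_Tate

open Subgroup Cfsg Cfsg.Agent.Lib.Helper3_PResidual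
open scoped commutatorElement

/-- homomorphisms to `p`-groups kill `O^p`. -/
theorem pResidual_le_ker {X Y : Type*} [Group X] [Group Y] (p : ℕ) [Fact p.Prime] (f : X →* Y)
    (hY : IsPGroup p Y) : pResidual p X ≤ f.ker := by
  rw [pResidual, closure_le]
  intro x hx
  rw [SetLike.mem_coe, MonoidHom.mem_ker]
  obtain ⟨k, hk⟩ := hY (f x)
  have h1 : orderOf (f x) ∣ p ^ k := orderOf_dvd_of_pow_eq_one hk
  have h2 : orderOf (f x) ∣ orderOf x := orderOf_map_dvd f x
  have h3 : (orderOf (f x)).Coprime (p ^ k) :=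
    Nat.Coprime.pow_right k (Nat.Coprime.coprime_dvd_left h2 hx)
  have h4 : orderOf (f x) = 1 := h3.eq_one_of_dvd h1
  exact orderOf_eq_one_iff.mp h4

/-- a surjective homomorphism from a finite group maps `O^p` onto `O^p`. -/
theorem pResidual_le_map {X Y : Type*} [Group X] [Group Y] [Finite X] (p : ℕ)
    [Fact p.Prime] (f : X →* Y) (hf : Function.Surjective f) :
    pResidual p Y ≤ (pResidual p X).map f := by
  rw [pResidual, Subgroup.closure_le]
  intro y hy
  obtain ⟨x, rfl⟩ := hf y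
  obtain ⟨a, ha⟩ := exists_pow_coprime p x
  have hcop : Nat.Coprime (p ^ a) (orderOf (f x)) := Nat.Coprime.pow_left a (Nat.Coprime.symm hy)
  obtain ⟨k, hk⟩ := exists_pow_eq_self_of_coprime hcop
  refine ⟨(x ^ (p ^ a)) ^ k, ?_, ?_⟩
  · have h1 : x ^ (p ^ a) ∈ pResidual p X := Subgroup.subset_closure ha
    exact pow_mem h1 k
  · rw [map_pow, map_pow]; exact hk


section main

variable {G : Type*} [Group G] {p : ℕ}

/-- the fibre product of `P/R₀` and `G` over `G/O^p(G)`. -/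
def fib (P : Subgroup G) (R₀ : Subgroup P) [R₀.Normal] (K : Subgroup G) [K.Normal] :
    Subgroup ((P ⧸ R₀) × G) where
  carrier := {e | ∃ x : P, (QuotientGroup.mk x : P ⧸ R₀) = e.1 ∧ (x : G)⁻¹ * e.2 ∈ K}
  one_mem' := ⟨1, rfl, by simp⟩
  mul_mem' := by
    rintro a b ⟨x, hx1, hx2⟩ ⟨y, hy1, hy2⟩
    refine ⟨x * y, by rw [QuotientGroup.mk_mul, hx1, hy1]; rfl, ?_⟩
    have h1 : ((y : G))⁻¹ * ((x : G)⁻¹ * a.2) * ((y : G))⁻¹⁻¹ ∈ K :=
      (inferInstance : K.Normal).conj_mem _ hx2 _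
    have h2 := K.mul_mem h1 hy2
    have e : (((x * y : P) : G))⁻¹ * (a * b).2 =
        ((y : G))⁻¹ * ((x : G)⁻¹ * a.2) * ((y : G))⁻¹⁻¹ * ((y : G)⁻¹ * b.2) := by
      show ((x : G) * (y : G))⁻¹ * (a.2 * b.2) = _
      group
    rw [e]; exact h2
  inv_mem' := by
    rintro a ⟨x, hx1, hx2⟩
    refine ⟨x⁻¹, by rw [QuotientGroup.mk_inv, hx1]; rfl, ?_⟩
    have h1 : (x : G) * ((x : G)⁻¹ * a.2)⁻¹ * (x : G)⁻¹ ∈ K :=
      (inferInstance : K.Normal).conj_mem _ (K.inv_mem hx2) _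
    have e : (((x⁻¹ : P) : G))⁻¹ * (a⁻¹).2 = (x : G) * ((x : G)⁻¹ * a.2)⁻¹ * (x : G)⁻¹ := by
      show ((x : G)⁻¹)⁻¹ * (a.2)⁻¹ = _
      group
    rw [e]; exact h1

variable (P : Subgroup G) (R₀ : Subgroup P) [R₀.Normal] (K : Subgroup G) [K.Normal]

/-- second projection of the fibre product -/
def pr2 : fib P R₀ K →* G := (MonoidHom.snd (P ⧸ R₀) G).comp (fib P R₀ K).subtype

/-- first projection of the fibre product -/
def pr1 : fib P R₀ K →* P ⧸ R₀ := (MonoidHom.fst (P ⧸ R₀) G).comp (fib P R₀ K).subtype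

/-- the diagonal section over `P` -/
def delta : P →* fib P R₀ K :=
  ((QuotientGroup.mk' R₀).prod P.subtype).codRestrict (fib P R₀ K)
    (fun x => ⟨x, rfl, by simp⟩)

theorem pr2_delta (y : P) : pr2 P R₀ K (delta P R₀ K y) = (y : G) := rfl

theorem pr1_delta (y : P) : pr1 P R₀ K (delta P R₀ K y) = QuotientGroup.mk y := rfl

theorem fib_ext {a b : fib P R₀ K} (h1 : pr1 P R₀ K a = pr1 P R₀ K b)
    (h2 : pr2 P R₀ K a = pr2 P R₀ K b) : a = b :=
  Subtype.ext (Prod.ext h1 h2)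

theorem mem_ker_pr2 (z : fib P R₀ K) (hz : z ∈ (pr2 P R₀ K).ker) :
    ∃ r : P, (r : G) ∈ K ∧ (QuotientGroup.mk r : P ⧸ R₀) = pr1 P R₀ K z := by
  obtain ⟨x, hx1, hx2⟩ := z.2
  have h1 : (z : (P ⧸ R₀) × G).2 = 1 := hz
  rw [h1, mul_one] at hx2
  exact ⟨x, by simpa using K.inv_mem hx2, hx1⟩

end main


section thm

variable {G : Type*} [Group G] [Finite G] {p : ℕ} [Fact p.Prime]

/-- **Key splitting theorem** (Tate, via Gaschütz): with `R = P ∩ O^p(G)` and `R' ≤ R₀ ≤ R`,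
`R₀ ⊴ P`, the section `R/R₀` is complemented in `P/R₀`. -/
theorem exists_supplement (P : Sylow p G) (K : Subgroup G) [K.Normal]
    (hgen : K ≤ closure {g : G | g ∈ K ∧ (orderOf g).Coprime p})
    (R₀ : Subgroup (P : Subgroup G)) [R₀.Normal]
    (hR₀ : R₀ ≤ K.subgroupOf (P : Subgroup G))
    (hab : ⁅K.subgroupOf (P : Subgroup G),
      K.subgroupOf (P : Subgroup G)⁆ ≤ R₀) :
    ∃ S : Subgroup (P : Subgroup G), R₀ ≤ S ∧
      S ⊔ K.subgroupOf (P : Subgroup G) = ⊤ ∧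
      S ⊓ K.subgroupOf (P : Subgroup G) ≤ R₀ := by
  have hQ : IsPGroup p ((P : Subgroup G) ⧸ R₀) := P.isPGroup'.to_quotient R₀
  have hPrange : (P : Subgroup G) ≤ (pr2 (P : Subgroup G) R₀ K).range := by
    intro y hy
    exact ⟨delta (P : Subgroup G) R₀ K ⟨y, hy⟩, rfl⟩
  -- the kernel
  have hZcomm : IsMulCommutative (pr2 (P : Subgroup G) R₀ K).ker := by
    refine ⟨⟨fun a b => ?_⟩⟩
    obtain ⟨r, hr, hra⟩ := mem_ker_pr2 _ _ _ a.1 a.2
    obtain ⟨s, hs, hsb⟩ := mem_ker_pr2 _ _ _ b.1 b.2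
    apply Subtype.ext
    apply fib_ext
    · show pr1 _ _ _ (a.1 * b.1) = pr1 _ _ _ (b.1 * a.1)
      rw [map_mul, map_mul, ← hra, ← hsb, ← QuotientGroup.mk_mul, ← QuotientGroup.mk_mul,
        QuotientGroup.eq]
      apply hab
      have e : (r * s)⁻¹ * (s * r) = ⁅s⁻¹, r⁻¹⁆ := by rw [commutatorElement_def]; group
      rw [e]
      exact commutator_mem_commutator (inv_mem (mem_subgroupOf.mpr hs))
        (inv_mem (mem_subgroupOf.mpr hr))
    · show pr2 _ _ _ (a.1 * b.1) = pr2 _ _ _ (b.1 * a.1)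
      rw [map_mul, map_mul, MonoidHom.mem_ker.mp a.2, MonoidHom.mem_ker.mp b.2]
  have hZU : (pr2 (P : Subgroup G) R₀ K).ker ≤
      (P : Subgroup G).comap (pr2 (P : Subgroup G) R₀ K) := by
    intro z hz
    rw [mem_comap, MonoidHom.mem_ker.mp hz]
    exact one_mem _
  have hZp : IsPGroup p (pr2 (P : Subgroup G) R₀ K).ker := by
    refine IsPGroup.of_injective hQ ((pr1 (P : Subgroup G) R₀ K).comp
      (pr2 (P : Subgroup G) R₀ K).ker.subtype) ?_
    intro a b hab'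
    apply Subtype.ext
    apply fib_ext _ _ _ hab'
    show pr2 _ _ _ a.1 = pr2 _ _ _ b.1
    rw [MonoidHom.mem_ker.mp a.2, MonoidHom.mem_ker.mp b.2]
  have hcop : (Nat.card (pr2 (P : Subgroup G) R₀ K).ker).Coprime
      ((P : Subgroup G).comap (pr2 (P : Subgroup G) R₀ K)).index := by
    rw [index_comap]
    obtain ⟨k, hk⟩ := IsPGroup.iff_card.mp hZp
    rw [hk]
    refine Nat.Coprime.pow_left k ((Nat.Prime.coprime_iff_not_dvd Fact.out).mpr ?_)
    intro hd
    exact P.not_dvd_index (hd.trans (relIndex_dvd_index_of_le hPrange))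
  have hAU : (delta (P : Subgroup G) R₀ K).range ≤
      (P : Subgroup G).comap (pr2 (P : Subgroup G) R₀ K) := by
    rintro _ ⟨y, rfl⟩
    rw [mem_comap, pr2_delta]
    exact y.2
  have hAZ : (delta (P : Subgroup G) R₀ K).range ⊓
      (pr2 (P : Subgroup G) R₀ K).ker = ⊥ := by
    rw [eq_bot_iff]
    rintro _ ⟨⟨y, rfl⟩, hz⟩
    have hz' : pr2 (P : Subgroup G) R₀ K
      (delta (P : Subgroup G) R₀ K y) = 1 := hz
    rw [pr2_delta] at hz'
    have : y = 1 := Subtype.ext hz'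
    rw [this, map_one]
    exact one_mem _
  have hZA : (pr2 (P : Subgroup G) R₀ K).ker ⊔
      (delta (P : Subgroup G) R₀ K).range =
      (P : Subgroup G).comap (pr2 (P : Subgroup G) R₀ K) := by
    refine le_antisymm (sup_le hZU hAU) (fun u hu => ?_)
    rw [mem_comap] at hu
    have e : u = (u * (delta (P : Subgroup G) R₀ K ⟨_, hu⟩)⁻¹) *
        delta (P : Subgroup G) R₀ K ⟨_, hu⟩ := by group
    rw [e]
    refine mul_mem_sup ?_ (MonoidHom.mem_range.mpr ⟨_, rfl⟩)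
    rw [MonoidHom.mem_ker, map_mul, map_inv, pr2_delta]
    exact mul_inv_cancel _
  obtain ⟨C, hC⟩ := Cfsg.Agent.S0051.result (pr2 (P : Subgroup G) R₀ K).ker
    ((P : Subgroup G).comap (pr2 (P : Subgroup G) R₀ K)) hZU hcop
    (delta (P : Subgroup G) R₀ K).range hAU hAZ hZA
  have hinf : (pr2 (P : Subgroup G) R₀ K).ker ⊓ C = ⊥ := hC.disjoint.eq_bot
  have hsup : (pr2 (P : Subgroup G) R₀ K).ker ⊔ C = ⊤ := hC.sup_eq_top
  have hdecomp : ∀ e : fib (P : Subgroup G) R₀ K,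
      ∃ z ∈ (pr2 (P : Subgroup G) R₀ K).ker, ∃ c ∈ C, e = z * c := by
    intro e
    have h1 : e ∈ (((pr2 (P : Subgroup G) R₀ K).ker ⊔ C : Subgroup _) : Set _) := by
      rw [hsup]; trivial
    rw [normal_mul] at h1
    obtain ⟨z, hz, c, hc, rfl⟩ := h1
    exact ⟨z, hz, c, hc, rfl⟩
  -- the restriction of pr2 to C is bijective
  have hfinj : Function.Injective ((pr2 (P : Subgroup G) R₀ K).comp C.subtype) := by
    rw [← MonoidHom.ker_eq_bot_iff, eq_bot_iff]
    intro c hc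
    have h1 : (c : fib (P : Subgroup G) R₀ K) ∈
        (pr2 (P : Subgroup G) R₀ K).ker ⊓ C := ⟨hc, c.2⟩
    rw [hinf] at h1
    exact Subtype.ext h1
  have hKmap : K ≤ ((pr1 (P : Subgroup G) R₀ K).comp C.subtype).ker.map
      ((pr2 (P : Subgroup G) R₀ K).comp C.subtype) := by
    refine hgen.trans ?_
    rw [closure_le]
    rintro k ⟨hkK, hkcop⟩
    have hmem : (((1 : (P : Subgroup G) ⧸ R₀), k) : ((P : Subgroup G) ⧸ R₀) × G) ∈
        fib (P : Subgroup G) R₀ K := ⟨1, rfl, by simpa using hkK⟩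
    obtain ⟨e, he⟩ : ∃ e : fib (P : Subgroup G) R₀ K, pr2 (P : Subgroup G) R₀ K e = k :=
      ⟨⟨_, hmem⟩, rfl⟩
    obtain ⟨z, hz, c, hc, hzc⟩ := hdecomp e
    have h1 : pr2 (P : Subgroup G) R₀ K c = k := by
      rw [← he, hzc, map_mul, MonoidHom.mem_ker.mp hz, one_mul]
    have h3 : c ^ orderOf k = 1 := by
      have h4 : c ^ orderOf k ∈ (pr2 (P : Subgroup G) R₀ K).ker ⊓ C := by
        refine Subgroup.mem_inf.mpr ⟨?_, pow_mem hc _⟩
        rw [MonoidHom.mem_ker, map_pow, h1, pow_orderOf_eq_one]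
      rw [hinf] at h4
      exact h4
    have h5 : pr1 (P : Subgroup G) R₀ K c = 1 := by
      obtain ⟨j, hj⟩ := hQ (pr1 (P : Subgroup G) R₀ K c)
      have h6 : orderOf (pr1 (P : Subgroup G) R₀ K c) ∣ p ^ j := orderOf_dvd_of_pow_eq_one hj
      have h7 : orderOf (pr1 (P : Subgroup G) R₀ K c) ∣ orderOf k := by
        apply orderOf_dvd_of_pow_eq_one
        rw [← map_pow, h3, map_one]
      have h8 : (orderOf (pr1 (P : Subgroup G) R₀ K c)).Coprime (p ^ j) :=
        Nat.Coprime.pow_right j (Nat.Coprime.coprime_dvd_left h7 hkcop)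
      exact orderOf_eq_one_iff.mp (h8.eq_one_of_dvd h6)
    exact ⟨⟨c, hc⟩, h5, h1⟩
  have hkey : ∀ c ∈ C, pr2 (P : Subgroup G) R₀ K c ∈ K →
      pr1 (P : Subgroup G) R₀ K c = 1 := by
    intro c hc hcK
    obtain ⟨c', hc', hcc⟩ := hKmap hcK
    have h1 : c' = ⟨c, hc⟩ := hfinj hcc
    rw [h1] at hc'
    exact hc'
  refine ⟨(C.map (pr1 (P : Subgroup G) R₀ K)).comap (QuotientGroup.mk' R₀),
    ?_, ?_, ?_⟩
  · intro x hx
    rw [mem_comap, QuotientGroup.mk'_apply, (QuotientGroup.eq_one_iff x).mpr hx]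
    exact one_mem _
  · rw [eq_top_iff]
    intro y _
    obtain ⟨z, hz, c, hc, hzc⟩ := hdecomp (delta (P : Subgroup G) R₀ K y)
    obtain ⟨r, hr, hrz⟩ := mem_ker_pr2 _ _ _ z hz
    have h1 : (QuotientGroup.mk y : (P : Subgroup G) ⧸ R₀) =
        QuotientGroup.mk r * pr1 (P : Subgroup G) R₀ K c := by
      rw [← pr1_delta (P : Subgroup G) R₀ K y, hzc, map_mul, hrz]
    have h2 : pr1 (P : Subgroup G) R₀ K c =
        (QuotientGroup.mk (r⁻¹ * y) : (P : Subgroup G) ⧸ R₀) := by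
      rw [QuotientGroup.mk_mul, h1, QuotientGroup.mk_inv, inv_mul_cancel_left]
    have h3 : r⁻¹ * y ∈ (C.map (pr1 (P : Subgroup G) R₀ K)).comap
        (QuotientGroup.mk' R₀) := by
      rw [mem_comap, QuotientGroup.mk'_apply, ← h2]
      exact mem_map_of_mem _ hc
    have e : y = (r⁻¹ * y) * ((r⁻¹ * y)⁻¹ * r * (r⁻¹ * y)) := by group
    rw [e]
    refine mul_mem_sup h3 ?_
    exact (inferInstance : (K.subgroupOf (P : Subgroup G)).Normal).conj_mem' _
      (mem_subgroupOf.mpr hr) _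
  · rintro y ⟨hyS, hyK⟩
    have hyS' : y ∈ (C.map (pr1 (P : Subgroup G) R₀ K)).comap
      (QuotientGroup.mk' R₀) := hyS
    rw [mem_comap, QuotientGroup.mk'_apply] at hyS'
    obtain ⟨c, hc, hcy⟩ := hyS'
    obtain ⟨x, hx1, hx2⟩ := c.2
    have h1 : (QuotientGroup.mk x : (P : Subgroup G) ⧸ R₀) = QuotientGroup.mk y := by
      rw [hx1, ← hcy]; rfl
    have h2 : x⁻¹ * y ∈ R₀ := QuotientGroup.eq.mp h1
    have h3 : ((x⁻¹ * y : (P : Subgroup G)) : G) ∈ K := mem_subgroupOf.mp (hR₀ h2)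
    have h4 : (y : G) ∈ K := mem_subgroupOf.mp hyK
    have h5 : (x : G) ∈ K := by
      have : (x : G) = (y : G) * (((x⁻¹ * y : (P : Subgroup G)) : G))⁻¹ := by
        show (x : G) = (y : G) * ((x : G)⁻¹ * (y : G))⁻¹
        group
      rw [this]; exact mul_mem h4 (inv_mem h3)
    have h6 : pr2 (P : Subgroup G) R₀ K c ∈ K := by
      have : pr2 (P : Subgroup G) R₀ K c =
          (x : G) * ((x : G)⁻¹ * (c : ((P : Subgroup G) ⧸ R₀) × G).2) := by
        show (c : ((P : Subgroup G) ⧸ R₀) × G).2 = _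
        group
      rw [this]; exact mul_mem h5 hx2
    have h7 := hkey c hc h6
    rw [h7] at hcy
    exact (QuotientGroup.eq_one_iff y).mp hcy.symm


/-- **Tate's theorem**, basic form: a normal subgroup `K` generated by `p'`-elements with
`P ∩ K ≤ Φ(P)` meets `P` trivially. -/
theorem subgroupOf_eq_bot (P : Sylow p G) (K : Subgroup G) [K.Normal]
    (hgen : K ≤ closure {g : G | g ∈ K ∧ (orderOf g).Coprime p})
    (h : K.subgroupOf (P : Subgroup G) ≤ frattini (P : Subgroup G)) :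
    K.subgroupOf (P : Subgroup G) = ⊥ := by
  obtain ⟨S, hS1, hS2, hS3⟩ := exists_supplement P K hgen
    ⁅K.subgroupOf (P : Subgroup G), K.subgroupOf (P : Subgroup G)⁆
    (commutator_le_right _ _) le_rfl
  have hStop : S = ⊤ := by
    apply frattini_nongenerating
    rw [eq_top_iff, ← hS2]
    exact sup_le_sup_left h S
  rw [hStop, top_inf_eq] at hS3
  by_contra hne
  haveI : Nontrivial (K.subgroupOf (P : Subgroup G)) :=
    (Subgroup.nontrivial_iff_ne_bot _).mpr hne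
  haveI : Group.IsNilpotent (K.subgroupOf (P : Subgroup G)) :=
    (P.isPGroup'.to_subgroup (K.subgroupOf (P : Subgroup G))).isNilpotent
  have h1 := Group.IsSolvable.commutator_lt_top_of_nontrivial (K.subgroupOf (P : Subgroup G))
  have h2 : ⁅K.subgroupOf (P : Subgroup G), K.subgroupOf (P : Subgroup G)⁆ <
      K.subgroupOf (P : Subgroup G) := by
    rw [← map_subtype_commutator]
    have h3 : ((⊤ : Subgroup (K.subgroupOf (P : Subgroup G))).map
        (K.subgroupOf (P : Subgroup G)).subtype) = K.subgroupOf (P : Subgroup G) := by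
      rw [← MonoidHom.range_eq_map, range_subtype]
    conv_rhs => rw [← h3]
    exact (map_lt_map_iff_of_injective (subtype_injective _)).mpr h1
  exact absurd hS3 (not_le_of_gt h2)

theorem card_coprime (P : Sylow p G) (K : Subgroup G) [K.Normal]
    (hgen : K ≤ closure {g : G | g ∈ K ∧ (orderOf g).Coprime p})
    (h : K.subgroupOf (P : Subgroup G) ≤ frattini (P : Subgroup G)) :
    (Nat.card K).Coprime p := by
  have hbot := subgroupOf_eq_bot P K hgen h
  rw [Nat.coprime_comm, Nat.Prime.coprime_iff_not_dvd Fact.out]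
  intro hd
  obtain ⟨k, hk⟩ := exists_prime_orderOf_dvd_card' (G := K) p hd
  have hk' : orderOf (k : G) = p := by rw [Subgroup.orderOf_coe]; exact hk
  have hP : IsPGroup p (zpowers (k : G)) := by
    apply IsPGroup.of_card (n := 1)
    rw [Nat.card_zpowers, hk', pow_one]
  obtain ⟨P', hP'⟩ := hP.exists_le_sylow
  obtain ⟨g, hg⟩ := MulAction.exists_smul_eq G P' P
  have h1 : g * (k : G) * g⁻¹ ∈ (P : Subgroup G) := by
    rw [← hg]
    show g * (k : G) * g⁻¹ ∈ g • P'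
    rw [Cfsg.Agent.Lib.Helper7_Basic.mem_smul_sylow]
    have : g⁻¹ * (g * (k : G) * g⁻¹) * g = (k : G) := by group
    rw [this]
    exact hP' (mem_zpowers _)
  have h2 : g * (k : G) * g⁻¹ ∈ K := (inferInstance : K.Normal).conj_mem _ k.2 g
  have h3 : (⟨g * (k : G) * g⁻¹, h1⟩ : (P : Subgroup G)) ∈ K.subgroupOf (P : Subgroup G) :=
    mem_subgroupOf.mpr h2
  rw [hbot, mem_bot] at h3
  have h4 : g * (k : G) * g⁻¹ = 1 := congrArg Subtype.val h3
  have h5 : (k : G) = 1 := by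
    have : (k : G) = g⁻¹ * (g * (k : G) * g⁻¹) * g := by group
    rw [this, h4]; group
  rw [h5, orderOf_one] at hk'
  exact (Fact.out : p.Prime).one_lt.ne hk'


/-- **Tate's theorem**: if `N ⊴ G` and `N ∩ P ≤ Φ(P)`, then `N` has a normal `p`-complement `K`,
which is even normal in `G`. -/
theorem exists_normal_pComplement (P : Sylow p G) (N : Subgroup G) [N.Normal]
    (h : N ⊓ (P : Subgroup G) ≤ (frattini P).map (P : Subgroup G).subtype) :
    ∃ K : Subgroup G, K.Normal ∧ K ≤ N ∧ (Nat.card K).Coprime p ∧ ∃ k : ℕ, K.relIndex N = p ^ k := by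
  set K : Subgroup G := closure {g : G | g ∈ N ∧ (orderOf g).Coprime p} with hK
  have hKN : K ≤ N := by
    rw [hK, closure_le]
    rintro g ⟨hg, _⟩
    exact hg
  haveI hKn : K.Normal := by
    apply closure_normal_of_conj_invariant
    rintro n ⟨hn, hcop⟩ g
    refine ⟨(inferInstance : N.Normal).conj_mem n hn g, ?_⟩
    rw [Cfsg.Agent.Lib.Helper7_Basic.orderOf_conj']
    exact hcop
  have hgen : K ≤ closure {g : G | g ∈ K ∧ (orderOf g).Coprime p} := by
    conv_lhs => rw [hK]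
    apply Subgroup.closure_mono
    rintro g ⟨hg, hcop⟩
    exact ⟨Subgroup.subset_closure ⟨hg, hcop⟩, hcop⟩
  have hfr : K.subgroupOf (P : Subgroup G) ≤ frattini (P : Subgroup G) := by
    intro y hy
    have h1 : (y : G) ∈ N ⊓ (P : Subgroup G) :=
      Subgroup.mem_inf.mpr ⟨hKN (mem_subgroupOf.mp hy), y.2⟩
    obtain ⟨y', hy', hyy⟩ := h h1
    have : y' = y := Subtype.ext hyy
    rw [← this]; exact hy'
  have hcop := card_coprime P K hgen hfr
  refine ⟨K, hKn, hKN, hcop, ?_⟩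
  have hQ : IsPGroup p (N ⧸ K.subgroupOf N) := by
    apply isPGroup_quotient_of_coprime_mem
    intro g hg
    rw [mem_subgroupOf]
    apply Subgroup.subset_closure
    refine ⟨g.2, ?_⟩
    rw [Subgroup.orderOf_coe]
    exact hg
  obtain ⟨k, hk⟩ := IsPGroup.iff_card.mp hQ
  exact ⟨k, by rw [Subgroup.relIndex, Subgroup.index, hk]⟩

end thm

end Cfsg.Agent.Lib.Helper7_Tate
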