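import Mathlib
import Cfsg.Prelude
import Cfsg.Agent.Lib.Helper7_Tate
import Cfsg.Agent.Lib.Lead_Coprime

set_option autoImplicit false

/-! Tate's theorem, general form: if `P ≤ V ≤ G` and `P ∩ G' ≤ V'`, then
`P ∩ O^p(G) ≤ O^p(V)`. -/

namespace Cfsg.Agent.Lib.Helper7_Tate2

open Subgroup Cfsg Cfsg.Agent.Lib.Helper3_PResidual Cfsg.Agent.Lib.Helper7_Tate
open scoped commutatorElement

/-- central elements drop out of commutators -/
theorem commutator_mul_central {X : Type*} [Group X] (x y a b : X) (ha : ∀ z, a * z = z * a)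
    (hb : ∀ z, b * z = z * b) : ⁅x * a, y * b⁆ = ⁅x, y⁆ := by
  rw [commutatorElement_def, commutatorElement_def]
  have h1 : x * a = a * x := (ha x).symm
  have h2 : y * b = b * y := (hb y).symm
  calc x * a * (y * b) * (x * a)⁻¹ * (y * b)⁻¹
      = a * (x * b * y * x⁻¹) * a⁻¹ * y⁻¹ * b⁻¹ := by rw [h1, h2]; group
    _ = (x * b * y * x⁻¹) * a * a⁻¹ * y⁻¹ * b⁻¹ := by rw [ha]
    _ = (x * b) * y * x⁻¹ * y⁻¹ * b⁻¹ := by group
    _ = (b * x) * y * x⁻¹ * y⁻¹ * b⁻¹ := by rw [hb x]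
    _ = b * (x * y * x⁻¹ * y⁻¹) * b⁻¹ := by group
    _ = (x * y * x⁻¹ * y⁻¹) * b * b⁻¹ := by rw [hb]
    _ = x * y * x⁻¹ * y⁻¹ := by group

/-- if `S ≤ P` contains `P ∩ O^p(X)` and all commutators of `P`, it contains `P ∩ X'`. -/
theorem commutator_inf_le {X : Type*} [Group X] [Finite X] {p : ℕ} [Fact p.Prime] (P : Sylow p X)
    (S : Subgroup X) (hSP : S ≤ P) (hL : pResidual p X ⊓ (P : Subgroup X) ≤ S)
    (hS : ∀ y₁ ∈ (P : Subgroup X), ∀ y₂ ∈ (P : Subgroup X), ⁅y₁, y₂⁆ ∈ S) :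
    commutator X ⊓ (P : Subgroup X) ≤ S := by
  haveI hLn : (pResidual p X).Normal := pResidual_normal p X
  have h1 : commutator X ≤ S ⊔ pResidual p X := by
    rw [_root_.commutator_def, Subgroup.commutator_le]
    intro v₁ _ v₂ _
    obtain ⟨y₁, hy₁, l₁, hl₁, rfl⟩ := exists_mul_pResidual p (P : Subgroup X) P.not_dvd_index v₁
    obtain ⟨y₂, hy₂, l₂, hl₂, rfl⟩ := exists_mul_pResidual p (P : Subgroup X) P.not_dvd_index v₂
    have h2 : (QuotientGroup.mk' (pResidual p X)) ⁅y₁ * l₁, y₂ * l₂⁆ =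
        (QuotientGroup.mk' (pResidual p X)) ⁅y₁, y₂⁆ := by
      rw [map_commutatorElement, map_commutatorElement, map_mul, map_mul]
      have e1 : (QuotientGroup.mk' (pResidual p X)) l₁ = 1 :=
        (QuotientGroup.eq_one_iff l₁).mpr hl₁
      have e2 : (QuotientGroup.mk' (pResidual p X)) l₂ = 1 :=
        (QuotientGroup.eq_one_iff l₂).mpr hl₂
      rw [e1, e2, mul_one, mul_one]
    have h3 : ⁅y₁, y₂⁆⁻¹ * ⁅y₁ * l₁, y₂ * l₂⁆ ∈ pResidual p X := by
      rw [← QuotientGroup.eq]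
      exact h2.symm
    have e : ⁅y₁ * l₁, y₂ * l₂⁆ = ⁅y₁, y₂⁆ * (⁅y₁, y₂⁆⁻¹ * ⁅y₁ * l₁, y₂ * l₂⁆) := by group
    rw [e]
    exact mul_mem_sup (hS y₁ hy₁ y₂ hy₂) h3
  rintro x ⟨hxc, hxP⟩
  have h4 : x ∈ ((S ⊔ pResidual p X : Subgroup X) : Set X) := h1 hxc
  rw [mul_normal] at h4
  obtain ⟨s, hs, l, hl, rfl⟩ := h4
  have hlP : l ∈ (P : Subgroup X) := by
    have : l = s⁻¹ * (s * l) := by group
    rw [this]
    exact mul_mem (inv_mem (hSP hs)) hxP
  exact mul_mem hs (hL (Subgroup.mem_inf.mpr ⟨hl, hlP⟩))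


/-- in a finite `p`-group, `R ≤ R₁ ⊔ [R, P]` with `R₁ ⊴ P` forces `R ≤ R₁`. -/
theorem le_of_le_sup_commutator {X : Type*} [Group X] [Finite X] {p : ℕ} [Fact p.Prime]
    (hX : IsPGroup p X) (R R₁ : Subgroup X) [hRn : R.Normal] [R₁.Normal]
    (h : R ≤ R₁ ⊔ ⁅R, (⊤ : Subgroup X)⁆) : R ≤ R₁ := by
  have h1 : R.map (QuotientGroup.mk' R₁) ≤
      ⁅R.map (QuotientGroup.mk' R₁), (⊤ : Subgroup (X ⧸ R₁))⁆ := by
    calc R.map (QuotientGroup.mk' R₁)
        ≤ (R₁ ⊔ ⁅R, (⊤ : Subgroup X)⁆).map (QuotientGroup.mk' R₁) := map_mono h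
      _ = R₁.map (QuotientGroup.mk' R₁) ⊔ ⁅R, (⊤ : Subgroup X)⁆.map (QuotientGroup.mk' R₁) :=
          map_sup _ _ _
      _ = ⁅R, (⊤ : Subgroup X)⁆.map (QuotientGroup.mk' R₁) := by
          rw [QuotientGroup.map_mk'_self, bot_sup_eq]
      _ = ⁅R.map (QuotientGroup.mk' R₁), (⊤ : Subgroup X).map (QuotientGroup.mk' R₁)⁆ :=
          map_commutator _ _ _
      _ ≤ ⁅R.map (QuotientGroup.mk' R₁), (⊤ : Subgroup (X ⧸ R₁))⁆ :=
          commutator_mono le_rfl le_top
  have h2 : R.map (QuotientGroup.mk' R₁) = ⊥ := by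
    by_contra hne
    have hQ : IsPGroup p (X ⧸ R₁) := hX.to_quotient R₁
    have h3 := Cfsg.Agent.Lib.Lead_Coprime.commutator_lt_of_pgroup p
      (R.map (QuotientGroup.mk' R₁)) (⊤ : Subgroup (X ⧸ R₁)) (hQ.to_subgroup _) (hQ.to_subgroup _)
      (by
        haveI : (R.map (QuotientGroup.mk' R₁)).Normal :=
          hRn.map _ (QuotientGroup.mk'_surjective R₁)
        rw [normalizer_eq_top]) 
      hne
    exact absurd h1 (not_le_of_gt h3)
  intro r hr
  have h4 : QuotientGroup.mk' R₁ r ∈ R.map (QuotientGroup.mk' R₁) := mem_map_of_mem _ hr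
  rw [h2, mem_bot, QuotientGroup.mk'_apply, QuotientGroup.eq_one_iff] at h4
  exact h4

section general

variable {G : Type*} [Group G] [Finite G] {p : ℕ} [Fact p.Prime]

theorem map_pResidual_le_pResidual (V : Subgroup G) :
    (pResidual p V).map V.subtype ≤ pResidual p G := by
  rw [map_le_iff_le_comap, pResidual, closure_le]
  intro v hv
  rw [SetLike.mem_coe, mem_comap]
  apply Subgroup.subset_closure
  show (orderOf ((v : V) : G)).Coprime p
  rw [Subgroup.orderOf_coe]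
  exact hv

theorem pResidual_inf_le_commutator (P : Sylow p G) :
    pResidual p G ⊓ (P : Subgroup G) ≤ commutator G := by
  have h1 : pResidual p G ≤ (P : Subgroup G).transferFocal.ker :=
    pResidual_le_ker p _ (P.isPGroup'.to_quotient _)
  have h2 := Subgroup.ker_transferFocal_inf_eq_focalSubgroup P
  have h3 := Subgroup.commutator_inf_eq_focalSubgroup P
  calc pResidual p G ⊓ (P : Subgroup G) ≤ (P : Subgroup G).transferFocal.ker ⊓ (P : Subgroup G) :=
        inf_le_inf_right _ h1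
    _ = commutator G ⊓ (P : Subgroup G) := by rw [h2, h3]
    _ ≤ commutator G := inf_le_left

/-- **Tate's theorem**, general form. -/
theorem tate_general (P : Sylow p G) (V : Subgroup G) (hPV : (P : Subgroup G) ≤ V)
    (hfoc : commutator G ⊓ (P : Subgroup G) ≤ ⁅V, V⁆) :
    (P : Subgroup G) ⊓ pResidual p G ≤ (pResidual p V).map V.subtype := by
  haveI hKn : (pResidual p G).Normal := pResidual_normal p G
  haveI hLn : (pResidual p V).Normal := pResidual_normal p V
  have hgen : pResidual p G ≤ closure {g : G | g ∈ pResidual p G ∧ (orderOf g).Coprime p} := by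
    conv_lhs => rw [pResidual]
    apply Subgroup.closure_mono
    intro g hg
    exact ⟨Subgroup.subset_closure hg, hg⟩
  -- R₁ = P ∩ O^p(V)
  haveI hR₁n : (((pResidual p V).map V.subtype).subgroupOf (P : Subgroup G)).Normal := by
    constructor
    intro x hx y
    rw [mem_subgroupOf] at hx ⊢
    obtain ⟨x', hx', hxx⟩ := hx
    refine ⟨⟨(y : G), hPV y.2⟩ * x' * ⟨(y : G), hPV y.2⟩⁻¹, hLn.conj_mem _ hx' _, ?_⟩
    show (y : G) * (x' : G) * (y : G)⁻¹ = _
    have : (V.subtype x' : G) = (x' : G) := rfl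
    rw [← this, hxx]
    rfl
  have hR₁R : ((pResidual p V).map V.subtype).subgroupOf (P : Subgroup G) ≤
      (pResidual p G).subgroupOf (P : Subgroup G) := by
    intro x hx
    rw [mem_subgroupOf] at hx ⊢
    exact map_pResidual_le_pResidual V hx
  obtain ⟨S, hS1, hS2, hS3⟩ := exists_supplement P (pResidual p G) hgen
    (((pResidual p V).map V.subtype).subgroupOf (P : Subgroup G) ⊔
      ⁅(pResidual p G).subgroupOf (P : Subgroup G), (⊤ : Subgroup (P : Subgroup G))⁆)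
    (sup_le hR₁R (commutator_le_left _ _))
    ((commutator_mono le_rfl le_top).trans le_sup_right)
  -- commutators of P lie in S
  have hSab : ∀ y₁ y₂ : (P : Subgroup G), ⁅y₁, y₂⁆ ∈ S := by
    intro y₁ y₂
    have hdec : ∀ y : (P : Subgroup G), ∃ s ∈ S,
        ∃ r ∈ (pResidual p G).subgroupOf (P : Subgroup G), y = s * r := by
      intro y
      have h1 : y ∈ ((S ⊔ (pResidual p G).subgroupOf (P : Subgroup G) : Subgroup _) : Set _) := by
        rw [hS2]; trivial
      rw [mul_normal] at h1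
      obtain ⟨s, hs, r, hr, rfl⟩ := h1
      exact ⟨s, hs, r, hr, rfl⟩
    obtain ⟨s₁, hs₁, r₁, hr₁, rfl⟩ := hdec y₁
    obtain ⟨s₂, hs₂, r₂, hr₂, rfl⟩ := hdec y₂
    have hcent : ∀ r ∈ (pResidual p G).subgroupOf (P : Subgroup G), ∀ z,
        (QuotientGroup.mk' (((pResidual p V).map V.subtype).subgroupOf (P : Subgroup G) ⊔
          ⁅(pResidual p G).subgroupOf (P : Subgroup G), (⊤ : Subgroup (P : Subgroup G))⁆)) r * z =
        z * (QuotientGroup.mk' (((pResidual p V).map V.subtype).subgroupOf (P : Subgroup G) ⊔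
          ⁅(pResidual p G).subgroupOf (P : Subgroup G), (⊤ : Subgroup (P : Subgroup G))⁆)) r := by
      intro r hr z
      obtain ⟨z, rfl⟩ := QuotientGroup.mk'_surjective _ z
      rw [← map_mul, ← map_mul, QuotientGroup.mk'_apply, QuotientGroup.mk'_apply, QuotientGroup.eq]
      apply le_sup_right (a := ((pResidual p V).map V.subtype).subgroupOf (P : Subgroup G))
      have e : (r * z)⁻¹ * (z * r) = ⁅z⁻¹, r⁻¹⁆ := by
        rw [commutatorElement_def]; group
      rw [e, commutator_comm]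
      exact commutator_mem_commutator (mem_top _) (inv_mem hr)
    have h2 := commutator_mul_central
      (QuotientGroup.mk' (((pResidual p V).map V.subtype).subgroupOf (P : Subgroup G) ⊔
        ⁅(pResidual p G).subgroupOf (P : Subgroup G), (⊤ : Subgroup (P : Subgroup G))⁆) s₁)
      (QuotientGroup.mk' _ s₂) (QuotientGroup.mk' _ r₁) (QuotientGroup.mk' _ r₂)
      (hcent r₁ hr₁) (hcent r₂ hr₂)
    rw [← map_mul, ← map_mul, ← map_commutatorElement, ← map_commutatorElement,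
      QuotientGroup.mk'_apply, QuotientGroup.mk'_apply] at h2
    have h3 := QuotientGroup.eq.mp h2.symm
    have e : ⁅s₁ * r₁, s₂ * r₂⁆ = ⁅s₁, s₂⁆ * (⁅s₁, s₂⁆⁻¹ * ⁅s₁ * r₁, s₂ * r₂⁆) := by group
    rw [e]
    refine mul_mem ?_ (hS1 h3)
    rw [commutatorElement_def]
    exact mul_mem (mul_mem (mul_mem hs₁ hs₂) (inv_mem hs₁)) (inv_mem hs₂)
  have hmemP : ∀ x : V, x ∈ ((P.subtype hPV : Sylow p V) : Subgroup V) ↔
      (x : G) ∈ (P : Subgroup G) := by
    intro x
    rw [Sylow.coe_subtype, mem_subgroupOf]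
  have hV := commutator_inf_le (P.subtype hPV)
    ((S.map (P : Subgroup G).subtype).subgroupOf V)
    (by
      intro x hx
      rw [hmemP]
      exact map_subtype_le _ (mem_subgroupOf.mp hx))
    (by
      intro x hx
      obtain ⟨hxL, hxP⟩ := Subgroup.mem_inf.mp hx
      have hxP' : (x : G) ∈ (P : Subgroup G) := (hmemP x).mp hxP
      have h1 : (⟨(x : G), hxP'⟩ : (P : Subgroup G)) ∈
          ((pResidual p V).map V.subtype).subgroupOf (P : Subgroup G) := by
        rw [mem_subgroupOf]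
        exact mem_map_of_mem V.subtype hxL
      rw [mem_subgroupOf]
      exact ⟨⟨(x : G), hxP'⟩, hS1 (le_sup_left (b := ⁅(pResidual p G).subgroupOf (P : Subgroup G),
        (⊤ : Subgroup (P : Subgroup G))⁆) h1), rfl⟩)
    (by
      intro y₁ hy₁ y₂ hy₂
      rw [mem_subgroupOf]
      exact ⟨⁅(⟨(y₁ : G), (hmemP y₁).mp hy₁⟩ : (P : Subgroup G)), ⟨(y₂ : G), (hmemP y₂).mp hy₂⟩⁆,
        hSab _ _, rfl⟩)
  have hRS : (pResidual p G).subgroupOf (P : Subgroup G) ≤ S := by
    intro r hr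
    have h1 : (r : G) ∈ pResidual p G ⊓ (P : Subgroup G) :=
      Subgroup.mem_inf.mpr ⟨mem_subgroupOf.mp hr, r.2⟩
    have h2 : (r : G) ∈ ⁅V, V⁆ :=
      hfoc (Subgroup.mem_inf.mpr ⟨pResidual_inf_le_commutator P h1, r.2⟩)
    rw [← map_subtype_commutator] at h2
    obtain ⟨r', hr', hrr⟩ := h2
    have h3 : r' ∈ ((P.subtype hPV : Sylow p V) : Subgroup V) := by
      rw [hmemP]
      have : ((r' : V) : G) = (r : G) := hrr
      rw [this]; exact r.2
    have h4 := hV (Subgroup.mem_inf.mpr ⟨hr', h3⟩)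
    rw [mem_subgroupOf] at h4
    obtain ⟨s, hs, hsr⟩ := h4
    have : s = r := by
      apply Subtype.ext
      have h5 : ((s : (P : Subgroup G)) : G) = ((r' : V) : G) := hsr
      rw [h5]; exact hrr
    rw [← this]; exact hs
  have hRR₀ : (pResidual p G).subgroupOf (P : Subgroup G) ≤
      ((pResidual p V).map V.subtype).subgroupOf (P : Subgroup G) ⊔
      ⁅(pResidual p G).subgroupOf (P : Subgroup G), (⊤ : Subgroup (P : Subgroup G))⁆ :=
    fun r hr => hS3 (Subgroup.mem_inf.mpr ⟨hRS hr, hr⟩)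
  have hfinal := le_of_le_sup_commutator P.isPGroup' _ _ hRR₀
  intro x hx
  obtain ⟨hxP, hxK⟩ := Subgroup.mem_inf.mp hx
  have h1 : (⟨x, hxP⟩ : (P : Subgroup G)) ∈ (pResidual p G).subgroupOf (P : Subgroup G) :=
    mem_subgroupOf.mpr hxK
  exact mem_subgroupOf.mp (hfinal h1)

end general

end Cfsg.Agent.Lib.Helper7_Tate2
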