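import Mathlib

set_option autoImplicit false

/-! The presentation `⟨x, y | x³, y⁵, (xy)²⟩` of the alternating group of degree five: a complete
rewriting system, each of whose rules is derived from the three relations, has sixty normal forms,
and these are mapped to sixty different permutations. -/

namespace Cfsg.Agent.Lib.Helper8_A5Pres

/-- The two generators. -/
inductive Gen
  | X | Y
  deriving DecidableEq

open Gen

/-- Words in the generators. -/
abbrev Word := List Gen

/-- Evaluate a word in a group. -/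
def eval {H : Type*} [Group H] (g : Gen → H) (l : Word) : H := (l.map g).prod

theorem eval_cons {H : Type*} [Group H] (g : Gen → H) (x : Gen) (l : Word) :
    eval g (x :: l) = g x * eval g l := by
  simp [eval]

theorem eval_nil {H : Type*} [Group H] (g : Gen → H) : eval g [] = 1 := by
  simp [eval]

theorem eval_append {H : Type*} [Group H] (g : Gen → H) (l l' : Word) :
    eval g (l ++ l') = eval g l * eval g l' := by
  simp [eval]

theorem eval_map {H H' : Type*} [Group H] [Group H'] (φ : H →* H') (g : Gen → H) (l : Word) :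
    φ (eval g l) = eval (fun s => φ (g s)) l := by
  induction l with
  | nil => rw [eval_nil, eval_nil, map_one]
  | cons x l ih => rw [eval_cons, eval_cons, map_mul, ih]

/-- Remove a prefix from a word. -/
def stripPrefix : Word → Word → Option Word
  | [], l => some l
  | _ :: _, [] => none
  | a :: p, b :: l => if a = b then stripPrefix p l else none

theorem stripPrefix_eq : ∀ (p l t : Word), stripPrefix p l = some t → l = p ++ t
  | [], l, t, h => by
    simp only [stripPrefix, Option.some.injEq] at h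
    rw [h]; rfl
  | _ :: _, [], t, h => by simp [stripPrefix] at h
  | a :: p, b :: l, t, h => by
    simp only [stripPrefix] at h
    split_ifs at h with hab
    rw [hab, stripPrefix_eq p l t h]; rfl

/-- Apply the first applicable rule at the head of a word. -/
def rewriteHead : List (Word × Word) → Word → Option Word
  | [], _ => none
  | r :: rs, l =>
    match stripPrefix r.1 l with
    | some t => some (r.2 ++ t)
    | none => rewriteHead rs l

/-- One rewriting step: the leftmost position at which some rule applies, the first such rule. -/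
def step (R : List (Word × Word)) : Word → Word
  | [] => []
  | x :: l =>
    match rewriteHead R (x :: l) with
    | some l' => l'
    | none => x :: step R l

/-- All rules hold in the group. -/
def Valid {H : Type*} [Group H] (g : Gen → H) (R : List (Word × Word)) : Prop :=
  ∀ r ∈ R, eval g r.1 = eval g r.2

theorem eval_rewriteHead {H : Type*} [Group H] {g : Gen → H} :
    ∀ (R : List (Word × Word)), Valid g R → ∀ l l', rewriteHead R l = some l' →
      eval g l' = eval g l
  | [], _, l, l', h => by simp [rewriteHead] at h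
  | r :: rs, hV, l, l', h => by
    simp only [rewriteHead] at h
    split at h
    · rename_i t ht
      simp only [Option.some.injEq] at h
      rw [← h, stripPrefix_eq _ _ _ ht, eval_append, eval_append, hV r (List.mem_cons_self ..)]
    · exact eval_rewriteHead rs (fun r' hr' => hV r' (List.mem_cons_of_mem _ hr')) l l' h

theorem eval_step {H : Type*} [Group H] {g : Gen → H} (R : List (Word × Word)) (hV : Valid g R) :
    ∀ l, eval g (step R l) = eval g l
  | [] => rfl
  | x :: l => by
    simp only [step]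
    split
    · rename_i l' hl'
      exact eval_rewriteHead R hV _ _ hl'
    · rw [eval_cons, eval_cons, eval_step R hV l]

theorem eval_iter {H : Type*} [Group H] {g : Gen → H} (R : List (Word × Word)) (hV : Valid g R)
    (n : ℕ) (l : Word) : eval g ((step R)^[n] l) = eval g l := by
  induction n generalizing l with
  | zero => rfl
  | succ n ih => rw [Function.iterate_succ_apply, ih, eval_step R hV]

theorem valid_snoc {H : Type*} [Group H] {g : Gen → H} (R R' : List (Word × Word))
    (hV : Valid g R) (ri rj : Word × Word) (L₁ S₁ L₂ S₂ p q : Word)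
    (hR' : R' = R ++ [(p, q)]) (hi : ri ∈ R) (hj : rj ∈ R)
    (hu : L₁ ++ ri.1 ++ S₁ = L₂ ++ rj.1 ++ S₂)
    (hp : (step R)^[3] (L₁ ++ ri.2 ++ S₁) = p) (hq : (step R)^[3] (L₂ ++ rj.2 ++ S₂) = q) :
    Valid g R' := by
  have hpq : eval g p = eval g q := by
    rw [← hp, ← hq, eval_iter R hV, eval_iter R hV, eval_append, eval_append, eval_append,
      eval_append, ← hV ri hi, ← hV rj hj, ← eval_append, ← eval_append, ← eval_append,
      ← eval_append, hu]
  rw [hR']
  intro r hr
  rcases List.mem_append.mp hr with h | h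
  · exact hV r h
  · rw [List.mem_singleton] at h
    rw [h]; exact hpq

/-- The rules of a complete rewriting system. -/

def rules : List (Word × Word) :=
  [([X, X, X], []),
   ([Y, Y, Y, Y, Y], []),
   ([X, Y, X, Y], []),
   ([Y, X, Y], [X, X]),
   ([Y, Y, Y, Y], [X, Y, X]),
   ([X, Y, X, X, Y, X], [Y, Y, Y]),
   ([Y, X, X, Y, X], [X, X, Y, Y, Y]),
   ([Y, Y, Y, X, X], [X, Y, X, X, Y]),
   ([Y, Y, X, X, Y, Y, Y], [X, Y, X, X, Y, Y, X]),
   ([X, Y, X, X, Y, Y, X, X, Y], [Y, Y, X, X, Y, Y, X, X]),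
   ([X, X, Y, Y, X, X, Y, Y, X, X], [Y, X, X, Y, Y, X, X, Y]),
   ([Y, Y, X, X, Y, Y, X, X, Y, Y], [X, Y, Y, X, X, Y, Y, X]),
   ([Y, X, X, Y, Y, X, X, Y, Y, X], [X, Y, Y, X, X, Y, Y, X, X, Y])]

/-- The normal forms. -/

def nforms : List Word :=
  [[],
   [X],
   [Y],
   [X, X],
   [Y, X],
   [X, Y],
   [Y, Y],
   [Y, X, X],
   [X, Y, X],
   [Y, Y, X],
   [X, X, Y],
   [X, Y, Y],
   [Y, Y, Y],
   [X, Y, X, X],
   [Y, Y, X, X],
   [X, X, Y, X],
   [X, Y, Y, X],
   [Y, Y, Y, X],
   [Y, X, X, Y],
   [X, X, Y, Y],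
   [X, Y, Y, Y],
   [X, X, Y, X, X],
   [X, Y, Y, X, X],
   [X, X, Y, Y, X],
   [X, Y, Y, Y, X],
   [X, Y, X, X, Y],
   [Y, Y, X, X, Y],
   [Y, X, X, Y, Y],
   [X, X, Y, Y, Y],
   [X, X, Y, Y, X, X],
   [Y, X, X, Y, Y, X],
   [X, X, Y, Y, Y, X],
   [X, X, Y, X, X, Y],
   [X, Y, Y, X, X, Y],
   [X, Y, X, X, Y, Y],
   [Y, Y, X, X, Y, Y],
   [Y, X, X, Y, Y, Y],
   [Y, X, X, Y, Y, X, X],
   [X, Y, X, X, Y, Y, X],
   [Y, Y, X, X, Y, Y, X],
   [Y, X, X, Y, Y, Y, X],
   [X, X, Y, Y, X, X, Y],
   [X, X, Y, X, X, Y, Y],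
   [X, Y, Y, X, X, Y, Y],
   [X, Y, X, X, Y, Y, Y],
   [X, Y, X, X, Y, Y, X, X],
   [Y, Y, X, X, Y, Y, X, X],
   [X, X, Y, X, X, Y, Y, X],
   [X, Y, Y, X, X, Y, Y, X],
   [X, Y, X, X, Y, Y, Y, X],
   [Y, X, X, Y, Y, X, X, Y],
   [X, X, Y, Y, X, X, Y, Y],
   [X, X, Y, X, X, Y, Y, Y],
   [X, X, Y, X, X, Y, Y, X, X],
   [X, Y, Y, X, X, Y, Y, X, X],
   [X, X, Y, Y, X, X, Y, Y, X],
   [X, X, Y, X, X, Y, Y, Y, X],
   [Y, Y, X, X, Y, Y, X, X, Y],
   [Y, X, X, Y, Y, X, X, Y, Y],
   [X, Y, Y, X, X, Y, Y, X, X, Y]]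

theorem closure_check : ∀ w ∈ nforms,
    (step rules)^[3] (X :: w) ∈ nforms ∧ (step rules)^[3] (Y :: w) ∈ nforms := by
  decide

theorem nil_mem : ([] : Word) ∈ nforms := by decide

theorem valid_rules {H : Type*} [Group H] (g : Gen → H) (h1 : eval g [X, X, X] = 1)
    (h2 : eval g [Y, Y, Y, Y, Y] = 1) (h3 : eval g [X, Y, X, Y] = 1) : Valid g rules := by
  have V3 : Valid g (rules.take 3) := by
    intro r hr
    have hr' : r = ([X, X, X], []) ∨ r = ([Y, Y, Y, Y, Y], []) ∨ r = ([X, Y, X, Y], []) := by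
      simpa [rules] using hr
    rcases hr' with rfl | rfl | rfl
    · rw [h1, eval_nil]
    · rw [h2, eval_nil]
    · rw [h3, eval_nil]
  have V4 : Valid g (rules.take 4) := valid_snoc (rules.take 3) (rules.take 4) V3
    ([X, X, X], []) ([X, Y, X, Y], []) [] [Y, X, Y] [X, X] [] [Y, X, Y] [X, X]
    (by decide) (by decide) (by decide) (by decide) (by decide) (by decide)
  have V5 : Valid g (rules.take 5) := valid_snoc (rules.take 4) (rules.take 5) V4
    ([X, Y, X, Y], []) ([Y, Y, Y, Y, Y], []) [] [Y, Y, Y, Y] [X, Y, X] [] [Y, Y, Y, Y] [X, Y, X]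
    (by decide) (by decide) (by decide) (by decide) (by decide) (by decide)
  have V6 : Valid g (rules.take 6) := valid_snoc (rules.take 5) (rules.take 6) V5
    ([Y, Y, Y, Y], [X, Y, X]) ([Y, Y, Y, Y, Y], []) [Y, Y, Y, Y] [] [] [Y, Y, Y] [X, Y, X, X, Y, X] [Y, Y, Y]
    (by decide) (by decide) (by decide) (by decide) (by decide) (by decide)
  have V7 : Valid g (rules.take 7) := valid_snoc (rules.take 6) (rules.take 7) V6
    ([Y, Y, Y, Y], [X, Y, X]) ([Y, X, Y], [X, X]) [Y, X] [] [] [Y, Y, Y] [Y, X, X, Y, X] [X, X, Y, Y, Y]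
    (by decide) (by decide) (by decide) (by decide) (by decide) (by decide)
  have V8 : Valid g (rules.take 8) := valid_snoc (rules.take 7) (rules.take 8) V7
    ([Y, X, Y], [X, X]) ([Y, Y, Y, Y], [X, Y, X]) [Y, Y, Y] [] [] [X, Y] [Y, Y, Y, X, X] [X, Y, X, X, Y]
    (by decide) (by decide) (by decide) (by decide) (by decide) (by decide)
  have V9 : Valid g (rules.take 9) := valid_snoc (rules.take 8) (rules.take 9) V8
    ([Y, X, X, Y, X], [X, X, Y, Y, Y]) ([Y, Y, Y, X, X], [X, Y, X, X, Y]) [Y, Y] [] [] [Y, X] [Y, Y, X, X, Y, Y, Y] [X, Y, X, X, Y, Y, X]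
    (by decide) (by decide) (by decide) (by decide) (by decide) (by decide)
  have V10 : Valid g (rules.take 10) := valid_snoc (rules.take 9) (rules.take 10) V9
    ([Y, Y, X, X, Y, Y, Y], [X, Y, X, X, Y, Y, X]) ([Y, X, Y], [X, X]) [] [X, Y] [Y, Y, X, X, Y, Y] [] [X, Y, X, X, Y, Y, X, X, Y] [Y, Y, X, X, Y, Y, X, X]
    (by decide) (by decide) (by decide) (by decide) (by decide) (by decide)
  have V11 : Valid g (rules.take 11) := valid_snoc (rules.take 10) (rules.take 11) V10
    ([X, Y, X, X, Y, Y, X, X, Y], [Y, Y, X, X, Y, Y, X, X]) ([X, X, X], []) [X, X] [] [] [Y, X, X, Y, Y, X, X, Y] [X, X, Y, Y, X, X, Y, Y, X, X] [Y, X, X, Y, Y, X, X, Y]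
    (by decide) (by decide) (by decide) (by decide) (by decide) (by decide)
  have V12 : Valid g (rules.take 12) := valid_snoc (rules.take 11) (rules.take 12) V11
    ([X, Y, X, X, Y, Y, X, X, Y], [Y, Y, X, X, Y, Y, X, X]) ([Y, Y, X, X, Y, Y, Y], [X, Y, X, X, Y, Y, X]) [] [Y, Y] [X, Y, X, X] [] [Y, Y, X, X, Y, Y, X, X, Y, Y] [X, Y, Y, X, X, Y, Y, X]
    (by decide) (by decide) (by decide) (by decide) (by decide) (by decide)
  have V13 : Valid g (rules.take 13) := valid_snoc (rules.take 12) (rules.take 13) V12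
    ([Y, Y, X, X, Y, Y, X, X, Y, Y], [X, Y, Y, X, X, Y, Y, X]) ([Y, X, Y], [X, X]) [Y, X] [] [] [Y, X, X, Y, Y, X, X, Y, Y] [Y, X, X, Y, Y, X, X, Y, Y, X] [X, Y, Y, X, X, Y, Y, X, X, Y]
    (by decide) (by decide) (by decide) (by decide) (by decide) (by decide)
  exact V13

/-- Every word equals a normal form in a group satisfying the relations. -/
theorem exists_nform {H : Type*} [Group H] (g : Gen → H) (h1 : eval g [X, X, X] = 1)
    (h2 : eval g [Y, Y, Y, Y, Y] = 1) (h3 : eval g [X, Y, X, Y] = 1) (l : Word) :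
    ∃ w ∈ nforms, eval g l = eval g w := by
  have hV := valid_rules g h1 h2 h3
  induction l with
  | nil => exact ⟨[], nil_mem, rfl⟩
  | cons s l ih =>
    obtain ⟨w, hw, e⟩ := ih
    obtain ⟨cX, cY⟩ := closure_check w hw
    cases s
    · exact ⟨_, cX, by rw [eval_iter rules hV, eval_cons, eval_cons, e]⟩
    · exact ⟨_, cY, by rw [eval_iter rules hV, eval_cons, eval_cons, e]⟩

/-- The generators as permutations. -/
def perm : Gen → Equiv.Perm (Fin 5)
  | X => Equiv.swap 0 3 * Equiv.swap 3 1
  | Y => Equiv.swap 0 1 * Equiv.swap 1 2 * (Equiv.swap 2 3 * Equiv.swap 3 4)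

set_option maxRecDepth 100000 in
theorem nforms_nodup : (nforms.map (eval perm)).Nodup := by
  decide

theorem perm_rel : eval perm [X, X, X] = 1 ∧ eval perm [Y, Y, Y, Y, Y] = 1 ∧
    eval perm [X, Y, X, Y] = 1 := by
  decide

theorem nforms_length : nforms.length = 60 := by decide

theorem eval_replicate {H : Type*} [Group H] (g : Gen → H) (s : Gen) (n : ℕ) :
    eval g (List.replicate n s) = g s ^ n := by
  induction n with
  | zero => simp [eval]
  | succ n ih => rw [List.replicate_succ, eval_cons, ih, pow_succ']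

/-- The generators of a presented group on two generators. -/
def gP (rels : Set (FreeGroup (Fin 2))) : Gen → PresentedGroup rels
  | X => PresentedGroup.of 0
  | Y => PresentedGroup.of 1

theorem exists_word (rels : Set (FreeGroup (Fin 2)))
    (hx : (PresentedGroup.of 0 : PresentedGroup rels) ^ 3 = 1)
    (hy : (PresentedGroup.of 1 : PresentedGroup rels) ^ 5 = 1) (z : PresentedGroup rels) :
    ∃ l : Word, z = eval (gP rels) l := by
  induction z using PresentedGroup.induction_on with
  | H u =>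
    refine FreeGroup.induction_on u ?_ ?_ ?_ ?_
    · exact ⟨[], by rw [eval_nil, map_one]⟩
    · intro a
      fin_cases a
      · exact ⟨[X], by rw [eval_cons, eval_nil, mul_one]; rfl⟩
      · exact ⟨[Y], by rw [eval_cons, eval_nil, mul_one]; rfl⟩
    · intro a _
      fin_cases a
      · refine ⟨List.replicate 2 X, ?_⟩
        rw [eval_replicate, map_inv]
        have h : (PresentedGroup.of 0 : PresentedGroup rels) ^ 2 * PresentedGroup.of 0 = 1 := by
          rw [← pow_succ]; exact hx
        exact inv_eq_of_mul_eq_one_left h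
      · refine ⟨List.replicate 4 Y, ?_⟩
        rw [eval_replicate, map_inv]
        have h : (PresentedGroup.of 1 : PresentedGroup rels) ^ 4 * PresentedGroup.of 1 = 1 := by
          rw [← pow_succ]; exact hy
        exact inv_eq_of_mul_eq_one_left h
    · intro u v hu hv
      obtain ⟨l, hl⟩ := hu
      obtain ⟨l', hl'⟩ := hv
      exact ⟨l ++ l', by rw [map_mul, hl, hl', eval_append]⟩

end Cfsg.Agent.Lib.Helper8_A5Pres
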