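import Mathlib

set_option autoImplicit false

namespace Cfsg.Agent.Helper8A6

set_option maxRecDepth 1000000 in
theorem a6_orders : ∀ g : Equiv.Perm (Fin 6), Equiv.Perm.sign g = 1 →
    g ^ 2 = 1 ∨ g ^ 3 = 1 ∨ g ^ 4 = 1 ∨ g ^ 5 = 1 := by
  decide +kernel

set_option maxRecDepth 1000000 in
theorem a6_conj : ∀ a : Equiv.Perm (Fin 6), a ^ 2 = 1 → a ≠ 1 → Equiv.Perm.sign a = 1 →
    ∃ g : Equiv.Perm (Fin 6), a = g * (Equiv.swap 0 1 * Equiv.swap 2 3) * g⁻¹ := by
  decide +kernel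

/-- Orders of elements of `A₆` are `1, 2, 3, 4, 5`. -/
theorem orderOf_a6 (g : alternatingGroup (Fin 6)) :
    orderOf g = 1 ∨ orderOf g = 2 ∨ orderOf g = 3 ∨ orderOf g = 4 ∨ orderOf g = 5 := by
  have h := a6_orders g.1 (Equiv.Perm.mem_alternatingGroup.mp g.2)
  have key : ∀ n : ℕ, (g : Equiv.Perm (Fin 6)) ^ n = 1 → orderOf g ∣ n := by
    intro n hn
    apply orderOf_dvd_of_pow_eq_one
    apply Subtype.ext
    rw [Subgroup.coe_pow, hn]
    rfl
  have hpos : 0 < orderOf g := orderOf_pos g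
  rcases h with h | h | h | h
  · have := Nat.le_of_dvd (by norm_num) (key 2 h)
    interval_cases (orderOf g) <;> simp_all
  · have h1 := key 3 h
    have := Nat.le_of_dvd (by norm_num) h1
    interval_cases (orderOf g) <;> simp_all
  · have h1 := key 4 h
    have := Nat.le_of_dvd (by norm_num) h1
    interval_cases (orderOf g) <;> simp_all
  · have h1 := key 5 h
    have := Nat.le_of_dvd (by norm_num) h1
    interval_cases (orderOf g) <;> simp_all

/-- The standard involution `(0 1)(2 3)` of `A₆`. -/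
def inv0 : alternatingGroup (Fin 6) :=
  ⟨Equiv.swap 0 1 * Equiv.swap 2 3, by
    rw [Equiv.Perm.mem_alternatingGroup]; decide⟩

theorem orderOf_inv0 : orderOf inv0 = 2 := by
  apply orderOf_eq_prime
  · apply Subtype.ext
    show (Equiv.swap (0 : Fin 6) 1 * Equiv.swap 2 3) ^ 2 = 1
    decide
  · intro h
    have h1 : (Equiv.swap (0 : Fin 6) 1 * Equiv.swap 2 3) = 1 := congrArg Subtype.val h
    revert h1
    decide

/-- Every involution of `A₆` is conjugate in `A₆` to `(0 1)(2 3)`. -/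
theorem conj_inv0 (a : alternatingGroup (Fin 6)) (ha : orderOf a = 2) :
    ∃ g : alternatingGroup (Fin 6), a = g * inv0 * g⁻¹ := by
  have h2 : (a : Equiv.Perm (Fin 6)) ^ 2 = 1 := by
    have := pow_orderOf_eq_one a
    rw [ha] at this
    exact congrArg Subtype.val this
  have h1 : (a : Equiv.Perm (Fin 6)) ≠ 1 := by
    intro h
    have : a = 1 := Subtype.ext h
    rw [this, orderOf_one] at ha
    exact absurd ha (by norm_num)
  obtain ⟨g, hg⟩ := a6_conj a.1 h2 h1 (Equiv.Perm.mem_alternatingGroup.mp a.2)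
  rcases Int.units_eq_one_or (Equiv.Perm.sign g) with hs | hs
  · refine ⟨⟨g, Equiv.Perm.mem_alternatingGroup.mpr hs⟩, ?_⟩
    apply Subtype.ext
    exact hg
  · have hs' : Equiv.Perm.sign (g * Equiv.swap 0 1) = 1 := by
      rw [map_mul, hs, Equiv.Perm.sign_swap (by decide)]
      decide
    refine ⟨⟨g * Equiv.swap 0 1, Equiv.Perm.mem_alternatingGroup.mpr hs'⟩, ?_⟩
    apply Subtype.ext
    show (a : Equiv.Perm (Fin 6)) =
      g * Equiv.swap 0 1 * (Equiv.swap 0 1 * Equiv.swap 2 3) * (g * Equiv.swap 0 1)⁻¹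
    rw [hg]
    have hc : Equiv.swap (0 : Fin 6) 1 * (Equiv.swap 0 1 * Equiv.swap 2 3) * (Equiv.swap 0 1)⁻¹ =
        Equiv.swap 0 1 * Equiv.swap 2 3 := by decide
    rw [mul_inv_rev]
    calc g * (Equiv.swap 0 1 * Equiv.swap 2 3) * g⁻¹
        = g * (Equiv.swap (0 : Fin 6) 1 * (Equiv.swap 0 1 * Equiv.swap 2 3) *
            (Equiv.swap 0 1)⁻¹) * g⁻¹ := by rw [hc]
      _ = _ := by group

end Cfsg.Agent.Helper8A6
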