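import Cfsg.Prelude.Def_FusionSystem

set_option autoImplicit false
open Cfsg

namespace Cfsg.Agent.Lib.Helper8_Fusion

open Cfsg.FusionSystem

variable {Ω : Type*} [Group Ω] {S : Subgroup Ω}

/-- Restriction of a map of the system to a smaller subgroup is a map of the system. -/
theorem restrict_mem (F : FusionSystem S) {A B : Subgroup Ω} (h : B ≤ A) {ψ : A →* Ω}
    (hψ : ψ ∈ F.Hom A) : ψ.comp (Subgroup.inclusion h) ∈ F.Hom B := by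
  have hAS : A ≤ S := (F.le_of_mem hψ).1
  have hvals : ∀ x : B, (conjHom B 1) x ∈ A := by
    intro x
    have : (conjHom B 1) x = (x : Ω) := by simp [conjHom]
    rw [this]
    exact h x.2
  have hmem := F.comp_mem (F.conj_mem (h.trans hAS) S.one_mem) hψ hvals
  have heq : ψ.comp ((conjHom B 1).codRestrict A hvals) = ψ.comp (Subgroup.inclusion h) := by
    ext x
    show ψ ⟨(conjHom B 1) x, _⟩ = ψ ⟨(x : Ω), _⟩
    congr 1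
    apply Subtype.ext
    simp [conjHom]
  rw [heq] at hmem
  exact hmem

/-- The image of `X` under a restriction is the image of `X` under the map. -/
theorem map_subgroupOf_restrict {A B X : Subgroup Ω} (h : B ≤ A) (hX : X ≤ B) (ψ : A →* Ω) :
    (X.subgroupOf B).map (ψ.comp (Subgroup.inclusion h)) = (X.subgroupOf A).map ψ := by
  ext y
  constructor
  · rintro ⟨x, hx, rfl⟩
    exact ⟨Subgroup.inclusion h x, by simpa [Subgroup.mem_subgroupOf] using hx, rfl⟩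
  · rintro ⟨x, hx, rfl⟩
    have hxX : (x : Ω) ∈ X := by simpa [Subgroup.mem_subgroupOf] using hx
    exact ⟨⟨(x : Ω), hX hxX⟩, by simpa [Subgroup.mem_subgroupOf] using hxX, rfl⟩

/-- Elementwise description of "`ψ` maps `X` onto `X`". -/
theorem map_subgroupOf_eq_iff {A X : Subgroup Ω} (hXA : X ≤ A) (ψ : A →* Ω) :
    (X.subgroupOf A).map ψ = X ↔
      (∀ x (hx : x ∈ X), ψ ⟨x, hXA hx⟩ ∈ X) ∧ (∀ y ∈ X, ∃ x, ∃ hx : x ∈ X, ψ ⟨x, hXA hx⟩ = y) := by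
  constructor
  · intro h
    constructor
    · intro x hx
      rw [← h]
      exact ⟨⟨x, hXA hx⟩, by simpa [Subgroup.mem_subgroupOf] using hx, rfl⟩
    · intro y hy
      rw [← h] at hy
      obtain ⟨x, hx, rfl⟩ := hy
      have hxX : (x : Ω) ∈ X := by simpa [Subgroup.mem_subgroupOf] using hx
      exact ⟨(x : Ω), hxX, rfl⟩
  · rintro ⟨h1, h2⟩
    ext y
    constructor
    · rintro ⟨x, hx, rfl⟩
      have hxX : (x : Ω) ∈ X := by simpa [Subgroup.mem_subgroupOf] using hx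
      exact h1 (x : Ω) hxX
    · intro hy
      obtain ⟨x, hx, rfl⟩ := h2 y hy
      exact ⟨⟨x, hXA hx⟩, by simpa [Subgroup.mem_subgroupOf] using hx, rfl⟩

/-- A homomorphism on `P ⊔ Q` whose restriction to `P` has values in `P'` and which maps `Q`
into `Q'` has values in `P' ⊔ Q'`. -/
theorem sup_vals {P Q P' Q' : Subgroup Ω} (ψ : ↥(P ⊔ Q) →* Ω)
    (hP : ∀ x (hx : x ∈ P), ψ ⟨x, (le_sup_left : P ≤ P ⊔ Q) hx⟩ ∈ P')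
    (hQ : ∀ x (hx : x ∈ Q), ψ ⟨x, (le_sup_right : Q ≤ P ⊔ Q) hx⟩ ∈ Q') :
    ∀ x : ↥(P ⊔ Q), ψ x ∈ P' ⊔ Q' := by
  have h : P ⊔ Q ≤ ((P' ⊔ Q').comap ψ).map (P ⊔ Q).subtype := by
    apply sup_le
    · intro x hx
      exact ⟨⟨x, (le_sup_left : P ≤ P ⊔ Q) hx⟩, (le_sup_left : P' ≤ P' ⊔ Q') (hP x hx), rfl⟩
    · intro x hx
      exact ⟨⟨x, (le_sup_right : Q ≤ P ⊔ Q) hx⟩, (le_sup_right : Q' ≤ P' ⊔ Q') (hQ x hx), rfl⟩
  intro x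
  obtain ⟨y, hy, hyx⟩ := h x.2
  have : y = x := Subtype.ext hyx
  rw [← this]
  exact hy

/-- The trivial subgroup is normal in every fusion system. -/
theorem isNormal_bot (F : FusionSystem S) : F.IsNormal ⊥ := by
  refine ⟨bot_le, ?_⟩
  intro P φ hφ
  have h : P ⊔ ⊥ ≤ P := sup_le le_rfl bot_le
  refine ⟨φ.comp (Subgroup.inclusion h), restrict_mem F h hφ, ?_, ?_⟩
  · intro x
    show φ _ = φ x
    congr 1
  · ext y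
    constructor
    · rintro ⟨x, hx, rfl⟩
      have hx1 : (x : Ω) = 1 := by simpa [Subgroup.mem_subgroupOf] using hx
      have : x = 1 := Subtype.ext hx1
      rw [this, map_one]
      exact Subgroup.one_mem _
    · intro hy
      have : y = 1 := by simpa using hy
      rw [this]
      exact Subgroup.one_mem _

/-- The join of two subgroups normal in the system is normal in the system. -/
theorem isNormal_sup (F : FusionSystem S) {Q₁ Q₂ : Subgroup Ω} (h₁ : F.IsNormal Q₁)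
    (h₂ : F.IsNormal Q₂) : F.IsNormal (Q₁ ⊔ Q₂) := by
  obtain ⟨hQ₁S, hext₁⟩ := h₁
  obtain ⟨hQ₂S, hext₂⟩ := h₂
  refine ⟨sup_le hQ₁S hQ₂S, ?_⟩
  intro P φ hφ
  obtain ⟨ψ₁, hψ₁, hψ₁P, hψ₁Q⟩ := hext₁ P φ hφ
  obtain ⟨ψ₂, hψ₂, hψ₂P, hψ₂Q⟩ := hext₂ (P ⊔ Q₁) ψ₁ hψ₁
  have hle : P ⊔ (Q₁ ⊔ Q₂) ≤ (P ⊔ Q₁) ⊔ Q₂ := by rw [sup_assoc]
  have hQ₁A : Q₁ ≤ (P ⊔ Q₁) ⊔ Q₂ := le_sup_right.trans le_sup_left
  have hQ₂A : Q₂ ≤ (P ⊔ Q₁) ⊔ Q₂ := le_sup_right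
  have hψ₁eq : ψ₁ = ψ₂.comp (Subgroup.inclusion (le_sup_left : P ⊔ Q₁ ≤ (P ⊔ Q₁) ⊔ Q₂)) := by
    ext x
    exact (hψ₂P x).symm
  -- image of Q₁ under ψ₂
  have himg₁ : (Q₁.subgroupOf ((P ⊔ Q₁) ⊔ Q₂)).map ψ₂ = Q₁ := by
    rw [← map_subgroupOf_restrict (le_sup_left : P ⊔ Q₁ ≤ (P ⊔ Q₁) ⊔ Q₂) le_sup_right ψ₂,
      ← hψ₁eq]
    exact hψ₁Q
  have himg : ((Q₁ ⊔ Q₂).subgroupOf ((P ⊔ Q₁) ⊔ Q₂)).map ψ₂ = Q₁ ⊔ Q₂ := by
    rw [Subgroup.subgroupOf_sup hQ₁A hQ₂A, Subgroup.map_sup, himg₁, hψ₂Q]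
  refine ⟨ψ₂.comp (Subgroup.inclusion hle), restrict_mem F hle hψ₂, ?_, ?_⟩
  · intro x
    rw [← hψ₁P x, ← hψ₂P]
    rfl
  · rw [map_subgroupOf_restrict hle le_sup_right ψ₂]
    exact himg

/-- The trivial subgroup is central in every fusion system. -/
theorem isCentral_bot (F : FusionSystem S) : F.IsCentral ⊥ := by
  refine ⟨bot_le, ?_⟩
  intro P φ hφ
  have h : P ⊔ ⊥ ≤ P := sup_le le_rfl bot_le
  refine ⟨φ.comp (Subgroup.inclusion h), restrict_mem F h hφ, ?_, ?_⟩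
  · intro x
    show φ _ = φ x
    congr 1
  · intro x
    have hx1 : (x : Ω) = 1 := Subgroup.mem_bot.mp x.2
    have : Subgroup.inclusion (le_sup_right : (⊥ : Subgroup Ω) ≤ P ⊔ ⊥) x = 1 := Subtype.ext hx1
    rw [this, map_one, hx1]

/-- The join of two subgroups central in the system is central in the system. -/
theorem isCentral_sup (F : FusionSystem S) {Q₁ Q₂ : Subgroup Ω} (h₁ : F.IsCentral Q₁)
    (h₂ : F.IsCentral Q₂) : F.IsCentral (Q₁ ⊔ Q₂) := by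
  obtain ⟨hQ₁S, hext₁⟩ := h₁
  obtain ⟨hQ₂S, hext₂⟩ := h₂
  refine ⟨sup_le hQ₁S hQ₂S, ?_⟩
  intro P φ hφ
  obtain ⟨ψ₁, hψ₁, hψ₁P, hψ₁Q⟩ := hext₁ P φ hφ
  obtain ⟨ψ₂, hψ₂, hψ₂P, hψ₂Q⟩ := hext₂ (P ⊔ Q₁) ψ₁ hψ₁
  have hle : P ⊔ (Q₁ ⊔ Q₂) ≤ (P ⊔ Q₁) ⊔ Q₂ := by rw [sup_assoc]
  have hQ₁A : Q₁ ≤ (P ⊔ Q₁) ⊔ Q₂ := le_sup_right.trans le_sup_left
  have hQ₂A : Q₂ ≤ (P ⊔ Q₁) ⊔ Q₂ := le_sup_right
  -- the subgroup of elements fixed by ψ₂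
  have hfix : Q₁ ⊔ Q₂ ≤ (MonoidHom.eqLocus ψ₂ ((P ⊔ Q₁) ⊔ Q₂).subtype).map ((P ⊔ Q₁) ⊔ Q₂).subtype := by
    apply sup_le
    · intro x hx
      refine ⟨⟨x, hQ₁A hx⟩, ?_, rfl⟩
      show ψ₂ ⟨x, hQ₁A hx⟩ = x
      have h1 := hψ₂P ⟨x, (le_sup_right : Q₁ ≤ P ⊔ Q₁) hx⟩
      have h2 := hψ₁Q ⟨x, hx⟩
      have h3 : ψ₂ ⟨x, hQ₁A hx⟩ = ψ₁ ⟨x, (le_sup_right : Q₁ ≤ P ⊔ Q₁) hx⟩ := h1
      rw [h3]
      exact h2
    · intro x hx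
      refine ⟨⟨x, hQ₂A hx⟩, ?_, rfl⟩
      show ψ₂ ⟨x, hQ₂A hx⟩ = x
      exact hψ₂Q ⟨x, hx⟩
  refine ⟨ψ₂.comp (Subgroup.inclusion hle), restrict_mem F hle hψ₂, ?_, ?_⟩
  · intro x
    rw [← hψ₁P x, ← hψ₂P]
    rfl
  · intro x
    obtain ⟨y, hy, hyx⟩ := hfix x.2
    have hy' : ψ₂ y = (y : Ω) := hy
    show ψ₂ ⟨(x : Ω), _⟩ = x
    have : (⟨(x : Ω), hle ((le_sup_right : Q₁ ⊔ Q₂ ≤ P ⊔ (Q₁ ⊔ Q₂)) x.2)⟩ : ↥((P ⊔ Q₁) ⊔ Q₂)) = y :=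
      Subtype.ext hyx.symm
    rw [this, hy']
    exact hyx

/-- If `S` is finite, a family of subgroups of `S` containing `⊥` and closed under binary joins
contains its supremum. -/
theorem sSup_mem_of_sup_closed [Finite S] (𝒩 : Set (Subgroup Ω)) (hS : ∀ Q ∈ 𝒩, Q ≤ S)
    (hne : 𝒩.Nonempty) (hsup : ∀ Q₁ ∈ 𝒩, ∀ Q₂ ∈ 𝒩, Q₁ ⊔ Q₂ ∈ 𝒩) : sSup 𝒩 ∈ 𝒩 := by
  classical
  have hfin : ∀ Q ∈ 𝒩, Finite Q := fun Q hQ =>
    Finite.of_injective (Subgroup.inclusion (hS Q hQ)) (Subgroup.inclusion_injective _)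
  let V : Set ℕ := (fun Q : Subgroup Ω => Nat.card Q) '' 𝒩
  have hVne : V.Nonempty := hne.image _
  have hVbdd : BddAbove V := by
    refine ⟨Nat.card S, ?_⟩
    rintro _ ⟨Q, hQ, rfl⟩
    exact Subgroup.card_le_of_le (hS Q hQ)
  obtain ⟨Q₀, hQ₀, hQ₀card⟩ := Nat.sSup_mem hVne hVbdd
  have hmax : ∀ Q ∈ 𝒩, Nat.card Q ≤ Nat.card Q₀ := by
    intro Q hQ
    have h1 : Nat.card Q₀ = sSup V := hQ₀card
    rw [h1]
    exact le_csSup hVbdd ⟨Q, hQ, rfl⟩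
  have hle : ∀ Q ∈ 𝒩, Q ≤ Q₀ := by
    intro Q hQ
    have h1 := hsup Q hQ Q₀ hQ₀
    have := hfin _ h1
    have h2 : Q₀ = Q ⊔ Q₀ := Subgroup.eq_of_le_of_card_ge le_sup_right (hmax _ h1)
    rw [h2]
    exact le_sup_left
  have : sSup 𝒩 = Q₀ := le_antisymm (sSup_le hle) (le_sSup hQ₀)
  rw [this]
  exact hQ₀

end Cfsg.Agent.Lib.Helper8_Fusion
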