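import Cfsg.Prelude.Def_FusionSystem

set_option autoImplicit false
open Cfsg

namespace Cfsg.Agent.Lib.Helper8_GroupFusion

open Cfsg.FusionSystem

/-- Conjugation of subgroups, as used in the statements. -/
abbrev cj {G : Type*} [Group G] (g : G) (P : Subgroup G) : Subgroup G :=
  P.map (MulAut.conj g).toMonoidHom

theorem mem_cj {G : Type*} [Group G] (g : G) (P : Subgroup G) (y : G) :
    y ∈ cj g P ↔ g⁻¹ * y * g ∈ P := by
  constructor
  · rintro ⟨x, hx, rfl⟩
    have : g⁻¹ * ((MulAut.conj g).toMonoidHom x) * g = x := by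
      simp [MulAut.conj_apply]; group
    rw [this]; exact hx
  · intro h
    refine ⟨g⁻¹ * y * g, h, ?_⟩
    simp [MulAut.conj_apply]; group

theorem cj_mem {G : Type*} [Group G] (g : G) (P : Subgroup G) {x : G} (hx : x ∈ P) :
    g * x * g⁻¹ ∈ cj g P := ⟨x, hx, by simp [MulAut.conj_apply]⟩

theorem cj_cj {G : Type*} [Group G] (g h : G) (P : Subgroup G) : cj g (cj h P) = cj (g * h) P := by
  ext y
  rw [mem_cj, mem_cj, mem_cj]
  have : h⁻¹ * (g⁻¹ * y * g) * h = (g * h)⁻¹ * y * (g * h) := by group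
  rw [this]

theorem cj_one {G : Type*} [Group G] (P : Subgroup G) : cj 1 P = P := by
  ext y
  rw [mem_cj]; simp

theorem cj_inv_cj {G : Type*} [Group G] (g : G) (P : Subgroup G) : cj g⁻¹ (cj g P) = P := by
  rw [cj_cj, inv_mul_cancel, cj_one]

theorem cj_mono {G : Type*} [Group G] (g : G) {P Q : Subgroup G} (h : P ≤ Q) : cj g P ≤ cj g Q :=
  Subgroup.map_mono h

theorem card_cj {G : Type*} [Group G] (g : G) (P : Subgroup G) : Nat.card (cj g P) = Nat.card P :=
  Subgroup.card_map_of_injective (MulAut.conj g).injective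

theorem cj_normalizer {G : Type*} [Group G] (g : G) (P : Subgroup G) :
    Subgroup.normalizer ((cj g P : Subgroup G) : Set G) = cj g (Subgroup.normalizer (P : Set G)) :=
  (Subgroup.map_equiv_normalizer_eq P (MulAut.conj g)).symm

theorem cj_centralizer {G : Type*} [Group G] (g : G) (P : Subgroup G) :
    Subgroup.centralizer ((cj g P : Subgroup G) : Set G) = cj g (Subgroup.centralizer (P : Set G)) := by
  ext y
  rw [mem_cj, Subgroup.mem_centralizer_iff, Subgroup.mem_centralizer_iff]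
  constructor
  · intro h x hx
    have h1 := h (g * x * g⁻¹) (cj_mem g P hx)
    have : x * (g⁻¹ * y * g) = g⁻¹ * ((g * x * g⁻¹) * y) * g := by group
    rw [this, h1]; group
  · intro h z hz
    rw [SetLike.mem_coe, mem_cj] at hz
    have h1 := h _ hz
    have : z * y = g * ((g⁻¹ * z * g) * (g⁻¹ * y * g)) * g⁻¹ := by group
    rw [this, h1]; group

/-- A `p`-subgroup of maximal order is a Sylow subgroup, and conversely. -/
theorem sylow_iff_max {H : Type*} [Group H] [Finite H] {p : ℕ} [Fact p.Prime] (X : Subgroup H)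
    (hX : IsPGroup p X) :
    (∃ R : Sylow p H, (R : Subgroup H) = X) ↔
      ∀ Y : Subgroup H, IsPGroup p Y → Nat.card Y ≤ Nat.card X := by
  constructor
  · rintro ⟨R, rfl⟩ Y hY
    obtain ⟨R', hR'⟩ := hY.exists_le_sylow
    calc Nat.card Y ≤ Nat.card R' := Subgroup.card_le_of_le hR'
      _ = Nat.card R := by rw [Sylow.card_eq_multiplicity, Sylow.card_eq_multiplicity]
  · intro h
    obtain ⟨R, hR⟩ := hX.exists_le_sylow
    refine ⟨R, ?_⟩
    exact (Subgroup.eq_of_le_of_card_ge hR (h R R.2)).symm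

/-- The unified criterion: for a conjugation-equivariant operator `K` with `K P ≤ N_G(P)`,
`|S ∩ K(Q)| ≤ |S ∩ K(P)|` for all conjugates `Q ≤ S` of `P` iff `S ∩ K(P)` is Sylow in `K(P)`. -/
theorem fully_iff_sylow {G : Type*} [Group G] [Finite G] {p : ℕ} [Fact p.Prime] (S : Sylow p G)
    (K : Subgroup G → Subgroup G)
    (hKconj : ∀ (g : G) (P : Subgroup G), K (cj g P) = cj g (K P))
    (hKnorm : ∀ P : Subgroup G, K P ≤ Subgroup.normalizer (P : Set G))
    (P : Subgroup G) (hP : P ≤ S) :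
    (∀ g : G, cj g P ≤ S → Nat.card ↥((S : Subgroup G) ⊓ K (cj g P)) ≤ Nat.card ↥((S : Subgroup G) ⊓ K P)) ↔
      ∃ R : Sylow p (K P), (R : Subgroup (K P)) = ((S : Subgroup G) ⊓ K P).subgroupOf (K P) := by
  have hXp : IsPGroup p (((S : Subgroup G) ⊓ K P).subgroupOf (K P)) :=
    (S.2.to_inf_left).comap_subtype
  have hcardX : Nat.card (((S : Subgroup G) ⊓ K P).subgroupOf (K P)) = Nat.card ↥((S : Subgroup G) ⊓ K P) :=
    Nat.card_congr (Subgroup.subgroupOfEquivOfLe inf_le_right).toEquiv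
  rw [sylow_iff_max _ hXp]
  constructor
  · intro h Y hY
    rw [hcardX]
    -- Y' : the image of Y in G
    have hY' : IsPGroup p (Y.map (K P).subtype) := hY.map _
    have hY'K : Y.map (K P).subtype ≤ K P := by
      rintro _ ⟨y, -, rfl⟩; exact y.2
    have hPp : IsPGroup p P := S.2.to_le hP
    have hsup : IsPGroup p (Y.map (K P).subtype ⊔ P : Subgroup G) :=
      hY'.to_sup_of_normal_right' hPp (hY'K.trans (hKnorm P))
    obtain ⟨R, hR⟩ := hsup.exists_le_sylow
    obtain ⟨g, hg⟩ := MulAction.exists_smul_eq G R S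
    have hRS : cj g (R : Subgroup G) = S := by
      rw [← hg, Sylow.coe_subgroup_smul]
      ext y
      rw [mem_cj, Subgroup.mem_pointwise_smul_iff_inv_smul_mem]
      simp [MulAut.smul_def]
    have hQS : cj g P ≤ S := by
      rw [← hRS]; exact cj_mono g (le_sup_right.trans hR)
    have hYS : cj g (Y.map (K P).subtype) ≤ (S : Subgroup G) ⊓ K (cj g P) := by
      apply le_inf
      · rw [← hRS]; exact cj_mono g (le_sup_left.trans hR)
      · rw [hKconj]; exact cj_mono g hY'K
    have hfin : Finite ↥((S : Subgroup G) ⊓ K (cj g P)) := inferInstance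
    calc Nat.card Y = Nat.card (Y.map (K P).subtype) := (Subgroup.card_subtype _ _).symm
      _ = Nat.card (cj g (Y.map (K P).subtype)) := (card_cj g _).symm
      _ ≤ Nat.card ↥((S : Subgroup G) ⊓ K (cj g P)) := Subgroup.card_le_of_le hYS
      _ ≤ Nat.card ↥((S : Subgroup G) ⊓ K P) := h g hQS
  · intro h g hQS
    rw [← hcardX]
    -- pull S ∩ K(Q) back to K(P)
    have hle : cj g⁻¹ ((S : Subgroup G) ⊓ K (cj g P)) ≤ K P := by
      have : cj g⁻¹ (K (cj g P)) = K P := by rw [hKconj, cj_inv_cj]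
      rw [← this]; exact cj_mono _ inf_le_right
    have hYp : IsPGroup p ((cj g⁻¹ ((S : Subgroup G) ⊓ K (cj g P))).subgroupOf (K P)) :=
      ((S.2.to_inf_left).map _).comap_subtype
    have := h _ hYp
    calc Nat.card ↥((S : Subgroup G) ⊓ K (cj g P)) = Nat.card (cj g⁻¹ ((S : Subgroup G) ⊓ K (cj g P))) :=
          (card_cj _ _).symm
      _ = Nat.card ((cj g⁻¹ ((S : Subgroup G) ⊓ K (cj g P))).subgroupOf (K P)) :=
          (Nat.card_congr (Subgroup.subgroupOfEquivOfLe hle).toEquiv).symm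
      _ ≤ _ := this

theorem cj_eq_of_mem_normalizer {G : Type*} [Group G] {n : G} {Q : Subgroup G}
    (hn : n ∈ Subgroup.normalizer (Q : Set G)) : cj n Q = Q := by
  ext y
  rw [mem_cj]
  have := (Subgroup.mem_normalizer_iff.mp ((Subgroup.normalizer (Q : Set G)).inv_mem hn) y)
  rw [inv_inv] at this
  exact this.symm

theorem mem_normalizer_of_cj_eq {G : Type*} [Group G] {n : G} {Q : Subgroup G}
    (h : cj n Q = Q) : n ∈ Subgroup.normalizer (Q : Set G) := by
  rw [Subgroup.mem_normalizer_iff]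
  intro x
  constructor
  · intro hx
    have := cj_mem n Q hx
    rwa [h] at this
  · intro hx
    rw [← h, mem_cj] at hx
    have : n⁻¹ * (n * x * n⁻¹) * n = x := by group
    rwa [this] at hx

theorem normalizer_le_normalizer_centralizer {G : Type*} [Group G] (Q : Subgroup G) :
    Subgroup.normalizer (Q : Set G) ≤
      Subgroup.normalizer ((Subgroup.centralizer (Q : Set G) : Subgroup G) : Set G) := by
  intro n hn
  apply mem_normalizer_of_cj_eq
  rw [← cj_centralizer, cj_eq_of_mem_normalizer hn]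

/-- Sylow's theorem inside a subgroup `M` of an ambient finite group: a `p`-subgroup `A ≤ M` is
conjugate under `M` into `T`, where `T ≤ M` is (as a subgroup of `M`) a Sylow `p`-subgroup. -/
theorem exists_cj_le_of_sylow {G : Type*} [Group G] [Finite G] {p : ℕ} [Fact p.Prime]
    (M T A : Subgroup G) (hAM : A ≤ M) (hA : IsPGroup p A)
    (hT : ∃ R : Sylow p M, (R : Subgroup M) = T.subgroupOf M) :
    ∃ m ∈ M, cj m A ≤ T := by
  obtain ⟨R, hR⟩ := hT
  have hA' : IsPGroup p (A.subgroupOf M) := hA.comap_subtype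
  obtain ⟨R', hR'⟩ := hA'.exists_le_sylow
  obtain ⟨m, hm⟩ := MulAction.exists_smul_eq M R' R
  refine ⟨(m : G), m.2, ?_⟩
  rintro _ ⟨y, hy, rfl⟩
  have hyM : y ∈ M := hAM hy
  have h1 : (⟨y, hyM⟩ : M) ∈ (R' : Subgroup M) := hR' (by simpa [Subgroup.mem_subgroupOf] using hy)
  have h2 : m * ⟨y, hyM⟩ * m⁻¹ ∈ ((m • R' : Sylow p M) : Subgroup M) := by
    rw [Sylow.coe_subgroup_smul, Subgroup.mem_pointwise_smul_iff_inv_smul_mem]
    have h3 : (MulAut.conj m)⁻¹ • (m * ⟨y, hyM⟩ * m⁻¹) = (⟨y, hyM⟩ : M) := by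
      rw [MulAut.smul_def, ← map_inv, MulAut.conj_apply]; group
    rw [h3]; exact h1
  rw [hm, hR, Subgroup.mem_subgroupOf] at h2
  simpa [MulAut.conj_apply] using h2

/-- If `T ≤ M ≤ N` and `T` is Sylow in `N` then `T` is Sylow in `M`. -/
theorem sylow_of_le {G : Type*} [Group G] [Finite G] {p : ℕ} [Fact p.Prime]
    (N M T : Subgroup G) (hTM : T ≤ M) (hMN : M ≤ N)
    (hT : ∃ R : Sylow p N, (R : Subgroup N) = T.subgroupOf N) :
    ∃ R : Sylow p M, (R : Subgroup M) = T.subgroupOf M := by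
  have hTp : IsPGroup p T := by
    obtain ⟨R, hR⟩ := hT
    have h1 : IsPGroup p (T.subgroupOf N) := hR ▸ R.2
    exact h1.of_equiv (Subgroup.subgroupOfEquivOfLe (hTM.trans hMN))
  have hXN : IsPGroup p (T.subgroupOf N) := hTp.comap_subtype
  have hXM : IsPGroup p (T.subgroupOf M) := hTp.comap_subtype
  rw [sylow_iff_max _ hXN] at hT
  rw [sylow_iff_max _ hXM]
  intro Y hY
  have hY'M : Y.map M.subtype ≤ M := by
    rintro _ ⟨y, -, rfl⟩; exact y.2
  have hY'p : IsPGroup p (Y.map M.subtype) := hY.map _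
  have := hT _ (hY'p.comap_subtype (K := N))
  calc Nat.card Y = Nat.card (Y.map M.subtype) := (Subgroup.card_subtype _ _).symm
    _ = Nat.card ((Y.map M.subtype).subgroupOf N) :=
        (Nat.card_congr (Subgroup.subgroupOfEquivOfLe (hY'M.trans hMN)).toEquiv).symm
    _ ≤ Nat.card (T.subgroupOf N) := this
    _ = Nat.card T := Nat.card_congr (Subgroup.subgroupOfEquivOfLe (hTM.trans hMN)).toEquiv
    _ = Nat.card (T.subgroupOf M) := (Nat.card_congr (Subgroup.subgroupOfEquivOfLe hTM).toEquiv).symm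

/-- If `T ∩ N` is a Sylow `p`-subgroup of `N` and `C ≤ N` is normalized by `N`, then `T ∩ C` is a
Sylow `p`-subgroup of `C`. (All inside an ambient finite group.) -/
theorem sylow_inf_normal_in {G : Type*} [Group G] [Finite G] {p : ℕ} [Fact p.Prime]
    (N C T : Subgroup G) (hCN : C ≤ N) (hTN : T ≤ N) (hnorm : ∀ n ∈ N, cj n C = C)
    (hT : ∃ R : Sylow p N, (R : Subgroup N) = T.subgroupOf N) :
    ∃ R : Sylow p C, (R : Subgroup C) = (T ⊓ C).subgroupOf C := by
  obtain ⟨R, hR⟩ := hT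
  have hTp : IsPGroup p T := by
    have h1 : IsPGroup p (T.subgroupOf N) := hR ▸ R.2
    exact h1.of_equiv (Subgroup.subgroupOfEquivOfLe hTN)
  have hXp : IsPGroup p ((T ⊓ C).subgroupOf C) := (hTp.to_inf_left).comap_subtype
  rw [sylow_iff_max _ hXp]
  intro Y hY
  have hcardX : Nat.card ((T ⊓ C).subgroupOf C) = Nat.card ↥(T ⊓ C) :=
    Nat.card_congr (Subgroup.subgroupOfEquivOfLe inf_le_right).toEquiv
  rw [hcardX]
  have hY'C : Y.map C.subtype ≤ C := by
    rintro _ ⟨y, -, rfl⟩; exact y.2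
  have hY'p : IsPGroup p (Y.map C.subtype) := hY.map _
  have hY''p : IsPGroup p ((Y.map C.subtype).subgroupOf N) := hY'p.comap_subtype
  obtain ⟨R', hR'⟩ := hY''p.exists_le_sylow
  obtain ⟨n, hn⟩ := MulAction.exists_smul_eq N R' R
  -- cj n Y' ≤ T ⊓ C
  have hle : cj (n : G) (Y.map C.subtype) ≤ T ⊓ C := by
    rintro _ ⟨y, hy, rfl⟩
    have hyN : y ∈ N := hCN (hY'C hy)
    constructor
    · have h1 : (⟨y, hyN⟩ : N) ∈ (R' : Subgroup N) := hR' (by simpa [Subgroup.mem_subgroupOf] using hy)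
      have h2 : n * ⟨y, hyN⟩ * n⁻¹ ∈ ((n • R' : Sylow p N) : Subgroup N) := by
        rw [Sylow.coe_subgroup_smul, Subgroup.mem_pointwise_smul_iff_inv_smul_mem]
        have h3 : (MulAut.conj n)⁻¹ • (n * ⟨y, hyN⟩ * n⁻¹) = (⟨y, hyN⟩ : N) := by
          rw [MulAut.smul_def, ← map_inv, MulAut.conj_apply]; group
        rw [h3]; exact h1
      rw [hn, hR, Subgroup.mem_subgroupOf] at h2
      simpa [MulAut.conj_apply] using h2
    · have h1 : (n : G) * y * (n : G)⁻¹ ∈ cj (n : G) C := cj_mem _ _ (hY'C hy)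
      rw [hnorm _ n.2] at h1
      simpa [MulAut.conj_apply] using h1
  calc Nat.card Y = Nat.card (Y.map C.subtype) := (Subgroup.card_subtype _ _).symm
    _ = Nat.card (cj (n : G) (Y.map C.subtype)) := (card_cj _ _).symm
    _ ≤ Nat.card ↥(T ⊓ C) := Subgroup.card_le_of_le hle

/-- `Aut_K(Q)` is the image of `K ∩ N_G(Q)` under the conjugation homomorphism. -/
theorem autInducedBy_eq {G : Type*} [Group G] (K Q : Subgroup G) :
    autInducedBy K Q = (K.subgroupOf (Subgroup.normalizer (Q : Set G))).map Q.normalizerMonoidHom := by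
  apply le_antisymm
  · rw [autInducedBy, Subgroup.closure_le]
    rintro α ⟨g, hgK, hg⟩
    have hgN : g ∈ Subgroup.normalizer (Q : Set G) := by
      rw [Subgroup.mem_normalizer_iff]
      intro h
      constructor
      · intro hh
        have := hg ⟨h, hh⟩
        rw [← this]
        exact (α ⟨h, hh⟩).2
      · intro hh
        have h1 := hg (α.symm ⟨g * h * g⁻¹, hh⟩)
        rw [MulEquiv.apply_symm_apply] at h1
        have h2 : h = ((α.symm ⟨g * h * g⁻¹, hh⟩ : Q) : G) := by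
          have h3 : g * h * g⁻¹ = g * ((α.symm ⟨g * h * g⁻¹, hh⟩ : Q) : G) * g⁻¹ := h1
          exact mul_left_cancel (mul_right_cancel h3)
        rw [h2]
        exact (α.symm ⟨g * h * g⁻¹, hh⟩).2
    refine ⟨⟨g, hgN⟩, by simpa [Subgroup.mem_subgroupOf] using hgK, ?_⟩
    ext x
    rw [hg x]
    rfl
  · rintro _ ⟨n, hn, rfl⟩
    apply Subgroup.subset_closure
    refine ⟨(n : G), by simpa [Subgroup.mem_subgroupOf] using hn, fun x => rfl⟩

/-- Every subgroup of `S` has a conjugate in `S` whose `S`-normalizer is a Sylow subgroup of its normalizer. -/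
theorem exists_conj_normalizer_sylow {G : Type*} [Group G] [Finite G] {p : ℕ} [Fact p.Prime]
    (S : Sylow p G) (P : Subgroup G) (hP : P ≤ S) :
    ∃ g : G, cj g P ≤ S ∧ ∃ R : Sylow p ↥(Subgroup.normalizer ((cj g P : Subgroup G) : Set G)),
      (R : Subgroup ↥(Subgroup.normalizer ((cj g P : Subgroup G) : Set G))) =
        (normalizerIn (S : Subgroup G) (cj g P)).subgroupOf (Subgroup.normalizer ((cj g P : Subgroup G) : Set G)) := by
  classical
  let V : Set ℕ := {n | ∃ g : G, cj g P ≤ S ∧ n = Nat.card ↥((S : Subgroup G) ⊓ Subgroup.normalizer ((cj g P : Subgroup G) : Set G))}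
  have hVne : V.Nonempty := ⟨_, 1, by rw [cj_one]; exact hP, rfl⟩
  have hVbdd : BddAbove V := by
    refine ⟨Nat.card (S : Subgroup G), ?_⟩
    rintro _ ⟨g, -, rfl⟩
    exact Subgroup.card_le_of_le inf_le_left
  obtain ⟨g, hgS, hg⟩ := Nat.sSup_mem hVne hVbdd
  refine ⟨g, hgS, ?_⟩
  have key := fully_iff_sylow S (fun P => Subgroup.normalizer (P : Set G))
    (fun g P => cj_normalizer g P) (fun P => le_rfl) (cj g P) hgS
  apply key.mp
  intro h hh
  rw [cj_cj] at hh ⊢
  show _ ≤ Nat.card ↥((S : Subgroup G) ⊓ Subgroup.normalizer ((cj g P : Subgroup G) : Set G))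
  rw [← hg]
  exact le_csSup hVbdd ⟨h * g, hh, rfl⟩

/-- Conjugacy in the fusion system of a group. -/
theorem groupFusion_isConj_iff {G : Type*} [Group G] (S : Subgroup G) (P Q : Subgroup G) :
    (groupFusionSystem S).IsConj P Q ↔ P ≤ S ∧ Q ≤ S ∧ ∃ g : G, cj g P = Q := by
  constructor
  · rintro ⟨φ, ⟨hP, hφS, g, hg⟩, rfl⟩
    refine ⟨hP, ?_, g, ?_⟩
    · rintro _ ⟨x, rfl⟩; exact hφS x
    · ext y
      constructor
      · rintro ⟨x, hx, rfl⟩
        exact ⟨⟨x, hx⟩, by rw [hg]; simp [MulAut.conj_apply]⟩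
      · rintro ⟨x, rfl⟩
        exact ⟨x, x.2, by rw [hg]; simp [MulAut.conj_apply]⟩
  · rintro ⟨hP, hQ, g, rfl⟩
    refine ⟨conjHom P g, ⟨hP, ?_, g, fun x => rfl⟩, ?_⟩
    · intro x
      exact hQ (cj_mem g P x.2)
    · ext y
      constructor
      · rintro ⟨x, rfl⟩
        exact cj_mem g P x.2
      · rintro ⟨x, hx, rfl⟩
        exact ⟨⟨x, hx⟩, by simp [conjHom, MulAut.conj_apply]⟩

end Cfsg.Agent.Lib.Helper8_GroupFusion
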