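import Mathlib
import Cfsg.Prelude.Def_FusionSystem
import Cfsg.Agent.Lib.Helper8_Fusion
import Cfsg.Agent.Lib.Helper8_GroupFusion

set_option autoImplicit false
set_option linter.style.haveILetI false
set_option linter.unusedVariables false
open Cfsg

namespace Cfsg.Agent.Lib.Helper8_Saturated

open Cfsg.FusionSystem
open Cfsg.Agent.Lib.Helper8_Fusion
open Cfsg.Agent.Lib.Helper8_GroupFusion

variable {Ω : Type*} [Group Ω] {S : Subgroup Ω}

/-! ### Isomorphisms of the system, as `MulEquiv`s -/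

/-- The isomorphisms of the system from `P` onto `Q`. -/
def Iso (F : FusionSystem S) (P Q : Subgroup Ω) : Set (P ≃* Q) :=
  {e | Q.subtype.comp e.toMonoidHom ∈ F.Hom P}

/-- Transport of a map of the system along an equality of sources. -/
theorem hom_congr (F : FusionSystem S) {P P' : Subgroup Ω} (h : P = P') {φ : P →* Ω}
    (hφ : φ ∈ F.Hom P) (φ' : P' →* Ω)
    (hφ' : ∀ x (hx : x ∈ P) (hx' : x ∈ P'), φ' ⟨x, hx'⟩ = φ ⟨x, hx⟩) : φ' ∈ F.Hom P' := by
  subst h
  have : φ' = φ := by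
    ext x
    exact hφ' x x.2 x.2
  rw [this]; exact hφ

theorem iso_le (F : FusionSystem S) {P Q : Subgroup Ω} {e : P ≃* Q} (he : e ∈ Iso F P Q) :
    P ≤ S ∧ Q ≤ S := by
  have h := F.le_of_mem he
  refine ⟨h.1, ?_⟩
  intro y hy
  have := h.2 (e.symm ⟨y, hy⟩)
  simpa using this

theorem iso_refl (F : FusionSystem S) {P : Subgroup Ω} (hP : P ≤ S) :
    MulEquiv.refl P ∈ Iso F P P := by
  have h := F.conj_mem hP S.one_mem
  have : P.subtype.comp (MulEquiv.refl P).toMonoidHom = conjHom P 1 := by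
    ext x
    simp [conjHom]
  show P.subtype.comp (MulEquiv.refl P).toMonoidHom ∈ F.Hom P
  rw [this]; exact h

theorem iso_trans (F : FusionSystem S) {P Q R : Subgroup Ω} {e : P ≃* Q} {f : Q ≃* R}
    (he : e ∈ Iso F P Q) (hf : f ∈ Iso F Q R) : e.trans f ∈ Iso F P R := by
  have hv : ∀ x : P, (Q.subtype.comp e.toMonoidHom) x ∈ Q := fun x => (e x).2
  have h := F.comp_mem he hf hv
  have : R.subtype.comp (e.trans f).toMonoidHom =
      (R.subtype.comp f.toMonoidHom).comp ((Q.subtype.comp e.toMonoidHom).codRestrict Q hv) := by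
    ext x
    rfl
  show R.subtype.comp (e.trans f).toMonoidHom ∈ F.Hom P
  rw [this]; exact h

theorem range_subtype_comp {P Q : Subgroup Ω} (e : P ≃* Q) :
    (Q.subtype.comp e.toMonoidHom).range = Q := by
  ext y
  constructor
  · rintro ⟨x, rfl⟩
    exact (e x).2
  · intro hy
    exact ⟨e.symm ⟨y, hy⟩, by simp⟩

theorem iso_symm (F : FusionSystem S) {P Q : Subgroup Ω} {e : P ≃* Q}
    (he : e ∈ Iso F P Q) : e.symm ∈ Iso F Q P := by
  obtain ⟨ψ, hψ, hψe⟩ := F.inv_mem he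
  refine hom_congr F (range_subtype_comp e) hψ _ ?_
  intro y hy hy'
  obtain ⟨x, rfl⟩ := hy
  have h1 := hψe x
  rw [h1]
  show ((e.symm ⟨(Q.subtype.comp e.toMonoidHom) x, hy'⟩ : P) : Ω) = x
  have : (⟨(Q.subtype.comp e.toMonoidHom) x, hy'⟩ : Q) = e x := Subtype.ext rfl
  rw [this]; simp

/-- A map of the system is an isomorphism of the system onto its image. -/
theorem iso_of_hom (F : FusionSystem S) {P Q : Subgroup Ω} {φ : P →* Ω} (hφ : φ ∈ F.Hom P)
    (hr : φ.range = Q) : ∃ e : P ≃* Q, e ∈ Iso F P Q ∧ ∀ x : P, ((e x : Q) : Ω) = φ x := by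
  subst hr
  refine ⟨MonoidHom.ofInjective (F.injective_of_mem hφ), ?_, fun x => rfl⟩
  have : φ.range.subtype.comp (MonoidHom.ofInjective (F.injective_of_mem hφ)).toMonoidHom = φ := by
    ext x; rfl
  show φ.range.subtype.comp (MonoidHom.ofInjective (F.injective_of_mem hφ)).toMonoidHom ∈ F.Hom P
  rw [this]; exact hφ

theorem isConj_iff_iso (F : FusionSystem S) {P Q : Subgroup Ω} :
    F.IsConj P Q ↔ ∃ e : P ≃* Q, e ∈ Iso F P Q := by
  constructor
  · rintro ⟨φ, hφ, hr⟩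
    obtain ⟨e, he, -⟩ := iso_of_hom F hφ hr
    exact ⟨e, he⟩
  · rintro ⟨e, he⟩
    exact ⟨_, he, range_subtype_comp e⟩

theorem isConj_refl (F : FusionSystem S) {P : Subgroup Ω} (hP : P ≤ S) : F.IsConj P P :=
  (isConj_iff_iso F).mpr ⟨_, iso_refl F hP⟩

theorem isConj_symm (F : FusionSystem S) {P Q : Subgroup Ω} (h : F.IsConj P Q) : F.IsConj Q P := by
  obtain ⟨e, he⟩ := (isConj_iff_iso F).mp h
  exact (isConj_iff_iso F).mpr ⟨_, iso_symm F he⟩

theorem isConj_trans (F : FusionSystem S) {P Q R : Subgroup Ω} (h : F.IsConj P Q)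
    (h' : F.IsConj Q R) : F.IsConj P R := by
  obtain ⟨e, he⟩ := (isConj_iff_iso F).mp h
  obtain ⟨f, hf⟩ := (isConj_iff_iso F).mp h'
  exact (isConj_iff_iso F).mpr ⟨_, iso_trans F he hf⟩

theorem isConj_le (F : FusionSystem S) {P Q : Subgroup Ω} (h : F.IsConj P Q) : P ≤ S ∧ Q ≤ S := by
  obtain ⟨e, he⟩ := (isConj_iff_iso F).mp h
  exact iso_le F he

/-- Composition of an isomorphism of the system with a map of the system. -/
theorem hom_comp_iso (F : FusionSystem S) {P Q : Subgroup Ω} {e : P ≃* Q} (he : e ∈ Iso F P Q)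
    {ψ : Q →* Ω} (hψ : ψ ∈ F.Hom Q) : ψ.comp e.toMonoidHom ∈ F.Hom P := by
  have hv : ∀ x : P, (Q.subtype.comp e.toMonoidHom) x ∈ Q := fun x => (e x).2
  have h := F.comp_mem he hψ hv
  have : ψ.comp e.toMonoidHom = ψ.comp ((Q.subtype.comp e.toMonoidHom).codRestrict Q hv) := by
    ext x
    rfl
  rw [this]; exact h

/-- Composition of maps of the system, elementwise form. -/
theorem comp_mem' (F : FusionSystem S) {P Q : Subgroup Ω} {φ : P →* Ω} {ψ : Q →* Ω}
    (hφ : φ ∈ F.Hom P) (hψ : ψ ∈ F.Hom Q) (h : ∀ x : P, φ x ∈ Q) (χ : P →* Ω)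
    (hχ : ∀ x : P, χ x = ψ ⟨φ x, h x⟩) : χ ∈ F.Hom P := by
  have h1 := F.comp_mem hφ hψ h
  have : χ = ψ.comp (φ.codRestrict Q h) := by
    ext x
    rw [hχ]; rfl
  rw [this]; exact h1

/-- Cardinalities of conjugate subgroups agree. -/
theorem card_eq_of_isConj (F : FusionSystem S) {P Q : Subgroup Ω} (h : F.IsConj P Q) :
    Nat.card P = Nat.card Q := by
  obtain ⟨e, -⟩ := (isConj_iff_iso F).mp h
  exact Nat.card_congr e.toEquiv

/-! ### The automorphism group of a subgroup in the system -/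

/-- `Aut_F(P)` as a subgroup with explicit carrier. -/
def autSub (F : FusionSystem S) {P : Subgroup Ω} (hP : P ≤ S) : Subgroup (MulAut P) where
  carrier := Iso F P P
  one_mem' := iso_refl F hP
  mul_mem' := by
    intro a b ha hb
    exact iso_trans F hb ha
  inv_mem' := by
    intro a ha
    exact iso_symm F ha

theorem autGroup_eq_autSub (F : FusionSystem S) {P : Subgroup Ω} (hP : P ≤ S) :
    F.autGroup P = autSub F hP := by
  apply le_antisymm
  · rw [autGroup, Subgroup.closure_le]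
    intro α hα
    exact hα
  · intro α hα
    exact Subgroup.subset_closure hα

theorem mem_autGroup_iff (F : FusionSystem S) {P : Subgroup Ω} (hP : P ≤ S) (α : MulAut P) :
    α ∈ F.autGroup P ↔ α ∈ Iso F P P := by
  rw [autGroup_eq_autSub F hP]; rfl

theorem congr_mem_autGroup (F : FusionSystem S) {P Q : Subgroup Ω} {e : P ≃* Q}
    (he : e ∈ Iso F P Q) {α : MulAut P} (hα : α ∈ F.autGroup P) :
    MulAut.congr e α ∈ F.autGroup Q := by
  rw [mem_autGroup_iff F (iso_le F he).1] at hα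
  rw [mem_autGroup_iff F (iso_le F he).2]
  exact iso_trans F (iso_symm F he) (iso_trans F hα he)

theorem map_congr_autGroup (F : FusionSystem S) {P Q : Subgroup Ω} {e : P ≃* Q}
    (he : e ∈ Iso F P Q) : (F.autGroup P).map (MulAut.congr e).toMonoidHom = F.autGroup Q := by
  apply le_antisymm
  · rintro _ ⟨α, hα, rfl⟩
    exact congr_mem_autGroup F he hα
  · intro β hβ
    refine ⟨MulAut.congr e.symm β, congr_mem_autGroup F (iso_symm F he) hβ, ?_⟩
    ext y
    simp [MulAut.congr]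

theorem card_autGroup_eq (F : FusionSystem S) {P Q : Subgroup Ω} {e : P ≃* Q}
    (he : e ∈ Iso F P Q) : Nat.card (F.autGroup P) = Nat.card (F.autGroup Q) := by
  rw [← map_congr_autGroup F he]
  exact (Subgroup.card_map_of_injective (MulAut.congr e).injective).symm

/-! ### Automorphisms induced by elements of `S` -/

/-- Conjugation by `g ∈ S ∩ N(P)` is an automorphism of `P` in the system. -/
theorem conjAut_mem (F : FusionSystem S) {P : Subgroup Ω} (hP : P ≤ S) {g : Ω} (hgS : g ∈ S)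
    (hgN : g ∈ Subgroup.normalizer (P : Set Ω)) :
    P.normalizerMonoidHom ⟨g, hgN⟩ ∈ F.autGroup P := by
  rw [mem_autGroup_iff F hP]
  have h := F.conj_mem hP hgS
  have : P.subtype.comp (P.normalizerMonoidHom ⟨g, hgN⟩).toMonoidHom = conjHom P g := by
    ext x
    rfl
  show P.subtype.comp (P.normalizerMonoidHom ⟨g, hgN⟩).toMonoidHom ∈ F.Hom P
  rw [this]; exact h

theorem autInducedBy_le_autGroup (F : FusionSystem S) {P : Subgroup Ω} (hP : P ≤ S) :
    autInducedBy S P ≤ F.autGroup P := by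
  rw [autInducedBy_eq]
  rintro _ ⟨n, hn, rfl⟩
  have hnS : (n : Ω) ∈ S := by simpa [Subgroup.mem_subgroupOf] using hn
  exact conjAut_mem F hP hnS n.2

/-- Membership in `Aut_S(P)`, elementwise. -/
theorem mem_autInducedBy_iff (K P : Subgroup Ω) (α : MulAut P) :
    α ∈ autInducedBy K P ↔ ∃ g ∈ K, g ∈ Subgroup.normalizer (P : Set Ω) ∧
      ∀ x : P, ((α x : P) : Ω) = g * (x : Ω) * g⁻¹ := by
  rw [autInducedBy_eq]
  constructor
  · rintro ⟨n, hn, rfl⟩
    have hnS : (n : Ω) ∈ K := by simpa [Subgroup.mem_subgroupOf] using hn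
    exact ⟨n, hnS, n.2, fun x => rfl⟩
  · rintro ⟨g, hgK, hgN, hg⟩
    refine ⟨⟨g, hgN⟩, by simpa [Subgroup.mem_subgroupOf] using hgK, ?_⟩
    ext x
    rw [hg x]; rfl

theorem finite_of_le [Finite S] {P : Subgroup Ω} (hP : P ≤ S) : Finite P :=
  Finite.of_injective (Subgroup.inclusion hP) (Subgroup.inclusion_injective _)

/-- `Aut_S(P)` is a `p`-group. -/
theorem autInducedBy_isPGroup {p : ℕ} (hS : IsPGroup p S) (P : Subgroup Ω) :
    IsPGroup p (autInducedBy S P) := by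
  rw [autInducedBy_eq]
  have h1 : IsPGroup p (S.subgroupOf (Subgroup.normalizer (P : Set Ω))) := hS.comap_subtype
  exact h1.map _

/-! ### The extender `N_φ` -/

theorem mem_extender_of {P : Subgroup Ω} {φ : P →* Ω} {g : Ω} (hgS : g ∈ S)
    (hgN : g ∈ Subgroup.normalizer (P : Set Ω))
    (h : ∃ h ∈ S, ∀ (x : P) (hx : g * (x : Ω) * g⁻¹ ∈ P), φ ⟨g * x * g⁻¹, hx⟩ = h * φ x * h⁻¹) :
    g ∈ extender S P φ :=
  Subgroup.subset_closure ⟨hgS, hgN, h⟩

theorem extender_le_normalizerIn (P : Subgroup Ω) (φ : P →* Ω) :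
    extender S P φ ≤ normalizerIn S P := by
  rw [extender, Subgroup.closure_le]
  rintro g ⟨hgS, hgN, -⟩
  exact ⟨hgS, hgN⟩

theorem le_extender (F : FusionSystem S) {P : Subgroup Ω} {φ : P →* Ω} (hφ : φ ∈ F.Hom P) :
    P ≤ extender S P φ := by
  intro g hg
  refine mem_extender_of ((F.le_of_mem hφ).1 hg) (Subgroup.le_normalizer hg)
    ⟨φ ⟨g, hg⟩, (F.le_of_mem hφ).2 _, ?_⟩
  intro x hx
  have : (⟨g * (x : Ω) * g⁻¹, hx⟩ : P) = ⟨g, hg⟩ * x * ⟨g, hg⟩⁻¹ := Subtype.ext rfl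
  rw [this, map_mul, map_mul, map_inv]

theorem centralizerIn_le_extender (P : Subgroup Ω) (φ : P →* Ω) :
    centralizerIn S P ≤ extender S P φ := by
  intro g hg
  obtain ⟨hgS, hgC⟩ := hg
  refine mem_extender_of hgS (Subgroup.centralizer_le_normalizer _ hgC) ⟨1, S.one_mem, ?_⟩
  intro x hx
  have hcomm : (x : Ω) * g = g * (x : Ω) := (Subgroup.mem_centralizer_iff.mp hgC) x x.2
  have : (⟨g * (x : Ω) * g⁻¹, hx⟩ : P) = x := by
    apply Subtype.ext
    show g * (x : Ω) * g⁻¹ = x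
    rw [← hcomm]; group
  rw [this]; simp

/-- Using receptivity: a map onto a receptive subgroup extends to any subgroup `N` all of whose
elements satisfy the extender condition. -/
theorem receptive_extend (F : FusionSystem S) {P Q : Subgroup Ω} (hQ : F.IsReceptive Q)
    {φ : P →* Ω} (hφ : φ ∈ F.Hom P) (hr : φ.range = Q) (N : Subgroup Ω) (hPN : P ≤ N)
    (hN : ∀ g ∈ N, g ∈ S ∧ g ∈ Subgroup.normalizer (P : Set Ω) ∧
      ∃ h ∈ S, ∀ (x : P) (hx : g * (x : Ω) * g⁻¹ ∈ P), φ ⟨g * x * g⁻¹, hx⟩ = h * φ x * h⁻¹) :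
    ∃ ψ ∈ F.Hom N, ∀ x : P, ψ ⟨x, hPN x.2⟩ = φ x := by
  obtain ⟨ψ, hψ, hψφ⟩ := hQ.2 P φ hφ hr
  have hle : N ≤ extender S P φ := fun g hg =>
    mem_extender_of (hN g hg).1 (hN g hg).2.1 (hN g hg).2.2
  refine ⟨ψ.comp (Subgroup.inclusion hle), restrict_mem F hle hψ, ?_⟩
  intro x
  exact hψφ (x : Ω) x.2 (hle (hPN x.2))

/-! ### Images of normalizers and centralizers under maps of the system -/

/-- If `ψ` is a homomorphism defined on `N ≥ Q` with `N ≤ N_S(Q)`, injective, with values in `S`,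
mapping `Q` onto `P`, then `ψ` has values in `N_S(P)`. -/
theorem map_normalizer_vals (F : FusionSystem S) [Finite S] {N Q P : Subgroup Ω} {ψ : N →* Ω}
    (hψ : ψ ∈ F.Hom N) (hQN : Q ≤ N) (hN : N ≤ normalizerIn S Q)
    (himg : (Q.subgroupOf N).map ψ = P) : ∀ x : N, ψ x ∈ normalizerIn S P := by
  intro x
  refine ⟨(F.le_of_mem hψ).2 x, ?_⟩
  have hPS : P ≤ S := by
    rw [← himg]
    rintro _ ⟨y, -, rfl⟩
    exact (F.le_of_mem hψ).2 y
  haveI : Finite P := finite_of_le hPS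
  haveI : Finite ((P : Set Ω)) := ‹Finite P›
  apply Subgroup.mem_normalizer_fintype
  intro y hy
  have hy' : y ∈ (Q.subgroupOf N).map ψ := by rw [himg]; exact hy
  obtain ⟨q, hq, rfl⟩ := hy'
  have hqQ : (q : Ω) ∈ Q := by simpa [Subgroup.mem_subgroupOf] using hq
  have hxN : (x : Ω) ∈ Subgroup.normalizer (Q : Set Ω) := (hN x.2).2
  have hc : (x : Ω) * (q : Ω) * (x : Ω)⁻¹ ∈ Q := (Subgroup.mem_normalizer_iff.mp hxN _).mp hqQ
  have : ψ x * ψ q * (ψ x)⁻¹ = ψ (x * q * x⁻¹) := by rw [map_mul, map_mul, map_inv]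
  rw [this, SetLike.mem_coe, ← himg]
  exact ⟨x * q * x⁻¹, by simpa [Subgroup.mem_subgroupOf] using hc, rfl⟩

/-- If `ψ` is a homomorphism defined on `N ≥ Q`, with values in `S`, mapping `Q` onto `P`, then `ψ`
maps `C_S(Q) ∩ N` into `C_S(P)`. -/
theorem map_centralizer_vals (F : FusionSystem S) {N Q P : Subgroup Ω} {ψ : N →* Ω}
    (hψ : ψ ∈ F.Hom N) (himg : (Q.subgroupOf N).map ψ = P) :
    ∀ x : N, (x : Ω) ∈ Subgroup.centralizer (Q : Set Ω) → ψ x ∈ centralizerIn S P := by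
  intro x hx
  refine ⟨(F.le_of_mem hψ).2 x, ?_⟩
  show ψ x ∈ Subgroup.centralizer (P : Set Ω)
  rw [Subgroup.mem_centralizer_iff]
  intro y hy
  have hy' : y ∈ (Q.subgroupOf N).map ψ := by rw [himg]; exact hy
  obtain ⟨q, hq, rfl⟩ := hy'
  have hqQ : (q : Ω) ∈ Q := by simpa [Subgroup.mem_subgroupOf] using hq
  have hcomm : (q : Ω) * (x : Ω) = (x : Ω) * (q : Ω) := (Subgroup.mem_centralizer_iff.mp hx) _ hqQ
  have h2 : q * x = x * q := Subtype.ext hcomm
  rw [← map_mul, ← map_mul, h2]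

/-! ### The key lemma: mapping normalizers onto a fully automized receptive subgroup -/

/-- In any fusion system over a finite `p`-group: if `P` is fully automized and receptive and `Q` is
conjugate to `P`, there is a map of the system from `N_S(Q)` to `N_S(P)` carrying `Q` onto `P`. -/
theorem exists_normalizer_map [Finite S] {p : ℕ} [Fact p.Prime] (hS : IsPGroup p S)
    (F : FusionSystem S) {P Q : Subgroup Ω} (h₁ : F.IsFullyAutomized p P) (h₂ : F.IsReceptive P)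
    (hQ : F.IsConj Q P) :
    ∃ φ ∈ F.Hom (normalizerIn S Q), (∀ x, φ x ∈ normalizerIn S P) ∧
      (Q.subgroupOf (normalizerIn S Q)).map φ = P := by
  obtain ⟨e, he⟩ := (isConj_iff_iso F).mp hQ
  obtain ⟨hQS, hPS⟩ := iso_le F he
  haveI : Finite P := finite_of_le hPS
  haveI : Finite Q := finite_of_le hQS
  obtain ⟨-, R, hR⟩ := h₁
  -- the p-subgroup A of Aut_F(P)
  let A : Subgroup (MulAut P) := (autInducedBy S Q).map (MulAut.congr e).toMonoidHom
  have hAp : IsPGroup p A := (autInducedBy_isPGroup hS Q).map _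
  have hAM : A ≤ F.autGroup P := by
    rintro _ ⟨α, hα, rfl⟩
    exact congr_mem_autGroup F he (autInducedBy_le_autGroup F hQS hα)
  obtain ⟨χ, hχ, hχA⟩ := exists_cj_le_of_sylow (F.autGroup P) (autInducedBy S P) A hAM hAp ⟨R, hR⟩
  have hχ' : χ ∈ Iso F P P := (mem_autGroup_iff F hPS χ).mp hχ
  have he' : e.trans χ ∈ Iso F Q P := iso_trans F he hχ'
  have hQN : Q ≤ normalizerIn S Q := fun x hx => ⟨hQS hx, Subgroup.le_normalizer hx⟩
  obtain ⟨ψ, hψ, hψe⟩ := receptive_extend F h₂ he' (range_subtype_comp _) (normalizerIn S Q) hQN (by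
    intro g hg
    refine ⟨hg.1, hg.2, ?_⟩
    have hcg : Q.normalizerMonoidHom ⟨g, hg.2⟩ ∈ autInducedBy S Q := by
      rw [mem_autInducedBy_iff]
      exact ⟨g, hg.1, hg.2, fun x => rfl⟩
    have hβ : χ * (MulAut.congr e (Q.normalizerMonoidHom ⟨g, hg.2⟩)) * χ⁻¹ ∈ autInducedBy S P := by
      apply hχA
      exact ⟨_, ⟨_, hcg, rfl⟩, by simp [MulAut.conj_apply]⟩
    rw [mem_autInducedBy_iff] at hβ
    obtain ⟨h, hhS, hhN, hh⟩ := hβ
    refine ⟨h, hhS, ?_⟩
    intro x hx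
    have h3 := hh (χ (e x))
    have h4 : (χ * (MulAut.congr e (Q.normalizerMonoidHom ⟨g, hg.2⟩)) * χ⁻¹) (χ (e x)) =
        χ (e ⟨g * x * g⁻¹, hx⟩) := by
      simp only [MulAut.mul_apply, MulAut.inv_apply_self, MulAut.congr_apply,
        MulEquiv.trans_apply, MulEquiv.symm_apply_apply]
      rfl
    rw [h4] at h3
    exact h3)
  have himg : (Q.subgroupOf (normalizerIn S Q)).map ψ = P := by
    ext y
    constructor
    · rintro ⟨x, hx, rfl⟩
      have hxQ : (x : Ω) ∈ Q := by simpa [Subgroup.mem_subgroupOf] using hx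
      have := hψe ⟨x, hxQ⟩
      have h5 : ψ x = ψ ⟨((⟨x, hxQ⟩ : Q) : Ω), hQN hxQ⟩ := rfl
      rw [h5, this]
      exact ((e.trans χ) ⟨x, hxQ⟩).2
    · intro hy
      refine ⟨⟨((e.trans χ).symm ⟨y, hy⟩ : Q), hQN ((e.trans χ).symm ⟨y, hy⟩).2⟩, ?_, ?_⟩
      · simp [Subgroup.mem_subgroupOf]
      · rw [hψe]
        simp
  exact ⟨ψ, hψ, map_normalizer_vals F hψ hQN le_rfl himg, himg⟩

/-! ### Receptive subgroups are fully centralized -/

/-- Extension of an isomorphism onto a receptive subgroup to a subgroup containing `Q C_S(Q)`. -/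
theorem extend_to_centralizer (F : FusionSystem S)
    {Q R : Subgroup Ω} (hR : F.IsReceptive R) (χ : Q →* Ω) (hχ : χ ∈ F.Hom Q) (hχr : χ.range = R) :
    ∃ (N : Subgroup Ω) (ψ : N →* Ω), ψ ∈ F.Hom N ∧ ∃ (hQN : Q ≤ N) (hCN : centralizerIn S Q ≤ N),
      (∀ x : Q, ψ ⟨(x : Ω), hQN x.2⟩ = χ x) ∧
      ∀ c : centralizerIn S Q, ψ ⟨(c : Ω), hCN c.2⟩ ∈ centralizerIn S R := by
  obtain ⟨ψ, hψ, hψχ⟩ := hR.2 Q χ hχ hχr
  have hQN : Q ≤ extender S Q χ := le_extender F hχ
  have hCN : centralizerIn S Q ≤ extender S Q χ := centralizerIn_le_extender Q χ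
  have himg : (Q.subgroupOf (extender S Q χ)).map ψ = R := by
    rw [← hχr]
    ext y
    constructor
    · rintro ⟨x, hx, rfl⟩
      have hxQ : (x : Ω) ∈ Q := by simpa [Subgroup.mem_subgroupOf] using hx
      exact ⟨⟨x, hxQ⟩, (hψχ x hxQ x.2).symm⟩
    · rintro ⟨x, rfl⟩
      exact ⟨⟨x, hQN x.2⟩, by simp [Subgroup.mem_subgroupOf], hψχ x x.2 (hQN x.2)⟩
  refine ⟨extender S Q χ, ψ, hψ, hQN, hCN, ?_, ?_⟩
  · intro x
    exact hψχ (x : Ω) x.2 (hQN x.2)
  · intro c
    exact map_centralizer_vals F hψ himg ⟨(c : Ω), hCN c.2⟩ c.2.2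

theorem finite_centralizerIn [Finite S] (P : Subgroup Ω) : Finite (centralizerIn S P) :=
  finite_of_le (inf_le_left : centralizerIn S P ≤ S)

theorem finite_normalizerIn [Finite S] (P : Subgroup Ω) : Finite (normalizerIn S P) :=
  finite_of_le (inf_le_left : normalizerIn S P ≤ S)

/-- If `R` is receptive and `Q` is conjugate to `R` then `|C_S(Q)| ≤ |C_S(R)|`. -/
theorem card_centralizer_le_of_receptive [Finite S] (F : FusionSystem S) {Q R : Subgroup Ω}
    (hR : F.IsReceptive R) (hQR : F.IsConj Q R) :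
    Nat.card (centralizerIn S Q) ≤ Nat.card (centralizerIn S R) := by
  obtain ⟨χ, hχ, hχr⟩ := hQR
  obtain ⟨N, ψ, hψ, hQN, hCN, -, hψC⟩ := extend_to_centralizer F hR χ hχ hχr
  have hψinj : Function.Injective ψ := F.injective_of_mem hψ
  let f : centralizerIn S Q → centralizerIn S R := fun c => ⟨ψ ⟨(c : Ω), hCN c.2⟩, hψC c⟩
  have hfinj : Function.Injective f := by
    intro c d hcd
    have h1 : ψ ⟨(c : Ω), hCN c.2⟩ = ψ ⟨(d : Ω), hCN d.2⟩ := congrArg Subtype.val hcd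
    have h2 := hψinj h1
    apply Subtype.ext
    have h3 : ((⟨(c : Ω), hCN c.2⟩ : N) : Ω) = ((⟨(d : Ω), hCN d.2⟩ : N) : Ω) := by rw [h2]
    exact h3
  haveI := finite_centralizerIn (S := S) R
  exact Nat.card_le_card_of_injective f hfinj

theorem fullyCentralized_of_receptive [Finite S] (F : FusionSystem S) {R : Subgroup Ω}
    (hR : F.IsReceptive R) : F.IsFullyCentralized R :=
  ⟨hR.1, fun Q hQ => card_centralizer_le_of_receptive F hR (isConj_symm F hQ)⟩

/-! ### Fully automized subgroups, via cardinalities -/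

theorem fullyAutomized_iff_card [Finite S] {p : ℕ} [Fact p.Prime] (F : FusionSystem S)
    {P : Subgroup Ω} (hP : P ≤ S) :
    F.IsFullyAutomized p P ↔
      Nat.card (autInducedBy S P) = p ^ (Nat.card (F.autGroup P)).factorization p := by
  haveI : Finite P := finite_of_le hP
  have hle := autInducedBy_le_autGroup F hP
  have hcard : Nat.card ((autInducedBy S P).subgroupOf (F.autGroup P)) = Nat.card (autInducedBy S P) :=
    Nat.card_congr (Subgroup.subgroupOfEquivOfLe hle).toEquiv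
  constructor
  · rintro ⟨-, R, hR⟩
    rw [← hcard, ← hR]
    exact R.card_eq_multiplicity
  · intro h
    refine ⟨hP, Sylow.ofCard ((autInducedBy S P).subgroupOf (F.autGroup P)) (by rw [hcard]; exact h), rfl⟩

/-- Transport of `Aut_S` along an isomorphism which is "induced by `S`". -/
theorem map_autInducedBy_le {P Q : Subgroup Ω} (e : P ≃* Q)
    (h : ∀ g ∈ S, g ∈ Subgroup.normalizer (P : Set Ω) → ∃ k ∈ S, ∀ (x : P) (hx : g * (x : Ω) * g⁻¹ ∈ P),
      ((e ⟨g * x * g⁻¹, hx⟩ : Q) : Ω) = k * (e x : Q) * k⁻¹) :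
    (autInducedBy S P).map (MulAut.congr e).toMonoidHom ≤ autInducedBy S Q := by
  rintro _ ⟨α, hα, rfl⟩
  rw [SetLike.mem_coe, mem_autInducedBy_iff] at hα
  obtain ⟨g, hgS, hgN, hg⟩ := hα
  obtain ⟨k, hkS, hk⟩ := h g hgS hgN
  apply Subgroup.subset_closure
  refine ⟨k, hkS, ?_⟩
  intro y
  have hx : g * ((e.symm y : P) : Ω) * g⁻¹ ∈ P := by
    rw [← hg]; exact (α (e.symm y)).2
  have h1 := hk (e.symm y) hx
  rw [MulEquiv.apply_symm_apply] at h1
  rw [← h1]
  show ((e (α (e.symm y)) : Q) : Ω) = _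
  congr 2
  exact Subtype.ext (hg _)

/-! ### Fully normalized subgroups in a saturated system -/

/-- Restriction of an isomorphism `E : N ≃* N'` to subgroups `P ≤ N`, `Q ≤ N'` corresponding under `E`. -/
def restrictIso {N N' P Q : Subgroup Ω} (E : N ≃* N') (hPN : P ≤ N) (hQN : Q ≤ N')
    (h : ∀ x : N, (x : Ω) ∈ P ↔ ((E x : N') : Ω) ∈ Q) : P ≃* Q where
  toFun x := ⟨E ⟨x, hPN x.2⟩, (h _).mp x.2⟩
  invFun y := ⟨E.symm ⟨y, hQN y.2⟩, (h _).mpr (by simp)⟩
  left_inv x := by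
    apply Subtype.ext
    simp
  right_inv y := by
    apply Subtype.ext
    simp
  map_mul' x y := by
    apply Subtype.ext
    show ((E (⟨x, hPN x.2⟩ * ⟨y, hPN y.2⟩) : N') : Ω) = _
    rw [map_mul]; rfl

theorem restrictIso_mem (F : FusionSystem S) {N N' P Q : Subgroup Ω} {E : N ≃* N'}
    (hE : E ∈ Iso F N N') (hPN : P ≤ N) (hQN : Q ≤ N')
    (h : ∀ x : N, (x : Ω) ∈ P ↔ ((E x : N') : Ω) ∈ Q) : restrictIso E hPN hQN h ∈ Iso F P Q := by
  have h1 := restrict_mem F hPN hE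
  have : Q.subtype.comp (restrictIso E hPN hQN h).toMonoidHom =
      (N'.subtype.comp E.toMonoidHom).comp (Subgroup.inclusion hPN) := by
    ext x; rfl
  show Q.subtype.comp (restrictIso E hPN hQN h).toMonoidHom ∈ F.Hom P
  rw [this]; exact h1

theorem le_normalizerIn {P : Subgroup Ω} (hP : P ≤ S) : P ≤ normalizerIn S P :=
  fun x hx => ⟨hP hx, Subgroup.le_normalizer hx⟩

theorem centralizerIn_le_normalizerIn (P : Subgroup Ω) : centralizerIn S P ≤ normalizerIn S P :=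
  fun x hx => ⟨hx.1, Subgroup.centralizer_le_normalizer _ hx.2⟩

/-- For a fully normalized `P` and a fully automized receptive conjugate `Q`, the normalizers are
isomorphic in the system by an isomorphism matching `P` with `Q`. -/
theorem exists_normalizer_iso [Finite S] {p : ℕ} [Fact p.Prime] (hS : IsPGroup p S)
    (F : FusionSystem S) {P Q : Subgroup Ω} (hP : F.IsFullyNormalized P)
    (h₁ : F.IsFullyAutomized p Q) (h₂ : F.IsReceptive Q) (hPQ : F.IsConj P Q) :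
    ∃ E : normalizerIn S P ≃* normalizerIn S Q, E ∈ Iso F (normalizerIn S P) (normalizerIn S Q) ∧
      ∀ x : normalizerIn S P, (x : Ω) ∈ P ↔ ((E x : normalizerIn S Q) : Ω) ∈ Q := by
  obtain ⟨ψ, hψ, hψN, hψimg⟩ := exists_normalizer_map hS F h₁ h₂ hPQ
  have hψinj := F.injective_of_mem hψ
  haveI := finite_normalizerIn (S := S) P
  haveI := finite_normalizerIn (S := S) Q
  have hrange : ψ.range = normalizerIn S Q := by
    apply Subgroup.eq_of_le_of_card_ge
    · rintro _ ⟨x, rfl⟩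
      exact hψN x
    · calc Nat.card (normalizerIn S Q) ≤ Nat.card (normalizerIn S P) := hP.2 Q hPQ
        _ = Nat.card ψ.range := Nat.card_congr (MonoidHom.ofInjective hψinj).toEquiv
  obtain ⟨E, hE, hEψ⟩ := iso_of_hom F hψ hrange
  refine ⟨E, hE, ?_⟩
  intro x
  rw [hEψ]
  constructor
  · intro hx
    rw [← hψimg]
    exact ⟨x, by simpa [Subgroup.mem_subgroupOf] using hx, rfl⟩
  · intro hx
    rw [← hψimg] at hx
    obtain ⟨x', hx', hxx⟩ := hx
    have := hψinj hxx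
    rw [← this]
    simpa [Subgroup.mem_subgroupOf] using hx'

/-- An isomorphism of normalizers matching `P` with `Q` maps `C_S(P)` into `C_S(Q)`. -/
theorem card_centralizer_le_of_iso [Finite S] (F : FusionSystem S) {P Q : Subgroup Ω}
    (hP : P ≤ S) (hQ : Q ≤ S)
    (E : normalizerIn S P ≃* normalizerIn S Q) (hE : E ∈ Iso F (normalizerIn S P) (normalizerIn S Q))
    (h : ∀ x : normalizerIn S P, (x : Ω) ∈ P ↔ ((E x : normalizerIn S Q) : Ω) ∈ Q) :
    Nat.card (centralizerIn S P) ≤ Nat.card (centralizerIn S Q) := by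
  have himg : (P.subgroupOf (normalizerIn S P)).map ((normalizerIn S Q).subtype.comp E.toMonoidHom) = Q := by
    ext y
    constructor
    · rintro ⟨x, hx, rfl⟩
      have hxP : (x : Ω) ∈ P := by simpa [Subgroup.mem_subgroupOf] using hx
      exact (h x).mp hxP
    · intro hy
      have hyN : y ∈ normalizerIn S Q := le_normalizerIn hQ hy
      refine ⟨E.symm ⟨y, hyN⟩, ?_, by simp⟩
      rw [SetLike.mem_coe, Subgroup.mem_subgroupOf, h]
      simpa using hy
  have hvals := map_centralizer_vals F hE himg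
  let f : centralizerIn S P → centralizerIn S Q := fun c =>
    ⟨((normalizerIn S Q).subtype.comp E.toMonoidHom) ⟨(c : Ω), centralizerIn_le_normalizerIn P c.2⟩,
      hvals _ c.2.2⟩
  have hfinj : Function.Injective f := by
    intro c d hcd
    have h1 : ((E ⟨(c : Ω), centralizerIn_le_normalizerIn P c.2⟩ : normalizerIn S Q) : Ω) =
        ((E ⟨(d : Ω), centralizerIn_le_normalizerIn P d.2⟩ : normalizerIn S Q) : Ω) :=
      congrArg (fun z : centralizerIn S Q => (z : Ω)) hcd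
    have h2 := E.injective (Subtype.ext h1)
    apply Subtype.ext
    exact congrArg (fun z : normalizerIn S P => (z : Ω)) h2
  haveI := finite_centralizerIn (S := S) Q
  exact Nat.card_le_card_of_injective f hfinj

/-- An isomorphism of normalizers matching `P` with `Q` carries `Aut_S(P)` into `Aut_S(Q)`. -/
theorem card_autInducedBy_le_of_iso [Finite S] (F : FusionSystem S) {P Q : Subgroup Ω}
    (hP : P ≤ S) (hQ : Q ≤ S)
    (E : normalizerIn S P ≃* normalizerIn S Q)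
    (h : ∀ x : normalizerIn S P, (x : Ω) ∈ P ↔ ((E x : normalizerIn S Q) : Ω) ∈ Q) :
    Nat.card (autInducedBy S P) ≤ Nat.card (autInducedBy S Q) := by
  haveI : Finite Q := finite_of_le hQ
  have hle := map_autInducedBy_le (S := S)
    (restrictIso E (le_normalizerIn hP) (le_normalizerIn hQ) h) (by
      intro g hgS hgN
      refine ⟨((E ⟨g, ⟨hgS, hgN⟩⟩ : normalizerIn S Q) : Ω), (E ⟨g, ⟨hgS, hgN⟩⟩).2.1, ?_⟩
      intro x hx
      show ((E ⟨g * (x : Ω) * g⁻¹, _⟩ : normalizerIn S Q) : Ω) =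
        ((E ⟨g, ⟨hgS, hgN⟩⟩ : normalizerIn S Q) : Ω) * ((E ⟨x, _⟩ : normalizerIn S Q) : Ω) *
          ((E ⟨g, ⟨hgS, hgN⟩⟩ : normalizerIn S Q) : Ω)⁻¹
      have : (⟨g * (x : Ω) * g⁻¹, le_normalizerIn hP hx⟩ : normalizerIn S P) =
          ⟨g, ⟨hgS, hgN⟩⟩ * ⟨x, le_normalizerIn hP x.2⟩ * ⟨g, ⟨hgS, hgN⟩⟩⁻¹ := Subtype.ext rfl
      rw [this, map_mul, map_mul, map_inv]
      rfl)
  calc Nat.card (autInducedBy S P)
      = Nat.card ((autInducedBy S P).map (MulAut.congr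
          (restrictIso E (le_normalizerIn hP) (le_normalizerIn hQ) h)).toMonoidHom) :=
        (Subgroup.card_map_of_injective (MulAut.congr _).injective).symm
    _ ≤ Nat.card (autInducedBy S Q) := Subgroup.card_le_of_le hle

theorem iso_symm_iff {N N' P Q : Subgroup Ω} (E : N ≃* N')
    (h : ∀ x : N, (x : Ω) ∈ P ↔ ((E x : N') : Ω) ∈ Q) :
    ∀ y : N', (y : Ω) ∈ Q ↔ ((E.symm y : N) : Ω) ∈ P := by
  intro y
  rw [h (E.symm y)]
  simp

/-- In a saturated fusion system, a fully normalized subgroup is fully centralized and fully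
automized. -/
theorem fullyNormalized_facts [Finite S] {p : ℕ} [Fact p.Prime] (hS : IsPGroup p S)
    (F : FusionSystem S) (hF : F.IsSaturated p) {P : Subgroup Ω} (hP : F.IsFullyNormalized P) :
    F.IsFullyCentralized P ∧ F.IsFullyAutomized p P := by
  obtain ⟨Q, hPQ, hQa, hQr⟩ := hF P hP.1
  obtain ⟨E, hE, hEPQ⟩ := exists_normalizer_iso hS F hP hQa hQr hPQ
  have hQS : Q ≤ S := hQr.1
  have hE' := iso_symm F hE
  have hEQP := iso_symm_iff E hEPQ
  constructor
  · refine ⟨hP.1, ?_⟩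
    intro R hR
    calc Nat.card (centralizerIn S R)
        ≤ Nat.card (centralizerIn S Q) :=
          card_centralizer_le_of_receptive F hQr (isConj_trans F (isConj_symm F hR) hPQ)
      _ ≤ Nat.card (centralizerIn S P) := card_centralizer_le_of_iso F hQS hP.1 E.symm hE' hEQP
  · rw [fullyAutomized_iff_card F hP.1]
    rw [fullyAutomized_iff_card F hQS] at hQa
    have h1 : Nat.card (autInducedBy S P) = Nat.card (autInducedBy S Q) :=
      le_antisymm (card_autInducedBy_le_of_iso F hP.1 hQS E hEPQ)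
        (card_autInducedBy_le_of_iso F hQS hP.1 E.symm hEQP)
    have h2 : Nat.card (F.autGroup P) = Nat.card (F.autGroup Q) :=
      card_autGroup_eq F (restrictIso_mem F hE (le_normalizerIn hP.1) (le_normalizerIn hQS) hEPQ)
    rw [h1, h2]; exact hQa

/-! ### Fully centralized subgroups are receptive in a saturated system -/

/-- If `h` conjugates `θ x` to `θ (g x g⁻¹)` for all `x ∈ R` (with `g ∈ N(R)`) and `θ` maps `R` onto
the finite subgroup `P`, then `h ∈ N(P)`. -/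
theorem mem_normalizer_of_extender_cond {R P : Subgroup Ω} [Finite P] {θ : R →* Ω}
    (hθr : θ.range = P) {g h : Ω} (hgN : g ∈ Subgroup.normalizer (R : Set Ω))
    (hh : ∀ (x : R) (hx : g * (x : Ω) * g⁻¹ ∈ R), θ ⟨g * x * g⁻¹, hx⟩ = h * θ x * h⁻¹) :
    h ∈ Subgroup.normalizer (P : Set Ω) := by
  haveI : Finite ((P : Set Ω)) := ‹Finite P›
  apply Subgroup.mem_normalizer_fintype
  intro y hy
  have hy' : y ∈ θ.range := by rw [hθr]; exact hy
  obtain ⟨x, rfl⟩ := hy'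
  have hx : g * (x : Ω) * g⁻¹ ∈ R := (Subgroup.mem_normalizer_iff.mp hgN _).mp x.2
  rw [← hh x hx, SetLike.mem_coe, ← hθr]
  exact ⟨_, rfl⟩

theorem receptive_of_fullyCentralized [Finite S] {p : ℕ} [Fact p.Prime] (hS : IsPGroup p S)
    (F : FusionSystem S) (hF : F.IsSaturated p) {P : Subgroup Ω} (hP : F.IsFullyCentralized P) :
    F.IsReceptive P := by
  obtain ⟨hPS, hPfc⟩ := hP
  obtain ⟨Q, hPQ, hQa, hQr⟩ := hF P hPS
  have hQS : Q ≤ S := hQr.1
  obtain ⟨ψ, hψ, hψN, hψimg⟩ := exists_normalizer_map hS F hQa hQr hPQ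
  have hψinj := F.injective_of_mem hψ
  haveI : Finite P := finite_of_le hPS
  -- ψ maps C_S(P) onto C_S(Q)
  have hψC := map_centralizer_vals F hψ hψimg
  have hCsurj : ∀ c' ∈ centralizerIn S Q, ∃ c : normalizerIn S P,
      (c : Ω) ∈ centralizerIn S P ∧ ψ c = c' := by
    let f : centralizerIn S P → centralizerIn S Q := fun c =>
      ⟨ψ ⟨(c : Ω), centralizerIn_le_normalizerIn P c.2⟩, hψC _ c.2.2⟩
    have hfinj : Function.Injective f := by
      intro c d hcd
      have h1 : ψ ⟨(c : Ω), centralizerIn_le_normalizerIn P c.2⟩ =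
          ψ ⟨(d : Ω), centralizerIn_le_normalizerIn P d.2⟩ :=
        congrArg (fun z : centralizerIn S Q => (z : Ω)) hcd
      have h2 := hψinj h1
      apply Subtype.ext
      exact congrArg (fun z : normalizerIn S P => (z : Ω)) h2
    haveI := finite_centralizerIn (S := S) Q
    have hfbij : Function.Bijective f := hfinj.bijective_of_nat_card_le (hPfc Q hPQ)
    intro c' hc'
    obtain ⟨c, hc⟩ := hfbij.2 ⟨c', hc'⟩
    exact ⟨⟨(c : Ω), centralizerIn_le_normalizerIn P c.2⟩, c.2,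
      congrArg (fun z : centralizerIn S Q => (z : Ω)) hc⟩
  refine ⟨hPS, ?_⟩
  intro R θ hθ hθr
  have hRS : R ≤ S := (F.le_of_mem hθ).1
  have hθP : ∀ x : R, θ x ∈ normalizerIn S P := by
    intro x
    apply le_normalizerIn hPS
    rw [← hθr]; exact ⟨x, rfl⟩
  -- the composite ψθ
  let ψθ : R →* Ω := ψ.comp (θ.codRestrict (normalizerIn S P) hθP)
  have hψθ : ψθ ∈ F.Hom R := F.comp_mem hθ hψ hθP
  have hψθr : ψθ.range = Q := by
    rw [← hψimg]
    ext y
    constructor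
    · rintro ⟨x, rfl⟩
      refine ⟨⟨θ x, hθP x⟩, ?_, rfl⟩
      rw [SetLike.mem_coe, Subgroup.mem_subgroupOf]
      show θ x ∈ P
      have hx' : θ x ∈ θ.range := ⟨x, rfl⟩
      rw [hθr] at hx'
      exact hx'
    · rintro ⟨n, hn, rfl⟩
      rw [SetLike.mem_coe, Subgroup.mem_subgroupOf] at hn
      have hn' : (n : Ω) ∈ θ.range := by rw [hθr]; exact hn
      obtain ⟨x, hx⟩ := hn'
      refine ⟨x, ?_⟩
      show ψ ⟨θ x, hθP x⟩ = ψ n
      congr 1
      exact Subtype.ext hx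
  obtain ⟨χ, hχ, hχψθ⟩ := hQr.2 R ψθ hψθ hψθr
  -- key: generators of N_θ
  have hgen : ∀ g : Ω, g ∈ S → g ∈ Subgroup.normalizer (R : Set Ω) →
      (∃ h ∈ S, ∀ (x : R) (hx : g * (x : Ω) * g⁻¹ ∈ R), θ ⟨g * x * g⁻¹, hx⟩ = h * θ x * h⁻¹) →
      ∃ h : normalizerIn S P, ∀ (x : R) (hx : g * (x : Ω) * g⁻¹ ∈ R),
        ψθ ⟨g * x * g⁻¹, hx⟩ = ψ h * ψθ x * (ψ h)⁻¹ := by
    rintro g hgS hgN ⟨h, hhS, hh⟩
    have hhN : h ∈ Subgroup.normalizer (P : Set Ω) := mem_normalizer_of_extender_cond hθr hgN hh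
    refine ⟨⟨h, hhS, hhN⟩, ?_⟩
    intro x hx
    show ψ ⟨θ ⟨g * x * g⁻¹, hx⟩, _⟩ = ψ ⟨h, hhS, hhN⟩ * ψ ⟨θ x, hθP x⟩ * (ψ ⟨h, hhS, hhN⟩)⁻¹
    rw [← map_inv, ← map_mul, ← map_mul]
    congr 1
    apply Subtype.ext
    exact hh x hx
  have hle : extender S R θ ≤ extender S R ψθ := by
    rw [extender, Subgroup.closure_le]
    rintro g ⟨hgS, hgN, hg⟩
    obtain ⟨h, hh⟩ := hgen g hgS hgN hg
    exact mem_extender_of hgS hgN ⟨ψ h, (F.le_of_mem hψ).2 h, hh⟩
  have hRle : R ≤ extender S R θ := le_extender F hθ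
  -- restriction of χ
  let χ' : ↥(extender S R θ) →* Ω := χ.comp (Subgroup.inclusion hle)
  have hχ' : χ' ∈ F.Hom (extender S R θ) := restrict_mem F hle hχ
  have hχ'R : ∀ x : R, χ' ⟨x, hRle x.2⟩ = ψθ x := fun x => hχψθ x x.2 (hle (hRle x.2))
  -- values of χ' lie in the range of ψ
  have hvals : ∀ (n : Ω) (hn : n ∈ extender S R θ), χ' ⟨n, hn⟩ ∈ ψ.range := by
    intro n hn
    induction hn using Subgroup.closure_induction with
    | mem g hg =>
      obtain ⟨hgS, hgN, hg'⟩ := hg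
      obtain ⟨h, hh⟩ := hgen g hgS hgN hg'
      have hgE : g ∈ extender S R θ := Subgroup.subset_closure ⟨hgS, hgN, hg'⟩
      -- (ψ h)⁻¹ * χ' g centralizes Q
      have hcent : (ψ h)⁻¹ * χ' ⟨g, hgE⟩ ∈ centralizerIn S Q := by
        refine ⟨S.mul_mem (S.inv_mem ((F.le_of_mem hψ).2 h)) ((F.le_of_mem hχ').2 _), ?_⟩
        show _ ∈ Subgroup.centralizer (Q : Set Ω)
        rw [Subgroup.mem_centralizer_iff]
        intro y hy
        have hy' : y ∈ ψθ.range := by rw [hψθr]; exact hy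
        obtain ⟨x, rfl⟩ := hy'
        have hx : g * (x : Ω) * g⁻¹ ∈ R := (Subgroup.mem_normalizer_iff.mp hgN _).mp x.2
        have h1 := hh x hx
        have h2 : χ' ⟨g, hgE⟩ * ψθ x * (χ' ⟨g, hgE⟩)⁻¹ = ψθ ⟨g * x * g⁻¹, hx⟩ := by
          rw [← hχ'R x, ← hχ'R ⟨g * x * g⁻¹, hx⟩, ← map_inv, ← map_mul, ← map_mul]
          rfl
        rw [h1] at h2
        have h3 : χ' ⟨g, hgE⟩ * ψθ x = ψ h * ψθ x * (ψ h)⁻¹ * χ' ⟨g, hgE⟩ := by
          rw [← h2]; group
        calc ψθ x * ((ψ h)⁻¹ * χ' ⟨g, hgE⟩)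
            = (ψ h)⁻¹ * (ψ h * ψθ x * (ψ h)⁻¹ * χ' ⟨g, hgE⟩) := by group
          _ = (ψ h)⁻¹ * (χ' ⟨g, hgE⟩ * ψθ x) := by rw [h3]
          _ = (ψ h)⁻¹ * χ' ⟨g, hgE⟩ * ψθ x := by group
      obtain ⟨c, -, hc⟩ := hCsurj _ hcent
      refine ⟨h * c, ?_⟩
      rw [map_mul, hc]; group
    | one =>
      have : (⟨1, (extender S R θ).one_mem⟩ : ↥(extender S R θ)) = 1 := rfl
      rw [this, map_one]; exact Subgroup.one_mem _
    | mul a b ha hb iha ihb =>
      have : (⟨a * b, (extender S R θ).mul_mem ha hb⟩ : ↥(extender S R θ)) = ⟨a, ha⟩ * ⟨b, hb⟩ := rfl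
      rw [this, map_mul]; exact Subgroup.mul_mem _ iha ihb
    | inv a ha iha =>
      have : (⟨a⁻¹, (extender S R θ).inv_mem ha⟩ : ↥(extender S R θ)) = ⟨a, ha⟩⁻¹ := rfl
      rw [this, map_inv]; exact Subgroup.inv_mem _ iha
  obtain ⟨ψ', hψ', hψ'ψ⟩ := F.inv_mem hψ
  have hvals' : ∀ n : ↥(extender S R θ), χ' n ∈ ψ.range := fun n => hvals n n.2
  refine ⟨ψ'.comp (χ'.codRestrict ψ.range hvals'), F.comp_mem hχ' hψ' hvals', ?_⟩
  intro x hxR hxN
  show ψ' ⟨χ' ⟨x, hxN⟩, _⟩ = θ ⟨x, hxR⟩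
  have h1 : χ' ⟨x, hxN⟩ = ψ ⟨θ ⟨x, hxR⟩, hθP ⟨x, hxR⟩⟩ := hχ'R ⟨x, hxR⟩
  have h2 : ψ' ⟨ψ ⟨θ ⟨x, hxR⟩, hθP ⟨x, hxR⟩⟩, ⟨_, rfl⟩⟩ = θ ⟨x, hxR⟩ :=
    hψ'ψ ⟨θ ⟨x, hxR⟩, hθP ⟨x, hxR⟩⟩
  rw [← h2]
  congr 1
  exact Subtype.ext h1

/-! ### Existence of fully normalized / fully centralized conjugates -/

theorem exists_fullyNormalized [Finite S] (F : FusionSystem S) {P : Subgroup Ω} (hP : P ≤ S) :
    ∃ Q : Subgroup Ω, F.IsConj P Q ∧ F.IsFullyNormalized Q := by
  classical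
  let V : Set ℕ := {n | ∃ Q : Subgroup Ω, F.IsConj P Q ∧ n = Nat.card (normalizerIn S Q)}
  have hVne : V.Nonempty := ⟨_, P, isConj_refl F hP, rfl⟩
  have hVbdd : BddAbove V := by
    refine ⟨Nat.card S, ?_⟩
    rintro _ ⟨Q, -, rfl⟩
    exact Subgroup.card_le_of_le inf_le_left
  obtain ⟨Q₀, hQ₀, hQ₀card⟩ := Nat.sSup_mem hVne hVbdd
  refine ⟨Q₀, hQ₀, (isConj_le F hQ₀).2, ?_⟩
  intro R hR
  rw [← hQ₀card]
  exact le_csSup hVbdd ⟨R, isConj_trans F hQ₀ hR, rfl⟩

theorem exists_fullyCentralized [Finite S] (F : FusionSystem S) {P : Subgroup Ω} (hP : P ≤ S) :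
    ∃ Q : Subgroup Ω, F.IsConj P Q ∧ F.IsFullyCentralized Q := by
  classical
  let V : Set ℕ := {n | ∃ Q : Subgroup Ω, F.IsConj P Q ∧ n = Nat.card (centralizerIn S Q)}
  have hVne : V.Nonempty := ⟨_, P, isConj_refl F hP, rfl⟩
  have hVbdd : BddAbove V := by
    refine ⟨Nat.card S, ?_⟩
    rintro _ ⟨Q, -, rfl⟩
    exact Subgroup.card_le_of_le inf_le_left
  obtain ⟨Q₀, hQ₀, hQ₀card⟩ := Nat.sSup_mem hVne hVbdd
  refine ⟨Q₀, hQ₀, (isConj_le F hQ₀).2, ?_⟩
  intro R hR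
  rw [← hQ₀card]
  exact le_csSup hVbdd ⟨R, isConj_trans F hQ₀ hR, rfl⟩

/-- Roberts–Shpectorov characterization of saturation. -/
theorem saturated_iff [Finite S] {p : ℕ} [Fact p.Prime] (hS : IsPGroup p S) (F : FusionSystem S) :
    F.IsSaturated p ↔
      ((∀ P : Subgroup Ω, F.IsFullyNormalized P → F.IsFullyCentralized P ∧ F.IsFullyAutomized p P) ∧
        (∀ P : Subgroup Ω, F.IsFullyCentralized P → F.IsReceptive P)) := by
  constructor
  · intro hF
    exact ⟨fun P hP => fullyNormalized_facts hS F hF hP,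
      fun P hP => receptive_of_fullyCentralized hS F hF hP⟩
  · rintro ⟨h1, h2⟩ P hP
    obtain ⟨Q, hPQ, hQ⟩ := exists_fullyNormalized F hP
    exact ⟨Q, hPQ, (h1 Q hQ).2, h2 Q (h1 Q hQ).1⟩

/-- In a saturated system, fully normalized subgroups are receptive. -/
theorem receptive_of_fullyNormalized [Finite S] {p : ℕ} [Fact p.Prime] (hS : IsPGroup p S)
    (F : FusionSystem S) (hF : F.IsSaturated p) {P : Subgroup Ω} (hP : F.IsFullyNormalized P) :
    F.IsReceptive P :=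
  receptive_of_fullyCentralized hS F hF (fullyNormalized_facts hS F hF hP).1

end Cfsg.Agent.Lib.Helper8_Saturated
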