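import Mathlib
import Cfsg.Prelude.Def_FusionSystem
import Cfsg.Agent.Lib.Helper8_Saturated
import Cfsg.Agent.Lib.Helper4_PCore

set_option autoImplicit false
set_option linter.style.haveILetI false
set_option linter.unusedVariables false
open Cfsg

namespace Cfsg.Agent.Lib.Helper8_Alperin

open Cfsg.FusionSystem
open Cfsg.Agent.Lib.Helper8_Fusion
open Cfsg.Agent.Lib.Helper8_GroupFusion
open Cfsg.Agent.Lib.Helper8_Saturated

variable {Ω : Type*} [Group Ω] {S : Subgroup Ω}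

/-- Normalizers grow in finite `p`-groups. -/
theorem exists_mem_normalizerIn_not_mem [Finite S] {p : ℕ} [Fact p.Prime] (hS : IsPGroup p S)
    {P : Subgroup Ω} (hP : P ≤ S) (hne : P ≠ S) : ∃ x, x ∈ normalizerIn S P ∧ x ∉ P := by
  haveI : Group.IsNilpotent S := hS.isNilpotent
  have hnc : NormalizerCondition S := Group.normalizerCondition_of_isNilpotent
  have hlt : P.subgroupOf S < ⊤ :=
    lt_top_iff_ne_top.mpr (fun h => hne (le_antisymm hP (Subgroup.subgroupOf_eq_top.mp h)))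
  obtain ⟨x, hxN, hxP⟩ := SetLike.exists_of_lt (hnc _ hlt)
  refine ⟨(x : Ω), ⟨x.2, ?_⟩, ?_⟩
  · show (x : Ω) ∈ Subgroup.normalizer (P : Set Ω)
    rw [Subgroup.mem_normalizer_iff]
    intro y
    rw [Subgroup.mem_normalizer_iff] at hxN
    constructor
    · intro hy
      have := (hxN ⟨y, hP hy⟩).mp (by simpa [Subgroup.mem_subgroupOf] using hy)
      simpa [Subgroup.mem_subgroupOf] using this
    · intro hy
      have hyS : y ∈ S := by
        have h1 : (x : Ω) * y * (x : Ω)⁻¹ ∈ S := hP hy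
        have h2 : y = (x : Ω)⁻¹ * ((x : Ω) * y * (x : Ω)⁻¹) * (x : Ω) := by group
        rw [h2]
        exact S.mul_mem (S.mul_mem (S.inv_mem x.2) h1) x.2
      have := (hxN ⟨y, hyS⟩).mpr (by simpa [Subgroup.mem_subgroupOf] using hy)
      simpa [Subgroup.mem_subgroupOf] using this
  · intro hx
    exact hxP (by simpa [Subgroup.mem_subgroupOf] using hx)

theorem card_lt_card_normalizerIn [Finite S] {p : ℕ} [Fact p.Prime] (hS : IsPGroup p S)
    {P : Subgroup Ω} (hP : P ≤ S) (hne : P ≠ S) : Nat.card P < Nat.card (normalizerIn S P) := by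
  obtain ⟨x, hxN, hxP⟩ := exists_mem_normalizerIn_not_mem hS hP hne
  haveI := finite_normalizerIn (S := S) P
  have hlt : P < normalizerIn S P :=
    lt_of_le_of_ne (le_normalizerIn hP) (fun h => hxP (by rw [h]; exact hxN))
  exact Set.Finite.card_lt_card (Set.toFinite _) hlt

/-- The equivalence `P ≃* Q` obtained by restricting an injective homomorphism `ψ` on `N ≥ P` with `ψ(P) = Q`. -/
noncomputable def restrictEquiv {N P Q : Subgroup Ω} (ψ : N →* Ω) (hinj : Function.Injective ψ)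
    (hPN : P ≤ N) (himg : (P.subgroupOf N).map ψ = Q) : P ≃* Q :=
  MulEquiv.ofBijective
    ((ψ.comp (Subgroup.inclusion hPN)).codRestrict Q (by
      intro x
      rw [← himg]
      exact ⟨Subgroup.inclusion hPN x, by simp [Subgroup.mem_subgroupOf], rfl⟩))
    (by
      constructor
      · intro x y hxy
        have h1 : ψ (Subgroup.inclusion hPN x) = ψ (Subgroup.inclusion hPN y) :=
          congrArg (fun z : Q => (z : Ω)) hxy
        exact Subgroup.inclusion_injective hPN (hinj h1)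
      · rintro ⟨y, hy⟩
        have hy' : y ∈ (P.subgroupOf N).map ψ := by rw [himg]; exact hy
        obtain ⟨x, hx, rfl⟩ := hy'
        have hxP : (x : Ω) ∈ P := by simpa [Subgroup.mem_subgroupOf] using hx
        exact ⟨⟨x, hxP⟩, Subtype.ext rfl⟩)

theorem restrictEquiv_apply {N P Q : Subgroup Ω} (ψ : N →* Ω) (hinj : Function.Injective ψ)
    (hPN : P ≤ N) (himg : (P.subgroupOf N).map ψ = Q) (x : P) :
    ((restrictEquiv ψ hinj hPN himg x : Q) : Ω) = ψ ⟨x, hPN x.2⟩ := rfl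

theorem restrictEquiv_mem (F : FusionSystem S) {N P Q : Subgroup Ω} {ψ : N →* Ω}
    (hψ : ψ ∈ F.Hom N) (hPN : P ≤ N) (himg : (P.subgroupOf N).map ψ = Q) :
    restrictEquiv ψ (F.injective_of_mem hψ) hPN himg ∈ Iso F P Q := by
  have h1 := restrict_mem F hPN hψ
  have : Q.subtype.comp (restrictEquiv ψ (F.injective_of_mem hψ) hPN himg).toMonoidHom =
      ψ.comp (Subgroup.inclusion hPN) := by
    ext x; rfl
  show Q.subtype.comp (restrictEquiv ψ (F.injective_of_mem hψ) hPN himg).toMonoidHom ∈ F.Hom P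
  rw [this]; exact h1

/-- A map of the system defined on `S` is an automorphism of `S`. -/
theorem range_eq_of_hom_top [Finite S] (F : FusionSystem S) {φ : S →* Ω} (hφ : φ ∈ F.Hom S) :
    φ.range = S := by
  apply Subgroup.eq_of_le_of_card_ge
  · rintro _ ⟨x, rfl⟩
    exact (F.le_of_mem hφ).2 x
  · exact (Nat.card_congr (MonoidHom.ofInjective (F.injective_of_mem hφ)).toEquiv).le

/-- If `Aut_F(P) ≤ Aut_E(P)` then every `F`-isomorphism `P ≃ P` is an `E`-isomorphism. -/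
theorem iso_self_of_autGroup_le (F E : FusionSystem S) {P : Subgroup Ω} (hP : P ≤ S)
    (h : F.autGroup P ≤ E.autGroup P) {α : P ≃* P} (hα : α ∈ Iso F P P) : α ∈ Iso E P P :=
  (mem_autGroup_iff E hP α).mp (h ((mem_autGroup_iff F hP α).mpr hα))

/-- Transport of a hom along an iso: if `φ = subtype ∘ e` with `e` an iso of the system. -/
theorem hom_of_iso_eq (F : FusionSystem S) {P Q : Subgroup Ω} {e : P ≃* Q} (he : e ∈ Iso F P Q)
    (φ : P →* Ω) (hφ : ∀ x : P, φ x = (e x : Ω)) : φ ∈ F.Hom P := by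
  have : φ = Q.subtype.comp e.toMonoidHom := by
    ext x; exact hφ x
  rw [this]; exact he

/-- A fully centralized subgroup containing its centralizer is centric (in a saturated system). -/
theorem centric_of_fullyCentralized [Finite S] {p : ℕ} [Fact p.Prime] (hS : IsPGroup p S)
    (F : FusionSystem S) (hF : F.IsSaturated p) {P : Subgroup Ω} (hP : F.IsFullyCentralized P)
    (hC : centralizerIn S P ≤ P) : F.IsCentric P := by
  have hPr := receptive_of_fullyCentralized hS F hF hP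
  refine ⟨hP.1, ?_⟩
  intro Q hPQ
  obtain ⟨χ, hχ, hχr⟩ := isConj_symm F hPQ
  obtain ⟨N, ψ, hψ, hQN, hCN, hψQ, hψC⟩ := extend_to_centralizer F hPr χ hχ hχr
  have hψinj := F.injective_of_mem hψ
  intro c hc
  have h1 : ψ ⟨c, hCN hc⟩ ∈ P := hC (hψC ⟨c, hc⟩)
  rw [← hχr] at h1
  obtain ⟨q, hq⟩ := h1
  rw [← hψQ q] at hq
  have h2 := hψinj hq
  have h3 : (q : Ω) = c := congrArg (fun z : N => (z : Ω)) h2
  rw [← h3]
  exact q.2

/-- An automorphism of `Q` which is the restriction of a map of `E` lies in `Aut_E(Q)`. -/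
theorem aut_mem_of_extends (E : FusionSystem S) {Q R : Subgroup Ω} (hQR : Q ≤ R)
    {α : MulAut Q} {ψ : R →* Ω} (hψE : ψ ∈ E.Hom R)
    (hext : ∀ x : Q, ψ ⟨x, hQR x.2⟩ = ((α x : Q) : Ω)) : α ∈ E.autGroup Q := by
  have h1 := restrict_mem E hQR hψE
  have hQS : Q ≤ S := (E.le_of_mem h1).1
  rw [mem_autGroup_iff E hQS]
  have : Q.subtype.comp α.toMonoidHom = ψ.comp (Subgroup.inclusion hQR) := by
    ext x
    exact (hext x).symm
  show Q.subtype.comp α.toMonoidHom ∈ E.Hom Q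
  rw [this]; exact h1

/-- `Inn(Q) ≤ Aut_S(Q)` for `Q ≤ S`. -/
theorem inn_le_autInducedBy {Q : Subgroup Ω} (hQ : Q ≤ S) : Inn Q ≤ autInducedBy S Q := by
  rintro _ ⟨y, rfl⟩
  rw [mem_autInducedBy_iff]
  exact ⟨(y : Ω), hQ y.2, Subgroup.le_normalizer y.2, fun x => rfl⟩

/-- Elements of `S` inducing an inner automorphism of `Q` lie in `Q`, if `C_S(Q) ≤ Q`. -/
theorem mem_of_conj_mem_inn {Q : Subgroup Ω} (hQ : Q ≤ S) (hC : centralizerIn S Q ≤ Q) {x : Ω}
    (hxS : x ∈ S) {α : MulAut Q} (hα : ∀ y : Q, ((α y : Q) : Ω) = x * (y : Ω) * x⁻¹)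
    (hI : α ∈ Inn Q) : x ∈ Q := by
  obtain ⟨q, rfl⟩ := hI
  have hc : (q : Ω)⁻¹ * x ∈ centralizerIn S Q := by
    refine ⟨S.mul_mem (S.inv_mem (hQ q.2)) hxS, ?_⟩
    show _ ∈ Subgroup.centralizer (Q : Set Ω)
    rw [Subgroup.mem_centralizer_iff]
    intro y hy
    have h1 := hα ⟨y, hy⟩
    have h2 : ((MulAut.conj q ⟨y, hy⟩ : Q) : Ω) = (q : Ω) * y * (q : Ω)⁻¹ := by
      simp [MulAut.conj_apply]
    rw [h2] at h1
    have h3 : y * ((q : Ω)⁻¹ * x) = (q : Ω)⁻¹ * ((q : Ω) * y * (q : Ω)⁻¹) * x := by group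
    rw [h3, h1]; group
  have h4 := hC hc
  have : x = (q : Ω) * ((q : Ω)⁻¹ * x) := by group
  rw [this]
  exact Q.mul_mem q.2 h4

theorem ne_bot_of_not_pRankLE_zero {X : Type*} [Group X] {p : ℕ} (T : Subgroup X)
    (h : ¬ PRankLE p 0 T) : T ≠ ⊥ := by
  intro hT
  apply h
  intro A _ _
  have : Subsingleton T := by
    rw [hT]; infer_instance
  have : Subsingleton A := inferInstance
  rw [pow_zero]
  exact (Nat.card_eq_one_iff_unique.mpr ⟨inferInstance, ⟨1⟩⟩).le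

/-- The key dichotomy behind Alperin's fusion theorem: if `Q < S` is fully normalized and centric
in a saturated system and `H` is a subgroup of `Aut(Q)` containing every element of `Aut_F(Q)` which
extends to a strictly larger subgroup, then either `Aut_F(Q) ≤ H` or the image of `H` in `Out_F(Q)`
is strongly `p`-embedded. -/
theorem stronglyPEmbedded_of_extension_closed [Finite S] {p : ℕ} [Fact p.Prime] (hS : IsPGroup p S)
    (F : FusionSystem S) (hF : F.IsSaturated p) {Q : Subgroup Ω} (hQn : F.IsFullyNormalized Q)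
    (hQc : F.IsCentric Q) (hQS : Q ≠ S) (H : Subgroup (MulAut Q))
    (hH : ∀ α ∈ F.autGroup Q, (∃ (R : Subgroup Ω) (hQR : Q ≤ R) (ψ : R →* Ω),
        Nat.card Q < Nat.card R ∧ ψ ∈ F.Hom R ∧ ∀ x : Q, ψ ⟨x, hQR x.2⟩ = ((α x : Q) : Ω)) → α ∈ H)
    (hne : ¬ F.autGroup Q ≤ H) :
    ∃ _ : ((Inn Q).subgroupOf (F.autGroup Q)).Normal,
      IsStronglyPEmbedded p ((H.subgroupOf (F.autGroup Q)).map
        (QuotientGroup.mk' ((Inn Q).subgroupOf (F.autGroup Q)))) := by
  have hQle : Q ≤ S := hQn.1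
  haveI : Finite Q := finite_of_le hQle
  obtain ⟨hQfc, hQa⟩ := fullyNormalized_facts hS F hF hQn
  have hQr := receptive_of_fullyCentralized hS F hF hQfc
  have hCQ : centralizerIn S Q ≤ Q := hQc.2 Q (isConj_refl F hQle)
  have hI : ((Inn Q).subgroupOf (F.autGroup Q)).Normal :=
    Subgroup.Normal.subgroupOf inferInstance (F.autGroup Q)
  refine ⟨hI, ?_⟩
  have hAle := autInducedBy_le_autGroup F hQle
  have hInnA : Inn Q ≤ autInducedBy S Q := inn_le_autInducedBy hQle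
  have hQltS : Nat.card Q < Nat.card S := by
    have hlt : Q < S := lt_of_le_of_ne hQle hQS
    exact Set.Finite.card_lt_card (Set.toFinite _) hlt
  -- key fact
  have key : ∀ g ∈ F.autGroup Q, ∀ a ∈ autInducedBy S Q, a ∉ Inn Q →
      g * a * g⁻¹ ∈ autInducedBy S Q → g ∈ H := by
    intro g hg a ha haI hconj
    rw [mem_autInducedBy_iff] at ha hconj
    obtain ⟨x, hxS, hxN, hx⟩ := ha
    obtain ⟨h, hhS, hhN, hh⟩ := hconj
    have hxQ : x ∉ Q := by
      intro hxQ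
      apply haI
      refine ⟨⟨x, hxQ⟩, ?_⟩
      ext y
      rw [hx y]
      simp [MulAut.conj_apply]
    have hgIso : g ∈ Iso F Q Q := (mem_autGroup_iff F hQle g).mp hg
    obtain ⟨ψ, hψ, hψφ⟩ := hQr.2 Q _ hgIso (range_subtype_comp g)
    have hxE : x ∈ extender S Q (Q.subtype.comp g.toMonoidHom) := by
      refine mem_extender_of hxS hxN ⟨h, hhS, ?_⟩
      intro y hy
      have h1 := hh (g y)
      have h2 : (g * a * g⁻¹) (g y) = g ⟨x * (y : Ω) * x⁻¹, hy⟩ := by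
        simp only [MulAut.mul_apply, MulAut.inv_apply_self]
        congr 1
        exact Subtype.ext (hx y)
      rw [h2] at h1
      exact h1
    have hQE : Q ≤ extender S Q (Q.subtype.comp g.toMonoidHom) := le_extender F hgIso
    have hES : extender S Q (Q.subtype.comp g.toMonoidHom) ≤ S :=
      (extender_le_normalizerIn Q _).trans inf_le_left
    haveI : Finite ↥(extender S Q (Q.subtype.comp g.toMonoidHom)) := finite_of_le hES
    have hlt : Q < extender S Q (Q.subtype.comp g.toMonoidHom) :=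
      lt_of_le_of_ne hQE (fun h => hxQ (by rw [h]; exact hxE))
    exact hH g hg ⟨_, hQE, ψ, Set.Finite.card_lt_card (Set.toFinite _) hlt, hψ,
      fun y => hψφ y y.2 (hQE y.2)⟩
  -- inner automorphisms lie in H
  have hInnX : Inn Q ≤ F.autGroup Q := hInnA.trans hAle
  have hInnH : Inn Q ≤ H := by
    rintro _ ⟨q, rfl⟩
    apply hH _ (hInnX ⟨q, rfl⟩)
    refine ⟨S, hQle, conjHom S (q : Ω), hQltS, F.conj_mem le_rfl (hQle q.2), ?_⟩
    intro y
    simp [conjHom, MulAut.conj_apply]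
  -- the Sylow subgroup
  obtain ⟨-, R₀, hR₀⟩ := hQa
  let π := QuotientGroup.mk' ((Inn Q).subgroupOf (F.autGroup Q))
  have hπsurj : Function.Surjective π := QuotientGroup.mk'_surjective _
  let P₀ := R₀.mapSurjective hπsurj
  have hP₀ : P₀.toSubgroup = ((autInducedBy S Q).subgroupOf (F.autGroup Q)).map π := by
    rw [← hR₀]; rfl
  have hker : ∀ a : F.autGroup Q, π a = 1 ↔ (a : MulAut Q) ∈ Inn Q := by
    intro a
    rw [show π a = 1 ↔ a ∈ (Inn Q).subgroupOf (F.autGroup Q) from QuotientGroup.eq_one_iff a]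
    rfl
  refine ⟨?_, ?_, P₀, ?_⟩
  · -- p divides the order of Out_F(Q)
    obtain ⟨x, hxN, hxQ⟩ := exists_mem_normalizerIn_not_mem hS hQle hQS
    have hcx : Q.normalizerMonoidHom ⟨x, hxN.2⟩ ∈ autInducedBy S Q := by
      rw [mem_autInducedBy_iff]
      exact ⟨x, hxN.1, hxN.2, fun y => rfl⟩
    have hmem : π ⟨_, hAle hcx⟩ ∈ P₀.toSubgroup := by
      rw [hP₀]
      exact ⟨⟨_, hAle hcx⟩, hcx, rfl⟩
    have hne1 : π ⟨_, hAle hcx⟩ ≠ 1 := by
      intro h1
      rw [hker] at h1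
      exact hxQ (mem_of_conj_mem_inn hQle hCQ hxN.1 (fun y => rfl) h1)
    have hcard : Nat.card P₀.toSubgroup ≠ 1 := by
      intro hc
      have hsub : Subsingleton P₀.toSubgroup := (Nat.card_eq_one_iff_unique.mp hc).1
      have : (⟨_, hmem⟩ : P₀.toSubgroup) = 1 := Subsingleton.elim _ _
      exact hne1 (congrArg Subtype.val this)
    have hdvd : p ∣ Nat.card P₀.toSubgroup := (P₀.2.card_eq_or_dvd).resolve_left hcard
    exact hdvd.trans (Subgroup.card_subgroup_dvd_card _)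
  · -- H' ≠ ⊤
    intro htop
    apply hne
    intro α hα
    have h1 : π ⟨α, hα⟩ ∈ (H.subgroupOf (F.autGroup Q)).map π := by rw [htop]; trivial
    obtain ⟨β, hβ, hβα⟩ := h1
    have h2 : β⁻¹ * ⟨α, hα⟩ ∈ (Inn Q).subgroupOf (F.autGroup Q) := QuotientGroup.eq.mp hβα
    have h3 : ((β⁻¹ * ⟨α, hα⟩ : F.autGroup Q) : MulAut Q) ∈ H := hInnH h2
    have h4 : (β : MulAut Q) ∈ H := hβ
    have h5 : α = (β : MulAut Q) * ((β⁻¹ * ⟨α, hα⟩ : F.autGroup Q) : MulAut Q) := by
      simp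
    rw [h5]
    exact H.mul_mem h4 h3
  · -- the 1-generated core lies in H'
    rw [kGeneratedCore]
    apply iSup_le
    rintro ⟨T, hTP, hTrank⟩
    have hTne : T ≠ ⊥ := ne_bot_of_not_pRankLE_zero T hTrank
    obtain ⟨⟨t, htT⟩, ht1⟩ := (Subgroup.ne_bot_iff_exists_ne_one.mp hTne)
    have ht1' : t ≠ 1 := fun h => ht1 (Subtype.ext h)
    intro gbar hgbar
    obtain ⟨g, rfl⟩ := hπsurj gbar
    -- t comes from Aut_S(Q)
    have htP : t ∈ P₀.toSubgroup := hTP htT
    rw [hP₀] at htP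
    obtain ⟨a, haA, rfl⟩ := htP
    have haI : (a : MulAut Q) ∉ Inn Q := fun h => ht1' ((hker a).mpr h)
    -- the conjugate lies in T ≤ P₀
    have hconjT : π g * π a * (π g)⁻¹ ∈ T := (Subgroup.mem_normalizer_iff.mp hgbar _).mp htT
    have hconjP : π g * π a * (π g)⁻¹ ∈ P₀.toSubgroup := hTP hconjT
    rw [hP₀] at hconjP
    obtain ⟨a', ha'A, ha'⟩ := hconjP
    have h1 : π a' = π (g * a * g⁻¹) := by
      rw [ha', map_mul, map_mul, map_inv]
    have h2 : a'⁻¹ * (g * a * g⁻¹) ∈ (Inn Q).subgroupOf (F.autGroup Q) := QuotientGroup.eq.mp h1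
    have h3 : ((a'⁻¹ * (g * a * g⁻¹) : F.autGroup Q) : MulAut Q) ∈ autInducedBy S Q := hInnA h2
    have h4 : (a' : MulAut Q) ∈ autInducedBy S Q := ha'A
    have h5 : (g : MulAut Q) * (a : MulAut Q) * (g : MulAut Q)⁻¹ ∈ autInducedBy S Q := by
      have : (g : MulAut Q) * (a : MulAut Q) * (g : MulAut Q)⁻¹ =
          (a' : MulAut Q) * ((a'⁻¹ * (g * a * g⁻¹) : F.autGroup Q) : MulAut Q) := by
        simp
      rw [this]
      exact Subgroup.mul_mem _ h4 h3
    have hgH : (g : MulAut Q) ∈ H := key g g.2 a haA haI h5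
    exact ⟨g, hgH, rfl⟩

/-- Inductive step of Alperin's theorem for automorphism groups of fully normalized subgroups. -/
theorem aut_le_of_ih [Finite S] {p : ℕ} [Fact p.Prime] (hS : IsPGroup p S)
    (F E : FusionSystem S) (hF : F.IsSaturated p)
    (hE : ∀ P : Subgroup Ω, (P = S ∨ F.IsEssential p P) → F.autGroup P ≤ E.autGroup P)
    {Q : Subgroup Ω} (hQn : F.IsFullyNormalized Q)
    (IH : ∀ R : Subgroup Ω, R ≤ S → Nat.card Q < Nat.card R → F.Hom R ⊆ E.Hom R) :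
    F.autGroup Q ≤ E.autGroup Q := by
  have hQle : Q ≤ S := hQn.1
  by_cases hQS : Q = S
  · exact hE Q (Or.inl hQS)
  by_cases hcen : F.IsCentric Q
  · by_contra hne
    obtain ⟨hI, hemb⟩ := stronglyPEmbedded_of_extension_closed hS F hF hQn hcen hQS (E.autGroup Q)
      (by
        rintro α hα ⟨R, hQR, ψ, hcard, hψ, hext⟩
        exact aut_mem_of_extends E hQR (IH R (F.le_of_mem hψ).1 hcard hψ) hext) hne
    exact hne (hE Q (Or.inr ⟨hcen, hQn, hI, _, hemb⟩))
  · obtain ⟨hQfc, -⟩ := fullyNormalized_facts hS F hF hQn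
    have hQr := receptive_of_fullyCentralized hS F hF hQfc
    have hnotle : ¬ centralizerIn S Q ≤ Q := fun h => hcen (centric_of_fullyCentralized hS F hF hQfc h)
    obtain ⟨c, hcC, hcQ⟩ := SetLike.not_le_iff_exists.mp hnotle
    intro α hα
    have hαIso : α ∈ Iso F Q Q := (mem_autGroup_iff F hQle α).mp hα
    obtain ⟨ψ, hψ, hψφ⟩ := hQr.2 Q _ hαIso (range_subtype_comp α)
    have hQE : Q ≤ extender S Q (Q.subtype.comp α.toMonoidHom) := le_extender F hαIso
    have hcE : c ∈ extender S Q (Q.subtype.comp α.toMonoidHom) := centralizerIn_le_extender Q _ hcC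
    have hES : extender S Q (Q.subtype.comp α.toMonoidHom) ≤ S :=
      (extender_le_normalizerIn Q _).trans inf_le_left
    haveI : Finite ↥(extender S Q (Q.subtype.comp α.toMonoidHom)) := finite_of_le hES
    have hlt : Q < extender S Q (Q.subtype.comp α.toMonoidHom) :=
      lt_of_le_of_ne hQE (fun h => hcQ (by rw [h]; exact hcE))
    have hψE := IH _ hES (Set.Finite.card_lt_card (Set.toFinite _) hlt) hψ
    exact aut_mem_of_extends E hQE hψE (fun y => hψφ y y.2 (hQE y.2))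

/-- **Alperin's fusion theorem** for saturated fusion systems. -/
theorem alperin [Finite S] {p : ℕ} [Fact p.Prime] (hS : IsPGroup p S)
    (F : FusionSystem S) (hF : F.IsSaturated p) (E : FusionSystem S)
    (hE : ∀ P : Subgroup Ω, (P = S ∨ F.IsEssential p P) → F.autGroup P ≤ E.autGroup P) :
    F ≤ E := by
  intro P
  by_cases hPS : P ≤ S
  swap
  · intro φ hφ
    exact absurd (F.le_of_mem hφ).1 hPS
  induction' hk : Nat.card S - Nat.card P using Nat.strong_induction_on with k ih generalizing P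
  have IH : ∀ R : Subgroup Ω, R ≤ S → Nat.card P < Nat.card R → F.Hom R ⊆ E.Hom R := by
    intro R hRS hcard
    have hRle : Nat.card R ≤ Nat.card S := Subgroup.card_le_of_le hRS
    exact ih (Nat.card S - Nat.card R) (by omega) R hRS rfl
  intro φ hφ
  by_cases hPeq : P = S
  · subst hPeq
    obtain ⟨e, he, heφ⟩ := iso_of_hom F hφ (range_eq_of_hom_top F hφ)
    have heE := iso_self_of_autGroup_le F E le_rfl (hE P (Or.inl rfl)) he
    exact hom_of_iso_eq E heE φ (fun x => (heφ x).symm)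
  · obtain ⟨e₀, he₀, he₀φ⟩ := iso_of_hom F hφ rfl
    have hP'S : φ.range ≤ S := (iso_le F he₀).2
    have hcardP' : Nat.card P = Nat.card φ.range := Nat.card_congr e₀.toEquiv
    have hP'ne : φ.range ≠ S := by
      intro h
      apply hPeq
      haveI : Finite P := finite_of_le hPS
      apply Subgroup.eq_of_le_of_card_ge hPS
      rw [hcardP', h]
    obtain ⟨Q, hPQ, hQn⟩ := exists_fullyNormalized F hPS
    obtain ⟨-, hQa⟩ := fullyNormalized_facts hS F hF hQn
    have hQr := receptive_of_fullyNormalized hS F hF hQn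
    have hP'Q : F.IsConj φ.range Q :=
      isConj_trans F (isConj_symm F ((isConj_iff_iso F).mpr ⟨e₀, he₀⟩)) hPQ
    obtain ⟨ψ₁, hψ₁, -, hψ₁img⟩ := exists_normalizer_map hS F hQa hQr hPQ
    obtain ⟨ψ₂, hψ₂, -, hψ₂img⟩ := exists_normalizer_map hS F hQa hQr hP'Q
    have hψ₁E : ψ₁ ∈ E.Hom (normalizerIn S P) :=
      IH _ inf_le_left (card_lt_card_normalizerIn hS hPS hPeq) hψ₁
    have hψ₂E : ψ₂ ∈ E.Hom (normalizerIn S φ.range) :=
      IH _ inf_le_left (by rw [hcardP']; exact card_lt_card_normalizerIn hS hP'S hP'ne) hψ₂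
    have he₁F := restrictEquiv_mem F hψ₁ (le_normalizerIn hPS) hψ₁img
    have he₁E := restrictEquiv_mem E hψ₁E (le_normalizerIn hPS) hψ₁img
    have he₂F := restrictEquiv_mem F hψ₂ (le_normalizerIn hP'S) hψ₂img
    have he₂E := restrictEquiv_mem E hψ₂E (le_normalizerIn hP'S) hψ₂img
    set e₁ := restrictEquiv ψ₁ (F.injective_of_mem hψ₁) (le_normalizerIn hPS) hψ₁img with he₁
    set e₂ := restrictEquiv ψ₂ (F.injective_of_mem hψ₂) (le_normalizerIn hP'S) hψ₂img with he₂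
    have hαF : e₁.symm.trans (e₀.trans e₂) ∈ Iso F Q Q :=
      iso_trans F (iso_symm F he₁F) (iso_trans F he₀ he₂F)
    have hcardQ : Nat.card P = Nat.card Q := Nat.card_congr e₁.toEquiv
    have hAut : F.autGroup Q ≤ E.autGroup Q :=
      aut_le_of_ih hS F E hF hE hQn (fun R hRS hcard => IH R hRS (by rw [hcardQ]; exact hcard))
    have hαE := iso_self_of_autGroup_le F E hQn.1 hAut hαF
    have he₀E : e₁.trans ((e₁.symm.trans (e₀.trans e₂)).trans e₂.symm) ∈ Iso E P φ.range :=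
      iso_trans E he₁E (iso_trans E hαE (iso_symm E he₂E))
    have heq : e₁.trans ((e₁.symm.trans (e₀.trans e₂)).trans e₂.symm) = e₀ := by
      ext x
      simp
    rw [heq] at he₀E
    exact hom_of_iso_eq E he₀E φ (fun x => (he₀φ x).symm)

/-! ### Tools for applying Alperin's theorem -/

theorem fusionSystem_ext {F E : FusionSystem S} (h : ∀ P, F.Hom P = E.Hom P) : F = E := by
  cases F; cases E
  simp only [FusionSystem.mk.injEq]
  funext P
  exact h P

/-- The subsystem of `F` cut out by a property of maps which holds for conjugations by elements of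
`S` and is closed under composition and inverses. -/
def subsystemOfProp (F : FusionSystem S) (Pr : ∀ P : Subgroup Ω, (P →* Ω) → Prop)
    (hconj : ∀ {P : Subgroup Ω} {g : Ω}, P ≤ S → g ∈ S → Pr P (conjHom P g))
    (hcomp : ∀ {P Q : Subgroup Ω} {φ : P →* Ω} {ψ : Q →* Ω}, φ ∈ F.Hom P → ψ ∈ F.Hom Q → Pr P φ →
      Pr Q ψ → ∀ h : ∀ x : P, φ x ∈ Q, Pr P (ψ.comp (φ.codRestrict Q h)))
    (hinv : ∀ {P : Subgroup Ω} {φ : P →* Ω}, φ ∈ F.Hom P → Pr P φ → ∀ ψ ∈ F.Hom φ.range,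
      (∀ x : P, ψ ⟨φ x, ⟨x, rfl⟩⟩ = (x : Ω)) → Pr φ.range ψ) : FusionSystem S where
  Hom P := {φ | φ ∈ F.Hom P ∧ Pr P φ}
  le_of_mem h := F.le_of_mem h.1
  injective_of_mem h := F.injective_of_mem h.1
  conj_mem hP hg := ⟨F.conj_mem hP hg, hconj hP hg⟩
  comp_mem hφ hψ h := ⟨F.comp_mem hφ.1 hψ.1 h, hcomp hφ.1 hψ.1 hφ.2 hψ.2 h⟩
  inv_mem hφ := by
    obtain ⟨ψ, hψ, hψφ⟩ := F.inv_mem hφ.1
    exact ⟨ψ, ⟨hψ, hinv hφ.1 hφ.2 ψ hψ hψφ⟩, hψφ⟩

/-- **Alperin induction**: a property of maps which holds for conjugations by elements of `S`, is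
closed under composition and inverses, and holds for the automorphisms of `S` and of the essential
subgroups, holds for all maps of a saturated system. -/
theorem alperin_induction [Finite S] {p : ℕ} [Fact p.Prime] (hS : IsPGroup p S)
    (F : FusionSystem S) (hF : F.IsSaturated p) (Pr : ∀ P : Subgroup Ω, (P →* Ω) → Prop)
    (hconj : ∀ {P : Subgroup Ω} {g : Ω}, P ≤ S → g ∈ S → Pr P (conjHom P g))
    (hcomp : ∀ {P Q : Subgroup Ω} {φ : P →* Ω} {ψ : Q →* Ω}, φ ∈ F.Hom P → ψ ∈ F.Hom Q → Pr P φ →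
      Pr Q ψ → ∀ h : ∀ x : P, φ x ∈ Q, Pr P (ψ.comp (φ.codRestrict Q h)))
    (hinv : ∀ {P : Subgroup Ω} {φ : P →* Ω}, φ ∈ F.Hom P → Pr P φ → ∀ ψ ∈ F.Hom φ.range,
      (∀ x : P, ψ ⟨φ x, ⟨x, rfl⟩⟩ = (x : Ω)) → Pr φ.range ψ)
    (haut : ∀ P : Subgroup Ω, (P = S ∨ F.IsEssential p P) → ∀ α : MulAut P, α ∈ F.autGroup P →
      Pr P (P.subtype.comp α.toMonoidHom)) :
    ∀ (P : Subgroup Ω) (φ : P →* Ω), φ ∈ F.Hom P → Pr P φ := by
  have h := alperin hS F hF (subsystemOfProp F Pr hconj hcomp hinv) (by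
    intro P hP α hα
    have hPS : P ≤ S := by
      rcases hP with rfl | hP
      · exact le_rfl
      · exact hP.1.1
    rw [mem_autGroup_iff _ hPS]
    exact ⟨(mem_autGroup_iff F hPS α).mp hα, haut P hP α hα⟩)
  intro P φ hφ
  exact (h P hφ).2

/-- A group which is a `p`-group has no strongly `p`-embedded subgroup. -/
theorem not_stronglyPEmbedded_of_isPGroup {X : Type*} [Group X] [Finite X] {p : ℕ} [Fact p.Prime]
    (hX : IsPGroup p X) (Y : Subgroup X) : ¬ IsStronglyPEmbedded p Y := by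
  rintro ⟨hdvd, hYtop, P₀, hcore⟩
  apply hYtop
  have hP₀top : (P₀ : Subgroup X) = ⊤ := by
    have h1 : IsPGroup p (⊤ : Subgroup X) := hX.of_equiv Subgroup.topEquiv.symm
    exact (P₀.is_maximal' h1 le_top).symm
  obtain ⟨g, hg⟩ := exists_prime_orderOf_dvd_card' p hdvd
  have hrank : ¬ PRankLE p 0 (P₀ : Subgroup X) := by
    intro hr
    have hgP : g ∈ (P₀ : Subgroup X) := by rw [hP₀top]; trivial
    let A : Subgroup (P₀ : Subgroup X) := Subgroup.zpowers ⟨g, hgP⟩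
    have hA := hr A inferInstance (by
      intro a ha
      obtain ⟨k, rfl⟩ := Subgroup.mem_zpowers_iff.mp ha
      rw [← zpow_natCast, ← zpow_mul, mul_comm, zpow_mul, zpow_natCast]
      have : (⟨g, hgP⟩ : (P₀ : Subgroup X)) ^ p = 1 := by
        apply Subtype.ext
        show g ^ p = 1
        rw [← hg]; exact pow_orderOf_eq_one g
      rw [this, one_zpow])
    rw [pow_zero] at hA
    have hcard : Nat.card A = p := by
      rw [Nat.card_zpowers]
      have : orderOf (⟨g, hgP⟩ : (P₀ : Subgroup X)) = orderOf g := Subgroup.orderOf_mk g hgP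
      rw [this, hg]
    rw [hcard] at hA
    exact absurd hA (by have := (Fact.out : p.Prime).one_lt; omega)
  have hrank' : ¬ PRankLE p (1 - 1) (P₀ : Subgroup X) := hrank
  have hle : Subgroup.normalizer ((P₀ : Subgroup X) : Set X) ≤ kGeneratedCore p 1 (P₀ : Subgroup X) := by
    rw [kGeneratedCore]
    exact le_iSup (fun Q : {Q : Subgroup X // Q ≤ (P₀ : Subgroup X) ∧ ¬ PRankLE p (1 - 1) Q} =>
      Subgroup.normalizer ((Q : Subgroup X) : Set X)) ⟨(P₀ : Subgroup X), le_rfl, hrank'⟩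
  rw [eq_top_iff]
  refine le_trans ?_ (hle.trans hcore)
  rw [hP₀top]
  intro x _
  exact Subgroup.le_normalizer (Subgroup.mem_top x)

/-! ### Extending maps over a subgroup `Q` on which all key automorphisms act through `K` -/

/-- If `Q` is contained in `S` and in every essential subgroup, and the automorphisms of `S` and of
the essential subgroups act on `Q` through elements of `K ≤ Aut(Q)`, then every map of the system
extends to `P ⊔ Q` acting on `Q` through an element of `K`. -/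
theorem exists_extension_of_aut [Finite S] {p : ℕ} [Fact p.Prime] (hS : IsPGroup p S)
    (F : FusionSystem S) (hF : F.IsSaturated p) {Q : Subgroup Ω} (K : Subgroup (MulAut Q))
    (h : ∀ P : Subgroup Ω, (P = S ∨ F.IsEssential p P) → ∃ hQP : Q ≤ P, ∀ α ∈ F.autGroup P,
      ∃ κ ∈ K, ∀ x : Q, ((α ⟨x, hQP x.2⟩ : P) : Ω) = ((κ x : Q) : Ω)) :
    ∀ (P : Subgroup Ω) (φ : P →* Ω), φ ∈ F.Hom P →
      ∃ ψ ∈ F.Hom (P ⊔ Q), (∀ x : P, ψ (Subgroup.inclusion le_sup_left x) = φ x) ∧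
        ∃ κ ∈ K, ∀ x : Q, ψ (Subgroup.inclusion le_sup_right x) = ((κ x : Q) : Ω) := by
  obtain ⟨hQS, hautS⟩ := h S (Or.inl rfl)
  apply alperin_induction hS F hF
    (fun P φ => ∃ ψ ∈ F.Hom (P ⊔ Q), (∀ x : P, ψ (Subgroup.inclusion le_sup_left x) = φ x) ∧
        ∃ κ ∈ K, ∀ x : Q, ψ (Subgroup.inclusion le_sup_right x) = ((κ x : Q) : Ω))
  · -- conjugations
    intro P g hP hg
    have hgN : g ∈ Subgroup.normalizer (S : Set Ω) := Subgroup.le_normalizer hg
    obtain ⟨κ, hκ, hκg⟩ := hautS _ (conjAut_mem F le_rfl hg hgN)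
    refine ⟨conjHom (P ⊔ Q) g, F.conj_mem (sup_le hP hQS) hg, fun x => rfl, κ, hκ, ?_⟩
    intro x
    rw [← hκg x]
    rfl
  · -- composition
    rintro P R φ ψ hφ hψ ⟨φ', hφ', hφ'P, κ₁, hκ₁, hφ'Q⟩ ⟨ψ', hψ', hψ'R, κ₂, hκ₂, hψ'Q⟩ hv
    have hvals : ∀ x : ↥(P ⊔ Q), φ' x ∈ R ⊔ Q := by
      apply sup_vals
      · intro x hx
        have := hφ'P ⟨x, hx⟩
        have h2 : φ' ⟨x, (le_sup_left : P ≤ P ⊔ Q) hx⟩ = φ ⟨x, hx⟩ := this
        rw [h2]; exact hv _
      · intro x hx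
        have := hφ'Q ⟨x, hx⟩
        have h2 : φ' ⟨x, (le_sup_right : Q ≤ P ⊔ Q) hx⟩ = ((κ₁ ⟨x, hx⟩ : Q) : Ω) := this
        rw [h2]; exact (κ₁ ⟨x, hx⟩).2
    refine ⟨ψ'.comp (φ'.codRestrict (R ⊔ Q) hvals), F.comp_mem hφ' hψ' hvals, ?_, κ₂ * κ₁,
      K.mul_mem hκ₂ hκ₁, ?_⟩
    · intro x
      show ψ' ⟨φ' (Subgroup.inclusion le_sup_left x), _⟩ = ψ ⟨φ x, hv x⟩
      rw [← hψ'R ⟨φ x, hv x⟩]
      congr 1
      exact Subtype.ext (hφ'P x)
    · intro x
      show ψ' ⟨φ' (Subgroup.inclusion le_sup_right x), _⟩ = ((κ₂ (κ₁ x) : Q) : Ω)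
      rw [← hψ'Q (κ₁ x)]
      congr 1
      exact Subtype.ext (hφ'Q x)
  · -- inverses
    rintro P φ hφ ⟨φ', hφ', hφ'P, κ, hκ, hφ'Q⟩ ψ hψ hψφ
    obtain ⟨χ, hχ, hχφ'⟩ := F.inv_mem hφ'
    have hle : φ.range ⊔ Q ≤ φ'.range := by
      apply sup_le
      · rintro _ ⟨x, rfl⟩
        exact ⟨Subgroup.inclusion le_sup_left x, hφ'P x⟩
      · intro q hq
        refine ⟨Subgroup.inclusion le_sup_right (κ⁻¹ ⟨q, hq⟩), ?_⟩
        rw [hφ'Q]
        simp
    refine ⟨χ.comp (Subgroup.inclusion hle), restrict_mem F hle hχ, ?_, κ⁻¹, K.inv_mem hκ, ?_⟩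
    · rintro ⟨_, x, rfl⟩
      rw [hψφ x]
      have h1 := hχφ' (Subgroup.inclusion le_sup_left x)
      have h2 : ((Subgroup.inclusion (le_sup_left : P ≤ P ⊔ Q) x : ↥(P ⊔ Q)) : Ω) = (x : Ω) := rfl
      rw [← h2, ← h1]
      show χ ⟨φ x, _⟩ = χ ⟨φ' (Subgroup.inclusion le_sup_left x), _⟩
      congr 1
      exact Subtype.ext (hφ'P x).symm
    · intro q
      have h1 := hχφ' (Subgroup.inclusion le_sup_right (κ⁻¹ q))
      have h2 : ((Subgroup.inclusion (le_sup_right : Q ≤ P ⊔ Q) (κ⁻¹ q) : ↥(P ⊔ Q)) : Ω) =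
          ((κ⁻¹ q : Q) : Ω) := rfl
      rw [← h2, ← h1]
      show χ ⟨(q : Ω), _⟩ = χ ⟨φ' (Subgroup.inclusion le_sup_right (κ⁻¹ q)), _⟩
      congr 1
      apply Subtype.ext
      show (q : Ω) = φ' (Subgroup.inclusion le_sup_right (κ⁻¹ q))
      rw [hφ'Q]
      simp
  · -- automorphisms of S and of essential subgroups
    intro P hP α hα
    obtain ⟨hQP, hαK⟩ := h P hP
    obtain ⟨κ, hκ, hκα⟩ := hαK α hα
    have hPS : P ≤ S := by
      rcases hP with rfl | hP
      · exact le_rfl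
      · exact hP.1.1
    have hle : P ⊔ Q ≤ P := sup_le le_rfl hQP
    have hαIso : α ∈ Iso F P P := (mem_autGroup_iff F hPS α).mp hα
    refine ⟨(P.subtype.comp α.toMonoidHom).comp (Subgroup.inclusion hle), restrict_mem F hle hαIso,
      fun x => rfl, κ, hκ, ?_⟩
    intro x
    rw [← hκα x]
    rfl

/-- Criterion for a subgroup to be normal in a saturated fusion system. -/
theorem isNormal_of_aut [Finite S] {p : ℕ} [Fact p.Prime] (hS : IsPGroup p S)
    (F : FusionSystem S) (hF : F.IsSaturated p) {Q : Subgroup Ω}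
    (h : ∀ P : Subgroup Ω, (P = S ∨ F.IsEssential p P) → ∃ hQP : Q ≤ P, ∀ α ∈ F.autGroup P,
      ∀ x : Q, ((α ⟨x, hQP x.2⟩ : P) : Ω) ∈ Q) : F.IsNormal Q := by
  obtain ⟨hQS, -⟩ := h S (Or.inl rfl)
  haveI : Finite Q := finite_of_le hQS
  refine ⟨hQS, ?_⟩
  intro P φ hφ
  obtain ⟨ψ, hψ, hψP, κ, -, hψQ⟩ := exists_extension_of_aut hS F hF (⊤ : Subgroup (MulAut Q)) (by
    intro P hP
    obtain ⟨hQP, hα⟩ := h P hP
    refine ⟨hQP, ?_⟩
    intro α hαF
    have hinj : Function.Injective (fun x : Q => (⟨(α ⟨x, hQP x.2⟩ : P), hα α hαF x⟩ : Q)) := by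
      intro x y hxy
      have h1 : ((α ⟨x, hQP x.2⟩ : P) : Ω) = ((α ⟨y, hQP y.2⟩ : P) : Ω) :=
        congrArg (fun z : Q => (z : Ω)) hxy
      have h2 := α.injective (Subtype.ext h1)
      exact Subtype.ext (congrArg (fun z : P => (z : Ω)) h2)
    have hbij : Function.Bijective (fun x : Q => (⟨(α ⟨x, hQP x.2⟩ : P), hα α hαF x⟩ : Q)) :=
      Finite.injective_iff_bijective.mp hinj
    let f : Q →* Q :=
      { toFun := fun x => ⟨(α ⟨x, hQP x.2⟩ : P), hα α hαF x⟩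
        map_one' := by
          apply Subtype.ext
          show ((α ⟨1, _⟩ : P) : Ω) = 1
          have : (⟨1, hQP (1 : Q).2⟩ : P) = 1 := rfl
          rw [this, map_one]; rfl
        map_mul' := by
          intro x y
          apply Subtype.ext
          show ((α ⟨(x : Ω) * y, _⟩ : P) : Ω) = ((α ⟨x, _⟩ : P) : Ω) * ((α ⟨y, _⟩ : P) : Ω)
          have : (⟨(x : Ω) * y, hQP (x * y).2⟩ : P) = ⟨x, hQP x.2⟩ * ⟨y, hQP y.2⟩ := rfl
          rw [this, map_mul]; rfl }
    exact ⟨MulEquiv.ofBijective f hbij, Subgroup.mem_top _, fun x => rfl⟩) P φ hφ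
  refine ⟨ψ, hψ, hψP, ?_⟩
  ext y
  constructor
  · rintro ⟨x, hx, rfl⟩
    have hxQ : (x : Ω) ∈ Q := by simpa [Subgroup.mem_subgroupOf] using hx
    have := hψQ ⟨x, hxQ⟩
    have h2 : ψ x = ((κ ⟨x, hxQ⟩ : Q) : Ω) := this
    rw [h2]; exact (κ ⟨x, hxQ⟩).2
  · intro hy
    refine ⟨Subgroup.inclusion le_sup_right (κ⁻¹ ⟨y, hy⟩), ?_, ?_⟩
    · simp [Subgroup.mem_subgroupOf]
    · rw [hψQ]; simp

/-- Criterion for a subgroup to be central in a saturated fusion system. -/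
theorem isCentral_of_aut [Finite S] {p : ℕ} [Fact p.Prime] (hS : IsPGroup p S)
    (F : FusionSystem S) (hF : F.IsSaturated p) {Q : Subgroup Ω}
    (h : ∀ P : Subgroup Ω, (P = S ∨ F.IsEssential p P) → ∃ hQP : Q ≤ P, ∀ α ∈ F.autGroup P,
      ∀ x : Q, ((α ⟨x, hQP x.2⟩ : P) : Ω) = x) : F.IsCentral Q := by
  obtain ⟨hQS, -⟩ := h S (Or.inl rfl)
  refine ⟨hQS, ?_⟩
  intro P φ hφ
  obtain ⟨ψ, hψ, hψP, κ, hκ, hψQ⟩ := exists_extension_of_aut hS F hF (⊥ : Subgroup (MulAut Q)) (by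
    intro P hP
    obtain ⟨hQP, hα⟩ := h P hP
    exact ⟨hQP, fun α hαF => ⟨1, Subgroup.one_mem _, fun x => hα α hαF x⟩⟩) P φ hφ
  refine ⟨ψ, hψ, hψP, ?_⟩
  intro x
  rw [hψQ x, Subgroup.mem_bot.mp hκ]
  rfl

/-! ### Normal subgroups lie in centric radical subgroups -/

theorem autInducedBy_mono {K K' : Subgroup Ω} (h : K ≤ K') (P : Subgroup Ω) :
    autInducedBy K P ≤ autInducedBy K' P := by
  apply Subgroup.closure_mono
  rintro α ⟨g, hg, hα⟩
  exact ⟨g, h hg, hα⟩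

/-- A subgroup normal in the system is strongly closed. -/
theorem stronglyClosed_of_isNormal (F : FusionSystem S) {Q : Subgroup Ω} (hQ : F.IsNormal Q) :
    F.StronglyClosed Q := by
  refine ⟨hQ.1, ?_⟩
  intro R hRQ φ hφ x
  obtain ⟨ψ, hψ, hψR, hψQ⟩ := hQ.2 R φ hφ
  rw [← hψR x]
  have h1 : ψ (Subgroup.inclusion le_sup_left x) ∈ (Q.subgroupOf (R ⊔ Q)).map ψ :=
    ⟨Subgroup.inclusion le_sup_left x, by
      simpa [Subgroup.mem_subgroupOf] using hRQ x.2, rfl⟩
  rw [hψQ] at h1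
  exact h1

/-- A subgroup normal in the system is contained in every centric radical subgroup. -/
theorem normal_le_of_centric_radical [Finite S] {p : ℕ} [Fact p.Prime] (hS : IsPGroup p S)
    (F : FusionSystem S) {Q P : Subgroup Ω} (hQ : F.IsNormal Q) (hPc : F.IsCentric P)
    (hPr : F.IsRadical p P) : Q ≤ P := by
  have hPS : P ≤ S := hPc.1
  have hQS : Q ≤ S := hQ.1
  have hCP : centralizerIn S P ≤ P := hPc.2 P (isConj_refl F hPS)
  have hPQS : P ⊔ Q ≤ S := sup_le hPS hQS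
  haveI : Finite P := finite_of_le hPS
  haveI : Finite ↥(P ⊔ Q) := finite_of_le hPQS
  by_contra hQP
  have hne : P ≠ P ⊔ Q := fun h => hQP (by rw [h]; exact le_sup_right)
  obtain ⟨n, hnN, hnP⟩ := exists_mem_normalizerIn_not_mem (hS.to_le hPQS) le_sup_left hne
  apply hnP
  have hnS : n ∈ S := hPQS hnN.1
  -- the subgroup A = Aut_N(P)
  let N := normalizerIn (P ⊔ Q) P
  have hNS : N ≤ S := inf_le_left.trans hPQS
  let A := autInducedBy N P
  have hAS : A ≤ autInducedBy S P := autInducedBy_mono hNS P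
  have hAX : A ≤ F.autGroup P := hAS.trans (autInducedBy_le_autGroup F hPS)
  have hAp : IsPGroup p A := (autInducedBy_isPGroup hS P).to_le hAS
  have hAnormal : (A.subgroupOf (F.autGroup P)).Normal := by
    constructor
    intro a ha g
    rw [Subgroup.mem_subgroupOf] at ha ⊢
    rw [mem_autInducedBy_iff] at ha
    obtain ⟨m, hmN, hmNP, hm⟩ := ha
    have hgIso : (g : MulAut P) ∈ Iso F P P := (mem_autGroup_iff F hPS g).mp g.2
    obtain ⟨ψ, hψ, hψP, hψQ⟩ := hQ.2 P _ hgIso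
    have hψP' : ∀ x (hx : x ∈ P), ψ ⟨x, (le_sup_left : P ≤ P ⊔ Q) hx⟩ =
        (((g : MulAut P) ⟨x, hx⟩ : P) : Ω) := fun x hx => hψP ⟨x, hx⟩
    have hvals : ∀ x : ↥(P ⊔ Q), ψ x ∈ P ⊔ Q := by
      apply sup_vals
      · intro x hx
        rw [hψP' x hx]; exact ((g : MulAut P) ⟨x, hx⟩).2
      · intro x hx
        have h1 : ψ ⟨x, (le_sup_right : Q ≤ P ⊔ Q) hx⟩ ∈ (Q.subgroupOf (P ⊔ Q)).map ψ :=
          ⟨⟨x, (le_sup_right : Q ≤ P ⊔ Q) hx⟩, by simpa [Subgroup.mem_subgroupOf] using hx, rfl⟩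
        rw [hψQ] at h1
        exact h1
    have hmPQ : m ∈ P ⊔ Q := hmN.1
    have hconj : ∀ y : P, (((g * a * g⁻¹ : F.autGroup P) : MulAut P) y : Ω) =
        ψ ⟨m, hmPQ⟩ * (y : Ω) * (ψ ⟨m, hmPQ⟩)⁻¹ := by
      intro y
      have h1 : (((g * a * g⁻¹ : F.autGroup P) : MulAut P) y) =
          (g : MulAut P) ((a : MulAut P) ((g : MulAut P)⁻¹ y)) := rfl
      rw [h1]
      set x := (g : MulAut P)⁻¹ y with hx
      have hy : y = (g : MulAut P) x := by rw [hx]; simp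
      have h2 : ((a : MulAut P) x : P) = ⟨m * (x : Ω) * m⁻¹, by rw [← hm x]; exact ((a : MulAut P) x).2⟩ :=
        Subtype.ext (hm x)
      rw [h2, ← hψP' _ _, hy, ← hψP' (x : Ω) x.2, ← map_inv, ← map_mul, ← map_mul]
      rfl
    rw [mem_autInducedBy_iff]
    refine ⟨ψ ⟨m, hmPQ⟩, ⟨hvals _, ?_⟩, ?_, hconj⟩
    · show ψ ⟨m, hmPQ⟩ ∈ Subgroup.normalizer (P : Set Ω)
      haveI : Finite ((P : Set Ω)) := ‹Finite P›
      apply Subgroup.mem_normalizer_fintype
      intro y hy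
      rw [← hconj ⟨y, hy⟩]
      exact (((g * a * g⁻¹ : F.autGroup P) : MulAut P) ⟨y, hy⟩).2
    · haveI : Finite ((P : Set Ω)) := ‹Finite P›
      apply Subgroup.mem_normalizer_fintype
      intro y hy
      rw [← hconj ⟨y, hy⟩]
      exact (((g * a * g⁻¹ : F.autGroup P) : MulAut P) ⟨y, hy⟩).2
  have hle : A.subgroupOf (F.autGroup P) ≤ pCore p (F.autGroup P) :=
    Cfsg.Agent.Lib.Helper4_PCore.le_pCore _ hAnormal hAp.comap_subtype
  have hcn : P.normalizerMonoidHom ⟨n, hnN.2⟩ ∈ A := by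
    rw [mem_autInducedBy_iff]
    exact ⟨n, hnN, hnN.2, fun x => rfl⟩
  have hInn : P.normalizerMonoidHom ⟨n, hnN.2⟩ ∈ Inn P := by
    rw [← hPr.2]
    exact ⟨⟨_, hAX hcn⟩, hle (by simpa [Subgroup.mem_subgroupOf] using hcn), rfl⟩
  exact mem_of_conj_mem_inn hPS hCP hnS (fun y => rfl) hInn

end Cfsg.Agent.Lib.Helper8_Alperin
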