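import Mathlib
import Cfsg.Prelude.Def_FusionSystem
import Cfsg.Agent.Lib.Helper8_Alperin

set_option autoImplicit false
set_option linter.style.haveILetI false
set_option linter.unusedVariables false
open Cfsg

namespace Cfsg.Agent.Lib.Helper8_Centric

open Cfsg.FusionSystem
open Cfsg.Agent.Lib.Helper8_Fusion
open Cfsg.Agent.Lib.Helper8_GroupFusion
open Cfsg.Agent.Lib.Helper8_Saturated
open Cfsg.Agent.Lib.Helper8_Alperin

variable {Ω : Type*} [Group Ω] {S : Subgroup Ω}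

/-- The image of a subgroup `Q ≤ N` under a map of the system defined on `N` is conjugate to `Q`. -/
theorem isConj_image (F : FusionSystem S) {N Q : Subgroup Ω} {ψ : N →* Ω} (hψ : ψ ∈ F.Hom N)
    (hQN : Q ≤ N) : F.IsConj Q ((Q.subgroupOf N).map ψ) := by
  refine ⟨ψ.comp (Subgroup.inclusion hQN), restrict_mem F hQN hψ, ?_⟩
  ext y
  constructor
  · rintro ⟨x, rfl⟩
    exact ⟨Subgroup.inclusion hQN x, by simp [Subgroup.mem_subgroupOf], rfl⟩
  · rintro ⟨x, hx, rfl⟩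
    have hxQ : (x : Ω) ∈ Q := by simpa [Subgroup.mem_subgroupOf] using hx
    exact ⟨⟨x, hxQ⟩, rfl⟩

/-- Centricity is invariant under conjugacy in the system. -/
theorem isCentric_of_isConj (F : FusionSystem S) {Q Q' : Subgroup Ω} (hQ : F.IsCentric Q)
    (h : F.IsConj Q Q') : F.IsCentric Q' :=
  ⟨(isConj_le F h).2, fun R hR => hQ.2 R (isConj_trans F h hR)⟩

/-- A subgroup of `S` containing a centric subgroup is centric. -/
theorem isCentric_of_le (F : FusionSystem S) {Q N : Subgroup Ω} (hQ : F.IsCentric Q)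
    (hQN : Q ≤ N) (hNS : N ≤ S) : F.IsCentric N := by
  refine ⟨hNS, ?_⟩
  rintro N' ⟨ψ, hψ, rfl⟩
  have hQ' := hQ.2 _ (isConj_image F hψ hQN)
  intro c hc
  have hle : (Q.subgroupOf N).map ψ ≤ ψ.range := by
    rintro _ ⟨x, -, rfl⟩
    exact ⟨x, rfl⟩
  apply hle
  apply hQ'
  refine ⟨hc.1, ?_⟩
  show c ∈ Subgroup.centralizer (((Q.subgroupOf N).map ψ : Subgroup Ω) : Set Ω)
  rw [Subgroup.mem_centralizer_iff]
  intro y hy
  exact (Subgroup.mem_centralizer_iff.mp hc.2) y (hle hy)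

/-- Key case: `Q ⊴ P` centric and `α` a map of the system on `P` fixing `Q` pointwise. Then `α` is
conjugation by an element of `Z(Q)`. -/
theorem conj_of_fix_normal_centric [Finite S] {p : ℕ} [Fact p.Prime] (hS : IsPGroup p S)
    (F : FusionSystem S) (hF : F.IsSaturated p) {P Q : Subgroup Ω} (hQP : Q ≤ P)
    (hQ : F.IsCentric Q) (hnorm : P ≤ Subgroup.normalizer (Q : Set Ω)) {α : P →* Ω}
    (hα : α ∈ F.Hom P) (hfix : ∀ x : P, (x : Ω) ∈ Q → α x = x) :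
    ∃ z : P, (z : Ω) ∈ Q ∧ (z : Ω) ∈ Subgroup.centralizer (Q : Set Ω) ∧
      ∀ y : P, α y = z * y * z⁻¹ := by
  have hPS : P ≤ S := (F.le_of_mem hα).1
  have hQS : Q ≤ S := hQ.1
  haveI : Finite P := finite_of_le hPS
  haveI : Finite Q := finite_of_le hQS
  have hCQ : centralizerIn S Q ≤ Q := hQ.2 Q (isConj_refl F hQS)
  -- step 1
  have hstep1 : ∀ x : P, (x : Ω)⁻¹ * α x ∈ Q := by
    intro x
    apply hCQ
    refine ⟨S.mul_mem (S.inv_mem (hPS x.2)) ((F.le_of_mem hα).2 x), ?_⟩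
    show _ ∈ Subgroup.centralizer (Q : Set Ω)
    rw [Subgroup.mem_centralizer_iff]
    intro q hq
    have hq' : (x : Ω) * q * (x : Ω)⁻¹ ∈ Q := (Subgroup.mem_normalizer_iff.mp (hnorm x.2) q).mp hq
    have h0 := hfix ⟨(x : Ω) * q * (x : Ω)⁻¹, hQP hq'⟩ hq'
    have h2 : (⟨(x : Ω) * q * (x : Ω)⁻¹, hQP hq'⟩ : P) = x * ⟨q, hQP hq⟩ * x⁻¹ := Subtype.ext rfl
    have h1 : α x * q * (α x)⁻¹ = (x : Ω) * q * (x : Ω)⁻¹ := by
      have h4 : α ⟨(x : Ω) * q * (x : Ω)⁻¹, hQP hq'⟩ = α x * α ⟨q, hQP hq⟩ * (α x)⁻¹ := by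
        rw [h2, map_mul, map_mul, map_inv]
      rw [hfix ⟨q, hQP hq⟩ hq] at h4
      rw [← h4]; exact h0
    have h3 : α x * q = (x : Ω) * q * (x : Ω)⁻¹ * α x := by
      have : α x * q = (α x * q * (α x)⁻¹) * α x := by group
      rw [this, h1]
    calc q * ((x : Ω)⁻¹ * α x) = (x : Ω)⁻¹ * ((x : Ω) * q * (x : Ω)⁻¹ * α x) := by group
      _ = (x : Ω)⁻¹ * (α x * q) := by rw [h3]
      _ = (x : Ω)⁻¹ * α x * q := by group
  have hαP : ∀ x : P, α x ∈ P := by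
    intro x
    have h1 := P.mul_mem x.2 (hQP (hstep1 x))
    rwa [mul_inv_cancel_left] at h1
  have hrange : α.range = P := by
    apply Subgroup.eq_of_le_of_card_ge
    · rintro _ ⟨x, rfl⟩
      exact hαP x
    · exact (Nat.card_congr (MonoidHom.ofInjective (F.injective_of_mem hα)).toEquiv).le
  obtain ⟨αe, hαe, hαeα⟩ := iso_of_hom F hα hrange
  -- powers of αe
  have hpow : ∀ (n : ℕ) (x : P), (((αe ^ n : MulAut P) x : P) : Ω) =
      (x : Ω) * ((x : Ω)⁻¹ * α x) ^ n := by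
    intro n
    induction n with
    | zero => intro x; simp
    | succ n ih =>
      intro x
      rw [pow_succ', MulAut.mul_apply]
      have hTQ : ((x : Ω)⁻¹ * α x) ^ n ∈ Q := Q.pow_mem (hstep1 x) n
      have h1 : (αe ^ n) x = x * ⟨((x : Ω)⁻¹ * α x) ^ n, hQP hTQ⟩ := by
        apply Subtype.ext
        rw [ih x]; rfl
      have h2 : α ⟨((x : Ω)⁻¹ * α x) ^ n, hQP hTQ⟩ = ((x : Ω)⁻¹ * α x) ^ n := hfix _ hTQ
      calc ((αe ((αe ^ n) x) : P) : Ω)
          = ((αe (x * ⟨((x : Ω)⁻¹ * α x) ^ n, hQP hTQ⟩) : P) : Ω) := by rw [h1]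
        _ = ((αe x : P) : Ω) * ((αe ⟨((x : Ω)⁻¹ * α x) ^ n, hQP hTQ⟩ : P) : Ω) := by
            rw [map_mul]; rfl
        _ = α x * α ⟨((x : Ω)⁻¹ * α x) ^ n, hQP hTQ⟩ := by rw [hαeα, hαeα]
        _ = α x * ((x : Ω)⁻¹ * α x) ^ n := by rw [h2]
        _ = (x : Ω) * ((x : Ω)⁻¹ * α x) ^ (n + 1) := by
            rw [pow_succ', ← mul_assoc, mul_inv_cancel_left]
  obtain ⟨k, hk⟩ := IsPGroup.iff_card.mp (hS.to_le hQS)
  have hαepow : αe ^ (p ^ k) = 1 := by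
    ext x
    rw [hpow, ← hk]
    have h1 : (⟨(x : Ω)⁻¹ * α x, hstep1 x⟩ : Q) ^ Nat.card Q = 1 := pow_card_eq_one'
    have h2 : ((x : Ω)⁻¹ * α x) ^ Nat.card Q = 1 := congrArg (fun z : Q => (z : Ω)) h1
    rw [h2]
    simp
  -- a fully normalized conjugate
  obtain ⟨P₂, hPP₂, hP₂n⟩ := exists_fullyNormalized F hPS
  have hP₂S : P₂ ≤ S := hP₂n.1
  haveI : Finite P₂ := finite_of_le hP₂S
  obtain ⟨-, -, R₂, hR₂⟩ := fullyNormalized_facts hS F hF hP₂n
  obtain ⟨e₂, he₂⟩ := (isConj_iff_iso F).mp hPP₂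
  have hαeX : αe ∈ F.autGroup P := (mem_autGroup_iff F hPS αe).mpr hαe
  have hβ'X : MulAut.congr e₂ αe ∈ F.autGroup P₂ := congr_mem_autGroup F he₂ hαeX
  have hzp : IsPGroup p (Subgroup.zpowers (MulAut.congr e₂ αe)) := by
    rintro ⟨g, hg⟩
    obtain ⟨z, rfl⟩ := Subgroup.mem_zpowers_iff.mp hg
    refine ⟨k, ?_⟩
    apply Subtype.ext
    show ((MulAut.congr e₂ αe) ^ z) ^ (p ^ k) = 1
    rw [← zpow_natCast, ← zpow_mul, mul_comm, zpow_mul, zpow_natCast, ← map_pow, hαepow, map_one,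
      one_zpow]
  obtain ⟨χ, hχ, hχle⟩ := exists_cj_le_of_sylow (F.autGroup P₂) (autInducedBy S P₂)
    (Subgroup.zpowers (MulAut.congr e₂ αe)) (by rw [Subgroup.zpowers_le]; exact hβ'X) hzp ⟨R₂, hR₂⟩
  have hχIso : χ ∈ Iso F P₂ P₂ := (mem_autGroup_iff F hP₂S χ).mp hχ
  have hθ : e₂.trans χ ∈ Iso F P P₂ := iso_trans F he₂ hχIso
  set θ := e₂.trans χ with hθdef
  have hconjmem : χ * MulAut.congr e₂ αe * χ⁻¹ ∈ autInducedBy S P₂ :=
    hχle (cj_mem χ _ (Subgroup.mem_zpowers _))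
  rw [mem_autInducedBy_iff] at hconjmem
  obtain ⟨s, hsS, hsN, hs⟩ := hconjmem
  have hs' : ∀ y : P, ((θ (αe y) : P₂) : Ω) = s * ((θ y : P₂) : Ω) * s⁻¹ := by
    intro y
    have h1 := hs (θ y)
    rw [← h1]
    simp [hθdef, MulAut.congr]
  -- the image of Q
  have hθhom : P₂.subtype.comp θ.toMonoidHom ∈ F.Hom P := hθ
  have hQ₂ := hQ.2 _ (isConj_image F hθhom hQP)
  have hsQ₂ : s ∈ (Q.subgroupOf P).map (P₂.subtype.comp θ.toMonoidHom) := by
    apply hQ₂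
    refine ⟨hsS, ?_⟩
    show s ∈ Subgroup.centralizer ((((Q.subgroupOf P).map (P₂.subtype.comp θ.toMonoidHom)) :
      Subgroup Ω) : Set Ω)
    rw [Subgroup.mem_centralizer_iff]
    rintro _ ⟨x, hx, rfl⟩
    have hxQ : (x : Ω) ∈ Q := by simpa [Subgroup.mem_subgroupOf] using hx
    have h1 := hs' x
    have h2 : αe x = x := by
      apply Subtype.ext
      rw [hαeα]; exact hfix x hxQ
    rw [h2] at h1
    have h3 : (P₂.subtype.comp θ.toMonoidHom) x = ((θ x : P₂) : Ω) := rfl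
    rw [h3]
    calc ((θ x : P₂) : Ω) * s = (s * ((θ x : P₂) : Ω) * s⁻¹) * s := by rw [← h1]
      _ = s * ((θ x : P₂) : Ω) := by group
  obtain ⟨z, hz, hzs⟩ := hsQ₂
  have hzQ : (z : Ω) ∈ Q := by simpa [Subgroup.mem_subgroupOf] using hz
  have hzs' : ((θ z : P₂) : Ω) = s := hzs
  have hconj : ∀ y : P, α y = z * y * z⁻¹ := by
    intro y
    have h1 := hs' y
    have h2 : s * ((θ y : P₂) : Ω) * s⁻¹ = ((θ (z * y * z⁻¹) : P₂) : Ω) := by
      rw [map_mul, map_mul, map_inv, ← hzs']; rfl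
    rw [h2] at h1
    have h3 := θ.injective (Subtype.ext h1)
    rw [← hαeα, h3]
    rfl
  refine ⟨z, hzQ, ?_, hconj⟩
  rw [Subgroup.mem_centralizer_iff]
  intro x hx
  have h1 := hconj ⟨x, hQP hx⟩
  rw [hfix ⟨x, hQP hx⟩ hx] at h1
  have h2 : x = (z : Ω) * x * (z : Ω)⁻¹ := h1
  calc x * (z : Ω) = ((z : Ω) * x * (z : Ω)⁻¹) * (z : Ω) := by rw [← h2]
    _ = (z : Ω) * x := by group

/-- Two maps on `P` agreeing on a normal centric subgroup `Q` differ by an element of `Z(Q)`. -/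
theorem conj_of_agree_normal_centric [Finite S] {p : ℕ} [Fact p.Prime] (hS : IsPGroup p S)
    (F : FusionSystem S) (hF : F.IsSaturated p) {P Q : Subgroup Ω} (hQP : Q ≤ P)
    (hQ : F.IsCentric Q) (hnorm : P ≤ Subgroup.normalizer (Q : Set Ω)) {φ φ' : P →* Ω}
    (hφ : φ ∈ F.Hom P) (hφ' : φ' ∈ F.Hom P) (h : ∀ x : P, (x : Ω) ∈ Q → φ x = φ' x) :
    ∃ z : P, (z : Ω) ∈ Q ∧ (z : Ω) ∈ Subgroup.centralizer (Q : Set Ω) ∧
      ∀ y : P, φ' y = φ (z * y * z⁻¹) := by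
  have hPS : P ≤ S := (F.le_of_mem hφ).1
  haveI : Finite P := finite_of_le hPS
  obtain ⟨e, he, heφ⟩ := iso_of_hom F hφ rfl
  have hφinj := F.injective_of_mem hφ
  -- Q₁ = φ(Q)
  let Q₁ : Subgroup Ω := (Q.subgroupOf P).map φ
  have hQ₁ : F.IsCentric Q₁ := isCentric_of_isConj F hQ (isConj_image F hφ hQP)
  have hQ₁P₁ : Q₁ ≤ φ.range := by
    rintro _ ⟨x, -, rfl⟩
    exact ⟨x, rfl⟩
  have hmemQ₁ : ∀ x : P, (x : Ω) ∈ Q → φ x ∈ Q₁ := fun x hx =>
    ⟨x, by simpa [Subgroup.mem_subgroupOf] using hx, rfl⟩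
  have hnorm₁ : φ.range ≤ Subgroup.normalizer (Q₁ : Set Ω) := by
    rintro _ ⟨x, rfl⟩
    haveI : Finite Q₁ := finite_of_le hQ₁.1
    haveI : Finite ((Q₁ : Set Ω)) := ‹Finite Q₁›
    apply Subgroup.mem_normalizer_fintype
    rintro _ ⟨q, hq, rfl⟩
    have hqQ : (q : Ω) ∈ Q := by simpa [Subgroup.mem_subgroupOf] using hq
    have h1 : (x : Ω) * q * (x : Ω)⁻¹ ∈ Q := (Subgroup.mem_normalizer_iff.mp (hnorm x.2) _).mp hqQ
    have h2 : φ x * φ q * (φ x)⁻¹ = φ (x * q * x⁻¹) := by rw [map_mul, map_mul, map_inv]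
    rw [h2]
    exact hmemQ₁ _ h1
  -- α = φ' ∘ e⁻¹
  have hαmem : φ'.comp e.symm.toMonoidHom ∈ F.Hom φ.range := hom_comp_iso F (iso_symm F he) hφ'
  have hαφ : ∀ x : P, (φ'.comp e.symm.toMonoidHom) ⟨φ x, ⟨x, rfl⟩⟩ = φ' x := by
    intro x
    show φ' (e.symm ⟨φ x, ⟨x, rfl⟩⟩) = φ' x
    congr 1
    apply e.injective
    rw [MulEquiv.apply_symm_apply]
    exact Subtype.ext (heφ x).symm
  have hfix : ∀ y : φ.range, (y : Ω) ∈ Q₁ → (φ'.comp e.symm.toMonoidHom) y = y := by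
    rintro ⟨_, x', rfl⟩ ⟨x, hx, hxx⟩
    have hxQ : (x : Ω) ∈ Q := by simpa [Subgroup.mem_subgroupOf] using hx
    have : x = x' := hφinj hxx
    subst this
    rw [hαφ x, ← h x hxQ]
  obtain ⟨z₁, hz₁Q, hz₁C, hz₁⟩ := conj_of_fix_normal_centric hS F hF hQ₁P₁ hQ₁ hnorm₁ hαmem hfix
  obtain ⟨z, hz, hzz₁⟩ := hz₁Q
  have hzQ : (z : Ω) ∈ Q := by simpa [Subgroup.mem_subgroupOf] using hz
  have hconj : ∀ y : P, φ' y = φ (z * y * z⁻¹) := by
    intro y
    rw [← hαφ y, hz₁ ⟨φ y, ⟨y, rfl⟩⟩, map_mul, map_mul, map_inv, hzz₁]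
    rfl
  refine ⟨z, hzQ, ?_, hconj⟩
  rw [Subgroup.mem_centralizer_iff]
  intro x hx
  have h1 := hconj ⟨x, hQP hx⟩
  rw [← h ⟨x, hQP hx⟩ hx] at h1
  have h2 := hφinj h1
  have h3 : x = (z : Ω) * x * (z : Ω)⁻¹ := congrArg (fun w : P => (w : Ω)) h2
  calc x * (z : Ω) = ((z : Ω) * x * (z : Ω)⁻¹) * (z : Ω) := by rw [← h3]
    _ = (z : Ω) * x := by group

/-- In a saturated fusion system: if `Q ≤ P` with `Q` centric and two maps with source `P` agree on
`Q`, they differ by an inner automorphism of `P` induced by an element of `Z(Q)`. -/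
theorem conj_of_agree_centric [Finite S] {p : ℕ} [Fact p.Prime] (hS : IsPGroup p S)
    (F : FusionSystem S) (hF : F.IsSaturated p) :
    ∀ (n : ℕ) (P Q : Subgroup Ω) (hQP : Q ≤ P) (hQ : F.IsCentric Q),
      Nat.card P - Nat.card Q = n → ∀ (φ φ' : P →* Ω) (hφ : φ ∈ F.Hom P) (hφ' : φ' ∈ F.Hom P)
      (h : ∀ x : P, (x : Ω) ∈ Q → φ x = φ' x),
      ∃ z : P, (z : Ω) ∈ Q ∧ (z : Ω) ∈ Subgroup.centralizer (Q : Set Ω) ∧
        ∀ y : P, φ' y = φ (z * y * z⁻¹) := by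
  intro n
  induction n using Nat.strong_induction_on with
  | _ n ih =>
  intro P Q hQP hQ hn φ φ' hφ hφ' h
  have hPS : P ≤ S := (F.le_of_mem hφ).1
  haveI : Finite P := finite_of_le hPS
  have hQS : Q ≤ S := hQ.1
  have hCQ : centralizerIn S Q ≤ Q := hQ.2 Q (isConj_refl F hQS)
  by_cases hQeq : Q = P
  · refine ⟨1, by simp, by simp, ?_⟩
    intro y
    have : (1 : P) * y * (1 : P)⁻¹ = y := by group
    rw [this]
    exact (h y (by rw [hQeq]; exact y.2)).symm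
  · -- N = N_P(Q) strictly contains Q
    obtain ⟨w, hwN, hwQ⟩ := exists_mem_normalizerIn_not_mem (hS.to_le hPS) hQP hQeq
    set N := normalizerIn P Q with hN
    have hNP : N ≤ P := inf_le_left
    have hQN : Q ≤ N := le_normalizerIn hQP
    have hNS : N ≤ S := hNP.trans hPS
    haveI : Finite N := finite_of_le hNS
    have hcardlt : Nat.card Q < Nat.card N := by
      have hlt : Q < N := lt_of_le_of_ne hQN (fun h => hwQ (by rw [h]; exact hwN))
      exact Set.Finite.card_lt_card (Set.toFinite _) hlt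
    have hcardle : Nat.card N ≤ Nat.card P := Subgroup.card_le_of_le hNP
    -- apply the normal case on N
    have hφN := restrict_mem F hNP hφ
    have hφ'N := restrict_mem F hNP hφ'
    obtain ⟨z₁, hz₁Q, hz₁C, hz₁⟩ := conj_of_agree_normal_centric hS F hF hQN hQ
      (inf_le_right : N ≤ Subgroup.normalizer (Q : Set Ω)) hφN hφ'N
      (fun x hx => h ⟨x, hNP x.2⟩ hx)
    -- φ₁ = φ ∘ c_{z₁}
    have hz₁P : (z₁ : Ω) ∈ P := hNP z₁.2
    have hcv : ∀ y : P, (conjHom P (z₁ : Ω)) y ∈ P := by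
      intro y
      exact P.mul_mem (P.mul_mem hz₁P y.2) (P.inv_mem hz₁P)
    have hφ₁ := F.comp_mem (F.conj_mem hPS (hPS hz₁P)) hφ hcv
    set φ₁ := φ.comp ((conjHom P (z₁ : Ω)).codRestrict P hcv) with hφ₁def
    have hφ₁y : ∀ y : P, φ₁ y = φ (⟨z₁, hz₁P⟩ * y * ⟨z₁, hz₁P⟩⁻¹) := by
      intro y
      show φ _ = φ _
      congr 1
    have hagree : ∀ x : P, (x : Ω) ∈ N → φ₁ x = φ' x := by
      intro x hx
      rw [hφ₁y]
      have := hz₁ ⟨x, hx⟩
      exact this.symm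
    have hNc : F.IsCentric N := isCentric_of_le F hQ hQN hNS
    obtain ⟨z₂, hz₂N, hz₂C, hz₂⟩ := ih (Nat.card P - Nat.card N) (by omega) P N hNP hNc rfl
      φ₁ φ' hφ₁ hφ' hagree
    have hz₂Q : (z₂ : Ω) ∈ Q := by
      apply hCQ
      refine ⟨hPS z₂.2, ?_⟩
      show (z₂ : Ω) ∈ Subgroup.centralizer (Q : Set Ω)
      rw [Subgroup.mem_centralizer_iff]
      intro q hq
      exact (Subgroup.mem_centralizer_iff.mp hz₂C) q (hQN hq)
    have hz₂CQ : (z₂ : Ω) ∈ Subgroup.centralizer (Q : Set Ω) := by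
      rw [Subgroup.mem_centralizer_iff]
      intro q hq
      exact (Subgroup.mem_centralizer_iff.mp hz₂C) q (hQN hq)
    refine ⟨⟨z₁, hz₁P⟩ * z₂, Q.mul_mem hz₁Q hz₂Q, Subgroup.mul_mem _ hz₁C hz₂CQ, ?_⟩
    intro y
    rw [hz₂ y, hφ₁y]
    congr 1
    group

/-! ### Subsystems and centric subgroups -/

/-- A centric subgroup is fully centralized. -/
theorem fullyCentralized_of_centric [Finite S] (F : FusionSystem S) {T : Subgroup Ω}
    (hT : F.IsCentric T) : F.IsFullyCentralized T := by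
  refine ⟨hT.1, ?_⟩
  intro T' hTT'
  obtain ⟨e, he⟩ := (isConj_iff_iso F).mp hTT'
  have hT'S : T' ≤ S := (iso_le F he).2
  have hC' : centralizerIn S T' ≤ T' := hT.2 T' hTT'
  -- inject C_S(T') into C_S(T) via e⁻¹
  let f : centralizerIn S T' → centralizerIn S T := fun c =>
    ⟨((e.symm ⟨(c : Ω), hC' c.2⟩ : T) : Ω), hT.1 (e.symm ⟨(c : Ω), hC' c.2⟩).2, by
      show _ ∈ Subgroup.centralizer (T : Set Ω)
      rw [Subgroup.mem_centralizer_iff]
      intro y hy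
      have h1 : (e ⟨y, hy⟩ : T') * ⟨(c : Ω), hC' c.2⟩ = ⟨(c : Ω), hC' c.2⟩ * (e ⟨y, hy⟩ : T') := by
        apply Subtype.ext
        exact (Subgroup.mem_centralizer_iff.mp c.2.2) _ (e ⟨y, hy⟩).2
      have h2 := congrArg e.symm h1
      rw [map_mul, map_mul, MulEquiv.symm_apply_apply] at h2
      exact congrArg (fun z : T => (z : Ω)) h2⟩
  have hfinj : Function.Injective f := by
    intro c d hcd
    have h1 : ((e.symm ⟨(c : Ω), hC' c.2⟩ : T) : Ω) = ((e.symm ⟨(d : Ω), hC' d.2⟩ : T) : Ω) :=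
      congrArg (fun z : centralizerIn S T => (z : Ω)) hcd
    have h2 := e.symm.injective (Subtype.ext h1)
    exact Subtype.ext (congrArg (fun z : T' => (z : Ω)) h2)
  haveI := finite_centralizerIn (S := S) T
  exact Nat.card_le_card_of_injective f hfinj

/-- If `F' ≤ F` over the same `S`, an `F`-centric subgroup is `F'`-centric. -/
theorem isCentric_of_le_system (F F' : FusionSystem S) (hle : F' ≤ F) {T : Subgroup Ω}
    (hT : F.IsCentric T) : F'.IsCentric T :=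
  ⟨hT.1, fun R ⟨φ, hφ, hr⟩ => hT.2 R ⟨φ, hle _ hφ, hr⟩⟩

/-- Let `F' ≤ F` be saturated fusion systems over `S`, `Q ≤ R` with `Q` `F`-centric, and `ψ` a map of
`F` on `R` whose restriction to `Q` is a map of `F'`. Then `ψ` is a map of `F'`. -/
theorem mem_of_restrict_mem_centric [Finite S] {p : ℕ} [Fact p.Prime] (hS : IsPGroup p S)
    (F : FusionSystem S) (hF : F.IsSaturated p) (F' : FusionSystem S) (hF' : F'.IsSaturated p)
    (hle : F' ≤ F) :
    ∀ (n : ℕ) (Q R : Subgroup Ω) (hQR : Q ≤ R) (hQ : F.IsCentric Q),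
      Nat.card R - Nat.card Q = n → ∀ (ψ : R →* Ω) (hψ : ψ ∈ F.Hom R)
      (hψQ : ψ.comp (Subgroup.inclusion hQR) ∈ F'.Hom Q), ψ ∈ F'.Hom R := by
  intro n
  induction n using Nat.strong_induction_on with
  | _ n ih =>
  intro Q R hQR hQ hn ψ hψ hψQ
  have hRS : R ≤ S := (F.le_of_mem hψ).1
  haveI : Finite R := finite_of_le hRS
  have hQS : Q ≤ S := hQ.1
  by_cases hQeq : Q = R
  · subst hQeq
    have : ψ.comp (Subgroup.inclusion hQR) = ψ := by
      ext x; rfl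
    rw [this] at hψQ
    exact hψQ
  · obtain ⟨w, hwN, hwQ⟩ := exists_mem_normalizerIn_not_mem (hS.to_le hRS) hQR hQeq
    set N := normalizerIn R Q with hN
    have hNR : N ≤ R := inf_le_left
    have hQN : Q ≤ N := le_normalizerIn hQR
    have hNS : N ≤ S := hNR.trans hRS
    haveI : Finite N := finite_of_le hNS
    have hcardlt : Nat.card Q < Nat.card N := by
      have hlt : Q < N := lt_of_le_of_ne hQN (fun h => hwQ (by rw [h]; exact hwN))
      exact Set.Finite.card_lt_card (Set.toFinite _) hlt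
    have hcardle : Nat.card N ≤ Nat.card R := Subgroup.card_le_of_le hNR
    -- the image T of Q is F'-receptive
    set ψ₀ := ψ.comp (Subgroup.inclusion hQR) with hψ₀
    have hT : F.IsCentric ψ₀.range := isCentric_of_isConj F hQ ⟨ψ₀, hle _ hψQ, rfl⟩
    have hT' : F'.IsCentric ψ₀.range := isCentric_of_le_system F F' hle hT
    have hTrec : F'.IsReceptive ψ₀.range :=
      receptive_of_fullyCentralized hS F' hF' (fullyCentralized_of_centric F' hT')
    -- extend ψ₀ to N inside F'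
    obtain ⟨ψ', hψ', hψ'Q⟩ := receptive_extend F' hTrec hψQ rfl N hQN (by
      intro g hg
      refine ⟨hNS hg, hg.2, ψ ⟨g, hNR hg⟩, (F.le_of_mem hψ).2 _, ?_⟩
      intro x hx
      show ψ ⟨g * (x : Ω) * g⁻¹, _⟩ = ψ ⟨g, hNR hg⟩ * ψ ⟨x, _⟩ * (ψ ⟨g, hNR hg⟩)⁻¹
      rw [← map_inv, ← map_mul, ← map_mul]
      rfl)
    -- compare with ψ|_N
    have hψN := restrict_mem F hNR hψ
    have hψ'F : ψ' ∈ F.Hom N := hle _ hψ'
    obtain ⟨z, hzQ, hzC, hz⟩ := conj_of_agree_normal_centric hS F hF hQN hQ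
      (inf_le_right : N ≤ Subgroup.normalizer (Q : Set Ω)) hψ'F hψN (by
        intro x hx
        rw [hψ'Q ⟨x, hx⟩]
        rfl)
    -- ψ|_N = ψ' ∘ c_z ∈ F'
    have hcv : ∀ y : N, (conjHom N (z : Ω)) y ∈ N := by
      intro y
      exact N.mul_mem (N.mul_mem z.2 y.2) (N.inv_mem z.2)
    have hcomp := F'.comp_mem (F'.conj_mem hNS (hNS z.2)) hψ' hcv
    have hψN' : ψ.comp (Subgroup.inclusion hNR) ∈ F'.Hom N := by
      have : ψ.comp (Subgroup.inclusion hNR) = ψ'.comp ((conjHom N (z : Ω)).codRestrict N hcv) := by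
        ext y
        rw [hz y]
        show ψ' _ = ψ' _
        congr 1
      rw [this]; exact hcomp
    have hNc : F.IsCentric N := isCentric_of_le F hQ hQN hNS
    exact ih (Nat.card R - Nat.card N) (by omega) N R hNR hNc rfl ψ hψ hψN'

/-- `S` itself is centric. -/
theorem top_isCentric [Finite S] (F : FusionSystem S) : F.IsCentric S := by
  refine ⟨le_rfl, ?_⟩
  rintro Q ⟨φ, hφ, rfl⟩
  rw [range_eq_of_hom_top F hφ]
  exact inf_le_left

/-- Every centric subgroup contains a centric subgroup which is minimal among centric subgroups. -/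
theorem exists_minimal_centric [Finite S] (F : FusionSystem S) :
    ∀ (n : ℕ) (P : Subgroup Ω), Nat.card P = n → F.IsCentric P →
      ∃ Q₀ : Subgroup Ω, Q₀ ≤ P ∧ F.IsCentric Q₀ ∧ ∀ R : Subgroup Ω, R < Q₀ → ¬ F.IsCentric R := by
  intro n
  induction n using Nat.strong_induction_on with
  | _ n ih =>
  intro P hn hP
  by_cases h : ∀ R : Subgroup Ω, R < P → ¬ F.IsCentric R
  · exact ⟨P, le_rfl, hP, h⟩
  · have h' : ∃ R : Subgroup Ω, R < P ∧ F.IsCentric R := by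
      by_contra hc
      exact h (fun R hRP hR => hc ⟨R, hRP, hR⟩)
    obtain ⟨R, hRP, hR⟩ := h'
    haveI : Finite P := finite_of_le hP.1
    have hlt : Nat.card R < Nat.card P := Set.Finite.card_lt_card (Set.toFinite _) hRP
    obtain ⟨Q₀, hQ₀R, hQ₀, hmin⟩ := ih (Nat.card R) (hn ▸ hlt) R rfl hR
    exact ⟨Q₀, hQ₀R.trans hRP.le, hQ₀, hmin⟩

/-- Let `F' ≤ F` be saturated systems over `S` agreeing on the minimal `F`-centric subgroups.
Then they agree on all `F`-centric subgroups. -/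
theorem hom_centric_le_of_minimal [Finite S] {p : ℕ} [Fact p.Prime] (hS : IsPGroup p S)
    (F : FusionSystem S) (hF : F.IsSaturated p) (F' : FusionSystem S) (hF' : F'.IsSaturated p)
    (hle : F' ≤ F)
    (hmin : ∀ Q : Subgroup Ω, F.IsCentric Q → (∀ R : Subgroup Ω, R < Q → ¬ F.IsCentric R) →
      F.Hom Q = F'.Hom Q) {P : Subgroup Ω} (hP : F.IsCentric P) : F.Hom P ⊆ F'.Hom P := by
  intro ψ hψ
  obtain ⟨Q₀, hQ₀P, hQ₀, hm⟩ := exists_minimal_centric F _ P rfl hP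
  have h1 : ψ.comp (Subgroup.inclusion hQ₀P) ∈ F.Hom Q₀ := restrict_mem F hQ₀P hψ
  rw [hmin Q₀ hQ₀ hm] at h1
  exact mem_of_restrict_mem_centric hS F hF F' hF' hle _ Q₀ P hQ₀P hQ₀ rfl ψ hψ h1

end Cfsg.Agent.Lib.Helper8_Centric
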