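import Mathlib
import Cfsg.Prelude.Def_FusionSystem
import Cfsg.Agent.Lib.Helper8_Alperin
import Cfsg.Agent.Lib.Helper3_PResidual

set_option autoImplicit false
set_option linter.style.haveILetI false
set_option linter.unusedVariables false
open Cfsg

namespace Cfsg.Agent.Lib.Helper8_Hyperfocal

open Cfsg.FusionSystem
open Cfsg.Agent.Lib.Helper8_Fusion
open Cfsg.Agent.Lib.Helper8_GroupFusion
open Cfsg.Agent.Lib.Helper8_Saturated
open Cfsg.Agent.Lib.Helper8_Alperin
open scoped commutatorElement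

variable {Ω : Type*} [Group Ω] {S : Subgroup Ω}

/-- `S` is fully normalized in any fusion system over `S`. -/
theorem top_fullyNormalized [Finite S] (F : FusionSystem S) : F.IsFullyNormalized S := by
  refine ⟨le_rfl, ?_⟩
  intro Q _
  have h1 : normalizerIn S S = S := le_antisymm inf_le_left (le_normalizerIn le_rfl)
  rw [h1]
  exact Subgroup.card_le_of_le inf_le_left

/-- For `P = S` or `P` essential, `P` is fully normalized. -/
theorem fullyNormalized_of_top_or_essential [Finite S] {p : ℕ} (F : FusionSystem S) {P : Subgroup Ω}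
    (hP : P = S ∨ F.IsEssential p P) : F.IsFullyNormalized P := by
  rcases hP with rfl | hP
  · exact top_fullyNormalized F
  · exact hP.2.1

theorem hyperfocal_le (F : FusionSystem S) (p : ℕ) : F.hyperfocalSubgroup p ≤ S := by
  rw [hyperfocalSubgroup, Subgroup.closure_le]
  rintro y ⟨P, α, x, hPS, -, rfl⟩
  exact S.mul_mem (S.inv_mem (hPS x.2)) (hPS ((α : MulAut P) x).2)

/-- Group homomorphisms map `O^p` into `O^p`. -/
theorem map_pResidual_le {X Y : Type*} [Group X] [Group Y] (p : ℕ) (f : X →* Y) :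
    (pResidual p X).map f ≤ pResidual p Y := by
  rw [pResidual, Subgroup.map_le_iff_le_comap, Subgroup.closure_le]
  intro g hg
  apply Subgroup.subset_closure
  exact Nat.Coprime.coprime_dvd_left (orderOf_map_dvd f g) hg

/-- Conjugation by `s` as an isomorphism `P ≃* s P s⁻¹`. -/
def conjIso (s : Ω) (P : Subgroup Ω) : P ≃* cj s P where
  toFun x := ⟨s * x * s⁻¹, cj_mem s P x.2⟩
  invFun y := ⟨s⁻¹ * y * s, (mem_cj s P y).mp y.2⟩
  left_inv x := by
    apply Subtype.ext
    show s⁻¹ * (s * x * s⁻¹) * s = x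
    group
  right_inv y := by
    apply Subtype.ext
    show s * (s⁻¹ * y * s) * s⁻¹ = y
    group
  map_mul' x y := by
    apply Subtype.ext
    show s * (x * y) * s⁻¹ = (s * x * s⁻¹) * (s * y * s⁻¹)
    group

theorem conjIso_mem (F : FusionSystem S) {s : Ω} (hs : s ∈ S) {P : Subgroup Ω} (hP : P ≤ S) :
    conjIso s P ∈ Iso F P (cj s P) := by
  have h := F.conj_mem hP hs
  have : (cj s P).subtype.comp (conjIso s P).toMonoidHom = conjHom P s := by
    ext x; rfl
  show (cj s P).subtype.comp (conjIso s P).toMonoidHom ∈ F.Hom P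
  rw [this]; exact h

/-- The hyperfocal subgroup is normalized by `S`. -/
theorem hyperfocal_conj_mem (F : FusionSystem S) (p : ℕ) {s : Ω} (hs : s ∈ S) {y : Ω}
    (hy : y ∈ F.hyperfocalSubgroup p) : s * y * s⁻¹ ∈ F.hyperfocalSubgroup p := by
  have hle : F.hyperfocalSubgroup p ≤ (F.hyperfocalSubgroup p).comap (MulAut.conj s).toMonoidHom := by
    rw [hyperfocalSubgroup, Subgroup.closure_le]
    rintro y ⟨P, α, x, hPS, hα, rfl⟩
    show s * ((x : Ω)⁻¹ * ((α : MulAut P) x : P)) * s⁻¹ ∈ F.hyperfocalSubgroup p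
    apply Subgroup.subset_closure
    have he := conjIso_mem F hs hPS
    have hcjS : cj s P ≤ S := (iso_le F he).2
    -- the transported automorphism
    let f : F.autGroup P →* F.autGroup (cj s P) :=
      ((MulAut.congr (conjIso s P)).toMonoidHom.comp (F.autGroup P).subtype).codRestrict
        (F.autGroup (cj s P)) (fun β => congr_mem_autGroup F he β.2)
    have hfα : f α ∈ pResidual p (F.autGroup (cj s P)) := map_pResidual_le p f ⟨α, hα, rfl⟩
    refine ⟨cj s P, f α, conjIso s P x, hcjS, hfα, ?_⟩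
    show s * ((x : Ω)⁻¹ * ((α : MulAut P) x : P)) * s⁻¹ =
      ((conjIso s P x : cj s P) : Ω)⁻¹ * ((MulAut.congr (conjIso s P) (α : MulAut P)) (conjIso s P x) : cj s P)
    simp only [MulAut.congr_apply, MulEquiv.trans_apply, MulEquiv.symm_apply_apply]
    show s * ((x : Ω)⁻¹ * ((α : MulAut P) x : P)) * s⁻¹ =
      (s * (x : Ω) * s⁻¹)⁻¹ * (s * ((α : MulAut P) x : P) * s⁻¹)
    group
  exact hle hy

theorem hyperfocal_conj_iff (F : FusionSystem S) (p : ℕ) {s : Ω} (hs : s ∈ S) (y : Ω) :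
    y ∈ F.hyperfocalSubgroup p ↔ s * y * s⁻¹ ∈ F.hyperfocalSubgroup p := by
  constructor
  · exact hyperfocal_conj_mem F p hs
  · intro h
    have := hyperfocal_conj_mem F p (S.inv_mem hs) h
    have h2 : s⁻¹ * (s * y * s⁻¹) * s⁻¹⁻¹ = y := by group
    rw [h2] at this
    exact this

/-- For a fully automized `P`, every element of `Aut_F(P)` is a product of an element of
`Aut_S(P)` and an element of `O^p(Aut_F(P))`. -/
theorem aut_decomp [Finite S] {p : ℕ} [Fact p.Prime] (F : FusionSystem S) {P : Subgroup Ω}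
    (hP : F.IsFullyAutomized p P) {α : MulAut P} (hα : α ∈ F.autGroup P) :
    ∃ γ ∈ autInducedBy S P, ∃ β : F.autGroup P, β ∈ pResidual p (F.autGroup P) ∧
      α = γ * (β : MulAut P) := by
  obtain ⟨hPS, R, hR⟩ := hP
  haveI : Finite P := finite_of_le hPS
  obtain ⟨r, hr, m, hm, hrm⟩ := Cfsg.Agent.Lib.Helper3_PResidual.exists_mul_pResidual p
    (R : Subgroup (F.autGroup P)) R.not_dvd_index ⟨α, hα⟩
  rw [hR, Subgroup.mem_subgroupOf] at hr
  refine ⟨r, hr, m, hm, ?_⟩
  have := congrArg (fun z : F.autGroup P => (z : MulAut P)) hrm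
  exact this

/-- Elements of `O^p(Aut_F(P))` move elements of `P` inside their coset of the hyperfocal subgroup. -/
theorem inv_mul_apply_mem_hyperfocal (F : FusionSystem S) (p : ℕ) {P : Subgroup Ω} (hPS : P ≤ S)
    {β : F.autGroup P} (hβ : β ∈ pResidual p (F.autGroup P)) (x : P) :
    (x : Ω)⁻¹ * (((β : MulAut P) x : P) : Ω) ∈ F.hyperfocalSubgroup p :=
  Subgroup.subset_closure ⟨P, β, x, hPS, hβ, rfl⟩

/-- In a saturated fusion system, every map of the system preserves membership in the hyperfocal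
subgroup, in both directions. -/
theorem hyperfocal_iff [Finite S] {p : ℕ} [Fact p.Prime] (hS : IsPGroup p S)
    (F : FusionSystem S) (hF : F.IsSaturated p) :
    ∀ (P : Subgroup Ω) (φ : P →* Ω), φ ∈ F.Hom P →
      ∀ x : P, (x : Ω) ∈ F.hyperfocalSubgroup p ↔ φ x ∈ F.hyperfocalSubgroup p := by
  apply alperin_induction hS F hF
    (fun P φ => ∀ x : P, (x : Ω) ∈ F.hyperfocalSubgroup p ↔ φ x ∈ F.hyperfocalSubgroup p)
  · intro P g hP hg x
    exact hyperfocal_conj_iff F p hg x
  · intro P Q φ ψ hφ hψ h1 h2 hv x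
    rw [h1 x]
    exact h2 ⟨φ x, hv x⟩
  · intro P φ hφ h1 ψ hψ hψφ
    rintro ⟨_, x, rfl⟩
    rw [hψφ x]
    exact (h1 x).symm
  · intro P hP α hα x
    have hfn := fullyNormalized_of_top_or_essential F hP
    obtain ⟨-, hfa⟩ := fullyNormalized_facts hS F hF hfn
    have hPS : P ≤ S := hfn.1
    obtain ⟨γ, hγ, β, hβ, rfl⟩ := aut_decomp F hfa hα
    rw [mem_autInducedBy_iff] at hγ
    obtain ⟨s, hsS, hsN, hs⟩ := hγ
    show (x : Ω) ∈ F.hyperfocalSubgroup p ↔ ((γ ((β : MulAut P) x) : P) : Ω) ∈ F.hyperfocalSubgroup p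
    rw [hs, ← hyperfocal_conj_iff F p hsS]
    have h1 := inv_mul_apply_mem_hyperfocal F p hPS hβ x
    constructor
    · intro hx
      have := Subgroup.mul_mem _ hx h1
      rwa [mul_inv_cancel_left] at this
    · intro hx
      have := Subgroup.mul_mem _ hx (Subgroup.inv_mem _ h1)
      rwa [mul_inv_rev, inv_inv, mul_inv_cancel_left] at this

/-- The hyperfocal subgroup of a saturated fusion system is strongly closed. -/
theorem hyperfocal_stronglyClosed [Finite S] {p : ℕ} [Fact p.Prime] (hS : IsPGroup p S)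
    (F : FusionSystem S) (hF : F.IsSaturated p) : F.StronglyClosed (F.hyperfocalSubgroup p) := by
  refine ⟨hyperfocal_le F p, ?_⟩
  intro R hR φ hφ x
  exact (hyperfocal_iff hS F hF R φ hφ x).mp (hR x.2)

/-- The focal subgroup is the product of the hyperfocal subgroup and the derived subgroup of `S`. -/
theorem focal_eq [Finite S] {p : ℕ} [Fact p.Prime] (hS : IsPGroup p S)
    (F : FusionSystem S) (hF : F.IsSaturated p) :
    F.focalSubgroup = F.hyperfocalSubgroup p ⊔ ⁅(S : Subgroup Ω), (S : Subgroup Ω)⁆ := by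
  apply le_antisymm
  · -- every x⁻¹ φ(x) lies in the product
    have key : ∀ (P : Subgroup Ω) (φ : P →* Ω), φ ∈ F.Hom P → ∀ x : P,
        (x : Ω)⁻¹ * φ x ∈ F.hyperfocalSubgroup p ⊔ ⁅(S : Subgroup Ω), (S : Subgroup Ω)⁆ := by
      apply alperin_induction hS F hF
        (fun P φ => ∀ x : P,
          (x : Ω)⁻¹ * φ x ∈ F.hyperfocalSubgroup p ⊔ ⁅(S : Subgroup Ω), (S : Subgroup Ω)⁆)
      · intro P g hP hg x
        apply (le_sup_right : ⁅(S : Subgroup Ω), (S : Subgroup Ω)⁆ ≤ _)
        have h1 : (x : Ω)⁻¹ * (conjHom P g) x = ⁅(x : Ω)⁻¹, g⁆ := by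
          rw [commutatorElement_def, inv_inv]
          simp [conjHom, MulAut.conj_apply, mul_assoc]
        rw [h1]
        exact Subgroup.commutator_mem_commutator (S.inv_mem (hP x.2)) hg
      · intro P Q φ ψ hφ hψ h1 h2 hv x
        have h3 := Subgroup.mul_mem _ (h1 x) (h2 ⟨φ x, hv x⟩)
        have h4 : (x : Ω)⁻¹ * φ x * ((φ x)⁻¹ * ψ ⟨φ x, hv x⟩) = (x : Ω)⁻¹ * ψ ⟨φ x, hv x⟩ := by group
        rw [h4] at h3
        exact h3
      · intro P φ hφ h1 ψ hψ hψφ
        rintro ⟨_, x, rfl⟩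
        rw [hψφ x]
        have h3 := Subgroup.inv_mem _ (h1 x)
        rwa [mul_inv_rev, inv_inv] at h3
      · intro P hP α hα x
        have hfn := fullyNormalized_of_top_or_essential F hP
        obtain ⟨-, hfa⟩ := fullyNormalized_facts hS F hF hfn
        have hPS : P ≤ S := hfn.1
        obtain ⟨γ, hγ, β, hβ, rfl⟩ := aut_decomp F hfa hα
        rw [mem_autInducedBy_iff] at hγ
        obtain ⟨s, hsS, hsN, hs⟩ := hγ
        show (x : Ω)⁻¹ * ((γ ((β : MulAut P) x) : P) : Ω) ∈ _
        rw [hs]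
        have h1 := inv_mul_apply_mem_hyperfocal F p hPS hβ x
        have h2 : ((((β : MulAut P) x : P) : Ω))⁻¹ * (s * (((β : MulAut P) x : P) : Ω) * s⁻¹) ∈
            ⁅(S : Subgroup Ω), (S : Subgroup Ω)⁆ := by
          have h3 : ((((β : MulAut P) x : P) : Ω))⁻¹ * (s * (((β : MulAut P) x : P) : Ω) * s⁻¹) =
              ⁅((((β : MulAut P) x : P) : Ω))⁻¹, s⁆ := by
            rw [commutatorElement_def, inv_inv]
            simp [mul_assoc]
          rw [h3]
          exact Subgroup.commutator_mem_commutator (S.inv_mem (hPS ((β : MulAut P) x).2)) hsS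
        have h4 := Subgroup.mul_mem _
          ((le_sup_left : F.hyperfocalSubgroup p ≤ _) h1)
          ((le_sup_right : ⁅(S : Subgroup Ω), (S : Subgroup Ω)⁆ ≤ _) h2)
        have h5 : (x : Ω)⁻¹ * (((β : MulAut P) x : P) : Ω) *
            (((((β : MulAut P) x : P) : Ω))⁻¹ * (s * (((β : MulAut P) x : P) : Ω) * s⁻¹)) =
            (x : Ω)⁻¹ * (s * (((β : MulAut P) x : P) : Ω) * s⁻¹) := by group
        rw [h5] at h4
        exact h4
    rw [focalSubgroup, Subgroup.closure_le]
    rintro y ⟨P, φ, x, hφ, rfl⟩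
    exact key P φ hφ x
  · apply sup_le
    · rw [hyperfocalSubgroup, Subgroup.closure_le]
      rintro y ⟨P, α, x, hPS, hα, rfl⟩
      apply Subgroup.subset_closure
      exact ⟨P, P.subtype.comp (α : MulAut P).toMonoidHom, x,
        (mem_autGroup_iff F hPS (α : MulAut P)).mp α.2, rfl⟩
    · rw [Subgroup.commutator_le]
      intro a ha b hb
      apply Subgroup.subset_closure
      refine ⟨S, conjHom S b, ⟨a⁻¹, S.inv_mem ha⟩, F.conj_mem le_rfl hb, ?_⟩
      rw [commutatorElement_def]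
      simp [conjHom, MulAut.conj_apply, mul_assoc]

end Cfsg.Agent.Lib.Helper8_Hyperfocal
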