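import Mathlib
import Cfsg.Prelude.Def_FusionSystem
import Cfsg.Agent.Lib.Helper8_Centric
import Cfsg.Agent.Lib.Helper8_Hyperfocal

set_option autoImplicit false
set_option linter.style.haveILetI false
set_option linter.unusedVariables false
open Cfsg

namespace Cfsg.Agent.Lib.Helper8_Frattini

open Cfsg.FusionSystem
open Cfsg.Agent.Lib.Helper8_Fusion
open Cfsg.Agent.Lib.Helper8_GroupFusion
open Cfsg.Agent.Lib.Helper8_Saturated
open Cfsg.Agent.Lib.Helper8_Alperin
open Cfsg.Agent.Lib.Helper8_Hyperfocal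

variable {Ω : Type*} [Group Ω] {S : Subgroup Ω}

/-- **Skeleton of Alperin's theorem**: to show `F ≤ E` for a saturated system `F`, it suffices to
show `Aut_F(Q) ≤ Aut_E(Q)` for every fully normalized `Q`, under the inductive hypothesis that all
maps of `F` on larger subgroups are maps of `E`. -/
theorem alperin_skeleton [Finite S] {p : ℕ} [Fact p.Prime] (hS : IsPGroup p S)
    (F : FusionSystem S) (hF : F.IsSaturated p) (E : FusionSystem S)
    (hE : ∀ Q : Subgroup Ω, F.IsFullyNormalized Q →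
      (∀ R : Subgroup Ω, R ≤ S → Nat.card Q < Nat.card R → F.Hom R ⊆ E.Hom R) →
      F.autGroup Q ≤ E.autGroup Q) :
    F ≤ E := by
  intro P
  by_cases hPS : P ≤ S
  swap
  · intro φ hφ
    exact absurd (F.le_of_mem hφ).1 hPS
  induction' hk : Nat.card S - Nat.card P using Nat.strong_induction_on with k ih generalizing P
  have IH : ∀ R : Subgroup Ω, R ≤ S → Nat.card P < Nat.card R → F.Hom R ⊆ E.Hom R := by
    intro R hRS hcard
    have hRle : Nat.card R ≤ Nat.card S := Subgroup.card_le_of_le hRS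
    exact ih (Nat.card S - Nat.card R) (by omega) R hRS rfl
  intro φ hφ
  by_cases hPeq : P = S
  · subst hPeq
    obtain ⟨e, he, heφ⟩ := iso_of_hom F hφ (range_eq_of_hom_top F hφ)
    have heE := iso_self_of_autGroup_le F E le_rfl (hE P (top_fullyNormalized F) IH) he
    exact hom_of_iso_eq E heE φ (fun x => (heφ x).symm)
  · obtain ⟨e₀, he₀, he₀φ⟩ := iso_of_hom F hφ rfl
    have hP'S : φ.range ≤ S := (iso_le F he₀).2
    have hcardP' : Nat.card P = Nat.card φ.range := Nat.card_congr e₀.toEquiv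
    have hP'ne : φ.range ≠ S := by
      intro h
      apply hPeq
      haveI : Finite P := finite_of_le hPS
      apply Subgroup.eq_of_le_of_card_ge hPS
      rw [hcardP', h]
    obtain ⟨Q, hPQ, hQn⟩ := exists_fullyNormalized F hPS
    obtain ⟨-, hQa⟩ := fullyNormalized_facts hS F hF hQn
    have hQr := receptive_of_fullyNormalized hS F hF hQn
    have hP'Q : F.IsConj φ.range Q :=
      isConj_trans F (isConj_symm F ((isConj_iff_iso F).mpr ⟨e₀, he₀⟩)) hPQ
    obtain ⟨ψ₁, hψ₁, -, hψ₁img⟩ := exists_normalizer_map hS F hQa hQr hPQ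
    obtain ⟨ψ₂, hψ₂, -, hψ₂img⟩ := exists_normalizer_map hS F hQa hQr hP'Q
    have hψ₁E : ψ₁ ∈ E.Hom (normalizerIn S P) :=
      IH _ inf_le_left (card_lt_card_normalizerIn hS hPS hPeq) hψ₁
    have hψ₂E : ψ₂ ∈ E.Hom (normalizerIn S φ.range) :=
      IH _ inf_le_left (by rw [hcardP']; exact card_lt_card_normalizerIn hS hP'S hP'ne) hψ₂
    have he₁F := restrictEquiv_mem F hψ₁ (le_normalizerIn hPS) hψ₁img
    have he₁E := restrictEquiv_mem E hψ₁E (le_normalizerIn hPS) hψ₁img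
    have he₂F := restrictEquiv_mem F hψ₂ (le_normalizerIn hP'S) hψ₂img
    have he₂E := restrictEquiv_mem E hψ₂E (le_normalizerIn hP'S) hψ₂img
    set e₁ := restrictEquiv ψ₁ (F.injective_of_mem hψ₁) (le_normalizerIn hPS) hψ₁img with he₁
    set e₂ := restrictEquiv ψ₂ (F.injective_of_mem hψ₂) (le_normalizerIn hP'S) hψ₂img with he₂
    have hαF : e₁.symm.trans (e₀.trans e₂) ∈ Iso F Q Q :=
      iso_trans F (iso_symm F he₁F) (iso_trans F he₀ he₂F)
    have hcardQ : Nat.card P = Nat.card Q := Nat.card_congr e₁.toEquiv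
    have hAut : F.autGroup Q ≤ E.autGroup Q :=
      hE Q hQn (fun R hRS hcard => IH R hRS (by rw [hcardQ]; exact hcard))
    have hαE := iso_self_of_autGroup_le F E hQn.1 hAut hαF
    have he₀E : e₁.trans ((e₁.symm.trans (e₀.trans e₂)).trans e₂.symm) ∈ Iso E P φ.range :=
      iso_trans E he₁E (iso_trans E hαE (iso_symm E he₂E))
    have heq : e₁.trans ((e₁.symm.trans (e₀.trans e₂)).trans e₂.symm) = e₀ := by
      ext x
      simp
    rw [heq] at he₀E
    exact hom_of_iso_eq E he₀E φ (fun x => (he₀φ x).symm)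

/-- An automorphism `α ∈ Aut_F(Q)` normalizing `Aut_S(Q)`, with `Q` receptive, extends to a map of
the system on `N_S(Q)`. -/
theorem exists_extension_of_normalizes (F : FusionSystem S) {Q : Subgroup Ω}
    (hQr : F.IsReceptive Q) {α : MulAut Q} (hα : α ∈ F.autGroup Q)
    (hnorm : ∀ β ∈ autInducedBy S Q, α * β * α⁻¹ ∈ autInducedBy S Q) :
    ∃ ψ ∈ F.Hom (normalizerIn S Q), ∀ x : Q, ψ ⟨x, le_normalizerIn hQr.1 x.2⟩ = ((α x : Q) : Ω) := by
  have hQS : Q ≤ S := hQr.1
  have hαIso : α ∈ Iso F Q Q := (mem_autGroup_iff F hQS α).mp hα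
  refine receptive_extend F hQr hαIso (range_subtype_comp α) (normalizerIn S Q)
    (le_normalizerIn hQS) ?_
  intro g hg
  refine ⟨hg.1, hg.2, ?_⟩
  have hβ : Q.normalizerMonoidHom ⟨g, hg.2⟩ ∈ autInducedBy S Q := by
    rw [mem_autInducedBy_iff]
    exact ⟨g, hg.1, hg.2, fun y => rfl⟩
  have h1 := hnorm _ hβ
  rw [mem_autInducedBy_iff] at h1
  obtain ⟨h, hhS, hhN, hh⟩ := h1
  refine ⟨h, hhS, ?_⟩
  intro x hx
  have h2 := hh (α x)
  show ((α ⟨g * (x : Ω) * g⁻¹, hx⟩ : Q) : Ω) = h * ((α x : Q) : Ω) * h⁻¹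
  rw [← h2]
  simp only [MulAut.mul_apply, MulAut.inv_apply_self]
  rfl

/-- **Frattini argument** for automorphism groups in fusion systems: if `Q ≠ S` is fully
normalized in the saturated system `F`, `Aut_E(Q)` is a normal subgroup of `Aut_F(Q)`, and all maps
of `F` on subgroups larger than `Q` are maps of `E`, then `Aut_F(Q) ≤ Aut_E(Q)`. -/
theorem autGroup_le_of_frattini [Finite S] {p : ℕ} [Fact p.Prime] (hS : IsPGroup p S)
    (F : FusionSystem S) (hF : F.IsSaturated p) (E : FusionSystem S) {Q : Subgroup Ω}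
    (hQn : F.IsFullyNormalized Q) (hQne : Q ≠ S)
    (hnormal : ∀ α ∈ F.autGroup Q, ∀ β ∈ E.autGroup Q, α * β * α⁻¹ ∈ E.autGroup Q)
    (IH : ∀ R : Subgroup Ω, R ≤ S → Nat.card Q < Nat.card R → F.Hom R ⊆ E.Hom R) :
    F.autGroup Q ≤ E.autGroup Q := by
  have hQS : Q ≤ S := hQn.1
  haveI : Finite Q := finite_of_le hQS
  obtain ⟨-, hQa⟩ := fullyNormalized_facts hS F hF hQn
  have hQr := receptive_of_fullyNormalized hS F hF hQn
  obtain ⟨-, P₀, hP₀⟩ := hQa
  let A := F.autGroup Q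
  set N' := (E.autGroup Q).subgroupOf (F.autGroup Q) with hN'
  haveI : N'.Normal := by
    refine ⟨fun n hn g => ?_⟩
    show ((g * n * g⁻¹ : A) : MulAut Q) ∈ E.autGroup Q
    exact hnormal g g.2 n hn
  have hP₀N : P₀.toSubgroup ≤ N' := by
    rw [hP₀]
    intro a ha
    exact autInducedBy_le_autGroup E hQS ha
  have htop := Sylow.normalizer_sup_eq_top' P₀ hP₀N
  intro a ha
  have hmem : (⟨a, ha⟩ : A) ∈ Subgroup.normalizer (P₀ : Set A) ⊔ N' := by
    rw [htop]; trivial
  have hmem' : (⟨a, ha⟩ : A) ∈ ((Subgroup.normalizer (P₀ : Set A) ⊔ N' : Subgroup A) : Set A) := hmem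
  rw [Subgroup.mul_normal] at hmem'
  obtain ⟨h, hh, n, hn, hhn⟩ := Set.mem_mul.mp hmem'
  have hnE : (n : MulAut Q) ∈ E.autGroup Q := hn
  have hhE : (h : MulAut Q) ∈ E.autGroup Q := by
    have hnorm : ∀ β ∈ autInducedBy S Q, (h : MulAut Q) * β * (h : MulAut Q)⁻¹ ∈ autInducedBy S Q := by
      intro β hβ
      have hβA : β ∈ A := autInducedBy_le_autGroup F hQS hβ
      have h1 : (⟨β, hβA⟩ : A) ∈ P₀.toSubgroup := by
        rw [hP₀]; exact hβ
      have h2 := (Subgroup.mem_normalizer_iff.mp hh ⟨β, hβA⟩).mp h1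
      have h3 : h * ⟨β, hβA⟩ * h⁻¹ ∈ P₀.toSubgroup := h2
      rw [hP₀] at h3
      exact h3
    obtain ⟨ψ, hψ, hψα⟩ := exists_extension_of_normalizes F hQr h.2 hnorm
    have hψE := IH _ inf_le_left (card_lt_card_normalizerIn hS hQS hQne) hψ
    exact aut_mem_of_extends E (le_normalizerIn hQS) hψE hψα
  have : a = (h : MulAut Q) * (n : MulAut Q) := by
    have := congrArg (fun z : A => (z : MulAut Q)) hhn
    exact this.symm
  rw [this]
  exact Subgroup.mul_mem _ hhE hnE

end Cfsg.Agent.Lib.Helper8_Frattini
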