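import Mathlib
import Cfsg.Prelude.Def_FusionSystem
import Cfsg.Agent.Lib.Helper8_Frattini

set_option autoImplicit false
set_option linter.style.haveILetI false
set_option linter.unusedVariables false
open Cfsg

namespace Cfsg.Agent.Lib.Helper8_Frobenius

open Cfsg.FusionSystem
open Cfsg.Agent.Lib.Helper8_Fusion
open Cfsg.Agent.Lib.Helper8_GroupFusion
open Cfsg.Agent.Lib.Helper8_Saturated
open Cfsg.Agent.Lib.Helper8_Alperin
open Cfsg.Agent.Lib.Helper8_Hyperfocal

variable {Ω : Type*} [Group Ω] {S : Subgroup Ω}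

/-- The inner fusion system is contained in every fusion system over `S`. -/
theorem inner_le (F : FusionSystem S) : innerFusionSystem S ≤ F := by
  rintro P φ ⟨hP, g, hg, hφ⟩
  have : φ = conjHom P g := by
    ext x; rw [hφ x]; rfl
  rw [this]
  exact F.conj_mem hP hg

/-- If `Q` is fully automized and `Aut_F(Q)` is a `p`-group then `Aut_F(Q) = Aut_S(Q)`. -/
theorem autGroup_le_autInducedBy_of_pGroup [Finite S] {p : ℕ} [Fact p.Prime]
    (F : FusionSystem S) {Q : Subgroup Ω} (hQa : F.IsFullyAutomized p Q)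
    (hA : IsPGroup p (F.autGroup Q)) : F.autGroup Q ≤ autInducedBy S Q := by
  obtain ⟨hQS, P₀, hP₀⟩ := hQa
  have hP₀top : (P₀ : Subgroup (F.autGroup Q)) = ⊤ := by
    have h1 : IsPGroup p (⊤ : Subgroup (F.autGroup Q)) := hA.of_equiv Subgroup.topEquiv.symm
    exact (P₀.is_maximal' h1 le_top).symm
  intro α hα
  have h1 : (⟨α, hα⟩ : F.autGroup Q) ∈ (P₀ : Subgroup (F.autGroup Q)) := by
    rw [hP₀top]; trivial
  rw [hP₀] at h1
  exact h1

/-- A subgroup whose automorphism group in the system is a `p`-group is not essential. -/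
theorem not_essential_of_pGroup [Finite S] {p : ℕ} [Fact p.Prime]
    (F : FusionSystem S) {Q : Subgroup Ω} (hA : IsPGroup p (F.autGroup Q)) :
    ¬ F.IsEssential p Q := by
  rintro ⟨hc, -, hI, E, hE⟩
  haveI : Finite Q := finite_of_le hc.1
  haveI := hI
  exact not_stronglyPEmbedded_of_isPGroup (hA.to_quotient _) E hE

/-- **Frobenius' criterion** for fusion systems: if `Aut_F(S)` is a `p`-group and so is `Aut_F(P)`
for every essential `P` (so that there are no essential subgroups), then the saturated system `F`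
is the inner system of `S`. -/
theorem eq_inner_of_pGroup [Finite S] {p : ℕ} [Fact p.Prime] (hS : IsPGroup p S)
    (F : FusionSystem S) (hF : F.IsSaturated p)
    (h : ∀ P : Subgroup Ω, (P = S ∨ F.IsEssential p P) → IsPGroup p (F.autGroup P)) :
    ∀ P : Subgroup Ω, F.Hom P = (innerFusionSystem S).Hom P := by
  have h1 := alperin hS F hF (innerFusionSystem S) (by
    intro P hP
    rcases hP with rfl | hP
    · obtain ⟨-, hQa⟩ := fullyNormalized_facts hS F hF (top_fullyNormalized F)
      exact (autGroup_le_autInducedBy_of_pGroup F hQa (h _ (Or.inl rfl))).trans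
        (autInducedBy_le_autGroup (innerFusionSystem _) le_rfl)
    · exact absurd hP (not_essential_of_pGroup F (h P (Or.inr hP))))
  intro P
  exact Set.Subset.antisymm (h1 P) (inner_le F P)

/-- If `α^m = 1` with `m` prime to `p`, `α z = z * w` and `α w = w` in a `p`-group, then `w = 1`. -/
theorem eq_one_of_coprime_fix {P : Type*} [Group P] {p : ℕ} (hP : IsPGroup p P)
    (α : MulAut P) (m : ℕ) (hm : Nat.Coprime m p) (hα : α ^ m = 1) (z w : P)
    (hz : α z = z * w) (hw : α w = w) : w = 1 := by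
  have hk : ∀ k : ℕ, (α ^ k) z = z * w ^ k := by
    intro k
    induction k with
    | zero => simp
    | succ k ih =>
      rw [pow_succ', MulAut.mul_apply, ih, map_mul, map_pow, hz, hw, pow_succ', mul_assoc]
  have h1 := hk m
  rw [hα, MulAut.one_apply] at h1
  have h2 : w ^ m = 1 := by
    have := mul_left_cancel (a := z) (b := 1) (c := w ^ m) (by rw [mul_one]; exact h1)
    exact this.symm
  obtain ⟨k, hk'⟩ := hP w
  have h3 : w ^ Nat.gcd m (p ^ k) = 1 := pow_gcd_eq_one.mpr ⟨h2, hk'⟩
  have h4 : Nat.gcd m (p ^ k) = 1 := Nat.Coprime.pow_right k hm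
  rw [h4, pow_one] at h3
  exact h3

/-- If every automorphism in a finite group `A ≤ Aut(P)` of order prime to `p` is trivial, then
`A` is a `p`-group. -/
theorem isPGroup_of_coprime_trivial {X : Type*} [Group X] [Finite X] {p : ℕ} [Fact p.Prime]
    (A : Subgroup X)
    (h : ∀ α ∈ A, ∀ m : ℕ, Nat.Coprime m p → α ^ m = 1 → α = 1) : IsPGroup p A := by
  intro g
  have hpos : 0 < orderOf (g : X) := orderOf_pos _
  obtain ⟨k, m, hm, hkm⟩ := Nat.exists_eq_pow_mul_and_not_dvd hpos.ne' p (Nat.Prime.ne_one Fact.out)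
  refine ⟨k, ?_⟩
  have h1 : ((g : X) ^ p ^ k) ^ m = 1 := by
    rw [← pow_mul, ← hkm, pow_orderOf_eq_one]
  have hcop : Nat.Coprime m p := by
    rw [Nat.coprime_comm]
    exact (Nat.Prime.coprime_iff_not_dvd Fact.out).mpr hm
  have h2 := h _ (A.pow_mem g.2 (p ^ k)) m hcop h1
  exact Subtype.ext h2

end Cfsg.Agent.Lib.Helper8_Frobenius
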