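import Mathlib
import Cfsg.Prelude.Def_FusionSystem
import Cfsg.Agent.Lib.Helper8_Frobenius

set_option autoImplicit false
set_option linter.style.haveILetI false
set_option linter.unusedVariables false
open Cfsg

namespace Cfsg.Agent.Lib.Helper8_Abelian

open Cfsg.FusionSystem
open Cfsg.Agent.Lib.Helper8_Fusion
open Cfsg.Agent.Lib.Helper8_GroupFusion
open Cfsg.Agent.Lib.Helper8_Saturated
open Cfsg.Agent.Lib.Helper8_Alperin
open Cfsg.Agent.Lib.Helper8_Hyperfocal
open Cfsg.Agent.Lib.Helper8_Centric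

variable {Ω : Type*} [Group Ω] {S : Subgroup Ω}

/-- `Aut_S(S) = Inn(S)`. -/
theorem autInducedBy_top_eq_inn : autInducedBy S S = Inn S := by
  apply le_antisymm
  · intro α hα
    rw [mem_autInducedBy_iff] at hα
    obtain ⟨g, hgS, -, hg⟩ := hα
    refine ⟨⟨g, hgS⟩, ?_⟩
    ext x
    rw [hg x]
    simp [MulAut.conj_apply]
  · exact inn_le_autInducedBy le_rfl

/-- `S` itself is never essential in a saturated system. -/
theorem not_essential_top [Finite S] {p : ℕ} [Fact p.Prime] (hS : IsPGroup p S)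
    (F : FusionSystem S) (hF : F.IsSaturated p) : ¬ F.IsEssential p S := by
  rintro ⟨-, -, hI, E, hdvd, -, -⟩
  obtain ⟨-, -, P₀, hP₀⟩ := fullyNormalized_facts hS F hF (top_fullyNormalized F)
  rw [autInducedBy_top_eq_inn] at hP₀
  have h1 := P₀.not_dvd_index
  rw [hP₀] at h1
  exact h1 hdvd

/-- Over an abelian `S`, the only centric subgroup is `S`. -/
theorem eq_top_of_centric_of_abelian (hab : ∀ x ∈ S, ∀ y ∈ S, x * y = y * x) (F : FusionSystem S)
    {P : Subgroup Ω} (hP : F.IsCentric P) : P = S := by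
  apply le_antisymm hP.1
  intro x hx
  have h1 := hP.2 P (isConj_refl F hP.1)
  apply h1
  refine ⟨hx, ?_⟩
  show x ∈ Subgroup.centralizer (P : Set Ω)
  rw [Subgroup.mem_centralizer_iff]
  intro y hy
  exact hab y (hP.1 hy) x hx

/-- A saturated system over an abelian `S` has no essential subgroups. -/
theorem not_essential_of_abelian [Finite S] {p : ℕ} [Fact p.Prime] (hS : IsPGroup p S)
    (F : FusionSystem S) (hF : F.IsSaturated p) (hab : ∀ x ∈ S, ∀ y ∈ S, x * y = y * x)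
    (P : Subgroup Ω) : ¬ F.IsEssential p P := by
  intro hP
  have := eq_top_of_centric_of_abelian hab F hP.1
  subst this
  exact not_essential_top hS F hF hP

/-- **Burnside**: over an abelian `S`, every map of a saturated system is the restriction of an
element of `Aut_F(S)`. -/
theorem exists_aut_top_of_abelian [Finite S] {p : ℕ} [Fact p.Prime] (hS : IsPGroup p S)
    (F : FusionSystem S) (hF : F.IsSaturated p) (hab : ∀ x ∈ S, ∀ y ∈ S, x * y = y * x) :
    ∀ (P : Subgroup Ω) (φ : P →* Ω), φ ∈ F.Hom P →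
      ∃ α ∈ F.autGroup S, ∀ (x : P) (hx : (x : Ω) ∈ S), φ x = ((α ⟨x, hx⟩ : S) : Ω) := by
  apply alperin_induction hS F hF
    (fun P φ => ∃ α ∈ F.autGroup S, ∀ (x : P) (hx : (x : Ω) ∈ S), φ x = ((α ⟨x, hx⟩ : S) : Ω))
  · intro P g hP hg
    have hgN : g ∈ Subgroup.normalizer (S : Set Ω) := Subgroup.le_normalizer hg
    exact ⟨_, conjAut_mem F le_rfl hg hgN, fun x hx => rfl⟩
  · rintro P Q φ ψ hφ hψ ⟨α₁, hα₁, h₁⟩ ⟨α₂, hα₂, h₂⟩ hv
    refine ⟨α₂ * α₁, Subgroup.mul_mem _ hα₂ hα₁, ?_⟩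
    intro x hx
    show ψ ⟨φ x, hv x⟩ = ((α₂ (α₁ ⟨x, hx⟩) : S) : Ω)
    have hφS : φ x ∈ S := (F.le_of_mem hφ).2 x
    rw [h₂ ⟨φ x, hv x⟩ hφS]
    congr 2
    exact Subtype.ext (h₁ x hx)
  · rintro P φ hφ ⟨α, hα, h₁⟩ ψ hψ hψφ
    refine ⟨α⁻¹, Subgroup.inv_mem _ hα, ?_⟩
    rintro ⟨_, x, rfl⟩ hx
    rw [hψφ x]
    have hxS : (x : Ω) ∈ S := (F.le_of_mem hφ).1 x.2
    have h2 : (⟨φ x, hx⟩ : S) = α ⟨x, hxS⟩ := Subtype.ext (h₁ x hxS)
    show (x : Ω) = ((α⁻¹ ⟨φ x, hx⟩ : S) : Ω)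
    rw [h2]
    simp
  · intro P hP α hα
    rcases hP with rfl | hP
    · exact ⟨α, hα, fun x hx => rfl⟩
    · exact absurd hP (not_essential_of_abelian hS F hF hab P)

/-- Over an abelian `S`, `Aut_F(S)` has order prime to `p`. -/
theorem card_autGroup_top_coprime_of_abelian [Finite S] {p : ℕ} [Fact p.Prime] (hS : IsPGroup p S)
    (F : FusionSystem S) (hF : F.IsSaturated p) (hab : ∀ x ∈ S, ∀ y ∈ S, x * y = y * x) :
    Nat.Coprime (Nat.card (F.autGroup S)) p := by
  obtain ⟨-, -, P₀, hP₀⟩ := fullyNormalized_facts hS F hF (top_fullyNormalized F)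
  rw [autInducedBy_top_eq_inn] at hP₀
  have hInn : Inn S = ⊥ := by
    rw [eq_bot_iff]
    rintro _ ⟨g, rfl⟩
    rw [Subgroup.mem_bot]
    ext x
    simp only [MulAut.conj_apply, MulAut.one_apply]
    have := hab g g.2 x x.2
    rw [Subgroup.coe_mul, Subgroup.coe_mul, this, mul_assoc]
    simp
  rw [hInn] at hP₀
  have hbot : (P₀ : Subgroup (F.autGroup S)) = ⊥ := by
    rw [hP₀]
    ext x
    simp [Subgroup.mem_subgroupOf]
  rw [Nat.coprime_comm, Nat.Prime.coprime_iff_not_dvd Fact.out]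
  intro hdvd
  exact P₀.ne_bot_of_dvd_card hdvd hbot

/-- Coprime action on an abelian group, elementwise form: `V = C_V(A) · [V, A]` and
`C_V(A) ∩ [V, A] = 1`. -/
theorem abelian_coprime {V : Type*} [CommGroup V] [Finite V] (A : Subgroup (MulAut V))
    (hcop : Nat.Coprime (Nat.card V) (Nat.card A)) :
    (∀ v : V, ∃ c w : V, (∀ a ∈ A, a c = c) ∧
      w ∈ Subgroup.closure {y : V | ∃ a ∈ A, ∃ x : V, y = x⁻¹ * a x} ∧ v = c * w) ∧
    (∀ v : V, (∀ a ∈ A, a v = v) →
      v ∈ Subgroup.closure {y : V | ∃ a ∈ A, ∃ x : V, y = x⁻¹ * a x} → v = 1) := by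
  classical
  haveI : Fintype A := Fintype.ofFinite A
  set n := Nat.card A with hn
  have hncard : Fintype.card A = n := by rw [hn, Nat.card_eq_fintype_card]
  let θ : V →* V := ∏ a : A, (a : MulAut V).toMonoidHom
  have hθ : ∀ x : V, θ x = ∏ a : A, (a : MulAut V) x := by
    intro x
    show (∏ a : A, (a : MulAut V).toMonoidHom) x = _
    rw [MonoidHom.finset_prod_apply]
    rfl
  have hθfix : ∀ b ∈ A, ∀ x : V, b (θ x) = θ x := by
    intro b hb x
    rw [hθ, map_prod]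
    exact Fintype.prod_equiv (Equiv.mulLeft (⟨b, hb⟩ : A)) _ _ (fun a => rfl)
  have hθa : ∀ a ∈ A, ∀ x : V, θ (a x) = θ x := by
    intro a ha x
    rw [hθ, hθ]
    exact Fintype.prod_equiv (Equiv.mulRight (⟨a, ha⟩ : A)) _ _ (fun b => rfl)
  have hθcl : ∀ w ∈ Subgroup.closure {y : V | ∃ a ∈ A, ∃ x : V, y = x⁻¹ * a x}, θ w = 1 := by
    intro w hw
    have : Subgroup.closure {y : V | ∃ a ∈ A, ∃ x : V, y = x⁻¹ * a x} ≤ θ.ker := by
      rw [Subgroup.closure_le]
      rintro _ ⟨a, ha, x, rfl⟩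
      show θ (x⁻¹ * a x) = 1
      rw [map_mul, map_inv, hθa a ha]
      simp
    exact this hw
  have hθc : ∀ c : V, (∀ a ∈ A, a c = c) → θ c = c ^ n := by
    intro c hc
    rw [hθ]
    have : ∀ a : A, (a : MulAut V) c = c := fun a => hc a a.2
    simp only [this, Finset.prod_const, Finset.card_univ, hncard]
  have hdecomp : ∀ x : V, x ^ n = θ x * (∏ a : A, (x⁻¹ * (a : MulAut V) x))⁻¹ := by
    intro x
    rw [Finset.prod_mul_distrib, ← hθ, Finset.prod_const, Finset.card_univ, hncard]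
    simp
  have hw'mem : ∀ x : V, (∏ a : A, (x⁻¹ * (a : MulAut V) x)) ∈
      Subgroup.closure {y : V | ∃ a ∈ A, ∃ x : V, y = x⁻¹ * a x} := by
    intro x
    apply Subgroup.prod_mem
    intro a _
    exact Subgroup.subset_closure ⟨a, a.2, x, rfl⟩
  constructor
  · intro v
    set u := (powCoprime hcop).symm v with hu
    have huv : u ^ n = v := by
      have := (powCoprime hcop).apply_symm_apply v
      rwa [powCoprime_apply] at this
    refine ⟨θ u, (∏ a : A, (u⁻¹ * (a : MulAut V) u))⁻¹, fun a ha => hθfix a ha u,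
      Subgroup.inv_mem _ (hw'mem u), ?_⟩
    rw [← huv, hdecomp u]
  · intro v hv hvcl
    have h1 : v ^ n = 1 := by rw [← hθc v hv, hθcl v hvcl]
    have h2 : (powCoprime hcop) v = (powCoprime hcop) 1 := by
      rw [powCoprime_apply, powCoprime_apply, h1, one_pow]
    exact (powCoprime hcop).injective h2

end Cfsg.Agent.Lib.Helper8_Abelian
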