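import Mathlib
import Cfsg.Prelude.Def_FusionSystem
import Cfsg.Agent.Lib.Helper8_Abelian

set_option autoImplicit false
set_option linter.style.haveILetI false
set_option linter.unusedVariables false
open Cfsg

namespace Cfsg.Agent.Lib.Helper8_Abelian2

open Cfsg.FusionSystem
open Cfsg.Agent.Lib.Helper8_Fusion
open Cfsg.Agent.Lib.Helper8_GroupFusion
open Cfsg.Agent.Lib.Helper8_Saturated
open Cfsg.Agent.Lib.Helper8_Alperin
open Cfsg.Agent.Lib.Helper8_Hyperfocal
open Cfsg.Agent.Lib.Helper8_Centric
open Cfsg.Agent.Lib.Helper8_Frobenius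
open Cfsg.Agent.Lib.Helper8_Abelian

variable {Ω : Type*} [Group Ω] {S : Subgroup Ω}

/-- A map of the system defined on `N ≥ T`, with `T` strongly closed, maps `T` onto `T`. -/
theorem map_eq_of_stronglyClosed [Finite S] (F : FusionSystem S) {T N : Subgroup Ω}
    (hT : F.StronglyClosed T) (hTN : T ≤ N) {ψ : N →* Ω} (hψ : ψ ∈ F.Hom N) :
    (T.subgroupOf N).map ψ = T := by
  haveI : Finite T := finite_of_le hT.1
  apply Subgroup.eq_of_le_of_card_ge
  · rintro _ ⟨x, hx, rfl⟩
    have hxT : (x : Ω) ∈ T := by simpa [Subgroup.mem_subgroupOf] using hx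
    exact hT.2 T le_rfl _ (restrict_mem F hTN hψ) ⟨x, hxT⟩
  · have h1 : Nat.card ((T.subgroupOf N).map ψ) = Nat.card (T.subgroupOf N) :=
      Subgroup.card_map_of_injective (F.injective_of_mem hψ)
    rw [h1]
    exact (Nat.card_congr (Subgroup.subgroupOfEquivOfLe hTN).toEquiv).ge

/-- In the inner system of an abelian subgroup all maps are inclusions. -/
theorem inner_apply_of_abelian {T : Subgroup Ω} (hab : ∀ x ∈ T, ∀ y ∈ T, x * y = y * x)
    {P : Subgroup Ω} {φ : P →* Ω} (hφ : φ ∈ (innerFusionSystem T).Hom P) (x : P) :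
    φ x = (x : Ω) := by
  obtain ⟨hP, g, hg, hφg⟩ := hφ
  rw [hφg x, hab g hg x (hP x.2)]
  group

/-- The inclusion of a subgroup of `T` is a map of the inner system of `T`. -/
theorem subtype_mem_inner {T P : Subgroup Ω} (hP : P ≤ T) :
    P.subtype ∈ (innerFusionSystem T).Hom P :=
  ⟨hP, 1, T.one_mem, fun x => by simp⟩

/-- The inner system of a finite abelian group is saturated (for any prime). -/
theorem inner_saturated_of_abelian {T : Subgroup Ω} [Finite T]
    (hab : ∀ x ∈ T, ∀ y ∈ T, x * y = y * x) (p : ℕ) [Fact p.Prime] :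
    (innerFusionSystem T).IsSaturated p := by
  intro P hP
  refine ⟨P, isConj_refl _ hP, ⟨hP, ?_⟩, hP, ?_⟩
  · have hsub : Subsingleton ((innerFusionSystem T).autGroup P) := by
      refine ⟨fun a b => ?_⟩
      have h1 : ∀ c : (innerFusionSystem T).autGroup P, (c : MulAut P) = 1 := by
        intro c
        have hc := (mem_autGroup_iff _ hP _).mp c.2
        ext x
        exact inner_apply_of_abelian hab hc x
      exact Subtype.ext ((h1 a).trans (h1 b).symm)
    haveI : Finite P := finite_of_le hP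
    obtain ⟨R⟩ : Nonempty (Sylow p ((innerFusionSystem T).autGroup P)) := inferInstance
    refine ⟨R, ?_⟩
    ext x
    have hx : x = 1 := Subsingleton.elim _ _
    rw [hx]
    exact ⟨fun _ => Subgroup.one_mem _, fun _ => Subgroup.one_mem _⟩
  · intro R φ hφ hr
    have hES : extender T R φ ≤ T := (extender_le_normalizerIn R φ).trans inf_le_left
    refine ⟨(extender T R φ).subtype, subtype_mem_inner hES, ?_⟩
    intro x hxR hxN
    rw [inner_apply_of_abelian hab hφ]
    rfl

/-- Over an abelian `S`, the inner system of a strongly closed subgroup is normal in the saturated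
system `F`. -/
theorem inner_isNormalIn_of_abelian [Finite S] {p : ℕ} [Fact p.Prime] (hS : IsPGroup p S)
    (F : FusionSystem S) (hF : F.IsSaturated p) (hab : ∀ x ∈ S, ∀ y ∈ S, x * y = y * x)
    {T : Subgroup Ω} (hT : F.StronglyClosed T) : (innerFusionSystem T).IsNormalIn F p := by
  have hTS : T ≤ S := hT.1
  haveI : Finite T := finite_of_le hTS
  have habT : ∀ x ∈ T, ∀ y ∈ T, x * y = y * x := fun x hx y hy => hab x (hTS hx) y (hTS hy)
  refine ⟨⟨inner_saturated_of_abelian habT p, hF, ?_, hT, ?_, ?_⟩, ?_⟩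
  · -- subsystem
    rintro P φ ⟨hP, g, hg, hφ⟩
    have : φ = conjHom P g := by
      ext x; rw [hφ x]; rfl
    rw [this]
    exact F.conj_mem (hP.trans hTS) (hTS hg)
  · -- invariance
    intro P hPT φ hφ α hα
    have hle : (P.subgroupOf T).map (T.subtype.comp α.toMonoidHom) ≤ T := by
      rintro _ ⟨x, -, rfl⟩
      exact (α x).2
    refine ⟨Subgroup.subtype _, subtype_mem_inner hle, ?_⟩
    intro x hφx hαx
    show ((α ⟨x, hPT x.2⟩ : T) : Ω) = ((α ⟨φ x, hφx⟩ : T) : Ω)
    congr 2
    exact Subtype.ext (inner_apply_of_abelian habT hφ x).symm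
  · -- Frattini condition
    intro P hPT φ hφ
    obtain ⟨α₀, hα₀, hα₀φ⟩ := exists_aut_top_of_abelian hS F hF hab P φ hφ
    have hα₀' : α₀ ∈ Iso F S S := (mem_autGroup_iff F le_rfl α₀).mp hα₀
    have himg := map_eq_of_stronglyClosed F hT hTS hα₀'
    have he := restrictEquiv_mem F hα₀' hTS himg
    refine ⟨restrictEquiv _ (F.injective_of_mem hα₀') hTS himg,
      (mem_autGroup_iff F hTS _).mpr he, P.subtype, subtype_mem_inner hPT, ?_⟩
    intro x hx
    rw [hα₀φ x (hTS (hPT x.2))]
    rfl
  · -- extension condition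
    intro α hα
    have hα' := (mem_autGroup_iff _ le_rfl _).mp hα
    refine ⟨1, Subgroup.one_mem _, ?_, ?_⟩
    · intro x
      exact (inner_apply_of_abelian habT hα' x).symm
    · intro c hc
      simp

end Cfsg.Agent.Lib.Helper8_Abelian2
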