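import Mathlib
import Cfsg.Prelude.Def_FusionSystem
import Cfsg.Agent.Lib.Helper8_Alperin

set_option autoImplicit false
set_option linter.style.haveILetI false
set_option linter.unusedVariables false
open Cfsg

/-!
# Alperin's fusion theorem with the induction hypothesis available
-/

namespace Cfsg.Agent.Lib.Helper8_AlperinIH

open Cfsg.FusionSystem
open Cfsg.Agent.Lib.Helper8_Fusion
open Cfsg.Agent.Lib.Helper8_GroupFusion
open Cfsg.Agent.Lib.Helper8_Saturated
open Cfsg.Agent.Lib.Helper8_Alperin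

variable {Ω : Type*} [Group Ω] {S : Subgroup Ω}

/-- Inductive step of Alperin's theorem for automorphism groups of fully normalized subgroups. -/
theorem aut_le_of_ih' [Finite S] {p : ℕ} [Fact p.Prime] (hS : IsPGroup p S)
    (F E : FusionSystem S) (hF : F.IsSaturated p)
    (hE : ∀ P : Subgroup Ω, (P = S ∨ F.IsEssential p P) →
      (∀ R : Subgroup Ω, R ≤ S → Nat.card P < Nat.card R → F.Hom R ⊆ E.Hom R) →
      F.autGroup P ≤ E.autGroup P)
    {Q : Subgroup Ω} (hQn : F.IsFullyNormalized Q)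
    (IH : ∀ R : Subgroup Ω, R ≤ S → Nat.card Q < Nat.card R → F.Hom R ⊆ E.Hom R) :
    F.autGroup Q ≤ E.autGroup Q := by
  have hQle : Q ≤ S := hQn.1
  by_cases hQS : Q = S
  · exact hE Q (Or.inl hQS) IH
  by_cases hcen : F.IsCentric Q
  · by_contra hne
    obtain ⟨hI, hemb⟩ := stronglyPEmbedded_of_extension_closed hS F hF hQn hcen hQS (E.autGroup Q)
      (by
        rintro α hα ⟨R, hQR, ψ, hcard, hψ, hext⟩
        exact aut_mem_of_extends E hQR (IH R (F.le_of_mem hψ).1 hcard hψ) hext) hne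
    exact hne (hE Q (Or.inr ⟨hcen, hQn, hI, _, hemb⟩) IH)
  · obtain ⟨hQfc, -⟩ := fullyNormalized_facts hS F hF hQn
    have hQr := receptive_of_fullyCentralized hS F hF hQfc
    have hnotle : ¬ centralizerIn S Q ≤ Q := fun h => hcen (centric_of_fullyCentralized hS F hF hQfc h)
    obtain ⟨c, hcC, hcQ⟩ := SetLike.not_le_iff_exists.mp hnotle
    intro α hα
    have hαIso : α ∈ Iso F Q Q := (mem_autGroup_iff F hQle α).mp hα
    obtain ⟨ψ, hψ, hψφ⟩ := hQr.2 Q _ hαIso (range_subtype_comp α)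
    have hQE : Q ≤ extender S Q (Q.subtype.comp α.toMonoidHom) := le_extender F hαIso
    have hcE : c ∈ extender S Q (Q.subtype.comp α.toMonoidHom) := centralizerIn_le_extender Q _ hcC
    have hES : extender S Q (Q.subtype.comp α.toMonoidHom) ≤ S :=
      (extender_le_normalizerIn Q _).trans inf_le_left
    haveI : Finite ↥(extender S Q (Q.subtype.comp α.toMonoidHom)) := finite_of_le hES
    have hlt : Q < extender S Q (Q.subtype.comp α.toMonoidHom) :=
      lt_of_le_of_ne hQE (fun h => hcQ (by rw [h]; exact hcE))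
    have hψE := IH _ hES (Set.Finite.card_lt_card (Set.toFinite _) hlt) hψ
    exact aut_mem_of_extends E hQE hψE (fun y => hψφ y y.2 (hQE y.2))

/-- **Alperin's fusion theorem** for saturated fusion systems. -/
theorem alperin_ih [Finite S] {p : ℕ} [Fact p.Prime] (hS : IsPGroup p S)
    (F : FusionSystem S) (hF : F.IsSaturated p) (E : FusionSystem S)
    (hE : ∀ P : Subgroup Ω, (P = S ∨ F.IsEssential p P) →
      (∀ R : Subgroup Ω, R ≤ S → Nat.card P < Nat.card R → F.Hom R ⊆ E.Hom R) →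
      F.autGroup P ≤ E.autGroup P) :
    F ≤ E := by
  intro P
  by_cases hPS : P ≤ S
  swap
  · intro φ hφ
    exact absurd (F.le_of_mem hφ).1 hPS
  induction' hk : Nat.card S - Nat.card P using Nat.strong_induction_on with k ih generalizing P
  have IH : ∀ R : Subgroup Ω, R ≤ S → Nat.card P < Nat.card R → F.Hom R ⊆ E.Hom R := by
    intro R hRS hcard
    have hRle : Nat.card R ≤ Nat.card S := Subgroup.card_le_of_le hRS
    exact ih (Nat.card S - Nat.card R) (by omega) R hRS rfl
  intro φ hφ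
  by_cases hPeq : P = S
  · subst hPeq
    obtain ⟨e, he, heφ⟩ := iso_of_hom F hφ (range_eq_of_hom_top F hφ)
    have heE := iso_self_of_autGroup_le F E le_rfl (hE P (Or.inl rfl) IH) he
    exact hom_of_iso_eq E heE φ (fun x => (heφ x).symm)
  · obtain ⟨e₀, he₀, he₀φ⟩ := iso_of_hom F hφ rfl
    have hP'S : φ.range ≤ S := (iso_le F he₀).2
    have hcardP' : Nat.card P = Nat.card φ.range := Nat.card_congr e₀.toEquiv
    have hP'ne : φ.range ≠ S := by
      intro h
      apply hPeq
      haveI : Finite P := finite_of_le hPS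
      apply Subgroup.eq_of_le_of_card_ge hPS
      rw [hcardP', h]
    obtain ⟨Q, hPQ, hQn⟩ := exists_fullyNormalized F hPS
    obtain ⟨-, hQa⟩ := fullyNormalized_facts hS F hF hQn
    have hQr := receptive_of_fullyNormalized hS F hF hQn
    have hP'Q : F.IsConj φ.range Q :=
      isConj_trans F (isConj_symm F ((isConj_iff_iso F).mpr ⟨e₀, he₀⟩)) hPQ
    obtain ⟨ψ₁, hψ₁, -, hψ₁img⟩ := exists_normalizer_map hS F hQa hQr hPQ
    obtain ⟨ψ₂, hψ₂, -, hψ₂img⟩ := exists_normalizer_map hS F hQa hQr hP'Q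
    have hψ₁E : ψ₁ ∈ E.Hom (normalizerIn S P) :=
      IH _ inf_le_left (card_lt_card_normalizerIn hS hPS hPeq) hψ₁
    have hψ₂E : ψ₂ ∈ E.Hom (normalizerIn S φ.range) :=
      IH _ inf_le_left (by rw [hcardP']; exact card_lt_card_normalizerIn hS hP'S hP'ne) hψ₂
    have he₁F := restrictEquiv_mem F hψ₁ (le_normalizerIn hPS) hψ₁img
    have he₁E := restrictEquiv_mem E hψ₁E (le_normalizerIn hPS) hψ₁img
    have he₂F := restrictEquiv_mem F hψ₂ (le_normalizerIn hP'S) hψ₂img
    have he₂E := restrictEquiv_mem E hψ₂E (le_normalizerIn hP'S) hψ₂img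
    set e₁ := restrictEquiv ψ₁ (F.injective_of_mem hψ₁) (le_normalizerIn hPS) hψ₁img with he₁
    set e₂ := restrictEquiv ψ₂ (F.injective_of_mem hψ₂) (le_normalizerIn hP'S) hψ₂img with he₂
    have hαF : e₁.symm.trans (e₀.trans e₂) ∈ Iso F Q Q :=
      iso_trans F (iso_symm F he₁F) (iso_trans F he₀ he₂F)
    have hcardQ : Nat.card P = Nat.card Q := Nat.card_congr e₁.toEquiv
    have hAut : F.autGroup Q ≤ E.autGroup Q :=
      aut_le_of_ih' hS F E hF hE hQn (fun R hRS hcard => IH R hRS (by rw [hcardQ]; exact hcard))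
    have hαE := iso_self_of_autGroup_le F E hQn.1 hAut hαF
    have he₀E : e₁.trans ((e₁.symm.trans (e₀.trans e₂)).trans e₂.symm) ∈ Iso E P φ.range :=
      iso_trans E he₁E (iso_trans E hαE (iso_symm E he₂E))
    have heq : e₁.trans ((e₁.symm.trans (e₀.trans e₂)).trans e₂.symm) = e₀ := by
      ext x
      simp
    rw [heq] at he₀E
    exact hom_of_iso_eq E he₀E φ (fun x => (he₀φ x).symm)


end Cfsg.Agent.Lib.Helper8_AlperinIH
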