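import Cfsg.Agent.Lib.Helper4_CoxeterA

set_option autoImplicit false

/-! The Carmichael-type presentation of the alternating groups (helper8): cardinality bound by coset
counting, modelled on `Helper4_CoxeterA`. -/

namespace Cfsg.Agent.H8Alt

open Cfsg.Agent.Lib.Helper4_CoxeterA

/-- the relators -/
def Rel (m : ℕ) : Set (FreeGroup (Fin m)) :=
  {g : FreeGroup (Fin m) | ∃ i : Fin m, i.val = 0 ∧ g = FreeGroup.of i ^ 3} ∪
    {g | ∃ i : Fin m, 1 ≤ i.val ∧ g = FreeGroup.of i ^ 2} ∪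
    {g | ∃ i j : Fin m, j.val = i.val + 1 ∧ g = (FreeGroup.of i * FreeGroup.of j) ^ 3} ∪
    {g | ∃ i j : Fin m, i.val + 1 < j.val ∧ g = (FreeGroup.of i * FreeGroup.of j) ^ 2}

abbrev Q (m : ℕ) : Type := PresentedGroup (Rel m)

/-- total generator function -/
noncomputable def xN (m j : ℕ) : Q m := if h : j < m then PresentedGroup.of ⟨j, h⟩ else 1

theorem xN_of_lt (m j : ℕ) (h : j < m) : xN m j = PresentedGroup.of ⟨j, h⟩ := by
  unfold xN; rw [dif_pos h]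

theorem xN_of_ge (m j : ℕ) (h : ¬ j < m) : xN m j = 1 := by
  unfold xN; rw [dif_neg h]

theorem Xa (m : ℕ) : xN m 0 ^ 3 = 1 := by
  by_cases h : 0 < m
  · rw [xN_of_lt m 0 h]
    have hm : FreeGroup.of (⟨0, h⟩ : Fin m) ^ 3 ∈ Rel m :=
      Or.inl (Or.inl (Or.inl ⟨⟨0, h⟩, rfl, rfl⟩))
    have := PresentedGroup.one_of_mem hm
    rw [map_pow] at this
    exact this
  · rw [xN_of_ge m 0 h, one_pow]

theorem Xb (m j : ℕ) (hj : 1 ≤ j) : xN m j * xN m j = 1 := by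
  by_cases h : j < m
  · rw [xN_of_lt m j h]
    have hm : FreeGroup.of (⟨j, h⟩ : Fin m) ^ 2 ∈ Rel m :=
      Or.inl (Or.inl (Or.inr ⟨⟨j, h⟩, hj, rfl⟩))
    have := PresentedGroup.one_of_mem hm
    rw [map_pow, pow_two] at this
    exact this
  · rw [xN_of_ge m j h, mul_one]

theorem Xc (m i : ℕ) (h : i + 1 < m) : (xN m i * xN m (i + 1)) ^ 3 = 1 := by
  have hi : i < m := by omega
  rw [xN_of_lt m i hi, xN_of_lt m (i + 1) h]
  have hm : (FreeGroup.of (⟨i, hi⟩ : Fin m) * FreeGroup.of (⟨i + 1, h⟩ : Fin m)) ^ 3 ∈ Rel m :=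
    Or.inl (Or.inr ⟨⟨i, hi⟩, ⟨i + 1, h⟩, rfl, rfl⟩)
  have := PresentedGroup.one_of_mem hm
  rw [map_pow, map_mul] at this
  exact this

theorem Xd (m i j : ℕ) (hij : i + 2 ≤ j) (hj : j < m) : (xN m i * xN m j) ^ 2 = 1 := by
  have hi : i < m := by omega
  rw [xN_of_lt m i hi, xN_of_lt m j hj]
  have hm : (FreeGroup.of (⟨i, hi⟩ : Fin m) * FreeGroup.of (⟨j, hj⟩ : Fin m)) ^ 2 ∈ Rel m :=
    Or.inr ⟨⟨i, hi⟩, ⟨j, hj⟩, by show i + 1 < j; omega, rfl⟩
  have := PresentedGroup.one_of_mem hm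
  rw [map_pow, map_mul] at this
  exact this

theorem xinv (m j : ℕ) (hj : 1 ≤ j) : (xN m j)⁻¹ = xN m j :=
  inv_eq_of_mul_eq_one_left (Xb m j hj)

theorem xcomm (m i j : ℕ) (hi : 1 ≤ i) (hij : i + 2 ≤ j) : xN m i * xN m j = xN m j * xN m i := by
  by_cases hj : j < m
  · exact comm_of_sq (Xb m i hi) (Xb m j (by omega)) (Xd m i j hij hj)
  · rw [xN_of_ge m j hj, mul_one, one_mul]

theorem xbraid (m i : ℕ) (hi : 1 ≤ i) (h : i + 1 < m) :
    xN m i * xN m (i + 1) * xN m i = xN m (i + 1) * xN m i * xN m (i + 1) :=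
  braid_of_cube (Xb m i hi) (Xb m (i + 1) (by omega)) (Xc m i h)

/-- `x_j` (j ≥ 2) inverts `x_0` -/
theorem xinv0 (m j : ℕ) (hj : 2 ≤ j) (hjm : j < m) :
    xN m j * xN m 0 = (xN m 0)⁻¹ * xN m j := by
  have h := Xd m 0 j (by omega) hjm
  rw [pow_two] at h
  have e : xN m j * xN m 0 * xN m j = (xN m 0)⁻¹ := by
    apply eq_inv_of_mul_eq_one_right
    rw [← h]; group
  calc xN m j * xN m 0 = (xN m j * xN m 0 * xN m j) * (xN m j)⁻¹ := by group
    _ = (xN m 0)⁻¹ * xN m j := by rw [e, xinv m j (by omega)]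

theorem xinv0' (m j : ℕ) (hj : 2 ≤ j) (hjm : j < m) :
    xN m j * (xN m 0)⁻¹ = xN m 0 * xN m j := by
  have h := xinv0 m j hj hjm
  calc xN m j * (xN m 0)⁻¹ = xN m 0 * ((xN m 0)⁻¹ * xN m j) * (xN m 0)⁻¹ := by group
    _ = xN m 0 * (xN m j * xN m 0) * (xN m 0)⁻¹ := by rw [h]
    _ = xN m 0 * xN m j := by group

/-- descending products `x_m x_{m-1} ⋯` in `Q (m+1)`; the letters after `x_0` are `x_0` again -/
noncomputable def uu (m : ℕ) : ℕ → Q (m + 1)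
  | 0 => 1
  | d + 1 => uu m d * xN (m + 1) (m - d)

theorem uu_zero (m : ℕ) : uu m 0 = 1 := rfl
theorem uu_succ (m d : ℕ) : uu m (d + 1) = uu m d * xN (m + 1) (m - d) := rfl

/-- `x_j` commutes with `u_d` when all letters of `u_d` have index at least `j + 2` -/
theorem comm_u (m d j : ℕ) (hj : 1 ≤ j) (h : j + 1 + d ≤ m) :
    uu m d * xN (m + 1) j = xN (m + 1) j * uu m d := by
  induction d with
  | zero => rw [uu_zero, one_mul, mul_one]
  | succ d ih =>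
    rw [uu_succ, mul_assoc, ← xcomm (m + 1) j (m - d) hj (by omega), ← mul_assoc, ih (by omega),
      mul_assoc]

/-- moving `x_0^{±1}` to the left of `u_d` when all letters of `u_d` have index at least `2` -/
theorem inv_u (m d : ℕ) (h : d + 1 ≤ m) :
    (∃ z : Q (m + 1), (z = xN (m + 1) 0 ∨ z = (xN (m + 1) 0)⁻¹) ∧
      uu m d * xN (m + 1) 0 = z * uu m d) ∧
    (∃ z : Q (m + 1), (z = xN (m + 1) 0 ∨ z = (xN (m + 1) 0)⁻¹) ∧
      uu m d * (xN (m + 1) 0)⁻¹ = z * uu m d) := by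
  induction d with
  | zero =>
    exact ⟨⟨_, Or.inl rfl, by rw [uu_zero, one_mul, mul_one]⟩,
      ⟨_, Or.inr rfl, by rw [uu_zero, one_mul, mul_one]⟩⟩
  | succ d ih =>
    obtain ⟨⟨z1, hz1, e1⟩, ⟨z2, hz2, e2⟩⟩ := ih (by omega)
    have ht : 2 ≤ m - d := by omega
    have htm : m - d < m + 1 := by omega
    constructor
    · refine ⟨z2, hz2, ?_⟩
      rw [uu_succ, mul_assoc, xinv0 (m + 1) (m - d) ht htm, ← mul_assoc, e2, mul_assoc]
    · refine ⟨z1, hz1, ?_⟩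
      rw [uu_succ, mul_assoc, xinv0' (m + 1) (m - d) ht htm, ← mul_assoc, e1, mul_assoc]

/-- `x_j` in the middle of `u_d` comes out on the left as `x_{j-1}` -/
theorem braid_u (m j : ℕ) (hj : 2 ≤ j) (hjm : j ≤ m) (d : ℕ) (hd : m + 2 ≤ d + j) (hdm : d ≤ m) :
    uu m d * xN (m + 1) j = xN (m + 1) (j - 1) * uu m d := by
  obtain ⟨k, rfl⟩ : ∃ k, d = (m + 2 - j) + k := ⟨d - (m + 2 - j), by omega⟩
  induction k with
  | zero =>
    obtain ⟨e, he⟩ : ∃ e, m + 2 - j = e + 2 := ⟨m - j, by omega⟩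
    rw [add_zero, he, uu_succ, uu_succ]
    have h1 : m - (e + 1) = j - 1 := by omega
    have h2 : m - e = j := by omega
    rw [h1, h2]
    obtain ⟨i, hi⟩ : ∃ i, j = i + 1 := ⟨j - 1, by omega⟩
    subst hi
    have hi1 : 1 ≤ i := by omega
    rw [Nat.add_sub_cancel]
    calc uu m e * xN (m + 1) (i + 1) * xN (m + 1) i * xN (m + 1) (i + 1)
        = uu m e * (xN (m + 1) (i + 1) * xN (m + 1) i * xN (m + 1) (i + 1)) := by group
      _ = uu m e * (xN (m + 1) i * xN (m + 1) (i + 1) * xN (m + 1) i) := by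
          rw [xbraid (m + 1) i hi1 (by omega)]
      _ = (uu m e * xN (m + 1) i) * xN (m + 1) (i + 1) * xN (m + 1) i := by group
      _ = xN (m + 1) i * (uu m e * xN (m + 1) (i + 1) * xN (m + 1) i) := by
          rw [comm_u m e i hi1 (by omega)]; group
  | succ k ih =>
    have hlt : m + 2 - j + k ≤ m := by omega
    rw [← add_assoc, uu_succ, mul_assoc]
    have ht1 : 1 ≤ m - (m + 2 - j + k) := by omega
    rw [xcomm (m + 1) (m - (m + 2 - j + k)) j ht1 (by omega), ← mul_assoc,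
      ih (by omega) (by omega), mul_assoc]

end Cfsg.Agent.H8Alt
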