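import Cfsg.Agent.Lib.Helper8_AltPres

set_option autoImplicit false

/-! Coset counting for the Carmichael presentation of the alternating groups (helper8). -/

namespace Cfsg.Agent.H8Alt

open Cfsg.Agent.Lib.Helper4_CoxeterA

theorem incl_rel (m : ℕ) :
    ∀ r ∈ Rel m, FreeGroup.lift (fun i : Fin m => xN (m + 1) i.val) r = 1 := by
  intro r hr
  rcases hr with ((⟨i, hi, rfl⟩ | ⟨i, hi, rfl⟩) | ⟨i, j, hij, rfl⟩) | ⟨i, j, hij, rfl⟩
  · rw [map_pow, FreeGroup.lift_apply_of, hi]; exact Xa (m + 1)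
  · rw [map_pow, FreeGroup.lift_apply_of, pow_two]; exact Xb (m + 1) _ hi
  · rw [map_pow, map_mul, FreeGroup.lift_apply_of, FreeGroup.lift_apply_of, hij]
    exact Xc (m + 1) i.val (by have := j.2; omega)
  · rw [map_pow, map_mul, FreeGroup.lift_apply_of, FreeGroup.lift_apply_of]
    exact Xd (m + 1) i.val j.val (by omega) (by have := j.2; omega)

/-- the map induced by the inclusion of generators -/
noncomputable def incl (m : ℕ) : Q m →* Q (m + 1) := PresentedGroup.toGroup (incl_rel m)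

theorem incl_of (m : ℕ) (i : Fin m) : incl m (PresentedGroup.of i) = xN (m + 1) i.val :=
  PresentedGroup.toGroup.of _

theorem x_mem (m j : ℕ) (hj : j ≠ m) : xN (m + 1) j ∈ (incl m).range := by
  by_cases h : j < m
  · exact ⟨PresentedGroup.of ⟨j, h⟩, incl_of m ⟨j, h⟩⟩
  · rw [xN_of_ge (m + 1) j (by omega)]; exact one_mem _

theorem x0inv (n : ℕ) : (xN n 0)⁻¹ = xN n 0 * xN n 0 := by
  apply inv_eq_of_mul_eq_one_left
  have := Xa n
  rw [pow_succ, pow_two] at this
  exact this

theorem rel01_gen {G : Type*} [Group G] {a b : G} (hb : b * b = 1) (h : (a * b) ^ 3 = 1) :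
    b * a * b = a⁻¹ * b * a⁻¹ ∧ b * a⁻¹ * b = a * b * a := by
  have hb' : b⁻¹ = b := inv_eq_of_mul_eq_one_left hb
  have h1 : a * (b * a * b) * (a * b) = 1 := by
    rw [← h, pow_succ, pow_two]; simp only [mul_assoc]
  have e1 : b * a * b = a⁻¹ * b * a⁻¹ := by
    calc b * a * b = a⁻¹ * (a * (b * a * b) * (a * b)) * (a * b)⁻¹ := by group
      _ = a⁻¹ * b⁻¹ * a⁻¹ := by rw [h1]; group
      _ = a⁻¹ * b * a⁻¹ := by rw [hb']
  refine ⟨e1, ?_⟩
  calc b * a⁻¹ * b = (b⁻¹ * a * b⁻¹)⁻¹ := by group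
    _ = (b * a * b)⁻¹ := by rw [hb']
    _ = (a⁻¹ * b * a⁻¹)⁻¹ := by rw [e1]
    _ = a * b⁻¹ * a := by group
    _ = a * b * a := by rw [hb']

theorem rel01 (m : ℕ) (hm : 1 ≤ m) :
    xN (m + 1) 1 * xN (m + 1) 0 * xN (m + 1) 1
        = (xN (m + 1) 0)⁻¹ * xN (m + 1) 1 * (xN (m + 1) 0)⁻¹ ∧
      xN (m + 1) 1 * (xN (m + 1) 0)⁻¹ * xN (m + 1) 1
        = xN (m + 1) 0 * xN (m + 1) 1 * xN (m + 1) 0 :=
  rel01_gen (Xb (m + 1) 1 le_rfl) (Xc (m + 1) 0 (by omega))

theorem z_mem (m : ℕ) (hm : 1 ≤ m) (z : Q (m + 1))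
    (hz : z = xN (m + 1) 0 ∨ z = (xN (m + 1) 0)⁻¹) : z ∈ (incl m).range := by
  rcases hz with rfl | rfl
  · exact x_mem m 0 (by omega)
  · exact inv_mem (x_mem m 0 (by omega))

theorem uu_top1 (m : ℕ) : uu m (m + 1) = uu m m * xN (m + 1) 0 := by
  rw [uu_succ, Nat.sub_self]

theorem uu_top2 (m : ℕ) : uu m (m + 2) = uu m m * xN (m + 1) 0 * xN (m + 1) 0 := by
  rw [uu_succ, uu_top1, show m - (m + 1) = 0 by omega]

theorem uu_top2' (m : ℕ) : uu m (m + 2) = uu m m * (xN (m + 1) 0)⁻¹ := by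
  rw [uu_top2, x0inv, mul_assoc]

/-- one step of coset enumeration -/
theorem step (m d j : ℕ) (hd : d ≤ m + 2) (hj : j ≤ m) :
    ∃ k ∈ (incl m).range, ∃ d', d' ≤ m + 2 ∧ uu m d * xN (m + 1) j = k * uu m d' := by
  rcases Nat.lt_or_ge m d with hdm | hdm
  · -- `d = m + 1` or `d = m + 2`
    rcases Nat.lt_or_ge j 2 with hj2 | hj2
    · rcases Nat.eq_zero_or_pos j with hj0 | hj0
      · subst hj0
        by_cases hd1 : d = m + 1
        · subst hd1
          refine ⟨1, one_mem _, m + 2, le_rfl, ?_⟩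
          rw [one_mul, uu_top2, uu_top1]
        · have hd2 : d = m + 2 := by omega
          subst hd2
          refine ⟨1, one_mem _, m, by omega, ?_⟩
          rw [one_mul, uu_top2, mul_assoc, mul_assoc]
          have := Xa (m + 1)
          rw [pow_succ, pow_two] at this
          rw [← mul_assoc (xN (m + 1) 0), this, mul_one]
      · have hj1 : j = 1 := by omega
        subst hj1
        obtain ⟨e, rfl⟩ : ∃ e, m = e + 1 := ⟨m - 1, by omega⟩
        obtain ⟨⟨z1, hz1, e1⟩, ⟨z2, hz2, e2⟩⟩ := inv_u (e + 1) e le_rfl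
        have hue : uu (e + 1) (e + 1) = uu (e + 1) e * xN (e + 1 + 1) 1 := by
          rw [uu_succ, show e + 1 - e = 1 by omega]
        obtain ⟨r1, r2⟩ := rel01 (e + 1) (by omega)
        by_cases hd1 : d = e + 1 + 1
        · subst hd1
          refine ⟨z2, z_mem (e + 1) (by omega) z2 hz2, e + 1 + 2, le_rfl, ?_⟩
          rw [uu_top1, uu_top2', hue]
          calc uu (e + 1) e * xN (e + 1 + 1) 1 * xN (e + 1 + 1) 0 * xN (e + 1 + 1) 1
              = uu (e + 1) e * (xN (e + 1 + 1) 1 * xN (e + 1 + 1) 0 * xN (e + 1 + 1) 1) := by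
                group
            _ = (uu (e + 1) e * (xN (e + 1 + 1) 0)⁻¹) * xN (e + 1 + 1) 1 *
                  (xN (e + 1 + 1) 0)⁻¹ := by rw [r1]; group
            _ = z2 * (uu (e + 1) e * xN (e + 1 + 1) 1 * (xN (e + 1 + 1) 0)⁻¹) := by
                rw [e2]; group
        · have hd2 : d = e + 1 + 2 := by omega
          subst hd2
          refine ⟨z1, z_mem (e + 1) (by omega) z1 hz1, e + 1 + 1, by omega, ?_⟩
          rw [uu_top1, uu_top2', hue]
          calc uu (e + 1) e * xN (e + 1 + 1) 1 * (xN (e + 1 + 1) 0)⁻¹ * xN (e + 1 + 1) 1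
              = uu (e + 1) e *
                  (xN (e + 1 + 1) 1 * (xN (e + 1 + 1) 0)⁻¹ * xN (e + 1 + 1) 1) := by group
            _ = (uu (e + 1) e * xN (e + 1 + 1) 0) * xN (e + 1 + 1) 1 * xN (e + 1 + 1) 0 := by
                rw [r2]; group
            _ = z1 * (uu (e + 1) e * xN (e + 1 + 1) 1 * xN (e + 1 + 1) 0) := by
                rw [e1]; group
    · -- `2 ≤ j`
      have hb := braid_u m j hj2 hj m (by omega) le_rfl
      have hk : xN (m + 1) (j - 1) ∈ (incl m).range := x_mem m (j - 1) (by omega)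
      by_cases hd1 : d = m + 1
      · subst hd1
        refine ⟨_, hk, m + 2, le_rfl, ?_⟩
        rw [uu_top1, uu_top2', mul_assoc, ← xinv0' (m + 1) j hj2 (by omega), ← mul_assoc, hb,
          mul_assoc]
      · have hd2 : d = m + 2 := by omega
        subst hd2
        refine ⟨_, hk, m + 1, by omega, ?_⟩
        rw [uu_top1, uu_top2', mul_assoc, ← xinv0 (m + 1) j hj2 (by omega), ← mul_assoc, hb,
          mul_assoc]
  · -- `d ≤ m`
    by_cases h1 : j + d = m
    · refine ⟨1, one_mem _, d + 1, by omega, ?_⟩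
      rw [one_mul, uu_succ, show m - d = j by omega]
    by_cases h2 : j + d = m + 1
    · obtain ⟨e, rfl⟩ : ∃ e, d = e + 1 := ⟨d - 1, by omega⟩
      refine ⟨1, one_mem _, e, by omega, ?_⟩
      rw [one_mul, uu_succ, show m - e = j by omega, mul_assoc, Xb (m + 1) j (by omega), mul_one]
    rcases Nat.lt_or_ge (j + d) m with h3 | h3
    · rcases Nat.eq_zero_or_pos j with hj0 | hj0
      · subst hj0
        obtain ⟨⟨z1, hz1, e1⟩, _⟩ := inv_u m d (by omega)
        exact ⟨z1, z_mem m (by omega) z1 hz1, d, hd, e1⟩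
      · exact ⟨_, x_mem m j (by omega), d, hd, comm_u m d j hj0 (by omega)⟩
    · have hj2 : 2 ≤ j := by omega
      exact ⟨_, x_mem m (j - 1) (by omega), d, hd, braid_u m j hj2 hj d (by omega) hdm⟩

/-- every element is `h * u_d` -/
theorem exists_decomp (m : ℕ) (w : Q (m + 1)) :
    ∃ h ∈ (incl m).range, ∃ d : ℕ, d ≤ m + 2 ∧ w = h * uu m d := by
  have hw : w ∈ Subgroup.closure (Set.range (PresentedGroup.of : Fin (m + 1) → Q (m + 1))) := by
    rw [PresentedGroup.closure_range_of]; exact Subgroup.mem_top _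
  have stepP : ∀ (x : Q (m + 1)) (j : ℕ), j ≤ m →
      (∃ h ∈ (incl m).range, ∃ d : ℕ, d ≤ m + 2 ∧ x = h * uu m d) →
      (∃ h ∈ (incl m).range, ∃ d : ℕ, d ≤ m + 2 ∧ x * xN (m + 1) j = h * uu m d) := by
    rintro x j hj ⟨h, hh, d, hd, rfl⟩
    obtain ⟨k, hk, d', hd', e⟩ := step m d j hd hj
    exact ⟨h * k, mul_mem hh hk, d', hd', by rw [mul_assoc, e, mul_assoc]⟩
  induction hw using Subgroup.closure_induction_right with
  | one => exact ⟨1, one_mem _, 0, by omega, by rw [uu_zero, mul_one]⟩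
  | mul_right x hx y hy ih =>
    obtain ⟨i, rfl⟩ := hy
    have := stepP x i.val (by have := i.2; omega) ih
    rwa [xN_of_lt (m + 1) i.val i.2] at this
  | mul_inv_cancel x hx y hy ih =>
    obtain ⟨i, rfl⟩ := hy
    have hi : (PresentedGroup.of i : Q (m + 1)) = xN (m + 1) i.val := by
      rw [xN_of_lt (m + 1) i.val i.2]
    rw [hi]
    rcases Nat.eq_zero_or_pos i.val with h0 | h0
    · rw [h0, x0inv, ← mul_assoc]
      exact stepP _ 0 (by omega) (stepP x 0 (by omega) ih)
    · rw [xinv (m + 1) i.val h0]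
      exact stepP x i.val (by have := i.2; omega) ih

theorem card_bound (m : ℕ) : Finite (Q m) ∧ 2 * Nat.card (Q m) ≤ (m + 2).factorial := by
  induction m with
  | zero =>
    have hall : ∀ w : Q 0, w = 1 := by
      intro w
      have hw : w ∈ Subgroup.closure (Set.range (PresentedGroup.of : Fin 0 → Q 0)) := by
        rw [PresentedGroup.closure_range_of]; exact Subgroup.mem_top _
      induction hw using Subgroup.closure_induction with
      | mem x hx => obtain ⟨i, _⟩ := hx; exact i.elim0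
      | one => rfl
      | mul x y _ _ hx hy => rw [hx, hy, mul_one]
      | inv x _ hx => rw [hx, inv_one]
    haveI : Subsingleton (Q 0) := ⟨fun a b => by rw [hall a, hall b]⟩
    refine ⟨inferInstance, ?_⟩
    rw [Nat.card_unique]
    decide
  | succ m ih =>
    obtain ⟨hfin, hcard⟩ := ih
    haveI := hfin
    let g : (incl m).range × Fin (m + 3) → Q (m + 1) := fun p => p.1.1 * uu m p.2
    have hg : Function.Surjective g := by
      intro w
      obtain ⟨h, hh, d, hd, rfl⟩ := exists_decomp m w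
      exact ⟨(⟨h, hh⟩, ⟨d, by omega⟩), rfl⟩
    haveI : Finite (incl m).range :=
      Finite.of_surjective (incl m).rangeRestrict (incl m).rangeRestrict_surjective
    haveI : Finite (Q (m + 1)) := Finite.of_surjective g hg
    refine ⟨inferInstance, ?_⟩
    have h1 := Nat.card_le_card_of_surjective g hg
    rw [Nat.card_prod, Nat.card_eq_fintype_card (α := Fin (m + 3)), Fintype.card_fin] at h1
    have h2 : Nat.card (incl m).range ≤ Nat.card (Q m) :=
      Nat.card_le_card_of_surjective (incl m).rangeRestrict (incl m).rangeRestrict_surjective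
    calc 2 * Nat.card (Q (m + 1)) ≤ 2 * (Nat.card (incl m).range * (m + 3)) :=
          Nat.mul_le_mul_left _ h1
      _ ≤ 2 * (Nat.card (Q m) * (m + 3)) :=
          Nat.mul_le_mul_left _ (Nat.mul_le_mul_right _ h2)
      _ = (2 * Nat.card (Q m)) * (m + 3) := by ring
      _ ≤ (m + 2).factorial * (m + 3) := Nat.mul_le_mul_right _ hcard
      _ = (m + 1 + 2).factorial := by rw [Nat.factorial_succ (m + 2)]; ring

end Cfsg.Agent.H8Alt
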