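import Cfsg.Agent.Lib.Helper8_AltPres2

set_option autoImplicit false

/-! The Carmichael presentation of the alternating groups: the isomorphism (helper8). -/

namespace Cfsg.Agent.H8Alt

open Cfsg.Agent.Lib.Helper4_CoxeterA

theorem cube_of_braid {G : Type*} [Group G] {s t : G} (hs : s * s = 1) (ht : t * t = 1)
    (h : s * t * s = t * s * t) : (s * t) ^ 3 = 1 := by
  calc (s * t) ^ 3 = (s * t * s) * (t * s * t) := by
        simp only [pow_succ, pow_zero, one_mul, mul_assoc]
    _ = (t * s * t) * (t * s * t) := by rw [h]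
    _ = t * s * (t * t) * s * t := by simp only [mul_assoc]
    _ = t * (s * s) * t := by rw [ht]; simp only [mul_assoc, mul_one]
    _ = 1 := by rw [hs, mul_one, ht]

theorem sq_of_comm {G : Type*} [Group G] {s t : G} (hs : s * s = 1) (ht : t * t = 1)
    (h : s * t = t * s) : (s * t) ^ 2 = 1 := by
  calc (s * t) ^ 2 = s * (t * s) * t := by rw [pow_two]; simp only [mul_assoc]
    _ = s * (s * t) * t := by rw [h]
    _ = (s * s) * (t * t) := by simp only [mul_assoc]
    _ = 1 := by rw [hs, ht, mul_one]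

theorem prod_simpl {G : Type*} [Group G] {s a b : G} (hs : s * s = 1) (h : s * a = a * s) :
    (s * a) * (s * b) = a * b := by
  rw [h]
  calc a * s * (s * b) = a * (s * s) * b := by simp only [mul_assoc]
    _ = a * b := by rw [hs, mul_one]

theorem tsq {G : Type*} [Group G] {a b : G} (ha : a * a = 1) (hb : b * b = 1) :
    (a * b * a) * (a * b * a) = 1 := by
  calc (a * b * a) * (a * b * a) = a * b * (a * a) * b * a := by simp only [mul_assoc]
    _ = a * (b * b) * a := by rw [ha]; simp only [mul_assoc, mul_one]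
    _ = 1 := by rw [hb, mul_one, ha]

theorem tbraid {G : Type*} [Group G] {a b c : G} (ha : a * a = 1)
    (hbc : b * c * b = c * b * c) (hac : a * c = c * a) :
    (a * b * a) * c * (a * b * a) = c * (a * b * a) * c := by
  calc (a * b * a) * c * (a * b * a) = a * b * (a * c) * a * b * a := by simp only [mul_assoc]
    _ = a * b * (c * a) * a * b * a := by rw [hac]
    _ = a * b * c * (a * a) * b * a := by simp only [mul_assoc]
    _ = a * (b * c * b) * a := by rw [ha]; simp only [mul_assoc, mul_one]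
    _ = a * (c * b * c) * a := by rw [hbc]
    _ = (a * c) * b * (c * a) := by simp only [mul_assoc]
    _ = (c * a) * b * (a * c) := by rw [hac]
    _ = c * (a * b * a) * c := by simp only [mul_assoc]

theorem tcomm {G : Type*} [Group G] {a b c : G} (hac : a * c = c * a) (hbc : b * c = c * b) :
    (a * b * a) * c = c * (a * b * a) := by
  calc (a * b * a) * c = a * b * (a * c) := by simp only [mul_assoc]
    _ = a * (b * c) * a := by rw [hac]; simp only [mul_assoc]
    _ = (a * c) * b * a := by rw [hbc]; simp only [mul_assoc]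
    _ = c * (a * b * a) := by rw [hac]; simp only [mul_assoc]

/-- the images of the generators in the Coxeter group of type `A` -/
noncomputable def yy (m i : ℕ) : (CoxeterMatrix.A (m + 2)).Group :=
  sN (m + 2) 0 * sN (m + 2) (i + 1)

theorem yy_cube0 (m : ℕ) : yy m 0 ^ 3 = 1 :=
  cube_of_braid (R1 _ _) (R1 _ _) (R3 (m + 2) 0 (by omega))

theorem yy_sq (m i : ℕ) (hi : 1 ≤ i) : yy m i ^ 2 = 1 :=
  sq_of_comm (R1 _ _) (R1 _ _) (R2 (m + 2) 0 (i + 1) (by omega))

theorem yy_braid (m i : ℕ) (hi : i + 1 ≤ m) : (yy m i * yy m (i + 1)) ^ 3 = 1 := by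
  rcases Nat.eq_zero_or_pos i with h0 | h0
  · subst h0
    have e : yy m 0 * yy m (0 + 1) =
        (sN (m + 2) 0 * sN (m + 2) 1 * sN (m + 2) 0) * sN (m + 2) 2 := by
      unfold yy; simp only [mul_assoc]
    rw [e]
    exact cube_of_braid (tsq (R1 _ _) (R1 _ _)) (R1 _ _)
      (tbraid (R1 _ _) (R3 (m + 2) 1 (by omega)) (R2 (m + 2) 0 2 (by omega)))
  · have e : yy m i * yy m (i + 1) = sN (m + 2) (i + 1) * sN (m + 2) (i + 1 + 1) :=
      prod_simpl (R1 _ _) (R2 (m + 2) 0 (i + 1) (by omega))
    rw [e]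
    exact cube_of_braid (R1 _ _) (R1 _ _) (R3 (m + 2) (i + 1) (by omega))

theorem yy_comm (m i j : ℕ) (hij : i + 2 ≤ j) : (yy m i * yy m j) ^ 2 = 1 := by
  rcases Nat.eq_zero_or_pos i with h0 | h0
  · subst h0
    have e : yy m 0 * yy m j =
        (sN (m + 2) 0 * sN (m + 2) 1 * sN (m + 2) 0) * sN (m + 2) (j + 1) := by
      unfold yy; simp only [mul_assoc]
    rw [e]
    exact sq_of_comm (tsq (R1 _ _) (R1 _ _)) (R1 _ _)
      (tcomm (R2 (m + 2) 0 (j + 1) (by omega)) (R2 (m + 2) 1 (j + 1) (by omega)))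
  · have e : yy m i * yy m j = sN (m + 2) (i + 1) * sN (m + 2) (j + 1) :=
      prod_simpl (R1 _ _) (R2 (m + 2) 0 (i + 1) (by omega))
    rw [e]
    exact sq_of_comm (R1 _ _) (R1 _ _) (R2 (m + 2) (i + 1) (j + 1) (by omega))

theorem phi_rel (m : ℕ) :
    ∀ r ∈ Rel (m + 1), FreeGroup.lift (fun i : Fin (m + 1) => yy m i.val) r = 1 := by
  intro r hr
  rcases hr with ((⟨i, hi, rfl⟩ | ⟨i, hi, rfl⟩) | ⟨i, j, hij, rfl⟩) | ⟨i, j, hij, rfl⟩
  · rw [map_pow, FreeGroup.lift_apply_of, hi]; exact yy_cube0 m
  · rw [map_pow, FreeGroup.lift_apply_of]; exact yy_sq m _ hi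
  · rw [map_pow, map_mul, FreeGroup.lift_apply_of, FreeGroup.lift_apply_of, hij]
    exact yy_braid m i.val (by have := j.2; omega)
  · rw [map_pow, map_mul, FreeGroup.lift_apply_of, FreeGroup.lift_apply_of]
    exact yy_comm m i.val j.val (by omega)

/-- the map to the Coxeter group -/
noncomputable def phi (m : ℕ) : Q (m + 1) →* (CoxeterMatrix.A (m + 2)).Group :=
  PresentedGroup.toGroup (phi_rel m)

theorem phi_of (m : ℕ) (i : Fin (m + 1)) : phi m (PresentedGroup.of i) = yy m i.val :=
  PresentedGroup.toGroup.of _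

theorem yy_mem (m j : ℕ) (hj : j ≤ m) : yy m j ∈ (phi m).range :=
  ⟨PresentedGroup.of ⟨j, by omega⟩, phi_of m ⟨j, by omega⟩⟩

theorem cover (m : ℕ) (w : (CoxeterMatrix.A (m + 2)).Group) :
    w ∈ (phi m).range ∨ w * sN (m + 2) 0 ∈ (phi m).range := by
  induction w using (csA (m + 2)).simple_induction_right with
  | one => exact Or.inl (one_mem _)
  | mul_simple_right w i ih =>
    have hi : (csA (m + 2)).simple i = sN (m + 2) (i : ℕ) := by
      rw [sN_of_lt (m + 2) i i.2]
    rw [hi]
    rcases Nat.eq_zero_or_pos i.val with h0 | h0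
    · rw [h0]
      rcases ih with ih | ih
      · right; rw [mul_assoc, R1, mul_one]; exact ih
      · left; exact ih
    · obtain ⟨j, hj⟩ : ∃ j, i.val = j + 1 := ⟨i.val - 1, by omega⟩
      have hjm : j ≤ m := by have := i.2; omega
      rw [hj]
      have hy := yy_mem m j hjm
      rcases ih with ih | ih
      · right
        have e : w * sN (m + 2) (j + 1) * sN (m + 2) 0 = w * (yy m j)⁻¹ := by
          unfold yy
          rw [mul_inv_rev, inv_eq_of_mul_eq_one_left (R1 (m + 2) 0),
            inv_eq_of_mul_eq_one_left (R1 (m + 2) (j + 1)), mul_assoc]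
        rw [e]
        exact mul_mem ih (inv_mem hy)
      · left
        have e : w * sN (m + 2) (j + 1) = (w * sN (m + 2) 0) * yy m j := by
          unfold yy
          rw [mul_assoc w, ← mul_assoc (sN (m + 2) 0), R1, one_mul]
        rw [e]
        exact mul_mem ih hy

theorem card_W (m : ℕ) : Nat.card (CoxeterMatrix.A (m + 2)).Group = (m + 3).factorial := by
  rw [Nat.card_congr (Equiv.ofBijective _ (psi_bijective (m + 2))), Nat.card_perm,
    Nat.card_eq_fintype_card, Fintype.card_fin]

theorem phi_facts (m : ℕ) :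
    Function.Injective (phi m) ∧ 2 * Nat.card (Q (m + 1)) = (m + 3).factorial := by
  obtain ⟨hfin, hcard⟩ := card_bound (m + 1)
  haveI := hfin
  haveI : Finite (phi m).range :=
    Finite.of_surjective (phi m).rangeRestrict (phi m).rangeRestrict_surjective
  let g : (phi m).range × Fin 2 → (CoxeterMatrix.A (m + 2)).Group :=
    fun p => p.1.1 * (if p.2 = 0 then 1 else sN (m + 2) 0)
  have hg : Function.Surjective g := by
    intro w
    rcases cover m w with h | h
    · exact ⟨(⟨w, h⟩, 0), by simp [g]⟩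
    · refine ⟨(⟨w * sN (m + 2) 0, h⟩, 1), ?_⟩
      show w * sN (m + 2) 0 * (if (1 : Fin 2) = 0 then 1 else sN (m + 2) 0) = w
      rw [if_neg (by decide), mul_assoc, R1, mul_one]
  have h1 := Nat.card_le_card_of_surjective g hg
  rw [Nat.card_prod, Nat.card_eq_fintype_card (α := Fin 2), Fintype.card_fin, card_W] at h1
  have h2 : Nat.card (phi m).range ≤ Nat.card (Q (m + 1)) :=
    Nat.card_le_card_of_surjective (phi m).rangeRestrict (phi m).rangeRestrict_surjective
  have h3 : Nat.card (Q (m + 1)) ≤ Nat.card (phi m).range := by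
    have : (m + 1 + 2).factorial = (m + 3).factorial := rfl
    omega
  have hb := Function.Surjective.bijective_of_nat_card_le
    (phi m).rangeRestrict_surjective h3
  refine ⟨?_, ?_⟩
  · intro a b hab
    apply hb.1
    exact Subtype.ext hab
  · have : (m + 1 + 2).factorial = (m + 3).factorial := rfl
    omega

theorem main (m : ℕ) : Nonempty (Q (m + 1) ≃* alternatingGroup (Fin (m + 3))) := by
  obtain ⟨hinj, hcard⟩ := phi_facts m
  let Psi : Q (m + 1) →* Equiv.Perm (Fin (m + 3)) := (psi (m + 2)).comp (phi m)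
  have hPsi : Function.Injective Psi := (psi_bijective (m + 2)).1.comp hinj
  let e1 : Q (m + 1) ≃* Psi.range := MonoidHom.ofInjective hPsi
  have hc : Nat.card Psi.range = Nat.card (Q (m + 1)) := (Nat.card_congr e1.toEquiv).symm
  have hidx : Psi.range.index = 2 := by
    have h := Subgroup.card_mul_index Psi.range
    rw [hc, Nat.card_perm, Nat.card_eq_fintype_card (α := Fin (m + 3)), Fintype.card_fin,
      ← hcard, mul_comm] at h
    have hpos : 0 < Nat.card (Q (m + 1)) := by
      rcases Nat.eq_zero_or_pos (Nat.card (Q (m + 1))) with h0 | h0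
      · rw [h0] at hcard
        have := Nat.factorial_pos (m + 3)
        omega
      · exact h0
    exact Nat.eq_of_mul_eq_mul_right hpos h
  have hr : Psi.range = alternatingGroup (Fin (m + 3)) :=
    Equiv.Perm.eq_alternatingGroup_of_index_eq_two hidx
  exact ⟨e1.trans (MulEquiv.subgroupCongr hr)⟩

end Cfsg.Agent.H8Alt
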