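import Mathlib

set_option autoImplicit false

namespace Cfsg.Agent.Helper8AutTwo

variable {G : Type*} [Group G]

theorem aut_pow_apply_of_pow (α : MulAut G) (c : G) (u : ℕ) (h : α c = c ^ u) (j : ℕ) :
    (α ^ j) c = c ^ (u ^ j) := by
  induction j with
  | zero => simp
  | succ j ih =>
    rw [pow_succ', MulAut.mul_apply, ih, map_pow, h, ← pow_mul, pow_succ']

/-- If `c` has order `2 ^ k` and `α c` is a power of `c`, some `2`-power of `α` fixes `c`. -/
theorem exists_two_pow_fix (α : MulAut G) (c : G) (k : ℕ) (hc : orderOf c = 2 ^ k)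
    (h : α c ∈ Subgroup.zpowers c) : ∃ j, (α ^ (2 ^ j)) c = c := by
  have hpos : 0 < orderOf c := by rw [hc]; positivity
  have hfin : IsOfFinOrder c := orderOf_pos_iff.mp hpos
  rw [← hfin.mem_powers_iff_mem_zpowers] at h
  obtain ⟨u, hu⟩ := h
  have hu' : α c = c ^ u := hu.symm
  have hord : orderOf (c ^ u) = orderOf c := by
    rw [← hu']
    exact MulEquiv.orderOf_eq α c
  have hcop : Nat.Coprime u (orderOf c) := by
    rw [hfin.orderOf_pow] at hord
    obtain ⟨d, hd⟩ : ∃ d, d = (orderOf c).gcd u := ⟨_, rfl⟩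
    rw [← hd] at hord
    have h1 : d ∣ orderOf c := hd ▸ Nat.gcd_dvd_left _ _
    obtain ⟨q, hq⟩ := h1
    have hg : 0 < d := hd ▸ Nat.gcd_pos_of_pos_left _ hpos
    have h2 : orderOf c / d = q := by
      rw [hq]
      exact Nat.mul_div_cancel_left q hg
    rw [h2] at hord
    have h3 : d = 1 := by
      have : d * q = 1 * q := by rw [← hq, one_mul, hord]
      exact Nat.eq_of_mul_eq_mul_right (by omega) this
    rw [Nat.coprime_comm]
    show (orderOf c).gcd u = 1
    rw [← hd, h3]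
  have heul := Nat.ModEq.pow_totient hcop
  have htot : ∃ j, Nat.totient (orderOf c) = 2 ^ j := by
    rw [hc]
    rcases Nat.eq_zero_or_pos k with rfl | hk
    · exact ⟨0, by simp⟩
    · exact ⟨k - 1, by rw [Nat.totient_prime_pow Nat.prime_two hk]; simp⟩
  obtain ⟨j, hj⟩ := htot
  refine ⟨j, ?_⟩
  rw [aut_pow_apply_of_pow α c u hu', ← hj]
  conv_rhs => rw [← pow_one c]
  exact pow_eq_pow_iff_modEq.mpr heul

/-- An automorphism fixing a subgroup `C` of exponent dividing `N` pointwise, where `C` has a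
single further coset `s C`, has order dividing `N`. -/
theorem aut_pow_eq_one_of_fix (β : MulAut G) (C : Subgroup G) (N : ℕ)
    (hfix : ∀ z ∈ C, β z = z) (hexp : ∀ z ∈ C, z ^ N = 1) (s : G) (hs : s ∉ C)
    (hcos : ∀ g : G, g ∈ C ∨ ∃ z ∈ C, g = s * z) : β ^ N = 1 := by
  have hfixpow : ∀ (i : ℕ), ∀ z ∈ C, (β ^ i) z = z := by
    intro i
    induction i with
    | zero => intro z _; simp
    | succ i ih => intro z hz; rw [pow_succ', MulAut.mul_apply, ih z hz, hfix z hz]
  have hβs : ∃ z ∈ C, β s = s * z := by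
    rcases hcos (β s) with h | h
    · exfalso
      have := hfix _ h
      have h2 : β s = s := β.injective this
      rw [h2] at h
      exact hs h
    · exact h
  obtain ⟨z, hz, hsz⟩ := hβs
  have hpow : ∀ i : ℕ, (β ^ i) s = s * z ^ i := by
    intro i
    induction i with
    | zero => simp
    | succ i ih =>
      rw [pow_succ', MulAut.mul_apply, ih, map_mul, hsz, hfix _ (C.pow_mem hz i), mul_assoc,
        ← pow_succ']
  ext g
  rw [MulAut.one_apply]
  rcases hcos g with h | ⟨w, hw, rfl⟩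
  · exact hfixpow N g h
  · rw [map_mul, hpow, hfixpow N w hw, hexp z hz, mul_one]

/-- Automorphism groups of `2`-groups with a "large" cyclic subgroup of index two are
`2`-groups. -/
theorem isPGroup_mulAut (c : G) (k : ℕ) (hc : orderOf c = 2 ^ k)
    (hord : ∀ g : G, g ∉ Subgroup.zpowers c → orderOf g ≠ orderOf c)
    (s : G) (hs : s ∉ Subgroup.zpowers c)
    (hcos : ∀ g : G, g ∈ Subgroup.zpowers c ∨ ∃ z ∈ Subgroup.zpowers c, g = s * z) :
    IsPGroup 2 (MulAut G) := by
  intro α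
  have hαc : α c ∈ Subgroup.zpowers c := by
    by_contra h
    exact hord _ h (MulEquiv.orderOf_eq α c)
  obtain ⟨j, hj⟩ := exists_two_pow_fix α c k hc hαc
  refine ⟨j + k, ?_⟩
  rw [pow_add, pow_mul]
  apply aut_pow_eq_one_of_fix (α ^ 2 ^ j) (Subgroup.zpowers c) (2 ^ k) ?_ ?_ s hs hcos
  · rintro _ ⟨m, rfl⟩
    rw [map_zpow, hj]
  · rintro _ ⟨m, rfl⟩
    rw [← zpow_natCast, ← zpow_mul, mul_comm, zpow_mul, zpow_natCast, ← hc, pow_orderOf_eq_one,
      one_zpow]

theorem isPGroup_mulAut_dihedral (n : ℕ) (hn : 4 ≤ n) :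
    IsPGroup 2 (MulAut (DihedralGroup (2 ^ (n - 1)))) := by
  have h8 : 2 ^ 3 ≤ 2 ^ (n - 1) := Nat.pow_le_pow_right (by norm_num) (by omega)
  have hz : ∀ g : DihedralGroup (2 ^ (n - 1)),
      g ∈ Subgroup.zpowers (DihedralGroup.r 1 : DihedralGroup (2 ^ (n - 1))) ↔
        ∃ i, g = DihedralGroup.r i := by
    intro g
    constructor
    · rintro ⟨m, rfl⟩
      exact ⟨_, DihedralGroup.r_one_zpow m⟩
    · rintro ⟨i, rfl⟩
      refine ⟨(i.cast : ℤ), ?_⟩
      show _ ^ _ = _
      rw [DihedralGroup.r_one_zpow]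
      simp
  apply isPGroup_mulAut (DihedralGroup.r 1) (n - 1) DihedralGroup.orderOf_r_one ?_
    (DihedralGroup.sr 0)
  · rw [hz]
    rintro ⟨i, hi⟩
    cases hi
  · intro g
    rcases g with i | i
    · left
      rw [hz]
      exact ⟨i, rfl⟩
    · right
      refine ⟨DihedralGroup.r i, (hz _).mpr ⟨i, rfl⟩, ?_⟩
      rw [DihedralGroup.sr_mul_r, zero_add]
  · intro g hg
    rcases g with i | i
    · exact absurd ((hz _).mpr ⟨i, rfl⟩) hg
    · rw [DihedralGroup.orderOf_sr, DihedralGroup.orderOf_r_one]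
      omega

theorem isPGroup_mulAut_quaternion (n : ℕ) (hn : 4 ≤ n) :
    IsPGroup 2 (MulAut (QuaternionGroup (2 ^ (n - 2)))) := by
  have h4 : 2 ^ 2 ≤ 2 ^ (n - 2) := Nat.pow_le_pow_right (by norm_num) (by omega)
  have : NeZero (2 ^ (n - 2)) := ⟨by positivity⟩
  have hz : ∀ g : QuaternionGroup (2 ^ (n - 2)),
      g ∈ Subgroup.zpowers (QuaternionGroup.a 1 : QuaternionGroup (2 ^ (n - 2))) ↔
        ∃ i, g = QuaternionGroup.a i := by
    intro g
    constructor
    · intro hg
      rw [← (isOfFinOrder_of_finite _).mem_powers_iff_mem_zpowers] at hg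
      obtain ⟨m, rfl⟩ := hg
      exact ⟨_, QuaternionGroup.a_one_pow m⟩
    · rintro ⟨i, rfl⟩
      refine ⟨(i.val : ℤ), ?_⟩
      show _ ^ _ = _
      rw [zpow_natCast, QuaternionGroup.a_one_pow]
      simp
  have hord : orderOf (QuaternionGroup.a 1 : QuaternionGroup (2 ^ (n - 2))) = 2 ^ (n - 1) := by
    rw [QuaternionGroup.orderOf_a_one, ← pow_succ']
    congr 1
    omega
  apply isPGroup_mulAut (QuaternionGroup.a 1) (n - 1) hord ?_
    (QuaternionGroup.xa 0)
  · rw [hz]
    rintro ⟨i, hi⟩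
    cases hi
  · intro g
    rcases g with i | i
    · left
      rw [hz]
      exact ⟨i, rfl⟩
    · right
      refine ⟨QuaternionGroup.a i, (hz _).mpr ⟨i, rfl⟩, ?_⟩
      rw [QuaternionGroup.xa_mul_a, zero_add]
  · intro g hg
    rcases g with i | i
    · exact absurd ((hz _).mpr ⟨i, rfl⟩) hg
    · rw [QuaternionGroup.orderOf_xa, QuaternionGroup.orderOf_a_one]
      omega

end Cfsg.Agent.Helper8AutTwo
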