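import Mathlib
import Cfsg.Agent.Lib.Helper3_SylowRel

set_option autoImplicit false
set_option linter.unusedVariables false

namespace Cfsg.Agent.Lib.Helper8_InducedAut

variable {G H : Type*} [Group G] [Group H]

/-- The automorphisms of `G` preserving the kernel of `π` (in both directions). -/
def kerStab (π : G →* H) : Subgroup (MulAut G) where
  carrier := {β | ∀ x, π x = 1 ↔ π (β x) = 1}
  one_mem' := fun x => Iff.rfl
  mul_mem' := by
    intro β γ hβ hγ x
    rw [MulAut.mul_apply]
    exact (hγ x).trans (hβ (γ x))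
  inv_mem' := by
    intro β hβ x
    have := hβ (β⁻¹ x)
    rw [MulAut.apply_inv_self] at this
    exact this.symm

theorem mem_kerStab {π : G →* H} {β : MulAut G} :
    β ∈ kerStab π ↔ ∀ x, π x = 1 ↔ π (β x) = 1 := Iff.rfl

/-- The endomorphism of `H` induced by an automorphism of `G` preserving `ker π`. -/
noncomputable def inducedHom (π : G →* H) (hπ : Function.Surjective π) (β : kerStab π) : H →* H :=
  π.liftOfRightInverse (Function.surjInv hπ) (Function.rightInverse_surjInv hπ)
    ⟨π.comp (β : MulAut G).toMonoidHom, by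
      intro x hx
      rw [MonoidHom.mem_ker] at hx ⊢
      exact (β.2 x).mp hx⟩

theorem inducedHom_apply (π : G →* H) (hπ : Function.Surjective π) (β : kerStab π) (x : G) :
    inducedHom π hπ β (π x) = π ((β : MulAut G) x) :=
  MonoidHom.liftOfRightInverse_comp_apply π _ _ _ x

/-- The automorphism of `H` induced by an automorphism of `G` preserving `ker π`. -/
noncomputable def inducedAut (π : G →* H) (hπ : Function.Surjective π) (β : kerStab π) : MulAut H :=
  { toFun := inducedHom π hπ β
    invFun := inducedHom π hπ β⁻¹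
    left_inv := by
      intro y
      obtain ⟨x, rfl⟩ := hπ y
      rw [inducedHom_apply, inducedHom_apply]
      simp
    right_inv := by
      intro y
      obtain ⟨x, rfl⟩ := hπ y
      rw [inducedHom_apply, inducedHom_apply]
      simp
    map_mul' := map_mul _ }

theorem inducedAut_apply (π : G →* H) (hπ : Function.Surjective π) (β : kerStab π) (x : G) :
    inducedAut π hπ β (π x) = π ((β : MulAut G) x) :=
  inducedHom_apply π hπ β x

/-- The group homomorphism `β ↦ β'` onto automorphisms of the image. -/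
noncomputable def inducedAutHom (π : G →* H) (hπ : Function.Surjective π) :
    kerStab π →* MulAut H where
  toFun := inducedAut π hπ
  map_one' := by
    ext y
    obtain ⟨x, rfl⟩ := hπ y
    rw [inducedAut_apply]
    simp
  map_mul' := by
    intro β γ
    ext y
    obtain ⟨x, rfl⟩ := hπ y
    rw [MulAut.mul_apply, inducedAut_apply, inducedAut_apply, inducedAut_apply]
    simp

theorem inducedAutHom_apply (π : G →* H) (hπ : Function.Surjective π) (β : kerStab π) (x : G) :
    inducedAutHom π hπ β (π x) = π ((β : MulAut G) x) :=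
  inducedAut_apply π hπ β x

/-- Sylow conjugation by an element of a kernel: if `B` is a `p`-subgroup whose image lies in the
image of the Sylow `p`-subgroup `P₀`, some element of the kernel conjugates `B` into `P₀`. -/
theorem exists_ker_conj_le [Finite G] {p : ℕ} [Fact p.Prime] (Φ : G →* H) (P₀ : Sylow p G)
    (B : Subgroup G) (hB : IsPGroup p B) (hBΦ : B.map Φ ≤ (P₀ : Subgroup G).map Φ) :
    ∃ κ ∈ Φ.ker, ∀ b ∈ B, κ * b * κ⁻¹ ∈ P₀ := by
  set M : Subgroup G := ((P₀ : Subgroup G).map Φ).comap Φ with hM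
  have hP₀M : (P₀ : Subgroup G) ≤ M := Subgroup.le_comap_map Φ _
  have hBM : B ≤ M := by
    intro b hb
    exact hBΦ (Subgroup.mem_map_of_mem Φ hb)
  have hidx : ¬ p ∣ (P₀ : Subgroup G).relIndex M := by
    intro h
    exact P₀.not_dvd_index (h.trans (Dvd.intro _ (Subgroup.relIndex_mul_index hP₀M)))
  obtain ⟨n, hnM, hn⟩ := Cfsg.Agent.Lib.Helper3_SylowRel.exists_conj_le_of_relIndex M
    (P₀ : Subgroup G) B hP₀M P₀.isPGroup' hidx hBM hB
  obtain ⟨π₀, hπ₀, hπ₀n⟩ := hnM
  refine ⟨π₀⁻¹ * n, ?_, ?_⟩
  · rw [MonoidHom.mem_ker, map_mul, map_inv, hπ₀n, inv_mul_cancel]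
  · intro b hb
    have h1 := hn b hb
    have h2 : π₀⁻¹ * n * b * (π₀⁻¹ * n)⁻¹ = π₀⁻¹ * (n * b * n⁻¹) * π₀ := by group
    rw [h2]
    exact Subgroup.mul_mem _ (Subgroup.mul_mem _ (Subgroup.inv_mem _ hπ₀) h1) hπ₀

end Cfsg.Agent.Lib.Helper8_InducedAut
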