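import Mathlib
import Cfsg.Prelude.Def_FusionSystem
import Cfsg.Agent.Lib.Helper8_Frobenius
import Cfsg.Agent.S5086

set_option autoImplicit false
set_option linter.style.haveILetI false
set_option linter.unusedVariables false
open Cfsg

namespace Cfsg.Agent.Lib.Helper8_Chain

open Cfsg.FusionSystem
open Cfsg.Agent.Lib.Helper8_Fusion
open Cfsg.Agent.Lib.Helper8_GroupFusion
open Cfsg.Agent.Lib.Helper8_Saturated
open Cfsg.Agent.Lib.Helper8_Alperin
open Cfsg.Agent.Lib.Helper8_Frobenius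

variable {Ω : Type*} [Group Ω] {S : Subgroup Ω}

/-- A strongly closed subgroup is normalized by `S`. -/
theorem conj_mem_of_stronglyClosed (F : FusionSystem S) {R : Subgroup Ω} (hR : F.StronglyClosed R)
    {s r : Ω} (hs : s ∈ S) (hr : r ∈ R) : s * r * s⁻¹ ∈ R :=
  hR.2 R le_rfl _ (F.conj_mem hR.1 hs) ⟨r, hr⟩

/-- Strongly closed subgroups are invariant under `Aut_F(P)`. -/
theorem aut_mem_of_stronglyClosed (F : FusionSystem S) {R P : Subgroup Ω} (hR : F.StronglyClosed R)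
    (hPS : P ≤ S) {β : MulAut P} (hβ : β ∈ F.autGroup P) {x : P} (hx : (x : Ω) ∈ R) :
    ((β x : P) : Ω) ∈ R := by
  have hβ' := (mem_autGroup_iff F hPS β).mp hβ
  exact hR.2 (P ⊓ R) inf_le_right _ (restrict_mem F inf_le_left hβ') ⟨x, ⟨x.2, hx⟩⟩

/-- Let `R ≤ S` be normalized by `S` and `P` centric radical. If for every `r ∈ N_R(P)` the
conjugation `c_r` lies in a normal `p`-subgroup `K` of `Aut_F(P)`, then `R ≤ P`. -/
theorem le_of_normal_pSubgroup [Finite S] {p : ℕ} [Fact p.Prime] (hS : IsPGroup p S)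
    (F : FusionSystem S) {R P : Subgroup Ω} (hRS : R ≤ S)
    (hRnorm : ∀ s ∈ S, ∀ r ∈ R, s * r * s⁻¹ ∈ R)
    (hPc : F.IsCentric P) (hPr : F.IsRadical p P)
    (K : Subgroup (F.autGroup P)) (hKn : K.Normal) (hKp : IsPGroup p K)
    (hK : ∀ (r : Ω) (hr : r ∈ R) (hrN : r ∈ Subgroup.normalizer (P : Set Ω)),
      (⟨P.normalizerMonoidHom ⟨r, hrN⟩, conjAut_mem F hPc.1 (hRS hr) hrN⟩ : F.autGroup P) ∈ K) :
    R ≤ P := by
  have hPS : P ≤ S := hPc.1
  have hCP : centralizerIn S P ≤ P := hPc.2 P (isConj_refl F hPS)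
  haveI : Finite P := finite_of_le hPS
  by_contra hRP
  have hPRS : P ⊔ R ≤ S := sup_le hPS hRS
  haveI : Finite ↥(P ⊔ R) := finite_of_le hPRS
  have hne : P ≠ P ⊔ R := fun h => hRP (by rw [h]; exact le_sup_right)
  obtain ⟨y, hyN, hyP⟩ := exists_mem_normalizerIn_not_mem (hS.to_le hPRS) le_sup_left hne
  have hPnR : P ≤ Subgroup.normalizer (R : Set Ω) := by
    intro u hu
    rw [Subgroup.mem_normalizer_iff]
    intro h
    constructor
    · exact hRnorm u (hPS hu) h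
    · intro hh
      have := hRnorm u⁻¹ (S.inv_mem (hPS hu)) _ hh
      have h2 : u⁻¹ * (u * h * u⁻¹) * u⁻¹⁻¹ = h := by group
      rw [h2] at this
      exact this
  have hy' : y ∈ ((P ⊔ R : Subgroup Ω) : Set Ω) := hyN.1
  rw [Subgroup.coe_mul_of_left_le_normalizer_right P R hPnR] at hy'
  obtain ⟨u, hu, r, hr, rfl⟩ := Set.mem_mul.mp hy'
  have hu' : u ∈ P := hu
  have hr' : r ∈ R := hr
  have hrN : r ∈ Subgroup.normalizer (P : Set Ω) := by
    have h1 : r = u⁻¹ * (u * r) := by group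
    rw [h1]
    exact Subgroup.mul_mem _ (Subgroup.inv_mem _ (Subgroup.le_normalizer hu')) hyN.2
  have hrP : r ∉ P := fun h => hyP (P.mul_mem hu' h)
  apply hrP
  have hrS : r ∈ S := hRS hr'
  have hle : K ≤ pCore p (F.autGroup P) := Cfsg.Agent.Lib.Helper4_PCore.le_pCore K hKn hKp
  have hInn : P.normalizerMonoidHom ⟨r, hrN⟩ ∈ Inn P := by
    rw [← hPr.2]
    exact ⟨⟨_, conjAut_mem F hPS hrS hrN⟩, hle (hK r hr' hrN), rfl⟩
  exact mem_of_conj_mem_inn hPS hCP hrS (fun y => rfl) hInn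

/-- **Chain criterion.** Let `Q` be normalized by `S` and `Cs` a chain of subgroups from `Cs 0`
to `Q = Cs n`, all invariant under every `Aut_F(P)`, with `[Cs (i+1), Q] ≤ Cs i`, and such that
automorphisms of order prime to `p` in `Aut_F(P)` fix `P ∩ Cs 0` pointwise. Then `Q` is
contained in every centric radical subgroup. -/
theorem le_of_chain [Finite S] {p : ℕ} [Fact p.Prime] (hS : IsPGroup p S)
    (F : FusionSystem S) {Q P : Subgroup Ω} (hQS : Q ≤ S)
    (hQnorm : ∀ s ∈ S, ∀ r ∈ Q, s * r * s⁻¹ ∈ Q)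
    (hPc : F.IsCentric P) (hPr : F.IsRadical p P)
    (n : ℕ) (Cs : Fin (n + 1) → Subgroup Ω) (hlast : Cs (Fin.last n) = Q)
    (hinv : ∀ (j : Fin (n + 1)) (β : MulAut P), β ∈ F.autGroup P → ∀ x : P, (x : Ω) ∈ Cs j →
      ((β x : P) : Ω) ∈ Cs j)
    (hcomm : ∀ i : Fin n, ∀ x ∈ Cs i.succ, ∀ r ∈ Q, x⁻¹ * (r * x * r⁻¹) ∈ Cs i.castSucc)
    (hbot : ∀ (β : MulAut P), β ∈ F.autGroup P → ∀ m : ℕ, Nat.Coprime m p → β ^ m = 1 →
      (∀ x : P, (x : Ω)⁻¹ * ((β x : P) : Ω) ∈ Q) →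
      (∀ i : Fin n, ∀ x : P, (x : Ω) ∈ Cs i.succ → (x : Ω)⁻¹ * ((β x : P) : Ω) ∈ Cs i.castSucc) →
      ∀ x : P, (x : Ω) ∈ Cs 0 → β x = x) :
    Q ≤ P := by
  have hPS : P ≤ S := hPc.1
  haveI : Finite P := finite_of_le hPS
  let K : Subgroup (F.autGroup P) :=
    { carrier := {β | (∀ x : P, (x : Ω)⁻¹ * (((β : MulAut P) x : P) : Ω) ∈ Q) ∧
        ∀ i : Fin n, ∀ x : P, (x : Ω) ∈ Cs i.succ →
          (x : Ω)⁻¹ * (((β : MulAut P) x : P) : Ω) ∈ Cs i.castSucc}
      one_mem' := ⟨fun x => by simp [Q.one_mem], fun i x _ => by simp [(Cs i.castSucc).one_mem]⟩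
      mul_mem' := by
        rintro β₁ β₂ ⟨h1a, h1b⟩ ⟨h2a, h2b⟩
        have h4 : ∀ x : P, (x : Ω)⁻¹ * ((((β₁ * β₂ : F.autGroup P) : MulAut P) x : P) : Ω) =
            ((x : Ω)⁻¹ * (((β₁ : MulAut P) x : P) : Ω)) *
              (((β₁ : MulAut P) (x⁻¹ * (β₂ : MulAut P) x) : P) : Ω) := by
          intro x
          have : ((β₁ * β₂ : F.autGroup P) : MulAut P) x = (β₁ : MulAut P) ((β₂ : MulAut P) x) := rfl
          rw [this, map_mul, map_inv]
          simp only [Subgroup.coe_mul, Subgroup.coe_inv]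
          group
        refine ⟨fun x => ?_, fun i x hx => ?_⟩
        · rw [h4]
          have hw : (((x⁻¹ * (β₂ : MulAut P) x : P)) : Ω) ∈ Cs (Fin.last n) := by
            rw [hlast]; exact h2a x
          have h3 := hinv (Fin.last n) β₁ β₁.2 _ hw
          rw [hlast] at h3
          exact Q.mul_mem (h1a x) h3
        · rw [h4]
          have hw : (((x⁻¹ * (β₂ : MulAut P) x : P)) : Ω) ∈ Cs i.castSucc := h2b i x hx
          exact (Cs i.castSucc).mul_mem (h1b i x hx) (hinv _ β₁ β₁.2 _ hw)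
      inv_mem' := by
        rintro β ⟨ha, hb⟩
        have h3 : ∀ x : P, (x : Ω)⁻¹ * ((((β⁻¹ : F.autGroup P) : MulAut P) x : P) : Ω) =
            ((((β : MulAut P)⁻¹ x : P) : Ω)⁻¹ *
              (((β : MulAut P) ((β : MulAut P)⁻¹ x) : P) : Ω))⁻¹ := by
          intro x
          have h2 : (β : MulAut P) ((β : MulAut P)⁻¹ x) = x := by simp
          rw [h2]
          show (x : Ω)⁻¹ * (((β : MulAut P)⁻¹ x : P) : Ω) = _
          group
        refine ⟨fun x => ?_, fun i x hx => ?_⟩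
        · rw [h3]
          exact Q.inv_mem (ha _)
        · rw [h3]
          have hy : ((((β : MulAut P)⁻¹ x : P)) : Ω) ∈ Cs i.succ :=
            hinv _ _ (Subgroup.inv_mem _ β.2) x hx
          exact (Cs i.castSucc).inv_mem (hb i _ hy) }
  have hKnormal : K.Normal := by
    constructor
    rintro β ⟨ha, hb⟩ g
    have hconj : ∀ x : P, (x : Ω)⁻¹ * ((((g * β * g⁻¹ : F.autGroup P) : MulAut P) x : P) : Ω) =
        (((g : MulAut P) (((g : MulAut P)⁻¹ x)⁻¹ * (β : MulAut P) ((g : MulAut P)⁻¹ x)) : P) : Ω) := by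
      intro x
      have h1 : ((g * β * g⁻¹ : F.autGroup P) : MulAut P) x =
          (g : MulAut P) ((β : MulAut P) ((g : MulAut P)⁻¹ x)) := rfl
      rw [h1, map_mul, map_inv]
      have h2 : (g : MulAut P) ((g : MulAut P)⁻¹ x) = x := by simp
      rw [h2]
      rfl
    refine ⟨fun x => ?_, fun i x hx => ?_⟩
    · rw [hconj]
      have h1 := hinv (Fin.last n) _ g.2 (((g : MulAut P)⁻¹ x)⁻¹ * (β : MulAut P) ((g : MulAut P)⁻¹ x))
        (by rw [hlast]; exact ha _)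
      rw [hlast] at h1
      exact h1
    · rw [hconj]
      have hy : ((((g : MulAut P)⁻¹ x : P)) : Ω) ∈ Cs i.succ :=
        hinv _ _ (Subgroup.inv_mem _ g.2) x hx
      exact hinv _ _ g.2 _ (hb i _ hy)
  have hKp : IsPGroup p K := by
    apply isPGroup_of_coprime_trivial
    rintro β ⟨ha, hb⟩ m hm hβm
    have hβm' : (β : MulAut P) ^ m = 1 := congrArg (fun z : F.autGroup P => (z : MulAut P)) hβm
    have hfix : ∀ j : Fin (n + 1), ∀ x : P, (x : Ω) ∈ Cs j → (β : MulAut P) x = x := by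
      intro j
      induction j using Fin.induction with
      | zero => exact hbot _ β.2 m hm hβm' ha hb
      | succ i ih =>
        intro x hx
        have hw : ((x⁻¹ * (β : MulAut P) x : P) : Ω) ∈ Cs i.castSucc := hb i x hx
        have h1 := eq_one_of_coprime_fix (hS.to_le hPS) (β : MulAut P) m hm hβm' x
          (x⁻¹ * (β : MulAut P) x) (by group) (ih _ hw)
        have h2 : (β : MulAut P) x = x * (x⁻¹ * (β : MulAut P) x) := by group
        rw [h2, h1, mul_one]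
    apply Subtype.ext
    show (β : MulAut P) = 1
    ext x
    have hw : ((x⁻¹ * (β : MulAut P) x : P) : Ω) ∈ Cs (Fin.last n) := by
      rw [hlast]; exact ha x
    have h1 := eq_one_of_coprime_fix (hS.to_le hPS) (β : MulAut P) m hm hβm' x
      (x⁻¹ * (β : MulAut P) x) (by group) (hfix _ _ hw)
    have h2 : (β : MulAut P) x = x * (x⁻¹ * (β : MulAut P) x) := by group
    rw [h2, h1, mul_one]
    rfl
  refine le_of_normal_pSubgroup hS F hQS hQnorm hPc hPr K hKnormal hKp ?_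
  intro r hr hrN
  refine ⟨fun x => ?_, fun i x hx => hcomm i x hx r hr⟩
  show (x : Ω)⁻¹ * (r * (x : Ω) * r⁻¹) ∈ Q
  have h1 := hQnorm (x : Ω)⁻¹ (S.inv_mem (hPS x.2)) r hr
  have h2 : (x : Ω)⁻¹ * (r * (x : Ω) * r⁻¹) = ((x : Ω)⁻¹ * r * (x : Ω)⁻¹⁻¹) * r⁻¹ := by group
  rw [h2]
  exact Q.mul_mem h1 (Q.inv_mem hr)

end Cfsg.Agent.Lib.Helper8_Chain
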