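import Cfsg.Prelude.Def_FusionComponents
import Cfsg.Agent.Lib.Helper8_Fusion

set_option autoImplicit false
open Cfsg

namespace Cfsg.Agent.Lib.Helper8_Factor

open Cfsg.FusionSystem Cfsg.Agent.Lib.Helper8_Fusion

variable {Ω : Type*} [Group Ω] {S : Subgroup Ω} {Ω' : Type*} [Group Ω']

theorem preimageAlong_le (θ : S →* Ω') (P' : Subgroup Ω') : preimageAlong θ P' ≤ S := by
  rintro _ ⟨s, _, rfl⟩
  exact s.2

theorem mem_preimageAlong (θ : S →* Ω') (P' : Subgroup Ω') {x : Ω} (hx : x ∈ S) :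
    x ∈ preimageAlong θ P' ↔ θ ⟨x, hx⟩ ∈ P' := by
  constructor
  · rintro ⟨s, hs, rfl⟩
    exact hs
  · intro h
    exact ⟨⟨x, hx⟩, h, rfl⟩

theorem map_mem_of_mem_preimageAlong (θ : S →* Ω') (P' : Subgroup Ω') (x : preimageAlong θ P') :
    θ ⟨x, preimageAlong_le θ P' x.2⟩ ∈ P' :=
  (mem_preimageAlong θ P' _).mp x.2

section Construction

variable (F : FusionSystem S) (S₀ : Subgroup Ω) (θ : S →* Ω') (S' : Subgroup Ω')

/-- The maps of the factor system with source `P'`. -/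
def factorHom (P' : Subgroup Ω') : Set (P' →* Ω') :=
  {φ' | P' ≤ S' ∧ ∃ φ ∈ F.Hom (preimageAlong θ P'), InducedAlong θ φ φ'}

variable {F S₀ θ S'}

theorem kernel_le_preimage (hker : ∀ s : S, θ s = 1 ↔ (s : Ω) ∈ S₀) (hS₀ : S₀ ≤ S) (P' : Subgroup Ω') :
    S₀ ≤ preimageAlong θ P' := by
  intro x hx
  rw [mem_preimageAlong θ P' (hS₀ hx), (hker ⟨x, hS₀ hx⟩).mpr hx]
  exact P'.one_mem

/-- A map of `F` whose source contains the strongly closed subgroup `S₀` maps `S₀` onto `S₀`;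
in particular an element with image in `S₀` lies in `S₀`. -/
theorem mem_of_map_mem [Finite S] (hS₀ : F.StronglyClosed S₀) {P : Subgroup Ω} (hle : S₀ ≤ P)
    {φ : P →* Ω} (hφ : φ ∈ F.Hom P) {u : P} (hu : φ u ∈ S₀) : (u : Ω) ∈ S₀ := by
  have hres := restrict_mem F hle hφ
  have hval : ∀ x : S₀, (φ.comp (Subgroup.inclusion hle)) x ∈ S₀ := hS₀.2 S₀ le_rfl _ hres
  have hinj : Function.Injective (φ.comp (Subgroup.inclusion hle)) := F.injective_of_mem hres
  haveI : Finite S₀ := Finite.of_injective (Subgroup.inclusion hS₀.1) (Subgroup.inclusion_injective _)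
  -- the self-map of S₀
  let f : S₀ → S₀ := fun x => ⟨(φ.comp (Subgroup.inclusion hle)) x, hval x⟩
  have hfinj : Function.Injective f := by
    intro a b hab
    apply hinj
    exact congrArg Subtype.val hab
  have hfsurj : Function.Surjective f := Finite.injective_iff_surjective.mp hfinj
  obtain ⟨s, hs⟩ := hfsurj ⟨φ u, hu⟩
  have h1 : φ (Subgroup.inclusion hle s) = φ u := congrArg Subtype.val hs
  have h2 := F.injective_of_mem hφ h1
  rw [← h2]
  exact s.2

theorem surj_onto (hrange : θ.range = S') {P' : Subgroup Ω'} (hP' : P' ≤ S') (x' : P') :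
    ∃ x : preimageAlong θ P', θ ⟨x, preimageAlong_le θ P' x.2⟩ = x' := by
  have : (x' : Ω') ∈ θ.range := by rw [hrange]; exact hP' x'.2
  obtain ⟨s, hs⟩ := this
  refine ⟨⟨s, ⟨s, ?_, rfl⟩⟩, hs⟩
  show θ s ∈ P'
  rw [hs]; exact x'.2

/-- The factor system of `F` modulo a strongly closed subgroup, read through `θ`. -/
def factorSystem [Finite S] (hS₀ : F.StronglyClosed S₀) (hker : ∀ s : S, θ s = 1 ↔ (s : Ω) ∈ S₀)
    (hrange : θ.range = S') : FusionSystem S' where
  Hom P' := factorHom F θ S' P'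
  le_of_mem := by
    rintro P' φ' ⟨hP', φ, hφ, hP, hval, hmap, hind⟩
    refine ⟨hP', ?_⟩
    intro x'
    obtain ⟨x, hx⟩ := surj_onto hrange hP' x'
    have : x' = ⟨θ ⟨x, hP x.2⟩, hmap x⟩ := Subtype.ext hx.symm
    rw [this, hind x, ← hrange]
    exact ⟨_, rfl⟩
  injective_of_mem := by
    rintro P' φ' ⟨hP', φ, hφ, hP, hval, hmap, hind⟩ a' b' hab
    obtain ⟨a, ha⟩ := surj_onto hrange hP' a'
    obtain ⟨b, hb⟩ := surj_onto hrange hP' b'
    have ea : a' = ⟨θ ⟨a, hP a.2⟩, hmap a⟩ := Subtype.ext ha.symm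
    have eb : b' = ⟨θ ⟨b, hP b.2⟩, hmap b⟩ := Subtype.ext hb.symm
    rw [ea, eb, hind a, hind b] at hab
    -- θ (φ a) = θ (φ b)
    have h1 : θ ⟨φ (a * b⁻¹), hval _⟩ = 1 := by
      have : (⟨φ (a * b⁻¹), hval _⟩ : S) = ⟨φ a, hval a⟩ * (⟨φ b, hval b⟩ : S)⁻¹ := by
        apply Subtype.ext
        simp
      rw [this, map_mul, map_inv, hab, mul_inv_cancel]
    have h2 : φ (a * b⁻¹) ∈ S₀ := (hker _).mp h1
    have h3 : ((a * b⁻¹ : preimageAlong θ P') : Ω) ∈ S₀ :=
      mem_of_map_mem hS₀ (kernel_le_preimage hker hS₀.1 P') hφ h2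
    have h4 : θ ⟨((a * b⁻¹ : preimageAlong θ P') : Ω), hP (a * b⁻¹).2⟩ = 1 := (hker _).mpr h3
    have h5 : (⟨((a * b⁻¹ : preimageAlong θ P') : Ω), hP (a * b⁻¹).2⟩ : S) =
        ⟨a, hP a.2⟩ * (⟨b, hP b.2⟩ : S)⁻¹ := by
      apply Subtype.ext
      simp
    rw [h5, map_mul, map_inv, mul_inv_eq_one] at h4
    rw [ea, eb]
    apply Subtype.ext
    exact h4
  conj_mem := by
    intro P' g' hP' hg'
    refine ⟨hP', ?_⟩
    have hg'r : g' ∈ θ.range := by rw [hrange]; exact hg'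
    obtain ⟨g, rfl⟩ := hg'r
    refine ⟨conjHom _ (g : Ω), F.conj_mem (preimageAlong_le θ P') g.2, preimageAlong_le θ P', ?_, ?_, ?_⟩
    · intro x
      show (g : Ω) * x * (g : Ω)⁻¹ ∈ S
      exact S.mul_mem (S.mul_mem g.2 (preimageAlong_le θ P' x.2)) (S.inv_mem g.2)
    · intro x
      exact map_mem_of_mem_preimageAlong θ P' x
    · intro x
      show θ g * θ ⟨x, _⟩ * (θ g)⁻¹ = θ ⟨(g : Ω) * x * (g : Ω)⁻¹, _⟩
      rw [← map_inv, ← map_mul, ← map_mul]
      rfl
  comp_mem := by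
    rintro P' Q' φ' ψ' ⟨hP', φ, hφ, hP, hval, hmap, hind⟩ ⟨hQ', ψ, hψ, hQ, hvalψ, hmapψ, hindψ⟩ hPQ
    refine ⟨hP', ?_⟩
    have hvals : ∀ x : preimageAlong θ P', φ x ∈ preimageAlong θ Q' := by
      intro x
      rw [mem_preimageAlong θ Q' (hval x), ← hind x]
      exact hPQ _
    refine ⟨ψ.comp (φ.codRestrict _ hvals), F.comp_mem hφ hψ hvals, hP, ?_, hmap, ?_⟩
    · intro x
      exact hvalψ _
    · intro x
      show ψ' ⟨φ' ⟨θ ⟨x, _⟩, _⟩, _⟩ = θ ⟨ψ ⟨φ x, _⟩, _⟩
      have h1 := hindψ ⟨φ x, hvals x⟩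
      rw [← h1]
      congr 1
      apply Subtype.ext
      exact hind x
  inv_mem := by
    rintro P' φ' ⟨hP', φ, hφ, hP, hval, hmap, hind⟩
    obtain ⟨ψ, hψ, hinv⟩ := F.inv_mem hφ
    -- injectivity of φ' (as above)
    have hinj : Function.Injective φ' := by
      intro a' b' hab
      obtain ⟨a, ha⟩ := surj_onto hrange hP' a'
      obtain ⟨b, hb⟩ := surj_onto hrange hP' b'
      have ea : a' = ⟨θ ⟨a, hP a.2⟩, hmap a⟩ := Subtype.ext ha.symm
      have eb : b' = ⟨θ ⟨b, hP b.2⟩, hmap b⟩ := Subtype.ext hb.symm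
      rw [ea, eb, hind a, hind b] at hab
      have h1 : θ ⟨φ (a * b⁻¹), hval _⟩ = 1 := by
        have : (⟨φ (a * b⁻¹), hval _⟩ : S) = ⟨φ a, hval a⟩ * (⟨φ b, hval b⟩ : S)⁻¹ := by
          apply Subtype.ext
          simp
        rw [this, map_mul, map_inv, hab, mul_inv_cancel]
      have h2 : φ (a * b⁻¹) ∈ S₀ := (hker _).mp h1
      have h3 : ((a * b⁻¹ : preimageAlong θ P') : Ω) ∈ S₀ :=
        mem_of_map_mem hS₀ (kernel_le_preimage hker hS₀.1 P') hφ h2
      have h4 : θ ⟨((a * b⁻¹ : preimageAlong θ P') : Ω), hP (a * b⁻¹).2⟩ = 1 := (hker _).mpr h3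
      have h5 : (⟨((a * b⁻¹ : preimageAlong θ P') : Ω), hP (a * b⁻¹).2⟩ : S) =
          ⟨a, hP a.2⟩ * (⟨b, hP b.2⟩ : S)⁻¹ := by
        apply Subtype.ext
        simp
      rw [h5, map_mul, map_inv, mul_inv_eq_one] at h4
      rw [ea, eb]
      apply Subtype.ext
      exact h4
    have hR' : φ'.range ≤ S' := by
      rintro _ ⟨x', rfl⟩
      obtain ⟨x, hx⟩ := surj_onto hrange hP' x'
      have : x' = ⟨θ ⟨x, hP x.2⟩, hmap x⟩ := Subtype.ext hx.symm
      rw [this, hind x, ← hrange]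
      exact ⟨_, rfl⟩
    -- the preimage of the range of φ' is the range of φ
    have hle : preimageAlong θ φ'.range ≤ φ.range := by
      intro y hy
      have hyS : y ∈ S := preimageAlong_le θ _ hy
      rw [mem_preimageAlong θ _ hyS] at hy
      obtain ⟨x', hx'⟩ := hy
      obtain ⟨x, hx⟩ := surj_onto hrange hP' x'
      have ex : x' = ⟨θ ⟨x, hP x.2⟩, hmap x⟩ := Subtype.ext hx.symm
      rw [ex, hind x] at hx'
      -- θ (φ x) = θ y, so y (φ x)⁻¹ ∈ S₀ ⊆ range φ
      have h1 : θ (⟨y, hyS⟩ * (⟨φ x, hval x⟩ : S)⁻¹) = 1 := by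
        rw [map_mul, map_inv, hx', mul_inv_cancel]
      have h2 : y * (φ x)⁻¹ ∈ S₀ := (hker _).mp h1
      -- S₀ ⊆ range φ
      have hres := restrict_mem F (kernel_le_preimage hker hS₀.1 P') hφ
      have hvalS₀ : ∀ z : S₀, (φ.comp (Subgroup.inclusion (kernel_le_preimage hker hS₀.1 P'))) z ∈ S₀ :=
        hS₀.2 S₀ le_rfl _ hres
      have hinjS₀ : Function.Injective (φ.comp (Subgroup.inclusion (kernel_le_preimage hker hS₀.1 P'))) :=
        F.injective_of_mem hres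
      haveI : Finite S₀ := Finite.of_injective (Subgroup.inclusion hS₀.1) (Subgroup.inclusion_injective _)
      let f : S₀ → S₀ := fun z =>
        ⟨(φ.comp (Subgroup.inclusion (kernel_le_preimage hker hS₀.1 P'))) z, hvalS₀ z⟩
      have hfinj : Function.Injective f := by
        intro a b hab
        apply hinjS₀
        exact congrArg Subtype.val hab
      have hfsurj : Function.Surjective f := Finite.injective_iff_surjective.mp hfinj
      obtain ⟨s, hs⟩ := hfsurj ⟨y * (φ x)⁻¹, h2⟩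
      have h3 : φ (Subgroup.inclusion (kernel_le_preimage hker hS₀.1 P') s) = y * (φ x)⁻¹ :=
        congrArg Subtype.val hs
      refine ⟨Subgroup.inclusion (kernel_le_preimage hker hS₀.1 P') s * x, ?_⟩
      rw [map_mul, h3]
      group
    refine ⟨P'.subtype.comp (MonoidHom.ofInjective hinj).symm.toMonoidHom,
      ⟨hR', ψ.comp (Subgroup.inclusion hle), restrict_mem F hle hψ, preimageAlong_le θ _, ?_, ?_, ?_⟩, ?_⟩
    · intro y
      exact (F.le_of_mem hψ).2 _
    · intro y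
      exact map_mem_of_mem_preimageAlong θ _ y
    · intro y
      obtain ⟨x, hx⟩ := hle y.2
      -- ψ y = x
      have h1 : (ψ.comp (Subgroup.inclusion hle)) y = (x : Ω) := by
        rw [← hinv x]
        show ψ _ = ψ _
        congr 1
        apply Subtype.ext
        exact hx.symm
      -- θ y = φ' (θ x)
      have h2 : (⟨θ ⟨y, preimageAlong_le θ _ y.2⟩, map_mem_of_mem_preimageAlong θ _ y⟩ : φ'.range) =
          MonoidHom.ofInjective hinj ⟨θ ⟨x, hP x.2⟩, hmap x⟩ := by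
        apply Subtype.ext
        rw [MonoidHom.ofInjective_apply, hind x]
        show θ _ = θ _
        congr 1
        apply Subtype.ext
        exact hx.symm
      show ((MonoidHom.ofInjective hinj).symm _ : Ω') = θ ⟨(ψ.comp (Subgroup.inclusion hle)) y, _⟩
      rw [h2, MulEquiv.symm_apply_apply]
      show θ _ = θ _
      congr 1
      apply Subtype.ext
      exact h1.symm
    · intro x'
      show ((MonoidHom.ofInjective hinj).symm ⟨φ' x', _⟩ : Ω') = x'
      have : (⟨φ' x', ⟨x', rfl⟩⟩ : φ'.range) = MonoidHom.ofInjective hinj x' := by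
        apply Subtype.ext
        rw [MonoidHom.ofInjective_apply]
      rw [this, MulEquiv.symm_apply_apply]

theorem factorSystem_isFactorSystem [Finite S] (hS₀ : F.StronglyClosed S₀)
    (hker : ∀ s : S, θ s = 1 ↔ (s : Ω) ∈ S₀) (hrange : θ.range = S') :
    F.IsFactorSystem S₀ θ (factorSystem hS₀ hker hrange) :=
  ⟨hS₀.1, hker, hrange, fun _ _ => Iff.rfl⟩

end Construction

end Cfsg.Agent.Lib.Helper8_Factor
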