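import Mathlib
import Cfsg.Prelude.Def_FusionComponents
import Cfsg.Agent.Lib.Helper8_Factor

set_option autoImplicit false
set_option linter.style.haveILetI false
set_option linter.unusedVariables false
open Cfsg

namespace Cfsg.Agent.Lib.Helper8_Factor2

open Cfsg.FusionSystem Cfsg.Agent.Lib.Helper8_Fusion Cfsg.Agent.Lib.Helper8_Factor

variable {Ω : Type*} [Group Ω] {S : Subgroup Ω} {Ω' : Type*} [Group Ω']

/-- A map of `F` defined on the full preimage of `P'` induces a homomorphism on `P'`. -/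
theorem exists_induced {F : FusionSystem S} {S₀ : Subgroup Ω} {θ : S →* Ω'} {S' : Subgroup Ω'}
    (hS₀ : F.StronglyClosed S₀) (hker : ∀ s : S, θ s = 1 ↔ (s : Ω) ∈ S₀) (hrange : θ.range = S')
    {P' : Subgroup Ω'} (hP' : P' ≤ S') {φ : preimageAlong θ P' →* Ω}
    (hφ : φ ∈ F.Hom (preimageAlong θ P')) : ∃ φ' : P' →* Ω', InducedAlong θ φ φ' := by
  have hP : preimageAlong θ P' ≤ S := preimageAlong_le θ P'
  have hval : ∀ x : preimageAlong θ P', φ x ∈ S := (F.le_of_mem hφ).2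
  have hmap : ∀ x : preimageAlong θ P', θ ⟨x, hP x.2⟩ ∈ P' := map_mem_of_mem_preimageAlong θ P'
  let π : preimageAlong θ P' →* P' :=
    (θ.comp (Subgroup.inclusion hP)).codRestrict P' hmap
  have hπsurj : Function.Surjective π := by
    intro x'
    obtain ⟨x, hx⟩ := surj_onto hrange hP' x'
    exact ⟨x, Subtype.ext hx⟩
  let f : preimageAlong θ P' →* Ω' := θ.comp (φ.codRestrict S hval)
  have hkerle : π.ker ≤ f.ker := by
    intro x hx
    rw [MonoidHom.mem_ker] at hx ⊢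
    have h1 : θ ⟨x, hP x.2⟩ = 1 := congrArg Subtype.val hx
    have h2 : (x : Ω) ∈ S₀ := (hker _).mp h1
    have hle : S₀ ≤ preimageAlong θ P' := kernel_le_preimage hker hS₀.1 P'
    have h3 := hS₀.2 S₀ le_rfl _ (restrict_mem F hle hφ) ⟨x, h2⟩
    have h4 : φ x ∈ S₀ := h3
    exact (hker ⟨φ x, hval x⟩).mpr h4
  refine ⟨π.liftOfRightInverse (Function.surjInv hπsurj) (Function.rightInverse_surjInv hπsurj)
    ⟨f, hkerle⟩, hP, hval, hmap, ?_⟩
  intro x
  exact MonoidHom.liftOfRightInverse_comp_apply π _ _ ⟨f, hkerle⟩ x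

/-- If all maps of the factor system `E = F/S₀` are inclusions, every map of `F` defined on a
subgroup containing `S₀` acts trivially modulo `S₀`. -/
theorem theta_map_eq_of_trivial {F : FusionSystem S} {S₀ : Subgroup Ω} {θ : S →* Ω'}
    {S' : Subgroup Ω'} {E : FusionSystem S'} (hS₀ : F.StronglyClosed S₀)
    (hE : F.IsFactorSystem S₀ θ E)
    (htriv : ∀ (P' : Subgroup Ω') (φ' : P' →* Ω'), φ' ∈ E.Hom P' → ∀ x' : P', φ' x' = x')
    {N : Subgroup Ω} (hS₀N : S₀ ≤ N) {ψ : N →* Ω} (hψ : ψ ∈ F.Hom N) (x : N) :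
    θ ⟨ψ x, (F.le_of_mem hψ).2 x⟩ = θ ⟨x, (F.le_of_mem hψ).1 x.2⟩ := by
  obtain ⟨-, hker, hrange, hiff⟩ := hE
  have hNS : N ≤ S := (F.le_of_mem hψ).1
  set P' : Subgroup Ω' := (N.subgroupOf S).map θ with hP'def
  have hP'S' : P' ≤ S' := by
    rintro _ ⟨s, -, rfl⟩
    rw [← hrange]; exact ⟨s, rfl⟩
  have hle : preimageAlong θ P' ≤ N := by
    intro y hy
    have hyS : y ∈ S := preimageAlong_le θ _ hy
    rw [mem_preimageAlong θ _ hyS] at hy
    obtain ⟨n, hn, hny⟩ := hy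
    have hnN : (n : Ω) ∈ N := by simpa [Subgroup.mem_subgroupOf] using hn
    have h1 : θ (⟨y, hyS⟩ * n⁻¹) = 1 := by
      rw [map_mul, map_inv, hny, mul_inv_cancel]
    have h2 : y * (n : Ω)⁻¹ ∈ S₀ := (hker _).mp h1
    have h3 : y = (y * (n : Ω)⁻¹) * n := by group
    rw [h3]
    exact N.mul_mem (hS₀N h2) hnN
  have hxpre : (x : Ω) ∈ preimageAlong θ P' := by
    rw [mem_preimageAlong θ _ (hNS x.2)]
    exact ⟨⟨x, hNS x.2⟩, by simp [Subgroup.mem_subgroupOf], rfl⟩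
  have hψ' := restrict_mem F hle hψ
  obtain ⟨φ', hφ'⟩ := exists_induced hS₀ hker hrange hP'S' hψ'
  have hφ'E : φ' ∈ E.Hom P' := (hiff P' φ').mpr ⟨hP'S', _, hψ', hφ'⟩
  obtain ⟨hP, hval, hmap, hind⟩ := hφ'
  have h1 := hind ⟨x, hxpre⟩
  rw [htriv P' φ' hφ'E] at h1
  exact h1.symm

end Cfsg.Agent.Lib.Helper8_Factor2
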