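import Mathlib
import Cfsg.Prelude.Def_FusionSystem
import Cfsg.Agent.Lib.Helper8_Alperin
import Cfsg.Agent.Lib.Helper5_SE
import Cfsg.Agent.Lib.Helper7_Basic

set_option autoImplicit false
set_option linter.style.haveILetI false
set_option linter.unusedVariables false
open Cfsg

namespace Cfsg.Agent.Lib.Helper8_Essential

open Cfsg.FusionSystem
open Cfsg.Agent.Lib.Helper8_Fusion
open Cfsg.Agent.Lib.Helper8_GroupFusion
open Cfsg.Agent.Lib.Helper8_Saturated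
open Cfsg.Agent.Lib.Helper8_Alperin

variable {Ω : Type*} [Group Ω] {S : Subgroup Ω}

/-- If `P < S` is fully normalized and centric and `Out_F(P)` has a strongly `p`-embedded subgroup
`M`, then the images in `Out_F(P)` of all automorphisms of `P` which extend to strictly larger
subgroups lie in one conjugate of `M`. -/
theorem extendable_le_conj [Finite S] {p : ℕ} [Fact p.Prime] (hS : IsPGroup p S)
    (F : FusionSystem S) (hF : F.IsSaturated p) {P : Subgroup Ω} (hPn : F.IsFullyNormalized P)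
    (hPc : F.IsCentric P)
    (hI : ((Inn P).subgroupOf (F.autGroup P)).Normal)
    (M : Subgroup (F.autGroup P ⧸ (Inn P).subgroupOf (F.autGroup P)))
    (hM : IsStronglyPEmbedded p M) :
    ∃ c : F.autGroup P ⧸ (Inn P).subgroupOf (F.autGroup P),
      ∀ (α : MulAut P) (hα : α ∈ F.autGroup P),
        (∃ (Q : Subgroup Ω) (hPQ : P < Q) (φ : Q →* Ω), φ ∈ F.Hom Q ∧
          ∀ x : P, φ (Subgroup.inclusion hPQ.le x) = ((α x : P) : Ω)) →
        c⁻¹ * (QuotientGroup.mk' ((Inn P).subgroupOf (F.autGroup P)) ⟨α, hα⟩) * c ∈ M := by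
  have hPS : P ≤ S := hPn.1
  haveI : Finite P := finite_of_le hPS
  obtain ⟨-, hPa⟩ := fullyNormalized_facts hS F hF hPn
  have hCP : centralizerIn S P ≤ P := hPc.2 P (isConj_refl F hPS)
  have hAle := autInducedBy_le_autGroup F hPS
  obtain ⟨-, R₀, hR₀⟩ := hPa
  let π := QuotientGroup.mk' ((Inn P).subgroupOf (F.autGroup P))
  have hπsurj : Function.Surjective π := QuotientGroup.mk'_surjective _
  let P₀ := R₀.mapSurjective hπsurj
  have hP₀ : P₀.toSubgroup = ((autInducedBy S P).subgroupOf (F.autGroup P)).map π := by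
    rw [← hR₀]; rfl
  have hker : ∀ a : F.autGroup P, π a = 1 ↔ (a : MulAut P) ∈ Inn P := by
    intro a
    rw [show π a = 1 ↔ a ∈ (Inn P).subgroupOf (F.autGroup P) from QuotientGroup.eq_one_iff a]
    rfl
  obtain ⟨P₁, -, hP₁M, -⟩ := Cfsg.Agent.Lib.Helper5_SE.exists_sylow hM
  obtain ⟨c, hc⟩ := MulAction.exists_smul_eq (F.autGroup P ⧸ (Inn P).subgroupOf (F.autGroup P)) P₁ P₀
  have hcmem : ∀ x, x ∈ P₀.toSubgroup → c⁻¹ * x * c ∈ M := by
    intro x hx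
    apply hP₁M
    have : x ∈ c • P₁ := by rw [hc]; exact hx
    exact (Cfsg.Agent.Lib.Helper7_Basic.mem_smul_sylow c x P₁).mp this
  refine ⟨c, ?_⟩
  rintro α hα ⟨Q, hPQ, φ, hφ, hφα⟩
  have hQS : Q ≤ S := (F.le_of_mem hφ).1
  haveI : Finite Q := finite_of_le hQS
  obtain ⟨r, hrN, hrP⟩ := exists_mem_normalizerIn_not_mem (hS.to_le hQS) hPQ.le hPQ.ne
  have hrQ : r ∈ Q := hrN.1
  have hrS : r ∈ S := hQS hrQ
  -- the automorphism c_r and its class t
  have hcr : P.normalizerMonoidHom ⟨r, hrN.2⟩ ∈ autInducedBy S P := by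
    rw [mem_autInducedBy_iff]
    exact ⟨r, hrS, hrN.2, fun y => rfl⟩
  let a : F.autGroup P := ⟨_, hAle hcr⟩
  have htP₀ : π a ∈ P₀.toSubgroup := by
    rw [hP₀]; exact ⟨a, hcr, rfl⟩
  have ht1 : π a ≠ 1 := by
    intro h1
    rw [hker] at h1
    exact hrP (mem_of_conj_mem_inn hPS hCP hrS (fun y => rfl) h1)
  -- the conjugate α c_r α⁻¹ = c_{φ r}
  have hφrS : φ ⟨r, hrQ⟩ ∈ S := (F.le_of_mem hφ).2 _
  have hconj : ∀ y : P, ((((⟨α, hα⟩ : F.autGroup P) * a * (⟨α, hα⟩ : F.autGroup P)⁻¹ : F.autGroup P) :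
      MulAut P) y : Ω) = φ ⟨r, hrQ⟩ * (y : Ω) * (φ ⟨r, hrQ⟩)⁻¹ := by
    intro y
    have h1 : ((((⟨α, hα⟩ : F.autGroup P) * a * (⟨α, hα⟩ : F.autGroup P)⁻¹ : F.autGroup P) :
        MulAut P) y) = α ((P.normalizerMonoidHom ⟨r, hrN.2⟩) (α⁻¹ y)) := rfl
    rw [h1]
    set x := α⁻¹ y with hx
    have hy : y = α x := by rw [hx]; simp
    have hrx : r * (x : Ω) * r⁻¹ ∈ P := ((P.normalizerMonoidHom ⟨r, hrN.2⟩) x).2
    have h2 : (P.normalizerMonoidHom ⟨r, hrN.2⟩) x = ⟨r * (x : Ω) * r⁻¹, hrx⟩ := rfl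
    rw [h2, ← hφα, hy, ← hφα x, ← map_inv, ← map_mul, ← map_mul]
    rfl
  have hφrN : φ ⟨r, hrQ⟩ ∈ Subgroup.normalizer (P : Set Ω) := by
    haveI : Finite ((P : Set Ω)) := ‹Finite P›
    apply Subgroup.mem_normalizer_fintype
    intro y hy
    rw [← hconj ⟨y, hy⟩]
    exact (((((⟨α, hα⟩ : F.autGroup P) * a * (⟨α, hα⟩ : F.autGroup P)⁻¹ : F.autGroup P) :
      MulAut P) ⟨y, hy⟩)).2
  have hconjA : (((⟨α, hα⟩ : F.autGroup P) * a * (⟨α, hα⟩ : F.autGroup P)⁻¹ : F.autGroup P) :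
      MulAut P) ∈ autInducedBy S P := by
    rw [mem_autInducedBy_iff]
    exact ⟨_, hφrS, hφrN, hconj⟩
  have hconjP₀ : π ⟨α, hα⟩ * π a * (π ⟨α, hα⟩)⁻¹ ∈ P₀.toSubgroup := by
    rw [hP₀]
    refine ⟨(⟨α, hα⟩ : F.autGroup P) * a * (⟨α, hα⟩ : F.autGroup P)⁻¹, ?_, ?_⟩
    · rw [SetLike.mem_coe, Subgroup.mem_subgroupOf]
      exact hconjA
    · rw [map_mul, map_mul, map_inv]
  -- apply control of fusion by M
  set abar := π ⟨α, hα⟩ with habar
  set t := π a with ht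
  let T₁ : Subgroup (F.autGroup P ⧸ (Inn P).subgroupOf (F.autGroup P)) :=
    Subgroup.zpowers (c⁻¹ * t * c)
  have hT₁M : T₁ ≤ M := by
    rw [Subgroup.zpowers_le]
    exact hcmem t htP₀
  have hT₁p : IsPGroup p T₁ := by
    have h1 : T₁ ≤ P₁.toSubgroup := by
      rw [Subgroup.zpowers_le]
      have : t ∈ c • P₁ := by rw [hc]; exact htP₀
      exact (Cfsg.Agent.Lib.Helper7_Basic.mem_smul_sylow c t P₁).mp this
    exact P₁.isPGroup'.to_le h1
  have hT₁ne : T₁ ≠ ⊥ := by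
    intro h
    have h1 : c⁻¹ * t * c ∈ T₁ := Subgroup.mem_zpowers _
    rw [h, Subgroup.mem_bot] at h1
    apply ht1
    have : t = c * (c⁻¹ * t * c) * c⁻¹ := by group
    rw [this, h1]; group
  have hg : T₁.map (MulAut.conj (c⁻¹ * abar * c)).toMonoidHom ≤ M := by
    rw [MonoidHom.map_zpowers, Subgroup.zpowers_le]
    have h1 : (MulAut.conj (c⁻¹ * abar * c)).toMonoidHom (c⁻¹ * t * c) =
        c⁻¹ * (abar * t * abar⁻¹) * c := by
      simp only [MulEquiv.coe_toMonoidHom, MulAut.conj_apply]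
      group
    rw [h1]
    exact hcmem _ hconjP₀
  exact Cfsg.Agent.Lib.Helper5_SE.mem_of_conj_le hM hT₁M hT₁p hT₁ne hg

end Cfsg.Agent.Lib.Helper8_Essential
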