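import Mathlib
import Cfsg.Prelude.Def_FusionSystem
import Cfsg.Agent.Lib.Helper8_Essential
import Cfsg.Agent.Lib.Helper8_Abelian

set_option autoImplicit false
set_option linter.style.haveILetI false
set_option linter.unusedVariables false
open Cfsg

namespace Cfsg.Agent.Lib.Helper8_Generating

open Cfsg.FusionSystem
open Cfsg.Agent.Lib.Helper8_Fusion
open Cfsg.Agent.Lib.Helper8_GroupFusion
open Cfsg.Agent.Lib.Helper8_Saturated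
open Cfsg.Agent.Lib.Helper8_Alperin
open Cfsg.Agent.Lib.Helper8_Essential
open Cfsg.Agent.Lib.Helper8_Abelian

variable {Ω : Type*} [Group Ω] {S : Subgroup Ω}

/-- The inclusion of a subgroup of `S` is a map of the system. -/
theorem subtype_mem (F : FusionSystem S) {N : Subgroup Ω} (hN : N ≤ S) : N.subtype ∈ F.Hom N := by
  have h := F.conj_mem hN S.one_mem
  have : N.subtype = conjHom N 1 := by
    ext x
    show (x : Ω) = 1 * (x : Ω) * 1⁻¹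
    simp
  rw [this]; exact h

/-- An isomorphism `P₁ ≃* Q` is admissible if it is induced by a map of the system defined on all of
`N_S(P₁)`. -/
def Adm (F : FusionSystem S) {P₁ Q : Subgroup Ω} (γ : P₁ ≃* Q) : Prop :=
  ∃ (hP₁ : P₁ ≤ S) (ψ : normalizerIn S P₁ →* Ω), ψ ∈ F.Hom (normalizerIn S P₁) ∧
    ∀ x : P₁, ψ ⟨x, le_normalizerIn hP₁ x.2⟩ = ((γ x : Q) : Ω)

theorem Adm.iso {F : FusionSystem S} {P₁ Q : Subgroup Ω} {γ : P₁ ≃* Q} (h : Adm F γ) :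
    γ ∈ Iso F P₁ Q := by
  obtain ⟨hP₁, ψ, hψ, hψγ⟩ := h
  have h1 := restrict_mem F (le_normalizerIn hP₁) hψ
  have : Q.subtype.comp γ.toMonoidHom = ψ.comp (Subgroup.inclusion (le_normalizerIn hP₁)) := by
    ext x
    exact (hψγ x).symm
  show Q.subtype.comp γ.toMonoidHom ∈ F.Hom P₁
  rw [this]; exact h1

theorem adm_refl (F : FusionSystem S) {Q : Subgroup Ω} (hQ : Q ≤ S) : Adm F (MulEquiv.refl Q) :=
  ⟨hQ, _, subtype_mem F inf_le_left, fun x => rfl⟩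

theorem exists_adm [Finite S] {p : ℕ} [Fact p.Prime] (hS : IsPGroup p S)
    (F : FusionSystem S) (hF : F.IsSaturated p) {Q : Subgroup Ω} (hQn : F.IsFullyNormalized Q)
    {P₁ : Subgroup Ω} (h : F.IsConj P₁ Q) : ∃ γ : P₁ ≃* Q, Adm F γ := by
  obtain ⟨-, hQa⟩ := fullyNormalized_facts hS F hF hQn
  have hQr := receptive_of_fullyNormalized hS F hF hQn
  obtain ⟨φ, hφ, -, himg⟩ := exists_normalizer_map hS F hQa hQr h
  have hP₁ : P₁ ≤ S := (isConj_le F h).1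
  exact ⟨restrictEquiv φ (F.injective_of_mem hφ) (le_normalizerIn hP₁) himg, hP₁, φ, hφ,
    fun x => rfl⟩

/-- **Key lemma**: the transport to `Q` (along admissible isomorphisms) of the restriction to a
proper subgroup `P₁ < P` of a map defined on `P` is an automorphism of `Q` extending to a strictly
larger subgroup. -/
theorem transport_mem_of_lt [Finite S] {p : ℕ} [Fact p.Prime] (hS : IsPGroup p S)
    (F : FusionSystem S) {Q : Subgroup Ω} (H' : Subgroup (MulAut Q))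
    (hH' : ∀ α ∈ F.autGroup Q, (∃ (Q' : Subgroup Ω) (hQQ' : Q < Q') (φ : Q' →* Ω), φ ∈ F.Hom Q' ∧
      ∀ x : Q, φ (Subgroup.inclusion hQQ'.le x) = ((α x : Q) : Ω)) → α ∈ H')
    {P P₁ P₂ : Subgroup Ω} (hP₁ : P₁ ≤ P) (hne : P₁ ≠ P) {φ : P →* Ω} (hφ : φ ∈ F.Hom P)
    {γ₁ : P₁ ≃* Q} {γ₂ : P₂ ≃* Q} (h₁ : Adm F γ₁) (h₂ : Adm F γ₂)
    (hP₂ : ∀ x : P₁, φ (Subgroup.inclusion hP₁ x) ∈ P₂) :
    ∃ β ∈ H', ∀ x : P₁, β (γ₁ x) = γ₂ ⟨φ (Subgroup.inclusion hP₁ x), hP₂ x⟩ := by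
  have hPS : P ≤ S := (F.le_of_mem hφ).1
  haveI : Finite P := finite_of_le hPS
  have hγ₁ := h₁.iso
  have hγ₂ := h₂.iso
  obtain ⟨hP₁S, ψ₁, hψ₁, hψ₁γ⟩ := h₁
  obtain ⟨hP₂S, ψ₂, hψ₂, hψ₂γ⟩ := h₂
  have hQS : Q ≤ S := (iso_le F hγ₁).2
  haveI : Finite P₁ := finite_of_le hP₁S
  haveI : Finite P₂ := finite_of_le hP₂S
  haveI : Finite Q := finite_of_le hQS
  -- the isomorphism `P₁ ≃* P₂` induced by `φ`
  let f : P₁ →* P₂ := (φ.comp (Subgroup.inclusion hP₁)).codRestrict P₂ hP₂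
  have hfinj : Function.Injective f := by
    intro x y hxy
    have h1 : φ (Subgroup.inclusion hP₁ x) = φ (Subgroup.inclusion hP₁ y) :=
      congrArg (fun z : P₂ => (z : Ω)) hxy
    exact Subgroup.inclusion_injective hP₁ (F.injective_of_mem hφ h1)
  have hcard : Nat.card P₂ ≤ Nat.card P₁ := by
    rw [Nat.card_congr γ₁.toEquiv, Nat.card_congr γ₂.toEquiv]
  have hfbij : Function.Bijective f := hfinj.bijective_of_nat_card_le hcard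
  let e : P₁ ≃* P₂ := MulEquiv.ofBijective f hfbij
  have he : e ∈ Iso F P₁ P₂ := by
    have h1 := restrict_mem F hP₁ hφ
    have : P₂.subtype.comp e.toMonoidHom = φ.comp (Subgroup.inclusion hP₁) := by
      ext x; rfl
    show P₂.subtype.comp e.toMonoidHom ∈ F.Hom P₁
    rw [this]; exact h1
  let β : MulAut Q := γ₁.symm.trans (e.trans γ₂)
  have hβIso : β ∈ Iso F Q Q := iso_trans F (iso_symm F hγ₁) (iso_trans F he hγ₂)
  have hβ : ∀ x : P₁, β (γ₁ x) = γ₂ ⟨φ (Subgroup.inclusion hP₁ x), hP₂ x⟩ := by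
    intro x
    show γ₂ (e (γ₁.symm (γ₁ x))) = _
    rw [MulEquiv.symm_apply_apply]
    rfl
  refine ⟨β, ?_, hβ⟩
  apply hH' β ((mem_autGroup_iff F hQS β).mpr hβIso)
  -- the extension
  set N₁ := normalizerIn P P₁ with hN₁
  have hN₁P : N₁ ≤ P := inf_le_left
  have hN₁S : N₁ ≤ normalizerIn S P₁ := fun x hx => ⟨hPS hx.1, hx.2⟩
  have hP₁N₁ : P₁ ≤ N₁ := le_normalizerIn hP₁
  set ψ₁' : N₁ →* Ω := ψ₁.comp (Subgroup.inclusion hN₁S) with hψ₁'def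
  have hψ₁' : ψ₁' ∈ F.Hom N₁ := restrict_mem F hN₁S hψ₁
  obtain ⟨ψi, hψi, hψiψ⟩ := F.inv_mem hψ₁'
  have hψiN : ∀ y : ψ₁'.range, ψi y ∈ N₁ := by
    rintro ⟨_, n, rfl⟩
    rw [hψiψ n]; exact n.2
  set φ' : N₁ →* Ω := φ.comp (Subgroup.inclusion hN₁P) with hφ'def
  have hφ' : φ' ∈ F.Hom N₁ := restrict_mem F hN₁P hφ
  have hφ'N : ∀ n : N₁, φ' n ∈ normalizerIn S P₂ := by
    intro n
    refine ⟨(F.le_of_mem hφ').2 n, ?_⟩
    haveI : Finite ((P₂ : Set Ω)) := ‹Finite P₂›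
    apply Subgroup.mem_normalizer_fintype
    intro y hy
    obtain ⟨x, hx⟩ := hfbij.2 ⟨y, hy⟩
    have hyx : y = φ (Subgroup.inclusion hP₁ x) := (congrArg (fun z : P₂ => (z : Ω)) hx).symm
    have hnx : (n : Ω) * (x : Ω) * (n : Ω)⁻¹ ∈ P₁ :=
      (Subgroup.mem_normalizer_iff.mp n.2.2 _).mp x.2
    have h1 := hP₂ ⟨_, hnx⟩
    have h2 : φ (Subgroup.inclusion hP₁ ⟨_, hnx⟩) =
        φ' n * φ (Subgroup.inclusion hP₁ x) * (φ' n)⁻¹ := by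
      show φ _ = φ _ * φ _ * (φ _)⁻¹
      rw [← map_inv, ← map_mul, ← map_mul]
      rfl
    rw [hyx, ← h2]
    exact h1
  have hχ₁ := F.comp_mem hψi hφ' hψiN
  set χ₁ := φ'.comp (ψi.codRestrict N₁ hψiN) with hχ₁def
  have hχ₁N : ∀ y : ψ₁'.range, χ₁ y ∈ normalizerIn S P₂ := fun y => hφ'N _
  have hχ := F.comp_mem hχ₁ hψ₂ hχ₁N
  have hQQ' : Q ≤ ψ₁'.range := by
    intro q hq
    refine ⟨Subgroup.inclusion hP₁N₁ (γ₁.symm ⟨q, hq⟩), ?_⟩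
    have := hψ₁γ (γ₁.symm ⟨q, hq⟩)
    rw [MulEquiv.apply_symm_apply] at this
    exact this
  have hlt : Q < ψ₁'.range := by
    refine lt_of_le_of_ne hQQ' ?_
    intro heq
    obtain ⟨w, hwN, hwP⟩ := exists_mem_normalizerIn_not_mem (hS.to_le hPS) hP₁ hne
    have h1 : ψ₁' ⟨w, hwN⟩ ∈ ψ₁'.range := ⟨_, rfl⟩
    rw [← heq] at h1
    have h2 := hψ₁γ (γ₁.symm ⟨_, h1⟩)
    rw [MulEquiv.apply_symm_apply] at h2
    have h3 : ψ₁' (Subgroup.inclusion hP₁N₁ (γ₁.symm ⟨_, h1⟩)) = ψ₁' ⟨w, hwN⟩ := h2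
    have h4 := F.injective_of_mem hψ₁' h3
    apply hwP
    have h5 : ((γ₁.symm ⟨_, h1⟩ : P₁) : Ω) = w := congrArg (fun z : N₁ => (z : Ω)) h4
    rw [← h5]
    exact (γ₁.symm ⟨_, h1⟩).2
  refine ⟨ψ₁'.range, hlt, _, hχ, ?_⟩
  intro q
  -- compute on `q = γ₁ x`
  obtain ⟨x, rfl⟩ := γ₁.surjective q
  rw [hβ x]
  have h1 : Subgroup.inclusion hlt.le (γ₁ x) = ⟨ψ₁' (Subgroup.inclusion hP₁N₁ x), ⟨_, rfl⟩⟩ :=
    Subtype.ext (hψ₁γ x).symm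
  rw [h1]
  show ψ₂ ⟨φ' ⟨ψi ⟨ψ₁' (Subgroup.inclusion hP₁N₁ x), ⟨_, rfl⟩⟩, _⟩, _⟩ = _
  have h2 := hψ₂γ ⟨φ (Subgroup.inclusion hP₁ x), hP₂ x⟩
  rw [← h2]
  congr 1
  apply Subtype.ext
  show φ' ⟨ψi ⟨ψ₁' (Subgroup.inclusion hP₁N₁ x), ⟨_, rfl⟩⟩, _⟩ = φ (Subgroup.inclusion hP₁ x)
  have h3 := hψiψ (Subgroup.inclusion hP₁N₁ x)
  show φ ⟨ψi ⟨ψ₁' (Subgroup.inclusion hP₁N₁ x), ⟨_, rfl⟩⟩, _⟩ = φ (Subgroup.inclusion hP₁ x)
  congr 1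
  exact Subtype.ext h3

/-- The property cutting out the subsystem which omits part of `Aut_F(Q)`: all transports to `Q`
of restrictions of the map to conjugates of `Q` lie in `H'`. -/
def Pr (F : FusionSystem S) {Q : Subgroup Ω} (H' : Subgroup (MulAut Q)) :
    ∀ P : Subgroup Ω, (P →* Ω) → Prop := fun P φ =>
  ∀ (P₁ P₂ : Subgroup Ω) (hP₁ : P₁ ≤ P) (γ₁ : P₁ ≃* Q) (γ₂ : P₂ ≃* Q), Adm F γ₁ → Adm F γ₂ →
    ∀ hP₂ : (∀ x : P₁, φ (Subgroup.inclusion hP₁ x) ∈ P₂),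
      ∃ β ∈ H', ∀ x : P₁, β (γ₁ x) = γ₂ ⟨φ (Subgroup.inclusion hP₁ x), hP₂ x⟩

section

variable [Finite S] {p : ℕ} [Fact p.Prime] (hS : IsPGroup p S) (F : FusionSystem S)
  (hF : F.IsSaturated p) {Q : Subgroup Ω} (hQn : F.IsFullyNormalized Q) (hQS : Q ≠ S)
  (H' : Subgroup (MulAut Q))
  (hH' : ∀ α ∈ F.autGroup Q, (∃ (Q' : Subgroup Ω) (hQQ' : Q < Q') (φ : Q' →* Ω), φ ∈ F.Hom Q' ∧
      ∀ x : Q, φ (Subgroup.inclusion hQQ'.le x) = ((α x : Q) : Ω)) → α ∈ H')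

include hS hH' in
/-- Maps defined on subgroups which are not conjugate to `Q` satisfy `Pr`. -/
theorem pr_of_not_conj {P : Subgroup Ω} {φ : P →* Ω} (hφ : φ ∈ F.Hom P)
    (hP : ¬ F.IsConj P Q) : Pr F H' P φ := by
  intro P₁ P₂ hP₁ γ₁ γ₂ h₁ h₂ hP₂
  have hne : P₁ ≠ P := by
    rintro rfl
    exact hP ((isConj_iff_iso F).mpr ⟨γ₁, h₁.iso⟩)
  exact transport_mem_of_lt hS F H' hH' hP₁ hne hφ h₁ h₂ hP₂

include hS hH' hQn hQS in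
theorem pr_conj {P : Subgroup Ω} {g : Ω} (hP : P ≤ S) (hg : g ∈ S) : Pr F H' P (conjHom P g) := by
  intro P₁ P₂ hP₁ γ₁ γ₂ h₁ h₂ hP₂
  have hP₁S : P₁ ≤ S := hP₁.trans hP
  have hne : P₁ ≠ S := by
    rintro rfl
    apply hQS
    haveI : Finite Q := finite_of_le hQn.1
    apply Subgroup.eq_of_le_of_card_ge hQn.1
    exact (Nat.card_congr γ₁.toEquiv).le
  obtain ⟨β, hβ, hβγ⟩ := transport_mem_of_lt hS F H' hH' hP₁S hne (F.conj_mem le_rfl hg) h₁ h₂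
    (fun x => hP₂ x)
  exact ⟨β, hβ, fun x => hβγ x⟩

include hS hF hQn in
theorem pr_comp {P R : Subgroup Ω} {φ : P →* Ω} {ψ : R →* Ω} (hφ : φ ∈ F.Hom P)
    (hψ : ψ ∈ F.Hom R) (h1 : Pr F H' P φ) (h2 : Pr F H' R ψ) (h : ∀ x : P, φ x ∈ R) :
    Pr F H' P (ψ.comp (φ.codRestrict R h)) := by
  intro P₁ P₃ hP₁ γ₁ γ₃ h₁ h₃ hP₃
  have hφ₁ := restrict_mem F hP₁ hφ
  have hc12 : F.IsConj P₁ (φ.comp (Subgroup.inclusion hP₁)).range := ⟨_, hφ₁, rfl⟩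
  have hc1Q : F.IsConj P₁ Q := (isConj_iff_iso F).mpr ⟨γ₁, h₁.iso⟩
  obtain ⟨γ₂, hγ₂⟩ := exists_adm hS F hF hQn (isConj_trans F (isConj_symm F hc12) hc1Q)
  have hP₂R : (φ.comp (Subgroup.inclusion hP₁)).range ≤ R := by
    rintro _ ⟨x, rfl⟩
    exact h _
  obtain ⟨β₁, hβ₁, hβ₁γ⟩ := h1 P₁ _ hP₁ γ₁ γ₂ h₁ hγ₂ (fun x => ⟨x, rfl⟩)
  obtain ⟨β₂, hβ₂, hβ₂γ⟩ := h2 _ P₃ hP₂R γ₂ γ₃ hγ₂ h₃ (by
    rintro ⟨_, x, rfl⟩
    exact hP₃ x)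
  refine ⟨β₂ * β₁, H'.mul_mem hβ₂ hβ₁, ?_⟩
  intro x
  rw [MulAut.mul_apply, hβ₁γ x, hβ₂γ]
  rfl

include hS in
theorem pr_inv {P : Subgroup Ω} {φ : P →* Ω} (hφ : φ ∈ F.Hom P) (h1 : Pr F H' P φ)
    (ψ : φ.range →* Ω) (hψ : ψ ∈ F.Hom φ.range) (hψφ : ∀ x : P, ψ ⟨φ x, ⟨x, rfl⟩⟩ = (x : Ω)) :
    Pr F H' φ.range ψ := by
  intro R₁ R₂ hR₁ γ₁ γ₂ h₁ h₂ hR₂
  have hφψ : ∀ y : φ.range, ∀ hy : ψ y ∈ P, φ ⟨ψ y, hy⟩ = (y : Ω) := by
    rintro ⟨_, x, rfl⟩ hy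
    congr 1
    exact Subtype.ext (hψφ x)
  have hR₂S : R₂ ≤ S := h₂.1
  haveI : Finite R₂ := finite_of_le hR₂S
  have hψ₁ := restrict_mem F hR₁ hψ
  -- `R₂` is the image of `R₁`
  have hR₂eq : R₂ = (ψ.comp (Subgroup.inclusion hR₁)).range := by
    symm
    apply Subgroup.eq_of_le_of_card_ge
    · rintro _ ⟨y, rfl⟩
      exact hR₂ y
    · rw [Nat.card_congr γ₂.toEquiv, ← Nat.card_congr γ₁.toEquiv]
      exact (Nat.card_congr (MonoidHom.ofInjective (F.injective_of_mem hψ₁)).toEquiv).le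
  subst hR₂eq
  have hP₁P : (ψ.comp (Subgroup.inclusion hR₁)).range ≤ P := by
    rintro _ ⟨y, rfl⟩
    obtain ⟨x, hx⟩ := (Subgroup.inclusion hR₁ y).2
    have hyx : Subgroup.inclusion hR₁ y = ⟨φ x, ⟨x, rfl⟩⟩ := Subtype.ext hx.symm
    show ψ (Subgroup.inclusion hR₁ y) ∈ P
    rw [hyx, hψφ x]; exact x.2
  obtain ⟨β', hβ', hβ'γ⟩ := h1 _ R₁ hP₁P γ₂ γ₁ h₂ h₁ (by
    rintro ⟨_, y, rfl⟩
    have := hφψ (Subgroup.inclusion hR₁ y) (hP₁P ⟨y, rfl⟩)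
    show φ ⟨ψ (Subgroup.inclusion hR₁ y), _⟩ ∈ R₁
    rw [this]
    exact y.2)
  refine ⟨β'⁻¹, H'.inv_mem hβ', ?_⟩
  intro y
  rw [MulAut.inv_apply, MulEquiv.symm_apply_eq, hβ'γ]
  congr 1
  apply Subtype.ext
  exact (hφψ (Subgroup.inclusion hR₁ y) (hP₁P ⟨y, rfl⟩)).symm

/-- The subsystem of `F` omitting part of the automorphism group of `Q`. -/
def omitSystem : FusionSystem S :=
  subsystemOfProp F (Pr F H')
    (fun hP hg => pr_conj hS F hQn hQS H' hH' hP hg)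
    (fun hφ hψ h1 h2 h => pr_comp hS F hF hQn H' hφ hψ h1 h2 h)
    (fun hφ h1 ψ hψ hψφ => pr_inv hS F H' hφ h1 ψ hψ hψφ)

theorem omitSystem_le : omitSystem hS F hF hQn hQS H' hH' ≤ F := fun _ _ h => h.1

/-- The omitted system contains `Aut_F(R)` for `R` not conjugate to `Q`. -/
theorem autGroup_le_omitSystem {R : Subgroup Ω} (hR : R ≤ S) (hRQ : ¬ F.IsConj R Q) :
    F.autGroup R ≤ (omitSystem hS F hF hQn hQS H' hH').autGroup R := by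
  intro α hα
  rw [mem_autGroup_iff _ hR] at hα ⊢
  exact ⟨hα, pr_of_not_conj hS F H' hH' hα hRQ⟩

/-- Automorphisms of `Q` in the omitted system lie in `H'`. -/
theorem mem_of_mem_omitSystem {α : MulAut Q}
    (hα : Q.subtype.comp α.toMonoidHom ∈ (omitSystem hS F hF hQn hQS H' hH').Hom Q) : α ∈ H' := by
  obtain ⟨β, hβ, hβα⟩ := hα.2 Q Q le_rfl (MulEquiv.refl Q) (MulEquiv.refl Q) (adm_refl F hQn.1)
    (adm_refl F hQn.1) (fun x => (α x).2)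
  have : β = α := by
    ext x
    have := hβα x
    exact congrArg Subtype.val this
  rw [← this]; exact hβ

end

end Cfsg.Agent.Lib.Helper8_Generating
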