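import Mathlib
import Cfsg.Prelude.Def_FusionComponents
import Cfsg.Agent.Lib.Helper8_Factor2
import Cfsg.Agent.Lib.Helper8_Frattini
import Cfsg.Agent.Lib.Helper8_Generating
import Cfsg.Agent.Lib.Helper4_SylowNormal
import Cfsg.Agent.Lib.Helper8_Chain

set_option autoImplicit false
set_option linter.style.haveILetI false
set_option linter.unusedVariables false
open Cfsg

namespace Cfsg.Agent.Lib.Helper8_Morphism

open Cfsg.FusionSystem Cfsg.Agent.Lib.Helper8_Fusion Cfsg.Agent.Lib.Helper8_Factor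
open Cfsg.Agent.Lib.Helper8_Factor2
open Cfsg.Agent.Lib.Helper8_GroupFusion
open Cfsg.Agent.Lib.Helper8_Saturated
open Cfsg.Agent.Lib.Helper8_Alperin
open Cfsg.Agent.Lib.Helper8_Frattini
open Cfsg.Agent.Lib.Helper8_Chain
open Cfsg.Agent.Lib.Helper4_SylowNormal

variable {Ω : Type*} [Group Ω] {S : Subgroup Ω} {Ω' : Type*} [Group Ω'] {S' : Subgroup Ω'}

theorem imageAlong_le {θ : S →* Ω'} (hθ : ∀ s : S, θ s ∈ S') (P : Subgroup Ω) :
    imageAlong θ P ≤ S' := by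
  rintro _ ⟨s, -, rfl⟩
  exact hθ s

theorem map_mem_imageAlong (θ : S →* Ω') {P : Subgroup Ω} (hP : P ≤ S) (x : P) :
    θ ⟨x, hP x.2⟩ ∈ imageAlong θ P :=
  ⟨⟨x, hP x.2⟩, by simp [Subgroup.mem_subgroupOf], rfl⟩

theorem exists_of_mem_imageAlong (θ : S →* Ω') {P : Subgroup Ω} (hP : P ≤ S) {y : Ω'}
    (hy : y ∈ imageAlong θ P) : ∃ x : P, θ ⟨x, hP x.2⟩ = y := by
  obtain ⟨s, hs, rfl⟩ := hy
  exact ⟨⟨s, by simpa [Subgroup.mem_subgroupOf] using hs⟩, rfl⟩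

/-- The property of a map `φ` of inducing along `θ` a map of `E`. -/
def MorPr (E : FusionSystem S') (θ : S →* Ω') (P : Subgroup Ω) (φ : P →* Ω) : Prop :=
  ∃ φ' ∈ E.Hom (imageAlong θ P), InducedAlong θ φ φ'

theorem morPr_conj (E : FusionSystem S') {θ : S →* Ω'} (hθ : ∀ s : S, θ s ∈ S')
    {P : Subgroup Ω} {g : Ω} (hP : P ≤ S) (hg : g ∈ S) : MorPr E θ P (conjHom P g) := by
  refine ⟨conjHom (imageAlong θ P) (θ ⟨g, hg⟩), E.conj_mem (imageAlong_le hθ P) (hθ _), hP,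
    fun x => S.mul_mem (S.mul_mem hg (hP x.2)) (S.inv_mem hg), map_mem_imageAlong θ hP, ?_⟩
  intro x
  show (θ ⟨g, hg⟩ : Ω') * θ ⟨x, hP x.2⟩ * (θ ⟨g, hg⟩)⁻¹ = θ ⟨g * x * g⁻¹, _⟩
  rw [← map_inv, ← map_mul, ← map_mul]
  rfl

theorem morPr_comp (F : FusionSystem S) (E : FusionSystem S') {θ : S →* Ω'}
    {P Q : Subgroup Ω} {φ : P →* Ω} {ψ : Q →* Ω} (hφ : φ ∈ F.Hom P) (hψ : ψ ∈ F.Hom Q)
    (h1 : MorPr E θ P φ) (h2 : MorPr E θ Q ψ) (h : ∀ x : P, φ x ∈ Q) :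
    MorPr E θ P (ψ.comp (φ.codRestrict Q h)) := by
  obtain ⟨φ', hφ', hP, hφS, hφP', hφeq⟩ := h1
  obtain ⟨ψ', hψ', hQ, hψS, hψQ', hψeq⟩ := h2
  have hval : ∀ y : imageAlong θ P, φ' y ∈ imageAlong θ Q := by
    intro y
    obtain ⟨x, hx⟩ := exists_of_mem_imageAlong θ hP y.2
    have : y = ⟨θ ⟨x, hP x.2⟩, hφP' x⟩ := Subtype.ext hx.symm
    rw [this, hφeq x]
    exact map_mem_imageAlong θ hQ ⟨φ x, h x⟩
  refine ⟨ψ'.comp (φ'.codRestrict _ hval), E.comp_mem hφ' hψ' hval, hP,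
    fun x => hψS _, hφP', ?_⟩
  intro x
  show ψ' ⟨φ' ⟨θ ⟨x, hP x.2⟩, hφP' x⟩, _⟩ = θ ⟨ψ ⟨φ x, h x⟩, _⟩
  rw [← hψeq ⟨φ x, h x⟩]
  congr 1
  exact Subtype.ext (hφeq x)

theorem morPr_inv (F : FusionSystem S) (E : FusionSystem S') {θ : S →* Ω'}
    {P : Subgroup Ω} {φ : P →* Ω} (hφ : φ ∈ F.Hom P) (h1 : MorPr E θ P φ)
    (ψ : φ.range →* Ω) (hψ : ψ ∈ F.Hom φ.range) (hψφ : ∀ x : P, ψ ⟨φ x, ⟨x, rfl⟩⟩ = (x : Ω)) :
    MorPr E θ φ.range ψ := by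
  obtain ⟨φ', hφ', hP, hφS, hφP', hφeq⟩ := h1
  obtain ⟨ψ', hψ', hψ'φ'⟩ := E.inv_mem hφ'
  have hR : φ.range ≤ S := (F.le_of_mem hψ).1
  have hle : imageAlong θ φ.range ≤ φ'.range := by
    intro y hy
    obtain ⟨z, hz⟩ := exists_of_mem_imageAlong θ hR hy
    obtain ⟨x, hx⟩ := z.2
    refine ⟨⟨θ ⟨x, hP x.2⟩, hφP' x⟩, ?_⟩
    rw [hφeq x, ← hz]
    congr 2
  refine ⟨ψ'.comp (Subgroup.inclusion hle), restrict_mem E hle hψ', hR, (F.le_of_mem hψ).2,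
    map_mem_imageAlong θ hR, ?_⟩
  intro z
  obtain ⟨x, hx⟩ := z.2
  have hz : z = ⟨φ x, ⟨x, rfl⟩⟩ := Subtype.ext hx.symm
  subst hz
  have h3 := hψ'φ' ⟨θ ⟨x, hP x.2⟩, hφP' x⟩
  have h4 : (Subgroup.inclusion hle ⟨θ ⟨((⟨φ x, ⟨x, rfl⟩⟩ : φ.range) : Ω), hR ⟨x, rfl⟩⟩,
      map_mem_imageAlong θ hR _⟩ : φ'.range) = ⟨φ' ⟨θ ⟨x, hP x.2⟩, hφP' x⟩, ⟨_, rfl⟩⟩ := by
    apply Subtype.ext
    show θ ⟨φ x, _⟩ = φ' ⟨θ ⟨x, hP x.2⟩, hφP' x⟩
    rw [hφeq x]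
  show ψ' (Subgroup.inclusion hle _) = _
  rw [h4, h3]
  show θ ⟨x, hP x.2⟩ = θ ⟨ψ ⟨φ x, ⟨x, rfl⟩⟩, _⟩
  congr 1
  exact Subtype.ext (hψφ x).symm

/-- The subsystem of `F` of the maps inducing along `θ` maps of `E`. -/
def morSystem (F : FusionSystem S) (E : FusionSystem S') (θ : S →* Ω') (hθ : ∀ s : S, θ s ∈ S') :
    FusionSystem S :=
  subsystemOfProp F (MorPr E θ) (fun hP hg => morPr_conj E hθ hP hg)
    (fun hφ hψ h1 h2 h => morPr_comp F E hφ hψ h1 h2 h)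
    (fun hφ h1 ψ hψ hψφ => morPr_inv F E hφ h1 ψ hψ hψφ)

theorem mem_morSystem_iff (F : FusionSystem S) (E : FusionSystem S') (θ : S →* Ω')
    (hθ : ∀ s : S, θ s ∈ S') {P : Subgroup Ω} (φ : P →* Ω) :
    φ ∈ (morSystem F E θ hθ).Hom P ↔ φ ∈ F.Hom P ∧ MorPr E θ P φ := Iff.rfl

/-- The full preimage of the image of `N ≥ S₀` is contained in `N`. -/
theorem preimage_image_le {S₀ : Subgroup Ω} {θ : S →* Ω'}
    (hker : ∀ s : S, θ s = 1 ↔ (s : Ω) ∈ S₀) {N : Subgroup Ω} (hNS : N ≤ S) (hS₀N : S₀ ≤ N) :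
    preimageAlong θ (imageAlong θ N) ≤ N := by
  intro y hy
  have hyS : y ∈ S := preimageAlong_le θ _ hy
  rw [mem_preimageAlong θ _ hyS] at hy
  obtain ⟨n, hn⟩ := exists_of_mem_imageAlong θ hNS hy
  have h1 : θ (⟨y, hyS⟩ * (⟨n, hNS n.2⟩ : S)⁻¹) = 1 := by
    rw [map_mul, map_inv, hn, mul_inv_cancel]
  have h2 : y * (n : Ω)⁻¹ ∈ S₀ := (hker _).mp h1
  have h3 : y = (y * (n : Ω)⁻¹) * n := by group
  rw [h3]
  exact N.mul_mem (hS₀N h2) n.2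

/-- Every map of `F` whose source contains `S₀` induces a map of the factor system. -/
theorem morPr_of_kernel_le {F : FusionSystem S} {S₀ : Subgroup Ω} {θ : S →* Ω'}
    {E : FusionSystem S'} (hS₀ : F.StronglyClosed S₀) (hE : F.IsFactorSystem S₀ θ E)
    {N : Subgroup Ω} (hS₀N : S₀ ≤ N) {ψ : N →* Ω} (hψ : ψ ∈ F.Hom N) : MorPr E θ N ψ := by
  obtain ⟨-, hker, hrange, hiff⟩ := hE
  have hNS : N ≤ S := (F.le_of_mem hψ).1
  have hθ : ∀ s : S, θ s ∈ S' := fun s => by rw [← hrange]; exact ⟨s, rfl⟩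
  have hle := preimage_image_le hker hNS hS₀N
  have hψ' := restrict_mem F hle hψ
  obtain ⟨φ', hφ'⟩ := exists_induced hS₀ hker hrange (imageAlong_le hθ N) hψ'
  have hφ'E : φ' ∈ E.Hom (imageAlong θ N) := (hiff _ φ').mpr ⟨imageAlong_le hθ N, _, hψ', hφ'⟩
  obtain ⟨hP, hval, hmap, hind⟩ := hφ'
  refine ⟨φ', hφ'E, hNS, (F.le_of_mem hψ).2, map_mem_imageAlong θ hNS, ?_⟩
  intro x
  have hxpre : (x : Ω) ∈ preimageAlong θ (imageAlong θ N) := by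
    rw [mem_preimageAlong θ _ (hNS x.2)]
    exact map_mem_imageAlong θ hNS x
  exact hind ⟨x, hxpre⟩

/-- Membership in the extender via the conjugation action on `Aut(Q)`. -/
theorem mem_extender_of_conj_mem {Q : Subgroup Ω} (α : MulAut Q) {g : Ω} (hgS : g ∈ S)
    (hgN : g ∈ Subgroup.normalizer (Q : Set Ω))
    (h : α * Q.normalizerMonoidHom ⟨g, hgN⟩ * α⁻¹ ∈ autInducedBy S Q) :
    g ∈ extender S Q (Q.subtype.comp α.toMonoidHom) := by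
  rw [mem_autInducedBy_iff] at h
  obtain ⟨t, htS, htN, ht⟩ := h
  refine mem_extender_of hgS hgN ⟨t, htS, ?_⟩
  intro x hx
  have h2 := ht (α x)
  show ((α ⟨g * (x : Ω) * g⁻¹, hx⟩ : Q) : Ω) = t * ((α x : Q) : Ω) * t⁻¹
  rw [← h2]
  simp only [MulAut.mul_apply, MulAut.inv_apply_self]
  rfl

/-- The subgroup of automorphisms of `Q` acting trivially modulo `S₀`. -/
def trivModSubgroup (S₀ Q : Subgroup Ω) : Subgroup (MulAut Q) where
  carrier := {β | ∀ x : Q, (x : Ω)⁻¹ * ((β x : Q) : Ω) ∈ S₀}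
  one_mem' := by
    intro x
    simp
  mul_mem' := by
    intro β γ hβ hγ x
    have h1 := hγ x
    have h2 := hβ (γ x)
    have : (x : Ω)⁻¹ * (((β * γ) x : Q) : Ω) =
        ((x : Ω)⁻¹ * ((γ x : Q) : Ω)) * (((γ x : Q) : Ω)⁻¹ * ((β (γ x) : Q) : Ω)) := by
      rw [MulAut.mul_apply]; group
    rw [this]; exact S₀.mul_mem h1 h2
  inv_mem' := by
    intro β hβ x
    have h1 := hβ (β⁻¹ x)
    have : (x : Ω)⁻¹ * ((β⁻¹ x : Q) : Ω) =
        (((β⁻¹ x : Q) : Ω)⁻¹ * ((β (β⁻¹ x) : Q) : Ω))⁻¹ := by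
      rw [MulAut.apply_inv_self]; group
    rw [this]; exact S₀.inv_mem h1

theorem mem_trivModSubgroup {S₀ Q : Subgroup Ω} {β : MulAut Q} :
    β ∈ trivModSubgroup S₀ Q ↔ ∀ x : Q, (x : Ω)⁻¹ * ((β x : Q) : Ω) ∈ S₀ := Iff.rfl

/-- If `S₀ ≰ Q` then some element of `S₀` normalizes `Q` without lying in it. -/
theorem exists_normalizing_not_mem [Finite S] {p : ℕ} [Fact p.Prime] (hS : IsPGroup p S)
    {S₀ : Subgroup Ω} {θ : S →* Ω'} (hS₀S : S₀ ≤ S)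
    (hker : ∀ s : S, θ s = 1 ↔ (s : Ω) ∈ S₀) {Q : Subgroup Ω} (hQS : Q ≤ S) (hle : ¬ S₀ ≤ Q) :
    ∃ s ∈ S₀, s ∈ Subgroup.normalizer (Q : Set Ω) ∧ s ∉ Q := by
  set N := preimageAlong θ (imageAlong θ Q) with hN
  have hNS : N ≤ S := preimageAlong_le θ _
  have hQN : Q ≤ N := by
    intro x hx
    show x ∈ preimageAlong θ (imageAlong θ Q)
    rw [mem_preimageAlong θ _ (hQS hx)]
    exact map_mem_imageAlong θ hQS ⟨x, hx⟩
  have hS₀N : S₀ ≤ N := kernel_le_preimage hker hS₀S _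
  have hne : Q ≠ N := by
    intro h
    apply hle
    rw [h]; exact hS₀N
  haveI : Finite N := finite_of_le hNS
  have hNp : IsPGroup p N := hS.to_le hNS
  obtain ⟨x, hxN, hxQ⟩ := exists_mem_normalizerIn_not_mem (S := N) hNp hQN hne
  have hxS : x ∈ S := hNS hxN.1
  have hx1 : x ∈ preimageAlong θ (imageAlong θ Q) := hxN.1
  rw [mem_preimageAlong θ _ hxS] at hx1
  obtain ⟨q, hq⟩ := exists_of_mem_imageAlong θ hQS hx1
  have h1 : θ ((⟨q, hQS q.2⟩ : S)⁻¹ * ⟨x, hxS⟩) = 1 := by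
    rw [map_mul, map_inv, hq, inv_mul_cancel]
  have h2 : (q : Ω)⁻¹ * x ∈ S₀ := (hker _).mp h1
  refine ⟨(q : Ω)⁻¹ * x, h2, ?_, ?_⟩
  · exact Subgroup.mul_mem _ (Subgroup.inv_mem _ (Subgroup.le_normalizer q.2)) hxN.2
  · intro h
    apply hxQ
    have : x = q * ((q : Ω)⁻¹ * x) := by group
    rw [this]
    exact Q.mul_mem q.2 h

/-- Frattini step for the subsystem of maps inducing maps of the factor system. -/
theorem aut_le_morSystem [Finite S] {p : ℕ} [Fact p.Prime] (hS : IsPGroup p S)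
    (F : FusionSystem S) (hF : F.IsSaturated p) {S₀ : Subgroup Ω} (hS₀ : F.StronglyClosed S₀)
    {θ : S →* Ω'} {E : FusionSystem S'} (hE : F.IsFactorSystem S₀ θ E) (hθ : ∀ s : S, θ s ∈ S')
    {Q : Subgroup Ω} (hQn : F.IsFullyNormalized Q)
    (IH : ∀ R : Subgroup Ω, R ≤ S → Nat.card Q < Nat.card R →
      F.Hom R ⊆ (morSystem F E θ hθ).Hom R) :
    F.autGroup Q ≤ (morSystem F E θ hθ).autGroup Q := by
  have hQS : Q ≤ S := hQn.1
  by_cases hle : S₀ ≤ Q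
  · intro α hα
    rw [mem_autGroup_iff _ hQS] at hα ⊢
    exact ⟨hα, morPr_of_kernel_le hS₀ hE hle hα⟩
  haveI : Finite Q := finite_of_le hQS
  obtain ⟨-, hQa⟩ := fullyNormalized_facts hS F hF hQn
  have hQr := receptive_of_fullyNormalized hS F hF hQn
  obtain ⟨-, P₀, hP₀⟩ := hQa
  obtain ⟨s, hsS₀, hsN, hsQ⟩ := exists_normalizing_not_mem hS hS₀.1 hE.2.1 hQS hle
  let A := F.autGroup Q
  set K' : Subgroup A := (trivModSubgroup S₀ Q).subgroupOf (F.autGroup Q) with hK'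
  haveI : K'.Normal := by
    refine ⟨fun n hn g => ?_⟩
    show ((g * n * g⁻¹ : A) : MulAut Q) ∈ trivModSubgroup S₀ Q
    have hn' : (n : MulAut Q) ∈ trivModSubgroup S₀ Q := hn
    rw [mem_trivModSubgroup] at hn' ⊢
    intro x
    have h1 := hn' ((g : MulAut Q)⁻¹ x)
    set y : Q := (g : MulAut Q)⁻¹ x with hy
    have h2 : (((y⁻¹ * (n : MulAut Q) y : Q)) : Ω) ∈ S₀ := h1
    have h3 := aut_mem_of_stronglyClosed F hS₀ hQS g.2 h2
    have h4 : (g : MulAut Q) (y⁻¹ * (n : MulAut Q) y) = x⁻¹ * ((g * n * g⁻¹ : A) : MulAut Q) x := by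
      rw [map_mul, map_inv, hy, MulAut.apply_inv_self]
      rfl
    rw [h4] at h3
    exact h3
  obtain ⟨P₁, hP₁⟩ := exists_sylow_eq_subgroupOf P₀ K'
  have htop := Sylow.normalizer_sup_eq_top P₁
  intro a ha
  have hmem : (⟨a, ha⟩ : A) ∈ Subgroup.normalizer (((P₁ : Subgroup K').map K'.subtype : Subgroup A) : Set A) ⊔ K' := by
    rw [htop]; trivial
  have hmem' : (⟨a, ha⟩ : A) ∈ ((Subgroup.normalizer (((P₁ : Subgroup K').map K'.subtype : Subgroup A) : Set A) ⊔ K' : Subgroup A) : Set A) := hmem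
  rw [Subgroup.mul_normal] at hmem'
  obtain ⟨h, hh, n, hn, hhn⟩ := Set.mem_mul.mp hmem'
  have hmapeq : ((P₁ : Subgroup K').map K'.subtype : Subgroup A) = (P₀ : Subgroup A) ⊓ K' := by
    rw [hP₁, Subgroup.subgroupOf_map_subtype]
  have hnE : (n : MulAut Q) ∈ (morSystem F E θ hθ).autGroup Q := by
    have hn' : (n : MulAut Q) ∈ trivModSubgroup S₀ Q := hn
    rw [mem_trivModSubgroup] at hn'
    rw [mem_autGroup_iff _ hQS]
    refine ⟨(mem_autGroup_iff F hQS _).mp n.2, ?_⟩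
    refine ⟨(imageAlong θ Q).subtype, Cfsg.Agent.Lib.Helper8_Generating.subtype_mem E (imageAlong_le hθ Q), hQS,
      fun x => hQS ((n : MulAut Q) x).2, map_mem_imageAlong θ hQS, ?_⟩
    intro x
    show θ ⟨x, hQS x.2⟩ = θ ⟨(((n : MulAut Q) x : Q) : Ω), _⟩
    have h1 := hn' x
    have h2 : θ ((⟨x, hQS x.2⟩ : S)⁻¹ * ⟨(((n : MulAut Q) x : Q) : Ω), hQS ((n : MulAut Q) x).2⟩) = 1 :=
      (hE.2.1 _).mpr h1
    rw [map_mul, map_inv, inv_mul_eq_one] at h2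
    exact h2
  have hhE : (h : MulAut Q) ∈ (morSystem F E θ hθ).autGroup Q := by
    have hφ : Q.subtype.comp (h : MulAut Q).toMonoidHom ∈ F.Hom Q := (mem_autGroup_iff F hQS _).mp h.2
    obtain ⟨ψ, hψ, hψφ⟩ := hQr.2 Q _ hφ (range_subtype_comp (h : MulAut Q))
    have hQext : Q ≤ extender S Q (Q.subtype.comp (h : MulAut Q).toMonoidHom) := le_extender F hφ
    have hextS : extender S Q (Q.subtype.comp (h : MulAut Q).toMonoidHom) ≤ S :=
      (extender_le_normalizerIn Q _).trans inf_le_left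
    have hsext : s ∈ extender S Q (Q.subtype.comp (h : MulAut Q).toMonoidHom) := by
      apply mem_extender_of_conj_mem (h : MulAut Q) (hS₀.1 hsS₀) hsN
      have hcs : Q.normalizerMonoidHom ⟨s, hsN⟩ ∈ F.autGroup Q := conjAut_mem F hQS (hS₀.1 hsS₀) hsN
      have hcsP₀ : (⟨_, hcs⟩ : A) ∈ (P₀ : Subgroup A) := by
        rw [hP₀, Subgroup.mem_subgroupOf, mem_autInducedBy_iff]
        exact ⟨s, hS₀.1 hsS₀, hsN, fun y => rfl⟩
      have hcsK : (⟨_, hcs⟩ : A) ∈ K' := by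
        show Q.normalizerMonoidHom ⟨s, hsN⟩ ∈ trivModSubgroup S₀ Q
        rw [mem_trivModSubgroup]
        intro x
        show (x : Ω)⁻¹ * (s * x * s⁻¹) ∈ S₀
        have h1 : (x : Ω)⁻¹ * s * ((x : Ω)⁻¹)⁻¹ ∈ S₀ :=
          conj_mem_of_stronglyClosed F hS₀ (S.inv_mem (hQS x.2)) hsS₀
        have h2 : (x : Ω)⁻¹ * (s * x * s⁻¹) = ((x : Ω)⁻¹ * s * ((x : Ω)⁻¹)⁻¹) * s⁻¹ := by group
        rw [h2]
        exact S₀.mul_mem h1 (S₀.inv_mem hsS₀)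
      have h1 : (⟨_, hcs⟩ : A) ∈ ((P₁ : Subgroup K').map K'.subtype : Subgroup A) := by
        rw [hmapeq]; exact ⟨hcsP₀, hcsK⟩
      have h2 := (Subgroup.mem_normalizer_iff.mp hh _).mp h1
      rw [hmapeq] at h2
      have h3 := h2.1
      rw [hP₀] at h3
      exact h3
    haveI : Finite (extender S Q (Q.subtype.comp (h : MulAut Q).toMonoidHom)) := finite_of_le hextS
    have hlt : Q < extender S Q (Q.subtype.comp (h : MulAut Q).toMonoidHom) :=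
      lt_of_le_of_ne hQext (fun heq => hsQ (by rw [heq]; exact hsext))
    have hcard : Nat.card Q < Nat.card (extender S Q (Q.subtype.comp (h : MulAut Q).toMonoidHom)) :=
      Set.Finite.card_lt_card (Set.toFinite _) hlt
    have hψE := IH _ hextS hcard hψ
    exact aut_mem_of_extends (morSystem F E θ hθ) hQext hψE (fun x => hψφ x x.2 (hQext x.2))
  have : a = (h : MulAut Q) * (n : MulAut Q) := by
    have := congrArg (fun z : A => (z : MulAut Q)) hhn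
    exact this.symm
  rw [this]
  exact Subgroup.mul_mem _ hhE hnE

/-- **The factor map is a morphism of fusion systems.** -/
theorem factor_isMorphism [Finite S] {p : ℕ} [Fact p.Prime] (hS : IsPGroup p S)
    (F : FusionSystem S) (hF : F.IsSaturated p) {S₀ : Subgroup Ω} (hS₀ : F.StronglyClosed S₀)
    {θ : S →* Ω'} {E : FusionSystem S'} (hE : F.IsFactorSystem S₀ θ E) :
    F.IsMorphism E θ := by
  have hθ : ∀ s : S, θ s ∈ S' := fun s => by rw [← hE.2.2.1]; exact ⟨s, rfl⟩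
  refine ⟨hθ, ?_⟩
  have hle : F ≤ morSystem F E θ hθ :=
    alperin_skeleton hS F hF _ (fun Q hQn IH => aut_le_morSystem hS F hF hS₀ hE hθ hQn IH)
  intro P φ hφ
  exact (hle P hφ).2

end Cfsg.Agent.Lib.Helper8_Morphism
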