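import Mathlib
import Cfsg.Prelude.Def_FusionComponents
import Cfsg.Agent.Lib.Helper8_Morphism
import Cfsg.Agent.Lib.Helper8_InducedAut
import Cfsg.Agent.Lib.Helper8_Abelian2

set_option autoImplicit false
set_option linter.style.haveILetI false
set_option linter.unusedVariables false
open Cfsg

namespace Cfsg.Agent.Lib.Helper8_FactorSat

open Cfsg.FusionSystem Cfsg.Agent.Lib.Helper8_Fusion Cfsg.Agent.Lib.Helper8_Factor
open Cfsg.Agent.Lib.Helper8_Factor2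
open Cfsg.Agent.Lib.Helper8_GroupFusion
open Cfsg.Agent.Lib.Helper8_Saturated
open Cfsg.Agent.Lib.Helper8_Alperin
open Cfsg.Agent.Lib.Helper8_Chain
open Cfsg.Agent.Lib.Helper8_Morphism
open Cfsg.Agent.Lib.Helper8_InducedAut
open Cfsg.Agent.Lib.Helper8_Abelian2

variable {Ω : Type*} [Group Ω] {S : Subgroup Ω} {Ω' : Type*} [Group Ω'] {S' : Subgroup Ω'}

/-- The restriction of `θ` to `Q`, onto its image. -/
def resHom (θ : S →* Ω') {Q : Subgroup Ω} (hQS : Q ≤ S) : Q →* imageAlong θ Q :=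
  (θ.comp (Subgroup.inclusion hQS)).codRestrict _ (fun x => map_mem_imageAlong θ hQS x)

theorem resHom_coe (θ : S →* Ω') {Q : Subgroup Ω} (hQS : Q ≤ S) (x : Q) :
    ((resHom θ hQS x : imageAlong θ Q) : Ω') = θ ⟨x, hQS x.2⟩ := rfl

theorem resHom_surjective (θ : S →* Ω') {Q : Subgroup Ω} (hQS : Q ≤ S) :
    Function.Surjective (resHom θ hQS) := by
  intro y
  obtain ⟨x, hx⟩ := exists_of_mem_imageAlong θ hQS y.2
  exact ⟨x, Subtype.ext hx⟩

theorem resHom_eq_one_iff {θ : S →* Ω'} {S₀ : Subgroup Ω}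
    (hker : ∀ s : S, θ s = 1 ↔ (s : Ω) ∈ S₀) {Q : Subgroup Ω} (hQS : Q ≤ S) (x : Q) :
    resHom θ hQS x = 1 ↔ (x : Ω) ∈ S₀ := by
  rw [← hker ⟨x, hQS x.2⟩]
  constructor
  · intro h; exact congrArg Subtype.val h
  · intro h; exact Subtype.ext h

theorem autGroup_le_kerStab (F : FusionSystem S) {S₀ : Subgroup Ω} (hS₀ : F.StronglyClosed S₀)
    {θ : S →* Ω'} (hker : ∀ s : S, θ s = 1 ↔ (s : Ω) ∈ S₀) {Q : Subgroup Ω} (hQS : Q ≤ S) :
    F.autGroup Q ≤ kerStab (resHom θ hQS) := by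
  intro β hβ
  rw [mem_kerStab]
  intro x
  rw [resHom_eq_one_iff hker, resHom_eq_one_iff hker]
  constructor
  · intro hx; exact aut_mem_of_stronglyClosed F hS₀ hQS hβ hx
  · intro hx
    have := aut_mem_of_stronglyClosed F hS₀ hQS (Subgroup.inv_mem _ hβ) hx
    rwa [MulAut.inv_apply_self] at this

/-- The homomorphism `Aut_F(Q) → Aut(θ(Q))`. -/
noncomputable def autMap (F : FusionSystem S) {S₀ : Subgroup Ω} (hS₀ : F.StronglyClosed S₀)
    {θ : S →* Ω'} (hker : ∀ s : S, θ s = 1 ↔ (s : Ω) ∈ S₀) {Q : Subgroup Ω} (hQS : Q ≤ S) :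
    F.autGroup Q →* MulAut (imageAlong θ Q) :=
  (inducedAutHom (resHom θ hQS) (resHom_surjective θ hQS)).comp
    (Subgroup.inclusion (autGroup_le_kerStab F hS₀ hker hQS))

theorem autMap_apply (F : FusionSystem S) {S₀ : Subgroup Ω} (hS₀ : F.StronglyClosed S₀)
    {θ : S →* Ω'} (hker : ∀ s : S, θ s = 1 ↔ (s : Ω) ∈ S₀) {Q : Subgroup Ω} (hQS : Q ≤ S)
    (β : F.autGroup Q) (x : Q) :
    autMap F hS₀ hker hQS β (resHom θ hQS x) = resHom θ hQS ((β : MulAut Q) x) :=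
  inducedAutHom_apply _ _ _ x

theorem autMap_apply_coe (F : FusionSystem S) {S₀ : Subgroup Ω} (hS₀ : F.StronglyClosed S₀)
    {θ : S →* Ω'} (hker : ∀ s : S, θ s = 1 ↔ (s : Ω) ∈ S₀) {Q : Subgroup Ω} (hQS : Q ≤ S)
    (β : F.autGroup Q) (x : Q) (h : θ ⟨x, hQS x.2⟩ ∈ imageAlong θ Q) :
    ((autMap F hS₀ hker hQS β ⟨θ ⟨x, hQS x.2⟩, h⟩ : imageAlong θ Q) : Ω') =
      θ ⟨((β : MulAut Q) x : Q), hQS ((β : MulAut Q) x).2⟩ := by
  have := autMap_apply F hS₀ hker hQS β x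
  exact congrArg Subtype.val this

theorem le_preimage_image (θ : S →* Ω') {Q : Subgroup Ω} (hQS : Q ≤ S) :
    Q ≤ preimageAlong θ (imageAlong θ Q) := by
  intro x hx
  rw [mem_preimageAlong θ _ (hQS hx)]
  exact map_mem_imageAlong θ hQS ⟨x, hx⟩

/-- The induced automorphism is an automorphism of the factor system. -/
theorem autMap_mem {F : FusionSystem S} {S₀ : Subgroup Ω} (hS₀ : F.StronglyClosed S₀)
    {θ : S →* Ω'} {E : FusionSystem S'} (hE : F.IsFactorSystem S₀ θ E) {Q : Subgroup Ω}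
    (hQS : Q ≤ S) (hS₀Q : S₀ ≤ Q) (β : F.autGroup Q) :
    autMap F hS₀ hE.2.1 hQS β ∈ E.autGroup (imageAlong θ Q) := by
  have hθ : ∀ s : S, θ s ∈ S' := fun s => by rw [← hE.2.2.1]; exact ⟨s, rfl⟩
  rw [mem_autGroup_iff E (imageAlong_le hθ Q)]
  have hle := preimage_image_le hE.2.1 hQS hS₀Q
  have hβ : Q.subtype.comp (β : MulAut Q).toMonoidHom ∈ F.Hom Q := (mem_autGroup_iff F hQS _).mp β.2
  refine (hE.2.2.2 _ _).mpr ⟨imageAlong_le hθ Q, _, restrict_mem F hle hβ, preimageAlong_le θ _,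
    fun x => hQS ((β : MulAut Q) _).2, map_mem_of_mem_preimageAlong θ _, ?_⟩
  intro x
  exact autMap_apply_coe F hS₀ hE.2.1 hQS β ⟨x, hle x.2⟩ _

theorem range_eq_of_vals {Q : Subgroup Ω} [Finite Q] {φ : Q →* Ω} (hinj : Function.Injective φ)
    (hvals : ∀ x : Q, φ x ∈ Q) : φ.range = Q := by
  have hle : φ.range ≤ Q := by
    rintro _ ⟨x, rfl⟩
    exact hvals x
  apply Subgroup.eq_of_le_of_card_ge hle
  rw [Nat.card_congr (MonoidHom.ofInjective hinj).toEquiv]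

/-- Every automorphism of `θ(Q)` in the factor system is induced by one of `Q`. -/
theorem autMap_surj [Finite S] {F : FusionSystem S} {S₀ : Subgroup Ω} (hS₀ : F.StronglyClosed S₀)
    {θ : S →* Ω'} {E : FusionSystem S'} (hE : F.IsFactorSystem S₀ θ E) {Q : Subgroup Ω}
    (hQS : Q ≤ S) (hS₀Q : S₀ ≤ Q) {β' : MulAut (imageAlong θ Q)}
    (hβ' : β' ∈ E.autGroup (imageAlong θ Q)) :
    ∃ β : F.autGroup Q, autMap F hS₀ hE.2.1 hQS β = β' := by
  have hθ : ∀ s : S, θ s ∈ S' := fun s => by rw [← hE.2.2.1]; exact ⟨s, rfl⟩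
  haveI : Finite Q := finite_of_le hQS
  rw [mem_autGroup_iff E (imageAlong_le hθ Q)] at hβ'
  obtain ⟨-, φ, hφ, hP, hval, hmap, hind⟩ := (hE.2.2.2 _ _).mp hβ'
  have hle := preimage_image_le hE.2.1 hQS hS₀Q
  have hQpre := le_preimage_image θ hQS
  have hφQ := restrict_mem F hQpre hφ
  have hvals : ∀ x : Q, (φ.comp (Subgroup.inclusion hQpre)) x ∈ Q := by
    intro x
    apply hle
    show φ (Subgroup.inclusion hQpre x) ∈ preimageAlong θ (imageAlong θ Q)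
    rw [mem_preimageAlong θ _ (hval _)]
    have := hind (Subgroup.inclusion hQpre x)
    rw [← this]
    exact (β' _).2
  obtain ⟨e, he, heφ⟩ := iso_of_hom F hφQ (range_eq_of_vals (F.injective_of_mem hφQ) hvals)
  have heA : e ∈ F.autGroup Q := (mem_autGroup_iff F hQS e).mpr he
  refine ⟨⟨e, heA⟩, ?_⟩
  ext y
  obtain ⟨x, rfl⟩ := resHom_surjective θ hQS y
  rw [autMap_apply]
  show θ ⟨((e x : Q) : Ω), _⟩ = ((β' (resHom θ hQS x) : imageAlong θ Q) : Ω')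
  have h1 := hind (Subgroup.inclusion hQpre x)
  have h2 : (β' (resHom θ hQS x) : Ω') = θ ⟨φ (Subgroup.inclusion hQpre x), hval _⟩ := h1
  rw [h2]
  congr 1
  exact Subtype.ext (heφ x)

/-- The image of `c_g` under `autMap` is `c_{θ g}`. -/
theorem autMap_conj (F : FusionSystem S) {S₀ : Subgroup Ω} (hS₀ : F.StronglyClosed S₀)
    {θ : S →* Ω'} (hker : ∀ s : S, θ s = 1 ↔ (s : Ω) ∈ S₀) {Q : Subgroup Ω} (hQS : Q ≤ S)
    {g : Ω} (hgS : g ∈ S) (hgN : g ∈ Subgroup.normalizer (Q : Set Ω)) (y : imageAlong θ Q) :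
    ((autMap F hS₀ hker hQS ⟨Q.normalizerMonoidHom ⟨g, hgN⟩, conjAut_mem F hQS hgS hgN⟩ y :
      imageAlong θ Q) : Ω') = θ ⟨g, hgS⟩ * y * (θ ⟨g, hgS⟩)⁻¹ := by
  obtain ⟨x, rfl⟩ := resHom_surjective θ hQS y
  rw [autMap_apply]
  show θ ⟨g * x * g⁻¹, _⟩ = θ ⟨g, hgS⟩ * θ ⟨x, hQS x.2⟩ * (θ ⟨g, hgS⟩)⁻¹
  rw [← map_inv, ← map_mul, ← map_mul]
  rfl

theorem finite_imageAlong [Finite S] (θ : S →* Ω') {Q : Subgroup Ω} (hQS : Q ≤ S) :
    Finite (imageAlong θ Q) := by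
  haveI : Finite Q := finite_of_le hQS
  exact Finite.of_surjective (resHom θ hQS) (resHom_surjective θ hQS)

theorem map_mem_normalizer [Finite S] (θ : S →* Ω') {Q : Subgroup Ω} (hQS : Q ≤ S)
    {g : Ω} (hgS : g ∈ S) (hgN : g ∈ Subgroup.normalizer (Q : Set Ω)) :
    θ ⟨g, hgS⟩ ∈ Subgroup.normalizer ((imageAlong θ Q : Subgroup Ω') : Set Ω') := by
  haveI : Finite (((imageAlong θ Q : Subgroup Ω') : Set Ω')) := finite_imageAlong θ hQS
  apply Subgroup.mem_normalizer_fintype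
  intro y hy
  obtain ⟨x, rfl⟩ := exists_of_mem_imageAlong θ hQS hy
  have hx : g * (x : Ω) * g⁻¹ ∈ Q := (Subgroup.mem_normalizer_iff.mp hgN _).mp x.2
  have : θ ⟨g, hgS⟩ * θ ⟨x, hQS x.2⟩ * (θ ⟨g, hgS⟩)⁻¹ = θ ⟨g * x * g⁻¹, hQS hx⟩ := by
    rw [← map_inv, ← map_mul, ← map_mul]
    rfl
  rw [this]
  exact map_mem_imageAlong θ hQS ⟨_, hx⟩

/-- An element of `S` whose image normalizes `θ(Q)` normalizes `Q ≥ S₀`. -/
theorem mem_normalizer_of_map [Finite S] {θ : S →* Ω'} {S₀ : Subgroup Ω}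
    (hker : ∀ s : S, θ s = 1 ↔ (s : Ω) ∈ S₀) {Q : Subgroup Ω} (hQS : Q ≤ S) (hS₀Q : S₀ ≤ Q)
    {g : Ω} (hgS : g ∈ S)
    (hgN : θ ⟨g, hgS⟩ ∈ Subgroup.normalizer ((imageAlong θ Q : Subgroup Ω') : Set Ω')) :
    g ∈ Subgroup.normalizer (Q : Set Ω) := by
  haveI : Finite ((Q : Set Ω)) := finite_of_le hQS
  apply Subgroup.mem_normalizer_fintype
  intro x hx
  apply preimage_image_le hker hQS hS₀Q
  have hxS : g * x * g⁻¹ ∈ S := S.mul_mem (S.mul_mem hgS (hQS hx)) (S.inv_mem hgS)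
  rw [mem_preimageAlong θ _ hxS]
  have : θ ⟨g * x * g⁻¹, hxS⟩ = θ ⟨g, hgS⟩ * θ ⟨x, hQS hx⟩ * (θ ⟨g, hgS⟩)⁻¹ := by
    rw [← map_inv, ← map_mul, ← map_mul]
    rfl
  rw [this]
  exact (Subgroup.mem_normalizer_iff.mp hgN _).mp (map_mem_imageAlong θ hQS ⟨x, hx⟩)

/-- The image of a fully automized subgroup containing `S₀` is fully automized. -/
theorem fullyAutomized_image [Finite S] {p : ℕ} [Fact p.Prime] {F : FusionSystem S}
    {S₀ : Subgroup Ω} (hS₀ : F.StronglyClosed S₀)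
    {θ : S →* Ω'} {E : FusionSystem S'} (hE : F.IsFactorSystem S₀ θ E) {Q : Subgroup Ω}
    (hS₀Q : S₀ ≤ Q) (hQa : F.IsFullyAutomized p Q) :
    E.IsFullyAutomized p (imageAlong θ Q) := by
  have hθ : ∀ s : S, θ s ∈ S' := fun s => by rw [← hE.2.2.1]; exact ⟨s, rfl⟩
  obtain ⟨hQS, P₀, hP₀⟩ := hQa
  haveI : Finite Q := finite_of_le hQS
  refine ⟨imageAlong_le hθ Q, ?_⟩
  let Φ : F.autGroup Q →* E.autGroup (imageAlong θ Q) :=
    (autMap F hS₀ hE.2.1 hQS).codRestrict _ (autMap_mem hS₀ hE hQS hS₀Q)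
  have hΦ : Function.Surjective Φ := by
    intro β'
    obtain ⟨β, hβ⟩ := autMap_surj hS₀ hE hQS hS₀Q β'.2
    exact ⟨β, Subtype.ext hβ⟩
  refine ⟨P₀.mapSurjective hΦ, ?_⟩
  rw [Sylow.coe_mapSurjective, hP₀]
  ext β'
  constructor
  · rintro ⟨β, hβ, rfl⟩
    have hβ2 : (β : MulAut Q) ∈ autInducedBy S Q := hβ
    rw [mem_autInducedBy_iff] at hβ2
    obtain ⟨g, hgS, hgN, hg⟩ := hβ2
    rw [Subgroup.mem_subgroupOf, mem_autInducedBy_iff]
    refine ⟨θ ⟨g, hgS⟩, hθ _, map_mem_normalizer θ hQS hgS hgN, ?_⟩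
    intro y
    have hβeq : β = ⟨Q.normalizerMonoidHom ⟨g, hgN⟩, conjAut_mem F hQS hgS hgN⟩ := by
      apply Subtype.ext
      ext x
      exact hg x
    rw [hβeq]
    exact autMap_conj F hS₀ hE.2.1 hQS hgS hgN y
  · intro hβ'
    rw [Subgroup.mem_subgroupOf, mem_autInducedBy_iff] at hβ'
    obtain ⟨g', hg'S, hg'N, hg'⟩ := hβ'
    have hg'r : g' ∈ θ.range := by rw [hE.2.2.1]; exact hg'S
    obtain ⟨g, rfl⟩ := hg'r
    have hgN : (g : Ω) ∈ Subgroup.normalizer (Q : Set Ω) :=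
      mem_normalizer_of_map hE.2.1 hQS hS₀Q g.2 hg'N
    refine ⟨⟨Q.normalizerMonoidHom ⟨g, hgN⟩, conjAut_mem F hQS g.2 hgN⟩, ?_, ?_⟩
    · show _ ∈ (autInducedBy S Q).subgroupOf (F.autGroup Q)
      rw [Subgroup.mem_subgroupOf, mem_autInducedBy_iff]
      exact ⟨g, g.2, hgN, fun x => rfl⟩
    · apply Subtype.ext
      ext y
      rw [hg' y]
      exact autMap_conj F hS₀ hE.2.1 hQS g.2 hgN y

/-- The image of a fully automized receptive subgroup containing `S₀` is receptive. -/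
theorem receptive_image [Finite S] {p : ℕ} [Fact p.Prime] (hS : IsPGroup p S) {F : FusionSystem S}
    {S₀ : Subgroup Ω} (hS₀ : F.StronglyClosed S₀)
    {θ : S →* Ω'} {E : FusionSystem S'} (hE : F.IsFactorSystem S₀ θ E) {Q : Subgroup Ω}
    (hS₀Q : S₀ ≤ Q) (hQa : F.IsFullyAutomized p Q) (hQr : F.IsReceptive Q) :
    E.IsReceptive (imageAlong θ Q) := by
  have hθ : ∀ s : S, θ s ∈ S' := fun s => by rw [← hE.2.2.1]; exact ⟨s, rfl⟩
  have hker := hE.2.1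
  have hrange := hE.2.2.1
  have hQS : Q ≤ S := hQr.1
  haveI : Finite Q := finite_of_le hQS
  haveI : Finite (imageAlong θ Q) := finite_imageAlong θ hQS
  obtain ⟨-, P₀, hP₀⟩ := hQa
  refine ⟨imageAlong_le hθ Q, ?_⟩
  intro R' φ' hφ' hφ'range
  have hR'S' : R' ≤ S' := (E.le_of_mem hφ').1
  obtain ⟨-, φ, hφ, hRS, hval, hmap, hind⟩ := (hE.2.2.2 _ _).mp hφ'
  have hS₀R : S₀ ≤ preimageAlong θ R' := kernel_le_preimage hker hS₀.1 R'
  have hpreQ := preimage_image_le hker hQS hS₀Q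
  haveI : Finite (preimageAlong θ R') := finite_of_le hRS
  have hφvals : ∀ x : preimageAlong θ R', φ x ∈ Q := by
    intro x
    apply hpreQ
    rw [mem_preimageAlong θ _ (hval x), ← hind x, ← hφ'range]
    exact ⟨_, rfl⟩
  have hφrange : φ.range = Q := by
    apply le_antisymm
    · rintro _ ⟨x, rfl⟩; exact hφvals x
    · intro q hq
      have h1 : θ ⟨q, hQS hq⟩ ∈ φ'.range := by
        rw [hφ'range]; exact map_mem_imageAlong θ hQS ⟨q, hq⟩
      obtain ⟨r', hr'⟩ := h1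
      obtain ⟨r, hr⟩ := surj_onto hrange hR'S' r'
      have h2 : θ ⟨φ r, hval r⟩ = θ ⟨q, hQS hq⟩ := by
        rw [← hind r, ← hr']
        congr 1
        exact Subtype.ext hr
      have h3 : θ ((⟨φ r, hval r⟩ : S)⁻¹ * ⟨q, hQS hq⟩) = 1 := by
        rw [map_mul, map_inv, h2, inv_mul_cancel]
      have h4 : (φ r)⁻¹ * q ∈ S₀ := (hker _).mp h3
      have h5 : (φ r)⁻¹ * q ∈ (S₀.subgroupOf (preimageAlong θ R')).map φ := by
        rw [map_eq_of_stronglyClosed F hS₀ hS₀R hφ]; exact h4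
      obtain ⟨s, -, hs⟩ := h5
      refine ⟨r * s, ?_⟩
      rw [map_mul, hs]; group
  obtain ⟨e, he, heφ⟩ := iso_of_hom F hφ hφrange
  -- the key computation
  have hkey : ∀ (g : Ω) (hgS : g ∈ S)
      (hgN : g ∈ Subgroup.normalizer ((preimageAlong θ R' : Subgroup Ω) : Set Ω)) (h' : Ω')
      (hh' : ∀ (x' : R') (hx' : θ ⟨g, hgS⟩ * (x' : Ω') * (θ ⟨g, hgS⟩)⁻¹ ∈ R'),
        φ' ⟨θ ⟨g, hgS⟩ * x' * (θ ⟨g, hgS⟩)⁻¹, hx'⟩ = h' * φ' x' * h'⁻¹)
      (y : imageAlong θ Q),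
      ((autMap F hS₀ hker hQS ⟨MulAut.congr e ((preimageAlong θ R').normalizerMonoidHom ⟨g, hgN⟩),
        congr_mem_autGroup F he (conjAut_mem F hRS hgS hgN)⟩ y : imageAlong θ Q) : Ω') =
        h' * y * h'⁻¹ := by
    intro g hgS hgN h' hh' y
    obtain ⟨q, rfl⟩ := resHom_surjective θ hQS y
    rw [autMap_apply]
    set r := e.symm q with hr
    have hq : q = e r := by simp [hr]
    have hgr : g * (r : Ω) * g⁻¹ ∈ preimageAlong θ R' :=
      (Subgroup.mem_normalizer_iff.mp hgN _).mp r.2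
    show θ ⟨((e ⟨g * r * g⁻¹, hgr⟩ : Q) : Ω), hQS (e _).2⟩ = h' * θ ⟨q, hQS q.2⟩ * h'⁻¹
    have e1 : θ ⟨((e ⟨g * r * g⁻¹, hgr⟩ : Q) : Ω), hQS (e _).2⟩ =
        θ ⟨φ ⟨g * r * g⁻¹, hgr⟩, hval _⟩ := by
      congr 1; exact Subtype.ext (heφ _)
    have e2 : θ ⟨φ ⟨g * r * g⁻¹, hgr⟩, hval _⟩ =
        φ' ⟨θ ⟨g * r * g⁻¹, hRS hgr⟩, hmap ⟨_, hgr⟩⟩ := (hind _).symm
    have e3 : θ ⟨g * r * g⁻¹, hRS hgr⟩ = θ ⟨g, hgS⟩ * θ ⟨r, hRS r.2⟩ * (θ ⟨g, hgS⟩)⁻¹ := by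
      rw [← map_inv, ← map_mul, ← map_mul]; rfl
    have hx' : θ ⟨g, hgS⟩ * ((⟨θ ⟨r, hRS r.2⟩, hmap r⟩ : R') : Ω') * (θ ⟨g, hgS⟩)⁻¹ ∈ R' := by
      rw [← e3]; exact hmap ⟨_, hgr⟩
    have e4 : φ' ⟨θ ⟨g * r * g⁻¹, hRS hgr⟩, hmap ⟨_, hgr⟩⟩ =
        φ' ⟨θ ⟨g, hgS⟩ * ((⟨θ ⟨r, hRS r.2⟩, hmap r⟩ : R') : Ω') * (θ ⟨g, hgS⟩)⁻¹, hx'⟩ := by
      congr 1; exact Subtype.ext e3
    have e5 := hh' ⟨θ ⟨r, hRS r.2⟩, hmap r⟩ hx'
    have e6 : φ' ⟨θ ⟨r, hRS r.2⟩, hmap r⟩ = θ ⟨φ r, hval r⟩ := hind r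
    have e7 : θ ⟨φ r, hval r⟩ = θ ⟨q, hQS q.2⟩ := by
      congr 1; apply Subtype.ext
      exact (heφ r).symm.trans (congrArg Subtype.val hq).symm
    rw [e1, e2, e4, e5, e6, e7]
  -- the generating set of the extender and the p-group B
  let gen' : Set Ω' := {g' | g' ∈ S' ∧ g' ∈ Subgroup.normalizer (R' : Set Ω') ∧
    ∃ h' ∈ S', ∀ (x' : R') (hx' : g' * (x' : Ω') * g'⁻¹ ∈ R'),
      φ' ⟨g' * x' * g'⁻¹, hx'⟩ = h' * φ' x' * h'⁻¹}
  have hN'def : extender S' R' φ' = Subgroup.closure gen' := rfl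
  let TB : Set (F.autGroup Q) := {b | ∃ (g : Ω) (hgS : g ∈ S)
    (hgN : g ∈ Subgroup.normalizer ((preimageAlong θ R' : Subgroup Ω) : Set Ω)),
    θ ⟨g, hgS⟩ ∈ gen' ∧
      (b : MulAut Q) = MulAut.congr e ((preimageAlong θ R').normalizerMonoidHom ⟨g, hgN⟩)}
  have hBp : IsPGroup p (Subgroup.closure TB) := by
    have hle : Subgroup.closure TB ≤ ((autInducedBy S (preimageAlong θ R')).map
        (MulAut.congr e).toMonoidHom).subgroupOf (F.autGroup Q) := by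
      rw [Subgroup.closure_le]
      rintro b ⟨g, hgS, hgN, -, hb⟩
      show (b : MulAut Q) ∈ (autInducedBy S (preimageAlong θ R')).map (MulAut.congr e).toMonoidHom
      rw [hb]
      refine Subgroup.mem_map_of_mem _ ?_
      rw [mem_autInducedBy_iff]
      exact ⟨g, hgS, hgN, fun x => rfl⟩
    exact (((autInducedBy_isPGroup hS _).map _).comap_subtype).to_le hle
  have hBΦ : (Subgroup.closure TB).map (autMap F hS₀ hker hQS) ≤
      (P₀ : Subgroup (F.autGroup Q)).map (autMap F hS₀ hker hQS) := by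
    rw [Subgroup.map_le_iff_le_comap, Subgroup.closure_le]
    rintro b ⟨g, hgS, hgN, ⟨hg'S, hg'N, h', hh'S, hh'⟩, hb⟩
    show autMap F hS₀ hker hQS b ∈ (P₀ : Subgroup (F.autGroup Q)).map (autMap F hS₀ hker hQS)
    have hh'N : h' ∈ Subgroup.normalizer ((imageAlong θ Q : Subgroup Ω') : Set Ω') :=
      mem_normalizer_of_extender_cond hφ'range hg'N hh'
    have hh'r : h' ∈ θ.range := by rw [hrange]; exact hh'S
    obtain ⟨h, rfl⟩ := hh'r
    have hhN : (h : Ω) ∈ Subgroup.normalizer (Q : Set Ω) :=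
      mem_normalizer_of_map hker hQS hS₀Q h.2 hh'N
    refine ⟨⟨Q.normalizerMonoidHom ⟨h, hhN⟩, conjAut_mem F hQS h.2 hhN⟩, ?_, ?_⟩
    · show _ ∈ (P₀ : Subgroup (F.autGroup Q))
      rw [hP₀, Subgroup.mem_subgroupOf, mem_autInducedBy_iff]
      exact ⟨h, h.2, hhN, fun x => rfl⟩
    · ext y
      rw [autMap_conj F hS₀ hker hQS h.2 hhN y]
      have hbeq : b = ⟨MulAut.congr e ((preimageAlong θ R').normalizerMonoidHom ⟨g, hgN⟩),
          congr_mem_autGroup F he (conjAut_mem F hRS hgS hgN)⟩ := Subtype.ext hb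
      rw [hbeq]
      exact (hkey g hgS hgN _ hh' y).symm
  obtain ⟨κ, hκker, hκ⟩ := exists_ker_conj_le (autMap F hS₀ hker hQS) P₀ _ hBp hBΦ
  -- the modified map
  have hκF : (κ : MulAut Q) ∈ Iso F Q Q := (mem_autGroup_iff F hQS _).mp κ.2
  have he₂ : e.trans (κ : MulAut Q) ∈ Iso F (preimageAlong θ R') Q := iso_trans F he hκF
  obtain ⟨ψ, hψ, hψφ⟩ := hQr.2 _ _ he₂ (range_subtype_comp _)
  have hextS : extender S (preimageAlong θ R')
      (Q.subtype.comp (e.trans (κ : MulAut Q)).toMonoidHom) ≤ S :=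
    (extender_le_normalizerIn _ _).trans inf_le_left
  have hgen : ∀ g' ∈ gen', g' ∈ imageAlong θ (extender S (preimageAlong θ R')
      (Q.subtype.comp (e.trans (κ : MulAut Q)).toMonoidHom)) := by
    rintro g' ⟨hg'S, hg'N, h', hh'S, hh'⟩
    have hg'r : g' ∈ θ.range := by rw [hrange]; exact hg'S
    obtain ⟨g, rfl⟩ := hg'r
    have hgN : (g : Ω) ∈ Subgroup.normalizer ((preimageAlong θ R' : Subgroup Ω) : Set Ω) := by
      haveI : Finite (((preimageAlong θ R' : Subgroup Ω)) : Set Ω) := finite_of_le hRS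
      apply Subgroup.mem_normalizer_fintype
      intro x hx
      have hxS : (g : Ω) * x * (g : Ω)⁻¹ ∈ S := S.mul_mem (S.mul_mem g.2 (hRS hx)) (S.inv_mem g.2)
      show (g : Ω) * x * (g : Ω)⁻¹ ∈ preimageAlong θ R'
      rw [mem_preimageAlong θ _ hxS]
      have : θ ⟨(g : Ω) * x * (g : Ω)⁻¹, hxS⟩ = θ g * θ ⟨x, hRS hx⟩ * (θ g)⁻¹ := by
        rw [← map_inv, ← map_mul, ← map_mul]; rfl
      rw [this]
      exact (Subgroup.mem_normalizer_iff.mp hg'N _).mp ((mem_preimageAlong θ _ (hRS hx)).mp hx)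
    have hbB : (⟨MulAut.congr e ((preimageAlong θ R').normalizerMonoidHom ⟨g, hgN⟩),
        congr_mem_autGroup F he (conjAut_mem F hRS g.2 hgN)⟩ : F.autGroup Q) ∈
        Subgroup.closure TB :=
      Subgroup.subset_closure ⟨g, g.2, hgN, ⟨hg'S, hg'N, h', hh'S, hh'⟩, rfl⟩
    have h1 := hκ _ hbB
    have h2 : ((κ * ⟨MulAut.congr e ((preimageAlong θ R').normalizerMonoidHom ⟨g, hgN⟩),
        congr_mem_autGroup F he (conjAut_mem F hRS g.2 hgN)⟩ * κ⁻¹ : F.autGroup Q) : MulAut Q) ∈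
        autInducedBy S Q := by
      have : _ ∈ (P₀ : Subgroup (F.autGroup Q)) := h1
      rw [hP₀] at this
      exact this
    rw [mem_autInducedBy_iff] at h2
    obtain ⟨t, htS, htN, ht⟩ := h2
    have hgext : (g : Ω) ∈ extender S (preimageAlong θ R')
        (Q.subtype.comp (e.trans (κ : MulAut Q)).toMonoidHom) := by
      refine mem_extender_of g.2 hgN ⟨t, htS, ?_⟩
      intro x hx
      have h3 := ht ((κ : MulAut Q) (e x))
      show (((κ : MulAut Q) (e ⟨(g : Ω) * x * (g : Ω)⁻¹, hx⟩) : Q) : Ω) =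
        t * (((κ : MulAut Q) (e x) : Q) : Ω) * t⁻¹
      rw [← h3]
      show _ = (((κ : MulAut Q) (e ((preimageAlong θ R').normalizerMonoidHom ⟨g, hgN⟩
        (e.symm ((κ : MulAut Q)⁻¹ ((κ : MulAut Q) (e x)))))) : Q) : Ω)
      rw [MulAut.inv_apply_self, MulEquiv.symm_apply_apply]
      rfl
    exact map_mem_imageAlong θ hextS ⟨g, hgext⟩
  have hpreN : preimageAlong θ (extender S' R' φ') ≤ extender S (preimageAlong θ R')
      (Q.subtype.comp (e.trans (κ : MulAut Q)).toMonoidHom) := by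
    intro y hy
    have hyS : y ∈ S := preimageAlong_le θ _ hy
    rw [mem_preimageAlong θ _ hyS, hN'def] at hy
    have hy2 := (Subgroup.closure_le _).mpr hgen hy
    obtain ⟨g₂, hg₂⟩ := exists_of_mem_imageAlong θ hextS hy2
    have h1 : θ ((⟨g₂, hextS g₂.2⟩ : S)⁻¹ * ⟨y, hyS⟩) = 1 := by
      rw [map_mul, map_inv, hg₂, inv_mul_cancel]
    have h2 : (g₂ : Ω)⁻¹ * y ∈ S₀ := (hker _).mp h1
    have h3 : y = g₂ * ((g₂ : Ω)⁻¹ * y) := by group
    rw [h3]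
    exact Subgroup.mul_mem _ g₂.2 (le_extender F he₂ (hS₀R h2))
  have hN'S' : extender S' R' φ' ≤ S' := (extender_le_normalizerIn _ _).trans inf_le_left
  have hψ₂ := restrict_mem F hpreN hψ
  obtain ⟨ψ', hψ'ind⟩ := exists_induced hS₀ hker hrange hN'S' hψ₂
  have hψ'E : ψ' ∈ E.Hom (extender S' R' φ') := (hE.2.2.2 _ ψ').mpr ⟨hN'S', _, hψ₂, hψ'ind⟩
  refine ⟨ψ', hψ'E, ?_⟩
  intro x' hP hN
  obtain ⟨x, hx⟩ := surj_onto hrange hR'S' ⟨x', hP⟩
  have hx'' : θ ⟨x, hRS x.2⟩ = x' := hx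
  have hxN : (x : Ω) ∈ preimageAlong θ (extender S' R' φ') := by
    rw [mem_preimageAlong θ _ (hRS x.2), hx'']; exact hN
  obtain ⟨hP₂, hval₂, hmap₂, hind₂⟩ := hψ'ind
  have h1 := hind₂ ⟨x, hxN⟩
  have h2 : ψ (Subgroup.inclusion hpreN ⟨x, hxN⟩) =
      (((κ : MulAut Q) (e x) : Q) : Ω) := hψφ x x.2 (hpreN hxN)
  have h3 : θ ⟨(((κ : MulAut Q) (e x) : Q) : Ω), hQS ((κ : MulAut Q) (e x)).2⟩ =
      θ ⟨((e x : Q) : Ω), hQS (e x).2⟩ := by
    have h4 := autMap_apply_coe F hS₀ hker hQS κ (e x) (map_mem_imageAlong θ hQS (e x))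
    rw [← h4]
    have h5 : autMap F hS₀ hker hQS κ = 1 := hκker
    rw [h5]
    rfl
  have h6 : θ ⟨((e x : Q) : Ω), hQS (e x).2⟩ = φ' ⟨θ ⟨x, hRS x.2⟩, hmap x⟩ := by
    rw [hind x]
    congr 1
    exact Subtype.ext (heφ x)
  have h7 : ψ' ⟨x', hN⟩ = ψ' ⟨θ ⟨x, hP₂ hxN⟩, hmap₂ ⟨x, hxN⟩⟩ := by
    congr 1
    exact Subtype.ext hx''.symm
  have h8 : φ' ⟨x', hP⟩ = φ' ⟨θ ⟨x, hRS x.2⟩, hmap x⟩ := by
    congr 1
    exact Subtype.ext hx''.symm
  rw [h7, h8, h1, ← h6, ← h3]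
  congr 1
  exact Subtype.ext h2

/-- **The factor system of a saturated fusion system by a strongly closed subgroup is
saturated.** -/
theorem factor_saturated [Finite S] {p : ℕ} [Fact p.Prime] (hS : IsPGroup p S) {F : FusionSystem S}
    (hF : F.IsSaturated p) {S₀ : Subgroup Ω} (hS₀ : F.StronglyClosed S₀)
    {θ : S →* Ω'} {E : FusionSystem S'} (hE : F.IsFactorSystem S₀ θ E) : E.IsSaturated p := by
  have hker := hE.2.1
  have hrange := hE.2.2.1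
  intro P' hP'
  have hpreS : preimageAlong θ P' ≤ S := preimageAlong_le θ P'
  obtain ⟨Q, hPQ, hQn⟩ := exists_fullyNormalized F hpreS
  obtain ⟨-, hQa⟩ := fullyNormalized_facts hS F hF hQn
  have hQr := receptive_of_fullyNormalized hS F hF hQn
  have hQS : Q ≤ S := hQn.1
  obtain ⟨φ, hφ, hφr⟩ := hPQ
  have hS₀P : S₀ ≤ preimageAlong θ P' := kernel_le_preimage hker hS₀.1 P'
  have hS₀Q : S₀ ≤ Q := by
    rw [← hφr, ← map_eq_of_stronglyClosed F hS₀ hS₀P hφ]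
    rintro _ ⟨x, -, rfl⟩; exact ⟨x, rfl⟩
  refine ⟨imageAlong θ Q, ?_, fullyAutomized_image hS₀ hE hS₀Q hQa,
    receptive_image hS hS₀ hE hS₀Q hQa hQr⟩
  obtain ⟨φ', hφ'ind⟩ := exists_induced hS₀ hker hrange hP' hφ
  have hφ'E : φ' ∈ E.Hom P' := (hE.2.2.2 _ φ').mpr ⟨hP', φ, hφ, hφ'ind⟩
  refine ⟨φ', hφ'E, ?_⟩
  obtain ⟨hP, hval, hmap, hind⟩ := hφ'ind
  ext y
  constructor
  · rintro ⟨x', rfl⟩
    obtain ⟨x, hx⟩ := surj_onto hrange hP' x'
    have : x' = ⟨θ ⟨x, hP x.2⟩, hmap x⟩ := Subtype.ext hx.symm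
    rw [this, hind x]
    exact map_mem_imageAlong θ hQS ⟨φ x, by rw [← hφr]; exact ⟨x, rfl⟩⟩
  · intro hy
    obtain ⟨q, hq⟩ := exists_of_mem_imageAlong θ hQS hy
    have : (q : Ω) ∈ φ.range := by rw [hφr]; exact q.2
    obtain ⟨x, hx⟩ := this
    refine ⟨⟨θ ⟨x, hP x.2⟩, hmap x⟩, ?_⟩
    rw [hind x, ← hq]
    congr 1; exact Subtype.ext hx

/-- A surjective morphism exhibits its target as the factor system by its kernel, which is
strongly closed. -/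
theorem isFactorSystem_of_surjectiveMorphism (F : FusionSystem S) (F' : FusionSystem S')
    (α : S →* Ω') (hα : F.IsSurjectiveMorphism F' α) :
    F.IsFactorSystem ((α.ker).map S.subtype) α F' ∧ F.StronglyClosed ((α.ker).map S.subtype) := by
  obtain ⟨⟨hαS', hmor⟩, hrange, hsurj⟩ := hα
  have hTS : (α.ker).map S.subtype ≤ S := Subgroup.map_subtype_le _
  have hker : ∀ s : S, α s = 1 ↔ (s : Ω) ∈ (α.ker).map S.subtype := by
    intro s
    constructor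
    · intro h; exact ⟨s, h, rfl⟩
    · rintro ⟨s', hs', heq⟩
      have : s' = s := Subtype.ext heq
      rw [← this]; exact hs'
  refine ⟨⟨hTS, hker, hrange, ?_⟩, hTS, ?_⟩
  · intro P' φ'
    constructor
    · intro hφ'
      exact ⟨(F'.le_of_mem hφ').1, hsurj P' (F'.le_of_mem hφ').1 φ' hφ'⟩
    · rintro ⟨hP', φ, hφ, hP, hval, hmap, hind⟩
      obtain ⟨φ'', hφ'', hP₂, hval₂, hmap₂, hind₂⟩ := hmor _ φ hφ
      have himg : imageAlong α (preimageAlong α P') = P' := by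
        ext y
        constructor
        · intro hy
          obtain ⟨x, rfl⟩ := exists_of_mem_imageAlong α hP hy
          exact hmap x
        · intro hy
          obtain ⟨x, hx⟩ := surj_onto hrange hP' ⟨y, hy⟩
          have hx' : α ⟨x, hP x.2⟩ = y := hx
          rw [← hx']
          exact map_mem_imageAlong α hP x
      refine hom_congr F' himg hφ'' φ' ?_
      intro y hy hy'
      obtain ⟨x, hx⟩ := surj_onto hrange hP' ⟨y, hy'⟩
      have hx' : α ⟨x, hP x.2⟩ = y := hx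
      have h1 : (⟨y, hy'⟩ : P') = ⟨α ⟨x, hP x.2⟩, hmap x⟩ := Subtype.ext hx'.symm
      have h2 : (⟨y, hy⟩ : imageAlong α (preimageAlong α P')) = ⟨α ⟨x, hP₂ x.2⟩, hmap₂ x⟩ :=
        Subtype.ext hx'.symm
      rw [h1, h2, hind x, hind₂ x]
  · intro R hR φ hφ x
    obtain ⟨φ'', hφ'', hP₂, hval₂, hmap₂, hind₂⟩ := hmor _ φ hφ
    have h1 : α ⟨x, hP₂ x.2⟩ = 1 := (hker _).mpr (hR x.2)
    have h2 : (⟨α ⟨x, hP₂ x.2⟩, hmap₂ x⟩ : imageAlong α R) = 1 := Subtype.ext h1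
    have h3 := hind₂ x
    rw [h2, map_one] at h3
    exact (hker ⟨φ x, hval₂ x⟩).mp h3.symm

/-- **The image of a saturated fusion system under a surjective morphism is saturated.** -/
theorem saturated_of_surjectiveMorphism [Finite S] {p : ℕ} [Fact p.Prime] (hS : IsPGroup p S)
    {F : FusionSystem S} (hF : F.IsSaturated p) (F' : FusionSystem S') (α : S →* Ω')
    (hα : F.IsSurjectiveMorphism F' α) : F'.IsSaturated p := by
  obtain ⟨hfac, hsc⟩ := isFactorSystem_of_surjectiveMorphism F F' α hα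
  exact factor_saturated hS hF hsc hfac

end Cfsg.Agent.Lib.Helper8_FactorSat
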