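import Mathlib
import Cfsg.Prelude.Def_Transfer

set_option autoImplicit false
open Cfsg

namespace Cfsg.Agent.Lib.Helper8_Thompson

universe u
variable {G : Type u} [Group G]

/-- Conjugation of subgroups. -/
abbrev cjT (g : G) (P : Subgroup G) : Subgroup G := P.map (MulAut.conj g).toMonoidHom

theorem mem_cjT (g : G) (P : Subgroup G) (y : G) : y ∈ cjT g P ↔ g⁻¹ * y * g ∈ P := by
  constructor
  · rintro ⟨x, hx, rfl⟩
    have : g⁻¹ * ((MulAut.conj g).toMonoidHom x) * g = x := by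
      simp [MulAut.conj_apply]; group
    rw [this]; exact hx
  · intro h
    refine ⟨g⁻¹ * y * g, h, ?_⟩
    simp [MulAut.conj_apply]; group

theorem cjT_mem (g : G) (P : Subgroup G) {x : G} (hx : x ∈ P) : g * x * g⁻¹ ∈ cjT g P :=
  ⟨x, hx, by simp [MulAut.conj_apply]⟩

theorem cjT_cjT (g h : G) (P : Subgroup G) : cjT g (cjT h P) = cjT (g * h) P := by
  ext y
  rw [mem_cjT, mem_cjT, mem_cjT]
  have : h⁻¹ * (g⁻¹ * y * g) * h = (g * h)⁻¹ * y * (g * h) := by group
  rw [this]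

theorem cjT_one (P : Subgroup G) : cjT 1 P = P := by
  ext y
  rw [mem_cjT]; simp

theorem cjT_inv_cjT (g : G) (P : Subgroup G) : cjT g⁻¹ (cjT g P) = P := by
  rw [cjT_cjT, inv_mul_cancel, cjT_one]

theorem cjT_cjT_inv (g : G) (P : Subgroup G) : cjT g (cjT g⁻¹ P) = P := by
  rw [cjT_cjT, mul_inv_cancel, cjT_one]

theorem cjT_mono (g : G) {P Q : Subgroup G} (h : P ≤ Q) : cjT g P ≤ cjT g Q := Subgroup.map_mono h

theorem card_cjT (g : G) (P : Subgroup G) : Nat.card (cjT g P) = Nat.card P :=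
  Subgroup.card_map_of_injective (MulAut.conj g).injective

theorem isMulCommutative_iff (A : Subgroup G) :
    IsMulCommutative A ↔ ∀ x ∈ A, ∀ y ∈ A, x * y = y * x := by
  constructor
  · intro h x hx y hy
    exact congrArg Subtype.val (h.is_comm.comm ⟨x, hx⟩ ⟨y, hy⟩)
  · intro h
    exact ⟨⟨fun a b => Subtype.ext (h a a.2 b b.2)⟩⟩

/-- Elementwise form of elementary abelian. -/
theorem isElementaryAbelian_iff (p : ℕ) (A : Subgroup G) :
    Cfsg.IsElementaryAbelian p A ↔ (∀ x ∈ A, ∀ y ∈ A, x * y = y * x) ∧ ∀ a ∈ A, a ^ p = 1 := by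
  unfold Cfsg.IsElementaryAbelian
  rw [isMulCommutative_iff]

theorem ea_cjT (p : ℕ) (g : G) {A : Subgroup G} (h : Cfsg.IsElementaryAbelian p A) :
    Cfsg.IsElementaryAbelian p (cjT g A) := by
  rw [isElementaryAbelian_iff] at h ⊢
  constructor
  · rintro _ ⟨x, hx, rfl⟩ _ ⟨y, hy, rfl⟩
    rw [← map_mul, ← map_mul, h.1 x hx y hy]
  · rintro _ ⟨x, hx, rfl⟩
    rw [← map_pow, h.2 x hx, map_one]

theorem ea_map_subtype (p : ℕ) (P : Subgroup G) (A' : Subgroup P) :
    Cfsg.IsElementaryAbelian p (A'.map P.subtype) ↔ Cfsg.IsElementaryAbelian p A' := by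
  rw [isElementaryAbelian_iff, isElementaryAbelian_iff]
  constructor
  · rintro ⟨h1, h2⟩
    constructor
    · intro x hx y hy
      apply Subtype.ext
      exact h1 _ ⟨x, hx, rfl⟩ _ ⟨y, hy, rfl⟩
    · intro a ha
      apply Subtype.ext
      have := h2 _ ⟨a, ha, rfl⟩
      simpa using this
  · rintro ⟨h1, h2⟩
    constructor
    · rintro _ ⟨x, hx, rfl⟩ _ ⟨y, hy, rfl⟩
      rw [← map_mul, ← map_mul, h1 x hx y hy]
    · rintro _ ⟨x, hx, rfl⟩
      rw [← map_pow, h2 x hx, map_one]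

/-- The elementary abelian subgroups of `P` of maximal order, as subgroups of the ambient group. -/
def maxEA (p : ℕ) (P : Subgroup G) : Set (Subgroup G) :=
  {A | A ≤ P ∧ Cfsg.IsElementaryAbelian p A ∧
    ∀ B : Subgroup G, B ≤ P → Cfsg.IsElementaryAbelian p B → Nat.card B ≤ Nat.card A}

theorem map_subtype_mem_maxEA (p : ℕ) (P : Subgroup G) {A' : Subgroup P}
    (h : A' ∈ Cfsg.maxElementaryAbelianSubgroups p P) : A'.map P.subtype ∈ maxEA p P := by
  obtain ⟨h1, h2⟩ := h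
  refine ⟨Subgroup.map_subtype_le A', (ea_map_subtype p P A').mpr h1, ?_⟩
  intro B hB hBea
  have hB' : Cfsg.IsElementaryAbelian p (B.subgroupOf P) := by
    rw [← ea_map_subtype, Subgroup.map_subgroupOf_eq_of_le hB]
    exact hBea
  have := h2 _ hB'
  rw [Subgroup.card_subtype]
  calc Nat.card B = Nat.card (B.subgroupOf P) :=
        (Nat.card_congr (Subgroup.subgroupOfEquivOfLe hB).toEquiv).symm
    _ ≤ Nat.card A' := this

theorem subgroupOf_mem_of_mem_maxEA (p : ℕ) (P : Subgroup G) {A : Subgroup G} (h : A ∈ maxEA p P) :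
    A.subgroupOf P ∈ Cfsg.maxElementaryAbelianSubgroups p P := by
  obtain ⟨hAP, h1, h2⟩ := h
  constructor
  · rw [← ea_map_subtype, Subgroup.map_subgroupOf_eq_of_le hAP]
    exact h1
  · intro B' hB'
    have := h2 (B'.map P.subtype) (Subgroup.map_subtype_le B') ((ea_map_subtype p P B').mpr hB')
    rw [Subgroup.card_subtype] at this
    calc Nat.card B' ≤ Nat.card A := this
      _ = Nat.card (A.subgroupOf P) := (Nat.card_congr (Subgroup.subgroupOfEquivOfLe hAP).toEquiv).symm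

/-- The Thompson subgroup of `P ≤ G` in ambient terms. -/
theorem thompsonSubgroupOf_eq (p : ℕ) (P : Subgroup G) :
    Cfsg.thompsonSubgroupOf p P = sSup (maxEA p P) := by
  unfold Cfsg.thompsonSubgroupOf Cfsg.thompsonSubgroup
  rw [sSup_eq_iSup', Subgroup.map_iSup]
  apply le_antisymm
  · apply iSup_le
    rintro ⟨A', hA'⟩
    exact le_sSup (map_subtype_mem_maxEA p P hA')
  · apply sSup_le
    intro A hA
    have h1 := subgroupOf_mem_of_mem_maxEA p P hA
    have h2 : (A.subgroupOf P).map P.subtype = A := Subgroup.map_subgroupOf_eq_of_le hA.1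
    rw [← h2]
    exact le_iSup (fun a : {A' // A' ∈ Cfsg.maxElementaryAbelianSubgroups p P} =>
      Subgroup.map P.subtype (a : Subgroup P)) ⟨_, h1⟩

theorem cjT_mem_maxEA (p : ℕ) (g : G) {P A : Subgroup G} (h : A ∈ maxEA p P) :
    cjT g A ∈ maxEA p (cjT g P) := by
  obtain ⟨hAP, h1, h2⟩ := h
  refine ⟨cjT_mono g hAP, ea_cjT p g h1, ?_⟩
  intro B hB hBea
  have hB' : cjT g⁻¹ B ≤ P := by
    have := cjT_mono g⁻¹ hB
    rwa [cjT_inv_cjT] at this
  have := h2 _ hB' (ea_cjT p g⁻¹ hBea)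
  rw [card_cjT] at this
  rw [card_cjT]
  exact this

theorem thompson_cjT (p : ℕ) (g : G) (P : Subgroup G) :
    Cfsg.thompsonSubgroupOf p (cjT g P) = cjT g (Cfsg.thompsonSubgroupOf p P) := by
  have key : ∀ (g : G) (P : Subgroup G),
      cjT g (Cfsg.thompsonSubgroupOf p P) ≤ Cfsg.thompsonSubgroupOf p (cjT g P) := by
    intro g P
    rw [thompsonSubgroupOf_eq, thompsonSubgroupOf_eq]
    show Subgroup.map _ (sSup (maxEA p P)) ≤ _
    rw [sSup_eq_iSup', Subgroup.map_iSup]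
    apply iSup_le
    rintro ⟨A, hA⟩
    exact le_sSup (cjT_mem_maxEA p g hA)
  apply le_antisymm
  · have := key g⁻¹ (cjT g P)
    rw [cjT_inv_cjT] at this
    have h2 := cjT_mono g this
    rwa [cjT_cjT_inv] at h2
  · exact key g P

theorem thompson_le (p : ℕ) (P : Subgroup G) : Cfsg.thompsonSubgroupOf p P ≤ P := by
  unfold Cfsg.thompsonSubgroupOf
  exact Subgroup.map_subtype_le _

/-- If `J(P)` lies in a conjugate `P₁` of `P` then `J(P₁) = J(P)`. -/
theorem thompson_eq_of_le [Finite G] (p : ℕ) (g : G) (P : Subgroup G)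
    (h : Cfsg.thompsonSubgroupOf p P ≤ cjT g P) :
    Cfsg.thompsonSubgroupOf p (cjT g P) = Cfsg.thompsonSubgroupOf p P := by
  have hle : Cfsg.thompsonSubgroupOf p P ≤ Cfsg.thompsonSubgroupOf p (cjT g P) := by
    conv_lhs => rw [thompsonSubgroupOf_eq]
    apply sSup_le
    intro A hA
    have hAJ : A ≤ Cfsg.thompsonSubgroupOf p P := by
      rw [thompsonSubgroupOf_eq]; exact le_sSup hA
    rw [thompsonSubgroupOf_eq]
    apply le_sSup
    refine ⟨hAJ.trans h, hA.2.1, ?_⟩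
    intro B hB hBea
    have hB' : cjT g⁻¹ B ≤ P := by
      have := cjT_mono g⁻¹ hB
      rwa [cjT_inv_cjT] at this
    have := hA.2.2 _ hB' (ea_cjT p g⁻¹ hBea)
    rwa [card_cjT] at this
  symm
  apply Subgroup.eq_of_le_of_card_ge hle
  rw [thompson_cjT, card_cjT]

end Cfsg.Agent.Lib.Helper8_Thompson
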