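import Mathlib
import Cfsg.Prelude.Def_FusionComponents
import Cfsg.Agent.Lib.Helper8_FactorSat
import Cfsg.Agent.Lib.Helper8_Thompson
import Cfsg.Agent.S5089

set_option autoImplicit false
set_option linter.style.haveILetI false
set_option linter.unusedVariables false
open Cfsg

namespace Cfsg.Agent.Lib.Helper8_Solvable

open scoped commutatorElement

open Cfsg.FusionSystem Cfsg.Agent.Lib.Helper8_Fusion Cfsg.Agent.Lib.Helper8_Factor
open Cfsg.Agent.Lib.Helper8_Factor2
open Cfsg.Agent.Lib.Helper8_GroupFusion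
open Cfsg.Agent.Lib.Helper8_Saturated
open Cfsg.Agent.Lib.Helper8_Alperin
open Cfsg.Agent.Lib.Helper8_Chain
open Cfsg.Agent.Lib.Helper8_Morphism
open Cfsg.Agent.Lib.Helper8_FactorSat

variable {Ω : Type*} [Group Ω] {S : Subgroup Ω} {Ω' : Type*} [Group Ω'] {S' : Subgroup Ω'}

/-- The full preimage of a strongly closed subgroup of the factor system is strongly closed. -/
theorem stronglyClosed_preimage [Finite S] {p : ℕ} [Fact p.Prime] (hS : IsPGroup p S)
    {F : FusionSystem S} (hF : F.IsSaturated p) {S₀ : Subgroup Ω} (hS₀ : F.StronglyClosed S₀)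
    {θ : S →* Ω'} {E : FusionSystem S'} (hE : F.IsFactorSystem S₀ θ E) {A' : Subgroup Ω'}
    (hA' : E.StronglyClosed A') : F.StronglyClosed (preimageAlong θ A') := by
  have hmor := factor_isMorphism hS F hF hS₀ hE
  refine ⟨preimageAlong_le θ A', fun R hR φ hφ x => ?_⟩
  obtain ⟨φ', hφ', hRS, hval, hmap, hind⟩ := hmor.2 R φ hφ
  have hle : imageAlong θ R ≤ A' := by
    intro y hy
    obtain ⟨r, rfl⟩ := exists_of_mem_imageAlong θ hRS hy
    exact (mem_preimageAlong θ _ (hRS r.2)).mp (hR r.2)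
  have h1 := hA'.2 _ hle φ' hφ' ⟨θ ⟨x, hRS x.2⟩, hmap x⟩
  rw [hind x] at h1
  exact (mem_preimageAlong θ _ (hval x)).mpr h1

/-- The image of a strongly closed subgroup is strongly closed in the factor system. -/
theorem stronglyClosed_image {F : FusionSystem S} {S₀ : Subgroup Ω}
    {θ : S →* Ω'} {E : FusionSystem S'} (hE : F.IsFactorSystem S₀ θ E) {T : Subgroup Ω}
    (hT : F.StronglyClosed T) : E.StronglyClosed (imageAlong θ T) := by
  have hθ : ∀ s : S, θ s ∈ S' := fun s => by rw [← hE.2.2.1]; exact ⟨s, rfl⟩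
  refine ⟨imageAlong_le hθ T, fun R' hR' φ' hφ' x' => ?_⟩
  obtain ⟨-, ψ, hψ, hP, hval, hmap, hind⟩ := (hE.2.2.2 _ φ').mp hφ'
  obtain ⟨t, ht⟩ := exists_of_mem_imageAlong θ hT.1 (hR' x'.2)
  have htpre : (t : Ω) ∈ preimageAlong θ R' := by
    rw [mem_preimageAlong θ _ (hT.1 t.2), ht]; exact x'.2
  have h3 : ψ ⟨t, htpre⟩ ∈ T :=
    hT.2 (preimageAlong θ R' ⊓ T) inf_le_right _ (restrict_mem F inf_le_left hψ) ⟨t, ⟨htpre, t.2⟩⟩
  have h4 : φ' x' = θ ⟨ψ ⟨t, htpre⟩, hval _⟩ := by
    rw [← hind ⟨t, htpre⟩]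
    congr 1
    exact Subtype.ext ht.symm
  rw [h4]
  exact map_mem_imageAlong θ hT.1 ⟨_, h3⟩

theorem normal_subgroupOf_of_stronglyClosed (F : FusionSystem S) {T : Subgroup Ω}
    (hT : F.StronglyClosed T) : (T.subgroupOf S).Normal := by
  refine ⟨fun n hn g => ?_⟩
  rw [Subgroup.mem_subgroupOf] at hn ⊢
  exact conj_mem_of_stronglyClosed F hT g.2 hn

theorem mk'_eq_one_iff {T : Subgroup Ω} [(T.subgroupOf S).Normal] (s : S) :
    QuotientGroup.mk' (T.subgroupOf S) s = 1 ↔ (s : Ω) ∈ T := by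
  rw [QuotientGroup.mk'_apply, QuotientGroup.eq_one_iff, Subgroup.mem_subgroupOf]

theorem mk'_range {T : Subgroup Ω} [(T.subgroupOf S).Normal] :
    (QuotientGroup.mk' (T.subgroupOf S)).range = (⊤ : Subgroup (S ⧸ T.subgroupOf S)) :=
  MonoidHom.range_eq_top.mpr (QuotientGroup.mk'_surjective _)

/-- In a solvable saturated system every strongly closed `T ≠ S` has a strongly closed
`T' > T` with `T'/T` abelian. -/
theorem exists_next [Finite S] {p : ℕ} [Fact p.Prime] (hS : IsPGroup p S)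
    {F : FusionSystem S} (hF : F.IsSaturated p) (hsolv : F.IsSolvableSystem) {T : Subgroup Ω}
    (hT : F.StronglyClosed T) (hne : T ≠ S) :
    ∃ T' : Subgroup Ω, F.StronglyClosed T' ∧ T < T' ∧ ⁅T', T'⁆ ≤ T := by
  haveI hnorm : (T.subgroupOf S).Normal := normal_subgroupOf_of_stronglyClosed F hT
  have hker : ∀ s : S, QuotientGroup.mk' (T.subgroupOf S) s = 1 ↔ (s : Ω) ∈ T := mk'_eq_one_iff
  have hrange := mk'_range (S := S) (T := T)
  have hE : F.IsFactorSystem T (QuotientGroup.mk' (T.subgroupOf S)) (factorSystem hT hker hrange) :=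
    factorSystem_isFactorSystem hT hker hrange
  have hcore := hsolv T hT hne (factorSystem hT hker hrange) hE
  have hEsat := factor_saturated hS hF hT hE
  haveI : Finite (⊤ : Subgroup (S ⧸ T.subgroupOf S)) := inferInstance
  have hS' : IsPGroup p (⊤ : Subgroup (S ⧸ T.subgroupOf S)) :=
    (hS.to_quotient (T.subgroupOf S)).of_equiv Subgroup.topEquiv.symm
  obtain ⟨Q', hQ'ne, hQ'ab, hQ'sc⟩ := (Cfsg.Agent.S5089.result p hS' _ hEsat).mp hcore
  refine ⟨preimageAlong (QuotientGroup.mk' (T.subgroupOf S)) Q',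
    stronglyClosed_preimage hS hF hT hE hQ'sc, ?_, ?_⟩
  · refine lt_of_le_of_ne (kernel_le_preimage hker hT.1 _) ?_
    intro heq
    apply hQ'ne
    rw [eq_bot_iff]
    intro q' hq'
    obtain ⟨x, hx⟩ := surj_onto hrange hQ'sc.1 ⟨q', hq'⟩
    have hx' : QuotientGroup.mk' (T.subgroupOf S) ⟨x, preimageAlong_le _ _ x.2⟩ = q' := hx
    have hxT : (x : Ω) ∈ T := heq.symm.le x.2
    rw [Subgroup.mem_bot, ← hx']
    exact (hker _).mpr hxT
  · rw [Subgroup.commutator_le]
    intro a ha b hb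
    have haS : a ∈ S := preimageAlong_le _ _ ha
    have hbS : b ∈ S := preimageAlong_le _ _ hb
    have ha' := (mem_preimageAlong _ _ haS).mp ha
    have hb' := (mem_preimageAlong _ _ hbS).mp hb
    have hcomm := (Cfsg.Agent.Lib.Helper8_Thompson.isMulCommutative_iff Q').mp hQ'ab _ ha' _ hb'
    have h1 : QuotientGroup.mk' (T.subgroupOf S) ⁅(⟨a, haS⟩ : S), ⟨b, hbS⟩⁆ = 1 := by
      rw [map_commutatorElement, commutatorElement_eq_one_iff_mul_comm]
      exact hcomm
    exact (hker _).mp h1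

theorem stronglyClosed_top (F : FusionSystem S) : F.StronglyClosed S :=
  ⟨le_rfl, fun R hR φ hφ x => (F.le_of_mem hφ).2 x⟩

theorem stronglyClosed_bot (F : FusionSystem S) : F.StronglyClosed ⊥ := by
  refine ⟨bot_le, fun R hR φ hφ x => ?_⟩
  have hx : (x : Ω) = 1 := Subgroup.mem_bot.mp (hR x.2)
  have : x = 1 := Subtype.ext hx
  rw [this, map_one]
  exact Subgroup.one_mem _

/-- A solvable saturated system has a chain of strongly closed subgroups with abelian factors. -/
theorem exists_chain_of_solvable [Finite S] {p : ℕ} [Fact p.Prime] (hS : IsPGroup p S)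
    {F : FusionSystem S} (hF : F.IsSaturated p) (hsolv : F.IsSolvableSystem) :
    ∃ (n : ℕ) (T : Fin (n + 1) → Subgroup Ω), T 0 = ⊥ ∧ T (Fin.last n) = S ∧ Monotone T ∧
      (∀ i, F.StronglyClosed (T i)) ∧ ∀ i : Fin n, ⁅T i.succ, T i.succ⁆ ≤ T (Fin.castSucc i) := by
  classical
  let next : Subgroup Ω → Subgroup Ω := fun T =>
    if h : F.StronglyClosed T ∧ T ≠ S then Classical.choose (exists_next hS hF hsolv h.1 h.2) else S
  have hnext_sc : ∀ T, F.StronglyClosed T → F.StronglyClosed (next T) := by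
    intro T hT
    by_cases hne : T ≠ S
    · have h : F.StronglyClosed T ∧ T ≠ S := ⟨hT, hne⟩
      show F.StronglyClosed (if h : F.StronglyClosed T ∧ T ≠ S then
        Classical.choose (exists_next hS hF hsolv h.1 h.2) else S)
      rw [dif_pos h]
      exact (Classical.choose_spec (exists_next hS hF hsolv h.1 h.2)).1
    · have h : ¬ (F.StronglyClosed T ∧ T ≠ S) := fun h => hne h.2
      show F.StronglyClosed (if h : F.StronglyClosed T ∧ T ≠ S then
        Classical.choose (exists_next hS hF hsolv h.1 h.2) else S)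
      rw [dif_neg h]
      exact stronglyClosed_top F
  have hnext_lt : ∀ T, F.StronglyClosed T → T ≠ S → T < next T := by
    intro T hT hne
    have h : F.StronglyClosed T ∧ T ≠ S := ⟨hT, hne⟩
    show T < (if h : F.StronglyClosed T ∧ T ≠ S then
      Classical.choose (exists_next hS hF hsolv h.1 h.2) else S)
    rw [dif_pos h]
    exact (Classical.choose_spec (exists_next hS hF hsolv h.1 h.2)).2.1
  have hnext_top : next S = S := by
    have h : ¬ (F.StronglyClosed S ∧ S ≠ S) := fun h => h.2 rfl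
    show (if h : F.StronglyClosed S ∧ S ≠ S then
      Classical.choose (exists_next hS hF hsolv h.1 h.2) else S) = S
    rw [dif_neg h]
  have hnext_le : ∀ T, F.StronglyClosed T → T ≤ next T := by
    intro T hT
    by_cases hne : T ≠ S
    · exact (hnext_lt T hT hne).le
    · push_neg at hne
      rw [hne, hnext_top]
  have hnext_comm : ∀ T, F.StronglyClosed T → ⁅next T, next T⁆ ≤ T := by
    intro T hT
    by_cases hne : T ≠ S
    · have h : F.StronglyClosed T ∧ T ≠ S := ⟨hT, hne⟩
      show ⁅(if h : F.StronglyClosed T ∧ T ≠ S then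
        Classical.choose (exists_next hS hF hsolv h.1 h.2) else S), (if h : F.StronglyClosed T ∧ T ≠ S then
        Classical.choose (exists_next hS hF hsolv h.1 h.2) else S)⁆ ≤ T
      rw [dif_pos h]
      exact (Classical.choose_spec (exists_next hS hF hsolv h.1 h.2)).2.2
    · push_neg at hne
      rw [hne, hnext_top, Subgroup.commutator_le]
      intro a ha b hb
      exact S.mul_mem (S.mul_mem (S.mul_mem ha hb) (S.inv_mem ha)) (S.inv_mem hb)
  let U : ℕ → Subgroup Ω := fun i => next^[i] ⊥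
  have hU0 : U 0 = ⊥ := rfl
  have hUsucc : ∀ i, U (i + 1) = next (U i) := fun i => Function.iterate_succ_apply' next i ⊥
  have hUsc : ∀ i, F.StronglyClosed (U i) := by
    intro i
    induction i with
    | zero => exact stronglyClosed_bot F
    | succ i ih => rw [hUsucc]; exact hnext_sc _ ih
  have hUle : ∀ i, U i ≤ U (i + 1) := fun i => by rw [hUsucc]; exact hnext_le _ (hUsc i)
  have hUcard : ∀ i, U i = S ∨ i + 1 ≤ Nat.card (U i) := by
    intro i
    induction i with
    | zero =>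
      right
      rw [hU0, Subgroup.card_bot]
    | succ i ih =>
      rcases ih with ih | ih
      · left; rw [hUsucc, ih, hnext_top]
      · by_cases hne : U i = S
        · left; rw [hUsucc, hne, hnext_top]
        · right
          have hlt := hnext_lt _ (hUsc i) hne
          haveI : Finite (next (U i)) := finite_of_le (hnext_sc _ (hUsc i)).1
          have hcard : Nat.card (U i) < Nat.card (next (U i)) :=
            Set.Finite.card_lt_card (Set.toFinite _) hlt
          rw [hUsucc]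
          omega
  have hmono : Monotone U := monotone_nat_of_le_succ hUle
  refine ⟨Nat.card S, fun i => U i, ?_, ?_, ?_, ?_, ?_⟩
  · show U ((0 : Fin (Nat.card S + 1)) : ℕ) = ⊥
    rw [Fin.val_zero]
    exact hU0
  · show U ((Fin.last (Nat.card S) : Fin (Nat.card S + 1)) : ℕ) = S
    rw [Fin.val_last]
    rcases hUcard (Nat.card S) with h | h
    · exact h
    · exfalso
      have := Subgroup.card_le_of_le (hUsc (Nat.card S)).1
      omega
  · intro i j hij
    exact hmono (Fin.le_def.mp hij)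
  · intro i
    exact hUsc _
  · intro i
    show ⁅U ((i.succ : Fin (Nat.card S + 1)) : ℕ), U ((i.succ : Fin (Nat.card S + 1)) : ℕ)⁆ ≤
      U ((Fin.castSucc i : Fin (Nat.card S + 1)) : ℕ)
    rw [Fin.val_succ, Fin.val_castSucc, hUsucc]
    exact hnext_comm _ (hUsc _)

/-- A saturated system with a chain of strongly closed subgroups with abelian factors is
solvable. -/
theorem solvable_of_chain [Finite S] {p : ℕ} [Fact p.Prime] (hS : IsPGroup p S)
    {F : FusionSystem S} (hF : F.IsSaturated p) (n : ℕ) (T : Fin (n + 1) → Subgroup Ω)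
    (h0 : T 0 = ⊥) (hlast : T (Fin.last n) = S) (hmono : Monotone T)
    (hsc : ∀ i, F.StronglyClosed (T i))
    (hcomm : ∀ i : Fin n, ⁅T i.succ, T i.succ⁆ ≤ T (Fin.castSucc i)) : F.IsSolvableSystem := by
  classical
  intro R hR hne hnorm E hE
  have hker := hE.2.1
  have hrange := hE.2.2.1
  have hEsat := factor_saturated hS hF hR hE
  haveI : Finite (⊤ : Subgroup (S ⧸ R.subgroupOf S)) := inferInstance
  have hS' : IsPGroup p (⊤ : Subgroup (S ⧸ R.subgroupOf S)) :=
    (hS.to_quotient (R.subgroupOf S)).of_equiv Subgroup.topEquiv.symm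
  have hex : ∃ k : ℕ, ∃ h : k < n + 1, ¬ T ⟨k, h⟩ ≤ R := by
    refine ⟨n, Nat.lt_succ_self n, ?_⟩
    intro hle
    apply hne
    apply le_antisymm hR.1
    have : T ⟨n, Nat.lt_succ_self n⟩ = S := hlast
    rw [← this]; exact hle
  obtain ⟨hk, hkR⟩ := Nat.find_spec hex
  have hk0 : Nat.find hex ≠ 0 := by
    intro h0'
    apply hkR
    have : (⟨Nat.find hex, hk⟩ : Fin (n + 1)) = 0 := Fin.ext h0'
    rw [this, h0]
    exact bot_le
  obtain ⟨j, hj⟩ := Nat.exists_eq_succ_of_ne_zero hk0
  have hjn : j < n := by omega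
  have hjR : T (Fin.castSucc ⟨j, hjn⟩) ≤ R := by
    by_contra hcon
    have := Nat.find_min hex (m := j) (by omega)
    apply this
    exact ⟨by omega, hcon⟩
  have hsuccR : ¬ T (Fin.succ ⟨j, hjn⟩) ≤ R := by
    have : (Fin.succ ⟨j, hjn⟩ : Fin (n + 1)) = ⟨Nat.find hex, hk⟩ := Fin.ext hj.symm
    rw [this]; exact hkR
  refine (Cfsg.Agent.S5089.result p hS' E hEsat).mpr
    ⟨imageAlong (QuotientGroup.mk' (R.subgroupOf S)) (T (Fin.succ ⟨j, hjn⟩)), ?_, ?_,
      stronglyClosed_image hE (hsc _)⟩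
  · intro hbot
    apply hsuccR
    intro t ht
    have htS : t ∈ S := (hsc _).1 ht
    have h1 : QuotientGroup.mk' (R.subgroupOf S) ⟨t, htS⟩ ∈
        imageAlong (QuotientGroup.mk' (R.subgroupOf S)) (T (Fin.succ ⟨j, hjn⟩)) :=
      map_mem_imageAlong _ (hsc _).1 ⟨t, ht⟩
    rw [hbot, Subgroup.mem_bot] at h1
    exact (hker _).mp h1
  · rw [Cfsg.Agent.Lib.Helper8_Thompson.isMulCommutative_iff]
    intro a' ha' b' hb'
    obtain ⟨a, rfl⟩ := exists_of_mem_imageAlong _ (hsc _).1 ha'
    obtain ⟨b, rfl⟩ := exists_of_mem_imageAlong _ (hsc _).1 hb'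
    have h1 : ⁅(a : Ω), (b : Ω)⁆ ∈ R :=
      hjR (hcomm ⟨j, hjn⟩ (Subgroup.commutator_mem_commutator a.2 b.2))
    have h2 : QuotientGroup.mk' (R.subgroupOf S)
        ⁅(⟨a, (hsc _).1 a.2⟩ : S), ⟨b, (hsc _).1 b.2⟩⁆ = 1 := (hker _).mpr h1
    rw [map_commutatorElement, commutatorElement_eq_one_iff_mul_comm] at h2
    exact h2

end Cfsg.Agent.Lib.Helper8_Solvable
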