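import Mathlib
import Cfsg.Prelude.Def_FusionComponents
import Cfsg.Agent.Lib.Helper8_Solvable
import Cfsg.Agent.S5088
import Cfsg.Agent.S5145

set_option autoImplicit false
set_option linter.style.haveILetI false
set_option linter.unusedVariables false
open Cfsg

namespace Cfsg.Agent.Lib.Helper8_Constrained

open scoped commutatorElement

open Cfsg.FusionSystem Cfsg.Agent.Lib.Helper8_Fusion Cfsg.Agent.Lib.Helper8_Factor
open Cfsg.Agent.Lib.Helper8_Saturated
open Cfsg.Agent.Lib.Helper8_Alperin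
open Cfsg.Agent.Lib.Helper8_Chain
open Cfsg.Agent.Lib.Helper8_FactorSat
open Cfsg.Agent.Lib.Helper8_Solvable

variable {Ω : Type*} [Group Ω] {S : Subgroup Ω}

/-- The centralizer in `S` of a subgroup normal in the system is strongly closed. -/
theorem centralizerIn_stronglyClosed (F : FusionSystem S) {Q : Subgroup Ω} (hQ : F.IsNormal Q) :
    F.StronglyClosed (centralizerIn S Q) := by
  refine ⟨inf_le_left, fun R hR φ hφ x => ⟨(F.le_of_mem hφ).2 x, ?_⟩⟩
  obtain ⟨ψ, hψ, hψR, hψQ⟩ := hQ.2 R φ hφ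
  show φ x ∈ Subgroup.centralizer (Q : Set Ω)
  rw [Subgroup.mem_centralizer_iff]
  intro q hq
  have hq' : q ∈ (Q.subgroupOf (R ⊔ Q)).map ψ := by rw [hψQ]; exact hq
  obtain ⟨q₀, hq₀, rfl⟩ := hq'
  rw [← hψR x, ← map_mul, ← map_mul]
  congr 1
  apply Subtype.ext
  have hq₀Q : (q₀ : Ω) ∈ Q := by simpa [Subgroup.mem_subgroupOf] using hq₀
  have hx : (x : Ω) ∈ Subgroup.centralizer (Q : Set Ω) := (hR x.2).2
  rw [Subgroup.mem_centralizer_iff] at hx
  exact hx _ hq₀Q

theorem stronglyClosed_inf (F : FusionSystem S) {A B : Subgroup Ω} (hA : F.StronglyClosed A)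
    (hB : F.StronglyClosed B) : F.StronglyClosed (A ⊓ B) :=
  ⟨inf_le_left.trans hA.1, fun R hR φ hφ x =>
    ⟨hA.2 R (hR.trans inf_le_left) φ hφ x, hB.2 R (hR.trans inf_le_right) φ hφ x⟩⟩

/-- A subgroup normal in the system is weakly closed. -/
theorem range_eq_of_isNormal [Finite S] (F : FusionSystem S) {Q : Subgroup Ω} (hQ : F.IsNormal Q)
    {φ : Q →* Ω} (hφ : φ ∈ F.Hom Q) : φ.range = Q := by
  haveI : Finite Q := finite_of_le hQ.1
  exact range_eq_of_vals (F.injective_of_mem hφ)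
    (fun x => (stronglyClosed_of_isNormal F hQ).2 Q le_rfl φ hφ x)

/-- **A solvable saturated fusion system is constrained.** -/
theorem constrained_of_solvable [Finite S] {p : ℕ} [Fact p.Prime] (hS : IsPGroup p S)
    {F : FusionSystem S} (hF : F.IsSaturated p) (hsolv : F.IsSolvableSystem) :
    F.IsConstrained p := by
  classical
  have hQN : F.IsNormal F.core := Cfsg.Agent.S5145.result F
  have hQS : F.core ≤ S := hQN.1
  have hQsc := stronglyClosed_of_isNormal F hQN
  have hCsc := centralizerIn_stronglyClosed F hQN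
  refine ⟨hF, F.core, hQN, hQS, ?_⟩
  rintro Q' ⟨φ, hφ, rfl⟩
  rw [range_eq_of_isNormal F hQN hφ]
  by_contra hcon
  obtain ⟨n, T, h0, hlast, hmono, hsc, hcomm⟩ := exists_chain_of_solvable hS hF hsolv
  have hex : ∃ k : ℕ, ∃ h : k < n + 1, ¬ T ⟨k, h⟩ ⊓ centralizerIn S F.core ≤ F.core := by
    refine ⟨n, Nat.lt_succ_self n, ?_⟩
    intro hle
    apply hcon
    have : T ⟨n, Nat.lt_succ_self n⟩ = S := hlast
    rw [this] at hle
    intro x hx
    exact hle ⟨hx.1, hx⟩
  obtain ⟨hk, hkR⟩ := Nat.find_spec hex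
  have hk0 : Nat.find hex ≠ 0 := by
    intro h0'
    apply hkR
    have : (⟨Nat.find hex, hk⟩ : Fin (n + 1)) = 0 := Fin.ext h0'
    rw [this, h0]
    exact inf_le_left.trans bot_le
  obtain ⟨j, hj⟩ := Nat.exists_eq_succ_of_ne_zero hk0
  have hjn : j < n := by omega
  have hjR : T (Fin.castSucc ⟨j, hjn⟩) ⊓ centralizerIn S F.core ≤ F.core := by
    by_contra hcon'
    have := Nat.find_min hex (m := j) (by omega)
    apply this
    exact ⟨by omega, hcon'⟩
  have hsuccR : ¬ T (Fin.succ ⟨j, hjn⟩) ⊓ centralizerIn S F.core ≤ F.core := by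
    have : (Fin.succ ⟨j, hjn⟩ : Fin (n + 1)) = ⟨Nat.find hex, hk⟩ := Fin.ext hj.symm
    rw [this]; exact hkR
  obtain ⟨D, hD⟩ : ∃ D, D = T (Fin.succ ⟨j, hjn⟩) ⊓ centralizerIn S F.core := ⟨_, rfl⟩
  rw [← hD] at hsuccR
  have hDT : D ≤ T (Fin.succ ⟨j, hjn⟩) := hD.le.trans inf_le_left
  have hDC : D ≤ centralizerIn S F.core := hD.le.trans inf_le_right
  have hDsc : F.StronglyClosed D := by rw [hD]; exact stronglyClosed_inf F (hsc _) hCsc
  have hD₀sc : F.StronglyClosed (D ⊓ F.core) := stronglyClosed_inf F hDsc hQsc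
  have hDN : F.IsNormal D := by
    refine (Cfsg.Agent.S5088.result p hS F hF D).mpr ⟨2, ![⊥, D ⊓ F.core, D], rfl, rfl, ?_, ?_⟩
    · intro a b hab
      fin_cases a <;> fin_cases b <;>
        first | exact bot_le | exact le_rfl | exact inf_le_left | (exfalso; simp at hab)
    · intro i
      fin_cases i
      · refine ⟨hD₀sc, ?_⟩
        show ⁅D, D ⊓ F.core⁆ ≤ ⊥
        rw [Subgroup.commutator_le]
        intro g₁ hg₁ g₂ hg₂
        rw [Subgroup.mem_bot, commutatorElement_eq_one_iff_mul_comm]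
        have h1 : g₁ ∈ Subgroup.centralizer (F.core : Set Ω) := (hDC hg₁).2
        rw [Subgroup.mem_centralizer_iff] at h1
        exact (h1 g₂ hg₂.2).symm
      · refine ⟨hDsc, ?_⟩
        show ⁅D, D⁆ ≤ D ⊓ F.core
        rw [Subgroup.commutator_le]
        intro g₁ hg₁ g₂ hg₂
        refine ⟨?_, ?_⟩
        · exact D.mul_mem (D.mul_mem (D.mul_mem hg₁ hg₂) (D.inv_mem hg₁)) (D.inv_mem hg₂)
        · apply hjR
          refine ⟨?_, ?_⟩
          · exact hcomm ⟨j, hjn⟩ (Subgroup.commutator_mem_commutator (hDT hg₁) (hDT hg₂))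
          · exact Subgroup.mul_mem _ (Subgroup.mul_mem _ (Subgroup.mul_mem _ (hDC hg₁) (hDC hg₂))
              (Subgroup.inv_mem _ (hDC hg₁))) (Subgroup.inv_mem _ (hDC hg₂))
  exact hsuccR (le_sSup hDN)

end Cfsg.Agent.Lib.Helper8_Constrained
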