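import Mathlib
import Cfsg.Prelude.Def_FusionComponents
import Cfsg.Agent.Lib.Helper8_Constrained
import Cfsg.Agent.Lib.Helper8_Frobenius
import Cfsg.Agent.S5144

set_option autoImplicit false
set_option linter.style.haveILetI false
set_option linter.unusedVariables false
open Cfsg

namespace Cfsg.Agent.Lib.Helper8_Grun

open scoped commutatorElement

open Cfsg.FusionSystem Cfsg.Agent.Lib.Helper8_Fusion Cfsg.Agent.Lib.Helper8_Factor
open Cfsg.Agent.Lib.Helper8_Saturated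
open Cfsg.Agent.Lib.Helper8_Alperin
open Cfsg.Agent.Lib.Helper8_Chain
open Cfsg.Agent.Lib.Helper8_Morphism
open Cfsg.Agent.Lib.Helper8_FactorSat
open Cfsg.Agent.Lib.Helper8_Solvable
open Cfsg.Agent.Lib.Helper8_Constrained
open Cfsg.Agent.Lib.Helper8_Frobenius

variable {Ω : Type*} [Group Ω] {S : Subgroup Ω} {Ω' : Type*} [Group Ω'] {S' : Subgroup Ω'}

/-- Maps of the system fix the elements of a central subgroup. -/
theorem central_fix (F : FusionSystem S) {Q : Subgroup Ω} (hQ : F.IsCentral Q) {P : Subgroup Ω}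
    {φ : P →* Ω} (hφ : φ ∈ F.Hom P) (x : P) (hx : (x : Ω) ∈ Q) : φ x = x := by
  obtain ⟨ψ, hψ, hψP, hψQ⟩ := hQ.2 P φ hφ
  rw [← hψP x]
  have := hψQ ⟨x, hx⟩
  have heq : Subgroup.inclusion (le_sup_left : P ≤ P ⊔ Q) x =
      Subgroup.inclusion (le_sup_right : Q ≤ P ⊔ Q) ⟨x, hx⟩ := Subtype.ext rfl
  rw [heq, this]

theorem stronglyClosed_of_isCentral (F : FusionSystem S) {Q : Subgroup Ω} (hQ : F.IsCentral Q) :
    F.StronglyClosed Q := by
  refine ⟨hQ.1, fun R hR φ hφ x => ?_⟩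
  rw [central_fix F hQ hφ x (hR x.2)]
  exact hR x.2

/-- **Grün's lemma for fusion systems**: if `hyp(F) = S`, the factor system of `F` modulo its
centre has trivial centre. -/
theorem center_factor_eq_bot [Finite S] {p : ℕ} [Fact p.Prime] (hS : IsPGroup p S)
    {F : FusionSystem S} (hF : F.IsSaturated p) (hperf : F.hyperfocalSubgroup p = S)
    {θ : S →* Ω'} {E : FusionSystem S'} (hE : F.IsFactorSystem F.center θ E) : E.center = ⊥ := by
  have hZc : F.IsCentral F.center := Cfsg.Agent.S5144.result F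
  have hZsc := stronglyClosed_of_isCentral F hZc
  have hker := hE.2.1
  have hrange := hE.2.2.1
  have hθ : ∀ s : S, θ s ∈ S' := fun s => by rw [← hrange]; exact ⟨s, rfl⟩
  have hmor := factor_isMorphism hS F hF hZsc hE
  rw [eq_bot_iff]
  apply sSup_le
  intro Q' hQ'
  have hQ'c : E.IsCentral Q' := hQ'
  have hQ'sc := stronglyClosed_of_isCentral E hQ'c
  obtain ⟨Z₂, hZ₂def⟩ : ∃ Z₂, Z₂ = preimageAlong θ Q' := ⟨_, rfl⟩
  have hZ₂sc : F.StronglyClosed Z₂ := by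
    rw [hZ₂def]; exact stronglyClosed_preimage hS hF hZsc hE hQ'sc
  have hZ₂S : Z₂ ≤ S := hZ₂sc.1
  have hZZ₂ : F.center ≤ Z₂ := by rw [hZ₂def]; exact kernel_le_preimage hker hZsc.1 _
  have hcw : ∀ w ∈ F.center, ∀ s ∈ S, s * w = w * s := fun w hw s hs =>
    F.center_le_centralizer hw s hs
  have K1 : ∀ (P : Subgroup Ω) (φ : P →* Ω), φ ∈ F.Hom P → ∀ z : P, (z : Ω) ∈ Z₂ →
      (z : Ω)⁻¹ * φ z ∈ F.center := by
    intro P φ hφ z hz
    obtain ⟨φ', hφ', hPS, hval, hmap, hind⟩ := hmor.2 P φ hφ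
    have hz' : θ ⟨z, hPS z.2⟩ ∈ Q' := by
      rw [hZ₂def] at hz
      exact (mem_preimageAlong θ _ _).mp hz
    have h1 := central_fix E hQ'c hφ' ⟨θ ⟨z, hPS z.2⟩, hmap z⟩ hz'
    rw [hind z] at h1
    have h2 : θ ((⟨z, hPS z.2⟩ : S)⁻¹ * ⟨φ z, hval z⟩) = 1 := by
      rw [map_mul, map_inv, h1]
      exact inv_mul_cancel _
    exact (hker _).mp h2
  have K0 : ∀ (P : Subgroup Ω) (φ : P →* Ω), φ ∈ F.Hom P → ∀ z : P, (z : Ω) ∈ F.center →
      φ z = z := fun P φ hφ z hz => central_fix F hZc hφ z hz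
  -- Z₂ is normal in F
  have hZ₂N : F.IsNormal Z₂ := by
    refine (Cfsg.Agent.S5088.result p hS F hF Z₂).mpr ⟨2, ![⊥, F.center, Z₂], rfl, rfl, ?_, ?_⟩
    · intro a b hab
      fin_cases a <;> fin_cases b <;>
        first | exact bot_le | exact le_rfl | exact hZZ₂ | (exfalso; simp at hab)
    · intro i
      fin_cases i
      · refine ⟨hZsc, ?_⟩
        show ⁅Z₂, F.center⁆ ≤ ⊥
        rw [Subgroup.commutator_le]
        intro g₁ hg₁ g₂ hg₂
        rw [Subgroup.mem_bot, commutatorElement_eq_one_iff_mul_comm]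
        exact hcw g₂ hg₂ g₁ (hZ₂S hg₁)
      · refine ⟨hZ₂sc, ?_⟩
        show ⁅Z₂, Z₂⁆ ≤ F.center
        rw [Subgroup.commutator_le]
        intro a ha b hb
        have h1 := K1 Z₂ (conjHom Z₂ a) (F.conj_mem hZ₂S (hZ₂S ha)) ⟨b, hb⟩ hb
        have h2 : b⁻¹ * (a * b * a⁻¹) ∈ F.center := h1
        have h3 := hcw _ h2 b (hZ₂S hb)
        have h4 : ⁅a, b⁆ = b * (b⁻¹ * (a * b * a⁻¹)) * b⁻¹ := by
          rw [commutatorElement_def]; group
        rw [h4, h3, mul_inv_cancel_right]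
        exact h2
  -- Z₂ is centralized by S
  have hZ₂cent : ∀ z ∈ Z₂, ∀ s ∈ S, s * z = z * s := by
    intro z hz
    have hle : F.hyperfocalSubgroup p ≤ Subgroup.centralizer ({z} : Set Ω) := by
      rw [hyperfocalSubgroup, Subgroup.closure_le]
      rintro y ⟨P, α, x, hPS, -, rfl⟩
      rw [SetLike.mem_coe, Subgroup.mem_centralizer_iff]
      intro h hh
      rw [Set.mem_singleton_iff] at hh
      subst hh
      have hφ : P.subtype.comp (α : MulAut P).toMonoidHom ∈ F.Hom P :=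
        (mem_autGroup_iff F hPS _).mp α.2
      obtain ⟨ψ, hψ, hψP, -⟩ := hZ₂N.2 P _ hφ
      set a : Ω := (((α : MulAut P) x : P) : Ω) with ha
      have haS : a ∈ S := hPS ((α : MulAut P) x).2
      have hxS : (x : Ω) ∈ S := hPS x.2
      have hhS : h ∈ S := hZ₂S hz
      let zz : ↥(P ⊔ Z₂) := ⟨h, Subgroup.mem_sup_right hz⟩
      let xx : ↥(P ⊔ Z₂) := Subgroup.inclusion le_sup_left x
      have hψx : ψ xx = a := hψP x
      have hw : h⁻¹ * ψ zz ∈ F.center := K1 _ ψ hψ zz hz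
      have hc : h⁻¹ * ((x : Ω) * h * (x : Ω)⁻¹) ∈ F.center :=
        K1 Z₂ (conjHom Z₂ x) (F.conj_mem hZ₂S hxS) ⟨h, hz⟩ hz
      have hcc : ψ (zz⁻¹ * (xx * zz * xx⁻¹)) = h⁻¹ * ((x : Ω) * h * (x : Ω)⁻¹) :=
        K0 _ ψ hψ (zz⁻¹ * (xx * zz * xx⁻¹)) hc
      rw [map_mul, map_inv, map_mul, map_mul, map_inv, hψx] at hcc
      -- write ψ zz = h * w
      obtain ⟨w, hwdef⟩ : ∃ w, w = h⁻¹ * ψ zz := ⟨_, rfl⟩
      have hwZ : w ∈ F.center := by rw [hwdef]; exact hw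
      have hψz : ψ zz = h * w := by rw [hwdef]; group
      rw [hψz] at hcc
      have e1 : w * a⁻¹ = a⁻¹ * w := (hcw w hwZ a⁻¹ (S.inv_mem haS)).symm
      have huS : h⁻¹ * a * h * a⁻¹ ∈ S :=
        S.mul_mem (S.mul_mem (S.mul_mem (S.inv_mem hhS) haS) hhS) (S.inv_mem haS)
      have e2 : (h⁻¹ * a * h * a⁻¹) * w = w * (h⁻¹ * a * h * a⁻¹) := hcw w hwZ _ huS
      have e3 : (h * w)⁻¹ * (a * (h * w) * a⁻¹) = h⁻¹ * a * h * a⁻¹ := by
        have s1 : (h * w)⁻¹ * (a * (h * w) * a⁻¹) = w⁻¹ * (h⁻¹ * a * h) * (w * a⁻¹) := by group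
        rw [s1, e1]
        have s2 : w⁻¹ * (h⁻¹ * a * h) * (a⁻¹ * w) = w⁻¹ * ((h⁻¹ * a * h * a⁻¹) * w) := by group
        rw [s2, e2]
        group
      rw [e3] at hcc
      -- hcc : h⁻¹ * a * h * a⁻¹ = h⁻¹ * (x * h * x⁻¹)
      have e4 : a * h * a⁻¹ = (x : Ω) * h * (x : Ω)⁻¹ := by
        have : h * (h⁻¹ * a * h * a⁻¹) = h * (h⁻¹ * ((x : Ω) * h * (x : Ω)⁻¹)) := by rw [hcc]
        simpa [mul_assoc] using this
      show h * ((x : Ω)⁻¹ * a) = (x : Ω)⁻¹ * a * h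
      have e5 : h * ((x : Ω)⁻¹ * a) = (x : Ω)⁻¹ * ((x : Ω) * h * (x : Ω)⁻¹) * a := by group
      rw [e5, ← e4]
      group
    intro s hs
    have hs' : s ∈ F.hyperfocalSubgroup p := by rw [hperf]; exact hs
    have := hle hs'
    rw [Subgroup.mem_centralizer_iff] at this
    exact (this z rfl).symm
  -- Aut_F(Z₂) is trivial
  haveI : Finite Z₂ := finite_of_le hZ₂S
  have hZ₂p : IsPGroup p Z₂ := hS.to_le hZ₂S
  have hpgrp : IsPGroup p (F.autGroup Z₂) := by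
    apply isPGroup_of_coprime_trivial
    intro α hα m hm hαm
    ext z
    have hφ : Z₂.subtype.comp α.toMonoidHom ∈ F.Hom Z₂ := (mem_autGroup_iff F hZ₂S _).mp hα
    have hwZ : ((z⁻¹ * α z : Z₂) : Ω) ∈ F.center := K1 Z₂ _ hφ z z.2
    have hwfix : α (z⁻¹ * α z) = z⁻¹ * α z := by
      apply Subtype.ext
      exact K0 Z₂ _ hφ (z⁻¹ * α z) hwZ
    have h1 := eq_one_of_coprime_fix hZ₂p α m hm hαm z (z⁻¹ * α z) (by group) hwfix
    have h2 : α z = z := by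
      have : z * (z⁻¹ * α z) = z * 1 := by rw [h1]
      simpa using this
    rw [h2]
    rfl
  have hZ₂fn : F.IsFullyNormalized Z₂ := by
    refine ⟨hZ₂S, ?_⟩
    rintro R ⟨φ, hφ, rfl⟩
    rw [range_eq_of_isNormal F hZ₂N hφ]
  obtain ⟨-, hZ₂fa⟩ := fullyNormalized_facts hS F hF hZ₂fn
  have hAutle := autGroup_le_autInducedBy_of_pGroup F hZ₂fa hpgrp
  have hAuttriv : ∀ α ∈ F.autGroup Z₂, ∀ z : Z₂, α z = z := by
    intro α hα z
    have := hAutle hα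
    rw [mem_autInducedBy_iff] at this
    obtain ⟨g, hgS, -, hg⟩ := this
    apply Subtype.ext
    rw [hg z, hZ₂cent z z.2 g hgS, mul_inv_cancel_right]
  -- Z₂ is central
  have hZ₂c : F.IsCentral Z₂ := by
    refine ⟨hZ₂S, fun P φ hφ => ?_⟩
    obtain ⟨ψ, hψ, hψP, hψZ₂⟩ := hZ₂N.2 P φ hφ
    refine ⟨ψ, hψ, hψP, fun x => ?_⟩
    have hψ₀ := restrict_mem F (le_sup_right : Z₂ ≤ P ⊔ Z₂) hψ
    obtain ⟨e, he, heψ⟩ := iso_of_hom F hψ₀ (range_eq_of_isNormal F hZ₂N hψ₀)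
    have heA : e ∈ F.autGroup Z₂ := (mem_autGroup_iff F hZ₂S e).mpr he
    have h1 := hAuttriv e heA x
    have h2 := heψ x
    rw [h1] at h2
    exact h2.symm
  have hZ₂le : Z₂ ≤ F.center := le_sSup hZ₂c
  intro q' hq'
  obtain ⟨x, hx⟩ := surj_onto hrange hQ'c.1 ⟨q', hq'⟩
  have hx' : θ ⟨x, preimageAlong_le θ Q' x.2⟩ = q' := hx
  have hxZ : (x : Ω) ∈ F.center := by
    apply hZ₂le
    rw [hZ₂def]; exact x.2
  rw [Subgroup.mem_bot, ← hx']
  exact (hker _).mpr hxZ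

end Cfsg.Agent.Lib.Helper8_Grun
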