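import Mathlib

set_option autoImplicit false
set_option linter.unusedVariables false

namespace Cfsg.Agent.Lib.Helper8_Trace

open scoped Classical in
/-- **Trace argument.** Let the finite group `Γ` act on the finite abelian `p`-group `V` and let
`P₀ ≤ Γ` have index prime to `p`. Then the fixed points of `Γ` are a direct factor of the fixed
points of `P₀`. -/
theorem exists_complement_fixed {Γ V : Type*} [Group Γ] [Finite Γ] [CommGroup V] [Finite V]
    {p : ℕ} [Fact p.Prime] (hV : IsPGroup p V) (ρ : Γ →* MulAut V) (P₀ : Subgroup Γ)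
    (hidx : Nat.Coprime P₀.index p) :
    ∃ K : Subgroup V, (∀ v ∈ K, ∀ h ∈ P₀, ρ h v = v) ∧
      (∀ v ∈ K, (∀ γ, ρ γ v = v) → v = 1) ∧
      (∀ v, (∀ h ∈ P₀, ρ h v = v) → ∃ u k, (∀ γ, ρ γ u = u) ∧ k ∈ K ∧ v = u * k) := by
  letI : Fintype (Γ ⧸ P₀) := Fintype.ofFinite _
  let tr : V →* V := ∏ c : Γ ⧸ P₀, (ρ c.out).toMonoidHom
  have tr_apply : ∀ v, tr v = ∏ c : Γ ⧸ P₀, ρ c.out v := by
    intro v
    show (∏ c : Γ ⧸ P₀, (ρ c.out).toMonoidHom) v = _
    rw [MonoidHom.finsetProd_apply]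
    rfl
  have hcard : Fintype.card (Γ ⧸ P₀) = P₀.index := by
    rw [Subgroup.index, Nat.card_eq_fintype_card]
  let FixP : Subgroup V :=
    { carrier := {v | ∀ h ∈ P₀, ρ h v = v}
      one_mem' := fun h _ => map_one _
      mul_mem' := fun {a b} ha hb h hh => by rw [map_mul, ha h hh, hb h hh]
      inv_mem' := fun {a} ha h hh => by rw [map_inv, ha h hh] }
  have tr_fixed : ∀ u, (∀ γ, ρ γ u = u) → tr u = u ^ P₀.index := by
    intro u hu
    rw [tr_apply]
    simp only [hu]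
    rw [Finset.prod_const, Finset.card_univ, hcard]
  have tr_inv : ∀ v, (∀ h ∈ P₀, ρ h v = v) → ∀ γ, ρ γ (tr v) = tr v := by
    intro v hv γ
    rw [tr_apply, map_prod]
    have h1 : ∀ c : Γ ⧸ P₀, ρ γ (ρ c.out v) = ρ (γ • c).out v := by
      intro c
      have hmem : ((γ • c).out)⁻¹ * (γ * c.out) ∈ P₀ := by
        rw [← QuotientGroup.eq]
        have e1 : ((γ * c.out : Γ) : Γ ⧸ P₀) = γ • (c.out : Γ ⧸ P₀) := rfl
        rw [QuotientGroup.out_eq', e1, QuotientGroup.out_eq']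
      have h2 := hv _ hmem
      have h3 : ρ γ (ρ c.out v) = ρ (γ * c.out) v := by rw [map_mul]; rfl
      have h4 : γ * c.out = (γ • c).out * (((γ • c).out)⁻¹ * (γ * c.out)) := by group
      rw [h3, h4, map_mul, MulAut.mul_apply, h2]
    simp only [h1]
    exact Fintype.prod_equiv (MulAction.toPerm γ) _ _ (fun c => rfl)
  have hcop : ∀ w : V, Nat.Coprime P₀.index (orderOf w) := by
    intro w
    obtain ⟨k, hk⟩ := (IsPGroup.iff_orderOf.mp hV) w
    rw [hk]
    exact Nat.Coprime.pow_right k hidx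
  refine ⟨FixP ⊓ tr.ker, ?_, ?_, ?_⟩
  · intro v hv
    exact hv.1
  · intro v hv hfix
    have h1 : tr v = 1 := hv.2
    rw [tr_fixed v hfix] at h1
    have h2 : orderOf v ∣ P₀.index := orderOf_dvd_of_pow_eq_one h1
    have h3 : orderOf v = 1 := Nat.Coprime.eq_one_of_dvd (hcop v).symm h2
    exact orderOf_eq_one_iff.mp h3
  · intro v hv
    obtain ⟨m, hm⟩ := exists_pow_eq_self_of_coprime (hcop (tr v))
    have hwfix := tr_inv v hv
    have hufix : ∀ γ, ρ γ ((tr v) ^ m) = (tr v) ^ m := fun γ => by rw [map_pow, hwfix γ]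
    have htru : tr ((tr v) ^ m) = tr v := by
      rw [tr_fixed _ hufix, ← pow_mul, mul_comm, pow_mul]
      exact hm
    refine ⟨(tr v) ^ m, ((tr v) ^ m)⁻¹ * v, hufix, ⟨?_, ?_⟩, by group⟩
    · intro h hh
      rw [map_mul, map_inv, hufix h, hv h hh]
    · show tr (((tr v) ^ m)⁻¹ * v) = 1
      rw [map_mul, map_inv, htru, inv_mul_cancel]

end Cfsg.Agent.Lib.Helper8_Trace
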