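import Mathlib
import Cfsg.Prelude.Def_FusionComponents
import Cfsg.Agent.Lib.Helper8_Grun
import Cfsg.Agent.Lib.Helper8_Trace

set_option autoImplicit false
set_option linter.style.haveILetI false
set_option linter.unusedVariables false
open Cfsg

namespace Cfsg.Agent.Lib.Helper8_CenterFactor

open scoped IsMulCommutative

open Cfsg.FusionSystem Cfsg.Agent.Lib.Helper8_Fusion
open Cfsg.Agent.Lib.Helper8_Saturated
open Cfsg.Agent.Lib.Helper8_Alperin
open Cfsg.Agent.Lib.Helper8_Chain
open Cfsg.Agent.Lib.Helper8_FactorSat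
open Cfsg.Agent.Lib.Helper8_Constrained
open Cfsg.Agent.Lib.Helper8_Grun
open Cfsg.Agent.Lib.Helper8_Trace

variable {Ω : Type*} [Group Ω] {S : Subgroup Ω}

/-- An element of a normal subgroup `Q` of the system fixed by `Aut_F(Q)` lies in the centre. -/
theorem mem_center_of_fixed [Finite S] (F : FusionSystem S) {Q : Subgroup Ω} (hQ : F.IsNormal Q)
    (v : Q) (hv : ∀ γ ∈ F.autGroup Q, γ v = v) : (v : Ω) ∈ F.center := by
  have hQS : Q ≤ S := hQ.1
  have hzQ : Subgroup.zpowers (v : Ω) ≤ Q := by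
    rw [Subgroup.zpowers_le]; exact v.2
  have hcentral : F.IsCentral (Subgroup.zpowers (v : Ω)) := by
    refine ⟨hzQ.trans hQS, fun P φ hφ => ?_⟩
    obtain ⟨ψ, hψ, hψP, hψQ⟩ := hQ.2 P φ hφ
    have hle : P ⊔ Subgroup.zpowers (v : Ω) ≤ P ⊔ Q := sup_le_sup_left hzQ P
    refine ⟨ψ.comp (Subgroup.inclusion hle), restrict_mem F hle hψ, fun x => hψP x, ?_⟩
    -- the restriction of ψ to Q is an automorphism of Q
    have hψ₀ := restrict_mem F (le_sup_right : Q ≤ P ⊔ Q) hψ
    obtain ⟨e, he, heψ⟩ := iso_of_hom F hψ₀ (range_eq_of_isNormal F hQ hψ₀)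
    have heA : e ∈ F.autGroup Q := (mem_autGroup_iff F hQS e).mpr he
    have hfix : ψ (Subgroup.inclusion (le_sup_right : Q ≤ P ⊔ Q) v) = (v : Ω) := by
      have h1 := heψ v
      rw [hv e heA] at h1
      exact h1.symm
    intro x
    obtain ⟨k, hk⟩ := Subgroup.mem_zpowers_iff.mp x.2
    have hx : Subgroup.inclusion hle (Subgroup.inclusion le_sup_right x) =
        (Subgroup.inclusion (le_sup_right : Q ≤ P ⊔ Q) v) ^ k := by
      apply Subtype.ext
      rw [Subgroup.coe_zpow]
      exact hk.symm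
    show ψ (Subgroup.inclusion hle (Subgroup.inclusion le_sup_right x)) = x
    rw [hx, map_zpow, hfix, hk]
  exact (le_sSup hcentral : Subgroup.zpowers (v : Ω) ≤ F.center) (Subgroup.mem_zpowers _)

/-- **`Z(F)` is a direct factor of `Z(S)` when `Z(S) ≤ O_p(F)`.** -/
theorem center_direct_factor [Finite S] {p : ℕ} [Fact p.Prime] (hS : IsPGroup p S)
    (F : FusionSystem S) (hF : F.IsSaturated p)
    (hZ : (S ⊓ Subgroup.centralizer (S : Set Ω)) ≤ F.core) :
    ∃ K : Subgroup Ω, K ≤ (S ⊓ Subgroup.centralizer (S : Set Ω)) ∧ F.center ⊓ K = ⊥ ∧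
      F.center ⊔ K = (S ⊓ Subgroup.centralizer (S : Set Ω)) := by
  have hQN : F.IsNormal F.core := Cfsg.Agent.S5145.result F
  have hQS : F.core ≤ S := hQN.1
  have hQsc := stronglyClosed_of_isNormal F hQN
  haveI : Finite F.core := finite_of_le hQS
  have hQp : IsPGroup p F.core := hS.to_le hQS
  have hVp : IsPGroup p (Subgroup.center F.core) := hQp.to_subgroup _
  have hZc : F.IsCentral F.center := Cfsg.Agent.S5144.result F
  -- Q is fully automized
  have hQfn : F.IsFullyNormalized F.core := by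
    refine ⟨hQS, ?_⟩
    rintro R ⟨φ, hφ, rfl⟩
    rw [range_eq_of_isNormal F hQN hφ]
  obtain ⟨-, -, P₀, hP₀⟩ := fullyNormalized_facts hS F hF hQfn
  have hidx : Nat.Coprime (P₀ : Subgroup (F.autGroup F.core)).index p := by
    have h1 := P₀.not_dvd_index
    exact ((Nat.Prime.coprime_iff_not_dvd Fact.out).mpr h1).symm
  let ρ : F.autGroup F.core →* MulAut (Subgroup.center F.core) :=
    (MulAut.characteristic (Subgroup.center F.core)).comp (F.autGroup F.core).subtype
  have hρ : ∀ (γ : F.autGroup F.core) (v : Subgroup.center F.core),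
      ((ρ γ v : Subgroup.center F.core) : F.core) = (γ : MulAut F.core) (v : F.core) := fun γ v => rfl
  obtain ⟨K, hK1, hK2, hK3⟩ := exists_complement_fixed (Γ := F.autGroup F.core)
    (V := Subgroup.center F.core) hVp ρ (P₀ : Subgroup (F.autGroup F.core)) hidx
  -- S normalizes Q
  have hnorm : ∀ s ∈ S, s ∈ Subgroup.normalizer ((F.core : Subgroup Ω) : Set Ω) := by
    intro s hs
    haveI : Finite ((F.core : Subgroup Ω) : Set Ω) := finite_of_le hQS
    apply Subgroup.mem_normalizer_fintype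
    intro x hx
    exact conj_mem_of_stronglyClosed F hQsc hs hx
  -- fixed points of P₀ are the elements of Z(S)
  have hA : ∀ v : Subgroup.center F.core,
      (∀ h ∈ (P₀ : Subgroup (F.autGroup F.core)), ρ h v = v) ↔
        ((v : F.core) : Ω) ∈ S ⊓ Subgroup.centralizer (S : Set Ω) := by
    intro v
    constructor
    · intro hfix
      refine ⟨hQS (v : F.core).2, ?_⟩
      show ((v : F.core) : Ω) ∈ Subgroup.centralizer (S : Set Ω)
      rw [Subgroup.mem_centralizer_iff]
      intro s hs
      have hcs : F.core.normalizerMonoidHom ⟨s, hnorm s hs⟩ ∈ F.autGroup F.core :=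
        conjAut_mem F hQS hs (hnorm s hs)
      have hmem : (⟨_, hcs⟩ : F.autGroup F.core) ∈ (P₀ : Subgroup (F.autGroup F.core)) := by
        rw [hP₀, Subgroup.mem_subgroupOf, mem_autInducedBy_iff]
        exact ⟨s, hs, hnorm s hs, fun x => rfl⟩
      have h1 := hfix _ hmem
      have h2 : s * ((v : F.core) : Ω) * s⁻¹ = ((v : F.core) : Ω) :=
        congrArg (fun z : Subgroup.center F.core => ((z : F.core) : Ω)) h1
      calc s * ((v : F.core) : Ω) = s * ((v : F.core) : Ω) * s⁻¹ * s := by group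
        _ = ((v : F.core) : Ω) * s := by rw [h2]
    · intro hv h hh
      rw [hP₀, Subgroup.mem_subgroupOf, mem_autInducedBy_iff] at hh
      obtain ⟨g, hgS, -, hg⟩ := hh
      apply Subtype.ext
      apply Subtype.ext
      show (((h : MulAut F.core) (v : F.core) : F.core) : Ω) = ((v : F.core) : Ω)
      rw [hg]
      have h1 : ((v : F.core) : Ω) ∈ Subgroup.centralizer (S : Set Ω) := hv.2
      rw [Subgroup.mem_centralizer_iff] at h1
      rw [h1 g hgS, mul_inv_cancel_right]
  -- fixed points of Aut_F(Q) are the elements of Z(F)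
  have hB : ∀ v : Subgroup.center F.core,
      (∀ γ : F.autGroup F.core, ρ γ v = v) ↔ ((v : F.core) : Ω) ∈ F.center := by
    intro v
    constructor
    · intro hfix
      apply mem_center_of_fixed F hQN (v : F.core)
      intro γ hγ
      have h1 := hfix ⟨γ, hγ⟩
      exact congrArg (fun z : Subgroup.center F.core => (z : F.core)) h1
    · intro hv γ
      apply Subtype.ext
      apply Subtype.ext
      have hφ : F.core.subtype.comp (γ : MulAut F.core).toMonoidHom ∈ F.Hom F.core :=
        (mem_autGroup_iff F hQS _).mp γ.2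
      exact central_fix F hZc hφ (v : F.core) hv
  have hcenterle : F.center ≤ S ⊓ Subgroup.centralizer (S : Set Ω) :=
    le_inf hZc.1 F.center_le_centralizer
  refine ⟨(K.map (Subgroup.center F.core).subtype).map F.core.subtype, ?_, ?_, ?_⟩
  · rintro _ ⟨_, ⟨k, hk, rfl⟩, rfl⟩
    exact (hA k).mp (hK1 k hk)
  · rw [eq_bot_iff]
    rintro x ⟨hxc, _, ⟨k, hk, rfl⟩, rfl⟩
    have h1 := hK2 k hk ((hB k).mpr hxc)
    rw [h1]
    exact Subgroup.one_mem _
  · apply le_antisymm
    · apply sup_le hcenterle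
      rintro _ ⟨_, ⟨k, hk, rfl⟩, rfl⟩
      exact (hA k).mp (hK1 k hk)
    · intro x hx
      have hxQ : x ∈ F.core := hZ hx
      have hxc : (⟨x, hxQ⟩ : F.core) ∈ Subgroup.center F.core := by
        rw [Subgroup.mem_center_iff]
        intro g
        apply Subtype.ext
        have h1 : x ∈ Subgroup.centralizer (S : Set Ω) := hx.2
        rw [Subgroup.mem_centralizer_iff] at h1
        exact h1 g (hQS g.2)
      obtain ⟨u, k, hu, hk, huk⟩ := hK3 ⟨⟨x, hxQ⟩, hxc⟩ ((hA _).mpr hx)
      have hx' : x = ((u : F.core) : Ω) * ((k : F.core) : Ω) :=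
        congrArg (fun z : Subgroup.center F.core => ((z : F.core) : Ω)) huk
      rw [hx']
      exact Subgroup.mul_mem_sup ((hB u).mp hu) ⟨_, ⟨k, hk, rfl⟩, rfl⟩

end Cfsg.Agent.Lib.Helper8_CenterFactor
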