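import Mathlib
import Cfsg.Prelude.Def_FusionComponents
import Cfsg.Agent.Lib.Helper8_Morphism
import Cfsg.Agent.Lib.Helper8_Hyperfocal
import Cfsg.Agent.Lib.Helper3_SupNormalizer
import Cfsg.Agent.Lib.Helper4_PIrred

set_option autoImplicit false
set_option linter.style.haveILetI false
set_option linter.unusedVariables false
open Cfsg

/-!
# The hyperfocal subgroup acts on a strongly closed subgroup through `O^p(Aut_F(T)) Inn(T)`
-/

namespace Cfsg.Agent.Lib.Helper8_HypStrong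

open Cfsg.FusionSystem Cfsg.Agent.Lib.Helper8_Fusion Cfsg.Agent.Lib.Helper8_Factor
open Cfsg.Agent.Lib.Helper8_Factor2
open Cfsg.Agent.Lib.Helper8_GroupFusion
open Cfsg.Agent.Lib.Helper8_Saturated
open Cfsg.Agent.Lib.Helper8_Alperin
open Cfsg.Agent.Lib.Helper8_Frattini
open Cfsg.Agent.Lib.Helper8_Chain
open Cfsg.Agent.Lib.Helper8_Morphism
open Cfsg.Agent.Lib.Helper4_SylowNormal
open Cfsg.Agent.Lib.Helper4_PIrred
open Cfsg.Agent.Lib.Helper3_SupNormalizer

variable {Ω : Type*} [Group Ω] {S : Subgroup Ω} {Ω' : Type*} [Group Ω'] {S' : Subgroup Ω'}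

theorem le_normalizer_of_stronglyClosed (F : FusionSystem S) {T : Subgroup Ω}
    (hT : F.StronglyClosed T) : S ≤ Subgroup.normalizer (T : Set Ω) :=
  le_normalizer_of_conj_mem' S T (fun g hg w hw => conj_mem_of_stronglyClosed F hT hg hw)

/-- If `T ≰ Q` then some element of `T` normalizes `Q` without lying in it. -/
theorem exists_normalizing_not_mem' [Finite S] {p : ℕ} [Fact p.Prime] (hS : IsPGroup p S)
    (F : FusionSystem S) {T : Subgroup Ω} (hT : F.StronglyClosed T) {Q : Subgroup Ω} (hQS : Q ≤ S)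
    (hle : ¬ T ≤ Q) :
    ∃ s ∈ T, s ∈ Subgroup.normalizer (Q : Set Ω) ∧ s ∉ Q := by
  obtain ⟨N, hN⟩ : ∃ N, N = T ⊔ Q := ⟨_, rfl⟩
  have hNS : N ≤ S := by rw [hN]; exact sup_le hT.1 hQS
  have hQN : Q ≤ N := by rw [hN]; exact le_sup_right
  have hne : Q ≠ N := by
    intro h
    apply hle
    rw [h, hN]; exact le_sup_left
  haveI : Finite N := finite_of_le hNS
  have hNp : IsPGroup p N := hS.to_le hNS
  obtain ⟨x, hxN, hxQ⟩ := exists_mem_normalizerIn_not_mem (S := N) hNp hQN hne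
  have hx1 : x ∈ T ⊔ Q := by rw [← hN]; exact hxN.1
  obtain ⟨t, ht, q, hq, rfl⟩ := exists_mul_of_mem_sup T Q
    (hQS.trans (le_normalizer_of_stronglyClosed F hT)) hx1
  refine ⟨t, ht, ?_, ?_⟩
  · have : t = (t * q) * q⁻¹ := by group
    rw [this]
    exact Subgroup.mul_mem _ hxN.2 (Subgroup.inv_mem _ (Subgroup.le_normalizer hq))
  · intro h
    exact hxQ (Q.mul_mem h hq)

/-- Frattini step. -/
theorem aut_le_morSystem' [Finite S] {p : ℕ} [Fact p.Prime] (hS : IsPGroup p S)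
    (F : FusionSystem S) (hF : F.IsSaturated p) {T : Subgroup Ω} (hT : F.StronglyClosed T)
    {θ : S →* Ω'} {E : FusionSystem S'} (hθ : ∀ s : S, θ s ∈ S')
    (hker : ∀ s : S, (s : Ω) ∈ T → θ s = 1)
    (htop : ∀ Q : Subgroup Ω, T ≤ Q → Q ≤ S → ∀ α : MulAut Q, α ∈ F.autGroup Q →
      MorPr E θ Q (Q.subtype.comp α.toMonoidHom))
    {Q : Subgroup Ω} (hQn : F.IsFullyNormalized Q)
    (IH : ∀ R : Subgroup Ω, R ≤ S → Nat.card Q < Nat.card R →
      F.Hom R ⊆ (morSystem F E θ hθ).Hom R) :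
    F.autGroup Q ≤ (morSystem F E θ hθ).autGroup Q := by
  have hQS : Q ≤ S := hQn.1
  by_cases hle : T ≤ Q
  · intro α hα
    have h1 := htop Q hle hQS α hα
    rw [mem_autGroup_iff _ hQS] at hα ⊢
    exact ⟨hα, h1⟩
  haveI : Finite Q := finite_of_le hQS
  obtain ⟨-, hQa⟩ := fullyNormalized_facts hS F hF hQn
  have hQr := receptive_of_fullyNormalized hS F hF hQn
  obtain ⟨-, P₀, hP₀⟩ := hQa
  obtain ⟨s, hsS₀, hsN, hsQ⟩ := exists_normalizing_not_mem' hS F hT hQS hle
  let A := F.autGroup Q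
  obtain ⟨K', hK'⟩ : ∃ K' : Subgroup A, K' = (trivModSubgroup T Q).subgroupOf (F.autGroup Q) :=
    ⟨_, rfl⟩
  haveI : K'.Normal := by
    refine ⟨fun n hn g => ?_⟩
    rw [hK'] at hn ⊢
    show ((g * n * g⁻¹ : A) : MulAut Q) ∈ trivModSubgroup T Q
    have hn' : (n : MulAut Q) ∈ trivModSubgroup T Q := hn
    rw [mem_trivModSubgroup] at hn' ⊢
    intro x
    have h1 := hn' ((g : MulAut Q)⁻¹ x)
    obtain ⟨y, hy⟩ : ∃ y : Q, y = (g : MulAut Q)⁻¹ x := ⟨_, rfl⟩
    rw [← hy] at h1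
    have h2 : (((y⁻¹ * (n : MulAut Q) y : Q)) : Ω) ∈ T := h1
    have h3 := aut_mem_of_stronglyClosed F hT hQS g.2 h2
    have h4 : (g : MulAut Q) (y⁻¹ * (n : MulAut Q) y) = x⁻¹ * ((g * n * g⁻¹ : A) : MulAut Q) x := by
      rw [map_mul, map_inv, hy, MulAut.apply_inv_self]
      rfl
    rw [h4] at h3
    exact h3
  obtain ⟨P₁, hP₁⟩ := exists_sylow_eq_subgroupOf P₀ K'
  have htop' := Sylow.normalizer_sup_eq_top P₁
  intro a ha
  have hmem : (⟨a, ha⟩ : A) ∈ Subgroup.normalizer (((P₁ : Subgroup K').map K'.subtype : Subgroup A) : Set A) ⊔ K' := by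
    rw [htop']; trivial
  have hmem' : (⟨a, ha⟩ : A) ∈ ((Subgroup.normalizer (((P₁ : Subgroup K').map K'.subtype : Subgroup A) : Set A) ⊔ K' : Subgroup A) : Set A) := hmem
  rw [Subgroup.mul_normal] at hmem'
  obtain ⟨h, hh, n, hn, hhn⟩ := Set.mem_mul.mp hmem'
  have hmapeq : ((P₁ : Subgroup K').map K'.subtype : Subgroup A) = (P₀ : Subgroup A) ⊓ K' := by
    rw [hP₁, Subgroup.subgroupOf_map_subtype]
  have hnE : (n : MulAut Q) ∈ (morSystem F E θ hθ).autGroup Q := by
    have hn' : (n : MulAut Q) ∈ trivModSubgroup T Q := by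
      have : n ∈ K' := hn
      rw [hK'] at this
      exact this
    rw [mem_trivModSubgroup] at hn'
    rw [mem_autGroup_iff _ hQS]
    refine ⟨(mem_autGroup_iff F hQS _).mp n.2, ?_⟩
    refine ⟨(imageAlong θ Q).subtype, Cfsg.Agent.Lib.Helper8_Generating.subtype_mem E (imageAlong_le hθ Q), hQS,
      fun x => hQS ((n : MulAut Q) x).2, map_mem_imageAlong θ hQS, ?_⟩
    intro x
    show θ ⟨x, hQS x.2⟩ = θ ⟨(((n : MulAut Q) x : Q) : Ω), _⟩
    have h1 := hn' x
    have h2 : θ ((⟨x, hQS x.2⟩ : S)⁻¹ * ⟨(((n : MulAut Q) x : Q) : Ω), hQS ((n : MulAut Q) x).2⟩) = 1 :=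
      hker _ h1
    rw [map_mul, map_inv, inv_mul_eq_one] at h2
    exact h2
  have hhE : (h : MulAut Q) ∈ (morSystem F E θ hθ).autGroup Q := by
    have hφ : Q.subtype.comp (h : MulAut Q).toMonoidHom ∈ F.Hom Q := (mem_autGroup_iff F hQS _).mp h.2
    obtain ⟨ψ, hψ, hψφ⟩ := hQr.2 Q _ hφ (range_subtype_comp (h : MulAut Q))
    have hQext : Q ≤ extender S Q (Q.subtype.comp (h : MulAut Q).toMonoidHom) := le_extender F hφ
    have hextS : extender S Q (Q.subtype.comp (h : MulAut Q).toMonoidHom) ≤ S :=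
      (extender_le_normalizerIn Q _).trans inf_le_left
    have hsext : s ∈ extender S Q (Q.subtype.comp (h : MulAut Q).toMonoidHom) := by
      apply mem_extender_of_conj_mem (h : MulAut Q) (hT.1 hsS₀) hsN
      have hcs : Q.normalizerMonoidHom ⟨s, hsN⟩ ∈ F.autGroup Q := conjAut_mem F hQS (hT.1 hsS₀) hsN
      have hcsP₀ : (⟨_, hcs⟩ : A) ∈ (P₀ : Subgroup A) := by
        rw [hP₀, Subgroup.mem_subgroupOf, mem_autInducedBy_iff]
        exact ⟨s, hT.1 hsS₀, hsN, fun y => rfl⟩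
      have hcsK : (⟨_, hcs⟩ : A) ∈ K' := by
        rw [hK']
        show Q.normalizerMonoidHom ⟨s, hsN⟩ ∈ trivModSubgroup T Q
        rw [mem_trivModSubgroup]
        intro x
        show (x : Ω)⁻¹ * (s * x * s⁻¹) ∈ T
        have h1 : (x : Ω)⁻¹ * s * ((x : Ω)⁻¹)⁻¹ ∈ T :=
          conj_mem_of_stronglyClosed F hT (S.inv_mem (hQS x.2)) hsS₀
        have h2 : (x : Ω)⁻¹ * (s * x * s⁻¹) = ((x : Ω)⁻¹ * s * ((x : Ω)⁻¹)⁻¹) * s⁻¹ := by group
        rw [h2]
        exact T.mul_mem h1 (T.inv_mem hsS₀)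
      have h1 : (⟨_, hcs⟩ : A) ∈ ((P₁ : Subgroup K').map K'.subtype : Subgroup A) := by
        rw [hmapeq]; exact ⟨hcsP₀, hcsK⟩
      have h2 := (Subgroup.mem_normalizer_iff.mp hh _).mp h1
      rw [hmapeq] at h2
      have h3 := h2.1
      rw [hP₀] at h3
      exact h3
    haveI : Finite (extender S Q (Q.subtype.comp (h : MulAut Q).toMonoidHom)) := finite_of_le hextS
    have hlt : Q < extender S Q (Q.subtype.comp (h : MulAut Q).toMonoidHom) :=
      lt_of_le_of_ne hQext (fun heq => hsQ (by rw [heq]; exact hsext))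
    have hcard : Nat.card Q < Nat.card (extender S Q (Q.subtype.comp (h : MulAut Q).toMonoidHom)) :=
      Set.Finite.card_lt_card (Set.toFinite _) hlt
    have hψE := IH _ hextS hcard hψ
    exact aut_mem_of_extends (morSystem F E θ hθ) hQext hψE (fun x => hψφ x x.2 (hQext x.2))
  have : a = (h : MulAut Q) * (n : MulAut Q) := by
    have := congrArg (fun z : A => (z : MulAut Q)) hhn
    exact this.symm
  rw [this]
  exact Subgroup.mul_mem _ hhE hnE

/-- A homomorphism of `S` killing a strongly closed subgroup `T` is a morphism of fusion systems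
as soon as the automorphisms of overgroups of `T` induce maps of the target. -/
theorem le_morSystem_of_top [Finite S] {p : ℕ} [Fact p.Prime] (hS : IsPGroup p S)
    (F : FusionSystem S) (hF : F.IsSaturated p) {T : Subgroup Ω} (hT : F.StronglyClosed T)
    {θ : S →* Ω'} {E : FusionSystem S'} (hθ : ∀ s : S, θ s ∈ S')
    (hker : ∀ s : S, (s : Ω) ∈ T → θ s = 1)
    (htop : ∀ Q : Subgroup Ω, T ≤ Q → Q ≤ S → ∀ α : MulAut Q, α ∈ F.autGroup Q →
      MorPr E θ Q (Q.subtype.comp α.toMonoidHom)) :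
    F ≤ morSystem F E θ hθ :=
  alperin_skeleton hS F hF _ (fun Q hQn IH => aut_le_morSystem' hS F hF hT hθ hker htop hQn IH)


/-! ### The action on a strongly closed subgroup -/

/-- The conjugation action of `S` on a strongly closed subgroup, with values in `Aut_F(T)`. -/
noncomputable def kap (F : FusionSystem S) {T : Subgroup Ω} (hT : F.StronglyClosed T) :
    S →* F.autGroup T :=
  (T.normalizerMonoidHom.comp
    (Subgroup.inclusion (le_normalizer_of_stronglyClosed F hT))).codRestrict (F.autGroup T)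
    (fun s => conjAut_mem F hT.1 s.2 _)

theorem kap_apply (F : FusionSystem S) {T : Subgroup Ω} (hT : F.StronglyClosed T) (s : S) (t : T) :
    ((((kap F hT s : F.autGroup T) : MulAut T) t : T) : Ω) = s * t * (s : Ω)⁻¹ := rfl

/-- `O^p(Aut_F(T)) Inn(T)` inside `Aut_F(T)`. -/
def resInn (F : FusionSystem S) (p : ℕ) (T : Subgroup Ω) : Subgroup (F.autGroup T) :=
  pResidual p (F.autGroup T) ⊔ (Inn T).subgroupOf (F.autGroup T)

instance resInn_normal (F : FusionSystem S) (p : ℕ) (T : Subgroup Ω) : (resInn F p T).Normal := by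
  haveI := pResidual_normal (H := F.autGroup T) p
  haveI : ((Inn T).subgroupOf (F.autGroup T)).Normal := Subgroup.Normal.subgroupOf inferInstance _
  unfold resInn
  infer_instance

theorem quotient_resInn_isPGroup [Finite S] (F : FusionSystem S) (p : ℕ) [Fact p.Prime]
    {T : Subgroup Ω} (hTS : T ≤ S) : IsPGroup p (F.autGroup T ⧸ resInn F p T) := by
  have hp : p.Prime := Fact.out
  haveI : Finite T := finite_of_le hTS
  intro x
  induction x using QuotientGroup.induction_on with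
  | H g =>
    have hpos : 0 < orderOf g := orderOf_pos _
    obtain ⟨a, m, hm, hgm⟩ := Nat.exists_eq_pow_mul_and_not_dvd hpos.ne' p hp.ne_one
    refine ⟨a, ?_⟩
    have h2 : orderOf (g ^ (p ^ a)) = m := by
      rw [orderOf_pow' _ (pow_ne_zero a hp.ne_zero), hgm, Nat.gcd_eq_right (Dvd.intro _ rfl)]
      exact Nat.mul_div_cancel_left m (pow_pos hp.pos a)
    have h3 : g ^ (p ^ a) ∈ pResidual p (F.autGroup T) := by
      unfold pResidual
      apply Subgroup.subset_closure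
      show Nat.Coprime (orderOf (g ^ (p ^ a))) p
      rw [h2]
      exact (Nat.Coprime.symm ((Nat.Prime.coprime_iff_not_dvd hp).mpr hm))
    rw [← QuotientGroup.mk_pow]
    exact (QuotientGroup.eq_one_iff _).mpr (le_sup_left (a := pResidual p (F.autGroup T)) h3)

/-- The homomorphism from `S` to the `p`-group `Aut_F(T) / O^p(Aut_F(T)) Inn(T)`. -/
noncomputable def thet (F : FusionSystem S) (p : ℕ) {T : Subgroup Ω} (hT : F.StronglyClosed T) :
    S →* (F.autGroup T ⧸ resInn F p T) :=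
  (QuotientGroup.mk' (resInn F p T)).comp (kap F hT)

theorem thet_eq_one_iff (F : FusionSystem S) (p : ℕ) {T : Subgroup Ω} (hT : F.StronglyClosed T)
    (s : S) : thet F p hT s = 1 ↔ kap F hT s ∈ resInn F p T :=
  QuotientGroup.eq_one_iff _

theorem thet_ker (F : FusionSystem S) (p : ℕ) {T : Subgroup Ω} (hT : F.StronglyClosed T)
    (s : S) (hs : (s : Ω) ∈ T) : thet F p hT s = 1 := by
  rw [thet_eq_one_iff]
  apply le_sup_right (a := pResidual p (F.autGroup T))
  rw [Subgroup.mem_subgroupOf]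
  refine ⟨⟨s, hs⟩, ?_⟩
  ext t
  rfl

theorem morPr_inner_iff {B : Type*} [Group B] (θ : S →* B) {P : Subgroup Ω} (hP : P ≤ S)
    (φ : P →* Ω) (hφ : ∀ x, φ x ∈ S) :
    MorPr (innerFusionSystem (⊤ : Subgroup B)) θ P φ ↔
      ∃ b : B, ∀ x : P, θ ⟨φ x, hφ x⟩ = b * θ ⟨x, hP x.2⟩ * b⁻¹ := by
  constructor
  · rintro ⟨φ', ⟨-, b, -, hb⟩, hP', hφ', hP'', h⟩
    refine ⟨b, fun x => ?_⟩
    rw [← h x, hb]
  · rintro ⟨b, hb⟩
    refine ⟨conjHom (imageAlong θ P) b, ⟨le_top, b, trivial, fun x => rfl⟩, hP, hφ,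
      map_mem_imageAlong θ hP, fun x => ?_⟩
    exact (hb x).symm

/-- Automorphisms of overgroups of `T` induce inner maps of the target. -/
theorem morPr_top [Finite S] (F : FusionSystem S) (p : ℕ) {T : Subgroup Ω}
    (hT : F.StronglyClosed T) (Q : Subgroup Ω) (hTQ : T ≤ Q) (hQS : Q ≤ S) (α : MulAut Q)
    (hα : α ∈ F.autGroup Q) :
    MorPr (innerFusionSystem (⊤ : Subgroup (F.autGroup T ⧸ resInn F p T))) (thet F p hT) Q
      (Q.subtype.comp α.toMonoidHom) := by
  haveI : Finite Q := finite_of_le hQS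
  haveI : Finite T := finite_of_le hT.1
  have hψ : Q.subtype.comp α.toMonoidHom ∈ F.Hom Q := (mem_autGroup_iff F hQS α).mp hα
  have himg : (T.subgroupOf Q).map (Q.subtype.comp α.toMonoidHom) = T := by
    have hle : (T.subgroupOf Q).map (Q.subtype.comp α.toMonoidHom) ≤ T := by
      rintro _ ⟨x, hx, rfl⟩
      exact aut_mem_of_stronglyClosed F hT hQS hα hx
    apply Subgroup.eq_of_le_of_card_ge hle
    rw [Subgroup.card_map_of_injective (F.injective_of_mem hψ)]
    exact le_of_eq (Nat.card_congr (Subgroup.subgroupOfEquivOfLe hTQ).toEquiv).symm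
  have hτ := restrictEquiv_mem F hψ hTQ himg
  obtain ⟨τ, hτdef⟩ : ∃ τ : MulAut T, τ = restrictEquiv (Q.subtype.comp α.toMonoidHom)
    (F.injective_of_mem hψ) hTQ himg := ⟨_, rfl⟩
  rw [← hτdef] at hτ
  have hτA : τ ∈ F.autGroup T := (mem_autGroup_iff F hT.1 τ).mpr hτ
  have hτapp : ∀ u : T, ((τ u : T) : Ω) = ((α ⟨u, hTQ u.2⟩ : Q) : Ω) := by
    intro u
    rw [hτdef]
    rfl
  rw [morPr_inner_iff (thet F p hT) hQS _ (fun x => hQS (α x).2)]
  refine ⟨QuotientGroup.mk' _ ⟨τ, hτA⟩, fun x => ?_⟩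
  show QuotientGroup.mk' (resInn F p T) (kap F hT ⟨((α x : Q) : Ω), _⟩) =
    QuotientGroup.mk' _ ⟨τ, hτA⟩ * QuotientGroup.mk' _ (kap F hT ⟨x, hQS x.2⟩) *
      (QuotientGroup.mk' _ ⟨τ, hτA⟩)⁻¹
  rw [← map_inv, ← map_mul, ← map_mul]
  congr 1
  apply Subtype.ext
  apply MulEquiv.ext
  intro t
  obtain ⟨u, rfl⟩ := τ.surjective t
  apply Subtype.ext
  show ((α x : Q) : Ω) * ((τ u : T) : Ω) * ((α x : Q) : Ω)⁻¹ =
    ((τ (((kap F hT ⟨x, hQS x.2⟩ : F.autGroup T) : MulAut T) (τ⁻¹ (τ u))) : T) : Ω)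
  rw [MulAut.inv_apply_self, hτapp, hτapp]
  have h1 : (⟨((((kap F hT ⟨x, hQS x.2⟩ : F.autGroup T) : MulAut T) u : T) : Ω), hTQ (((kap F hT ⟨x, hQS x.2⟩ : F.autGroup T) : MulAut T) u).2⟩ : Q) = x * ⟨u, hTQ u.2⟩ * x⁻¹ := by
    apply Subtype.ext
    rfl
  rw [h1, map_mul, map_mul, map_inv]
  rfl


/-- `O^p(Aut_F(P))` acts trivially modulo the kernel of `thet`. -/
theorem thet_invariant [Finite S] {p : ℕ} [Fact p.Prime] (hS : IsPGroup p S)
    (F : FusionSystem S) (hF : F.IsSaturated p) {T : Subgroup Ω} (hT : F.StronglyClosed T)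
    {P : Subgroup Ω} (hPS : P ≤ S) (α : F.autGroup P) (hα : α ∈ pResidual p (F.autGroup P))
    (x : P) :
    thet F p hT ⟨(((α : MulAut P) x : P) : Ω), hPS ((α : MulAut P) x).2⟩ =
      thet F p hT ⟨x, hPS x.2⟩ := by
  have hle := le_morSystem_of_top hS F hF hT (θ := thet F p hT)
    (E := innerFusionSystem (⊤ : Subgroup (F.autGroup T ⧸ resInn F p T))) (fun _ => trivial)
    (thet_ker F p hT) (fun Q hTQ hQS α hα => morPr_top F p hT Q hTQ hQS α hα)
  haveI : Finite P := finite_of_le hPS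
  let C : Subgroup (F.autGroup P) :=
    { carrier := {β | ∀ x : P, thet F p hT ⟨(((β : MulAut P) x : P) : Ω), hPS ((β : MulAut P) x).2⟩ =
        thet F p hT ⟨x, hPS x.2⟩}
      one_mem' := fun x => rfl
      mul_mem' := by
        intro β γ hβ hγ x
        have h1 := hβ ((γ : MulAut P) x)
        have h2 := hγ x
        exact h1.trans h2
      inv_mem' := by
        intro β hβ x
        have h1 := hβ ((β : MulAut P)⁻¹ x)
        have h2 : ((β : MulAut P) ((β : MulAut P)⁻¹ x)) = x := MulAut.apply_inv_self _ _ _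
        simp only [h2] at h1
        exact h1.symm }
  have hCle : pResidual p (F.autGroup P) ≤ C := by
    unfold pResidual
    rw [Subgroup.closure_le]
    intro β hβ
    have hβ' : Nat.Coprime (orderOf β) p := hβ
    have hβF : P.subtype.comp (β : MulAut P).toMonoidHom ∈ F.Hom P :=
      (mem_autGroup_iff F hPS _).mp β.2
    have hM := (hle P hβF).2
    rw [morPr_inner_iff (thet F p hT) hPS _ (fun x => hPS ((β : MulAut P) x).2)] at hM
    obtain ⟨b, hb⟩ := hM
    have hpow : ∀ (j : ℕ) (x : P),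
        thet F p hT ⟨((((β : MulAut P) ^ j) x : P) : Ω), hPS (((β : MulAut P) ^ j) x).2⟩ =
          b ^ j * thet F p hT ⟨x, hPS x.2⟩ * (b ^ j)⁻¹ := by
      intro j
      induction j with
      | zero => intro x; simp
      | succ j ih =>
        intro x
        have h1 : ((β : MulAut P) ^ (j + 1)) x = ((β : MulAut P) ^ j) ((β : MulAut P) x) := by
          rw [pow_succ]; rfl
        have h2 := ih ((β : MulAut P) x)
        have h3 := hb x
        simp only [h1]
        rw [h2]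
        have h3' : thet F p hT ⟨(((β : MulAut P) x : P) : Ω), hPS ((β : MulAut P) x).2⟩ =
            b * thet F p hT ⟨x, hPS x.2⟩ * b⁻¹ := h3
        rw [h3']
        group
    obtain ⟨k, hk⟩ := quotient_resInn_isPGroup F p hT.1 b
    have hcop : (p ^ k).Coprime (orderOf β) := (Nat.Coprime.pow_left k hβ'.symm)
    obtain ⟨m, hm⟩ := exists_pow_eq_self_of_coprime hcop
    intro x
    have h1 : ((β : MulAut P)) = (β : MulAut P) ^ (p ^ k * m) := by
      have := congrArg (fun z : F.autGroup P => (z : MulAut P)) hm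
      simp only [SubmonoidClass.coe_pow] at this
      rw [pow_mul]
      exact this.symm
    have h2 := hpow (p ^ k * m) x
    have h3 : b ^ (p ^ k * m) = 1 := by rw [pow_mul, hk, one_pow]
    rw [h3] at h2
    simp only [one_mul, inv_one, mul_one] at h2
    rw [← h2]
    congr 2
    exact congrArg (fun z : MulAut P => ((z x : P) : Ω)) h1
  exact hCle hα x

/-- **The hyperfocal subgroup acts on a strongly closed subgroup `T` through
`O^p(Aut_F(T)) Inn(T)`.** -/
theorem hyperfocal_action [Finite S] {p : ℕ} [Fact p.Prime] (hS : IsPGroup p S)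
    (F : FusionSystem S) (hF : F.IsSaturated p) {T : Subgroup Ω} (hT : F.StronglyClosed T) :
    ∀ x ∈ F.hyperfocalSubgroup p,
      ∃ α ∈ ((pResidual p ↥(F.autGroup T)).map (F.autGroup T).subtype ⊔ Inn ↥T :
        Subgroup (MulAut ↥T)), ∀ t : ↥T, ((α t : ↥T) : Ω) = x * (t : Ω) * x⁻¹ := by
  obtain ⟨K, hK⟩ : ∃ K : Subgroup Ω, K = ((resInn F p T).comap (kap F hT)).map S.subtype :=
    ⟨_, rfl⟩
  have hle : F.hyperfocalSubgroup p ≤ K := by
    unfold FusionSystem.hyperfocalSubgroup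
    rw [Subgroup.closure_le]
    rintro y ⟨P, α, x, hPS, hα, rfl⟩
    rw [hK]
    refine ⟨(⟨x, hPS x.2⟩ : S)⁻¹ * ⟨(((α : MulAut P) x : P) : Ω), hPS ((α : MulAut P) x).2⟩, ?_, rfl⟩
    show kap F hT _ ∈ resInn F p T
    rw [← thet_eq_one_iff, map_mul, map_inv, inv_mul_eq_one]
    exact (thet_invariant hS F hF hT hPS α hα x).symm
  intro x hx
  have hxK := hle hx
  rw [hK] at hxK
  obtain ⟨s, hs, rfl⟩ := hxK
  have hs' : kap F hT s ∈ resInn F p T := hs
  refine ⟨((kap F hT s : F.autGroup T) : MulAut T), ?_, fun t => rfl⟩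
  have h1 : ((kap F hT s : F.autGroup T) : MulAut T) ∈ (resInn F p T).map (F.autGroup T).subtype :=
    ⟨_, hs', rfl⟩
  unfold resInn at h1
  rw [Subgroup.map_sup, Subgroup.subgroupOf_map_subtype] at h1
  have h2 : (pResidual p ↥(F.autGroup T)).map (F.autGroup T).subtype ⊔ (Inn ↥T ⊓ F.autGroup T) ≤
      (pResidual p ↥(F.autGroup T)).map (F.autGroup T).subtype ⊔ Inn ↥T :=
    sup_le_sup_left inf_le_left _
  exact h2 h1

end Cfsg.Agent.Lib.Helper8_HypStrong
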