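import Mathlib
import Cfsg.Prelude.Def_FusionSystem
import Cfsg.Agent.Lib.Helper8_Alperin
import Cfsg.Agent.Lib.Helper8_Morphism
import Cfsg.Agent.Lib.Helper4_PCore

set_option autoImplicit false
set_option linter.style.haveILetI false
set_option linter.unusedVariables false
open Cfsg

/-!
# `O_p` of a group of automorphisms: characterization, transport, stability groups
-/

namespace Cfsg.Agent.Lib.Helper8_PCoreAut

open Cfsg.FusionSystem Cfsg.Agent.Lib.Helper8_Fusion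
open Cfsg.Agent.Lib.Helper8_GroupFusion
open Cfsg.Agent.Lib.Helper8_Saturated
open Cfsg.Agent.Lib.Helper8_Alperin
open Cfsg.Agent.Lib.Helper8_Morphism
open Cfsg.Agent.Lib.Helper4_PCore

/-- Membership in `O_p(A)` (viewed in the ambient group) for a subgroup `A`. -/
theorem mem_map_pCore_iff {G : Type*} [Group G] {p : ℕ} [Fact p.Prime] (A : Subgroup G) (x : G) :
    x ∈ (pCore p ↥A).map A.subtype ↔
      ∃ N : Subgroup G, N ≤ A ∧ (∀ a ∈ A, ∀ n ∈ N, a * n * a⁻¹ ∈ N) ∧ IsPGroup p N ∧ x ∈ N := by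
  constructor
  · intro hx
    refine ⟨(pCore p ↥A).map A.subtype, Subgroup.map_subtype_le _, ?_, pCore_isPGroup.map _, hx⟩
    rintro a ha _ ⟨n, hn, rfl⟩
    haveI := pCore_normal p ↥A
    exact ⟨⟨a, ha⟩ * n * ⟨a, ha⟩⁻¹, (pCore_normal p ↥A).conj_mem n hn ⟨a, ha⟩, rfl⟩
  · rintro ⟨N, hNA, hnorm, hNp, hx⟩
    have hnormal : (N.subgroupOf A).Normal := by
      constructor
      intro n hn a
      rw [Subgroup.mem_subgroupOf] at hn ⊢
      exact hnorm a a.2 n hn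
    have hle := le_pCore (N.subgroupOf A) hnormal hNp.comap_subtype
    exact ⟨⟨x, hNA hx⟩, hle (by simpa [Subgroup.mem_subgroupOf] using hx), rfl⟩

/-- Transport of `O_p(A)` along an isomorphism of the ambient groups. -/
theorem map_pCore_congr {G H : Type*} [Group G] [Group H] {p : ℕ} [Fact p.Prime] (e : G ≃* H)
    (A : Subgroup G) :
    ((pCore p ↥A).map A.subtype).map e.toMonoidHom =
      (pCore p ↥(A.map e.toMonoidHom)).map (A.map e.toMonoidHom).subtype := by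
  ext y
  rw [mem_map_pCore_iff]
  constructor
  · rintro ⟨x, hx, rfl⟩
    rw [SetLike.mem_coe, mem_map_pCore_iff] at hx
    obtain ⟨N, hNA, hnorm, hNp, hxN⟩ := hx
    refine ⟨N.map e.toMonoidHom, Subgroup.map_mono hNA, ?_, hNp.map _, ⟨x, hxN, rfl⟩⟩
    rintro _ ⟨a, ha, rfl⟩ _ ⟨n, hn, rfl⟩
    refine ⟨a * n * a⁻¹, hnorm a ha n hn, ?_⟩
    simp
  · rintro ⟨N, hNA, hnorm, hNp, hyN⟩
    refine ⟨e.symm y, ?_, by simp⟩
    rw [SetLike.mem_coe, mem_map_pCore_iff]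
    refine ⟨N.map e.symm.toMonoidHom, ?_, ?_, hNp.map _, ⟨y, hyN, rfl⟩⟩
    · rintro _ ⟨n, hn, rfl⟩
      obtain ⟨a, ha, han⟩ := hNA hn
      have : e.symm.toMonoidHom n = a := by
        rw [← han]; simp
      rw [this]; exact ha
    · rintro a ha _ ⟨n, hn, rfl⟩
      refine ⟨e a * n * (e a)⁻¹, hnorm (e a) ⟨a, ha, rfl⟩ n hn, ?_⟩
      simp

variable {Ω : Type*} [Group Ω] {S : Subgroup Ω}

theorem map_inn_congr {P Q : Subgroup Ω} (e : P ≃* Q) :
    (Inn P).map (MulAut.congr e).toMonoidHom = Inn Q := by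
  ext β
  constructor
  · rintro ⟨_, ⟨x, rfl⟩, rfl⟩
    refine ⟨e x, ?_⟩
    ext y
    simp [MulAut.congr, MulAut.conj_apply]
  · rintro ⟨y, rfl⟩
    refine ⟨MulAut.conj (e.symm y), ⟨_, rfl⟩, ?_⟩
    ext z
    simp [MulAut.congr, MulAut.conj_apply]

/-- Radical subgroups are preserved by isomorphisms of the system. -/
theorem isRadical_of_iso (F : FusionSystem S) {p : ℕ} [Fact p.Prime] {P Q : Subgroup Ω}
    {e : P ≃* Q} (he : e ∈ Iso F P Q) (h : F.IsRadical p P) : F.IsRadical p Q := by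
  refine ⟨(iso_le F he).2, ?_⟩
  have h1 := map_pCore_congr (p := p) (MulAut.congr e) (F.autGroup P)
  rw [h.2, map_inn_congr, map_congr_autGroup F he] at h1
  exact h1.symm

/-- The automorphisms of `P` fixing every element of `P ∩ Q₀`. -/
def fixSubgroup (Q₀ P : Subgroup Ω) : Subgroup (MulAut P) where
  carrier := {β | ∀ y : P, (y : Ω) ∈ Q₀ → β y = y}
  one_mem' := fun y _ => rfl
  mul_mem' := by
    intro β γ hβ hγ y hy
    show β (γ y) = y
    rw [hγ y hy, hβ y hy]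
  inv_mem' := by
    intro β hβ y hy
    have h1 := hβ y hy
    calc β⁻¹ y = β⁻¹ (β y) := by rw [h1]
      _ = y := by simp

/-- The stability group of the chain `1 ≤ P ∩ Q₀ ≤ P`. -/
def stabSubgroup (Q₀ P : Subgroup Ω) : Subgroup (MulAut P) :=
  trivModSubgroup Q₀ P ⊓ fixSubgroup Q₀ P

theorem mem_stabSubgroup {Q₀ P : Subgroup Ω} {β : MulAut P} :
    β ∈ stabSubgroup Q₀ P ↔ (∀ x : P, (x : Ω)⁻¹ * ((β x : P) : Ω) ∈ Q₀) ∧
      ∀ y : P, (y : Ω) ∈ Q₀ → β y = y := by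
  unfold stabSubgroup
  rw [Subgroup.mem_inf]
  rfl

theorem stab_pow_apply {Q₀ P : Subgroup Ω} (hQP : Q₀ ≤ P) {β : MulAut P}
    (hβ : β ∈ stabSubgroup Q₀ P) (y : P) (n : ℕ) :
    (((β ^ n) y : P) : Ω) = (y : Ω) * ((y : Ω)⁻¹ * ((β y : P) : Ω)) ^ n := by
  obtain ⟨h1, h2⟩ := mem_stabSubgroup.mp hβ
  induction n with
  | zero => simp
  | succ n ih =>
    have hz : (y : Ω)⁻¹ * ((β y : P) : Ω) ∈ Q₀ := h1 y
    obtain ⟨z, hzdef⟩ : ∃ z : P, z = ⟨(y : Ω)⁻¹ * ((β y : P) : Ω), hQP hz⟩ := ⟨_, rfl⟩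
    have hzfix : β z = z := h2 z (by rw [hzdef]; exact hz)
    have h3 : (β ^ n) y = y * z ^ n := by
      apply Subtype.ext
      rw [ih, hzdef]
      rfl
    have h4 : (β ^ (n + 1)) y = β ((β ^ n) y) := by
      rw [pow_succ']; rfl
    rw [h4, h3, map_mul, map_pow, hzfix]
    have h5 : β y = y * z := by
      apply Subtype.ext
      rw [hzdef]
      show ((β y : P) : Ω) = (y : Ω) * ((y : Ω)⁻¹ * ((β y : P) : Ω))
      group
    rw [h5]
    show (y : Ω) * (z : Ω) * ((z : Ω)) ^ n = (y : Ω) * ((y : Ω)⁻¹ * (((y * z : P) : P) : Ω)) ^ (n + 1)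
    have h6 : (y : Ω)⁻¹ * (((y * z : P) : P) : Ω) = (z : Ω) := by
      show (y : Ω)⁻¹ * ((y : Ω) * (z : Ω)) = z
      group
    rw [h6, pow_succ']
    group

/-- The stability group is a `p`-group when `Q₀` is a finite `p`-group. -/
theorem stabSubgroup_isPGroup {Q₀ P : Subgroup Ω} {p : ℕ} [Fact p.Prime] [Finite Q₀]
    (hQ₀ : IsPGroup p Q₀) (hQP : Q₀ ≤ P) : IsPGroup p (stabSubgroup Q₀ P) := by
  obtain ⟨k, hk⟩ := IsPGroup.iff_card.mp hQ₀
  intro β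
  refine ⟨k, ?_⟩
  apply Subtype.ext
  show ((β : MulAut P)) ^ (p ^ k) = 1
  ext y
  rw [stab_pow_apply hQP β.2 y (p ^ k)]
  have hz : (y : Ω)⁻¹ * (((β : MulAut P) y : P) : Ω) ∈ Q₀ := (mem_stabSubgroup.mp β.2).1 y
  have h1 : (⟨(y : Ω)⁻¹ * (((β : MulAut P) y : P) : Ω), hz⟩ : Q₀) ^ (p ^ k) = 1 := by
    rw [← hk]; exact pow_card_eq_one'
  have h2 := congrArg (fun z : Q₀ => (z : Ω)) h1
  have h3 : ((y : Ω)⁻¹ * (((β : MulAut P) y : P) : Ω)) ^ (p ^ k) = 1 := h2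
  rw [h3]
  simp

end Cfsg.Agent.Lib.Helper8_PCoreAut
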