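import Mathlib
import Cfsg.Prelude.Def_FusionSystem
import Cfsg.Agent.Lib.Helper8_PCoreAut
import Cfsg.Agent.Lib.Helper8_HypStrong

set_option autoImplicit false
set_option linter.style.haveILetI false
set_option linter.unusedVariables false
open Cfsg

/-!
# Centric radical subgroups meet a normal subsystem in a centric subgroup
-/

namespace Cfsg.Agent.Lib.Helper8_CentricMeet

open Cfsg.FusionSystem Cfsg.Agent.Lib.Helper8_Fusion
open Cfsg.Agent.Lib.Helper8_GroupFusion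
open Cfsg.Agent.Lib.Helper8_Saturated
open Cfsg.Agent.Lib.Helper8_Alperin
open Cfsg.Agent.Lib.Helper8_Morphism
open Cfsg.Agent.Lib.Helper8_HypStrong
open Cfsg.Agent.Lib.Helper8_PCoreAut
open Cfsg.Agent.Lib.Helper4_PCore

variable {Ω : Type*} [Group Ω] {S : Subgroup Ω}

/-- Maps of the system preserve membership in a strongly closed subgroup, in both directions. -/
theorem stronglyClosed_mem_iff (F : FusionSystem S) {T : Subgroup Ω} (hT : F.StronglyClosed T)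
    {R : Subgroup Ω} {φ : R →* Ω} (hφ : φ ∈ F.Hom R) (x : R) : (x : Ω) ∈ T ↔ φ x ∈ T := by
  constructor
  · intro hx
    exact hT.2 (R ⊓ T) inf_le_right _ (restrict_mem F inf_le_left hφ) ⟨x, ⟨x.2, hx⟩⟩
  · intro hx
    obtain ⟨θ, hθ, hθφ⟩ := F.inv_mem hφ
    have h1 := hT.2 (φ.range ⊓ T) inf_le_right _ (restrict_mem F inf_le_left hθ)
      ⟨φ x, ⟨⟨x, rfl⟩, hx⟩⟩
    have h2 : (θ.comp (Subgroup.inclusion (inf_le_left : φ.range ⊓ T ≤ φ.range)))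
        ⟨φ x, ⟨⟨x, rfl⟩, hx⟩⟩ = (x : Ω) := hθφ x
    rw [h2] at h1
    exact h1

theorem main [Finite S] {p : ℕ} [Fact p.Prime] (hS : IsPGroup p S) (F : FusionSystem S)
    (hF : F.IsSaturated p) {T : Subgroup Ω} (E : FusionSystem T) (hEF : E.IsSubsystemOf F)
    (hT : F.StronglyClosed T) (P : Subgroup Ω) (hP : F.IsCentric P)
    (hPT : ¬ E.IsCentric (P ⊓ T)) :
    ∃ φ ∈ F.Hom P, ∃ x ∈ S ⊓ Subgroup.normalizer (φ.range : Set Ω), x ∉ φ.range ∧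
      ∃ α ∈ ((pCore p ↥(F.autGroup φ.range)).map (F.autGroup φ.range).subtype :
        Subgroup (MulAut ↥φ.range)), ∀ y : ↥φ.range, ((α y : ↥φ.range) : Ω) = x * (y : Ω) * x⁻¹ := by
  have hPS : P ≤ S := hP.1
  have hTS : T ≤ S := hT.1
  have hSN : S ≤ Subgroup.normalizer (T : Set Ω) := le_normalizer_of_stronglyClosed F hT
  obtain ⟨P₀, hP₀⟩ : ∃ P₀, P₀ = P ⊓ T := ⟨_, rfl⟩
  have hP₀T : P₀ ≤ T := hP₀ ▸ inf_le_right
  have hP₀P : P₀ ≤ P := hP₀ ▸ inf_le_left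
  have hP₀S : P₀ ≤ S := hP₀P.trans hPS
  rw [← hP₀] at hPT
  have h1 : ∃ R₀, E.IsConj P₀ R₀ ∧ ¬ centralizerIn T R₀ ≤ R₀ := by
    by_contra hcon
    apply hPT
    refine ⟨hP₀T, ?_⟩
    intro R₀ hR₀
    by_contra hle
    exact hcon ⟨R₀, hR₀, hle⟩
  obtain ⟨R₀, hR₀conj, hR₀⟩ := h1
  obtain ⟨x₀, hx₀C, hx₀R⟩ := SetLike.not_le_iff_exists.mp hR₀
  have hFconj : F.IsConj P₀ R₀ := by
    obtain ⟨ε, hε, hr⟩ := hR₀conj
    exact ⟨ε, hEF _ hε, hr⟩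
  obtain ⟨Q₀, hPQ₀, hQ₀n⟩ := exists_fullyNormalized F hP₀S
  obtain ⟨hQ₀c, hQ₀a⟩ := fullyNormalized_facts hS F hF hQ₀n
  have hQ₀r := receptive_of_fullyCentralized hS F hF hQ₀c
  have hQ₀S : Q₀ ≤ S := hQ₀n.1
  obtain ⟨ψ, hψ, hψN, hψimg⟩ := exists_normalizer_map hS F hQ₀a hQ₀r hPQ₀
  -- `P ≤ N_S(P₀)`
  have hnormInf : ∀ (A : Subgroup Ω) (y : Ω), y ∈ Subgroup.normalizer (A : Set Ω) →
      y ∈ Subgroup.normalizer (T : Set Ω) →
      y ∈ Subgroup.normalizer ((A ⊓ T : Subgroup Ω) : Set Ω) := by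
    intro A y hyA hyT
    rw [Subgroup.mem_normalizer_iff] at hyA hyT ⊢
    intro h
    rw [Subgroup.mem_inf, Subgroup.mem_inf, hyA h, hyT h]
  have hPN : P ≤ normalizerIn S P₀ := by
    intro y hy
    refine ⟨hPS hy, ?_⟩
    rw [hP₀]
    exact hnormInf P y (Subgroup.le_normalizer hy) (hSN (hPS hy))
  obtain ⟨φ, hφdef⟩ : ∃ φ, φ = ψ.comp (Subgroup.inclusion hPN) := ⟨_, rfl⟩
  have hφ : φ ∈ F.Hom P := hφdef ▸ restrict_mem F hPN hψ
  have hφval : ∀ x : P, φ x = ψ ⟨x, hPN x.2⟩ := fun x => by rw [hφdef]; rfl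
  have hPsS : φ.range ≤ S := by
    rintro _ ⟨x, rfl⟩
    exact (F.le_of_mem hφ).2 x
  haveI : Finite ↥φ.range := finite_of_le hPsS
  -- `Q₀ = φ(P) ∩ T`
  have hQ₀eq : Q₀ = φ.range ⊓ T := by
    apply le_antisymm
    · rw [← hψimg]
      rintro _ ⟨n, hn, rfl⟩
      have hnP₀ : (n : Ω) ∈ P₀ := by simpa [Subgroup.mem_subgroupOf] using hn
      refine ⟨⟨⟨n, hP₀P hnP₀⟩, ?_⟩, (stronglyClosed_mem_iff F hT hψ n).mp (hP₀T hnP₀)⟩
      rw [hφval]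
    · rintro y ⟨⟨x, rfl⟩, hyT⟩
      rw [hφval] at hyT ⊢
      have hxT : (x : Ω) ∈ T := (stronglyClosed_mem_iff F hT hψ ⟨x, hPN x.2⟩).mpr hyT
      rw [← hψimg]
      have hxP₀ : (x : Ω) ∈ P₀ := by rw [hP₀]; exact ⟨x.2, hxT⟩
      exact ⟨⟨x, hPN x.2⟩, by simpa [Subgroup.mem_subgroupOf] using hxP₀, rfl⟩
  have hQ₀Ps : Q₀ ≤ φ.range := hQ₀eq ▸ inf_le_left
  have hQ₀T : Q₀ ≤ T := hQ₀eq ▸ inf_le_right
  haveI : Finite Q₀ := finite_of_le hQ₀S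
  have hQ₀p : IsPGroup p Q₀ := hS.to_le hQ₀S
  -- an element of `C_T(Q₀)` outside `Q₀`
  have hconj2 : F.IsConj R₀ Q₀ := isConj_trans F (isConj_symm F hFconj) hPQ₀
  obtain ⟨χ, hχ, hχr⟩ := hconj2
  obtain ⟨N, ψ₂, hψ₂, hR₀N, hCN, hψ₂R, hψ₂C⟩ := extend_to_centralizer F hQ₀r χ hχ hχr
  have hx₀CS : x₀ ∈ centralizerIn S R₀ := ⟨hTS hx₀C.1, hx₀C.2⟩
  obtain ⟨c₀, hc₀⟩ : ∃ c₀, c₀ = ψ₂ ⟨x₀, hCN hx₀CS⟩ := ⟨_, rfl⟩
  have hc₀C : c₀ ∈ centralizerIn S Q₀ := hc₀ ▸ hψ₂C ⟨x₀, hx₀CS⟩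
  have hc₀T : c₀ ∈ T := hc₀ ▸ (stronglyClosed_mem_iff F hT hψ₂ ⟨x₀, hCN hx₀CS⟩).mp hx₀C.1
  have hc₀Q : c₀ ∉ Q₀ := by
    intro h
    rw [← hχr] at h
    obtain ⟨r, hr⟩ := h
    rw [← hψ₂R r, hc₀] at hr
    have h2 := F.injective_of_mem hψ₂ hr
    have h3 : (r : Ω) = x₀ := congrArg (fun z : N => (z : Ω)) h2
    exact hx₀R (h3 ▸ r.2)
  obtain ⟨C, hCdef⟩ : ∃ C, C = centralizerIn T Q₀ := ⟨_, rfl⟩
  have hCT : C ≤ T := hCdef ▸ inf_le_left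
  have hCcent : ∀ c ∈ C, ∀ q ∈ Q₀, q * c = c * q := by
    intro c hc q hq
    rw [hCdef] at hc
    exact (Subgroup.mem_centralizer_iff.mp hc.2) q hq
  have hc₀inC : c₀ ∈ C := by
    rw [hCdef]; exact ⟨hc₀T, hc₀C.2⟩
  have hCPs : ¬ C ≤ φ.range := by
    intro hle
    apply hc₀Q
    rw [hQ₀eq]
    exact ⟨hle hc₀inC, hc₀T⟩
  have hCS : C ≤ S := hCT.trans hTS
  haveI : Finite C := finite_of_le hCS
  -- `φ(P)` normalizes `Q₀` and `C`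
  have hPsNQ : ∀ y ∈ φ.range, y ∈ Subgroup.normalizer (Q₀ : Set Ω) := by
    intro y hy
    rw [hQ₀eq]
    exact hnormInf φ.range y (Subgroup.le_normalizer hy) (hSN (hPsS hy))
  have hPsNC : φ.range ≤ Subgroup.normalizer (C : Set Ω) := by
    intro y hy
    haveI : Finite ((C : Set Ω)) := ‹Finite C›
    apply Subgroup.mem_normalizer_fintype
    intro c hc
    rw [SetLike.mem_coe, hCdef]
    refine ⟨(Subgroup.mem_normalizer_iff.mp (hSN (hPsS hy)) c).mp (hCT hc), ?_⟩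
    show _ ∈ Subgroup.centralizer (Q₀ : Set Ω)
    rw [Subgroup.mem_centralizer_iff]
    intro q hq
    have hq' : y⁻¹ * q * y ∈ Q₀ := by
      have h2 := (Subgroup.mem_normalizer_iff.mp (hPsNQ y hy) (y⁻¹ * q * y)).mpr
      apply h2
      have : y * (y⁻¹ * q * y) * y⁻¹ = q := by group
      rw [this]; exact hq
    have h3 := hCcent c hc _ hq'
    calc q * (y * c * y⁻¹) = y * ((y⁻¹ * q * y) * c) * y⁻¹ := by group
      _ = y * (c * (y⁻¹ * q * y)) * y⁻¹ := by rw [h3]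
      _ = y * c * y⁻¹ * q := by group
  -- an element of `C` normalizing `φ(P)` outside it
  obtain ⟨D, hD⟩ : ∃ D, D = C ⊔ φ.range := ⟨_, rfl⟩
  have hDS : D ≤ S := hD ▸ sup_le hCS hPsS
  haveI : Finite D := finite_of_le hDS
  have hPsD : φ.range ≤ D := hD ▸ le_sup_right
  have hne : φ.range ≠ D := by
    intro h
    apply hCPs
    rw [h, hD]; exact le_sup_left
  obtain ⟨d, hdN, hdP⟩ := exists_mem_normalizerIn_not_mem (S := D) (hS.to_le hDS) hPsD hne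
  have hcoe := Subgroup.coe_mul_of_right_le_normalizer_left C φ.range hPsNC
  have hdmem : d ∈ ((C ⊔ φ.range : Subgroup Ω) : Set Ω) := by
    rw [← hD]; exact hdN.1
  rw [hcoe] at hdmem
  obtain ⟨c, hc, y, hy, hcy⟩ := Set.mem_mul.mp hdmem
  have hcC : c ∈ C := hc
  have hyPs : y ∈ φ.range := hy
  have hcN : c ∈ Subgroup.normalizer (φ.range : Set Ω) := by
    have h2 : c = d * y⁻¹ := by rw [← hcy]; group
    rw [h2]
    exact Subgroup.mul_mem _ hdN.2 (Subgroup.inv_mem _ (Subgroup.le_normalizer hyPs))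
  have hcP : c ∉ φ.range := by
    intro h
    apply hdP
    rw [← hcy]
    exact Subgroup.mul_mem _ h hyPs
  have hcS : c ∈ S := hCS hcC
  have hcT : c ∈ T := hCT hcC
  -- invariance of `Q₀` under `Aut_F(φ(P))`
  have hQ₀inv : ∀ a ∈ F.autGroup φ.range, ∀ q : ↥φ.range, (q : Ω) ∈ Q₀ → ((a q : ↥φ.range) : Ω) ∈ Q₀ := by
    intro a ha q hq
    rw [hQ₀eq]
    refine ⟨(a q).2, ?_⟩
    have haF : φ.range.subtype.comp a.toMonoidHom ∈ F.Hom φ.range := (mem_autGroup_iff F hPsS a).mp ha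
    exact (stronglyClosed_mem_iff F hT haF q).mp (hQ₀T hq)
  refine ⟨φ, hφ, c, ⟨hcS, hcN⟩, hcP, φ.range.normalizerMonoidHom ⟨c, hcN⟩, ?_, fun y => rfl⟩
  rw [mem_map_pCore_iff]
  refine ⟨stabSubgroup Q₀ φ.range ⊓ F.autGroup φ.range, inf_le_right, ?_,
    (stabSubgroup_isPGroup hQ₀p hQ₀Ps).to_le inf_le_left, ?_⟩
  · intro a ha n hn
    rw [Subgroup.mem_inf] at hn ⊢
    obtain ⟨hn1, hn2⟩ := hn
    refine ⟨?_, Subgroup.mul_mem _ (Subgroup.mul_mem _ ha hn2) (Subgroup.inv_mem _ ha)⟩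
    obtain ⟨hs1, hs2⟩ := mem_stabSubgroup.mp hn1
    rw [mem_stabSubgroup]
    constructor
    · intro x
      obtain ⟨w, hw⟩ : ∃ w, w = a⁻¹ x := ⟨_, rfl⟩
      have hz := hs1 w
      obtain ⟨z, hzdef⟩ : ∃ z : ↥φ.range, z = w⁻¹ * n w := ⟨_, rfl⟩
      have hzQ : (z : Ω) ∈ Q₀ := by rw [hzdef]; exact hz
      have h3 : (a * n * a⁻¹) x = x * a z := by
        show a (n (a⁻¹ x)) = x * a z
        rw [← hw]
        have h4 : n w = w * z := by rw [hzdef]; group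
        rw [h4, map_mul, hw]
        simp
      rw [h3]
      show (x : Ω)⁻¹ * ((x : Ω) * ((a z : ↥φ.range) : Ω)) ∈ Q₀
      rw [inv_mul_cancel_left]
      exact hQ₀inv a ha z hzQ
    · intro q hq
      show a (n (a⁻¹ q)) = q
      have h3 : ((a⁻¹ q : ↥φ.range) : Ω) ∈ Q₀ := hQ₀inv a⁻¹ (Subgroup.inv_mem _ ha) q hq
      rw [hs2 _ h3]
      simp
  · rw [Subgroup.mem_inf]
    refine ⟨?_, conjAut_mem F hPsS hcS hcN⟩
    rw [mem_stabSubgroup]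
    constructor
    · intro x
      show (x : Ω)⁻¹ * (c * (x : Ω) * c⁻¹) ∈ Q₀
      rw [hQ₀eq]
      constructor
      · have h2 : c * (x : Ω) * c⁻¹ ∈ φ.range := (Subgroup.mem_normalizer_iff.mp hcN _).mp x.2
        exact Subgroup.mul_mem _ (Subgroup.inv_mem _ x.2) h2
      · have hxS : (x : Ω) ∈ S := hPsS x.2
        have h2 : (x : Ω)⁻¹ * c * ((x : Ω)⁻¹)⁻¹ ∈ T :=
          (Subgroup.mem_normalizer_iff.mp (hSN (S.inv_mem hxS)) c).mp hcT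
        have h3 : (x : Ω)⁻¹ * (c * (x : Ω) * c⁻¹) = ((x : Ω)⁻¹ * c * ((x : Ω)⁻¹)⁻¹) * c⁻¹ := by group
        rw [h3]
        exact T.mul_mem h2 (T.inv_mem hcT)
    · intro q hq
      apply Subtype.ext
      show c * (q : Ω) * c⁻¹ = q
      have h2 := hCcent c hcC q hq
      rw [← h2]; group

end Cfsg.Agent.Lib.Helper8_CentricMeet
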