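import Mathlib
import Cfsg.Agent.Lib.Helper7_PFrattini
import Cfsg.Agent.Lib.Helper7_PGroupRank

set_option autoImplicit false
set_option linter.unusedVariables false
set_option linter.style.haveILetI false

/-!
# Coprime automorphisms of `p`-groups acting trivially on `Ω₁` (resp. `Ω₂` for `p = 2`)
-/

namespace Cfsg.Agent.Lib.Helper8_Omega

universe u

open Cfsg.Agent.Lib.Helper7_PFrattini Cfsg.Agent.Lib.Helper7_PGroupRank

theorem iterate_mul_pow {P : Type*} [Group P] (α : P →* P) {x w : P} (hx : α x = x * w)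
    (hw : α w = w) (k : ℕ) : α^[k] x = x * w ^ k := by
  induction k with
  | zero => simp
  | succ k ih =>
    rw [Function.iterate_succ_apply', ih, map_mul, map_pow, hx, hw, pow_succ', mul_assoc]

/-- If `α` has order prime to `p`, `α x = x * w` and `α w = w` in a `p`-group, then `w = 1`. -/
theorem eq_one_of_coprime_fix {P : Type*} [Group P] {p : ℕ} [Fact p.Prime] (hP : IsPGroup p P)
    (α : P →* P) (m : ℕ) (hm : m.Coprime p) (hα : ∀ x, α^[m] x = x) (x w : P)
    (hx : α x = x * w) (hw : α w = w) : w = 1 := by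
  have h1 := iterate_mul_pow α hx hw m
  rw [hα x] at h1
  have h2 : w ^ m = 1 := by
    have : x * 1 = x * w ^ m := by rw [mul_one]; exact h1
    exact (mul_left_cancel this).symm
  obtain ⟨k, hk⟩ := hP w
  have h3 : orderOf w ∣ Nat.gcd m (p ^ k) :=
    Nat.dvd_gcd (orderOf_dvd_of_pow_eq_one h2) (orderOf_dvd_of_pow_eq_one hk)
  rw [Nat.Coprime.gcd_eq_one (Nat.Coprime.pow_right k hm)] at h3
  exact orderOf_eq_one_iff.mp (Nat.dvd_one.mp h3)

theorem injective_of_iterate {P : Type*} (α : P → P) (m : ℕ) (hm0 : m ≠ 0)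
    (hα : ∀ x, α^[m] x = x) : Function.Injective α := by
  obtain ⟨k, rfl⟩ := Nat.exists_eq_succ_of_ne_zero hm0
  intro a b hab
  have h1 : α^[k + 1] a = α^[k + 1] b := by
    rw [Function.iterate_succ_apply, Function.iterate_succ_apply, hab]
  rw [hα a, hα b] at h1
  exact h1

/-- The general induction: `q` is `p` for odd `p` and `4` for `p = 2`. -/
theorem omega_aux (p q : ℕ) [Fact p.Prime] (hq1 : p ∣ q) (hq2 : p ∣ ∑ i ∈ Finset.range q, i) :
    ∀ (n : ℕ) (P : Type u) [Group P] [Finite P], Nat.card P = n → IsPGroup p P →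
      ∀ (α : P →* P) (m : ℕ), m.Coprime p → (∀ x, α^[m] x = x) →
        (∀ x, x ^ q = 1 → α x = x) → ∀ x, α x = x := by
  intro n
  induction n using Nat.strong_induction_on with
  | _ n ih =>
  intro P _ _ hn hP α m hm hα h
  have hp := (Fact.out : p.Prime)
  have hm0 : m ≠ 0 := by
    rintro rfl
    rw [Nat.coprime_zero_left] at hm
    exact hp.one_lt.ne' hm
  -- Step 1: `α` is trivial on proper invariant subgroups
  have step1 : ∀ Q : Subgroup P, (∀ x ∈ Q, α x ∈ Q) → Q ≠ ⊤ → ∀ x ∈ Q, α x = x := by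
    intro Q hQα hQ x hx
    let αQ : Q →* Q := (α.comp Q.subtype).codRestrict Q (fun y => hQα y y.2)
    have hiter : ∀ (k : ℕ) (y : Q), ((αQ^[k] y : Q) : P) = α^[k] y := by
      intro k
      induction k with
      | zero => intro y; rfl
      | succ k ihk =>
        intro y
        rw [Function.iterate_succ_apply', Function.iterate_succ_apply']
        show α ((αQ^[k] y : Q) : P) = _
        rw [ihk]
    have hlt : Nat.card Q < n := by
      rw [← hn]
      by_contra hcon
      push Not at hcon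
      exact hQ (Subgroup.eq_top_of_le_card _ hcon)
    have := ih (Nat.card Q) hlt Q rfl (hP.to_subgroup Q) αQ m hm
      (fun y => Subtype.ext (by rw [hiter, hα]))
      (fun y hy => Subtype.ext (h y (by
        have := congrArg Subtype.val hy
        simpa using this)))
      ⟨x, hx⟩
    exact congrArg Subtype.val this
  rcases eq_top_or_exists_le_coatom (⊥ : Subgroup P) with hbot | ⟨M, hM, -⟩
  · intro x
    have hx : x ∈ (⊥ : Subgroup P) := by rw [hbot]; exact Subgroup.mem_top x
    rw [Subgroup.mem_bot] at hx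
    rw [hx, map_one]
  -- Step 2: the Frattini subgroup
  have hNtop : frattini P ≠ ⊤ := by
    intro htop
    have := frattini_le_coatom hM
    rw [htop] at this
    exact hM.1 (top_le_iff.mp this)
  have hinj := injective_of_iterate α m hm0 hα
  let e : P ≃* P := MulEquiv.ofBijective α (Finite.injective_iff_bijective.mp hinj)
  have hNα : ∀ x ∈ frattini P, α x ∈ frattini P := by
    intro x hx
    have h1 : (frattini P).map e.toMonoidHom = frattini P :=
      (Subgroup.characteristic_iff_map_eq.mp inferInstance) e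
    rw [← h1]
    exact ⟨x, hx, rfl⟩
  have hαN := step1 (frattini P) hNα hNtop
  haveI hNn : (frattini P).Normal := inferInstance
  -- Step 3
  have hw : ∀ x : P, ∀ n ∈ frattini P, (x⁻¹ * α x) * n = n * (x⁻¹ * α x) := by
    intro x n hn'
    have h1 : x * n * x⁻¹ ∈ frattini P := hNn.conj_mem n hn' x
    have h2 := hαN _ h1
    rw [map_mul, map_mul, hαN n hn', map_inv] at h2
    -- α x * n * (α x)⁻¹ = x * n * x⁻¹
    have h3 : x⁻¹ * α x * n = n * (x⁻¹ * α x) := by
      have : α x * n = x * n * x⁻¹ * α x := by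
        rw [← h2]; group
      calc x⁻¹ * α x * n = x⁻¹ * (α x * n) := by group
        _ = x⁻¹ * (x * n * x⁻¹ * α x) := by rw [this]
        _ = n * (x⁻¹ * α x) := by group
    exact h3
  -- Step 4
  have hCα : ∀ c ∈ Subgroup.centralizer (frattini P : Set P),
      α c ∈ Subgroup.centralizer (frattini P : Set P) := by
    intro c hc
    rw [Subgroup.mem_centralizer_iff] at hc ⊢
    intro n hn'
    have := hc n hn'
    calc n * α c = α n * α c := by rw [hαN n hn']
      _ = α (n * c) := (map_mul α n c).symm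
      _ = α (c * n) := by rw [this]
      _ = α c * n := by rw [map_mul, hαN n hn']
  have hwC : ∀ x : P, x⁻¹ * α x ∈ Subgroup.centralizer (frattini P : Set P) := by
    intro x
    rw [Subgroup.mem_centralizer_iff]
    intro n hn'
    exact (hw x n hn').symm
  have hαx : ∀ x : P, α x = x * (x⁻¹ * α x) := fun x => by group
  by_cases hC : Subgroup.centralizer (frattini P : Set P) = ⊤
  swap
  · intro x
    have h1 := step1 _ hCα hC _ (hwC x)
    have h2 := eq_one_of_coprime_fix hP α m hm hα x _ (hαx x) h1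
    rw [hαx x, h2, mul_one]
  -- Step 5: the Frattini subgroup is central
  have hcen : ∀ n ∈ frattini P, ∀ g : P, g * n = n * g := by
    intro n hn' g
    have hg : g ∈ Subgroup.centralizer (frattini P : Set P) := by rw [hC]; exact Subgroup.mem_top g
    rw [Subgroup.mem_centralizer_iff] at hg
    exact (hg n hn').symm
  intro x
  obtain ⟨w, hwdef⟩ : ∃ w, w = x⁻¹ * α x := ⟨_, rfl⟩
  have hxw : α x = x * w := by rw [hwdef]; group
  obtain ⟨d, hd⟩ : ∃ d, d = w * x * w⁻¹ * x⁻¹ := ⟨_, rfl⟩
  have hdN : d ∈ frattini P := by rw [hd]; exact comm_mem_frattini hP w x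
  have hdc : ∀ g : P, g * d = d * g := hcen d hdN
  have hdp : d ^ p = 1 := by
    have h1 := comm_pow_of_central w x (by rw [← hd]; exact hdc) p
    rw [← hd] at h1
    rw [← h1]
    have h2 : w ^ p ∈ frattini P := pow_mem_frattini hP w
    have h3 := hcen _ h2 x
    -- x * w^p = w^p * x
    calc w ^ p * x * (w ^ p)⁻¹ * x⁻¹ = (x * w ^ p) * (w ^ p)⁻¹ * x⁻¹ := by rw [h3]
      _ = 1 := by group
  have hpow : (x * w) ^ q = x ^ q * w ^ q := by
    have h1 := mul_pow_of_comm x w d (by rw [hd]; group) (hdc x).symm (hdc w).symm q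
    obtain ⟨t, ht⟩ := hq2
    rw [h1, ht, pow_mul, hdp, one_pow, mul_one]
  have hxq : x ^ q ∈ frattini P := by
    obtain ⟨t, ht⟩ := hq1
    rw [ht, pow_mul]
    exact Subgroup.pow_mem _ (pow_mem_frattini hP x) t
  have h1 : (α x) ^ q = x ^ q := by
    rw [← map_pow]; exact hαN _ hxq
  rw [hxw, hpow] at h1
  have hwq : w ^ q = 1 := by
    have : x ^ q * w ^ q = x ^ q * 1 := by rw [mul_one]; exact h1
    exact mul_left_cancel this
  have h2 := eq_one_of_coprime_fix hP α m hm hα x w hxw (h w hwq)
  rw [hxw, h2, mul_one]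

/-- **Ω₁-lemma**, odd `p`: an endomorphism of order prime to `p` of a finite `p`-group which fixes
all elements of order dividing `p` is the identity. -/
theorem omega_odd {P : Type u} [Group P] [Finite P] {p : ℕ} [Fact p.Prime] (hp2 : p ≠ 2)
    (hP : IsPGroup p P) (α : P →* P) (m : ℕ) (hm : m.Coprime p) (hα : ∀ x, α^[m] x = x)
    (h : ∀ x, x ^ p = 1 → α x = x) : ∀ x, α x = x := by
  have hp := (Fact.out : p.Prime)
  refine omega_aux p p dvd_rfl ?_ _ P rfl hP α m hm hα h
  have h1 : (∑ i ∈ Finset.range p, i) * 2 = p * (p - 1) := Finset.sum_range_id_mul_two p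
  have h2 : p ∣ (∑ i ∈ Finset.range p, i) * 2 := by rw [h1]; exact dvd_mul_right _ _
  have hcop : Nat.Coprime p 2 := by
    rw [Nat.coprime_primes hp Nat.prime_two]; exact hp2
  exact hcop.dvd_of_dvd_mul_right h2

/-- **Ω₂-lemma**, `p = 2`: an endomorphism of odd order of a finite `2`-group which fixes
all elements of order dividing `4` is the identity. -/
theorem omega_two {P : Type u} [Group P] [Finite P]
    (hP : IsPGroup 2 P) (α : P →* P) (m : ℕ) (hm : m.Coprime 2) (hα : ∀ x, α^[m] x = x)
    (h : ∀ x, x ^ 4 = 1 → α x = x) : ∀ x, α x = x := by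
  haveI : Fact (Nat.Prime 2) := ⟨Nat.prime_two⟩
  refine omega_aux 2 4 ⟨2, rfl⟩ ?_ _ P rfl hP α m hm hα h
  decide

/-- Combined form. -/
theorem omega {P : Type u} [Group P] [Finite P] {p : ℕ} [Fact p.Prime]
    (hP : IsPGroup p P) (α : P →* P) (m : ℕ) (hm : m.Coprime p) (hα : ∀ x, α^[m] x = x)
    (h : ∀ x, (x ^ p = 1 ∨ (p = 2 ∧ x ^ 4 = 1)) → α x = x) : ∀ x, α x = x := by
  by_cases hp2 : p = 2
  · subst hp2
    exact omega_two hP α m hm hα (fun x hx => h x (Or.inr ⟨rfl, hx⟩))
  · exact omega_odd hp2 hP α m hm hα (fun x hx => h x (Or.inl hx))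

/-- `MulAut` form. -/
theorem omega_mulAut {P : Type u} [Group P] [Finite P] {p : ℕ} [Fact p.Prime]
    (hP : IsPGroup p P) (a : MulAut P) (ha : Nat.Coprime (orderOf a) p)
    (h : ∀ x, (x ^ p = 1 ∨ (p = 2 ∧ x ^ 4 = 1)) → a x = x) : a = 1 := by
  have hiter : ∀ (k : ℕ) (x : P), (a.toMonoidHom)^[k] x = (a ^ k) x := by
    intro k
    induction k with
    | zero => intro x; simp
    | succ k ih =>
      intro x
      rw [Function.iterate_succ_apply', ih, pow_succ', MulAut.mul_apply]
      rfl
  have := omega hP a.toMonoidHom (orderOf a) ha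
    (fun x => by rw [hiter, pow_orderOf_eq_one]; rfl) h
  ext x
  exact this x

end Cfsg.Agent.Lib.Helper8_Omega
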