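import Mathlib
import Cfsg.Agent.Lib.Helper7_PFrattini
import Cfsg.Agent.Lib.Helper7_PGroupRank
import Cfsg.Agent.Lib.Helper8_Omega

set_option autoImplicit false
set_option linter.unusedVariables false
set_option linter.style.haveILetI false

/-!
# Coprime automorphisms stabilizing a chain on the small elements

An abstract version of the argument "a `p'`-automorphism acting trivially on the factors of a chain
is trivial", where the chain condition is only required on invariant subgroups of small exponent.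
-/

namespace Cfsg.Agent.Lib.Helper8_Control

open Cfsg.Agent.Lib.Helper7_PFrattini Cfsg.Agent.Lib.Helper7_PGroupRank
open Cfsg.Agent.Lib.Helper8_Omega

/-- commutators with powers, when `a` commutes with `[a, b]` -/
theorem comm_pow' {G : Type*} [Group G] (a b : G)
    (hc : a * (a * b * a⁻¹ * b⁻¹) = (a * b * a⁻¹ * b⁻¹) * a)
    (n : ℕ) : a ^ n * b * (a ^ n)⁻¹ * b⁻¹ = (a * b * a⁻¹ * b⁻¹) ^ n := by
  induction n with
  | zero => simp
  | succ n ih =>
    calc a ^ (n + 1) * b * (a ^ (n + 1))⁻¹ * b⁻¹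
        = a * (a ^ n * b * (a ^ n)⁻¹ * b⁻¹) * b * a⁻¹ * b⁻¹ := by rw [pow_succ']; group
      _ = a * (a * b * a⁻¹ * b⁻¹) ^ n * b * a⁻¹ * b⁻¹ := by rw [ih]
      _ = (a * b * a⁻¹ * b⁻¹) ^ n * (a * b * a⁻¹ * b⁻¹) := by
          have : a * (a * b * a⁻¹ * b⁻¹) ^ n = (a * b * a⁻¹ * b⁻¹) ^ n * a :=
            (Commute.pow_right (show Commute a (a * b * a⁻¹ * b⁻¹) from hc) n).eq
          rw [this]; group
      _ = (a * b * a⁻¹ * b⁻¹) ^ (n + 1) := by rw [pow_succ]

theorem mulAut_iterate {R : Type*} [Group R] (β : MulAut R) :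
    ∀ (k : ℕ) (x : R), (β.toMonoidHom)^[k] x = (β ^ k) x := by
  intro k
  induction k with
  | zero => intro x; simp
  | succ k ih =>
    intro x
    rw [Function.iterate_succ_apply', ih, pow_succ', MulAut.mul_apply]
    rfl

theorem coprime_fix {R : Type*} [Group R] {p : ℕ} [Fact p.Prime] (hR : IsPGroup p R)
    (β : MulAut R) (m : ℕ) (hm : m.Coprime p) (hβm : β ^ m = 1) (x w : R)
    (hx : β x = x * w) (hw : β w = w) : w = 1 :=
  eq_one_of_coprime_fix hR β.toMonoidHom m hm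
    (fun y => by rw [mulAut_iterate, hβm]; rfl) x w hx hw

/-- The "Frattini-like" subgroup of a subgroup `R'`: generated by commutators and `p`-th powers. -/
def phi {R : Type*} [Group R] (p : ℕ) (R' : Subgroup R) : Subgroup R :=
  Subgroup.closure ({g | ∃ a ∈ R', ∃ b ∈ R', g = a * b * a⁻¹ * b⁻¹} ∪ {g | ∃ a ∈ R', g = a ^ p})

theorem phi_le {R : Type*} [Group R] (p : ℕ) (R' : Subgroup R) : phi p R' ≤ R' := by
  unfold phi
  rw [Subgroup.closure_le]
  rintro g (⟨a, ha, b, hb, rfl⟩ | ⟨a, ha, rfl⟩)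
  · exact R'.mul_mem (R'.mul_mem (R'.mul_mem ha hb) (R'.inv_mem ha)) (R'.inv_mem hb)
  · exact R'.pow_mem ha p

theorem phi_invariant {R : Type*} [Group R] (p : ℕ) (R' : Subgroup R) (a : MulAut R)
    (ha : ∀ x ∈ R', a x ∈ R') : ∀ x ∈ phi p R', a x ∈ phi p R' := by
  have : phi p R' ≤ (phi p R').comap a.toMonoidHom := by
    unfold phi
    rw [Subgroup.closure_le]
    rintro g (⟨x, hx, y, hy, rfl⟩ | ⟨x, hx, rfl⟩)
    · apply Subgroup.subset_closure
      left
      refine ⟨a x, ha x hx, a y, ha y hy, ?_⟩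
      simp
    · apply Subgroup.subset_closure
      right
      exact ⟨a x, ha x hx, by simp⟩
  exact fun x hx => this hx

theorem phi_ne {R : Type*} [Group R] [Finite R] {p : ℕ} [Fact p.Prime] (hR : IsPGroup p R)
    (R' : Subgroup R) (hne : R' ≠ ⊥) : phi p R' ≠ R' := by
  intro heq
  have hR' : IsPGroup p R' := hR.to_subgroup R'
  have hle : phi p R' ≤ (frattini ↥R').map R'.subtype := by
    unfold phi
    rw [Subgroup.closure_le]
    rintro g (⟨a, ha, b, hb, rfl⟩ | ⟨a, ha, rfl⟩)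
    · exact ⟨(⟨a, ha⟩ : R') * ⟨b, hb⟩ * (⟨a, ha⟩ : R')⁻¹ * (⟨b, hb⟩ : R')⁻¹,
        comm_mem_frattini hR' _ _, rfl⟩
    · exact ⟨(⟨a, ha⟩ : R') ^ p, pow_mem_frattini hR' _, rfl⟩
  rw [heq] at hle
  have htop : frattini ↥R' = ⊤ := by
    rw [eq_top_iff]
    intro x _
    obtain ⟨y, hy, hyx⟩ := hle x.2
    have : y = x := Subtype.ext hyx
    rw [← this]; exact hy
  rcases eq_top_or_exists_le_coatom (⊥ : Subgroup R') with hbot | ⟨M, hM, -⟩
  · apply hne
    rw [eq_bot_iff]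
    intro x hx
    have : (⟨x, hx⟩ : R') ∈ (⊥ : Subgroup R') := by rw [hbot]; exact Subgroup.mem_top _
    rw [Subgroup.mem_bot] at this
    exact congrArg Subtype.val this
  · have := frattini_le_coatom hM
    rw [htop] at this
    exact hM.1 (top_le_iff.mp this)

theorem card_lt_of_le_of_ne {R : Type*} [Group R] [Finite R] {R'' R' : Subgroup R}
    (hle : R'' ≤ R') (hne : R'' ≠ R') : Nat.card R'' < Nat.card R' := by
  by_contra hcon
  push Not at hcon
  apply hne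
  have h1 : Nat.card (R''.subgroupOf R') = Nat.card R'' :=
    Nat.card_congr (Subgroup.subgroupOfEquivOfLe hle).toEquiv
  have h2 : R''.subgroupOf R' = ⊤ := Subgroup.eq_top_of_le_card _ (by rw [h1]; exact hcon)
  exact le_antisymm hle (Subgroup.subgroupOf_eq_top.mp h2)

/-- **Key abstract lemma.** -/
theorem stab_trivial {R : Type*} [Group R] [Finite R] {p : ℕ} [Fact p.Prime] (q : ℕ)
    (hq1 : p ∣ q) (hq2 : p ∣ ∑ i ∈ Finset.range q, i)
    (hR : IsPGroup p R) (A : Subgroup (MulAut R)) (𝒦 : Set (MulAut R)) (h𝒦A : 𝒦 ⊆ A)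
    (h𝒦 : ∀ β ∈ 𝒦, ∃ m : ℕ, m.Coprime p ∧ β ^ m = 1) (Y : Subgroup R)
    (c : ℕ) (Z : ℕ → Subgroup R) (hZ0 : Z 0 = ⊥) (hZc : Y ≤ Z c)
    (h2 : ∀ R' : Subgroup R, R' ≤ Y → (∀ a ∈ A, ∀ x ∈ R', a x ∈ R') → (∀ x ∈ R', x ^ q = 1) →
      ∀ β ∈ 𝒦, ∀ i, ∀ x ∈ R', x ∈ Z (i + 1) → x⁻¹ * β x ∈ Z i) :
    ∀ (k : ℕ) (R' : Subgroup R), Nat.card R' = k → R' ≤ Y → (∀ a ∈ A, ∀ x ∈ R', a x ∈ R') →
      ∀ β ∈ 𝒦, ∀ x ∈ R', β x = x := by
  intro k
  induction k using Nat.strong_induction_on with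
  | _ k ih =>
  intro R' hk hR'Y hR'A β hβ x hx
  have hp := (Fact.out : p.Prime)
  obtain ⟨m, hm, hβm⟩ := h𝒦 β hβ
  have hβA : β ∈ A := h𝒦A hβ
  have hcf : ∀ x w : R, β x = x * w → β w = w → w = 1 :=
    fun x w h1 h2' => coprime_fix hR β m hm hβm x w h1 h2'
  -- induction hypothesis for proper invariant subgroups
  have IH : ∀ R'' : Subgroup R, R'' ≤ R' → R'' ≠ R' → (∀ a ∈ A, ∀ x ∈ R'', a x ∈ R'') →
      ∀ y ∈ R'', β y = y := by
    intro R'' hle hne hinv y hy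
    exact ih (Nat.card R'') (hk ▸ card_lt_of_le_of_ne hle hne) R'' rfl (hle.trans hR'Y) hinv β hβ y hy
  by_cases hbot : R' = ⊥
  · rw [hbot, Subgroup.mem_bot] at hx
    rw [hx, map_one]
  -- Step 1
  have hNle := phi_le p R'
  have hNne := phi_ne hR R' hbot
  have hNA : ∀ a ∈ A, ∀ x ∈ phi p R', a x ∈ phi p R' :=
    fun a ha => phi_invariant p R' a (hR'A a ha)
  have hβN := IH (phi p R') hNle hNne hNA
  have hNnormal : ∀ y ∈ R', ∀ n ∈ phi p R', y * n * y⁻¹ ∈ phi p R' := by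
    intro y hy n hn
    have h1 : y * n * y⁻¹ = (y * n * y⁻¹ * n⁻¹) * n := by group
    rw [h1]
    apply Subgroup.mul_mem _ _ hn
    apply Subgroup.subset_closure
    left
    exact ⟨y, hy, n, hNle hn, rfl⟩
  have hβR' : ∀ y ∈ R', β y ∈ R' := hR'A β hβA
  -- Step 3
  have hw : ∀ y ∈ R', ∀ n ∈ phi p R', (y⁻¹ * β y) * n = n * (y⁻¹ * β y) := by
    intro y hy n hn
    have h1 := hNnormal y hy n hn
    have h2' := hβN _ h1
    rw [map_mul, map_mul, hβN n hn, map_inv] at h2'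
    have : β y * n = y * n * y⁻¹ * β y := by
      rw [← h2']; group
    calc y⁻¹ * β y * n = y⁻¹ * (β y * n) := by group
      _ = y⁻¹ * (y * n * y⁻¹ * β y) := by rw [this]
      _ = n * (y⁻¹ * β y) := by group
  -- Step 4
  obtain ⟨C, hCdef⟩ : ∃ C : Subgroup R, C = R' ⊓ Subgroup.centralizer (phi p R' : Set R) := ⟨_, rfl⟩
  have hCle : C ≤ R' := by rw [hCdef]; exact inf_le_left
  have hCA : ∀ a ∈ A, ∀ y ∈ C, a y ∈ C := by
    intro a ha y hy
    rw [hCdef, Subgroup.mem_inf] at hy ⊢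
    refine ⟨hR'A a ha y hy.1, ?_⟩
    have hyc := hy.2
    rw [Subgroup.mem_centralizer_iff] at hyc ⊢
    intro n hn
    have hn' : a⁻¹ n ∈ phi p R' := hNA a⁻¹ (A.inv_mem ha) n hn
    have h1 := hyc _ hn'
    have h3 : a (a⁻¹ n) = n := by simp
    calc n * a y = a (a⁻¹ n) * a y := by rw [h3]
      _ = a (a⁻¹ n * y) := (map_mul a _ _).symm
      _ = a (y * a⁻¹ n) := by rw [h1]
      _ = a y * n := by rw [map_mul, h3]
  have hwC : ∀ y ∈ R', y⁻¹ * β y ∈ C := by
    intro y hy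
    rw [hCdef, Subgroup.mem_inf]
    refine ⟨R'.mul_mem (R'.inv_mem hy) (hβR' y hy), ?_⟩
    rw [Subgroup.mem_centralizer_iff]
    intro n hn
    exact (hw y hy n hn).symm
  have hβx : ∀ y : R, β y = y * (y⁻¹ * β y) := fun y => by group
  by_cases hC : C = R'
  swap
  · have h1 := IH C hCle hC hCA _ (hwC x hx)
    have h3 := hcf x _ (hβx x) h1
    rw [hβx x, h3, mul_one]
  -- Step 5: `phi` is central in `R'`
  have hcen : ∀ n ∈ phi p R', ∀ g ∈ R', g * n = n * g := by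
    intro n hn g hg
    have hg' : g ∈ C := by rw [hC]; exact hg
    rw [hCdef, Subgroup.mem_inf] at hg'
    have := hg'.2
    rw [Subgroup.mem_centralizer_iff] at this
    exact (this n hn).symm
  have hpowmul : ∀ y ∈ R', ∀ z ∈ R', (y * z) ^ q = y ^ q * z ^ q := by
    intro y hy z hz
    obtain ⟨d, hd⟩ : ∃ d, d = z * y * z⁻¹ * y⁻¹ := ⟨_, rfl⟩
    have hdN : d ∈ phi p R' := by
      rw [hd]
      apply Subgroup.subset_closure
      left
      exact ⟨z, hz, y, hy, rfl⟩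
    have hdy : d * y = y * d := (hcen d hdN y hy).symm
    have hdz : d * z = z * d := (hcen d hdN z hz).symm
    have hdp : d ^ p = 1 := by
      have h1 := comm_pow' z y (by rw [← hd]; exact hdz.symm) p
      rw [← hd] at h1
      rw [← h1]
      have h2' : z ^ p ∈ phi p R' := by
        apply Subgroup.subset_closure
        right
        exact ⟨z, hz, rfl⟩
      have h3 := hcen _ h2' y hy
      calc z ^ p * y * (z ^ p)⁻¹ * y⁻¹ = (y * z ^ p) * (z ^ p)⁻¹ * y⁻¹ := by rw [h3]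
        _ = 1 := by group
    have h1 := mul_pow_of_comm y z d (by rw [hd]; group) hdy hdz q
    obtain ⟨t, ht⟩ := hq2
    rw [h1, ht, pow_mul, hdp, one_pow, mul_one]
  obtain ⟨Om, hOm⟩ : ∃ Om : Subgroup R, ∀ y, y ∈ Om ↔ y ∈ R' ∧ y ^ q = 1 := by
    refine ⟨{ carrier := {y | y ∈ R' ∧ y ^ q = 1}
              one_mem' := ⟨R'.one_mem, one_pow q⟩
              mul_mem' := ?_
              inv_mem' := ?_ }, fun y => Iff.rfl⟩
    · rintro y z ⟨hy, hyq⟩ ⟨hz, hzq⟩
      exact ⟨R'.mul_mem hy hz, by rw [hpowmul y hy z hz, hyq, hzq, one_mul]⟩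
    · rintro y ⟨hy, hyq⟩
      exact ⟨R'.inv_mem hy, by rw [inv_pow, hyq, inv_one]⟩
  have hOmle : Om ≤ R' := fun y hy => ((hOm y).mp hy).1
  have hOmA : ∀ a ∈ A, ∀ y ∈ Om, a y ∈ Om := by
    intro a ha y hy
    rw [hOm] at hy ⊢
    exact ⟨hR'A a ha y hy.1, by rw [← map_pow, hy.2, map_one]⟩
  have hwq : ∀ y ∈ R', (y⁻¹ * β y) ^ q = 1 := by
    intro y hy
    have hyq : y ^ q ∈ phi p R' := by
      obtain ⟨t, ht⟩ := hq1
      rw [ht, pow_mul]
      apply Subgroup.pow_mem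
      apply Subgroup.subset_closure
      right
      exact ⟨y, hy, rfl⟩
    have h1 : (β y) ^ q = y ^ q := by
      rw [← map_pow]; exact hβN _ hyq
    have hwR : y⁻¹ * β y ∈ R' := R'.mul_mem (R'.inv_mem hy) (hβR' y hy)
    rw [hβx y, hpowmul y hy _ hwR] at h1
    have : y ^ q * (y⁻¹ * β y) ^ q = y ^ q * 1 := by rw [mul_one]; exact h1
    exact mul_left_cancel this
  by_cases hOmeq : Om = R'
  swap
  · have hwOm : x⁻¹ * β x ∈ Om := by
      rw [hOm]
      exact ⟨R'.mul_mem (R'.inv_mem hx) (hβR' x hx), hwq x hx⟩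
    have h1 := IH Om hOmle hOmeq hOmA _ hwOm
    have h3 := hcf x _ (hβx x) h1
    rw [hβx x, h3, mul_one]
  -- Step 6: `R'` has exponent `q`
  have hexp : ∀ y ∈ R', y ^ q = 1 := by
    intro y hy
    have : y ∈ Om := by rw [hOmeq]; exact hy
    exact ((hOm y).mp this).2
  have hchain := h2 R' hR'Y hR'A hexp β hβ
  have hfix : ∀ (i : ℕ), ∀ y ∈ R', y ∈ Z i → β y = y := by
    intro i
    induction i with
    | zero =>
      intro y hy hyZ
      rw [hZ0, Subgroup.mem_bot] at hyZ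
      rw [hyZ, map_one]
    | succ i ihi =>
      intro y hy hyZ
      have h1 := hchain i y hy hyZ
      have hwR : y⁻¹ * β y ∈ R' := R'.mul_mem (R'.inv_mem hy) (hβR' y hy)
      have h3 := hcf y _ (hβx y) (ihi _ hwR h1)
      rw [hβx y, h3, mul_one]
  exact hfix c x hx (hZc (hR'Y hx))

end Cfsg.Agent.Lib.Helper8_Control
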