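import Mathlib
import Cfsg.Prelude.Def_KGroupFacts
import Cfsg.Prelude.Def_Transfer
import Cfsg.Agent.Lib.Helper8_Control
import Cfsg.Agent.Lib.Helper3_PResidual

set_option autoImplicit false
set_option linter.unusedVariables false
set_option linter.style.haveILetI false

/-!
# A relative version of Thompson's critical subgroup

For a finite `p`-group `P`, a group `G` of automorphisms of `P` containing the inner ones, and a
`G`-invariant subgroup `Y`, we construct a `G`-invariant subgroup `D ≤ Y` of small exponent with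
`[D, P] ≤ Z(D)` on which the `p'`-elements of `G` centralizing `D` centralize `Y`.
-/

namespace Cfsg.Agent.Lib.Helper8_Critical

open Cfsg
open Cfsg.Agent.Lib.Helper7_PFrattini Cfsg.Agent.Lib.Helper7_PGroupRank
open Cfsg.Agent.Lib.Helper8_Omega Cfsg.Agent.Lib.Helper8_Control

open scoped commutatorElement in
/-- In a nilpotent group a nontrivial normal subgroup meets the centre nontrivially. -/
theorem normal_inf_center_ne_bot {Q : Type*} [Group Q] [Group.IsNilpotent Q] (A : Subgroup Q)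
    [hAn : A.Normal] (hA : A ≠ ⊥) : ∃ a ∈ A, a ∈ Subgroup.center Q ∧ a ≠ 1 := by
  classical
  obtain ⟨n, hn⟩ := Group.IsNilpotent.nilpotent Q
  have hex : ∃ i, A ⊓ Subgroup.upperCentralSeries Q i ≠ ⊥ := ⟨n, by rw [hn, inf_top_eq]; exact hA⟩
  have hspec := Nat.find_spec hex
  have hmin := fun {m : ℕ} (h : m < Nat.find hex) => Nat.find_min hex h
  cases hi : Nat.find hex with
  | zero =>
    rw [hi, Subgroup.upperCentralSeries_zero, inf_bot_eq] at hspec
    exact absurd rfl hspec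
  | succ j =>
    rw [hi] at hspec
    have hj : A ⊓ Subgroup.upperCentralSeries Q j = ⊥ := by
      have := hmin (m := j) (by omega)
      rwa [not_not] at this
    obtain ⟨a, ha1⟩ := (Subgroup.ne_bot_iff_exists_ne_one).mp hspec
    have haA : (a : Q) ∈ A := (Subgroup.mem_inf.mp a.2).1
    have haZ : (a : Q) ∈ Subgroup.upperCentralSeries Q (j + 1) := (Subgroup.mem_inf.mp a.2).2
    refine ⟨a, haA, ?_, fun h => ha1 (Subtype.ext h)⟩
    rw [Subgroup.mem_center_iff]
    intro y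
    have h1 : ⁅(a : Q), y⁆ ∈ Subgroup.upperCentralSeries Q j :=
      Subgroup.mem_upperCentralSeries_succ_iff.mp haZ y
    have h2 : ⁅(a : Q), y⁆ ∈ A := by
      have e : ⁅(a : Q), y⁆ = (a : Q) * (y * (a : Q)⁻¹ * y⁻¹) := by
        simp only [commutatorElement_def]; group
      rw [e]
      exact A.mul_mem haA (hAn.conj_mem _ (A.inv_mem haA) y)
    have h3 : ⁅(a : Q), y⁆ ∈ A ⊓ Subgroup.upperCentralSeries Q j := Subgroup.mem_inf.mpr ⟨h2, h1⟩
    rw [hj, Subgroup.mem_bot, commutatorElement_def] at h3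
    have := congrArg (fun z => z * y * (a : Q)) h3
    simp only [one_mul] at this
    rw [← this]; group

variable {P : Type*} [Group P]

/-- `D` is invariant under the group `G` of automorphisms. -/
def Inv (G : Subgroup (MulAut P)) (D : Subgroup P) : Prop := ∀ α ∈ G, ∀ x ∈ D, α x ∈ D

theorem Inv.map_eq {G : Subgroup (MulAut P)} {D : Subgroup P} (h : Inv G D) (α : MulAut P)
    (hα : α ∈ G) : D.map α.toMonoidHom = D := by
  apply le_antisymm
  · rintro _ ⟨x, hx, rfl⟩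
    exact h α hα x hx
  · intro x hx
    refine ⟨α⁻¹ x, h α⁻¹ (G.inv_mem hα) x hx, ?_⟩
    simp

theorem Inv.conj_mem {G : Subgroup (MulAut P)} (hG : Inn P ≤ G) {D : Subgroup P} (h : Inv G D)
    (g : P) {x : P} (hx : x ∈ D) : g * x * g⁻¹ ∈ D := by
  have : MulAut.conj g ∈ G := hG ⟨g, rfl⟩
  have := h _ this x hx
  simpa [MulAut.conj_apply] using this

theorem Inv.inf {G : Subgroup (MulAut P)} {D E : Subgroup P} (hD : Inv G D) (hE : Inv G E) :
    Inv G (D ⊓ E) := by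
  intro α hα x hx
  exact ⟨hD α hα x hx.1, hE α hα x hx.2⟩

theorem Inv.centralizer {G : Subgroup (MulAut P)} {D : Subgroup P} (hD : Inv G D) :
    Inv G (Subgroup.centralizer (D : Set P)) := by
  intro α hα x hx
  rw [Subgroup.mem_centralizer_iff] at hx ⊢
  intro d hd
  have hd' : α⁻¹ d ∈ D := hD α⁻¹ (G.inv_mem hα) d hd
  have h1 := hx _ hd'
  have h3 : α (α⁻¹ d) = d := by simp
  calc d * α x = α (α⁻¹ d) * α x := by rw [h3]
    _ = α (α⁻¹ d * x) := (map_mul α _ _).symm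
    _ = α (x * α⁻¹ d) := by rw [h1]
    _ = α x * d := by rw [map_mul, h3]

/-- The subgroup `[P, O^p(G)]`. -/
def Ysub (p : ℕ) (G : Subgroup (MulAut P)) : Subgroup P :=
  Subgroup.closure {y : P | ∃ α ∈ Cfsg.pResidual p ↥G, ∃ x : P, y = x⁻¹ * (α : MulAut P) x}

theorem inv_Ysub (p : ℕ) (G : Subgroup (MulAut P)) : Inv G (Ysub p G) := by
  intro α hα
  have : Ysub p G ≤ (Ysub p G).comap α.toMonoidHom := by
    unfold Ysub
    rw [Subgroup.closure_le]
    rintro y ⟨γ, hγ, x, rfl⟩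
    apply Subgroup.subset_closure
    have hn := Cfsg.Agent.Lib.Helper3_PResidual.pResidual_normal p ↥G
    refine ⟨(⟨α, hα⟩ : G) * γ * (⟨α, hα⟩ : G)⁻¹, hn.conj_mem γ hγ _, α x, ?_⟩
    simp
  exact fun x hx => this hx

/-- a `p'`-element of `G` acting trivially on `[P, O^p(G)]` is trivial -/
theorem eq_one_of_fix_Ysub [Finite P] {p : ℕ} [Fact p.Prime] (hP : IsPGroup p P)
    (G : Subgroup (MulAut P)) (α : MulAut P) (hα : α ∈ G) (hcop : (orderOf α).Coprime p)
    (hfix : ∀ y ∈ Ysub p G, α y = y) : α = 1 := by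
  ext x
  have hres : (⟨α, hα⟩ : G) ∈ Cfsg.pResidual p ↥G := by
    apply Subgroup.subset_closure
    show Nat.Coprime (orderOf (⟨α, hα⟩ : G)) p
    rw [Subgroup.orderOf_mk]
    exact hcop
  have hw : x⁻¹ * α x ∈ Ysub p G := Subgroup.subset_closure ⟨⟨α, hα⟩, hres, x, rfl⟩
  have h1 := coprime_fix hP α (orderOf α) hcop (pow_orderOf_eq_one α) x (x⁻¹ * α x)
    (by group) (hfix _ hw)
  have h3 : α x = x * (x⁻¹ * α x) := by group
  rw [h3, h1, mul_one]
  rfl

/-- **Relative critical subgroup.** -/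
theorem exists_critical [Finite P] {p : ℕ} [Fact p.Prime] (hP : IsPGroup p P)
    (G : Subgroup (MulAut P)) (hG : Inn P ≤ G) (Y : Subgroup P) (hY : Inv G Y) :
    ∃ D₁ : Subgroup P, Inv G D₁ ∧ D₁ ≤ Y ∧
      (∀ d ∈ D₁, ∀ g : P, d * g * d⁻¹ * g⁻¹ ∈ D₁ ⊓ Subgroup.centralizer (D₁ : Set P)) ∧
      (∀ d ∈ D₁, d ^ p ∈ Subgroup.centralizer (D₁ : Set P)) ∧
      Y ⊓ Subgroup.centralizer (D₁ : Set P) ≤ D₁ := by
  classical
  have hp := (Fact.out : p.Prime)
  -- a maximal invariant abelian subgroup of `Y`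
  obtain ⟨𝒮, h𝒮⟩ : ∃ 𝒮 : Set (Subgroup P), 𝒮 = {C | C ≤ Y ∧ Inv G C ∧
      ∀ a ∈ C, ∀ b ∈ C, a * b = b * a} := ⟨_, rfl⟩
  have h𝒮ne : 𝒮.Nonempty := by
    refine ⟨⊥, ?_⟩
    rw [h𝒮]
    refine ⟨bot_le, ?_, ?_⟩
    · intro α _ x hx
      rw [Subgroup.mem_bot] at hx ⊢
      rw [hx, map_one]
    · intro a ha b hb
      rw [Subgroup.mem_bot] at ha hb
      rw [ha, hb]
  obtain ⟨C, hC⟩ := (Set.toFinite 𝒮).exists_maximal h𝒮ne
  have hCS : C ∈ 𝒮 := hC.prop
  rw [h𝒮] at hCS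
  obtain ⟨hCY, hCinv, hCab⟩ := hCS
  have hCmax : ∀ B : Subgroup P, C ≤ B → B ≤ Y → Inv G B →
      (∀ a ∈ B, ∀ b ∈ B, a * b = b * a) → B = C := by
    intro B h1 h2 h3 h4
    have hB : B ∈ 𝒮 := by rw [h𝒮]; exact ⟨h2, h3, h4⟩
    exact le_antisymm (hC.le_of_ge hB h1) h1
  have hCn : ∀ (g : P) (c : P), c ∈ C → g * c * g⁻¹ ∈ C := fun g c hc => hCinv.conj_mem hG g hc
  obtain ⟨H, hHdef⟩ : ∃ H, H = Y ⊓ Subgroup.centralizer (C : Set P) := ⟨_, rfl⟩
  have hHinv : Inv G H := by rw [hHdef]; exact hY.inf hCinv.centralizer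
  have hHY : H ≤ Y := by rw [hHdef]; exact inf_le_left
  have hCH : C ≤ H := by
    rw [hHdef]
    exact le_inf hCY (fun c hc => Subgroup.mem_centralizer_iff.mpr (fun d hd => hCab d hd c hc))
  have hHC : ∀ h ∈ H, ∀ c ∈ C, c * h = h * c := by
    intro h hh c hc
    rw [hHdef] at hh
    exact (Subgroup.mem_centralizer_iff.mp hh.2) c hc
  let D₁ : Subgroup P :=
    { carrier := {h | h ∈ H ∧ h ^ p ∈ C ∧ ∀ g : P, h * g * h⁻¹ * g⁻¹ ∈ C}
      one_mem' := ⟨H.one_mem, by rw [one_pow]; exact C.one_mem, by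
        intro g
        have : (1 : P) * g * 1⁻¹ * g⁻¹ = 1 := by group
        rw [this]; exact C.one_mem⟩
      mul_mem' := by
        rintro h k ⟨hh, hhp, hhc⟩ ⟨hk, hkp, hkc⟩
        refine ⟨H.mul_mem hh hk, ?_, ?_⟩
        · obtain ⟨d, hd⟩ : ∃ d, d = k * h * k⁻¹ * h⁻¹ := ⟨_, rfl⟩
          have hdC : d ∈ C := by rw [hd]; exact hkc h
          have h1 := mul_pow_of_comm h k d (by rw [hd]; group) (hHC h hh d hdC) (hHC k hk d hdC) p
          rw [h1]
          exact C.mul_mem (C.mul_mem hhp hkp) (C.pow_mem hdC _)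
        · intro g
          have h1 : h * k * g * (h * k)⁻¹ * g⁻¹ =
              (h * (k * g * k⁻¹ * g⁻¹) * h⁻¹) * (h * g * h⁻¹ * g⁻¹) := by group
          rw [h1]
          exact C.mul_mem (hCn h _ (hkc g)) (hhc g)
      inv_mem' := by
        rintro h ⟨hh, hhp, hhc⟩
        refine ⟨H.inv_mem hh, ?_, ?_⟩
        · rw [inv_pow]; exact C.inv_mem hhp
        · intro g
          have h1 : h⁻¹ * g * h⁻¹⁻¹ * g⁻¹ = h⁻¹ * (h * g * h⁻¹ * g⁻¹)⁻¹ * h⁻¹⁻¹ := by group
          rw [h1]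
          exact hCn h⁻¹ _ (C.inv_mem (hhc g)) }
  have hD₁mem : ∀ h : P, h ∈ D₁ ↔ h ∈ H ∧ h ^ p ∈ C ∧ ∀ g : P, h * g * h⁻¹ * g⁻¹ ∈ C :=
    fun h => Iff.rfl
  have hD₁inv : Inv G D₁ := by
    intro α hα h hh
    rw [hD₁mem] at hh ⊢
    obtain ⟨hh, hhp, hhc⟩ := hh
    refine ⟨hHinv α hα h hh, ?_, ?_⟩
    · rw [← map_pow]; exact hCinv α hα _ hhp
    · intro g
      have h1 := hCinv α hα _ (hhc (α⁻¹ g))
      have h2 : α (h * α⁻¹ g * h⁻¹ * (α⁻¹ g)⁻¹) = α h * g * (α h)⁻¹ * g⁻¹ := by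
        simp
      rw [h2] at h1
      exact h1
  have hD₁H : D₁ ≤ H := fun h hh => ((hD₁mem h).mp hh).1
  have hD₁Y : D₁ ≤ Y := hD₁H.trans hHY
  have hCD₁ : C ≤ D₁ := by
    intro c hc
    rw [hD₁mem]
    refine ⟨hCH hc, C.pow_mem hc p, ?_⟩
    intro g
    have h1 : c * g * c⁻¹ * g⁻¹ = c * (g * c⁻¹ * g⁻¹) := by group
    rw [h1]
    exact C.mul_mem hc (hCn g _ (C.inv_mem hc))
  have hCcent : C ≤ Subgroup.centralizer (D₁ : Set P) := by
    intro c hc
    rw [Subgroup.mem_centralizer_iff]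
    intro d hd
    exact (hHC d (hD₁H hd) c hc).symm
  -- the centre of `D₁` is `C`
  have hZ : D₁ ⊓ Subgroup.centralizer (D₁ : Set P) = C := by
    apply hCmax
    · exact le_inf hCD₁ hCcent
    · exact inf_le_left.trans hD₁Y
    · exact hD₁inv.inf hD₁inv.centralizer
    · intro a ha b hb
      exact ((Subgroup.mem_centralizer_iff.mp hb.2) a ha.1)
  refine ⟨D₁, hD₁inv, hD₁Y, ?_, ?_, ?_⟩
  · intro d hd g
    have := ((hD₁mem d).mp hd).2.2 g
    exact ⟨hCD₁ this, hCcent this⟩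
  · intro d hd
    exact hCcent ((hD₁mem d).mp hd).2.1
  · -- self-centralizing
    obtain ⟨K, hKdef⟩ : ∃ K, K = Y ⊓ Subgroup.centralizer (D₁ : Set P) := ⟨_, rfl⟩
    rw [← hKdef]
    have hKinv : Inv G K := by rw [hKdef]; exact hY.inf hD₁inv.centralizer
    have hKH : K ≤ H := by
      rw [hKdef, hHdef]
      exact inf_le_inf_left _ (Subgroup.centralizer_le hCD₁)
    have hKcent : K ≤ Subgroup.centralizer (D₁ : Set P) := by rw [hKdef]; exact inf_le_right
    suffices hKC : K ≤ C from hKC.trans hCD₁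
    by_contra hKC
    haveI hCnormal : C.Normal := ⟨fun c hc g => hCn g c hc⟩
    haveI hKnormal : K.Normal := ⟨fun c hc g => hKinv.conj_mem hG g hc⟩
    have hQp : IsPGroup p (P ⧸ C) := hP.to_quotient C
    haveI : Group.IsNilpotent (P ⧸ C) := hQp.isNilpotent
    obtain ⟨Kb, hKb⟩ : ∃ Kb, Kb = K.map (QuotientGroup.mk' C) := ⟨_, rfl⟩
    haveI hKbn : Kb.Normal := by
      rw [hKb]
      exact Subgroup.Normal.map hKnormal _ (QuotientGroup.mk'_surjective C)
    have hKbne : Kb ≠ ⊥ := by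
      intro hbot
      apply hKC
      rw [hKb, Subgroup.map_eq_bot_iff, QuotientGroup.ker_mk'] at hbot
      exact hbot
    obtain ⟨z, hzK, hzZ, hz1⟩ := normal_inf_center_ne_bot Kb hKbne
    obtain ⟨j, hj⟩ := hQp z
    have hord : orderOf z ∣ p ^ j := orderOf_dvd_of_pow_eq_one hj
    obtain ⟨i, hi, hiord⟩ := (Nat.dvd_prime_pow hp).mp hord
    have hi0 : i ≠ 0 := by
      rintro rfl
      rw [pow_zero, orderOf_eq_one_iff] at hiord
      exact hz1 hiord
    obtain ⟨z', hz'⟩ : ∃ z', z' = z ^ (p ^ (i - 1)) := ⟨_, rfl⟩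
    have hz'p : z' ^ p = 1 := by
      rw [hz', ← pow_mul, ← pow_succ, Nat.sub_add_cancel (Nat.pos_of_ne_zero hi0), ← hiord]
      exact pow_orderOf_eq_one z
    have hz'1 : z' ≠ 1 := by
      rw [hz']
      apply pow_ne_one_of_lt_orderOf (pow_ne_zero _ hp.ne_zero)
      rw [hiord]
      exact Nat.pow_lt_pow_right hp.one_lt (by omega)
    have hz'K : z' ∈ Kb := by rw [hz']; exact Kb.pow_mem hzK _
    have hz'Z : z' ∈ Subgroup.center (P ⧸ C) := by rw [hz']; exact Subgroup.pow_mem _ hzZ _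
    rw [hKb] at hz'K
    obtain ⟨k, hkK, hkz⟩ := hz'K
    have hkC : k ∉ C := by
      intro hk
      apply hz'1
      rw [← hkz]
      exact (QuotientGroup.eq_one_iff k).mpr hk
    have hkp : k ^ p ∈ C := by
      rw [← QuotientGroup.eq_one_iff]
      have : ((k ^ p : P) : P ⧸ C) = (QuotientGroup.mk' C k) ^ p := by simp
      rw [this, hkz, hz'p]
    have hkc : ∀ g : P, k * g * k⁻¹ * g⁻¹ ∈ C := by
      intro g
      rw [← QuotientGroup.eq_one_iff]
      have h1 : ((k * g * k⁻¹ * g⁻¹ : P) : P ⧸ C) =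
          (QuotientGroup.mk' C k) * (g : P ⧸ C) * (QuotientGroup.mk' C k)⁻¹ * (g : P ⧸ C)⁻¹ := by
        simp
      rw [h1, hkz]
      rw [Subgroup.mem_center_iff] at hz'Z
      rw [← hz'Z (g : P ⧸ C)]
      group
    have hkD₁ : k ∈ D₁ := (hD₁mem k).mpr ⟨hKH hkK, hkp, hkc⟩
    have hkZ : k ∈ D₁ ⊓ Subgroup.centralizer (D₁ : Set P) := ⟨hkD₁, hKcent hkK⟩
    rw [hZ] at hkZ
    exact hkC hkZ

/-- `q = p` for odd `p` and `q = 4` for `p = 2`. -/
def qExp (p : ℕ) : ℕ := if p = 2 then 4 else p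

theorem dvd_sum_qExp (p : ℕ) [hp : Fact p.Prime] : p ∣ ∑ i ∈ Finset.range (qExp p), i := by
  unfold qExp
  split_ifs with h
  · subst h; decide
  · have h1 : (∑ i ∈ Finset.range p, i) * 2 = p * (p - 1) := Finset.sum_range_id_mul_two p
    have h2 : p ∣ (∑ i ∈ Finset.range p, i) * 2 := by rw [h1]; exact dvd_mul_right _ _
    have hcop : Nat.Coprime p 2 := by
      rw [Nat.coprime_primes hp.out Nat.prime_two]; exact h
    exact hcop.dvd_of_dvd_mul_right h2

theorem pow_qExp_iff {G : Type*} [Group G] (p : ℕ) (x : G) :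
    x ^ qExp p = 1 ↔ (x ^ p = 1 ∨ (p = 2 ∧ x ^ 4 = 1)) := by
  unfold qExp
  split_ifs with h
  · constructor
    · intro hx; exact Or.inr ⟨h, hx⟩
    · rintro (hx | ⟨-, hx⟩)
      · subst h
        have : x ^ 4 = (x ^ 2) ^ 2 := by rw [← pow_mul]
        rw [this, hx, one_pow]
      · exact hx
  · constructor
    · intro hx; exact Or.inl hx
    · rintro (hx | ⟨h2, -⟩)
      · exact hx
      · exact absurd h2 h

/-- **Relative critical subgroup of small exponent.** -/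
theorem exists_small [Finite P] {p : ℕ} [Fact p.Prime] (hP : IsPGroup p P)
    (G : Subgroup (MulAut P)) (hG : Inn P ≤ G) (Y : Subgroup P) (hY : Inv G Y) :
    ∃ D : Subgroup P, Inv G D ∧ D ≤ Y ∧ (∀ d ∈ D, d ^ p = 1 ∨ (p = 2 ∧ d ^ 4 = 1)) ∧
      (∀ d ∈ D, ∀ g : P, d * g * d⁻¹ * g⁻¹ ∈ D ⊓ Subgroup.centralizer (D : Set P)) ∧
      (∀ α ∈ G, (orderOf α).Coprime p → (∀ d ∈ D, α d = d) → ∀ y ∈ Y, α y = y) := by
  obtain ⟨D₁, hD₁inv, hD₁Y, hD₁c, hD₁p, hD₁s⟩ := exists_critical hP G hG Y hY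
  have hpowmul : ∀ x ∈ D₁, ∀ y ∈ D₁, (x * y) ^ qExp p = x ^ qExp p * y ^ qExp p := by
    intro x hx y hy
    obtain ⟨d, hd⟩ : ∃ d, d = y * x * y⁻¹ * x⁻¹ := ⟨_, rfl⟩
    have hdZ : d ∈ D₁ ⊓ Subgroup.centralizer (D₁ : Set P) := by rw [hd]; exact hD₁c y hy x
    have hdc := Subgroup.mem_centralizer_iff.mp hdZ.2
    have hdx : d * x = x * d := (hdc x hx).symm
    have hdy : d * y = y * d := (hdc y hy).symm
    have hdp : d ^ p = 1 := by
      have h1 := comm_pow' y x (by rw [← hd]; exact hdy.symm) p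
      rw [← hd] at h1
      rw [← h1]
      have h2 := Subgroup.mem_centralizer_iff.mp (hD₁p y hy) x hx
      calc y ^ p * x * (y ^ p)⁻¹ * x⁻¹ = (x * y ^ p) * (y ^ p)⁻¹ * x⁻¹ := by rw [h2]
        _ = 1 := by group
    have h1 := mul_pow_of_comm x y d (by rw [hd]; group) hdx hdy (qExp p)
    obtain ⟨t, ht⟩ := dvd_sum_qExp p
    rw [h1, ht, pow_mul, hdp, one_pow, mul_one]
  let D : Subgroup P :=
    { carrier := {x | x ∈ D₁ ∧ x ^ qExp p = 1}
      one_mem' := ⟨D₁.one_mem, one_pow _⟩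
      mul_mem' := by
        rintro x y ⟨hx, hxq⟩ ⟨hy, hyq⟩
        exact ⟨D₁.mul_mem hx hy, by rw [hpowmul x hx y hy, hxq, hyq, one_mul]⟩
      inv_mem' := by
        rintro x ⟨hx, hxq⟩
        exact ⟨D₁.inv_mem hx, by rw [inv_pow, hxq, inv_one]⟩ }
  have hDmem : ∀ x : P, x ∈ D ↔ x ∈ D₁ ∧ x ^ qExp p = 1 := fun x => Iff.rfl
  have hDD₁ : D ≤ D₁ := fun x hx => ((hDmem x).mp hx).1
  have hDinv : Inv G D := by
    intro α hα x hx
    rw [hDmem] at hx ⊢
    exact ⟨hD₁inv α hα x hx.1, by rw [← map_pow, hx.2, map_one]⟩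
  refine ⟨D, hDinv, hDD₁.trans hD₁Y, ?_, ?_, ?_⟩
  · intro d hd
    exact (pow_qExp_iff p d).mp ((hDmem d).mp hd).2
  · intro d hd g
    have h1 := hD₁c d (hDD₁ hd) g
    refine ⟨?_, Subgroup.centralizer_le hDD₁ h1.2⟩
    have h2 : d * g * d⁻¹ * g⁻¹ = d * (g * d⁻¹ * g⁻¹) := by group
    rw [h2]
    exact D.mul_mem hd (hDinv.conj_mem hG g (D.inv_mem hd))
  · intro α hα hcop hfix
    -- `α` is trivial on `D₁`
    have hαm : α ^ orderOf α = 1 := pow_orderOf_eq_one α
    let αR : D₁ →* D₁ := ((α.toMonoidHom).comp D₁.subtype).codRestrict D₁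
      (fun d => hD₁inv α hα d d.2)
    have hiterR : ∀ (k : ℕ) (y : D₁), ((αR^[k] y : D₁) : P) = (α ^ k) (y : P) := by
      intro k
      induction k with
      | zero => intro y; simp
      | succ k ih =>
        intro y
        rw [Function.iterate_succ_apply', pow_succ', MulAut.mul_apply, ← ih]
        rfl
    have hfix₁ : ∀ y : D₁, αR y = y := by
      apply omega (hP.to_subgroup D₁) αR (orderOf α) hcop
      · intro y
        apply Subtype.ext
        rw [hiterR, hαm]; rfl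
      · intro y hy
        apply Subtype.ext
        show α (y : P) = (y : P)
        apply hfix
        rw [hDmem]
        refine ⟨y.2, (pow_qExp_iff p _).mpr ?_⟩
        rcases hy with h1 | ⟨h2, h1⟩
        · left
          have := congrArg Subtype.val h1
          simpa using this
        · right
          refine ⟨h2, ?_⟩
          have := congrArg Subtype.val h1
          simpa using this
    have hfix₁' : ∀ d ∈ D₁, α d = d := fun d hd => congrArg Subtype.val (hfix₁ ⟨d, hd⟩)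
    intro y hy
    obtain ⟨w, hw⟩ : ∃ w, w = y⁻¹ * α y := ⟨_, rfl⟩
    have hwD₁ : w ∈ D₁ := by
      apply hD₁s
      rw [Subgroup.mem_inf]
      refine ⟨?_, ?_⟩
      · rw [hw]; exact Y.mul_mem (Y.inv_mem hy) (hY α hα y hy)
      · rw [Subgroup.mem_centralizer_iff]
        intro d hd
        have h1 : y * d * y⁻¹ ∈ D₁ := hD₁inv.conj_mem hG y hd
        have h2 := hfix₁' _ h1
        rw [map_mul, map_mul, hfix₁' d hd, map_inv] at h2
        rw [hw]
        calc d * (y⁻¹ * α y) = y⁻¹ * (y * d * y⁻¹) * α y := by group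
          _ = y⁻¹ * (α y * d * (α y)⁻¹) * α y := by rw [h2]
          _ = y⁻¹ * α y * d := by group
    have h3 := coprime_fix hP α (orderOf α) hcop hαm y w (by rw [hw]; group) (hfix₁' w hwD₁)
    have h4 : α y = y * w := by rw [hw]; group
    rw [h4, h3, mul_one]

/-- A special case of Thompson's `A × B` lemma: a `p'`-automorphism of a `p`-group `D`
centralizing a subgroup `A` with `C_D(A) ≤ A` is trivial on `D`. -/
theorem fix_of_fix_selfCentralizing [Finite P] {p : ℕ} [Fact p.Prime] (hP : IsPGroup p P)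
    (α : MulAut P) (m : ℕ) (hm : m.Coprime p) (hαm : α ^ m = 1)
    (D : Subgroup P) (hDα : ∀ x ∈ D, α x ∈ D) :
    ∀ (n : ℕ) (A : Subgroup P), Nat.card D - Nat.card A = n → A ≤ D →
      D ⊓ Subgroup.centralizer (A : Set P) ≤ A → (∀ a ∈ A, α a = a) → ∀ d ∈ D, α d = d := by
  intro n
  induction n using Nat.strong_induction_on with
  | _ n ih =>
  intro A hn hAD hCA hfix d hd
  by_cases hAeq : A = D
  · exact hfix d (hAeq ▸ hd)
  -- the normalizer of `A` in `D`
  have hDp : IsPGroup p D := hP.to_subgroup D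
  haveI : Group.IsNilpotent D := hDp.isNilpotent
  have hnc : NormalizerCondition D := Group.normalizerCondition_of_isNilpotent
  have hlt : A.subgroupOf D < ⊤ := by
    rw [lt_top_iff_ne_top]
    intro htop
    apply hAeq
    exact le_antisymm hAD (Subgroup.subgroupOf_eq_top.mp htop)
  have hlt' := hnc _ hlt
  obtain ⟨N, hNdef⟩ : ∃ N : Subgroup P,
      N = (Subgroup.normalizer ((A.subgroupOf D : Subgroup D) : Set D)).map D.subtype := ⟨_, rfl⟩
  have hND : N ≤ D := by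
    rw [hNdef]
    rintro _ ⟨x, -, rfl⟩
    exact x.2
  have hAN : A ≤ N := by
    intro a ha
    rw [hNdef]
    exact ⟨⟨a, hAD ha⟩, Subgroup.le_normalizer (by rw [Subgroup.mem_subgroupOf]; exact ha), rfl⟩
  have hANne : A ≠ N := by
    intro heq
    apply hlt'.ne
    apply le_antisymm hlt'.le
    intro x hx
    have : (x : P) ∈ N := by rw [hNdef]; exact ⟨x, hx, rfl⟩
    rw [← heq] at this
    rw [Subgroup.mem_subgroupOf]
    exact this
  have hNconj : ∀ x ∈ N, ∀ a ∈ A, x * a * x⁻¹ ∈ A := by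
    intro x hx a ha
    rw [hNdef] at hx
    obtain ⟨x', hx', rfl⟩ := hx
    have h1 := (Subgroup.mem_normalizer_iff.mp hx' ⟨a, hAD ha⟩).mp
      (by rw [Subgroup.mem_subgroupOf]; exact ha)
    rw [Subgroup.mem_subgroupOf] at h1
    simpa using h1
  -- `α` fixes `N`
  have hfixN : ∀ x ∈ N, α x = x := by
    intro x hx
    obtain ⟨w, hw⟩ : ∃ w, w = x⁻¹ * α x := ⟨_, rfl⟩
    have hwA : w ∈ A := by
      apply hCA
      rw [Subgroup.mem_inf]
      refine ⟨?_, ?_⟩
      · rw [hw]; exact D.mul_mem (D.inv_mem (hND hx)) (hDα x (hND hx))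
      · rw [Subgroup.mem_centralizer_iff]
        intro a ha
        have h2 := hfix _ (hNconj x hx a ha)
        rw [map_mul, map_mul, hfix a ha, map_inv] at h2
        rw [hw]
        calc a * (x⁻¹ * α x) = x⁻¹ * (x * a * x⁻¹) * α x := by group
          _ = x⁻¹ * (α x * a * (α x)⁻¹) * α x := by rw [h2]
          _ = x⁻¹ * α x * a := by group
    have h3 := coprime_fix hP α m hm hαm x w (by rw [hw]; group) (hfix w hwA)
    have h4 : α x = x * w := by rw [hw]; group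
    rw [h4, h3, mul_one]
  have hcardlt : Nat.card A < Nat.card N := card_lt_of_le_of_ne hAN hANne
  have hcardle : Nat.card N ≤ Nat.card D := Subgroup.card_le_of_le hND
  refine ih (Nat.card D - Nat.card N) (by omega) N rfl hND ?_ hfixN d hd
  exact (inf_le_inf_left _ (Subgroup.centralizer_le hAN)).trans (hCA.trans hAN)

/-- A maximal abelian subgroup is self-centralizing. -/
theorem centralizer_le_of_maximal_abelian (D A : Subgroup P) (hAD : A ≤ D)
    (hAc : IsMulCommutative ↥A)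
    (hmax : ∀ B : Subgroup P, A ≤ B → B ≤ D → IsMulCommutative ↥B → B = A) :
    D ⊓ Subgroup.centralizer (A : Set P) ≤ A := by
  intro x hx
  rw [Subgroup.mem_inf] at hx
  have hxc := Subgroup.mem_centralizer_iff.mp hx.2
  obtain ⟨B, hB⟩ : ∃ B, B = Subgroup.closure ((A : Set P) ∪ {x}) := ⟨_, rfl⟩
  have hBc : IsMulCommutative ↥B := by
    rw [hB]
    apply Subgroup.isMulCommutative_closure
    rintro a (ha | ha) b (hb | hb)
    · exact setLike_mul_comm ha hb
    · rw [Set.mem_singleton_iff] at hb; rw [hb]; exact hxc a ha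
    · rw [Set.mem_singleton_iff] at ha; rw [ha]; exact (hxc b hb).symm
    · rw [Set.mem_singleton_iff] at ha hb; rw [ha, hb]
  have hAB : A ≤ B := by
    rw [hB]
    exact fun a ha => Subgroup.subset_closure (Or.inl ha)
  have hBD : B ≤ D := by
    rw [hB, Subgroup.closure_le]
    rintro a (ha | ha)
    · exact hAD ha
    · rw [Set.mem_singleton_iff] at ha; rw [ha]; exact hx.1
  have := hmax B hAB hBD hBc
  rw [← this, hB]
  exact Subgroup.subset_closure (Or.inr rfl)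

end Cfsg.Agent.Lib.Helper8_Critical
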