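import Mathlib
import Cfsg.Agent.Lib.Helper8_Critical

set_option autoImplicit false
set_option linter.style.haveILetI false
set_option linter.unusedVariables false

/-!
# Stability groups of chains `1 ≤ G₁ ≤ G₂ ≤ G`, and central chief factors in `p`-groups
-/

namespace Cfsg.Agent.Lib.Helper8_Chain3

variable {G : Type*} [Group G]

/-- The automorphisms stabilizing the chain `1 ≤ G₁ ≤ G₂ ≤ G`. -/
def stab3 (G₁ G₂ : Subgroup G) (h12 : G₁ ≤ G₂) : Subgroup (MulAut G) where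
  carrier := {β | (∀ x ∈ G₁, β x = x) ∧ (∀ x ∈ G₂, x⁻¹ * β x ∈ G₁) ∧ ∀ x, x⁻¹ * β x ∈ G₂}
  one_mem' := by
    refine ⟨fun x _ => rfl, fun x _ => ?_, fun x => ?_⟩
    · show x⁻¹ * x ∈ G₁
      rw [inv_mul_cancel]; exact G₁.one_mem
    · show x⁻¹ * x ∈ G₂
      rw [inv_mul_cancel]; exact G₂.one_mem
  mul_mem' := by
    rintro β γ ⟨hβ1, hβ2, hβ3⟩ ⟨hγ1, hγ2, hγ3⟩
    refine ⟨fun x hx => ?_, fun x hx => ?_, fun x => ?_⟩
    · show β (γ x) = x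
      rw [hγ1 x hx, hβ1 x hx]
    · show x⁻¹ * β (γ x) ∈ G₁
      have h1 : γ x ∈ G₂ := by
        have : γ x = x * (x⁻¹ * γ x) := by group
        rw [this]
        exact G₂.mul_mem hx (h12 (hγ2 x hx))
      have : x⁻¹ * β (γ x) = (x⁻¹ * γ x) * ((γ x)⁻¹ * β (γ x)) := by group
      rw [this]
      exact G₁.mul_mem (hγ2 x hx) (hβ2 _ h1)
    · show x⁻¹ * β (γ x) ∈ G₂
      have : x⁻¹ * β (γ x) = (x⁻¹ * γ x) * ((γ x)⁻¹ * β (γ x)) := by group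
      rw [this]
      exact G₂.mul_mem (hγ3 x) (hβ3 _)
  inv_mem' := by
    rintro β ⟨hβ1, hβ2, hβ3⟩
    have key : ∀ x : G, x⁻¹ * β⁻¹ x = ((β⁻¹ x)⁻¹ * β (β⁻¹ x))⁻¹ := by
      intro x
      rw [MulAut.apply_inv_self]
      group
    refine ⟨fun x hx => ?_, fun x hx => ?_, fun x => ?_⟩
    · calc β⁻¹ x = β⁻¹ (β x) := by rw [hβ1 x hx]
        _ = x := MulAut.inv_apply_self _ _ _
    · have h3 : (β⁻¹ x)⁻¹ * β (β⁻¹ x) ∈ G₂ := hβ3 _
      have hy : β⁻¹ x ∈ G₂ := by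
        rw [MulAut.apply_inv_self] at h3
        have : β⁻¹ x = x * ((β⁻¹ x)⁻¹ * x)⁻¹ := by group
        rw [this]
        exact G₂.mul_mem hx (G₂.inv_mem h3)
      rw [key x]
      exact G₁.inv_mem (hβ2 _ hy)
    · rw [key x]
      exact G₂.inv_mem (hβ3 _)

theorem mem_stab3 {G₁ G₂ : Subgroup G} {h12 : G₁ ≤ G₂} {β : MulAut G} :
    β ∈ stab3 G₁ G₂ h12 ↔
      (∀ x ∈ G₁, β x = x) ∧ (∀ x ∈ G₂, x⁻¹ * β x ∈ G₁) ∧ ∀ x, x⁻¹ * β x ∈ G₂ := Iff.rfl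

/-- Powers of an automorphism acting trivially on `K` and moving `x` inside `K`. -/
theorem pow_apply_of_fix (K : Subgroup G) (β : MulAut G) (hfix : ∀ k ∈ K, β k = k) (x : G)
    (hx : x⁻¹ * β x ∈ K) (n : ℕ) : (β ^ n) x = x * (x⁻¹ * β x) ^ n := by
  induction n with
  | zero => simp
  | succ n ih =>
    have h4 : (β ^ (n + 1)) x = β ((β ^ n) x) := by
      rw [pow_succ']; rfl
    rw [h4, ih, map_mul, map_pow, hfix _ hx, pow_succ', ← mul_assoc x, mul_inv_cancel_left]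

/-- Elements of the stability group have bounded order. -/
theorem stab3_pow {G₁ G₂ : Subgroup G} {h12 : G₁ ≤ G₂} {β : MulAut G}
    (hβ : β ∈ stab3 G₁ G₂ h12) (n₁ n₂ : ℕ) (h1 : ∀ k ∈ G₁, k ^ n₁ = 1)
    (h2 : ∀ k ∈ G₂, k ^ n₂ = 1) : β ^ (n₁ * n₂) = 1 := by
  obtain ⟨hβ1, hβ2, hβ3⟩ := hβ
  have hγfix : ∀ x ∈ G₂, (β ^ n₁) x = x := by
    intro x hx
    rw [pow_apply_of_fix G₁ β hβ1 x (hβ2 x hx) n₁, h1 _ (hβ2 x hx), mul_one]
  have hγmem : β ^ n₁ ∈ stab3 G₁ G₂ h12 :=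
    Subgroup.pow_mem _ (show β ∈ stab3 G₁ G₂ h12 from ⟨hβ1, hβ2, hβ3⟩) n₁
  rw [pow_mul]
  ext x
  rw [pow_apply_of_fix G₂ (β ^ n₁) hγfix x (hγmem.2.2 x) n₂, h2 _ (hγmem.2.2 x), mul_one]
  rfl

/-- The stability group is a `p`-group. -/
theorem stab3_isPGroup {p : ℕ} [Fact p.Prime] {G₁ G₂ : Subgroup G} {h12 : G₁ ≤ G₂}
    (c1 : Nat.card G₁ = p) (c2 : Nat.card G₂ = p ^ 2) : IsPGroup p (stab3 G₁ G₂ h12) := by
  intro β
  refine ⟨3, ?_⟩
  apply Subtype.ext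
  show (β : MulAut G) ^ (p ^ 3) = 1
  have h1 : ∀ k ∈ G₁, k ^ p = 1 := by
    intro k hk
    have : (⟨k, hk⟩ : G₁) ^ p = 1 := by rw [← c1]; exact pow_card_eq_one'
    exact congrArg Subtype.val this
  have h2 : ∀ k ∈ G₂, k ^ (p ^ 2) = 1 := by
    intro k hk
    have : (⟨k, hk⟩ : G₂) ^ (p ^ 2) = 1 := by rw [← c2]; exact pow_card_eq_one'
    exact congrArg Subtype.val this
  have := stab3_pow β.2 p (p ^ 2) h1 h2
  rw [show p ^ 3 = p * p ^ 2 by ring]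
  exact this

/-- Conjugation by an automorphism preserving the chain preserves the stability group. -/
theorem stab3_conj {G₁ G₂ : Subgroup G} {h12 : G₁ ≤ G₂} (a : MulAut G)
    (ha1 : ∀ x ∈ G₁, a x ∈ G₁) (ha2 : ∀ x ∈ G₂, a x ∈ G₂)
    (ha1' : ∀ x ∈ G₁, a⁻¹ x ∈ G₁) (ha2' : ∀ x ∈ G₂, a⁻¹ x ∈ G₂)
    {β : MulAut G} (hβ : β ∈ stab3 G₁ G₂ h12) : a * β * a⁻¹ ∈ stab3 G₁ G₂ h12 := by
  obtain ⟨hβ1, hβ2, hβ3⟩ := hβ
  have key : ∀ x : G, x⁻¹ * (a * β * a⁻¹) x = a ((a⁻¹ x)⁻¹ * β (a⁻¹ x)) := by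
    intro x
    show x⁻¹ * a (β (a⁻¹ x)) = _
    rw [map_mul, map_inv, MulAut.apply_inv_self]
  refine ⟨fun x hx => ?_, fun x hx => ?_, fun x => ?_⟩
  · show a (β (a⁻¹ x)) = x
    rw [hβ1 _ (ha1' x hx), MulAut.apply_inv_self]
  · rw [key x]
    exact ha1 _ (hβ2 _ (ha2' x hx))
  · rw [key x]
    exact ha2 _ (hβ3 _)

/-- In a finite `p`-group, a chief factor of order `p` is central. -/
theorem comm_mem_of_index_p {T : Type*} [Group T] [Finite T] {p : ℕ} [Fact p.Prime]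
    (hT : IsPGroup p T) (N M : Subgroup T) [hN : N.Normal] [hM : M.Normal] (hNM : N ≤ M)
    (hidx : Nat.card M = p * Nat.card N) (m : T) (hm : m ∈ M) (t : T) :
    m⁻¹ * (t * m * t⁻¹) ∈ N := by
  have hp : p.Prime := Fact.out
  haveI : Group.IsNilpotent (T ⧸ N) := (hT.to_quotient N).isNilpotent
  have hMn : (M.map (QuotientGroup.mk' N)).Normal :=
    Subgroup.Normal.map hM _ (QuotientGroup.mk'_surjective N)
  have hNpos : 0 < Nat.card N := Nat.card_pos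
  have hMne : M.map (QuotientGroup.mk' N) ≠ ⊥ := by
    intro h
    have hle : M ≤ N := by
      intro x hx
      have : QuotientGroup.mk' N x ∈ M.map (QuotientGroup.mk' N) := ⟨x, hx, rfl⟩
      rw [h, Subgroup.mem_bot] at this
      exact (QuotientGroup.eq_one_iff x).mp this
    have := Subgroup.card_le_of_le hle
    rw [hidx] at this
    have h2 := hp.two_le
    nlinarith
  obtain ⟨z, hzM, hzZ, hz1⟩ := Cfsg.Agent.Lib.Helper8_Critical.normal_inf_center_ne_bot _ hMne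
  obtain ⟨m₀, hm₀, rfl⟩ := hzM
  obtain ⟨X, hXdef⟩ : ∃ X : Subgroup T,
      X = M ⊓ (Subgroup.center (T ⧸ N)).comap (QuotientGroup.mk' N) := ⟨_, rfl⟩
  have hNX : N ≤ X := by
    intro n hn
    rw [hXdef]
    refine ⟨hNM hn, ?_⟩
    show QuotientGroup.mk' N n ∈ Subgroup.center (T ⧸ N)
    have h1 : QuotientGroup.mk' N n = 1 := (QuotientGroup.eq_one_iff n).mpr hn
    rw [h1]
    exact Subgroup.one_mem _
  have hXM : X ≤ M := by rw [hXdef]; exact inf_le_left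
  have hm₀X : m₀ ∈ X := by rw [hXdef]; exact ⟨hm₀, hzZ⟩
  have hm₀N : m₀ ∉ N := fun h => hz1 ((QuotientGroup.eq_one_iff m₀).mpr h)
  have hXeq : X = M := by
    apply Subgroup.eq_of_le_of_card_ge hXM
    obtain ⟨k, hk⟩ := Subgroup.card_dvd_of_le hNX
    have h2 : Nat.card X ∣ Nat.card M := Subgroup.card_dvd_of_le hXM
    rw [hk, hidx, mul_comm p] at h2
    have h3 : k ∣ p := Nat.dvd_of_mul_dvd_mul_left hNpos h2
    rcases (Nat.dvd_prime hp).mp h3 with h | h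
    · exfalso
      rw [h, mul_one] at hk
      have : N = X := Subgroup.eq_of_le_of_card_ge hNX hk.le
      exact hm₀N (this ▸ hm₀X)
    · rw [hk, hidx, h, mul_comm]
  have hmX : m ∈ X := hXeq ▸ hm
  rw [hXdef] at hmX
  have hc : QuotientGroup.mk' N m ∈ Subgroup.center (T ⧸ N) := hmX.2
  rw [Subgroup.mem_center_iff] at hc
  have h1 := hc (QuotientGroup.mk' N t)
  rw [← QuotientGroup.eq_one_iff]
  show QuotientGroup.mk' N (m⁻¹ * (t * m * t⁻¹)) = 1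
  rw [map_mul, map_mul, map_mul, map_inv, map_inv, h1]
  group

end Cfsg.Agent.Lib.Helper8_Chain3
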