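import Cfsg.Prelude.Def_RootSubgroups

set_option autoImplicit false
open Cfsg

namespace Cfsg.Agent.Lib.Helper8_RankOne

variable {G : Type*} [Group G]

theorem mem_conjBy (A : Subgroup G) (g y : G) : y ∈ Cfsg.conjBy A g ↔ g⁻¹ * y * g ∈ A := by
  constructor
  · rintro ⟨x, hx, rfl⟩
    have : g⁻¹ * ((MulAut.conj g).toMonoidHom x) * g = x := by
      simp [MulAut.conj_apply]; group
    rw [this]; exact hx
  · intro h
    refine ⟨g⁻¹ * y * g, h, ?_⟩
    simp [MulAut.conj_apply]; group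

theorem conj_mem_conjBy (A : Subgroup G) (g : G) {x : G} (hx : x ∈ A) :
    g * x * g⁻¹ ∈ Cfsg.conjBy A g := ⟨x, hx, by simp [MulAut.conj_apply]⟩

theorem conjBy_conjBy (A : Subgroup G) (h g : G) :
    Cfsg.conjBy (Cfsg.conjBy A h) g = Cfsg.conjBy A (g * h) := by
  ext y
  rw [mem_conjBy, mem_conjBy, mem_conjBy]
  have : h⁻¹ * (g⁻¹ * y * g) * h = (g * h)⁻¹ * y * (g * h) := by group
  rw [this]

theorem conjBy_one (A : Subgroup G) : Cfsg.conjBy A 1 = A := by
  ext y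
  rw [mem_conjBy]; simp

theorem conjBy_inv_conjBy (A : Subgroup G) (g : G) : Cfsg.conjBy (Cfsg.conjBy A g) g⁻¹ = A := by
  rw [conjBy_conjBy, inv_mul_cancel, conjBy_one]

theorem conjBy_conjBy_inv (A : Subgroup G) (g : G) : Cfsg.conjBy (Cfsg.conjBy A g⁻¹) g = A := by
  rw [conjBy_conjBy, mul_inv_cancel, conjBy_one]

theorem conjBy_injective (g : G) {A B : Subgroup G} (h : Cfsg.conjBy A g = Cfsg.conjBy B g) : A = B := by
  rw [← conjBy_inv_conjBy A g, h, conjBy_inv_conjBy]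

theorem conjBy_mono (g : G) {A B : Subgroup G} (h : A ≤ B) : Cfsg.conjBy A g ≤ Cfsg.conjBy B g :=
  Subgroup.map_mono h

theorem conjBy_of_mem_normalizer {A : Subgroup G} {g : G} (hg : g ∈ Subgroup.normalizer (A : Set G)) :
    Cfsg.conjBy A g = A := by
  ext y
  rw [mem_conjBy]
  have := (Subgroup.mem_normalizer_iff.mp (Subgroup.inv_mem _ hg)) y
  rw [inv_inv] at this
  exact this.symm

theorem conjBy_of_mem {A : Subgroup G} {g : G} (hg : g ∈ A) : Cfsg.conjBy A g = A :=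
  conjBy_of_mem_normalizer (Subgroup.le_normalizer hg)

theorem mem_normalizer_of_conjBy_eq {A : Subgroup G} {g : G} (h : Cfsg.conjBy A g = A) :
    g ∈ Subgroup.normalizer (A : Set G) := by
  have key : ∀ y, g⁻¹ * y * g ∈ A ↔ y ∈ A := by
    intro y
    rw [← mem_conjBy, h]
  apply Subgroup.mem_normalizer_iff.mpr
  intro y
  have := key (g * y * g⁻¹)
  have e : g⁻¹ * (g * y * g⁻¹) * g = y := by group
  rw [e] at this
  exact this

theorem mem_normalizer_iff_conjBy_eq {A : Subgroup G} {g : G} :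
    g ∈ Subgroup.normalizer (A : Set G) ↔ Cfsg.conjBy A g = A :=
  ⟨conjBy_of_mem_normalizer, mem_normalizer_of_conjBy_eq⟩

theorem conjBy_le_of_mem {A X : Subgroup G} {g : G} (hA : A ≤ X) (hg : g ∈ X) : Cfsg.conjBy A g ≤ X := by
  intro y hy
  rw [mem_conjBy] at hy
  have : y = g * (g⁻¹ * y * g) * g⁻¹ := by group
  rw [this]
  exact X.mul_mem (X.mul_mem hg (hA hy)) (X.inv_mem hg)

theorem conjBy_inf (A B : Subgroup G) (g : G) :
    Cfsg.conjBy (A ⊓ B) g = Cfsg.conjBy A g ⊓ Cfsg.conjBy B g := by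
  ext y
  simp only [mem_conjBy, Subgroup.mem_inf]

theorem conjBy_bot (g : G) : Cfsg.conjBy (⊥ : Subgroup G) g = ⊥ := by
  ext y
  rw [mem_conjBy, Subgroup.mem_bot, Subgroup.mem_bot]
  constructor
  · intro h
    have : y = g * (g⁻¹ * y * g) * g⁻¹ := by group
    rw [this, h]; group
  · intro h; rw [h]; group

/-! ### Rank one pairs -/

section RankOne

variable {A B : Subgroup G}

/-- No non-identity element of `A` normalizes `B`. -/
theorem norm_left (h : Cfsg.IsRankOnePair A B) {a : G} (ha : a ∈ A)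
    (hn : a ∈ Subgroup.normalizer (B : Set G)) : a = 1 := by
  by_contra ha1
  obtain ⟨b, hb, _, hbe⟩ := h.cond_left a ha ha1
  rw [conjBy_of_mem_normalizer (Subgroup.inv_mem _ hn)] at hbe
  apply h.ne
  have := congrArg (fun C => Cfsg.conjBy C b) hbe
  simp only [conjBy_conjBy_inv, conjBy_of_mem hb] at this
  exact this

theorem norm_right (h : Cfsg.IsRankOnePair A B) {b : G} (hb : b ∈ B)
    (hn : b ∈ Subgroup.normalizer (A : Set G)) : b = 1 :=
  norm_left (Cfsg.RankOnePair_symm h) hb hn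

theorem unique_left (h : Cfsg.IsRankOnePair A B) {a b b' : G} (hb : b ∈ B) (hb' : b' ∈ B)
    (e : Cfsg.conjBy A b⁻¹ = Cfsg.conjBy B a⁻¹) (e' : Cfsg.conjBy A b'⁻¹ = Cfsg.conjBy B a⁻¹) : b = b' := by
  have h1 : Cfsg.conjBy A (b * b'⁻¹) = A := by
    rw [← conjBy_conjBy, e', ← e, conjBy_conjBy_inv]
  have h2 := norm_right h (B.mul_mem hb (B.inv_mem hb')) (mem_normalizer_of_conjBy_eq h1)
  exact mul_inv_eq_one.mp h2

theorem unique_right (h : Cfsg.IsRankOnePair A B) {b a a' : G} (ha : a ∈ A) (ha' : a' ∈ A)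
    (e : Cfsg.conjBy A b⁻¹ = Cfsg.conjBy B a⁻¹) (e' : Cfsg.conjBy A b⁻¹ = Cfsg.conjBy B a'⁻¹) : a = a' :=
  unique_left (Cfsg.RankOnePair_symm h) ha ha' e.symm e'.symm

theorem left_ne_bot (h : Cfsg.IsRankOnePair A B) : A ≠ ⊥ := by
  intro hA
  have hB : B ≠ ⊥ := fun hB => h.ne (hA.trans hB.symm)
  obtain ⟨b, hb1⟩ := (Subgroup.ne_bot_iff_exists_ne_one).mp hB
  obtain ⟨a, ha, ha1, _⟩ := h.cond_right b.1 b.2 (fun e => hb1 (Subtype.ext e))
  rw [hA, Subgroup.mem_bot] at ha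
  exact ha1 ha

theorem right_ne_bot (h : Cfsg.IsRankOnePair A B) : B ≠ ⊥ :=
  left_ne_bot (Cfsg.RankOnePair_symm h)

theorem exists_left_ne_one (h : Cfsg.IsRankOnePair A B) : ∃ a ∈ A, a ≠ 1 := by
  obtain ⟨a, ha1⟩ := (Subgroup.ne_bot_iff_exists_ne_one).mp (left_ne_bot h)
  exact ⟨a.1, a.2, fun e => ha1 (Subtype.ext e)⟩

theorem exists_right_ne_one (h : Cfsg.IsRankOnePair A B) : ∃ b ∈ B, b ≠ 1 :=
  exists_left_ne_one (Cfsg.RankOnePair_symm h)

/-- `B` is a conjugate of `A` under `⟨A, B⟩`. -/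
theorem right_mem_unipotent (h : Cfsg.IsRankOnePair A B) : B ∈ Cfsg.unipotentSubgroups A B := by
  obtain ⟨a, ha, ha1⟩ := exists_left_ne_one h
  obtain ⟨b, hb, _, e⟩ := h.cond_left a ha ha1
  refine ⟨a * b⁻¹, ?_, ?_⟩
  · exact Subgroup.mul_mem _ (Subgroup.mem_sup_left ha) (Subgroup.inv_mem _ (Subgroup.mem_sup_right hb))
  · rw [← conjBy_conjBy, e, conjBy_conjBy_inv]

theorem left_mem_unipotent (A B : Subgroup G) : A ∈ Cfsg.unipotentSubgroups A B :=
  ⟨1, Subgroup.one_mem _, (conjBy_one A).symm⟩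

theorem conjBy_mem_unipotent {C : Subgroup G} (hC : C ∈ Cfsg.unipotentSubgroups A B) {x : G}
    (hx : x ∈ A ⊔ B) : Cfsg.conjBy C x ∈ Cfsg.unipotentSubgroups A B := by
  obtain ⟨y, hy, rfl⟩ := hC
  exact ⟨x * y, Subgroup.mul_mem _ hx hy, conjBy_conjBy A y x⟩

/-- The set `{A} ∪ {a B a⁻¹ | a ∈ A}`. -/
def delta (A B : Subgroup G) : Set (Subgroup G) := {C | C = A ∨ ∃ a ∈ A, C = Cfsg.conjBy B a}

theorem conjBy_left_mem_delta_of_right (h : Cfsg.IsRankOnePair A B) {b : G} (hb : b ∈ B) :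
    Cfsg.conjBy A b ∈ delta A B := by
  by_cases hb1 : b = 1
  · left; rw [hb1, conjBy_one]
  · right
    have hb1' : b⁻¹ ≠ 1 := fun e => hb1 (inv_eq_one.mp e)
    obtain ⟨a, ha, _, e⟩ := h.cond_right b⁻¹ (B.inv_mem hb) hb1'
    rw [inv_inv] at e
    exact ⟨a⁻¹, A.inv_mem ha, e.symm⟩

theorem delta_invariant_left {C : Subgroup G} (hC : C ∈ delta A B) {a : G} (ha : a ∈ A) :
    Cfsg.conjBy C a ∈ delta A B := by
  rcases hC with rfl | ⟨a', ha', rfl⟩
  · left; exact conjBy_of_mem ha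
  · right; exact ⟨a * a', A.mul_mem ha ha', conjBy_conjBy B a' a⟩

theorem delta_invariant_right (h : Cfsg.IsRankOnePair A B) {C : Subgroup G} (hC : C ∈ delta A B)
    {b : G} (hb : b ∈ B) : Cfsg.conjBy C b ∈ delta A B := by
  rcases hC with rfl | ⟨a', ha', rfl⟩
  · exact conjBy_left_mem_delta_of_right h hb
  · by_cases ha1 : a' = 1
    · right
      refine ⟨1, A.one_mem, ?_⟩
      rw [ha1, conjBy_one, conjBy_of_mem hb]
    · have ha1' : a'⁻¹ ≠ 1 := fun e => ha1 (inv_eq_one.mp e)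
      obtain ⟨b', hb', _, e⟩ := h.cond_left a'⁻¹ (A.inv_mem ha') ha1'
      rw [inv_inv] at e
      rw [← e, conjBy_conjBy]
      exact conjBy_left_mem_delta_of_right h (B.mul_mem hb (B.inv_mem hb'))

/-- The set-wise stabilizer of `delta A B` under conjugation, as a subgroup. -/
def deltaStab (A B : Subgroup G) : Subgroup G where
  carrier := {x | ∀ C, Cfsg.conjBy C x ∈ delta A B ↔ C ∈ delta A B}
  one_mem' := by intro C; rw [conjBy_one]
  mul_mem' := by
    intro x y hx hy C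
    rw [← conjBy_conjBy, hx, hy]
  inv_mem' := by
    intro x hx C
    have := hx (Cfsg.conjBy C x⁻¹)
    rw [conjBy_conjBy_inv] at this
    exact this.symm

theorem le_deltaStab_of_forward {T : Subgroup G}
    (hT : ∀ x ∈ T, ∀ C ∈ delta A B, Cfsg.conjBy C x ∈ delta A B) : T ≤ deltaStab A B := by
  intro x hx C
  constructor
  · intro hC
    have := hT x⁻¹ (T.inv_mem hx) _ hC
    rw [conjBy_inv_conjBy] at this
    exact this
  · exact hT x hx C

theorem sup_le_deltaStab (h : Cfsg.IsRankOnePair A B) : A ⊔ B ≤ deltaStab A B := by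
  apply sup_le
  · exact le_deltaStab_of_forward (fun x hx C hC => delta_invariant_left hC hx)
  · exact le_deltaStab_of_forward (fun x hx C hC => delta_invariant_right h hC hx)

/-- The conjugates of `A` under `⟨A, B⟩` are `A` and the conjugates of `B` under `A`. -/
theorem unipotent_cases (h : Cfsg.IsRankOnePair A B) {C : Subgroup G}
    (hC : C ∈ Cfsg.unipotentSubgroups A B) : C = A ∨ ∃ a ∈ A, C = Cfsg.conjBy B a := by
  obtain ⟨x, hx, rfl⟩ := hC
  exact ((sup_le_deltaStab h hx) A).mpr (Or.inl rfl)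

theorem conjBy_right_ne_left (h : Cfsg.IsRankOnePair A B) {a : G} (ha : a ∈ A) :
    Cfsg.conjBy B a ≠ A := by
  intro e
  apply h.ne
  have := congrArg (fun C => Cfsg.conjBy C a⁻¹) e
  simp only [conjBy_inv_conjBy, conjBy_of_mem (A.inv_mem ha)] at this
  exact this.symm

theorem conjBy_right_mem_unipotent (h : Cfsg.IsRankOnePair A B) {a : G} (ha : a ∈ A) :
    Cfsg.conjBy B a ∈ Cfsg.unipotentSubgroups A B :=
  conjBy_mem_unipotent (right_mem_unipotent h) (Subgroup.mem_sup_left ha)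

theorem conjBy_right_injective (h : Cfsg.IsRankOnePair A B) {a a' : G} (ha : a ∈ A) (ha' : a' ∈ A)
    (e : Cfsg.conjBy B a = Cfsg.conjBy B a') : a = a' := by
  have h1 : Cfsg.conjBy B (a'⁻¹ * a) = B := by
    rw [← conjBy_conjBy, e, conjBy_inv_conjBy]
  have h2 := norm_left h (A.mul_mem (A.inv_mem ha') ha) (mem_normalizer_of_conjBy_eq h1)
  have := inv_mul_eq_one.mp h2
  exact this.symm

/-- `A` acts regularly on its conjugates under `⟨A, B⟩` other than itself. -/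
theorem regular (h : Cfsg.IsRankOnePair A B) {C D : Subgroup G}
    (hC : C ∈ Cfsg.unipotentSubgroups A B) (hD : D ∈ Cfsg.unipotentSubgroups A B)
    (hCA : C ≠ A) (hDA : D ≠ A) : ∃! a : G, a ∈ A ∧ Cfsg.conjBy C a = D := by
  rcases unipotent_cases h hC with rfl | ⟨c, hc, rfl⟩
  · exact absurd rfl hCA
  rcases unipotent_cases h hD with rfl | ⟨d, hd, rfl⟩
  · exact absurd rfl hDA
  refine ⟨d * c⁻¹, ⟨A.mul_mem hd (A.inv_mem hc), ?_⟩, ?_⟩
  · rw [conjBy_conjBy, inv_mul_cancel_right]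
  · rintro a ⟨ha, e⟩
    rw [conjBy_conjBy] at e
    have := conjBy_right_injective h (A.mul_mem ha hc) hd e
    rw [← this, mul_inv_cancel_right]

/-- At least three conjugates. -/
theorem three (h : Cfsg.IsRankOnePair A B) :
    ∃ C₁ ∈ Cfsg.unipotentSubgroups A B, ∃ C₂ ∈ Cfsg.unipotentSubgroups A B,
      ∃ C₃ ∈ Cfsg.unipotentSubgroups A B, C₁ ≠ C₂ ∧ C₁ ≠ C₃ ∧ C₂ ≠ C₃ := by
  obtain ⟨a, ha, ha1⟩ := exists_left_ne_one h
  refine ⟨A, left_mem_unipotent A B, B, right_mem_unipotent h, Cfsg.conjBy B a,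
    conjBy_right_mem_unipotent h ha, h.ne, (conjBy_right_ne_left h ha).symm, ?_⟩
  intro e
  apply ha1
  have : Cfsg.conjBy B 1 = Cfsg.conjBy B a := by rw [conjBy_one]; exact e
  exact (conjBy_right_injective h A.one_mem ha this).symm

/-- Any ordered pair of distinct conjugates can be moved to `(A, B)`. -/
theorem move_to_base (h : Cfsg.IsRankOnePair A B) {C₁ C₂ : Subgroup G}
    (h1 : C₁ ∈ Cfsg.unipotentSubgroups A B) (h2 : C₂ ∈ Cfsg.unipotentSubgroups A B) (hne : C₁ ≠ C₂) :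
    ∃ x ∈ A ⊔ B, Cfsg.conjBy C₁ x = A ∧ Cfsg.conjBy C₂ x = B := by
  obtain ⟨x₁, hx₁, rfl⟩ := h1
  have hx₁' : x₁⁻¹ ∈ A ⊔ B := Subgroup.inv_mem _ hx₁
  have h2' : Cfsg.conjBy C₂ x₁⁻¹ ∈ Cfsg.unipotentSubgroups A B := conjBy_mem_unipotent h2 hx₁'
  rcases unipotent_cases h h2' with e | ⟨a, ha, e⟩
  · exfalso
    apply hne
    have := congrArg (fun C => Cfsg.conjBy C x₁) e
    simp only [conjBy_conjBy_inv] at this
    exact this.symm
  · refine ⟨a⁻¹ * x₁⁻¹, Subgroup.mul_mem _ (Subgroup.inv_mem _ (Subgroup.mem_sup_left ha)) hx₁', ?_, ?_⟩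
    · rw [conjBy_conjBy, mul_assoc, inv_mul_cancel, mul_one, conjBy_of_mem (A.inv_mem ha)]
    · rw [← conjBy_conjBy, e, conjBy_inv_conjBy]

/-- `⟨A, B⟩` is doubly transitive on the conjugates of `A`. -/
theorem doubly_transitive (h : Cfsg.IsRankOnePair A B) {C₁ C₂ D₁ D₂ : Subgroup G}
    (hC₁ : C₁ ∈ Cfsg.unipotentSubgroups A B) (hC₂ : C₂ ∈ Cfsg.unipotentSubgroups A B)
    (hD₁ : D₁ ∈ Cfsg.unipotentSubgroups A B) (hD₂ : D₂ ∈ Cfsg.unipotentSubgroups A B)
    (hC : C₁ ≠ C₂) (hD : D₁ ≠ D₂) :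
    ∃ x ∈ A ⊔ B, Cfsg.conjBy C₁ x = D₁ ∧ Cfsg.conjBy C₂ x = D₂ := by
  obtain ⟨x, hx, ex1, ex2⟩ := move_to_base h hC₁ hC₂ hC
  obtain ⟨y, hy, ey1, ey2⟩ := move_to_base h hD₁ hD₂ hD
  refine ⟨y⁻¹ * x, Subgroup.mul_mem _ (Subgroup.inv_mem _ hy) hx, ?_, ?_⟩
  · rw [← conjBy_conjBy, ex1, ← ey1, conjBy_inv_conjBy]
  · rw [← conjBy_conjBy, ex2, ← ey2, conjBy_inv_conjBy]

theorem mem_center_of_commute_gens (htop : A ⊔ B = ⊤) {n : G} (hA : ∀ a ∈ A, a * n = n * a)
    (hB : ∀ b ∈ B, b * n = n * b) : n ∈ Subgroup.center G := by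
  have h1 : A ⊔ B ≤ Subgroup.centralizer ({n} : Set G) := by
    apply sup_le
    · intro a ha
      rw [Subgroup.mem_centralizer_iff]
      intro x hx
      rw [Set.mem_singleton_iff] at hx
      rw [hx]; exact (hA a ha).symm
    · intro b hb
      rw [Subgroup.mem_centralizer_iff]
      intro x hx
      rw [Set.mem_singleton_iff] at hx
      rw [hx]; exact (hB b hb).symm
  rw [htop] at h1
  rw [Subgroup.mem_center_iff]
  intro g
  have := h1 (Subgroup.mem_top g)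
  rw [Subgroup.mem_centralizer_iff] at this
  exact (this n rfl).symm

/-- A normal subgroup of a rank one group `X = ⟨A, B⟩` either satisfies `X = N A` or is central. -/
theorem normal_cases (h : Cfsg.IsRankOnePair A B) (htop : A ⊔ B = ⊤) (N : Subgroup G) (hN : N.Normal) :
    N ⊔ A = ⊤ ∨ N ≤ Subgroup.center G := by
  by_cases hcase : N ≤ Subgroup.normalizer (A : Set G)
  · right
    -- N normalizes every conjugate of A
    have hconj : ∀ x : G, N ≤ Subgroup.normalizer ((Cfsg.conjBy A x : Subgroup G) : Set G) := by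
      intro x n hn
      apply mem_normalizer_of_conjBy_eq
      have h1 : x⁻¹ * n * x ∈ N := by
        have := hN.conj_mem n hn x⁻¹
        rwa [inv_inv] at this
      have h2 := conjBy_of_mem_normalizer (hcase h1)
      rw [conjBy_conjBy]
      have : n * x = x * (x⁻¹ * n * x) := by group
      rw [this, ← conjBy_conjBy, h2]
    have hNB : N ≤ Subgroup.normalizer (B : Set G) := by
      obtain ⟨x, _, hx⟩ := right_mem_unipotent h
      rw [hx]; exact hconj x
    intro n hn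
    apply mem_center_of_commute_gens htop
    · intro a ha
      -- [n, a] ∈ A ∩ N ≤ N_A(B) = 1
      have h1 : n * a * n⁻¹ * a⁻¹ ∈ A := by
        have : n * a * n⁻¹ ∈ A := (Subgroup.mem_normalizer_iff.mp (hcase hn) a).mp ha
        exact A.mul_mem this (A.inv_mem ha)
      have h2 : n * a * n⁻¹ * a⁻¹ ∈ N := by
        have : a * n⁻¹ * a⁻¹ ∈ N := hN.conj_mem _ (N.inv_mem hn) a
        have e : n * a * n⁻¹ * a⁻¹ = n * (a * n⁻¹ * a⁻¹) := by group
        rw [e]; exact N.mul_mem hn this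
      have h3 := norm_left h h1 (hNB h2)
      have : n * a = (n * a * n⁻¹ * a⁻¹) * (a * n) := by group
      rw [this, h3, one_mul]
    · intro b hb
      have h1 : n * b * n⁻¹ * b⁻¹ ∈ B := by
        have : n * b * n⁻¹ ∈ B := (Subgroup.mem_normalizer_iff.mp (hNB hn) b).mp hb
        exact B.mul_mem this (B.inv_mem hb)
      have h2 : n * b * n⁻¹ * b⁻¹ ∈ N := by
        have : b * n⁻¹ * b⁻¹ ∈ N := hN.conj_mem _ (N.inv_mem hn) b
        have e : n * b * n⁻¹ * b⁻¹ = n * (b * n⁻¹ * b⁻¹) := by group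
        rw [e]; exact N.mul_mem hn this
      have h3 := norm_right h h1 (hcase h2)
      have : n * b = (n * b * n⁻¹ * b⁻¹) * (b * n) := by group
      rw [this, h3, one_mul]
  · left
    obtain ⟨n, hn, hnA⟩ := SetLike.not_le_iff_exists.mp hcase
    have hC : Cfsg.conjBy A n ∈ Cfsg.unipotentSubgroups A B :=
      ⟨n, by rw [htop]; exact Subgroup.mem_top n, rfl⟩
    rcases unipotent_cases h hC with e | ⟨a, ha, e⟩
    · exact absurd (mem_normalizer_of_conjBy_eq e) hnA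
    · -- B = conjBy A (a⁻¹ n)
      have hB : B = Cfsg.conjBy A (a⁻¹ * n) := by
        rw [← conjBy_conjBy, e, conjBy_inv_conjBy]
      have hle : B ≤ N ⊔ A := by
        rw [hB]
        apply conjBy_le_of_mem le_sup_right
        exact Subgroup.mul_mem _ (Subgroup.inv_mem _ (Subgroup.mem_sup_right ha)) (Subgroup.mem_sup_left hn)
      rw [eq_top_iff, ← htop]
      exact sup_le le_sup_right hle

/-- Elements of the second centre of a rank one group centralize `A`. -/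
theorem second_centre_commute (h : Cfsg.IsRankOnePair A B) (htop : A ⊔ B = ⊤) {y : G}
    (hy : ∀ x : G, y * x * y⁻¹ * x⁻¹ ∈ Subgroup.center G) : ∀ a ∈ A, y * a = a * y := by
  -- first: y normalizes A
  have hyA : Cfsg.conjBy A y = A := by
    by_contra hne
    obtain ⟨a, ha, ha1⟩ := exists_left_ne_one h
    have hC : Cfsg.conjBy A y ∈ Cfsg.unipotentSubgroups A B :=
      ⟨y, by rw [htop]; exact Subgroup.mem_top y, rfl⟩
    obtain ⟨x, _, ex1, ex2⟩ := move_to_base h hC (left_mem_unipotent A B) hne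
    -- w = y a y⁻¹ ∈ conjBy A y, normalizes A
    have hw1 : y * a * y⁻¹ ∈ Cfsg.conjBy A y := conj_mem_conjBy A y ha
    have hw2 : y * a * y⁻¹ ∈ Subgroup.normalizer (A : Set G) := by
      have hz := hy a
      have : y * a * y⁻¹ = (y * a * y⁻¹ * a⁻¹) * a := by group
      rw [this]
      apply Subgroup.mul_mem _ _ (Subgroup.le_normalizer ha)
      exact Subgroup.center_le_normalizer _ hz
    have hv1 : x * (y * a * y⁻¹) * x⁻¹ ∈ A := by
      rw [← ex1]; exact conj_mem_conjBy _ x hw1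
    have hv2 : x * (y * a * y⁻¹) * x⁻¹ ∈ Subgroup.normalizer (B : Set G) := by
      apply mem_normalizer_of_conjBy_eq
      have e1 : Cfsg.conjBy A (y * a * y⁻¹) = A := conjBy_of_mem_normalizer hw2
      calc Cfsg.conjBy B (x * (y * a * y⁻¹) * x⁻¹)
          = Cfsg.conjBy (Cfsg.conjBy A x) (x * (y * a * y⁻¹) * x⁻¹) := by rw [ex2]
        _ = Cfsg.conjBy A (x * (y * a * y⁻¹)) := by
            rw [conjBy_conjBy]; congr 1; group
        _ = Cfsg.conjBy (Cfsg.conjBy A (y * a * y⁻¹)) x := by rw [conjBy_conjBy]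
        _ = B := by rw [e1, ex2]
    have hv3 := norm_left h hv1 hv2
    apply ha1
    have : a = y⁻¹ * x⁻¹ * (x * (y * a * y⁻¹) * x⁻¹) * x * y := by group
    rw [this, hv3]; group
  intro a ha
  have hz := hy a
  have hzA : y * a * y⁻¹ * a⁻¹ ∈ A := by
    have : y * a * y⁻¹ ∈ A := by
      rw [← hyA]; exact conj_mem_conjBy A y ha
    exact A.mul_mem this (A.inv_mem ha)
  have hz1 := norm_left h hzA (Subgroup.center_le_normalizer _ hz)
  have : y * a = (y * a * y⁻¹ * a⁻¹) * (a * y) := by group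
  rw [this, hz1, one_mul]

theorem comm_of_isMulCommutative {A : Subgroup G} (hA : IsMulCommutative A) {x y : G} (hx : x ∈ A)
    (hy : y ∈ A) : x * y = y * x :=
  congrArg Subtype.val (hA.is_comm.comm ⟨x, hx⟩ ⟨y, hy⟩)

theorem inf_eq_one (h : Cfsg.IsRankOnePair A B) {x : G} (hxA : x ∈ A) (hxB : x ∈ B) : x = 1 :=
  norm_left h hxA (Subgroup.le_normalizer hxB)

/-- An element of `A` centralizing `B` is trivial. -/
theorem eq_one_of_centralizes (h : Cfsg.IsRankOnePair A B) {x : G} (hxA : x ∈ A)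
    (hc : ∀ b ∈ B, x * b = b * x) : x = 1 := by
  apply norm_left h hxA
  apply Subgroup.centralizer_le_normalizer
  rw [Subgroup.mem_centralizer_iff]
  intro b hb
  exact (hc b hb).symm

/-- If `w` commutes with `A` and lies in a conjugate `d A d⁻¹` of `A` by a non-identity `d ∈ B`, then `w ∈ B`. -/
theorem mem_right_of_mem_conj (h : Cfsg.IsRankOnePair A B) {w d : G} (hw : ∀ a ∈ A, w * a = a * w)
    (hd : d ∈ B) (hd1 : d ≠ 1) (hwd : w ∈ Cfsg.conjBy A d) : w ∈ B := by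
  have hd1' : d⁻¹ ≠ 1 := fun e => hd1 (inv_eq_one.mp e)
  obtain ⟨a, ha, _, e⟩ := h.cond_right d⁻¹ (B.inv_mem hd) hd1'
  rw [inv_inv] at e
  rw [← e, mem_conjBy, inv_inv] at hwd
  have : a * w * a⁻¹ = w := by
    rw [← hw a ha]; group
  rwa [this] at hwd

/-- If `x ∈ A` and every conjugate `x c x⁻¹` (`c ∈ B`) commutes with `B` (`B` abelian), then `x = 1`. -/
theorem eq_one_of_conj_commutes (h : Cfsg.IsRankOnePair A B) (hB : IsMulCommutative B) {x : G}
    (hxA : x ∈ A) (hc : ∀ c ∈ B, ∀ c' ∈ B, (x * c * x⁻¹) * c' = c' * (x * c * x⁻¹)) : x = 1 := by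
  by_contra hx1
  have hx1' : x⁻¹ ≠ 1 := fun e => hx1 (inv_eq_one.mp e)
  obtain ⟨c₀, hc₀, _, e⟩ := h.cond_left x⁻¹ (A.inv_mem hxA) hx1'
  rw [inv_inv] at e
  have h1 : c₀⁻¹ * x * c₀ ∈ Cfsg.conjBy B x := by
    rw [← e]
    have := conj_mem_conjBy A c₀⁻¹ hxA
    rwa [inv_inv] at this
  rw [mem_conjBy] at h1
  -- c₀⁻¹ x c₀ = x c x⁻¹ with c ∈ B
  have h2 : ∀ c' ∈ B, (c₀⁻¹ * x * c₀) * c' = c' * (c₀⁻¹ * x * c₀) := by
    intro c' hc'
    have := hc _ h1 c' hc'
    have e2 : x * (x⁻¹ * (c₀⁻¹ * x * c₀) * x) * x⁻¹ = c₀⁻¹ * x * c₀ := by group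
    rwa [e2] at this
  apply hx1
  apply eq_one_of_centralizes h hxA
  intro b hb
  have hbc : c₀ * b = b * c₀ := comm_of_isMulCommutative hB hc₀ hb
  have hbc' : c₀⁻¹ * b = b * c₀⁻¹ := comm_of_isMulCommutative hB (B.inv_mem hc₀) hb
  have h3 := h2 b hb
  calc x * b = c₀ * ((c₀⁻¹ * x * c₀) * b) * c₀⁻¹ * (c₀ * b⁻¹ * (c₀⁻¹ * b)) := by group
    _ = c₀ * (b * (c₀⁻¹ * x * c₀)) * c₀⁻¹ * (c₀ * b⁻¹ * (c₀⁻¹ * b)) := by rw [h3]
    _ = (c₀ * b) * c₀⁻¹ * x * (c₀ * b⁻¹ * (c₀⁻¹ * b)) := by group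
    _ = (b * c₀) * c₀⁻¹ * x * (c₀ * b⁻¹ * (b * c₀⁻¹)) := by rw [hbc, hbc']
    _ = b * x := by group

/-- In a rank one pair with `B` abelian, non-identity elements of `A` and `B` never commute. -/
theorem not_commute (h : Cfsg.IsRankOnePair A B) (hB : IsMulCommutative B) {a b : G} (ha : a ∈ A)
    (ha1 : a ≠ 1) (hb : b ∈ B) (hb1 : b ≠ 1) : a * b ≠ b * a := by
  intro hab
  obtain ⟨b', hb', _, e⟩ := h.cond_left a ha ha1
  have h1 : b ∈ Cfsg.conjBy B a⁻¹ := by
    rw [mem_conjBy, inv_inv]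
    have : a * b * a⁻¹ = b := by rw [hab]; group
    rw [this]; exact hb
  rw [← e, mem_conjBy, inv_inv] at h1
  have h2 : b' * b * b'⁻¹ = b := by
    rw [comm_of_isMulCommutative hB hb' hb]; group
  rw [h2] at h1
  exact hb1 (inf_eq_one h h1 hb)

theorem conjBy_sup (A B : Subgroup G) (g : G) :
    Cfsg.conjBy (A ⊔ B) g = Cfsg.conjBy A g ⊔ Cfsg.conjBy B g :=
  Subgroup.map_sup A B _

theorem conjBy_ne_one {x g : G} (hx : x ≠ 1) : g * x * g⁻¹ ≠ 1 := by
  intro e
  apply hx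
  have : x = g⁻¹ * (g * x * g⁻¹) * g := by group
  rw [this, e]; group

/-- Rank one pairs are preserved by conjugation. -/
theorem rankOnePair_conj (h : Cfsg.IsRankOnePair A B) (g : G) :
    Cfsg.IsRankOnePair (Cfsg.conjBy A g) (Cfsg.conjBy B g) := by
  have key : ∀ {A B : Subgroup G}, Cfsg.RankOneCondition A B →
      Cfsg.RankOneCondition (Cfsg.conjBy A g) (Cfsg.conjBy B g) := by
    intro A B hc a' ha' ha'1
    rw [mem_conjBy] at ha'
    have ha1 : g⁻¹ * a' * g ≠ 1 := by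
      have := conjBy_ne_one (g := g⁻¹) ha'1
      rwa [inv_inv] at this
    obtain ⟨b, hb, hb1, e⟩ := hc _ ha' ha1
    refine ⟨g * b * g⁻¹, conj_mem_conjBy B g hb, conjBy_ne_one hb1, ?_⟩
    rw [conjBy_conjBy, conjBy_conjBy]
    have e1 : (g * b * g⁻¹)⁻¹ * g = g * b⁻¹ := by group
    have e2 : a'⁻¹ * g = g * (g⁻¹ * a' * g)⁻¹ := by group
    rw [e1, e2, ← conjBy_conjBy, ← conjBy_conjBy, e]
  refine ⟨?_, ?_, ?_, key h.cond_left, key h.cond_right⟩
  · intro e
    exact h.ne (conjBy_injective g e)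
  · haveI := h.nilpotent_left
    exact Group.nilpotent_of_surjective _ (MonoidHom.subgroupMap_surjective (MulAut.conj g).toMonoidHom A)
  · haveI := h.nilpotent_right
    exact Group.nilpotent_of_surjective _ (MonoidHom.subgroupMap_surjective (MulAut.conj g).toMonoidHom B)

/-- Two distinct conjugates of `A` under `⟨A, B⟩` form a rank one pair. -/
theorem rankOnePair_of_mem_unipotent (h : Cfsg.IsRankOnePair A B) {E₁ E₂ : Subgroup G}
    (h1 : E₁ ∈ Cfsg.unipotentSubgroups A B) (h2 : E₂ ∈ Cfsg.unipotentSubgroups A B) (hne : E₁ ≠ E₂) :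
    Cfsg.IsRankOnePair E₁ E₂ := by
  obtain ⟨x, _, e1, e2⟩ := move_to_base h h1 h2 hne
  have := rankOnePair_conj h x⁻¹
  rw [← e1, ← e2, conjBy_inv_conjBy, conjBy_inv_conjBy] at this
  exact this

theorem not_centralizes (h : Cfsg.IsRankOnePair A B) : ¬ (∀ a ∈ A, ∀ b ∈ B, a * b = b * a) := by
  intro hc
  obtain ⟨a, ha, ha1⟩ := exists_left_ne_one h
  exact ha1 (eq_one_of_centralizes h ha (hc a ha))

/-- An element normalizing every conjugate of `A` under `⟨A, B⟩` centralizes `⟨A, B⟩`. -/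
theorem commutes_of_normalizes_all (h : Cfsg.IsRankOnePair A B) {y : G}
    (hy : ∀ E ∈ Cfsg.unipotentSubgroups A B, Cfsg.conjBy E y = E) : ∀ x ∈ A ⊔ B, y * x = x * y := by
  have hyinv : ∀ E ∈ Cfsg.unipotentSubgroups A B, Cfsg.conjBy E y⁻¹ = E := by
    intro E hE
    have := hy E hE
    rw [← this, conjBy_inv_conjBy, this]
  have hA : ∀ a ∈ A, y * a = a * y := by
    intro a ha
    have h1 : y * a * y⁻¹ * a⁻¹ ∈ A := by
      have : y * a * y⁻¹ ∈ A := by
        rw [← hy A (left_mem_unipotent A B)]; exact conj_mem_conjBy A y ha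
      exact A.mul_mem this (A.inv_mem ha)
    have h2 : y * a * y⁻¹ * a⁻¹ ∈ Subgroup.normalizer (B : Set G) := by
      apply mem_normalizer_of_conjBy_eq
      have e : y * a * y⁻¹ * a⁻¹ = y * (a * (y⁻¹ * a⁻¹)) := by group
      rw [e, ← conjBy_conjBy, ← conjBy_conjBy, ← conjBy_conjBy]
      have hB1 : Cfsg.conjBy B a⁻¹ ∈ Cfsg.unipotentSubgroups A B :=
        conjBy_right_mem_unipotent h (A.inv_mem ha)
      rw [hyinv _ hB1, conjBy_conjBy_inv, hy B (right_mem_unipotent h)]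
    have h3 := norm_left h h1 h2
    have : y * a = (y * a * y⁻¹ * a⁻¹) * (a * y) := by group
    rw [this, h3, one_mul]
  have hB : ∀ b ∈ B, y * b = b * y := by
    intro b hb
    have h1 : y * b * y⁻¹ * b⁻¹ ∈ B := by
      have : y * b * y⁻¹ ∈ B := by
        rw [← hy B (right_mem_unipotent h)]; exact conj_mem_conjBy B y hb
      exact B.mul_mem this (B.inv_mem hb)
    have h2 : y * b * y⁻¹ * b⁻¹ ∈ Subgroup.normalizer (A : Set G) := by
      apply mem_normalizer_of_conjBy_eq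
      have e : y * b * y⁻¹ * b⁻¹ = y * (b * (y⁻¹ * b⁻¹)) := by group
      rw [e, ← conjBy_conjBy, ← conjBy_conjBy, ← conjBy_conjBy]
      have hA1 : Cfsg.conjBy A b⁻¹ ∈ Cfsg.unipotentSubgroups A B :=
        conjBy_mem_unipotent (left_mem_unipotent A B) (Subgroup.mem_sup_right (B.inv_mem hb))
      rw [hyinv _ hA1, conjBy_conjBy_inv, hy A (left_mem_unipotent A B)]
    have h3 := norm_right h h1 h2
    have : y * b = (y * b * y⁻¹ * b⁻¹) * (b * y) := by group
    rw [this, h3, one_mul]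
  have hle : A ⊔ B ≤ Subgroup.centralizer ({y} : Set G) := by
    apply sup_le
    · intro a ha
      rw [Subgroup.mem_centralizer_iff]
      intro x hx
      rw [Set.mem_singleton_iff] at hx
      rw [hx]; exact hA a ha
    · intro b hb
      rw [Subgroup.mem_centralizer_iff]
      intro x hx
      rw [Set.mem_singleton_iff] at hx
      rw [hx]; exact hB b hb
  intro x hx
  have := hle hx
  rw [Subgroup.mem_centralizer_iff] at this
  exact this y rfl

end RankOne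

end Cfsg.Agent.Lib.Helper8_RankOne
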