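import Mathlib
import Cfsg.Prelude.Def_RootSubgroups
import Cfsg.Agent.Lib.Helper8_RankOne

set_option autoImplicit false
set_option linter.unusedVariables false
set_option linter.unusedSimpArgs false
open Cfsg

/-!
# Rank one groups acting on abelian groups with quadratically acting unipotent subgroups
-/

namespace Cfsg.Agent.Lib.Helper8_RankOneModule

open Cfsg.Agent.Lib.Helper8_RankOne

variable {X : Type*} [Group X]

/-- The commutator `[V, A]`. -/
def comm (V : Type*) [AddCommGroup V] [DistribMulAction X V] (A : Subgroup X) : AddSubgroup V :=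
  AddSubgroup.closure {w | ∃ a ∈ A, ∃ v : V, w = a • v - v}

/-- The fixed points `C_V(A)`. -/
def fix (V : Type*) [AddCommGroup V] [DistribMulAction X V] (A : Subgroup X) : AddSubgroup V where
  carrier := {v | ∀ a ∈ A, a • v = v}
  zero_mem' := by intro a _; exact smul_zero a
  add_mem' := by
    intro v w hv hw a ha
    rw [smul_add, hv a ha, hw a ha]
  neg_mem' := by
    intro v hv a ha
    rw [smul_neg, hv a ha]

/-- `A` acts quadratically on `V`. -/
def Quad (V : Type*) [AddCommGroup V] [DistribMulAction X V] (A : Subgroup X) : Prop :=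
  ∀ a ∈ A, ∀ a' ∈ A, ∀ v : V, a' • (a • v - v) = a • v - v

variable {V : Type*} [AddCommGroup V] [DistribMulAction X V] {A B : Subgroup X}

theorem mem_fix {v : V} : v ∈ fix V A ↔ ∀ a ∈ A, a • v = v := Iff.rfl

theorem gen_mem_comm {a : X} (ha : a ∈ A) (v : V) : a • v - v ∈ comm V A :=
  AddSubgroup.subset_closure ⟨a, ha, v, rfl⟩

theorem comm_le_fix (hq : Quad V A) : comm V A ≤ fix V A := by
  unfold comm
  rw [AddSubgroup.closure_le]
  rintro w ⟨a, ha, v, rfl⟩
  intro a' ha'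
  exact hq a ha a' ha' v

theorem fix_mono {A B : Subgroup X} (h : A ≤ B) : fix V B ≤ fix V A := by
  intro v hv a ha
  exact hv a (h ha)

theorem smul_mem_comm (g : X) {w : V} (hw : w ∈ comm V A) : g • w ∈ comm V (Cfsg.conjBy A g) := by
  unfold comm at hw
  induction hw using AddSubgroup.closure_induction with
  | mem x hx =>
    obtain ⟨a, ha, v, rfl⟩ := hx
    have : g • (a • v - v) = (g * a * g⁻¹) • (g • v) - g • v := by
      rw [smul_sub, mul_smul, mul_smul, inv_smul_smul]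
    rw [this]
    exact gen_mem_comm (conj_mem_conjBy A g ha) _
  | zero => rw [smul_zero]; exact zero_mem _
  | add x y _ _ hx hy => rw [smul_add]; exact add_mem hx hy
  | neg x _ hx => rw [smul_neg]; exact neg_mem hx

theorem smul_mem_fix (g : X) {w : V} (hw : w ∈ fix V A) : g • w ∈ fix V (Cfsg.conjBy A g) := by
  intro y hy
  rw [mem_conjBy] at hy
  have := hw _ hy
  rw [mul_smul, mul_smul] at this
  have h2 := congrArg (fun z => g • z) this
  simp only [smul_inv_smul] at h2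
  exact h2

theorem quad_conj (hq : Quad V A) (g : X) : Quad V (Cfsg.conjBy A g) := by
  intro y hy y' hy' v
  rw [mem_conjBy] at hy hy'
  have h1 := hq _ hy _ hy' (g⁻¹ • v)
  have e1 : y • v - v = g • ((g⁻¹ * y * g) • (g⁻¹ • v) - g⁻¹ • v) := by
    simp only [smul_sub, mul_smul, smul_inv_smul]
  rw [e1]
  have e2 : y' • g • ((g⁻¹ * y * g) • (g⁻¹ • v) - g⁻¹ • v)
      = g • ((g⁻¹ * y' * g) • ((g⁻¹ * y * g) • (g⁻¹ • v) - g⁻¹ • v)) := by
    rw [mul_smul (g⁻¹ * y') g, mul_smul g⁻¹ y', smul_inv_smul]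
  rw [e2, h1]

theorem fix_inf_le_fix_sup : fix V A ⊓ fix V B ≤ fix V (A ⊔ B) := by
  intro v hv
  have hA : A ≤ MulAction.stabilizer X v := fun a ha => hv.1 a ha
  have hB : B ≤ MulAction.stabilizer X v := fun b hb => hv.2 b hb
  intro x hx
  exact (sup_le hA hB) hx

/-- The inverse of a quadratically acting element. -/
theorem inv_smul_sub {a : X} {v : V} (h : a • (a • v - v) = a • v - v) :
    a⁻¹ • v - v = -(a • v - v) := by
  have h1 : a⁻¹ • (a • v - v) = a • v - v := by
    conv_lhs => rw [← h]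
    rw [inv_smul_smul]
  rw [smul_sub, inv_smul_smul] at h1
  have : a⁻¹ • v - v = -(v - a⁻¹ • v) := by abel
  rw [this, h1]

theorem pow_smul_quad {a : X} {v : V} (h : a • (a • v - v) = a • v - v) (k : ℕ) :
    (a ^ k) • v = v + k • (a • v - v) := by
  induction k with
  | zero => simp
  | succ k ih =>
    rw [pow_succ', mul_smul, ih, smul_add, smul_comm a k, h]
    have : a • v = v + (a • v - v) := by abel
    rw [this, succ_nsmul]
    abel

/-- The key identity for a quadratic action of a rank one pair. -/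
theorem key (hA : Quad V A) (hB : Quad V B) {a b : X} (ha : a ∈ A) (hb : b ∈ B)
    (e : Cfsg.conjBy A b⁻¹ = Cfsg.conjBy B a⁻¹) {w : V} (hw : w ∈ comm V B) :
    w + (b • (a⁻¹ • w - w) - (a⁻¹ • w - w)) ∈ comm V A ⊓ comm V B := by
  have h1 : a⁻¹ • w ∈ comm V (Cfsg.conjBy A b⁻¹) := by
    rw [e]; exact smul_mem_comm a⁻¹ hw
  have h2 : b • (a⁻¹ • w) ∈ comm V A := by
    have := smul_mem_comm b h1
    rwa [conjBy_conjBy_inv] at this
  have hu : a⁻¹ • w - w ∈ comm V A := gen_mem_comm (A.inv_mem ha) w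
  have hbw : b • w = w := comm_le_fix hB hw b hb
  have e1 : b • (a⁻¹ • w) = w + b • (a⁻¹ • w - w) := by
    rw [smul_sub, hbw]; abel
  refine AddSubgroup.mem_inf.mpr ⟨?_, ?_⟩
  · have : w + (b • (a⁻¹ • w - w) - (a⁻¹ • w - w)) = b • (a⁻¹ • w) - (a⁻¹ • w - w) := by
      rw [e1]; abel
    rw [this]
    exact sub_mem h2 hu
  · exact add_mem hw (gen_mem_comm hb _)

theorem comm_inf_le_fix_sup (hA : Quad V A) (hB : Quad V B) :
    comm V A ⊓ comm V B ≤ fix V (A ⊔ B) :=
  le_trans (inf_le_inf (comm_le_fix hA) (comm_le_fix hB)) fix_inf_le_fix_sup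

/-- If some non-identity element of `A` acts trivially modulo the fixed points of `⟨A, B⟩`, then
`[V, B]` is fixed by `⟨A, B⟩`. -/
theorem comm_right_le_fix (h : Cfsg.IsRankOnePair A B) (hA : Quad V A) (hB : Quad V B) {g : X}
    (hg : g ∈ A) (hg1 : g ≠ 1) (hfix : ∀ v : V, g • v - v ∈ fix V (A ⊔ B)) :
    comm V B ≤ fix V (A ⊔ B) := by
  obtain ⟨d, hd, hd1, e⟩ := h.cond_left g hg hg1
  intro w hw
  have hk := key hA hB hg hd e hw
  have hu : g⁻¹ • w - w ∈ fix V (A ⊔ B) := by
    have := hfix (g⁻¹ • w)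
    rw [smul_inv_smul] at this
    have h2 := neg_mem this
    rwa [neg_sub] at h2
  have hdu : d • (g⁻¹ • w - w) = g⁻¹ • w - w := hu d (Subgroup.mem_sup_right hd)
  rw [hdu, sub_self, add_zero] at hk
  exact comm_inf_le_fix_sup hA hB hk

theorem comm_left_le_fix_of_right (h : Cfsg.IsRankOnePair A B)
    (hB : comm V B ≤ fix V (A ⊔ B)) : comm V A ≤ fix V (A ⊔ B) := by
  obtain ⟨y, hy, e⟩ := right_mem_unipotent (Cfsg.RankOnePair_symm h)
  have hy' : y ∈ A ⊔ B := by rwa [sup_comm] at hy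
  intro w hw
  have h1 : y⁻¹ • w ∈ comm V B := by
    have : w ∈ comm V (Cfsg.conjBy B y) := by rw [← e]; exact hw
    have := smul_mem_comm y⁻¹ this
    rwa [conjBy_inv_conjBy] at this
  have h2 := hB h1
  have h3 := h2 y hy'
  rw [smul_inv_smul] at h3
  rw [h3]
  exact h2

/-- If `[V, A]` and `[V, B]` are fixed by `⟨A, B⟩` then `⟨A, B⟩` acts quadratically. -/
theorem all_quadratic (hA : comm V A ≤ fix V (A ⊔ B)) (hB : comm V B ≤ fix V (A ⊔ B)) :
    ∀ x ∈ A ⊔ B, ∀ n : V, x • n - n ∈ fix V (A ⊔ B) := by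
  let T : Subgroup X :=
    { carrier := {x | ∀ n : V, x • n - n ∈ fix V (A ⊔ B)}
      one_mem' := by
        intro n
        rw [one_smul, sub_self]; exact zero_mem _
      mul_mem' := by
        intro x y hx hy n
        have e : (x * y) • n - n = (x • (y • n) - y • n) + (y • n - n) := by
          rw [mul_smul]; abel
        rw [e]
        exact add_mem (hx _) (hy n)
      inv_mem' := by
        intro x hx n
        have := hx (x⁻¹ • n)
        rw [smul_inv_smul] at this
        have h2 := neg_mem this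
        rwa [neg_sub] at h2 }
  have hAT : A ≤ T := fun a ha n => hA (gen_mem_comm ha n)
  have hBT : B ≤ T := fun b hb n => hB (gen_mem_comm hb n)
  intro x hx
  exact (sup_le hAT hBT) hx


/-- A rank one pair acting on an abelian group with `A` quadratic but `⟨A, B⟩` not quadratic is
special. -/
theorem special_of_quad (hp : Cfsg.IsRankOnePair A B) (hq : Quad V A)
    (hX : ∃ x ∈ A ⊔ B, ∃ y ∈ A ⊔ B, ∃ n : V, y • (x • n - n) ≠ x • n - n) :
    Cfsg.IsSpecialRankOnePair A B := by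
  classical
  have hqA : Quad V A := hq
  obtain ⟨x0, hx0, eB⟩ := right_mem_unipotent hp
  have hqB : Quad V B := by
    rw [eB]; exact quad_conj hqA x0
  refine ⟨hp, ?_⟩
  intro a ha ha1 b hb hb1 e
  have hZfix := comm_inf_le_fix_sup (V := V) hqA hqB
  have k1 : ∀ w ∈ comm V B,
      w + (b • (a⁻¹ • w - w) - (a⁻¹ • w - w)) ∈ fix V (A ⊔ B) :=
    fun w hw => hZfix (key hqA hqB ha hb e hw)
  have k2 : ∀ w ∈ comm V A,
      w + (a • (b⁻¹ • w - w) - (b⁻¹ • w - w)) ∈ fix V (A ⊔ B) := by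
    intro w hw
    have := key hqB hqA hb ha e.symm hw
    rw [inf_comm] at this
    exact hZfix this
  have hdiff : ∀ v : V, (b⁻¹ * a * b) • v - (a⁻¹ * b⁻¹ * a) • v ∈ fix V (A ⊔ B) := by
    intro v
    have qa : ∀ x : V, a • (a • x - x) = a • x - x := fun x => hq a ha a ha x
    have qb : ∀ x : V, b • (b • x - x) = b • x - x := fun x => hqB b hb b hb x
    have ia : ∀ x : V, a⁻¹ • x = x - (a • x - x) := by
      intro x
      have := inv_smul_sub (qa x)
      rw [sub_eq_iff_eq_add] at this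
      rw [this]; abel
    have ib : ∀ x : V, b⁻¹ • x = x - (b • x - x) := by
      intro x
      have := inv_smul_sub (qb x)
      rw [sub_eq_iff_eq_add] at this
      rw [this]; abel
    have h1 := k1 (b • v - v) (gen_mem_comm hb v)
    have h2 := k2 (a • v - v) (gen_mem_comm ha v)
    have hsum := add_mem h1 h2
    have key_eq : (b⁻¹ * a * b) • v - (a⁻¹ * b⁻¹ * a) • v =
        ((b • v - v) + (b • (a⁻¹ • (b • v - v) - (b • v - v)) - (a⁻¹ • (b • v - v) - (b • v - v)))) +
        ((a • v - v) + (a • (b⁻¹ • (a • v - v) - (a • v - v)) - (b⁻¹ • (a • v - v) - (a • v - v)))) := by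
      simp only [mul_smul]
      rw [ia (b • v - v), ib (a • v - v), ib (a • b • v), ia (b⁻¹ • a • v), ib (a • v)]
      simp only [smul_sub, smul_add, smul_neg, qa, qb]
      have qa' : ∀ x : V, a • a • x = a • x + (a • x - x) := by
        intro x
        have := qa x
        rw [smul_sub] at this
        rw [sub_eq_iff_eq_add] at this
        rw [this]; abel
      have qb' : ∀ x : V, b • b • x = b • x + (b • x - x) := by
        intro x
        have := qb x
        rw [smul_sub] at this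
        rw [sub_eq_iff_eq_add] at this
        rw [this]; abel
      simp only [qa', qb', smul_sub, smul_add]
      abel
    rw [key_eq]
    exact hsum
  by_contra hne
  have hg1 : (b⁻¹ * a * b)⁻¹ * (a⁻¹ * b⁻¹ * a) ≠ 1 := by
    intro h1
    exact hne (inv_mul_eq_one.mp h1)
  have hc1 : b⁻¹ * a * b ∈ Cfsg.conjBy A b⁻¹ := by
    have := conj_mem_conjBy A b⁻¹ ha
    rwa [inv_inv] at this
  have hc2 : a⁻¹ * b⁻¹ * a ∈ Cfsg.conjBy A b⁻¹ := by
    rw [e]
    have := conj_mem_conjBy B a⁻¹ (B.inv_mem hb)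
    rwa [inv_inv] at this
  have hg : (b⁻¹ * a * b)⁻¹ * (a⁻¹ * b⁻¹ * a) ∈ Cfsg.conjBy A b⁻¹ :=
    mul_mem (inv_mem hc1) hc2
  have hpC : Cfsg.IsRankOnePair (Cfsg.conjBy A b⁻¹) B := by
    have := rankOnePair_conj hp b⁻¹
    rwa [conjBy_of_mem (B.inv_mem hb)] at this
  have hqC : Quad V (Cfsg.conjBy A b⁻¹) := quad_conj hqA _
  have hsup : Cfsg.conjBy A b⁻¹ ⊔ B = A ⊔ B := by
    have h1 : Cfsg.conjBy (A ⊔ B) b⁻¹ = A ⊔ B :=
      conjBy_of_mem (Subgroup.inv_mem _ (Subgroup.mem_sup_right hb))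
    rw [← h1, conjBy_sup, conjBy_of_mem (B.inv_mem hb)]
  have hc1' : b⁻¹ * a * b ∈ A ⊔ B :=
    Subgroup.mul_mem _ (Subgroup.mul_mem _ (Subgroup.inv_mem _ (Subgroup.mem_sup_right hb))
      (Subgroup.mem_sup_left ha)) (Subgroup.mem_sup_right hb)
  have hfixg : ∀ v : V, ((b⁻¹ * a * b)⁻¹ * (a⁻¹ * b⁻¹ * a)) • v - v ∈
      fix V (Cfsg.conjBy A b⁻¹ ⊔ B) := by
    intro v
    rw [hsup]
    have h1 := hdiff v
    have h2 := neg_mem h1
    rw [neg_sub] at h2
    have h3 := h2 ((b⁻¹ * a * b)⁻¹) (Subgroup.inv_mem _ hc1')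
    rw [smul_sub, inv_smul_smul] at h3
    have : ((b⁻¹ * a * b)⁻¹ * (a⁻¹ * b⁻¹ * a)) • v - v =
        (a⁻¹ * b⁻¹ * a) • v - (b⁻¹ * a * b) • v := by
      rw [mul_smul ((b⁻¹ * a * b)⁻¹), h3]
    rw [this]; exact h2
  have hB1 : comm V B ≤ fix V (Cfsg.conjBy A b⁻¹ ⊔ B) :=
    comm_right_le_fix hpC hqC hqB hg hg1 hfixg
  rw [hsup] at hB1
  have hA1 : comm V A ≤ fix V (A ⊔ B) := comm_left_le_fix_of_right hp hB1
  have hall := all_quadratic hA1 hB1
  obtain ⟨x, hx, y, hy, n, hxy⟩ := hX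
  apply hxy
  exact hall x hx n y hy

end Cfsg.Agent.Lib.Helper8_RankOneModule

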