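import Mathlib
import Cfsg.Prelude.Def_RootSubgroups
import Cfsg.Agent.Lib.Helper8_RankOne
import Cfsg.Agent.S5025
import Cfsg.Agent.S5028

set_option autoImplicit false
set_option linter.unusedVariables false
set_option linter.unusedSimpArgs false
open Cfsg

/-!
# Basic lemmas on sets of abstract root subgroups
-/

namespace Cfsg.Agent.Lib.Helper8_RootBase

open Cfsg.Agent.Lib.Helper8_RankOne
open scoped commutatorElement

variable {G : Type*} [Group G]

/-- Relative version of `normal_cases`. -/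
theorem normal_cases_rel {A B : Subgroup G} (h : Cfsg.IsRankOnePair A B) (N : Subgroup G)
    (hNle : N ≤ A ⊔ B) (hN : ∀ x ∈ A ⊔ B, ∀ n ∈ N, x * n * x⁻¹ ∈ N) :
    B ≤ N ⊔ A ∨ ∀ n ∈ N, ∀ x ∈ A ⊔ B, n * x = x * n := by
  by_cases hcase : N ≤ Subgroup.normalizer (A : Set G)
  · right
    have hconj : ∀ x ∈ A ⊔ B, N ≤ Subgroup.normalizer ((Cfsg.conjBy A x : Subgroup G) : Set G) := by
      intro x hx n hn
      apply mem_normalizer_of_conjBy_eq
      have h1 : x⁻¹ * n * x ∈ N := by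
        have := hN x⁻¹ (inv_mem hx) n hn
        rwa [inv_inv] at this
      have h2 := conjBy_of_mem_normalizer (hcase h1)
      rw [conjBy_conjBy]
      have : n * x = x * (x⁻¹ * n * x) := by group
      rw [this, ← conjBy_conjBy, h2]
    have hNB : N ≤ Subgroup.normalizer (B : Set G) := by
      obtain ⟨x, hx, hxe⟩ := right_mem_unipotent h
      rw [hxe]; exact hconj x hx
    intro n hn
    have hA : ∀ a ∈ A, n * a = a * n := by
      intro a ha
      have h1 : n * a * n⁻¹ * a⁻¹ ∈ A := by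
        have : n * a * n⁻¹ ∈ A := (Subgroup.mem_normalizer_iff.mp (hcase hn) a).mp ha
        exact A.mul_mem this (A.inv_mem ha)
      have h2 : n * a * n⁻¹ * a⁻¹ ∈ N := by
        have : a * n⁻¹ * a⁻¹ ∈ N := hN a (Subgroup.mem_sup_left ha) _ (N.inv_mem hn)
        have e : n * a * n⁻¹ * a⁻¹ = n * (a * n⁻¹ * a⁻¹) := by group
        rw [e]; exact N.mul_mem hn this
      have h3 := norm_left h h1 (hNB h2)
      have : n * a = (n * a * n⁻¹ * a⁻¹) * (a * n) := by group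
      rw [this, h3, one_mul]
    have hB : ∀ b ∈ B, n * b = b * n := by
      intro b hb
      have h1 : n * b * n⁻¹ * b⁻¹ ∈ B := by
        have : n * b * n⁻¹ ∈ B := (Subgroup.mem_normalizer_iff.mp (hNB hn) b).mp hb
        exact B.mul_mem this (B.inv_mem hb)
      have h2 : n * b * n⁻¹ * b⁻¹ ∈ N := by
        have : b * n⁻¹ * b⁻¹ ∈ N := hN b (Subgroup.mem_sup_right hb) _ (N.inv_mem hn)
        have e : n * b * n⁻¹ * b⁻¹ = n * (b * n⁻¹ * b⁻¹) := by group
        rw [e]; exact N.mul_mem hn this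
      have h3 := norm_right h h1 (hcase h2)
      have : n * b = (n * b * n⁻¹ * b⁻¹) * (b * n) := by group
      rw [this, h3, one_mul]
    have h1 : A ⊔ B ≤ Subgroup.centralizer ({n} : Set G) := by
      apply sup_le
      · intro a ha
        rw [Subgroup.mem_centralizer_iff]
        intro x hx
        rw [Set.mem_singleton_iff] at hx
        rw [hx]; exact hA a ha
      · intro b hb
        rw [Subgroup.mem_centralizer_iff]
        intro x hx
        rw [Set.mem_singleton_iff] at hx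
        rw [hx]; exact hB b hb
    intro x hx
    have := h1 hx
    rw [Subgroup.mem_centralizer_iff] at this
    exact this n rfl
  · left
    obtain ⟨n, hn, hnA⟩ := SetLike.not_le_iff_exists.mp hcase
    have hC : Cfsg.conjBy A n ∈ Cfsg.unipotentSubgroups A B := ⟨n, hNle hn, rfl⟩
    rcases unipotent_cases h hC with e | ⟨a, ha, e⟩
    · exact absurd (mem_normalizer_of_conjBy_eq e) hnA
    · have hB : B = Cfsg.conjBy A (a⁻¹ * n) := by
        rw [← conjBy_conjBy, e, conjBy_inv_conjBy]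
      rw [hB]
      apply conjBy_le_of_mem le_sup_right
      exact Subgroup.mul_mem _ (Subgroup.inv_mem _ (Subgroup.mem_sup_right ha)) (Subgroup.mem_sup_left hn)

/-- In a rank one pair the commutator subgroup is not central in `⟨A, B⟩`. -/
theorem not_commutator_central {A B : Subgroup G} (h : Cfsg.IsRankOnePair A B) :
    ¬ (∀ c ∈ ⁅A, B⁆, ∀ x ∈ A ⊔ B, c * x = x * c) := by
  intro hc
  obtain ⟨a, ha, ha1⟩ := exists_left_ne_one h
  obtain ⟨b, hb, hb1, e⟩ := h.cond_left a ha ha1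
  have h1 : b⁻¹ * a * b ∈ Cfsg.conjBy A b⁻¹ := by
    have := conj_mem_conjBy A b⁻¹ ha
    rwa [inv_inv] at this
  rw [e, mem_conjBy, inv_inv] at h1
  -- a * (b⁻¹ a b) * a⁻¹ ∈ B
  obtain ⟨c, hcm, hac⟩ : ∃ c, c ∈ ⁅A, B⁆ ∧ a * c ∈ B := by
    refine ⟨⁅b⁻¹, a⁆, ?_, ?_⟩
    · rw [Subgroup.commutator_comm]
      exact Subgroup.commutator_mem_commutator (B.inv_mem hb) ha
    · have : a * ⁅b⁻¹, a⁆ = a * (b⁻¹ * a * b) * a⁻¹ := by
        rw [commutatorElement_def]; group
      rw [this]; exact h1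
  apply ha1
  apply norm_left h ha
  rw [Subgroup.mem_normalizer_iff]
  intro y
  have key : ∀ y ∈ B, a * y * a⁻¹ ∈ B := by
    intro y hy
    have hcy := hc _ hcm y (Subgroup.mem_sup_right hy)
    have : a * y * a⁻¹ = (a * c) * y * (a * c)⁻¹ := by
      symm
      calc (a * c) * y * (a * c)⁻¹ = a * (c * y) * c⁻¹ * a⁻¹ := by group
        _ = a * (y * c) * c⁻¹ * a⁻¹ := by rw [hcy]
        _ = a * y * a⁻¹ := by group
    rw [this]
    exact B.mul_mem (B.mul_mem hac hy) (B.inv_mem hac)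
  have key' : ∀ y ∈ B, a⁻¹ * y * a ∈ B := by
    intro y hy
    have h2 := hc _ hcm (a⁻¹ * y * a) (Subgroup.mul_mem _ (Subgroup.mul_mem _
      (Subgroup.inv_mem _ (Subgroup.mem_sup_left ha)) (Subgroup.mem_sup_right hy))
      (Subgroup.mem_sup_left ha))
    have : a⁻¹ * y * a = (a * c)⁻¹ * y * (a * c) := by
      symm
      calc (a * c)⁻¹ * y * (a * c) = c⁻¹ * ((a⁻¹ * y * a) * c) := by group
        _ = c⁻¹ * (c * (a⁻¹ * y * a)) := by rw [h2]
        _ = a⁻¹ * y * a := by group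
    rw [this]
    exact B.mul_mem (B.mul_mem (B.inv_mem hac) hy) hac
  constructor
  · exact key y
  · intro hy
    have := key' _ hy
    have e2 : a⁻¹ * (a * y * a⁻¹) * a = y := by group
    rwa [e2] at this

/-- `⁅A, B⁆` is normalized by `⟨A, B⟩`. -/
theorem commutator_normalized (A B : Subgroup G) :
    ∀ x ∈ A ⊔ B, ∀ n ∈ ⁅A, B⁆, x * n * x⁻¹ ∈ ⁅A, B⁆ := by
  have hA : A ≤ Subgroup.normalizer ((⁅A, B⁆ : Subgroup G) : Set G) := by
    intro x hx
    have hfwd : ∀ y : G, y ∈ A → ∀ n ∈ ⁅A, B⁆, y * n * y⁻¹ ∈ ⁅A, B⁆ := by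
      intro y hy n hn
      have : ⁅A, B⁆ ≤ (⁅A, B⁆ : Subgroup G).comap (MulAut.conj y).toMonoidHom := by
        rw [Subgroup.commutator_le]
        intro a ha b hb
        rw [Subgroup.mem_comap]
        show (MulAut.conj y) ⁅a, b⁆ ∈ ⁅A, B⁆
        rw [MulAut.conj_apply]
        have e : y * ⁅a, b⁆ * y⁻¹ = ⁅y * a, b⁆ * ⁅y, b⁆⁻¹ := by
          simp only [commutatorElement_def]; group
        rw [e]
        exact Subgroup.mul_mem _ (Subgroup.commutator_mem_commutator (A.mul_mem hy ha) hb)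
          (Subgroup.inv_mem _ (Subgroup.commutator_mem_commutator hy hb))
      have := this hn
      rw [Subgroup.mem_comap] at this
      simpa [MulAut.conj_apply] using this
    rw [Subgroup.mem_normalizer_iff]
    intro n
    constructor
    · exact hfwd x hx n
    · intro hn
      have := hfwd x⁻¹ (A.inv_mem hx) _ hn
      have e : x⁻¹ * (x * n * x⁻¹) * x⁻¹⁻¹ = n := by group
      rwa [e] at this
  have hB : B ≤ Subgroup.normalizer ((⁅A, B⁆ : Subgroup G) : Set G) := by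
    intro x hx
    have hfwd : ∀ y : G, y ∈ B → ∀ n ∈ ⁅A, B⁆, y * n * y⁻¹ ∈ ⁅A, B⁆ := by
      intro y hy n hn
      have : ⁅A, B⁆ ≤ (⁅A, B⁆ : Subgroup G).comap (MulAut.conj y).toMonoidHom := by
        rw [Subgroup.commutator_le]
        intro a ha b hb
        rw [Subgroup.mem_comap]
        show (MulAut.conj y) ⁅a, b⁆ ∈ ⁅A, B⁆
        rw [MulAut.conj_apply]
        have e : y * ⁅a, b⁆ * y⁻¹ = ⁅a, y⁆⁻¹ * ⁅a, y * b⁆ := by
          simp only [commutatorElement_def]; group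
        rw [e]
        exact Subgroup.mul_mem _ (Subgroup.inv_mem _ (Subgroup.commutator_mem_commutator ha hy))
          (Subgroup.commutator_mem_commutator ha (B.mul_mem hy hb))
      have := this hn
      rw [Subgroup.mem_comap] at this
      simpa [MulAut.conj_apply] using this
    rw [Subgroup.mem_normalizer_iff]
    intro n
    constructor
    · exact hfwd x hx n
    · intro hn
      have := hfwd x⁻¹ (B.inv_mem hx) _ hn
      have e : x⁻¹ * (x * n * x⁻¹) * x⁻¹⁻¹ = n := by group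
      rwa [e] at this
  intro x hx n hn
  have := (sup_le hA hB) hx
  exact (Subgroup.mem_normalizer_iff.mp this n).mp hn


/-- A member of `S` is not isolated iff it has a rank one partner in `S`. -/
theorem exists_partner_of_not_isolated {S : Set (Subgroup G)} {A : Subgroup G} (hAS : A ∈ S)
    (hA : ¬ Cfsg.IsIsolatedIn (Cfsg.FAdj S) S A) : ∃ E ∈ S, Cfsg.IsRankOnePair A E := by
  unfold Cfsg.IsIsolatedIn at hA
  push Not at hA
  obtain ⟨E, hE⟩ := hA hAS
  by_cases h1 : Cfsg.FAdj S A E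
  · exact ⟨E, h1.2.1, h1.2.2⟩
  · have h2 := hE h1
    exact ⟨E, h2.1, Cfsg.RankOnePair_symm h2.2.2⟩

theorem not_isolated_of_partner {S : Set (Subgroup G)} {A E : Subgroup G} (hAS : A ∈ S)
    (hES : E ∈ S) (h : Cfsg.IsRankOnePair A E) : ¬ Cfsg.IsIsolatedIn (Cfsg.FAdj S) S A := by
  intro hiso
  exact (hiso.2 E).1 ⟨hAS, hES, h⟩

/-- A non-identity element of a member of `S` is a root element. -/
theorem mem_rootElements {S : Set (Subgroup G)} {T : Subgroup G} (hT : T ∈ S) {x : G} (hx : x ∈ T)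
    (hx1 : x ≠ 1) : x ∈ Cfsg.rootElements S := ⟨hx1, T, hT, hx⟩

/-- In a set of abstract root subgroups the commutator of a rank one pair is not a member. -/
theorem commutator_not_mem {S : Set (Subgroup G)} (hS : Cfsg.IsRootSubgroupSet S)
    {A B : Subgroup G} (hA : A ∈ S) (hB : B ∈ S) (h : Cfsg.IsRankOnePair A B) : ⁅A, B⁆ ∉ S := by
  intro hC
  rcases normal_cases_rel h ⁅A, B⁆ (Subgroup.commutator_le_sup A B) (commutator_normalized A B) with
    hle | hcen
  · -- B ≤ C ⊔ A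
    rcases hS.pair _ hC A hA with h0 | h1 | h2
    · -- C and A commute
      apply not_centralizes h
      intro a ha b hb
      have hcent : ⁅A, B⁆ ⊔ A ≤ Subgroup.centralizer ({a} : Set G) := by
        apply sup_le
        · intro c hc
          rw [Subgroup.mem_centralizer_iff]
          intro x hx
          rw [Set.mem_singleton_iff] at hx
          rw [hx]
          have := Subgroup.commutator_eq_bot_iff_le_centralizer.mp h0 hc
          rw [Subgroup.mem_centralizer_iff] at this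
          exact this a ha
        · intro a' ha'
          rw [Subgroup.mem_centralizer_iff]
          intro x hx
          rw [Set.mem_singleton_iff] at hx
          rw [hx]
          exact comm_of_isMulCommutative (hS.commutative A hA) ha ha'
      have := hcent (hle hb)
      rw [Subgroup.mem_centralizer_iff] at this
      exact this a rfl
    · -- (C, A) rank one pair
      obtain ⟨c, hc, hc1⟩ := exists_left_ne_one h1
      obtain ⟨a, ha, ha1, e⟩ := h1.cond_left c hc hc1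
      have hnorm : Cfsg.conjBy ⁅A, B⁆ a⁻¹ = ⁅A, B⁆ := by
        apply le_antisymm
        · rintro y hy
          rw [mem_conjBy, inv_inv] at hy
          have := commutator_normalized A B a⁻¹ (Subgroup.inv_mem _ (Subgroup.mem_sup_left ha)) _ hy
          have e2 : a⁻¹ * (a * y * a⁻¹) * a⁻¹⁻¹ = y := by group
          rwa [e2] at this
        · intro y hy
          rw [mem_conjBy, inv_inv]
          have := commutator_normalized A B a (Subgroup.mem_sup_left ha) _ hy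
          exact this
      rw [hnorm] at e
      apply h1.ne
      have := congrArg (fun D => Cfsg.conjBy D c) e
      simp only [conjBy_conjBy_inv, conjBy_of_mem hc] at this
      exact this
    · -- commutator case for (C, A)
      obtain ⟨hD, hDcen, _, hgen⟩ := h2
      obtain ⟨a, ha, ha1⟩ := exists_left_ne_one h
      have hne := hS.ne_bot _ hD
      have hex : ∃ c ∈ ⁅A, B⁆, c * a * c⁻¹ * a⁻¹ ≠ 1 := by
        by_contra hall
        push Not at hall
        apply hne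
        rw [← hgen a ha ha1, Subgroup.closure_eq_bot_iff]
        rintro x ⟨c, hc, rfl⟩
        exact hall c hc
      obtain ⟨c, hc, hd1⟩ := hex
      have hdD : c * a * c⁻¹ * a⁻¹ ∈ ⁅⁅A, B⁆, A⁆ := by
        have := Subgroup.commutator_mem_commutator hc ha
        rwa [commutatorElement_def] at this
      have hz : c * a * c⁻¹ * a⁻¹ ∈ Subgroup.centralizer ((A ⊔ B : Subgroup G) : Set G) := by
        rw [Subgroup.mem_centralizer_iff]
        intro x hx
        have hx' : x ∈ ⁅A, B⁆ ⊔ A := by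
          have hAB : A ⊔ B ≤ ⁅A, B⁆ ⊔ A := sup_le le_sup_right hle
          exact hAB hx
        exact (hDcen _ hdD x hx').symm
      have hroot : c * a * c⁻¹ * a⁻¹ * a ∈ Cfsg.rootElements S := by
        have e1 : c * a * c⁻¹ * a⁻¹ * a = c * a * c⁻¹ := by group
        rw [e1]
        exact mem_rootElements (hS.conj_mem A hA c) (conj_mem_conjBy A c ha) (conjBy_ne_one ha1)
      exact Cfsg.Agent.S5025.result hS hA ⟨hB, h⟩ hz hd1 a ha ha1 hroot
  · exact not_commutator_central h hcen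


section CommCase

variable {A B : Subgroup G}

theorem cm_mem {a b : G} (ha : a ∈ A) (hb : b ∈ B) : a * b * a⁻¹ * b⁻¹ ∈ ⁅A, B⁆ := by
  have := Subgroup.commutator_mem_commutator ha hb
  rwa [commutatorElement_def] at this

variable (hcen : ∀ c ∈ ⁅A, B⁆, ∀ x ∈ A ⊔ B, c * x = x * c)
include hcen

theorem cm_mul_right {a b₁ b₂ : G} (ha : a ∈ A) (hb₁ : b₁ ∈ B) (hb₂ : b₂ ∈ B) :
    a * (b₁ * b₂) * a⁻¹ * (b₁ * b₂)⁻¹ = (a * b₁ * a⁻¹ * b₁⁻¹) * (a * b₂ * a⁻¹ * b₂⁻¹) := by
  have h1 := hcen _ (cm_mem ha hb₂) b₁⁻¹ (Subgroup.inv_mem _ (Subgroup.mem_sup_right hb₁))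
  calc a * (b₁ * b₂) * a⁻¹ * (b₁ * b₂)⁻¹
      = a * b₁ * a⁻¹ * ((a * b₂ * a⁻¹ * b₂⁻¹) * b₁⁻¹) := by group
    _ = a * b₁ * a⁻¹ * (b₁⁻¹ * (a * b₂ * a⁻¹ * b₂⁻¹)) := by rw [h1]
    _ = _ := by group

theorem cm_mul_left {a₁ a₂ b : G} (ha₁ : a₁ ∈ A) (ha₂ : a₂ ∈ A) (hb : b ∈ B) :
    (a₁ * a₂) * b * (a₁ * a₂)⁻¹ * b⁻¹ = (a₁ * b * a₁⁻¹ * b⁻¹) * (a₂ * b * a₂⁻¹ * b⁻¹) := by
  have h1 := hcen _ (cm_mem ha₂ hb) a₁ (Subgroup.mem_sup_left ha₁)
  have h2 := hcen _ (cm_mem ha₂ hb) (a₁ * b * a₁⁻¹ * b⁻¹)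
    ((Subgroup.commutator_le_sup A B) (cm_mem ha₁ hb))
  calc (a₁ * a₂) * b * (a₁ * a₂)⁻¹ * b⁻¹
      = (a₁ * (a₂ * b * a₂⁻¹ * b⁻¹)) * a₁⁻¹ * (a₁ * b * a₁⁻¹ * b⁻¹) := by group
    _ = ((a₂ * b * a₂⁻¹ * b⁻¹) * a₁) * a₁⁻¹ * (a₁ * b * a₁⁻¹ * b⁻¹) := by rw [h1]
    _ = (a₂ * b * a₂⁻¹ * b⁻¹) * (a₁ * b * a₁⁻¹ * b⁻¹) := by group
    _ = _ := h2

theorem cm_inv_right {a b : G} (ha : a ∈ A) (hb : b ∈ B) :
    a * b⁻¹ * a⁻¹ * b⁻¹⁻¹ = (a * b * a⁻¹ * b⁻¹)⁻¹ := by
  have h := cm_mul_right hcen ha hb (B.inv_mem hb)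
  rw [mul_inv_cancel] at h
  have h0 : a * 1 * a⁻¹ * (1 : G)⁻¹ = 1 := by group
  rw [h0] at h
  exact (eq_inv_of_mul_eq_one_right h.symm)

theorem cm_inv_left {a b : G} (ha : a ∈ A) (hb : b ∈ B) :
    a⁻¹ * b * a⁻¹⁻¹ * b⁻¹ = (a * b * a⁻¹ * b⁻¹)⁻¹ := by
  have h := cm_mul_left hcen ha (A.inv_mem ha) hb
  rw [mul_inv_cancel] at h
  have h0 : (1 : G) * b * 1⁻¹ * b⁻¹ = 1 := by group
  rw [h0] at h
  exact (eq_inv_of_mul_eq_one_right h.symm)

/-- The commutators with a fixed `a` form the whole commutator subgroup. -/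
theorem exists_cm_right {a : G} (ha : a ∈ A)
    (hgen : Subgroup.closure ((fun b : G => a * b * a⁻¹ * b⁻¹) '' (B : Set G)) = ⁅A, B⁆) :
    ∀ c ∈ ⁅A, B⁆, ∃ b ∈ B, a * b * a⁻¹ * b⁻¹ = c := by
  intro c hc
  rw [← hgen] at hc
  induction hc using Subgroup.closure_induction with
  | mem x hx =>
    obtain ⟨b, hb, rfl⟩ := hx
    exact ⟨b, hb, rfl⟩
  | one => exact ⟨1, B.one_mem, by group⟩
  | mul x y _ _ hx hy =>
    obtain ⟨b₁, hb₁, rfl⟩ := hx
    obtain ⟨b₂, hb₂, rfl⟩ := hy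
    exact ⟨b₁ * b₂, B.mul_mem hb₁ hb₂, cm_mul_right hcen ha hb₁ hb₂⟩
  | inv x _ hx =>
    obtain ⟨b, hb, rfl⟩ := hx
    exact ⟨b⁻¹, B.inv_mem hb, cm_inv_right hcen ha hb⟩

theorem exists_cm_left {b : G} (hb : b ∈ B)
    (hgen : Subgroup.closure ((fun a : G => a * b * a⁻¹ * b⁻¹) '' (A : Set G)) = ⁅A, B⁆) :
    ∀ c ∈ ⁅A, B⁆, ∃ a ∈ A, a * b * a⁻¹ * b⁻¹ = c := by
  intro c hc
  rw [← hgen] at hc
  induction hc using Subgroup.closure_induction with
  | mem x hx =>
    obtain ⟨a, ha, rfl⟩ := hx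
    exact ⟨a, ha, rfl⟩
  | one => exact ⟨1, A.one_mem, by group⟩
  | mul x y _ _ hx hy =>
    obtain ⟨a₁, ha₁, rfl⟩ := hx
    obtain ⟨a₂, ha₂, rfl⟩ := hy
    exact ⟨a₁ * a₂, A.mul_mem ha₁ ha₂, cm_mul_left hcen ha₁ ha₂ hb⟩
  | inv x _ hx =>
    obtain ⟨a, ha, rfl⟩ := hx
    exact ⟨a⁻¹, A.inv_mem ha, cm_inv_left hcen ha hb⟩

end CommCase

end Cfsg.Agent.Lib.Helper8_RootBase


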