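import Mathlib
import Cfsg.Prelude.Def_RootSubgroups
import Cfsg.Agent.Lib.Helper8_RankOne
import Cfsg.Agent.Lib.Helper8_RootBase

set_option autoImplicit false
set_option linter.unusedVariables false
set_option linter.unusedSimpArgs false
set_option linter.style.haveILetI false
open Cfsg

/-!
# Homomorphic images of sets of abstract root subgroups
-/

namespace Cfsg.Agent.Lib.Helper8_RootImage

open Cfsg.Agent.Lib.Helper8_RankOne Cfsg.Agent.Lib.Helper8_RootBase

variable {G H : Type*} [Group G] [Group H]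

theorem map_conjBy (f : G →* H) (A : Subgroup G) (g : G) :
    (Cfsg.conjBy A g).map f = Cfsg.conjBy (A.map f) (f g) := by
  ext y
  constructor
  · rintro ⟨x, hx, rfl⟩
    have hx' : x ∈ Cfsg.conjBy A g := hx
    rw [mem_conjBy] at hx' ⊢
    refine ⟨g⁻¹ * x * g, hx', ?_⟩
    simp
  · intro hy
    rw [mem_conjBy] at hy
    obtain ⟨a, ha, e⟩ := hy
    refine ⟨g * a * g⁻¹, conj_mem_conjBy A g ha, ?_⟩
    rw [map_mul, map_mul, map_inv, e]; group

/-- The image of a rank one pair under a homomorphism whose kernel meets `⟨A, B⟩` centrally. -/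
theorem rankOnePair_map (f : G →* H) {A B : Subgroup G} (h : Cfsg.IsRankOnePair A B)
    (hcen : ∀ n ∈ f.ker ⊓ (A ⊔ B), ∀ x ∈ A ⊔ B, n * x = x * n) :
    Cfsg.IsRankOnePair (A.map f) (B.map f) := by
  -- kernel elements of B are trivial
  have hkB : ∀ {A B : Subgroup G}, Cfsg.IsRankOnePair A B →
      (∀ n ∈ f.ker ⊓ (A ⊔ B), ∀ x ∈ A ⊔ B, n * x = x * n) → ∀ b ∈ B, f b = 1 → b = 1 := by
    intro A B h hcen b hb hfb
    apply norm_right h hb
    apply Subgroup.centralizer_le_normalizer
    rw [Subgroup.mem_centralizer_iff]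
    intro a ha
    exact (hcen b (Subgroup.mem_inf.mpr ⟨MonoidHom.mem_ker.mpr hfb, Subgroup.mem_sup_right hb⟩) a
      (Subgroup.mem_sup_left ha)).symm
  have key : ∀ {A B : Subgroup G}, Cfsg.IsRankOnePair A B →
      (∀ n ∈ f.ker ⊓ (A ⊔ B), ∀ x ∈ A ⊔ B, n * x = x * n) →
      Cfsg.RankOneCondition (A.map f) (B.map f) := by
    intro A B h hcen a' ha' ha'1
    obtain ⟨a, ha, rfl⟩ := ha'
    have ha1 : a ≠ 1 := by
      rintro rfl
      exact ha'1 (map_one f)
    obtain ⟨b, hb, hb1, e⟩ := h.cond_left a ha ha1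
    refine ⟨f b, ⟨b, hb, rfl⟩, ?_, ?_⟩
    · intro hfb
      exact hb1 (hkB h hcen b hb hfb)
    · rw [← map_inv, ← map_inv, ← map_conjBy, ← map_conjBy, e]
  have hcen' : ∀ n ∈ f.ker ⊓ (B ⊔ A), ∀ x ∈ B ⊔ A, n * x = x * n := by
    intro n hn x hx
    rw [sup_comm] at hn hx
    exact hcen n hn x hx
  refine ⟨?_, ?_, ?_, key h hcen, key (Cfsg.RankOnePair_symm h) hcen'⟩
  · intro e
    apply right_ne_bot h
    rw [Subgroup.eq_bot_iff_forall]
    intro b hb
    have hfb : f b ∈ A.map f := by rw [e]; exact ⟨b, hb, rfl⟩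
    obtain ⟨a, ha, hab⟩ := hfb
    -- b a⁻¹ in kernel
    have hn : b * a⁻¹ ∈ f.ker ⊓ (A ⊔ B) := by
      refine Subgroup.mem_inf.mpr ⟨?_, Subgroup.mul_mem _ (Subgroup.mem_sup_right hb)
        (Subgroup.inv_mem _ (Subgroup.mem_sup_left ha))⟩
      rw [MonoidHom.mem_ker, map_mul, map_inv, hab, mul_inv_cancel]
    apply norm_right h hb
    rw [Subgroup.mem_normalizer_iff]
    intro y
    have hy1 : ∀ y ∈ A, b * y * b⁻¹ ∈ A := by
      intro y hy
      have h1 := hcen _ hn (a * y * a⁻¹) (Subgroup.mem_sup_left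
        (A.mul_mem (A.mul_mem ha hy) (A.inv_mem ha)))
      have e2 : b * y * b⁻¹ = (b * a⁻¹) * (a * y * a⁻¹) * (b * a⁻¹)⁻¹ := by group
      rw [e2, h1, mul_inv_cancel_right]
      exact A.mul_mem (A.mul_mem ha hy) (A.inv_mem ha)
    have hy2 : ∀ y ∈ A, b⁻¹ * y * b ∈ A := by
      intro y hy
      have h1 := hcen _ hn (b⁻¹ * y * b) (Subgroup.mul_mem _ (Subgroup.mul_mem _
        (Subgroup.inv_mem _ (Subgroup.mem_sup_right hb)) (Subgroup.mem_sup_left hy))
        (Subgroup.mem_sup_right hb))
      -- b⁻¹ y b = a⁻¹ y a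
      have e2 : b⁻¹ * y * b = a⁻¹ * ((b * a⁻¹)⁻¹ * y * (b * a⁻¹)) * a := by group
      have h3 := hcen _ hn y (Subgroup.mem_sup_left hy)
      have e3 : (b * a⁻¹)⁻¹ * y * (b * a⁻¹) = y := by
        rw [mul_assoc, ← h3, inv_mul_cancel_left]
      rw [e2, e3]
      exact A.mul_mem (A.mul_mem (A.inv_mem ha) hy) ha
    constructor
    · exact hy1 y
    · intro hy
      have := hy2 _ hy
      have e2 : b⁻¹ * (b * y * b⁻¹) * b = y := by group
      rwa [e2] at this
  · haveI := h.nilpotent_left
    exact Group.nilpotent_of_surjective _ (MonoidHom.subgroupMap_surjective f A)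
  · haveI := h.nilpotent_right
    exact Group.nilpotent_of_surjective _ (MonoidHom.subgroupMap_surjective f B)

/-- The kernel intersected with `⟨A, B⟩` is normalized by `⟨A, B⟩`. -/
theorem ker_inf_normalized (f : G →* H) (X : Subgroup G) :
    ∀ x ∈ X, ∀ n ∈ f.ker ⊓ X, x * n * x⁻¹ ∈ f.ker ⊓ X := by
  intro x hx n hn
  rw [Subgroup.mem_inf] at hn
  refine Subgroup.mem_inf.mpr ⟨?_, X.mul_mem (X.mul_mem hx hn.2) (X.inv_mem hx)⟩
  have := hn.1
  rw [MonoidHom.mem_ker] at this ⊢
  rw [map_mul, map_mul, this, mul_one, map_inv, mul_inv_cancel]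

/-- An edge of the graph of rank one pairs maps to an edge or collapses. -/
theorem edge_map {S : Set (Subgroup G)} (hS : Cfsg.IsRootSubgroupSet S) (f : G →* H)
    {A B : Subgroup G} (hA : A ∈ S) (hB : B ∈ S) (h : Cfsg.IsRankOnePair A B) :
    A.map f = B.map f ∨ Cfsg.IsRankOnePair (A.map f) (B.map f) := by
  rcases normal_cases_rel h (f.ker ⊓ (A ⊔ B)) inf_le_right (ker_inf_normalized f (A ⊔ B)) with
    hle | hcen
  · left
    have hncen : ¬ (∀ n ∈ f.ker ⊓ (A ⊔ B), ∀ x ∈ A ⊔ B, n * x = x * n) := by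
      intro hcen
      apply not_centralizes h
      intro a ha b hb
      have hcent : (f.ker ⊓ (A ⊔ B)) ⊔ A ≤ Subgroup.centralizer ({a} : Set G) := by
        apply sup_le
        · intro n hn
          rw [Subgroup.mem_centralizer_iff]
          intro x hx
          rw [Set.mem_singleton_iff] at hx
          rw [hx]
          exact (hcen n hn a (Subgroup.mem_sup_left ha)).symm
        · intro a' ha'
          rw [Subgroup.mem_centralizer_iff]
          intro x hx
          rw [Set.mem_singleton_iff] at hx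
          rw [hx]
          exact comm_of_isMulCommutative (hS.commutative A hA) ha ha'
      have := hcent (hle hb)
      rw [Subgroup.mem_centralizer_iff] at this
      exact this a rfl
    have hle2 : A ≤ (f.ker ⊓ (A ⊔ B)) ⊔ B := by
      have h' := Cfsg.RankOnePair_symm h
      rcases normal_cases_rel h' (f.ker ⊓ (B ⊔ A)) inf_le_right (ker_inf_normalized f (B ⊔ A)) with
        hle' | hcen'
      · rwa [sup_comm B A] at hle'
      · exfalso
        apply hncen
        intro n hn x hx
        rw [sup_comm] at hn hx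
        exact hcen' n hn x hx
    have hmap : ∀ {A B : Subgroup G}, B ≤ (f.ker ⊓ (A ⊔ B)) ⊔ A → B.map f ≤ A.map f := by
      intro A B hle
      have h1 := Subgroup.map_mono (f := f) hle
      rw [Subgroup.map_sup] at h1
      have h2 : (f.ker ⊓ (A ⊔ B)).map f = ⊥ := by
        rw [Subgroup.map_eq_bot_iff]; exact inf_le_left
      rwa [h2, bot_sup_eq] at h1
    apply le_antisymm
    · apply hmap
      rwa [sup_comm B A]
    · exact hmap hle
  · right
    exact rankOnePair_map f h hcen

theorem image_root {S : Set (Subgroup G)} (hS : Cfsg.IsRootSubgroupSet S) (f : G →* H)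
    (hf : Function.Surjective f) (hker : ∀ A ∈ S, ¬ A ≤ f.ker) :
    Cfsg.IsRootSubgroupSet ((fun A : Subgroup G => A.map f) '' S) := by
  refine ⟨?_, ?_, ?_, ?_, ?_⟩
  · rintro A' ⟨A, hA, rfl⟩
    haveI := hS.commutative A hA
    show IsMulCommutative (A.map f)
    infer_instance
  · rintro A' ⟨A, hA, rfl⟩ e
    exact hker A hA ((Subgroup.map_eq_bot_iff _).mp e)
  · rw [iSup_image]
    have h1 : (⨆ A ∈ S, A).map f = ⨆ A ∈ S, A.map f := by
      rw [Subgroup.map_iSup]
      congr 1
      funext A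
      rw [Subgroup.map_iSup]
    rw [← h1, hS.generates, ← MonoidHom.range_eq_map, MonoidHom.range_eq_top]
    exact hf
  · rintro A' ⟨A, hA, rfl⟩ h
    obtain ⟨g, rfl⟩ := hf h
    exact ⟨Cfsg.conjBy A g, hS.conj_mem A hA g, map_conjBy f A g⟩
  · rintro A' ⟨A, hA, rfl⟩ B' ⟨B, hB, rfl⟩
    show ⁅A.map f, B.map f⁆ = ⊥ ∨ _
    rcases hS.pair A hA B hB with h0 | h1 | h2
    · left
      rw [← Subgroup.map_commutator, h0, Subgroup.map_bot]
    · rcases edge_map hS f hA hB h1 with e | hr
      · left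
        rw [e]
        haveI := hS.commutative B hB
        rw [Subgroup.commutator_eq_bot_iff_le_centralizer]
        intro x hx
        rw [Subgroup.mem_centralizer_iff]
        intro y hy
        obtain ⟨b₁, hb₁, rfl⟩ := hx
        obtain ⟨b₂, hb₂, rfl⟩ := hy
        rw [← map_mul, ← map_mul, comm_of_isMulCommutative (hS.commutative B hB) hb₁ hb₂]
      · right; left; exact hr
    · by_cases hbot : (⁅A, B⁆ : Subgroup G).map f = ⊥
      · left
        rw [← Subgroup.map_commutator, hbot]
      · right; right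
        obtain ⟨hC, hcen, hg1, hg2⟩ := h2
        refine ⟨?_, ?_, ?_, ?_⟩
        · rw [← Subgroup.map_commutator]
          exact ⟨_, hC, rfl⟩
        · intro c hc x hx
          rw [← Subgroup.map_commutator] at hc
          rw [← Subgroup.map_sup] at hx
          obtain ⟨c₀, hc₀, rfl⟩ := hc
          obtain ⟨x₀, hx₀, rfl⟩ := hx
          rw [← map_mul, ← map_mul, hcen c₀ hc₀ x₀ hx₀]
        · intro a' ha' ha'1
          obtain ⟨a, ha, rfl⟩ := ha'
          have ha1 : a ≠ 1 := by
            rintro rfl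
            exact ha'1 (map_one f)
          rw [← Subgroup.map_commutator, ← hg1 a ha ha1, MonoidHom.map_closure, Subgroup.coe_map,
            Set.image_image, Set.image_image]
          congr 2
          funext b
          simp
        · intro b' hb' hb'1
          obtain ⟨b, hb, rfl⟩ := hb'
          have hb1 : b ≠ 1 := by
            rintro rfl
            exact hb'1 (map_one f)
          rw [← Subgroup.map_commutator, ← hg2 b hb hb1, MonoidHom.map_closure, Subgroup.coe_map,
            Set.image_image, Set.image_image]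
          congr 2
          funext a
          simp

theorem image_connected {S : Set (Subgroup G)} (hS : Cfsg.IsRootSubgroupSet S)
    (hc : Cfsg.IsConnectedFamily (Cfsg.FAdj S) S) (f : G →* H) :
    Cfsg.IsConnectedFamily (Cfsg.FAdj ((fun A : Subgroup G => A.map f) '' S))
      ((fun A : Subgroup G => A.map f) '' S) := by
  rintro A' ⟨A, hA, rfl⟩ B' ⟨B, hB, rfl⟩
  have hpath := hc A hA B hB
  show Relation.ReflTransGen _ (A.map f) (B.map f)
  induction hpath with
  | refl => exact Relation.ReflTransGen.refl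
  | tail _ hadj ih =>
    obtain ⟨hT, hT', hr⟩ := hadj
    rcases edge_map hS f hT hT' hr with e | hr'
    · rw [← e]; exact ih hT
    · exact Relation.ReflTransGen.tail (ih hT) ⟨⟨_, hT, rfl⟩, ⟨_, hT', rfl⟩, hr'⟩

end Cfsg.Agent.Lib.Helper8_RootImage
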