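import Mathlib
import Cfsg.Prelude.Def_RootSubgroups
import Cfsg.Agent.Lib.Helper8_RankOne
import Cfsg.Agent.Lib.Helper8_RankOneModule
import Cfsg.Agent.Lib.Helper8_RootImage

set_option autoImplicit false
set_option linter.unusedVariables false
set_option linter.unusedSimpArgs false
set_option linter.style.haveILetI false
set_option linter.unusedSectionVars false
open Cfsg

/-!
# Abelian subgroups as modules under conjugation, and transfer of rank one pairs to subgroups
-/

namespace Cfsg.Agent.Lib.Helper8_ConjModule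

open Cfsg.Agent.Lib.Helper8_RankOne Cfsg.Agent.Lib.Helper8_RankOneModule
  Cfsg.Agent.Lib.Helper8_RootImage

variable {G : Type*} [Group G]

/-- Pull back a rank one pair along an injective homomorphism. -/
theorem rankOnePair_of_map {Γ : Type*} [Group Γ] (ι : Γ →* G) (hι : Function.Injective ι)
    {A' B' : Subgroup Γ} (h : Cfsg.IsRankOnePair (A'.map ι) (B'.map ι)) :
    Cfsg.IsRankOnePair A' B' := by
  have key : ∀ {A' B' : Subgroup Γ}, Cfsg.RankOneCondition (A'.map ι) (B'.map ι) →
      Cfsg.RankOneCondition A' B' := by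
    intro A' B' hc a' ha' ha'1
    have h1 : ι a' ≠ 1 := fun e => ha'1 (hι (e.trans (map_one ι).symm))
    obtain ⟨b, hb, hb1, e⟩ := hc (ι a') ⟨a', ha', rfl⟩ h1
    obtain ⟨b', hb', rfl⟩ := hb
    refine ⟨b', hb', ?_, ?_⟩
    · rintro rfl
      exact hb1 (map_one ι)
    · rw [← map_inv, ← map_inv, ← map_conjBy, ← map_conjBy] at e
      exact Subgroup.map_injective hι e
  refine ⟨?_, ?_, ?_, key h.cond_left, key h.cond_right⟩
  · intro e
    exact h.ne (by rw [e])
  · haveI := h.nilpotent_left
    exact Group.nilpotent_of_surjective (A'.equivMapOfInjective ι hι).symm.toMonoidHom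
      (A'.equivMapOfInjective ι hι).symm.surjective
  · haveI := h.nilpotent_right
    exact Group.nilpotent_of_surjective (B'.equivMapOfInjective ι hι).symm.toMonoidHom
      (B'.equivMapOfInjective ι hι).symm.surjective

/-- Push forward the special condition along an injective homomorphism. -/
theorem special_map {Γ : Type*} [Group Γ] (ι : Γ →* G) (hι : Function.Injective ι)
    {A' B' : Subgroup Γ} (hs : Cfsg.IsSpecialRankOnePair A' B')
    (h : Cfsg.IsRankOnePair (A'.map ι) (B'.map ι)) :
    Cfsg.IsSpecialRankOnePair (A'.map ι) (B'.map ι) := by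
  refine ⟨h, ?_⟩
  rintro a ⟨a', ha', rfl⟩ ha1 b ⟨b', hb', rfl⟩ hb1 e
  have ha'1 : a' ≠ 1 := by
    rintro rfl
    exact ha1 (map_one ι)
  have hb'1 : b' ≠ 1 := by
    rintro rfl
    exact hb1 (map_one ι)
  rw [← map_inv, ← map_inv, ← map_conjBy, ← map_conjBy] at e
  have e' := Subgroup.map_injective hι e
  have := hs.2 a' ha' ha'1 b' hb' hb'1 e'
  have h2 := congrArg ι this
  simpa using h2

/-- The abelian subgroup `V` as an additive group. -/
def CM (V : Subgroup G) : Type _ := Additive ↥V

section Module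

variable (V : Subgroup G) [hV : IsMulCommutative V]

/-- The element of `G` underlying an element of the module. -/
def CM.val {V : Subgroup G} (v : CM V) : G := ((Additive.toMul v : ↥V) : G)

def CM.mk {V : Subgroup G} (g : G) (hg : g ∈ V) : CM V := Additive.ofMul (⟨g, hg⟩ : ↥V)

omit hV in
@[simp] theorem CM.val_mk {g : G} (hg : g ∈ V) : (CM.mk g hg : CM V).val = g := rfl

omit hV in
theorem CM.val_mem (v : CM V) : v.val ∈ V := (Additive.toMul v : ↥V).2

omit hV in
theorem CM.ext {v w : CM V} (h : v.val = w.val) : v = w := by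
  have : (Additive.toMul v : ↥V) = Additive.toMul w := Subtype.ext h
  exact Additive.toMul.injective this

instance instAddCommGroupCM : AddCommGroup (CM V) :=
  { (inferInstance : AddGroup (Additive ↥V)) with
    add_comm := by
      intro a b
      apply Additive.toMul.injective
      show (Additive.toMul a : ↥V) * Additive.toMul b = Additive.toMul b * Additive.toMul a
      exact mul_comm' _ _ }

theorem CM.val_add (v w : CM V) : (v + w).val = v.val * w.val := rfl

theorem CM.val_zero : (0 : CM V).val = 1 := rfl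

theorem CM.val_neg (v : CM V) : (-v).val = v.val⁻¹ := rfl

theorem CM.val_sub (v w : CM V) : (v - w).val = v.val * w.val⁻¹ := by
  rw [sub_eq_add_neg, CM.val_add, CM.val_neg]

instance instSMulCM : SMul ↥(Subgroup.normalizer (V : Set G)) (CM V) :=
  ⟨fun x v => CM.mk ((x : G) * v.val * (x : G)⁻¹)
    ((Subgroup.mem_normalizer_iff.mp x.2 _).mp (CM.val_mem V v))⟩

theorem CM.val_smul (x : ↥(Subgroup.normalizer (V : Set G))) (v : CM V) :
    (x • v).val = (x : G) * v.val * (x : G)⁻¹ := rfl

instance instDistribMulActionCM : DistribMulAction ↥(Subgroup.normalizer (V : Set G)) (CM V) where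
  one_smul := by
    intro v
    apply CM.ext
    rw [CM.val_smul]; simp
  mul_smul := by
    intro x y v
    apply CM.ext
    rw [CM.val_smul, CM.val_smul, CM.val_smul]
    simp only [Subgroup.coe_mul]; group
  smul_zero := by
    intro x
    apply CM.ext
    rw [CM.val_smul, CM.val_zero]; simp
  smul_add := by
    intro x v w
    apply CM.ext
    rw [CM.val_smul, CM.val_add, CM.val_add, CM.val_smul, CM.val_smul]; group

end Module

/-- A rank one pair normalizing an abelian subgroup `V`, with `A` acting quadratically and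
`⟨A, B⟩` not, is special. -/
theorem special_of_conj {A B : Subgroup G} (hp : Cfsg.IsRankOnePair A B) (V : Subgroup G)
    (hV : IsMulCommutative V) (hA : A ≤ Subgroup.normalizer (V : Set G))
    (hB : B ≤ Subgroup.normalizer (V : Set G))
    (hquad : ∀ a ∈ A, ∀ a' ∈ A, ∀ v ∈ V,
      a' * (a * v * a⁻¹ * v⁻¹) * a'⁻¹ = a * v * a⁻¹ * v⁻¹)
    (hnq : ∃ x ∈ A ⊔ B, ∃ y ∈ A ⊔ B, ∃ v ∈ V,
      y * (x * v * x⁻¹ * v⁻¹) * y⁻¹ ≠ x * v * x⁻¹ * v⁻¹) :
    Cfsg.IsSpecialRankOnePair A B := by
  haveI := hV
  let Γ := Subgroup.normalizer (V : Set G)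
  let ι : ↥Γ →* G := Γ.subtype
  have hι : Function.Injective ι := Subtype.coe_injective
  have hmapA : (A.subgroupOf Γ).map ι = A := Subgroup.map_subgroupOf_eq_of_le hA
  have hmapB : (B.subgroupOf Γ).map ι = B := Subgroup.map_subgroupOf_eq_of_le hB
  have hp' : Cfsg.IsRankOnePair (A.subgroupOf Γ) (B.subgroupOf Γ) := by
    apply rankOnePair_of_map ι hι
    rw [hmapA, hmapB]; exact hp
  have hsup : ((A.subgroupOf Γ) ⊔ (B.subgroupOf Γ)).map ι = A ⊔ B := by
    rw [Subgroup.map_sup, hmapA, hmapB]
  have hq : Quad (CM V) (A.subgroupOf Γ) := by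
    intro a ha a' ha' v
    apply CM.ext
    rw [CM.val_smul, CM.val_sub, CM.val_smul]
    exact hquad _ ha _ ha' _ (CM.val_mem V v)
  have hs : Cfsg.IsSpecialRankOnePair (A.subgroupOf Γ) (B.subgroupOf Γ) := by
    apply special_of_quad hp' hq
    obtain ⟨x, hx, y, hy, v, hv, hne⟩ := hnq
    rw [← hsup] at hx hy
    obtain ⟨x', hx', rfl⟩ := hx
    obtain ⟨y', hy', rfl⟩ := hy
    refine ⟨x', hx', y', hy', CM.mk v hv, ?_⟩
    intro e
    apply hne
    have := congrArg CM.val e
    rw [CM.val_smul, CM.val_sub, CM.val_smul] at this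
    exact this
  have := special_map ι hι hs (by rw [hmapA, hmapB]; exact hp)
  rwa [hmapA, hmapB] at this

end Cfsg.Agent.Lib.Helper8_ConjModule
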