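import Mathlib
import Cfsg.Prelude.Def_FusionSystem
import Cfsg.Agent.Lib.Helper8_Frobenius
import Cfsg.Agent.Lib.Helper8_Omega

set_option autoImplicit false
set_option linter.style.haveILetI false
set_option linter.unusedVariables false
open Cfsg

namespace Cfsg.Agent.Lib.Helper8_OmegaFusion

open Cfsg.FusionSystem
open Cfsg.Agent.Lib.Helper8_Fusion
open Cfsg.Agent.Lib.Helper8_GroupFusion
open Cfsg.Agent.Lib.Helper8_Saturated
open Cfsg.Agent.Lib.Helper8_Alperin
open Cfsg.Agent.Lib.Helper8_Frobenius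

/-- A finite group with a normal Sylow `p`-subgroup has no strongly `p`-embedded subgroup. -/
theorem not_stronglyPEmbedded_of_normal_sylow {X : Type*} [Group X] [Finite X] {p : ℕ}
    [Fact p.Prime] (P₁ : Sylow p X) (hn : (P₁ : Subgroup X).Normal) (Y : Subgroup X) :
    ¬ IsStronglyPEmbedded p Y := by
  rintro ⟨hdvd, hYtop, P₀, hcore⟩
  apply hYtop
  haveI := Sylow.unique_of_normal P₁ hn
  have hall : ∀ Q : Sylow p X, Q = P₁ := fun Q => Subsingleton.elim _ _
  have h0 : P₀ = P₁ := hall P₀
  obtain ⟨g, hg⟩ := exists_prime_orderOf_dvd_card' p hdvd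
  have hgP : g ∈ (P₀ : Subgroup X) := by
    have hpg : IsPGroup p (Subgroup.zpowers g) := by
      apply IsPGroup.of_card (n := 1)
      rw [Nat.card_zpowers, hg, pow_one]
    obtain ⟨Q, hQ⟩ := hpg.exists_le_sylow
    rw [h0, ← hall Q]
    exact hQ (Subgroup.mem_zpowers g)
  have hrank : ¬ PRankLE p 0 (P₀ : Subgroup X) := by
    intro hr
    let A : Subgroup (P₀ : Subgroup X) := Subgroup.zpowers ⟨g, hgP⟩
    have hA := hr A inferInstance (by
      intro a ha
      obtain ⟨k, rfl⟩ := Subgroup.mem_zpowers_iff.mp ha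
      rw [← zpow_natCast, ← zpow_mul, mul_comm, zpow_mul, zpow_natCast]
      have : (⟨g, hgP⟩ : (P₀ : Subgroup X)) ^ p = 1 := by
        apply Subtype.ext
        show g ^ p = 1
        rw [← hg]; exact pow_orderOf_eq_one g
      rw [this, one_zpow])
    rw [pow_zero] at hA
    have hcard : Nat.card A = p := by
      rw [Nat.card_zpowers]
      have : orderOf (⟨g, hgP⟩ : (P₀ : Subgroup X)) = orderOf g := Subgroup.orderOf_mk g hgP
      rw [this, hg]
    rw [hcard] at hA
    exact absurd hA (by have := (Fact.out : p.Prime).one_lt; omega)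
  have hrank' : ¬ PRankLE p (1 - 1) (P₀ : Subgroup X) := hrank
  have hle : Subgroup.normalizer ((P₀ : Subgroup X) : Set X) ≤ kGeneratedCore p 1 (P₀ : Subgroup X) := by
    rw [kGeneratedCore]
    exact le_iSup (fun Q : {Q : Subgroup X // Q ≤ (P₀ : Subgroup X) ∧ ¬ PRankLE p (1 - 1) Q} =>
      Subgroup.normalizer ((Q : Subgroup X) : Set X)) ⟨(P₀ : Subgroup X), le_rfl, hrank'⟩
  rw [eq_top_iff]
  refine le_trans ?_ (hle.trans hcore)
  rw [h0]
  haveI := hn
  rw [Subgroup.normalizer_eq_top]


theorem conj_zpow_iter {G : Type*} [Group G] (s x : G) (k : ℤ) (hk : s * x * s⁻¹ = x ^ k) (i : ℕ) :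
    s ^ i * x * (s ^ i)⁻¹ = x ^ (k ^ i) := by
  induction i with
  | zero => simp
  | succ i ih =>
    have h1 : s ^ (i + 1) * x * (s ^ (i + 1))⁻¹ = s * (s ^ i * x * (s ^ i)⁻¹) * s⁻¹ := by
      rw [pow_succ']; group
    rw [h1, ih]
    have h2 : ∀ n : ℤ, s * x ^ n * s⁻¹ = (s * x * s⁻¹) ^ n := by
      intro n
      have := map_zpow (MulAut.conj s) x n
      simpa [MulAut.conj_apply] using this
    rw [h2, hk, ← zpow_mul, pow_succ, mul_comm]

/-- A `p`-element normalizing a cyclic group of order `p` (or of order dividing `4` if `p = 2`)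
centralizes it (or inverts it, if `p = 2`). -/
theorem conj_eq_or_inv {G : Type*} [Group G] {p : ℕ} [Fact p.Prime] (s x : G) (j : ℕ)
    (hs : s ^ (p ^ j) = 1) (hsx : s * x * s⁻¹ ∈ Subgroup.zpowers x)
    (hx : x ^ p = 1 ∨ (p = 2 ∧ x ^ 4 = 1)) :
    s * x * s⁻¹ = x ∨ (p = 2 ∧ s * x * s⁻¹ = x⁻¹) := by
  have hp := (Fact.out : p.Prime)
  obtain ⟨k, hk⟩ := Subgroup.mem_zpowers_iff.mp hsx
  by_cases hp2 : p = 2
  · subst hp2
    have hx4 : x ^ 4 = 1 := by
      rcases hx with h | ⟨-, h⟩
      · have : x ^ 4 = (x ^ 2) ^ 2 := by rw [← pow_mul]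
        rw [this, h, one_pow]
      · exact h
    have hkr : x ^ k = x ^ (k % 4) := by
      conv_lhs => rw [← Int.emod_add_mul_ediv k 4]
      rw [zpow_add, zpow_mul]
      have : x ^ (4 : ℤ) = 1 := by
        have := hx4
        rw [← zpow_natCast] at this
        exact_mod_cast this
      rw [this, one_zpow, mul_one]
    have hr0 : 0 ≤ k % 4 := Int.emod_nonneg k (by norm_num)
    have hr4 : k % 4 < 4 := Int.emod_lt_of_pos k (by norm_num)
    have hone : s * x * s⁻¹ = 1 → x = 1 := by
      intro h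
      have : x = s⁻¹ * (s * x * s⁻¹) * s := by group
      rw [this, h]; group
    obtain ⟨r, hr⟩ : ∃ r : ℤ, r = k % 4 := ⟨_, rfl⟩
    rw [← hr] at hkr hr0 hr4
    rw [hkr] at hk
    interval_cases r
    · left
      rw [zpow_zero] at hk
      have := hone hk.symm
      rw [this]; group
    · left
      rw [zpow_one] at hk
      exact hk.symm
    · left
      have h2 : (s * x * s⁻¹) ^ 2 = 1 := by
        rw [← hk]
        have : (x ^ (2 : ℤ)) ^ 2 = x ^ 4 := by
          rw [← zpow_natCast, ← zpow_mul]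
          have : ((2 : ℤ) * ((2 : ℕ) : ℤ)) = ((4 : ℕ) : ℤ) := by norm_num
          rw [this, zpow_natCast]
        rw [this, hx4]
      have h3 : s * x ^ 2 * s⁻¹ = 1 := by
        rw [← h2]
        have := map_pow (MulAut.conj s) x 2
        simpa [MulAut.conj_apply] using this
      have h4 : x ^ 2 = 1 := by
        have : x ^ 2 = s⁻¹ * (s * x ^ 2 * s⁻¹) * s := by group
        rw [this, h3]; group
      have h5 : s * x * s⁻¹ = 1 := by
        rw [← hk]
        have : x ^ (2 : ℤ) = x ^ 2 := by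
          rw [← zpow_natCast]; rfl
        rw [this, h4]
      have := hone h5
      rw [this]; group
    · right
      refine ⟨rfl, ?_⟩
      rw [← hk]
      have : x ^ (3 : ℤ) * x = 1 := by
        have h1 : x ^ (3 : ℤ) * x = x ^ (4 : ℤ) := by
          rw [show (4 : ℤ) = 3 + 1 by norm_num, zpow_add, zpow_one]
        rw [h1]
        have := hx4
        rw [← zpow_natCast] at this
        exact_mod_cast this
      exact eq_inv_of_mul_eq_one_left this
  · left
    have hxp : x ^ p = 1 := by
      rcases hx with h | ⟨h, -⟩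
      · exact h
      · exact absurd h hp2
    by_cases hx1 : x = 1
    · rw [hx1]; group
    have hord : orderOf x = p := by
      have h1 : orderOf x ∣ p := orderOf_dvd_of_pow_eq_one hxp
      rcases (Nat.dvd_prime hp).mp h1 with h | h
      · exact absurd (orderOf_eq_one_iff.mp h) hx1
      · exact h
    have h1 := conj_zpow_iter s x k hk.symm (p ^ j)
    rw [hs] at h1
    have h2 : x ^ (k ^ (p ^ j) - 1) = 1 := by
      rw [zpow_sub, zpow_one, ← h1]; group
    have h3 : ((orderOf x : ℕ) : ℤ) ∣ k ^ (p ^ j) - 1 := orderOf_dvd_iff_zpow_eq_one.mpr h2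
    rw [hord] at h3
    have h4 : ((k ^ (p ^ j) - 1 : ℤ) : ZMod p) = 0 := (ZMod.intCast_zmod_eq_zero_iff_dvd _ _).mpr h3
    rw [Int.cast_sub, Int.cast_pow, Int.cast_one, ZMod.pow_card_pow, sub_eq_zero] at h4
    have h5 : ((k - 1 : ℤ) : ZMod p) = 0 := by
      rw [Int.cast_sub, Int.cast_one, h4, sub_self]
    have h6 : (p : ℤ) ∣ k - 1 := (ZMod.intCast_zmod_eq_zero_iff_dvd _ _).mp h5
    rw [← hord] at h6
    have h7 : x ^ (k - 1) = 1 := orderOf_dvd_iff_zpow_eq_one.mp h6
    rw [← hk]
    have : x ^ k = x ^ (k - 1) * x := by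
      rw [← zpow_add_one]; congr 1; ring
    rw [this, h7, one_mul]

variable {Ω : Type*} [Group Ω] {S : Subgroup Ω}

/-- The key step: an essential subgroup `P` cannot exist if `Aut_S(P)` acts on the elements of small
order of `P ∩ T` by `x ↦ x` (or `x ↦ x⁻¹` when `p = 2`), where `T` is an `Aut_F(P)`-invariant
subgroup containing the commutators `x⁻¹ β(x)` for `β ∈ Aut_F(P)` of order prime to `p`. -/
theorem essential_false [Finite S] {p : ℕ} [Fact p.Prime] (hS : IsPGroup p S)
    (F : FusionSystem S) (hF : F.IsSaturated p) {P : Subgroup Ω} (hP : F.IsEssential p P)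
    (T : Subgroup Ω)
    (hT1 : ∀ a ∈ F.autGroup P, ∀ x : P, (x : Ω) ∈ T → ((a x : P) : Ω) ∈ T)
    (hT2 : ∀ β ∈ F.autGroup P, (orderOf β).Coprime p →
      ∀ x : P, (x : Ω)⁻¹ * ((β x : P) : Ω) ∈ T)
    (hU : ∀ u ∈ autInducedBy S P, ∀ x : P, (x : Ω) ∈ T → (x ^ p = 1 ∨ (p = 2 ∧ x ^ 4 = 1)) →
      (u x = x ∨ (p = 2 ∧ u x = x⁻¹))) : False := by
  obtain ⟨hPc, hPn, hI, E, hE⟩ := hP
  have hPS : P ≤ S := hPc.1
  haveI : Finite P := finite_of_le hPS
  have hPp : IsPGroup p P := hS.to_le hPS
  obtain ⟨-, -, P₀, hP₀⟩ := fullyNormalized_facts hS F hF hPn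
  -- the subgroup `B`
  let B : Subgroup (F.autGroup P) :=
    { carrier := {β | ∀ x : P, (x : Ω) ∈ T → (x ^ p = 1 ∨ (p = 2 ∧ x ^ 4 = 1)) →
        ((β : MulAut P) x = x ∨ (p = 2 ∧ (β : MulAut P) x = x⁻¹))}
      one_mem' := fun x _ _ => Or.inl rfl
      mul_mem' := by
        intro β γ hβ hγ x hxT hx
        show (β : MulAut P) ((γ : MulAut P) x) = x ∨ (p = 2 ∧ (β : MulAut P) ((γ : MulAut P) x) = x⁻¹)
        rcases hγ x hxT hx with h1 | ⟨h2, h1⟩
        · rw [h1]; exact hβ x hxT hx
        · rw [h1, map_inv]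
          rcases hβ x hxT hx with h3 | ⟨-, h3⟩
          · right; exact ⟨h2, by rw [h3]⟩
          · left; rw [h3, inv_inv]
      inv_mem' := by
        intro β hβ x hxT hx
        show (β : MulAut P)⁻¹ x = x ∨ (p = 2 ∧ (β : MulAut P)⁻¹ x = x⁻¹)
        rcases hβ x hxT hx with h1 | ⟨h2, h1⟩
        · left
          rw [MulAut.inv_apply, MulEquiv.symm_apply_eq]; exact h1.symm
        · right
          refine ⟨h2, ?_⟩
          rw [MulAut.inv_apply, MulEquiv.symm_apply_eq, map_inv, h1, inv_inv] }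
  have hBmem : ∀ β : F.autGroup P, β ∈ B ↔ ∀ x : P, (x : Ω) ∈ T →
      (x ^ p = 1 ∨ (p = 2 ∧ x ^ 4 = 1)) →
        ((β : MulAut P) x = x ∨ (p = 2 ∧ (β : MulAut P) x = x⁻¹)) := fun β => Iff.rfl
  -- `B` is normal
  have hBn : B.Normal := by
    constructor
    intro β hβ a
    rw [hBmem] at hβ ⊢
    intro x hxT hx
    have hy : (((a : MulAut P)⁻¹ x : P) : Ω) ∈ T := hT1 _ (Subgroup.inv_mem _ a.2) x hxT
    have hy2 : ((a : MulAut P)⁻¹ x) ^ p = 1 ∨ (p = 2 ∧ ((a : MulAut P)⁻¹ x) ^ 4 = 1) := by
      rcases hx with h1 | ⟨h2, h1⟩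
      · left; rw [← map_pow, h1, map_one]
      · right; exact ⟨h2, by rw [← map_pow, h1, map_one]⟩
    show (a : MulAut P) ((β : MulAut P) ((a : MulAut P)⁻¹ x)) = x ∨
      (p = 2 ∧ (a : MulAut P) ((β : MulAut P) ((a : MulAut P)⁻¹ x)) = x⁻¹)
    rcases hβ _ hy hy2 with h1 | ⟨h2, h1⟩
    · left; rw [h1]; simp
    · right; refine ⟨h2, ?_⟩; rw [h1, map_inv]; simp
  -- the Sylow subgroup lies in `B`
  have hP₀B : (P₀ : Subgroup (F.autGroup P)) ≤ B := by
    intro u hu
    rw [hP₀] at hu
    rw [hBmem]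
    intro x hxT hx
    exact hU _ hu x hxT hx
  -- `B` is a `p`-group
  have hBp : IsPGroup p B := by
    apply isPGroup_of_coprime_trivial
    intro β hβ m hm hβm
    rw [hBmem] at hβ
    have hβm' : (β : MulAut P) ^ m = 1 := by
      have := congrArg Subtype.val hβm
      simpa using this
    have hiter : ∀ (k : ℕ) (x : P), ((β : MulAut P).toMonoidHom)^[k] x = ((β : MulAut P) ^ k) x := by
      intro k
      induction k with
      | zero => intro x; simp
      | succ k ih =>
        intro x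
        rw [Function.iterate_succ_apply', ih, pow_succ', MulAut.mul_apply]
        rfl
    have hord : (orderOf (β : MulAut P)).Coprime p :=
      Nat.Coprime.coprime_dvd_left (orderOf_dvd_of_pow_eq_one hβm') hm
    -- `β` fixes the small elements
    have hfix : ∀ x : P, (x : Ω) ∈ T → (x ^ p = 1 ∨ (p = 2 ∧ x ^ 4 = 1)) →
        (β : MulAut P) x = x := by
      intro x hxT hx
      rcases hβ x hxT hx with h1 | ⟨h2, h1⟩
      · exact h1
      · -- `p = 2`, `β x = x⁻¹`
        have hsq : ∀ k : ℕ, ((β : MulAut P) ^ (2 * k)) x = x := by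
          intro k
          induction k with
          | zero => simp
          | succ k ih =>
            rw [Nat.mul_succ, pow_add, MulAut.mul_apply, pow_two, MulAut.mul_apply, h1, map_inv, h1,
              inv_inv, ih]
        have hodd : Odd m := by
          rw [← Nat.not_even_iff_odd]
          intro hev
          have h2m : 2 ∣ m := even_iff_two_dvd.mp hev
          rw [h2] at hm
          have := Nat.Coprime.eq_one_of_dvd hm.symm h2m
          omega
        obtain ⟨k, rfl⟩ := hodd
        have h3 : ((β : MulAut P) ^ (2 * k + 1)) x = x := by rw [hβm']; rfl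
        rw [pow_succ, MulAut.mul_apply, h1, map_inv, hsq k] at h3
        rw [h1, h3]
    -- restriction to `R = P ∩ T`
    let R : Subgroup P := T.subgroupOf P
    have hRβ : ∀ y : R, (β : MulAut P) (y : P) ∈ R := by
      intro y
      show (((β : MulAut P) (y : P) : P) : Ω) ∈ T
      exact hT1 _ β.2 _ y.2
    let βR : R →* R := (((β : MulAut P).toMonoidHom).comp R.subtype).codRestrict R hRβ
    have hiterR : ∀ (k : ℕ) (y : R), ((βR^[k] y : R) : P) = ((β : MulAut P) ^ k) (y : P) := by
      intro k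
      induction k with
      | zero => intro y; simp
      | succ k ih =>
        intro y
        rw [Function.iterate_succ_apply', pow_succ', MulAut.mul_apply, ← ih]
        rfl
    have hRfix : ∀ y : R, βR y = y := by
      apply Cfsg.Agent.Lib.Helper8_Omega.omega (hPp.to_subgroup R) βR m hm
      · intro y
        apply Subtype.ext
        rw [hiterR, hβm']; rfl
      · intro y hy
        apply Subtype.ext
        show (β : MulAut P) (y : P) = (y : P)
        apply hfix _ y.2
        rcases hy with h1 | ⟨h2, h1⟩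
        · left
          have := congrArg Subtype.val h1
          simpa using this
        · right
          refine ⟨h2, ?_⟩
          have := congrArg Subtype.val h1
          simpa using this
    -- `β` is trivial
    have hβ1 : ∀ x : P, (β : MulAut P) x = x := by
      intro x
      obtain ⟨w, hw⟩ : ∃ w : P, w = x⁻¹ * (β : MulAut P) x := ⟨_, rfl⟩
      have hwR : w ∈ R := by
        show ((w : P) : Ω) ∈ T
        rw [hw]
        exact hT2 _ β.2 hord x
      have hβw : (β : MulAut P) w = w := congrArg Subtype.val (hRfix ⟨w, hwR⟩)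
      have hxw : (β : MulAut P) x = x * w := by rw [hw]; group
      have := Cfsg.Agent.Lib.Helper8_Omega.eq_one_of_coprime_fix hPp (β : MulAut P).toMonoidHom m hm
        (fun y => by rw [hiter, hβm']; rfl) x w hxw hβw
      rw [hxw, this, mul_one]
    apply Subtype.ext
    ext x
    exact congrArg Subtype.val (hβ1 x)
  -- hence the Sylow subgroup is normal
  have hP₀eq : B = (P₀ : Subgroup (F.autGroup P)) := P₀.is_maximal' hBp hP₀B
  have hP₀n : (P₀ : Subgroup (F.autGroup P)).Normal := by rw [← hP₀eq]; exact hBn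
  haveI := hI
  haveI : Finite (MulAut P) := inferInstance
  have hsurj : Function.Surjective
      (QuotientGroup.mk' ((Inn P).subgroupOf (F.autGroup P))) := QuotientGroup.mk'_surjective _
  let P₁ := P₀.mapSurjective hsurj
  have hP₁n : (P₁ : Subgroup (↥(F.autGroup P) ⧸ (Inn ↥P).subgroupOf (F.autGroup P))).Normal := by
    show ((P₀ : Subgroup (F.autGroup P)).map _).Normal
    exact Subgroup.Normal.map hP₀n _ hsurj
  exact not_stronglyPEmbedded_of_normal_sylow P₁ hP₁n E hE

end Cfsg.Agent.Lib.Helper8_OmegaFusion
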