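import Mathlib
import Cfsg.Prelude.Def_FusionSystem
import Cfsg.Agent.Lib.Helper8_Alperin

set_option autoImplicit false
set_option linter.style.haveILetI false
set_option linter.unusedVariables false
open Cfsg

namespace Cfsg.Agent.Lib.Helper8_Stancu

open Cfsg.FusionSystem
open Cfsg.Agent.Lib.Helper8_Fusion
open Cfsg.Agent.Lib.Helper8_GroupFusion
open Cfsg.Agent.Lib.Helper8_Saturated
open Cfsg.Agent.Lib.Helper8_Alperin

variable {Ω : Type*} [Group Ω] {S : Subgroup Ω}

/-- A power `γ ^ k` with `k ≡ 1 mod p ^ b` of `p`-power order. -/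
theorem exists_pow_pPower {Y : Type*} [Group Y] [Finite Y] (p : ℕ) [hp : Fact p.Prime] (γ : Y) (b : ℕ) :
    ∃ k : ℕ, k ≡ 1 [MOD p ^ b] ∧ ∃ a : ℕ, (γ ^ k) ^ (p ^ a) = 1 := by
  have ho : orderOf γ ≠ 0 := (orderOf_pos γ).ne'
  obtain ⟨a, m, hm, hom⟩ := Nat.exists_eq_pow_mul_and_not_dvd ho p hp.out.ne_one
  have hcop : Nat.Coprime (p ^ b) m :=
    Nat.Coprime.pow_left b ((Nat.Prime.coprime_iff_not_dvd hp.out).mpr hm)
  obtain ⟨k, hk1, hk0⟩ := Nat.chineseRemainder hcop 1 0
  refine ⟨k, hk1, a, ?_⟩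
  rw [← pow_mul]
  apply orderOf_dvd_iff_pow_eq_one.mp
  rw [hom, mul_comm k]
  exact Nat.mul_dvd_mul_left _ ((Nat.modEq_zero_iff_dvd).mp hk0)

theorem pow_eq_self_of_modEq {G : Type*} [Group G] (a : G) (A m : ℕ) (hA : a ^ A = 1)
    (hm : m ≡ 1 [MOD A]) : a ^ m = a := by
  have h1 : orderOf a ∣ A := orderOf_dvd_of_pow_eq_one hA
  have h2 : m ≡ 1 [MOD orderOf a] := hm.of_dvd h1
  have := (pow_eq_pow_iff_modEq (x := a) (m := 1) (n := m)).mpr h2
  simpa using this

/-- Inductive step for Stancu's theorem: if `S` is fully automized, fully normalized subgroups are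
receptive, and all fully normalized subgroups of order larger than `|P|` are fully automized, then a
fully normalized `P` is fully automized. -/
theorem fullyAutomized_of_ih [Finite S] {p : ℕ} [Fact p.Prime] (hS : IsPGroup p S)
    (F : FusionSystem S) (hSa : F.IsFullyAutomized p S)
    (hrec : ∀ P : Subgroup Ω, F.IsFullyNormalized P → F.IsReceptive P)
    {P : Subgroup Ω} (hPn : F.IsFullyNormalized P)
    (IH : ∀ M : Subgroup Ω, F.IsFullyNormalized M → Nat.card P < Nat.card M →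
      F.IsFullyAutomized p M) : F.IsFullyAutomized p P := by
  have hPS : P ≤ S := hPn.1
  by_cases hPeq : P = S
  · rw [hPeq]; exact hSa
  by_contra hna
  haveI : Finite P := finite_of_le hPS
  have hAle := autInducedBy_le_autGroup F hPS
  have hAp : IsPGroup p (autInducedBy S P) := autInducedBy_isPGroup hS P
  -- a Sylow subgroup of Aut_F(P) containing Aut_S(P)
  obtain ⟨R, hR⟩ := (hAp.comap_subtype (K := F.autGroup P)).exists_le_sylow
  have hRne : (R : Subgroup (F.autGroup P)) ≠ (autInducedBy S P).subgroupOf (F.autGroup P) :=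
    fun h => hna ⟨hPS, R, h⟩
  let R' : Subgroup (MulAut P) := (R : Subgroup (F.autGroup P)).map (F.autGroup P).subtype
  have hR'p : IsPGroup p R' := R.isPGroup'.map _
  have hAR' : autInducedBy S P ≤ R' := by
    intro a ha
    exact ⟨⟨a, hAle ha⟩, hR (by simpa [Subgroup.mem_subgroupOf] using ha), rfl⟩
  have hne' : autInducedBy S P ≠ R' := by
    intro h
    apply hRne
    ext a
    constructor
    · intro ha
      rw [Subgroup.mem_subgroupOf, h]
      exact ⟨a, ha, rfl⟩
    · intro ha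
      exact hR ha
  obtain ⟨α, hαN, hαA⟩ := exists_mem_normalizerIn_not_mem hR'p hAR' hne'
  have hαX : α ∈ F.autGroup P := by
    obtain ⟨a, -, rfl⟩ := hαN.1
    exact a.2
  obtain ⟨b, hb⟩ := hR'p ⟨α, hαN.1⟩
  have hαb : α ^ (p ^ b) = 1 := by
    have := congrArg (fun z : R' => (z : MulAut P)) hb
    exact this
  have hαIso : α ∈ Iso F P P := (mem_autGroup_iff F hPS α).mp hαX
  -- extend α to N_S(P)
  have hPN : P ≤ normalizerIn S P := le_normalizerIn hPS
  obtain ⟨ψ, hψ, hψα⟩ := receptive_extend F (hrec P hPn) hαIso (range_subtype_comp α)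
    (normalizerIn S P) hPN (by
      intro g hg
      refine ⟨hg.1, hg.2, ?_⟩
      have hcg : P.normalizerMonoidHom ⟨g, hg.2⟩ ∈ autInducedBy S P := by
        rw [mem_autInducedBy_iff]
        exact ⟨g, hg.1, hg.2, fun y => rfl⟩
      have hconj : α * P.normalizerMonoidHom ⟨g, hg.2⟩ * α⁻¹ ∈ autInducedBy S P :=
        (Subgroup.mem_normalizer_iff.mp hαN.2 _).mp hcg
      rw [mem_autInducedBy_iff] at hconj
      obtain ⟨h, hhS, -, hh⟩ := hconj
      refine ⟨h, hhS, ?_⟩
      intro x hx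
      have h1 := hh (α x)
      have h2 : (α * P.normalizerMonoidHom ⟨g, hg.2⟩ * α⁻¹) (α x) = α ⟨g * (x : Ω) * g⁻¹, hx⟩ := by
        simp only [MulAut.mul_apply, MulAut.inv_apply_self]
        rfl
      rw [h2] at h1
      exact h1)
  have hψα' : ∀ x : P, ψ ⟨x, hPN x.2⟩ = ((α x : P) : Ω) := hψα
  have himg : (P.subgroupOf (normalizerIn S P)).map ψ = P := by
    ext y
    constructor
    · rintro ⟨x, hx, rfl⟩
      have hxP : (x : Ω) ∈ P := by simpa [Subgroup.mem_subgroupOf] using hx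
      have := hψα' ⟨x, hxP⟩
      have h5 : ψ x = ψ ⟨((⟨x, hxP⟩ : P) : Ω), hPN hxP⟩ := rfl
      rw [h5, this]
      exact (α ⟨x, hxP⟩).2
    · intro hy
      refine ⟨⟨(α.symm ⟨y, hy⟩ : P), hPN (α.symm ⟨y, hy⟩).2⟩, ?_, ?_⟩
      · simp [Subgroup.mem_subgroupOf]
      · rw [hψα']
        simp
  have hvals := map_normalizer_vals F hψ hPN le_rfl himg
  have hψinj := F.injective_of_mem hψ
  haveI := finite_normalizerIn (S := S) P
  have hrange : ψ.range = normalizerIn S P := by
    apply Subgroup.eq_of_le_of_card_ge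
    · rintro _ ⟨x, rfl⟩
      exact hvals x
    · exact (Nat.card_congr (MonoidHom.ofInjective hψinj).toEquiv).le
  obtain ⟨αbar, hαbar, hαbarψ⟩ := iso_of_hom F hψ hrange
  have hNS : normalizerIn S P ≤ S := inf_le_left
  -- powers of αbar restrict to powers of α
  have hpow : ∀ (k : ℕ) (x : P), (((αbar ^ k : MulAut (normalizerIn S P)) ⟨x, hPN x.2⟩ :
      normalizerIn S P) : Ω) = (((α ^ k : MulAut P) x : P) : Ω) := by
    intro k
    induction k with
    | zero => intro x; simp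
    | succ k ih =>
      intro x
      rw [pow_succ, pow_succ, MulAut.mul_apply, MulAut.mul_apply]
      have h1 : αbar ⟨x, hPN x.2⟩ = ⟨(α x : P), hPN (α x).2⟩ := by
        apply Subtype.ext
        rw [hαbarψ]; exact hψα' x
      rw [h1]
      exact ih (α x)
  obtain ⟨k, hk1, a, hka⟩ := exists_pow_pPower p αbar b
  have hαk : α ^ k = α := pow_eq_self_of_modEq α _ k hαb hk1
  set β : MulAut (normalizerIn S P) := αbar ^ k with hβ
  have hβP : ∀ x : P, ((β ⟨x, hPN x.2⟩ : normalizerIn S P) : Ω) = ((α x : P) : Ω) := by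
    intro x
    rw [hβ, hpow k x, hαk]
  have hβX : β ∈ F.autGroup (normalizerIn S P) :=
    Subgroup.pow_mem _ ((mem_autGroup_iff F hNS αbar).mpr hαbar) k
  -- a fully normalized conjugate M of N_S(P)
  obtain ⟨M, hNM, hMn⟩ := exists_fullyNormalized F hNS
  have hMS : M ≤ S := hMn.1
  haveI : Finite M := finite_of_le hMS
  obtain ⟨θ₀, hθ₀⟩ := (isConj_iff_iso F).mp hNM
  have hcardNM : Nat.card (normalizerIn S P) = Nat.card M := Nat.card_congr θ₀.toEquiv
  have hcardlt : Nat.card P < Nat.card M := by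
    rw [← hcardNM]; exact card_lt_card_normalizerIn hS hPS hPeq
  obtain ⟨-, RM, hRM⟩ := IH M hMn hcardlt
  have hβ'X : MulAut.congr θ₀ β ∈ F.autGroup M := congr_mem_autGroup F hθ₀ hβX
  have hzp : IsPGroup p (Subgroup.zpowers (MulAut.congr θ₀ β)) := by
    rintro ⟨g, hg⟩
    obtain ⟨z, rfl⟩ := Subgroup.mem_zpowers_iff.mp hg
    refine ⟨a, ?_⟩
    apply Subtype.ext
    show ((MulAut.congr θ₀ β) ^ z) ^ (p ^ a) = 1
    rw [← zpow_natCast, ← zpow_mul, mul_comm, zpow_mul, zpow_natCast, ← map_pow, hka, map_one,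
      one_zpow]
  obtain ⟨χ, hχ, hχle⟩ := exists_cj_le_of_sylow (F.autGroup M) (autInducedBy S M)
    (Subgroup.zpowers (MulAut.congr θ₀ β)) (by rw [Subgroup.zpowers_le]; exact hβ'X) hzp ⟨RM, hRM⟩
  have hχIso : χ ∈ Iso F M M := (mem_autGroup_iff F hMS χ).mp hχ
  have hθ : θ₀.trans χ ∈ Iso F (normalizerIn S P) M := iso_trans F hθ₀ hχIso
  set θ := θ₀.trans χ with hθdef
  have hconjmem : χ * MulAut.congr θ₀ β * χ⁻¹ ∈ autInducedBy S M :=
    hχle (cj_mem χ _ (Subgroup.mem_zpowers _))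
  rw [mem_autInducedBy_iff] at hconjmem
  obtain ⟨s, hsS, hsNM, hs⟩ := hconjmem
  have hs' : ∀ y : normalizerIn S P, ((θ (β y) : M) : Ω) = s * ((θ y : M) : Ω) * s⁻¹ := by
    intro y
    have h1 := hs (θ y)
    rw [← h1]
    simp [hθdef, MulAut.congr]
  -- the image P' of P
  let P' : Subgroup Ω := (P.subgroupOf (normalizerIn S P)).map (M.subtype.comp θ.toMonoidHom)
  have hP'mem : ∀ x : P, ((θ ⟨x, hPN x.2⟩ : M) : Ω) ∈ P' := by
    intro x
    exact ⟨⟨x, hPN x.2⟩, by simp [Subgroup.mem_subgroupOf], rfl⟩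
  have hP'M : P' ≤ M := by
    rintro _ ⟨x, -, rfl⟩
    exact (θ x).2
  have hP'S : P' ≤ S := hP'M.trans hMS
  haveI : Finite P' := finite_of_le hP'S
  have hPP' : F.IsConj P P' := by
    refine ⟨(M.subtype.comp θ.toMonoidHom).comp (Subgroup.inclusion hPN), restrict_mem F hPN hθ, ?_⟩
    ext y
    constructor
    · rintro ⟨x, rfl⟩
      exact hP'mem x
    · rintro ⟨x, hx, rfl⟩
      have hxP : (x : Ω) ∈ P := by simpa [Subgroup.mem_subgroupOf] using hx
      exact ⟨⟨x, hxP⟩, rfl⟩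
  have hMle : M ≤ normalizerIn S P' := by
    intro m hm
    refine ⟨hMS hm, ?_⟩
    haveI : Finite ((P' : Set Ω)) := ‹Finite P'›
    apply Subgroup.mem_normalizer_fintype
    rintro _ ⟨x, hx, rfl⟩
    have hxP : (x : Ω) ∈ P := by simpa [Subgroup.mem_subgroupOf] using hx
    set n := θ.symm ⟨m, hm⟩ with hn
    have hmn : m = ((θ n : M) : Ω) := by rw [hn]; simp
    have hnx : (n : Ω) * (x : Ω) * (n : Ω)⁻¹ ∈ P :=
      (Subgroup.mem_normalizer_iff.mp n.2.2 _).mp hxP
    have h1 : m * (M.subtype.comp θ.toMonoidHom) x * m⁻¹ =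
        ((θ (n * x * n⁻¹) : M) : Ω) := by
      rw [map_mul, map_mul, map_inv, hmn]; rfl
    rw [h1]
    exact hP'mem ⟨_, hnx⟩
  have hMeq : M = normalizerIn S P' := by
    haveI := finite_normalizerIn (S := S) P'
    apply Subgroup.eq_of_le_of_card_ge hMle
    rw [← hcardNM]
    exact hPn.2 P' hPP'
  have hsP' : s ∈ Subgroup.normalizer (P' : Set Ω) := by
    haveI : Finite ((P' : Set Ω)) := ‹Finite P'›
    apply Subgroup.mem_normalizer_fintype
    rintro _ ⟨x, hx, rfl⟩
    have hxP : (x : Ω) ∈ P := by simpa [Subgroup.mem_subgroupOf] using hx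
    have h1 := hs' x
    have h2 : (M.subtype.comp θ.toMonoidHom) x = ((θ x : M) : Ω) := rfl
    rw [h2, ← h1]
    have h3 : β x = ⟨(α ⟨x, hxP⟩ : P), hPN (α ⟨x, hxP⟩).2⟩ := by
      apply Subtype.ext
      exact hβP ⟨x, hxP⟩
    rw [h3]
    exact hP'mem _
  have hsM : s ∈ M := by
    rw [hMeq]; exact ⟨hsS, hsP'⟩
  set n := θ.symm ⟨s, hsM⟩ with hn
  have hsn : s = ((θ n : M) : Ω) := by rw [hn]; simp
  apply hαA
  rw [mem_autInducedBy_iff]
  refine ⟨(n : Ω), n.2.1, n.2.2, ?_⟩
  intro x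
  have h1 := hs' ⟨x, hPN x.2⟩
  have hnx : (n : Ω) * (x : Ω) * (n : Ω)⁻¹ ∈ normalizerIn S P :=
    Subgroup.mul_mem _ (Subgroup.mul_mem _ n.2 (hPN x.2)) (Subgroup.inv_mem _ n.2)
  have h2 : s * ((θ ⟨x, hPN x.2⟩ : M) : Ω) * s⁻¹ =
      ((θ (n * ⟨x, hPN x.2⟩ * n⁻¹) : M) : Ω) := by
    rw [map_mul, map_mul, map_inv, hsn]; rfl
  rw [h2] at h1
  have h3 := θ.injective (Subtype.ext h1)
  rw [← hβP x, h3]
  rfl

theorem top_fullyNormalized' [Finite S] (F : FusionSystem S) : F.IsFullyNormalized S := by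
  refine ⟨le_rfl, ?_⟩
  intro Q _
  have h1 : normalizerIn S S = S := le_antisymm inf_le_left (le_normalizerIn le_rfl)
  rw [h1]
  exact Subgroup.card_le_of_le inf_le_left

/-- **Stancu's theorem**: saturation is equivalent to `S` being fully automized together with
receptivity of all fully normalized subgroups. -/
theorem stancu [Finite S] {p : ℕ} [Fact p.Prime] (hS : IsPGroup p S) (F : FusionSystem S) :
    F.IsSaturated p ↔
      (F.IsFullyAutomized p S ∧ ∀ P : Subgroup Ω, F.IsFullyNormalized P → F.IsReceptive P) := by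
  constructor
  · intro hF
    exact ⟨(fullyNormalized_facts hS F hF (top_fullyNormalized' F)).2,
      fun P hP => receptive_of_fullyNormalized hS F hF hP⟩
  · rintro ⟨hSa, hrec⟩
    have claim : ∀ (n : ℕ) (P : Subgroup Ω), F.IsFullyNormalized P →
        Nat.card S - Nat.card P = n → F.IsFullyAutomized p P := by
      intro n
      induction n using Nat.strong_induction_on with
      | _ n ih =>
        intro P hPn hn
        apply fullyAutomized_of_ih hS F hSa hrec hPn
        intro M hMn hcard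
        have hMle : Nat.card M ≤ Nat.card S := Subgroup.card_le_of_le hMn.1
        exact ih (Nat.card S - Nat.card M) (by omega) M hMn rfl
    intro P hP
    obtain ⟨Q, hPQ, hQn⟩ := exists_fullyNormalized F hP
    exact ⟨Q, hPQ, claim _ Q hQn rfl, hrec Q hQn⟩

end Cfsg.Agent.Lib.Helper8_Stancu
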