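import Mathlib
import Cfsg.Prelude.Def_FusionSystem
import Cfsg.Agent.Lib.Helper8_Frobenius
import Cfsg.Agent.Lib.Helper8_Stancu
import Cfsg.Agent.S5086

set_option autoImplicit false
set_option linter.style.haveILetI false
set_option linter.unusedVariables false
open Cfsg

namespace Cfsg.Agent.Lib.Helper8_NormalCrit

open Cfsg.FusionSystem
open Cfsg.Agent.Lib.Helper8_Fusion
open Cfsg.Agent.Lib.Helper8_GroupFusion
open Cfsg.Agent.Lib.Helper8_Saturated
open Cfsg.Agent.Lib.Helper8_Alperin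
open Cfsg.Agent.Lib.Helper8_Frobenius
open Cfsg.Agent.Lib.Helper8_Stancu

variable {Ω : Type*} [Group Ω] {S : Subgroup Ω}

/-- Powers of an automorphism acting on some elements as conjugation by `n`. -/
theorem pow_apply_conj {P R : Subgroup Ω} (β : MulAut P) (n : Ω) (hn : n ∈ R)
    (hβ : ∀ x : P, (x : Ω) ∈ R → ((β x : P) : Ω) = n * x * n⁻¹) :
    ∀ (j : ℕ) (x : P), (x : Ω) ∈ R → (((β ^ j) x : P) : Ω) = n ^ j * x * (n ^ j)⁻¹ := by
  intro j
  induction j with
  | zero => intro x _; simp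
  | succ j ih =>
    intro x hx
    have h1 : ((β x : P) : Ω) ∈ R := by
      rw [hβ x hx]
      exact R.mul_mem (R.mul_mem hn hx) (R.inv_mem hn)
    rw [pow_succ, MulAut.mul_apply, ih (β x) h1, hβ x hx, pow_succ]
    group

/-- If every map of the system between subgroups of `R` extends to an element of `Aut_F(R)`, then
`R` is contained in every centric radical subgroup. -/
theorem le_of_centric_radical_of_aut_extends [Finite S] {p : ℕ} [Fact p.Prime] (hS : IsPGroup p S)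
    (F : FusionSystem S) {R P : Subgroup Ω} (hRS : R ≤ S)
    (hext : ∀ (P' : Subgroup Ω) (hPR : P' ≤ R) (φ : P' →* Ω), φ ∈ F.Hom P' →
      ∃ α ∈ F.autGroup R, ∀ x : P', ((α (Subgroup.inclusion hPR x) : R) : Ω) = φ x)
    (hPc : F.IsCentric P) (hPr : F.IsRadical p P) : R ≤ P := by
  have hPS : P ≤ S := hPc.1
  have hCP : centralizerIn S P ≤ P := hPc.2 P (isConj_refl F hPS)
  haveI : Finite P := finite_of_le hPS
  have hRval : ∀ (P' : Subgroup Ω) (hPR : P' ≤ R) (φ : P' →* Ω), φ ∈ F.Hom P' →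
      ∀ x : P', φ x ∈ R := by
    intro P' hPR φ hφ x
    obtain ⟨α, -, hα⟩ := hext P' hPR φ hφ
    rw [← hα x]; exact (α _).2
  have hRnorm : ∀ s ∈ S, ∀ r ∈ R, s * r * s⁻¹ ∈ R := fun s hs r hr =>
    hRval R le_rfl _ (F.conj_mem hRS hs) ⟨r, hr⟩
  by_contra hRP
  have hPRS : P ⊔ R ≤ S := sup_le hPS hRS
  haveI : Finite ↥(P ⊔ R) := finite_of_le hPRS
  have hne : P ≠ P ⊔ R := fun h => hRP (by rw [h]; exact le_sup_right)
  obtain ⟨y, hyN, hyP⟩ := exists_mem_normalizerIn_not_mem (hS.to_le hPRS) le_sup_left hne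
  have hPnR : P ≤ Subgroup.normalizer (R : Set Ω) := by
    intro u hu
    rw [Subgroup.mem_normalizer_iff]
    intro h
    constructor
    · exact hRnorm u (hPS hu) h
    · intro hh
      have := hRnorm u⁻¹ (S.inv_mem (hPS hu)) _ hh
      have h2 : u⁻¹ * (u * h * u⁻¹) * u⁻¹⁻¹ = h := by group
      rw [h2] at this
      exact this
  have hy' : y ∈ ((P ⊔ R : Subgroup Ω) : Set Ω) := hyN.1
  rw [Subgroup.coe_mul_of_left_le_normalizer_right P R hPnR] at hy'
  obtain ⟨u, hu, r, hr, rfl⟩ := Set.mem_mul.mp hy'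
  have hu' : u ∈ P := hu
  have hr' : r ∈ R := hr
  have hrN : r ∈ Subgroup.normalizer (P : Set Ω) := by
    have h1 : r = u⁻¹ * (u * r) := by group
    rw [h1]
    exact Subgroup.mul_mem _ (Subgroup.inv_mem _ (Subgroup.le_normalizer hu')) hyN.2
  have hrP : r ∉ P := fun h => hyP (P.mul_mem hu' h)
  apply hrP
  have hrS : r ∈ S := hRS hr'
  -- invariance of `P ∩ R` under `Aut_F(P)`
  have hinv : ∀ (β : MulAut P), β ∈ F.autGroup P → ∀ x : P, (x : Ω) ∈ R →
      ((β x : P) : Ω) ∈ R := by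
    intro β hβ x hx
    have hβ' := (mem_autGroup_iff F hPS β).mp hβ
    exact hRval (P ⊓ R) inf_le_right _ (restrict_mem F inf_le_left hβ') ⟨x, ⟨x.2, hx⟩⟩
  -- the normal `p`-subgroup `K` of `Aut_F(P)`
  let K : Subgroup (F.autGroup P) :=
    { carrier := {β | (∀ x : P, (x : Ω)⁻¹ * (((β : MulAut P) x : P) : Ω) ∈ R) ∧
        ∃ n ∈ R, ∀ x : P, (x : Ω) ∈ R → (((β : MulAut P) x : P) : Ω) = n * x * n⁻¹}
      one_mem' := ⟨fun x => by simp [R.one_mem], 1, R.one_mem, fun x _ => by simp⟩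
      mul_mem' := by
        rintro β₁ β₂ ⟨h1a, n₁, hn₁, h1b⟩ ⟨h2a, n₂, hn₂, h2b⟩
        refine ⟨fun x => ?_, n₁ * n₂, R.mul_mem hn₁ hn₂, fun x hx => ?_⟩
        · have hw : (((x⁻¹ * (β₂ : MulAut P) x : P)) : Ω) ∈ R := h2a x
          have h3 := hinv β₁ β₁.2 _ hw
          have h4 : (x : Ω)⁻¹ * ((((β₁ * β₂ : F.autGroup P) : MulAut P) x : P) : Ω) =
              ((x : Ω)⁻¹ * (((β₁ : MulAut P) x : P) : Ω)) *
                (((β₁ : MulAut P) (x⁻¹ * (β₂ : MulAut P) x) : P) : Ω) := by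
            have : ((β₁ * β₂ : F.autGroup P) : MulAut P) x = (β₁ : MulAut P) ((β₂ : MulAut P) x) := rfl
            rw [this, map_mul, map_inv]
            simp only [Subgroup.coe_mul, Subgroup.coe_inv]
            group
          rw [h4]
          exact R.mul_mem (h1a x) h3
        · have hx2 : ((((β₂ : MulAut P) x : P)) : Ω) ∈ R := hinv β₂ β₂.2 x hx
          have : ((β₁ * β₂ : F.autGroup P) : MulAut P) x = (β₁ : MulAut P) ((β₂ : MulAut P) x) := rfl
          rw [this, h1b _ hx2, h2b x hx]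
          group
      inv_mem' := by
        rintro β ⟨ha, n, hn, hb⟩
        refine ⟨fun x => ?_, n⁻¹, R.inv_mem hn, fun x hx => ?_⟩
        · have h1 := ha ((β : MulAut P)⁻¹ x)
          have h2 : (β : MulAut P) ((β : MulAut P)⁻¹ x) = x := by simp
          rw [h2] at h1
          have h3 : (x : Ω)⁻¹ * ((((β⁻¹ : F.autGroup P) : MulAut P) x : P) : Ω) =
              ((((β : MulAut P)⁻¹ x : P) : Ω)⁻¹ * (x : Ω))⁻¹ := by
            show (x : Ω)⁻¹ * (((β : MulAut P)⁻¹ x : P) : Ω) = _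
            group
          rw [h3]
          exact R.inv_mem h1
        · have hy : ((((β : MulAut P)⁻¹ x : P)) : Ω) ∈ R :=
            hinv _ (Subgroup.inv_mem _ β.2) x hx
          have h1 := hb _ hy
          have h2 : (β : MulAut P) ((β : MulAut P)⁻¹ x) = x := by simp
          rw [h2] at h1
          show (((β : MulAut P)⁻¹ x : P) : Ω) = n⁻¹ * x * n⁻¹⁻¹
          rw [h1]
          group }
  have hKnormal : K.Normal := by
    constructor
    rintro β ⟨ha, n, hn, hb⟩ g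
    have hg' := (mem_autGroup_iff F hPS (g : MulAut P)).mp g.2
    have hgres := restrict_mem F (inf_le_left : P ⊓ R ≤ P) hg'
    obtain ⟨αh, -, hαh⟩ := hext (P ⊓ R) inf_le_right _ hgres
    have hconj : ∀ x : P, (((g * β * g⁻¹ : F.autGroup P) : MulAut P) x) =
        (g : MulAut P) ((β : MulAut P) ((g : MulAut P)⁻¹ x)) := fun x => rfl
    refine ⟨fun x => ?_, ((αh ⟨n, hn⟩ : R) : Ω), (αh ⟨n, hn⟩).2, fun x hx => ?_⟩
    · rw [hconj]
      set z := (g : MulAut P)⁻¹ x with hz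
      have hxz : x = (g : MulAut P) z := by rw [hz]; simp
      have h1 := hinv _ g.2 (z⁻¹ * (β : MulAut P) z) (ha z)
      rw [map_mul, map_inv] at h1
      rw [hxz]
      exact h1
    · rw [hconj]
      set z := (g : MulAut P)⁻¹ x with hz
      have hxz : x = (g : MulAut P) z := by rw [hz]; simp
      have hzR : (z : Ω) ∈ R := hinv _ (Subgroup.inv_mem _ g.2) x hx
      have hβz : (((β : MulAut P) z : P) : Ω) = n * z * n⁻¹ := hb z hzR
      have hβzR : (((β : MulAut P) z : P) : Ω) ∈ R := hinv _ β.2 z hzR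
      have h1 := hαh ⟨_, ⟨((β : MulAut P) z).2, hβzR⟩⟩
      have h2 := hαh ⟨_, ⟨z.2, hzR⟩⟩
      have h3 : (((g : MulAut P) ((β : MulAut P) z) : P) : Ω) =
          ((αh ⟨(((β : MulAut P) z : P) : Ω), hβzR⟩ : R) : Ω) := h1.symm
      have h4 : (((g : MulAut P) z : P) : Ω) = ((αh ⟨(z : Ω), hzR⟩ : R) : Ω) := h2.symm
      rw [h3, hxz, h4]
      have h5 : (⟨(((β : MulAut P) z : P) : Ω), hβzR⟩ : R) =
          ⟨n, hn⟩ * ⟨(z : Ω), hzR⟩ * (⟨n, hn⟩ : R)⁻¹ := Subtype.ext hβz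
      rw [h5, map_mul, map_mul, map_inv]
      rfl
  have hKp : IsPGroup p K := by
    apply isPGroup_of_coprime_trivial
    rintro β ⟨ha, n, hn, hb⟩ m hm hβm
    have hβm' : (β : MulAut P) ^ m = 1 := by
      have := congrArg (fun z : F.autGroup P => (z : MulAut P)) hβm
      simpa using this
    -- `β` fixes `P ∩ R` pointwise
    have hnp : ∃ k : ℕ, n ^ p ^ k = 1 := by
      obtain ⟨k, hk⟩ := (hS.to_le hRS) ⟨n, hn⟩
      exact ⟨k, by simpa using congrArg Subtype.val hk⟩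
    obtain ⟨k, hk⟩ := hnp
    have hcop : Nat.Coprime m (p ^ k) := Nat.Coprime.pow_right k hm
    obtain ⟨j, hj1, hj0⟩ := Nat.chineseRemainder hcop 1 0
    have hβj : (β : MulAut P) ^ j = (β : MulAut P) := pow_eq_self_of_modEq _ m j hβm' hj1
    have hnj : n ^ j = 1 := by
      obtain ⟨t, rfl⟩ := (Nat.modEq_zero_iff_dvd).mp hj0
      rw [pow_mul, hk, one_pow]
    have hfix : ∀ x : P, (x : Ω) ∈ R → (β : MulAut P) x = x := by
      intro x hx
      apply Subtype.ext
      have := pow_apply_conj (β : MulAut P) n hn hb j x hx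
      rw [hβj, hnj] at this
      rw [this]; simp
    apply Subtype.ext
    show (β : MulAut P) = 1
    ext x
    have hw : ((x⁻¹ * (β : MulAut P) x : P) : Ω) ∈ R := ha x
    have h1 := eq_one_of_coprime_fix (hS.to_le hPS) (β : MulAut P) m hm hβm' x
      (x⁻¹ * (β : MulAut P) x) (by group) (hfix _ hw)
    have h2 : (β : MulAut P) x = x * (x⁻¹ * (β : MulAut P) x) := by group
    rw [h2, h1, mul_one]
    rfl
  have hle : K ≤ pCore p (F.autGroup P) := Cfsg.Agent.Lib.Helper4_PCore.le_pCore K hKnormal hKp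
  have hcr : P.normalizerMonoidHom ⟨r, hrN⟩ ∈ F.autGroup P := conjAut_mem F hPS hrS hrN
  have hcrK : (⟨_, hcr⟩ : F.autGroup P) ∈ K := by
    refine ⟨fun x => ?_, r, hr', fun x _ => rfl⟩
    show (x : Ω)⁻¹ * (r * (x : Ω) * r⁻¹) ∈ R
    have h1 := hRnorm (x : Ω)⁻¹ (S.inv_mem (hPS x.2)) r hr'
    have h2 : (x : Ω)⁻¹ * (r * (x : Ω) * r⁻¹) = ((x : Ω)⁻¹ * r * (x : Ω)⁻¹⁻¹) * r⁻¹ := by group
    rw [h2]
    exact R.mul_mem h1 (R.inv_mem hr')
  have hInn : P.normalizerMonoidHom ⟨r, hrN⟩ ∈ Inn P := by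
    rw [← hPr.2]
    exact ⟨⟨_, hcr⟩, hle hcrK, rfl⟩
  exact mem_of_conj_mem_inn hPS hCP hrS (fun y => rfl) hInn

/-- If every map of the system between subgroups of `R` extends to an element of `Aut_F(R)`, then
`R` is normal in the saturated system. -/
theorem isNormal_of_aut_extends [Finite S] {p : ℕ} [Fact p.Prime] (hS : IsPGroup p S)
    (F : FusionSystem S) (hF : F.IsSaturated p) {R : Subgroup Ω} (hRS : R ≤ S)
    (hext : ∀ (P' : Subgroup Ω) (hPR : P' ≤ R) (φ : P' →* Ω), φ ∈ F.Hom P' →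
      ∃ α ∈ F.autGroup R, ∀ x : P', ((α (Subgroup.inclusion hPR x) : R) : Ω) = φ x) :
    F.IsNormal R := by
  refine (Cfsg.Agent.S5086.result p hS F hF R).mpr ⟨⟨hRS, ?_⟩, fun P hc hr =>
    le_of_centric_radical_of_aut_extends hS F hRS hext hc hr⟩
  intro P' hPR φ hφ x
  obtain ⟨α, -, hα⟩ := hext P' hPR φ hφ
  rw [← hα x]; exact (α _).2

end Cfsg.Agent.Lib.Helper8_NormalCrit
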