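import Mathlib
import Cfsg.Prelude.Def_FusionSystem
import Cfsg.Prelude.Def_PLocal
import Cfsg.Agent.Lib.Helper8_NormalCrit
import Cfsg.Agent.Lib.Helper8_Omega
import Cfsg.Agent.S5086

set_option autoImplicit false
set_option linter.style.haveILetI false
set_option linter.unusedVariables false
open Cfsg

namespace Cfsg.Agent.Lib.Helper8_Series

open Cfsg.FusionSystem
open Cfsg.Agent.Lib.Helper8_Fusion
open Cfsg.Agent.Lib.Helper8_GroupFusion
open Cfsg.Agent.Lib.Helper8_Saturated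
open Cfsg.Agent.Lib.Helper8_Alperin
open Cfsg.Agent.Lib.Helper8_Frobenius
open Cfsg.Agent.Lib.Helper8_Stancu
open scoped commutatorElement

variable {Ω : Type*} [Group Ω] {S : Subgroup Ω}

/-- Automorphisms in the system preserve strongly closed subgroups. -/
theorem aut_mem_of_stronglyClosed (F : FusionSystem S) {R D : Subgroup Ω} (hRS : R ≤ S)
    (hD : F.StronglyClosed D) (β : MulAut R) (hβ : β ∈ F.autGroup R) (x : R)
    (hx : (x : Ω) ∈ D) : ((β x : R) : Ω) ∈ D := by
  have hβ' := (mem_autGroup_iff F hRS β).mp hβ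
  exact hD.2 (R ⊓ D) inf_le_right _ (restrict_mem F inf_le_left hβ') ⟨x, ⟨x.2, hx⟩⟩

/-- A strongly closed subgroup is normalized by `S`. -/
theorem conj_mem_of_stronglyClosed (F : FusionSystem S) {D : Subgroup Ω}
    (hD : F.StronglyClosed D) {s : Ω} (hs : s ∈ S) {d : Ω} (hd : d ∈ D) : s * d * s⁻¹ ∈ D :=
  hD.2 D le_rfl _ (F.conj_mem hD.1 hs) ⟨d, hd⟩

/-- **Series criterion, key step**: a strongly closed subgroup `Q` whose small elements lie in the
top of a series of strongly closed subgroups centralized modulo each other by `Q` lies in every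
centric radical subgroup. -/
theorem le_of_centric_radical_of_series [Finite S] {p : ℕ} [Fact p.Prime] (hS : IsPGroup p S)
    (F : FusionSystem S) {Q R : Subgroup Ω} (hQ : F.StronglyClosed Q) (n : ℕ)
    (C : Fin (n + 1) → Subgroup Ω) (h0 : C 0 = ⊥)
    (hn : ∀ x ∈ Q, (x ^ p = 1 ∨ (p = 2 ∧ x ^ 4 = 1)) → x ∈ C (Fin.last n))
    (hsc : ∀ i, F.StronglyClosed (C i)) (hcomm : ∀ i : Fin n, ⁅C i.succ, Q⁆ ≤ C i.castSucc)
    (hRc : F.IsCentric R) (hRr : F.IsRadical p R) : Q ≤ R := by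
  have hRS : R ≤ S := hRc.1
  have hQS : Q ≤ S := hQ.1
  have hCR : centralizerIn S R ≤ R := hRc.2 R (isConj_refl F hRS)
  haveI : Finite R := finite_of_le hRS
  have hRp : IsPGroup p R := hS.to_le hRS
  have hQnorm : ∀ s ∈ S, ∀ q ∈ Q, s * q * s⁻¹ ∈ Q := fun s hs q hq =>
    conj_mem_of_stronglyClosed F hQ hs hq
  by_contra hQR
  have hRQS : R ⊔ Q ≤ S := sup_le hRS hQS
  haveI : Finite ↥(R ⊔ Q) := finite_of_le hRQS
  have hne : R ≠ R ⊔ Q := fun h => hQR (by rw [h]; exact le_sup_right)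
  obtain ⟨y, hyN, hyR⟩ := exists_mem_normalizerIn_not_mem (hS.to_le hRQS) le_sup_left hne
  have hRnQ : R ≤ Subgroup.normalizer (Q : Set Ω) := by
    intro u hu
    rw [Subgroup.mem_normalizer_iff]
    intro h
    constructor
    · exact hQnorm u (hRS hu) h
    · intro hh
      have := hQnorm u⁻¹ (S.inv_mem (hRS hu)) _ hh
      have h2 : u⁻¹ * (u * h * u⁻¹) * u⁻¹⁻¹ = h := by group
      rw [h2] at this
      exact this
  have hy' : y ∈ ((R ⊔ Q : Subgroup Ω) : Set Ω) := hyN.1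
  rw [Subgroup.coe_mul_of_left_le_normalizer_right R Q hRnQ] at hy'
  obtain ⟨u, hu, r, hr, rfl⟩ := Set.mem_mul.mp hy'
  have hu' : u ∈ R := hu
  have hr' : r ∈ Q := hr
  have hrN : r ∈ Subgroup.normalizer (R : Set Ω) := by
    have h1 : r = u⁻¹ * (u * r) := by group
    rw [h1]
    exact Subgroup.mul_mem _ (Subgroup.inv_mem _ (Subgroup.le_normalizer hu')) hyN.2
  have hrR : r ∉ R := fun h => hyR (R.mul_mem hu' h)
  apply hrR
  have hrS : r ∈ S := hQS hr'
  -- invariance
  have hinvQ : ∀ (β : MulAut R), β ∈ F.autGroup R → ∀ x : R, (x : Ω) ∈ Q →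
      ((β x : R) : Ω) ∈ Q := fun β hβ x hx => aut_mem_of_stronglyClosed F hRS hQ β hβ x hx
  have hinvC : ∀ i, ∀ (β : MulAut R), β ∈ F.autGroup R → ∀ x : R, (x : Ω) ∈ C i →
      ((β x : R) : Ω) ∈ C i := fun i β hβ x hx => aut_mem_of_stronglyClosed F hRS (hsc i) β hβ x hx
  -- the stability group `K`
  have hmulfact : ∀ (β₁ β₂ : F.autGroup R) (x : R),
      (x : Ω)⁻¹ * ((((β₁ * β₂ : F.autGroup R) : MulAut R) x : R) : Ω) =
        ((x : Ω)⁻¹ * (((β₁ : MulAut R) x : R) : Ω)) *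
          (((β₁ : MulAut R) (x⁻¹ * (β₂ : MulAut R) x) : R) : Ω) := by
    intro β₁ β₂ x
    have : ((β₁ * β₂ : F.autGroup R) : MulAut R) x = (β₁ : MulAut R) ((β₂ : MulAut R) x) := rfl
    rw [this, map_mul, map_inv]
    simp only [Subgroup.coe_mul, Subgroup.coe_inv]
    group
  let K : Subgroup (F.autGroup R) :=
    { carrier := {β | (∀ x : R, (x : Ω)⁻¹ * (((β : MulAut R) x : R) : Ω) ∈ Q) ∧
        ∀ i : Fin n, ∀ x : R, (x : Ω) ∈ C i.succ →
          (x : Ω)⁻¹ * (((β : MulAut R) x : R) : Ω) ∈ C i.castSucc}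
      one_mem' := ⟨fun x => by simp [Q.one_mem], fun i x _ => by simp [(C i.castSucc).one_mem]⟩
      mul_mem' := by
        rintro β₁ β₂ ⟨h1a, h1b⟩ ⟨h2a, h2b⟩
        refine ⟨fun x => ?_, fun i x hx => ?_⟩
        · rw [hmulfact]
          have hw : (((x⁻¹ * (β₂ : MulAut R) x : R)) : Ω) ∈ Q := h2a x
          exact Q.mul_mem (h1a x) (hinvQ β₁ β₁.2 _ hw)
        · rw [hmulfact]
          have hw : (((x⁻¹ * (β₂ : MulAut R) x : R)) : Ω) ∈ C i.castSucc := h2b i x hx
          exact (C i.castSucc).mul_mem (h1b i x hx) (hinvC _ β₁ β₁.2 _ hw)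
      inv_mem' := by
        rintro β ⟨ha, hb⟩
        have hkey : ∀ x : R, (x : Ω)⁻¹ * ((((β⁻¹ : F.autGroup R) : MulAut R) x : R) : Ω) =
            ((((β : MulAut R)⁻¹ x : R) : Ω)⁻¹ *
              (((β : MulAut R) ((β : MulAut R)⁻¹ x) : R) : Ω))⁻¹ := by
          intro x
          have h2 : (β : MulAut R) ((β : MulAut R)⁻¹ x) = x := by simp
          rw [h2]
          show (x : Ω)⁻¹ * (((β : MulAut R)⁻¹ x : R) : Ω) = _
          group
        refine ⟨fun x => ?_, fun i x hx => ?_⟩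
        · rw [hkey]
          exact Q.inv_mem (ha _)
        · rw [hkey]
          apply (C i.castSucc).inv_mem
          apply hb i
          exact hinvC _ _ (Subgroup.inv_mem _ β.2) x hx }
  have hKnormal : K.Normal := by
    constructor
    rintro β ⟨ha, hb⟩ g
    have hconj : ∀ x : R, (((g * β * g⁻¹ : F.autGroup R) : MulAut R) x) =
        (g : MulAut R) ((β : MulAut R) ((g : MulAut R)⁻¹ x)) := fun x => rfl
    have hkey : ∀ x : R, (x : Ω)⁻¹ * ((((g * β * g⁻¹ : F.autGroup R) : MulAut R) x : R) : Ω) =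
        (((g : MulAut R) (((g : MulAut R)⁻¹ x)⁻¹ *
          (β : MulAut R) ((g : MulAut R)⁻¹ x)) : R) : Ω) := by
      intro x
      rw [hconj, map_mul, map_inv]
      have : (g : MulAut R) ((g : MulAut R)⁻¹ x) = x := by simp
      rw [this]
      rfl
    refine ⟨fun x => ?_, fun i x hx => ?_⟩
    · rw [hkey]
      exact hinvQ _ g.2 _ (ha _)
    · rw [hkey]
      apply hinvC _ _ g.2
      apply hb i
      exact hinvC _ _ (Subgroup.inv_mem _ g.2) x hx
  have hKp : IsPGroup p K := by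
    apply isPGroup_of_coprime_trivial
    rintro β ⟨ha, hb⟩ m hm hβm
    have hβm' : (β : MulAut R) ^ m = 1 := by
      have := congrArg (fun z : F.autGroup R => (z : MulAut R)) hβm
      simpa using this
    have hiter : ∀ (k : ℕ) (x : R),
        ((β : MulAut R).toMonoidHom)^[k] x = ((β : MulAut R) ^ k) x := by
      intro k
      induction k with
      | zero => intro x; simp
      | succ k ih =>
        intro x
        rw [Function.iterate_succ_apply', ih, pow_succ', MulAut.mul_apply]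
        rfl
    have hcf : ∀ x w : R, (β : MulAut R) x = x * w → (β : MulAut R) w = w → w = 1 :=
      fun x w hx hw => Cfsg.Agent.Lib.Helper8_Omega.eq_one_of_coprime_fix hRp
        (β : MulAut R).toMonoidHom m hm (fun y => by rw [hiter, hβm']; rfl) x w hx hw
    -- `β` fixes `R ∩ C i` pointwise
    have hfixC : ∀ (k : ℕ) (hk : k < n + 1) (x : R), (x : Ω) ∈ C ⟨k, hk⟩ →
        (β : MulAut R) x = x := by
      intro k
      induction k with
      | zero =>
        intro hk x hx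
        have h00 : (⟨0, hk⟩ : Fin (n + 1)) = 0 := rfl
        rw [h00, h0, Subgroup.mem_bot] at hx
        have : x = 1 := Subtype.ext hx
        rw [this, map_one]
      | succ k ih =>
        intro hk x hx
        have hk' : k < n := by omega
        have h1 : (⟨k + 1, hk⟩ : Fin (n + 1)) = (⟨k, hk'⟩ : Fin n).succ := rfl
        have h2 : (⟨k, by omega⟩ : Fin (n + 1)) = (⟨k, hk'⟩ : Fin n).castSucc := rfl
        rw [h1] at hx
        have hw := hb ⟨k, hk'⟩ x hx
        rw [← h2] at hw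
        have hw' : (((x⁻¹ * (β : MulAut R) x : R)) : Ω) ∈ C ⟨k, by omega⟩ := hw
        have hβw := ih (by omega) _ hw'
        have h3 := hcf x (x⁻¹ * (β : MulAut R) x) (by group) hβw
        have h4 : (β : MulAut R) x = x * (x⁻¹ * (β : MulAut R) x) := by group
        rw [h4, h3, mul_one]
    -- restriction to `R ∩ Q`
    let Rq : Subgroup R := Q.subgroupOf R
    have hRβ : ∀ y : Rq, (β : MulAut R) (y : R) ∈ Rq := fun y => hinvQ _ β.2 _ y.2
    let βq : Rq →* Rq := (((β : MulAut R).toMonoidHom).comp Rq.subtype).codRestrict Rq hRβ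
    have hiterq : ∀ (k : ℕ) (y : Rq), ((βq^[k] y : Rq) : R) = ((β : MulAut R) ^ k) (y : R) := by
      intro k
      induction k with
      | zero => intro y; simp
      | succ k ih =>
        intro y
        rw [Function.iterate_succ_apply', pow_succ', MulAut.mul_apply, ← ih]
        rfl
    have hqfix : ∀ y : Rq, βq y = y := by
      apply Cfsg.Agent.Lib.Helper8_Omega.omega (hRp.to_subgroup Rq) βq m hm
      · intro y
        apply Subtype.ext
        rw [hiterq, hβm']; rfl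
      · intro y hy
        apply Subtype.ext
        show (β : MulAut R) (y : R) = (y : R)
        apply hfixC n (by omega) _
        have hl : (⟨n, by omega⟩ : Fin (n + 1)) = Fin.last n := rfl
        rw [hl]
        apply hn _ y.2
        rcases hy with h1 | ⟨h2, h1⟩
        · left
          have := congrArg (fun z : Rq => ((z : R) : Ω)) h1
          simpa using this
        · right
          refine ⟨h2, ?_⟩
          have := congrArg (fun z : Rq => ((z : R) : Ω)) h1
          simpa using this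
    apply Subtype.ext
    show (β : MulAut R) = 1
    ext x
    have hw : ((x⁻¹ * (β : MulAut R) x : R)) ∈ Rq := ha x
    have hβw : (β : MulAut R) (x⁻¹ * (β : MulAut R) x) = x⁻¹ * (β : MulAut R) x :=
      congrArg Subtype.val (hqfix ⟨_, hw⟩)
    have h1 := hcf x (x⁻¹ * (β : MulAut R) x) (by group) hβw
    have h2 : (β : MulAut R) x = x * (x⁻¹ * (β : MulAut R) x) := by group
    rw [h2, h1, mul_one]
    rfl
  have hle : K ≤ pCore p (F.autGroup R) := Cfsg.Agent.Lib.Helper4_PCore.le_pCore K hKnormal hKp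
  have hcr : R.normalizerMonoidHom ⟨r, hrN⟩ ∈ F.autGroup R := conjAut_mem F hRS hrS hrN
  have hcrK : (⟨_, hcr⟩ : F.autGroup R) ∈ K := by
    refine ⟨fun x => ?_, fun i x hx => ?_⟩
    · show (x : Ω)⁻¹ * (r * (x : Ω) * r⁻¹) ∈ Q
      have h1 := hQnorm (x : Ω)⁻¹ (S.inv_mem (hRS x.2)) r hr'
      have h2 : (x : Ω)⁻¹ * (r * (x : Ω) * r⁻¹) = ((x : Ω)⁻¹ * r * (x : Ω)⁻¹⁻¹) * r⁻¹ := by group
      rw [h2]
      exact Q.mul_mem h1 (Q.inv_mem hr')
    · show (x : Ω)⁻¹ * (r * (x : Ω) * r⁻¹) ∈ C i.castSucc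
      apply hcomm i
      have h1 : (x : Ω)⁻¹ * (r * (x : Ω) * r⁻¹) = ⁅(x : Ω)⁻¹, r⁆ := by
        rw [commutatorElement_def]; group
      rw [h1]
      exact Subgroup.commutator_mem_commutator ((C i.succ).inv_mem hx) hr'
  have hInn : R.normalizerMonoidHom ⟨r, hrN⟩ ∈ Inn R := by
    rw [← hRr.2]
    exact ⟨⟨_, hcr⟩, hle hcrK, rfl⟩
  exact mem_of_conj_mem_inn hRS hCR hrS (fun y => rfl) hInn

/-- **Series criterion** for normality in a saturated fusion system. -/
theorem isNormal_of_series [Finite S] {p : ℕ} [Fact p.Prime] (hS : IsPGroup p S)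
    (F : FusionSystem S) (hF : F.IsSaturated p) {Q : Subgroup Ω} (hQ : F.StronglyClosed Q) (n : ℕ)
    (C : Fin (n + 1) → Subgroup Ω) (h0 : C 0 = ⊥)
    (hn : ∀ x ∈ Q, (x ^ p = 1 ∨ (p = 2 ∧ x ^ 4 = 1)) → x ∈ C (Fin.last n))
    (hsc : ∀ i, F.StronglyClosed (C i)) (hcomm : ∀ i : Fin n, ⁅C i.succ, Q⁆ ≤ C i.castSucc) :
    F.IsNormal Q :=
  (Cfsg.Agent.S5086.result p hS F hF Q).mpr ⟨hQ, fun R hc hr =>
    le_of_centric_radical_of_series hS F hQ n C h0 hn hsc hcomm hc hr⟩

/-! ### The converse: a series for a normal subgroup -/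

/-- If `P` is normal in `F`, every map between subgroups of `P` extends to all of `P`. -/
theorem exists_extension_top (F : FusionSystem S) {P : Subgroup Ω} (hP : F.IsNormal P)
    {A : Subgroup Ω} (hAP : A ≤ P) (φ : A →* Ω) (hφ : φ ∈ F.Hom A) :
    ∃ ψ ∈ F.Hom P, (∀ x : A, ψ (Subgroup.inclusion hAP x) = φ x) ∧ ∀ y : P, ψ y ∈ P := by
  obtain ⟨ψ₀, hψ₀, hext, hmap⟩ := hP.2 A φ hφ
  refine ⟨ψ₀.comp (Subgroup.inclusion le_sup_right), restrict_mem F le_sup_right hψ₀, ?_, ?_⟩
  · intro x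
    rw [← hext x]
    rfl
  · intro y
    have h1 : ψ₀ (Subgroup.inclusion le_sup_right y) ∈ (P.subgroupOf (A ⊔ P)).map ψ₀ := by
      refine ⟨Subgroup.inclusion le_sup_right y, ?_, rfl⟩
      rw [SetLike.mem_coe, Subgroup.mem_subgroupOf]
      exact y.2
    rw [hmap] at h1
    exact h1

theorem closure_invariant {P : Subgroup Ω} (ψ : P →* Ω) (G : Set Ω)
    (hG : ∀ g ∈ G, ∃ h : g ∈ P, ψ ⟨g, h⟩ ∈ Subgroup.closure G) :
    ∀ y : P, (y : Ω) ∈ Subgroup.closure G → ψ y ∈ Subgroup.closure G := by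
  have hle : Subgroup.closure G ≤ ((Subgroup.closure G).comap ψ).map P.subtype := by
    rw [Subgroup.closure_le]
    intro g hg
    obtain ⟨h, hψ⟩ := hG g hg
    exact ⟨⟨g, h⟩, hψ, rfl⟩
  intro y hy
  obtain ⟨y', hy', hyy⟩ := hle hy
  have : y' = y := Subtype.ext hyy
  rw [← this]
  exact hy'

/-- The descending series `Ω₁(P) ≥ [Ω₁(P), P] ≥ [Ω₁(P), P, P] ≥ ⋯`. -/
def omegaSeries (p : ℕ) (P : Subgroup Ω) : ℕ → Subgroup Ω
  | 0 => omegaOne p P
  | j + 1 => ⁅omegaSeries p P j, P⁆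

theorem omegaOne_le (p : ℕ) (P : Subgroup Ω) : omegaOne p P ≤ P := by
  unfold omegaOne
  rw [Subgroup.closure_le]
  intro x hx
  exact hx.1

theorem omegaSeries_le (p : ℕ) (P : Subgroup Ω) : ∀ j, omegaSeries p P j ≤ P := by
  intro j
  induction j with
  | zero => exact omegaOne_le p P
  | succ j ih =>
    show ⁅omegaSeries p P j, P⁆ ≤ P
    rw [Subgroup.commutator_le]
    intro a ha b hb
    rw [commutatorElement_def]
    exact P.mul_mem (P.mul_mem (P.mul_mem (ih ha) hb) (P.inv_mem (ih ha))) (P.inv_mem hb)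

theorem omegaSeries_invariant (p : ℕ) {P : Subgroup Ω} (ψ : P →* Ω) (hψ : ∀ y : P, ψ y ∈ P) :
    ∀ j, ∀ y : P, (y : Ω) ∈ omegaSeries p P j → ψ y ∈ omegaSeries p P j := by
  intro j
  induction j with
  | zero =>
    show ∀ y : P, (y : Ω) ∈ omegaOne p P → ψ y ∈ omegaOne p P
    unfold omegaOne
    apply closure_invariant
    rintro g ⟨hgP, hgp⟩
    refine ⟨hgP, Subgroup.subset_closure ⟨hψ _, ?_⟩⟩
    rw [← map_pow]
    have : (⟨g, hgP⟩ : P) ^ p = 1 := Subtype.ext hgp
    rw [this, map_one]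
  | succ j ih =>
    show ∀ y : P, (y : Ω) ∈ ⁅omegaSeries p P j, P⁆ → ψ y ∈ ⁅omegaSeries p P j, P⁆
    rw [Subgroup.commutator_def]
    apply closure_invariant
    rintro g ⟨a, ha, b, hb, rfl⟩
    have haP : a ∈ P := omegaSeries_le p P j ha
    have hgP : ⁅a, b⁆ ∈ P := by
      rw [commutatorElement_def]
      exact P.mul_mem (P.mul_mem (P.mul_mem haP hb) (P.inv_mem haP)) (P.inv_mem hb)
    refine ⟨hgP, Subgroup.subset_closure ⟨ψ ⟨a, haP⟩, ih ⟨a, haP⟩ ha, ψ ⟨b, hb⟩, hψ _, ?_⟩⟩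
    have : (⟨⁅a, b⁆, hgP⟩ : P) = ⁅(⟨a, haP⟩ : P), ⟨b, hb⟩⁆ := by
      apply Subtype.ext
      simp [commutatorElement_def]
    rw [this, map_commutatorElement]

theorem omegaSeries_le_lowerCentralSeries (p : ℕ) (P : Subgroup Ω) :
    ∀ j, omegaSeries p P j ≤ P.lowerCentralSeries j := by
  intro j
  induction j with
  | zero => exact omegaOne_le p P
  | succ j ih =>
    show ⁅omegaSeries p P j, P⁆ ≤ ⁅P.lowerCentralSeries j, P⁆
    exact Subgroup.commutator_mono ih le_rfl

theorem omegaSeries_antitone (p : ℕ) (P : Subgroup Ω) : Antitone (omegaSeries p P) := by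
  apply antitone_nat_of_succ_le
  intro j
  show ⁅omegaSeries p P j, P⁆ ≤ omegaSeries p P j
  rw [Subgroup.commutator_le]
  intro a ha b hb
  -- `⁅a, b⁆ = a * (b a⁻¹ b⁻¹)` and conjugation by `b` preserves the series
  have haP : a ∈ P := omegaSeries_le p P j ha
  have hconj : b * a⁻¹ * b⁻¹ ∈ omegaSeries p P j := by
    have := omegaSeries_invariant p ((MulAut.conj b).toMonoidHom.comp P.subtype)
      (fun y => by
        show b * (y : Ω) * b⁻¹ ∈ P
        exact P.mul_mem (P.mul_mem hb y.2) (P.inv_mem hb)) j ⟨a⁻¹, P.inv_mem haP⟩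
      ((omegaSeries p P j).inv_mem ha)
    simpa [MulAut.conj_apply] using this
  have h1 : ⁅a, b⁆ = a * (b * a⁻¹ * b⁻¹) := by rw [commutatorElement_def]; group
  rw [h1]
  exact (omegaSeries p P j).mul_mem ha hconj

theorem exists_omegaSeries_eq_bot [Finite S] {p : ℕ} [Fact p.Prime] (hS : IsPGroup p S)
    {P : Subgroup Ω} (hPS : P ≤ S) : ∃ n, omegaSeries p P n = ⊥ := by
  haveI : Finite P := finite_of_le hPS
  haveI : Group.IsNilpotent P := (hS.to_le hPS).isNilpotent
  obtain ⟨n, hn⟩ := (Subgroup.isNilpotent_iff_lowerCentralSeries P).mp inferInstance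
  exact ⟨n, le_bot_iff.mp (hn ▸ omegaSeries_le_lowerCentralSeries p P n)⟩

theorem omegaSeries_stronglyClosed (F : FusionSystem S) (p : ℕ) {P : Subgroup Ω}
    (hP : F.IsNormal P) (j : ℕ) : F.StronglyClosed (omegaSeries p P j) := by
  refine ⟨(omegaSeries_le p P j).trans hP.1, ?_⟩
  intro A hA φ hφ x
  have hAP : A ≤ P := hA.trans (omegaSeries_le p P j)
  obtain ⟨ψ, -, hext, hval⟩ := exists_extension_top F hP hAP φ hφ
  rw [← hext x]
  exact omegaSeries_invariant p ψ hval j _ (hA x.2)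

/-- A subgroup normal in the system has a series as in the series criterion. -/
theorem exists_series_of_isNormal [Finite S] {p : ℕ} [Fact p.Prime] (hS : IsPGroup p S)
    (F : FusionSystem S) {P : Subgroup Ω} (hP : F.IsNormal P) :
    ∃ (n : ℕ) (Q : Fin (n + 1) → Subgroup Ω), Q 0 = ⊥ ∧ Q (Fin.last n) = omegaOne p P ∧
      Monotone Q ∧ (∀ i : Fin (n + 1), F.StronglyClosed (Q i)) ∧
        ∀ i : Fin n, ⁅Q i.succ, P⁆ ≤ Q i.castSucc := by
  obtain ⟨n, hn⟩ := exists_omegaSeries_eq_bot hS hP.1 (p := p)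
  refine ⟨n, fun i => omegaSeries p P (n - i), ?_, ?_, ?_, ?_, ?_⟩
  · show omegaSeries p P (n - 0) = ⊥
    rw [Nat.sub_zero]; exact hn
  · show omegaSeries p P (n - n) = omegaOne p P
    rw [Nat.sub_self]; rfl
  · intro i i' hii
    apply omegaSeries_antitone
    have : (i : ℕ) ≤ i' := hii
    omega
  · intro i
    exact omegaSeries_stronglyClosed F p hP _
  · intro i
    show ⁅omegaSeries p P (n - (i + 1)), P⁆ ≤ omegaSeries p P (n - i)
    have : n - (i : ℕ) = (n - (i + 1)) + 1 := by have := i.2; omega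
    rw [this]
    exact le_rfl

end Cfsg.Agent.Lib.Helper8_Series
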