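import Mathlib
import Cfsg.Prelude.Def_FusionSystem
import Cfsg.Agent.Lib.Helper8_Frobenius
import Cfsg.Agent.Lib.Helper8_Hyperfocal
import Cfsg.Agent.Lib.Helper8_Control
import Cfsg.Agent.Lib.Helper8_Series
import Cfsg.Agent.Lib.Helper8_OmegaFusion

set_option autoImplicit false
set_option linter.style.haveILetI false
set_option linter.unusedVariables false
open Cfsg

namespace Cfsg.Agent.Lib.Helper8_ControlFusion

open Cfsg.FusionSystem
open Cfsg.Agent.Lib.Helper8_Fusion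
open Cfsg.Agent.Lib.Helper8_GroupFusion
open Cfsg.Agent.Lib.Helper8_Saturated
open Cfsg.Agent.Lib.Helper8_Alperin
open Cfsg.Agent.Lib.Helper8_Frobenius
open Cfsg.Agent.Lib.Helper8_Hyperfocal
open Cfsg.Agent.Lib.Helper8_Control
open Cfsg.Agent.Lib.Helper8_Series

/-- `q = p` for odd `p` and `q = 4` for `p = 2`. -/
def qOf (p : ℕ) : ℕ := if p = 2 then 4 else p

theorem dvd_qOf (p : ℕ) : p ∣ qOf p := by
  unfold qOf
  split_ifs with h
  · subst h; exact ⟨2, rfl⟩
  · exact dvd_rfl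

theorem dvd_sum_qOf (p : ℕ) [hp : Fact p.Prime] : p ∣ ∑ i ∈ Finset.range (qOf p), i := by
  unfold qOf
  split_ifs with h
  · subst h; decide
  · have h1 : (∑ i ∈ Finset.range p, i) * 2 = p * (p - 1) := Finset.sum_range_id_mul_two p
    have h2 : p ∣ (∑ i ∈ Finset.range p, i) * 2 := by rw [h1]; exact dvd_mul_right _ _
    have hcop : Nat.Coprime p 2 := by
      rw [Nat.coprime_primes hp.out Nat.prime_two]; exact h
    exact hcop.dvd_of_dvd_mul_right h2

theorem pow_qOf_iff {G : Type*} [Group G] (p : ℕ) (x : G) :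
    x ^ qOf p = 1 → (x ^ p = 1 ∨ (p = 2 ∧ x ^ 4 = 1)) := by
  unfold qOf
  split_ifs with h
  · intro hx; exact Or.inr ⟨h, hx⟩
  · intro hx; exact Or.inl hx

theorem card_zpowers_of_small {G : Type*} [Group G] {p : ℕ} [hp : Fact p.Prime] {x : G}
    (hx1 : x ≠ 1) (hx : x ^ p = 1 ∨ (p = 2 ∧ x ^ 4 = 1)) :
    Nat.card (Subgroup.zpowers x) = p ∨ Nat.card (Subgroup.zpowers x) = 4 := by
  rw [Nat.card_zpowers]
  rcases hx with h | ⟨h2, h⟩
  · left
    have h1 : orderOf x ∣ p := orderOf_dvd_of_pow_eq_one h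
    rcases (Nat.dvd_prime hp.out).mp h1 with h' | h'
    · exact absurd (orderOf_eq_one_iff.mp h') hx1
    · exact h'
  · subst h2
    have h1 : orderOf x ∣ 2 ^ 2 := orderOf_dvd_of_pow_eq_one h
    obtain ⟨k, hk, hk'⟩ := (Nat.dvd_prime_pow Nat.prime_two).mp h1
    interval_cases k
    · exact absurd (orderOf_eq_one_iff.mp (by simpa using hk')) hx1
    · left; simpa using hk'
    · right; simpa using hk'

variable {Ω : Type*} [Group Ω] {S : Subgroup Ω}

/-- The upper central series of `S`, as subgroups of the ambient group. -/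
def upper (S : Subgroup Ω) (i : ℕ) : Subgroup Ω :=
  (Subgroup.upperCentralSeries ↥S i).map S.subtype

theorem upper_zero (S : Subgroup Ω) : upper S 0 = ⊥ := by
  unfold upper
  rw [Subgroup.upperCentralSeries_zero, Subgroup.map_bot]

theorem upper_le (S : Subgroup Ω) (i : ℕ) : upper S i ≤ S := by
  rintro _ ⟨s, -, rfl⟩
  exact s.2

theorem exists_upper_eq [Finite S] {p : ℕ} [Fact p.Prime] (hS : IsPGroup p S) :
    ∃ c, upper S c = S := by
  haveI : Group.IsNilpotent S := hS.isNilpotent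
  refine ⟨Group.nilpotencyClass S, ?_⟩
  unfold upper
  rw [Subgroup.upperCentralSeries_nilpotencyClass]
  ext x
  simp

theorem comm_mem_upper {i : ℕ} {x g : Ω} (hx : x ∈ upper S (i + 1)) (hg : g ∈ S) :
    x⁻¹ * g * x * g⁻¹ ∈ upper S i := by
  obtain ⟨s, hs, rfl⟩ := hx
  have hs' : s⁻¹ ∈ Subgroup.upperCentralSeries ↥S (i + 1) := Subgroup.inv_mem _ hs
  have := Subgroup.mem_upperCentralSeries_succ_iff.mp hs' ⟨g, hg⟩
  refine ⟨_, this, ?_⟩
  simp [commutatorElement_def]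

/-- The restriction of an automorphism in the system to a cyclic subgroup. -/
theorem restrict_zpowers (F : FusionSystem S) {P : Subgroup Ω} (hPS : P ≤ S) (α : MulAut P)
    (hα : α ∈ F.autGroup P) (x : P) :
    ∃ φ ∈ F.homSet (Subgroup.zpowers (x : Ω)) (Subgroup.zpowers ((α x : P) : Ω)),
      φ ⟨(x : Ω), Subgroup.mem_zpowers _⟩ = ((α x : P) : Ω) := by
  have hle : Subgroup.zpowers (x : Ω) ≤ P := by
    rw [Subgroup.zpowers_le]; exact x.2
  have hα' := (mem_autGroup_iff F hPS α).mp hα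
  refine ⟨(P.subtype.comp α.toMonoidHom).comp (Subgroup.inclusion hle),
    ⟨restrict_mem F hle hα', ?_⟩, ?_⟩
  · rintro ⟨y, hy⟩
    obtain ⟨k, rfl⟩ := Subgroup.mem_zpowers_iff.mp hy
    show ((α (Subgroup.inclusion hle ⟨(x : Ω) ^ k, hy⟩) : P) : Ω) ∈ _
    have : Subgroup.inclusion hle ⟨(x : Ω) ^ k, hy⟩ = x ^ k := by
      apply Subtype.ext; simp
    rw [this, map_zpow]
    simp only [Subgroup.coe_zpow]
    exact Subgroup.zpow_mem _ (Subgroup.mem_zpowers _) k
  · show ((α (Subgroup.inclusion hle ⟨(x : Ω), _⟩) : P) : Ω) = _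
    congr 2

/-- **General form**: a set `𝒦` of `p'`-automorphisms in `Aut_F(P)` which act trivially on the
factors of the upper central series of `S`, on invariant subgroups of `P ∩ hyp(F)` of small
exponent, is trivial. -/
theorem aut_trivial_of_chain [Finite S] {p : ℕ} [Fact p.Prime] (hS : IsPGroup p S)
    (F : FusionSystem S) (hF : F.IsSaturated p) {P : Subgroup Ω} (hPS : P ≤ S)
    (𝒦 : Set (MulAut P)) (h𝒦A : 𝒦 ⊆ F.autGroup P) (h𝒦 : ∀ β ∈ 𝒦, (orderOf β).Coprime p)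
    (h2 : ∀ R' : Subgroup P, R' ≤ (F.hyperfocalSubgroup p).subgroupOf P →
      (∀ a ∈ F.autGroup P, ∀ x ∈ R', a x ∈ R') →
      (∀ x ∈ R', (x ^ p = 1 ∨ (p = 2 ∧ x ^ 4 = 1))) →
      ∀ β ∈ 𝒦, ∀ i, ∀ x ∈ R', (x : Ω) ∈ upper S (i + 1) →
        (x : Ω)⁻¹ * ((β x : P) : Ω) ∈ upper S i) :
    ∀ β ∈ 𝒦, β = 1 := by
  haveI : Finite P := finite_of_le hPS
  have hPp : IsPGroup p P := hS.to_le hPS
  obtain ⟨c, hc⟩ := exists_upper_eq hS
  have hYinv : ∀ a ∈ F.autGroup P, ∀ x ∈ (F.hyperfocalSubgroup p).subgroupOf P,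
      a x ∈ (F.hyperfocalSubgroup p).subgroupOf P := by
    intro a ha x hx
    rw [Subgroup.mem_subgroupOf] at hx ⊢
    exact aut_mem_of_stronglyClosed F hPS (hyperfocal_stronglyClosed hS F hF) a ha x hx
  have key := stab_trivial (qOf p) (dvd_qOf p) (dvd_sum_qOf p) hPp (F.autGroup P) 𝒦 h𝒦A
    (fun β hβ => ⟨orderOf β, h𝒦 β hβ, pow_orderOf_eq_one β⟩)
    ((F.hyperfocalSubgroup p).subgroupOf P) c (fun i => (upper S i).subgroupOf P)
    (by
      show (upper S 0).subgroupOf P = ⊥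
      rw [upper_zero, Subgroup.bot_subgroupOf])
    (by
      intro x _
      show x ∈ (upper S c).subgroupOf P
      rw [Subgroup.mem_subgroupOf, hc]
      exact hPS x.2)
    (by
      intro R' hR'Y hR'A hexp β hβ i x hx hxZ
      show x⁻¹ * β x ∈ (upper S i).subgroupOf P
      rw [Subgroup.mem_subgroupOf] at hxZ ⊢
      have := h2 R' hR'Y hR'A (fun y hy => pow_qOf_iff p y (hexp y hy)) β hβ i x hx hxZ
      simpa using this)
    _ _ rfl le_rfl hYinv
  intro β hβ
  ext x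
  have hβA : β ∈ F.autGroup P := h𝒦A hβ
  have hres : (⟨β, hβA⟩ : F.autGroup P) ∈ pResidual p (F.autGroup P) := by
    apply Subgroup.subset_closure
    show Nat.Coprime (orderOf (⟨β, hβA⟩ : F.autGroup P)) p
    rw [Subgroup.orderOf_mk]
    exact h𝒦 β hβ
  have hw : x⁻¹ * β x ∈ (F.hyperfocalSubgroup p).subgroupOf P := by
    rw [Subgroup.mem_subgroupOf]
    have := inv_mul_apply_mem_hyperfocal F p hPS hres x
    simpa using this
  have hβw := key β hβ _ hw
  have h1 := coprime_fix hPp β (orderOf β) (h𝒦 β hβ) (pow_orderOf_eq_one β) x (x⁻¹ * β x)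
    (by group) hβw
  have h3 : β x = x * (x⁻¹ * β x) := by group
  rw [h3, h1, mul_one]
  rfl

end Cfsg.Agent.Lib.Helper8_ControlFusion
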