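import Mathlib
import Cfsg.Prelude.Def_FusionSystem
import Cfsg.Agent.Lib.Helper8_ControlFusion

set_option autoImplicit false
set_option linter.style.haveILetI false
set_option linter.unusedVariables false
open Cfsg

namespace Cfsg.Agent.Lib.Helper8_ControlNormal

open Cfsg.FusionSystem
open Cfsg.Agent.Lib.Helper8_Fusion
open Cfsg.Agent.Lib.Helper8_GroupFusion
open Cfsg.Agent.Lib.Helper8_Saturated
open Cfsg.Agent.Lib.Helper8_Alperin
open Cfsg.Agent.Lib.Helper8_Frobenius
open Cfsg.Agent.Lib.Helper8_Hyperfocal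
open Cfsg.Agent.Lib.Helper8_Control
open Cfsg.Agent.Lib.Helper8_Series
open Cfsg.Agent.Lib.Helper8_OmegaFusion
open Cfsg.Agent.Lib.Helper8_ControlFusion

variable {Ω : Type*} [Group Ω] {S : Subgroup Ω}

/-- An essential subgroup `P` cannot exist if some normal `p`-subgroup of `Aut_F(P)` contains
`Aut_S(P)`. -/
theorem essential_false_of_normal_pGroup [Finite S] {p : ℕ} [Fact p.Prime] (hS : IsPGroup p S)
    (F : FusionSystem S) (hF : F.IsSaturated p) {P : Subgroup Ω} (hP : F.IsEssential p P)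
    (B : Subgroup (F.autGroup P)) (hBn : B.Normal) (hBp : IsPGroup p B)
    (hB : (autInducedBy S P).subgroupOf (F.autGroup P) ≤ B) : False := by
  obtain ⟨hPc, hPn, hI, E, hE⟩ := hP
  have hPS : P ≤ S := hPc.1
  haveI : Finite P := finite_of_le hPS
  obtain ⟨-, -, P₀, hP₀⟩ := fullyNormalized_facts hS F hF hPn
  have hP₀B : (P₀ : Subgroup (F.autGroup P)) ≤ B := by rw [hP₀]; exact hB
  have hP₀eq : B = (P₀ : Subgroup (F.autGroup P)) := P₀.is_maximal' hBp hP₀B
  have hP₀n : (P₀ : Subgroup (F.autGroup P)).Normal := by rw [← hP₀eq]; exact hBn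
  haveI := hI
  haveI : Finite (MulAut P) := inferInstance
  have hsurj : Function.Surjective
      (QuotientGroup.mk' ((Inn P).subgroupOf (F.autGroup P))) := QuotientGroup.mk'_surjective _
  let P₁ := P₀.mapSurjective hsurj
  have hP₁n : (P₁ : Subgroup (↥(F.autGroup P) ⧸ (Inn ↥P).subgroupOf (F.autGroup P))).Normal := by
    show ((P₀ : Subgroup (F.autGroup P)).map _).Normal
    exact Subgroup.Normal.map hP₀n _ hsurj
  exact not_stronglyPEmbedded_of_normal_sylow P₁ hP₁n E hE

theorem upper_mono (S : Subgroup Ω) (i : ℕ) : upper S i ≤ upper S (i + 1) := by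
  unfold upper
  exact Subgroup.map_mono (Subgroup.upperCentralSeries_mono _ (Nat.le_succ i))

/-- A map defined on an overgroup of `S` mapping `S` onto `S` preserves the upper central
series of `S`. -/
theorem upper_map_mem {N : Subgroup Ω} (hSN : S ≤ N) (ψ : N →* Ω) (hinj : Function.Injective ψ)
    (hψS : (S.subgroupOf N).map ψ = S) (i : ℕ) (y : N) (hy : (y : Ω) ∈ upper S i) :
    ψ y ∈ upper S i := by
  have hmem : ∀ s : S, ψ ⟨s, hSN s.2⟩ ∈ S := by
    intro s
    have : ψ ⟨s, hSN s.2⟩ ∈ (S.subgroupOf N).map ψ :=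
      ⟨⟨s, hSN s.2⟩, by simp [Subgroup.mem_subgroupOf], rfl⟩
    rw [hψS] at this
    exact this
  let σ₀ : S →* S :=
    { toFun := fun s => ⟨ψ ⟨s, hSN s.2⟩, hmem s⟩
      map_one' := by
        apply Subtype.ext
        show ψ ⟨((1 : S) : Ω), _⟩ = 1
        have : (⟨((1 : S) : Ω), hSN (1 : S).2⟩ : N) = 1 := rfl
        rw [this, map_one]
      map_mul' := by
        intro a b
        apply Subtype.ext
        show ψ ⟨((a * b : S) : Ω), _⟩ = ψ ⟨a, _⟩ * ψ ⟨b, _⟩
        rw [← map_mul]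
        rfl }
  have hσinj : Function.Injective σ₀ := by
    intro a b hab
    have h1 : ψ ⟨a, hSN a.2⟩ = ψ ⟨b, hSN b.2⟩ := congrArg Subtype.val hab
    have h2 := hinj h1
    exact Subtype.ext (congrArg (fun z : N => (z : Ω)) h2)
  have hσsurj : Function.Surjective σ₀ := by
    intro t
    have ht : (t : Ω) ∈ (S.subgroupOf N).map ψ := by rw [hψS]; exact t.2
    obtain ⟨n, hn, hnt⟩ := ht
    rw [SetLike.mem_coe, Subgroup.mem_subgroupOf] at hn
    refine ⟨⟨n, hn⟩, ?_⟩
    apply Subtype.ext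
    show ψ ⟨(n : Ω), _⟩ = t
    rw [← hnt]
  let σ : S ≃* S := MulEquiv.ofBijective σ₀ ⟨hσinj, hσsurj⟩
  obtain ⟨s, hs, hsy⟩ := hy
  have hchar : (Subgroup.upperCentralSeries ↥S i).Characteristic := inferInstance
  have h1 : (Subgroup.upperCentralSeries ↥S i).map σ.toMonoidHom =
      Subgroup.upperCentralSeries ↥S i := Subgroup.characteristic_iff_map_eq.mp hchar σ
  have h2 : σ s ∈ Subgroup.upperCentralSeries ↥S i := by
    rw [← h1]
    exact ⟨s, hs, rfl⟩
  refine ⟨σ s, h2, ?_⟩
  show ψ ⟨s, hSN s.2⟩ = ψ y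
  congr 1
  apply Subtype.ext
  exact hsy

/-- **Key criterion**: if `Aut_F(P)` preserves the upper central series of `S` on the elements of
small order of `P ∩ hyp(F)`, then `P` is not essential. -/
theorem essential_false_of_chain [Finite S] {p : ℕ} [Fact p.Prime] (hS : IsPGroup p S)
    (F : FusionSystem S) (hF : F.IsSaturated p) {P : Subgroup Ω} (hP : F.IsEssential p P)
    (hinv : ∀ a ∈ F.autGroup P, ∀ x : P, (x : Ω) ∈ F.hyperfocalSubgroup p →
      (x ^ p = 1 ∨ (p = 2 ∧ x ^ 4 = 1)) → ∀ i, (x : Ω) ∈ upper S i →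
        ((a x : P) : Ω) ∈ upper S i) : False := by
  have hPS : P ≤ S := hP.1.1
  haveI : Finite P := finite_of_le hPS
  obtain ⟨K, hK⟩ : ∃ K : Subgroup (F.autGroup P), K = Subgroup.normalClosure
    (((autInducedBy S P).subgroupOf (F.autGroup P) : Subgroup (F.autGroup P)) : Set (F.autGroup P)) :=
    ⟨_, rfl⟩
  have hKn : K.Normal := by rw [hK]; exact Subgroup.normalClosure_normal
  have hP₀K : (autInducedBy S P).subgroupOf (F.autGroup P) ≤ K := by
    rw [hK]; exact Subgroup.subset_normalClosure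
  obtain ⟨𝒦, h𝒦def⟩ : ∃ 𝒦 : Set (MulAut P), 𝒦 = {β | ∃ h : β ∈ F.autGroup P,
      (⟨β, h⟩ : F.autGroup P) ∈ K ∧ (orderOf β).Coprime p} := ⟨_, rfl⟩
  have htriv : ∀ β ∈ 𝒦, β = 1 := by
    apply aut_trivial_of_chain hS F hF hPS 𝒦
    · intro β hβ; rw [h𝒦def] at hβ; exact hβ.1
    · intro β hβ; rw [h𝒦def] at hβ; exact hβ.2.2
    intro R' hR'Y hR'A hexp
    -- the stability group of the chain on `R'`
    have hR'hyp : ∀ x ∈ R', ((x : P) : Ω) ∈ F.hyperfocalSubgroup p := by
      intro x hx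
      have := hR'Y hx
      rwa [Subgroup.mem_subgroupOf] at this
    let B : Subgroup (F.autGroup P) :=
      { carrier := {b | ∀ i, ∀ x ∈ R', ((x : P) : Ω) ∈ upper S (i + 1) →
          ((x : P) : Ω)⁻¹ * (((b : MulAut P) x : P) : Ω) ∈ upper S i}
        one_mem' := by
          intro i x hx hxZ
          show ((x : P) : Ω)⁻¹ * ((x : P) : Ω) ∈ upper S i
          rw [inv_mul_cancel]; exact Subgroup.one_mem _
        mul_mem' := by
          intro b c hb hc i x hx hxZ
          show ((x : P) : Ω)⁻¹ * (((b : MulAut P) ((c : MulAut P) x) : P) : Ω) ∈ upper S i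
          have h1 := hc i x hx hxZ
          have hcxR : (c : MulAut P) x ∈ R' := hR'A _ c.2 x hx
          have hcxZ : (((c : MulAut P) x : P) : Ω) ∈ upper S (i + 1) := by
            have : (((c : MulAut P) x : P) : Ω) =
                ((x : P) : Ω) * (((x : P) : Ω)⁻¹ * (((c : MulAut P) x : P) : Ω)) := by group
            rw [this]
            exact Subgroup.mul_mem _ hxZ (upper_mono S i h1)
          have h2 := hb i _ hcxR hcxZ
          have : ((x : P) : Ω)⁻¹ * (((b : MulAut P) ((c : MulAut P) x) : P) : Ω) =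
              (((x : P) : Ω)⁻¹ * (((c : MulAut P) x : P) : Ω)) *
                ((((c : MulAut P) x : P) : Ω)⁻¹ * (((b : MulAut P) ((c : MulAut P) x) : P) : Ω)) := by
            group
          rw [this]
          exact Subgroup.mul_mem _ h1 h2
        inv_mem' := by
          intro b hb i x hx hxZ
          show ((x : P) : Ω)⁻¹ * ((((b : MulAut P)⁻¹) x : P) : Ω) ∈ upper S i
          have hbinv : (b : MulAut P)⁻¹ ∈ F.autGroup P := Subgroup.inv_mem _ b.2
          have hyR : (b : MulAut P)⁻¹ x ∈ R' := hR'A _ hbinv x hx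
          have hyZ : ((((b : MulAut P)⁻¹) x : P) : Ω) ∈ upper S (i + 1) :=
            hinv _ hbinv x (hR'hyp x hx) (hexp x hx) (i + 1) hxZ
          have h1 := hb i _ hyR hyZ
          have h2 : (b : MulAut P) ((b : MulAut P)⁻¹ x) = x := by simp
          rw [h2] at h1
          have h3 := Subgroup.inv_mem _ h1
          have : (((((b : MulAut P)⁻¹) x : P) : Ω)⁻¹ * ((x : P) : Ω))⁻¹ =
              ((x : P) : Ω)⁻¹ * ((((b : MulAut P)⁻¹) x : P) : Ω) := by group
          rw [this] at h3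
          exact h3 }
    have hBmem : ∀ b : F.autGroup P, b ∈ B ↔ ∀ i, ∀ x ∈ R', ((x : P) : Ω) ∈ upper S (i + 1) →
          ((x : P) : Ω)⁻¹ * (((b : MulAut P) x : P) : Ω) ∈ upper S i := fun b => Iff.rfl
    have hBn : B.Normal := by
      constructor
      intro b hb a
      rw [hBmem] at hb ⊢
      intro i x hx hxZ
      show ((x : P) : Ω)⁻¹ * (((a : MulAut P) ((b : MulAut P) ((a : MulAut P)⁻¹ x)) : P) : Ω) ∈ upper S i
      have hainv : (a : MulAut P)⁻¹ ∈ F.autGroup P := Subgroup.inv_mem _ a.2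
      have hyR : (a : MulAut P)⁻¹ x ∈ R' := hR'A _ hainv x hx
      have hyZ : ((((a : MulAut P)⁻¹) x : P) : Ω) ∈ upper S (i + 1) :=
        hinv _ hainv x (hR'hyp x hx) (hexp x hx) (i + 1) hxZ
      have h1 := hb i _ hyR hyZ
      obtain ⟨y, hy⟩ : ∃ y : P, y = (a : MulAut P)⁻¹ x := ⟨_, rfl⟩
      rw [← hy] at h1 hyR hyZ ⊢
      have hbyR : (b : MulAut P) y ∈ R' := hR'A _ b.2 y hyR
      have hwR : y⁻¹ * (b : MulAut P) y ∈ R' := Subgroup.mul_mem _ (Subgroup.inv_mem _ hyR) hbyR
      have hwZ : ((y⁻¹ * (b : MulAut P) y : P) : Ω) ∈ upper S i := by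
        simpa using h1
      have h2 := hinv _ a.2 _ (hR'hyp _ hwR) (hexp _ hwR) i hwZ
      have hay : (a : MulAut P) y = x := by rw [hy]; simp
      rw [map_mul, map_inv, hay] at h2
      simpa using h2
    have hP₀B : (autInducedBy S P).subgroupOf (F.autGroup P) ≤ B := by
      intro u hu
      rw [Subgroup.mem_subgroupOf] at hu
      obtain ⟨g, hgS, -, hg⟩ := (mem_autInducedBy_iff S P _).mp hu
      rw [hBmem]
      intro i x hx hxZ
      rw [hg x]
      have h2 := comm_mem_upper hxZ hgS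
      have h3 : ((x : P) : Ω)⁻¹ * (g * ((x : P) : Ω) * g⁻¹) =
          ((x : P) : Ω)⁻¹ * g * ((x : P) : Ω) * g⁻¹ := by group
      rw [h3]
      exact h2
    have hKB : K ≤ B := by
      rw [hK]
      haveI := hBn
      exact Subgroup.normalClosure_le_normal hP₀B
    intro β hβ i x hx hxZ
    rw [h𝒦def] at hβ
    obtain ⟨hβA, hβK, -⟩ := hβ
    exact (hBmem _).mp (hKB hβK) i x hx hxZ
  have hKp : IsPGroup p K := by
    apply isPGroup_of_coprime_trivial
    intro α hα m hm hαm
    have hαm' : (α : MulAut P) ^ m = 1 := by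
      have := congrArg Subtype.val hαm
      simpa using this
    have hord : (orderOf (α : MulAut P)).Coprime p :=
      Nat.Coprime.coprime_dvd_left (orderOf_dvd_of_pow_eq_one hαm') hm
    have h1 : (α : MulAut P) ∈ 𝒦 := by
      rw [h𝒦def]
      exact ⟨α.2, hα, hord⟩
    exact Subtype.ext (htriv _ h1)
  exact essential_false_of_normal_pGroup hS F hF hP K hKn hKp hP₀K

end Cfsg.Agent.Lib.Helper8_ControlNormal
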