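import Cfsg.Agent.Lib.Helper8_CosetEnum

set_option autoImplicit false

/-! Large instances: index-only main theorem and lemmas to split the kernel checks into pieces. -/

namespace Cfsg.Agent.H8CE

open Cfsg.Spor

/-- Index-only version of `cox_main` (no orbit certificate). -/
theorem cox_index {α : Type} [DecidableEq α] (edges : List (α × ℕ × α)) (extra Y : List (FreeGroup α))
    (Yset : Set (FreeGroup α)) (hY : Yset = {y | y ∈ Y})
    (code : α → ℕ) (allg : List α) (ng n : ℕ)
    (hall : ∀ x : α, x ∈ allg) (hnodes : ∀ x : α, x ∈ coxNodes edges)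
    (hcode_lt : ∀ x, code x < ng) (hcode_inj : Function.Injective code)
    (hcode_surj : ∀ k, k < ng → ∃ x, code x = k)
    (rels subs : List (List ℕ))
    (hrels : rels = coxWordList edges code allg ++ extra.map (toWordCode code))
    (hsubs : subs = Y.map (toWordCode code))
    (dp dx canon bp bx fuel : ℕ) (pt sfin : List ℕ)
    (hn : 0 < n)
    (hinvol : checkInvol pt n ng = true)
    (hwords : rels.all (checkWord pt n ng) = true)
    (htrans : checkTrans pt bp bx n ng = true)
    (hsub0 : subs.all (fun w => w.all (fun x => Nat.blt x ng) && Nat.beq (tabW pt w 0) 0) = true)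
    (hInv : ∀ (G : Type) [Group G] (H : Subgroup G) (gen : ℕ → G), (∀ x, gen x * gen x = 1) →
      (∀ w ∈ rels, wprod gen w = 1) → (∀ w ∈ subs, wprod gen w ∈ H) → Inv H gen dp dx sfin)
    (htable : checkTable sfin fuel canon pt n ng = true) :
    ((Subgroup.closure Yset).map (PresentedGroup.mk (coxRelators edges ∪ {r | r ∈ extra}))).index = n := by
  classical
  set R : Set (FreeGroup α) := coxRelators edges ∪ {r | r ∈ extra} with hR
  set mkR := PresentedGroup.mk R with hmkR
  set H : Subgroup (PresentedGroup R) := (Subgroup.closure Yset).map mkR with hH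
  let gen : ℕ → PresentedGroup R := fun k =>
    if h : ∃ x, code x = k then PresentedGroup.of (Classical.choose h) else 1
  have gen_code : ∀ x, gen (code x) = PresentedGroup.of x := by
    intro x
    have h : ∃ y, code y = code x := ⟨x, rfl⟩
    show (if h : ∃ y, code y = code x then PresentedGroup.of (Classical.choose h) else 1) = _
    rw [dif_pos h]
    exact congrArg _ (hcode_inj (Classical.choose_spec h))
  have hinvG : ∀ k, gen k * gen k = 1 := by
    intro k
    by_cases h : ∃ x, code x = k
    · obtain ⟨x, rfl⟩ := h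
      rw [gen_code]
      exact cox_of_mul_self edges _ x (hnodes x)
    · show (if h : ∃ x, code x = k then PresentedGroup.of (Classical.choose h) else 1) *
        (if h : ∃ x, code x = k then PresentedGroup.of (Classical.choose h) else 1) = (1 : PresentedGroup R)
      rw [dif_neg h, one_mul]
  have hF : ∀ x, mkR (FreeGroup.of x) = gen (code x) := fun x => (gen_code x).symm
  have hmkword : ∀ r : FreeGroup α, mkR r = wprod gen (toWordCode code r) :=
    fun r => hom_eq_wprod mkR code gen hF (fun x => hinvG _) r
  have hrelG : ∀ w ∈ rels, wprod gen w = 1 := by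
    intro w hw
    rw [hrels, List.mem_append] at hw
    rcases hw with hw | hw
    · exact cox_words_of_rels edges code allg (fun x _ => hnodes x) mkR gen hF
        (fun r hr => PresentedGroup.one_of_mem (Or.inl hr)) w hw
    · rw [List.mem_map] at hw
      obtain ⟨r, hr, rfl⟩ := hw
      rw [← hmkword]
      exact PresentedGroup.one_of_mem (Or.inr hr)
  have hsubG : ∀ w ∈ subs, wprod gen w ∈ H := by
    intro w hw
    rw [hsubs, List.mem_map] at hw
    obtain ⟨y, hy, rfl⟩ := hw
    rw [← hmkword]
    exact Subgroup.mem_map_of_mem mkR (Subgroup.subset_closure (by rw [hY]; exact hy))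
  have hgen : Subgroup.closure {g : PresentedGroup R | ∃ x, x < ng ∧ g = gen x} = ⊤ := by
    rw [eq_top_iff, ← PresentedGroup.closure_range_of R]
    apply Subgroup.closure_mono
    rintro _ ⟨x, rfl⟩
    exact ⟨code x, hcode_lt x, (gen_code x).symm⟩
  have hact : ∀ i, i < n → ∀ x, x < ng → dig (nth pt x) i < n :=
    fun i hi x hx => (checkInvol_spec hinvol x hx i hi).1
  have cover := cover_main' (H := H) (dp := dp) (dx := dx) hinvG fuel canon pt n ng hgen hn hact sfin
    (hInv _ H gen hinvG hrelG hsubG) htable
  -- permutation side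
  set F := tabPerm pt n ng hinvol with hFdef
  have hFinv : ∀ x : α, F (code x) * F (code x) = 1 := fun x => tabPerm_mul_self hinvol _
  have hwordsP : ∀ w ∈ rels, (w.map F).prod = 1 := by
    intro w hw
    rw [List.all_eq_true] at hwords
    exact checkWord_spec hinvol w (hwords w hw)
  have hrelsP : ∀ r ∈ R, FreeGroup.lift (fun x => F (code x)) r = 1 := by
    intro r hr
    rcases hr with hr | hr
    · exact cox_rels_of_words edges code allg (fun x _ => hall x) (FreeGroup.lift fun x => F (code x)) F
        (fun x => FreeGroup.lift_apply_of)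
        (fun w hw => hwordsP w (by rw [hrels]; exact List.mem_append_left _ hw)) r hr
    · rw [hom_eq_wprod (FreeGroup.lift fun x => F (code x)) code F (fun x => FreeGroup.lift_apply_of)
        hFinv r]
      exact hwordsP _ (by rw [hrels]; exact List.mem_append_right _ (List.mem_map_of_mem hr))
  let σ : PresentedGroup R →* Equiv.Perm (Fin n) := PresentedGroup.toGroup hrelsP
  have hσ : ∀ k, k < ng → σ (gen k) = F k := by
    intro k hk
    obtain ⟨x, rfl⟩ := hcode_surj k hk
    rw [gen_code]
    exact PresentedGroup.toGroup.of hrelsP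
  have hsubs_lt : ∀ w ∈ subs, ∀ x ∈ w, x < ng := by
    intro w hw x hx
    rw [List.all_eq_true] at hsub0
    have := hsub0 w hw
    rw [Bool.and_eq_true, List.all_eq_true] at this
    have := this.1 x hx
    unfold Nat.blt at this
    exact Nat.lt_of_succ_le (Nat.le_of_ble_eq_true this)
  have hsubs_fix : ∀ w ∈ subs, σ (wprod gen w) ⟨0, hn⟩ = ⟨0, hn⟩ := by
    intro w hw
    rw [List.all_eq_true] at hsub0
    have := hsub0 w hw
    rw [Bool.and_eq_true] at this
    apply Fin.ext
    rw [sigma_wprod hinvol σ hσ w (hsubs_lt w hw), permW_val hinvol w (hsubs_lt w hw)]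
    exact Nat.eq_of_beq_eq_true this.2
  have hHle : H ≤ Subgroup.closure {g : PresentedGroup R | ∃ w ∈ subs, g = wprod gen w} := by
    rw [hH, MonoidHom.map_closure]
    apply Subgroup.closure_mono
    rintro _ ⟨y, hy, rfl⟩
    rw [hY] at hy
    exact ⟨toWordCode code y, by rw [hsubs]; exact List.mem_map_of_mem hy, hmkword y⟩
  have hC0 : ∀ h ∈ Subgroup.closure {g : PresentedGroup R | ∃ w ∈ subs, g = wprod gen w},
      σ h ⟨0, hn⟩ = ⟨0, hn⟩ := by
    intro h hh'
    induction hh' using Subgroup.closure_induction with
    | mem g hg =>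
      obtain ⟨w, hw, rfl⟩ := hg
      exact hsubs_fix w hw
    | one => simp
    | mul a b _ _ iha ihb => rw [map_mul, Equiv.Perm.mul_apply, ihb, iha]
    | inv a _ iha =>
      rw [map_inv, Equiv.Perm.inv_eq_iff_eq]
      exact iha.symm
  have hH0 : ∀ h ∈ H, σ h ⟨0, hn⟩ = ⟨0, hn⟩ := fun h hh => hC0 h (hHle hh)
  have htr := trans_of_check (gen := gen) hinvol bp bx htrans hn σ hσ
  obtain ⟨hidx, Φ, hΦb, hΦ⟩ := index_of_cover (H := H) hn σ hH0 htr _ cover
  exact hidx


theorem allBelow_intro {p : ℕ → Bool} {n : ℕ} (h : ∀ i, i < n → p i = true) : allBelow p n = true := by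
  induction n with
  | zero => rfl
  | succ k ih =>
    simp only [allBelow, Bool.and_eq_true]
    exact ⟨h k (Nat.lt_succ_self k), ih (fun i hi => h i (Nat.lt_succ_of_lt hi))⟩

theorem allBelow_range {p : ℕ → Bool} {a b : ℕ} (h1 : allBelow p a = true)
    (h2 : allBelow (fun i => p (Nat.add a i)) b = true) : allBelow p (a + b) = true := by
  apply allBelow_intro
  intro i hi
  by_cases h : i < a
  · exact allBelow_spec h1 i h
  · have := allBelow_spec h2 (i - a) (by omega)
    have e : Nat.add a (i - a) = i := by show a + (i - a) = i; omega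
    rw [e] at this
    exact this

/-- all words are trivial on the points `a, …, a + b - 1` -/
def checkWordsR (pt : List ℕ) (rels : List (List ℕ)) (a b : ℕ) : Bool :=
  rels.all (fun w => allBelow (fun i => Nat.beq (tabW pt w (Nat.add a i)) (Nat.add a i)) b)

theorem words_step {pt : List ℕ} {rels : List (List ℕ)} {a b : ℕ}
    (h1 : ∀ w ∈ rels, allBelow (fun i => Nat.beq (tabW pt w i) i) a = true)
    (h2 : checkWordsR pt rels a b = true) :
    ∀ w ∈ rels, allBelow (fun i => Nat.beq (tabW pt w i) i) (a + b) = true := by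
  intro w hw
  unfold checkWordsR at h2
  rw [List.all_eq_true] at h2
  exact allBelow_range (h1 w hw) (h2 w hw)

theorem words_zero (pt : List ℕ) (rels : List (List ℕ)) :
    ∀ w ∈ rels, allBelow (fun i => Nat.beq (tabW pt w i) i) 0 = true := fun _ _ => rfl

theorem words_final {pt : List ℕ} {rels : List (List ℕ)} {n ng : ℕ}
    (hl : rels.all (fun w => w.all (fun x => Nat.blt x ng)) = true)
    (h : ∀ w ∈ rels, allBelow (fun i => Nat.beq (tabW pt w i) i) n = true) :
    rels.all (checkWord pt n ng) = true := by
  rw [List.all_eq_true] at hl ⊢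
  intro w hw
  unfold checkWord
  rw [Bool.and_eq_true]
  exact ⟨hl w hw, h w hw⟩

theorem table_final {s : List ℕ} {fuel canon : ℕ} {pt : List ℕ} {n ng : ℕ}
    (h0 : Nat.beq (dig canon 0) 0 = true)
    (h : allBelow (fun i => allBelow (fun x => checkEntry s fuel canon pt i x) ng) n = true) :
    checkTable s fuel canon pt n ng = true := by
  unfold checkTable
  rw [Bool.and_eq_true]
  exact ⟨h0, h⟩

end Cfsg.Agent.H8CE
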