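import Cfsg.Agent.Lib.Helper8_CosetBig

set_option autoImplicit false

/-! Splitting the orbit and count checks of big coset tables into memory-bounded pieces (helper8). -/

namespace Cfsg.Agent.H8CE

/-- the colouring is invariant under all words on the points `a, …, a + b - 1` -/
def checkColR (pt : List ℕ) (subs : List (List ℕ)) (col a b : ℕ) : Bool :=
  subs.all (fun w => allBelow (fun i => Nat.beq (dig col (tabW pt w (Nat.add a i))) (dig col (Nat.add a i))) b)

theorem col_zero (pt : List ℕ) (subs : List (List ℕ)) (col : ℕ) :
    ∀ w ∈ subs, allBelow (fun i => Nat.beq (dig col (tabW pt w i)) (dig col i)) 0 = true :=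
  fun _ _ => rfl

theorem col_step {pt : List ℕ} {subs : List (List ℕ)} {col a b : ℕ}
    (h1 : ∀ w ∈ subs, allBelow (fun i => Nat.beq (dig col (tabW pt w i)) (dig col i)) a = true)
    (h2 : checkColR pt subs col a b = true) :
    ∀ w ∈ subs, allBelow (fun i => Nat.beq (dig col (tabW pt w i)) (dig col i)) (a + b) = true := by
  intro w hw
  unfold checkColR at h2
  rw [List.all_eq_true] at h2
  exact allBelow_range (p := fun i => Nat.beq (dig col (tabW pt w i)) (dig col i)) (h1 w hw) (h2 w hw)

theorem orbit_final {pt : List ℕ} {subs : List (List ℕ)} {col roots op ow od n ng : ℕ}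
    (hl : subs.all (fun w => w.all (fun x => Nat.blt x ng)) = true)
    (h1 : ∀ w ∈ subs, allBelow (fun i => Nat.beq (dig col (tabW pt w i)) (dig col i)) n = true)
    (h2 : allBelow (fun i => Nat.beq i (dig roots (dig col i)) ||
      (Nat.blt (dig op i) n && Nat.blt (dig od (dig op i)) (dig od i) &&
        Nat.beq (tabW pt (nthW subs (dig ow i)) (dig op i)) i)) n = true) :
    checkOrbit pt subs col roots op ow od n ng = true := by
  unfold checkOrbit
  rw [Bool.and_eq_true, List.all_eq_true]
  rw [List.all_eq_true] at hl
  refine ⟨?_, h2⟩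
  intro w hw
  rw [Bool.and_eq_true]
  exact ⟨hl w hw, h1 w hw⟩

theorem countBelow_range (p : ℕ → Bool) (a b : ℕ) :
    countBelow p (a + b) = countBelow (fun i => p (Nat.add a i)) b + countBelow p a := by
  induction b with
  | zero => simp [countBelow]
  | succ k ih =>
    show Nat.add (cond (p (a + k)) 1 0) (countBelow p (a + k)) =
      Nat.add (cond (p (Nat.add a k)) 1 0) (countBelow (fun i => p (Nat.add a i)) k) + countBelow p a
    rw [ih]
    show (cond (p (a + k)) 1 0) + (countBelow (fun i => p (Nat.add a i)) k + countBelow p a) =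
      (cond (p (a + k)) 1 0) + (countBelow (fun i => p (Nat.add a i)) k) + countBelow p a
    rw [Nat.add_assoc]

theorem count_step {p : ℕ → Bool} {a b s t : ℕ} (h1 : countBelow p a = s)
    (h2 : countBelow (fun i => p (Nat.add a i)) b = t) : countBelow p (a + b) = t + s := by
  rw [countBelow_range, h1, h2]

end Cfsg.Agent.H8CE
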