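import Mathlib

set_option autoImplicit false

/-! Executable part of the certified coset enumeration checker (helper8). -/

namespace Cfsg.Agent.H8CE

def dig (T i : ℕ) : ℕ := Nat.land (Nat.shiftRight T (Nat.mul 16 i)) 65535

/-- write `v` at an empty position -/
def setE (T i v : ℕ) : ℕ :=
  match dig T i with
  | 0 => cond (Nat.ble v 65535) (Nat.add T (Nat.shiftLeft v (Nat.mul 16 i))) (Nat.add T 0)
  | _ + 1 => Nat.add T 0

def nth : List ℕ → ℕ → ℕ
  | [], _ => 0
  | a :: _, 0 => a
  | _ :: l, k + 1 => nth l k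

def upd : List ℕ → ℕ → ℕ → List ℕ
  | [], _, _ => []
  | _ :: l, 0, v => v :: l
  | a :: l, k + 1, v => a :: upd l k v

/-- evaluate `n` (a big number) before continuing; never pattern match on big numbers -/
def force {α : Type} (n : ℕ) (k : ℕ → α) : α :=
  cond (Nat.beq n 0) (k 0) (k (Nat.add n 0))

def stSet (s : List ℕ) (t i v : ℕ) : List ℕ :=
  force (setE (nth s t) i v) fun T' => upd s t T'

def allBelow (p : ℕ → Bool) : ℕ → Bool
  | 0 => true
  | k + 1 => p k && allBelow p k

def nthW : List (List ℕ) → ℕ → List ℕ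
  | [], _ => []
  | w :: _, 0 => w
  | _ :: l, k + 1 => nthW l k

def split3 : List ℕ → ℕ → List ℕ → Option (List ℕ × ℕ × List ℕ)
  | [], _, _ => none
  | x :: l, 0, acc => some (acc, x, l)
  | y :: l, k + 1, acc => split3 l k (y :: acc)

def find (P : ℕ) : ℕ → ℕ → ℕ
  | 0, α => α
  | fuel + 1, α =>
    match dig P α with
    | 0 => α
    | k + 1 => find P fuel k

def trace (s : List ℕ) (fuel : ℕ) : List ℕ → ℕ → Option ℕ
  | [], a => some a
  | x :: l, a =>
    match dig (nth s (x + 1)) a with
    | 0 => none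
    | k + 1 => trace s fuel l (find (nth s 0) fuel k)

def merge (s : List ℕ) (u v : ℕ) : List ℕ :=
  cond (Nat.beq u v) s (cond (Nat.ble u v) (stSet s 0 v (u + 1)) (stSet s 0 u (v + 1)))

def scanApply (s : List ℕ) (fuel x f b : ℕ) : List ℕ :=
  match dig (nth s (x + 1)) f with
  | 0 =>
    match dig (nth s (x + 1)) b with
    | 0 => stSet (stSet s (x + 1) f (b + 1)) (x + 1) b (f + 1)
    | e2 + 1 => merge (stSet s (x + 1) f (b + 1)) (find (nth s 0) fuel e2) f
  | e1 + 1 =>
    match dig (nth s (x + 1)) b with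
    | 0 => merge (stSet s (x + 1) b (f + 1)) (find (nth s 0) fuel e1) b
    | _ + 1 => merge s (find (nth s 0) fuel e1) b

def getWord (rels subs : List (List ℕ)) (nr a wi : ℕ) : List ℕ :=
  cond (Nat.blt wi nr) (nthW rels wi) (cond (Nat.beq a 0) (nthW subs (Nat.sub wi nr)) [])

def opScan (rels subs : List (List ℕ)) (nr fuel : ℕ) (s : List ℕ) (a wi k : ℕ) : List ℕ :=
  match split3 (getWord rels subs nr a wi) k [] with
  | none => s
  | some (ur, x, v) =>
    match trace s fuel v.reverse (find (nth s 0) fuel a) with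
    | none => s
    | some f =>
      match trace s fuel ur.reverse (find (nth s 0) fuel a) with
      | none => s
      | some b => scanApply s fuel x f b

def opTransfer (s : List ℕ) (fuel γ x : ℕ) : List ℕ :=
  match dig (nth s (x + 1)) γ with
  | 0 => s
  | e + 1 =>
    match dig (nth s (x + 1)) (find (nth s 0) fuel γ) with
    | 0 =>
      match dig (nth s (x + 1)) (find (nth s 0) fuel e) with
      | 0 => stSet (stSet s (x + 1) (find (nth s 0) fuel γ) (find (nth s 0) fuel e + 1)) (x + 1)
              (find (nth s 0) fuel e) (find (nth s 0) fuel γ + 1)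
      | t2 + 1 => merge (stSet s (x + 1) (find (nth s 0) fuel γ) (find (nth s 0) fuel e + 1))
              (find (nth s 0) fuel t2) (find (nth s 0) fuel γ)
    | t + 1 => merge s (find (nth s 0) fuel t) (find (nth s 0) fuel e)

def opDef (dp dx : ℕ) (s : List ℕ) (ν : ℕ) : List ℕ :=
  match ν with
  | 0 => s
  | m + 1 =>
    stSet (stSet s (dig dx (m + 1) + 1) (min (dig dp (m + 1)) m) (m + 2)) (dig dx (m + 1) + 1) (m + 1)
      (min (dig dp (m + 1)) m + 1)

def step (rels subs : List (List ℕ)) (nr fuel dp dx : ℕ) (s : List ℕ) (op : ℕ) : List ℕ :=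
  match Nat.land op 3 with
  | 0 => opDef dp dx s (Nat.land (Nat.shiftRight op 2) 65535)
  | 1 => opScan rels subs nr fuel s (Nat.land (Nat.shiftRight op 2) 65535)
      (Nat.land (Nat.shiftRight op 18) 255) (Nat.shiftRight op 26)
  | 2 => opTransfer s fuel (Nat.land (Nat.shiftRight op 2) 65535)
      (Nat.land (Nat.shiftRight op 18) 255)
  | _ => s

/-- force the head of the state list before continuing (keeps kernel evaluation shallow) -/
def withList {β : Type} (s : List ℕ) (k : List ℕ → β) : β :=
  match s with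
  | [] => k []
  | a :: l => k (a :: l)

def runChunk (rels subs : List (List ℕ)) (nr fuel dp dx : ℕ) : ℕ → ℕ → ℕ → List ℕ → List ℕ
  | 0, _, _, s => s
  | cnt + 1, ch, pos, s =>
    withList (step rels subs nr fuel dp dx s
        (Nat.land (Nat.shiftRight ch (Nat.mul 40 pos)) 1099511627775))
      (fun s' => runChunk rels subs nr fuel dp dx cnt ch (Nat.succ pos) s')

def runAll (rels subs : List (List ℕ)) (nr fuel dp dx cs : ℕ) : List ℕ → List ℕ → List ℕ
  | [], s => s
  | ch :: rest, s =>
    withList (runChunk rels subs nr fuel dp dx cs ch 0 s)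
      (fun s' => runAll rels subs nr fuel dp dx cs rest s')

/-- final table check: row of point `i`, generator `x` -/
def checkEntry (s : List ℕ) (fuel canon : ℕ) (pt : List ℕ) (i x : ℕ) : Bool :=
  match dig (nth s (x + 1)) (dig canon i) with
  | 0 => false
  | e + 1 => Nat.beq (find (nth s 0) fuel e) (dig canon (dig (nth pt x) i))

def checkTable (s : List ℕ) (fuel canon : ℕ) (pt : List ℕ) (n ng : ℕ) : Bool :=
  Nat.beq (dig canon 0) 0 &&
    allBelow (fun i => allBelow (fun x => checkEntry s fuel canon pt i x) ng) n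

def tabW (pt : List ℕ) : List ℕ → ℕ → ℕ
  | [], i => i
  | x :: l, i => dig (nth pt x) (tabW pt l i)

def checkInvol (pt : List ℕ) (n ng : ℕ) : Bool :=
  allBelow (fun x => allBelow (fun i => Nat.blt (dig (nth pt x) i) n &&
    Nat.beq (dig (nth pt x) (dig (nth pt x) i)) i) n) ng

def checkWord (pt : List ℕ) (n ng : ℕ) (w : List ℕ) : Bool :=
  w.all (fun x => Nat.blt x ng) && allBelow (fun i => Nat.beq (tabW pt w i) i) n

/-- transitivity certificate: point `i > 0` is `x • p` with `p < i` -/
def checkTrans (pt : List ℕ) (bp bx : ℕ) (n ng : ℕ) : Bool :=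
  allBelow (fun i => Nat.beq i 0 || (Nat.blt (dig bp i) i && Nat.blt (dig bx i) ng &&
    Nat.beq (dig (nth pt (dig bx i)) (dig bp i)) i)) n

def countBelow (p : ℕ → Bool) : ℕ → ℕ
  | 0 => 0
  | k + 1 => Nat.add (cond (p k) 1 0) (countBelow p k)

def checkOrbit (pt : List ℕ) (subs : List (List ℕ)) (col roots op ow od : ℕ) (n ng : ℕ) : Bool :=
  subs.all (fun w => w.all (fun x => Nat.blt x ng) &&
    allBelow (fun i => Nat.beq (dig col (tabW pt w i)) (dig col i)) n) &&
  allBelow (fun i => Nat.beq i (dig roots (dig col i)) ||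
    (Nat.blt (dig op i) n && Nat.blt (dig od (dig op i)) (dig od i) &&
      Nat.beq (tabW pt (nthW subs (dig ow i)) (dig op i)) i)) n

/-- assemble a big number from 4096-bit pieces (keeps source literals short) -/
def combine : List ℕ → ℕ
  | [] => 0
  | c :: l => Nat.add c (Nat.shiftLeft (combine l) 4096)

end Cfsg.Agent.H8CE
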