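import Mathlib
import Cfsg.Prelude.Def_SporCoxeter
import Cfsg.Agent.Lib.Helper8_CosetCore

set_option autoImplicit false

/-!
# Certified coset enumeration (helper8)

A checker for Todd–Coxeter traces over groups generated by involutions.  All tables are
stored as base-`65536` digits of natural numbers so that the kernel evaluates the checker
with GMP arithmetic.
-/

namespace Cfsg.Agent.H8CE

/-! ## Digit arrays -/


theorem dig_eq (T i : ℕ) : dig T i = T / 65536 ^ i % 65536 := by
  show (T >>> (16 * i)) &&& 65535 = _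
  rw [Nat.shiftRight_eq_div_pow, show (65535 : ℕ) = 2 ^ 16 - 1 by norm_num,
    Nat.and_two_pow_sub_one_eq_mod, pow_mul]
  norm_num

theorem dig_lt (T i : ℕ) : dig T i < 65536 := by
  rw [dig_eq]; exact Nat.mod_lt _ (by norm_num)

theorem dig_zero (i : ℕ) : dig 0 i = 0 := by rw [dig_eq]; simp

theorem digit_add {W : ℕ} (hW : 0 < W) (T i v j : ℕ) (h0 : T / W ^ i % W = 0) (hv : v < W) :
    (T + v * W ^ i) / W ^ j % W = if j = i then v else T / W ^ j % W := by
  have hWi : 0 < W ^ i := pow_pos hW i
  rcases lt_trichotomy j i with hlt | heq | hgt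
  · obtain ⟨d, rfl⟩ : ∃ d, i = j + 1 + d := ⟨i - j - 1, by omega⟩
    have hne : j ≠ j + 1 + d := by omega
    rw [if_neg hne]
    have : v * W ^ (j + 1 + d) = (v * W ^ d * W) * W ^ j := by ring
    rw [this, Nat.add_mul_div_right _ _ (pow_pos hW j), Nat.add_mul_mod_self_right]
  · subst heq
    rw [if_pos rfl, Nat.add_mul_div_right _ _ hWi, Nat.add_mod, h0, zero_add, Nat.mod_mod,
      Nat.mod_eq_of_lt hv]
  · obtain ⟨d, rfl⟩ : ∃ d, j = i + 1 + d := ⟨j - i - 1, by omega⟩
    have hne : i + 1 + d ≠ i := by omega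
    rw [if_neg hne]
    have e1 : ∀ X : ℕ, X / W ^ (i + 1 + d) = X / W ^ i / W / W ^ d := by
      intro X
      rw [Nat.div_div_eq_div_mul, Nat.div_div_eq_div_mul, pow_add, pow_add, pow_one, mul_assoc]
    rw [e1, e1, Nat.add_mul_div_right _ _ hWi]
    have hq : T / W ^ i = W * (T / W ^ i / W) := by
      have := Nat.div_add_mod (T / W ^ i) W
      rw [h0, add_zero] at this
      exact this.symm
    have : (T / W ^ i + v) / W = T / W ^ i / W := by
      conv_lhs => rw [hq]
      rw [Nat.mul_add_div hW, Nat.div_eq_of_lt hv, add_zero]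
    rw [this]


theorem dig_setE (T i v j : ℕ) :
    dig (setE T i v) j = dig T j ∨ (j = i ∧ dig (setE T i v) j = v) := by
  unfold setE
  split
  · rename_i h0
    cases hv : Nat.ble v 65535
    · left; rfl
    · have hv' : v < 65536 := Nat.lt_succ_of_le (Nat.le_of_ble_eq_true hv)
      have h0' : T / 65536 ^ i % 65536 = 0 := by rw [← dig_eq]; exact h0
      have key := digit_add (W := 65536) (by norm_num) T i v j h0' hv'
      have hT : Nat.add T (Nat.shiftLeft v (Nat.mul 16 i)) = T + v * 65536 ^ i := by
        show T + v <<< (16 * i) = _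
        rw [Nat.shiftLeft_eq, pow_mul]; norm_num
      simp only [cond_true]
      rw [hT, dig_eq, dig_eq, key]
      by_cases hji : j = i
      · right; exact ⟨hji, by rw [if_pos hji]⟩
      · left; rw [if_neg hji]
  · left; rfl

/-! ## Lists of tables -/



theorem nth_upd (l : List ℕ) (i v j : ℕ) :
    nth (upd l i v) j = nth l j ∨ (j = i ∧ nth (upd l i v) j = v) := by
  induction l generalizing i j with
  | nil => left; rfl
  | cons a l ih =>
    cases i with
    | zero =>
      cases j with
      | zero => right; exact ⟨rfl, rfl⟩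
      | succ j => left; rfl
    | succ i =>
      cases j with
      | zero => left; rfl
      | succ j =>
        rcases ih i j with h | ⟨h1, h2⟩
        · left; simpa [nth, upd] using h
        · right; exact ⟨by rw [h1], by simpa [nth, upd] using h2⟩

theorem nth_replicate (k t : ℕ) : nth (List.replicate k 0) t = 0 := by
  induction k generalizing t with
  | zero => rfl
  | succ k ih =>
    cases t with
    | zero => rfl
    | succ t => simpa [List.replicate, nth] using ih t


theorem force_eq {α : Type} (n : ℕ) (k : ℕ → α) : force n k = k n := by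
  unfold force
  cases h : Nat.beq n 0
  · rfl
  · have : n = 0 := Nat.eq_of_beq_eq_true h
    subst this; rfl


theorem dig_stSet (s : List ℕ) (t i v t' j : ℕ) :
    dig (nth (stSet s t i v) t') j = dig (nth s t') j ∨
      (t' = t ∧ j = i ∧ dig (nth (stSet s t i v) t') j = v) := by
  unfold stSet
  rw [force_eq]
  rcases nth_upd s t (setE (nth s t) i v) t' with h | ⟨h1, h2⟩
  · left; rw [h]
  · subst h1
    rw [h2]
    rcases dig_setE (nth s t') i v j with h | ⟨h3, h4⟩
    · left; exact h
    · right; exact ⟨rfl, h3, h4⟩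


theorem allBelow_spec {p : ℕ → Bool} {n : ℕ} (h : allBelow p n = true) :
    ∀ i, i < n → p i = true := by
  induction n with
  | zero => intro i hi; omega
  | succ k ih =>
    simp only [allBelow, Bool.and_eq_true] at h
    intro i hi
    rcases Nat.lt_succ_iff_lt_or_eq.mp hi with h1 | h1
    · exact ih h.2 i h1
    · rw [h1]; exact h.1


theorem nthW_mem (l : List (List ℕ)) (i : ℕ) : nthW l i = [] ∨ nthW l i ∈ l := by
  induction l generalizing i with
  | nil => left; rfl
  | cons w l ih =>
    cases i with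
    | zero => right; exact List.mem_cons_self
    | succ i =>
      rcases ih i with h | h
      · left; exact h
      · right; exact List.mem_cons_of_mem _ h


theorem split3_spec (w : List ℕ) (k : ℕ) (acc ur : List ℕ) (x : ℕ) (v : List ℕ)
    (h : split3 w k acc = some (ur, x, v)) : acc.reverse ++ w = ur.reverse ++ x :: v := by
  induction w generalizing k acc with
  | nil => simp [split3] at h
  | cons y l ih =>
    cases k with
    | zero =>
      simp only [split3, Option.some.injEq, Prod.mk.injEq] at h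
      obtain ⟨rfl, rfl, rfl⟩ := h
      rfl
    | succ k =>
      have := ih k (y :: acc) h
      simpa using this


/-! ## The executable checker -/











theorem withList_eq {β : Type} (s : List ℕ) (k : List ℕ → β) : withList s k = k s := by
  cases s <;> rfl





/-! ## Soundness -/

section ctx

variable {G : Type*} [Group G] (H : Subgroup G) (gen : ℕ → G) (dp dx : ℕ)

def nodeElt : ℕ → G
  | 0 => 1
  | ν + 1 => gen (dig dx (ν + 1)) * nodeElt (min (dig dp (ν + 1)) ν)
termination_by ν => ν
decreasing_by exact Nat.lt_succ_of_le (Nat.min_le_right _ _)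

theorem nodeElt_succ (ν : ℕ) : nodeElt gen dp dx (ν + 1) =
    gen (dig dx (ν + 1)) * nodeElt gen dp dx (min (dig dp (ν + 1)) ν) := by
  rw [nodeElt]

def q (α : ℕ) : G ⧸ H := QuotientGroup.mk (nodeElt gen dp dx α)

def wprod (l : List ℕ) : G := (l.map gen).prod

def Fact (t α β : ℕ) : Prop :=
  match t with
  | 0 => q H gen dp dx α = q H gen dp dx β
  | x + 1 => gen x • q H gen dp dx α = q H gen dp dx β

def Inv (s : List ℕ) : Prop := ∀ t α β, dig (nth s t) α = β + 1 → Fact H gen dp dx t α β

theorem inv_init (k : ℕ) : Inv H gen dp dx (List.replicate k 0) := by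
  intro t α β h
  rw [nth_replicate, dig_zero] at h
  omega

variable {H gen dp dx}

theorem inv_stSet {s : List ℕ} (hs : Inv H gen dp dx s) {t i β : ℕ}
    (hf : Fact H gen dp dx t i β) : Inv H gen dp dx (stSet s t i (β + 1)) := by
  intro t' α β' h
  rcases dig_stSet s t i (β + 1) t' α with h1 | ⟨h1, h2, h3⟩
  · exact hs t' α β' (h1 ▸ h)
  · have : β' = β := by omega
    subst this; subst h1; subst h2; exact hf

theorem q_find {s : List ℕ} (hs : Inv H gen dp dx s) (fuel α : ℕ) :
    q H gen dp dx (find (nth s 0) fuel α) = q H gen dp dx α := by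
  induction fuel generalizing α with
  | zero => rfl
  | succ f ih =>
    unfold find
    split
    · rfl
    · rename_i k hk
      rw [ih k]; exact (hs 0 α k hk).symm

def actL (H : Subgroup G) (gen : ℕ → G) (l : List ℕ) (c : G ⧸ H) : G ⧸ H :=
  l.foldl (fun acc x => gen x • acc) c

theorem trace_sound {s : List ℕ} (hs : Inv H gen dp dx s) (fuel : ℕ) (l : List ℕ) (a c : ℕ)
    (h : trace s fuel l a = some c) : actL H gen l (q H gen dp dx a) = q H gen dp dx c := by
  induction l generalizing a with
  | nil => simp only [trace, Option.some.injEq] at h; subst h; rfl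
  | cons x l ih =>
    unfold trace at h
    split at h
    · exact absurd h (by simp)
    · rename_i k hk
      have h2 := ih _ h
      rw [q_find hs] at h2
      show actL H gen l (gen x • q H gen dp dx a) = q H gen dp dx c
      have h3 : gen x • q H gen dp dx a = q H gen dp dx k := hs (x + 1) a k hk
      rw [h3]; exact h2

theorem actL_eq (l : List ℕ) (c : G ⧸ H) : actL H gen l c = wprod gen l.reverse • c := by
  induction l generalizing c with
  | nil => simp [actL, wprod]
  | cons x l ih =>
    show actL H gen l (gen x • c) = _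
    rw [ih, List.reverse_cons]
    simp [wprod, List.map_append, List.prod_append, mul_smul]

theorem wprod_reverse (hinv : ∀ x, gen x * gen x = 1) (l : List ℕ) :
    wprod gen l.reverse = (wprod gen l)⁻¹ := by
  induction l with
  | nil => simp [wprod]
  | cons x l ih =>
    have hx : (gen x)⁻¹ = gen x := inv_eq_of_mul_eq_one_left (hinv x)
    simp only [wprod, List.reverse_cons, List.map_append, List.prod_append, List.map_cons,
      List.map_nil, List.prod_cons, List.prod_nil, mul_one, mul_inv_rev] at ih ⊢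
    rw [ih, hx]

theorem inv_merge {s : List ℕ} (hs : Inv H gen dp dx s) {u v : ℕ}
    (h : q H gen dp dx u = q H gen dp dx v) : Inv H gen dp dx (merge s u v) := by
  unfold merge
  cases Nat.beq u v
  · cases Nat.ble u v
    · exact inv_stSet hs (show Fact H gen dp dx 0 u v from h)
    · exact inv_stSet hs (show Fact H gen dp dx 0 v u from h.symm)
  · exact hs

theorem inv_scanApply (hinv : ∀ x, gen x * gen x = 1) {s : List ℕ} (hs : Inv H gen dp dx s)
    (fuel x f b : ℕ) (h : gen x • q H gen dp dx f = q H gen dp dx b) :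
    Inv H gen dp dx (scanApply s fuel x f b) := by
  have h' : gen x • q H gen dp dx b = q H gen dp dx f := by
    rw [← h, smul_smul, hinv x, one_smul]
  unfold scanApply
  split
  · split
    · exact inv_stSet (inv_stSet hs (show Fact H gen dp dx (x + 1) f b from h))
        (show Fact H gen dp dx (x + 1) b f from h')
    · rename_i e2 h2
      refine inv_merge (inv_stSet hs (show Fact H gen dp dx (x + 1) f b from h)) ?_
      rw [q_find hs]
      have : gen x • q H gen dp dx b = q H gen dp dx e2 := hs (x + 1) b e2 h2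
      rw [← this, h']
  · rename_i e1 h1
    have he1 : gen x • q H gen dp dx f = q H gen dp dx e1 := hs (x + 1) f e1 h1
    split
    · refine inv_merge (inv_stSet hs (show Fact H gen dp dx (x + 1) b f from h')) ?_
      rw [q_find hs, ← he1, h]
    · refine inv_merge hs ?_
      rw [q_find hs, ← he1, h]


theorem word_fix (rels subs : List (List ℕ)) (nr : ℕ)
    (hrel : ∀ w ∈ rels, wprod gen w = 1) (hsub : ∀ w ∈ subs, wprod gen w ∈ H)
    (_hdx0 : True) (a wi : ℕ) :
    wprod gen (getWord rels subs nr a wi) • q H gen dp dx a = q H gen dp dx a := by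
  unfold getWord
  cases Nat.blt wi nr
  · cases ha : Nat.beq a 0
    · simp [wprod]
    · have ha0 : a = 0 := Nat.eq_of_beq_eq_true ha
      subst ha0
      simp only [cond_false, cond_true]
      rcases nthW_mem subs (Nat.sub wi nr) with h | h
      · rw [h]; simp [wprod]
      · have hm := hsub _ h
        show wprod gen (nthW subs (Nat.sub wi nr)) • (QuotientGroup.mk (nodeElt gen dp dx 0) : G ⧸ H)
          = QuotientGroup.mk (nodeElt gen dp dx 0)
        rw [MulAction.Quotient.smul_mk]
        rw [QuotientGroup.eq]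
        have h0 : nodeElt gen dp dx 0 = 1 := by rw [nodeElt]
        rw [h0]
        simpa using H.inv_mem hm
  · simp only [cond_true]
    rcases nthW_mem rels wi with h | h
    · rw [h]; simp [wprod]
    · rw [hrel _ h, one_smul]

theorem inv_opScan (hinv : ∀ x, gen x * gen x = 1) (rels subs : List (List ℕ)) (nr fuel : ℕ)
    (hrel : ∀ w ∈ rels, wprod gen w = 1) (hsub : ∀ w ∈ subs, wprod gen w ∈ H)
    {s : List ℕ} (hs : Inv H gen dp dx s) (a wi k : ℕ) :
    Inv H gen dp dx (opScan rels subs nr fuel s a wi k) := by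
  unfold opScan
  split
  · exact hs
  · rename_i ur x v hsp
    split
    · exact hs
    · rename_i f hf
      split
      · exact hs
      · rename_i b hb
        apply inv_scanApply hinv hs
        have hw := split3_spec _ _ _ _ _ _ hsp
        simp only [List.reverse_nil, List.nil_append] at hw
        have hfix := word_fix (H := H) (dp := dp) (dx := dx) rels subs nr hrel hsub trivial a wi
        have h1 := trace_sound hs fuel _ _ _ hf
        have h2 := trace_sound hs fuel _ _ _ hb
        rw [q_find hs, actL_eq, List.reverse_reverse] at h1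
        rw [q_find hs, actL_eq, List.reverse_reverse] at h2
        rw [hw] at hfix
        have hprod : wprod gen (ur.reverse ++ x :: v) = wprod gen ur.reverse * gen x * wprod gen v := by
          simp [wprod, List.map_append, List.prod_append, mul_assoc]
        rw [← h1, ← h2]
        rw [wprod_reverse hinv] at hprod
        rw [hprod] at hfix
        have hx : (gen x)⁻¹ = gen x := inv_eq_of_mul_eq_one_left (hinv x)
        calc gen x • wprod gen v • q H gen dp dx a
            = (wprod gen ur) • (((wprod gen ur)⁻¹ * gen x * wprod gen v) • q H gen dp dx a) := by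
              simp only [smul_smul]; congr 1; group
          _ = (wprod gen ur) • q H gen dp dx a := by rw [hfix]

theorem inv_opTransfer (hinv : ∀ x, gen x * gen x = 1) (fuel : ℕ)
    {s : List ℕ} (hs : Inv H gen dp dx s) (γ x : ℕ) :
    Inv H gen dp dx (opTransfer s fuel γ x) := by
  unfold opTransfer
  split
  · exact hs
  · rename_i e he
    have h0 : gen x • q H gen dp dx γ = q H gen dp dx e := hs (x + 1) γ e he
    have hm : gen x • q H gen dp dx (find (nth s 0) fuel γ) = q H gen dp dx (find (nth s 0) fuel e) := by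
      rw [q_find hs, q_find hs, h0]
    have hm' : gen x • q H gen dp dx (find (nth s 0) fuel e) = q H gen dp dx (find (nth s 0) fuel γ) := by
      rw [← hm, smul_smul, hinv x, one_smul]
    split
    · split
      · exact inv_stSet (inv_stSet hs (show Fact H gen dp dx (x + 1) _ _ from hm))
          (show Fact H gen dp dx (x + 1) _ _ from hm')
      · rename_i t2 ht2
        refine inv_merge (inv_stSet hs (show Fact H gen dp dx (x + 1) _ _ from hm)) ?_
        have : gen x • q H gen dp dx (find (nth s 0) fuel e) = q H gen dp dx t2 := hs (x + 1) _ t2 ht2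
        rw [q_find hs, ← this, hm']
    · rename_i t ht
      refine inv_merge hs ?_
      have : gen x • q H gen dp dx (find (nth s 0) fuel γ) = q H gen dp dx t := hs (x + 1) _ t ht
      rw [q_find hs, ← this, hm]

theorem inv_opDef (hinv : ∀ x, gen x * gen x = 1) {s : List ℕ} (hs : Inv H gen dp dx s) (ν : ℕ) :
    Inv H gen dp dx (opDef dp dx s ν) := by
  unfold opDef
  split
  · exact hs
  · rename_i m
    have h1 : gen (dig dx (m + 1)) • q H gen dp dx (min (dig dp (m + 1)) m) = q H gen dp dx (m + 1) := by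
      show gen (dig dx (m + 1)) • (QuotientGroup.mk (nodeElt gen dp dx _) : G ⧸ H) = QuotientGroup.mk (nodeElt gen dp dx (m + 1))
      rw [MulAction.Quotient.smul_mk, nodeElt_succ, smul_eq_mul]
    have h2 : gen (dig dx (m + 1)) • q H gen dp dx (m + 1) = q H gen dp dx (min (dig dp (m + 1)) m) := by
      rw [← h1, smul_smul, hinv, one_smul]
    exact inv_stSet (inv_stSet hs (show Fact H gen dp dx (dig dx (m + 1) + 1) _ (m + 1) from h1))
      (show Fact H gen dp dx (dig dx (m + 1) + 1) (m + 1) _ from h2)

theorem inv_step (hinv : ∀ x, gen x * gen x = 1) (rels subs : List (List ℕ)) (nr fuel : ℕ)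
    (hrel : ∀ w ∈ rels, wprod gen w = 1) (hsub : ∀ w ∈ subs, wprod gen w ∈ H)
    {s : List ℕ} (hs : Inv H gen dp dx s) (op : ℕ) :
    Inv H gen dp dx (step rels subs nr fuel dp dx s op) := by
  unfold step
  split
  · exact inv_opDef hinv hs _
  · exact inv_opScan hinv rels subs nr fuel hrel hsub hs _ _ _
  · exact inv_opTransfer hinv fuel hs _ _
  · exact hs

theorem inv_runChunk (hinv : ∀ x, gen x * gen x = 1) (rels subs : List (List ℕ)) (nr fuel : ℕ)
    (hrel : ∀ w ∈ rels, wprod gen w = 1) (hsub : ∀ w ∈ subs, wprod gen w ∈ H)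
    (cnt ch pos : ℕ) {s : List ℕ} (hs : Inv H gen dp dx s) :
    Inv H gen dp dx (runChunk rels subs nr fuel dp dx cnt ch pos s) := by
  induction cnt generalizing pos s with
  | zero => exact hs
  | succ cnt ih =>
    unfold runChunk
    rw [withList_eq]
    exact ih _ (inv_step hinv rels subs nr fuel hrel hsub hs _)

theorem inv_runAll (hinv : ∀ x, gen x * gen x = 1) (rels subs : List (List ℕ)) (nr fuel cs : ℕ)
    (hrel : ∀ w ∈ rels, wprod gen w = 1) (hsub : ∀ w ∈ subs, wprod gen w ∈ H)
    (chunks : List ℕ) {s : List ℕ} (hs : Inv H gen dp dx s) :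
    Inv H gen dp dx (runAll rels subs nr fuel dp dx cs chunks s) := by
  induction chunks generalizing s with
  | nil => exact hs
  | cons ch rest ih =>
    unfold runAll
    rw [withList_eq]
    exact ih (inv_runChunk hinv rels subs nr fuel hrel hsub _ _ _ hs)

/-- What the final table check gives. -/
theorem checkTable_sound {s : List ℕ} (hs : Inv H gen dp dx s) (fuel canon : ℕ) (pt : List ℕ)
    (n ng : ℕ) (h : checkTable s fuel canon pt n ng = true) :
    q H gen dp dx (dig canon 0) = QuotientGroup.mk 1 ∧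
    ∀ i, i < n → ∀ x, x < ng →
      gen x • q H gen dp dx (dig canon i) = q H gen dp dx (dig canon (dig (nth pt x) i)) := by
  unfold checkTable at h
  rw [Bool.and_eq_true] at h
  refine ⟨?_, ?_⟩
  · have h0 : dig canon 0 = 0 := Nat.eq_of_beq_eq_true h.1
    rw [h0]
    show (QuotientGroup.mk (nodeElt gen dp dx 0) : G ⧸ H) = _
    rw [nodeElt]
  · intro i hi x hx
    have h1 := allBelow_spec (allBelow_spec h.2 i hi) x hx
    unfold checkEntry at h1
    split at h1
    · exact absurd h1 (by simp)
    · rename_i e he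
      have h2 : find (nth s 0) fuel e = dig canon (dig (nth pt x) i) := Nat.eq_of_beq_eq_true h1
      rw [← h2, q_find hs]
      exact hs (x + 1) _ e he

/-- Covering: every coset is one of the `n` representatives. -/
theorem cover_of_table (hinv : ∀ x, gen x * gen x = 1) (n ng : ℕ) (r : ℕ → G ⧸ H) (act : ℕ → ℕ → ℕ)
    (hact : ∀ i, i < n → ∀ x, x < ng → act x i < n)
    (hgen : Subgroup.closure {g : G | ∃ x, x < ng ∧ g = gen x} = ⊤)
    (hn : 0 < n)
    (h0 : r 0 = QuotientGroup.mk 1)
    (hr : ∀ i, i < n → ∀ x, x < ng → gen x • r i = r (act x i)) :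
    ∀ c : G ⧸ H, ∃ i, i < n ∧ c = r i := by
  have key : ∀ g : G, (∀ i, i < n → ∃ j, j < n ∧ g • r i = r j) ∧
      (∀ i, i < n → ∃ j, j < n ∧ g⁻¹ • r i = r j) := by
    intro g
    have hg : g ∈ Subgroup.closure {g : G | ∃ x, x < ng ∧ g = gen x} := by rw [hgen]; trivial
    induction hg using Subgroup.closure_induction with
    | mem g hg =>
      obtain ⟨x, hx, rfl⟩ := hg
      have hxi : (gen x)⁻¹ = gen x := inv_eq_of_mul_eq_one_left (hinv x)
      rw [hxi]
      exact ⟨fun i hi => ⟨act x i, hact i hi x hx, hr i hi x hx⟩,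
        fun i hi => ⟨act x i, hact i hi x hx, hr i hi x hx⟩⟩
    | one =>
      rw [inv_one]
      exact ⟨fun i hi => ⟨i, hi, one_smul _ _⟩, fun i hi => ⟨i, hi, one_smul _ _⟩⟩
    | mul a b _ _ iha ihb =>
      refine ⟨fun i hi => ?_, fun i hi => ?_⟩
      · obtain ⟨j, hj, hjb⟩ := ihb.1 i hi
        obtain ⟨k, hk, hka⟩ := iha.1 j hj
        exact ⟨k, hk, by rw [mul_smul, hjb, hka]⟩
      · obtain ⟨j, hj, hjb⟩ := iha.2 i hi
        obtain ⟨k, hk, hka⟩ := ihb.2 j hj
        exact ⟨k, hk, by rw [mul_inv_rev, mul_smul, hjb, hka]⟩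
    | inv a _ iha =>
      rw [inv_inv]
      exact ⟨iha.2, iha.1⟩
  intro c
  induction c using QuotientGroup.induction_on with
  | H g =>
    obtain ⟨j, hj, h⟩ := (key g).1 0 hn
    refine ⟨j, hj, ?_⟩
    rw [← h, h0, MulAction.Quotient.smul_mk, smul_eq_mul, mul_one]


theorem cover_main (hinv : ∀ x, gen x * gen x = 1) (rels subs : List (List ℕ)) (nr fuel cs : ℕ)
    (chunks : List ℕ) (canon : ℕ) (pt : List ℕ) (n ng : ℕ)
    (hrel : ∀ w ∈ rels, wprod gen w = 1) (hsub : ∀ w ∈ subs, wprod gen w ∈ H)
    (hgen : Subgroup.closure {g : G | ∃ x, x < ng ∧ g = gen x} = ⊤) (hn : 0 < n)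
    (hact : ∀ i, i < n → ∀ x, x < ng → dig (nth pt x) i < n)
    (hcheck : checkTable (runAll rels subs nr fuel dp dx cs chunks (List.replicate (ng + 1) 0))
      fuel canon pt n ng = true) :
    ∀ c : G ⧸ H, ∃ i, i < n ∧ c = q H gen dp dx (dig canon i) := by
  have hs := inv_runAll hinv rels subs nr fuel cs hrel hsub chunks (inv_init H gen dp dx (ng + 1))
  obtain ⟨h0, hr⟩ := checkTable_sound hs fuel canon pt n ng hcheck
  exact cover_of_table hinv n ng (fun i => q H gen dp dx (dig canon i)) (fun x i => dig (nth pt x) i)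
    hact hgen hn h0 hr

theorem cover_main' (hinv : ∀ x, gen x * gen x = 1) (fuel : ℕ)
    (canon : ℕ) (pt : List ℕ) (n ng : ℕ)
    (hgen : Subgroup.closure {g : G | ∃ x, x < ng ∧ g = gen x} = ⊤) (hn : 0 < n)
    (hact : ∀ i, i < n → ∀ x, x < ng → dig (nth pt x) i < n)
    (s : List ℕ) (hs : Inv H gen dp dx s)
    (hcheck : checkTable s fuel canon pt n ng = true) :
    ∀ c : G ⧸ H, ∃ i, i < n ∧ c = q H gen dp dx (dig canon i) := by
  obtain ⟨h0, hr⟩ := checkTable_sound hs fuel canon pt n ng hcheck
  exact cover_of_table hinv n ng (fun i => q H gen dp dx (dig canon i)) (fun x i => dig (nth pt x) i)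
    hact hgen hn h0 hr

theorem inv_seg (hinv : ∀ x, gen x * gen x = 1) (rels subs : List (List ℕ)) (nr fuel cs : ℕ)
    (hrel : ∀ w ∈ rels, wprod gen w = 1) (hsub : ∀ w ∈ subs, wprod gen w ∈ H)
    (chunks : List ℕ) {s s' : List ℕ} (hs : Inv H gen dp dx s)
    (h : runAll rels subs nr fuel dp dx cs chunks s = s') : Inv H gen dp dx s' :=
  h ▸ inv_runAll hinv rels subs nr fuel cs hrel hsub chunks hs

end ctx

/-! ## The permutation side -/



theorem checkInvol_spec {pt : List ℕ} {n ng : ℕ} (h : checkInvol pt n ng = true) :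
    ∀ x, x < ng → ∀ i, i < n → dig (nth pt x) i < n ∧ dig (nth pt x) (dig (nth pt x) i) = i := by
  intro x hx i hi
  have h1 := allBelow_spec (allBelow_spec h x hx) i hi
  rw [Bool.and_eq_true] at h1
  refine ⟨?_, Nat.eq_of_beq_eq_true h1.2⟩
  have := h1.1
  unfold Nat.blt at this
  exact Nat.lt_of_succ_le (Nat.le_of_ble_eq_true this)

def tabFun (pt : List ℕ) (n x : ℕ) (i : Fin n) : Fin n :=
  if h : dig (nth pt x) i < n then ⟨dig (nth pt x) i, h⟩ else i

theorem tabFun_val {pt : List ℕ} {n ng : ℕ} (h : checkInvol pt n ng = true) {x : ℕ} (hx : x < ng)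
    (i : Fin n) : (tabFun pt n x i : ℕ) = dig (nth pt x) i := by
  unfold tabFun
  rw [dif_pos (checkInvol_spec h x hx i i.2).1]

theorem tabFun_invol {pt : List ℕ} {n ng : ℕ} (h : checkInvol pt n ng = true) {x : ℕ} (hx : x < ng) :
    Function.Involutive (tabFun pt n x) := by
  intro i
  apply Fin.ext
  rw [tabFun_val h hx, tabFun_val h hx]
  exact (checkInvol_spec h x hx i i.2).2

noncomputable def tabPerm (pt : List ℕ) (n ng : ℕ) (h : checkInvol pt n ng = true) (x : ℕ) :
    Equiv.Perm (Fin n) :=
  if hx : x < ng then (tabFun_invol h hx).toPerm else 1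

theorem tabPerm_val {pt : List ℕ} {n ng : ℕ} (h : checkInvol pt n ng = true) {x : ℕ} (hx : x < ng)
    (i : Fin n) : (tabPerm pt n ng h x i : ℕ) = dig (nth pt x) i := by
  unfold tabPerm
  rw [dif_pos hx]
  exact tabFun_val h hx i

theorem tabPerm_mul_self {pt : List ℕ} {n ng : ℕ} (h : checkInvol pt n ng = true) (x : ℕ) :
    tabPerm pt n ng h x * tabPerm pt n ng h x = 1 := by
  unfold tabPerm
  by_cases hx : x < ng
  · rw [dif_pos hx]
    ext i
    simp only [Equiv.Perm.coe_mul, Function.comp_apply, Function.Involutive.coe_toPerm,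
      Equiv.Perm.coe_one, id_eq]
    rw [tabFun_invol h hx i]
  · rw [dif_neg hx]; simp

theorem permW_val {pt : List ℕ} {n ng : ℕ} (h : checkInvol pt n ng = true) (w : List ℕ)
    (hw : ∀ x ∈ w, x < ng) (i : Fin n) :
    (((w.map (tabPerm pt n ng h)).prod i : Fin n) : ℕ) = tabW pt w i := by
  induction w with
  | nil => simp [tabW]
  | cons x l ih =>
    have hl : ∀ y ∈ l, y < ng := fun y hy => hw y (List.mem_cons_of_mem _ hy)
    simp only [List.map_cons, List.prod_cons, Equiv.Perm.coe_mul, Function.comp_apply, tabW]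
    rw [tabPerm_val h (hw x List.mem_cons_self), ih hl]


theorem checkWord_spec {pt : List ℕ} {n ng : ℕ} (h : checkInvol pt n ng = true) (w : List ℕ)
    (hw : checkWord pt n ng w = true) : (w.map (tabPerm pt n ng h)).prod = 1 := by
  unfold checkWord at hw
  rw [Bool.and_eq_true, List.all_eq_true] at hw
  have hlt : ∀ x ∈ w, x < ng := by
    intro x hx
    have := hw.1 x hx
    unfold Nat.blt at this
    exact Nat.lt_of_succ_le (Nat.le_of_ble_eq_true this)
  ext i
  rw [permW_val h w hlt i]
  simp only [Equiv.Perm.coe_one, id_eq]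
  exact Nat.eq_of_beq_eq_true (allBelow_spec hw.2 i i.2)


section perm

variable {G : Type*} [Group G] {H : Subgroup G} {gen : ℕ → G}

theorem trans_of_check {pt : List ℕ} {n ng : ℕ} (hchk : checkInvol pt n ng = true) (bp bx : ℕ)
    (htr : checkTrans pt bp bx n ng = true) (hn : 0 < n)
    (σ : G →* Equiv.Perm (Fin n)) (hσ : ∀ x, x < ng → σ (gen x) = tabPerm pt n ng hchk x) :
    ∀ i : Fin n, ∃ g : G, σ g ⟨0, hn⟩ = i := by
  intro ⟨i, hi⟩
  induction i using Nat.strong_induction_on with
  | _ i ih =>
    have h1 := allBelow_spec htr i hi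
    rw [Bool.or_eq_true] at h1
    rcases h1 with h1 | h1
    · have : i = 0 := Nat.eq_of_beq_eq_true h1
      subst this
      exact ⟨1, by simp⟩
    · rw [Bool.and_eq_true, Bool.and_eq_true] at h1
      obtain ⟨⟨h2, h3⟩, h4⟩ := h1
      unfold Nat.blt at h2 h3
      have hp : dig bp i < i := Nat.lt_of_succ_le (Nat.le_of_ble_eq_true h2)
      have hx : dig bx i < ng := Nat.lt_of_succ_le (Nat.le_of_ble_eq_true h3)
      have h5 : dig (nth pt (dig bx i)) (dig bp i) = i := Nat.eq_of_beq_eq_true h4
      obtain ⟨g, hg⟩ := ih (dig bp i) hp (lt_trans hp hi)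
      refine ⟨gen (dig bx i) * g, ?_⟩
      rw [map_mul, Equiv.Perm.coe_mul, Function.comp_apply, hg, hσ _ hx]
      apply Fin.ext
      rw [tabPerm_val hchk hx]
      exact h5

theorem index_of_cover {n : ℕ} (hn : 0 < n) (σ : G →* Equiv.Perm (Fin n))
    (hH : ∀ h ∈ H, σ h ⟨0, hn⟩ = ⟨0, hn⟩)
    (htrans : ∀ i : Fin n, ∃ g : G, σ g ⟨0, hn⟩ = i)
    (r : ℕ → G ⧸ H) (hcover : ∀ c : G ⧸ H, ∃ i, i < n ∧ c = r i) :
    H.index = n ∧ ∃ Φ : G ⧸ H → Fin n, Function.Bijective Φ ∧
      ∀ g : G, Φ (QuotientGroup.mk g) = σ g ⟨0, hn⟩ := by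
  have hwd : ∀ a b : G, QuotientGroup.leftRel H a b → σ a ⟨0, hn⟩ = σ b ⟨0, hn⟩ := by
    intro a b hab
    rw [QuotientGroup.leftRel_apply] at hab
    have := hH _ hab
    rw [map_mul, map_inv, Equiv.Perm.coe_mul, Function.comp_apply, Equiv.Perm.inv_eq_iff_eq] at this
    exact this.symm
  let Φ : G ⧸ H → Fin n := fun c => Quotient.liftOn' c (fun g => σ g ⟨0, hn⟩) hwd
  have hΦ : ∀ g : G, Φ (QuotientGroup.mk g) = σ g ⟨0, hn⟩ := fun g => rfl
  have hsurj : Function.Surjective Φ := by
    intro i
    obtain ⟨g, hg⟩ := htrans i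
    exact ⟨QuotientGroup.mk g, by rw [hΦ, hg]⟩
  have hrsurj : Function.Surjective (fun i : Fin n => r i) := by
    intro c
    obtain ⟨i, hi, hc⟩ := hcover c
    exact ⟨⟨i, hi⟩, hc.symm⟩
  haveI : Finite (G ⧸ H) := Finite.of_surjective _ hrsurj
  have h1 : Nat.card (G ⧸ H) ≤ n := by
    have := Nat.card_le_card_of_surjective _ hrsurj
    simpa using this
  have h2 : n ≤ Nat.card (G ⧸ H) := by
    have := Nat.card_le_card_of_surjective _ hsurj
    simpa using this
  have hcard : Nat.card (G ⧸ H) = n := le_antisymm h1 h2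
  refine ⟨hcard, Φ, ?_, hΦ⟩
  exact hsurj.bijective_of_nat_card_le (by simp [hcard])

theorem sigma_wprod {pt : List ℕ} {n ng : ℕ} (hchk : checkInvol pt n ng = true)
    (σ : G →* Equiv.Perm (Fin n)) (hσ : ∀ x, x < ng → σ (gen x) = tabPerm pt n ng hchk x)
    (w : List ℕ) (hw : ∀ x ∈ w, x < ng) :
    σ (wprod gen w) = (w.map (tabPerm pt n ng hchk)).prod := by
  unfold wprod
  rw [map_list_prod, List.map_map]
  congr 1
  apply List.map_congr_left
  intro x hx
  exact hσ x (hw x hx)

/-! ### Orbits of `H` on the cosets -/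


theorem countBelow_eq (p : ℕ → Bool) (n : ℕ) :
    countBelow p n = ((Finset.range n).filter (fun k => p k = true)).card := by
  induction n with
  | zero => rfl
  | succ k ih =>
    rw [Finset.range_add_one, Finset.filter_insert]
    show (cond (p k) 1 0) + countBelow p k = _
    rw [ih]
    by_cases hp : p k = true
    · rw [if_pos hp, Finset.card_insert_of_notMem (by simp), hp]
      simp [add_comm]
    · rw [if_neg hp]
      have : p k = false := by simpa using hp
      rw [this]; simp

theorem ncard_fin_eq (p : ℕ → Bool) (n : ℕ) :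
    Set.ncard {i : Fin n | p i = true} = countBelow p n := by
  rw [countBelow_eq]
  have : (fun i : Fin n => (i : ℕ)) '' {i : Fin n | p i = true} =
      ↑((Finset.range n).filter (fun k => p k = true)) := by
    ext k
    simp only [Set.mem_image, Set.mem_ofPred_eq, Finset.coe_filter, Finset.mem_range]
    constructor
    · rintro ⟨i, hi, rfl⟩; exact ⟨i.2, hi⟩
    · rintro ⟨hk, hp⟩; exact ⟨⟨k, hk⟩, hp, rfl⟩
  rw [← Set.ncard_image_of_injective _ Fin.val_injective, this, Set.ncard_coe_finset]


theorem phi_smul {n : ℕ} (hn : 0 < n) (σ : G →* Equiv.Perm (Fin n)) (Φ : G ⧸ H → Fin n)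
    (hΦ : ∀ g : G, Φ (QuotientGroup.mk g) = σ g ⟨0, hn⟩) (g : G) (c : G ⧸ H) :
    Φ (g • c) = σ g (Φ c) := by
  induction c using QuotientGroup.induction_on with
  | H a =>
    rw [MulAction.Quotient.smul_mk, smul_eq_mul, hΦ, hΦ, map_mul]
    rfl

theorem orbit_image {pt : List ℕ} {n ng : ℕ} (hn : 0 < n) (hchk : checkInvol pt n ng = true)
    (σ : G →* Equiv.Perm (Fin n)) (hσ : ∀ x, x < ng → σ (gen x) = tabPerm pt n ng hchk x)
    (Φ : G ⧸ H → Fin n) (hΦ : ∀ g : G, Φ (QuotientGroup.mk g) = σ g ⟨0, hn⟩)
    (subs : List (List ℕ)) (hsubH : ∀ w ∈ subs, wprod gen w ∈ H)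
    (hHle : H ≤ Subgroup.closure {g : G | ∃ w ∈ subs, g = wprod gen w})
    (col roots op ow od : ℕ) (hco : checkOrbit pt subs col roots op ow od n ng = true)
    (q : G ⧸ H) (hq : (Φ q : ℕ) = dig roots (dig col (Φ q))) :
    Φ '' (MulAction.orbit H q) = {i : Fin n | Nat.beq (dig col i) (dig col (Φ q)) = true} := by
  unfold checkOrbit at hco
  rw [Bool.and_eq_true, List.all_eq_true] at hco
  obtain ⟨hc1, hc2⟩ := hco
  have hlt : ∀ w ∈ subs, ∀ x ∈ w, x < ng := by
    intro w hw x hx
    have := hc1 w hw
    rw [Bool.and_eq_true, List.all_eq_true] at this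
    have := this.1 x hx
    unfold Nat.blt at this
    exact Nat.lt_of_succ_le (Nat.le_of_ble_eq_true this)
  have hcolw : ∀ w ∈ subs, ∀ i : Fin n, dig col (σ (wprod gen w) i) = dig col i := by
    intro w hw i
    have := hc1 w hw
    rw [Bool.and_eq_true] at this
    rw [sigma_wprod hchk σ hσ w (hlt w hw), permW_val hchk w (hlt w hw) i]
    exact Nat.eq_of_beq_eq_true (allBelow_spec this.2 i i.2)
  have hcolC : ∀ g ∈ Subgroup.closure {g : G | ∃ w ∈ subs, g = wprod gen w},
      ∀ i : Fin n, dig col (σ g i) = dig col i := by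
    intro g hg
    induction hg using Subgroup.closure_induction with
    | mem g hg =>
      obtain ⟨w, hw, rfl⟩ := hg
      exact hcolw w hw
    | one => intro i; simp
    | mul a b _ _ iha ihb =>
      intro i
      rw [map_mul, Equiv.Perm.coe_mul, Function.comp_apply, iha, ihb]
    | inv a _ iha =>
      intro i
      have h1 : (σ a) ((σ a)⁻¹ i) = i := by
        rw [← Equiv.Perm.mul_apply, mul_inv_cancel, Equiv.Perm.one_apply]
      have := iha ((σ a)⁻¹ i)
      rw [h1] at this
      rw [map_inv, this]
  have hcolH : ∀ h ∈ H, ∀ i : Fin n, dig col (σ h i) = dig col i :=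
    fun h hh => hcolC h (hHle hh)
  have hsm : ∀ (h : H), Φ (h • q) = σ (h : G) (Φ q) := by
    intro h
    have hgen : ∀ c : G ⧸ H, Φ (h • c) = σ (h : G) (Φ c) := by
      intro c
      induction c using QuotientGroup.induction_on with
      | H a =>
        have : (h • (QuotientGroup.mk a : G ⧸ H)) = QuotientGroup.mk ((h : G) * a) := rfl
        rw [this, hΦ, hΦ, map_mul]
        rfl
    exact hgen q
  ext i
  simp only [Set.mem_image, Set.mem_ofPred_eq]
  constructor
  · rintro ⟨c, ⟨h, rfl⟩, rfl⟩
    show Nat.beq (dig col (Φ (h • q))) (dig col (Φ q)) = true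
    rw [hsm, hcolH _ h.2]
    exact Nat.beq_refl _
  · intro hi
    have hi' : dig col i = dig col (Φ q) := Nat.eq_of_beq_eq_true hi
    -- reachability by induction on depth
    have key : ∀ d : ℕ, ∀ j : Fin n, dig od j = d → dig col j = dig col (Φ q) →
        ∃ h ∈ H, σ h (Φ q) = j := by
      intro d
      induction d using Nat.strong_induction_on with
      | _ d ih =>
        intro j hd hcj
        have h1 := allBelow_spec hc2 j j.2
        rw [Bool.or_eq_true] at h1
        rcases h1 with h1 | h1
        · have hj : (j : ℕ) = dig roots (dig col j) := Nat.eq_of_beq_eq_true h1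
          refine ⟨1, H.one_mem, ?_⟩
          rw [map_one]
          apply Fin.ext
          rw [hj, hcj, ← hq]
          rfl
        · rw [Bool.and_eq_true, Bool.and_eq_true] at h1
          obtain ⟨⟨h2, h3⟩, h4⟩ := h1
          unfold Nat.blt at h2 h3
          have hp : dig op j < n := Nat.lt_of_succ_le (Nat.le_of_ble_eq_true h2)
          have hod : dig od (dig op j) < dig od j := Nat.lt_of_succ_le (Nat.le_of_ble_eq_true h3)
          have h5 : tabW pt (nthW subs (dig ow j)) (dig op j) = j := Nat.eq_of_beq_eq_true h4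
          rcases nthW_mem subs (dig ow j) with hw | hw
          · rw [hw] at h5
            simp only [tabW] at h5
            rw [h5] at hod
            exact absurd hod (lt_irrefl _)
          · set w := nthW subs (dig ow j) with hwdef
            have hpj : σ (wprod gen w) ⟨dig op j, hp⟩ = j := by
              apply Fin.ext
              rw [sigma_wprod hchk σ hσ w (hlt w hw), permW_val hchk w (hlt w hw)]
              exact h5
            have hcp : dig col ((⟨dig op j, hp⟩ : Fin n) : ℕ) = dig col (Φ q) := by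
              calc dig col ((⟨dig op j, hp⟩ : Fin n) : ℕ)
                  = dig col ((σ (wprod gen w) ⟨dig op j, hp⟩ : Fin n) : ℕ) := (hcolw w hw _).symm
                _ = dig col j := by rw [hpj]
                _ = dig col (Φ q) := hcj
            obtain ⟨h', hh', hh'2⟩ := ih (dig od (dig op j)) (hd ▸ hod) ⟨dig op j, hp⟩ rfl hcp
            refine ⟨wprod gen w * h', H.mul_mem (hsubH w hw) hh', ?_⟩
            rw [map_mul, Equiv.Perm.coe_mul, Function.comp_apply, hh'2, hpj]
    obtain ⟨h, hh, hh2⟩ := key (dig od i) i rfl hi'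
    refine ⟨(⟨h, hh⟩ : H) • q, ⟨⟨h, hh⟩, rfl⟩, ?_⟩
    rw [hsm]
    exact hh2

theorem orbit_ncard {pt : List ℕ} {n ng : ℕ} (hn : 0 < n) (hchk : checkInvol pt n ng = true)
    (σ : G →* Equiv.Perm (Fin n)) (hσ : ∀ x, x < ng → σ (gen x) = tabPerm pt n ng hchk x)
    (Φ : G ⧸ H → Fin n) (hΦb : Function.Bijective Φ)
    (hΦ : ∀ g : G, Φ (QuotientGroup.mk g) = σ g ⟨0, hn⟩)
    (subs : List (List ℕ)) (hsubH : ∀ w ∈ subs, wprod gen w ∈ H)
    (hHle : H ≤ Subgroup.closure {g : G | ∃ w ∈ subs, g = wprod gen w})
    (col roots op ow od : ℕ) (hco : checkOrbit pt subs col roots op ow od n ng = true)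
    (c : ℕ) (hc : dig roots c < n) (hcc : dig col (dig roots c) = c) :
    ∃ q : G ⧸ H, (Φ q : ℕ) = dig roots c ∧
      (MulAction.orbit H q).ncard = countBelow (fun i => Nat.beq (dig col i) c) n ∧
      ∀ q' ∈ MulAction.orbit H q, dig col (Φ q') = c := by
  obtain ⟨q, hq⟩ := hΦb.surjective ⟨dig roots c, hc⟩
  have hq' : (Φ q : ℕ) = dig roots c := by rw [hq]
  have hcq : dig col (Φ q) = c := by rw [hq', hcc]
  have himg := orbit_image hn hchk σ hσ Φ hΦ subs hsubH hHle col roots op ow od hco q
    (by rw [hcq, hq'])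
  refine ⟨q, hq', ?_, ?_⟩
  · rw [← Set.ncard_image_of_injective _ hΦb.injective, himg, hcq]
    exact ncard_fin_eq (fun i => Nat.beq (dig col i) c) n
  · intro q' hq'm
    have : Φ q' ∈ Φ '' MulAction.orbit H q := ⟨q', hq'm, rfl⟩
    rw [himg, hcq] at this
    exact Nat.eq_of_beq_eq_true this

end perm

/-! ## Words of relators -/

section words

variable {α : Type*} [DecidableEq α]

/-- the word (generator codes, signs forgotten) of a free group element -/
def toWordCode (code : α → ℕ) (r : FreeGroup α) : List ℕ := r.toWord.map fun p => code p.1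

theorem hom_eq_wprod {Γ : Type*} [Group Γ] (φ : FreeGroup α →* Γ) (code : α → ℕ) (F : ℕ → Γ)
    (hF : ∀ x, φ (FreeGroup.of x) = F (code x)) (hinv : ∀ x, F (code x) * F (code x) = 1)
    (r : FreeGroup α) : φ r = ((toWordCode code r).map F).prod := by
  have h1 : φ r = FreeGroup.lift (fun x => F (code x)) r := FreeGroup.lift_unique φ hF
  rw [h1]
  conv_lhs => rw [← FreeGroup.mk_toWord (x := r)]
  rw [FreeGroup.lift_mk]
  unfold toWordCode
  rw [List.map_map]
  congr 1
  apply List.map_congr_left
  intro p _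
  have hi : (F (code p.1))⁻¹ = F (code p.1) := inv_eq_of_mul_eq_one_left (hinv p.1)
  cases p.2 <;> simp [hi]

def coxWordList (edges : List (α × ℕ × α)) (code : α → ℕ) (allg : List α) : List (List ℕ) :=
  allg.flatMap fun x => allg.map fun y =>
    (List.replicate (Cfsg.Spor.coxLabel edges x y) [code x, code y]).flatten

theorem prod_cox {Γ : Type*} [Group Γ] (F : ℕ → Γ) (a b m : ℕ) :
    ((List.replicate m [a, b]).flatten.map F).prod = (F a * F b) ^ m := by
  induction m with
  | zero => simp
  | succ m ih =>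
    rw [List.replicate_succ, List.flatten_cons, List.map_append, List.prod_append, ih, pow_succ']
    simp [mul_assoc]

theorem cox_words_of_rels {Γ : Type*} [Group Γ] (edges : List (α × ℕ × α)) (code : α → ℕ)
    (allg : List α) (hall : ∀ x ∈ allg, x ∈ Cfsg.Spor.coxNodes edges)
    (φ : FreeGroup α →* Γ) (F : ℕ → Γ) (hF : ∀ x, φ (FreeGroup.of x) = F (code x))
    (h : ∀ r ∈ Cfsg.Spor.coxRelators edges, φ r = 1) :
    ∀ w ∈ coxWordList edges code allg, (w.map F).prod = 1 := by
  intro w hw
  unfold coxWordList at hw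
  rw [List.mem_flatMap] at hw
  obtain ⟨x, hx, hw⟩ := hw
  rw [List.mem_map] at hw
  obtain ⟨y, hy, rfl⟩ := hw
  rw [prod_cox, ← hF, ← hF, ← map_mul, ← map_pow]
  exact h _ ⟨x, hall x hx, y, hall y hy, rfl⟩

theorem cox_rels_of_words {Γ : Type*} [Group Γ] (edges : List (α × ℕ × α)) (code : α → ℕ)
    (allg : List α) (hall : ∀ x ∈ Cfsg.Spor.coxNodes edges, x ∈ allg)
    (φ : FreeGroup α →* Γ) (F : ℕ → Γ) (hF : ∀ x, φ (FreeGroup.of x) = F (code x))
    (h : ∀ w ∈ coxWordList edges code allg, (w.map F).prod = 1) :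
    ∀ r ∈ Cfsg.Spor.coxRelators edges, φ r = 1 := by
  rintro r ⟨x, hx, y, hy, rfl⟩
  rw [map_pow, map_mul, hF, hF, ← prod_cox]
  apply h
  unfold coxWordList
  rw [List.mem_flatMap]
  exact ⟨x, hall x hx, List.mem_map.mpr ⟨y, hall y hy, rfl⟩⟩

end words

/-! ## Coxeter-style presentations -/

section coxmain

open Cfsg.Spor

theorem cox_of_mul_self {α : Type} [DecidableEq α] (edges : List (α × ℕ × α))
    (S : Set (FreeGroup α)) (x : α) (hx : x ∈ coxNodes edges) :
    (PresentedGroup.of x : PresentedGroup (coxRelators edges ∪ S)) * PresentedGroup.of x = 1 := by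
  have hmem : (FreeGroup.of x * FreeGroup.of x) ^ coxLabel edges x x ∈ coxRelators edges ∪ S :=
    Or.inl ⟨x, hx, x, hx, rfl⟩
  have h1 := PresentedGroup.one_of_mem hmem
  have hl : coxLabel edges x x = 1 := by simp [coxLabel]
  rw [hl, pow_one, map_mul] at h1
  exact h1

/-- The main theorem for a Coxeter-style presentation with a verified enumeration certificate. -/
theorem cox_main {α : Type} [DecidableEq α] (edges : List (α × ℕ × α)) (extra Y : List (FreeGroup α))
    (Yset : Set (FreeGroup α)) (hY : Yset = {y | y ∈ Y})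
    (code : α → ℕ) (allg : List α) (ng n : ℕ)
    (hall : ∀ x : α, x ∈ allg) (hnodes : ∀ x : α, x ∈ coxNodes edges)
    (hcode_lt : ∀ x, code x < ng) (hcode_inj : Function.Injective code)
    (hcode_surj : ∀ k, k < ng → ∃ x, code x = k)
    (rels subs : List (List ℕ))
    (hrels : rels = coxWordList edges code allg ++ extra.map (toWordCode code))
    (hsubs : subs = Y.map (toWordCode code))
    (dp dx canon bp bx col roots op ow od fuel : ℕ) (pt sfin : List ℕ)
    (hn : 0 < n)
    (hinvol : checkInvol pt n ng = true)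
    (hwords : rels.all (checkWord pt n ng) = true)
    (htrans : checkTrans pt bp bx n ng = true)
    (hsub0 : subs.all (fun w => w.all (fun x => Nat.blt x ng) && Nat.beq (tabW pt w 0) 0) = true)
    (hInv : ∀ (G : Type) [Group G] (H : Subgroup G) (gen : ℕ → G), (∀ x, gen x * gen x = 1) →
      (∀ w ∈ rels, wprod gen w = 1) → (∀ w ∈ subs, wprod gen w ∈ H) → Inv H gen dp dx sfin)
    (htable : checkTable sfin fuel canon pt n ng = true)
    (horbit : checkOrbit pt subs col roots op ow od n ng = true) :
    ((Subgroup.closure Yset).map (PresentedGroup.mk (coxRelators edges ∪ {r | r ∈ extra}))).index = n ∧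
    ∃ Φ : PresentedGroup (coxRelators edges ∪ {r | r ∈ extra}) ⧸
        ((Subgroup.closure Yset).map (PresentedGroup.mk (coxRelators edges ∪ {r | r ∈ extra}))) → Fin n,
      ∀ c, dig roots c < n → dig col (dig roots c) = c →
        ∃ q, (MulAction.orbit ((Subgroup.closure Yset).map
            (PresentedGroup.mk (coxRelators edges ∪ {r | r ∈ extra}))) q).ncard =
            countBelow (fun i => Nat.beq (dig col i) c) n ∧
          ∀ q' ∈ MulAction.orbit ((Subgroup.closure Yset).map
            (PresentedGroup.mk (coxRelators edges ∪ {r | r ∈ extra}))) q, dig col (Φ q') = c := by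
  classical
  set R : Set (FreeGroup α) := coxRelators edges ∪ {r | r ∈ extra} with hR
  set mkR := PresentedGroup.mk R with hmkR
  set H : Subgroup (PresentedGroup R) := (Subgroup.closure Yset).map mkR with hH
  let gen : ℕ → PresentedGroup R := fun k =>
    if h : ∃ x, code x = k then PresentedGroup.of (Classical.choose h) else 1
  have gen_code : ∀ x, gen (code x) = PresentedGroup.of x := by
    intro x
    have h : ∃ y, code y = code x := ⟨x, rfl⟩
    show (if h : ∃ y, code y = code x then PresentedGroup.of (Classical.choose h) else 1) = _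
    rw [dif_pos h]
    exact congrArg _ (hcode_inj (Classical.choose_spec h))
  have hinvG : ∀ k, gen k * gen k = 1 := by
    intro k
    by_cases h : ∃ x, code x = k
    · obtain ⟨x, rfl⟩ := h
      rw [gen_code]
      exact cox_of_mul_self edges _ x (hnodes x)
    · show (if h : ∃ x, code x = k then PresentedGroup.of (Classical.choose h) else 1) *
        (if h : ∃ x, code x = k then PresentedGroup.of (Classical.choose h) else 1) = (1 : PresentedGroup R)
      rw [dif_neg h, one_mul]
  have hF : ∀ x, mkR (FreeGroup.of x) = gen (code x) := fun x => (gen_code x).symm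
  have hmkword : ∀ r : FreeGroup α, mkR r = wprod gen (toWordCode code r) :=
    fun r => hom_eq_wprod mkR code gen hF (fun x => hinvG _) r
  have hrelG : ∀ w ∈ rels, wprod gen w = 1 := by
    intro w hw
    rw [hrels, List.mem_append] at hw
    rcases hw with hw | hw
    · exact cox_words_of_rels edges code allg (fun x _ => hnodes x) mkR gen hF
        (fun r hr => PresentedGroup.one_of_mem (Or.inl hr)) w hw
    · rw [List.mem_map] at hw
      obtain ⟨r, hr, rfl⟩ := hw
      rw [← hmkword]
      exact PresentedGroup.one_of_mem (Or.inr hr)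
  have hsubG : ∀ w ∈ subs, wprod gen w ∈ H := by
    intro w hw
    rw [hsubs, List.mem_map] at hw
    obtain ⟨y, hy, rfl⟩ := hw
    rw [← hmkword]
    exact Subgroup.mem_map_of_mem mkR (Subgroup.subset_closure (by rw [hY]; exact hy))
  have hgen : Subgroup.closure {g : PresentedGroup R | ∃ x, x < ng ∧ g = gen x} = ⊤ := by
    rw [eq_top_iff, ← PresentedGroup.closure_range_of R]
    apply Subgroup.closure_mono
    rintro _ ⟨x, rfl⟩
    exact ⟨code x, hcode_lt x, (gen_code x).symm⟩
  have hact : ∀ i, i < n → ∀ x, x < ng → dig (nth pt x) i < n :=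
    fun i hi x hx => (checkInvol_spec hinvol x hx i hi).1
  have cover := cover_main' (H := H) (dp := dp) (dx := dx) hinvG fuel canon pt n ng hgen hn hact sfin
    (hInv _ H gen hinvG hrelG hsubG) htable
  -- permutation side
  set F := tabPerm pt n ng hinvol with hFdef
  have hFinv : ∀ x : α, F (code x) * F (code x) = 1 := fun x => tabPerm_mul_self hinvol _
  have hwordsP : ∀ w ∈ rels, (w.map F).prod = 1 := by
    intro w hw
    rw [List.all_eq_true] at hwords
    exact checkWord_spec hinvol w (hwords w hw)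
  have hrelsP : ∀ r ∈ R, FreeGroup.lift (fun x => F (code x)) r = 1 := by
    intro r hr
    rcases hr with hr | hr
    · exact cox_rels_of_words edges code allg (fun x _ => hall x) (FreeGroup.lift fun x => F (code x)) F
        (fun x => FreeGroup.lift_apply_of)
        (fun w hw => hwordsP w (by rw [hrels]; exact List.mem_append_left _ hw)) r hr
    · rw [hom_eq_wprod (FreeGroup.lift fun x => F (code x)) code F (fun x => FreeGroup.lift_apply_of)
        hFinv r]
      exact hwordsP _ (by rw [hrels]; exact List.mem_append_right _ (List.mem_map_of_mem hr))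
  let σ : PresentedGroup R →* Equiv.Perm (Fin n) := PresentedGroup.toGroup hrelsP
  have hσ : ∀ k, k < ng → σ (gen k) = F k := by
    intro k hk
    obtain ⟨x, rfl⟩ := hcode_surj k hk
    rw [gen_code]
    exact PresentedGroup.toGroup.of hrelsP
  have hsubs_lt : ∀ w ∈ subs, ∀ x ∈ w, x < ng := by
    intro w hw x hx
    rw [List.all_eq_true] at hsub0
    have := hsub0 w hw
    rw [Bool.and_eq_true, List.all_eq_true] at this
    have := this.1 x hx
    unfold Nat.blt at this
    exact Nat.lt_of_succ_le (Nat.le_of_ble_eq_true this)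
  have hsubs_fix : ∀ w ∈ subs, σ (wprod gen w) ⟨0, hn⟩ = ⟨0, hn⟩ := by
    intro w hw
    rw [List.all_eq_true] at hsub0
    have := hsub0 w hw
    rw [Bool.and_eq_true] at this
    apply Fin.ext
    rw [sigma_wprod hinvol σ hσ w (hsubs_lt w hw), permW_val hinvol w (hsubs_lt w hw)]
    exact Nat.eq_of_beq_eq_true this.2
  have hHle : H ≤ Subgroup.closure {g : PresentedGroup R | ∃ w ∈ subs, g = wprod gen w} := by
    rw [hH, MonoidHom.map_closure]
    apply Subgroup.closure_mono
    rintro _ ⟨y, hy, rfl⟩
    rw [hY] at hy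
    exact ⟨toWordCode code y, by rw [hsubs]; exact List.mem_map_of_mem hy, hmkword y⟩
  have hC0 : ∀ h ∈ Subgroup.closure {g : PresentedGroup R | ∃ w ∈ subs, g = wprod gen w},
      σ h ⟨0, hn⟩ = ⟨0, hn⟩ := by
    intro h hh'
    induction hh' using Subgroup.closure_induction with
    | mem g hg =>
      obtain ⟨w, hw, rfl⟩ := hg
      exact hsubs_fix w hw
    | one => simp
    | mul a b _ _ iha ihb => rw [map_mul, Equiv.Perm.mul_apply, ihb, iha]
    | inv a _ iha =>
      rw [map_inv, Equiv.Perm.inv_eq_iff_eq]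
      exact iha.symm
  have hH0 : ∀ h ∈ H, σ h ⟨0, hn⟩ = ⟨0, hn⟩ := fun h hh => hC0 h (hHle hh)
  have htr := trans_of_check (gen := gen) hinvol bp bx htrans hn σ hσ
  obtain ⟨hidx, Φ, hΦb, hΦ⟩ := index_of_cover (H := H) hn σ hH0 htr _ cover
  refine ⟨hidx, Φ, ?_⟩
  intro c hc hcc
  obtain ⟨q, _, h1, h2⟩ := orbit_ncard (H := H) (gen := gen) hn hinvol σ hσ Φ hΦb hΦ subs hsubG hHle
    col roots op ow od horbit c hc hcc
  exact ⟨q, h1, h2⟩

end coxmain

end Cfsg.Agent.H8CE
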