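import Cfsg.Agent.Lib.Helper8_CosetCore

set_option autoImplicit false

/-! Sparse patches of big packed tables, evaluated by balanced merging (helper8). -/

namespace Cfsg.Agent.H8CE

/-- a sparse number: `leaf v sh = v <<< sh`, `node l r sh = l + (r <<< sh)` -/
inductive PTree where
  | leaf (v sh : ℕ)
  | node (l r : PTree) (sh : ℕ)

def PTree.eval : PTree → ℕ
  | .leaf v sh => Nat.shiftLeft v sh
  | .node l r sh => Nat.add l.eval (Nat.shiftLeft r.eval sh)

/-- add a sparse number to every table of the state -/
def applyPatch : List ℕ → List PTree → List ℕ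
  | a :: s, p :: ps => Nat.add a p.eval :: applyPatch s ps
  | s, [] => s
  | [], _ :: _ => []

end Cfsg.Agent.H8CE
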