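import Cfsg.Agent.Lib.Helper8_CosetCore

set_option autoImplicit false

namespace Cfsg.Agent.H8CoxB2

open Cfsg.Agent.H8CE

def st0 : List ℕ := [0,
  0,
  0]

def st1 : List ℕ := [0,
  combine [0x70008000400030006000500010002],
  combine [0x60005000800070002000100040003]]

end Cfsg.Agent.H8CoxB2
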