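import Cfsg.Agent.Lib.Helper8_CosetEnum

set_option autoImplicit false

/-! Orders of Coxeter groups through a maximal parabolic subgroup: the index comes from a coset
enumeration certificate, the upper bound from the order of the smaller Coxeter group, the lower
bound from a stabilizer chain inside the coset table (helper8). -/

namespace Cfsg.Agent.H8CE

/-- points reachable from the accumulated ones through the certificate `(point, generator)` -/
def reach (pt J : List ℕ) : List (ℕ × ℕ) → List ℕ → List ℕ
  | [], acc => acc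
  | (p, x) :: cs, acc =>
    reach pt J cs (if acc.contains p && J.contains x then dig (nth pt x) p :: acc else acc)

def distinctCount : List ℕ → ℕ
  | [] => 0
  | a :: l => if l.contains a then distinctCount l else distinctCount l + 1

/-- product of the orbit sizes along a stabilizer chain; `0` when the certificate is wrong -/
def chainLB (pt : List ℕ) (n ng : ℕ) : List ℕ → List (ℕ × List (ℕ × ℕ) × List ℕ) → ℕ
  | _, [] => 1
  | J, (b, cert, J') :: rest =>
    if (J'.all fun j => J.contains j && Nat.blt j ng && Nat.beq (dig (nth pt j) b) b) && Nat.blt b n then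
      distinctCount (reach pt J cert [b]) * chainLB pt n ng J' rest
    else 0

theorem distinctCount_eq (l : List ℕ) : distinctCount l = l.toFinset.card := by
  induction l with
  | nil => rfl
  | cons a l ih =>
    rw [List.toFinset_cons]
    by_cases h : a ∈ l
    · have h' : l.contains a = true := List.contains_iff_mem.mpr h
      show (if l.contains a then distinctCount l else distinctCount l + 1) = _
      rw [if_pos h', ih, Finset.insert_eq_of_mem (List.mem_toFinset.mpr h)]
    · have h' : ¬ (l.contains a = true) := fun hc => h (List.contains_iff_mem.mp hc)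
      show (if l.contains a then distinctCount l else distinctCount l + 1) = _
      rw [if_neg h', ih, Finset.card_insert_of_notMem (fun hm => h (List.mem_toFinset.mp hm))]

theorem orbit_mul_card_le {G X : Type*} [Group G] [DecidableEq X] (act : G → X → X)
    (hmul : ∀ g h x, act (g * h) x = act g (act h x))
    (K K' : Subgroup G) [Finite K] (hle : K' ≤ K) (b : X) (hfix : ∀ k ∈ K', act k b = b)
    (S : Finset X) (hS : ∀ y ∈ S, ∃ k ∈ K, act k b = y) :
    S.card * Nat.card K' ≤ Nat.card K := by
  classical
  choose t ht1 ht2 using hS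
  let f : S × K' → K := fun p => ⟨t p.1.1 p.1.2 * p.2.1, K.mul_mem (ht1 _ _) (hle p.2.2)⟩
  have hf : Function.Injective f := by
    rintro ⟨⟨y, hy⟩, ⟨k, hk⟩⟩ ⟨⟨z, hz⟩, ⟨k', hk'⟩⟩ h
    have h' : t y hy * k = t z hz * k' := congrArg Subtype.val h
    have hyz : y = z := by
      have h2 := congrArg (fun g => act g b) h'
      simp only [hmul, hfix k hk, hfix k' hk', ht2] at h2
      exact h2
    subst hyz
    have hk2 : k = k' := mul_left_cancel h'
    subst hk2
    rfl
  have h3 := Nat.card_le_card_of_injective f hf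
  rwa [Nat.card_prod, Nat.card_eq_fintype_card, Fintype.card_coe] at h3

section chain

variable {G : Type*} [Group G] {gen : ℕ → G}

/-- the action on naturals given by a permutation representation on `Fin n` -/
noncomputable def actN {n : ℕ} (σ : G →* Equiv.Perm (Fin n)) (g : G) (i : ℕ) : ℕ :=
  if h : i < n then (σ g ⟨i, h⟩ : ℕ) else i

theorem actN_lt {n : ℕ} (σ : G →* Equiv.Perm (Fin n)) (g : G) {i : ℕ} (h : i < n) :
    actN σ g i < n := by
  unfold actN
  rw [dif_pos h]
  exact (σ g ⟨i, h⟩).2

theorem actN_mul {n : ℕ} (σ : G →* Equiv.Perm (Fin n)) (g h : G) (i : ℕ) :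
    actN σ (g * h) i = actN σ g (actN σ h i) := by
  by_cases hi : i < n
  · have h2 : actN σ h i < n := actN_lt σ h hi
    have h3 : actN σ h i = (σ h ⟨i, hi⟩ : ℕ) := by unfold actN; rw [dif_pos hi]
    unfold actN
    rw [dif_pos hi, dif_pos (by rw [dif_pos hi]; exact (σ h ⟨i, hi⟩).2)]
    rw [map_mul, Equiv.Perm.mul_apply]
    congr 2
    apply Fin.ext
    show (σ h ⟨i, hi⟩ : ℕ) = (if h' : i < n then (σ h ⟨i, h'⟩ : ℕ) else i)
    rw [dif_pos hi]
  · unfold actN
    rw [dif_neg hi, dif_neg hi, dif_neg hi]

theorem actN_one {n : ℕ} (σ : G →* Equiv.Perm (Fin n)) (i : ℕ) : actN σ 1 i = i := by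
  unfold actN
  by_cases hi : i < n
  · rw [dif_pos hi, map_one]; rfl
  · rw [dif_neg hi]

theorem actN_gen {pt : List ℕ} {n ng : ℕ} (hchk : checkInvol pt n ng = true)
    (σ : G →* Equiv.Perm (Fin n)) (hσ : ∀ x, x < ng → σ (gen x) = tabPerm pt n ng hchk x)
    {x : ℕ} (hx : x < ng) {i : ℕ} (hi : i < n) : actN σ (gen x) i = dig (nth pt x) i := by
  unfold actN
  rw [dif_pos hi, hσ x hx, tabPerm_val hchk hx]

/-- the subgroup generated by the generators with indices in `J` -/
def clJ (gen : ℕ → G) (J : List ℕ) : Subgroup G := Subgroup.closure {g | ∃ j ∈ J, g = gen j}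

theorem clJ_mono {J J' : List ℕ} (h : ∀ j ∈ J', j ∈ J) : clJ gen J' ≤ clJ gen J := by
  apply Subgroup.closure_mono
  rintro g ⟨j, hj, rfl⟩
  exact ⟨j, h j hj, rfl⟩

theorem clJ_fix {n : ℕ} (σ : G →* Equiv.Perm (Fin n)) (J : List ℕ) (b : ℕ)
    (h : ∀ j ∈ J, actN σ (gen j) b = b) : ∀ k ∈ clJ gen J, actN σ k b = b := by
  intro k hk
  induction hk using Subgroup.closure_induction with
  | mem g hg =>
    obtain ⟨j, hj, rfl⟩ := hg
    exact h j hj
  | one => exact actN_one σ b
  | mul a c _ _ iha ihc => rw [actN_mul, ihc, iha]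
  | inv a _ iha =>
    have h1 : actN σ a⁻¹ (actN σ a b) = b := by
      rw [← actN_mul, inv_mul_cancel, actN_one]
    rw [iha] at h1
    exact h1

theorem reach_sound {pt : List ℕ} {n ng : ℕ} (hchk : checkInvol pt n ng = true)
    (σ : G →* Equiv.Perm (Fin n)) (hσ : ∀ x, x < ng → σ (gen x) = tabPerm pt n ng hchk x)
    (J : List ℕ) (hJ : ∀ j ∈ J, j < ng) (b : ℕ) (cert : List (ℕ × ℕ)) (acc : List ℕ)
    (hacc : ∀ y ∈ acc, y < n ∧ ∃ k ∈ clJ gen J, actN σ k b = y) :
    ∀ y ∈ reach pt J cert acc, y < n ∧ ∃ k ∈ clJ gen J, actN σ k b = y := by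
  induction cert generalizing acc with
  | nil => exact hacc
  | cons px cs ih =>
    obtain ⟨p, x⟩ := px
    apply ih
    by_cases hc : (acc.contains p && J.contains x) = true
    · rw [if_pos hc]
      rw [Bool.and_eq_true] at hc
      have hp : p ∈ acc := List.contains_iff_mem.mp hc.1
      have hx : x ∈ J := List.contains_iff_mem.mp hc.2
      intro y hy
      rw [List.mem_cons] at hy
      rcases hy with rfl | hy
      · obtain ⟨hpn, k, hk, hkb⟩ := hacc p hp
        refine ⟨(checkInvol_spec hchk x (hJ x hx) p hpn).1, gen x * k, ?_, ?_⟩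
        · exact (clJ gen J).mul_mem (Subgroup.subset_closure ⟨x, hx, rfl⟩) hk
        · rw [actN_mul, hkb, actN_gen hchk σ hσ (hJ x hx) hpn]
      · exact hacc y hy
    · rw [if_neg hc]
      exact hacc

theorem chainLB_le [Finite G] {pt : List ℕ} {n ng : ℕ} (hchk : checkInvol pt n ng = true)
    (σ : G →* Equiv.Perm (Fin n)) (hσ : ∀ x, x < ng → σ (gen x) = tabPerm pt n ng hchk x)
    (levels : List (ℕ × List (ℕ × ℕ) × List ℕ)) :
    ∀ J : List ℕ, (∀ j ∈ J, j < ng) → chainLB pt n ng J levels ≤ Nat.card (clJ gen J) := by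
  induction levels with
  | nil =>
    intro J _
    exact Nat.card_pos
  | cons lv rest ih =>
    obtain ⟨b, cert, J'⟩ := lv
    intro J hJ
    show (if (J'.all fun j => J.contains j && Nat.blt j ng && Nat.beq (dig (nth pt j) b) b) && Nat.blt b n
      then distinctCount (reach pt J cert [b]) * chainLB pt n ng J' rest else 0) ≤ _
    by_cases hc : ((J'.all fun j => J.contains j && Nat.blt j ng && Nat.beq (dig (nth pt j) b) b)
        && Nat.blt b n) = true
    · rw [if_pos hc]
      rw [Bool.and_eq_true, List.all_eq_true] at hc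
      obtain ⟨hc1, hc2⟩ := hc
      have hbn : b < n := by
        unfold Nat.blt at hc2
        exact Nat.lt_of_succ_le (Nat.le_of_ble_eq_true hc2)
      have hJ'1 : ∀ j ∈ J', j ∈ J := by
        intro j hj
        have := hc1 j hj
        rw [Bool.and_eq_true, Bool.and_eq_true] at this
        exact List.contains_iff_mem.mp this.1.1
      have hJ'2 : ∀ j ∈ J', j < ng := fun j hj => hJ j (hJ'1 j hj)
      have hJ'3 : ∀ j ∈ J', actN σ (gen j) b = b := by
        intro j hj
        have := hc1 j hj
        rw [Bool.and_eq_true] at this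
        rw [actN_gen hchk σ hσ (hJ'2 j hj) hbn]
        exact Nat.eq_of_beq_eq_true this.2
      have hS := reach_sound hchk σ hσ J hJ b cert [b] (by
        intro y hy
        rw [List.mem_singleton] at hy
        subst hy
        exact ⟨hbn, 1, (clJ gen J).one_mem, actN_one σ y⟩)
      have h1 := orbit_mul_card_le (actN σ) (actN_mul σ) (clJ gen J) (clJ gen J') (clJ_mono hJ'1) b
        (clJ_fix σ J' b hJ'3) (reach pt J cert [b]).toFinset
        (fun y hy => (hS y (List.mem_toFinset.mp hy)).2)
      rw [distinctCount_eq]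
      exact le_trans (Nat.mul_le_mul_left _ (ih J' hJ'2)) h1
    · rw [if_neg hc]
      exact Nat.zero_le _

end chain

/-- The order of a Coxeter group from the order of the parabolic subgroup on the first `r'`
generators, a coset enumeration certificate and a stabilizer chain. -/
theorem coxeter_step {r r' : ℕ} (M : CoxeterMatrix (Fin r)) (M' : CoxeterMatrix (Fin r')) (hr : r' ≤ r)
    (hM' : ∀ i j : Fin r', M' i j = M (Fin.castLE hr i) (Fin.castLE hr j))
    (m : ℕ) (hm : 0 < m) (hcard' : Nat.card M'.Group = m)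
    (n : ℕ) (rels subs : List (List ℕ))
    (hrels : rels = (List.finRange r).flatMap fun i => (List.finRange r).map fun j =>
        (List.replicate (M i j) [(i : ℕ), (j : ℕ)]).flatten)
    (hsubs : subs = (List.range r').map fun j => [j])
    (dp dx canon bp bx fuel : ℕ) (pt sfin : List ℕ) (hn : 0 < n)
    (hinvol : checkInvol pt n r = true)
    (hwords : rels.all (checkWord pt n r) = true)
    (htrans : checkTrans pt bp bx n r = true)
    (hsub0 : (List.range r').all (fun j => Nat.beq (dig (nth pt j) 0) 0) = true)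
    (hInv : ∀ (G : Type) [Group G] (H : Subgroup G) (gen : ℕ → G), (∀ x, gen x * gen x = 1) →
      (∀ w ∈ rels, wprod gen w = 1) → (∀ w ∈ subs, wprod gen w ∈ H) →
      Inv H gen dp dx sfin)
    (htable : checkTable sfin fuel canon pt n r = true)
    (levels : List (ℕ × List (ℕ × ℕ) × List ℕ))
    (hchain : n * m ≤ chainLB pt n r (List.range r) levels) :
    Nat.card M.Group = n * m := by
  classical
  let cs := M.toCoxeterSystem
  let cs' := M'.toCoxeterSystem
  let gen : ℕ → M.Group := fun k => if h : k < r then cs.simple ⟨k, h⟩ else 1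
  have gen_lt : ∀ (k : ℕ) (hk : k < r), gen k = cs.simple ⟨k, hk⟩ := by
    intro k hk
    show (if h : k < r then cs.simple ⟨k, h⟩ else 1) = _
    rw [dif_pos hk]
  have hinvG : ∀ k, gen k * gen k = 1 := by
    intro k
    by_cases h : k < r
    · rw [gen_lt k h]
      exact cs.simple_mul_simple_self _
    · show (if h : k < r then cs.simple ⟨k, h⟩ else 1) * (if h : k < r then cs.simple ⟨k, h⟩ else 1)
        = (1 : M.Group)
      rw [dif_neg h, one_mul]
  have hrelG : ∀ w ∈ rels, wprod gen w = 1 := by
    intro w hw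
    rw [hrels, List.mem_flatMap] at hw
    obtain ⟨i, _, hw⟩ := hw
    rw [List.mem_map] at hw
    obtain ⟨j, _, rfl⟩ := hw
    show (List.map gen _).prod = 1
    rw [prod_cox, gen_lt i i.2, gen_lt j j.2]
    exact cs.simple_mul_simple_pow i j
  have hgen : Subgroup.closure {g : M.Group | ∃ x, x < r ∧ g = gen x} = ⊤ := by
    rw [eq_top_iff, ← cs.subgroup_closure_range_simple]
    apply Subgroup.closure_mono
    rintro _ ⟨i, rfl⟩
    exact ⟨i, i.2, (gen_lt i i.2).symm⟩
  have hact : ∀ i, i < n → ∀ x, x < r → dig (nth pt x) i < n :=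
    fun i hi x hx => (checkInvol_spec hinvol x hx i hi).1
  -- the parabolic subgroup
  set H : Subgroup M.Group := clJ gen (List.range r') with hH
  have hsubG : ∀ w ∈ subs, wprod gen w ∈ H := by
    intro w hw
    rw [hsubs, List.mem_map] at hw
    obtain ⟨j, hj, rfl⟩ := hw
    apply Subgroup.subset_closure
    refine ⟨j, hj, ?_⟩
    show (List.map gen [j]).prod = gen j
    simp
  have cover := cover_main' (H := H) (dp := dp) (dx := dx) hinvG fuel canon pt n r
    hgen hn hact sfin (hInv _ H gen hinvG hrelG hsubG) htable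
  set F := tabPerm pt n r hinvol with hFdef
  have hwordsP : ∀ w ∈ rels, (w.map F).prod = 1 := by
    intro w hw
    rw [List.all_eq_true] at hwords
    exact checkWord_spec hinvol w (hwords w hw)
  have hlift : M.IsLiftable (fun i : Fin r => F i) := by
    intro i j
    show (F i * F j) ^ M i j = 1
    rw [← prod_cox]
    apply hwordsP
    rw [hrels, List.mem_flatMap]
    exact ⟨i, List.mem_finRange i, List.mem_map.mpr ⟨j, List.mem_finRange j, rfl⟩⟩
  let σ : M.Group →* Equiv.Perm (Fin n) := cs.lift ⟨_, hlift⟩
  have hσ : ∀ k, k < r → σ (gen k) = F k := by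
    intro k hk
    rw [gen_lt k hk]
    exact cs.lift_apply_simple hlift ⟨k, hk⟩
  have hr'lt : ∀ j ∈ List.range r', j < r := fun j hj => lt_of_lt_of_le (List.mem_range.mp hj) hr
  have hfix0 : ∀ k ∈ H, actN σ k 0 = 0 := by
    apply clJ_fix σ (List.range r') 0
    intro j hj
    rw [actN_gen hinvol σ hσ (hr'lt j hj) hn]
    rw [List.all_eq_true] at hsub0
    exact Nat.eq_of_beq_eq_true (hsub0 j hj)
  have hH0 : ∀ h ∈ H, σ h ⟨0, hn⟩ = ⟨0, hn⟩ := by
    intro h hh
    have := hfix0 h hh
    unfold actN at this
    rw [dif_pos hn] at this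
    exact Fin.ext this
  have htr := trans_of_check (gen := gen) hinvol bp bx htrans hn σ hσ
  obtain ⟨hidx, _⟩ := index_of_cover (H := H) hn σ hH0 htr _ cover
  -- upper bound on `H`
  have hlift' : M'.IsLiftable (fun i : Fin r' => cs.simple (Fin.castLE hr i)) := by
    intro i j
    show (cs.simple (Fin.castLE hr i) * cs.simple (Fin.castLE hr j)) ^ M' i j = 1
    rw [hM']
    exact cs.simple_mul_simple_pow _ _
  let φ : M'.Group →* M.Group := cs'.lift ⟨_, hlift'⟩
  have hφ : ∀ i : Fin r', φ (cs'.simple i) = cs.simple (Fin.castLE hr i) :=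
    fun i => cs'.lift_apply_simple hlift' i
  haveI hfin' : Finite M'.Group := Nat.finite_of_card_ne_zero (by rw [hcard']; exact hm.ne')
  have hHle : H ≤ φ.range := by
    rw [hH]
    apply (Subgroup.closure_le _).mpr
    rintro g ⟨j, hj, rfl⟩
    have hj' : j < r' := List.mem_range.mp hj
    refine ⟨cs'.simple ⟨j, hj'⟩, ?_⟩
    rw [hφ, gen_lt j (lt_of_lt_of_le hj' hr)]
    rfl
  have hrange : Nat.card φ.range ≤ m := by
    rw [← hcard']
    exact Nat.card_le_card_of_surjective φ.rangeRestrict φ.rangeRestrict_surjective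
  haveI : Finite φ.range := Finite.of_surjective φ.rangeRestrict φ.rangeRestrict_surjective
  haveI : Finite H := Finite.of_injective (Subgroup.inclusion hHle) (Subgroup.inclusion_injective hHle)
  have hHcard : Nat.card H ≤ m :=
    le_trans (Nat.card_le_card_of_injective (Subgroup.inclusion hHle)
      (Subgroup.inclusion_injective hHle)) hrange
  have hHpos : 0 < Nat.card H := Nat.card_pos
  have hmul : H.index * Nat.card H = Nat.card M.Group := H.index_mul_card
  rw [hidx] at hmul
  haveI : Finite M.Group := Nat.finite_of_card_ne_zero (by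
    rw [← hmul]
    exact (Nat.mul_pos hn hHpos).ne')
  have hupper : Nat.card M.Group ≤ n * m := by
    rw [← hmul]
    exact Nat.mul_le_mul_left _ hHcard
  have hlower : n * m ≤ Nat.card M.Group := by
    have h1 := chainLB_le (gen := gen) hinvol σ hσ levels (List.range r)
      (fun j hj => List.mem_range.mp hj)
    exact le_trans hchain (le_trans h1 (Subgroup.card_le_card_group _))
  exact le_antisymm hupper hlower

end Cfsg.Agent.H8CE
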