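import Cfsg.Agent.Lib.Helper8_CosetCore

set_option autoImplicit false

namespace Cfsg.Agent.H8CoxD4

open Cfsg.Agent.H8CE

def st0 : List ℕ := [0,
  0,
  0,
  0,
  0]

def st1 : List ℕ := [0,
  combine [0xbf00c000b800ba00b900b200bd00bc00be00ac00ab00a700ae00a400bb00a200a1009d00b4009a00b700b600950097009200b50090008e00b3008c00b100b00088008a008500af0083008100ad007f007e00a9007b00aa0079007700a8007500a6007300a5007100a3006f009f006c00a0006a0068009e0066009c0064009b0062009900980060005e0096005c0094005a0093005800910056008f0054008d0053008b0051004f0089004d0087004b00860049008400470082004500800044007d0041007c003f007a003d0078003b0076003a00740038007200700036006e0034006d0032006b00300069002e0067002d0065002b0063006100290028005f0026005d0025005b0023005900570021005500220052001e0050001c004e001b004c0019004a00480017004600180043004200140040003e0012003c00370039001100100035000e00330031000c002f002a002c000b000a0027000d00240020001f0006001d0013001a00160015000300050004000f00080007000900010002],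
  combine [0xbe00bb00c000b500b300bf00af00ad00b200aa00a800bd00a500bc00b800a0009e00ba009b00b90098009600b7009300b6009d008f00b4009a008d008b008900b1008600b000a7008200ae00a4008000ac007c00ab007e007800a9007b0076007400a6008100a3007000a2006d00a1006f0069009f006c00670065009c008e009900610095005f00970092005d005b0094005e009100570090005600590053008c00880050008a0085004e004c0087004f0084004800830047004a0044007f0042007d0077007a003e0079003d0072003a00750073003c0037007100390035006e0068006b0031006a00300063002d00660064002f002a0062002c0060002800330025005c005a005500220058005200200054001f0051001e0040001b004d004b00460018004900430016004500150041001d0013003f001a0011003b00100038003600340027000d00320024000b002e000a002b00290008002600070023002100090005001c000400190017000f001400120002000e000c000100060003],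
  combine [0xbd00ba00b700c000b400b100bf00ae00ac00be00a900aa00bc00a300a200bb009f00a000b9009900b8009700b500b6009100950094008d008c00b300b2008a00af00b00084008800870080007f00ad008b00ab007a00a700a60076007500a800790072007100a500a4009800a1006b009d009c00670066009e006a00630062009b009a006f006e005d005c00960090005900580093009200550054008f008e0061007e007d004e004d00890083004a0049008600850046004500820081007000510040003f007c007b003c003b00780077003e00380074007300440043006000330032006d006c002f002e006900680031002b006500640053005200270026005f005e00570023005b005a00250024005600200029001d001c0050004f00480019004c004b001b001a004700160036001400420041003a0039003d001100120037000f000e00350034002d002c0030000b000c002a000900280008002100220006001f001e00050017001800030015001300020010000d0001000a00070004],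
  combine [0xbc00b900b600b400c000b000ae00bf00ab00a900be00a600bd00a800a1009f00bb009c00ba009e009700b8009400b700b3009000b5008f00920091008a00b2008700b100ad008300af008200850084007d00ac0089007900aa007800a400a300a700a5007300720075006e00a20096006a00a00069009a0099009d009b00640063006600600098005f006c006b00950093005a0059008c0065008e008d005400520051008b0050007b007a00880086004b004a007f00740081008000450043007e007c00410040004d004200770076003b003900470046007100360070006f006d00340033005c003500680067002e002c00560055006200290061005b005e005d0026002400280027005800210057002b001f0053004c004f004e001c001a001e001d004900170048003800150044003d003c003f0012003e00140010003a000f00370030002f0032000c0031000e000a002d0009002a00230007002500060022002000190004001b0003001800160002001300110001000d000b00080005]]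

end Cfsg.Agent.H8CoxD4
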