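import Cfsg.Agent.Lib.Helper8_CosetCore

set_option autoImplicit false

namespace Cfsg.Agent.H8CoxE6

open Cfsg.Agent.H8CE

def rels : List (List ℕ) := [[0, 0], [0, 1, 0, 1], [0, 2, 0, 2, 0, 2], [0, 3, 0, 3], [0, 4, 0, 4], [0, 5, 0, 5], [1, 0, 1, 0], [1, 1], [1, 2, 1, 2], [1, 3, 1, 3, 1, 3], [1, 4, 1, 4], [1, 5, 1, 5], [2, 0, 2, 0, 2, 0], [2, 1, 2, 1], [2, 2], [2, 3, 2, 3, 2, 3], [2, 4, 2, 4], [2, 5, 2, 5], [3, 0, 3, 0], [3, 1, 3, 1, 3, 1], [3, 2, 3, 2, 3, 2], [3, 3], [3, 4, 3, 4, 3, 4], [3, 5, 3, 5], [4, 0, 4, 0], [4, 1, 4, 1], [4, 2, 4, 2], [4, 3, 4, 3, 4, 3], [4, 4], [4, 5, 4, 5, 4, 5], [5, 0, 5, 0], [5, 1, 5, 1], [5, 2, 5, 2], [5, 3, 5, 3], [5, 4, 5, 4, 5, 4], [5, 5]]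

def subs : List (List ℕ) := [[0], [1], [2], [3], [4]]

def dp : ℕ := combine [0x190018001700150014001300110011000f000f000d000c000b000a000a000900080006000600050004000300030002000100000000]

def dx : ℕ := combine [0x20003000400040005000500010005000300050004000500040002000400030003000000000002000200010003000400050000]

def canon : ℕ := combine [0x1a0019001800170016001500140013001200110010000f000e000d000c000b000a0009000800070006000500040003000200010000]

def bp : ℕ := combine [0x190018001700150014001300110011000f000f000d000c000b000a000a000900080006000600050004000300030002000100000000]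

def bx : ℕ := combine [0x20003000400040005000500010005000300050004000500040002000400030003000000000002000200010003000400050000]

def col : ℕ := combine [0x200020002000200020002000200010002000100020001000200010001000100010001000100010001000100010001000100010000]

def roots : ℕ := combine [0xe00010000]

def op : ℕ := combine [0x1900180017001500140014001200110010000f000e000c0000000a000a000900080006000600050004000300030002000100000000]

def ow : ℕ := combine [0x20003000400040001000300010002000300000004000000040002000400030003000000000002000200010003000400000000]

def od : ℕ := combine [0x8000700060005000400040003000a0002000900010008000000070007000600060005000500040004000300030002000100000000]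

def pt : List ℕ := [0x19001a00180017001600150014001300120011000e000f0010000b000c000d0009000a000600050008000700040003000200010000,
  0x1a0019001800160017001400150011001200130010000f000e000d000c000b000a0009000700080005000600030004000200010000,
  0x1a0018001900170016001500140013001000110012000d000e000f000a000b000c0009000800070004000300060005000200010000,
  0x1a00190017001800160015001200130014000f00100011000e000d000c000b00080006000a00070009000500040002000300010000,
  0x1a0019001800150014001700160013001200110010000c000e000a000f0009000d000b000800070006000500040003000100020000,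
  0x1a0019001800170016001300110015000f0014000d0012000b0010000c000e000a0009000800070006000500040003000200000001]

def fuel : ℕ := 2

def cs : ℕ := 512

def nr : ℕ := 36

end Cfsg.Agent.H8CoxE6
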