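import Cfsg.Agent.Lib.Helper8_CosetCore

set_option autoImplicit false

namespace Cfsg.Agent.H8CoxE6

open Cfsg.Agent.H8CE

def st0 : List ℕ := [0,
  0,
  0,
  0,
  0,
  0,
  0]

def st1 : List ℕ := [0,
  combine [0x1a001b00190018001700160015001400130012000f00100011000c000d000e000a000b000700060009000800050004000300020001],
  combine [0x1b001a0019001700180015001600120013001400110010000f000e000d000c000b000a000800090006000700040005000300020001],
  combine [0x1b0019001a00180017001600150014001100120013000e000f0010000b000c000d000a000900080005000400070006000300020001],
  combine [0x1b001a0018001900170016001300140015001000110012000f000e000d000c00090007000b0008000a000600050003000400020001],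
  combine [0x1b001a001900160015001800170014001300120011000d000f000b0010000a000e000c000900080007000600050004000200030001],
  combine [0x1b001a00190018001700140012001600100015000e0013000c0011000d000f000b000a000900080007000600050004000300010002]]

end Cfsg.Agent.H8CoxE6
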