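import Cfsg.Agent.Lib.Helper8_CosetCore

set_option autoImplicit false

namespace Cfsg.Agent.H8CoxE7

open Cfsg.Agent.H8CE

def st0 : List ℕ := [0,
  0,
  0,
  0,
  0,
  0,
  0,
  0]

def st1 : List ℕ := [0,
  combine [0x380037003600350034003300310032002f0030002d002e002a002b002c0027002800290023002500240026002200210020001f001e001d001c001b001a0019001800170013001500140016001000110012000d000e000f000b000c00080007000a0009000600050004000300020001],
  combine [0x38003700360035003300340030002f00320031002e002d002c002b002a00290028002700260022002400230025001f00200021001c001b001e001d00180019001a00140016001500170013001200110010000f000e000d000c000b0009000a00070008000500060004000300020001],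
  combine [0x3800370036003500320030003400310033002f002e002b002c002d00280029002a00240026002500270020002200210023001f001e001d001c001b001a00160018001700190012001400130015000f00100011000c000d000e000b000a000900060005000800070004000300020001],
  combine [0x380037003600340035003300320031002e002d0030002f002c002b002a002900250027002600280021002300220024001d001f001e00200019001b001a001c001500170016001800110013001200140010000f000e000d000a0008000c0009000b0007000600040005000300020001],
  combine [0x3800370035003600340033003200310030002f002c002a002e0028002d0029002b002700260025002400230022001e0020001c0021001a001f0018001d0019001b001700160015001400130012000e0010000c0011000b000f000d000a000900080007000600050003000400020001],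
  combine [0x3800360037003500340033003200310030002f002e002d0029002b0027002c0024002a0026002100280023001f002500200022001e001d001c001b001700190014001a0016001100180013000f0015000d0012000e0010000c000b000a000900080007000600050004000200030001],
  combine [0x3700380036003500340033003200310030002f002e002d002c002b002a00260028002300290025002000270022001d0024001b001a00210018001f001e0015001c00170012001900140010001600110013000f000e000d000c000b000a000900080007000600050004000300010002]]

end Cfsg.Agent.H8CoxE7
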