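import Cfsg.Agent.Lib.Helper8_CoxChain

set_option autoImplicit false

/-! Faithful permutation representations of finite Coxeter groups from a stabilizer chain, and the
order of the Coxeter element (helper8). -/

namespace Cfsg.Agent.H8CE

theorem allBelow_of_all {p : ℕ → Bool} {n : ℕ} (h : ∀ i, i < n → p i = true) :
    allBelow p n = true := by
  induction n with
  | zero => rfl
  | succ k ih =>
    simp only [allBelow, Bool.and_eq_true]
    exact ⟨h k (Nat.lt_succ_self k), ih (fun i hi => h i (Nat.lt_succ_of_lt hi))⟩

/-- the word of the `k`-th power of the Coxeter element `s₀ s₁ ⋯` -/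
def pw (r k : ℕ) : List ℕ := (List.replicate k (List.range r)).flatten

/-- the Coxeter element has order exactly `h` in the permutation representation -/
def ordCheck (pt : List ℕ) (n r h : ℕ) : Bool :=
  checkWord pt n r (pw r h) &&
    allBelow (fun k => Nat.beq k 0 || !(allBelow (fun i => Nat.beq (tabW pt (pw r k) i) i) n)) h

theorem coxeter_faithful {r : ℕ} (M : CoxeterMatrix (Fin r)) (n N : ℕ) (hN : 0 < N)
    (hcard : Nat.card M.Group = N) (rels : List (List ℕ))
    (hrels : rels = (List.finRange r).flatMap fun i => (List.finRange r).map fun j =>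
        (List.replicate (M i j) [(i : ℕ), (j : ℕ)]).flatten)
    (pt : List ℕ) (hinvol : checkInvol pt n r = true)
    (hwords : rels.all (checkWord pt n r) = true)
    (levels : List (ℕ × List (ℕ × ℕ) × List ℕ))
    (hchain : N ≤ chainLB pt n r (List.range r) levels) :
    ∃ σ : M.Group →* Equiv.Perm (Fin n), Function.Injective σ ∧
      ∀ (k : ℕ) (hk : k < r), σ (M.simple ⟨k, hk⟩) = tabPerm pt n r hinvol k := by
  classical
  let cs := M.toCoxeterSystem
  set F := tabPerm pt n r hinvol with hFdef
  have hwordsP : ∀ w ∈ rels, (w.map F).prod = 1 := by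
    intro w hw
    rw [List.all_eq_true] at hwords
    exact checkWord_spec hinvol w (hwords w hw)
  have hlift : M.IsLiftable (fun i : Fin r => F i) := by
    intro i j
    show (F i * F j) ^ M i j = 1
    rw [← prod_cox]
    apply hwordsP
    rw [hrels, List.mem_flatMap]
    exact ⟨i, List.mem_finRange i, List.mem_map.mpr ⟨j, List.mem_finRange j, rfl⟩⟩
  let σ : M.Group →* Equiv.Perm (Fin n) := cs.lift ⟨_, hlift⟩
  have hσ : ∀ (k : ℕ) (hk : k < r), σ (M.simple ⟨k, hk⟩) = F k := by
    intro k hk
    exact cs.lift_apply_simple hlift ⟨k, hk⟩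
  haveI : Finite M.Group := Nat.finite_of_card_ne_zero (by rw [hcard]; exact hN.ne')
  have h1 := chainLB_le (G := Equiv.Perm (Fin n)) (gen := F) hinvol (MonoidHom.id _)
    (fun x _ => rfl) levels (List.range r) (fun j hj => List.mem_range.mp hj)
  have hle : clJ F (List.range r) ≤ σ.range := by
    apply (Subgroup.closure_le _).mpr
    rintro g ⟨j, hj, rfl⟩
    exact ⟨M.simple ⟨j, List.mem_range.mp hj⟩, hσ j (List.mem_range.mp hj)⟩
  have h2 : Nat.card (clJ F (List.range r)) ≤ Nat.card σ.range :=
    Nat.card_le_card_of_injective (Subgroup.inclusion hle) (Subgroup.inclusion_injective hle)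
  have h3 : Nat.card M.Group ≤ Nat.card σ.range := by
    rw [hcard]
    exact le_trans hchain (le_trans h1 h2)
  have hbij := (σ.rangeRestrict_surjective).bijective_of_nat_card_le h3
  refine ⟨σ, ?_, hσ⟩
  intro x y hxy
  apply hbij.injective
  exact Subtype.ext hxy

theorem pw_succ (r k : ℕ) : pw r (k + 1) = List.range r ++ pw r k := by
  unfold pw
  rw [List.replicate_succ, List.flatten_cons]

theorem pw_lt (r k : ℕ) : ∀ x ∈ pw r k, x < r := by
  induction k with
  | zero => intro x hx; simp [pw] at hx
  | succ k ih =>
    intro x hx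
    rw [pw_succ, List.mem_append] at hx
    rcases hx with hx | hx
    · exact List.mem_range.mp hx
    · exact ih x hx

/-- The order of the Coxeter element `s₀ s₁ ⋯ s_{r-1}`. -/
theorem coxeter_orderOf {r : ℕ} (M : CoxeterMatrix (Fin r)) (n N : ℕ) (hN : 0 < N)
    (hcard : Nat.card M.Group = N) (rels : List (List ℕ))
    (hrels : rels = (List.finRange r).flatMap fun i => (List.finRange r).map fun j =>
        (List.replicate (M i j) [(i : ℕ), (j : ℕ)]).flatten)
    (pt : List ℕ) (hinvol : checkInvol pt n r = true)
    (hwords : rels.all (checkWord pt n r) = true)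
    (levels : List (ℕ × List (ℕ × ℕ) × List ℕ))
    (hchain : N ≤ chainLB pt n r (List.range r) levels)
    (h : ℕ) (hh : 0 < h) (hord : ordCheck pt n r h = true) :
    orderOf ((List.finRange r).map M.simple).prod = h := by
  classical
  obtain ⟨σ, hinj, hσ⟩ := coxeter_faithful M n N hN hcard rels hrels pt hinvol hwords levels hchain
  let gen : ℕ → M.Group := fun k => if h : k < r then M.simple ⟨k, h⟩ else 1
  have gen_lt : ∀ (k : ℕ) (hk : k < r), gen k = M.simple ⟨k, hk⟩ := by
    intro k hk
    show (if h : k < r then M.simple ⟨k, h⟩ else 1) = _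
    rw [dif_pos hk]
  have hσ' : ∀ x, x < r → σ (gen x) = tabPerm pt n r hinvol x := by
    intro x hx
    rw [gen_lt x hx]
    exact hσ x hx
  set c := ((List.finRange r).map M.simple).prod with hc
  have hc' : c = wprod gen (List.range r) := by
    unfold wprod
    rw [hc, ← List.map_coe_finRange_eq_range, List.map_map]
    congr 1
    apply List.map_congr_left
    intro i _
    exact (gen_lt i i.2).symm
  have happ : ∀ a b : List ℕ, wprod gen (a ++ b) = wprod gen a * wprod gen b := by
    intro a b
    unfold wprod
    rw [List.map_append, List.prod_append]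
  have hpow : ∀ k, c ^ k = wprod gen (pw r k) := by
    intro k
    induction k with
    | zero => simp [pw, wprod]
    | succ k ih => rw [pw_succ, happ, pow_succ', ih, hc']
  have key : ∀ k, σ (c ^ k) = ((pw r k).map (tabPerm pt n r hinvol)).prod := by
    intro k
    rw [hpow, sigma_wprod hinvol σ hσ' _ (pw_lt r k)]
  unfold ordCheck at hord
  rw [Bool.and_eq_true] at hord
  rw [orderOf_eq_iff hh]
  constructor
  · apply hinj
    rw [map_one, key]
    exact checkWord_spec hinvol _ hord.1
  · intro k hk hk0 hck
    have h1 : σ (c ^ k) = 1 := by rw [hck, map_one]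
    rw [key] at h1
    have h2 := allBelow_spec hord.2 k hk
    rw [Bool.or_eq_true] at h2
    rcases h2 with h2 | h2
    · have : k = 0 := Nat.eq_of_beq_eq_true h2
      omega
    · have h3 : allBelow (fun i => Nat.beq (tabW pt (pw r k) i) i) n = true := by
        apply allBelow_of_all
        intro i hi
        have h4 := permW_val hinvol (pw r k) (pw_lt r k) ⟨i, hi⟩
        rw [h1] at h4
        simp only [Equiv.Perm.coe_one, id_eq] at h4
        show Nat.beq (tabW pt (pw r k) i) i = true
        rw [← h4]
        exact Nat.beq_refl _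
      rw [h3] at h2
      simp at h2

end Cfsg.Agent.H8CE
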