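import Cfsg.Agent.Lib.Helper8_CosetCore

set_option autoImplicit false

namespace Cfsg.Agent.H8CoxG2

open Cfsg.Agent.H8CE

def rels : List (List ℕ) := [[0, 0], [0, 1, 0, 1, 0, 1, 0, 1, 0, 1, 0, 1], [1, 0, 1, 0, 1, 0, 1, 0, 1, 0, 1, 0], [1, 1]]

def subs : List (List ℕ) := []

def dp : ℕ := combine [0x900080007000600050004000300020001000000000000]

def dx : ℕ := combine [0x100010000000000010001000000000001000100000000]

def canon : ℕ := combine [0xb000a0009000800070006000500040003000200010000]

def bp : ℕ := combine [0x900080007000600050004000300020001000000000000]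

def bx : ℕ := combine [0x100010000000000010001000000000001000100000000]

def col : ℕ := combine [0xb000a0009000800070006000500040003000200010000]

def roots : ℕ := combine [0xb000a0009000800070006000500040003000200010000]

def op : ℕ := 0

def ow : ℕ := 0

def od : ℕ := 0

def pt : List ℕ := [0xa000b0007000600090008000300020005000400000001,
  0x90008000b000a00050004000700060001000000030002]

def fuel : ℕ := 2

def cs : ℕ := 512

def nr : ℕ := 4

end Cfsg.Agent.H8CoxG2
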