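import Cfsg.Agent.Lib.Helper8_CoxWords

set_option autoImplicit false

/-! Generation of finite Coxeter groups by the Coxeter element and a few reflections (helper8). -/

namespace Cfsg.Agent.H8CE

/-- expansion of a word in the letters `letters` to a word in the generators -/
def expand (letters : List (List ℕ)) (u : List ℕ) : List ℕ := (u.map (nthW letters)).flatten

/-- every generator is the expansion of a word in the letters -/
def genCheck (pt : List ℕ) (n r : ℕ) (letters metas : List (List ℕ)) : Bool :=
  allBelow (fun k => eqCheck pt n r [k] (expand letters (nthW metas k))) r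

theorem expand_mem {G : Type*} [Group G] (gen : ℕ → G) (letters : List (List ℕ)) (K : Subgroup G)
    (hK : ∀ w ∈ letters, wprod gen w ∈ K) (u : List ℕ) : wprod gen (expand letters u) ∈ K := by
  induction u with
  | nil => simp [expand, wprod]
  | cons a u ih =>
    have e : expand letters (a :: u) = nthW letters a ++ expand letters u := by
      simp [expand]
    rw [e, wprod_append]
    apply K.mul_mem _ ih
    rcases nthW_mem letters a with h | h
    · rw [h]; simp [wprod]
    · exact hK _ h

theorem closure_top_of_genCheck {r n : ℕ} {M : CoxeterMatrix (Fin r)} {pt : List ℕ}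
    (hinvol : checkInvol pt n r = true) (σ : M.Group →* Equiv.Perm (Fin n))
    (hσ : ∀ (k : ℕ) (hk : k < r), σ (M.simple ⟨k, hk⟩) = tabPerm pt n r hinvol k)
    (hinj : Function.Injective σ) (letters metas : List (List ℕ)) (K : Subgroup M.Group)
    (hK : ∀ w ∈ letters, wprod (genOf M) w ∈ K)
    (hgen : genCheck pt n r letters metas = true) : K = ⊤ := by
  rw [eq_top_iff, ← M.toCoxeterSystem.subgroup_closure_range_simple, Subgroup.closure_le]
  rintro _ ⟨i, rfl⟩
  show M.toCoxeterSystem.simple i ∈ K
  have h1 := word_eq hinvol σ hσ hinj (allBelow_spec hgen i i.2)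
  have h2 : wprod (genOf M) [(i : ℕ)] = M.simple i := by
    simp only [wprod, List.map_cons, List.map_nil, List.prod_cons, List.prod_nil, mul_one]
    exact genOf_lt M i.2
  rw [h2] at h1
  show M.simple i ∈ K
  rw [h1]
  exact expand_mem _ letters K hK _

theorem cox_letters_mem {r : ℕ} (M : CoxeterMatrix (Fin r)) (K : Subgroup M.Group)
    (hc : ((List.finRange r).map M.simple).prod ∈ K) :
    wprod (genOf M) (List.range r) ∈ K ∧ wprod (genOf M) (List.range r).reverse ∈ K := by
  constructor
  · rw [← cox_elt_eq]; exact hc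
  · rw [wprod_reverse (genOf_mul_self M), ← cox_elt_eq]
    exact K.inv_mem hc

theorem cox_gen_one {r : ℕ} (M : CoxeterMatrix (Fin r)) (n N : ℕ) (hN : 0 < N)
    (hcard : Nat.card M.Group = N) (rels : List (List ℕ))
    (hrels : rels = (List.finRange r).flatMap fun i => (List.finRange r).map fun j =>
        (List.replicate (M i j) [(i : ℕ), (j : ℕ)]).flatten)
    (pt : List ℕ) (hinvol : checkInvol pt n r = true)
    (hwords : rels.all (checkWord pt n r) = true)
    (levels : List (ℕ × List (ℕ × ℕ) × List ℕ))
    (hchain : N ≤ chainLB pt n r (List.range r) levels)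
    (i₁ : ℕ) (hi₁ : i₁ < r) (metas : List (List ℕ))
    (hgen : genCheck pt n r [List.range r, (List.range r).reverse, [i₁]] metas = true) :
    ∃ T : Finset M.Group, T.card = 1 ∧
      (∀ t ∈ T, ∃ (g : M.Group) (i : Fin r), t = g * M.simple i * g⁻¹) ∧
      Subgroup.closure (({((List.finRange r).map M.simple).prod} : Set M.Group) ∪ ↑T) = ⊤ := by
  classical
  obtain ⟨σ, hinj, hσ⟩ := coxeter_faithful M n N hN hcard rels hrels pt hinvol hwords levels hchain
  refine ⟨{M.simple ⟨i₁, hi₁⟩}, Finset.card_singleton _, ?_, ?_⟩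
  · intro t ht
    rw [Finset.mem_singleton] at ht
    exact ⟨1, ⟨i₁, hi₁⟩, by rw [ht]; simp⟩
  · apply closure_top_of_genCheck hinvol σ hσ hinj _ metas _ _ hgen
    have hc := cox_letters_mem M (Subgroup.closure
      (({((List.finRange r).map M.simple).prod} : Set M.Group) ∪ ↑({M.simple ⟨i₁, hi₁⟩} : Finset M.Group)))
      (Subgroup.subset_closure (Or.inl rfl))
    intro w hw
    simp only [List.mem_cons, List.mem_nil_iff, or_false] at hw
    rcases hw with rfl | rfl | rfl
    · exact hc.1
    · exact hc.2
    · apply Subgroup.subset_closure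
      right
      rw [Finset.mem_coe, Finset.mem_singleton]
      simp only [wprod, List.map_cons, List.map_nil, List.prod_cons, List.prod_nil, mul_one]
      exact genOf_lt M hi₁

theorem cox_gen_two {r : ℕ} (M : CoxeterMatrix (Fin r)) (n N : ℕ) (hN : 0 < N)
    (hcard : Nat.card M.Group = N) (rels : List (List ℕ))
    (hrels : rels = (List.finRange r).flatMap fun i => (List.finRange r).map fun j =>
        (List.replicate (M i j) [(i : ℕ), (j : ℕ)]).flatten)
    (pt : List ℕ) (hinvol : checkInvol pt n r = true)
    (hwords : rels.all (checkWord pt n r) = true)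
    (levels : List (ℕ × List (ℕ × ℕ) × List ℕ))
    (hchain : N ≤ chainLB pt n r (List.range r) levels)
    (i₁ i₂ : ℕ) (hi₁ : i₁ < r) (hi₂ : i₂ < r) (hne : neCheck pt n r [i₁] [i₂] = true)
    (metas : List (List ℕ))
    (hgen : genCheck pt n r [List.range r, (List.range r).reverse, [i₁], [i₂]] metas = true) :
    ∃ T : Finset M.Group, T.card = 2 ∧
      (∀ t ∈ T, ∃ (g : M.Group) (i : Fin r), t = g * M.simple i * g⁻¹) ∧
      Subgroup.closure (({((List.finRange r).map M.simple).prod} : Set M.Group) ∪ ↑T) = ⊤ := by
  classical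
  obtain ⟨σ, hinj, hσ⟩ := coxeter_faithful M n N hN hcard rels hrels pt hinvol hwords levels hchain
  have e1 : wprod (genOf M) [i₁] = M.simple ⟨i₁, hi₁⟩ := by
    simp only [wprod, List.map_cons, List.map_nil, List.prod_cons, List.prod_nil, mul_one]
    exact genOf_lt M hi₁
  have e2 : wprod (genOf M) [i₂] = M.simple ⟨i₂, hi₂⟩ := by
    simp only [wprod, List.map_cons, List.map_nil, List.prod_cons, List.prod_nil, mul_one]
    exact genOf_lt M hi₂
  have hne' : M.simple ⟨i₁, hi₁⟩ ≠ M.simple ⟨i₂, hi₂⟩ := by
    have := word_ne hinvol σ hσ hne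
    rwa [e1, e2] at this
  refine ⟨{M.simple ⟨i₁, hi₁⟩, M.simple ⟨i₂, hi₂⟩}, Finset.card_pair hne', ?_, ?_⟩
  · intro t ht
    rw [Finset.mem_insert, Finset.mem_singleton] at ht
    rcases ht with ht | ht
    · exact ⟨1, ⟨i₁, hi₁⟩, by rw [ht]; simp⟩
    · exact ⟨1, ⟨i₂, hi₂⟩, by rw [ht]; simp⟩
  · apply closure_top_of_genCheck hinvol σ hσ hinj _ metas _ _ hgen
    have hc := cox_letters_mem M (Subgroup.closure
      (({((List.finRange r).map M.simple).prod} : Set M.Group) ∪
        ↑({M.simple ⟨i₁, hi₁⟩, M.simple ⟨i₂, hi₂⟩} : Finset M.Group)))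
      (Subgroup.subset_closure (Or.inl rfl))
    intro w hw
    simp only [List.mem_cons, List.mem_nil_iff, or_false] at hw
    rcases hw with rfl | rfl | rfl | rfl
    · exact hc.1
    · exact hc.2
    · apply Subgroup.subset_closure
      right
      rw [Finset.mem_coe, Finset.mem_insert, Finset.mem_singleton]
      exact Or.inl e1
    · apply Subgroup.subset_closure
      right
      rw [Finset.mem_coe, Finset.mem_insert, Finset.mem_singleton]
      exact Or.inr e2

end Cfsg.Agent.H8CE
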