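import Cfsg.Agent.Lib.Helper8_CosetEnum

set_option autoImplicit false

/-! Orders of finite Coxeter groups from a coset enumeration certificate (helper8). -/

namespace Cfsg.Agent.H8CE

theorem coxeter_card {r : ℕ} (M : CoxeterMatrix (Fin r)) (n : ℕ) (rels : List (List ℕ))
    (hrels : rels = (List.finRange r).flatMap fun i => (List.finRange r).map fun j =>
        (List.replicate (M i j) [(i : ℕ), (j : ℕ)]).flatten)
    (dp dx canon bp bx fuel : ℕ) (pt sfin : List ℕ) (hn : 0 < n)
    (hinvol : checkInvol pt n r = true)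
    (hwords : rels.all (checkWord pt n r) = true)
    (htrans : checkTrans pt bp bx n r = true)
    (hInv : ∀ (G : Type) [Group G] (H : Subgroup G) (gen : ℕ → G), (∀ x, gen x * gen x = 1) →
      (∀ w ∈ rels, wprod gen w = 1) → (∀ w ∈ ([] : List (List ℕ)), wprod gen w ∈ H) →
      Inv H gen dp dx sfin)
    (htable : checkTable sfin fuel canon pt n r = true) :
    Nat.card M.Group = n := by
  classical
  let cs := M.toCoxeterSystem
  let gen : ℕ → M.Group := fun k => if h : k < r then cs.simple ⟨k, h⟩ else 1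
  have gen_lt : ∀ (k : ℕ) (hk : k < r), gen k = cs.simple ⟨k, hk⟩ := by
    intro k hk
    show (if h : k < r then cs.simple ⟨k, h⟩ else 1) = _
    rw [dif_pos hk]
  have hinvG : ∀ k, gen k * gen k = 1 := by
    intro k
    by_cases h : k < r
    · rw [gen_lt k h]
      exact cs.simple_mul_simple_self _
    · show (if h : k < r then cs.simple ⟨k, h⟩ else 1) * (if h : k < r then cs.simple ⟨k, h⟩ else 1)
        = (1 : M.Group)
      rw [dif_neg h, one_mul]
  have hrelG : ∀ w ∈ rels, wprod gen w = 1 := by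
    intro w hw
    rw [hrels, List.mem_flatMap] at hw
    obtain ⟨i, _, hw⟩ := hw
    rw [List.mem_map] at hw
    obtain ⟨j, _, rfl⟩ := hw
    show (List.map gen _).prod = 1
    rw [prod_cox, gen_lt i i.2, gen_lt j j.2]
    exact cs.simple_mul_simple_pow i j
  have hgen : Subgroup.closure {g : M.Group | ∃ x, x < r ∧ g = gen x} = ⊤ := by
    rw [eq_top_iff, ← cs.subgroup_closure_range_simple]
    apply Subgroup.closure_mono
    rintro _ ⟨i, rfl⟩
    exact ⟨i, i.2, (gen_lt i i.2).symm⟩
  have hact : ∀ i, i < n → ∀ x, x < r → dig (nth pt x) i < n :=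
    fun i hi x hx => (checkInvol_spec hinvol x hx i hi).1
  have cover := cover_main' (H := (⊥ : Subgroup M.Group)) (dp := dp) (dx := dx) hinvG fuel canon pt n r
    hgen hn hact sfin (hInv _ ⊥ gen hinvG hrelG (by intro w hw; simp at hw)) htable
  set F := tabPerm pt n r hinvol with hFdef
  have hwordsP : ∀ w ∈ rels, (w.map F).prod = 1 := by
    intro w hw
    rw [List.all_eq_true] at hwords
    exact checkWord_spec hinvol w (hwords w hw)
  have hlift : M.IsLiftable (fun i : Fin r => F i) := by
    intro i j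
    show (F i * F j) ^ M i j = 1
    rw [← prod_cox]
    apply hwordsP
    rw [hrels, List.mem_flatMap]
    exact ⟨i, List.mem_finRange i, List.mem_map.mpr ⟨j, List.mem_finRange j, rfl⟩⟩
  let σ : M.Group →* Equiv.Perm (Fin n) := cs.lift ⟨_, hlift⟩
  have hσ : ∀ k, k < r → σ (gen k) = F k := by
    intro k hk
    rw [gen_lt k hk]
    exact cs.lift_apply_simple hlift ⟨k, hk⟩
  have hH0 : ∀ h ∈ (⊥ : Subgroup M.Group), σ h ⟨0, hn⟩ = ⟨0, hn⟩ := by
    intro h hh
    rw [Subgroup.mem_bot.mp hh, map_one]
    rfl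
  have htr := trans_of_check (gen := gen) hinvol bp bx htrans hn σ hσ
  obtain ⟨hidx, _⟩ := index_of_cover (H := (⊥ : Subgroup M.Group)) hn σ hH0 htr _ cover
  rw [Subgroup.index_bot] at hidx
  exact hidx

end Cfsg.Agent.H8CE
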