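import Cfsg.Agent.Lib.Helper8_CoxFaithful

set_option autoImplicit false

/-! Word identities in finite Coxeter groups decided in a faithful permutation representation;
the centre (helper8). -/

namespace Cfsg.Agent.H8CE

/-- the simple reflections indexed by naturals -/
noncomputable def genOf {r : ℕ} (M : CoxeterMatrix (Fin r)) (k : ℕ) : M.Group :=
  if h : k < r then M.simple ⟨k, h⟩ else 1

theorem genOf_lt {r : ℕ} (M : CoxeterMatrix (Fin r)) {k : ℕ} (hk : k < r) :
    genOf M k = M.simple ⟨k, hk⟩ := by
  unfold genOf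
  rw [dif_pos hk]

theorem genOf_mul_self {r : ℕ} (M : CoxeterMatrix (Fin r)) (k : ℕ) : genOf M k * genOf M k = 1 := by
  by_cases h : k < r
  · rw [genOf_lt M h]
    exact M.toCoxeterSystem.simple_mul_simple_self _
  · unfold genOf
    rw [dif_neg h, one_mul]

theorem wprod_append {G : Type*} [Group G] (gen : ℕ → G) (a b : List ℕ) :
    wprod gen (a ++ b) = wprod gen a * wprod gen b := by
  unfold wprod
  rw [List.map_append, List.prod_append]

theorem cox_elt_eq {r : ℕ} (M : CoxeterMatrix (Fin r)) :
    ((List.finRange r).map M.simple).prod = wprod (genOf M) (List.range r) := by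
  unfold wprod
  rw [← List.map_coe_finRange_eq_range, List.map_map]
  congr 1
  apply List.map_congr_left
  intro i _
  exact (genOf_lt M i.2).symm

theorem cox_pow_eq {r : ℕ} (M : CoxeterMatrix (Fin r)) (k : ℕ) :
    ((List.finRange r).map M.simple).prod ^ k = wprod (genOf M) (pw r k) := by
  induction k with
  | zero => simp [pw, wprod]
  | succ k ih => rw [pw_succ, wprod_append, pow_succ', ih, cox_elt_eq]

def ltAll (r : ℕ) (w : List ℕ) : Bool := w.all (fun x => Nat.blt x r)

theorem ltAll_spec {r : ℕ} {w : List ℕ} (h : ltAll r w = true) : ∀ x ∈ w, x < r := by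
  intro x hx
  unfold ltAll at h
  rw [List.all_eq_true] at h
  have := h x hx
  unfold Nat.blt at this
  exact Nat.lt_of_succ_le (Nat.le_of_ble_eq_true this)

/-- the two words act in the same way on all points -/
def eqCheck (pt : List ℕ) (n r : ℕ) (u v : List ℕ) : Bool :=
  ltAll r u && ltAll r v && allBelow (fun i => Nat.beq (tabW pt u i) (tabW pt v i)) n

/-- the two words act differently on some point -/
def neCheck (pt : List ℕ) (n r : ℕ) (u v : List ℕ) : Bool :=
  ltAll r u && ltAll r v && !(allBelow (fun i => Nat.beq (tabW pt u i) (tabW pt v i)) n)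

section faithful

variable {r n : ℕ} {M : CoxeterMatrix (Fin r)} {pt : List ℕ} (hinvol : checkInvol pt n r = true)
  (σ : M.Group →* Equiv.Perm (Fin n))
  (hσ : ∀ (k : ℕ) (hk : k < r), σ (M.simple ⟨k, hk⟩) = tabPerm pt n r hinvol k)

include hσ in
theorem sigma_genOf : ∀ x, x < r → σ (genOf M x) = tabPerm pt n r hinvol x := by
  intro x hx
  rw [genOf_lt M hx]
  exact hσ x hx

include hσ in
theorem sigma_word_val (w : List ℕ) (hw : ∀ x ∈ w, x < r) (i : Fin n) :
    ((σ (wprod (genOf M) w) i : Fin n) : ℕ) = tabW pt w i := by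
  rw [sigma_wprod hinvol σ (sigma_genOf hinvol σ hσ) w hw]
  exact permW_val hinvol w hw i

include hσ in
theorem word_eq (hinj : Function.Injective σ) {u v : List ℕ} (h : eqCheck pt n r u v = true) :
    wprod (genOf M) u = wprod (genOf M) v := by
  unfold eqCheck at h
  rw [Bool.and_eq_true, Bool.and_eq_true] at h
  obtain ⟨⟨hu, hv⟩, h3⟩ := h
  apply hinj
  ext i
  rw [sigma_word_val hinvol σ hσ u (ltAll_spec hu), sigma_word_val hinvol σ hσ v (ltAll_spec hv)]
  exact Nat.eq_of_beq_eq_true (allBelow_spec h3 i i.2)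

include hσ in
theorem word_ne {u v : List ℕ} (h : neCheck pt n r u v = true) :
    wprod (genOf M) u ≠ wprod (genOf M) v := by
  unfold neCheck at h
  rw [Bool.and_eq_true, Bool.and_eq_true] at h
  obtain ⟨⟨hu, hv⟩, h3⟩ := h
  intro heq
  have h4 : allBelow (fun i => Nat.beq (tabW pt u i) (tabW pt v i)) n = true := by
    apply allBelow_of_all
    intro i hi
    have h5 := sigma_word_val hinvol σ hσ u (ltAll_spec hu) ⟨i, hi⟩
    have h6 := sigma_word_val hinvol σ hσ v (ltAll_spec hv) ⟨i, hi⟩
    rw [heq] at h5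
    show Nat.beq (tabW pt u i) (tabW pt v i) = true
    rw [← h5, ← h6]
    exact Nat.beq_refl _
  rw [h4] at h3
  simp at h3

/-- an element commuting with all simple reflections is central -/
theorem central_of_comm (z : M.Group) (h : ∀ k, k < r → genOf M k * z = z * genOf M k) :
    z ∈ Subgroup.center M.Group := by
  rw [Subgroup.mem_center_iff]
  have hC : (⊤ : Subgroup M.Group) ≤ Subgroup.centralizer {z} := by
    rw [← M.toCoxeterSystem.subgroup_closure_range_simple, Subgroup.closure_le]
    rintro _ ⟨i, rfl⟩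
    show M.toCoxeterSystem.simple i ∈ Subgroup.centralizer {z}
    rw [Subgroup.mem_centralizer_iff]
    intro y hy
    rw [Set.mem_singleton_iff] at hy
    subst hy
    have := h i i.2
    rw [genOf_lt M i.2] at this
    exact this.symm
  intro g
  have hg := hC (Subgroup.mem_top g)
  rw [Subgroup.mem_centralizer_iff] at hg
  exact (hg z rfl).symm

include hσ in
/-- the centre embeds in the points fixed by the generators `J` of the point stabilizer -/
theorem center_card_le (hinj : Function.Injective σ) [Finite M.Group] (hn : 0 < n) (bp bx : ℕ)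
    (htrans : checkTrans pt bp bx n r = true) (J : List ℕ)
    (hJ : J.all (fun j => Nat.blt j r && Nat.beq (dig (nth pt j) 0) 0) = true) :
    Nat.card (Subgroup.center M.Group) ≤
      countBelow (fun b => J.all fun j => Nat.beq (dig (nth pt j) b) b) n := by
  classical
  have hσ' := sigma_genOf hinvol σ hσ
  have htr := trans_of_check (gen := genOf M) hinvol bp bx htrans hn σ hσ'
  rw [List.all_eq_true] at hJ
  have hJ1 : ∀ j ∈ J, j < r := by
    intro j hj
    have := hJ j hj
    rw [Bool.and_eq_true] at this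
    have := this.1
    unfold Nat.blt at this
    exact Nat.lt_of_succ_le (Nat.le_of_ble_eq_true this)
  have hJ2 : ∀ j ∈ J, σ (genOf M j) ⟨0, hn⟩ = ⟨0, hn⟩ := by
    intro j hj
    have := hJ j hj
    rw [Bool.and_eq_true] at this
    apply Fin.ext
    rw [hσ' j (hJ1 j hj), tabPerm_val hinvol (hJ1 j hj)]
    exact Nat.eq_of_beq_eq_true this.2
  set p : ℕ → Bool := fun b => J.all fun j => Nat.beq (dig (nth pt j) b) b with hp
  have hmem : ∀ z : Subgroup.center M.Group, p (σ (z : M.Group) ⟨0, hn⟩ : Fin n) = true := by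
    intro z
    show (J.all fun j => Nat.beq (dig (nth pt j) (σ (z : M.Group) ⟨0, hn⟩ : Fin n))
      (σ (z : M.Group) ⟨0, hn⟩ : Fin n)) = true
    rw [List.all_eq_true]
    intro j hj
    have hz := Subgroup.mem_center_iff.mp z.2 (genOf M j)
    have h1 : σ (genOf M j) (σ (z : M.Group) ⟨0, hn⟩) = σ (z : M.Group) ⟨0, hn⟩ := by
      rw [← Equiv.Perm.mul_apply, ← map_mul, hz, map_mul, Equiv.Perm.mul_apply, hJ2 j hj]
    have h2 : ((σ (genOf M j) (σ (z : M.Group) ⟨0, hn⟩) : Fin n) : ℕ) =
        ((σ (z : M.Group) ⟨0, hn⟩ : Fin n) : ℕ) := congrArg Fin.val h1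
    rw [hσ' j (hJ1 j hj), tabPerm_val hinvol (hJ1 j hj)] at h2
    rw [h2]
    exact Nat.beq_refl _
  let f : Subgroup.center M.Group → {i : Fin n | p i = true} :=
    fun z => ⟨σ (z : M.Group) ⟨0, hn⟩, hmem z⟩
  have hf : Function.Injective f := by
    intro z z' hzz
    have h0 : σ (z : M.Group) ⟨0, hn⟩ = σ (z' : M.Group) ⟨0, hn⟩ := congrArg Subtype.val hzz
    apply Subtype.ext
    apply hinj
    ext i
    obtain ⟨g, rfl⟩ := htr i
    have e1 : σ (z : M.Group) (σ g ⟨0, hn⟩) = σ g (σ (z : M.Group) ⟨0, hn⟩) := by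
      rw [← Equiv.Perm.mul_apply, ← map_mul, ← Subgroup.mem_center_iff.mp z.2 g, map_mul,
        Equiv.Perm.mul_apply]
    have e2 : σ (z' : M.Group) (σ g ⟨0, hn⟩) = σ g (σ (z' : M.Group) ⟨0, hn⟩) := by
      rw [← Equiv.Perm.mul_apply, ← map_mul, ← Subgroup.mem_center_iff.mp z'.2 g, map_mul,
        Equiv.Perm.mul_apply]
    rw [e1, e2, h0]
  have h1 := Nat.card_le_card_of_injective f hf
  rw [_root_.Nat.card_coe_set_eq, ncard_fin_eq] at h1
  exact h1

end faithful

/-- centre of order one -/
theorem center_one {G : Type*} [Group G] [Finite G] (c : G) (h : Nat.card (Subgroup.center G) ≤ 1) :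
    Nat.card (Subgroup.center G) = 1 ∧ Subgroup.center G ≤ Subgroup.zpowers c := by
  have hb : Subgroup.center G = ⊥ := Subgroup.eq_bot_of_card_le _ h
  rw [hb]
  exact ⟨Subgroup.card_bot, bot_le⟩

/-- centre of order two generated by a power of `c` -/
theorem center_two {G : Type*} [Group G] [Finite G] (c : G) (e : ℕ)
    (h : Nat.card (Subgroup.center G) ≤ 2) (hz : c ^ e ∈ Subgroup.center G) (hne : c ^ e ≠ 1) :
    Nat.card (Subgroup.center G) = 2 ∧ Subgroup.center G ≤ Subgroup.zpowers c := by
  have hle : Subgroup.zpowers (c ^ e) ≤ Subgroup.center G := Subgroup.zpowers_le.mpr hz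
  have h2 : 2 ≤ Nat.card (Subgroup.zpowers (c ^ e)) := by
    rw [Nat.card_zpowers]
    have h0 : 0 < orderOf (c ^ e) := orderOf_pos _
    have h1 : orderOf (c ^ e) ≠ 1 := fun h1 => hne (orderOf_eq_one_iff.mp h1)
    omega
  have h3 : Nat.card (Subgroup.zpowers (c ^ e)) ≤ Nat.card (Subgroup.center G) :=
    Subgroup.card_le_of_le hle
  have heq : Subgroup.zpowers (c ^ e) = Subgroup.center G :=
    Subgroup.eq_of_le_of_card_ge hle (by omega)
  refine ⟨by omega, ?_⟩
  rw [← heq]
  exact Subgroup.zpowers_le.mpr (Subgroup.npow_mem_zpowers c e)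

/-- `c ^ e` commutes with all generators and is not trivial, in the permutation representation -/
def centCheck (pt : List ℕ) (n r e : ℕ) : Bool :=
  allBelow (fun k => eqCheck pt n r (k :: pw r e) (pw r e ++ [k])) r && neCheck pt n r (pw r e) []

theorem cox_center_one {r : ℕ} (M : CoxeterMatrix (Fin r)) (n N : ℕ) (hN : 0 < N)
    (hcard : Nat.card M.Group = N) (rels : List (List ℕ))
    (hrels : rels = (List.finRange r).flatMap fun i => (List.finRange r).map fun j =>
        (List.replicate (M i j) [(i : ℕ), (j : ℕ)]).flatten)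
    (pt : List ℕ) (hinvol : checkInvol pt n r = true)
    (hwords : rels.all (checkWord pt n r) = true)
    (levels : List (ℕ × List (ℕ × ℕ) × List ℕ))
    (hchain : N ≤ chainLB pt n r (List.range r) levels)
    (hn : 0 < n) (bp bx : ℕ) (htrans : checkTrans pt bp bx n r = true) (J : List ℕ)
    (hJ : J.all (fun j => Nat.blt j r && Nat.beq (dig (nth pt j) 0) 0) = true)
    (hcount : countBelow (fun b => J.all fun j => Nat.beq (dig (nth pt j) b) b) n = 1) :
    Nat.card (Subgroup.center M.Group) = 1 ∧
      Subgroup.center M.Group ≤ Subgroup.zpowers ((List.finRange r).map M.simple).prod := by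
  obtain ⟨σ, hinj, hσ⟩ := coxeter_faithful M n N hN hcard rels hrels pt hinvol hwords levels hchain
  haveI : Finite M.Group := Nat.finite_of_card_ne_zero (by rw [hcard]; exact hN.ne')
  have h1 := center_card_le hinvol σ hσ hinj hn bp bx htrans J hJ
  rw [hcount] at h1
  exact center_one _ h1

theorem cox_center_two {r : ℕ} (M : CoxeterMatrix (Fin r)) (n N : ℕ) (hN : 0 < N)
    (hcard : Nat.card M.Group = N) (rels : List (List ℕ))
    (hrels : rels = (List.finRange r).flatMap fun i => (List.finRange r).map fun j =>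
        (List.replicate (M i j) [(i : ℕ), (j : ℕ)]).flatten)
    (pt : List ℕ) (hinvol : checkInvol pt n r = true)
    (hwords : rels.all (checkWord pt n r) = true)
    (levels : List (ℕ × List (ℕ × ℕ) × List ℕ))
    (hchain : N ≤ chainLB pt n r (List.range r) levels)
    (hn : 0 < n) (bp bx : ℕ) (htrans : checkTrans pt bp bx n r = true) (J : List ℕ)
    (hJ : J.all (fun j => Nat.blt j r && Nat.beq (dig (nth pt j) 0) 0) = true)
    (hcount : countBelow (fun b => J.all fun j => Nat.beq (dig (nth pt j) b) b) n = 2)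
    (e : ℕ) (hcent : centCheck pt n r e = true) :
    Nat.card (Subgroup.center M.Group) = 2 ∧
      Subgroup.center M.Group ≤ Subgroup.zpowers ((List.finRange r).map M.simple).prod := by
  obtain ⟨σ, hinj, hσ⟩ := coxeter_faithful M n N hN hcard rels hrels pt hinvol hwords levels hchain
  haveI : Finite M.Group := Nat.finite_of_card_ne_zero (by rw [hcard]; exact hN.ne')
  have h1 := center_card_le hinvol σ hσ hinj hn bp bx htrans J hJ
  rw [hcount] at h1
  unfold centCheck at hcent
  rw [Bool.and_eq_true] at hcent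
  obtain ⟨hc1, hc2⟩ := hcent
  have hz : ((List.finRange r).map M.simple).prod ^ e ∈ Subgroup.center M.Group := by
    rw [cox_pow_eq]
    apply central_of_comm
    intro k hk
    have := word_eq hinvol σ hσ hinj (allBelow_spec hc1 k hk)
    rw [wprod_append] at this
    have e1 : wprod (genOf M) (k :: pw r e) = genOf M k * wprod (genOf M) (pw r e) := by
      simp [wprod]
    have e2 : wprod (genOf M) [k] = genOf M k := by simp [wprod]
    rw [e1, e2] at this
    exact this
  have hne : ((List.finRange r).map M.simple).prod ^ e ≠ 1 := by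
    rw [cox_pow_eq]
    have := word_ne hinvol σ hσ hc2
    simpa [wprod] using this
  exact center_two _ e h1 hz hne

end Cfsg.Agent.H8CE
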