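import Mathlib
import Cfsg.Prelude.Def_FusionSystem
import Cfsg.Agent.Lib.Helper8_Saturated
import Cfsg.Agent.Lib.Helper8_Alperin

set_option autoImplicit false
set_option linter.style.haveILetI false
set_option linter.unusedVariables false
open Cfsg

/-!
# `K`-normalizers in fusion systems: `N_S^K(T)`, fully `K`-normalized subgroups
-/

namespace Cfsg.Agent.Lib.Helper8_KNorm1

open Cfsg.FusionSystem Cfsg.Agent.Lib.Helper8_Fusion
open Cfsg.Agent.Lib.Helper8_GroupFusion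
open Cfsg.Agent.Lib.Helper8_Saturated
open Cfsg.Agent.Lib.Helper8_Alperin

variable {Ω : Type*} [Group Ω] {S : Subgroup Ω}

/-- `N_S^K(T)`: the elements of `S` normalizing `T` and inducing on `T` an element of `K`. -/
def NK (S T : Subgroup Ω) (K : Subgroup (MulAut T)) : Subgroup Ω :=
  S ⊓ (K.comap T.normalizerMonoidHom).map (Subgroup.normalizer (T : Set Ω)).subtype

theorem mem_NK {T : Subgroup Ω} {K : Subgroup (MulAut T)} {x : Ω} :
    x ∈ NK S T K ↔ x ∈ S ∧ ∃ hx : x ∈ Subgroup.normalizer (T : Set Ω),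
      T.normalizerMonoidHom ⟨x, hx⟩ ∈ K := by
  unfold NK
  rw [Subgroup.mem_inf]
  constructor
  · rintro ⟨hS, ⟨y, hy, rfl⟩⟩
    exact ⟨hS, y.2, hy⟩
  · rintro ⟨hS, hx, hK⟩
    exact ⟨hS, ⟨⟨x, hx⟩, hK, rfl⟩⟩

theorem NK_le (T : Subgroup Ω) (K : Subgroup (MulAut T)) : NK S T K ≤ S := inf_le_left

theorem NK_le_normalizer (T : Subgroup Ω) (K : Subgroup (MulAut T)) :
    NK S T K ≤ Subgroup.normalizer (T : Set Ω) := fun x hx => (mem_NK.mp hx).2.1

theorem NK_le_normalizerIn (T : Subgroup Ω) (K : Subgroup (MulAut T)) :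
    NK S T K ≤ normalizerIn S T := fun x hx => ⟨NK_le T K hx, NK_le_normalizer T K hx⟩

theorem NK_top (T : Subgroup Ω) : NK S T ⊤ = normalizerIn S T := by
  ext x
  rw [mem_NK]
  constructor
  · rintro ⟨h1, h2, -⟩
    exact ⟨h1, h2⟩
  · rintro ⟨h1, h2⟩
    exact ⟨h1, h2, Subgroup.mem_top _⟩

theorem NK_bot (T : Subgroup Ω) : NK S T ⊥ = centralizerIn S T := by
  ext x
  rw [mem_NK]
  constructor
  · rintro ⟨h1, h2, h3⟩
    refine ⟨h1, ?_⟩
    show x ∈ Subgroup.centralizer (T : Set Ω)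
    rw [Subgroup.mem_centralizer_iff]
    intro t ht
    rw [Subgroup.mem_bot] at h3
    have := congrArg (fun α : MulAut T => ((α ⟨t, ht⟩ : T) : Ω)) h3
    have h4 : x * t * x⁻¹ = t := this
    calc t * x = (x * t * x⁻¹) * x := by rw [h4]
      _ = x * t := by group
  · rintro ⟨h1, h2⟩
    have h2' : x ∈ Subgroup.centralizer (T : Set Ω) := h2
    refine ⟨h1, Subgroup.centralizer_le_normalizer _ h2', ?_⟩
    rw [Subgroup.mem_bot]
    ext t
    show x * (t : Ω) * x⁻¹ = t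
    have := (Subgroup.mem_centralizer_iff.mp h2') t t.2
    rw [← this]; group

theorem centralizerIn_le_NK (T : Subgroup Ω) (K : Subgroup (MulAut T)) :
    centralizerIn S T ≤ NK S T K := by
  rw [← NK_bot]
  intro x hx
  rw [mem_NK] at hx ⊢
  obtain ⟨h1, h2, h3⟩ := hx
  refine ⟨h1, h2, ?_⟩
  rw [Subgroup.mem_bot] at h3
  rw [h3]; exact K.one_mem

/-- The conjugation action of `N_S^K(T)` on `T`. -/
def kap (S T : Subgroup Ω) (K : Subgroup (MulAut T)) : NK S T K →* MulAut T :=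
  T.normalizerMonoidHom.comp (Subgroup.inclusion (NK_le_normalizer T K))

theorem kap_apply {T : Subgroup Ω} {K : Subgroup (MulAut T)} (x : NK S T K) (t : T) :
    ((kap S T K x t : T) : Ω) = x * t * (x : Ω)⁻¹ := rfl

theorem kap_range (T : Subgroup Ω) (K : Subgroup (MulAut T)) :
    (kap S T K).range = autInducedBy S T ⊓ K := by
  ext α
  constructor
  · rintro ⟨x, rfl⟩
    rw [Subgroup.mem_inf]
    refine ⟨?_, ?_⟩
    · rw [mem_autInducedBy_iff]
      exact ⟨x, NK_le T K x.2, NK_le_normalizer T K x.2, fun t => rfl⟩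
    · exact (mem_NK.mp x.2).2.2
  · intro h
    rw [Subgroup.mem_inf] at h
    obtain ⟨h1, h2⟩ := h
    rw [mem_autInducedBy_iff] at h1
    obtain ⟨g, hgS, hgN, hg⟩ := h1
    have hα : α = T.normalizerMonoidHom ⟨g, hgN⟩ := by
      ext t
      rw [hg t]; rfl
    have hgNK : g ∈ NK S T K := mem_NK.mpr ⟨hgS, hgN, by rw [← hα]; exact h2⟩
    refine ⟨⟨g, hgNK⟩, ?_⟩
    rw [hα]; rfl

theorem kap_ker_map (T : Subgroup Ω) (K : Subgroup (MulAut T)) :
    (kap S T K).ker.map (NK S T K).subtype = centralizerIn S T := by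
  ext x
  constructor
  · rintro ⟨y, hy, rfl⟩
    rw [SetLike.mem_coe, MonoidHom.mem_ker] at hy
    refine ⟨NK_le T K y.2, ?_⟩
    show (y : Ω) ∈ Subgroup.centralizer (T : Set Ω)
    rw [Subgroup.mem_centralizer_iff]
    intro t ht
    have := congrArg (fun α : MulAut T => ((α ⟨t, ht⟩ : T) : Ω)) hy
    have h4 : (y : Ω) * t * (y : Ω)⁻¹ = t := this
    calc t * (y : Ω) = ((y : Ω) * t * (y : Ω)⁻¹) * y := by rw [h4]
      _ = y * t := by group
  · intro hx
    have hxNK := centralizerIn_le_NK T K hx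
    refine ⟨⟨x, hxNK⟩, ?_, rfl⟩
    rw [SetLike.mem_coe, MonoidHom.mem_ker]
    ext t
    show x * (t : Ω) * x⁻¹ = t
    have hx2 : x ∈ Subgroup.centralizer (T : Set Ω) := hx.2
    have := (Subgroup.mem_centralizer_iff.mp hx2) t t.2
    rw [← this]; group

/-- `|N_S^K(T)| = |C_S(T)| · |Aut_S(T) ∩ K|`. -/
theorem card_NK [Finite S] (T : Subgroup Ω) (K : Subgroup (MulAut T)) :
    Nat.card (NK S T K) = Nat.card (centralizerIn S T) * Nat.card ↥(autInducedBy S T ⊓ K) := by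
  haveI : Finite (NK S T K) := finite_of_le (NK_le T K)
  have h1 := Subgroup.card_eq_card_quotient_mul_card_subgroup (kap S T K).ker
  have h2 : Nat.card (NK S T K ⧸ (kap S T K).ker) = Nat.card (kap S T K).range :=
    Nat.card_congr (QuotientGroup.quotientKerEquivRange (kap S T K)).toEquiv
  have h3 : Nat.card (kap S T K).ker = Nat.card (centralizerIn S T) := by
    rw [← kap_ker_map T K]
    exact (Subgroup.card_map_of_injective (Subgroup.subtype_injective _)).symm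
  rw [h1, h2, h3, kap_range, mul_comm]


/-! ### Transport along isomorphisms -/

/-- Transport of a group of automorphisms along an isomorphism. -/
def tr {T T' : Subgroup Ω} (e : T ≃* T') (K : Subgroup (MulAut T)) : Subgroup (MulAut T') :=
  K.map (MulAut.congr e).toMonoidHom

theorem congr_mem_tr {T T' : Subgroup Ω} (e : T ≃* T') {K : Subgroup (MulAut T)} {α : MulAut T}
    (hα : α ∈ K) : MulAut.congr e α ∈ tr e K := ⟨α, hα, rfl⟩

theorem tr_trans {T T' T'' : Subgroup Ω} (e : T ≃* T') (f : T' ≃* T'') (K : Subgroup (MulAut T)) :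
    tr (e.trans f) K = tr f (tr e K) := by
  unfold tr
  rw [Subgroup.map_map]
  congr 1

theorem tr_symm_tr {T T' : Subgroup Ω} (e : T ≃* T') (K : Subgroup (MulAut T)) :
    tr e.symm (tr e K) = K := by
  rw [← tr_trans]
  unfold tr
  have : (MulAut.congr (e.trans e.symm)).toMonoidHom = MonoidHom.id _ := by
    ext α x
    simp [MulAut.congr]
  rw [this, Subgroup.map_id]

theorem tr_tr_symm {T T' : Subgroup Ω} (e : T ≃* T') (K : Subgroup (MulAut T')) :
    tr e (tr e.symm K) = K := by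
  have := tr_symm_tr e.symm K
  rwa [MulEquiv.symm_symm] at this

theorem tr_aut {T : Subgroup Ω} (χ : MulAut T) (K : Subgroup (MulAut T)) : tr χ K = cj χ K := by
  unfold tr cj
  congr 1

theorem card_tr {T T' : Subgroup Ω} (e : T ≃* T') (K : Subgroup (MulAut T)) :
    Nat.card (tr e K) = Nat.card K :=
  Subgroup.card_map_of_injective (MulAut.congr e).injective

theorem tr_mono {T T' : Subgroup Ω} (e : T ≃* T') {K L : Subgroup (MulAut T)} (h : K ≤ L) :
    tr e K ≤ tr e L := Subgroup.map_mono h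

theorem autGroup_inf_tr (F : FusionSystem S) {T T' : Subgroup Ω} {e : T ≃* T'}
    (he : e ∈ Iso F T T') (K : Subgroup (MulAut T)) :
    F.autGroup T' ⊓ tr e K = tr e (F.autGroup T ⊓ K) := by
  unfold tr
  rw [Subgroup.map_inf _ _ _ (MulAut.congr e).injective, map_congr_autGroup F he]

/-- The Sylow condition: `Aut_S(T) ∩ K` is a Sylow `p`-subgroup of `Aut_F(T) ∩ K`. -/
def SylK (F : FusionSystem S) (p : ℕ) (T : Subgroup Ω) (K : Subgroup (MulAut T)) : Prop :=
  ∃ R : Sylow p ↥(F.autGroup T ⊓ K),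
    (R : Subgroup ↥(F.autGroup T ⊓ K)) = (autInducedBy S T).subgroupOf (F.autGroup T ⊓ K)

/-- `T` is fully `K`-normalized. -/
def FullyK (F : FusionSystem S) (T : Subgroup Ω) (K : Subgroup (MulAut T)) : Prop :=
  T ≤ S ∧ ∀ (T' : Subgroup Ω) (e : T ≃* T'), e ∈ Iso F T T' →
    Nat.card (NK S T' (tr e K)) ≤ Nat.card (NK S T K)

theorem autInducedBy_inf_eq (F : FusionSystem S) {T : Subgroup Ω} (hT : T ≤ S)
    (K : Subgroup (MulAut T)) :
    autInducedBy S T ⊓ (F.autGroup T ⊓ K) = autInducedBy S T ⊓ K := by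
  rw [← inf_assoc, inf_eq_left.mpr (autInducedBy_le_autGroup F hT)]

theorem sylK_iff_card [Finite S] {p : ℕ} [Fact p.Prime] (hS : IsPGroup p S) (F : FusionSystem S)
    {T : Subgroup Ω} (hT : T ≤ S) (K : Subgroup (MulAut T)) :
    SylK F p T K ↔ Nat.card ↥(autInducedBy S T ⊓ K) =
      p ^ (Nat.card ↥(F.autGroup T ⊓ K)).factorization p := by
  haveI : Finite T := finite_of_le hT
  have hcard : Nat.card ((autInducedBy S T).subgroupOf (F.autGroup T ⊓ K)) =
      Nat.card ↥(autInducedBy S T ⊓ K) := by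
    rw [← Subgroup.inf_subgroupOf_right, autInducedBy_inf_eq F hT]
    exact Nat.card_congr (Subgroup.subgroupOfEquivOfLe
      (le_inf (inf_le_left.trans (autInducedBy_le_autGroup F hT)) inf_le_right)).toEquiv
  constructor
  · rintro ⟨R, hR⟩
    rw [← hcard, ← hR]
    exact R.card_eq_multiplicity
  · intro h
    exact ⟨Sylow.ofCard ((autInducedBy S T).subgroupOf (F.autGroup T ⊓ K))
      (by rw [hcard]; exact h), rfl⟩

/-- A `p`-subgroup of a finite group has order at most the `p`-part of the group order. -/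
theorem card_le_pow_factorization {G : Type*} [Group G] [Finite G] {p : ℕ} [Fact p.Prime]
    (M X : Subgroup G) (hXM : X ≤ M) (hX : IsPGroup p X) :
    Nat.card X ≤ p ^ (Nat.card M).factorization p := by
  have hp : p.Prime := Fact.out
  obtain ⟨n, hn⟩ := IsPGroup.iff_card.mp hX
  have hdvd : Nat.card X ∣ Nat.card M := Subgroup.card_dvd_of_le hXM
  rw [hn] at hdvd ⊢
  have hpos : Nat.card M ≠ 0 := Nat.card_pos.ne'
  exact Nat.pow_le_pow_right hp.pos ((hp.pow_dvd_iff_le_factorization hpos).mp hdvd)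


/-- Every pair `(T, K)` has a conjugate `(T', eK)` with `T'` fully automized and receptive and
`Aut_S(T') ∩ eK` a Sylow subgroup of `Aut_F(T') ∩ eK`. -/
theorem exists_good [Finite S] {p : ℕ} [Fact p.Prime] (hS : IsPGroup p S) (F : FusionSystem S)
    (hF : F.IsSaturated p) {T : Subgroup Ω} (hT : T ≤ S) (K : Subgroup (MulAut T)) :
    ∃ (T' : Subgroup Ω) (e : T ≃* T'), e ∈ Iso F T T' ∧ F.IsFullyAutomized p T' ∧
      F.IsReceptive T' ∧ SylK F p T' (tr e K) := by
  obtain ⟨T₀, hconj, hT₀a, hT₀r⟩ := hF T hT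
  obtain ⟨e₀, he₀⟩ := (isConj_iff_iso F).mp hconj
  have hT₀S : T₀ ≤ S := hT₀r.1
  haveI : Finite T₀ := finite_of_le hT₀S
  obtain ⟨M₀, hM₀⟩ : ∃ M₀, M₀ = F.autGroup T₀ ⊓ tr e₀ K := ⟨_, rfl⟩
  obtain ⟨R₀⟩ := (inferInstance : Nonempty (Sylow p ↥M₀))
  obtain ⟨R, hRdef⟩ : ∃ R, R = (R₀ : Subgroup M₀).map M₀.subtype := ⟨_, rfl⟩
  have hRp : IsPGroup p R := by rw [hRdef]; exact R₀.2.map _
  have hRM : R ≤ M₀ := by rw [hRdef]; exact Subgroup.map_subtype_le _
  have hRA : R ≤ F.autGroup T₀ := hRM.trans (by rw [hM₀]; exact inf_le_left)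
  have hRcard : Nat.card R = p ^ (Nat.card M₀).factorization p := by
    rw [hRdef, Subgroup.card_map_of_injective (Subgroup.subtype_injective _)]
    exact R₀.card_eq_multiplicity
  obtain ⟨hT₀S', R₁, hR₁⟩ := hT₀a
  obtain ⟨χ, hχ, hχR⟩ := exists_cj_le_of_sylow (F.autGroup T₀) (autInducedBy S T₀) R hRA hRp
    ⟨R₁, hR₁⟩
  have hχ' : χ ∈ Iso F T₀ T₀ := (mem_autGroup_iff F hT₀S χ).mp hχ
  have he : e₀.trans χ ∈ Iso F T T₀ := iso_trans F he₀ hχ'
  refine ⟨T₀, e₀.trans χ, he, ⟨hT₀S, R₁, hR₁⟩, hT₀r, ?_⟩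
  rw [sylK_iff_card hS F hT₀S]
  have hM : F.autGroup T₀ ⊓ tr (e₀.trans χ) K = cj χ M₀ := by
    rw [autGroup_inf_tr F he, hM₀, autGroup_inf_tr F he₀, tr_trans, tr_aut]
  have hMcard : Nat.card ↥(F.autGroup T₀ ⊓ tr (e₀.trans χ) K) = Nat.card M₀ := by
    rw [hM]; exact card_cj χ M₀
  apply le_antisymm
  · exact card_le_pow_factorization _ _
      (le_inf (inf_le_left.trans (autInducedBy_le_autGroup F hT₀S)) inf_le_right)
      ((autInducedBy_isPGroup hS T₀).to_le inf_le_left)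
  · rw [hMcard, ← hRcard, ← card_cj χ R]
    apply Subgroup.card_le_of_le
    apply le_inf hχR
    have h1 : cj χ R ≤ cj χ M₀ := cj_mono χ hRM
    rw [← hM] at h1
    exact h1.trans inf_le_right


/-- A fully `K`-normalized subgroup is fully centralized and satisfies the Sylow condition. -/
theorem fullyK_facts [Finite S] {p : ℕ} [Fact p.Prime] (hS : IsPGroup p S) (F : FusionSystem S)
    (hF : F.IsSaturated p) {T : Subgroup Ω} {K : Subgroup (MulAut T)} (h : FullyK F T K) :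
    F.IsFullyCentralized T ∧ SylK F p T K := by
  obtain ⟨hT, hmax⟩ := h
  haveI : Finite T := finite_of_le hT
  obtain ⟨T', e, he, hT'a, hT'r, hT'syl⟩ := exists_good hS F hF hT K
  have hT'S : T' ≤ S := hT'r.1
  haveI : Finite T' := finite_of_le hT'S
  have hconj : F.IsConj T T' := (isConj_iff_iso F).mpr ⟨e, he⟩
  have h1 := hmax T' e he
  rw [card_NK, card_NK] at h1
  have hc : Nat.card (centralizerIn S T) ≤ Nat.card (centralizerIn S T') :=
    card_centralizer_le_of_receptive F hT'r hconj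
  have ha' := (sylK_iff_card hS F hT'S _).mp hT'syl
  have hcardM : Nat.card ↥(F.autGroup T' ⊓ tr e K) = Nat.card ↥(F.autGroup T ⊓ K) := by
    rw [autGroup_inf_tr F he, card_tr]
  rw [hcardM] at ha'
  have ha : Nat.card ↥(autInducedBy S T ⊓ K) ≤ p ^ (Nat.card ↥(F.autGroup T ⊓ K)).factorization p :=
    card_le_pow_factorization _ _
      (le_inf (inf_le_left.trans (autInducedBy_le_autGroup F hT)) inf_le_right)
      ((autInducedBy_isPGroup hS T).to_le inf_le_left)
  rw [← ha'] at ha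
  haveI := finite_centralizerIn (S := S) T
  haveI := finite_centralizerIn (S := S) T'
  have hcpos : 0 < Nat.card (centralizerIn S T) := Nat.card_pos
  have hc'pos : 0 < Nat.card (centralizerIn S T') := Nat.card_pos
  have hapos : 0 < Nat.card ↥(autInducedBy S T ⊓ K) := Nat.card_pos
  have ha'pos : 0 < Nat.card ↥(autInducedBy S T' ⊓ tr e K) := Nat.card_pos
  have haeq : Nat.card ↥(autInducedBy S T ⊓ K) = Nat.card ↥(autInducedBy S T' ⊓ tr e K) := by
    apply le_antisymm ha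
    have h2 : Nat.card (centralizerIn S T') * Nat.card ↥(autInducedBy S T' ⊓ tr e K) ≤
        Nat.card (centralizerIn S T') * Nat.card ↥(autInducedBy S T ⊓ K) :=
      h1.trans (Nat.mul_le_mul_right _ hc)
    exact Nat.le_of_mul_le_mul_left h2 hc'pos
  have hceq : Nat.card (centralizerIn S T) = Nat.card (centralizerIn S T') := by
    apply le_antisymm hc
    have h2 : Nat.card (centralizerIn S T') * Nat.card ↥(autInducedBy S T' ⊓ tr e K) ≤
        Nat.card (centralizerIn S T) * Nat.card ↥(autInducedBy S T' ⊓ tr e K) :=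
      h1.trans (le_of_eq (by rw [haeq]))
    exact Nat.le_of_mul_le_mul_right h2 ha'pos
  constructor
  · refine ⟨hT, fun T'' hT'' => ?_⟩
    rw [hceq]
    exact card_centralizer_le_of_receptive F hT'r (isConj_trans F (isConj_symm F hT'') hconj)
  · rw [sylK_iff_card hS F hT, haeq, ha']


/-- Membership in the extender via the transported conjugation action. -/
theorem mem_extender_of_congr_mem {T T' : Subgroup Ω} (e : T ≃* T') {g : Ω} (hgS : g ∈ S)
    (hgN : g ∈ Subgroup.normalizer (T : Set Ω))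
    (h : MulAut.congr e (T.normalizerMonoidHom ⟨g, hgN⟩) ∈ autInducedBy S T') :
    g ∈ extender S T (T'.subtype.comp e.toMonoidHom) := by
  rw [mem_autInducedBy_iff] at h
  obtain ⟨t, htS, htN, ht⟩ := h
  refine mem_extender_of hgS hgN ⟨t, htS, ?_⟩
  intro x hx
  have h2 := ht (e x)
  show ((e ⟨g * (x : Ω) * g⁻¹, hx⟩ : T') : Ω) = t * ((e x : T') : Ω) * t⁻¹
  rw [← h2]
  simp only [MulAut.congr_apply, MulEquiv.trans_apply, MulEquiv.symm_apply_apply]
  rfl

/-- **Extension lemma.** If `T'` is receptive and satisfies the Sylow condition for `eK`, then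
`e` can be corrected by an element of `Aut_F(T) ∩ K` so as to extend to `N_S^K(T) T`. -/
theorem exists_extension [Finite S] {p : ℕ} [Fact p.Prime] (hS : IsPGroup p S) (F : FusionSystem S)
    {T T' : Subgroup Ω} (K : Subgroup (MulAut T)) {e : T ≃* T'} (he : e ∈ Iso F T T')
    (hT'r : F.IsReceptive T') (hsyl : SylK F p T' (tr e K)) :
    ∃ χ ∈ F.autGroup T ⊓ K, ∃ ψ ∈ F.Hom (NK S T K ⊔ T),
      ∀ x : T, ψ ⟨x, (le_sup_right : T ≤ NK S T K ⊔ T) x.2⟩ = ((e (χ x) : T') : Ω) := by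
  obtain ⟨hTS, hT'S⟩ := iso_le F he
  haveI : Finite T' := finite_of_le hT'S
  haveI : Finite T := finite_of_le hTS
  have hBp : IsPGroup p (tr e (autInducedBy S T ⊓ K)) :=
    ((autInducedBy_isPGroup hS T).to_le inf_le_left).map _
  have hBM : tr e (autInducedBy S T ⊓ K) ≤ F.autGroup T' ⊓ tr e K := by
    rw [autGroup_inf_tr F he]
    exact tr_mono e (inf_le_inf_right K (autInducedBy_le_autGroup F hTS))
  obtain ⟨χ', hχ', hχ'B⟩ := exists_cj_le_of_sylow (F.autGroup T' ⊓ tr e K) (autInducedBy S T')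
    (tr e (autInducedBy S T ⊓ K)) hBM hBp hsyl
  rw [autGroup_inf_tr F he] at hχ'
  obtain ⟨χ, hχ, rfl⟩ := hχ'
  have hχ1 : χ ∈ F.autGroup T ⊓ K := hχ
  have hχF : χ ∈ Iso F T T := (mem_autGroup_iff F hTS χ).mp hχ1.1
  have he' : χ.trans e ∈ Iso F T T' := iso_trans F hχF he
  have hφ : T'.subtype.comp (χ.trans e).toMonoidHom ∈ F.Hom T := he'
  obtain ⟨ψ, hψ, hψφ⟩ := hT'r.2 T _ hφ (range_subtype_comp _)
  have hle : NK S T K ⊔ T ≤ extender S T (T'.subtype.comp (χ.trans e).toMonoidHom) := by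
    apply sup_le
    · intro g hg
      obtain ⟨hgS, hgN, hgK⟩ := mem_NK.mp hg
      apply mem_extender_of_congr_mem (χ.trans e) hgS hgN
      apply hχ'B
      have hcg : T.normalizerMonoidHom ⟨g, hgN⟩ ∈ autInducedBy S T ⊓ K := by
        rw [Subgroup.mem_inf]
        refine ⟨?_, hgK⟩
        rw [mem_autInducedBy_iff]
        exact ⟨g, hgS, hgN, fun x => rfl⟩
      refine ⟨MulAut.congr e (T.normalizerMonoidHom ⟨g, hgN⟩), congr_mem_tr e hcg, ?_⟩
      ext y
      simp [MulAut.congr, MulAut.conj_apply]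
    · exact le_extender F hφ
  refine ⟨χ, hχ1, ψ.comp (Subgroup.inclusion hle), restrict_mem F hle hψ, fun x => ?_⟩
  exact hψφ (x : Ω) x.2 (hle ((le_sup_right : T ≤ NK S T K ⊔ T) x.2))


/-- A map of the system defined on `N ≥ T, N_S^K(T)` carries `N_S^K(T)` into `N_S^{eK}(eT)`. -/
theorem map_mem_NK [Finite S] (F : FusionSystem S) {N T T'' : Subgroup Ω}
    {K : Subgroup (MulAut T)} {ρ : N →* Ω} (hρ : ρ ∈ F.Hom N) (hTN : T ≤ N)
    (e : T ≃* T'') (heρ : ∀ x : T, ((e x : T'') : Ω) = ρ ⟨x, hTN x.2⟩)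
    {x : Ω} (hxN : x ∈ N) (hx : x ∈ NK S T K) : ρ ⟨x, hxN⟩ ∈ NK S T'' (tr e K) := by
  have hNS : N ≤ S := (F.le_of_mem hρ).1
  have hT''S : T'' ≤ S := by
    intro y hy
    have := heρ (e.symm ⟨y, hy⟩)
    rw [MulEquiv.apply_symm_apply] at this
    have h2 : y = ρ ⟨↑(e.symm ⟨y, hy⟩), hTN (e.symm ⟨y, hy⟩).2⟩ := this
    rw [h2]
    exact (F.le_of_mem hρ).2 _
  haveI : Finite T'' := finite_of_le hT''S
  obtain ⟨hxS, hxNm, hxK⟩ := mem_NK.mp hx
  have hconj : ∀ t : T, ∀ ht : x * (t : Ω) * x⁻¹ ∈ T,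
      ρ ⟨x, hxN⟩ * ((e t : T'') : Ω) * (ρ ⟨x, hxN⟩)⁻¹ = ((e ⟨x * t * x⁻¹, ht⟩ : T'') : Ω) := by
    intro t ht
    rw [heρ, heρ, ← map_inv, ← map_mul, ← map_mul]
    rfl
  have hnorm : ρ ⟨x, hxN⟩ ∈ Subgroup.normalizer (T'' : Set Ω) := by
    haveI : Finite ((T'' : Set Ω)) := ‹Finite T''›
    apply Subgroup.mem_normalizer_fintype
    intro y hy
    have ht : x * ((e.symm ⟨y, hy⟩ : T) : Ω) * x⁻¹ ∈ T :=
      (Subgroup.mem_normalizer_iff.mp hxNm _).mp (e.symm ⟨y, hy⟩).2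
    have := hconj (e.symm ⟨y, hy⟩) ht
    rw [MulEquiv.apply_symm_apply] at this
    rw [SetLike.mem_coe, this]
    exact (e _).2
  rw [mem_NK]
  refine ⟨(F.le_of_mem hρ).2 _, hnorm, ?_⟩
  have : T''.normalizerMonoidHom ⟨ρ ⟨x, hxN⟩, hnorm⟩ =
      MulAut.congr e (T.normalizerMonoidHom ⟨x, hxNm⟩) := by
    ext y
    have ht : x * ((e.symm y : T) : Ω) * x⁻¹ ∈ T :=
      (Subgroup.mem_normalizer_iff.mp hxNm _).mp (e.symm y).2
    have h1 := hconj (e.symm y) ht
    rw [MulEquiv.apply_symm_apply] at h1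
    show ρ ⟨x, hxN⟩ * (y : Ω) * (ρ ⟨x, hxN⟩)⁻¹ = _
    rw [h1]
    rfl
  rw [this]
  exact congr_mem_tr e hxK

theorem card_NK_le_of_hom [Finite S] (F : FusionSystem S) {N T T'' : Subgroup Ω}
    {K : Subgroup (MulAut T)} {ρ : N →* Ω} (hρ : ρ ∈ F.Hom N) (hTN : T ≤ N)
    (hNK : NK S T K ≤ N) (e : T ≃* T'') (heρ : ∀ x : T, ((e x : T'') : Ω) = ρ ⟨x, hTN x.2⟩) :
    Nat.card (NK S T K) ≤ Nat.card (NK S T'' (tr e K)) := by
  let f : NK S T K → NK S T'' (tr e K) := fun x =>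
    ⟨ρ ⟨x, hNK x.2⟩, map_mem_NK F hρ hTN e heρ (hNK x.2) x.2⟩
  have hfinj : Function.Injective f := by
    intro a b hab
    have h1 : ρ ⟨a, hNK a.2⟩ = ρ ⟨b, hNK b.2⟩ := congrArg Subtype.val hab
    have h2 := F.injective_of_mem hρ h1
    apply Subtype.ext
    exact congrArg (fun z : N => (z : Ω)) h2
  haveI : Finite (NK S T'' (tr e K)) := finite_of_le (NK_le _ _)
  exact Nat.card_le_card_of_injective f hfinj

end Cfsg.Agent.Lib.Helper8_KNorm1
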