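import Mathlib
import Cfsg.Prelude.Def_FusionSystem
import Cfsg.Agent.Lib.Helper8_KNorm1

set_option autoImplicit false
set_option linter.style.haveILetI false
set_option linter.unusedVariables false
open Cfsg

/-!
# `K`-normalizer fusion systems: groups of automorphisms with prescribed restrictions
-/

namespace Cfsg.Agent.Lib.Helper8_KNorm2

open Cfsg.FusionSystem Cfsg.Agent.Lib.Helper8_Fusion
open Cfsg.Agent.Lib.Helper8_GroupFusion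
open Cfsg.Agent.Lib.Helper8_Saturated
open Cfsg.Agent.Lib.Helper8_Alperin
open Cfsg.Agent.Lib.Helper8_KNorm1

variable {Ω : Type*} [Group Ω] {S : Subgroup Ω}

/-- The automorphisms of `U` whose restriction to `P ≤ U` is (given by) an element of `D`. -/
def KR (U P : Subgroup Ω) (hPU : P ≤ U) (D : Subgroup (MulAut P)) : Subgroup (MulAut U) where
  carrier := {α | ∃ δ ∈ D, ∀ x : P, ((α ⟨x, hPU x.2⟩ : U) : Ω) = ((δ x : P) : Ω)}
  one_mem' := ⟨1, D.one_mem, fun x => rfl⟩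
  mul_mem' := by
    rintro α β ⟨δ₁, hδ₁, h1⟩ ⟨δ₂, hδ₂, h2⟩
    refine ⟨δ₁ * δ₂, D.mul_mem hδ₁ hδ₂, fun x => ?_⟩
    show ((α (β ⟨x, hPU x.2⟩) : U) : Ω) = ((δ₁ (δ₂ x) : P) : Ω)
    have : β ⟨x, hPU x.2⟩ = ⟨((δ₂ x : P) : Ω), hPU (δ₂ x).2⟩ := Subtype.ext (h2 x)
    rw [this]; exact h1 (δ₂ x)
  inv_mem' := by
    rintro α ⟨δ, hδ, h1⟩
    refine ⟨δ⁻¹, D.inv_mem hδ, fun x => ?_⟩
    have : α⁻¹ ⟨x, hPU x.2⟩ = ⟨((δ⁻¹ x : P) : Ω), hPU (δ⁻¹ x).2⟩ := by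
      apply α.injective
      rw [MulAut.apply_inv_self]
      apply Subtype.ext
      rw [h1 (δ⁻¹ x), MulAut.apply_inv_self]
    rw [this]

theorem mem_KR {U P : Subgroup Ω} {hPU : P ≤ U} {D : Subgroup (MulAut P)} {α : MulAut U} :
    α ∈ KR U P hPU D ↔ ∃ δ ∈ D, ∀ x : P, ((α ⟨x, hPU x.2⟩ : U) : Ω) = ((δ x : P) : Ω) := Iff.rfl

theorem KR_mono {U P : Subgroup Ω} (hPU : P ≤ U) {D D' : Subgroup (MulAut P)} (h : D ≤ D') :
    KR U P hPU D ≤ KR U P hPU D' := by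
  rintro α ⟨δ, hδ, h1⟩
  exact ⟨δ, h hδ, h1⟩

/-- Transport of `KR` along an isomorphism, one inclusion. -/
theorem tr_KR_le {U U' P P' : Subgroup Ω} (hPU : P ≤ U) (hP'U' : P' ≤ U') (e : U ≃* U')
    (eP : P ≃* P') (heP : ∀ x : P, ((e ⟨x, hPU x.2⟩ : U') : Ω) = ((eP x : P') : Ω))
    (D : Subgroup (MulAut P)) : tr e (KR U P hPU D) ≤ KR U' P' hP'U' (tr eP D) := by
  rintro _ ⟨α, ⟨δ, hδ, h1⟩, rfl⟩
  refine ⟨MulAut.congr eP δ, congr_mem_tr eP hδ, fun x' => ?_⟩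
  obtain ⟨x, rfl⟩ := eP.surjective x'
  have h2 : (⟨((eP x : P') : Ω), hP'U' (eP x).2⟩ : U') = e ⟨x, hPU x.2⟩ := Subtype.ext (heP x).symm
  rw [h2]
  show ((e (α (e.symm (e ⟨x, hPU x.2⟩))) : U') : Ω) = ((eP (δ (eP.symm (eP x))) : P') : Ω)
  rw [MulEquiv.symm_apply_apply, MulEquiv.symm_apply_apply]
  have h3 : α ⟨x, hPU x.2⟩ = ⟨((δ x : P) : Ω), hPU (δ x).2⟩ := Subtype.ext (h1 x)
  rw [h3, heP]

theorem tr_KR {U U' P P' : Subgroup Ω} (hPU : P ≤ U) (hP'U' : P' ≤ U') (e : U ≃* U')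
    (eP : P ≃* P') (heP : ∀ x : P, ((e ⟨x, hPU x.2⟩ : U') : Ω) = ((eP x : P') : Ω))
    (D : Subgroup (MulAut P)) : tr e (KR U P hPU D) = KR U' P' hP'U' (tr eP D) := by
  apply le_antisymm (tr_KR_le hPU hP'U' e eP heP D)
  have heP' : ∀ x' : P', ((e.symm ⟨x', hP'U' x'.2⟩ : U) : Ω) = ((eP.symm x' : P) : Ω) := by
    intro x'
    obtain ⟨x, rfl⟩ := eP.surjective x'
    have h2 : (⟨((eP x : P') : Ω), hP'U' (eP x).2⟩ : U') = e ⟨x, hPU x.2⟩ :=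
      Subtype.ext (heP x).symm
    rw [h2, MulEquiv.symm_apply_apply, MulEquiv.symm_apply_apply]
  have h1 := tr_KR_le hP'U' hPU e.symm eP.symm heP' (tr eP D)
  rw [tr_symm_tr] at h1
  have h2 := tr_mono e h1
  rw [tr_tr_symm] at h2
  exact h2

/-- The automorphisms of `U` restricting to `D` on `P` and to `K` on `Q`. -/
def KK (U P Q : Subgroup Ω) (hPU : P ≤ U) (hQU : Q ≤ U) (D : Subgroup (MulAut P))
    (K : Subgroup (MulAut Q)) : Subgroup (MulAut U) :=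
  KR U P hPU D ⊓ KR U Q hQU K

theorem tr_inf {T T' : Subgroup Ω} (e : T ≃* T') (A B : Subgroup (MulAut T)) :
    tr e (A ⊓ B) = tr e A ⊓ tr e B :=
  Subgroup.map_inf _ _ _ (MulAut.congr e).injective

theorem tr_KK {U U' P P' Q Q' : Subgroup Ω} (hPU : P ≤ U) (hQU : Q ≤ U) (hP'U' : P' ≤ U')
    (hQ'U' : Q' ≤ U') (e : U ≃* U') (eP : P ≃* P') (eQ : Q ≃* Q')
    (heP : ∀ x : P, ((e ⟨x, hPU x.2⟩ : U') : Ω) = ((eP x : P') : Ω))
    (heQ : ∀ x : Q, ((e ⟨x, hQU x.2⟩ : U') : Ω) = ((eQ x : Q') : Ω))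
    (D : Subgroup (MulAut P)) (K : Subgroup (MulAut Q)) :
    tr e (KK U P Q hPU hQU D K) = KK U' P' Q' hP'U' hQ'U' (tr eP D) (tr eQ K) := by
  unfold KK
  rw [tr_inf, tr_KR hPU hP'U' e eP heP, tr_KR hQU hQ'U' e eQ heQ]

theorem tr_top {T T' : Subgroup Ω} (e : T ≃* T') : tr e (⊤ : Subgroup (MulAut T)) = ⊤ := by
  unfold tr
  rw [← MonoidHom.range_eq_map]
  exact MonoidHom.range_eq_top.mpr (MulAut.congr e).surjective

theorem tr_self_of_mem {T : Subgroup Ω} {κ : MulAut T} {K : Subgroup (MulAut T)} (hκ : κ ∈ K) :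
    tr κ K = K := by
  rw [tr_aut]
  ext y
  rw [mem_cj]
  constructor
  · intro h
    have := K.mul_mem (K.mul_mem hκ h) (K.inv_mem hκ)
    have e : κ * (κ⁻¹ * y * κ) * κ⁻¹ = y := by group
    rwa [e] at this
  · intro h
    exact K.mul_mem (K.mul_mem (K.inv_mem hκ) h) hκ

/-! ### `N_S^K` for the groups `KR`, `KK` -/

theorem normalizer_sup_of_mem {P Q : Subgroup Ω} {x : Ω}
    (hP : x ∈ Subgroup.normalizer (P : Set Ω)) (hQ : x ∈ Subgroup.normalizer (Q : Set Ω)) :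
    x ∈ Subgroup.normalizer ((P ⊔ Q : Subgroup Ω) : Set Ω) := by
  apply mem_normalizer_of_cj_eq
  have h1 : P.map (MulAut.conj x).toMonoidHom = P := cj_eq_of_mem_normalizer hP
  have h2 : Q.map (MulAut.conj x).toMonoidHom = Q := cj_eq_of_mem_normalizer hQ
  show (P ⊔ Q).map (MulAut.conj x).toMonoidHom = P ⊔ Q
  rw [Subgroup.map_sup, h1, h2]

theorem mem_NK_KR {U P : Subgroup Ω} (hPU : P ≤ U) (D : Subgroup (MulAut P)) {x : Ω} :
    x ∈ NK S U (KR U P hPU D) ↔ x ∈ Subgroup.normalizer (U : Set Ω) ∧ x ∈ NK S P D := by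
  rw [mem_NK, mem_NK]
  constructor
  · rintro ⟨hxS, hxU, δ, hδ, h⟩
    have hconj : ∀ y : P, x * (y : Ω) * x⁻¹ = ((δ y : P) : Ω) := fun y => h y
    have hxP : x ∈ Subgroup.normalizer (P : Set Ω) := by
      rw [Subgroup.mem_normalizer_iff]
      intro y
      constructor
      · intro hy
        have h1 := hconj ⟨y, hy⟩
        have h2 : x * y * x⁻¹ = ((δ ⟨y, hy⟩ : P) : Ω) := h1
        rw [h2]; exact (δ ⟨y, hy⟩).2
      · intro hy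
        obtain ⟨z, hz⟩ := δ.surjective ⟨x * y * x⁻¹, hy⟩
        have h1 := hconj z
        rw [hz] at h1
        have h2 : x * (z : Ω) * x⁻¹ = x * y * x⁻¹ := h1
        have h3 : (z : Ω) = y := by
          have := congrArg (fun w => x⁻¹ * w * x) h2
          simpa [mul_assoc] using this
        rw [← h3]; exact z.2
    refine ⟨hxU, hxS, hxP, ?_⟩
    have : P.normalizerMonoidHom ⟨x, hxP⟩ = δ := by
      ext y
      exact hconj y
    rw [this]; exact hδ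
  · rintro ⟨hxU, hxS, hxP, hD⟩
    exact ⟨hxS, hxU, P.normalizerMonoidHom ⟨x, hxP⟩, hD, fun y => rfl⟩

theorem mem_NK_inf {T : Subgroup Ω} (A B : Subgroup (MulAut T)) {x : Ω} :
    x ∈ NK S T (A ⊓ B) ↔ x ∈ NK S T A ∧ x ∈ NK S T B := by
  rw [mem_NK, mem_NK, mem_NK]
  constructor
  · rintro ⟨h1, h2, h3⟩
    rw [Subgroup.mem_inf] at h3
    exact ⟨⟨h1, h2, h3.1⟩, ⟨h1, h2, h3.2⟩⟩
  · rintro ⟨⟨h1, h2, h3⟩, ⟨-, h2', h3'⟩⟩
    exact ⟨h1, h2, Subgroup.mem_inf.mpr ⟨h3, h3'⟩⟩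

theorem NK_KK {U P Q : Subgroup Ω} (hPU : P ≤ U) (hQU : Q ≤ U) (hU : U = P ⊔ Q)
    (D : Subgroup (MulAut P)) (K : Subgroup (MulAut Q)) :
    NK S U (KK U P Q hPU hQU D K) = NK S P D ⊓ NK S Q K := by
  ext x
  unfold KK
  rw [mem_NK_inf, mem_NK_KR, mem_NK_KR, Subgroup.mem_inf]
  constructor
  · rintro ⟨⟨-, h1⟩, ⟨-, h2⟩⟩
    exact ⟨h1, h2⟩
  · rintro ⟨h1, h2⟩
    have hxU : x ∈ Subgroup.normalizer (U : Set Ω) := by
      rw [hU]
      exact normalizer_sup_of_mem (NK_le_normalizer _ _ h1) (NK_le_normalizer _ _ h2)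
    exact ⟨⟨hxU, h1⟩, ⟨hxU, h2⟩⟩

theorem NK_mono {T : Subgroup Ω} {A B : Subgroup (MulAut T)} (h : A ≤ B) :
    NK S T A ≤ NK S T B := by
  intro x hx
  rw [mem_NK] at hx ⊢
  obtain ⟨h1, h2, h3⟩ := hx
  exact ⟨h1, h2, h h3⟩

end Cfsg.Agent.Lib.Helper8_KNorm2
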