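import Mathlib
import Cfsg.Prelude.Def_FusionSystem
import Cfsg.Agent.Lib.Helper8_KNorm2

set_option autoImplicit false
set_option linter.style.haveILetI false
set_option linter.unusedVariables false
open Cfsg

/-!
# `K`-normalizer fusion systems: the maps of `N_F^K(Q)` and the first reduction step
-/

namespace Cfsg.Agent.Lib.Helper8_KNorm3

open Cfsg.FusionSystem Cfsg.Agent.Lib.Helper8_Fusion
open Cfsg.Agent.Lib.Helper8_GroupFusion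
open Cfsg.Agent.Lib.Helper8_Saturated
open Cfsg.Agent.Lib.Helper8_Alperin
open Cfsg.Agent.Lib.Helper8_KNorm1
open Cfsg.Agent.Lib.Helper8_KNorm2

variable {Ω : Type*} [Group Ω] {S : Subgroup Ω}

/-- The maps of the `K`-normalizer system `N_F^K(Q)` with source `P`. -/
def kHom (F : FusionSystem S) (Q : Subgroup Ω) (K : Subgroup (MulAut Q)) (P : Subgroup Ω) :
    Set (P →* Ω) :=
  {φ | φ ∈ F.Hom P ∧ P ≤ NK S Q K ∧ (∀ x : P, φ x ∈ NK S Q K) ∧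
    ∃ ψ ∈ F.Hom (P ⊔ Q), (∀ x : P, ψ (Subgroup.inclusion le_sup_left x) = φ x) ∧
      ∃ κ ∈ K, ∀ q : Q, ψ (Subgroup.inclusion le_sup_right q) = ((κ q : Q) : Ω)}

theorem mem_kHom_of [Finite S] (F : FusionSystem S) {Q : Subgroup Ω} {K : Subgroup (MulAut Q)}
    {P U : Subgroup Ω} (hP : P ≤ NK S Q K) (hPU : P ≤ U) (hQU : Q ≤ U) {ψ : U →* Ω}
    (hψ : ψ ∈ F.Hom U) {κ : MulAut Q} (hκ : κ ∈ K)
    (hψQ : ∀ q : Q, ψ ⟨q, hQU q.2⟩ = ((κ q : Q) : Ω)) (φ : P →* Ω)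
    (hφ : ∀ x : P, φ x = ψ ⟨x, hPU x.2⟩) : φ ∈ kHom F Q K P := by
  have hφeq : φ = ψ.comp (Subgroup.inclusion hPU) := by
    ext x
    exact hφ x
  refine ⟨?_, hP, ?_, ψ.comp (Subgroup.inclusion (sup_le hPU hQU)),
    restrict_mem F (sup_le hPU hQU) hψ, ?_, κ, hκ, ?_⟩
  · rw [hφeq]; exact restrict_mem F hPU hψ
  · intro x
    rw [hφ]
    have := map_mem_NK F hψ hQU κ (fun q => (hψQ q).symm) (hPU x.2) (hP x.2)
    rwa [tr_self_of_mem hκ] at this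
  · intro x
    rw [hφ]; rfl
  · intro q
    rw [← hψQ]; rfl

theorem kHom_top (F : FusionSystem S) (Q P : Subgroup Ω) :
    kHom F Q ⊤ P = F.normalizerHom Q P := by
  ext φ
  unfold kHom normalizerHom
  rw [NK_top]
  constructor
  · rintro ⟨h1, h2, h3, ψ, hψ, hψP, κ, -, hψQ⟩
    refine ⟨h1, h2, h3, ψ, hψ, hψP, ?_⟩
    rw [map_subgroupOf_eq_iff le_sup_right]
    constructor
    · intro x hx
      have := hψQ ⟨x, hx⟩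
      have h4 : ψ ⟨x, (le_sup_right : Q ≤ P ⊔ Q) hx⟩ = ((κ ⟨x, hx⟩ : Q) : Ω) := this
      rw [h4]; exact (κ ⟨x, hx⟩).2
    · intro y hy
      refine ⟨((κ⁻¹ ⟨y, hy⟩ : Q) : Ω), (κ⁻¹ ⟨y, hy⟩).2, ?_⟩
      have := hψQ (κ⁻¹ ⟨y, hy⟩)
      have h4 : ψ ⟨((κ⁻¹ ⟨y, hy⟩ : Q) : Ω), (le_sup_right : Q ≤ P ⊔ Q) (κ⁻¹ ⟨y, hy⟩).2⟩ =
          ((κ (κ⁻¹ ⟨y, hy⟩) : Q) : Ω) := this
      rw [h4, MulAut.apply_inv_self]
  · rintro ⟨h1, h2, h3, ψ, hψ, hψP, hψQ⟩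
    refine ⟨h1, h2, h3, ψ, hψ, hψP,
      restrictEquiv ψ (F.injective_of_mem hψ) le_sup_right hψQ, Subgroup.mem_top _, ?_⟩
    intro q
    rfl

theorem kHom_bot (F : FusionSystem S) (Q P : Subgroup Ω) :
    kHom F Q ⊥ P = F.centralizerHom Q P := by
  ext φ
  unfold kHom centralizerHom
  rw [NK_bot]
  constructor
  · rintro ⟨h1, h2, h3, ψ, hψ, hψP, κ, hκ, hψQ⟩
    refine ⟨h1, h2, h3, ψ, hψ, hψP, ?_⟩
    intro q
    rw [hψQ q, Subgroup.mem_bot.mp hκ]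
    rfl
  · rintro ⟨h1, h2, h3, ψ, hψ, hψP, hψQ⟩
    exact ⟨h1, h2, h3, ψ, hψ, hψP, 1, Subgroup.one_mem _, fun q => hψQ q⟩

/-- The image of a homomorphism on `R ⊔ Q` is the join of the images of `R` and `Q`. -/
theorem range_sup_hom {R Q P Q' : Subgroup Ω} (ψ : ↥(R ⊔ Q) →* Ω)
    (hR : (R.subgroupOf (R ⊔ Q)).map ψ = P) (hQ : (Q.subgroupOf (R ⊔ Q)).map ψ = Q') :
    ψ.range = P ⊔ Q' := by
  rw [MonoidHom.range_eq_map, ← hR, ← hQ, ← Subgroup.map_sup,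
    ← Subgroup.subgroupOf_sup le_sup_left le_sup_right, Subgroup.subgroupOf_self]

theorem map_subgroupOf_eq_range {A X : Subgroup Ω} (hXA : X ≤ A) (ψ : A →* Ω) :
    (X.subgroupOf A).map ψ = (ψ.comp (Subgroup.inclusion hXA)).range := by
  rw [← map_subgroupOf_restrict hXA le_rfl ψ, Subgroup.subgroupOf_self, MonoidHom.range_eq_map]

/-- The image of `Q` under a map acting on `Q` as an automorphism is `Q`. -/
theorem map_subgroupOf_eq_of_aut {A Q : Subgroup Ω} (hQA : Q ≤ A) (ψ : A →* Ω) (κ : MulAut Q)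
    (hψQ : ∀ q : Q, ψ ⟨q, hQA q.2⟩ = ((κ q : Q) : Ω)) : (Q.subgroupOf A).map ψ = Q := by
  rw [map_subgroupOf_eq_iff hQA]
  constructor
  · intro x hx
    rw [hψQ ⟨x, hx⟩]; exact (κ ⟨x, hx⟩).2
  · intro y hy
    refine ⟨((κ⁻¹ ⟨y, hy⟩ : Q) : Ω), (κ⁻¹ ⟨y, hy⟩).2, ?_⟩
    rw [hψQ (κ⁻¹ ⟨y, hy⟩), MulAut.apply_inv_self]

/-- **Step 1.** Every `P ≤ N_S^K(Q)` is conjugate in `N_F^K(Q)` to some `P'` such that `P'Q` is
fully normalized with respect to the group of automorphisms preserving `P'` and acting on `Q`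
as elements of `K`. -/
theorem exists_kHom_fullyK [Finite S] {p : ℕ} [Fact p.Prime] (hS : IsPGroup p S)
    (F : FusionSystem S) (hF : F.IsSaturated p) {Q : Subgroup Ω} {K : Subgroup (MulAut Q)}
    (hQ : FullyK F Q K) {P : Subgroup Ω} (hP : P ≤ NK S Q K) :
    ∃ (P' U' : Subgroup Ω) (hP'U' : P' ≤ U') (hQU' : Q ≤ U') (e : P ≃* P'),
      P'.subtype.comp e.toMonoidHom ∈ kHom F Q K P ∧ U' = P' ⊔ Q ∧
        FullyK F U' (KK U' P' Q hP'U' hQU' ⊤ K) := by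
  classical
  have hQS : Q ≤ S := hQ.1
  have hPS : P ≤ S := hP.trans (NK_le _ _)
  obtain ⟨U, hUdef⟩ : ∃ U, U = P ⊔ Q := ⟨_, rfl⟩
  have hPU : P ≤ U := hUdef ▸ le_sup_left
  have hQU : Q ≤ U := hUdef ▸ le_sup_right
  have hUS : U ≤ S := hUdef ▸ sup_le hPS hQS
  obtain ⟨KP, hKP⟩ : ∃ KP, KP = KK U P Q hPU hQU ⊤ K := ⟨_, rfl⟩
  -- choose a conjugate of `U` maximizing the `K`-normalizer
  let V : Set ℕ := {n | ∃ (T' : Subgroup Ω) (e : U ≃* T'), e ∈ Iso F U T' ∧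
    n = Nat.card (NK S T' (tr e KP))}
  have hVne : V.Nonempty := ⟨_, U, MulEquiv.refl U, iso_refl F hUS, rfl⟩
  have hVbdd : BddAbove V := by
    refine ⟨Nat.card S, ?_⟩
    rintro _ ⟨T', e, -, rfl⟩
    exact Subgroup.card_le_of_le (NK_le _ _)
  obtain ⟨T', e, he, hcard⟩ := Nat.sSup_mem hVne hVbdd
  have hmax : ∀ (T'' : Subgroup Ω) (f : U ≃* T''), f ∈ Iso F U T'' →
      Nat.card (NK S T'' (tr f KP)) ≤ Nat.card (NK S T' (tr e KP)) := by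
    intro T'' f hf
    rw [← hcard]
    exact le_csSup hVbdd ⟨T'', f, hf, rfl⟩
  -- the images of `P` and `Q`
  obtain ⟨ψ₀, hψ₀def⟩ : ∃ ψ₀, ψ₀ = T'.subtype.comp e.toMonoidHom := ⟨_, rfl⟩
  have hψ₀ : ψ₀ ∈ F.Hom U := hψ₀def ▸ he
  have hψ₀inj := F.injective_of_mem hψ₀
  have hψ₀val : ∀ x : U, ψ₀ x = ((e x : T') : Ω) := fun x => by rw [hψ₀def]; rfl
  obtain ⟨P₁, hP₁⟩ : ∃ P₁, (P.subgroupOf U).map ψ₀ = P₁ := ⟨_, rfl⟩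
  obtain ⟨Q₁, hQ₁⟩ : ∃ Q₁, (Q.subgroupOf U).map ψ₀ = Q₁ := ⟨_, rfl⟩
  obtain ⟨eP, hePdef⟩ : ∃ eP, eP = restrictEquiv ψ₀ hψ₀inj hPU hP₁ := ⟨_, rfl⟩
  obtain ⟨eQ, heQdef⟩ : ∃ eQ, eQ = restrictEquiv ψ₀ hψ₀inj hQU hQ₁ := ⟨_, rfl⟩
  have hePval : ∀ x : P, ((eP x : P₁) : Ω) = ψ₀ ⟨x, hPU x.2⟩ := fun x => by rw [hePdef]; rfl
  have heQval : ∀ x : Q, ((eQ x : Q₁) : Ω) = ψ₀ ⟨x, hQU x.2⟩ := fun x => by rw [heQdef]; rfl
  have heQ : eQ ∈ Iso F Q Q₁ := heQdef ▸ restrictEquiv_mem F hψ₀ hQU hQ₁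
  have hP₁T' : P₁ ≤ T' := by
    rw [← hP₁]
    rintro _ ⟨x, -, rfl⟩
    rw [hψ₀val]; exact (e x).2
  have hQ₁T' : Q₁ ≤ T' := by
    rw [← hQ₁]
    rintro _ ⟨x, -, rfl⟩
    rw [hψ₀val]; exact (e x).2
  have hT' : T' = P₁ ⊔ Q₁ := by
    subst hUdef
    have h1 := range_sup_hom ψ₀ hP₁ hQ₁
    rw [hψ₀def, range_subtype_comp] at h1
    exact h1
  obtain ⟨K₁, hK₁⟩ : ∃ K₁, K₁ = tr eQ K := ⟨_, rfl⟩
  have htrKP : tr e KP = KK T' P₁ Q₁ hP₁T' hQ₁T' ⊤ K₁ := by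
    rw [hKP, tr_KK hPU hQU hP₁T' hQ₁T' e eP eQ
      (fun x => by rw [hePval, hψ₀val]) (fun x => by rw [heQval, hψ₀val]), tr_top, hK₁]
  -- use that `Q` is fully `K`-normalized
  obtain ⟨hQfc, hQsyl⟩ := fullyK_facts hS F hF hQ
  have hQr := receptive_of_fullyCentralized hS F hF hQfc
  have hsyl' : SylK F p Q (tr eQ.symm K₁) := by
    rw [hK₁, tr_symm_tr]; exact hQsyl
  obtain ⟨χ, hχ, ρ, hρ, hρQ⟩ := exists_extension hS F K₁ (iso_symm F heQ) hQr hsyl'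
  have hP₁NK : P₁ ≤ NK S Q₁ K₁ := by
    rw [← hP₁, hK₁]
    rintro _ ⟨x, hx, rfl⟩
    have hxP : (x : Ω) ∈ P := by simpa [Subgroup.mem_subgroupOf] using hx
    exact map_mem_NK F hψ₀ hQU eQ heQval x.2 (hP hxP)
  have hT'N₁ : T' ≤ NK S Q₁ K₁ ⊔ Q₁ := by
    rw [hT']
    exact sup_le (hP₁NK.trans le_sup_left) le_sup_right
  have hNKN₁ : NK S T' (tr e KP) ≤ NK S Q₁ K₁ ⊔ Q₁ := by
    rw [htrKP, NK_KK hP₁T' hQ₁T' hT']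
    exact inf_le_right.trans le_sup_left
  -- the second map
  obtain ⟨T'', hT''⟩ : ∃ T'', (T'.subgroupOf (NK S Q₁ K₁ ⊔ Q₁)).map ρ = T'' := ⟨_, rfl⟩
  obtain ⟨e', he'def⟩ : ∃ e', e' = restrictEquiv ρ (F.injective_of_mem hρ) hT'N₁ hT'' := ⟨_, rfl⟩
  have he'val : ∀ x : T', ((e' x : T'') : Ω) = ρ ⟨x, hT'N₁ x.2⟩ := fun x => by rw [he'def]; rfl
  have he' : e' ∈ Iso F T' T'' := he'def ▸ restrictEquiv_mem F hρ hT'N₁ hT''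
  have hcard2 := card_NK_le_of_hom F hρ hT'N₁ hNKN₁ e' he'val
  have he₂ : e.trans e' ∈ Iso F U T'' := iso_trans F he he'
  have hfull : FullyK F T'' (tr (e.trans e') KP) := by
    refine ⟨(iso_le F he₂).2, ?_⟩
    intro T₃ g hg
    rw [← tr_trans]
    refine (hmax T₃ _ (iso_trans F he₂ hg)).trans ?_
    rw [tr_trans]
    exact hcard2
  -- the action on `Q`
  obtain ⟨κ, hκdef⟩ : ∃ κ, κ = MulAut.congr eQ.symm χ := ⟨_, rfl⟩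
  have hκ : κ ∈ K := by
    have h1 := congr_mem_tr eQ.symm (Subgroup.mem_inf.mp hχ).2
    rw [hK₁, tr_symm_tr] at h1
    rw [hκdef]; exact h1
  obtain ⟨ψ₂, hψ₂def⟩ : ∃ ψ₂, ψ₂ = T''.subtype.comp (e.trans e').toMonoidHom := ⟨_, rfl⟩
  have hψ₂ : ψ₂ ∈ F.Hom U := hψ₂def ▸ he₂
  have hψ₂val : ∀ x : U, ψ₂ x = ρ ⟨((e x : T') : Ω), hT'N₁ (e x).2⟩ := fun x => by
    rw [hψ₂def]; exact he'val (e x)
  have hψ₂Q : ∀ q : Q, ψ₂ ⟨q, hQU q.2⟩ = ((κ q : Q) : Ω) := by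
    intro q
    rw [hψ₂val]
    have h1 := hρQ (eQ q)
    have h2 : (⟨((e ⟨q, hQU q.2⟩ : T') : Ω), hT'N₁ (e ⟨q, hQU q.2⟩).2⟩ : ↥(NK S Q₁ K₁ ⊔ Q₁)) =
        ⟨((eQ q : Q₁) : Ω), (le_sup_right : Q₁ ≤ NK S Q₁ K₁ ⊔ Q₁) (eQ q).2⟩ := by
      apply Subtype.ext
      show ((e ⟨q, hQU q.2⟩ : T') : Ω) = ((eQ q : Q₁) : Ω)
      rw [heQval, hψ₀val]
    rw [h2, h1, hκdef]
    simp [MulAut.congr]
  obtain ⟨P', hP'⟩ : ∃ P', (P.subgroupOf U).map ψ₂ = P' := ⟨_, rfl⟩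
  obtain ⟨e₂P, he₂Pdef⟩ : ∃ e₂P, e₂P = restrictEquiv ψ₂ (F.injective_of_mem hψ₂) hPU hP' :=
    ⟨_, rfl⟩
  have he₂Pval : ∀ x : P, ((e₂P x : P') : Ω) = ψ₂ ⟨x, hPU x.2⟩ := fun x => by
    rw [he₂Pdef]; rfl
  have hψ₂T'' : ∀ x : U, ψ₂ x = (((e.trans e') x : T'') : Ω) := fun x => by rw [hψ₂def]; rfl
  have hP'T'' : P' ≤ T'' := by
    rw [← hP']
    rintro _ ⟨x, -, rfl⟩
    rw [hψ₂T'']; exact ((e.trans e') x).2
  have hQimg : (Q.subgroupOf U).map ψ₂ = Q := map_subgroupOf_eq_of_aut hQU ψ₂ κ hψ₂Q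
  have hT''eq : T'' = P' ⊔ Q := by
    subst hUdef
    have h1 := range_sup_hom ψ₂ hP' hQimg
    rw [hψ₂def, range_subtype_comp] at h1
    exact h1
  have hQT'' : Q ≤ T'' := hT''eq ▸ le_sup_right
  have htr₂ : tr (e.trans e') KP = KK T'' P' Q hP'T'' hQT'' ⊤ K := by
    rw [hKP, tr_KK hPU hQU hP'T'' hQT'' (e.trans e') e₂P κ
      (fun x => by rw [he₂Pval, hψ₂T'']) (fun x => by rw [← hψ₂Q, hψ₂T'']), tr_top,
      tr_self_of_mem hκ]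
  refine ⟨P', T'', hP'T'', hQT'', e₂P, ?_, hT''eq, ?_⟩
  · exact mem_kHom_of F hP hPU hQU hψ₂ hκ hψ₂Q _ (fun x => he₂Pval x)
  · rw [← htr₂]; exact hfull

end Cfsg.Agent.Lib.Helper8_KNorm3
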